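import Cfsg.Prelude.Def_Spor_Suz
import Cfsg.Agent.SporRec.G24Rel
import Cfsg.Agent.SporRec.SuzPerm
import Cfsg.Statements.S1679
import Cfsg.Agent.SporRec.G24Match
import Cfsg.Agent.SporRec.G24Upper
set_option linter.all false

-- part: SporRec/G24Suz
section
set_option autoImplicit false

/-! The images of `a, …, f` in the presented Suzuki group satisfy the relators `R6`. -/

namespace Cfsg.Agent.SporRec.G24Suz

open Cfsg.Spor Cfsg.Agent.SporRec.G24Rel

/-- canonical map from the free group -/
abbrev q : FreeGroup Suz.Gen →* Suz := PresentedGroup.mk (coxRelators Suz.edges ∪ {r | r ∈ Suz.extra})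

/-- the words `a, …, f` -/
def gen : Fin 6 → Suz.Gen
  | 0 => .a
  | 1 => .b
  | 2 => .c
  | 3 => .d
  | 4 => .e
  | 5 => .f

/-- the images of `a, …, f` in the presented group -/
def xs (i : Fin 6) : Suz := q (FreeGroup.of (gen i))

theorem mem_nodes : ∀ i : Fin 6, gen i ∈ coxNodes Suz.edges := by decide

theorem cox_rel (i j : Fin 6) (m : ℕ) (h : coxLabel Suz.edges (gen i) (gen j) = m) :
    (xs i * xs j) ^ m = 1 := by
  have h1 : q ((FreeGroup.of (gen i) * FreeGroup.of (gen j)) ^ m) = 1 := by
    apply PresentedGroup.one_of_mem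
    exact Or.inl ⟨gen i, mem_nodes i, gen j, mem_nodes j, by rw [h]⟩
  rw [map_pow, map_mul] at h1
  exact h1

theorem extra_rel {r : FreeGroup Suz.Gen} (h : r ∈ Suz.extra) : q r = 1 :=
  PresentedGroup.one_of_mem (Or.inr h)

/-- repeat a word -/
def rep (n : ℕ) (w : List (Fin 6)) : List (Fin 6) := (List.replicate n w).flatten

theorem prod_rep {G : Type*} [Group G] (x : Fin 6 → G) (n : ℕ) (w : List (Fin 6)) :
    ((rep n w).map x).prod = ((w.map x).prod) ^ n := by
  induction n with
  | zero => simp [rep]
  | succ n ih =>
    have : rep (n + 1) w = w ++ rep n w := by simp [rep, List.replicate_succ]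
    rw [this, List.map_append, List.prod_append, ih, pow_succ']

theorem prod_two {G : Type*} [Group G] (x : Fin 6 → G) (i j : Fin 6) (n : ℕ) :
    ((rep n [i, j]).map x).prod = (x i * x j) ^ n := by
  rw [prod_rep]; simp

/-- all relators in structured form -/
theorem R6_eq : R6 = [rep 1 [0, 0], rep 1 [1, 1], rep 1 [2, 2], rep 1 [3, 3], rep 1 [4, 4], rep 1 [5, 5],
    rep 5 [0, 1], rep 2 [0, 2], rep 2 [0, 3], rep 2 [0, 4], rep 2 [0, 5],
    rep 3 [1, 2], rep 2 [1, 3], rep 2 [1, 4], rep 3 [1, 5],
    rep 8 [2, 3], rep 2 [2, 4], rep 2 [2, 5],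
    rep 3 [3, 4], rep 2 [3, 5], rep 2 [4, 5],
    [0] ++ rep 4 [2, 3], rep 5 [0, 1, 2, 5], rep 3 (rep 5 [1, 2, 3, 2, 3] ++ [4])] := by
  decide

theorem xs_rel : ∀ w ∈ R6, (w.map xs).prod = 1 := by
  intro w hw
  rw [R6_eq] at hw
  simp only [List.mem_cons, List.not_mem_nil, or_false] at hw
  have ha : xs 0 * xs 0 = 1 := by simpa using cox_rel 0 0 1 (by decide)
  rcases hw with h | h | h | h | h | h | h | h | h | h | h | h | h | h | h | h | h | h | h | h | h |
    h | h | h <;> subst h
  iterate 21 (rw [prod_two]; exact cox_rel _ _ _ (by decide))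
  · have h1 := extra_rel (r := Suz.a * ((Suz.c * Suz.d) ^ 4)⁻¹) (by simp [Suz.extra])
    have h2 : xs 0 * ((xs 2 * xs 3) ^ 4)⁻¹ = 1 := by
      rw [map_mul, map_inv, map_pow, map_mul] at h1
      exact h1
    have h3 : xs 0 = (xs 2 * xs 3) ^ 4 := mul_inv_eq_one.1 h2
    rw [List.map_append, List.prod_append, prod_two, ← h3]
    simpa using ha
  · have h1 := extra_rel (r := (Suz.a * Suz.b * Suz.c * Suz.f) ^ 5) (by simp [Suz.extra])
    rw [map_pow, map_mul, map_mul, map_mul] at h1
    rw [prod_rep]
    have e : ([0, 1, 2, 5].map xs).prod = xs 0 * xs 1 * xs 2 * xs 5 := by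
      simp [mul_assoc]
    rw [e]
    exact h1
  · have h1 := extra_rel (r := ((Suz.b * Suz.c * Suz.d * Suz.c * Suz.d) ^ 5 * Suz.e) ^ 3)
      (by simp [Suz.extra])
    rw [map_pow, map_mul, map_pow, map_mul, map_mul, map_mul, map_mul] at h1
    rw [prod_rep, List.map_append, List.prod_append, prod_rep]
    have e : ([1, 2, 3, 2, 3].map xs).prod = xs 1 * xs 2 * xs 3 * xs 2 * xs 3 := by
      simp [mul_assoc]
    have e' : ([4].map xs).prod = xs 4 := by simp
    rw [e, e']
    exact h1

/-- the subgroup of the statement is generated by the `xs i` -/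
theorem map_closure_eq :
    ((Subgroup.closure ({Cfsg.Spor.Suz.a, Cfsg.Spor.Suz.b, Cfsg.Spor.Suz.c, Cfsg.Spor.Suz.d,
      Cfsg.Spor.Suz.e, Cfsg.Spor.Suz.f} : Set (FreeGroup Cfsg.Spor.Suz.Gen))).map
      (PresentedGroup.mk (Cfsg.Spor.coxRelators Cfsg.Spor.Suz.edges ∪
        {r | r ∈ Cfsg.Spor.Suz.extra}))) = Subgroup.closure (Set.range xs) := by
  rw [MonoidHom.map_closure]
  congr 1
  ext y
  constructor
  · rintro ⟨w, hw, rfl⟩
    simp only [Set.mem_insert_iff, Set.mem_singleton_iff] at hw
    rcases hw with h | h | h | h | h | h <;> subst h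
    · exact ⟨0, rfl⟩
    · exact ⟨1, rfl⟩
    · exact ⟨2, rfl⟩
    · exact ⟨3, rfl⟩
    · exact ⟨4, rfl⟩
    · exact ⟨5, rfl⟩
  · rintro ⟨i, rfl⟩
    refine ⟨FreeGroup.of (gen i), ?_, rfl⟩
    fin_cases i
    · exact Or.inl rfl
    · exact Or.inr (Or.inl rfl)
    · exact Or.inr (Or.inr (Or.inl rfl))
    · exact Or.inr (Or.inr (Or.inr (Or.inl rfl)))
    · exact Or.inr (Or.inr (Or.inr (Or.inr (Or.inl rfl))))
    · exact Or.inr (Or.inr (Or.inr (Or.inr (Or.inr rfl))))

end Cfsg.Agent.SporRec.G24Suz
end

-- part: SporRec/G24Lower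
section
/-!
A lower bound for the order of the image of the subgroup generated by `a, ..., f` of the presented
Suzuki sporadic group in its permutation representation on 1782 points: a stabiliser chain with
orbit lengths 1365, 1024, 180.
-/

set_option autoImplicit false

namespace Cfsg.Agent.SporRec.G24Lower

open Cfsg.Spor Cfsg.Agent.SporRec.SuzPerm

/-- Orbit walk: `N` steps, each given by a packed pair (known point, generator index), must each reach
a new point. The reached points are collected in the bit mask `seen`. -/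
def run (W : ℕ → ℕ → ℕ) (N : ℕ) : ℕ → ℕ → Bool :=
  Nat.rec (motive := fun _ => ℕ → ℕ → Bool) (fun _ _ => true)
    (fun _ ih data seen =>
      Bool.and (Nat.testBit seen (Nat.land data 4095))
        (Bool.and (Bool.not (Nat.testBit seen (W (Nat.land (Nat.shiftRight data 12) 15) (Nat.land data 4095))))
          (ih (Nat.shiftRight data 16)
            (Nat.lor seen (Nat.shiftLeft 1 (W (Nat.land (Nat.shiftRight data 12) 15) (Nat.land data 4095))))))) N

theorem run_succ (W : ℕ → ℕ → ℕ) (N data seen : ℕ) :
    run W (N + 1) data seen =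
      (Nat.testBit seen (Nat.land data 4095) &&
        ((!Nat.testBit seen (W (Nat.land (Nat.shiftRight data 12) 15) (Nat.land data 4095))) &&
          run W N (Nat.shiftRight data 16)
            (Nat.lor seen (Nat.shiftLeft 1 (W (Nat.land (Nat.shiftRight data 12) 15) (Nat.land data 4095)))))) :=
  rfl

theorem run_card (W : ℕ → ℕ → ℕ) (S : Set ℕ) (hS : ∀ g, ∀ p ∈ S, W g p ∈ S) :
    ∀ (N data seen : ℕ) (A : Finset ℕ), (∀ i, Nat.testBit seen i = true ↔ i ∈ A) → (∀ i ∈ A, i ∈ S) →
      run W N data seen = true → ∃ A' : Finset ℕ, A'.card = A.card + N ∧ ∀ i ∈ A', i ∈ S := by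
  intro N
  induction N with
  | zero =>
    intro data seen A _ hA _
    exact ⟨A, rfl, hA⟩
  | succ N ih =>
    intro data seen A hseen hA h
    rw [run_succ, Bool.and_eq_true, Bool.and_eq_true] at h
    obtain ⟨h1, h2, h3⟩ := h
    set p := Nat.land data 4095 with hp
    set q := W (Nat.land (Nat.shiftRight data 12) 15) p with hq
    have hpA : p ∈ A := (hseen p).1 h1
    have hqA : q ∉ A := by
      intro hqA
      rw [(hseen q).2 hqA] at h2
      simp at h2
    have hseen2 : ∀ i, Nat.testBit (Nat.lor seen (Nat.shiftLeft 1 q)) i = true ↔ i ∈ insert q A := by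
      intro i
      have : Nat.testBit (Nat.lor seen (Nat.shiftLeft 1 q)) i =
          (Nat.testBit seen i || decide (q = i)) := by
        change Nat.testBit (seen ||| (1 <<< q)) i = _
        rw [Nat.testBit_or, Nat.one_shiftLeft, Nat.testBit_two_pow]
      rw [this, Bool.or_eq_true, hseen, decide_eq_true_iff, Finset.mem_insert]
      constructor
      · rintro (h | h)
        · exact Or.inr h
        · exact Or.inl h.symm
      · rintro (h | h)
        · exact Or.inr h.symm
        · exact Or.inl h
    have hA2 : ∀ i ∈ insert q A, i ∈ S := by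
      intro i hi
      rw [Finset.mem_insert] at hi
      rcases hi with rfl | hi
      · exact hS _ _ (hA _ hpA)
      · exact hA _ hi
    obtain ⟨A', hA', hA'S⟩ := ih _ _ (insert q A) hseen2 hA2 h3
    have hc := Finset.card_insert_of_notMem hqA
    exact ⟨A', by omega, hA'S⟩

/-- One step of the stabiliser chain. -/
theorem card_ge {n : ℕ} (K : Subgroup (Equiv.Perm (Fin n))) (β : Fin n) (ws : ℕ → Equiv.Perm (Fin n))
    (hws : ∀ g, ws g ∈ K) (W : ℕ → ℕ → ℕ) (hW : ∀ g, ∀ p : Fin n, W g p = (ws g p : ℕ)) (N data : ℕ)
    (h : run W N data (Nat.shiftLeft 1 (β : ℕ)) = true) :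
    (N + 1) * Nat.card ↥(K ⊓ MulAction.stabilizer (Equiv.Perm (Fin n)) β) ≤ Nat.card K := by
  classical
  set S : Set ℕ := {i | ∃ p : Fin n, p ∈ MulAction.orbit K β ∧ (p : ℕ) = i} with hSdef
  obtain ⟨A', hA', hA'S⟩ := run_card W S (by
      rintro g _ ⟨p, hp, rfl⟩
      refine ⟨ws g p, ?_, (hW g p).symm⟩
      obtain ⟨k, rfl⟩ := hp
      exact ⟨(⟨ws g, hws g⟩ : K) * k, by simp only [mul_smul]; rfl⟩) N data _ {(β : ℕ)} (by
      intro i
      change Nat.testBit (1 <<< (β : ℕ)) i = true ↔ _
      rw [Nat.one_shiftLeft, Nat.testBit_two_pow, decide_eq_true_iff, Finset.mem_singleton]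
      exact eq_comm) (by
      intro i hi
      rw [Finset.mem_singleton] at hi
      exact ⟨β, MulAction.mem_orbit_self β, hi.symm⟩) h
  rw [Finset.card_singleton] at hA'
  have horb : N + 1 ≤ Nat.card (MulAction.orbit K β) := by
    have hfin : (MulAction.orbit K β).Finite := Set.toFinite _
    rw [Nat.card_coe_set_eq, ← Set.ncard_image_of_injective _ (Fin.val_injective (n := n))]
    calc N + 1 = A'.card := by omega
      _ = (A' : Set ℕ).ncard := (Set.ncard_coe_finset A').symm
      _ ≤ _ := by
          apply Set.ncard_le_ncard _ (hfin.image _)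
          intro i hi
          obtain ⟨p, hp, rfl⟩ := hA'S i hi
          exact ⟨p, hp, rfl⟩
  have hstab : Nat.card ↥(K ⊓ MulAction.stabilizer (Equiv.Perm (Fin n)) β) =
      Nat.card (MulAction.stabilizer K β) := by
    have : MulAction.stabilizer K β =
        (MulAction.stabilizer (Equiv.Perm (Fin n)) β).subgroupOf K := by
      ext k
      rfl
    rw [this]
    exact Nat.card_congr
      ((Subgroup.subgroupOfEquivOfLe (inf_le_left : K ⊓ MulAction.stabilizer _ β ≤ K)).symm.toEquiv.trans
        (Equiv.subtypeEquivRight fun k => by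
          rw [Subgroup.mem_subgroupOf, Subgroup.mem_subgroupOf, Subgroup.mem_inf]
          exact ⟨fun h => h.2, fun h => ⟨k.2, h⟩⟩))
  rw [hstab]
  have hmul : Nat.card (MulAction.orbit K β) * Nat.card (MulAction.stabilizer K β) = Nat.card K := by
    have := Nat.card_congr (MulAction.orbitProdStabilizerEquivGroup K β)
    rw [Nat.card_prod] at this
    exact this
  rw [← hmul]
  exact Nat.mul_le_mul_right _ horb

/-- The image of the subgroup generated by `a, ..., f`. -/
noncomputable def Γ : Subgroup (Equiv.Perm (Fin 1782)) :=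
  ((Subgroup.closure ({Cfsg.Spor.Suz.a, Cfsg.Spor.Suz.b, Cfsg.Spor.Suz.c, Cfsg.Spor.Suz.d, Cfsg.Spor.Suz.e, Cfsg.Spor.Suz.f} : Set (FreeGroup Cfsg.Spor.Suz.Gen))).map (PresentedGroup.mk (Cfsg.Spor.coxRelators Cfsg.Spor.Suz.edges ∪ {r | r ∈ Cfsg.Spor.Suz.extra}))).map φ

theorem gen_mem (x : Suz.Gen) (hx : x ≠ .g) : gen x ∈ Γ := by
  rw [← φ_of]
  apply Subgroup.mem_map_of_mem
  apply Subgroup.mem_map_of_mem
  apply Subgroup.subset_closure
  cases x
  · exact Or.inl rfl
  · exact Or.inr (Or.inl rfl)
  · exact Or.inr (Or.inr (Or.inl rfl))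
  · exact Or.inr (Or.inr (Or.inr (Or.inl rfl)))
  · exact Or.inr (Or.inr (Or.inr (Or.inr (Or.inl rfl))))
  · exact Or.inr (Or.inr (Or.inr (Or.inr (Or.inr rfl))))
  · exact absurd rfl hx

theorem prod_mem (w : List Suz.Gen) (hw : ∀ x ∈ w, x ≠ .g) : (w.map gen).prod ∈ Γ := by
  apply Subgroup.list_prod_mem
  intro y hy
  rw [List.mem_map] at hy
  obtain ⟨x, hx, rfl⟩ := hy
  exact gen_mem x (hw x hx)

/-- Select a word by its index. -/
def sel (w : List Suz.Gen) (f : ℕ → List Suz.Gen) (g : ℕ) : List Suz.Gen :=
  Nat.rec (motive := fun _ => List Suz.Gen) w (fun k _ => f k) g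

theorem sel_mem {P : List Suz.Gen → Prop} {w : List Suz.Gen} {f : ℕ → List Suz.Gen} (h1 : P w)
    (h2 : ∀ g, P (f g)) (g : ℕ) : P (sel w f g) := by
  cases g with
  | zero => exact h1
  | succ g => exact h2 g

/-- The words of level 1. -/
def w1 : ℕ → List Suz.Gen := sel [.a] (sel [.b] (sel [.c] (sel [.d] (sel [.e] (fun _ => [.f])))))

/-- The orbit walk of level 1. -/
def data1 : ℕ := 0x56b816e416c146c3348726d12639365d16d834fe24b935e526cc368d34a426ad26b436b156b026b036af55f635f62691369035ea05eb269a35b016982694369324dd25c1368a368b2615357a057a06731671366f166f1665566d466d266d366c566a466a266a36690669155b566235951595255a232c032c164d364e353724e25539353915393648164426432642233135f01640239c163d55fb35fb05fb55f835f515f525f4363c163c2471362c15f354e424e404e4361e261c161c261a3626162655d746202620361f261d35ef15ef061316015600260015871586537d541d45df25df35c635dc25da54a824a854aa541445d435d425d155cf35cf15cf5498249815cd53d925c205c21558258a35891589358b248b148b05c045bc15bb54de44a954ac55a725a225a0259d159c24552599559745902590354f154f358f258d058d4405158134742580057f146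7357925742577057714b41576457035702488555235520552556d356d156d256c15674563356115612560255f255c155c0499240b040b132b15560555155424355550154e554d454d254d554c354c054c554a354a154a454555443544054455433543154324371542254133ff23fe23fd03fd122a2514452d352b252a0524351d2518051823da14b8150953dc23dc5510350f550c350c150c450b332a249355042504050424ff14ff248e3491149152a522a532a114fd24fb04fb14f9127654f734f524f4349b149b549a249a049a34972496149614ef24ee22e9241f34da34d724d624d3034b24d104ce34c424c214c224bd04bd14cd54cb34cb04cb54c704c744c324c334c114c134bc24bb24ba04ba34b624b514b524b304b314b214b154ae54ad54a244a224a254a134a114a1549f548a148a54892489148454282428042834822481148124800480147f547e147d447c5470347004704413433e533f333f033f12d3447824783476147654752475047524721472346f246e146e046c246b246a046a1469146853fc342a24291429242b042b14664464546334630463145e545d245d045d34592458145824562453445133401340344c244b144b24480448144704451444544334432440543f1304043d143b543924395438343223f22430142f542d04253423242214222421042114205313141c0419241804181417141653495415031c440f240f340d140d540c240c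040c3409240814082407040744063404240314032402040224010401133512cd522953fa13f953f813ee53f753f303f353f033f013f053ef23ef43e933e813e853e723e703e723e513e522c502c512c4517703d7439a23d103d133ce23cd13cd13c723bf03bf23bd03bd13bc139b534c23a613a613b853b643b553b153b033b013b0231753ad43ad23ad531a331a33ab23a733a513a553a423a403a433a0239f139f239d039d3399239813982396039613951394539351a941a9539153904390438f238f338e3337233613362334033433872386138622e802e812db11fd33772376237203722371536e336c136823650365136323540354135f535e135d4211535c335a135a3357135733532352135223500350134e234a034a1348534753461344534343432343433c433b533a333a033a333913394330332e132e532d232d032d2328132823270327132653253325532433231323432223223234123421f03320231f131f231e031e231b031b13193318131653155314331432e322e202e2131253114310330f130f230913092306030613050303130252ff32fe223522fa02fa12f852f712f552f442f422f452f332f312f302f152ef12ec52eb52ea32ea02ea22e702e712e652e552e422e412e022df02df12de52dd02dd02da12d812d712d652d552d422d402d442d212d132cf22ce12ce22cc02cc12cb51f432ca22c902c912c812c752c622c651ec31ec52c302c35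2c112c152c022c012bc52bb22bb02bb32b622b512b522b402b412b35226222611e551e431e412a402a332a0229f129f229b029b229712972293029312911290528f52754275227d027d128c528b528a428a128a1288528742872287528632865285328522852280327c227b127b2279027912772273027312725271527042703270526d426d226d326c026c223622300230122f522e122e2269026911fc52685157125d225902591257125552543254525342530253024f124d524c524b424b124b124952484248524732472247024722463244224322410241123f523e123c523b423b223b523a323a123a42332233323212322231322c222b122b22270227122552242224022422233222217d117d222102211220121e521d221d521c321c121c21f911f8521b021b321a221922150215121352121210520f420f520e120e220b020b120952084208520732070207220512035202020251fe31fe11fe11fb51fa21fa01fa01f711f651f511f511f351f221f251f131f111f131ef21ee21ed01ed11eb51ea11ea21e911e851e751e631e601e611e351e221e201e221df11df21dd01dd11dc51db31db5147214721ca11ca21c601c611c421c001c011be51bd51bc41bc31bc11ba51b941b921b951b831b821b801b821af11af21ad01ad11ab51aa11a851a741a721a751a631a611a631832181217e017e117a5179017911a251a121a101a101951193519251914191119111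8f518e418e218e518d318d118d318b21890189118751864186518531850185317c217b117b21780178117651751175317410fd21730173117251715170317001701153516f116f216b016b11695168416851673167016701641162516131611161115d515c115c5158215851551155115251512151515031500150214d014d114c514b014b114951483148114821451145214201421140513f213f013f212e012e112c512b1129512841282128512731271127312421201120211f011f111d511c411c511b311b011b3102210120fe00fe10fb50f910f951181118110e510d410d210d510c310c010c21080108110651053105110510fc20fa00fa10f850f700f710a620f500f510f450f330f310f310da50f220f200ee10ec50eb30eb10eb00e810e650e520e510e150e020e050dd30dd50dc00dc50d830d810d800d510d450d310d310d150d020d030a920a820ce00ce10cc50cb10cb20c110bf50be40be50bd30bd00bd30bb20ba10ba20b900b910b750b630b610b620a700a710a450a220a250b500b550ae30ae10ae20ad00ad10ab50aa20aa10a500a310a150a010a0209f009f109e509d209d108d509c309c0099109750962096109450933093109150903090508f408f108e508b208b008a108950882088108750863086206d106c2085108450830083107c507b307b107b207a007a107850772077106b50693069107650712071106f506e306e006a10685067206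71066506530655064406410625061306150604060505f405f105f205d505b305b1059505830585057405710435042105450531053104e504d204d104b504a304a5040404020495046304650454045103f503e303e503d403d203d503c403c303c003c503a30395038403850365035403510351029502840282033103150302030102e502d302d502c402c102c302b502a402a002a502650254025302510255023402340211021501f401f201f50163016201d101c101b501a301a5019401900194017101750144014201450133013101340122012501130110011100f500e500d400d100d400c200c500b300b000b300a100a100950084008200830071007200650043004200310035002200200021001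

theorem w1_ok (g : ℕ) : ∀ x ∈ w1 g, x ≠ Suz.Gen.g := by
  revert g
  unfold w1
  refine sel_mem (P := fun w => ∀ x ∈ w, x ≠ Suz.Gen.g) (by decide) ?_
  refine sel_mem (P := fun w => ∀ x ∈ w, x ≠ Suz.Gen.g) (by decide) ?_
  refine sel_mem (P := fun w => ∀ x ∈ w, x ≠ Suz.Gen.g) (by decide) ?_
  refine sel_mem (P := fun w => ∀ x ∈ w, x ≠ Suz.Gen.g) (by decide) ?_
  refine sel_mem (P := fun w => ∀ x ∈ w, x ≠ Suz.Gen.g) (by decide) ?_
  intro g
  decide

theorem run1 : run (fun g p => tr (w1 g) p) 1364 data1 (Nat.shiftLeft 1 1) = true := by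
  decide +kernel

/-- The words of level 2. -/
def w2 : ℕ → List Suz.Gen := sel [.e] (sel [.b, .a, .b, .f, .a, .b] (fun _ => [.b, .c, .d, .f, .b, .c, .d, .b, .a, .b, .c, .a, .b]))

/-- The orbit walk of level 2. -/
def data2 : ℕ := 0x12bb120f13f213492318163c152b155b1430154122ff151d24b414b4218511a124d7028814b703b210d01595216f15af13ef12da142603ae159a26cc11a601a6247f22a4126f1085134522c6213f113f2626267e0446258223fb26e516e5161c21fd20a1247d13f813011394017b23020302003d126e026e1593139f155401b823e4127413ff139d114920d41347034713ce1543054313f125f915f910d913d212f4252d1455154b21571157134d02852413143f12f11397240722c82629011b10fa00fa037a26ce156e037714fb127003c82152139a039a246823c711a9155910c110f413a1252a152a26521652134b25b715b711eb21dc11dc01dc06be262813d803d820f312f602f6156c252406b8205823fa2670167024fc21f812e002e010fd2339247e26ea21ec11ec01ec25c115c1265d05fc06ba233305ce2328132816e706e7114b21e501e5255715c31032003226d516d5144204422571157116a824242556266f166f2027222d24cb201620691007049514ff2390139022a602a62172027d1684231421cb11cb1276143623ab13ab20671067109d12a024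441444259f159f223d123d15d600fc14dc12cb23b313b303b32335214711470147269506b0209f009f26cb03d920d810d8157f26622535143d043d240c140c257c05fe142120a422c3233726e616e625f515f514880488161610352393139303932594159421e8141c041c1164208722d312d323fc254f23d113d103d1232b14a604a62696162022c712c702c726b1261b201505ed25da15da155f156a222f122f257d057d24bc22271227149c154d054d149f06c11066006624a0017a20da10da00da241914190672142b24821485267f167f068f2408260c060c0466266e146e046e14892411262121e611e601e626af057815750575200b100b201f163e167c067c1334140f222e122e247404742576122b042916710671167a06c60041032126241624049d10041040105b201310132037248f24f714f704f7255a155a16822148114804ce260311f701f71180205710572323132303232558047212db251415140514222924321432041226e9058916b206b2149622cd12cd02cd25cb15cb1338261f161f25bc15ee2024202823fe13fe06b920cf10cf267b167b22e912e924991499049906b325841584166115602179117925c805c8261422d421781178265f165f166a066a25d315d326c516c506c5205c105c005c1697247c147c014c20d110d100d122df12df158701e42467256f156f254e154e2512051205902568256125d405d40686206c2012101213e722c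e02ce147315d905d9263d25101510157a057a1312031226091609131b031b2586158611f122d012d002d02490203b05de24d1246c146c232f132f05cf25c515c505c51569056925b015832176164a064a2369246f146f21e011e001e025e715e7240405e9268d2036200f100f13d714f5164c25e405e42311131103112544131f031f142722d6240e140e040e24c422f012f0260f160f15e3231a131a21ed11ed203810380038200c100c155e167d250b150b20d310d300d3133b24f61478208610860086257b157b1534166b22b312b302b323132471147113f003f0253105310694248b148b25dc15dc12051486255d155d250815080508114d26a906a9151520422008100824001400040022cc15cd16790679250f26491649268c168c068c130f221b121b021b2664166411ee12210221232d132d1150240a140a25e1201425d815d805d82259131e23321332149e049e25d115d115e205e226ad23af13af25e015e005e0240d040d26ca16ca23bf10220022242314232225122523b013b003b0237d24a814a82476147621e311e301e325701570205e005e2378137814a51477047725d515d5141b041b260225d215d2121e021e2253125313290329168724a114a102cf26901690101c001c2425142510f715110511237b25c915c924d304d322bc12bc02bc26801680143a043a16ac24c114c1134012c902c9101820231023257e157e057e2376022225790579129b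24941494232a132a25f615f605f6248c148c132c032c25df2286128625dd15dd05dd1231023114090409261e161e023423b513b5251c151c100e000e2581158121751175250c150c050c225e26a716a72320132024f404f421461146014625b815b82026002624db14db15bf05bf229f151e147a047a26471647161d241a141a041a260726bc16bc247914790293231613160316236d136d132e032e16882601160124d814d822ef12ef23a003a026111611061126691669148e048e136c225d125d24aa14aa04aa25fb15fb24c714c72170117001702342134214840484256d156d24a314a323a513a503a514a704a7203a103a003a245d145d133d033d21c611c6252c152c1470047025d015d01463235c135c035c24a426c916c925d715d723c313c303c3221c121c021c236b136b122c022c26851685233a133a262d162d243e143e23c513c503c52660166006602487148713310331238e138e224f124f260e160e060e143804382674167425ef15ef21ca11ca01ca217413a703a7126c2195119524ab14ab04ab215f25a715a72202120223d313d303d324ac14ac04ac25e515e5149304932360136023681368233f133f033f1596059625cc15cc24b614b621c011c001c0214f249114910491202b102b212e112e012e217f117f12ea02ea26ae16ae2353135322971297029721b2239913990399203910391017214a114a10ff20311031227c127c027c201a101a20211021214e114e10d200d2101b001b100d20d510d510d600d62003208a108a008a2006100620021002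

theorem w2_ok (g : ℕ) : ∀ x ∈ w2 g, x ≠ Suz.Gen.g := by
  revert g
  unfold w2
  refine sel_mem (P := fun w => ∀ x ∈ w, x ≠ Suz.Gen.g) (by decide) ?_
  refine sel_mem (P := fun w => ∀ x ∈ w, x ≠ Suz.Gen.g) (by decide) ?_
  intro g
  decide

theorem w2_fix1 (g : ℕ) : tr (w2 g) 1 = 1 := by
  revert g
  unfold w2
  refine sel_mem (P := fun w => tr w 1 = 1) (by decide +kernel) ?_
  refine sel_mem (P := fun w => tr w 1 = 1) (by decide +kernel) ?_
  intro g
  decide +kernel

theorem run2 : run (fun g p => tr (w2 g) p) 1023 data2 (Nat.shiftLeft 1 2) = true := by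
  decide +kernel

/-- The words of level 3. -/
def w3 : ℕ → List Suz.Gen := sel [.d] (sel [.e] (fun _ => [.c, .b, .a, .d, .c, .b, .a, .b, .c, .d, .c, .b, .f, .d, .c, .b, .a]))

/-- The orbit walk of level 3. -/
def data3 : ℕ := 0x2170231522c6221c21db231121e4221d22290229221b12e02328032820d310d3253622d4231f242922ce25cb24102324256622ca222e2588058820f910f92574241504152481257b057b246e0313248b2408256f256b25db2224241221ef262c25fa2496217925852422042225630563235c248f048f268324720472258005801403248614860486232524061406040624da04da247a047a23ff25600560149a22d92414041425c415c424941494049425350535155c25e215e205e225c5231422d212d202d2258225f315f305f3247704772436240f040f26811681228625d315d305d32568255f155f055f26760676255a2428042823321332240c140c040c231a249f149f049f248225841584058426750675259424260426232f132f257115710571267d25f405f4260c160c23d913d903d92151269725df05df25e415e423d813d803d8217125eb15eb05eb20d800d825721572057220f300f320cf10cf20a010a000a0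

theorem w3_ok (g : ℕ) : ∀ x ∈ w3 g, x ≠ Suz.Gen.g := by
  revert g
  unfold w3
  refine sel_mem (P := fun w => ∀ x ∈ w, x ≠ Suz.Gen.g) (by decide) ?_
  refine sel_mem (P := fun w => ∀ x ∈ w, x ≠ Suz.Gen.g) (by decide) ?_
  intro g
  decide

theorem w3_fix1 (g : ℕ) : tr (w3 g) 1 = 1 := by
  revert g
  unfold w3
  refine sel_mem (P := fun w => tr w 1 = 1) (by decide +kernel) ?_
  refine sel_mem (P := fun w => tr w 1 = 1) (by decide +kernel) ?_
  intro g
  decide +kernel

theorem w3_fix2 (g : ℕ) : tr (w3 g) 2 = 2 := by
  revert g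
  unfold w3
  refine sel_mem (P := fun w => tr w 2 = 2) (by decide +kernel) ?_
  refine sel_mem (P := fun w => tr w 2 = 2) (by decide +kernel) ?_
  intro g
  decide +kernel

theorem run3 : run (fun g p => tr (w3 g) p) 179 data3 (Nat.shiftLeft 1 160) = true := by
  decide +kernel

theorem card_Γ : 251596800 ≤ Nat.card Γ := by
  have hmem1 : ∀ g, ((w1 g).map gen).prod ∈ Γ := fun g => prod_mem _ (w1_ok g)
  have hmem2 : ∀ g, ((w2 g).map gen).prod ∈ Γ ⊓ MulAction.stabilizer (Equiv.Perm (Fin 1782)) (1 : Fin 1782) := by
    intro g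
    refine ⟨prod_mem _ (w2_ok g), ?_⟩
    apply Fin.ext
    change ((((w2 g).map gen).prod (1 : Fin 1782) : Fin 1782) : ℕ) = _
    rw [prod_val]
    exact w2_fix1 g
  have hmem3 : ∀ g, ((w3 g).map gen).prod ∈ (Γ ⊓ MulAction.stabilizer (Equiv.Perm (Fin 1782)) (1 : Fin 1782)) ⊓
      MulAction.stabilizer (Equiv.Perm (Fin 1782)) (2 : Fin 1782) := by
    intro g
    refine ⟨⟨prod_mem _ (w3_ok g), ?_⟩, ?_⟩
    · apply Fin.ext
      change ((((w3 g).map gen).prod (1 : Fin 1782) : Fin 1782) : ℕ) = _
      rw [prod_val]
      exact w3_fix1 g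
    · apply Fin.ext
      change ((((w3 g).map gen).prod (2 : Fin 1782) : Fin 1782) : ℕ) = _
      rw [prod_val]
      exact w3_fix2 g
  have h1 := card_ge Γ (1 : Fin 1782) (fun g => ((w1 g).map gen).prod) hmem1
    (fun g p => tr (w1 g) p) (fun g p => (prod_val (w1 g) p).symm) 1364 data1 run1
  have h2 := card_ge _ (2 : Fin 1782) (fun g => ((w2 g).map gen).prod) hmem2
    (fun g p => tr (w2 g) p) (fun g p => (prod_val (w2 g) p).symm) 1023 data2 run2
  have h3 := card_ge _ (160 : Fin 1782) (fun g => ((w3 g).map gen).prod) hmem3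
    (fun g p => tr (w3 g) p) (fun g p => (prod_val (w3 g) p).symm) 179 data3 run3
  have h4 : 1 ≤ Nat.card ↥(((Γ ⊓ MulAction.stabilizer (Equiv.Perm (Fin 1782)) (1 : Fin 1782)) ⊓
      MulAction.stabilizer (Equiv.Perm (Fin 1782)) (2 : Fin 1782)) ⊓
      MulAction.stabilizer (Equiv.Perm (Fin 1782)) (160 : Fin 1782)) := Nat.card_pos
  omega

/-- The image of `⟨a, ..., f⟩` in the permutation representation on 1782 points has order at least
that of `G₂(4)`. -/
theorem exists_hom : ∃ φ : Cfsg.Spor.Suz →* Equiv.Perm (Fin 1782), 251596800 ≤ Nat.card (((Subgroup.closure ({Cfsg.Spor.Suz.a, Cfsg.Spor.Suz.b, Cfsg.Spor.Suz.c, Cfsg.Spor.Suz.d, Cfsg.Spor.Suz.e, Cfsg.Spor.Suz.f} : Set (FreeGroup Cfsg.Spor.Suz.Gen))).map (PresentedGroup.mk (Cfsg.Spor.coxRelators Cfsg.Spor.Suz.edges ∪ {r | r ∈ Cfsg.Spor.Suz.extra}))).map φ) :=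
  ⟨φ, card_Γ⟩

end Cfsg.Agent.SporRec.G24Lower
end

-- part: S1679
section
set_option autoImplicit false
open Cfsg

namespace Cfsg.Agent.S1679

open Cfsg.Agent.SporRec Cfsg.Agent.SporRec.GF4 Cfsg.Agent.SporRec.G24Code Cfsg.Agent.SporRec.G24Mat
  Cfsg.Agent.SporRec.G24Match Cfsg.Agent.SporRec.G24Suz Cfsg.Agent.SporRec.G24Rel

/-- a surjection from a finite group onto a group at least as large is an isomorphism -/
theorem equiv_of_surj {D H : Type*} [Group D] [Group H] [Finite D] (f : D →* H)
    (hf : Function.Surjective f) (hc : Nat.card D ≤ Nat.card H) : Nonempty (D ≃* H) := by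
  have : Finite H := Finite.of_surjective f hf
  have h1 : Nat.card H ≤ Nat.card D := Nat.card_le_card_of_surjective f hf
  have hb : Function.Bijective f := (Nat.bijective_iff_surjective_and_card f).2 ⟨hf, le_antisymm hc h1⟩
  exact ⟨MulEquiv.ofBijective f hb⟩

theorem prod_pair {G₁ G₂ : Type*} [Group G₁] [Group G₂] (x : Fin 6 → G₁) (y : Fin 6 → G₂)
    (w : List (Fin 6)) :
    (w.map fun i => (x i, y i)).prod = ((w.map x).prod, (w.map y).prod) := by
  induction w with
  | nil => rfl
  | cons i w ih => rw [List.map_cons, List.prod_cons, ih]; rfl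

/-- abstract form: two groups with generators satisfying the relators and large enough are isomorphic -/
theorem iso_of_gens {G₁ G₂ : Type*} [Group G₁] [Group G₂] (x : Fin 6 → G₁) (y : Fin 6 → G₂)
    (hx : ∀ w ∈ R6, (w.map x).prod = 1) (hy : ∀ w ∈ R6, (w.map y).prod = 1)
    (H : Subgroup G₁) (K : Subgroup G₂) (hH : Subgroup.closure (Set.range x) = H)
    (hK : Subgroup.closure (Set.range y) = K)
    (cH : Finite H → 251596800 ≤ Nat.card H) (cK : 251596800 ≤ Nat.card K) : Nonempty (H ≃* K) := by
  obtain ⟨hfin, hcard⟩ := G24Upper.card_closure_le (fun i => (x i, y i)) (fun w hw => by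
    rw [prod_pair, hx w hw, hy w hw]; rfl)
  set D := Subgroup.closure (Set.range fun i => (x i, y i)) with hD
  have e1 : D.map (MonoidHom.fst G₁ G₂) = H := by
    rw [hD, MonoidHom.map_closure, ← hH, ← Set.range_comp]; rfl
  have e2 : D.map (MonoidHom.snd G₁ G₂) = K := by
    rw [hD, MonoidHom.map_closure, ← hK, ← Set.range_comp]; rfl
  have fH : Finite H := by
    rw [← e1]
    exact Finite.of_surjective _ (MonoidHom.subgroupMap_surjective (MonoidHom.fst G₁ G₂) D)
  have i1 : Nonempty (D ≃* D.map (MonoidHom.fst G₁ G₂)) :=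
    equiv_of_surj _ (MonoidHom.subgroupMap_surjective (MonoidHom.fst G₁ G₂) D)
      (by rw [e1]; exact hcard.trans (cH fH))
  have i2 : Nonempty (D ≃* D.map (MonoidHom.snd G₁ G₂)) :=
    equiv_of_surj _ (MonoidHom.subgroupMap_surjective (MonoidHom.snd G₁ G₂) D)
      (by rw [e2]; exact hcard.trans cK)
  rw [e1] at i1
  rw [e2] at i2
  exact ⟨i1.some.symm.trans i2.some⟩

/-- In the presented sporadic Suzuki group (generators a, …, g), the subgroup generated by the images of a, …, f is isomorphic to the adjoint Chevalley group of type G₂ over a field with four elements. -/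
theorem result : ∃ (K : Type) (_ : Field K) (_ : Fintype K), Fintype.card K = 4 ∧ Nonempty ((((Subgroup.closure ({Cfsg.Spor.Suz.a, Cfsg.Spor.Suz.b, Cfsg.Spor.Suz.c, Cfsg.Spor.Suz.d, Cfsg.Spor.Suz.e, Cfsg.Spor.Suz.f} : Set (FreeGroup Cfsg.Spor.Suz.Gen))).map (PresentedGroup.mk (Cfsg.Spor.coxRelators Cfsg.Spor.Suz.edges ∪ {r | r ∈ Cfsg.Spor.Suz.extra})))) ≃* Cfsg.Lie.chevG2.group K) := by
  refine ⟨F4, inferInstance, inferInstance, F4.card_F4, ?_⟩
  obtain ⟨φ, hφ⟩ := G24Lower.exists_hom
  refine iso_of_gens xs A xs_rel A_rel _ Gp map_closure_eq.symm closure_A ?_ card_Gp_ge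
  intro hfin
  refine hφ.trans ?_
  exact Nat.card_le_card_of_surjective _ (MonoidHom.subgroupMap_surjective φ _)

end Cfsg.Agent.S1679
end
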