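import Cfsg.Agent.SporadicStructure.Co0Matrix
import Cfsg.Agent.LieClassical.HermGen
import Cfsg.Agent.SporadicA.FieldFour
import Cfsg.Agent.Leech.Basic
import Cfsg.Agent.LeechMat.Core
import Cfsg.Agent.SporadicStructure.PsuMatch
import Cfsg.Statements.S1577
import Cfsg.Agent.S0280
import Cfsg.Agent.S0394
import Cfsg.Agent.S0397
import Cfsg.Agent.S0400
import Cfsg.Agent.S1573
import Cfsg.Agent.S1574
set_option linter.all false

-- part: SporadicStructure/U62Data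
section
/-!
Explicit data: four automorphisms of the rank-24 lattice fixing `(4, -4, 0, …)` and `(0, 4, -4, …)` (coordinates
`∞, 0, 1`), and twenty lattice vectors.
-/

set_option autoImplicit false

namespace Cfsg.Agent.SporadicStructure.U62Data

open Cfsg Cfsg.Agent.SporadicStructure.Co0Matrix

/-- rows of the automorphism `t12` -/
def RA : List (List ℤ) := [
  [8, 0, 0, 0, 0, 0, 0, 0, 0, 0, 0, 0, 0, 0, 0, 0, 0, 0, 0, 0, 0, 0, 0, 0],
  [0, 8, 0, 0, 0, 0, 0, 0, 0, 0, 0, 0, 0, 0, 0, 0, 0, 0, 0, 0, 0, 0, 0, 0],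
  [0, 0, -8, 0, 0, 0, 0, 0, 0, 0, 0, 0, 0, 0, 0, 0, 0, 0, 0, 0, 0, 0, 0, 0],
  [0, 0, 0, -8, 0, 0, 0, 0, 0, 0, 0, 0, 0, 0, 0, 0, 0, 0, 0, 0, 0, 0, 0, 0],
  [0, 0, 0, 0, 8, 0, 0, 0, 0, 0, 0, 0, 0, 0, 0, 0, 0, 0, 0, 0, 0, 0, 0, 0],
  [0, 0, 0, 0, 0, -8, 0, 0, 0, 0, 0, 0, 0, 0, 0, 0, 0, 0, 0, 0, 0, 0, 0, 0],
  [0, 0, 0, 0, 0, 0, -8, 0, 0, 0, 0, 0, 0, 0, 0, 0, 0, 0, 0, 0, 0, 0, 0, 0],
  [0, 0, 0, 0, 0, 0, 0, -8, 0, 0, 0, 0, 0, 0, 0, 0, 0, 0, 0, 0, 0, 0, 0, 0],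
  [0, 0, 0, 0, 0, 0, 0, 0, -8, 0, 0, 0, 0, 0, 0, 0, 0, 0, 0, 0, 0, 0, 0, 0],
  [0, 0, 0, 0, 0, 0, 0, 0, 0, -8, 0, 0, 0, 0, 0, 0, 0, 0, 0, 0, 0, 0, 0, 0],
  [0, 0, 0, 0, 0, 0, 0, 0, 0, 0, 8, 0, 0, 0, 0, 0, 0, 0, 0, 0, 0, 0, 0, 0],
  [0, 0, 0, 0, 0, 0, 0, 0, 0, 0, 0, -8, 0, 0, 0, 0, 0, 0, 0, 0, 0, 0, 0, 0],
  [0, 0, 0, 0, 0, 0, 0, 0, 0, 0, 0, 0, -8, 0, 0, 0, 0, 0, 0, 0, 0, 0, 0, 0],
  [0, 0, 0, 0, 0, 0, 0, 0, 0, 0, 0, 0, 0, -8, 0, 0, 0, 0, 0, 0, 0, 0, 0, 0],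
  [0, 0, 0, 0, 0, 0, 0, 0, 0, 0, 0, 0, 0, 0, 8, 0, 0, 0, 0, 0, 0, 0, 0, 0],
  [0, 0, 0, 0, 0, 0, 0, 0, 0, 0, 0, 0, 0, 0, 0, -8, 0, 0, 0, 0, 0, 0, 0, 0],
  [0, 0, 0, 0, 0, 0, 0, 0, 0, 0, 0, 0, 0, 0, 0, 0, -8, 0, 0, 0, 0, 0, 0, 0],
  [0, 0, 0, 0, 0, 0, 0, 0, 0, 0, 0, 0, 0, 0, 0, 0, 0, -8, 0, 0, 0, 0, 0, 0],
  [0, 0, 0, 0, 0, 0, 0, 0, 0, 0, 0, 0, 0, 0, 0, 0, 0, 0, 8, 0, 0, 0, 0, 0],
  [0, 0, 0, 0, 0, 0, 0, 0, 0, 0, 0, 0, 0, 0, 0, 0, 0, 0, 0, -8, 0, 0, 0, 0],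
  [0, 0, 0, 0, 0, 0, 0, 0, 0, 0, 0, 0, 0, 0, 0, 0, 0, 0, 0, 0, -8, 0, 0, 0],
  [0, 0, 0, 0, 0, 0, 0, 0, 0, 0, 0, 0, 0, 0, 0, 0, 0, 0, 0, 0, 0, 8, 0, 0],
  [0, 0, 0, 0, 0, 0, 0, 0, 0, 0, 0, 0, 0, 0, 0, 0, 0, 0, 0, 0, 0, 0, -8, 0],
  [0, 0, 0, 0, 0, 0, 0, 0, 0, 0, 0, 0, 0, 0, 0, 0, 0, 0, 0, 0, 0, 0, 0, 8]]

/-- columns of the automorphism `t12` -/
def CA : List (List ℤ) := [
  [8, 0, 0, 0, 0, 0, 0, 0, 0, 0, 0, 0, 0, 0, 0, 0, 0, 0, 0, 0, 0, 0, 0, 0],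
  [0, 8, 0, 0, 0, 0, 0, 0, 0, 0, 0, 0, 0, 0, 0, 0, 0, 0, 0, 0, 0, 0, 0, 0],
  [0, 0, -8, 0, 0, 0, 0, 0, 0, 0, 0, 0, 0, 0, 0, 0, 0, 0, 0, 0, 0, 0, 0, 0],
  [0, 0, 0, -8, 0, 0, 0, 0, 0, 0, 0, 0, 0, 0, 0, 0, 0, 0, 0, 0, 0, 0, 0, 0],
  [0, 0, 0, 0, 8, 0, 0, 0, 0, 0, 0, 0, 0, 0, 0, 0, 0, 0, 0, 0, 0, 0, 0, 0],
  [0, 0, 0, 0, 0, -8, 0, 0, 0, 0, 0, 0, 0, 0, 0, 0, 0, 0, 0, 0, 0, 0, 0, 0],
  [0, 0, 0, 0, 0, 0, -8, 0, 0, 0, 0, 0, 0, 0, 0, 0, 0, 0, 0, 0, 0, 0, 0, 0],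
  [0, 0, 0, 0, 0, 0, 0, -8, 0, 0, 0, 0, 0, 0, 0, 0, 0, 0, 0, 0, 0, 0, 0, 0],
  [0, 0, 0, 0, 0, 0, 0, 0, -8, 0, 0, 0, 0, 0, 0, 0, 0, 0, 0, 0, 0, 0, 0, 0],
  [0, 0, 0, 0, 0, 0, 0, 0, 0, -8, 0, 0, 0, 0, 0, 0, 0, 0, 0, 0, 0, 0, 0, 0],
  [0, 0, 0, 0, 0, 0, 0, 0, 0, 0, 8, 0, 0, 0, 0, 0, 0, 0, 0, 0, 0, 0, 0, 0],
  [0, 0, 0, 0, 0, 0, 0, 0, 0, 0, 0, -8, 0, 0, 0, 0, 0, 0, 0, 0, 0, 0, 0, 0],
  [0, 0, 0, 0, 0, 0, 0, 0, 0, 0, 0, 0, -8, 0, 0, 0, 0, 0, 0, 0, 0, 0, 0, 0],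
  [0, 0, 0, 0, 0, 0, 0, 0, 0, 0, 0, 0, 0, -8, 0, 0, 0, 0, 0, 0, 0, 0, 0, 0],
  [0, 0, 0, 0, 0, 0, 0, 0, 0, 0, 0, 0, 0, 0, 8, 0, 0, 0, 0, 0, 0, 0, 0, 0],
  [0, 0, 0, 0, 0, 0, 0, 0, 0, 0, 0, 0, 0, 0, 0, -8, 0, 0, 0, 0, 0, 0, 0, 0],
  [0, 0, 0, 0, 0, 0, 0, 0, 0, 0, 0, 0, 0, 0, 0, 0, -8, 0, 0, 0, 0, 0, 0, 0],
  [0, 0, 0, 0, 0, 0, 0, 0, 0, 0, 0, 0, 0, 0, 0, 0, 0, -8, 0, 0, 0, 0, 0, 0],
  [0, 0, 0, 0, 0, 0, 0, 0, 0, 0, 0, 0, 0, 0, 0, 0, 0, 0, 8, 0, 0, 0, 0, 0],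
  [0, 0, 0, 0, 0, 0, 0, 0, 0, 0, 0, 0, 0, 0, 0, 0, 0, 0, 0, -8, 0, 0, 0, 0],
  [0, 0, 0, 0, 0, 0, 0, 0, 0, 0, 0, 0, 0, 0, 0, 0, 0, 0, 0, 0, -8, 0, 0, 0],
  [0, 0, 0, 0, 0, 0, 0, 0, 0, 0, 0, 0, 0, 0, 0, 0, 0, 0, 0, 0, 0, 8, 0, 0],
  [0, 0, 0, 0, 0, 0, 0, 0, 0, 0, 0, 0, 0, 0, 0, 0, 0, 0, 0, 0, 0, 0, -8, 0],
  [0, 0, 0, 0, 0, 0, 0, 0, 0, 0, 0, 0, 0, 0, 0, 0, 0, 0, 0, 0, 0, 0, 0, 8]]

theorem okA : Ok RA CA := Ok.of_bool (by decide +kernel)

/-- rows of the automorphism `c6` -/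
def RB : List (List ℤ) := [
  [6, -2, 0, 0, -2, 0, 2, 0, 0, -2, 0, 0, 2, 0, 0, 0, 0, -2, 0, 0, 0, 0, 0, -2],
  [-2, 6, 0, 0, -2, 0, 2, 0, 0, -2, 0, 0, 2, 0, 0, 0, 0, -2, 0, 0, 0, 0, 0, -2],
  [0, 0, -2, 2, 0, -2, 0, -2, 2, 0, -2, 2, 0, 2, 2, 2, -2, 0, 2, 2, 2, -2, 2, 0],
  [0, 0, -2, -2, 0, 2, 0, -2, 2, 0, 2, 2, 0, 2, 2, -2, 2, 0, 2, -2, 2, 2, -2, 0],
  [-2, -2, 0, 0, -2, 0, 2, 0, 0, 6, 0, 0, 2, 0, 0, 0, 0, -2, 0, 0, 0, 0, 0, -2],
  [0, 0, 2, -2, 0, -2, 0, -2, -2, 0, -2, -2, 0, 2, 2, -2, -2, 0, -2, 2, 2, 2, -2, 0],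
  [2, 2, 0, 0, -6, 0, -2, 0, 0, 2, 0, 0, -2, 0, 0, 0, 0, 2, 0, 0, 0, 0, 0, 2],
  [0, 0, 2, 2, 0, 2, 0, 2, -2, 0, -2, 2, 0, -2, 2, -2, 2, 0, 2, 2, 2, -2, -2, 0],
  [0, 0, -2, 2, 0, -2, 0, 2, -2, 0, 2, -2, 0, 2, 2, 2, 2, 0, 2, 2, -2, 2, -2, 0],
  [-2, -2, 0, 0, -2, 0, -6, 0, 0, -2, 0, 0, 2, 0, 0, 0, 0, -2, 0, 0, 0, 0, 0, -2],
  [0, 0, -2, 2, 0, 2, 0, -2, 2, 0, -2, -2, 0, 2, -2, -2, 2, 0, -2, 2, -2, -2, -2, 0],
  [0, 0, -2, 2, 0, -2, 0, 2, 2, 0, 2, -2, 0, -2, 2, -2, -2, 0, -2, -2, 2, -2, -2, 0],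
  [2, 2, 0, 0, 2, 0, -2, 0, 0, 2, 0, 0, -2, 0, 0, 0, 0, -6, 0, 0, 0, 0, 0, 2],
  [0, 0, 2, 2, 0, 2, 0, -2, 2, 0, 2, -2, 0, -2, 2, -2, -2, 0, 2, 2, -2, 2, 2, 0],
  [0, 0, 2, 2, 0, 2, 0, -2, -2, 0, 2, -2, 0, 2, 2, 2, 2, 0, -2, -2, 2, -2, 2, 0],
  [0, 0, -2, -2, 0, 2, 0, -2, -2, 0, 2, 2, 0, -2, 2, 2, -2, 0, -2, 2, -2, -2, -2, 0],
  [0, 0, -2, 2, 0, 2, 0, -2, -2, 0, -2, -2, 0, -2, -2, 2, -2, 0, 2, -2, 2, 2, -2, 0],
  [-2, -2, 0, 0, -2, 0, 2, 0, 0, -2, 0, 0, -6, 0, 0, 0, 0, -2, 0, 0, 0, 0, 0, -2],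
  [0, 0, 2, -2, 0, 2, 0, 2, 2, 0, 2, -2, 0, 2, -2, 2, -2, 0, 2, 2, 2, -2, -2, 0],
  [0, 0, -2, 2, 0, 2, 0, 2, -2, 0, 2, 2, 0, 2, -2, -2, -2, 0, -2, 2, 2, 2, 2, 0],
  [0, 0, -2, -2, 0, -2, 0, -2, -2, 0, 2, -2, 0, -2, -2, -2, 2, 0, 2, 2, 2, -2, 2, 0],
  [0, 0, -2, -2, 0, 2, 0, 2, -2, 0, -2, -2, 0, 2, 2, -2, -2, 0, 2, -2, -2, -2, 2, 0],
  [0, 0, 2, 2, 0, -2, 0, -2, -2, 0, 2, 2, 0, 2, -2, -2, -2, 0, 2, -2, -2, -2, -2, 0],
  [-2, -2, 0, 0, -2, 0, 2, 0, 0, -2, 0, 0, 2, 0, 0, 0, 0, -2, 0, 0, 0, 0, 0, 6]]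

/-- columns of the automorphism `c6` -/
def CB : List (List ℤ) := [
  [6, -2, 0, 0, -2, 0, 2, 0, 0, -2, 0, 0, 2, 0, 0, 0, 0, -2, 0, 0, 0, 0, 0, -2],
  [-2, 6, 0, 0, -2, 0, 2, 0, 0, -2, 0, 0, 2, 0, 0, 0, 0, -2, 0, 0, 0, 0, 0, -2],
  [0, 0, -2, -2, 0, 2, 0, 2, -2, 0, -2, -2, 0, 2, 2, -2, -2, 0, 2, -2, -2, -2, 2, 0],
  [0, 0, 2, -2, 0, -2, 0, 2, 2, 0, 2, 2, 0, 2, 2, -2, 2, 0, -2, 2, -2, -2, 2, 0],
  [-2, -2, 0, 0, -2, 0, -6, 0, 0, -2, 0, 0, 2, 0, 0, 0, 0, -2, 0, 0, 0, 0, 0, -2],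
  [0, 0, -2, 2, 0, -2, 0, 2, -2, 0, 2, -2, 0, 2, 2, 2, 2, 0, 2, 2, -2, 2, -2, 0],
  [2, 2, 0, 0, 2, 0, -2, 0, 0, -6, 0, 0, -2, 0, 0, 0, 0, 2, 0, 0, 0, 0, 0, 2],
  [0, 0, -2, -2, 0, -2, 0, 2, 2, 0, -2, 2, 0, -2, -2, -2, -2, 0, 2, 2, -2, 2, -2, 0],
  [0, 0, 2, 2, 0, -2, 0, -2, -2, 0, 2, 2, 0, 2, -2, -2, -2, 0, 2, -2, -2, -2, -2, 0],
  [-2, -2, 0, 0, 6, 0, 2, 0, 0, -2, 0, 0, 2, 0, 0, 0, 0, -2, 0, 0, 0, 0, 0, -2],
  [0, 0, -2, 2, 0, -2, 0, -2, 2, 0, -2, 2, 0, 2, 2, 2, -2, 0, 2, 2, 2, -2, 2, 0],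
  [0, 0, 2, 2, 0, -2, 0, 2, -2, 0, -2, -2, 0, -2, -2, 2, -2, 0, -2, 2, -2, -2, 2, 0],
  [2, 2, 0, 0, 2, 0, -2, 0, 0, 2, 0, 0, -2, 0, 0, 0, 0, -6, 0, 0, 0, 0, 0, 2],
  [0, 0, 2, 2, 0, 2, 0, -2, 2, 0, 2, -2, 0, -2, 2, -2, -2, 0, 2, 2, -2, 2, 2, 0],
  [0, 0, 2, 2, 0, 2, 0, 2, 2, 0, -2, 2, 0, 2, 2, 2, -2, 0, -2, -2, -2, 2, -2, 0],
  [0, 0, 2, -2, 0, -2, 0, -2, 2, 0, -2, -2, 0, -2, 2, 2, 2, 0, 2, -2, -2, -2, -2, 0],
  [0, 0, -2, 2, 0, -2, 0, 2, 2, 0, 2, -2, 0, -2, 2, -2, -2, 0, -2, -2, 2, -2, -2, 0],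
  [-2, -2, 0, 0, -2, 0, 2, 0, 0, -2, 0, 0, -6, 0, 0, 0, 0, -2, 0, 0, 0, 0, 0, -2],
  [0, 0, 2, 2, 0, -2, 0, 2, 2, 0, -2, -2, 0, 2, -2, -2, 2, 0, 2, -2, 2, 2, 2, 0],
  [0, 0, 2, -2, 0, 2, 0, 2, 2, 0, 2, -2, 0, 2, -2, 2, -2, 0, 2, 2, 2, -2, -2, 0],
  [0, 0, 2, 2, 0, 2, 0, 2, -2, 0, -2, 2, 0, -2, 2, -2, 2, 0, 2, 2, 2, -2, -2, 0],
  [0, 0, -2, 2, 0, 2, 0, -2, 2, 0, -2, -2, 0, 2, -2, -2, 2, 0, -2, 2, -2, -2, -2, 0],
  [0, 0, 2, -2, 0, -2, 0, -2, -2, 0, -2, -2, 0, 2, 2, -2, -2, 0, -2, 2, 2, 2, -2, 0],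
  [-2, -2, 0, 0, -2, 0, 2, 0, 0, -2, 0, 0, 2, 0, 0, 0, 0, -2, 0, 0, 0, 0, 0, 6]]

theorem okB : Ok RB CB := Ok.of_bool (by decide +kernel)

/-- rows of the automorphism `D` -/
def RD : List (List ℤ) := [
  [4, -4, -4, 0, 0, 0, 0, 0, 0, 0, 0, 0, 0, 0, 0, 0, 0, 0, 0, 0, 0, 0, 0, -4],
  [-4, 4, -4, 0, 0, 0, 0, 0, 0, 0, 0, 0, 0, 0, 0, 0, 0, 0, 0, 0, 0, 0, 0, -4],
  [4, 4, -4, 0, 0, 0, 0, 0, 0, 0, 0, 0, 0, 0, 0, 0, 0, 0, 0, 0, 0, 0, 0, 4],
  [0, 0, 0, 4, 0, -4, 0, 0, 0, 0, 0, 0, 0, 0, 4, 0, 0, 4, 0, 0, 0, 0, 0, 0],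
  [0, 0, 0, 0, -4, 0, 0, 0, 0, 0, 0, 0, 0, -4, 0, 0, 4, 0, 0, 0, 0, 0, -4, 0],
  [0, 0, 0, -4, 0, 4, 0, 0, 0, 0, 0, 0, 0, 0, 4, 0, 0, 4, 0, 0, 0, 0, 0, 0],
  [0, 0, 0, 0, 0, 0, 4, -4, 0, 0, 0, 0, 0, 0, 0, 0, 0, 0, 0, -4, 0, -4, 0, 0],
  [0, 0, 0, 0, 0, 0, -4, 4, 0, 0, 0, 0, 0, 0, 0, 0, 0, 0, 0, -4, 0, -4, 0, 0],
  [0, 0, 0, 0, 0, 0, 0, 0, 4, 0, 0, 4, 4, 0, 0, 0, 0, 0, -4, 0, 0, 0, 0, 0],
  [0, 0, 0, 0, 0, 0, 0, 0, 0, 4, 4, 0, 0, 0, 0, -4, 0, 0, 0, 0, 4, 0, 0, 0],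
  [0, 0, 0, 0, 0, 0, 0, 0, 0, -4, -4, 0, 0, 0, 0, -4, 0, 0, 0, 0, 4, 0, 0, 0],
  [0, 0, 0, 0, 0, 0, 0, 0, 4, 0, 0, 4, -4, 0, 0, 0, 0, 0, 4, 0, 0, 0, 0, 0],
  [0, 0, 0, 0, 0, 0, 0, 0, 4, 0, 0, -4, 4, 0, 0, 0, 0, 0, 4, 0, 0, 0, 0, 0],
  [0, 0, 0, 0, 4, 0, 0, 0, 0, 0, 0, 0, 0, 4, 0, 0, 4, 0, 0, 0, 0, 0, -4, 0],
  [0, 0, 0, -4, 0, -4, 0, 0, 0, 0, 0, 0, 0, 0, -4, 0, 0, 4, 0, 0, 0, 0, 0, 0],
  [0, 0, 0, 0, 0, 0, 0, 0, 0, -4, 4, 0, 0, 0, 0, 4, 0, 0, 0, 0, 4, 0, 0, 0],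
  [0, 0, 0, 0, -4, 0, 0, 0, 0, 0, 0, 0, 0, 4, 0, 0, 4, 0, 0, 0, 0, 0, 4, 0],
  [0, 0, 0, 4, 0, 4, 0, 0, 0, 0, 0, 0, 0, 0, -4, 0, 0, 4, 0, 0, 0, 0, 0, 0],
  [0, 0, 0, 0, 0, 0, 0, 0, 4, 0, 0, -4, -4, 0, 0, 0, 0, 0, -4, 0, 0, 0, 0, 0],
  [0, 0, 0, 0, 0, 0, -4, -4, 0, 0, 0, 0, 0, 0, 0, 0, 0, 0, 0, 4, 0, -4, 0, 0],
  [0, 0, 0, 0, 0, 0, 0, 0, 0, 4, -4, 0, 0, 0, 0, 4, 0, 0, 0, 0, 4, 0, 0, 0],
  [0, 0, 0, 0, 0, 0, 4, 4, 0, 0, 0, 0, 0, 0, 0, 0, 0, 0, 0, 4, 0, -4, 0, 0],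
  [0, 0, 0, 0, 4, 0, 0, 0, 0, 0, 0, 0, 0, -4, 0, 0, 4, 0, 0, 0, 0, 0, 4, 0],
  [-4, -4, -4, 0, 0, 0, 0, 0, 0, 0, 0, 0, 0, 0, 0, 0, 0, 0, 0, 0, 0, 0, 0, 4]]

/-- columns of the automorphism `D` -/
def CD : List (List ℤ) := [
  [4, -4, 4, 0, 0, 0, 0, 0, 0, 0, 0, 0, 0, 0, 0, 0, 0, 0, 0, 0, 0, 0, 0, -4],
  [-4, 4, 4, 0, 0, 0, 0, 0, 0, 0, 0, 0, 0, 0, 0, 0, 0, 0, 0, 0, 0, 0, 0, -4],
  [-4, -4, -4, 0, 0, 0, 0, 0, 0, 0, 0, 0, 0, 0, 0, 0, 0, 0, 0, 0, 0, 0, 0, -4],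
  [0, 0, 0, 4, 0, -4, 0, 0, 0, 0, 0, 0, 0, 0, -4, 0, 0, 4, 0, 0, 0, 0, 0, 0],
  [0, 0, 0, 0, -4, 0, 0, 0, 0, 0, 0, 0, 0, 4, 0, 0, -4, 0, 0, 0, 0, 0, 4, 0],
  [0, 0, 0, -4, 0, 4, 0, 0, 0, 0, 0, 0, 0, 0, -4, 0, 0, 4, 0, 0, 0, 0, 0, 0],
  [0, 0, 0, 0, 0, 0, 4, -4, 0, 0, 0, 0, 0, 0, 0, 0, 0, 0, 0, -4, 0, 4, 0, 0],
  [0, 0, 0, 0, 0, 0, -4, 4, 0, 0, 0, 0, 0, 0, 0, 0, 0, 0, 0, -4, 0, 4, 0, 0],
  [0, 0, 0, 0, 0, 0, 0, 0, 4, 0, 0, 4, 4, 0, 0, 0, 0, 0, 4, 0, 0, 0, 0, 0],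
  [0, 0, 0, 0, 0, 0, 0, 0, 0, 4, -4, 0, 0, 0, 0, -4, 0, 0, 0, 0, 4, 0, 0, 0],
  [0, 0, 0, 0, 0, 0, 0, 0, 0, 4, -4, 0, 0, 0, 0, 4, 0, 0, 0, 0, -4, 0, 0, 0],
  [0, 0, 0, 0, 0, 0, 0, 0, 4, 0, 0, 4, -4, 0, 0, 0, 0, 0, -4, 0, 0, 0, 0, 0],
  [0, 0, 0, 0, 0, 0, 0, 0, 4, 0, 0, -4, 4, 0, 0, 0, 0, 0, -4, 0, 0, 0, 0, 0],
  [0, 0, 0, 0, -4, 0, 0, 0, 0, 0, 0, 0, 0, 4, 0, 0, 4, 0, 0, 0, 0, 0, -4, 0],
  [0, 0, 0, 4, 0, 4, 0, 0, 0, 0, 0, 0, 0, 0, -4, 0, 0, -4, 0, 0, 0, 0, 0, 0],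
  [0, 0, 0, 0, 0, 0, 0, 0, 0, -4, -4, 0, 0, 0, 0, 4, 0, 0, 0, 0, 4, 0, 0, 0],
  [0, 0, 0, 0, 4, 0, 0, 0, 0, 0, 0, 0, 0, 4, 0, 0, 4, 0, 0, 0, 0, 0, 4, 0],
  [0, 0, 0, 4, 0, 4, 0, 0, 0, 0, 0, 0, 0, 0, 4, 0, 0, 4, 0, 0, 0, 0, 0, 0],
  [0, 0, 0, 0, 0, 0, 0, 0, -4, 0, 0, 4, 4, 0, 0, 0, 0, 0, -4, 0, 0, 0, 0, 0],
  [0, 0, 0, 0, 0, 0, -4, -4, 0, 0, 0, 0, 0, 0, 0, 0, 0, 0, 0, 4, 0, 4, 0, 0],
  [0, 0, 0, 0, 0, 0, 0, 0, 0, 4, 4, 0, 0, 0, 0, 4, 0, 0, 0, 0, 4, 0, 0, 0],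
  [0, 0, 0, 0, 0, 0, -4, -4, 0, 0, 0, 0, 0, 0, 0, 0, 0, 0, 0, -4, 0, -4, 0, 0],
  [0, 0, 0, 0, -4, 0, 0, 0, 0, 0, 0, 0, 0, -4, 0, 0, 4, 0, 0, 0, 0, 0, 4, 0],
  [-4, -4, 4, 0, 0, 0, 0, 0, 0, 0, 0, 0, 0, 0, 0, 0, 0, 0, 0, 0, 0, 0, 0, 4]]

theorem okD : Ok RD CD := Ok.of_bool (by decide +kernel)

/-- rows of the automorphism `M3` -/
def RM : List (List ℤ) := [
  [6, -2, 2, 0, 0, 0, 2, -2, 0, 0, 0, 0, 0, 0, 0, 0, 0, 0, 0, 2, 0, 2, 0, -2],
  [-2, 6, 2, 0, 0, 0, 2, -2, 0, 0, 0, 0, 0, 0, 0, 0, 0, 0, 0, 2, 0, 2, 0, -2],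
  [-2, -2, 2, 0, 0, 0, 2, 6, 0, 0, 0, 0, 0, 0, 0, 0, 0, 0, 0, 2, 0, 2, 0, -2],
  [0, 0, 0, 2, 2, -2, 0, 0, 2, 2, -2, 2, 2, 2, -2, -2, -2, -2, -2, 0, -2, 0, 2, 0],
  [0, 0, 0, -2, 2, 2, 0, 0, -2, 2, -2, -2, -2, 2, 2, -2, -2, 2, 2, 0, -2, 0, 2, 0],
  [0, 0, 0, 2, -2, 2, 0, 0, -2, 2, 2, -2, 2, 2, -2, 2, -2, 2, -2, 0, -2, 0, -2, 0],
  [2, 2, -2, 0, 0, 0, 6, 2, 0, 0, 0, 0, 0, 0, 0, 0, 0, 0, 0, -2, 0, -2, 0, 2],
  [2, 2, -2, 0, 0, 0, -2, 2, 0, 0, 0, 0, 0, 0, 0, 0, 0, 0, 0, -2, 0, 6, 0, 2],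
  [0, 0, 0, 2, 2, 2, 0, 0, 2, 2, -2, -2, 2, 2, 2, 2, 2, -2, 2, 0, 2, 0, -2, 0],
  [0, 0, 0, -2, 2, -2, 0, 0, -2, 2, -2, 2, -2, 2, -2, 2, 2, 2, -2, 0, 2, 0, -2, 0],
  [0, 0, 0, -2, 2, -2, 0, 0, -2, 2, 2, -2, 2, -2, 2, 2, 2, -2, -2, 0, -2, 0, 2, 0],
  [0, 0, 0, -2, 2, 2, 0, 0, 2, -2, 2, 2, 2, 2, 2, 2, -2, 2, -2, 0, 2, 0, 2, 0],
  [0, 0, 0, -2, -2, -2, 0, 0, -2, -2, -2, -2, 2, 2, 2, -2, -2, -2, -2, 0, 2, 0, -2, 0],
  [0, 0, 0, 2, -2, -2, 0, 0, 2, -2, -2, -2, -2, 2, 2, 2, 2, 2, -2, 0, -2, 0, 2, 0],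
  [0, 0, 0, 2, -2, 2, 0, 0, -2, 2, -2, 2, -2, -2, 2, 2, -2, -2, -2, 0, 2, 0, 2, 0],
  [0, 0, 0, 2, 2, -2, 0, 0, -2, -2, -2, 2, 2, -2, 2, 2, -2, 2, 2, 0, -2, 0, -2, 0],
  [0, 0, 0, 2, 2, 2, 0, 0, -2, -2, -2, -2, 2, -2, -2, -2, 2, 2, -2, 0, 2, 0, 2, 0],
  [0, 0, 0, 2, 2, -2, 0, 0, 2, 2, 2, -2, -2, -2, 2, -2, -2, 2, -2, 0, 2, 0, -2, 0],
  [0, 0, 0, 2, -2, -2, 0, 0, -2, 2, 2, 2, 2, 2, 2, -2, 2, 2, 2, 0, 2, 0, 2, 0],
  [-2, -2, -6, 0, 0, 0, 2, -2, 0, 0, 0, 0, 0, 0, 0, 0, 0, 0, 0, 2, 0, 2, 0, -2],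
  [0, 0, 0, 2, 2, -2, 0, 0, -2, -2, 2, -2, -2, 2, -2, 2, -2, -2, 2, 0, 2, 0, 2, 0],
  [-2, -2, 2, 0, 0, 0, 2, -2, 0, 0, 0, 0, 0, 0, 0, 0, 0, 0, 0, -6, 0, 2, 0, -2],
  [0, 0, 0, -2, -2, -2, 0, 0, 2, 2, -2, -2, 2, -2, -2, 2, -2, 2, 2, 0, 2, 0, 2, 0],
  [-2, -2, 2, 0, 0, 0, 2, -2, 0, 0, 0, 0, 0, 0, 0, 0, 0, 0, 0, 2, 0, 2, 0, 6]]

/-- columns of the automorphism `M3` -/
def CM : List (List ℤ) := [
  [6, -2, -2, 0, 0, 0, 2, 2, 0, 0, 0, 0, 0, 0, 0, 0, 0, 0, 0, -2, 0, -2, 0, -2],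
  [-2, 6, -2, 0, 0, 0, 2, 2, 0, 0, 0, 0, 0, 0, 0, 0, 0, 0, 0, -2, 0, -2, 0, -2],
  [2, 2, 2, 0, 0, 0, -2, -2, 0, 0, 0, 0, 0, 0, 0, 0, 0, 0, 0, -6, 0, 2, 0, 2],
  [0, 0, 0, 2, -2, 2, 0, 0, 2, -2, -2, -2, -2, 2, 2, 2, 2, 2, 2, 0, 2, 0, -2, 0],
  [0, 0, 0, 2, 2, -2, 0, 0, 2, 2, 2, 2, -2, -2, -2, 2, 2, 2, -2, 0, 2, 0, -2, 0],
  [0, 0, 0, -2, 2, 2, 0, 0, 2, -2, -2, 2, -2, -2, 2, -2, 2, -2, -2, 0, -2, 0, -2, 0],
  [2, 2, 2, 0, 0, 0, 6, -2, 0, 0, 0, 0, 0, 0, 0, 0, 0, 0, 0, 2, 0, 2, 0, 2],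
  [-2, -2, 6, 0, 0, 0, 2, 2, 0, 0, 0, 0, 0, 0, 0, 0, 0, 0, 0, -2, 0, -2, 0, -2],
  [0, 0, 0, 2, -2, -2, 0, 0, 2, -2, -2, 2, -2, 2, -2, -2, -2, 2, -2, 0, -2, 0, 2, 0],
  [0, 0, 0, 2, 2, 2, 0, 0, 2, 2, 2, -2, -2, -2, 2, -2, -2, 2, 2, 0, -2, 0, 2, 0],
  [0, 0, 0, -2, -2, 2, 0, 0, -2, -2, 2, 2, -2, -2, -2, -2, -2, 2, 2, 0, 2, 0, -2, 0],
  [0, 0, 0, 2, -2, -2, 0, 0, -2, 2, -2, 2, -2, -2, 2, 2, -2, -2, 2, 0, -2, 0, -2, 0],
  [0, 0, 0, 2, -2, 2, 0, 0, 2, -2, 2, 2, 2, -2, -2, 2, 2, -2, 2, 0, -2, 0, 2, 0],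
  [0, 0, 0, 2, 2, 2, 0, 0, 2, 2, -2, 2, 2, 2, -2, -2, -2, -2, 2, 0, 2, 0, -2, 0],
  [0, 0, 0, -2, 2, -2, 0, 0, 2, -2, 2, 2, 2, 2, 2, 2, -2, 2, 2, 0, -2, 0, -2, 0],
  [0, 0, 0, -2, -2, 2, 0, 0, 2, 2, 2, 2, -2, 2, 2, 2, -2, -2, -2, 0, 2, 0, 2, 0],
  [0, 0, 0, -2, -2, -2, 0, 0, 2, 2, 2, -2, -2, 2, -2, -2, 2, -2, 2, 0, -2, 0, -2, 0],
  [0, 0, 0, -2, 2, 2, 0, 0, -2, 2, -2, 2, -2, 2, -2, 2, 2, 2, 2, 0, -2, 0, 2, 0],
  [0, 0, 0, -2, 2, -2, 0, 0, 2, -2, -2, -2, -2, -2, -2, 2, -2, -2, 2, 0, 2, 0, 2, 0],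
  [2, 2, 2, 0, 0, 0, -2, -2, 0, 0, 0, 0, 0, 0, 0, 0, 0, 0, 0, 2, 0, -6, 0, 2],
  [0, 0, 0, -2, -2, -2, 0, 0, 2, 2, -2, 2, 2, -2, 2, -2, 2, 2, 2, 0, 2, 0, 2, 0],
  [2, 2, 2, 0, 0, 0, -2, 6, 0, 0, 0, 0, 0, 0, 0, 0, 0, 0, 0, 2, 0, 2, 0, 2],
  [0, 0, 0, 2, 2, -2, 0, 0, -2, -2, 2, 2, -2, 2, 2, -2, 2, -2, 2, 0, 2, 0, 2, 0],
  [-2, -2, -2, 0, 0, 0, 2, 2, 0, 0, 0, 0, 0, 0, 0, 0, 0, 0, 0, -2, 0, -2, 0, 6]]

theorem okM : Ok RM CM := Ok.of_bool (by decide +kernel)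

end Cfsg.Agent.SporadicStructure.U62Data
end

-- part: SporadicStructure/SU62
section
/-!
The group `SU_6(2)` over the explicit field with four elements is generated by four explicit matrices: the permutation
matrices of a transposition and of a 6-cycle, `diag(ω, ω², 1, 1, 1, 1)`, and a matrix acting on three coordinates.
-/

set_option autoImplicit false

namespace Cfsg.Agent.SporadicStructure.SU62

open Cfsg Matrix Cfsg.Agent.LieClassical.HermBasic Cfsg.Agent.LieClassical.HermSiegel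
  Cfsg.Agent.LieClassical.HermGen
open Cfsg.Agent.SporadicA.FieldFour

/-! ### The field -/

theorem hF4 : Fintype.card F4 = 2 ^ 2 := rfl

theorem neg_one_eq : (-1 : F4) = 1 := by decide

theorem add_self (a : F4) : a + a = 0 := by revert a; decide

theorem mul_sq_self (a : F4) : a * a ^ 2 = if a = 0 then 0 else 1 := by revert a; decide

/-! ### Determinants -/

/-- Determinant by expansion along the first row (characteristic two). -/
def detF : (n : ℕ) → (Fin n → Fin n → F4) → F4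
  | 0, _ => 1
  | n + 1, A => ((List.finRange (n + 1)).map fun j =>
      A 0 j * detF n (fun i k => A i.succ (j.succAbove k))).sum

theorem det_eq_detF (n : ℕ) (A : Matrix (Fin n) (Fin n) F4) : A.det = detF n A := by
  induction n with
  | zero => simp [detF]
  | succ n ih =>
    rw [Matrix.det_succ_row_zero, Fin.sum_univ_def]
    show _ = ((List.finRange (n + 1)).map fun j =>
      A 0 j * detF n (fun i k => A i.succ (j.succAbove k))).sum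
    congr 1
    refine List.map_congr_left fun j _ => ?_
    rw [ih, neg_one_eq, one_pow, one_mul]
    rfl

/-- A matrix from a table of codes (`0, 1, 2 = ω, 3 = ω²`). -/
def matOf (l : List (List ℕ)) : Matrix (Fin 6) (Fin 6) F4 :=
  fun i j => F4.ofNat ((l.getD i []).getD j 0)

theorem matOf_apply (l : List (List ℕ)) (i j : Fin 6) :
    matOf l i j = F4.ofNat ((l.getD i []).getD j 0) := rfl

/-- The form is preserved if the columns are orthonormal. -/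
theorem herm_of_cols (M : Matrix (Fin 6) (Fin 6) F4)
    (h : ∀ i j, ∑ l, M l i * (M l j) ^ 2 = if i = j then 1 else 0) (u v : Fin 6 → F4) :
    hermForm 6 F4 2 (M *ᵥ u) (M *ᵥ v) = hermForm 6 F4 2 u v := by
  have h1 : ∀ l, (M *ᵥ u) l * ((M *ᵥ v) l) ^ 2 =
      ∑ i, ∑ j, (M l i * (M l j) ^ 2) * (u i * (v j) ^ 2) := by
    intro l
    have e1 : (M *ᵥ u) l = ∑ i, M l i * u i := rfl
    have e2 : (M *ᵥ v) l = ∑ j, M l j * v j := rfl
    rw [e1, e2, sum_pow_q hF4, Finset.sum_mul_sum]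
    refine Finset.sum_congr rfl fun i _ => Finset.sum_congr rfl fun j _ => ?_
    rw [mul_pow]; ring
  rw [herm_def, herm_def, Finset.sum_congr rfl fun l _ => h1 l, Finset.sum_comm]
  refine Finset.sum_congr rfl fun i _ => ?_
  rw [Finset.sum_comm]
  have h2 : ∀ j, ∑ l, M l i * M l j ^ 2 * (u i * v j ^ 2) =
      (if i = j then 1 else 0) * (u i * v j ^ 2) := by
    intro j
    rw [← h i j, Finset.sum_mul]
  rw [Finset.sum_congr rfl fun j _ => h2 j, Finset.sum_eq_single i]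
  · rw [if_pos rfl, one_mul]
  · intro j _ hj; rw [if_neg (Ne.symm hj), zero_mul]
  · intro h; exact absurd (Finset.mem_univ i) h

/-- The sum of six values. -/
def s6 (f : Fin 6 → F4) : F4 := f 0 + f 1 + f 2 + f 3 + f 4 + f 5

theorem sum_eq_s6 (f : Fin 6 → F4) : ∑ i, f i = s6 f := Fin.sum_univ_six f

/-- Check that the columns are orthonormal and the determinant is one. -/
def suB (l : List (List ℕ)) : Bool :=
  decide (∀ i j : Fin 6, s6 (fun k => matOf l k i * (matOf l k j * matOf l k j)) = if i = j then 1 else 0) &&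
    decide (detF 6 (matOf l) = 1)

/-- An element of `SU_6(2)` from a table. -/
def ofTable (l : List (List ℕ)) (h : suB l = true) : SU 6 F4 2 :=
  mkSU (matOf l)
    (by
      rw [det_eq_detF]
      exact of_decide_eq_true ((Bool.and_eq_true _ _).mp h).2)
    (herm_of_cols _ (by
      intro i j
      have := of_decide_eq_true ((Bool.and_eq_true _ _).mp h).1 i j
      rw [sum_eq_s6, ← this]
      simp only [sq]))

theorem mat_ofTable (l : List (List ℕ)) (h : suB l = true) : mat (ofTable l h) = matOf l := rfl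

def tT : List (List ℕ) := [[0, 1, 0, 0, 0, 0], [1, 0, 0, 0, 0, 0], [0, 0, 1, 0, 0, 0],
  [0, 0, 0, 1, 0, 0], [0, 0, 0, 0, 1, 0], [0, 0, 0, 0, 0, 1]]

def tC : List (List ℕ) := [[0, 0, 0, 0, 0, 1], [1, 0, 0, 0, 0, 0], [0, 1, 0, 0, 0, 0],
  [0, 0, 1, 0, 0, 0], [0, 0, 0, 1, 0, 0], [0, 0, 0, 0, 1, 0]]

def tD : List (List ℕ) := [[2, 0, 0, 0, 0, 0], [0, 3, 0, 0, 0, 0], [0, 0, 1, 0, 0, 0],
  [0, 0, 0, 1, 0, 0], [0, 0, 0, 0, 1, 0], [0, 0, 0, 0, 0, 1]]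

def tM : List (List ℕ) := [[1, 1, 1, 0, 0, 0], [1, 2, 3, 0, 0, 0], [1, 3, 2, 0, 0, 0],
  [0, 0, 0, 1, 0, 0], [0, 0, 0, 0, 1, 0], [0, 0, 0, 0, 0, 1]]

/-- transposition -/
def gT : SU 6 F4 2 := ofTable tT (by decide +kernel)
/-- 6-cycle -/
def gC : SU 6 F4 2 := ofTable tC (by decide +kernel)
/-- diagonal -/
def gD : SU 6 F4 2 := ofTable tD (by decide +kernel)
/-- the matrix on three coordinates -/
def gM : SU 6 F4 2 := ofTable tM (by decide +kernel)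

/-! ### Actions -/

theorem ofNat0 : F4.ofNat 0 = 0 := rfl
theorem ofNat1 : F4.ofNat 1 = 1 := rfl

theorem act_ofTable (l : List (List ℕ)) (h : suB l = true) (y : Fin 6 → F4) (i : Fin 6) :
    act (ofTable l h) y i = s6 fun j => matOf l i j * y j := by
  rw [← sum_eq_s6]; rfl

theorem act_gM (y : Fin 6 → F4) : act gM y = ![y 0 + y 1 + y 2, y 0 + F4.w * y 1 + F4.v * y 2,
    y 0 + F4.v * y 1 + F4.w * y 2, y 3, y 4, y 5] := by
  funext i
  rw [gM, act_ofTable]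
  fin_cases i <;>
    simp [s6, matOf_apply, tM, ofNat0, ofNat1, show F4.ofNat 2 = F4.w from rfl,
      show F4.ofNat 3 = F4.v from rfl]

theorem act_gD (y : Fin 6 → F4) : act gD y = ![F4.w * y 0, F4.v * y 1, y 2, y 3, y 4, y 5] := by
  funext i
  rw [gD, act_ofTable]
  fin_cases i <;>
    simp [s6, matOf_apply, tD, ofNat0, ofNat1, show F4.ofNat 2 = F4.w from rfl,
      show F4.ofNat 3 = F4.v from rfl]

theorem act_gT (y : Fin 6 → F4) : act gT y = y ∘ Equiv.swap (0 : Fin 6) 1 := by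
  funext i
  rw [gT, act_ofTable]
  fin_cases i
  · simp [s6, matOf_apply, tT, ofNat0, ofNat1]
  · simp [s6, matOf_apply, tT, ofNat0, ofNat1]
  · have : Equiv.swap (0 : Fin 6) 1 2 = 2 := by decide
    simp [s6, matOf_apply, tT, ofNat0, ofNat1, this]
  · have : Equiv.swap (0 : Fin 6) 1 3 = 3 := by decide
    simp [s6, matOf_apply, tT, ofNat0, ofNat1, this]
  · have : Equiv.swap (0 : Fin 6) 1 4 = 4 := by decide
    simp [s6, matOf_apply, tT, ofNat0, ofNat1, this]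
  · have : Equiv.swap (0 : Fin 6) 1 5 = 5 := by decide
    simp [s6, matOf_apply, tT, ofNat0, ofNat1, this]

theorem act_gC (y : Fin 6 → F4) : act gC y = y ∘ (finRotate 6).symm := by
  funext i
  rw [gC, act_ofTable]
  fin_cases i
  · have : (finRotate 6).symm 0 = 5 := by decide
    simp [s6, matOf_apply, tC, ofNat0, ofNat1, this]
  · have : (finRotate 6).symm 1 = 0 := by decide
    simp [s6, matOf_apply, tC, ofNat0, ofNat1, this]
  · have : (finRotate 6).symm 2 = 1 := by decide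
    simp [s6, matOf_apply, tC, ofNat0, ofNat1, this]
  · have : (finRotate 6).symm 3 = 2 := by decide
    simp [s6, matOf_apply, tC, ofNat0, ofNat1, this]
  · have : (finRotate 6).symm 4 = 3 := by decide
    simp [s6, matOf_apply, tC, ofNat0, ofNat1, this]
  · have : (finRotate 6).symm 5 = 4 := by decide
    simp [s6, matOf_apply, tC, ofNat0, ofNat1, this]

/-- The generated subgroup. -/
def H : Subgroup (SU 6 F4 2) := Subgroup.closure {gT, gC, gD, gM}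

theorem gT_mem : gT ∈ H := Subgroup.subset_closure (by simp)
theorem gC_mem : gC ∈ H := Subgroup.subset_closure (by simp)
theorem gD_mem : gD ∈ H := Subgroup.subset_closure (by simp)
theorem gM_mem : gM ∈ H := Subgroup.subset_closure (by simp)

/-- All coordinate permutations are in `H`. -/
theorem perm_mem (σ : Equiv.Perm (Fin 6)) :
    ∃ g ∈ H, ∀ y : Fin 6 → F4, act g y = y ∘ σ.symm := by
  let S : Subgroup (Equiv.Perm (Fin 6)) :=
    { carrier := {σ | ∃ g ∈ H, ∀ y : Fin 6 → F4, act g y = y ∘ σ.symm}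
      one_mem' := ⟨1, H.one_mem, fun y => act_one y⟩
      mul_mem' := by
        rintro σ τ ⟨g, hg, hgy⟩ ⟨h, hh, hhy⟩
        refine ⟨g * h, H.mul_mem hg hh, fun y => ?_⟩
        rw [act_mul, hhy, hgy]
        rfl
      inv_mem' := by
        rintro σ ⟨g, hg, hgy⟩
        refine ⟨g⁻¹, H.inv_mem hg, fun y => ?_⟩
        have : act g (y ∘ (σ⁻¹).symm) = y := by
          rw [hgy]
          funext i
          show y (σ (σ.symm i)) = y i
          rw [Equiv.apply_symm_apply]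
        exact ((act_eq_iff g).mp this).symm }
  have hS : S = ⊤ := by
    rw [eq_top_iff, ← Equiv.Perm.closure_cycle_adjacent_swap (isCycle_finRotate (n := 4))
      support_finRotate 0, Subgroup.closure_le]
    rintro σ hσ
    rcases hσ with rfl | hσ
    · exact ⟨gC, gC_mem, act_gC⟩
    · rw [Set.mem_singleton_iff] at hσ
      subst hσ
      refine ⟨gT, gT_mem, fun y => ?_⟩
      rw [act_gT]
      have : (finRotate 6) 0 = 1 := by decide
      rw [Equiv.symm_swap]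
      rfl
  have := Subgroup.mem_top σ
  rw [← hS] at this
  exact this

/-- diagonal entries: `c` at `i`, `c⁻¹` at `j`. -/
def dE (i j : Fin 6) (c : F4) : Fin 6 → F4 := fun k => if k = i then c else if k = j then c⁻¹ else 1

theorem exists_perm_two (i j : Fin 6) (hij : i ≠ j) :
    ∃ σ : Equiv.Perm (Fin 6), σ 0 = i ∧ σ 1 = j := by
  refine ⟨Equiv.swap 0 i * Equiv.swap 1 (Equiv.swap 0 i j), ?_, ?_⟩
  · have h0 : (0 : Fin 6) ≠ Equiv.swap 0 i j := by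
      intro h
      have := congrArg (Equiv.swap 0 i) h
      rw [Equiv.swap_apply_self, Equiv.swap_apply_left] at this
      exact hij this
    rw [Equiv.Perm.mul_apply, Equiv.swap_apply_of_ne_of_ne (show (0 : Fin 6) ≠ 1 by decide) h0,
      Equiv.swap_apply_left]
  · rw [Equiv.Perm.mul_apply, Equiv.swap_apply_left, Equiv.swap_apply_self]

theorem exists_perm_three (i j k : Fin 6) (hij : i ≠ j) (hik : i ≠ k) (hjk : j ≠ k) :
    ∃ σ : Equiv.Perm (Fin 6), σ 0 = i ∧ σ 1 = j ∧ σ 2 = k := by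
  obtain ⟨τ, h0, h1⟩ := exists_perm_two i j hij
  refine ⟨τ * Equiv.swap 2 (τ.symm k), ?_, ?_, ?_⟩
  · have h : (0 : Fin 6) ≠ τ.symm k := fun h => hik (by rw [← h0, h, Equiv.apply_symm_apply])
    rw [Equiv.Perm.mul_apply, Equiv.swap_apply_of_ne_of_ne (show (0 : Fin 6) ≠ 2 by decide) h, h0]
  · have h : (1 : Fin 6) ≠ τ.symm k := fun h => hjk (by rw [← h1, h, Equiv.apply_symm_apply])
    rw [Equiv.Perm.mul_apply, Equiv.swap_apply_of_ne_of_ne (show (1 : Fin 6) ≠ 2 by decide) h, h1]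
  · rw [Equiv.Perm.mul_apply, Equiv.swap_apply_left, Equiv.apply_symm_apply]

theorem diag_mem_w (i j : Fin 6) (hij : i ≠ j) :
    ∃ g ∈ H, ∀ y : Fin 6 → F4, act g y = fun k => dE i j F4.w k * y k := by
  obtain ⟨σ, h0, h1⟩ := exists_perm_two i j hij
  obtain ⟨p, hp, hpy⟩ := perm_mem σ
  refine ⟨p * gD * p⁻¹, H.mul_mem (H.mul_mem hp gD_mem) (H.inv_mem hp), fun y => ?_⟩
  have hpi : act p⁻¹ y = y ∘ σ := by
    have : act p (y ∘ σ) = y := by rw [hpy]; funext i; simp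
    exact ((act_eq_iff p).mp this).symm
  have hD : ∀ z : Fin 6 → F4, act gD z = fun k => (dE 0 1 F4.w k) * z k := by
    intro z
    rw [act_gD]
    funext k
    fin_cases k
    · rfl
    · rfl
    · show z 2 = dE 0 1 F4.w 2 * z 2
      rw [show dE 0 1 F4.w 2 = 1 by decide, one_mul]
    · show z 3 = dE 0 1 F4.w 3 * z 3
      rw [show dE 0 1 F4.w 3 = 1 by decide, one_mul]
    · show z 4 = dE 0 1 F4.w 4 * z 4
      rw [show dE 0 1 F4.w 4 = 1 by decide, one_mul]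
    · show z 5 = dE 0 1 F4.w 5 * z 5
      rw [show dE 0 1 F4.w 5 = 1 by decide, one_mul]
  rw [act_mul, act_mul, hpi, hD, hpy]
  funext k
  simp only [Function.comp_apply, Equiv.apply_symm_apply]
  congr 1
  unfold dE
  have e0 : σ.symm k = 0 ↔ k = i := by rw [← h0, Equiv.symm_apply_eq]
  have e1 : σ.symm k = 1 ↔ k = j := by rw [← h1, Equiv.symm_apply_eq]
  simp only [e0, e1]

theorem diag_mem (i j : Fin 6) (hij : i ≠ j) (c : F4) (hc : c ≠ 0) :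
    ∃ g ∈ H, ∀ y : Fin 6 → F4, act g y = fun k => dE i j c k * y k := by
  obtain ⟨g, hg, hgy⟩ := diag_mem_w i j hij
  have hcases : c = 1 ∨ c = F4.w ∨ c = F4.v := by
    revert c; decide
  rcases hcases with rfl | rfl | rfl
  · refine ⟨1, H.one_mem, fun y => ?_⟩
    rw [act_one]
    funext k
    have : dE i j 1 k = 1 := by
      unfold dE
      split_ifs
      · rfl
      · decide
      · rfl
    rw [this, one_mul]
  · exact ⟨g, hg, hgy⟩
  · refine ⟨g * g, H.mul_mem hg hg, fun y => ?_⟩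
    rw [act_mul, hgy, hgy]
    funext k
    rw [← mul_assoc]
    congr 1
    unfold dE
    split_ifs <;> decide

/-- Move a vector with three nonzero coordinates. -/
theorem triple0 (x : Fin 6 → F4) (h0 : x 0 ≠ 0) (h1 : x 1 ≠ 0) (h2 : x 2 ≠ 0) :
    ∃ g ∈ H, act g x = ![1, 0, 0, x 3, x 4, x 5] ∧
      ∀ y : Fin 6 → F4, y 0 = 0 → y 1 = 0 → y 2 = 0 → act g y = y := by
  obtain ⟨d0, hd0, e0⟩ := diag_mem 0 3 (by decide) (x 0)⁻¹ (inv_ne_zero h0)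
  obtain ⟨d1, hd1, e1⟩ := diag_mem 1 3 (by decide) (x 1)⁻¹ (inv_ne_zero h1)
  obtain ⟨d2, hd2, e2⟩ := diag_mem 2 3 (by decide) (x 2)⁻¹ (inv_ne_zero h2)
  obtain ⟨d3, hd3, e3⟩ := diag_mem 1 3 (by decide) (x 0 * x 1 * x 2)
    (mul_ne_zero (mul_ne_zero h0 h1) h2)
  refine ⟨d3 * gM * (d0 * d1 * d2), H.mul_mem (H.mul_mem hd3 gM_mem)
    (H.mul_mem (H.mul_mem hd0 hd1) hd2), ?_, ?_⟩
  · rw [act_mul, act_mul, act_mul, act_mul, e2, e1, e0, act_gM, e3]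
    have key : ∀ a b c d : F4, a ≠ 0 → b ≠ 0 → c ≠ 0 →
        a⁻¹ * a = 1 ∧ c⁻¹ * (b⁻¹ * a⁻¹) * (a * (b * (c * d))) = d := by decide
    have k01 := key (x 0) (x 1) (x 2) (x 3) h0 h1 h2
    have k1 := inv_mul_cancel₀ h1
    have k2 := inv_mul_cancel₀ h2
    have w1 : (1 : F4) + 1 + 1 = 1 := by decide
    have w2 : (1 : F4) + F4.w + F4.v = 0 := by decide
    have w3 : (1 : F4) + F4.v + F4.w = 0 := by decide
    funext k
    fin_cases k <;> simp [dE, k01.1, k1, k2, w1, w2, w3]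
    exact k01.2
  · intro y y0 y1 y2
    rw [act_mul, act_mul, act_mul, act_mul, e2, e1, e0, act_gM, e3]
    have key : ∀ a b c d : F4, a ≠ 0 → b ≠ 0 → c ≠ 0 →
        (a * b * c)⁻¹ * ((a⁻¹)⁻¹ * ((b⁻¹)⁻¹ * ((c⁻¹)⁻¹ * d))) = d := by decide
    have k01 := key (x 0) (x 1) (x 2) (y 3) h0 h1 h2
    funext k
    fin_cases k <;> simp [dE, y0, y1, y2]
    simpa using k01

/-- Move a vector with three nonzero coordinates, general position. -/
theorem triple (x : Fin 6 → F4) {i j k : Fin 6} (hij : i ≠ j) (hik : i ≠ k) (hjk : j ≠ k)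
    (hi : x i ≠ 0) (hj : x j ≠ 0) (hk : x k ≠ 0) :
    ∃ g ∈ H, (∀ l, act g x l = if l = i then 1 else if l = j then 0 else if l = k then 0 else x l) ∧
      ∀ y : Fin 6 → F4, y i = 0 → y j = 0 → y k = 0 → act g y = y := by
  obtain ⟨σ, s0, s1, s2⟩ := exists_perm_three i j k hij hik hjk
  obtain ⟨p, hp, hpy⟩ := perm_mem σ
  have hpi : ∀ y : Fin 6 → F4, act p⁻¹ y = y ∘ σ := by
    intro y
    have : act p (y ∘ σ) = y := by rw [hpy]; funext i; simp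
    exact ((act_eq_iff p).mp this).symm
  obtain ⟨g, hg, hgx, hgy⟩ := triple0 (x ∘ σ) (by simpa [s0] using hi) (by simpa [s1] using hj)
    (by simpa [s2] using hk)
  refine ⟨p * g * p⁻¹, H.mul_mem (H.mul_mem hp hg) (H.inv_mem hp), fun l => ?_, fun y y0 y1 y2 => ?_⟩
  · rw [act_mul, act_mul, hpi, hgx, hpy, Function.comp_apply]
    obtain ⟨m, rfl⟩ := σ.surjective l
    rw [Equiv.symm_apply_apply, ← s0, ← s1, ← s2]
    simp only [EmbeddingLike.apply_eq_iff_eq]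
    fin_cases m <;> simp
  · rw [act_mul, act_mul, hpi, hgy _ (by simpa [s0] using y0) (by simpa [s1] using y1)
      (by simpa [s2] using y2), hpy]
    funext l
    simp

theorem herm_self (x : Fin 6 → F4) :
    hermForm 6 F4 2 x x = ((Finset.univ.filter fun i => x i ≠ 0).card : F4) := by
  rw [herm_def, Finset.sum_congr rfl fun i _ => mul_sq_self (x i), Finset.card_filter]
  push_cast
  refine Finset.sum_congr rfl fun i _ => ?_
  by_cases h : x i = 0 <;> simp [h]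

/-- `H` is transitive on unit vectors, level by level. -/
theorem exists_reduce (n : ℕ) (hn : 2 ≤ n) (hn6 : n ≤ 6) : ∀ (c : ℕ) (x : Fin 6 → F4),
    (Finset.univ.filter fun i => x i ≠ 0).card = c → hermForm 6 F4 2 x x = 1 →
    x ∈ coordSub F4 6 n → ∃ h ∈ H, h ∈ (fixGrp n : Subgroup (SU 6 F4 2)) ∧
      act h x = Pi.single ⟨n - 1, by omega⟩ 1 := by
  intro c
  induction c using Nat.strong_induction_on with
  | _ c ih =>
  intro x hc hx hsub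
  rcases Nat.lt_or_ge 2 c with h3 | h2
  · -- at least three nonzero coordinates
    rw [← hc] at h3
    obtain ⟨i, hi, j, hj, k, hk, hij, hik, hjk⟩ := Finset.two_lt_card.mp h3
    rw [Finset.mem_filter] at hi hj hk
    obtain ⟨g, hg, hgx, hgy⟩ := triple x hij hik hjk hi.2 hj.2 hk.2
    have hfix : g ∈ (fixGrp n : Subgroup (SU 6 F4 2)) := by
      intro l hl
      have hxl : x l = 0 := hsub l hl
      apply hgy
      · exact Pi.single_eq_of_ne (fun h : i = l => hi.2 (by rw [h]; exact hxl)) _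
      · exact Pi.single_eq_of_ne (fun h : j = l => hj.2 (by rw [h]; exact hxl)) _
      · exact Pi.single_eq_of_ne (fun h : k = l => hk.2 (by rw [h]; exact hxl)) _
    have hlt : (Finset.univ.filter fun l => act g x l ≠ 0).card < c := by
      rw [← hc]
      apply Finset.card_lt_card
      refine ⟨fun l hl => ?_, fun hsup => ?_⟩
      · rw [Finset.mem_filter] at hl ⊢
        refine ⟨Finset.mem_univ _, fun h => hl.2 ?_⟩
        rw [hgx]
        have h1 : l ≠ i := fun h' => hi.2 (h' ▸ h)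
        rw [if_neg h1]
        split_ifs
        · rfl
        · rfl
        · exact h
      · have : j ∈ Finset.univ.filter fun l => act g x l ≠ 0 := hsup (by
          rw [Finset.mem_filter]; exact hj)
        rw [Finset.mem_filter] at this
        apply this.2
        rw [hgx, if_neg (Ne.symm hij), if_pos rfl]
    obtain ⟨h, hh, hhf, hhx⟩ := ih _ hlt (act g x) rfl (by rw [herm_act, hx])
      (act_mem_coordSub hF4 hfix hsub)
    exact ⟨h * g, H.mul_mem hh hg, Subgroup.mul_mem _ hhf hfix, by rw [act_mul, hhx]⟩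
  · -- exactly one nonzero coordinate
    have hc1 : c = 1 := by
      rw [herm_self, hc] at hx
      interval_cases c
      · exact absurd hx (by decide)
      · rfl
      · exact absurd hx (by decide)
    rw [hc1, Finset.card_eq_one] at hc
    obtain ⟨i, hi⟩ := hc
    have hxi : x i ≠ 0 := by
      have : i ∈ Finset.univ.filter fun l => x l ≠ 0 := by rw [hi]; exact Finset.mem_singleton_self i
      exact (Finset.mem_filter.mp this).2
    have hxl : ∀ l, l ≠ i → x l = 0 := by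
      intro l hl
      by_contra h
      have : l ∈ Finset.univ.filter fun l => x l ≠ 0 := by
        rw [Finset.mem_filter]; exact ⟨Finset.mem_univ _, h⟩
      rw [hi, Finset.mem_singleton] at this
      exact hl this
    have hin : i.val < n := by
      by_contra h
      exact hxi (hsub i (by omega))
    set m : Fin 6 := ⟨n - 1, by omega⟩ with hm
    obtain ⟨p, hp, hpy⟩ := perm_mem (Equiv.swap i m)
    obtain ⟨j, hjn, hjm⟩ : ∃ j : Fin 6, j.val < n ∧ j ≠ m := by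
      refine ⟨⟨n - 2, by omega⟩, by simp; omega, ?_⟩
      rw [hm]
      intro h
      have := congrArg Fin.val h
      simp at this
      omega
    obtain ⟨d, hd, hdy⟩ := diag_mem m j (Ne.symm hjm) (x i)⁻¹ (inv_ne_zero hxi)
    refine ⟨d * p, H.mul_mem hd hp, Subgroup.mul_mem _ ?_ ?_, ?_⟩
    · intro l hl
      rw [hdy]
      funext k
      by_cases hk : k = l
      · subst hk
        have h1 : k ≠ m := by rintro rfl; simp [hm] at hl; omega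
        have h2 : k ≠ j := by rintro rfl; omega
        simp [dE, h1, h2]
      · rw [Pi.single_eq_of_ne hk, mul_zero]
    · intro l hl
      rw [hpy]
      have h1 : l ≠ m := by rintro rfl; simp [hm] at hl; omega
      have h2 : l ≠ i := by rintro rfl; omega
      rw [Equiv.symm_swap]
      funext k
      rw [Function.comp_apply]
      by_cases hk : k = l
      · subst hk
        rw [Equiv.swap_apply_of_ne_of_ne h2 h1]
      · rw [Pi.single_eq_of_ne hk, Pi.single_eq_of_ne]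
        intro h
        apply hk
        have := congrArg (Equiv.swap i m) h
        rwa [Equiv.swap_apply_self, Equiv.swap_apply_of_ne_of_ne h2 h1] at this
    · rw [act_mul, hpy, hdy, Equiv.symm_swap]
      funext k
      rw [Function.comp_apply]
      by_cases hk : k = m
      · subst hk
        rw [Equiv.swap_apply_right, Pi.single_eq_same, dE, if_pos rfl, inv_mul_cancel₀ hxi]
      · have h0 : x (Equiv.swap i m k) = 0 := by
          apply hxl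
          intro h
          apply hk
          have := congrArg (Equiv.swap i m) h
          rwa [Equiv.swap_apply_self, Equiv.swap_apply_left] at this
        rw [Pi.single_eq_of_ne hk, h0, mul_zero]

/-- The four matrices generate `SU_6(2)`. -/
theorem H_eq_top : H = ⊤ := by
  rw [eq_top_iff]
  intro g _
  have hstep : ∀ k : ℕ, k ≤ 5 → ∃ h ∈ H, h * g ∈ (fixGrp (6 - k) : Subgroup (SU 6 F4 2)) := by
    intro k
    induction k with
    | zero => intro _; exact ⟨1, H.one_mem, mem_fixGrp_top _⟩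
    | succ k ih =>
      intro hk
      obtain ⟨h, hh, hfix⟩ := ih (by omega)
      obtain ⟨n, hn⟩ : ∃ n, n = 6 - k := ⟨_, rfl⟩
      rw [← hn] at hfix
      set e : Fin 6 → F4 := Pi.single ⟨n - 1, by omega⟩ 1 with he
      have he1 : hermForm 6 F4 2 e e = 1 := by
        rw [he, herm_single_right hF4, Pi.single_eq_same, one_pow, one_mul]
      have hsub : e ∈ coordSub F4 6 n := single_mem_coordSub (by simp; omega) 1
      obtain ⟨h', hh', hf', hx'⟩ := exists_reduce n (by omega) (by omega) _ (act (h * g) e) rfl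
        (by rw [herm_act, he1]) (act_mem_coordSub hF4 hfix hsub)
      refine ⟨h' * h, H.mul_mem hh' hh, ?_⟩
      have hn' : 6 - (k + 1) = n - 1 := by omega
      rw [hn', mul_assoc]
      intro l hl
      by_cases hln : n ≤ l.val
      · rw [act_mul, hfix l hln, hf' l hln]
      · have : l = ⟨n - 1, by omega⟩ := by
          apply Fin.ext
          simp
          omega
        rw [this, act_mul, hx']
  obtain ⟨h, hh, hfix⟩ := hstep 5 le_rfl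
  have h1 : h * g = 1 := by
    apply eq_one_of_fix hF4 0
    intro j hj
    apply hfix j
    have : j.val ≠ 0 := fun h => hj (Fin.ext h)
    omega
  have : g = h⁻¹ := (inv_eq_of_mul_eq_one_right h1).symm
  rw [this]
  exact H.inv_mem hh

end Cfsg.Agent.SporadicStructure.SU62
end

-- part: SporadicStructure/U62Tensor
section
/-!
Trilinear forms on `F₄⁶`: the 20-dimensional space over the field with two elements of "real" alternating trilinear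
forms, described by coefficients, and explicit checks of its invariance under the generators of `SU_6(2)`.
-/

set_option autoImplicit false

namespace Cfsg.Agent.SporadicStructure.U62Tensor

open Cfsg Matrix Cfsg.Agent.LieClassical.HermBasic Cfsg.Agent.LieClassical.HermSiegel
open Cfsg.Agent.SporadicA.FieldFour
open Cfsg.Agent.SporadicStructure.SU62

/-- The trilinear form with coefficients `t`. -/
def tri (t : Fin 6 → Fin 6 → Fin 6 → F4) (x y z : Fin 6 → F4) : F4 :=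
  ∑ i, x i * ∑ j, y j * ∑ m, z m * t i j m

theorem sum_swap {ι κ : Type*} (s : Finset ι) (s' : Finset κ) (p : ι → F4) (q : κ → F4)
    (R : ι → κ → F4) :
    ∑ i ∈ s, p i * ∑ b ∈ s', q b * R i b = ∑ b ∈ s', q b * ∑ i ∈ s, p i * R i b := by
  simp only [Finset.mul_sum]
  rw [Finset.sum_comm]
  refine Finset.sum_congr rfl fun b _ => Finset.sum_congr rfl fun i _ => ?_
  ring

theorem sum_act (g : SU 6 F4 2) (x A : Fin 6 → F4) :
    ∑ i, act g x i * A i = ∑ a, x a * ∑ i, mat g i a * A i := by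
  have h : ∀ i, act g x i * A i = ∑ a, x a * (mat g i a * A i) := by
    intro i
    rw [show act g x i = ∑ a, mat g i a * x a from rfl, Finset.sum_mul]
    refine Finset.sum_congr rfl fun a _ => ?_
    ring
  rw [Finset.sum_congr rfl fun i _ => h i, Finset.sum_comm]
  refine Finset.sum_congr rfl fun a _ => ?_
  rw [Finset.mul_sum]

/-- Codes of the three-element subsets, by masks: `1 + 2m + s`, `s` telling a subset from its complement. -/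
def codeT : List ℕ := [0, 0, 0, 0, 0, 0, 0, 1, 0, 0, 0, 3, 0, 9, 20, 0, 0, 0, 0, 5, 0, 11, 18, 0, 0, 15, 14, 0, 8, 0,
  0, 0, 0, 0, 0, 7, 0, 13, 16, 0, 0, 17, 12, 0, 6, 0, 0, 0, 0, 19, 10, 0, 4, 0, 0, 0, 2, 0, 0, 0, 0, 0, 0, 0]

/-- The code of `{i, j, m}`. -/
def code (i j m : Fin 6) : ℕ :=
  codeT.getD (Nat.lor (Nat.pow 2 i.val) (Nat.lor (Nat.pow 2 j.val) (Nat.pow 2 m.val))) 0

/-- The value of a code on a sequence of scalars. -/
def cval (a : ℕ → F4) : ℕ → F4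
  | 0 => 0
  | c + 1 => a (2 * (c / 2)) + a (2 * (c / 2) + 1) * (if c % 2 = 0 then F4.w else F4.v)

/-- The tensor with coordinates `a`. -/
def Tc (a : ℕ → F4) (i j m : Fin 6) : F4 := cval a (code i j m)

theorem code_le (i j m : Fin 6) : code i j m ≤ 20 := by
  revert i j m; decide +kernel

theorem cval_congr {a b : ℕ → F4} (h : ∀ k < 20, a k = b k) {c : ℕ} (hc : c ≤ 20) :
    cval a c = cval b c := by
  rcases c with _ | c
  · rfl
  · show a _ + a _ * _ = b _ + b _ * _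
    rw [h _ (by omega), h _ (by omega)]

theorem cval_sum (s : Finset ℕ) (co : ℕ → F4) (f : ℕ → ℕ → F4) (c : ℕ) :
    cval (fun k => ∑ l ∈ s, co l * f l k) c = ∑ l ∈ s, co l * cval (f l) c := by
  rcases c with _ | c
  · show (0 : F4) = ∑ l ∈ s, co l * 0
    simp
  · show (∑ l ∈ s, co l * f l (2 * (c / 2))) + (∑ l ∈ s, co l * f l (2 * (c / 2) + 1)) * _ =
      ∑ l ∈ s, co l * (f l (2 * (c / 2)) + f l (2 * (c / 2) + 1) * _)
    rw [Finset.sum_mul, ← Finset.sum_add_distrib]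
    exact Finset.sum_congr rfl fun l _ => by ring

theorem Tc_congr {a b : ℕ → F4} (h : ∀ k < 20, a k = b k) : Tc a = Tc b := by
  funext i j m
  exact cval_congr h (code_le i j m)

theorem Tc_sum (s : Finset ℕ) (co : ℕ → F4) (f : ℕ → ℕ → F4) (i j m : Fin 6) :
    Tc (fun k => ∑ l ∈ s, co l * f l k) i j m = ∑ l ∈ s, co l * Tc (f l) i j m :=
  cval_sum s co f _

/-- Unit coordinates. -/
def dl (l k : ℕ) : F4 := if k = l then 1 else 0

theorem Tc_eq_sum (a : ℕ → F4) (i j m : Fin 6) :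
    Tc a i j m = ∑ l ∈ Finset.range 20, a l * Tc (dl l) i j m := by
  rw [← Tc_sum]
  refine congrFun (congrFun (congrFun (Tc_congr fun k hk => ?_) i) j) m
  rw [Finset.sum_eq_single k]
  · rw [dl, if_pos rfl, mul_one]
  · intro l _ hl; rw [dl, if_neg (Ne.symm hl), mul_zero]
  · intro h; exact absurd (Finset.mem_range.mpr hk) h

/-- The coordinates of column `l` of a matrix of masks. -/
def colH (Hm : List ℕ) (l k : ℕ) : F4 := if (Hm.getD k 0).testBit l then 1 else 0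

/-- Sum of six values, computable. -/
def s6c (f : Fin 6 → F4) : F4 :=
  F4.add (f 0) (F4.add (f 1) (F4.add (f 2) (F4.add (f 3) (F4.add (f 4) (f 5)))))

theorem s6c_eq (f : Fin 6 → F4) : s6c f = ∑ i, f i := by
  rw [Fin.sum_univ_six]
  show f 0 + (f 1 + (f 2 + (f 3 + (f 4 + f 5)))) = _
  ring

/-- Pull back of a tensor. -/
def pull (g : Matrix (Fin 6) (Fin 6) F4) (t : Fin 6 → Fin 6 → Fin 6 → F4) (a b c : Fin 6) : F4 :=
  s6c fun i => F4.mul (g i a) (s6c fun j => F4.mul (g j b) (s6c fun m => F4.mul (g m c) (t i j m)))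

theorem pull_eq (g : Matrix (Fin 6) (Fin 6) F4) (t : Fin 6 → Fin 6 → Fin 6 → F4) (a b c : Fin 6) :
    pull g t a b c = ∑ i, g i a * ∑ j, g j b * ∑ m, g m c * t i j m := by
  unfold pull
  simp only [s6c_eq]
  rfl

theorem tri_act (g : SU 6 F4 2) (t : Fin 6 → Fin 6 → Fin 6 → F4) (x y z : Fin 6 → F4) :
    tri t (act g x) (act g y) (act g z) = tri (pull (mat g) t) x y z := by
  unfold tri
  rw [sum_act]
  refine Finset.sum_congr rfl fun a _ => ?_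
  congr 1
  have h1 : ∀ i, ∑ j, act g y j * ∑ m, act g z m * t i j m =
      ∑ b, y b * ∑ c, z c * ∑ j, mat g j b * ∑ m, mat g m c * t i j m := by
    intro i
    rw [sum_act]
    refine Finset.sum_congr rfl fun b _ => ?_
    congr 1
    have h0 : ∀ j, ∑ m, act g z m * t i j m = ∑ c, z c * ∑ m, mat g m c * t i j m :=
      fun j => sum_act g z _
    rw [Finset.sum_congr rfl fun j _ => by rw [h0 j], sum_swap]
  rw [Finset.sum_congr rfl fun i _ => by rw [h1 i], sum_swap]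
  refine Finset.sum_congr rfl fun b _ => ?_
  congr 1
  rw [sum_swap]
  refine Finset.sum_congr rfl fun c _ => ?_
  rw [pull_eq]

theorem pull_sum (g : Matrix (Fin 6) (Fin 6) F4) (s : Finset ℕ) (co : ℕ → F4)
    (t : ℕ → Fin 6 → Fin 6 → Fin 6 → F4) (a b c : Fin 6) :
    pull g (fun i j m => ∑ l ∈ s, co l * t l i j m) a b c = ∑ l ∈ s, co l * pull g (t l) a b c := by
  simp only [pull_eq]
  have e1 : ∀ i j : Fin 6, ∑ m, g m c * ∑ l ∈ s, co l * t l i j m =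
      ∑ l ∈ s, co l * ∑ m, g m c * t l i j m := fun i j => sum_swap _ _ _ _ _
  have e2 : ∀ i : Fin 6, ∑ j, g j b * ∑ m, g m c * ∑ l ∈ s, co l * t l i j m =
      ∑ l ∈ s, co l * ∑ j, g j b * ∑ m, g m c * t l i j m := by
    intro i
    rw [Finset.sum_congr rfl fun j _ => by rw [e1 i j], sum_swap]
  rw [Finset.sum_congr rfl fun i _ => by rw [e2 i], sum_swap]

/-- The check. -/
def starB (g : List (List ℕ)) (Hm : List ℕ) : Bool :=
  decide (∀ l : Fin 20, ∀ a b c : Fin 6,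
    pull (matOf g) (Tc (colH Hm l)) a b c = Tc (dl l) a b c)

def HA : List ℕ := [1, 2, 4, 8, 16, 32, 64, 128, 2883584, 524288, 3342336, 1179648, 3194880, 3178496, 12288, 3153920, 2100224, 1050624, 2097920, 512]

set_option maxRecDepth 100000 in
/-- The tensor identity from the check. -/
theorem pull_of_star {g : List (List ℕ)} {Hm : List ℕ} (h : starB g Hm = true) (f f' : ℕ → F4)
    (hf : ∀ k < 20, f' k = ∑ l ∈ Finset.range 20, f l * colH Hm l k) :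
    pull (matOf g) (Tc f') = Tc f := by
  have h1 : Tc f' = fun i j m => ∑ l ∈ Finset.range 20, f l * Tc (colH Hm l) i j m := by
    rw [Tc_congr hf]
    funext i j m
    exact Tc_sum _ _ _ i j m
  have h2 := of_decide_eq_true h
  funext a b c
  rw [h1, pull_sum, Tc_eq_sum]
  refine Finset.sum_congr rfl fun l hl => ?_
  rw [Finset.mem_range] at hl
  rw [h2 ⟨l, hl⟩ a b c]

theorem starA : starB tT HA = true := by decide +kernel

def HM : List ℕ := [2097153, 1048578, 1835784, 2621708, 3345440, 132144, 61568, 3182784, 1835532, 2622212, 3344432, 134160, 57536, 3190848, 28864, 2138240, 2165808, 1181728, 2360076, 3670536]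

theorem starM : starB tM HM = true := by decide +kernel


def HB : List ℕ := [64, 2097280, 3149824, 2105344, 3211264, 131072, 1310720, 3670016, 1097728, 2129920, 2100224, 2048, 1049344, 1049088, 3145776, 2097184, 2097164, 3145736, 3145731, 1048578]

theorem starC : starB tC HB = true := by decide +kernel

def HD : List ℕ := [1, 2, 4, 8, 16, 32, 64, 128, 3146496, 2097408, 2100224, 1024, 2109440, 1052672, 1097728, 16384, 3342336, 1114112, 3932160, 3407872]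

theorem starD : starB tD HD = true := by decide +kernel

/-! ### The kernel -/

theorem tri_single (t : Fin 6 → Fin 6 → Fin 6 → F4) (a b c : Fin 6) (α β γ : F4) :
    tri t (Pi.single a α) (Pi.single b β) (Pi.single c γ) = α * (β * (γ * t a b c)) := by
  unfold tri
  rw [Finset.sum_eq_single a, Finset.sum_eq_single b, Finset.sum_eq_single c]
  · simp
  · intro i _ hi; rw [Pi.single_eq_of_ne hi, zero_mul]
  · intro h; exact absurd (Finset.mem_univ _) h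
  · intro i _ hi; rw [Pi.single_eq_of_ne hi, zero_mul]
  · intro h; exact absurd (Finset.mem_univ _) h
  · intro i _ hi; rw [Pi.single_eq_of_ne hi, zero_mul]
  · intro h; exact absurd (Finset.mem_univ _) h

theorem tri_single₁ (t : Fin 6 → Fin 6 → Fin 6 → F4) (a : Fin 6) (y z : Fin 6 → F4) :
    tri t (Pi.single a 1) y z = ∑ j, y j * ∑ m, z m * t a j m := by
  unfold tri
  rw [Finset.sum_eq_single a]
  · simp
  · intro i _ hi; rw [Pi.single_eq_of_ne hi, zero_mul]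
  · intro h; exact absurd (Finset.mem_univ _) h

theorem tri_single₂₃ (t : Fin 6 → Fin 6 → Fin 6 → F4) (b c : Fin 6) (x : Fin 6 → F4) :
    tri t x (Pi.single b 1) (Pi.single c 1) = ∑ i, x i * t i b c := by
  unfold tri
  refine Finset.sum_congr rfl fun i _ => ?_
  congr 1
  rw [Finset.sum_eq_single b, Finset.sum_eq_single c]
  · simp
  · intro i _ hi; rw [Pi.single_eq_of_ne hi, zero_mul]
  · intro h; exact absurd (Finset.mem_univ _) h
  · intro i _ hi; rw [Pi.single_eq_of_ne hi, zero_mul]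
  · intro h; exact absurd (Finset.mem_univ _) h

theorem tri_comb (α : F4) (t t' : Fin 6 → Fin 6 → Fin 6 → F4) (x y z : Fin 6 → F4) :
    tri (fun i j m => α * t i j m + t' i j m) x y z = α * tri t x y z + tri t' x y z := by
  unfold tri
  simp only [Finset.mul_sum, ← Finset.sum_add_distrib]
  refine Finset.sum_congr rfl fun i _ => Finset.sum_congr rfl fun j _ =>
    Finset.sum_congr rfl fun m _ => ?_
  ring

/-- The indicator tensor of a code. -/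
def P (c : ℕ) (i j m : Fin 6) : F4 := if code i j m = c then 1 else 0

/-- The scalar needed for `P_eq`. -/
def al (c : ℕ) : F4 := if (c - 1) % 2 = 0 then F4.v else F4.w

theorem P_eq0 : ∀ c : Fin 20, ∀ i j m : Fin 6, P (c.val + 1) i j m =
    F4.add (F4.mul (al (c.val + 1)) (Tc (dl (2 * (c.val / 2))) i j m)) (Tc (dl (2 * (c.val / 2) + 1)) i j m) := by
  decide +kernel

theorem P_eq (c : ℕ) (hc : c < 20) : P (c + 1) = fun i j m =>
    al (c + 1) * Tc (dl (2 * (c / 2))) i j m + Tc (dl (2 * (c / 2) + 1)) i j m := by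
  funext i j m
  exact P_eq0 ⟨c, hc⟩ i j m

theorem code_distinct : ∀ d b c : Fin 6, d ≠ b → d ≠ c → b ≠ c → ∀ i : Fin 6,
    code d b c ≠ 0 ∧ (code i b c = code d b c ↔ i = d) := by decide +kernel

/-- The mask of three elements. -/
def mask (i j m : Fin 6) : ℕ := Nat.lor (Nat.pow 2 i.val) (Nat.lor (Nat.pow 2 j.val) (Nat.pow 2 m.val))

/-- Masks of codes. -/
def inv (c : ℕ) : ℕ := codeT.idxOf c

theorem inv_code : ∀ i j m : Fin 6, code i j m ≠ 0 → inv (code i j m) = mask i j m := by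
  decide +kernel

theorem mask_self : ∀ i j m : Fin 6, (mask i j m).testBit i.val = true := by decide +kernel

theorem mask_mem : ∀ i j m p : Fin 6, (mask i j m).testBit p.val = true → p = i ∨ p = j ∨ p = m := by
  decide +kernel

theorem code_ne {d b c p : Fin 6} (j m : Fin 6) (h0 : code d b c ≠ 0) (h1 : p ≠ d) (h2 : p ≠ b)
    (h3 : p ≠ c) : code p j m ≠ code d b c := by
  intro h
  have e1 := inv_code d b c h0
  have e2 := inv_code p j m (h ▸ h0)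
  rw [h, e1] at e2
  have := mask_self p j m
  rw [← e2] at this
  rcases mask_mem d b c p this with h | h | h
  · exact h1 h
  · exact h2 h
  · exact h3 h

theorem exists_two_others : ∀ d p : Fin 6, d ≠ p →
    ∃ b c : Fin 6, b ≠ c ∧ b ≠ d ∧ b ≠ p ∧ c ≠ d ∧ c ≠ p := by decide

/-- An element preserving the twenty forms is central. -/
theorem mem_center_of_inv (g : SU 6 F4 2) (hg : ∀ k < 20, ∀ x y z : Fin 6 → F4,
    tri (Tc (dl k)) (act g x) (act g y) (act g z) = tri (Tc (dl k)) x y z) :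
    g ∈ Subgroup.center (SU 6 F4 2) := by
  -- pass to the inverse
  have h1 : ∀ c : ℕ, c ≠ 0 → c ≤ 20 → ∀ x y z : Fin 6 → F4,
      tri (P c) (act g⁻¹ x) (act g⁻¹ y) (act g⁻¹ z) = tri (P c) x y z := by
    intro c hc0 hc x y z
    obtain ⟨c, rfl⟩ : ∃ c', c = c' + 1 := ⟨c - 1, by omega⟩
    have k1 := hg (2 * (c / 2)) (by omega) (act g⁻¹ x) (act g⁻¹ y) (act g⁻¹ z)
    have k2 := hg (2 * (c / 2) + 1) (by omega) (act g⁻¹ x) (act g⁻¹ y) (act g⁻¹ z)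
    rw [act_act_inv, act_act_inv, act_act_inv] at k1 k2
    rw [P_eq c (by omega), tri_comb, tri_comb, k1, k2]
  have h2 : ∀ p d : Fin 6, d ≠ p → act g⁻¹ (Pi.single p 1) d = 0 := by
    intro p d hdp
    obtain ⟨b, c, hbc, hbd, hbp, hcd, hcp⟩ := exists_two_others d p hdp
    obtain ⟨hC0, -⟩ := code_distinct d b c (Ne.symm hbd) (Ne.symm hcd) hbc d
    have e1 := h1 (code d b c) hC0 (code_le d b c) (Pi.single p 1) (act g (Pi.single b 1))
      (act g (Pi.single c 1))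
    rw [act_inv_act, act_inv_act, tri_single₂₃, tri_single₁] at e1
    rw [Finset.sum_eq_single d] at e1
    · rw [P, if_pos rfl, mul_one] at e1
      rw [e1]
      refine Finset.sum_eq_zero fun j _ => ?_
      rw [Finset.sum_eq_zero, mul_zero]
      intro m _
      rw [P, if_neg (code_ne j m hC0 (Ne.symm hdp) (Ne.symm hbp) (Ne.symm hcp)), mul_zero]
    · intro i _ hi
      rw [P, if_neg (fun h => hi (((code_distinct d b c (Ne.symm hbd) (Ne.symm hcd) hbc i).2).mp h)),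
        mul_zero]
    · intro h; exact absurd (Finset.mem_univ _) h
  -- diagonal entries
  set lam : Fin 6 → F4 := fun p => act g⁻¹ (Pi.single p 1) p with hlam
  have h3 : ∀ p, act g⁻¹ (Pi.single p 1) = Pi.single p (lam p) := by
    intro p
    funext d
    by_cases hd : d = p
    · subst hd; rw [Pi.single_eq_same]
    · rw [Pi.single_eq_of_ne hd, h2 p d hd]
  have h4 : ∀ a b c : Fin 6, a ≠ b → a ≠ c → b ≠ c → lam a * (lam b * lam c) = 1 := by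
    intro a b c hab hac hbc
    obtain ⟨hC0, -⟩ := code_distinct a b c hab hac hbc a
    have e1 := h1 (code a b c) hC0 (code_le a b c) (Pi.single a 1) (Pi.single b 1) (Pi.single c 1)
    rw [h3, h3, h3, tri_single, tri_single, P, if_pos rfl] at e1
    simpa using e1
  have h5 : ∀ a d : Fin 6, lam a = lam d := by
    intro a d
    by_cases had : a = d
    · rw [had]
    · obtain ⟨b, c, hbc, hba, hbd, hca, hcd⟩ := exists_two_others a d had
      have e1 := h4 a b c (Ne.symm hba) (Ne.symm hca) hbc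
      have e2 := h4 d b c (Ne.symm hbd) (Ne.symm hcd) hbc
      have e3 : lam b * lam c ≠ 0 := by
        intro h; rw [h, mul_zero] at e1; exact zero_ne_one e1
      exact mul_right_cancel₀ e3 (e1.trans e2.symm)
  have h6 : ∀ x : Fin 6 → F4, act g⁻¹ x = lam 0 • x := by
    intro x
    have hx : x = ∑ p, x p • (Pi.single p 1 : Fin 6 → F4) := by
      funext d
      rw [Finset.sum_apply, Finset.sum_eq_single d]
      · rw [Pi.smul_apply, Pi.single_eq_same, smul_eq_mul, mul_one]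
      · intro p _ hp; rw [Pi.smul_apply, Pi.single_eq_of_ne (Ne.symm hp), smul_zero]
      · intro h; exact absurd (Finset.mem_univ _) h
    conv_lhs => rw [hx]
    conv_rhs => rw [hx]
    rw [act_sum, Finset.smul_sum]
    refine Finset.sum_congr rfl fun p _ => ?_
    rw [act_smul, h3, h5 p 0, smul_comm]
    congr 1
    funext d
    by_cases hd : d = p
    · subst hd; simp
    · rw [Pi.smul_apply, Pi.single_eq_of_ne hd, Pi.single_eq_of_ne hd, smul_zero]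
  have h7 : g⁻¹ ∈ Subgroup.center (SU 6 F4 2) := by
    rw [Subgroup.mem_center_iff]
    intro B
    apply ext_act
    intro v
    rw [act_mul, act_mul, h6, h6, act_smul]
  exact (Subgroup.inv_mem_iff _).mp h7

end Cfsg.Agent.SporadicStructure.U62Tensor
end

-- part: SporadicStructure/U62Func
section
/-!
Twenty functionals on the sublattice of vectors orthogonal modulo 16 to two minimal vectors, and their
transformation under four automorphisms.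
-/

set_option autoImplicit false

namespace Cfsg.Agent.SporadicStructure.U62Func

open Cfsg Cfsg.Agent.LieClassical.HermSiegel
open Cfsg.Agent.SporadicA Cfsg.Agent.SporadicA.FieldFour
open Cfsg.Agent.SporadicStructure.SU62 Cfsg.Agent.SporadicStructure.U62Tensor
open Cfsg.Agent.SporadicStructure.Co0Matrix (vec vec_apply dotL dotInt_vec leechB vec_mem_of_leechB Ok mk mk_coe
  mk_dot act_vec act_mem dotInt_comm dotInt_add_left)

/-- The twenty vectors. -/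
def ys : List (List ℤ) := [
  [0, 0, 0, -2, 0, -2, 0, 0, 0, 2, 0, 2, -2, 2, 0, -2, 0, -4, 0, 0, 0, 0, -2, 0],
  [0, 0, 0, 2, 0, -4, 0, 0, -2, 0, 0, 0, -2, 0, 0, -2, -2, -2, 0, 0, -2, 0, -2, 0],
  [0, 0, 0, -2, 0, 2, 0, 0, 0, -2, 0, -2, 2, 2, 0, -2, 0, 0, 0, 0, -4, 0, -2, 0],
  [0, 0, 0, -2, 0, 0, 0, 0, 2, -4, 0, 0, 2, 0, 0, 2, -2, -2, 0, 0, -2, 0, -2, 0],
  [0, 0, 0, 2, 0, 0, 2, -2, 2, 0, 0, -2, 4, -2, 0, 0, 0, 2, 0, 0, 0, 0, 2, 0],
  [0, 0, 0, 4, 0, -2, 0, -2, 0, 0, 0, -2, 2, 0, 0, 0, -2, 2, 0, 2, 0, 0, -2, 0],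
  [0, 0, 0, 2, 0, 0, -2, 2, 2, 0, 0, -2, 4, -2, 0, 0, 0, 2, 0, 0, 0, 0, 2, 0],
  [0, 0, 0, 0, 0, 2, 4, -2, 0, 0, 0, 2, -2, 0, 0, 0, -2, 2, 0, -2, 0, 0, -2, 0],
  [0, 0, 0, 2, -2, 2, 0, 0, 0, 0, 0, 0, 4, -2, 2, 0, -2, 2, 0, 0, 0, 0, 2, 0],
  [0, 0, 0, 2, 0, -2, 0, 0, -2, 0, 0, -2, 2, 0, 2, 0, -4, 2, 2, 0, 0, 0, 0, 0],
  [1, 1, -1, -1, -1, 3, 1, 1, 3, -1, -1, 1, 1, -1, -1, -1, 1, 1, 1, 1, 1, -1, 3, 1],
  [0, 0, -2, 2, 0, -2, 0, 0, -2, 0, -2, -2, -2, 2, 0, 0, -2, -2, 0, 0, 0, -2, -2, 0],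
  [1, 1, -1, -3, 1, 1, 1, 1, 1, 1, 1, 3, -1, 1, 1, 1, 3, -1, -1, 1, -1, -1, 1, 1],
  [0, 0, 2, 2, 0, -2, 0, 0, -2, 0, -2, -2, -2, 2, 0, 0, -2, -2, 0, 0, 0, 2, -2, 0],
  [1, 1, -1, 1, 1, 1, -1, -1, 1, -1, -1, -1, 3, -3, 1, -1, -1, 3, -1, -1, 1, 1, 1, 1],
  [0, 0, -2, -2, 0, -2, 0, 0, -2, 0, -2, 2, -2, 2, 0, 0, 2, -2, 0, 0, 0, 2, -2, 0],
  [1, 1, -1, -1, -1, 3, -1, -1, 3, 1, 1, 1, 1, -1, -1, 1, 1, 1, 1, -1, -1, 1, 3, 1],
  [0, 0, -2, -2, 0, 2, 0, 0, 2, 0, 2, 2, -2, 2, 0, 0, 2, -2, 0, 0, 0, 2, 2, 0],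
  [0, 0, 0, 0, 2, 0, 0, 0, -2, 0, 0, 2, 2, 2, -4, 0, -2, 0, -2, 0, 0, 0, 2, 0],
  [0, 0, 0, -2, 0, 2, 0, 0, 2, 0, 0, 2, -2, 0, 2, 0, 4, -2, 2, 0, 0, 0, 0, 0]]

/-- The dual vectors. -/
def us : List (List ℤ) := [
  [0, 0, 0, 2, 0, -4, 0, 0, -2, 0, 0, 0, -2, 0, 0, -2, -2, -2, 0, 0, -2, 0, -2, 0],
  [0, 0, 0, -2, 0, -2, 0, 0, 0, 2, 0, 2, -2, 2, 0, -2, 0, -4, 0, 0, 0, 0, -2, 0],
  [0, 0, 0, -2, 0, 0, 0, 0, 2, -4, 0, 0, 2, 0, 0, 2, -2, -2, 0, 0, -2, 0, -2, 0],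
  [0, 0, 0, -2, 0, 2, 0, 0, 0, -2, 0, -2, 2, 2, 0, -2, 0, 0, 0, 0, -4, 0, -2, 0],
  [0, 0, 0, 4, 0, -2, 0, -2, 0, 0, 0, -2, 2, 0, 0, 0, -2, 2, 0, 2, 0, 0, -2, 0],
  [0, 0, 0, 2, 0, 0, 2, -2, 2, 0, 0, -2, 4, -2, 0, 0, 0, 2, 0, 0, 0, 0, 2, 0],
  [0, 0, 0, 0, 0, 2, 4, -2, 0, 0, 0, 2, -2, 0, 0, 0, -2, 2, 0, -2, 0, 0, -2, 0],
  [0, 0, 0, 2, 0, 0, -2, 2, 2, 0, 0, -2, 4, -2, 0, 0, 0, 2, 0, 0, 0, 0, 2, 0],
  [0, 0, 0, 2, 0, -2, 0, 0, -2, 0, 0, -2, 2, 0, 2, 0, -4, 2, 2, 0, 0, 0, 0, 0],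
  [0, 0, 0, 2, -2, 2, 0, 0, 0, 0, 0, 0, 4, -2, 2, 0, -2, 2, 0, 0, 0, 0, 2, 0],
  [0, 0, -2, 2, 0, -2, 0, 0, -2, 0, -2, -2, -2, 2, 0, 0, -2, -2, 0, 0, 0, -2, -2, 0],
  [1, 1, -1, -1, -1, 3, 1, 1, 3, -1, -1, 1, 1, -1, -1, -1, 1, 1, 1, 1, 1, -1, 3, 1],
  [0, 0, 2, 2, 0, -2, 0, 0, -2, 0, -2, -2, -2, 2, 0, 0, -2, -2, 0, 0, 0, 2, -2, 0],
  [1, 1, -1, -3, 1, 1, 1, 1, 1, 1, 1, 3, -1, 1, 1, 1, 3, -1, -1, 1, -1, -1, 1, 1],
  [0, 0, -2, -2, 0, -2, 0, 0, -2, 0, -2, 2, -2, 2, 0, 0, 2, -2, 0, 0, 0, 2, -2, 0],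
  [1, 1, -1, 1, 1, 1, -1, -1, 1, -1, -1, -1, 3, -3, 1, -1, -1, 3, -1, -1, 1, 1, 1, 1],
  [0, 0, -2, -2, 0, 2, 0, 0, 2, 0, 2, 2, -2, 2, 0, 0, 2, -2, 0, 0, 0, 2, 2, 0],
  [1, 1, -1, -1, -1, 3, -1, -1, 3, 1, 1, 1, 1, -1, -1, 1, 1, 1, 1, -1, -1, 1, 3, 1],
  [0, 0, 0, -2, 0, 2, 0, 0, 2, 0, 0, 2, -2, 0, 2, 0, 4, -2, 2, 0, 0, 0, 0, 0],
  [0, 0, 0, 0, 2, 0, 0, 0, -2, 0, 0, 2, 2, 2, -4, 0, -2, 0, -2, 0, 0, 0, 2, 0]]

/-- `(4, -4, 0, …)` on `∞, 0`. -/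
def v0L : List ℤ := [-4, 0, 0, 0, 0, 0, 0, 0, 0, 0, 0, 0, 0, 0, 0, 0, 0, 0, 0, 0, 0, 0, 0, 4]

/-- `(4, -4)` on `0, 1`. -/
def w0L : List ℤ := [4, -4, 0, 0, 0, 0, 0, 0, 0, 0, 0, 0, 0, 0, 0, 0, 0, 0, 0, 0, 0, 0, 0, 0]

/-! ### Sums of lists -/

/-- Sum of two lists. -/
def addL : List ℤ → List ℤ → List ℤ
  | a :: s, b :: t => (a + b) :: addL s t
  | [], t => t
  | s, [] => s

theorem getD_addL (s t : List ℤ) : ∀ i : ℕ, (addL s t).getD i 0 = s.getD i 0 + t.getD i 0 := by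
  induction s generalizing t with
  | nil => intro i; cases t <;> simp [addL]
  | cons a s ih =>
    intro i
    cases t with
    | nil => simp [addL]
    | cons b t =>
      cases i with
      | zero => simp [addL]
      | succ i => simpa [addL] using ih t i

theorem vec_addL (s t : List ℤ) : vec (addL s t) = vec s + vec t := by
  funext p
  rw [Pi.add_apply, vec_apply, vec_apply, vec_apply, getD_addL]

/-- The sum of the lists selected by a mask. -/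
def combL : List (List ℤ) → ℕ → List ℤ
  | [], _ => []
  | y :: ys, m => if m % 2 = 1 then addL y (combL ys (m / 2)) else combL ys (m / 2)

theorem vec_nil : vec [] = 0 := by
  funext p; rw [vec_apply]; rfl

/-- Inner product with a selected sum. -/
theorem dot_combL (u : GolayPt → ℤ) (l : List (List ℤ)) : ∀ m : ℕ,
    dotInt u (vec (combL l m)) =
      ∑ k ∈ Finset.range l.length, if m.testBit k then dotInt u (vec (l.getD k [])) else 0 := by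
  induction l with
  | nil =>
    intro m
    rw [combL, vec_nil, dotInt_comm, Co0Matrix.dotInt_zero_left]
    simp
  | cons y l ih =>
    intro m
    rw [List.length_cons, Finset.sum_range_succ']
    have h : ∀ k, (if m.testBit (k + 1) = true then dotInt u (vec ((y :: l).getD (k + 1) [])) else 0) =
        if (m / 2).testBit k = true then dotInt u (vec (l.getD k [])) else 0 := by
      intro k
      rw [Nat.testBit_succ]
      rfl
    rw [Finset.sum_congr rfl fun k _ => h k, ← ih]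
    by_cases hm : m % 2 = 1
    · have h0 : m.testBit 0 = true := by rw [Nat.testBit_zero]; exact decide_eq_true hm
      rw [combL, if_pos hm, if_pos h0, vec_addL, dotInt_comm, dotInt_add_left, dotInt_comm, add_comm,
        dotInt_comm (vec (combL l (m / 2)))]
      rfl
    · have h0 : ¬ m.testBit 0 = true := by
        rw [Nat.testBit_zero]; exact fun h => hm (of_decide_eq_true h)
      rw [combL, if_neg hm, if_neg h0, add_zero]

/-! ### The functionals -/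

/-- All 22 vectors. -/
def all22 : List (List ℤ) := ys ++ [v0L, w0L]

theorem ys_leech : (all22.all leechB) = true := by decide +kernel

theorem getD_all22 {k : ℕ} (hk : k < 22) : vec (all22.getD k []) ∈ leechLattice := by
  apply vec_mem_of_leechB
  exact List.all_eq_true.mp ys_leech _ (Co0Matrix.getD_mem_of_lt _ _ hk)

theorem all22_ys {k : ℕ} (hk : k < 20) : all22.getD k [] = ys.getD k [] := by
  unfold all22
  rw [List.getD_append _ _ _ _ (show k < ys.length from hk)]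

theorem ys_mem {k : ℕ} (hk : k < 20) : vec (ys.getD k []) ∈ leechLattice := by
  rw [← all22_ys hk]; exact getD_all22 (by omega)

theorem v0_mem : vec v0L ∈ leechLattice := getD_all22 (k := 20) (by norm_num)

theorem w0_mem : vec w0L ∈ leechLattice := getD_all22 (k := 21) (by norm_num)

/-- The functional of `y`, with values in `F₂ ⊆ F₄`. -/
def fv (u y : GolayPt → ℤ) : F4 := ((dotInt u y / 8 : ℤ) : F4)

/-- The twenty functionals. -/
def fs (u : GolayPt → ℤ) (k : ℕ) : F4 := fv u (vec (ys.getD k []))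

theorem two_cast : ((2 : ℤ) : F4) = 0 := by
  rw [Int.cast_ofNat, ← one_add_one_eq_two]; exact add_self 1

theorem cast_even (n : ℤ) (h : (2 : ℤ) ∣ n) : (n : F4) = 0 := by
  obtain ⟨m, rfl⟩ := h
  rw [Int.cast_mul, two_cast, zero_mul]

/-- Half of a difference. -/
def halfL (z c : List ℤ) : List ℤ := List.zipWith (fun a b => (a - b) / 2) z c

/-- The check that the adjoint of the automorphism acts on the twenty vectors by the masks `Hm`,
modulo twice the lattice. -/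
def certB (C : List (List ℤ)) (Hm : List ℕ) : Bool :=
  (List.range 20).all fun k =>
    let z := C.map fun r => dotL (ys.getD k []) r / 8
    let c := combL all22 (Hm.getD k 0)
    leechB (halfL z c) && decide (z = addL c (addL (halfL z c) (halfL z c)))

theorem certA : certB U62Data.CA HA = true := by decide +kernel
theorem certC : certB U62Data.CB HB = true := by decide +kernel
theorem certD : certB U62Data.CD HD = true := by decide +kernel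
theorem certM : certB U62Data.CM HM = true := by decide +kernel

theorem ys_len {k : ℕ} (hk : k < 20) : (ys.getD k []).length ≤ 24 := by
  have h := List.all_eq_true.mp ys_leech _ (Co0Matrix.getD_mem_of_lt all22 [] (show k < 22 by omega))
  rw [all22_ys hk] at h
  simp only [leechB, Bool.and_eq_true] at h
  exact (Nat.eq_of_beq_eq_true h.1.1.1).le

theorem fs_act {R C : List (List ℤ)} (h : Ok R C) {Hm : List ℕ} (hc : certB C Hm = true)
    (u : leechLattice) (hv : (16 : ℤ) ∣ dotInt (u : GolayPt → ℤ) (vec v0L))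
    (hw : (16 : ℤ) ∣ dotInt (u : GolayPt → ℤ) (vec w0L)) (k : ℕ) (hk : k < 20) :
    fs ((mk h).1 u : leechLattice) k = ∑ l ∈ Finset.range 20, fs u l * colH Hm l k := by
  have h1 := List.all_eq_true.mp hc k (List.mem_range.mpr hk)
  simp only [Bool.and_eq_true] at h1
  obtain ⟨h2, h3⟩ := h1
  have h3 := of_decide_eq_true h3
  set z := C.map fun r => dotL (ys.getD k []) r / 8 with hz
  set c := combL all22 (Hm.getD k 0) with hcc
  set d := halfL z c with hd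
  have hdm : vec d ∈ leechLattice := vec_mem_of_leechB h2
  have e1 : dotInt (((mk h).1 u : leechLattice) : GolayPt → ℤ) (vec (ys.getD k [])) =
      dotInt (u : GolayPt → ℤ) (vec z) := by
    rw [mk_dot h u _ (ys_mem hk), act_vec h.lenC (ys_len hk)]
  have e2 : dotInt (u : GolayPt → ℤ) (vec z) =
      dotInt (u : GolayPt → ℤ) (vec c) + 2 * dotInt (u : GolayPt → ℤ) (vec d) := by
    rw [h3, vec_addL, vec_addL, dotInt_comm, dotInt_add_left, dotInt_add_left, dotInt_comm (vec c),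
      dotInt_comm (vec d)]
    ring
  -- divide by eight
  have hdiv : ∀ y ∈ leechLattice, 8 * (dotInt (u : GolayPt → ℤ) y / 8) = dotInt (u : GolayPt → ℤ) y :=
    fun y hy => Int.mul_ediv_cancel' (Cfsg.Agent.Leech.Basic.eight_dvd_dotInt u.2 hy)
  have e3 : dotInt (u : GolayPt → ℤ) (vec z) / 8 =
      (∑ l ∈ Finset.range 22, if (Hm.getD k 0).testBit l then
        dotInt (u : GolayPt → ℤ) (vec (all22.getD l [])) / 8 else 0) +
      2 * (dotInt (u : GolayPt → ℤ) (vec d) / 8) := by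
    apply Int.ediv_eq_of_eq_mul_right (by norm_num)
    rw [mul_add, Finset.mul_sum, e2, hcc, dot_combL, mul_left_comm, hdiv _ hdm]
    congr 1
    refine Finset.sum_congr rfl fun l hl => ?_
    have hl : l < 22 := Finset.mem_range.mp hl
    split_ifs
    · rw [hdiv _ (getD_all22 hl)]
    · simp
  have hv' : (2 : ℤ) ∣ dotInt (u : GolayPt → ℤ) (vec v0L) / 8 := by
    obtain ⟨m, hm⟩ := hv; rw [hm]; exact ⟨m, by omega⟩
  have hw' : (2 : ℤ) ∣ dotInt (u : GolayPt → ℤ) (vec w0L) / 8 := by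
    obtain ⟨m, hm⟩ := hw; rw [hm]; exact ⟨m, by omega⟩
  show fv _ _ = _
  unfold fv
  rw [e1, e3, Int.cast_add, Int.cast_mul, two_cast, zero_mul, add_zero, Finset.sum_range_succ,
    Finset.sum_range_succ, Int.cast_add, Int.cast_add, Int.cast_sum]
  have g20 : all22.getD 20 [] = v0L := rfl
  have g21 : all22.getD 21 [] = w0L := rfl
  rw [g20, g21]
  have f1 : (((if (Hm.getD k 0).testBit 20 = true then dotInt (u : GolayPt → ℤ) (vec v0L) / 8 else 0 : ℤ)) : F4) = 0 := by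
    split_ifs
    · exact cast_even _ hv'
    · exact Int.cast_zero
  have f2 : (((if (Hm.getD k 0).testBit 21 = true then dotInt (u : GolayPt → ℤ) (vec w0L) / 8 else 0 : ℤ)) : F4) = 0 := by
    split_ifs
    · exact cast_even _ hw'
    · exact Int.cast_zero
  rw [f1, f2, add_zero, add_zero]
  refine Finset.sum_congr rfl fun l hl => ?_
  have hl : l < 20 := Finset.mem_range.mp hl
  rw [colH, all22_ys hl]
  split_ifs
  · rw [mul_one]; rfl
  · rw [mul_zero]; exact Int.cast_zero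

/-! ### Dual vectors -/

/-- The check of the dual vectors. -/
def dualB : Bool := (List.range 20).all fun k =>
  leechB (us.getD k []) && decide (dotL (us.getD k []) v0L % 16 = 0) &&
    decide (dotL (us.getD k []) w0L % 16 = 0) && (List.range 20).all fun l =>
      decide (dotL (us.getD k []) (ys.getD l []) / 8 % 2 = if l = k then 1 else 0)

theorem dual_ok : dualB = true := by decide +kernel

theorem exists_dual (k : ℕ) (hk : k < 20) : ∃ u : leechLattice,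
    (16 : ℤ) ∣ dotInt (u : GolayPt → ℤ) (vec v0L) ∧ (16 : ℤ) ∣ dotInt (u : GolayPt → ℤ) (vec w0L) ∧
      ∀ l < 20, fs u l = dl k l := by
  have h := List.all_eq_true.mp dual_ok k (List.mem_range.mpr hk)
  simp only [Bool.and_eq_true] at h
  obtain ⟨⟨⟨h1, h2⟩, h3⟩, h4⟩ := h
  have hlen : (us.getD k []).length ≤ 24 := by
    have h := h1
    simp only [leechB, Bool.and_eq_true] at h
    exact (Nat.eq_of_beq_eq_true h.1.1.1).le
  refine ⟨⟨vec (us.getD k []), vec_mem_of_leechB h1⟩, ?_, ?_, ?_⟩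
  · show (16 : ℤ) ∣ dotInt (vec (us.getD k [])) (vec v0L)
    rw [dotInt_vec _ _ hlen]
    exact Int.dvd_of_emod_eq_zero (of_decide_eq_true h2)
  · show (16 : ℤ) ∣ dotInt (vec (us.getD k [])) (vec w0L)
    rw [dotInt_vec _ _ hlen]
    exact Int.dvd_of_emod_eq_zero (of_decide_eq_true h3)
  · intro l hl
    have h5 := of_decide_eq_true (List.all_eq_true.mp h4 l (List.mem_range.mpr hl))
    show (((dotInt (vec (us.getD k [])) (vec (ys.getD l [])) / 8 : ℤ)) : F4) = dl k l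
    rw [dotInt_vec _ _ hlen, dl]
    set n := dotL (us.getD k []) (ys.getD l []) / 8 with hn
    by_cases hlk : l = k
    · rw [if_pos hlk] at h5 ⊢
      have : n = 1 + 2 * (n / 2) := by omega
      rw [this, Int.cast_add, Int.cast_mul, two_cast, zero_mul, add_zero, Int.cast_one]
    · rw [if_neg hlk] at h5 ⊢
      exact cast_even _ (Int.dvd_of_emod_eq_zero h5)

end Cfsg.Agent.SporadicStructure.U62Func
end

-- part: SporadicStructure/U62Gamma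
section
/-!
The joint stabiliser of two explicit minimal vectors of inner product `-16` is `PSU_6(2)`, given its order.
-/

set_option autoImplicit false

namespace Cfsg.Agent.SporadicStructure.U62Gamma

open Cfsg Cfsg.Agent.LieClassical.HermSiegel
open Cfsg.Agent.SporadicA Cfsg.Agent.SporadicA.FieldFour
open Cfsg.Agent.SporadicStructure.SU62 Cfsg.Agent.SporadicStructure.U62Tensor
  Cfsg.Agent.SporadicStructure.U62Func Cfsg.Agent.SporadicStructure.U62Data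
open Cfsg.Agent.SporadicStructure.Co0Matrix (vec vec_apply dotL dotInt_vec leechB vec_mem_of_leechB Ok mk mk_coe
  mk_dot act_vec act_mem dotInt_comm dotInt_add_left)

/-! ### An abstract matching lemma -/

/-- A correspondence between two finite groups gives an isomorphism with a central quotient. -/
theorem iso_of_corr {S L : Type*} [Group S] [Group L] [Finite S] [Finite L] (Γ : Subgroup (S × L))
    (h1 : ∀ s, ∃ l, (s, l) ∈ Γ) (h2 : ∀ s, (s, 1) ∈ Γ → s ∈ Subgroup.center S)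
    (hc : Nat.card L ≤ Nat.card (S ⧸ Subgroup.center S)) :
    Nonempty (L ≃* S ⧸ Subgroup.center S) := by
  let f1 : Γ →* S := (MonoidHom.fst S L).comp Γ.subtype
  let f2 : Γ →* L := (MonoidHom.snd S L).comp Γ.subtype
  have hf1 : Function.Surjective f1 := fun s => by
    obtain ⟨l, hl⟩ := h1 s
    exact ⟨⟨(s, l), hl⟩, rfl⟩
  have c1 : Nat.card S * Nat.card f1.ker = Nat.card Γ := by
    rw [← f1.ker.card_eq_card_quotient_mul_card_subgroup.symm, Nat.card_congr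
      (QuotientGroup.quotientKerEquivOfSurjective f1 hf1).toEquiv]
  have c2 : Nat.card f2.range * Nat.card f2.ker = Nat.card Γ := by
    rw [← f2.ker.card_eq_card_quotient_mul_card_subgroup.symm, Nat.card_congr
      (QuotientGroup.quotientKerEquivRange f2).toEquiv]
  have c3 : Nat.card (S ⧸ Subgroup.center S) * Nat.card (Subgroup.center S) = Nat.card S :=
    (Subgroup.center S).card_eq_card_quotient_mul_card_subgroup.symm
  have c4 : Nat.card f2.ker ≤ Nat.card (Subgroup.center S) := by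
    let j : f2.ker → Subgroup.center S := fun x => ⟨f1 x.1, h2 _ (by
      have h : f2 x.1 = 1 := x.2
      have : ((f1 x.1, 1) : S × L) = x.1.1 := Prod.ext rfl h.symm
      rw [this]; exact x.1.2)⟩
    refine Nat.card_le_card_of_injective j fun x y hxy => ?_
    apply Subtype.ext
    apply Subtype.ext
    have hx : f2 x.1 = 1 := x.2
    have hy : f2 y.1 = 1 := y.2
    exact Prod.ext (congrArg Subtype.val hxy) (hx.trans hy.symm)
  have c5 : Nat.card f2.range ≤ Nat.card L :=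
    Nat.card_le_card_of_injective _ Subtype.val_injective
  have p0 : 0 < Nat.card S := Nat.card_pos
  have p1 : 0 < Nat.card f1.ker := Nat.card_pos
  have p2 : 0 < Nat.card (Subgroup.center S) := Nat.card_pos
  have p3 : 0 < Nat.card f2.ker := Nat.card_pos
  have p4 : 0 < Nat.card f2.range := Nat.card_pos
  -- all inequalities are equalities
  have hle : Nat.card f2.range * Nat.card f2.ker ≤ Nat.card S := by
    rw [← c3]
    exact Nat.mul_le_mul (c5.trans hc) c4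
  have k1 : Nat.card f1.ker = 1 := by
    rw [c2, ← c1] at hle
    by_contra hne
    have : 2 ≤ Nat.card f1.ker := by omega
    have := Nat.mul_le_mul_left (Nat.card S) this
    omega
  have hS : Nat.card Γ = Nat.card S := by rw [← c1, k1, mul_one]
  have k2 : Nat.card f2.ker = Nat.card (Subgroup.center S) := by
    apply le_antisymm c4
    by_contra hlt
    rw [not_le] at hlt
    have : Nat.card f2.range * Nat.card f2.ker <
        Nat.card (S ⧸ Subgroup.center S) * Nat.card (Subgroup.center S) :=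
      Nat.mul_lt_mul_of_le_of_lt (c5.trans hc) hlt (p4.trans_le (c5.trans hc))
    rw [c2, c3, hS] at this
    exact lt_irrefl _ this
  have k3 : Nat.card f2.range = Nat.card L := by
    apply le_antisymm c5
    apply hc.trans
    have : Nat.card f2.range * Nat.card f2.ker =
        Nat.card (S ⧸ Subgroup.center S) * Nat.card f2.ker := by
      rw [c2, k2, c3, hS]
    exact (Nat.eq_of_mul_eq_mul_right p3 this).ge
  have hinj : Function.Injective f1 := by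
    rw [← MonoidHom.ker_eq_bot_iff]
    exact Subgroup.card_eq_one.mp k1
  have hsurj : Function.Surjective f2 := by
    rw [← MonoidHom.range_eq_top]
    exact Subgroup.eq_top_of_card_eq _ k3
  let e1 : Γ ≃* S := MulEquiv.ofBijective f1 ⟨hinj, hf1⟩
  let φ : S →* L := f2.comp e1.symm.toMonoidHom
  have hφ : Function.Surjective φ := hsurj.comp e1.symm.surjective
  have hker : φ.ker ≤ Subgroup.center S := by
    intro s hs
    have h : f2 (e1.symm s) = 1 := hs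
    apply h2
    have h' : f1 (e1.symm s) = s := e1.apply_symm_apply s
    have : ((s, 1) : S × L) = (e1.symm s).1 := Prod.ext h'.symm h.symm
    rw [this]; exact (e1.symm s).2
  have hcard : Nat.card φ.ker = Nat.card (Subgroup.center S) := by
    rw [← k2]
    refine Nat.card_congr ((Equiv.subtypeEquiv e1.toEquiv fun x => ?_).symm)
    show f2 x = 1 ↔ f2 (e1.symm (e1 x)) = 1
    rw [e1.symm_apply_apply]
  have hker' : φ.ker = Subgroup.center S := Subgroup.eq_of_le_of_card_ge hker hcard.ge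
  exact ⟨((QuotientGroup.quotientMulEquivOfEq hker'.symm).trans
    (QuotientGroup.quotientKerEquivOfSurjective φ hφ)).symm⟩

/-! ### The two vectors and their stabiliser -/

/-- The first vector. -/
def v0 : leechLattice := ⟨vec v0L, v0_mem⟩

/-- The second vector. -/
def w0 : leechLattice := ⟨vec w0L, w0_mem⟩

theorem sqNorm_v0 : sqNorm (v0 : GolayPt → ℤ) = 32 := by
  rw [Co0Matrix.sqNorm_eq_dot]
  show dotInt (vec v0L) (vec v0L) = 32
  rw [dotInt_vec _ _ (by decide)]; decide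

theorem sqNorm_w0 : sqNorm (w0 : GolayPt → ℤ) = 32 := by
  rw [Co0Matrix.sqNorm_eq_dot]
  show dotInt (vec w0L) (vec w0L) = 32
  rw [dotInt_vec _ _ (by decide)]; decide

theorem dot_v0_w0 : dotInt (v0 : GolayPt → ℤ) (w0 : GolayPt → ℤ) = -16 := by
  show dotInt (vec v0L) (vec w0L) = -16
  rw [dotInt_vec _ _ (by decide)]; decide

/-- The joint stabiliser. -/
def G0 : Subgroup Co0 := MulAction.stabilizer Co0 v0 ⊓ MulAction.stabilizer Co0 w0

/-- The condition of orthogonality modulo 16. -/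
def V0 (u : leechLattice) : Prop :=
  (16 : ℤ) ∣ dotInt (u : GolayPt → ℤ) (vec v0L) ∧ (16 : ℤ) ∣ dotInt (u : GolayPt → ℤ) (vec w0L)

theorem V0_smul (h : Co0) (hh : h ∈ G0) (u : leechLattice) (hu : V0 u) : V0 (h • u) := by
  have e1 : h • v0 = v0 := hh.1
  have e2 : h • w0 = w0 := hh.2
  have d1 := Cfsg.Agent.LeechMat.Core.co0_dotInt h u v0
  have d2 := Cfsg.Agent.LeechMat.Core.co0_dotInt h u w0
  rw [e1] at d1
  rw [e2] at d2
  exact ⟨d1.symm ▸ hu.1, d2.symm ▸ hu.2⟩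

/-- The correspondence. -/
def Γ : Subgroup (SU 6 F4 2 × G0) where
  carrier := {p | ∀ u : leechLattice, V0 u → ∀ x y z : Fin 6 → F4,
    tri (Tc (fs ((p.2 : Co0) • u : leechLattice))) (act p.1 x) (act p.1 y) (act p.1 z) =
      tri (Tc (fs u)) x y z}
  one_mem' := by
    intro u _ x y z
    show tri (Tc (fs (((1 : Co0) • u : leechLattice)))) (act 1 x) (act 1 y) (act 1 z) = _
    rw [one_smul, act_one, act_one, act_one]
  mul_mem' := by
    rintro ⟨g, h⟩ ⟨g', h'⟩ hp hp' u hu x y z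
    show tri (Tc (fs ((((h : Co0) * (h' : Co0)) • u : leechLattice)))) (act (g * g') x)
      (act (g * g') y) (act (g * g') z) = _
    rw [mul_smul, act_mul, act_mul, act_mul]
    have e1 := hp ((h' : Co0) • u) (V0_smul _ h'.2 u hu) (act g' x) (act g' y) (act g' z)
    have e2 := hp' u hu x y z
    exact e1.trans e2
  inv_mem' := by
    rintro ⟨g, h⟩ hp u hu x y z
    show tri (Tc (fs ((((h : Co0)⁻¹ : Co0) • u : leechLattice)))) (act g⁻¹ x) (act g⁻¹ y)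
      (act g⁻¹ z) = _
    have e1 := hp ((h : Co0)⁻¹ • u) (V0_smul _ (G0.inv_mem h.2) u hu) (act g⁻¹ x) (act g⁻¹ y)
      (act g⁻¹ z)
    have e2 : (h : Co0) • ((h : Co0)⁻¹ • u) = u := smul_inv_smul _ _
    rw [act_act_inv, act_act_inv, act_act_inv] at e1
    show _ = _
    rw [← e1]
    show tri (Tc (fs ((h : Co0) • ((h : Co0)⁻¹ • u) : leechLattice))) x y z = _
    rw [e2]

/-- The check that the vector `l` is fixed. -/
def fixB (R : List (List ℤ)) (l : List ℤ) : Bool := decide ((R.map fun r => dotL l r / 8) = l)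

theorem mk_smul {R C : List (List ℤ)} (h : Ok R C) {l : List ℤ} (hl : l.length ≤ 24)
    (hm : vec l ∈ leechLattice) (hf : fixB R l = true) :
    mk h • (⟨vec l, hm⟩ : leechLattice) = ⟨vec l, hm⟩ := by
  apply Subtype.ext
  show Co0Matrix.act R (vec l) = vec l
  rw [act_vec h.lenR hl]
  exact congrArg vec (of_decide_eq_true hf)

/-- Element of the stabiliser from a matrix. -/
def mkG {R C : List (List ℤ)} (h : Ok R C) (h1 : fixB R v0L = true) (h2 : fixB R w0L = true) : G0 :=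
  ⟨mk h, mk_smul h (by decide) v0_mem h1, mk_smul h (by decide) w0_mem h2⟩

theorem mem_gamma {R C : List (List ℤ)} (h : Ok R C) (h1 : fixB R v0L = true)
    (h2 : fixB R w0L = true) {Hm : List ℕ} (hc : certB C Hm = true) {t : List (List ℕ)}
    (ht : suB t = true) (hs : starB t Hm = true) : (ofTable t ht, mkG h h1 h2) ∈ Γ := by
  intro u hu x y z
  show tri (Tc (fs ((mk h).1 u : leechLattice))) (act (ofTable t ht) x) (act (ofTable t ht) y)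
    (act (ofTable t ht) z) = _
  rw [tri_act, mat_ofTable, pull_of_star hs (fs u) _ (fun k hk => fs_act h hc u hu.1 hu.2 k hk)]

theorem suT : suB tT = true := by decide +kernel
theorem suC : suB tC = true := by decide +kernel
theorem suD : suB tD = true := by decide +kernel
theorem suM : suB tM = true := by decide +kernel

theorem exists_gamma (g : SU 6 F4 2) : ∃ l, (g, l) ∈ Γ := by
  have hle : H ≤ Γ.map (MonoidHom.fst (SU 6 F4 2) G0) := by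
    rw [H, Subgroup.closure_le]
    intro g hg
    simp only [Set.mem_insert_iff, Set.mem_singleton_iff] at hg
    rcases hg with rfl | rfl | rfl | rfl
    · exact ⟨_, mem_gamma okA (by decide +kernel) (by decide +kernel) certA suT starA, rfl⟩
    · exact ⟨_, mem_gamma okB (by decide +kernel) (by decide +kernel) certC suC starC, rfl⟩
    · exact ⟨_, mem_gamma okD (by decide +kernel) (by decide +kernel) certD suD starD, rfl⟩
    · exact ⟨_, mem_gamma okM (by decide +kernel) (by decide +kernel) certM suM starM, rfl⟩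
  rw [H_eq_top] at hle
  obtain ⟨⟨g', l⟩, hl, rfl⟩ := hle (Subgroup.mem_top g)
  exact ⟨l, hl⟩

theorem center_of_gamma (g : SU 6 F4 2) (hg : (g, (1 : G0)) ∈ Γ) :
    g ∈ Subgroup.center (SU 6 F4 2) := by
  apply mem_center_of_inv
  intro k hk x y z
  obtain ⟨u, hu1, hu2, hu3⟩ := exists_dual k hk
  have e := hg u ⟨hu1, hu2⟩ x y z
  have e1 : Tc (fs u) = Tc (dl k) := Tc_congr hu3
  have e2 : (((1 : G0) : Co0) • u : leechLattice) = u := one_smul _ _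
  change tri (Tc (fs ((((1 : G0) : Co0) • u : leechLattice)))) (act g x) (act g y) (act g z) = _ at e
  rw [e2, e1] at e
  exact e

/-- The joint stabiliser is `PSU_6(2)` provided its order is at most that. -/
theorem G0_iso [Finite G0] (hc : Nat.card G0 ≤ Nat.card (Cfsg.PSU 6 F4 2)) :
    Nonempty (G0 ≃* Cfsg.PSU 6 F4 2) := by
  have : Finite (SU 6 F4 2) := inferInstance
  exact iso_of_corr Γ exists_gamma center_of_gamma hc

/-- The same over any field with four elements. -/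
theorem G0_iso_field [Finite G0] (hc : Nat.card G0 ≤ Nat.card (Cfsg.PSU 6 F4 2)) (F : Type*)
    [Field F] [Fintype F] (hF : Fintype.card F = 4) : Nonempty (G0 ≃* Cfsg.PSU 6 F 2) := by
  obtain ⟨e⟩ := G0_iso hc
  obtain ⟨e'⟩ := PsuMatch.psu_iso_of_card (F := F) (K := F4) (hF.trans F4.card_eq.symm) 6 2
  exact ⟨e.trans e'.symm⟩

end Cfsg.Agent.SporadicStructure.U62Gamma
end

-- part: S1577
section
set_option autoImplicit false
open Cfsg

namespace Cfsg.Agent.S1577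

open Cfsg.Agent.SporadicStructure.U62Gamma Cfsg.Agent.SporadicA.FieldFour

theorem card_co0 : Nat.card Co0 = 8315553613086720000 := Cfsg.Agent.S0397.result

theorem finite_co0 : Finite Co0 :=
  Nat.finite_of_card_ne_zero (by rw [card_co0]; norm_num)

/-- Orbit-stabiliser inside a subgroup. -/
theorem ncard_mul_card_inf {G X : Type*} [Group G] [MulAction G X] (K : Subgroup G) (x : X)
    (O : Set X) (h1 : ∀ g ∈ K, g • x ∈ O) (h2 : ∀ y ∈ O, ∃ g ∈ K, g • x = y) :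
    O.ncard * Nat.card ↥(K ⊓ MulAction.stabilizer G x) = Nat.card K := by
  have hO : MulAction.orbit K x = O := by
    ext y
    constructor
    · rintro ⟨g, rfl⟩
      exact h1 g g.2
    · intro hy
      obtain ⟨g, hg, rfl⟩ := h2 y hy
      exact ⟨⟨g, hg⟩, rfl⟩
  have h3 := Nat.card_congr (MulAction.orbitProdStabilizerEquivGroup K x)
  rw [Nat.card_prod, Nat.card_coe_set_eq, hO] at h3
  rw [← h3]
  congr 1
  exact Nat.card_congr
    { toFun := fun g => ⟨⟨g.1, g.2.1⟩, g.2.2⟩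
      invFun := fun g => ⟨g.1.1, g.1.2, g.2⟩
      left_inv := fun _ => rfl
      right_inv := fun _ => rfl }

theorem ncard_sub (P : (GolayPt → ℤ) → Prop) :
    ({w : leechLattice | P w}).ncard = {w : GolayPt → ℤ | w ∈ leechLattice ∧ P w}.ncard := by
  rw [← Set.ncard_image_of_injective {w : leechLattice | P w} Subtype.val_injective]
  congr 1
  ext y
  constructor
  · rintro ⟨w, hw, rfl⟩
    exact ⟨w.2, hw⟩
  · rintro ⟨hy, hy'⟩
    exact ⟨⟨y, hy⟩, hy', rfl⟩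

/-- The order of the joint stabiliser. -/
theorem card_G0 : Nat.card G0 = 9196830720 := by
  have hfin : Finite Co0 := finite_co0
  have c1 : ({w : leechLattice | sqNorm (w : GolayPt → ℤ) = 32}).ncard = 196560 := by
    rw [ncard_sub fun w => sqNorm w = 32]
    exact Cfsg.Agent.S0394.result
  have e1 := ncard_mul_card_inf (⊤ : Subgroup Co0) v0
    {w : leechLattice | sqNorm (w : GolayPt → ℤ) = 32}
    (fun g _ => (Cfsg.Agent.LeechMat.Core.co0_sqNorm g v0).trans sqNorm_v0)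
    (fun y hy => by
      obtain ⟨g, hg⟩ := Cfsg.Agent.S0400.result v0 y sqNorm_v0 hy
      exact ⟨g, trivial, hg⟩)
  have c2 : ({w : leechLattice | sqNorm (w : GolayPt → ℤ) = 32 ∧
      dotInt (v0 : GolayPt → ℤ) (w : GolayPt → ℤ) = -16}).ncard = 4600 := by
    rw [ncard_sub fun w => sqNorm w = 32 ∧ dotInt (v0 : GolayPt → ℤ) w = -16]
    exact (Cfsg.Agent.S1573.result v0 v0.2 sqNorm_v0).1
  have e2 := ncard_mul_card_inf (MulAction.stabilizer Co0 v0) w0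
    {w : leechLattice | sqNorm (w : GolayPt → ℤ) = 32 ∧
      dotInt (v0 : GolayPt → ℤ) (w : GolayPt → ℤ) = -16}
    (fun g hg => by
      have h1 : g • v0 = v0 := hg
      refine ⟨(Cfsg.Agent.LeechMat.Core.co0_sqNorm g w0).trans sqNorm_w0, ?_⟩
      have h2 := Cfsg.Agent.LeechMat.Core.co0_dotInt g v0 w0
      rw [h1] at h2
      exact h2.trans dot_v0_w0)
    (fun y hy => by
      obtain ⟨g, hg, hg'⟩ := Cfsg.Agent.S1574.result v0 w0 y sqNorm_v0 sqNorm_w0 hy.1 dot_v0_w0 hy.2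
      exact ⟨g, hg, hg'⟩)
  rw [c1, top_inf_eq, Subgroup.card_top, card_co0] at e1
  rw [c2] at e2
  change Nat.card ↥(MulAction.stabilizer Co0 v0 ⊓ MulAction.stabilizer Co0 w0) = 9196830720
  omega

theorem card_psu : Nat.card (Cfsg.PSU 6 F4 2) = 9196830720 := by
  have h := Cfsg.Agent.S0280.result (F := F4) (q := 2) F4.card_eq 6 (by norm_num)
  have h1 : Nat.gcd 6 (2 + 1) = 3 := by decide
  have h2 : 2 ^ (6 * (6 - 1) / 2) * ∏ i ∈ Finset.range 6,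
      (if Even i then 2 ^ (i + 1) + 1 else 2 ^ (i + 1) - 1) = 82771476480 := by decide
  rw [h1, h2] at h
  omega

/-- Conjugation carries a joint stabiliser to that of the moved pair. -/
theorem nonempty_stab_equiv {G X : Type*} [Group G] [MulAction G X] (g : G) (u v u' v' : X)
    (hu : g • u = u') (hv : g • v = v') :
    Nonempty (↥(MulAction.stabilizer G u ⊓ MulAction.stabilizer G v) ≃*
      ↥(MulAction.stabilizer G u' ⊓ MulAction.stabilizer G v')) := by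
  have key : ∀ (y y' : X), g • y = y' → ∀ k : G, k • y = y ↔ (MulAut.conj g k) • y' = y' := by
    rintro y _ rfl k
    rw [MulAut.conj_apply, mul_smul, mul_smul, inv_smul_smul, smul_left_cancel_iff]
  have hmap : (MulAction.stabilizer G u ⊓ MulAction.stabilizer G v).map
      (MulAut.conj g).toMonoidHom =
      MulAction.stabilizer G u' ⊓ MulAction.stabilizer G v' := by
    ext k
    constructor
    · rintro ⟨l, ⟨h1, h2⟩, rfl⟩
      exact ⟨(key u u' hu l).1 h1, (key v v' hv l).1 h2⟩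
    · rintro ⟨h1, h2⟩
      obtain ⟨l, rfl⟩ := (MulAut.conj g).surjective k
      exact ⟨l, ⟨(key u u' hu l).2 h1, (key v v' hv l).2 h2⟩, rfl⟩
  exact ⟨((MulAut.conj g).subgroupMap _).trans (MulEquiv.subgroupCongr hmap)⟩

/-- The joint stabiliser of two minimal vectors of customary inner product −2 is isomorphic to PSU(6, 2). -/
theorem result (v w : ↥Cfsg.leechLattice) (hv : Cfsg.sqNorm (v : Cfsg.GolayPt → ℤ) = 32) (hw : Cfsg.sqNorm (w : Cfsg.GolayPt → ℤ) = 32) (hd : Cfsg.dotInt (v : Cfsg.GolayPt → ℤ) (w : Cfsg.GolayPt → ℤ) = -16) (F : Type) [Field F] [Fintype F] (hF : Fintype.card F = 4) : Nonempty (↥(MulAction.stabilizer ↥Cfsg.Co0 v ⊓ MulAction.stabilizer ↥Cfsg.Co0 w) ≃* Cfsg.PSU 6 F 2) := by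
  have hfin : Finite Co0 := finite_co0
  obtain ⟨a, ha⟩ := Cfsg.Agent.S0400.result v v0 hv sqNorm_v0
  have haw : sqNorm ((a • w : leechLattice) : GolayPt → ℤ) = 32 :=
    (Cfsg.Agent.LeechMat.Core.co0_sqNorm a w).trans hw
  have had : dotInt (v0 : GolayPt → ℤ) ((a • w : leechLattice) : GolayPt → ℤ) = -16 := by
    have h2 := Cfsg.Agent.LeechMat.Core.co0_dotInt a v w
    rw [ha] at h2
    exact h2.trans hd
  obtain ⟨b, hb, hbw⟩ := Cfsg.Agent.S1574.result v0 (a • w) w0 sqNorm_v0 haw sqNorm_w0 had dot_v0_w0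
  obtain ⟨e⟩ := nonempty_stab_equiv (b * a) v w v0 w0 (by rw [mul_smul, ha, hb])
    (by rw [mul_smul, hbw])
  obtain ⟨e'⟩ := G0_iso_field (card_G0.le.trans card_psu.ge) F hF
  exact ⟨e.trans e'⟩

end Cfsg.Agent.S1577
end
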