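import Cfsg.Agent.LieRecognition.ReeSevenGroup
import Cfsg.Agent.LieRecognition.HalfTransitive
import Cfsg.Agent.S0126
import Cfsg.Statements.S1156
set_option linter.all false

-- part: LieRecognition/ReeCross
section
set_option autoImplicit false

/-!
The invariant cross product and bilinear form on the 7-dimensional module of `G₂` in characteristic 3.
-/

namespace Cfsg.Agent.LieRecognition.ReeCross

open Cfsg.Lie ReeSevenTable ReeSevenEntries ReeSeven ReeSevenGroup

open scoped Matrix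

variable {K : Type*} [Field K]

/-- the bilinear form -/
def bf (x y : Fin 7 → K) : K :=
  -(x 0 * y 0) + x 1 * y 4 + x 4 * y 1 + x 2 * y 5 + x 5 * y 2 + x 3 * y 6 + x 6 * y 3

/-- the cross product -/
def cr (x y : Fin 7 → K) : Fin 7 → K :=
  ![x 1 * y 4 + x 2 * y 5 - x 3 * y 6 - x 4 * y 1 - x 5 * y 2 + x 6 * y 3,
    -(x 0 * y 1) + x 1 * y 0 + x 3 * y 5 - x 5 * y 3,
    -(x 0 * y 2) + x 2 * y 0 - x 3 * y 4 + x 4 * y 3,
    x 0 * y 3 + x 1 * y 2 - x 2 * y 1 - x 3 * y 0,
    x 0 * y 4 + x 2 * y 6 - x 4 * y 0 - x 6 * y 2,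
    x 0 * y 5 - x 1 * y 6 - x 5 * y 0 + x 6 * y 1,
    -(x 0 * y 6) - x 4 * y 5 + x 5 * y 4 + x 6 * y 0]

theorem bf_comm (x y : Fin 7 → K) : bf x y = bf y x := by
  simp only [bf]; ring

theorem bf_add_left (x x' y : Fin 7 → K) : bf (x + x') y = bf x y + bf x' y := by
  simp only [bf, Pi.add_apply]; ring

theorem bf_smul_left (c : K) (x y : Fin 7 → K) : bf (c • x) y = c * bf x y := by
  simp only [bf, Pi.smul_apply, smul_eq_mul]; ring

theorem bf_neg_left (x y : Fin 7 → K) : bf (-x) y = -bf x y := by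
  simp only [bf, Pi.neg_apply]; ring

theorem bf_sub_left (x x' y : Fin 7 → K) : bf (x - x') y = bf x y - bf x' y := by
  simp only [bf, Pi.sub_apply]; ring

theorem bf_add_right (x y y' : Fin 7 → K) : bf x (y + y') = bf x y + bf x y' := by
  simp only [bf, Pi.add_apply]; ring

theorem bf_smul_right (c : K) (x y : Fin 7 → K) : bf x (c • y) = c * bf x y := by
  simp only [bf, Pi.smul_apply, smul_eq_mul]; ring

theorem bf_neg_right (x y : Fin 7 → K) : bf x (-y) = -bf x y := by
  simp only [bf, Pi.neg_apply]; ring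

theorem bf_sub_right (x y y' : Fin 7 → K) : bf x (y - y') = bf x y - bf x y' := by
  simp only [bf, Pi.sub_apply]; ring

theorem bf_zero_right (x : Fin 7 → K) : bf x 0 = 0 := by simp [bf]

theorem bf_zero_left (x : Fin 7 → K) : bf 0 x = 0 := by simp [bf]

theorem cr_anti (x y : Fin 7 → K) : cr x y = - cr y x := by
  funext i; fin_cases i <;> simp [cr] <;> ring

theorem bf_cr (x y z : Fin 7 → K) : bf (cr x y) z = bf x (cr y z) := by
  simp [bf, cr]; ring

theorem cr_add_right (x y y' : Fin 7 → K) : cr x (y + y') = cr x y + cr x y' := by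
  funext i; fin_cases i <;> simp [cr] <;> ring

theorem cr_smul_right (c : K) (x y : Fin 7 → K) : cr x (c • y) = c • cr x y := by
  funext i; fin_cases i <;> simp [cr] <;> ring

theorem cr_add_left (x x' y : Fin 7 → K) : cr (x + x') y = cr x y + cr x' y := by
  funext i; fin_cases i <;> simp [cr] <;> ring

theorem cr_smul_left (c : K) (x y : Fin 7 → K) : cr (c • x) y = c • cr x y := by
  funext i; fin_cases i <;> simp [cr] <;> ring

/-- nondegeneracy -/
theorem exists_bf_ne {x : Fin 7 → K} (hx : x ≠ 0) : ∃ y, bf x y ≠ 0 := by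
  by_contra hcon
  push Not at hcon
  apply hx
  funext i
  fin_cases i
  · simpa [bf, Pi.single_apply] using hcon (Pi.single 0 1)
  · simpa [bf, Pi.single_apply] using hcon (Pi.single 4 1)
  · simpa [bf, Pi.single_apply] using hcon (Pi.single 5 1)
  · simpa [bf, Pi.single_apply] using hcon (Pi.single 6 1)
  · simpa [bf, Pi.single_apply] using hcon (Pi.single 1 1)
  · simpa [bf, Pi.single_apply] using hcon (Pi.single 2 1)
  · simpa [bf, Pi.single_apply] using hcon (Pi.single 3 1)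

section CharThree
variable [CharP K 3]

theorem three_eq_zero : (3 : K) = 0 := by exact_mod_cast CharP.cast_eq_zero K 3

theorem cr_cr (x y : Fin 7 → K) : cr x (cr x y) = bf x y • x - bf x x • y := by
  have h3 : (3 : K) = 0 := three_eq_zero
  funext i
  fin_cases i
  · simp [cr, bf]
    linear_combination (0) * h3
  · simp [cr, bf]
    linear_combination (-x 1*x 3*y 6 - x 1*x 5*y 2 + x 3*x 6*y 1 + x 2*x 5*y 1) * h3
  · simp [cr, bf]
    linear_combination (-x 2*x 3*y 6 - x 2*x 4*y 1 + x 3*x 6*y 2 + x 1*x 4*y 2) * h3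
  · simp [cr, bf]
    linear_combination (-x 1*x 3*y 4 + x 1*x 4*y 3 - x 2*x 3*y 5 + x 2*x 5*y 3) * h3
  · simp [cr, bf]
    linear_combination (-x 2*x 4*y 5 + x 2*x 5*y 4 - x 4*x 6*y 3 + x 3*x 6*y 4) * h3
  · simp [cr, bf]
    linear_combination (x 1*x 4*y 5 - x 1*x 5*y 4 - x 5*x 6*y 3 + x 3*x 6*y 5) * h3
  · simp [cr, bf]
    linear_combination (x 1*x 4*y 6 - x 4*x 6*y 1 + x 2*x 5*y 6 - x 5*x 6*y 2) * h3

/-- linearised form of `cr_cr` -/
theorem cr_cr_add (x y z : Fin 7 → K) :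
    cr x (cr y z) + cr y (cr x z) = bf x z • y + bf y z • x - (2 * bf x y) • z := by
  have h1 := cr_cr (x + y) z
  rw [cr_add_left, cr_add_left, cr_add_right, cr_add_right, cr_cr, cr_cr, bf_add_left, bf_add_left,
    bf_add_right, bf_add_right, bf_comm y x] at h1
  have h2 : cr x (cr y z) + cr y (cr x z) =
      (bf x z • x - bf x x • z + cr x (cr y z) + (cr y (cr x z) + (bf y z • y - bf y y • z))) -
      (bf x z • x - bf x x • z + (bf y z • y - bf y y • z)) := by abel
  rw [h2, h1]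
  module

/-! ### invariance -/

/-- explicit structure constants -/
def ct (k a b : Fin 7) : ℤ :=
  (![!![0,0,0,0,0,0,0; 0,-1,0,0,0,0,0; 0,0,-1,0,0,0,0; 0,0,0,1,0,0,0; 0,0,0,0,1,0,0; 0,0,0,0,0,1,0; 0,0,0,0,0,0,-1],
     !![0,0,0,0,1,0,0; 1,0,0,0,0,0,0; 0,0,0,0,0,0,0; 0,0,1,0,0,0,0; 0,0,0,0,0,0,0; 0,0,0,0,0,0,-1; 0,0,0,0,0,0,0],
     !![0,0,0,0,0,1,0; 0,0,0,0,0,0,0; 1,0,0,0,0,0,0; 0,-1,0,0,0,0,0; 0,0,0,0,0,0,1; 0,0,0,0,0,0,0; 0,0,0,0,0,0,0],
     !![0,0,0,0,0,0,-1; 0,0,0,0,0,1,0; 0,0,0,0,-1,0,0; -1,0,0,0,0,0,0; 0,0,0,0,0,0,0; 0,0,0,0,0,0,0; 0,0,0,0,0,0,0],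
     !![0,-1,0,0,0,0,0; 0,0,0,0,0,0,0; 0,0,0,1,0,0,0; 0,0,0,0,0,0,0; -1,0,0,0,0,0,0; 0,0,0,0,0,0,0; 0,0,0,0,0,-1,0],
     !![0,0,-1,0,0,0,0; 0,0,0,-1,0,0,0; 0,0,0,0,0,0,0; 0,0,0,0,0,0,0; 0,0,0,0,0,0,0; -1,0,0,0,0,0,0; 0,0,0,0,1,0,0],
     !![0,0,0,1,0,0,0; 0,0,0,0,0,0,0; 0,0,0,0,0,0,0; 0,0,0,0,0,0,0; 0,0,-1,0,0,0,0; 0,1,0,0,0,0,0; 1,0,0,0,0,0,0]] :
    Fin 7 → Matrix (Fin 7) (Fin 7) ℤ) k a b

theorem ct_ok : ∀ k a b : Fin 7, (((an k a b : ℕ) : ℤ) - ct k a b) % 3 = 0 := by decide +kernel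

theorem am_eq (k a b : Fin 7) : am K (Sum.inl k) a b = (ct k a b : K) := by
  have h := ct_ok k a b
  have h3 : ((((an k a b : ℕ) : ℤ) - ct k a b : ℤ) : K) = 0 :=
    (CharP.intCast_eq_zero_iff K 3 _).2 (Int.dvd_of_emod_eq_zero (by exact_mod_cast h))
  push_cast at h3
  exact sub_eq_zero.1 h3

theorem cr_eq (x y : Fin 7 → K) : (∑ k, x k • am K (Sum.inl k)) *ᵥ y = cr x y := by
  funext i
  simp only [Matrix.mulVec, dotProduct, Matrix.sum_apply, Matrix.smul_apply, am_eq, smul_eq_mul]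
  fin_cases i <;> simp [cr, ct, Fin.sum_univ_succ] <;> ring

/-- explicit form -/
def bt (a b : Fin 7) : ℤ :=
  !![-1,0,0,0,0,0,0; 0,0,0,0,1,0,0; 0,0,0,0,0,1,0; 0,0,0,0,0,0,1; 0,1,0,0,0,0,0; 0,0,1,0,0,0,0; 0,0,0,1,0,0,0] a b

theorem bt_ok : ∀ a b : Fin 7, (((bn a b : ℕ) : ℤ) - bt a b) % 3 = 0 := by decide +kernel

theorem bm_eq (a b : Fin 7) : bm K a b = (bt a b : K) := by
  have h := bt_ok a b
  have h3 : ((((bn a b : ℕ) : ℤ) - bt a b : ℤ) : K) = 0 :=
    (CharP.intCast_eq_zero_iff K 3 _).2 (Int.dvd_of_emod_eq_zero (by exact_mod_cast h))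
  push_cast at h3
  exact sub_eq_zero.1 h3

theorem bf_eq (x y : Fin 7 → K) : x ⬝ᵥ (bm K *ᵥ y) = bf x y := by
  simp only [Matrix.mulVec, dotProduct, bm_eq]
  simp [bf, bt, Fin.sum_univ_succ]
  ring

theorem good_bf {M : Matrix chevG2.Idx chevG2.Idx K} (hM : Good M) (x y : Fin 7 → K) :
    bf (wb M *ᵥ x) (wb M *ᵥ y) = bf x y := by
  have h : bf x y = x ⬝ᵥ (((wb M)ᵀ * bm K * wb M) *ᵥ y) := by rw [hM.bil, bf_eq]
  rw [h, ← bf_eq, ← Matrix.mulVec_mulVec, ← Matrix.mulVec_mulVec, Matrix.dotProduct_mulVec x,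
    Matrix.vecMul_transpose]

theorem good_cr {M : Matrix chevG2.Idx chevG2.Idx K} (hM : Good M) (x y : Fin 7 → K) :
    wb M *ᵥ cr x y = cr (wb M *ᵥ x) (wb M *ᵥ y) := by
  have h : ∀ k, wb M * am K (Sum.inl k) = (∑ i, wb M i k • am K (Sum.inl i)) * wb M := by
    intro k
    rw [hM.eqv, Fintype.sum_sum_type]
    simp only [hM.zero, zero_smul, Finset.sum_const_zero, add_zero, wb_apply]
  rw [← cr_eq, ← cr_eq, Matrix.mulVec_mulVec, Matrix.mulVec_mulVec, Matrix.mul_sum]
  simp only [Matrix.mul_smul, h, ← Matrix.smul_mul]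
  rw [← Matrix.sum_mul]
  congr 2
  simp only [Finset.smul_sum, smul_smul, Matrix.mulVec, dotProduct, Finset.sum_smul]
  rw [Finset.sum_comm]
  exact Finset.sum_congr rfl fun i _ => Finset.sum_congr rfl fun j _ => by rw [mul_comm]

end CharThree

end Cfsg.Agent.LieRecognition.ReeCross
end

-- part: LieRecognition/ReeFixedPair
section
set_option autoImplicit false

/-!
An automorphism of the 7-dimensional algebra with cross product (characteristic 3) fixing two orthogonal
non-singular vectors: `R + R⁻¹` is `2` on a 3-space and a scalar `c` on its orthogonal complement.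
-/

namespace Cfsg.Agent.LieRecognition.ReeFixedPair

open ReeCross ReeSeven ReeSevenGroup

open scoped Matrix

attribute [local irreducible] ReeCross.bf ReeCross.cr

variable {K : Type*} [Field K] [CharP K 3]

/-- `R` preserves the bilinear form and the cross product -/
structure Iso (R : Matrix (Fin 7) (Fin 7) K) : Prop where
  bil : ∀ x y, bf (R *ᵥ x) (R *ᵥ y) = bf x y
  cross : ∀ x y, R *ᵥ cr x y = cr (R *ᵥ x) (R *ᵥ y)

theorem two_ne_zero' : (2 : K) ≠ 0 := by
  intro h
  have h3 : (3 : K) = 0 := three_eq_zero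
  exact one_ne_zero (α := K) (by linear_combination h3 - h)

/-- the orthogonal basis attached to `x, y, u` -/
structure Frame (x y u : Fin 7 → K) : Prop where
  xx : bf x x ≠ 0
  yy : bf y y ≠ 0
  uu : bf u u ≠ 0
  xy : bf x y = 0
  xu : bf x u = 0
  yu : bf y u = 0
  zu : bf (cr x y) u = 0

def bas (x y u : Fin 7 → K) : Fin 7 → (Fin 7 → K) :=
  ![x, y, cr x y, u, cr x u, cr y u, cr x (cr y u)]

def dia (x y u : Fin 7 → K) : Fin 7 → K :=
  ![bf x x, bf y y, bf x x * bf y y, bf u u, bf x x * bf u u, bf y y * bf u u, bf x x * (bf y y * bf u u)]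

theorem cr_self (x : Fin 7 → K) : cr x x = 0 := by
  have h := cr_anti x x
  have h2 : (2 : K) • cr x x = 0 := by
    rw [two_smul]
    nth_rewrite 1 [h]
    exact neg_add_cancel _
  exact (smul_eq_zero.1 h2).resolve_left two_ne_zero'

theorem bf_cr_left (x y : Fin 7 → K) : bf x (cr x y) = 0 := by
  rw [← bf_cr, cr_self, bf_zero_left]

theorem bf_cr_right (x y : Fin 7 → K) : bf y (cr x y) = 0 := by
  rw [bf_comm, bf_cr, cr_self, bf_zero_right]

omit [CharP K 3] in
theorem bf_cr_swap (x y z : Fin 7 → K) : bf (cr x y) z = - bf y (cr x z) := by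
  rw [cr_anti, bf_neg_left, bf_cr]

omit [CharP K 3] in
theorem tri_swap (x y z : Fin 7 → K) : bf x (cr y z) = - bf y (cr x z) := by
  rw [← bf_cr, bf_cr_swap]

theorem norm_cr {x w : Fin 7 → K} (h : bf x w = 0) : bf (cr x w) (cr x w) = bf x x * bf w w := by
  rw [bf_cr_swap, cr_cr, bf_sub_right, bf_smul_right, bf_smul_right, bf_comm w x, h]
  ring

namespace Frame

variable {x y u : Fin 7 → K}

omit [CharP K 3] in
theorem x_yu (h : Frame x y u) : bf x (cr y u) = 0 := by rw [← bf_cr]; exact h.zu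

omit [CharP K 3] in
theorem y_xu (h : Frame x y u) : bf y (cr x u) = 0 := by rw [tri_swap, h.x_yu, neg_zero]

theorem y_xyu (h : Frame x y u) : bf y (cr x (cr y u)) = 0 := by
  rw [tri_swap, cr_cr, bf_sub_right, bf_smul_right, bf_smul_right, h.yu, h.xu]
  simp

theorem z_xu (h : Frame x y u) : bf (cr x y) (cr x u) = 0 := by
  rw [bf_cr_swap, cr_cr, bf_sub_right, bf_smul_right, bf_smul_right, h.yu, h.xu]
  simp

theorem z_yu (h : Frame x y u) : bf (cr x y) (cr y u) = 0 := by
  rw [bf_cr, cr_cr, bf_sub_right, bf_smul_right, bf_smul_right, h.yu, h.xu]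
  simp

theorem z_xyu (h : Frame x y u) : bf (cr x y) (cr x (cr y u)) = 0 := by
  rw [bf_cr_swap, cr_cr, bf_sub_right, bf_smul_right, bf_smul_right, h.x_yu, bf_cr_left]
  simp

theorem u_xyu (h : Frame x y u) : bf u (cr x (cr y u)) = 0 := by
  have h1 : cr u (cr y u) = - cr u (cr u y) := by
    rw [cr_anti y u]
    have := cr_smul_right (-1 : K) u (cr u y)
    simpa using this
  rw [tri_swap, h1, bf_neg_right, cr_cr, bf_sub_right, bf_smul_right, bf_smul_right, h.xu, h.xy]
  simp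

theorem xu_yu (h : Frame x y u) : bf (cr x u) (cr y u) = 0 := by
  rw [bf_cr_swap, h.u_xyu, neg_zero]

theorem xu_xyu (h : Frame x y u) : bf (cr x u) (cr x (cr y u)) = 0 := by
  rw [bf_cr_swap, cr_cr, bf_sub_right, bf_smul_right, bf_smul_right, h.x_yu, bf_cr_right]
  simp

theorem orth (h : Frame x y u) : ∀ i j, bf (bas x y u i) (bas x y u j) = if i = j then dia x y u i else 0 := by
  have n1 := norm_cr h.xy
  have n2 := norm_cr h.xu
  have n3 := norm_cr h.yu
  have n4 := norm_cr h.x_yu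
  have key : ∀ i j : Fin 7, i < j → bf (bas x y u i) (bas x y u j) = 0 := by
    intro i j hij
    fin_cases i <;> fin_cases j
    · exact absurd hij (by decide)
    · exact (h.xy : bf x y = 0)
    · exact (bf_cr_left _ _ : bf x (cr x y) = 0)
    · exact (h.xu : bf x u = 0)
    · exact (bf_cr_left _ _ : bf x (cr x u) = 0)
    · exact (h.x_yu : bf x (cr y u) = 0)
    · exact (bf_cr_left _ _ : bf x (cr x (cr y u)) = 0)
    · exact absurd hij (by decide)
    · exact absurd hij (by decide)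
    · exact (bf_cr_right _ _ : bf y (cr x y) = 0)
    · exact (h.yu : bf y u = 0)
    · exact (h.y_xu : bf y (cr x u) = 0)
    · exact (bf_cr_left _ _ : bf y (cr y u) = 0)
    · exact (h.y_xyu : bf y (cr x (cr y u)) = 0)
    · exact absurd hij (by decide)
    · exact absurd hij (by decide)
    · exact absurd hij (by decide)
    · exact (h.zu : bf (cr x y) u = 0)
    · exact (h.z_xu : bf (cr x y) (cr x u) = 0)
    · exact (h.z_yu : bf (cr x y) (cr y u) = 0)
    · exact (h.z_xyu : bf (cr x y) (cr x (cr y u)) = 0)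
    · exact absurd hij (by decide)
    · exact absurd hij (by decide)
    · exact absurd hij (by decide)
    · exact absurd hij (by decide)
    · exact (bf_cr_right _ _ : bf u (cr x u) = 0)
    · exact (bf_cr_right _ _ : bf u (cr y u) = 0)
    · exact (h.u_xyu : bf u (cr x (cr y u)) = 0)
    · exact absurd hij (by decide)
    · exact absurd hij (by decide)
    · exact absurd hij (by decide)
    · exact absurd hij (by decide)
    · exact absurd hij (by decide)
    · exact (h.xu_yu : bf (cr x u) (cr y u) = 0)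
    · exact (h.xu_xyu : bf (cr x u) (cr x (cr y u)) = 0)
    · exact absurd hij (by decide)
    · exact absurd hij (by decide)
    · exact absurd hij (by decide)
    · exact absurd hij (by decide)
    · exact absurd hij (by decide)
    · exact absurd hij (by decide)
    · exact (bf_cr_right _ _ : bf (cr y u) (cr x (cr y u)) = 0)
    · exact absurd hij (by decide)
    · exact absurd hij (by decide)
    · exact absurd hij (by decide)
    · exact absurd hij (by decide)
    · exact absurd hij (by decide)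
    · exact absurd hij (by decide)
    · exact absurd hij (by decide)
  intro i j
  rcases lt_trichotomy i j with hij | hij | hij
  · rw [if_neg hij.ne, key i j hij]
  · subst hij
    rw [if_pos rfl]
    fin_cases i
    · rfl
    · rfl
    · exact n1
    · rfl
    · exact n2
    · exact n3
    · show bf (cr x (cr y u)) (cr x (cr y u)) = bf x x * (bf y y * bf u u)
      rw [n4, n3]
  · rw [if_neg hij.ne', bf_comm, key j i hij]

omit [CharP K 3] in
theorem dia_ne (h : Frame x y u) (i : Fin 7) : dia x y u i ≠ 0 := by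
  have h1 := h.xx
  have h2 := h.yy
  have h3 := h.uu
  fin_cases i <;> simp [dia, h1, h2, h3]

/-- the matrix with columns the basis -/
def mat (x y u : Fin 7 → K) : Matrix (Fin 7) (Fin 7) K := Matrix.of fun i j => bas x y u j i

theorem gram (h : Frame x y u) : (mat x y u)ᵀ * bm K * mat x y u = Matrix.diagonal (dia x y u) := by
  ext i j
  have h1 : ((mat x y u)ᵀ * bm K * mat x y u) i j = bf (bas x y u i) (bas x y u j) := by
    rw [← bf_eq, Matrix.mul_assoc]
    rfl
  rw [h1, h.orth, Matrix.diagonal_apply]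

theorem det_ne (h : Frame x y u) : (mat x y u).det ≠ 0 := by
  have h1 := congrArg Matrix.det h.gram
  rw [Matrix.det_mul, Matrix.det_diagonal] at h1
  have h2 : ∏ i, dia x y u i ≠ 0 := Finset.prod_ne_zero_iff.2 fun i _ => h.dia_ne i
  rw [← h1] at h2
  exact right_ne_zero_of_mul h2

/-- a vector orthogonal to the basis is zero -/
theorem eq_zero_of_orth (h : Frame x y u) {w : Fin 7 → K} (hw : ∀ i, bf (bas x y u i) w = 0) : w = 0 := by
  have h1 : ((mat x y u)ᵀ * bm K) *ᵥ w = 0 := by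
    funext i
    rw [← Matrix.mulVec_mulVec]
    have : ((mat x y u)ᵀ *ᵥ (bm K *ᵥ w)) i = bf (bas x y u i) w := by
      rw [← bf_eq]
      rfl
    rw [this, hw]
    rfl
  refine Matrix.eq_zero_of_mulVec_eq_zero ?_ h1
  rw [Matrix.det_mul, Matrix.det_transpose]
  exact mul_ne_zero h.det_ne det_bm_ne

end Frame

/-- two orthogonal nonsingular vectors are part of a frame -/
theorem exists_frame {x y : Fin 7 → K} (hxx : bf x x ≠ 0) (hyy : bf y y ≠ 0) (hxy : bf x y = 0) :
    ∃ u, Frame x y u := by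
  let f : (Fin 7 → K) →ₗ[K] (Fin 3 → K) :=
    { toFun := fun v => ![bf x v, bf y v, bf (cr x y) v]
      map_add' := fun v w => by
        funext i
        fin_cases i <;> simp [bf_add_right]
      map_smul' := fun c v => by
        funext i
        fin_cases i <;> simp [bf_smul_right] }
  have hker : LinearMap.ker f ≠ ⊥ := LinearMap.ker_ne_bot_of_finrank_lt (by simp)
  obtain ⟨u, hu, hu0⟩ := (Submodule.ne_bot_iff _).1 hker
  have hfu : f u = 0 := hu
  have hu1 : bf x u = 0 := congrFun hfu 0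
  have hu2 : bf y u = 0 := congrFun hfu 1
  have hu3 : bf (cr x y) u = 0 := congrFun hfu 2
  obtain ⟨v, hv⟩ := exists_bf_ne hu0
  have hzz : bf (cr x y) (cr x y) = bf x x * bf y y := norm_cr hxy
  have hzz0 : bf (cr x y) (cr x y) ≠ 0 := by rw [hzz]; exact mul_ne_zero hxx hyy
  have hxz : bf x (cr x y) = 0 := bf_cr_left _ _
  have hyz : bf y (cr x y) = 0 := bf_cr_right _ _
  obtain ⟨w, hw1, hw2, hw3, hw4⟩ : ∃ w, bf x w = 0 ∧ bf y w = 0 ∧ bf (cr x y) w = 0 ∧ bf u w ≠ 0 := by
    refine ⟨v - (bf x v / bf x x) • x - (bf y v / bf y y) • y -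
      (bf (cr x y) v / bf (cr x y) (cr x y)) • (cr x y), ?_, ?_, ?_, ?_⟩
    · simp only [bf_sub_right, bf_smul_right, hxy, hxz]
      field_simp
      ring
    · simp only [bf_sub_right, bf_smul_right, bf_comm y x, hxy, hyz]
      field_simp
      ring
    · simp only [bf_sub_right, bf_smul_right, bf_comm (cr x y) x, bf_comm (cr x y) y, hxz, hyz]
      field_simp
      ring
    · simp only [bf_sub_right, bf_smul_right, bf_comm u x, bf_comm u y, bf_comm u (cr x y), hu1, hu2, hu3]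
      simpa using hv
  by_cases h1 : bf u u = 0
  · by_cases h2 : bf w w = 0
    · refine ⟨u + w, hxx, hyy, ?_, hxy, ?_, ?_, ?_⟩
      · rw [bf_add_left, bf_add_right, bf_add_right, h1, h2, bf_comm w u]
        have : (0 + bf u w + (bf u w + 0)) = 2 * bf u w := by ring
        rw [this]
        exact mul_ne_zero two_ne_zero' hw4
      · rw [bf_add_right, hu1, hw1, add_zero]
      · rw [bf_add_right, hu2, hw2, add_zero]
      · rw [bf_add_right, hu3, hw3, add_zero]
    · exact ⟨w, hxx, hyy, h2, hxy, hw1, hw2, hw3⟩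
  · exact ⟨u, hxx, hyy, h1, hxy, hu1, hu2, hu3⟩

/-- the eigenvalues of `R + R⁻¹` -/
def lamb (c : K) : Fin 7 → K := ![2, 2, 2, c, c, c, c]

theorem skew {x y v w : Fin 7 → K} (hxy : bf x y = 0) (hx : bf x w = 0) (hy : bf y w = 0) :
    bf (cr x (cr y v)) w = - bf v (cr x (cr y w)) := by
  have h1 := cr_cr_add y x w
  rw [bf_comm y x, hxy, hx, hy] at h1
  have h2 : cr y (cr x w) = - cr x (cr y w) := by
    rw [eq_neg_iff_add_eq_zero, h1]
    simp
  rw [bf_cr_swap, bf_cr_swap, h2, bf_neg_right, neg_neg]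

theorem eigen {R R' : Matrix (Fin 7) (Fin 7) K} (hR : Iso R) (hR' : Iso R') (h1 : R * R' = 1) (h1' : R' * R = 1)
    {x y u : Fin 7 → K} (hx : R *ᵥ x = x) (hy : R *ᵥ y = y) (F : Frame x y u) :
    ∃ c : K, ∀ i, (R + R') *ᵥ bas x y u i = lamb c i • bas x y u i := by
  have hx' : R' *ᵥ x = x := by
    conv_lhs => rw [← hx]
    rw [Matrix.mulVec_mulVec, h1', Matrix.one_mulVec]
  have hy' : R' *ᵥ y = y := by
    conv_lhs => rw [← hy]
    rw [Matrix.mulVec_mulVec, h1', Matrix.one_mulVec]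
  have hz : R *ᵥ cr x y = cr x y := by rw [hR.cross, hx, hy]
  have hz' : R' *ᵥ cr x y = cr x y := by rw [hR'.cross, hx', hy']
  have adj : ∀ v w, bf v (R' *ᵥ w) = bf (R *ᵥ v) w := by
    intro v w
    rw [← hR.bil v, Matrix.mulVec_mulVec, h1, Matrix.one_mulVec]
  have fixl : ∀ {v : Fin 7 → K}, R *ᵥ v = v → ∀ w, bf v (R *ᵥ w) = bf v w := by
    intro v hv w
    conv_lhs => rw [← hv]
    exact hR.bil v w
  have fixl' : ∀ {v : Fin 7 → K}, R *ᵥ v = v → ∀ w, bf v (R' *ᵥ w) = bf v w := by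
    intro v hv w
    rw [adj, hv]
  set c := bf u (R *ᵥ u + R' *ᵥ u) / bf u u with hc
  have hu : R *ᵥ u + R' *ᵥ u = c • u := by
    rw [← sub_eq_zero]
    apply F.eq_zero_of_orth
    intro i
    fin_cases i
    · show bf x _ = 0
      rw [bf_sub_right, bf_add_right, bf_smul_right, fixl hx, fixl' hx, F.xu]
      ring
    · show bf y _ = 0
      rw [bf_sub_right, bf_add_right, bf_smul_right, fixl hy, fixl' hy, F.yu]
      ring
    · show bf (cr x y) _ = 0
      rw [bf_sub_right, bf_add_right, bf_smul_right, fixl hz, fixl' hz, F.zu]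
      ring
    · show bf u _ = 0
      rw [bf_sub_right, bf_smul_right, hc]
      have := F.uu
      field_simp
      ring
    · show bf (cr x u) _ = 0
      rw [bf_sub_right, bf_add_right, bf_smul_right, adj, hR.cross, hx, bf_comm (cr x u) u, bf_cr_right,
        bf_cr_swap x (R *ᵥ u) u, bf_comm (cr x u) (R *ᵥ u)]
      ring
    · show bf (cr y u) _ = 0
      rw [bf_sub_right, bf_add_right, bf_smul_right, adj, hR.cross, hy, bf_comm (cr y u) u, bf_cr_right,
        bf_cr_swap y (R *ᵥ u) u, bf_comm (cr y u) (R *ᵥ u)]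
      ring
    · show bf (cr x (cr y u)) _ = 0
      rw [bf_sub_right, bf_add_right, bf_smul_right, adj, hR.cross, hR.cross, hx, hy,
        bf_comm (cr x (cr y u)) u, F.u_xyu, skew F.xy F.xu F.yu, bf_comm (cr x (cr y u)) (R *ᵥ u)]
      ring
  refine ⟨c, fun i => ?_⟩
  have hcr : ∀ {v w : Fin 7 → K}, R *ᵥ v = v → R' *ᵥ v = v → R *ᵥ w + R' *ᵥ w = c • w →
      R *ᵥ (cr v w) + R' *ᵥ (cr v w) = c • cr v w := by
    intro v w h2 h3 h4
    rw [hR.cross, hR'.cross, h2, h3, ← cr_add_right, h4, cr_smul_right]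
  rw [Matrix.add_mulVec]
  fin_cases i
  · show R *ᵥ x + R' *ᵥ x = (2 : K) • x
    rw [hx, hx', two_smul]
  · show R *ᵥ y + R' *ᵥ y = (2 : K) • y
    rw [hy, hy', two_smul]
  · show R *ᵥ (cr x y) + R' *ᵥ (cr x y) = (2 : K) • (cr x y)
    rw [hz, hz', two_smul]
  · exact hu
  · exact hcr hx hx' hu
  · exact hcr hy hy' hu
  · exact hcr hx hx' (hcr hy hy' hu)

/-- diagonal form of `R + R⁻¹` -/
theorem diag {R R' : Matrix (Fin 7) (Fin 7) K} (hR : Iso R) (hR' : Iso R') (h1 : R * R' = 1) (h1' : R' * R = 1)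
    {x y : Fin 7 → K} (hx : R *ᵥ x = x) (hy : R *ᵥ y = y) (hxx : bf x x ≠ 0) (hyy : bf y y ≠ 0)
    (hxy : bf x y = 0) : ∃ (c : K) (P Q : Matrix (Fin 7) (Fin 7) K), P * Q = 1 ∧ Q * P = 1 ∧
      R + R' = P * Matrix.diagonal (lamb c) * Q := by
  obtain ⟨u, F⟩ := exists_frame hxx hyy hxy
  obtain ⟨c, hc⟩ := eigen hR hR' h1 h1' hx hy F
  have hdet : IsUnit (Frame.mat x y u).det := F.det_ne.isUnit
  have hPQ := Matrix.mul_nonsing_inv _ hdet
  refine ⟨c, Frame.mat x y u, (Frame.mat x y u)⁻¹, hPQ, Matrix.nonsing_inv_mul _ hdet, ?_⟩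
  have h2 : (R + R') * Frame.mat x y u = Frame.mat x y u * Matrix.diagonal (lamb c) := by
    ext i j
    rw [Matrix.mul_diagonal]
    have := congrFun (hc j) i
    rw [Pi.smul_apply, smul_eq_mul, mul_comm] at this
    exact this
  rw [← h2, Matrix.mul_assoc, hPQ, mul_one]

theorem sum_lamb (c : K) : ∑ i, lamb c i = c := by
  have h3 : (3 : K) = 0 := three_eq_zero
  simp [lamb, Fin.sum_univ_succ]
  linear_combination (2 + c) * h3

theorem sum_lamb_sq (c : K) : ∑ i, lamb c i * lamb c i = c ^ 2 := by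
  have h3 : (3 : K) = 0 := three_eq_zero
  simp [lamb, Fin.sum_univ_succ]
  linear_combination (4 + c ^ 2) * h3

/-- traces and the quadratic equation of `R + R⁻¹` -/
theorem trace_and_poly {R R' : Matrix (Fin 7) (Fin 7) K} (hR : Iso R) (hR' : Iso R') (h1 : R * R' = 1)
    (h1' : R' * R = 1) (ht : R'.trace = R.trace) (ht2 : (R' * R').trace = (R * R).trace)
    {x y : Fin 7 → K} (hx : R *ᵥ x = x) (hy : R *ᵥ y = y) (hxx : bf x x ≠ 0) (hyy : bf y y ≠ 0)
    (hxy : bf x y = 0) :
    (R * R).trace = - R.trace ^ 2 - 1 ∧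
      (R + R' - (2 : K) • (1 : Matrix (Fin 7) (Fin 7) K)) *
        (R + R' - (-R.trace) • (1 : Matrix (Fin 7) (Fin 7) K)) = 0 := by
  have h3 : (3 : K) = 0 := three_eq_zero
  obtain ⟨c, P, Q, hPQ, hQP, hT⟩ := diag hR hR' h1 h1' hx hy hxx hyy hxy
  have e1 : (R + R').trace = c := by
    rw [hT, Matrix.trace_mul_comm, ← Matrix.mul_assoc, hQP, one_mul, Matrix.trace_diagonal, sum_lamb]
  have e2 : ((R + R') * (R + R')).trace = c ^ 2 := by
    have : (R + R') * (R + R') = P * (Matrix.diagonal fun i => lamb c i * lamb c i) * Q := by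
      rw [hT, ← Matrix.diagonal_mul_diagonal]
      calc P * Matrix.diagonal (lamb c) * Q * (P * Matrix.diagonal (lamb c) * Q)
          = P * Matrix.diagonal (lamb c) * (Q * P) * Matrix.diagonal (lamb c) * Q := by
            simp only [Matrix.mul_assoc]
        _ = _ := by rw [hQP, mul_one]; simp only [Matrix.mul_assoc]
    rw [this, Matrix.trace_mul_comm, ← Matrix.mul_assoc, hQP, one_mul, Matrix.trace_diagonal, sum_lamb_sq]
  have e3 : R.trace = -c := by
    rw [Matrix.trace_add, ht] at e1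
    linear_combination (-1 : K) * e1 + R.trace * h3
  have e4 : (R * R).trace = - c ^ 2 - 1 := by
    have h4 : (R + R') * (R + R') = R * R + R' * R' + (1 + 1) := by
      rw [add_mul, mul_add, mul_add, h1, h1']
      abel
    rw [h4, Matrix.trace_add, Matrix.trace_add, Matrix.trace_add, Matrix.trace_one, ht2,
      Fintype.card_fin] at e2
    push_cast at e2
    linear_combination (-1 : K) * e2 + ((R * R).trace + 5) * h3
  refine ⟨by rw [e4, e3]; ring, ?_⟩
  have h5 : ∀ a : K, R + R' - a • (1 : Matrix (Fin 7) (Fin 7) K) =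
      P * (Matrix.diagonal fun i => lamb c i - a) * Q := by
    intro a
    have h6 : (Matrix.diagonal fun i => lamb c i - a : Matrix (Fin 7) (Fin 7) K) =
        Matrix.diagonal (lamb c) - a • (1 : Matrix (Fin 7) (Fin 7) K) := by
      ext i j
      by_cases hij : i = j
      · subst hij
        simp
      · simp [hij]
    rw [h6, mul_sub, sub_mul, ← hT, Matrix.mul_smul, mul_one, Matrix.smul_mul, hPQ]
  rw [h5, h5]
  calc P * (Matrix.diagonal fun i => lamb c i - 2) * Q * (P * (Matrix.diagonal fun i => lamb c i - -R.trace) * Q)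
      = P * ((Matrix.diagonal fun i => lamb c i - 2) * (Q * P) * (Matrix.diagonal fun i => lamb c i - -R.trace)) * Q := by
        simp only [Matrix.mul_assoc]
    _ = 0 := by
        rw [hQP, mul_one, Matrix.diagonal_mul_diagonal]
        have h7 : (fun i => (lamb c i - 2) * (lamb c i - -R.trace)) = 0 := by
          funext i
          rw [e3]
          fin_cases i <;> simp [lamb]
        rw [h7, Matrix.diagonal_zero', mul_zero, zero_mul]

end Cfsg.Agent.LieRecognition.ReeFixedPair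
end

-- part: LieRecognition/ReeFixedSpace
section
set_option autoImplicit false

/-!
In the small Ree group an element of prime order `p > 3` does not fix two orthogonal nonsingular vectors of the
7-dimensional module; so every nonzero fixed vector is nonsingular and spans the fixed space. Consequently
the `p`-subgroups, `p > 3`, are cyclic.
-/

namespace Cfsg.Agent.LieRecognition.ReeFixedSpace

open Cfsg.Lie ReeSevenTable ReeSevenEntries ReeSeven ReeSevenGroup ReeCross ReeFixedPair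
open Cfsg.Agent.ChevalleyStructure.ReeFixed (Fixed IsTheta sh lg fixed_of_mem_twistedG2)

open scoped Matrix

variable {K : Type*} [Field K] [CharP K 3]

theorem good_iso {M : Matrix chevG2.Idx chevG2.Idx K} (hM : Good M) : Iso (wb M) :=
  ⟨good_bf hM, good_cr hM⟩

theorem exists_sh_lg : ∀ k : Fin 7, ∃ i, sh i = pos (Sum.inl k) ∧ lg i = pos (Sum.inr k) := by
  decide

omit [CharP K 3] in
theorem fixed_pos {θ : K →+* K} {M : Matrix chevG2.Idx chevG2.Idx K} (h : Fixed θ M) (k l : Fin 7) :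
    θ (M (pos (Sum.inr k)) (pos (Sum.inr l))) = wb M k l := by
  obtain ⟨i, hi1, hi2⟩ := exists_sh_lg k
  obtain ⟨j, hj1, hj2⟩ := exists_sh_lg l
  rw [wb_apply, ← hi1, ← hi2, ← hj1, ← hj2]
  exact h.2 i j

/-- the Ree relation for the trace: `θ s = τ` where `s = tr (R²) - τ² - 2 τ` -/
theorem theta_trace {θ : K →+* K} {M N : Matrix chevG2.Idx chevG2.Idx K} (hM : Good M) (hN : Good N)
    (h : M * N = 1) (hf : Fixed θ M) :
    θ ((wb M * wb M).trace - (wb M).trace ^ 2 - 2 * (wb M).trace) = (wb M).trace := by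
  have h1 := hM.trace_eq hN h
  rw [Fintype.sum_sum_type] at h1
  have h2 : ∑ k, M (pos (Sum.inl k)) (pos (Sum.inl k)) = (wb M).trace := rfl
  have h3 : (wb M * wb M).trace - (wb M).trace ^ 2 - 2 * (wb M).trace =
      ∑ k, M (pos (Sum.inr k)) (pos (Sum.inr k)) := by
    rw [← h1, h2]
    ring
  rw [h3, map_sum]
  exact Finset.sum_congr rfl fun k _ => fixed_pos hf k k

/-- the field computation -/
theorem trace_values {θ : K →+* K} {e : ℕ} (hθ : IsTheta θ e) {τ : K} (h : θ (τ ^ 2 + τ - 1) = τ) :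
    τ = 1 ∨ τ = 2 := by
  have h3 : (3 : K) = 0 := three_eq_zero
  have h1 : θ (τ - 1) ^ 2 = τ - 1 := by
    simp only [map_add, map_sub, map_one, map_pow] at h
    rw [map_sub, map_one]
    linear_combination h - (θ τ - 1) * h3
  have h2 : θ (θ (τ - 1)) ^ 2 = θ (τ - 1) := by rw [← map_pow, h1]
  have h4 := hθ.cube (τ - 1)
  set w := θ (θ (τ - 1)) with hw
  have h5 : w ^ 3 * (w - 1) = 0 := by
    have : w ^ 4 = τ - 1 := by rw [show w ^ 4 = (w ^ 2) ^ 2 by ring, h2, h1]
    linear_combination this - h4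
  rcases mul_eq_zero.1 h5 with h6 | h6
  · left
    rw [h4] at h6
    exact sub_eq_zero.1 h6
  · right
    have h7 : w = 1 := sub_eq_zero.1 h6
    rw [h7] at h4
    linear_combination -h4

/-- `R` has order dividing 18 if it fixes two orthogonal nonsingular vectors -/
theorem pow_eq_one {θ : K →+* K} {e : ℕ} (hθ : IsTheta θ e) {M N : Matrix chevG2.Idx chevG2.Idx K}
    (hM : Good M) (hN : Good N) (h : M * N = 1) (hf : Fixed θ M) {x y : Fin 7 → K}
    (hx : wb M *ᵥ x = x) (hy : wb M *ᵥ y = y) (hxx : bf x x ≠ 0) (hyy : bf y y ≠ 0) (hxy : bf x y = 0) :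
    wb M ^ 18 = 1 := by
  have h3 : (3 : K) = 0 := three_eq_zero
  have h1 : wb M * wb N = 1 := by rw [← wb_mul hN.zero, h, wb_one]
  have h1' : wb N * wb M = 1 := mul_eq_one_comm.1 h1
  have hN2 : Good (N * N) := hN.mul hN
  have hM2 : Good (M * M) := hM.mul hM
  have hNM : N * M = 1 := mul_eq_one_comm.1 h
  have hMN2 : (M * M) * (N * N) = 1 := by
    rw [Matrix.mul_assoc, ← Matrix.mul_assoc M N, h, one_mul, h]
  have ht := hM.trace_inv hN h
  have ht2 := hM2.trace_inv hN2 hMN2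
  rw [wb_mul hN.zero, wb_mul hM.zero] at ht2
  obtain ⟨k1, k2⟩ := trace_and_poly (good_iso hM) (good_iso hN) h1 h1' ht ht2 hx hy hxx hyy hxy
  have k3 := theta_trace hM hN h hf
  set R := wb M with hR
  set R' := wb N with hR'
  set τ := R.trace with hτ
  have k4 : θ (τ ^ 2 + τ - 1) = τ := by
    have : τ ^ 2 + τ - 1 = (R * R).trace - τ ^ 2 - 2 * τ := by
      rw [k1]
      linear_combination (τ ^ 2 + τ) * h3
    rw [this]
    exact k3
  have : Fact (Nat.Prime 3) := ⟨Nat.prime_three⟩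
  have hcomm : Commute R R' := by
    show R * R' = R' * R
    rw [h1, h1']
  have k5 : R + R' - (2 : K) • (1 : Matrix (Fin 7) (Fin 7) K) = R' * (R - 1) ^ 2 := by
    have : R' * (R - 1) ^ 2 = (R' * R) * R - (R' * R) - (R' * R) + R' := by noncomm_ring
    rw [this, h1', one_mul, two_smul]
    abel
  have key : ∀ (S : Matrix (Fin 7) (Fin 7) K), S ^ 4 = 0 → S ^ 9 = 0 := fun S hS => by
    rw [show 9 = 4 + 5 from rfl, pow_add, hS, zero_mul]
  rcases trace_values hθ k4 with k6 | k6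
  · have k7 : R + R' - (-τ) • (1 : Matrix (Fin 7) (Fin 7) K) = R' * (R - 1) ^ 2 := by
      rw [← k5, k6]
      congr 2
      linear_combination -h3
    rw [k5, k7] at k2
    have k8 : (R - 1) ^ 4 = 0 := by
      have hc2 : Commute R' (R - 1) := (hcomm.symm.sub_right (Commute.one_right _))
      calc (R - 1) ^ 4 = (R * R') * (R * R') * (R - 1) ^ 4 := by rw [h1]; simp
        _ = R * R * (R' * (R - 1) ^ 2 * (R' * (R - 1) ^ 2)) := by
            have e1 : R * R' * (R * R') = R * R * (R' * R') := by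
              rw [Matrix.mul_assoc, ← Matrix.mul_assoc R' R R', ← hcomm.eq, Matrix.mul_assoc R R' R',
                ← Matrix.mul_assoc R R]
            have e2 : R' * (R - 1) ^ 2 * (R' * (R - 1) ^ 2) = R' * R' * (R - 1) ^ 4 := by
              rw [Matrix.mul_assoc, ← Matrix.mul_assoc ((R - 1) ^ 2) R', ← (hc2.pow_right 2).eq,
                Matrix.mul_assoc R', ← Matrix.mul_assoc R', ← pow_add]
            rw [e1, e2, Matrix.mul_assoc]
        _ = 0 := by rw [k2, mul_zero]
    have k9 := key _ k8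
    have k10 : (R - 1) ^ 3 ^ 2 = R ^ 3 ^ 2 - 1 ^ 3 ^ 2 := sub_pow_char_pow_of_commute _ _ (Commute.one_right R)
    rw [show (3 : ℕ) ^ 2 = 9 from rfl, k9, one_pow] at k10
    rw [show 18 = 9 * 2 from rfl, pow_mul, sub_eq_zero.1 k10.symm, one_pow]
  · have k7 : R + R' - (-τ) • (1 : Matrix (Fin 7) (Fin 7) K) = R' * (R + 1) ^ 2 := by
      have : R' * (R + 1) ^ 2 = (R' * R) * R + (R' * R) + (R' * R) + R' := by noncomm_ring
      rw [this, h1', one_mul, k6, neg_smul, two_smul]
      abel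
    rw [k5, k7] at k2
    have k8 : (R ^ 2 - 1) ^ 2 = 0 := by
      have hc2 : Commute R' (R - 1) := (hcomm.symm.sub_right (Commute.one_right _))
      calc (R ^ 2 - 1) ^ 2 = (R * R') * (R * R') * ((R - 1) ^ 2 * (R + 1) ^ 2) := by
            rw [h1, one_mul, one_mul]; noncomm_ring
        _ = R * R * (R' * (R - 1) ^ 2 * (R' * (R + 1) ^ 2)) := by
            have e1 : R * R' * (R * R') = R * R * (R' * R') := by
              rw [Matrix.mul_assoc, ← Matrix.mul_assoc R' R R', ← hcomm.eq, Matrix.mul_assoc R R' R',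
                ← Matrix.mul_assoc R R]
            have e2 : R' * (R - 1) ^ 2 * (R' * (R + 1) ^ 2) = R' * R' * ((R - 1) ^ 2 * (R + 1) ^ 2) := by
              rw [Matrix.mul_assoc, ← Matrix.mul_assoc ((R - 1) ^ 2) R', ← (hc2.pow_right 2).eq,
                Matrix.mul_assoc R', ← Matrix.mul_assoc R']
            rw [e1, e2, Matrix.mul_assoc]
        _ = 0 := by rw [k2, mul_zero]
    have k9 : (R ^ 2 - 1) ^ 3 = 0 := by rw [pow_succ, k8, zero_mul]
    have k10 : (R ^ 2 - 1) ^ 3 = (R ^ 2) ^ 3 - 1 ^ 3 := sub_pow_char_of_commute _ (Commute.one_right _)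
    rw [k9, one_pow, ← pow_mul] at k10
    rw [show 18 = 2 * 3 * 3 from rfl, pow_mul, sub_eq_zero.1 k10.symm, one_pow]

section Ree

variable [Fintype K]

/-- action of a group on the 7-dimensional space through a homomorphism to `GL₇` -/
@[reducible] def actGL {P : Type*} [Group P] (f : P →* GL (Fin 7) K) : DistribMulAction P (Fin 7 → K) where
  smul g v := (f g : Matrix (Fin 7) (Fin 7) K) *ᵥ v
  one_smul v := by
    show (f 1 : Matrix (Fin 7) (Fin 7) K) *ᵥ v = v
    rw [map_one, Units.val_one, Matrix.one_mulVec]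
  mul_smul g h v := by
    show (f (g * h) : Matrix (Fin 7) (Fin 7) K) *ᵥ v =
      (f g : Matrix (Fin 7) (Fin 7) K) *ᵥ ((f h : Matrix (Fin 7) (Fin 7) K) *ᵥ v)
    rw [map_mul, Units.val_mul, Matrix.mulVec_mulVec]
  smul_zero g := Matrix.mulVec_zero _
  smul_add g v w := Matrix.mulVec_add _ _ _

theorem no_pair {e : ℕ} {θ : K →+* K} (hθ : IsTheta θ e) {p : ℕ} (hp : p.Prime) (hp3 : 3 < p)
    {g : ↥(twistedG2 K e)} (hg : g ^ p = 1) (hg1 : g ≠ 1) {x y : Fin 7 → K}
    (hx : (ree K e g : Matrix (Fin 7) (Fin 7) K) *ᵥ x = x)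
    (hy : (ree K e g : Matrix (Fin 7) (Fin 7) K) *ᵥ y = y)
    (hxx : bf x x ≠ 0) (hyy : bf y y ≠ 0) (hxy : bf x y = 0) : False := by
  have hmem : ∀ g : ↥(twistedG2 K e), Good ((g.1 : GL chevG2.Idx K) : Matrix chevG2.Idx chevG2.Idx K) :=
    fun g => (twistedG2_le e g.2).1
  have h1 : ((g.1 : GL chevG2.Idx K) : Matrix chevG2.Idx chevG2.Idx K) *
      (((g⁻¹).1 : GL chevG2.Idx K) : Matrix chevG2.Idx chevG2.Idx K) = 1 := by
    rw [← Units.val_mul, ← Subgroup.coe_mul, mul_inv_cancel]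
    rfl
  have h2 := pow_eq_one hθ (hmem g) (hmem g⁻¹) h1
    (fixed_of_mem_twistedG2 (CharP.cast_eq_zero K 3) hθ g.2) hx hy hxx hyy hxy
  have h3 : g ^ 18 = 1 := by
    apply ree_injective e
    apply Units.ext
    rw [map_pow, map_one, Units.val_pow_eq_pow_val, Units.val_one, ree_val]
    exact h2
  have h4 : orderOf g ∣ 18 := orderOf_dvd_of_pow_eq_one h3
  have : Fact p.Prime := ⟨hp⟩
  have h5 : orderOf g = p := orderOf_eq_prime hg hg1
  rw [h5] at h4
  have h6 : p ∣ 2 * 3 ^ 2 := h4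
  rcases (hp.dvd_mul).1 h6 with h7 | h7
  · have := Nat.le_of_dvd (by norm_num) h7
    omega
  · have := Nat.le_of_dvd (by norm_num) (hp.dvd_of_dvd_pow h7)
    omega

theorem ree_bf {e : ℕ} (g : ↥(twistedG2 K e)) (x y : Fin 7 → K) :
    bf ((ree K e g : Matrix (Fin 7) (Fin 7) K) *ᵥ x) ((ree K e g : Matrix (Fin 7) (Fin 7) K) *ᵥ y) = bf x y :=
  good_bf (twistedG2_le e g.2).1 x y

theorem ree_cr {e : ℕ} (g : ↥(twistedG2 K e)) (x y : Fin 7 → K) :
    (ree K e g : Matrix (Fin 7) (Fin 7) K) *ᵥ cr x y =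
      cr ((ree K e g : Matrix (Fin 7) (Fin 7) K) *ᵥ x) ((ree K e g : Matrix (Fin 7) (Fin 7) K) *ᵥ y) :=
  good_cr (twistedG2_le e g.2).1 x y

/-- a nonzero vector fixed by an element of prime order `p > 3` is nonsingular -/
theorem fixed_nonsingular {e : ℕ} {θ : K →+* K} (hθ : IsTheta θ e) {p : ℕ} (hp : p.Prime) (hp3 : 3 < p)
    {g : ↥(twistedG2 K e)} (hg : g ^ p = 1) (hg1 : g ≠ 1) {a : Fin 7 → K} (ha : a ≠ 0)
    (hfix : (ree K e g : Matrix (Fin 7) (Fin 7) K) *ᵥ a = a) : bf a a ≠ 0 := by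
  intro haa
  let _ : DistribMulAction ↥(twistedG2 K e) (Fin 7 → K) := actGL (ree K e)
  obtain ⟨v, hv⟩ := exists_bf_ne ha
  set c := HalfTransitive.nrm p g v with hc
  have hcfix : (ree K e g : Matrix (Fin 7) (Fin 7) K) *ᵥ c = c := HalfTransitive.smul_nrm hg v
  have hak : ∀ k : ℕ, (ree K e (g ^ k) : Matrix (Fin 7) (Fin 7) K) *ᵥ a = a := by
    intro k
    induction k with
    | zero => rw [pow_zero, map_one, Units.val_one, Matrix.one_mulVec]
    | succ k ih => rw [pow_succ, map_mul, Units.val_mul, ← Matrix.mulVec_mulVec, hfix, ih]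
  have hac : bf a c = p * bf a v := by
    have h1 : ∀ (s : Finset ℕ) (f : ℕ → Fin 7 → K), bf a (∑ i ∈ s, f i) = ∑ i ∈ s, bf a (f i) := by
      intro s f
      induction s using Finset.cons_induction with
      | empty => simp [bf_zero_right]
      | cons i s hi ih => rw [Finset.sum_cons, Finset.sum_cons, bf_add_right, ih]
    rw [hc, HalfTransitive.nrm_def, h1]
    have h2 : ∀ i ∈ Finset.range p, bf a (g ^ i • v) = bf a v := by
      intro i _
      have : bf ((ree K e (g ^ i) : Matrix (Fin 7) (Fin 7) K) *ᵥ a)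
        ((ree K e (g ^ i) : Matrix (Fin 7) (Fin 7) K) *ᵥ v) = bf a v := ree_bf _ _ _
      rw [hak] at this
      exact this
    rw [Finset.sum_congr rfl h2, Finset.sum_const, Finset.card_range, nsmul_eq_mul]
  have hp0 : (p : K) ≠ 0 := by
    intro h
    have := (CharP.cast_eq_zero_iff K 3 p).1 h
    have := (Nat.prime_dvd_prime_iff_eq Nat.prime_three hp).1 this
    omega
  have hac0 : bf a c ≠ 0 := by rw [hac]; exact mul_ne_zero hp0 hv
  have h2 := two_ne_zero' (K := K)
  -- hyperbolic pair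
  set d := c - (bf c c / (2 * bf a c)) • a with hd
  have hdfix : (ree K e g : Matrix (Fin 7) (Fin 7) K) *ᵥ d = d := by
    rw [hd, Matrix.mulVec_sub, Matrix.mulVec_smul, hcfix, hfix]
  have had : bf a d = bf a c := by
    rw [hd, bf_sub_right, bf_smul_right, haa]; ring
  have hdd : bf d d = 0 := by
    rw [hd]
    simp only [bf_sub_right, bf_smul_right, bf_sub_left, bf_smul_left, haa, bf_comm c a]
    field_simp
    ring
  clear_value d
  refine no_pair hθ hp hp3 hg hg1 (x := a + d) (y := a - d) ?_ ?_ ?_ ?_ ?_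
  · rw [Matrix.mulVec_add, hfix, hdfix]
  · rw [Matrix.mulVec_sub, hfix, hdfix]
  · rw [bf_add_left, bf_add_right, bf_add_right, haa, hdd, bf_comm d a, had]
    have : 0 + bf a c + (bf a c + 0) = 2 * bf a c := by ring
    rw [this]
    exact mul_ne_zero h2 hac0
  · rw [bf_sub_left, bf_sub_right, bf_sub_right, haa, hdd, bf_comm d a, had]
    have : 0 - bf a c - (bf a c - 0) = -(2 * bf a c) := by ring
    rw [this]
    exact neg_ne_zero.2 (mul_ne_zero h2 hac0)
  · rw [bf_add_left, bf_sub_right, bf_sub_right, haa, hdd, bf_comm d a]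
    ring

/-- an element of odd order commuting with an element of prime order `p > 3` fixes its fixed vectors -/
theorem fixed_of_commute {e : ℕ} {θ : K →+* K} (hθ : IsTheta θ e) {p : ℕ} (hp : p.Prime) (hp3 : 3 < p)
    {g h : ↥(twistedG2 K e)} (hg : g ^ p = 1) (hg1 : g ≠ 1) (hgh : Commute g h) {k : ℕ} (hk : Odd k)
    (hh : h ^ k = 1) {a : Fin 7 → K} (hfix : (ree K e g : Matrix (Fin 7) (Fin 7) K) *ᵥ a = a) :
    (ree K e h : Matrix (Fin 7) (Fin 7) K) *ᵥ a = a := by
  by_cases ha : a = 0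
  · rw [ha, Matrix.mulVec_zero]
  have haa := fixed_nonsingular hθ hp hp3 hg hg1 ha hfix
  set b := (ree K e h : Matrix (Fin 7) (Fin 7) K) *ᵥ a with hb
  have hbfix : (ree K e g : Matrix (Fin 7) (Fin 7) K) *ᵥ b = b := by
    rw [hb, Matrix.mulVec_mulVec, ← Units.val_mul, ← map_mul, hgh.eq, map_mul, Units.val_mul,
      ← Matrix.mulVec_mulVec, hfix]
  set c := bf b a / bf a a with hc
  have hbc : b = c • a := by
    by_contra hne
    have hd : b - c • a ≠ 0 := sub_ne_zero.2 hne
    have hdfix : (ree K e g : Matrix (Fin 7) (Fin 7) K) *ᵥ (b - c • a) = b - c • a := by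
      rw [Matrix.mulVec_sub, Matrix.mulVec_smul, hbfix, hfix]
    refine no_pair hθ hp hp3 hg hg1 hfix hdfix haa (fixed_nonsingular hθ hp hp3 hg hg1 hd hdfix) ?_
    rw [bf_sub_right, bf_smul_right, hc, bf_comm a b]
    field_simp
    ring
  have hc2 : c ^ 2 = 1 := by
    have h1 : bf b b = bf a a := ree_bf h a a
    rw [hbc, bf_smul_left, bf_smul_right] at h1
    have h2 : (c ^ 2) * bf a a = 1 * bf a a := by linear_combination h1
    exact mul_right_cancel₀ haa h2
  have hpow : ∀ n : ℕ, (ree K e (h ^ n) : Matrix (Fin 7) (Fin 7) K) *ᵥ a = c ^ n • a := by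
    intro n
    induction n with
    | zero => rw [pow_zero, map_one, Units.val_one, Matrix.one_mulVec, pow_zero, one_smul]
    | succ n ih =>
      rw [pow_succ, map_mul, Units.val_mul, ← Matrix.mulVec_mulVec, ← hb, hbc, Matrix.mulVec_smul, ih,
        smul_smul, pow_succ, mul_comm]
  have hck : c ^ k = 1 := by
    have h1 := hpow k
    rw [hh, map_one, Units.val_one, Matrix.one_mulVec] at h1
    have h2 : bf a a = c ^ k * bf a a := by
      rw [← bf_smul_left, ← h1]
    have h3 : c ^ k * bf a a = 1 * bf a a := by rw [← h2, one_mul]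
    exact mul_right_cancel₀ haa h3
  obtain ⟨j, rfl⟩ := hk
  rw [pow_add, pow_mul, hc2, one_pow, one_mul, pow_one] at hck
  rw [hbc, hck, one_smul]

end Ree

end Cfsg.Agent.LieRecognition.ReeFixedSpace
end

-- part: S1156
section
set_option autoImplicit false
open Cfsg

namespace Cfsg.Agent.S1156

open Cfsg.Agent.LieRecognition Cfsg.Agent.LieRecognition.ReeFixedSpace
open Cfsg.Agent.LieRecognition.ReeSevenGroup
open scoped Matrix

/-- In the small Ree group ²G₂(q), q = 3^(2m+1) with m ≥ 1, realised as G¹ inside the Chevalley group G₂ over the field with q elements (θ the 3^m-th power map): for every prime `p > 3` the Sylow `p`-subgroups of `G¹` are cyclic. -/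
theorem result {K : Type*} [Field K] [Fintype K] {m : ℕ} (hm : 1 ≤ m) (hK : Fintype.card K = 3 ^ (2 * m + 1))
    {p : ℕ} [Fact p.Prime] (hp : 3 < p) (P : Sylow p ↥(Cfsg.Lie.twistedG2 K (3 ^ m))) : IsCyclic (P : Subgroup ↥(Cfsg.Lie.twistedG2 K (3 ^ m))) := by
  have hpp : p.Prime := Fact.out
  have hp2 : p ≠ 2 := by omega
  obtain ⟨-, θ, hθ⟩ := Cfsg.Agent.ChevalleyStructure.ReeFixed.exists_theta hK
  have : Fact (Nat.Prime 3) := ⟨Nat.prime_three⟩
  have : CharP K 3 := charP_of_card_eq_prime_pow hK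
  by_contra hnc
  obtain ⟨A, hA, hAe, hAc⟩ := Cfsg.Agent.S0126.result hp2 P.isPGroup' hnc
  obtain ⟨x, y, hx, hy, hb⟩ := HalfTransitive.exists_basis hpp hAc hAe.1 hAe.2
  let f : (P : Subgroup ↥(Cfsg.Lie.twistedG2 K (3 ^ m))) →* GL (Fin 7) K :=
    (ree K (3 ^ m)).comp (P : Subgroup ↥(Cfsg.Lie.twistedG2 K (3 ^ m))).subtype
  let _ : DistribMulAction (P : Subgroup ↥(Cfsg.Lie.twistedG2 K (3 ^ m))) (Fin 7 → K) := actGL f
  have hfaith : FaithfulSMul (P : Subgroup ↥(Cfsg.Lie.twistedG2 K (3 ^ m))) (Fin 7 → K) := by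
    refine ⟨fun {g h} hgh => ?_⟩
    have h1 : (f g : Matrix (Fin 7) (Fin 7) K) = (f h : Matrix (Fin 7) (Fin 7) K) := by
      apply Matrix.mulVec_injective
      funext v
      exact hgh v
    exact Subtype.ext (ree_injective (3 ^ m) (Units.ext h1))
  have hp0 : (p : K) ≠ 0 := by
    intro h
    have h1 := (CharP.cast_eq_zero_iff K 3 p).1 h
    have h2 := (Nat.prime_dvd_prime_iff_eq Nat.prime_three hpp).1 h1
    omega
  have hinv : ∀ v : Fin 7 → K, p • v = 0 → v = 0 := by
    intro v hv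
    funext i
    have h1 := congrFun hv i
    rw [Pi.smul_apply, nsmul_eq_mul] at h1
    exact (mul_eq_zero.1 h1).resolve_left hp0
  obtain ⟨j, a, ha, hja, hya⟩ := HalfTransitive.exists_fixed hpp hinv hb
  have hb' := hb.mul j
  have hg1 : x * y ^ j ≠ 1 := hb'.left_ne_one hpp
  have hcomm : Commute ((x * y ^ j : (P : Subgroup ↥(Cfsg.Lie.twistedG2 K (3 ^ m)))) :
      ↥(Cfsg.Lie.twistedG2 K (3 ^ m))) (y : ↥(Cfsg.Lie.twistedG2 K (3 ^ m))) :=
    congrArg Subtype.val hb'.comm.eq
  have hfix := fixed_of_commute hθ hpp hp (congrArg Subtype.val hb'.powx)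
    (fun h => hg1 (Subtype.ext h)) hcomm (hpp.odd_of_ne_two hp2)
    (congrArg Subtype.val hb.powy) (a := a) hja
  have hya' : y • a = a := hfix
  rw [HalfTransitive.nrm_of_fixed hya'] at hya
  exact ha (hinv a hya)

end Cfsg.Agent.S1156
end
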