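import Mathlib
import Cfsg.Agent.KFacts.OddLift.Step
import Cfsg.Agent.H47.Fibre
import Cfsg.Agent.H51.Tools
import Cfsg.Agent.KFacts.MulP.MTwentyTwo
import Cfsg.Statements.S2036
import Cfsg.Agent.H47.Three
import Cfsg.Agent.KFacts.MulM22.Cyc
set_option linter.all false

-- part: H47/Mono
section
/-!
# Monomial permutations given by tables (helper47)

`Par` : `n` blocks, labels in `ZMod m`, tables `tb x` (`x < 2 g`, `w` bits for the entry `m * σ j + c` of the block
`j`): the letter `x` is the permutation `(j, k) ↦ (σ j, k + c)` of `Fin n × ZMod m`; `2 i` and `2 i + 1` are inverse to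
each other (`chkI`). `chkW l e` : the word `l` is the translation `trans e : (j, k) ↦ (j, k + e)`.
-/

set_option autoImplicit false

namespace Cfsg.Agent.H47.Mono

open Cfsg.Agent.SporadicRecognition.CosetCert Cfsg.Agent.KFacts.OddLift.Basic

/-- evaluate `f` at a forced argument -/
noncomputable def force {α : Type} (n : ℕ) (f : ℕ → α) : α :=
  Nat.rec (motive := fun _ => α) (f 0) (fun m _ => f (Nat.succ m)) n

theorem force_eq {α : Type} (n : ℕ) (f : ℕ → α) : force n f = f n := by
  cases n <;> rfl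

/-- all numbers below `n` -/
noncomputable def allB (f : ℕ → Bool) (n : ℕ) : Bool :=
  Nat.rec (motive := fun _ => Bool) true (fun i ih => f i && ih) n

theorem allB_iff {f : ℕ → Bool} {n : ℕ} : allB f n = true ↔ ∀ i < n, f i = true := by
  induction n with
  | zero => exact ⟨fun _ i hi => absurd hi (Nat.not_lt_zero i), fun _ => rfl⟩
  | succ n ih =>
    have h : allB f (n + 1) = (f n && allB f n) := rfl
    rw [h, Bool.and_eq_true, ih]
    constructor
    · rintro ⟨h1, h2⟩ i hi
      rcases Nat.lt_succ_iff_lt_or_eq.1 hi with h3 | rfl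
      · exact h2 i h3
      · exact h1
    · intro h1
      exact ⟨h1 n (Nat.lt_succ_self n), fun i hi => h1 i (by omega)⟩

/-- the data -/
structure Par where
  n : ℕ
  m : ℕ
  w : ℕ
  mask : ℕ
  tb : ℕ → ℕ

variable (P : Par)

/-- the entry of the letter `x` at the block `j` -/
noncomputable def Par.en (x j : ℕ) : ℕ := Nat.land (Nat.shiftRight (P.tb x) (Nat.mul P.w j)) P.mask

/-- run a word, starting at the block `j0` -/
noncomputable def Par.run (l : List ℕ) (j0 : ℕ) (k : ℕ → ℕ → Bool) : Bool :=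
  List.rec (motive := fun _ => (ℕ → ℕ → Bool) → Bool) (fun k => k j0 0)
    (fun x _ ih k => ih fun j a => force (P.en x j) fun e => force (Nat.div e P.m) fun j' =>
      force (Nat.add a e) fun a' => k j' a') l k

/-- the block reached -/
noncomputable def Par.pos (j0 : ℕ) : List ℕ → ℕ
  | [] => j0
  | x :: l => P.en x (Par.pos j0 l) / P.m

/-- the label reached -/
noncomputable def Par.lab (j0 : ℕ) : List ℕ → ℕ
  | [] => 0
  | x :: l => Par.lab j0 l + P.en x (P.pos j0 l)

theorem Par.run_eq (l : List ℕ) (j0 : ℕ) (k : ℕ → ℕ → Bool) :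
    P.run l j0 k = k (P.pos j0 l) (P.lab j0 l) := by
  induction l generalizing k with
  | nil => rfl
  | cons x l ih =>
    have h : P.run (x :: l) j0 k = P.run l j0 (fun j a => force (P.en x j) fun e =>
      force (Nat.div e P.m) fun j' => force (Nat.add a e) fun a' => k j' a') := rfl
    rw [h, ih, force_eq, force_eq, force_eq]
    rfl

/-- the word `l` is the translation by `e` -/
noncomputable def Par.chkW (l : List ℕ) (e : ℕ) : Bool :=
  allB (fun j0 => P.run l j0 fun j a => Nat.beq j j0 && Nat.beq (Nat.mod a P.m) e) P.n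

theorem Par.chkW_iff {l : List ℕ} {e : ℕ} :
    P.chkW l e = true ↔ ∀ j < P.n, P.pos j l = j ∧ P.lab j l % P.m = e := by
  unfold Par.chkW
  rw [allB_iff]
  refine forall₂_congr fun j _ => ?_
  rw [P.run_eq, Bool.and_eq_true]
  exact and_congr (Nat.beq_eq ▸ Iff.rfl) (Nat.beq_eq ▸ Iff.rfl)

/-- the letters `x` and `y` are inverse to each other (one half) -/
noncomputable def Par.chkI (x y : ℕ) : Bool :=
  allB (fun j => force (P.en x j) fun e => force (Nat.div e P.m) fun j' =>
    Nat.blt j' P.n && force (P.en y j') fun e' => Nat.beq (Nat.div e' P.m) j &&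
      Nat.beq (Nat.mod (Nat.add e e') P.m) 0) P.n

theorem Par.chkI_iff {x y : ℕ} : P.chkI x y = true ↔ ∀ j < P.n, P.en x j / P.m < P.n ∧
    P.en y (P.en x j / P.m) / P.m = j ∧ (P.en x j + P.en y (P.en x j / P.m)) % P.m = 0 := by
  unfold Par.chkI
  rw [allB_iff]
  refine forall₂_congr fun j _ => ?_
  rw [force_eq, force_eq, force_eq, Bool.and_eq_true, Bool.and_eq_true]
  exact and_congr (Nat.blt_eq ▸ Iff.rfl) (and_congr (Nat.beq_eq ▸ Iff.rfl) (Nat.beq_eq ▸ Iff.rfl))

/-- the points -/
abbrev Par.Pt : Type := Fin P.n × ZMod P.m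

/-- the map of a letter -/
noncomputable def Par.map {x y : ℕ} (h : P.chkI x y = true) (q : P.Pt) : P.Pt :=
  (⟨P.en x q.1 / P.m, (P.chkI_iff.1 h _ q.1.2).1⟩, q.2 + (P.en x q.1 : ZMod P.m))

theorem Par.map_map {x y : ℕ} (h : P.chkI x y = true) (h' : P.chkI y x = true) (q : P.Pt) :
    P.map h' (P.map h q) = q := by
  obtain ⟨-, h2, h3⟩ := P.chkI_iff.1 h _ q.1.2
  refine Prod.ext (Fin.ext h2) ?_
  show q.2 + (P.en x q.1 : ZMod P.m) + (P.en y (P.en x q.1 / P.m) : ZMod P.m) = q.2
  rw [add_assoc, ← Nat.cast_add, (ZMod.natCast_eq_zero_iff _ _).2 (Nat.dvd_of_mod_eq_zero h3), add_zero]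

/-- the permutation of a letter -/
noncomputable def Par.pm {x y : ℕ} (h : P.chkI x y = true) (h' : P.chkI y x = true) : Equiv.Perm P.Pt where
  toFun := P.map h
  invFun := P.map h'
  left_inv := P.map_map h h'
  right_inv := P.map_map h' h

theorem Par.pm_inv {x y : ℕ} (h : P.chkI x y = true) (h' : P.chkI y x = true) :
    (P.pm h h')⁻¹ = P.pm h' h := rfl

/-- the translation of the labels -/
def Par.trans (e : ZMod P.m) : Equiv.Perm P.Pt := Equiv.prodCongr (Equiv.refl _) (Equiv.addRight e)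

theorem Par.trans_apply (e : ZMod P.m) (q : P.Pt) : P.trans e q = (q.1, q.2 + e) := rfl

theorem Par.pm_trans {x y : ℕ} (h : P.chkI x y = true) (h' : P.chkI y x = true) (e : ZMod P.m) :
    P.pm h h' * P.trans e = P.trans e * P.pm h h' := by
  apply Equiv.ext
  intro q
  show P.map h (q.1, q.2 + e) = ((P.map h q).1, (P.map h q).2 + e)
  refine Prod.ext rfl ?_
  show q.2 + e + _ = q.2 + _ + e
  exact add_right_comm _ _ _

theorem Par.trans_add (e f : ZMod P.m) : P.trans (e + f) = P.trans f * P.trans e := by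
  apply Equiv.ext
  intro q
  show (q.1, q.2 + (e + f)) = (q.1, q.2 + e + f)
  rw [add_assoc]

theorem Par.trans_zero : P.trans 0 = 1 := by
  apply Equiv.ext
  intro q
  show (q.1, q.2 + 0) = q
  rw [add_zero]

theorem Par.trans_inj (hn : 0 < P.n) {e f : ZMod P.m} (h : P.trans e = P.trans f) : e = f := by
  have h1 := congrArg (fun σ => σ ((⟨0, hn⟩, 0) : P.Pt)) h
  simp only [Par.trans_apply, Prod.mk.injEq, true_and, zero_add] at h1
  exact h1

/-- checks for the letters `0, …, 2 g - 1` -/
structure Par.OK (g : ℕ) : Prop where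
  inv : ∀ i < g, P.chkI (2 * i) (2 * i + 1) = true
  inv' : ∀ i < g, P.chkI (2 * i + 1) (2 * i) = true

variable {P}

/-- the generators -/
noncomputable def Par.OK.gen {g : ℕ} (h : P.OK g) (i : ℕ) : Equiv.Perm P.Pt :=
  if hi : i < g then P.pm (h.inv i hi) (h.inv' i hi) else 1

theorem Par.OK.gen_trans {g : ℕ} (h : P.OK g) (i : ℕ) (e : ZMod P.m) : h.gen i * P.trans e = P.trans e * h.gen i := by
  unfold Par.OK.gen
  split
  · exact P.pm_trans _ _ e
  · rw [one_mul, mul_one]

/-- the letters act as the tables say -/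
theorem Par.OK.lt_apply {g : ℕ} (h : P.OK g) {x : ℕ} (hx : x < 2 * g) (q : P.Pt) :
    (((lt h.gen g x) q).1 : ℕ) = P.en x q.1 / P.m ∧ ((lt h.gen g x) q).2 = q.2 + (P.en x q.1 : ZMod P.m) := by
  rcases Nat.mod_two_eq_zero_or_one x with h2 | h2
  · have hi : x / 2 < g := by omega
    have hx2 : x = 2 * (x / 2) := by omega
    rw [lt_even _ _ hx h2, Par.OK.gen, dif_pos hi]
    constructor
    · show P.en (2 * (x / 2)) q.1 / P.m = _
      rw [← hx2]
    · show q.2 + (P.en (2 * (x / 2)) q.1 : ZMod P.m) = _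
      rw [← hx2]
  · have hi : x / 2 < g := by omega
    have hx2 : x = 2 * (x / 2) + 1 := by omega
    rw [lt_odd _ _ hx h2, Par.OK.gen, dif_pos hi, P.pm_inv]
    constructor
    · show P.en (2 * (x / 2) + 1) q.1 / P.m = _
      rw [← hx2]
    · show q.2 + (P.en (2 * (x / 2) + 1) q.1 : ZMod P.m) = _
      rw [← hx2]

theorem Par.OK.ev_apply {g : ℕ} (h : P.OK g) {l : List ℕ} (hl : ∀ x ∈ l, x < 2 * g) (q : P.Pt) :
    (((ev (lt h.gen g) l) q).1 : ℕ) = P.pos q.1 l ∧
      ((ev (lt h.gen g) l) q).2 = q.2 + (P.lab q.1 l : ZMod P.m) := by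
  induction l with
  | nil =>
    rw [ev_nil]
    exact ⟨rfl, by rw [Par.lab, Nat.cast_zero, add_zero]; rfl⟩
  | cons x l ih =>
    obtain ⟨h1, h2⟩ := ih fun y hy => hl y (List.mem_cons_of_mem _ hy)
    obtain ⟨h3, h4⟩ := h.lt_apply (hl x List.mem_cons_self) (ev (lt h.gen g) l q)
    rw [ev_cons, Equiv.Perm.mul_apply]
    constructor
    · rw [h3, h1]; rfl
    · rw [h4, h2, h1, Par.lab, Nat.cast_add, add_assoc]

/-- **A checked word is a translation.** -/
theorem Par.OK.ev_eq {g : ℕ} (h : P.OK g) {l : List ℕ} {e : ℕ} (hl : (l.all fun x => Nat.blt x (2 * g)) = true)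
    (hc : P.chkW l e = true) : ev (lt h.gen g) l = P.trans (e : ZMod P.m) := by
  have hl' : ∀ x ∈ l, x < 2 * g := fun x hx => Nat.blt_eq.mp (List.all_eq_true.1 hl x hx)
  apply Equiv.ext
  intro q
  obtain ⟨h1, h2⟩ := h.ev_apply hl' q
  obtain ⟨h3, h4⟩ := P.chkW_iff.1 hc _ q.1.2
  refine Prod.ext (Fin.ext (h1.trans h3)) ?_
  rw [h2, P.trans_apply]
  show q.2 + _ = q.2 + _
  congr 1
  rw [← h4, ZMod.natCast_mod]

end Cfsg.Agent.H47.Mono
end

-- part: H47/ThreeTab
section
/-!
# `3.M₂₂`: monomial permutations of the 231 duads with labels in `ZMod 3` (helper47)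
-/

set_option autoImplicit false
set_option maxRecDepth 100000

namespace Cfsg.Agent.H47.ThreeTab

open Cfsg.Agent.H47.Mono

/-- the table of the letter 0 -/
def T0 : ℕ := 0x4f175871e9a39186d65e3ba8463632329d6691a1918d6859ee6310cbd330e9370d2354463c4ff4710e41d0a2d858605f3836017e9fd31cf91dd9f90eb2a7671a10e445e0c1c99c90ab0a726f9fce245207ab8555f5d17b5e1761da310f7735eb79c4c5355c5e16c589652eced55d765c554171858422c8821786cc93f5ef8a22773d5a000130883c0c4270b0060241c0e837060110806162a2e9825492e4c33d027d65c961d5582140984a4892f5313f4d5392dceb4a548511274752d035341a9948de95a22649dcd842dffa468f779698782d9413d10488258b22949c2807b1f8922c0ac23c8424c03264812886f6623daaa989aa7d3811181aa8a95e45ba240ce575068b2a0515edae729bd6d5b7308f46a5c6711a6545aa055b2495b9229c1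

/-- the table of the letter 1 -/
def T1 : ℕ := 0x222819f01c45b1629987e021b8e0324c8108db9f21a7ec689e8d7a321e7fc69a24d89dd424b9291253f2e5384f2a3896081ca9c38681a4144669836044f65cbe641944899b8f6117c85e8e8ce8d6384be42619e573dcd159e2315da77d287997f748340801c004320182c0b80d0e01208819a9e2a83075a78e5a0e91526ae67e457a43b705ab69c516f8c26d9b9495c25f1af69817715123f8f9115102d50a42ceb450f23fcf8029183ce5684df51825233e4d941329618b8b9d609a5d6c1049ae167e8649a4d2986644d66d63233764289c1b54164a2a8942483f2947b284a2204ab21c97238032c08a1f899272aa8b20d1e2a23a686a514cabda2921ee0f2b47291b982752c96e56d5812d6d2e9665a11e5cd4e5795303d76544ef57d6221177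

/-- the table of the letter 2 -/
def T2 : ℕ := 0x1985e9c161e3e6bd7e791a674c4f1bc5117c5463e7c6e23577068616246b2107405b86d8995db18c1d518a4c8519eaa1c590deb1d6848a65d53d6e5495e5504c59d5b5817568eaa72a467b878a1a2c97ab35dd21509244bd271253a4b93351d1e530bf37cc0330c3108d5324d0390ba3a4b7606046a1f4734597f5f17d60b55e0d4acc76366c6d63375c6598e1892a72592734dcd27e197a61bc8e9e01b67b87e53a7d6ca81403720199cf144cf3404f8119093f504464ed46cea2d0fa41d0f66ea47124279c73a0226966ad5cab1510e28266ea6d1421ca92289623c4028494268b0214b12047d2409d2987e2b0120d415088190002b07c240e8110f00e01c1b0a0320283701593a2dbb8e1dd1aa7687650a4d68a593c369fe99289432902882f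

/-- the table of the letter 3 -/
def T3 : ℕ := 0x1f431cce83244399294c0b95241c088070e40e7f63535e824e42a5595d2f1754740f599f58bcd19713409a4c586048f4dfaa1410d67e5be567ea33352714d4299896392e6a601882f99e480126414d62599636028ecdda7d3e0c27a5ae54a626865a08900e2ab5440de805ca5aa926e6769b83a4639eb252c3ea157997aab9d1a3a8aaf7be1232e284b81e8695a8562385d85886268b1cc744c37ad27069db551d678dd85f9e27a1ee740fb400b4460ec02d0a3b903449073c90f4511c3f0f66a1ad309c7494166d9506c9bf6cd7c6f1c2725aa690f3240971f4b020c032808626ca827887298ab2c4952347e22dfe8dcdaa453d0be775a650a326664e88a3a96879df435b92905717c441d84900468134601c4651386e1c87816c5511c5310069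

/-- the table of the letter 4 -/
def T4 : ℕ := 0x1c567d7c0ec1604a5c6c58a096446b58708630a0db76402b93636ab9c46743796240a04ae230880109925c9f2b5765414d0415f571675c484aa1c16643395a3f9f6a42a9701d451138011885d198720fc4d1bdeb6957e069d6745da7a08f54de5156b3729a20f66091e86abcb35e2ab1e1ec9c1b563427926319866d271639a86475e75a4db96482e946389e28f2896aa3469776969914848d20039334c53a518824794212127531364ed173ccf202904405094507f3bd12118f846906434ea82da96081d7ddf37f608241578105972e0e7e6004a4faa75bd6583094e3a9ee9c29d6ba606c78aa09a6894fd0e804e5308bf01ccf338d63847c2ece010cc53a4d4360b72d4c6372286b185082148421a89c9456a23171d08ae188712c3f5f1880cb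

/-- the table of the letter 5 -/
def T5 : ℕ := 0x1ca6ce746ae2c8608a2c49d255515e164568866e28798a1b281665eda1631832214d63dbda8a67884a75b27b655bba5a64874a25aa7764a890543c0a0200140f0b0130c82d308e9350c91ecbb358bf370da01da47b5d873c8e54dda5f5e17741930dc6aca718a4b05d28467e9fa443a395eb712b19ba272b571a059da72900dce27a2ad6be478c6112595d8d5888ea3708cce7464390124531364b88347539489404f00c2dd2851d444c4f3469053f87e3b90a3c90f4300b2d8f745d15400ea1487a18c5b1044b1a04f1b06a00442154761cc5f120476c65e92a142695f9318994a51098cf7565c96a2e4d104189a7835f87bc90559fb60a027f81c31dcd82a077cd293ec597d5c1aaa6c888a85c27e66299a2c3437de4aa2a38fd4244c7195e06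

/-- the table of the letter 6 -/
def T6 : ℕ := 0x28d380da1c46b11299a28dd1ba06800c81660395e5134462951f78921e32c5c885f185513434b611d103ed043f8350bc0800832074260800b5c16a2f04d5b5585855b3bc11aa29339877a7e0c96e2a4643b5d9e5778c5159e2735d6740f7069557a6a5a40e31d29c8265a89d160e173ab1e88fe383385f8f1f48c212404215724574a429b266350659a5fa92e174182958a727666f8c5414f0b71293f4ad344b0eb0391f51d26519314da7e9e0d519a7b7f24d865080a967a11daa063498d38701bb308536f9a86c5ac3d415549c7699c46b5b5491b82a8a41f03f2949126c951fc03210ae238ab2589d20c9f232aaa58e71e2a283e5f8b51c0f579ad1eeac6489d54ba1dca2c998650be141976098a610f10494e6797d67186639226457c21da3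

/-- the table of the letter 7 -/
def T7 : ℕ := 0x58149a71ea0e7246d809bda847682dc6ace9e118fa3d11b43d1813157545785b1753b8687edb7a1a7aa0d0a5984f6057b68996680f053590191f96d2749a271415649898d1a9ff6ea95a2692435699dd939945572da57b5e17acf6551db5fdd87784331cc13a4dc394b52ecd72f4d3368c40041b05c3c0c43a028100b0120a42e0600716df06ae2c882293f5598698385e1d73cca0804a4a52452940524ea47d39485354f1262e40d4b4617d9b197e53971025864d62a4a941d634026851341ca0870eb0a6ead45172a019c9ba8f79ce20e2265125910490228b2294af1f88628087274a423c7c00c932089b2b46f815c0aaa98a9d115be7d6666ba31e437c3488d4295aa42a05f7cdae91e3b910ff5763561a328e1d233021845308be4125a3e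

/-- the table of the letter 8 -/
def T8 : ℕ := 0x1873c5002f8cd2d48825c7f1f1938e10c364a35395d3b8bb2156963632418d32766558d998f91237ca9a316f9ad7e748f73108e77954761e4612113f4ca2521e56a1688dcf67241454e22b28f5ca6ea91e78999f91118394afa49759c6a77aa29ab5968ed0f370a6a256c9a29878620a6e9e485303acb82093c47936509274b5455213f04c22028070102e040280d01907c370e831035a291d1b3a0b2a55789d2aa7b62cac2b3a854b0f5817ccfa31c917fd577e605731f08220b8092a0720e62a2f40cd026a505824a959d585259972534cc2597df65edae3d0c122dba545b4701a56adc3719bd49016725a86c44f1784610c401a44c194701545b1cc761b4490047916061149908d509358a09dd6698a7d76e1aa02839e9390ae867f24d6dc67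

/-- the table of the letter 9 -/
def T9 : ℕ := 0x1284adcd4d1d67dd25699a96c93d77e00945bb0381a0742605c2f4ddd97ea4b6d6660a4b9314c8344c236808351497ae0c975c7a4c3b9c8e64b9d07c6156b21d0821632e2a3b0f83ed043d50d02d072d9193f93174df48c1af8e4238ccce916124048323c9226c8c290052787d2c09520098531ee83e6072a960fa753a6b48b51c920b34e9dc7f64e6e2780b26335e8486d0a8d8a1a1d225fd8262d7c65014638bf681853c988225a3645467a209969c4a40389bce3aba2745a422b6b1a059d50de581a577068d0d66c382a8891138fcaaaae7e66aa5501e280e546fa8a0ca693769f885108f0a7a8a7b65e9ca644a15859188531a402190441dc5c11c5f1047a1a0501d0711b91f55558585525a811590bc5d95b3bd5e2197959d4f5cd705b44d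

/-- the tables -/
noncomputable def tb : ℕ → ℕ := fun n => Nat.rec (motive := fun _ => ℕ) T0 (fun n _ => Nat.rec (motive := fun _ => ℕ) T1 (fun n _ => Nat.rec (motive := fun _ => ℕ) T2 (fun n _ => Nat.rec (motive := fun _ => ℕ) T3 (fun n _ => Nat.rec (motive := fun _ => ℕ) T4 (fun n _ => Nat.rec (motive := fun _ => ℕ) T5 (fun n _ => Nat.rec (motive := fun _ => ℕ) T6 (fun n _ => Nat.rec (motive := fun _ => ℕ) T7 (fun n _ => Nat.rec (motive := fun _ => ℕ) T8 (fun n _ => T9) n) n) n) n) n) n) n) n) n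

/-- 231 blocks, labels modulo 3 -/
noncomputable def P : Par where
  n := 231
  m := 3
  w := 10
  mask := 1023
  tb := tb

theorem chkInv : ((List.range 5).all fun i => P.chkI (2 * i) (2 * i + 1) && P.chkI (2 * i + 1) (2 * i)) = true := by
  decide +kernel


end Cfsg.Agent.H47.ThreeTab
end

-- part: H47/FourTab
section
/-!
# `4.M₂₂`: monomial permutations of 616 blocks with labels in `ZMod 8` (cosets of `M₁₀`) (helper47)
-/

set_option autoImplicit false
set_option maxRecDepth 100000

namespace Cfsg.Agent.H47.FourTab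

open Cfsg.Agent.H47.Mono

/-- the table of the letter 0 -/
def T0 : ℕ := 0x1b0bd5e478897871cb01f8331897c49f62baae478947b150af8282ba09e40225c1d9a1d659b0f2390c770fa507f94b46ba1b327444fbe2a53aa789103d3ce289f095a4b7d030f0192005217407e01d446ea1a72a1907bc96274e2966b464603082a5bfc5a20b886b84b9c72290f2a88041b24c90867d53f25dd13053e0495d9349d0304a9dcfb0fd06a4463e64d11a886c02db10d0d896098246d1638a21c2139e4e78a847018481384853ad0f64de53658bb250a2571cd37b1e3442265b2ab209131623c2fa5f24fe77a021f5708df671210e1dc317287e47de3cef08752322980d1256b0162954cc7e74f04c1df8ea849b165dcf8ad458816f9db08f260d2af0f5c2dc5fe392940c430126b378a78e087ec3d6979ef648ea2141c8cf7e60a072e056922513848222909c2910dd9da0e688bc4ce9b089062ac1000b080d2742418da207cc6340cf9de0cf6121b5682847a669c2500ac10ce65040119dcec264030215e88a628f13507f08fa1f40becb4b0710d72fd17890ea56136e03deb922982851f6ac745d80702390ba85f32e62263215976031031c8ba76726056a0c2d0c80438b350ac73a3a312583040aa33f14c88022b93460988e3a1e549a1ed4b5c748c2c95f128e90c2a5d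294a585762540578a482483689b32a285ea28619891812314abd8ca07a52a1e39b5cd2c65522c04581a00be0140aaeb4f70c40894d0b724db27712dcf9a4543af0b8ca346203fb0f788dd48f15316d419e6a295e51a0b63461a568b6e9ed996c22d0bc8e499a497607288a4300b803b267d62705aa0871fd96a0e28f3f2e24060db4fd10105922ad8e6f24f7fd2449c60a0e3fe99aa184c581991de0ec065722c0b30c3c7481a034160632f25c5c674e5e8107dd9a10cca6e83491b61bfa56f3600dfcd607923099b58c6032432c19c0d486e34219da4c8c6383251770e7034c3a1180072a69d2e81fd8bc001e3460c69318b0e58f24e57b4b461c12a61adc9c046791b0d729be65c1735cc44ed70216b8ea430a3c11d605286201af10286aa9776ba13218a84b856602e8960b3851c126012a1b86e108015b441028808200bcc3111ebcf08e84187d327f856423041d0f607c0c381e80fc1ca44fc16048a236c3a037dc2e8e0cb2c3549378bead551e31518a086286721dd80286f02ff0cb1af827c222333a148dd06e70ef8a542d252213d054029815403684e42885800a181512b98d1cc212f6e17799b4c04409ac0b2114042042c0c107e1ee084f0f036d43a0bb80d81201cb003044312811d01f607c20d82e015810e2a31bb82f064a3fd022c0ce0950460200b324ce09a01680e82850281b2496225703901e0d2603402209169e6040010005044a030012132003803826801300082f50c40000020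

/-- the table of the letter 1 -/
def T1 : ℕ := 0x6ab21f113708a9803e084a10e397c1c996f88068f8a072517310133c7f13e31a7915c969504fcb979c91156110c439c344f831d8996412876121853c2e0e3332af411bc465a8f0993a37717510108db0eaa4a425d389c5de122a076ac3c9a2a1045975c06225103c8c72e3e0b8ee384336320f711878e4a1980d31d927c6b594478e1cb2a596482ec6c244e512b102930b09e228d158a64ae5f1082d4379cbdb5a9768b41f820eac943df04d1228f616fc42821ef30f37eaf2e1fc41a4a33dba46d2c66e107a155cde46fb4cc6422f5821a08f624d1937d74b79e011e775633a21d0f2f73435a16b4c8649a3fd1d40efc75d2a7d628d1c7462c71ac054e0d40f39c6cdca5631ea230ef3c4bc0905c0053c365bd09f68fe30a60b805b447e5f8074d394a36517833a0d0d4c1861370b14ed866b0d8e1308db65c08c13880a256834220c673357a338991433c70945e85e4a0c2ac3e6937cc9886704f1decc787612f119f09eb3c013310749181f0111d68700c72f36f18e0eea71e3051eeeb9a2d72871bd2c0c0e02ee17411c85c82f98e3af4c8aca5991dc8c55522d213025a225004187087dc2dd39e0b8427854431b14b92e42373a10978bfe72a1f49f28eca2c829c42a92cb91042c52d0aec53027714802bc24c2491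440d995082f50f44e2a20948011460824aa43020525802b1256844803007e0120b98b5712693852940c645b29414dccb02dbba69618da647d1ed9ffcd426233998310884481a320af28bd5b326c1270c6291ccc850cc19a7a9ca4e28a85844537403c265d1ff05ca2cd2b18f41c00ff8ae63cd97c8fd11c085449b9a090d84863fb9c94cc24049a993a451e3b80cc8cae76828814b8e8061e3141f24e1327f89a483206038a1ce8c80dc06653681a49fba6b82b79aa06fe66c3019b78bb86f442199c0f2c6eb33c1d84c7c64a3201a206805003a51a7617e61018d0dac03c5e831a17e0aa692a73922a4a64c2b5973a45dacd2c46bab78d82ca869c26251e83527062f6059cd7e62d11601bc34c1e20ad0a870211b931509a0acc26012a017419024828e011a1b07bc10b0ae89fe3ac08400cc2fc7983880408fa621011809ecd306240f418703e81f80f6157c35a1694a763703a07df182d02c59e358b5c8fe733f27d13acc487386791df86286842eb0040a4cb0461a8501fa88507220b18ea83b852610385302a815014305002721820a381e10509523f05c36cdd21d90013582280ae08208a04700f806097d21d84278721b6abb024006e18349a04712ce16d41fe4ce05a106c21c0b02bf23a0cce8003ac023cd9008804a96641080bc02a01c00b414b3498244b7425b03b04d00d0014122c1200784f300e013005822526400a007002006800d00002f10cb0040008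

/-- the table of the letter 2 -/
def T2 : ℕ := 0x39c29e5e0319d95f8ec4e3b1b83fac9ca4b115d86b40d26091a26c44bba4910688472238e272ae849c1ecd307c49593c4e5050de392c4c04c329790821e5714f0c8214b6d6449f793eaed21eaa819663e364ac81d3ef1eb6392a0b755432079f03d42dc279fa08649019f8d944ec52af483e3ce2e86c3462a052fc67e747ddc94dde7df352a36b08466e476201cc9c979ca820e12d771b47a4e56b7a5c141958dea124bb48a65382c460714903d2e0b740356a48870a40abca8a70a5a695091e15d28986124cdec0abd4262b9d0deb4a66333e9d36cbc72ac6be272bae7903b61de0fee77412401dcb905e315590ad11c7d9ab3d54cd7011c91e1d60e762a7366a2ec29a54ab3505a035e7af2f79be0e3f26b3f94f630207bc465e3063547b8a9d5af04ed78c8df26321e35ad3f608584828a71d916a08308943e91a40f9e264471cf9930f0df2470b843e28ab4179e74cc877e15f91a2d3e85013f9d10bf26382e621d0968024312025099c3ad2bee2d304d1653fe98200f07c8afa190c9105e83849d74bc84932c7a65323f63c448e22f1618fe26a9a8ca4e6d742d9680f464f496cd6610558eb30cd5e0d665892a2095c82d36285c066ca2b7b59a983bec8a6793811610d10410138167022269935a84209b845c2750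49aa184c2b799b943c64cb44294de7784e20700b9e6a94551afc96cc3c2251dc9cf6a2380d25e12c0c604a023251cc9384ac36f061c75454d24217c04d8231368920042068c849d18095745828e148ca6693234324460c490fbd250e080097045e1c3c6236fd2da9ea9337960c2f55671446aa8c58d152359929b851208986f79ee1ba8e2699d1ba5b800940d327e0cc07ff4d12ef8e9034c3cf0ea1840ba46823e121c039737c17c8ca46383b58d146e245135826c53b680f3279908d0c7e83a2211cc066dd30c1e564d23603eb9780cdc6762801b4071c62f2fc17a0dec32c2e8004051229072f2cb439a5a82341470ad020e2b832c8ac058875339a8b7852e2983ea035844028816504d86581dc28091e2db347420e11be1580312dc083022a06604211feb0073116608e048f0bf2b69884ff428410214a494a5750f4054819a0c113080a03d867300818504f0649095c4be60a3808e60740d941c007e863e6963d21e30cf061303d3a4cc683691904bf460092a60339005c11007140b602901400500aa027043417b33b93900b413802a0879016398cc41580bf84c6128046c8a00452d882002b83668441dc30ff0e82aa4b46a347983b30a8c9e20c810187fc1880b304603ec45c1fb0a1183d00415803618a0ca856805a9da058201c0be836c13007012701a00b844205404f02003c2026010021e0380cf897c0681f40160080c5800400a000041000c17601f0030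

/-- the table of the letter 3 -/
def T3 : ℕ := 0x3cf208575e7db6c78941a032cc189c1f65648588fac18637881f98cc97a5050708064885f0f24e8edcbd8c9e89c97446aa550fcc5d09f8e02e88d43cc86222313d5be43460af1098482c6a31ed1198042ade232c6991b7461ecdcd428392985eb87971b369ab4804787c8c1a70b957522e253ec2e00f0c72d8d07089214b6a2e0f7e409ad49f14c988a949f65350a493ac1a25410336692c8d8471fe8b1cb521dede04bf098a11414460b1111dc4df36b845221b50e285d3a74a60d346912ffe3667146ec36fd57af6870d20b10eeb4266706e1f6cef86cfc95640932f65e3ba1db01ef77804203691235e739a22fc55a7968cd5910fd84c6b988aac47e2dd3c6e19c2f0700c1685b07a24252f59fcaa9441f3820f72a128611eb141c78849a13956b48f672b0e125710fa6d43a014acb027eb1fee16cb6a6512979f3cd2846faa0112871c79b2a785243da84e38d1980f3a79215d824112e8420ef954cbea5cc31e205296002004a18a044e4d22c547907280a53021ff42fa12032197e09087092f61780eba3a94751e047246383b0241d03e82312c106c2166bf3521e8cb485342ca0b671ee5d92bf951048061aac2083cf5122b0461d222487b1a0343aee8a48f38ed5e11c799bb6cd3d28a27d310b96c48aa4580711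58a985510409a30a4f63b8478567e1a6356a8d05109dc5201add6ec75e62227e8478a1b4b840698c096849c230484c9584a03dd460cbba67a2f812208e824493bc9b094a264b2bd2ae8c851c22e137c2203e01f225240bc90ba1a1e931448aebaa9eb867126835015c6a788d1beecd428603b0cbecd011358cd18e5a192643d837be32635c39d194c6a809c4f02658dbad5461f2490e9067c99c097e09b23b985ca35f8c39f37c17a8f2e7d733198403f6adb4d89ae138eab29340d88fdc68a1a41888c547682801bb8d326963700cb0c0284532c0d1474c66d2fc1bd8be06300081761392cee2a62cd4b401cd2381450ac010665915e0b1056888d3ac9cb41aa7d414e0a84ff42ca14608706186490f01b46a7048037e9a303f603526a95d423006a3b408c2d6673811a0b308fe0b21b1d33c5201360a91ad88e025400808601920c505680b0ce61f010422d2a0227c4c5ce603881c81c04c143786ca1b3c64e6407113710e886d30392b28bc83181b49fc925430807b0a6a2002e816838a183d00410004e056040c7231700b9e15405409e0a1922f1d48ec5456f9173f88a894ca660412920b040a01bb05a9fded855548760b569d067d03a8a5877a20306603003fe22d2b4022c17a26002c05902c015403818908d10b807c09202080043001d940d809803209388840600a104e02b80481e1043c08819f01e00c04be0280fa18b004807c00000603d000c1740070028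

/-- the table of the letter 4 -/
def T4 : ℕ := 0x5584716470a78438362643471836ac7d61c71bb8e44bb04c2f4c913ac8e4c3056987c2b5f8f32e8efc94e4d118f3e4c93a4ee7249414a3257322894f9cd62cb1ad999ae94e1d0934f93d020ff1f88d2c13975b2e094a453e5507af7913739cbcf8298b3fc2231302868c1b192854d8c8cad63c6e466f7a265bb12d189fc36081909e32789c233ea00815c429f1043296cae21a1b25980322455c68593f1c0e218e50c5cc345103c8525a438719d8f767d0432a1e72353cd2a3def4f987ec29dc4ad2097af2610b8423f7d44b11ea0eb08bf3fe1de2f387771f19e2124209d25c8b509896cfa4090948f673347422050862e687edcd09ed617ba21ce00f250d03649ecea809b8d79980cce8aa2fb9dc49ce4d32e497f8ec850a45c9ba0db86d83701260e78145a67a2b31237602299388b408950da05245b71e026f1a84d1867220a226eb7e6401010f14d2421c38899a0cb87140321d0918327e35699f0c8872bb8eca501606b81add15c3842cd0761b430426082b1c3aac0887e8541604afa5f02f2176c1c06f82f4a40d2f60e5aef9701070445ada16c4b763de2d61e6092e5981aed48911055428b0b44e105ef38118751b708d11386e0c196d697d4508c374702c292f08071d4248d3b03e052829214b00806c82c51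4610b08b443b2140a0824c49fd95e94c0340c215ec3dc25f29818a049651d15f9c1afe67d8bcb47dc46604e27912a0a9e1e82aedac4f964b415506004894ae35e834c942047a3600aa17d3608ae8094c5a7e64a85a0e10698c21e10c07db612c161bcc74804a1ab602900a4102020bf83b32f10d89aa70354369fce0ccf0a5aa0f3594c2d63c83ef9fd47782560830ed0689467b538a0462439c1ca2426f028a347a8e203243781ba0df031e3178e4d17e6c859ea6a40865eb3501d9cd20616338186cba26683a3c2e4ca03453180e90bb665d33e8e74c8001840a4cecd3a38e36f199c1c65b87b734bde34a9457615c87e89922c015a0b2c03864f0b21b005242a006b04d853c06916301d88462af0a8815e4e802f33d00c477269b1320f089f825037f1daa24f24006412c446841c2b488a0cd82203a8024010820807c9fa44d049c14412349b06b40fe06a23b869c2a1a64063c342cbe0ff007a5640de0fda7d314f1ec869060b19805c8e083281881b881602f84840b805642d81780aa12282ec0170b08f44e4871a1d41dbcb1c0f1a8818d8258967c2288f2f611200560a3c2181080880984e9510010784fa1e8550b00e03a1b85e014d036019847506208e08c30c00cf98c016800405217e0efe0a031d885012801810802200f84413ae2040e9863c08a0180cb02b027409c207247c11711a2b2c62100194d04b60111d7189083005c2b791604d800818004600a0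

/-- the table of the letter 5 -/
def T5 : ℕ := 0x2fac7f65043a843c456a5331461c82e8a5a91a083fc39c4b2f54917c44e31089790cc67246923e4f8c9264d12af833c9d64a4f069943f0e4412b99871cb5f0ebaa8e04bcce2d10d93cbac25b1333972ab864071bb854c47e4c2ca579d375943120b6c7b87232271a86cb425abcd858a42c8212ceae5fdbf354292ed86844fdfad02932ba882526a0886147944acea28e4ae022687ca4284a8a364c268181f8e13a0e80e5a0b104d05a7984540f1c9827cc10391392893c925fdeb0fd87d0248a1111667d73f88b742477bd3d225891d07902d212e717e2d73c20f8c7260a13cbde34e0e145122dbc0d780783d01c80430070080dce0cac6d039a1d10eba8b531e454110263a8a71970cd67fa2c01316af424a2ee21f284a87437222e4db06e036e1576c2f76ca8e262e54847b31607b092e64b1fb4ea4d2e1dc12e8b62ce469040520d68896441351fd8d1c2203321c44e2866003013d27aa2ad44b1900cf806c04c84d816845326a009007e5772a85cf285b563b0618001d56f60521c24bd857d2ed97a01b85c92f2a3571f380c37da0e0b886812d896e0b6e5a81ef1ff0d6035dace01092b514228d152cbee5f32728b3904d01911586f0c1149acce16301df4a11691f623b29903e440d09b052429614a0b2c4cf28a1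62827072f37714010a02504779d0695453402c1c04d6c69a0f80d6edfa6c91619dcef745443bd923046e47e25213c88e61fc36a1684a751f70b305f0ed604c3b0833ca98468023ceb218536480a1894d7287bc15d6fa0fe4384c60fb6868823c019d9c50222c0101a2081880517f1020a811c41f546d703d4328d964bef125ae0d5a3022ae7df1e619dc4ac3c01318ed069102a0a4108065939c484ce612449801c223d432c3741be0de03162ed4becd808bf59ab1450666982f59a20ece39b30d99e0cc05d131199221726081d218e0db274433a9a0868a0104062accd4a7fe31699bdd36f6e2e03505dd0b0e61f15a8a285784c91658ae00b827d245224653829206d18d05441150fc204874e64e39289c00af010100096020e4dd0188ef84984fc268920e47812786208c096204a11215a443866c42182501100f91062198cf41e816312d4a604e224e0f66d381e020154f06343099b54bc4c441b82b21aa07f67190f3c6906430b90ce06407043710c613a09081800b605882f01701e88aa02b645b0bb85a04f61ad3539b3aaac0f5c2c0a592cf1303e289022387b080201a02101100860ee81f874a90583c027d618302d73abc00e006a0a688ea0d011c03201784618cd82c0c601182fc02a013877f38e424042856f04208408820803998a185cd72b94799600c801c0c209d20004ae20f11b2a401c302993b04ce26d232d15c6ad2b0046057405e30000602b0072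

/-- the table of the letter 6 -/
def T6 : ℕ := 0x6aa21826412303e79cc65153113cecb52355223823c7644ab0e64483c44e3b0f4916c84e50130e93840d8facd8c9283d31a0281f8254ca236121a971c5623c120c8b2c7e0e4520497992023810711d94a6d0e2fc2899865da24acd70b3e696691f394ac52021c82d8883c04244c51361c4222710fc0602a11b9d0d89612deda58cc41ca29520184b27e941e04c0b76830473e31d09080c48fa0a103896cc9ea3007aa06442b2020c1a60b4001060cb14753b5a34cfc81cf3f6623c20225122d211924f79c1b214d8b3c7574cce4b85aa7983de1d0efe535da1a171519c6f833d1534d4648c4261c80c4c49b39617b4ada6ba43a5db890247f39e0b7498b4cc1ad9a44c065b2a5c1b50dc28bd3860af82120f795d03171956670679d229f80fe3e80a3c0824dac5a9a180ba28b1368958b1424a1fc9ad84d0469829845423026441a24c0f8086032219c033e6ac25f0374cfc7063c88b04ca84d605e1de87b20b507c1418e532602b402e0e6c497474d65ab207fb3021ff4eca45e9ee1bdeb987ac2131eeadbc4d22c10fb8c2408804b13eb0d55c015a9bf08c32c810a039a5a04a0364870cba46b22c613c4af85da1dea168a7d29a449e056bf84f42ac1444eee55029383412a0403a9752b09dc15c2ba12a8a60125ac31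f2c94a4703750660c5e7133c2527ea325222bc097c9b811125b8ac03007580d7891442324f0349b3af1e7b62a59558f6455c8dd9240c3a74631e18e0f2f7390231f6a1dd68c883dc02e38561a8b91406af95c22610fc2e042d4bb656ef554442f510a06ec7f420e10411433879c09010ae497d4cea4d4bac3f01fa0f813190c10fe08007883fc99b8ee09ce4eb1e80a003141851d60bf06d73b04c1a3dc7283884aae48460937c0c98c0068930d9755796faf4b3b19d1526a037397b4d306493099e48ce065831818b4c706f13439980c406532f0177502a84400c0db46386dd33c1d100c23e06210dec8d05985a00b7a148ca665c3bf2100c9c22b15208984f82ae3a887742c07150b4881032c0b00100436d3774d3b891bea023c21629a9117466b3371cc6c3511cad21e8c47829514f8aa814021810408301d55a810e07a102664313c9b4007e03b1420b6004822e0ea237cfba1d00e22178c2d1e6baf06c05f31a8264868001067531b0ed864134b9cf0eacbbc0da0be1b041e55ad35e0a402c853983601c002407a0f600d027401800a0540f8c9658960480a3d233b93a1949c60282335a7cdb65e024216d288350da6008e6a886ec0bd19201c050b37917dcbf60d43b1122c5401e009e088014809803e02301005ca2f822a512e09c03a053800801c38da0b110417602a00004e314517240bc3ee2e10a4813c09647b13b42b03f6158054050826c3a40d205500b0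

/-- the table of the letter 7 -/
def T7 : ℕ := 0x3fb3d564613283e3cc1e5047323ff47750e721d81fcbd04bb0de44c21a4e2aa808dac56e61d28881b49e0fdcd087a64961f0270e8294c825372e59134a564091e48f84594e5520896bb0d60e31c81d548a25dcfca782378e0d502870f1291b2d1fb908043a2a08258844674204ad17d544e22200c48824a91d2f2c28702e0c45ccf81c62bb202858c7684181f18568848471da21078064412247d2d982049c959a40282c4022158ff06073069070f237dbc279f811a61d323acd82db08bb28a84c8d007982f2d2b89445ec218e4a846a7bc3ce1202cb64b14add3ef1372ba32315444d67463f4980c1741ba2661eb453626f373d238f2973823f988848d7583194464ec84600348a3c9fa70845e99788cf5b43be17d21940dc28521d4e265e20809c503e84b5acda4c82ee1683a71a98b1c66c4cf0950ee21051386198e4e46fc639b1924f6623bd067cce824a1269bb50c42bc3f9d9405822b206a19e03fa48824206686b1501449dd885be493120c706ba48033fe9820e4256006083141107572150d9a1f81822bf0fc8b245f00471e1cb7886ac2083dee3b16f10608e05987b245b1856c205883591468bb458027414a080475331423068bd49faac1298a9877725483810f45718af5ed8a40539c2d15249dc121a799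164aae0ee86698d84c66e02e2d570b0e5321de8f042224e0366d938bbc72c0d59cca1d066a38c13646b9534293144cb384f4bae987492876c05a83e0e8673d0169fbca18264b4f4426b655fdbe50d5e8a84484ae10b01e544546bde2133043f21217a86044183fa2286828920982d010a793cfb558fa07d85d649aa6327c85f8321a04c77097d99d8f404bc57b1e206587383a80c280305d418a4c5ce411ee9559c6103281637c191d0886992f19d05ee111d78eb9491426a03440c64dce6392ec19a0f246303301894d0e3273241960ca662836e99f4e0e6e83a40d94d266183099b4c12e07e7370f21e8cb402d02d6096ccae70637d16ec9a829e1130aa01602292b708bc2c86d535e87a07682a00fd80a60a56bb3501a30c584e54299ad8f9e4bd357131d1d02300734b502391de1568a9814820810e16a098521410c0a107a83d801081045c014810206f615829746f87603987dd42f0720b2a2daa4c8be63684c90d600203486712820a086f22f61d90ebc9a017806d01788802c9145858052052c00e001026807601d813c02c0a80a100490881284b2d47a24823fb481a5c9be276b8191a2fa66de31c1bf22e3471908d6961a06670bf02f0a886e94645bda7be64831218fc4f802400c028044007c04e172912e0942e622941200980a701e02a815825da0310f86c30000160d3203501891e8da61f10f685105cf04508607804f006c09e04e02a42fc0d001c00a8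

/-- the table of the letter 8 -/
def T8 : ℕ := 0x7a60c31f7e81139d9a125e863539632a6644cbd0f2ab1219050055da389d591482ebaabe6210545e82d9961020888c364082639042a0e90ddaa184ec356839e40285d9bf63c010044105dd76c0f87354be4f88cda2c540c14bc6b57a80eb5f2639e4dc15cd35ef1c7ae382e09e22270badd06f11158e3a591304697934409128685d0a14624f4811f17d407a100a5720d2b2c8d40d070cabb96606ac29c88a092866a7ce8a295e00ca63a91d23eaed0719b399caad241f72980ac22d784a92f0b4cf7806344ea4390f57b913dd294078363a2e848a4a14ada935f54db004b2c1646c25a23d15082147bb6642ea9bfa526640914a306a4534f18684e878b83713b5d0642676d06e97ba5b24344964de8fb495783a9be10724808b38ad715758e3695f4ef0362412adb000480e136fd4fcf283174cda2b123f60ab1f4b3ebcd6ccbc816accf05bf96454169c91900fd18171663ca2fe2616716808c38c2ce6a41f10b001b02a398028bda3e758299ae5224ac180cb133dd7acb06000c6a13b27b0b6af95f8e7842959908ecc51c8cfad055bc8ab4bcc41d13aa055c4278dd9ec33392c4a52120306baafce1b076d1a3aa9a50c2105ad3a8dbc69924cd3b14ce900a83ebd0c0768b053835a9e20e04858c2254d6e486e72a00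5e85ee31013186092750cca7a0050d0f7b613f9fa30a46a43b8e542d7d95dcb48b9e0e267c0229786f678a0b2966752cd8008f609623c848c475813c2ed3f63904b526e12702db926c9d00d1a8c0fe684446aa85901a7ff2ed1c2a0bee7a2f135143fe189571a0a07067ab1c44bb4c1e2e08efae08efc3481b28b78fa074855817d8bf063d1da4b9cccc96947f0cb1deceb018b19f23580f7206180236671859da554e008767f744c42272b509b2ef8e6042c2af3a20d10e9b430325a08928c032ca561a4e670dbcb7e4031c8857b16e42122019dc0b51186c841292140e70c10a48564550ef971316e053c082158341d73eba136cb71947ef0d0203a50914fe62220178daead72c194420c41ae46145e5f9c4d846c499da788948b48dd64aad17544185c4d47b571e1125cb09730081549fe703b633a12de7a8f154c849663264d3a20afe656d314652c9416110b3ce0ee0528eee66208605088351e2a4a80d03583ed9f806a01527399dd06611a6589b109aacce95f4b155bb40183e536a8256ffb66ab4a531243e474c5dd93a81c4ffc6e8a980a04d989200a6d6311807ce320c2992020f49a20af21b08f44c06541b531b02f09a17ed8616584f3313c308914665c904a44dc5c0b994c2bfd0fb1fb10395e5baf2484e2c8a169f1e887c8ff5bdd0ec0ea143927af8264424802741e859497048c6f8854aa89c3bc75761f8955b106ba24e8f4d3e002040000208b0000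

/-- the table of the letter 9 -/
def T9 : ℕ := 0x4a735487db2ee207ca2195ac588dbcc31026791328a6592861ae4ce9b8dbf29af0ac19ccd08aea5f2a80e1b04d170b92ac2402186a0bba82206207b618a02fe64f0a2bfac2011e83fca448c810f913b1cb4e983225cc88a216ee8d27b8a4497ecc26a4370654095f7bb1bdd66ec2b92c440c78ab7107fbd8c1c8c9558419ba5905e78fea97cc729c45f5be6d4af08854db799cb450e434ca1225268c222c640c270d4849327d54c93f1629134df45420dea73c9d4bc9994b811e1cda980dc5b41000c67c03d793b896189e45e2678a952158695ac0d108a229a0ac6da52e39da87449b571f3f81692ab36059d82558ad53529550d60e4d4330cf637c6612343f2d4808f723e3f742d45ba82fc46626aa64755b7a01d4acd17704a54745726b8bc005acdb368fc940090d884d1ac6d4ec24590b0c293708532660f9c56efc462492853c25914bc340060efd28d30aedd7039c971b0025ee9531459a48170e9f699bfec3a843931a8bcdb3031602cad1444e19661034ed99abf86582c545febd3715c9e1a4696d3694729d6c5872c4b0d16b07f667cc4511a527256f3428212b9738ec12013e3d36de0c764d0ef30a8c0220a483d5c514860eb2d495e9ee2522af220f81ec930a306b529e149afb08c54205e26e832b4a2c1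8a207191022499dab6313c80a13e0b5590c23019ce11b8ac09762921c755f2b1855f0ee5bf9194f0f0f478e9c4de9d0cd065a3286ec0b048c05d565eddf3bd109c53f2b626c226c7bc4fe79b2a0170a18d5b59310c191de0a59c09c30698861c8f086a8a41098e0d0605fb1424c9d116018440a2b51f83501ae9f205bd1ac762920d04b0ac1de32f1ccabc43f50cd1606baa6200184f803fc98e9b225f8b3b39032890ec7088f9b8324568e72bf94a4c00f39023460e088c8473d4384d513143aa2ab204c78a0c20790806bb63d1cc0dab4a1873b12450127303d41ec944485e43f4a653120972d838991def8a694b3de33c51d09bc555b9afaf35d11584d8ed681fb0f577aea25d214401a52c04e93d45ca68d8270083d822a127ca24bdb2af2701dc0b0a9c5f376f3fd20dc08d0043a588ee53c15107e8d88e4283f4934e79206079b351f74c7e49800d524037b1d81e722e72348b1490103082d88412cc3bc7db1b00d20fc0af930e8ca0ee8cd85fb1d6a668a0c84f28b12068003e93e85ba4c701f89660b90c652d50eb202c38c0cc39b091c1e8773014c4a0f2b0f988e20611261c82b824c013942488d41412db0350372412d7e71b1964a048bd4ffb06908e1b30e447457b6c892eb8d18bbf0be0571b6859a4138509bb5d9d1e08e01d05bec986634418200cf7a0b38f204022604853be92ec5a67a017b46d067b2990935b00558546ac813d00201701160020000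

/-- the tables -/
noncomputable def tb : ℕ → ℕ := fun n => Nat.rec (motive := fun _ => ℕ) T0 (fun n _ => Nat.rec (motive := fun _ => ℕ) T1 (fun n _ => Nat.rec (motive := fun _ => ℕ) T2 (fun n _ => Nat.rec (motive := fun _ => ℕ) T3 (fun n _ => Nat.rec (motive := fun _ => ℕ) T4 (fun n _ => Nat.rec (motive := fun _ => ℕ) T5 (fun n _ => Nat.rec (motive := fun _ => ℕ) T6 (fun n _ => Nat.rec (motive := fun _ => ℕ) T7 (fun n _ => Nat.rec (motive := fun _ => ℕ) T8 (fun n _ => T9) n) n) n) n) n) n) n) n) n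

/-- 616 blocks, labels modulo 8 -/
noncomputable def P : Par where
  n := 616
  m := 8
  w := 13
  mask := 8191
  tb := tb

theorem chkInv : ((List.range 5).all fun i => P.chkI (2 * i) (2 * i + 1) && P.chkI (2 * i + 1) (2 * i)) = true := by
  decide +kernel


end Cfsg.Agent.H47.FourTab
end

-- part: H47/MTt
section
/-!
# `3.M₂₂` and `4.M₂₂` exist (helper47)

The 39 relators of `KFacts.MulP.MTwentyTwo` in five letters define a group of order at most `4 |M₂₂|`.

* `D4` : generated by monomial permutations of 616 blocks with labels in `ZMod 8` (times the letters of `M₂₂`); the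
  relators hold exactly and the word `w0`, trivial in `M₂₂`, is the translation by 2. So the kernel of `D4 → M₂₂` is
  cyclic of order 4.
* `bound` : a group generated by five elements satisfying the relators and `w0` has order at most `|M₂₂|`.
* `D3` : generated by monomial permutations of 231 blocks with labels in `ZMod 3`; the relators and `w0` are
  translations. So the kernel of `D3 → M₂₂` consists of translations; a commutator is the translation by 1.
-/

set_option autoImplicit false
set_option maxRecDepth 100000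

namespace Cfsg.Agent.H47.MTt

open Subgroup Cfsg.Agent.SporadicRecognition.CosetCert Cfsg.Agent.KFacts.OddLift.Basic
open Cfsg.Agent.KFacts.MulP.MTtModel (G22 card_G22)
open Cfsg.Agent.KFacts.MulP.MTwentyTwo (b gen_eq ev_eq_one chk1 cube_b stA stB stC chkA chkB chkC)
open Cfsg.Agent.KFacts.MulP
open Cfsg.Agent.H47.Mono Cfsg.Agent.H51.Mult Cfsg.Agent.H51.Tools
open scoped commutatorElement

universe u v

/-! ### the relators -/

/-- the relators hold -/
structure RelsP {G : Type*} [Group G] (B : ℕ → G) : Prop where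
  a : ∀ r ∈ MTtAData.rels, ev (lt B 5) r = 1
  b : ∀ r ∈ MTtBData.rels, ev (lt B 5) r = 1
  c : ∀ r ∈ MTtCData.rels, ev (lt B 5) r = 1

theorem RelsP.card_le {G : Type*} [Group G] {B : ℕ → G} (h : RelsP B) :
    Finite (clo B 5) ∧ Nat.card (clo B 5) ≤ 1774080 := by
  have h0 : B 0 ^ 3 = 1 := by
    have h1 := h.a [0, 0, 0] (by decide)
    simp only [ev_cons, ev_nil, mul_one] at h1
    rw [lt_even _ _ (by norm_num) (by norm_num)] at h1
    rw [pow_succ', pow_two]
    exact h1
  have s1 := base (B := B) (k := 3) (by norm_num) h0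
  have s2 := step (B := B) MTtAData.C MTtAData.rels MTtAData.subw (k := 5) (by norm_num) stA h.a MTtAAll.part s1
  have s3 := step (B := B) MTtBData.C MTtBData.rels MTtBData.subw (k := 5) (by norm_num) stB h.b MTtBAll.part s2
  have s4 := step (B := B) MTtCData.C MTtCData.rels MTtCData.subw (k := 5) (by norm_num) stC h.c MTtCAll.part s3
  exact s4

/-- words in the product -/
theorem ev_prod {G H : Type*} [Group G] [Group H] (B : ℕ → G) (C : ℕ → H) (w : List ℕ) :
    ev (lt (fun i => (B i, C i)) 5) w = (ev (lt B 5) w, ev (lt C 5) w) :=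
  Prod.ext (map_ev_lt (fun i => (B i, C i)) 5 (MonoidHom.fst G H) w)
    (map_ev_lt (fun i => (B i, C i)) 5 (MonoidHom.snd G H) w)

theorem RelsP.prod {G H : Type*} [Group G] [Group H] {B : ℕ → G} {C : ℕ → H} (h : RelsP B) (h' : RelsP C) :
    RelsP fun i => (B i, C i) where
  a := fun r hr => by rw [ev_prod, h.a r hr, h'.a r hr]; rfl
  b := fun r hr => by rw [ev_prod, h.b r hr, h'.b r hr]; rfl
  c := fun r hr => by rw [ev_prod, h.c r hr, h'.c r hr]; rfl

theorem rels_b : RelsP b where
  a := fun r hr => ev_eq_one (List.all_eq_true.1 chkA r hr)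
  b := fun r hr => ev_eq_one (List.all_eq_true.1 chkB r hr)
  c := fun r hr => ev_eq_one (List.all_eq_true.1 chkC r hr)

/-- a word of `M₂₂` which is trivial -/
def w0 : List ℕ := [9, 0, 9, 0, 9, 0, 9, 0, 9, 0]

theorem w0_b : ev (lt b 5) w0 = 1 := ev_eq_one (by decide +kernel)

theorem map_clo {G H : Type*} [Group G] [Group H] (f : G →* H) (B : ℕ → G) (n : ℕ) :
    (clo B n).map f = clo (fun i => f (B i)) n := by
  unfold clo
  rw [MonoidHom.map_closure]
  congr 1
  ext x
  constructor
  · rintro ⟨_, ⟨i, hi, rfl⟩, rfl⟩; exact ⟨i, hi, rfl⟩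
  · rintro ⟨i, hi, rfl⟩; exact ⟨_, ⟨i, hi, rfl⟩, rfl⟩

theorem ev_mem {G : Type*} [Group G] (B : ℕ → G) (w : List ℕ) : ev (lt B 5) w ∈ clo B 5 := by
  induction w with
  | nil => rw [ev_nil]; exact one_mem _
  | cons y w ih => rw [ev_cons]; exact mul_mem (lt_mem B 5) ih

/-- the letters `(p i, b i)` -/
def pr {G : Type*} [Group G] (p : ℕ → G) (i : ℕ) : G × G22 := (p i, b i)

/-- the group generated by the pairs `(p i, b i)` -/
def Dp {G : Type*} [Group G] (p : ℕ → G) : Subgroup (G × G22) := clo (pr p) 5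

theorem ev_pr {G : Type*} [Group G] (p : ℕ → G) (w : List ℕ) :
    ev (lt (pr p) 5) w = (ev (lt p 5) w, ev (lt b 5) w) := ev_prod p b w

/-- the projection of the group generated by the pairs `(p i, b i)` to `M₂₂` -/
def proj {G : Type*} [Group G] (p : ℕ → G) : Dp p →* G22 := (MonoidHom.snd G G22).comp (Dp p).subtype

theorem proj_surj {G : Type*} [Group G] (p : ℕ → G) : Function.Surjective (proj p) := by
  rw [← MonoidHom.range_eq_top]
  unfold proj
  rw [MonoidHom.range_comp, Subgroup.range_subtype, Dp, map_clo]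
  exact gen_eq

theorem perfect_M22 : commutator Spor.M22 = ⊤ := by
  have hc := Cfsg.Agent.SporadicA.MathieuRecog.card_M22
  have hfin : Finite Spor.M22 := Nat.finite_of_card_ne_zero (by rw [hc]; norm_num)
  exact perfect_of_simple Cfsg.Agent.SporadicA.MathieuRecog.simple_M22 (by rw [hc]; norm_num)

theorem perfect_G22 : commutator G22 = ⊤ :=
  Cfsg.Agent.KFacts.MulDef.commutator_top_of_surj MTtModel.equiv.toMonoidHom MTtModel.equiv.surjective perfect_M22

/-! ### `4.M₂₂` -/

theorem ok4 : FourTab.P.OK 5 := by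
  have h := FourTab.chkInv
  constructor
  · intro i hi
    have h1 := List.all_eq_true.1 h i (List.mem_range.2 hi)
    rw [Bool.and_eq_true] at h1
    exact h1.1
  · intro i hi
    have h1 := List.all_eq_true.1 h i (List.mem_range.2 hi)
    rw [Bool.and_eq_true] at h1
    exact h1.2

theorem chk4A : (MTtAData.rels.all fun r => (r.all fun x => Nat.blt x (2 * 5)) && FourTab.P.chkW r 0) = true := by
  decide +kernel

theorem chk4B : (MTtBData.rels.all fun r => (r.all fun x => Nat.blt x (2 * 5)) && FourTab.P.chkW r 0) = true := by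
  decide +kernel

theorem chk4C : (MTtCData.rels.all fun r => (r.all fun x => Nat.blt x (2 * 5)) && FourTab.P.chkW r 0) = true := by
  decide +kernel

theorem chk4w : FourTab.P.chkW w0 2 = true := by decide +kernel

theorem ev4 {rels : List (List ℕ)}
    (h : (rels.all fun r => (r.all fun x => Nat.blt x (2 * 5)) && FourTab.P.chkW r 0) = true) :
    ∀ r ∈ rels, ev (lt ok4.gen 5) r = 1 := by
  intro r hr
  have h1 := List.all_eq_true.1 h r hr
  rw [Bool.and_eq_true] at h1
  rw [ok4.ev_eq h1.1 h1.2, Nat.cast_zero, Par.trans_zero]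

theorem rels4 : RelsP ok4.gen := ⟨ev4 chk4A, ev4 chk4B, ev4 chk4C⟩

theorem w0_4 : ev (lt ok4.gen 5) w0 = FourTab.P.trans 2 := ok4.ev_eq (by decide +kernel) chk4w

/-- the group `4.M₂₂` -/
noncomputable abbrev D4 : Subgroup (Equiv.Perm FourTab.P.Pt × G22) := Dp ok4.gen

theorem relsB4 : RelsP (pr ok4.gen) := rels4.prod rels_b

theorem fin4 : Finite D4 := relsB4.card_le.1

theorem w0_B4 : ev (lt (pr ok4.gen) 5) w0 = (FourTab.P.trans 2, 1) := by
  rw [ev_pr, w0_4, w0_b]

/-- the central element of order four -/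
noncomputable def z4 : D4 := ⟨ev (lt (pr ok4.gen) 5) w0, ev_mem _ w0⟩

theorem trans_pow {P : Par} (e : ZMod P.m) (k : ℕ) : P.trans e ^ k = P.trans (k * e) := by
  induction k with
  | zero => rw [pow_zero, Nat.cast_zero, zero_mul, Par.trans_zero]
  | succ k ih =>
    rw [pow_succ', ih, ← Par.trans_add, Nat.cast_succ, add_mul, one_mul]

theorem order_t4 : orderOf ((FourTab.P.trans 2, (1 : G22)) : Equiv.Perm FourTab.P.Pt × G22) = 4 := by
  have h1 : ∀ k : ℕ, ((FourTab.P.trans 2, (1 : G22)) : Equiv.Perm FourTab.P.Pt × G22) ^ k = 1 ↔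
      ((k * 2 : ℕ) : ZMod 8) = 0 := by
    intro k
    constructor
    · intro h
      have h2 : FourTab.P.trans 2 ^ k = 1 := congrArg Prod.fst h
      rw [trans_pow, ← Par.trans_zero] at h2
      have h3 := Par.trans_inj FourTab.P (by decide) h2
      rw [Nat.cast_mul]
      exact h3
    · intro h
      rw [Prod.pow_mk, one_pow, trans_pow]
      have : ((k : ZMod FourTab.P.m) * 2) = 0 := by
        rw [Nat.cast_mul] at h
        exact h
      rw [this, Par.trans_zero]
      rfl
  have h2 : orderOf ((FourTab.P.trans 2, (1 : G22)) : Equiv.Perm FourTab.P.Pt × G22) ∣ 2 ^ 2 :=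
    orderOf_dvd_of_pow_eq_one ((h1 4).2 (by decide))
  obtain ⟨k, hk, hk'⟩ := (Nat.dvd_prime_pow Nat.prime_two).1 h2
  rw [hk']
  have h3 : ¬ k ≤ 1 := by
    intro h4
    have h5 : orderOf ((FourTab.P.trans 2, (1 : G22)) : Equiv.Perm FourTab.P.Pt × G22) ∣ 2 := by
      rw [hk']
      exact (pow_dvd_pow 2 h4).trans (by norm_num)
    have h6 := (h1 2).1 (orderOf_dvd_iff_pow_eq_one.1 h5)
    revert h6
    decide
  have h4 : k = 2 := by omega
  rw [h4]
  norm_num

theorem order_z4 : orderOf z4 = 4 := by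
  rw [← Subgroup.orderOf_coe]
  show orderOf (ev (lt (pr ok4.gen) 5) w0) = 4
  rw [w0_B4]
  exact order_t4

theorem proj_z4 : proj ok4.gen z4 = 1 := congrArg Prod.snd w0_B4

theorem card4 : Nat.card (proj ok4.gen).ker ≤ 4 := by
  have := fin4
  have h1 : Nat.card D4 = Nat.card (proj ok4.gen).ker * Nat.card G22 :=
    Fibre.card_of_surj (proj ok4.gen) (proj_surj ok4.gen)
  have h2 : Nat.card D4 ≤ 1774080 := relsB4.card_le.2
  rw [h1, card_G22] at h2
  have h3 : Nat.card (proj ok4.gen).ker * 443520 ≤ 4 * 443520 := h2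
  exact Nat.le_of_mul_le_mul_right h3 (by norm_num)

/-- the kernel is generated by `z4` -/
theorem ker4_eq : zpowers z4 = (proj ok4.gen).ker := by
  have := fin4
  have h1 : zpowers z4 ≤ (proj ok4.gen).ker := by
    rw [zpowers_le]; exact proj_z4
  apply eq_of_le_of_card_ge h1
  rw [Nat.card_zpowers, order_z4]
  exact card4

theorem ker4 {k : D4} (hk : proj ok4.gen k = 1) : k ∈ zpowers z4 := by
  rw [ker4_eq]
  exact hk

theorem card_ker4 : Nat.card (proj ok4.gen).ker = 4 := by
  rw [← ker4_eq, Nat.card_zpowers, order_z4]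

theorem z4_comm (x : D4) : x * z4 = z4 * x := by
  have h1 : D4 ≤ centralizer ({(FourTab.P.trans 2, 1)} : Set (Equiv.Perm FourTab.P.Pt × G22)) := by
    show clo (pr ok4.gen) 5 ≤ _
    rw [clo, closure_le]
    rintro _ ⟨i, -, rfl⟩
    refine mem_centralizer_singleton_iff.2 (Prod.ext ?_ ?_)
    · exact ok4.gen_trans i 2
    · show b i * 1 = 1 * b i
      rw [mul_one, one_mul]
  apply Subtype.ext
  have h2 := mem_centralizer_singleton_iff.1 (h1 x.2)
  show (x : Equiv.Perm FourTab.P.Pt × G22) * ev (lt (pr ok4.gen) 5) w0 = ev (lt (pr ok4.gen) 5) w0 * x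
  rw [w0_B4]
  exact h2

theorem cen4 : (proj ok4.gen).ker ≤ center D4 := by
  intro k hk
  rw [mem_center_iff]
  intro g
  obtain ⟨j, rfl⟩ := mem_zpowers_iff.1 (ker4 hk)
  exact ((show Commute g z4 from z4_comm g).zpow_right j).eq

theorem RelsP.cube {G : Type*} [Group G] {B : ℕ → G} (h : RelsP B) (i : ℕ) (hi : i < 5) : B i ^ 3 = 1 := by
  have h1 : ev (lt B 5) [2 * i, 2 * i, 2 * i] = 1 := by
    have : [2 * i, 2 * i, 2 * i] ∈ MTtCData.rels := by
      interval_cases i <;> decide
    exact h.c _ this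
  simp only [ev_cons, ev_nil, mul_one] at h1
  rw [lt_even _ _ (by omega) (by omega), show 2 * i / 2 = i by omega] at h1
  rw [pow_succ', pow_two]
  exact h1

theorem closure_top {G : Type*} [Group G] (B : ℕ → G) :
    closure {x : clo B 5 | ∃ i < 5, B i = x} = ⊤ := by
  apply map_injective (clo B 5).subtype_injective
  rw [MonoidHom.map_closure, ← MonoidHom.range_eq_map, Subgroup.range_subtype]
  conv_rhs => rw [clo]
  congr 1
  ext x
  constructor
  · rintro ⟨⟨y, hy⟩, ⟨i, hi, h1⟩, rfl⟩; exact ⟨i, hi, h1⟩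
  · rintro ⟨i, hi, rfl⟩; exact ⟨⟨B i, mem_clo B hi⟩, ⟨i, hi, rfl⟩, rfl⟩

theorem perf4 : commutator D4 = ⊤ := by
  refine Fibre.perfect_of_gen (π := proj ok4.gen) perfect_G22 (proj_surj ok4.gen) (m := 4) (n := 3) (by decide)
    (S := {x : D4 | ∃ i < 5, pr ok4.gen i = x}) ?_ (closure_top (pr ok4.gen)) ?_
  · intro k hk
    obtain ⟨j, rfl⟩ := mem_zpowers_iff.1 (ker4 hk)
    rw [← zpow_natCast, ← zpow_mul, mul_comm, zpow_mul, zpow_natCast, ← order_z4, pow_orderOf_eq_one, one_zpow]
  · rintro ⟨x, hx⟩ ⟨i, hi, h1⟩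
    have h1' : pr ok4.gen i = x := h1
    subst h1'
    exact Subtype.ext (relsB4.cube i hi)

/-- **`4.M₂₂`** -/
theorem pce4 : PCE (proj ok4.gen) := ⟨proj_surj _, cen4, perf4⟩

/-! ### the exact bound -/

/-- **Five elements satisfying the relators and `w0` generate a group of order at most `|M₂₂|`.** -/
theorem bound {Q : Type*} [Group Q] {q : ℕ → Q} (h : RelsP q) (h0 : ev (lt q 5) w0 = 1) :
    Finite (clo q 5) ∧ Nat.card (clo q 5) ≤ 443520 := by
  obtain ⟨hE, hcard⟩ := (h.prod relsB4).card_le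
  set E : ℕ → Q × (Equiv.Perm FourTab.P.Pt × G22) := fun i => (q i, pr ok4.gen i) with hEdef
  -- the first projection
  let f : clo E 5 →* clo q 5 := ((MonoidHom.fst Q (Equiv.Perm FourTab.P.Pt × G22)).comp (clo E 5).subtype).codRestrict
    (clo q 5) (by
      rintro ⟨x, hx⟩
      have h1 : (clo E 5).map (MonoidHom.fst Q (Equiv.Perm FourTab.P.Pt × G22)) = clo q 5 := map_clo _ E 5
      rw [← h1]
      exact ⟨x, hx, rfl⟩)
  have hf : Function.Surjective f := by
    rintro ⟨y, hy⟩
    have h1 : (clo E 5).map (MonoidHom.fst Q (Equiv.Perm FourTab.P.Pt × G22)) = clo q 5 := map_clo _ E 5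
    rw [← h1] at hy
    obtain ⟨x, hx, hxy⟩ := hy
    exact ⟨⟨x, hx⟩, Subtype.ext hxy⟩
  refine ⟨Finite.of_surjective f hf, ?_⟩
  have h1 : Nat.card (clo E 5) = Nat.card f.ker * Nat.card (clo q 5) := Fibre.card_of_surj f hf
  have h2 : ev (lt E 5) w0 = (1, (FourTab.P.trans 2, 1)) := by
    rw [hEdef, ev_prod q (pr ok4.gen) w0, h0, w0_B4]
  let ζ : f.ker := ⟨⟨ev (lt E 5) w0, ev_mem E w0⟩, Subtype.ext (congrArg Prod.fst h2)⟩
  have h3 : orderOf ζ = 4 := by
    rw [← Subgroup.orderOf_coe, ← Subgroup.orderOf_coe]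
    show orderOf (ev (lt E 5) w0) = 4
    rw [h2, Prod.orderOf_mk, orderOf_one, order_t4]
    rfl
  have h4 : 4 ≤ Nat.card f.ker := by
    rw [← h3]
    exact orderOf_le_card
  rw [h1] at hcard
  have h5 : 4 * Nat.card (clo q 5) ≤ 4 * 443520 := (Nat.mul_le_mul_right _ h4).trans hcard
  exact Nat.le_of_mul_le_mul_left h5 (by norm_num)

/-- in such a group the projection of the pairs to `M₂₂` is injective -/
theorem inj_of_rels {Q : Type*} [Group Q] {q : ℕ → Q} (h : RelsP q) (h0 : ev (lt q 5) w0 = 1) :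
    Function.Injective (proj q) := by
  obtain ⟨hf, hc⟩ := bound (h.prod rels_b) (by rw [ev_prod, h0, w0_b]; rfl)
  have hf' : Finite (Dp q) := hf
  have hc' : Nat.card (Dp q) ≤ 443520 := hc
  have h1 := Fibre.card_of_surj (proj q) (proj_surj q)
  rw [h1, card_G22] at hc'
  have h2 : Nat.card (proj q).ker * 443520 ≤ 1 * 443520 := by rw [one_mul]; exact hc'
  have h3 : Nat.card (proj q).ker ≤ 1 := Nat.le_of_mul_le_mul_right h2 (by norm_num)
  rw [← MonoidHom.ker_eq_bot_iff]
  exact Subgroup.card_eq_one.1 (le_antisymm h3 Nat.card_pos)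

/-! ### `3.M₂₂` -/

theorem ok3 : ThreeTab.P.OK 5 := by
  have h := ThreeTab.chkInv
  constructor
  · intro i hi
    have h1 := List.all_eq_true.1 h i (List.mem_range.2 hi)
    rw [Bool.and_eq_true] at h1
    exact h1.1
  · intro i hi
    have h1 := List.all_eq_true.1 h i (List.mem_range.2 hi)
    rw [Bool.and_eq_true] at h1
    exact h1.2

/-- the words of `l` evaluate to some translations -/
noncomputable def chkT (P : Par) (l : List (List ℕ)) : Bool :=
  l.all fun r => (r.all fun x => Nat.blt x (2 * 5)) && (P.chkW r 0 || P.chkW r 1 || P.chkW r 2)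

theorem chk3A : chkT ThreeTab.P MTtAData.rels = true := by decide +kernel

theorem chk3B : chkT ThreeTab.P MTtBData.rels = true := by decide +kernel

theorem chk3C : chkT ThreeTab.P MTtCData.rels = true := by decide +kernel

theorem chk3w : ThreeTab.P.chkW w0 0 = true := by decide +kernel

/-- the word of the central element of order three -/
def w3 : List ℕ := [3, 6, 2, 7]

theorem chk3z : ThreeTab.P.chkW w3 1 = true := by decide +kernel

theorem w3_b : ev (lt b 5) w3 = 1 := ev_eq_one (by decide +kernel)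

theorem ev3 {rels : List (List ℕ)} (h : chkT ThreeTab.P rels = true) :
    ∀ r ∈ rels, ∃ e : ℕ, ev (lt ok3.gen 5) r = ThreeTab.P.trans (e : ZMod ThreeTab.P.m) := by
  intro r hr
  have h1 := List.all_eq_true.1 h r hr
  rw [Bool.and_eq_true, Bool.or_eq_true, Bool.or_eq_true] at h1
  obtain ⟨h2, (h3 | h3) | h3⟩ := h1
  · exact ⟨_, ok3.ev_eq h2 h3⟩
  · exact ⟨_, ok3.ev_eq h2 h3⟩
  · exact ⟨_, ok3.ev_eq h2 h3⟩

/-- the translation by 1 -/
noncomputable def τ : Equiv.Perm ThreeTab.P.Pt := ThreeTab.P.trans ((1 : ℕ) : ZMod ThreeTab.P.m)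

/-- the centralizer of the translations -/
noncomputable abbrev W : Subgroup (Equiv.Perm ThreeTab.P.Pt) := centralizer {τ}

/-- the letters -/
noncomputable def p3 (i : ℕ) : W := ⟨ok3.gen i, mem_centralizer_singleton_iff.2 (ok3.gen_trans i _)⟩

theorem ev_p3 (l : List ℕ) : ((ev (lt p3 5) l : W) : Equiv.Perm ThreeTab.P.Pt) = ev (lt ok3.gen 5) l :=
  map_ev_lt p3 5 W.subtype l

theorem trans_eq_pow (e : ℕ) : ThreeTab.P.trans (e : ZMod ThreeTab.P.m) = τ ^ e := by
  rw [τ, trans_pow, Nat.cast_one, mul_one]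

/-- the translation in `W` -/
noncomputable def tW : W := ⟨τ, mem_centralizer_singleton_iff.2 rfl⟩

theorem tW_comm (x : W) : x * tW = tW * x :=
  Subtype.ext (mem_centralizer_singleton_iff.1 x.2)

/-- the translations -/
noncomputable abbrev N : Subgroup W := zpowers tW

instance N_normal : N.Normal := by
  constructor
  intro n hn g
  obtain ⟨j, rfl⟩ := mem_zpowers_iff.1 hn
  have h1 : Commute g (tW ^ j) := (show Commute g tW from tW_comm g).zpow_right j
  rw [h1.eq, mul_inv_cancel_right]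
  exact hn

theorem ev3_mem {rels : List (List ℕ)} (h : chkT ThreeTab.P rels = true) :
    ∀ r ∈ rels, ev (lt (fun i => (QuotientGroup.mk' N) (p3 i)) 5) r = 1 := by
  intro r hr
  rw [← map_ev_lt p3 5 (QuotientGroup.mk' N) r, ← MonoidHom.mem_ker, QuotientGroup.ker_mk']
  obtain ⟨e, he⟩ := ev3 h r hr
  refine mem_zpowers_iff.2 ⟨(e : ℤ), Subtype.ext ?_⟩
  rw [zpow_natCast, ev_p3, he, trans_eq_pow]
  rfl

theorem rels3 : RelsP fun i => (QuotientGroup.mk' N) (p3 i) := ⟨ev3_mem chk3A, ev3_mem chk3B, ev3_mem chk3C⟩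

theorem w0_3 : ev (lt (fun i => (QuotientGroup.mk' N) (p3 i)) 5) w0 = 1 := by
  rw [← map_ev_lt p3 5 (QuotientGroup.mk' N) w0, ← MonoidHom.mem_ker, QuotientGroup.ker_mk']
  refine mem_zpowers_iff.2 ⟨0, Subtype.ext ?_⟩
  rw [zpow_zero, ev_p3, ok3.ev_eq (by decide +kernel) chk3w, Nat.cast_zero, Par.trans_zero]
  rfl

/-- the kernel of the projection consists of translations -/
theorem ker3 {x : Dp p3} (hx : proj p3 x = 1) : x.1.1 ∈ N := by
  set q : ℕ → W ⧸ N := fun i => (QuotientGroup.mk' N) (p3 i) with hq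
  have h1 := inj_of_rels (q := q) rels3 w0_3
  -- the map of the pairs
  have h2 : (Dp p3).map (MonoidHom.prodMap (QuotientGroup.mk' N) (MonoidHom.id G22)) = Dp q := map_clo _ (pr p3) 5
  have h3 : (MonoidHom.prodMap (QuotientGroup.mk' N) (MonoidHom.id G22)) x.1 ∈ Dp q := by
    rw [← h2]; exact ⟨x.1, x.2, rfl⟩
  have h4 : proj q ⟨_, h3⟩ = proj q 1 := by
    rw [map_one]
    exact hx
  have h5 := congrArg (fun y : Dp q => y.1.1) (h1 h4)
  have h6 : (QuotientGroup.mk' N) x.1.1 = 1 := h5
  rw [← MonoidHom.mem_ker, QuotientGroup.ker_mk'] at h6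
  exact h6

/-- the group `3.M₂₂`, times something -/
noncomputable abbrev D3 : Subgroup (W × G22) := Dp p3

theorem w3_D : ev (lt (pr p3) 5) w3 = (tW, 1) := by
  rw [ev_pr, w3_b]
  refine Prod.ext (Subtype.ext ?_) rfl
  show ((ev (lt p3 5) w3 : W) : Equiv.Perm ThreeTab.P.Pt) = τ
  exact (ev_p3 w3).trans (ok3.ev_eq (by decide +kernel) chk3z)

/-- the central element of order three -/
noncomputable def z3 : D3 := ⟨ev (lt (pr p3) 5) w3, ev_mem _ w3⟩

theorem z3_comm (x : D3) : x * z3 = z3 * x := by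
  apply Subtype.ext
  show x.1 * ev (lt (pr p3) 5) w3 = ev (lt (pr p3) 5) w3 * x.1
  rw [w3_D]
  refine Prod.ext (tW_comm _) ?_
  show x.1.2 * 1 = 1 * x.1.2
  rw [mul_one, one_mul]

theorem proj_z3 : proj p3 z3 = 1 := congrArg Prod.snd w3_D

theorem three_zero : ((3 : ℕ) : ZMod 3) = 0 := by decide

theorem one_ne : ((1 : ℕ) : ZMod 3) ≠ 0 := by decide

theorem order_z3 : orderOf z3 = 3 := by
  rw [← Subgroup.orderOf_coe]
  show orderOf (ev (lt (pr p3) 5) w3) = 3
  rw [w3_D, Prod.orderOf_mk, orderOf_one, ← Subgroup.orderOf_coe]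
  show Nat.lcm (orderOf τ) 1 = 3
  rw [Nat.lcm_one_right]
  have : Fact (Nat.Prime 3) := ⟨Nat.prime_three⟩
  refine orderOf_eq_prime ?_ ?_
  · rw [← trans_eq_pow]
    have h1 : ((3 : ℕ) : ZMod ThreeTab.P.m) = 0 := three_zero
    rw [h1, Par.trans_zero]
  · intro h
    rw [τ, ← Par.trans_zero] at h
    have h3 := Par.trans_inj ThreeTab.P (by decide) h
    exact one_ne h3

theorem ker3' {x : D3} (hx : proj p3 x = 1) : x ∈ zpowers z3 := by
  obtain ⟨j, hj⟩ := mem_zpowers_iff.1 (ker3 hx)
  refine mem_zpowers_iff.2 ⟨j, Subtype.ext ?_⟩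
  rw [Subgroup.coe_zpow]
  show (ev (lt (pr p3) 5) w3) ^ j = x.1
  rw [w3_D]
  refine Prod.ext ?_ ?_
  · show tW ^ j = x.1.1
    exact hj
  · show (1 : G22) ^ j = x.1.2
    rw [one_zpow]
    exact hx.symm

theorem cen3 : (proj p3).ker ≤ center D3 := by
  intro k hk
  rw [mem_center_iff]
  intro g
  obtain ⟨j, rfl⟩ := mem_zpowers_iff.1 (ker3' hk)
  exact ((show Commute g z3 from z3_comm g).zpow_right j).eq

theorem z3_mem : z3 ∈ commutator D3 := by
  let x : D3 := ⟨lt (pr p3) 5 3, lt_mem _ _⟩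
  let y : D3 := ⟨lt (pr p3) 5 6, lt_mem _ _⟩
  have h1 : z3 = ⁅x, y⁆ := by
    apply Subtype.ext
    show ev (lt (pr p3) 5) w3 = _
    rw [commutatorElement_def]
    show _ = lt (pr p3) 5 3 * lt (pr p3) 5 6 * (lt (pr p3) 5 3)⁻¹ * (lt (pr p3) 5 6)⁻¹
    rw [w3]
    simp only [ev_cons, ev_nil, mul_one]
    rw [lt_odd (y := 3) _ _ (by norm_num) (by norm_num), lt_odd (y := 7) _ _ (by norm_num) (by norm_num),
      lt_even (y := 2) _ _ (by norm_num) (by norm_num), lt_even (y := 6) _ _ (by norm_num) (by norm_num), inv_inv,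
      mul_assoc, mul_assoc]
  rw [h1]
  exact commutator_mem_commutator (mem_top x) (mem_top y)

/-- **`3.M₂₂`** -/
theorem pce3 : PCE ((proj p3).comp (commutator D3).subtype) := pce_of_central (proj_surj p3) cen3 perfect_G22

theorem card_ker3 : Nat.card ((proj p3).comp (commutator D3).subtype).ker = 3 := by
  set f := (proj p3).comp (commutator D3).subtype with hf
  have h1 : orderOf (⟨⟨z3, z3_mem⟩, proj_z3⟩ : f.ker) = 3 := by
    rw [← Subgroup.orderOf_coe, ← Subgroup.orderOf_coe]
    exact order_z3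
  have h2 : f.ker = zpowers (⟨z3, z3_mem⟩ : commutator D3) := by
    apply le_antisymm
    · rintro ⟨x, hx⟩ hk
      obtain ⟨j, hj⟩ := mem_zpowers_iff.1 (ker3' (x := x) hk)
      exact mem_zpowers_iff.2 ⟨j, Subtype.ext hj⟩
    · rw [zpowers_le]
      exact proj_z3
  rw [h2, Nat.card_zpowers, ← Subgroup.orderOf_coe]
  exact order_z3

/-- **`12.M₂₂`** -/
theorem cover12 : ∃ (L : Type) (_ : Group L) (_ : Finite L) (π : L →* G22), PCE π ∧ 12 ∣ Nat.card π.ker := by
  have f4 := fin4
  have f1 : Finite (ZMod ThreeTab.P.m) := show Finite (ZMod 3) from inferInstance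
  have f2 : Finite (Equiv.Perm ThreeTab.P.Pt) := inferInstance
  have f5 : Finite G22 := Nat.finite_of_card_ne_zero (by rw [card_G22]; norm_num)
  have f3' : Finite (W × G22) := inferInstance
  have f3 : Finite (commutator D3) := Subtype.finite
  obtain ⟨L, hL, hfin, π, hπ, hc⟩ := Fibre.fibre pce4 pce3 (by rw [card_ker4, card_ker3]; decide)
  exact ⟨L, hL, hfin, π, hπ, by rw [hc, card_ker4, card_ker3]⟩

end Cfsg.Agent.H47.MTt
end

-- part: S2036
section
set_option autoImplicit false
open Cfsg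

namespace Cfsg.Agent.S2036

open Cfsg.Agent.KFacts Cfsg.Agent.H51.Mult Cfsg.Agent.H47

theorem card_M22 : Nat.card Cfsg.Spor.M22 = 443520 := Cfsg.Agent.SporadicA.MathieuRecog.card_M22

theorem two : Bd 2 2 Cfsg.Spor.M22 := by
  intro L _ _ π hπ hP
  have h1 : IsCyclic π.ker := MulM22.Cyc.cyclic_ker hπ.surj hπ.perf (fun z hz x => hπ.comm hz x) hP
  refine ⟨h1, ?_⟩
  have : Fact (Nat.Prime 2) := ⟨Nat.prime_two⟩
  obtain ⟨m, hm⟩ := hP.exists_card_eq
  rw [hm]
  apply pow_dvd_pow
  by_contra h2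
  refine MulP.MTwentyTwo.not_eight_dvd ⟨MulEquiv.refl _⟩ hπ.perf hπ.surj hπ.cen ?_
  rw [hm]
  exact pow_dvd_pow 2 (show 3 ≤ m by omega)

theorem fac : Nat.factorization 12 = Nat.factorization (2 ^ 2) + Nat.factorization 3 := by
  rw [← Nat.factorization_mul (by norm_num) (by norm_num), show 2 ^ 2 * 3 = 12 by norm_num]

theorem bd {p : ℕ} (hp : p.Prime) : Bd p (Nat.factorization 12 p) Cfsg.Spor.M22 := by
  have hfin : Finite Cfsg.Spor.M22 := Nat.finite_of_card_ne_zero (by rw [card_M22]; norm_num)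
  by_cases h2 : p = 2
  · subst h2
    refine two.mono ?_
    rw [fac, Finsupp.add_apply, Nat.Prime.factorization_pow Nat.prime_two, Finsupp.single_eq_same]
    exact Nat.le_add_right _ _
  by_cases h3 : p = 3
  · subst h3
    refine (Three.three_M22 card_M22).mono ?_
    rw [fac, Finsupp.add_apply, Nat.Prime.factorization_self Nat.prime_three]
    exact Nat.le_add_left _ _
  refine Bd.mono (NoCov.bd hp (noCov_of_not_sq_dvd hp (Three.not_sq_dvd hp h2 h3 (a := 7) (b := 2) (m := 385)
      (by rw [card_M22]; norm_num) (by decide +kernel)))) (Nat.zero_le _)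

/-- The Schur multiplier of the Mathieu group M₂₂ (the permutations in the automorphism group of the length-24 binary code that fix each of two given points) is cyclic of order 12; here the Schur multiplier is described through stem extensions, as in the definitions: surjective homomorphisms onto the group from a finite group, whose kernel is central in that finite group and contained in that finite group's commutator subgroup. -/
theorem result : Cfsg.HasCyclicSchurMultiplier ↥Cfsg.Spor.M22 12 := by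
  have hfin : Finite Cfsg.Spor.M22 := Nat.finite_of_card_ne_zero (by rw [card_M22]; norm_num)
  refine hasCyclic MTt.perfect_M22 (by norm_num) (fun _ hp _ => bd hp) ?_
  obtain ⟨L, hL, hLf, π, hπ, hd⟩ := MTt.cover12
  refine ⟨L, hL, hLf, _, hπ.congr MulP.MTtModel.equiv.symm, ?_⟩
  have h1 : (MulP.MTtModel.equiv.symm.toMonoidHom.comp π).ker = π.ker := by
    ext x
    rw [MonoidHom.mem_ker, MonoidHom.mem_ker]
    exact map_eq_one_iff MulP.MTtModel.equiv.symm MulP.MTtModel.equiv.symm.injective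
  rw [h1]
  exact hd

end Cfsg.Agent.S2036
end
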