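import Mathlib
import Cfsg.Agent.H49.Form
import Cfsg.Agent.LThreeCo1.Class
import Cfsg.Agent.H49.CoOnePr
import Cfsg.Agent.CoFive.Dims
import Cfsg.Agent.LThreeCo1.Ev
import Cfsg.Agent.H49.Stab
import Cfsg.Agent.H51.Crit
import Cfsg.Statements.S2043
import Cfsg.Agent.H48.Crit
import Cfsg.Agent.KFacts.MulCo.CoZero
import Cfsg.Agent.KFacts.MulSpor.NoDbl
set_option linter.all false

-- part: H49/Heis
section
/-!
# The prime `p`, Sylow subgroup `p^n : p^(1+2)`; Sylow subgroup `p^n : p` with a scalar (helper49)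

* `noCov_heis` : `A = ⟨f ^ i a f ^ (-i)⟩` elementary abelian without `f`-invariant alternating form, `t` inverts `A` and
  commutes with `f`, `b₁`, `b₂`, `s`; `⟨b₁, b₂⟩` of class two normalises `A`; `s` inverts `b₁`, `b₂` modulo `[b₁, b₂]`.
* `noCov_scalar` : `t` acts as the scalar `l` on the commutative group `⟨a i⟩`, `l ^ 2 ≠ 1`, and commutes with `b`.
-/

set_option autoImplicit false
set_option linter.style.haveILetI false
set_option linter.unusedVariables false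

namespace Cfsg.Agent.H49.Heis

open Subgroup Cfsg.Agent.H51.Mult Cfsg.Agent.H51.Crit Cfsg.Agent.H49.Form
open scoped commutatorElement

universe v

variable {G : Type v} [Group G] [Finite G]

theorem noCov_heis {p : ℕ} (hp : p.Prime) (hp2 : p ≠ 2) {a f t b b' s : G} {n : ℕ} {w : List ℕ}
    (hw : ∀ k ∈ w, k < n) (hap : a ^ p = 1) (hk : ∀ k < n, a * vv f a k = vv f a k * a)
    (hn : vv f a n = (w.map (vv f a)).prod)
    (htt : t * t = 1) (hta : t * a * t⁻¹ = a⁻¹) (htf : t * f = f * t) (htb : t * b = b * t) (htb' : t * b' = b' * t)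
    (hbE : ∀ k < n, b * vv f a k * b⁻¹ ∈ closure (vv f a '' {i | i < n}))
    (hbE' : ∀ k < n, b' * vv f a k * b'⁻¹ ∈ closure (vv f a '' {i | i < n}))
    (hc1 : ⁅b, b'⁆ * b = b * ⁅b, b'⁆) (hc2 : ⁅b, b'⁆ * b' = b' * ⁅b, b'⁆) (hne : ⁅b, b'⁆ ≠ 1) (hbp : b ^ p = 1)
    {i j : ℤ} (hs1 : s * b * s⁻¹ = b⁻¹ * ⁅b, b'⁆ ^ i) (hs2 : s * b' * s⁻¹ = b'⁻¹ * ⁅b, b'⁆ ^ j)
    (hD : ∀ D : ℕ → ZMod p, D 0 = 0 → (∀ i, i + 1 < n →
      (w.map fun k => if i + 1 ≤ k then D (k - (i + 1)) else - D (i + 1 - k)).sum = D (n - 1 - i)) →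
      ∀ k < n, D k = 0)
    (hidx : ¬ p ∣ (closure (vv f a '' {i | i < n} ∪ {b, b'})).index) : NoCov p G := by
  have hcm := vv_comm hk
  intro L _ _ π h hc
  obtain ⟨c, hform, hlift⟩ := exists_form h hp hc
  have hzero := cyc hform hk w hw hn hD
  obtain ⟨β, hβ⟩ := h.surj b
  obtain ⟨β', hβ'⟩ := h.surj b'
  obtain ⟨γ, hγ⟩ := h.surj s
  have hp3 : 2 < p := lt_of_le_of_ne hp.two_le (Ne.symm hp2)
  have hp2' : ¬ p ∣ 2 := fun hd => absurd (Nat.le_of_dvd (by norm_num) hd) (by omega)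
  have hr : Set.range (fun i : Fin n => vv f a i) = vv f a '' {i | i < n} := by
    ext x
    constructor
    · rintro ⟨i, rfl⟩; exact ⟨i, i.2, rfl⟩
    · rintro ⟨i, hi, rfl⟩; exact ⟨⟨i, hi⟩, rfl⟩
  have hr2 : Set.range (fun j : Bool => if j then b else b') = {b, b'} := by
    ext x
    constructor
    · rintro ⟨(_ | _), rfl⟩
      · exact Or.inr rfl
      · exact Or.inl rfl
    · rintro (rfl | rfl)
      · exact ⟨true, rfl⟩
      · exact ⟨false, rfl⟩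
  have hle := Cfsg.Agent.H49.Red.ker_le h hp hc (t := t) (m := 2) (by rw [pow_two]; exact htt)
    hp2' (l := -1) (by
      intro hd
      have h2 : (p : ℤ) ∣ 2 := by
        have := (dvd_neg).2 hd
        norm_num at this
        exact this
      exact hp2' (by exact_mod_cast h2)) (fun i : Fin n => vv f a i) (fun j : Bool => if j then b else b')
    (by
      intro i
      have h1 : t * f ^ (i : ℕ) = f ^ (i : ℕ) * t := (show Commute t f from htf).pow_right _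
      have h2 : (f ^ (i : ℕ))⁻¹ * t⁻¹ = t⁻¹ * (f ^ (i : ℕ))⁻¹ := by rw [← mul_inv_rev, h1, mul_inv_rev]
      show t * (f ^ (i : ℕ) * a * (f ^ (i : ℕ))⁻¹) * t⁻¹ = (f ^ (i : ℕ) * a * (f ^ (i : ℕ))⁻¹) ^ (-1 : ℤ)
      calc t * (f ^ (i : ℕ) * a * (f ^ (i : ℕ))⁻¹) * t⁻¹
          = (t * f ^ (i : ℕ)) * a * ((f ^ (i : ℕ))⁻¹ * t⁻¹) := by group
        _ = (f ^ (i : ℕ) * t) * a * (t⁻¹ * (f ^ (i : ℕ))⁻¹) := by rw [h1, h2]
        _ = f ^ (i : ℕ) * (t * a * t⁻¹) * (f ^ (i : ℕ))⁻¹ := by group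
        _ = _ := by rw [hta]; group)
    (by
      intro i
      show (f ^ (i : ℕ) * a * (f ^ (i : ℕ))⁻¹) ^ p = 1
      rw [conj_pow, hap, mul_one, mul_inv_cancel])
    (by
      rintro (_ | _)
      · exact htb'
      · exact htb)
    (by
      rw [hr]
      rintro (_ | _) i
      · exact hbE' i i.2
      · exact hbE i i.2)
    (by
      intro x y i j hx hy
      apply hlift
      · rw [hx, hy]; exact hcm i i.2 j j.2
      · rw [hx, hy]; exact hzero i i.2 j j.2)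
    (by rw [hr, hr2]; exact hidx)
    (fun j : Bool => if j then β else β')
    (by
      rintro (_ | _)
      · exact hβ'
      · exact hβ)
  have hrange : Set.range (fun j : Bool => if j then β else β') = {β, β'} := by
    ext x
    constructor
    · rintro ⟨(_ | _), rfl⟩
      · exact Or.inr rfl
      · exact Or.inl rfl
    · rintro (rfl | rfl)
      · exact ⟨true, rfl⟩
      · exact ⟨false, rfl⟩
  rw [hrange] at hle
  exact Cfsg.Agent.H49.Red.extra_false h hp hp2 hc (α := β) (β := β') (γ := γ) (by rw [hβ, hβ']; exact hc1)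
    (by rw [hβ, hβ']; exact hc2) (by rw [hβ, hβ']; exact hne) (by rw [hβ]; exact hbp) (i := i) (j := j)
    (by rw [hβ, hβ', hγ]; exact hs1) (by rw [hβ, hβ', hγ]; exact hs2) hle

theorem noCov_scalar {p : ℕ} (hp : p.Prime) {ι : Type*} (a : ι → G) {b t : G} {m : ℕ} (ht : t ^ m = 1) (hm : ¬ p ∣ m)
    {l : ℤ} (hl : ¬ (p : ℤ) ∣ l - 1) (hl2 : ¬ (p : ℤ) ∣ l * l - 1) (ha : ∀ i, t * a i * t⁻¹ = a i ^ l)
    (hap : ∀ i, a i ^ p = 1) (haa : ∀ i j, a i * a j = a j * a i) (hb : t * b = b * t)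
    (hba : ∀ i, b * a i * b⁻¹ ∈ closure (Set.range a))
    (hidx : ¬ p ∣ (closure (Set.range a ∪ {b})).index) : NoCov p G := by
  intro L _ _ π h hc
  obtain ⟨β, hβ⟩ := h.surj b
  have hr : Set.range (fun _ : Unit => b) = {b} := Set.range_const
  exact Cfsg.Agent.H49.Red.one_false h hp hc (β := fun _ : Unit => β)
    (Cfsg.Agent.H49.Red.ker_le h hp hc ht hm hl a (fun _ : Unit => b) ha hap (fun _ => hb) (fun _ => hba)
      (fun x y i j hx hy => Cfsg.Agent.H49.Red.comm_of_sq h hp hc (t := t) hl2 (by rw [hx, hy]; exact haa i j)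
        (by rw [hx]; exact ha i) (by rw [hy]; exact ha j))
      (by rw [hr]; exact hidx) _ (fun _ => hβ))

end Cfsg.Agent.H49.Heis
end

-- part: H49/CoOneThree
section
/-!
# The 3-part of the Schur multiplier of `Co1` (helper49)

`3^6 : 3^(1+2)` in `3^6 : 2M12`; the elements are those of `LThreeCo1.Rel`.
-/

set_option autoImplicit false
set_option maxRecDepth 20000

namespace Cfsg.Agent.H49.CoOneThree

open Cfsg Cfsg.Agent.LThreeCo1.Ev Cfsg.Agent.LThreeCo1.AGrp Cfsg.Agent.LThreeCo1.Heis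
open Cfsg.Agent.LThreeCo1.SylCls Cfsg.Agent.LThreeCo1.Rel Cfsg.Agent.LThreeCo1.Tab Cfsg.Agent.LThreeCo1.Class
open Cfsg.Agent.SporadicStructure.Co0Matrix
open Cfsg.Agent.CoOneType.CoEval hiding pr
open Subgroup Cfsg.Agent.H51.Mult Cfsg.Agent.H49.Form Cfsg.Agent.H49.CoOnePr
open scoped commutatorElement

/-- the word of the element inverting `b₁`, `b₂` modulo `b₃` -/
def sw : List ℕ := [11, 7, 7, 8, 11, 11, 8, 8, 11, 11]

theorem k_s1 : eqB M (sw ++ [7]) ([7, 7, 9, 9] ++ sw) = true := by decide +kernel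
theorem k_s2 : eqB M (sw ++ [8]) ([8, 8, 9, 9] ++ sw) = true := by decide +kernel
theorem k_tt : eqB M [10, 10] [] = true := by decide +kernel
theorem k_tf : eqB M [10, 11] [11, 10] = true := by decide +kernel
theorem k_ts : eqB M (10 :: sw) (sw ++ [10]) = true := by decide +kernel

/-- codes of the conjugates of `e 2` under powers of `e 11` -/
def vvc (k : ℕ) : ℕ := [3, 54, 576, 266, 654, 9, 464].getD k 0

/-- the relation -/
def w : List ℕ := [0, 0, 1, 2, 3, 4, 4]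

theorem vvc_succ : ∀ k < 6, ln (c 11) (vvc k) = vvc (k + 1) := by decide +kernel

theorem vc_three : Ph a (vc 3) = e 2 := by
  rw [← wd_prod]
  have : wd 3 = [2] := by decide
  rw [this]; simp

theorem vv_eq {k : ℕ} (hk : k ≤ 6) : vv (e 11) (e 2) k = Ph a (vc (vvc k)) := by
  induction k with
  | zero => rw [vv_zero]; exact vc_three.symm
  | succ k ih => rw [← vv_succ, ih (by omega), cj_vc k_11, vvc_succ k (by omega)]

theorem prod_ph (l : List ℕ) (hl : ∀ k ∈ l, k ≤ 6) :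
    (l.map (vv (e 11) (e 2))).prod = Ph a (l.map fun k => vc (vvc k)).sum := by
  induction l with
  | nil => simp [Ph_zero]
  | cons k l ih =>
    rw [List.map_cons, List.prod_cons, List.map_cons, List.sum_cons, hA.add, vv_eq (hl k (by simp)),
      ih fun j hj => hl j (List.mem_cons_of_mem _ hj)]

theorem hn : vv (e 11) (e 2) 6 = (w.map (vv (e 11) (e 2))).prod := by
  rw [prod_ph w (by decide), vv_eq le_rfl]
  congr 1
  decide +kernel

/-- the generators as words in the `vv` -/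
def gw (i : ℕ) : List ℕ := [[0, 0, 2, 3, 3, 4, 5], [0], [5], [1, 1], [0, 2, 2, 4, 5], [0, 2, 4, 5, 5]].getD i []

theorem gw_lt : ∀ i < 6, ∀ k ∈ gw i, k < 6 := by decide

theorem gw_sum : ∀ i < 6, vc (3 ^ i) = ((gw i).map fun k => vc (vvc k)).sum := by decide +kernel

theorem vc_pow : ∀ i : Fin 6, vc (3 ^ i.val) = Pi.single i 1 := by decide +kernel

theorem wd_pow : ∀ i < 6, wd (3 ^ i) = [i + 1] := by decide +kernel

theorem e_eq {i : ℕ} (hi : i < 6) : e (i + 1) = ((gw i).map (vv (e 11) (e 2))).prod := by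
  rw [prod_ph _ fun k hk => (gw_lt i hi k hk).le, ← gw_sum i hi, ← wd_prod, wd_pow i hi]
  simp

/-- the elementary abelian group in `Co1` -/
def E : Subgroup Spor.Co1 := closure (vv (pr (e 11)) (pr (e 2)) '' {i | i < 6})

theorem map_vv (f x : Co0) (k : ℕ) : pr (vv f x k) = vv (pr f) (pr x) k := by
  unfold vv
  rw [map_mul, map_mul, map_inv, map_pow]

theorem e_mem {i : ℕ} (hi : i < 6) : pr (e (i + 1)) ∈ E := by
  rw [e_eq hi, map_list_prod]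
  apply list_prod_mem
  intro x hx
  obtain ⟨y, hy, rfl⟩ := List.mem_map.1 hx
  obtain ⟨k, hk, rfl⟩ := List.mem_map.1 hy
  rw [map_vv]
  exact subset_closure ⟨k, gw_lt i hi k hk, rfl⟩

theorem ph_mem (v : V) : pr (Ph a v) ∈ E := by
  have h : ∀ i : Fin 6, ∀ n : ℕ, pr (a i ^ n) ∈ E := fun i n => by
    rw [map_pow]; exact pow_mem (e_mem i.2) n
  unfold Ph
  rw [map_mul, map_mul, map_mul, map_mul, map_mul]
  refine mul_mem (h _ _) (mul_mem (h _ _) (mul_mem (h _ _) (mul_mem (h _ _) (mul_mem (h _ _) (h _ _)))))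

theorem conj_mem {g : ℕ} (hg : cj g = true) {k : ℕ} (hk : k < 6) :
    pr (e g) * vv (pr (e 11)) (pr (e 2)) k * (pr (e g))⁻¹ ∈ E := by
  rw [← map_vv, vv_eq hk.le, ← map_inv, ← map_mul, ← map_mul, cj_spec hg]
  exact ph_mem _

theorem noForm (D : ℕ → ZMod 3) (h0 : D 0 = 0) (h : ∀ i, i + 1 < 6 →
      (w.map fun k => if i + 1 ≤ k then D (k - (i + 1)) else - D (i + 1 - k)).sum = D (6 - 1 - i)) :
      ∀ k < 6, D k = 0 := by
  have h1 := h 0 (by norm_num)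
  have h2 := h 1 (by norm_num)
  have h3 := h 2 (by norm_num)
  have h4 := h 3 (by norm_num)
  have h5 := h 4 (by norm_num)
  simp [w, h0] at h1 h2 h3 h4 h5
  have : D 1 = 0 ∧ D 2 = 0 ∧ D 3 = 0 ∧ D 4 = 0 ∧ D 5 = 0 := by
    generalize D 1 = d1 at *
    generalize D 2 = d2 at *
    generalize D 3 = d3 at *
    generalize D 4 = d4 at *
    generalize D 5 = d5 at *
    clear h
    revert d1 d2 d3 d4 d5
    decide +kernel
  intro k hk
  obtain ⟨a1, a2, a3, a4, a5⟩ := this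
  interval_cases k <;> assumption

/-- the element inverting `b₁`, `b₂` modulo `b₃` -/
noncomputable def s : Co0 := (sw.map e).prod

theorem s1 : s * e 7 = (e 7 ^ 2 * e 9 ^ 2) * s := by
  have h := eq_of_eqB rep k_s1
  simp only [List.map_append, List.prod_append, List.map_cons, List.map_nil, List.prod_cons, List.prod_nil,
    mul_one] at h
  unfold s
  rw [h]
  simp only [pow_two, mul_assoc]

theorem s2 : s * e 8 = (e 8 ^ 2 * e 9 ^ 2) * s := by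
  have h := eq_of_eqB rep k_s2
  simp only [List.map_append, List.prod_append, List.map_cons, List.map_nil, List.prod_cons, List.prod_nil,
    mul_one] at h
  unfold s
  rw [h]
  simp only [pow_two, mul_assoc]

theorem b_comm : ⁅e 7, e 8⁆ = e 9 := by
  rw [commutatorElement_def, kb.1.1]
  group

theorem index : ¬ 3 ∣ (closure (vv (pr (e 11)) (pr (e 2)) '' {i | i < 6} ∪ {pr (e 7), pr (e 8)})).index := by
  have h9 := card_PP dat injI
  refine not_dvd_index Nat.prime_three (by norm_num) (k := 9) (H := PP dat) (by rw [h9]) ?_ (by norm_num)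
  set K := closure (vv (pr (e 11)) (pr (e 2)) '' {i | i < 6} ∪ {pr (e 7), pr (e 8)}) with hK
  have hE : E ≤ K := closure_mono Set.subset_union_left
  have m7 : pr (e 7) ∈ K := subset_closure (Or.inr (Or.inl rfl))
  have m8 : pr (e 8) ∈ K := subset_closure (Or.inr (Or.inr rfl))
  have m9 : pr (e 9) ∈ K := by
    rw [← b_comm, map_commutatorElement, commutatorElement_def]
    exact mul_mem (mul_mem (mul_mem m7 m8) (inv_mem m7)) (inv_mem m8)
  rw [map_le_iff_le_comap]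
  rintro g ⟨v, x, rfl⟩
  rw [mem_comap, map_mul]
  refine mul_mem (hE (ph_mem v)) ?_
  unfold NN N
  rw [map_mul, map_mul, map_pow, map_pow, map_pow]
  exact mul_mem (mul_mem (pow_mem m7 _) (pow_mem m8 _)) (pow_mem m9 _)

theorem word2 {i j k l : ℕ} (h : eqB M [i, j] [k, l] = true) : pr (e i) * pr (e j) = pr (e k) * pr (e l) := by
  rw [← map_mul, ← map_mul, eq2 h]

theorem noCov : NoCov 3 Spor.Co1 := by
  haveI := finite_co1
  have cc : e 9 ^ 3 = 1 := cube9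
  refine Cfsg.Agent.H49.Heis.noCov_heis Nat.prime_three (by norm_num) (a := pr (e 2)) (f := pr (e 11)) (t := pr (e 10))
    (b := pr (e 7)) (b' := pr (e 8)) (s := pr s) (n := 6) (w := w) (by decide) ?_ ?_ ?_ ?_ ?_ ?_ ?_ ?_ ?_ ?_ ?_ ?_ ?_ ?_
    (i := 2) (j := 2) ?_ ?_ noForm index
  · rw [← map_pow, cube (i := 1) (by norm_num), map_one]
  · intro k hk
    rw [← map_vv, ← map_mul, ← map_mul, vv_eq hk.le, ← vc_three, hA.ph_comm]
  · rw [← map_vv, hn, map_list_prod, List.map_map]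
    congr 1
  · have := eq_of_eqB rep k_tt
    simp only [List.map_cons, List.map_nil, List.prod_cons, List.prod_nil, mul_one] at this
    rw [← map_mul, this, map_one]
  · rw [← vc_three, ← map_inv, ← map_mul, ← map_mul, t_inv, hA.neg, map_inv]
  · exact word2 k_tf
  · rw [← map_mul, ← map_mul, t7]
  · rw [← map_mul, ← map_mul, t8]
  · exact fun k hk => conj_mem k_7 hk
  · exact fun k hk => conj_mem k_8 hk
  · rw [← map_commutatorElement, b_comm, ← map_mul, ← map_mul, kb.1.2.1]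
  · rw [← map_commutatorElement, b_comm, ← map_mul, ← map_mul, kb.1.2.2]
  · rw [← map_commutatorElement, b_comm]
    intro h0
    have h1 : e 9 ∈ pr.ker := h0
    have h2 := Subgroup.orderOf_dvd_natCard _ h1
    rw [card_ker] at h2
    have h3 : orderOf (e 9) ∣ 3 := orderOf_dvd_of_pow_eq_one cc
    have h4 : orderOf (e 9) ∣ 1 := by
      have := Nat.dvd_gcd h2 h3
      exact this
    have h5 : e 9 = 1 := orderOf_eq_one_iff.1 (Nat.dvd_one.1 h4)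
    have h6 := injI.reg (0, 0, 1) (0, 0, 0) (fun v => by simp [NN, N, h5, ZMod.val_one])
    exact absurd h6 (by decide)
  · rw [← map_pow, cube7, map_one]
  · rw [← map_commutatorElement, b_comm, ← map_mul, ← map_inv, ← map_mul, s1, mul_inv_cancel_right, map_mul, map_pow,
      map_pow, ← map_inv]
    have : e 7 ^ 2 = (e 7)⁻¹ := eq_inv_of_mul_eq_one_left (by rw [← pow_succ]; exact cube7)
    rw [← this, map_pow]
    rfl
  · rw [← map_commutatorElement, b_comm, ← map_mul, ← map_inv, ← map_mul, s2, mul_inv_cancel_right, map_mul, map_pow,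
      map_pow, ← map_inv]
    have : e 8 ^ 2 = (e 8)⁻¹ := eq_inv_of_mul_eq_one_left (by rw [← pow_succ]; exact cube8)
    rw [← this, map_pow]
    rfl

end Cfsg.Agent.H49.CoOneThree
end

-- part: H49/CoOneFive
section
/-!
# The 5-part of the Schur multiplier of `Co1` (helper49)

`5^3 : 5` with an element of order 4 acting as the scalar 2 on `5^3`; the elements are those of `CoFive`.
-/

set_option autoImplicit false
set_option maxRecDepth 20000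

namespace Cfsg.Agent.H49.CoOneFive

open Cfsg Cfsg.Agent.CoFive.Abs Cfsg.Agent.CoFive.Rel Cfsg.Agent.CoFive.Class
open Cfsg.Agent.LThreeCo1.Ev Subgroup Cfsg.Agent.H51.Mult Cfsg.Agent.H49.CoOnePr

/-- the element of order five commuting with the scalar -/
def uw : List ℕ := [1, 1, 1, 1, 2, 3, 4]

theorem k_tu : eqB M (5 :: uw) (uw ++ [5]) = true := by decide +kernel
theorem k_t4 : eqB M [5, 5, 5, 5] [] = true := by decide +kernel

/-- the element of order five commuting with the scalar -/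
noncomputable def u : Co0 := (uw.map e).prod

theorem u_eq : u = Ph (e 1) (e 2) (e 3) (4, 1, 1) * e 4 := by
  unfold u uw Ph
  simp only [List.map_cons, List.map_nil, List.prod_cons, List.prod_nil, mul_one]
  have h4 : (4 : ZMod 5).val = 4 := rfl
  have h1 : (1 : ZMod 5).val = 1 := rfl
  rw [h4, h1, pow_one, pow_one, pow_succ, pow_succ, pow_succ, pow_one]
  simp only [mul_assoc]

/-- generators of `5^3` -/
noncomputable def g (i : Fin 3) : Spor.Co1 := pr (e (i.val + 1))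

theorem ph_mem (v : V) : pr (Ph (e 1) (e 2) (e 3) v) ∈ closure (Set.range g) := by
  have h1 : pr (e 1) ∈ closure (Set.range g) := subset_closure ⟨0, rfl⟩
  have h2 : pr (e 2) ∈ closure (Set.range g) := subset_closure ⟨1, rfl⟩
  have h3 : pr (e 3) ∈ closure (Set.range g) := subset_closure ⟨2, rfl⟩
  unfold Ph
  rw [map_mul, map_mul, map_pow, map_pow, map_pow]
  exact mul_mem (pow_mem h1 _) (mul_mem (pow_mem h2 _) (pow_mem h3 _))

theorem e_eq : ∀ i : Fin 3, ∃ v : V, e (i.val + 1) = Ph (e 1) (e 2) (e 3) v := by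
  intro i
  fin_cases i
  · exact ⟨(1, 0, 0), r4_eq⟩
  · refine ⟨(0, 1, 0), ?_⟩
    show e 2 = e 1 ^ 0 * (e 2 ^ 1 * e 3 ^ 0)
    simp
  · exact ⟨(0, 0, 1), r8_eq⟩

theorem conj_u (v : V) : ∃ w, u * Ph (e 1) (e 2) (e 3) v * u⁻¹ = Ph (e 1) (e 2) (e 3) w := by
  refine ⟨ac v, ?_⟩
  rw [u_eq]
  have h := dat.act v
  have e1 : ∀ x y z : Co0, x * y * z * (x * y)⁻¹ = x * (y * z * y⁻¹) * x⁻¹ := fun x y z => by group
  rw [e1, h, hyp.ph_comm, mul_inv_cancel_right]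

theorem index : ¬ 5 ∣ (closure (Set.range g ∪ {pr u})).index := by
  haveI := CoOnePr.finite_co0
  have h9 := card_PP dat
  refine not_dvd_index Nat.prime_five (by norm_num) (k := 4) (H := PP dat) (by rw [h9]) ?_ (by norm_num)
  set K := closure (Set.range g ∪ {pr u}) with hK
  have hE : closure (Set.range g) ≤ K := closure_mono Set.subset_union_left
  have m4 : pr (e 4) ∈ K := by
    have h1 : e 4 = (Ph (e 1) (e 2) (e 3) (4, 1, 1))⁻¹ * u := by rw [u_eq, inv_mul_cancel_left]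
    rw [h1, map_mul, map_inv]
    exact mul_mem (inv_mem (hE (ph_mem _))) (subset_closure (Or.inr rfl))
  rw [map_le_iff_le_comap]
  rintro x ⟨v, k, rfl⟩
  rw [mem_comap, map_mul, map_pow]
  exact mul_mem (hE (ph_mem v)) (pow_mem m4 _)

theorem noCov : NoCov 5 Spor.Co1 := by
  haveI := finite_co1
  refine Cfsg.Agent.H49.Heis.noCov_scalar Nat.prime_five g (b := pr u) (t := pr (e 5)) (m := 4) ?_ (by norm_num)
    (l := 2) (by norm_num) (by norm_num) ?_ ?_ ?_ ?_ ?_ index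
  · have := word k_t4
    simp only [List.map_cons, List.map_nil, List.prod_cons, List.prod_nil, mul_one] at this
    rw [← map_pow, pow_succ, pow_succ, pow_two, mul_assoc, mul_assoc, this, map_one]
  · intro i
    obtain ⟨v, hv⟩ := e_eq i
    show pr (e 5) * pr (e (i.val + 1)) * (pr (e 5))⁻¹ = (pr (e (i.val + 1))) ^ (2 : ℤ)
    rw [hv, ← map_inv, ← map_mul, ← map_mul, ← map_zpow]
    congr 1
    have h1 := act_spec (g := 5) (Or.inr (Or.inl rfl)) v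
    rw [act_five] at h1
    refine h1.trans ?_
    rw [show (2 : ℤ) = ((2 : ℕ) : ℤ) from rfl, zpow_natCast, hyp.pow]
  · intro i
    obtain ⟨v, hv⟩ := e_eq i
    show (pr (e (i.val + 1))) ^ 5 = 1
    rw [hv, ← map_pow, hyp.five, map_one]
  · intro i j
    obtain ⟨v, hv⟩ := e_eq i
    obtain ⟨w, hw⟩ := e_eq j
    show pr (e (i.val + 1)) * pr (e (j.val + 1)) = pr (e (j.val + 1)) * pr (e (i.val + 1))
    rw [hv, hw, ← map_mul, hyp.ph_comm, map_mul]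
  · have h := word k_tu
    rw [List.map_cons, List.prod_cons, List.map_append, List.prod_append] at h
    simp only [List.map_cons (f := e) (a := 5), List.map_nil, List.prod_cons, List.prod_nil, mul_one] at h
    rw [← map_mul, ← map_mul]
    exact congrArg pr h
  · intro i
    obtain ⟨v, hv⟩ := e_eq i
    obtain ⟨w, hw⟩ := conj_u v
    show pr u * pr (e (i.val + 1)) * (pr u)⁻¹ ∈ _
    rw [hv, ← map_inv, ← map_mul, ← map_mul, hw]
    exact ph_mem w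

end Cfsg.Agent.H49.CoOneFive
end

-- part: H49/MatSeven
section
/-!
# Elements of `Co0`: two commuting elements of order 7, and one of order 3 (helper49)

Generated by a script; checked by the kernel.
-/

set_option autoImplicit false
set_option maxRecDepth 20000

namespace Cfsg.Agent.H49.MatSeven

open Cfsg.Agent.LThreeCo1.Ev Cfsg.Agent.SporadicStructure.Co0Matrix Cfsg.Agent.CoOneType.CoEval

/-- matrix (times 8) -/
def R1 : List (List ℤ) := [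
  [-4, -2, -2, 0, -2, 0, 0, 0, -4, 0, -2, -2, 0, 0, 0, 0, 0, 0, -2, 0, -2, 0, -2, 0],
  [4, -2, -2, 0, -2, 0, 0, 0, 4, 0, -2, -2, 0, 0, 0, 0, 0, 0, -2, 0, -2, 0, -2, 0],
  [0, 2, -2, 4, 2, 0, 0, 0, 0, 0, -2, -2, 0, 0, 0, 0, 0, 4, 2, 0, -2, 0, 2, 0],
  [-2, 0, 0, 2, 0, -2, 2, 2, 2, 2, 0, 0, 2, 2, -2, -2, -2, -2, 0, -2, 0, 2, 0, -2],
  [0, 2, -2, 0, -2, 0, 0, 0, 0, 0, -2, 2, 0, 4, 0, 4, 0, 0, -2, 0, 2, 0, 2, 0],
  [-2, 0, 0, 2, 0, 2, -2, 2, 2, -2, 0, 0, 2, -2, 2, 2, 2, -2, 0, -2, 0, -2, 0, -2],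
  [0, 2, 2, 0, 2, 0, -4, 0, 0, 0, -2, -2, 0, 0, -4, 0, 0, 0, -2, 0, 2, 0, -2, 0],
  [-2, 0, 0, -2, 0, -2, -2, 2, 2, 2, 0, 0, -2, -2, 2, 2, -2, 2, 0, -2, 0, 2, 0, 2],
  [-2, 0, 0, -2, 0, -2, 2, -2, 2, -2, 0, 0, 2, -2, -2, 2, 2, 2, 0, 2, 0, 2, 0, -2],
  [-2, 0, 0, -2, 0, 2, -2, -2, 2, 2, 0, 0, 2, 2, 2, -2, -2, 2, 0, 2, 0, -2, 0, -2],
  [0, 2, 2, 0, 2, 0, 4, 0, 0, 0, -2, -2, 0, 0, 4, 0, 0, 0, -2, 0, 2, 0, -2, 0],
  [0, 2, 2, 0, -2, 4, 0, 0, 0, 0, 2, -2, 0, 0, 0, 0, 0, 0, -2, 0, -2, 4, 2, 0],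
  [0, 2, 2, 0, -2, 0, 0, 0, 0, 0, -2, 2, -4, 0, 0, 0, 0, 0, 2, 0, -2, 0, -2, -4],
  [-2, 0, 0, -2, 0, 2, 2, 2, 2, -2, 0, 0, -2, 2, -2, -2, 2, 2, 0, -2, 0, -2, 0, 2],
  [-2, 0, 0, 2, 0, -2, -2, -2, 2, -2, 0, 0, -2, 2, 2, -2, 2, -2, 0, 2, 0, 2, 0, 2],
  [0, 2, -2, 0, -2, 0, 0, 0, 0, 0, -2, 2, 0, -4, 0, -4, 0, 0, -2, 0, 2, 0, 2, 0],
  [0, 2, -2, 0, 2, 0, 0, 0, 0, -4, 2, 2, 0, 0, 0, 0, -4, 0, -2, 0, -2, 0, -2, 0],
  [0, 2, -2, -4, 2, 0, 0, 0, 0, 0, -2, -2, 0, 0, 0, 0, 0, -4, 2, 0, -2, 0, 2, 0],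
  [0, 2, -2, 0, 2, 0, 0, 0, 0, 4, 2, 2, 0, 0, 0, 0, 4, 0, -2, 0, -2, 0, -2, 0],
  [0, 2, -2, 0, -2, 0, 0, -4, 0, 0, 2, -2, 0, 0, 0, 0, 0, 0, 2, -4, 2, 0, -2, 0],
  [0, 2, 2, 0, -2, 0, 0, 0, 0, 0, -2, 2, 4, 0, 0, 0, 0, 0, 2, 0, -2, 0, -2, 4],
  [0, 2, 2, 0, -2, -4, 0, 0, 0, 0, 2, -2, 0, 0, 0, 0, 0, 0, -2, 0, -2, -4, 2, 0],
  [0, 2, -2, 0, -2, 0, 0, 4, 0, 0, 2, -2, 0, 0, 0, 0, 0, 0, 2, 4, 2, 0, -2, 0],
  [-2, 0, 0, 2, 0, 2, 2, -2, 2, 2, 0, 0, -2, -2, -2, 2, -2, -2, 0, 2, 0, -2, 0, 2]]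

theorem ok1 : Ok R1 (tr R1) := Cfsg.Agent.CoOneType.CoFast.ok_of_okZ (by decide +kernel)

/-- matrix (times 8) -/
def R2 : List (List ℤ) := [
  [8, 0, 0, 0, 0, 0, 0, 0, 0, 0, 0, 0, 0, 0, 0, 0, 0, 0, 0, 0, 0, 0, 0, 0],
  [0, 8, 0, 0, 0, 0, 0, 0, 0, 0, 0, 0, 0, 0, 0, 0, 0, 0, 0, 0, 0, 0, 0, 0],
  [0, 0, 0, 0, 0, 0, 0, 0, 0, 0, 0, 8, 0, 0, 0, 0, 0, 0, 0, 0, 0, 0, 0, 0],
  [0, 0, 0, 0, 0, 8, 0, 0, 0, 0, 0, 0, 0, 0, 0, 0, 0, 0, 0, 0, 0, 0, 0, 0],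
  [0, 0, 0, 0, 0, 0, 0, 0, 0, 0, 8, 0, 0, 0, 0, 0, 0, 0, 0, 0, 0, 0, 0, 0],
  [0, 0, 0, 0, 0, 0, 0, 0, 0, 0, 0, 0, 0, 0, 0, 0, 0, 0, 0, 0, 0, 0, 0, 8],
  [0, 0, 0, 0, 0, 0, 0, 0, 0, 0, 0, 0, 0, 0, 0, 0, 8, 0, 0, 0, 0, 0, 0, 0],
  [0, 0, 0, 8, 0, 0, 0, 0, 0, 0, 0, 0, 0, 0, 0, 0, 0, 0, 0, 0, 0, 0, 0, 0],
  [0, 0, 0, 0, 0, 0, 0, 0, 8, 0, 0, 0, 0, 0, 0, 0, 0, 0, 0, 0, 0, 0, 0, 0],
  [0, 0, 0, 0, 0, 0, 0, 8, 0, 0, 0, 0, 0, 0, 0, 0, 0, 0, 0, 0, 0, 0, 0, 0],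
  [0, 0, 0, 0, 0, 0, 0, 0, 0, 0, 0, 0, 0, 0, 0, 0, 0, 0, 8, 0, 0, 0, 0, 0],
  [0, 0, 0, 0, 0, 0, 0, 0, 0, 0, 0, 0, 0, 0, 0, 0, 0, 0, 0, 0, 8, 0, 0, 0],
  [0, 0, 0, 0, 0, 0, 0, 0, 0, 0, 0, 0, 0, 0, 0, 8, 0, 0, 0, 0, 0, 0, 0, 0],
  [0, 0, 0, 0, 0, 0, 0, 0, 0, 0, 0, 0, 0, 0, 8, 0, 0, 0, 0, 0, 0, 0, 0, 0],
  [0, 0, 0, 0, 0, 0, 0, 0, 0, 8, 0, 0, 0, 0, 0, 0, 0, 0, 0, 0, 0, 0, 0, 0],
  [0, 0, 0, 0, 0, 0, 8, 0, 0, 0, 0, 0, 0, 0, 0, 0, 0, 0, 0, 0, 0, 0, 0, 0],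
  [0, 0, 0, 0, 0, 0, 0, 0, 0, 0, 0, 0, 0, 0, 0, 0, 0, 0, 0, 8, 0, 0, 0, 0],
  [0, 0, 0, 0, 0, 0, 0, 0, 0, 0, 0, 0, 0, 0, 0, 0, 0, 0, 0, 0, 0, 8, 0, 0],
  [0, 0, 0, 0, 0, 0, 0, 0, 0, 0, 0, 0, 0, 0, 0, 0, 0, 0, 0, 0, 0, 0, 8, 0],
  [0, 0, 0, 0, 0, 0, 0, 0, 0, 0, 0, 0, 0, 0, 0, 0, 0, 8, 0, 0, 0, 0, 0, 0],
  [0, 0, 0, 0, 8, 0, 0, 0, 0, 0, 0, 0, 0, 0, 0, 0, 0, 0, 0, 0, 0, 0, 0, 0],
  [0, 0, 0, 0, 0, 0, 0, 0, 0, 0, 0, 0, 8, 0, 0, 0, 0, 0, 0, 0, 0, 0, 0, 0],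
  [0, 0, 8, 0, 0, 0, 0, 0, 0, 0, 0, 0, 0, 0, 0, 0, 0, 0, 0, 0, 0, 0, 0, 0],
  [0, 0, 0, 0, 0, 0, 0, 0, 0, 0, 0, 0, 0, 8, 0, 0, 0, 0, 0, 0, 0, 0, 0, 0]]

theorem ok2 : Ok R2 (tr R2) := Cfsg.Agent.CoOneType.CoFast.ok_of_okZ (by decide +kernel)

/-- matrix (times 8) -/
def R3 : List (List ℤ) := [
  [0, 0, 0, 0, 0, 0, 0, 0, 8, 0, 0, 0, 0, 0, 0, 0, 0, 0, 0, 0, 0, 0, 0, 0],
  [8, 0, 0, 0, 0, 0, 0, 0, 0, 0, 0, 0, 0, 0, 0, 0, 0, 0, 0, 0, 0, 0, 0, 0],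
  [0, 0, 0, 0, 0, 0, 0, 0, 0, 0, 0, 0, 0, 0, 0, 0, 0, 8, 0, 0, 0, 0, 0, 0],
  [0, 0, 8, 0, 0, 0, 0, 0, 0, 0, 0, 0, 0, 0, 0, 0, 0, 0, 0, 0, 0, 0, 0, 0],
  [0, 0, 0, 0, 0, 0, 0, 0, 0, 0, 0, 0, 0, 0, 0, 8, 0, 0, 0, 0, 0, 0, 0, 0],
  [0, 0, 0, 0, 0, 0, 0, 0, 0, 0, 0, 8, 0, 0, 0, 0, 0, 0, 0, 0, 0, 0, 0, 0],
  [0, 0, 0, 0, 0, 0, 0, 0, 0, 0, 0, 0, 0, 0, 8, 0, 0, 0, 0, 0, 0, 0, 0, 0],
  [0, 0, 0, 0, 0, 0, 0, 0, 0, 0, 0, 0, 0, 0, 0, 0, 0, 0, 0, 0, 0, 0, 8, 0],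
  [0, 8, 0, 0, 0, 0, 0, 0, 0, 0, 0, 0, 0, 0, 0, 0, 0, 0, 0, 0, 0, 0, 0, 0],
  [0, 0, 0, 0, 0, 0, 0, 0, 0, 0, 0, 0, 0, 0, 0, 0, 0, 0, 8, 0, 0, 0, 0, 0],
  [0, 0, 0, 0, 0, 0, 8, 0, 0, 0, 0, 0, 0, 0, 0, 0, 0, 0, 0, 0, 0, 0, 0, 0],
  [0, 0, 0, 0, 0, 0, 0, 0, 0, 0, 0, 0, 0, 0, 0, 0, 0, 0, 0, 0, 0, 8, 0, 0],
  [0, 0, 0, 0, 0, 0, 0, 0, 0, 0, 0, 0, 0, 0, 0, 0, 0, 0, 0, 0, 0, 0, 0, 8],
  [0, 0, 0, 0, 8, 0, 0, 0, 0, 0, 0, 0, 0, 0, 0, 0, 0, 0, 0, 0, 0, 0, 0, 0],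
  [0, 0, 0, 0, 0, 0, 0, 0, 0, 0, 8, 0, 0, 0, 0, 0, 0, 0, 0, 0, 0, 0, 0, 0],
  [0, 0, 0, 0, 0, 0, 0, 0, 0, 0, 0, 0, 0, 8, 0, 0, 0, 0, 0, 0, 0, 0, 0, 0],
  [0, 0, 0, 0, 0, 0, 0, 0, 0, 8, 0, 0, 0, 0, 0, 0, 0, 0, 0, 0, 0, 0, 0, 0],
  [0, 0, 0, 8, 0, 0, 0, 0, 0, 0, 0, 0, 0, 0, 0, 0, 0, 0, 0, 0, 0, 0, 0, 0],
  [0, 0, 0, 0, 0, 0, 0, 0, 0, 0, 0, 0, 0, 0, 0, 0, 8, 0, 0, 0, 0, 0, 0, 0],
  [0, 0, 0, 0, 0, 0, 0, 8, 0, 0, 0, 0, 0, 0, 0, 0, 0, 0, 0, 0, 0, 0, 0, 0],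
  [0, 0, 0, 0, 0, 0, 0, 0, 0, 0, 0, 0, 8, 0, 0, 0, 0, 0, 0, 0, 0, 0, 0, 0],
  [0, 0, 0, 0, 0, 8, 0, 0, 0, 0, 0, 0, 0, 0, 0, 0, 0, 0, 0, 0, 0, 0, 0, 0],
  [0, 0, 0, 0, 0, 0, 0, 0, 0, 0, 0, 0, 0, 0, 0, 0, 0, 0, 0, 8, 0, 0, 0, 0],
  [0, 0, 0, 0, 0, 0, 0, 0, 0, 0, 0, 0, 0, 0, 0, 0, 0, 0, 0, 0, 8, 0, 0, 0]]

theorem ok3 : Ok R3 (tr R3) := Cfsg.Agent.CoOneType.CoFast.ok_of_okZ (by decide +kernel)

/-- The matrices. -/
def M : ℕ → List (List ℤ)
  | 2 => R2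
  | 3 => R3
  | _ => R1

theorem okM (i : ℕ) : Ok (M i) (tr (M i)) := by
  unfold M
  split
  · exact ok2
  · exact ok3
  · exact ok1

end Cfsg.Agent.H49.MatSeven
end

-- part: H49/CoOneSeven
section
/-!
# The 7-part of the Schur multiplier of `Co1` (helper49)

Two commuting elements `x`, `y` of order 7; `t` of order 3 maps `x` to `x²` and commutes with `y`.
The matrices are the ones of `BpSevenCo.Data`.
-/

set_option autoImplicit false
set_option maxRecDepth 20000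

namespace Cfsg.Agent.H49.CoOneSeven

open Cfsg Cfsg.Agent.LThreeCo1.Ev Subgroup Cfsg.Agent.H51.Mult Cfsg.Agent.H49.CoOnePr Cfsg.Agent.H49.MatSeven
open Cfsg.Agent.H49.Form Cfsg.Agent.H49.Stab

universe v

/-- Sylow subgroup of order `p²`, an element acting as a scalar on one factor and trivially on the other one -/
theorem noCov_scalar_one {G : Type v} [Group G] [Finite G] {p : ℕ} (hp : p.Prime) {x y t : G} (hx : x ^ p = 1)
    (hy : y ^ p = 1) (hx1 : x ≠ 1) (hy1 : y ≠ 1) (hxy : x * y = y * x) {l : ℕ} (htx : t * x * t⁻¹ = x ^ l)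
    (hty : t * y * t⁻¹ = y) (hl : ¬ (p : ℤ) ∣ l - 1) (hc : ¬ p ^ 3 ∣ Nat.card G) : NoCov p G := by
  refine Cfsg.Agent.H51.Crit.noCov_sq hp (x := x) (y := y) (g := t) hx hxy ?_ (a := l) (b := 0) (c := 0) (d := 1)
    (by rw [htx, zpow_zero, mul_one, zpow_natCast]) (by rw [hty, zpow_zero, one_mul, zpow_one])
    (by rw [mul_one, zero_mul, sub_zero]; exact hl)
  haveI : Fact p.Prime := ⟨hp⟩
  have hle : zpowers x ⊔ zpowers y = closure {x, y} := by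
    rw [zpowers_eq_closure, zpowers_eq_closure, ← Subgroup.closure_union]; rfl
  rw [← hle]
  apply Form.not_dvd_index hp (k := 2) _ hc
  have hox : orderOf x = p := orderOf_eq_prime hx hx1
  refine step hp (k := 1) (by rw [pow_one, Nat.card_zpowers, hox]) ?_ ?_ (by rw [hy]; exact one_mem _)
  · rintro ⟨j, hj⟩
    have h1 : t * x ^ j * t⁻¹ = (x ^ j) ^ (l : ℤ) := by
      rw [← conj_zpow, htx, ← zpow_natCast, ← zpow_mul, ← zpow_mul, mul_comm]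
    have hj' : x ^ j = y := hj
    rw [hj', hty] at h1
    have h2 : y ^ ((l : ℤ) - 1) = 1 := by rw [zpow_sub, ← h1, zpow_one, mul_inv_cancel]
    have hoy : orderOf y = p := orderOf_eq_prime hy hy1
    have h3 := orderOf_dvd_iff_zpow_eq_one.2 h2
    rw [hoy] at h3
    exact hl h3
  · rintro _ ⟨j, rfl⟩
    have : y * x ^ j * y⁻¹ = x ^ j := by
      have h2 : Commute y (x ^ j) := (show Commute x y from hxy).symm.zpow_right j
      rw [h2.eq, mul_inv_cancel_right]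
    simp only [this]
    exact ⟨j, rfl⟩

theorem c1 : eqB (xM M) (List.replicate 7 1) [] = true := by decide +kernel
theorem c2 : eqB (xM M) (List.replicate 7 2) [] = true := by decide +kernel
theorem c3 : eqB (xM M) [1, 2] [2, 1] = true := by decide +kernel
theorem c4 : eqB (xM M) [3, 1] [1, 1, 3] = true := by decide +kernel
theorem c5 : eqB (xM M) [3, 2] [2, 3] = true := by decide +kernel
theorem c6 : neB' (xM M) [1] [] = true := by decide +kernel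
theorem c7 : neB' (xM M) [2] [] = true := by decide +kernel

/-- the elements -/
noncomputable abbrev e (i : ℕ) : Co0 := xe okM i

theorem W {w w' : List ℕ} (h : eqB (xM M) w w' = true) : (w.map e).prod = (w'.map e).prod :=
  eq_of_eqB (xrep okM) h

theorem N {w w' : List ℕ} (h : neB' (xM M) w w' = true) : (w.map e).prod ≠ (w'.map e).prod :=
  ne_of_neB' (xrep okM) h

theorem pr_ne_one {x : Co0} (h : x ^ 7 = 1) (h1 : x ≠ 1) : pr x ≠ 1 := by
  intro h0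
  have h2 := Subgroup.orderOf_dvd_natCard pr.ker (x := x) h0
  rw [card_ker] at h2
  have h3 : orderOf x ∣ 7 := orderOf_dvd_of_pow_eq_one h
  have h4 : orderOf x ∣ 1 := Nat.dvd_gcd h2 h3
  exact h1 (orderOf_eq_one_iff.1 (Nat.dvd_one.1 h4))

theorem noCov : NoCov 7 Spor.Co1 := by
  haveI := finite_co1
  have h1 : e 1 ^ 7 = 1 := by
    have := W c1
    rwa [List.map_replicate, List.prod_replicate] at this
  have h2 : e 2 ^ 7 = 1 := by
    have := W c2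
    rwa [List.map_replicate, List.prod_replicate] at this
  have h3 : e 1 * e 2 = e 2 * e 1 := by
    have := W c3
    simpa only [List.map_cons, List.map_nil, List.prod_cons, List.prod_nil, mul_one] using this
  have h4 : e 3 * e 1 = e 1 * (e 1 * e 3) := by
    have := W c4
    simpa only [List.map_cons, List.map_nil, List.prod_cons, List.prod_nil, mul_one] using this
  have h5 : e 3 * e 2 = e 2 * e 3 := by
    have := W c5
    simpa only [List.map_cons, List.map_nil, List.prod_cons, List.prod_nil, mul_one] using this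
  have h6 : e 1 ≠ 1 := by
    have := N c6
    simpa only [List.map_cons, List.map_nil, List.prod_cons, List.prod_nil, mul_one] using this
  have h7 : e 2 ≠ 1 := by
    have := N c7
    simpa only [List.map_cons, List.map_nil, List.prod_cons, List.prod_nil, mul_one] using this
  refine noCov_scalar_one (by norm_num) (x := pr (e 1)) (y := pr (e 2)) (t := pr (e 3)) ?_ ?_ (pr_ne_one h1 h6)
    (pr_ne_one h2 h7) ?_ (l := 2) ?_ ?_ (by norm_num) (by rw [card_co1]; norm_num)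
  · rw [← map_pow, h1, map_one]
  · rw [← map_pow, h2, map_one]
  · rw [← map_mul, h3, map_mul]
  · rw [← map_mul, h4, map_mul, map_mul, pow_two]
    group
  · rw [← map_mul, h5, map_mul, mul_inv_cancel_right]

end Cfsg.Agent.H49.CoOneSeven
end

-- part: S2043
section
set_option autoImplicit false
open Cfsg

namespace Cfsg.Agent.S2043

/-- The Schur multiplier of the Conway group Co₁ (the automorphism group of the rank-24 lattice modulo its centre) is cyclic of order 2; here the Schur multiplier is described through stem extensions, as in the definitions: surjective homomorphisms onto the group from a finite group, whose kernel is central in that finite group and contained in that finite group's commutator subgroup. -/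
theorem result : Cfsg.HasCyclicSchurMultiplier Cfsg.Spor.Co1 2 := by
  have := Cfsg.Agent.H49.CoOnePr.finite_co1
  have := Cfsg.Agent.H49.CoOnePr.finite_co0
  refine Cfsg.Agent.H51.Mult.hasCyclic Cfsg.Agent.KFacts.MulCo.CoZero.commutator_co1 (by norm_num) (fun p hp hd => ?_) ?_
  · have hc := Cfsg.Agent.H49.CoOnePr.card_co1
    rw [hc] at hd
    have h1 : p ∈ List.replicate 21 2 ++ List.replicate 9 3 ++ [5, 5, 5, 5, 7, 7, 11, 13, 23] :=
      Cfsg.Agent.H48.Crit.prime_mem (by decide) (by decide) hp hd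
    have h2 : p = 2 ∨ Cfsg.Agent.H51.Mult.NoCov p Cfsg.Spor.Co1 := by
      simp only [List.mem_append, List.mem_replicate, List.mem_cons, List.not_mem_nil, or_false] at h1
      rcases h1 with (⟨-, rfl⟩ | ⟨-, rfl⟩) | rfl | rfl | rfl | rfl | rfl | rfl | rfl | rfl | rfl
      · exact Or.inl rfl
      · exact Or.inr Cfsg.Agent.H49.CoOneThree.noCov
      · exact Or.inr Cfsg.Agent.H49.CoOneFive.noCov
      · exact Or.inr Cfsg.Agent.H49.CoOneFive.noCov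
      · exact Or.inr Cfsg.Agent.H49.CoOneFive.noCov
      · exact Or.inr Cfsg.Agent.H49.CoOneFive.noCov
      · exact Or.inr Cfsg.Agent.H49.CoOneSeven.noCov
      · exact Or.inr Cfsg.Agent.H49.CoOneSeven.noCov
      · exact Or.inr (Cfsg.Agent.H51.Mult.noCov_of_not_sq_dvd hp (by rw [hc]; norm_num))
      · exact Or.inr (Cfsg.Agent.H51.Mult.noCov_of_not_sq_dvd hp (by rw [hc]; norm_num))
      · exact Or.inr (Cfsg.Agent.H51.Mult.noCov_of_not_sq_dvd hp (by rw [hc]; norm_num))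
    rcases h2 with rfl | h2
    · rw [Nat.prime_two.factorization_self]
      exact Cfsg.Agent.H51.Mult.bd_two (Cfsg.Agent.KFacts.MulCo.CoZero.oneCover Cfsg.Agent.KFacts.MulSpor.NoDbl.M24)
    · exact (h2.bd hp).mono (Nat.zero_le _)
  · exact ⟨Cfsg.Co0, inferInstance, inferInstance, Cfsg.Agent.H49.CoOnePr.pr,
      ⟨Cfsg.Agent.H49.CoOnePr.pr_surjective, Cfsg.Agent.H49.CoOnePr.ker_pr.le,
        Cfsg.Agent.KFacts.MulCo.CoZero.commutator_co0⟩, by rw [Cfsg.Agent.H49.CoOnePr.card_ker]⟩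

end Cfsg.Agent.S2043
end
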