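import Cfsg.Agent.LThreeCo1.Ev
import Mathlib
import Cfsg.Agent.H49.Stab
import Cfsg.Agent.H49.McLFive
import Cfsg.Statements.S2044
import Cfsg.Agent.H49.CoStab
import Cfsg.Agent.KFacts.MulCoTwo.Main
import Cfsg.Agent.CoOneType.CoAp
import Cfsg.Agent.CoOneType.CoQZ
import Cfsg.Agent.CoOneType.CoW
import Cfsg.Agent.Prune
set_option linter.all false
prune_inst 0x7f00000000000000000000000000000000000000000000000000000000000000000000000000000000000000000000000000000000000000000000000000000000000000000000000000000000000000003fffffffffffffffffffffffffffbeffbdffffffff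
open scoped Cfsg.Agent.FastGrp

-- part: H49/MatCo2
section
/-!
# Elements of `Co2`: `3^4 : 3^2` and normalising elements (helper49)

Generated by a script; checked by the kernel.
-/

set_option autoImplicit false
set_option maxRecDepth 20000

namespace Cfsg.Agent.H49.MatCo2

open Cfsg.Agent.LThreeCo1.Ev Cfsg.Agent.SporadicStructure.Co0Matrix Cfsg.Agent.CoOneType.CoEval

/-- matrix (times 8) -/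
def R1 : List (List ℤ) := [
  [2, 0, 0, 0, 0, -2, -2, 0, 2, 0, 0, 0, 2, 0, -2, 0, 0, 0, 0, 0, 0, 2, 0, 6],
  [0, 2, -2, 2, 2, 0, 0, -2, 0, 2, 2, 2, 0, 2, 0, -2, 2, 2, 2, 2, -2, 0, 2, 0],
  [0, -2, 2, -2, -2, 0, 0, -2, 0, -2, 2, 2, 0, 2, 0, -2, -2, -2, 2, 2, 2, 0, 2, 0],
  [0, 2, -2, 2, -2, 0, 0, -2, 0, -2, -2, 2, 0, -2, 0, 2, -2, 2, 2, 2, 2, 0, -2, 0],
  [0, -2, -2, -2, 2, 0, 0, 2, 0, -2, -2, -2, 0, -2, 0, -2, 2, 2, 2, 2, 2, 0, 2, 0],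
  [2, 0, 0, 0, 0, 6, -2, 0, 2, 0, 0, 0, 2, 0, -2, 0, 0, 0, 0, 0, 0, 2, 0, -2],
  [2, 0, 0, 0, 0, -2, 6, 0, 2, 0, 0, 0, 2, 0, -2, 0, 0, 0, 0, 0, 0, 2, 0, -2],
  [0, 2, 2, -2, 2, 0, 0, 2, 0, 2, -2, 2, 0, 2, 0, 2, -2, 2, -2, 2, 2, 0, 2, 0],
  [-2, 0, 0, 0, 0, 2, 2, 0, -2, 0, 0, 0, -2, 0, 2, 0, 0, 0, 0, 0, 0, 6, 0, 2],
  [0, -2, -2, -2, -2, 0, 0, -2, 0, 2, -2, 2, 0, -2, 0, -2, -2, 2, -2, -2, -2, 0, 2, 0],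
  [0, -2, 2, 2, -2, 0, 0, 2, 0, 2, 2, 2, 0, -2, 0, 2, 2, 2, 2, -2, 2, 0, 2, 0],
  [0, 2, 2, -2, -2, 0, 0, 2, 0, -2, 2, 2, 0, -2, 0, -2, 2, 2, -2, 2, -2, 0, -2, 0],
  [-2, 0, 0, 0, 0, 2, 2, 0, 6, 0, 0, 0, -2, 0, 2, 0, 0, 0, 0, 0, 0, -2, 0, 2],
  [0, -2, 2, 2, 2, 0, 0, 2, 0, -2, -2, 2, 0, 2, 0, -2, -2, 2, 2, -2, -2, 0, -2, 0],
  [2, 0, 0, 0, 0, -2, -2, 0, 2, 0, 0, 0, 2, 0, 6, 0, 0, 0, 0, 0, 0, 2, 0, -2],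
  [0, -2, 2, 2, 2, 0, 0, -2, 0, -2, 2, -2, 0, -2, 0, 2, -2, 2, -2, 2, -2, 0, 2, 0],
  [0, 2, 2, 2, 2, 0, 0, -2, 0, -2, -2, 2, 0, -2, 0, -2, 2, -2, -2, -2, 2, 0, 2, 0],
  [0, 2, -2, 2, -2, 0, 0, 2, 0, -2, 2, -2, 0, 2, 0, -2, -2, 2, -2, -2, 2, 0, 2, 0],
  [0, 2, 2, -2, -2, 0, 0, -2, 0, -2, -2, -2, 0, 2, 0, 2, 2, 2, 2, -2, -2, 0, 2, 0],
  [0, -2, -2, 2, -2, 0, 0, 2, 0, -2, -2, 2, 0, 2, 0, 2, 2, -2, -2, 2, -2, 0, 2, 0],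
  [0, -2, -2, -2, 2, 0, 0, -2, 0, -2, 2, 2, 0, 2, 0, 2, 2, 2, -2, -2, 2, 0, -2, 0],
  [-2, 0, 0, 0, 0, 2, 2, 0, -2, 0, 0, 0, 6, 0, 2, 0, 0, 0, 0, 0, 0, -2, 0, 2],
  [0, 2, -2, -2, 2, 0, 0, 2, 0, -2, 2, 2, 0, -2, 0, 2, -2, -2, 2, -2, -2, 0, 2, 0],
  [6, 0, 0, 0, 0, 2, 2, 0, -2, 0, 0, 0, -2, 0, 2, 0, 0, 0, 0, 0, 0, -2, 0, 2]]

theorem ok1 : Ok R1 (tr R1) := Cfsg.Agent.CoOneType.CoFast.ok_of_okZ (by exact Cfsg.Agent.CoOneType.CoQ.okz_of (by decide +kernel))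

/-- matrix (times 8) -/
def R2 : List (List ℤ) := [
  [4, 0, 0, 0, 0, 0, 0, 0, 0, 0, 0, 0, 0, 0, 0, 0, 0, 0, 0, 4, 0, 0, 4, 4],
  [0, 0, 0, 0, -4, 4, 0, 0, 0, 0, 0, 0, 0, 0, 0, 0, 0, 4, 0, 0, 0, -4, 0, 0],
  [0, 4, 0, 0, 0, 0, 0, 0, -4, 4, 0, 0, 0, 0, -4, 0, 0, 0, 0, 0, 0, 0, 0, 0],
  [0, 0, 0, 0, 4, 4, 0, 0, 0, 0, 0, 0, 0, 0, 0, 0, 0, 4, 0, 0, 0, 4, 0, 0],
  [0, 0, 0, 0, 0, 0, 0, -4, 0, 0, 0, 0, 0, 0, 0, -4, -4, 0, 0, 0, -4, 0, 0, 0],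
  [0, 0, 4, -4, 0, 0, 0, 0, 0, 0, 4, 0, 0, 0, 0, 0, 0, 0, -4, 0, 0, 0, 0, 0],
  [0, 0, 4, 4, 0, 0, 0, 0, 0, 0, 4, 0, 0, 0, 0, 0, 0, 0, 4, 0, 0, 0, 0, 0],
  [0, 0, 0, 0, 0, 0, 0, -4, 0, 0, 0, 0, 0, 0, 0, 4, 4, 0, 0, 0, -4, 0, 0, 0],
  [0, 0, -4, -4, 0, 0, 0, 0, 0, 0, 4, 0, 0, 0, 0, 0, 0, 0, 4, 0, 0, 0, 0, 0],
  [0, 0, 0, 0, 0, 0, 4, 0, 0, 0, 0, 4, -4, -4, 0, 0, 0, 0, 0, 0, 0, 0, 0, 0],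
  [0, -4, 0, 0, 0, 0, 0, 0, -4, -4, 0, 0, 0, 0, -4, 0, 0, 0, 0, 0, 0, 0, 0, 0],
  [0, 0, 0, 0, 0, 0, 0, -4, 0, 0, 0, 0, 0, 0, 0, 4, -4, 0, 0, 0, 4, 0, 0, 0],
  [4, 0, 0, 0, 0, 0, 0, 0, 0, 0, 0, 0, 0, 0, 0, 0, 0, 0, 0, -4, 0, 0, 4, -4],
  [0, 4, 0, 0, 0, 0, 0, 0, -4, -4, 0, 0, 0, 0, 4, 0, 0, 0, 0, 0, 0, 0, 0, 0],
  [0, 0, 4, -4, 0, 0, 0, 0, 0, 0, -4, 0, 0, 0, 0, 0, 0, 0, 4, 0, 0, 0, 0, 0],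
  [0, 0, 0, 0, 4, 4, 0, 0, 0, 0, 0, 0, 0, 0, 0, 0, 0, -4, 0, 0, 0, -4, 0, 0],
  [0, 0, 0, 0, 0, 0, 0, 4, 0, 0, 0, 0, 0, 0, 0, 4, -4, 0, 0, 0, -4, 0, 0, 0],
  [0, 4, 0, 0, 0, 0, 0, 0, 4, -4, 0, 0, 0, 0, -4, 0, 0, 0, 0, 0, 0, 0, 0, 0],
  [0, 0, 0, 0, 0, 0, -4, 0, 0, 0, 0, 4, -4, 4, 0, 0, 0, 0, 0, 0, 0, 0, 0, 0],
  [0, 0, 0, 0, 0, 0, 4, 0, 0, 0, 0, 4, 4, 4, 0, 0, 0, 0, 0, 0, 0, 0, 0, 0],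
  [0, 0, 0, 0, 0, 0, 4, 0, 0, 0, 0, -4, -4, 4, 0, 0, 0, 0, 0, 0, 0, 0, 0, 0],
  [-4, 0, 0, 0, 0, 0, 0, 0, 0, 0, 0, 0, 0, 0, 0, 0, 0, 0, 0, -4, 0, 0, 4, 4],
  [0, 0, 0, 0, 4, -4, 0, 0, 0, 0, 0, 0, 0, 0, 0, 0, 0, 4, 0, 0, 0, -4, 0, 0],
  [4, 0, 0, 0, 0, 0, 0, 0, 0, 0, 0, 0, 0, 0, 0, 0, 0, 0, 0, -4, 0, 0, -4, 4]]

theorem ok2 : Ok R2 (tr R2) := Cfsg.Agent.CoOneType.CoFast.ok_of_okZ (by exact Cfsg.Agent.CoOneType.CoQ.okz_of (by decide +kernel))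

/-- matrix (times 8) -/
def R3 : List (List ℤ) := [
  [8, 0, 0, 0, 0, 0, 0, 0, 0, 0, 0, 0, 0, 0, 0, 0, 0, 0, 0, 0, 0, 0, 0, 0],
  [0, 0, 0, 0, 0, 0, 0, 0, 0, -8, 0, 0, 0, 0, 0, 0, 0, 0, 0, 0, 0, 0, 0, 0],
  [0, 0, -8, 0, 0, 0, 0, 0, 0, 0, 0, 0, 0, 0, 0, 0, 0, 0, 0, 0, 0, 0, 0, 0],
  [0, 0, 0, 0, 0, 0, 0, 0, 0, 0, 0, 0, 0, 0, 0, 0, 0, 0, 8, 0, 0, 0, 0, 0],
  [0, 0, 0, 0, 0, 0, 0, 0, 0, 0, 0, 8, 0, 0, 0, 0, 0, 0, 0, 0, 0, 0, 0, 0],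
  [0, 0, 0, 0, 0, 0, -8, 0, 0, 0, 0, 0, 0, 0, 0, 0, 0, 0, 0, 0, 0, 0, 0, 0],
  [0, 0, 0, 0, 0, -8, 0, 0, 0, 0, 0, 0, 0, 0, 0, 0, 0, 0, 0, 0, 0, 0, 0, 0],
  [0, 0, 0, 0, 0, 0, 0, 8, 0, 0, 0, 0, 0, 0, 0, 0, 0, 0, 0, 0, 0, 0, 0, 0],
  [0, 0, 0, 0, 0, 0, 0, 0, -8, 0, 0, 0, 0, 0, 0, 0, 0, 0, 0, 0, 0, 0, 0, 0],
  [0, -8, 0, 0, 0, 0, 0, 0, 0, 0, 0, 0, 0, 0, 0, 0, 0, 0, 0, 0, 0, 0, 0, 0],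
  [0, 0, 0, 0, 0, 0, 0, 0, 0, 0, -8, 0, 0, 0, 0, 0, 0, 0, 0, 0, 0, 0, 0, 0],
  [0, 0, 0, 0, 8, 0, 0, 0, 0, 0, 0, 0, 0, 0, 0, 0, 0, 0, 0, 0, 0, 0, 0, 0],
  [0, 0, 0, 0, 0, 0, 0, 0, 0, 0, 0, 0, 0, 0, 0, 0, 0, 0, 0, 0, 0, -8, 0, 0],
  [0, 0, 0, 0, 0, 0, 0, 0, 0, 0, 0, 0, 0, 0, 0, 0, 0, 8, 0, 0, 0, 0, 0, 0],
  [0, 0, 0, 0, 0, 0, 0, 0, 0, 0, 0, 0, 0, 0, -8, 0, 0, 0, 0, 0, 0, 0, 0, 0],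
  [0, 0, 0, 0, 0, 0, 0, 0, 0, 0, 0, 0, 0, 0, 0, 0, 0, 0, 0, 0, -8, 0, 0, 0],
  [0, 0, 0, 0, 0, 0, 0, 0, 0, 0, 0, 0, 0, 0, 0, 0, 8, 0, 0, 0, 0, 0, 0, 0],
  [0, 0, 0, 0, 0, 0, 0, 0, 0, 0, 0, 0, 0, 8, 0, 0, 0, 0, 0, 0, 0, 0, 0, 0],
  [0, 0, 0, 8, 0, 0, 0, 0, 0, 0, 0, 0, 0, 0, 0, 0, 0, 0, 0, 0, 0, 0, 0, 0],
  [0, 0, 0, 0, 0, 0, 0, 0, 0, 0, 0, 0, 0, 0, 0, 0, 0, 0, 0, 0, 0, 0, 8, 0],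
  [0, 0, 0, 0, 0, 0, 0, 0, 0, 0, 0, 0, 0, 0, 0, -8, 0, 0, 0, 0, 0, 0, 0, 0],
  [0, 0, 0, 0, 0, 0, 0, 0, 0, 0, 0, 0, -8, 0, 0, 0, 0, 0, 0, 0, 0, 0, 0, 0],
  [0, 0, 0, 0, 0, 0, 0, 0, 0, 0, 0, 0, 0, 0, 0, 0, 0, 0, 0, 8, 0, 0, 0, 0],
  [0, 0, 0, 0, 0, 0, 0, 0, 0, 0, 0, 0, 0, 0, 0, 0, 0, 0, 0, 0, 0, 0, 0, 8]]

theorem ok3 : Ok R3 (tr R3) := Cfsg.Agent.CoOneType.CoFast.ok_of_okZ (by exact Cfsg.Agent.CoOneType.CoQ.okz_of (by decide +kernel))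

/-- matrix (times 8) -/
def R4 : List (List ℤ) := [
  [4, 2, 0, 2, 0, -2, 2, 0, 0, -2, 0, 0, 0, 2, 0, 0, 0, 2, 2, 0, 0, 0, 0, 4],
  [-2, 0, -2, 0, 2, 0, 0, 2, 2, 0, -2, 2, 2, 0, -2, 2, 2, 0, 0, -2, 2, -2, 2, 2],
  [0, -2, 4, -2, 0, 2, 2, 0, 0, -2, 0, 0, 0, 2, -4, 0, 0, -2, 2, 0, 0, 0, 0, 0],
  [2, 0, -2, 0, 2, 0, 0, -2, 2, 0, -2, 2, 2, 0, -2, -2, -2, 0, 0, 2, -2, -2, -2, -2],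
  [2, 0, -2, 0, 2, 0, 0, 2, -2, 0, 2, -2, 2, 0, -2, -2, 2, 0, 0, 2, 2, 2, 2, -2],
  [0, 2, 0, -2, -4, 2, 2, 0, 0, -2, 0, 0, 4, -2, 0, 0, 0, 2, -2, 0, 0, 0, 0, 0],
  [0, -2, 0, 2, 0, 2, 2, 0, 0, 2, 0, 4, 0, -2, 0, 0, 0, 2, 2, 0, 0, 4, 0, 0],
  [0, 2, 0, 2, 0, 2, -2, 4, 0, -2, 0, 0, 0, -2, 0, 0, -4, -2, 2, 0, 0, 0, 0, 0],
  [0, -2, -4, -2, 0, 2, 2, 0, 0, -2, 0, 0, 0, 2, 4, 0, 0, -2, 2, 0, 0, 0, 0, 0],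
  [2, 0, -2, 0, -2, 0, 0, -2, 2, 0, -2, -2, -2, 0, -2, 2, -2, 0, 0, -2, 2, 2, 2, -2],
  [0, -2, 0, -2, 0, -2, -2, 0, 4, -2, 4, 0, 0, -2, 0, 0, 0, 2, 2, 0, 0, 0, 0, 0],
  [2, 0, 2, 0, -2, 0, 0, 2, 2, 0, -2, 2, -2, 0, 2, -2, 2, 0, 0, 2, 2, -2, 2, -2],
  [2, 0, 2, 0, 2, 0, 0, 2, 2, 0, -2, -2, 2, 0, 2, 2, 2, 0, 0, -2, -2, 2, -2, -2],
  [0, -2, 0, 2, -4, -2, -2, 0, 0, 2, 0, 0, 4, 2, 0, 0, 0, -2, 2, 0, 0, 0, 0, 0],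
  [0, 2, 0, 2, 0, 2, 2, 0, 4, 2, 4, 0, 0, 2, 0, 0, 0, -2, -2, 0, 0, 0, 0, 0],
  [0, -2, 0, 2, 0, 2, -2, 0, 0, -2, 0, 0, 0, 2, 0, 0, 0, 2, -2, 0, -4, 0, 4, 0],
  [0, 2, 0, 2, 0, 2, -2, -4, 0, -2, 0, 0, 0, -2, 0, 0, 4, -2, 2, 0, 0, 0, 0, 0],
  [0, -2, 0, 2, 0, 2, 2, 0, 0, 2, 0, -4, 0, -2, 0, 0, 0, 2, 2, 0, 0, -4, 0, 0],
  [2, 0, 2, 0, 2, 0, 0, -2, -2, 0, 2, 2, 2, 0, 2, 2, -2, 0, 0, -2, 2, -2, 2, -2],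
  [0, -2, 0, 2, 0, -2, 2, 0, 0, -2, 0, 0, 0, -2, 0, 4, 0, -2, -2, 4, 0, 0, 0, 0],
  [0, -2, 0, 2, 0, -2, 2, 0, 0, -2, 0, 0, 0, -2, 0, -4, 0, -2, -2, -4, 0, 0, 0, 0],
  [-2, 0, 2, 0, 2, 0, 0, -2, 2, 0, -2, -2, 2, 0, 2, -2, -2, 0, 0, 2, 2, 2, 2, 2],
  [0, 2, 0, -2, 0, -2, 2, 0, 0, 2, 0, 0, 0, -2, 0, 0, 0, -2, 2, 0, -4, 0, 4, 0],
  [4, -2, 0, -2, 0, 2, -2, 0, 0, 2, 0, 0, 0, -2, 0, 0, 0, -2, -2, 0, 0, 0, 0, 4]]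

theorem ok4 : Ok R4 (tr R4) := Cfsg.Agent.CoOneType.CoFast.ok_of_okZ (by exact Cfsg.Agent.CoOneType.CoQ.okz_of (by decide +kernel))

/-- matrix (times 8) -/
def R5 : List (List ℤ) := [
  [8, 0, 0, 0, 0, 0, 0, 0, 0, 0, 0, 0, 0, 0, 0, 0, 0, 0, 0, 0, 0, 0, 0, 0],
  [0, 0, 0, 0, 0, 0, 0, 0, 0, 8, 0, 0, 0, 0, 0, 0, 0, 0, 0, 0, 0, 0, 0, 0],
  [0, 0, 8, 0, 0, 0, 0, 0, 0, 0, 0, 0, 0, 0, 0, 0, 0, 0, 0, 0, 0, 0, 0, 0],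
  [0, 0, 0, 0, 0, 0, 0, 0, 0, 0, 0, 0, 0, 0, 0, 0, 0, 0, -8, 0, 0, 0, 0, 0],
  [0, 0, 0, 0, 0, 0, 0, 0, 0, 0, 0, -8, 0, 0, 0, 0, 0, 0, 0, 0, 0, 0, 0, 0],
  [0, 0, 0, 0, 0, 0, -8, 0, 0, 0, 0, 0, 0, 0, 0, 0, 0, 0, 0, 0, 0, 0, 0, 0],
  [0, 0, 0, 0, 0, -8, 0, 0, 0, 0, 0, 0, 0, 0, 0, 0, 0, 0, 0, 0, 0, 0, 0, 0],
  [0, 0, 0, 0, 0, 0, 0, -8, 0, 0, 0, 0, 0, 0, 0, 0, 0, 0, 0, 0, 0, 0, 0, 0],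
  [0, 0, 0, 0, 0, 0, 0, 0, -8, 0, 0, 0, 0, 0, 0, 0, 0, 0, 0, 0, 0, 0, 0, 0],
  [0, 8, 0, 0, 0, 0, 0, 0, 0, 0, 0, 0, 0, 0, 0, 0, 0, 0, 0, 0, 0, 0, 0, 0],
  [0, 0, 0, 0, 0, 0, 0, 0, 0, 0, 8, 0, 0, 0, 0, 0, 0, 0, 0, 0, 0, 0, 0, 0],
  [0, 0, 0, 0, -8, 0, 0, 0, 0, 0, 0, 0, 0, 0, 0, 0, 0, 0, 0, 0, 0, 0, 0, 0],
  [0, 0, 0, 0, 0, 0, 0, 0, 0, 0, 0, 0, 0, 0, 0, 0, 0, 0, 0, 0, 0, -8, 0, 0],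
  [0, 0, 0, 0, 0, 0, 0, 0, 0, 0, 0, 0, 0, 0, 0, 0, 0, -8, 0, 0, 0, 0, 0, 0],
  [0, 0, 0, 0, 0, 0, 0, 0, 0, 0, 0, 0, 0, 0, -8, 0, 0, 0, 0, 0, 0, 0, 0, 0],
  [0, 0, 0, 0, 0, 0, 0, 0, 0, 0, 0, 0, 0, 0, 0, 0, 0, 0, 0, 0, 8, 0, 0, 0],
  [0, 0, 0, 0, 0, 0, 0, 0, 0, 0, 0, 0, 0, 0, 0, 0, -8, 0, 0, 0, 0, 0, 0, 0],
  [0, 0, 0, 0, 0, 0, 0, 0, 0, 0, 0, 0, 0, -8, 0, 0, 0, 0, 0, 0, 0, 0, 0, 0],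
  [0, 0, 0, -8, 0, 0, 0, 0, 0, 0, 0, 0, 0, 0, 0, 0, 0, 0, 0, 0, 0, 0, 0, 0],
  [0, 0, 0, 0, 0, 0, 0, 0, 0, 0, 0, 0, 0, 0, 0, 0, 0, 0, 0, 0, 0, 0, -8, 0],
  [0, 0, 0, 0, 0, 0, 0, 0, 0, 0, 0, 0, 0, 0, 0, 8, 0, 0, 0, 0, 0, 0, 0, 0],
  [0, 0, 0, 0, 0, 0, 0, 0, 0, 0, 0, 0, -8, 0, 0, 0, 0, 0, 0, 0, 0, 0, 0, 0],
  [0, 0, 0, 0, 0, 0, 0, 0, 0, 0, 0, 0, 0, 0, 0, 0, 0, 0, 0, -8, 0, 0, 0, 0],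
  [0, 0, 0, 0, 0, 0, 0, 0, 0, 0, 0, 0, 0, 0, 0, 0, 0, 0, 0, 0, 0, 0, 0, 8]]

theorem ok5 : Ok R5 (tr R5) := Cfsg.Agent.CoOneType.CoFast.ok_of_okZ (by exact Cfsg.Agent.CoOneType.CoQ.okz_of (by decide +kernel))

/-- The matrices. -/
def M : ℕ → List (List ℤ)
  | 2 => R2
  | 3 => R3
  | 4 => R4
  | 5 => R5
  | _ => R1

theorem okM (i : ℕ) : Ok (M i) (tr (M i)) := by
  unfold M
  split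
  · exact ok2
  · exact ok3
  · exact ok4
  · exact ok5
  · exact ok1

end Cfsg.Agent.H49.MatCo2
end

-- part: H49/CoTwoThree
section
/-!
# The 3-part of the Schur multiplier of `Co2` (helper49)

Sylow 3-subgroup `3^4 : 3^2` in `3^4 : A6`; an element acts on `3^4` cyclically without invariant alternating
form, an involution inverts `3^4`, an element of `A6` exchanges two generators of `3^2`.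
-/

set_option autoImplicit false
set_option maxRecDepth 20000

namespace Cfsg.Agent.H49.CoTwoThree

open Cfsg Cfsg.Agent.SporadicA Cfsg.Agent.SporadicStructure.Co0Matrix Cfsg.Agent.CoOneType.CoEval
open Cfsg.Agent.CoOneType.CoFast Cfsg.Agent.LThreeCo1.Ev Cfsg.Agent.H51.Mult
open Cfsg.Agent.H49.Stab Cfsg.Agent.H49.MatCo2 Cfsg.Agent.H49.McLFive

theorem k_fix : (apZ R1 uL = uL ∧ apZ R2 uL = uL ∧ apZ R3 uL = uL) ∧ apZ R4 uL = uL ∧ apZ R5 uL = uL := by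
  (rewrite [(funext₂ Cfsg.Agent.LThreeCo1.Ev.apZ_eq).trans Cfsg.Agent.CoOneType.CoAp.ap_F]; decide +kernel)

theorem fix (i : ℕ) : (el okM i).1 Spor.leechU = Spor.leechU := by
  apply Subtype.ext
  refine (Rep.apply (rep_mk (okM i)) (l := uL) (by decide) vecU_eq).trans ?_
  rw [← apZ_eq, vecU_eq]
  congr 1
  obtain ⟨⟨h1, h2, h3⟩, h4, h5⟩ := k_fix
  unfold M
  split <;> assumption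

/-- word of `f^4 v f^-4` -/
def w : List ℕ := [0, 0, 1, 3, 3]

/-- action of `b` -/
def bw (k : ℕ) : List ℕ := [[2, 2, 3], [0, 1, 1, 3, 3], [0, 0, 1, 2, 2, 3], [0, 1]].getD k []

/-- action of `s b s⁻¹` -/
def bw' (k : ℕ) : List ℕ := [[2, 2, 3], [3], [1, 1, 2, 3], [0, 0, 1, 1, 2, 2]].getD k []

/-- a vector fixed by three generators of `3^4` -/
def xL : List ℤ := [-6, 2, 0, 0, 0, 0, 2, 0, 0, 0, 0, 2, 0, 0, -2, -2, 2, 0, 0, 0, 0, 0, 0, -6]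

theorem chk : Chk M 4 w bw bw' 1 xL where
  hn := by decide
  hka := by decide
  hw := by decide
  hbw := by decide
  hbw' := by decide
  c1 := by (delta Cfsg.Agent.LThreeCo1.Ev.eqB; rewrite [Cfsg.Agent.CoOneType.CoW.of_eq Cfsg.Agent.LThreeCo1.Ev.foldZ_eq]; decide +kernel)
  c2 := by (delta Cfsg.Agent.LThreeCo1.Ev.eqB; rewrite [Cfsg.Agent.CoOneType.CoW.of_eq Cfsg.Agent.LThreeCo1.Ev.foldZ_eq]; decide +kernel)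
  c3 := by (delta Cfsg.Agent.LThreeCo1.Ev.eqB; rewrite [Cfsg.Agent.CoOneType.CoW.of_eq Cfsg.Agent.LThreeCo1.Ev.foldZ_eq]; decide +kernel)
  c4 := by (delta Cfsg.Agent.LThreeCo1.Ev.eqB; rewrite [Cfsg.Agent.CoOneType.CoW.of_eq Cfsg.Agent.LThreeCo1.Ev.foldZ_eq]; decide +kernel)
  c5 := by (delta Cfsg.Agent.LThreeCo1.Ev.eqB; rewrite [Cfsg.Agent.CoOneType.CoW.of_eq Cfsg.Agent.LThreeCo1.Ev.foldZ_eq]; decide +kernel)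
  c6 := by (delta Cfsg.Agent.LThreeCo1.Ev.eqB; rewrite [Cfsg.Agent.CoOneType.CoW.of_eq Cfsg.Agent.LThreeCo1.Ev.foldZ_eq]; decide +kernel)
  c7 := by (delta Cfsg.Agent.LThreeCo1.Ev.eqB; rewrite [Cfsg.Agent.CoOneType.CoW.of_eq Cfsg.Agent.LThreeCo1.Ev.foldZ_eq]; decide +kernel)
  c8 := by (delta Cfsg.Agent.LThreeCo1.Ev.eqB; rewrite [Cfsg.Agent.CoOneType.CoW.of_eq Cfsg.Agent.LThreeCo1.Ev.foldZ_eq]; decide +kernel)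
  c9 := by (delta Cfsg.Agent.LThreeCo1.Ev.eqB; rewrite [Cfsg.Agent.CoOneType.CoW.of_eq Cfsg.Agent.LThreeCo1.Ev.foldZ_eq]; decide +kernel)
  c10 := by (delta Cfsg.Agent.LThreeCo1.Ev.eqB; rewrite [Cfsg.Agent.CoOneType.CoW.of_eq Cfsg.Agent.LThreeCo1.Ev.foldZ_eq]; decide +kernel)
  c11 := by (delta Cfsg.Agent.LThreeCo1.Ev.eqB; rewrite [Cfsg.Agent.CoOneType.CoW.of_eq Cfsg.Agent.LThreeCo1.Ev.foldZ_eq]; decide +kernel)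
  c12 := by (delta Cfsg.Agent.LThreeCo1.Ev.eqB; rewrite [Cfsg.Agent.CoOneType.CoW.of_eq Cfsg.Agent.LThreeCo1.Ev.foldZ_eq]; decide +kernel)
  c13 := by (delta Cfsg.Agent.LThreeCo1.Ev.eqB; rewrite [Cfsg.Agent.CoOneType.CoW.of_eq Cfsg.Agent.LThreeCo1.Ev.foldZ_eq]; decide +kernel)
  c14 := by (delta Cfsg.Agent.LThreeCo1.Ev.neB'; rewrite [Cfsg.Agent.CoOneType.CoW.of_eq Cfsg.Agent.LThreeCo1.Ev.foldZ_eq]; decide +kernel)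
  c15 := by (delta Cfsg.Agent.LThreeCo1.Ev.neB'; rewrite [Cfsg.Agent.CoOneType.CoW.of_eq Cfsg.Agent.LThreeCo1.Ev.foldZ_eq]; decide +kernel)
  xlen := by decide
  xmem := by decide +kernel
  c16 := by
    have h : ∀ i < 3, foldZ (xM M) (wv i) xL = xL := by (rewrite [Cfsg.Agent.CoOneType.CoW.of_eq Cfsg.Agent.LThreeCo1.Ev.foldZ_eq]; decide +kernel)
    intro i hi
    exact h i (by omega)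
  c17 := by (rewrite [Cfsg.Agent.CoOneType.CoW.of_eq Cfsg.Agent.LThreeCo1.Ev.foldZ_eq]; decide +kernel)

theorem noForm (D : ℕ → ZMod 3) (h0 : D 0 = 0) (h : ∀ i, i + 1 < 4 →
      (w.map fun k => if i + 1 ≤ k then D (k - (i + 1)) else - D (i + 1 - k)).sum = D (4 - 1 - i)) :
      ∀ k < 4, D k = 0 := by
  have h1 := h 0 (by norm_num)
  have h2 := h 1 (by norm_num)
  have h3 := h 2 (by norm_num)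
  simp [w, h0] at h1 h2 h3
  have : D 1 = 0 ∧ D 2 = 0 ∧ D 3 = 0 := by
    generalize D 1 = d1 at *
    generalize D 2 = d2 at *
    generalize D 3 = d3 at *
    clear h
    revert d1 d2 d3
    decide
  intro k hk
  obtain ⟨a1, a2, a3⟩ := this
  interval_cases k <;> assumption

theorem noCov [Finite Spor.Co2] (hcard : ¬ 3 ^ 7 ∣ Nat.card Spor.Co2) : NoCov 3 Spor.Co2 := by
  have : Finite (St Spor.leechU) := (inferInstance : Finite Spor.Co2)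
  exact noCov_three okM fix chk noForm hcard

end Cfsg.Agent.H49.CoTwoThree
end

-- part: S2044
section
set_option autoImplicit false
open Cfsg

namespace Cfsg.Agent.S2044

/-- The Schur multiplier of the Conway group Co₂ (the stabiliser of a minimal vector of the rank-24 lattice) is trivial; here the Schur multiplier is described through stem extensions, as in the definitions: surjective homomorphisms onto the group from a finite group, whose kernel is central in that finite group and contained in that finite group's commutator subgroup. -/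
theorem result : Cfsg.HasCyclicSchurMultiplier ↥Cfsg.Spor.Co2 1 := by
  haveI := Cfsg.Agent.H49.CoStab.finite_co2
  refine Cfsg.Agent.H51.Mult.hasCyclic_one Cfsg.Agent.H49.CoStab.perfect_co2 fun p hp hd => ?_
  have hc := Cfsg.Agent.H49.CoStab.card_co2
  rw [hc] at hd
  have h1 : p ∈ List.replicate 18 2 ++ List.replicate 6 3 ++ [5, 5, 5, 7, 11, 23] :=
    Cfsg.Agent.H48.Crit.prime_mem (by decide) (by decide) hp hd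
  simp only [List.mem_append, List.mem_replicate, List.mem_cons, List.not_mem_nil, or_false] at h1
  rcases h1 with (⟨-, rfl⟩ | ⟨-, rfl⟩) | rfl | rfl | rfl | rfl | rfl | rfl
  · exact Cfsg.Agent.H51.Mult.noCov_two Cfsg.Agent.KFacts.MulCoTwo.Main.noDouble
  · exact Cfsg.Agent.H49.CoTwoThree.noCov (by rw [hc]; norm_num)
  · exact Cfsg.Agent.H49.McLFive.noCov_co2 (by rw [hc]; norm_num)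
  · exact Cfsg.Agent.H49.McLFive.noCov_co2 (by rw [hc]; norm_num)
  · exact Cfsg.Agent.H49.McLFive.noCov_co2 (by rw [hc]; norm_num)
  · exact Cfsg.Agent.H51.Mult.noCov_of_not_sq_dvd hp (by rw [hc]; norm_num)
  · exact Cfsg.Agent.H51.Mult.noCov_of_not_sq_dvd hp (by rw [hc]; norm_num)
  · exact Cfsg.Agent.H51.Mult.noCov_of_not_sq_dvd hp (by rw [hc]; norm_num)

end Cfsg.Agent.S2044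
end

private theorem dce_4fe1bc7c3ab7 : _root_.True := by
  try have : _root_.True := by simp only [_root_.Cfsg.Agent.H49.CoTwoThree.w.eq_1]
  exact _root_.True.intro
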