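import Cfsg.Agent.H53.OddLift
import Cfsg.Agent.MonsterU.BabyCover
import Cfsg.Agent.BM.Psi
import Cfsg.Agent.H51.Mult
import Cfsg.Statements.S2058
import Cfsg.Agent.H53.Monster
import Cfsg.Agent.KFacts.MulEven.Baby
import Cfsg.Agent.H850.MonSub
import Cfsg.Agent.S1704
import Cfsg.Agent.S1705
import Cfsg.Agent.FastGrp
import Cfsg.Agent.Prune
set_option linter.all false
prune_inst 0x7f00000000000000000000000000000000000000000000000000000000000000000000000000000000000000000000000000000000000000000000000000000000000000000000000000000000000000003fffffffffffffffffffffffffffbeffbdffffffff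
open scoped Cfsg.Agent.FastGrp

/-- decoders of the packed data (elaboration time only) -/
private noncomputable def pk61d (b S i : Nat) : Nat := Nat.mod (Nat.shiftRight S (Nat.mul b i)) (Nat.shiftLeft (nat_lit 1) b)
private noncomputable def pk61c {α : Type} (t : Nat) (a : α) (f : Nat → α) : α := Nat.rec a (fun k _ => f k) t
private noncomputable def pk61f {α : Type} (t : Nat) (f : Nat → α) : α := Nat.rec (f Nat.zero) (fun k _ => f (Nat.succ k)) t
private noncomputable def pk61l {α : Type} (f : Nat → α) (s e : Nat) (tl : List α) : List α :=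
  pk61f e fun e => Nat.rec tl (fun k ih => List.cons (pk61f (Nat.sub e (Nat.succ k)) f) ih) (Nat.sub e s)
private noncomputable def pk61o {α : Type} (O : (n : Nat) → OfNat α n → α) (I : (n : Nat) → OfNat α n) (t : Nat) : α :=
  pk61c t (O (nat_lit 0) (I (nat_lit 0))) fun k => O (Nat.succ k) (I (Nat.succ k))

-- part: H53/Baby
section
/-!
# The Baby Monster has no perfect central extension with kernel of odd prime order (helper53)

`noCov_baby`. The nodes lift to involutions with the Coxeter relations; the squares of the two `E₇` relators are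
consequences of the Coxeter relations; the spider relation is `Spider.spider_one`.
-/

set_option autoImplicit false
set_option maxRecDepth 100000
set_option linter.unusedVariables false
set_option linter.constructorNameAsVariable false

namespace Cfsg.Agent.H53.Baby

open Cfsg Cfsg.Spor Cfsg.Agent.Bimonster Cfsg.Agent.Bimonster.Tits Cfsg.Agent.KFacts.MulY.Tree
open Cfsg.Agent.KFacts.MulY.FiTree Cfsg.Agent.H51.Mult Cfsg.Agent.H53.Spider Cfsg.Agent.H53.OddLift
open Cfsg.Agent.BM.Psi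

universe u v

/-- letters of the nodes of the Baby Monster -/
def SB (i : ℕ) : Bool := [0, 1, 2, 3, 4, 6, 7, 8, 11, 12, 13].contains i

/-- the node of a letter -/
def gn : ℕ → BabyMonster.Gen
  | 0 => .t5
  | 1 => .t4
  | 2 => .t3
  | 3 => .t2
  | 4 => .t1
  | 6 => .t6
  | 7 => .t7
  | 8 => .t8
  | 11 => .t9
  | 12 => .t10
  | 13 => .t11
  | _ => .t5

theorem SB_mem {i : ℕ} (h : SB i = true) : i ∈ [0, 1, 2, 3, 4, 6, 7, 8, 11, 12, 13] := by
  unfold SB at h
  exact List.contains_iff_mem.1 h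

/-- the labels of two letters -/
def labB (i j : ℕ) : Bool :=
  bif adjB i j then Nat.beq (coxLabel BabyMonster.edges (gn i) (gn j)) 3
  else (decide (gn i = gn j) || Nat.beq (coxLabel BabyMonster.edges (gn i) (gn j)) 2)

theorem labB_ok : ([0, 1, 2, 3, 4, 6, 7, 8, 11, 12, 13].all fun i =>
    [0, 1, 2, 3, 4, 6, 7, 8, 11, 12, 13].all fun j => labB i j) = true := by decide +kernel

theorem lab {i j : ℕ} (hi : SB i = true) (hj : SB j = true) : labB i j = true :=
  List.all_eq_true.1 (List.all_eq_true.1 labB_ok i (SB_mem hi)) j (SB_mem hj)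

/-- certificate -/
def cA : List ℕ :=
  let y0 : List ℕ := (by
  refine (?fq9001 : (fun (On : (n : Nat) → OfNat Nat n → Nat) (In : (n : Nat) → OfNat Nat n) => (pk61l (fun i0 => (pk61o On In (pk61d (nat_lit 8) 
    (nat_lit 0x301060409070c0a0704010f0d0a0704121511181613100d0804011b1916130e0a07041e211f1c191613100d08040124272a2d2b2825221f1c1916110d0a0501302e333136393c3f4245484b494643403d3834312e29231f1a1613201c191628253734312e2b284e4c4946433e51545755524f4a4643403d3a352f34494643403d3a375a5855505d5b5652605e5b5855524f4c4963616669655f646c6a676f6d6a7275787b7e817f7c797673706d6864615e59534d4946413b37322e2b2825221d193a37322e2b28231f1c403d3a37322e2925221f312e4c4743403d3a524f4c474340465855524f4c6764615e5b5855524f4a443e38322e2b282522373d3a43403d4946434084827f7c7987858a8885827d7976716d6864615c58534f4c4743403d3834312c2825221d1916110d524d4946433e3a3734312c2825221d1713101c5b585552706d68625e5b56524f4c4944403d3a3734312c2825221f2b28252261677c797673706d6a655f5b5e64618d8b88837f7a827f90938f89837f7c77736e68645f5b5855524d4946433e3834312e2b26221f1a1613100b073d67645f5b58534f4c49)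 i0))) (nat_lit 0) (nat_lit 422) List.nil : List ℕ))
    = ?xq9001 → (List ℕ)) ?hq9001; (case hq9001 => (set_option maxRecDepth 1000000 in conv => lhs; reduce)); intro _; exact ?xq9001 (@OfNat.ofNat Nat) instOfNatNat : List ℕ)
  let y1 : List ℕ := (by
  refine (?fq9002 : (fun (On : (n : Nat) → OfNat Nat n → Nat) (In : (n : Nat) → OfNat Nat n) (tl : List ℕ) => (pk61l (fun i0 => (pk61o On In (pk61d (nat_lit 8) 
    (nat_lit 0x44403d3834312c2825221f1a16110d0a6d7673706b67645f5955524f4c49443e3a37322e2b2825221f1a1619435e6a676461827d7773706d6a65615c5855524d494643403b373a7c88837f7c778e8b88837d7974706b6764615c5855524d4946413d3a4073707a74706d6a6764615c5855524d4743403d464c5b5855524f4a7379827f7c96999c9f9d9a9794918ea2a09d9aa5a8aba9a6a39e9a97928e8b86918e8b9d9a9794918eaeaca9a4a09b97928e8b88837f7a76736e6a65615e5955524f4c4946413d38322e2b28252037403d3a6d6a918e8985827f7a74706d6a65615e5955524f4c47413d3a37322e2b26312e2b4664615e73799a97948f8b8885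827f7c77716b6764615e596a67706d7673a3a09d9a95918e8b8885827f7c7976716b655f5b56524d4946413d38342f3734403d3a37534f4c494643403d3a5c5855504a443e4349464f4c495b56524f4c64615e5b56524f6a6764615e5b5652706d6a6764615e5b56b1afaaa49e9a9794918c88837d7974706d6a6764615c58534f4c4946413d3a37322e2925221d1914100d0a055955524f4c4946413d3a37322e29231f1a1613100d0a28312e2b403d3a3734312e829d9a97928e8985827d7974706d6a67625e5b56524f4a46433e3a37322e2b26221f1c17130e615c5855524f4a46433e3834312e2b26221d19161325223d4946) i0))) (nat_lit 0) (nat_lit 500) tl : List ℕ))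
    = ?xq9002 → (List ℕ)) ?hq9002; (case hq9002 => (set_option maxRecDepth 1000000 in conv => lhs; reduce)); intro _; exact ?xq9002 (@OfNat.ofNat Nat) instOfNatNat y0 : List ℕ)
  let y2 : List ℕ := (by
  refine (?fq9003 : (fun (On : (n : Nat) → OfNat Nat n → Nat) (In : (n : Nat) → OfNat Nat n) (tl : List ℕ) => (pk61l (fun i0 => (pk61o On In (pk61d (nat_lit 8) 
    (nat_lit 0x43407c79a3a09d9894918e89837f7c79748288a9a6a39e9a9794918e8b86807a76716d6864615e59534f4c4944403b37342f2b2825221f1a1613191643405867645f5b58534f4a4643403b37342f2b2825202e3a3734524f706d6a67645f59534f4c494643403d3a37322c26221d232b28312e2b585e5b77716d6a67645f5b56504a46433e3a3734312e2b2825221f1c19494f55525e5b5855706d6a655f5b5855524d47433e3a37343d46434c4946647673706b67645f5b58534f4c4946413b3732407f7c7976716d6a67645f5b58534f4c4743403b373a525e5b5885827f7c7773706d6a6764615e5b56504c47413d40464f4c494455524f4c49b4b2afaaa6a3a09b97928e8b86a9a6a3a09b97928c919a9794b7b5b0aca9a4a09d98948f8b88837f7c7974706d68645f5b5855505e676497948f8985827f7c79746e6864615e5b585567646d73708eafaca9a49e9a97928c8885827d797673706d68645f595e6764619d9894918c8885827d7976736e68646da39e9a9794918c8885827d7974706d688b8885827d79746e737c7976bab6b2afaca7a39e9a97928e8b86827f7a76716d6a65615c5855524d4946413d3a35312e2925221d1916110d0a07021c19164c4743403d3a35312e29231f1c1916110d0804100d22282534312e2b64617976716b6764615c58534f4c49443e3a37342f2b)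 i0))) (nat_lit 0) (nat_lit 500) tl : List ℕ))
    = ?xq9003 → (List ℕ)) ?hq9003; (case hq9003 => (set_option maxRecDepth 1000000 in conv => lhs; reduce)); intro _; exact ?xq9003 (@OfNat.ofNat Nat) instOfNatNat y1 : List ℕ)
  (by
  refine (?fq9004 : (fun (On : (n : Nat) → OfNat Nat n → Nat) (In : (n : Nat) → OfNat Nat n) (tl : List ℕ) => (pk61l (fun i0 => (pk61o On In (pk61d (nat_lit 8) 
    (nat_lit 0x28231d191613100d0a1c222e2b282543524f4a46433e3a35312e2b2825201a1613191f34313d3a5b5855524f4a443e3a3734312e2b2825221d171c3d3a3743494670918e8b86807c79746e6864615e5b56524f4c494643403b37342f2b26201a1613100d0a07252e2b283a3734312e2b676d7f7a7673706b65615e5b56524f4c4946413d38322e37403d3a646a85807c797673706d68625e5b56524f4c47413d3a373246615e5b56524d4946413d38403d6764615e5b56524d47413d3a40464c4955524f4ca6a39e98948f8b8885827f7c77716b6764615c56524f4c49443e3834312e2925221f1c19161310373d43406a67625e5b56524f4a4643403b35313a706d6864615e5b56524f4a46413d3a3555524f4a46413b4049464376736e6a6764615e5b5855524f4c49469db5b2ada9a6a19b9794918c88837f7c7773706b67645f5b56524f4a46433e3a37322e2b26221f1a141925201c19312c2825221f4946433e383d5e5b56504c4946413b3734312e2925221f1c4f4c474355524d49467673706b65615e5955524d4944403d3a35312e2b2825645f5b5855526a65615e5b58558b88837d7974706d6a6764615c5855524f4c829a97928e8b86807c7976716d6864615e5b56524f4c49467f7c777385827d7976918c8885827fa09d9894918e8b86827f7c79aca7a3a09d9a95918e8b8885)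 i0))) (nat_lit 0) (nat_lit 500) tl : List ℕ))
    = ?xq9004 → (List ℕ)) ?hq9004; (case hq9004 => (set_option maxRecDepth 1000000 in conv => lhs; reduce)); intro _; exact ?xq9004 (@OfNat.ofNat Nat) instOfNatNat y2 : List ℕ)

/-- certificate -/
def cB : List ℕ :=
  let y0 : List ℕ := (by
  refine (?fq9005 : (fun (On : (n : Nat) → OfNat Nat n → Nat) (In : (n : Nat) → OfNat Nat n) => (pk61l (fun i0 => (pk61o On In (pk61d (nat_lit 8) 
    (nat_lit 0x306090704010c0a0704010f0d0a0704121513100b0704011816110d0a07041b1713101e211f1c191613100d0804012422272a2825221f1c1713100d0a05012d2b2825221d193033312c26221f1c2b36393c3f3d3a3734312e2b28252042403d3a45484b4946433e3a37322c2825221f1c19143d3a374e4c4944403b3734312c2825223a43405154575a5d5b5855504a44403d3a3734312c28494f4c605e5b5855524f4c4946413b35312e2b28253a403d63615e5b666967645f5b58534f4a44403b3734312e2b28495e5b586c6a65615c5855504c4944403b3734312e2b43405b64616f6b65615e5b5855504a4643403b37344f64616a7275737078767b7e7c797673706d6a65615c58534d4743403d3a3734312e2925201a1f282522464c5b5864615e5b817f7c797673706b655f5b5855524f4a44403d3a495e5b646a67848785807a74706d6a6764615e5b58534d4743403d52797f7c8a8885807c77716d68625e5b5855524f4c4946413d3a37322e2b26221d1916110d25221d1713101c312e2b2825221f403d3a3734312e2b2825226167767f7c798d8b86807c)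 i0))) (nat_lit 0) (nat_lit 414) List.nil : List ℕ))
    = ?xq9005 → (List ℕ)) ?hq9005; (case hq9005 => (set_option maxRecDepth 1000000 in conv => lhs; reduce)); intro _; exact ?xq9005 (@OfNat.ofNat Nat) instOfNatNat : List ℕ)
  let y1 : List ℕ := (by
  refine (?fq9006 : (fun (On : (n : Nat) → OfNat Nat n → Nat) (In : (n : Nat) → OfNat Nat n) (tl : List ℕ) => (pk61l (fun i0 => (pk61o On In (pk61d (nat_lit 8) 
    (nat_lit 0x7976716d6a655f5b5855524f4c4743403b4643405e64706d6a6785908c8885807c7773706d6a67625c5855524d5b6176737f7c93918e8b8885827f7c77736e6a656d6a7673706d969995918e8b8885827d77716d6a67706d767c799c9a97928c86827f7c797673706d6a67645f59534f4a44403d38322e2b26221f1a1613100b07312c2825221f1a16110d0a37322e2b2825221f1a1619433e3a374946433e3a3d504c4743405855504c4743464f4c5e5b5855524f4a8b918e9f9d9a97928e89837f7a74706d6a6764615e5b58737988918e8ba2a09d98928e8b88837f7c77716d6a6764617076827f7c79746e7397a5a39e9a97928e8985827f7c8885918e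a8aba7a3a09d9a9794918e8985807c77716d6a65615c58534f4c4946413d38322e2b28252037403d3a524f4c47413d3a37322e2b26312e2b465b5864615e5b76716b6764615e5b56524d4946413d38342f3734403d3a37534f4c494643403d3a6a707f7c7976736e6864615c5855504a443e4349464f4c495b56524f4c676d8885827f7c797673706b65615e5b56524f64615e5b56526a6764615e5b56aeaca7a3a09d9a97948f89837f7a746e6a6764615c58534f4c4946413d3a37322e2925221d1914100d0a055955524f4c4946413d3a37322e29231f1a1613100d0a28312e2b403d3a3734312e6d6a67625e5b56524f4a4643) i0))) (nat_lit 0) (nat_lit 500) tl : List ℕ))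
    = ?xq9006 → (List ℕ)) ?hq9006; (case hq9006 => (set_option maxRecDepth 1000000 in conv => lhs; reduce)); intro _; exact ?xq9006 (@OfNat.ofNat Nat) instOfNatNat y0 : List ℕ)
  let y2 : List ℕ := (by
  refine (?fq9007 : (fun (On : (n : Nat) → OfNat Nat n → Nat) (In : (n : Nat) → OfNat Nat n) (tl : List ℕ) => (pk61l (fun i0 => (pk61o On In (pk61d (nat_lit 8) 
    (nat_lit 0x3e3a37322e2b26221f1c17130e615c5855524f4a46433e3834312e2b26221d19161325223d49464340737976807c7976716d6864615e59534f4c4944403b37342f2b2825221f1a1613191643405867645f5b58534f4a4643403b37342f2b2825202e3a3734524f706d6a67645f59534f4c494643403d3a37322c26221d232b28312e2b585e5b8885807c77716d6a67645f5b56504a46433e3a3734312e2b2825221f1c19494f55525e5b5855706d6a655f5b5855524d47433e3a37343d46434c4946647673706b67645f5b58534f4c4946413b3732408e8b8885807c7976716d6a67645f5b58534f4c4743403b373a525e5b587f7c7773706d6a6764615e5b56504c47413d40464f4c494455524f4c49b1afaca9a49e989da3a0b4b2afaca9a4a09b97928e8b86a3a09b97928c919a9794b7b5b2afaaa4a09d98948f8b88837f7c7974706d68645f5b5855505e676497948f8985827f7a7673706d6a67625c565b615e8ea9a49e9a97928c8885827f7c77716b6764616a7076739d9894918c8885827d7976736e68646da39e9a9794918c8885827d7974706d688b8885827d79746e737c7976bab8b5b0aca7a39e9a97928e8b86827f7a76716d6a65615e5955524d4946413d3a35312e2925221d1916110d0a07021c19164c4743403d3a35312e29231f1c1916110d0804100d22282534312e2b)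 i0))) (nat_lit 0) (nat_lit 500) tl : List ℕ))
    = ?xq9007 → (List ℕ)) ?hq9007; (case hq9007 => (set_option maxRecDepth 1000000 in conv => lhs; reduce)); intro _; exact ?xq9007 (@OfNat.ofNat Nat) instOfNatNat y1 : List ℕ)
  (by
  refine (?fq9008 : (fun (On : (n : Nat) → OfNat Nat n → Nat) (In : (n : Nat) → OfNat Nat n) (tl : List ℕ) => (pk61l (fun i0 => (pk61o On In (pk61d (nat_lit 8) 
    (nat_lit 0x7976716b6764615e59534f4c49443e3a37342f2b28231d191613100d0a1c222e2b282543524f4a46433e3a35312e2b2825201a1613191f34313d3a5855524f4a443e3a3734312e2b2825221d171c3d3a3743494670918e8b86807c79746e6a67625e5b56524f4c494643403b37342f2b26201a1613100d0a07252e2b283a3734312e2b7f7a76736e6a67625e5b56524f4c4946413d38322e37403d3a85807c7976736e6a67625e5b56524f4c47413d3a373246615e5b56524d4946413d38403d6d6a6764615e5b56524d4741464c4955524f4ca6a39e9894918e8985807c7974706b67625e5b5855504c4944403b37342f2b28231f1c17110d0a221d19162e2b284f4c4944403b35312e2b28231f1c193a43403d6a67625e5b56524d4946413d38342f2b28252255524d47434c73706d6a67625c5855504a46433e3a35312e2b28254f5b56524f4a615c5855524f8885807a746e6a6764615e5b5855524f4c4946736e6a677976736e6a7f7c7976736e97948f8b88837f7c7974706b679d9a95918e8b88837f7a7673706b807c79767370ada9a6a19d9a95918e8985827d7974706d6864615c56524f4a46433e3a35312e2b28231f1c19161349464355504c49464367625e5b56524f4c4946736e6a67647a76737088837f7c7773706d6a67948f8b888582a09d9aaca7a3a09d9a95918e8b8885)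 i0))) (nat_lit 0) (nat_lit 500) tl : List ℕ))
    = ?xq9008 → (List ℕ)) ?hq9008; (case hq9008 => (set_option maxRecDepth 1000000 in conv => lhs; reduce)); intro _; exact ?xq9008 (@OfNat.ofNat Nat) instOfNatNat y2 : List ℕ)

/-- the word `t5 t4 t3 t6 t7 t8 t9` -/
def aW : List ℕ := [0, 1, 2, 6, 7, 8, 11]
/-- the word `t5 t4 t3 t6 t9 t10 t11` -/
def bW : List ℕ := [0, 1, 2, 6, 11, 12, 13]

private theorem _root_.Cfsg.Agent.KOd892c33.e0.{ku, kv} {α : Type kv} {M : List α → Sort ku} (φ : ∀ l, M l) {z : M List.nil} {s : ∀ a l, M l → M (List.cons a l)} (h0 : φ List.nil = z) (hs : ∀ a l, φ (List.cons a l) = s a l (φ l)) (l : List α) : φ l = @List.rec α M z s l := List.rec h0 (fun a l ih => (hs a l).trans (congrArg (s a l) ih)) l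
private noncomputable def _root_.Cfsg.Agent.KOd892c33.k6 : ((x0 : @Nat) → ((x1 : @Nat) → @Decidable (@Eq.{1} @Nat @x0 @x1))) := @(fun (x0 : @Nat) (x1 : @Nat) => @Bool.rec.{1} @(fun (x2 : @Bool) => ((@Eq.{1} @Bool (@Nat.beq @x0 @x1) @x2) → @Decidable (@Eq.{1} @Nat @x0 @x1))) @(fun (x2 : @Eq.{1} @Bool (@Nat.beq @x0 @x1) @Bool.false) => @Decidable.isFalse (@Eq.{1} @Nat @x0 @x1) (@Nat.ne_of_beq_eq_false @x0 @x1 @x2)) @(fun (x2 : @Eq.{1} @Bool (@Nat.beq @x0 @x1) @Bool.true) => @Decidable.isTrue (@Eq.{1} @Nat @x0 @x1) (@Nat.eq_of_beq_eq_true @x0 @x1 @x2)) (@Nat.beq @x0 @x1) (@Eq.refl.{1} @Bool (@Nat.beq @x0 @x1)))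
private theorem _root_.Cfsg.Agent.KOd892c33.e6 : @Nat.decEq = @_root_.Cfsg.Agent.KOd892c33.k6 := by delta _root_.Cfsg.Agent.KOd892c33.k6; rfl'
private noncomputable def _root_.Cfsg.Agent.KOd892c33.k8 : (by first | exact type_of% @Cfsg.Agent.Bimonster.par | exact Unit : Sort _) := by first | (refine @Subtype.val _ (fun g => @Cfsg.Agent.Bimonster.par = @g) (@Subtype.mk _ _ (@(fun (x0 : @Nat) => @Nat.mod (@Nat.shiftRight @Cfsg.Agent.Bimonster.parN (@Nat.mul (nat_lit 5) @x0)) (nat_lit 32))) ?_); (try delta Cfsg.Agent.Bimonster.par); (try generalize @Cfsg.Agent.Bimonster.parN = g0); rfl') | exact @Cfsg.Agent.Bimonster.par | exact ()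
private theorem _root_.Cfsg.Agent.KOd892c33.e8 : (by first | exact @Cfsg.Agent.Bimonster.par = @_root_.Cfsg.Agent.KOd892c33.k8 | exact True : Prop) := by first | (delta _root_.Cfsg.Agent.KOd892c33.k8; exact @Subtype.property _ (fun g => @Cfsg.Agent.Bimonster.par = @g) _) | rfl | trivial
private noncomputable def _root_.Cfsg.Agent.KOd892c33.k9 : (by first | exact type_of% @Cfsg.Agent.Bimonster.adjB | exact Unit : Sort _) := by first | (refine @Subtype.val _ (fun g => @Cfsg.Agent.Bimonster.adjB = @g) (@Subtype.mk _ _ (@(fun (x0 : @Nat) (x1 : @Nat) => @Bool.rec.{1} @(fun (x2 : @Bool) => @Bool) (@Nat.beq (@Cfsg.Agent.KOd892c33.k8 @x1) @x0) @Bool.true (@Nat.beq (@Cfsg.Agent.KOd892c33.k8 @x0) @x1))) ?_); rewrite [← Cfsg.Agent.KOd892c33.e8]; (try delta Cfsg.Agent.Bimonster.adjB); (try generalize @Cfsg.Agent.Bimonster.par = g0); rfl') | exact @Cfsg.Agent.Bimonster.adjB | exact ()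
private theorem _root_.Cfsg.Agent.KOd892c33.e9 : (by first | exact @Cfsg.Agent.Bimonster.adjB = @_root_.Cfsg.Agent.KOd892c33.k9 | exact True : Prop) := by first | (delta _root_.Cfsg.Agent.KOd892c33.k9; exact @Subtype.property _ (fun g => @Cfsg.Agent.Bimonster.adjB = @g) _) | rfl | trivial
private noncomputable def _root_.Cfsg.Agent.KOd892c33.k11 : ((x0 : Prop) → ((@Decidable @x0) → @Bool)) := @(fun (x0 : Prop) (x1 : @Decidable @x0) => @Decidable.rec.{1} @x0 @(fun (x2 : @Decidable @x0) => @Bool) @(fun (x2 : @Not @x0) => @Bool.false) @(fun (x2 : x0) => @Bool.true) @x1)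
private theorem _root_.Cfsg.Agent.KOd892c33.e11 : @Decidable.decide = @_root_.Cfsg.Agent.KOd892c33.k11 := by delta _root_.Cfsg.Agent.KOd892c33.k11; rfl'
private noncomputable def _root_.Cfsg.Agent.KOd892c33.k12.{ku0} : ((x0 : Sort (ku0+1)) → ((@DecidableEq.{(ku0+1)} @x0) → @DecidableEq.{(ku0+1)} (@Option.{ku0} @x0))) := @(fun (x0 : Sort (ku0+1)) (x1 : @DecidableEq.{(ku0+1)} @x0) (x2 : @Option.{ku0} @x0) (x3 : @Option.{ku0} @x0) => @Option.rec.{1, ku0} @x0 @(fun (x4 : @Option.{ku0} @x0) => @Decidable (@Eq.{(ku0+1)} (@Option.{ku0} @x0) @x4 @x3)) (@Option.rec.{1, ku0} @x0 @(fun (x4 : @Option.{ku0} @x0) => @Decidable (@Eq.{(ku0+1)} (@Option.{ku0} @x0) (@Option.none.{ku0} @x0) @x4)) (@Decidable.isTrue (@Eq.{(ku0+1)} (@Option.{ku0} @x0) (@Option.none.{ku0} @x0) (@Option.none.{ku0} @x0)) (@Option.instDecidableEq._proof_1.{ku0} @x0)) @(fun (x4 : x0) => @Decidable.isFalse (@Eq.{(ku0+1)} (@Option.{ku0} @x0) (@Option.none.{ku0} @x0) (@Option.some.{ku0}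 @x0 @x4)) (@Option.instDecidableEq._proof_2.{ku0} @x0 @x4)) @x3) @(fun (x4 : x0) => @Option.rec.{1, ku0} @x0 @(fun (x5 : @Option.{ku0} @x0) => @Decidable (@Eq.{(ku0+1)} (@Option.{ku0} @x0) (@Option.some.{ku0} @x0 @x4) @x5)) (@Decidable.isFalse (@Eq.{(ku0+1)} (@Option.{ku0} @x0) (@Option.some.{ku0} @x0 @x4) (@Option.none.{ku0} @x0)) (@Option.instDecidableEq._proof_3.{ku0} @x0 @x4)) @(fun (x5 : x0) => @Decidable.rec.{1} (@Eq.{(ku0+1)} @x0 @x4 @x5) @(fun (x6 : @Decidable (@Eq.{(ku0+1)} @x0 @x4 @x5)) => @Decidable (@Eq.{(ku0+1)} (@Option.{ku0} @x0) (@Option.some.{ku0} @x0 @x4) (@Option.some.{ku0} @x0 @x5))) @(fun (x6 : @Not (@Eq.{(ku0+1)} @x0 @x4 @x5)) => @Decidable.isFalse (@Eq.{(ku0+1)} (@Option.{ku0} @x0) (@Option.some.{ku0} @x0 @x4) (@Option.some.{ku0} @x0 @x5)) (@Option.instDecidableEq._proof_5.{ku0} @x0 @x4 @x5 @x6)) @(fun (x6 : @Eq.{(ku0+1)} @x0 @x4 @x5) => @Decidable.isTrue (@Eq.{(ku0+1)} (@Option.{ku0} @x0) (@Option.some.{ku0}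 @x0 @x4) (@Option.some.{ku0} @x0 @x5)) (@Option.instDecidableEq._proof_4.{ku0} @x0 @x4 @x5 @x6)) (@x1 @x4 @x5)) @x3) @x2)
private theorem _root_.Cfsg.Agent.KOd892c33.e12.{ku0} : @Option.instDecidableEq.{ku0} = @_root_.Cfsg.Agent.KOd892c33.k12.{ku0} := by delta _root_.Cfsg.Agent.KOd892c33.k12; rfl'
private noncomputable def _root_.Cfsg.Agent.KOd892c33.k13.{ku0, ku1} : ((x0 : Sort (ku0+1)) → ((x1 : Sort (ku1+1)) → ((@DecidableEq.{(ku0+1)} @x0) → ((@DecidableEq.{(ku1+1)} @x1) → @DecidableEq.{(max (ku1+1) (ku0+1))} (@Prod.{ku0, ku1} @x0 @x1))))) := @(fun (x0 : Sort (ku0+1)) (x1 : Sort (ku1+1)) (x2 : @DecidableEq.{(ku0+1)} @x0) (x3 : @DecidableEq.{(ku1+1)} @x1) (x4 : @Prod.{ku0, ku1} @x0 @x1) (x5 : @Prod.{ku0, ku1} @x0 @x1) => @Prod.rec.{1, ku0, ku1} @x0 @x1 @(fun (x6 : @Prod.{ku0, ku1} @x0 @x1) => @Decidable (@Eq.{(max (ku1+1) (ku0+1))} (@Prod.{ku0, ku1} @x0 @x1) @x6 @x5)) @(fun (x6 : x0) (x7 : x1) => @Prod.rec.{1, ku0, ku1} @x0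 @x1 @(fun (x8 : @Prod.{ku0, ku1} @x0 @x1) => @Decidable (@Eq.{(max (ku1+1) (ku0+1))} (@Prod.{ku0, ku1} @x0 @x1) (@Prod.mk.{ku0, ku1} @x0 @x1 @x6 @x7) @x8)) @(fun (x8 : x0) (x9 : x1) => @Decidable.rec.{1} (@Eq.{(ku0+1)} @x0 @x6 @x8) @(fun (x10 : @Decidable (@Eq.{(ku0+1)} @x0 @x6 @x8)) => @Decidable (@Eq.{(max (ku1+1) (ku0+1))} (@Prod.{ku0, ku1} @x0 @x1) (@Prod.mk.{ku0, ku1} @x0 @x1 @x6 @x7) (@Prod.mk.{ku0, ku1} @x0 @x1 @x8 @x9))) @(fun (x10 : @Not (@Eq.{(ku0+1)} @x0 @x6 @x8)) => @Decidable.isFalse (@Eq.{(max (ku1+1) (ku0+1))} (@Prod.{ku0, ku1} @x0 @x1) (@Prod.mk.{ku0, ku1} @x0 @x1 @x6 @x7) (@Prod.mk.{ku0, ku1} @x0 @x1 @x8 @x9)) (@instDecidableEqProd._proof_3.{ku1, ku0} @x0 @x1 @x6 @x7 @x8 @x9 @x10)) @(fun (x10 : @Eq.{(ku0+1)} @x0 @x6 @x8) => @Decidable.rec.{1} (@Eq.{(ku1+1)} @x1 @x7 @x9) @(fun (x11 : @Decidable (@Eq.{(ku1+1)} @x1 @x7 @x9)) => @Decidable (@Eq.{(max (ku1+1) (ku0+1))} (@Prod.{ku0, ku1} @x0 @x1) (@Prod.mk.{ku0, ku1}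 @x0 @x1 @x6 @x7) (@Prod.mk.{ku0, ku1} @x0 @x1 @x8 @x9))) @(fun (x11 : @Not (@Eq.{(ku1+1)} @x1 @x7 @x9)) => @Decidable.isFalse (@Eq.{(max (ku1+1) (ku0+1))} (@Prod.{ku0, ku1} @x0 @x1) (@Prod.mk.{ku0, ku1} @x0 @x1 @x6 @x7) (@Prod.mk.{ku0, ku1} @x0 @x1 @x8 @x9)) (@instDecidableEqProd._proof_2.{ku1, ku0} @x0 @x1 @x6 @x7 @x8 @x9 @x11)) @(fun (x11 : @Eq.{(ku1+1)} @x1 @x7 @x9) => @Decidable.isTrue (@Eq.{(max (ku1+1) (ku0+1))} (@Prod.{ku0, ku1} @x0 @x1) (@Prod.mk.{ku0, ku1} @x0 @x1 @x6 @x7) (@Prod.mk.{ku0, ku1} @x0 @x1 @x8 @x9)) (@instDecidableEqProd._proof_1.{ku1, ku0} @x0 @x1 @x6 @x7 @x8 @x9 @x10 @x11)) (@x3 @x7 @x9)) (@x2 @x6 @x8)) @x5) @x4)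
private theorem _root_.Cfsg.Agent.KOd892c33.e13.{ku0, ku1} : @instDecidableEqProd.{ku0, ku1} = @_root_.Cfsg.Agent.KOd892c33.k13.{ku0, ku1} := by delta _root_.Cfsg.Agent.KOd892c33.k13; rfl'
private noncomputable def _root_.Cfsg.Agent.KOd892c33.k14 : @DecidableEq.{1} @Nat := @Cfsg.Agent.KOd892c33.k6
private theorem _root_.Cfsg.Agent.KOd892c33.e14 : @instDecidableEqNat = @_root_.Cfsg.Agent.KOd892c33.k14 := by delta _root_.Cfsg.Agent.KOd892c33.k14; rewrite [← Cfsg.Agent.KOd892c33.e6]; rfl'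
private noncomputable def _root_.Cfsg.Agent.KOd892c33.k16.{ku0} : ((x0 : Sort (ku0+1)) → ((@DecidableEq.{(ku0+1)} @x0) → ((x2 : @List.{ku0} @x0) → ((x3 : @List.{ku0} @x0) → @Decidable (@Eq.{(ku0+1)} (@List.{ku0} @x0) @x2 @x3))))) := @(fun (x0 : Sort (ku0+1)) (x1 : @DecidableEq.{(ku0+1)} @x0) (x2 : @List.{ku0} @x0) (x3 : @List.{ku0} @x0) => @List.rec.{(ku0+1), ku0} @x0 @(fun (x4 : @List.{ku0} @x0) => ((x5 : @List.{ku0} @x0) → @Decidable (@Eq.{(ku0+1)} (@List.{ku0} @x0) @x4 @x5))) @(fun (x4 : @List.{ku0} @x0) => @List.rec.{1, ku0} @x0 @(fun (x5 : @List.{ku0} @x0) => @Decidable (@Eq.{(ku0+1)} (@List.{ku0} @x0) (@List.nil.{ku0} @x0) @x5)) (@Decidable.isTrue (@Eq.{(ku0+1)} (@List.{ku0} @x0) (@List.nil.{ku0} @x0) (@List.nil.{ku0} @x0)) (@List.hasDecEq._proof_1.{ku0} @x0)) @(fun (x5 : x0) (x6 : @List.{ku0} @x0) (x7 : @Decidable (@Eq.{(ku0+1)} (@List.{ku0} @x0) (@List.nil.{ku0} @x0) @x6)) => @Decidable.isFalse (@Eq.{(ku0+1)} (@List.{ku0}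 @x0) (@List.nil.{ku0} @x0) (@List.cons.{ku0} @x0 @x5 @x6)) (@List.hasDecEq._proof_3.{ku0} @x0 @x5 @x6)) @x4) @(fun (x4 : x0) (x5 : @List.{ku0} @x0) (x6 : ((x6 : @List.{ku0} @x0) → @Decidable (@Eq.{(ku0+1)} (@List.{ku0} @x0) @x5 @x6))) (x7 : @List.{ku0} @x0) => @List.rec.{1, ku0} @x0 @(fun (x8 : @List.{ku0} @x0) => @Decidable (@Eq.{(ku0+1)} (@List.{ku0} @x0) (@List.cons.{ku0} @x0 @x4 @x5) @x8)) (@Decidable.isFalse (@Eq.{(ku0+1)} (@List.{ku0} @x0) (@List.cons.{ku0} @x0 @x4 @x5) (@List.nil.{ku0} @x0)) (@List.hasDecEq._proof_2.{ku0} @x0 @x4 @x5)) @(fun (x8 : x0) (x9 : @List.{ku0} @x0) (x10 : @Decidable (@Eq.{(ku0+1)} (@List.{ku0} @x0) (@List.cons.{ku0} @x0 @x4 @x5) @x9)) => @Decidable.rec.{1} (@Eq.{(ku0+1)} @x0 @x4 @x8) @(fun (x11 : @Decidable (@Eq.{(ku0+1)} @x0 @x4 @x8)) => @Decidable (@Eq.{(ku0+1)} (@List.{ku0} @x0) (@List.cons.{ku0} @x0 @x4 @x5) (@List.cons.{ku0} @x0 @x8 @x9))) @(fun (x11 : @Not (@Eq.{(ku0+1)} @x0 @x4 @x8)) =>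 @Decidable.isFalse (@Eq.{(ku0+1)} (@List.{ku0} @x0) (@List.cons.{ku0} @x0 @x4 @x5) (@List.cons.{ku0} @x0 @x8 @x9)) (@List.hasDecEq._proof_6.{ku0} @x0 @x4 @x5 @x8 @x9 @x11)) @(fun (x11 : @Eq.{(ku0+1)} @x0 @x4 @x8) => @Decidable.rec.{1} (@Eq.{(ku0+1)} (@List.{ku0} @x0) @x5 @x9) @(fun (x12 : @Decidable (@Eq.{(ku0+1)} (@List.{ku0} @x0) @x5 @x9)) => @Decidable (@Eq.{(ku0+1)} (@List.{ku0} @x0) (@List.cons.{ku0} @x0 @x4 @x5) (@List.cons.{ku0} @x0 @x8 @x9))) @(fun (x12 : @Not (@Eq.{(ku0+1)} (@List.{ku0} @x0) @x5 @x9)) => @Decidable.isFalse (@Eq.{(ku0+1)} (@List.{ku0} @x0) (@List.cons.{ku0} @x0 @x4 @x5) (@List.cons.{ku0} @x0 @x8 @x9)) (@List.hasDecEq._proof_5.{ku0} @x0 @x4 @x5 @x8 @x9 @x12)) @(fun (x12 : @Eq.{(ku0+1)} (@List.{ku0} @x0) @x5 @x9) => @Decidable.isTrue (@Eq.{(ku0+1)} (@List.{ku0} @x0) (@List.cons.{ku0} @x0 @x4 @x5) (@List.cons.{ku0} @x0 @x8 @x9)) (@List.hasDecEq._proof_4.{ku0} @x0 @x4 @x5 @x8 @x9 @x11 @x12)) (@x6 @x9)) (@x1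 @x4 @x8)) @x7) @x2 @x3)
private theorem _root_.Cfsg.Agent.KOd892c33.e16.{ku0} : @List.hasDecEq.{ku0} = @_root_.Cfsg.Agent.KOd892c33.k16.{ku0} := by delta _root_.Cfsg.Agent.KOd892c33.k16; funext a0 a1 a2 a3; refine (congrFun (_root_.Cfsg.Agent.KOd892c33.e0 (fun a2 a3 => @List.hasDecEq.{ku0} a0 a1 a2 a3) ?_ (fun c0 c1 => ?_) a2) a3 :) <;> [(funext b0; (cases b0 with | @nil  => (rfl') | @cons b0_0 b0_1 => (rfl'))); (funext b0; (cases b0 with | @nil  => (rfl') | @cons b0_0 b0_1 => (rfl')))]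
private noncomputable def _root_.Cfsg.Agent.KOd892c33.k17.{ku0} : ((x0 : Sort (ku0+1)) → ((@DecidableEq.{(ku0+1)} @x0) → @DecidableEq.{(ku0+1)} (@List.{ku0} @x0))) := @(fun (x0 : Sort (ku0+1)) (x1 : @DecidableEq.{(ku0+1)} @x0) (x2 : @List.{ku0} @x0) (x3 : @List.{ku0} @x0) => @List.rec.{1, ku0} @x0 @(fun (x4 : @List.{ku0} @x0) => @Decidable (@Eq.{(ku0+1)} (@List.{ku0} @x0) @x4 @x3)) (@List.rec.{1, ku0} @x0 @(fun (x4 : @List.{ku0} @x0) => @Decidable (@Eq.{(ku0+1)} (@List.{ku0} @x0) (@List.nil.{ku0} @x0) @x4)) (@Decidable.isTrue (@Eq.{(ku0+1)} (@List.{ku0} @x0) (@List.nil.{ku0} @x0) (@List.nil.{ku0} @x0)) (@List.hasDecEq._proof_1.{ku0} @x0)) @(fun (x4 : x0) (x5 : @List.{ku0} @x0) (x6 : @Decidable (@Eq.{(ku0+1)} (@List.{ku0} @x0) (@List.nil.{ku0} @x0) @x5)) => @Decidable.isFalse (@Eq.{(ku0+1)} (@List.{ku0} @x0) (@List.nil.{ku0} @x0) (@List.cons.{ku0} @x0 @x4 @x5)) (@List.hasDecEq._proof_3.{ku0} @x0 @x4 @x5)) @x3) @(fun (x4 : x0)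 (x5 : @List.{ku0} @x0) (x6 : @Decidable (@Eq.{(ku0+1)} (@List.{ku0} @x0) @x5 @x3)) => @List.rec.{1, ku0} @x0 @(fun (x7 : @List.{ku0} @x0) => @Decidable (@Eq.{(ku0+1)} (@List.{ku0} @x0) (@List.cons.{ku0} @x0 @x4 @x5) @x7)) (@Decidable.isFalse (@Eq.{(ku0+1)} (@List.{ku0} @x0) (@List.cons.{ku0} @x0 @x4 @x5) (@List.nil.{ku0} @x0)) (@List.hasDecEq._proof_2.{ku0} @x0 @x4 @x5)) @(fun (x7 : x0) (x8 : @List.{ku0} @x0) (x9 : @Decidable (@Eq.{(ku0+1)} (@List.{ku0} @x0) (@List.cons.{ku0} @x0 @x4 @x5) @x8)) => @Decidable.rec.{1} (@Eq.{(ku0+1)} @x0 @x4 @x7) @(fun (x10 : @Decidable (@Eq.{(ku0+1)} @x0 @x4 @x7)) => @Decidable (@Eq.{(ku0+1)} (@List.{ku0} @x0) (@List.cons.{ku0} @x0 @x4 @x5) (@List.cons.{ku0} @x0 @x7 @x8))) @(fun (x10 : @Not (@Eq.{(ku0+1)} @x0 @x4 @x7)) => @Decidable.isFalse (@Eq.{(ku0+1)} (@List.{ku0} @x0) (@List.cons.{ku0} @x0 @x4 @x5) (@List.cons.{ku0} @x0 @x7 @x8)) (@List.hasDecEq._proof_6.{ku0} @x0 @x4 @x5 @x7 @x8 @x10)) @(fun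 (x10 : @Eq.{(ku0+1)} @x0 @x4 @x7) => @Decidable.rec.{1} (@Eq.{(ku0+1)} (@List.{ku0} @x0) @x5 @x8) @(fun (x11 : @Decidable (@Eq.{(ku0+1)} (@List.{ku0} @x0) @x5 @x8)) => @Decidable (@Eq.{(ku0+1)} (@List.{ku0} @x0) (@List.cons.{ku0} @x0 @x4 @x5) (@List.cons.{ku0} @x0 @x7 @x8))) @(fun (x11 : @Not (@Eq.{(ku0+1)} (@List.{ku0} @x0) @x5 @x8)) => @Decidable.isFalse (@Eq.{(ku0+1)} (@List.{ku0} @x0) (@List.cons.{ku0} @x0 @x4 @x5) (@List.cons.{ku0} @x0 @x7 @x8)) (@List.hasDecEq._proof_5.{ku0} @x0 @x4 @x5 @x7 @x8 @x11)) @(fun (x11 : @Eq.{(ku0+1)} (@List.{ku0} @x0) @x5 @x8) => @Decidable.isTrue (@Eq.{(ku0+1)} (@List.{ku0} @x0) (@List.cons.{ku0} @x0 @x4 @x5) (@List.cons.{ku0} @x0 @x7 @x8)) (@List.hasDecEq._proof_4.{ku0} @x0 @x4 @x5 @x7 @x8 @x10 @x11)) (@Cfsg.Agent.KOd892c33.k16.{ku0} @x0 @x1 @x5 @x8)) (@x1 @x4 @x7)) @x3) @x2)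
private theorem _root_.Cfsg.Agent.KOd892c33.e17.{ku0} : @instDecidableEqList.{ku0} = @_root_.Cfsg.Agent.KOd892c33.k17.{ku0} := by delta _root_.Cfsg.Agent.KOd892c33.k17; rewrite [← Cfsg.Agent.KOd892c33.e16.{ku0}]; rfl'
private noncomputable def _root_.Cfsg.Agent.KOd892c33.oEq.{ku} (α : Sort ku) (a b : Nat) (f t : α) : α := @Decidable.rec (a = b) (fun _ => α) (fun _ => f) (fun _ => t) (Nat.decEq a b)
private noncomputable def _root_.Cfsg.Agent.KOd892c33.k18.{ku} (α : Sort ku) (a b : Nat) (f t : α) : α := @Bool.rec (fun _ => α) f t (Nat.beq a b)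
private theorem _root_.Cfsg.Agent.KOd892c33.e18.{ku} : @_root_.Cfsg.Agent.KOd892c33.oEq.{ku} = @_root_.Cfsg.Agent.KOd892c33.k18.{ku} := funext fun α => funext fun a => funext fun b => funext fun f => funext fun t => by delta _root_.Cfsg.Agent.KOd892c33.oEq _root_.Cfsg.Agent.KOd892c33.k18; cases h : Nat.beq a b <;> cases Nat.decEq a b <;> rename_i g <;> first | rfl | exact absurd g (Nat.ne_of_beq_eq_false h) | exact absurd (Nat.eq_of_beq_eq_true h) g
private theorem _root_.Cfsg.Agent.KOd892c33.e19.{ku} {M : Nat → Sort ku} (φ : ∀ n, M n) {z : M Nat.zero} {s : ∀ n, M n → M (Nat.succ n)} (h0 : φ Nat.zero = z) (hs : ∀ n, φ (Nat.succ n) = s n (φ n)) (n : Nat) : φ n = @Nat.rec M z s n := Nat.rec h0 (fun n ih => (hs n).trans (congrArg (s n) ih)) n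
private noncomputable def _root_.Cfsg.Agent.KOd892c33.oB.{ku} (α : Sort ku) (c : Bool) (f t : α) : α := @Decidable.rec (c = true) (fun _ => α) (fun _ => f) (fun _ => t) (instDecidableEqBool c true)
private noncomputable def _root_.Cfsg.Agent.KOd892c33.k20.{ku} (α : Sort ku) (c : Bool) (f t : α) : α := @Bool.rec (fun _ => α) f t c
private theorem _root_.Cfsg.Agent.KOd892c33.e20.{ku} : @_root_.Cfsg.Agent.KOd892c33.oB.{ku} = @_root_.Cfsg.Agent.KOd892c33.k20.{ku} := funext fun α => funext fun c => funext fun f => funext fun t => by cases c <;> rfl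
private noncomputable def _root_.Cfsg.Agent.KOd892c33.k21 : (by first | exact type_of% @Cfsg.Agent.Bimonster.Tits.head | exact Unit : Sort _) := by first | (refine @Subtype.val _ (fun g => @Cfsg.Agent.Bimonster.Tits.head = @g) (@Subtype.mk _ _ (@(fun (x0 : @Cfsg.Agent.Bimonster.Tits.Rules) (x1 : @Nat) (x2 : @List.{0} @Nat) => @Decidable.rec.{1} (@Eq.{1} @Nat @x1 (@OfNat.ofNat.{0} @Nat (nat_lit 0) (@instOfNatNat (nat_lit 0)))) @(fun (x3 : @Decidable (@Eq.{1} @Nat @x1 (@OfNat.ofNat.{0} @Nat (nat_lit 0) (@instOfNatNat (nat_lit 0))))) => @Option.{0} (@List.{0} @Nat)) @(fun (x3 : @Not (@Eq.{1} @Nat @x1 (@OfNat.ofNat.{0} @Nat (nat_lit 0) (@instOfNatNat (nat_lit 0))))) => @Decidable.rec.{1} (@Eq.{1} @Nat @x1 (@OfNat.ofNat.{0} @Nat (nat_lit 1) (@instOfNatNat (nat_lit 1)))) @(fun (x4 : @Decidable (@Eq.{1} @Nat @x1 (@OfNat.ofNat.{0} @Nat (nat_lit 1) (@instOfNatNat (nat_lit 1))))) => @Option.{0} (@List.{0} @Nat)) @(fun (x4 : @Not (@Eq.{1}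 @Nat @x1 (@OfNat.ofNat.{0} @Nat (nat_lit 1) (@instOfNatNat (nat_lit 1))))) => @Decidable.rec.{1} (@Eq.{1} @Nat @x1 (@OfNat.ofNat.{0} @Nat (nat_lit 2) (@instOfNatNat (nat_lit 2)))) @(fun (x5 : @Decidable (@Eq.{1} @Nat @x1 (@OfNat.ofNat.{0} @Nat (nat_lit 2) (@instOfNatNat (nat_lit 2))))) => @Option.{0} (@List.{0} @Nat)) @(fun (x5 : @Not (@Eq.{1} @Nat @x1 (@OfNat.ofNat.{0} @Nat (nat_lit 2) (@instOfNatNat (nat_lit 2))))) => @Option.none.{0} (@List.{0} @Nat)) @(fun (x5 : @Eq.{1} @Nat @x1 (@OfNat.ofNat.{0} @Nat (nat_lit 2) (@instOfNatNat (nat_lit 2)))) => @Eq.rec.{1, 1} @Nat (nat_lit 2) @(fun (x6 : @Nat) (x7 : @Eq.{1} @Nat (@OfNat.ofNat.{0} @Nat (nat_lit 2) (@instOfNatNat (nat_lit 2))) @x6) => @Option.{0} (@List.{0} @Nat)) (@List.rec.{1, 0} @Nat @(fun (x6 : @List.{0} @Nat) => (((@Nat.hasNotBit (nat_lit 2) (@List.ctorIdx.{0} @Nat @x6)) → @Option.{0} (@List.{0} @Nat)) → @Option.{0} (@List.{0} @Nat))) @(fun (x6 : ((@Nat.hasNotBit (nat_lit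 2) (@List.ctorIdx.{0} @Nat (@List.nil.{0} @Nat))) → @Option.{0} (@List.{0} @Nat))) => @x6 (@Nat.ne_of_beq_eq_false (@Nat.land (@OfNat.ofNat.{0} @Nat (nat_lit 1) (@instOfNatNat (nat_lit 1))) (@Nat.shiftRight (nat_lit 2) (nat_lit 0))) (@OfNat.ofNat.{0} @Nat (nat_lit 1) (@instOfNatNat (nat_lit 1))) (@Eq.refl.{1} @Bool @Bool.false))) @(fun (x6 : @Nat) (x7 : @List.{0} @Nat) (x8 : (((@Nat.hasNotBit (nat_lit 2) (@List.ctorIdx.{0} @Nat @x7)) → @Option.{0} (@List.{0} @Nat)) → @Option.{0} (@List.{0} @Nat))) (x9 : ((@Nat.hasNotBit (nat_lit 2) (@List.ctorIdx.{0} @Nat (@List.cons.{0} @Nat @x6 @x7))) → @Option.{0} (@List.{0} @Nat))) => @List.rec.{1, 0} @Nat @(fun (x10 : @List.{0} @Nat) => (((@Nat.hasNotBit (nat_lit 2) (@List.ctorIdx.{0} @Nat @x10)) → @Option.{0} (@List.{0} @Nat)) → @Option.{0} (@List.{0} @Nat))) @(fun (x10 : ((@Nat.hasNotBit (nat_lit 2) (@List.ctorIdx.{0} @Nat (@List.nil.{0} @Nat))) → @Option.{0} (@List.{0} @Nat))) => @x10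 (@Nat.ne_of_beq_eq_false (@Nat.land (@OfNat.ofNat.{0} @Nat (nat_lit 1) (@instOfNatNat (nat_lit 1))) (@Nat.shiftRight (nat_lit 2) (nat_lit 0))) (@OfNat.ofNat.{0} @Nat (nat_lit 1) (@instOfNatNat (nat_lit 1))) (@Eq.refl.{1} @Bool @Bool.false))) @(fun (x10 : @Nat) (x11 : @List.{0} @Nat) (x12 : (((@Nat.hasNotBit (nat_lit 2) (@List.ctorIdx.{0} @Nat @x11)) → @Option.{0} (@List.{0} @Nat)) → @Option.{0} (@List.{0} @Nat))) (x13 : ((@Nat.hasNotBit (nat_lit 2) (@List.ctorIdx.{0} @Nat (@List.cons.{0} @Nat @x10 @x11))) → @Option.{0} (@List.{0} @Nat))) => @List.rec.{1, 0} @Nat @(fun (x14 : @List.{0} @Nat) => (((@Nat.hasNotBit (nat_lit 2) (@List.ctorIdx.{0} @Nat @x14)) → @Option.{0} (@List.{0} @Nat)) → @Option.{0} (@List.{0} @Nat))) @(fun (x14 : ((@Nat.hasNotBit (nat_lit 2) (@List.ctorIdx.{0} @Nat (@List.nil.{0} @Nat))) → @Option.{0} (@List.{0} @Nat))) => @x14 (@Nat.ne_of_beq_eq_false (@Nat.land (@OfNat.ofNat.{0} @Nat (nat_lit 1) (@instOfNatNat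 (nat_lit 1))) (@Nat.shiftRight (nat_lit 2) (nat_lit 0))) (@OfNat.ofNat.{0} @Nat (nat_lit 1) (@instOfNatNat (nat_lit 1))) (@Eq.refl.{1} @Bool @Bool.false))) @(fun (x14 : @Nat) (x15 : @List.{0} @Nat) (x16 : (((@Nat.hasNotBit (nat_lit 2) (@List.ctorIdx.{0} @Nat @x15)) → @Option.{0} (@List.{0} @Nat)) → @Option.{0} (@List.{0} @Nat))) (x17 : ((@Nat.hasNotBit (nat_lit 2) (@List.ctorIdx.{0} @Nat (@List.cons.{0} @Nat @x14 @x15))) → @Option.{0} (@List.{0} @Nat))) => @Cfsg.Agent.KOd892c33.k20.{1} (@Option.{0} (@List.{0} @Nat)) (@Bool.rec.{1} @(fun (x18 : @Bool) => @Bool) @Bool.false (@Cfsg.Agent.Bimonster.Tits.Rules.br @x0 @x6 @x10) (@Nat.beq @x6 @x14)) (@Option.none.{0} (@List.{0} @Nat)) (@Option.some.{0} (@List.{0} @Nat) (@List.cons.{0} @Nat @x10 (@List.cons.{0} @Nat @x6 (@List.cons.{0} @Nat @x10 @x15))))) @x11 @(fun (x14 : @Nat.hasNotBit (nat_lit 2) (@List.ctorIdx.{0} @Nat @x11)) => @Option.none.{0} (@List.{0} @Nat))) @x7 @(fun (x10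 : @Nat.hasNotBit (nat_lit 2) (@List.ctorIdx.{0} @Nat @x7)) => @Option.none.{0} (@List.{0} @Nat))) @x2 @(fun (x6 : @Nat.hasNotBit (nat_lit 2) (@List.ctorIdx.{0} @Nat @x2)) => @Option.none.{0} (@List.{0} @Nat))) @x1 (@Eq.symm.{1} @Nat @x1 (@OfNat.ofNat.{0} @Nat (nat_lit 2) (@instOfNatNat (nat_lit 2))) @x5)) (@Cfsg.Agent.KOd892c33.k6 @x1 (nat_lit 2))) @(fun (x4 : @Eq.{1} @Nat @x1 (@OfNat.ofNat.{0} @Nat (nat_lit 1) (@instOfNatNat (nat_lit 1)))) => @Eq.rec.{1, 1} @Nat (nat_lit 1) @(fun (x5 : @Nat) (x6 : @Eq.{1} @Nat (@OfNat.ofNat.{0} @Nat (nat_lit 1) (@instOfNatNat (nat_lit 1))) @x5) => @Option.{0} (@List.{0} @Nat)) (@List.rec.{1, 0} @Nat @(fun (x5 : @List.{0} @Nat) => (((@Nat.hasNotBit (nat_lit 2) (@List.ctorIdx.{0} @Nat @x5)) → @Option.{0} (@List.{0} @Nat)) → @Option.{0} (@List.{0} @Nat))) @(fun (x5 : ((@Nat.hasNotBit (nat_lit 2) (@List.ctorIdx.{0} @Nat (@List.nil.{0} @Nat))) → @Option.{0} (@List.{0} @Nat))) => @x5 (@Nat.ne_of_beq_eq_false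 (@Nat.land (@OfNat.ofNat.{0} @Nat (nat_lit 1) (@instOfNatNat (nat_lit 1))) (@Nat.shiftRight (nat_lit 2) (nat_lit 0))) (@OfNat.ofNat.{0} @Nat (nat_lit 1) (@instOfNatNat (nat_lit 1))) (@Eq.refl.{1} @Bool @Bool.false))) @(fun (x5 : @Nat) (x6 : @List.{0} @Nat) (x7 : (((@Nat.hasNotBit (nat_lit 2) (@List.ctorIdx.{0} @Nat @x6)) → @Option.{0} (@List.{0} @Nat)) → @Option.{0} (@List.{0} @Nat))) (x8 : ((@Nat.hasNotBit (nat_lit 2) (@List.ctorIdx.{0} @Nat (@List.cons.{0} @Nat @x5 @x6))) → @Option.{0} (@List.{0} @Nat))) => @List.rec.{1, 0} @Nat @(fun (x9 : @List.{0} @Nat) => (((@Nat.hasNotBit (nat_lit 2) (@List.ctorIdx.{0} @Nat @x9)) → @Option.{0} (@List.{0} @Nat)) → @Option.{0} (@List.{0} @Nat))) @(fun (x9 : ((@Nat.hasNotBit (nat_lit 2) (@List.ctorIdx.{0} @Nat (@List.nil.{0} @Nat))) → @Option.{0} (@List.{0} @Nat))) => @x9 (@Nat.ne_of_beq_eq_false (@Nat.land (@OfNat.ofNat.{0} @Nat (nat_lit 1) (@instOfNatNat (nat_lit 1))) (@Nat.shiftRight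 (nat_lit 2) (nat_lit 0))) (@OfNat.ofNat.{0} @Nat (nat_lit 1) (@instOfNatNat (nat_lit 1))) (@Eq.refl.{1} @Bool @Bool.false))) @(fun (x9 : @Nat) (x10 : @List.{0} @Nat) (x11 : (((@Nat.hasNotBit (nat_lit 2) (@List.ctorIdx.{0} @Nat @x10)) → @Option.{0} (@List.{0} @Nat)) → @Option.{0} (@List.{0} @Nat))) (x12 : ((@Nat.hasNotBit (nat_lit 2) (@List.ctorIdx.{0} @Nat (@List.cons.{0} @Nat @x9 @x10))) → @Option.{0} (@List.{0} @Nat))) => @Cfsg.Agent.KOd892c33.k20.{1} (@Option.{0} (@List.{0} @Nat)) (@Cfsg.Agent.Bimonster.Tits.Rules.cm @x0 @x5 @x9) (@Option.none.{0} (@List.{0} @Nat)) (@Option.some.{0} (@List.{0} @Nat) (@List.cons.{0} @Nat @x9 (@List.cons.{0} @Nat @x5 @x10)))) @x6 @(fun (x9 : @Nat.hasNotBit (nat_lit 2) (@List.ctorIdx.{0} @Nat @x6)) => @Option.none.{0} (@List.{0} @Nat))) @x2 @(fun (x5 : @Nat.hasNotBit (nat_lit 2) (@List.ctorIdx.{0} @Nat @x2)) => @Option.none.{0} (@List.{0} @Nat))) @x1 (@Eq.symm.{1} @Nat @x1 (@OfNat.ofNat.{0}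 @Nat (nat_lit 1) (@instOfNatNat (nat_lit 1))) @x4)) (@Cfsg.Agent.KOd892c33.k6 @x1 (nat_lit 1))) @(fun (x3 : @Eq.{1} @Nat @x1 (@OfNat.ofNat.{0} @Nat (nat_lit 0) (@instOfNatNat (nat_lit 0)))) => @Eq.rec.{1, 1} @Nat (nat_lit 0) @(fun (x4 : @Nat) (x5 : @Eq.{1} @Nat (@OfNat.ofNat.{0} @Nat (nat_lit 0) (@instOfNatNat (nat_lit 0))) @x4) => @Option.{0} (@List.{0} @Nat)) (@List.rec.{1, 0} @Nat @(fun (x4 : @List.{0} @Nat) => (((@Nat.hasNotBit (nat_lit 2) (@List.ctorIdx.{0} @Nat @x4)) → @Option.{0} (@List.{0} @Nat)) → @Option.{0} (@List.{0} @Nat))) @(fun (x4 : ((@Nat.hasNotBit (nat_lit 2) (@List.ctorIdx.{0} @Nat (@List.nil.{0} @Nat))) → @Option.{0} (@List.{0} @Nat))) => @x4 (@Nat.ne_of_beq_eq_false (@Nat.land (@OfNat.ofNat.{0} @Nat (nat_lit 1) (@instOfNatNat (nat_lit 1))) (@Nat.shiftRight (nat_lit 2) (nat_lit 0))) (@OfNat.ofNat.{0} @Nat (nat_lit 1) (@instOfNatNat (nat_lit 1))) (@Eq.refl.{1} @Bool @Bool.false))) @(fun (x4 : @Nat) (x5 : @List.{0}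 @Nat) (x6 : (((@Nat.hasNotBit (nat_lit 2) (@List.ctorIdx.{0} @Nat @x5)) → @Option.{0} (@List.{0} @Nat)) → @Option.{0} (@List.{0} @Nat))) (x7 : ((@Nat.hasNotBit (nat_lit 2) (@List.ctorIdx.{0} @Nat (@List.cons.{0} @Nat @x4 @x5))) → @Option.{0} (@List.{0} @Nat))) => @List.rec.{1, 0} @Nat @(fun (x8 : @List.{0} @Nat) => (((@Nat.hasNotBit (nat_lit 2) (@List.ctorIdx.{0} @Nat @x8)) → @Option.{0} (@List.{0} @Nat)) → @Option.{0} (@List.{0} @Nat))) @(fun (x8 : ((@Nat.hasNotBit (nat_lit 2) (@List.ctorIdx.{0} @Nat (@List.nil.{0} @Nat))) → @Option.{0} (@List.{0} @Nat))) => @x8 (@Nat.ne_of_beq_eq_false (@Nat.land (@OfNat.ofNat.{0} @Nat (nat_lit 1) (@instOfNatNat (nat_lit 1))) (@Nat.shiftRight (nat_lit 2) (nat_lit 0))) (@OfNat.ofNat.{0} @Nat (nat_lit 1) (@instOfNatNat (nat_lit 1))) (@Eq.refl.{1} @Bool @Bool.false))) @(fun (x8 : @Nat) (x9 : @List.{0} @Nat) (x10 : (((@Nat.hasNotBit (nat_lit 2) (@List.ctorIdx.{0} @Nat @x9)) → @Option.{0} (@List.{0}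 @Nat)) → @Option.{0} (@List.{0} @Nat))) (x11 : ((@Nat.hasNotBit (nat_lit 2) (@List.ctorIdx.{0} @Nat (@List.cons.{0} @Nat @x8 @x9))) → @Option.{0} (@List.{0} @Nat))) => @Cfsg.Agent.KOd892c33.k20.{1} (@Option.{0} (@List.{0} @Nat)) (@Bool.rec.{1} @(fun (x12 : @Bool) => @Bool) @Bool.false (@Cfsg.Agent.Bimonster.Tits.Rules.sq @x0 @x4) (@Nat.beq @x4 @x8)) (@Option.none.{0} (@List.{0} @Nat)) (@Option.some.{0} (@List.{0} @Nat) @x9)) @x5 @(fun (x8 : @Nat.hasNotBit (nat_lit 2) (@List.ctorIdx.{0} @Nat @x5)) => @Option.none.{0} (@List.{0} @Nat))) @x2 @(fun (x4 : @Nat.hasNotBit (nat_lit 2) (@List.ctorIdx.{0} @Nat @x2)) => @Option.none.{0} (@List.{0} @Nat))) @x1 (@Eq.symm.{1} @Nat @x1 (@OfNat.ofNat.{0} @Nat (nat_lit 0) (@instOfNatNat (nat_lit 0))) @x3)) (@Cfsg.Agent.KOd892c33.k6 @x1 (nat_lit 0)))) ?_); rewrite [← Cfsg.Agent.KOd892c33.e6, ← Cfsg.Agent.KOd892c33.e20.{1}]; rfl') | exact @Cfsg.Agent.Bimonster.Tits.head | exact ()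
private theorem _root_.Cfsg.Agent.KOd892c33.e21 : (by first | exact @Cfsg.Agent.Bimonster.Tits.head = @_root_.Cfsg.Agent.KOd892c33.k21 | exact True : Prop) := by first | (delta _root_.Cfsg.Agent.KOd892c33.k21; exact @Subtype.property _ (fun g => @Cfsg.Agent.Bimonster.Tits.head = @g) _) | rfl | trivial
private noncomputable def _root_.Cfsg.Agent.KOd892c33.k23 : (by first | exact type_of% @Cfsg.Agent.Bimonster.Tits.step | exact Unit : Sort _) := by first | (refine @Subtype.val _ (fun g => @Cfsg.Agent.Bimonster.Tits.step = @g) (@Subtype.mk _ _ (@(fun (x0 : @Cfsg.Agent.Bimonster.Tits.Rules) (x1 : @Nat) (x2 : @Nat) (x3 : @List.{0} @Nat) => @Nat.rec.{1} @(fun (x4 : @Nat) => ((@List.{0} @Nat) → @Option.{0} (@List.{0} @Nat))) @(fun (x4 : @List.{0} @Nat) => @Cfsg.Agent.KOd892c33.k21 @x0 @x1 @x4) @(fun (x4 : @Nat) (x5 : ((@List.{0} @Nat) → @Option.{0} (@List.{0} @Nat))) (x6 : @List.{0} @Nat) => @List.rec.{1, 0} @Nat @(fun (x7 : @List.{0}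 @Nat) => @Option.{0} (@List.{0} @Nat)) (@Option.none.{0} (@List.{0} @Nat)) @(fun (x7 : @Nat) (x8 : @List.{0} @Nat) (x9 : @Option.{0} (@List.{0} @Nat)) => @Option.rec.{1, 0} (@List.{0} @Nat) @(fun (x10 : @Option.{0} (@List.{0} @Nat)) => @Option.{0} (@List.{0} @Nat)) (@Option.none.{0} (@List.{0} @Nat)) @(fun (x10 : @List.{0} @Nat) => @Option.some.{0} (@List.{0} @Nat) (@List.cons.{0} @Nat @x7 @x10)) (@x5 @x8)) @x6) @x2 @x3)) ?_); rewrite [← Cfsg.Agent.KOd892c33.e21]; funext a0 a1 a2 a3; refine (congrFun (_root_.Cfsg.Agent.KOd892c33.e19 (fun a2 a3 => @Cfsg.Agent.Bimonster.Tits.step a0 a1 a2 a3) ?_ (fun c0 => ?_) a2) a3 :) <;> [(funext b0; ((try delta Cfsg.Agent.Bimonster.Tits.step Cfsg.Agent.Bimonster.Tits.step._f); (try generalize @Cfsg.Agent.Bimonster.Tits.head = g0); rfl')); (funext b0; (cases b0 with | @nil  => ((try delta Cfsg.Agent.Bimonster.Tits.step Cfsg.Agent.Bimonster.Tits.step._f); (try generalize @Cfsg.Agent.Bimonster.Tits.head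 = g0); rfl') | @cons b0_0 b0_1 => ((try delta Cfsg.Agent.Bimonster.Tits.step Cfsg.Agent.Bimonster.Tits.step._f); (try generalize @Cfsg.Agent.Bimonster.Tits.head = g0); rfl')))]) | exact @Cfsg.Agent.Bimonster.Tits.step | exact ()
private theorem _root_.Cfsg.Agent.KOd892c33.e23 : (by first | exact @Cfsg.Agent.Bimonster.Tits.step = @_root_.Cfsg.Agent.KOd892c33.k23 | exact True : Prop) := by first | (delta _root_.Cfsg.Agent.KOd892c33.k23; exact @Subtype.property _ (fun g => @Cfsg.Agent.Bimonster.Tits.step = @g) _) | rfl | trivial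
private noncomputable def _root_.Cfsg.Agent.KOd892c33.k24 : (by first | exact type_of% @Cfsg.Agent.Bimonster.Tits.run | exact Unit : Sort _) := by first | (refine @Subtype.val _ (fun g => @Cfsg.Agent.Bimonster.Tits.run = @g) (@Subtype.mk _ _ (@(fun (x0 : @Cfsg.Agent.Bimonster.Tits.Rules) (x1 : @List.{0} @Nat) (x2 : @Nat) (x3 : @List.{0} @Nat) => @List.rec.{1, 0} @Nat @(fun (x4 : @List.{0} @Nat) => (@Nat → ((@List.{0} @Nat) → @Option.{0} (@Prod.{0, 0} @Nat (@List.{0} @Nat))))) @(fun (x4 : @Nat) (x5 : @List.{0} @Nat) => @Option.some.{0} (@Prod.{0, 0} @Nat (@List.{0} @Nat)) (@Prod.mk.{0, 0} @Nat (@List.{0} @Nat) @x4 @x5)) @(fun (x4 : @Nat) (x5 : @List.{0} @Nat) (x6 : (@Nat → ((@List.{0} @Nat) → @Option.{0} (@Prod.{0, 0} @Nat (@List.{0} @Nat))))) (x7 : @Nat) (x8 : @List.{0} @Nat) => @Option.rec.{1, 0} (@List.{0} @Nat) @(fun (x9 : @Option.{0} (@List.{0} @Nat)) => @Option.{0} (@Prod.{0, 0} @Nat (@List.{0} @Nat))) (@Option.none.{0}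 (@Prod.{0, 0} @Nat (@List.{0} @Nat))) @(fun (x9 : @List.{0} @Nat) => @x6 (@Cfsg.Agent.KOd892c33.k18.{1} @Nat (@Nat.mod @x4 (nat_lit 3)) (nat_lit 0) @x7 (@Nat.add @x7 (nat_lit 1))) @x9) (@Cfsg.Agent.KOd892c33.k23 @x0 (@Nat.mod @x4 (nat_lit 3)) (@Nat.div @x4 (nat_lit 3)) @x8)) @x1 @x2 @x3)) ?_); rewrite [← Cfsg.Agent.KOd892c33.e23, ← Cfsg.Agent.KOd892c33.e18.{1}]; funext a0 a1 a2 a3; refine (congrFun (congrFun (_root_.Cfsg.Agent.KOd892c33.e0 (fun a1 a2 a3 => @Cfsg.Agent.Bimonster.Tits.run a0 a1 a2 a3) ?_ (fun c0 c1 => ?_) a1) a2) a3 :) <;> ((try delta Cfsg.Agent.Bimonster.Tits.run Cfsg.Agent.Bimonster.Tits.run._f); (try generalize @Cfsg.Agent.Bimonster.Tits.step = g0); rfl')) | exact @Cfsg.Agent.Bimonster.Tits.run | exact ()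
private theorem _root_.Cfsg.Agent.KOd892c33.e24 : (by first | exact @Cfsg.Agent.Bimonster.Tits.run = @_root_.Cfsg.Agent.KOd892c33.k24 | exact True : Prop) := by first | (delta _root_.Cfsg.Agent.KOd892c33.k24; exact @Subtype.property _ (fun g => @Cfsg.Agent.Bimonster.Tits.run = @g) _) | rfl | trivial
private noncomputable def _root_.Cfsg.Agent.KOd892c33.k25 : (by first | exact type_of% @Cfsg.Agent.KFacts.MulY.Tree.rulesS | exact Unit : Sort _) := by first | (refine @Subtype.val _ (fun g => @Cfsg.Agent.KFacts.MulY.Tree.rulesS = @g) (@Subtype.mk _ _ (@(fun (x0 : (@Nat → @Bool)) => @Cfsg.Agent.Bimonster.Tits.Rules.mk @(fun (x1 : @Nat) => @x0 @x1) @(fun (x1 : @Nat) (x2 : @Nat) => @Bool.rec.{1} @(fun (x3 : @Bool) => @Bool) @Bool.false (@Bool.rec.{1} @(fun (x3 : @Bool) => @Bool) @Bool.true @Bool.false (@Cfsg.Agent.KOd892c33.k9 @x1 @x2)) (@Bool.rec.{1} @(fun (x3 : @Bool) => @Bool) @Bool.false (@x0 @x2) (@x0 @x1))) @(fun (x1 : @Nat)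 (x2 : @Nat) => @Bool.rec.{1} @(fun (x3 : @Bool) => @Bool) @Bool.false (@Cfsg.Agent.KOd892c33.k9 @x1 @x2) (@Bool.rec.{1} @(fun (x3 : @Bool) => @Bool) @Bool.false (@x0 @x2) (@x0 @x1))))) ?_); rewrite [← Cfsg.Agent.KOd892c33.e9]; (try delta Cfsg.Agent.KFacts.MulY.Tree.rulesS); (try generalize @Cfsg.Agent.Bimonster.adjB = g0); rfl') | exact @Cfsg.Agent.KFacts.MulY.Tree.rulesS | exact ()
private theorem _root_.Cfsg.Agent.KOd892c33.e25 : (by first | exact @Cfsg.Agent.KFacts.MulY.Tree.rulesS = @_root_.Cfsg.Agent.KOd892c33.k25 | exact True : Prop) := by first | (delta _root_.Cfsg.Agent.KOd892c33.k25; exact @Subtype.property _ (fun g => @Cfsg.Agent.KFacts.MulY.Tree.rulesS = @g) _) | rfl | trivial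
private noncomputable def _root_.Cfsg.Agent.KOd892c33.k26.{ku0} : ((x0 : Sort (ku0+1)) → ((@BEq.{ku0} @x0) → (x0 → ((@List.{ku0} @x0) → @Bool)))) := @(fun (x0 : Sort (ku0+1)) (x1 : @BEq.{ku0} @x0) (x2 : x0) (x3 : @List.{ku0} @x0) => @List.rec.{1, ku0} @x0 @(fun (x4 : @List.{ku0} @x0) => @Bool) @Bool.false @(fun (x4 : x0) (x5 : @List.{ku0} @x0) (x6 : @Bool) => @Bool.rec.{1} @(fun (x7 : @Bool) => @Bool) @x6 @Bool.true (@BEq.beq.{ku0} @x0 @x1 @x2 @x4)) @x3)
private theorem _root_.Cfsg.Agent.KOd892c33.e26.{ku0} : @List.elem.{ku0} = @_root_.Cfsg.Agent.KOd892c33.k26.{ku0} := by delta _root_.Cfsg.Agent.KOd892c33.k26; funext a0 a1 a2 a3; refine (_root_.Cfsg.Agent.KOd892c33.e0 (fun a3 => @List.elem.{ku0} a0 a1 a2 a3) ?_ (fun c0 c1 => ?_) a3 :) <;> (rfl')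
private noncomputable def _root_.Cfsg.Agent.KOd892c33.k27 : (by first | exact type_of% @Cfsg.Agent.H53.Baby.SB | exact Unit : Sort _) := by first | (refine @Subtype.val _ (fun g => @Cfsg.Agent.H53.Baby.SB = @g) (@Subtype.mk _ _ (@(fun (x0 : @Nat) => @Cfsg.Agent.KOd892c33.k26.{0} @Nat (@BEq.mk.{0} @Nat @(fun (x1 : @Nat) (x2 : @Nat) => @Cfsg.Agent.KOd892c33.k18.{1} @Bool @x1 @x2 @Bool.false @Bool.true)) @x0 (@List.cons.{0} @Nat (nat_lit 0) (@List.cons.{0} @Nat (nat_lit 1) (@List.cons.{0} @Nat (nat_lit 2) (@List.cons.{0} @Nat (nat_lit 3) (@List.cons.{0} @Nat (nat_lit 4) (@List.cons.{0} @Nat (nat_lit 6) (@List.cons.{0} @Nat (nat_lit 7) (@List.cons.{0} @Nat (nat_lit 8) (@List.cons.{0} @Nat (nat_lit 11) (@List.cons.{0} @Nat (nat_lit 12) (@List.cons.{0} @Nat (nat_lit 13) (@List.nil.{0} @Nat)))))))))))))) ?_); rewrite [← Cfsg.Agent.KOd892c33.e18.{1}, ← Cfsg.Agent.KOd892c33.e26.{0}]; rfl') | exact @Cfsg.Agent.H53.Baby.SB | exact ()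
private theorem _root_.Cfsg.Agent.KOd892c33.e27 : (by first | exact @Cfsg.Agent.H53.Baby.SB = @_root_.Cfsg.Agent.KOd892c33.k27 | exact True : Prop) := by first | (delta _root_.Cfsg.Agent.KOd892c33.k27; exact @Subtype.property _ (fun g => @Cfsg.Agent.H53.Baby.SB = @g) _) | rfl | trivial
private noncomputable def _root_.Cfsg.Agent.KOd892c33.k28.{ku0} : ((x0 : Sort (ku0+1)) → ((@List.{ku0} @x0) → ((@List.{ku0} @x0) → @List.{ku0} @x0))) := @(fun (x0 : Sort (ku0+1)) (x1 : @List.{ku0} @x0) (x2 : @List.{ku0} @x0) => @List.rec.{(ku0+1), ku0} @x0 @(fun (x3 : @List.{ku0} @x0) => ((@List.{ku0} @x0) → @List.{ku0} @x0)) @(fun (x3 : @List.{ku0} @x0) => x3) @(fun (x3 : x0) (x4 : @List.{ku0} @x0) (x5 : ((@List.{ku0} @x0) → @List.{ku0} @x0)) (x6 : @List.{ku0} @x0) => @List.cons.{ku0} @x0 @x3 (@x5 @x6)) @x1 @x2)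
private theorem _root_.Cfsg.Agent.KOd892c33.e28.{ku0} : @List.append.{ku0} = @_root_.Cfsg.Agent.KOd892c33.k28.{ku0} := by delta _root_.Cfsg.Agent.KOd892c33.k28; funext a0 a1 a2; refine (congrFun (_root_.Cfsg.Agent.KOd892c33.e0 (fun a1 a2 => @List.append.{ku0} a0 a1 a2) ?_ (fun c0 c1 => ?_) a1) a2 :) <;> (rfl')
private noncomputable def _root_.Cfsg.Agent.KOd892c33.k29 : (by first | exact type_of% @Cfsg.Agent.Bimonster.Tits.rep | exact Unit : Sort _) := by first | (refine @Subtype.val _ (fun g => @Cfsg.Agent.Bimonster.Tits.rep = @g) (@Subtype.mk _ _ (@(fun (x0 : @Nat) (x1 : @List.{0} @Nat) => @Nat.rec.{1} @(fun (x2 : @Nat) => ((@List.{0} @Nat) → @List.{0} @Nat)) @(fun (x2 : @List.{0} @Nat) => @List.nil.{0} @Nat) @(fun (x2 : @Nat) (x3 : ((@List.{0} @Nat) → @List.{0} @Nat)) (x4 : @List.{0} @Nat) => @Cfsg.Agent.KOd892c33.k28.{0} @Nat @x4 (@x3 @x4)) @x0 @x1)) ?_); rewrite [← Cfsg.Agent.KOd892c33.e28.{0}]; funext a0 a1; refine (congrFun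 (_root_.Cfsg.Agent.KOd892c33.e19 (fun a0 a1 => @Cfsg.Agent.Bimonster.Tits.rep a0 a1) ?_ (fun c0 => ?_) a0) a1 :) <;> (rfl')) | exact @Cfsg.Agent.Bimonster.Tits.rep | exact ()
private theorem _root_.Cfsg.Agent.KOd892c33.e29 : (by first | exact @Cfsg.Agent.Bimonster.Tits.rep = @_root_.Cfsg.Agent.KOd892c33.k29 | exact True : Prop) := by first | (delta _root_.Cfsg.Agent.KOd892c33.k29; exact @Subtype.property _ (fun g => @Cfsg.Agent.Bimonster.Tits.rep = @g) _) | rfl | trivial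

theorem cA_ok : run (rulesS SB) cA 0 (rep 18 aW) = some (63, []) := by (first | (refine of_decide_eq_true ?_; rewrite [Cfsg.Agent.KOd892c33.e11, Cfsg.Agent.KOd892c33.e12.{0}, Cfsg.Agent.KOd892c33.e13.{0, 0}, Cfsg.Agent.KOd892c33.e14, Cfsg.Agent.KOd892c33.e17.{0}, Cfsg.Agent.KOd892c33.e24, Cfsg.Agent.KOd892c33.e25, Cfsg.Agent.KOd892c33.e27, Cfsg.Agent.KOd892c33.e29]; decide +kernel) | decide +kernel)
theorem cB_ok : run (rulesS SB) cB 0 (rep 18 bW) = some (63, []) := by (first | (refine of_decide_eq_true ?_; rewrite [Cfsg.Agent.KOd892c33.e11, Cfsg.Agent.KOd892c33.e12.{0}, Cfsg.Agent.KOd892c33.e13.{0, 0}, Cfsg.Agent.KOd892c33.e14, Cfsg.Agent.KOd892c33.e17.{0}, Cfsg.Agent.KOd892c33.e24, Cfsg.Agent.KOd892c33.e25, Cfsg.Agent.KOd892c33.e27, Cfsg.Agent.KOd892c33.e29]; decide +kernel) | decide +kernel)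

variable {E : Type u} {P : Type v} [Group E] [Group P] {π : E →* P} {n : ℕ}

theorem mono {S T : ℕ → Bool} {y : ℕ → E} (h : CoxS T y) (hST : ∀ i, S i = true → T i = true) : CoxS S y where
  sq i hi := h.sq i (hST i hi)
  cm i j hi hj := h.cm i j (hST i hi) (hST j hj)
  br i j hi hj := h.br i j (hST i hi) (hST j hj)

theorem S23_le (i : ℕ) (hi : S23 i = true) : SB i = true := by
  have h1 : i ∈ [0, 1, 2, 3, 4, 6, 7, 11, 12, 13] := by
    unfold S23 at hi
    exact List.contains_iff_mem.1 hi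
  have h2 : ([0, 1, 2, 3, 4, 6, 7, 11, 12, 13].all SB) = true := by decide
  exact List.all_eq_true.1 h2 i h1

/-- Lifts of the nodes satisfy the Coxeter relations. -/
theorem coxS {x : BabyMonster.Gen → P} (hx : Rel x) (h : OddExt π n) {Y : BabyMonster.Gen → E}
    (hY : ∀ t, π (Y t) = x t) (hYY : ∀ t, Y t * Y t = 1) : CoxS SB fun i => Y (gn i) := by
  refine ⟨fun i _ => hYY _, fun i j hi hj hij => ?_, fun i j hi hj hij => ?_⟩
  · have h1 := lab hi hj
    rw [labB, hij, cond_false, Bool.or_eq_true, decide_eq_true_eq] at h1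
    rcases h1 with h1 | h1
    · rw [h1]
    · refine h.comm (hYY _) (hYY _) ?_
      rw [hY, hY]
      exact hx.comm (Nat.eq_of_beq_eq_true h1)
  · have h1 := lab hi hj
    rw [labB, hij, cond_true] at h1
    refine h.braid (hYY _) (hYY _) ?_
    rw [hY, hY]
    exact hx.braid (Nat.eq_of_beq_eq_true h1)

/-- a power of a product of two involutions -/
theorem dih (h : OddExt π n) {a b : E} (ha : a * a = 1) (hb : b * b = 1) {m : ℕ} (hab : π ((a * b) ^ m) = 1) :
    (a * b) ^ m = 1 := by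
  refine h.two _ hab ?_
  have hai : a⁻¹ = a := inv_eq_of_mul_eq_one_left ha
  have hbi : b⁻¹ = b := inv_eq_of_mul_eq_one_left hb
  have h1 : a * (a * b) ^ m * a⁻¹ = ((a * b) ^ m)⁻¹ := by
    rw [← conj_pow, ← inv_pow, mul_inv_rev, hai, hbi]
    congr 1
    calc a * (a * b) * a = (a * a) * b * a := by group
      _ = b * a := by rw [ha, one_mul]
  have h2 : a * (a * b) ^ m * a⁻¹ = (a * b) ^ m := by rw [← h.cen _ hab a]; group
  rw [h2] at h1
  exact mul_eq_one_iff_eq_inv.2 h1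

/-- **The relations of the Baby Monster lift.** -/
theorem rel_lift (h : OddExt π n) {x : BabyMonster.Gen → P} (hx : Rel x) {Y : BabyMonster.Gen → E}
    (hY : ∀ t, π (Y t) = x t) (hYY : ∀ t, Y t * Y t = 1) : Rel Y := by
  have hc := coxS hx h hY hYY
  have hc23 : CoxS S23 fun i => Y (gn i) := mono hc S23_le
  have hsp := spider_one (π := π) hc23 h.cen h.two (psi2 hx) (by
    intro i hi
    rw [hY]
    have h1 : i ∈ [0, 1, 2, 3, 4, 6, 7, 11, 12, 13] := by
      unfold S23 at hi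
      exact List.contains_iff_mem.1 hi
    have h2 : psi2 hx (fiW i) = x (m2 (fiGen i)) := psi2_gen hx _
    rw [h2]
    congr 1
    fin_cases h1 <;> rfl)
  have hA : ev (fun i => Y (gn i)) aW ^ 9 = 1 := by
    refine h.pow_eq_one ?_ ?_
    · have h1 := hx.e7a
      rw [map_pow, map_ev, ← h1]
      simp only [aW, ev_cons, ev_nil, mul_one, hY, gn, mul_assoc]
    · have h2 := eq_of_run hc.valid cA_ok
      rw [one_pow, ev_rep] at h2
      rw [← pow_mul]
      exact h2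
  have hB : ev (fun i => Y (gn i)) bW ^ 9 = 1 := by
    refine h.pow_eq_one ?_ ?_
    · have h1 := hx.e7b
      rw [map_pow, map_ev, ← h1]
      simp only [bW, ev_cons, ev_nil, mul_one, hY, gn, mul_assoc]
    · have h2 := eq_of_run hc.valid cB_ok
      rw [one_pow, ev_rep] at h2
      rw [← pow_mul]
      exact h2
  rintro r (⟨a, -, b, -, rfl⟩ | hr)
  · rw [map_pow, map_mul, FreeGroup.lift_apply_of, FreeGroup.lift_apply_of]
    refine dih h (hYY a) (hYY b) ?_
    rw [map_pow, map_mul, hY, hY]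
    exact hx.cox a b
  · simp only [BabyMonster.extra, Set.mem_ofPred_eq, List.mem_cons, List.not_mem_nil, or_false] at hr
    rcases hr with rfl | rfl | rfl
    · simp only [map_pow, map_mul, FreeGroup.lift_apply_of]
      simpa only [spW, ev_cons, ev_nil, mul_one, gn, mul_assoc] using hsp
    · simp only [map_pow, map_mul, FreeGroup.lift_apply_of]
      simpa only [aW, ev_cons, ev_nil, mul_one, gn, mul_assoc] using hA
    · simp only [map_pow, map_mul, FreeGroup.lift_apply_of]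
      simpa only [bW, ev_cons, ev_nil, mul_one, gn, mul_assoc] using hB

/-- **No perfect central extension of the Baby Monster with kernel of odd prime order.** -/
theorem noCov_baby {p : ℕ} (hp : p.Prime) (h2 : p ≠ 2) : NoCov p Spor.BabyMonster := by
  intro L _ _ π hπ hcard
  obtain ⟨n, h⟩ := OddExt.of_pce hπ hp h2 hcard
  have hx := rel_of
  choose Y hY hYY using fun t : BabyMonster.Gen => h.exists_inv_lift (hx.sq t)
  have hr : ∀ r ∈ coxRelators BabyMonster.edges ∪ {r | r ∈ BabyMonster.extra}, FreeGroup.lift Y r = 1 :=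
    rel_lift h hx hY hYY
  have hid : π.comp (PresentedGroup.toGroup hr) = MonoidHom.id _ := by
    apply PresentedGroup.ext
    intro g
    show π (PresentedGroup.toGroup hr (PresentedGroup.of g)) = PresentedGroup.of g
    rw [PresentedGroup.toGroup.of hr, hY]
  have hbot : π.ker = ⊥ := by
    rw [eq_bot_iff]
    intro c hc'
    rw [Subgroup.mem_bot]
    exact h.ext.trivial_of_section hπ.perf (σ := PresentedGroup.toGroup hr)
      (fun p => DFunLike.congr_fun hid p) hc'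
  rw [hbot, Subgroup.card_bot] at hcard
  exact hp.one_lt.ne hcard

end Cfsg.Agent.H53.Baby
end

-- part: H53/BabyCov
section
/-!
# A perfect double cover of the Baby Monster (helper53)

`exists_cover`: a finite group `G` with the nodes `PRel y` of `Y553`, `y 0 ≠ y 1`, contains a perfect central extension
of `Spor.BabyMonster` with kernel `⟨y 10⟩` of order two: the subgroup generated by the eleven nodes commuting with
`y 10`.
-/

set_option autoImplicit false
set_option linter.unusedVariables false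
set_option linter.constructorNameAsVariable false

namespace Cfsg.Agent.H53.BabyCov

open Cfsg Cfsg.Spor Cfsg.Agent.Bimonster Cfsg.Agent.Bimonster.Tits Cfsg.Agent.MonsterU.BabyCover
open Cfsg.Agent.H51.Mult
open scoped commutatorElement

variable {G : Type} [Group G] {y : ℕ → G}

/-- in a commutative group braided elements are equal -/
theorem eq_of_braid {A : Type*} [CommGroup A] {a b : A} (h : a * b * a = b * a * b) : a = b := by
  have h1 : a * b * a = a * b * b := by rw [h, mul_comm b a]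
  exact mul_left_cancel h1

/-- one trivial node makes all nodes trivial -/
theorem ten_ne (h : PRel y) (hne : y 0 ≠ y 1) : y 10 ≠ 1 := by
  intro h10
  have step : ∀ i j, i < 14 → j < 14 → adjB i j = true → y i = 1 → y j = 1 := by
    intro i j hi hj hij h1
    have h2 := h.cox.br i hi j hj hij
    rw [h1, one_mul, mul_one] at h2
    -- `y j = y j * y j`
    exact mul_eq_left.1 h2.symm
  have h9 := step 10 9 (by norm_num) (by norm_num) (by decide) h10
  have h8 := step 9 8 (by norm_num) (by norm_num) (by decide) h9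
  have h7 := step 8 7 (by norm_num) (by norm_num) (by decide) h8
  have h6 := step 7 6 (by norm_num) (by norm_num) (by decide) h7
  have h0 := step 6 0 (by norm_num) (by norm_num) (by decide) h6
  have h1 := step 0 1 (by norm_num) (by norm_num) (by decide) h0
  exact hne (h0.trans h1.symm)

/-- the group generated by the eleven nodes -/
def H (h : PRel y) : Subgroup (Subgroup.centralizer ({y 10} : Set G)) :=
  Subgroup.closure (Set.range (nd h))

theorem nd_mem (h : PRel y) (x : BabyMonster.Gen) : nd h x ∈ H h := Subgroup.subset_closure ⟨x, rfl⟩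

/-- the nodes as elements of `H` -/
def ndH (h : PRel y) (x : BabyMonster.Gen) : H h := ⟨nd h x, nd_mem h x⟩

theorem ten_mem (h : PRel y) : ten y ∈ H h := by
  rw [← rel_two h]
  refine Subgroup.pow_mem _ ?_ _
  exact mul_mem (mul_mem (mul_mem (mul_mem (mul_mem (mul_mem (nd_mem h _) (nd_mem h _)) (nd_mem h _)) (nd_mem h _))
    (nd_mem h _)) (nd_mem h _)) (nd_mem h _)

theorem perfect (h : PRel y) : commutator (H h) = ⊤ := by
  let a : H h →* Abelianization (H h) := Abelianization.of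
  have braid : ∀ x x' : BabyMonster.Gen, adjB (lt x) (lt x') = true → a (ndH h x) = a (ndH h x') := by
    intro x x' hx
    apply eq_of_braid
    rw [← map_mul, ← map_mul, ← map_mul, ← map_mul]
    congr 1
    apply Subtype.ext
    apply Subtype.ext
    exact h.cox.br _ (lt_lt x) _ (lt_lt x') hx
  have e4 : a (ndH h .t4) = a (ndH h .t5) := braid _ _ (by decide)
  have e3 : a (ndH h .t3) = a (ndH h .t5) := (braid _ _ (by decide)).trans e4
  have e2 : a (ndH h .t2) = a (ndH h .t5) := (braid _ _ (by decide)).trans e3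
  have e1 : a (ndH h .t1) = a (ndH h .t5) := (braid _ _ (by decide)).trans e2
  have e6 : a (ndH h .t6) = a (ndH h .t5) := braid _ _ (by decide)
  have e7 : a (ndH h .t7) = a (ndH h .t5) := (braid _ _ (by decide)).trans e6
  have e8 : a (ndH h .t8) = a (ndH h .t5) := (braid _ _ (by decide)).trans e7
  have e9 : a (ndH h .t9) = a (ndH h .t5) := braid _ _ (by decide)
  have e10 : a (ndH h .t10) = a (ndH h .t5) := (braid _ _ (by decide)).trans e9
  have e11 : a (ndH h .t11) = a (ndH h .t5) := (braid _ _ (by decide)).trans e10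
  have hsq : a (ndH h .t5) * a (ndH h .t5) = 1 := by
    rw [← map_mul, ← map_one a]
    congr 1
    exact Subtype.ext (sq h .t5)
  have hrel : (ndH h .t5 * ndH h .t4 * ndH h .t3 * ndH h .t6 * ndH h .t9 * ndH h .t10 * ndH h .t11) ^ 9 = 1 :=
    Subtype.ext (rel_three h)
  have h1 := congrArg a hrel
  simp only [map_pow, map_mul, map_one, e4, e3, e6, e9, e10, e11] at h1
  have h0 : a (ndH h .t5) = 1 := by
    set g := a (ndH h .t5)
    have h2 : g * g * g * g * g * g * g = g := by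
      calc g * g * g * g * g * g * g = (g * g) * (g * g) * (g * g) * g := by group
        _ = g := by rw [hsq, one_mul, one_mul, one_mul]
    rw [h2] at h1
    calc g = (g * g) * (g * g) * (g * g) * (g * g) * g := by rw [hsq, one_mul, one_mul, one_mul, one_mul]
      _ = g ^ 9 := by simp only [pow_succ, pow_zero, one_mul, mul_assoc]
      _ = 1 := h1
  have hall : ∀ x, a (ndH h x) = 1 := by
    intro x
    cases x
    · rw [e1, h0]
    · rw [e2, h0]
    · rw [e3, h0]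
    · rw [e4, h0]
    · exact h0
    · rw [e6, h0]
    · rw [e7, h0]
    · rw [e8, h0]
    · rw [e9, h0]
    · rw [e10, h0]
    · rw [e11, h0]
  have hker : ∀ g : H h, a g = 1 := by
    rintro ⟨g, hg⟩
    refine Subgroup.closure_induction (p := fun g hg => a ⟨g, hg⟩ = 1) ?_ ?_ ?_ ?_ hg
    · rintro _ ⟨x, rfl⟩
      exact hall x
    · exact map_one a
    · intro u v hu hv h2 h3
      have : a (⟨u, hu⟩ * ⟨v, hv⟩) = 1 := by rw [map_mul, h2, h3, mul_one]
      exact this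
    · intro u hu h2
      have : a (⟨u, hu⟩⁻¹) = 1 := by rw [map_inv, h2, inv_one]
      exact this
  rw [eq_top_iff]
  intro g _
  rw [← Abelianization.ker_of]
  exact hker g

/-- **A perfect double cover of the Baby Monster.** -/
theorem exists_cover [Finite G] (h : PRel y) (hne : y 0 ≠ y 1) [hB : IsSimpleGroup Spor.BabyMonster] :
    ∃ (L : Type) (_ : Group L) (_ : Finite L) (π : L →* Spor.BabyMonster), PCE π ∧ 2 ∣ Nat.card π.ker := by
  let C := Subgroup.centralizer ({y 10} : Set G)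
  let Z : Subgroup C := Subgroup.zpowers (ten y)
  have hcen : ∀ g : C, g * ten y = ten y * g := fun g =>
    Subtype.ext (Subgroup.mem_centralizer_singleton_iff.1 g.2)
  have hZ : Z.Normal := by
    refine ⟨fun n hn g => ?_⟩
    obtain ⟨m, rfl⟩ := Subgroup.mem_zpowers_iff.1 hn
    have h1 : Commute g (ten y ^ m) := (show Commute g (ten y) from hcen g).zpow_right m
    rw [h1.eq, mul_inv_cancel_right]
    exact hn
  let q : C →* C ⧸ Z := QuotientGroup.mk' Z
  have hq : q (ten y) = 1 := (QuotientGroup.eq_one_iff _).2 (Subgroup.mem_zpowers _)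
  have hqk : ∀ c, q c = 1 → c ∈ Z := fun c hc => (QuotientGroup.eq_one_iff c).1 hc
  let φ : Spor.BabyMonster →* C ⧸ Z := hom h q hq
  have hφ : ∀ x, φ (PresentedGroup.of x) = q (nd h x) := hom_of h q hq
  -- `ten y` has order two
  have h10 : ten y * ten y = 1 := Subtype.ext (h.cox.sq 10 (by norm_num))
  have h10' : ten y ≠ 1 := fun h1 => ten_ne h hne (congrArg Subtype.val h1)
  have hZm : ∀ c ∈ Z, c = 1 ∨ c = ten y := by
    intro c hc
    obtain ⟨k, rfl⟩ := Subgroup.mem_zpowers_iff.1 hc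
    rcases Int.even_or_odd' k with ⟨l, rfl | rfl⟩
    · left
      rw [zpow_mul, zpow_two, h10, one_zpow]
    · right
      rw [zpow_add, zpow_mul, zpow_two, h10, one_zpow, one_mul, zpow_one]
  -- `φ` is injective
  have hinj : Function.Injective φ := by
    rw [← MonoidHom.ker_eq_bot_iff]
    rcases hB.eq_bot_or_eq_top_of_normal φ.ker inferInstance with h1 | h1
    · exact h1
    · exfalso
      have h0 : ∀ x : BabyMonster.Gen, y (lt x) = 1 ∨ y (lt x) = y 10 := by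
        intro x
        have h2 : φ (PresentedGroup.of x) = 1 := by
          rw [← MonoidHom.mem_ker, h1]
          exact Subgroup.mem_top _
        rw [hφ] at h2
        rcases hZm _ (hqk _ h2) with h3 | h3
        · left; exact congrArg Subtype.val h3
        · right; exact congrArg Subtype.val h3
      have hc : y 0 * y 1 = y 1 * y 0 := by
        rcases h0 .t5 with h1 | h1 <;> rcases h0 .t4 with h2 | h2 <;>
          simp only [lt] at h1 h2 <;> rw [h1, h2]
        · rw [one_mul, mul_one]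
        · rw [one_mul, mul_one]
      have hb := h.cox.br 0 (by norm_num) 1 (by norm_num) (by decide)
      have h00 := h.cox.sq 0 (by norm_num)
      have h11 := h.cox.sq 1 (by norm_num)
      apply hne
      have h3 : y 0 * y 1 * y 0 = y 1 := by rw [hc, mul_assoc, h00, mul_one]
      have h4 : y 1 * y 0 * y 1 = y 0 := by rw [← hc, mul_assoc, h11, mul_one]
      rw [h3, h4] at hb
      exact hb.symm
  -- the image of `H` is the range of `φ`
  let r : H h →* C ⧸ Z := q.comp (H h).subtype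
  have hrange : ∀ g : H h, r g ∈ φ.range := by
    rintro ⟨g, hg⟩
    refine Subgroup.closure_induction (p := fun g hg => r ⟨g, hg⟩ ∈ φ.range) ?_ ?_ ?_ ?_ hg
    · rintro _ ⟨x, rfl⟩
      exact ⟨PresentedGroup.of x, hφ x⟩
    · have : r 1 ∈ φ.range := by rw [map_one]; exact one_mem _
      exact this
    · intro u v hu hv h2 h3
      have : r (⟨u, hu⟩ * ⟨v, hv⟩) ∈ φ.range := by rw [map_mul]; exact mul_mem h2 h3
      exact this
    · intro u hu h2
      have : r (⟨u, hu⟩⁻¹) ∈ φ.range := by rw [map_inv]; exact inv_mem h2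
      exact this
  let e : Spor.BabyMonster ≃* φ.range := MonoidHom.ofInjective hinj
  let π : H h →* Spor.BabyMonster := e.symm.toMonoidHom.comp (r.codRestrict φ.range hrange)
  have hπ : ∀ g : H h, φ (π g) = r g := by
    intro g
    have h1 : e (π g) = ⟨r g, hrange g⟩ := e.apply_symm_apply _
    exact congrArg Subtype.val h1
  have hker : ∀ g : H h, π g = 1 → (g : C) = 1 ∨ (g : C) = ten y := by
    intro g hg
    have h1 := hπ g
    rw [hg, map_one] at h1
    exact hZm _ (hqk _ h1.symm)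
  refine ⟨H h, inferInstance, inferInstance, π, ⟨?_, ?_, perfect h⟩, ?_⟩
  · -- surjective
    rw [← MonoidHom.range_eq_top, eq_top_iff, ← PresentedGroup.closure_range_of, Subgroup.closure_le]
    rintro _ ⟨x, rfl⟩
    refine ⟨ndH h x, hinj ?_⟩
    rw [hπ, hφ]
    rfl
  · intro g hg
    rw [Subgroup.mem_center_iff]
    intro k
    rcases hker g hg with h1 | h1
    · have : g = 1 := Subtype.ext h1
      rw [this, one_mul, mul_one]
    · apply Subtype.ext
      show (k : C) * (g : C) = (g : C) * (k : C)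
      rw [h1]
      exact hcen _
  · have hmem : (⟨ten y, ten_mem h⟩ : H h) ∈ π.ker := by
      rw [MonoidHom.mem_ker]
      apply hinj
      rw [hπ, map_one]
      exact hq
    have h2 : orderOf (⟨⟨ten y, ten_mem h⟩, hmem⟩ : π.ker) = 2 := by
      apply orderOf_eq_prime
      · rw [pow_two]
        exact Subtype.ext (Subtype.ext h10)
      · intro h3
        exact h10' (congrArg Subtype.val (congrArg Subtype.val h3))
    rw [← h2]
    exact orderOf_dvd_natCard _

/-- The first two nodes are different if the nodes generate a non-commutative group. -/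
theorem ne_of_gen {G : Type*} [Group G] {y : ℕ → G} (h : CoxRel 14 y) (hgen : Subgroup.closure (nodes 14 y) = ⊤)
    (hnc : ∃ a b : G, a * b ≠ b * a) : y 0 ≠ y 1 := by
  intro h01
  -- a node adjacent to `i` and not to `k`, where `y i = y k`
  have step : ∀ i k j, i < 14 → k < 14 → j < 14 → adjB j i = true → adjB j k = false → y i = y k → y j = y i := by
    intro i k j hi hk hj hji hjk hik
    have hc := h.cm j hj k hk hjk
    have hb := h.br j hj i hi hji
    rw [← hik] at hc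
    have hii := h.sq i hi
    have hjj := h.sq j hj
    have e1 : y j * y i * y j = y i := by rw [hc, mul_assoc, hjj, mul_one]
    have e2 : y i * y j * y i = y j := by rw [← hc, mul_assoc, hii, mul_one]
    rw [e1, e2] at hb
    exact hb.symm
  have h2 : y 2 = y 0 := (step 1 0 2 (by norm_num) (by norm_num) (by norm_num) (by decide) (by decide) h01.symm).trans h01.symm
  have h3 : y 3 = y 0 := (step 2 0 3 (by norm_num) (by norm_num) (by norm_num) (by decide) (by decide) h2).trans h2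
  have h4 : y 4 = y 0 := (step 3 0 4 (by norm_num) (by norm_num) (by norm_num) (by decide) (by decide) h3).trans h3
  have h5 : y 5 = y 0 := (step 4 0 5 (by norm_num) (by norm_num) (by norm_num) (by decide) (by decide) h4).trans h4
  have h6 : y 6 = y 0 := step 0 1 6 (by norm_num) (by norm_num) (by norm_num) (by decide) (by decide) h01
  have h7 : y 7 = y 0 := (step 6 0 7 (by norm_num) (by norm_num) (by norm_num) (by decide) (by decide) h6).trans h6
  have h8 : y 8 = y 0 := (step 7 0 8 (by norm_num) (by norm_num) (by norm_num) (by decide) (by decide) h7).trans h7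
  have h9 : y 9 = y 0 := (step 8 0 9 (by norm_num) (by norm_num) (by norm_num) (by decide) (by decide) h8).trans h8
  have h10 : y 10 = y 0 := (step 9 0 10 (by norm_num) (by norm_num) (by norm_num) (by decide) (by decide) h9).trans h9
  have h11 : y 11 = y 0 := step 0 1 11 (by norm_num) (by norm_num) (by norm_num) (by decide) (by decide) h01
  have h12 : y 12 = y 0 :=
    (step 11 0 12 (by norm_num) (by norm_num) (by norm_num) (by decide) (by decide) h11).trans h11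
  have h13 : y 13 = y 0 :=
    (step 12 0 13 (by norm_num) (by norm_num) (by norm_num) (by decide) (by decide) h12).trans h12
  have hall : ∀ i < 14, y i = y 0 := by
    intro i hi
    interval_cases i
    · rfl
    · exact h01.symm
    all_goals assumption
  have hz : ∀ g : G, g ∈ Subgroup.zpowers (y 0) := by
    intro g
    have h1 : g ∈ Subgroup.closure (nodes 14 y) := by rw [hgen]; exact Subgroup.mem_top _
    refine (Subgroup.closure_le _).2 ?_ h1
    rintro _ ⟨i, hi, rfl⟩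
    rw [hall i hi]
    exact Subgroup.mem_zpowers _
  obtain ⟨a, b, hab⟩ := hnc
  obtain ⟨m, rfl⟩ := Subgroup.mem_zpowers_iff.1 (hz a)
  obtain ⟨n, rfl⟩ := Subgroup.mem_zpowers_iff.1 (hz b)
  exact hab ((Commute.refl (y 0)).zpow_zpow m n)

/-- A simple group whose order is not a prime is not commutative. -/
theorem not_comm_of_card {X : Type*} [Group X] [IsSimpleGroup X] {m : ℕ} (hm : Nat.card X = m)
    (hp : ¬ m.Prime) : ∃ a b : X, a * b ≠ b * a := by
  by_contra hcon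
  push Not at hcon
  let _ : CommGroup X := { (inferInstance : Group X) with mul_comm := hcon }
  apply hp
  rw [← hm]
  exact IsSimpleGroup.prime_card

end Cfsg.Agent.H53.BabyCov
end

-- part: S2058
section
set_option autoImplicit false
open Cfsg

namespace Cfsg.Agent.S2058

/-- The Schur multiplier of the Baby Monster (the finitely presented group of the definitions) is cyclic of order 2; here the Schur multiplier is described through stem extensions, as in the definitions: surjective homomorphisms onto the group from a finite group, whose kernel is central in that finite group and contained in that finite group's commutator subgroup. -/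
theorem result : Cfsg.HasCyclicSchurMultiplier Cfsg.Spor.BabyMonster 2 := by
  have hs : IsSimpleGroup Cfsg.Spor.BabyMonster := Cfsg.Agent.S1704.result.1
  have hc : Nat.card Cfsg.Spor.BabyMonster = 4154781481226426191177580544000000 := Cfsg.Agent.S1704.result.2
  have : Finite Cfsg.Spor.BabyMonster := Nat.finite_of_card_ne_zero (by rw [hc]; norm_num)
  have hsM : IsSimpleGroup Cfsg.Spor.Monster := Cfsg.Agent.S1705.result.1
  have hcM : Nat.card Cfsg.Spor.Monster = 808017424794512875886459904961710757005754368000000000 :=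
    Cfsg.Agent.S1705.result.2
  have : Finite Cfsg.Spor.Monster := Nat.finite_of_card_ne_zero (by rw [hcM]; norm_num)
  obtain ⟨e⟩ := Cfsg.Agent.MonsterP.Equiv.equivM
  have : Finite Cfsg.Agent.Bimonster.PM := Finite.of_equiv _ e.toEquiv
  obtain ⟨a, b, hab⟩ := Cfsg.Agent.H53.BabyCov.not_comm_of_card hcM (by norm_num)
  have hne := Cfsg.Agent.H53.BabyCov.ne_of_gen Cfsg.Agent.Bimonster.xM_prel.cox Cfsg.Agent.Bimonster.xM_gen
    ⟨e a, e b, fun h => hab (e.injective (by rw [map_mul, map_mul, h]))⟩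
  refine Cfsg.Agent.H51.Mult.hasCyclic
    (Cfsg.Agent.H53.OddLift.commutator_eq_top_of_card hc (by norm_num)) two_pos (fun p hp _ => ?_)
    (Cfsg.Agent.H53.BabyCov.exists_cover Cfsg.Agent.Bimonster.xM_prel hne)
  by_cases h2 : p = 2
  · subst h2
    rw [Nat.Prime.factorization_self Nat.prime_two]
    exact Cfsg.Agent.H51.Mult.bd_two Cfsg.Agent.KFacts.MulEven.Baby.oneCover
  · exact ((Cfsg.Agent.H53.Baby.noCov_baby hp h2).bd hp).mono (Nat.zero_le _)

end Cfsg.Agent.S2058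
end

private theorem dce_0019e77e4e8b : _root_.True := by
  try have : _root_.True := by simp only [_root_.Cfsg.Agent.H53.Baby.gn.eq_2]
  try have : _root_.True := by simp only [_root_.Cfsg.Agent.H53.Baby.labB.eq_1]
  try have : _root_.True := by simp only [_root_.Cfsg.Agent.H53.Baby.gn.eq_6]
  try have : _root_.True := by simp only [_root_.Cfsg.Agent.H53.Baby.gn.eq_8]
  try have : _root_.True := by simp only [_root_.Cfsg.Agent.H53.Baby.gn.eq_4]
  try have : _root_.True := by simp only [_root_.Cfsg.Agent.H53.Baby.gn.eq_12]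
  try have : _root_.True := by simp only [_root_.Cfsg.Agent.H53.Baby.gn.eq_7]
  try have : _root_.True := by simp only [_root_.Cfsg.Agent.H53.Baby.gn.eq_9]
  try have : _root_.True := by simp only [_root_.Cfsg.Agent.H53.Baby.gn.eq_3]
  try have : _root_.True := by simp only [_root_.Cfsg.Agent.H53.Baby.gn.eq_10]
  try have : _root_.True := by simp only [_root_.Cfsg.Agent.H53.Baby.gn.eq_5]
  try have : _root_.True := by simp only [_root_.Cfsg.Agent.H53.Baby.aW.eq_1]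
  try have : _root_.True := by simp only [_root_.Cfsg.Agent.H53.Baby.gn.eq_1]
  try have : _root_.True := by simp only [_root_.Cfsg.Agent.H53.Baby.gn.eq_11]
  try have : _root_.True := by simp only [_root_.Cfsg.Agent.H53.Baby.bW.eq_1]
  exact _root_.True.intro
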