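import Cfsg.Agent.Co2Type.Up9Chk30_m3
import Cfsg.Agent.Co2Type.UpBound_m3
import Cfsg.Agent.Co2Type.Up9Chk15_m3
import Cfsg.Agent.Co2Type.P1Rels
import Cfsg.Agent.Co2Type.PresDef
import Cfsg.Agent.SporRec.MaxFix
import Cfsg.Agent.Dichotomy.Elem
import Cfsg.Agent.S0058
import Cfsg.Agent.S0215
import Cfsg.Agent.S1180
import Cfsg.Agent.Involutions.CommonInvolution
import Cfsg.Agent.Co2Type.TCard_mg
import Cfsg.Agent.Co2Type.FactsCo2
import Cfsg.Agent.Co2Type.Up9Chk29_m3
import Cfsg.Agent.Co2Type.Up9Data
import Cfsg.Agent.Co2Type.Up9Chk13_m3
import Cfsg.Agent.Co2Type.Up9Chk39_m3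
import Cfsg.Agent.Co2Type.Up9Chk36_mg
import Cfsg.Statements.S1675
import Cfsg.Agent.Co2Type.AbsPs_m3
import Cfsg.Agent.Co2Type.Co2Gen
import Cfsg.Agent.SporadicRecognition.CertFast
import Cfsg.Agent.FastGrp
import Cfsg.Agent.Prune
set_option linter.all false

section
prune_inst 0x7ffcfffbaff839dfffff7e7ff7fdcffdf9b93ffff6dff9fbffe1ffff1bff4b6f8be5fbafefec90feeed6e21410f87b53fdffcabfe36bdc7ffffd5ff45fffff9fffffbd0d51ffb8b41ffe6ffffbf07fae7f3fffffffffffffffffffffffffffffffbfffffffff

-- part: Co2Type/LocalMain
section
prune_inst 0x400402200000000000022000000000000000000000000000000004804000000000030000100800000000000002003440100420000000a000000000400000000000000400000000000000000000000000000000000000000000000000000000000000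
set_option linter.all false
open scoped Cfsg.Agent.FastGrp

-- part: Co2Type/OnlyB1
section
/-!
# Only transvections fused: impossible (R03, helper143)

If the conjugates of `t` in `C(t)` are `t` and one class of involutions over transvections (with
`Q ∩ Q' = 1`), we get a contradiction.
-/

set_option autoImplicit false

namespace Cfsg.Agent.Co2Type.OnlyB1

open Cfsg Cfsg.Agent.Co2Type.Quad Cfsg.Agent.Co2Type.Setup Cfsg.Agent.Co2Type.Spin
open Cfsg.Agent.Co2Type.LineMod Cfsg.Agent.Co2Type.Code Cfsg.Agent.Co2Type.Pair
open Cfsg.Agent.SporRec.TwoSp6.Sp (tr act act_mul act_one conj_tr)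

theorem line_ne {a b : U} (h : IsLine a b) : line a b ≠ 1 := by
  intro h1
  obtain ⟨g, hg1, hg2⟩ := exists_act_line isLine_e01 h
  have h2 : line (e 0) (e 1) = 1 := by
    have h3 := line_conj g (e 0) (e 1)
    rw [hg1, hg2, h1] at h3
    calc line (e 0) (e 1) = g⁻¹ * (g * line (e 0) (e 1) * g⁻¹) * g := by group
      _ = 1 := by rw [h3]; group
  have h4 := Swap.act_line (sf_e_e 0 1) (f 0)
  rw [h2, act_one] at h4
  have h5 : f 0 ≠ f 0 + sf (f 0) (e 0) • e 1 + sf (f 0) (e 1) • e 0 := by decide +kernel
  exact h5 h4

section

variable {V : Type*} [AddCommGroup V] [Module (ZMod 2) V]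
variable {rho : Sp6 →* (V ≃ₗ[ZMod 2] V)}

/-- `n_u` kills the image of `n_h` only if `u = 0` or `u = h` -/
theorem eq_of_kill (hs : SpinHyp rho) (hcard : Nat.card V = 2 ^ 8) (hinj : Function.Injective rho)
    {h u : U} (hh : h ≠ 0) (hk : ∀ v, n rho u (n rho h v) = 0) : u = 0 ∨ u = h := by
  by_contra hno
  push Not at hno
  have hnt : Nontrivial V := by
    have hf : Finite V := Nat.finite_of_card_ne_zero (by rw [hcard]; norm_num)
    exact Finite.one_lt_card_iff_nontrivial.1 (by rw [hcard]; norm_num)
  rcases zmod2_cases (sf u h) with h0 | h1
  · have hl : IsLine h u := ⟨hh, hno.1, hno.2, by rw [sf_comm, h0]⟩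
    apply line_ne hl
    apply hinj
    rw [map_one]
    apply LinearEquiv.ext
    intro v
    rw [rho_line hs hcard hl.2.2.2, n_comm_apply hs hl.2.2.2, hk, add_zero]
    rfl
  · have key : ∀ x : V, n rho h (n rho u x) = x := by
      intro x
      have h2 := n_anticomm_apply hs u h x
      rw [hk, h1, one_smul] at h2
      have h3 : x + x = 0 := ZModModule.add_self x
      calc n rho h (n rho u x) = n rho h (n rho u x) + (x + x) := by rw [h3, add_zero]
        _ = (n rho h (n rho u x) + x) + x := by rw [add_assoc]
        _ = x := by rw [← h2, zero_add]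
    obtain ⟨x, hx⟩ := exists_ne (0 : V)
    apply hx
    have h3 : n rho h x = 0 := by
      rw [← key x, n_n_apply]
    have h4 : ∀ y : V, n rho h y = 0 := by
      intro y
      rw [← key y, n_n_apply]
    rw [← key x]
    exact h4 _

end

variable {G : Type*} [Group G] {Q : Subgroup G} {t : G}

/-- the contradiction -/
theorem not_only (S : Sit G Q t) (P : Ctx S) {a : G} (hat : a * t = t * a)
    (hpa : S.ps hat = tr (e 0)) (hc : IsConj t a)
    (hfus : ∀ x, x * t = t * x → IsConj t x → x = t ∨ ∃ c, c * t = t * c ∧ c * x * c⁻¹ = a)
    (hI : ∀ g : G, g * t * g⁻¹ = a → Q ⊓ Q.map (MulAut.conj g).toMonoidHom = ⊥) : False := by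
  have hs := P.hs
  have htt := S.large.z_sq
  have hinv : t⁻¹ = t := S.large.z_inv
  have hne : a ≠ t := by
    intro h
    subst h
    have h1 : S.ps hat = 1 := (S.ps_eq_one hat).2 S.large.z_mem
    rw [hpa] at h1
    have h2 : act (tr (e 0)) (f 0) ≠ f 0 := by
      rw [SporRec.TwoSp6.Sp.act_tr]
      decide +kernel
    rw [h1, act_one] at h2
    exact h2 rfl
  -- the swap
  obtain ⟨x, hxt, hxa⟩ : ∃ x : G, x * t * x⁻¹ = a ∧ x * a * x⁻¹ = t := by
    obtain ⟨g, hga⟩ := isConj_iff.1 hc.symm
    have hcomm : (g * t * g⁻¹) * t = t * (g * t * g⁻¹) := by
      have : (g * t * g⁻¹) * (g * a * g⁻¹) = (g * a * g⁻¹) * (g * t * g⁻¹) := by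
        calc (g * t * g⁻¹) * (g * a * g⁻¹) = g * (t * a) * g⁻¹ := by group
          _ = g * (a * t) * g⁻¹ := by rw [hat]
          _ = _ := by group
      rwa [hga] at this
    rcases hfus _ hcomm (isConj_iff.2 ⟨g, rfl⟩) with h | ⟨c, hc1, hc2⟩
    · exfalso
      apply hne
      have : g * t * g⁻¹ = g * a * g⁻¹ := h.trans hga.symm
      have h2 : t = a := by simpa only [_root_.mul_left_inj, _root_.mul_right_inj] using this
      exact h2.symm
    · refine ⟨c * g, ?_, ?_⟩
      · calc c * g * t * (c * g)⁻¹ = c * (g * t * g⁻¹) * c⁻¹ := by group
          _ = a := hc2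
      · calc c * g * a * (c * g)⁻¹ = c * (g * a * g⁻¹) * c⁻¹ := by group
          _ = c * t * c⁻¹ := by rw [hga]
          _ = t := by rw [hc1, mul_inv_cancel_right]
  have haa : a * a = 1 := by
    rw [← hxt]
    calc x * t * x⁻¹ * (x * t * x⁻¹) = x * (t * t) * x⁻¹ := by group
      _ = 1 := by rw [htt]; group
  have hainv : a⁻¹ = a := inv_eq_of_mul_eq_one_left haa
  have hI' := hI x hxt
  have hL' : Large (Q.map (MulAut.conj x).toMonoidHom) a := by
    have := S.large.conj x
    rwa [hxt] at this
  set Q' := Q.map (MulAut.conj x).toMonoidHom with hQ'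
  have hmemQ' : ∀ y ∈ Q, x * y * x⁻¹ ∈ Q' := fun y hy => ⟨y, hy, rfl⟩
  -- the elements `d`
  have hd : ∀ v : S.large.V, ∃ q ∈ Q, ∃ hdQ : a * (q * a * q⁻¹) ∈ Q,
      S.large.pr ⟨a * (q * a * q⁻¹), hdQ⟩ = n S.rho (e 0) v ∧
      (a * (q * a * q⁻¹)) * a = a * (a * (q * a * q⁻¹)) := by
    intro v
    obtain ⟨⟨q, hq⟩, rfl⟩ := S.large.pr_surjective v
    have h1 : a * q * a⁻¹ ∈ Q := S.large.conj_mem a hat q hq
    have he : a * (q * a * q⁻¹) = (a * q * a⁻¹) * q⁻¹ := by
      rw [hainv]; group
    have hdQ : a * (q * a * q⁻¹) ∈ Q := by rw [he]; exact mul_mem h1 (inv_mem hq)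
    have hpr : S.large.pr ⟨a * (q * a * q⁻¹), hdQ⟩ = n S.rho (e 0) (S.large.pr ⟨q, hq⟩) := by
      have h2 : (⟨a * (q * a * q⁻¹), hdQ⟩ : Q) = ⟨a * q * a⁻¹, h1⟩ * (⟨q, hq⟩ : Q)⁻¹ :=
        Subtype.ext he
      rw [h2, S.large.pr_mul, S.large.pr_inv, S.large.neg_eq, n_apply, add_comm]
      congr 1
      have h3 := S.rho_ps hat ⟨q, hq⟩
      rw [hpa] at h3
      exact h3.symm
    refine ⟨q, hq, hdQ, hpr, ?_⟩
    -- `d` is an involution inverted by `a`
    have hdd : (a * (q * a * q⁻¹)) * (a * (q * a * q⁻¹)) = 1 := by
      have h4 : S.large.q (S.large.pr ⟨a * (q * a * q⁻¹), hdQ⟩) = 0 := by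
        rw [hpr]
        exact q_n hs S.b_rho S.large.b_self S.large.q_add' S.q_rho _ _
      exact S.large.q_eq_zero.1 h4
    have h5 : a * (a * (q * a * q⁻¹)) * a = (a * (q * a * q⁻¹))⁻¹ := by
      rw [mul_inv_rev, mul_inv_rev, mul_inv_rev, hainv, inv_inv]
      calc a * (a * (q * a * q⁻¹)) * a = (a * a) * (q * a * q⁻¹) * a := by group
        _ = q * (a * q⁻¹) * a := by rw [haa]; group
    have h6 : (a * (q * a * q⁻¹))⁻¹ = a * (q * a * q⁻¹) := inv_eq_of_mul_eq_one_left hdd
    rw [h6] at h5
    calc (a * (q * a * q⁻¹)) * a = a * (a * (a * (q * a * q⁻¹)) * a) := by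
          rw [← mul_assoc a (a * (a * (q * a * q⁻¹))) a, ← mul_assoc a a, haa, one_mul]
      _ = _ := by rw [h5]
  choose q hq hdQ hpr hda using hd
  set d : S.large.V → G := fun v => a * (q v * a * (q v)⁻¹) with hdd
  have hmd : ∀ v, d v ∈ dsub Q a := fun v => mem_dsub.2 ⟨hdQ v, hda v⟩
  -- the transported elements
  set y : S.large.V → G := fun v => x * d v * x⁻¹ with hy
  have hyt : ∀ v, y v * t = t * y v := by
    intro v
    calc x * d v * x⁻¹ * t = x * d v * x⁻¹ * (x * a * x⁻¹) := by rw [hxa]
      _ = x * (d v * a) * x⁻¹ := by group
      _ = x * (a * d v) * x⁻¹ := by rw [show d v * a = a * d v from hda v]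
      _ = (x * a * x⁻¹) * (x * d v * x⁻¹) := by group
      _ = t * (x * d v * x⁻¹) := by rw [hxa]
  have hyQ' : ∀ v, y v ∈ Q' := fun v => hmemQ' _ (hdQ v)
  have hyd : ∀ v, y v ∈ dsub Q' t := fun v => mem_dsub.2 ⟨hyQ' v, hyt v⟩
  -- they centralise the `d v'`
  have hcomm : ∀ v w, d w * y v = y v * d w := by
    intro v w
    have h1 := commutator_mem S.large hL' (hmd w) (hyd v)
    rw [hI', Subgroup.mem_bot] at h1
    have h2 : d w * y v * (d w)⁻¹ = y v := by
      calc d w * y v * (d w)⁻¹ = (d w * y v * (d w)⁻¹ * (y v)⁻¹) * y v := by group
        _ = y v := by rw [h1, one_mul]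
    exact mul_inv_eq_iff_eq_mul.1 h2
  -- `psi` of `y v`
  have hps : ∀ v, y v = 1 ∨ S.ps (hyt v) = tr (e 0) := by
    intro v
    -- `w = t y`
    have hw : x * (q v * a * (q v)⁻¹) * x⁻¹ = t * y v := by
      calc x * (q v * a * (q v)⁻¹) * x⁻¹ = (x * a⁻¹ * x⁻¹) * (x * (a * (q v * a * (q v)⁻¹)) * x⁻¹) := by group
        _ = t * y v := by rw [hainv, hxa]
    have hwt : (t * y v) * t = t * (t * y v) := by rw [mul_assoc, hyt v]
    have hcw : IsConj t (t * y v) := by
      rw [← hw]
      refine hc.trans (isConj_iff.2 ⟨x * q v, ?_⟩)
      group
    rcases hfus _ hwt hcw with h | ⟨c, hc1, hc2⟩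
    · left
      exact mul_eq_left.1 h
    · -- transvection
      have hcinv : c⁻¹ * t = t * c⁻¹ := by
        have : Commute c t := hc1
        exact this.inv_left.eq
      have e1 : t * y v = c⁻¹ * a * c := by rw [← hc2]; group
      have htt' : t * t = t * t := rfl
      obtain ⟨u, hu⟩ : ∃ u, S.ps (hyt v) = tr u := by
        refine ⟨act (S.ps hcinv) (e 0), ?_⟩
        have h1 : S.ps hwt = S.ps (x := t) rfl * S.ps (hyt v) := S.ps_mul _ _ _
        have h2 : S.ps (x := t) rfl = 1 := (S.ps_eq_one _).2 S.large.z_mem
        rw [h2, one_mul] at h1
        rw [← h1, ← conj_tr]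
        have h3 : (S.ps hcinv)⁻¹ = S.ps hc1 := by
          rw [← S.ps_inv hcinv (by rw [inv_inv]; exact hc1)]
          unfold Sit.ps
          congr 1
          apply Subtype.ext
          exact inv_inv c
        rw [h3, ← hpa]
        unfold Sit.ps
        rw [← map_mul, ← map_mul]
        congr 1
        apply Subtype.ext
        exact e1
      -- it kills the image of `n_{e 0}`
      have hk : ∀ w, n S.rho u (n S.rho (e 0) w) = 0 := by
        intro w
        have h1 := S.rho_ps (hyt v) ⟨d w, hdQ w⟩
        have h2 : (⟨y v * d w * (y v)⁻¹, S.large.conj_mem (y v) (hyt v) _ (hdQ w)⟩ : Q) =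
            ⟨d w, hdQ w⟩ := Subtype.ext (by
          show y v * d w * (y v)⁻¹ = d w
          rw [← hcomm v w, mul_inv_cancel_right])
        have h3 : S.large.pr ⟨d w, hdQ w⟩ = n S.rho (e 0) w := hpr w
        rw [hu] at h1
        have h4 : S.rho (tr u) (S.large.pr ⟨d w, hdQ w⟩) = S.large.pr ⟨d w, hdQ w⟩ := by
          rw [h1]
          exact congrArg S.large.pr h2
        rw [h3] at h4
        rw [n_apply]
        have h5 : S.rho (ClassicalGeometry.SympBasic.transv u 1) (n S.rho (e 0) w) = n S.rho (e 0) w := h4
        rw [h5, S.large.add_self]
      rcases eq_of_kill hs S.card_V S.rho_injective (h := e 0) (by decide +kernel) hk with h | h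
      · left
        rw [h, SporRec.TwoSp6.Sp.tr_zero] at hu
        have h1 := (S.ps_eq_one (hyt v)).1 hu
        have h2 : y v ∈ Q ⊓ Q' := Subgroup.mem_inf.2 ⟨h1, hyQ' v⟩
        rwa [hI', Subgroup.mem_bot] at h2
      · right
        rw [hu, h]
  -- two values
  have hval : ∀ v, n S.rho (e 0) v ≠ 0 → S.ps (hyt v) = tr (e 0) := by
    intro v hv
    rcases hps v with h | h
    · exfalso
      apply hv
      have h1 : d v = 1 := by
        have h2 : x * d v * x⁻¹ = 1 := h
        have h3 : d v = x⁻¹ * (x * d v * x⁻¹) * x := by group
        rw [h3, h2]; group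
      rw [← hpr v, S.large.pr_eq_zero]
      exact Or.inl h1
    · exact h
  have heq : ∀ v w, n S.rho (e 0) v ≠ 0 → n S.rho (e 0) w ≠ 0 →
      n S.rho (e 0) v = n S.rho (e 0) w := by
    intro v w hv hw
    have h1 := hval v hv
    have h2 := hval w hw
    have hiv : (y w)⁻¹ * t = t * (y w)⁻¹ := by
      have : Commute (y w) t := hyt w
      exact this.inv_left.eq
    have hvw : y v * (y w)⁻¹ * t = t * (y v * (y w)⁻¹) := by
      rw [mul_assoc, hiv, ← mul_assoc, hyt v, mul_assoc]
    have h3 : S.ps hvw = 1 := by
      rw [S.ps_mul (hyt v) hiv hvw, S.ps_inv (hyt w) hiv, h1, h2, mul_inv_cancel]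
    have h4 := (S.ps_eq_one hvw).1 h3
    have h5 : y v * (y w)⁻¹ ∈ Q ⊓ Q' :=
      Subgroup.mem_inf.2 ⟨h4, mul_mem (hyQ' v) (inv_mem (hyQ' w))⟩
    rw [hI', Subgroup.mem_bot, mul_inv_eq_one] at h5
    have h6 : d v = d w := by
      have h7 : x * d v * x⁻¹ = x * d w * x⁻¹ := h5
      simpa only [_root_.mul_left_inj, _root_.mul_right_inj] using h7
    rw [← hpr v, ← hpr w]
    exact congrArg S.large.pr (Subtype.ext h6)
  have b0 : n S.rho (e 0) (P.B 0) = P.B 1 := by
    have := P.hE 0 0
    simpa only [_root_.Fin.isValue, _root_.Fin.coe_ofNat_eq_mod, _root_.Nat.zero_mod, _root_.Nat.testBit_zero, _root_.zero_ne_one, _root_.decide_false, _root_.Bool.false_eq_true, ↓ _root_.reduceIte, _root_.pow_zero, _root_.zero_add] using this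
  have b2 : n S.rho (e 0) (P.B 2) = P.B 3 := by
    have := P.hE 0 2
    simpa using this
  have h1 := heq (P.B 0) (P.B 2) (by rw [b0]; exact P.B.ne_zero 1) (by rw [b2]; exact P.B.ne_zero 3)
  rw [b0, b2] at h1
  have := P.B.injective h1
  exact absurd this (by decide)

end Cfsg.Agent.Co2Type.OnlyB1
end

-- part: Co2Type/FusionB2
section
/-!
# The fusion of `t` in groups of type `Co2` (R03, secondary route; helper143)
-/

set_option autoImplicit false

namespace Cfsg.Agent.Co2Type.FusionB2

open Cfsg Cfsg.Agent.Co2Type.Quad Cfsg.Agent.Co2Type.Setup Cfsg.Agent.Co2Type.Spin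
open Cfsg.Agent.Co2Type.QModel Cfsg.Agent.Co2Type.Act Cfsg.Agent.Co2Type.Coord
open Cfsg.Agent.Co2Type.Rels Cfsg.Agent.Co2Type.Abs Cfsg.Agent.Co2Type.ExistsRels
open Cfsg.Agent.Co2Type.InvClass Cfsg.Agent.Co2Type.InvClass2 Cfsg.Agent.Co2Type.LineMod Cfsg.Agent.Co2Type.Alpha
open Cfsg.Agent.ClassicalGeometry.SympBasic
open Cfsg.Agent.SporRec.TwoSp6.Sp (tr act)
open Cfsg.Agent.SporRec.TwoSp6.Invol (Ind Orth)

variable {G : Type*} [Group G] {Q : Subgroup G} {t : G}

theorem ev_mem (S : Sit G Q t) {ev : QM →* Subgroup.centralizer ({t} : Set G)}
    (P : Pre (tc t) ev S.psi) (c : Subgroup.centralizer ({t} : Set G)) : c ∈ ev.range ↔ (c : G) ∈ Q := by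
  rw [← P.psi_ker, S.psi_ker]

/-- elements of `C` conjugate in `C` are conjugate in `G` -/
theorem isConj_of {x y g : Subgroup.centralizer ({t} : Set G)} (h : g * x * g⁻¹ = y) :
    IsConj (x : G) (y : G) :=
  isConj_iff.2 ⟨g, congrArg Subtype.val h⟩

/-- the representative of `b3` -/
theorem psi_bth (S : Sit G Q t) {D : ℕ → Subgroup.centralizer ({t} : Set G)}
    (hD : ∀ j, j < 7 → S.psi (D j) = transv (uv j) 1) :
    S.psi (bth D) = tr (e 0) * tr (e 2) * tr (f 1) := by
  rw [bth, map_mul, map_mul, hD 0 (by norm_num), hD 5 (by norm_num), hD 6 (by norm_num)]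
  rfl

/-- `t` is not conjugate to the representative of `b3` -/
theorem not_bth (S : Sit G Q t) (hs : SpinHyp S.rho) (hwc : Pair.WC Q t)
    {D : ℕ → Subgroup.centralizer ({t} : Set G)}
    (hD : ∀ j, j < 7 → S.psi (D j) = transv (uv j) 1) : ¬ IsConj t ((bth D :) : G) := by
  intro hc
  obtain ⟨g, hg⟩ := isConj_iff.1 hc
  have hcomm : ((bth D :) : G) * t = t * ((bth D :) : G) :=
    Subgroup.mem_centralizer_singleton_iff.1 (bth D).2
  have hg' : g * t * g⁻¹ * t = t * (g * t * g⁻¹) := by rw [hg]; exact hcomm
  apply Delta.not_delta S hs hwc hg' (a := e 0) (b := e 2) (c := f 1) (by decide +kernel)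
    ⟨by decide +kernel, by decide +kernel, by decide +kernel⟩
  rw [← psi_bth S hD]
  congr 1
  exact Subtype.ext hg

/-- the fusion of `t`, given the exclusions of the classes `t b1`, `c2`, `t c2`, `alpha3` -/
theorem fusion_of [Finite G] (hO : Cfsg.oddCore G = ⊥) (hZ : Subgroup.center G = ⊥)
    (S : Sit G Q t) (hs : SpinHyp S.rho) {ev : QM →* Subgroup.centralizer ({t} : Set G)}
    {D : ℕ → Subgroup.centralizer ({t} : Set G)} (R : Rels false (tc t) ev D)
    (hD : ∀ j, j < 7 → S.psi (D j) = transv (uv j) 1) (P : Pre (tc t) ev S.psi)
    (htb1 : ¬ IsConj t ((D 0 : G) * t)) (hc2 : ¬ IsConj t ((D 0 : G) * D 3))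
    (htc2 : ¬ IsConj t ((D 0 : G) * D 3 * t))
    (ha3 : ¬ IsConj t ((ev (dec 1) * lin D : Subgroup.centralizer ({t} : Set G)) : G))
    (hI : ∀ g : G, g * t * g⁻¹ = (D 0 : G) → Q ⊓ Q.map (MulAut.conj g).toMonoidHom = ⊥) :
    ∀ x : Subgroup.centralizer ({t} : Set G), IsConj t (x : G) ↔ (x : G) = t ∨
      IsConj (D 0) x ∨ IsConj (tc t * (D 3 * D 5 * D 6)) x := by
  have htt := S.large.z_sq
  have hwc := WeakB1.wc S hs
  obtain ⟨Pc⟩ := Code.exists_ctx S hs
  obtain ⟨σ, hσ, hσD, -⟩ := Section.exists_section R S.psi hD
  have hbth := not_bth S hs hwc hD
  have hcm : ∀ c : Subgroup.centralizer ({t} : Set G), (c : G) * t = t * c := fun c =>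
    Subgroup.mem_centralizer_singleton_iff.1 c.2
  -- the line element
  have hlin : ((lin D :) : G) = sg σ (line (f 1 + e 2) (e 2)) := by
    rw [Swap.line_al]
    unfold sg
    rw [map_mul, map_mul]
    have h3 : σ (tr (f 1 + e 2)) = D 3 := hσD 3 (by norm_num)
    have h5 : σ (tr (e 2)) = D 5 := hσD 5 (by norm_num)
    have h6 : σ (tr (f 1)) = D 6 := hσD 6 (by norm_num)
    rw [h3, h5, h6]
    rfl
  have hl1 : IsConj t ((lin D :) : G) → IsConj t (sg σ (line (e 0) (e 1))) := by
    intro h
    rw [hlin] at h
    exact isConj_sg σ Swap.isLine_al isLine_e01 h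
  have hl2 : IsConj t (t * ((lin D :) : G)) → IsConj t (t * sg σ (line (e 0) (e 1))) := by
    intro h
    rw [hlin] at h
    exact isConj_t_sg σ Swap.isLine_al isLine_e01 h
  -- classes of elements of `F`
  have hcase : ∀ x : Subgroup.centralizer ({t} : Set G), IsConj t (x : G) → (x : G) ≠ t →
      (∃ g : Subgroup.centralizer ({t} : Set G), g * x * g⁻¹ = D 0) ∨
      (∃ g : Subgroup.centralizer ({t} : Set G), g * x * g⁻¹ = lin D) ∨
      (∃ g : Subgroup.centralizer ({t} : Set G), g * x * g⁻¹ = tc t * lin D) := by
    intro x hc hne
    have hxx : x * x = 1 := by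
      apply Subtype.ext
      obtain ⟨g, hg⟩ := isConj_iff.1 hc
      show (x : G) * x = 1
      rw [← hg]
      calc g * t * g⁻¹ * (g * t * g⁻¹) = g * (t * t) * g⁻¹ := by group
        _ = 1 := by rw [htt]; group
    have hxQ : x ∉ ev.range := by
      rw [ev_mem S P]
      intro h
      exact hne (hwc.eq_of_mem h hc)
    have hno : ∀ {y g : Subgroup.centralizer ({t} : Set G)}, g * x * g⁻¹ = y → IsConj t (y : G) :=
      fun h => hc.trans (isConj_of h)
    rcases inv_list R P hD hxx hxQ with ⟨-, ⟨g, h⟩ | ⟨g, h⟩ | ⟨g, h⟩ | ⟨g, h⟩⟩ | ⟨g, h⟩ | ⟨g, h⟩ | ⟨g, h⟩ | ⟨g, h⟩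
    · exact Or.inl ⟨g, h⟩
    · exact absurd (hno h) htb1
    · exact absurd (hno h) hc2
    · exact absurd (hno h) htc2
    · exact Or.inr (Or.inl ⟨g, h⟩)
    · right; right
      refine ⟨g, ?_⟩
      rw [h]
      exact Subtype.ext (hcm _)
    · exact absurd (hno h) ha3
    · exact absurd (hno h) hbth
  -- conjugates of `t` times `t`
  have hconjt : ∀ {x y : G}, x * t = t * x → (∃ c : G, c * t = t * c ∧ c * x * c⁻¹ = y) →
      ∃ c : G, c * t = t * c ∧ c * (t * x) * c⁻¹ = t * y := by
    rintro x y hx ⟨c, hc1, hc2⟩
    refine ⟨c, hc1, ?_⟩
    calc c * (t * x) * c⁻¹ = (c * t) * x * c⁻¹ := by group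
      _ = t * (c * x * c⁻¹) := by rw [hc1]; group
      _ = t * y := by rw [hc2]
  -- the line class itself is not fused
  have hA2 : ¬ IsConj t ((lin D :) : G) := by
    intro hc
    have h0 := hl1 hc
    refine not_sline S σ hs ?_ h0
    intro x hx hcx hctx
    by_cases hxt : x = t
    · rw [hxt, htt] at hctx
      obtain ⟨g, hg⟩ := isConj_iff.1 hctx
      have : t = 1 := by
        have h1 : t = g⁻¹ * (g * t * g⁻¹) * g := by group
        rw [h1, hg]; group
      exact S.large.z_ne this
    · have hxm : x ∈ Subgroup.centralizer ({t} : Set G) := Subgroup.mem_centralizer_singleton_iff.2 hx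
      rcases hcase ⟨x, hxm⟩ hcx hxt with ⟨g, h⟩ | ⟨g, h⟩ | ⟨g, h⟩
      · apply htb1
        obtain ⟨c, hc1, hc2⟩ := hconjt hx ⟨g, hcm g, congrArg Subtype.val h⟩
        rw [hcm]
        exact hctx.trans (isConj_iff.2 ⟨c, hc2⟩)
      · obtain ⟨c, hc1, hc2⟩ := hconjt hx ⟨g, hcm g, congrArg Subtype.val h⟩
        exact not_both S σ hσ hs hwc (hl2 (hctx.trans (isConj_iff.2 ⟨c, hc2⟩))) h0
      · have h1 : IsConj t (t * ((lin D :) : G)) := hcx.trans (isConj_of h)
        exact not_both S σ hσ hs hwc (hl2 h1) h0
  have hcase' : ∀ x : Subgroup.centralizer ({t} : Set G), IsConj t (x : G) → (x : G) ≠ t →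
      (∃ g : Subgroup.centralizer ({t} : Set G), g * x * g⁻¹ = D 0) ∨
      (∃ g : Subgroup.centralizer ({t} : Set G), g * x * g⁻¹ = tc t * lin D) := by
    intro x hc hne
    rcases hcase x hc hne with h | ⟨g, h⟩ | h
    · exact Or.inl h
    · exact absurd (hc.trans (isConj_of h)) hA2
    · exact Or.inr h
  -- there is a fused element
  obtain ⟨g0, hg0, hg1⟩ := ZUse.exists_fused hO hZ htt S.large.z_ne
  have hx0 : g0 * t * g0⁻¹ ∈ Subgroup.centralizer ({t} : Set G) :=
    Subgroup.mem_centralizer_singleton_iff.2 hg1
  have hcx0 : IsConj t (g0 * t * g0⁻¹) := isConj_iff.2 ⟨g0, rfl⟩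
  -- transvections are fused
  have hA1 : IsConj t (D 0 : G) := by
    by_contra hno
    have honly : ∀ x : Subgroup.centralizer ({t} : Set G), IsConj t (x : G) → (x : G) ≠ t →
        ∃ g : Subgroup.centralizer ({t} : Set G), g * x * g⁻¹ = tc t * lin D := by
      intro x hc hne
      rcases hcase' x hc hne with ⟨g, h⟩ | h
      · exact absurd (hc.trans (isConj_of h)) hno
      · exact h
    have h1 : IsConj t (t * ((lin D :) : G)) := by
      obtain ⟨g, h⟩ := honly ⟨_, hx0⟩ hcx0 hg0
      exact hcx0.trans (isConj_of h)
    refine Alpha.not_only S σ hσ hs hwc ?_ (hl2 h1)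
    intro x hx hcx
    by_cases hxt : x = t
    · exact Or.inl hxt
    right
    have hxm : x ∈ Subgroup.centralizer ({t} : Set G) := Subgroup.mem_centralizer_singleton_iff.2 hx
    obtain ⟨g, h⟩ := honly ⟨x, hxm⟩ hcx hxt
    have h' : (g : G) * x * (g : G)⁻¹ = t * ((lin D :) : G) := congrArg Subtype.val h
    obtain ⟨κ, hκ⟩ : ∃ κ, κ = S.psi g⁻¹ := ⟨_, rfl⟩
    refine ⟨act κ (f 1 + e 2), act κ (e 2), (g⁻¹ * (σ κ)⁻¹ : Subgroup.centralizer ({t} : Set G)),
      isLine_act κ Swap.isLine_al, ?_, ?_⟩
    · rw [← S.psi_ker, map_mul, map_inv, map_inv, hσ, hκ, map_inv, inv_inv, inv_mul_cancel]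
    · rw [← line_conj, sg_mul, sg_mul, sg_inv, ← hlin]
      have h2 : x = (g : G)⁻¹ * (t * ((lin D :) : G)) * g := by rw [← h']; group
      have h3 : sg σ κ * t = t * sg σ κ := sg_comm σ κ
      have h4 : ((g⁻¹ * (σ κ)⁻¹ : Subgroup.centralizer ({t} : Set G)) : G) = (g : G)⁻¹ * (sg σ κ)⁻¹ := rfl
      rw [h4, h2]
      have h5 : (sg σ κ)⁻¹ * (t * (sg σ κ * ((lin D :) : G) * (sg σ κ)⁻¹)) = t * ((lin D :) : G) * (sg σ κ)⁻¹ := by
        calc (sg σ κ)⁻¹ * (t * (sg σ κ * ((lin D :) : G) * (sg σ κ)⁻¹))
            = (sg σ κ)⁻¹ * (t * sg σ κ) * ((lin D :) : G) * (sg σ κ)⁻¹ := by group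
          _ = (sg σ κ)⁻¹ * (sg σ κ * t) * ((lin D :) : G) * (sg σ κ)⁻¹ := by rw [h3]
          _ = _ := by group
      calc (g : G)⁻¹ * (t * ((lin D :) : G)) * g
          = (g : G)⁻¹ * (t * ((lin D :) : G) * (sg σ κ)⁻¹) * ((g : G)⁻¹ * (sg σ κ)⁻¹)⁻¹ := by group
        _ = (g : G)⁻¹ * ((sg σ κ)⁻¹ * (t * (sg σ κ * ((lin D :) : G) * (sg σ κ)⁻¹))) *
            ((g : G)⁻¹ * (sg σ κ)⁻¹)⁻¹ := by rw [h5]
        _ = _ := by group
  -- the class of `t * line` is fused
  have hA3 : IsConj t (t * ((lin D :) : G)) := by
    by_contra hno
    have hpa : S.ps (hcm (D 0)) = tr (e 0) := hD 0 (by norm_num)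
    refine OnlyB1.not_only S Pc (hcm (D 0)) hpa hA1 ?_ hI
    intro x hx hcx
    by_cases hxt : x = t
    · exact Or.inl hxt
    right
    have hxm : x ∈ Subgroup.centralizer ({t} : Set G) := Subgroup.mem_centralizer_singleton_iff.2 hx
    rcases hcase' ⟨x, hxm⟩ hcx hxt with ⟨g, h⟩ | ⟨g, h⟩
    · exact ⟨g, hcm g, congrArg Subtype.val h⟩
    · exact absurd (hcx.trans (isConj_of h)) hno
  intro x
  constructor
  · intro hc
    by_cases hxt : (x : G) = t
    · exact Or.inl hxt
    right
    rcases hcase' x hc hxt with ⟨g, h⟩ | ⟨g, h⟩
    · exact Or.inl (isConj_iff.2 ⟨g, h⟩).symm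
    · exact Or.inr (isConj_iff.2 ⟨g, h⟩).symm
  · rintro (h | h | h)
    · rw [h]
    · obtain ⟨g, hg⟩ := isConj_iff.1 h
      exact hA1.trans (isConj_of hg)
    · obtain ⟨g, hg⟩ := isConj_iff.1 h
      exact hA3.trans (isConj_of hg)

end Cfsg.Agent.Co2Type.FusionB2
end

-- part: Co2Type/FusionB3
section
/-!
# The fusion of `t` in groups of type `Co2` (R03; helper143): transvections

`htb1` and `hI` of `FusionB2.fusion_of` from helper595's `Duo`.
-/

set_option autoImplicit false

namespace Cfsg.Agent.Co2Type.FusionB3

open Cfsg Cfsg.Agent.Co2Type.Quad Cfsg.Agent.Co2Type.Setup Cfsg.Agent.Co2Type.Spin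
open Cfsg.Agent.Co2Type.QModel Cfsg.Agent.Co2Type.Act Cfsg.Agent.Co2Type.Coord
open Cfsg.Agent.Co2Type.Rels Cfsg.Agent.Co2Type.Abs Cfsg.Agent.Co2Type.ExistsRels
open Cfsg.Agent.Co2Type.InvClass Cfsg.Agent.Co2Type.LineMod Cfsg.Agent.Co2Type.Alpha
open Cfsg.Agent.ClassicalGeometry.SympBasic
open Cfsg.Agent.SporRec.TwoSp6.Sp (tr act)

variable {G : Type*} [Group G] {Q : Subgroup G} {t : G}

/-- `t · b1` is not fused -/
theorem not_tb1 (S : Sit G Q t) (hs : SpinHyp S.rho) (hwc : Pair.WC Q t)
    {ev : QM →* Subgroup.centralizer ({t} : Set G)}
    {D : ℕ → Subgroup.centralizer ({t} : Set G)} (R : Rels false (tc t) ev D)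
    (hD : ∀ j, j < 7 → S.psi (D j) = transv (uv j) 1) : ¬ IsConj t ((D 0 : G) * t) := by
  obtain ⟨σ, hσ, hσD, -⟩ := Section.exists_section R S.psi hD
  have h0 : sg σ (tr (e 0)) = (D 0 : G) := by
    have : σ (tr (e 0)) = D 0 := hσD 0 (by norm_num)
    unfold sg
    rw [this]
  have h1 := CosetB.not_tb1 hσ hs hwc (h := e 0) (by decide +kernel)
  rw [h0] at h1
  have h2 : (D 0 : G) * t = t * (D 0 : G) := Subgroup.mem_centralizer_singleton_iff.1 (D 0).2
  rwa [h2]

/-- `Q ∩ Q' = 1` for a conjugate of `t` over a transvection -/
theorem inf_b1 (S : Sit G Q t) (hs : SpinHyp S.rho) (hwc : Pair.WC Q t)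
    {ev : QM →* Subgroup.centralizer ({t} : Set G)}
    {D : ℕ → Subgroup.centralizer ({t} : Set G)} (R : Rels false (tc t) ev D)
    (hD : ∀ j, j < 7 → S.psi (D j) = transv (uv j) 1) (g : G) (hg : g * t * g⁻¹ = (D 0 : G)) :
    Q ⊓ Q.map (MulAut.conj g).toMonoidHom = ⊥ := by
  obtain ⟨σ, hσ, hσD, -⟩ := Section.exists_section R S.psi hD
  have h0 : sg σ (tr (e 0)) = (D 0 : G) := by
    have : σ (tr (e 0)) = D 0 := hσD 0 (by norm_num)
    unfold sg
    rw [this]
  have d : CosetB.Duo S (S.conj g) σ (tr (e 0)) (e 0) := by
    refine ⟨hσ, hs, hwc, hwc.conj g, isConj_iff.2 ⟨g, rfl⟩, Or.inl ⟨by decide +kernel, rfl⟩, Or.inl ?_⟩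
    rw [hg, h0]
  exact (Subgroup.eq_bot_iff_forall _).2 fun x hx => d.inf_eq (Subgroup.mem_inf.1 hx).1 (Subgroup.mem_inf.1 hx).2

/-- every fused involution of `C(t)` is, up to `C(t)`-conjugacy, `σ r` or `t σ r` for `r` centralising two
non-commuting transvections -/
theorem good (S : Sit G Q t) (hs : SpinHyp S.rho) (hwc : Pair.WC Q t)
    {ev : QM →* Subgroup.centralizer ({t} : Set G)}
    {D : ℕ → Subgroup.centralizer ({t} : Set G)} (R : Rels false (tc t) ev D)
    (hD : ∀ j, j < 7 → S.psi (D j) = transv (uv j) 1) (P : Pre (tc t) ev S.psi)
    {σ : Sp6 →* Subgroup.centralizer ({t} : Set G)} (hσD : ∀ j, j < 7 → σ (transv (uv j) 1) = D j)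
    (ha3 : ¬ IsConj t ((ev (dec 1) * lin D : Subgroup.centralizer ({t} : Set G)) : G)) :
    ∀ z : G, z * t = t * z → IsConj t z → z ≠ t → ∃ c : G, c * t = t * c ∧
      ∃ (r : Sp6) (p p' : U), sf p p' = 1 ∧ r * tr p = tr p * r ∧ r * tr p' = tr p' * r ∧
        (z = c * sg σ r * c⁻¹ ∨ z = c * (t * sg σ r) * c⁻¹) := by
  intro z hz hc hne
  have htt := S.large.z_sq
  have hcm : ∀ c : Subgroup.centralizer ({t} : Set G), (c : G) * t = t * c := fun c =>
    Subgroup.mem_centralizer_singleton_iff.1 c.2
  have hzm : z ∈ Subgroup.centralizer ({t} : Set G) := Subgroup.mem_centralizer_singleton_iff.2 hz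
  set x : Subgroup.centralizer ({t} : Set G) := ⟨z, hzm⟩ with hx
  have hxx : x * x = 1 := by
    apply Subtype.ext
    obtain ⟨g, hg⟩ := isConj_iff.1 hc
    show z * z = 1
    rw [← hg]
    calc g * t * g⁻¹ * (g * t * g⁻¹) = g * (t * t) * g⁻¹ := by group
      _ = 1 := by rw [htt]; group
  have hxQ : x ∉ ev.range := by
    rw [FusionB2.ev_mem S P]
    intro h
    exact hne (hwc.eq_of_mem h hc)
  have hno : ∀ {y g : Subgroup.centralizer ({t} : Set G)}, g * x * g⁻¹ = y → IsConj t (y : G) :=
    fun h => hc.trans (FusionB2.isConj_of h)
  have hback : ∀ {y g : Subgroup.centralizer ({t} : Set G)}, g * x * g⁻¹ = y →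
      z = ((g⁻¹ : Subgroup.centralizer ({t} : Set G)) : G) * (y : G) *
        ((g⁻¹ : Subgroup.centralizer ({t} : Set G)) : G)⁻¹ := by
    intro y g h
    have h1 : (g : G) * z * (g : G)⁻¹ = y := congrArg Subtype.val h
    rw [← h1, Subgroup.coe_inv]
    group
  have s0 : sg σ (tr (e 0)) = (D 0 : G) := by
    have : σ (tr (e 0)) = D 0 := hσD 0 (by norm_num)
    unfold sg
    rw [this]
  have s03 : sg σ (tr (e 0) * tr (f 1 + e 2)) = (D 0 : G) * D 3 := by
    have h3 : σ (tr (f 1 + e 2)) = D 3 := hσD 3 (by norm_num)
    rw [sg_mul, s0]
    unfold sg
    rw [h3]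
  have sl : sg σ (line (f 1 + e 2) (e 2)) = ((lin D :) : G) := by
    rw [Swap.line_al]
    unfold sg
    rw [map_mul, map_mul]
    have h3 : σ (tr (f 1 + e 2)) = D 3 := hσD 3 (by norm_num)
    have h5 : σ (tr (e 2)) = D 5 := hσD 5 (by norm_num)
    have h6 : σ (tr (f 1)) = D 6 := hσD 6 (by norm_num)
    rw [h3, h5, h6]
    rfl
  have tc : ∀ {u w : U}, sf u w = 0 → tr u * tr w = tr w * tr u := fun h =>
    SporRec.TwoSp6.Sp.tr_comm h
  have c0 : ∀ p : U, sf (e 0) p = 0 → tr (e 0) * tr p = tr p * tr (e 0) := fun p h => tc h
  have c03 : ∀ p : U, sf (e 0) p = 0 → sf (f 1 + e 2) p = 0 →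
      tr (e 0) * tr (f 1 + e 2) * tr p = tr p * (tr (e 0) * tr (f 1 + e 2)) := by
    intro p h1 h2
    rw [mul_assoc, tc h2, ← mul_assoc, tc h1, mul_assoc]
  have cl : ∀ p : U, sf (f 1 + e 2) p = 0 → sf (e 2) p = 0 →
      line (f 1 + e 2) (e 2) * tr p = tr p * line (f 1 + e 2) (e 2) := fun p h1 h2 =>
    line_comm_tr h1 h2
  have htm : ∀ y : Subgroup.centralizer ({t} : Set G), (((y * ExistsRels.tc t :
      Subgroup.centralizer ({t} : Set G)) : G)) = t * y := fun y => hcm y
  rcases InvClass2.inv_list R P hD hxx hxQ with
    ⟨-, ⟨g, h⟩ | ⟨g, h⟩ | ⟨g, h⟩ | ⟨g, h⟩⟩ | ⟨g, h⟩ | ⟨g, h⟩ | ⟨g, h⟩ | ⟨g, h⟩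
  · refine ⟨_, hcm g⁻¹, tr (e 0), e 1, f 1, by decide +kernel, c0 _ (by decide +kernel),
      c0 _ (by decide +kernel), Or.inl ?_⟩
    rw [s0]; exact hback h
  · refine ⟨_, hcm g⁻¹, tr (e 0), e 1, f 1, by decide +kernel, c0 _ (by decide +kernel),
      c0 _ (by decide +kernel), Or.inr ?_⟩
    rw [s0, ← htm]; exact hback h
  · refine ⟨_, hcm g⁻¹, tr (e 0) * tr (f 1 + e 2), e 2, f 2 + e 1, by decide +kernel,
      c03 _ (by decide +kernel) (by decide +kernel), c03 _ (by decide +kernel) (by decide +kernel),
      Or.inl ?_⟩
    rw [s03]; exact hback h
  · refine ⟨_, hcm g⁻¹, tr (e 0) * tr (f 1 + e 2), e 2, f 2 + e 1, by decide +kernel,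
      c03 _ (by decide +kernel) (by decide +kernel), c03 _ (by decide +kernel) (by decide +kernel),
      Or.inr ?_⟩
    rw [s03]
    have := hback h
    rw [htm] at this
    exact this
  · refine ⟨_, hcm g⁻¹, line (f 1 + e 2) (e 2), e 0, f 0, by decide +kernel,
      cl _ (by decide +kernel) (by decide +kernel), cl _ (by decide +kernel) (by decide +kernel),
      Or.inl ?_⟩
    rw [sl]; exact hback h
  · refine ⟨_, hcm g⁻¹, line (f 1 + e 2) (e 2), e 0, f 0, by decide +kernel,
      cl _ (by decide +kernel) (by decide +kernel), cl _ (by decide +kernel) (by decide +kernel),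
      Or.inr ?_⟩
    rw [sl, ← htm]; exact hback h
  · exact absurd (hno h) ha3
  · exact absurd (hno h) (FusionB2.not_bth S hs hwc hD)

/-- the fusion of `t`, given the exclusions of the classes `c2`, `t c2`, `alpha3` -/
theorem fusion_of [Finite G] (hO : Cfsg.oddCore G = ⊥) (hZ : Subgroup.center G = ⊥)
    (S : Sit G Q t) (hs : SpinHyp S.rho) {ev : QM →* Subgroup.centralizer ({t} : Set G)}
    {D : ℕ → Subgroup.centralizer ({t} : Set G)} (R : Rels false (tc t) ev D)
    (hD : ∀ j, j < 7 → S.psi (D j) = transv (uv j) 1) (P : Pre (tc t) ev S.psi)
    (hc2 : ¬ IsConj t ((D 0 : G) * D 3)) (htc2 : ¬ IsConj t ((D 0 : G) * D 3 * t))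
    (ha3 : ¬ IsConj t ((ev (dec 1) * lin D : Subgroup.centralizer ({t} : Set G)) : G)) :
    ∀ x : Subgroup.centralizer ({t} : Set G), IsConj t (x : G) ↔ (x : G) = t ∨
      IsConj (D 0) x ∨ IsConj (tc t * (D 3 * D 5 * D 6)) x :=
  FusionB2.fusion_of hO hZ S hs R hD P (not_tb1 S hs (WeakB1.wc S hs) R hD) hc2 htc2 ha3
    (fun g hg => inf_b1 S hs (WeakB1.wc S hs) R hD g hg)

end Cfsg.Agent.Co2Type.FusionB3
end

-- part: Co2Type/DuoC
section
/-!
# No fused involution over `c2` (R03, Co2 type, helper595)

`Good σ z`: `z = c (σ r) c⁻¹` or `z = c (t σ r) c⁻¹`, `c ∈ C(t)`, `r` commuting with a hyperbolic pair of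
transvections.  If all fused `z ≠ t` are good then no fused involution lies over `c2`.
-/

set_option autoImplicit false

namespace Cfsg.Agent.Co2Type.CosetB

open Cfsg Subgroup Cfsg.Agent.Co2Type.Quad Cfsg.Agent.Co2Type.Setup Cfsg.Agent.Co2Type.Spin
open Cfsg.Agent.Co2Type.LineMod Cfsg.Agent.Co2Type.Alpha Cfsg.Agent.Co2Type.R5
open Cfsg.Agent.Co2Type.Pair
open Cfsg.Agent.SporRec.TwoSp6
open Cfsg.Agent.SporRec.TwoSp6.Sp (tr act act_om act_add act_mul act_one conj_tr tr_comm tr_sq act_tr)

variable {G : Type*} [Group G] {Q Q' : Subgroup G} {t s : G}

/-- good involutions -/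
def Good (σ : Sp6 →* centralizer ({t} : Set G)) (z : G) : Prop :=
  ∃ c, c * t = t * c ∧ ∃ r : Sp6, ∃ p p' : U, sf p p' = 1 ∧ r * tr p = tr p * r ∧
    r * tr p' = tr p' * r ∧ (z = c * sg σ r * c⁻¹ ∨ z = c * (t * sg σ r) * c⁻¹)

/-- if `z` is good then no `y ∈ Q` outside `⟨t⟩` commutes with `C(t) ∩ C(z)` -/
theorem Good.elim {S : Sit G Q t} {σ : Sp6 →* centralizer ({t} : Set G)}
    (hσ : ∀ g, S.psi (σ g) = g) (hs : SpinHyp S.rho) {z : G} (hz : Good σ z) {y : G} (hy : y ∈ Q)
    (hcomm : ∀ a, a * t = t * a → a * z = z * a → a * y = y * a) : y = 1 ∨ y = t := by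
  obtain ⟨c, hct, r, p, p', hpp, c1, c2, hz⟩ := hz
  have hcit : c⁻¹ * t = t * c⁻¹ := (show Commute c t from hct).inv_left
  have hy' : c⁻¹ * y * c ∈ Q := by
    have := S.large.conj_mem c⁻¹ hcit y hy
    rwa [inv_inv] at this
  have key : ∀ p : U, r * tr p = tr p * r → n S.rho p (S.large.pr ⟨_, hy'⟩) = 0 := by
    intro p hp
    have hpt := sg_comm σ (tr p)
    have h1 : sg σ (tr p) * sg σ r = sg σ r * sg σ (tr p) := by rw [← sg_mul, ← hp, sg_mul]
    set a := c * sg σ (tr p) * c⁻¹ with ha
    have hat : a * t = t * a := by
      have e1 : Commute c t := hct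
      have e2 : Commute (sg σ (tr p)) t := hpt
      exact ((e1.mul_left e2).mul_left e1.inv_left)
    have haz : a * z = z * a := by
      rcases hz with rfl | rfl
      · calc c * sg σ (tr p) * c⁻¹ * (c * sg σ r * c⁻¹) = c * (sg σ (tr p) * sg σ r) * c⁻¹ := by group
          _ = c * (sg σ r * sg σ (tr p)) * c⁻¹ := by rw [h1]
          _ = _ := by rw [ha]; group
      · calc c * sg σ (tr p) * c⁻¹ * (c * (t * sg σ r) * c⁻¹)
            = c * ((sg σ (tr p) * t) * sg σ r) * c⁻¹ := by group
          _ = c * (t * (sg σ (tr p) * sg σ r)) * c⁻¹ := by rw [hpt]; group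
          _ = c * (t * (sg σ r * sg σ (tr p))) * c⁻¹ := by rw [h1]
          _ = _ := by rw [ha]; group
    have h2 := hcomm a hat haz
    have h3 : sg σ (tr p) * (c⁻¹ * y * c) * (sg σ (tr p))⁻¹ = c⁻¹ * y * c := by
      calc sg σ (tr p) * (c⁻¹ * y * c) * (sg σ (tr p))⁻¹
          = c⁻¹ * (c * sg σ (tr p) * c⁻¹ * y) * c * (sg σ (tr p))⁻¹ := by group
        _ = c⁻¹ * (y * (c * sg σ (tr p) * c⁻¹)) * c * (sg σ (tr p))⁻¹ := by rw [← ha, h2]
        _ = _ := by group
    have h4 := pr_conj S σ (tr p) ⟨_, hy'⟩ (conj_mem S hpt hy') hσ
    have h5 : S.rho (tr p) (S.large.pr ⟨_, hy'⟩) = S.large.pr ⟨_, hy'⟩ := by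
      rw [← h4]
      congr 1
      exact Subtype.ext h3
    rw [rho_tr] at h5
    exact add_eq_left.1 h5
  have h8 := n_anticomm_apply hs p p' (S.large.pr ⟨_, hy'⟩)
  rw [key p c1, key p' c2, map_zero, map_zero, hpp, one_smul, zero_add] at h8
  rcases S.large.pr_eq_zero.1 h8.symm with h9 | h9
  · left
    simp only at h9
    calc y = c * (c⁻¹ * y * c) * c⁻¹ := by group
      _ = 1 := by rw [h9]; group
  · right
    simp only at h9
    calc y = c * (c⁻¹ * y * c) * c⁻¹ := by group
      _ = c * t * c⁻¹ := by rw [h9]
      _ = t := by rw [hct, mul_inv_cancel_right]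

/-- `x` lies in `⟨h⟩` if it is orthogonal to `h` and to `e_1, e_2, f_1, f_2` of a basis with `e_0 = h` -/
theorem eq_of_perp {w : U} (h0 : sf (e 0) w = 0) (h1 : sf (e 1) w = 0) (h2 : sf (e 2) w = 0)
    (h3 : sf (f 1) w = 0) (h4 : sf (f 2) w = 0) : w = 0 ∨ w = e 0 := by
  have k : ∀ w : U, sf (e 0) w = w (Sum.inr 0) ∧ sf (e 1) w = w (Sum.inr 1) ∧
      sf (e 2) w = w (Sum.inr 2) ∧ sf (f 1) w = w (Sum.inl 1) ∧ sf (f 2) w = w (Sum.inl 2) := by
    intro w
    refine ⟨?_, ?_, ?_, ?_, ?_⟩
    · exact ClassicalGeometry.SympBasic.sympForm_single_inl_left 0 w |>.trans (by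
        first | rfl | rw [ZModModule.neg_eq_self])
    · exact ClassicalGeometry.SympBasic.sympForm_single_inl_left 1 w |>.trans (by
        first | rfl | rw [ZModModule.neg_eq_self])
    · exact ClassicalGeometry.SympBasic.sympForm_single_inl_left 2 w |>.trans (by
        first | rfl | rw [ZModModule.neg_eq_self])
    · exact ClassicalGeometry.SympBasic.sympForm_single_inr_left 1 w
    · exact ClassicalGeometry.SympBasic.sympForm_single_inr_left 2 w
  obtain ⟨k0, k1, k2, k3, k4⟩ := k w
  rw [k0] at h0
  rw [k1] at h1
  rw [k2] at h2
  rw [k3] at h3
  rw [k4] at h4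
  rcases zmod2_cases (w (Sum.inl 0)) with h5 | h5
  · left
    funext i
    rcases i with i | i <;> fin_cases i
    · exact h5
    · exact h3
    · exact h4
    · exact h0
    · exact h1
    · exact h2
  · right
    funext i
    rcases i with i | i <;> fin_cases i
    · exact h5
    · exact h3
    · exact h4
    · exact h0
    · exact h1
    · exact h2

namespace Duo

variable {S : Sit G Q t} {S' : Sit G Q' s} {σ : Sp6 →* centralizer ({t} : Set G)} {h : U} {a b : U}

/-- test vectors -/
def xt (k : Fin 4) : U := ![e 1, e 2, f 1, f 2] k

/-- in the case `c2` some element of `D'` lies over `d_h` -/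
theorem c2_exists (d : Duo S S' σ (tr a * tr b) (a + b)) (hl : IsLine a b) :
    ∃ y, ∃ hy : y ∈ dsub Q' t, S.ps (mem_dsub.1 hy).2 = tr (a + b) := by
  classical
  by_contra hno
  push Not at hno
  have hts : t * s = s * t := d.st.symm
  have hcard := card_cent_ge S' hts S.large.z_sq
  have hfin : Finite (dsub Q' t) := (Nat.card_pos_iff.1 (by omega)).2
  have hhne : a + b ≠ 0 := d.H.ne
  have hab := hl.2.2.2
  have hha : sf (a + b) a = 0 := by rw [sf_add', sf_self, sf_comm b a, hab, add_zero]
  have hline : IsLine (a + b) a := by
    refine ⟨hhne, hl.1, ?_, hha⟩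
    intro h0
    apply hl.2.1
    have h1 : a + (a + b) = a + a := by rw [← h0]
    rwa [← add_assoc, Sp.add_self, zero_add] at h1
  obtain ⟨g, hg1, hg2⟩ := exists_act_line isLine_e01 hline
  have hom : ∀ x y : U, sf (act g x) (act g y) = sf x y := act_om g
  have hyt : ∀ y : dsub Q' t, (y : G) * t = t * y := fun y => (mem_dsub.1 y.2).2
  -- the injective map
  let F : dsub Q' t → (Fin 4 → Bool) := fun y k =>
    decide (act (S.ps (hyt y)) (act g (xt k)) = act g (xt k))
  have hxh : ∀ k, sf (act g (xt k)) (a + b) = 0 := by
    intro k
    rw [← hg1, hom]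
    fin_cases k
    · exact sf_e_e 1 0
    · exact sf_e_e 2 0
    · show sf (f 1) (e 0) = 0
      rw [sf_f_e]; rfl
    · show sf (f 2) (e 0) = 0
      rw [sf_f_e]; rfl
  -- the action of an element over `w`
  have hact : ∀ (y : dsub Q' t) (w : U), sf (a + b) w = 0 → (S.ps (hyt y) = line (a + b) w ∨
      S.ps (hyt y) = tr (a + b) * line (a + b) w) → ∀ x, sf x (a + b) = 0 →
      act (S.ps (hyt y)) x = x + sf x w • (a + b) := by
    intro y w hw hps x hx
    have e1 : act (line (a + b) w) x = x + sf x w • (a + b) := by
      rw [act_line hw, hx, zero_smul, add_zero]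
    rcases hps with h1 | h1
    · rw [h1, e1]
    · rw [h1, act_mul, e1, act_tr]
      have e2 : Sp.om (x + sf x w • (a + b)) (a + b) = 0 := by
        show sf _ _ = 0
        rw [sf_add', hx, zero_add]
        have := Invol.om_smul' (sf x w) (a + b) (a + b)
        rw [show Sp.om (a + b) (a + b) = 0 from sf_self _, mul_zero] at this
        exact this
      rw [e2, zero_smul, add_zero]
  have hfixw : ∀ (y : dsub Q' t) (w : U), sf (a + b) w = 0 → (S.ps (hyt y) = line (a + b) w ∨
      S.ps (hyt y) = tr (a + b) * line (a + b) w) → ∀ k, (F y k = true ↔ sf (act g (xt k)) w = 0) := by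
    intro y w hw hps k
    simp only [F, decide_eq_true_eq]
    rw [hact y w hw hps _ (hxh k)]
    constructor
    · intro h1
      have h2 := add_eq_left.1 h1
      rcases zmod2_cases (sf (act g (xt k)) w) with h3 | h3
      · exact h3
      · rw [h3, one_smul] at h2
        exact absurd h2 hhne
    · intro h1
      rw [h1, zero_smul, add_zero]
  have hinj : ∀ y y' : dsub Q' t, F y = F y' → y⁻¹ * y' ∈ (⊥ : Subgroup (dsub Q' t)) := by
    intro y y' hyy
    rw [Subgroup.mem_bot]
    obtain ⟨w, hw, hps⟩ := d.ps_mem y.2 (hyt y)
    obtain ⟨w', hw', hps'⟩ := d.ps_mem y'.2 (hyt y')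
    obtain ⟨v, hv, hpv⟩ := d.ps_mem (y⁻¹ * y').2 (hyt (y⁻¹ * y'))
    have hww : ∀ k, sf (act g (xt k)) w = sf (act g (xt k)) w' := by
      intro k
      have h1 := hfixw y w hw hps k
      have h2 := hfixw y' w' hw' hps' k
      rw [hyy] at h1
      have h3 := h1.symm.trans h2
      rcases zmod2_cases (sf (act g (xt k)) w) with h4 | h4
      · rw [h4, h3.1 h4]
      · rcases zmod2_cases (sf (act g (xt k)) w') with h5 | h5
        · rw [h3.2 h5, h5]
        · rw [h4, h5]
    -- the product fixes all test vectors
    have hyit : (y : G)⁻¹ * t = t * (y : G)⁻¹ := (show Commute (y : G) t from hyt y).inv_left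
    have hpsm : S.ps (hyt (y⁻¹ * y')) = (S.ps (hyt y))⁻¹ * S.ps (hyt y') := by
      rw [← S.ps_inv (hyt y) hyit]
      exact S.ps_mul hyit (hyt y') (hyt (y⁻¹ * y'))
    have hfix : ∀ k, sf (act g (xt k)) v = 0 := by
      intro k
      rw [← hfixw (y⁻¹ * y') v hv hpv k]
      simp only [F, decide_eq_true_eq]
      rw [hpsm, act_mul, hact y' w' hw' hps' _ (hxh k), ← hww k,
        ← hact y w hw hps _ (hxh k), ← act_mul, inv_mul_cancel, act_one]
    -- so v ∈ ⟨h⟩
    have hv2 : act g⁻¹ v = 0 ∨ act g⁻¹ v = e 0 := by
      have hgi : ∀ x : U, sf x (act g⁻¹ v) = sf (act g x) v := by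
        intro x
        rw [← hom x (act g⁻¹ v), ← act_mul, mul_inv_cancel, act_one]
      apply eq_of_perp
      · rw [hgi, hg1]; exact hv
      · rw [hgi]; exact hfix 0
      · rw [hgi]; exact hfix 1
      · rw [hgi]; exact hfix 2
      · rw [hgi]; exact hfix 3
    have hv3 : v = 0 ∨ v = a + b := by
      have h5 : v = act g (act g⁻¹ v) := by rw [← act_mul, mul_inv_cancel, act_one]
      rcases hv2 with h6 | h6
      · left; rw [h5, h6]; exact Invol.act_zero g
      · right; rw [h5, h6, hg1]
    have hpone : S.ps (hyt (y⁻¹ * y')) = 1 ∨ S.ps (hyt (y⁻¹ * y')) = tr (a + b) := by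
      rcases hv3 with h6 | h6
      · rw [h6, line_zero, mul_one] at hpv; exact hpv
      · rw [h6, line_self, mul_one] at hpv; exact hpv
    rcases hpone with h6 | h6
    · rw [S.ps_eq_one] at h6
      exact Subtype.ext (d.inf_eq h6 (mem_dsub.1 (y⁻¹ * y').2).1)
    · exact absurd h6 (hno _ (y⁻¹ * y').2)
  obtain ⟨y, hy⟩ := surj_of_fibre (⊥ : Subgroup (dsub Q' t)) Finset.univ F (fun _ => Finset.mem_univ _)
    hinj (by
      rw [Subgroup.card_bot, Finset.card_univ, Fintype.card_fun, Fintype.card_bool, Fintype.card_fin,
        mul_one]
      exact hcard) (c := ![true, false, true, true]) (Finset.mem_univ _)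
  obtain ⟨w, hw, hps⟩ := d.ps_mem y.2 (hyt y)
  have hFk := hfixw y w hw hps
  -- `w ≡ g f_2` modulo `h`
  have hwf : act g⁻¹ (w + act g (f 2)) = 0 ∨ act g⁻¹ (w + act g (f 2)) = e 0 := by
    have hgi : ∀ x : U, sf x (act g⁻¹ (w + act g (f 2))) = sf (act g x) w + sf x (f 2) := by
      intro x
      rw [← hom x (act g⁻¹ _), ← act_mul, mul_inv_cancel, act_one, sf_add, hom]
    have k0 : sf (act g (e 1)) w = 0 := (hFk 0).1 (by rw [hy]; rfl)
    have k1 : sf (act g (e 2)) w = 1 := by
      rcases zmod2_cases (sf (act g (e 2)) w) with h1 | h1
      · exfalso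
        have := (hFk 1).2 h1
        rw [hy] at this
        exact absurd this (by decide)
      · exact h1
    have k2 : sf (act g (f 1)) w = 0 := (hFk 2).1 (by rw [hy]; rfl)
    have k3 : sf (act g (f 2)) w = 0 := (hFk 3).1 (by rw [hy]; rfl)
    apply eq_of_perp
    · rw [hgi, hg1, hw, sf_e_f]; rfl
    · rw [hgi, k0, sf_e_f]; rfl
    · rw [hgi, k1, sf_e_f]; rfl
    · rw [hgi, k2, sf_f_f, add_zero]
    · rw [hgi, k3, sf_f_f, add_zero]
  set p0 := act g (f 2) with hp0
  have hhp0 : sf (a + b) p0 = 0 := by rw [← hg1, hp0, hom, sf_e_f]; rfl
  have hlw : line (a + b) w = line (a + b) p0 := by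
    have h5 : w + p0 = act g (act g⁻¹ (w + p0)) := by rw [← act_mul, mul_inv_cancel, act_one]
    rcases hwf with h6 | h6
    · rw [h6, Invol.act_zero] at h5
      rw [Invol.eq_of_add_eq_zero h5]
    · rw [h6, hg1] at h5
      have h7 : w = p0 + (a + b) := by
        rw [← h5, ← add_assoc, add_comm p0 w, add_assoc, Sp.add_self, add_zero]
      rw [h7]
      exact line_add (a + b) p0 hhp0
  rw [hlw] at hps
  -- conjugates by `d_p`, `p ∈ ⟨a, b⟩^⊥` with `(p0, p) = 1`
  have hrp : ∀ p, sf a p = 0 → sf b p = 0 → tr a * tr b * tr p = tr p * (tr a * tr b) := by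
    intro x hx hx'
    have e1 : tr a * tr x = tr x * tr a := tr_comm hx
    have e2 : tr b * tr x = tr x * tr b := tr_comm hx'
    rw [mul_assoc, e2, ← mul_assoc, e1, mul_assoc]
  have hth : ∀ u, sf (a + b) u = 0 → tr (a + b) * line (a + b) u = line (a + b) u * tr (a + b) := by
    intro u hu
    exact (line_comm_tr (sf_self _) (by rw [sf_comm]; exact hu)).symm
  have step : ∀ p, sf a p = 0 → sf b p = 0 → sf p0 p = 1 →
      ∃ y, ∃ hy : y ∈ dsub Q' t, S.ps (mem_dsub.1 hy).2 = line (a + b) p * tr (a + b) := by
    intro p hap hbp hpp
    have hhp : sf (a + b) p = 0 := by rw [sf_add', hap, hbp, add_zero]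
    have hm := d.conj_D' (l := tr p) (hrp p hap hbp).symm y.2
    have hpt := sg_comm σ (tr p)
    have hpit : (sg σ (tr p))⁻¹ * t = t * (sg σ (tr p))⁻¹ :=
      (show Commute (sg σ (tr p)) t from hpt).inv_left
    have h1 : sg σ (tr p) * (y : G) * t = t * (sg σ (tr p) * y) := by
      rw [mul_assoc, hyt y, ← mul_assoc, hpt, mul_assoc]
    have h2 : S.ps (mem_dsub.1 hm).2 = tr p * S.ps (hyt y) * (tr p)⁻¹ := by
      rw [S.ps_mul h1 hpit (mem_dsub.1 hm).2, S.ps_mul hpt (hyt y) h1, S.ps_inv hpt hpit,
        ps_sg d.hσ]
    have hmm := mul_mem y.2 hm
    refine ⟨_, hmm, ?_⟩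
    rw [S.ps_mul (hyt y) (mem_dsub.1 hm).2 (mem_dsub.1 hmm).2, h2]
    have e1 : act (tr p) (a + b) = a + b := by
      rw [act_tr]
      have : Sp.om (a + b) p = 0 := hhp
      rw [this, zero_smul, add_zero]
    have e2 : act (tr p) p0 = p0 + p := by
      rw [act_tr]
      have : Sp.om p0 p = 1 := hpp
      rw [this, one_smul]
    have e3 : tr p * line (a + b) p0 * (tr p)⁻¹ = line (a + b) (p0 + p) := by
      rw [line_conj, e1, e2]
    have e4 : tr p * tr (a + b) * (tr p)⁻¹ = tr (a + b) := by rw [conj_tr, e1]
    have hq : sf (a + b) (p0 + p) = 0 := by rw [sf_add, hhp0, hhp, add_zero]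
    have e5 : line (a + b) p0 * line (a + b) (p0 + p) = line (a + b) p * tr (a + b) := by
      rw [line_mul_line' hhp0 hq (by rw [sf_add, sf_self, hpp, zero_add]), ← add_assoc, Sp.add_self,
        zero_add]
    rcases hps with h3 | h3
    · rw [h3, e3, e5]
    · have e6 : tr p * (tr (a + b) * line (a + b) p0) * (tr p)⁻¹ =
          tr (a + b) * line (a + b) (p0 + p) := by
        calc tr p * (tr (a + b) * line (a + b) p0) * (tr p)⁻¹
            = (tr p * tr (a + b) * (tr p)⁻¹) * (tr p * line (a + b) p0 * (tr p)⁻¹) := by group
          _ = _ := by rw [e4, e3]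
      rw [h3, e6]
      calc tr (a + b) * line (a + b) p0 * (tr (a + b) * line (a + b) (p0 + p))
          = tr (a + b) * (line (a + b) p0 * tr (a + b)) * line (a + b) (p0 + p) := by group
        _ = (tr (a + b) * tr (a + b)) * (line (a + b) p0 * line (a + b) (p0 + p)) := by
            rw [← hth p0 hhp0]; group
        _ = _ := by rw [tr_sq, one_mul, e5]
  -- `p = g e_2` and `p = g (e_2 + e_1)`
  have hage1 : act g (e 1) = a := hg2
  have hb1 : b = act g (e 0 + e 1) := by
    rw [act_add, hg1, hg2, add_comm a b, add_assoc, Sp.add_self, add_zero]
  have q1 : sf a (act g (e 2)) = 0 := by rw [← hage1, hom]; exact sf_e_e 1 2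
  have q2 : sf b (act g (e 2)) = 0 := by
    rw [hb1, hom, sf_add', sf_e_e, sf_e_e, add_zero]
  have q3 : sf p0 (act g (e 2)) = 1 := by rw [hp0, hom, sf_f_e]; rfl
  have hba : sf b a = 0 := by rw [sf_comm]; exact hab
  obtain ⟨y1, hy1, hps1⟩ := step (act g (e 2)) q1 q2 q3
  obtain ⟨y2, hy2, hps2⟩ := step (act g (e 2) + a) (by rw [sf_add, q1, sf_self, add_zero])
    (by rw [sf_add, q2, hba, add_zero]) (by
      have : sf p0 a = 0 := by rw [hp0, ← hage1, hom, sf_f_e]; rfl
      rw [sf_add, q3, this, add_zero])
  -- the product lies over `line h a`, and with `s` we get `d_h`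
  have hmm := mul_mem (mul_mem hy1 hy2) d.s_mem
  apply hno _ hmm
  have m1 := mul_mem hy1 hy2
  rw [S.ps_mul (mem_dsub.1 m1).2 d.st (mem_dsub.1 hmm).2,
    S.ps_mul (mem_dsub.1 hy1).2 (mem_dsub.1 hy2).2 (mem_dsub.1 m1).2, hps1, hps2, d.ps_s]
  have hhe2 : sf (a + b) (act g (e 2)) = 0 := by rw [sf_add', q1, q2, add_zero]
  have hhe2a : sf (a + b) (act g (e 2) + a) = 0 := by rw [sf_add, hhe2, hha, add_zero]
  have e7 : line (a + b) (act g (e 2)) * line (a + b) (act g (e 2) + a) = line (a + b) a := by
    have := line_mul_line (S := S) d.hs hhe2 hhe2a (by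
      rw [sf_add, sf_self, sf_comm, q1, add_zero])
    rw [this, ← add_assoc, Sp.add_self, zero_add]
  have e8 : line (a + b) a = tr (a + b) * (tr a * tr b) := by
    have h9 : tr a * tr b = tr b * tr a := tr_comm hab
    have h10 : a + b + a = b := by rw [add_comm a b, add_assoc, Sp.add_self, add_zero]
    unfold line
    rw [h10, mul_assoc]
  have e9 := hth (act g (e 2)) hhe2
  have e10 := hth (act g (e 2) + a) hhe2a
  have e11 : tr a * tr b * (tr a * tr b) = 1 := d.H.sq
  calc line (a + b) (act g (e 2)) * tr (a + b) * (line (a + b) (act g (e 2) + a) * tr (a + b)) *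
        (tr a * tr b)
      = line (a + b) (act g (e 2)) * (tr (a + b) * line (a + b) (act g (e 2) + a)) * tr (a + b) *
        (tr a * tr b) := by group
    _ = (line (a + b) (act g (e 2)) * line (a + b) (act g (e 2) + a)) * (tr (a + b) * tr (a + b)) *
        (tr a * tr b) := by rw [e10]; group
    _ = tr (a + b) * ((tr a * tr b) * (tr a * tr b)) := by rw [e7, tr_sq, e8]; group
    _ = tr (a + b) := by rw [e11, mul_one]

end Duo

/-- no fused involution lies over `c2`, if all fused involutions are good -/
theorem not_c2 {S : Sit G Q t} {σ : Sp6 →* centralizer ({t} : Set G)}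
    (hσ : ∀ g, S.psi (σ g) = g) (hs : SpinHyp S.rho) (wc : WC Q t)
    (hgood : ∀ z, z * t = t * z → IsConj t z → z ≠ t → Good σ z) {a b : U} (hl : IsLine a b) {z : G}
    (hz : z * t = t * z) (hc : IsConj t z) : S.ps hz ≠ tr a * tr b := by
  intro hps
  -- conjugate to `σ r` or `t σ r`
  have hBC : BC (tr a * tr b) (a + b) := Or.inr ⟨a, b, hl, rfl, rfl⟩
  have hzz : z * z = 1 := by
    obtain ⟨g, rfl⟩ := isConj_iff.1 hc
    calc g * t * g⁻¹ * (g * t * g⁻¹) = g * (t * t) * g⁻¹ := by group
      _ = 1 := by rw [tt S]; group
  obtain ⟨q, hq, hqz⟩ := coset S σ hσ hs hBC hz hzz hps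
  obtain ⟨s, hs1, hs2⟩ : ∃ s, IsConj t s ∧ (s = sg σ (tr a * tr b) ∨ s = t * sg σ (tr a * tr b)) := by
    rcases hqz with h1 | h1
    · exact ⟨_, hc.trans (isConj_iff.2 ⟨q, h1⟩).symm, Or.inl rfl⟩
    · exact ⟨_, hc.trans (isConj_iff.2 ⟨q, h1⟩).symm, Or.inr rfl⟩
  obtain ⟨g, hg⟩ := isConj_iff.1 hs1
  subst hg
  have d : Duo S (S.conj g) σ (tr a * tr b) (a + b) :=
    ⟨hσ, hs, wc, wc.conj g, hs1, hBC, hs2⟩
  obtain ⟨y, hy, hpy⟩ := d.c2_exists hl
  have hab := hl.2.2.2
  have hyt := (mem_dsub.1 hy).2
  -- `y` commutes with `C(t) ∩ C(s)`
  have hcomm : ∀ x, x * t = t * x → x * (g * t * g⁻¹) = g * t * g⁻¹ * x → x * y = y * x := by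
    intro x hxt hxs
    have hm : x * y * x⁻¹ ∈ dsub (Q.map (MulAut.conj g).toMonoidHom) t :=
      conj_mem_dsub (S.conj g).large hxs hxt hy
    have hxit : x⁻¹ * t = t * x⁻¹ := (show Commute x t from hxt).inv_left
    have h1 : x * y * t = t * (x * y) := by rw [mul_assoc, hyt, ← mul_assoc, hxt, mul_assoc]
    have h2 : S.ps (mem_dsub.1 hm).2 = S.ps hyt := by
      rw [S.ps_mul h1 hxit (mem_dsub.1 hm).2, S.ps_mul hxt hyt h1, S.ps_inv hxt hxit, hpy, conj_tr]
      -- `ps x` fixes `a + b`
      have h3 : S.ps hxt * (tr a * tr b) = tr a * tr b * S.ps hxt := by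
        have h4 : x * (g * t * g⁻¹) * t = t * (x * (g * t * g⁻¹)) := by
          rw [mul_assoc, d.st, ← mul_assoc, hxt, mul_assoc]
        have h5 : (g * t * g⁻¹) * x * t = t * ((g * t * g⁻¹) * x) := by rw [← hxs]; exact h4
        rw [← d.ps_s, ← S.ps_mul hxt d.st h4, ← S.ps_mul d.st hxt h5]
        unfold Sit.ps
        congr 1
        exact Subtype.ext hxs
      have h6 : ∀ x : U, Sp.om x (act (tr a * tr b) x) = Sp.om x (a + b) := by
        intro x
        have hwu : Sp.om b a = 0 := by rw [Sp.om_symm]; exact hab
        rw [act_mul, act_tr, act_tr, Sp.om_add, Sp.om_add, Sp.om_self, zero_add, Invol.om_smul,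
          Invol.om_smul, Seven.om_mul_self, Sp.om_add', Invol.om_smul', hwu, mul_zero, add_zero,
          Seven.om_mul_self, Sp.om_add]
        ring
      have h7 : act (S.ps hxt) (a + b) = a + b := by
        apply Seven.eq_of_om
        intro v
        obtain ⟨v', rfl⟩ : ∃ v', v = act (S.ps hxt) v' :=
          ⟨act (S.ps hxt)⁻¹ v, by rw [← act_mul, mul_inv_cancel, act_one]⟩
        have e1 : act (tr a * tr b) (act (S.ps hxt) v') = act (S.ps hxt) (act (tr a * tr b) v') := by
          rw [← act_mul, ← h3, act_mul]
        calc Sp.om (act (S.ps hxt) v') (act (S.ps hxt) (a + b)) = Sp.om v' (a + b) := act_om _ _ _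
          _ = Sp.om v' (act (tr a * tr b) v') := (h6 v').symm
          _ = Sp.om (act (S.ps hxt) v') (act (S.ps hxt) (act (tr a * tr b) v')) :=
            (act_om _ _ _).symm
          _ = Sp.om (act (S.ps hxt) v') (act (tr a * tr b) (act (S.ps hxt) v')) := by rw [e1]
          _ = Sp.om (act (S.ps hxt) v') (a + b) := h6 _
      rw [h7]
    have h8 := d.eq_of_ps hm hy (mem_dsub.1 hm).2 hyt h2
    rw [mul_inv_eq_iff_eq_mul] at h8
    exact h8
  -- pull back by `g`
  obtain ⟨y', hy', hyy⟩ := (mem_dsub.1 hy).1
  have hyy' : g * y' * g⁻¹ = y := hyy
  set z' := g⁻¹ * t * g with hz'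
  have hz't : z' * t = t * z' := by
    have h1 := d.st
    calc g⁻¹ * t * g * t = g⁻¹ * (t * (g * t * g⁻¹)) * g := by group
      _ = g⁻¹ * ((g * t * g⁻¹) * t) * g := by rw [h1]
      _ = t * (g⁻¹ * t * g) := by group
  have hz'c : IsConj t z' := isConj_iff.2 ⟨g⁻¹, by rw [hz', inv_inv]⟩
  have hz'ne : z' ≠ t := by
    intro h1
    apply d.t_not_mem
    have h2 : t = g * t * g⁻¹ := by
      calc t = g * (g⁻¹ * t * g) * g⁻¹ := by group
        _ = g * t * g⁻¹ := by rw [← hz', h1]
    rw [h2]
    exact (S.conj g).large.z_mem
  have hfin := (hgood z' hz't hz'c hz'ne).elim hσ hs hy' (by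
    intro x hxt hxz
    have h1 : (g * x * g⁻¹) * t = t * (g * x * g⁻¹) := by
      calc (g * x * g⁻¹) * t = g * (x * (g⁻¹ * t * g)) * g⁻¹ := by group
        _ = g * ((g⁻¹ * t * g) * x) * g⁻¹ := by rw [← hz', hxz]
        _ = _ := by group
    have h2 : (g * x * g⁻¹) * (g * t * g⁻¹) = g * t * g⁻¹ * (g * x * g⁻¹) := by
      calc (g * x * g⁻¹) * (g * t * g⁻¹) = g * (x * t) * g⁻¹ := by group
        _ = g * (t * x) * g⁻¹ := by rw [hxt]
        _ = _ := by group
    have h3 := hcomm _ h1 h2
    rw [← hyy'] at h3
    calc x * y' = g⁻¹ * ((g * x * g⁻¹) * (g * y' * g⁻¹)) * g := by group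
      _ = g⁻¹ * ((g * y' * g⁻¹) * (g * x * g⁻¹)) * g := by rw [h3]
      _ = y' * x := by group)
  rcases hfin with h1 | h1
  · have h2 : y = 1 := by rw [← hyy', h1]; group
    have h3 : S.ps hyt = 1 := by rw [S.ps_eq_one, h2]; exact one_mem Q
    rw [hpy] at h3
    have h4 : a + b ≠ 0 := hBC.ne
    obtain ⟨v, hv⟩ := exists_n_ne hs h4
    apply hv
    rw [n_apply]
    have h5 : S.rho (tr (a + b)) v = v := by rw [h3, map_one]; rfl
    have h6 : S.rho (ClassicalGeometry.SympBasic.transv (a + b) 1) v = v := h5
    rw [h6, addV]
  · have h2 : y = g * t * g⁻¹ := by rw [← hyy', h1]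
    have h3 : S.ps hyt = tr a * tr b := by
      rw [← d.ps_s]
      unfold Sit.ps
      congr 1
      exact Subtype.ext h2
    rw [hpy] at h3
    -- `d_{a+b} = d_a d_b` is impossible
    have h4 : line a b = 1 := by
      unfold line
      rw [h3]; exact hBC.sq
    exact line_ne_one S hs hl h4

end Cfsg.Agent.Co2Type.CosetB
end

-- part: Co2Type/FusionB4
section
/-!
# The fusion of `t` in groups of type `Co2` (R03; helper143): everything but `alpha3`
-/

set_option autoImplicit false

namespace Cfsg.Agent.Co2Type.FusionB4

open Cfsg Cfsg.Agent.Co2Type.Quad Cfsg.Agent.Co2Type.Setup Cfsg.Agent.Co2Type.Spin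
open Cfsg.Agent.Co2Type.QModel Cfsg.Agent.Co2Type.Act Cfsg.Agent.Co2Type.Coord
open Cfsg.Agent.Co2Type.Rels Cfsg.Agent.Co2Type.Abs Cfsg.Agent.Co2Type.ExistsRels
open Cfsg.Agent.Co2Type.InvClass Cfsg.Agent.Co2Type.LineMod Cfsg.Agent.Co2Type.Alpha
open Cfsg.Agent.ClassicalGeometry.SympBasic
open Cfsg.Agent.SporRec.TwoSp6.Sp (tr act)

variable {G : Type*} [Group G] {Q : Subgroup G} {t : G}

/-- the fusion of `t`, given the exclusion of `alpha3` -/
theorem fusion_of [Finite G] (hO : Cfsg.oddCore G = ⊥) (hZ : Subgroup.center G = ⊥)
    (S : Sit G Q t) (hs : SpinHyp S.rho) {ev : QM →* Subgroup.centralizer ({t} : Set G)}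
    {D : ℕ → Subgroup.centralizer ({t} : Set G)} (R : Rels false (tc t) ev D)
    (hD : ∀ j, j < 7 → S.psi (D j) = transv (uv j) 1) (P : Pre (tc t) ev S.psi)
    (ha3 : ¬ IsConj t ((ev (dec 1) * lin D : Subgroup.centralizer ({t} : Set G)) : G)) :
    ∀ x : Subgroup.centralizer ({t} : Set G), IsConj t (x : G) ↔ (x : G) = t ∨
      IsConj (D 0) x ∨ IsConj (tc t * (D 3 * D 5 * D 6)) x := by
  have hwc := WeakB1.wc S hs
  obtain ⟨σ, hσ, hσD, -⟩ := Section.exists_section R S.psi hD
  have hgood := FusionB3.good S hs hwc R hD P hσD ha3
  have hl : IsLine (e 0) (f 1 + e 2) := by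
    refine ⟨?_, ?_, ?_, ?_⟩ <;> decide +kernel
  have hcm : ∀ c : Subgroup.centralizer ({t} : Set G), (c : G) * t = t * c := fun c =>
    Subgroup.mem_centralizer_singleton_iff.1 c.2
  have h1 : ∀ y : Subgroup.centralizer ({t} : Set G), S.psi y = tr (e 0) * tr (f 1 + e 2) →
      ¬ IsConj t (y : G) := by
    intro y hy hc
    exact CosetB.not_c2 hσ hs hwc hgood hl (hcm y) hc hy
  have hp : S.psi (D 0 * D 3) = tr (e 0) * tr (f 1 + e 2) := by
    rw [map_mul, hD 0 (by norm_num), hD 3 (by norm_num)]
    rfl
  have hp' : S.psi (D 0 * D 3 * tc t) = tr (e 0) * tr (f 1 + e 2) := by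
    have h2 : S.psi (tc t) = 1 := (S.psi_ker _).2 S.large.z_mem
    rw [map_mul, hp, h2, mul_one]
  exact FusionB3.fusion_of hO hZ S hs R hD P (h1 (D 0 * D 3) hp) (h1 (D 0 * D 3 * tc t) hp') ha3

end Cfsg.Agent.Co2Type.FusionB4
end

-- part: Co2Type/Alpha3
section
/-!
# Groups of type `Co2`: the third class over the line elements is not fused (split case)

`u = x σ(line)`, `x ∈ Q`, `n_a n_b x̄ = 0`, `x̄ ∉ im n_a n_b`.
-/

set_option autoImplicit false

namespace Cfsg.Agent.Co2Type.Alpha3

open Cfsg Subgroup Cfsg.Agent.Co2Type.Quad Cfsg.Agent.Co2Type.Setup Cfsg.Agent.Co2Type.Spin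
open Cfsg.Agent.Co2Type.LineMod Cfsg.Agent.Co2Type.Alpha
open Cfsg.Agent.SporRec.TwoSp6.Sp (tr act conj_tr)

section Mod

variable {V : Type*} [AddCommGroup V] [Module (ZMod 2) V]
variable {rho : Sp6 →* (V ≃ₗ[ZMod 2] V)}
variable (hs : SpinHyp rho) (hcard : Nat.card V = 2 ^ 8)
variable {q : V → ZMod 2} {b0 : LinearMap.BilinForm (ZMod 2) V}
variable (hbr : ∀ g v w, b0 (rho g v) (rho g w) = b0 v w) (hbs : ∀ v, b0 v v = 0)
variable (hnd : ∀ v, (∀ w, b0 v w = 0) → v = 0)
variable (hq : ∀ v w, q (v + w) = q v + q w + b0 v w) (hqr : ∀ g v, q (rho g v) = q v)

/-- `n_a n_b` -/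
def NN (rho : Sp6 →* (V ≃ₗ[ZMod 2] V)) (v : V) : V := n rho (e 0) (n rho (e 1) v)

theorem NN_add (v w : V) : NN rho (v + w) = NN rho v + NN rho w := by
  unfold NN; rw [map_add, map_add]

theorem NN_smul (a : ZMod 2) (v : V) : NN rho (a • v) = a • NN rho v := by
  unfold NN; rw [map_smul, map_smul]

include hs in
theorem NN_swap (v : V) : NN rho v = n rho (e 1) (n rho (e 0) v) := n_comm_apply hs (sf_e_e 0 1) v

include hs hbr in
/-- `NN` is self-adjoint -/
theorem b_NN (v w : V) : b0 (NN rho v) w = b0 v (NN rho w) := by
  rw [NN, b_n_left hbr, b_n_left hbr, NN_swap hs]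

include hs hbr hnd in
/-- perpendicular to the kernel of `NN`: in the image -/
theorem im_of_perp_ker {x : V} (h : ∀ v, NN rho v = 0 → b0 x v = 0) : ∃ s, x = NN rho s := by
  refine im_of_perp hs hbr hnd isLine_e01 (fun v => h _ ?_) (fun v => h _ ?_)
  · rw [NN_swap hs, n_n_apply, map_zero]
  · rw [NN, n_n_apply, map_zero]

include hs hbr hbs hnd in
theorem n_mem (j : Fin 2) {v : V} (hv : NN rho v = 0) :
    ∃ s, n rho (e (Fin.castSucc j)) v = NN rho s := by
  have hb : ∀ v w, b0 v w = b0 w v := b_comm_of hbs
  have h0 : ∀ j : Fin 2, Fin.castSucc j = (0 : Fin 3) ∨ Fin.castSucc j = (1 : Fin 3) := by decide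
  refine im_of_perp hs hbr hnd isLine_e01 (fun w => ?_) (fun w => ?_)
  · rw [b_n_left hbr]
    rcases h0 j with h | h
    · rw [h, n_n_apply, map_zero]
    · rw [h, ← NN_swap hs, ← b_NN hs hbr, hv, map_zero, LinearMap.zero_apply]
  · rw [b_n_left hbr]
    rcases h0 j with h | h
    · rw [h]
      show b0 v (NN rho w) = 0
      rw [← b_NN hs hbr, hv, map_zero, LinearMap.zero_apply]
    · rw [h, n_n_apply, map_zero]

include hs hbr hnd in
/-- both `n` vanish: in the image -/
theorem mem_of_both {v : V} (h0 : n rho (e 0) v = 0) (h1 : n rho (e 1) v = 0) : ∃ s, v = NN rho s := by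
  refine im_of_perp hs hbr hnd isLine_e01 (fun w => ?_) (fun w => ?_)
  · rw [← b_n_left hbr, h0, map_zero, LinearMap.zero_apply]
  · rw [← b_n_left hbr, h1, map_zero, LinearMap.zero_apply]

/-- the elements trivial on `H5` -/
def H8 (rho : Sp6 →* (V ≃ₗ[ZMod 2] V)) (b0 : LinearMap.BilinForm (ZMod 2) V) (x : V) : Set Sp6 :=
  {g | ∀ v, NN rho v = 0 → b0 x v = 0 → rho g v = v}

include hs hbr hbs hnd hq hqr in
/-- `b (v, v + g v) = 0` -/
theorem alt_of_mem {x : V} (hx : NN rho x = 0) (hqx : q x = 0) (hni : ¬ ∃ s, x = NN rho s) {g : Sp6}
    (hg : g ∈ H8 rho b0 x) (v : V) : b0 v (v + rho g v) = 0 := by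
  obtain ⟨v1, hv1, hb1⟩ : ∃ v1, NN rho v1 = 0 ∧ b0 x v1 = 1 := by
    by_contra hcon
    push Not at hcon
    apply hni
    apply im_of_perp_ker hs hbr hnd
    intro v hv
    rcases zmod2_cases (b0 x v) with h | h
    · exact h
    · exact absurd h (hcon v hv)
  set m := v + rho g v with hm
  have hperp : ∀ w, NN rho w = 0 → b0 x w = 0 → b0 m w = 0 := by
    intro w hw hxw
    have h1 : b0 (rho g v) w = b0 v w := by
      conv_lhs => rw [← hg w hw hxw]
      exact hbr g v w
    rw [hm, map_add, LinearMap.add_apply, h1, zmod2_add_self]
  have hqN : ∀ s, q (NN rho s) = 0 := fun s => q_n hs hbr hbs hq hqr _ _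
  have hq0 : q m = 0 := by
    rcases zmod2_cases (b0 m v1) with h1 | h1
    · obtain ⟨s, hs1⟩ := im_of_perp_ker hs hbr hnd (x := m) (by
        intro w hw
        rcases zmod2_cases (b0 x w) with h2 | h2
        · exact hperp w hw h2
        · have h3 := hperp (w + v1) (by rw [NN_add, hw, hv1, add_zero]) (by rw [map_add, h2, hb1]; rfl)
          rw [map_add, h1, add_zero] at h3
          exact h3)
      rw [hs1, hqN]
    · obtain ⟨s, hs1⟩ := im_of_perp_ker hs hbr hnd (x := x + m) (by
        intro w hw
        rcases zmod2_cases (b0 x w) with h2 | h2
        · rw [map_add, LinearMap.add_apply, h2, hperp w hw h2, add_zero]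
        · have h3 := hperp (w + v1) (by rw [NN_add, hw, hv1, add_zero]) (by rw [map_add, h2, hb1]; rfl)
          rw [map_add, h1] at h3
          rw [map_add, LinearMap.add_apply, h2, add_comm]; exact h3)
      have h2 : m = x + NN rho s := by
        rw [← hs1, ← add_assoc, ZModModule.add_self, zero_add]
      rw [h2, hq, hqx, hqN, ← b_NN hs hbr, hx, map_zero, LinearMap.zero_apply]
      rfl
  have h5 : q (v + m) = q v := by
    rw [hm, ← add_assoc, ZModModule.add_self, zero_add, hqr]
  rw [hq, hq0, add_zero] at h5
  simpa using h5

include hs hcard hbr hbs hnd hq hqr in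
/-- at most eight elements are trivial on `H5` -/
theorem card_H8 {x : V} (hx : NN rho x = 0) (hqx : q x = 0) (hni : ¬ ∃ s, x = NN rho s)
    (hinj : Function.Injective rho) : (H8 rho b0 x).ncard ≤ 8 := by
  obtain ⟨v1, hv1, hb1⟩ : ∃ v1, NN rho v1 = 0 ∧ b0 x v1 = 1 := by
    by_contra hcon
    push Not at hcon
    apply hni
    apply im_of_perp_ker hs hbr hnd
    intro v hv
    rcases zmod2_cases (b0 x v) with h | h
    · exact h
    · exact absurd h (hcon v hv)
  obtain ⟨B, hE, hF⟩ := exists_basis hs hcard
  have z1 : ∀ I : Fin 8, (I : ℕ).testBit ((1 : Fin 3) : ℕ) = true → NN rho (B I) = 0 := by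
    intro I hI
    rw [NN, hE, if_pos hI, map_zero]
  have z0 : ∀ I : Fin 8, (I : ℕ).testBit ((0 : Fin 3) : ℕ) = true → NN rho (B I) = 0 := by
    intro I hI
    rw [NN_swap hs, hE, if_pos hI, map_zero]
  have v0 : NN rho (B 0) = B 3 := by
    rw [NN, hE, if_neg (by decide), hE, if_neg (by decide)]; rfl
  have v4 : NN rho (B 4) = B 7 := by
    rw [NN, hE, if_neg (by decide), hE, if_neg (by decide)]; rfl
  have h2 : ∀ y : V, y + y = 0 := ZModModule.add_self
  -- decomposition
  have hdec : ∀ v, ∃ (α c0 c4 : ZMod 2) (h : V), v = h + α • v1 + c0 • B 0 + c4 • B 4 ∧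
      NN rho h = 0 ∧ b0 x h = 0 := by
    intro v
    have hN : NN rho v = B.repr v 0 • B 3 + B.repr v 4 • B 7 := by
      conv_lhs => rw [← B.sum_repr v]
      rw [Fin.sum_univ_eight]
      simp only [NN_add, NN_smul]
      rw [v0, v4, z0 1 rfl, z1 2 rfl, z1 3 rfl, z0 5 rfl, z1 6 rfl, z1 7 rfl]
      simp only [_root_.Fin.isValue, _root_.smul_zero, _root_.add_zero]
    set c0 := B.repr v 0
    set c4 := B.repr v 4
    set k := v + c0 • B 0 + c4 • B 4 with hk
    have hk0 : NN rho k = 0 := by
      rw [hk, NN_add, NN_add, NN_smul, NN_smul, v0, v4, hN]
      generalize c0 • B 3 = A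
      generalize c4 • B 7 = A'
      calc A + A' + A + A' = (A + A) + (A' + A') := by abel
        _ = 0 := by rw [h2, h2, add_zero]
    refine ⟨b0 x k, c0, c4, k + b0 x k • v1, ?_, ?_, ?_⟩
    · rw [hk]
      generalize c0 • B 0 = A
      generalize c4 • B 4 = A'
      generalize b0 x (v + A + A') • v1 = A''
      calc v = v + (A + A) + (A' + A') + (A'' + A'') := by rw [h2, h2, h2]; simp
        _ = _ := by abel
    · rw [NN_add, NN_smul, hk0, hv1, smul_zero, add_zero]
    · rw [map_add, map_smul, hb1, smul_eq_mul, mul_one, zmod2_add_self]
  let φ : H8 rho b0 x → (Fin 3 → ZMod 2) := fun g =>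
    ![b0 v1 (B 0 + rho g.1 (B 0)), b0 v1 (B 4 + rho g.1 (B 4)), b0 (B 0) (B 4 + rho g.1 (B 4))]
  have hφ : Function.Injective φ := by
    rintro ⟨g, hg⟩ ⟨g', hg'⟩ hgg
    have a1 : b0 v1 (B 0 + rho g (B 0)) = b0 v1 (B 0 + rho g' (B 0)) := congrFun hgg 0
    have a2 : b0 v1 (B 4 + rho g (B 4)) = b0 v1 (B 4 + rho g' (B 4)) := congrFun hgg 1
    have a3 : b0 (B 0) (B 4 + rho g (B 4)) = b0 (B 0) (B 4 + rho g' (B 4)) := congrFun hgg 2
    set P : V →ₗ[ZMod 2] V := (rho g : V →ₗ[ZMod 2] V) + (rho g' : V →ₗ[ZMod 2] V) with hP
    have hPa : ∀ v, P v = rho g v + rho g' v := fun v => rfl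
    have hbit : ∀ u w, b0 u (w + rho g w) = b0 u (w + rho g' w) → b0 u (P w) = 0 := by
      intro u w h
      rw [map_add, map_add] at h
      rw [hPa, map_add, add_left_cancel h, zmod2_add_self]
    have hself : ∀ v, b0 v (P v) = 0 := by
      intro v
      have e1 := alt_of_mem hs hbr hbs hnd hq hqr hx hqx hni hg v
      have e2 := alt_of_mem hs hbr hbs hnd hq hqr hx hqx hni hg' v
      exact hbit v v (e1.trans e2.symm)
    have hsym : ∀ v w, b0 v (P w) = b0 w (P v) := by
      intro v w
      have e1 := hself (v + w)
      rw [map_add, map_add, LinearMap.add_apply, map_add, map_add, hself, hself, zero_add,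
        add_zero] at e1
      have : ∀ a b : ZMod 2, b + a = 0 → b = a := by decide
      exact this _ _ e1
    have hPh : ∀ h, NN rho h = 0 → b0 x h = 0 → P h = 0 := by
      intro h k1 k2
      rw [hPa, hg h k1 k2, hg' h k1 k2, h2]
    have b1 := hbit _ _ a1
    have b2 := hbit _ _ a2
    have b3 := hbit _ _ a3
    have main : ∀ y, b0 v1 (P y) = 0 → b0 (B 0) (P y) = 0 → b0 (B 4) (P y) = 0 → P y = 0 := by
      intro y k1 k2 k3
      apply hnd
      intro w
      obtain ⟨α, c0, c4, h, rfl, hh1, hh2⟩ := hdec w
      rw [b_comm_of hbs]
      have k4 : b0 h (P y) = 0 := by rw [hsym, hPh h hh1 hh2, map_zero]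
      simp only [map_add, map_smul, LinearMap.add_apply, LinearMap.smul_apply, k1, k2, k3, k4, smul_zero,
        add_zero]
    have p1 : P v1 = 0 := main _ (hself _) (by rw [hsym]; exact b1) (by rw [hsym]; exact b2)
    have p2 : P (B 0) = 0 := main _ b1 (hself _) (by rw [hsym]; exact b3)
    have p3 : P (B 4) = 0 := main _ b2 b3 (hself _)
    apply Subtype.ext
    apply hinj
    apply LinearEquiv.ext
    intro w
    have hPw : P w = 0 := by
      obtain ⟨α, c0, c4, h, rfl, hh1, hh2⟩ := hdec w
      simp only [map_add, map_smul, p1, p2, p3, hPh h hh1 hh2, smul_zero, add_zero]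
    rw [hPa] at hPw
    exact (eq_neg_of_add_eq_zero_left hPw).trans (ZModModule.neg_eq_self _)
  have h := Nat.card_le_card_of_injective φ hφ
  rw [Nat.card_eq_fintype_card (α := Fin 3 → ZMod 2)] at h
  have h3 : Fintype.card (Fin 3 → ZMod 2) = 8 := by simp [ZMod.card]
  rw [h3] at h
  exact h

end Mod

variable {G : Type*} [Group G] {Q : Subgroup G} {t : G} (S : Sit G Q t)
variable (σ : Sp6 →* centralizer ({t} : Set G)) (hσ : ∀ g, S.psi (σ g) = g) (hs : SpinHyp S.rho)

section Coset

variable {x : G} (hx : x ∈ Q) (hN : NN S.rho (S.large.pr ⟨x, hx⟩) = 0)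
  (hni : ¬ ∃ s, S.large.pr ⟨x, hx⟩ = NN S.rho s)

include S in
theorem u_comm (hx : x ∈ Q) : x * sg σ (line (e 0) (e 1)) * t = t * (x * sg σ (line (e 0) (e 1))) := by
  have h1 : x * t = t * x := comm_t S hx
  have h2 : sg σ (line (e 0) (e 1)) * t = t * sg σ (line (e 0) (e 1)) := sg_comm σ _
  rw [mul_assoc, h2, ← mul_assoc, h1, mul_assoc]

include hs hσ hN in
theorem s_comm : sg σ (line (e 0) (e 1)) * x = x * sg σ (line (e 0) (e 1)) :=
  chi S σ hσ hs isLine_e01 hx hN

include hs hσ hni in
/-- `t u` is conjugate to `u` -/
theorem exists_tu : ∃ w ∈ Q, w * (x * sg σ (line (e 0) (e 1))) * w⁻¹ =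
    t * (x * sg σ (line (e 0) (e 1))) := by
  obtain ⟨v1, hv1, hb1⟩ : ∃ v1, NN S.rho v1 = 0 ∧ S.large.b (S.large.pr ⟨x, hx⟩) v1 = 1 := by
    by_contra hcon
    push Not at hcon
    apply hni
    apply im_of_perp_ker hs S.b_rho (fun v hv => S.large.b_nondeg hv)
    intro v hv
    rcases zmod2_cases (S.large.b (S.large.pr ⟨x, hx⟩) v) with h | h
    · exact h
    · exact absurd h (hcon v hv)
  obtain ⟨w, rfl⟩ := S.large.pr_surjective v1
  refine ⟨w, w.2, ?_⟩
  have h1 : sg σ (line (e 0) (e 1)) * w = w * sg σ (line (e 0) (e 1)) := chi S σ hσ hs isLine_e01 w.2 hv1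
  have h2 : x * w = w * x * t := (S.large.b_pr_one _ _).1 hb1
  have h3 : (w : G) * t = t * w := comm_t S w.2
  have h4 : x * t = t * x := comm_t S hx
  generalize sg σ (line (e 0) (e 1)) = s at *
  have h5 : (w : G) * x = t * (x * w) := by
    rw [h2]
    calc (w : G) * x = w * x * (t * t) := by rw [tt S, mul_one]
      _ = ((w : G) * x * t) * t := by group
      _ = t * ((w : G) * x * t) := by
          rw [mul_assoc (w : G) x t, h4]
          calc (w : G) * (t * x) * t = (w * t) * (x * t) := by group
            _ = t * (w * (x * t)) := by rw [h3]; group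
            _ = _ := by rw [h4]
  calc (w : G) * (x * s) * (w : G)⁻¹ = (w * x) * s * (w : G)⁻¹ := by group
    _ = t * x * (w * s) * (w : G)⁻¹ := by rw [h5]; group
    _ = t * x * (s * w) * (w : G)⁻¹ := by rw [h1]
    _ = _ := by group

include hs hσ hni in
/-- conjugates of `u` under `Q` -/
theorem conj_of_im {m : G} (hm : m ∈ Q) (hmi : ∃ s, S.large.pr ⟨m, hm⟩ = NN S.rho s) :
    ∃ w ∈ Q, w * (x * sg σ (line (e 0) (e 1))) * w⁻¹ = m * (x * sg σ (line (e 0) (e 1))) := by
  obtain ⟨v, hv⟩ := hmi
  obtain ⟨w, rfl⟩ := S.large.pr_surjective v
  obtain ⟨w0, hw0, h0⟩ := exists_tu S σ hσ hs hx hni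
  have hut := u_comm S σ hx
  set u := x * sg σ (line (e 0) (e 1)) with hu
  have hcQ : (w : G) * u * (w : G)⁻¹ * u⁻¹ ∈ Q := Delta.cm_mem S hut w.2
  have hpsi : S.psi ⟨u, mem_centralizer_singleton_iff.2 hut⟩ = line (e 0) (e 1) := by
    have h1 : (⟨u, mem_centralizer_singleton_iff.2 hut⟩ : centralizer ({t} : Set G)) =
        ⟨x, mem_centralizer_singleton_iff.2 (comm_t S hx)⟩ * σ (line (e 0) (e 1)) := rfl
    rw [h1, map_mul, hσ, (S.psi_ker _).2 hx, one_mul]
  have hpr : S.large.pr ⟨(w : G) * u * (w : G)⁻¹ * u⁻¹, hcQ⟩ = NN S.rho (S.large.pr w) := by
    have hm2 : u * (w : G)⁻¹ * u⁻¹ ∈ Q := S.large.conj_mem u hut _ (inv_mem w.2)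
    have h1 : (⟨(w : G) * u * (w : G)⁻¹ * u⁻¹, hcQ⟩ : Q) = w * ⟨u * (w : G)⁻¹ * u⁻¹, hm2⟩ := by
      apply Subtype.ext
      show (w : G) * u * (w : G)⁻¹ * u⁻¹ = w * (u * (w : G)⁻¹ * u⁻¹)
      group
    have h2 : S.large.pr ⟨u * (w : G)⁻¹ * u⁻¹, hm2⟩ = S.rho (line (e 0) (e 1)) (S.large.pr w⁻¹) := by
      have h3 := S.rho_psi ⟨u, mem_centralizer_singleton_iff.2 hut⟩
      rw [hpsi] at h3
      rw [h3, S.large.act_pr]
      rfl
    rw [h1, S.large.pr_mul, h2, S.large.pr_inv, S.large.neg_eq,
      rho_line hs S.card_V (sf_e_e 0 1), ← add_assoc, S.large.add_self, zero_add]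
    rfl
  have h3 : m = (w : G) * u * (w : G)⁻¹ * u⁻¹ ∨ m = (w : G) * u * (w : G)⁻¹ * u⁻¹ * t :=
    S.large.pr_eq_pr.1 (hv.trans hpr.symm)
  rcases h3 with h3 | h3
  · refine ⟨w, w.2, ?_⟩
    rw [h3]; group
  · refine ⟨w * w0, mul_mem w.2 hw0, ?_⟩
    have h5 : (w : G) * t = t * w := comm_t S w.2
    have h6 : (w : G) * u * (w : G)⁻¹ * u⁻¹ * t = t * ((w : G) * u * (w : G)⁻¹ * u⁻¹) := comm_t S hcQ
    rw [h3, h6]
    calc (w : G) * w0 * u * ((w : G) * w0)⁻¹ = w * (w0 * u * w0⁻¹) * (w : G)⁻¹ := by group
      _ = (w * t) * u * (w : G)⁻¹ := by rw [h0]; group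
      _ = _ := by rw [h5]; group

end Coset

include hσ hs in
/-- the third class over the line elements is not fused -/
theorem not_alpha3 (hwc : Pair.WC Q t) {x : G} (hx : x ∈ Q)
    (hN : NN S.rho (S.large.pr ⟨x, hx⟩) = 0) (hni : ¬ ∃ s, S.large.pr ⟨x, hx⟩ = NN S.rho s) :
    ¬ IsConj t (x * sg σ (line (e 0) (e 1))) := by
  intro hconj
  obtain ⟨g, hg⟩ := isConj_iff.1 hconj
  have hut := u_comm S σ hx
  have hsx := s_comm S σ hσ hs hx hN
  have hnd : ∀ v, (∀ w, S.large.b v w = 0) → v = 0 := fun v hv => S.large.b_nondeg hv
  have hbr := S.b_rho
  have hbs := S.large.b_self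
  have hL' : Large (Q.map (MulAut.conj g).toMonoidHom) (g * t * g⁻¹) := S.large.conj g
  have hwc' := hwc.conj g
  have hcard := Delta.card_fix' S (g := g) (by rw [hg]; exact hut)
  have him := fun (m : G) (hm : m ∈ Q) => conj_of_im S σ hσ hs hx hni (m := m) hm
  have huu : (g * t * g⁻¹) * (g * t * g⁻¹) = 1 := hL'.z_sq
  have hss : sg σ (line (e 0) (e 1)) * sg σ (line (e 0) (e 1)) = 1 := sg_line_sq σ (sf_e_e 0 1)
  have hsQ : ∀ d : Q, NN S.rho (S.large.pr d) = 0 →
      sg σ (line (e 0) (e 1)) * d = d * sg σ (line (e 0) (e 1)) :=
    fun d hd => chi S σ hσ hs isLine_e01 d.2 hd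
  have hpsi : S.psi ⟨x * sg σ (line (e 0) (e 1)), mem_centralizer_singleton_iff.2 hut⟩ =
      line (e 0) (e 1) := by
    have h1 : (⟨x * sg σ (line (e 0) (e 1)), mem_centralizer_singleton_iff.2 hut⟩ :
        centralizer ({t} : Set G)) =
        ⟨x, mem_centralizer_singleton_iff.2 (comm_t S hx)⟩ * σ (line (e 0) (e 1)) := rfl
    rw [h1, map_mul, hσ, (S.psi_ker _).2 hx, one_mul]
  have hcs : ∀ j : Fin 2, sg σ (tr (e (Fin.castSucc j))) * sg σ (line (e 0) (e 1)) =
      sg σ (line (e 0) (e 1)) * sg σ (tr (e (Fin.castSucc j))) := by
    intro j
    rw [← sg_mul, ← sg_mul, line_comm_tr (sf_e_e _ _) (sf_e_e _ _)]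
  rw [hg] at hL' hwc' huu
  set Q' := Q.map (MulAut.conj g).toMonoidHom with hQ'
  clear hg
  generalize sg σ (line (e 0) (e 1)) = s at *
  -- `q x = 0`
  have hqx : S.large.q (S.large.pr ⟨x, hx⟩) = 0 := by
    rw [S.large.q_eq_zero]
    show x * x = 1
    calc x * x = x * x * (s * s) := by rw [hss, mul_one]
      _ = x * (x * s) * s := by group
      _ = x * (s * x) * s := by rw [hsx]
      _ = x * s * (x * s) := by group
      _ = 1 := huu
  -- the intersection meets the image trivially
  have hW : ∀ m (hm : m ∈ Q ⊓ Q'), (∃ v, S.large.pr ⟨m, (mem_inf.1 hm).1⟩ = NN S.rho v) → m = 1 := by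
    intro m hm hv
    obtain ⟨w, hw, h3⟩ := him m (mem_inf.1 hm).1 hv
    have h4 : m * (x * s) = x * s := by
      apply hwc'.eq_of_mem (mul_mem (mem_inf.1 hm).2 hL'.z_mem)
      rw [← h3]
      exact isConj_iff.2 ⟨w, rfl⟩
    exact mul_eq_right.1 h4
  -- the intersection is trivial
  have hI : ∀ m ∈ Q ⊓ Q', m = 1 := by
    intro m hm
    obtain ⟨hm1, hm2⟩ := mem_inf.1 hm
    have h1 : m * (x * s) = x * s * m := hL'.comm_z m hm2
    have hNm : NN S.rho (S.large.pr ⟨m, hm1⟩) = 0 := by
      have h3 := S.rho_psi ⟨x * s, mem_centralizer_singleton_iff.2 hut⟩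
      rw [hpsi] at h3
      have h4 : S.rho (line (e 0) (e 1)) (S.large.pr ⟨m, hm1⟩) = S.large.pr ⟨m, hm1⟩ := by
        rw [h3, S.large.act_pr]
        congr 1
        apply Subtype.ext
        show x * s * m * (x * s)⁻¹ = m
        rw [← h1, mul_inv_cancel_right]
      rw [rho_line hs S.card_V (sf_e_e 0 1)] at h4
      exact add_eq_left.1 h4
    have hn : ∀ j : Fin 2, n S.rho (e (Fin.castSucc j)) (S.large.pr ⟨m, hm1⟩) = 0 := by
      intro j
      set k := sg σ (tr (e (Fin.castSucc j))) with hk
      have hkt : k * t = t * k := sg_comm σ _
      have hks := hcs j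
      -- `k u k⁻¹` is conjugate to `u` under `Q`
      have hkx : k * x * k⁻¹ ∈ Q := S.large.conj_mem k hkt x hx
      have hprk : ∀ (y : G) (hy : y ∈ Q) (hy2 : k * y * k⁻¹ ∈ Q),
          S.large.pr ⟨k * y * k⁻¹, hy2⟩ = S.large.pr ⟨y, hy⟩ +
            n S.rho (e (Fin.castSucc j)) (S.large.pr ⟨y, hy⟩) := by
        intro y hy hy2
        rw [← rho_tr]
        exact pr_conj S σ (tr (e (Fin.castSucc j))) ⟨y, hy⟩ hy2 hσ
      have hmQ : k * x * k⁻¹ * x⁻¹ ∈ Q := mul_mem hkx (inv_mem hx)
      have hpr1 : S.large.pr ⟨k * x * k⁻¹ * x⁻¹, hmQ⟩ = n S.rho (e (Fin.castSucc j)) (S.large.pr ⟨x, hx⟩) := by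
        have h2 : (⟨k * x * k⁻¹ * x⁻¹, hmQ⟩ : Q) = ⟨k * x * k⁻¹, hkx⟩ * (⟨x, hx⟩ : Q)⁻¹ := rfl
        rw [h2, S.large.pr_mul, hprk x hx hkx, S.large.pr_inv, S.large.neg_eq, add_right_comm,
          S.large.add_self, zero_add]
      obtain ⟨w, hw, h3⟩ := him _ hmQ (by
        rw [hpr1]; exact n_mem hs hbr hbs hnd j hN)
      have h4 : k * (x * s) * k⁻¹ = w * (x * s) * w⁻¹ := by
        rw [h3]
        calc k * (x * s) * k⁻¹ = k * x * (s * k⁻¹) := by group
          _ = k * x * (k⁻¹ * k * s * k⁻¹) := by group
          _ = k * x * (k⁻¹ * (k * s) * k⁻¹) := by group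
          _ = k * x * (k⁻¹ * (s * k) * k⁻¹) := by rw [hks]
          _ = k * x * k⁻¹ * x⁻¹ * (x * s) := by group
      set h := w⁻¹ * k with hh
      have hwt : w⁻¹ * t = t * w⁻¹ := comm_t S (inv_mem hw)
      have hht : h * t = t * h := by rw [hh, mul_assoc, hkt, ← mul_assoc, hwt, mul_assoc]
      have hhu : h * (x * s) = x * s * h := by
        have h5 : k * (x * s) = w * (x * s) * w⁻¹ * k := by rw [← h4]; group
        rw [hh, mul_assoc, h5]; group
      have hmi := Pair.conj_mem_inf S.large hL' hht hhu hm
      have hmi2 : h * m * h⁻¹ * m⁻¹ ∈ Q ⊓ Q' := mul_mem hmi (inv_mem hm)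
      have hkm : k * m * k⁻¹ ∈ Q := S.large.conj_mem k hkt m hm1
      have hpr2 : S.large.pr ⟨h * m * h⁻¹ * m⁻¹, (mem_inf.1 hmi2).1⟩ =
          n S.rho (e (Fin.castSucc j)) (S.large.pr ⟨m, hm1⟩) := by
        have h5 : (⟨h * m * h⁻¹ * m⁻¹, (mem_inf.1 hmi2).1⟩ : Q) =
            (⟨w, hw⟩ : Q)⁻¹ * ⟨k * m * k⁻¹, hkm⟩ * ⟨w, hw⟩ * (⟨m, hm1⟩ : Q)⁻¹ := by
          apply Subtype.ext
          show h * m * h⁻¹ * m⁻¹ = w⁻¹ * (k * m * k⁻¹) * w * m⁻¹
          rw [hh]; group
        rw [h5, S.large.pr_mul, S.large.pr_mul, S.large.pr_mul, S.large.pr_inv, S.large.pr_inv,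
          S.large.neg_eq, S.large.neg_eq, hprk m hm1 hkm]
        generalize n S.rho (e (Fin.castSucc j)) (S.large.pr ⟨m, hm1⟩) = A
        generalize S.large.pr ⟨m, hm1⟩ = A'
        generalize S.large.pr ⟨w, hw⟩ = A''
        have h6 := S.large.add_self
        calc A'' + (A' + A) + A'' + A' = (A'' + A'') + (A' + A') + A := by abel
          _ = A := by rw [h6, h6, add_zero, zero_add]
      have h7 := hW _ hmi2 (by rw [hpr2]; exact n_mem hs hbr hbs hnd j hNm)
      rw [← hpr2, S.large.pr_eq_zero]
      left; exact h7
    exact hW m hm (mem_of_both hs hbr hnd (hn 0) (hn 1))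
  -- `D'`
  have hD : ∀ y : Pair.dsub Q' t, (y : G) * t = t * y := fun y => (Pair.mem_dsub.1 y.2).2
  have hDQ : ∀ y : Pair.dsub Q' t, (y : G) ∈ Q' := fun y => (Pair.mem_dsub.1 y.2).1
  have hK : ∀ y : Pair.dsub Q' t, S.psi ⟨y, mem_centralizer_singleton_iff.2 (hD y)⟩ ∈
      H8 S.rho S.large.b (S.large.pr ⟨x, hx⟩) := by
    intro y v hv1 hv2
    obtain ⟨d, rfl⟩ := S.large.pr_surjective v
    have h1 : s * d = d * s := hsQ d hv1
    have h2 : x * d = d * x := (S.large.b_pr ⟨x, hx⟩ d).1 hv2
    have h3 : (d : G) * (x * s) = x * s * d := by
      rw [← mul_assoc, ← h2, mul_assoc, ← h1, ← mul_assoc]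
    have h4 := Pair.commutator_mem S.large hL' (Pair.mem_dsub.2 ⟨d.2, h3⟩) y.2
    have h5 := hI _ h4
    rw [mul_inv_eq_one, mul_inv_eq_iff_eq_mul] at h5
    rw [S.rho_psi, S.large.act_pr]
    congr 1
    apply Subtype.ext
    show (y : G) * d * (y : G)⁻¹ = d
    rw [← h5, mul_inv_cancel_right]
  let φ : Pair.dsub Q' t → H8 S.rho S.large.b (S.large.pr ⟨x, hx⟩) := fun y => ⟨_, hK y⟩
  have hφ : Function.Injective φ := by
    intro y y' h
    have h1 : S.psi ⟨y, mem_centralizer_singleton_iff.2 (hD y)⟩ =
        S.psi ⟨y', mem_centralizer_singleton_iff.2 (hD y')⟩ := congrArg Subtype.val h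
    have h2 : S.psi (⟨y, mem_centralizer_singleton_iff.2 (hD y)⟩ *
        (⟨y', mem_centralizer_singleton_iff.2 (hD y')⟩ : centralizer ({t} : Set G))⁻¹) = 1 := by
      rw [map_mul, map_inv, h1, mul_inv_cancel]
    have h3 := (S.psi_ker _).1 h2
    have h4 : (y : G) * (y' : G)⁻¹ ∈ Q := h3
    have h5 := hI _ (mem_inf.2 ⟨h4, mul_mem (hDQ y) (inv_mem (hDQ y'))⟩)
    exact Subtype.ext (mul_inv_eq_one.1 h5)
  have h1 := Nat.card_le_card_of_injective φ hφ
  have h2 := card_H8 hs S.card_V hbr hbs hnd S.large.q_add' S.q_rho hN hqx hni S.rho_injective
  have h3 : (H8 S.rho S.large.b (S.large.pr ⟨x, hx⟩)).ncard =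
      Nat.card (H8 S.rho S.large.b (S.large.pr ⟨x, hx⟩)) := rfl
  omega

end Cfsg.Agent.Co2Type.Alpha3
end

-- part: Co2Type/Alpha3T
section
/-!
# The class of `ev (dec 1) * lin D` is not fused (R03; helper951)
-/

set_option autoImplicit false

namespace Cfsg.Agent.Co2Type.Alpha3T

open Cfsg Cfsg.Agent.Co2Type.Quad Cfsg.Agent.Co2Type.Setup Cfsg.Agent.Co2Type.Spin
open Cfsg.Agent.Co2Type.QModel Cfsg.Agent.Co2Type.Act Cfsg.Agent.Co2Type.Coord
open Cfsg.Agent.Co2Type.Rels Cfsg.Agent.Co2Type.Abs Cfsg.Agent.Co2Type.ExistsRels
open Cfsg.Agent.Co2Type.InvClass Cfsg.Agent.Co2Type.LineMod Cfsg.Agent.Co2Type.Alpha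
open Cfsg.Agent.ClassicalGeometry.SympBasic
open Cfsg.Agent.SporRec.TwoSp6.Sp (tr act)

variable {G : Type*} [Group G] {Q : Subgroup G} {t : G}

/-- `not_alpha3` for an arbitrary line -/
theorem not_alpha3_gen (S : Sit G Q t) (σ : Sp6 →* Subgroup.centralizer ({t} : Set G))
    (hσ : ∀ g, S.psi (σ g) = g) (hs : SpinHyp S.rho) (hwc : Pair.WC Q t) {a b : U} (hl : IsLine a b)
    {x : G} (hx : x ∈ Q) (hN : n S.rho a (n S.rho b (S.large.pr ⟨x, hx⟩)) = 0)
    (hni : ¬ ∃ s, S.large.pr ⟨x, hx⟩ = n S.rho a (n S.rho b s)) :
    ¬ IsConj t (x * sg σ (line a b)) := by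
  obtain ⟨g, ga, gb⟩ := exists_act_line hl isLine_e01
  have hk : sg σ g * t = t * sg σ g := sg_comm σ g
  have hkx : sg σ g * x * (sg σ g)⁻¹ ∈ Q := S.large.conj_mem _ hk x hx
  have hpr : S.large.pr ⟨sg σ g * x * (sg σ g)⁻¹, hkx⟩ = S.rho g (S.large.pr ⟨x, hx⟩) :=
    pr_conj S σ g ⟨x, hx⟩ hkx hσ
  have hNg : ∀ v, Alpha3.NN S.rho (S.rho g v) = S.rho g (n S.rho a (n S.rho b v)) := by
    intro v
    rw [DeltaK.rho_n', DeltaK.rho_n', ga, gb]
    rfl
  intro hc
  refine Alpha3.not_alpha3 S σ hσ hs hwc hkx ?_ ?_ ?_
  · rw [hpr, hNg, hN, map_zero]
  · rintro ⟨s, h⟩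
    apply hni
    refine ⟨(S.rho g).symm s, ?_⟩
    apply (S.rho g).injective
    rw [← hNg, LinearEquiv.apply_symm_apply, ← h, hpr]
  · have h1 : sg σ g * (x * sg σ (line a b)) * (sg σ g)⁻¹ =
        sg σ g * x * (sg σ g)⁻¹ * sg σ (line (e 0) (e 1)) := by
      rw [← ga, ← gb, ← line_conj, sg_mul, sg_mul, sg_inv]
      group
    rw [← h1]
    exact hc.trans (isConj_iff.2 ⟨_, rfl⟩)

theorem chk1 : qmul 1 (autw [3, 5, 6] 1) = 0 ∨ qmul 1 (autw [3, 5, 6] 1) = 256 := by decide +kernel

theorem chk2 : ∀ m < 512, qmul m (autw [3, 5, 6] m) ≠ 1 ∧ qmul m (autw [3, 5, 6] m) ≠ qmul 1 256 ∧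
    qmul m (autw [3, 5, 6] m) < 512 := by
  have h : ∀ m < 512, (fun n => n ≠ 1 ∧ n ≠ qmul 1 256 ∧ n < 512) (AbsTab.fzMul m (AbsTab.fzW [3, 5, 6] m)) := by
    decide +kernel
  intro m hm
  have h1 := h m hm
  rw [← (AbsTab.fzW_eq (w := [3, 5, 6]) rfl hm).1, ← AbsTab.fzMul_eq] at h1
  exact h1

theorem ev_mem (S : Sit G Q t) {ev : QM →* Subgroup.centralizer ({t} : Set G)}
    (P : Pre (tc t) ev S.psi) (x : QM) : (ev x : G) ∈ Q := by
  rw [← S.psi_ker, P.psi_ker]
  exact ⟨x, rfl⟩

/-- the line element -/
theorem lin_eq {σ : Sp6 →* Subgroup.centralizer ({t} : Set G)}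
    {D : ℕ → Subgroup.centralizer ({t} : Set G)}
    (hσD : ∀ j, j < 7 → σ (transv (uv j) 1) = D j) :
    σ (line (f 1 + e 2) (e 2)) = lin D := by
  rw [Swap.line_al, map_mul, map_mul]
  have h3 : σ (tr (f 1 + e 2)) = D 3 := hσD 3 (by norm_num)
  have h5 : σ (tr (e 2)) = D 5 := hσD 5 (by norm_num)
  have h6 : σ (tr (f 1)) = D 6 := hσD 6 (by norm_num)
  rw [h3, h5, h6]
  rfl

/-- `n n` on codes -/
theorem nn_code (S : Sit G Q t) (hs : SpinHyp S.rho)
    {ev : QM →* Subgroup.centralizer ({t} : Set G)}
    {D : ℕ → Subgroup.centralizer ({t} : Set G)} (R : Rels false (tc t) ev D)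
    (P : Pre (tc t) ev S.psi) {σ : Sp6 →* Subgroup.centralizer ({t} : Set G)}
    (hσ : ∀ g, S.psi (σ g) = g) (hσD : ∀ j, j < 7 → σ (transv (uv j) 1) = D j) (m : ℕ) :
    n S.rho (f 1 + e 2) (n S.rho (e 2) (S.large.pr ⟨(ev (dec m) : G), ev_mem S P _⟩)) =
      S.large.pr ⟨(ev (dec (qmul m (autw [3, 5, 6] m))) : G), ev_mem S P _⟩ := by
  have h1 := conj_wd ev D R.conj (fun j _ => P.conj_z (D j)) (InvData.rw' 2) (rw_lt 2) m
  rw [wd_two, ← lin_eq hσD] at h1
  have h2 : sg σ (line (f 1 + e 2) (e 2)) * (ev (dec m) : G) * (sg σ (line (f 1 + e 2) (e 2)))⁻¹ =
      (ev (dec (autw [3, 5, 6] m)) : G) := congrArg Subtype.val h1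
  have hm : sg σ (line (f 1 + e 2) (e 2)) * (ev (dec m) : G) *
      (sg σ (line (f 1 + e 2) (e 2)))⁻¹ ∈ Q := by
    rw [h2]; exact ev_mem S P _
  have h3 := pr_conj S σ (line (f 1 + e 2) (e 2)) ⟨(ev (dec m) : G), ev_mem S P _⟩ hm hσ
  rw [rho_line hs S.card_V Swap.isLine_al.2.2.2] at h3
  have h4 : S.large.pr ⟨(ev (dec (qmul m (autw [3, 5, 6] m))) : G), ev_mem S P _⟩ =
      S.large.pr ⟨(ev (dec m) : G), ev_mem S P _⟩ +
      S.large.pr ⟨sg σ (line (f 1 + e 2) (e 2)) * (ev (dec m) : G) *
      (sg σ (line (f 1 + e 2) (e 2)))⁻¹, hm⟩ := by
    rw [← S.large.pr_mul]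
    congr 1
    apply Subtype.ext
    show (ev (dec (qmul m (autw [3, 5, 6] m))) : G) = (ev (dec m) : G) *
      (sg σ (line (f 1 + e 2) (e 2)) * (ev (dec m) : G) * (sg σ (line (f 1 + e 2) (e 2)))⁻¹)
    rw [h2, dec_qmul, map_mul]
    rfl
  rw [h4, h3, ← add_assoc, S.large.add_self, zero_add]

/-- the class of `ev (dec 1) * lin D` is not fused -/
theorem not_ev1_lin (S : Sit G Q t) (hs : SpinHyp S.rho) (hwc : Pair.WC Q t)
    {ev : QM →* Subgroup.centralizer ({t} : Set G)}
    {D : ℕ → Subgroup.centralizer ({t} : Set G)} (R : Rels false (tc t) ev D)
    (hD : ∀ j, j < 7 → S.psi (D j) = transv (uv j) 1) (P : Pre (tc t) ev S.psi) :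
    ¬ IsConj t ((ev (dec 1) * lin D : Subgroup.centralizer ({t} : Set G)) : G) := by
  obtain ⟨σ, hσ, hσD, -⟩ := Section.exists_section R S.psi hD
  have hcode := nn_code S hs R P hσ hσD
  have h := not_alpha3_gen S σ hσ hs hwc Swap.isLine_al (ev_mem S P (dec 1)) ?_ ?_
  · have h1 : sg σ (line (f 1 + e 2) (e 2)) = ((lin D :) : G) := by
      unfold sg
      rw [lin_eq hσD]
    rwa [h1] at h
  · rw [hcode, S.large.pr_eq_zero]
    rcases chk1 with h1 | h1
    · left
      show (ev (dec (qmul 1 (autw [3, 5, 6] 1))) : G) = 1
      rw [h1, dec_zero, map_one]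
      rfl
    · right
      show (ev (dec (qmul 1 (autw [3, 5, 6] 1))) : G) = t
      rw [h1, P.ev_z]
      rfl
  · rintro ⟨s, h1⟩
    obtain ⟨w, rfl⟩ := S.large.pr_surjective s
    have hw : (⟨(w : G), Subgroup.mem_centralizer_singleton_iff.2 (S.large.comm_z w w.2)⟩ :
        Subgroup.centralizer ({t} : Set G)) ∈ ev.range := by
      rw [← P.psi_ker, S.psi_ker]
      exact w.2
    obtain ⟨x, hx⟩ := hw
    obtain ⟨m, hm, rfl⟩ := dec_surj x
    have h2 : w = ⟨(ev (dec m) : G), ev_mem S P _⟩ := by
      apply Subtype.ext
      show (w : G) = (ev (dec m) : G)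
      rw [hx]
    rw [h2, hcode] at h1
    obtain ⟨c1, c2, c3⟩ := chk2 m hm
    rcases S.large.pr_eq_pr.1 h1 with h3 | h3
    · have h4 : ev (dec 1) = ev (dec (qmul m (autw [3, 5, 6] m))) := Subtype.ext h3
      exact c1 (dec_inj (by norm_num) c3 (P.ev_inj h4)).symm
    · have h4 : ev (dec 1) = ev (dec (qmul m (autw [3, 5, 6] m))) * tc t := Subtype.ext h3
      have h5 : ev (dec (qmul 1 256)) = ev (dec (qmul m (autw [3, 5, 6] m))) := by
        rw [dec_qmul, map_mul, P.ev_z, h4, mul_assoc, P.t_sq, mul_one]
      exact c2 (dec_inj (by decide) c3 (P.ev_inj h5)).symm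

end Cfsg.Agent.Co2Type.Alpha3T
end

-- part: Co2Type/SwapB
section
/-!
# The swap element from the fusion statement (R03, helper143)
-/

set_option autoImplicit false

namespace Cfsg.Agent.Co2Type.SwapB

open Cfsg Cfsg.Agent.Co2Type.Setup Cfsg.Agent.Co2Type.Coord Cfsg.Agent.Co2Type.QModel
open Cfsg.Agent.Co2Type.Rels Cfsg.Agent.Co2Type.ExistsRels
open Cfsg.Agent.ClassicalGeometry.SympBasic

variable {G : Type*} [Group G] {Q : Subgroup G} {t : G}

/-- the swap element of `t` and `D 0` -/
theorem swapB (S : Sit G Q t) {ev : QM →* Subgroup.centralizer ({t} : Set G)}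
    {D : ℕ → Subgroup.centralizer ({t} : Set G)} (R : Rels false (tc t) ev D)
    (hD : ∀ j, j < 7 → S.psi (D j) = transv (uv j) 1)
    (hfus : ∀ x : Subgroup.centralizer ({t} : Set G), IsConj t (x : G) ↔ (x : G) = t ∨
      IsConj (D 0) x ∨ IsConj (tc t * (D 3 * D 5 * D 6)) x) :
    ∃ x : G, x * t * x⁻¹ = D 0 ∧ x * (D 0 : G) * x⁻¹ = t := by
  have hc : ∀ j, j < 7 → j ≠ 0 → adj 0 j = false → D 0 * D j = D j * D 0 := by
    intro j hj h0 ha
    have := R.comm 0 j (by norm_num) hj (Ne.symm h0) ha
    rw [this]
    exact one_mul _
  refine Swap.swap S D hD (hc 2 (by norm_num) (by norm_num) rfl)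
    (hc 3 (by norm_num) (by norm_num) rfl) (hc 4 (by norm_num) (by norm_num) rfl)
    (hc 6 (by norm_num) (by norm_num) rfl) (tc t) rfl
    ((hfus (D 0)).2 (Or.inr (Or.inl (IsConj.refl _)))) ?_
  intro x hx
  rcases (hfus x).1 hx with h | h | h
  · exact Or.inl h
  · exact Or.inr (Or.inl h.symm)
  · right; right
    rw [mul_assoc, mul_assoc, ← mul_assoc (D 3)]
    exact h.symm

end Cfsg.Agent.Co2Type.SwapB
end

-- part: Co2Type/Tuple
section
/-!
# Piece (C-ii) of the recognition of `Co₂` (R03, helper757)

All five-tuples `(b', d', f', g', e')` of elements of `F ∩ C_C(D 0)` with the orders of the products of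
`(b, d, f, g, e) = (D 6, X₃ D 2, D 4, D 5, D 3)`, with `(d' e' f' g')^5 = D 0` and `b' e' g' D 0 ∈ F` are conjugate
under `C_C(D 0)` to one explicit tuple.
-/

set_option autoImplicit false

namespace Cfsg.Agent.Co2Type.Tuple

open Cfsg.Agent.Co2Type.QModel Cfsg.Agent.Co2Type.Act Cfsg.Agent.Co2Type.Rels Cfsg.Agent.Co2Type.CCode
open Cfsg.Agent.Co2Type.FList
open Cfsg.Agent.Lib.PackMat (force allBelow allBelow_spec force_eq)

/-- a node of the search tree: prefix, generators of its stabiliser (word, code, code of the inverse), table of the
candidates (code, path), representatives -/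
abbrev Node : Type := List ℕ × List (List ℕ × ℕ × ℕ) × List (ℕ × List ℕ) × List ℕ

def nodes : List Node := [
  ([],
   [([10,2], 0x8060282e0080602a0e08, 0x8060282e0080602a0e08),
  ([8,12], 0x80200802008020080222, 0x80200802008020080222),
  ([12,2], 0x8060282e0080602a0e20, 0x8060282e0080602a0ea0),
  ([3,4], 0x12a8a808038aa28882200, 0xaa2a8882382a08802000),
  ([8,6,4], 0xaa2a888220a028080202, 0xaa2a888220a028080202),
  ([5,3,2], 0xa078202c12a9fca02c00, 0x20d8282e1a2bd82a0e00),
  ([10,12,1,2,3,0,1,2,6,2,3,1,2,0,1], 0x80600806088a608a2628, 0x80600806088a608a26a8),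
  ([3,4,2], 0x12a9fca02d8ae7ea2ec00, 0x225daa8ef8a63a82e000),
  ([3,4,5,4], 0x18aa288822a0280802000, 0xa0280803a8aa0882200),
  ([8,3,2,6,4], 0x214ca02c22dcea2ec02, 0x224ca20cda87b202c080)],
   [(0x80200802008020080300, []),
  (0x80600806008060080600, []),
  (0x80600806008060080602, []),
  (0x80600806008060080608, [4,0]),
  (0x80600806008060080620, [3]),
  (0x80600806008060080680, [9]),
  (0x8060080600806008060a, [0]),
  (0x80600806008060080622, [6]),
  (0x80600806008060080782, [6,3,0]),
  (0x80600806008060080728, [9,0]),
  (0x80600806008060080688, [9,3]),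
  (0x8060080600806008078a, [8,0]),
  (0x806008060080600806a0, [7]),
  (0x8060080600806008072a, [7,0]),
  (0x806008060080600807a8, [5,0]),
  (0x806008060080600806aa, [6,0]),
  (0x806008060080600807a2, [3,0]),
  (0x8060282e0080602a0e00, []),
  (0x8060282e0080602a0e08, [2,1]),
  (0x8060282e0080602a0e80, [2]),
  (0x20c8202c18224ca02c00, [3,3]),
  (0x20c8202c002848220c00, [4,2,1]),
  (0x8060282e0080602a0e88, [1]),
  (0x20c8202c18224ca02d8a, [0,5]),
  (0x20c8202c002848220c0a, [4]),
  (0x20c8202c18224ca02ca0, [3,3,1]),
  (0x20c8202c002848220ca0, [4,2]),
  (0x20c8202c18224ca02d2a, [5,5,1]),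
  (0xa028080218aa28882200, [5]),
  (0x1a86a688e38a26ca82e00, [3]),
  (0x8060282e088a64a82e00, [4,3,1]),
  (0xa028080200a028080200, [0,4]),
  (0x80600806088a608a2600, [3,6,9]),
  (0x20c8202c002848220caa, [4,1]),
  (0xa028080218aa28882382, [5,1]),
  (0x1a86a688e38a26ca82f82, [0,7]),
  (0x8060282e088a64a82fa8, [5,4]),
  (0xa028080200a028080202, [2,4,1]),
  (0x80600806088a608a2620, [7,6,7]),
  (0xa028080218aa28882220, [5,2]),
  (0x1a86a688e38a26ca82eaa, [3,2]),
  (0x8060282e088a64a82e80, [5,4,2]),
  (0xa028080200a028080220, [0,4,1]),
  (0x80600806088a608a2680, [3,6,9,1]),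
  (0xa028080218aa288823a2, [6,5]),
  (0x1a86a688e38a26ca82f28, [3,1]),
  (0x8060282e088a64a82f28, [4,3]),
  (0x1288a0080382a08802000, [7]),
  (0x1284a608c202848220c00, [8]),
  (0x8c2608c280a44a02c00, [9,5,2]),
  (0x80600806088a608a26a0, [3,6,7]),
  (0x8c200a4280a40822400, [8,6,9]),
  (0xa028080200a028080222, [2,4]),
  (0x1288a0080382a0880218a, [9,2]),
  (0x1284a608c202848220da2, [8,1]),
  (0x8c2608c280a44a02da2, [3,4]),
  (0x8c200a4280a40822422, [6,3,7]),
  (0x1288a0080382a08802022, [9,1]),
  (0x1284a608c202848220c0a, [8,2]),
  (0x8c2608c280a44a02c88, [9,5]),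
  (0x8c200a4280a40822488, [6,3,9]),
  (0x1288a0080382a088021a8, [9]),
  (0x1284a608c202848220da8, [1,8]),
  (0x8c2608c280a44a02d2a, [7,4]),
  (0x88220882208020080200, [3,7]),
  (0x1a8aa088220a028080200, [5,3]),
  (0x88e2688e2080602a0e00, [4,8,2]),
  (0x8c200a4280a408224aa, [8,6,7]),
  (0x88e208a6208060080600, [5,6,9]),
  (0x1a86a08a620a868080600, [6,9]),
  (0x88220882208020080208, [9,7]),
  (0x1a8aa088220a02808032a, [2,8]),
  (0x88e2688e2080602a0f82, [8,4,1]),
  (0x88e208a6208060080602, [5,6,7]),
  (0x1a86a08a620a868080602, [6,9,2]),
  (0x88220882208020080202, [7,9]),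
  (0x1a8aa088220a028080202, [0,8]),
  (0x88e2688e2080602a0e08, [4,8]),
  (0x88e208a6208060080608, [6,5,9]),
  (0x1a86a08a620a86808072a, [6,9,1]),
  (0x8822088220802008020a, [3,9]),
  (0x1a8aa088220a028080328, [9,8]),
  (0x88e2688e2080602a0f8a, [8,4]),
  (0x8020080280200802000, [5,7]),
  (0x88e208a620806008060a, [6,5,7]),
  (0x1a86a08a620a868080728, [6,7]),
  (0x1284a00a4382248822400, [6,5,3]),
  (0x1288a60a8202008200800, [6,3]),
  (0x8020080280200802088, [5,9,2]),
  (0x1284a00a4382248822422, [6,0,8]),
  (0x1288a60a820200820080a, [6,3,2]),
  (0x8020080280200802022, [5,9]),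
  (0x1284a00a438224882258a, [6,2,8]),
  (0x1288a60a82020082009a2, [6,0,7]),
  (0x80200802802008020aa, [5,9,1]),
  (0x80200802088220882200, [8,7]),
  (0x1284a00a43822488225a8, [6,9,8]),
  (0x1288a60a82020082009a8, [6,3,1]),
  (0x1a8aa68aa38aa2caa2a00, [6,1,8]),
  (0xa0e8080618a2688a2600, [9,6,8]),
  (0x882268aa208020280a00, [6,7,4]),
  (0x80200802088220882280, [8,9,2]),
  (0x1a8aa68aa38aa2caa2aaa, [6,8,1]),
  (0xa0e8080618a2688a2620, [7,6,8]),
  (0x882268aa208020280a08, [4,6,3]),
  (0x80200802088220882220, [8,9,1]),
  (0x1a8aa68aa38aa2caa2b82, [6,8,2]),
  (0xa0e8080618a2688a2782, [7,6,8,2]),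
  (0x882268aa208020280b82, [6,9,5]),
  (0x802008020882208822a0, [8,9]),
  (0x1a8aa68aa38aa2caa2b28, [6,8]),
  (0xa0e8080618a2688a27a2, [7,6,8,1]),
  (0x882268aa208020280b8a, [4,6,3,1]),
  (0x20082008182a0ca22800, [8,6,3]),
  (0x80260a8280204a22800, [6,8,4,1]),
  (0x20082008182a0ca228a0, [3,6,8]),
  (0x80260a8280204a22888, [6,8,4]),
  (0x20082008182a0ca2298a, [8,6,3,2]),
  (0x80260a8280204a229a2, [6,4,8,2]),
  (0x20082008182a0ca2292a, [3,6,8,1]),
  (0x80260a8280204a2292a, [6,4,8]),
  (0x8020280a008020280a00, [3,8,6,3]),
  (0x8020280a088224aa2a00, [4,6,8]),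
  (0x8020280a008020280a80, [5,3,6,8]),
  (0x8020280a088224aa2a80, [4,6,8,2]),
  (0x8020280a008020280a08, [8,3,6,8]),
  (0x8020280a088224aa2ba8, [4,6,8,1]),
  (0x8020280a008020280a88, [3,3,6,8]),
  (0x8020280a088224aa2b28, [3,6,8,4]),
  (0x20082008002008200800, [3,4,6,8]),
  (0x200820080020082008a0, [9,8,6,3]),
  (0x2008200800200820080a, [9,3,6,8]),
  (0x200820080020082008aa, [9,8,6,3,2]),
  (0xa0e8080600a868080600, [5,4,6,8]),
  (0xa0e8080600a868080620, [9,4,6,8]),
  (0xa0e8080600a868080602, [7,4,6,8,1]),
  (0xa0e8080600a868080622, [5,4,6,8,1]),
  (0x802008021288a0080300, [6,4,6]),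
  (0x802008021288a0080220, [4,6]),
  (0x802008021a86a688e300, [0,4,6]),
  (0x1a2a8880212a8a8080300, [6,2,0]),
  (0x802008021a86a688e2a0, [7,3,6]),
  (0x1a2a8880212a8a8080222, [6]),
  (0x80200802008c2608c300, [4,2,6]),
  (0x12acee2acfa2ecea2ed00, [6,0]),
  (0x182a08802008020080300, [6,8]),
  (0x80200802008c2608c280, [4,6,0]),
  (0x12acee2acfa2ecea2ecaa, [2,6]),
  (0x182a08802008020080202, [3,6]),
  (0x80e46a2ec08c662acf00, [6,4,0]),
  (0x80340220c20890080300, [5,6,0]),
  (0x18a26ca82e08020080300, [1,7,6]),
  (0x80e46a2ec08c662ace88, [9,4,6]),
  (0x80340220c20890080328, [6,5,0]),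
  (0x18a26ca82e0802008020a, [7,6]),
  (0xaabe82a0e22898080300, [3,6,0]),
  (0x80a44a02c08020080300, [6,9,3]),
  (0x8074220cca06d2a8ef00, [7,6,4,0]),
  (0xaabe82a0e2289808032a, [3,2,6]),
  (0x80a44a02c08020080208, [9,6]),
  (0x8074220cca06d2a8efa8, [5,7,6]),
  (0x229888020aaeba82e100, [7,6,0]),
  (0xa56aa8ee0847220cd00, [6,9,3,0]),
  (0x229888020aaeba82e1a2, [7,2,6]),
  (0xa56aa8ee0847220cd8a, [8,7,6]),
  (0x80200802008c200a4300, []),
  (0x290880200843202c100, [8,6,0]),
  (0x80200802008c200a4220, []),
  (0x80200802008c200a4280, [5,0]),
  (0x290880200843202c182, [9,6,0]),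
  (0x80200802008c200a42a0, [0]),
  (0x80e40826408c600a4700, [3]),
  (0x80e40826408c600a4622, [3]),
  (0x80e40826408c600a4688, [9]),
  (0x80e40826408c600a46aa, [7]),
  (0x80340822408830080300, [3,3]),
  (0x80a40822408020080300, [8]),
  (0x80340822408830080202, [3,3]),
  (0x80a40822408020080202, [8]),
  (0x8034082240883008032a, [3,7]),
  (0x80a40822408020080208, [8,0]),
  (0x80340822408830080328, [3,9]),
  (0x80a4082240802008020a, [6,7]),
  (0x807408164088700a1700, [7,3]),
  (0x807408264084700a4700, [8,8]),
  (0x807408164088700a160a, [7,3]),
  (0x807408264084700a4622, [8,8]),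
  (0x807408164088700a17a2, [7,7]),
  (0x807408264084700a478a, [6,3,7]),
  (0x807408164088700a17a8, [7,9]),
  (0x807408264084700a47a8, [8,8,0]),
  (0x80340812408430085300, [5,3]),
  (0x80a408124080200a1300, [9,3]),
  (0x80b008020084300a4300, [8,3]),
  (0x803408124084300852aa, [5,3]),
  (0x80a408124080200a1208, [9,3]),
  (0x80b008020084300a4220, [8,3]),
  (0x80340812408430085382, [5,9]),
  (0x80a408124080200a1382, [9,7]),
  (0x80b008020084300a4382, [8,7]),
  (0x80340812408430085328, [5,7]),
  (0x80a408124080200a138a, [9,9]),
  (0x80b008020084300a43a2, [8,9]),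
  (0x80f00836008470085700, [7,8]),
  (0x80e40816408c60085700, [9,8,3]),
  (0x80f008360084700856a0, [7,8]),
  (0x80e40816408c60085688, [9,8,3]),
  (0x80f0083600847008578a, [7,8,0]),
  (0x80e40816408c600857a2, [5,9,3]),
  (0x80f0083600847008572a, [3,5,3]),
  (0x80e40816408c6008572a, [5,9,7]),
  (0x802008320080200a1300, [3,7,8]),
  (0x80200832008c20085300, [9,8]),
  (0x182308802008830080300, [2,0]),
  (0x802008320080200a1280, [5,7,8]),
  (0x80200832008c20085280, [9,8]),
  (0x182308802008830080202, []),
  (0x802008320080200a1208, [8,7,8]),
  (0x80200832008c200853a8, [9,8,0]),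
  (0x802008320080200a1288, [3,7,8]),
  (0x80200832008c20085328, [4,5,7]),
  (0x80f008360088700a1700, [9,7,8]),
  (0x18af6cab6e088700a1700, [1,0]),
  (0x1a238880212a0b8080300, [8,2,0]),
  (0x80f008360088700a16a0, [8,9,8,0]),
  (0x18af6cab6e088700a160a, [0]),
  (0x1a238880212a0b8080222, [8]),
  (0x80f008360088700a160a, [8,9,8]),
  (0x80f008360088700a16aa, [9,7,8]),
  (0x80a44a32c080200a1300, [4,1,0]),
  (0x80b00802008830080300, [5,9,8]),
  (0x12a1ee298fa269ea0f900, [0,8]),
  (0x8074223cca0ad2aabf00, [5,1,0]),
  (0x80b008021280b0080300, [6,3]),
  (0x80a44a32c080200a1208, [4,0]),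
  (0x80b00802008830080220, [5,9,8]),
  (0x12a1ee298fa269ea0f8aa, [7,3]),
  (0x8074223cca0ad2aabfa8, [5,0]),
  (0x80b008021280b0080220, [3]),
  (0x80b00802008830080202, [7,9,8,0]),
  (0x80b00802008830080222, [7,9,8]),
  (0x80e46a1ec08c6628df00, [4,7]),
  (0xa86aabae08022229900, [4,3,0]),
  (0x80f008361a8ef68af700, [0,3]),
  (0x80340210c20490085300, [0,5,0]),
  (0x22dc88164aaafa82b500, [3,1,0]),
  (0x80e46a1ec08c6628de88, [9,3]),
  (0xa86aabae0802222998a, [8,8,9]),
  (0x80f008361a8ef68af6a0, [7]),
  (0x80340210c20490085328, [7,3,0]),
  (0x22dc88164aaafa82b5a2, [3,0]),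
  (0x80200832008c260ad300, [1,9]),
  (0xaa6e8294e224c8085700, [9,3,0]),
  (0x2008802008022008100, [5,4,7]),
  (0x2848812408022029100, [6,3,0]),
  (0x80200832008026089300, [5,0,3]),
  (0xaafa82b4a22cd8085700, [7,1,0]),
  (0x214881240843200d100, [2,8,0]),
  (0x80200832008c260ad280, [9]),
  (0xaa6e8294e224c808572a, [4,7,0]),
  (0x2008802008022008182, [5,9,3]),
  (0x2848812408022029182, [3,4,0]),
  (0x80200832008026089280, [5,7]),
  (0xaafa82b4a22cd808572a, [7,0]),
  (0x214881240843200d182, [0,8,0]),
  (0x80f008361a82f688b700, [4,3,7]),
  (0x220888020aa2aa80a100, [7,9,7]),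
  (0x80200230820c80085300, [9,1,0]),
  (0xa02aa8aa08022208900, [9,9,3]),
  (0x224c88164aa6ea80f500, [4,8,0]),
  (0x80206a1a808026289b00, [3,0,3]),
  (0xad2aabea0847222dd00, [8,1,0]),
  (0x80f008361a82f688b6a0, [9,7,0]),
  (0x220888020aa2aa80a1a2, [5,4,0]),
  (0x80200230820c80085328, [9,0]),
  (0xa02aa8aa0802220898a, [7,4,0]),
  (0x224c88164aa6ea80f5a2, [8,9,3]),
  (0x80206a1a808026289a88, [3,7]),
  (0xad2aabea0847222dd8a, [8,0]),
  (0x80b00802128cb00a4300, [5,1,9]),
  (0x12a5ae29cba22dea0bd00, [9,7]),
  (0x802022088a0282a8ab00, [0,9,0]),
  (0x802022388a0e82aafb00, [8,4,1,0]),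
  (0x80204a22808020080300, [6,3,7]),
  (0xaa2a8280a22088080300, [6,8,0]),
  (0x80204a128080200a1300, [8,0,3]),
  (0x80b00802128cb00a4220, [5,9]),
  (0x12a5ae29cba22dea0bcaa, [3,9]),
  (0x802022088a0282a8aba8, [9,4,0]),
  (0x802022388a0e82aafba8, [8,4,0]),
  (0x80204a22808020080208, [9,7,9]),
  (0xaa2a8280a2208808032a, [7,8,9]),
  (0x80204a128080200a1208, [8,7]),
  (0x1a27c882652a4f80a4700, [9,9]),
  (0x18a72ca96a088700a1700, [9,8,0]),
  (0x18aa2caa2a08020080300, [6,9,7]),
  (0x80200200820080080300, [5,9,7]),
  (0x80206a2a8080262a8b00, [6,8,7]),
  (0x1a27c882652a4f80a4622, [7,9]),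
  (0x18a72ca96a088700a160a, [8,9]),
  (0x18aa2caa2a0802008020a, [6,3,9]),
  (0x80200200820080080328, [5,3,9]),
  (0x80206a2a8080262a8a88, [5,7,4,0]),
  (0x182248822408020080300, [6,7,9]),
  (0x182b48822408830080300, [2,8,9]),
  (0x12a8ae2a8ba2a8ea2a900, [6,8,9]),
  (0x802008020080260a8300, [3,6,8,0]),
  (0x182248822408020080202, [3,7,9]),
  (0x182b48822408830080202, [5,9,0]),
  (0x12a8ae2a8ba2a8ea2a8aa, [5,7,9]),
  (0x802008020080260a8280, [8,7,4,0]),
  (0x1a2ec882652ace80a4700, [5,0,9,0]),
  (0x802008021a8aa68aa300, [9,6,8,0]),
  (0x1a2ec882652ace80a4622, [5,9,4,0]),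
  (0x802008021a8aa68aa2a0, [8,9,4,0]),
  (0x802008021284a00a4300, [8,9,9]),
  (0x802008021284a00a4220, [8,7,9])],
   [0x182308802008830080202, 0x80200802008020080300, 0x80600806008060080600, 0x80600806008060080602, 0x8060282e0080602a0e00, 0x80200802008c200a4300, 0x80200802008c200a4220]),
  ([0x182308802008830080202],
   [([8], 0x80200802008020080202, 0x80200802008020080202),
  ([4], 0x88220882208020080200, 0x88220882208020080200),
  ([6], 0xa028080200a028080200, 0xa028080200a028080200),
  ([5,3], 0xa028080212a8a8080200, 0xa028080212a8a8080200),
  ([3,4,1,2,3,0,1,2,6,2,3,4,1,2,3,0,1], 0x1a86a08a620a868080600, 0x1a86a08a620a868080600),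
  ([8,5,3], 0xa028080212a8a8080202, 0xa028080212a8a8080202),
  ([4,5,3], 0xaa2a88823288a0080200, 0x18aa2888232a8a8080200),
  ([10,5,4,1,2,3,0,1,2,6,5,1,2,3,4,1,2,3,0,1], 0x18a6388a632a1e8080608, 0xaaeb88a63289e0080728)],
   [(0x802008021a86a688e300, [6,4,0]),
  (0x802008021a86a688e2a0, [6,4]),
  (0x80200802008c2608c300, [4,1,0]),
  (0x12acee2acfa2ecea2ed00, [4,2,0]),
  (0x80200802008c2608c280, [4,1]),
  (0x12acee2acfa2ecea2ecaa, [4,2]),
  (0x80e46a2ec08c662acf00, [4,0]),
  (0x80e46a2ec08c662ace88, [4]),
  (0x8074220cca06d2a8ef00, [7,5]),
  (0x8074220cca06d2a8efa8, [7,3]),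
  (0x229888020aaeba82e100, [7,6]),
  (0xa56aa8ee0847220cd00, [5,4]),
  (0x229888020aaeba82e1a2, [7,6,0]),
  (0xa56aa8ee0847220cd8a, [3,4]),
  (0x290880200843202c100, [1,5,4]),
  (0x290880200843202c182, [7,6,2]),
  (0x12a1ee298fa269ea0f900, [6,0]),
  (0x8074223cca0ad2aabf00, [1,0]),
  (0x12a1ee298fa269ea0f8aa, [6]),
  (0x8074223cca0ad2aabfa8, [1]),
  (0x80e46a1ec08c6628df00, [6,2,0]),
  (0xa86aabae08022229900, [2,1,0]),
  (0x80f008361a8ef68af700, [4,7]),
  (0x22dc88164aaafa82b500, [0]),
  (0x80e46a1ec08c6628de88, [6,2]),
  (0xa86aabae0802222998a, [2,1]),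
  (0x80f008361a8ef68af6a0, [1,6]),
  (0x22dc88164aaafa82b5a2, []),
  (0x80200832008c260ad300, [7,7]),
  (0x2008802008022008100, [1,7]),
  (0x2848812408022029100, [2,0]),
  (0x80200832008026089300, [6,6,0]),
  (0x214881240843200d100, [5]),
  (0x80200832008c260ad280, [7,7,0]),
  (0x2008802008022008182, [4,6]),
  (0x2848812408022029182, [2]),
  (0x80200832008026089280, [6,6]),
  (0x214881240843200d182, [3]),
  (0x80f008361a82f688b700, [7,7,3]),
  (0x220888020aa2aa80a100, [6,7]),
  (0xa02aa8aa08022208900, [7]),
  (0x224c88164aa6ea80f500, [5,2]),
  (0x80206a1a808026289b00, [6,5]),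
  (0xad2aabea0847222dd00, [1,5]),
  (0x80f008361a82f688b6a0, [6,6,2]),
  (0x220888020aa2aa80a1a2, [6,7,0]),
  (0xa02aa8aa0802220898a, [7,0]),
  (0x224c88164aa6ea80f5a2, [3,2]),
  (0x80206a1a808026289a88, [6,3]),
  (0xad2aabea0847222dd8a, [1,3]),
  (0x12a5ae29cba22dea0bd00, [6,5,2]),
  (0x802022088a0282a8ab00, [2,7]),
  (0x802022388a0e82aafb00, [1,5,2]),
  (0x12a5ae29cba22dea0bcaa, [7,4,1]),
  (0x802022088a0282a8aba8, [7,2]),
  (0x802022388a0e82aafba8, [1,3,2]),
  (0x80206a2a8080262a8b00, [3,7]),
  (0x80206a2a8080262a8a88, [5,7]),
  (0x12a8ae2a8ba2a8ea2a900, [4,5]),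
  (0x802008020080260a8300, [2,7,1]),
  (0x12a8ae2a8ba2a8ea2a8aa, [4,3]),
  (0x802008020080260a8280, [7,2,1]),
  (0x802008021a8aa68aa300, [7,1]),
  (0x802008021a8aa68aa2a0, [7,1,0])],
   [0x22dc88164aaafa82b5a2]),
  ([0x182308802008830080202, 0x22dc88164aaafa82b5a2],
   [([12], 0x80200802008020080220, 0x80200802008020080220),
  ([8,10], 0x8020080200802008020a, 0x8020080200802008020a),
  ([6,4,5,2,3,4,1,2,3,0,1,2,6,2,3,4,1,2,3,0,1,2,6,3,4,2], 0xaa7f82b4b289e0085600, 0x18a63cab6e225d80a1600)],
   [(0x80200802008020080300, []),
  (0x80600806008060080600, []),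
  (0x80600806008060080620, []),
  (0x8060080600806008060a, [2,2]),
  (0x8060080600806008072a, [2]),
  (0x18af6cab6e088700a1700, [2,2]),
  (0x18af6cab6e088700a160a, [2,2,1]),
  (0x80b008021280b0080300, []),
  (0x80b008021280b0080220, [1]),
  (0xaafa82b4a22cd8085700, [2]),
  (0xaafa82b4a22cd808572a, [2,1])],
   [0x80b008021280b0080300, 0x80200802008020080300, 0x80600806008060080600, 0x80600806008060080620]),
  ([0x182308802008830080202, 0x22dc88164aaafa82b5a2, 0x80b008021280b0080300],
   [([12], 0x80200802008020080220, 0x80200802008020080220),
  ([6,1,2,3,0,1,2,6,4,5,3,4,2,3,1,2,6,2,3,4,5,1,2,3,4,2,3,1,2,0,1], 0x80b008021280b0080200, 0x80b008021280b0080200)],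
   [(0xaa6e8294e224c8085700, [1]),
  (0xaa6e8294e224c808572a, [1,0]),
  (0x18a72ca96a088700a1700, []),
  (0x18a72ca96a088700a160a, [0])],
   [0x18a72ca96a088700a1700]),
  ([0x182308802008830080202, 0x22dc88164aaafa82b5a2, 0x80b008021280b0080300, 0x18a72ca96a088700a1700],
   [],
   [(0x80a44a32c080200a1300, []),
  (0x80a44a32c080200a1208, []),
  (0x80204a128080200a1300, []),
  (0x80204a128080200a1208, [])],
   [0x80a44a32c080200a1300, 0x80a44a32c080200a1208, 0x80204a128080200a1300, 0x80204a128080200a1208]),
  ([0x182308802008830080202, 0x22dc88164aaafa82b5a2, 0x80200802008020080300],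
   [],
   [],
   []),
  ([0x182308802008830080202, 0x22dc88164aaafa82b5a2, 0x80600806008060080600],
   [],
   [],
   []),
  ([0x182308802008830080202, 0x22dc88164aaafa82b5a2, 0x80600806008060080620],
   [],
   [],
   []),
  ([0x80200802008020080300],
   [],
   [],
   []),
  ([0x80600806008060080600],
   [],
   [],
   []),
  ([0x80600806008060080602],
   [],
   [],
   []),
  ([0x8060282e0080602a0e00],
   [([10], 0x80200802008020080208, 0x80200802008020080208),
  ([14], 0x80200802008020080280, 0x80200802008020080280),
  ([2], 0x8060282e0080602a0e00, 0x8060282e0080602a0e00),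
  ([4], 0x88220882208020080200, 0x88220882208020080200),
  ([5], 0x80200802088220882200, 0x80200802088220882200),
  ([3,2,6,2,3], 0x8060282e088a64a82e00, 0x8060282e088a64a82e00),
  ([1,2,3,0,1,2,6,2,3,1,2,0,1], 0x80600806088a608a2600, 0x80600806088a608a2600),
  ([4,2], 0x88662a8ee080602a0e00, 0x88662a8ee080602a0e00),
  ([4,5], 0x88220882280200802000, 0x8020080288220882200),
  ([14,4,3,2,6,5,2,3], 0x88662a8ee08c2608c280, 0x88a64a82e08c662ace88),
  ([10,4,1,2,3,0,1,2,6,5,2,3,1,2,0,1], 0x88660886608c200a4208, 0x88a608a2608c600a4608)],
   [(0x20c8202c18224ca02c00, []),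
  (0x20c8202c002848220c00, [5,2]),
  (0x20c8202c18224ca02d8a, [0]),
  (0x20c8202c002848220c0a, [9,7,1]),
  (0x20c8202c18224ca02ca0, [1]),
  (0x20c8202c002848220ca0, [7,5,0]),
  (0x20c8202c18224ca02d2a, [1,0]),
  (0xa028080218aa28882200, [2]),
  (0x1a86a688e38a26ca82e00, [3]),
  (0xa028080200a028080200, [5]),
  (0x20c8202c002848220caa, [9,7]),
  (0xa028080218aa28882382, [2,0]),
  (0x1a86a688e38a26ca82f82, [3,0]),
  (0xa028080200a028080202, [0,5]),
  (0xa028080218aa28882220, [2,1]),
  (0x1a86a688e38a26ca82eaa, [3,1]),
  (0xa028080200a028080220, [5,1]),
  (0xa028080218aa288823a2, [2,1,0]),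
  (0x1a86a688e38a26ca82f28, [1,3]),
  (0x1288a0080382a08802000, [7]),
  (0x1284a608c202848220c00, [8]),
  (0xa028080200a028080222, [5,0]),
  (0x1288a0080382a0880218a, [7,0]),
  (0x1284a608c202848220da2, [9]),
  (0x1288a0080382a08802022, [7,1]),
  (0x1284a608c202848220c0a, [8,1]),
  (0x1288a0080382a088021a8, [1,7]),
  (0x1284a608c202848220da8, [9,0]),
  (0x1a8aa088220a028080200, [8,2]),
  (0x1a86a08a620a868080600, [6,7]),
  (0x1a8aa088220a02808032a, [9,2]),
  (0x1a86a08a620a868080602, [6,7,1]),
  (0x1a8aa088220a028080202, [8,2,1]),
  (0x1a86a08a620a86808072a, [6,7,0]),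
  (0x1a8aa088220a028080328, [7,9]),
  (0x1a86a08a620a868080728, [6,1,7]),
  (0x1284a00a4382248822400, [10,2,0]),
  (0x1288a60a8202008200800, [6,3]),
  (0x1284a00a4382248822422, [1,10,2]),
  (0x1288a60a820200820080a, [10,8]),
  (0x1284a00a438224882258a, [10,2]),
  (0x1288a60a82020082009a2, [10,9]),
  (0x1284a00a43822488225a8, [10,2,1]),
  (0x1288a60a82020082009a8, [10,9,0]),
  (0x1a8aa68aa38aa2caa2a00, [10,0]),
  (0xa0e8080618a2688a2600, [7,10,0]),
  (0x1a8aa68aa38aa2caa2aaa, [1,10]),
  (0xa0e8080618a2688a2620, [7,1,10]),
  (0x1a8aa68aa38aa2caa2b82, [10]),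
  (0xa0e8080618a2688a2782, [7,10]),
  (0x1a8aa68aa38aa2caa2b28, [10,1]),
  (0xa0e8080618a2688a27a2, [7,10,1]),
  (0x20082008182a0ca22800, [10,10]),
  (0x20082008182a0ca228a0, [10,10,1]),
  (0x20082008182a0ca2298a, [3,10]),
  (0x20082008182a0ca2292a, [8,10]),
  (0x20082008002008200800, [5,7,10,0]),
  (0x200820080020082008a0, [9,10,2]),
  (0x2008200800200820080a, [5,7,10,1]),
  (0x200820080020082008aa, [5,7,10]),
  (0xa0e8080600a868080600, [9,10,1]),
  (0xa0e8080600a868080620, [9,10]),
  (0xa0e8080600a868080602, [9,1,10]),
  (0xa0e8080600a868080622, [9,10,0])],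
   [0x20c8202c18224ca02c00]),
  ([0x8060282e0080602a0e00, 0x20c8202c18224ca02c00],
   [([5], 0x80200802088220882200, 0x80200802088220882200),
  ([4,3,2,6,2,3,4], 0x8c2608c280a44a02c00, 0x8c2608c280a44a02c00),
  ([1,2,3,0,1,2,6,2,3,1,2,0,1], 0x80600806088a608a2600, 0x80600806088a608a2600)],
   [(0x80200802008020080300, []),
  (0x80600806008060080600, []),
  (0x80600806088a608a2600, []),
  (0x8c2608c280a44a02c00, [2,1]),
  (0x88e2688e2080602a0e00, [2,0,1]),
  (0x80200802088220882200, [1,2,0,1]),
  (0x882268aa208020280a00, [1]),
  (0x80260a8280204a22800, [0,1]),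
  (0x80200802008c200a4300, []),
  (0x80a408124080200a1300, [1]),
  (0x80e40816408c60085700, [0,1])],
   [0x80200802008020080300, 0x80600806008060080600, 0x80600806088a608a2600, 0x80200802008c200a4300]),
  ([0x8060282e0080602a0e00, 0x20c8202c18224ca02c00, 0x80200802008020080300],
   [],
   [],
   []),
  ([0x8060282e0080602a0e00, 0x20c8202c18224ca02c00, 0x80600806008060080600],
   [],
   [],
   []),
  ([0x8060282e0080602a0e00, 0x20c8202c18224ca02c00, 0x80600806088a608a2600],
   [([5], 0x80200802088220882200, 0x80200802088220882200),
  ([1,2,3,0,1,2,6,2,3,1,2,0,1], 0x80600806088a608a2600, 0x80600806088a608a2600)],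
   [(0x8c2608c280a44a02c88, []),
  (0x88e2688e2080602a0e08, [0]),
  (0x882268aa208020280a08, [1]),
  (0x80260a8280204a22888, [1,0])],
   [0x8c2608c280a44a02c88]),
  ([0x8060282e0080602a0e00, 0x20c8202c18224ca02c00, 0x80600806088a608a2600, 0x8c2608c280a44a02c88],
   [],
   [(0x8c200a4280a40822400, []),
  (0x8c200a4280a40822488, []),
  (0x8020080280200802000, []),
  (0x8020080280200802088, [])],
   [0x8c200a4280a40822400, 0x8c200a4280a40822488, 0x8020080280200802000, 0x8020080280200802088]),
  ([0x8060282e0080602a0e00, 0x20c8202c18224ca02c00, 0x80200802008c200a4300],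
   [],
   [],
   []),
  ([0x80200802008c200a4300],
   [],
   [],
   []),
  ([0x80200802008c200a4220],
   [],
   [],
   [])]


/-- the element with code `p` has order `o` (`o = 2, 3, 4`) -/
noncomputable def testO (o p : ℕ) : Bool := force p fun p =>
  cond (Nat.beq o 2) (cond (Nat.beq p one) false (Nat.beq (mulN p p) one))
    (cond (Nat.beq o 3) (cond (Nat.beq p one) false (force (mulN p p) fun q => Nat.beq (mulN p q) one))
      (force (mulN p p) fun q => cond (Nat.beq q one) false (Nat.beq (mulN q q) one)))

/-- the orders -/
def ords (k : ℕ) : List ℕ :=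
  match k with
  | 1 => [3]
  | 2 => [2, 2]
  | 3 => [2, 4, 3]
  | 4 => [2, 3, 3, 2]
  | _ => []

/-- all tests of the new element `c` against the prefix -/
noncomputable def passes (pre : List ℕ) (os : List ℕ) (c : ℕ) : Bool :=
  List.rec (motive := fun _ => List ℕ → Bool) (fun _ => true)
    (fun p _ ih os => List.rec (motive := fun _ => Bool) true (fun o os' _ => cond (testO o (mulN p c)) (ih os') false) os)
    pre os

theorem passes_cons (p : ℕ) (pre : List ℕ) (o : ℕ) (os : List ℕ) (c : ℕ) :
    passes (p :: pre) (o :: os) c = cond (testO o (mulN p c)) (passes pre os c) false := rfl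
/-- the `i`-th generator -/
def getG (gens : List (List ℕ × ℕ × ℕ)) (i : ℕ) : List ℕ × ℕ × ℕ :=
  List.rec (motive := fun _ => ℕ → List ℕ × ℕ × ℕ) (fun _ => ([], one, one))
    (fun g _ ih i => Nat.rec (motive := fun _ => List ℕ × ℕ × ℕ) g (fun i _ => ih i) i) gens i

theorem getG_nil (i : ℕ) : getG [] i = ([], one, one) := rfl
theorem getG_succ (g : List ℕ × ℕ × ℕ) (gs : List (List ℕ × ℕ × ℕ)) (i : ℕ) : getG (g :: gs) (i + 1) = getG gs i := rfl

/-- conjugation along a path -/
noncomputable def pathN (gens : List (List ℕ × ℕ × ℕ)) (c : ℕ) (path : List ℕ) : ℕ :=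
  List.rec (motive := fun _ => ℕ → ℕ) (fun c => c)
    (fun i _ ih c => ih (mulN (getG gens i).2.1 (mulN c (getG gens i).2.2))) path c

theorem pathN_nil (gens : List (List ℕ × ℕ × ℕ)) (c : ℕ) : pathN gens c [] = c := rfl
theorem pathN_cons (gens : List (List ℕ × ℕ × ℕ)) (c i : ℕ) (path : List ℕ) :
    pathN gens c (i :: path) = pathN gens (mulN (getG gens i).2.1 (mulN c (getG gens i).2.2)) path := rfl

/-- list equality -/
def eqL (x y : List ℕ) : Bool :=
  List.rec (motive := fun _ => List ℕ → Bool)
    (fun y => List.rec (motive := fun _ => Bool) true (fun _ _ _ => false) y)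
    (fun a _ ih y => List.rec (motive := fun _ => Bool) false (fun b y' _ => cond (Nat.beq a b) (ih y') false) y) x y

theorem eqL_spec : ∀ {x y : List ℕ}, eqL x y = true → x = y
  | [], [], _ => rfl
  | [], _ :: _, h => absurd (show false = true from h) (by decide)
  | _ :: _, [], h => absurd (show false = true from h) (by decide)
  | a :: x, b :: y, h => by
    change cond (Nat.beq a b) (eqL x y) false = true at h
    cases hab : Nat.beq a b with
    | false => rw [hab] at h; simp at h
    | true =>
      rw [hab, cond_true] at h
      rw [Nat.eq_of_beq_eq_true hab, eqL_spec h]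

/-- membership in `F` on codes -/
noncomputable def inFb (c : ℕ) : Bool :=
  cond (Nat.beq c (gN 15)) true (force (Nat.shiftRight c 9) fun l => force (Nat.land c 511) fun q =>
    cond (anyL (fun p => cond (Nat.beq p.1 l) (tb p.2 q) false) tabB) true
      (anyL (fun p => cond (Nat.beq p.1 l) (tb p.2 q) false) tabA))

/-- the target tuple -/
def target : List ℕ := [0x182308802008830080202, 0x22dc88164aaafa82b5a2, 0x80b008021280b0080300, 0x18a72ca96a088700a1700,
  0x80a44a32c080200a1300]

/-- `k`-th entry -/
def nth (x : List ℕ) (k : ℕ) : ℕ := x.getD k one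

/-- the last condition on a complete tuple `(b, d, f, g, e)` -/
noncomputable def fin (x : List ℕ) : Bool :=
  force (mulN (nth x 1) (mulN (nth x 4) (mulN (nth x 2) (nth x 3)))) fun w =>
  force (mulN w w) fun w2 =>
  cond (Nat.beq (mulN w (mulN w2 w2)) (gN 0)) (inFb (mulN (nth x 0) (mulN (nth x 4) (mulN (nth x 3) (gN 0))))) false

/-- the check of a node -/
noncomputable def chkNode (nodes : List Node) (N : Node) : Bool :=
  cond (allL (fun g => cond (Nat.beq (wN g.1) g.2.1) (cond (Nat.beq (wN g.1.reverse) g.2.2)
      (cond (Nat.beq (mulN g.2.1 (gN 0)) (mulN (gN 0) g.2.1))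
        (allL (fun p => Nat.beq (mulN g.2.1 p) (mulN p g.2.1)) N.1) false) false) false) N.2.1)
    (cond (allL (fun c => cond (passes N.1 (ords N.1.length) c)
        (anyL (fun en => cond (Nat.beq en.1 c) (anyL (fun r => Nat.beq r (pathN N.2.1 c en.2)) N.2.2.2) false) N.2.2.1) true)
        listK)
      (allL (fun r => cond (Nat.beq N.1.length 4) (cond (fin (N.1 ++ [r])) (eqL (N.1 ++ [r]) target) true)
        (anyL (fun N' => eqL N'.1 (N.1 ++ [r])) nodes)) N.2.2.2) false) false

theorem chkNodes : allL (chkNode nodes) nodes = true := by
  delta chkNode passes testO pathN fin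
  rw [show mulN = mulS from funext fun x => funext (mulS_eq x)]
  decide +kernel

/-! ### the argument -/

section

variable {C : Type*} [Group C] {t : C} {ev : QM →* C} {D : ℕ → C} {R : Rels false t ev D}

theorem testO_spec (A : Data R) {o : ℕ} (ho : o = 2 ∨ o = 3 ∨ o = 4) {z : C} (hz : orderOf z = o) :
    testO o (cd ev D z) = true := by
  have h1 : ∀ w : C, w ≠ 1 → Nat.beq (cd ev D w) one = false := by
    intro w hw
    cases h : Nat.beq (cd ev D w) one with
    | false => rfl
    | true =>
      have := Nat.eq_of_beq_eq_true h
      rw [← cd_one A] at this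
      exact absurd ((cd_inj A).1 this) hw
  have h2 : ∀ w : C, w = 1 → Nat.beq (cd ev D w) one = true := by
    rintro w rfl
    rw [cd_one A, Nat.beq_refl]
  have hpow : ∀ n : ℕ, 0 < n → n < o → z ^ n ≠ 1 := by
    intro n hn hno
    rw [← hz] at hno
    exact pow_ne_one_of_lt_orderOf hn.ne' hno
  have hone : z ^ o = 1 := by rw [← hz]; exact pow_orderOf_eq_one z
  unfold testO
  rw [force_eq]
  rcases ho with rfl | rfl | rfl
  · have e1 := h1 z (by have := hpow 1 (by norm_num) (by norm_num); rwa [pow_one] at this)
    have e2 := h2 (z * z) (by rw [← pow_two]; exact hone)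
    rw [← cd_mul A, e1, e2]
    rfl
  · have e1 := h1 z (by have := hpow 1 (by norm_num) (by norm_num); rwa [pow_one] at this)
    have e2 := h2 (z * (z * z)) (by rw [← pow_two, ← pow_succ']; exact hone)
    rw [force_eq, force_eq, ← cd_mul A, ← cd_mul A, e1, e2]
    rfl
  · have e1 := h1 (z * z) (by have := hpow 2 (by norm_num) (by norm_num); rwa [pow_two] at this)
    have e2 := h2 (z * z * (z * z)) (by rw [← pow_two, ← pow_two, ← pow_mul]; exact hone)
    rw [force_eq, force_eq, ← cd_mul A, ← cd_mul A, ← cd_mul A, e1, e2]
    rfl

/-- the tuples `(b', d', f', g', e')` -/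
structure Good (t : C) (D : ℕ → C) (y : ℕ → C) : Prop where
  mem : ∀ i < 5, InF t D (y i)
  comm : ∀ i < 5, D 0 * y i = y i * D 0
  o01 : orderOf (y 0 * y 1) = 3
  o02 : orderOf (y 0 * y 2) = 2
  o12 : orderOf (y 1 * y 2) = 2
  o03 : orderOf (y 0 * y 3) = 2
  o13 : orderOf (y 1 * y 3) = 4
  o23 : orderOf (y 2 * y 3) = 3
  o04 : orderOf (y 0 * y 4) = 2
  o14 : orderOf (y 1 * y 4) = 3
  o24 : orderOf (y 2 * y 4) = 3
  o34 : orderOf (y 3 * y 4) = 2
  w : (y 1 * y 4 * y 2 * y 3) ^ 5 = D 0
  beg : InF t D (y 0 * y 4 * y 3 * D 0)

theorem orderOf_conj (k z w : C) : orderOf (k * z * k⁻¹ * (k * w * k⁻¹)) = orderOf (z * w) := by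
  have e : k * z * k⁻¹ * (k * w * k⁻¹) = k * (z * w) * k⁻¹ := by group
  rw [e]
  exact (MulAut.conj k).orderOf_eq (z * w)

include R in
theorem Good.conj {y : ℕ → C} (h : Good t D y) {k : C} (hk : k * D 0 = D 0 * k) :
    Good t D (fun i => k * y i * k⁻¹) := by
  have hk' : k * D 0 * k⁻¹ = D 0 := by rw [hk, mul_inv_cancel_right]
  refine ⟨fun i hi => InF_conj (h.mem i hi) R.cent k, fun i hi => ?_, ?_, ?_, ?_, ?_, ?_, ?_, ?_, ?_, ?_, ?_, ?_, ?_⟩
  · calc D 0 * (k * y i * k⁻¹) = k * D 0 * k⁻¹ * (k * y i * k⁻¹) := by rw [hk']
      _ = k * (D 0 * y i) * k⁻¹ := by group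
      _ = k * (y i * D 0) * k⁻¹ := by rw [h.comm i hi]
      _ = k * y i * k⁻¹ * (k * D 0 * k⁻¹) := by group
      _ = k * y i * k⁻¹ * D 0 := by rw [hk']
  · rw [orderOf_conj]; exact h.o01
  · rw [orderOf_conj]; exact h.o02
  · rw [orderOf_conj]; exact h.o12
  · rw [orderOf_conj]; exact h.o03
  · rw [orderOf_conj]; exact h.o13
  · rw [orderOf_conj]; exact h.o23
  · rw [orderOf_conj]; exact h.o04
  · rw [orderOf_conj]; exact h.o14
  · rw [orderOf_conj]; exact h.o24
  · rw [orderOf_conj]; exact h.o34
  · have e : k * y 1 * k⁻¹ * (k * y 4 * k⁻¹) * (k * y 2 * k⁻¹) * (k * y 3 * k⁻¹) =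
        k * (y 1 * y 4 * y 2 * y 3) * k⁻¹ := by group
    show (k * y 1 * k⁻¹ * (k * y 4 * k⁻¹) * (k * y 2 * k⁻¹) * (k * y 3 * k⁻¹)) ^ 5 = D 0
    rw [e, conj_pow, h.w, hk']
  · have e : k * y 0 * k⁻¹ * (k * y 4 * k⁻¹) * (k * y 3 * k⁻¹) * D 0 =
        k * (y 0 * y 4 * y 3 * D 0) * k⁻¹ := by
      calc k * y 0 * k⁻¹ * (k * y 4 * k⁻¹) * (k * y 3 * k⁻¹) * D 0
          = k * y 0 * k⁻¹ * (k * y 4 * k⁻¹) * (k * y 3 * k⁻¹) * (k * D 0 * k⁻¹) := by rw [hk']
        _ = k * (y 0 * y 4 * y 3 * D 0) * k⁻¹ := by group
    show InF t D (k * y 0 * k⁻¹ * (k * y 4 * k⁻¹) * (k * y 3 * k⁻¹) * D 0)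
    rw [e]
    exact InF_conj h.beg R.cent k

/-- the codes of the first `k` entries -/
noncomputable def pre (ev : QM →* C) (D : ℕ → C) (y : ℕ → C) (k : ℕ) : List ℕ := (List.range k).map fun i => cd ev D (y i)

theorem pre_succ (y : ℕ → C) (k : ℕ) : pre ev D y (k + 1) = pre ev D y k ++ [cd ev D (y k)] := by
  unfold pre
  rw [List.range_succ, List.map_append]
  rfl

theorem pre_length (y : ℕ → C) (k : ℕ) : (pre ev D y k).length = k := by
  unfold pre
  rw [List.length_map, List.length_range]

theorem passes_spec (A : Data R) {y : ℕ → C} (h : Good t D y) {k : ℕ} (hk : k < 5) :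
    passes (pre ev D y k) (ords k) (cd ev D (y k)) = true := by
  have T2 : ∀ {z w : C}, orderOf (z * w) = 2 → testO 2 (mulN (cd ev D z) (cd ev D w)) = true := by
    intro z w hzw
    rw [← cd_mul A]; exact testO_spec A (Or.inl rfl) hzw
  have T3 : ∀ {z w : C}, orderOf (z * w) = 3 → testO 3 (mulN (cd ev D z) (cd ev D w)) = true := by
    intro z w hzw
    rw [← cd_mul A]; exact testO_spec A (Or.inr (Or.inl rfl)) hzw
  have T4 : ∀ {z w : C}, orderOf (z * w) = 4 → testO 4 (mulN (cd ev D z) (cd ev D w)) = true := by
    intro z w hzw
    rw [← cd_mul A]; exact testO_spec A (Or.inr (Or.inr rfl)) hzw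
  interval_cases k
  · rfl
  · show passes [cd ev D (y 0)] [3] (cd ev D (y 1)) = true
    rw [passes_cons, T3 h.o01]; rfl
  · show passes [cd ev D (y 0), cd ev D (y 1)] [2, 2] (cd ev D (y 2)) = true
    rw [passes_cons, T2 h.o02, cond_true, passes_cons, T2 h.o12]; rfl
  · show passes [cd ev D (y 0), cd ev D (y 1), cd ev D (y 2)] [2, 4, 3] (cd ev D (y 3)) = true
    rw [passes_cons, T2 h.o03, cond_true, passes_cons, T4 h.o13, cond_true, passes_cons, T3 h.o23]; rfl
  · show passes [cd ev D (y 0), cd ev D (y 1), cd ev D (y 2), cd ev D (y 3)] [2, 3, 3, 2] (cd ev D (y 4)) = true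
    rw [passes_cons, T2 h.o04, cond_true, passes_cons, T3 h.o14, cond_true, passes_cons, T3 h.o24, cond_true,
      passes_cons, T2 h.o34]; rfl

theorem cond_and {a : Bool} {b : Bool} (h : cond a b false = true) : a = true ∧ b = true := by
  cases a with
  | false => simp at h
  | true => exact ⟨rfl, h⟩

theorem getG_cases (gens : List (List ℕ × ℕ × ℕ)) (i : ℕ) :
    getG gens i ∈ gens ∨ getG gens i = ([], one, one) := by
  induction gens generalizing i with
  | nil => exact Or.inr (getG_nil i)
  | cons g gs ih =>
    cases i with
    | zero => exact Or.inl List.mem_cons_self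
    | succ i =>
      rw [getG_succ]
      rcases ih i with h | h
      · exact Or.inl (List.mem_cons_of_mem _ h)
      · exact Or.inr h

theorem path_spec (A : Data R) {N1 : List ℕ} {gens : List (List ℕ × ℕ × ℕ)}
    (hg : allL (fun g => cond (Nat.beq (wN g.1) g.2.1) (cond (Nat.beq (wN g.1.reverse) g.2.2)
      (cond (Nat.beq (mulN g.2.1 (gN 0)) (mulN (gN 0) g.2.1))
        (allL (fun p => Nat.beq (mulN g.2.1 p) (mulN p g.2.1)) N1) false) false) false) gens = true)
    (path : List ℕ) : ∀ z : C, ∃ h : C, h * D 0 = D 0 * h ∧ (∀ u : C, cd ev D u ∈ N1 → h * u = u * h) ∧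
      cd ev D (h * z * h⁻¹) = pathN gens (cd ev D z) path := by
  induction path with
  | nil =>
    intro z
    refine ⟨1, by simp, by simp, ?_⟩
    rw [pathN_nil, one_mul, inv_one, mul_one]
  | cons i path ih =>
    intro z
    have key : ∃ γ : C, γ * D 0 = D 0 * γ ∧ (∀ u : C, cd ev D u ∈ N1 → γ * u = u * γ) ∧
        cd ev D γ = (getG gens i).2.1 ∧ cd ev D γ⁻¹ = (getG gens i).2.2 := by
      rcases getG_cases gens i with h | h
      · have h1 := allL_spec hg _ h
        generalize getG gens i = g at h1
        obtain ⟨e1, h2⟩ := cond_and h1
        obtain ⟨e2, h3⟩ := cond_and h2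
        obtain ⟨e3, e4⟩ := cond_and h3
        refine ⟨wv ev D g.1, ?_, ?_, ?_, ?_⟩
        · rw [← cd_inj A, cd_mul A, cd_mul A, cd_wv A, Nat.eq_of_beq_eq_true e1, cd_D A (by norm_num)]
          exact Nat.eq_of_beq_eq_true e3
        · intro u hu
          have h5 := allL_spec e4 _ hu
          rw [← cd_inj A, cd_mul A, cd_mul A, cd_wv A, Nat.eq_of_beq_eq_true e1]
          exact Nat.eq_of_beq_eq_true h5
        · rw [cd_wv A]; exact Nat.eq_of_beq_eq_true e1
        · rw [← wv_reverse A, cd_wv A]; exact Nat.eq_of_beq_eq_true e2
      · rw [h]
        exact ⟨1, by simp, by simp, cd_one A, by rw [inv_one]; exact cd_one A⟩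
    obtain ⟨γ, g1, g2, g3, g4⟩ := key
    obtain ⟨h, h1, h2, h3⟩ := ih (γ * z * γ⁻¹)
    refine ⟨h * γ, ?_, ?_, ?_⟩
    · rw [mul_assoc, g1, ← mul_assoc, h1, mul_assoc]
    · intro u hu
      rw [mul_assoc, g2 u hu, ← mul_assoc, h2 u hu, mul_assoc]
    · rw [pathN_cons, ← g3, ← g4, ← cd_mul A, ← cd_mul A, ← mul_assoc, ← h3]
      congr 1
      group

/-- one step -/
theorem step (A : Data R) {y : ℕ → C} (h : Good t D y) {k : ℕ} (hk : k < 5) {N : Node} (hN : N ∈ nodes)
    (hpre : N.1 = pre ev D y k) : ∃ c : C, c * D 0 = D 0 * c ∧ (∀ i < k, c * y i = y i * c) ∧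
      cd ev D (c * y k * c⁻¹) ∈ N.2.2.2 := by
  have h0 := allL_spec chkNodes N hN
  obtain ⟨hg, h1⟩ := cond_and h0
  obtain ⟨he, _⟩ := cond_and h1
  have hc := cd_mem_listK A (h.mem k hk) (h.comm k hk)
  have h2 := allL_spec he _ hc
  have hlen : N.1.length = k := by rw [hpre, pre_length]
  rw [hlen, hpre, passes_spec A h hk, cond_true] at h2
  obtain ⟨en, hen, h3⟩ := anyL_spec h2
  obtain ⟨e1, h4⟩ := cond_and h3
  obtain ⟨r, hr, h5⟩ := anyL_spec h4
  obtain ⟨c, c1, c2, c3⟩ := path_spec A hg en.2 (y k)
  refine ⟨c, c1, fun i hi => c2 _ ?_, ?_⟩
  · rw [hpre]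
    exact List.mem_map.2 ⟨i, List.mem_range.2 hi, rfl⟩
  · rw [c3, ← Nat.eq_of_beq_eq_true h5]
    exact hr

theorem inFb_spec {c : ℕ} (h : FC c) : inFb c = true := by
  have key : ∀ T : List (ℕ × ℕ), InT T c →
      anyL (fun p => cond (Nat.beq p.1 (Nat.shiftRight c 9)) (tb p.2 (Nat.land c 511)) false) T = true := by
    rintro T ⟨p, hp, q, hq, hb, rfl⟩
    have e1 : Nat.shiftRight (q + 512 * p.1) 9 = p.1 := by
      show (q + 512 * p.1) >>> 9 = p.1
      rw [Nat.shiftRight_eq_div_pow]; omega
    have e2 : Nat.land (q + 512 * p.1) 511 = q := by
      show (q + 512 * p.1) &&& 511 = q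
      rw [show (511 : ℕ) = 2 ^ 9 - 1 by norm_num, Nat.and_two_pow_sub_one_eq_mod]; omega
    rw [e1, e2]
    clear e1 e2
    induction T with
    | nil => simp at hp
    | cons a T ih =>
      show cond (cond (Nat.beq a.1 p.1) (tb a.2 q) false) true
        (anyL (fun p' => cond (Nat.beq p'.1 p.1) (tb p'.2 q) false) T) = true
      rcases List.mem_cons.1 hp with rfl | hp
      · rw [Nat.beq_refl, cond_true, tb_eq, hb]; rfl
      · rw [ih hp]
        cases cond (Nat.beq a.1 p.1) (tb a.2 q) false <;> rfl
  unfold inFb
  rcases h with rfl | h | h
  · rw [Nat.beq_refl]; rfl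
  · rw [force_eq, force_eq, key _ h]
    cases Nat.beq c (gN 15) <;> rfl
  · rw [force_eq, force_eq, key _ h]
    generalize anyL (fun p => cond (Nat.beq p.1 (Nat.shiftRight c 9)) (tb p.2 (Nat.land c 511)) false) tabB = b1
    cases Nat.beq c (gN 15) <;> cases b1 <;> rfl

theorem fin_spec (A : Data R) {y : ℕ → C} (h : Good t D y) : fin (pre ev D y 5) = true := by
  have n0 : nth (pre ev D y 5) 0 = cd ev D (y 0) := rfl
  have n1 : nth (pre ev D y 5) 1 = cd ev D (y 1) := rfl
  have n2 : nth (pre ev D y 5) 2 = cd ev D (y 2) := rfl
  have n3 : nth (pre ev D y 5) 3 = cd ev D (y 3) := rfl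
  have n4 : nth (pre ev D y 5) 4 = cd ev D (y 4) := rfl
  unfold fin
  rw [n0, n1, n2, n3, n4, force_eq, force_eq, ← cd_mul A, ← cd_mul A, ← cd_mul A, ← cd_mul A, ← cd_mul A, ← cd_mul A,
    ← cd_D A (show 0 < 7 by norm_num), ← cd_mul A, ← cd_mul A, ← cd_mul A]
  have e1 : y 1 * (y 4 * (y 2 * y 3)) * (y 1 * (y 4 * (y 2 * y 3)) * (y 1 * (y 4 * (y 2 * y 3))) *
      (y 1 * (y 4 * (y 2 * y 3)) * (y 1 * (y 4 * (y 2 * y 3))))) = D 0 := by
    rw [← h.w]
    simp only [pow_succ, pow_zero, one_mul, mul_assoc]
  have e2 : y 0 * (y 4 * (y 3 * D 0)) = y 0 * y 4 * y 3 * D 0 := by simp only [mul_assoc]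
  rw [e1, Nat.beq_refl, cond_true, e2]
  exact inFb_spec (FC_of_InF A h.beg)

/-- **Conjugacy of the good tuples.** -/
theorem exists_conj (A : Data R) {y : ℕ → C} (h : Good t D y) :
    ∃ c : C, c * D 0 = D 0 * c ∧ pre ev D (fun i => c * y i * c⁻¹) 5 = target := by
  -- induction over the levels
  have key : ∀ k : ℕ, k < 5 → ∃ c : C, c * D 0 = D 0 * c ∧
      ∃ N ∈ nodes, N.1 = pre ev D (fun i => c * y i * c⁻¹) k := by
    intro k
    induction k with
    | zero =>
      intro _
      refine ⟨1, by simp, nodes.head (by decide), List.head_mem _, rfl⟩
    | succ k ih =>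
      intro hk
      obtain ⟨c, hc, N, hN, hpre⟩ := ih (by omega)
      have hG := h.conj (R := R) hc
      obtain ⟨c', h1, h2, h3⟩ := step A hG (by omega) hN hpre
      refine ⟨c' * c, by rw [mul_assoc, hc, ← mul_assoc, h1, mul_assoc], ?_⟩
      have h0 := allL_spec chkNodes N hN
      obtain ⟨_, h4⟩ := cond_and h0
      obtain ⟨_, h5⟩ := cond_and h4
      have h6 := allL_spec h5 _ h3
      have hlen : N.1.length = k := by rw [hpre, pre_length]
      have hne : Nat.beq N.1.length 4 = false := by
        rw [hlen]
        cases hb : Nat.beq k 4 with
        | false => rfl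
        | true => have := Nat.eq_of_beq_eq_true hb; omega
      rw [hne, cond_false] at h6
      obtain ⟨N', hN', h7⟩ := anyL_spec h6
      refine ⟨N', hN', ?_⟩
      rw [eqL_spec h7, pre_succ, hpre]
      congr 1
      · unfold pre
        apply List.map_congr_left
        intro i hi
        have hi' := h2 i (List.mem_range.1 hi)
        congr 1
        calc c * y i * c⁻¹ = (c * y i * c⁻¹) * c' * c'⁻¹ := by group
          _ = c' * (c * y i * c⁻¹) * c'⁻¹ := by rw [hi']
          _ = c' * c * y i * (c' * c)⁻¹ := by group
      · congr 2
        group
  obtain ⟨c, hc, N, hN, hpre⟩ := key 4 (by norm_num)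
  have hG := h.conj (R := R) hc
  obtain ⟨c', h1, h2, h3⟩ := step A hG (by norm_num) hN hpre
  have hcc : c' * c * D 0 = D 0 * (c' * c) := by rw [mul_assoc, hc, ← mul_assoc, h1, mul_assoc]
  refine ⟨c' * c, hcc, ?_⟩
  have h0 := allL_spec chkNodes N hN
  obtain ⟨_, h4⟩ := cond_and h0
  obtain ⟨_, h5⟩ := cond_and h4
  have h6 := allL_spec h5 _ h3
  have hlen : N.1.length = 4 := by rw [hpre, pre_length]
  rw [hlen, Nat.beq_refl, cond_true] at h6
  have e : N.1 ++ [cd ev D (c' * (c * y 4 * c⁻¹) * c'⁻¹)] = pre ev D (fun i => c' * c * y i * (c' * c)⁻¹) 5 := by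
    rw [pre_succ, hpre]
    congr 1
    · unfold pre
      apply List.map_congr_left
      intro i hi
      have hi' := h2 i (List.mem_range.1 hi)
      congr 1
      calc c * y i * c⁻¹ = (c * y i * c⁻¹) * c' * c'⁻¹ := by group
        _ = c' * (c * y i * c⁻¹) * c'⁻¹ := by rw [hi']
        _ = c' * c * y i * (c' * c)⁻¹ := by group
    · congr 2
      group
  rw [e, fin_spec A (h.conj (R := R) hcc), cond_true] at h6
  exact eqL_spec h6

end

end Cfsg.Agent.Co2Type.Tuple
end

-- part: Co2Type/TupleOut
section
/-!
# Piece (C-ii): a swap of `t` and `D 0` can be corrected to the explicit one (R03, helper757)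

Input: Letter B (`t^G ∩ C`) and an `x₀` with `x₀⁻¹ t x₀ = D 0`, `x₀⁻¹ (D 0) x₀ = t`.
Output: `x` with `x⁻¹ u x = u*` for `u = t, a, b, d, e, f, g` (hypotheses of `CommOut.relations`).
-/

set_option autoImplicit false

namespace Cfsg.Agent.Co2Type.TupleOut

open Cfsg.Agent.Co2Type.QModel Cfsg.Agent.Co2Type.Act Cfsg.Agent.Co2Type.Rels Cfsg.Agent.Co2Type.CCode
open Cfsg.Agent.Co2Type.FList Cfsg.Agent.Co2Type.Tuple Cfsg.Agent.Co2Type.CommChk Cfsg.Agent.Co2Type.CommOut

section orders

variable {C : Type*} [Group C] {t : C} {ev : QM →* C} {D : ℕ → C} {R : Rels false t ev D}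

theorem wv_ne_one (A : Data R) {w : List ℕ} (h : Nat.beq (wN w) one = false) : wv ev D w ≠ 1 := by
  intro e
  have h1 : wN w = one := by rw [← cd_wv A, e, cd_one A]
  rw [h1, Nat.beq_refl] at h
  exact Bool.noConfusion h

theorem wv_eq_one (A : Data R) {w : List ℕ} (h : wN w = one) : wv ev D w = 1 := by
  rw [← cd_inj A, cd_wv A, cd_one A, h]

theorem order2 (A : Data R) {w : List ℕ} (h1 : Nat.beq (wN w) one = false) (h2 : wN (w ++ w) = one) :
    orderOf (wv ev D w) = 2 := by
  have : Fact (Nat.Prime 2) := ⟨Nat.prime_two⟩
  refine orderOf_eq_prime ?_ (wv_ne_one A h1)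
  rw [pow_two, ← wv_append]
  exact wv_eq_one A h2

theorem order3 (A : Data R) {w : List ℕ} (h1 : Nat.beq (wN w) one = false) (h2 : wN (w ++ (w ++ w)) = one) :
    orderOf (wv ev D w) = 3 := by
  have : Fact (Nat.Prime 3) := ⟨Nat.prime_three⟩
  refine orderOf_eq_prime ?_ (wv_ne_one A h1)
  rw [pow_succ', pow_two, ← wv_append, ← wv_append]
  exact wv_eq_one A h2

theorem order4 (A : Data R) {w : List ℕ} (h1 : Nat.beq (wN (w ++ w)) one = false)
    (h2 : wN ((w ++ w) ++ (w ++ w)) = one) : orderOf (wv ev D w) = 4 := by
  have : Fact (Nat.Prime 2) := ⟨Nat.prime_two⟩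
  have h := orderOf_eq_prime_pow (p := 2) (n := 1) (x := wv ev D w) ?_ ?_
  · simpa using h
  · rw [pow_one, pow_two, ← wv_append]
    exact wv_ne_one A h1
  · have e : (wv ev D w) ^ 2 ^ (1 + 1) = wv ev D w * wv ev D w * (wv ev D w * wv ev D w) := by
      rw [show (2 : ℕ) ^ (1 + 1) = 2 * 2 by norm_num, pow_mul, pow_two, pow_two]
    rw [e, ← wv_append, ← wv_append]
    exact wv_eq_one A h2

end orders

/-- the five words `b, d, f, g, e` -/
def ww (i : ℕ) : List ℕ :=
  match i with
  | 0 => w_b
  | 1 => w_d
  | 2 => w_f
  | 3 => w_g
  | 4 => w_e
  | _ => []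

/-- the five words `b*, d*, f*, g*, e*` -/
def wws (i : ℕ) : List ℕ :=
  match i with
  | 0 => w_bs
  | 1 => w_ds
  | 2 => w_fs
  | 3 => w_gs
  | 4 => w_es
  | _ => []

theorem target_eq : ∀ i < 5, nth target i = wN (wws i) := by decide +kernel

theorem ww_comm : ∀ i < 6, wN (0 :: ww i) = wN (ww i ++ [0]) := by decide +kernel

variable {G : Type*} [Group G] {t : G} {tc : Subgroup.centralizer ({t} : Set G)}
  {ev : QM →* Subgroup.centralizer ({t} : Set G)} {D : ℕ → Subgroup.centralizer ({t} : Set G)}
  {R : Rels false tc ev D}

theorem exists_x (A : Data R) (htc : (tc : G) = t)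
    (hfus : ∀ y : Subgroup.centralizer ({t} : Set G), IsConj t (y : G) → InF tc D y)
    (hbeta : IsConj t (D 0 : G))
    (halpha : IsConj t ((tc * D 3 * D 5 * D 6 : Subgroup.centralizer ({t} : Set G)) : G))
    {x0 : G} (h1 : x0⁻¹ * t * x0 = D 0) (h2 : x0⁻¹ * (D 0 : G) * x0 = t) :
    ∃ x : G, x⁻¹ * t * x = wg ev D w_a ∧ x⁻¹ * wg ev D w_a * x = t ∧
      x⁻¹ * wg ev D w_b * x = wg ev D w_bs ∧ x⁻¹ * wg ev D w_d * x = wg ev D w_ds ∧
      x⁻¹ * wg ev D w_e * x = wg ev D w_es ∧ x⁻¹ * wg ev D w_f * x = wg ev D w_fs ∧
      x⁻¹ * wg ev D w_g * x = wg ev D w_gs := by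
  have hwa : wv ev D w_a = D 0 := by
    show wv ev D [0] = D 0
    rw [wv, wv, mul_one, gv_lt (by norm_num)]
  have hwga : wg ev D w_a = (D 0 : G) := by unfold wg; rw [hwa]
  have hwt : wv ev D [15] = tc := by
    rw [wv, wv, mul_one, gv_t (R := R)]
  -- the map `u ↦ x₀⁻¹ u x₀` from `C_C(D 0)` to `C`
  let K : Subgroup (Subgroup.centralizer ({t} : Set G)) := Subgroup.centralizer {D 0}
  have hK : ∀ u : K, ((u : Subgroup.centralizer ({t} : Set G)) : G) * D 0 = D 0 * ((u : Subgroup.centralizer ({t} : Set G)) : G) := by
    intro u
    have := Subgroup.mem_centralizer_singleton_iff.1 u.2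
    exact congrArg Subtype.val this
  have hmem : ∀ u : K, x0⁻¹ * ((u : Subgroup.centralizer ({t} : Set G)) : G) * x0 ∈ Subgroup.centralizer ({t} : Set G) := by
    intro u
    rw [Subgroup.mem_centralizer_singleton_iff]
    calc x0⁻¹ * ((u : Subgroup.centralizer ({t} : Set G)) : G) * x0 * t
        = x0⁻¹ * ((u : Subgroup.centralizer ({t} : Set G)) : G) * x0 * (x0⁻¹ * (D 0 : G) * x0) := by rw [h2]
      _ = x0⁻¹ * (((u : Subgroup.centralizer ({t} : Set G)) : G) * D 0) * x0 := by group
      _ = x0⁻¹ * (D 0 * ((u : Subgroup.centralizer ({t} : Set G)) : G)) * x0 := by rw [hK]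
      _ = (x0⁻¹ * (D 0 : G) * x0) * (x0⁻¹ * ((u : Subgroup.centralizer ({t} : Set G)) : G) * x0) := by group
      _ = t * (x0⁻¹ * ((u : Subgroup.centralizer ({t} : Set G)) : G) * x0) := by rw [h2]
  let φ : K →* Subgroup.centralizer ({t} : Set G) :=
    { toFun := fun u => ⟨x0⁻¹ * ((u : Subgroup.centralizer ({t} : Set G)) : G) * x0, hmem u⟩
      map_one' := by
        apply Subtype.ext
        show x0⁻¹ * (1 : G) * x0 = 1
        group
      map_mul' := fun u v => by
        apply Subtype.ext
        show x0⁻¹ * (((u : Subgroup.centralizer ({t} : Set G)) : G) * ((v : Subgroup.centralizer ({t} : Set G)) : G)) * x0 =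
          x0⁻¹ * ((u : Subgroup.centralizer ({t} : Set G)) : G) * x0 * (x0⁻¹ * ((v : Subgroup.centralizer ({t} : Set G)) : G) * x0)
        group }
  have hφ : ∀ u : K, ((φ u : Subgroup.centralizer ({t} : Set G)) : G) = x0⁻¹ * ((u : Subgroup.centralizer ({t} : Set G)) : G) * x0 :=
    fun _ => rfl
  have hinj : Function.Injective φ := by
    intro u v h
    have h3 := congrArg (Subtype.val : Subgroup.centralizer ({t} : Set G) → G) h
    rw [hφ, hφ] at h3
    apply Subtype.ext
    apply Subtype.ext
    calc ((u : Subgroup.centralizer ({t} : Set G)) : G)
        = x0 * (x0⁻¹ * ((u : Subgroup.centralizer ({t} : Set G)) : G) * x0) * x0⁻¹ := by group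
      _ = x0 * (x0⁻¹ * ((v : Subgroup.centralizer ({t} : Set G)) : G) * x0) * x0⁻¹ := by rw [h3]
      _ = _ := by group
  have hKw : ∀ w : List ℕ, wN (0 :: w) = wN (w ++ [0]) → wv ev D w ∈ K := by
    intro w hw
    rw [Subgroup.mem_centralizer_singleton_iff]
    have := wv_eq A hw
    rw [wv, wv_append, gv_lt (by norm_num)] at this
    have e : wv ev D [0] = D 0 := hwa
    rw [e] at this
    exact this.symm
  have hww : ∀ i, wN (0 :: ww i) = wN (ww i ++ [0]) := by
    intro i
    rcases Nat.lt_or_ge i 5 with hi | hi
    · exact ww_comm i (by omega)
    · have : ww i = [] := by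
        unfold ww
        split <;> first | omega | rfl
      rw [this]
      rfl
  let k : ℕ → K := fun i => ⟨wv ev D (ww i), hKw _ (hww i)⟩
  have hk : ∀ i, ((k i : K) : Subgroup.centralizer ({t} : Set G)) = wv ev D (ww i) := fun _ => rfl
  have htK : tc ∈ K := by
    rw [Subgroup.mem_centralizer_singleton_iff]
    exact (R.cent _).symm
  let kt : K := ⟨tc, htK⟩
  have hkt : φ kt = D 0 := by
    apply Subtype.ext
    rw [hφ]
    show x0⁻¹ * (tc : G) * x0 = D 0
    rw [htc, h1]
  have hord : ∀ i j, orderOf (φ (k i) * φ (k j)) = orderOf (wv ev D (ww i ++ ww j)) := by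
    intro i j
    rw [← map_mul, orderOf_injective φ hinj, ← Subgroup.orderOf_coe, Subgroup.coe_mul, hk, hk, wv_append]
  have hconjG : ∀ u : K, IsConj t ((u : Subgroup.centralizer ({t} : Set G)) : G) → InF tc D (φ u) := by
    intro u hu
    apply hfus
    rw [hφ]
    exact hu.trans (isConj_iff.2 ⟨x0⁻¹, by rw [inv_inv]⟩)
  -- the letters are conjugate to `t`
  have hletter : ∀ u : List ℕ, IsConj t (wg ev D (u ++ ([0] ++ u.reverse))) := fun u =>
    conj_word A u [0] (by
      have : wg ev D [0] = (D 0 : G) := hwga
      rw [this]; exact hbeta)
  have hb : ∀ i < 5, IsConj t (wg ev D (ww i)) := by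
    intro i hi
    interval_cases i
    · have e : wg ev D (ww 0) = wg ev D ([2,6,1,2,0,1] ++ ([0] ++ [2,6,1,2,0,1].reverse)) := wg_eq A (by decide +kernel)
      rw [e]; exact hletter _
    · have e : wg ev D (ww 1) = wg ev D ([8,1,2,0,1] ++ ([0] ++ [8,1,2,0,1].reverse)) := wg_eq A (by decide +kernel)
      rw [e]; exact hletter _
    · have e : wg ev D (ww 2) = wg ev D ([3,4,2,3,1,2,0,1] ++ ([0] ++ [3,4,2,3,1,2,0,1].reverse)) := wg_eq A (by decide +kernel)
      rw [e]; exact hletter _
    · have e : wg ev D (ww 3) = wg ev D ([4,5,3,4,2,3,1,2,0,1] ++ ([0] ++ [4,5,3,4,2,3,1,2,0,1].reverse)) :=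
        wg_eq A (by decide +kernel)
      rw [e]; exact hletter _
    · have e : wg ev D (ww 4) = wg ev D ([2,3,1,2,0,1] ++ ([0] ++ [2,3,1,2,0,1].reverse)) := wg_eq A (by decide +kernel)
      rw [e]; exact hletter _
  have hgood : Good tc D (fun i => φ (k i)) := by
    refine ⟨?_, ?_, ?_, ?_, ?_, ?_, ?_, ?_, ?_, ?_, ?_, ?_, ?_, ?_⟩
    · intro i hi
      exact hconjG (k i) (hb i hi)
    · intro i hi
      show D 0 * φ (k i) = φ (k i) * D 0
      rw [← hkt, ← map_mul, ← map_mul]
      congr 1
      apply Subtype.ext
      rw [Subgroup.coe_mul, Subgroup.coe_mul]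
      exact (R.cent _).symm
    · show orderOf (φ (k 0) * φ (k 1)) = 3
      rw [hord]; exact order3 A (by decide +kernel) (by decide +kernel)
    · show orderOf (φ (k 0) * φ (k 2)) = 2
      rw [hord]; exact order2 A (by decide +kernel) (by decide +kernel)
    · show orderOf (φ (k 1) * φ (k 2)) = 2
      rw [hord]; exact order2 A (by decide +kernel) (by decide +kernel)
    · show orderOf (φ (k 0) * φ (k 3)) = 2
      rw [hord]; exact order2 A (by decide +kernel) (by decide +kernel)
    · show orderOf (φ (k 1) * φ (k 3)) = 4
      rw [hord]; exact order4 A (by decide +kernel) (by decide +kernel)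
    · show orderOf (φ (k 2) * φ (k 3)) = 3
      rw [hord]; exact order3 A (by decide +kernel) (by decide +kernel)
    · show orderOf (φ (k 0) * φ (k 4)) = 2
      rw [hord]; exact order2 A (by decide +kernel) (by decide +kernel)
    · show orderOf (φ (k 1) * φ (k 4)) = 3
      rw [hord]; exact order3 A (by decide +kernel) (by decide +kernel)
    · show orderOf (φ (k 2) * φ (k 4)) = 3
      rw [hord]; exact order3 A (by decide +kernel) (by decide +kernel)
    · show orderOf (φ (k 3) * φ (k 4)) = 2
      rw [hord]; exact order2 A (by decide +kernel) (by decide +kernel)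
    · show (φ (k 1) * φ (k 4) * φ (k 2) * φ (k 3)) ^ 5 = D 0
      rw [← hkt, ← map_mul, ← map_mul, ← map_mul, ← map_pow]
      congr 1
      apply Subtype.ext
      rw [Subgroup.coe_pow, Subgroup.coe_mul, Subgroup.coe_mul, Subgroup.coe_mul, hk, hk, hk, hk]
      show (wv ev D (ww 1) * wv ev D (ww 4) * wv ev D (ww 2) * wv ev D (ww 3)) ^ 5 = tc
      rw [← wv_append, ← wv_append, ← wv_append, ← hwt, pow_succ, pow_succ, pow_succ, pow_succ, pow_one, ← wv_append,
        ← wv_append, ← wv_append, ← wv_append]
      exact wv_eq A (by decide +kernel)
    · show InF tc D (φ (k 0) * φ (k 4) * φ (k 3) * D 0)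
      rw [← hkt, ← map_mul, ← map_mul, ← map_mul]
      apply hconjG
      show IsConj t ((wv ev D (ww 0) * wv ev D (ww 4) * wv ev D (ww 3) * tc : Subgroup.centralizer ({t} : Set G)) : G)
      have e : wv ev D (ww 0) * wv ev D (ww 4) * wv ev D (ww 3) * tc = tc * D 3 * D 5 * D 6 := by
        have e1 : tc * D 3 * D 5 * D 6 = wv ev D [15, 3, 5, 6] := by
          simp only [wv, gv_t (R := R), gv_lt (ev := ev) (D := D) (show 3 < 7 by norm_num),
            gv_lt (ev := ev) (D := D) (show 5 < 7 by norm_num), gv_lt (ev := ev) (D := D) (show 6 < 7 by norm_num),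
            mul_one, mul_assoc]
        rw [e1, ← hwt, ← wv_append, ← wv_append, ← wv_append]
        exact wv_eq A (by decide +kernel)
      rw [e]; exact halpha
  obtain ⟨c, hc, hpre⟩ := exists_conj A hgood
  have hstar : ∀ i < 5, c * φ (k i) * c⁻¹ = wv ev D (wws i) := by
    intro i hi
    rw [← cd_inj A, cd_wv A, ← target_eq i hi, ← hpre]
    interval_cases i <;> rfl
  -- the corrected swap
  have hcG : (c : G) * (D 0 : G) = (D 0 : G) * c := congrArg Subtype.val hc
  have hct : (c : G) * t = t * c := Subgroup.mem_centralizer_singleton_iff.1 c.2
  have fin : ∀ i < 5, (x0 * (c : G)⁻¹)⁻¹ * wg ev D (ww i) * (x0 * (c : G)⁻¹) = wg ev D (wws i) := by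
    intro i hi
    have h3 := congrArg (Subtype.val : Subgroup.centralizer ({t} : Set G) → G) (hstar i hi)
    rw [Subgroup.coe_mul, Subgroup.coe_mul, Subgroup.coe_inv, hφ, hk] at h3
    unfold wg
    rw [← h3]
    group
  refine ⟨x0 * (c : G)⁻¹, ?_, ?_, fin 0 (by norm_num), fin 1 (by norm_num), fin 4 (by norm_num), fin 2 (by norm_num),
    fin 3 (by norm_num)⟩
  · rw [hwga]
    calc (x0 * (c : G)⁻¹)⁻¹ * t * (x0 * (c : G)⁻¹) = c * (x0⁻¹ * t * x0) * (c : G)⁻¹ := by group
      _ = c * (D 0 : G) * (c : G)⁻¹ := by rw [h1]
      _ = D 0 := by rw [hcG, mul_inv_cancel_right]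
  · rw [hwga]
    calc (x0 * (c : G)⁻¹)⁻¹ * (D 0 : G) * (x0 * (c : G)⁻¹) = c * (x0⁻¹ * (D 0 : G) * x0) * (c : G)⁻¹ := by group
      _ = c * t * (c : G)⁻¹ := by rw [h2]
      _ = t := by rw [hct, mul_inv_cancel_right]

end Cfsg.Agent.Co2Type.TupleOut
end

-- part: Co2Type/CommFin
section
/-!
# Letter C of `Co₂`: the relations (P2) from the swap (R03, helper337)
-/

set_option autoImplicit false

namespace Cfsg.Agent.Co2Type.CommFin

open Cfsg.Agent.Co2Type.QModel Cfsg.Agent.Co2Type.Act Cfsg.Agent.Co2Type.Rels Cfsg.Agent.Co2Type.CCode
open Cfsg.Agent.Co2Type.CommChk Cfsg.Agent.Co2Type.CommOut Cfsg.Agent.Co2Type.FList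

theorem chk_B : tabAll chk tabB = true := by
  delta chk tC tA tB comB brB p3
  rw [show mulN = mulS from funext fun x => funext (mulS_eq x)]
  decide +kernel
theorem chk_A : tabAll chk tabA = true := by
  delta chk tC tA tB comB brB p3
  rw [show mulN = mulS from funext fun x => funext (mulS_eq x)]
  decide +kernel
theorem chk_t : chk (gN 15) = true := by decide +kernel

variable {G : Type*} [Group G] {t : G} {tc : Subgroup.centralizer ({t} : Set G)}
  {ev : QM →* Subgroup.centralizer ({t} : Set G)} {D : ℕ → Subgroup.centralizer ({t} : Set G)}
  {R : Rels false tc ev D}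

/-- the input of the checks from piece B (`t^G ∩ C = {t} ∪ β₁ ∪ α₂`, all fused) -/
theorem bdata (A : Data R)
    (fus : ∀ y : Subgroup.centralizer ({t} : Set G), IsConj t (y : G) ↔ InF tc D y) : BData ev D where
  beta := by
    have h := (fus (D 0)).2 (Or.inr (Or.inl (IsConj.refl _)))
    have e : wg ev D [0] = (D 0 : G) := by
      show ((gv ev D 0 * 1 : Subgroup.centralizer ({t} : Set G)) : G) = _
      rw [mul_one]; rfl
    rw [e]; exact h
  alpha := by
    have h := (fus (tc * D 3 * D 5 * D 6)).2 (Or.inr (Or.inr (IsConj.refl _)))
    have e : wg ev D [15, 3, 5, 6] = ((tc * D 3 * D 5 * D 6 : Subgroup.centralizer ({t} : Set G)) : G) := by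
      show ((gv ev D 15 * (gv ev D 3 * (gv ev D 5 * (gv ev D 6 * 1))) :
        Subgroup.centralizer ({t} : Set G)) : G) = _
      rw [gv_t (R := R), gv_lt (ev := ev) (D := D) (show 3 < 7 by norm_num),
        gv_lt (ev := ev) (D := D) (show 5 < 7 by norm_num),
        gv_lt (ev := ev) (D := D) (show 6 < 7 by norm_num), mul_one, ← mul_assoc, ← mul_assoc]
    rw [e]; exact h
  list := by
    intro y hy hc
    have h1 : FC (cd ev D ⟨y, Subgroup.mem_centralizer_singleton_iff.2 hy⟩) :=
      FC_of_InF A ((fus ⟨y, Subgroup.mem_centralizer_singleton_iff.2 hy⟩).1 hc)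
    rcases h1 with h1 | h1 | h1
    · show chk (cd ev D _) = true
      rw [h1]; exact chk_t
    · exact tabAll_spec chk_B h1
    · exact tabAll_spec chk_A h1

end Cfsg.Agent.Co2Type.CommFin
end

-- part: Co2Type/ExistsH
section
/-!
# Letter C of `Co₂` complete: all relations (P2) from Letter B and a swap (R03, helper757)
-/

set_option autoImplicit false

namespace Cfsg.Agent.Co2Type.ExistsH

open Cfsg.Agent.Co2Type.QModel Cfsg.Agent.Co2Type.Act Cfsg.Agent.Co2Type.Rels Cfsg.Agent.Co2Type.CCode
open Cfsg.Agent.Co2Type.CommChk Cfsg.Agent.Co2Type.CommOut Cfsg.Agent.Co2Type.FList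

variable {G : Type*} [Group G] {t : G} {tc : Subgroup.centralizer ({t} : Set G)}
  {ev : QM →* Subgroup.centralizer ({t} : Set G)} {D : ℕ → Subgroup.centralizer ({t} : Set G)}
  {R : Rels false tc ev D}

/-- **Piece C**: from the fusion statement and a swap of `t` and `D 0`, the involution `h` with all relations -/
theorem exists_h (A : Data R) (htc : (tc : G) = t)
    (fus : ∀ y : Subgroup.centralizer ({t} : Set G), IsConj t (y : G) ↔ InF tc D y) {x : G}
    (hx : x * t * x⁻¹ = D 0) (hx' : x * (D 0 : G) * x⁻¹ = t) :
    ∃ h : G, IsConj t h ∧ h * h = 1 ∧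
      h * wg ev D w_a = wg ev D w_a * h ∧ h * wg ev D w_b = wg ev D w_b * h ∧
      h * wg ev D w_c = wg ev D w_c * h ∧ h * wg ev D w_d = wg ev D w_d * h ∧
      h * wg ev D w_e = wg ev D w_e * h ∧ h * wg ev D w_f = wg ev D w_f * h ∧
      (h * t) ^ 3 = 1 ∧ (wg ev D w_g * h) ^ 4 = 1 ∧
      (wg ev D w_g * h * t) ^ 3 = wg ev D w_b * wg ev D w_e := by
  have g1 : x⁻¹ * t * x = D 0 := by
    calc x⁻¹ * t * x = x⁻¹ * (x * (D 0 : G) * x⁻¹) * x := by rw [hx']
      _ = D 0 := by group
  have g2 : x⁻¹ * (D 0 : G) * x = t := by
    calc x⁻¹ * (D 0 : G) * x = x⁻¹ * (x * t * x⁻¹) * x := by rw [hx]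
      _ = t := by group
  obtain ⟨x', h1, h2, h3, h4, h5, h6, h7⟩ := TupleOut.exists_x (R := R) A htc (fun y hy => (fus y).1 hy)
    ((fus (D 0)).2 (Or.inr (Or.inl (IsConj.refl _))))
    ((fus (tc * D 3 * D 5 * D 6)).2 (Or.inr (Or.inr (IsConj.refl _))))
    (x0 := x) g1 g2
  exact relations A (CommFin.bdata A fus) htc h1 h2 h3 h4 h5 h6 h7

end Cfsg.Agent.Co2Type.ExistsH
end

-- part: Co2Type/LocalMain
section
/-!
# The local structure of a group of type `Co₂` (assembly of the pieces A, B, C)

From the hypotheses of S1675: elements `a, …, g, t` generating `C_G(t)` with the relations `P1`, an element `h`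
with the relations `P2`, and the fusion of `t` in `C_G(t)`.
-/

set_option autoImplicit false

namespace Cfsg.Agent.Co2Type.LocalMain

open Cfsg.Agent.Co2Type.P1Rels Cfsg.Agent.Co2Type.QModel Cfsg.Agent.Co2Type.CCode Cfsg.Agent.Co2Type.CommChk
  Cfsg.Agent.Co2Type.CommOut Cfsg.Agent.Co2Type.Rels

/-- the relations `P2` -/
structure P2 {H : Type*} [Group H] (a b c d e f g i h : H) : Prop where
  hh : h * h = 1
  ha : h * a = a * h
  hb : h * b = b * h
  hc : h * c = c * h
  hd : h * d = d * h
  he : h * e = e * h
  hf : h * f = f * h
  hi : (h * i) ^ 3 = 1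
  hg : (g * h) ^ 4 = 1
  r : (g * h * i) ^ 3 = b * e

theorem P1.map {H K : Type*} [Group H] [Group K] (φ : H →* K) {a b c d e f g i : H} (P : P1 a b c d e f g i) :
    P1 (φ a) (φ b) (φ c) (φ d) (φ e) (φ f) (φ g) (φ i) := by
  constructor <;> simp only [← map_mul, ← map_pow]
  · rw [P.sqa, map_one]
  · rw [P.sqb, map_one]
  · rw [P.sqc, map_one]
  · rw [P.sqd, map_one]
  · rw [P.sqe, map_one]
  · rw [P.sqf, map_one]
  · rw [P.sqg, map_one]
  · rw [P.sqi, map_one]
  · rw [P.ia]
  · rw [P.ib]
  · rw [P.ic]
  · rw [P.id]
  · rw [P.ie]
  · rw [P.if']
  · rw [P.ig]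
  · rw [P.ab]
  · rw [P.ac]
  · rw [P.ad]
  · rw [P.ae]
  · rw [P.af]
  · rw [P.ag]
  · rw [P.bc]
  · rw [P.bd]
  · rw [P.be]
  · rw [P.bf]
  · rw [P.bg]
  · rw [P.cd]
  · rw [P.ce]
  · rw [P.cf]
  · rw [P.cg]
  · rw [P.de]
  · rw [P.df]
  · rw [P.dg]
  · rw [P.ef]
  · rw [P.eg]
  · rw [P.fg]
  · rw [P.r1]
  · rw [P.r2, map_one]
  · rw [P.r3, map_one]
  · rw [P.r4, map_one]

/-- the local structure -/
structure Loc {G : Type*} [Group G] (t : G) (a b c d e f g h : G) : Prop where
  tt : t * t = 1
  t1 : t ≠ 1
  p1 : P1 a b c d e f g t
  p2 : P2 a b c d e f g t h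
  gen : ∀ x : G, x * t = t * x → x ∈ Subgroup.closure {a, b, c, d, e, f, g, t}
  fus : ∀ x : G, x * t = t * x → IsConj t x → x = t ∨ (∃ k : G, k * t = t * k ∧ k * a * k⁻¹ = x) ∨
    ∃ k : G, k * t = t * k ∧ k * (t * (e * g * b)) * k⁻¹ = x

theorem exists_loc {G : Type*} [Group G] [Finite G] (hO : Cfsg.oddCore G = ⊥) (hZ : Subgroup.center G = ⊥) (t : G)
    (ht : orderOf t = 2)
    (hcon : Cfsg.IsPConstrained 2 (Subgroup.centralizer ({t} : Set G)))
    (hQ : Cfsg.IsExtraspecial 2 (Cfsg.pCore 2 (Subgroup.centralizer ({t} : Set G))))
    (hcard : Nat.card (Cfsg.pCore 2 (Subgroup.centralizer ({t} : Set G))) = 2 ^ 9)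
    (e : (Subgroup.centralizer ({t} : Set G)) ⧸ Cfsg.pCore 2 (Subgroup.centralizer ({t} : Set G)) ≃*
      Matrix.symplecticGroup (Fin 3) (ZMod 2)) :
    ∃ a b c d e f g h : G, Loc t a b c d e f g h := by
  obtain ⟨Q, ⟨A⟩⟩ := PieceA.exists_A hO hZ t ht hcon hQ hcard e
  have hfus := FusionB4.fusion_of hO hZ A.S A.hs A.R A.hpsi A.P
    (Alpha3T.not_ev1_lin A.S A.hs A.wc A.R A.hpsi A.P)
  obtain ⟨x, hx, hx'⟩ := SwapB.swapB A.S A.R A.hpsi hfus
  have htc : ((ExistsRels.tc t : Subgroup.centralizer ({t} : Set G)) : G) = t := rfl
  have hfus' : ∀ y : Subgroup.centralizer ({t} : Set G), IsConj t (y : G) ↔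
      FList.InF (ExistsRels.tc t) A.D y := by
    intro y
    rw [hfus y, FList.InF]
    have e1 : ExistsRels.tc t * (A.D 3 * A.D 5 * A.D 6) = ExistsRels.tc t * A.D 3 * A.D 5 * A.D 6 := by group
    rw [e1]
    constructor
    · rintro (h | h | h)
      · left; exact Subtype.ext h
      · right; left; exact h
      · right; right; exact h
    · rintro (h | h | h)
      · left; rw [h]; exact htc
      · right; left; exact h
      · right; right; exact h
  obtain ⟨h, -, h1, h2, h3, h4, h5, h6, h7, h8, h9, h10⟩ := ExistsH.exists_h A.data htc hfus' hx hx'
  have wa : wg A.ev A.D w_a = A.D 0 := congrArg Subtype.val (wv_D (by norm_num))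
  have wb : wg A.ev A.D w_b = A.D 6 := congrArg Subtype.val (wv_D (by norm_num))
  have wc : wg A.ev A.D w_c = A.D 1 := congrArg Subtype.val (wv_D (by norm_num))
  have wd : wg A.ev A.D w_d = (A.ev (dec 8) * A.D 2 : Subgroup.centralizer ({t} : Set G)) :=
    congrArg Subtype.val (P1Rels.wv_d)
  have we : wg A.ev A.D w_e = A.D 3 := congrArg Subtype.val (wv_D (by norm_num))
  have wf : wg A.ev A.D w_f = A.D 4 := congrArg Subtype.val (wv_D (by norm_num))
  have wgg : wg A.ev A.D w_g = A.D 5 := congrArg Subtype.val (wv_D (by norm_num))
  rw [wa] at h2
  rw [wb] at h3 h10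
  rw [wc] at h4
  rw [wd] at h5
  rw [we] at h6 h10
  rw [wf] at h7
  rw [wgg] at h9 h10
  have hP1 := P1.map (Subgroup.centralizer ({t} : Set G)).subtype (P1Rels.p1 A.data)
  have hgen := P1Rels.gen A.data
  refine ⟨A.D 0, A.D 6, A.D 1, (A.ev (dec 8) * A.D 2 : Subgroup.centralizer ({t} : Set G)), A.D 3, A.D 4, A.D 5, h,
    { tt := A.t_sq
      t1 := A.t_ne
      p1 := hP1
      p2 := ⟨h1, h2, h3, h4, h5, h6, h7, h8, h9, h10⟩
      gen := ?_
      fus := ?_ }⟩
  · intro x hx
    have hxC : x ∈ Subgroup.centralizer ({t} : Set G) := Subgroup.mem_centralizer_singleton_iff.2 hx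
    have h11 : (⟨x, hxC⟩ : Subgroup.centralizer ({t} : Set G)) ∈ (⊤ : Subgroup (Subgroup.centralizer ({t} : Set G))) :=
      Subgroup.mem_top _
    rw [← hgen] at h11
    have h12 := Subgroup.mem_map_of_mem (Subgroup.centralizer ({t} : Set G)).subtype h11
    rw [MonoidHom.map_closure] at h12
    refine (Subgroup.closure_mono ?_) h12
    rintro _ ⟨y, hy, rfl⟩
    simp only [Set.mem_insert_iff, Set.mem_singleton_iff] at hy ⊢
    rcases hy with rfl | rfl | rfl | rfl | rfl | rfl | rfl | rfl <;> simp only [ExistsRels.tc, _root_.Subgroup.subtype_apply, _root_.SetLike.coe_eq_coe, _root_.Subgroup.coe_mul, _root_.true_or, _root_.or_true]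
  · intro x hx hc
    have hxC : x ∈ Subgroup.centralizer ({t} : Set G) := Subgroup.mem_centralizer_singleton_iff.2 hx
    rcases (hfus ⟨x, hxC⟩).1 hc with h11 | h11 | h11
    · left; exact h11
    · right; left
      obtain ⟨k, hk⟩ := isConj_iff.1 h11
      exact ⟨k, Subgroup.mem_centralizer_singleton_iff.1 k.2, congrArg Subtype.val hk⟩
    · right; right
      obtain ⟨k, hk⟩ := isConj_iff.1 h11
      exact ⟨k, Subgroup.mem_centralizer_singleton_iff.1 k.2, congrArg Subtype.val hk⟩

end Cfsg.Agent.Co2Type.LocalMain
end

private theorem dce_c1ea1e1bf9a5 : _root_.True := by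
  try have : _root_.True := by simp only [_root_.Cfsg.Agent.Co2Type.FList.InF.eq_1]
  try have : _root_.True := by simp only [_root_.Cfsg.Agent.Co2Type.Alpha3.NN.eq_1]
  try have : _root_.True := by simp only [_root_.Cfsg.Agent.Co2Type.ExistsRels.tc.eq_1]
  exact _root_.True.intro
end

-- part: S1675
section
prune_inst 0x840000000000080010020644c00009000600001c0000a40020003400000010004a01012100a2a0000000000000000c0001000000000000000000000002a00000000a000000000009005180c00000000000000000000000000000004000000000
set_option linter.all false
open scoped Cfsg.Agent.FastGrp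

-- part: Co2Type/PresP1
section
/-!
# From helper143's structure `P1` to `PC` and `PG` (R03, helper907)
-/

set_option autoImplicit false

namespace Cfsg.Agent.Co2Type.PresDef

open Cfsg.Agent.Co2Type.P1Rels

variable {G : Type*} [Group G] {a b c d e f g h i : G}

theorem pow3_of_braid {x y : G} (hx : x * x = 1) (hy : y * y = 1) (h : x * y * x = y * x * y) :
    (x * y) ^ 3 = 1 := by
  have : (x * y) ^ 3 = (x * y * x) * (y * x * y) := by simp only [pow_succ, pow_zero, one_mul, mul_assoc]
  rw [this, ← h]
  calc x * y * x * (x * y * x) = x * y * (x * x) * y * x := by simp only [mul_assoc]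
    _ = 1 := by rw [hx, mul_one, mul_assoc x, hy, mul_one, hx]

theorem pow4_of_braid {x y : G} (hx : x * x = 1) (hy : y * y = 1) (h : x * y * x * y = y * x * y * x) :
    (x * y) ^ 4 = 1 := by
  have : (x * y) ^ 4 = (x * y * x * y) * (x * y * x * y) := by
    simp only [pow_succ, pow_zero, one_mul, mul_assoc]
  rw [this]
  nth_rw 1 [h]
  calc y * x * y * x * (x * y * x * y) = y * x * y * (x * x) * y * x * y := by simp only [mul_assoc]
    _ = y * x * (y * y) * x * y := by rw [hx, mul_one]; simp only [mul_assoc]
    _ = 1 := by rw [hy, mul_one, mul_assoc y, hx, mul_one, hy]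

theorem PC.of_P1 (P : P1 a b c d e f g i) : PC a b c d e f g i where
  aa := P.sqa
  bb := P.sqb
  cc := P.sqc
  dd := P.sqd
  ee := P.sqe
  ff := P.sqf
  gg := P.sqg
  ii := P.sqi
  ab := P.ab
  ad := P.ad
  ae := P.ae
  af := P.af
  ag := P.ag
  ai := P.ia.symm
  bc := P.bc
  be := P.be
  bf := P.bf
  bg := P.bg
  bi := P.ib.symm
  ce := P.ce
  cf := P.cf
  cg := P.cg
  ci := P.ic.symm
  df := P.df
  di := P.id.symm
  eg := P.eg
  ei := P.ie.symm
  fi := P.if'.symm
  gi := P.ig.symm
  ac := pow3_of_braid P.sqa P.sqc P.ac
  cd := pow3_of_braid P.sqc P.sqd P.cd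
  db := pow3_of_braid P.sqd P.sqb P.bd.symm
  de := pow3_of_braid P.sqd P.sqe P.de
  ef := pow3_of_braid P.sqe P.sqf P.ef
  fg := pow3_of_braid P.sqf P.sqg P.fg
  dg := pow4_of_braid P.sqd P.sqg P.dg
  r1 := P.r1
  r2 := P.r3
  r3 := P.r4
  r4 := P.r2

theorem PG.of_P1 (P : P1 a b c d e f g i) (hh : h * h = 1) (ha : h * a = a * h) (hb : h * b = b * h)
    (hc : h * c = c * h) (hd : h * d = d * h) (he : h * e = e * h) (hf : h * f = f * h)
    (hi : (h * i) ^ 3 = 1) (hg : (g * h) ^ 4 = 1) (h5 : (g * h * i) ^ 3 = b * e) :
    PG a b c d e f g h i :=
  { PC.of_P1 P with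
    hh := hh, ah := ha.symm, bh := hb.symm, ch := hc.symm, dh := hd.symm, eh := he.symm, fh := hf.symm
    hi := hi, gh := hg, r5 := h5 }

end Cfsg.Agent.Co2Type.PresDef
end

-- part: Co2Type/Good
section
/-!
# Good elements and the `Z*`-step (closing argument for `Co₂`, R03)

`Good H x`: `x` is conjugated into `H` only by elements of `H`.
-/

set_option autoImplicit false

namespace Cfsg.Agent.Co2Type.Good

open Cfsg.Agent.Dichotomy.Elem

variable {G : Type*} [Group G]

/-- `x` is conjugated into `H` only by elements of `H` -/
def Good (H : Subgroup G) (x : G) : Prop := ∀ g : G, g * x * g⁻¹ ∈ H → g ∈ H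

/-- a pair is conjugated into `H` only by elements of `H` -/
def Good2 (H : Subgroup G) (x w : G) : Prop := ∀ g : G, g * x * g⁻¹ ∈ H → g * w * g⁻¹ ∈ H → g ∈ H

variable {H : Subgroup G}

theorem Good.two {x : G} (h : Good H x) (w : G) : Good2 H x w := fun g hg _ => h g hg

theorem Good.conj {x k : G} (h : Good H x) (hk : k ∈ H) : Good H (k * x * k⁻¹) := by
  intro g hg
  have h1 : g * k ∈ H := h (g * k) (by
    have e : g * k * x * (g * k)⁻¹ = g * (k * x * k⁻¹) * g⁻¹ := by group
    rw [e]; exact hg)
  have h2 := H.mul_mem h1 (H.inv_mem hk)
  rwa [mul_inv_cancel_right] at h2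

theorem Good2.conj {x w k : G} (h : Good2 H x w) (hk : k ∈ H) : Good2 H (k * x * k⁻¹) (k * w * k⁻¹) := by
  intro g hg hg'
  have e : ∀ x, g * k * x * (g * k)⁻¹ = g * (k * x * k⁻¹) * g⁻¹ := fun x => by group
  have h1 : g * k ∈ H := h (g * k) (by rw [e]; exact hg) (by rw [e]; exact hg')
  have h2 := H.mul_mem h1 (H.inv_mem hk)
  rwa [mul_inv_cancel_right] at h2

theorem Good.cent {x : G} (h : Good H x) (hx : x ∈ H) {g : G} (hg : g * x = x * g) : g ∈ H := by
  apply h
  rw [hg, mul_inv_cancel_right]; exact hx

/-- `X` of odd order, normalised by the four-group `⟨a, b⟩`, is generated by its intersections with the three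
centralisers. -/
theorem klein_le [Finite G] {X K : Subgroup G} (hX : Odd (Nat.card X)) {a b : G} (ha : a * a = 1) (hb : b * b = 1)
    (hab : a * b = b * a) (ha1 : a ≠ 1) (hb1 : b ≠ 1) (hne : a ≠ b)
    (na : a ∈ Subgroup.normalizer (X : Set G)) (nb : b ∈ Subgroup.normalizer (X : Set G))
    (h1 : ∀ x ∈ X, x * a = a * x → x ∈ K) (h2 : ∀ x ∈ X, x * b = b * x → x ∈ K)
    (h3 : ∀ x ∈ X, x * (a * b) = (a * b) * x → x ∈ K) : X ≤ K := by
  have hel := elem_four ha hb hab
  have hcm := hel.1
  have h4 := card_four ha hb hab ha1 hb1 hne
  have hncyc : ¬ IsCyclic (four a b) := by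
    intro hcyc
    obtain ⟨g, hg⟩ := IsCyclic.exists_generator (α := four a b)
    have h3 : orderOf g = Nat.card (four a b) := orderOf_eq_card_of_forall_mem_zpowers hg
    have h4' : g ^ 2 = 1 := by
      ext
      simpa only [_root_.SubmonoidClass.coe_pow, _root_.OneMemClass.coe_one] using hel.2 g g.2
    have h5 : orderOf g ≤ 2 := orderOf_le_of_pow_eq_one (by norm_num) h4'
    rw [h3, h4] at h5
    omega
  have hcop : (Nat.card (four a b)).Coprime (Nat.card X) := by
    rw [h4, show 4 = 2 ^ 2 from rfl]
    exact Nat.Coprime.pow_left 2 (Nat.coprime_two_left.2 hX)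
  have h7 := Cfsg.Agent.S0058.result (four a b) X hncyc (four_le na nb) hcop
  rw [← h7]
  refine iSup₂_le ?_
  rintro c ⟨hc, hc1⟩ x hx
  rw [Subgroup.mem_inf, Subgroup.mem_centralizer_singleton_iff] at hx
  rcases (mem_four_iff ha hb hab).1 hc with rfl | rfl | rfl | rfl
  · exact absurd rfl hc1
  · exact h1 x hx.1 hx.2
  · exact h2 x hx.1 hx.2
  · exact h3 x hx.1 hx.2

/-- five involutions `a, b, c, d, abcd` with centralisers in `H`, generating an elementary abelian group of order
16: a subgroup of odd order which they normalise lies in `H`. -/
theorem odd_le [Finite G] {X : Subgroup G} (hX : Odd (Nat.card X)) {a b c d : G}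
    (ha : a * a = 1) (hb : b * b = 1) (hc : c * c = 1) (hd : d * d = 1)
    (hab : a * b = b * a) (hac : a * c = c * a) (had : a * d = d * a) (hbc : b * c = c * b) (hbd : b * d = d * b)
    (hcd : c * d = d * c) (ha1 : a ≠ 1) (hb1 : b ≠ 1) (hc1 : c ≠ 1) (hd1 : d ≠ 1) (nab : a ≠ b) (nac : a ≠ c)
    (ncd : c ≠ d)
    (na : a ∈ Subgroup.normalizer (X : Set G)) (nb : b ∈ Subgroup.normalizer (X : Set G))
    (nc : c ∈ Subgroup.normalizer (X : Set G)) (nd : d ∈ Subgroup.normalizer (X : Set G))
    (ga : ∀ x, x * a = a * x → x ∈ H) (gb : ∀ x, x * b = b * x → x ∈ H)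
    (gc : ∀ x, x * c = c * x → x ∈ H) (gd : ∀ x, x * d = d * x → x ∈ H)
    (gg : ∀ x, x * (a * b * c * d) = (a * b * c * d) * x → x ∈ H) : X ≤ H := by
  -- an invariant subgroup centralised by `w` which commutes with everything
  have hnorm : ∀ (Y : Subgroup G) (w k : G), k ∈ Subgroup.normalizer (Y : Set G) → k * w = w * k →
      k ∈ Subgroup.normalizer ((Y ⊓ Subgroup.centralizer {w} : Subgroup G) : Set G) := by
    intro Y w k hk hkw
    rw [Subgroup.mem_normalizer_iff] at hk ⊢
    intro x
    rw [Subgroup.mem_inf, Subgroup.mem_inf, ← hk x, Subgroup.mem_centralizer_singleton_iff,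
      Subgroup.mem_centralizer_singleton_iff]
    have hc : Commute k w := hkw
    constructor
    · rintro ⟨h1, h2⟩
      have h2' : Commute x w := h2
      exact ⟨h1, ((hc.mul_left h2').mul_left hc.inv_left).eq⟩
    · rintro ⟨h1, h2⟩
      have h2' : Commute (k * x * k⁻¹) w := h2
      have h3 := ((hc.inv_left.mul_left h2').mul_left hc)
      have e : k⁻¹ * (k * x * k⁻¹) * k = x := by group
      rw [e] at h3
      exact ⟨h1, h3.eq⟩
  have hodd : ∀ {Y Z : Subgroup G}, Z ≤ Y → Odd (Nat.card Y) → Odd (Nat.card Z) := by
    intro Y Z h hY
    exact Odd.of_dvd_nat hY (Subgroup.card_dvd_of_le h)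
  refine klein_le hX ha hb hab ha1 hb1 nab na nb (fun x _ => ga x) (fun x _ => gb x) ?_
  set X1 := X ⊓ Subgroup.centralizer {a * b} with hX1
  have h1 : X1 ≤ H := by
    have cab : ∀ k, k * a = a * k → k * b = b * k → k * (a * b) = (a * b) * k := by
      intro k h h'
      exact ((show Commute k a from h).mul_right (show Commute k b from h')).eq
    refine klein_le (hodd inf_le_left hX) hc hd hcd hc1 hd1 ncd
      (hnorm X _ c nc (cab c hac.symm hbc.symm)) (hnorm X _ d nd (cab d had.symm hbd.symm))
      (fun x _ => gc x) (fun x _ => gd x) ?_
    set X2 := X1 ⊓ Subgroup.centralizer {c * d} with hX2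
    have h2 : X2 ≤ H := by
      intro x hx
      rw [hX2, Subgroup.mem_inf, hX1, Subgroup.mem_inf, Subgroup.mem_centralizer_singleton_iff,
        Subgroup.mem_centralizer_singleton_iff] at hx
      apply gg
      have h3 : Commute x (a * b) := hx.1.2
      have h4 : Commute x (c * d) := hx.2
      have := (h3.mul_right h4).eq
      rw [mul_assoc (a * b) c d]
      exact this
    intro x hx hxc
    exact h2 (Subgroup.mem_inf.2 ⟨hx, Subgroup.mem_centralizer_singleton_iff.2 hxc⟩)
  intro x hx hxc
  exact h1 (Subgroup.mem_inf.2 ⟨hx, Subgroup.mem_centralizer_singleton_iff.2 hxc⟩)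

end Cfsg.Agent.Co2Type.Good
end

-- part: Co2Type/ZMod2
section
/-!
# The `Z*`-theorem modulo a central involution
-/

set_option autoImplicit false

namespace Cfsg.Agent.Co2Type.ZMod2

/-- a central involution lies in every Sylow 2-subgroup -/
theorem central_mem {M : Type*} [Group M] [Finite M] (P : Sylow 2 M) {v : M} (hv : v * v = 1) (hv1 : v ≠ 1)
    (hc : ∀ m : M, m * v = v * m) : v ∈ P := by
  have hov : orderOf v = 2 := orderOf_eq_prime (by rw [pow_two, hv]) hv1
  have hp : IsPGroup 2 (Subgroup.zpowers v) := by
    rw [IsPGroup.iff_card]
    exact ⟨1, by rw [Nat.card_zpowers, hov, pow_one]⟩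
  have h2 : IsPGroup 2 (Subgroup.zpowers v ⊔ P : Subgroup M) := by
    refine hp.to_sup_of_normal_right' P.2 ?_
    rw [Subgroup.zpowers_le, Subgroup.mem_normalizer_iff]
    intro x
    rw [← hc x, mul_inv_cancel_right]
  have h3 := P.3 h2 le_sup_right
  have h4 : v ∈ (Subgroup.zpowers v ⊔ P : Subgroup M) := Subgroup.mem_sup_left (Subgroup.mem_zpowers v)
  rw [h3] at h4
  exact h4

/-- a group of order `2 n`, `n` odd, with a central involution `v`: the elements of odd order form a normal
subgroup `K` with `M = K ∪ K v` -/
theorem exists_odd {M : Type*} [Group M] [Finite M] {v : M} (hv : v * v = 1) (hv1 : v ≠ 1)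
    (hc : ∀ m : M, m * v = v * m) {n : ℕ} (hn : Odd n) (hcard : Nat.card M = 2 * n) :
    ∃ K : Subgroup M, Odd (Nat.card K) ∧ (∀ m : M, m ∈ K ∨ m * v ∈ K) ∧ (∀ m : M, Odd (orderOf m) → m ∈ K) := by
  classical
  have : Fact (Nat.Prime 2) := ⟨Nat.prime_two⟩
  obtain ⟨P⟩ : Nonempty (Sylow 2 M) := inferInstance
  have hov : orderOf v = 2 := orderOf_eq_prime (by rw [pow_two, hv]) hv1
  -- the order of `P`
  have hP2 : Nat.card P = 2 := by
    rw [P.card_eq_multiplicity, hcard]
    have h1 : (2 * n).factorization 2 = 1 := by
      rw [Nat.factorization_mul (by norm_num) hn.pos.ne', Finsupp.add_apply, Nat.Prime.factorization_self Nat.prime_two,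
        Nat.factorization_eq_zero_of_not_dvd (fun h => (Nat.not_even_iff_odd.2 hn) (even_iff_two_dvd.2 h))]
    rw [h1, pow_one]
  have hvP : v ∈ P := central_mem P hv hv1 hc
  have hPv : ∀ x ∈ P, x = 1 ∨ x = v := by
    intro x hx
    obtain ⟨a, b, hab, huniv⟩ := Nat.card_eq_two_iff.1 hP2
    have key : ∀ w : P, w = a ∨ w = b := by
      intro w
      have : w ∈ ({a, b} : Set P) := by rw [huniv]; trivial
      simpa using this
    have hne : (⟨v, hvP⟩ : P) ≠ 1 := fun h => hv1 (congrArg Subtype.val h)
    have : (⟨x, hx⟩ : P) = 1 ∨ (⟨x, hx⟩ : P) = ⟨v, hvP⟩ := by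
      rcases key ⟨x, hx⟩ with h | h <;> rcases key 1 with h2 | h2 <;> rcases key ⟨v, hvP⟩ with h3 | h3
      · exact absurd (h3.trans h2.symm) hne
      · left; exact h.trans h2.symm
      · right; exact h.trans h3.symm
      · exact absurd (h3.trans h2.symm) hne
      · exact absurd (h3.trans h2.symm) hne
      · right; exact h.trans h3.symm
      · left; exact h.trans h2.symm
      · exact absurd (h3.trans h2.symm) hne
    rcases this with h | h
    · left; exact congrArg Subtype.val h
    · right; exact congrArg Subtype.val h
  have hPc : Subgroup.normalizer (P : Set M) ≤ Subgroup.centralizer (P : Set M) := by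
    intro g _
    rw [Subgroup.mem_centralizer_iff]
    intro x hx
    rcases hPv x hx with rfl | rfl
    · simp
    · exact (hc g).symm
  refine ⟨(MonoidHom.transferSylow P hPc).ker, ?_, ?_, ?_⟩
  · have := MonoidHom.not_dvd_card_ker_transferSylow P hPc
    rw [← Nat.not_even_iff_odd, even_iff_two_dvd]; exact this
  · intro m
    have h1 := (MonoidHom.ker_transferSylow_isComplement' P hPc)
    obtain ⟨⟨k, x⟩, hkx⟩ := h1.2 m
    have hkx' : (k : M) * x = m := hkx
    rcases hPv x x.2 with h | h
    · left
      rw [← hkx', h, mul_one]; exact k.2
    · right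
      rw [← hkx', h, mul_assoc, hv, mul_one]; exact k.2
  · intro m hm
    rw [MonoidHom.mem_ker]
    set x := MonoidHom.transferSylow P hPc m with hx
    have h1 : orderOf x ∣ orderOf m := orderOf_map_dvd _ m
    have h2 := orderOf_dvd_natCard x
    rw [hP2] at h2
    rcases (Nat.dvd_prime Nat.prime_two).1 h2 with h3 | h3
    · exact orderOf_eq_one_iff.1 h3
    · exfalso
      rw [h3] at h1
      exact (Nat.not_even_iff_odd.2 hm) (even_iff_two_dvd.2 h1)

theorem card_comap_mk' {C : Type*} [Group C] [Finite C] (Z : Subgroup C) [Z.Normal] (H : Subgroup (C ⧸ Z)) :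
    Nat.card (H.comap (QuotientGroup.mk' Z)) = Nat.card Z * Nat.card H := by
  have h1 := (H.comap (QuotientGroup.mk' Z)).card_mul_index
  rw [Subgroup.index_comap_of_surjective H (QuotientGroup.mk'_surjective Z)] at h1
  have h2 := H.card_mul_index
  have h3 := Subgroup.card_eq_card_quotient_mul_card_subgroup Z
  have h4 : 0 < H.index := Nat.pos_of_ne_zero (Subgroup.index_ne_zero_of_finite)
  rw [h3, ← h2] at h1
  have : Nat.card (H.comap (QuotientGroup.mk' Z)) * H.index = (Nat.card Z * Nat.card H) * H.index := by
    rw [h1]; ring
  exact Nat.eq_of_mul_eq_mul_right h4 this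

/-- `Z*`-theorem modulo a central involution -/
theorem zstar_mod {L : Type*} [Group L] [Finite L] (P : Sylow 2 L) {v z : L} (hv : v * v = 1) (hv1 : v ≠ 1)
    (hc : ∀ m : L, m * v = v * m) (hz : z * z = 1) (hz1 : z ≠ 1) (hzv : z ≠ v) (hzP : z ∈ P)
    (hiso : ∀ l : L, l * z * l⁻¹ ∈ P → l * z * l⁻¹ = z ∨ l * z * l⁻¹ = z * v) :
    ∃ K : Subgroup L, K.Normal ∧ Odd (Nat.card K) ∧
      ∀ l : L, z * l * z⁻¹ * l⁻¹ ∈ K ∨ z * l * z⁻¹ * l⁻¹ * v ∈ K := by
  classical
  have : Fact (Nat.Prime 2) := ⟨Nat.prime_two⟩
  have hov : orderOf v = 2 := orderOf_eq_prime (by rw [pow_two, hv]) hv1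
  set Z : Subgroup L := Subgroup.zpowers v with hZ
  have hmemZ : ∀ x, x ∈ Z ↔ x = 1 ∨ x = v := by
    intro x
    rw [hZ, Subgroup.mem_zpowers_iff]
    constructor
    · rintro ⟨k, rfl⟩
      rcases Int.even_or_odd' k with ⟨m, rfl | rfl⟩
      · left; rw [zpow_mul, zpow_ofNat, pow_two, hv, one_zpow]
      · right; rw [zpow_add, zpow_mul, zpow_ofNat, pow_two, hv, one_zpow, zpow_one, one_mul]
    · rintro (rfl | rfl)
      · exact ⟨0, zpow_zero _⟩
      · exact ⟨1, zpow_one _⟩
  have hZn : Z.Normal := by
    constructor
    intro x hx g
    have : g * x * g⁻¹ = x := by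
      rcases (hmemZ x).1 hx with rfl | rfl
      · group
      · rw [hc, mul_inv_cancel_right]
    rw [this]; exact hx
  have hZcard : Nat.card Z = 2 := by rw [hZ, Nat.card_zpowers, hov]
  let π := QuotientGroup.mk' Z
  have hπs : Function.Surjective π := QuotientGroup.mk'_surjective Z
  have hker : ∀ x, π x = 1 ↔ x = 1 ∨ x = v := by
    intro x
    rw [← hmemZ]
    exact QuotientGroup.eq_one_iff x
  let P' : Sylow 2 (L ⧸ Z) := P.mapSurjective hπs
  have hP' : ∀ x : L, π x ∈ P' → x ∈ P := by
    intro x hx
    have hx' : π x ∈ (P : Subgroup L).map π := hx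
    obtain ⟨y, hy, hyx⟩ := hx'
    have h1 : π (y⁻¹ * x) = 1 := by rw [map_mul, map_inv, hyx, inv_mul_cancel]
    have hvP : v ∈ P := central_mem P hv hv1 hc
    have h2 : y⁻¹ * x ∈ (P : Subgroup L) := by
      rcases (hker _).1 h1 with h | h
      · rw [h]; exact one_mem _
      · rw [h]; exact hvP
    have h3 := mul_mem hy h2
    rwa [mul_inv_cancel_left] at h3
  have hz' : orderOf (π z) = 2 := by
    apply orderOf_eq_prime
    · rw [pow_two, ← map_mul, hz, map_one]
    · intro h
      rcases (hker z).1 h with h | h
      · exact hz1 h
      · exact hzv h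
  obtain ⟨N, hN, hodd, hcomm⟩ := Cfsg.Agent.S0215.result P' (π z) hz' ⟨z, hzP, rfl⟩ (by
    intro g hg
    obtain ⟨l, rfl⟩ := hπs g
    have h1 : π (l * z * l⁻¹) ∈ P' := by rw [map_mul, map_mul, map_inv]; exact hg
    rcases hiso l (hP' _ h1) with h | h
    · rw [← map_inv, ← map_mul, ← map_mul, h]
    · rw [← map_inv, ← map_mul, ← map_mul, h, map_mul, (hker v).2 (Or.inr rfl), mul_one])
  set M : Subgroup L := N.comap π with hM
  have hMn : M.Normal := hN.comap π
  have hvM : v ∈ M := by
    rw [hM, Subgroup.mem_comap, (hker v).2 (Or.inr rfl)]; exact one_mem _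
  have hMcard : Nat.card M = 2 * Nat.card N := by
    rw [hM, card_comap_mk' Z N, hZcard]
  have hvv : (⟨v, hvM⟩ : M) * ⟨v, hvM⟩ = 1 := Subtype.ext hv
  obtain ⟨K, hK1, hK2, hK3⟩ := exists_odd hvv (fun h => hv1 (congrArg Subtype.val h))
    (fun m => Subtype.ext (hc m)) hodd hMcard
  refine ⟨K.map M.subtype, ?_, ?_, ?_⟩
  · constructor
    rintro _ ⟨k, hk, rfl⟩ g
    have h1 : g * (k : L) * g⁻¹ ∈ M := hMn.conj_mem _ k.2 g
    refine ⟨⟨_, h1⟩, hK3 _ ?_, rfl⟩
    have h2 : orderOf (⟨g * (k : L) * g⁻¹, h1⟩ : M) = orderOf (k : L) := by
      rw [← Subgroup.orderOf_coe]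
      exact (MulAut.conj g).orderOf_eq (k : L)
    rw [h2, Subgroup.orderOf_coe]
    exact Odd.of_dvd_nat hK1 (Subgroup.orderOf_dvd_natCard K hk)
  · rw [Subgroup.card_map_of_injective (Subgroup.subtype_injective _)]
    exact hK1
  · intro l
    have h1 : z * l * z⁻¹ * l⁻¹ ∈ M := by
      rw [hM, Subgroup.mem_comap, map_mul, map_mul, map_mul, map_inv, map_inv]
      exact hcomm (π l)
    rcases hK2 ⟨_, h1⟩ with h | h
    · left; exact ⟨_, h, rfl⟩
    · right; exact ⟨_, h, rfl⟩

end Cfsg.Agent.Co2Type.ZMod2
end

-- part: Co2Type/GFacts
section
/-!
# The facts on `Co₂` used in the closing argument, inside the group `G`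
-/

set_option autoImplicit false

namespace Cfsg.Agent.Co2Type.GFacts

open Cfsg.Agent.Co2Type.Good

variable {G : Type*} [Group G]

/-- conjugate under `H` -/
def Cj (H : Subgroup G) (x w : G) : Prop := ∃ h ∈ H, h * x * h⁻¹ = w

/-- `T ∩ C(x)` -/
def ct (T : Subgroup G) (x : G) : Subgroup G := T ⊓ Subgroup.centralizer {x}

theorem mem_ct {T : Subgroup G} {x g : G} : g ∈ ct T x ↔ g ∈ T ∧ g * x = x * g := by
  rw [ct, Subgroup.mem_inf, Subgroup.mem_centralizer_singleton_iff]

/-- the facts, without fusion in `G` -/
structure GF (H T E : Subgroup G) (z y v z1 z2 u p a b c d : G) : Prop where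
  TH : T ≤ H
  T2 : IsPGroup 2 T
  cardT : Nat.card T = 2 ^ 18
  conjT : ∀ K : Subgroup G, T ≤ K → K ≤ H → ∀ R : Subgroup G, R ≤ K → IsPGroup 2 R →
    ∃ k ∈ K, ∀ r ∈ R, k * r * k⁻¹ ∈ T
  ET : E ≤ T
  Ec : ∀ e ∈ E, ∀ f ∈ E, e * f = f * e
  Es : ∀ e ∈ E, e * e = 1
  zE : z ∈ E
  yE : y ∈ E
  z1E : z1 ∈ E
  z2E : z2 ∈ E
  uE : u ∈ E
  pE : p ∈ E
  aE : a ∈ E
  bE : b ∈ E
  cE : c ∈ E
  dE : d ∈ E
  zc : ∀ t ∈ T, t * z = z * t
  centT : ∀ t ∈ T, (∀ s ∈ T, s * t = t * s) → t = 1 ∨ t = z
  z_ne : z ≠ 1
  y_ne : y ≠ 1
  v_ne : v ≠ 1
  cls : ∀ x ∈ H, x * x = 1 → x ≠ 1 → Cj H z x ∨ Cj H y x ∨ Cj H v x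
  nzy : ¬ Cj H z y
  c16 : ∀ x ∈ T, Cj H z x → x ≠ z → Nat.card (ct T x) ≤ 2 ^ 16
  c14 : ∀ x ∈ T, Cj H z x → Cj H v (z * x) → Nat.card (ct T x) ≤ 2 ^ 14
  v_eq : v = z1 * z2
  z1A : Cj H z z1
  z2A : Cj H z z2
  cv : Nat.card (ct T v) = 2 ^ 15
  only_v : ∀ x ∈ T, x * v = v * x → Cj H z x → Cj H z (x * v) → x = z1 ∨ x = z2
  zy : Cj H y (z * y)
  zp : Cj H z (z * p)
  zyp : Cj H z (z * (y * p))
  p_ne : p ≠ 1
  cy : Nat.card (ct T y) = 2 ^ 17
  cyp : Nat.card (T ⊓ Subgroup.centralizer {y} ⊓ Subgroup.centralizer {p} : Subgroup G) = 2 ^ 16
  only_yp : ∀ x ∈ T, x * y = y * x → x * p = p * x → Cj H z x → Cj H y (x * y) → Cj H z (x * p) →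
    Cj H z (x * (y * p)) → x = z
  uA : Cj H z u
  u_comm : ∀ t ∈ T, t * y = y * t → t * u * t⁻¹ = u ∨ t * u * t⁻¹ = u * y
  uxy : ∀ x ∈ T, x * y = y * x → Cj H z x → Cj H y (x * y) →
    Cj H v (u * (x * y)) ∨ ∃ h ∈ H, h * y * h⁻¹ = y ∧ h * (u * (x * y)) * h⁻¹ = p
  aA : Cj H z a
  bA : Cj H z b
  cA : Cj H z c
  dA : Cj H z d
  abcdA : Cj H z (a * b * c * d)
  nab : a ≠ b
  nac : a ≠ c
  ncd : c ≠ d

theorem Cj.refl' {H : Subgroup G} (x : G) : Cj H x x := ⟨1, H.one_mem, by group⟩

theorem Cj.trans' {H : Subgroup G} {x y z : G} (h : Cj H x y) (h' : Cj H y z) : Cj H x z := by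
  obtain ⟨a, ha, rfl⟩ := h
  obtain ⟨b, hb, rfl⟩ := h'
  exact ⟨b * a, H.mul_mem hb ha, by group⟩

theorem Cj.symm' {H : Subgroup G} {x y : G} (h : Cj H x y) : Cj H y x := by
  obtain ⟨a, ha, rfl⟩ := h
  exact ⟨a⁻¹, H.inv_mem ha, by group⟩

theorem Cj.conj {H : Subgroup G} {x y k : G} (h : Cj H x y) (hk : k ∈ H) : Cj H x (k * y * k⁻¹) :=
  h.trans' ⟨k, hk, rfl⟩

theorem Cj.good {H : Subgroup G} {x w : G} (h : Cj H x w) (hg : Good H x) : Good H w := by
  obtain ⟨k, hk, rfl⟩ := h
  exact hg.conj hk

theorem Cj.mem {H : Subgroup G} {x w : G} (h : Cj H x w) (hx : x ∈ H) : w ∈ H := by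
  obtain ⟨k, hk, rfl⟩ := h
  exact H.mul_mem (H.mul_mem hk hx) (H.inv_mem hk)

/-- a 2-subgroup with a maximality property inside `L` is a Sylow 2-subgroup of `L` -/
theorem exists_sylow [Finite G] {L P0 : Subgroup G} (hle : P0 ≤ L) (h2 : IsPGroup 2 P0)
    (hmax : ∀ N : Subgroup G, N ≤ L → IsPGroup 2 N → P0 ≤ N → N ≤ Subgroup.normalizer (P0 : Set G) → N ≤ P0) :
    ∃ P : Sylow 2 L, ∀ x : L, x ∈ P ↔ (x : G) ∈ P0 := by
  have : Fact (Nat.Prime 2) := ⟨Nat.prime_two⟩
  have key : ∀ R : Subgroup G, R ≤ L → IsPGroup 2 R → P0 ≤ R → R ≤ P0 := by
    intro R hR hR2 hPR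
    by_contra hcon
    have hlt : P0 < R := lt_of_le_of_ne hPR (fun h => hcon (h ▸ le_rfl))
    have h3 := Cfsg.Agent.SporRec.MaxFix.lt_inf_normalizer hR2 hlt
    have h4 := hmax (R ⊓ Subgroup.normalizer (P0 : Set G)) (inf_le_left.trans hR) (hR2.to_le inf_le_left) h3.le
      inf_le_right
    exact absurd (lt_of_lt_of_le h3 h4) (lt_irrefl _)
  have hsub : IsPGroup 2 (P0.subgroupOf L) := h2.comap_of_injective L.subtype (Subgroup.subtype_injective _)
  refine ⟨⟨P0.subgroupOf L, hsub, ?_⟩, ?_⟩
  · intro Q hQ hPQ
    apply le_antisymm _ hPQ
    intro x hx
    have h5 := key (Q.map L.subtype) (Subgroup.map_subtype_le _) (hQ.map _) (by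
      intro g hg
      exact ⟨⟨g, hle hg⟩, hPQ (Subgroup.mem_subgroupOf.2 hg), rfl⟩)
    exact Subgroup.mem_subgroupOf.2 (h5 ⟨x, hx, rfl⟩)
  · intro x
    exact Subgroup.mem_subgroupOf

namespace GF

variable {H T E : Subgroup G} {z y v z1 z2 u p a b c d : G} (F : GF H T E z y v z1 z2 u p a b c d)

include F

theorem zH : z ∈ H := F.TH (F.ET F.zE)
theorem yH : y ∈ H := F.TH (F.ET F.yE)
theorem uH : u ∈ H := F.TH (F.ET F.uE)
theorem vE : v ∈ E := by rw [F.v_eq]; exact E.mul_mem F.z1E F.z2E
theorem vH : v ∈ H := F.TH (F.ET F.vE)
theorem zz : z * z = 1 := F.Es _ F.zE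
theorem yy : y * y = 1 := F.Es _ F.yE
theorem vv : v * v = 1 := F.Es _ F.vE
theorem uu : u * u = 1 := F.Es _ F.uE
theorem pp : p * p = 1 := F.Es _ F.pE

/-- `C_G(z) ≤ H` gives `T ≤ C_G(z) ≤ H` -/
theorem T_le_cent : T ≤ Subgroup.centralizer {z} := fun t ht =>
  Subgroup.mem_centralizer_singleton_iff.2 (F.zc t ht)

/-- bound for 2-groups commuting with `z` and another element of the class of `z` -/
theorem bound_z [Finite G] (hC : Subgroup.centralizer {z} ≤ H) {R : Subgroup G} (hR : IsPGroup 2 R)
    (hRz : ∀ r ∈ R, r * z = z * r) {x : G} (hx : Cj H z x) (hxz : x * z = z * x)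
    (hRx : ∀ r ∈ R, r * x = x * r) :
    ∃ w ∈ T, Cj H z w ∧ (∃ k ∈ Subgroup.centralizer {z}, k * x * k⁻¹ = w) ∧ Nat.card R ≤ Nat.card (ct T w) := by
  have hxx : x * x = 1 := by
    obtain ⟨h, hh, rfl⟩ := hx
    calc h * z * h⁻¹ * (h * z * h⁻¹) = h * (z * z) * h⁻¹ := by group
      _ = 1 := by rw [F.zz]; group
  have h2 : IsPGroup 2 (R ⊔ Subgroup.zpowers x : Subgroup G) := by
    have hp : IsPGroup 2 (Subgroup.zpowers x) := by
      by_cases h1 : x = 1
      · rw [h1, Subgroup.zpowers_one_eq_bot]; exact IsPGroup.of_bot
      · have : Fact (Nat.Prime 2) := ⟨Nat.prime_two⟩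
        rw [IsPGroup.iff_card]
        exact ⟨1, by rw [Nat.card_zpowers, orderOf_eq_prime (by rw [pow_two, hxx]) h1, pow_one]⟩
    rw [sup_comm]
    refine hp.to_sup_of_normal_right' hR ?_
    rw [Subgroup.zpowers_le, Subgroup.mem_normalizer_iff]
    intro r
    have hcm : ∀ r ∈ R, x * r * x⁻¹ = r := fun r hr => by rw [← hRx r hr, mul_inv_cancel_right]
    constructor
    · intro hr
      rw [hcm r hr]; exact hr
    · intro hr
      have h3 := hcm _ hr
      have h4 : r = x * r * x⁻¹ := by
        have h5 := congrArg (fun g => x⁻¹ * g * x) h3
        have e1 : x⁻¹ * (x * (x * r * x⁻¹) * x⁻¹) * x = x * r * x⁻¹ := by group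
        have e2 : x⁻¹ * (x * r * x⁻¹) * x = r := by group
        simp only [e1, e2] at h5
        exact h5.symm
      rw [h4]; exact hr
  have hle : R ⊔ Subgroup.zpowers x ≤ Subgroup.centralizer {z} := by
    rw [sup_le_iff, Subgroup.zpowers_le]
    exact ⟨fun r hr => Subgroup.mem_centralizer_singleton_iff.2 (hRz r hr),
      Subgroup.mem_centralizer_singleton_iff.2 hxz⟩
  obtain ⟨k, hk, hkT⟩ := F.conjT _ F.T_le_cent hC _ hle h2
  have hkH := hC hk
  refine ⟨k * x * k⁻¹, hkT _ (Subgroup.mem_sup_right (Subgroup.mem_zpowers x)), hx.conj hkH, ⟨k, hk, rfl⟩, ?_⟩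
  have h6 : R.map (MulAut.conj k).toMonoidHom ≤ ct T (k * x * k⁻¹) := by
    rintro _ ⟨r, hr, rfl⟩
    show k * r * k⁻¹ ∈ _
    rw [mem_ct]
    refine ⟨hkT r (Subgroup.mem_sup_left hr), ?_⟩
    calc k * r * k⁻¹ * (k * x * k⁻¹) = k * (r * x) * k⁻¹ := by group
      _ = k * (x * r) * k⁻¹ := by rw [hRx r hr]
      _ = k * x * k⁻¹ * (k * r * k⁻¹) := by group
  have h7 := Subgroup.card_le_of_le h6
  have h8 : Nat.card (R.map (MulAut.conj k).toMonoidHom) = Nat.card R :=
    Subgroup.card_map_of_injective (MulAut.conj k).injective
  rwa [h8] at h7

/-- a 2-subgroup of `H` whose centraliser is in `H` is conjugated into `H` only by elements of `H` -/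
theorem good_of_cent [Finite G] (hz : Good H z) {Y : Subgroup G} (hY2 : IsPGroup 2 Y)
    (hc : ∀ g : G, (∀ w ∈ Y, g * w = w * g) → g ∈ H) {g : G} (hg : ∀ w ∈ Y, g * w * g⁻¹ ∈ H) : g ∈ H := by
  obtain ⟨k, hk, hkT⟩ := F.conjT H F.TH le_rfl (Y.map (MulAut.conj g).toMonoidHom) (by
    rintro _ ⟨w, hw, rfl⟩
    exact hg w hw) (hY2.map _)
  have h1 : ∀ w ∈ Y, (k * g) * w * (k * g)⁻¹ ∈ T := by
    intro w hw
    have := hkT (g * w * g⁻¹) ⟨w, hw, rfl⟩
    have e : (k * g) * w * (k * g)⁻¹ = k * (g * w * g⁻¹) * k⁻¹ := by group
    rw [e]; exact this
  have h2 : (k * g)⁻¹ * z * (k * g) ∈ H := by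
    apply hc
    intro w hw
    have h3 := F.zc _ (h1 w hw)
    calc (k * g)⁻¹ * z * (k * g) * w = (k * g)⁻¹ * (z * ((k * g) * w * (k * g)⁻¹)) * (k * g) := by group
      _ = (k * g)⁻¹ * (((k * g) * w * (k * g)⁻¹) * z) * (k * g) := by rw [h3]
      _ = w * ((k * g)⁻¹ * z * (k * g)) := by group
  have h3 : (k * g)⁻¹ ∈ H := hz _ (by rw [inv_inv]; exact h2)
  have h4 := H.inv_mem h3
  rw [inv_inv] at h4
  have h5 := H.mul_mem (H.inv_mem hk) h4
  rwa [inv_mul_cancel_left] at h5

theorem good_of_cent1 [Finite G] (hz : Good H z) {w : G} (hw : w * w = 1)
    (hc : ∀ g : G, g * w = w * g → g ∈ H) : Good H w := by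
  intro g hg
  have : Fact (Nat.Prime 2) := ⟨Nat.prime_two⟩
  refine F.good_of_cent hz (Y := Subgroup.zpowers w) ?_ ?_ ?_
  · by_cases h1 : w = 1
    · rw [h1, Subgroup.zpowers_one_eq_bot]; exact IsPGroup.of_bot
    · rw [IsPGroup.iff_card]
      exact ⟨1, by rw [Nat.card_zpowers, orderOf_eq_prime (by rw [pow_two, hw]) h1, pow_one]⟩
  · intro k hk
    exact hc k (hk w (Subgroup.mem_zpowers w))
  · intro x hx
    obtain ⟨k, rfl⟩ := Subgroup.mem_zpowers_iff.1 hx
    have : g * w ^ k * g⁻¹ = (g * w * g⁻¹) ^ k := conj_zpow.symm
    rw [this]; exact H.zpow_mem hg k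

/-- a subgroup of odd order normalised by `E` is in `H` -/
theorem odd_le [Finite G] (hz : Good H z) {X : Subgroup G} (hX : Odd (Nat.card X))
    (hn : ∀ e ∈ E, e ∈ Subgroup.normalizer (X : Set G)) : X ≤ H := by
  have hg : ∀ w : G, Cj H z w → ∀ x, x * w = w * x → x ∈ H := fun w hw x hx =>
    (hw.good hz).cent (hw.mem F.zH) hx
  have hne : ∀ w : G, Cj H z w → w ≠ 1 := by
    rintro w ⟨h, hh, rfl⟩ h1
    apply F.z_ne
    calc z = h⁻¹ * (h * z * h⁻¹) * h := by group
      _ = 1 := by rw [h1]; group
  exact Good.odd_le hX (F.Es _ F.aE) (F.Es _ F.bE) (F.Es _ F.cE) (F.Es _ F.dE) (F.Ec _ F.aE _ F.bE)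
    (F.Ec _ F.aE _ F.cE) (F.Ec _ F.aE _ F.dE) (F.Ec _ F.bE _ F.cE) (F.Ec _ F.bE _ F.dE) (F.Ec _ F.cE _ F.dE)
    (hne _ F.aA) (hne _ F.bA) (hne _ F.cA) (hne _ F.dA) F.nab F.nac F.ncd (hn _ F.aE) (hn _ F.bE) (hn _ F.cE)
    (hn _ F.dE) (hg _ F.aA) (hg _ F.bA) (hg _ F.cA) (hg _ F.dA) (hg _ F.abcdA)

end GF

end Cfsg.Agent.Co2Type.GFacts
end

-- part: Co2Type/CloseAbs
section
/-!
# The closing argument for `Co₂` (R03, helper429)
-/

set_option autoImplicit false

namespace Cfsg.Agent.Co2Type.CloseAbs

open Cfsg.Agent.Co2Type.Good Cfsg.Agent.Co2Type.GFacts

variable {G : Type*} [Group G] {H T E : Subgroup G} {z y v z1 z2 u p a b c d : G}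

section

variable (F : GF H T E z y v z1 z2 u p a b c d)

include F

/-- (D1) -/
theorem good_v [Finite G] (hz : Good H z) : Good H v := by
  have hC : Subgroup.centralizer {z} ≤ H := fun g hg =>
    hz.cent F.zH (Subgroup.mem_centralizer_singleton_iff.1 hg)
  have hz1 : Good H z1 := F.z1A.good hz
  have hz2 : Good H z2 := F.z2A.good hz
  have z1H : z1 ∈ H := F.TH (F.ET F.z1E)
  have z2H : z2 ∈ H := F.TH (F.ET F.z2E)
  have z11 : z1 * z1 = 1 := F.Es _ F.z1E
  have z22 : z2 * z2 = 1 := F.Es _ F.z2E
  have z12 : z1 * z2 = z2 * z1 := F.Ec _ F.z1E _ F.z2E
  have z1v : z1 * v = z2 := by rw [F.v_eq, ← mul_assoc, z11, one_mul]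
  have z1cv : z1 * v = v * z1 := F.Ec _ F.z1E _ F.vE
  -- the set `{z1, z2}`
  have key : ∀ l : G, l * v = v * l → l * z1 * l⁻¹ ∈ T → l * z1 * l⁻¹ = z1 ∨ l * z1 * l⁻¹ = z2 := by
    intro l hl hT
    have hlH : l ∈ H := hz1 l (F.TH hT)
    have hlv : l * v * l⁻¹ = v := by rw [hl, mul_inv_cancel_right]
    have h1 : l * z1 * l⁻¹ * v = l * z2 * l⁻¹ := by
      calc l * z1 * l⁻¹ * v = l * z1 * l⁻¹ * (l * v * l⁻¹) := by rw [hlv]
        _ = l * (z1 * v) * l⁻¹ := by group
        _ = _ := by rw [z1v]
    refine F.only_v _ hT ?_ (F.z1A.conj hlH) ?_
    · calc l * z1 * l⁻¹ * v = l * z1 * l⁻¹ * (l * v * l⁻¹) := by rw [hlv]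
        _ = l * (z1 * v) * l⁻¹ := by group
        _ = l * (v * z1) * l⁻¹ := by rw [z1cv]
        _ = (l * v * l⁻¹) * (l * z1 * l⁻¹) := by group
        _ = _ := by rw [hlv]
    · rw [h1]; exact F.z2A.conj hlH
  -- bound on 2-groups commuting with `z1` and `z2`
  have bound : ∀ R : Subgroup G, IsPGroup 2 R → (∀ r ∈ R, r * z1 = z1 * r) → (∀ r ∈ R, r * z2 = z2 * r) →
      Nat.card R ≤ 2 ^ 14 := by
    intro R hR h1 h2
    obtain ⟨h, hh, he⟩ := F.z1A
    have hR' : IsPGroup 2 (R.map (MulAut.conj h⁻¹).toMonoidHom) := hR.map _
    have hcard : Nat.card (R.map (MulAut.conj h⁻¹).toMonoidHom) = Nat.card R :=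
      Subgroup.card_map_of_injective (MulAut.conj h⁻¹).injective
    have hzz : z = h⁻¹ * z1 * h := by rw [← he]; group
    have hconj : ∀ r w : G, r * w = w * r → (h⁻¹ * r * h) * (h⁻¹ * w * h) = (h⁻¹ * w * h) * (h⁻¹ * r * h) := by
      intro r w hrw
      calc (h⁻¹ * r * h) * (h⁻¹ * w * h) = h⁻¹ * (r * w) * h := by group
        _ = h⁻¹ * (w * r) * h := by rw [hrw]
        _ = _ := by group
    have hmem : ∀ w : G, ∀ r ∈ R.map (MulAut.conj h⁻¹).toMonoidHom, (∀ s ∈ R, s * w = w * s) →
        r * (h⁻¹ * w * h) = (h⁻¹ * w * h) * r := by
      rintro w _ ⟨r, hr, rfl⟩ hw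
      have e : (MulAut.conj h⁻¹).toMonoidHom r = h⁻¹ * r * h := by
        show h⁻¹ * r * h⁻¹⁻¹ = _
        rw [inv_inv]
      rw [e]
      exact hconj r w (hw r hr)
    have hx : Cj H z (h⁻¹ * z2 * h) := by
      have := F.z2A.conj (H.inv_mem hh)
      rwa [inv_inv] at this
    obtain ⟨w, hwT, hw, ⟨k, hk, hkw⟩, hle⟩ := F.bound_z hC hR' (fun r hr => by
      rw [hzz]; exact hmem z1 r hr h1) hx (by rw [hzz]; exact hconj z2 z1 z12.symm) (fun r hr => hmem z2 r hr h2)
    rw [hcard] at hle
    refine hle.trans (F.c14 w hwT hw ?_)
    have hkz := Subgroup.mem_centralizer_singleton_iff.1 hk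
    refine ⟨k * h⁻¹, H.mul_mem (hC hk) (H.inv_mem hh), ?_⟩
    have hkz' : k * z * k⁻¹ = z := by rw [hkz, mul_inv_cancel_right]
    calc k * h⁻¹ * v * (k * h⁻¹)⁻¹ = k * (h⁻¹ * z1 * h) * k⁻¹ * (k * (h⁻¹ * z2 * h) * k⁻¹) := by
          rw [F.v_eq]; group
      _ = k * z * k⁻¹ * w := by rw [← hzz, hkw]
      _ = z * w := by rw [hkz']
  have P2 : IsPGroup 2 (ct T v) := F.T2.to_le inf_le_left
  set L : Subgroup G := Subgroup.centralizer {v} with hL
  obtain ⟨P, hP⟩ := exists_sylow (L := L) (P0 := ct T v) inf_le_right P2 (by
    intro N hNL hN2 hPN hNn
    have hz1P : z1 ∈ ct T v := mem_ct.2 ⟨F.ET F.z1E, z1cv⟩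
    have hNv : ∀ n ∈ N, n * v = v * n := fun n hn => Subgroup.mem_centralizer_singleton_iff.1 (hNL hn)
    have hN1 : ∀ n ∈ N, n * z1 * n⁻¹ = z1 ∨ n * z1 * n⁻¹ = z2 := by
      intro n hn
      have h1 := (Subgroup.mem_normalizer_iff.1 (hNn hn) z1).1 hz1P
      exact key n (hNv n hn) (mem_ct.1 h1).1
    -- the subgroup commuting with `z1`
    set N1 : Subgroup G := N ⊓ Subgroup.centralizer {z1} with hN1def
    have hb : Nat.card N1 ≤ 2 ^ 14 := by
      refine bound N1 (hN2.to_le inf_le_left) ?_ ?_
      · intro r hr
        exact Subgroup.mem_centralizer_singleton_iff.1 (Subgroup.mem_inf.1 hr).2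
      · intro r hr
        have h1 := Subgroup.mem_centralizer_singleton_iff.1 (Subgroup.mem_inf.1 hr).2
        have h2 := hNv r (Subgroup.mem_inf.1 hr).1
        rw [← z1v]
        exact ((show Commute r z1 from h1).mul_right (show Commute r v from h2)).eq
    have hN1' : Nat.card N ≤ 2 * Nat.card N1 := by
      by_cases hall : ∀ n ∈ N, n * z1 = z1 * n
      · have : N ≤ N1 := fun n hn => Subgroup.mem_inf.2 ⟨hn, Subgroup.mem_centralizer_singleton_iff.2 (hall n hn)⟩
        have := Subgroup.card_le_of_le this
        omega
      · push Not at hall
        obtain ⟨s, hs, hsz⟩ := hall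
        have hs2 : s * z1 * s⁻¹ = z2 := by
          rcases hN1 s hs with h | h
          · exact absurd (mul_inv_eq_iff_eq_mul.1 h) hsz
          · exact h
        classical
        have hstep : ∀ n ∈ N, ¬ (n * z1 = z1 * n) → s⁻¹ * n ∈ N1 := by
          intro n hn hnz
          have hn2 : n * z1 * n⁻¹ = z2 := by
            rcases hN1 n hn with h | h
            · exact absurd (mul_inv_eq_iff_eq_mul.1 h) hnz
            · exact h
          refine Subgroup.mem_inf.2 ⟨N.mul_mem (N.inv_mem hs) hn, Subgroup.mem_centralizer_singleton_iff.2 ?_⟩
          have e1 : n * z1 = z2 * n := mul_inv_eq_iff_eq_mul.1 hn2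
          have e2 : s⁻¹ * z2 = z1 * s⁻¹ := by rw [← hs2]; group
          rw [mul_assoc, e1, ← mul_assoc, e2, mul_assoc]
        let f : N → Bool × N1 := fun n =>
          if h : (n : G) * z1 = z1 * n then
            (false, ⟨n, Subgroup.mem_inf.2 ⟨n.2, Subgroup.mem_centralizer_singleton_iff.2 h⟩⟩)
          else (true, ⟨s⁻¹ * n, hstep n n.2 h⟩)
        have hf : Function.Injective f := by
          intro n m hnm
          by_cases h : (n : G) * z1 = z1 * n
          · by_cases h' : (m : G) * z1 = z1 * m
            · simp only [f, dif_pos h, dif_pos h', Prod.mk.injEq, true_and, Subtype.mk.injEq] at hnm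
              exact Subtype.ext hnm
            · simp only [f, dif_pos h, dif_neg h', Prod.mk.injEq] at hnm
              exact absurd hnm.1 (by decide)
          · by_cases h' : (m : G) * z1 = z1 * m
            · simp only [f, dif_neg h, dif_pos h', Prod.mk.injEq] at hnm
              exact absurd hnm.1 (by decide)
            · simp only [f, dif_neg h, dif_neg h', Prod.mk.injEq, true_and, Subtype.mk.injEq] at hnm
              exact Subtype.ext (mul_left_cancel hnm)
        have := Nat.card_le_card_of_injective f hf
        rw [Nat.card_prod, Nat.card_eq_fintype_card (α := Bool), Fintype.card_bool] at this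
        exact this
    have h5 : Nat.card N ≤ Nat.card (ct T v) := by
      rw [F.cv]
      calc Nat.card N ≤ 2 * Nat.card N1 := hN1'
        _ ≤ 2 * 2 ^ 14 := by omega
        _ = 2 ^ 15 := by norm_num
    exact (Subgroup.eq_of_le_of_card_ge hPN h5).ge)
  have hvL : v ∈ L := Subgroup.mem_centralizer_singleton_iff.2 rfl
  have hEL : ∀ e ∈ E, e ∈ L := fun e he => Subgroup.mem_centralizer_singleton_iff.2 (F.Ec _ he _ F.vE)
  have hz1L : z1 ∈ L := hEL _ F.z1E
  have z1_ne : z1 ≠ 1 := by
    obtain ⟨h, hh, he⟩ := F.z1A
    intro h1
    apply F.z_ne
    calc z = h⁻¹ * (h * z * h⁻¹) * h := by group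
      _ = 1 := by rw [he, h1]; group
  have z2_ne : z2 ≠ 1 := by
    obtain ⟨h, hh, he⟩ := F.z2A
    intro h1
    apply F.z_ne
    calc z = h⁻¹ * (h * z * h⁻¹) * h := by group
      _ = 1 := by rw [he, h1]; group
  obtain ⟨K, hKn, hKodd, hKc⟩ := ZMod2.zstar_mod P (v := ⟨v, hvL⟩) (z := ⟨z1, hz1L⟩) (Subtype.ext F.vv)
    (fun h => F.v_ne (congrArg Subtype.val h))
    (fun m => Subtype.ext (Subgroup.mem_centralizer_singleton_iff.1 m.2)) (Subtype.ext z11)
    (fun h => z1_ne (congrArg Subtype.val h))
    (fun h => z2_ne (by
      have h1 : z1 = v := congrArg Subtype.val h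
      rw [← z1v, ← h1, z11]))
    ((hP _).2 (mem_ct.2 ⟨F.ET F.z1E, z1cv⟩))
    (by
      intro l hl
      have h1 : (l : G) * z1 * (l : G)⁻¹ ∈ ct T v := (hP _).1 hl
      rcases key l (Subgroup.mem_centralizer_singleton_iff.1 l.2) (mem_ct.1 h1).1 with h | h
      · left; exact Subtype.ext h
      · right; exact Subtype.ext (h.trans z1v.symm))
  have hKH : K.map L.subtype ≤ H := by
    refine F.odd_le hz ?_ ?_
    · rw [Subgroup.card_map_of_injective (Subgroup.subtype_injective _)]; exact hKodd
    · intro e he
      rw [Subgroup.mem_normalizer_iff]
      intro x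
      constructor
      · rintro ⟨k, hk, rfl⟩
        exact ⟨⟨e, hEL e he⟩ * k * ⟨e, hEL e he⟩⁻¹, hKn.conj_mem _ hk _, rfl⟩
      · rintro ⟨k, hk, hke⟩
        refine ⟨⟨e, hEL e he⟩⁻¹ * k * ⟨e, hEL e he⟩, ?_, ?_⟩
        · have := hKn.conj_mem _ hk (⟨e, hEL e he⟩⁻¹)
          rwa [inv_inv] at this
        · have hke' : (k : G) = e * x * e⁻¹ := hke
          show e⁻¹ * (k : G) * e = x
          rw [hke']; group
  -- `C_G(v) ≤ H`
  refine F.good_of_cent1 hz F.vv ?_
  intro l hl
  have hlL : l ∈ L := Subgroup.mem_centralizer_singleton_iff.2 hl
  have hmem : z1 * l * z1⁻¹ * l⁻¹ ∈ H := by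
    rcases hKc ⟨l, hlL⟩ with h | h
    · exact hKH ⟨_, h, rfl⟩
    · have h1 : z1 * l * z1⁻¹ * l⁻¹ * v ∈ H := hKH ⟨_, h, rfl⟩
      have h2 := H.mul_mem h1 (H.inv_mem F.vH)
      rwa [mul_inv_cancel_right] at h2
  apply hz1
  have z1i : z1⁻¹ = z1 := inv_eq_of_mul_eq_one_left z11
  have h3 := H.mul_mem (H.inv_mem z1H) hmem
  have e : z1⁻¹ * (z1 * l * z1⁻¹ * l⁻¹) = l * z1 * l⁻¹ := by
    rw [z1i]
    calc z1 * (z1 * l * z1 * l⁻¹) = z1 * z1 * (l * z1 * l⁻¹) := by group
      _ = _ := by rw [z11, one_mul]
  rwa [e] at h3

/-- (D2') -/
theorem good2_yp [Finite G] (hz : Good H z) : Good2 H y p := by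
  have hC : Subgroup.centralizer {z} ≤ H := fun g hg =>
    hz.cent F.zH (Subgroup.mem_centralizer_singleton_iff.1 hg)
  have hEE : ∀ e ∈ E, ∀ f ∈ E, e * f = f * e := F.Ec
  set L : Subgroup G := Subgroup.centralizer {y} ⊓ Subgroup.centralizer {p} with hL
  have memL : ∀ g, g ∈ L ↔ g * y = y * g ∧ g * p = p * g := by
    intro g
    rw [hL, Subgroup.mem_inf, Subgroup.mem_centralizer_singleton_iff, Subgroup.mem_centralizer_singleton_iff]
  set P0 : Subgroup G := T ⊓ Subgroup.centralizer {y} ⊓ Subgroup.centralizer {p} with hP0
  have memP : ∀ g, g ∈ P0 ↔ g ∈ T ∧ g * y = y * g ∧ g * p = p * g := by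
    intro g
    rw [hP0, Subgroup.mem_inf, Subgroup.mem_inf, Subgroup.mem_centralizer_singleton_iff,
      Subgroup.mem_centralizer_singleton_iff, and_assoc]
  have hEL : ∀ e ∈ E, e ∈ L := fun e he => (memL e).2 ⟨hEE _ he _ F.yE, hEE _ he _ F.pE⟩
  have hzP : z ∈ P0 := (memP z).2 ⟨F.ET F.zE, hEE _ F.zE _ F.yE, hEE _ F.zE _ F.pE⟩
  have hPL : P0 ≤ L := fun g hg => (memL g).2 ((memP g).1 hg).2
  have P2 : IsPGroup 2 P0 := F.T2.to_le (inf_le_left.trans inf_le_left)
  have hconj : ∀ l w : G, l * w * l⁻¹ = w ↔ l * w = w * l := fun l w => mul_inv_eq_iff_eq_mul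
  -- `z` is fixed
  have key : ∀ l ∈ L, l * z * l⁻¹ ∈ P0 → l * z * l⁻¹ = z := by
    intro l hl hT
    obtain ⟨hly, hlp⟩ := (memL l).1 hl
    obtain ⟨hT1, hT2, hT3⟩ := (memP _).1 hT
    have hlH : l ∈ H := hz l (F.TH hT1)
    have ey : l * y * l⁻¹ = y := (hconj l y).2 hly
    have ep : l * p * l⁻¹ = p := (hconj l p).2 hlp
    refine F.only_yp _ hT1 hT2 hT3 ⟨l, hlH, rfl⟩ ?_ ?_ ?_
    · have h1 := F.zy.conj hlH
      have e : l * (z * y) * l⁻¹ = l * z * l⁻¹ * y := by
        calc l * (z * y) * l⁻¹ = l * z * l⁻¹ * (l * y * l⁻¹) := by group
          _ = _ := by rw [ey]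
      rwa [e] at h1
    · have h1 := F.zp.conj hlH
      have e : l * (z * p) * l⁻¹ = l * z * l⁻¹ * p := by
        calc l * (z * p) * l⁻¹ = l * z * l⁻¹ * (l * p * l⁻¹) := by group
          _ = _ := by rw [ep]
      rwa [e] at h1
    · have h1 := F.zyp.conj hlH
      have e : l * (z * (y * p)) * l⁻¹ = l * z * l⁻¹ * (y * p) := by
        calc l * (z * (y * p)) * l⁻¹ = l * z * l⁻¹ * (l * y * l⁻¹ * (l * p * l⁻¹)) := by group
          _ = _ := by rw [ey, ep]
      rwa [e] at h1
  obtain ⟨P, hP⟩ := exists_sylow (L := L) (P0 := P0) hPL P2 (by
    intro N hNL hN2 hPN hNn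
    have hNz : ∀ n ∈ N, n * z = z * n := by
      intro n hn
      have h1 := (Subgroup.mem_normalizer_iff.1 (hNn hn) z).1 hzP
      exact (hconj n z).1 (key n (hNL hn) h1)
    have hx : Cj H z (z * p) := F.zp
    obtain ⟨w, hwT, hw, ⟨k, hk, hkw⟩, hle⟩ := F.bound_z hC hN2 hNz hx
      (by rw [← hEE _ F.zE _ (E.mul_mem F.zE F.pE)]) (fun r hr => by
        have h1 := hNz r hr
        have h2 := ((memL r).1 (hNL hr)).2
        exact ((show Commute r z from h1).mul_right (show Commute r p from h2)).eq)
    have hwz : w ≠ z := by
      intro h
      apply F.p_ne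
      have hkz := Subgroup.mem_centralizer_singleton_iff.1 hk
      have h1 : z * p = z := by
        have h2 : k * (z * p) * k⁻¹ = z := by rw [hkw, h]
        calc z * p = k⁻¹ * (k * (z * p) * k⁻¹) * k := by group
          _ = k⁻¹ * (z * k) := by rw [h2]; group
          _ = z := by rw [← hkz]; group
      exact mul_eq_left.1 h1
    have h5 : Nat.card N ≤ Nat.card P0 := by
      rw [F.cyp]
      exact hle.trans (F.c16 w hwT hw hwz)
    exact (Subgroup.eq_of_le_of_card_ge hPN h5).ge)
  have hzL : z ∈ L := hEL _ F.zE
  have hoz : orderOf (⟨z, hzL⟩ : L) = 2 := by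
    have : Fact (Nat.Prime 2) := ⟨Nat.prime_two⟩
    refine orderOf_eq_prime ?_ (fun h => F.z_ne (congrArg Subtype.val h))
    rw [pow_two]; exact Subtype.ext F.zz
  obtain ⟨K, hKn, hKodd, hKc⟩ := Cfsg.Agent.S0215.result P (⟨z, hzL⟩ : L) hoz ((hP _).2 hzP) (by
    intro l hl
    exact Subtype.ext (key l l.2 ((hP _).1 hl)))
  have hKH : K.map L.subtype ≤ H := by
    refine F.odd_le hz ?_ ?_
    · rw [Subgroup.card_map_of_injective (Subgroup.subtype_injective _)]; exact hKodd
    · intro e he
      rw [Subgroup.mem_normalizer_iff]
      intro x
      constructor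
      · rintro ⟨k, hk, rfl⟩
        exact ⟨⟨e, hEL e he⟩ * k * ⟨e, hEL e he⟩⁻¹, hKn.conj_mem _ hk _, rfl⟩
      · rintro ⟨k, hk, hke⟩
        refine ⟨⟨e, hEL e he⟩⁻¹ * k * ⟨e, hEL e he⟩, ?_, ?_⟩
        · have := hKn.conj_mem _ hk (⟨e, hEL e he⟩⁻¹)
          rwa [inv_inv] at this
        · have hke' : (k : G) = e * x * e⁻¹ := hke
          show e⁻¹ * (k : G) * e = x
          rw [hke']; group
  -- `C_G(⟨y, p⟩) ≤ H`
  have hLH : ∀ l ∈ L, l ∈ H := by
    intro l hl
    have hmem : z * l * z⁻¹ * l⁻¹ ∈ H := hKH ⟨_, hKc ⟨l, hl⟩, rfl⟩
    apply hz
    have zi : z⁻¹ = z := inv_eq_of_mul_eq_one_left F.zz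
    have h3 := H.mul_mem (H.inv_mem F.zH) hmem
    have e : z⁻¹ * (z * l * z⁻¹ * l⁻¹) = l * z * l⁻¹ := by
      rw [zi]
      calc z * (z * l * z * l⁻¹) = z * z * (l * z * l⁻¹) := by group
        _ = _ := by rw [F.zz, one_mul]
    rwa [e] at h3
  intro g hgy hgp
  have hY : Subgroup.closure {y, p} ≤ E := by
    rw [Subgroup.closure_le]
    rintro w (rfl | rfl)
    · exact F.yE
    · exact F.pE
  refine F.good_of_cent hz (Y := Subgroup.closure {y, p}) (F.T2.to_le (hY.trans F.ET)) ?_ ?_
  · intro k hk
    exact hLH k ((memL k).2 ⟨hk y (Subgroup.subset_closure (by simp)), hk p (Subgroup.subset_closure (by simp))⟩)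
  · intro w hw
    have h1 : Subgroup.closure {y, p} ≤ H.comap (MulAut.conj g).toMonoidHom := by
      rw [Subgroup.closure_le]
      rintro w (rfl | rfl)
      · exact hgy
      · exact hgp
    exact h1 hw

/-- (D2'') -/
theorem good_y [Finite G] (hz : Good H z) : Good H y := by
  have hC : Subgroup.centralizer {z} ≤ H := fun g hg =>
    hz.cent F.zH (Subgroup.mem_centralizer_singleton_iff.1 hg)
  have hv := good_v F hz
  have hyp := good2_yp F hz
  have hconj : ∀ l w : G, l * w * l⁻¹ = w ↔ l * w = w * l := fun l w => mul_inv_eq_iff_eq_mul
  refine F.good_of_cent1 hz F.yy ?_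
  set L : Subgroup G := Subgroup.centralizer {y} with hL
  have memL : ∀ g, g ∈ L ↔ g * y = y * g := fun g => Subgroup.mem_centralizer_singleton_iff
  have hEL : ∀ e ∈ E, e ∈ L := fun e he => (memL e).2 (F.Ec _ he _ F.yE)
  have hzP : z ∈ ct T y := mem_ct.2 ⟨F.ET F.zE, F.Ec _ F.zE _ F.yE⟩
  have P2 : IsPGroup 2 (ct T y) := F.T2.to_le inf_le_left
  -- Sylow subgroup of `C_G(y)`
  obtain ⟨P, hP⟩ := exists_sylow (L := L) (P0 := ct T y) inf_le_right P2 (by
    intro N hNL hN2 hPN hNn
    have hNz : ∀ n ∈ N, n * z = z * n := by
      intro n hn
      have h1 := (Subgroup.mem_normalizer_iff.1 (hNn hn) z).1 hzP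
      have hnT := (mem_ct.1 h1).1
      have hnH : n ∈ H := hz n (F.TH hnT)
      apply (hconj n z).1
      by_contra hne
      have h2 := F.c16 _ hnT ⟨n, hnH, rfl⟩ hne
      have h3 : ct T y ≤ ct T (n * z * n⁻¹) := by
        intro s hs
        refine mem_ct.2 ⟨(mem_ct.1 hs).1, ?_⟩
        have h4 : n⁻¹ * s * n ∈ ct T y := by
          have h5 := (Subgroup.mem_normalizer_iff.1 (Subgroup.inv_mem _ (hNn hn)) s).1 hs
          rwa [inv_inv] at h5
        have h6 := F.zc _ (mem_ct.1 h4).1
        calc s * (n * z * n⁻¹) = n * ((n⁻¹ * s * n) * z) * n⁻¹ := by group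
          _ = n * (z * (n⁻¹ * s * n)) * n⁻¹ := by rw [h6]
          _ = n * z * n⁻¹ * s := by group
      have h7 := Subgroup.card_le_of_le h3
      rw [F.cy] at h7
      have : (2 : ℕ) ^ 17 ≤ 2 ^ 16 := h7.trans h2
      norm_num at this
    -- conjugate `N` into `T`
    obtain ⟨k, hk, hkT⟩ := F.conjT _ F.T_le_cent hC N (fun n hn =>
      Subgroup.mem_centralizer_singleton_iff.2 (hNz n hn)) hN2
    have hmap : N.map (MulAut.conj k).toMonoidHom ≤ T := by
      rintro _ ⟨n, hn, rfl⟩
      exact hkT n hn
    have hcardmap : Nat.card (N.map (MulAut.conj k).toMonoidHom) = Nat.card N :=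
      Subgroup.card_map_of_injective (MulAut.conj k).injective
    have hyN : y ∈ N := hPN (mem_ct.2 ⟨F.ET F.yE, rfl⟩)
    have hne : N.map (MulAut.conj k).toMonoidHom ≠ T := by
      intro heq
      have h1 : ∀ s ∈ T, s * (k * y * k⁻¹) = (k * y * k⁻¹) * s := by
        intro s hs
        rw [← heq] at hs
        obtain ⟨n, hn, rfl⟩ := hs
        have h2 := (memL n).1 (hNL hn)
        show k * n * k⁻¹ * (k * y * k⁻¹) = (k * y * k⁻¹) * (k * n * k⁻¹)
        calc k * n * k⁻¹ * (k * y * k⁻¹) = k * (n * y) * k⁻¹ := by group
          _ = k * (y * n) * k⁻¹ := by rw [h2]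
          _ = _ := by group
      rcases F.centT _ (hkT y hyN) h1 with h2 | h2
      · apply F.y_ne
        calc y = k⁻¹ * (k * y * k⁻¹) * k := by group
          _ = 1 := by rw [h2]; group
      · apply F.nzy
        exact (Cj.symm' ⟨k, hC hk, h2⟩)
    have hdvd : Nat.card N ∣ 2 ^ 18 := by
      rw [← hcardmap, ← F.cardT]
      exact Subgroup.card_dvd_of_le hmap
    obtain ⟨m, hm, hm2⟩ := (Nat.dvd_prime_pow Nat.prime_two).1 hdvd
    have hm17 : m ≤ 17 := by
      by_contra hcon
      have : m = 18 := by omega
      apply hne
      apply Subgroup.eq_of_le_of_card_ge hmap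
      rw [hcardmap, hm2, this, F.cardT]
    have h5 : Nat.card N ≤ Nat.card (ct T y) := by
      rw [F.cy, hm2]
      exact Nat.pow_le_pow_right (by norm_num) hm17
    exact (Subgroup.eq_of_le_of_card_ge hPN h5).ge)
  -- the closing lemma in `C_G(y)`
  set D0 : Subgroup L := H.subgroupOf L with hD0
  have hzL : z ∈ L := hEL _ F.zE
  by_contra hcon
  push Not at hcon
  obtain ⟨g0, hg0, hg0H⟩ := hcon
  have hne : D0 ≠ ⊤ := by
    intro h
    have : (⟨g0, (memL g0).2 hg0⟩ : L) ∈ D0 := by rw [h]; exact Subgroup.mem_top _
    exact hg0H this
  have hZ' : ∀ g : L, g * ⟨z, hzL⟩ * g⁻¹ ∈ D0 → g ∈ D0 := by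
    intro g hg
    exact hz (g : G) hg
  have hoz : orderOf (⟨z, hzL⟩ : L) = 2 := by
    have : Fact (Nat.Prime 2) := ⟨Nat.prime_two⟩
    refine orderOf_eq_prime ?_ (fun h => F.z_ne (congrArg Subtype.val h))
    rw [pow_two]; exact Subtype.ext F.zz
  obtain ⟨S, hSD, hS2, hzf, hnS, -, hx, hR⟩ := Cfsg.Agent.SporRec.MaxFix.exists_max hne hZ' hoz F.zH P
    (fun x hx => Subtype.ext (F.zc _ (mem_ct.1 ((hP x).1 hx)).1))
  -- an element of the normaliser of `S` outside `H`
  obtain ⟨n, hn, hnD⟩ : ∃ n ∈ Subgroup.normalizer (S : Set L), n ∉ D0 := by
    by_contra h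
    push Not at h
    exact hnS h
  have hnH : (n : G) ∉ H := hnD
  have hny : (n : G) * y * (n : G)⁻¹ = y := (hconj _ _).2 ((memL _).1 n.2)
  have hSH : ∀ s ∈ S, (s : G) ∈ H := fun s hs => hSD hs
  have hnSn : ∀ s ∈ S, n * s * n⁻¹ ∈ S := fun s hs => (Subgroup.mem_normalizer_iff.1 hn s).1 hs
  have hyL : y ∈ L := hEL _ F.yE
  have hyc : ∀ g : L, g * ⟨y, hyL⟩ = ⟨y, hyL⟩ * g := fun g => Subtype.ext ((memL _).1 g.2)
  -- `y ∈ S`
  have hyS : (⟨y, hyL⟩ : L) ∈ S := by
    by_contra hyS
    have hlt : S < S ⊔ Subgroup.zpowers (⟨y, hyL⟩ : L) := by
      refine lt_of_le_of_ne le_sup_left (fun h => hyS ?_)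
      rw [h]; exact Subgroup.mem_sup_right (Subgroup.mem_zpowers _)
    have hp : IsPGroup 2 (Subgroup.zpowers (⟨y, hyL⟩ : L)) := by
      have : Fact (Nat.Prime 2) := ⟨Nat.prime_two⟩
      rw [IsPGroup.iff_card]
      refine ⟨1, ?_⟩
      rw [Nat.card_zpowers, pow_one]
      refine orderOf_eq_prime ?_ (fun h => F.y_ne (congrArg Subtype.val h))
      rw [pow_two]; exact Subtype.ext F.yy
    have hp2 : IsPGroup 2 (S ⊔ Subgroup.zpowers (⟨y, hyL⟩ : L) : Subgroup L) := by
      rw [sup_comm]
      refine hp.to_sup_of_normal_right' hS2 ?_
      rw [Subgroup.zpowers_le, Subgroup.mem_normalizer_iff]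
      intro x
      rw [← hyc x, mul_inv_cancel_right]
    obtain ⟨g, hg⟩ := hR _ hp2 hlt
    have hyn : (Subgroup.zpowers (⟨y, hyL⟩ : L)).Normal := by
      constructor
      intro x hx g
      obtain ⟨k, rfl⟩ := Subgroup.mem_zpowers_iff.1 hx
      have hc : Commute g ((⟨y, hyL⟩ : L) ^ k) := (show Commute g ⟨y, hyL⟩ from hyc g).zpow_right k
      rw [hc.eq, mul_inv_cancel_right]
      exact Subgroup.zpow_mem_zpowers _ k
    obtain ⟨s, hs, w, hw, hsw⟩ := Subgroup.mem_sup_of_normal_right.1 hg
    have hw' : w = 1 ∨ w = ⟨y, hyL⟩ := by
      obtain ⟨k, rfl⟩ := Subgroup.mem_zpowers_iff.1 hw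
      have hyy : (⟨y, hyL⟩ : L) * ⟨y, hyL⟩ = 1 := Subtype.ext F.yy
      rcases Int.even_or_odd' k with ⟨m, rfl | rfl⟩
      · left; rw [zpow_mul, zpow_ofNat, pow_two, hyy, one_zpow]
      · right; rw [zpow_add, zpow_mul, zpow_ofNat, pow_two, hyy, one_zpow, zpow_one, one_mul]
    have hwH : (w : G) ∈ H := by
      rcases hw' with rfl | rfl
      · exact H.one_mem
      · exact F.yH
    have hwn : n * w * n⁻¹ = w := by
      rcases hw' with rfl | rfl
      · group
      · rw [hyc, mul_inv_cancel_right]
    -- `g z g⁻¹ = s w` is in `H` and conjugated into `H` by `n`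
    have h1 : ((g : G) * z * (g : G)⁻¹) = (s : G) * w := congrArg Subtype.val hsw.symm
    have hgH : (g : G) ∈ H := hz _ (by rw [h1]; exact H.mul_mem (hSH s hs) hwH)
    have h2 : ((n : G) * g) * z * ((n : G) * g)⁻¹ ∈ H := by
      have e : ((n : G) * g) * z * ((n : G) * g)⁻¹ = (n : G) * ((g : G) * z * (g : G)⁻¹) * (n : G)⁻¹ := by group
      rw [e, h1]
      have e2 : (n : G) * ((s : G) * w) * (n : G)⁻¹ = ((n * s * n⁻¹ : L) : G) * ((n * w * n⁻¹ : L) : G) := by
        simp only [Subgroup.coe_mul, Subgroup.coe_inv]; group
      rw [e2, hwn]
      exact H.mul_mem (hSH _ (hnSn s hs)) hwH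
    have h3 := hz _ h2
    exact hnH (by
      have := H.mul_mem h3 (H.inv_mem hgH)
      rwa [mul_inv_cancel_right] at this)
  -- conjugate `S` into `T`
  have hTD : ct T y ≤ H ⊓ L := le_inf (inf_le_left.trans F.TH) inf_le_right
  obtain ⟨dd, hdd, hddT⟩ : ∃ k ∈ H ⊓ L, ∀ s ∈ S, k * (s : G) * k⁻¹ ∈ T := by
    -- Sylow in `D0`
    have : Fact (Nat.Prime 2) := ⟨Nat.prime_two⟩
    have hP0 : (P : Subgroup L) ≤ D0 := by
      intro x hx
      exact F.TH (mem_ct.1 ((hP x).1 hx)).1
    have hPs := P.subtype hP0
    obtain ⟨Q, hQ⟩ := (hS2.comap_of_injective D0.subtype (Subgroup.subtype_injective _)).exists_le_sylow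
    obtain ⟨k, hk⟩ := MulAction.exists_smul_eq D0 Q (P.subtype hP0)
    refine ⟨((k : L) : G), ⟨k.2, (k : L).2⟩, ?_⟩
    intro s hs
    have h1 : (⟨s, hSD hs⟩ : D0) ∈ Q := hQ (by
      rw [Subgroup.mem_comap]; exact hs)
    have h2 : k * ⟨s, hSD hs⟩ * k⁻¹ ∈ P.subtype hP0 := by
      rw [← hk]
      exact Subgroup.smul_mem_pointwise_smul _ (MulAut.conj k) _ h1
    have h3 : ((k * ⟨s, hSD hs⟩ * k⁻¹ : D0) : L) ∈ P := h2
    exact (mem_ct.1 ((hP _).1 h3)).1
  obtain ⟨hdH, hdL⟩ := Subgroup.mem_inf.1 hdd
  have hdy : dd * y = y * dd := (memL dd).1 hdL
  have hdy' : dd * y * dd⁻¹ = y := (hconj _ _).2 hdy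
  have huL : u ∈ L := hEL _ F.uE
  -- `u' = d⁻¹ u d`
  set u' : G := dd⁻¹ * u * dd with hu'
  have hu'L : u' ∈ L := L.mul_mem (L.mul_mem (L.inv_mem hdL) huL) hdL
  have hu'H : u' ∈ H := H.mul_mem (H.mul_mem (H.inv_mem hdH) F.uH) hdH
  have hu'u' : u' * u' = 1 := by
    rw [hu']
    calc dd⁻¹ * u * dd * (dd⁻¹ * u * dd) = dd⁻¹ * (u * u) * dd := by group
      _ = 1 := by rw [F.uu]; group
  have hu'g : Good H u' := by
    have h1 := (F.uA.good hz).conj (H.inv_mem hdH)
    rwa [inv_inv] at h1
  have hu's : ∀ s ∈ S, (s : G) * u' * (s : G)⁻¹ = u' ∨ (s : G) * u' * (s : G)⁻¹ = u' * y := by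
    intro s hs
    have hsy := (memL (s : G)).1 s.2
    have hsT := hddT s hs
    have h1 : dd * (s : G) * dd⁻¹ * y = y * (dd * (s : G) * dd⁻¹) :=
      ((show Commute dd y from hdy).mul_left (show Commute (s : G) y from hsy)).mul_left
        (show Commute dd y from hdy).inv_left
    have e : (s : G) * u' * (s : G)⁻¹ = dd⁻¹ * ((dd * (s : G) * dd⁻¹) * u * (dd * (s : G) * dd⁻¹)⁻¹) * dd := by
      rw [hu']; group
    have hdiy : dd⁻¹ * y = y * dd⁻¹ := ((show Commute dd y from hdy).inv_left).eq
    rcases F.u_comm _ hsT h1 with h2 | h2
    · left; rw [e, h2]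
    · right; rw [e, h2, hu']
      calc dd⁻¹ * (u * y) * dd = dd⁻¹ * u * (y * dd) := by group
        _ = dd⁻¹ * u * (dd * y) := by rw [hdy]
        _ = _ := by group
  have hu'nS : (⟨u', hu'L⟩ : L) ∉ S := by
    intro h
    apply hnH
    apply hu'g
    exact hSH _ (hnSn _ h)
  have hu'norm : (⟨u', hu'L⟩ : L) ∈ Subgroup.normalizer (S : Set L) := by
    have hone : ∀ s ∈ S, (⟨u', hu'L⟩ : L) * s * (⟨u', hu'L⟩ : L)⁻¹ ∈ S := by
      intro s hs
      have hu'i : u'⁻¹ = u' := inv_eq_of_mul_eq_one_left hu'u'
      rcases hu's s hs with h | h
      · have : (⟨u', hu'L⟩ : L) * s * (⟨u', hu'L⟩ : L)⁻¹ = s := by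
          apply Subtype.ext
          show u' * (s : G) * u'⁻¹ = s
          have h1 : (s : G) * u' = u' * s := mul_inv_eq_iff_eq_mul.1 h
          rw [← h1]; group
        rw [this]; exact hs
      · have : (⟨u', hu'L⟩ : L) * s * (⟨u', hu'L⟩ : L)⁻¹ = ⟨y, hyL⟩ * s := by
          apply Subtype.ext
          show u' * (s : G) * u'⁻¹ = y * s
          have h1 : (s : G) * u' = u' * y * s := mul_inv_eq_iff_eq_mul.1 h
          have hyu : y * u' = u' * y := ((memL u').1 hu'L).symm
          have h2 : u' * (s : G) = y * s * u' := by
            have h3 : u' * ((s : G) * u') = y * s := by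
              rw [h1]
              calc u' * (u' * y * s) = (u' * u') * y * s := by group
                _ = y * s := by rw [hu'u', one_mul]
            calc u' * (s : G) = u' * ((s : G) * u') * u' := by
                  rw [mul_assoc u' _ u', mul_assoc (s : G) u' u', hu'u', mul_one]
              _ = y * s * u' := by rw [h3]
          rw [h2, mul_inv_cancel_right]
        rw [this]; exact S.mul_mem hyS hs
    rw [Subgroup.mem_normalizer_iff]
    intro s
    refine ⟨fun hs => hone s hs, fun hs => ?_⟩
    have h1 := hone _ hs
    have hu'i : (⟨u', hu'L⟩ : L)⁻¹ = ⟨u', hu'L⟩ := inv_eq_of_mul_eq_one_left (Subtype.ext hu'u')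
    have h2 : (⟨u', hu'L⟩ : L) * ((⟨u', hu'L⟩ : L) * s * (⟨u', hu'L⟩ : L)⁻¹) * (⟨u', hu'L⟩ : L)⁻¹ = s := by
      have h3 : (⟨u', hu'L⟩ : L) * ⟨u', hu'L⟩ = 1 := Subtype.ext hu'u'
      rw [hu'i]
      calc (⟨u', hu'L⟩ : L) * (⟨u', hu'L⟩ * s * ⟨u', hu'L⟩) * ⟨u', hu'L⟩ =
          (⟨u', hu'L⟩ * ⟨u', hu'L⟩) * s * (⟨u', hu'L⟩ * ⟨u', hu'L⟩) := by group
        _ = s := by rw [h3]; group
    rwa [h2] at h1
  obtain ⟨g, -, hgS⟩ := hx ⟨u', hu'L⟩ hu'norm hu'nS (by
    have : (⟨u', hu'L⟩ : L) * ⟨u', hu'L⟩ = 1 := Subtype.ext hu'u'
    rw [this]; exact S.one_mem)
  -- `w = g z g⁻¹ = u' s`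
  set s : L := (⟨u', hu'L⟩ : L)⁻¹ * (g * ⟨z, hzL⟩ * g⁻¹) with hs
  have hw : (g : G) * z * (g : G)⁻¹ = u' * (s : G) := by
    have h1 : (⟨u', hu'L⟩ : L) * s = g * ⟨z, hzL⟩ * g⁻¹ := by rw [hs, mul_inv_cancel_left]
    exact (congrArg Subtype.val h1).symm
  have hgH : (g : G) ∈ H := hz _ (by rw [hw]; exact H.mul_mem hu'H (hSH s hgS))
  have hgy : (g : G) * y * (g : G)⁻¹ = y := (hconj _ _).2 ((memL _).1 g.2)
  set w1 : G := dd * ((g : G) * z * (g : G)⁻¹) * dd⁻¹ with hw1
  have hw1' : w1 = u * (dd * (s : G) * dd⁻¹) := by
    rw [hw1, hw, hu']; group
  have hw1T : w1 ∈ T := by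
    rw [hw1']; exact T.mul_mem (F.ET F.uE) (hddT s hgS)
  have hdsy : dd * (s : G) * dd⁻¹ * y = y * (dd * (s : G) * dd⁻¹) :=
    ((show Commute dd y from hdy).mul_left (show Commute (s : G) y from (memL _).1 s.2)).mul_left
        (show Commute dd y from hdy).inv_left
  have hw1y : w1 * y = y * w1 := by
    rw [hw1']
    exact ((show Commute u y from (memL u).1 huL).mul_left (show Commute _ y from hdsy)).eq
  have hw1A : Cj H z w1 := ⟨dd * g, H.mul_mem hdH hgH, by rw [hw1]; group⟩
  have hw1B : Cj H y (w1 * y) := by
    have h1 := F.zy.conj (H.mul_mem hdH hgH)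
    have e : dd * (g : G) * (z * y) * (dd * (g : G))⁻¹ = w1 * y := by
      calc dd * (g : G) * (z * y) * (dd * (g : G))⁻¹ =
          dd * ((g : G) * z * (g : G)⁻¹) * dd⁻¹ * (dd * ((g : G) * y * (g : G)⁻¹) * dd⁻¹) := by group
        _ = w1 * y := by rw [hgy, hdy']
    rwa [e] at h1
  have hs1 : (⟨y, hyL⟩ : L) * s ∈ S := S.mul_mem hyS hgS
  have huw : u * (w1 * y) = dd * ((⟨y, hyL⟩ * s : L) : G) * dd⁻¹ := by
    have e1 : ((⟨y, hyL⟩ * s : L) : G) = y * s := rfl
    rw [e1, hw1']
    calc u * (u * (dd * (s : G) * dd⁻¹) * y) = (u * u) * (dd * (s : G) * dd⁻¹ * y) := by group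
      _ = y * (dd * (s : G) * dd⁻¹) := by rw [F.uu, one_mul, hdsy]
      _ = (dd * y * dd⁻¹) * (dd * (s : G) * dd⁻¹) := by rw [hdy']
      _ = _ := by group
  have hnot : ∀ s' ∈ S, (n : G) * (s' : G) * (n : G)⁻¹ ∈ H := fun s' hs' => hSH _ (hnSn s' hs')
  rcases F.uxy w1 hw1T hw1y hw1A hw1B with h | ⟨h, hh, hhy, hhp⟩
  · -- an element of class `v`
    rw [huw] at h
    have h1 : Good H (dd * ((⟨y, hyL⟩ * s : L) : G) * dd⁻¹) := h.good hv
    have h2 := h1.conj (H.inv_mem hdH)
    have e : dd⁻¹ * (dd * ((⟨y, hyL⟩ * s : L) : G) * dd⁻¹) * dd⁻¹⁻¹ = ((⟨y, hyL⟩ * s : L) : G) := by group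
    rw [e] at h2
    exact hnH (h2 _ (hnot _ hs1))
  · -- conjugate to `p` under `C_H(y)`
    rw [huw] at hhp
    have hk : h * dd ∈ H := H.mul_mem hh hdH
    have h1 := hyp.conj (H.inv_mem hk)
    have ey : (h * dd)⁻¹ * y * (h * dd)⁻¹⁻¹ = y := by
      have : h * dd * y * (h * dd)⁻¹ = y := by
        calc h * dd * y * (h * dd)⁻¹ = h * (dd * y * dd⁻¹) * h⁻¹ := by group
          _ = y := by rw [hdy', hhy]
      calc (h * dd)⁻¹ * y * (h * dd)⁻¹⁻¹ = (h * dd)⁻¹ * (h * dd * y * (h * dd)⁻¹) * (h * dd)⁻¹⁻¹ := by rw [this]
        _ = y := by group
    have ep : (h * dd)⁻¹ * p * (h * dd)⁻¹⁻¹ = ((⟨y, hyL⟩ * s : L) : G) := by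
      rw [← hhp]; group
    rw [ey, ep] at h1
    exact hnH (h1 _ (by rw [hny]; exact F.yH) (hnot _ hs1))

/-- **Closing argument.** -/
theorem eq_top [Finite G] (hz : Good H z) (hzy : ¬ IsConj z y) : H = ⊤ := by
  have hv := good_v F hz
  have hy := good_y F hz
  have hgood : ∀ x ∈ H, x * x = 1 → x ≠ 1 → Good H x := by
    intro x hx hxx hx1
    rcases F.cls x hx hxx hx1 with h | h | h
    · exact h.good hz
    · exact h.good hy
    · exact h.good hv
  have : Fact (Nat.Prime 2) := ⟨Nat.prime_two⟩
  rw [eq_top_iff]
  intro g _
  apply hz
  have hww : (g * z * g⁻¹) * (g * z * g⁻¹) = 1 := by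
    calc (g * z * g⁻¹) * (g * z * g⁻¹) = g * (z * z) * g⁻¹ := by group
      _ = 1 := by rw [F.zz]; group
  have hw1 : g * z * g⁻¹ ≠ 1 := by
    intro h
    apply F.z_ne
    calc z = g⁻¹ * (g * z * g⁻¹) * g := by group
      _ = 1 := by rw [h]; group
  obtain ⟨k, hk2, hkw, hky, -⟩ := Cfsg.Agent.Involutions.CommonInvolution.exists_common_involution
    (g * z * g⁻¹) y (orderOf_eq_prime (by rw [pow_two, hww]) hw1)
    (orderOf_eq_prime (by rw [pow_two, F.yy]) F.y_ne) (by
      intro h
      apply hzy
      exact (isConj_iff.2 ⟨g, rfl⟩ : IsConj z (g * z * g⁻¹)).trans h)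
  have hkk : k * k = 1 := by rw [← pow_two, ← hk2, pow_orderOf_eq_one]
  have hk1 : k ≠ 1 := by
    intro h
    rw [h, orderOf_one] at hk2
    exact absurd hk2 (by norm_num)
  have hkH : k ∈ H := hy.cent F.yH hky.eq
  exact (hgood k hkH hkk hk1).cent hkH hkw.symm.eq

end

end Cfsg.Agent.Co2Type.CloseAbs
end

-- part: Co2Type/Closing
section
/-!
# The closing theorem for `Co₂`: `H = G` from the finite facts on `H`
-/

set_option autoImplicit false

namespace Cfsg.Agent.Co2Type.Closing

open Cfsg.Agent.Co2Type.Good Cfsg.Agent.Co2Type.GFacts Cfsg.Agent.Co2Type.Facts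

variable {G : Type*} [Group G]

theorem cj_of {H : Subgroup G} {x w : H} (h : IsConj x w) : Cj H (x : G) (w : G) := by
  obtain ⟨k, hk⟩ := isConj_iff.1 h
  exact ⟨k, k.2, by rw [← hk]; rfl⟩

theorem of_cj {H : Subgroup G} {x w : H} (h : Cj H (x : G) (w : G)) : IsConj x w := by
  obtain ⟨k, hk, he⟩ := h
  exact isConj_iff.2 ⟨⟨k, hk⟩, Subtype.ext he⟩

variable {H : Subgroup G}

theorem mem_map_iff {T : Subgroup H} {g : G} : g ∈ T.map H.subtype ↔ ∃ h : g ∈ H, (⟨g, h⟩ : H) ∈ T := by
  constructor
  · rintro ⟨x, hx, rfl⟩
    exact ⟨x.2, hx⟩
  · rintro ⟨h, hx⟩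
    exact ⟨_, hx, rfl⟩

theorem card_ct {T : Subgroup H} {x : H} : Nat.card (ct (T.map H.subtype) (x : G)) = Nat.card (cent T x) := by
  have e : ct (T.map H.subtype) (x : G) = (cent T x).map H.subtype := by
    ext g
    rw [mem_ct, mem_map_iff, mem_map_iff]
    constructor
    · rintro ⟨⟨h, h1⟩, h2⟩
      exact ⟨h, mem_cent.2 ⟨h1, Subtype.ext h2.symm⟩⟩
    · rintro ⟨h, h1⟩
      obtain ⟨h2, h3⟩ := mem_cent.1 h1
      exact ⟨⟨h, h2⟩, (congrArg Subtype.val h3).symm⟩
  rw [e, Subgroup.card_map_of_injective (Subgroup.subtype_injective _)]

theorem card_ct2 {T : Subgroup H} {x y : H} :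
    Nat.card (T.map H.subtype ⊓ Subgroup.centralizer {(x : G)} ⊓ Subgroup.centralizer {(y : G)} : Subgroup G) =
      Nat.card (cent2 T x y) := by
  have e : (T.map H.subtype ⊓ Subgroup.centralizer {(x : G)} ⊓ Subgroup.centralizer {(y : G)} : Subgroup G) =
      (cent2 T x y).map H.subtype := by
    ext g
    rw [Subgroup.mem_inf, Subgroup.mem_inf, mem_map_iff, mem_map_iff, Subgroup.mem_centralizer_singleton_iff,
      Subgroup.mem_centralizer_singleton_iff]
    constructor
    · rintro ⟨⟨⟨h, h1⟩, h2⟩, h3⟩
      exact ⟨h, mem_cent2.2 ⟨h1, Subtype.ext h2.symm, Subtype.ext h3.symm⟩⟩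
    · rintro ⟨h, h1⟩
      obtain ⟨h2, h3, h4⟩ := mem_cent2.1 h1
      exact ⟨⟨⟨h, h2⟩, (congrArg Subtype.val h3).symm⟩, (congrArg Subtype.val h4).symm⟩
  rw [e, Subgroup.card_map_of_injective (Subgroup.subtype_injective _)]

/-- Sylow conjugation inside an intermediate subgroup -/
theorem conjT [Finite G] {T : Subgroup H} (h2 : IsPGroup 2 T) (hodd : ¬ 2 ∣ T.index) (K : Subgroup G)
    (hTK : T.map H.subtype ≤ K) (hKH : K ≤ H) (R : Subgroup G) (hRK : R ≤ K) (hR : IsPGroup 2 R) :
    ∃ k ∈ K, ∀ r ∈ R, k * r * k⁻¹ ∈ T.map H.subtype := by
  have : Fact (Nat.Prime 2) := ⟨Nat.prime_two⟩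
  have hinj : Function.Injective K.subtype := Subgroup.subtype_injective _
  have hT2 : IsPGroup 2 (T.map H.subtype) := h2.map _
  set TK : Subgroup K := (T.map H.subtype).subgroupOf K with hTKdef
  have hTK2 : IsPGroup 2 TK := hT2.comap_of_injective K.subtype hinj
  -- index of `TK` in `K` is odd
  have hidx : ¬ 2 ∣ TK.index := by
    have h1 : (T.map H.subtype).relIndex K * K.relIndex H = (T.map H.subtype).relIndex H :=
      Subgroup.relIndex_mul_relIndex _ _ _ hTK hKH
    have h3 : (T.map H.subtype).relIndex H = T.index := by
      rw [Subgroup.relIndex]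
      congr 1
      ext x
      rw [Subgroup.mem_subgroupOf, mem_map_iff]
      exact ⟨fun ⟨_, h⟩ => h, fun h => ⟨x.2, h⟩⟩
    intro h4
    apply hodd
    rw [← h3, ← h1]
    exact Dvd.dvd.mul_right h4 _
  let P : Sylow 2 K := hTK2.toSylow hidx
  obtain ⟨Q, hQ⟩ := (hR.comap_of_injective K.subtype hinj).exists_le_sylow
  obtain ⟨k, hk⟩ := MulAction.exists_smul_eq K Q P
  refine ⟨k, k.2, ?_⟩
  intro r hr
  have h1 : (⟨r, hRK hr⟩ : K) ∈ Q := hQ (by rw [Subgroup.mem_comap]; exact hr)
  have h2 : k * ⟨r, hRK hr⟩ * k⁻¹ ∈ P := by
    rw [← hk]
    exact Subgroup.smul_mem_pointwise_smul _ (MulAut.conj k) _ h1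
  have h3 : k * ⟨r, hRK hr⟩ * k⁻¹ ∈ TK := h2
  exact Subgroup.mem_subgroupOf.1 h3

/-- the facts inside `G` -/
theorem gf [Finite G] {T E : Subgroup H} {z y v z1 z2 u p a b c d : H}
    (F : CloseFacts H T E z y v z1 z2 u p a b c d) (nab : a ≠ b) (nac : a ≠ c) (ncd : c ≠ d) :
    GF H (T.map H.subtype) (E.map H.subtype) (z : G) y v z1 z2 u p a b c d := by
  have hT2 : IsPGroup 2 T := by
    rw [IsPGroup.iff_card]
    exact ⟨18, F.cardT⟩
  have hmemT : ∀ {x : H}, (x : G) ∈ T.map H.subtype ↔ x ∈ T := by
    intro x
    rw [mem_map_iff]
    exact ⟨fun ⟨_, h⟩ => h, fun h => ⟨x.2, h⟩⟩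
  have hmemE : ∀ {x : H}, (x : G) ∈ E.map H.subtype ↔ x ∈ E := by
    intro x
    rw [mem_map_iff]
    exact ⟨fun ⟨_, h⟩ => h, fun h => ⟨x.2, h⟩⟩
  refine
    { TH := ?_
      T2 := hT2.map _
      cardT := ?_
      conjT := fun K hTK hKH R hR hR2 => conjT hT2 F.odd_index K hTK hKH R hR hR2
      ET := Subgroup.map_mono F.E_le
      Ec := ?_
      Es := ?_
      zE := hmemE.2 F.zE
      yE := hmemE.2 F.yE
      z1E := hmemE.2 F.z1E
      z2E := hmemE.2 F.z2E
      uE := hmemE.2 F.uE
      pE := hmemE.2 F.pE
      aE := hmemE.2 F.aE
      bE := hmemE.2 F.bE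
      cE := hmemE.2 F.cE
      dE := hmemE.2 F.dE
      zc := ?_
      centT := ?_
      z_ne := fun h => F.z_ne (Subtype.ext h)
      y_ne := fun h => F.y_ne (Subtype.ext h)
      v_ne := fun h => F.v_ne (Subtype.ext h)
      cls := ?_
      nzy := fun h => F.not_zy (of_cj h)
      c16 := ?_
      c14 := ?_
      v_eq := congrArg Subtype.val F.v_eq
      z1A := cj_of F.z1A
      z2A := cj_of F.z2A
      cv := by rw [card_ct]; exact F.cardv
      only_v := ?_
      zy := cj_of F.zy
      zp := cj_of F.zp
      zyp := cj_of F.zyp
      p_ne := fun h => F.p_ne (Subtype.ext h)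
      cy := by rw [card_ct]; exact F.cardy
      cyp := by rw [card_ct2]; exact F.cardyp
      only_yp := ?_
      uA := cj_of F.uA
      u_comm := ?_
      uxy := ?_
      aA := cj_of F.aA
      bA := cj_of F.bA
      cA := cj_of F.cA
      dA := cj_of F.dA
      abcdA := cj_of F.abcdA
      nab := fun h => nab (Subtype.ext h)
      nac := fun h => nac (Subtype.ext h)
      ncd := fun h => ncd (Subtype.ext h) }
  · rintro _ ⟨x, -, rfl⟩
    exact x.2
  · rw [Subgroup.card_map_of_injective (Subgroup.subtype_injective _)]
    exact F.cardT
  · rintro _ ⟨x, hx, rfl⟩ _ ⟨w, hw, rfl⟩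
    exact congrArg Subtype.val (F.E_comm x hx w hw)
  · rintro _ ⟨x, hx, rfl⟩
    exact congrArg Subtype.val (F.E_sq x hx)
  · rintro _ ⟨x, hx, rfl⟩
    exact congrArg Subtype.val (F.z_comm x hx)
  · rintro _ ⟨x, hx, rfl⟩ hs
    rcases F.center_T x hx (fun s h => Subtype.ext (hs s (hmemT.2 h))) with h | h
    · left; exact congrArg Subtype.val h
    · right; exact congrArg Subtype.val h
  · intro x hx hxx hx1
    rcases F.classes ⟨x, hx⟩ (Subtype.ext hxx) (fun h => hx1 (congrArg Subtype.val h)) with h | h | h
    · left; exact cj_of h
    · right; left; exact cj_of h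
    · right; right; exact cj_of h
  · rintro _ ⟨x, hx, rfl⟩ h hne
    show Nat.card (ct (T.map H.subtype) (x : G)) ≤ _
    rw [card_ct]
    exact F.cent_le x hx (of_cj h) (fun h => hne (congrArg Subtype.val h))
  · rintro _ ⟨x, hx, rfl⟩ h hv
    show Nat.card (ct (T.map H.subtype) (x : G)) ≤ _
    rw [card_ct]
    exact F.cent_le_of_C x hx (of_cj h) (of_cj (w := z * x) hv)
  · rintro _ ⟨x, hx, rfl⟩ hc h1 h2
    rcases F.only_v x (mem_cent.2 ⟨hx, Subtype.ext hc.symm⟩) (of_cj h1) (of_cj (w := x * v) h2) with h | h
    · left; exact congrArg Subtype.val h
    · right; exact congrArg Subtype.val h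
  · rintro _ ⟨x, hx, rfl⟩ hc hc' h1 h2 h3 h4
    exact congrArg Subtype.val (F.only_yp x (mem_cent2.2 ⟨hx, Subtype.ext hc.symm, Subtype.ext hc'.symm⟩)
      (of_cj h1) (of_cj (w := x * y) h2) (of_cj (w := x * p) h3) (of_cj (w := x * (y * p)) h4))
  · rintro _ ⟨x, hx, rfl⟩ hc
    rcases F.u_comm x (mem_cent.2 ⟨hx, Subtype.ext hc.symm⟩) with h | h
    · left; exact congrArg Subtype.val h
    · right; exact congrArg Subtype.val h
  · rintro _ ⟨x, hx, rfl⟩ hc h1 h2
    rcases F.uxy x (mem_cent.2 ⟨hx, Subtype.ext hc.symm⟩) (of_cj h1) (of_cj (w := x * y) h2) with h | ⟨h, h3, h4⟩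
    · left; exact cj_of h
    · right
      exact ⟨h, h.2, congrArg Subtype.val h3, congrArg Subtype.val h4⟩

/-- **The closing theorem.** -/
theorem eq_top [Finite G] {T E : Subgroup H} {z y v z1 z2 u p a b c d : H}
    (F : CloseFacts H T E z y v z1 z2 u p a b c d) (nab : a ≠ b) (nac : a ≠ c) (ncd : c ≠ d)
    (hC : ∀ g : G, g * z = z * g → g ∈ H)
    (hF : ∀ (g : G) (hg : g * z * g⁻¹ ∈ H), IsConj z ⟨g * z * g⁻¹, hg⟩) : H = ⊤ := by
  have hz : Good H (z : G) := by
    intro g hg
    obtain ⟨k, hk⟩ := isConj_iff.1 (hF g hg)
    have hk' : (k : G) * z * (k : G)⁻¹ = g * z * g⁻¹ := congrArg Subtype.val hk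
    have h1 : (k : G)⁻¹ * g ∈ H := by
      apply hC
      have h2 : (k : G)⁻¹ * (g * z * g⁻¹) * k = z := by rw [← hk']; group
      calc (k : G)⁻¹ * g * z = ((k : G)⁻¹ * (g * z * g⁻¹) * k) * ((k : G)⁻¹ * g) := by group
        _ = z * ((k : G)⁻¹ * g) := by rw [h2]
    have h3 := H.mul_mem k.2 h1
    rwa [mul_inv_cancel_left] at h3
  refine CloseAbs.eq_top (gf F nab nac ncd) hz ?_
  intro h
  obtain ⟨g, hg⟩ := isConj_iff.1 h
  have hgH : g * z * g⁻¹ ∈ H := by rw [hg]; exact y.2
  apply F.not_zy
  have h1 := hF g hgH
  have h2 : (⟨g * z * g⁻¹, hgH⟩ : H) = y := Subtype.ext hg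
  rwa [h2] at h1

end Cfsg.Agent.Co2Type.Closing
end

-- part: Co2Type/Transport
section
/-!
# Transport of `CloseFacts` along an isomorphism
-/

set_option autoImplicit false

namespace Cfsg.Agent.Co2Type.Transport

open Cfsg.Agent.Co2Type.Facts

variable {K H : Type*} [Group K] [Group H] (f : K ≃* H)

theorem isConj_map {x w : K} : IsConj (f x) (f w) ↔ IsConj x w := by
  constructor
  · intro h
    obtain ⟨k, hk⟩ := isConj_iff.1 h
    refine isConj_iff.2 ⟨f.symm k, ?_⟩
    apply f.injective
    rw [map_mul, map_mul, map_inv, f.apply_symm_apply, hk]
  · intro h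
    obtain ⟨k, hk⟩ := isConj_iff.1 h
    exact isConj_iff.2 ⟨f k, by rw [← hk, map_mul, map_mul, map_inv]⟩

theorem mem_map {T : Subgroup K} {x : K} : f x ∈ T.map f.toMonoidHom ↔ x ∈ T := by
  constructor
  · rintro ⟨w, hw, he⟩
    have : w = x := f.injective he
    rw [← this]; exact hw
  · intro h
    exact ⟨x, h, rfl⟩

theorem card_map (T : Subgroup K) : Nat.card (T.map f.toMonoidHom) = Nat.card T :=
  Subgroup.card_map_of_injective f.injective

theorem comm_map {x w : K} : f x * f w = f w * f x ↔ x * w = w * x := by
  rw [← map_mul, ← map_mul]
  exact f.injective.eq_iff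

theorem map_cent {T : Subgroup K} {x : K} : cent (T.map f.toMonoidHom) (f x) = (cent T x).map f.toMonoidHom := by
  ext g
  obtain ⟨g, rfl⟩ := f.surjective g
  rw [mem_cent, mem_map, mem_map, mem_cent, comm_map]

theorem map_cent2 {T : Subgroup K} {x w : K} :
    cent2 (T.map f.toMonoidHom) (f x) (f w) = (cent2 T x w).map f.toMonoidHom := by
  ext g
  obtain ⟨g, rfl⟩ := f.surjective g
  rw [mem_cent2, mem_map, mem_map, mem_cent2, comm_map, comm_map]

theorem ne_one {x : K} (h : x ≠ 1) : f x ≠ 1 := fun h1 => h ((map_eq_one_iff f f.injective).1 h1)

/-- the transport -/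
theorem closeFacts {T E : Subgroup K} {z y v z1 z2 u p a b c d : K} (F : CloseFacts K T E z y v z1 z2 u p a b c d) :
    CloseFacts H (T.map f.toMonoidHom) (E.map f.toMonoidHom) (f z) (f y) (f v) (f z1) (f z2) (f u) (f p) (f a) (f b)
      (f c) (f d) := by
  have hsurj : ∀ {P : H → Prop}, (∀ x : K, P (f x)) → ∀ x : H, P x := by
    intro P h x
    obtain ⟨w, rfl⟩ := f.surjective x
    exact h w
  have hm : ∀ x w : K, f x * f w = f (x * w) := fun x w => (map_mul f x w).symm
  have hi : ∀ x : K, (f x)⁻¹ = f x⁻¹ := fun x => (map_inv f x).symm
  have hT : ∀ x : K, f x ∈ T.map f.toMonoidHom ↔ x ∈ T := fun x => mem_map f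
  have hE : ∀ x : K, f x ∈ E.map f.toMonoidHom ↔ x ∈ E := fun x => mem_map f
  have hc : ∀ x w : K, IsConj (f x) (f w) ↔ IsConj x w := fun x w => isConj_map f
  have he : ∀ x w : K, f x = f w ↔ x = w := fun x w => f.injective.eq_iff
  have h1 : ∀ x : K, f x = 1 ↔ x = 1 := fun x => map_eq_one_iff f f.injective
  have hct : ∀ g x : K, f g ∈ cent (T.map f.toMonoidHom) (f x) ↔ g ∈ cent T x := by
    intro g x
    rw [map_cent, mem_map]
  have hct2 : ∀ g x w : K, f g ∈ cent2 (T.map f.toMonoidHom) (f x) (f w) ↔ g ∈ cent2 T x w := by
    intro g x w
    rw [map_cent2, mem_map]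
  refine
    { cardT := by rw [card_map]; exact F.cardT
      odd_index := ?_
      E_le := Subgroup.map_mono F.E_le
      E_normal := ?_
      E_comm := ?_
      E_sq := ?_
      cardE := by rw [card_map]; exact F.cardE
      zE := (hE _).2 F.zE
      yE := (hE _).2 F.yE
      vE := (hE _).2 F.vE
      z1E := (hE _).2 F.z1E
      z2E := (hE _).2 F.z2E
      uE := (hE _).2 F.uE
      pE := (hE _).2 F.pE
      aE := (hE _).2 F.aE
      bE := (hE _).2 F.bE
      cE := (hE _).2 F.cE
      dE := (hE _).2 F.dE
      z_comm := ?_
      center_T := ?_
      z_ne := ne_one f F.z_ne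
      y_ne := ne_one f F.y_ne
      v_ne := ne_one f F.v_ne
      classes := ?_
      not_zy := by rw [hc]; exact F.not_zy
      not_zv := by rw [hc]; exact F.not_zv
      not_yv := by rw [hc]; exact F.not_yv
      cent_le := ?_
      cent_le_of_C := ?_
      v_eq := by rw [hm, F.v_eq]
      z1A := (hc _ _).2 F.z1A
      z2A := (hc _ _).2 F.z2A
      cardv := by rw [map_cent, card_map]; exact F.cardv
      only_v := ?_
      zy := by rw [hm, hc]; exact F.zy
      zp := by rw [hm, hc]; exact F.zp
      zyp := by rw [hm, hm, hc]; exact F.zyp
      p_ne := ne_one f F.p_ne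
      pB := (hc _ _).2 F.pB
      ypB := by rw [hm, hc]; exact F.ypB
      cardy := by rw [map_cent, card_map]; exact F.cardy
      cardyp := by rw [map_cent2, card_map]; exact F.cardyp
      only_yp := ?_
      uA := (hc _ _).2 F.uA
      uyA := by rw [hm, hc]; exact F.uyA
      u_comm := ?_
      uxy := ?_
      aA := (hc _ _).2 F.aA
      bA := (hc _ _).2 F.bA
      cA := (hc _ _).2 F.cA
      dA := (hc _ _).2 F.dA
      abcdA := by rw [hm, hm, hm, hc]; exact F.abcdA }
  · have : (T.map f.toMonoidHom).index = T.index := Subgroup.index_map_equiv T f
    rw [this]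
    exact F.odd_index
  · refine hsurj fun x hx => hsurj fun w hw => ?_
    rw [hi, hm, hm, hE]
    exact F.E_normal x ((hT x).1 hx) w ((hE w).1 hw)
  · refine hsurj fun x hx => hsurj fun w hw => ?_
    rw [hm, hm, F.E_comm x ((hE x).1 hx) w ((hE w).1 hw)]
  · refine hsurj fun x hx => ?_
    rw [hm, h1]
    exact F.E_sq x ((hE x).1 hx)
  · refine hsurj fun x hx => ?_
    rw [hm, hm, F.z_comm x ((hT x).1 hx)]
  · refine hsurj fun x hx hs => ?_
    rw [h1, he]
    exact F.center_T x ((hT x).1 hx) fun s h => (comm_map f).1 (hs (f s) ((hT s).2 h))
  · refine hsurj fun x hx hx1 => ?_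
    rw [hc, hc, hc]
    exact F.classes x (by rwa [hm, h1] at hx) (fun h => hx1 ((h1 x).2 h))
  · refine hsurj fun x hx h hne => ?_
    rw [map_cent, card_map]
    exact F.cent_le x ((hT x).1 hx) ((hc _ _).1 h) (fun h => hne (by rw [h]))
  · refine hsurj fun x hx h hv => ?_
    rw [map_cent, card_map]
    rw [hm, hc] at hv
    exact F.cent_le_of_C x ((hT x).1 hx) ((hc _ _).1 h) hv
  · refine hsurj fun x hx h hv => ?_
    rw [hm, hc] at hv
    rw [he, he]
    exact F.only_v x ((hct _ _).1 hx) ((hc _ _).1 h) hv
  · refine hsurj fun x hx h2 h3 h4 h5 => ?_
    rw [hm, hc] at h3 h4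
    rw [hm, hm, hc] at h5
    rw [he]
    exact F.only_yp x ((hct2 _ _ _).1 hx) ((hc _ _).1 h2) h3 h4 h5
  · refine hsurj fun x hx => ?_
    rw [hi, hm, hm, hm, he, he]
    exact F.u_comm x ((hct _ _).1 hx)
  · refine hsurj fun x hx h2 h3 => ?_
    rw [hm, hc] at h3
    rw [hm, hm, hc]
    rcases F.uxy x ((hct _ _).1 hx) ((hc _ _).1 h2) h3 with h | ⟨h, h4, h5⟩
    · left; exact h
    · right
      exact ⟨f h, by rw [hi, hm, hm, h4], by rw [hi, hm, hm, h5]⟩

end Cfsg.Agent.Co2Type.Transport
end

-- part: Co2Type/Final
section
/-!
# The last step of the recognition of `Co₂`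

`H ≤ G` isomorphic to `Co₂`, containing `C_G(t)`, with the known fusion of `t` in `C_G(t)`: then `H = G`.
-/

set_option autoImplicit false

namespace Cfsg.Agent.Co2Type.Final

open Cfsg Cfsg.Agent.Co2Type.Mono Cfsg.Agent.Co2Type.TData Cfsg.Agent.Co2Type.TGroup Cfsg.Agent.Co2Type.Facts Cfsg.Agent.Co2Type.FactsD
  Cfsg.Agent.Co2Type.FactsCo2

theorem eq_top {G : Type*} [Group G] [Finite G] {t : G} (tt : t * t = 1) (t1 : t ≠ 1) {H : Subgroup G}
    (e : H ≃* Spor.Co2) (hC : ∀ g : G, g * t = t * g → g ∈ H)
    (D0 r : Subgroup.centralizer ({t} : Set G))
    (hF : ∀ x : Subgroup.centralizer ({t} : Set G), IsConj t (x : G) →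
      (x : G) = t ∨ IsConj D0 x ∨ IsConj r x)
    (ht : ∀ h : t ∈ H, tr (e ⟨t, h⟩) = -8) (hD : ∀ h : (D0 : G) ∈ H, tr (e ⟨D0, h⟩) = -8)
    (hr : ∀ h : (r : G) ∈ H, tr (e ⟨r, h⟩) = -8) : H = ⊤ := by
  have htH : t ∈ H := hC t rfl
  have hCH : ∀ x : Subgroup.centralizer ({t} : Set G), (x : G) ∈ H := fun x =>
    hC x (Subgroup.mem_centralizer_singleton_iff.1 x.2)
  have hett : e ⟨t, htH⟩ * e ⟨t, htH⟩ = 1 := by
    rw [← map_mul, ← map_one e]
    exact congrArg e (Subtype.ext tt)
  obtain ⟨k, hk⟩ := isConj_iff.1 ((tr_eq_iff hett).2 (ht htH))
  let f : Spor.Co2 ≃* H := (MulAut.conj k).trans e.symm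
  have hfz : f (ge mz) = ⟨t, htH⟩ := by
    show e.symm (k * ge mz * k⁻¹) = _
    rw [hk, e.symm_apply_apply]
  have hfs : ∀ x : H, tr (f.symm x) = tr (e x) := by
    intro x
    obtain ⟨w, rfl⟩ := f.surjective x
    rw [f.symm_apply_apply]
    show tr w = tr (e (e.symm (k * w * k⁻¹)))
    rw [e.apply_symm_apply, tr_conj]
  have F := Transport.closeFacts f facts
  have hne : ∀ {x w : Spor.Co2}, x ≠ w → f x ≠ f w := fun h h1 => h (f.injective h1)
  refine Closing.eq_top F (hne ab_ne) (hne ac_ne) (hne cd_ne) ?_ ?_
  · intro g hg
    rw [hfz] at hg
    exact hC g hg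
  · intro g
    rw [hfz]
    intro hg
    set x : H := ⟨g * t * g⁻¹, hg⟩ with hx
    have hxx : x * x = 1 := by
      apply Subtype.ext
      show g * t * g⁻¹ * (g * t * g⁻¹) = 1
      calc g * t * g⁻¹ * (g * t * g⁻¹) = g * (t * t) * g⁻¹ := by group
        _ = 1 := by rw [tt]; group
    have hx1 : x ≠ 1 := by
      intro h
      have h1 : g * t * g⁻¹ = 1 := congrArg Subtype.val h
      apply t1
      calc t = g⁻¹ * (g * t * g⁻¹) * g := by group
        _ = 1 := by rw [h1]; group
    have hfx : f.symm x * f.symm x = 1 := by rw [← map_mul, hxx, map_one]
    have hfx1 : f.symm x ≠ 1 := fun h => hx1 ((map_eq_one_iff f.symm f.symm.injective).1 h)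
    have htx : IsConj t (x : G) := isConj_iff.2 ⟨g, rfl⟩
    -- conjugates of `y`, `v` are excluded
    have key : ∀ w : Spor.Co2, ge mz * w = w * ge mz → IsConj w (f.symm x) → tr w = -8 := by
      intro w hw hwx
      have h1 : IsConj (f w) x := by
        have := (Transport.isConj_map f).2 hwx
        rwa [f.apply_symm_apply] at this
      have h2 : IsConj t ((f w : H) : G) := by
        obtain ⟨c, hc⟩ := isConj_iff.1 h1
        have hc' : (c : G) * (f w : G) * (c : G)⁻¹ = x := congrArg Subtype.val hc
        have h7 : IsConj ((f w : H) : G) (x : G) := isConj_iff.2 ⟨c, hc'⟩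
        exact htx.trans h7.symm
      have h3 : (f w : G) * t = t * (f w : G) := by
        have h4 : f (ge mz) * f w = f w * f (ge mz) := by rw [← map_mul, ← map_mul, hw]
        rw [hfz] at h4
        exact (congrArg Subtype.val h4).symm
      have hlift : ∀ D : Subgroup.centralizer ({t} : Set G),
          IsConj D ⟨f w, Subgroup.mem_centralizer_singleton_iff.2 h3⟩ →
          (∀ h : (D : G) ∈ H, tr (e ⟨D, h⟩) = -8) → tr w = -8 := by
        intro D hD hDt
        obtain ⟨c, hc⟩ := isConj_iff.1 hD
        have hc' : (c : G) * (D : G) * (c : G)⁻¹ = f w := congrArg Subtype.val hc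
        have h5 : (⟨c, hCH c⟩ : H) * ⟨D, hCH D⟩ * (⟨c, hCH c⟩ : H)⁻¹ = f w := Subtype.ext hc'
        have h6 : tr w = tr (e (f w)) := by rw [← hfs, f.symm_apply_apply]
        rw [h6, ← h5, map_mul, map_mul, map_inv, tr_conj]
        exact hDt _
      rcases hF ⟨f w, Subgroup.mem_centralizer_singleton_iff.2 h3⟩ h2 with h | h | h
      · have h4 : f w = ⟨t, htH⟩ := Subtype.ext h
        rw [← f.symm_apply_apply w, hfs, h4]
        exact ht htH
      · exact hlift D0 h hD
      · exact hlift r h hr
    have hzE : ge mz ∈ E := facts.zE
    rcases tr_cases hfx hfx1 with h | h | h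
    · have h1 := (Transport.isConj_map f).2 ((tr_eq_iff hfx).2 h)
      rw [hfz, f.apply_symm_apply] at h1
      exact h1
    · exfalso
      have h1 := key (ge my) (E_comm _ hzE _ facts.yE) ((tr_eq_iff_B hfx).2 h)
      rw [FactsD.tr_y] at h1
      norm_num at h1
    · exfalso
      have h1 := key (ge mv) (E_comm _ hzE _ facts.vE) ((tr_eq_iff_C hfx).2 h)
      rw [FactsD.tr_v] at h1
      norm_num at h1

/-- the isomorphism -/
theorem iso {G : Type*} [Group G] [Finite G] {t : G} (tt : t * t = 1) (t1 : t ≠ 1) {H : Subgroup G}
    (e : H ≃* Spor.Co2) (hC : ∀ g : G, g * t = t * g → g ∈ H)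
    (D0 r : Subgroup.centralizer ({t} : Set G))
    (hF : ∀ x : Subgroup.centralizer ({t} : Set G), IsConj t (x : G) →
      (x : G) = t ∨ IsConj D0 x ∨ IsConj r x)
    (ht : ∀ h : t ∈ H, tr (e ⟨t, h⟩) = -8) (hD : ∀ h : (D0 : G) ∈ H, tr (e ⟨D0, h⟩) = -8)
    (hr : ∀ h : (r : G) ∈ H, tr (e ⟨r, h⟩) = -8) : Spor.IsoCo2 G := by
  have h := eq_top tt t1 e hC D0 r hF ht hD hr
  exact ⟨Subgroup.topEquiv.symm.trans ((MulEquiv.subgroupCongr h.symm).trans e)⟩

end Cfsg.Agent.Co2Type.Final
end

-- part: Co2Type/Assemble
section
/-!
# Assembly of the recognition of `Co₂`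

From the local structure and an embedding of `Co₂` with the given values on the generators.
-/

set_option autoImplicit false

namespace Cfsg.Agent.Co2Type.Assemble

open Cfsg Cfsg.Agent.Co2Type.Mono Cfsg.Agent.Co2Type.LocalMain Cfsg.Agent.Co2Type.PresDef Cfsg.Agent.Co2Type.Facts
  Cfsg.Agent.Co2Type.FactsD Cfsg.Agent.Co2Type.FactsCo2

theorem pg_of_loc {G : Type*} [Group G] {t a b c d e f g h : G} (L : Loc t a b c d e f g h) :
    PG a b c d e f g h t :=
  PG.of_P1 L.p1 L.p2.hh L.p2.ha L.p2.hb L.p2.hc L.p2.hd L.p2.he L.p2.hf L.p2.hi L.p2.hg L.p2.r

theorem iso_of_loc {G : Type*} [Group G] [Finite G] {t a b c d e f g h : G} (L : Loc t a b c d e f g h)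
    (φ : Spor.Co2 →* G) (hφ : Function.Injective φ) {A B C D E F K I : Spor.Co2}
    (hA : φ A = a) (hB : φ B = b) (hC : φ C = c) (hD : φ D = d) (hE : φ E = e) (hF : φ F = f) (hK : φ K = g)
    (hI : φ I = t) (trI : tr I = -8) (trA : tr A = -8) (trR : tr (I * (E * K * B)) = -8) :
    Spor.IsoCo2 G := by
  have hr : ∀ x : Spor.Co2, φ x ∈ φ.range := fun x => ⟨x, rfl⟩
  have P := pg_of_loc L
  let ψ : φ.range ≃* Spor.Co2 := (MonoidHom.ofInjective hφ).symm
  have hψ : ∀ (x : Spor.Co2) (y : G), φ x = y → ∀ hy : y ∈ φ.range, ψ ⟨y, hy⟩ = x := by
    intro x y hxy hy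
    apply (MonoidHom.ofInjective hφ).injective
    show (MonoidHom.ofInjective hφ) ((MonoidHom.ofInjective hφ).symm ⟨y, hy⟩) = _
    rw [MulEquiv.apply_symm_apply]
    exact Subtype.ext hxy.symm
  have ct : t * t = t * t := rfl
  have ca : a * t = t * a := P.ai
  have cr : t * (e * g * b) * t = t * (t * (e * g * b)) := by
    have h1 : e * g * b * t = t * (e * g * b) := by
      calc e * g * b * t = e * g * (b * t) := by group
        _ = e * g * (t * b) := by rw [P.bi]
        _ = e * (g * t) * b := by group
        _ = e * (t * g) * b := by rw [P.gi]
        _ = (e * t) * g * b := by group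
        _ = (t * e) * g * b := by rw [P.ei]
        _ = t * (e * g * b) := by group
    rw [mul_assoc, h1]
  refine Final.iso L.tt L.t1 ψ ?_ ⟨a, Subgroup.mem_centralizer_singleton_iff.2 ca⟩
    ⟨t * (e * g * b), Subgroup.mem_centralizer_singleton_iff.2 cr⟩ ?_ ?_ ?_ ?_
  · intro x hx
    refine (Subgroup.closure_le φ.range).2 ?_ (L.gen x hx)
    intro y hy
    simp only [Set.mem_insert_iff, Set.mem_singleton_iff] at hy
    rcases hy with rfl | rfl | rfl | rfl | rfl | rfl | rfl | rfl
    · exact ⟨A, hA⟩
    · exact ⟨B, hB⟩
    · exact ⟨C, hC⟩
    · exact ⟨D, hD⟩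
    · exact ⟨E, hE⟩
    · exact ⟨F, hF⟩
    · exact ⟨K, hK⟩
    · exact ⟨I, hI⟩
  · intro x hx
    rcases L.fus x (Subgroup.mem_centralizer_singleton_iff.1 x.2) hx with h1 | ⟨k, hk, h1⟩ | ⟨k, hk, h1⟩
    · left; exact h1
    · right; left
      exact isConj_iff.2 ⟨⟨k, Subgroup.mem_centralizer_singleton_iff.2 hk⟩, Subtype.ext h1⟩
    · right; right
      exact isConj_iff.2 ⟨⟨k, Subgroup.mem_centralizer_singleton_iff.2 hk⟩, Subtype.ext h1⟩
  · intro h1
    rw [hψ I t hI h1]; exact trI
  · intro h1
    rw [hψ A a hA h1]; exact trA
  · intro h1
    rw [hψ (I * (E * K * B)) (t * (e * g * b)) (by rw [map_mul, map_mul, map_mul, hI, hE, hK, hB]) h1]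
    exact trR

end Cfsg.Agent.Co2Type.Assemble
end

-- part: Co2Type/IsoFib
section
/-!
# Identification by a fibre product

If every group generated by elements with the relations `PG` has order at most `n`, and `K` is a simple group of order
`n` generated by such elements, then every group generated by such elements with `i ≠ 1` is isomorphic to `K` with
matching generators.
-/

set_option autoImplicit false

namespace Cfsg.Agent.Co2Type.IsoFib

open Cfsg.Agent.Co2Type.PresDef

universe u v

theorem pg_prod {G K : Type*} [Group G] [Group K] {a b c d e f g h i : G} {a' b' c' d' e' f' g' h' i' : K}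
    (P : PG a b c d e f g h i) (P' : PG a' b' c' d' e' f' g' h' i') :
    PG (a, a') (b, b') (c, c') (d, d') (e, e') (f, f') (g, g') (h, h') (i, i') where
  aa := Prod.ext P.aa P'.aa
  bb := Prod.ext P.bb P'.bb
  cc := Prod.ext P.cc P'.cc
  dd := Prod.ext P.dd P'.dd
  ee := Prod.ext P.ee P'.ee
  ff := Prod.ext P.ff P'.ff
  gg := Prod.ext P.gg P'.gg
  ii := Prod.ext P.ii P'.ii
  ab := Prod.ext P.ab P'.ab
  ad := Prod.ext P.ad P'.ad
  ae := Prod.ext P.ae P'.ae
  af := Prod.ext P.af P'.af
  ag := Prod.ext P.ag P'.ag
  ai := Prod.ext P.ai P'.ai
  bc := Prod.ext P.bc P'.bc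
  be := Prod.ext P.be P'.be
  bf := Prod.ext P.bf P'.bf
  bg := Prod.ext P.bg P'.bg
  bi := Prod.ext P.bi P'.bi
  ce := Prod.ext P.ce P'.ce
  cf := Prod.ext P.cf P'.cf
  cg := Prod.ext P.cg P'.cg
  ci := Prod.ext P.ci P'.ci
  df := Prod.ext P.df P'.df
  di := Prod.ext P.di P'.di
  eg := Prod.ext P.eg P'.eg
  ei := Prod.ext P.ei P'.ei
  fi := Prod.ext P.fi P'.fi
  gi := Prod.ext P.gi P'.gi
  ac := Prod.ext P.ac P'.ac
  cd := Prod.ext P.cd P'.cd
  db := Prod.ext P.db P'.db
  de := Prod.ext P.de P'.de
  ef := Prod.ext P.ef P'.ef
  fg := Prod.ext P.fg P'.fg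
  dg := Prod.ext P.dg P'.dg
  r1 := Prod.ext P.r1 P'.r1
  r2 := Prod.ext P.r2 P'.r2
  r3 := Prod.ext P.r3 P'.r3
  r4 := Prod.ext P.r4 P'.r4
  hh := Prod.ext P.hh P'.hh
  ah := Prod.ext P.ah P'.ah
  bh := Prod.ext P.bh P'.bh
  ch := Prod.ext P.ch P'.ch
  dh := Prod.ext P.dh P'.dh
  eh := Prod.ext P.eh P'.eh
  fh := Prod.ext P.fh P'.fh
  hi := Prod.ext P.hi P'.hi
  gh := Prod.ext P.gh P'.gh
  r5 := Prod.ext P.r5 P'.r5

/-- **Abstract fibre product argument.** `S` a set of pairs of generators. -/
theorem exists_iso_pairs {n : ℕ} (hn : n ≠ 0) {G : Type u} [Group G] {K : Type v} [Group K] [IsSimpleGroup K]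
    (S : Set (G × K)) (hgen : Subgroup.closure (Prod.snd '' S) = ⊤) (hK : Nat.card K = n)
    (hfin : Finite (Subgroup.closure S)) (hle : Nat.card (Subgroup.closure S) ≤ n)
    (hne : ∃ x ∈ S, x.1 ≠ 1) :
    ∃ e : Subgroup.closure (Prod.fst '' S) ≃* K,
      ∀ x ∈ S, ∀ hx : x.1 ∈ Subgroup.closure (Prod.fst '' S), e ⟨x.1, hx⟩ = x.2 := by
  set F := Subgroup.closure S with hF
  have fK : Finite K := Nat.finite_of_card_ne_zero (by rw [hK]; exact hn)
  have m2 : F.map (MonoidHom.snd G K) = ⊤ := by
    rw [hF, MonoidHom.map_closure]
    exact hgen
  have m1 : F.map (MonoidHom.fst G K) = Subgroup.closure (Prod.fst '' S) := by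
    rw [hF, MonoidHom.map_closure]
    rfl
  set p2 : F →* K := (MonoidHom.snd G K).comp F.subtype with hp2
  have s2 : Function.Surjective p2 := by
    intro y
    have hy : y ∈ F.map (MonoidHom.snd G K) := by rw [m2]; exact Subgroup.mem_top _
    obtain ⟨x, hx, rfl⟩ := hy
    exact ⟨⟨x, hx⟩, rfl⟩
  have c2 : Nat.card F = Nat.card K :=
    le_antisymm (by rw [hK]; exact hle) (Nat.card_le_card_of_surjective p2 s2)
  have b2 : Function.Bijective p2 := (Nat.bijective_iff_surjective_and_card p2).2 ⟨s2, c2⟩
  let e2 : F ≃* K := MulEquiv.ofBijective p2 b2
  have hFs : IsSimpleGroup F := e2.isSimpleGroup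
  have hmem : ∀ y : F, (y : G × K).1 ∈ Subgroup.closure (Prod.fst '' S) := by
    intro y
    rw [← m1]
    exact ⟨y.1, y.2, rfl⟩
  set p1 : F →* Subgroup.closure (Prod.fst '' S) :=
    ((MonoidHom.fst G K).comp F.subtype).codRestrict (Subgroup.closure (Prod.fst '' S)) hmem with hp1
  have s1 : Function.Surjective p1 := by
    rintro ⟨y, hy⟩
    have h1 := hy
    rw [← m1] at h1
    obtain ⟨x, hx, rfl⟩ := h1
    exact ⟨⟨x, hx⟩, rfl⟩
  have i1 : Function.Injective p1 := by
    rw [← MonoidHom.ker_eq_bot_iff]
    rcases (inferInstance : p1.ker.Normal).eq_bot_or_eq_top with h | h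
    · exact h
    · exfalso
      obtain ⟨x, hx, hx1⟩ := hne
      apply hx1
      have h1 : (⟨x, Subgroup.subset_closure hx⟩ : F) ∈ p1.ker := by rw [h]; exact Subgroup.mem_top _
      exact congrArg Subtype.val ((MonoidHom.mem_ker).1 h1)
  let e1 : F ≃* Subgroup.closure (Prod.fst '' S) := MulEquiv.ofBijective p1 ⟨i1, s1⟩
  refine ⟨e1.symm.trans e2, fun x hx hx1 => ?_⟩
  have k1 : e1.symm ⟨x.1, hx1⟩ = ⟨x, Subgroup.subset_closure hx⟩ := by
    rw [MulEquiv.symm_apply_eq]; rfl
  rw [MulEquiv.trans_apply, k1]
  rfl

/-- **Identification of the group with the relations `PG`.** -/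
theorem exists_iso {n : ℕ} (hn : n ≠ 0)
    (bound : ∀ (X : Type (max u v)) [Group X] (a b c d e f g h i : X), PG a b c d e f g h i →
      Finite (Subgroup.closure ({a, b, c, d, e, f, g, h, i} : Set X)) ∧
        Nat.card (Subgroup.closure ({a, b, c, d, e, f, g, h, i} : Set X)) ≤ n)
    {G : Type u} [Group G] {a b c d e f g h i : G} (P : PG a b c d e f g h i) (hi : i ≠ 1)
    {K : Type v} [Group K] [IsSimpleGroup K] {a' b' c' d' e' f' g' h' i' : K} (P' : PG a' b' c' d' e' f' g' h' i')
    (hgen : Subgroup.closure ({a', b', c', d', e', f', g', h', i'} : Set K) = ⊤) (hK : Nat.card K = n) :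
    ∃ E : Subgroup.closure ({a, b, c, d, e, f, g, h, i} : Set G) ≃* K,
      (∀ hx, E ⟨a, hx⟩ = a') ∧ (∀ hx, E ⟨b, hx⟩ = b') ∧ (∀ hx, E ⟨c, hx⟩ = c') ∧ (∀ hx, E ⟨d, hx⟩ = d') ∧
      (∀ hx, E ⟨e, hx⟩ = e') ∧ (∀ hx, E ⟨f, hx⟩ = f') ∧ (∀ hx, E ⟨g, hx⟩ = g') ∧ (∀ hx, E ⟨h, hx⟩ = h') ∧
      (∀ hx, E ⟨i, hx⟩ = i') := by
  obtain ⟨fF, cF⟩ := bound (G × K) _ _ _ _ _ _ _ _ _ (pg_prod P P')
  have e1 : Prod.fst '' ({(a, a'), (b, b'), (c, c'), (d, d'), (e, e'), (f, f'), (g, g'), (h, h'), (i, i')} :
      Set (G × K)) = {a, b, c, d, e, f, g, h, i} := by
    simp only [Set.image_insert_eq, Set.image_singleton]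
  have e2 : Prod.snd '' ({(a, a'), (b, b'), (c, c'), (d, d'), (e, e'), (f, f'), (g, g'), (h, h'), (i, i')} :
      Set (G × K)) = {a', b', c', d', e', f', g', h', i'} := by
    simp only [Set.image_insert_eq, Set.image_singleton]
  have key := exists_iso_pairs hn
    ({(a, a'), (b, b'), (c, c'), (d, d'), (e, e'), (f, f'), (g, g'), (h, h'), (i, i')} : Set (G × K))
    (by rw [e2]; exact hgen) hK fF cF ⟨(i, i'), by simp only [_root_.Set.mem_insert_iff, _root_.Prod.mk.injEq, _root_.Set.mem_singleton_iff, _root_.or_true], hi⟩
  rw [e1] at key
  obtain ⟨E, hE⟩ := key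
  exact ⟨E, hE (a, a') (by simp only [_root_.Set.mem_insert_iff, _root_.Prod.mk.injEq, _root_.Set.mem_singleton_iff, _root_.true_or]), hE (b, b') (by simp only [_root_.Set.mem_insert_iff, _root_.Prod.mk.injEq, _root_.Set.mem_singleton_iff, _root_.true_or, _root_.or_true]), hE (c, c') (by simp only [_root_.Set.mem_insert_iff, _root_.Prod.mk.injEq, _root_.Set.mem_singleton_iff, _root_.true_or, _root_.or_true]), hE (d, d') (by simp only [_root_.Set.mem_insert_iff, _root_.Prod.mk.injEq, _root_.Set.mem_singleton_iff, _root_.true_or, _root_.or_true]),
    hE (e, e') (by simp only [_root_.Set.mem_insert_iff, _root_.Prod.mk.injEq, _root_.Set.mem_singleton_iff, _root_.true_or, _root_.or_true]), hE (f, f') (by simp only [_root_.Set.mem_insert_iff, _root_.Prod.mk.injEq, _root_.Set.mem_singleton_iff, _root_.true_or, _root_.or_true]), hE (g, g') (by simp only [_root_.Set.mem_insert_iff, _root_.Prod.mk.injEq, _root_.Set.mem_singleton_iff, _root_.true_or, _root_.or_true]), hE (h, h') (by simp only [_root_.Set.mem_insert_iff, _root_.Prod.mk.injEq, _root_.Set.mem_singleton_iff, _root_.true_or, _root_.or_true]), hE (i,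 i') (by simp only [_root_.Set.mem_insert_iff, _root_.Prod.mk.injEq, _root_.Set.mem_singleton_iff, _root_.or_true])⟩

end Cfsg.Agent.Co2Type.IsoFib
end

-- part: Co2Type/Up9Chk33
section
set_option autoImplicit false
set_option maxRecDepth 100000

namespace Cfsg.Agent.Co2Type.Up9Chk33

open Cfsg.Agent.SporadicRecognition.CosetCert Cfsg.Agent.Co2Type.Up9Data

private theorem alC : Cfsg.Agent.SporadicRecognition.CertFast.al (Nat.succ C.lm) C.data = true := by decide +kernel

theorem c792 : _root_.Cfsg.Agent.SporadicRecognition.CosetCert.Part C 50688 50752 64 := Cfsg.Agent.SporadicRecognition.CertFast.part_fast C alC 64 (by decide +kernel : Cfsg.Agent.SporadicRecognition.CertFast.runF C 20 1048575 0x200002000020000200001000020023300002000e30000100173001c3000020000200163000020015300002001b300002001a3000020000100002000020038300002001d300002001a3002830000200001002330015300002001d300002000020000200393001630000200001000e3000020000200002000020000100002000230000200003000010000200002003230000200033000020001300002001b3004e30000200001004930016300002003830000200002000020000200323000a3003e3000020000100002000010000200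1c300002000020000200233000020027300002000020000200002000010000200233000020000200002001730000200001000430000200002001530000200002000020000200002003f30000200002000010000200002000020000200001000020000200233000020000200002000010000200002000020000200023000020000200002000020000200001000f300002000020010300002002d30000100113004f3000f300002002230000200002000020000200002003c300002000020000200001000030000200001000020000200043000020000200002000020000100002000020028300002000020000200002000020000200002000020000100043001630000200013001430000200001006c3000530000200002000830024300002000010000200002000020000200002000020000200002000020000100002000530000200002000020000200002000020000200001000020000200002004a30010300002000010000200002000020000200002000020000200002002a30000200002000020000100033000020000200002000010000200113000020000200002000020000200002002a30000200343000020000100002000020000200002000020000200002000010000200002000020000200002000020000200002000b30049300093000010000200002002a30019300002000020000100002002330000200002000020000100002000020000200002000020000200002000020000200002000010004300002000020000200002000020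000200002000b30000200002000010010300002000020000200001000020000200002000020000200063000020000100002000020000200002000020000200002000020000200001000b30000200002000020000200002000020000200001000020000200002000020000200002000010000200183000020004300002000020000200133001b300002001c300001004d300002000020015300002000020000200183003c300001000d30002300002000020000200002002b300443000f30000100023000020000200001001930000200002000a300002000020000200002000010000200002000530000200002000230000200002002a3000010000200002000a30000200002000020006300002000020000200001004d300002000020000200143000020000200002003c30000100002000830000200003000020000200002003c300002000010008300002001f3004630000200002000020004300002002330030300001002d300001001a30000200002001630000200103000e3002d300002001c3004f3000010037300d330024300273001d3001730000200002005e3000010020300313001f3000010025300002000020000200002000020000200273001b3000020000200001000430000200002001530014300001001730018300002000020000200023000020000300001000020000200053000020003300002000020000200002000020000200001004d3001630000200002000020000200001000020000200002000020000200002000020000200002000020005300002000020000200001000e30000200001000020000200002000020000200002000020000200193001a300002000430037300001000130000200002003b300002000010004300002000020000200002000020000100002003230000200002000020000200002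 40 1099511627775 0 50688 64 = 65)

theorem c793 : _root_.Cfsg.Agent.SporadicRecognition.CosetCert.Part C 50752 50816 64 := Cfsg.Agent.SporadicRecognition.CertFast.part_fast C alC 64 (by decide +kernel : Cfsg.Agent.SporadicRecognition.CertFast.runF C 20 1048575 0x20000200002000020000200163000010000200003000020000100002000020039300373002330000200473001d3006830000200002000010000200023000020000300353000010000200053000020000200023000020000200002003b30000200001005e300002000020000200143000020000100002000020000200002000230000200002000020043300002000010004300163005230001300002002d30054300002000020000200001002f30000200002000020000100002004430004300163000020010300002002d3001730000200002000020000100002003130027300002000020000200053003f300002000020000100003001b300001001c300002000020000200002001530000200002001730000100002000020000200002003830000200002000020000200001000f300002002030015300002000020000100002000020000200002003a30010300002002c30019300002000020000200002000010000200143001d300193000020000200001000020008300243001330000100002001a30028300002000020000200002004730000200173000020000100043003e30022300002001430035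3000020000200002004930000200001000020000200002000010000200002000f3000d30000200002000e3000020000200002002830000100033002130000200133002a300001000020005300002000020002300002000e3001d30000200002000010000200002002230000200143000c3004330000200002000430037300001000020013300002000010000200002000f300033002f30001300002000020000200002000010039300163000020015300002000c300002000020000200001000020000200073000020000100002000020000200002000020000200002000020000100173003430000200043000d30000200013000020000200413000020087300393000010000200313001f300002004330000200002003f3000020000200001001430000200002000020000200773002630000100002000e3001b300001000020028300002000020000200243000e300002002530000200001004d300002000020015300063000020025300002000020000100002000830000200063000020019300002004f3000a3000d3000020010300001000020000200002000020000200263000010000200002000020025300002000530000100002000020015300143002a30000100002004f3000f300033001e3000020000300002004330000200001004d300002000020000200273000020019300002003c3000020000100002000020027300002001930000200283000020026300002002430000100002003b3000020000200393000020000100002000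020000200002002e3000530000200002000010000200002000020000200001000020000200002000020000200003000020000100002004f30000200002000020010300002000020000200002003c30000200093000020000100003000010000200002000020000200002000020000200002002a30000200113003c300001000d3008030000200143002a3000020011300002000f3000010000200002000e300123001930000200002004d3000d3000020000200001000020000200001000020000200002000020000200063000010000200293000020000200002000020000200003001d3003b300002000020039300093000010000200063001b30000100002004f300002000020023300103000e3000010000200293000530000200002000230000200143001d30000200002004f30000200002002f300002000010000200002000010000200002000020000200153000020000200002000010000200002000020000200002000030000200001000020032300002000020000200103000020000100002002930000200002000020000200002000e3002a30000200002000010004300002002230000200143004630000200002000020000200002002f30001300001 40 1099511627775 0 50752 64 = 65)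

theorem c794 : _root_.Cfsg.Agent.SporadicRecognition.CosetCert.Part C 50816 50880 64 := Cfsg.Agent.SporadicRecognition.CertFast.part_fast C alC 64 (by decide +kernel : Cfsg.Agent.SporadicRecognition.CertFast.runF C 20 1048575 0x200001001c3004f300002000d30022300002000e300002000010011300002000f3000020000200002000e3001d300002002b3000010000200002002230000200143002d300002001c3003d30000100002000020000200273001b300002001a300002000020000200001003130013300002000010011300002000f3000d3000020015300002001d30000200343000010000200163002230015300002002d300002001c3004430000100263002130024300002002c300002002b3000020000200001000020031300002002c30000100002003d3000f3000020020300103000020000200001000020005300002000d30023300002000e3000020000200002003d300002000010000200002001f30000200002000020044300002000020000200002000010000200002000020000200002001630000100002000e3000010000200183000020004300002000020000200002003530000200002000010000200002000020000200002000020000100002003d3003930000200002000020000200002000020000200001000020000200002000020000200002000010000200002000020000200002000020000200002004330000200002000010000200002000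020000200001003b300183005d30004300033000020001300003002c300001001a300002000f3000020023300103000e3000010066300002000020000200002000020038300003002a300253000020000200001000d3000020000200143000020000200002000010000200002002230000200002000010000200183003230000200002000020001300002001b3003b30000200001004d300002000020015300002002d30025300002000b3000020000100002003130000200002000020011300002000f3000020000200001004730000100002000020000200002000020000200002000030000100002001a3000020004300002000020001300002002d300253002e3002830000100263002130024300002001b300001001c3003d3000f300002000020015300002001d30017300113000010000200002000020015300002001d30017300293000010000200163000020000200143002c30000200113000020042300001001e300002000e30035300002001130000200493000d3000020000200001002c3000010000200002000f300163000020015300002000020017300002000020042300001000020010300002000020000200002003c3003f3000d30000200001000e300002001730000200001004d300163000020015300002000010000200113000020000200002002130000200002000020000100002000020000200002003a30010300002000010000200113000020000200002000230000200002002a3000010000200002000f3000d300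9d300002000e300353000020000200002000a300001000020000200002001d3000020000200002000430016300002000130000100002000010000200002000f30000200002001030000200002000020000200001003f300002000020000200002000020033300002000b3000020026300002000020000100463000010000200002003930000200002000020000200002004e3000020000200002000010023300002000020000200002000020000200043000330000200001000630000200001001c3000020000200002000020000200002000020000200001002830000200002000020010300003000010019300343000020000200002000020001300002001b300002000020000100002000d3000020015300003000c3000020000200002000020000200001001030000200353000010000200002000020003300002003830000200002003b300002003230000200002000010001300002003530000100002004f3000430000200002003830000200002003330000200002000010000200002003830000200001004e300113002830000200002002f30000200002002d3001730000200001004d300033002030000200143 40 1099511627775 0 50816 64 = 65)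

theorem c795 : _root_.Cfsg.Agent.SporadicRecognition.CosetCert.Part C 50880 50944 64 := Cfsg.Agent.SporadicRecognition.CertFast.part_fast C alC 64 (by decide +kernel : Cfsg.Agent.SporadicRecognition.CertFast.runF C 20 1048575 0x1d300002002e3003230042300033000020000100133000010000200183000020000200033005a30000200003002c300002000020000100002000020008300013000020000200253006c3000b300002002630000100002000020000200001000020005300002000d3000230010300003002d300001002e3004f3000020000200023001030000200002002530000100002000020000200002002430000200002000020000200283000010000200002002430027300002000010000200002000f3000d30022300002001430000200001001130005300002000020022300002000e3000020017300001000020039300002000020000200002000010000200002000020000200002003a3000020013300463000020000200001003930000200002000020000300002000020018300443004d30000100002000020000200002001730011300002004d3003e300023000010013300001003b3001830000200043000d3000020007300002002d30017300183000020000100002002130024300273004630000100002000530000200002000020001300003000020033300002000010000200093000020015300143000020019300002000020004300093000020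0001000e3000020000200002000010000200002000020000200143001d300001001c3004f300002001630023300013001430000100002002e3003d300002000020002300013002730000100193001c3000020004300163000230000200003001d300002000020000200002000010022300002000e300002000020000200001000f300002000230015300002000020017300002000530000200002000010000200002001d3000010000200002000f30016300002001030000200002000020000200001000020000200002001530000200002001730000200001004d30000200223001530000200002001930000200002000020000200001001030000200002003b30000100002000a300002000020007300002001b300001001c300002005330000200002001030000200002001730000100002000a300002000020007300002000020000100002000020000200002000020000200002002a3000010011300002000f3000d30000200002000e3002d300001000020028300002002630021300103000e30000200173001c300001000020000200023001530000200353000010011300002000f3000d30023300103000e3000020000200002000020000100002000230024300003000010000200002003c30000200373000020000200003002d300001001130000200002000d30036300002000e3002a30000200293000010000200163002230000200143002d300002002e3000020000100163000020024300273000020000200002000010000200002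008030015300133001d3000020000200001004d300163002230015300002004630000100002004f3000f3000930023300103000e300002001930000100053000a3000d3000230007300133000010000200183000020039300373000020001300002001b300333000020028300001000020000200243000020000100002001c3000020000200163000230001300003002c300001000020094300002000020000200103000e3000010000200002000530000200002000230001300003000010000200113000020000200002002230001300003001b30033300002000010049300002000020015300002001d30000200002000b30000200002000010000200002000020000100113000530042300002000230010300133002d300413001c3002830000100002003a30024300273001b30000100113003d300002000020000200103000e3000010000200002000530004300033000020000200003000020000200002000010000200163002230000200473002a3000020011300002000f3000d300001000020000200002000010011300323000f3000d30000200002000e3002d300002001c3002830000100263000020000200273 40 1099511627775 0 50880 64 = 65)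

theorem c796 : _root_.Cfsg.Agent.SporadicRecognition.CosetCert.Part C 50944 51008 64 := Cfsg.Agent.SporadicRecognition.CertFast.part_fast C alC 64 (by decide +kernel : Cfsg.Agent.SporadicRecognition.CertFast.runF C 20 1048575 0x100193001c300002000020000200023000020000200002004530000100323000020009300002001530000200002004530000100443000a300002000020007300002002d300001001a3004f3000020000200233000020000200002003b3000010028300002000930002300002002730000100193002e30000200002000020000200002000020000100002001c3000020000200002002230000200002002d30000100002000020000200002000230001300002001d3004e3000020000100002000020000200383000020000200002000020094300002000020022300001000e3000010000200002000530000200002000020000200002000010045300002000020000200002001e30000200002002a300002002e3000020000200373000010038300002000010019300002000020000200002000230000200002003530019300002004f3000010000200002000130000200001004130034300053004930048300002003830000200002000010011300002000430037300002001030000200002004e3001c30000100493000020000200313000020035300002002e300002000010000200213002430000200353003b3002b300443004930000100002001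5300002000020000200293000020000200163000230000100143000020000200002000010049300002002230015300002001b30000200002000020000200002000010000200002000020019300002000010000200002002f3000020000200002001930000200443000430003300001001530000200002000010011300053000f3000020000200103000020000200002000010000200423000020000200002000020000100002002b300002000020000200023000020000200002005430000200002000020000200001000020000200002004530000100002004d300093000020038300002000010043300113000020000200002000020000200002000020000200002000010004300002001e300002000020000200002000020000100002000020000200002000020000200002001c300001000f3000020002300002000020000200193000020005300002000330000100013000020000200002001c300001000430000200023000020000300002000020000200323004230000200001000130000300001000020029300002000f3003e30022300002000e3002a300002001130000100043000930002300002000e30000200002002930005300423000020000100383001330035300001000020000200002000930008300002000020000200433000010000200002000d30000200002000e3000010000200002000020000200002000020000200002004630000100002004f300002000d30000200002000e300001000020000200002000020000200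0020000200002002a30000100113000b3000f300002000230000200002000010000200113000020004300002000020000200002004630000100113004f3000f30000200002000020000200001000020011300053000020000200002001030000200002000010000200ab3000020000200002000020000300001004e30000200002000020000200002000020000200001000020000200002000020000200002000020000200001000020000200002000a30000200002000020000200001004e3003430000200043000020000200013000020000200002002e30028300001000020000200243000020000100002003430005300002000020002300002000020000200002001c30000100002000020022300002001430000200002001a300002000020000200001003830013300001000020034300002000020026300002000020000200002000020000100002000430000200083000020000300001000020000200002000020000200002000020000200001001730000200002004d300002000020015300003002d300001002e3004f3000f3000d30023300103000e3003530056300002000010000200002000020000200002 40 1099511627775 0 50944 64 = 65)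

theorem c797 : _root_.Cfsg.Agent.SporadicRecognition.CosetCert.Part C 51008 51072 64 := Cfsg.Agent.SporadicRecognition.CertFast.part_fast C alC 64 (by decide +kernel : Cfsg.Agent.SporadicRecognition.CertFast.runF C 20 1048575 0x1001930000200053000020048300002000020000200002001730000200001000020000200223000020000200002000020000200002003930037300001000020000200463000010011300002004930000200002000020000200002000020000100002000a30000200002000020000200001004e30000200002000020000200023000020000200002003b3000020000100002000020052300002000020000200002001830000200043000d30000100073000020000200001002e300ab3000020000200223000020000200002000020000100002000f300002002f300002000020000200001000020000200002000020000200002000020000100002002e3004f30000200002000230000200002004630000100113004f3000f3000d3002330010300002001230000200002004f30000100002002130000200002000020000100002000020000200002000230000200002002d30000200002003230000200002000230000100002001d3001730000200001004d300002000230000200002001d300173001c3000010000200033002230015300002004630000100113000020077300263002330010300002002c300001001a300002003930000200002000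020000200002000020034300001000430000200002000020000300002000020011300053000020000200002000020000100002000010000200002005e300093002330072300002001b30000200002000010000200093000020030300002002a3003b30000200443000a3000020000200001000e3000020045300183000020039300033000010015300002000c300001006c3003d3000020000200203000020000200002003330000100002000020026300083000020000200001003b30029300053000020000200203007230000200002000020011300001000020000200223001530000200002003b3001a3000020004300033000010000200002002c30000100002004f300002000020000200103000020035300001000020000200002000d3002f3000020000200002004e300001000020000200373000020000200002000020000100113000020000200002000230000200002000020000200001000b3000020000200083000020000200001004530018300002000430009300023000130000200001002530018300053004930048300002000130000200002000010011300002003930003300002003830000200002004e3001c300001000020016300002001530000200002003b3001a3000020000200263000020000100273001d3001730000200001004d300033002230015300002001b3000020000200002000020026300001003830000200002001930000200002000430003300001000020000200002001730000100002000a30016300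00200073000020000100453002930005300002000020002300002000020000200002001c300001004d300163002230015300002000020000100002000020000200002002330000200002000c30000100002000020000200002002030000200002000020019300001000b300002000d3000830000200002000c3001730000200001004d3000020022300153000020000200193000020000200043002630000100013000020035300001000020000200002000020000200002000020000100193000020005300002000930000200002000020000200173001c300001004d300163002230000200002000c300001002e30000200002000020023300002000020000100002001830005300002000930021300103000020000200173002e300001004d30000200223001530000200002000010000200002000f3000d300002000020000200002000010000200283000020000200233000020000200002003b3001830000200002000020000100002000020000200002001a3003230004300033000010000200002003530000100002004f3000a30009300002007230000200002004530000100002004d300483000020024300002 40 1099511627775 0 51008 64 = 65)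

theorem c798 : _root_.Cfsg.Agent.SporadicRecognition.CosetCert.Part C 51072 51136 64 := Cfsg.Agent.SporadicRecognition.CertFast.part_fast C alC 64 (by decide +kernel : Cfsg.Agent.SporadicRecognition.CertFast.runF C 20 1048575 0x100002002930000200002000020000200002000e3000020019300002002830000100033002130000200063000020045300002000010004300002000020000200002002a30000100002004f30000200002002130000200003000020033300002003c3003f30037300001000020013300002000010029300002000f3000020000200103001f30000100253002e3004f300002000d300002001030027300002001730029300001000430003300002000020014300001003b300002000020000200002000020000200003001b300001001a3000020000200002000020001300003001d300433001c300001004d3000020022300002001430046300001001a3000530000200002002330000200133002a30000100002003c300393003730000200002000e300002004330000200001003f30000200002000020014300002003b30000200002000010000200002000020027300002003b300002003c3003f3000010000200002001f30000200002001a3000530000200002000010000200133000020000100002004f300043000020000200002000e3000c300001006c30000200002000020000200103000e300002001930000100283000020000200083000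02001f3000010000200002000530000200033000020001300003000020000100002000020000200002002130000200002000020025300002000020000200263000020000100002000c300001006c30000200002000020020300002000020000200193000010000200002000020000200002000e300002000020000100002000020000200002000020006300001001930000200002000f300002000230001300002004630000200002000020000100002001e3000020000300002000010000200002000f3000020000200002000030012300002002b3000020000100002000020024300133000020000200002000020042300002000010010300002000c30000100002003230000200002000020000200143000010043300002000020000200002000020000200002000020000100002003d3000f300002000230000200002000010017300183000020000200002000020000200002000010000200002000020000200002001e30000200002000020056300002000020000100002001e300002000e300002000020000200002000010000200002000020027300002000010000200053000f300002001e300002000020000100002002e300002000020000200023002430000200002003b3000020000200002000020000100002000020000100002001c300002000430003300002001530000200002000020000200001004930000200002001530000200002000020000200001000020000200002000020000200002000010011300002000f3000d300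23300103000020000200002002e3000020049300001000020000200002000020000200002000020000200033000020000100473000010019300002000020000200002000230000200002000020000200002000020000200263000010030300002000020000100002004f30000200002000020007300002000020045300002004f30000100002001e3001530000200123004e300002003d300493000010020300103000020046300453001c300002004d3000d3000020000100002004630000200183000010000200002001e30000200002001b3003b300183003c3003f300002000010038300002000020045300001000b3000a30009300002000730000200001004e300002000530049300002002f30030300002002d3000020000200283000010026300233000020000200002004e3000020000100493000d3000020000200002000020000200002003d30000200002000020000100002000020000200113000010004300373000020000200002004630000100002004f300002002630000200002000020000200001002b3000530000200002000020000200002000020000200001000b300002000d3000830000200002 40 1099511627775 0 51072 64 = 65)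

theorem c799 : _root_.Cfsg.Agent.SporadicRecognition.CosetCert.Part C 51136 51200 64 := Cfsg.Agent.SporadicRecognition.CertFast.part_fast C alC 64 (by decide +kernel : Cfsg.Agent.SporadicRecognition.CertFast.runF C 20 1048575 0x10041300002000020004300033002230001300003001b300002002b300001004d300163000020000200143001d30000200002003c3000f3000d30000100002001330000200413001c30000200001000020002300002000020000100002001a30000200002000d3000020000200002001b3000020000200002000a3003730000100073000020000200002000020000100002000d3001e30001300273004630000100002003d3003f3003e3000020010300002000020043300002000020000100163000830000200002000020000100002004f3000f30000200002000020000200002004330000200001004d30000200002000020000200002000020000200002003f3000010000200002001330000100413001830000200043001630000200383000020000200253002e30000200001005830021300243002730000200413001a30005300393000010000200313001f3001b30043300293000020000200002000020000100002001b3003b300002000020000200373000010000200003000020000200183000010000200002002230000200002000c30000200002000020000200033000010000200003001b3000010011300323000f3000d300002001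03000e300002000020000100323004d3003e3000020000200063000020000200002003230000200002000010000200133001d30000200293000010000200033000020000200003001b30000200002000b30004300033000010000200003000020000100002003c3000a3000930000200103000e30000200453000010000200002000020022300002001430000100002001c3003d300002000330000200002000030000200173000010000200493000930000200243001330000100193001c3000530000200002000020000200002000010025300343000020000200002002030000200002002c3003b300002000020000200002000010000200002000020000200001002830000200002000020000200002000020000200001000020000200002000020024300002000020000100113000020000200002002130000200002000010000200183003c300002000020002300002000020000200002001a300323003930037300001000020000200002000010011300002000f3000d30002300103000e30000100413001c300002000f3001630000200002001430000200002002e3004f3000010026300002000020027300002004e30000200001000f300002000020000200002001d30000200002000010000200002000020000200002000010000200002000020000200263000020000200143000020000200002000530000100002000020000200002002d30000100002000020000200002000020000200002001d3005430000200001000020000200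0020000200002000020000200002000b300002000020000200001000e3000020000200001000530000200002000020000200002000010043300183000020000200002000020000200003002a30000200183000020000100002000020000200002000c3005430000200001003f300002000020000200002000020043300002003d300002000020000200001000020000200002001c30000200393000020000100243000020000100173001a300002000430016300002000020013300001000020018300002003930003300002000020047300002000010011300002000f3000d30023300103000e3001b300002001a3000010004300163000020001300002001b300002000020032300001002630000200002000020000200002002930005300393003e3000020000100003000c3004330000200001004d300002000020000200063000c300001006c3003c3000f30000200223000020047300002000010011300002000f3000d30000200103000e3000020000200001000530000200002000020024300002000010000200183000020000200002000020000200002000010000200343000020000200002002130030300002 40 1099511627775 0 51136 64 = 65)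

theorem c800 : _root_.Cfsg.Agent.SporadicRecognition.CosetCert.Part C 51200 51264 64 := Cfsg.Agent.SporadicRecognition.CertFast.part_fast C alC 64 (by decide +kernel : Cfsg.Agent.SporadicRecognition.CertFast.runF C 20 1048575 0x2d300002000020000200001000330021300002000e3001d3005430000200001004d30000200002000020000200001000020029300002004d300002002230000200143001d300253002e30000200001000020000200002001430046300001000020000200002000d3000020000200003001d300002001c300001004d3001630000200243000030000200001001c300002000f300002002030000200002001b3000010018300002000f30037300223000020000200002003b3001830000200002000010000200002000020000100002001c3000020000200002002230000200143002a30025300183000020000100263000020000200273001d300002001c30000100002001630022300103001430000200173001c30000100002000020002300002000030046300001002930000200002000020000200002002730000200002002e30000200002000010000200002000020000200333000020000200002000330000100002000020000100002001830000200043000330020300013000030000200173000020000100043001630000200153001430000200001000020000200002003e30023300002000e3000020000100002000b300002003e3000020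000200133000020043300002000010000200002000020000200063000020025300002000020000200001002230000200273000010000200113000530000200002003a30001300002002d300002002b3000010000200002002230000200002000020000100002003d30000200263002130000200003000010000200002000020000200002002230000200003002a300002001130028300001000020021300002002730046300001000020032300043000d3000020000200133001d300333001a300001004d300033000020000200143000020000200002003230000200002000010000200133001d300002000020000100002000020002300002001430000200001000020000200002000020000200002000e30000200173000020000100002003e3000020000200143000020000200002000020000100002001e30000200002000010000200183000b3000a300093000020007300002000c30045300002000010039300093000020007300002000c30000200002000b30042300002000020000100002000020000200002000530004300002000010001300002002a30000100002003c30000200033001e30000200143000010019300002000020000200002000020000200003002a3000020000200001003f300002000020000200143002d30000100002002830000200002002f300002000020000200433000010000200002000020000200002004730000100002003430000200043000020000200002000020000200001001c300053000f3000d3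0023300002000e3001d300e0300002000020039300002000010000200002001d3000020000200001003f3001630000200002001430000100002001830000200043001630000200002000030000200002002e3000020000100163002130000200273002c300001000020000200393003730000200002000e3001d30043300002000010000200163000020000200143000010045300183000020004300093000230000200003002a3000020000200001004d300033002230000200143000010000200183000b30000200093000830000200063000c30000200002003d3000a3000d3000010000200002000020000100002000530000200033000230000200002001d3000020000200001004d300163000020000200143000c300002006c300001004d3000020022300002001430000200002001830000200043003730000100013001330046300001001130000200002000d30000200002000020000200002001a30000200043000010000200002000020000200001000020000200002000020000200002000020000100433002b300002004d300002005230000200003001d30017300002000020000100163000230015300002 40 1099511627775 0 51200 64 = 65)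

theorem c801 : _root_.Cfsg.Agent.SporadicRecognition.CosetCert.Part C 51264 51328 63 := Cfsg.Agent.SporadicRecognition.CertFast.part_fast C alC 63 (by decide +kernel : Cfsg.Agent.SporadicRecognition.CertFast.runF C 20 1048575 0x200413002b300002005e3000010002300313001f3001b3004330000200002000a300002000020000100473001d30041300002000010000200033002230000200003001b3003b300002000020000200002000010024300003000020045300001003c3003f300002001e3000020006300002006830000200001000020000200233000020014300002003b300002002830000100002000020000200002000020000200001003c3004230000200002000020000200001004e300293000020000200033000020010300002000020000200002003c300001000020021300002000020000200002000020000200002000010022300002000020000100002003430005300043000930000200002000020000200173001c30000100002001630000200153001430035300173001a3003c300002000020000100002000020046300001000020000200493000330000200723000020000100193002b300002000020000200023000020000200002003b3000020000200002000020000100002001330000200453000010000200002003e300002000020006300001000020018300002004d300002002230015300002001d300173002e300002000010026300223002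4300273001d3001730000200001004d3001630000200243001430000200173000020000100002001630000200153000020000100002000020005300002000330021300002000e30000200002001c300001004d3000d30022300153001430000200002001a30000200043000d30000100013001330000200001000020000200002000d30000200243000e3000020043300001000020000200163000020000200063002a30041300002002830000100002002130000200273000010045300002000530000200002000230024300002000c300001006c3000020000200002000230000200002000020019300001000b30000200002000020007300002000010000200002003c3000020000200023000020000200002003b3001a30032300002000020000100103001330000200001000020000200002000d3000020000200002000020000100002003c3000020000200023000020000200002005430000100053000020003300083000020000200002001730000200001004d300163000020015300143002c3000010011300002000f3000d30000200103000e30000100000000000000000000000000000000000000000035300002001a30032300002000020000100383000e30046300001006c3004f3000f3000020008300103000e30000100002001c3000020004300163000020000200003002c30000100113004f3000f3000d30023300002000e3000020056300002003230000200373000010000200133001d300002001c300001004d30000200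023000020014300002000020011300053003930000200001003830013300001000020000200283000020000200023000020000200001004e300002000020004300093000020001300002008f30000100002004f3000f3000330000200103000e300001000020000200053000020009300002000020000300002000020000200001004d300163000020000200143002a3000010000200002000020000200002000020000200001004130018300002000020000200803000020000200001004e300293004f300002000020000200002000020000100193001830000200002003e30002300002000e300002000010011300053000f3000d30002300002000e30000100002002e30005300002002630000200002001330000200002001c30000100002001630022300002001430000100002001c3000020004300163000020000200143002c30000100002000020000200002000020000200002002d30000100002000020000200002000020000200002001d3005430000200001004d300002000020000200002000020000200002002830000100002000020000200002000020000200002000020000200001000020000200002 40 1099511627775 0xde60000000000000000000000000000000000000000000000000000000000000000000000000000000000000000000000000000000000000000000000000000000000000000000000000000000000000000000000000000000000000000000000000000000000000000000000000000000000000000000000000000000000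 51264 64 = 64)

theorem c802 : _root_.Cfsg.Agent.SporadicRecognition.CosetCert.Part C 51328 51392 64 := Cfsg.Agent.SporadicRecognition.CertFast.part_fast C alC 64 (by decide +kernel : Cfsg.Agent.SporadicRecognition.CertFast.runF C 20 1048575 0x20000200002003c30000200001000830000200002003530000200002000b3000a300093002330024300001000c300002006c3000010000200002004a30000200002000020000200002004f30049300483000010000200002002c30000100002003d30000200002000020000200002000020000200113000020000200001000020000200002000010000200002004f3000020000200002000020000200463000020000200001000f300373000020000200002000c30000200002000b3000020000200001000130000200001003b300002000020000200033000020001300063001b30000100113004f3000f3000d30000200103000e30000200002001c3003c300002003e30021300001001330000200002000020005300002000020000200001001f3000020000200113000010000200002002230001300002000020000100002004f300002000020023300103000020046300001000020044300002000020000200002000020000200002000010000200002000020000200002000020000200001001130005300043000020000200002000e300002000020000100002000a300002000020000200133000020000100002004f3000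0200002002030000200002002d300453000010000200002000020020300002000020000100002002b30000200002000330000200002000020000100002001830028300002000930002300002000030000200ee3001c3000010004300163002230001300143000c300001001130000200002000020000200103000e3002d300001000020005300002000d30021300002000e300463004530000100002004d3000930008300002000630000100002002930000200043000330002300002000030000100002000020005300043000330000200013000030000200173001a30000100393003730000200153001330000200253002e30000200001000020021300243002730000200413001c30032300393000010000200313001330000100002001c3004f300002001630023300002000e30000200173002e3000010049300002002330024300143000020043300113004f30000200163000010038300133002a30000100113003d300002000020002300002000e300002000020011300001003f300163000020000200143000010000200002004f3000430000200023000020000200463000020011300001000f3000d300002000020047300002000020000200283000020000200001002430013300001000020000200053004d300002000230024300002001d300001002e3003d3000020000200002001030014300001000020034300002000020026300023000020000200353000020000200001004d3000d300223000020000200002000010000200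5d300002000d3000020000200002004630000100293004f3000020016300002000020000300001000020000200002000020016300002000020000300123000010000200002000f3000d30023300002000e3000010000200113004f3000f3000d300023001530000300002003b300002003230000200163000010038300133004630000100002002830000200263004a30000200002000020000200002004f30000200002000010010300002000020000100002004f30000200002000020000200002000020025300002000020000100002002030000200002001d300001000020000200002000d30023300002000020000200173000020000100002000020002300002000e30000200002000020000100002000020000200002000e30000100002000020000200002000020022300002000e3000010000200002000020000200002000020000200002002a300002000020000200001000020002300002000020000100433001830000200043000d30002300002000e300001000020018300053000f3000d30000200383001330000200002001c3000010000200163000020015300002000020025300002003c30000100373000020000200473 40 1099511627775 0 51328 64 = 65)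

theorem c803 : _root_.Cfsg.Agent.SporadicRecognition.CosetCert.Part C 51392 51456 64 := Cfsg.Agent.SporadicRecognition.CertFast.part_fast C alC 64 (by decide +kernel : Cfsg.Agent.SporadicRecognition.CertFast.runF C 20 1048575 0x200001002e30028300533000d3000230010300002000010000200183003c30000200002000020000200002002a300002001c300001000020037300002000020014300123000020000200002000020000200002001030000100001000020000200283000020000200002000020000200001004e300002000020000200002000020000200002000c3000020000200053000020000200001000020000200001003b300183000530004300002000020001300002000020017300002000020039300002000010038300002002c30000100113002830000200002000020010300002002d300001006c30028300002000d30000200103002730000200333000010028300002000020000200073000020000100002002e3000020000200002000230001300002001d300001001c300002000f3000d30022300103000e3003530000100002003d30039300002000020010300002002d300001000020028300002000020000200103000e3002d30017300002000010000200002002130015300003000010000200002005d30039300002002330001300002002d300002001130000100393000d300002001530014300001000020000200002004230000200083000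020006300002000010011300002000f3000d30000200002000e3002a30000200002000010000200002000830000200063002d30000100002004f3000020016300002001030000200002000020000200002000020000200002000010000200001003b30000200002000f3003730000200013000e3004630000100002002830000200263000020010300273001b3003b30000200001004d300093000020015300003000020045300002000b30000100373000020024300133000020025300183000b30039300001000020031300133000020000200293000020000200002001e300001004730000200002000020005300002000330000100002002730000200002001a3000530039300002000010000200002000010000200002000020000200002000020000200002000010000200002000530000200033000020000200002002c30000200002002830000100002000020000200002000010000200183004f3000020000200233001530000200463000020018300001000f3000330022300013000030000200193002e30000200002002630000100383002730035300001001a300053000020000200233001030000200002000010011300053000f3000d300233000020000200002000020018300002000020000100002000020000200002000010000200053003930000200ac30010300003000020000200002000020000200033000020000100002000020000200183000010000200002000230024300002001d300001001c30000200043000d300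22300002004730000200193002e3002830000100002000020000200273000020043300343004430000200033002f30000200001000020000100002000020000200002000020015300002000020000200002000530000100002000830024300002002a30000200002003c30000200093001e300001000020046300001001c300002000f3000d3000230001300002004630000200183004f30004300033001e300001000e300002000010000200002000020000200002000020000200001000020000200002000020000200233000020000200463003b300002004f300002000020000100013000020000200002000020000200002000020000100073002730000200001000020000200002000020022300002000020000200001000020044300002000d3000230024300002000020025300002000020000200002001e30000100473004630000100113004f30000200002000020001300002000010000200002000530000200002000020000200003002a30000100002003d30000200002002230000200002000020000200002000010000200002000020000200063000020000200002000020000100002001e30000200002 40 1099511627775 0 51392 64 = 65)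

theorem c804 : _root_.Cfsg.Agent.SporadicRecognition.CosetCert.Part C 51456 51520 64 := Cfsg.Agent.SporadicRecognition.CertFast.part_fast C alC 64 (by decide +kernel : Cfsg.Agent.SporadicRecognition.CertFast.runF C 20 1048575 0x1000020011300053000020000200023000130000200001000020000200053000020000200002000020000200353000010000200002000020000200002001030000200002000010000200002000f3000d3000020000200002000020000200002000020000200001000830000200002001d300001001c300002000f300163000020000200473000c3004e3006c30000100002000020022300002000020000200173001c3003c30000200001000020000200002000020043300343000020000200483001e3000020000100002001730000200053000a300163000020000100002004630000200002000530000200002002330000100002000010000200002000020000200002002130000200002001b30000200001000020000200002000020007300002002d30000200002003230000100002000020024300002000020000200002000020000100033000020024300002001d3001730000200001003930000200002001530000200463000010000200002005330000200002001030000200002000020000100002004d300002000020015300002001b300002000020032300002000020000100002000020000100002001a300053000430000200233000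1300002001d300002000020000100002000d3000020000200143001d3000020000100002000f3000d30022300002000630000100002002e300053003f300033000230000200003002a300001000020000200002001630022300002000e3001b300001000020000200002000020000200002000e30000100002001c300002004d300002000020000200003002c30000100113004f3003f3000020000200002000e3001d300433002930000200001000020021300002002730000200173001c300001004d300163000020000200143002d30000100002004f300002000020000200002000e3000020000100002004f300002000020000200002000e30000200002002e300002000010000200002000020027300002000010000200002000f3000020000200383000e30000200002001c300001003f30003300002000020014300002000020000200002000a3000930000100073000020000100653001a300002000f3000020000200013001430000200001001c3004f30000200373000020010300002001b300002000020032300002000d30000100383000020000100002002e300002000020003300233000130000200001004e300343000020000200002002230001300002000020000100002004f3003930000200002001030000200001003b3000020000200043000020000200013000020000200002000020000200001000020000200243000020000100002001c3000020004300033000230000200003000020000100002004f3000020003300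36300002000e3000020043300002003c3000010026300213000020027300001000020000200053000020000200002000020000300002000020000200001003f300002002230000200143000c300002000020000200002003730000100002001330000100433000020005300002000020036300002000030000200002000020000100002000020022300002001430046300643000020000200393000d3000010007300133000020000100002000020000200002000020001300003000010000200113000020000200002001e30000200003000010000200002004f30000200002000020000200002002c30000200002004f300002000020000100383000e30046300002001130000200001000020023300243000020000200002001830028300001000d30021300002000020000200002001c3000010000200002000020000200002001d3000020000200001000f300002000020015300002001d30000200002000010004300002000020000200002000020000200002000020049300483000010000200002000010000200293003c30000200002000020000200002002a300253000020000100002000020000200002001f3 40 1099511627775 0 51456 64 = 65)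

theorem c805 : _root_.Cfsg.Agent.SporadicRecognition.CosetCert.Part C 51520 51584 64 := Cfsg.Agent.SporadicRecognition.CertFast.part_fast C alC 64 (by decide +kernel : Cfsg.Agent.SporadicRecognition.CertFast.runF C 20 1048575 0x20000200002000010039300033000020015300003001d3000020000200002000f300033000010015300003002d300001000020032300002000330000200002000e3002a30000100002002830000200263000020000200003000010025300113000020000200002004a300002000e3000020017300002000010004300033005a3000020014300001000020029300002004d300163000230000200003000020000100002000020000200033002130000200273000020000200002000530000100263001e300002000e300001001930000200053000f3000930002300103000020000200001000020000200043000d3001e3007230000200002000020000200001000f3001630022300153000020000100253001a3000020000200002000020015300003002c30000100002000020000200002000020024300143002d30000100002003d300002000020000200153000e3002d30000200002000020000100002000020024300273002d30025300002000020000100263000020000200273002c300173000020000200002000010000200002001f3003530000200002000020000200002002f3003030000100001000020029300002000020000200002000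0200002001d3006530000200001004d3000d3000020015300143004630000100002003d3000a300033000830010300133000010045300002000020000200033000020024300002002a300001000020000200043000d30000200002000e3001d30045300002000020004300002000010000200003002d300002000020000200001000d3002230000200063003530000100002000020000200002000230000200002000020025300002000020004300163000010015300133002d30000200002004f300001000020021300243000e3002a30017300002000020000200163001e3000010000200002000010000200443000020000200002001030000200002000020000200053000a300263000020000100002000010000200343000530000200002002330010300002004630000100002004f3000f3000d3000020000200063000010000200002003230000200002000020000200002001b3000020000200002000a300093000010001300002000010000200113004f300043000d300002000020000200463002530000200001004d300093000020000200002001d30000200002000020000200002000020000100273002c3000010011300443000f3000d3000020015300002000c3000020000200002000a3000020000200001000020000200002000010000200002000020000200002000020000200001000020000200002000020000200002000020000200002000010000200002000020000200002000630000200002002e300001000020016300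0230015300273000010000200002000020000200002002230000200002001d3001730000200f0300393001630000100002000020000200002000020000100043000020000200103000020000200001002e3004f300002003730000200243000020000200253000010000200002000020000200013000e30000100ee300002000020000200002000020001300003004630000200002002830000100263000020024300002000010000200002000020000200002000230000200002000020000100002002830000200002000830000200002004630000200001000b30000200002000020000200133000010000200002000530000200373000020000200002000010000200002000020039300002000020000200002001b30000100002004f30000200002000020000200002000020000100113004f30000200002002130000200003001b30000200183000020004300373000010001300063000020000100113000020000200002002130000200003001b3000020000200002000010000200002000020014300002001930000200002000010016300083001530000200002001930000200002004d300001000020024300002 40 1099511627775 0 51520 64 = 65)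

theorem c806 : _root_.Cfsg.Agent.SporadicRecognition.CosetCert.Part C 51584 51648 64 := Cfsg.Agent.SporadicRecognition.CertFast.part_fast C alC 64 (by decide +kernel : Cfsg.Agent.SporadicRecognition.CertFast.runF C 20 1048575 0x200002000020000200001000020000200002000e3001d3000020000200001000f300002000020000200002003530000200002000020000200002000230000200001000010000200002000020000200002000020000200002003530000200113000020039300002000010000200002000020000100002000020000200002002330000200002000020000200002000010000200002000020000200002001d300173001c300001004d3001630022300153000020046300001000020000200002000020000200103000020046300001001130000200002000d30000200002000020000200001000020000200002000020000200002000020046300001001130005300002000020022300002000020000200001001130000200002003e3000020000200002002c3004330000200001000020000200002000020000200002000020000200001004d3000020000200153000020000200001000020000200002000020000200383000020046300001001130000200002000020020300002000e30000100002002b300002000020000200233000020000300463000020000200002000020000200001000020000200001000020034300002000020003300002000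020000200002000020000200002000020000100002000020000200001000020000200002000020000200002000020000200001004e30018300002000f300163000020015300002002c30000100002000020000200002002030030300002000020000200002000020000100263002130024300002001d3004e3001c30000100002001630022300002000020000200002000020000100002000020000200153000020000100002001c300002000430000200023000020000200001009030000200053000020000200002000020000200002006630000200001000f300163000020038300002001b30043300002003230000200263000020000100473001d3000020000200001004d300033000230000200002000010000200002000020000200002000020000200002000c30000200002000020000200002000010000200002000020000100002000020000200002000020001300002001b30000100113004f30000200002000020010300002000c30000200002000010000200002000020024300002000020000200002002830000200002001e30000100273000010045300002000020004300093000020000200003000c3000020000200001004d300002002330000200143000020019300183004f300002000020000100002000e3004630000100002003d300002000020000200313000020000200002001a3000020000200002000010000200002004630000100002000020042300002000020000200473000c3004330011300001003930037300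002000020000200463000020000200053000010000200223000020000200463000020000200002003930037300001000130000200002000010000200002000f300002000230000200002002d300002000020028300001000d3000020001300002001d30000200002000010000200002000020015300002000010000200002003c30000200002000020000200002002a30000200002000010004300002000230000200002002a300002001830000200001000020000200002000020000200002000020000200001000020000200013000020000200002000020000200043000020000200001001f300002003b300001000020000200033000020000200063000010045300183002830053300002000020000200002000010000200002002830000200002000230000200002004630000100002000020000200002002330010300063002d30000200002000020000200001002230000200002001d300002000020000100002002630000200243001430046300001002e3004f300002000020000200243000020000200253000010005300002000020000200103000020000200001000020028300002002630023300103000e3 40 1099511627775 0 51584 64 = 65)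

theorem c807 : _root_.Cfsg.Agent.SporadicRecognition.CosetCert.Part C 51648 51712 64 := Cfsg.Agent.SporadicRecognition.CertFast.part_fast C alC 64 (by decide +kernel : Cfsg.Agent.SporadicRecognition.CertFast.runF C 20 1048575 0x200001000020000200043000d30023300002000e3000c3006530000200001000f300033000020000200143000020000200002000020000100002000230000200273002d3000020000200053003f3000010000200002001f30046300002000020000100043000330000200153000020000100002001c300002004d3002630002300153001430000200002001c3000010004300002002330015300143001230000200113004f3000020037300001000020013300463000010011300002000f3000020000200002000020000100002000020005300002003e3000230001300003000020025300002000010000200163002230015300143002a3000010000200002000020000200233000020000200002003b300002000020000200002000020000200001001d30000100002000020000200002001e300002000e3001d300002002e3000010000200033002230010300143000020000200002000020000200002000010010300133000020000100113004f300043000330000200002000e300002000020000200002000020000100002000020000200002000020000200002000020016300002000020000100002000020000200001000020000200233000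020000200002003b30000200002000a300002000010000200002002c30000100002000020004300002000020000200002000020019300002000020000200001002130000200002000020000100183004f3000020000200233001030000200001000020011300323000f300002000230000200143001b300173001a300001004d300002000020000200003004630000100113004f300002000d30021300002000e3000020000100113003c3000f3000020000200002000030000100002002e30000200002000020000200002000030000100ea3001a3004f3000020000200002000020000200002000010011300053000f3000330023300103000020000100002002e30000200002000330000200002000020000100193002b3000530004300002000020001300002000020000200002000020000100002000020000200002002d30000100002004f3000020037300002001030000200001001930000200002000430009300002000130000300001000020000200002000020000200002000130000200353004e3002b300001000020000200002001530000200001003b300002000b30000200002000020001300002000c300002001c300001000020000200002001530014300001001930000200002000020000200002000130000200123000010000200053000020003300002000130000200353001930000200002000020000100002003130000200002003330000200323000020000200002000010013300002000010000200283000020000200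233003830000200002003b300113003c300002000020000200001001f3000c30000200002003230000200002000010010300002002d3001730018300002000020000200213002430000100002003b30000200002000020009300001003830000200002003b300002000530039300373000010000200133001d3004130000200001000020000200002000020000200002000020000200443004d300002000010015300002000020000100002003d30000200002000020000200003001b300002000020000200001000930000200383000020000100002000020000200002000330000200103000020035300193000020000100002000d3000020001300002000010019300002003230004300002000020000200002001b3000020000200001000a30000200002003830000200001000020000200002000020000200002000020014300002000020018300002000020003300001000130013300002000010011300002000f3000d30022300103000e3001d3000020000200002003f3003e3000020000100002001b300002001a3003230000200373000010000200133002d30000200002000020000100002000020000200273 40 1099511627775 0 51648 64 = 65)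

theorem c808 : _root_.Cfsg.Agent.SporadicRecognition.CosetCert.Part C 51712 51776 64 := Cfsg.Agent.SporadicRecognition.CertFast.part_fast C alC 64 (by decide +kernel : Cfsg.Agent.SporadicRecognition.CertFast.runF C 20 1048575 0x100002002e30000200002000020000200013000020000100173001a300002000020000200002000020000200001004330029300002000430000200233000020000300463000020000200002000a30016300001003830013300001000020000200002000430000200023000020000200002000020000200323000020000200001000020000200002000020000200001004d300002000020000200002000020000200002005d300001000020000200002000020000100253001130000200043000d3000020000200003000020000100002003d300002000020000200002000e3000010000200002002830000200002000020010300002002d3001730000200001000f30000200223001530014300001004e30034300002000f300163000020000200002004630000200293000010004300033002230000200143000020000200113000020000100002002130000200003001b300002003430000200043000d300002003830000100002000020000200323000010000200002000020000200002000020000200002000020000100233000020000200002000020000200001000020000200002000130000200002000020000200002000020000200001001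5300143000010000200002000020000200002000230000200002000010000200002000020000200002000020000200002001d30000100002000020000200002000020010300002000020000100002000020000200002002330001300002000010000200002000020000200002000020001300143000020000200002003c3000f3000d3000020000100002000c30000100002004f30000200002000020010300002000020000200002003c3003f3000020002300001001f300002000020011300002003f3000020000200001000020000200653001a300323000f3000020000100013000e3000020000100113004f300002000d3003a3001030000200002004e30018300001000020000200213001530000200002000010018300053000f300002000830010300002000020000200002003d300043000930000100002000020000200002000020000100493001630000200002000020000200643000020000200002000020000100002000020000100193001830000200043000d30002300103000030000100002001830005300043000330000200013000030000200453001c300001000020016300002001530013300002000020000200002000f300002001e3000010000200463000020000200001000f3000020022300013000e3001b300002001a3000020039300373000010038300133001b300002001a3004f300002003730000100002000e30046300001001c300002000f300002000020010300002000020000100113004f3000f3000d300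00200002000e3002d300001001830094300002000d30000200002000e3000020000200002003c300002003e3000020000100003000020000200002000010000200002000020000200003000020000200293003c300002003730000100002000030000100193001c3000020000200002000830000200273002c30000100183000020004300002000020015300002001d300002001c3000020000100263001e30001300003000020000200002002830000100002002130000200002000020000200002000010000200002000020000200002000020017300002000010004300002000230000200003000010019300183000020004300033002230001300003000020019300002000b30000200093000010007300002000020000100113003c300002000d30000200002000020000200002000020000200393003730000100002001330000200173000020000100423003730000200153000030046300001000020000200002000020020300243001f3000c30045300002004f300001000020000200103000e3000c3004530000200001000f300002000020015300002001b30000100002003230000200002000020010300002 40 1099511627775 0 51712 64 = 65)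

theorem c809 : _root_.Cfsg.Agent.SporadicRecognition.CosetCert.Part C 51776 51840 64 := Cfsg.Agent.SporadicRecognition.CertFast.part_fast C alC 64 (by decide +kernel : Cfsg.Agent.SporadicRecognition.CertFast.runF C 20 1048575 0x200333001a3000b300002000330021300001001330000100433001830000200002000d3000230000200002002c300253001830000200001000020008300002000020000100ea3001830005300002000330000200002000020046300001001a30000200002000d30023300103000e3000020064300343000010000200163000020015300143001b300002000020000200002003e3000020000100473000020017300002000010004300033002f3000020014300002003b3000020044300002003730000100002002730000200173001830000100002000020022300243001430046300002000010000200002000330023300002000020000200193006c3000010000200002000020024300002000020000200002000020000100163000020015300002000020019300113002830000200263001e30000100273002c30000200001004f3000a3001630000200073000e30000100002001130000200002000020000200002000020000200002000020000200002000020000100002000020000200002000020000200043000020000100383000020000100173002e3000020000200002002f300002000020035300002001a300323000020037300001000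0200002001d30000100293004f300002000d3001e300002000e30000200433000010000200002002630008300002002730000100193000020000200043003e3000020000200003002a300001001a3003c300002000d30002300002000e30000200002001a3000020004300373000010000200133002a3000010011300002000f3000020002300002000020000100002002e300002000020003300023000020000200002000010011300002000f30000200223000020000200002000020000200001000f3000d300002001530000200001003b3002b3000020004300373000020001300003002c30000100002003d30000200002000020010300002001b3000010000200002000f300002000020010300143000020000100002003d3000020000200002000020000200002000010000200002000f3000020023300002000e300002000010000200002000f3000d30000200002000e3000010000200002000530000200002000020000200002000c3003b300002003230000200002000010000200003001d30000100002003d30000200002000020000200002000020000200002002830000100002000020000200002003530000100002004430000200002003a3000020000200002000020000200001004d300002000020000200002000020043300002003c3000010000200023000020000200002000010000200053000a30003300213000020000300002000020000200002000010000200002000020000200001000020000200002000020000200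0020024300273000020000200183000010000200002000020001300143000020045300002000020000200002000010000200002000020000100002000020000200002001e30000200143001d300001001130028300002000d30023300002000e30000200002000010000200002000930000200002000020000200002001c3000010004300033002230000200143001b300002001a30000200043003730000100002001330000200002000020000200393000330000100002001330000200001000020005300002000020023300002000e300002000010000200002000f30016300223001030014300001003b3003430000200002000d30000200013000020000100002002e30000200002000020000200002000020000200001001c3000530000200002006d30010300002000020017300001000020000200002000020038300002000c30000100002000020000200002002f30007300002002d300001001130000200002000d300002001030000200002000010000200002000f30000200002001030000200001004e30034300002000020000200002000020000200001004e300343000020000200002000020001300002 40 1099511627775 0 51776 64 = 65)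

theorem c810 : _root_.Cfsg.Agent.SporadicRecognition.CosetCert.Part C 51840 51904 64 := Cfsg.Agent.SporadicRecognition.CertFast.part_fast C alC 64 (by decide +kernel : Cfsg.Agent.SporadicRecognition.CertFast.runF C 20 1048575 0x2d300001001c30000200002000020021300103000030000100563002e30028300002000020000200002000e300123000020000200323000020037300001000130013300001001730000200002000f3000020000200013000030046300002001a3002830000100263000020038300133000010000200002000020000200002000020000200002002a30000200002000010000200002000020000200002002c30000200002003d30004300002002230000100002001d300173001c3000010000200163002230015300143001b30000200002000020000200002000010000200002002d300253002e30000200001002630000200243002730000200001000020028300002000330000200002000020000200173001c30000100043000d30000200153001430000200002001130000200002003e3002f300001000020000200253002e300283000010000200213002430027300002000020000200001004d300002000020010300143000020000200002004f300002003e3000020000100273000010000200002000020000200002000020010300002001b300002000020000100002000020000200153000020000100002001c3000020000200163000020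000200003001b3003b3002e30028300001002630000200002002730000200002001c30000100002001630000200002001430046300002002b300002000020000100023000020000200001004330011300053000f3000d300002000020000300002000020000200001000020016300d3300002001430000200173001a30000200002000020000100153001330046300001001130000200002003e30000200002000e3000c30033300002000b30000200093000010007300002001d300173001c30000100002001630022300002001430000200002001a300002000f300002000010030300002001d300173001c300001000020000200023000020014300002004e30011300053000020003300001000020000200463000010000200002003f300002001e300002000e3000020043300183000b3000010000200023000020006300001004e30034300053000f3000d30020300013000020000200173001c300001000020016300223001530000200002000010011300002000f3000d3000020010300002000c30000200002000b30000100093000020007300002001230000100113000020000200002006d300002000020000200001001a3000020000200002002030000200002000c3000020000200001000a300002000830007300002002d300173001c3000010000200002002230000200002002a3001730000200001004d300163000020000200002000020000200002000020000100002002130031300002000010056300183000020004300033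00002000020000200002000010011300002004d3000d30000200153000e3001b300173000020028300001002630008300243002730000200001001a30000200002000d3000020000200002002a30064300002000010000200163000020000200002002a300173000020000100002001630000200002000e300002003b300002003c30000100263000020000200002002d3000020000200053005e3003e3000020000100002000020017300001000020004300163001e30000200143000010000200002000020000200002000020000200002002a30000200002002830000100002002130000200002000010041300293000020000200002000020000200273002c30000100002003d300002000020000200002000e300353002530000200001004d3000020000200013000020000200002001130005300002000020002300001000e300001000020000200002000020003300002000020000300463000020000200002000a30009300001001030014300002003b300113000020000100002001e30000200273000010000200002000020000200002002130007300002002d300002002b300001004d300483000020007300002 40 1099511627775 0 51840 64 = 65)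

theorem c811 : _root_.Cfsg.Agent.SporadicRecognition.CosetCert.Part C 51904 51968 64 := Cfsg.Agent.SporadicRecognition.CertFast.part_fast C alC 64 (by decide +kernel : Cfsg.Agent.SporadicRecognition.CertFast.runF C 20 1048575 0x1000020000200002000020000200002000020000200001000020018300002000430003300002000130000200353000020011300001000020016300002001530000200002001730000200001003930016300002001530000200002000020000200323003930037300001003130000200002003b300002000020000200002000010031300002000020000200002000010000200002000020010300002000010000200002000020000200002000020015300002002c3002530000200002000010000200002002430000200001000020000200002000020000200002000130000300002000020000200002000f3000d3000020000100002001d30017300002000010000200002002230000200143000020000100002000020004300002004a3001030000200002004330000200002000020000200002000010000200002000010000200002000020000200203000020000200002000020000200001005e300002002130015300002002c30000100002003d30004300002000020010300002002d3002530000200283000010000200002000130000200001db554002e300053db554db554db55400013db55400002000020000200001000020000200223001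030000200353003b3001a3000020049300033000010000200002000020000100113000530000200002002f30010300002001b300333002e300323000020000200001003830000200002000010000200002000f30016300002000020014300002000020000200283000010026300213000020027300001004e3000020005300002000330002300013000020000200001002e3000020000200002000020010300002000020000200001000020000200002004a3000020000200001000020000200002000020000200233000020000200001003b300113004f3004d3000330000200013000020000200002001a300001004d300263000020038300002001d300002000020000200001001630002300243000020000200173002b300002004d3000010022300313001430000200903001c30000200002000020022300001000020000200002001c3000020004300002000010015300003002c30000200113003d3000020000100002003130000200001001930029300002004d30026300023000020027300002000020000200323000f300002000010015300133001d30000100002004f30000200093002230000200063000020000100113004f30000200033003a300002000e30000100193001830000200043000330002300013000030000200002002e300943000010026300223002430027300001001930018300053000020000200023000130000300002000020000200001000020000200223001530014300001000020018300053000430003300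00200002000020000200002001c300001000020016300002000020014300002000010000200002000020000200233000020013300001004e3002e30000200393000020000200153000020000200001002b300002000f30037300002001030000200353003b30000200002000a3000010000200153000020000100002000020000200002000020002300103000020000200002000020000200002000020000100002000020000100002002e3000b300002000d3000020007300002000c3000020000200001000f3000020000200002000020000100002001830005300002000020002300013000030000200173001130000100002000020022300153001430000200002001a3000020039300002000010038300133000010000200002004f3000f300002000020007300002000c30017300002000020042300373000010038300063000020000200002004f30000100002000020000200002004630000100002000020000200002002230000200143001d30000100002000020000200002000020000200002002d30000200002000020000100002000020000200002000020000200002000010000200002000020000200002 40 1099511627775 0 51904 64 = 65)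

theorem c812 : _root_.Cfsg.Agent.SporadicRecognition.CosetCert.Part C 51968 52032 64 := Cfsg.Agent.SporadicRecognition.CertFast.part_fast C alC 64 (by decide +kernel : Cfsg.Agent.SporadicRecognition.CertFast.runF C 20 1048575 0x2d30000100002003d30000200002002130010300002001d3000020000200001004d3000020002300153000020000200002000020000200001000020000200002002730000200002000020000200002000020000200001001f300001003b30000200002000020009300002000020027300001000020000200002000020000200002000020000300001000020000200002000020000200002000020000200002000020000200001000430000200002000020000300002003b300002000530000200fa3000020031300001000020000100002004f300002000d30000200002000e3000020000100002000b3000020003300023000730000200001003b3001c30000200043000020000200002000e30000100173001830000200002000020000200013000020000100193002930000200002000020000200002000030000100453002930000200043000020000200002000e3001d30000100002000020000200002000020000200002001d3004e300002000020000200001000020000200002002d300001001130028300002000d30023300103000e3002a300001000020000200002000020000200002000e3002c30045300002000020000100002000020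01530000200002001730000200002004d30000100023000020027300002000020000200002000a30026300001003830000200002000020000200001000f30000200ac30000200002000010000200002000020000200002002130001300002002d3000020000200002000f3000d30000100153000020000100193001a300002004d3002630000200013000030000100433002930005300002000d30002300002000e300002001730011300001000f30016300223000020014300002006830034300002000f300033000020000200001000010041300002000020000200002009d30001300002000c300253000020000200001000020000200243000020000200002001a30032300002000d30000100002000020000200001000020000200002000020000200002000e30000100002002930000200043000330002300002000030000200253002e3000020000100263000020000200273000010000200002000530000200002000020000200003000020017300002000010000200002000830000200143000020000100113004f30000200002006d3000020000200002000020000100283000020000200002000130000200001004e30034300053000f3000330002300013000020000200173001c300001000020016300223001530000200002000010000200002005e3000020008300103000020000100193001830005300002000d30002300013000e3000010000200113000530000200033000230000200003000020000100293004f300002000d3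0000200002000e3000020000200002000020000200002000830000200001002a3001730000200002003f30016300203000010000200002000020011300001000f3001630022300002001330046300001000020032300002003730080300103000020000200683000020032300002000010023300013000020000100453001a300002000a300373000020001300133000020043300002000020000200002000830000100002002d300001000020000200002000d30022300103000e300001001730000200002000430003300023000130014300001001930018300053000f3000020002300013000e3000020000200002004f30000200373000010000200002000020000100002004f300002000020002300002000e3000010000200002000020004300002000020000200003000020000100002004f3000f3000020000200002000e300001000020000200053000020000200002003830000200353000010000200443000020000200203000130000200002000020000200001004d30000200083001530000200001004e30000200323000a300093000020001300002000020043300002000b3000a300093000020000100063 40 1099511627775 0 51968 64 = 65)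

theorem c813 : _root_.Cfsg.Agent.SporadicRecognition.CosetCert.Part C 52032 52096 64 := Cfsg.Agent.SporadicRecognition.CertFast.part_fast C alC 64 (by decide +kernel : Cfsg.Agent.SporadicRecognition.CertFast.runF C 20 1048575 0x100002001830000200043000330002300013000030000200002001130028300001000d300002002430027300001001930018300053000f3000330000200013000030000200002001a30000100002000020000200153000e3004630033300113004f30000100002002130024300273000020000200002000020000100002000020001300002001d3000020018300001003f3000d3000230000200143002c300001000020005300002000020008300002000e3002d30000200001003d300002000020000200002001330000100002002b300002000f3000330002300002000030000200253002e300053000010026300002000020027300001004e3001130005300043000020000200002000020000200002001a30000100002000020000200153000e3001b30000100183002830000200033001e300002000e30000200333000010000200043000020002300002000630000100002001830005300043000330002300002000030000200002001130000100002000d30022300002001430000200001001130000200043000d3000230010300002000020000200001000b3000020000200023000130000200001004e3001a300053000020000200002000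02000020000200173002b300001000020048300002001530000200001000020000200002000430003300002000130000200002000010011300002000f3000d3002f30010300002000010019300002000530000200002000020001300002002c30000100002000530000200002002130010300002000010019300002003d30000200002000020000200273002d300001000020005300002000330023300002000e3002a30019300002000020000200001000230000200002002d300002000020000200002002630000200002000010000200001000020000200002000020000200002000020000200002000020000200002000020008300001001f30000200193001a3000020039300033000010015300143000020000100113004f30000200033003a300002000e3000010017300002000020000200002000020031300273002a30000200002000020000200001002130000200133002c3000020000200002000020026300002000010000200002004530000200001000020003300002000020000200001000020000200002000020000200023000020000200002000010000200053000020000200002000020000200002000020000200001004d3000020002300002001430000200001000020028300002000020022300002001430000100453002e300002004d3000020000200002001330000200002000020000100002000020000200002000020000100002002e30000200002001630002300013000030000200002001c300001000f3000d300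2230010300003000020000200183000020000200373000010000200133000020000100183004f30000200002000830000200002000020000100113004f300002000020000200002001430000100002001830000200002000020000200002000e3002a300002001830000200001000d3000830000200143000010017300183000020000200002000020024300002001b300001001a300053000430000200002001030000200463004530000200001004d3003e3000020024300002002c30019300002004f3000010000200002001530000200353004e300293003c30049300001000020038300002001d3001730000200001004d300163000020015300143000010043300343000020000200002000020000200002002a3000010000200002003f3000d30023300002000e3001b3000020000200002000020000200002000020000100463000010000200002000f300002002330010300133000020000200002000020000200002000020000100273004630000100002004f300002000d30023300002000e3000020090300001000020000200002000020000200002004630000100002004f3000f3000020023300002000e3 40 1099511627775 0 52032 64 = 65)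

theorem c814 : _root_.Cfsg.Agent.SporadicRecognition.CosetCert.Part C 52096 52160 64 := Cfsg.Agent.SporadicRecognition.CertFast.part_fast C alC 64 (by decide +kernel : Cfsg.Agent.SporadicRecognition.CertFast.runF C 20 1048575 0x46300001001830000200002000d30000200153000020000200001000020005300043000330021300103000e300002000010000200002000020000200223000020014300001000020034300002000020000200002000020000200001000020000200002000020000200023000020000200463000010000200002000020000200233000020000200353004330000200002000020000100002000020000200001000020000200002000020000200002000020000200002000020018300002000a3000d3001e30000100002000c30000200002000020000200373000010000200002000020000100113000020000200002002130000200002000020000200002000020000200373000010001300002000010000200002000020000200002000020015300002000020000100002004f300002000020023300243000030000200001000020000200002000020023300002000020000200253000020000200001003e300002000020027300002000020000200002003f3000010000200002000020000200002000020000200002000d3000020030300001004630000100002004f30004300002000020010300002000020000200002000020042300002000020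0001000020000200001001130005300043000330002300103000030000100002001830000200043000330002300013000030000100193001830005300043000d300002000130000300002000020000200001000f3000d3000020015300143002a30000100183003c300043000d3001e3000020000200002000020000100053000f3000330000200002000030000100002001830005300043000330002300002000030000200173001c300001004d30016300223000020014300001004e300183000b3000430003300002000130000200002000010011300002000f3000d3004a3001030000200001006530000200002000f3000d3000020010300002004630000200183000020000100033000830024300002004630000200002000020004300001000020031300002004630000200002000020000200002002230000100002000010000200343000530000200002002f3000020000200002001930000200323000a300373000010038300003001d300001001830000200043000330002300103000030000200333000010000200043000330000200013000030000100002001830005300043000330002300013000030000200002001c300001004d30016300002001530014300002000020011300002004d3002630000100383000e300001000020018300002000430000200203000020006300002000010011300002000f3000d30023300002000e3000c30000200002000020000200483000020030300001000020000200113000020000200033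00023000010000200002000010000200002000f300002000020015300002000020000100113002830000200002000830000200273000010033300183000b30000200033000020001300003000020000100113004f300002000020023300103001330000200002000020000200002003e3000020000100143000020000200002000010000200002000020000200002002c30000100002003d30000200002000020000200002002d30000200001000020000200002000020000200002000020000200002000010000200002000020000200143000010000200113004f300002000d3002330001300002000020000200002000010000200163000020015300002004630000200002000020000200093000010000200002000020000200001000020000200002000020000200002000010019300002000020000200002000020000200003000c3000020000200002000020000200001003830014300002004e3000020000100002000020000200002000020000200002000020000200001000020000200013000020046300002001c3003d30004300002000230000100002000020000100113000530004300033000230010300003 40 1099511627775 0 52096 64 = 65)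

theorem c815 : _root_.Cfsg.Agent.SporadicRecognition.CosetCert.Part C 52160 52224 64 := Cfsg.Agent.SporadicRecognition.CertFast.part_fast C alC 64 (by decide +kernel : Cfsg.Agent.SporadicRecognition.CertFast.runF C 20 1048575 0x1d30025300183000020000100002000020000200002001d3001730000200001004d300033000020015300273000010000200002004f30000200002002230000200002000020017300002000010004300263000230000200002000020000200002000530000200002000010000200002001d300173002e300001000020000200002000020027300002000010000200283000020000200002000020000200001000020011300053000f3000d3000020000200002000010019300002000020004300093002330000200002002c3004530000200323000f300002000010038300002004630000100002004f30000200002002330000200002000c300002001c300001004d3000020000200243000020000200002000020000200001000020008300013000020000200001002e3004f3000020000200233000020000200002004e3001c3000010049300002000230001300002004630000100002004f30000200002000020031300002000020045300183000010039300002005230001300002000020025300002000020000100002000230007300002000020000200002000530000200001000230001300002001b3000010011300323000a3000d3000020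01030000200002004530000200053000010000200002002430000200002000020000200002004930000100002003130000200002000020000200002000020000200002000010006300002000020000200001004d3000020000200153000020000200002000020000200002000020000100002000020000100002000020000200002000020000200002000020035300002000020000200002000020000100002000020000200193000010000200002000930000200002000020000200001000020000200002000020000200002000020000200001000020000200002000d300002000020000200001004e3001c300002004d30016300002000130000200002000010000200002000020000200002000020000200001001730018300002000020000200023000020000300002000010000200002000020000200002000020000200001004e300002000020000200033002130015300002000020000100002004430000200263000020000200002002d30017300002000010000200263000020024300002001d3001730000200001004d300263002130000200002000020000200002000b300001000020000200073000020000200253000020028300001000020000200243000020000200002000010000200393000020000200002000020000100002001a300283000020026300002002430000200463000020000200001000a300033000830000200002000020019300002000b3000430003300001001030000200002000010011300002004d300002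002330000200002000010000200293003c3004d3000330000200002000020000200002000020000100f230016300223001530000200002002530000200002000020037300001002430000200002003b30011300001000a3001630000200103000e300002000020000200053004d3000930000100002000e30000100002000020000200002000020000200013001330000200001000020000200002000d30023300002000e3000010000200293003c30000200033002330000200003002a3001730000200001000a300093002030000200143000020000100002004f300002000020022300002000e3000c30000200002000b30039300002000010007300002000020000100002000b300002000020008300002000e30000200001001a300002000f3000d3000020010300002000c30000200002000b30000100002001e30000200002000020000100002004f3000020000200002000020014300002003b30000200002000020000200002000020000100002000020000200002000a300001001e300002000030000200002001c3003d30039300002000010001300133000020000200001000b30000200002000830000200063 40 1099511627775 0 52160 64 = 65)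

theorem all : _root_.Cfsg.Agent.SporadicRecognition.CosetCert.Part C 50688 52224 1535 := (((((((((((((((((((((((c792).append C c793).append C c794).append C c795).append C c796).append C c797).append C c798).append C c799).append C c800).append C c801).append C c802).append C c803).append C c804).append C c805).append C c806).append C c807).append C c808).append C c809).append C c810).append C c811).append C c812).append C c813).append C c814).append C c815

end Cfsg.Agent.Co2Type.Up9Chk33
end

-- part: Co2Type/Up9Chk37
section
set_option autoImplicit false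
set_option maxRecDepth 100000

namespace Cfsg.Agent.Co2Type.Up9Chk37

open Cfsg.Agent.SporadicRecognition.CosetCert Cfsg.Agent.Co2Type.Up9Data

private noncomputable def _root_.Cfsg.Agent.KOf22f1fe.k0 : (by first | exact type_of% @Cfsg.Agent.SporadicRecognition.CertFast.al | exact Unit : Sort _) := by first | (refine @Subtype.val _ (fun g => @Cfsg.Agent.SporadicRecognition.CertFast.al = @g) (@Subtype.mk _ _ (@(fun x0 x1 => @Cfsg.Agent.SporadicRecognition.CosetCert.Tr.rec.{1} @(fun x2 => @Bool) @(fun x2 => @Bool.true) @(fun x2 x3 x4 x5 x6 => @Bool.rec.{1} @(fun x7 => @Bool) @Bool.false (@Bool.rec.{1} @(fun x7 => @Bool) @Bool.false @x6 @x5) (@Nat.beq (@Nat.mod @x2 @x0) (nat_lit 0))) @x1)) ?_); rfl') | exact @Cfsg.Agent.SporadicRecognition.CertFast.al | exact ()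
private theorem _root_.Cfsg.Agent.KOf22f1fe.e0 : (by first | exact @Cfsg.Agent.SporadicRecognition.CertFast.al = @_root_.Cfsg.Agent.KOf22f1fe.k0 | exact True : Prop) := by first | (delta _root_.Cfsg.Agent.KOf22f1fe.k0; exact @Subtype.property _ (fun g => @Cfsg.Agent.SporadicRecognition.CertFast.al = @g) _) | rfl | trivial

private theorem alC : Cfsg.Agent.SporadicRecognition.CertFast.al (Nat.succ C.lm) C.data = true := by (first | (rewrite [Cfsg.Agent.KOf22f1fe.e0]; decide +kernel) | decide +kernel)

theorem c888 : _root_.Cfsg.Agent.SporadicRecognition.CosetCert.Part C 56832 56896 64 := Cfsg.Agent.SporadicRecognition.CertFast.part_fast C alC 64 (by decide +kernel : Cfsg.Agent.SporadicRecognition.CertFast.runF C 20 1048575 0x20000100002000020000200002000020000200002001b300002002e30000200002004830000100153000020000200001000020000200002000d30021300002000020000200002000020000200002000020022300001001f3002d300001002e30000200002000020021300153000020000200001001c300002004d3000020008300002000e3002c30017300343000020000100002000020000200002000020017300002000010049300483002230000200002002a300173000020000100002000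02002230000200273000020017300002000020039300373000010000200002000020019300002000010004300002000020015300002000020000200293000020000200002000020000100133001d30000100002000020000200002002330024300002000020000200002000020000100002000020010300002002a300001001130000200002003e30023300002000e3000c30043300002004f30000100002002230000200273000c300002001c300001000f300002002230000200143000c30000200002000020000200002000010000200133001b3004330000200001003f300002000020000200143000020025300002000020000200002000010000200002000c300001000020000200002000d3002130072300002001d3003b30000200001000a3001630000200002001430000200002000020044300002000d3000020000100002000020000200002000020000100002005a3000020000200001003b3001a3000530004300033000020001300003000020043300293003c3003f3003e3001e30000100473000020000200001000020004300033000020000200002000020000100002004f3000f30000200233001030000200001000020000200002000020000200023000020000200002003b3001a3003230039300373000010038300002000020000100002000020000200163004a30000200002000c3003b30000200001004d3000020022300002001430000100002000020000200002000020000200002000020035300433000020032300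00200373000020000100002001d300001001830000200002000020021300103002730000100002001830000200002000020023300013000e300463001730000200002004d3003730000100153001330000200002000020000200001000020000200383000e300001000020018300002000430000200023000020000300002003b3001c30094300001000020022300002002730000100002001830005300002000020020300013000020000200903001c300001000020000200002001530000200002000020000200002000010000200002001530014300002000020000200001004d300002000020000200143000010019300002000020000200002000020000200002000020000100002000020000200002000020001300002001230000200002000530004300002000010000200002002d300002002e3004f300001000020023300243000e3001d3000020000200001004d300163000020015300143002a300002000020000200393003e3000020000100b130000200253002e30005300001002630000200002002730000200002001c30000100002001630000200153000020000200001000020000200002000020000200002000020000200453002930000200043000330000200001001430000200002001c300001000020000200023000020000200002000020000200001000020000200002000020000200002000020000200001000020016300002000020000200002003b3000020005300002004830000200383000010000200002000020000200002000020000100153000020000200002000020000200001000020000200002000020000200002001c300002000010000200233000020000200002000020000200001004d300002000020000200002002d30000200002000530000100033000230024300002000020000200002000010000200002000020000200003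 40 1099511627775 0 56832 64 = 65)

theorem c889 : _root_.Cfsg.Agent.SporadicRecognition.CosetCert.Part C 56896 56960 64 := Cfsg.Agent.SporadicRecognition.CertFast.part_fast C alC 64 (by decide +kernel : Cfsg.Agent.SporadicRecognition.CertFast.runF C 20 1048575 0x2000020018300002000f300033000020000100473002c300001001c300002000f30000200223001030000200002000010000200002000f3000020020300002000e3002c300001000020028300002000020000200002000e3002d3000020000200001003f300002000020000200143002c300001000020000200002000020000200002000e30000200193000020000100002000020000200153000020046300001002b3004f300002000020022300002001430046300001001a300002000f3000d3000020010300002001b300002001a300002003f3003e3000020000100133000c3004330000200002003f3003e3000020000100473000020000100002003c30000200033001e300002000e30000200002001a30000200043004830000200383000010000200002000020000200002003e300002000010013300002001730000200001004d3001630000200002000020000100193000020000200043000330000200002001430000200002000010000200002000020000200002000020000100002000020000200002000020000200103000020000200193000020000200001000020000200002000020000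1001930018300002000f3000020002300002000630046300002000020000100043000020000200002000020012300001000020000200002000d300002000020000200463000010000200002000f300002000020010300002004630000100002004f3000020000200233001030000200001004e3001c3000020000200002000020001300002000020000100002000020000200033000020010300002000010064300002000020000200002000020001300002000010000200002000020000200002000020015300002002d30000200002002830000100002002330024300002000020000100002003d300002000020000200153000020000100002001c300002000430016300023000020014300002000010000200002000f3003e3002230000200143002d30000200002002830000100263000020000200273000020000100002009430000200163001e30000200273001b30000200002003c30000200002000010000200133001d30000100002003c3004d300002000230000200003001d30043300002000010000200002002230000200143002d30017300002003d30000100002001e30000200133001d30017300002000010000200163002230000200002002d30025300002004430000100002000020000200002002c3000020000200002005e30000100803000020000200001000020000200002000020000200002000020000200001004e3001130032300002000020000200002000020000200001000020044300002000330000200002000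02000020000100002004f3000020000200002000020000200002000020000200002004d30026300002000010000200002003330000200001003f30000200002000020006300002000020000200001003f300033000020000200002000010000200002000020000200002000830000200002001d30000200002000020000200002000020038300001002a30000200002000020000100002000020000200143001b3001730000200002004d300373000020015300001000020000200002000b3000020000100002000730000200002004530000200002003f300093000020000100133000020000200002000020000100002000020000200002000020000200002000020042300002000020000100143000020000100002000b300002000020000200002000020000200563000020000100002000020000200002000e30000200002000020032300002000330000100153000e300002000020000200001004d3000020000200002000020000100002000020000200002000020000200002000020000200001000020000200002000020000200002000020000200002000020000200001003e30002300002000030000200002002e3002830000100002000020024300002 40 1099511627775 0 56896 64 = 65)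

theorem c890 : _root_.Cfsg.Agent.SporadicRecognition.CosetCert.Part C 56960 57024 64 := Cfsg.Agent.SporadicRecognition.CertFast.part_fast C alC 64 (by decide +kernel : Cfsg.Agent.SporadicRecognition.CertFast.runF C 20 1048575 0x200001001830000200002000d3000020015300002001d300001001130028300533000d30002300153000020000200173000020028300001002630002300243000020000100ea3001a3003c30000200033000020000200002002a300173000020000100002001630000200002000020000200001000020000200002000020000200153000020000200173000020000200002000020000200001000e30000200002001130000200001000020000200002000020000200001000020000200002000020000200002000020000200002000020032300002000d30000100002000020046300002001c300001004d30000200002000020000300463000020000200002000a300002000010000200002001b30000100002004f300002000d300002000020000200002004e30000200001000020000200002000020000200463000010000200053000f300002000020000200002000020000200001000020000200002000020000200002001d300002000020000100002000020000200013000020000200001000020044300002000d3002330010300002000010000200002000020000200002000230000200143002a3000010000200002000430003300002000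0200273001d300253000020000100f2300093002230000200002000010025300343000020000200002000020001300002000020000100002000020000200002000020015300002002d30000200002000020000100002000020024300002000020000100002004f3004d300163002230000200143002d30000200002000020000100263000020000200273002c300002000020000200002000010022300002001f30035300ea300002000020000200002002f30000200001001d3001930000200001004d30009300002000130000200002000020000100002000020000200002000020006300002004530018300001004d3000020000200002001430000100433002e300002004d300002000230000200003001d3000010000200002000f3000020020300002000e30000100002001a3000020004300033000020001300003000020000100002004f3000f3000d30023300103000e300001000020000200053000020009300002000130000300002000020000200001003930016300002001530014300001004530000200053000a300002000020001300003000020000200002000010042300002000020007300143000010033300002000530004300033000020000200133000020000200002000010039300093000020000200143000020000200002000b30000200001000020000200133001b3003b300002000020039300373000020030300001001d3000010000200002000f3000d30022300153000e3002d3000020000200002000010026300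2130024300273002c30000200002000b300002000010000200313001f3002a300002000020000200002000020000200001000020000100563001c300002003f30016300002000020000300001004330000200002000f300002000020000200003001d300173000020000200043001630000100002001330012300001000020028300002000930000200002000e3002d30045300002002830000100002000020000200273001b30000200002004f3000f3000d3000010015300133000c300001000020094300002000d30022300002000e3002d300002000020028300001003e300213000020027300001005630029300002000430003300002000020000300002004330000200001004d300002000020000200143001d300413000020000100002000020000200002001430000200002000010000200002000d3000020000200002000020043300113002830000100263002230000200273000020000200343000020000200163000010000200002000010043300293000020000200002000830000200003002a3000020000200053003f3000010020300002001f300463000020000200053000f300002000230000100473 40 1099511627775 0 56960 64 = 65)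

theorem c891 : _root_.Cfsg.Agent.SporadicRecognition.CosetCert.Part C 57024 57088 64 := Cfsg.Agent.SporadicRecognition.CertFast.part_fast C alC 64 (by decide +kernel : Cfsg.Agent.SporadicRecognition.CertFast.runF C 20 1048575 0x20000100002000020000200163002f300002000020000100002001830044300002000020000200303000020035300002000020000200002000020000200001000020000100002000020000200002000020008300002000e3000c300002006c30000200002000d300001000020000200463000010000200002003f30000200ac3000020000200002001930000200001000020000200002000020000200002000020000200002000f3000020000100002000020000200173000020000200002000020000200001000020000100002001830000200043000d3000020000200002001d30000200293000010039300002000020000200002004630000200113000530000100002001e300002000020000200433001c300002006b3002630000200001000020000100002001c30000200043000020023300002000020046300002000020000200002001630000100153000020000100002001c3000020004300163001e30000200002001d3000020000200001004d3000020022300002000020000200002000020000100002000020000200013000020046300001006c3003d300002003e300002000020000200001004e30034300443000020000200002000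020000200353001730000200001000020016300002000020000200002000020018300001003f300002002f30000200002000010043300002000020000200002000020000200002002a300333000020000100002000020000200002000e3000020000200002003c3000a300093000010000200002000010000200002000020000200002000020000200002000020000200002000020000200002000010000200002000020000100002002830000200002001e300002000e300002004130000200002000f3000020000100002000e3004630000100002004f3000f30000200ac30000200002002a300253001c30028300002000d30000100002001f30000200002000020000100493000d3000020000200002000020000100002000020000200002000020000200002000010000200002000020000200002000020000200002002c30000100002000020000200002002330000200002001d30000200002004f3000f30000200233000010013300353000010000200443000020000200023000020000200002003b300002000020000200001000020000200002000c3000020000200002000f3000d3000010010300002000020000100002000020000200002000020000200002000010000200183004f30004300033000020001300002000020000200113003c3000f3000d3001e300001000e3000020000200002004f300393003730000100002000020000100002001830000200002000020000200002000020046300002001a300002000f30016300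0010000200002000020000100002000020000200002002330000200002000020000200002003230000200373000010000200002000010000200002000020039300002000020024300002001d300253001c30000200001002630000200243000020000200002000020000100043000d300002000020000200002000020011300283000010000200213002430000200002000020000200001004d3000020000200002000020000100193001830000200393000020020300002001f3000020000200113002830000100263000230000200003000010000200113003d3000f3000d300002001030014300002003b3000020005300002000010000200002001330000100002000020000200002000020022300002000630000200002002b3000010004300002000020000200273001d300173001c3000010000200163002230000200143001b3000020011300001000020000200223000020014300001004e300343003d30004300033002230000200002002c300253001c30000100043001630002300002000020000200002001a3000530039300373000010000200002000020000100113005d30000200002000020000200002 40 1099511627775 0 57024 64 = 65)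

theorem c892 : _root_.Cfsg.Agent.SporadicRecognition.CosetCert.Part C 57088 57152 64 := Cfsg.Agent.SporadicRecognition.CertFast.part_fast C alC 64 (by decide +kernel : Cfsg.Agent.SporadicRecognition.CertFast.runF C 20 1048575 0x4630000100002000020000200002000020000200002001b300002000020032300002000930000100002000020000100193002e300002000f3002630000200002001f3004630000200002000020000100002002230000200002002c3000020000200002000a300002002330000200001000010000200002000020000200002000020015300002001d30025300002004f30000200483002230000100273001b3000020000200323000f300093000010000200063004630000100002004f300002000020000200002000e3002d3000010000200002000020000200083000020000200002000020000200001000020000200002000020000200002000020000200002000010000200002001030000200002000020000200053000f3000330022300001000030046300002000020000200001000020021300243002730046300002000020000200002000020000200001000e300002000020000100002000a300002000020000200002004630000100002004f300002000d3002330010300002000020000200002000020000200263000020000100473000010019300002000020000200002000020015300002001d30000200113000010000200033002230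00020014300001004330029300002000020000200023000020000300001004e3003430005300002000020000200002000020000200002001a3000010039300002000020015300002000020017300002000010000200002000020000200143000020000200002004f3000020000200001000020027300001000020034300053000f3000d30000200002000020000200173002e300001004d300163000020000200002000010054300002000020000200002000020000200002004630000100002004f30000200002002330000200002000010000200002000020000200002000020000200002004630000100002004f300002000020023300002000e3000020000200002000010000200002000020000200002000020000100002000020000200002000020000200002000010000200002000020000200002000020001300002000020000200002004f300002000d300002000010027300001000020000200002000020000200233000020027300463000020000200323000a3000930000100002000020000200001000020028300043000020000200002000020000200001000020028300002000020000200002000e3000020017300293000020000200163000020000100003002a30000200002003c30000200002001e30000100473002d30000200002000020000200163000010000200002000020000100113000020000200033000020000200002000010000200183000020004300033000230001300002000020000200002000020000100002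0022300103000020000100193001830005300002000020002300723000020000200002000020000100002000020022300153000020000100002001830005300043003730000200002000020000200002001c300001000f300163002230000200143001b300002001a3000020004300033000010038300003001b3000010000200002000020000200233000020000300002000010011300002000f300033000230000200002000010000200183004f30000200002002030001300002004630000200002000010000200002000020010300002002c300002001a3000020039300002000010000200002000010043300113004430000200002002f30000200473000020000100113004f300002000020000200002000e3003530054300002000020000200001000020000200002002a300002000020000200002003730000200002000010000100002000020005300043000330021300002000020000200173001c3000010000200163000020000200143001b300001000020000200393000d30000200383000020000200002001a3000020039300163000010015300002000020000200002000010049300002000020000200002 40 1099511627775 0 57088 64 = 65)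

theorem c893 : _root_.Cfsg.Agent.SporadicRecognition.CosetCert.Part C 57152 57216 64 := Cfsg.Agent.SporadicRecognition.CertFast.part_fast C alC 64 (by decide +kernel : Cfsg.Agent.SporadicRecognition.CertFast.runF C 20 1048575 0x100173001830000200043000020002300013000020000100193001830005300043000d3000020001300002000020000200002000010000200002000020010300002000020056300113004f3000f300263001e30000100473002c3000010000200002000020000200002000020000200001001930018300053000f3000020002300002000030000200173001c300001004d30000200223000020014300002003b3001a3000020039300373000010000200133000010054300002000020000200002002230000200002000020000100002000020000200002000020000200002000020000200002000010000200002000230007300002001b30000200002000b300393000020000100383000020000100002001830005300002000020002300723000020000200002001c300001004d30000200002001530000200002000010000200002003f300002000230000200003000020019300002000020000200002000020000200001000010000200002003230000200002000020024300002002d30043300002000020000200002000020000100002000010000200113000020000200002000020000200002001b3003b3001a300001000020000200002001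53000020000100002000020000200002000020000200002000020035300002000020000100002000020000200002000020000100193001c30000200043001630002300002000e30035300173001c3000020039300163000010000200002001d3000010000200002004d300002000230000200002001b300173001c30000200002000020000100383000020000100002000020000200002002630002300013000020000200001002e300002000020016300002000020000200001001930018300002000430003300023000130000200002000020000200002000010000200002002430000200001001930018300053000f3000330000200013000020046300002001c3000020000100002000020024300002000020000200113004f300002000d3001e30000100473002d30000200001000020000200002000020000200002000010054300293000020000200002000020000200002002a300253000020000200001000020000200002000020000200002001a300001000f3000020000200013000030000100193001830005300002000d30002300002000e30000200002001130000100002000d300223000020014300002003b3001a3000020039300373000010000200133002a3000010000200002000f3000d3000020000200002001d3001730000200001000020048300023000020000200001004e3001830000200002000020000200002000020046300001001130000200002000d300002000020000200002000010000200002000020000200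0020000200002002c300001001c3003d300002000020000200002000030000200193001830000100043010230000200002001f3000020043300113003c3000010000200023000020000200002004e300183004430049300001000020000200002000020000200183003d30004300033002f30000200001001d3004e300002000020000200002000020000200001000020000100002000020004300002000020001300002000010019300ec3002830000200002000020001300002002d300253001c30000100002000020002300153000030000100193002930000200043000020000200002000030000200002002e3000020000100002000020000200273000020000200113000020000200002000020038300001000020017300183000010004300093002230024300003000020000100113004f300043000020000200153000e30000200193002e30000200001000020002300243000030000200173001c3000020000200002000020000100002002d300002002e3000530000100002000020024300002002a300002001c3000020000200002000020000100133001d3001730000200001004d300002000020015300002 40 1099511627775 0 57152 64 = 65)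

theorem c894 : _root_.Cfsg.Agent.SporadicRecognition.CosetCert.Part C 57216 57280 64 := Cfsg.Agent.SporadicRecognition.CertFast.part_fast C alC 64 (by decide +kernel : Cfsg.Agent.SporadicRecognition.CertFast.runF C 20 1048575 0x10000200183000020004300033002330001300002004630000200002000020039300002000010000200002000020000100002004f30000200263003a3001030000200002002530000200002000010000200002002430000200002000010000200002000020000200002000020000200002000020000200001000020000200002000020000200002000010000200323000a3000930000200002000020000200002000020000100002000020000200002000020000200002001a300001003f3003e30000200002000020000200002000020032300043000330000200001000020000200002000020000100002000d300002000020000200002000010000200002000020000200002000020000200002004e30000200002004d300001000020000200002000020000200002000020000200263000020000200001000020000100002004f30000200002002330000200002002d3003b300002000020000200002000010000200002002d30000100002000020000200002002330010300002000020019300002000010000200002002130015300273000010000200183003d3000f300002000230000200003002a3000010000200002000f30000200002000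02001330000200002002e3000020000100002000020000200002002a300433000020000200493000010002300002000020000200001000020000200002000020000200013000020000200002000020000200001000020000200013000020000200002000020000200002000020000100103000020000200002001a300002000020037300001001530027300001001930018300053000430003300213000130000300002000010000200002000020000200002003830000200002000020000200002000020000100233000020000200002003b30000200002000020000200213000020000100002003b300002000020039300373000010038300002001d3000020000200001000020000200002000020000200463000010000200002000f3000930000200103000e3002d300002000020028300001000020023300103002730000100002001c3000020004300163000020000200133002d300002001130028300001000d3000020000200273001d3000020000200001000f300002002230000200143001d30000200113000010000200163000020015300002002c30000200002000020042300001002330000200002000020000200002000020042300001002330000200002000020000200002004f30049300583000020000200001001b3000020000200002003930037300001003830000200001004e300002000020039300002002030000200002002c3000020000200002004d3000020000100002000e300353000010000200002000020000200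023000020000200001001930000200002000020000200023000130000200002000010011300443000020000200002000020000200463000020018300283000010000200213000020000200002000020000200001000020000200233000020000200002001730000200001003f3001630000200002000e3001b3004e300113004f3000020048300002001030000100001001930000200053000020003300213000130006300002003b300002003230004300373000010000200273001b30000200002000020000100263000020015300143001d300173001c300001004d3001630022300002001430035300002001130000200493004830000200383000010000200002002e3000010000200163000020015300002000020000200002002830000200373000010000200002001d30043300002000010000200002002230000200143000020000200002000020000200263002f300002000010000200002001130000200043002630000100103000020000200001000020005300002000020002300002000e3002a300001000020000200002000020023300002000e3000020000200002000020000200001002030000200002 40 1099511627775 0 57216 64 = 65)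

theorem c895 : _root_.Cfsg.Agent.SporadicRecognition.CosetCert.Part C 57280 57344 64 := Cfsg.Agent.SporadicRecognition.CertFast.part_fast C alC 64 (by decide +kernel : Cfsg.Agent.SporadicRecognition.CertFast.runF C 20 1048575 0x200001001a3000530004300002002030001300002001d300002002b3000010000200002000020015300002002d300002001c3003d30000100002002330038300002001b300253002b30028300e9300263000010010300002002c30000100002003d3004d3000020000200002001330000200002000020032300002003e30000100002001f3003530000100002000530053300373000020000200002000020000200002003d30000200001002030000200002000010000200183003c30000200002000230000200003002a3004330000200001004d300002000020000200143002a30025300002003c300002000010000200002001f300463000010011300002000f300002000020010300002002d30000200113002830000100002002330072300002002d300253002e3002830000100002000020000200273001d300173001130000100f2300002002230000200143001d3001730034300001000020016300002000020000200002000020000200001004d30000200002000020000200002000020000200001004d30000200002000020000200002000010000200443000020000200203000020000200002000020000200002000430000200001000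020000200002000010000200002000f30000200002000020000200002000020000200001004d3000020000200002000020000100193002930000200002000020000200002001f3002a300002000020000100002000d300002000020013300002003b30000200001000020000200002000020000200002000020000200001000f30000200002000020000200002000010000200002000430016300002000020000200002001730000200283000020000100002000020000200002004130000200001000f3000020022300153000020000200193000020000200002000020000200001001f300002000020000200001000020000200002000020000200002000020000200001000f3000020002300002001f300002003b3000020005300002000020000100002001f30000200001000020000200002000020021300002000e3001d300002000020000200001000020000200002000e3000c3004330000200001004d300163000020000200273001d30041300002000010004300033000020001300002000020000100002003d3000f300373000020000200002000020000100002000530000200002000020000200002000c3004e30000200001000f300002002130007300002000c3004e30000200283003f300373000010000200002000010054300293000020000200263000020000200002002d30041300002000020062300001002f3000020000200002006830000200001004d30000200083000020006300002004130000200002000020000100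0020001300002000020043300002000020000200033000020000100002000020000100002004f300002000020021300002000e3000020043300002000020000200002000020000100002002a300001000020000200002000020000200002000e3000020000100002000020000200002000020000200133000020090300002000010004300002000020001300002000010000200002000530000200033000020000200473002a3000020000200002000a30048300002000020000100002000020000200001000430000200002000020000200002000020000200873004930000200002000020000100002000020000200002000020026300001000020000200002000020000200001000020000200002000020000200002000020000200001004d300002000020000200002000020000200002004430000200001000020000200002000010019300002000020004300033000020000200002000010000200002000b300002001630000200002000020000200001001a3003c300002000d3003a30000200003000020043300002000010000200002000230000200002000020000200002000010000200002000020000200002 40 1099511627775 0 57280 64 = 65)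

theorem c896 : _root_.Cfsg.Agent.SporadicRecognition.CosetCert.Part C 57344 57408 64 := Cfsg.Agent.SporadicRecognition.CertFast.part_fast C alC 64 (by decide +kernel : Cfsg.Agent.SporadicRecognition.CertFast.runF C 20 1048575 0x2c3000010000200443000020000200002000020000200002004e30000200001004930000200002000020000200002004530000200002000010000200002003130000200002004e300002004430049300001000020000200002000020000200002000b300423000930000200001000020000200002001c300002000f300033000010000200002000020000100002000020000200002002230000200002000020000100002000020000200002000020000200002000010025300002000020000200002000020000200002000020000200002000020000100002000020000200002002a300001001c300002000a3001630000200002000e3001b30000200002000020000200093000010001300002001b300002001a300323006b3002630000100303000020000100002003430000200002000020000200013000020000100433003430000200043000020002300002000020000200002002e300002000010000200213000020027300001005430034300053000020026300002000020000200353000010000200002004d3000930000200002000020000200433000020000100002001630000200002000e3002a30017300002003c300001003e3000020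000200273002d300453002b30000200002000010000200243001f30000200002000010000200002000020000200002000030035300001002e3004f3000f3000d3002330000200002000020025300183000b30000200002000020000100133000020000200002000010000200033000020000200143000020000200002000020000100002002330024300002000020033300002000010000200002000020015300002000020000200002000010000200002001e30000200002000020000200002003c30004300263000010000200002001d30000200002000010000200002000020015300002004630000100113004f300002000020022300103000e3002d300001000020028300002002630023300002000e30000200173001c3000010000200002002230000200143002a3000010011300002000f3000d30023300002000e3000020000200183000020000100002001e30000200273001b3003b3001a300002000f3003730000100002001330000200002000020000200001000020000200243000e3004630000100002004f30000200002002330010300002000020000200001000020000200002000020007300002000020000100002000530000200002000020010300002002d30000200002000020000200002000230000100133004630000100002004f3000f3000930000200002000e300002001930000100002000a30016300002000020014300001000020011300002000f3000d3000020000200133004630033300002000020000100002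001e3000020000300002000020000200001003f3001630000200002000020000100433001c3000020000200002000230000200133002a3000010000200ab300002000330021300002000e3001b301003001c3003230039300373000010038300133000010000200002003d300002000020000200002001430000100453001c300f0300002000020021300002002730046300333000020000100002000020002300002000030000200453000020005300043000020000100013000020000200001001130005300043000020002300002000e3002d300002001c3002830000100002000020000200273002a300001001c3003d30000200002000020000200003001b3003b3001c300323000f3003730000100002000e3002d30000100113002830000200263000230001300273001d300253001a3000010000200163000020015300273002d300173002e30000200001001630023300723001430000100002001c30032300e9300263000020015300002001b3000010011300002000f3000d3002f30015300002002d300002001c3002830000100263000020024300002001d300001001c3004f30000200033002230024300002 40 1099511627775 0 57344 64 = 65)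

theorem c897 : _root_.Cfsg.Agent.SporadicRecognition.CosetCert.Part C 57408 57472 64 := Cfsg.Agent.SporadicRecognition.CertFast.part_fast C alC 64 (by decide +kernel : Cfsg.Agent.SporadicRecognition.CertFast.runF C 20 1048575 0x200001001130000200002000020002300002000020000200001000020000200002000020000200002000e300001003b3000020000200002000020000200002000020046300001000020005300002000d3002330000200002000020041300183000020004300001000020000200002000020045300001004430049300002002f3003030000200002003b30000200053000020000200001003830000200002004530000100002000020048300002000020000200002000020000200002000010000200223000020000200002000020000200001004d30016300002002430000200002000020000200283000020000200002000010000200002000020011300001000430000200223000020000200002004e3002e30000200043000d3000010000200002000020000100002004f30000200002002130000200002000020000200001000020000200002000020000200002000020000200002000020000100002000020000200002000020000200002000020000200002000010000200002001d30000200002000010000200002000230000200002000020000200183000020000100002002330000200002001d300002001c300001003f30000200223000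02000020000200253001c300001000020000200002000020000200463000010011300002000f3000020023300002000e300001000020011300283000f3000020000200103000020000200173000020000100043003730000200153000020000200001000020000200002004830023300103000020000100002000020000200002000020023300153000020046300002001130028300001000020021300243000020000200663001a300001004d300002000020015300002002c30043300002000020004300002002f30000100002000020000200002003230000200002000010000200002000020017300002000010000200483000020000200002001d300002000020000100002000020023300002000020000200001000020000200002000020000200002000020000200002000020000100002000330000200013000020000100002001830000200043001630000200013000020000200002002e300002000010016300213001530000200001004330000200053000020048300002000020027300002004e3001c300001004d300163002230000200002002c30000100002000020000200002000020038300002001d3004e3000020000100002001630000200153000020000100002001c300002000430000200023000020000200002000020000200001004d300002002230000200002001d3000020000200001004d30016300002000130000200002000020000200001004d300002001e30000200002000020025300002003c3000020037300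0010000200002000010000200002000020004300373000020000200002001b3000020000200001004d30000200233000020000200001004e300002000020000200002000020000200002000010000200002009430004300002002230000200002001b30000200002000010000200002000020000200002001d3000020000200443000f30009300001001030000200002002530000200f0300001003730002300002000020000200413001a30000200393000010000200002000020000200433002e3000020062300033000020000100273002d30000200002003c30000200033002330000100002000020000200002003230000200002000010000200002000020000200002000020000100002000020000200002002a300001001130005300002000d3002330010300002000020043300002004430049300373000010038300002000020017300002000010004300373000020000200002000010000200002000020000200002000020000200002001d3004e3001c300001004d3000020022300153000020000200001000020000200002000020000200002000020035300433002b3000020000100002000020000200002 40 1099511627775 0 57408 64 = 65)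

theorem c898 : _root_.Cfsg.Agent.SporadicRecognition.CosetCert.Part C 57472 57536 64 := Cfsg.Agent.SporadicRecognition.CertFast.part_fast C alC 64 (by decide +kernel : Cfsg.Agent.SporadicRecognition.CertFast.runF C 20 1048575 0x2003b3002e300002000020048300001003830000200002000010011300053000430000200233000020000200002000020000200001000f300002000020000200002000020000200001000020000200002000020000200002002d300001000020000200002000d300213000020000200001004e300343000020000200002002f30000200002002d300002001130000100002001630023300013000e3000020025300002000530000100002002f3000020000200002004130029300002005e30000100002000020014300002004e3002e30000200533001630000200002000010012300253000020000200001002630000200303000020012300433000020000200002003e3000020000100273001b30000200113000010039300263000020010300002000020000200002004f30000100002000020000200003000020000200002004f3000a3000d3000020000100002000020000100002000b3000020026300002000020000300002000020029300002000010000200002000020000200002000010000200283000020000200203000020000200001004e30000200002003930003300002000020000200353000010011300002000f3000d300002001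0300002001b300002000020005300393003e3000020000100473001d300002001c3000010000200163000230000200143001b300002001c300323000020037300001003830000200002000020000200002000010000200213000020000200002000010000200002000020000200002000020000200002000020000200002004d3003730000100002000020046300002000020000200001000020022300002000020000200002002e3000020000200373000010001300002000020000100002000020000200002000020000200002002d30000100113005d300002000d300002000020014300001003b3001a3000020053300033000020038300473001b3003b3001a3000010000200163000020024300003001b3000010000200323000f3000d30000200103000020000200001000020005300002000d30022300002000020000200001001c30028300002000d30002300002000e300001000020018300002004d3000330000200002000630035300002001c300001000020016300023001530000200002003b3001a3000530000200263000010024300002004630000100002000020000200002000020010300002001b300001001a3004430000200002000020000200002001d30000100002000020000200002001e300002000020000200173002b30000100002000020000200002001f3000020000200002000010000200002000020000200003000020000200002000010000200002000020000200143002c300001001c300002000020000200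0020024300002002d300413002e3004f300001000020021300103000e30000200002001c3000020039300001000020001300002001d300973001c300002000f300033000020000100002000020017300002000020000200163000010015300143000020000200002000010000200002000230000200002000c30000200002000530000200033000010001300133002c3000010000200002000020000200002000020027300002000020000100002000020000200002000020000200001002530018300053000020000200023000020000200002005730000200001000020000200223000020000200001005b3000020000200002000020000200002000020000200001000020000200002000020002300002000e3001b300002001c3000010000200002000020024300133000020043300002000010000200002000020000200143000020000100002003d30000200002002f30000200002000010000200002000020000200002000020000200002000020000200002000020000100002002130000200002000010000200183002830000200002000230001300002002d3000020000200001000f300163002230015300002 40 1099511627775 0 57472 64 = 65)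

theorem c899 : _root_.Cfsg.Agent.SporadicRecognition.CosetCert.Part C 57536 57600 64 := Cfsg.Agent.SporadicRecognition.CertFast.part_fast C alC 64 (by decide +kernel : Cfsg.Agent.SporadicRecognition.CertFast.runF C 20 1048575 0x1b30041300002000020000200001002f30000200002002a3001930000200001000020016300002000020047300002004130000200002000020000100002000020000300001004e300002000020000200093000020000200002002a300253001c30000200001003e3000020000200002000020000200183004f3000020000100002000020000200002000020000200001004d300002000020000200002000020000200002000b3009c30003300001000020000200001000020000200002000020000200002001030000200002002530000200002000010000200002001530000200123004330000200002004d300002000020000100133001d30000100002000020000200002002230000200002000020000200002000020000100002001e300002000020000200002000010028300002000330000200002000020000100253002e3000020000200033002130000200273002d300253000020000100002001630000200002001430000100002000020005300002000020021300002000020000200002000020000100002000d3000020024300002002d300002000020000200002000d3000010000200273000c3001730000200001003f300002000230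000200002000020000200001000020000200002000230000200002000010019300183003c30039300002000020038300002001b30000200002003230000100002000020000200002000020000200002000020000200093000010038300002001d3000020000200001000f300163000020000200143002d300002002e30000200001000020021300243000e3002c30000200002003d300393000010008300313000e300463000010000200002000f3000d30000200002000e3002a300001001a3004f3000f3000020000200002000e30000200002000020032300002000330000100383000e3000010000200002000020004300093000020000200003002c30000100002004f3000f3008930023300002000e3002a30017300002000020042300002000010000200002001b300001000020005300002000020000200002000020000100253001c300002004d300163002230000200143001d300002001a3000020000100033002130000200273004630000100113004f3000f3000d30000200002000e300002001730000200001000020000200002000020000200002003b300002000020000200002000010000200002001d30000200002000010004300002002230000200002002d3003b300002000020000200033000010000200002004630000100002000020000200002002130000200143001d300173000020000100002001630000200002000030000200001001130000200533000d3000020024300133000010019300002000020000200002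0000200002000020046300001001130000200002000020000200002000e30000200002000020000200002005530000100002000e3002d30000200002002830000100002000020000200002000020000200183000020000100002002330000200002001d300002001c3000010000200002001e30000200002001b30000200293003c30000200373000010000200273000020000100002000020000200002000020000200002000010000200183000530000200033000230000200002000020000200002000010000200163002230000200143000010000200002000020000200033000020000200002000020000200002000020000100002002330000200273000020000200002000020000100002002130000200273000020000100113004430000200002002330000200002002a3000010000200002000f300002000020000200002000010000200002000020000200002000230000200003000020000200002000020000100002002130000200273000020000100002004f300002000020000200002000e3001d3001730018300001003f3001630000200013004730000200002001c3000010004300033002230000200002 40 1099511627775 0 57536 64 = 65)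

theorem c900 : _root_.Cfsg.Agent.SporadicRecognition.CosetCert.Part C 57600 57664 64 := Cfsg.Agent.SporadicRecognition.CertFast.part_fast C alC 64 (by decide +kernel : Cfsg.Agent.SporadicRecognition.CertFast.runF C 20 1048575 0x2000020000200001003f3000020000200002001430000200001000020028300002002630000200002000e3000010000200183000530004300002000020001300002000010000200002000020000200002000020001300002000020000100002004f300002003e30000200002000e3000010000200002000020000200033000230000200003000010000200002000020000200002000020000200003000020000100002004f3003f3000020000200002000e300002001730000200001004d300163000020000200143000010043300002000020004300002002230000200003000020000200002000020000100002001e30000200273001d30000200002000010000200163000020000200143000020000200113000020000100002002130000200002000020000100002000020000200033000020000200002000020000200002000010000200002000020000200002004630000100113002830000200002002330010300002000010000200002003d3003f300002002330000200003000020000200113000010000200033002330000200143004630000200113004f30042300373000010038300133002d30000100002004f3000020000200233000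020000200001000020000200002000f3000020000200002000030046300001000020028300002000330000200002000e3002a3004330000200001004d300093000230000200143004630043300002003c300001000d3002130000200273002a30019300183000b3000f3000010000200002001f3000020000200002000530000200033001e3000010047300002005630029300053003f3000020000200001004730000200002002e3000010000200002000020015300273000020000100293004f300002000020021300002000020000200001000020005300002003e30023300002000020046300001002e300002000020000200002000020000200002001930000200f0300002004830000100013000020000200253001a3000020000100002000020000200002000020000200002000530000100002002130000200133004630000200002004430039300093000020000200001000020000100002004f30000200002000020000200002000010043300002000020000200033000020000200133002d30000100113004f300002000d30000200002000e30000200193001a30005300773002630000100383000e3000020000100002004f300002000020000200002000e30046300001000020087300002000d3000020000200002000020000100002000020000200002000020000200002000020000200002000010000200002000020000200143000020019300002000b3000020037300001000130000300463000010011300002000020000200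00200103000e3001b3000020000100002000a30016300002000730006300001004e3003430000200043000020000200013000020000100413000020005300002000020000200013001f30000200002002e300001004d3001630022300153001430000100503001c30000200002000020000200013000020046300253001130000200001000d300002002430027300001001930000200f030000200002000020000200002000020000200001000020000200002000830000200002001d3000020000200002004d300033000010000200002001230000200002004430000200033000010000200002000020000100002003c300002000020000200002001330000200002000020000100002000020022300002000030000100002001a300323000430003300002000130000300002002530000200283000010026300002002430027300001004e300183000020000200002000020007300002004630000100002004f3000f3000d3002330000200063002c300002000020000200001000020000200002000020000200002001c3000010000200002002130015300002000c3003b300002000010000200163000020000200133 40 1099511627775 0 57600 64 = 65)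

theorem c901 : _root_.Cfsg.Agent.SporadicRecognition.CosetCert.Part C 57664 57728 64 := Cfsg.Agent.SporadicRecognition.CertFast.part_fast C alC 64 (by decide +kernel : Cfsg.Agent.SporadicRecognition.CertFast.runF C 20 1048575 0x20000100002004f3000020000200002000020000200002004130000200002000a30000200223000010014300002006530000200002000f300002000010015300002000020000200002000020039300002000010000200002000020000100183004f30000200002002330000200003000020000100113004f300002000330021300002000020000100193000020000200002000020000200002000020000100193000020000200002000020000200002000020035300002000020000200002000010020300002000020000200001000020044300393000d300002000020000200463000020011300002000f3004830000200002000010000200001001130000200002000d300002003830000300002003b3000020032300002003e30000200001000e300002000020000200002000020037300001003830027300002000020011300002000f300002000020000100002001d30000200002000010004300002002330015300002001b30000200002004f30000200373000010030300002001d300173001c300001004d300163002230000200002001b3003b3002e30000200002003730000100383000020000200173001a300002000430003300001000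020000200002000020000200001004d3000020000200002000020000200001001130000200002000020000200002000020000100002002b3000020000200002000020000200002000020000200002000020000100033000020000200002000010019300002000020000200002000020000200002000020000200002000020000200002000020000100002000020000100002000020000200002001e30000200143000020000200002004f30000200002000020000100002001230000200002000020039300373000010000200002000020000200002000020000200163000010038300002000020019300002002830000200373000010001300002002d30000200002000020000100002002130001300002000020000200002000010004300002000020000200002000010000200113000020000200002000230024300002002d300001000020000200002000020000200002000e300002000020000200001003f300033000020000200143000020017300002000010004300033005a3000130000200001000020000200002004d300093000230015300002001b30017300002000020039300373000010038300133002d30000200002000020000100002001e30000200273001b300173000020000200e9300373000010015300133002d30025300002000020000100263000020024300002002c3001730000200002000020000100002003130000200002004130000200001004d300002000020000200003002d3000020000200002000010000200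0020000200273003530017300002000020000200163002f3001530000100002000010000200283000020000200213000020047300002004330000200053000a3000020000200002000010046300001001c30000200002000020000200103000e3000020000100002004f30000200002000020010300002000010000200002000020000200002000020000200002000020000100002000020000200002000020000200002001d3003b3001c3000020000200483000010000200002000020000200113000020004300002000010001300002000020000200002000020000200002000020000200001001d3000020000200001000f300002000020015300002002a30000200002003c30000200002001e30000100002002d30000200002003c3000010000200213000020027300002001730000200001003f3000020000200002001430046300001000020000200533000020000200002000e3001b3003b3001a30032300393003730000100002001330000100002001130005300043000020002300002000030000200002002e3003230000200373000010024300133000020025300293000020000200373000010000200133 40 1099511627775 0 57664 64 = 65)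

theorem c902 : _root_.Cfsg.Agent.SporadicRecognition.CosetCert.Part C 57728 57792 64 := Cfsg.Agent.SporadicRecognition.CertFast.part_fast C alC 64 (by decide +kernel : Cfsg.Agent.SporadicRecognition.CertFast.runF C 20 1048575 0x1d300173001c300001003930000200002000020000200002003b3001c3000010000200002000020000200002000020000100002003230049300002000020000200002000020017300002000010000200002002230000200002000020000200002000020000200093000010000200003000010000200183004f300002000330000200002000020012300002001a3000010000200163000020000200002002d30000200002000020000100263000830000200002001b300002000020000200001002630000200002000e3001d300002001a3000010000200163002230015300143000010000200183000020000200033000020000200002001b30000200183000020000100263000020024300273001b300001000020000200002000d30000200002000020000200653000020000100002001630000200002001430000200001001130044300533000d30021300303000020000200ea300002003c3000010026300002000020000200002004e3001a30032300043003e3000020000100002002c3000020000100002000a3001630000200002000e300002000010029300002000f3000d30000200002000e3000020000100002000020000200002002f30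00020000200001000020011300002000430000200002000020000200002000020000200001000f3000020002300002000020000100543002b30000200043003e3000020000200002000020000100002003d30000200002000020000200002000020043300002000020000200373000010000200002002c3000010000200002000f300002000020000200002000020000100002000020000200002000020010300002000020000100002000020000200002000020000200002002d300173001c300001004d300163000020000200143001d3000010000200002000f3000d30000200002001430000100002001c300002000f3000330000200002000020046300001006c30000200002000020000200002000020000200002001c30000100043000330022300153000020000200002001a3000020000200373000010000200002000020017300002000020039300373000010015300002000020000100002000530000200002002330010300002001d3001730000200001000f300002000020000200003000020000200113000010004300002000020000200002000010000200002000020000200002000020000200063000c30000200002004f3000a3000d30000200383000010000200002000020000200002000020000200001000020000100193001830000200043000330000200013000e30000200002000020028300001000020023300313000e3000010000200183000530004300002001e300002000e3000020000200002000010042300002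002330000200273004630000200002002830000200002002f30010300001001b3006630000200001000f3001630000200153000e3002a30000200002004f300002003e3000020000100002000020000200002000020004300093000010000200002000020000200002000020000100002002130000200002000010000200113003c30000200033000020000200002002a300002001a3003c30004300373000010000200002002a3000010000200002000f3000d30000200002001430000200002000020000200393003e3000020000100003001d300002000020000100002000020000200243000020000200002000020028300002003730000100383001330000200253000020000100423003e3002230000200143001d300453000020000100f2300002000230000200143002a30000100002003c300002000020000200002000e3000020000200002000010004300002000020000200002000020000200002000020004300002000010000200002000010000200002000020000200002000230001300003001b30000200002000010000200002002330000200002000020019300002000010000200002000020015300143 40 1099511627775 0 57728 64 = 65)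

theorem c903 : _root_.Cfsg.Agent.SporadicRecognition.CosetCert.Part C 57792 57856 64 := Cfsg.Agent.SporadicRecognition.CertFast.part_fast C alC 64 (by decide +kernel : Cfsg.Agent.SporadicRecognition.CertFast.runF C 20 1048575 0x1001930018300053000f30000200023000020000300002003b300002003230039300373000010000200133000020000100002004430000200002000020010300002000010033300002000020000200002000020000200002000020000100002004f3000f300002000020010300002000010000200002003c30000200002000020000200063004630000100002000020000200002000020010300002000010000200002000020000200002000020000200133001b3000020000200f03000f300093000020000200001000020025300002000020000100002000020000200143001d3001730000200001004d30000200223002430000200001001930029300002004d300002000020000200002001d30000200002003c300001000020000200103000020000200193000020000100002002630000200153000020000200002001a30000200002000330000200001000e30000100193001c300002003f300033005230000200003004630000200002000020000200093000010038300143002a3000010000200002000020026300213000020027300002000020000100002000020000200083000730000200001000020000200002000020000200002000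13000020035300173002e300002000020037300001000020000200001000020000200002000020000200002000130000200001004330011300053004d300033000230000200143001d300002000020000200001001630022300002001430000200413001c3003d3004d3000010022300002001f3001d3000020011300002004d3000020000200013000010000200002002e3000020000200001000230015300003000010025300002000020000200002000020001300002002d300002000020028300002000010022300153001430000100193001830005300002000330002300013000030000100193001830000200043000020002300013000030000200002000020000200001000020000200243000020000100193001830000200043000330000200002000020000200002002e3000020000100263007f300002002730000100002001830005300002000020000200002000020000200002000020000100002000020022300002001430000200002001c30000100002001630000200153000020000100002001830000200043000020002300013000e30000100193001830005300043000020000200013001f30000200002000020000100002000020000200153000020000200253001c3000020000100263000020015300003001d300002000020000100002000020000200153000020000200002000020000200002000020008300001000020000200002000020000200002003730000100013001330000200453001c30000100002000d300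2230000200002000020000200002002830000100002000020031300002002d300001001c3000020000200002000020000200003004630000100113004f3000020037300233000020000200002003b3001c3000010000200002000230000200002000010043300002000020000200002000020000200273002a300253000020000200001003e3007f3000020013300002000020000200002003f300001000020000200003001d300173001c300001004d30016300223000020014300002000020018300002000f3003730000100073000020000200253002e30000200001002630000200002001330000200253001c30000100002000020000200153000020000200413002e3002830000100002000020000200273000020000200002000010042300002000020000200133000010019300343000020000200002000020000200002003530000200113003230000100263000020001300002000010000200002005d30000200002002330000200002002d3000020000200001000a300373002330024300002004630017300002000020039300033000010000200002000020000100002000020000200483000020000200002 40 1099511627775 0 57792 64 = 65)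

theorem c904 : _root_.Cfsg.Agent.SporadicRecognition.CosetCert.Part C 57856 57920 64 := Cfsg.Agent.SporadicRecognition.CertFast.part_fast C alC 64 (by decide +kernel : Cfsg.Agent.SporadicRecognition.CertFast.runF C 20 1048575 0x20000100113000530004300033001e300002000020000100002001830000200043000330002300002000030000100002001830005300043000330002300013000020000200573001c300001004d300163002230015300002001d30000200183000010000200002000830000200002004630000200002000020000100002002130000200002004630000200002000020000200001002f300002000020000200001001130005300002000020000200002000020000100193001830000200043000330000200013000030000100193001830000200002000330000200013000030000200001002e300002000020000200002000020000200001004e3001830005300043003730000200002000020000200002001c300001004d300163004a3000020013300002000010000200323000020003300002000130000200001000020018300053000020000200023000130000200001004e300002000020000200263000020000200002000020000100002004f300002003e30023300002000020000200001001130000200043000d300023001030000200001001930018300053000020003300023000130000300002000020000200002000020037300001003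83000020000100193001830000200043000020000200013000030000200002002e3004f300001000020000200243000e300002004530000200002000f3000020000100013000020000100193002b3000020039300002000020000200002001b300002001a3000020000100002002330000200002000020000100113000530004300033001e300002000030000100002001830000200043000330002300002000030000200002001130028300001000d3002330000200273001d30000200113000010000200002000230000200002002c30000100002004f300002000020000200002000020000100253001c300002000020000200002000020000200353002530000200002000010026300002000020000200353000010000200443000020003300002000020000200002004e30000100002000430000200002000130000200001001930018300053000f3000330002300103000020000200002001130000100002000d3002230015300002002d3000010000200002000020000200233000020000200002003b3001a3003230039300373000010038300003001d3001730000200001004d300163002230000200143004630000100002000020000200002002330000200002001d3000020000200001004d300163000020015300143004630000100002000020000200002000020000200002004630000100002004f3000f3000020023300103000020000100002001830032300002000330000200002001330000200001000020000200002000d300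233001030000200001001930029300002004d300163000230000200143001d3001730011300001000f300033000020000200002000020045300002000020000200002000010000200002000010000200002000020000200002001e30000200003002a30025300002002830000200263000010000200273000010043300002000020000200002000020000200003002a300253000020000200001000020000200002002730000200001000020000200002000020000200002000020000100193003430000200043000330002300013000020000200253001c30000200001002630021300153000020000100002000020005300002000020000200103000020000200173000020000100002000020008300153000020000100193001830005300002000d300023000020000300002003b300293003230039300373000010038300133000010000200002000020000200002000830000200002000020000100002004f30000200002000020000200002000010000200002000020000200002001e30000200002000010000200183000530000200033000020001300002000020000200002004f300002003e3001e30000100473 40 1099511627775 0 57856 64 = 65)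

theorem c905 : _root_.Cfsg.Agent.SporadicRecognition.CosetCert.Part C 57920 57984 64 := Cfsg.Agent.SporadicRecognition.CertFast.part_fast C alC 64 (by decide +kernel : Cfsg.Agent.SporadicRecognition.CertFast.runF C 20 1048575 0x20000200002000010000200002000020000200143001b3003b300002000b30039300373000010038300133002a30043300002003c3003f3003e3001e300001004730000200002000010032300002000020000200002000020000100002001a30000200043000020000200002000020000200253000020000200001000020000200002000020000200173002e30000100002000020000200002000020000200173001c300001000020000200002000020000200001004e300343000020004300002000020000200002000020000200002000020000100002002130000200002000020000200002000020000200002000010000200002002a300001000020000200002000020000200002000e300002000010000200002000020000200002000020000200002000010000200002000020000200002000020000200001004e30029300002000020003300002000020000200002000020000200001004d3000020000200002000e300002003b30018300002000020037300001000020000200002003b300002000020000200373000010000200003000020000200002000020000200001002330000200002001b3000020000200053003930037300001000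0200002002c30000200002000020000100002002330000200002000020043300002000020000200002001e3000010047300002004330000200002003f300002000020000100473000010000200002000020004300002000020000200133001b3004e300002000020039300373000010030300002000020000200002000020000100002002130001300002001d3000020000200002004d30000200002001530000100002000020000200002000010000200223000020000200002000020034300001004d300002002f30024300002002a300001000020005300002003730000200002000e3001d3003b3001a3003230039300373000010038300002000020000200002000020000100002002130000200002000020017300002000020000200163000020000100133001d300001000020000200002000020036300002000e3000020000200002000530000200002001e30000100473001d3003b30000200002003930037300001000020006300002000020000200002000010000200f33000020000300002000010000200002000020009300233000020006300002000020029300001004d300033000020000200273000020045300002002830000200002002330000200001002d30033300002003c300002000d3000020000100002000020000200002000010000200002000230007300002000020000100002003d30000200002000020000200002002c3000010018300443000a3000020000200002000020000200ef30011300053000010000200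002000020000200002008e30000200002003f30000100002000020000200002000020000200002000020000200001000730000200002000020000200001000020000200002001530000200002000020000200002000020000200213000010000300002000020000200001003f300163002230000200143000020000100002000020004300002002130010300002000010000200002000020000200002002030000200002000010000200002000020000200002000020000200002003530000200002000010049300002000020000200002000020000100002004f30000200002000230000200002002c3000010000200002000f300002000020010300002000020000200113000020039300002000010010300002004630000100002004f300002000d30021300103000020000200002000020000200002003e3000020000100002000020019300002000020000200002000010000200002000020000200002000020000100002000020000200002000020000100002000020000200002000020000200002000020000200002000020000200002000020000200001000010019300183000020004300033000020001300003 40 1099511627775 0 57920 64 = 65)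

theorem c906 : _root_.Cfsg.Agent.SporadicRecognition.CosetCert.Part C 57984 58048 64 := Cfsg.Agent.SporadicRecognition.CertFast.part_fast C alC 64 (by decide +kernel : Cfsg.Agent.SporadicRecognition.CertFast.runF C 20 1048575 0x2000020000200001004d300163002330000200002000010000200343000020000200002000020010300002001b300002001a300002000020037300001000020000200002001730000200001000430000200002001030000200001000020018300283000020000200002000020000200002000020000200001000430000200002000020000200002000020000100283000020000200002000020000200002001730000200001000020000200002000020000200001000020018300002004d300093002230000200002001d300002001c3002830000100263000020024300002001d300253001c300001000020003300002000020000200002002530000200001004d30003300223000020000200001004e3002e30028300002000d30000200002000020000200002002e3000010004300163002230000200002002d300002001130000200002000d3000010000200002000010041300002000530000200002000020000200002000020000100002003d3000020000200002000020000200002000020000200001000020000200002000020000200001003b30018300002000020000200002000020000200001000020018300002000f30000200002000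0200002000020025300002000020000100002002f30000200002001d3001730000200001000020003300213000020000200353000010000200002000020000200002000020000200002000020000100002000020000200002000020000200001004e3000020000200002000d30000200002000020000100002000020000200002000020000200002000020000100002001130000200002000020000200103000020046300002000020000200002000020000200001000020000200173002e300001000020000200223000020000200001000020029300002000f30000200002000020000200002004e300002000010004300002000020000200002000020000200002009430000200002000020000100002000020041300002000010042300002000020000200002004630000100002003d3000f30000200002001030000200002000020000200001000020000200002000020000200463000010000200002000f30000200233000020000200002000020000100002000020000200002000020000200002000020000200001004d3000020000200002000020000100543001c3000020000200002000020000200002002a30025300183000020000100002000830000200002002a300193002e3000020049300001000020000200002000020000200002000530004300263000010000200002000010000200183000020000200163002230000200002004630000200002002830000100263002330000200002001d3000020000200001000020003300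0020000200002000c300173000020000100002000020002300002000020046300001002e30000200002000020023300002000020000200253000010000200002000020021300002000020000200002002e3002830000100002000020000200003000020000200002004f30000200001002f30000200002000020000200001002830000200002000020000200002000010000200183004f30000200002000020001300002000020000200002003c30000200002001e300001004730000100002001830005300002000020000200013000030000100193001830000200002000020002300013000020000200001000020000200002000020036300002000e3000010000200002000020000200163000020000200003001d3003b3002930000200393003730000100002001330000200001002930028300002000020000200002000e3000020043300183000020000100002000020000200273002a3001730000200ab300002000d3001e30000100143002d30000200002002830000100263001e3000020027300002000020000200002000020000200002000010000200002001930000200001003f300002000230000200143 40 1099511627775 0 57984 64 = 65)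

theorem c907 : _root_.Cfsg.Agent.SporadicRecognition.CosetCert.Part C 58048 58112 64 := Cfsg.Agent.SporadicRecognition.CertFast.part_fast C alC 64 (by decide +kernel : Cfsg.Agent.SporadicRecognition.CertFast.runF C 20 1048575 0x3530054300002004f3003930000200001000020000200002000010000200002000020000200002003830000300002004e30000100002000020000200002000130000200001004e300002000020000200002000020000200002001d3000020000200001005330000200223001030000200001004330000200002003930000200002000020027300002003b30000200001004d30000200002000020000200463000010000200323000f30000200233001030000200463000010000200002003930009300002000020000200001003b300183000020000200002000020000200002004630000100002004f3000f3000d30000200002000e30000100453001a300002000020000200002000020000200002000010000200002000020000200002000020000200002000020000200001004d300002000020000200002000020000100002000020000200002000020000200002000020000200001000020000200002000020000200002000020000200113002830000100033000020000200002000020000200001000020000200002000020000200002001d30000200002000020039300002000010000200002002c300001001a3003d30000200002000020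01530000200002003b30000100002000430026300002000020014300001004e300183000b300002000020000200002000020000100002002e300002000020000200002000020000200353000020000200001000a300002000020000200002000010017300002000020000200002000020000200002002c300173001830000200001000020000200002000020035300193001c30000200002000010000200002000020000200002000020000200043001630000200001000020000200001000020028300043000d3000020010300002000020033300183000020000100002000020000200063001b30000200002004f3004d3002630000100243000e3002d30000200002000020000100002002230015300273001d3000020000200001004d300033000020000200002004630000200002000020000100002002330000200273002a30000200002000010000200002002230000200143001b300193001130000200043002630000100013000e3000020000200002000020000200002000020000100002000020000200343000b300393004830000100383000020000200001000020000200002003e300233000020000200002000010000200002000020000200083000020000200002000010011300002000f300002000020000200002001b30000100002003d30000200002000020000200002000010019300183000530000200002000020000200002000010019300183000530000200033000230001300003000020000200002000020000200002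00001000020000200001001930018300002000430000200023000020000300002000020000200002003930037300001003830000200002000020000200002004d300002000010024300002001d300001001c300002000f3001630000200153000020000100193001830000200043001630000200153000020000200173001a3000010004300002000020001300002000c3002530000200002000010000200223000020027300002001730000200001000020009300002000020014300002001730000200001000020026300002000020014300002000020000100002000a300002000020000200063002d30000200002002830000100002002130000200273001d30017300002000010000200033000020024300002001d3000020000200001000020000200223000020000200463000010000200002000f3000020008300002000e3001b3003b3000020000200393003730000100383000020000200002002b30000200001000020000200002000020000200002000020000100002000330080300002000020000100253001c3000020000200002000020000200002001d30017300183000020000100033002f30001300002 40 1099511627775 0 58048 64 = 65)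

theorem c908 : _root_.Cfsg.Agent.SporadicRecognition.CosetCert.Part C 58112 58176 64 := Cfsg.Agent.SporadicRecognition.CertFast.part_fast C alC 64 (by decide +kernel : Cfsg.Agent.SporadicRecognition.CertFast.runF C 20 1048575 0x200001001130028300002000020020300243002730000100173002e3000020000200002000230000200002004630000200001000b300002003730000200002000020000100173000020000200043001630002300013000020000200002001c3004f3000010026300002000020014300002000020000200001000f300033002130000200002000020025300002000020000200263000010000200002002d3003b30000200323000020000200001000020000200002001930000200001004d3000020000200002000030000200253001c3000020000100002000020000200003001d300002003430000100002000020002300153001430000200001000020005300002000020000200002000020000100253001c30000200002000020000200002000020000100002000020005300002000020000200002000020000200002001c3000010000200163002230000200063001b300ea30000200323000020037300001001530000200002000010000200283000020000200002000020000200001002530018300002004d300002000020001300273001d3000020000200001004d30048300002001530000200002000010000200002000020000200002000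020000200002004e30000200001004d30000200002001530000200002000010000200443000020000200002001030000200002000020000100002004d3000020000200002002730000200002000010000200002000020000200002000020000200001000020000200002002630022300243000e30000100433002930000200002000d30002300002001430000200002001c30000200393000020000100002001330046300001000020000200533000d3000020024300273002d300173000020000200001000330000200002000020000200253001830000100002000330000200002001330000100002001a3003230000200263000020000200002001b300002001130000100043000d3000020015300143000020000200002000020000100002002130000200002000020000200002000020000100002000020000200002002d30000100113004f30000200263002330010300273001d3000020000100002004d3001630000200383000030000100413001c30000200002000020000200013000e30000100002001c300002004d300163002230015300143001d300002001c3000020000100033002130000200002001d3001730000200001004d30016300002001530027300002001930000200001004d300002000020001300003000020000200183000010000200163000020001300143000010000200002000020000200002000020000200002002c30000100002000020000200002002330000200002001d3001730000200001000430000200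2230001300003001b300002000020000200002003730000100383000030000200002000010000200002000020000200002000020000200193001c30000200001000020020300153001f30000100002001830000200043000020002300013000e30046300002001a30000100043000020023300153001f3000020000200113004f3000f300373000010000200133001d300333000020000100002000330022300002000020000100002000020000200002000020000200002000020000200002000020000100002000020000200002000030000100002001830000200043000330000200002000020035300002001130000100043001630022300002000020035300002001a300002000020000200001003830000200002000010000200053000020000200233000020000200002001730000200001004d30000200002000020000200002000010011300002000f3000020000200002000e3001d3000020000200001003f30000200023000020000200002000010011300002000f3000d300023000020000200002000010000200943000020000200002000020000200002000020000200001004d300002005230000200002 40 1099511627775 0 58112 64 = 65)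

theorem c909 : _root_.Cfsg.Agent.SporadicRecognition.CosetCert.Part C 58176 58240 64 := Cfsg.Agent.SporadicRecognition.CertFast.part_fast C alC 64 (by decide +kernel : Cfsg.Agent.SporadicRecognition.CertFast.runF C 20 1048575 0x20000100002000020000200002000020000200002000020000200002000020000200001000020024300002000020000200002000020000200002000010007300002000020041300002000020000100002000230000200002002c3000010000200002000020000200002000020000200001001930000200002000430003300002000020000200353000010000200002000f3000d30000200002000020000200001000020000200393000d3000020000200002000020025300002000020000100002000020024300002000020000100002000020000200002002330000200002000010000200002000020000200002000020000200002000020000200002004f3004930000200002000020000100001004e300002000020000200002000020000200002001b300002000020000200002000020000200013000010000100002000020000200043000020000200002000020000200002000020005300001000020021300002000e300002000010000200002000f30000200002000020000200002000020000100002000a300002000020010300002002d300001000020000200002000d30000200002000e300002004330011300002000010000200002000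0200273000010000200002000020000200002000020000200002003530000200002000020000200001000020000200002002a30043300002000020000200263000020000100473001b30000100002003d300002003e300002000020000200353000010000200002000f3000d300002000020000200001002530018300002000020000200023000020047300002003b3001a3000020039300002000010038300133001230000200002000020000200002000010000200002000020000100002000020000200002003a300002000020035300001000020000200002000020000200002000020000100193001c3000020004300002000020000200143002a300001001c300002004d3000020000200002001430000200173002b30000200001000020002300002001f30000200002001a30032300002003730000100002000020000100193001830005300002000330002300013000030000200002001a30032300002000020000100103001330000200002001a300002000010000200002000020000300002000010000200283000020000200213000020000200002000020000200002000f3000020000100073000020000100193001830000200043000020022300013001430000200002000020028300001000020000200243000e3001d300173001c30000100002001630000200002000020046300001002e3004f300002000020000200103000e30000100193001a3000020004300002000020000200143001b3000020000200323000020000200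0010010300002001d3000020000200001000f30000200223001530000200001003b3001a300002000430003300002000130013300002004330000200002003f3003e300002000010047300001004e30000200002004d30026300002001030000200002000010000200053000f300033000020000200002000020000200002000530000100002002130024300002002d30033300002000020049300001000020000200002000010000200002000530000200002006d3000020000200002003b3001a300323000020000200001003830000200002000010011300053000f3000330000200002000020000100002002e300f0300002000020002300013000020000200002002e30032300393000d3000010038300133000010019300002000020000200002000020000200002000020000200002000020000100002002230000200002001d3000020000200001000a300163000020000200002000020000200001003d300002000020000200002000020000100413002b30000200043000020000200002001f300002002530000200001004d30000200223000020000200002003b300002000020039300002000010038300002 40 1099511627775 0 58176 64 = 65)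

theorem c910 : _root_.Cfsg.Agent.SporadicRecognition.CosetCert.Part C 58240 58304 64 := Cfsg.Agent.SporadicRecognition.CertFast.part_fast C alC 64 (by decide +kernel : Cfsg.Agent.SporadicRecognition.CertFast.runF C 20 1048575 0x20000200002000020000200373000010000200002001d3000020000200001000020016300023000020000300002000010000200053000020000200002000020000200002000010000200002000020000200002000020000200002000010000200002000f30000200002000020000300002001730018300001004d300163000020038300143000c300002000020032300002003e300002000010047300002000020000200002004230000100002000020000200002000020000200002004930037300002000020000100002004e300002004f3003f3000020000200001000020000200001002e3004f300002000020000200103000020000200002000020000200001000020000200243000020000100002002e30005300002000d3000230000200003000010043300293000020000200002000230000200003000010000200002000020000200002000020000200003000010000200293004f300002000d3000230000200003002a300002000020000200001000020000200002002730000200002000020000100002000020000200002001430000100193000020000200002000020002300002000020035300173002e300001000020016300223000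020000200002000020000200283000f3000d3000020000200001004630000100113004f3005e3000d3002330010300273001b3000020000100323000a30009300002003830013300001003b3000020005300002000330000200002000e30000100002001a3000530000200033000020000200003002a30000100113004f3005e3000d30023300002000e3001b3003b30000200283000010026300002000020027300001003b3001a3000020004300033000020001300002000020000100002004f3005e3000d30023300103000e300002003b3000020028300001002630000200002002730000200002000020000200f23003e3000020000100473000010000200113000530004300373000020001300002001b30000100113004f300393000d30000200103000e300002003b300002004f30000100373000020024300273001b300002001a3003d300393000010000200313001f3001b300002000020032300002003730000100383000030000200002000010000200002000020000200002000020000200001000020000200002000020000200002000020035300ea300002002830000100002000020000200002001b30000200002000010000200093000020015300002004630000100002009430000200002000020000200002002a30000100002000b300002000020000200002000020000100643001a300323000f300033000020001300002003530000100113004f3005e3000d300233001030000200002003b3002e300283000010026300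0020024300002000020000200002000020000200373000010038300002000020000200183000010039300163000020000200143000020000200183000020000200483000020000200001000020000200002002830000100002000020024300002000020000200002000020000200093000020000100002001b300173001a300001004d3001630022300153000020000200002000020000100002001630000200002001430000200002000010000200002000930000200002000020000200001000020000200002000d300002000020000200002004e3000010000200002000930000200002000020000200002000020000200002000930000100002000020000100002000020000200002000330000200243000020046300001000020032300002000d30023300383000020000200001000020000200393000d3000020000200002002d30068300002000b30000100263000830000200063000020000200002000010000200002002230000200002000020000100002004f30000200002000020000200002001b300002001a3000530000200373000010038300003000020000100002000020000200002002330000200002 40 1099511627775 0 58240 64 = 65)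

theorem c911 : _root_.Cfsg.Agent.SporadicRecognition.CosetCert.Part C 58304 58368 64 := Cfsg.Agent.SporadicRecognition.CertFast.part_fast C alC 64 (by decide +kernel : Cfsg.Agent.SporadicRecognition.CertFast.runF C 20 1048575 0x2001930000200001004d300002002230000200143000010000200293000020000200002000230000200003002c300001002b30000200002000020002300002000e30000100433002e30000200002000020002300002000030000200253002e30000200001000020000200002002730000200453000020000200002000020000200001000020000200002000020000100002000020000200002000e300002003b30000200f0300002000020000100002000020046300001000020000200002000020000200002000e3000020025300002000020000200002000010015300002004630000100113004f3000f3000d300233000020000200001000020018300002000430000200023000130000200002000010000200002000f3000020023300002000e300002000020000200002004d300002000020000200001000020000200002000020000200001002f3000020000200001000020000200002000f30000200002000020047300002000020000200002000010000200002000020000200001000020011300002000020000200002000130000200001004e30000200002000020000200002000020000200001003b30000200002000020000200002001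5300002002d300001000020000200002000d30000200153000020000200002000020000100002000020000200153000020000100002001c30000200043000020000200002000020000200002000020000200001000020022300002002730000100002000020000200002000d30000200002000020046300002000020000200002000010000200002001f3000020000100002000020000200002000020000200002000010000200002000020000200002000020000200002000010000200343003d3000020000200002000020000200001004e300002000020000200002000020000200002003530041300002000020000200001000020000200002000020000200002000020000200002000020000100002000010000200002000020000200002000020015300002002d30000100002004f30000200002002330072300002000020000200183004f3000f30003300001000020000200001004e30018300002004d300002000230000200002001d300001000020000200f2300002002130000200002001d3003b3000020000200001000020052300002000020000100002001830005300002002630000200002000020000200002001c300001000020037300002000020000200002002530000200002000010000200002000020000200123002530000200053000010000200023000020000200002000010000200002000f30000200002000020000200001001930034300002003f3000330000200002000020000200001001c300002000020000200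0020000200003001d30019300002000020000200002000230000200001001d300193001c3003c3000f300163000020000100003002d300002006c3000020000200001000020000200002000c30000200002000020000200001000020000200143000020000200002000010000200002000020015300002000020000100002000020000200002000020000200002001d3001730000200001004d300163000020000200002000c30000100002000020000200002002030000200002001d30000200002000010039300002000020001300002000010000200343000020000200033000020000200002002d300002000020000100002001630000200002000020000200002000020000100002001630000200002001430000100002002e3004f300002000330000200002000020000200002001c300001000020016300002001530000200002003b3002e3000020000100263000020010300002000010000200002004f300002000330000200002000e30000200002000020000200002003e3000020000100002002d30000200002000020000100163002130024300002000020000200002000010000200002002230000200002 40 1099511627775 0 58304 64 = 65)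

theorem all : _root_.Cfsg.Agent.SporadicRecognition.CosetCert.Part C 56832 58368 1536 := (((((((((((((((((((((((c888).append C c889).append C c890).append C c891).append C c892).append C c893).append C c894).append C c895).append C c896).append C c897).append C c898).append C c899).append C c900).append C c901).append C c902).append C c903).append C c904).append C c905).append C c906).append C c907).append C c908).append C c909).append C c910).append C c911

end Cfsg.Agent.Co2Type.Up9Chk37
end

-- part: Co2Type/Up9All
section
set_option autoImplicit false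
set_option maxRecDepth 100000

namespace Cfsg.Agent.Co2Type.Up9All

open Cfsg.Agent.SporadicRecognition.CosetCert Cfsg.Agent.Co2Type.Up9Data

theorem part : _root_.Cfsg.Agent.SporadicRecognition.CosetCert.Part C 0 C.N 56925 := (((((((((((((((((((((((((((((((((((((((Cfsg.Agent.Co2Type.Up9Chk0.all).append C Cfsg.Agent.Co2Type.Up9Chk1.all).append C Cfsg.Agent.Co2Type.Up9Chk2.all).append C Cfsg.Agent.Co2Type.Up9Chk3.all).append C Cfsg.Agent.Co2Type.Up9Chk4.all).append C Cfsg.Agent.Co2Type.Up9Chk5.all).append C Cfsg.Agent.Co2Type.Up9Chk6.all).append C Cfsg.Agent.Co2Type.Up9Chk7.all).append C Cfsg.Agent.Co2Type.Up9Chk8.all).append C Cfsg.Agent.Co2Type.Up9Chk9.all).append C Cfsg.Agent.Co2Type.Up9Chk10.all).append C Cfsg.Agent.Co2Type.Up9Chk11.all).append C Cfsg.Agent.Co2Type.Up9Chk12.all).append C Cfsg.Agent.Co2Type.Up9Chk13.all).append C Cfsg.Agent.Co2Type.Up9Chk14.all).append C Cfsg.Agent.Co2Type.Up9Chk15.all).append C Cfsg.Agent.Co2Type.Up9Chk16.all).append C Cfsg.Agent.Co2Type.Up9Chk17.all).append C Cfsg.Agent.Co2Type.Up9Chk18.all).append C Cfsg.Agent.Co2Type.Up9Chk19.all).append C Cfsg.Agent.Co2Type.Up9Chk20.all).append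 C Cfsg.Agent.Co2Type.Up9Chk21.all).append C Cfsg.Agent.Co2Type.Up9Chk22.all).append C Cfsg.Agent.Co2Type.Up9Chk23.all).append C Cfsg.Agent.Co2Type.Up9Chk24.all).append C Cfsg.Agent.Co2Type.Up9Chk25.all).append C Cfsg.Agent.Co2Type.Up9Chk26.all).append C Cfsg.Agent.Co2Type.Up9Chk27.all).append C Cfsg.Agent.Co2Type.Up9Chk28.all).append C Cfsg.Agent.Co2Type.Up9Chk29.all).append C Cfsg.Agent.Co2Type.Up9Chk30.all).append C Cfsg.Agent.Co2Type.Up9Chk31.all).append C Cfsg.Agent.Co2Type.Up9Chk32.all).append C Cfsg.Agent.Co2Type.Up9Chk33.all).append C Cfsg.Agent.Co2Type.Up9Chk34.all).append C Cfsg.Agent.Co2Type.Up9Chk35.all).append C Cfsg.Agent.Co2Type.Up9Chk36.all).append C Cfsg.Agent.Co2Type.Up9Chk37.all).append C Cfsg.Agent.Co2Type.Up9Chk38.all).append C Cfsg.Agent.Co2Type.Up9Chk39.all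

end Cfsg.Agent.Co2Type.Up9All
end

-- part: Co2Type/UpMain
section
/-!
# A group satisfying the presentation `PG` has order at most `|Co₂|` (R03, helper907)
-/

set_option autoImplicit false
set_option maxRecDepth 100000

namespace Cfsg.Agent.Co2Type.UpMain

open Cfsg.Agent.SporadicRecognition.CosetCert Cfsg.Agent.SporadicRecognition.CosetCertHyp
  Cfsg.Agent.SporadicRecognition.CosetChain Cfsg.Agent.Co2Type.PresDef Cfsg.Agent.Co2Type.UpBound

variable {G : Type*} [Group G]

/-- the relator `(beghi)^3` used by the certificate -/
def rl : List ℕ := [3,4,7,8,6,3,4,7,8,6,3,4,7,8,6]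

theorem comm_of_ev (x : ℕ → G) {p q : ℕ} (hp : x p * x p = 1) (hq : x q * x q = 1)
    (h : ev x [p, q, p, q] = 1) : Commute (x p) (x q) := by
  rw [ev4, ← mul_assoc] at h
  have h1 : x p * x q = (x p * x q)⁻¹ := (inv_eq_of_mul_eq_one_left h).symm
  rw [mul_inv_rev, inv_eq_of_mul_eq_one_left hp, inv_eq_of_mul_eq_one_left hq] at h1
  exact h1

theorem rl_eq (x : ℕ → G) (hx : ∀ r ∈ relG, ev x r = 1) : ev x rl = 1 := by
  have hC : ∀ r ∈ relC, ev x r = 1 := fun r hr => hx r (List.mem_append_left _ hr)
  have hsq := sq_of_rel x hC
  have h8 : x 8 * x 8 = 1 := by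
    have := hx [8, 8] (by decide)
    rwa [ev2] at this
  have c34 : Commute (x 3) (x 4) := comm_of_ev x (hsq 3 (by decide)) (hsq 4 (by decide)) (hx _ (by decide))
  have c37 : Commute (x 3) (x 7) := comm_of_ev x (hsq 3 (by decide)) (hsq 7 (by decide)) (hx _ (by decide))
  have c38 : Commute (x 3) (x 8) := comm_of_ev x (hsq 3 (by decide)) h8 (hx _ (by decide))
  have c36 : Commute (x 3) (x 6) := comm_of_ev x (hsq 3 (by decide)) (hsq 6 (by decide)) (hx _ (by decide))
  have c47 : Commute (x 4) (x 7) := comm_of_ev x (hsq 4 (by decide)) (hsq 7 (by decide)) (hx _ (by decide))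
  have c48 : Commute (x 4) (x 8) := comm_of_ev x (hsq 4 (by decide)) h8 (hx _ (by decide))
  have c46 : Commute (x 4) (x 6) := comm_of_ev x (hsq 4 (by decide)) (hsq 6 (by decide)) (hx _ (by decide))
  have h3 : Commute (x 3 * x 4) (x 7 * x 8 * x 6) :=
    (((c37.mul_right c38).mul_right c36).mul_left ((c47.mul_right c48).mul_right c46))
  have h5 : x 3 * x 4 * (x 7 * x 8 * x 6) ^ 3 = 1 := by
    have := hx [3,4,7,8,6,7,8,6,7,8,6] (by decide)
    rw [← this]
    simp [ev, pow_succ, mul_assoc]
  have h6 : (x 3 * x 4) ^ 3 = x 3 * x 4 := by
    rw [c34.mul_pow]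
    simp only [pow_succ, pow_zero, one_mul, hsq 3 (by decide), hsq 4 (by decide)]
  have h7 : ev x rl = (x 3 * x 4 * (x 7 * x 8 * x 6)) ^ 3 := by
    simp [ev, rl, pow_succ, mul_assoc]
  rw [h7, h3.mul_pow, h6, h5]

private noncomputable def _root_.Cfsg.Agent.KOf22f1fe.oEq.{ku} (α : Sort ku) (a b : Nat) (f t : α) : α := @Decidable.rec (a = b) (fun _ => α) (fun _ => f) (fun _ => t) (Nat.decEq a b)
private noncomputable def _root_.Cfsg.Agent.KOf22f1fe.k20.{ku} (α : Sort ku) (a b : Nat) (f t : α) : α := @Bool.rec (fun _ => α) f t (Nat.beq a b)
private theorem _root_.Cfsg.Agent.KOf22f1fe.e20.{ku} : @_root_.Cfsg.Agent.KOf22f1fe.oEq.{ku} = @_root_.Cfsg.Agent.KOf22f1fe.k20.{ku} := funext fun α => funext fun a => funext fun b => funext fun f => funext fun t => by delta _root_.Cfsg.Agent.KOf22f1fe.oEq _root_.Cfsg.Agent.KOf22f1fe.k20; cases h : Nat.beq a b <;> cases Nat.decEq a b <;> rename_i g <;> first | rfl | exact absurd g (Nat.ne_of_beq_eq_false h) | exact absurd (Nat.eq_of_beq_eq_true h) g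
private noncomputable def _root_.Cfsg.Agent.KOf22f1fe.oB.{ku} (α : Sort ku) (c : Bool) (f t : α) : α := @Decidable.rec (c = true) (fun _ => α) (fun _ => f) (fun _ => t) (instDecidableEqBool c true)
private noncomputable def _root_.Cfsg.Agent.KOf22f1fe.k21.{ku} (α : Sort ku) (c : Bool) (f t : α) : α := @Bool.rec (fun _ => α) f t c
private theorem _root_.Cfsg.Agent.KOf22f1fe.e21.{ku} : @_root_.Cfsg.Agent.KOf22f1fe.oB.{ku} = @_root_.Cfsg.Agent.KOf22f1fe.k21.{ku} := funext fun α => funext fun c => funext fun f => funext fun t => by cases c <;> rfl
private theorem _root_.Cfsg.Agent.KOf22f1fe.e22.{ku, kv} {α : Type kv} {M : List α → Sort ku} (φ : ∀ l, M l) {z : M List.nil} {s : ∀ a l, M l → M (List.cons a l)} (h0 : φ List.nil = z) (hs : ∀ a l, φ (List.cons a l) = s a l (φ l)) (l : List α) : φ l = @List.rec α M z s l := List.rec h0 (fun a l ih => (hs a l).trans (congrArg (s a l) ih)) l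
private noncomputable def _root_.Cfsg.Agent.KOf22f1fe.k23.{ku0} : type_of% @List.any.{ku0} := @(fun x0 x1 x2 => @List.rec.{(ku0+1), ku0} @x0 @(fun x3 => (@x0 → @Bool) → @Bool) @(fun x3 => @Bool.false) @(fun x3 x4 x5 x6 => @Bool.rec.{1} @(fun x7 => @Bool) (@x5 @x6) @Bool.true (@x6 @x3)) @x1 @x2)
private theorem _root_.Cfsg.Agent.KOf22f1fe.e23.{ku0} : @List.any.{ku0} = @_root_.Cfsg.Agent.KOf22f1fe.k23.{ku0} := by delta _root_.Cfsg.Agent.KOf22f1fe.k23; funext a0 a1 a2; refine (congrFun (_root_.Cfsg.Agent.KOf22f1fe.e22 (fun a1 a2 => @List.any.{ku0} a0 a1 a2) ?_ (fun c0 c1 => ?_) a1) a2 :) <;> (rfl')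
private noncomputable def _root_.Cfsg.Agent.KOf22f1fe.k25.{ku0} : type_of% @List.beq.{ku0} := @(fun x0 x1 x2 x3 => @List.rec.{(ku0+1), ku0} @x0 @(fun x4 => (@List.{ku0} @x0) → @Bool) @(fun x4 => @List.rec.{1, ku0} @x0 @(fun x5 => @Bool) @Bool.true @(fun x5 x6 x7 => @Bool.false) @x4) @(fun x4 x5 x6 x7 => @List.rec.{1, ku0} @x0 @(fun x8 => @Bool) @Bool.false @(fun x8 x9 x10 => @Bool.rec.{1} @(fun x11 => @Bool) @Bool.false (@x6 @x9) (@BEq.beq.{ku0} _ @x1 @x4 @x8)) @x7) @x2 @x3)
private theorem _root_.Cfsg.Agent.KOf22f1fe.e25.{ku0} : @List.beq.{ku0} = @_root_.Cfsg.Agent.KOf22f1fe.k25.{ku0} := by delta _root_.Cfsg.Agent.KOf22f1fe.k25; funext a0 a1 a2 a3; refine (congrFun (_root_.Cfsg.Agent.KOf22f1fe.e22 (fun a2 a3 => @List.beq.{ku0} a0 a1 a2 a3) ?_ (fun c0 c1 => ?_) a2) a3 :) <;> [(funext b0; (cases b0 with | @nil  => (rfl') | @cons b0_0 b0_1 => (rfl'))); (funext b0; (cases b0 with | @nil  => (rfl') | @cons b0_0 b0_1 => (rfl')))]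
private noncomputable def _root_.Cfsg.Agent.KOf22f1fe.k26.{ku0} : type_of% @List.append.{ku0} := @(fun x0 x1 x2 => @List.rec.{(ku0+1), ku0} @x0 @(fun x3 => (@List.{ku0} @x0) → @List.{ku0} @x0) @(fun x3 => @x3) @(fun x3 x4 x5 x6 => @x3 :: (@x5 @x6)) @x1 @x2)
private theorem _root_.Cfsg.Agent.KOf22f1fe.e26.{ku0} : @List.append.{ku0} = @_root_.Cfsg.Agent.KOf22f1fe.k26.{ku0} := by delta _root_.Cfsg.Agent.KOf22f1fe.k26; funext a0 a1 a2; refine (congrFun (_root_.Cfsg.Agent.KOf22f1fe.e22 (fun a1 a2 => @List.append.{ku0} a0 a1 a2) ?_ (fun c0 c1 => ?_) a1) a2 :) <;> (rfl')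
private noncomputable def _root_.Cfsg.Agent.KOf22f1fe.k27.{ku0} : type_of% @List.reverseAux.{ku0} := @(fun x0 x1 x2 => @List.rec.{(ku0+1), ku0} @x0 @(fun x3 => (@List.{ku0} @x0) → @List.{ku0} @x0) @(fun x3 => @x3) @(fun x3 x4 x5 x6 => @x5 (@x3 :: @x6)) @x1 @x2)
private theorem _root_.Cfsg.Agent.KOf22f1fe.e27.{ku0} : @List.reverseAux.{ku0} = @_root_.Cfsg.Agent.KOf22f1fe.k27.{ku0} := by delta _root_.Cfsg.Agent.KOf22f1fe.k27; funext a0 a1 a2; refine (congrFun (_root_.Cfsg.Agent.KOf22f1fe.e22 (fun a1 a2 => @List.reverseAux.{ku0} a0 a1 a2) ?_ (fun c0 c1 => ?_) a1) a2 :) <;> (rfl')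
private noncomputable def _root_.Cfsg.Agent.KOf22f1fe.k28.{ku0, ku1} : type_of% @List.map.{ku0, ku1} := @(fun x0 x1 x2 x3 => @List.rec.{(ku1+1), ku0} @x0 @(fun x4 => @List.{ku1} @x1) [] @(fun x4 x5 x6 => (@x2 @x4) :: @x6) @x3)
private theorem _root_.Cfsg.Agent.KOf22f1fe.e28.{ku0, ku1} : @List.map.{ku0, ku1} = @_root_.Cfsg.Agent.KOf22f1fe.k28.{ku0, ku1} := by delta _root_.Cfsg.Agent.KOf22f1fe.k28; funext a0 a1 a2 a3; refine (_root_.Cfsg.Agent.KOf22f1fe.e22 (fun a3 => @List.map.{ku0, ku1} a0 a1 a2 a3) ?_ (fun c0 c1 => ?_) a3 :) <;> (rfl')
private noncomputable def _root_.Cfsg.Agent.KOf22f1fe.k29.{ku0} : type_of% @List.all.{ku0} := @(fun x0 x1 x2 => @List.rec.{(ku0+1), ku0} @x0 @(fun x3 => (@x0 → @Bool) → @Bool) @(fun x3 => @Bool.true) @(fun x3 x4 x5 x6 => @Bool.rec.{1} @(fun x7 => @Bool) @Bool.false (@x5 @x6) (@x6 @x3)) @x1 @x2)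
private theorem _root_.Cfsg.Agent.KOf22f1fe.e29.{ku0} : @List.all.{ku0} = @_root_.Cfsg.Agent.KOf22f1fe.k29.{ku0} := by delta _root_.Cfsg.Agent.KOf22f1fe.k29; funext a0 a1 a2; refine (congrFun (_root_.Cfsg.Agent.KOf22f1fe.e22 (fun a1 a2 => @List.all.{ku0} a0 a1 a2) ?_ (fun c0 c1 => ?_) a1) a2 :) <;> (rfl')
private noncomputable def _root_.Cfsg.Agent.KOf22f1fe.k30 : (by first | exact type_of% @Cfsg.Agent.SporadicRecognition.CosetCertHyp.okSub | exact Unit : Sort _) := by first | (refine @Subtype.val _ (fun g => @Cfsg.Agent.SporadicRecognition.CosetCertHyp.okSub = @g) (@Subtype.mk _ _ (@(fun x0 x1 x2 x3 x4 x5 => @Bool.rec.{1} @(fun x6 => @Bool) @Bool.false (@Cfsg.Agent.KOf22f1fe.k23.{0} _ ([] :: @x2) @(fun x6 => @Cfsg.Agent.KOf22f1fe.k25.{0} _ (@BEq.mk.{0} _ @(fun x7 x8 => @Cfsg.Agent.KOf22f1fe.k20.{1} @Bool @x7 @x8 @Bool.false @Bool.true)) @x6 (@Cfsg.Agent.KOf22f1fe.k21.{1} (@List.{0} ℕ) (@Nat.beq @x3 @x1) (@Cfsg.Agent.KOf22f1fe.k26.{0} _ @x4 (@x3 :: (@Cfsg.Agent.KOf22f1fe.k27.{0} _ (@Cfsg.Agent.KOf22f1fe.k28.{0, 0} _ _ @x0 @x5) []))) (@Cfsg.Agent.KOf22f1fe.k26.{0} _ @x4 (@Cfsg.Agent.KOf22f1fe.k27.{0} _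 (@Cfsg.Agent.KOf22f1fe.k28.{0, 0} _ _ @x0 @x5) []))))) (@Bool.rec.{1} @(fun x6 => @Bool) @Bool.false (@Cfsg.Agent.KOf22f1fe.k29.{0} _ @x5 @(fun x6 => @Nat.ble (@Nat.succ @x6) @x1)) (@Bool.rec.{1} @(fun x6 => @Bool) @Bool.false (@Cfsg.Agent.KOf22f1fe.k29.{0} _ @x4 @(fun x6 => @Nat.ble (@Nat.succ @x6) @x1)) (@Nat.ble @x3 @x1))))) ?_); rewrite [← Cfsg.Agent.KOf22f1fe.e29.{0}, ← Cfsg.Agent.KOf22f1fe.e28.{0, 0}, ← Cfsg.Agent.KOf22f1fe.e27.{0}, ← Cfsg.Agent.KOf22f1fe.e26.{0}, ← Cfsg.Agent.KOf22f1fe.e21.{1}, ← Cfsg.Agent.KOf22f1fe.e20.{1}, ← Cfsg.Agent.KOf22f1fe.e25.{0}, ← Cfsg.Agent.KOf22f1fe.e23.{0}]; rfl') | exact @Cfsg.Agent.SporadicRecognition.CosetCertHyp.okSub | exact ()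
private theorem _root_.Cfsg.Agent.KOf22f1fe.e30 : (by first | exact @Cfsg.Agent.SporadicRecognition.CosetCertHyp.okSub = @_root_.Cfsg.Agent.KOf22f1fe.k30 | exact True : Prop) := by first | (delta _root_.Cfsg.Agent.KOf22f1fe.k30; exact @Subtype.property _ (fun g => @Cfsg.Agent.SporadicRecognition.CosetCertHyp.okSub = @g) _) | rfl | trivial
private theorem _root_.Cfsg.Agent.KOf22f1fe.e31.{ku} {M : Nat → Sort ku} (φ : ∀ n, M n) {z : M Nat.zero} {s : ∀ n, M n → M (Nat.succ n)} (h0 : φ Nat.zero = z) (hs : ∀ n, φ (Nat.succ n) = s n (φ n)) (n : Nat) : φ n = @Nat.rec M z s n := Nat.rec h0 (fun n ih => (hs n).trans (congrArg (s n) ih)) n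
private noncomputable def _root_.Cfsg.Agent.KOf22f1fe.k32 : type_of% @List.range.loop := @(fun x0 x1 => @Nat.rec.{1} @(fun x2 => (@List.{0} ℕ) → @List.{0} ℕ) @(fun x2 => @x2) @(fun x2 x3 x4 => @x3 (@x2 :: @x4)) @x0 @x1)
private theorem _root_.Cfsg.Agent.KOf22f1fe.e32 : @List.range.loop = @_root_.Cfsg.Agent.KOf22f1fe.k32 := by delta _root_.Cfsg.Agent.KOf22f1fe.k32; funext a0 a1; refine (congrFun (_root_.Cfsg.Agent.KOf22f1fe.e31 (fun a0 a1 => @List.range.loop a0 a1) ?_ (fun c0 => ?_) a0) a1 :) <;> (rfl')
private noncomputable def _root_.Cfsg.Agent.KOf22f1fe.k33.{ku0} : type_of% @List.length.{ku0} := @(fun x0 x1 => @List.rec.{1, ku0} @x0 @(fun x2 => ℕ) (nat_lit 0) @(fun x2 x3 x4 => @Nat.add @x4 (nat_lit 1)) @x1)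
private theorem _root_.Cfsg.Agent.KOf22f1fe.e33.{ku0} : @List.length.{ku0} = @_root_.Cfsg.Agent.KOf22f1fe.k33.{ku0} := by delta _root_.Cfsg.Agent.KOf22f1fe.k33; funext a0 a1; refine (_root_.Cfsg.Agent.KOf22f1fe.e22 (fun a1 => @List.length.{ku0} a0 a1) ?_ (fun c0 c1 => ?_) a1 :) <;> (rfl')
private noncomputable def _root_.Cfsg.Agent.KOf22f1fe.k35.{ku0} : type_of% @List.splitAt.go.{ku0} := @(fun x0 x1 x2 x3 x4 => @List.rec.{(ku0+1), ku0} @x0 @(fun x5 => ℕ → (@List.{ku0} @x0) → (@List.{ku0} @x0) × (@List.{ku0} @x0)) @(fun x5 x6 => (@x1, [])) @(fun x5 x6 x7 x8 x9 => @Nat.rec.{(ku0+1)} @(fun x10 => (@List.{ku0} @x0) × (@List.{ku0} @x0)) ((@Cfsg.Agent.KOf22f1fe.k27.{ku0} _ @x9 [], @x5 :: @x6)) @(fun x10 x11 => @x7 @x10 (@x5 :: @x9)) @x8) @x2 @x3 @x4)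
private theorem _root_.Cfsg.Agent.KOf22f1fe.e35.{ku0} : @List.splitAt.go.{ku0} = @_root_.Cfsg.Agent.KOf22f1fe.k35.{ku0} := by delta _root_.Cfsg.Agent.KOf22f1fe.k35; rewrite [← Cfsg.Agent.KOf22f1fe.e27.{ku0}]; funext a0 a1 a2 a3 a4; refine (congrFun (congrFun (_root_.Cfsg.Agent.KOf22f1fe.e22 (fun a2 a3 a4 => @List.splitAt.go.{ku0} a0 a1 a2 a3 a4) ?_ (fun c0 c1 => ?_) a2) a3) a4 :) <;> [(funext b0 b1; (rfl')); (funext b0 b1; (cases b0 with | @zero  => (rfl') | @succ b0_0 => (rfl')))]
private noncomputable def _root_.Cfsg.Agent.KOf22f1fe.k36.{ku0} : type_of% @List.rotate.{ku0} := @(fun x0 x1 x2 => @Prod.rec.{(ku0+1), ku0, ku0} (@List.{ku0} @x0) (@List.{ku0} @x0) @(fun x3 => @List.{ku0} @x0) @(fun x3 x4 => @Cfsg.Agent.KOf22f1fe.k26.{ku0} _ @x4 @x3) (@Cfsg.Agent.KOf22f1fe.k35.{ku0} _ @x1 @x1 (@Nat.mod @x2 (@Cfsg.Agent.KOf22f1fe.k33.{ku0} _ @x1)) []))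
private theorem _root_.Cfsg.Agent.KOf22f1fe.e36.{ku0} : @List.rotate.{ku0} = @_root_.Cfsg.Agent.KOf22f1fe.k36.{ku0} := by delta _root_.Cfsg.Agent.KOf22f1fe.k36; rewrite [← Cfsg.Agent.KOf22f1fe.e33.{ku0}, ← Cfsg.Agent.KOf22f1fe.e35.{ku0}, ← Cfsg.Agent.KOf22f1fe.e26.{ku0}]; rfl'
private noncomputable def _root_.Cfsg.Agent.KOf22f1fe.k37 : (by first | exact type_of% @Cfsg.Agent.SporadicRecognition.CosetCertHyp.isRot | exact Unit : Sort _) := by first | (refine @Subtype.val _ (fun g => @Cfsg.Agent.SporadicRecognition.CosetCertHyp.isRot = @g) (@Subtype.mk _ _ (@(fun x0 x1 => @Bool.rec.{1} @(fun x2 => @Bool) @Bool.false (@Cfsg.Agent.KOf22f1fe.k23.{0} _ (@Cfsg.Agent.KOf22f1fe.k32 (@Nat.add (@Cfsg.Agent.KOf22f1fe.k33.{0} _ @x0) (nat_lit 1)) []) @(fun x2 => @Cfsg.Agent.KOf22f1fe.k25.{0} _ (@BEq.mk.{0} _ @(fun x3 x4 => @Cfsg.Agent.KOf22f1fe.k20.{1} @Bool @x3 @x4 @Bool.false @Bool.true)) (@Cfsg.Agent.KOf22f1fe.k36.{0} _ @x0 @x2) @x1)) (@Nat.beq (@Cfsg.Agent.KOf22f1fe.k33.{0} _ @x0) (@Cfsg.Agent.KOf22f1fe.k33.{0} _ @x1)))) ?_); rewrite [← Cfsg.Agent.KOf22f1fe.e36.{0}, ← Cfsg.Agent.KOf22f1fe.e20.{1}, ← Cfsg.Agent.KOf22f1fe.e25.{0},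 ← Cfsg.Agent.KOf22f1fe.e33.{0}, ← Cfsg.Agent.KOf22f1fe.e32, ← Cfsg.Agent.KOf22f1fe.e23.{0}]; rfl') | exact @Cfsg.Agent.SporadicRecognition.CosetCertHyp.isRot | exact ()
private theorem _root_.Cfsg.Agent.KOf22f1fe.e37 : (by first | exact @Cfsg.Agent.SporadicRecognition.CosetCertHyp.isRot = @_root_.Cfsg.Agent.KOf22f1fe.k37 | exact True : Prop) := by first | (delta _root_.Cfsg.Agent.KOf22f1fe.k37; exact @Subtype.property _ (fun g => @Cfsg.Agent.SporadicRecognition.CosetCertHyp.isRot = @g) _) | rfl | trivial
private noncomputable def _root_.Cfsg.Agent.KOf22f1fe.k38 : (by first | exact type_of% @Cfsg.Agent.SporadicRecognition.CosetCertHyp.okRel | exact Unit : Sort _) := by first | (refine @Subtype.val _ (fun g => @Cfsg.Agent.SporadicRecognition.CosetCertHyp.okRel = @g) (@Subtype.mk _ _ (@(fun x0 x1 x2 x3 => @Bool.rec.{1} @(fun x4 => @Bool) @Bool.false (@Cfsg.Agent.KOf22f1fe.k23.{0} _ ([] :: @x2) @(fun x4 => @Bool.rec.{1} @(fun x5 => @Bool) (@Cfsg.Agent.KOf22f1fe.k37 @x4 (@Cfsg.Agent.KOf22f1fe.k27.{0} _ (@Cfsg.Agent.KOf22f1fe.k28.{0, 0} _ _ @x0 @x3) [])) @Bool.true (@Cfsg.Agent.KOf22f1fe.k37 @x4 @x3))) (@Cfsg.Agent.KOf22f1fe.k29.{0}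 _ @x3 @(fun x4 => @Nat.ble (@Nat.succ @x4) @x1)))) ?_); rewrite [← Cfsg.Agent.KOf22f1fe.e29.{0}, ← Cfsg.Agent.KOf22f1fe.e28.{0, 0}, ← Cfsg.Agent.KOf22f1fe.e27.{0}, ← Cfsg.Agent.KOf22f1fe.e37, ← Cfsg.Agent.KOf22f1fe.e23.{0}]; (try delta Cfsg.Agent.SporadicRecognition.CosetCertHyp.okRel Cfsg.Agent.SporadicRecognition.CosetCertHyp.invw); (try generalize @Cfsg.Agent.SporadicRecognition.CosetCertHyp.isRot = g0); rfl') | exact @Cfsg.Agent.SporadicRecognition.CosetCertHyp.okRel | exact ()
private theorem _root_.Cfsg.Agent.KOf22f1fe.e38 : (by first | exact @Cfsg.Agent.SporadicRecognition.CosetCertHyp.okRel = @_root_.Cfsg.Agent.KOf22f1fe.k38 | exact True : Prop) := by first | (delta _root_.Cfsg.Agent.KOf22f1fe.k38; exact @Subtype.property _ (fun g => @Cfsg.Agent.SporadicRecognition.CosetCertHyp.okRel = @g) _) | rfl | trivial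
private noncomputable def _root_.Cfsg.Agent.KOf22f1fe.k39 : (by first | exact type_of% @Cfsg.Agent.SporadicRecognition.CosetCertHyp.okWord | exact Unit : Sort _) := by first | (refine @Subtype.val _ (fun g => @Cfsg.Agent.SporadicRecognition.CosetCertHyp.okWord = @g) (@Subtype.mk _ _ (@(fun x0 x1 x2 x3 x4 => @Bool.rec.{1} @(fun x5 => @Bool) @Bool.false (@Cfsg.Agent.KOf22f1fe.k21.{1} @Bool (@Nat.beq @x3 @x1) (@Cfsg.Agent.KOf22f1fe.k38 @x0 @x1 @x2 (@Cfsg.Agent.KOf22f1fe.k26.{0} _ @x4 ((@x0 @x3) :: []))) (@Cfsg.Agent.KOf22f1fe.k38 @x0 @x1 @x2 @x4)) (@Bool.rec.{1} @(fun x5 => @Bool) @Bool.false (@Cfsg.Agent.KOf22f1fe.k29.{0} _ @x4 @(fun x5 => @Nat.ble (@Nat.succ @x5) @x1)) (@Nat.ble @x3 @x1)))) ?_); rewrite [← Cfsg.Agent.KOf22f1fe.e29.{0}, ← Cfsg.Agent.KOf22f1fe.e26.{0}, ← Cfsg.Agent.KOf22f1fe.e38, ← Cfsg.Agent.KOf22f1fe.e21.{1}]; (try delta Cfsg.Agent.SporadicRecognition.CosetCertHyp.okWord); (try generalize @Cfsg.Agent.SporadicRecognition.CosetCertHyp.okRel = g0); rfl') | exact @Cfsg.Agent.SporadicRecognition.CosetCertHyp.okWord | exact ()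
private theorem _root_.Cfsg.Agent.KOf22f1fe.e39 : (by first | exact @Cfsg.Agent.SporadicRecognition.CosetCertHyp.okWord = @_root_.Cfsg.Agent.KOf22f1fe.k39 | exact True : Prop) := by first | (delta _root_.Cfsg.Agent.KOf22f1fe.k39; exact @Subtype.property _ (fun g => @Cfsg.Agent.SporadicRecognition.CosetCertHyp.okWord = @g) _) | rfl | trivial
private noncomputable def _root_.Cfsg.Agent.KOf22f1fe.k40 : (by first | exact type_of% @Cfsg.Agent.SporadicRecognition.CosetCertHyp.checkHyp | exact Unit : Sort _) := by first | (refine @Subtype.val _ (fun g => @Cfsg.Agent.SporadicRecognition.CosetCertHyp.checkHyp = @g) (@Subtype.mk _ _ (@(fun x0 x1 x2 => @Bool.rec.{1} @(fun x3 => @Bool) @Bool.false (@Nat.ble (@Nat.succ (nat_lit 0)) (@Cfsg.Agent.SporadicRecognition.CosetCert.Cert.N @x0)) (@Bool.rec.{1} @(fun x3 => @Bool) @Bool.false (@Cfsg.Agent.SporadicRecognition.CosetCertHyp.ST.allB (@Cfsg.Agent.KOf22f1fe.k30 (@Cfsg.Agent.SporadicRecognition.CosetCert.Cert.inv @x0) (@Cfsg.Agent.SporadicRecognition.CosetCert.Cert.k @x0) @x2) (@Cfsg.Agent.SporadicRecognition.CosetCert.Cert.subs @x0)) (@Cfsg.Agent.SporadicRecognition.CosetCertHyp.WT.allB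 (@Cfsg.Agent.KOf22f1fe.k39 (@Cfsg.Agent.SporadicRecognition.CosetCert.Cert.inv @x0) (@Cfsg.Agent.SporadicRecognition.CosetCert.Cert.k @x0) @x1) (@Cfsg.Agent.SporadicRecognition.CosetCert.Cert.words @x0))))) ?_); rewrite [← Cfsg.Agent.KOf22f1fe.e39, ← Cfsg.Agent.KOf22f1fe.e30]; (try delta Cfsg.Agent.SporadicRecognition.CosetCertHyp.checkHyp); (try generalize @Cfsg.Agent.SporadicRecognition.CosetCertHyp.ST.allB = g0); (try generalize @Cfsg.Agent.SporadicRecognition.CosetCertHyp.okSub = g1); (try generalize @Cfsg.Agent.SporadicRecognition.CosetCertHyp.WT.allB = g2); (try generalize @Cfsg.Agent.SporadicRecognition.CosetCertHyp.okWord = g3); rfl') | exact @Cfsg.Agent.SporadicRecognition.CosetCertHyp.checkHyp | exact ()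
private theorem _root_.Cfsg.Agent.KOf22f1fe.e40 : (by first | exact @Cfsg.Agent.SporadicRecognition.CosetCertHyp.checkHyp = @_root_.Cfsg.Agent.KOf22f1fe.k40 | exact True : Prop) := by first | (delta _root_.Cfsg.Agent.KOf22f1fe.k40; exact @Subtype.property _ (fun g => @Cfsg.Agent.SporadicRecognition.CosetCertHyp.checkHyp = @g) _) | rfl | trivial
private noncomputable def _root_.Cfsg.Agent.KOf22f1fe.k41.{ku0} : type_of% @List.filter.{ku0} := @(fun x0 x1 x2 => @List.rec.{(ku0+1), ku0} @x0 @(fun x3 => @List.{ku0} @x0) [] @(fun x3 x4 x5 => @Bool.rec.{(ku0+1)} @(fun x6 => @List.{ku0} @x0) @x5 (@x3 :: @x5) (@x1 @x3)) @x2)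
private theorem _root_.Cfsg.Agent.KOf22f1fe.e41.{ku0} : @List.filter.{ku0} = @_root_.Cfsg.Agent.KOf22f1fe.k41.{ku0} := by delta _root_.Cfsg.Agent.KOf22f1fe.k41; funext a0 a1 a2; refine (_root_.Cfsg.Agent.KOf22f1fe.e22 (fun a2 => @List.filter.{ku0} a0 a1 a2) ?_ (fun c0 c1 => ?_) a2 :) <;> (rfl')
private noncomputable def _root_.Cfsg.Agent.KOf22f1fe.k42 : (by first | exact type_of% @Cfsg.Agent.SporadicRecognition.CosetChain.restr | exact Unit : Sort _) := by first | (refine @Subtype.val _ (fun g => @Cfsg.Agent.SporadicRecognition.CosetChain.restr = @g) (@Subtype.mk _ _ (@(fun x0 x1 => @Cfsg.Agent.KOf22f1fe.k41.{0} _ @(fun x2 => @Cfsg.Agent.KOf22f1fe.k29.{0} _ @x2 @(fun x3 => @Nat.ble (@Nat.succ @x3) @x0)) @x1)) ?_); rewrite [← Cfsg.Agent.KOf22f1fe.e29.{0}, ← Cfsg.Agent.KOf22f1fe.e41.{0}]; rfl') | exact @Cfsg.Agent.SporadicRecognition.CosetChain.restr | exact ()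
private theorem _root_.Cfsg.Agent.KOf22f1fe.e42 : (by first | exact @Cfsg.Agent.SporadicRecognition.CosetChain.restr = @_root_.Cfsg.Agent.KOf22f1fe.k42 | exact True : Prop) := by first | (delta _root_.Cfsg.Agent.KOf22f1fe.k42; exact @Subtype.property _ (fun g => @Cfsg.Agent.SporadicRecognition.CosetChain.restr = @g) _) | rfl | trivial

theorem cl9 (x : ℕ → G) (hx : ∀ r ∈ relG, ev x r = 1) :
    Finite (cl x 9) ∧ Nat.card (cl x 9) ≤ 42305421312000 := by
  have hC : ∀ r ∈ relC, ev x r = 1 := fun r hr => hx r (List.mem_append_left _ hr)
  obtain ⟨h0, h0'⟩ := cl8 x hC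
  have h8 : x 8 * x 8 = 1 := by
    have := hx [8, 8] (by decide)
    rwa [ev2] at this
  have hsq : ∀ k, k < Up9Data.C.k → x k * x k = 1 := by
    intro k hk
    have hk : k < 9 := hk
    rcases Nat.lt_succ_iff_lt_or_eq.mp hk with h | h
    · exact sq_of_rel x hC k h
    · rw [h, h8]
  have hx' : ∀ r ∈ rl :: relG, ev x r = 1 := by
    intro r hr
    rcases List.mem_cons.mp hr with h | h
    · rw [h]; exact rl_eq x hx
    · exact hx r h
  have := step Up9Data.C x (rl :: relG) hx' hsq
    (fun _ => rfl) 8 Up9Data.subw (by decide) (by (first | (rewrite [Cfsg.Agent.KOf22f1fe.e40, Cfsg.Agent.KOf22f1fe.e42]; decide +kernel) | decide +kernel)) Up9All.part h0 h0'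
  exact this

section

variable {a b c d e f g h i : G}

theorem image_nine : lett a b c d e f g h i '' {k | k < 9} = {a, b, c, d, e, f, g, h, i} := by
  ext y
  simp only [Set.mem_image, Set.mem_ofPred_eq, Set.mem_insert_iff, Set.mem_singleton_iff]
  constructor
  · rintro ⟨k, hk, rfl⟩
    have : k = 0 ∨ k = 1 ∨ k = 2 ∨ k = 3 ∨ k = 4 ∨ k = 5 ∨ k = 6 ∨ k = 7 ∨ k = 8 := by
      have : k < 9 := hk
      omega
    rcases this with h | h | h | h | h | h | h | h | h <;> subst h <;> simp only [lett, _root_.true_or, _root_.or_true]
  · rintro (h | h | h | h | h | h | h | h | h) <;> subst h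
    · exact ⟨0, by decide, rfl⟩
    · exact ⟨3, by decide, rfl⟩
    · exact ⟨1, by decide, rfl⟩
    · exact ⟨2, by decide, rfl⟩
    · exact ⟨4, by decide, rfl⟩
    · exact ⟨5, by decide, rfl⟩
    · exact ⟨7, by decide, rfl⟩
    · exact ⟨8, by decide, rfl⟩
    · exact ⟨6, by decide, rfl⟩

/-- Main theorem: nine elements of any group satisfying `PG` generate a finite group of order at most `|Co₂|`. -/
theorem card_le (P : PG a b c d e f g h i) :
    Finite (Subgroup.closure ({a, b, c, d, e, f, g, h, i} : Set G)) ∧
      Nat.card (Subgroup.closure ({a, b, c, d, e, f, g, h, i} : Set G)) ≤ 42305421312000 := by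
  have := cl9 (lett a b c d e f g h i) (fun r hr => P.rel r hr)
  unfold cl at this
  rwa [image_nine] at this

end

end Cfsg.Agent.Co2Type.UpMain
end

-- part: S1675
section
set_option autoImplicit false
open Cfsg

namespace Cfsg.Agent.S1675

open Cfsg.Agent.Co2Type

theorem emb_val {G K : Type*} [Group G] [Group K] {S : Set G} (E : Subgroup.closure S ≃* K) {x : G} {y : K}
    (hx : x ∈ S) (hy : ∀ hx : x ∈ Subgroup.closure S, E ⟨x, hx⟩ = y) :
    ((Subgroup.closure S).subtype.comp E.symm.toMonoidHom) y = x := by
  have hxH : x ∈ Subgroup.closure S := Subgroup.subset_closure hx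
  rw [← hy hxH]
  show ((E.symm (E ⟨x, hxH⟩) : Subgroup.closure S) : G) = x
  rw [E.symm_apply_apply]

/-- the embedding of `Co₂` -/
theorem exists_emb {G : Type*} [Group G] {t a b c d e f g h : G} (L : LocalMain.Loc t a b c d e f g h)
    {a' b' c' d' e' f' g' h' i' : Spor.Co2} (P' : PresDef.PG a' b' c' d' e' f' g' h' i')
    (hgen : Subgroup.closure ({a', b', c', d', e', f', g', h', i'} : Set Spor.Co2) = ⊤) :
    ∃ φ : Spor.Co2 →* G, Function.Injective φ ∧ φ a' = a ∧ φ b' = b ∧ φ c' = c ∧ φ d' = d ∧ φ e' = e ∧
      φ f' = f ∧ φ g' = g ∧ φ i' = t := by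
  have hs := SimpleCo2.simple_co2
  obtain ⟨E, h1, h2, h3, h4, h5, h6, h7, -, h9⟩ := IsoFib.exists_iso (n := 42305421312000) (by norm_num)
    (fun X _ _ _ _ _ _ _ _ _ _ P => UpMain.card_le P) (Assemble.pg_of_loc L) L.t1 P' hgen CardCo2.card_co2
  have key := fun (x : G) (y : Spor.Co2) => emb_val E (x := x) (y := y)
  refine ⟨(Subgroup.closure ({a, b, c, d, e, f, g, h, t} : Set G)).subtype.comp E.symm.toMonoidHom,
    (Subgroup.subtype_injective _).comp E.symm.injective, key _ _ (by simp only [_root_.Set.mem_insert_iff, _root_.Set.mem_singleton_iff, _root_.true_or]) h1,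
    key _ _ (by simp only [_root_.Set.mem_insert_iff, _root_.Set.mem_singleton_iff, _root_.true_or, _root_.or_true]) h2, key _ _ (by simp only [_root_.Set.mem_insert_iff, _root_.Set.mem_singleton_iff, _root_.true_or, _root_.or_true]) h3, key _ _ (by simp only [_root_.Set.mem_insert_iff, _root_.Set.mem_singleton_iff, _root_.true_or, _root_.or_true]) h4, key _ _ (by simp only [_root_.Set.mem_insert_iff, _root_.Set.mem_singleton_iff, _root_.true_or, _root_.or_true]) h5, key _ _ (by simp only [_root_.Set.mem_insert_iff, _root_.Set.mem_singleton_iff, _root_.true_or, _root_.or_true]) h6,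
    key _ _ (by simp only [_root_.Set.mem_insert_iff, _root_.Set.mem_singleton_iff, _root_.true_or, _root_.or_true]) h7, key _ _ (by simp only [_root_.Set.mem_insert_iff, _root_.Set.mem_singleton_iff, _root_.or_true]) h9⟩

/-- The second Conway group from an involution centraliser: let G be a finite group with no non-trivial normal subgroup of odd order and trivial centre, and let t be an involution whose centraliser C is 2-constrained with O₂(C) extraspecial of order 2 ^ 9 and C / O₂(C) isomorphic to the symplectic group Sp(6, 2). Then G is isomorphic to the second Conway group (the stabiliser in the Leech lattice automorphism group of a minimal vector). -/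
theorem result {G : Type*} [Group G] [Finite G] (hO : Cfsg.oddCore G = ⊥) (hZ : Subgroup.center G = ⊥) (t : G) (ht : orderOf t = 2) (hcon : Cfsg.IsPConstrained 2 (Subgroup.centralizer ({t} : Set G))) (hQ : Cfsg.IsExtraspecial 2 (Cfsg.pCore 2 (Subgroup.centralizer ({t} : Set G)))) (hcard : Nat.card (Cfsg.pCore 2 (Subgroup.centralizer ({t} : Set G))) = 2 ^ 9) (e : (Subgroup.centralizer ({t} : Set G)) ⧸ Cfsg.pCore 2 (Subgroup.centralizer ({t} : Set G)) ≃* Matrix.symplecticGroup (Fin 3) (ZMod 2)) : Cfsg.Spor.IsoCo2 G := by
  obtain ⟨a, b, c, d, e', f, g, h, L⟩ := LocalMain.exists_loc hO hZ t ht hcon hQ hcard e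
  obtain ⟨a', b', c', d', e'', f', g', h', i', P', -, hgen, trI, trA, trR⟩ := Co2Gen.exists_gens
  obtain ⟨φ, hφ, h1, h2, h3, h4, h5, h6, h7, h8⟩ := exists_emb L P' hgen
  refine Assemble.iso_of_loc L φ hφ h1 h2 h3 h4 h5 h6 h7 h8 trI trA ?_
  rw [show i' * (e'' * g' * b') = i' * e'' * g' * b' by simp only [mul_assoc]]
  exact trR

end Cfsg.Agent.S1675
end

private theorem dce_e00020594efc : _root_.True := by
  try have : _root_.True := by simp only [_root_.Cfsg.Agent.Co2Type.GFacts.ct.eq_1]
  try have : _root_.True := by simp only [_root_.Cfsg.Agent.Co2Type.UpMain.rl.eq_1]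
  exact _root_.True.intro
end
end
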