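import Mathlib
import Cfsg.Agent.J2Type.ModelExists
import Cfsg.Agent.ClassificationK.LargeSymplectic
import Cfsg.Agent.Lib.FastPerm
import Cfsg.Agent.SporadicRecognition.CosetCertHyp
import Cfsg.Agent.Lib.CosetPartial
import Cfsg.Agent.S1694
import Cfsg.Agent.Lib.PermNetOrbit
import Cfsg.Agent.SporadicRecognition.HypFast
import Cfsg.Agent.SporadicRecognition.CertFastP
import Cfsg.Agent.LargeExtra.SuzData
import Cfsg.Agent.LargeExtra.SuzFour
import Cfsg.Agent.SporadicRecognition.SuzOrder
import Cfsg.Agent.S0848
import Cfsg.Agent.S0497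
import Cfsg.Agent.J3Type.Extra
import Cfsg.Agent.SporadicB.DihedralLift
import Cfsg.Agent.SuzType.ASixRel
import Cfsg.Agent.J2Type.Model
import Cfsg.Agent.SporRec.SuzCl.Inv
import Cfsg.Agent.SporRec.ClosingZStar
import Cfsg.Statements.S1719
import Cfsg.Agent.S0205
import Cfsg.Agent.FastGrp
import Cfsg.Agent.Prune
set_option linter.all false

section
prune_inst 0x7fbcfef9afb8addfffff7e7ffffddffff9fdffffffdffbcbffedfbffafdf6b67bbe5fb8f9fec58ff8ed6e2be30b87853f9fffeffef6bdc7ffffd5ff45ffbee1fe5ffbdad71d6bc3e1ffe6ffffbf37fae7f3fffffffffffffffffffffffffffffffffffffffff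

-- part: SuzType/Swap
section
prune_inst 0x40000240401200000001800002000004000000002004300000040040000008401200306000860071201000c6400300060001000094000000000000200411801a00000000290080000010000008804000000000000000000000000000000000000000000000
set_option linter.all false
open scoped Cfsg.Agent.FastGrp

-- part: SuzType/Canon
section
/-!
# Canonical involutions: a complement `L` of order 60 permutes the five involutions without signs
-/

set_option autoImplicit false

namespace Cfsg.Agent.SuzType.Canon

open Cfsg.Agent.J2Type.QStruct Cfsg.Agent.J2Type.Model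

variable {C : Type*} [Group C]

/-- The signed permutation model, from the elementwise hypotheses. -/
theorem exists_model_of_hyp [Finite C] {Q : Subgroup C} [Q.Normal] {z : C} (h : Hyp Q z)
    (hcard : Nat.card Q = 32) (h60 : Nat.card (C ⧸ Q) = 60) :
    ∃ (v : Fin 5 → C) (ρ : C →* SP), IsModel Q z v ρ := by
  have h1920 : Nat.card C = 1920 := by
    have := Subgroup.card_eq_card_quotient_mul_card_subgroup Q
    rw [h60, hcard] at this
    omega
  have h5 : Fact (Nat.Prime 5) := ⟨by norm_num⟩
  obtain ⟨w, hw⟩ := exists_prime_orderOf_dvd_card' (G := C) 5 (by rw [h1920]; norm_num)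
  have hw5 : w ^ 5 = 1 := by rw [← hw]; exact pow_orderOf_eq_one w
  have hw1 : w ≠ 1 := by
    intro h1
    rw [h1, orderOf_one] at hw
    norm_num at hw
  obtain ⟨v, F, -, d2, d3⟩ := h.exists_five hcard w hw5 hw1
  obtain ⟨ρ, hρ⟩ := isModel_of_hyp h h60 F d2 d3
  exact ⟨v, ρ, hρ⟩

/-- Conjugating a model by an element of `C`. -/
theorem IsModel.conjBy {Q : Subgroup C} [Q.Normal] {z : C} {v : Fin 5 → C} {ρ : C →* SP}
    (M : IsModel Q z v ρ) (q : C) :
    IsModel Q z (fun i => q * v i * q⁻¹) (ρ.comp (MulAut.conj q⁻¹).toMonoidHom) where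
  z_ne := M.z_ne
  z_sq := M.z_sq
  z_comm := M.z_comm
  z_mem := M.z_mem
  v_mem i := (inferInstance : Q.Normal).conj_mem _ (M.v_mem i) q
  v_sq i := by
    have : q * v i * q⁻¹ * (q * v i * q⁻¹) = q * (v i * v i) * q⁻¹ := by group
    rw [this, M.v_sq]; group
  v_anti i j hij := by
    have h1 : q * v i * q⁻¹ * (q * v j * q⁻¹) = q * (v i * v j) * q⁻¹ := by group
    rw [h1, M.v_anti i j hij]
    have h2 : q * (z * (v j * v i)) * q⁻¹ = (q * z) * (v j * v i) * q⁻¹ := by group
    rw [h2, M.z_comm]; group
  v_prod := by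
    have h1 : q * v 0 * q⁻¹ * (q * v 1 * q⁻¹) * (q * v 2 * q⁻¹) * (q * v 3 * q⁻¹) *
        (q * v 4 * q⁻¹) = q * (v 0 * v 1 * v 2 * v 3 * v 4) * q⁻¹ := by group
    rw [h1, M.v_prod]; group
  v_inj a b i j h := by
    apply M.v_inj a b i j
    have zpc : ∀ a, q * zp z a = zp z a * q := fun a => (zp_comm z M.z_comm a q)
    have h1 : ∀ a i, zp z a * (q * v i * q⁻¹) = q * (zp z a * v i) * q⁻¹ := by
      intro a i
      have : q * (zp z a * v i) * q⁻¹ = (q * zp z a) * v i * q⁻¹ := by group
      rw [this, zpc]
      group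
    rw [h1, h1] at h
    exact mul_left_cancel (mul_right_cancel h)
  conj c i := by
    have zpc : ∀ a, q * zp z a = zp z a * q := fun a => (zp_comm z M.z_comm a q)
    have h1 := M.conj (q⁻¹ * c * q) i
    have h2 : c * (q * v i * q⁻¹) * c⁻¹ = q * (q⁻¹ * c * q * v i * (q⁻¹ * c * q)⁻¹) * q⁻¹ := by group
    rw [h2, h1]
    have h3 : (ρ.comp (MulAut.conj q⁻¹).toMonoidHom) c = ρ (q⁻¹ * c * q) := by
      simp only [_root_.map_inv, _root_.MulEquiv.toMonoidHom_eq_coe, _root_.MonoidHom.coe_comp, _root_.MonoidHom.coe_coe, _root_.MulAut.coe_inv, _root_.Function.comp_apply, _root_.MulAut.conj_symm_apply, _root_.map_mul]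
    rw [h3]
    have : q * (zp z ((ρ (q⁻¹ * c * q)).s i) * v ((ρ (q⁻¹ * c * q)).σ i)) * q⁻¹ =
      (q * zp z ((ρ (q⁻¹ * c * q)).s i)) * v ((ρ (q⁻¹ * c * q)).σ i) * q⁻¹ := by group
    rw [this, zpc]
    group
  ker c := by
    have h3 : (ρ.comp (MulAut.conj q⁻¹).toMonoidHom) c = ρ (q⁻¹ * c * q) := by simp only [_root_.map_inv, _root_.MulEquiv.toMonoidHom_eq_coe, _root_.MonoidHom.coe_comp, _root_.MonoidHom.coe_coe, _root_.MulAut.coe_inv, _root_.Function.comp_apply, _root_.MulAut.conj_symm_apply, _root_.map_mul]
    rw [h3, M.ker]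
    constructor
    · rintro (h | h)
      · left
        have := congrArg (fun t => q * t * q⁻¹) h
        simpa [mul_assoc] using this
      · right
        have := congrArg (fun t => q * t * q⁻¹) h
        simp only [mul_assoc, mul_inv_cancel_left, mul_inv_cancel, mul_one] at this
        rw [this, ← mul_assoc, M.z_comm q, mul_assoc, mul_inv_cancel, mul_one]
    · rintro (h | h)
      · left; rw [h]; group
      · right; rw [h, M.z_comm q⁻¹, mul_assoc, inv_mul_cancel, mul_one]
  range g := by
    rw [← M.range g]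
    constructor
    · rintro ⟨c, hc⟩
      exact ⟨q⁻¹ * c * q, by simpa only [_root_.map_mul, _root_.map_inv, _root_.MulEquiv.toMonoidHom_eq_coe, _root_.MonoidHom.coe_comp, _root_.MonoidHom.coe_coe, _root_.MulAut.coe_inv, _root_.Function.comp_apply, _root_.MulAut.conj_symm_apply] using hc⟩
    · rintro ⟨c, hc⟩
      refine ⟨q * c * q⁻¹, ?_⟩
      have : q⁻¹ * (q * c * q⁻¹) * q = c := by group
      simpa [this, mul_assoc] using hc
  mem_Q c := by
    have h3 : (ρ.comp (MulAut.conj q⁻¹).toMonoidHom) c = ρ (q⁻¹ * c * q) := by simp only [_root_.map_inv, _root_.MulEquiv.toMonoidHom_eq_coe, _root_.MonoidHom.coe_comp, _root_.MonoidHom.coe_coe, _root_.MulAut.coe_inv, _root_.Function.comp_apply, _root_.MulAut.conj_symm_apply, _root_.map_mul]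
    rw [h3, ← M.mem_Q]
    constructor
    · intro h
      have := (inferInstance : Q.Normal).conj_mem _ h q⁻¹
      simpa using this
    · intro h
      have := (inferInstance : Q.Normal).conj_mem _ h q
      have h4 : q * (q⁻¹ * c * q) * q⁻¹ = c := by group
      rwa [h4] at this
  cover x hx := by
    have hx' : q⁻¹ * x * q ∈ Q := by
      have := (inferInstance : Q.Normal).conj_mem _ hx q⁻¹
      simpa using this
    have zpc : ∀ a, q * zp z a = zp z a * q := fun a => (zp_comm z M.z_comm a q)
    have hxe : x = q * (q⁻¹ * x * q) * q⁻¹ := by group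
    have hz : ∀ a (t : C), q * (zp z a * t) * q⁻¹ = zp z a * (q * t * q⁻¹) := by
      intro a t
      have : q * (zp z a * t) * q⁻¹ = (q * zp z a) * t * q⁻¹ := by group
      rw [this, zpc]
      group
    rcases M.cover _ hx' with ⟨a, ha⟩ | ⟨a, i, ha⟩ | ⟨a, i, j, hij, ha⟩
    · left
      refine ⟨a, ?_⟩
      rw [hxe, ha, zpc]
      group
    · right; left
      refine ⟨a, i, ?_⟩
      rw [hxe, ha, hz]
    · right; right
      refine ⟨a, i, j, hij, ?_⟩
      rw [hxe, ha, hz]
      group

/-- the permutation part -/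
def sg : SP →* Equiv.Perm (Fin 5) where
  toFun g := g.σ
  map_one' := rfl
  map_mul' _ _ := rfl

theorem stab_zero : ∀ σ : Equiv.Perm (Fin 5), Equiv.Perm.sign σ = 1 → σ 0 = 0 →
    σ ^ 3 = 1 ∨ (σ * (Equiv.swap (1 : Fin 5) 2 * Equiv.swap (2 : Fin 5) 3)) ^ 3 = 1 := by (set_option synthInstance.maxSize 9000 in open scoped Cfsg.Agent.Lib.FastPerm in decide +kernel)

theorem tr_facts : ∀ i : Fin 5, (finRotate 5 ^ (i : ℕ)) 0 = i ∧
    Equiv.Perm.sign (finRotate 5 ^ (i : ℕ)) = 1 := by decide +kernel

theorem c3_facts : Equiv.Perm.sign (Equiv.swap (1 : Fin 5) 2 * Equiv.swap (2 : Fin 5) 3 : Equiv.Perm (Fin 5)) = 1 ∧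
    (Equiv.swap (1 : Fin 5) 2 * Equiv.swap (2 : Fin 5) 3 : Equiv.Perm (Fin 5)) 0 = 0 ∧
    (Equiv.swap (1 : Fin 5) 2 * Equiv.swap (2 : Fin 5) 3 : Equiv.Perm (Fin 5)) ^ 3 = 1 := by decide +kernel

theorem card_alt_five : Nat.card (alternatingGroup (Fin 5)) = 60 := by
  rw [nat_card_alternatingGroup]
  simp [Nat.factorial]

/-- **Canonical involutions**, relative to a given model. -/
theorem exists_canon_aux [Finite C] {Q : Subgroup C} [Q.Normal] {z : C} {v : Fin 5 → C} {ρ : C →* SP}
    (M : IsModel Q z v ρ) (L : Subgroup C) (hL : Nat.card L = 60)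
    (hLQ : ∀ x ∈ L, x ∈ Q → x = 1) :
    ∃ (q : C) (κ : alternatingGroup (Fin 5) →* C), q ∈ Q ∧
      (∀ σ : alternatingGroup (Fin 5), ρ (q⁻¹ * κ σ * q) = ⟨(σ : Equiv.Perm (Fin 5)), fun _ => 0⟩) ∧
      κ.range = L := by
  let φ : L →* alternatingGroup (Fin 5) := (sg.comp (ρ.comp L.subtype)).codRestrict _
    (fun l => Equiv.Perm.mem_alternatingGroup.2 ((M.range _).1 ⟨(l : C), rfl⟩).1)
  have hφ : ∀ l : L, ((φ l : alternatingGroup (Fin 5)) : Equiv.Perm (Fin 5)) = (ρ (l : C)).σ :=
    fun _ => rfl
  have hinj : Function.Injective φ := by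
    rw [injective_iff_map_eq_one]
    intro l hl
    have h1 : (ρ (l : C)).σ = 1 := by rw [← hφ, hl]; rfl
    exact Subtype.ext (hLQ l l.2 ((M.mem_Q _).2 h1))
  have hbij : Function.Bijective φ :=
    hinj.bijective_of_nat_card_le (by rw [card_alt_five, hL])
  let e : L ≃* alternatingGroup (Fin 5) := MulEquiv.ofBijective φ hbij
  let κ : alternatingGroup (Fin 5) →* C := L.subtype.comp e.symm.toMonoidHom
  have hκσ : ∀ σ, (ρ (κ σ)).σ = σ := by
    intro σ
    have h1 := hφ (e.symm σ)
    have h2 : φ (e.symm σ) = σ := e.apply_symm_apply σ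
    rw [h2] at h1
    exact h1.symm
  have hcoc : ∀ (σ τ : alternatingGroup (Fin 5)) (i : Fin 5),
      (ρ (κ (σ * τ))).s i = (ρ (κ τ)).s i + (ρ (κ σ)).s ((τ : Equiv.Perm (Fin 5)) i) := by
    intro σ τ i
    rw [map_mul, map_mul, mul_s, hκσ]
  have hone : ∀ i, (ρ (κ 1)).s i = 0 := by
    intro i
    rw [map_one, map_one]; rfl
  have h3 : ∀ a : ZMod 2, a + (a + a) = a := by decide
  have hcube : ∀ η : alternatingGroup (Fin 5), η ^ 3 = 1 →
      (η : Equiv.Perm (Fin 5)) 0 = 0 → (ρ (κ η)).s 0 = 0 := by
    intro η h1 h2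
    have h4 := hone 0
    rw [← h1, pow_succ, pow_two, hcoc, hcoc, h2, h2] at h4
    rwa [h3] at h4
  have hstab : ∀ η : alternatingGroup (Fin 5), (η : Equiv.Perm (Fin 5)) 0 = 0 →
      (ρ (κ η)).s 0 = 0 := by
    intro η h2
    rcases stab_zero η (Equiv.Perm.mem_alternatingGroup.1 η.2) h2 with h | h
    · exact hcube η (Subtype.ext h) h2
    · let c3 : alternatingGroup (Fin 5) := ⟨Equiv.swap (1 : Fin 5) 2 * Equiv.swap (2 : Fin 5) 3,
        Equiv.Perm.mem_alternatingGroup.2 c3_facts.1⟩
      have h5 : (ρ (κ (η * c3))).s 0 = 0 := by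
        apply hcube
        · exact Subtype.ext h
        · show (η : Equiv.Perm (Fin 5)) ((c3 : Equiv.Perm (Fin 5)) 0) = 0
          rw [show (c3 : Equiv.Perm (Fin 5)) 0 = 0 from c3_facts.2.1, h2]
      have h6 : (ρ (κ c3)).s 0 = 0 := hcube c3 (Subtype.ext c3_facts.2.2) c3_facts.2.1
      rw [hcoc, h6, show (c3 : Equiv.Perm (Fin 5)) 0 = 0 from c3_facts.2.1, zero_add] at h5
      exact h5
  let τ : Fin 5 → alternatingGroup (Fin 5) := fun i =>
    ⟨finRotate 5 ^ (i : ℕ), Equiv.Perm.mem_alternatingGroup.2 (tr_facts i).2⟩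
  have hτ : ∀ i, ((τ i : alternatingGroup (Fin 5)) : Equiv.Perm (Fin 5)) 0 = i :=
    fun i => (tr_facts i).1
  have key : ∀ (σ : alternatingGroup (Fin 5)) (i : Fin 5),
      (ρ (κ σ)).s i = (ρ (κ (τ i))).s 0 + (ρ (κ (τ ((σ : Equiv.Perm (Fin 5)) i)))).s 0 := by
    intro σ i
    have h1 := hcoc σ (τ i) 0
    rw [hτ] at h1
    set j := (σ : Equiv.Perm (Fin 5)) i with hj
    have h2 : σ * τ i = τ j * ((τ j)⁻¹ * (σ * τ i)) := by group
    have h4 : (((τ j)⁻¹ * (σ * τ i) : alternatingGroup (Fin 5)) : Equiv.Perm (Fin 5)) 0 = 0 := by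
      have : (((τ j)⁻¹ * (σ * τ i) : alternatingGroup (Fin 5)) : Equiv.Perm (Fin 5)) 0 =
        ((τ j : alternatingGroup (Fin 5)) : Equiv.Perm (Fin 5))⁻¹ ((σ : Equiv.Perm (Fin 5))
          (((τ i : alternatingGroup (Fin 5)) : Equiv.Perm (Fin 5)) 0)) := rfl
      rw [this, hτ, ← hj, Equiv.Perm.inv_eq_iff_eq, hτ]
    rw [h2, hcoc, h4, hstab _ h4, zero_add] at h1
    rw [h1]
    generalize (ρ (κ (τ i))).s 0 = a
    generalize (ρ (κ σ)).s i = b
    revert a b; decide
  obtain ⟨a, ha0, ha⟩ : ∃ a : Fin 5 → ZMod 2, ∑ i, a i = 0 ∧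
      ∀ (σ : alternatingGroup (Fin 5)) (i : Fin 5),
        (ρ (κ σ)).s i = a i + a ((σ : Equiv.Perm (Fin 5)) i) := by
    rcases zmod2_cases (∑ i, (ρ (κ (τ i))).s 0) with h | h
    · exact ⟨_, h, key⟩
    · refine ⟨fun i => (ρ (κ (τ i))).s 0 + 1, ?_, ?_⟩
      · rw [Finset.sum_add_distrib, h]
        decide
      · intro σ i
        rw [key]
        have : ∀ a b : ZMod 2, a + b = a + 1 + (b + 1) := by decide
        exact this _ _
  obtain ⟨q, hq⟩ := (M.range ⟨1, a⟩).2 ⟨by simp, ha0⟩
  refine ⟨q, κ, (M.mem_Q q).2 (by rw [hq]), ?_, ?_⟩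
  · intro σ
    rw [map_mul, map_mul, map_inv, hq]
    apply SP.ext
    · rw [mul_σ, mul_σ, inv_σ, hκσ]
      simp
    · funext i
      rw [mul_s, mul_s, inv_s]
      simp only [hκσ, inv_one, Equiv.Perm.one_apply]
      rw [ha]
      generalize a i = x
      generalize a ((σ : Equiv.Perm (Fin 5)) i) = y
      revert x y; decide
  · ext x
    constructor
    · rintro ⟨σ, rfl⟩
      exact (e.symm σ).2
    · intro hx
      refine ⟨e ⟨x, hx⟩, ?_⟩
      show ((e.symm (e ⟨x, hx⟩) : L) : C) = x
      rw [e.symm_apply_apply]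

/-- **Canonical involutions.** -/
theorem exists_canon [Finite C] {Q : Subgroup C} [Q.Normal] {z : C} {v : Fin 5 → C} {ρ : C →* SP}
    (M : IsModel Q z v ρ) (L : Subgroup C) (hL : Nat.card L = 60)
    (hLQ : ∀ x ∈ L, x ∈ Q → x = 1) :
    ∃ (v' : Fin 5 → C) (ρ' : C →* SP) (κ : alternatingGroup (Fin 5) →* C),
      IsModel Q z v' ρ' ∧ (∀ σ, ρ' (κ σ) = ⟨σ, fun _ => 0⟩) ∧ κ.range = L := by
  obtain ⟨q, κ, hqQ, hq, hr⟩ := exists_canon_aux M L hL hLQ
  refine ⟨_, _, κ, IsModel.conjBy M q, ?_, hr⟩
  intro σ
  rw [← hq σ]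
  simp only [_root_.map_inv, _root_.MulEquiv.toMonoidHom_eq_coe, _root_.MonoidHom.coe_comp, _root_.MonoidHom.coe_coe, _root_.MulAut.coe_inv, _root_.Function.comp_apply, _root_.MulAut.conj_symm_apply, _root_.map_mul]

theorem odd_facts : ∀ σ : Equiv.Perm (Fin 5), Equiv.Perm.sign σ = 1 →
    σ ^ 15 = 1 ∨ (σ * (Equiv.swap (1 : Fin 5) 2 * Equiv.swap (2 : Fin 5) 3)) ^ 15 = 1 ∨
      (σ * (Equiv.swap (2 : Fin 5) 3 * Equiv.swap (3 : Fin 5) 4)) ^ 15 = 1 := by (set_option synthInstance.maxSize 9000 in open scoped Cfsg.Agent.Lib.FastPerm in decide +kernel)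

theorem odd_facts' : Equiv.Perm.sign (Equiv.swap (1 : Fin 5) 2 * Equiv.swap (2 : Fin 5) 3 : Equiv.Perm (Fin 5)) = 1 ∧
    (Equiv.swap (1 : Fin 5) 2 * Equiv.swap (2 : Fin 5) 3 : Equiv.Perm (Fin 5)) ^ 15 = 1 ∧
    Equiv.Perm.sign (Equiv.swap (2 : Fin 5) 3 * Equiv.swap (3 : Fin 5) 4 : Equiv.Perm (Fin 5)) = 1 ∧
    (Equiv.swap (2 : Fin 5) 3 * Equiv.swap (3 : Fin 5) 4 : Equiv.Perm (Fin 5)) ^ 15 = 1 := by (set_option synthInstance.maxSize 9000 in open scoped Cfsg.Agent.Lib.FastPerm in decide +kernel)

/-- Two complements of `Q` are conjugate by an element of `Q`. -/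
theorem conj_compl [Finite C] {Q : Subgroup C} [Q.Normal] {z : C} {v : Fin 5 → C} {ρ : C →* SP}
    (M : IsModel Q z v ρ) (L L' : Subgroup C) (hL : Nat.card L = 60)
    (hLQ : ∀ x ∈ L, x ∈ Q → x = 1) (hL' : Nat.card L' = 60) (hLQ' : ∀ x ∈ L', x ∈ Q → x = 1) :
    ∃ q ∈ Q, ∀ x, x ∈ L' ↔ q⁻¹ * x * q ∈ L := by
  obtain ⟨q1, κ1, hq1, h1, r1⟩ := exists_canon_aux M L hL hLQ
  obtain ⟨q2, κ2, hq2, h2, r2⟩ := exists_canon_aux M L' hL' hLQ'
  -- the two parametrisations, in adapted position
  let φ1 : alternatingGroup (Fin 5) →* C := (MulAut.conj q1⁻¹).toMonoidHom.comp κ1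
  let φ2 : alternatingGroup (Fin 5) →* C := (MulAut.conj q2⁻¹).toMonoidHom.comp κ2
  have e1 : ∀ σ, φ1 σ = q1⁻¹ * κ1 σ * q1 := by intro σ; simp only [φ1, _root_.map_inv, _root_.MulEquiv.toMonoidHom_eq_coe, _root_.MonoidHom.coe_comp, _root_.MonoidHom.coe_coe, _root_.MulAut.coe_inv, _root_.Function.comp_apply, _root_.MulAut.conj_symm_apply]
  have e2 : ∀ σ, φ2 σ = q2⁻¹ * κ2 σ * q2 := by intro σ; simp only [φ2, _root_.map_inv, _root_.MulEquiv.toMonoidHom_eq_coe, _root_.MonoidHom.coe_comp, _root_.MonoidHom.coe_coe, _root_.MulAut.coe_inv, _root_.Function.comp_apply, _root_.MulAut.conj_symm_apply]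
  have hz : ∀ σ, φ2 σ = φ1 σ ∨ φ2 σ = φ1 σ * z := by
    intro σ
    have h3 : ρ ((φ1 σ)⁻¹ * φ2 σ) = 1 := by
      rw [map_mul, map_inv, e1, e2, h1, h2, inv_mul_cancel]
    rcases (M.ker _).1 h3 with h | h
    · left; rw [inv_mul_eq_one] at h; exact h.symm
    · right; rw [← h]; group
  have hz2 : z ^ 2 = 1 := by rw [pow_two, M.z_sq]
  have hodd : ∀ σ : alternatingGroup (Fin 5), σ ^ 15 = 1 → φ2 σ = φ1 σ := by
    intro σ hσ
    rcases hz σ with h | h
    · exact h
    · exfalso
      have h4 : (φ2 σ) ^ 15 = 1 := by rw [← map_pow, hσ, map_one]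
      have h5 : (φ1 σ) ^ 15 = 1 := by rw [← map_pow, hσ, map_one]
      have hc : Commute (φ1 σ) z := M.z_comm _
      rw [h, hc.mul_pow, h5, one_mul] at h4
      have : z ^ 15 = z := by
        calc z ^ 15 = (z ^ 2) ^ 7 * z := by group
          _ = z := by rw [hz2, one_pow, one_mul]
      rw [this] at h4
      exact M.z_ne h4
  have heq : ∀ σ, φ2 σ = φ1 σ := by
    intro σ
    let a1 : alternatingGroup (Fin 5) := ⟨Equiv.swap (1 : Fin 5) 2 * Equiv.swap (2 : Fin 5) 3,
      Equiv.Perm.mem_alternatingGroup.2 odd_facts'.1⟩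
    let a2 : alternatingGroup (Fin 5) := ⟨Equiv.swap (2 : Fin 5) 3 * Equiv.swap (3 : Fin 5) 4,
      Equiv.Perm.mem_alternatingGroup.2 odd_facts'.2.2.1⟩
    have ha1 : φ2 a1 = φ1 a1 := hodd a1 (Subtype.ext odd_facts'.2.1)
    have ha2 : φ2 a2 = φ1 a2 := hodd a2 (Subtype.ext odd_facts'.2.2.2)
    rcases odd_facts σ (Equiv.Perm.mem_alternatingGroup.1 σ.2) with h | h | h
    · exact hodd σ (Subtype.ext h)
    · have h5 : φ2 (σ * a1) = φ1 (σ * a1) := hodd _ (Subtype.ext h)
      rw [map_mul, map_mul, ha1] at h5
      exact mul_right_cancel h5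
    · have h5 : φ2 (σ * a2) = φ1 (σ * a2) := hodd _ (Subtype.ext h)
      rw [map_mul, map_mul, ha2] at h5
      exact mul_right_cancel h5
  refine ⟨q2 * q1⁻¹, mul_mem hq2 (inv_mem hq1), ?_⟩
  intro x
  rw [← r1, ← r2]
  constructor
  · rintro ⟨σ, rfl⟩
    refine ⟨σ, ?_⟩
    have h5 := heq σ
    rw [e1, e2] at h5
    have h6 : (q2 * q1⁻¹)⁻¹ * κ2 σ * (q2 * q1⁻¹) = q1 * (q2⁻¹ * κ2 σ * q2) * q1⁻¹ := by group
    rw [h6, h5]
    group
  · rintro ⟨σ, hσ⟩
    refine ⟨σ, ?_⟩
    have h5 := heq σ
    rw [e1, e2] at h5
    have h6 : κ2 σ = q2 * (q2⁻¹ * κ2 σ * q2) * q2⁻¹ := by group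
    rw [h6, h5, hσ]
    group

end Cfsg.Agent.SuzType.Canon
end

-- part: SuzType/CanonG
section
/-!
# Canonical involutions inside `G` (node N3)
-/

set_option autoImplicit false

namespace Cfsg.Agent.SuzType.CanonG

open Cfsg.Agent.J2Type.QStruct Cfsg.Agent.J2Type.Model
open Cfsg.Agent.ClassificationK.LargeSymplectic

variable {G : Type*} [Group G]

/-- The hypotheses of node N3: `Q` extraspecial of order `2^7` (elementwise), `y, t` in `Q` two
involutions with commutator `z`, and `L` of order 60 centralising `y` and `t`. -/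
structure Pre (Q : Subgroup G) (z y t : G) (L : Subgroup G) : Prop where
  D : Data Q z
  z_ne : z ≠ 1
  cardQ : Nat.card Q = 128
  cen : ∀ x ∈ Q, (∀ q ∈ Q, q * x = x * q) → x = 1 ∨ x = z
  yQ : y ∈ Q
  tQ : t ∈ Q
  y2 : y * y = 1
  t2 : t * t = 1
  yt : y * t = z * (t * y)
  cardL : Nat.card L = 60
  Ly : ∀ x ∈ L, x * y = y * x
  Lt : ∀ x ∈ L, x * t = t * x
  LQ : ∀ x ∈ L, x ∈ Q → x = 1

/-- The canonical involutions of `C_Q(⟨y,t⟩)` and the parametrisation of `L`. -/
structure Canon (Q : Subgroup G) (z y t : G) (L : Subgroup G) (c : Fin 5 → G)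
    (κ : alternatingGroup (Fin 5) →* G) : Prop where
  c_mem : ∀ i, c i ∈ Q
  c_y : ∀ i, c i * y = y * c i
  c_t : ∀ i, c i * t = t * c i
  c_sq : ∀ i, c i * c i = 1
  c_anti : ∀ i j, i ≠ j → c i * c j = z * (c j * c i)
  c_prod : c 0 * c 1 * c 2 * c 3 * c 4 = 1
  c_inj : ∀ a b i j, zp z a * c i = zp z b * c j → a = b ∧ i = j
  κ_range : κ.range = L
  κ_inj : Function.Injective κ
  κ_conj : ∀ (σ : alternatingGroup (Fin 5)) i, κ σ * c i * (κ σ)⁻¹ = c ((σ : Equiv.Perm (Fin 5)) i)
  cover : ∀ q ∈ Q, q * y = y * q → q * t = t * q → (∃ a, q = zp z a) ∨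
    (∃ a i, q = zp z a * c i) ∨ (∃ a i j, i < j ∧ q = zp z a * (c i * c j))

namespace Pre

variable {Q L : Subgroup G} {z y t : G} (H : Pre Q z y t L)
include H

theorem zy : z * y = y * z := (H.D.com y H.yQ).symm
theorem zt : z * t = t * z := (H.D.com t H.tQ).symm
theorem zz : z * z = 1 := H.D.sqz

theorem Lz : ∀ x ∈ L, x * z = z * x := by
  intro x hx
  have h1 : z = y * t * y⁻¹ * t⁻¹ := by
    rw [H.yt]; group
  have hy := H.Ly x hx
  have ht := H.Lt x hx
  have c1 : Commute x y := hy
  have c2 : Commute x t := ht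
  rw [h1]
  exact (((c1.mul_right c2).mul_right c1.inv_right).mul_right c2.inv_right)

theorem comm (x : G) (hx : x ∈ Q) (w : G) (hw : w ∈ Q) : x * w = w * x ∨ x * w = z * (w * x) := by
  rcases H.D.comm x hx w hw with h | h
  · left; rw [mul_inv_eq_iff_eq_mul] at h; exact h
  · right; rw [mul_inv_eq_iff_eq_mul] at h; rw [h, mul_assoc]

/-- `C_Q(⟨y, t⟩)` -/
def K0 (Q : Subgroup G) (y t : G) : Subgroup G := Q ⊓ Subgroup.centralizer {y, t}

omit H in
theorem mem_K0 {x : G} : x ∈ K0 Q y t ↔ x ∈ Q ∧ x * y = y * x ∧ x * t = t * x := by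
  unfold K0
  rw [Subgroup.mem_inf, Subgroup.mem_centralizer_iff]
  constructor
  · rintro ⟨h1, h2⟩
    exact ⟨h1, (h2 y (by simp)).symm, (h2 t (by simp)).symm⟩
  · rintro ⟨h1, h2, h3⟩
    refine ⟨h1, ?_⟩
    intro w hw
    rcases hw with rfl | hw
    · exact h2.symm
    · rw [Set.mem_singleton_iff] at hw
      subst hw
      exact h3.symm

theorem anti_iff (x : G) (hx : x ∈ Q) (w : G) (hw : w ∈ Q) : ¬ (x * w = w * x) ↔ x * w = z * (w * x) := by
  constructor
  · intro h
    rcases H.comm x hx w hw with h1 | h1
    · exact absurd h1 h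
    · exact h1
  · intro h h1
    rw [h1] at h
    exact H.z_ne (mul_eq_right.1 h.symm)

theorem mul_flip (x w a : G) (hx : x ∈ Q) (hw : w ∈ Q) (_ha : a ∈ Q) (haw : a * w = z * (w * a)) :
    (x * a) * w = w * (x * a) ↔ ¬ (x * w = w * x) := by
  have hxz : x * z = z * x := H.D.com x hx
  rw [H.anti_iff x hx w hw]
  constructor
  · intro h
    have h1 : x * a * w = z * (x * w * a) := by
      calc x * a * w = x * (a * w) := by group
        _ = (x * z) * w * a := by rw [haw]; group
        _ = _ := by rw [hxz]; group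
    rw [h1] at h
    have h2 : z * (x * w) = w * x := by
      apply mul_right_cancel (b := a)
      calc z * (x * w) * a = z * (x * w * a) := by group
        _ = w * (x * a) := h
        _ = w * x * a := by group
    rw [← h2, ← mul_assoc, H.zz, one_mul]
  · intro h
    calc x * a * w = x * (a * w) := by group
      _ = (x * z) * w * a := by rw [haw]; group
      _ = z * (x * w) * a := by rw [hxz]; group
      _ = (z * z) * (w * x) * a := by rw [h]; group
      _ = _ := by rw [H.zz]; group

theorem ty : t * y = z * (y * t) := by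
  rw [H.yt, ← mul_assoc, H.zz, one_mul]

theorem decomp (x : G) (hx : x ∈ Q) : ∃ k ∈ K0 Q y t, x = k ∨ x = k * y ∨ x = k * t ∨ x = k * (y * t) := by
  by_cases h1 : x * y = y * x
  · by_cases h2 : x * t = t * x
    · exact ⟨x, mem_K0.2 ⟨hx, h1, h2⟩, Or.inl rfl⟩
    · refine ⟨x * y, mem_K0.2 ⟨mul_mem hx H.yQ, ?_, ?_⟩, Or.inr (Or.inl ?_)⟩
      · rw [h1, mul_assoc, h1]
      · exact (H.mul_flip x t y hx H.tQ H.yQ H.yt).2 h2
      · rw [mul_assoc, H.y2, mul_one]
  · by_cases h2 : x * t = t * x
    · refine ⟨x * t, mem_K0.2 ⟨mul_mem hx H.tQ, ?_, ?_⟩, Or.inr (Or.inr (Or.inl ?_))⟩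
      · exact (H.mul_flip x y t hx H.yQ H.tQ H.ty).2 h1
      · rw [h2, mul_assoc, h2]
      · rw [mul_assoc, H.t2, mul_one]
    · have h3 : (x * y) * t = t * (x * y) := (H.mul_flip x t y hx H.tQ H.yQ H.yt).2 h2
      have h4 : ¬ ((x * y) * y = y * (x * y)) := by
        intro h
        apply h1
        apply mul_right_cancel (b := y)
        rw [h]; group
      have h5 : x * y * t * y = y * (x * y * t) :=
        (H.mul_flip (x * y) y t (mul_mem hx H.yQ) H.yQ H.tQ H.ty).2 h4
      have h6 : x * y * t * t = t * (x * y * t) := by rw [h3, mul_assoc, h3]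
      have hxz : x * z = z * x := H.D.com x hx
      refine ⟨z * (x * y * t), mem_K0.2 ⟨mul_mem H.D.mem (mul_mem (mul_mem hx H.yQ) H.tQ), ?_, ?_⟩,
        Or.inr (Or.inr (Or.inr ?_))⟩
      · rw [mul_assoc, h5, ← mul_assoc, H.zy, mul_assoc]
      · rw [mul_assoc, h6, ← mul_assoc, H.zt, mul_assoc]
      · have h7 : y * t * (y * t) = z := by
          calc y * t * (y * t) = (y * t) * y * t := by group
            _ = z * t * (y * y) * t := by rw [H.yt]; group
            _ = z * (t * t) := by rw [H.y2]; group
            _ = z := by rw [H.t2, mul_one]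
        calc x = x * (z * z) := by rw [H.zz, mul_one]
          _ = z * x * z := by rw [← mul_assoc, hxz]
          _ = z * x * (y * t * (y * t)) := by rw [h7]
          _ = _ := by group

theorem card_K0 [Finite G] : Nat.card (K0 Q y t) = 32 := by
  let K1 : Subgroup G := Q ⊓ Subgroup.centralizer {y}
  have m1 : ∀ x, x ∈ K1 ↔ x ∈ Q ∧ x * y = y * x := by
    intro x
    simp only [K1, Subgroup.mem_inf, Subgroup.mem_centralizer_iff, Set.mem_singleton_iff, forall_eq]
    constructor
    · rintro ⟨h1, h2⟩; exact ⟨h1, h2.symm⟩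
    · rintro ⟨h1, h2⟩; exact ⟨h1, h2.symm⟩
  have e1 : K1.relIndex Q = 2 := by
    rw [Subgroup.relIndex_eq_two_iff]
    refine ⟨t, H.tQ, ?_⟩
    intro b hb
    have h1 := H.mul_flip b y t hb H.yQ H.tQ H.ty
    by_cases h2 : b * y = y * b
    · right
      refine ⟨(m1 b).2 ⟨hb, h2⟩, ?_⟩
      intro h3
      exact h1.1 ((m1 _).1 h3).2 h2
    · left
      refine ⟨(m1 _).2 ⟨mul_mem hb H.tQ, h1.2 h2⟩, ?_⟩
      intro h3
      exact h2 ((m1 _).1 h3).2
  have hK0 : K0 Q y t ≤ K1 := by
    intro x hx
    rw [mem_K0] at hx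
    exact (m1 x).2 ⟨hx.1, hx.2.1⟩
  have e2 : (K0 Q y t).relIndex K1 = 2 := by
    rw [Subgroup.relIndex_eq_two_iff]
    refine ⟨y, (m1 y).2 ⟨H.yQ, rfl⟩, ?_⟩
    intro b hb
    obtain ⟨hbQ, hby⟩ := (m1 b).1 hb
    have h1 := H.mul_flip b t y hbQ H.tQ H.yQ H.yt
    by_cases h2 : b * t = t * b
    · right
      refine ⟨mem_K0.2 ⟨hbQ, hby, h2⟩, ?_⟩
      intro h3
      exact h1.1 (mem_K0.1 h3).2.2 h2
    · left
      refine ⟨mem_K0.2 ⟨mul_mem hbQ H.yQ, ?_, h1.2 h2⟩, ?_⟩
      · rw [hby, mul_assoc, hby]
      · intro h3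
        exact h2 (mem_K0.1 h3).2.2
  have c1 := Subgroup.relIndex_mul_relIndex ⊥ (K0 Q y t) K1 bot_le hK0
  have c2 := Subgroup.relIndex_mul_relIndex ⊥ K1 Q bot_le inf_le_left
  rw [e2, Subgroup.relIndex_bot_left, Subgroup.relIndex_bot_left] at c1
  rw [e1, Subgroup.relIndex_bot_left, Subgroup.relIndex_bot_left, H.cardQ] at c2
  omega

omit H in
theorem L_norm (H : Pre Q z y t L) (l : G) (hl : l ∈ L) (x : G) (hx : x ∈ K0 Q y t) :
    l * x * l⁻¹ ∈ K0 Q y t := by
  obtain ⟨h1, h2, h3⟩ := mem_K0.1 hx
  have c0 := H.Ly l hl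
  have c1 := H.Lt l hl
  refine mem_K0.2 ⟨H.D.norm l (H.Lz l hl) x h1, ?_, ?_⟩
  · have a1 : Commute l y := c0
    have a2 : Commute x y := h2
    exact (a1.mul_left a2).mul_left (a1.inv_left)
  · have a1 : Commute l t := c1
    have a2 : Commute x t := h3
    exact (a1.mul_left a2).mul_left (a1.inv_left)

/-- the group `C_Q(⟨y,t⟩) L` -/
def CC (H : Pre Q z y t L) : Subgroup G where
  carrier := {x | ∃ n ∈ K0 Q y t, ∃ l ∈ L, x = n * l}
  one_mem' := ⟨1, one_mem _, 1, one_mem _, by simp⟩
  mul_mem' := by
    rintro _ _ ⟨n, hn, l, hl, rfl⟩ ⟨n', hn', l', hl', rfl⟩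
    refine ⟨n * (l * n' * l⁻¹), mul_mem hn (L_norm H l hl n' hn'), l * l', mul_mem hl hl', ?_⟩
    group
  inv_mem' := by
    rintro _ ⟨n, hn, l, hl, rfl⟩
    refine ⟨l⁻¹ * n⁻¹ * l, ?_, l⁻¹, inv_mem hl, ?_⟩
    · have := L_norm H l⁻¹ (inv_mem hl) n⁻¹ (inv_mem hn)
      simpa only [_root_.inv_inv] using this
    · group

omit H in
theorem mem_CC (H : Pre Q z y t L) {x : G} : x ∈ H.CC ↔ ∃ n ∈ K0 Q y t, ∃ l ∈ L, x = n * l := Iff.rfl

theorem K0_le : K0 Q y t ≤ H.CC := fun x hx => ⟨x, hx, 1, one_mem _, by simp⟩
theorem L_le : L ≤ H.CC := fun x hx => ⟨1, one_mem _, x, hx, by simp⟩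

omit H in
theorem K0_normal (H : Pre Q z y t L) : ((K0 Q y t).subgroupOf H.CC).Normal := by
  constructor
  intro x hx g
  rw [Subgroup.mem_subgroupOf] at hx ⊢
  obtain ⟨n, hn, l, hl, hg⟩ := (mem_CC H).1 g.2
  have h1 : ((g * x * g⁻¹ : H.CC) : G) = n * (l * (x : G) * l⁻¹) * n⁻¹ := by
    show (g : G) * (x : G) * (g : G)⁻¹ = _
    rw [hg]; group
  rw [h1]
  exact mul_mem (mul_mem hn (L_norm H l hl _ hx)) (inv_mem hn)

theorem isComplement : Subgroup.IsComplement' ((K0 Q y t).subgroupOf H.CC) (L.subgroupOf H.CC) := by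
  apply Subgroup.isComplement'_of_disjoint_and_mul_eq_univ
  · rw [Subgroup.disjoint_def]
    intro x hx hx'
    rw [Subgroup.mem_subgroupOf] at hx hx'
    exact Subtype.ext (H.LQ _ hx' (mem_K0.1 hx).1)
  · ext x
    simp only [Set.mem_univ, iff_true]
    obtain ⟨n, hn, l, hl, hx⟩ := (mem_CC H).1 x.2
    refine Set.mem_mul.2 ⟨⟨n, H.K0_le hn⟩, ?_, ⟨l, H.L_le hl⟩, ?_, ?_⟩
    · exact hn
    · exact hl
    · exact Subtype.ext hx.symm

theorem z_mem_K0 : z ∈ K0 Q y t := mem_K0.2 ⟨H.D.mem, H.zy, H.zt⟩

theorem cent_Q (c : G) (h1 : ∀ k ∈ K0 Q y t, c * k = k * c) (h2 : c * y = y * c)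
    (h3 : c * t = t * c) : c = 1 ∨ c = z := by
  have h4 : ∀ x ∈ Q, c * x = x * c := by
    intro x hx
    obtain ⟨k, hk, hx'⟩ := H.decomp x hx
    have a1 : Commute c k := h1 k hk
    have a2 : Commute c y := h2
    have a3 : Commute c t := h3
    rcases hx' with rfl | rfl | rfl | rfl
    · exact a1
    · exact a1.mul_right a2
    · exact a1.mul_right a3
    · exact a1.mul_right (a2.mul_right a3)
  have h5 : c ∈ Q := by
    apply H.D.cent
    intro x hx
    rw [← h4 x hx]; group
  exact H.cen c h5 (fun q hq => (h4 q hq).symm)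

theorem hyp : Hyp ((K0 Q y t).subgroupOf H.CC) (⟨z, H.K0_le H.z_mem_K0⟩ : H.CC) where
  z_ne h := H.z_ne (congrArg Subtype.val h)
  z_sq := Subtype.ext H.zz
  z_comm c := by
    obtain ⟨n, hn, l, hl, hx⟩ := (mem_CC H).1 c.2
    apply Subtype.ext
    show (c : G) * z = z * (c : G)
    rw [hx]
    have a1 : Commute n z := H.D.com n (mem_K0.1 hn).1
    have a2 : Commute l z := H.Lz l hl
    exact a1.mul_left a2
  z_mem := H.z_mem_K0
  comm x hx w hw := by
    rcases H.comm _ (mem_K0.1 hx).1 _ (mem_K0.1 hw).1 with h | h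
    · left; exact Subtype.ext h
    · right; exact Subtype.ext h
  sq x hx := by
    rcases H.D.sq _ (mem_K0.1 hx).1 with h | h
    · left; exact Subtype.ext h
    · right; exact Subtype.ext h
  cent c hc := by
    obtain ⟨n, hn, l, hl, hx⟩ := (mem_CC H).1 c.2
    have b1 : ∀ k ∈ K0 Q y t, (c : G) * k = k * (c : G) := by
      intro k hk
      exact congrArg Subtype.val (hc ⟨k, H.K0_le hk⟩ hk)
    have b2 : (c : G) * y = y * (c : G) := by
      rw [hx]
      have a1 : Commute n y := (mem_K0.1 hn).2.1
      have a2 : Commute l y := H.Ly l hl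
      exact a1.mul_left a2
    have b3 : (c : G) * t = t * (c : G) := by
      rw [hx]
      have a1 : Commute n t := (mem_K0.1 hn).2.2
      have a2 : Commute l t := H.Lt l hl
      exact a1.mul_left a2
    rcases H.cent_Q _ b1 b2 b3 with h | h
    · left; exact Subtype.ext h
    · right; exact Subtype.ext h

omit H in
theorem zp_val {K : Subgroup G} (z : K) (a : ZMod 2) : ((zp z a : K) : G) = zp (z : G) a := by
  unfold zp
  split <;> rfl

/-- **Node N3.** -/
theorem exists_canon [Finite G] : ∃ (c : Fin 5 → G) (κ : alternatingGroup (Fin 5) →* G),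
    Canon Q z y t L c κ := by
  have hnorm := K0_normal H
  have hcard : Nat.card ((K0 Q y t).subgroupOf H.CC) = 32 := by
    rw [← H.card_K0]
    exact Nat.card_congr (Subgroup.subgroupOfEquivOfLe H.K0_le).toEquiv
  have hcardL : Nat.card (L.subgroupOf H.CC) = 60 := by
    rw [← H.cardL]
    exact Nat.card_congr (Subgroup.subgroupOfEquivOfLe H.L_le).toEquiv
  have h60 : Nat.card (H.CC ⧸ (K0 Q y t).subgroupOf H.CC) = 60 := by
    have h1 := H.isComplement.card_mul_card
    have h2 := Subgroup.card_eq_card_quotient_mul_card_subgroup ((K0 Q y t).subgroupOf H.CC)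
    rw [hcard] at h1 h2
    rw [hcardL] at h1
    omega
  obtain ⟨v, ρ, M⟩ := Canon.exists_model_of_hyp H.hyp hcard h60
  obtain ⟨v', ρ', κ, M', hκ, hr⟩ := Canon.exists_canon M (L.subgroupOf H.CC) hcardL (by
    intro x hx hx'
    exact Subtype.ext (H.LQ _ hx (mem_K0.1 hx').1))
  refine ⟨fun i => (v' i : G), (H.CC.subtype).comp κ, ?_⟩
  have hm : ∀ i, (v' i : G) ∈ K0 Q y t := fun i => M'.v_mem i
  exact {
    c_mem := fun i => (mem_K0.1 (hm i)).1
    c_y := fun i => (mem_K0.1 (hm i)).2.1
    c_t := fun i => (mem_K0.1 (hm i)).2.2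
    c_sq := fun i => congrArg Subtype.val (M'.v_sq i)
    c_anti := fun i j hij => congrArg Subtype.val (M'.v_anti i j hij)
    c_prod := congrArg Subtype.val M'.v_prod
    c_inj := by
      intro a b i j h
      apply M'.v_inj a b i j
      apply Subtype.ext
      show ((zp (⟨z, _⟩ : H.CC) a : H.CC) : G) * (v' i : G) =
        ((zp (⟨z, _⟩ : H.CC) b : H.CC) : G) * (v' j : G)
      rw [zp_val, zp_val]
      exact h
    κ_range := by
      rw [MonoidHom.range_comp, hr]
      exact Subgroup.map_subgroupOf_eq_of_le H.L_le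
    κ_inj := by
      have h1 : Function.Injective κ := by
        rw [injective_iff_map_eq_one]
        intro σ hσ
        have h2 := hκ σ
        rw [hσ, map_one] at h2
        have h3 := congrArg SP.σ h2
        exact Subtype.ext h3.symm
      exact (Subtype.val_injective).comp h1
    κ_conj := by
      intro σ i
      have h1 := M'.conj (κ σ) i
      rw [hκ] at h1
      have h2 := congrArg Subtype.val h1
      have h3 : zp (⟨z, H.K0_le H.z_mem_K0⟩ : H.CC) ((⟨(σ : Equiv.Perm (Fin 5)), fun _ => 0⟩ : SP).s i) = 1 := zp_zero _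
      rw [h3, one_mul] at h2
      exact h2
    cover := by
      intro q hq h1 h2
      have hq' : q ∈ K0 Q y t := mem_K0.2 ⟨hq, h1, h2⟩
      rcases M'.cover ⟨q, H.K0_le hq'⟩ hq' with ⟨a, ha⟩ | ⟨a, i, ha⟩ | ⟨a, i, j, hij, ha⟩
      · left
        refine ⟨a, ?_⟩
        have := congrArg Subtype.val ha
        rw [zp_val] at this
        exact this
      · right; left
        refine ⟨a, i, ?_⟩
        have := congrArg Subtype.val ha
        rw [Subgroup.coe_mul, zp_val] at this
        exact this
      · right; right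
        refine ⟨a, i, j, hij, ?_⟩
        have := congrArg Subtype.val ha
        rw [Subgroup.coe_mul, zp_val] at this
        exact this }

end Pre

end Cfsg.Agent.SuzType.CanonG
end

-- part: SuzType/Swap
section
/-!
# The element swapping the two four-groups, no reflections, `C_C(L)` (node N4)
-/

set_option autoImplicit false

namespace Cfsg.Agent.SuzType.Swap

open Cfsg.Agent.J2Type.Model
open Cfsg.Agent.ClassificationK.LargeSymplectic
open Cfsg.Agent.SuzType.CanonG Cfsg.Agent.SuzType.CanonG.Pre

variable {G : Type*} [Group G]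

/-- The hypotheses of node N4: node N3 plus the transitivity of `C(z)` on hyperbolic pairs and the
order of the stabiliser. -/
structure PreT (Q : Subgroup G) (z y t : G) (L : Subgroup G) : Prop extends Pre Q z y t L where
  pairs : ∀ y₁ w₁ y₂ w₂ : G, y₁ ∈ Q → w₁ ∈ Q → y₂ ∈ Q → w₂ ∈ Q → y₁ * y₁ = 1 → w₁ * w₁ = 1 →
    y₂ * y₂ = 1 → w₂ * w₂ = 1 → y₁ * w₁ = z * (w₁ * y₁) → y₂ * w₂ = z * (w₂ * y₂) →
    ∃ c, c * z = z * c ∧ c * y₁ * c⁻¹ = y₂ ∧ c * w₁ * c⁻¹ = w₂
  cardC : Nat.card (Subgroup.centralizer ({y, t} : Set G)) = 1920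

theorem mem_cent_pair {y t x : G} : x ∈ Subgroup.centralizer ({y, t} : Set G) ↔
    x * y = y * x ∧ x * t = t * x := by
  rw [Subgroup.mem_centralizer_iff]
  constructor
  · intro h
    exact ⟨(h y (by simp)).symm, (h t (by simp)).symm⟩
  · rintro ⟨h2, h3⟩ w hw
    rcases hw with rfl | hw
    · exact h2.symm
    · rw [Set.mem_singleton_iff] at hw
      subst hw
      exact h3.symm

namespace PreT

variable [Finite G] {Q L : Subgroup G} {z y t : G} (H : PreT Q z y t L)
include H

theorem cent_eq : Subgroup.centralizer ({y, t} : Set G) = H.toPre.CC := by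
  symm
  apply Subgroup.eq_of_le_of_card_ge
  · intro x hx
    obtain ⟨n, hn, l, hl, rfl⟩ := (mem_CC H.toPre).1 hx
    obtain ⟨-, h2, h3⟩ := mem_K0.1 hn
    rw [mem_cent_pair]
    have a1 : Commute n y := h2
    have a2 : Commute n t := h3
    have b1 : Commute l y := H.Ly l hl
    have b2 : Commute l t := H.Lt l hl
    exact ⟨a1.mul_left b1, a2.mul_left b2⟩
  · rw [H.cardC]
    have h1 := H.toPre.isComplement.card_mul_card
    have hcard : Nat.card ((K0 Q y t).subgroupOf H.toPre.CC) = 32 := by
      rw [← H.toPre.card_K0]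
      exact Nat.card_congr (Subgroup.subgroupOfEquivOfLe H.toPre.K0_le).toEquiv
    have hcardL : Nat.card (L.subgroupOf H.toPre.CC) = 60 := by
      rw [← H.cardL]
      exact Nat.card_congr (Subgroup.subgroupOfEquivOfLe H.toPre.L_le).toEquiv
    rw [hcard, hcardL] at h1
    omega

/-- Every element centralising `y` and `t` is `k l`. -/
theorem exists_mul {x : G} (h1 : x * y = y * x) (h2 : x * t = t * x) :
    ∃ n ∈ K0 Q y t, ∃ l ∈ L, x = n * l := by
  have : x ∈ H.toPre.CC := by rw [← H.cent_eq]; exact mem_cent_pair.2 ⟨h1, h2⟩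
  exact this

/-- All complements of `K0` in `K0 L` are conjugate. -/
theorem conj_compl (L' : Subgroup G) (hL' : Nat.card L' = 60) (hy : ∀ x ∈ L', x * y = y * x)
    (ht : ∀ x ∈ L', x * t = t * x) (hQ : ∀ x ∈ L', x ∈ Q → x = 1) :
    ∃ k ∈ K0 Q y t, ∀ x, x ∈ L' ↔ k⁻¹ * x * k ∈ L := by
  have hnorm := K0_normal H.toPre
  have hcard : Nat.card ((K0 Q y t).subgroupOf H.toPre.CC) = 32 := by
    rw [← H.toPre.card_K0]
    exact Nat.card_congr (Subgroup.subgroupOfEquivOfLe H.toPre.K0_le).toEquiv
  have hcardL : Nat.card (L.subgroupOf H.toPre.CC) = 60 := by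
    rw [← H.cardL]
    exact Nat.card_congr (Subgroup.subgroupOfEquivOfLe H.toPre.L_le).toEquiv
  have hle : L' ≤ H.toPre.CC := by
    intro x hx
    rw [← H.cent_eq]
    exact mem_cent_pair.2 ⟨hy x hx, ht x hx⟩
  have hcardL' : Nat.card (L'.subgroupOf H.toPre.CC) = 60 := by
    rw [← hL']
    exact Nat.card_congr (Subgroup.subgroupOfEquivOfLe hle).toEquiv
  have h60 : Nat.card (H.toPre.CC ⧸ (K0 Q y t).subgroupOf H.toPre.CC) = 60 := by
    have h1 := H.toPre.isComplement.card_mul_card
    have h2 := Subgroup.card_eq_card_quotient_mul_card_subgroup ((K0 Q y t).subgroupOf H.toPre.CC)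
    rw [hcard] at h1 h2
    rw [hcardL] at h1
    omega
  obtain ⟨v, ρ, M⟩ := Canon.exists_model_of_hyp H.toPre.hyp hcard h60
  obtain ⟨q, hq, h⟩ := Canon.conj_compl M (L.subgroupOf H.toPre.CC) (L'.subgroupOf H.toPre.CC) hcardL
    (fun x hx hx' => Subtype.ext (H.LQ _ hx (mem_K0.1 hx').1)) hcardL'
    (fun x hx hx' => Subtype.ext (hQ _ hx (mem_K0.1 hx').1))
  refine ⟨q, hq, ?_⟩
  intro x
  constructor
  · intro hx
    exact (h ⟨x, hle hx⟩).1 hx
  · intro hx
    have hxC : x ∈ H.toPre.CC := by
      have h1 : (q : G) * ((q : G)⁻¹ * x * q) * (q : G)⁻¹ ∈ H.toPre.CC :=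
        mul_mem (mul_mem q.2 (H.toPre.L_le hx)) (inv_mem q.2)
      have h2 : (q : G) * ((q : G)⁻¹ * x * q) * (q : G)⁻¹ = x := by group
      rwa [h2] at h1
    exact (h ⟨x, hxC⟩).2 hx

/-- **The swapping element.** -/
theorem exists_swap : ∃ g, g * z = z * g ∧ g * y * g⁻¹ = t ∧ g * t * g⁻¹ = y ∧
    ∀ x, x ∈ L ↔ g * x * g⁻¹ ∈ L := by
  obtain ⟨c, hcz, hcy, hct⟩ := H.pairs y t t y H.yQ H.tQ H.tQ H.yQ H.y2 H.t2 H.t2 H.y2 H.yt H.toPre.ty
  have hcy' : c⁻¹ * t * c = y := by rw [← hcy]; group
  have hct' : c⁻¹ * y * c = t := by rw [← hct]; group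
  have hcz' : c⁻¹ * z = z * c⁻¹ := by
    have : Commute c z := hcz
    exact this.inv_left
  let L' : Subgroup G := L.map (MulAut.conj c).toMonoidHom
  have mL' : ∀ x, x ∈ L' ↔ c⁻¹ * x * c ∈ L := by
    intro x
    constructor
    · rintro ⟨l, hl, rfl⟩
      have : c⁻¹ * ((MulAut.conj c).toMonoidHom l) * c = l := by
        show c⁻¹ * (c * l * c⁻¹) * c = l
        group
      rw [this]; exact hl
    · intro hx
      refine ⟨_, hx, ?_⟩
      show c * (c⁻¹ * x * c) * c⁻¹ = x
      group
  have hconj : ∀ x w w' : G, c⁻¹ * w * c = w' → (c⁻¹ * x * c) * w' = w' * (c⁻¹ * x * c) →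
      x * w = w * x := by
    intro x w w' h1 h2
    rw [← h1] at h2
    have h3 : c⁻¹ * x * c * (c⁻¹ * w * c) = c⁻¹ * (x * w) * c := by group
    have h4 : c⁻¹ * w * c * (c⁻¹ * x * c) = c⁻¹ * (w * x) * c := by group
    rw [h3, h4] at h2
    exact mul_left_cancel (mul_right_cancel h2)
  obtain ⟨k, hk, hkL⟩ := H.conj_compl L'
    (by
      rw [← H.cardL]
      exact Nat.card_congr (L.equivMapOfInjective _ (MulAut.conj c).injective).toEquiv.symm)
    (fun x hx => hconj x y t hct' (H.Lt _ ((mL' x).1 hx)))
    (fun x hx => hconj x t y hcy' (H.Ly _ ((mL' x).1 hx)))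
    (fun x hx hxQ => by
      have h1 : c⁻¹ * x * c ∈ Q := by
        have := H.D.norm c⁻¹ hcz' x hxQ
        simpa using this
      have h2 := H.LQ _ ((mL' x).1 hx) h1
      have h3 : x = c * (c⁻¹ * x * c) * c⁻¹ := by group
      rw [h3, h2]; group)
  obtain ⟨hkQ, hky, hkt⟩ := mem_K0.1 hk
  have aky : Commute k y := hky
  have akt : Commute k t := hkt
  have akz : Commute k z := H.D.com k hkQ
  have acz : Commute c z := hcz
  refine ⟨k⁻¹ * c, akz.inv_left.mul_left acz, ?_, ?_, ?_⟩
  · have h1 : k⁻¹ * c * y * (k⁻¹ * c)⁻¹ = k⁻¹ * (c * y * c⁻¹) * k := by group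
    rw [h1, hcy, akt.inv_left.eq]; group
  · have h1 : k⁻¹ * c * t * (k⁻¹ * c)⁻¹ = k⁻¹ * (c * t * c⁻¹) * k := by group
    rw [h1, hct, aky.inv_left.eq]; group
  · intro x
    have h1 := hkL (c * x * c⁻¹)
    have h2 := mL' (c * x * c⁻¹)
    have h3 : c⁻¹ * (c * x * c⁻¹) * c = x := by group
    have h4 : k⁻¹ * (c * x * c⁻¹) * k = k⁻¹ * c * x * (k⁻¹ * c)⁻¹ := by group
    rw [h3] at h2
    rw [h4] at h1
    rw [← h2, h1]

omit [Finite G] in
/-- conjugation by `t` and `y` -/
theorem conj_ty : t * y * t⁻¹ = z * y := by rw [H.toPre.ty]; group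
omit [Finite G] in
theorem conj_yt : y * t * y⁻¹ = z * t := by rw [H.yt]; group

omit [Finite G] in
/-- Adjustment by `⟨y, t⟩`. -/
theorem adjust {c : G} (h1 : c * y * c⁻¹ = y ∨ c * y * c⁻¹ = z * y)
    (h2 : c * t * c⁻¹ = t ∨ c * t * c⁻¹ = z * t) :
    ∃ e, (e = 1 ∨ e = y ∨ e = t ∨ e = y * t) ∧ (e * c) * y = y * (e * c) ∧
      (e * c) * t = t * (e * c) := by
  have key : ∀ (e w : G), e * (c * w * c⁻¹) * e⁻¹ = w → (e * c) * w = w * (e * c) := by
    intro e w h
    have : e * (c * w * c⁻¹) * e⁻¹ = (e * c) * w * (e * c)⁻¹ := by group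
    rw [this, mul_inv_eq_iff_eq_mul] at h
    exact h
  have zyc : Commute z y := H.toPre.zy
  have ztc : Commute z t := H.toPre.zt
  have czz : z * z = 1 := H.toPre.zz
  have yy : y * y * y⁻¹ = y := by group
  have tt : t * t * t⁻¹ = t := by group
  have yz : y * z * y⁻¹ = z := by rw [← H.toPre.zy]; group
  have tz : t * z * t⁻¹ = z := by rw [← H.toPre.zt]; group
  have mz : ∀ (e a b : G), e * (a * b) * e⁻¹ = (e * a * e⁻¹) * (e * b * e⁻¹) := by
    intro e a b; group
  rcases h1 with h1 | h1 <;> rcases h2 with h2 | h2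
  · refine ⟨1, Or.inl rfl, key _ _ ?_, key _ _ ?_⟩
    · rw [h1]; group
    · rw [h2]; group
  · refine ⟨y, Or.inr (Or.inl rfl), key _ _ ?_, key _ _ ?_⟩
    · rw [h1]; exact yy
    · rw [h2, mz, yz, H.conj_yt, ← mul_assoc, czz, one_mul]
  · refine ⟨t, Or.inr (Or.inr (Or.inl rfl)), key _ _ ?_, key _ _ ?_⟩
    · rw [h1, mz, tz, H.conj_ty, ← mul_assoc, czz, one_mul]
    · rw [h2]; exact tt
  · refine ⟨y * t, Or.inr (Or.inr (Or.inr rfl)), key _ _ ?_, key _ _ ?_⟩
    · rw [h1]
      have : y * t * (z * y) * (y * t)⁻¹ = y * (t * (z * y) * t⁻¹) * y⁻¹ := by group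
      have h3 : t * (z * y) * t⁻¹ = y := by rw [mz t, tz, H.conj_ty, ← mul_assoc, czz, one_mul]
      rw [this, h3, yy]
    · rw [h2]
      have : y * t * (z * t) * (y * t)⁻¹ = y * (t * (z * t) * t⁻¹) * y⁻¹ := by group
      rw [this, mz t, tz, tt, mz y, yz, H.conj_yt, ← mul_assoc, czz, one_mul]

section Canonical

variable {c : Fin 5 → G} {κ : alternatingGroup (Fin 5) →* G} (K : Canon Q z y t L c κ)
include K

omit [Finite G] H in
theorem zc (D : Data Q z) (i : Fin 5) : z * c i = c i * z := (D.com _ (K.c_mem i)).symm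

omit [Finite G] in
theorem c_ne (i : Fin 5) : c i ≠ 1 ∧ c i ≠ z := by
  have hz := H.z_ne
  have h2 : ∃ j, i ≠ j := ⟨i + 1, by revert i; decide⟩
  obtain ⟨j, hj⟩ := h2
  have h3 := K.c_anti i j hj
  constructor
  · intro h
    rw [h, one_mul, mul_one] at h3
    exact hz (mul_eq_right.1 h3.symm)
  · intro h
    rw [h] at h3
    have h4 : z * c j = c j * z := zc K H.D j
    rw [← h4, ← mul_assoc, H.toPre.zz, one_mul] at h3
    exact hz (mul_eq_right.1 h3)

omit [Finite G] in
/-- An element commuting with `y`, `t` and all `c i` is central in `Q`. -/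
theorem eq_of_comm_c (x : G) (h1 : x * y = y * x) (h2 : x * t = t * x) (h3 : ∀ i, x * c i = c i * x) :
    x = 1 ∨ x = z := by
  apply H.toPre.cent_Q x _ h1 h2
  have hz : Commute x z := by
    have e1 : z = y * t * y⁻¹ * t⁻¹ := by rw [H.yt]; group
    have c1 : Commute x y := h1
    have c2 : Commute x t := h2
    rw [e1]
    exact (((c1.mul_right c2).mul_right c1.inv_right).mul_right c2.inv_right)
  have hzp : ∀ a, Commute x (zp z a) := by
    intro a
    rcases zmod2_cases a with rfl | rfl
    · rw [zp_zero]; exact Commute.one_right x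
    · rw [zp_one]; exact hz
  have h4 : ∀ i, Commute x (c i) := h3
  intro k hk
  obtain ⟨hkQ, hky, hkt⟩ := mem_K0.1 hk
  rcases K.cover k hkQ hky hkt with ⟨a, rfl⟩ | ⟨a, i, rfl⟩ | ⟨a, i, j, -, rfl⟩
  · exact hzp a
  · exact (hzp a).mul_right (h4 i)
  · exact (hzp a).mul_right ((h4 i).mul_right (h4 j))

omit H K [Finite G] [Group G] in
theorem perm_facts : ∀ σ : Equiv.Perm (Fin 5), Equiv.Perm.sign σ = 1 → σ 0 = 1 → σ 1 = 0 →
    σ 2 = 2 → σ 3 = 3 → False := by (set_option synthInstance.maxSize 9000 in open scoped Cfsg.Agent.Lib.FastPerm in decide +kernel)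

/-- Conjugates of `c i` by elements centralising `y` and `t`. -/
theorem exists_even (x : G) (h1 : x * y = y * x) (h2 : x * t = t * x) :
    ∃ σ : alternatingGroup (Fin 5), ∀ i, x * c i * x⁻¹ = c ((σ : Equiv.Perm (Fin 5)) i) ∨
      x * c i * x⁻¹ = z * c ((σ : Equiv.Perm (Fin 5)) i) := by
  obtain ⟨n, hn, l, hl, rfl⟩ := H.exists_mul h1 h2
  rw [← K.κ_range] at hl
  obtain ⟨σ, rfl⟩ := hl
  refine ⟨σ, ?_⟩
  intro i
  have h3 : n * κ σ * c i * (n * κ σ)⁻¹ = n * (κ σ * c i * (κ σ)⁻¹) * n⁻¹ := by group
  rw [h3, K.κ_conj]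
  exact H.D.comm n (mem_K0.1 hn).1 _ (K.c_mem _)

omit [Finite G] H in
theorem cls_eq {u : G} {i j : Fin 5} (h1 : u = c i ∨ u = z * c i) (h2 : u = c j ∨ u = z * c j) :
    i = j := by
  have e : ∀ i, u = c i ∨ u = z * c i → ∃ a, u = zp z a * c i := by
    intro i h
    rcases h with h | h
    · exact ⟨0, by rw [zp_zero, one_mul]; exact h⟩
    · exact ⟨1, by rw [zp_one]; exact h⟩
  obtain ⟨a, ha⟩ := e i h1
  obtain ⟨b, hb⟩ := e j h2
  exact (K.c_inj a b i j (ha.symm.trans hb)).2

omit [Finite G] in
theorem c_comm_mul (i j k : Fin 5) (h1 : k ≠ i) (h2 : k ≠ j) :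
    c k * (c i * c j) = (c i * c j) * c k := by
  have a1 := K.c_anti k i h1
  have a2 := K.c_anti k j h2
  have hz : z * c i = c i * z := zc K H.D i
  calc c k * (c i * c j) = (c k * c i) * c j := by group
    _ = z * c i * (c k * c j) := by rw [a1]; group
    _ = (z * c i * z) * (c j * c k) := by rw [a2]; group
    _ = (z * z) * c i * (c j * c k) := by rw [mul_assoc z (c i) z, ← hz]; group
    _ = _ := by rw [H.toPre.zz]; group

omit [Finite G] H in
theorem c_mul_self (i j : Fin 5) : c i * (c i * c j) = c j := by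
  rw [← mul_assoc, K.c_sq, one_mul]

omit [Finite G] in
theorem c_mul_sq (i j : Fin 5) (h : i ≠ j) : (c i * c j) * (c i * c j) = z := by
  have hz : z * c i = c i * z := zc K H.D i
  calc c i * c j * (c i * c j) = c i * (c j * c i) * c j := by group
    _ = c i * (z * (c i * c j)) * c j := by rw [K.c_anti j i h.symm]
    _ = (c i * z) * c i * (c j * c j) := by group
    _ = z * (c i * c i) * (c j * c j) := by rw [← hz]; group
    _ = z := by rw [K.c_sq, K.c_sq, mul_one, mul_one]

omit [Finite G] K in
/-- conjugation by an element centralising `z` preserves `Q` -/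
theorem conj_mem {d : G} (hd : d * z = z * d) {x : G} (hx : x ∈ Q) : d * x * d⁻¹ ∈ Q :=
  H.D.norm d hd x hx

/-- **No reflections** (`K` is only used to name a nonsingular vector). -/
theorem no_reflection (a : G) (ha : a ∈ Q) (haa : a * a = z) (g : G) (hg : g * z = z * g)
    (h1 : ∀ x ∈ Q, x * a = a * x → g * x * g⁻¹ = x ∨ g * x * g⁻¹ = z * x)
    (h2 : ∀ x ∈ Q, ¬ (x * a = a * x) → g * x * g⁻¹ = x * a ∨ g * x * g⁻¹ = z * (x * a)) :
    False := by
  have hzz := H.toPre.zz
  -- an involution not commuting with `a`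
  obtain ⟨w, hwQ, hw2, hwa⟩ : ∃ w ∈ Q, w * w = 1 ∧ ¬ (a * w = w * a) := by
    by_contra hcon
    push Not at hcon
    have e1 := hcon y H.yQ H.y2
    have e2 := hcon t H.tQ H.t2
    have e3 := fun i => hcon (c i) (K.c_mem i) (K.c_sq i)
    rcases H.eq_of_comm_c K a e1 e2 e3 with h | h
    · rw [h, one_mul] at haa; exact H.z_ne haa.symm
    · rw [h, hzz] at haa; exact H.z_ne haa.symm
  have hwa' : w * a = z * (a * w) := by
    rw [← H.toPre.anti_iff w hwQ a ha]
    intro h; exact hwa h.symm
  have hza : z * a = a * z := (H.D.com a ha).symm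
  have hw2' : (w * a) * (w * a) = 1 := by
    calc (w * a) * (w * a) = z * (a * w) * (w * a) := by rw [← hwa']
      _ = z * a * (w * w) * a := by group
      _ = z * (a * a) := by rw [hw2]; group
      _ = 1 := by rw [haa, hzz]
  have hww : w * (w * a) = z * ((w * a) * w) := by
    calc w * (w * a) = (w * w) * a := by group
      _ = a := by rw [hw2, one_mul]
      _ = (z * z) * a * (w * w) := by rw [hzz, hw2, one_mul, mul_one]
      _ = z * (z * (a * w) * w) := by group
      _ = _ := by rw [← hwa']
  obtain ⟨d, hdz, hd1, hd2⟩ := H.pairs w (w * a) (c 0) (c 1) hwQ (mul_mem hwQ ha) (K.c_mem 0)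
    (K.c_mem 1) hw2 hw2' (K.c_sq 0) (K.c_sq 1) hww (K.c_anti 0 1 (by decide))
  have hdz' : d⁻¹ * z = z * d⁻¹ := by
    have : Commute d z := hdz
    exact this.inv_left
  have hda : d * a * d⁻¹ = c 0 * c 1 := by
    have e1 : w * (w * a) = a := by rw [← mul_assoc, hw2, one_mul]
    calc d * a * d⁻¹ = d * (w * (w * a)) * d⁻¹ := by rw [e1]
      _ = (d * w * d⁻¹) * (d * (w * a) * d⁻¹) := by group
      _ = _ := by rw [hd1, hd2]
  -- transport
  have hgz' : Commute (d * g * d⁻¹) z := by
    have b1 : Commute d z := hdz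
    have b2 : Commute g z := hg
    exact (b1.mul_left b2).mul_left b1.inv_left
  have h0 : ∀ x, d * (d⁻¹ * x * d) * d⁻¹ = x := by intro x; group
  have hcomm : ∀ x, (x * (c 0 * c 1) = (c 0 * c 1) * x ↔ (d⁻¹ * x * d) * a = a * (d⁻¹ * x * d)) := by
    intro x
    rw [← hda]
    constructor
    · intro h
      apply mul_left_cancel (a := d)
      apply mul_right_cancel (b := d⁻¹)
      calc d * (d⁻¹ * x * d * a) * d⁻¹ = x * (d * a * d⁻¹) := by group
        _ = _ := by rw [h]; group
    · intro h
      calc x * (d * a * d⁻¹) = d * (d⁻¹ * x * d * a) * d⁻¹ := by group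
        _ = _ := by rw [h]; group
  have h1' : ∀ x ∈ Q, x * (c 0 * c 1) = (c 0 * c 1) * x →
      (d * g * d⁻¹) * x * (d * g * d⁻¹)⁻¹ = x ∨ (d * g * d⁻¹) * x * (d * g * d⁻¹)⁻¹ = z * x := by
    intro x hx hxa
    have hx' : d⁻¹ * x * d ∈ Q := by
      have := H.conj_mem hdz' hx
      simpa using this
    have e1 : (d * g * d⁻¹) * x * (d * g * d⁻¹)⁻¹ = d * (g * (d⁻¹ * x * d) * g⁻¹) * d⁻¹ := by group
    rcases h1 _ hx' ((hcomm x).1 hxa) with h | h
    · left; rw [e1, h, h0]
    · right
      rw [e1, h]
      calc d * (z * (d⁻¹ * x * d)) * d⁻¹ = (d * z) * (d⁻¹ * x * d) * d⁻¹ := by group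
        _ = z * (d * (d⁻¹ * x * d) * d⁻¹) := by rw [hdz]; group
        _ = _ := by rw [h0]
  have h2' : ∀ x ∈ Q, ¬ (x * (c 0 * c 1) = (c 0 * c 1) * x) →
      (d * g * d⁻¹) * x * (d * g * d⁻¹)⁻¹ = x * (c 0 * c 1) ∨
      (d * g * d⁻¹) * x * (d * g * d⁻¹)⁻¹ = z * (x * (c 0 * c 1)) := by
    intro x hx hxa
    have hx' : d⁻¹ * x * d ∈ Q := by
      have := H.conj_mem hdz' hx
      simpa using this
    have e1 : (d * g * d⁻¹) * x * (d * g * d⁻¹)⁻¹ = d * (g * (d⁻¹ * x * d) * g⁻¹) * d⁻¹ := by group
    rcases h2 _ hx' (fun h => hxa ((hcomm x).2 h)) with h | h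
    · left
      rw [e1, h, ← hda]; group
    · right
      rw [e1, h, ← hda]
      calc d * (z * (d⁻¹ * x * d * a)) * d⁻¹ = (d * z) * (d⁻¹ * x * d * a) * d⁻¹ := by group
        _ = _ := by rw [hdz]; group
  -- adjust
  set g' := d * g * d⁻¹ with hg'
  have cyc : ∀ i j, (c i * c j) * y = y * (c i * c j) := by
    intro i j
    have b1 : Commute (c i) y := K.c_y i
    have b2 : Commute (c j) y := K.c_y j
    exact b1.mul_left b2
  have ctc : ∀ i j, (c i * c j) * t = t * (c i * c j) := by
    intro i j
    have b1 : Commute (c i) t := K.c_t i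
    have b2 : Commute (c j) t := K.c_t j
    exact b1.mul_left b2
  obtain ⟨e, he, hey, het⟩ := H.adjust (h1' y H.yQ (cyc 0 1).symm) (h1' t H.tQ (ctc 0 1).symm)
  have hec : ∀ i, Commute e (c i) := by
    intro i
    have b1 : Commute y (c i) := (K.c_y i).symm
    have b2 : Commute t (c i) := (K.c_t i).symm
    rcases he with rfl | rfl | rfl | rfl
    · exact Commute.one_left _
    · exact b1
    · exact b2
    · exact b1.mul_left b2
  have hez : Commute e z := by
    have b1 : Commute y z := H.toPre.zy.symm
    have b2 : Commute t z := H.toPre.zt.symm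
    rcases he with rfl | rfl | rfl | rfl
    · exact Commute.one_left _
    · exact b1
    · exact b2
    · exact b1.mul_left b2
  obtain ⟨σ, hσ⟩ := H.exists_even K (e * g') hey het
  have hact : ∀ i j, (g' * c i * g'⁻¹ = c j ∨ g' * c i * g'⁻¹ = z * c j) →
      (σ : Equiv.Perm (Fin 5)) i = j := by
    intro i j hij
    apply cls_eq K (hσ i)
    have e1 : (e * g') * c i * (e * g')⁻¹ = e * (g' * c i * g'⁻¹) * e⁻¹ := by group
    rw [e1]
    rcases hij with h | h
    · left; rw [h, (hec j).eq]; group
    · right; rw [h, (hez.mul_right (hec j)).eq]; group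
  have hfix : ∀ k : Fin 5, k ≠ 0 → k ≠ 1 → (σ : Equiv.Perm (Fin 5)) k = k := by
    intro k k0 k1
    exact hact k k (h1' _ (K.c_mem k) (H.c_comm_mul K 0 1 k k0 k1))
  have h01 : (σ : Equiv.Perm (Fin 5)) 0 = 1 := by
    apply hact
    have e1 := c_mul_self K 0 1
    rcases h2' (c 0) (K.c_mem 0) (by
      intro h
      rw [e1] at h
      have e2 : c 0 * c 1 * c 0 = z * c 1 := by
        rw [K.c_anti 0 1 (by decide)]
        calc z * (c 1 * c 0) * c 0 = z * c 1 * (c 0 * c 0) := by group
          _ = _ := by rw [K.c_sq, mul_one]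
      rw [e2] at h
      exact H.z_ne (mul_eq_right.1 h.symm)) with h | h
    · left; rw [h, e1]
    · right; rw [h, e1]
  have h10 : (σ : Equiv.Perm (Fin 5)) 1 = 0 := by
    apply hact
    have e0 : c 1 * (c 0 * c 1) = z * c 0 := by
      calc c 1 * (c 0 * c 1) = (c 1 * c 0) * c 1 := by group
        _ = z * c 0 * (c 1 * c 1) := by rw [K.c_anti 1 0 (by decide)]; group
        _ = z * c 0 := by rw [K.c_sq, mul_one]
    rcases h2' (c 1) (K.c_mem 1) (by
      intro h
      rw [e0] at h
      have e2 : c 0 * c 1 * c 1 = c 0 := by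
        rw [mul_assoc, K.c_sq, mul_one]
      rw [e2] at h
      exact H.z_ne (mul_eq_right.1 h)) with h | h
    · right; rw [h, e0]
    · left; rw [h, e0, ← mul_assoc, hzz, one_mul]
  exact perm_facts σ (Equiv.Perm.mem_alternatingGroup.1 σ.2) h01 h10 (hfix 2 (by decide) (by decide))
    (hfix 3 (by decide) (by decide))

omit [Finite G] H in
/-- elements of `K0` up to sign -/
theorem act_K0 (D : Data Q z) {x : G} (hx : x * z = z * x)
    (h : ∀ i, x * c i * x⁻¹ = c i ∨ x * c i * x⁻¹ = z * c i) (k : G) (hk : k ∈ Q)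
    (hky : k * y = y * k) (hkt : k * t = t * k) : x * k * x⁻¹ = k ∨ x * k * x⁻¹ = z * k := by
  have hxz : Commute x z := hx
  have hzp : ∀ a, x * zp z a * x⁻¹ = zp z a := by
    intro a
    have : Commute x (zp z a) := by
      rcases zmod2_cases a with rfl | rfl
      · rw [zp_zero]; exact Commute.one_right x
      · rw [zp_one]; exact hxz
    rw [this.eq]; group
  have hzz := D.sqz
  have zpz : ∀ a (u : G), z * (zp z a * u) = zp z a * (z * u) := by
    intro a u
    rcases zmod2_cases a with rfl | rfl
    · rw [zp_zero, one_mul, one_mul]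
    · rw [zp_one]
  rcases K.cover k hk hky hkt with ⟨a, rfl⟩ | ⟨a, i, rfl⟩ | ⟨a, i, j, hij, rfl⟩
  · left; exact hzp a
  · have e1 : x * (zp z a * c i) * x⁻¹ = (x * zp z a * x⁻¹) * (x * c i * x⁻¹) := by group
    rw [e1, hzp]
    rcases h i with h1 | h1
    · left; rw [h1]
    · right; rw [h1, zpz]
  · have e1 : x * (zp z a * (c i * c j)) * x⁻¹ =
      (x * zp z a * x⁻¹) * ((x * c i * x⁻¹) * (x * c j * x⁻¹)) := by group
    have hzi : z * c i = c i * z := zc K D i
    rw [e1, hzp]
    rcases h i with h1 | h1 <;> rcases h j with h2 | h2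
    · left; rw [h1, h2]
    · right; rw [h1, h2, zpz]
      congr 1
      rw [← mul_assoc, ← hzi, mul_assoc]
    · right; rw [h1, h2, zpz]
      congr 1
      rw [mul_assoc]
    · left; rw [h1, h2]
      congr 1
      calc z * c i * (z * c j) = z * (c i * z) * c j := by group
        _ = (z * z) * (c i * c j) := by rw [← hzi]; group
        _ = _ := by rw [hzz, one_mul]

omit [Finite G] in
/-- An element of `C(z)` swapping `y` and `t` permutes the classes of the `c i`. -/
theorem exists_perm {g : G} (hgz : g * z = z * g) (hy : g * y * g⁻¹ = t) (ht : g * t * g⁻¹ = y) :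
    ∃ π : Equiv.Perm (Fin 5), ∀ i, g * c i * g⁻¹ = c (π i) ∨ g * c i * g⁻¹ = z * c (π i) := by
  have hex : ∀ i, ∃ j, g * c i * g⁻¹ = c j ∨ g * c i * g⁻¹ = z * c j := by
    intro i
    have m := H.conj_mem hgz (K.c_mem i)
    have a1 : (g * c i * g⁻¹) * y = y * (g * c i * g⁻¹) := by
      rw [← ht]
      calc g * c i * g⁻¹ * (g * t * g⁻¹) = g * (c i * t) * g⁻¹ := by group
        _ = _ := by rw [K.c_t]; group
    have a2 : (g * c i * g⁻¹) * t = t * (g * c i * g⁻¹) := by
      rw [← hy]
      calc g * c i * g⁻¹ * (g * y * g⁻¹) = g * (c i * y) * g⁻¹ := by group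
        _ = _ := by rw [K.c_y]; group
    have hsq : (g * c i * g⁻¹) * (g * c i * g⁻¹) = 1 := by
      calc (g * c i * g⁻¹) * (g * c i * g⁻¹) = g * (c i * c i) * g⁻¹ := by group
        _ = 1 := by rw [K.c_sq]; group
    have hinv : g * z * g⁻¹ = z := by rw [hgz]; group
    rcases K.cover _ m a1 a2 with ⟨a, ha⟩ | ⟨a, j, ha⟩ | ⟨a, j, k, hjk, ha⟩
    · exfalso
      have e1 : c i = g⁻¹ * (g * c i * g⁻¹) * g := by group
      rcases zmod2_cases a with rfl | rfl
      · rw [zp_zero] at ha
        rw [ha] at e1
        exact (H.c_ne K i).1 (by rw [e1]; group)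
      · rw [zp_one] at ha
        rw [ha] at e1
        apply (H.c_ne K i).2
        rw [e1, mul_assoc, ← hgz]; group
    · refine ⟨j, ?_⟩
      rcases zmod2_cases a with rfl | rfl
      · left; rw [ha, zp_zero, one_mul]
      · right; rw [ha, zp_one]
    · exfalso
      have hcz : z * (c j * c k) = (c j * c k) * z := (H.D.com _ (mul_mem (K.c_mem j) (K.c_mem k))).symm
      have e1 : (zp z a * (c j * c k)) * (zp z a * (c j * c k)) = z := by
        rcases zmod2_cases a with rfl | rfl
        · rw [zp_zero, one_mul]; exact H.c_mul_sq K j k hjk.ne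
        · rw [zp_one]
          calc z * (c j * c k) * (z * (c j * c k)) = z * ((c j * c k) * z) * (c j * c k) := by group
            _ = (z * z) * ((c j * c k) * (c j * c k)) := by rw [← hcz]; group
            _ = z := by rw [H.c_mul_sq K j k hjk.ne, H.toPre.zz, one_mul]
      rw [← ha, hsq] at e1
      exact H.z_ne e1.symm
  choose π hπ using hex
  have hinj : Function.Injective π := by
    intro i j hij
    -- both conjugates lie in the same class
    have e1 := hπ i
    have e2 := hπ j
    rw [hij] at e1
    have hgz' : g⁻¹ * z = z * g⁻¹ := by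
      have : Commute g z := hgz
      exact this.inv_left
    have key : ∀ u : G, u = g⁻¹ * (g * u * g⁻¹) * g := by intro u; group
    have zc' : g⁻¹ * (z * (g * c j * g⁻¹)) * g = z * c j := by
      calc g⁻¹ * (z * (g * c j * g⁻¹)) * g = (g⁻¹ * z) * (g * c j) := by group
        _ = z * c j := by rw [hgz']; group
    have same : c i = c j ∨ c i = z * c j := by
      rcases e1 with h1 | h1 <;> rcases e2 with h2 | h2
      · left; rw [key (c i), h1, ← h2]; group
      · right
        rw [key (c i), h1]
        have : c (π j) = z * (g * c j * g⁻¹) := by rw [h2, ← mul_assoc, H.toPre.zz, one_mul]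
        rw [this, zc']
      · right
        rw [key (c i), h1, ← h2, zc']
      · left; rw [key (c i), h1, ← h2]; group
    exact cls_eq K (Or.inl rfl) same
  refine ⟨Equiv.ofBijective π (Finite.injective_iff_bijective.1 hinj), ?_⟩
  intro i
  exact hπ i

/-- ... and the permutation is odd. -/
theorem exists_odd {g : G} (hgz : g * z = z * g) (hy : g * y * g⁻¹ = t) (ht : g * t * g⁻¹ = y) :
    ∃ π : Equiv.Perm (Fin 5), (∀ i, g * c i * g⁻¹ = c (π i) ∨ g * c i * g⁻¹ = z * c (π i)) ∧
      Equiv.Perm.sign π = -1 := by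
  obtain ⟨π, hπ⟩ := H.exists_perm K hgz hy ht
  refine ⟨π, hπ, ?_⟩
  rcases Int.units_eq_one_or (Equiv.Perm.sign π) with hs | hs
  swap
  · exact hs
  exfalso
  let π' : alternatingGroup (Fin 5) := ⟨π, Equiv.Perm.mem_alternatingGroup.2 hs⟩
  have hlL : κ π' ∈ L := by rw [← K.κ_range]; exact ⟨π', rfl⟩
  have hly : Commute (κ π') y := H.Ly _ hlL
  have hlt : Commute (κ π') t := H.Lt _ hlL
  have hlz : Commute (κ π') z := H.toPre.Lz _ hlL
  set x := (κ π')⁻¹ * g with hxdef
  have cgz : Commute g z := hgz
  have hxz : Commute x z := hlz.inv_left.mul_left cgz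
  have hxc : ∀ i, x * c i * x⁻¹ = c i ∨ x * c i * x⁻¹ = z * c i := by
    intro i
    have e1 : x * c i * x⁻¹ = (κ π')⁻¹ * (g * c i * g⁻¹) * κ π' := by rw [hxdef]; group
    have e2 : (κ π')⁻¹ * c (π i) * κ π' = c i := by
      have := K.κ_conj π' i
      rw [← show c ((π' : Equiv.Perm (Fin 5)) i) = c (π i) from rfl, ← this]; group
    rcases hπ i with h | h
    · left; rw [e1, h, e2]
    · right
      rw [e1, h]
      calc (κ π')⁻¹ * (z * c (π i)) * κ π' = ((κ π')⁻¹ * z) * c (π i) * κ π' := by group
        _ = z * ((κ π')⁻¹ * c (π i) * κ π') := by rw [hlz.inv_left.eq]; group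
        _ = _ := by rw [e2]
  have hxy : x * y * x⁻¹ = t := by
    have : x * y * x⁻¹ = (κ π')⁻¹ * (g * y * g⁻¹) * κ π' := by rw [hxdef]; group
    rw [this, hy, hlt.inv_left.eq]; group
  have hxt : x * t * x⁻¹ = y := by
    have : x * t * x⁻¹ = (κ π')⁻¹ * (g * t * g⁻¹) * κ π' := by rw [hxdef]; group
    rw [this, ht, hly.inv_left.eq]; group
  have hzz := H.toPre.zz
  have zyc : z * y = y * z := H.toPre.zy
  have ztc : z * t = t * z := H.toPre.zt
  have hyy := H.y2
  have htt := H.t2
  have hyt := H.yt
  have hty := H.toPre.ty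
  have hsq : (y * t) * (y * t) = z := by
    calc y * t * (y * t) = (y * t) * y * t := by group
      _ = z * t * (y * y) * t := by rw [hyt]; group
      _ = z * (t * t) := by rw [hyy]; group
      _ = z := by rw [htt, mul_one]
  have hconj : ∀ k u : G, x * (k * u) * x⁻¹ = (x * k * x⁻¹) * (x * u * x⁻¹) := by
    intro k u; group
  have htyz : t * y = z * (y * t) := hty
  -- commutation of y, t, yt with yt
  have n1 : ¬ (y * (y * t) = (y * t) * y) := by
    intro h
    have e1 : y * (y * t) = t := by rw [← mul_assoc, hyy, one_mul]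
    have e2 : (y * t) * y = z * t := by
      rw [hyt]
      calc z * (t * y) * y = z * t * (y * y) := by group
        _ = z * t := by rw [hyy, mul_one]
    rw [e1, e2] at h
    exact H.z_ne (mul_eq_right.1 h.symm)
  have n2 : ¬ (t * (y * t) = (y * t) * t) := by
    intro h
    have e1 : t * (y * t) = z * y := by
      calc t * (y * t) = (t * y) * t := by group
        _ = z * y * (t * t) := by rw [hty]; group
        _ = z * y := by rw [htt, mul_one]
    have e2 : (y * t) * t = y := by rw [mul_assoc, htt, mul_one]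
    rw [e1, e2] at h
    exact H.z_ne (mul_eq_right.1 h)
  refine H.no_reflection K (y * t) (mul_mem H.yQ H.tQ) hsq x hxz ?_ ?_
  · intro u hu hcomm
    obtain ⟨k, hk, hku⟩ := H.toPre.decomp u hu
    obtain ⟨hkQ, hky, hkt⟩ := mem_K0.1 hk
    have hkc : Commute k (y * t) := by
      have b1 : Commute k y := hky
      have b2 : Commute k t := hkt
      exact b1.mul_right b2
    have hk' := act_K0 K H.D hxz hxc k hkQ hky hkt
    rcases hku with rfl | rfl | rfl | rfl
    · exact hk'
    · exfalso
      apply n1
      apply mul_left_cancel (a := k)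
      calc k * (y * (y * t)) = k * y * (y * t) := by group
        _ = (y * t) * k * y := by rw [hcomm]; group
        _ = _ := by rw [← hkc.eq]; group
    · exfalso
      apply n2
      apply mul_left_cancel (a := k)
      calc k * (t * (y * t)) = k * t * (y * t) := by group
        _ = (y * t) * k * t := by rw [hcomm]; group
        _ = _ := by rw [← hkc.eq]; group
    · have e1 : x * (y * t) * x⁻¹ = z * (y * t) := by rw [hconj, hxy, hxt, htyz]
      have hzk : z * k = k * z := (H.D.com k hkQ).symm
      rcases hk' with h | h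
      · right; rw [hconj, e1, h, ← mul_assoc, ← hzk, mul_assoc]
      · left
        rw [hconj, e1, h]
        calc z * k * (z * (y * t)) = z * (k * z) * (y * t) := by group
          _ = (z * z) * (k * (y * t)) := by rw [← hzk]; group
          _ = _ := by rw [hzz, one_mul]
  · intro u hu hcomm
    obtain ⟨k, hk, hku⟩ := H.toPre.decomp u hu
    obtain ⟨hkQ, hky, hkt⟩ := mem_K0.1 hk
    have hkc : Commute k (y * t) := by
      have b1 : Commute k y := hky
      have b2 : Commute k t := hkt
      exact b1.mul_right b2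
    have hk' := act_K0 K H.D hxz hxc k hkQ hky hkt
    have hzk : z * k = k * z := (H.D.com k hkQ).symm
    rcases hku with rfl | rfl | rfl | rfl
    · exact absurd hkc.eq hcomm
    · have e2 : k * y * (y * t) = k * t := by
        calc k * y * (y * t) = k * (y * y) * t := by group
          _ = _ := by rw [hyy, mul_one]
      rw [hconj, hxy, e2]
      rcases hk' with h | h
      · left; rw [h]
      · right; rw [h, mul_assoc]
    · have e2 : k * t * (y * t) = z * (k * y) := by
        calc k * t * (y * t) = k * (t * y) * t := by group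
          _ = (k * z) * y * (t * t) := by rw [hty]; group
          _ = _ := by rw [htt, ← hzk]; group
      rw [hconj, hxt, e2]
      rcases hk' with h | h
      · right; rw [h, ← mul_assoc z z, hzz, one_mul]
      · left; rw [h, mul_assoc]
    · exfalso
      apply hcomm
      have b3 : Commute (k * (y * t)) (y * t) := hkc.mul_left (Commute.refl _)
      exact b3.eq

omit H K [Finite G] [Group G] in
theorem move_facts : ∀ i j : Fin 5, i ≠ j → ∃ σ : Equiv.Perm (Fin 5), Equiv.Perm.sign σ = 1 ∧
    σ i = i ∧ σ j ≠ j := by (set_option synthInstance.maxSize 9000 in open scoped Cfsg.Agent.Lib.FastPerm in decide +kernel)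

omit H K [Finite G] [Group G] in
theorem centre_facts : ∀ σ : Equiv.Perm (Fin 5), σ * finRotate 5 = finRotate 5 * σ →
    σ * (Equiv.swap (1 : Fin 5) 2 * Equiv.swap (2 : Fin 5) 3) = (Equiv.swap (1 : Fin 5) 2 * Equiv.swap (2 : Fin 5) 3) * σ → σ = 1 := by
  (set_option synthInstance.maxSize 9000 in open scoped Cfsg.Agent.Lib.FastPerm in decide +kernel)

omit H K [Finite G] [Group G] in
theorem rot_sign : Equiv.Perm.sign (finRotate 5) = 1 := by decide +kernel

omit [Finite G] in
/-- `C_{K0}(L) = ⟨z⟩`. -/
theorem K0_fix (k : G) (hk : k ∈ K0 Q y t) (h : ∀ l ∈ L, k * l = l * k) : k = 1 ∨ k = z := by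
  obtain ⟨hkQ, hky, hkt⟩ := mem_K0.1 hk
  have hκ : ∀ σ : alternatingGroup (Fin 5), κ σ * k * (κ σ)⁻¹ = k := by
    intro σ
    have : κ σ ∈ L := by rw [← K.κ_range]; exact ⟨σ, rfl⟩
    rw [← h _ this]; group
  have hκz : ∀ (σ : alternatingGroup (Fin 5)) (a : ZMod 2), κ σ * zp z a = zp z a * κ σ := by
    intro σ a
    have hl : κ σ ∈ L := by rw [← K.κ_range]; exact ⟨σ, rfl⟩
    have hz : Commute (κ σ) z := H.toPre.Lz _ hl
    rcases zmod2_cases a with rfl | rfl
    · rw [zp_zero, mul_one, one_mul]
    · rw [zp_one]; exact hz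
  rcases K.cover k hkQ hky hkt with ⟨a, rfl⟩ | ⟨a, i, rfl⟩ | ⟨a, i, j, hij, rfl⟩
  · rcases zmod2_cases a with rfl | rfl
    · left; exact zp_zero z
    · right; exact zp_one z
  · exfalso
    obtain ⟨j, hj⟩ : ∃ j, j ≠ i :=
      ⟨i + 1, (by decide : ∀ i : Fin 5, i + 1 ≠ i) i⟩
    obtain ⟨σ, hσ, -, hσi⟩ := move_facts j i hj
    have h1 := hκ ⟨σ, Equiv.Perm.mem_alternatingGroup.2 hσ⟩
    have h2 : κ ⟨σ, Equiv.Perm.mem_alternatingGroup.2 hσ⟩ * (zp z a * c i) *
        (κ ⟨σ, Equiv.Perm.mem_alternatingGroup.2 hσ⟩)⁻¹ = zp z a * c (σ i) := by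
      rw [← mul_assoc, hκz, mul_assoc, mul_assoc, ← mul_assoc (κ _) (c i), K.κ_conj]
    rw [h2] at h1
    exact hσi (K.c_inj a a _ _ h1).2
  · exfalso
    obtain ⟨σ, hσ, hσi, hσj⟩ := move_facts i j hij.ne
    have h1 := hκ ⟨σ, Equiv.Perm.mem_alternatingGroup.2 hσ⟩
    have h2 : κ ⟨σ, Equiv.Perm.mem_alternatingGroup.2 hσ⟩ * (zp z a * (c i * c j)) *
        (κ ⟨σ, Equiv.Perm.mem_alternatingGroup.2 hσ⟩)⁻¹ = zp z a * (c (σ i) * c (σ j)) := by
      have e1 := K.κ_conj ⟨σ, Equiv.Perm.mem_alternatingGroup.2 hσ⟩ i
      have e2 := K.κ_conj ⟨σ, Equiv.Perm.mem_alternatingGroup.2 hσ⟩ j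
      rw [← mul_assoc, hκz]
      rw [show c (σ i) = _ from e1.symm, show c (σ j) = _ from e2.symm]
      group
    rw [h2, hσi] at h1
    have h3 := mul_left_cancel (mul_left_cancel h1)
    exact hσj (K.c_inj 0 0 _ _ (by rw [h3])).2

omit [Finite G] in
/-- `C_Q(L) = ⟨y, t⟩`. -/
theorem Q_fix (q : G) (hq : q ∈ Q) (h : ∀ l ∈ L, q * l = l * q) :
    ∃ a : ZMod 2, q = zp z a ∨ q = zp z a * y ∨ q = zp z a * t ∨ q = zp z a * (y * t) := by
  obtain ⟨k, hk, hku⟩ := H.toPre.decomp q hq
  have hLk : ∀ e, (∀ l ∈ L, e * l = l * e) → q = k * e → k = 1 ∨ k = z := by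
    intro e he hke
    apply H.K0_fix K k hk
    intro l hl
    have h1 : k = q * e⁻¹ := by rw [hke]; group
    have b1 : Commute q l := h l hl
    have b2 : Commute e l := he l hl
    rw [h1]
    exact (b1.mul_left b2.inv_left).eq
  have key : ∀ e, q = k * e → (k = 1 ∨ k = z) → ∃ a, q = zp z a * e := by
    intro e h1 h2
    rcases h2 with h2 | h2
    · exact ⟨0, by rw [h1, h2, zp_zero]⟩
    · exact ⟨1, by rw [h1, h2, zp_one]⟩
  have hy : ∀ l ∈ L, y * l = l * y := fun l hl => (H.Ly l hl).symm
  have ht : ∀ l ∈ L, t * l = l * t := fun l hl => (H.Lt l hl).symm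
  rcases hku with h1 | h1 | h1 | h1
  · have h1' : q = k * 1 := by rw [mul_one]; exact h1
    obtain ⟨a, ha⟩ := key 1 h1' (hLk 1 (fun l _ => by rw [one_mul, mul_one]) h1')
    exact ⟨a, Or.inl (by rw [ha, mul_one])⟩
  · obtain ⟨a, ha⟩ := key y h1 (hLk y hy h1)
    exact ⟨a, Or.inr (Or.inl ha)⟩
  · obtain ⟨a, ha⟩ := key t h1 (hLk t ht h1)
    exact ⟨a, Or.inr (Or.inr (Or.inl ha))⟩
  · obtain ⟨a, ha⟩ := key (y * t) h1 (hLk (y * t) (fun l hl => by
      have b1 : Commute y l := hy l hl
      have b2 : Commute t l := ht l hl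
      exact (b1.mul_left b2).eq) h1)
    exact ⟨a, Or.inr (Or.inr (Or.inr ha))⟩

/-- `C_C(L) = ⟨y, t⟩`. -/
theorem C_fix (x : G) (hx : x * z = z * x) (h : ∀ l ∈ L, x * l = l * x) :
    ∃ a : ZMod 2, x = zp z a ∨ x = zp z a * y ∨ x = zp z a * t ∨ x = zp z a * (y * t) := by
  have hzz := H.toPre.zz
  have zyc : z * y = y * z := H.toPre.zy
  have ztc : z * t = t * z := H.toPre.zt
  have hyy := H.y2
  have htt := H.t2
  have hyt := H.yt
  have hty := H.toPre.ty
  have hsq : (y * t) * (y * t) = z := by
    calc y * t * (y * t) = (y * t) * y * t := by group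
      _ = z * t * (y * y) * t := by rw [hyt]; group
      _ = z * (t * t) := by rw [hyy]; group
      _ = z := by rw [htt, mul_one]
  -- images of y and t
  have himg : ∀ w, w ∈ Q → w * w = 1 → w ≠ 1 → w ≠ z → (∀ l ∈ L, w * l = l * w) →
      (x * w * x⁻¹ = y ∨ x * w * x⁻¹ = z * y) ∨ (x * w * x⁻¹ = t ∨ x * w * x⁻¹ = z * t) := by
    intro w hw hww hw1 hwz hwL
    have m : x * w * x⁻¹ ∈ Q := H.D.norm x hx w hw
    have mL : ∀ l ∈ L, (x * w * x⁻¹) * l = l * (x * w * x⁻¹) := by
      intro l hl
      have b1 : Commute x l := h l hl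
      have b2 : Commute w l := hwL l hl
      exact ((b1.mul_left b2).mul_left b1.inv_left).eq
    have msq : (x * w * x⁻¹) * (x * w * x⁻¹) = 1 := by
      calc (x * w * x⁻¹) * (x * w * x⁻¹) = x * (w * w) * x⁻¹ := by group
        _ = 1 := by rw [hww]; group
    have mne1 : x * w * x⁻¹ ≠ 1 := by
      intro h1
      apply hw1
      calc w = x⁻¹ * (x * w * x⁻¹) * x := by group
        _ = 1 := by rw [h1]; group
    have mnez : x * w * x⁻¹ ≠ z := by
      intro h1
      apply hwz
      calc w = x⁻¹ * (x * w * x⁻¹) * x := by group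
        _ = x⁻¹ * (z * x) := by rw [h1]; group
        _ = z := by rw [← hx]; group
    obtain ⟨a, ha⟩ := H.Q_fix K _ m mL
    rcases zmod2_cases a with rfl | rfl
    · rw [zp_zero] at ha
      rcases ha with ha | ha | ha | ha
      · exact absurd ha mne1
      · left; left; rw [ha, one_mul]
      · right; left; rw [ha, one_mul]
      · exfalso
        rw [ha, one_mul, hsq] at msq
        exact H.z_ne msq
    · rw [zp_one] at ha
      rcases ha with ha | ha | ha | ha
      · exact absurd ha mnez
      · left; right; exact ha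
      · right; right; exact ha
      · exfalso
        have e1 : z * (y * t) * (z * (y * t)) = z := by
          have b1 : Commute z (y * t) := by
            have c1 : Commute z y := zyc
            have c2 : Commute z t := ztc
            exact c1.mul_right c2
          calc z * (y * t) * (z * (y * t)) = z * ((y * t) * z) * (y * t) := by group
            _ = (z * z) * ((y * t) * (y * t)) := by rw [← b1.eq]; group
            _ = z := by rw [hsq, hzz, one_mul]
        rw [ha, e1] at msq
        exact H.z_ne msq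
  have y1 : y ≠ 1 := by
    intro h1; have := hyt; rw [h1, one_mul, mul_one] at this
    exact H.z_ne (mul_eq_right.1 this.symm)
  have yz : y ≠ z := by
    intro h1; have := hyt; rw [h1, ← ztc, ← mul_assoc, hzz, one_mul] at this
    exact H.z_ne (mul_eq_right.1 this)
  have t1 : t ≠ 1 := by
    intro h1; have := hyt; rw [h1, one_mul, mul_one] at this
    exact H.z_ne (mul_eq_right.1 this.symm)
  have tz : t ≠ z := by
    intro h1; have := hyt; rw [h1, zyc, ← mul_assoc, ← zyc, mul_assoc, ← zyc, ← mul_assoc, hzz, one_mul] at this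
    exact H.z_ne (mul_eq_right.1 this)
  have hyL : ∀ l ∈ L, y * l = l * y := fun l hl => (H.Ly l hl).symm
  have htL : ∀ l ∈ L, t * l = l * t := fun l hl => (H.Lt l hl).symm
  have iy := himg y H.yQ hyy y1 yz hyL
  have it := himg t H.tQ htt t1 tz htL
  -- the images of y and t do not commute
  have hnc : x * y * x⁻¹ * (x * t * x⁻¹) = z * (x * t * x⁻¹ * (x * y * x⁻¹)) := by
    calc x * y * x⁻¹ * (x * t * x⁻¹) = x * (y * t) * x⁻¹ := by group
      _ = (x * z) * (t * y) * x⁻¹ := by rw [hyt]; group
      _ = _ := by rw [hx]; group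
  have cyz : Commute z y := zyc
  have ctz : Commute z t := ztc
  have bad : ∀ (w u v : G), Commute z w → (u = w ∨ u = z * w) → (v = w ∨ v = z * w) →
      u * v = z * (v * u) → False := by
    intro w u v hw hu hv huv
    have c1 : Commute u v := by
      have b0 : Commute w w := Commute.refl w
      have b1 : Commute w (z * w) := (hw.symm).mul_right b0
      have b2 : Commute (z * w) w := b1.symm
      rcases hu with rfl | rfl <;> rcases hv with rfl | rfl
      · exact b0
      · exact b1
      · exact b2
      · exact Commute.refl _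
    rw [c1.eq] at huv
    exact H.z_ne (mul_eq_right.1 huv.symm)
  -- finishing with an element of ⟨y,t⟩
  have fin : ∀ e, (e = 1 ∨ e = y ∨ e = t ∨ e = y * t) → (e * x = 1 ∨ e * x = z) →
      ∃ a : ZMod 2, x = zp z a ∨ x = zp z a * y ∨ x = zp z a * t ∨ x = zp z a * (y * t) := by
    intro e he hex
    have hx' : x = e⁻¹ ∨ x = z * e⁻¹ := by
      rcases hex with h1 | h1
      · left
        calc x = e⁻¹ * (e * x) := by group
          _ = e⁻¹ := by rw [h1, mul_one]
      · right
        have hez : Commute z e := by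
          rcases he with rfl | rfl | rfl | rfl
          · exact Commute.one_right z
          · exact cyz
          · exact ctz
          · exact cyz.mul_right ctz
        calc x = e⁻¹ * (e * x) := by group
          _ = e⁻¹ * z := by rw [h1]
          _ = z * e⁻¹ := (hez.inv_right.eq).symm
    have hyi : y⁻¹ = y := by rw [inv_eq_iff_mul_eq_one]; exact hyy
    have hti : t⁻¹ = t := by rw [inv_eq_iff_mul_eq_one]; exact htt
    have hyti : (y * t)⁻¹ = z * (y * t) := by
      rw [mul_inv_rev, hyi, hti]; exact hty
    rcases he with rfl | rfl | rfl | rfl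
    · rcases hx' with h1 | h1
      · exact ⟨0, Or.inl (by rw [zp_zero, h1, inv_one])⟩
      · exact ⟨1, Or.inl (by rw [zp_one, h1, inv_one, mul_one])⟩
    · rcases hx' with h1 | h1
      · exact ⟨0, Or.inr (Or.inl (by rw [zp_zero, h1, hyi, one_mul]))⟩
      · exact ⟨1, Or.inr (Or.inl (by rw [zp_one, h1, hyi]))⟩
    · rcases hx' with h1 | h1
      · exact ⟨0, Or.inr (Or.inr (Or.inl (by rw [zp_zero, h1, hti, one_mul])))⟩
      · exact ⟨1, Or.inr (Or.inr (Or.inl (by rw [zp_one, h1, hti])))⟩
    · rcases hx' with h1 | h1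
      · exact ⟨1, Or.inr (Or.inr (Or.inr (by rw [zp_one, h1, hyti])))⟩
      · refine ⟨0, Or.inr (Or.inr (Or.inr ?_))⟩
        rw [zp_zero, h1, hyti, ← mul_assoc, hzz]
  -- commuting with L
  have heL : ∀ e, (e = 1 ∨ e = y ∨ e = t ∨ e = y * t) → ∀ l ∈ L, (e * x) * l = l * (e * x) := by
    intro e he l hl
    have b0 : Commute x l := h l hl
    have b1 : Commute y l := hyL l hl
    have b2 : Commute t l := htL l hl
    rcases he with rfl | rfl | rfl | rfl
    · exact ((Commute.one_left l).mul_left b0).eq
    · exact (b1.mul_left b0).eq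
    · exact (b2.mul_left b0).eq
    · exact ((b1.mul_left b2).mul_left b0).eq
  rcases iy with iy | iy
  · rcases it with it | it
    · exact absurd (bad y _ _ cyz iy it hnc) id
    · obtain ⟨e, he, h1, h2⟩ := H.adjust iy it
      apply fin e he
      obtain ⟨n, hn, l, hl, hnl⟩ := H.exists_mul h1 h2
      have hcL := heL e he
      -- n commutes with L
      have hnL : ∀ l' ∈ L, n * l' = l' * n := by
        intro l' hl'
        have h3 := hcL l' hl'
        rw [hnl] at h3
        -- n * (l l' l⁻¹) * n⁻¹ = l'
        have h4 : n * (l * l' * l⁻¹) * n⁻¹ = l' := by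
          calc n * (l * l' * l⁻¹) * n⁻¹ = (n * l * l') * (n * l)⁻¹ := by group
            _ = l' := by rw [h3]; group
        set m := l * l' * l⁻¹ with hm
        have hmL : m ∈ L := mul_mem (mul_mem hl hl') (inv_mem hl)
        have h5 : n * m * n⁻¹ * m⁻¹ ∈ Q := by
          have e1 : n * m * n⁻¹ * m⁻¹ = n * (m * n⁻¹ * m⁻¹) := by group
          rw [e1]
          exact mul_mem (mem_K0.1 hn).1 (H.D.norm m (H.toPre.Lz m hmL) _ (inv_mem (mem_K0.1 hn).1))
        have h6 : n * m * n⁻¹ * m⁻¹ ∈ L := by
          rw [h4]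
          exact mul_mem hl' (inv_mem hmL)
        have h7 := H.LQ _ h6 h5
        have h8 : m = l' := by
          rw [h4] at h7
          exact (mul_inv_eq_one.1 h7).symm
        rw [h8] at h4
        calc n * l' = (n * l' * n⁻¹) * n := by group
          _ = l' * n := by rw [h4]
      have hnz := H.K0_fix K n hn hnL
      -- l is central in L
      have hl1 : l = 1 := by
        have hlc : ∀ l' ∈ L, l * l' = l' * l := by
          intro l' hl'
          have h3 := hcL l' hl'
          rw [hnl] at h3
          apply mul_left_cancel (a := n)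
          calc n * (l * l') = l' * (n * l) := by rw [← h3]; group
            _ = (l' * n) * l := by group
            _ = n * (l' * l) := by rw [← hnL l' hl']; group
        have hl' := hl
        rw [← K.κ_range] at hl'
        obtain ⟨σ, rfl⟩ := hl'
        have h9 : ∀ τ : alternatingGroup (Fin 5), σ * τ = τ * σ := by
          intro τ
          apply K.κ_inj
          rw [map_mul, map_mul]
          exact hlc _ (by rw [← K.κ_range]; exact ⟨τ, rfl⟩)
        have h10 := centre_facts σ
          (congrArg Subtype.val (h9 ⟨finRotate 5, Equiv.Perm.mem_alternatingGroup.2 rot_sign⟩))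
          (congrArg Subtype.val (h9 ⟨Equiv.swap (1 : Fin 5) 2 * Equiv.swap (2 : Fin 5) 3,
            Equiv.Perm.mem_alternatingGroup.2 Canon.c3_facts.1⟩))
        have h11 : σ = 1 := Subtype.ext h10
        rw [h11, map_one]
      rw [hl1, mul_one] at hnl
      rw [hnl]
      exact hnz
  · rcases it with it | it
    · -- swapping: contradiction
      exfalso
      -- reduce to exact swap
      obtain ⟨e, he, hy', ht'⟩ : ∃ e, (e = 1 ∨ e = y ∨ e = t ∨ e = y * t) ∧
          (e * x) * y * (e * x)⁻¹ = t ∧ (e * x) * t * (e * x)⁻¹ = y := by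
        have key : ∀ e u, (e * x) * u * (e * x)⁻¹ = e * (x * u * x⁻¹) * e⁻¹ := by
          intro e u; group
        have yzc : y * z * y⁻¹ = z := by rw [← zyc]; group
        have tzc : t * z * t⁻¹ = z := by rw [← ztc]; group
        have yyc : y * y * y⁻¹ = y := by group
        have ttc : t * t * t⁻¹ = t := by group
        have mz : ∀ (e a b : G), e * (a * b) * e⁻¹ = (e * a * e⁻¹) * (e * b * e⁻¹) := by
          intro e a b; group
        rcases iy with iy | iy <;> rcases it with it | it
        · refine ⟨1, Or.inl rfl, ?_, ?_⟩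
          · rw [key, iy]; group
          · rw [key, it]; group
        · refine ⟨t, Or.inr (Or.inr (Or.inl rfl)), ?_, ?_⟩
          · rw [key, iy, ttc]
          · rw [key, it, mz, tzc, H.conj_ty, ← mul_assoc, hzz, one_mul]
        · refine ⟨y, Or.inr (Or.inl rfl), ?_, ?_⟩
          · rw [key, iy, mz, yzc, H.conj_yt, ← mul_assoc, hzz, one_mul]
          · rw [key, it, yyc]
        · refine ⟨y * t, Or.inr (Or.inr (Or.inr rfl)), ?_, ?_⟩
          · rw [key, iy]
            have : y * t * (z * t) * (y * t)⁻¹ = y * (t * (z * t) * t⁻¹) * y⁻¹ := by group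
            rw [this, mz t, tzc, ttc, mz y, yzc, H.conj_yt, ← mul_assoc, hzz, one_mul]
          · rw [key, it]
            have h3 : t * (z * y) * t⁻¹ = y := by
              rw [mz t, tzc, H.conj_ty, ← mul_assoc, hzz, one_mul]
            have : y * t * (z * y) * (y * t)⁻¹ = y * (t * (z * y) * t⁻¹) * y⁻¹ := by group
            rw [this, h3, yyc]
      have hxz : Commute x z := hx
      have hexz : (e * x) * z = z * (e * x) := by
        have b1 : Commute y z := zyc.symm
        have b2 : Commute t z := ztc.symm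
        rcases he with rfl | rfl | rfl | rfl
        · exact ((Commute.one_left z).mul_left hxz).eq
        · exact (b1.mul_left hxz).eq
        · exact (b2.mul_left hxz).eq
        · exact ((b1.mul_left b2).mul_left hxz).eq
      obtain ⟨π, hπ, hodd⟩ := H.exists_odd K hexz hy' ht'
      have hcL := heL e he
      have hcomm : ∀ σ : alternatingGroup (Fin 5), π * (σ : Equiv.Perm (Fin 5)) =
          (σ : Equiv.Perm (Fin 5)) * π := by
        intro σ
        apply Equiv.ext
        intro i
        have hl : κ σ ∈ L := by rw [← K.κ_range]; exact ⟨σ, rfl⟩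
        have h3 : Commute (e * x) (κ σ) := hcL _ hl
        have hlz : Commute (κ σ) z := H.toPre.Lz _ hl
        have h4 := hπ ((σ : Equiv.Perm (Fin 5)) i)
        rw [← K.κ_conj] at h4
        have h5 : (e * x) * (κ σ * c i * (κ σ)⁻¹) * (e * x)⁻¹ =
            κ σ * ((e * x) * c i * (e * x)⁻¹) * (κ σ)⁻¹ := by
          calc (e * x) * (κ σ * c i * (κ σ)⁻¹) * (e * x)⁻¹ =
              ((e * x) * κ σ) * c i * ((e * x) * κ σ)⁻¹ := by group
            _ = _ := by rw [h3.eq]; group
        have h6 : (e * x) * (κ σ * c i * (κ σ)⁻¹) * (e * x)⁻¹ =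
            c ((σ : Equiv.Perm (Fin 5)) (π i)) ∨ (e * x) * (κ σ * c i * (κ σ)⁻¹) * (e * x)⁻¹ =
            z * c ((σ : Equiv.Perm (Fin 5)) (π i)) := by
          rw [h5]
          rcases hπ i with h7 | h7
          · left; rw [h7, K.κ_conj]
          · right
            rw [h7]
            calc κ σ * (z * c (π i)) * (κ σ)⁻¹ = (κ σ * z) * c (π i) * (κ σ)⁻¹ := by group
              _ = z * (κ σ * c (π i) * (κ σ)⁻¹) := by rw [hlz.eq]; group
              _ = _ := by rw [K.κ_conj]
        exact cls_eq K h4 h6
      have h10 := centre_facts π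
        (hcomm ⟨finRotate 5, Equiv.Perm.mem_alternatingGroup.2 rot_sign⟩)
        (hcomm ⟨Equiv.swap (1 : Fin 5) 2 * Equiv.swap (2 : Fin 5) 3, Equiv.Perm.mem_alternatingGroup.2 Canon.c3_facts.1⟩)
      rw [h10, map_one] at hodd
      exact absurd hodd (by decide)
    · exact absurd (bad t _ _ ctz iy it hnc) id

end Canonical

end PreT

/-- `C_{C(z)}(C_Q(r)) = ⟨z, r⟩` for a noncentral involution `r ∈ Q`. -/
theorem cent_cent {Q : Subgroup G} {z : G} (D : Data Q z) (hz1 : z ≠ 1)
    (cen : ∀ x ∈ Q, (∀ q ∈ Q, q * x = x * q) → x = 1 ∨ x = z)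
    (r : G) (hr : r ∈ Q) (hrr : r * r = 1) (hr1 : r ≠ 1) (hrz : r ≠ z) (g : G) (hg : g * z = z * g)
    (h : ∀ x ∈ Q, x * r = r * x → g * x = x * g) : g = 1 ∨ g = z ∨ g = r ∨ g = z * r := by
  have hzz := D.sqz
  have comm : ∀ x ∈ Q, ∀ w ∈ Q, x * w = w * x ∨ x * w = z * (w * x) := by
    intro x hx w hw
    rcases D.comm x hx w hw with h | h
    · left; rw [mul_inv_eq_iff_eq_mul] at h; exact h
    · right; rw [mul_inv_eq_iff_eq_mul] at h; rw [h, mul_assoc]
  have hgr : g * r = r * g := h r hr rfl
  have hzr : z * r = r * z := (D.com r hr).symm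
  -- an element q not commuting with r
  obtain ⟨q, hq, hqr⟩ : ∃ q ∈ Q, ¬ (q * r = r * q) := by
    by_contra hcon
    push Not at hcon
    rcases cen r hr hcon with h1 | h1
    · exact hr1 h1
    · exact hrz h1
  have hqr' : q * r = z * (r * q) := by
    rcases comm q hq r hr with h1 | h1
    · exact absurd h1 hqr
    · exact h1
  have hzq : z * q = q * z := (D.com q hq).symm
  -- every element of Q is in C_Q(r) or q C_Q(r)
  have hdec : ∀ x ∈ Q, x * r = r * x ∨ (q * x) * r = r * (q * x) := by
    intro x hx
    rcases comm x hx r hr with h1 | h1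
    · exact Or.inl h1
    · right
      have hzx : z * x = x * z := (D.com x hx).symm
      calc q * x * r = q * (x * r) := by group
        _ = (q * z) * (r * x) := by rw [h1]; group
        _ = z * (q * r) * x := by rw [← hzq]; group
        _ = (z * z) * (r * q) * x := by rw [hqr']; group
        _ = _ := by rw [hzz]; group
  -- s := q⁻¹ g q g⁻¹ commutes with C_Q(r)
  set s := q⁻¹ * (g * q * g⁻¹) with hs
  have hgq : g * q * g⁻¹ ∈ Q := D.norm g hg q hq
  have hsQ : s ∈ Q := mul_mem (inv_mem hq) hgq
  have hgq' : g * q * g⁻¹ = q * s := by rw [hs]; group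
  -- s commutes with each x in C_Q(r)
  have hsx : ∀ x ∈ Q, x * r = r * x → s * x = x * s := by
    intro x hx hxr
    have e1 : g * x * g⁻¹ = x := by rw [h x hx hxr]; group
    rcases comm q hq x hx with h1 | h1
    · have e2 : (g * q * g⁻¹) * x = x * (g * q * g⁻¹) := by
        calc (g * q * g⁻¹) * x = (g * q * g⁻¹) * (g * x * g⁻¹) := by rw [e1]
          _ = g * (q * x) * g⁻¹ := by group
          _ = (g * x * g⁻¹) * (g * q * g⁻¹) := by rw [h1]; group
          _ = _ := by rw [e1]
      have b1 : Commute (g * q * g⁻¹) x := e2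
      have b2 : Commute q x := h1
      exact (b2.inv_left.mul_left b1).eq
    · have e2 : (g * q * g⁻¹) * x = z * (x * (g * q * g⁻¹)) := by
        calc (g * q * g⁻¹) * x = (g * q * g⁻¹) * (g * x * g⁻¹) := by rw [e1]
          _ = g * (q * x) * g⁻¹ := by group
          _ = (g * z) * (x * q) * g⁻¹ := by rw [h1]; group
          _ = z * ((g * x * g⁻¹) * (g * q * g⁻¹)) := by rw [hg]; group
          _ = _ := by rw [e1]
      rw [hgq'] at e2
      have hzx : z * x = x * z := (D.com x hx).symm
      apply mul_left_cancel (a := q)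
      calc q * (s * x) = (q * s) * x := by group
        _ = z * (x * q) * s := by rw [e2]; group
        _ = (q * x) * s := by rw [h1]
        _ = _ := by group
  -- so s is in ⟨z, r⟩
  have hs4 : s = 1 ∨ s = z ∨ s = r ∨ s = z * r := by
    rcases comm s hsQ q hq with h1 | h1
    · have : s = 1 ∨ s = z := by
        apply cen s hsQ
        intro x hx
        rcases hdec x hx with h2 | h2
        · exact (hsx x hx h2).symm
        · have h3 := hsx _ (mul_mem hq hx) h2
          have b1 : Commute s q := h1
          have b2 : Commute s (q * x) := h3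
          have b3 : Commute s x := by
            have : x = q⁻¹ * (q * x) := by group
            rw [this]
            exact b1.inv_right.mul_right b2
          exact b3.symm.eq
      rcases this with h2 | h2
      · exact Or.inl h2
      · exact Or.inr (Or.inl h2)
    · -- s r commutes with q
      have h5 : (s * r) * q = q * (s * r) := by
        calc (s * r) * q = s * (r * q) := by group
          _ = s * (z * (q * r)) := by rw [hqr', ← mul_assoc z z, hzz, one_mul]
          _ = (s * z) * (q * r) := by group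
          _ = z * (s * q) * r := by rw [D.com s hsQ]; group
          _ = (z * z) * (q * s) * r := by rw [h1]; group
          _ = _ := by rw [hzz]; group
      have : s * r = 1 ∨ s * r = z := by
        apply cen _ (mul_mem hsQ hr)
        intro x hx
        have hrx : ∀ w ∈ Q, w * r = r * w → (s * r) * w = w * (s * r) := by
          intro w hw h6
          have b1 : Commute s w := hsx w hw h6
          have b2 : Commute r w := h6.symm
          exact (b1.mul_left b2).eq
        rcases hdec x hx with h2 | h2
        · exact (hrx x hx h2).symm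
        · have b1 : Commute (s * r) q := h5
          have b2 : Commute (s * r) (q * x) := hrx _ (mul_mem hq hx) h2
          have b3 : Commute (s * r) x := by
            have : x = q⁻¹ * (q * x) := by group
            rw [this]
            exact b1.inv_right.mul_right b2
          exact b3.symm.eq
      have hsr : s = (s * r) * r := by rw [mul_assoc, hrr, mul_one]
      rcases this with h2 | h2
      · right; right; left; rw [hsr, h2, one_mul]
      · right; right; right; rw [hsr, h2]
  -- s = r or z r is impossible by squares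
  have hsq : (q * s) * (q * s) = q * q := by
    rw [← hgq']
    have h1 : (g * q * g⁻¹) * (g * q * g⁻¹) = g * (q * q) * g⁻¹ := by group
    rw [h1]
    rcases D.sq q hq with h2 | h2
    · rw [h2]; group
    · rw [h2, hg]; group
  have hs2 : s = 1 ∨ s = z := by
    rcases hs4 with h1 | h1 | h1 | h1
    · exact Or.inl h1
    · exact Or.inr h1
    · exfalso
      rw [h1] at hsq
      have e1 : q * r * (q * r) = z * (q * q) := by
        calc q * r * (q * r) = q * r * (z * (r * q)) := by rw [hqr']
          _ = q * (r * z) * (r * q) := by group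
          _ = (q * z) * (r * r) * q := by rw [← hzr]; group
          _ = _ := by rw [hrr, ← hzq]; group
      rw [e1] at hsq
      exact hz1 (mul_eq_right.1 hsq)
    · exfalso
      rw [h1] at hsq
      have e1 : q * (z * r) * (q * (z * r)) = z * (q * q) := by
        have e2 : q * (z * r) = z * (q * r) := by rw [← mul_assoc, ← hzq, mul_assoc]
        have e3 : (q * r) * z = z * (q * r) := D.com _ (mul_mem hq hr)
        calc q * (z * r) * (q * (z * r)) = z * ((q * r) * z) * (q * r) := by rw [e2]; group
          _ = (z * z) * ((q * r) * (q * r)) := by rw [e3]; group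
          _ = (q * r) * (z * (r * q)) := by rw [hzz, one_mul]; nth_rewrite 2 [hqr']; rfl
          _ = q * (r * z) * (r * q) := by group
          _ = (q * z) * (r * r) * q := by rw [← hzr]; group
          _ = _ := by rw [hrr, ← hzq]; group
      rw [e1] at hsq
      exact hz1 (mul_eq_right.1 hsq)
  -- hence g or g r centralises Q
  have fin : ∀ u : G, u * z = z * u → (∀ x ∈ Q, x * r = r * x → u * x = x * u) → u * q = q * u →
      u = 1 ∨ u = z := by
    intro u huz hux huq
    have hall : ∀ x ∈ Q, u * x = x * u := by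
      intro x hx
      rcases hdec x hx with h2 | h2
      · exact hux x hx h2
      · have b1 : Commute u q := huq
        have b2 : Commute u (q * x) := hux _ (mul_mem hq hx) h2
        have b3 : Commute u x := by
          have : x = q⁻¹ * (q * x) := by group
          rw [this]
          exact b1.inv_right.mul_right b2
        exact b3.eq
    have huQ : u ∈ Q := by
      apply D.cent
      intro x hx
      rw [← hall x hx]; group
    exact cen u huQ (fun x hx => (hall x hx).symm)
  rcases hs2 with h1 | h1
  · have h2 : g * q = q * g := by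
      rw [h1, mul_one] at hgq'
      exact mul_inv_eq_iff_eq_mul.1 hgq'
    rcases fin g hg h h2 with h3 | h3
    · exact Or.inl h3
    · exact Or.inr (Or.inl h3)
  · have h2 : g * q = z * (q * g) := by
      rw [h1, ← hzq, mul_inv_eq_iff_eq_mul] at hgq'
      rw [hgq', mul_assoc]
    have h3 : (g * r) * q = q * (g * r) := by
      calc (g * r) * q = g * (r * q) := by group
        _ = g * (z * (q * r)) := by rw [hqr', ← mul_assoc z z, hzz, one_mul]
        _ = (g * z) * (q * r) := by group
        _ = z * (g * q) * r := by rw [hg]; group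
        _ = (z * z) * (q * g) * r := by rw [h2]; group
        _ = _ := by rw [hzz]; group
    have h4 : (g * r) * z = z * (g * r) := by
      have b1 : Commute g z := hg
      have b2 : Commute r z := hzr.symm
      exact (b1.mul_left b2).eq
    have h5 : ∀ x ∈ Q, x * r = r * x → (g * r) * x = x * (g * r) := by
      intro x hx hxr
      have b1 : Commute g x := h x hx hxr
      have b2 : Commute r x := hxr.symm
      exact (b1.mul_left b2).eq
    have hgr' : g = (g * r) * r := by rw [mul_assoc, hrr, mul_one]
    rcases fin _ h4 h5 h3 with h6 | h6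
    · right; right; left; rw [hgr', h6, one_mul]
    · right; right; right; rw [hgr', h6]

end Cfsg.Agent.SuzType.Swap
end
end

-- part: SuzType/SuzPresCanon
section
prune_inst 0x201000001000000000000000000000000000000000030000000004000000004000000600000001001000000000000000001000000200000000000000000400000020000000000000000000000001180c00000000000000000000000000000000000000000
set_option linter.all false
open scoped Cfsg.Agent.FastGrp

/-- decoders of the packed data (elaboration time only) -/
private noncomputable def pk61d (b S i : Nat) : Nat := Nat.mod (Nat.shiftRight S (Nat.mul b i)) (Nat.shiftLeft (nat_lit 1) b)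
private noncomputable def pk61c {α : Type} (t : Nat) (a : α) (f : Nat → α) : α := Nat.rec a (fun k _ => f k) t
private noncomputable def pk61f {α : Type} (t : Nat) (f : Nat → α) : α := Nat.rec (f Nat.zero) (fun k _ => f (Nat.succ k)) t
private noncomputable def pk61l {α : Type} (f : Nat → α) (s e : Nat) (tl : List α) : List α :=
  pk61f e fun e => Nat.rec tl (fun k ih => List.cons (pk61f (Nat.sub e (Nat.succ k)) f) ih) (Nat.sub e s)
private noncomputable def pk61r {α : Type} (F : (Nat → α) → Nat → α) (d : α) (n : Nat) : Nat → α :=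
  Nat.rec (fun _ => d) (fun _ ih => F ih) n


-- part: LargeExtra/PlaneOff
section
/-!
The elementary projective plane argument: a finite group `M` with an involution `z` whose centraliser is a 2-group,
all of whose involutions lie in one of two elementary abelian subgroups `F1`, `F2` of order 16 (both normalised by
`C(z)`), such that `N(Fi)` is transitive on `Fi#`. The conjugates of `F1` are the points, those of `F2` the lines;
two points are always collinear, hence there are at most 25 points, and `F2` is transitive on the points off the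
line `F2`.
-/

set_option autoImplicit false
set_option linter.unusedSectionVars false

namespace Cfsg.Agent.LargeExtra.PlaneOff

variable {M : Type*} [Group M]

/-- conjugate of a subgroup -/
def cj (g : M) (F : Subgroup M) : Subgroup M := F.map (MulAut.conj g).toMonoidHom

theorem mem_cj {g s : M} {F : Subgroup M} : s ∈ cj g F ↔ g⁻¹ * s * g ∈ F := by
  unfold cj
  rw [Subgroup.mem_map]
  constructor
  · rintro ⟨f, hf, rfl⟩
    simpa [mul_assoc] using hf
  · intro h
    exact ⟨_, h, by simp only [mul_assoc, _root_.MulEquiv.toMonoidHom_eq_coe, _root_.MonoidHom.coe_coe, _root_.MulAut.conj_apply, _root_.mul_inv_cancel_left, _root_.mul_inv_cancel, _root_.mul_one]⟩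

theorem cj_one (F : Subgroup M) : cj 1 F = F := by ext s; simp [mem_cj]

theorem cj_mul (g h : M) (F : Subgroup M) : cj (g * h) F = cj g (cj h F) := by
  ext s; simp only [mem_cj, mul_assoc, _root_.mul_inv_rev]

theorem conj_mem_cj {g s : M} {F : Subgroup M} (hs : s ∈ F) : g * s * g⁻¹ ∈ cj g F := by
  rw [mem_cj]; simpa [mul_assoc] using hs

theorem cj_inv_of {g : M} {F : Subgroup M} (h : cj g F = F) : cj g⁻¹ F = F := by
  conv_lhs => rw [← h]
  rw [← cj_mul, inv_mul_cancel, cj_one]

theorem cj_inj {g : M} {F F' : Subgroup M} (h : cj g F = cj g F') : F = F' := by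
  have := congrArg (cj g⁻¹) h
  rwa [← cj_mul, ← cj_mul, inv_mul_cancel, cj_one, cj_one] at this

theorem card_cj (g : M) (F : Subgroup M) : Nat.card (cj g F) = Nat.card F :=
  (Nat.card_congr ((F.equivMapOfInjective (MulAut.conj g).toMonoidHom
    (MulAut.conj g).injective).toEquiv)).symm

theorem cj_inf (g : M) (F F' : Subgroup M) : cj g (F ⊓ F') = cj g F ⊓ cj g F' := by
  ext s; simp only [mem_cj, Subgroup.mem_inf]

/-- the normaliser of `F` as a subgroup -/
def Nm (F : Subgroup M) : Subgroup M where
  carrier := {w | cj w F = F}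
  one_mem' := cj_one F
  mul_mem' := by
    intro a b ha hb
    show cj (a * b) F = F
    rw [cj_mul, show cj b F = F from hb, show cj a F = F from ha]
  inv_mem' := by
    intro a ha
    exact cj_inv_of ha

structure Hyp (z : M) (F1 F2 : Subgroup M) : Prop where
  z1 : z ∈ F1
  z2 : z ∈ F2
  zne : z ≠ 1
  sq1 : ∀ s ∈ F1, s * s = 1
  sq2 : ∀ s ∈ F2, s * s = 1
  card1 : Nat.card F1 = 16
  card2 : Nat.card F2 = 16
  nor1 : ∀ g, g * z = z * g → cj g F1 = F1
  nor2 : ∀ g, g * z = z * g → cj g F2 = F2
  tr1 : ∀ s ∈ F1, s ≠ 1 → ∃ n, cj n F1 = F1 ∧ s = n * z * n⁻¹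
  tr2 : ∀ s ∈ F2, s ≠ 1 → ∃ n, cj n F2 = F2 ∧ s = n * z * n⁻¹
  inv : ∀ k, k * z = z * k → k * k = 1 → k ∈ F1 ∨ k ∈ F2
  pg : ∀ g, g * z = z * g → ∃ n, g ^ (2 ^ n) = 1
  int : 4 ≤ Nat.card (F1 ⊓ F2 : Subgroup M)
  ord : ∀ w, cj w F1 = F1 → orderOf w ≠ 15

variable {z : M} {F1 F2 : Subgroup M}

/-- `e` is a nontrivial common element -/
def Inc (F L : Subgroup M) : Prop := ∃ e, e ≠ 1 ∧ e ∈ F ∧ e ∈ L

namespace Hyp

variable (h : Hyp z F1 F2)
include h

theorem rep1 {s g : M} (hs : s ≠ 1) (hg : s ∈ cj g F1) : ∃ a, s = a * z * a⁻¹ ∧ cj a F1 = cj g F1 := by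
  have h1 := mem_cj.mp hg
  obtain ⟨n, hn, hn2⟩ := h.tr1 _ h1 (by
    intro h2
    apply hs
    have : s = g * (g⁻¹ * s * g) * g⁻¹ := by group
    rw [this, h2]; group)
  refine ⟨g * n, ?_, ?_⟩
  · have : s = g * (g⁻¹ * s * g) * g⁻¹ := by group
    rw [this, hn2]; group
  · rw [cj_mul, hn]

theorem rep2 {s g : M} (hs : s ≠ 1) (hg : s ∈ cj g F2) : ∃ a, s = a * z * a⁻¹ ∧ cj a F2 = cj g F2 := by
  have h1 := mem_cj.mp hg
  obtain ⟨n, hn, hn2⟩ := h.tr2 _ h1 (by
    intro h2
    apply hs
    have : s = g * (g⁻¹ * s * g) * g⁻¹ := by group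
    rw [this, h2]; group)
  refine ⟨g * n, ?_, ?_⟩
  · have : s = g * (g⁻¹ * s * g) * g⁻¹ := by group
    rw [this, hn2]; group
  · rw [cj_mul, hn]

theorem same {a b : M} (hab : a * z * a⁻¹ = b * z * b⁻¹) : cj a F1 = cj b F1 ∧ cj a F2 = cj b F2 := by
  have hc : (a⁻¹ * b) * z = z * (a⁻¹ * b) := by
    have : b * z = a * z * a⁻¹ * b := by rw [hab]; group
    calc (a⁻¹ * b) * z = a⁻¹ * (b * z) := by group
      _ = a⁻¹ * (a * z * a⁻¹ * b) := by rw [this]
      _ = z * (a⁻¹ * b) := by group
  constructor
  · have := h.nor1 _ hc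
    have h2 : cj b F1 = cj a (cj (a⁻¹ * b) F1) := by rw [← cj_mul]; congr 1; group
    rw [h2, this]
  · have := h.nor2 _ hc
    have h2 : cj b F2 = cj a (cj (a⁻¹ * b) F2) := by rw [← cj_mul]; congr 1; group
    rw [h2, this]

theorem uniq1 {s g g' : M} (hs : s ≠ 1) (hg : s ∈ cj g F1) (hg' : s ∈ cj g' F1) :
    cj g F1 = cj g' F1 := by
  obtain ⟨a, ha, ha'⟩ := h.rep1 hs hg
  obtain ⟨b, hb, hb'⟩ := h.rep1 hs hg'
  rw [← ha', ← hb']
  exact (h.same (ha ▸ hb)).1

theorem uniq2 {s g g' : M} (hs : s ≠ 1) (hg : s ∈ cj g F2) (hg' : s ∈ cj g' F2) :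
    cj g F2 = cj g' F2 := by
  obtain ⟨a, ha, ha'⟩ := h.rep2 hs hg
  obtain ⟨b, hb, hb'⟩ := h.rep2 hs hg'
  rw [← ha', ← hb']
  exact (h.same (ha ▸ hb)).2

theorem z_mem_cj1 (a : M) : a * z * a⁻¹ ∈ cj a F1 := conj_mem_cj h.z1
theorem z_mem_cj2 (a : M) : a * z * a⁻¹ ∈ cj a F2 := conj_mem_cj h.z2

theorem conj_ne_one (a : M) : a * z * a⁻¹ ≠ 1 := by
  intro h1
  apply h.zne
  have : z = a⁻¹ * (a * z * a⁻¹) * a := by group
  rw [this, h1]; group

/-- an involution commuting with a nontrivial element of a point: the point is on the line of the involution -/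
theorem lemB {k s g : M} (hk : k * k = 1) (hk1 : k ≠ 1) (hs : s ≠ 1) (hks : k * s = s * k)
    (hsg : s ∈ cj g F1) : ∃ a, k ∈ cj a F2 ∧ Inc (cj g F1) (cj a F2) := by
  obtain ⟨a, ha, ha'⟩ := h.rep1 hs hsg
  have hc : (a⁻¹ * k * a) * z = z * (a⁻¹ * k * a) := by
    have h1 : z = a⁻¹ * s * a := by rw [ha]; group
    rw [h1]
    calc (a⁻¹ * k * a) * (a⁻¹ * s * a) = a⁻¹ * (k * s) * a := by group
      _ = a⁻¹ * (s * k) * a := by rw [hks]
      _ = (a⁻¹ * s * a) * (a⁻¹ * k * a) := by group
  have hsq : (a⁻¹ * k * a) * (a⁻¹ * k * a) = 1 := by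
    calc (a⁻¹ * k * a) * (a⁻¹ * k * a) = a⁻¹ * (k * k) * a := by group
      _ = 1 := by rw [hk]; group
  rcases h.inv _ hc hsq with h1 | h1
  · have h2 : k ∈ cj g F1 := by rw [← ha']; exact mem_cj.mpr h1
    obtain ⟨b, hb, hb'⟩ := h.rep1 hk1 h2
    refine ⟨b, ?_, k, hk1, h2, ?_⟩
    · rw [hb]; exact h.z_mem_cj2 b
    · rw [hb]; exact h.z_mem_cj2 b
  · refine ⟨a, mem_cj.mpr h1, s, hs, hsg, ?_⟩
    rw [ha]; exact h.z_mem_cj2 a

theorem sq_of_mem {s g : M} (hs : s ∈ cj g F1) : s * s = 1 := by
  have h1 := h.sq1 _ (mem_cj.mp hs)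
  have h2 : s * s = g * ((g⁻¹ * s * g) * (g⁻¹ * s * g)) * g⁻¹ := by group
  rw [h2, h1]; group

theorem comm_of_mem {s s' g : M} (hs : s ∈ cj g F1) (hs' : s' ∈ cj g F1) : s * s' = s' * s := by
  have h1 := h.sq_of_mem hs
  have h2 := h.sq_of_mem hs'
  have h3 := h.sq_of_mem ((cj g F1).mul_mem hs hs')
  have h4 : s⁻¹ = s := inv_eq_of_mul_eq_one_right h1
  have h5 : s'⁻¹ = s' := inv_eq_of_mul_eq_one_right h2
  have h6 : (s * s')⁻¹ = s * s' := inv_eq_of_mul_eq_one_right h3
  rw [← h6, mul_inv_rev, h4, h5]

theorem lemA {k g : M} (hk : k * k = 1) (hk1 : k ≠ 1) (hn : cj k (cj g F1) = cj g F1) :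
    ∃ a, k ∈ cj a F2 ∧ Inc (cj g F1) (cj a F2) := by
  have hkinv : k⁻¹ = k := inv_eq_of_mul_eq_one_right hk
  set s := g * z * g⁻¹ with hs
  have hs1 : s ≠ 1 := h.conj_ne_one g
  have hsm : s ∈ cj g F1 := h.z_mem_cj1 g
  have hs' : k * s * k⁻¹ ∈ cj g F1 := by
    have := conj_mem_cj (g := k) hsm
    rwa [hn] at this
  by_cases hc : k * s = s * k
  · exact h.lemB hk hk1 hs1 hc hsm
  · refine h.lemB (s := s * (k * s * k⁻¹)) hk hk1 ?_ ?_ ((cj g F1).mul_mem hsm hs')
    · intro h1
      apply hc
      have h2 : s⁻¹ = k * s * k⁻¹ := inv_eq_of_mul_eq_one_right h1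
      have h3 : s⁻¹ = s := inv_eq_of_mul_eq_one_right (h.sq_of_mem hsm)
      rw [h3] at h2
      have h4 : s * k = k * s := by
        conv_lhs => rw [h2]
        group
      exact h4.symm
    · have h1 := h.comm_of_mem hsm hs'
      have h2 : k * (s * (k * s * k⁻¹)) = (k * s * k⁻¹) * (k * k) * s * k⁻¹ := by group
      rw [h2, hk, hkinv, mul_one]
      have h3 : s * (k * s * k) * k = s * k * s * (k * k) := by group
      rw [h3, hk, mul_one]
      have h4 : k * s * k * s * k = (k * s * k⁻¹) * s * k := by rw [hkinv]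
      rw [h4, ← h1, hkinv]
      have h5 : s * (k * s * k) * k = s * k * s * (k * k) := by group
      rw [h5, hk, mul_one]


theorem inc_card {g a : M} (hi : Inc (cj g F1) (cj a F2)) :
    4 ≤ Nat.card (cj g F1 ⊓ cj a F2 : Subgroup M) := by
  obtain ⟨e, he, heg, hea⟩ := hi
  obtain ⟨b, hb, hb'⟩ := h.rep1 he heg
  have h1 : cj b F2 = cj a F2 := by
    refine h.uniq2 he ?_ hea
    rw [hb]; exact h.z_mem_cj2 b
  rw [← hb', ← h1, ← cj_inf, card_cj]
  exact h.int

omit h in
theorem dihedral [Finite M] {s s' : M} (hs : s * s = 1) (hs' : s' * s' = 1)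
    (hno : ∀ k, k * k = 1 → k ≠ 1 → k * s = s * k → k * s' = s' * k → False) :
    ∃ d, d * d = 1 ∧ d * s * d⁻¹ = s' := by
  have hsi : s⁻¹ = s := inv_eq_of_mul_eq_one_right hs
  have hsi' : s'⁻¹ = s' := inv_eq_of_mul_eq_one_right hs'
  set w := s * s' with hw
  have hinv : s * w * s⁻¹ = w⁻¹ := by
    rw [hw, mul_inv_rev, hsi, hsi', ← mul_assoc, hs, one_mul]
  have hinv' : s' * w * s'⁻¹ = w⁻¹ := by
    rw [hw, mul_inv_rev, hsi', hsi]
    rw [mul_assoc, mul_assoc, hs', mul_one]
  have hpow : ∀ j, s * w ^ j * s⁻¹ = (w ^ j)⁻¹ := by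
    intro j
    rw [← conj_pow, hinv, inv_pow]
  have hpow' : ∀ j, s' * w ^ j * s'⁻¹ = (w ^ j)⁻¹ := by
    intro j
    rw [← conj_pow, hinv', inv_pow]
  have hodd : Odd (orderOf w) := by
    by_contra hne
    rw [Nat.not_odd_iff_even] at hne
    obtain ⟨m, hm⟩ := hne
    have hpos : 0 < orderOf w := orderOf_pos w
    have hkk : w ^ m * w ^ m = 1 := by rw [← pow_add, ← hm, pow_orderOf_eq_one]
    have hki : (w ^ m)⁻¹ = w ^ m := inv_eq_of_mul_eq_one_right hkk
    refine hno (w ^ m) hkk ?_ ?_ ?_
    · intro h1
      have := orderOf_dvd_of_pow_eq_one h1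
      have := Nat.le_of_dvd (by omega) this
      omega
    · have := hpow m
      rw [hki] at this
      exact (mul_inv_eq_iff_eq_mul.mp this).symm
    · have := hpow' m
      rw [hki] at this
      exact (mul_inv_eq_iff_eq_mul.mp this).symm
  obtain ⟨m, hm⟩ := hodd
  have hd : (s * w ^ (m + 1)) * (s * w ^ (m + 1)) = 1 := by
    have := hpow (m + 1)
    rw [hsi] at this
    rw [← mul_assoc, this, inv_mul_cancel]
  refine ⟨s * w ^ (m + 1), hd, ?_⟩
  have hdi : (s * w ^ (m + 1))⁻¹ = s * w ^ (m + 1) := inv_eq_of_mul_eq_one_right hd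
  rw [hdi]
  have h1 : s * w ^ (m + 1) * s * (s * w ^ (m + 1)) = s * w ^ (m + 1) * (s * s) * w ^ (m + 1) := by group
  rw [h1, hs, mul_one, mul_assoc, ← pow_add]
  have h2 : m + 1 + (m + 1) = orderOf w + 1 := by omega
  rw [h2, pow_succ, pow_orderOf_eq_one, one_mul, hw, ← mul_assoc, hs, one_mul]

omit h in
theorem card_ne_one [Finite M] (F : Subgroup M) : Nat.card {s : M // s ∈ F ∧ s ≠ 1} = Nat.card F - 1 := by
  classical
  have e : {s : M // s ∈ F ∧ s ≠ 1} ≃ {s : F // s ≠ 1} :=
    { toFun := fun s => ⟨⟨s.1, s.2.1⟩, fun h1 => s.2.2 (congrArg Subtype.val h1)⟩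
      invFun := fun s => ⟨s.1.1, s.1.2, fun h1 => s.2 (Subtype.ext h1)⟩
      left_inv := fun s => rfl
      right_inv := fun s => rfl }
  rw [Nat.card_congr e]
  have : Fintype F := Fintype.ofFinite _
  rw [Nat.card_eq_fintype_card, Nat.card_eq_fintype_card]
  rw [Fintype.card_subtype_compl, Fintype.card_subtype_eq]

theorem collinear [Finite M] {g g' : M} (hne : cj g F1 ≠ cj g' F1) :
    ∃ a, Inc (cj g F1) (cj a F2) ∧ Inc (cj g' F1) (cj a F2) := by
  classical
  by_contra hno
  push Not at hno
  have key : ∀ k, k * k = 1 → k ≠ 1 → ∀ s ∈ cj g F1, s ≠ 1 → ∀ s' ∈ cj g' F1, s' ≠ 1 →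
      k * s = s * k → k * s' = s' * k → False := by
    intro k hk hk1 s hs hs1 s' hs' hs1' hc hc'
    obtain ⟨a, ha, hi⟩ := h.lemB hk hk1 hs1 hc hs
    obtain ⟨b, hb, hi'⟩ := h.lemB hk hk1 hs1' hc' hs'
    exact hno a hi ((h.uniq2 hk1 ha hb) ▸ hi')
  have keyA : ∀ k, k * k = 1 → k ≠ 1 → cj k (cj g F1) = cj g F1 → cj k (cj g' F1) = cj g' F1 → False := by
    intro k hk hk1 hc hc'
    obtain ⟨a, ha, hi⟩ := h.lemA hk hk1 hc
    obtain ⟨b, hb, hi'⟩ := h.lemA hk hk1 hc'
    exact hno a hi ((h.uniq2 hk1 ha hb) ▸ hi')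
  set s0 := g * z * g⁻¹ with hs0
  have hs0m : s0 ∈ cj g F1 := h.z_mem_cj1 g
  have hs01 : s0 ≠ 1 := h.conj_ne_one g
  have hd : ∀ s' : {s : M // s ∈ cj g' F1 ∧ s ≠ 1}, ∃ d : M, d * d = 1 ∧ d * s0 * d⁻¹ = s'.1 := by
    rintro ⟨s', hs', hs1'⟩
    exact dihedral (h.sq_of_mem hs0m) (h.sq_of_mem hs')
      (fun k hk hk1 hc hc' => key k hk hk1 s0 hs0m hs01 s' hs' hs1' hc hc')
  choose d hd1 hd2 using hd
  have hdF : ∀ s', cj (d s') (cj g F1) = cj g' F1 := by
    intro s'
    rw [← cj_mul]
    refine h.uniq1 s'.2.2 ?_ s'.2.1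
    rw [← hd2 s', cj_mul]
    exact conj_mem_cj hs0m
  have hdF' : ∀ s', cj (d s') (cj g' F1) = cj g F1 := by
    intro s'
    rw [← hdF s', ← cj_mul, hd1, cj_one]
  set W : Subgroup M := Nm (cj g F1) ⊓ Nm (cj g' F1) with hW
  have hWinv : ∀ k ∈ W, k * k = 1 → k = 1 := by
    intro k hk hkk
    by_contra hk1
    exact keyA k hkk hk1 hk.1 hk.2
  have hfree : ∀ w ∈ W, w * s0 = s0 * w → w = 1 := by
    intro w hw hc
    have hc' : (g⁻¹ * w * g) * z = z * (g⁻¹ * w * g) := by
      have h1 : z = g⁻¹ * s0 * g := by rw [hs0]; group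
      rw [h1]
      calc (g⁻¹ * w * g) * (g⁻¹ * s0 * g) = g⁻¹ * (w * s0) * g := by group
        _ = g⁻¹ * (s0 * w) * g := by rw [hc]
        _ = (g⁻¹ * s0 * g) * (g⁻¹ * w * g) := by group
    obtain ⟨n, hn⟩ := h.pg _ hc'
    have hn' : w ^ (2 ^ n) = 1 := by
      have h1 : (g⁻¹ * w * g) ^ (2 ^ n) = g⁻¹ * w ^ (2 ^ n) * g := by
        have := conj_pow (i := 2 ^ n) (a := g⁻¹) (b := w)
        rwa [inv_inv] at this
      rw [h1] at hn
      have h2 : w ^ (2 ^ n) = g * (g⁻¹ * w ^ (2 ^ n) * g) * g⁻¹ := by group
      rw [h2, hn]; group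
    clear hn
    induction n with
    | zero => simpa using hn'
    | succ n ih =>
      apply ih
      refine hWinv _ (W.pow_mem hw _) ?_
      rw [← pow_add, ← two_mul, ← pow_succ']
      exact hn'
  let s1 : {s : M // s ∈ cj g' F1 ∧ s ≠ 1} := ⟨g' * z * g'⁻¹, h.z_mem_cj1 g', h.conj_ne_one g'⟩
  set d0 := d s1 with hd0
  have hd0i : d0⁻¹ = d0 := inv_eq_of_mul_eq_one_right (hd1 s1)
  let φ : {s : M // s ∈ cj g' F1 ∧ s ≠ 1} → W := fun s' => ⟨d0⁻¹ * d s', by
    constructor
    · show cj (d0⁻¹ * d s') (cj g F1) = cj g F1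
      rw [cj_mul, hdF, hd0i, hd0, hdF']
    · show cj (d0⁻¹ * d s') (cj g' F1) = cj g' F1
      rw [cj_mul, hdF', hd0i, hd0, hdF]⟩
  have hφ : Function.Injective φ := by
    intro s' s'' he
    have h1 : d0⁻¹ * d s' = d0⁻¹ * d s'' := congrArg Subtype.val he
    have h2 : d s' = d s'' := mul_left_cancel h1
    apply Subtype.ext
    rw [← hd2 s', ← hd2 s'', h2]
  let ψ : W → {s : M // s ∈ cj g F1 ∧ s ≠ 1} := fun w => ⟨w.1 * s0 * w.1⁻¹, by
      have := conj_mem_cj (g := w.1) hs0m
      rwa [show cj w.1 (cj g F1) = cj g F1 from w.2.1] at this, by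
      intro h1
      apply hs01
      have : s0 = w.1⁻¹ * (w.1 * s0 * w.1⁻¹) * w.1 := by group
      rw [this, h1]; group⟩
  have hψ : Function.Injective ψ := by
    intro w w' he
    have h1 : w.1 * s0 * w.1⁻¹ = w'.1 * s0 * w'.1⁻¹ := congrArg Subtype.val he
    have h2 := hfree (w.1⁻¹ * w'.1) (W.mul_mem (W.inv_mem w.2) w'.2) (by
      calc w.1⁻¹ * w'.1 * s0 = w.1⁻¹ * (w'.1 * s0 * w'.1⁻¹) * w'.1 := by group
        _ = w.1⁻¹ * (w.1 * s0 * w.1⁻¹) * w'.1 := by rw [h1]
        _ = s0 * (w.1⁻¹ * w'.1) := by group)
    apply Subtype.ext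
    exact (inv_mul_eq_one.mp h2)
  have hcA : ∀ a : M, Nat.card {s : M // s ∈ cj a F1 ∧ s ≠ 1} = 15 := by
    intro a
    rw [card_ne_one, card_cj, h.card1]
  have hW1 : 15 ≤ Nat.card W := by
    rw [← hcA g']; exact Nat.card_le_card_of_injective φ hφ
  have hW2 : Nat.card W ≤ 15 := by
    rw [← hcA g]; exact Nat.card_le_card_of_injective ψ hψ
  have hW3 : Nat.card W = 15 := le_antisymm hW2 hW1
  have hbij : Function.Bijective φ := by
    have : Fintype W := Fintype.ofFinite _
    have : Fintype {s : M // s ∈ cj g' F1 ∧ s ≠ 1} := Fintype.ofFinite _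
    rw [Fintype.bijective_iff_injective_and_card]
    refine ⟨hφ, ?_⟩
    rw [← Nat.card_eq_fintype_card, ← Nat.card_eq_fintype_card, hW3, hcA]
  have hinvW : ∀ w ∈ W, d0 * w * d0⁻¹ = w⁻¹ := by
    intro w hw
    obtain ⟨s', hs'⟩ := hbij.2 ⟨w, hw⟩
    have h1 : d0⁻¹ * d s' = w := congrArg Subtype.val hs'
    have h2 : d0 * w = d s' := by rw [← h1]; group
    have h3 : (d0 * w) * (d0 * w) = 1 := by rw [h2]; exact hd1 s'
    rw [hd0i]
    rw [← mul_assoc] at h3
    exact eq_inv_of_mul_eq_one_left h3
  have hcomm : ∀ w ∈ W, ∀ w' ∈ W, w * w' = w' * w := by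
    intro w hw w' hw'
    have h1 := hinvW _ (W.mul_mem hw hw')
    have h2 : d0 * (w * w') * d0⁻¹ = (d0 * w * d0⁻¹) * (d0 * w' * d0⁻¹) := by group
    rw [h2, hinvW w hw, hinvW w' hw', ← mul_inv_rev] at h1
    exact (inv_injective h1).symm
  have : Fact (Nat.Prime 3) := ⟨Nat.prime_three⟩
  have : Fact (Nat.Prime 5) := ⟨Nat.prime_five⟩
  obtain ⟨w3, hw3⟩ := exists_prime_orderOf_dvd_card' (G := W) 3 (by rw [hW3]; norm_num)
  obtain ⟨w5, hw5⟩ := exists_prime_orderOf_dvd_card' (G := W) 5 (by rw [hW3]; norm_num)
  have hc35 : Commute w3 w5 := Subtype.ext (hcomm w3.1 w3.2 w5.1 w5.2)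
  have ho : orderOf (w3 * w5) = 15 := by
    rw [hc35.orderOf_mul_eq_mul_orderOf_of_coprime (by rw [hw3, hw5]; norm_num), hw3, hw5]
  set w : M := ((w3 * w5 : W) : M) with hw
  have ho' : orderOf w = 15 := by rw [hw, Subgroup.orderOf_coe, ho]
  have hwW : cj w (cj g F1) = cj g F1 := (w3 * w5).2.1
  apply h.ord (g⁻¹ * w * g)
  · apply cj_inj (g := g)
    rw [← cj_mul, ← hwW, ← cj_mul]
    congr 1
    group
  · have h1 : g⁻¹ * w * g = (MulAut.conj g⁻¹) w := by simp only [_root_.map_inv, _root_.MulAut.inv_apply, _root_.MulAut.conj_symm_apply]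
    rw [h1, ← ho']
    exact orderOf_injective (MulAut.conj g⁻¹).toMonoidHom (MulAut.conj g⁻¹).injective w


/-- there are at most 25 points -/
theorem card_points [Finite M] : Nat.card (Set.range fun g : M => cj g F1) ≤ 25 := by
  classical
  set P := Set.range fun g : M => cj g F1 with hP
  have hfin : Finite P := Set.finite_range _
  -- a line through F1 and p
  have hline : ∀ p : P, ∃ a : M, 4 ≤ Nat.card (F1 ⊓ cj a F2 : Subgroup M) ∧
      4 ≤ Nat.card (p.1 ⊓ cj a F2 : Subgroup M) := by
    rintro ⟨p, g, rfl⟩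
    by_cases hpe : cj g F1 = F1
    · refine ⟨1, ?_, ?_⟩
      · rw [cj_one]; exact h.int
      · show 4 ≤ Nat.card (cj g F1 ⊓ cj 1 F2 : Subgroup M)
        rw [cj_one, hpe]; exact h.int
    · obtain ⟨a, ha, ha'⟩ := h.collinear (g := 1) (g' := g) (by rw [cj_one]; exact fun h1 => hpe h1.symm)
      refine ⟨a, ?_, h.inc_card ha'⟩
      have := h.inc_card ha
      rwa [cj_one] at this
  choose L hL1 hL2 using hline
  -- for s in F1#, an element a with s = a z a⁻¹
  have hrep : ∀ s : {s : M // s ∈ F1 ∧ s ≠ 1}, ∃ a, s.1 = a * z * a⁻¹ ∧ cj a F1 = F1 := by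
    intro s
    have := h.rep1 (s := s.1) (g := 1) s.2.2 (by rw [cj_one]; exact s.2.1)
    rwa [cj_one] at this
  choose A hA1 hA2 using hrep
  have hAm : ∀ s, s.1 ∈ cj (A s) F2 := by
    intro s
    have h1 := h.z_mem_cj2 (A s)
    rwa [← hA1 s] at h1
  let T := Σ s : {s : M // s ∈ F1 ∧ s ≠ 1}, {s' : M // s' ∈ cj (A s) F2 ∧ s' ≠ 1}
  have hT : Nat.card T = 225 := by
    have : Fintype {s : M // s ∈ F1 ∧ s ≠ 1} := Fintype.ofFinite _
    rw [Nat.card_sigma]
    have h1 : ∀ s : {s : M // s ∈ F1 ∧ s ≠ 1}, Nat.card {s' : M // s' ∈ cj (A s) F2 ∧ s' ≠ 1} = 15 := by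
      intro s
      rw [card_ne_one, card_cj, h.card2]
    simp only [h1, Finset.sum_const, smul_eq_mul]
    rw [Finset.card_univ, ← Nat.card_eq_fintype_card, card_ne_one, h.card1]
  let X : P → Type _ := fun p =>
    {s : M // s ∈ (F1 ⊓ cj (L p) F2 : Subgroup M) ∧ s ≠ 1} × {s : M // s ∈ (p.1 ⊓ cj (L p) F2 : Subgroup M) ∧ s ≠ 1}
  have hX : ∀ p, 9 ≤ Nat.card (X p) := by
    intro p
    show 9 ≤ Nat.card (_ × _)
    rw [Nat.card_prod, card_ne_one, card_ne_one]
    have h1 := hL1 p
    have h2 := hL2 p
    calc 9 = 3 * 3 := by norm_num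
      _ ≤ _ := Nat.mul_le_mul (by omega) (by omega)
  let Φ : (Σ p : P, X p) → T := fun q =>
    ⟨⟨q.2.1.1, q.2.1.2.1.1, q.2.1.2.2⟩, ⟨q.2.2.1, by
      have h1 : q.2.1.1 ∈ cj (A ⟨q.2.1.1, q.2.1.2.1.1, q.2.1.2.2⟩) F2 := hAm ⟨q.2.1.1, q.2.1.2.1.1, q.2.1.2.2⟩
      have h2 := h.uniq2 q.2.1.2.2 h1 q.2.1.2.1.2
      rw [h2]
      exact q.2.2.2.1.2, q.2.2.2.2⟩⟩
  have hΦ : Function.Injective Φ := by
    rintro ⟨⟨p, g, rfl⟩, ⟨⟨s, hs⟩, ⟨s', hs'⟩⟩⟩ ⟨⟨p2, g2, rfl⟩, ⟨⟨s2, hs2⟩, ⟨s2', hs2'⟩⟩⟩ he
    have h1 : s = s2 := congrArg (fun t : T => t.1.1) he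
    have h2 : s' = s2' := congrArg (fun t : T => t.2.1) he
    subst h1 h2
    have h3 : cj g F1 = cj g2 F1 := h.uniq1 hs'.2 hs'.1.1 hs2'.1.1
    have h4 : (⟨(fun g : M => cj g F1) g, g, rfl⟩ : P) = ⟨(fun g : M => cj g F1) g2, g2, rfl⟩ := Subtype.ext h3
    have key : ∀ (q q' : P) (hq : q = q') (a : M) (ha : a ∈ (F1 ⊓ cj (L q) F2 : Subgroup M) ∧ a ≠ 1)
        (ha' : a ∈ (F1 ⊓ cj (L q') F2 : Subgroup M) ∧ a ≠ 1) (b : M)
        (hb : b ∈ (q.1 ⊓ cj (L q) F2 : Subgroup M) ∧ b ≠ 1)
        (hb' : b ∈ (q'.1 ⊓ cj (L q') F2 : Subgroup M) ∧ b ≠ 1),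
        (⟨q, (⟨a, ha⟩, ⟨b, hb⟩)⟩ : Σ p : P, X p) = ⟨q', (⟨a, ha'⟩, ⟨b, hb'⟩)⟩ := by
      intro q q' hq a ha ha' b hb hb'
      subst hq
      rfl
    exact key _ _ h4 _ _ _ _ _ _
  have h5 : Nat.card (Σ p : P, X p) ≤ 225 := by
    rw [← hT]; exact Nat.card_le_card_of_injective Φ hΦ
  have : Fintype P := Fintype.ofFinite _
  rw [Nat.card_sigma] at h5
  have h6 : Nat.card P * 9 ≤ ∑ p : P, Nat.card (X p) := by
    calc Nat.card P * 9 = ∑ _p : P, 9 := by
          rw [Finset.sum_const, smul_eq_mul, Finset.card_univ, Nat.card_eq_fintype_card]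
      _ ≤ _ := Finset.sum_le_sum fun p _ => hX p
  omega

/-- `F2` is transitive on the points off the line `F2` -/
theorem off_trans [Finite M] {g g' : M} (hg : ¬ Inc (cj g F1) F2) (hg' : ¬ Inc (cj g' F1) F2) :
    ∃ v ∈ F2, cj (v * g) F1 = cj g' F1 := by
  classical
  by_contra hno
  push Not at hno
  set P := Set.range fun g : M => cj g F1 with hP
  have hfin : Finite P := Set.finite_range _
  have hfree : ∀ a : M, ¬ Inc (cj a F1) F2 → ∀ v ∈ F2, ∀ v' ∈ F2, cj (v * a) F1 = cj (v' * a) F1 → v = v' := by
    intro a ha v hv v' hv' he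
    by_contra hne
    have h1 : v⁻¹ * v' ∈ F2 := F2.mul_mem (F2.inv_mem hv) hv'
    have h2 : v⁻¹ * v' ≠ 1 := fun h2 => hne (inv_mul_eq_one.mp h2)
    have h3 : cj (v⁻¹ * v') (cj a F1) = cj a F1 := by
      rw [cj_mul, ← cj_mul v', ← he, ← cj_mul, ← mul_assoc, inv_mul_cancel, one_mul]
    obtain ⟨b, hb, hi⟩ := h.lemA (h.sq2 _ h1) h2 h3
    have h4 : cj b F2 = F2 := by
      have := h.uniq2 (g := b) (g' := 1) h2 hb (by rw [cj_one]; exact h1)
      rwa [cj_one] at this
    rw [h4] at hi
    exact ha hi
  let Φ : F2 ⊕ F2 → P := fun q => Sum.elim (fun v => ⟨cj (v.1 * g) F1, _, rfl⟩) (fun v => ⟨cj (v.1 * g') F1, _, rfl⟩) q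
  have hΦ : Function.Injective Φ := by
    have hcross : ∀ v ∈ F2, ∀ v' ∈ F2, cj (v * g) F1 ≠ cj (v' * g') F1 := by
      intro v hv v' hv' he
      refine hno (v'⁻¹ * v) (F2.mul_mem (F2.inv_mem hv') hv) ?_
      rw [mul_assoc, cj_mul, he, ← cj_mul, ← mul_assoc, inv_mul_cancel, one_mul]
    rintro (⟨v, hv⟩ | ⟨v, hv⟩) (⟨v', hv'⟩ | ⟨v', hv'⟩) he
    · have h1 : cj (v * g) F1 = cj (v' * g) F1 := congrArg Subtype.val he
      exact congrArg Sum.inl (Subtype.ext (hfree g hg v hv v' hv' h1))
    · exact absurd (congrArg Subtype.val he) (hcross v hv v' hv')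
    · exact absurd (congrArg Subtype.val he).symm (hcross v' hv' v hv)
    · have h1 : cj (v * g') F1 = cj (v' * g') F1 := congrArg Subtype.val he
      exact congrArg Sum.inr (Subtype.ext (hfree g' hg' v hv v' hv' h1))
  have h1 := Nat.card_le_card_of_injective Φ hΦ
  rw [Nat.card_sum, h.card2] at h1
  have h2 : Nat.card P ≤ 25 := h.card_points
  omega

end Hyp

end Cfsg.Agent.LargeExtra.PlaneOff
end

-- part: LargeExtra/ElemSixteen
section
/-!
Subgroups generated by four commuting involutions, in coordinates.
-/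

set_option autoImplicit false
set_option linter.unusedSectionVars false

namespace Cfsg.Agent.LargeExtra.ElemSixteen

variable {M : Type*} [Group M]

/-- `e` or `1` -/
def bp (e : M) (i : Bool) : M := bif i then e else 1

theorem bp_mul {e : M} (he : e * e = 1) (i j : Bool) : bp e i * bp e j = bp e (xor i j) := by
  cases i <;> cases j <;> simp [bp, he]

theorem bp_comm {e f : M} (h : e * f = f * e) (i j : Bool) : bp e i * bp f j = bp f j * bp e i := by
  cases i <;> cases j <;> simp [bp, h]

/-- four commuting involutions -/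
structure Four (e0 e1 e2 e3 : M) : Prop where
  s0 : e0 * e0 = 1
  s1 : e1 * e1 = 1
  s2 : e2 * e2 = 1
  s3 : e3 * e3 = 1
  c10 : e1 * e0 = e0 * e1
  c20 : e2 * e0 = e0 * e2
  c30 : e3 * e0 = e0 * e3
  c21 : e2 * e1 = e1 * e2
  c31 : e3 * e1 = e1 * e3
  c32 : e3 * e2 = e2 * e3

def E (e0 e1 e2 e3 : M) (n : ℕ) : M :=
  bp e0 (n.testBit 0) * bp e1 (n.testBit 1) * bp e2 (n.testBit 2) * bp e3 (n.testBit 3)

variable {e0 e1 e2 e3 : M}

theorem Four.E_mul (h : Four e0 e1 e2 e3) (m n : ℕ) :
    E e0 e1 e2 e3 m * E e0 e1 e2 e3 n = E e0 e1 e2 e3 (m ^^^ n) := by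
  unfold E
  rw [Nat.testBit_xor, Nat.testBit_xor, Nat.testBit_xor, Nat.testBit_xor,
    ← bp_mul h.s0, ← bp_mul h.s1, ← bp_mul h.s2, ← bp_mul h.s3]
  have k10 := bp_comm h.c10 (m.testBit 1) (n.testBit 0)
  have k20 := bp_comm h.c20 (m.testBit 2) (n.testBit 0)
  have k30 := bp_comm h.c30 (m.testBit 3) (n.testBit 0)
  have k21 := bp_comm h.c21 (m.testBit 2) (n.testBit 1)
  have k31 := bp_comm h.c31 (m.testBit 3) (n.testBit 1)
  have k32 := bp_comm h.c32 (m.testBit 3) (n.testBit 2)
  generalize bp e0 (m.testBit 0) = a0 at *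
  generalize bp e1 (m.testBit 1) = a1 at *
  generalize bp e2 (m.testBit 2) = a2 at *
  generalize bp e3 (m.testBit 3) = a3 at *
  generalize bp e0 (n.testBit 0) = b0 at *
  generalize bp e1 (n.testBit 1) = b1 at *
  generalize bp e2 (n.testBit 2) = b2 at *
  generalize bp e3 (n.testBit 3) = b3 at *
  calc a0 * a1 * a2 * a3 * (b0 * b1 * b2 * b3) = a0 * a1 * a2 * (a3 * b0) * b1 * b2 * b3 := by group
    _ = a0 * a1 * (a2 * b0) * a3 * b1 * b2 * b3 := by rw [k30]; group
    _ = a0 * (a1 * b0) * a2 * a3 * b1 * b2 * b3 := by rw [k20]; group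
    _ = a0 * b0 * a1 * a2 * (a3 * b1) * b2 * b3 := by rw [k10]; group
    _ = a0 * b0 * a1 * (a2 * b1) * a3 * b2 * b3 := by rw [k31]; group
    _ = a0 * b0 * a1 * b1 * a2 * (a3 * b2) * b3 := by rw [k21]; group
    _ = a0 * b0 * (a1 * b1) * (a2 * b2) * (a3 * b3) := by rw [k32]; group

theorem E_zero : E e0 e1 e2 e3 0 = 1 := by simp [E, bp]
theorem E_one : E e0 e1 e2 e3 1 = e0 := by simp [E, bp, Nat.testBit]
theorem E_two : E e0 e1 e2 e3 2 = e1 := by simp [E, bp, Nat.testBit]
theorem E_four : E e0 e1 e2 e3 4 = e2 := by simp [E, bp, Nat.testBit]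
theorem E_eight : E e0 e1 e2 e3 8 = e3 := by simp [E, bp, Nat.testBit]

theorem E_mod (n : ℕ) : E e0 e1 e2 e3 (n % 16) = E e0 e1 e2 e3 n := by
  unfold E
  have h : ∀ i, i < 4 → (n % 16).testBit i = n.testBit i := by
    intro i hi
    rw [show (16 : ℕ) = 2 ^ 4 by norm_num, Nat.testBit_mod_two_pow]
    simp [hi]
  rw [h 0 (by norm_num), h 1 (by norm_num), h 2 (by norm_num), h 3 (by norm_num)]

/-- the subgroup generated by four commuting involutions -/
def Four.F (h : Four e0 e1 e2 e3) : Subgroup M where
  carrier := {g | ∃ n, n < 16 ∧ g = E e0 e1 e2 e3 n}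
  one_mem' := ⟨0, by norm_num, E_zero.symm⟩
  mul_mem' := by
    rintro a b ⟨m, hm, rfl⟩ ⟨n, hn, rfl⟩
    exact ⟨(m ^^^ n) % 16, Nat.mod_lt _ (by norm_num), by rw [h.E_mul, E_mod]⟩
  inv_mem' := by
    rintro a ⟨m, hm, rfl⟩
    refine ⟨m, hm, inv_eq_of_mul_eq_one_right ?_⟩
    rw [h.E_mul, Nat.xor_self, E_zero]

theorem Four.mem_F (h : Four e0 e1 e2 e3) {g : M} : g ∈ h.F ↔ ∃ n, n < 16 ∧ g = E e0 e1 e2 e3 n := Iff.rfl

theorem Four.E_mem (h : Four e0 e1 e2 e3) (n : ℕ) : E e0 e1 e2 e3 n ∈ h.F :=
  ⟨n % 16, Nat.mod_lt _ (by norm_num), (E_mod n).symm⟩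

theorem Four.sq (h : Four e0 e1 e2 e3) : ∀ s ∈ h.F, s * s = 1 := by
  rintro s ⟨n, hn, rfl⟩
  rw [h.E_mul, Nat.xor_self, E_zero]

/-- linear map given by the images of the basis -/
def lin (c0 c1 c2 c3 n : ℕ) : ℕ :=
  (bif n.testBit 0 then c0 else 0) ^^^ (bif n.testBit 1 then c1 else 0) ^^^
    (bif n.testBit 2 then c2 else 0) ^^^ (bif n.testBit 3 then c3 else 0)

theorem Four.conj_E (h : Four e0 e1 e2 e3) {g : M} {c0 c1 c2 c3 : ℕ}
    (h0 : g⁻¹ * e0 * g = E e0 e1 e2 e3 c0) (h1 : g⁻¹ * e1 * g = E e0 e1 e2 e3 c1)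
    (h2 : g⁻¹ * e2 * g = E e0 e1 e2 e3 c2) (h3 : g⁻¹ * e3 * g = E e0 e1 e2 e3 c3) (n : ℕ) :
    g⁻¹ * E e0 e1 e2 e3 n * g = E e0 e1 e2 e3 (lin c0 c1 c2 c3 n) := by
  have key : ∀ (e : M) (c : ℕ) (i : Bool), g⁻¹ * e * g = E e0 e1 e2 e3 c →
      g⁻¹ * bp e i * g = E e0 e1 e2 e3 (bif i then c else 0) := by
    intro e c i he
    cases i
    · simp [bp, E_zero]
    · simpa only [bp, _root_.cond_true] using he
  have k0 := key e0 c0 (n.testBit 0) h0
  have k1 := key e1 c1 (n.testBit 1) h1
  have k2 := key e2 c2 (n.testBit 2) h2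
  have k3 := key e3 c3 (n.testBit 3) h3
  rw [lin, ← h.E_mul, ← h.E_mul, ← h.E_mul, ← k0, ← k1, ← k2, ← k3]
  conv_lhs => rw [E]
  group

/-- independence -/
def Indep (e0 e1 e2 e3 : M) : Prop := ∀ n, n < 16 → E e0 e1 e2 e3 n = 1 → n = 0

theorem Four.E_inj (h : Four e0 e1 e2 e3) (hi : Indep e0 e1 e2 e3) {m n : ℕ} (hm : m < 16) (hn : n < 16)
    (he : E e0 e1 e2 e3 m = E e0 e1 e2 e3 n) : m = n := by
  have h1 : E e0 e1 e2 e3 (m ^^^ n) = 1 := by
    rw [← h.E_mul, he, h.E_mul, Nat.xor_self, E_zero]
  have h2 := hi _ (Nat.xor_lt_two_pow (n := 4) hm hn) h1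
  exact Nat.xor_eq_zero_iff.mp h2

theorem Four.card_F (h : Four e0 e1 e2 e3) (hi : Indep e0 e1 e2 e3) : Nat.card h.F = 16 := by
  let φ : Fin 16 → h.F := fun n => ⟨E e0 e1 e2 e3 n.1, h.E_mem n.1⟩
  have hφ : Function.Bijective φ := by
    constructor
    · intro m n he
      exact Fin.ext (h.E_inj hi m.2 n.2 (congrArg Subtype.val he))
    · rintro ⟨g, n, hn, rfl⟩
      exact ⟨⟨n, hn⟩, rfl⟩
  rw [← Nat.card_congr (Equiv.ofBijective φ hφ), Nat.card_eq_fintype_card, Fintype.card_fin]

end Cfsg.Agent.LargeExtra.ElemSixteen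
end

-- part: LargeExtra/CertLoop
section
/-!
Supplement to the certified coset enumerations of `Cfsg.Agent.SporadicRecognition.CosetCert`: words which fix all
cosets of the certificate lie in all conjugates of the subgroup.
-/

set_option autoImplicit false
set_option linter.unusedSectionVars false

namespace Cfsg.Agent.LargeExtra.CertLoop

open Cfsg.Agent.SporadicRecognition.CosetCert

variable (C : Cert) {G : Type*} [Group G] (H : Subgroup G) (g : Nat → G)

/-- every live node is fixed by the word `w` -/
noncomputable def loopOK (τ : Nat) (w : List Nat) : Bool :=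
  Nat.blt τ C.mask && (w.all fun x => Nat.ble x C.k) &&
  (List.range C.N).all fun i => !(Nat.beq (look C i C.k) C.mask) || Nat.beq (walkS C τ w i) (i + 1)

theorem closure_covered_live (hyp : Hyp C H g) {n : Nat} (hP : _root_.Cfsg.Agent.SporadicRecognition.CosetCert.Part C 0 C.N n) :
    (∀ i x, i < C.N → x ≤ C.k → look C i x ≠ C.mask → Good C H g (_root_.Cfsg.Agent.SporadicRecognition.CosetCert.trans C g) i x) ∧
    ∀ a ∈ Subgroup.closure (g '' {x | x < C.k}), ∃ l, l < C.N ∧ look C l C.k = C.mask ∧
      _root_.Cfsg.Agent.SporadicRecognition.CosetCert.Rel H a (trans C g l) := by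
  obtain ⟨S, hS, hP⟩ := hP
  have ht := trans_isTrans C g
  have hall : ∀ i x, i < C.N → x ≤ C.k → look C i x = C.mask ∨ ∃ q, main C i x q = true := by
    intro i x hi hx
    rcases hP i (Nat.zero_le _) hi with ⟨h, _⟩ | h
    · rcases hx.lt_or_eq with h1 | h1
      · exact Or.inr (h.2 x h1)
      · subst h1; exact Or.inl h.1
    · rcases hx.lt_or_eq with h1 | h1
      · exact h.2.2 x h1
      · subst h1; exact Or.inr h.2.1
  have hgood := good_of_checks C H g (_root_.Cfsg.Agent.SporadicRecognition.CosetCert.trans C g) hyp ht hall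
  refine ⟨fun i x hi hx hne => ?_, ?_⟩
  · rcases hall i x hi hx with h | h
    · exact absurd h hne
    · exact hgood i x hi hx h
  have hlive : ∀ i, i < C.N → ∃ l, l < C.N ∧ LiveOK C l ∧ _root_.Cfsg.Agent.SporadicRecognition.CosetCert.Rel H (trans C g i) (trans C g l) := by
    intro i
    induction i using Nat.strong_induction_on with
    | _ i ih =>
      intro hi
      rcases hP i (Nat.zero_le _) hi with ⟨h, _⟩ | h
      · exact ⟨i, hi, h, Rel.refl _⟩
      · obtain ⟨h1, ⟨q, hq⟩, h3⟩ := h
        have hg := hgood i C.k hi le_rfl ⟨q, hq⟩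
        have hq' := hq
        unfold main at hq'
        obtain ⟨j, hj, _⟩ := rec_false_eq hq'
        obtain ⟨h4, h5⟩ := hg j hj
        rw [hyp.hk, mul_one] at h5
        obtain ⟨l, hlN, hl2, hl3⟩ := ih j (by omega) h4
        exact ⟨l, hlN, hl2, h5.trans hl3⟩
  have hmul : ∀ l, l < C.N → LiveOK C l → ∀ x, x < C.k → ∃ l', l' < C.N ∧ LiveOK C l' ∧
      _root_.Cfsg.Agent.SporadicRecognition.CosetCert.Rel H (trans C g l * g x) (trans C g l') := by
    intro l hl hl2 x hx
    obtain ⟨q, hq⟩ := hl2.2 x hx
    have hg := hgood l x hl hx.le ⟨q, hq⟩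
    have hq' := hq
    unfold main at hq'
    obtain ⟨j, hj, _⟩ := rec_false_eq hq'
    obtain ⟨h4, h5⟩ := hg j hj
    obtain ⟨l', h7, h8, h9⟩ := hlive j h4
    exact ⟨l', h7, h8, h5.trans h9⟩
  intro a ha
  have hmain : ∃ l, l < C.N ∧ LiveOK C l ∧ _root_.Cfsg.Agent.SporadicRecognition.CosetCert.Rel H a (trans C g l) := by
    refine Subgroup.closure_induction_right (p := fun a _ => ∃ l, l < C.N ∧ LiveOK C l ∧ _root_.Cfsg.Agent.SporadicRecognition.CosetCert.Rel H a (trans C g l))
      ?_ ?_ ?_ ha
    · obtain ⟨l, h2, h3, h4⟩ := hlive 0 hyp.hN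
      rw [ht.1] at h4
      exact ⟨l, h2, h3, h4⟩
    · rintro a _ b ⟨x, hx, rfl⟩ ⟨l, h2, h3, h4⟩
      obtain ⟨l', h6, h7, h8⟩ := hmul l h2 h3 x hx
      exact ⟨l', h6, h7, (h4.mul _).trans h8⟩
    · rintro a _ b ⟨x, hx, rfl⟩ ⟨l, h2, h3, h4⟩
      obtain ⟨hx1, hx2⟩ := hyp.hinv x hx
      have : (g x)⁻¹ = g (C.inv x) := (eq_inv_of_mul_eq_one_right hx2).symm
      rw [this]
      obtain ⟨l', h6, h7, h8⟩ := hmul l h2 h3 _ hx1
      exact ⟨l', h6, h7, (h4.mul _).trans h8⟩
  obtain ⟨l, h1, h2, h4⟩ := hmain
  exact ⟨l, h1, h2.1, h4⟩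

/-- a word fixing all cosets lies in all conjugates of `H` -/
theorem mem_of_loopOK (hyp : Hyp C H g) {n : Nat} (hP : _root_.Cfsg.Agent.SporadicRecognition.CosetCert.Part C 0 C.N n) {τ : Nat} {w : List Nat}
    (hw : loopOK C τ w = true) (a : G) (ha : a ∈ Subgroup.closure (g '' {x | x < C.k})) :
    a * ev g w * a⁻¹ ∈ H := by
  obtain ⟨hgood, hcov⟩ := closure_covered_live C H g hyp hP
  obtain ⟨l, hl, hl2, hl3⟩ := hcov a ha
  unfold loopOK at hw
  rw [Bool.and_eq_true, Bool.and_eq_true] at hw
  obtain ⟨⟨h1, h2⟩, h3⟩ := hw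
  have h1 : τ < C.mask := Nat.le_of_ble_eq_true h1
  have h4 := List.all_eq_true.mp h3 l (List.mem_range.mpr hl)
  rw [Bool.or_eq_true, hl2] at h4
  have h5 : walkS C τ w l = l + 1 := by
    rcases h4 with h4 | h4
    · simp at h4
    · exact Nat.eq_of_beq_eq_true h4
  obtain ⟨_, h6⟩ := walkS_sound C H g (_root_.Cfsg.Agent.SporadicRecognition.CosetCert.trans C g) hyp.hk τ
    (fun i x hi hx hle => hgood i x hi hx (by omega)) w
    (fun x hx => Nat.le_of_ble_eq_true (List.all_eq_true.mp h2 x hx)) l l hl h5
  have h7 : _root_.Cfsg.Agent.SporadicRecognition.CosetCert.Rel H (a * ev g w) a := ((hl3.mul _).trans h6).trans hl3.symm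
  exact h7

/-- if there is only one coset then the generators lie in `H` -/
theorem mem_of_one (hyp : Hyp C H g) (hP : _root_.Cfsg.Agent.SporadicRecognition.CosetCert.Part C 0 C.N 1) (a : G)
    (ha : a ∈ Subgroup.closure (g '' {x | x < C.k})) : a ∈ H := by
  obtain ⟨S, hS, hcov⟩ := closure_covered C H g (_root_.Cfsg.Agent.SporadicRecognition.CosetCert.trans C g) hyp (trans_isTrans C g) hP
  obtain ⟨l, hl, h1⟩ := hcov a ha
  obtain ⟨l', hl', h2⟩ := hcov 1 (Subgroup.one_mem _)
  have h3 : l = l' := Finset.card_le_one.mp hS l hl l' hl'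
  subst h3
  have h4 := h1.trans h2.symm
  have h5 : a * (1 : G)⁻¹ ∈ H := h4
  simpa using h5

end Cfsg.Agent.LargeExtra.CertLoop
end

-- part: LargeExtra/SuzPlaneCert
section
/-!
Certified coset enumerations for the projective plane argument (`SuzPlane`): in the group generated by
`x, y, r, t, u` the subgroup generated by `x, y, r, r^t, r^u, t` and `u t u v t⁻¹ u⁻¹`, for the 16 elements `v`
of `⟨z, y, r, r^u⟩`.
-/

set_option autoImplicit false
set_option maxRecDepth 100000

namespace Cfsg.Agent.LargeExtra.SuzPlaneCert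

open Cfsg.Agent.SporadicRecognition.CosetCert Cfsg.Agent.SporadicRecognition.CosetCertHyp

def rels : List (List Nat) :=
  (by
  refine (?fq9001 : ((pk61l (fun i1 => ((fun g1 : Nat → Nat => pk61l (fun i2 => (pk61d (nat_lit 3) 
    (nat_lit 0x8822acd4ab352baebaeb4d42d42aac2ac33cf3cc820d38820820d208c19044aaaa9a69a20b10a2820a8a1966dadb) i2)) (g1 i1) (g1 (Nat.succ i1)) List.nil) fun j => (pk61d (nat_lit 7) 
    (nat_lit 0x1ef560af3a33e6cbd422385890e1418180) j))) (nat_lit 0) (nat_lit 18) List.nil) : List (List Nat))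
    = ?xq9001 → (List (List Nat))) ?hq9001; (case hq9001 => (set_option maxRecDepth 1000000 in set_option simprocs false in conv => lhs; reduce; dsimp only)); intro _; exact ?xq9001 : List (List Nat))

namespace K0

noncomputable def tree : Tr := (.L
  0xa87ffffe05753ff896473a4fff99bff64fff71a3839cfff96163fffff6dd864acfff3d4d47e3ff861554a0cb144de8397ff511336b0504185a75dbff20d245247fffffff107fffffff3ffc73310522843108411f)
noncomputable def wtree : WT :=
  (by
  refine (?fq9002 : ((pk61r (fun r0 j => pk61f j fun i1 => (pk61f (pk61d (nat_lit 4) 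
    (nat_lit 0x9876a9854765321432010) i1) fun u7 => (pk61f (pk61d (nat_lit 1) 
    (nat_lit 0x1e31c4) i1) fun t1_0 => (pk61c (Nat.div t1_0 (nat_lit 1)) (_root_.Cfsg.Agent.SporadicRecognition.CosetCert.WT.L (pk61d (nat_lit 3) 
    (nat_lit 0x1ed0c8231) u7) ((fun g1 : Nat → Nat => pk61l (fun i2 => (pk61d (nat_lit 3) 
    (nat_lit 0x12cb2ca4106934106105c90c60832820ea2db8820d) i2)) (g1 u7) (g1 (Nat.succ u7)) List.nil) fun j => (pk61d (nat_lit 6) 
    (nat_lit 0xdefa2275b6123091c0) j))) fun _ => (_root_.Cfsg.Agent.SporadicRecognition.CosetCert.WT.N (pk61d (nat_lit 4) 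
    (nat_lit 0x589a672341) u7) (r0 (Nat.sub i1 (pk61d (nat_lit 4) 
    (nat_lit 0xc642426422) u7))) (r0 (Nat.sub i1 (nat_lit 1)))))))) (_root_.Cfsg.Agent.SporadicRecognition.CosetCert.WT.L (nat_lit 0) List.nil) (nat_lit 5) (nat_lit 20)) : WT)
    = ?xq9002 → (WT)) ?hq9002; (case hq9002 => (set_option maxRecDepth 1000000 in conv => lhs; reduce)); intro _; exact ?xq9002 : WT)
noncomputable def stree : _root_.Cfsg.Agent.SporadicRecognition.CosetCert.ST := beta% (fun (N : Nat → _root_.Cfsg.Agent.SporadicRecognition.CosetCert.ST → _root_.Cfsg.Agent.SporadicRecognition.CosetCert.ST → _root_.Cfsg.Agent.SporadicRecognition.CosetCert.ST) (L : Nat → List Nat → List Nat → _root_.Cfsg.Agent.SporadicRecognition.CosetCert.ST) (c :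
  Nat → List Nat → List Nat) (n : List Nat) => (N 2 (N 1 (L 0 n n) (L 1 n n)) (N 3 (L 2 n n) (N 4 (L 7 (c 4 n)
  n) (L 5 (c 5 (c 3 n)) (c 5 (c 3 n))))))) ST.N ST.L (@List.cons Nat) (@List.nil Nat)
noncomputable def C : Cert where
  data := tree
  lm := 15
  rb := 84
  fb := 10
  mask := 1023
  B := 16
  k := 7
  N := 8
  inv := fun x => bif Nat.beq x 0 then 0 else bif Nat.beq x 1 then 1 else bif Nat.beq x 2 then 2 else bif Nat.beq x 3 then 4 else bif Nat.beq x 4 then 3 else bif Nat.beq x 5 then 6 else bif Nat.beq x 6 then 5 else x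
  words := wtree
  subs := stree

noncomputable def subw : List (List Nat) := [[0], [1], [2], [4,2,3], [6,2,5], [3], [4], [5,3,5,4,6]]
private theorem alC : Cfsg.Agent.SporadicRecognition.CertFast.al (Nat.succ C.lm) C.data = true := by decide +kernel

theorem c0 : _root_.Cfsg.Agent.SporadicRecognition.CosetCert.Part C 0 8 1 := Cfsg.Agent.SporadicRecognition.CertFast.part_fast C alC 1 (by decide +kernel : Cfsg.Agent.SporadicRecognition.CertFast.runF C 8 255 0x20100020200930001000273008301000053430045016300534301020202003302130102020003230000000100000002020214251505 15 32767 0x4aae945c051a337a40ec91c01a8000 0 8 = 2)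
theorem part : _root_.Cfsg.Agent.SporadicRecognition.CosetCert.Part C 0 C.N 1 := c0
theorem check : checkHyp C rels subw = true :=
  Cfsg.Agent.SporadicRecognition.HypFast.check_fast (by decide +kernel)

end K0

namespace K1

noncomputable def tree : Tr := (.L
  0x91bffffe15fffff5d55809dfffffffffffff4dd691a1bff8d5e3fffff521160a94f5a5665fffff955276ace27418d4827ff625f54b0cb1ffdc9397ff6d1a36b47ff187ff75fff20d945247fffffff107fffffff3ffc73310522843108411f)
noncomputable def wtree : WT :=
  (by
  refine (?fq9003 : ((pk61r (fun r0 j => pk61f j fun i1 => (pk61f (pk61d (nat_lit 4) 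
    (nat_lit 0x8765987465321432010) i1) fun u7 => (pk61f (pk61d (nat_lit 1) 
    (nat_lit 0x789c4) i1) fun t1_0 => (pk61c (Nat.div t1_0 (nat_lit 1)) (_root_.Cfsg.Agent.SporadicRecognition.CosetCert.WT.L (pk61d (nat_lit 3) 
    (nat_lit 0x3fcc3841) u7) ((fun g1 : Nat → Nat => pk61l (fun i2 => (pk61d (nat_lit 3) 
    (nat_lit 0x20e34d208c2891820c20b059a083a8b8820d) i2)) (g1 u7) (g1 (Nat.succ u7)) List.nil) fun j => (pk61d (nat_lit 6) 
    (nat_lit 0x31aa381e61340a1c0) j))) fun _ => (_root_.Cfsg.Agent.SporadicRecognition.CosetCert.WT.N (pk61d (nat_lit 4) 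
    (nat_lit 0x578962341) u7) (r0 (Nat.sub i1 (pk61d (nat_lit 4) 
    (nat_lit 0xa64226422) u7))) (r0 (Nat.sub i1 (nat_lit 1)))))))) (_root_.Cfsg.Agent.SporadicRecognition.CosetCert.WT.L (nat_lit 0) List.nil) (nat_lit 5) (nat_lit 18)) : WT)
    = ?xq9003 → (WT)) ?hq9003; (case hq9003 => (set_option maxRecDepth 1000000 in conv => lhs; reduce)); intro _; exact ?xq9003 : WT)
noncomputable def stree : _root_.Cfsg.Agent.SporadicRecognition.CosetCert.ST := beta% (fun (N : Nat → _root_.Cfsg.Agent.SporadicRecognition.CosetCert.ST → _root_.Cfsg.Agent.SporadicRecognition.CosetCert.ST → _root_.Cfsg.Agent.SporadicRecognition.CosetCert.ST) (L : Nat → List Nat → List Nat → _root_.Cfsg.Agent.SporadicRecognition.CosetCert.ST) (c :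
  Nat → List Nat → List Nat) (n : List Nat) => (N 2 (N 1 (L 0 n n) (L 1 n n)) (N 3 (L 2 n n) (N 4 (L 7 (c 4 n)
  n) (L 1 (c 5 (c 3 (c 5 (c 0 (c 1 (c 0 n)))))) (c 5 (c 3 n))))))) ST.N ST.L (@List.cons Nat) (@List.nil Nat)
noncomputable def C : Cert where
  data := tree
  lm := 15
  rb := 84
  fb := 10
  mask := 1023
  B := 16
  k := 7
  N := 9
  inv := fun x => bif Nat.beq x 0 then 0 else bif Nat.beq x 1 then 1 else bif Nat.beq x 2 then 2 else bif Nat.beq x 3 then 4 else bif Nat.beq x 4 then 3 else bif Nat.beq x 5 then 6 else bif Nat.beq x 6 then 5 else x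
  words := wtree
  subs := stree

noncomputable def subw : List (List Nat) := [[0], [1], [2], [4,2,3], [6,2,5], [3], [4], [5,3,5,0,1,0,1,4,6]]
private theorem alC : Cfsg.Agent.SporadicRecognition.CertFast.al (Nat.succ C.lm) C.data = true := by decide +kernel

theorem c0 : _root_.Cfsg.Agent.SporadicRecognition.CosetCert.Part C 0 9 1 := Cfsg.Agent.SporadicRecognition.CertFast.part_fast C alC 1 (by decide +kernel : Cfsg.Agent.SporadicRecognition.CertFast.runF C 8 255 0x2000045010000000000010200020200000201016484000084027302016300025301003302002302000100430003130000000100000002020214251505 15 32767 0x86b00e024eb0be547a40e955c01a8000 0 9 = 2)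
theorem part : _root_.Cfsg.Agent.SporadicRecognition.CosetCert.Part C 0 C.N 1 := c0
theorem check : checkHyp C rels subw = true :=
  Cfsg.Agent.SporadicRecognition.HypFast.check_fast (by decide +kernel)

end K1

namespace K2

noncomputable def tree : Tr := (.L
  0xa1677ffe1778fff8de563a97ff9a1b3823ff8a1d74a54f5fffff613ff456486acfff418d469bff499954b0cb1ffd76397ff591536b4534185f871fff20d445247fffffff107fffffff3ffc73310522843108411f)
noncomputable def wtree : WT :=
  (by
  refine (?fq9004 : ((pk61r (fun r0 j => pk61f j fun i1 => (pk61f (pk61d (nat_lit 4) 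
    (nat_lit 0x9876a9854765321432010) i1) fun u7 => (pk61f (pk61d (nat_lit 1) 
    (nat_lit 0x1e31c4) i1) fun t1_0 => (pk61c (Nat.div t1_0 (nat_lit 1)) (_root_.Cfsg.Agent.SporadicRecognition.CosetCert.WT.L (pk61d (nat_lit 3) 
    (nat_lit 0x1e82c4231) u7) ((fun g1 : Nat → Nat => pk61l (fun i2 => (pk61d (nat_lit 3) 
    (nat_lit 0x1a411a69a69a420b8648c106166820ea2db8820d) i2)) (g1 u7) (g1 (Nat.succ u7)) List.nil) fun j => (pk61d (nat_lit 6) 
    (nat_lit 0xd6e96075b5523091c0) j))) fun _ => (_root_.Cfsg.Agent.SporadicRecognition.CosetCert.WT.N (pk61d (nat_lit 4) 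
    (nat_lit 0x589a672341) u7) (r0 (Nat.sub i1 (pk61d (nat_lit 4) 
    (nat_lit 0xc642426422) u7))) (r0 (Nat.sub i1 (nat_lit 1)))))))) (_root_.Cfsg.Agent.SporadicRecognition.CosetCert.WT.L (nat_lit 0) List.nil) (nat_lit 5) (nat_lit 20)) : WT)
    = ?xq9004 → (WT)) ?hq9004; (case hq9004 => (set_option maxRecDepth 1000000 in conv => lhs; reduce)); intro _; exact ?xq9004 : WT)
noncomputable def stree : _root_.Cfsg.Agent.SporadicRecognition.CosetCert.ST := beta% (fun (N : Nat → _root_.Cfsg.Agent.SporadicRecognition.CosetCert.ST → _root_.Cfsg.Agent.SporadicRecognition.CosetCert.ST → _root_.Cfsg.Agent.SporadicRecognition.CosetCert.ST) (L : Nat → List Nat → List Nat → _root_.Cfsg.Agent.SporadicRecognition.CosetCert.ST) (c :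
  Nat → List Nat → List Nat) (n : List Nat) => (N 2 (N 1 (L 0 n n) (L 1 n n)) (N 3 (L 2 n n) (N 4 (L 7 (c 4 n)
  n) (L 1 (c 5 (c 3 (c 5 n))) (c 5 (c 3 n))))))) ST.N ST.L (@List.cons Nat) (@List.nil Nat)
noncomputable def C : Cert where
  data := tree
  lm := 15
  rb := 84
  fb := 10
  mask := 1023
  B := 16
  k := 7
  N := 8
  inv := fun x => bif Nat.beq x 0 then 0 else bif Nat.beq x 1 then 1 else bif Nat.beq x 2 then 2 else bif Nat.beq x 3 then 4 else bif Nat.beq x 4 then 3 else bif Nat.beq x 5 then 6 else bif Nat.beq x 6 then 5 else x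
  words := wtree
  subs := stree

noncomputable def subw : List (List Nat) := [[0], [1], [2], [4,2,3], [6,2,5], [3], [4], [5,3,5,1,4,6]]
private theorem alC : Cfsg.Agent.SporadicRecognition.CertFast.al (Nat.succ C.lm) C.data = true := by decide +kernel

theorem c0 : _root_.Cfsg.Agent.SporadicRecognition.CosetCert.Part C 0 8 1 := Cfsg.Agent.SporadicRecognition.CertFast.part_fast C alC 1 (by decide +kernel : Cfsg.Agent.SporadicRecognition.CertFast.runF C 8 255 0x200020100020200930163007353010000020045830002016300025301004302003302130102020003230000000100000002020214251505 15 32767 0x1471c5e383f437e88e995c01a8000 0 8 = 2)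
theorem part : _root_.Cfsg.Agent.SporadicRecognition.CosetCert.Part C 0 C.N 1 := c0
theorem check : checkHyp C rels subw = true :=
  Cfsg.Agent.SporadicRecognition.HypFast.check_fast (by decide +kernel)

end K2

namespace K3

noncomputable def tree : Tr := (.L
  0x6d7ffffffffffff4dd551853fffffff713ff52116080cf579fff7cfffffd2768c5d7418d4fffffffd684884b1fffff397ff69193690574187fffffff20d845247fffffff107fffffff3ffc73310522843108411f)
noncomputable def wtree : WT :=
  (by
  refine (?fq9005 : ((pk61r (fun r0 j => pk61f j fun i1 => (pk61f (pk61d (nat_lit 4) 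
    (nat_lit 0x8765987465321432010) i1) fun u7 => (pk61f (pk61d (nat_lit 1) 
    (nat_lit 0x789c4) i1) fun t1_0 => (pk61c (Nat.div t1_0 (nat_lit 1)) (_root_.Cfsg.Agent.SporadicRecognition.CosetCert.WT.L (pk61d (nat_lit 3) 
    (nat_lit 0x3bb9f231) u7) ((fun g1 : Nat → Nat => pk61l (fun i2 => (pk61d (nat_lit 3) 
    (nat_lit 0x33cf3cc82c6c2830864112820ea2db8820d) i2)) (g1 u7) (g1 (Nat.succ u7)) List.nil) fun j => (pk61d (nat_lit 6) 
    (nat_lit 0x2e9a17dc6523091c0) j))) fun _ => (_root_.Cfsg.Agent.SporadicRecognition.CosetCert.WT.N (pk61d (nat_lit 4) 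
    (nat_lit 0x578962341) u7) (r0 (Nat.sub i1 (pk61d (nat_lit 4) 
    (nat_lit 0xa64226422) u7))) (r0 (Nat.sub i1 (nat_lit 1)))))))) (_root_.Cfsg.Agent.SporadicRecognition.CosetCert.WT.L (nat_lit 0) List.nil) (nat_lit 5) (nat_lit 18)) : WT)
    = ?xq9005 → (WT)) ?hq9005; (case hq9005 => (set_option maxRecDepth 1000000 in conv => lhs; reduce)); intro _; exact ?xq9005 : WT)
noncomputable def stree : _root_.Cfsg.Agent.SporadicRecognition.CosetCert.ST := beta% (fun (N : Nat → _root_.Cfsg.Agent.SporadicRecognition.CosetCert.ST → _root_.Cfsg.Agent.SporadicRecognition.CosetCert.ST → _root_.Cfsg.Agent.SporadicRecognition.CosetCert.ST) (L : Nat → List Nat → List Nat → _root_.Cfsg.Agent.SporadicRecognition.CosetCert.ST) (c :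
  Nat → List Nat → List Nat) (n : List Nat) => (N 2 (N 1 (L 0 n n) (L 1 n n)) (N 3 (L 2 n n) (N 4 (L 7 (c 4 n)
  n) (L 0 (c 5 (c 3 (c 5 (c 0 (c 1 n))))) (c 5 (c 3 n))))))) ST.N ST.L (@List.cons Nat) (@List.nil Nat)
noncomputable def C : Cert where
  data := tree
  lm := 15
  rb := 84
  fb := 10
  mask := 1023
  B := 16
  k := 7
  N := 8
  inv := fun x => bif Nat.beq x 0 then 0 else bif Nat.beq x 1 then 1 else bif Nat.beq x 2 then 2 else bif Nat.beq x 3 then 4 else bif Nat.beq x 4 then 3 else bif Nat.beq x 5 then 6 else bif Nat.beq x 6 then 5 else x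
  words := wtree
  subs := stree

noncomputable def subw : List (List Nat) := [[0], [1], [2], [4,2,3], [6,2,5], [3], [4], [5,3,5,0,1,0,4,6]]
private theorem alC : Cfsg.Agent.SporadicRecognition.CertFast.al (Nat.succ C.lm) C.data = true := by decide +kernel

theorem c0 : _root_.Cfsg.Agent.SporadicRecognition.CosetCert.Part C 0 8 1 := Cfsg.Agent.SporadicRecognition.CertFast.part_fast C alC 1 (by decide +kernel : Cfsg.Agent.SporadicRecognition.CertFast.runF C 8 255 0x14500000053000201017300830000026302010000000201000002003302130100000003230000000100000002020214251505 14 16383 0x11a507024e567955c60700d4000 0 8 = 2)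
theorem part : _root_.Cfsg.Agent.SporadicRecognition.CosetCert.Part C 0 C.N 1 := c0
theorem check : checkHyp C rels subw = true :=
  Cfsg.Agent.SporadicRecognition.HypFast.check_fast (by decide +kernel)

end K3

namespace K4

noncomputable def tree : Tr := (.L
  0xb63fffffff913ffa16a83bd7fffffff80fff8de993b17ffae5f3fffff8a3ff479505757ffffd25ffdb66c0dc6458e49a5369e5a54b8cc154e593d584651736c454418618ffc8324d645287fffffff107fffffff3ffc73350522c43108411f)
noncomputable def wtree : WT :=
  (by
  refine (?fq9006 : ((pk61r (fun r0 j => pk61f j fun i1 => (pk61f (pk61d (nat_lit 4) 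
    (nat_lit 0xcba9dc8ba769875436524310210) i1) fun u7 => (pk61f (pk61d (nat_lit 1) 
    (nat_lit 0x7931c98) i1) fun t1_0 => (pk61c (Nat.div t1_0 (nat_lit 1)) (_root_.Cfsg.Agent.SporadicRecognition.CosetCert.WT.L (pk61d (nat_lit 3) 
    (nat_lit 0x3d0cfc01431) u7) ((fun g1 : Nat → Nat => pk61l (fun i2 => (pk61d (nat_lit 3) 
    (nat_lit 0x104559a9566a234106105c90cab0ab2028413041941075555a2db8820d) i2)) (g1 u7) (g1 (Nat.succ u7)) List.nil) fun j => (pk61d (nat_lit 7) 
    (nat_lit 0x135e3662bd6234074b911824380) j))) fun _ => (_root_.Cfsg.Agent.SporadicRecognition.CosetCert.WT.N (pk61d (nat_lit 4) 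
    (nat_lit 0x7acdb89356412) u7) (r0 (Nat.sub i1 (pk61d (nat_lit 4) 
    (nat_lit 0xe842242842242) u7))) (r0 (Nat.sub i1 (nat_lit 1)))))))) (_root_.Cfsg.Agent.SporadicRecognition.CosetCert.WT.L (nat_lit 0) List.nil) (nat_lit 5) (nat_lit 26)) : WT)
    = ?xq9006 → (WT)) ?hq9006; (case hq9006 => (set_option maxRecDepth 1000000 in conv => lhs; reduce)); intro _; exact ?xq9006 : WT)
noncomputable def stree : _root_.Cfsg.Agent.SporadicRecognition.CosetCert.ST := beta% (fun (N : Nat → _root_.Cfsg.Agent.SporadicRecognition.CosetCert.ST → _root_.Cfsg.Agent.SporadicRecognition.CosetCert.ST → _root_.Cfsg.Agent.SporadicRecognition.CosetCert.ST) (L : Nat → List Nat → List Nat → _root_.Cfsg.Agent.SporadicRecognition.CosetCert.ST) (c :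
  Nat → List Nat → List Nat) (n : List Nat) => (N 3 (N 1 (L 0 n n) (N 2 (L 1 n n) (L 2 n n))) (N 4 (L 2 (c 6 n)
  (c 6 n)) (N 5 (L 7 (c 4 n) n) (L 2 (c 5 (c 3 (c 5 n))) (c 5 (c 3 n))))))) ST.N ST.L (@List.cons Nat)
  (@List.nil Nat)
noncomputable def C : Cert where
  data := tree
  lm := 15
  rb := 84
  fb := 10
  mask := 1023
  B := 16
  k := 7
  N := 9
  inv := fun x => bif Nat.beq x 0 then 0 else bif Nat.beq x 1 then 1 else bif Nat.beq x 2 then 2 else bif Nat.beq x 3 then 4 else bif Nat.beq x 4 then 3 else bif Nat.beq x 5 then 6 else bif Nat.beq x 6 then 5 else x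
  words := wtree
  subs := stree

noncomputable def subw : List (List Nat) := [[0], [1], [2], [4,2,3], [6,2,5], [3], [4], [5,3,5,2,4,6]]
private theorem alC : Cfsg.Agent.SporadicRecognition.CertFast.al (Nat.succ C.lm) C.data = true := by decide +kernel

theorem c0 : _root_.Cfsg.Agent.SporadicRecognition.CosetCert.Part C 0 9 1 := Cfsg.Agent.SporadicRecognition.CertFast.part_fast C alC 1 (by decide +kernel : Cfsg.Agent.SporadicRecognition.CertFast.runF C 8 255 0x1000202000000010002b300c3010000930001020000550063730201a302935301020202334302130102003503230000000100000002020214251505 16 65535 0x6417465700d6008684376447235700450000 0 9 = 2)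
theorem part : _root_.Cfsg.Agent.SporadicRecognition.CosetCert.Part C 0 C.N 1 := c0
theorem check : checkHyp C rels subw = true :=
  Cfsg.Agent.SporadicRecognition.HypFast.check_fast (by decide +kernel)

end K4

namespace K5

noncomputable def tree : Tr := (.L
  0xc8fff922e3ffda56265a1c0fffaebffffea8669680c523aa67ffb13ff51d79199626ffffffffff561260a150585ffffffffffd376d4607458e4ffdba9e1f54cccc1ffed83d7ff791d36d07ff186f9ffc8324dc45287fffffff107fffffff3ffc73350522c43108411f)
noncomputable def wtree : WT :=
  (by
  refine (?fq9007 : ((pk61r (fun r0 j => pk61f j fun i1 => (pk61f (pk61d (nat_lit 4) 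
    (nat_lit 0xedcbfeadc98ba798654763542132010) i1) fun u7 => (pk61f (pk61d (nat_lit 1) 
    (nat_lit 0x79327264) i1) fun t1_0 => (pk61c (Nat.div t1_0 (nat_lit 1)) (_root_.Cfsg.Agent.SporadicRecognition.CosetCert.WT.L (pk61d (nat_lit 3) 
    (nat_lit 0xf23aaf1ae041) u7) ((fun g1 : Nat → Nat => pk61l (fun i2 => (pk61d (nat_lit 3) 
    (nat_lit 0xb2cb2c041804209842ab0aaac2ac0820d26820e4110463b0a1820ca083a8b8820d) i2)) (g1 u7) (g1 (Nat.succ u7)) List.nil) fun j => (pk61d (nat_lit 7) 
    (nat_lit 0x58a12a2c274c95a4426cc962028380) j))) fun _ => (_root_.Cfsg.Agent.SporadicRecognition.CosetCert.WT.N (pk61d (nat_lit 4) 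
    (nat_lit 0x8cefdab94675231) u7) (r0 (Nat.sub i1 (pk61d (nat_lit 5) 
    (nat_lit 0x4104108821208211042) u7))) (r0 (Nat.sub i1 (nat_lit 1)))))))) (_root_.Cfsg.Agent.SporadicRecognition.CosetCert.WT.L (nat_lit 0) List.nil) (nat_lit 5) (nat_lit 30)) : WT)
    = ?xq9007 → (WT)) ?hq9007; (case hq9007 => (set_option maxRecDepth 1000000 in conv => lhs; reduce)); intro _; exact ?xq9007 : WT)
noncomputable def stree : _root_.Cfsg.Agent.SporadicRecognition.CosetCert.ST := beta% (fun (N : Nat → _root_.Cfsg.Agent.SporadicRecognition.CosetCert.ST → _root_.Cfsg.Agent.SporadicRecognition.CosetCert.ST → _root_.Cfsg.Agent.SporadicRecognition.CosetCert.ST) (L : Nat → List Nat → List Nat → _root_.Cfsg.Agent.SporadicRecognition.CosetCert.ST) (c :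
  Nat → List Nat → List Nat) (n : List Nat) => (N 3 (N 1 (L 0 n n) (N 2 (L 1 n n) (L 2 n n))) (N 4 (L 2 (c 6 n)
  (c 6 n)) (N 5 (L 7 (c 4 n) n) (L 2 (c 5 (c 3 (c 5 (c 0 (c 1 (c 0 (c 1 n))))))) (c 5 (c 3 n))))))) ST.N ST.L
  (@List.cons Nat) (@List.nil Nat)
noncomputable def C : Cert where
  data := tree
  lm := 15
  rb := 84
  fb := 10
  mask := 1023
  B := 16
  k := 7
  N := 10
  inv := fun x => bif Nat.beq x 0 then 0 else bif Nat.beq x 1 then 1 else bif Nat.beq x 2 then 2 else bif Nat.beq x 3 then 4 else bif Nat.beq x 4 then 3 else bif Nat.beq x 5 then 6 else bif Nat.beq x 6 then 5 else x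
  words := wtree
  subs := stree

noncomputable def subw : List (List Nat) := [[0], [1], [2], [4,2,3], [6,2,5], [3], [4], [5,3,5,0,1,0,1,2,4,6]]
private theorem alC : Cfsg.Agent.SporadicRecognition.CertFast.al (Nat.succ C.lm) C.data = true := by decide +kernel

theorem c0 : _root_.Cfsg.Agent.SporadicRecognition.CosetCert.Part C 0 10 1 := Cfsg.Agent.SporadicRecognition.CertFast.part_fast C alC 1 (by decide +kernel : Cfsg.Agent.SporadicRecognition.CertFast.runF C 8 255 0x2d30055017300b30000a30201639300c3000102020000000002010153000000000243020100026433010002020023020001e3003503130000000100000002020214251505 15 32767 0x140b80f6500e021a3038717504ea15c0228000 0 10 = 2)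
theorem part : _root_.Cfsg.Agent.SporadicRecognition.CosetCert.Part C 0 C.N 1 := c0
theorem check : checkHyp C rels subw = true :=
  Cfsg.Agent.SporadicRecognition.HypFast.check_fast (by decide +kernel)

end K5

namespace K6

noncomputable def tree : Tr := (.L
  0xe5b76ffe75913ffa57ff3cdbfffffff84fffffeaa3c5f07b5de3fffff8e6084e16e8be323b1945499d71ed505daab7d4fff4df4a6f0fff458e49a957a29c54e8cc15ce5a3d5a46d1936f4564186297e08324d845287fffffff107fffffff3ffc73350522c43108411f)
noncomputable def wtree : WT :=
  (by
  refine (?fq9008 : ((pk61r (fun r0 j => pk61f j fun i1 => (pk61f (pk61d (nat_lit 4) 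
    (nat_lit 0xedcbfeadc98ba798654763542132010) i1) fun u7 => (pk61f (pk61d (nat_lit 1) 
    (nat_lit 0x79327264) i1) fun t1_0 => (pk61c (Nat.div t1_0 (nat_lit 1)) (_root_.Cfsg.Agent.SporadicRecognition.CosetCert.WT.L (pk61d (nat_lit 3) 
    (nat_lit 0xf7db03201431) u7) ((fun g1 : Nat → Nat => pk61l (fun i2 => (pk61d (nat_lit 3) 
    (nat_lit 0x3cf3cf1041a76c303410542d446105c90c413041941075555a2db8820d) i2)) (g1 u7) (g1 (Nat.succ u7)) List.nil) fun j => (pk61d (nat_lit 7) 
    (nat_lit 0x4d8af9db864a92a34074b911824380) j))) fun _ => (_root_.Cfsg.Agent.SporadicRecognition.CosetCert.WT.N (pk61d (nat_lit 4) 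
    (nat_lit 0x8cefdab94675231) u7) (r0 (Nat.sub i1 (pk61d (nat_lit 5) 
    (nat_lit 0x4104108821208211042) u7))) (r0 (Nat.sub i1 (nat_lit 1)))))))) (_root_.Cfsg.Agent.SporadicRecognition.CosetCert.WT.L (nat_lit 0) List.nil) (nat_lit 5) (nat_lit 30)) : WT)
    = ?xq9008 → (WT)) ?hq9008; (case hq9008 => (set_option maxRecDepth 1000000 in conv => lhs; reduce)); intro _; exact ?xq9008 : WT)
noncomputable def stree : _root_.Cfsg.Agent.SporadicRecognition.CosetCert.ST := beta% (fun (N : Nat → _root_.Cfsg.Agent.SporadicRecognition.CosetCert.ST → _root_.Cfsg.Agent.SporadicRecognition.CosetCert.ST → _root_.Cfsg.Agent.SporadicRecognition.CosetCert.ST) (L : Nat → List Nat → List Nat → _root_.Cfsg.Agent.SporadicRecognition.CosetCert.ST) (c :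
  Nat → List Nat → List Nat) (n : List Nat) => (N 3 (N 1 (L 0 n n) (N 2 (L 1 n n) (L 2 n n))) (N 4 (L 2 (c 6 n)
  (c 6 n)) (N 5 (L 7 (c 4 n) n) (L 2 (c 5 (c 3 (c 5 (c 1 n)))) (c 5 (c 3 n))))))) ST.N ST.L (@List.cons Nat)
  (@List.nil Nat)
noncomputable def C : Cert where
  data := tree
  lm := 15
  rb := 84
  fb := 10
  mask := 1023
  B := 16
  k := 7
  N := 10
  inv := fun x => bif Nat.beq x 0 then 0 else bif Nat.beq x 1 then 1 else bif Nat.beq x 2 then 2 else bif Nat.beq x 3 then 4 else bif Nat.beq x 4 then 3 else bif Nat.beq x 5 then 6 else bif Nat.beq x 6 then 5 else x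
  words := wtree
  subs := stree

noncomputable def subw : List (List Nat) := [[0], [1], [2], [4,2,3], [6,2,5], [3], [4], [5,3,5,1,2,4,6]]
private theorem alC : Cfsg.Agent.SporadicRecognition.CertFast.al (Nat.succ C.lm) C.data = true := by decide +kernel

theorem c0 : _root_.Cfsg.Agent.SporadicRecognition.CosetCert.Part C 0 10 1 := Cfsg.Agent.SporadicRecognition.CertFast.part_fast C alC 1 (by decide +kernel : Cfsg.Agent.SporadicRecognition.CertFast.runF C 8 255 0x20002010002000000000100009302b3010000735302c3740255016301e3a3840002840002018302735301020202334302130102023503230000000100000002020214251505 16 65535 0x6417671700d600f3645794376447235700450000 0 10 = 2)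
theorem part : _root_.Cfsg.Agent.SporadicRecognition.CosetCert.Part C 0 C.N 1 := c0
theorem check : checkHyp C rels subw = true :=
  Cfsg.Agent.SporadicRecognition.HypFast.check_fast (by decide +kernel)

end K6

namespace K7

noncomputable def tree : Tr := (.L
  0x923fffffffffd85ffd680957ffffffffffff51d791a1bff897ffffe77561260a55058dffffffffffd376b4617458e4ffd9999e054a8cc16cfff3d5e47d1d36b05a4187ffad48324dc45287fffffff107fffffff3ffc73350522c43108411f)
noncomputable def wtree : WT :=
  (by
  refine (?fq9009 : ((pk61r (fun r0 j => pk61f j fun i1 => (pk61f (pk61d (nat_lit 4) 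
    (nat_lit 0xba98cb7a96587643254310210) i1) fun u7 => (pk61f (pk61d (nat_lit 1) 
    (nat_lit 0x1e4c718) i1) fun t1_0 => (pk61c (Nat.div t1_0 (nat_lit 1)) (_root_.Cfsg.Agent.SporadicRecognition.CosetCert.WT.L (pk61d (nat_lit 3) 
    (nat_lit 0x7ebfb81431) u7) ((fun g1 : Nat → Nat => pk61l (fun i2 => (pk61d (nat_lit 3) 
    (nat_lit 0x1082c022acd4ab3511289a083820b6143041941075555a2db8820d) i2)) (g1 u7) (g1 (Nat.succ u7)) List.nil) fun j => (pk61d (nat_lit 7) 
    (nat_lit 0x23c160b53224074b911824380) j))) fun _ => (_root_.Cfsg.Agent.SporadicRecognition.CosetCert.WT.N (pk61d (nat_lit 4) 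
    (nat_lit 0x69bca7834512) u7) (r0 (Nat.sub i1 (pk61d (nat_lit 4) 
    (nat_lit 0xe84224264242) u7))) (r0 (Nat.sub i1 (nat_lit 1)))))))) (_root_.Cfsg.Agent.SporadicRecognition.CosetCert.WT.L (nat_lit 0) List.nil) (nat_lit 5) (nat_lit 24)) : WT)
    = ?xq9009 → (WT)) ?hq9009; (case hq9009 => (set_option maxRecDepth 1000000 in conv => lhs; reduce)); intro _; exact ?xq9009 : WT)
noncomputable def stree : _root_.Cfsg.Agent.SporadicRecognition.CosetCert.ST := beta% (fun (N : Nat → _root_.Cfsg.Agent.SporadicRecognition.CosetCert.ST → _root_.Cfsg.Agent.SporadicRecognition.CosetCert.ST → _root_.Cfsg.Agent.SporadicRecognition.CosetCert.ST) (L : Nat → List Nat → List Nat → _root_.Cfsg.Agent.SporadicRecognition.CosetCert.ST) (c :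
  Nat → List Nat → List Nat) (n : List Nat) => (N 3 (N 1 (L 0 n n) (N 2 (L 1 n n) (L 2 n n))) (N 4 (L 2 (c 6 n)
  (c 6 n)) (N 5 (L 7 (c 4 n) n) (L 2 (c 5 (c 3 (c 5 (c 0 (c 1 (c 0 n)))))) (c 5 (c 3 n))))))) ST.N ST.L
  (@List.cons Nat) (@List.nil Nat)
noncomputable def C : Cert where
  data := tree
  lm := 15
  rb := 84
  fb := 10
  mask := 1023
  B := 16
  k := 7
  N := 9
  inv := fun x => bif Nat.beq x 0 then 0 else bif Nat.beq x 1 then 1 else bif Nat.beq x 2 then 2 else bif Nat.beq x 3 then 4 else bif Nat.beq x 4 then 3 else bif Nat.beq x 5 then 6 else bif Nat.beq x 6 then 5 else x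
  words := wtree
  subs := stree

noncomputable def subw : List (List Nat) := [[0], [1], [2], [4,2,3], [6,2,5], [3], [4], [5,3,5,0,1,0,2,4,6]]
private theorem alC : Cfsg.Agent.SporadicRecognition.CertFast.al (Nat.succ C.lm) C.data = true := by decide +kernel

theorem c0 : _root_.Cfsg.Agent.SporadicRecognition.CosetCert.Part C 0 9 1 := Cfsg.Agent.SporadicRecognition.CertFast.part_fast C alC 1 (by decide +kernel : Cfsg.Agent.SporadicRecognition.CertFast.runF C 8 255 0x5500010000000000010200020000a30201017300000000026302010002745301020002334302130100343503230000000100000002020214251505 15 32767 0x83012c02cf2ab8237018c8d5c0228000 0 9 = 2)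
theorem part : _root_.Cfsg.Agent.SporadicRecognition.CosetCert.Part C 0 C.N 1 := c0
theorem check : checkHyp C rels subw = true :=
  Cfsg.Agent.SporadicRecognition.HypFast.check_fast (by decide +kernel)

end K7

namespace K8

noncomputable def tree : Tr := (.L
  0xb63fffffff913ffa16a83bd7fffffff80fff8de993b17ffae5f3fffff8a3ff4795d5497ffffd05ffdb62c0d36718e49a5169e5a54b8cc154e593d584651736c454418618ffc8324d645287fffffff107fffffff3ffc73350522c43108411f)
noncomputable def wtree : WT :=
  (by
  refine (?fq9010 : ((pk61r (fun r0 j => pk61f j fun i1 => (pk61f (pk61d (nat_lit 4) 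
    (nat_lit 0xcba9dc8ba769875436524310210) i1) fun u7 => (pk61f (pk61d (nat_lit 1) 
    (nat_lit 0x7931c98) i1) fun t1_0 => (pk61c (Nat.div t1_0 (nat_lit 1)) (_root_.Cfsg.Agent.SporadicRecognition.CosetCert.WT.L (pk61d (nat_lit 3) 
    (nat_lit 0x3d0cfa01431) u7) ((fun g1 : Nat → Nat => pk61l (fun i2 => (pk61d (nat_lit 3) 
    (nat_lit 0x104559a9566a234106105c90c585590a30413041941075555a2db8820d) i2)) (g1 u7) (g1 (Nat.succ u7)) List.nil) fun j => (pk61d (nat_lit 7) 
    (nat_lit 0x135e3662bd6234074b911824380) j))) fun _ => (_root_.Cfsg.Agent.SporadicRecognition.CosetCert.WT.N (pk61d (nat_lit 4) 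
    (nat_lit 0x7acdb89356412) u7) (r0 (Nat.sub i1 (pk61d (nat_lit 4) 
    (nat_lit 0xe842242842242) u7))) (r0 (Nat.sub i1 (nat_lit 1)))))))) (_root_.Cfsg.Agent.SporadicRecognition.CosetCert.WT.L (nat_lit 0) List.nil) (nat_lit 5) (nat_lit 26)) : WT)
    = ?xq9010 → (WT)) ?hq9010; (case hq9010 => (set_option maxRecDepth 1000000 in conv => lhs; reduce)); intro _; exact ?xq9010 : WT)
noncomputable def stree : _root_.Cfsg.Agent.SporadicRecognition.CosetCert.ST := beta% (fun (N : Nat → _root_.Cfsg.Agent.SporadicRecognition.CosetCert.ST → _root_.Cfsg.Agent.SporadicRecognition.CosetCert.ST → _root_.Cfsg.Agent.SporadicRecognition.CosetCert.ST) (L : Nat → List Nat → List Nat → _root_.Cfsg.Agent.SporadicRecognition.CosetCert.ST) (c :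
  Nat → List Nat → List Nat) (n : List Nat) => (N 3 (N 1 (L 0 n n) (N 2 (L 1 n n) (L 2 n n))) (N 4 (L 2 (c 6 n)
  (c 6 n)) (N 5 (L 7 (c 4 n) n) (L 5 (c 5 (c 3 (c 2 n))) (c 5 (c 3 n))))))) ST.N ST.L (@List.cons Nat)
  (@List.nil Nat)
noncomputable def C : Cert where
  data := tree
  lm := 15
  rb := 84
  fb := 10
  mask := 1023
  B := 16
  k := 7
  N := 9
  inv := fun x => bif Nat.beq x 0 then 0 else bif Nat.beq x 1 then 1 else bif Nat.beq x 2 then 2 else bif Nat.beq x 3 then 4 else bif Nat.beq x 4 then 3 else bif Nat.beq x 5 then 6 else bif Nat.beq x 6 then 5 else x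
  words := wtree
  subs := stree

noncomputable def subw : List (List Nat) := [[0], [1], [2], [4,2,3], [6,2,5], [3], [4], [5,3,2,5,4,6]]
private theorem alC : Cfsg.Agent.SporadicRecognition.CertFast.al (Nat.succ C.lm) C.data = true := by decide +kernel

theorem c0 : _root_.Cfsg.Agent.SporadicRecognition.CosetCert.Part C 0 9 1 := Cfsg.Agent.SporadicRecognition.CertFast.part_fast C alC 1 (by decide +kernel : Cfsg.Agent.SporadicRecognition.CertFast.runF C 8 255 0x1000202000000010002b300c3010000930002550000010063027301a302935301020202334302130102003503230000000100000002020214251505 16 65535 0x6417465700d6008384376447235700450000 0 9 = 2)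
theorem part : _root_.Cfsg.Agent.SporadicRecognition.CosetCert.Part C 0 C.N 1 := c0
theorem check : checkHyp C rels subw = true :=
  Cfsg.Agent.SporadicRecognition.HypFast.check_fast (by decide +kernel)

end K8

namespace K9

noncomputable def tree : Tr := (.L
  0x9a7fff8a9fff744fff7c580e382bffffff6ed683fff72d7ef3a85a4da6d6236ce90870e66d45274e63c5ffffff38bffffff29e660834a88dfff3ac86d84f598736b5c8fffffffff309fff19688cfffffffffffff32a2c809c55aa5ebffffff92d2872e91aa6586565948a0454b2a82460ae520550cffffff8effff2676b033ec2261c478fa2d7af4c54ac318142376f1e54844a44636b214040c16ae64d1031234445141fffffffff081fffffffff3fff0e31a40a2161061041021f)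
noncomputable def wtree : WT :=
  (by
  refine (?fq9011 : ((pk61r (fun r0 j => pk61f j fun i1 => (pk61f (pk61d (nat_lit 5) 
    (nat_lit 0x4a307ba728b60f62d4e6b12b520e62a507218a31048310020) i1) fun u7 => (pk61f (pk61d (nat_lit 1) 
    (nat_lit 0x7c4e2789c4) i1) fun t1_0 => (pk61c (Nat.div t1_0 (nat_lit 1)) (_root_.Cfsg.Agent.SporadicRecognition.CosetCert.WT.L (pk61d (nat_lit 3) 
    (nat_lit 0xfbc4af05ddc1431) u7) ((fun g1 : Nat → Nat => pk61l (fun i2 => (pk61d (nat_lit 3) 
    (nat_lit 0x4ab020a6a559a5554104a16a1451081a08241069d082e1926c4118e183041941075555a2db8820d) i2)) (g1 u7) (g1 (Nat.succ u7)) List.nil) fun j => (pk61d (nat_lit 7) 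
    (nat_lit 0x69b14e7c78905db35cad4a74274b911824380) j))) fun _ => (_root_.Cfsg.Agent.SporadicRecognition.CosetCert.WT.N (pk61d (nat_lit 5) 
    (nat_lit 0x29f194e0c6b9653a12610c81) u7) (r0 (Nat.sub i1 (pk61d (nat_lit 5) 
    (nat_lit 0x5146208462084a3104231042) u7))) (r0 (Nat.sub i1 (nat_lit 1)))))))) (_root_.Cfsg.Agent.SporadicRecognition.CosetCert.WT.L (nat_lit 0) List.nil) (nat_lit 6) (nat_lit 38)) : WT)
    = ?xq9011 → (WT)) ?hq9011; (case hq9011 => (set_option maxRecDepth 1000000 in conv => lhs; reduce)); intro _; exact ?xq9011 : WT)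
noncomputable def stree : _root_.Cfsg.Agent.SporadicRecognition.CosetCert.ST := beta% (fun (N : Nat → _root_.Cfsg.Agent.SporadicRecognition.CosetCert.ST → _root_.Cfsg.Agent.SporadicRecognition.CosetCert.ST → _root_.Cfsg.Agent.SporadicRecognition.CosetCert.ST) (L : Nat → List Nat → List Nat → _root_.Cfsg.Agent.SporadicRecognition.CosetCert.ST) (c :
  Nat → List Nat → List Nat) (n : List Nat) => (N 3 (N 1 (L 0 n n) (N 2 (L 1 n n) (L 2 n n))) (N 4 (L 2 (c 6 n)
  (c 6 n)) (N 5 (L 7 (c 4 n) n) (L 5 (c 5 (c 3 (c 5 (c 0 (c 1 (c 0 (c 1 (c 6 (c 2 n))))))))) (c 5 (c 3 n)))))))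
  ST.N ST.L (@List.cons Nat) (@List.nil Nat)
noncomputable def C : Cert where
  data := tree
  lm := 15
  rb := 100
  fb := 12
  mask := 4095
  B := 32
  k := 7
  N := 15
  inv := fun x => bif Nat.beq x 0 then 0 else bif Nat.beq x 1 then 1 else bif Nat.beq x 2 then 2 else bif Nat.beq x 3 then 4 else bif Nat.beq x 4 then 3 else bif Nat.beq x 5 then 6 else bif Nat.beq x 6 then 5 else x
  words := wtree
  subs := stree

noncomputable def subw : List (List Nat) := [[0], [1], [2], [4,2,3], [6,2,5], [3], [4], [5,3,5,0,1,0,1,6,2,5,4,6]]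
private theorem alC : Cfsg.Agent.SporadicRecognition.CertFast.al (Nat.succ C.lm) C.data = true := by decide +kernel

theorem c0 : _root_.Cfsg.Agent.SporadicRecognition.CosetCert.Part C 0 15 1 := Cfsg.Agent.SporadicRecognition.CertFast.part_fast C alC 1 (by decide +kernel : Cfsg.Agent.SporadicRecognition.CertFast.runF C 9 511 0x69800020001008000001004000259c8c040149bcd465309954000000800000200b5000026a350040200000000100008000000000040139a0c00000100404b45a40dc8b401004020200001c600010080401499d146530080804021990c04130080804350188c00000000400000000804020a0942a05 17 131071 0x3a19c018c013300333259dd02e011664abe105f08aec437c22390d5c008a0000 0 15 = 2)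
theorem part : _root_.Cfsg.Agent.SporadicRecognition.CosetCert.Part C 0 C.N 1 := c0
theorem check : checkHyp C rels subw = true :=
  Cfsg.Agent.SporadicRecognition.HypFast.check_fast (by decide +kernel)

end K9

namespace K10

noncomputable def tree : Tr := (.L
  0x76ffffffaf5589fffffb2b388efde1c7ff4e706d5d31c3671fffffa43537ffd55a6a46ec858c2fffffe5a3ffa3628ab0aca3fff6d65e5adb4858ea56205be57a9ffc933cb172a41514fffffee209bfff69226648b0e45d8ea18620548c6304d9adc1ea790fa1d3690269030a8b4b420c499c45143ffffffff083ffffffff3ffe1cc6a0521620c410811f)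
noncomputable def wtree : WT :=
  (by
  refine (?fq9012 : ((pk61r (fun r0 j => pk61f j fun i1 => (pk61f (pk61d (nat_lit 4) 
    (nat_lit 0xdcbaed9cb87a96875436524310210) i1) fun u7 => (pk61f (pk61d (nat_lit 1) 
    (nat_lit 0x1e4c9c98) i1) fun t1_0 => (pk61c (Nat.div t1_0 (nat_lit 1)) (_root_.Cfsg.Agent.SporadicRecognition.CosetCert.WT.L (pk61d (nat_lit 3) 
    (nat_lit 0x1f2df82c1431) u7) ((fun g1 : Nat → Nat => pk61l (fun i2 => (pk61d (nat_lit 3) 
    (nat_lit 0x615642a14352acd4ab0209c41042088231b082e1923041941075555a2db8820d) i2)) (g1 u7) (g1 (Nat.succ u7)) List.nil) fun j => (pk61d (nat_lit 7) 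
    (nat_lit 0xab324b964b93a23e74b911824380) j))) fun _ => (_root_.Cfsg.Agent.SporadicRecognition.CosetCert.WT.N (pk61d (nat_lit 4) 
    (nat_lit 0x7bdec9a8356412) u7) (r0 (Nat.sub i1 (pk61d (nat_lit 5) 
    (nat_lit 0x208208441090410882) u7))) (r0 (Nat.sub i1 (nat_lit 1)))))))) (_root_.Cfsg.Agent.SporadicRecognition.CosetCert.WT.L (nat_lit 0) List.nil) (nat_lit 5) (nat_lit 28)) : WT)
    = ?xq9012 → (WT)) ?hq9012; (case hq9012 => (set_option maxRecDepth 1000000 in conv => lhs; reduce)); intro _; exact ?xq9012 : WT)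
noncomputable def stree : _root_.Cfsg.Agent.SporadicRecognition.CosetCert.ST := beta% (fun (N : Nat → _root_.Cfsg.Agent.SporadicRecognition.CosetCert.ST → _root_.Cfsg.Agent.SporadicRecognition.CosetCert.ST → _root_.Cfsg.Agent.SporadicRecognition.CosetCert.ST) (L : Nat → List Nat → List Nat → _root_.Cfsg.Agent.SporadicRecognition.CosetCert.ST) (c :
  Nat → List Nat → List Nat) (n : List Nat) => (N 3 (N 1 (L 0 n n) (N 2 (L 1 n n) (L 2 n n))) (N 4 (L 2 (c 6 n)
  (c 6 n)) (N 5 (L 7 (c 4 n) n) (L 5 (c 5 (c 3 (c 5 (c 1 (c 6 (c 2 n)))))) (c 5 (c 3 n))))))) ST.N ST.L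
  (@List.cons Nat) (@List.nil Nat)
noncomputable def C : Cert where
  data := tree
  lm := 15
  rb := 92
  fb := 11
  mask := 2047
  B := 16
  k := 7
  N := 12
  inv := fun x => bif Nat.beq x 0 then 0 else bif Nat.beq x 1 then 1 else bif Nat.beq x 2 then 2 else bif Nat.beq x 3 then 4 else bif Nat.beq x 4 then 3 else bif Nat.beq x 5 then 6 else bif Nat.beq x 6 then 5 else x
  words := wtree
  subs := stree

noncomputable def subw : List (List Nat) := [[0], [1], [2], [4,2,3], [6,2,5], [3], [4], [5,3,5,1,6,2,5,4,6]]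
private theorem alC : Cfsg.Agent.SporadicRecognition.CertFast.al (Nat.succ C.lm) C.data = true := by decide +kernel

theorem c0 : _root_.Cfsg.Agent.SporadicRecognition.CosetCert.Part C 0 12 1 := Cfsg.Agent.SporadicRecognition.CertFast.part_fast C alC 1 (by decide +kernel : Cfsg.Agent.SporadicRecognition.CertFast.runF C 8 255 0x201000002b3020001c302830000016300735313550000010023d30100940294940202b4b40001b4010200008402000202016354735301020202334302130102023503230000000100000002020214251505 16 65535 0x541700e3009600a36a17a65785576437a637235700450000 0 12 = 2)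
theorem part : _root_.Cfsg.Agent.SporadicRecognition.CosetCert.Part C 0 C.N 1 := c0
theorem check : checkHyp C rels subw = true :=
  Cfsg.Agent.SporadicRecognition.HypFast.check_fast (by decide +kernel)

end K10

namespace K11

noncomputable def tree : Tr := (.L
  0x9de56717ffffdaafffff2bdfff627ffffdbbb67ff5ba19afffffffeb8b29680c17fffffffffea951d791cdbffa57ffffe8a561260d15059affffffffffd376e05db458e4fff25c5e454d4cc17cfff3d6248d2136dc5e4187ffd948324e045287fffffff107fffffff3ffc73350522c43108411f)
noncomputable def wtree : WT :=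
  (by
  refine (?fq9013 : ((pk61r (fun r0 j => pk61f j fun i1 => (pk61f (pk61d (nat_lit 4) 
    (nat_lit 0xa987ba96587643254310210) i1) fun u7 => (pk61f (pk61d (nat_lit 1) 
    (nat_lit 0x78c718) i1) fun t1_0 => (pk61c (Nat.div t1_0 (nat_lit 1)) (_root_.Cfsg.Agent.SporadicRecognition.CosetCert.WT.L (pk61d (nat_lit 3) 
    (nat_lit 0xff95c1431) u7) ((fun g1 : Nat → Nat => pk61l (fun i2 => (pk61d (nat_lit 3) 
    (nat_lit 0x420b04559a9566a226820e455585586183041941075555a2db8820d) i2)) (g1 u7) (g1 (Nat.succ u7)) List.nil) fun j => (pk61d (nat_lit 7) 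
    (nat_lit 0x4a88cd6294274b911824380) j))) fun _ => (_root_.Cfsg.Agent.SporadicRecognition.CosetCert.WT.N (pk61d (nat_lit 4) 
    (nat_lit 0x69ab7834512) u7) (r0 (Nat.sub i1 (pk61d (nat_lit 4) 
    (nat_lit 0xc6424264242) u7))) (r0 (Nat.sub i1 (nat_lit 1)))))))) (_root_.Cfsg.Agent.SporadicRecognition.CosetCert.WT.L (nat_lit 0) List.nil) (nat_lit 5) (nat_lit 22)) : WT)
    = ?xq9013 → (WT)) ?hq9013; (case hq9013 => (set_option maxRecDepth 1000000 in conv => lhs; reduce)); intro _; exact ?xq9013 : WT)
noncomputable def stree : _root_.Cfsg.Agent.SporadicRecognition.CosetCert.ST := beta% (fun (N : Nat → _root_.Cfsg.Agent.SporadicRecognition.CosetCert.ST → _root_.Cfsg.Agent.SporadicRecognition.CosetCert.ST → _root_.Cfsg.Agent.SporadicRecognition.CosetCert.ST) (L : Nat → List Nat → List Nat → _root_.Cfsg.Agent.SporadicRecognition.CosetCert.ST) (c :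
  Nat → List Nat → List Nat) (n : List Nat) => (N 3 (N 1 (L 0 n n) (N 2 (L 1 n n) (L 2 n n))) (N 4 (L 2 (c 6 n)
  (c 6 n)) (N 5 (L 7 (c 4 n) n) (L 5 (c 5 (c 3 (c 5 (c 0 (c 1 (c 0 (c 6 (c 2 n)))))))) (c 5 (c 3 n))))))) ST.N
  ST.L (@List.cons Nat) (@List.nil Nat)
noncomputable def C : Cert where
  data := tree
  lm := 15
  rb := 84
  fb := 10
  mask := 1023
  B := 16
  k := 7
  N := 11
  inv := fun x => bif Nat.beq x 0 then 0 else bif Nat.beq x 1 then 1 else bif Nat.beq x 2 then 2 else bif Nat.beq x 3 then 4 else bif Nat.beq x 4 then 3 else bif Nat.beq x 5 then 6 else bif Nat.beq x 6 then 5 else x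
  words := wtree
  subs := stree

noncomputable def subw : List (List Nat) := [[0], [1], [2], [4,2,3], [6,2,5], [3], [4], [5,3,5,0,1,0,6,2,5,4,6]]
private theorem alC : Cfsg.Agent.SporadicRecognition.CertFast.al (Nat.succ C.lm) C.data = true := by decide +kernel

theorem c0 : _root_.Cfsg.Agent.SporadicRecognition.CosetCert.Part C 0 11 1 := Cfsg.Agent.SporadicRecognition.CertFast.part_fast C alC 1 (by decide +kernel : Cfsg.Agent.SporadicRecognition.CertFast.runF C 8 255 0x1355000001000000010000020200020000000283010000000073010200a40000a40201010200000000020202010074745301020002334302130100343503230000000100000002020214251505 15 32767 0x19bc0b8093d2ae028f2ab823701668d5c0228000 0 11 = 2)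
theorem part : _root_.Cfsg.Agent.SporadicRecognition.CosetCert.Part C 0 C.N 1 := c0
theorem check : checkHyp C rels subw = true :=
  Cfsg.Agent.SporadicRecognition.HypFast.check_fast (by decide +kernel)

end K11

namespace K12

noncomputable def tree : Tr := (.N 16 (.L
  0xfffca6649892f46346be2ab22f3fffc4ae22288648846421f32104fffa1a96ab01985aa64500cb951fff9f34fdb2fa70c1d95b307ad2fffc9c1df26c533235e0e0a74b3fffa7459ee60a2d1afd8c9472c3fffacd509c5432f5ab50c5658a4273909860bffffff8b23ffe46622937ffc50fffffff8ba7ffe4a75fff8aa0a0aa7351909192e24c82fff88148928f0457899d05c4896fff8ca444c1c43561e34dd84054fff86046c668c0f28f107c83a36fff8d101825cb2b5040c24638450a0ffffffffff040ffffffffff3fff838c3480a20b08184082021f)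
  (.L
  0xfffd3ee9b74369ea52ee8b749a3fffce6a775338966cdea6b547b3fffbb32560ff58173dd5f6ef316fffb9d1d2ce2d98d3531b5adf62867b32da63fffffffffdf33fff6fffbae18e8cb4a0daf2d868dd82fffadb961508e7ecbd662e0bae5fffb159cb13fb64b2aa982caf428f3ffffffffff523ffffffffff38e3ffffffea07549ffffffffff4fffb45d3d7051838a6b928ef191))
noncomputable def wtree : WT :=
  (by
  refine (?fq9014 : ((pk61r (fun r0 j => pk61f j fun i1 => (pk61f (pk61d (nat_lit 5) 
    (nat_lit 0x7bbcdebfecf798bef56ce2b49ded2ad2309c9f1839ac5bdca6b1285a8e9418a4398652082310020) i1) fun u7 => (pk61f (pk61d (nat_lit 1) 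
    (nat_lit 0x7c99393279327264) i1) fun t1_0 => (pk61c (Nat.div t1_0 (nat_lit 1)) (_root_.Cfsg.Agent.SporadicRecognition.CosetCert.WT.L (pk61d (nat_lit 3) 
    (nat_lit 0xb96a3f923ac8b95c0be01431) u7) ((fun g1 : Nat → Nat => pk61l (fun i2 => (pk61d (nat_lit 3) 
    (nat_lit 0x9a69a692cb2c8a2841189a4105885884165920880420a9560414d4ab5965950ab0a945122b0db1c4104a26820aaaa84170c92aaaa413041941075555a2db8820d) i2)) (g1 u7) (g1 (Nat.succ u7)) List.nil) fun j => (pk61d (nat_lit 8) 
    (nat_lit 0xaca39c97918b86807c7671615a524d4a47453e3b35302b2826201d17110c090700) j))) fun _ => (_root_.Cfsg.Agent.SporadicRecognition.CosetCert.WT.N (pk61d (nat_lit 5) 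
    (nat_lit 0x431cf7fbade696bd6538a18e7b54b490c728861) u7) (r0 (Nat.sub i1 (pk61d (nat_lit 6) 
    (nat_lit 0x20408102084082204082102090204082102088102084082) u7))) (r0 (Nat.sub i1 (nat_lit 1)))))))) (_root_.Cfsg.Agent.SporadicRecognition.CosetCert.WT.L (nat_lit 0) List.nil) (nat_lit 6) (nat_lit 62)) : WT)
    = ?xq9014 → (WT)) ?hq9014; (case hq9014 => (set_option maxRecDepth 1000000 in conv => lhs; reduce)); intro _; exact ?xq9014 : WT)
noncomputable def stree : _root_.Cfsg.Agent.SporadicRecognition.CosetCert.ST := beta% (fun (N : Nat → _root_.Cfsg.Agent.SporadicRecognition.CosetCert.ST → _root_.Cfsg.Agent.SporadicRecognition.CosetCert.ST → _root_.Cfsg.Agent.SporadicRecognition.CosetCert.ST) (L : Nat → List Nat → List Nat → _root_.Cfsg.Agent.SporadicRecognition.CosetCert.ST) (c :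
  Nat → List Nat → List Nat) (n : List Nat) => (N 3 (N 1 (L 0 n n) (N 2 (L 1 n n) (L 2 n n))) (N 4 (L 2 (c 6 n)
  (c 6 n)) (N 5 (L 7 (c 4 n) n) (L 5 (c 5 (c 3 (c 5 (c 2 (c 6 (c 2 n)))))) (c 5 (c 3 n))))))) ST.N ST.L
  (@List.cons Nat) (@List.nil Nat)
noncomputable def C : Cert where
  data := tree
  lm := 15
  rb := 108
  fb := 13
  mask := 8191
  B := 32
  k := 7
  N := 27
  inv := fun x => bif Nat.beq x 0 then 0 else bif Nat.beq x 1 then 1 else bif Nat.beq x 2 then 2 else bif Nat.beq x 3 then 4 else bif Nat.beq x 4 then 3 else bif Nat.beq x 5 then 6 else bif Nat.beq x 6 then 5 else x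
  words := wtree
  subs := stree

noncomputable def subw : List (List Nat) := [[0], [1], [2], [4,2,3], [6,2,5], [3], [4], [5,3,5,2,6,2,5,4,6]]
private theorem alC : Cfsg.Agent.SporadicRecognition.CertFast.al (Nat.succ C.lm) C.data = true := by decide +kernel

theorem c0 : _root_.Cfsg.Agent.SporadicRecognition.CosetCert.Part C 0 27 21 := Cfsg.Agent.SporadicRecognition.CertFast.part_fast C alC 21 (by decide +kernel : Cfsg.Agent.SporadicRecognition.CertFast.runF C 9 511 0x2f980803d34980bc60201007a6935180404020100804020130c04830080804010100000002180004020120c0202318080373a18cc040259ccc052300c4cc60000000020000000000000a0c00000004c0563010080223e1ecc04010124c0564b200506d3b268c04f3a9809a60181acc04029180626630100804010100804e30100802020128c04c300a0c04932984caa0000004002300004000001000c6024200804010100802020100804020100804014180926530080804021990c04130080804350188c00000000400000000804020a0942a05 17 131071 0x60c000000000000344dc032c0000000000000000000000000000000000007683038000000000000000000000008a0000 0 27 = 22)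
theorem part : _root_.Cfsg.Agent.SporadicRecognition.CosetCert.Part C 0 C.N 21 := c0
theorem check : checkHyp C rels subw = true :=
  Cfsg.Agent.SporadicRecognition.HypFast.check_fast (by decide +kernel)

end K12

namespace K13

noncomputable def tree : Tr := (.L
  0xa1e767d7ffffddcfffff2c67ff6efffffdedfffff5ca1ccfffffffd9afff0a2ce7ffb63ffffdab5e6fb1d1bffffffffffff629580d9ecafffffffee64dd691f46b6a97ffffe9c521160f04f5ffffffffffd59276ec60d418d4fffffdd6654e0cb188fff397ff952436e8614187ffe57ff20e345247fffffff107fffffff3ffc73310522843108411f)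
noncomputable def wtree : WT :=
  (by
  refine (?fq9015 : ((pk61r (fun r0 j => pk61f j fun i1 => (pk61f (pk61d (nat_lit 4) 
    (nat_lit 0xa987ba96587643254310210) i1) fun u7 => (pk61f (pk61d (nat_lit 1) 
    (nat_lit 0x78c718) i1) fun t1_0 => (pk61c (Nat.div t1_0 (nat_lit 1)) (_root_.Cfsg.Agent.SporadicRecognition.CosetCert.WT.L (pk61d (nat_lit 3) 
    (nat_lit 0xff85b8231) u7) ((fun g1 : Nat → Nat => pk61l (fun i2 => (pk61d (nat_lit 3) 
    (nat_lit 0x84168a228b56156596588231c3060832820ea2db8820d) i2)) (g1 u7) (g1 (Nat.succ u7)) List.nil) fun j => (pk61d (nat_lit 6) 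
    (nat_lit 0x3ddf3be789c6123091c0) j))) fun _ => (_root_.Cfsg.Agent.SporadicRecognition.CosetCert.WT.N (pk61d (nat_lit 4) 
    (nat_lit 0x69ab7834512) u7) (r0 (Nat.sub i1 (pk61d (nat_lit 4) 
    (nat_lit 0xc6424264242) u7))) (r0 (Nat.sub i1 (nat_lit 1)))))))) (_root_.Cfsg.Agent.SporadicRecognition.CosetCert.WT.L (nat_lit 0) List.nil) (nat_lit 5) (nat_lit 22)) : WT)
    = ?xq9015 → (WT)) ?hq9015; (case hq9015 => (set_option maxRecDepth 1000000 in conv => lhs; reduce)); intro _; exact ?xq9015 : WT)
noncomputable def stree : _root_.Cfsg.Agent.SporadicRecognition.CosetCert.ST := beta% (fun (N : Nat → _root_.Cfsg.Agent.SporadicRecognition.CosetCert.ST → _root_.Cfsg.Agent.SporadicRecognition.CosetCert.ST → _root_.Cfsg.Agent.SporadicRecognition.CosetCert.ST) (L : Nat → List Nat → List Nat → _root_.Cfsg.Agent.SporadicRecognition.CosetCert.ST) (c :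
  Nat → List Nat → List Nat) (n : List Nat) => (N 2 (N 1 (L 0 n n) (L 1 n n)) (N 3 (L 2 n n) (N 4 (L 7 (c 4 n)
  n) (L 5 (c 5 (c 3 (c 5 (c 0 (c 1 (c 0 (c 1 (c 2 (c 6 (c 2 n)))))))))) (c 5 (c 3 n))))))) ST.N ST.L
  (@List.cons Nat) (@List.nil Nat)
noncomputable def C : Cert where
  data := tree
  lm := 15
  rb := 84
  fb := 10
  mask := 1023
  B := 16
  k := 7
  N := 13
  inv := fun x => bif Nat.beq x 0 then 0 else bif Nat.beq x 1 then 1 else bif Nat.beq x 2 then 2 else bif Nat.beq x 3 then 4 else bif Nat.beq x 4 then 3 else bif Nat.beq x 5 then 6 else bif Nat.beq x 6 then 5 else x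
  words := wtree
  subs := stree

noncomputable def subw : List (List Nat) := [[0], [1], [2], [4,2,3], [6,2,5], [3], [4], [5,3,5,0,1,0,1,2,6,2,5,4,6]]
private theorem alC : Cfsg.Agent.SporadicRecognition.CertFast.al (Nat.succ C.lm) C.data = true := by decide +kernel

theorem c0 : _root_.Cfsg.Agent.SporadicRecognition.CosetCert.Part C 0 13 1 := Cfsg.Agent.SporadicRecognition.CertFast.part_fast C alC 1 (by decide +kernel : Cfsg.Agent.SporadicRecognition.CertFast.runF C 8 255 0x134500000100000001000002000002000000010002000200000201830000000000020163000000730102c4c40000c40201010000000094020202010000334301020002003302130100340003230000000100000002020214251505 15 32767 0x560126029bd03fa27b20e119c22b823701668d5c01a8000 0 13 = 2)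
theorem part : _root_.Cfsg.Agent.SporadicRecognition.CosetCert.Part C 0 C.N 1 := c0
theorem check : checkHyp C rels subw = true :=
  Cfsg.Agent.SporadicRecognition.HypFast.check_fast (by decide +kernel)

end K13

namespace K14

noncomputable def tree : Tr := (.L
  0xdf3fffffffa93ffb57ff3ec7fffffff9cfffffeed3d9728bde43fffffa726b4d23ff657ffffd79ffe162cdfff563ffffd8afffff5f4569c6fffffd37ffe372d5b0bfffffffd4845a281f04f5ffffffffff49fff6e85aa418d4fffffb36054e0cb170ebd397ff7d1e36e45b41868c96fff20dd45247fffffff107fffffff3ffc73310522843108411f)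
noncomputable def wtree : WT :=
  (by
  refine (?fq9016 : ((pk61r (fun r0 j => pk61f j fun i1 => (pk61f (pk61d (nat_lit 4) 
    (nat_lit 0x9876a9854765321432010) i1) fun u7 => (pk61f (pk61d (nat_lit 1) 
    (nat_lit 0x1e31c4) i1) fun t1_0 => (pk61c (Nat.div t1_0 (nat_lit 1)) (_root_.Cfsg.Agent.SporadicRecognition.CosetCert.WT.L (pk61d (nat_lit 3) 
    (nat_lit 0x1ed040231) u7) ((fun g1 : Nat → Nat => pk61l (fun i2 => (pk61d (nat_lit 3) 
    (nat_lit 0xdb0c0d04184170cab0ab260832820ea2db8820d) i2)) (g1 u7) (g1 (Nat.succ u7)) List.nil) fun j => (pk61d (nat_lit 6) 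
    (nat_lit 0xd31ba88e06123091c0) j))) fun _ => (_root_.Cfsg.Agent.SporadicRecognition.CosetCert.WT.N (pk61d (nat_lit 4) 
    (nat_lit 0x589a672341) u7) (r0 (Nat.sub i1 (pk61d (nat_lit 4) 
    (nat_lit 0xc642426422) u7))) (r0 (Nat.sub i1 (nat_lit 1)))))))) (_root_.Cfsg.Agent.SporadicRecognition.CosetCert.WT.L (nat_lit 0) List.nil) (nat_lit 5) (nat_lit 20)) : WT)
    = ?xq9016 → (WT)) ?hq9016; (case hq9016 => (set_option maxRecDepth 1000000 in conv => lhs; reduce)); intro _; exact ?xq9016 : WT)
noncomputable def stree : _root_.Cfsg.Agent.SporadicRecognition.CosetCert.ST := beta% (fun (N : Nat → _root_.Cfsg.Agent.SporadicRecognition.CosetCert.ST → _root_.Cfsg.Agent.SporadicRecognition.CosetCert.ST → _root_.Cfsg.Agent.SporadicRecognition.CosetCert.ST) (L : Nat → List Nat → List Nat → _root_.Cfsg.Agent.SporadicRecognition.CosetCert.ST) (c :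
  Nat → List Nat → List Nat) (n : List Nat) => (N 2 (N 1 (L 0 n n) (L 1 n n)) (N 3 (L 2 n n) (N 4 (L 7 (c 4 n)
  n) (L 5 (c 5 (c 3 (c 5 (c 1 (c 2 (c 6 (c 2 n))))))) (c 5 (c 3 n))))))) ST.N ST.L (@List.cons Nat) (@List.nil
  Nat)
noncomputable def C : Cert where
  data := tree
  lm := 15
  rb := 84
  fb := 10
  mask := 1023
  B := 16
  k := 7
  N := 13
  inv := fun x => bif Nat.beq x 0 then 0 else bif Nat.beq x 1 then 1 else bif Nat.beq x 2 then 2 else bif Nat.beq x 3 then 4 else bif Nat.beq x 4 then 3 else bif Nat.beq x 5 then 6 else bif Nat.beq x 6 then 5 else x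
  words := wtree
  subs := stree

noncomputable def subw : List (List Nat) := [[0], [1], [2], [4,2,3], [6,2,5], [3], [4], [5,3,5,1,2,6,2,5,4,6]]
private theorem alC : Cfsg.Agent.SporadicRecognition.CertFast.al (Nat.succ C.lm) C.data = true := by decide +kernel

theorem c0 : _root_.Cfsg.Agent.SporadicRecognition.CosetCert.Part C 0 13 1 := Cfsg.Agent.SporadicRecognition.CertFast.part_fast C alC 1 (by decide +kernel : Cfsg.Agent.SporadicRecognition.CertFast.runF C 8 255 0x1000200000000010000730283010000634300450000010023000100000200000293000001000202000000020153010000000002000202010000634301020202003302130102020003230000000100000002020214251505 16 65535 0xa41702479757682700a60467970704570237a447235700350000 0 13 = 2)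
theorem part : _root_.Cfsg.Agent.SporadicRecognition.CosetCert.Part C 0 C.N 1 := c0
theorem check : checkHyp C rels subw = true :=
  Cfsg.Agent.SporadicRecognition.HypFast.check_fast (by decide +kernel)

end K14

namespace K15

noncomputable def tree : Tr := (.N 16 (.L
  0xfffe6dd917289e9f7524597752d02fffd5924524f853b1259d401508e3fffd0c8482ce0d350e39c3a3504f3fffdc5a4e44c83373a25b3938d0d4291c9c61e17ffffffc70bfffffff2fffd1ce1a2a086815074c312549252d206cbffffffffffc609fffffff2fffd18f5449b9a6c6464a302c5880fffcbcb44399d8635cb89141c5c91fffcb062b158565f54a8b15204860fffc40528316d4594d4524d444c76fffc7cc11183843d3d2903f3c9854fffc301210cf0f0f1490425108c36fffc8040604d8e3334203090c88450a07ffffffffff0407ffffffffff3fffc1c30d101420b040c10204041f)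
  (.L
  0xfffebdfb07ea9ca76eb9fab7eb5e3fffec9eb17a91da14299ea57ab1f3fffe79c9c42810a37a54f984269c2fffe4909d7651ba97e34e906e65d2fffe2db8c6ea1f937220d8f7229b2fffdcd17235c196d261d17749d5137947ffffffdac96f6bffffffffff47e21a93fffffff6623ffffffffff37c23ffffffd8886863fff655bfff47d1fffffffffff601ffff645ffff37f1fffffffd787ffffffffffffff4834bffffffd7535a1bffffffffff3802ffff69616065c53ffffffffff4fffd549573e14b841940678694cb2fffd3cd7469ec97a6a19a4c19d9a1))
noncomputable def wtree : WT :=
  (by
  refine (?fq9017 : ((pk61r (fun r0 j => pk61f j fun i1 => (pk61f (pk61d (nat_lit 5) 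
    (nat_lit 0x1de6f59f771cddedacd717a4e56ac69383e51741ed62d4e6a58b41d49320e520cc51106100820) i1) fun u7 => (pk61f (pk61d (nat_lit 1) 
    (nat_lit 0x1f264e4c9e4c9c98) i1) fun t1_0 => (pk61c (Nat.div t1_0 (nat_lit 1)) (_root_.Cfsg.Agent.SporadicRecognition.CosetCert.WT.L (pk61d (nat_lit 3) 
    (nat_lit 0x99cbfe753ad1ae059fc1431) u7) ((fun g1 : Nat → Nat => pk61l (fun i2 => (pk61d (nat_lit 3) 
    (nat_lit 0x228a28a2452aaa28c0c1059044021058231b2cb2c9a69a68cb590ab059646820a081071181c4106105c324c68202ab0ab6183041941075555a2db8820d) i2)) (g1 u7) (g1 (Nat.succ u7)) List.nil) fun j => (pk61d (nat_lit 8) 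
    (nat_lit 0xa29d9895908d867f79736c636058534d4a44413a3532302a211d17110c090700) j))) fun _ => (_root_.Cfsg.Agent.SporadicRecognition.CosetCert.WT.N (pk61d (nat_lit 5) 
    (nat_lit 0x1f7df7dcceb13ada91940eb6b9895206531022) u7) (r0 (Nat.sub i1 (pk61d (nat_lit 6) 
    (nat_lit 0x810204082102088102084082408102084082204082102) u7))) (r0 (Nat.sub i1 (nat_lit 1)))))))) (_root_.Cfsg.Agent.SporadicRecognition.CosetCert.WT.L (nat_lit 0) List.nil) (nat_lit 6) (nat_lit 60)) : WT)
    = ?xq9017 → (WT)) ?hq9017; (case hq9017 => (set_option maxRecDepth 1000000 in conv => lhs; reduce)); intro _; exact ?xq9017 : WT)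
noncomputable def stree : _root_.Cfsg.Agent.SporadicRecognition.CosetCert.ST := beta% (fun (N : Nat → _root_.Cfsg.Agent.SporadicRecognition.CosetCert.ST → _root_.Cfsg.Agent.SporadicRecognition.CosetCert.ST → _root_.Cfsg.Agent.SporadicRecognition.CosetCert.ST) (L : Nat → List Nat → List Nat → _root_.Cfsg.Agent.SporadicRecognition.CosetCert.ST) (c :
  Nat → List Nat → List Nat) (n : List Nat) => (N 3 (N 1 (L 0 n n) (N 2 (L 1 n n) (L 2 n n))) (N 4 (L 2 (c 6 n)
  (c 6 n)) (N 5 (L 7 (c 4 n) n) (L 5 (c 5 (c 3 (c 5 (c 0 (c 1 (c 0 (c 2 (c 6 (c 2 n))))))))) (c 5 (c 3 n)))))))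
  ST.N ST.L (@List.cons Nat) (@List.nil Nat)
noncomputable def C : Cert where
  data := tree
  lm := 15
  rb := 116
  fb := 14
  mask := 16383
  B := 64
  k := 7
  N := 31
  inv := fun x => bif Nat.beq x 0 then 0 else bif Nat.beq x 1 then 1 else bif Nat.beq x 2 then 2 else bif Nat.beq x 3 then 4 else bif Nat.beq x 4 then 3 else bif Nat.beq x 5 then 6 else bif Nat.beq x 6 then 5 else x
  words := wtree
  subs := stree

noncomputable def subw : List (List Nat) := [[0], [1], [2], [4,2,3], [6,2,5], [3], [4], [5,3,5,0,1,0,2,6,2,5,4,6]]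
private theorem alC : Cfsg.Agent.SporadicRecognition.CertFast.al (Nat.succ C.lm) C.data = true := by decide +kernel

theorem c0 : _root_.Cfsg.Agent.SporadicRecognition.CosetCert.Part C 0 31 21 := Cfsg.Agent.SporadicRecognition.CertFast.part_fast C alC 21 (by decide +kernel : Cfsg.Agent.SporadicRecognition.CertFast.runF C 9 511 0x1530100803e351808054301007c6a35980804024980404020144c049300809e7b30100ba601e1bcc2602010040563118000001498000000010000001000000000000052600010000000000040133000000001000000000000000401000000000a180526000000004029a4d00202010080584c268c0202d9c4c05d300f0de72369808020201009860201004040259d4e06014980946530995400000080000e300c924802013cc04000000002000000a26020100906014a00804024a00404b45a00804b40100402020100804020100804014980946530080804021990c04130080804350188c00000000400000000804020a0942a05 19 524287 0x1733ac6e00618eb0bd46370032c75d9c0000000000000000000000000000000cc0000000398000000000000000000000000000000000002280000 0 31 = 22)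
theorem part : _root_.Cfsg.Agent.SporadicRecognition.CosetCert.Part C 0 C.N 21 := c0
theorem check : checkHyp C rels subw = true :=
  Cfsg.Agent.SporadicRecognition.HypFast.check_fast (by decide +kernel)

end K15

end Cfsg.Agent.LargeExtra.SuzPlaneCert
end

-- part: LargeExtra/SuzPlane
section
/-!
The relation `(r t u)^5 = 1` in `C_G(A₄) ≅ L₃(4)` for groups of Suzuki type.
-/

set_option autoImplicit false
set_option linter.unusedSectionVars false

namespace Cfsg.Agent.LargeExtra.SuzPlane

open Cfsg.Agent.LargeExtra.PlaneOff Cfsg.Agent.LargeExtra.ElemSixteen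

variable {M : Type*} [Group M]

structure Rels (x y r t u : M) : Prop where
  x2 : x * x = 1
  y2 : y * y = 1
  r2 : r * r = 1
  xy4 : (x * y) ^ 4 = 1
  t3 : t ^ 3 = 1
  u3 : u ^ 3 = 1
  tz : t⁻¹ * (x * y) ^ 2 * t = x
  tx : t⁻¹ * x * t = (x * y) ^ 2 * x
  ty : y * t * y * t = 1
  uz : u⁻¹ * (x * y) ^ 2 * u = y
  uy : u⁻¹ * y * u = (x * y) ^ 2 * y
  ux : x * u * x * u = 1
  rx : r * x = x * r
  ry : r * y = y * r
  rt : (r * t) ^ 3 = 1
  ru : (r * u) ^ 3 = 1
  ab : ((t⁻¹ * r * t) * (u⁻¹ * r * u)) ^ 2 = (x * y) ^ 2 * r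

/-- inverse of an involution -/
theorem inv_of_sq {e : M} (h : e * e = 1) : e⁻¹ = e := inv_eq_of_mul_eq_one_right h

namespace Rels

variable {x y r t u : M} (h : Rels x y r t u)
include h

theorem z2 : (x * y) ^ 2 * (x * y) ^ 2 = 1 := by rw [← pow_add]; exact h.xy4

theorem yxy : y * x * y = (x * y) ^ 2 * x := by
  have h1 := h.xy4
  have hx := inv_of_sq h.x2
  have hy := inv_of_sq h.y2
  have h2 : (x * y) ^ 2 = (y * x) ^ 2 := by
    have h3 : ((x * y) ^ 2)⁻¹ = (x * y) ^ 2 := inv_of_sq h.z2
    rw [← h3, ← inv_pow, mul_inv_rev, hx, hy]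
  calc y * x * y = (y * x) ^ 2 * x := by
        rw [pow_two]
        calc y * x * y = y * x * y * (x * x) := by rw [h.x2, mul_one]
          _ = y * x * (y * x) * x := by group
    _ = (x * y) ^ 2 * x := by rw [h2]

theorem yx2 : (y * x) ^ 2 = (x * y) ^ 2 := by
  have h3 : ((x * y) ^ 2)⁻¹ = (x * y) ^ 2 := inv_of_sq h.z2
  rw [← h3, ← inv_pow, mul_inv_rev, inv_of_sq h.x2, inv_of_sq h.y2]

theorem zx : (x * y) ^ 2 * x = x * (x * y) ^ 2 := by
  have h1 : (x * y) ^ 2 * x = x * (y * x) ^ 2 := by rw [pow_two, pow_two]; group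
  rw [h1, h.yx2]

theorem zy : (x * y) ^ 2 * y = y * (x * y) ^ 2 := by
  have h1 : (y * x) ^ 2 * y = y * (x * y) ^ 2 := by rw [pow_two, pow_two]; group
  rw [← h1, h.yx2]

theorem zr : (x * y) ^ 2 * r = r * (x * y) ^ 2 := by
  have h1 : r * (x * y) = (x * y) * r := by rw [← mul_assoc, h.rx, mul_assoc, h.ry, mul_assoc]
  have h2 : Commute r (x * y) := h1
  exact (h2.pow_right 2).eq.symm

theorem ty' : y * t * y = t⁻¹ := eq_inv_of_mul_eq_one_left h.ty

theorem swap : Rels y x r u t where
  x2 := h.y2
  y2 := h.x2
  r2 := h.r2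
  xy4 := by
    rw [show (y * x) ^ 4 = (y * x) ^ 2 * (y * x) ^ 2 by rw [← pow_add], h.yx2, h.z2]
  t3 := h.u3
  u3 := h.t3
  tz := by rw [h.yx2]; exact h.uz
  tx := by rw [h.yx2]; exact h.uy
  ty := h.ux
  uz := by rw [h.yx2]; exact h.tz
  uy := by rw [h.yx2]; exact h.tx
  ux := h.ty
  rx := h.ry
  ry := h.rx
  rt := h.ru
  ru := h.rt
  ab := by
    have ha : (t⁻¹ * r * t)⁻¹ = t⁻¹ * r * t := by
      rw [mul_inv_rev, mul_inv_rev, inv_inv, inv_of_sq h.r2, mul_assoc]
    have hb : (u⁻¹ * r * u)⁻¹ = u⁻¹ * r * u := by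
      rw [mul_inv_rev, mul_inv_rev, inv_inv, inv_of_sq h.r2, mul_assoc]
    have h1 : u⁻¹ * r * u * (t⁻¹ * r * t) = (t⁻¹ * r * t * (u⁻¹ * r * u))⁻¹ := by
      rw [mul_inv_rev, ha, hb]
    rw [h1, inv_pow, h.ab, h.yx2]
    apply inv_of_sq
    rw [mul_assoc, ← mul_assoc r, ← h.zr, mul_assoc, h.r2, mul_one, h.z2]

/-- `t z t⁻¹ = z x` -/
theorem tzt : t * (x * y) ^ 2 * t⁻¹ = (x * y) ^ 2 * x := by
  have h1 : t⁻¹ * ((x * y) ^ 2 * x) * t = (x * y) ^ 2 := by
    calc t⁻¹ * ((x * y) ^ 2 * x) * t = (t⁻¹ * (x * y) ^ 2 * t) * (t⁻¹ * x * t) := by group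
      _ = x * ((x * y) ^ 2 * x) := by rw [h.tz, h.tx]
      _ = (x * y) ^ 2 := by rw [h.zx, ← mul_assoc, h.x2, one_mul]
  have h2 : t * (t⁻¹ * ((x * y) ^ 2 * x) * t) * t⁻¹ = (x * y) ^ 2 * x := by group
  rw [h1] at h2
  exact h2

theorem a2 : (t⁻¹ * r * t) * (t⁻¹ * r * t) = 1 := by
  calc (t⁻¹ * r * t) * (t⁻¹ * r * t) = t⁻¹ * (r * r) * t := by group
    _ = 1 := by rw [h.r2]; group

/-- `t r t⁻¹ = r a` -/
theorem trt : t * r * t⁻¹ = r * (t⁻¹ * r * t) := by
  have h1 := h.rt
  have h2 : (r * t) ^ 3 = r * (t * r * t⁻¹) * (t ^ 2 * r * t) := by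
    rw [pow_succ, pow_two]; group
  have h3 : t ^ 2 = t⁻¹ := by
    apply eq_inv_of_mul_eq_one_left
    rw [← pow_succ]; exact h.t3
  rw [h2, h3] at h1
  have h4 : t * r * t⁻¹ = r⁻¹ * (t⁻¹ * r * t)⁻¹ := by
    rw [mul_eq_one_iff_eq_inv] at h1
    rw [← h1]; group
  rw [h4, inv_of_sq h.r2, inv_of_sq h.a2]

theorem ra : r * (t⁻¹ * r * t) = (t⁻¹ * r * t) * r := by
  have h1 : (t * r * t⁻¹) * (t * r * t⁻¹) = 1 := by
    calc (t * r * t⁻¹) * (t * r * t⁻¹) = t * (r * r) * t⁻¹ := by group
      _ = 1 := by rw [h.r2]; group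
  rw [h.trt] at h1
  have h2 := inv_of_sq h1
  rw [mul_inv_rev, inv_of_sq h.a2, inv_of_sq h.r2] at h2
  exact h2.symm

/-- `t⁻¹ a t = r a` -/
theorem tat : t⁻¹ * (t⁻¹ * r * t) * t = r * (t⁻¹ * r * t) := by
  rw [← h.trt]
  have h3 : t⁻¹ * t⁻¹ = t := by
    have h4 : t * t * t = 1 := by
      have := h.t3
      rw [pow_succ, pow_two] at this
      exact this
    rw [← mul_inv_rev]
    exact inv_eq_of_mul_eq_one_right h4
  have h5 : t * t = t⁻¹ := by
    apply eq_inv_of_mul_eq_one_left
    have := h.t3
    rw [pow_succ, pow_two] at this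
    exact this
  calc t⁻¹ * (t⁻¹ * r * t) * t = (t⁻¹ * t⁻¹) * r * (t * t) := by group
    _ = t * r * t⁻¹ := by rw [h3, h5]

theorem za : (x * y) ^ 2 * (t⁻¹ * r * t) = (t⁻¹ * r * t) * (x * y) ^ 2 := by
  have h1 : ((x * y) ^ 2 * x) * r = r * ((x * y) ^ 2 * x) := by
    rw [mul_assoc, ← h.rx, ← mul_assoc, h.zr, mul_assoc]
  have h2 : t⁻¹ * ((x * y) ^ 2 * x) * t = (x * y) ^ 2 := by rw [← h.tzt]; group
  calc (x * y) ^ 2 * (t⁻¹ * r * t) = (t⁻¹ * ((x * y) ^ 2 * x) * t) * (t⁻¹ * r * t) := by rw [h2]
    _ = t⁻¹ * (((x * y) ^ 2 * x) * r) * t := by group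
    _ = t⁻¹ * (r * ((x * y) ^ 2 * x)) * t := by rw [h1]
    _ = (t⁻¹ * r * t) * (t⁻¹ * ((x * y) ^ 2 * x) * t) := by group
    _ = (t⁻¹ * r * t) * (x * y) ^ 2 := by rw [h2]

theorem xa : x * (t⁻¹ * r * t) = (t⁻¹ * r * t) * x := by
  have h2 := h.tz
  calc x * (t⁻¹ * r * t) = (t⁻¹ * (x * y) ^ 2 * t) * (t⁻¹ * r * t) := by rw [h2]
    _ = t⁻¹ * ((x * y) ^ 2 * r) * t := by group
    _ = t⁻¹ * (r * (x * y) ^ 2) * t := by rw [h.zr]
    _ = (t⁻¹ * r * t) * (t⁻¹ * (x * y) ^ 2 * t) := by group
    _ = (t⁻¹ * r * t) * x := by rw [h2]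

/-- `y a y = r a` -/
theorem yay : y * (t⁻¹ * r * t) * y = r * (t⁻¹ * r * t) := by
  have h1 : t * y = y * t⁻¹ := by
    rw [← h.ty']
    calc t * y = (y * y) * t * y := by rw [h.y2, one_mul]
      _ = y * (y * t * y) := by group
  have h2 : y * t⁻¹ = t * y := h1.symm
  have e : ∀ p q p' q' : M, p = p' → q = q' → p * r * q = p' * r * q' := by
    rintro _ _ _ _ rfl rfl; rfl
  calc y * (t⁻¹ * r * t) * y = (y * t⁻¹) * r * (t * y) := by group
    _ = (t * y) * r * (y * t⁻¹) := e _ _ _ _ h2 h1
    _ = t * (y * r) * y * t⁻¹ := by group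
    _ = t * r * (y * y) * t⁻¹ := by rw [← h.ry]; group
    _ = t * r * t⁻¹ := by rw [h.y2]; group
    _ = r * (t⁻¹ * r * t) := h.trt

/-- `b x b = x r` -/
theorem bxb : (u⁻¹ * r * u) * x * (u⁻¹ * r * u) = x * r := by
  have h1 := h.swap.yay
  have hb := h.swap.a2
  calc (u⁻¹ * r * u) * x * (u⁻¹ * r * u) = (x * x) * (u⁻¹ * r * u) * x * (u⁻¹ * r * u) := by
        rw [h.x2, one_mul]
    _ = x * (x * (u⁻¹ * r * u) * x) * (u⁻¹ * r * u) := by group
    _ = x * (r * (u⁻¹ * r * u)) * (u⁻¹ * r * u) := by rw [h1]
    _ = x * r * ((u⁻¹ * r * u) * (u⁻¹ * r * u)) := by group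
    _ = x * r := by rw [hb, mul_one]

/-- `b a b = z r a` -/
theorem bab : (u⁻¹ * r * u) * (t⁻¹ * r * t) * (u⁻¹ * r * u) = (x * y) ^ 2 * r * (t⁻¹ * r * t) := by
  have h1 := h.ab
  have ha := h.a2
  have h2 : (x * y) ^ 2 * r * (t⁻¹ * r * t) = (t⁻¹ * r * t) * ((x * y) ^ 2 * r) := by
    rw [mul_assoc, h.ra, ← mul_assoc, h.za, mul_assoc]
  rw [h2, ← h1, pow_two]
  calc (u⁻¹ * r * u) * (t⁻¹ * r * t) * (u⁻¹ * r * u)
      = ((t⁻¹ * r * t) * (t⁻¹ * r * t)) * (u⁻¹ * r * u) * (t⁻¹ * r * t) * (u⁻¹ * r * u) := by
        rw [ha, one_mul]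
    _ = _ := by group

theorem four : Four ((x * y) ^ 2) x r (t⁻¹ * r * t) where
  s0 := h.z2
  s1 := h.x2
  s2 := h.r2
  s3 := h.a2
  c10 := h.zx.symm
  c20 := h.zr.symm
  c30 := h.za.symm
  c21 := h.rx
  c31 := h.xa.symm
  c32 := h.ra.symm

end Rels

/-- coordinates of the first elementary abelian group -/
def E1 (x y r t : M) (n : ℕ) : M := E ((x * y) ^ 2) x r (t⁻¹ * r * t) n

theorem E1_zero (x y r t : M) : E1 x y r t 0 = 1 := E_zero
theorem E1_one (x y r t : M) : E1 x y r t 1 = (x * y) ^ 2 := E_one
theorem E1_two (x y r t : M) : E1 x y r t 2 = x := E_two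
theorem E1_four (x y r t : M) : E1 x y r t 4 = r := E_four
theorem E1_eight (x y r t : M) : E1 x y r t 8 = t⁻¹ * r * t := E_eight
theorem E1_mod (x y r t : M) (n : ℕ) : E1 x y r t (n % 16) = E1 x y r t n := E_mod n

theorem Rels.E1_mul {x y r t u : M} (h : Rels x y r t u) (m n : ℕ) :
    E1 x y r t m * E1 x y r t n = E1 x y r t (m ^^^ n) := h.four.E_mul m n

theorem Rels.E1_mem {x y r t u : M} (h : Rels x y r t u) (n : ℕ) : E1 x y r t n ∈ h.four.F := h.four.E_mem n

theorem Rels.mem_F1 {x y r t u : M} (h : Rels x y r t u) {g : M} :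
    g ∈ h.four.F ↔ ∃ n, n < 16 ∧ g = E1 x y r t n := Iff.rfl

theorem Rels.E1_sq {x y r t u : M} (h : Rels x y r t u) (m : ℕ) : E1 x y r t m * E1 x y r t m = 1 := by
  rw [h.E1_mul, Nat.xor_self, E1_zero]

theorem Rels.conj_E1 {x y r t u : M} (h : Rels x y r t u) {g : M} {c0 c1 c2 c3 : ℕ}
    (h0 : g⁻¹ * (x * y) ^ 2 * g = E1 x y r t c0) (h1 : g⁻¹ * x * g = E1 x y r t c1)
    (h2 : g⁻¹ * r * g = E1 x y r t c2) (h3 : g⁻¹ * (t⁻¹ * r * t) * g = E1 x y r t c3) (n : ℕ) :
    g⁻¹ * E1 x y r t n * g = E1 x y r t (lin c0 c1 c2 c3 n) := h.four.conj_E h0 h1 h2 h3 n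

/-- letters: 0 = t, 1 = y, 2 = b -/
def gval (y r t u : M) : ℕ → M
  | 0 => t
  | 1 => y
  | _ => u⁻¹ * r * u

def act : ℕ → ℕ → ℕ
  | 0, n => lin 2 3 8 12 n
  | 1, n => lin 1 3 4 12 n
  | _, n => lin 1 6 4 13 n

def wval (y r t u : M) : List ℕ → M
  | [] => 1
  | i :: w => gval y r t u i * wval y r t u w

def actw : List ℕ → ℕ → ℕ
  | [], n => n
  | i :: w, n => actw w (act i n)

namespace Rels

variable {x y r t u : M} (h : Rels x y r t u)
include h

theorem conj_t (n : ℕ) : t⁻¹ * E1 x y r t n * t = E1 x y r t (lin 2 3 8 12 n) := by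
  apply h.conj_E1
  · rw [E1_two]; exact h.tz
  · rw [show 3 = 1 ^^^ 2 by decide, ← h.E1_mul, E1_one, E1_two]; exact h.tx
  · rw [E1_eight]
  · rw [show 12 = 4 ^^^ 8 by decide, ← h.E1_mul, E1_four, E1_eight]; exact h.tat

theorem conj_y (n : ℕ) : y⁻¹ * E1 x y r t n * y = E1 x y r t (lin 1 3 4 12 n) := by
  have hy := inv_of_sq h.y2
  apply h.conj_E1
  · rw [E1_one, hy, mul_assoc, h.zy, ← mul_assoc, h.y2, one_mul]
  · rw [show 3 = 1 ^^^ 2 by decide, ← h.E1_mul, E1_one, E1_two, hy]; exact h.yxy
  · rw [E1_four, hy, mul_assoc, h.ry, ← mul_assoc, h.y2, one_mul]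
  · rw [show 12 = 4 ^^^ 8 by decide, ← h.E1_mul, E1_four, E1_eight, hy]; exact h.yay

theorem conj_b (n : ℕ) : (u⁻¹ * r * u)⁻¹ * E1 x y r t n * (u⁻¹ * r * u) = E1 x y r t (lin 1 6 4 13 n) := by
  have hb := h.swap.a2
  have hbi := inv_of_sq hb
  apply h.conj_E1
  · have := h.swap.za
    rw [h.yx2] at this
    rw [E1_one, hbi, mul_assoc, this, ← mul_assoc, hb, one_mul]
  · rw [show 6 = 2 ^^^ 4 by decide, ← h.E1_mul, E1_four, E1_two, hbi]; exact h.bxb
  · rw [E1_four, hbi, mul_assoc, h.swap.ra, ← mul_assoc, hb, one_mul]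
  · rw [show 13 = 1 ^^^ 4 ^^^ 8 by decide, ← h.E1_mul, ← h.E1_mul, E1_four, E1_eight, E1_one, hbi]
    exact h.bab

theorem conj_g (i n : ℕ) : (gval y r t u i)⁻¹ * E1 x y r t n * gval y r t u i = E1 x y r t (act i n) := by
  match i with
  | 0 => exact h.conj_t n
  | 1 => exact h.conj_y n
  | (j + 2) => exact h.conj_b n

theorem conj_w (w : List ℕ) : ∀ n : ℕ,
    (wval y r t u w)⁻¹ * E1 x y r t n * wval y r t u w = E1 x y r t (actw w n) := by
  induction w with
  | nil => intro n; simp [wval, actw]
  | cons i w ih =>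
    intro n
    have h1 := h.conj_g i n
    rw [wval, actw, ← ih, ← h1]
    group

end Rels

/-- action of `E2 n` on the coordinates of the first group -/
def actE (n m : ℕ) : ℕ :=
  bif n.testBit 3 then lin 1 6 4 13 (bif n.testBit 1 then lin 1 3 4 12 m else m)
    else (bif n.testBit 1 then lin 1 3 4 12 m else m)

/-- words mapping `z` to the elements of the first group -/
def wd : ℕ → List ℕ
  | 2 => [0]
  | 3 => [0, 0]
  | 6 => [0, 2]
  | 11 => [0, 2, 0]
  | 13 => [0, 2, 0, 0]
  | 7 => [0, 0, 2]
  | 9 => [0, 0, 2, 0]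
  | 14 => [0, 0, 2, 0, 0]
  | 12 => [0, 0, 2, 0, 2]
  | 4 => [0, 0, 2, 0, 2, 0]
  | 8 => [0, 0, 2, 0, 2, 0, 0]
  | 10 => [0, 2, 0, 2]
  | 15 => [0, 2, 0, 2, 0]
  | 5 => [0, 2, 0, 2, 0, 0]
  | _ => []

theorem wd_spec : ∀ n < 16, n ≠ 0 → actw (wd n) 1 = n := by decide

theorem actE_lt : ∀ m < 16, ∀ n < 16, m ^^^ actE n m < 16 := by
  decide +kernel

theorem actE_spec : ∀ m < 16, ∀ n < 16, m ^^^ actE n m ≠ 0 ∨
    ((m = 0 ∨ m = 1 ∨ m = 4 ∨ m = 5) ∨ (n = 0 ∨ n = 1 ∨ n = 4 ∨ n = 5)) := by
  decide +kernel

theorem ord_spec : ∀ n < 16, n ≠ 0 → ∀ k < 16,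
    actw (wd n) (actE k (actw (wd n) (actE k 1))) = 1 ∨
    actw (wd n) (actE k (actw (wd n) (actE k (actw (wd n) (actE k 1))))) = 1 ∨
    actw (wd n) (actE k (actw (wd n) (actE k (actw (wd n) (actE k (actw (wd n) (actE k
      (actw (wd n) (actE k 1))))))))) = 1 := by
  decide +kernel

theorem indep_spec : ∀ n < 16, n ≠ 0 → (n = 1 ∨ n = 4 ∨ n = 5) ∨
    (n ^^^ lin 1 3 4 12 n = 1 ∨ n ^^^ lin 1 3 4 12 n = 4 ∨ n ^^^ lin 1 3 4 12 n = 5) := by
  decide

theorem nm_of [Finite M] {w : M} {F : Subgroup M} (hw : ∀ f ∈ F, w⁻¹ * f * w ∈ F) : w ∈ Nm F := by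
  have h1 : F ≤ cj w F := fun f hf => mem_cj.mpr (hw f hf)
  exact (Subgroup.eq_of_le_of_card_ge h1 (card_cj w F).le).symm

theorem nm_self {w : M} {F : Subgroup M} (hw : w ∈ F) : w ∈ Nm F := by
  show cj w F = F
  ext s
  rw [mem_cj]
  constructor
  · intro h1
    have h2 := F.mul_mem (F.mul_mem hw h1) (F.inv_mem hw)
    have h3 : w * (w⁻¹ * s * w) * w⁻¹ = s := by group
    rwa [h3] at h2
  · intro h1
    exact F.mul_mem (F.mul_mem (F.inv_mem hw) h1) hw

namespace Rels

variable {x y r t u : M} (h : Rels x y r t u)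
include h

theorem E12 {n : ℕ} (hn : n = 0 ∨ n = 1 ∨ n = 4 ∨ n = 5) : E1 x y r t n = E1 y x r u n := by
  rcases hn with rfl | rfl | rfl | rfl
  · rw [E1_zero, E1_zero]
  · rw [E1_one, E1_one, h.yx2]
  · rw [E1_four, E1_four]
  · rw [show 5 = 1 ^^^ 4 by decide, ← h.E1_mul, ← h.swap.E1_mul, E1_four, E1_four, E1_one, E1_one, h.yx2]

theorem indep (hz : (x * y) ^ 2 ≠ 1) (hr : r ≠ 1) (hrz : r ≠ (x * y) ^ 2) :
    Indep ((x * y) ^ 2) x r (t⁻¹ * r * t) := by
  have key : ∀ m, (m = 1 ∨ m = 4 ∨ m = 5) → E1 x y r t m ≠ 1 := by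
    rintro m (rfl | rfl | rfl)
    · rw [E1_one]; exact hz
    · rw [E1_four]; exact hr
    · rw [show 5 = 1 ^^^ 4 by decide, ← h.E1_mul, E1_one, E1_four]
      intro h1
      apply hrz
      rw [← inv_of_sq h.z2]
      exact (inv_eq_of_mul_eq_one_right h1).symm
  intro n hn he
  by_contra hne
  rcases indep_spec n hn hne with h1 | h1
  · exact key n h1 he
  · refine key _ h1 ?_
    have he' : E1 x y r t n = 1 := he
    rw [← h.E1_mul, ← h.conj_y, he']
    group

theorem conj_E2 (n m : ℕ) : (E1 y x r u n)⁻¹ * E1 x y r t m * E1 y x r u n = E1 x y r t (actE n m) := by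
  have key : ∀ (g : M) (f : ℕ → ℕ) (i : Bool), (∀ m, g⁻¹ * E1 x y r t m * g = E1 x y r t (f m)) →
      ∀ m, (bp g i)⁻¹ * E1 x y r t m * bp g i = E1 x y r t (bif i then f m else m) := by
    intro g f i hf m
    cases i
    · simp [bp]
    · simpa only [bp, _root_.cond_true] using hf m
  have kz : ∀ m, ((y * x) ^ 2)⁻¹ * E1 x y r t m * (y * x) ^ 2 = E1 x y r t (id m) := by
    intro m
    rw [h.yx2, inv_of_sq h.z2, ← E1_one x y r t, h.E1_mul, h.E1_mul, Nat.xor_comm 1 m, Nat.xor_assoc,
      Nat.xor_self, Nat.xor_zero]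
    rfl
  have kr : ∀ m, r⁻¹ * E1 x y r t m * r = E1 x y r t (id m) := by
    intro m
    have h4 : r = E1 x y r t 4 := (E1_four x y r t).symm
    have h1 : E1 x y r t 4 * E1 x y r t m * E1 x y r t 4 = E1 x y r t m := by
      rw [h.E1_mul, h.E1_mul, Nat.xor_comm 4 m, Nat.xor_assoc, Nat.xor_self, Nat.xor_zero]
    rw [E1_four] at h1
    rw [inv_of_sq h.r2, h1]
    rfl
  have k0 := key _ _ (n.testBit 0) kz
  have k1 := key _ _ (n.testBit 1) h.conj_y
  have k2 := key _ _ (n.testBit 2) kr
  have k3 := key _ _ (n.testBit 3) h.conj_b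
  have hid : ∀ (i : Bool) (m : ℕ), (bif i then id m else m) = m := by
    intro i m; cases i <;> rfl
  simp only [hid] at k0 k2
  have h4 : (E1 y x r u n)⁻¹ * E1 x y r t m * E1 y x r u n =
      (bp (u⁻¹ * r * u) (n.testBit 3))⁻¹ * ((bp r (n.testBit 2))⁻¹ * ((bp y (n.testBit 1))⁻¹ *
        ((bp ((y * x) ^ 2) (n.testBit 0))⁻¹ * E1 x y r t m * bp ((y * x) ^ 2) (n.testBit 0)) *
          bp y (n.testBit 1)) * bp r (n.testBit 2)) * bp (u⁻¹ * r * u) (n.testBit 3) := by
    conv_lhs => rw [show E1 y x r u n = bp ((y * x) ^ 2) (n.testBit 0) * bp y (n.testBit 1) *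
      bp r (n.testBit 2) * bp (u⁻¹ * r * u) (n.testBit 3) from rfl]
    group
  rw [h4, k0, k1, k2, k3]
  rfl

theorem E2_inv (n : ℕ) : (E1 y x r u n)⁻¹ = E1 y x r u n := by
  apply inv_of_sq
  rw [h.swap.E1_mul, Nat.xor_self, E1_zero]

theorem E2E1 (n m : ℕ) : E1 y x r u n * E1 x y r t m = E1 x y r t (actE n m) * E1 y x r u n := by
  rw [← h.conj_E2, h.E2_inv]
  have h1 : E1 y x r u n * E1 y x r u n = 1 := by
    rw [h.swap.E1_mul, Nat.xor_self, E1_zero]
  rw [mul_assoc (E1 y x r u n * E1 x y r t m), h1, mul_one]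

theorem form {g : M} (hg : g ∈ Subgroup.closure {x, y, r, t⁻¹ * r * t, u⁻¹ * r * u}) :
    ∃ m n, m < 16 ∧ n < 16 ∧ g = E1 x y r t m * E1 y x r u n := by
  suffices hs : ∃ m n, g = E1 x y r t m * E1 y x r u n by
    obtain ⟨m, n, hmn⟩ := hs
    refine ⟨m % 16, n % 16, Nat.mod_lt _ (by norm_num), Nat.mod_lt _ (by norm_num), ?_⟩
    rw [E1_mod, E1_mod]
    exact hmn
  induction hg using Subgroup.closure_induction with
  | mem g hg =>
    simp only [Set.mem_insert_iff, Set.mem_singleton_iff] at hg
    rcases hg with hg | hg | hg | hg | hg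
    · exact ⟨2, 0, by rw [E1_two, E1_zero, mul_one, hg]⟩
    · exact ⟨0, 2, by rw [E1_two, E1_zero, one_mul, hg]⟩
    · exact ⟨4, 0, by rw [E1_four, E1_zero, mul_one, hg]⟩
    · exact ⟨8, 0, by rw [E1_eight, E1_zero, mul_one, hg]⟩
    · exact ⟨0, 8, by rw [E1_eight, E1_zero, one_mul, hg]⟩
  | one => exact ⟨0, 0, by rw [E1_zero, E1_zero, one_mul]⟩
  | mul a b _ _ ha hb =>
    obtain ⟨m, n, rfl⟩ := ha
    obtain ⟨m', n', rfl⟩ := hb
    refine ⟨m ^^^ actE n m', n ^^^ n', ?_⟩
    rw [← h.E1_mul, ← h.swap.E1_mul]
    have h1 := h.E2E1 n m'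
    calc E1 x y r t m * E1 y x r u n * (E1 x y r t m' * E1 y x r u n')
        = E1 x y r t m * (E1 y x r u n * E1 x y r t m') * E1 y x r u n' := by group
      _ = _ := by rw [h1]; group
  | inv a _ ha =>
    obtain ⟨m, n, rfl⟩ := ha
    refine ⟨actE n m, n, ?_⟩
    rw [mul_inv_rev, h.E2_inv, ← h.E2E1]
    congr 1
    apply inv_of_sq
    rw [h.E1_mul, Nat.xor_self, E1_zero]

theorem sq_form (m n : ℕ) : (E1 x y r t m * E1 y x r u n) * (E1 x y r t m * E1 y x r u n) =
    E1 x y r t (m ^^^ actE n m) := by
  have h1 := h.E2E1 n m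
  have h2 : E1 y x r u n * E1 y x r u n = 1 := by
    rw [h.swap.E1_mul, Nat.xor_self, E1_zero]
  calc (E1 x y r t m * E1 y x r u n) * (E1 x y r t m * E1 y x r u n)
      = E1 x y r t m * (E1 y x r u n * E1 x y r t m) * E1 y x r u n := by group
    _ = E1 x y r t m * E1 x y r t (actE n m) * (E1 y x r u n * E1 y x r u n) := by rw [h1]; group
    _ = _ := by rw [h2, mul_one, h.E1_mul]

theorem t_nm [Finite M] : t ∈ Nm h.four.F := by
  apply nm_of
  intro f hf
  obtain ⟨n, hn, rfl⟩ := h.mem_F1.mp hf
  rw [h.conj_t n]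
  exact h.E1_mem _

theorem E2_nm [Finite M] (n : ℕ) : E1 y x r u n ∈ Nm h.four.F := by
  apply nm_of
  intro f hf
  obtain ⟨m, hm, rfl⟩ := h.mem_F1.mp hf
  rw [h.conj_E2 n m]
  exact h.E1_mem _

theorem wval_nm [Finite M] (w : List ℕ) : wval y r t u w ∈ Nm h.four.F := by
  apply nm_of
  intro f hf
  obtain ⟨m, hm, rfl⟩ := h.mem_F1.mp hf
  rw [h.conj_w w m]
  exact h.E1_mem _

theorem tr1 [Finite M] : ∀ s ∈ h.four.F, s ≠ 1 → ∃ n ∈ Subgroup.closure {x, y, r, t, u}, cj n h.four.F = h.four.F ∧
    s = n * (x * y) ^ 2 * n⁻¹ := by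
  intro s hs0 hs
  obtain ⟨n, hn, rfl⟩ := h.mem_F1.mp hs0
  have hn0 : n ≠ 0 := by rintro rfl; exact hs (E1_zero _ _ _ _)
  have hg : ∀ w : List ℕ, wval y r t u w ∈ Subgroup.closure {x, y, r, t, u} := by
    intro w
    induction w with
    | nil => exact Subgroup.one_mem _
    | cons i w ih =>
      refine Subgroup.mul_mem _ ?_ ih
      have hx : ∀ g ∈ ({x, y, r, t, u} : Set M), g ∈ Subgroup.closure {x, y, r, t, u} :=
        fun g hg => Subgroup.subset_closure hg
      match i with
      | 0 => exact hx t (by simp)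
      | 1 => exact hx y (by simp)
      | (j + 2) =>
        exact Subgroup.mul_mem _ (Subgroup.mul_mem _ (Subgroup.inv_mem _ (hx _ (by simp))) (hx _ (by simp)))
          (hx _ (by simp))
  refine ⟨(wval y r t u (wd n))⁻¹, Subgroup.inv_mem _ (hg _), (Nm h.four.F).inv_mem (h.wval_nm _), ?_⟩
  have h1 := h.conj_w (wd n) 1
  rw [wd_spec n hn hn0] at h1
  rw [inv_inv, ← h1, E1_one]

theorem hyp [Finite M] (hz : (x * y) ^ 2 ≠ 1) (hr : r ≠ 1) (hrz : r ≠ (x * y) ^ 2)
    (hC : ∀ g, g * (x * y) ^ 2 = (x * y) ^ 2 * g →
      g ∈ Subgroup.closure {x, y, r, t⁻¹ * r * t, u⁻¹ * r * u}) :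
    Hyp ((x * y) ^ 2) h.four.F h.swap.four.F := by
  have hz' : (y * x) ^ 2 ≠ 1 := by rw [h.yx2]; exact hz
  have hrz' : r ≠ (y * x) ^ 2 := by rw [h.yx2]; exact hrz
  have hi1 := h.indep hz hr hrz
  have hi2 := h.swap.indep hz' hr hrz'
  have hset : ({x, y, r, t⁻¹ * r * t, u⁻¹ * r * u} : Set M) = {y, x, r, u⁻¹ * r * u, t⁻¹ * r * t} := by
    ext g; simp only [Set.mem_insert_iff, Set.mem_singleton_iff]; itauto
  have hnor : ∀ {x y r t u : M} (h : Rels x y r t u)
      (hC : ∀ g, g * (x * y) ^ 2 = (x * y) ^ 2 * g →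
        g ∈ Subgroup.closure {x, y, r, t⁻¹ * r * t, u⁻¹ * r * u}),
      ∀ g, g * (x * y) ^ 2 = (x * y) ^ 2 * g → cj g h.four.F = h.four.F := by
    intro x y r t u h hC g hg
    obtain ⟨m, n, _, _, rfl⟩ := h.form (hC g hg)
    exact (Nm h.four.F).mul_mem (nm_self (h.E1_mem m)) (h.E2_nm n)
  refine
    { z1 := ?_, z2 := ?_, zne := hz, sq1 := h.four.sq, sq2 := h.swap.four.sq,
      card1 := h.four.card_F hi1, card2 := h.swap.four.card_F hi2, nor1 := hnor h hC, nor2 := ?_,
      tr1 := ?_, tr2 := ?_, inv := ?_, pg := ?_, int := ?_, ord := ?_ }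
  · have := h.E1_mem 1
    rwa [E1_one] at this
  · have h1 := h.swap.E1_mem 1
    have h2 : E1 y x r u 1 = (x * y) ^ 2 := by rw [E1_one, h.yx2]
    rw [← h2]
    exact h1
  · intro g hg
    refine hnor h.swap ?_ g ?_
    · intro g hg
      rw [h.yx2] at hg
      rw [← hset]
      exact hC g hg
    · rw [h.yx2]; exact hg
  · intro s hs hs1
    obtain ⟨n, _, h1, h2⟩ := h.tr1 s hs hs1
    exact ⟨n, h1, h2⟩
  · intro s hs hs1
    obtain ⟨n, _, h1, h2⟩ := h.swap.tr1 s hs hs1
    rw [h.yx2] at h2
    exact ⟨n, h1, h2⟩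
  · intro k hk hkk
    obtain ⟨m, n, hm, hn, rfl⟩ := h.form (hC k hk)
    rw [h.sq_form] at hkk
    have h3 := hi1 _ (actE_lt m hm n hn) hkk
    rcases (actE_spec m hm n hn).resolve_left (fun h4 => h4 h3) with h4 | h4
    · right
      rw [h.E12 h4]
      exact h.swap.four.F.mul_mem (h.swap.E1_mem _) (h.swap.E1_mem _)
    · left
      have h5 := h.E12 (t := t) (u := u) h4
      rw [← h5]
      exact h.four.F.mul_mem (h.E1_mem _) (h.E1_mem _)
  · intro g hg
    obtain ⟨m, n, hm, hn, rfl⟩ := h.form (hC g hg)
    refine ⟨2, ?_⟩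
    rw [show 2 ^ 2 = 2 + 2 by norm_num, pow_add, pow_two, h.sq_form, h.E1_mul, Nat.xor_self, E1_zero]
  · have hinj : ∀ i j : Fin 4, ([0, 1, 4, 5] : List ℕ)[i.1]'(by simpa using i.2) = ([0, 1, 4, 5] : List ℕ)[j.1]'(by simpa using j.2) → i = j := by
      decide
    have hlt : ∀ i : Fin 4, ([0, 1, 4, 5] : List ℕ)[i.1]'(by simpa using i.2) < 16 := by decide
    have hor : ∀ i : Fin 4, (([0, 1, 4, 5] : List ℕ)[i.1]'(by simpa using i.2) = 0 ∨
      ([0, 1, 4, 5] : List ℕ)[i.1]'(by simpa using i.2) = 1 ∨ ([0, 1, 4, 5] : List ℕ)[i.1]'(by simpa using i.2) = 4 ∨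
      ([0, 1, 4, 5] : List ℕ)[i.1]'(by simpa using i.2) = 5) := by decide
    let φ : Fin 4 → (h.four.F ⊓ h.swap.four.F : Subgroup M) := fun i =>
      ⟨E1 x y r t (([0, 1, 4, 5] : List ℕ)[i.1]'(by simpa using i.2)), h.E1_mem _, by
        rw [h.E12 (u := u) (hor i)]
        exact h.swap.E1_mem _⟩
    have hφ : Function.Injective φ := by
      intro i j hij
      exact hinj i j (h.four.E_inj hi1 (hlt i) (hlt j) (congrArg Subtype.val hij))
    have := Nat.card_le_card_of_injective φ hφ
    simpa only [_root_.Subgroup.mem_inf, _root_.ge_iff_le, _root_.Nat.card_eq_fintype_card, _root_.Fintype.card_fin] using this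
  · intro w hw how
    -- image of z
    have hz1 : w⁻¹ * (x * y) ^ 2 * w ∈ h.four.F := by
      have h1 : (x * y) ^ 2 ∈ cj w h.four.F := by
        rw [hw]
        have := h.E1_mem 1
        rwa [E1_one] at this
      exact mem_cj.mp h1
    obtain ⟨n, hn, hwn⟩ := h.mem_F1.mp hz1
    have hn0 : n ≠ 0 := by
      rintro rfl
      apply hz
      rw [E1_zero] at hwn
      have : (x * y) ^ 2 = w * (w⁻¹ * (x * y) ^ 2 * w) * w⁻¹ := by group
      rw [this, hwn]; group
    have h1 := h.conj_w (wd n) 1
    rw [wd_spec n hn hn0] at h1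
    set g := wval y r t u (wd n) with hg
    have hc : (w * g⁻¹) * (x * y) ^ 2 = (x * y) ^ 2 * (w * g⁻¹) := by
      have h2 : g⁻¹ * (x * y) ^ 2 * g = w⁻¹ * (x * y) ^ 2 * w := by
        rw [hwn, ← h1, E1_one]
      calc (w * g⁻¹) * (x * y) ^ 2 = w * (g⁻¹ * (x * y) ^ 2 * g) * g⁻¹ := by group
        _ = w * (w⁻¹ * (x * y) ^ 2 * w) * g⁻¹ := by rw [h2]
        _ = (x * y) ^ 2 * (w * g⁻¹) := by group
    obtain ⟨m, k, hm, hk, hmk⟩ := h.form (hC _ hc)
    have hw' : w = E1 x y r t m * E1 y x r u k * g := by rw [← hmk]; group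
    have hconj : ∀ j, w⁻¹ * E1 x y r t j * w = E1 x y r t (actw (wd n) (actE k j)) := by
      intro j
      rw [← h.conj_w, ← h.conj_E2, ← hg, hw']
      have h3 : (E1 x y r t m)⁻¹ * E1 x y r t j * E1 x y r t m = E1 x y r t j := by
        have h4 : (E1 x y r t m)⁻¹ = E1 x y r t m := by
          apply inv_of_sq
          rw [h.E1_mul, Nat.xor_self, E1_zero]
        rw [h4, h.E1_mul, h.E1_mul, Nat.xor_comm m j, Nat.xor_assoc, Nat.xor_self, Nat.xor_zero]
      conv_rhs => rw [← h3]
      group
    have hiter : ∀ i, (w ^ i)⁻¹ * (x * y) ^ 2 * w ^ i = E1 x y r t ((fun j => actw (wd n) (actE k j))^[i] 1) := by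
      intro i
      induction i with
      | zero => simp [E1_one]
      | succ i ih =>
        rw [Function.iterate_succ_apply', ← hconj, ← ih]
        rw [pow_succ]
        group
    have hfix : ∀ i, (fun j => actw (wd n) (actE k j))^[i] 1 = 1 → w ^ (4 * i) = 1 := by
      intro i hi
      have h2 := hiter i
      rw [hi, E1_one] at h2
      have h3 : w ^ i * (x * y) ^ 2 = (x * y) ^ 2 * w ^ i := by
        calc w ^ i * (x * y) ^ 2 = w ^ i * ((w ^ i)⁻¹ * (x * y) ^ 2 * w ^ i) := by rw [h2]
          _ = (x * y) ^ 2 * w ^ i := by group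
      obtain ⟨m', n', _, _, hmn'⟩ := h.form (hC _ h3)
      rw [mul_comm, pow_mul, hmn', show 4 = 2 + 2 by norm_num, pow_add, pow_two, h.sq_form, h.E1_mul,
        Nat.xor_self, E1_zero]
    rcases ord_spec n hn hn0 k hk with h2 | h2 | h2
    · have := orderOf_dvd_of_pow_eq_one (hfix 2 h2)
      rw [how] at this
      revert this; decide
    · have := orderOf_dvd_of_pow_eq_one (hfix 3 h2)
      rw [how] at this
      revert this; decide
    · have := orderOf_dvd_of_pow_eq_one (hfix 5 h2)
      rw [how] at this
      revert this; decide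

end Rels

end Cfsg.Agent.LargeExtra.SuzPlane
end

-- part: SuzType/PresA6Data
section
set_option autoImplicit false
set_option maxRecDepth 100000

namespace Cfsg.Agent.SuzType.PresA6Data

open Cfsg.Agent.SporadicRecognition.CosetCert

noncomputable def tree : Tr := beta% (fun (N : Nat → Tr → Tr → Tr) (L : Nat → Tr) => (N 112 (N 48 (N 16 (L
  0xffffd428e0743d4891ffffd458f080453ffff07841418e06c3bffff4da2d3d8d3fffffffffffffd398c0703c190dffffc7ffff05c33ffff4d22d2f400683931865fffffffff06034150bffffd278a4ae1cfffff42a0294b848e24160c1008413060ffffe6001ffffc1109ffffd178448620fffff47a1d1c86ffffc120a03c211a851ffffc0d07ffffd1684ffffc1009a84bd7ffff44a0c0e0802c1bffff44208793d3ffffd0d8102417ffff0301c2a160502d3ffff028190c8101c11017d3e9ed09803ffffd067fffffd007d0201405033f9f07ffff00c0bffff3e5efffff01810f4795ffffcf2780100c0101ffffcee773b1d8fffffffffe5f0affffc02023a9d4ba5df)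
  (N 32 (L
  0xffffefe75bff003d1fbb4bfffff5ba74fffffffffee931ffffc3e200ec7bffff1ffffc391dbaec7ffffb98b83c1fbbd657ffffbbac43a1e0dc73fffffffffffff3ffffed54afffffffff0e074351bffffc7ffff5ae70331ab4ac2cb470d873ffff4ffffc341b5aa703119ffffd669a5a26cffffffffffffffffffc321a0bc63ffff1ffffc2d17ffffd659a660943019ffffd7ffffffffc2e180ac5bffffffffd61993ffffd5f98fffffffff0b05c2906ffffc7ffffb3d77ffff09c53fffffffffffff3ffffd5b97fffffffff0a0542513ffffc7ffff08c4bfffffffffffff09853ffff5ffffe71b70904c211153a4d56959999cfffff4fa3550945364c221252e481f100)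
  (L
  0xba07fffff180c45d2ffffffffffffffcffffffffffffffbb0805e3016cbaa2081ffffd7da2a9e2ae71effffc5c2f164b43ffffffffc572cfffffffffffffc5a2e4ffffc582dffffc552bffffe99865f288ffffffffffffffffffc562c14caa928c1ffffc5129fffffffffffffc542bffffd7ffffffffc522a13ca3ffff5e687ffff3ffffffffffffffffff140a44d27ffffc7ffff5da83ffff5e287ffff138a04b260fffffffff12497fffffffffffff1309d3ffff1289bffff11c919a9affffd75a0365c63fffffffffffff120944523ffffc5991910c8bfffffffffffff11893ffff5fffffffff1108c4121ffffd2489ffffcfffff5c67fffff4a22842220fc2c743b1)))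
  (N 80 (N 64 (L
  0xffffc8241ffffc7f3f4d62d3a8c68aacd2e0dfffffffffffffc80401f4fbffff14b4387b3dfffffffffffffc7e3f44e0d7ffffffffc7c3e1dcf3ffffffffc7a073ffffd9daaffffd93a91e0f4753bffffc7ffffffffd8fa8ffffd62991d8f073210ffffed1c1be6747139ffffd8ca7b5b00ffffffffffffffffffc723a1bce3ffff1ffffc6d37b099d8ba7ffffc7039ffffd7ffffffffc6e381acdbffffaf1a7ffff3ffffffffffffffffff1b0dc6935ffffc7ffffae5affffffffffffff1a8d867340fffffffff194cfffff6269bffff1a0d53ffff198d3ffff18cc986a5fffffffff3fffffffffb36c185a5190cc6131ffffc7ffff17cc3fffffffffffff188c981a45)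
  (L
  0xffffc9f4ffffffffffffffca251ffffd7ffffffffca0502753adc67fffffffff3ffffffffffffffffff2793c9b4dffffc7ffffffffffffffffffffff27138994c0ffffffffffffffffffffffc974b269347ffffffffffffffffffffff26130954a0fffffffff24d26e397fffffffff2592d2d41c2512bffff24523fffffffffffff3ffffffffffffffffff249248f47ffffc7ffff23519afafb286db1b024123ffff5ffffdaeaf2391c8b45ffffda8adffffcffffffffffffffffffc8c4622513ffff1fffffffff6aab9a6ad389c48a4521d0c3ffffffffffffffffffffff2150888441ffffda3abfffffffffffffc864320d043ffffffffc8140fffffffffffffc84424))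
  (N 96 (L
  0xffffdc076ffffee45230984bf5f721e07ffff2f579c97c94b67ffff30181c37e5ffffdc57c2f97cbb5dffffdb9b36f9fcfffff9a622ce15ffffcbc5e6dec8b9010fffffffff2dd6ffffffffffffffbf7213ffff2e173ffff2d56bffffbd82bffff3ffffffffffffffffff2d96cb359ffffc7ffff2c563fffffffffffff2d16bffff5fffffffff2c964af57fffffffff6d2c4fffffffffef470ffffcb0582b55bffff1ffffffffffffffffffffffcae572ad543ffffffffffffffffffffff2a550ac561ffffffffffffffffffffffcaa5529d4c3ffffffffca552ffffdb3b1ffffca8544ffffca653ffffca351b9583ffffffffcfffffb8446e08dffffca45228543ffff1)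
  (L
  0xffffcdf6ffffffffffffffefb52ffffd6f357ffffce070375b9e7beffffeb6a53ffffdeabfffffde6be379bcdb6d78ef47fffffffffffffffffeb2a4371b8d96c0ffffffffffffffffffffffcd76b369b47ffffffffcd56afffffffff361b2b7334ae0d4d66bffffcd36976ee9d7b9782ecfffffa0a43ffff76ae8d46a345a289961aecdccf67ffffdd4b9ffffcd269746dd7ffffb04e0d0683359a6b9cffffe67123b693e61cf97366629c3399ccb65977447fffffffffffffffffdcfb633198c9640fffffffffffffdccb5ffffcc7633299465710ffffffffffffffffff32190c562095847ffff30d87fffffffffffff3198d2df513118a558d30583fffffffffffff3))))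
  (N 160 (N 128 (L
  0xffffe96b8fffffffff84327ffff420143ffffffffd050483323ffffffffdbf5e4ffffd040441dfe0ac7fffffffff7097d7fffffffffffff40814ff04ffffea4af2fffffffff7117bffff8127fffff3f4103ffff3f0f19eaaffffcf8033ec1600c62fffffffffffffcf703ffffd037dffffcfffff71980f6767f713ffff7db0cf3030fffffffff3c40bffff96b57ffff71d813ffffffffdf4c2ffffcf0753b409bcb31ffffcf57970583fffffffffffff3ac083ffffa9b03ffff3bddfffff3a405f2c11fffff015bffffce773ffffdf0c0ffffcffffffffffffffffffce874395cbffff1ffffce371ffffdefc0ffffce673ffffd7ffffffffce47238511a7adfffffffff3)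
  (N 144 (L
  0xfffffffffa05a54610526467cb5a0e5ce5864ffffffffffffffffff51043ffff1ffffd400f50c43ffffffffe38d454e517ffff546513f11a828a35d38c7493c0f0ffffffffffffffffff4e0393b40a44acbffff8b7462bd0ffffd330d4dc3e23cf2ffffea82efffffffffffffd260c4aa087fffffffffffffffffd220b4948995a92fffffffff9a177ffffffffef19d480283ffffffffd1d09fffffffffffffd2c0c4ffffd1b0947e1fffffffffe9a2c4c0357ffffffffd320cffffe1ecd86f3119090bd56ffffffffffffff45421180a8672cbffffffffd1107ffffe16caffffd143e4ffffffffffffffffffffffd0f074a6287ffff42c150e06ffffe98bcaf69a8fb85)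
  (L
  0xffffffffffffffffffa1b63ffff5d0943ffff5ce79702180df3ffff8071990a84ffffd6f215ca7fffffb1e5bffffffffd7ffffbe8eaf8c1fffffffffbc2216d200b6139691a5b06e6a6798d9a6cb69ba457ffff9e647fffffffffffff9eb61671a0fffffffffffffd9b2559063ffffffffcbfffffffffffff58cefffff652a560170ffffe08c45785a7db7ffffd9faaffffd3ffff576595a14ffffee24affffe84904ffffd59145725ec69efffffffffa29a57fffffffffffff9135d58925544a76b51951854f1154a37ffffffffe4ad9552396de4bffffe48d8ffffd4c119175fffff2ffffe26ca8a71d579590f5d4a118ef587ffffffffe789bffffd47109d6d26f9c2)))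
  (N 192 (N 176 (L
  0xffffecc32ffffdb047b4c6ed71dffffcfffffffffdad46abaa2acc3ffffea37d4ffffda944fffffffffa733fffff6b2b17ffffa7f27ffffffffda544fffffffff2a6cabffff6910ffffffffffffff6aeb93fffffffffffffffffe32d28db4da1400fffffffff670f3ffffffffda098a22e93fffffffffffffffffd923cffffd96892ffffd8e3bb169bffffab6be05c46467d7ffffb22cac0cdffffd8a38634ebffff2ffffec4a8ffffd8834ffffebe81b0e78ffffffffffffff61ccd8432ffffeb56f2fffffffff60e8eb16dffffeb4be600c43ffff60a93ffffaa732b0cbffffd7f300fffffffff5f8bbfffffffffffff5ecb03ffffffffe8bd3ffffd77275e8a7ffff2)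
  (L
  0xfffff0020a95d7ffff7b9cbffffffffcbffffffffde96efffffffffffffdecb94bc963ffffffffde86f795bab3a4ffffcbffffffffffffffffffffffffffde26e0fffffffff785b69781ffffdedbbffffd3ffffffffffffffffffffffffffddf6a0fffffffffa3b19dc6a765a5deb8a1ea8aba36792f7ffff75ae1d368761a9ebbf2ffffe930ba5601d268756e5ddbaa4204fffffffffe7012ffffe7e98ffffdd0680b6537ffffffffdce65ffffe6d9c9975cffffffffffffffffffdcb64ffffe77952fffffffffffffdca64736d67491ffffcfffff7df0fffffffffdbbb26e179bd771ffffe72cdb269dbab3ffffdb65dffffc7ffffba87bffff6c94fffffffffdb5583))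
  (N 208 (L
  0xffffe2a8b8bb47ffffffffe3fd592f657fffffffffffffa76bbffff8972a228b0fffffffff90357ffff8861bffff8cf48bffffafe9e73b287617ffff8832fffff3ffffffffffffffffffaaa8e1a85ffffc7ffffffffe7fc8abe8e1ccc87f3618840fffffffff89e4a1583ffffe24cfffffcfffffffffe9ead83e0212c285317ffff3ffffe80cbfffffffff82dfe0ec1bf170bffff8a24a17caffffe097effffe51d42ffffe8dbafffffffffffffe029f7fdec3ffffffffffffffffffffff84f25fe7a0fffffffff81e63ffff7f1e606a8ffffcbffffffffdf8b3aaebfffff7d5e5f9c21ffffdf377ffffe11c97ee03ffff7eb0d7ffffbde76d03afffffffff83721f1750)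
  (L
  0x2dd5096d9a4fcfffffe535f926524cd01ffffe4793ffffe85a0ffffe7b9bffffd6db4cfffffffff90a4bffff91a4e64b63ffffe4dd4fffffffffffffe3dd18ea483ffff9073a398f965e3ffff8fb43ffff4fffffffff93b5bffffffffe378e9431c7ffffa3287ffff8d237fffffffffffff3ffffffffffffffffffffffe308dffffc7ffff8bf422c8bfffffffff8f35a5e664))))))
  Tr.N Tr.L

noncomputable def wtree : WT :=
  (by
  refine (?fq9018 : ((pk61r (fun r0 j => pk61f j fun i1 => (pk61f (pk61d (nat_lit 6) 
    (nat_lit 0x33cb1c2fbb4cedcb1b2bc2fbaaa68b6c9ebaa6969a279238a19a58248df7a286075c6df79d69971b6985d65546584d759245551340f39245034c3ce34b28920c2c72891852071840c21440c1002040) i1) fun u7 => (pk61f (pk61d (nat_lit 1) 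
    (nat_lit 0x1f931c98f2638c7c98e31e4c718) i1) fun t1_0 => (pk61c (Nat.div t1_0 (nat_lit 1)) (_root_.Cfsg.Agent.SporadicRecognition.CosetCert.WT.L (pk61d (nat_lit 3) 
    (nat_lit 0x1d8e5707308c96331012a170b3410a0c00b15358) u7) ((fun g1 : Nat → Nat => pk61l (fun i2 => (pk61d (nat_lit 3) 
    (nat_lit 0x80835104302984105841146baebaeb8e38c515844104161d75d75904530c348241061aaaaa821850822c51451420d30b2c821822984c20820b08141a288282aaaa9064246020b08101904114c041a5020ba4106320a08820510430822d308250668b25ad90452cb101451043) i2)) (g1 u7) (g1 (Nat.succ u7)) List.nil) fun j => (pk61d (nat_lit 9) 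
    (nat_lit 0x2411a89c320d027cbc9dce871365a4cb622f56eb1542893c98492310c813f1e4e46d35994be5a2a13890411e0d866301488c3c1b0c85c2a0f060240c00) j))) fun _ => (_root_.Cfsg.Agent.SporadicRecognition.CosetCert.WT.N (pk61d (nat_lit 6) 
    (nat_lit 0x6a7bb1cf4cafc2ab2dae8a608e59a486275e7db70d4d66195d455045238f1892cc287203105042) u7) (r0 (Nat.sub i1 (pk61d (nat_lit 6) 
    (nat_lit 0xd9c38810208408810208408e20408210218408409a388102084086102102388102084086102102) u7))) (r0 (Nat.sub i1 (nat_lit 1)))))))) (_root_.Cfsg.Agent.SporadicRecognition.CosetCert.WT.L (nat_lit 0) List.nil) (nat_lit 7) (nat_lit 104)) : WT)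
    = ?xq9018 → (WT)) ?hq9018; (case hq9018 => (set_option maxRecDepth 1000000 in conv => lhs; reduce)); intro _; exact ?xq9018 : WT)

noncomputable def stree : _root_.Cfsg.Agent.SporadicRecognition.CosetCert.ST := (.L 6 [] [])

noncomputable def C : Cert where
  data := tree
  lm := 15
  rb := 130
  fb := 18
  mask := 262143
  B := 256
  k := 6
  N := 217
  inv := fun x => bif Nat.beq x 0 then 0 else bif Nat.beq x 1 then 1 else bif Nat.beq x 2 then 3 else bif Nat.beq x 3 then 2 else bif Nat.beq x 4 then 5 else bif Nat.beq x 5 then 4 else x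
  words := wtree
  subs := stree

/-- letters: 0 = x, 1 = y, 2 = t, 3 = T, 4 = u, 5 = U -/
def rels : List (List Nat) :=
  (by
  refine (?fq9019 : ((pk61l (fun i1 => ((fun g1 : Nat → Nat => pk61l (fun i2 => (pk61d (nat_lit 3) 
    (nat_lit 0x8a28a28aaaaaa8820c34820820c208a1104320a0e0811464892) i2)) (g1 i1) (g1 (Nat.succ i1)) List.nil) fun j => (pk61d (nat_lit 7) 
    (nat_lit 0x88e992a446ca0e1418180) j))) (nat_lit 0) (nat_lit 11) List.nil) : List (List Nat))
    = ?xq9019 → (List (List Nat))) ?hq9019; (case hq9019 => (set_option maxRecDepth 1000000 in set_option simprocs false in conv => lhs; reduce; dsimp only)); intro _; exact ?xq9019 : List (List Nat))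

noncomputable def subw : List (List Nat) := []

/-- targets:  bb;  (bx)^3;  (by)^3;  (bxy)^5;  (bz)^5;  xbxyxybyxybxT;  bxyxybxyxbyU -/
def targets : List (List Nat) :=
  (by
  refine (?fq9020 : ((pk61l (fun i1 => ((fun g1 : Nat → Nat => pk61l (fun i2 => (pk61d (nat_lit 3) 
    (nat_lit 0x14d462045462208a8c4c546220d462208a8c40822a311045462208a8c44115188822a311151888a8c44546222a31115188d46235188d4621518854621518aa315462) i2)) (g1 i1) (g1 (Nat.succ i1)) List.nil) fun j => (pk61d (nat_lit 8) 
    (nat_lit 0xaf977e512e1c0a00) j))) (nat_lit 0) (nat_lit 7) List.nil) : List (List Nat))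
    = ?xq9020 → (List (List Nat))) ?hq9020; (case hq9020 => (set_option maxRecDepth 1000000 in set_option simprocs false in conv => lhs; reduce; dsimp only)); intro _; exact ?xq9020 : List (List Nat))

end Cfsg.Agent.SuzType.PresA6Data
end

-- part: SuzType/PresA6Chk0
section
set_option autoImplicit false
set_option maxRecDepth 100000

namespace Cfsg.Agent.SuzType.PresA6Chk0

open Cfsg.Agent.SporadicRecognition.CosetCert Cfsg.Agent.Lib.CosetPartial Cfsg.Agent.SuzType.PresA6Data

private theorem alC : Cfsg.Agent.SporadicRecognition.CertFast.al (Nat.succ C.lm) C.data = true := by decide +kernel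

theorem c0 : PartP C 0 64 := Cfsg.Agent.SporadicRecognition.CertFastP.partP_fast C alC (by decide +kernel : Cfsg.Agent.SporadicRecognition.CertFastP.runPF C 12 4095 0x20000010530330020000000000020010000010000000000020830000020010000000020020000020020010000000020000e30020010022730010000330830000000000020010000010020020000020000000020010006740000000000000020010006940000000000020010000010000020000020020000010530000000000020020020010000010000000000020020000020010000000000000001730020010020231630020000020010000010000000000020020000010001c30020000000000020010020010000000000020000000020010000330000000000000020010000230000020000020010000010000000000020020000010530000020000000000020010000010000000000020000000020010000330000020000130020010020230d30010020000020002f40000020010000010020002f30020c30730020010000000004840000000020010000730011730020020000020020010000330020000000000020010000010000022340020000000020010000000020020000000020010000020000010000000000020000000020010000010000000000020000020020010530021130230020020020020010730010020000020020020020010000330020000000020020010000010000023e40020020000020010000020a30230020020020020010020000010000330020020020000020010020010000020000021f3002002001000002003073001000002002002002002001053033002002000002002001002001000002000002002002002001000002002000193000002002002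 24 16777215 0xd3d170000b30000000000000000000000000000000000000000000000000000000000000000000000000000000003060000000000000000000000000000000000000000000000000000000000000000000000b6172317000000000000000000000000000000000000000000000000000000000000000000000000000000000000000000000000000000000000000000000000000000000000000000000000000000000000000000000000000000000000000000000000000000000000 0 64 = true)

theorem c1 : PartP C 64 128 := Cfsg.Agent.SporadicRecognition.CertFastP.partP_fast C alC (by decide +kernel : Cfsg.Agent.SporadicRecognition.CertFastP.runPF C 12 4095 0x20000000020000010000010020000000020010630020000000c30000000020010000020000d30000020000010430630000010020020000000010000330000730020020000020010000010000020000c30000020000020010930230020000000000010020000130000010020430000010000330000000000000020010000010000020000020000000020010530000000010000000003430000000020010530000020020000020020010020000000000020020010000000000000010020000010000000022c300200000105303300200200000200200108300100000200000200207300200100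20000020730022330020012230000000000020020010000000020000010020000000000000020010000010000000000020029340010000000001230001730020010020010d32030000020020020020010000020a30021930000020020010000010000000000020020000010008340000000000000020010000010000000000020000000020010000001130006e4000002001000000000000000002001000000000000001002000000000000002001000001000002000002002000001002000000604604000002001000001000000000002000000002001654000000000000000002001000000000000000002001000000000000001002000000000000002001000001002000000002002000001000000000000000000002001000001063233002002000002002001000033000000000000002001000000002002002002001000000000000001002023000000000002001000001000000000002 24 16777215 0x57bd370000000000000000000000000002d300000035b8270000004d9b270000000000001061079360574fd817000000000000000000000000000000000000000000000000000000000000000000000000000000000000000000000000000000000000000000000000000000000000000000000213000000000000000000000000000000000000000000000000 64 64 = true)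

theorem c2 : PartP C 128 192 := Cfsg.Agent.SporadicRecognition.CertFastP.partP_fast C alC (by decide +kernel : Cfsg.Agent.SporadicRecognition.CertFastP.runPF C 12 4095 0x21930000010000000000010000000000020000000020011b30000000000000000000010000011430001330000000000000000000010000020020010020931230000020010020830230d30010530330020000d30000020000010000000010000020020000000000010000020000000010531c30000430000000020010020430020130000010002e30000010000000022e30000010021b30000000010020020002230010000000e30000020020000000010000000000010000000000c30000000001a31b30010000010000000020020000000000010000020010020000e31530020730020000010020001230000010000020a30000000020010000f30000022330000020010230002030020000010000020000000000010001930000010020000000000000020000010020011430001330c30010630000020000000020020000003130010010021730021b30f30020000000002430010000000020010000000000000020000330010020012630001030000020010000e30000020010632b30000000020000001730020010030010020000000020020000020000011b30000430020130020010020000d30000010020020001630010532530a30000000000000010000010020000000020c30730022b30020020010000000000010022830020020000010020020020000000000010020000000000010020f30000d30000000020010000010000000000020010630000000020c30000d3000002002001000000000001002002000001000002000002000000000000001093001002000002183223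 24 16777215 0x3230000000000000000000000003469170000000000004d9b170000000000000000000000000000000000000000000000000000000002930000000000000000000000000000000000000000000000000000000000000000000000000000000000000000000002930000000000000000000000000000000000000000000002164bd617000000000000000000620f17000000000000000000000000000000000000000000000000000000000000000333000000000000000000 128 64 = true)

theorem c3 : PartP C 192 217 := Cfsg.Agent.SporadicRecognition.CertFastP.partP_fast C alC (by decide +kernel : Cfsg.Agent.SporadicRecognition.CertFastP.runPF C 12 4095 0x430d30000020010020010001430000020000000000010000020030430000000000020010020011430001030000000020000000010c30020000010000000000000000000000010000020010000001330020010630000000021f30000000020000020010001e30000010001d32e30020010000020000000000000020010000002731731a31b30010000020010001c30000002a30010020020000020000000010020830731930000010000020230000000000020010000000000001830010001630000010020000000021430000010c30010001730e30000020431e3000000153001 24 16777215 0x4e65470000004cb507000000000000000000000000000000000000000000000000000000000000000000000000000000000000000000000000000000000000000000000000000000000000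 192 25 = true)

theorem all : PartP C 0 217 := (((c0).append C c1).append C c2).append C c3

end Cfsg.Agent.SuzType.PresA6Chk0
end

-- part: SuzType/PresA6
section
set_option autoImplicit false
set_option maxRecDepth 100000

namespace Cfsg.Agent.SuzType.PresA6

open Cfsg.Agent.SporadicRecognition.CosetCert Cfsg.Agent.Lib.CosetPartial Cfsg.Agent.SuzType.PresA6Data

theorem part : PartP C 0 C.N := Cfsg.Agent.SuzType.PresA6Chk0.all

/-- every target word lies in `H` as soon as the relators hold and the subgroup words lie in `H` -/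
theorem mem {G : Type*} [Group G] (H : Subgroup G) (g : Nat → G)
    (hinv : ∀ x, x < 6 → g x * g (C.inv x) = 1)
    (hrel : ∀ r ∈ rels, ev g r = 1) (hsub : ∀ s ∈ subw, ev g s ∈ H) :
    ∀ w ∈ targets, ev g w ∈ H :=
  mem_of_checks C H g rels subw targets
    (Cfsg.Agent.SporadicRecognition.HypFast.and_fast (by decide +kernel)) hinv hrel hsub part (by decide +kernel)

theorem eq_one {G : Type*} [Group G] (g : Nat → G)
    (hinv : ∀ x, x < 6 → g x * g (C.inv x) = 1)
    (hrel : ∀ r ∈ rels, ev g r = 1) : ∀ w ∈ targets, ev g w = 1 :=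
  fun w hw => Subgroup.mem_bot.mp (mem ⊥ g hinv hrel (by simp [subw]) w hw)

end Cfsg.Agent.SuzType.PresA6
end

-- part: SuzType/PresBrData
section
set_option autoImplicit false
set_option maxRecDepth 100000

namespace Cfsg.Agent.SuzType.PresBrData

open Cfsg.Agent.SporadicRecognition.CosetCert

noncomputable def t0 : Tr := beta% (fun (N : Nat → Tr → Tr → Tr) (L : Nat → Tr) => (N 192 (N 96 (N 48 (N 16 (L
  0xffffffffffff05584111f0d40138110120020278220b5079ffffff3ffffff10f0ca01180b1148cd0e70abffffffffffff01000d0e00a61ffffffffffffffffffffffff0fc8bbffffffffffffffffff00f00d0a7d0061080c400e0010cf89802481f09106c02081c01080f00f80e6ffffff0a587b0990710d589c0e98ae00c00b08606200d8080a807d3ffffff01b81801100f48f8c10df0a5ffffff00c80c00b00101f01b1ffffff0d409bffffff009809ffffffffffffffffffffffffffffff5ffffff0bd8890b908600880100a00a0150120b10830b30840b80855ffffff09a87202301e09386e09206d00680700800100d00c01c8193ffffff4bb022088064ffffff0340290058010070080858620870633ffffff004805a7d801ffffffffffffffffffffffffffffff0770587ffffff00500600380407185506c05106f85406884e05f84805d8476ffffff002803004005ffffff05b84505a04404883704d03bffffff7ffffff00300400180204503503f03104383403b02e0320280308276ffffff00080100200302b0240298230280220128100190160168137ffffff00100200e80d00a80a00900900780800600700b80bfffffff)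
  (N 32 (L
  0xffffff1cb14e02501fffffff026821ffffffffffffffffff1048c26ffffff1c294702582002400d0d109810b8c7ffffff1c19461060c35ffffffffffff023808ffffff0ad88002201d0a987e0988710970703ffffffffffff02101c1b81411b69400aa07e02281e0f50b51b593f6ffffffffffff02181dffffffffffff02000dffffffffffffffffff3ffffffffffff0e08a6ffffffffffff4ce97dffffff01e01a01f80b1ffffff1a51331130cc0fb093ffffff01d01919692901e81b0f90ba3ffffff0a207809787019912a09506f19712901d81affffff01c0080ffffffffffff18291945588f18e0b218d87b0e20a701a8170e60aa1ffffff01981617f91747110520c97817d91617510e01b0181771107ffffff01a01703282825418117310cffffff02c82501880203982d1ffffffffffff16b104ffffffffffff46f923ffffffffffff0180140ffffff017013169903ffffffffffff1689021530f51570f8ffffff7ffffff01781403102714f8f302e82614d8f21228d61518f40160020ffffffffffff0cc89613c0e813a8e70b18830158090140110c60911ffffff1300de12c0dc01301011e8d40b38841278da01481212a8db5)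
  (L
  0xffffffffffff03e0222689b21da95a03c82f1d71581d61571d49563ffffffffffff03b82effffffffffff1d795803d03021197affffff6ffffff25f1ab03c02fffffff06184903a803043034ffffffffffff3ffffff1799120548402499a217410d4e68bc4de09f03882c03a0161ffffff23f99bffffffffffff21517b03782b13e8e803902d15c8fb3ffffffffffff1d51562389961d395513f8e803802cffffff0368220ffffff1ed15e1e91664c4929ffffff1dc15b036023034829ffffff1ffffff231190ffffff033807ffffffffffff22e18e03502a23018f5ffffff04f83d033016ffffffffffffffffffffffff0318030530401ffffffffffffffffffffffff046836ffffff15f8fdffffff0300030ffffff1f916e1f216902e01314f0f31558f7ffffff21317b02f8245ffffff08d869ffffffffffff18391a02c016ffffff02d822ffffff3ffffff1f596b04183302a02302b8021e21601ea9671eb96802f0265ffffff1de95d05684202900202a82403582a1db95bffffff1508f35ffffff4bb80703d830ffffff0b607402701002880202d02503702b3ffffffffffffffffff026020ffffff1ce9510dc0a20d309a0d20995)))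
  (N 64 (L
  0xffffffffffff05402dffffff227988ffffffffffff05203f0538281ffffffffffffffffffffffff2459a005103effffff052840ffffff3ffffffffffffffffffffffffffffffffffff05183fffffff0500340ffffffffffffffffffffffffffffffffffff22898904e83cffffff1ffffff04d83bffffffffffffffffffffffffffffff04f03dffffff7ffffff04e03c060048ffffff2d7200ffffffffffff04c80406704d1ffffffffffff05e0472c99f705c8462c81f62b41e8ffffff04c0040ffffffffffff2799beffffffffffffffffff04b83104a0382739b91ffffffffffff2b81ec049037ffffff2709b7ffffff04a839ffffff5ffffffffffff07f85effffff049838048004059844ffffffffffff3ffffff2ac1e1163900046027ffffffffffffffffff2461a00478355ffffff2a89de058043044031045803ffffffffffffffffff0470365ffffffffffffffffffffffffffffff04282effffffffffff05083e3ffffff2959d10420240408322041752849c52009721f396a1f19695ffffff2811c203f83120497504103327b9bf2771bc2719b82219856ffffffffffff04003203e80304483504b03926f1b62701b72239865)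
  (N 80 (L
  0xffffffffffffffffffffffffffffff06a04f30121a300219ffffff3ffffffffffff06904effffffffffff301a1a06a85030821effffff6ffffffffffff06984fffffffffffff06800506f054309a1fffffff3ffffffffffff07e85d323a2f2d8201ffffffffffff06604c06783b1ffffffffffffffffffffffffffffff06504bffffff06684d2d09fb3ffffffffffffffffffffffffffffffffffff06584cffffff0640440ffffffffffffffffffffffffffffffffffff063845062049ffffff1ffffffffffffffffff06102effffff2629aeffffff06284affffff5ffffffffffff06083bffffffffffffffffff07305605f00507d05d1ffffff07985a05e83a30ea210750573102222d19fd2cb9f905d0050ffffffffffffffffff05c03a2c91f7ffffffffffffffffffffffff5ffffffffffff08286005b004ffffff06304affffffffffffffffff5ffffffffffff06b050ffffffffffff05903705a804ffffff06484b3ffffff2f4a0f058835057042206176ffffffffffff2a79dd1641005ffffff2f020b056023207176057843ffffff1e69641dd95c1661016ffffff2e0a04055010ffffff1258d81d9159ffffff1208d5ffffff6)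
  (L
  0xffffff37a26e082045ffffff083861ffffffffffff30521c2d51ff6ffffff36926108185436726033c23e08005e30321b2d9a0233923d3ffffff357a5407f0372be9f02b51e9303a1b08085f2b31e72b21e66ffffffffffff07e04dffffff31aa29ffffff32623007c05c07d8481ffffffffffffffffffffffff31f22d07b05bffffff07c85dffffff3ffffffffffff339a3dffffffffffffffffff07b85c326a3007a0540ffffffffffffffffffffffffffffffffffff313a24ffffff0788590ffffff077858ffffffffffffffffffffffffffffffffffff07905a7ffffff078059ffffffffffffffffffffffffffffffffffff0768060ffffffffffff2d29fe074847ffffff316226ffffff31fa2d0760555ffffffffffff2d9202341a4334b24a072848ffffff074054ffffff3ffffff340242084061070851072005333238ffffff33f2410758575ffffffffffff08105fffffff33823c06e84e07000507385607a85b3ffffffffffffffffff06d852ffffffffffffffffffffffff306a1d5ffffffffffff06c851ffffff06e053ffffffffffffffffff30ba206ffffff32fa3506d05206b805071055ffffffffffffffffff30d2215))))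
  (N 144 (N 112 (L
  0xffffffffffffffffffffffff1a1130ffffff19d92dffffff09681e0ffffff4a78f4ffffff09481919892a4a189dffffff49f8f909606e5ffffffffffff0b008209286d0940083b929fffffffffffff09586f5ffffff3b5a9c1c014509180809306e09e075ffffff4b7a7e19a12a5ffffffffffff09006bffffffffffffffffffffffffffffff1100cb6ffffffffffff09086cffffffffffff08f064ffffffffffffffffff3ffffff4c20623a4a8f4771912100a820f818ffffff08e0693822751ffffff08d02520e91f49019c3a128d20e07a20897708e86a20d91c7ffffff4c1063397a82ffffffffffff4e5287ffffff385a7708c8670ffffff08c02b396281ffffffffffff4ec99bffffffffffffffffff7ffffffffffffffffffffffffffffffffffff38327608a8643812741ffffffffffff08a063ffffffffffff389a7a386a78ffffff0888640ffffffffffff087807ffffffffffff0ac07f08f86b08b0660890656ffffff4c1868089865ffffffffffffffffff0a687cffffff0868070ffffffffffff08b866ffffffffffffffffffffffff085007ffffff1ffffffffffff084855083060ffffffffffff347247ffffff2d31fe5)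
  (N 128 (L
  0xffffffffffff0ae8810ad01effffffffffffffffffffffffffffff5ffffffffffff0ab07effffff3eb2c9ffffff0ac864383a76387a796ffffffffffff0ab87f3e9ac83e82c70a901e0aa81d1ba9421bc1433ffffffffffff0ee0b03e02c30eb8afffffffffffff0a707c0a880c1ffffffffffff1bf1444bd27fffffff0a60630f88ba0a787dffffff3ffffffffffff1959284a6134ffffff18e8a70ef8b10a487a0f38b41ffffff0a38793ab29445a0e519010fffffff18f9160a507b3a5a907ffffff0a407a1210d54ef2b54e80be0b68250b70160a28721240d71ffffffffffff3ccaaeffffffffffff4cc13319b92bffffff0a10770ffffff0a00763cb2adffffffffffff4d1aacffffffffffff0a18787ffffff0a0877ffffff12b0dbffffff15b0fb1598faffffff09f0720ffffffffffff3bdaa34e28f2ffffffffffff09e86d09d0743ba2a01ffffffffffff26a9b409c073ffffff4ba27effffff09d875ffffff50b5822ffffffffffffffffff09c87409b072ffffffffffffffffff30b481009a008ffffffffffffffffffffffff09b8730a307909f8767ffffffffffff09980cffffffffffff1b99420f48b509801e0ed8b01)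
  (L
  0xffffff0c488f4112e9ffffffffffffffffff4190e54178df4cc92b7ffffff0c5090ffffff4588b245501845b0e6ffffff0c38894599231ffffffffffff40d2e54b28e34ada894f929effffffffffff0c208d0ffffff0c108c40bae44b3a83ffffff4f792c4f50f9ffffff0c288e7ffffff0c188dffffffffffffffffffffffffffffff46a9020c00890ffffffffffff4092e10bf08a402adcffffffffffffffffff48e2735ffffffffffff404add4032dc0bf88b0be089ffffff4620e646815e3ffffff0bd009ffffff4569793f4acfffffff0be88a0c408f0c088c7ffffffffffffffffffffffff3f92d3ffffff3f6ad10bb886ffffff1ffffffffffff0bb085ffffffffffffffffffffffff3fe13e0b98860ffffffffffff0b8809ffffff0ce097ffffff0ca0940bc0880ba0876ffffff0c308e0ba887ffffffffffff4f10be4a3ab6ffffff0b78090ffffff4160df0bc8880fa8baffffff1280da0b40110b28090c88931ffffffffffff1480ee39ba8744e2750b08090b20121290da1420ea3ffffffffffffffffff0af0813c02a4ffffffffffffffffffffffff5ffffffffffff0ae080ffffff0af882ffffffffffffffffffffffff6)))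
  (N 160 (L
  0xffffff0db0a1ffffff46c0e04718df3c32a6ffffff0d989b4aa29e1ffffffffffff4df1974d8aa9ffffff4de82dffffff1010bf0d889e0ffffff0d789dffffffffffff4d411b4d90f4ffffffffffff0d909f7ffffff0d809effffffffffffffffffffffff4a206f4a912c0d689b0ffffffffffffffffff0ea0ae0d600c0d489bffffff3c2aa60ec0af3ffffff0d380affffffffffffffffffffffff0d509c0da0a00d709d7ffffffffffffffffffffffffffffffffffffffffff0d28211d21541ffffffffffffffffffffffff1040c2ffffffffffffffffff0d18210ffffff42b2f90ce8970d081f0d000d1c614affffff42a2f80fd0bb6ffffffffffff0cf0980cd886ffffffffffffffffffffffffffffff5ffffffffffff0cd012421af41490ef0cb8951458ec12c8dc1410e93ffffffffffff0ca894ffffffffffffffffff0cc096ffffff4202f36ffffffffffff0cb095ffffffffffff0c9886ffffffffffffffffff3ffffffffffff1ad139ffffff0fb81affffffffffff0c78920c90841ffffffffffffffffffffffffffffff0c6891ffffff0c8093ffffff3ffffffffffffffffffffffff13e0d6ffffff0c7092ffffff0c58120)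
  (N 176 (L
  0xffffffffffff0ee87dffffff3c42a75093183e2ac41bd9440ed0710ffffff4d6291ffffff0eb07d3dfac3ffffffffffffffffff0ec89c5ffffff4662ed3c52a80e900c0ea89c0f20b3ffffff18c1243e12c35ffffffffffff4950c10e80acffffffffffff444309ffffff4429535ffffffffffff0e78abffffff0e88adffffffffffffffffff4413076ffffff4ff311ffffff0e680f1140cdffffffffffffffffff440b085ffffffffffffffffffffffffffffffffffff3ac295ffffff0e58180ffffffffffff44bb0effffffffffffffffff0e50a50e38a8ffffff1ffffffffffffffffff0e28a7ffffffffffff44d8eb0e40a944d083520f06affffffffffffffffff0e30a80e1818ffffffffffffffffff3ffffff11a8d10e101bffffff1160ceffffff1af13a1118cc0df80f0ffffffffffff11b8d20de80bffffff0e48a9ffffffffffffffffff5ffffffffffffffffffffffffffffff0dd8a3ffffff4acae1ffffff3ffffffffffff0dc8a2ffffffffffffffffff0de0a4ffffff44530a6ffffffffffff0dd0a3ffffffffffff0db821ffffffffffff443b093ffffff0da8a043b304ffffff48c16848199347b10f48290cffffff7)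
  (L
  0xffffffffffff49b30b4860f6ffffffffffff1030c13802731018b804da02bffffffffffffffffffffffffffffffffffff10089fffffff1ffffffffffff4f6ad74e88793d2ab5ffffff4f08850ff8bd4e98eb1ffffffffffffffffff0fe8bcffffffffffff4efa8d1000beffffff5ffffffffffff4ed9a74e12ed0ff0bd0fe09f4e602d4e00e8ffffff3ffffff42eafcffffff0fc00effffffffffffffffff1aa1370fd8985ffffff1a8936ffffffffffff0fa0840f807cffffffffffff0f981a3ffffffffffffffffffffffffffffffffffffffffff0f7815ffffff1ffffffffffffffffffffffffffffffffffffffffff0f68b71020c01ffffffffffffffffff0f60b6484980ffffffffffff0f70b8ffffff5ffffffffffff512b1e47c180ffffff0f5815ffffffffffff4751923ffffffffffffffffffffffffffffff0f40711b9142ffffffffffff3ffffffffffffffffffffffffffffffffffff191125ffffff0f307b0ffffffffffff507b17454ad0ffffff4571960f28ae0f10b2ffffff1ffffffffffffffffff0f00b145808f18c924ffffff0f18b3ffffff518d018ffffffffffffffffff0f08b20ef07bffffffffffffffffff3)))))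
  (N 288 (N 240 (N 208 (L
  0xffffff1188cfffffffffffffffffffffffffffffffffffff11a0d17ffffff1190d0ffffffffffffffffffffffffffffffffffff1178ca0ffffffffffff1b213d1158a6ffffff4342fdffffff433aff1170cd5ffffffffffff11d0d31138ab11500f502b14ffffff3fcad41168ce5ffffffffffff11281affffff1a99371108cbffffff1120a6ffffff3ffffffffffffffffffffffffffffffffffff1110ccffffff10f86c0ffffffffffffffffffffffffffffffffffffffffff10e0c91180cf1ffffff10d0c8ffffffffffffffffffffffffffffff10e8caffffff7ffffff10d8c9ffffffffffffffffffffffffffffff10c0c4ffffff1ffffffffffffffffffffffffffffffffffffffffff10a8c61c714b1ffffffffffffffffff1098c5ffffffffffffffffff10b0c7ffffff5a7c04effffffffffffffffff10a0c61088c4ffffffffffffffffff3a7c80510780dffffffffffffffffffffffff1090c510c8c8ffffff7ffffffffffff1050c21070bbffffff51bb24ffffff43f30810681f6ffffffffffff1058c3103899ffffffffffffffffff43db07ffffff5ffffffffffff4958adffffff48f00b1028c0ffffffffffffffffff3)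
  (N 224 (L
  0xffffffffffffffffff1318df46b8a04152edffffff1330e1ffffff5ffffff416884418aeb4720a01320e01308deffffff4170904b1a9d3ffffff12f81141d2f0ffffffffffffffffff1310df1388e51350e27ffffffffffff12f0dbffffffffffffffffffffffff4242f512d8dc0ffffffffffff12b811ffffffffffffffffffffffff12d09612e0dd6ffffff1378e412e8ddffffffffffffffffffffffff1438eb12a0110ffffffffffff3f32ce24019bffffff12701112888412988349ca8d3ffffffffffff1260d8ffffffffffffffffffffffff52fb2effffff6ffffffffffff1268d9125041ffffff2e4207ffffff52c32dffffff5ffffffffffff2e8209ffffffffffffffffff1520f41230d61248791ffffffffffff225987ffffffffffff12201314d0f21238d713d8e83ffffffffffff121879ffffffffffffffffffffffff1200412e9a091ffffff255980ffffff11e01111f8101338e1ffffff414aedffffff5ffffffffffff11d8cd11c0d2ffffffffffffffffff3fd2d31b293d5ffffffffffff11b0a5ffffff11c8d3ffffff447b0cffffff1b413e6ffffffffffffffffffffffffffffffffffff4fb30fffffff1198d00)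
  (L
  0xffffffffffff1498efffffff14b0f1ffffffffffffffffffffffff6ffffffffffff14a0f01488964212f4ffffffffffffffffffffffff5ffffffffffffffffffffffffffffff1470edffffff3f2ace3f12cd3ffffffffffff1460ecffffffffffffffffff1478eeffffffffffff6ffffffffffff1468edffffffffffff145096ffffffffffffffffff3ffffffffffffffffffffffff1448d71428eaffffff1440db4e90be344c8a8ffffff3f1acdffffffffffffffffff1430ebffffff1418830ffffffffffffffffffffffff41e2f1ffffffffffffffffff1408960ffffffffffff14b8f113b0e713c81213f02c14002b4e08bc13d0d65ffffffffffff4262f613a01213b8e8ffffffffffffffffffffffff5ffffff1390e5ffffff45c1a44631a3ffffff45b88f46188a4640f57ffffff1398e6460abc45f90f45a87a419890ffffff1380de4b82ac1ffffffffffff536b30ffffff4932831f015f1ef968ffffff1368e30ffffff1358e24b5ae84982894b308e2160f621497bffffff1370e47ffffff1360e3533b2fffffffffffffffffffffffff4b09331348de0ffffffffffffffffffffffffffffffffffff1340d41328e0ffffff1)))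
  (N 256 (L
  0xffffff2fba15163036ffffff16590154fb3c2b11e52479a11648436ffffffffffff1628f2ffffffffffff1610fe2eb1afffffff2ec9b33ffffffffffff1600fdffffffffffffffffff1618ffffffffffffff6ffffffffffff1608feffffffffffff15f027ffffffffffffffffff3ffffffffffffffffff1ee168ffffffffffffffffff15d0fb15e8f41ffffffffffffffffffffffffffffff15a0fa15b87615d8fc15c02c3ffffffffffff2ed1b3ffffffffffffffffff15a8fbffffff1588f20ffffff1578f8ffffffffffffffffff4f588d4ab12c4a006f49a2a67ffffff1580f9ffffffffffffffffffffffffffffff15681416e9071ffffffffffff220184252192ffffffffffff1560261548f621b9801ffffffffffff52632a1538f54858c021397bffffff1550f72519a45ffffffffffffffffffffffff1540f6152814168102ffffff4638e63ffffff4a706fffffffffffff1fe171ffffff4d989e15101315e0fc1ffffffffffff16710114e82615001321a97fffffff24a9a2ffffff5ffffffffffff1620ffffffff4e207514c8d614e0134dd89e1590fa3ffffffffffff14c0e814a8f052db2dffffffffffff4f39a72261875)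
  (N 272 (L
  0xffffff178111181118ffffffffffffffffffffffff1919251768170ffffff47a2a6ffffff17590e4600e547a8a1236193ffffff48415b518f07affffffffffffffffff17610f17481717d116ffffffffffff3ffffffffffff2a29d917382d2491a21ff96fffffff1ff1712529815ffffffffffff22c98c172816255181ffffffffffff4830a124c1a25ffffffffffffffffffffffffffffff17190affffff55eb47ffffff3ffffffffffff170909ffffffffffffffffff17210bffffffffffff6ffffffffffff17110affffffffffff16f904ffffffffffffffffff3ffffffffffff55f347ffffffffffff16f0b9ffffff47492347295d3ffffff49415bffffffffffffffffffffffff46d15d16d906ffffff1ffffff49e289ffffffffffffffffff16c90546f19216e107ffffff3ffffff46a162479922ffffff47081746999216d106ffffff16b9020ffffffffffffffffffffffffffffffffffff170109ffffff16a1030ffffffffffff169014ffffffffffffffffffffffffffffff16a9046ffffffffffffffffffffffffffffff1678f5ffffff46b08c16c1053ffffff2f3a0effffff1651002ee20a55333fffffffffffff1668425)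
  (L
  0xffffffffffffffffff189917ffffffffffffffffffffffffffffff5ffffff595365ffffffffffffffffff18811e3a8a923a428f3a228e3ffffffffffff18711dffffffffffffffffff18891fffffff593b646ffffffffffff18791effffffffffff186117ffffffffffff5923633ffffffffffff3a2a8effffff49799bffffffffffff3aca951851160ffffffffffff57eb5a4d389effffff4ce2c320b97818411a4c62a91ffffffffffff586b5e183025ffffff20b1794c712a18491bffffff5ffffffffffffffffffffffffffffffffffff193126181917ffffff1ffffffffffffffffffffffffffffff581b5b573351ffffff1801170ffffffffffff17f017ffffffffffffffffff18691d182119180918620d069ffffff18911fffffffffffff17c90e17e01717e8a718591c3ffffffffffff25698117b91456a34dffffff565b4b54db3b2a41d95ffffffffffff17a913ffffff17c115ffffff574352ffffff2dc2036ffffffffffff17b11417a028ffffff22b18bffffffffffffffffff5ffffffffffffffffffffffffffffffffffff24d9a3ffffff1789110ffffff177910ffffffffffffffffffffffffffffffffffff1791127))))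
  (N 336 (N 304 (L
  0xffffffffffff1a21311a0870ffffffffffffffffffffffffffffff5ffffffffffffffffff4c9195ffffff19f12effffff4db13cffffff3ffffffffffff19e12dffffffffffffffffff19f92f3ef2cc38e27a6ffffffffffff19e92effffffffffff19d070ffffffffffff38da7b3ffffffffffffffffff19c12bffffff4ab8f94f708d4a989dffffff5ffffff4b21294d2aeaffffff19c92c19b0784c5133ffffff4cd0903ffffffffffff1a393219806f199819ffffff4cb1794a12c319a86d5ffffffffffff1a012fffffff4c402a19601a1978194ca17dffffff3ffffffffffffffffffffffff3d9abd194927ffffffffffffffffff3ffffffffffff193926ffffffffffffffffff195128ffffffffffff6ffffffffffff194127ffffffffffff192919ffffffffffffffffff3ffffffffffff562b4affffff4739081908b4ffffff1921104522d03ffffff45f2dcffffffffffffffffffffffffffffff18b8aeffffff1ffffffffffff47610b18b0aaffffffffffff47001547410845908f5ffffffffffff47910518a92155b344ffffffffffffffffffffffff5ffffffffffff18a120ffffffffffffffffffffffffffffffffffff6)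
  (N 320 (L
  0xffffffffffffffffff1b601d1b7941ffffffffffffffffffffffff5ffffffffffffffffffffffffffffff38ba7b1bd1443e32c41b501d0ffffffffffffffffff1b313dffffffffffffffffffffffff1b48d25ffffffffffff1b18ceffffff1b393effffffffffffffffffffffff6ffffffffffff4d517dffffffffffff1b093b4e3acc4da92fffffff3ffffffffffff1af93affffffffffffffffff1b113cffffffffffff6ffffffffffff1b013bffffffffffff1ae8a6ffffffffffffffffff3ffffffffffff1ad8931ac138ffffffffffffffffffffffff1ae0885ffffffffffff1ab137ffffff1ac939ffffffffffffffffff3f9ad36ffffffffffff1ab9381a90cc43614dffffffffffff1aa8bb3fb2d45ffffffffffffffffffffffffffffffffffff39b287ffffff1a79350ffffff1a6934ffffffffffffffffff499a8349e99cffffff1a81367ffffff1a71354af2bfffffff4a687b4ae19dffffff4b4a9c1a59330ffffff1a481a4d12b4ffffff4bf98e4c592b4cb8784b00e21a61347ffffffffffff1a412a1a2931ffffff5a2b70ffffff4a82c61c09455ffffff59f36d1a1930ffffff1a3132ffffffffffffffffffffffff6)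
  (L
  0xffffffffffffffffff1cc94fffffffffffffffffff1ce151ffffff5ffffffffffffffffffffffff1cd1501cb94effffffffffffffffff3ffffff1ca820ffffffffffffffffffffffff1cc14fffffffffffff7ffffffffffffffffff435937ffffffffffff529b2c1c894c1ca1461ffffffffffffffffff4372ffffffff1c794bffffff1c914dffffff3ffffffffffffffffffffffffa799fdffffff1c814c52a32c1c68c70ffffffffffffffffffffffffffffffffffffffffff1c514942fafd1ffffffffffffffffff1c4148ffffffffffffffffff1c594a5043135ffffffffffffffffffffffff1c49491c3147ffffffffffffffffff3ffffff1c201fffffffffffffffffffffffff1c3948ffffffffffff7ffffffffffffffffffffffff4352d4ffffffffffff1c101f1c994d1ffffffffffff1bf86d3c1aa5ffffff5b537c3bb2a13b4a9bffffff6ffffffffffff1be87cffffff3dcac01bc93f38b27b1be0b0ffffff3ffffffffffff388279ffffffffffffffffffffffff3b329a1bb87e0ffffffffffff384a765afb78ffffff1b88b51ba0711bb07effffff3ffffff5ae377ffffff1b7140ffffffffffffffffffffffffffffff5)))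
  (N 352 (L
  0xffffffffffff203174ffffffffffffffffff1e28241e115f1fa16f1ffffffffffff53a3331e015effffff1ec1681f08e41e1960465adc5ffffff1ed82affffffffffff1e095f1df15dffffff23399246888a3ffffff1de023ffffffffffff46dad046c9071df95e1e39614731087ffffffffffffffffff5bab7f393280ffffffffffff1dd042ffffff1ffffff493907ffffff4beaac48d2901db0231dc82a22e98e48390f3ffffffffffffffffff1da0302681b2ffffffffffffffffffffffff5ffffffffffff1d8158ffffffffffffffffff1d9841ffffff2e5a086ffffffffffff1d8959ffffffffffff1d6830ffffffffffff2649af3ffffffffffffffffffffffffffffffffffff21117a1d5830ffffff1ffffffffffffffffffffffff23b998ffffffffffff23a9971d40300ffffffffffffffffff1d302b238196ffffffffffffffffffffffff5ffffffffffffffffffffffffffffffffffffffffff1d11531d289a1ffffffffffffffffffffffff43d3071d0152ffffff1d19544420ad3ffffffffffffffffffffffffffffffffffff1d0953ffffff1cf1510ffffffffffffffffffffffffffffffffffffffffff1cd9501cf9521)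
  (N 368 (L
  0x1fe90dffffffffffffffffffffffff1fa96fffffff1fc171ffffff3ffffffffffffffffffffffffffffffffffff1fb17024f1a41f99600ffffffffffffffffffffffffffffffffffff21817dffffff1f816d0ffffff1f716cffffffffffffffffffffffffffffffffffff1f896e7ffffff1f796dffffffffffffffffffffffffffffffffffff1f616b0ffffff1f5024ffffffffffffffffffffffffffffffffffff1f696c7ffffffffffff1f4968ffffff5c6387ffffffffffff1f30332a09da1ffffff29d1d71f282627f9c1221185ffffff21d98221717c1f10330ffffffffffff1f416a48b8a11ee8fc1ef0e41ec95f1eb0241fc9711ffffffffffff2a51dbffffffffffff1ea024ffffffffffffffffff3ffffffffffff1e982affffffffffff1e8165ffffffffffffffffff3ffffffffffff1e7164ffffffffffffffffff1e8966ffffffffffff6ffffffffffff1e7965ffffffffffff1e6042ffffffffffffffffff3ffffffffffff5c0b83ffffffffffff48019038fa7c1e5162390a7d1ffffff1e41615bf382ffffffffffff47f2894789911e5963ffffff74691051e4962ffffffffffffffffff235192ffffff1e315dffffff1)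
  (L
  0xffffff2560d45163214850b747b8b6ffffff21c981464adc21b0f70ffffffffffffffffffffffffffffffffffffffffff21997e48a1931ffffffffffffffffff21897dffffffffffffffffff21a17fffffff5ffffffffffff4d493cffffff21917e21796e4cf01b4c9929ffffff3ffffff5d3b8effffffffffff2df9ceffffffffffff21696954d33b1ffffffffffffffffff21582cffffffffffff2140f6212826ffffff1ffffffffffffffffffffffffffffff210957ffffff21202f2671b13ffffffffffff45dadb453acf4560894ca92affffff20a178ffffff1ffffffffffff55db46209177476905ffffff4d02c320a979ffffff520c017ffffffffffffffffff209978208069ffffffffffffffffff3ffffffffffff2051752068432078422f82125e039856c34e2eea0a6ffffff5dd396205976203833ffffff2991d4ffffff56ab4dffffff5ffffffffffffffffff53db06ffffff202173ffffff53cb33ffffff3ffffff5d8392201172ffffff5d538fffffff2029745bcb81567b4c6ffffffffffff201973ffffffffffff200033ffffffffffff56634b3ffffffffffff2a21da1fd8f4ffffffffffff2509a41fb9701fd1681)))))))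
  Tr.N Tr.L
noncomputable def t1 : Tr := beta% (fun (N : Nat → Tr → Tr → Tr) (L : Nat → Tr) => (N 576 (N 480 (N 432 (N 400
  (L
  0xffffff2308295c43864a4ab6ffffff488a7c48096323219148719f7ffffffffffffffffffffffffffffffffffffffffffffffff22f8290ffffff4a527cffffff4bf133ffffff22d829ffffff22f15bffffff3ffffff6103b9ffffff22d18cffffff556b40ffffff393a8025d9a85ffffffffffff22c10c56d34effffffffffffffffff48ab0425c9a96ffffffffffff577b54ffffffffffffffffff22b91322a18affffff1ffffffffffff607bb5229189ffffffffffffffffff22a98bffffff5ffffffffffffffffffffffff22998a22803dffffffffffffffffff3ffffffffffff2599a8227040ffffffffffffffffffffffffffffff5ffffffffffff2250d6ffffffffffff2eaa08ffffff2e7a092268f16ffffffffffff222985224836ffffff2af9e4600bb0ffffff2240316ffffff2891c822318622096927f1c15ceb8b5fa3ab2dd2032220325ffffff5f53a7ffffffffffffffffff21f183ffffff527b2a517b213ffffff5f0ba321e1825ecba15eaba0ffffff21f984547338571b506ffffffffffff21e983ffffffffffff21d169ffffffffffff57034f3ffffffffffff25711525490c25381621c180ffffffffffff25310d3)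
  (N 416 (L
  0xffffffffffff2471a124503fffffffffffffffffffffffffffffff5ffffffffffff6173bdffffffffffffffffffffffff24419b4869901ffffffffffffffffffffffffffffffffffff3ca2acffffff24319d0ffffff24219cffffffffffffffffffffffff4ae9344b629d24399e7ffffff24299dffffff49628d49086949f135398a83ffffff24119b0ffffff23f02c4f328649711c2408daffffff4ec06724499f24199c7ffffff620bc323e99623d199ffffff50d31affffff58935f26b1b45ffffffffffff23c198ffffff23d99affffffffffffffffff26d1b56ffffffffffff23c99923b156ffffffffffffffffffffffffffffff5ffffffffffff4df89fffffffffffffffffffffffff23a156ffffff1ffffffffffff23e19a23795523902b45e0ae4578b3ffffff2398745ffffff61cbc0237194ffffff4c892fffffffffffffffffffffffff6ffffffffffffffffff236966ffffffffffffffffffffffffffffff5ffffffffffffffffffffffffffffff23590f4820a148d98f48997f3ffffff232991ffffffffffffffffff46e90623496123415e4758b67ffffff23319247ea9847d0a847786a47816239d28923199047da871)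
  (L
  0x2eb8feffffffffffffffffffffffff2651afffffff2669b1ffffff3ffffffffffff2e6208ffffffffffffffffff2659b0ffffff2641580ffffffffffff305a1cffffffffffffffffff2630492619adffffff1263845ffffffffffff2609acffffffffffffffffff2621aeffffff5ffffffffffffffffffffffff2611ad25f9abffffffffffffffffff3ffffff25e82effffffffffffffffffffffff2601acffffffffffff7ffffffffffffffffffffffffffffffffffffffffffffffff25e02f0ffffff55a34325b9a225a1a8ffffffffffff553b3e25d10125c18c5ffffffffffff259188ffffff25a9a9ffffffffffffffffffffffff6ffffffffffff4ed0bcffffff51db252589a6ffffffffffffffffff3ffffffffffff2581a5ffffffffffffffffffffffffffffffffffff6ffffffffffffffffffffffffffffff257840ffffffffffffffffff3ffffffffffffffffff24e1a345c8e6250171ffffff24f96f2510f6547c8b8ffffffffffff4628e624e9a424d112ffffffffffffffffff3ffffffffffff25b1a924890d24a02dffffff24c97e24b0f324b90c5ffffffffffff2469a0ffffffffffffffffffffffff2481003952806)))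
  (N 448 (L
  0xffffffffffff638bd55deb9767b40027c9b8ffffff27e1bf574b523ffffffffffff2949d06743fb672bfa27a9bc27c03227d9c028d9cc3ffffff665bf027a039663bef2c51f32789bd2c31f22b89ec2c11f13ffffff653be22779bc64fbe064e3df2c39f22791be2bb9eeffffff6ffffffffffff2781bdffffffffffff27683227b1bfffffffffffff3ffffffffffff2919ceffffffffffffffffffffffff2751baffffff1ffffffffffff2921cdffffffffffff2741b9ffffff2759bbffffff3ffffffffffff2c19f1ffffffffffffffffff2749baffffff2730390ffffff28c9cb2729b7ffffff54cb3bffffff27d1c02710322901ce1ffffffffffff2721b8ffffffffffffffffffffffff26f8312761bb1ffffffffffff2931cfffffffffffff26e831ffffffffffffffffff3ffffffffffff26e1b226c1b4ffffffffffff6333d058eb61ffffff5ffffff627bc926a074ffffff26c9b5ffffffffffff3bf2a326b99a6ffffffffffffffffffffffff548b392699aaffffffffffff2ec0ff3ffffffffffff26d9b526795a269030ffffffffffffffffffffffff5ffffffffffffffffffffffffffffffffffffffffff2661b0ffffff1)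
  (N 464 (L
  0xffffffffffffffffffffffff6773fd2939cfffffffffffffffffff3ffffffffffff2929b6ffffffffffffffffff2941d0ffffffffffff6ffffffffffff2911bb2df17cffffff647356643bdd28f1cd2909b81ffffffffffffffffff2de9daffffff28e1cc648b9f28f9ceffffff3ffffffffffffffffffffffffffffffffffff28e9cd6443dd28d1bf0ffffffffffffffffffffffffffffffffffff63abd628b9caffffff1ffffff28a9c9ffffffffffffffffffffffffffffff28c1cbffffff7ffffff28b1caffffffffffffffffffffffffffffff2899c2ffffff1ffffffffffffffffffffffffffffffffffff5fb3acffffff2881c70ffffff2871c6ffffffffffffffffffffffffffffffffffff2889c87ffffff2879c7689c09ffffffffffffffffff68c40bffffff2861c20ffffffffffff2a69dc69040e68ec0d2859722850332839c429e1d81ffffffffffffffffff2829c3ffffffffffffffffff2841c5ffffff5ffffffffffffffffffffffff2831c42819c2ffffff6763fcffffff3ffffff280832688408ffffffffffffffffff2821c328a1c92869c67ffffffffffff2ef20a27e9852801695fdbaeffffffffffffffffff5)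
  (L
  0xffffff2aa1dfffffffffffffffffffffffffffffffffffff2ab9e17ffffff2aa9e0ffffffffffffffffffffffffffffffffffff2a91de0ffffff2a8035ffffffffffffffffffffffffffffffffffff2a99df7ffffff2ff218ffffffffffffffffffffffffffffff2a7043ffffff1ffffffffffffffffffffffff69340f2a59dbffffffffffffffffff3ffffffffffff2a4967ffffffffffffffffff2a61dcffffffffffff6ffffffffffff2a1971ffffff2de1cdffffffffffff29f9d92a116a1ffffffffffff2a310dffffff2dba0329e9d856f34f2a01da2a39153ffffffffffffffffffffffff691c0b56fb4f29f1d9ffffff29d9c50ffffffffffffffffffffffffffffffffffff5cc3895d138c29c1d60ffffff29b1d5ffffffffffffffffffffffffffffffffffff29c9d77ffffff29b9d6ffffffffffffffffffffffffffffffffffff29a1d10ffffffffffff5e2b9affffffffffffffffff2999752981d3ffffff1ffffffffffff6a14162971d2ffffffffffffffffff2989d4ffffff5ffffffffffffffffffffffff2979d32961d1ffffffffffffffffff3ffffff295033ffffffffffffffffffffffff2969d2ffffff29a9d57))))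
  (N 528 (N 496 (L
  0xffffff701c512bd9ef2bf9e92bf05e6d4c35ffffff6b84233562536ffffff6fcc4d2be1f02bc9ec6c44276da4396fac4c6b64226a7c1a5ffffff65d3ebffffff6f04446eec432ba9ec650be12bc1bd660bee3ffffff6dfc3cffffffffffff6d64366a03b857b357ffffff2b99ec0ffffff6713f92b78386c5c272bd1ef6513e12bb1ee2b91be2ba1ed6ffffffffffffffffff2b69ea6c2426ffffffffffffffffffffffff5ffffffffffff2b59e96c2c262b71ebffffffffffffffffffffffff6ffffff6d14322b61ea2b485e2c01f035b25774f47b6cec31ffffff5ffffffffffff317a27ffffffffffff2b383a2c79f6ffffffffffff3ffffff36325dffffff746c25ffffffffffffffffff2b285e738a5f1ffffff35f25affffffffffff355a53ffffff37526bffffff2b185e0ffffffffffffffffffffffffffffff2b090054f33cffffffffffff3ffffffffffff6063b4ffffffffffffffffff2b01862ae9e3ffffff1ffffffffffff6b1c212ad9e2ffffffffffffffffff2af1e4ffffff5ffffffffffffffffffffffff2ae1e32ac9e1ffffffffffffffffff3ffffffffffffffffffffffffffffffffffff2ad1e2ffffff2ab1e00)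
  (N 512 (L
  0xffffffffffff31da2b2d683bffffffffffffffffffffffffffffff5ffffffffffffffffff2d41feffffffffffffffffffffffff2d58605ffffffffffff2d2057ffffff2d49ffffffff350a4f321a2e2d38616ffffffffffffffffffa7a14bffffff2d104730fa2231c22affffff3ffffffffffffffffffffffffffffffffffffffffff2ce1fb2cf9f81ffffffffffffffffffffffffffffff2cd1faffffff2ce9fc2d004c3ffffffffffffffffffffffffffffffffffff2cd9fbffffff2cc1f60ffffffffffffffffffffffffffffffffffff311a232cb047ffffff1ffffffffffffffffffffffffffffffffffffffffff2ca83a2cf1fc1ffffffffffff2d61ff2c88462ca03affffffffffffffffffffffff5ffffffffffffffffffffffffffffff2c71e8ffffffffffff2cc9fa3ffffff72e479ffffff2c69f474b431ffffffffffff74a2327452275ffffff729c752c59f3ffffffffffffffffff725c726c0c25743c2e6ffffff71d46a2c61f42c49be6633ef6693f3ffffff6ba42473fc2f5ffffff712c61ffffffffffffffffff2c29be2c41bd6523e165e3ec3ffffff66d3f62c21b9ffffff641bdb6493dc640bda63fbd92c09be0)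
  (L
  0xffffffffffffffffffffffff2f6a112f520fffffffffffffffffff3ffffff2f4043ffffffffffffffffffffffff2f5a102fca162f92137ffffffffffffffffffffffffffffffffffffffffff557b412f2a0d0ffffff2f1a0cffffffffffffffffffffffffffffffffffff2f320e7ffffff2f220dffffffffffffffffffffffffffffffffffff2f0a0b0ffffff2ef842ffffffffffffffffffffffffffffffffffff2f120c7ffffffffffffffffff2ed901ffffffffffff683405ffffffffffff5ffffffffffff2e88d7ffffffffffffffffffffffff2e71872e90d51ffffffffffff2e69afffffffffffffffffff2ea187ffffff2e51590ffffffffffffffffffffffffffffffffffff2e48d82e3206ffffff1ffffffffffff75b4872e2205ffffff52cb2dffffff2e3a07ffffff5ffffffffffffffffffffffff2e2a062e1204ffffffffffffffffff3ffffff2e0041ffffffffffffffffffffffff2e1a05ffffffffffff7ffffffffffffffffff2db1d9ffffffffffff5cfb8a2dd9852dc9145ffffff37426a2d885675148034d24cffffff2da9e72da05f34c24b6ffffffffffffffffff2d784d32322fffffffffffffffffffffffff5)))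
  (N 544 (L
  0xffffffffffff30ca2130aa1dffffffffffffffffffffffffffffff5ffffffffffff308a1effffffffffffffffffffffff30a04e31ba2a6ffffffffffff30921fffffffffffff307219ffffffffffffffffff3ffffffffffffffffffffffff30b220ffffffffffffffffff3060530ffffff37da71ffffffffffff6303cfffffffffffff304860ffffff1ffffff6d025530221affffffffffffffffff30405effffff364a5e6ffffffffffff302a1bffffffffffff300850ffffffffffffffffff3ffffffffffffffffffffffffffffffffffff307a1e2ff850ffffff1ffffffffffffffffffffffffffffffffffff6a941b2fe217ffffff1ffffff2fd216ffffffffffffffffffffffffffffff2fea18ffffff7ffffff2fda17ffffffffffffffffffffffffffffff2fc20fffffff1ffffffffffffffffffffffffffffffffffff550b3dffffff2faa140ffffff2f9a13ffffffffffffffffffffffffffffffffffff2fb2157ffffff2fa214ffffffffffffffffffffffffffffffffffff2f8a0f0ffffffffffffffffffffffffffffffffffffffffff2f72115e439b1ffffffffffffffffff2f6210ffffffffffffffffff2f7a12ffffff5)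
  (N 560 (L
  0xffffffffffff329231ffffff776c9632585dffffff32705b3282233ffffffffffff32c234322a0132404dffffffffffff3251f7324a005ffffffffffff320a2dffffffffffffffffffffffff3221fe6323cf6ffffffffffff32122e31e85cffffffffffffffffff320057ffffff5ffffffffffffffffff31e22bffffffffffff766c8f630bcf32ea335ffffffffffff31d200ffffffffffffffffffffffffffffff32da346ffffffffffffffffffa7ab2bffffffffffffffffff31c9fd31b21f0ffffffffffff32aa3331a05dffffffffffffffffffffffffffffff5ffffff790ca8319a2278e4a776dc9331822773525e73447f73626b3ffffff7974a93171e8ffffff6cc42e739a5e318a28365a5f7459f56ffffffffffff353251ffffffffffffffffff316857315225ffffff1ffffffffffff781c9e314224ffffffffffffffffff315a26ffffff5ffffffffffffffffffffffff314a2531305affffffffffffffffff3ffffffffffff732c7f769c91ffffff3111f9ffffff312a22327a303ffffffffffff31922876bc9237f27230f1fd310847312223ffffff3ffffff33723b30c220ffffff30e047ffffffffffffffffff30d8516)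
  (L
  0xffffffffffffffffff33da3fffffff7d94d0ffffff7de4997c1cc35ffffff7d5ccd33ca3effffff33e2407d4ccc7d0cc9772c947c34c46ffffffffffff33d23f33b85f366a6036ca64794caa76e4937c4cc55ffffff370a6733a05b7c64c5354a527491f5ffffff33aa3133885f0ffffffffffff37726c337854ffffffffffffffffff37ea72ffffff5ffffffffffffffffffffffffffffffffffff769491ffffff33623a0ffffff335239ffffffffffffffffffffffffffffffffffff336a3b7ffffff335a3affffffffffffffffffffffffffffffffffff3342350ffffffffffff349a49ffffffffffffffffff3338553322373432441ffffffffffff7b8cbf331236ffffffffffffffffff332a38ffffff5ffffffffffffffffffffffff331a37330235ffffffffffffffffff3ffffff32f051ffffffffffffffffffffffff330a36ffffff334a397ffffffffffff32ca2f32b233ffffffffffffffffff32e1ff32d22b5ffffffffffff32a229ffffff32ba34ffffff7a3cb1ffffffffffff6ffffffffffffffffff74c423ffffff329a31ffffff7499f5ffffff3ffffff7ae4b7328a30ffffff7aa4b4ffffffffffff33b23d73347f6)))))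
  (N 672 (N 624 (N 592 (L
  0xffffffffffff35124fffffffffffffffffff352a51ffffff7a5cb26ffffffffffff351a50ffffffffffff3501feffffffffffff7a44b13ffffffffffffffffff34ea4dffffffffffffffffffffffff7e3cd65ffffffffffff34da4cffffff34f24effffff7f0cdc77b4987e8cd96ffffffffffff34e24d34ca02750c80756c847ee4db778c977eacda5ffffffffffffffffffffffff752c81ffffffffffff375a6b34ba020ffffffffffff75848534a856ffffffffffffffffffffffffffffff5ffffffffffff34a2387e54d77c0cc2348a48ffffff7b94bfffffff3ffffffffffff347a47ffffffffffffffffff3492497be4c17a24b06ffffffffffff348248ffffffffffff346861ffffffffffff76848f3ffffffffffffffffffffffffffffffffffffffffff344a45ffffff1346229ffffffffffffffffffffffff343a44ffffff345246ffffff3ffffffffffff7a84b3ffffffffffffffffff344245ffffff342a380ffffffffffff34fa4effffff342056340a42ffffffffffffffffff3ffffff33f855ffffffffffffffffffffffff341243ffffffffffff7ffffffffffffffffffffffffffffffffffffffffff33e855345a461)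
  (N 608 (L
  0xffffff8054e7378a6d36623e36785f74cc78ffffff7f94e13682525ffffff73bc2dffffffffffff73ec56737c7fffffff3652277381e71ffffff761c8cffffffffffffffffff735a28739227ffffff36421b0ffffff3639e7ffffffffffffffffffffffffffffff36225cffffff1ffffff36125bffffffffffffffffffffffffffffff362a5dffffff7ffffff361a5cffffff8284fa826cf9ffffffffffff360254816cf01ffffff35f9e6ffffffffffff7fbce2ffffff6c6c28ffffff35e2590ffffff35d258ffffff7fdcb97fe4b8ffffffffffffffffff35ea5a7ffffff35da598144eeffffff80fcecffffff8194f2ffffff35c2540ffffffffffffffffffffffffffffffffffff35b9e935a256ffffff1ffffffffffffffffff359255ffffff6cf431ffffff35aa57ffffff5ffffffffffffffffff81d4bb359a56358254ffffff762c8d75f48a3ffffff35705e812ced80e4eb771263770a61358a55360a5b35ca587ffffffffffff6a741a3551e6ffffff6c942affffff73c42e3569f05ffffff7ffce3ffffff35423dffffff7ca4c77fb4e278a4a4ffffff5ffffffffffff353a26ffffffffffff352250ffffff78249e788ca33)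
  (L
  0xffffff37ba6fffffffffffffffffffffffffffffff37d271ffffff7ffffff37c270ffffffffffffffffffffffffffffff37aa6effffff1ffffff379860ffffffffffffffffffffffffffffff37b26fffffff7ffffffffffff379260377a6cffffffffffff83a4ff7f6ce0ffffff5ffffffffffff376a3cffffff37826dffffffffffff79bcaeffffff6ffffffffffffffffffffffff789ca43749e6ffffff37624b736a283ffffffffffffffffffffffffffffffffffff754482373269ffffff1ffffff372268ffffffffffffffffffffffffffffff373a6affffff7ffffff372a69ffffffffffffffffffffffffffffff371261ffffff1ffffffffffffffffff9e742cffffff7cc47a7cbc79ffffff36fa660ffffff36ea65ffffffffffff9e8c2dffffffffffffffffff3702677ffffff36f266ffffffffffffffffffffffff8154efffffff36da610ffffffffffff7d34cb8254f8ffffff7964aa36d23e36ba63ffffff1ffffffffffffffffff36aa6280dceb76fc93ffffff36c2647eecdb5770254ffffffffffffffffff36b263369a61ffffffffffffffffff3ffffff36885fffffffffffffffffffffffff36a262371a6836e2657)))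
  (N 640 (L
  0xffffffffffffffffff39295c5ba37fffffffffffff39418d3949a15ffffffffffff4c32c24c28f94bd87cffffff3c62a9ffffff391a7e0ffffff39127d4b9a9bffffff4bcaa6ffffff4ba8744b706d39227f7ffffffffffffffffffffffffffffffffffffffffff4811353901630ffffff4a598effffffffffffffffff38f1634891904882894dba773ffffffffffff38d27a845d0559cb6b38a94438c13f50a318ffffff3ffffffffffff38ca7bffffff59db6c388a7838a065ffffff38e92e3ffffffffffffffffffffffffffffffffffffffffff3b1a9938707f0ffffffffffffffffffffffffffffff38606538927affffffffffff3ffffffffffffffffffffffffffffffffffffffffff3850684dc27c1ffffffffffffffffffffffff5b1379382866ffffff38407f3efacc3ffffffffffffffffff44e88344f287ffffffffffff3a729138186a0ffffffffffffffffffffffffffffffffffff3b1299ffffff3808660ffffffffffff494ae2ffffffffffffffffffffffff37f8c048e88b1ffffffffffff79b4aeffffff76b492ffffffffffff37e23cffffff1ffffffffffffffffffffffffffffffffffff763c8e37ca70ffffff1)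
  (N 656 (L
  0xffffffffffffffffff48c95bffffff4512cf3a6a91ffffff3a507a0ffffff598b68ffffffffffff3ae296ffffffffffff3a391fffffff1ffffffffffff3a311c62a3cbffffffffffffffffff5903623a191f0ffffffffffffffffff3a086949699c4f00bdffffff3d3ab649c0da5ffffffffffff4eba87ffffff85050a39fa8bffffff84ed094f1a983ffffffffffff39ea8affffffffffffffffff3a028cffffffffffff6ffffffffffff39f28bffffffffffff39da82ffffffffffffffffff3ffffff49d906ffffff4ad08e4988e339c99147f962487a7c4912833ffffffffffff84f509ffffffffffff39c277ffffff4e4287ffffff3ffffffffffff4eb28cffffffffffff39a9364e58684e4a8847e1913ffffffffffff4f299bffffff628bca39a285ffffff618bbdffffff3ffffffffffff399a84ffffffffffffffffffffffffffffffffffff6ffffffffffffffffffffffffffffff399281ffffffffffffffffff3ffffffffffffffffff4928e4ffffff39819c499135ffffff491a893ffffffffffffffffffffffffffffffffffff39e28affffff396a810ffffffffffff395867ffffffffffffffffffffffffffffff3972826)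
  (L
  0xffffffffffff3c7aaaffffff4ea0faffffffffffff4c0aa93b98750ffffffffffffffffffffffffffffffffffffffffff3b829effffff1ffffffffffffffffff3b729d439b03ffffff4f988e3b8a9f4aa8a05ffffffffffffffffff43a3033b7a9e3b629cffffff4b699d4b10df3ffffff3b506dffffffffffffffffffffffff3b6a9d4b4134ffffff7ffffffffffff4b927effffffffffffffffff5b6b7d3b41454c82c21ffffffffffff3b2299ffffffffffffffffffffffff3b3943ffffff6ffffffffffff3b2a9affffffffffff3b0a74ffffffffffffffffff3ffffffffffffffffff3afa97ffffffffffffffffffffffff4f228c5ffffffffffff3aea96ffffff3b0298ffffff860513ffffff850d0a6ffffffffffff3af2973ada8fffffff85b510ffffff85cd11852d0b5ffffffffffff590b62ffffff4eaa883ab8aaffffff3ad11cffffff3ffffffffffffffffffffffff3d6aba3aa293ffffffffffffffffff3ffffffffffff3a9292ffffffffffffffffff3aaa94ffffffffffff6ffffffffffff3a9a93ffffffffffff3a811fffffffffffffffffff3ffffff4d58af59a369ffffff49d19f3a629044facf3a7a75ffffff3))))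
  (N 720 (N 688 (L
  0xffffffffffff3ceaafffffffffffff875d1f3d02b1868518ffffff6ffffffffffff3cf2b0ffffffffffff3cdaadffffffffffffffffff3ffffffffffff3cd078ffffffffffffffffffffffffffffff3cbaad0ffffffffffff3ca877ffffffffffffffffff3ce2afffffff3cc2ae6ffffffffffff4d7ab1ffffff4be15b3c999e4d2077ffffff4b88e53ffffffffffffffffff3c8aa3ffffff86bd1bffffff58cb6054bb3a5ffffffffffff3c82a054a33affffffffffffffffff4ee3023c6aa30ffffffffffff4e7b02ffffffffffff3c5a7fffffff4c02a04c691b3ffffffffffff3c48aeffffffffffffffffff505315ffffff3e72c66ffffffffffff3e42c53c38b0ffffffffffffffffffffffffffffff5ffffffffffffffffff4bc27effffffffffffffffff3c209c49a8f91ffffff86e51c3c0aa4ffffffffffffffffffffffffffffffffffff6ffffffffffff3c12a53bf882ffffffffffffffffffffffffffffff5ffffff637bd43be075ffffff3c92ab3bcaa2ffffff3be9b43c72aa3ffffffffffff3bbaa1ffffffffffffffffff3bd2a3ffffffffffff6ffffffffffff3bc2a2ffffffffffff3ba9455b4b7cffffffffffff3)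
  (N 704 (L
  0xffffffffffff3ddac13dc144ffffffffffffffffffffffffffffff5ffffffffffff4af9343db2beffffffffffff5aab755a9b744d6ab45ffffffffffff3da2bdffffff3dbabfffffffffffffffffffffffff6ffffffffffff3daabe3d9128ffffffffffffffffffffffffffffff5ffffffffffff4610e53d82bbffffffffffff53eb344672f04dd2b15ffffffffffff3d72baffffff3d8abcffffffffffffffffffffffff6ffffffffffff3d7abb3d6294ffffffffffffffffffffffffffffff5ffffffffffff4f42b53d52b887e522ffffffffffffffffffffffff5ffffffffffff3d4ab787ed223d5ab9ffffffffffff51fb26ffffff6ffffffffffffffffff3d40d5ffffffffffffffffff51e325ffffff5ffffffffffffffffffffffffffffff4a4085ffffff3d328dffffff1ffffffffffff4f4ab93d20be4ee879ffffffffffffffffffffffff5ffffffffffff4d0933ffffffffffff3d1ab35a6b7253532f4d72bf3ffffffffffff3d12b2ffffffffffffffffffffffffffffffffffff6ffffffffffffffffffffffffffffff3d0aaeffffffffffffffffff3ffffffffffff4d82acffffffffffff3cfab087551f8645164dcabc3)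
  (L
  0xffffffffffff51131d46e15d4540b3ffffff451a753f52cf4529251ffffffffffff585b5d3f4089453179450291450a903f5ad0ffffff5ffffffffffff3f38daffffffffffff3f82d2ffffff3f20eeffffff1ffffffffffffffffffffffffffffffffffffffffff44b30e3f08ee0ffffffffffffffffff61e3c1ffffff4e313cffffff3ee92e3f02761ffffffffffff3ee2c83ecacaffffffffffffffffffa5b5d2ffffff5ffffffffffff3ebac9ffffff3ed2cbffffffffffff848506ffffff6ffffffffffff3ec2ca3ea87fffffffffffffffffff59e36cffffff5ffffffffffff3edacb3e8ac73ea07effffffffffffffffffffffff5ffffffffffffffffff3e787e3e92c8ffffffffffffffffffffffff5ffffffffffff3e62c33e4ac5ffffffffffff5a3b6f4a89323e6aa85ffffffffffff3e3aa7ffffff3e52c6ffffffffffffffffffffffff6ffffffffffffffffffffffffffffff3e20b0508b18ffffffffffff3ffffffffffff3e5ac63df0af3e087d4cf9784cd91b4a092a3e18ae5ffffffffffff4c3a7f3de2c1ffffffffffff84c508ffffff4c7a9b5ffffffffffff3dd2c0ffffff3deac2ffffffffffffffffffffffff6)))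
  (N 736 (L
  0xffffffffffffffffff4072dfffffffffffff883d24ffffff53bb335ffffffffffff4062deffffff407ae0ffffffffffffffffffffffff6ffffffffffff406adf4052ddffffffffffffffffffffffffffffff5ffffffffffff40408affffff405adeffffffffffffffffffffffff6ffffff45e9244082e040208b40388affffffffffff465180ffffff5ffffffffffff45d179401adaffffffffffff5a5371ffffffffffff5ffffffffffff4012d9ffffffffffffffffffffffffffffffffffff6ffffffffffffffffff400ad8ffffffffffffffffffffffffffffff5ffffffffffff400089ffffffffffffffffffffffffffffffffffff6ffffffffffff4f60be880523ffffff3ffad6ffffffffffff4f8af53ffffffffffff3ff2d5ffffffffffffffffffffffffffffffffffff6ffffffffffffffffffffffffffffff3fe887ffffffffffffffffff3ffffffffffff3fa2d3434946ffffffffffffffffff3fc0cd3fb9376ffffffffffff3faad43f8888ffffffffffffffffff3fd8d3ffffff5ffffffffffff3f72d1ffffffffffffffffffffffffffffff449b0d6ffffffffffff3f7ad2ffffffffffff3f6088ffffffffffff44830c3)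
  (N 752 (L
  0xffffffffffffffffffffffffffffff41c2efffffff467abc53332f3ffffffffffff41b2eeffffffffffffffffff41caf053f33487d5216ffffffffffff41baef88dd2888c52741a2ebffffff54133588f5293ffffff4668ae521b27ffffff4e18bcffffff4158e04140d4ffffff1ffffffffffff4b529dffffffffffffffffff865d17ffffff4132eb0ffffffffffff4180dfffffffffffffffffff41aaee412ae9413aec1ffffffffffff4d312bffffffffffff5a8373ffffff59bb6a411ae90ffffffffffff410890ffffffffffff542335ffffffffffff4122ea6ffffffffffffffffff40fae7ffffffffffffffffffffffff5363305ffffffffffff40eae6ffffff4102e8ffffffffffffffffffffffff6ffffffffffff40f2e740dae5ffffffffffffffffffffffffffffff5ffffffffffffffffffffffff40e2e6ffffffffffffffffff40c2e40ffffffffffff40b08dffffffffffffffffffffffffffffff40cae56ffffffffffffffffffffffffffffffffffffffffffffffff40a8a40ffffffffffffffffffffffffffffffffffffffffff4a330b409ae10ffffffffffff40888bffffffffffffffffffffffff4ac0a440a2e26)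
  (L
  0xffffffffffffffffff437997ffffffffffffffffffffffffffffff5ffffffffffffffffffffffff43694cffffff4fe3104312fe432af814330ceffffffffffffffffffffffff4302fdffffff431affffffff3ffffffffffffffffffffffffffffffffffff430afe4fcb1042f14a0ffffffffffffffffffffffffffffffffffff519322ffffff42dafb0ffffff42cafaffffffffffffffffffffffffffffffffffff42e2fc7ffffff42d2fbffffffffffffffffffffffffffffffffffff42baf90ffffff42a898ffffffffffffffffffffffffffffffffffff42c2fa7ffffffffffffffffffffffffffffffffffffffffff4298984322ff1ffffffa746034282f4426af6ffffffffffffa74cd788b526428af25ffffffffffff4258e7531b2e4272f7ffffffffffffffffffffffff6ffffffffffff4250ebffffff5433364232f3ffffff4248dd4f82d73ffffffffffff427af74208ef422096ffffffffffffffffff422af15ffffffffffffffffffffffffffffffffffff423af5ffffff41f8950ffffffffffff41eaf1ffffffffffffffffffffffff5453374292f76ffffffffffff41f2f241d8e9ffffffffffffffffff543b36ffffff5)))))))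
  Tr.N Tr.L
noncomputable def t2 : Tr := beta% (fun (N : Nat → Tr → Tr → Tr) (L : Nat → Tr) => (N 960 (N 864 (N 816 (N 784
  (L
  0xffffffffffffffffff4fbb0fffffff4fdaffffffff4fd2fdffffff5a79226ffffffffffffffffff4fc3104fa8d1ffffffffffffffffff3ffffffffffff44c0a9ffffffffffff44a30dffffffffffffffffff3ffffffffffff448b0cffffffffffffffffff44ab0effffffffffff6ffffffffffff44930dffffffffffff4470d2ffffffffffffffffff3ffffffffffff49b8c0ffffff522b2844630affffff4a2ae2ffffff3ffffffffffffffffffffffffffffffffffff446b0bffffff4448a30ffffffffffff445b0affffffffffffffffffffffffffffff4430a20ffffffffffff43e307ffffffffffffffffff51c32343f8c34400ab6ffffffffffff43eb0843c953ffffffffffffffffffffffff4418ac5ffffff89152a43c305ffffff53d174ffffffffffff524b29ffffff6ffffffffffffffffff43bae3ffffffffffffffffff523328ffffff5ffffffffffff43a8a15c8b884921ddffffffffffff48b18cffffff6ffffffffffffffffff43929effffff4fa0e7ffffffffffffffffff5ffffffffffff4e72a9438b0187151effffffffffffffffff58035a5ffffffffffff438300ffffffffffffffffffffffffffffffffffff6)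
  (N 800 (L
  0xffffff8a0d3451431fffffff515b21ffffffffffffffffffffffff6ffffffffffff514b2051331effffffffffffffffffffffffffffff5ffffffffffff5120b6ffffff513b1fffffffffffffffffffffffff6ffffffffffff511ad051031cffffffffffffffffff58435d56434a5ffffffffffff50f31bffffff510b1dffffffffffffffffffffffff6ffffffffffff50fb1c50e317ffffffffffffffffffffffffffffff5ffffff8743c450c319ffffffffffffffffff50d99affffff58ab596ffffffffffff50cb1affffffffffff50b317ffffffffffffffffff3ffffffffffffffffffffffffffffff5082c45098b0ffffff50aa9a3ffffffffffffffffffffffff50eb1b506b1650bb19ffffffffffff3ffffffffffff505b15ffffffffffffffffff507317ffffffffffff6ffffffffffff506316ffffff897d2e504aa8ffffffffffff5b837d3ffffffffffffa7849da78a25ffffffffffff5030cd501b13ffffff1ffffffffffffffffff500b12ffffffffffffffffff5023145039495ffffffffffffffffffffffff5013134ffb11ffffffffffffffffff3ffffff4fe8abffffffffffffffffffffffff500312ffffffffffff7)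
  (L
  0xffffffffffffffffffffffffffffffffffff537b31ffffff535ae80ffffffffffff5340e2ffffffffffffffffffffffff534ab4532af00ffffffffffff530b2d5322f75312f675dc89ffffff52f0d9ffffff1ffffffffffff53032e52e0f152e8f0ffffff52d20652b8d8ffffff1ffffffffffffffffffffffffffffff52914dffffffffffff52b3233ffffffffffffffffffffffffa7b22affffffffffffffffff5283240ffffff5f8baa5268f6525329ffffffffffff546b38527184ffffff5ffffffffffff523b28ffffff525b2affffffffffffffffffffffff6ffffffffffff52432952230bffffffffffffffffffffffffffffff5ffffffffffffffffff520b26889526ffffffffffffffffffffffff5ffffffffffff51eb25889d26521327ffffffffffff5202b8ffffff6ffffffffffff51f32651d1a7ffffffffffffffffffffffffffffff5ffffffffffffffffffa7ba1fffffffffffffffffff51ab23528b2b1ffffffffffffffffff519b22ffffff51cb08ffffff51b32452ab2c5ffffffffffffffffffffffff51a323518afcffffffffffffffffff3ffffffffffff516980515320ffffff568b4cffffff5182e05171845)))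
  (N 832 (L
  0xffffffffffffffffffffffffffffffffffffffffffffffff555b3c0ffffffffffffffffffffffffffffffffffffffffff55233effffff1ffffffffffffffffff55133dffffff5541a9ffffff552b3fffffff5ffffff554b3cffffffffffff551b3e550215ffffffffffff8a95393ffffff55533dffffffffffffffffff54e9e5ffffffffffff5563403ffffffffffffffffff54c1b8ffffff63d3d8ffffff54e115ffffff5ffffffffffff549339ffffff54aaaaffffffffffff58a19954b2ab6ffffffffffff549b3a5481b3ffffffffffffffffffffffffffffff5ffffffffffffffffffffffff8a6d3754632affffff5479835bdb813ffffffffffff544336ffffffffffffffffffffffff545af28825226ffffffffffff544b37542af5ffffffffffffffffffffffff881d235ffffffffffff540334a52de5a4f5e4ffffffffffff541aee5acb766ffffffffffff540b35a4c5c5a49da853e2bcffffff53faef5ab3753ffffffffffff53a95fffffffffffff5393325bc38153c17453b2e03ffffffffffff538331ffffffffffffffffff539b33ffffffffffff6ffffffffffff538b32ffffffffffff537330ffffffffffffffffff3)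
  (N 848 (L
  0xffffff5f43a6570b4f8ad53b5ee3a2ffffffffffffffffff5721836ffffffffffff571350ffffffffffff56e9d9ffffffffffffffffff3ffffffffffff56b34d56e18d56d98c613bbcffffff56c9765e6b9d6ffffffffffff56bb4e569915ffffffffffffffffffffffffffffff5ffffffffffff566b4bffffff5d7391ffffff5693218845245681736ffffffffffff56734cffffffffffff565115ffffff63ebd8ffffff3ffffffffffff563125561b49ffffffffffffffffff564918563b1d5ffffffffffff560b48ffffff56234affffffffffffffffffffffff6ffffffffffff56134955fb47ffffffffffffffffffffffffffffff5ffffffffffffffffffffffff560348ffffffffffff55e10bffffff1ffffffffffffffffff55cb45ffffffffffff57c358ffffffffffff5ffffffffffff55bb44ffffff55d346ffffffffffffffffffffffff6ffffffffffff55c34555a922ffffffffffffffffffffffffffffff5ffffffffffffffffffffffffffffffffffff62b3cc559342ffffff1ffffff558341ffffffffffffffffffffffffffffff559b43ffffff7ffffff558b42ffffffffffffffffffffffffffffff55720effffff1)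
  (L
  0xffffffffffffffffff58bb5effffffffffff86c51a58d2abffffff5ffffffffffffffffffffffffffffffffffffffffff58999a58835e0ffffffffffff58611affffff58c360ffffffffffff587b5a588b5f6ffffffffffff5852cfffffffffffff58335c592b63584b1dffffff3ffffffffffffffffffffffffffffffffffff583b5dffffff58235b0ffffffffffffffffffffffffffffff580b51ffffffffffff582b5c3ffffffffffff57f11bffffff58e36157db59ffffff58735e57fb023ffffff89dd3357cb58ffffffffffffffffff57e35affffff58b31a6ffffffffffff57d359ffffffffffff57bb46ffffffffffffffffff3ffffff8c654869e3558c3d478bbd4557a9ed69ebb8ffffff69bc153ffffffffffff69d415ffffffffffff6463dd6469ceffffff579b550ffffffffffff69db57ffffffffffff578b52ffffffffffff57a3563ffffffffffff57818bffffffffffff576b5360d3b76083b5ffffff3ffffffffffff575b52ffffff8b4d4060dbb7577354609bb66393d56ffffffffffff5763538b2d3f67d4015739145793555ffbaf5751c03ffffffffffffffffffffffffffffff57291858135bffffffffffff3))))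
  (N 912 (N 880 (L
  0xffffffffffff5a5b718ce54d89a530ffffff5a31325a1b6fffffff1ffffffffffffffffff5a0b6effffff5a42c6ffffff5a237084dd085ffffffffffffffffffffffff5a136f59fb6dffffffffffffffffff3ffffff59e931ffffffffffffffffffffffff5a036effffffffffff7ffffffffffff847d0659d27affffffffffffffffffffffffffffff5ffffffffffffffffff59c27b845505ffffffffffffffffffffffff5ffffffffffffffffffffffffffffffffffff886d2559b2eaffffff1ffffffffffff59aa9161b3bfffffff599364ffffffffffffffffff3ffffffffffffffffffffffffffffffffffff858d0e597b67ffffff1ffffff596b66ffffffffffffffffffffffffffffff598368ffffff7ffffff597367ffffffffffffffffffffffffffffff595b65ffffff1ffffff59491fffffffffffffffffffffffffffffff596366ffffff7ffffffffffffffffffffffffffffffffffff599b69ffffff59311e0ffffffffffff594364ffffffffffffffffffffffffffffff59191d0ffffffffffff59129585750dffffffffffffffffff58fa8effffff1ffffffffffffffffff58db5affffffffffffffffff58f1b5ffffff5)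
  (N 896 (L
  0xffffffffffffffffff5bb33bffffffffffffffffff5c6b87ffffff5ffffffffffff5cb3805b9a80ffffffffffff6ac41c5cab885e839c5ffffffffffffffffffffffffffffffffffffffffff84cd085b937c0ffffffffffffffffff86fd1dffffff5b629bffffff5b7b7c5b8b153ffffffffffffffffffffffffffffff5b42a15b59455b737dffffff3ffffffffffffffffff5b2b7affffffffffffffffff84b507ffffff5ffffffffffff5b1b79ffffff5b337bffffffffffffffffffffffff6ffffffffffff5b237a5b0a76ffffffffffffffffffffffffffffff5ffffffffffff5b3b7bffffff5b01425aeb77ffffffffffffffffff3ffffff5ad941ffffffffffffffffffffffff5af378ffffffffffff7ffffffffffff5abb75ffffffffffffffffffffffff8665175ad3356ffffffffffff5ac3768d95548a5d365aa2bfffffffffffffffffff3ffffffffffffffffffffffffffffffffffffffffff5a92bf863d161ffffffffffff5a73728d5d528d4551ffffff5a8aea887525878d206ffffffffffff5a7b73ffffff8d35505a62b4ffffffffffff876d1f3ffffffffffffffffffffffff89952f5a4adbffffffffffffffffff3)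
  (L
  0xffffffffffff5d5b8fffffffffffffffffff8ead5dffffffffffff6ffffffffffff5d63905d4973ffffff5dbb95ffffff5efba2ffffff5ffffff5d417cffffffffffffffffffffffffffffff5d2b8dffffff1ffffff5d1b8cffffffffffffffffffffffffffffff5d338effffff7ffffff5d238dffffffffffffffffffffffffffffff5d09d7ffffff1ffffffffffff6033b2ffffffffffffffffff5cf1855cdb8a5ff3af1ffffffffffffa65dfd5ccb89ffffff5d0203ffffff5ce38b6453dd5ffffffffffff8e5d5bffffff5cd38a5cb9d7ffffffffffff895d2d3ffffffffffff5c7b875c99dd5c93046abc1dffffff5ca37fffffff6ffffffffffff5c83885c596affffffffffffffffff5c7380ffffff5ffffffffffff5c4990ffffffffffff5c3385ffffff5c5298616bbd3ffffffffffff5c2384ffffffffffffffffff5c3b86ffffffffffff6ffffffffffff5c2b85ffffffffffff5c1383ffffffffffffffffff3ffffffffffffffffffffffffffffffffffff5c1b845bfb82ffffff1ffffffffffff5be962ffffffffffffffffffffffff5c0383ffffff6ffffffffffffffffff892d2bffffff5bbb33ffffff5bd1735be3383)))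
  (N 928 (L
  0xffffffffffffffffff5ea1835ec3a1ffffffffffffffffff8add3b5ffffffffffff642bdc5e9b9effffff6481cdffffff647b5664abab5ffffffffffffffffffffffffffffff5e938effffffffffffffffff3ffffffffffffffffff5e89a9ffffff62dbceffffff5e5b9c5e734e1ffffffffffffffffffffffffffffff5e4b9b62ebcd5e639d5e7b7f3ffffffffffffffffffffffffffffffffffff5e539cffffff5e3a120ffffffffffff5e31d4ffffffffffff5e1b99ffffff6a1c166a64193ffffffffffff5e0b98ffffff8fbd67ffffff5e239a6a4c188dc5566ffffffffffff5e1399ffffffffffff5df976ffffff6153bc6ae41c3ffffffffffff681c0467bc005df1c05ddb96ffffffffffff67dc013ffffff5dc975ffffffffffffffffffffffff5de397ffffffffffff7ffffffffffff8ed55fffffffffffffffffff5dc38f5dab948a45341ffffffffffffffffff5d9b93ffffffffffffffffff5db395ffffff5ffffffffffffffffffffffff5da3945d8b92ffffffffffffffffff3ffffff5d7973ffffffffffffffffffffffff5d9393ffffffffffff7ffffffffffffffffff5d6b4cffffffffffffffffff5eb3a0ffffff5)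
  (N 944 (L
  0xffffffffffff601bb1ffffffffffff600186ffffffffffffffffff3ffffffffffff60b3b6ffffffffffffffffffffffffffffff5feb8b0ffffffffffff686c07ffffffffffffffffff5fe1c15fcbadffffff1ffffffffffff8ddd575fbbacffffffffffffffffff5fd3aeffffff5ffffffffffffffffffffffff5fc3ad5fa9c8ffffffffffffffffff3ffffffffffff604bb3ffffffffffff5f9985ffffffffffff64a39f3ffffff5f932affffffffffffffffffffffffffffff5f7ba9ffffff1ffffff5f6ba8ffffffffffffffffffffffffffffff5f83aaffffff7ffffff5f73a9ffffffffffffffffffffffffffffff5f5ba7ffffff1ffffff5f4984ffffffffffffffffffffffffffffff5f63a8ffffff7ffffffffffffffffffffffffffffffffffff8aed3cffffff5f33a50ffffff5f23a4ffffffffffffffffffffffffffffffffffff5f3ba67ffffff5f2ba5ffffffffffffffffffffffffffffffffffff5f13a30ffffff5f0183ffffffffffffffffffffffffffffffffffff5f1ba47ffffffffffffffffff5edb508acd3b8b153effffffffffff5ef3a15ffffffffffffffffff5ebba05ed183ffffffffffff8a3d355eeba25)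
  (L
  0xffffff61c195ffffffffffffffffffffffff61dbc1ffffffffffff7ffffffffffff61a3beffffff61bb6985ed12ffffff856d0dffffff6ffffffffffff61abbf6193bdffffffffffff923d7985550cffffff5ffffffffffff61799fffffff619bbeffffffffffff6182866163860ffffffffffffffffffffffffffffffffffff61434e612bbbffffff1614b98ffffffffffff611bbaffffffffffffffffff6133bcffffff5ffffff615b408fe569ffffff6123bb610bb9ffffffffffff8aad3a3ffffff60f98dffffffffffffffffffffffff6113baffffffffffff7ffffff6edc3e60ebb7ffffffffffff69f35769f9edffffff6e74416ffffffffffff60f3b8ffffffffffff60cb5460e353ffffff8b85433ffffffffffff60abafffffffffffff608bb5ffffff60a35360c3b23ffffffffffff60718affffffffffffffffff6093b6ffffffffffff6ffffffffffff6069e4ffffff6b9c246053b3ffffff6b2421ffffff3ffffff9135716043ab90fd7090e56fffffff605bb46623ee64c3dc6ffffffffffff603b8bffffffffffff6023b1ffffffa635fd60bbb63ffffffffffff6013b0ffffffffffffffffff602bb2ffffffffffff6)))))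
  (N 1056 (N 1008 (N 976 (L
  0xffffffffffff6343d189f533ffffff6329b5ffffffffffffffffff3ffffffffffffffffff62fa1cffffff766490ffffff63122c631a2e5ffffffffffff90156affffffffffffffffff62e39d62cbcd6adc1d1ffffffffffff8e0d5962bbccffffff62f39cffffff62d3ce683c055ffffffffffffffffffffffff62c3cd62ab43ffffffffffffffffff3ffffffffffff6293caffffffffffffffffffffffff853d0bffffff6ffffffffffff629bcb628286ffffffffffffffffff85150affffff5ffffffffffffffffffffffffffffffffffffffffff6353d2626bc80ffffff625bc7ffffffffffffffffffffffffffffffffffff6273c97ffffff6263c8ffffffffffffffffffffffffffffffffffff624bc30ffffffffffffffffffffffffffffffffffffffffff6233c5ffffff1ffffffffffffffffff6223c4ffffff87351effffff623bc6ffffff5ffffff873b1affffffffffff622bc56213c3ffffffffffff89b5313ffffff62019affffffffffffffffffffffff621bc4ffffff6253c77ffffffffffffffffff61f99affffff6243c6ffffff871d1effffff5ffffffffffffffffffffffff61eacc61d3c0ffffffffffff61f3793)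
  (N 992 (L
  0xffffffffffffffffff64ebdfffffff966d9dffffff96bda1ffffff5ffffff96359affffff64d9bd64f3e06573e595cd96904d6bffffff5ffffffffffff64cbddffffffffffffffffffffffffffffffa695fd6ffffffffffff64d3deffffffffffff6431ce645b566449ccffffff3ffffffffffff64239fffffff90456b64b3da6499f169ac1564bbb36ffffff95158fffffff6411f1ffffff70d45bffffffffffffffffff5ffffff946d88ffffffffffff944d876401f1ffffff6e243dffffff3ffffff710c5effffffffffff6eac426e1c3d69a41563f1f16b4c211ffffffffffff885d24ffffffffffffffffff63db3b63c3d7ffffff163e34bffffffffffff63b3d6ffffffffffffffffff63cbd8ffffff5ffffffffffffffffffffffff63bbd763a1cbffffffffffffffffff3ffffffffffff6381c0ffffff67f402ffffffffffffffffff639b536ffffffffffffffffffffffffffffffffffff869519636bd3ffffff1ffffff635bd2ffffffffffffffffffffffffffffff6373d4ffffff7ffffff6363d3ffffffffffffffffffffffffffffff634bc9ffffff1ffffffffffff633bd0ffffff92cd7effffffffffffffffffffffff6)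
  (L
  0xffffff6651be977da8ffffffffffff6bdbe3666bf166ebf766abf47ffffff959d95ffffff6629f36641be720c6dffffff937d83664bdb5ffffff6f9c4bffffffffffff6f1c456b3c216e7c4165fbed6611ee1661bb3ffffffffffffffffffffffff65ebecffffff6603eeffffff3ffffffffffffffffffffffffffffffffffff65f3ed6e8c4165d9f20ffffffffffffffffff9fc59fffffff8c04376f3c4665c3ea6f74491ffffff65b3e9ffffff9cb5bb997dbf8c13f88c246765cbebffffff7ffffff65bbeaffffffffffffffffffffffff6bf3f765a3e2973da51ffffffffffffffffffffffffffffffffffffffffffffffff659be70ffffff6593e6ffffffffffff9bdd84990db998c5b598d5b6ffffff7ffffffffffffffffff744c4c91cd7698b5b49795a9ffffff6583e20ffffff96d59bffffff989db39885b2ffffff657bdf6563e4969da01ffffff97edabffffff6553e3ffffffffffffffffff656be597a5aa5ffffffffffffffffffffffff655be46543e26be3f0ffffff906c653ffffff6531bd9715a391ed756bd3f26bcbf0654be365abe9658be67ffffffffffffffffffffffffffffff6501ee6519ec6529f26e143d3)))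
  (N 1024 (L
  0xffffffffffff8f856567a9c067c397ffffffffffffffffff8b3d3f5ffffffffffff67a3fb678bfe9d25d3ffffffffffff8e655bffffff5ffffffffffff677bfdffffff6793ffffffffffffffffffffffffff6ffffffffffff6783fe6769d0ffffffffffffffffffffffffffffff5ffffffffffffffffffffffffffffffffffffffffff6759c368dc0c1ffffffffffff679bff6733fa6749bfffffffffffff675389ffffff5ffffffffffffffffff6721bf673bfbffffffffffffffffffffffff5ffffff6719ecffffff96058cffffffffffff6d7c376703f86dd43a1ffffff66f3f7ffffffffffffffffffffffffffffff670bf9ffffff7ffffff66fbf8ffffffffffff9995c16bebe9ffffff66e3f099ddc41ffffff66d9f1ffffffa0544affffffffffff70ac5970e45c66c3f50ffffff66b3f4ffffffffffffa04c4b9c95d19c05d0ffffff66cbf67ffffff66bbf5a50d54ffffffffffff9bd5b39725a4ffffff66a3f00ffffff93a46b7284749a45b8ffffffffffff6699f36683f2724c711ffffffffffff9a95c86673f191dd756bbc24ffffff668bf3741c4c56bc3e2ffffffffffffffffff667bf26663f0ffffffffffffffffff3)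
  (N 1040 (L
  0xffffffffffff693c0fffffff695411ffffffffffffffffffffffff6ffffffffffff6944106929dcffffffffffffffffffffffffffffff5ffffffffffff695c1168f40d6909c5ffffffffffffffffff69140b5ffffffffffffffffff68e1c568fc0effffffffffffffffffffffff5ffffffffffffffffffffffffffffffffffffffffff68cc0bffffff1ffffffffffff89452c6921d8ffffff68b9c6ffffff68d40cffffff3ffffffffffffffffffffffffffffffffffffffffff68ac086994141ffffffffffff68a1c6ffffffffffff9d45d4698413697412688c080ffffffffffff6879c2ffffffffffffffffffffffff68b40a6894096ffffffffffff6873aeffffffffffff685c06ffffff8de557ffffff3ffffffffffff684c05a46c73ffffffffffff6864078dfd588e15596ffffffffffff685406ffffffffffff682a0affffffffffff6843cd3ffffffffffff682397680c038f4d63ffffffffffffffffff8bad445ffffffffffff67fc028f5563681404ffffffffffffa6a489ffffff6ffffffffffff68040367ebd5ffffffffffffffffffa66c88ffffff5ffffffffffff8ba54467cb528b253fffffffffffff89652d67e3975)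
  (L
  0xffffffffffffffffff6b041f933582ffffffffffffffffffffffff5ffffffffffff6af41e933d826b0c20ffffffffffffffffffffffff6ffffffffffff6afc1f6aea3274e423ffffffffffffffffffffffff5ffffffffffff8e4d5affffffffffffffffffffffff6aac1c6ad3ce1ffffffffffff8dbd566a9c1bffffff6acb7fffffff6ab41dffffff5ffffffffffffffffffffffff6aa41c6a8a18ffffffffffffffffff3ffffffffffff6a6a53ffffffffffffffffff80bce973e42f6a81ef6ffffffffffffffffffffffffffffffffffffffffff8fad666a5b9a0ffffffffffffffffffffffffffffff6a3c16ffffff6a5399902d583ffffffffffffffffffffffffffffffffffff8e2d5affffff6a2c160ffffffffffff6a09d3ffffffffffffffffff6a44186a239a6a34176ffffffffffff69cb56ffffff8bdd46699bd9ffffff69b3dc69c3573ffffffffffffffffffffffffffffffffffff9d95d7ffffff698c0a0ffffffffffffffffffffffffffffff697c099d3dd4ffffffffffff3ffffffffffffffffffffffffffffffffffff9d5dd5696c09ffffff1ffffffffffff69640e694c10ffffffffffffa3f601ffffff894d2c5))))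
  (N 1104 (N 1072 (L
  0xffffffffffffffffffffffffffffff6cda5f73a47f73d25effffff3ffffffffffff6ccc2e742bdbffffff954d92ffffff73dc1a7401f36ffffffffffff6cd42f6cba27ffffffffffffffffff73ca537431f45ffffff73b25fffffff9e8266ffffff9e9cec82e4fdffffff6cb42c0ffffff6cac2bffffffffffff9e7a67ffffff9e4dddffffffffffff7ffffffffffffffffffffffffffffffffffffffffffffffff6ca25d0ffffffffffffa4ad7cffffff9e2ddcffffff6c9a536c8429808ce71ffffffffffffffffff6c7428835cbcffffffffffff6c8c2affffff5ffffffffffffffffff836cbc6c7c296c625affffffffffffffffff3ffffffffffff6c34266c49ef6c51ec700450ffffffffffff6d6c366ffffffffffff6c3c276c19ebffffffffffffffffffffffffffffff5ffffff72d4786bfc24ffffff7461e7806ce7ffffff6c11f47484566ffffffffffff6c04256b93b4ffffffffffff6bb3f26ba9f3ffffff5ffffff7054546b742274ec1e74ba32ffffff6d54346b89f07094576ffffffffffff6b7c236b54219355839b3dcf6db4386b69efffffff5ffffffffffff6b11e3936d836b5c22ffffff6b33ee6b2bb46b43d96)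
  (N 1088 (L
  0xffffffffffffffffffffffffffffffffffffffffff6e543f93b46d1ffffffffffffffffff6e443effffff6ecc42ffffff6e5c4093cc5a5ffffff6ed3b8ffffffffffff6e4c3f6e343c8cbd4891fd779185743ffffffffffffffffffffffffffffffffffffffffff6e2bda6e0be10ffffff6e01edffffffffffffffffffffffff6e3c3effffff6dec3b0ffffff6ddc3affffffffffffffffffffffffffffffffffff6df43c7ffffff6de43bffffffffffffffffffffffffffffffffffff6dcbf90ffffffffffffffffffffffffffffff6fb44c6da9ef6d9438ffffff1ffffffffffffffffff6d84379155726dbc229b35cf6d9c397414695ffffff6dc3e1ffffffffffff6d8c386d73f98c0beb71a467ffffff3ffffffffffffffffff6d59edffffff6e6440942d856eb442ffffff5ffffffffffffffffffffffff9e6dddffffffffffff6d3c34706c551ffffffffffff9de5da6d2c33ffffffffffffffffff6d4435747c725ffffffffffffffffffffffff6d34346d1c32ffffffffffffffffff3ffffff6d09e9ffffffffffffffffffffffff6d2433ffffffffffff7ffffffffffffffffff74a9f5ffffff74dc7c6cfa566ce1e9ffffff1)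
  (L
  0xffffffffffffffffff93e5779c25d0ffffff700c276ff44fffffff1ffffffffffffffffff6fe44effffffffffffffffff6ffc5093bc6c5ffffffffffffffffffffffff6fec4f6fd44dffffffffffffffffff3ffffff6fc1efffffffffffffffffffffffff6fdc4effffffffffff7ffffffffffffffffff91c5767443e66fa1ef6fbc399b4dcf7423f23ffffffffffffffffffa043f59d15d2a03d76ffffff9ffdad6f8c4a0ffffff6f7c49ffffffffffffffffffa025bea5dd4e9ebdde6f944b7ffffff6f844affffffffffffffffffffffffffffffffffff6f6beb0ffffffffffffffffffffffffffffffffffffffffff6f5447ffffff1ffffffffffffffffff6f444695ed8cffffffffffff6f5c4895e59658bfbf9ffffffffffffffffff6f4c476f33ebffffffffffffffffff3ffffffffffffffffff6f13eeffffff96fda28ca54a8bc5456f2c445ffffffffffffffffff6ef4436f09ee95b595ffffffffffff6f24455ffffff9f3de2ffffff6ee1ee6efc446f644897bdaa8be546ffffff5ffffffffffffffffff6ea3d9ffffff9425866ec43f6ebc369385835ffffff91ad768b8d439f0de09175736e83ee6e9c216e93ec6e6bb80)))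
  (N 1120 (L
  0xffffffffffffffffff711becffffffffffff94ad8a945587ffffff5ffffffffffff71bc687111f2ffffff716464ffffffffffffffffff5ffffffffffffffffff97dc6597d5aaffffff93fd8470fc5dffffff1ffffff70ec5cffffff9bc5a9ffffff95058effffff71045effffff7ffffff70f45dffffffffffffffffffffffffffffff70dbf6ffffff1ffffffffffffffffff9c4dccffffffffffffffffff70c45a93ec501ffffffffffffffffff70b459ffffffffffffffffff70cc5b93d43f5ffffffffffffffffffffffff70bc5a70a3f6ffffffffffffffffff3ffffffffffff709c4cffffffffffffffffffffffff9e0ddb9a9dc86ffffffffffffffffffffffffffffffffffff8314fe708456ffffff1ffffffffffffffffff73f25fffffff707455ffffff708c57748c253ffffffffffffffffffffffffffffffffffff707c5682fcfe7064350ffffff705c23ffffffffffffffffffffffff7c74c5704453ffffff1ffffff703452a095e68014e4ffffffffffffffffff704c54ffffff7ffffff703c53ffffffffffffffffffffffffffffff702451ffffff1ffffff7011f0ffffffffffffffffffffffffffffff702c52ffffff7)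
  (N 1136 (L
  0xffffff72346fa6ad2effffffffffff9cd5bc9ccdbb9ce5ca9cfd997ffffff723c70ffffffffffffffffff9c6dccffffff72246affffff1ffffffffffffffffffffffffffffffffffffffffff9c9dd1721c6a0ffffffffffffffffffffffffffffffffffff7213ef71fc6c93ac401ffffffffffffffffff71ec6bffffff939583ffffff72046d93c44f5ffffffffffffffffffffffff71f46c71dc6affffff9c65ccffffff3ffffff71c9f3ffffffffffffffffffffffff71e46b722c6fffffff7ffffffffffffffffff913d71ffffff71c1f3ffffffffffff740c383ffffffffffff71b45fffffffffffffffffffa10debffffffffffff6ffffff719466ffffff9fddafffffff8c1beaffffff71ac37ffffff7ffffff719c67ffffffffffffffffffffffffffffff718461ffffff1ffffffffffffffffff97adaaffffff9a25b899edb79b958f7174610ffffffffffffa135ed9a0db4ffffffffffff716c5f715463ffffff1ffffffffffffa55de5714462ffffffffffffffffff715c64ffffff59073f0ffffffffffffffffff714c63713461ffffffffffffffffff39063e37121f2ffffffffffffffffffffffff713c62718c66717c657)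
  (L
  0xffffffffffff759c8675024c751a02ffffffffffffffffff7534815ffffff8324fd732223ffffff77849773ac3073725f734a28733a316ffffff731c7da1cdf3ffffffffffffffffffffffffffffff797ca97ffffffffffffffffffffffffffffffffffffffffffffffff7314790ffffffffffffffffffffffffffffffffffff74d431730c7bffffff1ffffffffffffffffff72fc7affffff74f9e9ffffffffffffffffff5ffffffffffffffffffffffff73047b72ec79ffffffffffffffffff3ffffff72d9f5ffffffffffff7c84c67cb26772f47affffffffffff7ffffffffffffffffffffffffffffffffffffffffff72c477ffffff1ffffff72b476a17df0ffffffffffffffffffffffff72cc78ffffff7ffffff72bc77ffffffffffffffffffffffffffffff72a475ffffff1ffffff7291f4ffffffffffffffffffffffffffffff72ac76ffffff7ffffffffffff728bf3ffffffffffff727473ffffff9aa5c89b15ce3ffffffffffff726472ffffffa47406ffffff727c749af5cd9dedda6ffffffffffff726c73ffffffffffff7251f4ffffff8074e77474343ffffffffffff9b1dceffffff9a55a4ffffffffffffffffff7243f30)))))))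
  Tr.N Tr.L
noncomputable def t3 : Tr := beta% (fun (N : Nat → Tr → Tr → Tr) (L : Nat → Tr) => (N 1344 (N 1248 (N 1200 (N
  1168 (L
  0xffffffffffff92bd7dffffffffffffffffffffffff76548fffffff1ffffffffffff7a1cb076448effffff76722cffffff765c90767a475ffffffffffffffffffffffff764c8f763271ffffffffffffffffff3ffffffffffffffffffffffffffffffffffffffffff76225581b4f31ffffffffffffffffffffffffffffffffffffffffff82acfb760c8b0ffffff75fc8affffffffffffffffffffffffffffffffffff76148c7ffffff76048bffffffffffff81ccb78234f8821cf7ffffff75ea550ffffffffffff75cc88ffffffffffffffffff75e32ea69c03ffffff6ffffffffffff75d489a2adfda295fc75bc87ffffffa67402ffffff3ffffffffffff75aa06ffffffffffffffffff75c488ffffffffffff6ffffffffffff75a480758c85ffffffffffffa22df779fcaf7cdcc85ffffffa24df8757a4affffff759486ffffffffffff7e6cd8ffffff6ffffffffffff7f34deffffffffffffffffff75724c755c83ffffff1ffffffffffffa205f6754c827ed47effffffffffff7564847eccaa5ffffffffffffffffffffffff755483753a6affffffffffffffffff3ffffffffffff7cd4c875224bffffffffffff7b24b97aacb4ffffff5)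
  (N 1184 (L
  0xffffffffffffffffffffffffa2e5ff78449effffffffffff7bf4c13ffffffffffffffffffffffffffffffffffff809ce87a74b378349e0ffffffffffff7812258435047854a1ffffffffffff782a51783c9f6ffffffffffffa77b1478049c83f503ffffffffffffffffffffffff5ffffffffffff77f49b83fd03780c9da775c0ffffffffffffffffff6ffffffffffff77fc9c77e49affffffffffffffffffffffffffffff5ffffffffffff77da24786ca277ec9bffffffffffffffffffffffff6ffffffffffff77d49177bc98ffffffffffffffffff7dea407b74be5ffffffffffff77a497ffffff77c499ffffffffffffffffffffffff6ffffffffffff77ac98777c7fffffffffffff779c8377924cffffff5ffffffffffff7b6cbe776230ffffffffffffffffffffffffffffff5ffffffffffff775492773c94ffffffffffffffffff775a4effffff5ffffffffffff771c93ffffff774495ffffffffffff77323f7dccd36ffffffffffff77249476d22878dca77944ab76f26376ea3effffff5ffffffffffff774c9576aa7276c222ffffffffffff76ca43ffffff5ffffffffffff77cc99ffffff76a223768a3bffffffffffff7774963)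
  (L
  0xffffffffffff7a148fffffffffffffffffff7bcca392957d7a2a486ffffffffffff79dca779c4aeffffffffffffffffff79f48679e4a55ffffffffffff79aa72ffffff79ccafffffffffffffffffff7a0ca66ffffff799cacffffffffffff8364e7ffffffffffff834cfd9e35dc7ffffff79a4adffffffffffffffffffffffffffffff798ca8ffffff1ffffffffffffffffffffffffffffffffffffffffff7934aaffffff1ffffffffffff7dfcd47924a9ffffff79523e795a64793cab7ec4835ffffff796a27ffffffffffff792caa7914a8ffffffffffff79847e3ffffff790228ffffffffffffffffffffffff791ca97994acffffff7ffffffffffff79d4af78d49378ea28ffffffffffff78fc8078f4a45ffffffffffffffffff78c4a5ffffffffffffffffff7cfcb67a04ae5ffffffffffff78b4a4ffffff78cca6ffffffffffffffffff79ecaf6ffffffffffff78bca578926bffffffffffff7c8cc678aa52ffffff5ffffffffffffffffffffffffffffff7bc4b0ffffff7bb4c07882510ffffffffffff785ca1787c9b78749affffffffffffffffffffffff6ffffffffffff7864a2784c9e841d04ffffffffffffffffffffffff5)))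
  (N 1216 (L
  0xffffffffffffffffffffffffffffffffffff928d7d7bbca37ba4bf0ffffffffffff7b8237ffffffffffffffffff7bdcc17b9a497bacc06ffffffffffff7b6496ffffffffffffffffffffffff7e24d67b7c996ffffffffffffffffff819cf2ffffffffffffffffff7b54b7ffffff1ffffff7b44bbffffff835429ffffffffffff829cfaffffff833cfd7ffffff7b4cbcffffffffffffffffffffffffffffffffffff7b34b70ffffffffffffffffffffffffffffffffffffffffff7b0cb9ffffff1ffffffffffffffffff7afcb87fd2597b2c81ffffff7b14ba7fcce25ffffffffffffffffff7fea597b04b97aecb7ffffffffffffffffff3ffffff7ada31ffffff81c48affffffffffff7af4b87b5cbd7b3cbb7ffffffffffffffffff7accb5ffffffffffffffffff7cf4a67e74d85ffffffffffff7abcb4ffffff7ad4b6ffffffffffff7cecc87f5ce06ffffffffffff7ac4b57a9a31ffffff7b1cbaffffff7ab4817f8ce15ffffffffffff7a8a44ffffffffffff7a64b2ffffff7a7c9f7a92493ffffffffffff7a4cb1a33e027f44dfffffff7a6cb380a4e8ffffff6ffffffffffff7a54b2ffffffffffff7a3233ffffffffffffffffff3)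
  (N 1232 (L
  0xffffffffffffffffffffffffffffffffffffffffff7d84cf7e0cd51ffffffffffffffffff7d74ceffffffffffffffffff7d8cd0ffffff5ffffffffffffffffffffffff7d7ccf7d64cdffffffffffffffffff3ffffff7d523fffffffffffffffffffffffff7d6cceffffffffffff7ffffffffffffffffffffffffffffff7d3cc9ffffffffffff7da4d13ffffffffffffffffffffffff83b5007d24caffffffffffffffffff3ffffffffffff7d14c9ffffffffffffffffff7d2ccbffffffffffff6ffffffffffff7d1ccaffffffffffff7d023f7d44ccffffffffffff3ffffffffffff7ccc81ffffffffffffffffffffffffffffff7ce4866ffffffffffffffffffffffffffffffffffff7caa527c94c6ffffff1ffffffffffffffffff7c7c79ffffffffffffffffff7c9cc7ffffff5ffffffffffff7c3cc47c6a527c5a3dffffffffffff7ebcda7c523e6ffffffffffff7c44c57c24c3ffffffffffffffffff7e94d9ffffff5ffffffffffffffffffffffff7c2cc4ffffffffffffffffff7c12400ffffffffffffffffff7c02497e4cd7ffffffffffffffffffffffff5ffffffffffffffffffa35603a306007bd4bfffffff7bea487bfca03)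
  (L
  0xffffffffffff7f84e17f4cd8ffffffa1a5f2ffffff7f726d7f64b55ffffffffffffffffff7f3cb2a33602ffffffffffffffffffffffff5ffffffffffffffffffa3ddd6ffffff7f24ddffffffffffffffffff3ffffffffffff7f14dcffffffffffffffffff7f2cdeffffffffffff6ffffffffffff7f1cddffffffffffff7f024dffffffffffffffffff3ffffffffffffffffff8104ec7efa587eda4cffffffffffff7ef2633ffffffffffff7e9cd9ffffffffffffffffffffffffffffff7eb24c6ffffffffffff7ea4da7e7cd6ffffffffffffffffffffffffffffff5ffffffa285fbffffffffffff7f54e0ffffffffffff7e6485ffffff1ffffffffffffffffff7e44c27e5a49a752f7ffffff843d04ffffff5ffffffffffffffffffffffff7e84d97e14d5ffffff7e2cbe7e324e3ffffffffffffffffffffffffffffffffffff7e1cd6ffffff7e04d00ffffffffffff7df4aaffffffa31601ffffffffffffffffffffffff6ffffffffffffffffffffffffffffffffffffffffff7dbcd27dd4941ffffffffffffffffffffffffffffff7dacd1ffffff7dc4d37ddc983ffffffffffffffffffffffffffffffffffff7db4d2ffffff7d9ccc0))))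
  (N 1296 (N 1264 (L
  0xffffffffffffffffffffffffffffffffffffffffff815cef81725b1ffffffffffffffffffffffffffffff814a65ffffff8164f0824cf83ffffffffffffffffffffffffffffffffffffffffff81fcf68134ed0ffffffffffff812254ffffffffffffffffff8184f1ffffff813cee6ffffff811c30ffffff80f258810cdb9eacfd9e942d82c4fcffffff5ffffffffffffffffff80d26380ea54ffffffffffffffffff8114ec5ffffffffffff80c4e9ffffffffffffffffffa4ed7cffffffffffff6ffffffffffff80cceaffffffffffff80b41affffff956592ffffff3ffffffffffffffffffffffffffffff80949fffffff80acb292a57d3ffffff805a609b05cdffffffffffffffffff806425807c728044e6080842a8034e5ffffffffffffffffffffffffffffffffffff804ce77ffffff803ce6ffffffffffffffffffffffffffffffffffff8024e30ffffffffffffa0cde9ffffff801c538004e3ffffff8384f88394f53ffffff7ff252ffffffffffffffffffffffff800ce4ffffff802ce57ffffffffffffffffff7fc25affffff7faa52ffffffffffffffffff3ffffffffffff7f7ce0ffffffffffffffffff7fa4777f9a60ffffff6)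
  (N 1280 (L
  0xffffffffffff83c50183accbffffffffffffffffffffffffffffff5ffffffffffffffffffa38e04ffffff839a6dffffffa1bdf2a235f73ffffffffffffffffff82ecfdffffff830c57ffffff830455831c295ffffff832c7fffffffffffff82f4fe82dc2d9ea4ec8344ad8334bc3ffffff82b4fbffffff82d4efffffffffffffffffff82ccecffffff7ffffff82bcfcffffffffffffffffffffffffffffff82a48cffffff1ffffffffffffffffff8274f9828a5b8294bcffffffffffffffffff5837454ffffffffffff82625b827cfaffffffffffffffffffffffff5ffffffffffff83dd02ffffff825a648224f7823c8a837ce48244ef3ffffffffffffffffffffffffffffffffffff822cf8ffffff820cf40ffffffffffffffffffffffffffffffffffffffffff81f4eeffffff1ffffffffffff8204f6ffffffffffffffffffffffff81ea58838ce41ffffffffffffffffffffffffffffff81dcf2ffffffffffff8214f73ffffffffffffffffffffffffffffffffffffffffff81a4f281bc8d1ffffffffffffffffffffffffffffff818a5881e4f481acf3ffffff3ffffffffffffffffffffffffa42561817cedffffffffffffa41d623)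
  (L
  0xffffffffffff862d15ffffffffffffffffff85ba9685a50f85e5121ffffffffffffffffff85950effffffffffffffffff85ad10ffffff5ffffffffffffffffffffffff859d0f858368ffffffffffffffffff3ffffffffffff855d0cffffff857b62ffffffffffffffffff85d5116ffffffffffff85650d854509ffffffffffffffffffffffffffffff5ffffffffffff851d0affffffffffffffffffffffffffffff8532966ffffffffffff85250b84fa8cffffffffffffffffffffffffffffff5ffffffffffffffffffffffff854d0cffffffffffff84e28cffffff1ffffffffffffffffffffffffffffff84bac2ffffff84d37effffff3ffffffffffff84a505848d06ffffffffffffffffff84ab7bffffff5ffffffffffff84736cffffff849507ffffffffffffffffffa58dde6ffffffffffff849d07844b6b84627bffffffffffff846b78ffffff5ffffffffffff840d038424a1842c9effffffa75d268444d7ffffff6ffffffffffff84150483ec9d84049cffffffffffffffffffffffff5ffffffffffff83e4f883cd01ffffffffffffa40562a0ede9ffffff5ffffffffffff83bd00ffffff83d502ffffffffffffffffffffffff6)))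
  (N 1312 (L
  0xffffffffffff877d1fffffffffffffffffffffffff88fd298793736ffffffffffff878520ffffffffffff874ab18762b087bd218773723ffffffffffffffffff870b02ffffffffffff872bc58723c2ffffff5ffffffffffffa67d99ffffff87037d86ed1cffffff8cfd4d89852e3ffffff86daa5ffffffffffffffffffffffff86f51dffffffffffff7ffffffffffffa645fcffffffffffffffffffffffff86ad1aa6d5981ffffffffffffffffff869d1989fd3286cb60ffffff86b51b86d3d05ffffffffffffffffffffffff86a51a868bd4ffffffffffffffffff3ffffffffffffffffffffffffffffff86751687a521ffffffffffff3ffffffffffffffffffffffffa5edee8652ecffffff866b76887d253ffffffffffffffffffffffffffffff87ad21867d18864ab18633740ffffffffffffffffffffffffa53def861d14ffffffffffffffffff3ffffffffffff860d13ffffffffffffffffff862515ffffffffffff6ffffffffffff861514ffffffffffff85fa97ffffffffffffffffff3ffffffffffff92657bffffffffffffffffff85f3bfffffff85dd100ffffffffffffffffffffffffffffffffffffffffff85c296ffffff1)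
  (N 1328 (L
  0xffffffffffffffffff899b708cdd4dffffffffffffffffffffffff5ffffffffffff8d0d4e898b71ffffffffffffffffffffffffffffff5ffffffffffffffffff897315ffffffffffffffffffffffffffffff5ffffffffffff8e855cffffffffffffffffffffffff896c018953890ffffffffffff893c0bffffffffffffffffff9d75d6ffffffffffff6ffffffffffffffffffffffff893381891d2a908d6c8f0d3b8a75373ffffff890b06ffffffffffffffffffffffff89252bffffffffffff7ffffffffffffffffffffffffffffffffffffffffff89052088eaee0ffffffffffffffffff88cd2788e2eeffffffffffffffffffffffff5ffffffffffffffffff88baee88d528ffffffffffffffffffffffff5ffffffffffffffffff888b2788a326a76504ffffff88aaf7ffffff5ffffffffffffffffffa5cdedffffff88636affffffffffff8885173ffffffffffff8853d88a25358efd608832e0ffffff884b4cffffff3ffffffffffff87f522ffffff880ad7ffffffffffffffffff8813366ffffffffffff87fd2387dab9ffffffffffffffffffffffff882b375ffffffffffffffffffffffffffffff879d1887b51687c51f87caef3)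
  (L
  0xffffffffffff8b5d418b4353ffffffffffffffffffa6cd97ffffff5ffffffffffff8b75428b1c018b3352ffffffffffffffffffffffff5ffffff8dad55ffffffffffffffffffffffffffffff8b053dffffff1ffffffffffffffffff8af53cffffffffffffffffff8b0d3effffff5ffffffffffffffffffffffff8afd3d8ae3a6ffffffffffffffffff3ffffffffffffffffff8ac3a2ffffff90a56dffffff8f152bffffff5ffffff8a9d399225788abc1cffffffffffffffffffffffff8ab3ba7ffffff8aa53affffffffffffffffffffffffffffffffffff8a8b3d0ffffffffffffffffff8a83aaffffff8eed6090b56effffffffffff5ffffffffffffffffff8a6338ffffffffffffffffff8ee5608a7d2b5ffffffffffffffffff8a53758d8d54ffffffffffffffffffffffff5ffffffffffffffffffffffff8a2d248a1534ffffff8a33a1ffffff3ffffff8a03208f2d61ffffffffffffffffff8a1d35ffffff8a4b957ffffff89e35992f580ffffff89ebd0ffffffffffffffffff89cd320ffffff89bd31a6fdd3ffffffffffffffffffffffffa6f56489d5337ffffff89c532ffffffffffffffffffffffffffffffffffff89abc40)))))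
  (N 1440 (N 1392 (N 1360 (L
  0xffffffffffff8d7d538d2b72ffffffffffffffffffffffffffffff5ffffffffffffffffff8d154ea61d9dffffffffffffa65599ffffff5ffffffffffff8d052fa6059d8d1d4fa5d44aa5adbeffffffffffff6ffffffffffff8d254f8cd5308ceb70ffffffffffff8cf51dffffff5ffffffffffffffffff9a35b79ecddfffffff9205778cc548ffffff1ffffffffffffffffffffffffffffffffffffffffff8c8d4affffff1ffffffffffffffffff8c7d49ffffffffffffffffff8c954bffffff58cac3cffffffffffffffffff8c854a8c6d48ffffffffffffffffff3ffffff8c5b57ffffff9a5bf4ffffff8cb43e8c75498ccd4cffffff7ffffffffffffffffff8c2d458c435796a5a0ffffff911d708c4d465ffffffffffffffffff8bd415ffffffffffff8bf4478bec438c55475ffffffffffffffffff8bb3578c35478c9d4bffffff8bcc4596e5a15ffffffffffff8b9c01ffffffffffffffffffffffff8e9d5cffffff6ffffffffffff8b9441ffffffffffffffffffa60dfdffffff8b7bb70ffffffffffffffffff8b6541ffffffffffffffffffffffff8f9d655ffffffffffff8b5540ffffff8b6d42ffffffffffffa6e598931d816)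
  (N 1376 (L
  0xffffffffffffffffff8f0524ffffff90bd6e8ef5388edd37ffffff1ffffffffffffffffffffffff8f3d628ec55effffffffffff8f25613ffffffffffff8eb55dffffffffffffffffff8ecd5fffffffffffff6ffffffffffff8ebd5effffffffffff8ea390ffffffffffffffffff3ffffffffffff8e8d2dffffffffffffffffffffffff8e95448e755b0ffffffffffff8e5389ffffffffffffffffffffffff8e6bff8e7d5c6ffffffffffff8e441da485cdffffff8e2417ffffff8e3d568ffd6a3ffffffffffff8e03cdffffffa465daffffffffffff901d6a8e1c066ffffffffffffffffffffffffffffff8ded57ffffffffffff9034183ffffffffffff8dd3adffffffffffffffffff8df558ffffffffffff6ffffffffffff8db41cffffffffffffffffffffffff8e355a8dcb996ffffff8da53effffffffffff90856cffffffffffffffffffffffff7ffffffffffffa503f48d85368d9b75ffffffffffffffffffa4d5a85a513f7ffffff8d7550ffffffffffffffffffffffffffffffffffff6ffffffffffffa545c18d4d518d6373ffffffffffff8d6d28ffffff5ffffffffffffffffff8d3b738d5552ffffffffffffffffffffffff5)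
  (L
  0xffffff9ef5dfffffff90ed6f9103b3ffffff986db1912547910d6b5ffffffffffffffffff90dbb390f570ffffffffffffffffffffffff5ffffffffffffa3a604ffffffffffff90ad3890c560ffffff90cd6d3ffffffffffffa3ce05ffffffffffffffffffffffff90956c90d56e1ffffffffffffffffff907d55ffffffffffffffffff909d6dffffff5ffffffffffffffffff903bdcffffffffffff905be49053df9115705ffffffffffff900bceffffffffffff8fed66ffffff90255990055a3ffffffffffffffffff8fd568ffffffffffffffffffffffff921d785a44435ffffff8fc567ffffff8fdd69ffffffffffffffffffffffff6ffffffffffff8fcd688fb399ffffffffffffffffffa44ddaffffff5ffffffffffffffffffffffffffffffffffff8ff56a8fa419ffffff1ffffffffffff8f8c008f7564930d81ffffffffffffffffff8f95425ffffffffffff8f65639315818f7d65ffffffffffffa6ed32ffffff6ffffffffffff8f6d648f44048f5c03a72e03ffffff9d2dd3ffffff5ffffffffffffffffff8f355fffffffa40d02ffffffffffffa414f15ffffffffffffffffffa42cf1ffffffffffffffffffffffff8f1d5f0)))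
  (N 1408 (L
  0xffffffffffff92fd3392e57fffffffffffffa2cdfeffffffa715d35ffffffffffff92d57effffff92ed80ffffffffffffffffffffffff6ffffffffffff92dd7f92c3d1ffffffffffffffffffffffffffffff5ffffffffffff92b490ffffffa2c5fe9284c0ffffff929cb092ace83ffffffffffffa4b42a927d6affffffa4e4eaffffffffffffa48dcd5ffffffffffff926d12a56deaffffff92557affffffffffff9275153ffffffffffff924579ffffffffffffffffff925d7bffffffffffff6ffffffffffff924d7affffffffffff9233beffffffffffffffffff3ffffffffffff922d3affffffffffffffffffa434ebffffff9215690ffffffffffffffffff9c0dd093dc50920d4cffffff91f43effffff1ffffff91b441ffffff91d3e691bc4cffffffa0344bffffff919d750ffffff918d74ffffffffffff91e3e2ffffffffffff9f75e291a5767ffffff919575ffffffffffffffffffffffffffffffffffff917c3e0ffffffffffffffffff916c419f05e0a5e2cbffffffffffffffffff5ffffffffffffffffff915c38916437ffffffffffffffffff9145710ffffff912bb3ffffffffffffffffffffffffffffff9fe5ac914d727)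
  (N 1424 (L
  0xffffffffffffffffff9f45e2953591951d8fffffff9b7db8ffffff3ffffff950bdbffffff9ba5b1ffffffffffff9525909b9c659575937ffffff94dd8dffffffffffffffffffffffff94fc5d94f584ffffff7ffffff94e58effffffffffffffffffffffffffffff94cd88ffffff19cac6fffffffffffff95f44795fbf9ffffffffffffffffff94bd880ffffffffffffffffffffffffffffffffffffffffff94958affffff1ffffffffffffffffff948589ffffffffffffffffff949d8bffffff594b3f6ffffffffffffffffff948d8a947588ffffffffffffffffff3ffffff9463daffffffffffff95c596ffffff947d8994d58d94c58c7ffffffffffffffffff9443daffffff94a58bffffff945c60ffffff5ffffffffffffffffffffffffffffffffffffffffff941585ffffff1ffffffffffffffffff940584ffffff943436ffffff941d86ffffff5ffffff943c3dffffff9be3e7940d8593f45effffff94ed8effffff3ffffffffffff934582935c22936421ffffff939c6c9373ef938c426ffffffffffff934d83932c20ffffffffffffffffffffffffffffff5ffffffffffffffffff930565ffffffffffffffffffffffff9325415)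
  (L
  0xffffffffffffffffffffffffffffffffffff96ad479875b19693e50ffffffffffffffffffffffff9fcbebffffffffffff96859affffff1ffffffffffffffffffffffffffffffffffffffffffffffff967d9a0ffffffffffffffffffa6254fa5fd4effffff9673e0965d9c96f5a21ffffffffffffffffff964d9bffffff96c5a1ffffff96659d99c5c35ffffff96dbe5ffffffffffff96559c963d9affffff984db09fadca3ffffff962bdfffffffffffffffffffffffff96459b968d9fffffff7ffffffffffffa6851dffffffffffff9623e8ffffffa64d4f9cf4703ffffffffffff961597ffffffffffffffffffffffffffffffa6dd1b6ffffffffffff961d98960bdeffffffffffffffffffa6c540a6b5fc5ffffffffffffffffff95bd88ffffff95d3dfffffffffffff95dc475ffffff95a3efffffffffffffffffffffffff95ac4499bdc3958d940ffffff957d93ffffffffffffffffffffffffffffffffffff9595957ffffff958594ffffffffffffffffffffffffffffff9badb3956d8f0ffffffffffffffffffffffffffffffffffff95542f953d919b65cf1955ce9ffffffffffff952d90ffffffffffffffffff954592ffffff5))))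
  (N 1488 (N 1456 (L
  0xffffff983dafffffffffffffffffffffffff985d9f98559bffffff7ffffff9845b0ffffffffffff9fd467ffffffffffff982dabffffff1ffffffffffffa51bc1ffffffffffffffffff9f65e2ffffff9815ad0a5537a9805acffffffffffffffffffffffffffffff9ff44b981dae7ffffff980dadffffffffffffffffffffffffffffff9fed7197f5ab0ffffff97e3e4ffffffffffffffffffffffffffffff9835af97fdac7ffffff9825aeffffff97cc5e97b46597c443ffffffffffff979be40ffffff9bedb9ffffffffffff9bcc5d978be698adb4ffffff9bb5b33ffffffffffff9783f0a4a334ffffff976da7ffffffa4dd50a4cd543ffffffffffff975da6ffffffffffffffffff9775a8ffffffffffff6ffffffffffff9765a7ffffffffffff974da3ffffffffffffffffff3ffffffffffffffffff9b75cfffffffffffffffffff972da49743e91ffffffffffffffffff9a4c71ffffff971bf4ffffff9735a599fdb83ffffffffffff970be2ffffffffffffffffff9755a6ffffffffffff6ffffffffffffffffffffffffffffffffffff970445ffffff96ed9d0ffffffffffffffffffffffffffffffffffff96cd9c96b3e0ffffff1)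
  (N 1472 (L
  0xffffffffffff9983eaffffffffffffffffffa76c9cffffffffffff6ffffffffffffffffff9973eaffffff99adc2ffffffffffffffffff5ffffffffffffffffff996da59b8dcfa5a54ea02c4aa015e1ffffff5ffffffffffffffffffffffffffffffffffffffffff9955bcffffff1ffffffffffffffffffffffffffffff9945bb9cdc70995dbdffffff3ffffffffffffffffffffffff9cbbea9cc470994dbc9c7dc99935b909fbd9effffffffffffffffffffffff991db6ffffffffffffffffff3ffffff9bf5a9ffffffffffffffffff98fdb59913e7992dba993dbb3ffffffffffffffffffffffff9a3bf398edb79a1c659b85909a05a43ffffffffffffffffff9ed5df9a2d4c99f46598f5b899d5c498ddb40ffffffffffffffffffffffffffffffffffff9925ba98cbe79965bd1ffffffffffffffffffffffffffffff98bbe79905b9ffffffffffff3ffffffffffffffffffffffff9a146498a5a9ffffffffffff98e5b73ffffff9c35d0ffffff988db2ffffffffffffffffffffffff9bbda95ffffffffffffffffff987be59895b3ffffffffffffffffffffffff5ffffffffffffffffffffffffffffff986570ffffffffffffffffff3)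
  (L
  0xffffff9c2db3ffffff9c1c509c15779bfbf59c8dd1ffffff9c45cc3ffffffffffff9e1ddbffffff9b6da59b2c389b44229b544c9b5d923ffffffffffff9b2471ffffffffffffffffffa15defffffff9b0c740ffffffffffffffffffffffffa47d5a9ae5c8ffffff9afc73a4957c3ffffff9addbbffffffffffff9c545bffffffffffff9c5c6b9c3dd07ffffffffffffffffff9acdca9f95c39f7de2ffffffffffffffffff5ffffff9d0424ffffff9f9dc39ad5cb9abdc9ffffff9cec709fb59b3ffffff9ab3f2ffffffffffffffffffffffff9ac5ca9c75bbffffff7ffffffffffff9a8bf2ffffffffffffffffff9aedcd9aac74ffffff6ffffffffffffffffff9a7dc6a065e3ffffffffffffffffffffffff5ffffffffffff9a6dc5a06de39a85c7ffffffffffffffffffffffff6ffffffffffff9a75c69a65a8a4bb34ffffffffffffffffffffffff5ffffffffffffffffffffffffffffffffffffffffff99cdb799e3f71ffffffffffffffffff9f8dcb9fa5caffffffffffff99b595ffffff1ffffffffffffa57d28ffffffffffffffffffffffff999dc1ffffff1ffffffffffffa54d52998bf7ffffffffffffffffff99a5c2ffffff5)))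
  (N 1520 (N 1504 (L
  0xffffffffffffffffff9efd739f14419f1ddfffffffffffffffffff5ffffff9eed70a14dee9ec54c9eddb7ffffffffffffffffff9ee4645ffffffffffffffffffffffffffffffffffff9f2de19eb44aa585061a43d69ffffffffffff9e6435ffffff9e442cffffff9e5ddcffffff3ffffffffffffffffff9e242affffffffffffffffff9e55dd9e3cad5ffffffffffffffffffffffffffffff9dfddaa0fdea9e1458ffffff3ffffffffffff9ddc34a45d59ffffffffffff9e05dba455679df4736ffffffffffff9db5d5ffffffffffffffffffffffffffffff9dcdd86ffffffffffff9dadd7ffffffffffffffffffffffffa3ee019dc5d96ffffffffffffffffffffffffffffff9d8c14ffffffffffff9da5d53ffffffffffff9d85d4ffffffa3d4de9d6d2cffffff9dd5d9ffffff3ffffffffffff9dbdd9ffffffffffff9d5412ffffffffffff9d9dd73ffffffffffff9d7dd6ffffffffffff9d34139d4c099d65d5ffffff3ffffffffffffa705329d1bffffffffffffffa72602ffffffa70d805ffffffffffffffffff9d0c4bffffffffffffffffffa5bacbffffff5ffffffffffffffffffffffffffffff9c85d0ffffff9ca46effffff3)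
  (L
  0xffffffffffffa17477ffffffffffffffffffa18df1ffffffffffff6ffffffffffffffffffa53515ffffffa155ceffffffffffffa16dea3ffffffffffffffffffa5f517ffffffffffffffffffffffffa13ded0ffffffffffffffffffffffffa5c525a125ecffffffa59de5a145ee3ffffffffffffa115ebffffffffffffffffffa12dedffffffffffff6ffffffffffffa11decffffffffffffa10468ffffffffffffffffff3ffffffffffffffffffffffffa5757ba0f5dbffffffffffffa165ef3ffffffffffffa0d4e4a0bde8ffffffffffffffffffa0e502a0dcf65ffffffffffffa0ade7ffffffa0c5e9ffffffffffffffffffffffff6ffffffffffffa0b5e8a09de6ffffffffffffffffffffffffffffff5ffffffffffffa08c53ffffffa0a5e7ffffffffffffffffffffffff6ffffffffffffa56463a085e4a52335ffffffffffffa595edffffff5ffffffffffffa075e3a4fb35ffffffffffffffffffffffffffffff6ffffffffffffa07de4a05dc7ffffffffffffffffffffffffffffff5ffffff9f3443ffffff9f54e99f4d909f5dae9f85cb9f6d75a00de17ffffffffffffffffffffffffffffff9f25deffffffa01dbea005e23))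
  (N 1536 (L
  0xffffffffffffffffffa2fcc1a34e03ffffffffffffffffffffffff5ffffffffffffffffffa2dca0ffffffffffffffffffa2f5feffffff5ffffffffffffffffffa2bd7dffffffa2d580ffffffa2edffffffff5ffffffffffffa6638aa29dfca2b488a61543ffffffa62bb2a68bde5ffffffffffffa63d1ba28c88a2a5fdffffffffffffffffffa6bd975ffffffffffffffffffffffffffffffffffffa38604a275faffffff1ffffffa265f9ffffffffffffffffffffffffffffffa27dfbffffff7ffffffa26dfaffffffffffffffffffffffffffffffa255f8ffffff1ffffffa24485ffffffffffffffffffffffffffffffa25df9ffffff7ffffffffffffffffffffffffa3be05a22486ffffffffffffa23cff3ffffffffffffa20c83a1f5f5ffffffffffffffffffa21cdea214d45ffffffffffffa1e5f4ffffffa1fdf6ffffffffffffffffffa31e016ffffffffffffa1edf5a1d5f3ffffffffffffffffffffffffffffff5ffffffffffffa1c47effffffa1ddf4ffffffffffffffffffffffff6ffffffffffffa195f1ffffffffffffffffffa1ace0a1b4ffffffff6ffffffffffffa19df2ffffffffffffa185f0ffffffffffffffffff3)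
  (L
  0xffffffffffffffffffa3c5f7ffffffffffffffffffffffffa3ae040ffffffffffffa39d6effffffa394ffa37dfbffffffffffffa3b6053ffffffa73af7ffffffa34600a35cc1ffffffa73563a36e02a365ff5ffffffffffffffffffa32cdfffffffa71dd3ffffffa37603ffffff5ffffffffffffffffffa30cd4ffffffa3fc11ffffffa3e5d8a325f55)))))))
  Tr.N Tr.L
noncomputable def tree : Tr := (.N 768 (.N 384 t0 t1) (.N 1152 t2 t3))

noncomputable def wtree : WT :=
  (by
  refine (?fq9021 : ((pk61r (fun r0 j => pk61f j fun i1 => (pk61f (pk61d (nat_lit 7) 
    (nat_lit 0x6fddb766bd5a786fd1bb6e7cdb35e5d5a7263c5a33e1cd9705fc98f15ebb72de1c16afdeb362edcb75eb55b566a58af4e956ab528d09f3a6d3a5328d0972a7ce9b26447992e34a93162488f1a1c283022c47f0e13e7b0603f78edd3e7ae5e3b70ddd3970d9ab466c98b76cc1ab45eb99b262b562b60bd52e5aa542c56a93a64a914a8469d3224295223407cf22427501f386cf1d3868c982e58d9a2a64c14265cb152444814263c9111c3480f1c3058a123460816283861220385080c30504101810008080) i1) fun u7 => (pk61f (pk61d (nat_lit 1) 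
    (nat_lit 0x1fc993931e4c7263e4c7263c98e4c7e4c7263c98e4c7c98e4c7931c98) i1) fun t1_0 => (pk61c (Nat.div t1_0 (nat_lit 1)) (_root_.Cfsg.Agent.SporadicRecognition.CosetCert.WT.L (pk61d (nat_lit 4) 
    (nat_lit 0x86438568246231118848111201086021310554001485302248081100811825408067001512848357180243240110540558332766060736153) u7) ((fun g1 : Nat → Nat => pk61l (fun i2 => (pk61d (nat_lit 3) 
    (nat_lit 0xd20831dcee773b9d5555568b45a2d1698619cce673399d5aad56ab558e373b9dcee776773b9dcee6e673399cce4ce673399cc410c030d20114c05842aaaaa99050462e4161073ba0820880836baebae98690596783c1e0f07914c21e799061a69738218419041a60e38ee38e3041a5d75d75b20a2298430882e761020b5145145555552c205b9dd369c75308241a6014c22980821844d30120830da4106028349679e208a4820c241041451a2dd7574b88105b088317abba5f3cf20a1518bebae84114fa8c34820d46284114b2c82c208820c04104160204114106998e41918610184108821af51d34ddd2e1472cb16471c4d341841165914193cf262f4e28a912) i2)) (g1 u7) (g1 (Nat.succ u7)) List.nil) fun j => (pk61d (nat_lit 10) 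
    (nat_lit 0xabaa6a6291a0e7f9c66397e5190e3589e2186a1483a06801fb7d1ef7a1e2765d273dc16e9b56b9a968d9e66193631865f5785c96c59d6055d505294850d414f5374c12a4911e4611042504404fc3d8ef3a0e4384dc35cd132cc6304bc2dcb12b0a5280992508e228841f8781c86c1a4631805b1605513c491103f0e4360c42e0a4240841e0641403c0a01c0400800) j))) fun _ => (_root_.Cfsg.Agent.SporadicRecognition.CosetCert.WT.N (pk61d (nat_lit 7) 
    (nat_lit 0x7153169dbbf86ed7b3565cfa3363c96ef60c37ee5daf66d58ab5a34da14a9d19d3e4cb992a3c87f0a24587020bb7af9e39747153168d9bb564cd6af60b95ac46994294e9129f428901d3c38a98346cc962e44994243c807143068b10241850c10082) u7) (r0 (Nat.sub i1 (pk61d (nat_lit 7) 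
    (nat_lit 0xe4e8f101010102080810808081040438404040820210101020808e0e1010102080840404082021c202020410108080810404e0e0e1010102080840404082021c2020204101080808104047070808081040420202041010e101010208084040408202) u7))) (r0 (Nat.sub i1 (nat_lit 1)))))))) (_root_.Cfsg.Agent.SporadicRecognition.CosetCert.WT.L (nat_lit 0) List.nil) (nat_lit 8) (nat_lit 224)) : WT)
    = ?xq9021 → (WT)) ?hq9021; (case hq9021 => (set_option maxRecDepth 1000000 in conv => lhs; reduce)); intro _; exact ?xq9021 : WT)

noncomputable def stree : _root_.Cfsg.Agent.SporadicRecognition.CosetCert.ST := (.L 8 [] [])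

noncomputable def C : Cert where
  data := tree
  lm := 15
  rb := 220
  fb := 24
  mask := 16777215
  B := 2048
  k := 8
  N := 1541
  inv := fun x => bif Nat.beq x 0 then 0 else bif Nat.beq x 1 then 1 else bif Nat.beq x 2 then 3 else bif Nat.beq x 3 then 2 else bif Nat.beq x 4 then 5 else bif Nat.beq x 5 then 4 else bif Nat.beq x 6 then 6 else bif Nat.beq x 7 then 7 else x
  words := wtree
  subs := stree

/-- letters: 0 = x, 1 = y, 2 = t, 3 = T, 4 = u, 5 = U, 6 = r, 7 = b -/
def rels : List (List Nat) :=
  (by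
  refine (?fq9022 : ((pk61l (fun i1 => ((fun g1 : Nat → Nat => pk61l (fun i2 => (pk61d (nat_lit 3) 
    (nat_lit 0x208e411c8239047208f56ab55aad568b45a2d168b11c8e472391e28a28a2aaaaaa20830d2082083082284410e69a65965882833cf3c71c7a8c5ce3861a0811464892) i2)) (g1 i1) (g1 (Nat.succ i1)) List.nil) fun j => (pk61d (nat_lit 8) 
    (nat_lit 0xb09788796a60585048413a342e28221c16120e0a060300) j))) (nat_lit 0) (nat_lit 22) List.nil) : List (List Nat))
    = ?xq9022 → (List (List Nat))) ?hq9022; (case hq9022 => (set_option maxRecDepth 1000000 in set_option simprocs false in conv => lhs; reduce; dsimp only)); intro _; exact ?xq9022 : List (List Nat))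

noncomputable def subw : List (List Nat) := []

/-- targets:  (br)^3 -/
def targets : List (List Nat) := [[7,6,7,6,7,6]]

end Cfsg.Agent.SuzType.PresBrData
end

-- part: SuzType/PresBrChk0
section
set_option autoImplicit false
set_option maxRecDepth 100000

namespace Cfsg.Agent.SuzType.PresBrChk0

open Cfsg.Agent.SporadicRecognition.CosetCert Cfsg.Agent.Lib.CosetPartial Cfsg.Agent.SuzType.PresBrData

private theorem alC : Cfsg.Agent.SporadicRecognition.CertFast.al (Nat.succ C.lm) C.data = true := by decide +kernel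

theorem c0 : PartP C 0 64 := Cfsg.Agent.SporadicRecognition.CertFastP.partP_fast C alC (by decide +kernel : Cfsg.Agent.SporadicRecognition.CertFastP.runPF C 15 32767 0x24c0000002000000000008002000000000000002000200000010000000000000000000000000080000001000000000000000000000080008000000200000000000000000000010000000400cc00000020000000000080630000024c0098002000600080000001000001cc000000000000008000800200000008000800001c6000000100000000000800000020002000800000000166000800080000000000010180020004028c00080020000000000000830000000000000000002000000000020004000800080020086000800100020004000400980020006000800100830000000800080020086000800101530000000800980020002000800100020000000400000000006000801180000004000800000020002000800000000166000800980020004068c00080020004000000001330002068c00100020000024c0098002036600080000001042601cc001000000060008000800000040000000800000000008001000200a6000800000000000000000080630000000000000020000000800000010166024c00080020086000000100020004000000000020002000000100000004028c0008002008600080010083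000400080008002008600080000083000401cc00007240002000801180020000000000080000086000800100020004000400000020000000000000830004000800080020086000000101530000000800000020002000800100020000000400980020006000801180020000000800000000002000000000000000024c000000001c600000008002000400080a180000002000800101230166024c0098002000600080000001000000cc0010b04160800080008002000200080011764000600080010002000400cc00100020000000800080630000024c00000000366000000000010002000800000000006000800100000004024c0098002000600080010001000001cc009800200060008000800200040008000800201c6000800100020000000800980020002000838a000000a60008009800200000000000800200000000000000200000000000000100040004081800201a60008001000200a600cc08980020002030c001006300a600cc0010002000000080008063000400000008000000000000000000000400080008002008600080010002000401cc0098002000200080118002042600080000002000200080010002000203100000000000000000000002000400040098002000600080010002000200080000002000600080010000000400040098002000600080010002000200080098002000600080010002000400080098002000600080010000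 30 1073741823 0x20c377000000000000000000000000000000000000000000000000000000000000000000000000000000000000000000 0 64 = true)

theorem c1 : PartP C 64 128 := Cfsg.Agent.SporadicRecognition.CertFastP.partP_fast C alC (by decide +kernel : Cfsg.Agent.SporadicRecognition.CertFastP.runPF C 15 32767 0x800080000000000000000000000000400000020000000801180020000000800980020002000801180020000024c0098002000000000008002000000082618000000200080010000000001cc1498000000600080008002000201cc08990d4000043500010002000400cc001013301c6030c00080630000024c0000000000400080000001000200080000000036600000000002000400000a180000006074c0000001000001cc001000000000008000800200000008000800001c6000000100000000000000000020002000000000000002000000000000000000800100020000000800000000006000800080020000000000000020000000800000010004000000080020a06000027980020000028c000800200860000000008300040008000800200860000001008300000004000000000000000000000200000008000000000020000000000000a600cc1498a6414c80000000800200024550261800222a8000800111540166024c00000000a0600000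01000100020008000000000040000000000000000000000000000000008000800200000008000000000060008000000100000004000000001a6000800100020004024c0000000000000080000001000000cc000000000000000000800000000008000800000000008000015300040004000000200000000001008300040008009800200020d0c0b9800200040004081800201a6000800100020000024c00000020000000800080020000000000000020002000000100000000024c00000000000000801180010000000000000000000000800000010002000000000000000000000000020004000000000000000000000000010000000800080000086000010180020000000808980020002000000100000004028c0008002008600000010083000001cc0000002000200080118002000000000008000000000000000002000000040000002000000000000083000400080008002000000000000153000000000000000000200080010000000000040000000000600080118000000000080000000000200080b98000000000080098002000000000008002000000000000000000200000010002000000000000000000000080000001000000000000000000000080008000000000000008000008600000010000000000080000000000000080008063016600080010002000600080010001000000000008002000000000000000000000080008000008600000000000000001cc000000000020008000000200040008000825300000000001015300040004081800200000008001008300040004000000201a600000010000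 30 1073741823 0x787127000003d80000000000000000000000000000000000000000000000000000000000000000000000000000000000000000000000000000000000000000000000000000000000000000000000000000000000000000000000000000000000000000000000000000000000000000000000000000000000000000000000000000000000000000000000000000000000000000000000000000000000000000000000000000000000000000000000000000000000000000000000000000000 64 64 = true)

theorem c2 : PartP C 128 192 := Cfsg.Agent.SporadicRecognition.CertFastP.partP_fast C alC (by decide +kernel : Cfsg.Agent.SporadicRecognition.CertFastP.runPF C 15 32767 0x1cc00100000000000800100010000000000000000000000000080000000000800100020000074c00080020000000000080000000104c00100000000000814980020002108c2b98000016600000008000000000001018002016600000000133000200000000002000000000000000000000000008000000000000000000000000000008002000000000008403000000000010000000000080010000000200000000123000000000000000000200080000000000000000000000000000080000001000001cc001000008860008000800000000000000840301c60000001000000000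0000000002000200000000000000000080000002000600080b1800100040000000800200000000000000200a60008000800200860000001008300000b8c00080000000074c0000002000000040000002000000000000153000400000008002000000000000002000000000000000000000080000001000001cc000000000000008000800000000000000800000003a500010e94000000000000002000200000000000016600080000002000000080b1800100000008000800000860000000000000000000000000000020000001000000000004000000000000008000000200000008000000000020000000000200020008000000200060008151800000040000001040301c600000008433000000cc0a18000000400000010001000200000000002046600000000002000400000000000000000081518001000000000098002000200000010083000200000000000000000080010002000000000000000000000000008063000000000000002000000000000001000400040098002008600000010083000000080008000000000000000000000000080098002000200080b980020000000400000000000000800000020000000800000000002000000000000000028c00000020000000000080020000000000000000002000000100000000000000001930000000800000010002000800000000000030c00104a30004000000103230466000000080020000024c0098002036600000000001000200080a180000004164c0000002000400000000000000000000b18001000000080008002000000000000183000000080098002000200000010393000200000010002000000080010002000000000000002000000080008000000000080000000000000001e180010000000400000020000000800100020166024c0000000000409cc0000001042600cc0010000000600080008063000001cc0898193000200080118002000000000008002000000000000000000000040000002000000000000000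 30 1073741823 0x5560000000000000000000000000000000000000000000000000000000000000000000000000000000000000000000000000000000f3000000000000000000000000000000000000000000000000000000000000000000003411517000000000000000000000000000000000000000000000000000000000000000000000000000000000000000000000000000000000000000000000000000000000000000000000000000000000000000000000000000000000000000000000000000000000000000000000000000000000000000000000000000000000000000000000000000000000000000000000 128 64 = true)

theorem c3 : PartP C 192 256 := Cfsg.Agent.SporadicRecognition.CertFastP.partP_fast C alC (by decide +kernel : Cfsg.Agent.SporadicRecognition.CertFastP.runPF C 15 32767 0x16600040000002000600080b9800200000008000000000020d0c00000020000000400000000000000800000000000000800000000002000000000000000000011180000000000000080020000000000000000002000800101e30000024c00000000000000800000010002000000000000004030c00104e3000400000000000000000000008063000001cc11180000000000800080020000028c000819301c60000001000200000000000000200020008000008300a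6000000000020000000800080630000028c0008002008600001018000000001cc00001c3000200080118002000000080008133000000000b981530000000400000020000000000000000000000800080020000000000000000000000000000000002000000100020000000400000000000000800000000000000800000000002000000000000000000000001c30002000000105830000024c00000000000000800000010000000000000020000000000000010000028c00080020004000800101830000000800080020000000000000000002000022980020000000801180020004028c00980020004000000082c30000024c00000020006000800000010002028c0a18002000609cc00000020004024c000000000000000001000100000000000000000000008000800000000000000847301c600000010000000400080010002000200001418002000201cc0000000000000080010002000000080000000000000000b180010000000400000000000000000100020166024c0000000000000000b18001000000cc1498000000200080010002000000040000000000000000010000000000080008000008600000010000000000cc00000000000030c000800200000008000000000020008001000200000008000000000000000000800205a600000008002008600000010000000000080008000000000000b98153000000040000002000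0000800000830000000000000000000000800000010002000000000000000000000000020004000000000000000000000000010000000800080005fa800017ea00020000028c0008002008600000010083000000cc0000002000200000010000000000000000000000000080000001000000000000000000000000008002000200000000000000000000010000000400000000000000000000008000000000000000000000000000008002000000000008000000000000010000000000000000002000200000000000000200000000000000000080010000000000040a18000008600000b980020000000800080000000000010180000000000800004b3000200000000000 30 1073741823 0xfcc000000000000000000000000000000000000000000000000000000000000000000000000000000000000000000000000000000000000000000000000000000000000000000000000000000000000000000000000000000000000000000000000000000000000000000000000000000000000000000000000000000000000000000000000000000000070309a310dc0000000000000000000000 192 64 = true)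

theorem c4 : PartP C 256 320 := Cfsg.Agent.SporadicRecognition.CertFastP.partP_fast C alC (by decide +kernel : Cfsg.Agent.SporadicRecognition.CertFastP.runPF C 15 32767 0x8002000000000000000000000000000000000600080118001000000000008000000000000000002000000040000002000000000000000000000080000000000200080b980000000000400000000000000800000000000000800000000002000000000000000000800080000000000000001530000000400000020000000000000830000000800080020000000000101530000000000000000000000800000010002000000000000004108c00000020004028c00000020466000000100010002000800000020004108c2798002000000080008000008600000b981530004000400000020000000000000000000000800080000000000000000000000000000100000002000000100000000000400000000000000800101530000000800000000002000000001230000000000080000004108c001000005a6024c00000020002148c00000020000028c0008002000000080010002000001cc00004730002000800100000000000000000020002000000000000000000400000000000000800000000000000800000000002000000000000000028c0000193000200000010433000400000000000000000000008000000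001cc0008000000000081e182f300000b8c00080020000000000000000000000400000000000000000000000000000000080000000000000000000004000000000000002000800100020000000400000000000000800000020000000800000000002000000000020000024c0000002000000000b18001000001cc14980000004030c00085330000000800080000086068c0010000000000000000000000000080008000000000000000000000600080000001000000040000000000000080010002000001cc000000000020008011800200000b8c00080020000000810180020000000400000020000000800000830000000800080000086000000000000000000000000000000000800000010002000000000000000000000000020004024c0000000000000000b1800105a600000008002046600080000002000000000000002000200080000000000000cc00080022de80000b7a02c3000000080008002000000000010002000000000000000000200000010000000000040000000000000080000000000000080000000000200000000000000000cc00000000002000000102c30004000000000000000000800080000004000000000000002000800100002c08000800001332c0800080000001000000000000000000000080000001000000040000000000000000000002000000000000000000200000010002016600000008002008600000000002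 30 1073741823 0x2ec058dc0000000000000000000000000000000000000000000000000000000007cc0000000000000000000000000000000000000000000000000000000000000000000000000000000000000000000000000 256 64 = true)

theorem c5 : PartP C 320 384 := Cfsg.Agent.SporadicRecognition.CertFastP.partP_fast C alC (by decide +kernel : Cfsg.Agent.SporadicRecognition.CertFastP.runPF C 15 32767 0x4028c0010193000000081d98001000000000000000000000000008002000000000008000000000000010000000001cc0000002000200081b9800000a6000000000020000000000080830000000000100000000000800080000000000000000000002000000100630000000800104030886000000080000000028c0008403000000080010000000000000000002000200000000000000000040010002008600080b98083000400080008000008600002d180000000000000100000002000000100000004000400000020000000801181530000000800000000002000000002c3000000080a1800000000008000800200000000000000000020000001000000000000000000000000008151800100000000000000000000008000000100020000000000000000000000000200040000000000000000000000000100020000000000000000000000000200000008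0000002000000000008063016600080098002000000080010001000000cc1998002046600080008063000000080000000000200000000000000000080000000000200000000000000000040000000000000080000000000000080000000000200000000000000000cc000000001c600080008002000200080000000000600080010000000400000000000000400000008000000001cc0000000000000080008002000001cc000800001c6000800103e30004000000000020002000014180020002000000001c301c60008001000200000000009800200000000000800005a600000010002000200080118123000000000008002000000000000000000000040000000000000080000002000000080000000000200000000002000000000000000000000080008000000000000000002000000000010001000000000008002000000000000000000000000000000000000000008002000000000000002000200000010083000000000000000000000080000001000000000000000000000000008002000000000008000000000000010000000000000000002000200000000000000200000000000000000080000000000000000a180000000000800080020000000000100000002000000100000000000000006e3000000080118001000000000000000000000000008002000000000008000000000000010002000000000000002000200000000000000200000000000000000080000000000000000000002000000000008063000000040818000000600080010000000000cc00000020002000800100000000024c0000000000000000b98001000001cc0898000000200080010000000400000008000000000000000000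 30 1073741823 0x2660000000000000000000000000000000000000000000000000090c0000000000000000000000000000000000000000000000000000000000000000000000000000000000000000000000000000000000000463000000000000000000000000000000000000000000000000000000000000000000000000000000000000000000000000000000000000000000000000000000000000000000000000000000000000000000000000000000000000000000000000000000000000000000000000000000000000000000000000 320 64 = true)

theorem c6 : PartP C 384 448 := Cfsg.Agent.SporadicRecognition.CertFastP.partP_fast C alC (by decide +kernel : Cfsg.Agent.SporadicRecognition.CertFastP.runPF C 15 32767 0x808980020002000000102c3000001cc0098002000200080118002000400080098002000200080b98002000400040098002000600080118000000000080000000000200080000000000000080000000000000000008000000000cc00000000002000000100000000024c000000000000008000000100a600080000002000000080008063000000cc0000000000000000008063000000080000000000200000000000000000080008000000000082d180000166000400000020000000000100020000000000000020002000000001230000028c0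0080020000000000000000000000000000000000000000080000000000000000000002000000100000000024c0000000000000080000001000000cc000000000000008000800000000000000800000000000001000000000000000000200020000000000000020000000000000000008000000000000000000000000000000000000100a6000800080000000030c0b981530000000400000020000000000000000000150c000000200020000000000000000004000000000000000000000000000000000000000020000000000000000000000800201c6000000102b30000000000980020002000000000000000028c00080020000030c00100830000000400000000000000000100020000000800080000000000000000000000024c0000000000000000008493000000000000000000000080000001000200000000000000000080118002000400000098002000400080000001000200080a180020000068c001000200040008000800001a600002d981530000000400000020000000000000830000000800080000000000000000000000000800000000000000000080000000028c0008002000600080000083000400040000253000000000000000000000000008000000000000000000000000000000000000200081b184a30002000000000000006030c00100020004028c0098002046600080008083000201cc199800000060008001000200000000000000000000000000000100a6000019980000002000000100000004000000080000a06000010182f3000000040818000000000000b98002000001cc0000000000000080008000000000080008000000000000010000000000000000002000200000000000000000080008000000000000000000000000040000000000400000010002000000040a180000086000800000020166000800080020086000810180020004000000000000002000000100020004000400980020000000801181530000000800000000002000000002c3000000080a18193000200000000002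 30 1073741823 0xd580000000000000000000303000000000000000000000000000000000000000000000000000000000000000000000000246000000000000000000000000000000000000000000000000000000000000000000000000000000000000000000000000000000000000000000000000000000000000000000000000000000000000000000000000000000000000000000000000000000000000000000000000000000000000000000000000000000000000000 384 64 = true)

theorem c7 : PartP C 448 512 := Cfsg.Agent.SporadicRecognition.CertFastP.partP_fast C alC (by decide +kernel : Cfsg.Agent.SporadicRecognition.CertFastP.runPF C 15 32767 0x80008000000000000000000000000000008000000000000000002000000040000002000000080b98002000000000010000000200081b180000000000000000000000000000080020000000000000000002000000103130000000000000000000000800000010000000000000000000000800080000000000000000000000000000080630000028c00080020000000000000000000000000000000002000000000020004000000080020000000000102f3000400040000000000000080b9800200040008000800200860000101853300040000000000000020008011800201660008000000201a60008001000100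0400040098002008600000b98083000400080008253008600082d1815300a60000009800200020008001006301660000000000200040008000000100a6000400100020006000800100020000000000080020000000000000000000000400980020000000000000000004000800080020086030c001000000000008000000000020008000000000a600000010000000000000008002016600000000002000000080000001000000000000000000200080000000000001cc000000000000008000800000000008000800000000000001000000000000000000200020000000000000000000000000000000008000000100020000000000000000000000000200040000000000000000000000000100020000000000000000000000000200a6000000000000000000000080000000000000000020002000000000000000000400000000000000800000000000024c0000323000000000008002000000080000002000200080010153000000000000193000600080000001000000000000000000000080010001000200000000000000000000000002000400000000000000000000000001000001cc00000000000000800080000000000800080000000000000100000000000000000020002000000000000002000000000000000000800000020000000000000020002000000000000000000400000000000000800000000000024c19980000004000800080020000000000100000002000800100000000000000000000000000801180010000000000000000000000800080000002000000000000000000000100000004000000000000000000000080000000000000000000000000800000010002000000000000000000000000020004024c0000000000000080000001000001cc00980020006000800080020000000000080000000000000100000000000000000020002000000100000002000800000000000000800100020000028c0008002008600000000000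 30 1073741823 0 448 64 = true)

theorem c8 : PartP C 512 576 := Cfsg.Agent.SporadicRecognition.CertFastP.partP_fast C alC (by decide +kernel : Cfsg.Agent.SporadicRecognition.CertFastP.runPF C 15 32767 0x8000008600002d18002000400040000002000600080b980830000000800080020086030c2d181530166000800100020a0600000b98001000000080008000000000000010000000000000000000000000080000001000200000000000000000000000002000400000000000000000000000001000001cc0000000000000080008002000000080008000000000000010000000000000000002000200000000000000200000000000000000080000002000000080008000000000000b98153000000040000002000000080000000000000000010000000200001b180000004000400000020000000000101530000000800000020002000000100020000028c0008002000000001b980830000000400000000000000000100020000000800080000000000000100000000000000080000000030c10182f30000000400000000000000000000020000000026180000000000000100010000000800080000000000000000000004000800980020002068c0b98313000400040000002000400080010002000001cc000000000000008000800000000008000800000000000001000000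00000000000020002000000000000000000808980000002000000102c3000001cc00981c300020008011800001660004000019300000000000000200000008000800000000000000000000000004000000000000000001000200000008000000000020000000000000000000000000200000000000000100a600000000002000000000008000042600040000000000000080000002000000080000000000200000000000000000000000000000000080008000000000000000000000000080008000000200000000000000000000010000000400000000000000000000008000000000000000000000000080000001000200000000000000000000000002000400000000000000000000000001000000000000000000000000008002000000000008000000000000010000000000000000002000200000000000000200000000000000000080010002000000000000000000000000010001000200000000000000000000000002000400000000000000000000000001000200000000000000000000000002000000000008000000000080000000000000080000000000000000008153000000080000000000009cc000000100000000000000000000008000800000000008000800001c6000000100000000000000000020002000000000000002000000000000000000800000000000000000080000000030c001000200a6000400980020000030c0010002000000000008002000000000000000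 30 1073741823 0 512 64 = true)

theorem c9 : PartP C 576 640 := Cfsg.Agent.SporadicRecognition.CertFastP.partP_fast C alC (by decide +kernel : Cfsg.Agent.SporadicRecognition.CertFastP.runPF C 15 32767 0x80020000000000103930000028c0a18002000000080000001000200080000002000000081418002000000000000000000000002418001000400000000000000200080010563000000080098002000200080118000000001cc0000002000200080000002000000000000000000000000b180010000000000000000002000800000000000000000000000000000000080020000000000000020002000000103a3000000000010403000000000b180010000000000000000000000800000010000024c0000000000000000008002000000080000002000000000008000000000000000000000000080008000000200000000000000000000010000000400000000000000000000008000000200000000000000000000010000000000080008000000000082d18000000000040000002000000000b9800000000000000000200020000001000200000000000000000000008000800000020000000000000000000001000000040000000000000000000000800000000000269800000060008000000100020000000000200000000000000200040000000000000000008000000100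0001cc26180000004000800080000000000000080020004000000102c30000000000000020002000000000000002000000000000000000800100020166028c0008002046600000b980830004000000003230004000000082c30166000000000000004108c00000010004000000000000000000000080000002000000000000000000000100000004000000980020000000000080630004000000005e30000000800000010002000000104030000000000000020004024c000000200000008000000100000000000000000000008000800000000000000800001c600000010000000000000a1800200020000001000200020008009a6144c280008001000200000008000800000860000101800200040000000800001c600082d18000000000080000000000200000b980020000000400000000000000800001530000000800000000002000000002c3000000000008000000000000000002000000040000002000000080b98083000000080008002008600082d18153000000000000002000000000b18001000000080008000000000000000000000000080098002000200000b98000000000040000000000000080118153000000080000000000200000000002000000000000000000000000008000000000000000000000200000010000000001cc00000000000000800000010000028c0000002000200000000000000200000000000000000080000000000000000000000000000000008063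 30 1073741823 0x9980000000000000000000000000000000000000000000000000000000000000000000000000000000000000000000000000000000000000000000000000000000000000000000000000000000000000000000000000000000000000000000000000000000000000000000000386000000000000000000000000000000 576 64 = true)

theorem c10 : PartP C 640 704 := Cfsg.Agent.SporadicRecognition.CertFastP.partP_fast C alC (by decide +kernel : Cfsg.Agent.SporadicRecognition.CertFastP.runPF C 15 32767 0x80008000000000000000000000000080008000000000080010153000000040000002000000000000000000000080008000000000000000000000000080008000000000080b9800200000004000000200000000000000000000008000800000000000000000000000b8c0008002000000000000000000000040098002000000000b980000000000000080000000000010180000000000000000000004000000080000000000800084030000000000000000000150c00000000002000800100020000000400000000000000000000000000000000000000002000000000000000000800000000002000830981530000000400000000006000801180000000000800000000002000000000000000000800000000000000000000010000000400000000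00000080000002000001cc0000193000200080000002000000000008000008600002d18002000000080818000000000000b98001000000080000000000200001b1800200000004000000000000008000000200000008000800000000000000000000000000199800000000000000800200040004000000000000000000000000000008000800000000000000000000a600080000002000200000b980020000000400000000000000800000000000000800000000002000800000000000024c0000193000000000010001000000000000000000000000008000000000000008002000000080010002000000000098002000200000010083000200000000000000000082898000000000cc0000000000000080008002000000040000000000000000010000000000080000000000200000000000000000000008000000000000000002000000040000002000000080000083000000080008000008600000010153000000cc00001c3000200000010000000000000000002000200000000000000000040000000000000080000000000000080000000000200000000000042601cc00001c30002104c0010000000000000a1800000040008000000100a60000000000200000000000800000000008081800000000000001000100000000000800200040000001008300000008000000200020000001015300000004000000000000008000000000000008000000000020000000000005a6000014980020002000801182c3000000cc0000000000200001b18000000001cc00000000002000800100020000150c0000002000200000010000000000040000000000000000000000000000000000000000200000000000000000002698000000209cc0000002000000000000000000000080000001000000040000000000000000000002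 30 1073741823 0 640 64 = true)

theorem c11 : PartP C 704 768 := Cfsg.Agent.SporadicRecognition.CertFastP.partP_fast C alC (by decide +kernel : Cfsg.Agent.SporadicRecognition.CertFastP.runPF C 15 32767 0x80000000000000000000000000000001c30000000800080020000000000000000002000000100000000000000000000000000815180010000000000000000000000800000010002000000000000000000000000020004000000000000000000000000010002000000000000000000000000020000000000000000000000000080630004000800080000000148c0010153000000040010002000000000000000000000cc00000020002000000101530000028c0008002000000000000083000000000000000000000080000001000000040000000000000000b98002000000080008000000000001018000000000000000000000200000010002000000040000000000000080118002000000080098002000200000b980020004028c00000020000000800080000000024c0000000000000080000001000000cc000000000000008000800200000008000000001a60000001000100000004000000001a6000000000020000000000080000000000000000020000000400000020000000000000000000000800080000000000000000000000000000000020000000000000010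00000040000000000000000000002000000000000000000000000000001000000000000000000000000010001000000040000000000000000b1800200000000000800000000008000000200000004000000200000000000000000000008000800000000000000000000000004000000200000000000000005a6028c000800200000000001000000000b8c00080000000000800000000000000400000000000000000000000000000000080000000000000000000000000400000000000000000000000000150c0818000000200000000002000000040000000000000000000000000000000000000000200000000000000000041118000000000001d980020000000800080000000000000100000000000400000000000000000001530000000800000000002000000002c30000028c00101330000030c00080020000000800081c30004108c001000000000008000000001a600000008000000000000000000000000000b1800100000000089800001c600000008002000000080008000000000002d18000000000040000002000000000b98000000000080008000000000002d180000000028c00080020000000000000000000000000080020000000000000000000000800080000000030c00101530000000400000020000000000000000000000000000000002000800000000000028c000800201c6068c1018002000000080008000000000080000153000000040000002000000000000000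 30 1073741823 0xf580000000000000000000000000000000000000000000000000000000000000000000000000000000000000000000000000000000000000000000000000000000000000000000000000000000000000000000000000000000000000000000000000000000000000000000000000000000000000000000000000000000000000000000000000000000000000000000000000000000000000000000000000000000000000000000000000000000000000000000000000000000000000000000000000000000000000000000000000000000000000000000000000000000000000000000000000 704 64 = true)

theorem c12 : PartP C 768 832 := Cfsg.Agent.SporadicRecognition.CertFastP.partP_fast C alC (by decide +kernel : Cfsg.Agent.SporadicRecognition.CertFastP.runPF C 15 32767 0x100000000000000000000000000800000000000000800000040000001000005a600000000002000200000000002000400000000000000200000000002000000000008000008600000010000000000040000002000000001b980830000000800080000000000000000000000000000000020002000000102c30000000400000000000000000101530000000800080000000000000000020000000400102530000000000101530000000800106730002000000102c300000008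0000000000200080b98153000000040000000000000080000000000000080000000000200000000000000000000000000000000080000001000000080000000000000000b9800100000008081825301a600000008000000000cc001040300000008000800000000000000000000020000000000200000000000000200000000000000100a600080008000000000080b98000000000040000002000000000000000000000080008000000000000000000000000000008002000000000000000000000040098002000000000010000000000080008000000000000000000000000000a180000000000000080020000000000080000004000000102c300000000000000200020000000000000000008000800001a600000b98153000400040000002000000000000000000000080008000000000000000000000000040000002000000000000000000000080008000000000000b180020000000400000020000000000000000000000800080000000000000000000004000400000000000000800004a30000000800000000002000000000000000000000000000002000800001e30000000000000020002000800000000000000400000000000000800000000000000800000020002000000001230000000808180000000000800080000000000000080000000000000103a300000000000000200020000000000000020000000000000000008000000000000000000800001c600000010000000000000000002000200000000000000000080000000000200000000000000000040000000000000080000000000000080000000000200000000000000000080000002000200000b980000000000000000000000000800000010000024c00000000000000000000010000000400000000000030c00103e3000000080008000000000000000002000400040000323000000000b980000000000000080000000000010180000000000408181c300000000001000000000000000800008860000000000000000b8c0008002000000000000002000000040000000000000000000000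 30 1073741823 0x703000000000000000000000000000000000000000000000000000000000000000000000000000000000000000000000000000000000 768 64 = true)

theorem c13 : PartP C 832 896 := Cfsg.Agent.SporadicRecognition.CertFastP.partP_fast C alC (by decide +kernel : Cfsg.Agent.SporadicRecognition.CertFastP.runPF C 15 32767 0x8000000000002d18000000000cc00080000000030c0010002000000000000000000000000b180010000000008980000002000000100020000000000000000002000801180000000000000080000000000000100000000000400000020000000000000000000000800080000000000000000000000028c0000002000200000000000000200000000000000000080000000000000040000000000000000b180020000000800980020002000000000000000000000000000000000000080020000000400980020000000801181530000000800000020002000000002c3000000000000002000200000000000000001cc00980020000000800080000000000000080000004000000102c3000000000000002000200000000000000200000000000000000080000000000000080008000000000000000000000000000008002000000000000000000000000000000000000080008000000000080818000000200000000000000000000000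0000000000800080000002000000000000000000000100000004000000000000000000000080000002000000000000000000000100000000000000000000000000800000010000024c00000000000000000000010000000808180000000000000080000000000000080000000000000100000000000000080000000030c0010000000000000000000000000000010001000000040000002000000000010002000000cc00000000002068c0010000000000000000000000000080000001000000000000000000200000000002000000080000002000200000b9815301660004000000000000008000000200000008000000000020000000000000040008009800200020d0c00001230000000800000000004108c00000010000024c0000000000200000000002000000080000000000200080b98000000000040000002000600080118153000000080098002000200081b1800200000000000000000020008000000001660004009800200000000000000200000008000000000020000000000000000004199800200860000001006300000008000800000000000000000000000004000000200000008011800200000008000000000020001eb20000000000080008000000000000b98153000000040000002000000000000000000000080008000000000000000000000000000000002000000000008000000000000008000000000080000000000000040000002000000000000000000000080008000000000000000000000000000000000000000080008000000200000000000000000000010000000400000000000000000000008000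 30 1073741823 0 832 64 = true)

theorem c14 : PartP C 896 960 := Cfsg.Agent.SporadicRecognition.CertFastP.partP_fast C alC (by decide +kernel : Cfsg.Agent.SporadicRecognition.CertFastP.runPF C 15 32767 0x2000000000000000000800000000000000400000020a0600000b98000000000080008000000000081018000000000080000002000000000b9800100000000000000000000008000800000000000000800000000000001000005a6028c00000020002000000004e30002000000000000000000800000000004000400000000004108c0000002000000080000000000200080000002000000cc0000000000200000010002000000040000000000000080000000000000080000002000200000b9800000040004009800200000009f620002000000080000000000200000010153000000040000000000000080000000000000080000000000200000000000000000080000000000000000000001000001cc000000000000008000800000000008000800000000000001000000000000000000200020000000000000000008000000000020000000012300040000000000000000000000800000020000000000000000000001000000040000000000000000000000800000020000000000000000000001000000000000000000000000008000000100020000000000000000000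000000200040000000000000000000000000100020000000000000000000000000200000000000800200860000000000200000000000800200000000001008300000000000800200000000000008300000008000800001c600002e18002000000000000000000200000000000000000000a180000086000000080020000000000000000002030c00103e3000000000000000000000080000001000000080000000000200000b9800200000004000000200000008011815300000008000000000020001dd203a30000028c0098002000200000000083000200000000000000000080000000000001cc00000000000000800084a3000000000008000000000000010000000000000000002000200000000000000200000000000000000080000000000000000008000000000001018000000000040000000000000080000000000000080008000008600002d18000000400000000000000000000008000000200000000000000000000010000000400000000000000000000008000000001cc0000000000000080008002000000cc00080000004000000102c3000000080000002000200000000002000000040098002008600001b98000000000080008000000000000010000000000080000000000200000b98002000000040000000000000080000000000000080000000000200000000000000000000000000000000080008000000000040000000000000000010000000000000898000000200000010002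 30 1073741823 0x303000000000000000000000000000000000000000000000000000000000000000000000000000000000000000000000000000000000000000000000000000000000000000000000000000000000000000000000000000000000000000000000000000000000000000000000000000000000000000000000000000000000000000000000000000000000000000000000000000000000000000000000000000000000000000000000000000000000000000000000000000000000000000000000000000000000000000000000000000000000000000000000000000 896 64 = true)

theorem c15 : PartP C 960 1024 := Cfsg.Agent.SporadicRecognition.CertFastP.partP_fast C alC (by decide +kernel : Cfsg.Agent.SporadicRecognition.CertFastP.runPF C 15 32767 0x28c0008002000000000000083000000080008002000000000b980000000000400000020000000000000000000000800080000000000000000000000000000000000000000000080630000028c0008002000000001b9800000000000000800200000000000000000040000001000000000008000800200020000000000000000000001000000040000000000201c6000000083a3000400000a180000000000800100010002000000000020006000800000020004000800000000c860008000000104260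1cc00100000000000800080020000000800081930004000000102c3000000000000002000200000000000000201cc00000000006000800100020166000000080020086000000100830166000000000020004068c000800200000000000000000020000001000000000000000000000000008241800100000000199800000060008000800200020000149800201c6000800100000004000000000000000000800080630000000000000000000000000000010002000000005e3000600080010000000000000010403000600080000001042600000098002000000080008002000400000008000000000000010002000000000000002000200080004604000200080013f047e08000800100020000000000000000002000800100020000000000080000086000000100000004000000080020086104c2d180000000000400000000000000000000020000000800000000002068c0010000000000040000002000600080118153000400000008000008600000000000000400000000002000200001b1800000a6000000000020a06000800080020000000800000000000000800080000000000000080000000000000100000000000000000020002000000000000000000400000020000000000000020000000000000000000000800080000002000000000000000000000100000004000000000000000000000080000000000400000020000000000000000000000800100000002000000000000000000000080000086000000103930000000800000000000000800080020000000800080000004000000102c3000000000000002000200000000000000000040000000000000000b98000000000080008000000000002d1800000000000000000000000000001000100020000000000000000000000000200040000000000000000000000000100000000000000000000000000800000000000000800000040000001000005a600000000002000200000000002000200000000000000000080000002000000000008000008600002d18000000000000000002000200000000083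 30 1073741823 0x2660000000000000000000000000005d6000000000000000000000000000000000000000000000000000000000000000000000000000000000000000000000000000000000000000000000000000000000000000000000000000000000000000000303000000000000000000000000000000000000000000000000000000000000000000000000000000000000000000000000000000000000000000000000000000000000000000000000000000000000000000000 960 64 = true)

theorem c16 : PartP C 1024 1088 := Cfsg.Agent.SporadicRecognition.CertFastP.partP_fast C alC (by decide +kernel : Cfsg.Agent.SporadicRecognition.CertFastP.runPF C 15 32767 0x800200000000000800000040000001043305a60000000000200020008001000200000000000000000000000001000100040000000000000000008000000100020000000000000000000000000200040000000000000000000000000100000000000000000060008000800000000000000819300040008001000205a6000000000020002000814180000000000000080000086030c10180000000000000000020000000000080020000000800080000000000000100020000000000000020002000000000000002000000000000000000800000000000000026180000004000800080000000000000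000000002108c2b98000000000040a18000008600000b98002000000080008000000000000010153016600000a180000004000800000010002000000000020000000800000000000000000000000000000000000010000024c000000200000008000ce5400000000000800200000000001000000000000009800200020000000000000000004001040300860000000008300000008000800000000000000000000a6000400001c30004000000103130000000800080000000030c001000000a6000400103230000030c00100630000000800082530006030c00100000000000400100020000030c0010063000000000008002000000000000000000000040098002000000000000000000000080008403000000000000000000000080000000000000000008063000000080008000000400000010000000000000000002000200000000000000000040000000000000080010002000000000000000000000000010001000000000000000000200000010313000000000000000000000080000001000000040000000000000080010002000000cc0000002000200000010002000000000000000000000080000001000000000000000000200080000000000000000000000000000080008000000000080008000000009cc00001530000000400000020000000000000000000000800080000000000000000000000028c0008002000000000000183000000000008002000000000000000000000000000000000000000008000000000080010000000200000010000000000000000000000000000008002000000080000000000600080010001000000040000000000000000010002000000080000000000200000b98000000000040a18000000000080118153000000080000000000200000000002000000080008002000000000000153000000040098002000000000010000000000080008000000000001018000000000080008002000000002798002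 30 1073741823 0 1024 64 = true)

theorem c17 : PartP C 1088 1152 := Cfsg.Agent.SporadicRecognition.CertFastP.partP_fast C alC (by decide +kernel : Cfsg.Agent.SporadicRecognition.CertFastP.runPF C 15 32767 0x28c00080020000000000000830426000400000020004030c00100020002000800000000000000000004e30000000000000000000000000000010000000000000000000104c0008000000000000008000000400000000000000000000000002000200000000000000200000000002046600080000000000000000000000000000000008000000200080000000000000000010000000400000000000000000000008000000200000000000000000000010000000000080000000000200000b98002000000040000002000000080118153000000080000000000200002b981230000024c00000020000000000000010002024c000000000060008011800200040000000000001c600000008000000000000000000000000000b180010000000000000000000000800084a300000000000800001c60000001000200000000000000200020000001000000020000000000000000008001000000000000149800000020000000012300000004000000000000008000000000020000001000001c600000010000000400000000000000000000008000000000000a18000000409c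c2b98001000001cc261800000000008000800000000b8c00080000000000000100000000000000000020002000000000000002000000000000000000800100020000000000080000000030c1018000000000080008000008600000000000000000000098002000000080008000000200002618000000400000010000000400000000000000000000008000000000000a18000000000000008313000000000008000000000000010002000000000000002000200000000000000000040000000000000000b181530000000000000000000000800080000000000000100000002000000100020000000000000000000000815180010004000000000000000148c00080000002000808980000000000000100000004000000000000000000000080000002000000000000000000000100000000000000100020000000800080000000000000080000000000000103a300000000000000200020000000000000020000000000000000008000000000000000001019300020008011800200000000269800200040000001000100020000000000001c6000800100020004000000000000000000000000010000000000000000000000000080000000000000081930000000000100020000000000000020002000000000000000000000080000a06030c2d180020000000000080020004000000000830004000000080020086068c10180000000000000080000086030c00102f30166024c00980020004108c0010001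 30 1073741823 0x7c51809c0000263000000000000000000000000000000000000000000000000000000000000000000000000000000000000000000000000000000000000000000000000000000000000000000000000000000000000000000000000000000000000000000000000000000009980000000000000000000000000000000000000 1088 64 = true)

theorem c18 : PartP C 1152 1216 := Cfsg.Agent.SporadicRecognition.CertFastP.partP_fast C alC (by decide +kernel : Cfsg.Agent.SporadicRecognition.CertFastP.runPF C 15 32767 0x80010001000000040000000000000080010002000000040000000000000000b18002000000000898000000000000008000000200000a180000000000800000020004000000000000000000000000010000000000000000000000000080000000000000081930004000000102c3000000000010002000200000000000000200002618000000000080010002000000000008000000000002d18393000000040000002000000000b98083000000080008000008600000010153000000080000000000200000010153000000040098002000000080118000000000080000000000200000000000000000040000000000000080118002000000080008000000000000b9815300000004000000200000000000000200020000000032300000000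00100830004000000000000000000000080000000000000000000000000000080000000000800080000004108c001012305a6000000000020002000000000020002000000000000000000800100000000028c0008002000000001b980830000000000080000000000000102f30000000400000020000000000000020000000800080000000104c00100000000000000000000a0600002d980010000000400980020000000000000000000000800082530000000000000000000000000000020002000000002c3000000000000000000000080b1800100000004001000200000000001000200001bcc00080020000000000000000000000400980020004000000000000000000800080000000000000000000000000408180020000000000000000000000800080000000000000101530000000400000020000000000000000000000800080000000030c0010000000000080008000000000000000000000000080008000000000000b980000000000400000020000000000100630000000800080020086030c00100000000028c0008002000000001b980000000028c00000020002000000000830000000800000000000000000080000000000800080000004000000102c30000000000000020002000000000000000000000000000000000000080630000000000000000000000000100010002000000000000000000000000020004000000000020006074c0000001000000040000000000000080b98000000000080098002000200000010000000000040000000000000080000000000000080008000000000080010153000400040000002000000000010000000001cc00000000000000800080000000028c00081930000000000100020000000000000020002000000000000000000800080000000030c2d18000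 30 1073741823 0 1152 64 = true)

theorem c19 : PartP C 1216 1280 := Cfsg.Agent.SporadicRecognition.CertFastP.partP_fast C alC (by decide +kernel : Cfsg.Agent.SporadicRecognition.CertFastP.runPF C 15 32767 0x800080000000000000000000000000008980000002000000102c300000000000800001c6000000103a30004000000000020002108c14184e30002000019980000000000000100000004000000000000000000000080000000000000080020466000000000000000000000080020000000000000000000028c0000002000200081d981e3000000000000000000000080000001000000000000000000000000008000000000cc00000000000000000083e300000000000000000020000000000200000000000000000000000000800200000000000000000020008001000000000000000019300020000000000200000000000000000000000000800200000000000000000020000001000200000000000000000000000001000100000004000000000000008000000205a6000000080020004104c141800000000000000800200000000000008300000004000000000000008000000000000008000000000020002c8200000000000000000000002000000102c3000401cc00000000000148c0010001000200000000000000000000000002000400000000000000000000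0000010000028c00000020002000000100020002000000000000000000800000020000000000100000002000000000000000000400000000000030c001000000000008000800001a60000001000200000000000800200000000000000000000000001000000020000000000000000004000000000000008000000000000008000000000020000000000000000000009819300020000000000200000004000000000000000000000200000008000800000000000000000000a600000000002000000000008000000000000008002000400001b98000000000000000002000200000010583000000000000000000000080000001000000040000002000000000000000000000000000000000000000008002000000000000000000200000010393000000000000000000000080000001000000000000000000000000008002000000000008000000000000010000000000000000002000200000000000000200000000000000000080000000000000000000000000200000000002000000000000002000200000000000000000040000000000000080000000000000080000000000200080000000000000040000000000000000000002000000000000000000000080008000000000000008000000000000010000000000040a18193000000000b98002000000080008000000000001018000000000000000002000000000000001000000000008002000000000000000000000000098002000200000010002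 30 1073741823 0x606000000000000000000000000000000000000000000000000000000000000000000000000000000000000000000000000000000000000000000000000000000000000000000017cc0000000000000000000000000000000000000000000000000000000000000000000000000000000000000000000000000000000000000000000000000000000000000000000000000000000000000000000000000000000000000000000000000000000000000000000000000000000000000000000000000000000000000000000000000000000000000 1216 64 = true)

theorem c20 : PartP C 1280 1344 := Cfsg.Agent.SporadicRecognition.CertFastP.partP_fast C alC (by decide +kernel : Cfsg.Agent.SporadicRecognition.CertFastP.runPF C 15 32767 0x800080000000000000100000000028c000800200000000000000000040000000000000000000000800000000000000800000000000001000000000000000000200020000000000000000000000800001c6000000100000002024c0a18000000000000000002000400000000000000000000000001000000000008000008600080000000000000000008000000000000010002000000000008002000000000000000000000000000002000200001b980000002024c00000000000000800000020004028c00005e300000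0000000001000200cc00000000000000000100020004000000000000000000000000010000000000080020000000000000000000000800080000000000000000000000000000080000000000000000000000024c00000000000000000100010000000400000000000000800000000000000000000020002104c3198083000200000000000000000080000000000000000000000000000000010001000000000008002000000000000000000000000008002000000000000000000000000008002000400003118000000000000010000000200000000002000000cc08981c30002000000100000000000400000020000000000000830000000800080000000000000000020000000000000000002000800104a30000000400000000000000030980020000000800000000002000801180020000000000080000000030c0010000000000cc00000020002000000100830002000000000000000000800000000000000800000000000000000081530000000000081930004000000102c3000000000000002000200000000000000000000000000000200080000000000000000000193000200000010123000000000000000000600080010001000000000000002000200000000000000000040000000000000080000000000000080000000000200000000000000001cc0000000000000080000001000000000000000000000000008000000001cc0000000000000080008002000000000008000000000000010000000000000000002000200000000000000000040000002000000000000183000000080008000000000000000000000000040000000000000000000002000000080008000000000000000000000000000000002000000000008000000000000000000000200000010000000000080008000000000000b980000000000400000020000000000000020000028c0008002000000001b980000000000400104030000030c00100000000000800080020000000000000000000000800080000000194c0010000000000040000002000000000000000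 30 1073741823 0 1280 64 = true)

theorem c21 : PartP C 1344 1408 := Cfsg.Agent.SporadicRecognition.CertFastP.partP_fast C alC (by decide +kernel : Cfsg.Agent.SporadicRecognition.CertFastP.runPF C 15 32767 0x800080000000194c0000002000000040000002000000000000000000000080008000000000000000000000000cc000000200020000001000200000008000800001a6000000002f3000000080a1800000020000000015300000004000000000000008000000000000008000000000020000000000000000008000000000001a0c00000010000000008983230004000000080000004000000105e30000074c00000010002000000001930000000000100020004000000000000000000000000010000000000080020086000000000000000000000104030000000000000010002000000000000000000027980020004000000080020000000800100830000000000080020000000000000000000000800000000002000800004a30000024c00000000000000000080020000000000080000000000000100000000000000080000000030c00100020000024c0000000000200000010002000000000008000000000000000002000000040000002000000000000000000000080008000000000000b98000000000000000000000000080008000000000080008002000000000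00015300000004009800200000000101800000000008000800201c6000010180000000000000080000004000000002c3000000000010000000000000000001000000000010000000600080008000000000000000002000200000000002000000040000000000000080000000000000080000000000200000000000000000080000000000000000b98001000000040000000000000000010002000000cc0010000000200000010123000000040000002000000000b98002000000000000000000200000000002000000040000000000000080000000000000040000000000000000b180020002000000000020000000000000000000024c00080020000000000000020000000400000000000000000000000000028c0008002000000001b980000000000000080020000000000000000000000800080000000000000000000000000000084030000000000100000000000400100020006000800000000000028c0008002000000001b980000000000000100020000030c00080000000000000000000000000000080000000000000080000000000000100000000000000000020002000000000000002000026180000006000800100000000000000080020a06000031980830000000000080000000030c001000200000000000800200860000001039300000004000000000000000001000000000008000000000001a0c0000001000000000008000000000000000002000000040000002000000000b98083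 30 1073741823 0xbb95a15c0000000000000000000000000000000000000000000000000000000000000000000000000000000000000000000000000000000000000000000000000000000000000000000000000000000000696000000000000000000000000000000000000000000000000000000000000000000000000266000000000000000000000000000000000000000000000000000000000000 1344 64 = true)

theorem c22 : PartP C 1408 1472 := Cfsg.Agent.SporadicRecognition.CertFastP.partP_fast C alC (by decide +kernel : Cfsg.Agent.SporadicRecognition.CertFastP.runPF C 15 32767 0x400000000000194c00000000000000000080000086000000000000000000000084030da6000831180000000000000000000000000000080000000000000000000002000800100000000000000000020466000800100010000000000000000002000000000000004000000000000002000801180020000000000001330002108c00100020000000000984b30004000800100010000000000000000000000800080630000000000000000002000800000000000000000000020002000000000020004000000080000000000000000020000000000080020000000000000000000000000000000002000000000000002000000000000000030c00100000004000000005e300000000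000800000001a8c000000000000008000000100020000000000000000000141800200040000000000000000000001000100020000000000000000000001000201660000149800200040000000000105a6000000000020002000800001e3000000080010000000200002d182f3000000040000000000000080000000000000080000000000200000000000000000000010000000000000008002000000000a180000002000000101230000000400000000000000800000000000000000000000000000800000010000000000000000000000800080000000000000000000000000801180010000000000000020000000000080000000000000000000000000000000010000000000106e300000008000800200000000000800001c600000010433000400000000002000200001418083000200000000000000000080010000000000080000000000200001d981230000000400000000000000000000020000000800080000000000010182f30000000000080000004000000002c30004000000000000000148c0010001000200000000000000000000000002000400000000000000000001d98001000000000000000000000080008002000000000008000000000000010000000000001498002000200001b980000002000019980000000000800100020002000000000000000030c001000000040000000000000000000000800000000000001040300000000000000100000000000000000000000000800000000000000800000000000001000000000000000000200020000000000000020000000000200000008001000200000000000800000860000001000000000000000000000000000000800000000000000800000040000001000005a600000010002000200001418000000000040010403000000082d18002000000080008000000000000000000000000000008000000000000000002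 30 1073741823 0x175800000000000000000000000000000000000000000000000000000000000000000000000000000000000000000000006c30000000000000000000000000000000000000000000000000000000000000000000000000000000000000000000000000000000000000000000000000000000000000000000000000000000000000000000000000000000000000000000000000000000000000003030000000000000000000000000000000000174c0000000000000000000266000000000000000000000000000000000000000000000000000000000000 1408 64 = true)

theorem c23 : PartP C 1472 1536 := Cfsg.Agent.SporadicRecognition.CertFastP.partP_fast C alC (by decide +kernel : Cfsg.Agent.SporadicRecognition.CertFastP.runPF C 15 32767 0x8002000000000000000000000000008000000000000010000000000000008000000400002d18000000000080008002000400001b181530000198c0008002000000000000002000000000000000000000080008000000200000000000000000000010000000400000000000000000000008000000200000000000000000000010000000000000000193000200000000002000000080008000000000000b981530000000400000020000000000000830000000800080000000000000000000000000400000020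000000000000000000000400000000000000801180000000000800000000002000000000000000000400000000000000800000000000000035980000002000000000020000000000100000000000000000010000000000003230002000000100020000000400000000000000800000000000000800000000002000000000000000000000000020002000000002c3000000080008000000000000b98153000000040000002000000000000000000000080008000000000000000000000000040000002000000000000000000000080008403000000000b98000000000040010000000000000000000000000080008000000000000000000000200000098002046600081b980020000000000000000002000000102c300000000000800204660000000000005a6024c00080020000000000000830000000000000000000000800083e3000000001998000000200000010000000000000008000000000000b18002000000000000000000200080010000000000041998000000000080010002000000040000000000000000000002000000040000000000000000010153000000000000000000200000000002000000080000673000200000b980000000000800000000002000000002c3000001cc000000000020008011800000000008000800000000008000015300000000000800000000000001000000000000000000000020000001000005a600000098002000200080000002000001cc00001c30002000800104a3000000080000000000000080000001000000000000323000200000010002000200000000002000000001b984e300000000000800200860000000000000a600000098002000200000010002000200000000000000000081418000000000040000000000000080010000000000000008002000000000000000000000040098002000000000000000000000080008403000000000000000000000000000000000000000008002000000000898002000000000008000000000cc0000000000000000008000000000080008000000000000010000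 30 1073741823 0x5d6000000000000000000000000000000000000000000000000000000000000000000000000000000000000000000000000000000000000000000000000000000000000000000000000000000000000000000000000000000000000000000000000000000000000000000 1472 64 = true)

theorem c24 : PartP C 1536 1541 := Cfsg.Agent.SporadicRecognition.CertFastP.partP_fast C alC (by decide +kernel : Cfsg.Agent.SporadicRecognition.CertFastP.runPF C 15 32767 0x100000000000000000010000198c0000002000200000000002042600000008002000000081b980830000000000080000a0600000010000000000000008000000400002798002 30 1073741823 0 1536 5 = true)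

theorem all : PartP C 0 1541 := ((((((((((((((((((((((((c0).append C c1).append C c2).append C c3).append C c4).append C c5).append C c6).append C c7).append C c8).append C c9).append C c10).append C c11).append C c12).append C c13).append C c14).append C c15).append C c16).append C c17).append C c18).append C c19).append C c20).append C c21).append C c22).append C c23).append C c24

end Cfsg.Agent.SuzType.PresBrChk0
end

-- part: SuzType/PresBr
section
set_option autoImplicit false
set_option maxRecDepth 100000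

namespace Cfsg.Agent.SuzType.PresBr

open Cfsg.Agent.SporadicRecognition.CosetCert Cfsg.Agent.Lib.CosetPartial Cfsg.Agent.SuzType.PresBrData

theorem part : PartP C 0 C.N := Cfsg.Agent.SuzType.PresBrChk0.all

/-- every target word lies in `H` as soon as the relators hold and the subgroup words lie in `H` -/
theorem mem {G : Type*} [Group G] (H : Subgroup G) (g : Nat → G)
    (hinv : ∀ x, x < 8 → g x * g (C.inv x) = 1)
    (hrel : ∀ r ∈ rels, ev g r = 1) (hsub : ∀ s ∈ subw, ev g s ∈ H) :
    ∀ w ∈ targets, ev g w ∈ H :=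
  mem_of_checks C H g rels subw targets
    (Cfsg.Agent.SporadicRecognition.HypFast.and_fast (by decide +kernel)) hinv hrel hsub part (by decide +kernel)

theorem eq_one {G : Type*} [Group G] (g : Nat → G)
    (hinv : ∀ x, x < 8 → g x * g (C.inv x) = 1)
    (hrel : ∀ r ∈ rels, ev g r = 1) : ∀ w ∈ targets, ev g w = 1 :=
  fun w hw => Subgroup.mem_bot.mp (mem ⊥ g hinv hrel (by simp [subw]) w hw)

end Cfsg.Agent.SuzType.PresBr
end

-- part: SuzType/PresZbData
section
set_option autoImplicit false
set_option maxRecDepth 100000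

namespace Cfsg.Agent.SuzType.PresZbData

open Cfsg.Agent.SporadicRecognition.CosetCert

noncomputable def t0 : Tr := beta% (fun (N : Nat → Tr → Tr → Tr) (L : Nat → Tr) => (N 208 (N 96 (N 48 (N 16 (L
  0xfffffc0740f020047fffff11d1b846c6d1191b04546b1131a9ffffff01e04043c69ffffffffffffffffc4286701b038420661fffffffffff1041943f8640fa18c3e062fffffc0700f0190343ffffffffffc348530f4187fffff0ef17c3b05e0170300680e1fffffc3a85d01502fffffffffffc3905a0e21640600d0e0161bfffff0130280580c0dc15c368560d7154354540d114c33c527fffffc0500b0cb147ffffffffffc30c4f0bf138044090bd1347fffff0bb1302dc4b0b31282bc490ac123fffff01202803c080fffffffffff0850e029845fffffc27c4309b108034070100247fffff09910402c060961002503f0920f82403d00e0202383c6fffffc0240500c01ffffff08c0ec2283a0880e4210380820ddffffff00a01bffffffffffc1f8360780d41c8340070101c0331fffffc1b83206b0c41a4300650bfffffffffffc0200500500c3fffff0610b3fffff05e0abfffff0580a415028003008018041fffffffffff05109c130260490941182404408c010030010043fffff04208bffffffffffc0f81f03a0780e01d03607000802f)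
  (N 32 (L
  0xffffffffffffffffffffff03f007ffffffffffc5f83004a0953ffffffffffc6889c03d007ffffffffffffffff07f0d8138265fffffc67c9afffffc67098fffffc0f01d03900460890198258bfffff196257fffff193250644930370040ec1e1882441d4343ffffffffffffffffffffff18d248618911812400d40117b23c706002fffffc0cc1affffffffffffffffc5e08dfffffffffff6fffffc0c41903406fffffffffffffffffffffffffffffffffdffffff0320685d08cffffffffffffffffffffff02f063fffff1fffffffffff17022ffffffffffffffffffffffc0c01902d05c3ffffffffffc59887ffffffffffffffffffffff02b0580b8181fffffffffff029057fffffffffffffffffffffc0b017fffffdbfffff0270500a816fffffc5b88a16b2245a48816521c58c867fffffc0a01515f2145708415a20c550821502040941314e2007fffff14c1fc5207e1441f45007c13d1ec4ec7a02605008c120fffffffffff1161ac4e0781361dc4c87612e1d40841102404c7fffff12c1d007c101281cc498721241c44887002204847c6f6)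
  (L
  0xffffffffffffffffffffff068010808c4fffffc5fc20fffffd3ffffffffffc7f8c3064013fffff1fa30bfffff18e24819c2a5ffffffffffffffffffffff1f6307fffff0630101cc341f3300bfffffffffffffffffffffffffff062013fffff0790d460c903fffffc18003fffffc7b4bd1eb2f07a4bbffffffffffffffffdfffffffffffc17c03fffffffffffffffffffffffffffc1b0316fffffffffff1e52e3fffff05d00c784b71dd2d8760b50660bd3fffffffffffffffffffffffffff05a0a015c0305c08c628912fffffffffff1d22c873cb1fffffc14c030590a4158241ca2bcfffffffffffc14002fffffc71caeffffffffffffffffffffff6fffffc714ad1c22b3fffff04b00bffffffffffc6f0a904f07d3ffffffffffffffff04800813426fffffffffff1b729ffffff5ffffffffffffffffc6d0a51b0293fffff0450081542807b0d4bfffffffffffffffffffffffffff04300811c2405b0a46a8a23fffffc10401ffffffffffffffffd3b495fffffffffff1a7281fffffffffffc10001fffffffffffffffffffffffffffc148276)))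
  (N 64 (L
  0xfffffc9a4e5fffffffffff09501c99ce4fffffc990e224735d3ffffffffffffffff09301c25c40fffffc984e025e37ffffff5ffffffffffffffffc970defffffffffff09101c270420c713cbffffffffffc960dd255373fffff08f01ffffff0a210c940da3ffffffffffffffffc930d824635c90cd623f357fffff08d01c3ffffffffffffffff08b01bfffffffffff0569f23a3508b4cd5fffffc8f434ffffffffffffffffffffff08901bfffff236348bfffffffffffffffffffffffffff08701bffffffffffc8d0d13fffffc828c60860208c4d0ffffffffffffffffc20c060b812c7ffffffffffffffff22c337fffffffffffffffffffffc204060fffffffffff2283301f405fffffffffff22132c2001f1d92d57ffffffffffc86ccaffffffffffffffffc1dc0507a0b41f0242ffffffffffffffffc84cc920d3201c405fffffc1d02e076074ffffffffffffffffffffffc6e0a71992586aca217c23c1bc050fffffc1b404fffffffffffffffffffffffffffc824c6fffffdfffffffffffc1a804206317fffffffffffffffffffffffffff6)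
  (N 80 (L
  0xffffffffffffffffc3240afffffffffff2e0438924d72843c17fffffffffffffffffffffcb710d0c51383080afffffc3203e2fffffcc40552d8430b550b2ce4282f80a0c413c30448240354fffffffffffcb1909fffffc97cdf2be420944dafffffc2f00a0fffffc2e809fffffffffff2bc41ffffff6b33f4ae9062b6415fffffffffffc2d8092b2413ffffffffffffffff0cc1442e4386ffffffffffffffffc2d4490b2027ffffffffffca18d8fffffd3fffff2ae407fffff0ae0242d04a2a8403fffff2a33f82c4455fffffca84fdfffffffffff29c3effffff0ab0243004e2983e8bfffffffffffffffffffffca54f80aa0242b4480c613ffffff3fffffc2a408fffffca48f6ffffffffffffffffca3cf428d3cdfffffffffffffffff0a811029408fffffca24f12833c02c0494fffffca04effffffc290080a7117fffffffffffffffffffffd7fffff27f3b89ecedfffffc9e0eb0a1108278080a30f7fffff2fffffdc9914fffffc9d4eafffffc268080a010c2743e2733a4ffffff09801ffffff26f3a09b4e7ffffffffffffffffc9ace67)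
  (L
  0xfffffcd3d37fffffc3c80d0f5187fffff34d4dbfffff1011917fffffffffffffffffffffcd2934fffffc3b80d0f1167fffff2fffffffffffffffffffffffffffc3ac0dfffffffffff3484ccffffff0e9030bc1133454c8d0d313c24a1de12a3414c0cfd2f7fffffccf52efffffffffff0e8033ffffffffffcce92c32348d3ffffffffffffffff0e7033fffffffffffffffffffffcca9245fffffccdd2afffffffffff3354a4398590e30303b45efffffcbfffff3334a3ffffffffffffffff0e10303945a0f017ccb9263fffffccb125fffffcca12432248cc7d2231b487fffff0df0303ffffffffffffffff0de15836c0bfffffffffff316474bcd144fffffcc511cfffffc3640b0dd15fffffffffffcc311b2f84557fffff30f13bffffffffffcc291afffffc3580b2fb45bfffff2ffffffffffffffffffffff3004643500b0d8157fffff2fe460fffffffffffc34c0dffffffffffffffffcbe9160d002c414651ffffffffffffffffcbd5152f2453ffffffffffffffff0ce02c3fffff2ef44c3280a2e8448b9911237348b8d100cd12cb1d096))))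
  (N 144 (N 112 (L
  0xfffffcf91603e057fffffffffffc48411fffffc4cc763db574ffffff3d9573fffff3d456cf395a3ca564f19583c455c478110ffffffffffffffffc47010fffffffffff3be558ee1553a353d7ffffffffffffffffffffffffffffffffc468103a6540ed1532ffffffffffffffffffffff3aa54846010fffffffffff3a8544fffffffffffc45c12ffffffffffffffffce95501140405247e1fffffffffff1201bce894fffffffffffffffffffffff1120403fffff39d5344380ffffffce654cfffffce554b111194e19476ffffffffffffffffc4340ffffffffffff392524c95233524e17fffffffffffffffffffffce314810903ffffff10c188c71213fffffffffff38551fffffffffffcdfd4632f498de54510703c3ffffffffffc40c0e375510dc543fffffffffff1101a4418536ffffffffffffffffc400630fd03bffffffffffcd51241021813fffff36e507fffff0f90383fc6436a503fffff3654f83f0615fffffcd8d3dfffffffffff3604f3fffff0f703842c6735c4ecbffffffffffffffff0f61803cc0dfffffcd5d393514e03ec634)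
  (N 128 (L
  0xfffffffffff45f63ffffff3eb58d1698e3dc57514d8d14d0503fffff14b04ffffffffffffffffffffffffffff44f633fffff7fffffffffff14704fffffffffffd1318afffffc5808514a1adbfffffffffffffffffffffc50c13fffffd129893ef56c518774ffffffffffffffffc4fc13fffffd11988fffffffffff1421e17fffff44361bfffff4406110f183fffffc4f0131512050e1822ffffffffffffffffffffff4356004e81313e1ec5588242f5fcffffff13904bfffff42d5fbfffff42b5f6135744295f109d7b7ffffffffffffffffffffff13704bfffff4235e507d781411f13ffffffffffffffff13504bfffff41d5dd06d764185d45147d5fffffd059744125cffffff4105cbfffff1310484d07040c5c4bffffffffffffffff4085c3fffff12d04bfffff1301c50156e3fffffc4ac1139e537fffff4035b52b16083e5890056c3ff5adffffff3fd5abfffff12a1c849c113fa5a7fffff3f759cf3d5a4ffffffffffffffffc494111291ccfd1653f2590fa9633d656d7fffff3e858bfffff3e6587ffffffffffc48c1112f1d4560822)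
  (L
  0xfffffffffff4d26b5339ac4c66ac6001c187247fffff1840b4fffffffffffffffffffffffffffffffffffffff17d0cc5e81c0fffffc5e41b4bd69ffffff4c46abffffffffffffffff4c26a5f05c23ffffffffffffffffd301a817706fffffffffffffffff3fffffd2f1a71730652e9a64b86952759e4b16905d88bfffffdbfffff9159b45bc184af68fffffffffffffffff1752305c8876ffffffffffffffffc5b415fffffffffff4a8685289a048a6697fffffffffffffffffffffd2819ffffffc5a815fffffd2719e2ffffffffffffffffd2619d48e6705a01516c227ffffffffffcffffff45063059c17ffffffffffffffffffffff1640545c48b1ffffffffffffffffd2259a8785f521999484663fffff1620543ffffffffffc5781447e65ffffff3b554ffffff1611f91818f6ffffffffffffffffffffff15b0511ed96fffffffffff3ee58d3ffffffffffffffff15905057484fffffd1e1943d1569081785fffffd24c88fffffd1d59347164bfffff15305055c7afffffcbffffffffffd1b591fffffd19d9014f050554821521ecf1d583)))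
  (N 176 (N 160 (L
  0xffffffffffffffffd4bdc8fffffffffff52d71ffffff1a60883ffffffffffd48dc3fffffc69421fffffffffff5d5314720ae4fffffc69020fffffd570c6fffffd4f1c64cf6b3ffffffffffdffffff52b71bffffffffffffffff1a3083fffff203313fffff3fffffd4a5c51a107d495c452270d479c2fffffc8a4cc1c32b1bffffffffffffffffffffffffffffffffc6801f22232c788b72fffffc6781e51b703fffff22432c898224ee255465bffffffdffffff5176f86741efffffffffff5146f3fffff4d56b5431b96fffffffffff5126effffff19b07bffffffffffc740b1fffffd3ffffffffffffffff19a07bffffffffffffffff1b12913fdb85fffffd439ba50b6e53f9b8fffffc6b4a2fffffc72caf1970783fffff195077ffffffffffd3edb7fffffd3b022fffffd3e1b67ffffffffffffffffffffff192074bb4cffffffd3c9b520e3213fffff4f06d3fffff190074650944e96cd399b24e26c4850c95fffffffffff4de6c06301cffffffffffffffffc63c2f1bd2a57ffffffffffffffff4db6bd361aefffffc6141c18907462c292)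
  (L
  0xffffffffffffffffc73428ffffffffffffffffd325abfffffd7ffffffffffd601daffffffffffffffffffffff1cc258724280ffffffffffffffffc71827ffffffffffffffffd5f5d8fffffd7fffff1c409bffffffffffd5ddd7ffffffffffffffffffffff7fffffd5d5d61c10995c9d556e7515add3569749595d0fffffdbffffffffffffffff5946ffffffffffffc7002656073c7ecc22fffffffffffffffffffffffffffc6fc26fffffffffff1de2d8fffffffffffd589d0ffffffffffffffffd57dcf1bb0986f8921ffffffffffffffffd43dba5557386e825fffffd521cdfffffcfffffffffffffffff1b90cc768b5547737fffff1b6097fffff1fffffffffff1b5093fffff5437314fdcbfffffc74cb221c329bfffffffffffffffffffffc6cc24535727fffff4d06b3fffff4ffffffffffffffffc6bc24fffffffffff4fc6dc6c897fffffd7ffffffffffffffff1ae08fffffffffffc8443b20f323fffff5ffffffffffffffffffffff4e46c46b033fffffc7d0c01a908c3ffffffffffffffff1a808bfffff4e36c7fffff4ea6cd4c1c85))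
  (N 192 (L
  0xffffffffffffffffffffffffffffffffffffffffffff1f20b83ffffffffffc7c42dfffffffffff5af7a3fffff21e32934dad6ffffffffffffffffffffff1f00b7ffffffffffd405b84c76ad3ffffffffffffffff1ef2f07b02c50944fffffffffffffffff4ffffffffffffffffc7a82c1ee2f5331abfffffffffff5026dd7ffffffffffffffffffffffffffffffffc7a02c505447fffff2fffffffffffffffffffffffffffffffff50644479c2cfffffc7ffffffffffd6ade51e60affffffffffffffffffffffc81cc55fffffffffff1e40a96a9e55a6791689e359f789665df1ff30dbffffffffffffffff59c7816f5c7fffffc7802a59177878c9b2fffffffffffffffffffffffffffc7702afffffffffff1df2a8fffffffffffd65ddf1db29fffffffffffd641de1d70abfffff1fffffd4d9c9fffffffffff1d60a7ffffffffffc860c94d96b93ffffffffffffffff1d50a7fffff4f4413fffff1f7305371af5fffffffffff1d10a3ffffffffffd631dd588770750a6581769bffffffffffd615dbfffffc73828ffffffffffffffffffffff4)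
  (L
  0xffffffffffffffffffffff2300e1565ceffffffffffffffffd3ffffffffffffffff22f0e08c8d0ffffffffffffffffcacd045ffffffffffffffffffffff55a7248b838ffffffffffffffffcffffffffffffffffffffffc8ac37fffffffffff2ec413fffff4fffffd7c9f72270d97bdf6fffffd7b1f55e97d08a89c59877dbffffffffffffffff22526bfffff2200dbfffff22326ffffff3fffffffffff21a0d7ffffffffffd791f35e17c887cbf21d299bfffff217313ffffffffffc84834fffffffffff2192d0854934ffffffffffffffffc83034fffffc8ecd4fffffc840a3fffffd7fffff20b0cfffffffffffd39db2fffffd535bafffffffffff7fffffffffff5de7c7fffff55d279709e0fffffc82032fffffc7ffffffffffd745eefffffc814315dc7c3fffff5d627ffffff4fffffc858c9ffffffffffffffffffffff2010c08109d54a734bffffffffffc7f42f5d87bd73dee5ca7b571dec4df6c0800b86fffffffffff5c47affffff5b57abfffff1f90bffffff1fc2acbffffffffffffffff1f50bbffffffffffffffff1f82cd3cdb55)))))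
  (N 320 (N 256 (N 224 (L
  0xffffffffffffffffd8ae0a6298249803fffffffffffffffffcfffffffffffffffffffffffffffffffffffffff25d0fffffff1ffffffffffffffffffffff25b0f989a08fffffd892072dd4353ffffffffffc95c3dfffffffffff5f57e0968d327c3b5872026fffffffffff62281bfffff2540f7ffffffffffffffff6188053ffffffffffffffff2530f4958dcfffffcb44562cf42bfffff5fffffd87a0361b80bfffff6178049484d2bf420a64fa24f0f43fffff24e0f3ffffffffffffffff613801831fdfffffffffff7ffffffffffffffffffffff24b0f3fffff60f7fca1c4afffffd3ffffffffffffffff2450f0934d86057f8c111924a140920405fffffd809fdffffffffffffffffffffff2420f3fffff2c4420bffffffffffd7f9fcfffffd7edfb23e0f0910d6fffffc9044e3ffffffffffffffffcb2909fffffffffff23c3208e43b2e94487ffffffffffc8e03a5f87e7fffff2593757d1f8fffffffffff6fffffd3e5b6fffffffffffffffffffffffffffffffff2350e83fffffffffffffffffffffffffff2cc4255e1d75536d08cc390)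
  (N 240 (L
  0xfffffffffffffffffffffffffffffffff685880a08452851407fffff280113ffffffffffffffff68187d9fe1e6b83a3fffff7fffffc9f843fffffd9f61dfffffffffff723453fffff728825fffffffffffc9e843ffffffffffffffffd9e21b27d377fffff6fffffd89e08fffffffffff27910fffffffffffcb590bfffffd3ffffffffffffffff27710ffffff647511caa1429d3effffff5ffffffffffffffffffffff27410bffffffffffffffff66c8613fffff675867ffffffffffd9ae18fffffffffff2c14209c8420ffffffffffffffffc9c4e726e10599217fffffffffff65984d3fffff661857fffff26c1049c0e82d3428c491bfffffd97a145ffffffffffffffffd96e1465884fffffffffffffffff26a1043fffff268103ffffffffffd94a12fffffc9d8eafffffd942117ffffffffffffffffd9321064a83ffffff2661018ce0c2ab400bfffffffffffffffffffffd8f20e265103fffff638834a28f13fffffffffffffffffffffffffffd8de0d63283098c402a43f87ffffffffffffffffffffffffffffffffc9883ffffffffffff2)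
  (L
  0xfffffdb322dfffffd99e176c58b0aa8ff2a7125ac6292ac390bfffffffffffffffffffffcc21182a6124aa500fffffcc15193fffffdb0e2bffffffffffffffffffffff6ae8a4a88492a53887fffff2a0123fffff6bd8a9ab629ffffffffffffffffffffff7fffffffffff29f123ffffffffffffffff6a98a0b650c6a489dbffffffffffffffff29b123ffffffffffdc851529e3affffff5fffffffffff6a389ffffffffffffffffffffffca68da2971203fffff29611ffffffffffffffffffffffda844cfffffffffff7ffffffffffffffffca5047fffffda762669b8959ba1867081d7fffff5df7c4a4c46fffffda6624fffffffffff69688ffffff6ffffffffffffffffffffff291119d0d4dfffffffffff7408013ffffffffffffffffffffffffffffffffca4046746533fffff2fffffffffff69588fffffffffffffffff744530a38466938887fffff2b7417ffffffffffdcf600ffffffffffffffffca30460ffffffffffffffffffffff68e887fffff28b115a1a2060a7f8bffffffffffffffff64450bfffff288117ffffffffffffffff3)))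
  (N 288 (N 272 (L
  0xfffffffffffffffffffffffffffcb8851ffffffffffffffffcfffffffffffffffff64252fffffffffffcb84503014658ea0d2ffffffffffffffffd80dfdfffffcb7c50fffffd821fefffffcfffffffffffffffff2db13fffffffffffffffff6ee8ccb78de5fffffffffff2d7139c2a37fffffdc1a36fffffcb68fc5ff7f1bffffffffffdc0a35fffffcb504effffffffffffffffd7f1fb4fffffdbea34fffffcb344efffffcc351b2d239cb40dbfffffd7ffffffffffcb144dfffffcb24d457b75cb2cd1fffffcb20516fffffd8ba0afffffffffff6ed8ccb00da2bd134b08e92c3358bfffff6eb8cbfffff2bb133fffff673861b8e3169f899b7a2f5ffffffffffffffffffffffffffffffffffffffcae44c73487c7fffff2b83cffffff6dd8bdbde03fffffdce60ffffffcad44c0ffffffffffffffffffffff2b112ffffff4f52ccbaccd2b433d3fffff54c737ffffffffffd3d8b6fffffcac04b2e444153db42fffffffffffffffffffffffffffffffff2af129841fffffffcbfffff2ad127ffffffffffdb4a2efffffdb422dfffffffffff7)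
  (L
  0xfffffcc6457fffffffffffffffffffffffffffdb662b72b865fffffffffffffffffffffffffffffffffcc60576d78b7fffff2fffffffffffffffffffffffffffcc5c57fffffdd1e2274c8e4db5901fffffffffffffffffffffffffffffffff31515ffffff1fffffcc4c567518effffffffffffffffffffffffffff74e8e9ffffffffffffffffffffffdc623231139cc390a30b15bfffff1ffffffffffffffffcc2455fffffdbce33fffffffffff6f48957ffffffffffffffff2ff153fffff30335d819fe30243cc18ff5ffffffffffffffffcc1cfffffffce29476538498f60e2fd1503fffffffffffffffffffffcbf05371b825d263971c8c8dc9434ffffffffffffffffffffff716820be453fffffffffff70e8e0fffffffffffffffff2f7450bd0527203effffff71f513fffff47453d5c9c42fffffcbc4522f6455c88eefffffce694cfffffd7fffff2ee147fffffffffffffffffffffd420bdfffffd6edc77ffffffffffffffffffffff2e7147ffffffffffffffff2ea3513ffffffffffffffff2e5147fffff5072ebfffff5042effffff5))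
  (N 304 (L
  0xffffffffffffffffde724effffffffffffffffcd005dfffffc7ffffffffffd6f9c7795933ffffffffffffffff79292ccf85d0fffffccf05cfffffffffff78d92bfffffffffffffffffffffdffffffffffffffffffffffde264933b173fffff785920d61393fffffffffffffffffffffffffffde1248fffffcce45c3664f87ffffffffffffffffffffffffffffffffddf24633816ffffff1fffffccd85afffffde024777b919de45d7764a3ffffffffffdfffffffffffffffff33416bfffff773917fffff7568fbfffff5fffffccc859fffffffffff76f911ddd2affffffffffffffffdfffffffffffffffff331167fffff3bf558e3c6e38d521db6435ffffffffffffffffddaa43765908cc066380518d753b32d1643fffff32b163ffffffffffdd8e41fffffdd863ffffffffffff7ffffffffffffffffffffff327163ffffffffffcd5464fffffd3ffffffffffffffff321160ca52475c900eb9523261a0c905c5fffffdd663ffffffffffff7558fbfffff31e163ffffffffffcbfffffffffffffffffffffffffff31a160c8122fffffcc74673)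
  (L
  0xffffffffffffffffde864ffffffcdb13f36918defe57fffffcbfffffffffffffffffffffcec95136818cdad40fffffcebd523fffffffffffffffffffffffffffffffff7bc95cd90633674b07fffff36218bffffffffffdeee57ffffffffffffffffdeda567ffffffffffffffffcd7c62fffffded255ffffffffffffffffd7fffff7a6943fffffffffffffffffffffcde94535e498d6c620fffffffffffffffffffffffffffffffff35a185ec25475f900bffffffffffffffff7d362bfffff356187ffffffffffcd652d3fffffffffffffffffffffffffffffffff7af950d40613531a07fffff34e183fffff7ac94fffffffffffdea6517c64cbfffff7ffffffffffffffffde9250fffffcd3060ffffffffffffffffcfffffffffffffffff37c517ffffffffffffffff34b183fffff1ffffffffffffffffcd245ffffffdf598b7d7930d853cfffffd7fffffffffffffffffffffffffff37b517fffff382518d1c5e0ffffffffffffffffffffff344175e824ffffffdf1d37fffffd3ffffffffffffffff342174d1932fffffcef1553c1559e5a4c5))))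
  (N 368 (N 336 (L
  0xfffffffffff7ec96bffffffffffce906bffffffffffffffffcffffffffffffffffffffffce846afffffffffff48262ffffff4fffffffffffffffffffffffffffffffff3a01abffffffffffcbfffff39c1a4e7c74fffffd919fefffffdd08f66b782da3e217ffffffffffffffffce6069ffffffffffffffffce6d1471a8c97fffffffffffffffffffffd9050f3941a7fffff39750bfffff3fffffffffffffffffffffffffffffffff3931a0ead52787920bffffffffffffffff75a8fdf12563911a3fffff75d901f06573ffffffffffffffffce2c67fffffcee5553904c4e3927fffffd7ffffffffffce10667138c8e211b656848e2518fffffce1c696fffffffffffffffffffffffffffce052637e19bfffff383488bfffffffffffffffffffffcdf535fffffffffff37819bfffff1ffffffffffffffffcddd43374195c96146483adc7915fffffd3ffffffffffffffff370194dd944ffffffffffffffffcdcd175ffffffffffffffffffffff6433c7fffff36f194e594b640838bfffff36d18fffffffffffdf3258ffffffffffffffffffffff7)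
  (N 352 (L
  0xfffffcf8c70fffffffffffffffffffffffffffe0ba6bfffffdfffffffffffcf7c70ffffffffffffffffcf89544135ce0a6696ffffffffffffffffcf7870fffffd2a5a146a2291a190fffffd7ffffffffffe0a2698259a207e673dd203fffff439608f68700fffffcf606ffffffffffff81d99a06665810987ffffffffffdffffffffffffffffffffffcf4c6f815993fffff3f01f4f5c724fffffe04e63fffffcf346f3d556e02662492670f48833d01cd7fffff80598600e607ff97ffffff3cc560f246f4305fd1758e2fffffffffff7f997bffffffffffcf146f3cb565035713c8204fffffffffffffffffffffffffffffffffd0c97f3c31bd1558d1ffffffffffffffffdf99c0fffffcef46e3c049fffffffffffcfffffffffffffffff46363ffffff3bb4c4ee9483b71b91fd971fffffffffff3b61b5fda5cfffffcf855ffffffdfb65a7f196dbffffffffffdfc25bfffffffffffffffffffffffffffcecc6d0ffffffffffffffffcea46cfffffceb523fffffceb14a3b04fd7ffffffffffffffff3b14fffffff46563de3a4a78a924e9c6c0)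
  (L
  0xffffffffffffffffffffff4071d50296afffffe0025ffffffd3ffffffffffffffff4061d7ffffffffffffffff8a8a0a28e815ffffffffffffffffe28a81fffffd1598dfffffd16d8e4041d43ffffffffffffffff4021d3ffffffffffd299a04ab687fffff5fffffffffff6ba82e27e8089d9fffffff82f9ad0007489a9f87ffffffffffffffffffffffffffffffffffffff8969f4ff8740fffffcff073fffffffffff88f9f3fffff4095c22327b88a9e9fffffffffffffffffffffffffffffffffcfe47385b9d61a1882ffffffffffffffffffffff86a9dcfe0733fb5a618e764245e4fffffffffffffffff4195d7fffff8619da16a753f61cffffff1fffffcfd472fffffe15e74fffffffffff8549ca4497efffffdffffff8529c7fffffffffffffffffffffcfcc7283c9b7fffff2fffffffffffffffffffffffffffcfc472fffffffffff8479c0ffffff8459bffffff3ec203ffffffffffe0e66d3e91c8fb4841fffffcf9c71fffffe1066e8389b60fc74ffffffffffffffffdffffffffffffffffffffffcf9471fffffffffff8319b11c9924)))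
  (N 400 (N 384 (L
  0xfffffe3828b8eca450d07afffffffffffffffffffffffffffd7ffffffffffffffff8329b3fffff43355ffffff4315650b87a0ffffffffffffffffffffff42c1e6215a7fffffe44d6690c9953ffffffffffffffff87921a1e99a8505d10a87987c697fffff2fffffffffffffffffffffffffffe2fa868816950a079fffffc7fffffffffffffffffffffe44665fffffffffff8e7a35098790ffffffffffffffffffffff8e2a33fffff4251e23468a80e988bffffffffffffffff87268a3628b4221e3ffffffffffffffff3fffffffffffffffffffffffffffffffff8d0a290787842120c7ffffffffffffffffffffffffffffffffd0707784b9c3fffff2fffffe33a89fffffe32688fffffd06877fffffe30e87fffffcfffffffffffffffff457637fffff8c2a1e122704171dffffff1fffffd05476ffffffffffffffffe1387984f5f62f686fffffdfffffffffffd04476ffffffffffffffffffffff41457e2d6846ffffffffffffffffd03c76fffffe1dda3fffffd0f5838aca0d7ffffffffffe2d2848aba0fffffffffffffffff40e56102c760)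
  (L
  0xffffffffffffffffd19881fffffd28da046b5b51a55efffffd7ffffffffffd17880fffffd18955fffffd191517d0961184856fffffffffffffffffffffffffffffffff4592011716efffffcbfffffffffffffffffffffd16175fffffffffff452203fffff1fffffd14487fffffffffffffffffffffffffffd1387f91aa247fffffffffffffffffffffd1347e799931f553448153ffffff4ffffffffffffffffffffff7d44e7fffff44b1fbfffff7d1924bffffffffffffffff93fa6ffffff4491f7fffff816993fffff3ffffffffffffffffffffff907a69121874451f3fffff8675a4bfffffffffffffffffffffffffff4441f111d88fffffd2519c3fffffd1087bfffffffffffffffffffffffffffffffff901a65fffffffffffd1047b8fda63fffff8f9a5ffffff46e6463c2936fffffe3d295fffffffffff43f1effffffffffffffffffffffd3ffffffffffffffff43b1efffffffffffffffff43e5cbfffff5fffffe32e888efa4fffffffffffffffff4546350e95d4371ec3fffff47c65bffffffffffd0d87affffffffffffffffe2a6824))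
  (N 416 (L
  0xfffffffffffffffffffffffffffd2956d4a46412848a8846987ffffffffffffffff49f227ffffffffffffffff9279ea492905fffffe2097efffffe48a90fffffd2c9a449e2324626f49b2243ffffffffffffffff49a67125c88fffffffffff8dda2ffffff4ffffffffffffffffd234884996752455a80a9892419549561d7ffffffffffffffff49661fffffffffffe2427c86b9dd230880ffffffffffffffffe1ed7d48821bffffffffffe1f9a348b2293fffffffffffffffffffffe2527afffffd21486fffffe24e7c2ffffffffffffffffe1d276fffffd20c86487667fffff4b5690ffffffffffffffffffffffd1f485ffffffffffffffffd201554ffffffffffffffffffffff917a3bfffff47a213ffffffffffcbffffffffffffffff870693ffffffffffd1e48348f672196762ffffffffffffffffe01a61936a651dc83fffffe03262fffffcffffffffffffffffffffffd1d0828f5a564ae748a5a07fffff4fffffe48e7d94ba751c08247664e4a27afffffffffff4735857ffffffffffd1b081fffffffffff945a71fce5b46f615fea5e6)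
  (L
  0xfffffffffff4dd24a586a4fffffffffff95ca8d380c3563741bfffffffffffffffffffffd36891ffffffffffffffffffffff4ffffffffffffffffd35c91fffffffffff533723ffffffffffd7ffffffffffd34490fffffe562a2fffffffffff4d6265350bf6ffffffffffffffffffffff4cd243fffff53b71bffffffffffd3ffffffffffffffff4c5243ffffffffffd32cbc4ca2c1320be5ffffffffffffffffd30c8efffffe53a9efffffe5469ffffffd7ffffffffffffffffffffffffffffffffffffff953a813048e0c1628fffffffffffd2fc8dfffffe5429ffffffe5369efffffd7fffff4bb2312f88efffffe1da62fffffe2197e90e9c638e8c7fffffe2ca5ffffffffffff4b9233fffff8b1a0ffffff8836813ffffffffffffffff4b7233fffff8805f3fffff87d5f7fffff5ffffffffffffffffffffff86f6552c08cfffffd2d1a24b6660ffffffffffffffffffffffd2b88bfffffffffff87f66bfffff4ffffffffffffffffe3668b8715e647a6f4ad22d2cda486e9dcbfffffffffffffffffffffffffff4a72292a95efffffffffff3)))))))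
  Tr.N Tr.L
noncomputable def t1 : Tr := beta% (fun (N : Nat → Tr → Tr → Tr) (L : Nat → Tr) => (N 640 (N 528 (N 480 (N 448
  (L
  0xfffffdfa24a51a26bfffff7e555bffffffffffdf9252fffffdbffffffffffdf8652fffffd654abfffffffffff5182696d9ea1fffffd458997e992bffffffffffe0aa69982abe5faae8ba965ffffff97cab65d2a9515267ffffffffffffffff5447325b2a75ffffffffffffffffe5e2ab976aabfffff513267fffff5e77ccbffffffffffd44498973aa7fffff971aa3fffff58676ffffff6fffffd43496fffffd559ce5102a1538c7ffffffffffffffffdfffffffffffd4289696ba9ffffff968a9a596a558276bfffff6ffffffffffffffffffffff4fd25bffffffffffffffff50025d3ffffffffffffffff4fa257fffffffffffffffffffffffffff55032f7ffffffffffffffffffffffffffffffffffffff4f72543ffffffffffffffffffffffffffffffffffffff4f1253fffff1fffffd3bc93fffffd544aaffffffffffffffffd548d155040dfffffffffffffffffffffffffffffffffd3a0934eb287fffff2fffffffffffffffffffffffffffd39493ffffffffffffffffcfffffffffffffffffffffffffffffffffffffff4e124ffffff1)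
  (N 464 (L
  0xfffffffffff5612a66cec4fffffe6bac39aab09598ac5646c1bffffffffffe69ac1fffffffffff55e2a7ffffffffffd64dde3ffffffffffffffffd550a85576ebfffff558343ffffffffffd7ffffffffffffffffffffffffffffffffd518a75492a152cc42ffffffffffffffffd508a6fffffffffff99fb01515bdfffffd7ffffffffffffffffacdc33fffff5417294f8a65897725a6a62fffffe672beffffffffffffffffd4f4a654072d635ddfffffcffffff5372d3fffff55b33bffffffffffd4d0a553871bfffff2ffffffffffffffffffffff52e2814c9aefffffffffff5312853ffffffffffd6fd2f5bc2dd705e052c283fffff5b97a96e9133fffffd4a89dffffffffffffffffd4e9acfffffd4e5c9fffffdffffff528273ffffffffffe66abd998af3ffffffffffffffff7ffffffffffffffffd49dc3524272652b9fffffe58aa456f7513fffff992ae3fffff521271499c4990adffffff5d37b95cdd55fffffffffffffffffffffffffffd481c151d2717a9f45a378cbfffff98bacfffffffffffffffff51c27147dc25ed7d5721ec3)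
  (L
  0xfffffffffff9e8b61701c759b2dffffffffffffffffffffffd3fffff9e6b5d658b5ffffffffffffffffffffff59a2e3fffff6fffffffffff9e1b5bffffffffffd63cb5fffffd648b7fffffcfffffffffffffffffffffffffffffffffd62cb258e7296c9e82fffffffffffffffffffffffffffd61cb2fffffd629cbfffffcfffffffffffd610b1ffffffffffffffffe772d3fffffffffff6fffffffffff57f2bfffffffffffe75ed29d2b4560db9fffffdbfffffffffffffffffffffffffff57e2bbfffff9cab3a73acf3fffffffffffffffffffffffffffe726cefffffd5f0aefffffc7fffffc14c3f0470e5762b7fffff5793455e909fffffffffff5fffffd5d0acffffffffffffffffed56c6ffffffffffffffffdffffff9c6b33ffffffffffd5c4acffffffffffffffffffffff4fffffe712cbfffffd5b4acffffffffffffffffd69de45707117ffffffffffffffff9beb226eac7fffffd5a8ac9abb09731ed2ffffffffffffffffe6dec5fffffd5a0ac56c74e6bec35a0788fffffffffffd59cabffffffffffffffffffffff9a7b05715eb6)))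
  (N 496 (L
  0xfffffffffffffffffffffffffffffffff5db317fffff9ccb38bfffffffffffffffffffffd75cc3fffffffffff5f07d9769e44fffffffffff5d2315738c3ffffffffffffffffd751c3fffffd7fffffa15b9bffffffffffe842e5fffffd724c395da8d735d32fffffef4e91a0bb8fffffffffffd718c35cb7b7ffffffffffcfffffffffffd70cc2fffffe836e4a0ab8fffffffffffffffff6fffffffffff79392d6d0c2ffffffffffffffffd6e1c75b76fd7fffffffffffffffffffffd6ccbffffffffffff96ea9e566a24ffffffffffffffffffffffa07b896c5e75ae2fd789f2fffffcbfffffae3c23fffffa05b87fffff5ad2fd6c1e85e57ce752d13fffffffffffffffffffffffffffffffff5ac2e673ecffffffcbfffffffffffffffffffffd6a4b8fffffe80adf9b4b11741ee4fffffe802defffffd694b8fffffffffff9fab756a1d45d97bd7ffffffffffffffff9f6b727cadbfffffd684b8fffffd691c22ffffffffffffffffffffff9ebb69678b8ffffffffffffffffcfffffffffffd674b7ffffffffffffffffffffff9e4b5bfffff6)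
  (N 512 (L
  0xffffffffffffffffdcf0f3fffffd855fd612367fffff7413d8bffffffffffffffff6cd8b7fffff60e363fffff61140bfffff3ffffffffffffffffd9154dfffffd81d1960435d8250e60b3c8bfffff60135bffffffffffffffff60d3658520068c841b062a7fffffffffff5fd357fffffa43bdbffffffffffffffff600431bffffffffffe8fef55fa357ffffffffffffffff619807fffff5fffffd7e4d3ffffffffffffffffffffffffffffffffffffffdffffffa3bbcfffffffffffd7dcd3ffffffffffffffffffffff4ffffffffffffffffffffffa39bc97ccd35f63759e61bfffffcffffff5f1333ffffffffffe8def1ffffffffffffffffe8d6f07ffffffffffffffffffffff5ee3328c2efffffffffffffffffd3ffffffffffffffffffffffffffffffffd7acccfffffe6c6c32ffffffffffffffffe8a6eefffffd7a0ccfffffffffff95fa8cfffffffffffffffffa23bb287aebfffffd78cca5e679ffffff2fffffffffffffffffffffffffffd780cafffffffffff966a94fffffffffffd774c6ffffffffffffffffe872eafffffffffff6)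
  (L
  0xffffffffffffffffd93a0f64b393ffffffffffda2dfd6c78b13ffffffffffffffff6493919361073a417ffffffffffffffff5ffffffffffffffffd8ece3fffffffffff6d38b98f91863f5097ffffffffffffffffffffffffffffffffd8d8e263938ffffff2fffffffffffffffffffffffffffd8c4e2fffffd8d0e4688880ffffff630385aed6cfffffd8d60cfffffffffff6b6537fffff7fffffd8bd08fffffd8b60962a383fffff73e80ffffff72d8753ffffffffffffffff6283818b20affffffffffffffffdca4ee5fffffffffffbf6d29c5516fffffffffff62537bfffff6e98c4bffffffffffffffffffffffffffffffffffffff6233799c4f81fffffffffff621373fffffa5bbfbffffffffffffffffa48bddbfffff62036fffffffffffdb6a2d6db473fffff735877fffff7fffffffffff61f36e966fdfffffffffffffffffffffffffffdbfffff61d36a95afb6f6415bc62f73f82bfffff74f8ebfffff7fffffe952fa61a36bfffffa50be6932f8c10c39a9a27fffffdbffffffffffe91ef761636bfffffffffffffffffffffffffff5))))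
  (N 576 (N 544 (L
  0xffffffffffffffffda2a1efffffda10f0fffffda1cf2689830ffffffffffffffffffffffffffff683879a00ef6b9859ccd062ffffffffffffffffdbee34fffffd9f8ef68287dad617fffffcffffff7318abffffffffffd9f0eefffffdce230736815cba0a4ffffffffffffffffffffff67b3b68f2f3fffffdc2e37fffffd3fffffffffffffffffffffffffff6773b7fffff67a7e1aaa283fffffefdf496763b3fffffa60c03ffffffffffdc0e35fffffdbfffff6743a7ffffffffffffffffffffffffffffffffdcb1207ffffffffffffffffd9a8e9fffffdb923167241d9bcf866d3a97ffffffffffffffff6c68b19a10066685998ce86b48799a60f2fffffffffffffffffffffffffffd988e866585fffffffffffcffffff66039e97afffffffdd2a39fffffdbfa34fffffffffff7ffffffffffffffffd9761365a39bfffff724513fffff65f39d1cbcf9fffffffffff65739997214ffffffffffffffffffffff5ffffffffffffffffd944e5fffffd9511865551dc3e38fffffd7ffffffffffffffffffffffffffffffffffffff6f846993ce50)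
  (N 560 (L
  0xffffffffffffffffffffff6e1419cde1dfffffdced1cfffffd3ffffffffffffffff6f080db71056e0437ffffffffffdb7d074ffffffffffffffffdb4501fffffdb520efffffdb5547fffffd7fffff6cb403ffffffffffdb39ff6cf407fffff6d847ffffff7fffffdcc11a8979f5b1100ffffffffffffffffdb2a216c88417fffff6c23fbffffffffffffffffffffffffffffffffffffff7fffffdcca1dfffffdafe296bc3f7ffffffffffffffff6c07f53ffffffffffffffff6ac3f5afa2a6af3fbfffff6b0401ac90e5fffffffffffffffffffffffffffdaa0fcfffffdc1e366ab86cfffffffffffda88faffffffffffffffffffffff6a7809a94fc6fffffffffffffffffffffffffffffffff69c3e1a8107fffffcbffffffffffe9b304fffffffffff69a3e1a7a266e68c5bd51a3ffffffffffffffffda60f7ffffffffffffffffe9a702fffffd7ffffffffffda50f4ffffffffffffffffffffff6973de997016fffffffffffa64c07fffffffffffffffffffffffffff6923d03ffffffffffda456b68d3cbffffffffffffffff6c98b1a414d5)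
  (L
  0xfffffffffffffffffffffffffffffffff75b48dd79497604e8bfffff75848bfffff7c995bfffffffffffffffffffffffffff7ffffffffffffffffdd5122fffffffffff770911d5d29fffffd7ffffffffffffffff753487ffffffffffffffff76690bfffff5fffffffffff75247bfffffffffffffffffffffe99f01a73c19bffffffffffdd411cfffffffffffffffffffffffffffffffff6fffffffffffc00c8ffffffffffffffffffffffffffff74d4703ffffffffffe9cb0674b857fffff74845fffffffffffffffff3ffffffffffffffffdc4631ffffffffffffffffdc421270d4583fffffffffffffffffffffdc250cfffffffffff70c872912f64fffffffffffffffffffffffffffffffff705431c2228a4dbe0bffffffffffdc050bffffffffffffffffffffff70486a902f56fffffdbe50a89b9fbfffff6fc879bf615fffffdc022a6ff82dfffffffffffffffff6ec423ffffffffffdbc91a6ef437fffff5fffffdba907fffffdc5d1b71451fffffffffffdc7517719531fffffffffffe9bb05fffffdc4a386e241db96186e7895ba2083)))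
  (N 608 (N 592 (L
  0xfffffde9d3bfffffffffff7a34dbfffffffffffffffffffffd3fffffffffffffffffffffde8940fffffde7d327c2947fffff2ffffffffffffffffde7a4d79b4c3fffffffffffffffffffffd3ffffffffffffffff79a4c1e764efffffffffff7dd94df72555ffffffffffffffffffffff7944bdf613479862df66557974c53ffffffffffffffffffffffffffffffffffffff7914bdf82521fffffdf9dc0fffffde312efffffde3d5179063fffffffffffd7ffffffffffffffff7884b7ffffffffffdf365878b545f498a5fffffffffffffffffffffffffffffffff7834b1e192dfffffcbfffff7b795bfffff782919dfd2affffffffffffffffde96504ffffffffffffffffdde92a78191ddf52bfffffffffff77e4d97ffffffffffffffffffffffffffffffffddc929775913fffff2ffffffffffffffffddb928fffffddc63efffffddd245fffffd7ffffffffffffffff76c909da5267ca937ffffffffffffffff4ffffffffffffffffdd912676b90ffffff768905d9e3dfffffd7ffffffffffffffff762497fffffffffffffffffffffffffff5)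
  (L
  0xfffffea4b0e802567fffffc0bd4302b54c07bebffffffffffdbfffffffffffffffffffffdff959fffffe2367b8015c3fffff4fffffffffff7f8563ffffffffffe9e7077fd9662de847fb645bffffffffffffffff7f7563ffffffffffffffff82099ffffff5fffffea3b0cfffffffffff7f5553fffffad1b57fffffa88c2d3ffffffffffdfbd53fffffea1f0b7f464651a9c8fba5dfc9546fffffffffff7eb542a170affffffffffffffffdfb95497fab9bffffffffffdfa94ea80c269f3087fc97a9e307fffffe2e5be6ffffffffffffffffdf2d41fffffdf3a49fffffdf3d8ffffffd7ffffffffffffffff7ba4f7fffff7bd4fbfffff7be501f01495fffffdee247fffffdf15497c88fffffff7b993bfffff7b54f43ffffffffffffffffffffffffffffffffdecd3c7da931f6e4d2ffffffffffffffffdeca51fffffdeb938fffffdec53afffffcffffffffffffffffffffffdead37fffffffffff7de937fffff4fffffffffff7e26fdea9377ad94fffffffffffdf8dc07df92d7fffffffffffffffffffffffffff7a84dffffff7c393ffffff3))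
  (N 624 (L
  0xffffffffffffffffe13174fffffe12575fffffe129778465903fffff84458ffffff91f9efffffffffffe475a291967bfffff7fffffe40a99fffffe10e6d84058bffffffffffffffff8caa213fffff91422ffffff83758a10a6e83a58ffffff83b5960f5765fffffe0d664be1d0bfffff8335ffffffffffffe0c1618346007fffff8bfa1bffffffffffe4d295fffffffffff82d583fffff1ffffffffffffffffffffff82c57fffffffffffe3fa98a9dc493ffffffffffe09d5dfffffea7312983abe0adbe8f1a4ffffff6ffffffffffffffffffffff8245764ea7ffffffe2ba83fffffd3ffffffffffffffff81e57609a68fffffe08a66821977fffff5ffffffffffffffffe0715cfffffe08e67ffffffffffffffffd7ffffffffffffffff9105effffff81b9860615cfffffe4357e2fffffe0da6cffffffffffffffffffffff81456e05d898c5a1cbfffff81256aa6711fffffea5710fffffe5029bfffffffffff7ffffffffffffffffe1d5a7fffffe02d9c80856a0359480f5e8bfffff804567fffff937a6601d9481157206a658d69e7fffff7)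
  (L
  0xffffffffffffffffffffff89e5b241699ffffffffffffffffd3ffffffffffffffff89c5b228280fffffe4e668fffffe4f2945ffffffffffffffffe4f694fffffe50a9b94398ffffff8995b03ffffffffffe2622cffffffffffffffffffffff8955affffff1ffffffffffffffffe2396afffffe2459bfffffffffff8926657fffffffffffffffffffffe4826ffffffffffff88b5abfffff1fffffffffffffffffffffffffffffffff92964a4999f8895a83ffffffffffea8f14fffffe22169fffffffffff8d59864229a4fffffe31e87fffffffffff8875a3ffffffffffffffff8dba2d3ffffffffffffffff8695a3ffffffffffffffff86c66e1b5a25ffffffffffffffffffffff873663fffff86059e19168866654bffffffffffffffff85e9c7fffff85959e18a7685c5a634e8a3ffffffffffffffffffffff85659a4a993fffffe4ca8f92ea493ffffffffffffffff85559a16274ffffffffffffffffe4be8d585f9c7fffffffffffffffffffffe14d66ffffffffffffffffcffffff851597ffffffffffe17675fffffffffff90f69ffffff7)))))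
  (N 752 (N 688 (N 656 (L
  0xffffffffffffffffffffff92167a3a980fffffffffff92567cfffffffffffffffff8e95f3ffffffffffffffff9319d3fffff5ffffffffffffffffe45996fffffe3a17bffffffffffffffffcfffffffffffffffffffffffffffffffffffffff8e65ee4c2731fffffffffff8e56a63857affffffffffffffffe42a9a8e469d7fffff8df602ac3178d75e6369a2fffffea5b108de676372785fffffffffffffffffffffffffffe33d78fffffe3497a8d49d4ffffff8cd5dbffffffffffffffffffffffffffffffffe46d8c7fffffe33182fffffffffff8c85dbfffffffffffffffffffffd3ffffffffffffffffffffffffffffffffe305758c45da31a642fffffe3026bfffffffffffffffffffffffffffe2f174fffffc7fffffffffffffffffffffe2ed73a8fc33ffffffffffeab7164fffffffffff8b35c7fffffaacc5bfffffaa9c562e25e8b65cdbfffffffffffffffffffffe2a9718b069bfffff8af9a22b5724ffffffffffffffffffffffffffffffffffffffe29d6ffffffc7fffffffffffffffffffffe2856efffffffffff8a664e2916f4)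
  (N 672 (L
  0xfffffffffff955a6bfffffffffffffffffffffe549a9aa4c507ffffffffffffffffffffffffffffffffe53da8fffffffffff2ffffffffffffffffffffffffffffffffffffffe531a8fffffc7ffffffffffe52992fffffffffffffffffffffffffffffffff6ffffffffffffffffeb571cfffffe51e5b94464652696985abcbfffffffffffffffffffffe4f98994198fffffffffffffffff4fffffffffff954a8241988ffffffffffffffffe42e8c9099e57fffff9039bbfffff9356524e261fffffe41280fffffe401860ffffffffffffffffffffff8fc617fffffac5c6e3fe6aab8c653ffffffffffffffffac2c6bffffffffffe3e185fffffffffff2fffffffffffffffffffffffffffe3dd858faa5e5229cfffffcffffff8f3613fffff9339affffff92c9d23d993fffffffffff7fffffffffffffffffffffffffffffffff8f260ffffff93b9fcbffffffffffe3b982fffffeadf19fffffeacb18fffffffffff6ffffffffffffffffffffff91ca363b581fffffffffff92d9d0ffffffbd47b23ad80bd9d02f5747bd8b9bffffffffffef7b426)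
  (L
  0xffffffffffffffffe61dbeffffffffffffffffea2b0ba82c257fffff9a46f3ffffffffffe68ec09816fa61269ab3c6261a9c3ffffffffffffffffffffffffffffffffffffffe5f5be9809686ffa3b97b6f7ffffffffffffffffffffffffffffffffebef237fffffffffffffffffffffffffffffffff97a6f6682c0fffffcbfffffffffffffffffffffe5ddbcfffffffffffaf4c8a87eeb4ffffffffffffffffe5d5bc979aafffffffffffffffffa24bb17fffffaf2c87ffffffffffe5c9bbffffffffffffffffffffff4fffffffffffffffffffffffffffffffff9706ee776d3fffffcbfffffaf0c83ffffffffffe5a9b9fffffffffff96f7a65b5bd4fffffffffffffffffffffffffffffffff9676e674ed1fffffcbfffffffffffffffffffffffffff9646e7fffff9d8b4bfffff3ffffffffffffffffffffff9606c3fffffaebc7e58dc4fffffd3ffffffffffffffffae5c7bfffff95b6c3fffff95e7b7fffff3fffffeb6b1afffffe55dadfffffffffffad9c73fffff95a7a57fffffffffffffffffffffeb771dfffffe559adfffffe766d22)))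
  (N 720 (N 704 (L
  0xffffffffffffffffe68aaffffffe679ccfffffe686acad6c70fffffffffffffffff99d72ffffffb3acd3fffffa20baffffff5fffffe66dcafffffffffffb36ccffffffffffffffffffffffdfffffffffffffffff999717fffff9f0b6bfffffafec93fffff5affacffffffffffffffffffffffffffff997717ffffffffffcbfffffffffffffffffffffffffffffffffffffffffffe659c50fffffe655c4ffffffffffffffffecbf31a2bbbbffffffffffdfffffffffffffffffb29cc2c9f2ffffffe64dc4aecc7ffffff2fffffe645c3fffffffffffffffffffffffffffec972eb23cb5ffffffb1ecb3fffffffffffffffffffffe63dc3fffffec632b2ffffffffffffffffe85ae6fffffe639c3ffffffffffffffffcffffffffffffffffffffffe635c2fffffec572ab0fca67cedb4ffffffffffffffffe631c2fffffec2f28b07c9e6eec79f7b717fffff98a707ffffffffffec0f26ffffffffffffffffec07257ffffffffffffffffe625c1fffffebf724fffffe7b6dafffffd7fffffffffffffffffffffe621befffffffffffac3c6a9f7084)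
  (L
  0xfffffffffff9d0767fffffffffffffffffffffeda73db6ccf9bffffffffffedaf3efffffffffffffffffffffffffffe735d90fffffffffffb66cf7ffffffffffffffff9c876272dd9fffffcbfffffffffffffffffffffffffffb62cf3ffffffffffe71dd60fffffe715d5ffffffffffffffffffffffb13ca6c5b2ab5dce9ffffff9c3753fffffffffffffffffffffffffffbe8c96d6f397ffffffffffffffffed6738fffffffffff9c27527eedda33bbcbfffff9c174fffffffffffe7f6dd9fe75ad4ac6b2ccc2d5f377ffffffffffffffffe702c79bd74fffffffffffe8b6eea11b953ffffffffffffffff9b974e6fec8b4dcdac13269bcad3fffff5fffffe6e1d2fffffffffffb08c9ed4ec9b5475bfffffb90cb9ffffffffffffffffffffffe6d9d2ffffffffffffffffe7b2da4ffffffffffffffffffffff9b2742c672bfffffe6d5e5fffffd3ffffffffffffffffffffffffffffffffe6b5d09b074bfffff2ffffffffffffffffec4329b42cd66a5d0fffffe6b1d3fffffcfffffffffffe695cfffffffffffffffffffffff9a874678ad66))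
  (N 736 (L
  0xfffffffffffa0379bffffffffffee8f49fffffedbb3efffffdbfffffba5d2ae8b49fffffffffffa01797ffffffffffffffff3fffffe7fde4be7587fffffffffffffffffffffef9b42b9bd21ffffffffffffffffffffffffffff9f9793fffff9fcb2bfffff3ffffffffffffffffffffff9f578fffffffffffffffff9f8ad13ffffffffffffffff9f178fffffffffffee5f47a12b967d2b55fffffee1f46fffffe7a9e2fffffffffff9efaf67bab2fffffd7ffffffffffee13449e9787ffffffffffffffffa0eb93fffff5fffffffffff9e7782e0f44fffffedff43ffffffffffffffffdbfffff9e577ffffffb7bd0ade741ffffffffffffffffedcf407fffffffffff9e077bfffffffffffffffffffffffffff9e3b05bfffffffffffffffffffffe77dddad0973ffffffffffe822e24ffffffffffffffffffffff9de773fffffabec5a89aecfffffd3ffffffffffffffffb70cfffffff9db76fffffffffffffffff3fffffffffffffffffffffffffffffffff9d676bfffff9daa84bffffffffffffffffaf8c8ab3b1b9d176bffffffffffe755e73)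
  (L
  0xfffffedd340fffffed2b27b4bb1bffffffffffffffffa347dc3ffffffffffffffffffffffffffffffffe8bdf6a32b9ffffff2ffffffffffffffffffffffa287d28b2bab30cc68bac8fffffd3ffffffffffffffffa277d28aaeefffffffffffb43cd6b9b1e5ffffffffffffffffffffffa227ceaf719fffffffffffa25aa93ffffffffffffffffa1d7cfffffffffffecdf33a21afffffff5fffffffffffb80d0ffffffbb0d3a86df1ffffffffffffffffcfffffffffffe869f0fffffeeb34dffffffffffffffffed9f3d6fffffe865efffffffffffffffffffffffae8c7bfffffb50cd9ffffffffffffffffffffffffffffa187bffffffa31bbebbb1f3fffffe851edfffffffffffa17adbfffffbd7a47ffffffffffdfffffffffffffffffa0f7b7fffffb5ecebfffffa13b6ffffff5ffffffffffffffffe831ebfffffffffffffffffffffffffffd7fffffba8d33fffffffffffffffffffffe825ebfffffffffff2ffffffffffffffffe819e8fffffeb4f0afffffeb7b1dfffffd7fffffffffffffffffffffe811e7fffffffffffacac32b271b4))))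
  (N 800 (N 768 (L
  0xffffffffffffffffe97e1affffffffffffffffe98afefffffd7ffffffffffe97615bd0d5bfffffa9ac47ffffffffffffffff6ffffffffffffffffe96a06fffffffffffbced5698700fffffd7ffffffffffe972fefffffe96204ffffffffffffffffffffff4fffffffffffbfbcffffffffffffffffffa57813ffffffffffcbfffffc04c1e95603ffffffffffffffffffffffc01c8ffffff6fffffe94e02c05c1ffffffffffff02260ffffffffffffffffdfffffffffffffffffa4f80bfffffbbdd47fffffa52bdbfffff5fffffef2754fffffffffffbb8d3f0370ea4b80bfffffa4e8d8bffffffffffe91a01ffffffffffffffffffffffa4abd7fffff6ffffffffffffffffe909fcfffffffffffbc5d4e946f9a458dd7ffffffffffe8f9fbffffffffffffffffffffffa49bde906356ffffffffffffffffe8f5fafffffeedb4fbc0d4bffffffffffd7fffffa3a7e7ffffffffffffffffffffffffffffffffeef3517ffffffffffffffffe8e1f8fffffffffffbbad42ed74ffffffd7ffffffffffffffffa367dffffffb46cd7ffffffffffed1f275)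
  (N 784 (L
  0xffffffffffffffffea5263fffffea5e8bffffffffffffffffd7fffffc1375ea4e61fffffea9e9ffffffffffffaa6c53fffff6fffffea4660c1275ffffffffffff03e02c0ebe3ffffffffffdfffffffffffffffffa9097bffffffffffea82aaa9ec4bfffff5fffffea365cfffffffffffacc72fffffffffffeb2ee1fffffdfffffffffffffffffa8696ffffffffffffffffffffffea265c5ffffffffffffffffffffffa8496bfffffad2b8aa3309fffffd3fffffffffffffffffffffe9fe59ae1c77fffffa8bc2aa0eb04fffffeb89e7fffffe9ee59a81c27ffffffffffffffffa7eac57fffffc03bef01afafffffffffffa779669ea5eaaac57fffff3fffffffffffa718e7fffffa75c0bffffffffffffffffa748f1bffffffffffe9b631ffffffffffffffffffffffa70c12fcf4a6bf2ba3fffffa6b897fffffffffffffffffffffe9bf05fffffdbffffffffffffffffffffffffffffffffe9aa24bb1d3bfffff2fffffffffffbd1d5a9db06ffffffffffffffffe9a224fffffc7ffffffffffe98e22fffffffffffffffffffffffffffe99a236)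
  (L
  0xfffffebbea7ffffffffffffffffffffffaf9c8bfffffb3dcd1fffffffffffffffffb1fcb3fffffaeaa93fffffaedae7fffff3ffffffffffffffffffffffae4a8fffffffffffeba6dcae7bb53ffffffffffffffffadca87ffffffffffeb8309adfb8bfffff5ffffffffffffffffffffffad4a72b62a2fffffffffffad7b013ffffffffffffffffacfb46bd722ac4a63fffffac7c4eb22e13fffffeb6ea2fffffffffffac1a5ffffffffffffffffffffffd3ffffffffffffffffab6a4fffffffffffeaf2ecabbc5aae6985fffffffffffffffffffffffffffeac693fffffead2affffffcfffffffffffeabe8bfffffffffffffffffffffffffffffffff6ffffffffffffffffeaae84fffffeafed4fffffeaeb19aaea157fffffb3fccfffffffffffffffffaa8a13ffffffffffead7183fffffffffffaa29e7fffffffffffffffffffffffffffaa5a81bffffffffffffffffffffffffffffffffea866aac6c6eb02d42ffffffffffffffffea6e69ffffffffffffffffea7f0dfffffd7ffffffffffea6263fffffffffffffffffffffffffffffffff6)))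
  (N 832 (N 816 (L
  0xffffffffffffffffecaf2fb28ae7ffffffffffecb6c9fffffd3ffffffffffffffffb26ae6cab30b77d03ffffffffffffffff5fffffffffffffffffffffffffffee3b38fffffec92b8b8fb187ffffffffffffffffffffffffffffffffffffffb92cf2c8ab80fffffec76b7fffffffffffb20c7ec86b8fffffee2f38b88d19ffffffb1cb17fffffffffffffffffffffec6ac4b1bb7ec5eb70ffffffffffffffffffffffba0b7ac52b5fffffffffffb33cc4ffffffffffffffffffffffec46c2b12b33fffffb0ead7fffff1ffffffffffffffffefbb32fffffffffffb0aad3ffffffffffcbffffffffffffffffb09b1ad26f0b06ad2c3328b4ecdad22f13ffffffffffffffffec0ab3fffffec16c7fffffec3728fffffd7fffffbe3d0bfffffffffffffffffffffffffffbe9b2ec02b30fffffffffffffffffffffffffffffffffafcacbffffffffffcbffffffffffeffe3affffffffffffffffffffffc02beebeaad0ffffffffffffffffebdb1baf7b47ffffffffffebceabfffffc7fffffaf1aa6ff456ffffffffffffffffedc73ffffffffffff7)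
  (L
  0xfffffedd6f0fffffef6f47bdaa47fffffb76cbffffffb72b5c3ffffffffffeff2fcfffffedbed3ffffffffffffffffffffff4fffffffffffb6ab3ffffffffffffffffffffffffffffb6db41bffffffffffed96cefffffffffffffffffffffffffffeda2e96ffffffffffffffffffffffb93cdad933bb61b36e472dfffffcbfffffbf0ccbffffffffffffffffb60b36d8f3cfffffee57383fffffffffffffffffffffffffffffffffb5fb96e6347b5cb303ffffffffffffffffffffffffffffffffffffffbecccad6acb0ffffffffffffffffffffffb58b2bfffffb8dcbae332cb94ced3fffffffffffffffffffffffffffffffffffffffffffed5ac90fffffee7348bef46bffffffffffffffffb4cb1ed3f27b51ba0bffffffffffffffffb41b0bffffffffffed16f1b44bb7fffff5fffffed0323ffffffffffffffffffffffb39afecf333b3ec80bffffffffffffffffb35afbfffffb38baffffffb3bcd3fffff5fffffefc73bfffffffffffbedca3fffffb34aeefaf39fffffcbffffffffffffffffb9fd23fffffb31bbacbabafffffeccb2a2))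
  (N 848 (L
  0xfffffffffffffffff03260fffffeee6f2ffffffffffffffffcffffffffffffffffffffffffffffbc1d4aedef4bb4bcbfffff1ffffffffffffffffeebeeafffffeecf02fffffeecb03fffffd7ffffffffffffffffbabba7ffffffffffefe700baed2ffffff5bd2c5ee9ee3fffffffffffbaad17fffffffffffffffffffffdfffffffffffffffffba6b83ffffffffffffffffbadd37fffff5fffffee92dfbf5823fffffffffffffffffffffffffffbf4c15ffffffbf886ae86dffffffffffffffffffffffffffffffffff6beaa76e7736fffffffffffb9ecc7ffffffffffffffffb9ab783ffffffffffffffffbd6a46f7340b96b6ffffffb99ceaf7f413fffffee1adafffffffffffffffffffffffffffee2b37b89cb1fffffffffffffffffba9d33fffffb85b67ffffffffffffffff3ffffffffffffffffffffffb82b63fffffffffffffffffffffd3ffffffffffee06eaffffffffffffffffedfad8fffffffffff2fffffef9325be29b2df741b7ab5fffffffffffef96debdda453ffffffffffffffffb78b5edf342ffffffffffffffffef83475)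
  (L
  0xffffffffffffffffffffffbcfbfffffffffffffffffffffffd2feb4bffffffffffffffffffffffbcdbfbffffffffffffffff3fffffef22f8fffffffffffbcbd4ef32fac09983ffffffffffdfffffffffffffffffbcad53fffffbc4bdbfffffbc7d47fffff3fffffffffffffffffffffffffffeefef4bc2d3ef0f50fffffcfffffffffffffffffffffffffffffffffeefaf9bc6d4eeeef30)))))))
  Tr.N Tr.L
noncomputable def tree : Tr := (.N 432 t0 t1)

noncomputable def wtree : WT :=
  (by
  refine (?fq9025 : ((pk61r (fun r0 j => pk61f j fun i1 => (pk61f (pk61d (nat_lit 7) 
    (nat_lit 0x5bb566c57ad56e5bb5529d9b15e951a15aad49f3a9d2a33664b95427ce93226cc971e3459526444871e345850603f7d121c27af20c07eedd397cf5e386eedd396cd5a3370ddb3262d5a3360bd73262c16af5cb15aa52a13ad58ad32554a542446893a64a850244688f9e3a710a03e6cd1e3a70c982e6cd192c60b95284c9112c54a101e4c9111c346101e3858a1a30589101c30a12202840e1828304042030400080) i1) fun u7 => (pk61f (pk61d (nat_lit 1) 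
    (nat_lit 0x1fc638c78c718f8c718f18e27e31c63c6389f18e31e31c4) i1) fun t1_0 => (pk61c (Nat.div t1_0 (nat_lit 1)) (_root_.Cfsg.Agent.SporadicRecognition.CosetCert.WT.L (pk61d (nat_lit 4) 
    (nat_lit 0x886680888061514828782018553440173065425101651843702532351611723334727410432310116161001100402) u7) ((fun g1 : Nat → Nat => pk61l (fun i2 => (pk61d (nat_lit 3) 
    (nat_lit 0x496fbeeb2caad56ab55aa451e472391c8e70c3399cce67339ea3153082f3cc10c251451442984173ba5cef3cf14511c8e472391518b905020d30161034820c5ea2e38e3aaaaa8a0c04128334c046fbe8a28a28c220dd7534820baebaeb8e38e4883238e3f3cf9a69dd2dcee8a2aaaaa8c5eba5c2c2042041208a482182ca4208bd5f7dc114c6102071c52e7cb2c51f5188c5ea314ee93cf2410610506698098410082c044101906020d4082e904180d300c31c718411590522086cb4561a8b6c11b) i2)) (g1 u7) (g1 (Nat.succ u7)) List.nil) fun j => (pk61d (nat_lit 10) 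
    (nat_lit 0x812017edf67a1e4759d270dbd6ddb26b1a3675986498d6257b5d5705a9645715754149519404ed354c1274851c4550c415033f8f93d0ef3a8e5384da354d0328c42f8b82d4b32c0ab298a0268952408b220831f8791d06f1a063174571444b118400e8330b42a09c240781904c100340a01c0500800) j))) fun _ => (_root_.Cfsg.Agent.SporadicRecognition.CosetCert.WT.N (pk61d (nat_lit 7) 
    (nat_lit 0x5d168d7b56ee58b352ad6a54e5ce9f4264d91265468ee5fc2871204178f5f3a76cdb3770d1ab062c979744a15ac5aa55254c9d1a4387d0213a78c9a36605912854b12263879018342881228307040c201) u7) (r0 (Nat.sub i1 (pk61d (nat_lit 7) 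
    (nat_lit 0xbcc17181818202) (pk61d (nat_lit 3) 
    (nat_lit 0xfa344108821a20844111a2084410d10422058d104220868821102344108821a208440) u7)))) (r0 (Nat.sub i1 (nat_lit 1)))))))) (_root_.Cfsg.Agent.SporadicRecognition.CosetCert.WT.L (nat_lit 0) List.nil) (nat_lit 8) (nat_lit 184)) : WT)
    = ?xq9025 → (WT)) ?hq9025; (case hq9025 => (set_option maxRecDepth 1000000 in conv => lhs; reduce)); intro _; exact ?xq9025 : WT)

noncomputable def stree : _root_.Cfsg.Agent.SporadicRecognition.CosetCert.ST := (.L 8 [] [])

noncomputable def C : Cert where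
  data := tree
  lm := 15
  rb := 202
  fb := 22
  mask := 4194303
  B := 1024
  k := 8
  N := 854
  inv := fun x => bif Nat.beq x 0 then 0 else bif Nat.beq x 1 then 1 else bif Nat.beq x 2 then 3 else bif Nat.beq x 3 then 2 else bif Nat.beq x 4 then 5 else bif Nat.beq x 5 then 4 else bif Nat.beq x 6 then 6 else bif Nat.beq x 7 then 7 else x
  words := wtree
  subs := stree

/-- letters: 0 = x, 1 = y, 2 = t, 3 = T, 4 = u, 5 = U, 6 = r, 7 = b -/
def rels : List (List Nat) :=
  (by
  refine (?fq9026 : ((pk61l (fun i1 => ((fun g1 : Nat → Nat => pk61l (fun i2 => (pk61d (nat_lit 3) 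
    (nat_lit 0x8239047208e411c823d5aad56ab55a2d168b45a2c472391c8e478a28a28aaaaaa8820c34820820c208a11043df7de69a65965882833cf3c71c7a8c5ce3861a0811464892) i2)) (g1 i1) (g1 (Nat.succ i1)) List.nil) fun j => (pk61d (nat_lit 8) 
    (nat_lit 0xb69d8e7f70665e564e47403a342e28221c16120e0a060300) j))) (nat_lit 0) (nat_lit 23) List.nil) : List (List Nat))
    = ?xq9026 → (List (List Nat))) ?hq9026; (case hq9026 => (set_option maxRecDepth 1000000 in set_option simprocs false in conv => lhs; reduce; dsimp only)); intro _; exact ?xq9026 : List (List Nat))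

noncomputable def subw : List (List Nat) := []

/-- targets:  (zbrx)^5 -/
def targets : List (List Nat) := [[0,1,0,1,7,6,1,0,1,7,6,1,0,1,7,6,1,0,1,7,6,1,0,1,7,6,0]]

end Cfsg.Agent.SuzType.PresZbData
end

-- part: SuzType/PresZbChk0
section
set_option autoImplicit false
set_option maxRecDepth 100000

namespace Cfsg.Agent.SuzType.PresZbChk0

open Cfsg.Agent.SporadicRecognition.CosetCert Cfsg.Agent.Lib.CosetPartial Cfsg.Agent.SuzType.PresZbData

private theorem alC : Cfsg.Agent.SporadicRecognition.CertFast.al (Nat.succ C.lm) C.data = true := by decide +kernel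

theorem c0 : PartP C 0 64 := Cfsg.Agent.SporadicRecognition.CertFastP.partP_fast C alC (by decide +kernel : Cfsg.Agent.SporadicRecognition.CertFastP.runPF C 13 8191 0x10000000001001000000401300000000020230000008004000000000000400000000040a6083000000800400000080000c6002000000000400200100080000010000000002000000064c0040330d180000000000000004000002000000000000000080000000020c180080040000000000002043000000000400000000000000010000008002000000000800415300000080000000000004004002000000000400200080000040020000000000143089848c1a600100080000000000000000004000000000400400000000000000000000000000001001000000400000000080020000010000206002000000000000200000040a6002000000000000000080000c60f3000800000400200100000000000000004000000000000000004300000080000010010008004013000000000000000100040040830000008004000000800c004002000000400000200000000000000010008000001000000000400200000000020230000000004000000000000400200000040a60830000000000000000800c0c60020008000000000001000000000200000040000000000000000043000000000000100000001c60130000008002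0000000000126033001000000400000100040a60020010000004002000800c0c60730000000000002001000800200200000040000000000008000000000800800000000000000000000010008000000000000000200000000080000000000000004001000028c000000000000000200200000040000000000000004000000800800000200100080040020010008004002001000800200200100080040020010008004001000028c004002001000800200200100040040020010008004002000800800000200100080040020010008000000000000800200200000080040020010000004001000028c004000001000800200200100040000000010008004002000800800400200100080040020010008000000001000800200200100080040020010000004001000028c004000001000800200200100040040020010008004002000800800000200100080040020010000000002001000800200200100080040020000000004001001000000400000100080020020000008004002001000800400100100000000020010008004002 26 67108863 0x888c370000000000000000000000000000000000000000000000000000000000000000000000000000000000000000000000000000000000000000000000000000000000000000000000000000000000000000000000000 0 64 = true)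

theorem c1 : PartP C 64 128 := Cfsg.Agent.SporadicRecognition.CertFastP.partP_fast C alC (by decide +kernel : Cfsg.Agent.SporadicRecognition.CertFastP.runPF C 13 8191 0x8000143001048c00400100080000000000000000004000000000400000000100001660020000000000001000000844600200000000020000010000000002001000000400200000040a60020000000000002000800c0c6002000800000400000107cc0040020000000000001000000800401300000000020000010008004033001000800000200000040040020000000004000000800000400200088cc0000020e187cc0040020010000004001001000000401300000000020230010008004033001000000400000000040a6083001000800000000080000c60020010000004002001000800400100000000020000000008004033000000000000000000040a60020000000000002000800000000200000080000000000008002043000030c00400000000000000010010004000002000000800404300000000020000000008206153000000000000200080000040f30000008000000001048c004001000000400400200000001660020000000004001000000012600200100000020230010000004002001000000000200000040a60020000000004001000000800401300100000020230000008000033000000000000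200000040040000000000000000000800000000200088cc0040020e1800c0040020010000000001000000000401300000000020000000000000033001000000000200100040a60000010000000000000800c0c60020010000004002001000800000100000000040010000000004013001000000202300000000040330d1800000000200000040a60000000000000002000800c00000200000080000000000008002043000000000400200000000000010010004004002089800800404300000000020000000008206153000000000000200100040000020010008004002000800c0040f30000008000143001048c000001000800000000200007cc004002000000400400000000001660020000000004001000000012600000100000020230010000004002001000000000200000040a60020000000000002000800c0c6000000800000400000000000040020000000004001000000800401300100000020230000000000000001000800000200100040040000d18000004000000800c00400200080000040020000000000002 26 67108863 0 64 64 = true)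

theorem c2 : PartP C 128 192 := Cfsg.Agent.SporadicRecognition.CertFastP.partP_fast C alC (by decide +kernel : Cfsg.Agent.SporadicRecognition.CertFastP.runPF C 13 8191 0x100000040000000010000166043000000000000100000001c6013000000000400100100000000000000000002023001000000007300000000000000000004004000000000000000000009cc0020000000e8c002000000000000003300000040040020010008166043000000000400200000040a60020000000000000000800000000200000080040000000008002000161800000000100000001c60130000000002000089800020603300000040000000010008004043000000800000100000000000000000000002000000000020600000000080000000000000004001000000000200000000000040000008000000002000000000000000100040040020010008166000000000072600000000040a6083000000000000000080000000f300000080000000000008002002000000062600200080000c60000000000004173001000000200000000040000020010000166043000000000000100100001c60000000000002000000064c0040000000000002000000064c206000000000000014300100002c6001000000000200016980000c6033000000000400000000080000010000c8c00000100000001660130008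00062600013187cc000000001000000000000080000c600000100040040020010000166043000000000000000000040a608300080080001b30e1800c00400000100040000000010000166043000000800000100000001c600000000000020000000000206033001000800400009980002c6001000800000000200007cc000002000000000000109980000040130010000002023001000800403300000080020000000000004153000000000400200000040040020000008004002000800c0000020000000000000000000000400100088cc000002000000000000200000000000020008000000000001000400400208980080040000010004004000000000016600200000000020000000008004033000000000000200000040000020000000004002000800c0000000c18008000000000000000204300000000042e300100080000010000004004000089800000404300000000000010010000000002000000000202300000082061530d1800000400200000040040000000008000002000800c0040f3 26 67108863 0x289a757000000000000000000000000000000000000000000000000000000000000000000000000000000 128 64 = true)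

theorem c3 : PartP C 192 256 := Cfsg.Agent.SporadicRecognition.CertFastP.partP_fast C alC (by decide +kernel : Cfsg.Agent.SporadicRecognition.CertFastP.runPF C 13 8191 0x1000086600200100040040020000000000002000800c0000f30010000000000000064c00200200080000040020000000000000000000400000000000081660430000000002000000000800400000000080000000000000004001000800000000000007cc000000000000000200000100082061531e98004000002000000016600000000000000010010000000013000000000000000000062680000000008000000000064c00200210180000000020000000000001000000000000200000040a60830000000004000000800000000000000000000000000008002002000800000000000100080a60000008000004000000000800008300000040000000000008004000161800000000100000001c60000000000002000211800c2060000000000000001000000000001300100000000020000000426001000000000400100100000000130010000002023001000800003300000000040020000000000001000800000000200007cc000002000000000400200000040a6083000000000000200080000c60730000000000000001000800215300000000000000000004000000000000000400200080000000000000000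00000000000000020000000000000001001000000401300000040000001318008166043000000800000100000000000130000000002023000064c1260000010008000002001000c2c6001000800000000000107cc0000000000000000001000000800400000000000020230010008004002001000000000000000040000020000008000002000800c0000020000000004000000000800203300000040040000f18008000000101800000000000000000000010000000000000001064c004001000000000000100100000000000000000002023000000000003300000000003830008000000000000000000000100000000040000010004004000001000800404300000000040000008000004000000000400000000100080040020010000000001000000000400200000000020000e9800000400000080000001b300007cc00000000000080000021e180000020000000c8c00000100100000040000d180000000000000004004083000000400400200100081660020000008000002000000400000200000000020000000000004153 26 67108863 0 192 64 = true)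

theorem c4 : PartP C 256 320 := Cfsg.Agent.SporadicRecognition.CertFastP.partP_fast C alC (by decide +kernel : Cfsg.Agent.SporadicRecognition.CertFastP.runPF C 13 8191 0x86600000100040040000000000000002000800c0000f30000000000000000064c00200200080000000020000000000002000000000200000100000000000d1800000000000009cc004001000000000000000000040a608300000004a6000000800000000200000000000000000008002002000800000400000000080a600000000000040000008000000000000000052600000000000020000000000002000001000c206000000000000000014180000c600100000000000010010000004000000000000202300000080a603300000000040000000000002000000030c004000000000000400100080000000020000000000000000000000000200080000c6073000000000000000100000021530000000000000000064c002000000800000400200107cc00000000000000020000010000206000000800000000200100000000000000000002000131864c1260330000000004002001000c2c6001000800000000200007cc0000000000000000001000000000400000000000020230010008004002001000000000200000040000000000000000000000800c00000200080000000000000000666343000000000000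000000040a6000000000000000000080002c6073000000000000000000000020000008008000000000000000000200000000000021318008002000000000000200000100000000f300000000020000e9800c00400200000004a6000001064c12600100000000000011e180084460130000000000002000800000000200000000040010e9800000400000100000020230e18000126000000800000000000007cc00000200000000000010000000000002000000000200000100006060000000000000000000800000000000000000040000000004486083000000062600000080000c600000000000020000000000126002000000400400000100000040430000008000001000000000001300100000020000e9864c0040000000004000143001048c0000020d1800000000200100040040f3001000000200000100080c6033000000000000000000000020020010000004002000048c0000010000000000001000000844600216180000002e300000040a6343000000000000000000040a600000080000000020000008000000 26 67108863 0x456000000000000000000000000000000000000000000000000000000012d8000000000000000000000000000000000000000000000000000000000000000000000000000000000000000000000000000000000000000000000000000 256 64 = true)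

theorem c5 : PartP C 320 384 := Cfsg.Agent.SporadicRecognition.CertFastP.partP_fast C alC (by decide +kernel : Cfsg.Agent.SporadicRecognition.CertFastP.runPF C 13 8191 0x1000800200000000000000000000000726000001000000400100000000000010e180000040730000000004023001000412600000000000000000e9800800200000000000000020000000004001000000000000200000040a6083000000000400200080000000000000000000000000000800200200000000000000000004004000001000000400000080000c600000000005260000010a8c0020000008000000000001000c004000000000400000000000000040430000000002000211800020603300000080040000000000004001000000000000100100001c600000000000020000000000004033000000000400014180000c6001000000000200000000080a6000000028c00400200009cc00200200000000000000000000004001000800000000200007cc004002000000000000000000040a60020000000000002000800c0c607300000005260000010008002000000800000400000000080a600000100000000000000004004000000000000000000080000000020010000004000000064c0020330008000004002001000000000000000000000010000000004013000800000000000000000040000000004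00000000000081660430000000002000131864c206000000000800400200100002c6001000800000000200107cc0000000000000000001001000000400200100000020230010008004002001000800400000100042c60830000008000000000800c2c600200000000000000000a8c0022b3000000000400000080080000000000000004000131800800203300000040040000f180001660430000008000000000000000000100000000020000e9800000400200000004a6000001064c1260010000008000000000800000000000000000000010000000004000000000000000000000040000000008008000002000048c004013000000000200000000000040020000000000403000800000400000000000000000000004486083000000062641300080000c600200000000020000e9864c0040000000004626143001048c000002000000000000000100040000f3000000000000200000000020000000000004001001000812600000000000020230000000000002000000000041300000040a600200080000000020000000000000 26 67108863 0 320 64 = true)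

theorem c6 : PartP C 384 448 := Cfsg.Agent.SporadicRecognition.CertFastP.partP_fast C alC (by decide +kernel : Cfsg.Agent.SporadicRecognition.CertFastP.runPF C 13 8191 0x100040004030000000004000000030c000002000000000201300088cc0000000f180080040020010e8c0020000000000206033000000000400200000040000830000004004000001000016600000080006c60020010000000000000000400400000100081660000000000000001000000000000200000000020000000000000000000000000000000000000000010000000000000000000000200000080004a600000000006a600200000000000000000004004000000000000000000080000000000000000000000000000000200000000040040000000008004043000000000000100000000000000000000002000000000800000000000040000020000000004002000000000000100000080000000000000002000000064c004002000000000200016980000c60000000000000000000000000400100000000020000010000004000000800800000200000087c60130d18000000001000000800047300000000020000e98000004000000000000040300080000040020000000000001000000000400000000006c641300100040a600200000000000000008008000000000000000000013180080020020000000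00200000000000040330d1800000400013180086660010000000004001000000020600000000000020230e9800c00400200000004a6000000064c12600100000000040010000000606002000000000041300000040000020000000004000000800c000073000000000000100000000000020000000000002000000400000000000000040000000004486083000000062600200080000c600000000000000010e180081c6000251800800202316980000000020000004000000001130c00404300000000020000e9864c0040000000004000143000048c00400200000000000000000004004000000000000000200000000020000010000000000000000000234300000000000010010dcc44600000000000000020000004000083000000000400000080000c6000000000000000200100040000730000000000000000800c000073000800000000000000000000020000004004000001000016604300100000000010000000000000000000000200000000000040000d1800800000000009cc00400116180000000010000000000473 26 67108863 0xbd800000000000000000000000000000000000000000000000000000000000000000000000000000000000000017180000000000000000000000000000000000000000000000000000000000000000000000000000000000000000000000000000000000000000000000000000000000000000000000000000000000000000000000000000000000000000000000000000000000000000000000000000000000000000000000000000000000000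 384 64 = true)

theorem c7 : PartP C 448 512 := Cfsg.Agent.SporadicRecognition.CertFastP.partP_fast C alC (by decide +kernel : Cfsg.Agent.SporadicRecognition.CertFastP.runPF C 13 8191 0x626000001000400000200000006260000008000004000000000062600000100040040020008000000000001000c00400200000040000020000000000002000000800200000000001260000008000000000000000000000000100000000010000000000000000000000000200080080a6000000800000000200000000000020000000000001001000000000000000000000000000004000083000000000400000080000000f300000000040020000004004000000000000000000080000000f30000004000000000000800000000000000000000000004000083000000000000100000007c600200000080020000000000004000001000000000200000040a60021e9948c000000000800c00000000000040000020010000000000000028c00200000000006a6002000000000000100000001c6013000000000000200100040a60000010000004000000800c0c60f300000000000000000004a26000000000000000100000087c60130010000002000000000800403300000000040020000004000002000000000000200080000000000000004000000000000016600000000086c60010000000000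000001000400000000000000040000000008000000000800000400000000000000000000004004083000000000000000080000040000000004000000000000800000000000040000000010008004000000000000000000080000c600200000000000000010000002000001168c002000001000c000000000800000000000100000000000010000000001000000000000000100000020000000000206002000000000400200000040a60830000000004000000800c0c60f30000004000000000000016604300000040040000010008004002000000800000000080000000f300000000020020000dcc0000000000000000000000000400400200000000020000000008004000000000000400000100040a60830010000000000000800c0c60000010000004000000000466600000000000000010998000000002000000852600200080000043b300080000000000e9800000400000080000000020010000000000000000000400100100007c601300100000020230010000206033000000000000000100040a60830010000000000000800c0c60f3 26 67108863 0 448 64 = true)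

theorem c8 : PartP C 512 576 := Cfsg.Agent.SporadicRecognition.CertFastP.partP_fast C alC (by decide +kernel : Cfsg.Agent.SporadicRecognition.CertFastP.runPF C 13 8191 0x4004002000800000400000000000000000000000002000000064c004000000000000200000000001260000000004000000000000016604300000040000000000000000000000000800000000000000000010000008004000000800000000000000005260000000000004001000000000000100000000040130000000000000000000400408300000040000000000000004043000830c0000020e180004464730000000002000000064c00400000080006c600200000000040130000008000002000800800408300000000000010e180000c600000000006260010998000000002000000000200000100000c600000080000000020e18000004000251828c00200000000000040020008000000000000000000000000100000040010000000000033000000000202300100000c60f3000000000000000080000c600200000040000000000000004002000000000000000000040040000000008000000000800c0a6002000000000200000000000040000000004000000000000000404300000080000000000000000001000030c002000000000020600200000008860000008000004002000000000000000100040c63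f30000000626000000800c0040001018000000001000000800400200000000000010e180001c6000000000000000000080000040f31e980040000020000000166000000800000000000000000000020000000002000131864c00400200000006c600200100041c60130000000000000000800c00000000080080001b300000080000000000000004001000120c000002000000000202300000000000000000000002000001000c2c6000000000000000000000008c6001000000000400100000001c6013000000000202300100000000000000000002000000064c0043f300000000000000000004004000000000000000000080000040f300080080001b300000001c600000100000040010000dcc0000330000000002023000000000000200000084a60000000004000002000000000000000000000020020000004000002000000000004300080000001b30e180006660000000004004000000000000000000080086c600200100002c60000010004000002001000816600000000080020000000000000000 26 67108863 0x496000000000000000000000000000000000000000000000000000000000000000000000000000000000000000000000000000000000000000000000 512 64 = true)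

theorem c9 : PartP C 576 640 := Cfsg.Agent.SporadicRecognition.CertFastP.partP_fast C alC (by decide +kernel : Cfsg.Agent.SporadicRecognition.CertFastP.runPF C 13 8191 0x1001000000000000000000020230000dcc00000200000004a6000211800c00000100000080000000000000002000000000000200000100000000f300000000000020000000002000000000000000000000089e6001000000800000100000001c601316180000000010000000000013000000000200000000000042b3000000000041300000040040020000000004000000800c0040f300000000000011e18000004002000000000202300000000000130000000000000000800000000000080000001b30000000004000000000062600000100000c6001000800088600000009cc004000101800000400100000000000330c1800000202300100000c60f3161830c00000200000000020130c180000000020000000002000000000000000100000001c601300000040000021318008166000000000000000100100001c60000000000002023000064c0040000000000002000001000000000000000004a6000001000400000200100000000000000004004083000800800000200007cc0000000000000626000001000400400200080006c6002001000c00400000100040004e3001130c00000000000000000010000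9cc0040000000004000000131800816600200000000020000000000206000001000000000100000080000130000004000002001000c0c6002000000400400000000000043f300000040040020f180080000f3000000000200000100000c6000000000000200000100000c60f3001000000402300007cc000001000000000000000000040043b30000000886000000800000400000000000000010000000004000000000800202300000001664730000000000000000800000400000100000000010000000000000000000000000200000041c600000000000040010000000000000000000000202300000007c60020000000000001001120c0c6002000000000000000000000020020d18000002000001000c0000000000000002000000064c0040020000000000000000000400400010180000040010000000000033000000000202300100000000f300000000000000000004004000000000000200000100000c6000000000000400121180000000000000000002023000064c00400000000000020000000000000000 26 67108863 0x134c000000000000000000000000000000000000000000000000000000000000000000000000000000000000000000000000000000000000000000000000000000000000000000000000000000000000000000000000000000000000000000000000000000000000000000000000000000000000000000000000000000000000000000000000000000000000000000000000000000000000000000000000000000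 576 64 = true)

theorem c10 : PartP C 640 704 := Cfsg.Agent.SporadicRecognition.CertFastP.partP_fast C alC (by decide +kernel : Cfsg.Agent.SporadicRecognition.CertFastP.runPF C 13 8191 0x88600000080000040330000000002000001000012600000080000000020000000000000000000000200000100000c60000000000000000000000400000000000000000000000000000001000800000000000107cc000000000000000400200000040a600000080000000000000000004002001000000000000000040000020000000626000000800000000000000000000010000008004013000000000200000100082060330008000000002000000000000200000000020000010000206000000000000000100000001c601300000000020000000000206033161800000000200080080a60020000000000000000000000200200080000000000000000000002000000000000000000040a6000000000000000100000000040130000000002023000000000003300100000000010000000000000000000000000000000040a600000100000000010000000004002000000000000000000040a6000000000000000000080000c600000000000000010000008004000000000000400000080000040000d180000020000000008000002000000000000200000040000830000008000000000000000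20430000000000000000000400000000000000000000000000002000000000400000000000000000000000000004000001000400407300000000000010010000000000000028c00200000000000040020010000a0600200007cc00000100000000000010000008004013000000000400000000040000000000000000000000800c0c600000080006260001318008000000000000000000000000040000830000004000002000000800000000000000004e3000800000007300100048661b3001000000000200000000004e30008000000002000000000200000000002060000000000866000000800000000000000000000000000000002002000030c00200000000002060021018008002002000064c004002000000000000000080000040020008000000000000000000000200100000000010000000000000000000000000000000040040020010000000000000000000200000000000000010e1800000001300000040000020000008004002000000000000109980000040020000000000000000000000200000000000000010000000004002 26 67108863 0x150c00000000000000000000000000000000000000000000000000000000000000000000000000000000000000000000005b30000000000000000000000000000000000000000000000000000000000000000000000000000000000000000000000000000000000000000000000000000000000000000000000000000000000000000000000000000000000000000000000000000000000000000000000000000000000000000000000000000000000000000000000000000000000000000000000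 640 64 = true)

theorem c11 : PartP C 704 768 := Cfsg.Agent.SporadicRecognition.CertFastP.partP_fast C alC (by decide +kernel : Cfsg.Agent.SporadicRecognition.CertFastP.runPF C 13 8191 0x2000000000000400000000040040000f18000000000000000000200000000081260000000c8c0000010000000000000000164c00000000000040000000010004000000000000016600000088cc00000000100000000000000000002000089800000400000100000001430e18004000002000000400000000000000040000000000002000000000812600200000040000000000000166002000000000200016980080000000008000000000000000000000200000000020000000008004000000000000200000100000000f310180000040230000000000001000000000000000000040040000000000000001001000c00400000000000020230000000126033000000000000100100000000020000000002000000064c004000000148c000002000800000000000000040000020000000000043000800000000000007cc000083000000000000000080000c6073000800000000200007cc000000000000000200008980000040000000000002000000000000000000100000000000000004000000000000000200000100002060000000000000001000000042600200000040000000f180001660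0000100080000000008000000000000828c00000000000000040020000000000000000800000400000000000000010000000000002000000000200000000081260020010000002000000064c0040000000e8c002000000000020600000000040040000010000000000000800000400200000000000020000004000000000000000000200000000000010e18000000013000000000000100009cc1c600000000000040000008000000000000000000000000000040000020000000004413000800000000200000040000000000000166043000000800000000000000000010000008000000000000400400000000000000000010000000001000800000000000000080a600200080000000000000000666002000000000400000000040a608300080000001b30e187cc1c6002000000000400100000007c60130000000002023001064c00400000080000001b3001000c0000020000000000001000000000001300000000000010898000004000000000000000000000040040000000000526002000800000400000000040000000000000004043 26 67108863 0 704 64 = true)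

theorem c12 : PartP C 768 832 := Cfsg.Agent.SporadicRecognition.CertFastP.partP_fast C alC (by decide +kernel : Cfsg.Agent.SporadicRecognition.CertFastP.runPF C 13 8191 0x100006c600200007cc00000100000080000010000000000000000000400000000000000000020000004000000000000000000200000000004030010004a260000d18000000000000800c000002000000000000000000080a600100000000000000000000004001000000000000100009cc0040830000000000000000000000000110188cc00000000000040040020000000002000000064c00400010180000000000000004004002000000000200000100000c600000100000004030000004a26000000000000400000100040000f30000000004001000000000400000000000020230010000000000000000000000000100000020f30000000000000000000000400100080000000020e180007c63430d1800000000000000080a60010000000000413000800000000200000000000020e18000002000000000000400000000040000000000000004413000800c0c6002000000000200000100000c60001018000000000000000000400100000000000000000004000000000030c000000000000000400100000000040230000000002000000968c00000000007cc000000000800000000000007cc000083000000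06260000008000004000000000000000100000001a6002000000000200000009cc0040000000000000001099800000000200000000044030008000004533001000000000100000000000000000000002000000048c004002000000000000000080000040000000004000000000000000000000000000020000010000206002251800000000000080000000f300000040000000000000000002000000000000000000040a60830000000002000000000000400000000040000000000000000000000000000200000100000000001e980040004030000000166000000800800000013180080000000000000002000000064c206000000800000040300000000040000000000002000000000000000200000000000010000a8c004000000000000000100100007c6002161800000202300000000000020c1800800000000080080a6000000000400014300000000000020000004000000000000000457300000040000000000000166000000000000000000000044860000000e8c004000000000000200000000040000000000000000002 26 67108863 0x15980000000000000000000 768 64 = true)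

theorem c13 : PartP C 832 854 := Cfsg.Agent.SporadicRecognition.CertFastP.partP_fast C alC (by decide +kernel : Cfsg.Agent.SporadicRecognition.CertFastP.runPF C 13 8191 0x100000000000000000000000000000800000000000080000000020e1800c00000000000006260000008000004000000000000000000080080a6000000000000000000000080a6001000000000400000080000000000000000000000131800800200000000000020000e980000040000000000002000000064c0040000008000000002000000000000000000000020000000000206000000830c00000000000000000020010004000000000000000000000100000001b3000000000000100000000040020008000004013000800000000000000001a60020000000626000000800000000000000000000010000000000000000000800000000000040000000010008004001000000012601300000000020230000000000002 26 67108863 0x5860000000000000000000000000000000000000000000000000000000154c0000000000000000000000158c000000000000000000000000000000000000000000000 832 22 = true)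

theorem all : PartP C 0 854 := (((((((((((((c0).append C c1).append C c2).append C c3).append C c4).append C c5).append C c6).append C c7).append C c8).append C c9).append C c10).append C c11).append C c12).append C c13

end Cfsg.Agent.SuzType.PresZbChk0
end

-- part: SuzType/PresZb
section
set_option autoImplicit false
set_option maxRecDepth 100000

namespace Cfsg.Agent.SuzType.PresZb

open Cfsg.Agent.SporadicRecognition.CosetCert Cfsg.Agent.Lib.CosetPartial Cfsg.Agent.SuzType.PresZbData

theorem part : PartP C 0 C.N := Cfsg.Agent.SuzType.PresZbChk0.all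

/-- every target word lies in `H` as soon as the relators hold and the subgroup words lie in `H` -/
theorem mem {G : Type*} [Group G] (H : Subgroup G) (g : Nat → G)
    (hinv : ∀ x, x < 8 → g x * g (C.inv x) = 1)
    (hrel : ∀ r ∈ rels, ev g r = 1) (hsub : ∀ s ∈ subw, ev g s ∈ H) :
    ∀ w ∈ targets, ev g w ∈ H :=
  mem_of_checks C H g rels subw targets
    (Cfsg.Agent.SporadicRecognition.HypFast.and_fast (by decide +kernel)) hinv hrel hsub part (by decide +kernel)

theorem eq_one {G : Type*} [Group G] (g : Nat → G)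
    (hinv : ∀ x, x < 8 → g x * g (C.inv x) = 1)
    (hrel : ∀ r ∈ rels, ev g r = 1) : ∀ w ∈ targets, ev g w = 1 :=
  fun w hw => Subgroup.mem_bot.mp (mem ⊥ g hinv hrel (by simp [subw]) w hw)

end Cfsg.Agent.SuzType.PresZb
end

-- part: SuzType/PresZeData
section
set_option autoImplicit false
set_option maxRecDepth 100000

namespace Cfsg.Agent.SuzType.PresZeData

open Cfsg.Agent.SporadicRecognition.CosetCert

noncomputable def t0 : Tr := beta% (fun (N : Nat → Tr → Tr → Tr) (L : Nat → Tr) => (N 192 (N 96 (N 48 (N 16 (L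
  0xfffffc0740f0e11a4080110dd1a0ffffff01e04006c0efffffc368672fffffffffff01c03c0640d0d71947fffff017033fffff01a03834c643fffffc0600d01502c344630cf188bffffffffffc0580c01302bfffff1fffffc044090ca1800500bfffffcffffff01202803c080c817c3105e2fffffffffff010024034070c11707fffff00b0182f85b00e0202ec5a3fffffc030070090142e459fffffcbffffffffffc028060070102d8571fffffc014030b3158020050b0154ffffff00601000c020ae153fffff2fffffc2b05300400c00401fffffc7fffff04a0982a85200200bffffff)
  (N 32 (L
  0xfffffffffff0400840f41ffffffc7fffff03b07842c7b03e083fffff3fffffc0f01f03907624847fffffcbffffffffffc0e81e037070420791fffffc0d41bfffffc0e01d1051e0ffffff0360700cc1a1031dffffff2fffffffffff03406c0c419fffffc7fffff02f0603f47503206bfffff3fffffc0c01902d05c3ec74fffffcbffffffffffc0b81802b0583e0721fffffc0a4150f51c40b0170f11c0ffffff02a05809c140ef1bc3b46e2fffffffffff02805409413fffffc7fffff0230483a46c026053fffff3fffffc0901302104439c6bfffffcbffffffffffc0881201f0403946a1)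
  (L
  0xfffffc1cc3905d0bc18031132228bfffff05b0b8178301302241ec3b38880941702f12c2201642d0770e87fffff12921c15c2c05a0bbfffff2fffffc1542b0580b449c86fffffcffffff0560b3fffff0530a8494851fffffc484840510a41502b11d20cbfffff04f0a01482afffffc468823fffffc14029fffffc13427fffffc7ffffffffffc12c2604e0a3fffff2fffffc1240104c09c4587ffffffcffffff0470904487e88a0b7fffff3fffffc1202504508fffffffffffcbffffffffffc1182404308bfffff1fffffc10421fffffc11023fffffcffffff0420880fc2010f1f3fffff2)))
  (N 64 (L
  0xfffffc220410850fc51092fffffcbffffffffffc218400830fbfffff1fffffc2043d1402402103ffffffcffffff0820f81fc3c13e23ffffff2fffffffffff0800f41f43bfffffc7fffff0790e84cc8a07e0f01f02f3fffffc1e83b0750e7fffff0780b8bfffff0740c01d83a0710e04b4881fffffc1bc37fffffc1c839fffffcffffff0700e01ac3606e0cbfffff2fffffffffff06c0dc1a435fffffc7ffffffffffc19c3406a0dbfffff289007c248460680d419433fffffc62382013923418c320660d3fffff288c084184310640cc1b437fffffcffffff0620cbfffff05f0c04d88b1)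
  (N 80 (L
  0xfffffffffff0a81442944ffffffc7fffff0a31385b4a20a6143fffff3fffffc2904f0a1137ffffffffffcbfffff86299c2884e09f133fffff1fffffc2744b1692842804dfffffcffffff09e13026c4afffffffffff2fffffffffff09c12c2644916627c7fffff0971205889e09a1285789d3fffffc2604909511ffffff15b270bfffff15826c2584809311bfffff189107824434fffffc25047fffffce2800114d25423c44155264540962fffffc2344309011454c98fffffcffffff08e11022c42fffffffffff2fffffc53c9608c10c2244114c2547fffff0871005249408a108518933)
  (L
  0xfffffffffff0c9028660b3fffffcbfffff1942c8630ae0c7027fffff1fffffffffff0c6170644b00c30243fffff0c2023fffff1862b0330603fffffc32c600c517863caf0c00203ffffffffffc2f40718b2bbfffff2ffffffffffffffffc624ad0ba01c3fffff1852b05fca90b801860cab1fffffc2dc050bc1685e4a7fffffcffffff0bf16ffffff1812a82d4050fffffffffff0b20105f8a9fffffcbffffffffffffffff17c2a02bc040fffffc5e0a71712902b403fffffc7fffff0ab0082c4551732942d056389f113fffff0a90045c0a4fffffcbfffff85e26029c50fffffffffff2))))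
  (N 144 (N 112 (L
  0xffffffffffffffffc70cc30f00583fffff1c03086e4bf0ee0546f8c11fffffc3c870fffffc6f0c00ec0543fffff0eb0503cc701b52f83d8713fffffffffff0e804c6e0bffffffcbfffff1b42f86b4bb0e60486c8bd1fffffc3a86cfffffc6c0bc0e40443ffffffffffc380101ac2effffff2ffffffffffffffffc6a8ba0dc0403fffff0de1a3fffff1a82e43640f0fffffc3600e0df1a0684b60e21a4ffffff0e31a436c671a62e03580e0ffffffffffffffffc690b70d20343fffff1a02d8664b30d0030678b51fffffc35064fffffc670b40ce0303fffff0cd02c354641952cbfffff3)
  (N 128 (L
  0xfffffc46c82123213fffff1170a03fffff1742947acd11150987a4d01fffffffffff11109479ccf1141f4a21c3911008ffffff1e433844c7e388b0dc78cce1de330438211e1334623c35fffffc4281f1dd333fffff2fffffc4241dfffffc758c910d1ecffffff10c1effffff1db32c41c1d0ffffffffffffffffc764ca1040703fffff1d5324740c710206c74cc81fffffc4041a1061e0730c6fffffcfffffffffffc3f0191cf31c400732fffffc72cc61c63103e818fffffc7fffff0f905ffffff1c13083fc753fffffc3f875fffffc724c50f705c3ffffffffffc3d0161c5313fffff2)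
  (L
  0xfffffffffff13f0f8858e1fffffcbfffff212380828dc13d0f4840df1fffffc50490fffffffffff13c0f03fffff1380cffffff15926ffffff3fffffffffff1370c4818db13b234bffffffffffc4e88d20d3744d4310ffffffffffffffffc824dc1310c03fffff200364814db12f0bc80cda18861f84d08a12b0b87f0d812e0e4bfffff1280b7fffff1ff367fffff3fffffc7d4d51fb3604982cfffffc7ffffffffffc4a8871f83584902b0fffffc4802afffffc7d0d5fffffcfffffffffffffffff1f23504702a0fffffffffff11e20c7c0d31190a43fffff11f20c460281ec344488842)))
  (N 160 (L
  0xfffffffffff23d3c459c4b2413cc7fffff16a287fffff23f3c85944a0fffffffffff1611248f0f1fffffcbffffffffffffffff2383c0574490fffffc57c9dfffffc8d8ef15a1203fffff15711c5809dfffffc58c9e3fffffc5909e15c271e4e8715611c3ffffffffffc8c4ed1541148bcec1fffffc8b0ebfffffc548442293a47fffff2273a0888e515110ffffff1fffffc53842fffffc874e3fffffcfffffffffffffffff22439852c420fffffffffff148104884e5fffffcbffffffffffffffff21f390514410fffffc870e321738450c4021a3887fffff1420fc51c93213380528943)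
  (N 176 (L
  0xfffffffffff8689ec6405e27a42c7fffff2784289d90918e1709d1081fffffc9c50718d17c6285b26d4187ffffffffffc9a50518816bfffff1fffffc61059fffffc61c5d26540cffffff26440c970ff262408608590ffffffffffffffffc6005725f4007ffffffffffffffff17d15896cff1fffffffffff2583f85ec55fffffc7fffff17715094cfc17a163fffff3fffffffffff24a3e3fffff1761503fffff1751fffffff17214c934f9189e263ffffffffffc5bc522493e07ffffffffffc918f616e147fffff1fffffe1726816c13c914f685b99cbfffff16b27c5a04cfffffffffff2)
  (L
  0xffffffffffffffffc6ec6e2cc49c7fffff2c94986e86f1b71b3fffff1fffffc6cc6b2c54946d86d2c0490ffffff2bf490ac91f2bd48c6c46b0fffffcaed22fffffc6bc6a2b94847fffff2b54806b86b1ab1a4ac51f1fffffffffff2ad4786a468fffffc7ffffffffffcaa51c1a719ca9d1b1ffffffffffffffffc694652a34607fffff2a045ca71161a3190a69151fffffc67c632964506886629144cffffff29044ca0d0e28e448674630fffffca3111fffffc66c6228a4407fffff28643c66863197180a090e1fffffc64c5f27d43465861fffffcfffffffffffc9b906fffffc6485f0)))))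
  (N 288 (N 240 (N 208 (L
  0xfffffc938f9314504c49401e81fc3ffffffffffffffff1e61f8c413f18890e07887cfffffc7947d30b4f8ffffff30a4f8c093b3084f47807c088d0d8c113c1df1f07707b3014ec7fffff2ff4ebfffff1da1e4bf5391fffffffffff2f94e076078fffffc7fffff1d41dffffff1d71e8bcd363fffffcbc9362e94ccbc1351d21dc3fffff2ec4d0744771ce1d4ba1331fffffc728742e44c873476fffffcfffffffffffffffff1c81c8b812f1fffffffffff1c71d0710712de4b87fffff2db4b4b5d2c1c21c0b552b1fffffc6fc6ffffffffffff2d24a8ffffff2d14abfffff2cf4a46f46f0)
  (N 224 (L
  0xfffffc8448f36156c8509135d568ffffff35c568d3d54fffffc83c8f0fffffcd6959fffffc8388efffffc7fffff35755c8e4f020c22cd55561fffffcd495520b23c8208a34e5507ffffffffffc81089207230d25532fffffffffff34854cd19522022243fffff201224d09511fe21ffffff188533ccf9501fa2187f488fffffcbfffff334533fffff87ea847e4860fffffffffff33c53c7dc8533a5387fffff1f6218cdd4d1f3210ccd4c1fffffccbd4b32b5287c4833295247fffff326523fffff1ef208c8d461fffffcc8545fffffc7b88031e50c7fffff31a5087a87f1ed204c55412)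
  (L
  0xfffffce8d7023a3748dc9d39f5bc7ffffffffffce716d235270e696c1fffffc8d0993975acdf9633945a8fffffffffffc8c0992333a8e41692fffffce4d6a38f5a4e356822e26421685122b260e2967fffffffffff3fffffffffff22a2608c8ed388598bffffffffffce1d663855948a0980fffffc898973815908b4ebfffffcfffffffffffcde161fffffc894970fffffcdf563fffffc88c9537b5887ffffffffffffffff220250ddd611fffffffffff3735808789337157c7fffff21b24bffffffffffcdb55e3fffffcdb15efffffcda95d2192483fffff36657086092215243fffff1)))
  (N 256 (L
  0xfffffcf1d80883bccf117f25e2a83ffffffffffc974ab3c25f8968a90fffffcefd7d2572a3ffffffffffcbffffffffffffffff3bc5ec958a80fffffc954f825229c9a905fffffcbffffffffffffffff25129bfffff1fffffcc5d41250294964fefffffcbfffff24f340c6d423b95e4930a5089d3a4950fc24b298edd782482903ffffffffffcec9753b45d891ca30fffffe17d61fffffc910a23b15d47fffff853b4ffffff243287fffff1fffffc908a0fffffe192673af5d0ffffff3ae5d0e9d713ac5cc900a00fffffe142fbfffffc8f89f3aa5c87fffff791a2bfffff23b278e99711)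
  (N 272 (L
  0xffffffffffffffffcfa18e2892d03fffff2852cca4d1328842bfffff3fffffca5d142842d4f998d2812cc3fffff27f4189f0b229d45bfffff2fffffffffff3e46309ecb1fffffc7ffffffffffffffff3e06249e4b00fffffc9dcaf3dd620a1d0ffffffcfffffffffffc9d4af8679ecf69872fffffffffff3d961cf55862732bc3fffff2702bbffffffffffca010d3fffffc9f90d26f2c4f4d8526c2b83fffff3d06109a0ad26b3f3fffff2fffffcf3983fffffffffff2672b43fffff2632affffff3cb604998ac3fffffdeaa3f7a98f4984abfffffc7fffff2602abfffff27241cf21803)
  (L
  0xfffffcad0bb2c2490add1a2c6494fffffffffffcaccbd423694ac0bb0fffffd07da42ac2e8abd14fffffcbfffff41d68fffffffffffcaacba0fffffd065a12a82e7fffff41567cbffffffffffd0519f412678a98b90fffffca94b840f674ad92040866cffffff40b670a90b82aa4710119a2fffffd01d9b403668ffd992a22e03fffff29f2dcfe998fffffffffff3fffffffffff29b2dca790d3f7658bffffffffffcfd9963f4654a64b70fffffca610e2952d8ab91efffffcbfffff28f2d4a510ffffffca48b63fffffcfc593fffffca34b53ee6447fffff28b2d0fad902a145ffffff3))))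
  (N 336 (N 304 (L
  0xfffffd14db72e1317fffff44c6d4bfffff44f6d912db54476d0b7cc50fffffcb9532fffffd115b32dd3103fffff2da30fffffffffffd10db23fffffffffff2d630cb652543f6c4bfffff4426c90f9b143c6c0b50c30fffffcb40c1fffffd0e9affffffcffffff4386bbfffff2ce307fffff1fffffcb34c0fffffcb712d4346b0ffffff4336b3fffff4316acb2cc00fffffcb20bf2d34abffffffffffcfffffffffffcb10be2d84b0b1d202fffffcaf8bd2c34810bdaa2c12f8ffffff42d6a7fffff2bc2f7fffff1fffffcae8bc42a6a0b2926fffffcfffffffffffffffff425698ae0bc0)
  (N 320 (L
  0xfffffffffff479720c44d0fffffc7ffffffffffe208d747771cc3ccf0fffffcc24cd30e4f3fffff30c338ffffff4747151c9c43073351c1c31fffffcc0ccc30d4f8c193afffffcfffffffffffffffff46e708c00cc0fffffcbf8cb46b704c153cfffffcfffffffffffffffff4676fcbf0cb0fffffd18dbe2f8328bed32fffffcbffffffffffffffff4606f0bdcca0fffffcbc4c82f64d3fffff2f4324ffffff45d6ea1f6012ef323fffff1fffffcbacc72f54d8bb931fffffcfffffffffffcba8c8fffffcb9cc70fffffcb992e2e3318be938fffffcbfffff2e231515db82ed4d1141b63)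
  (L
  0xfffffccf4d8fffffcd4d55fffffcffffff499750cecd6343547fffff2ffffffffffffffffd255d23393583ffffffffffccd8d5fffffcd01502fffffccd4d733f54124dd13323543fffff32e35123dd033150bfffff3fffffffffff32a350cb54748c73cbffffffffffd22dcf489738ca0d40fffffcc94d3486737ffffffffffcfffffffffffcc90d332c529211cc2fffffffffff483733fffff32234c3fffff320349201cb327523fffff3fffffffffff31f348ce14d47d728bffffffffffd1f1cafffffcc74d20fffffcc64d131c3e4cc14bfffffcffffff3183e8c4cd0fffffcc58d12)))
  (N 352 (L
  0xfffffd2f9e3372390dd55b4ba784bffffffffffd2e5e14b7780dc0e40fffffcdace236f5712d5dffffffcffffff4b377bfffff36938bfffff1fffffcd94e136e578da159fffffcffffff364550d80e0374583fffff2fffffcd6cdffffffd2c1dd35e380ffffff3593792b5dc367573fffff3ffffffffffffffffd275d53583783fffff3563752a1dafffffffffff3fffffffffff3a05bd291d93543743fffff351370d7d5afffffcd895b3fffffcd8d5b35037d289d834d3703fffff34c544d1cdafffffcd28db2fffffffffff49f758d14da49c7547fffff34b54cd04d934453ffffff2)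
  (N 368 (L
  0xfffffce88f0fffffffffff4aa768ffffff4a9768e85564ed7d4e78f00fffffce74effffffce91704e77ccffffff4ea7d0e6cef798823fffff2fffffd399f3fffffffffff3993bc3ffffffffffce58ee4e47cbfffff2fffffce48ecfffffd389f13953b8ffffff3985ace38ecfffffce44ed2fffffd37def4dd7b8e30ec4db7b4616050fffffce24eb4d77b3fffff2fffffce2d673863a5355ebfffffcbffffffffffd34dea3843a7fffff185d3d8e0d613803a1345e9fffffcbfffff37c399335e837f3b9329e73fffffd325e74c7799311e537a3983fffff382590de4e74c2790dd8e50)
  (L
  0xfffffcf1900894893fffff3c9404ffffff513816205ba3c3403fffff1fffffffffff7a6accf04ff5108107fffff3be3fbfffff50c80ffffff3fffffcef4fd3c05f7ffffffffffcffffff509807fffff3bb3f4f157f1fffffffffff3ba3ed3f9fcfffffcbffffffffffd411ff3b83e7fffff189c595401fd4fd7f0ed8f8fffffc618ce73b53dfffffffffffffffff3fffffd3e9fa86a624eccf7fffffc7ffffffffffffffff4f87e4ec0f60fffffceb4f378da29e2987fffffcffffff785835e0a963ab3cffffff1fffffffffff4f67e13cdf73a93c83ffffffffffcea0f34ef7d8e94f10)))))))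
  Tr.N Tr.L
noncomputable def t1 : Tr := beta% (fun (N : Nat → Tr → Tr → Tr) (L : Nat → Tr) => (N 576 (N 480 (N 432 (N 400
  (L
  0xfffffffffff3ea4454fe16fffffcbfffff3ec640fa5107609bffffff2fffffffffff53d854f9d1053a8507fffff53684d4ce123e54394be111fffffd4b2103e34314760afffffcbffffffffffffffff529838f890c0fffffffffff3e142fffffffffffcbffffffffffe1ad763df42d4a20e1fffffffffff3dc4294960dfffffcbfffff3de620f61087895d0f6d092fffffffffff523830f51083d76087fffff51f82d4720a3d241946a091fffffcf3d05fffffd405fdfffffcffffff3cd410f4584fffffffffff3fffffd46208fffffcf31043d66187fffff7adad7fffff3ca40ffffff1)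
  (N 416 (L
  0xfffffd05d1b41a68612afefffffcfffffffffffd04d1b5608910591c2fffffd57a238968190451bfffffc7ffffffffffd0391a55a88bfffff2fffffd0291940d66fffffffffffcffffff4064610319c5578810251a3fffffd0419d402463fffff405464bfffff55487bfffff3fe461005951fffffcff1963f945d5461dfffffcbfffff3f845bfffff52082cff5983fffffcfed983f545553e1cfffffcbffffffffffd5361b3f3455001991fffffd52a19526834fc913fffffc7fffff3f044bfffff54986551a183fffffffffff3ef4494d21254285cbfffff5458615061753b850fb5120)
  (L
  0xfffffd5ee3081f9850ed2b4486d07fffff5788be1cecf4394aa1d6d01fffffd0dd2986f7ed5de2ffffffcfffffffffffffffff5728b10d9290fffffd0c927fffffffffff4354a0ffffff5748b7fffff43049d5c62c1fffffde5ac155b8890b924fffffc7fffff42c48fffffffffffffffff3fffffffffff42948a1dacffffffcbfffff42b6a10a121fffffffffff2fffffffffff56d8a5091214276887ffffffffffde2ec242247d5a6281fffffd0791e42168d4de13fffffcffffff41c475081a456789ffffff3fffffd59626fffffd06d1d4266987fffff418473fffff562897fffff3)))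
  (N 448 (L
  0xfffffd1b1c14694e7ffffffffffcbffffffffffd6723f4664e7fffff1fffffd189384656f561a34fffffcffffff4614dd191be59a8fbfffff3fffffd6623dfffffd17d374686fc7fffff5958ed6423945e4dbfffff1fffffd171358805fd6523bfffffcfffffffffffffffff45b4ce1dedf1fffffffffff4564c563e394596dcbfffff4524c1155b658d8e1161b83fffffd1392f4546dffffff4514c4ffffff45a6e11292ffffffd135302fffffe072605898d51192f4496c07fffff5858d3fffff4444b9606331fffffd1052bfffffd5fe32fffffcfffffffffffd0f52b57d8c51012c2)
  (N 464 (L
  0xfffffd245cf48e52d415fffffffcbfffff490741229495c69452354a2fffffffffff5c4941221494967487ffffffffffd215485c193ffffff2fffffd21dcd4825196fe4efffffcbffffffffffd1fd455bd937fffff2fffffd205cb47b50ffffff47e510bfffff50d80d6e64a47a507fffff1fffffffffff4785016e24afffffcbffffffffffd6da494764fd6ce481fffffd6c2465a09051d53efffffc7fffff4734f7fffff5af9196aa443fffffd6b2454714f569e43fffffcbfffff5a9913ffffffffffd1bd3d0fffffffffff5a690d1b53b5a39087ffffffffffd1a93a59f907fffff2)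
  (L
  0xfffffd7c2615ee9812d95f4c57947fffff5e99797865c4b45797ae5f1fffffd2c95dfffffd7a25efffffcfffffffffffffffff4af5697925d1fffffffffff4ac5657825cfffffcbfffff4ae7712ad58fffffffffff2fffffffffff4a755d7765afffffcbffffffffffffffff4a3559299d81fffffd76258fffffd285544a57647fffff5cf955756574a054d3c1f61fffffffffff49e549752575d2958bffffffffffd74656fffffd26d520fffffd2614ffffffd73a55fffffcffffff497539269d4fffffffffff3fffffd72e53fffffd2514efffffc7fffff87ba912c5dd492531722521))))
  (N 528 (N 496 (L
  0xfffffffffff6159b93816961d9c47fffff4de5a3fffff61a9c18466d3fffffd85e6f4dc5a18526efffffcbfffff6109b7fffff5ec97d36968085713d8326c4d97a535967fffffc7ffffffffffd81e694d45998266a1fffffffffff4d259581a69fffffca164a26029a1361ec4d0591802671fffffd33de64cc58d7f266fffffcbfffff4c858bfffff815bc132d633fffffd339e84c658a092edfffffcbfffff8188d6076304c358bfffff1fffffffffff8718bd305615f79907fffff4bd581301e25d9963fffff3fffffd2f15f4bf78d7d663fffffcfffffffffffd2e15f5f29892ed602)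
  (N 512 (L
  0xfffffd41d7affffffffffffffffcffffff63ea0140d79506743fffff2ffffffffffffffffd446045025e43fffff4ff5e18ea7efffffffffff389b7a98e27d4fc5e3ffffffffffcbfffff6369f21b9ae4fb5dffffff1fffffd3e576fffffd8d67cfffffce1a58afffffffffff4f75d7fffff1fffffe123004f55ca10a98fffffcbffffffffffd8c67a4f25cbfffff1fffffffffff62d9e53b9714f175c7ffffffffffd8a2774ec5bd3d1f71fffffd3a56dfffffde7183fffffcffffff4e55b13adf4fffffd3a16e3fffffd892755fd99938d6b6229d07fffff61b9c3fffff4e15a9882731)
  (L
  0xfffffd4ad8cfffffd9868dfffffcffffff52a62d4b610fffffffffff3fffffd97a8bfffffffffff5276243fffff7865cffffff524623fffff1fffffd94a875226199728afffffcbfffff51e617fffff52165d956883fffffd9628951b617ffffffffffcbfffff654a23ffffffffffd465850fffffd45d82651a1de5d6dfffffcfffffffffffdebab6530845459810fffffd93a8589567945580fffffc7fffff5125fffffff64da17fffff3fffffde96b4fffffffffff50f5f83fffff50e7259268450b5f7fffff1fffffd91282647a0d4297cfffffc7fffff5085ee1f135643a09452053)))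
  (N 544 (L
  0xfffffe0d27a68ba755599b830b647ffffffffffffffff555669a229b1fffffd54d99680a620ee7afffffcffffff75b9c7fffff550661d7a721fffffda1a9a67da5d53996683a647fffff67fa615319567ca5ffffff2fffffd9e696fffffd5aa2854b6503ffffffffffffffff54864d9e2961fffffd51191fffffffffff54764cfffffffffffd50191fffffd50d922fffffd9d2935528754f990fffffc7fffff670a494f18e7639b59ae902fffffd9ba9166aa43fffff5396383fffff53563599a8f538693fffff3fffffffffff532637fffff664a38bffffffffffd98e8e53181d4b98d0)
  (N 560 (L
  0xfffffd5e9b081e795a9aa7fffffcffffff5796be1c1e45766bbfffff1ffffffffffffffffd5d5acfffffc7fffff5736afffffffffffffffff3fffffffffff84eb8bfffff5706ac3ffffffffffda3a9e5828cd5bdaa0fffffda8ea56a0a915b9a7fffffc7fffff697a855b1a669fa93fffff2fffffda76a3fffffd5ae1a5686943fffff7b4925a66a256668ffffff1fffffd591a2696a85ed649fffffcfffffffffffe112c6561687fffff1fffffffffff89360157d9f694a807fffff55d67a25ee0852b77fffff3fffffda469f55c6a95659d68da787fffff5638960f2c7558673fffff1)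
  (L
  0xfffffdb5ab66d3ad5675c0fffffc7fffff7ab40966dbf6d2ad7fffff2fffffdb32b36cead1665bdfffffc7fffff5976f1ea1026cbacffffff3fffffdb0eb16bbabd692425966ec3ffffffffffdb22b25936e9b0ab11fffffffffff5926e7ffffffffffcbfffff6beac1645bb58e6e1aeaaf1fffffffffff832af9631b76b8ab87fffff821b2dadaad58b6dbfffff1fffffdad2ac6b1aad629b5fffffc7fffff817795621b46b0aae06a612fffffd611b36aeaa961dbefffffcfffffffffffde82dc5838ad601b30fffffda9ea7fffffd5f9b26acaa47ffffffffffffffff57c6c5aaaa81)))))
  (N 672 (N 624 (N 592 (L
  0x7926a7fffff5c3739bd2c1fffffcbfffff838abbfffff5c0737fffff1ffffffffffffffffd6f9cc6f1afc7fffff6efaf970a4f5bc72ffffff1fffffe09aadfffffd6edca5f39887ffffffffffdbaabd5c99496e9c90ffffffffffffffffd6ddc86e9af47fffff7b389d6d5c77b689bfffff2fffffdec6a2fffffffffff5b271c3fffff6e5af3fffff5b49216c5c60ffffffffffffffffd6b9c56e4af07fffff5ab713fffff6e2aeffffff3fffffd6a1c35ad915b82bafffffcffffff6ddae5695c2fffffffffff2fffffdb6eb8fffffffffff5a27083fffff6d8add685c659e707fffff1)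
  (N 608 (L
  0xfffffe06db45ed781c46cbfffffcbfffff70eb2bffffffffffd7a9df0ffffffffffffffffd79dde70db287ffffffffffd79a525f899178ddd0fffffdc2ac95e277d77ddcfffffc7ffffffffffdbfec45de76ffffff1fffffdc1ac7fffffd771da704b187fffff702b1576dd96299dffffff2fffffd75dd8701b15769e3fffffcfffffffffffd759d75d37598ba791fffffffffff5d0755bfac4fffffcbffffffffffdbeec35cd753fffff1fffffdbe6c2787a8d731d3fffffc7fffff5ca749e3d236f8b0bfffff3fffffffffff5e5977fffff5c77443fffff79aa79bd6c15c573ffffff1)
  (L
  0xffffffffffffffffd865ef735b587fffff6167bbfffff76163ffffff3ffffffffffffffffd84deefffffc7fffff60f7b58626f762855849ef385613982decfffffd83a6b728b48ffffff60a7ae154f560d9b1ccad53fffffdcc6d572cb4dcbed46087ac22697afffffffffff6057a9caed31fffffd805e9727b4981265860134ffffff861137fffff8653d17fde90fffffffffff5fe7c97ede8fffffc7fffff5fa791c8ad06039a1c7ecf3fffffdc7acf71ab397e65d5f67903fffff715b31c5ecd5f478bfffff1fffffffffff712b2d7c5e1fffffc7fffff5ef782081b0714b32066353)))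
  (N 640 (L
  0xfffffd8f5ff6409fde769efffffcffffff63c7f98fe80746b73fffff379f9dbfffff6397f7ffffffffffcbfffff6377f3fffff742b6d8ee7e3fffffffffff740b698d1fafffffc7ffffffffffffffff8664258cdf90fffffe0d6206307de0ea1efffffcbfffff6fcb0d8b1f677fa598be572fffffd8adf5fffffdc1ec7fffffcffffff73eb6589df562a9658ca7a2ffffffffffffffffd899f3fffffc7fffff6237cbffffffffffdceed83fffffdcead8fffffffffff6217c83fffff736b5bfffff738b5d87df10fffffd879f0fffffd8967575d874ffffff75c877fffff759a69871f00)
  (N 656 (L
  0xfffffffffff669851dd6e666c854bfffff668a399961369aa8bfffff2fffffd99e8f662845dcee5fffffcbfffff768b85dc2e4660843fffff1fffffddaee276eb8d97e0ffffffc7fffff65d83a1b1fa76ab8bfffff3fffffde40f178e5d196e0cfffffc7fffff65782996a88767b87fffff3fffffd94e09659a260cf0365682cfffffffffffd9420879426bfffff2fffffdd4ae0fffffda129964f8183ffffffffffffffff64c815d46e01fffffdbb2bd64880d92e83fffffcbfffff74bb7d91a0264aa13fffff28798e991602fffffd90a01fffffc7fffff743b6dd22dd641803fffff1)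
  (L
  0xfffffe132f3fffffdf0eeb6938903fffff69088bffffffffffde6e513fffffde665168f8ade7a8068c88820da78fffffda2a20fffffffffff2fffffda261ffffffda4a9f7beba8ffffff7bdbabfffff7bbba5a1e1f0fffffda161cfffffdd6a71757b50ffffff756b53ffffffffffda0a1c0fffffd9fa1b68187a105f8fffffcffffff7b8ba3fffff67b86ffffff1fffffd9ea1a7815cde02796778643fffff77cb9ffffff676861df6c41fffffffffff776b999d6177b2ae85d7e6e67385bffffffffffffffff3fffffd9be15672a45d92cafffffcffffff66d8519c692779b9ffffff3))))
  (N 720 (N 688 (L
  0xfffffdaf6396c5ac5b02acfffffcffffff6c9ac9af23c845c09ae6390fffffe0de4ffffffe0fec06b78e03fffff827931ad63782bafbfffff2fffffdace367d0bc5afeb0fffffcffffff7cebc1aca366af8d7fffff1fffffde8edc6ad8d1b3eb4fffffcbffffffffffdf2eef7c8bb9aae320ffffffffffffffffffffff6a98c43fffff6a88cbfffff6a58c3fffff1ffffffffffffffffffffff6a48b821e25d6a28abffffffffffffffff3fffffe1e9d16a18a9a7a29fffffc7fffff69c8a1e2254783b0ffffff3fffffdec24869889da6e8ffffffcbffffffffffda562687f35ffffff2)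
  (N 704 (L
  0xfffffdbca4efffffe0faae7e6be0ffffff7e5be3fffff7c1ba9bc24e0fffffdbba4d8318e20b2adfffffcffffff6eda11bae4b71bb39ba24a0fffffdb9a47fffffffffff6e39183fffff7dbbd5f86f76e1917fffff1fffffffffff7ddbd9b7e44fffffc7fffff6dc90ffffff7dabd7fffff3fffffdb6a426deae5f5ef4fffffcffffff6d7905b9ebcfffffffffff3fffffdb5640fffffdb66b7fffffcffffff7ac605b52406d18fffffff1fffffde92046cd8f9b42aafffffcbffffffffffde9d7e6ca8f7fffff1fffffffffff6c78edf56f3fffffcbfffff6c48f1b1ab0fffffdb063b0)
  (L
  0xfffffdc92ce721995d3adf8746bcbfffff71d9921c9affffffdc82653fffffdc8ed0719991c72bdfffffcbfffff7ecbe9c5a63fffffffffff2fffffffffff8258c5c4e61fffffc7fffff8228dffffff710983fffff1ffffffffffffffffdd969270c9783fffff709971c3ecafffffffffff3fffffdc225b77ab9dc2ec9fffffcffffff70596a0f621fffffffffff3fffffffffff843895fa2f97039683ffffffffffdc0258718b37fffff2ffffffffffffffffdbf65677ea547ffffffffffdbea55784a8ffffff2fffffffffff78c695bde53fffffc7fffff7956a9bda516f3943fffff1)))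
  (N 752 (N 736 (L
  0xfffffdd4e8689888ffffff750a143fffff74aa0dd36defffffffffff3fffffffffff74cb7ffffff749a083fffff7f5bf9d1e8185188ffffff2fffffde8aaa7a18cdd167ffffffc7fffff744a07fffff7419f5fa6f9186d6b7fffff73f9f3ffffffffffcbfffff73d9dffffff7edbea0be203fffffdce674fffffe0bb04fffffcfffffffffffffffff7379ce053051ffffffffffffffffdfc2fc7349c03fffff7309aa26600754b81cce6b3fffffdd56997b9ba1cba6a758a687fffff8543d5cb66afffffdcaa690fffffffffff7269a1d3ede7299b0bfffff725999cf2d8828bbffffff3)
  (L
  0xfffffdf36abfffffe059e77d1bc4fffffffffffdf2aa9829b47fffff2fffffffffff804c11f1ea9fffffc7fffff7ccbbdf1aa782379bfffff2ffffffffffffffffdf16a67c9bb87fffff800c0bfffff7c2a83fffff1fffffdef29bfffffdf02bf7bfa70ffffff7fdc07fffff7baa6df12eb1fffffdede97fffffdfeb00fffffcfffffffffffddeec8778a47fffff1fffffffffff777a51dd2907debd85ebebcfffffffffff772a3bfffff1fffffe1022e76fa37ffffffffffca11e2dfffffddb68c771b93fffff2fffffddb28c84d8b1da68bfffffc7ffffffffffdfe2ff766a27fffff1))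
  (N 768 (L
  0xfffffe125f8fffffdfe6e8fffffc60e6a6fffffdfdee1fffffffffff2fffffdfd2ddfffffe12da0fffffcffffff7f3b5fffffffffffffffff3fffffe03f07fffffdfbed67f2bdc7fffff84f3c9fef007eeb4ffffff182aaa1faecdffffffffffffffffcfffffffffffdfdafe7e7b19faadb1fffffdf92bffffffdffb01fffffcfffffffffffdf82bb7e3bd9fc6fc2fffffffffff7dcae9f8af77dfb98bffffffffffe03b077d9ae7fffff1fffffffffff80cc19f5ab8fffffc7ffffffffffe211007d4acbfffff1fffffdf62f4809c15f4eb1fffffc7ffffffffffdf3eac808c15f4af02)
  (L
  0x3ffffffffffe036f5811c1bfffff2812bf7fffff80bbd204307fffffcbffffffffffe02af2807bc604ed71fffffffffff803bba0b6d8806c0cbffffffffffe00aecfffffe017042fffffdffeebfffffe11aaffffffcffffff7fcba7ffffffffffe007023)))))))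
  Tr.N Tr.L
noncomputable def tree : Tr := (.N 384 t0 t1)

noncomputable def wtree : WT :=
  (by
  refine (?fq9027 : ((pk61r (fun r0 j => pk61f j fun i1 => (pk61f (pk61d (nat_lit 5) 
    (nat_lit 0x1de6f59f771cddedacd717a4e56ac69383e51741ed62d4e6a58b41d49320e520cc51106100820) i1) fun u7 => (pk61f (pk61d (nat_lit 1) 
    (nat_lit 0x1f264e4c9e4c9c98) i1) fun t1_0 => (pk61c (Nat.div t1_0 (nat_lit 1)) (_root_.Cfsg.Agent.SporadicRecognition.CosetCert.WT.L (pk61d (nat_lit 3) 
    (nat_lit 0x1249249242122126db4c2019) u7) ((fun g1 : Nat → Nat => pk61l (fun i2 => (pk61d (nat_lit 2) 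
    (nat_lit 0x3b88822b8f775998bb777999eca3b111111111e366777eeeccb2e8e32c88b888ef3bb77666) i2)) (g1 u7) (g1 (Nat.succ u7)) List.nil) fun j => (pk61d (nat_lit 8) 
    (nat_lit 0x938e8a86817b75706a645f5a5148443f3a36322e2a26231f1c1815110e0a0500) j))) fun _ => (_root_.Cfsg.Agent.SporadicRecognition.CosetCert.WT.N (pk61d (nat_lit 5) 
    (nat_lit 0x1f7df7dcceb13ada91940eb6b9895206531022) u7) (r0 (Nat.sub i1 (pk61d (nat_lit 6) 
    (nat_lit 0x810204082102088102084082408102084082204082102) u7))) (r0 (Nat.sub i1 (nat_lit 1)))))))) (_root_.Cfsg.Agent.SporadicRecognition.CosetCert.WT.L (nat_lit 0) List.nil) (nat_lit 6) (nat_lit 60)) : WT)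
    = ?xq9027 → (WT)) ?hq9027; (case hq9027 => (set_option maxRecDepth 1000000 in conv => lhs; reduce)); intro _; exact ?xq9027 : WT)

noncomputable def stree : _root_.Cfsg.Agent.SporadicRecognition.CosetCert.ST := (.L 4 [] [])

noncomputable def C : Cert where
  data := tree
  lm := 15
  rb := 114
  fb := 22
  mask := 4194303
  B := 1024
  k := 4
  N := 775
  inv := fun x => x
  words := wtree
  subs := stree

/-- letters: 0 = a, 1 = b, 2 = c, 3 = d -/
def rels : List (List Nat) := beta% (fun (c : Nat → List Nat → List Nat) (n : List Nat) => ([(c 0 (c 2 (c 0 (c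
  2 n)))), (c 0 (c 3 (c 0 (c 3 n)))), (c 2 (c 3 (c 2 (c 3 (c 0 n))))), (c 1 (c 2 (c 1 (c 2 (c 1 (c 2 n)))))),
  (c 1 (c 3 (c 1 (c 3 (c 1 (c 3 n)))))), (c 0 (c 1 (c 0 (c 1 (c 0 (c 1 (c 0 (c 1 (c 0 (c 1 n))))))))))] : List
  (List Nat))) (@List.cons Nat) (@List.nil Nat)

noncomputable def subw : List (List Nat) := []

/-- targets:  (bcd)^15;  [(bcd)^5,c];  [(bcd)^5,d] -/
def targets : List (List Nat) :=
  (by
  refine (?fq9028 : ((pk61l (fun i1 => ((fun g1 : Nat → Nat => pk61l (fun i2 => (pk61d (nat_lit 2) 
    (nat_lit 0x279e79e76db6db6ee79e79e66db6db6f9e79e79e79e79e79e79e79) i2)) (g1 i1) (g1 (Nat.succ i1)) List.nil) fun j => (pk61d (nat_lit 7) 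
    (nat_lit 0xd735680) j))) (nat_lit 0) (nat_lit 3) List.nil) : List (List Nat))
    = ?xq9028 → (List (List Nat))) ?hq9028; (case hq9028 => (set_option maxRecDepth 1000000 in set_option simprocs false in conv => lhs; reduce; dsimp only)); intro _; exact ?xq9028 : List (List Nat))

end Cfsg.Agent.SuzType.PresZeData
end

-- part: SuzType/PresZeChk0
section
set_option autoImplicit false
set_option maxRecDepth 100000

namespace Cfsg.Agent.SuzType.PresZeChk0

open Cfsg.Agent.SporadicRecognition.CosetCert Cfsg.Agent.Lib.CosetPartial Cfsg.Agent.SuzType.PresZeData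

private theorem alC : Cfsg.Agent.SporadicRecognition.CertFast.al (Nat.succ C.lm) C.data = true := by decide +kernel

theorem c0 : PartP C 0 64 := Cfsg.Agent.SporadicRecognition.CertFastP.partP_fast C alC (by decide +kernel : Cfsg.Agent.SporadicRecognition.CertFastP.runPF C 13 8191 0x10004004000000000800200000080080040000010004004000000000800200000081cc00400200100040000020010008002053000800000400000100040040000000008002000000000400400000100080020000010004004000000800800600000100000020020098004004002000800800403300100080020230010004004000000800800400000100000020020010004004002000800800000200100000020000000004004000000800800400000080085a800000100040000000000008002000000800000400000100040040000000008002000000800800400000100048a800000000080020020008000004002001000400400000000080020000008008004000001000400400000000080020020008008004002001000400400200000080020000008008004000001000400400000000080020020008008004002001000400000200000080020020008000004002001000400400200000080020000008008004000001000400400200000080020020008008004002001000400400000000080020020008008004002001000400400000100080020000010008004000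 28 268435455 0x7c321708031271ec36170000000000000000000001f48727000000000000000000000000000000000000000000000000000000000000000000000000000000000000000000000000000000000000000000000000000000000000000000000000000000000000000000000000000000000000000000000000000000000000000000000000000000000000000000000000000000000000000000000000000000000000000000000000000000000000000000000000000 0 64 = true)

theorem c1 : PartP C 64 128 := Cfsg.Agent.SporadicRecognition.CertFastP.partP_fast C alC (by decide +kernel : Cfsg.Agent.SporadicRecognition.CertFastP.runPF C 13 8191 0x49830c0000010098008002002000000400400200080001e6023001040c002002000000400400000080001e602303180000040010000000004001001040c002002000810c1e60000000004004002001040c00200000080001e6023031800000400100000040040000000000004001001040c0020020498000004001000810c1e60530000004004000001040c0020020318000004001000000400400000000000040010498000004001000810c1e605305181cc0040010000000004001001040c0020020498000004001000810c1e60000000004004000001040c002000000000800400100080001e602304181cc00400100000040040000000000004001001040c002002000810c1e6000031800000400100000040040000000000004001001040c002000000810c004053000000400400075200040000000000008002000000800800400000100040000000010008002000000800800400000100040000000000008002002000800800400200100040000020010008002000000800000400005980040040330008008004000001000400000000100080020020008008004002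 28 268435455 0x21c7d070dccd370d4cb17000000000000000000000000000000000000000000000000000000000000000000000000000000000000000000000000000000000000000000000000000000000000000000000000000000000000000000000000000000000000000000000000000000000000000000000000000000000000000000000000000000000000000000000000000000000000000025ca31700000000000000000000000000000000000000000000000000000000000000000000000000000078333714443270000000000000000000000000000 64 64 = true)

theorem c2 : PartP C 128 192 := Cfsg.Agent.SporadicRecognition.CertFastP.partP_fast C alC (by decide +kernel : Cfsg.Agent.SporadicRecognition.CertFastP.runPF C 13 8191 0x20020010008002000000800800403300101cc004001001000000200200100080020020000008002000000000800200200000000020020010008002002000800800403300101cc00400100100000020020010008002002000800800400000001cc000001000040c002002001000800200200100080020020000008002000000800000403300101cc004001000000000200200000000020020000008002000000800800400000001cc00000100100000020020000000002002000040c002000f420004005e840010004000000000040c0020020318000004001000000400400000000000040010498000004001000810c00005305181cc1e600100000080020020010000002002001040c00200000080001e6000000000000400100000040040000000000004001001040c002002000810c1e60530000004004000001040c002002031800000000100080001e600000000040060e3000034c00400100000000040010098008002002049800400600200080000040000098008002000000034c0040010008000004000000000000400100001cc0040010598004006033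 28 268435455 0x3a0f707000000000000000000000000000000000000000000000000000000000000000000000000000000000000000000000000000000000000000000000000000000000000000000000000000000000000000000000000000000000000000000000338d7170000000000000000000000000000000000000000000000000 128 64 = true)

theorem c3 : PartP C 192 256 := Cfsg.Agent.SporadicRecognition.CertFastP.partP_fast C alC (by decide +kernel : Cfsg.Agent.SporadicRecognition.CertFastP.runPF C 13 8191 0x1040c004001000000800400100100040000000000000004001001000400600000000000020000518004006000001030c004001041800800400100001cc004001b1a0000002002009800000200000080001e603300101cc004001001000000200200100000020020010008002002000000800200200080081e60330000004004053001000800400100080080000000000004006053000000800400100080081e600000001cc000001001000000200200000000020020000008002002000800000003300100000040010010008002000000800800403300101cc0000010010000002000001040c0020020010008002002000000400405300000080040010010008002000001000400400004980001e600100000080020020010008002002001000800200200100000020020010000002002001000400405304980080040010000000002002000800000403300101cc004001001000800200200100000020020000008002000000800000403300101cc0040010010008002002000800800400000000000020020000008002002001000800200200080000000330010000004001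 28 268435455 0x591771700000000000000000000000000000000000000000000000000000000000000000000000000000000000013d662700000000000000000000000000000000000000000000000000000000000000000000000000000000000000000000000000000000000000000000000000000000001d60000000000000000000000000000000000000000000000000000000000000000e07c1700000000d87b2700000000000000000000000000000000000000000000000000000000000000000000000000000 192 64 = true)

theorem c4 : PartP C 256 320 := Cfsg.Agent.SporadicRecognition.CertFastP.partP_fast C alC (by decide +kernel : Cfsg.Agent.SporadicRecognition.CertFastP.runPF C 13 8191 0x8002000000040c00400100080080000020010008002002000830c004000000000000400100080081e600000000000040010010004004000000000000400100080080000020010008002000000830c0040000000008000001001000400600000080081e60330010004000053001000800400103180000040010008000000033000000400405300100080040010008000004000001000000200000080001e60330010000004001000830c00000000000040060020008008004002001000000200000080081e60000000000004001000830c0040530000008004001001000400400000100000000010010004000053000000800400100080081e60330010004006053001000800400100080080000000000004004053000000800400100100040060000008008000002001000000200200080081e60000000000004001000830c004000051800800400100100040060000000008002000000000000400100080081e60000000004004053000000800400100080000000230418008004001001000400400000100000000010008000004002051800800200000080001e6033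 28 268435455 0 256 64 = true)

theorem c5 : PartP C 320 384 := Cfsg.Agent.SporadicRecognition.CertFastP.partP_fast C alC (by decide +kernel : Cfsg.Agent.SporadicRecognition.CertFastP.runPF C 13 8191 0x80080000020010008002000000034c0020020008000004000000844c00000000100000021230000004006000000000800200000100080020000008000000000001040c0020000000000004001000840c0040000518008002000000000800400100000080040010008000000023041800800400100080001e603300100040040000010000000001000000400400000080000040020518004000002001000800200200000040040000418004004000000000800200000100040040000008008004033001000800400104180080040010010004004053000000800400100080080040000010000002000000830c0040000010004006000000800000400200080081e60000000000266001000800800000000001cc004001000830c000053051800800400100100040000020000008002002051800400400000080001e60000010004006000000000000400100000040000e3001044c00400100080080040000000004004053000000800400100080080000000000004006053000000800000100080081e60000000004006053000000800000100080081e60000010004000002 28 268435455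 0x7a5fb2700001b3000000000000000000000000000000000000000000000000000000000000000000000000000000000000000000000000000000000139eb1700000000000000285e81700000000000000000000000000000000000000000000000000000000000000000000000000000000000000000000000000000000000000000000000000000000000000000000000000000000000000000000000000000000000000000000000000000000000000000000000000000000000000000000000000000 320 64 = true)

theorem c6 : PartP C 384 448 := Cfsg.Agent.SporadicRecognition.CertFastP.partP_fast C alC (by decide +kernel : Cfsg.Agent.SporadicRecognition.CertFastP.runPF C 13 8191 0x418004000000000000800200000080081e6000000844c0040000010000002123009840c002000000810c004000000000000212300000040040020008008004053000830c00000205180040000020010008002002001000000200200080000040000000004004002001010c00212300980080020020008008004000000000026600100080000000020010000002002001040c0020000008000000000000000400600004180040000000000008002002000034c00200200080081e6000000844c00400000100000021230008000004000000830c0060000000004004002001000800200000000040040000008008000000000830c00400205180040000020010000002002001000400400000080001e602304180040040000000008002123009840c002000000800000403300000040060530010008266001000000400400004180041e6000000000800200200100080020020010004006000000000026600100000040000000000008002002000000400400004180041e60020000008002002001000800200200080001e6000000844c00000000100000021230010000002000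 28 268435455 0 384 64 = true)

theorem c7 : PartP C 448 512 := Cfsg.Agent.SporadicRecognition.CertFastP.partP_fast C alC (by decide +kernel : Cfsg.Agent.SporadicRecognition.CertFastP.runPF C 13 8191 0x80000000000010004004000000000026600100080080000000010004000000009830c00200000080000040000000000002000009800400400000000080020000000008002002000000800212300080001e6000000844c000002001040c0020020098000002002000040c0020020008000004033001000400400000100002660010010008002000000040c0020020000004004000001040c002002001000400400000080002660020518004004000001030c002000000000800200200080081e6000000830c00400000000040040020010008002123009840c0020020008000004000000000000200200000040040000418004000000000000400400000000000020020010000002123009840c002123000000400405300000080000010008000004000000844c0000000010000002000001040c0020020010004006000041800400400200000080021230000004004000041800400400000000040040000418004000002009840c00200000000040040000000008002002009840c00200000080000040330010004006000001000000000100000080020020000004004000 28 268435455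 0x9a179170000000000000000001c60000000000000000000000000000000000000000000000000000000000000000000000000000000000001366b3700000000000000139eb270000000000000000000000000000000000000000000000000000000000000000000000000000000000000000000000000000000000000000000000000000000000000000000000000000000000000000000000000000000000000000000000000000000000000000000000000000000000000000000000000000000000000000000000000000000000000000 448 64 = true)

theorem c8 : PartP C 512 576 := Cfsg.Agent.SporadicRecognition.CertFastP.partP_fast C alC (by decide +kernel : Cfsg.Agent.SporadicRecognition.CertFastP.runPF C 13 8191 0x1040c00200000100040040000098008002000000840c00400004981cc26600100000080020020000004000000001000800200200000080020020098008002000001040c00200000980040040020008008004000000040c004001009800000200200000000020020008008004000001040c00200000000000020000008000000000000000800000100001cc266001001040c00200004180040040000010000004001001000800200000080081e60000000008002000000034c002002000810c0040000010008002002009840c00200004980080020020000000002002000844c0040000098000002002001040c00200200100040040000498000266001000000000200200080000000020000004000002001040c002000001000400405300100080000010008008004000000000400005300000080040010008000004000000844c0000000010000000001001000000200004180040040000008000004033001000400000000100000000010008008006000000034c266001009840c0020000008000004000001000000000100100080020000098008002000000840c004033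 28 268435455 0 512 64 = true)

theorem c9 : PartP C 576 640 := Cfsg.Agent.SporadicRecognition.CertFastP.partP_fast C alC (by decide +kernel : Cfsg.Agent.SporadicRecognition.CertFastP.runPF C 13 8191 0x80081e6000000844c004000000000400000000080000040230000008002000000000026600100100041e6000041800426600200080001e60000010004004053000000000200000080000000330010000000001049800000400100080001e60330010000266001000000000200200080000040000000000002000000844c0060020008000004023000830c1e603300101cc004001000000000200200080080040530498000004001000000800200000080081e603300100080040010098008002000000040c002000000800800403304180040040000498000000001000000000200200000082660010010008002000000040c002000001000000200204180040060000008008004000000000800205300000040040000000008002000009840c002000000840c00400000001cc000001001040c002000000000400400000100000020000000000002002001040c002000031800000212300001cc266001000000000200204180040040000010000000001049800026600100000000020020008000004000000844c004000001000400000000100000000010010008002000 28 268435455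 0x1660000000000000000000000000000000000000000000000000000000000000000000000000000000000000000000000000000000000000000000000000001630000000000000000001e30000000000000000000000000000000000000000000000000000000000000000000000000000000000000000000000000000000000000000000000000000000000000000000000000000000000000000000000000000153000000000000000000000000000000000000000000000000000000000000000000000000000000000000000000000000000000000 576 64 = true)

theorem c10 : PartP C 640 704 := Cfsg.Agent.SporadicRecognition.CertFastP.partP_fast C alC (by decide +kernel : Cfsg.Agent.SporadicRecognition.CertFastP.runPF C 13 8191 0x80001e60330010000004001000840c00400000100080060010010000000001009800800200000000080020000008000004000000844c004000000810c00000000080001e600000980080020000098004004000000000800200000000040040000010008000001000810c0040000518008266001031800000400100100041e600000080081e60000010008002000001000400600000000080040010000000000001001000000200000000000000010008000000000059800800200000080081e600000980040040000000004004000009800000400100080000000230418008004001000000400000000080001e603300100000040010008000004033001000000000100080080060000010000002000001040c0040010098000002023000040c002123000800000000000080081e6000000830c00400000000040040020010004006000041800400400000980080020000098008002000000844c00400005980080020000008008004000000844c2660020000004004000049800026600100000000020020598004004000001000400600000100000020000098008002000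 28 268435455 0x173000000000000000000000000000000000000000000000000000001460000000000000000000000000000000000000000000000000000000000000000000143000000000000000000000000000000000000000000000000000000000000000000000000000000000000000000000000000000000000000000001c60000000 640 64 = true)

theorem c11 : PartP C 704 768 := Cfsg.Agent.SporadicRecognition.CertFastP.partP_fast C alC (by decide +kernel : Cfsg.Agent.SporadicRecognition.CertFastP.runPF C 13 8191 0x100000020000000004000000000800000400000080000000000318000002002059840c0020000008000000000000034c00200200080001e600000000040041230000004006002000000800200000000080020000000008002000009840c002000000000400400200080000040230000004004000000000800200005180040060000000000002123001000000200000080002660020010000002123000800000400000000080020000000008002053000000000200005980040000000000004006000001010c002000000000800200000100080000010008008000000000034c00000100100041e600004180080020000010000002123000000400000000080001e6123000800000400000000000020020000000004001000840c266002009844c00200200100080000010000004006002000830c1e600000100041e60e3000844c00000205180040040000010004000000000040c00200000100000020000000000004001000810c000000000840c1e60000008008000000000034c00400100000040060000000000002002000000400400000000080020000098008002000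 28 268435455 0x19300000000000000000000000000000000183000000000000000000000000000000000000000000000000000000000000000000000000000000000000000000000000000000000000000000000000000000000000000000000000163000000000001a30000000000000000000000000000000000000000000000000000000000001660000000000000000000000000000000000000000000000000000000000000000000000000000000000000000000000000000000000000000000000000000000000000000000000000000000000000000000000000000000 704 64 = true)

theorem c12 : PartP C 768 775 := Cfsg.Agent.SporadicRecognition.CertFastP.partP_fast C alC (by decide +kernel : Cfsg.Agent.SporadicRecognition.CertFastP.runPF C 13 8191 0x4004000000000400600000000080020e30000004006002000000400005300080000040000008000000033 28 268435455 0x17600000000000000000000000000000000000 768 7 = true)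

theorem all : PartP C 0 775 := ((((((((((((c0).append C c1).append C c2).append C c3).append C c4).append C c5).append C c6).append C c7).append C c8).append C c9).append C c10).append C c11).append C c12

end Cfsg.Agent.SuzType.PresZeChk0
end

-- part: SuzType/PresZe
section
set_option autoImplicit false
set_option maxRecDepth 100000

namespace Cfsg.Agent.SuzType.PresZe

open Cfsg.Agent.SporadicRecognition.CosetCert Cfsg.Agent.Lib.CosetPartial Cfsg.Agent.SuzType.PresZeData

theorem part : PartP C 0 C.N := Cfsg.Agent.SuzType.PresZeChk0.all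

/-- every target word lies in `H` as soon as the relators hold and the subgroup words lie in `H` -/
theorem mem {G : Type*} [Group G] (H : Subgroup G) (g : Nat → G)
    (hinv : ∀ x, x < 4 → g x * g (C.inv x) = 1)
    (hrel : ∀ r ∈ rels, ev g r = 1) (hsub : ∀ s ∈ subw, ev g s ∈ H) :
    ∀ w ∈ targets, ev g w ∈ H :=
  mem_of_checks C H g rels subw targets
    (Cfsg.Agent.SporadicRecognition.HypFast.and_fast (by decide +kernel)) hinv hrel hsub part (by decide +kernel)

theorem eq_one {G : Type*} [Group G] (g : Nat → G)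
    (hinv : ∀ x, x < 4 → g x * g (C.inv x) = 1)
    (hrel : ∀ r ∈ rels, ev g r = 1) : ∀ w ∈ targets, ev g w = 1 :=
  fun w hw => Subgroup.mem_bot.mp (mem ⊥ g hinv hrel (by simp [subw]) w hw)

end Cfsg.Agent.SuzType.PresZe
end

-- part: SuzType/PresColData
section
set_option autoImplicit false
set_option maxRecDepth 100000

namespace Cfsg.Agent.SuzType.PresColData

open Cfsg.Agent.SporadicRecognition.CosetCert

noncomputable def tree : Tr := (.L 0x91fff859d4fffff818e62ffda5ffd64ffd9528d7ff8a133ffd567e0e72ffdb7ffd0349587294fff3d1e85ddc734c3ffffcc351915288e41a07ff14492208b31c93ffffc620c42104441f)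

noncomputable def wtree : WT :=
  (by
  refine (?fq9029 : ((pk61r (fun r0 j => pk61f j fun i1 => (pk61f (pk61d (nat_lit 4) 
    (nat_lit 0xdcbaed9cb87a96875436524310210) i1) fun u7 => (pk61f (pk61d (nat_lit 1) 
    (nat_lit 0x1e4c9c98) i1) fun t1_0 => (pk61c (Nat.div t1_0 (nat_lit 1)) (_root_.Cfsg.Agent.SporadicRecognition.CosetCert.WT.L (pk61d (nat_lit 3) 
    (nat_lit 0x1b4060264680) u7) ((fun g1 : Nat → Nat => pk61l (fun i2 => (pk61d (nat_lit 3) 
    (nat_lit 0x268385c2e170b85871b0e231188c4620a24132cb45142030c2239141044d3) i2)) (g1 u7) (g1 (Nat.succ u7)) List.nil) fun j => (pk61d (nat_lit 7) 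
    (nat_lit 0xa331eb96ca1221385ca0f161c200) j))) fun _ => (_root_.Cfsg.Agent.SporadicRecognition.CosetCert.WT.N (pk61d (nat_lit 4) 
    (nat_lit 0x7bdec9a8356412) u7) (r0 (Nat.sub i1 (pk61d (nat_lit 5) 
    (nat_lit 0x208208441090410882) u7))) (r0 (Nat.sub i1 (nat_lit 1)))))))) (_root_.Cfsg.Agent.SporadicRecognition.CosetCert.WT.L (nat_lit 0) List.nil) (nat_lit 5) (nat_lit 28)) : WT)
    = ?xq9029 → (WT)) ?hq9029; (case hq9029 => (set_option maxRecDepth 1000000 in conv => lhs; reduce)); intro _; exact ?xq9029 : WT)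

noncomputable def stree : _root_.Cfsg.Agent.SporadicRecognition.CosetCert.ST := (.N 1 (.L 1 [] []) (.N 2 (.L 2 [] []) (.L 3 [] [])))

noncomputable def C : Cert where
  data := tree
  lm := 15
  rb := 74
  fb := 10
  mask := 1023
  B := 16
  k := 6
  N := 8
  inv := fun x => x
  words := wtree
  subs := stree

/-- letters: 0 = a, 1 = b, 2 = c, 3 = d, 4 = e, 5 = h -/
def rels : List (List Nat) :=
  (by
  refine (?fq9030 : ((pk61l (fun i1 => ((fun g1 : Nat → Nat => pk61l (fun i2 => (pk61d (nat_lit 3) 
    (nat_lit 0x94ca6532994ba5d2e974ba552a954aa55361b0d86c36170b85c2e170a8542a150a86b359acd66b3198cc6633194ca6532994cd46a351a8d46231188c4622d168b45a2d1208208229a69861859659451445960aeb11c62aa8451069aa28820618410) i2)) (g1 i1) (g1 (Nat.succ i1)) List.nil) fun j => (pk61d (nat_lit 9) 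
    (nat_lit 0x823d5ccd7642e5549b461f4dc5f28118803a1a0b852240f8682a10060200800) j))) (nat_lit 0) (nat_lit 27) List.nil) : List (List Nat))
    = ?xq9030 → (List (List Nat))) ?hq9030; (case hq9030 => (set_option maxRecDepth 1000000 in set_option simprocs false in conv => lhs; reduce; dsimp only)); intro _; exact ?xq9030 : List (List Nat))

noncomputable def subw : List (List Nat) := [[1], [2], [3]]

/-- targets:  e -/
def targets : List (List Nat) := [[4]]

end Cfsg.Agent.SuzType.PresColData
end

-- part: SuzType/PresColChk0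
section
set_option autoImplicit false
set_option maxRecDepth 100000

namespace Cfsg.Agent.SuzType.PresColChk0

open Cfsg.Agent.SporadicRecognition.CosetCert Cfsg.Agent.Lib.CosetPartial Cfsg.Agent.SuzType.PresColData

private theorem alC : Cfsg.Agent.SporadicRecognition.CertFast.al (Nat.succ C.lm) C.data = true := by decide +kernel

theorem c0 : PartP C 0 8 := Cfsg.Agent.SporadicRecognition.CertFastP.partP_fast C alC (by decide +kernel : Cfsg.Agent.SporadicRecognition.CertFastP.runPF C 8 255 0xc3010000020093000100020002010073b300020001638300530202a301004302020102000133230213000225150503 15 32767 0x8a0e8c5c069b22701c60000b238000 0 8 = true)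

theorem all : PartP C 0 8 := c0

end Cfsg.Agent.SuzType.PresColChk0
end

-- part: SuzType/PresCol
section
set_option autoImplicit false
set_option maxRecDepth 100000

namespace Cfsg.Agent.SuzType.PresCol

open Cfsg.Agent.SporadicRecognition.CosetCert Cfsg.Agent.Lib.CosetPartial Cfsg.Agent.SuzType.PresColData

theorem part : PartP C 0 C.N := Cfsg.Agent.SuzType.PresColChk0.all

/-- every target word lies in `H` as soon as the relators hold and the subgroup words lie in `H` -/
theorem mem {G : Type*} [Group G] (H : Subgroup G) (g : Nat → G)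
    (hinv : ∀ x, x < 6 → g x * g (C.inv x) = 1)
    (hrel : ∀ r ∈ rels, ev g r = 1) (hsub : ∀ s ∈ subw, ev g s ∈ H) :
    ∀ w ∈ targets, ev g w ∈ H :=
  mem_of_checks C H g rels subw targets
    (Cfsg.Agent.SporadicRecognition.HypFast.and_fast (by decide +kernel)) hinv hrel hsub part (by decide +kernel)

end Cfsg.Agent.SuzType.PresCol
end

-- part: SuzType/PresRel
section
/-!
# Relators of the presented Suzuki group, part 1 (node N6)

From the relations `Rels x y r t u` of `SuzPlane` and the relations `j1 j2 l1 l2` we derive the relations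
of the element `be = t u y t u⁻¹`.
-/

set_option autoImplicit false

namespace Cfsg.Agent.SuzType.PresRel

open Cfsg.Agent.SporadicRecognition.CosetCert
open Cfsg.Agent.LargeExtra.SuzPlane

variable {G : Type*} [Group G]

/-- The relations of `L₃(4) = C(A₄)` used as input. -/
structure RelsL (x y r t u : G) : Prop extends Rels x y r t u where
  j1 : (t * u) ^ 5 = 1
  j2 : (t * u⁻¹) ^ 4 = 1
  l1 : (r * t * u) ^ 5 = 1
  l2 : (r * t * u⁻¹) ^ 5 = 1

/-- letters for the certificate `PresA6` -/
def gA (x y t u : G) : ℕ → G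
  | 0 => x
  | 1 => y
  | 2 => t
  | 3 => t⁻¹
  | 4 => u
  | 5 => u⁻¹
  | _ => 1

/-- letters for the certificates `PresBr`, `PresZb` -/
def gB (x y t u r b : G) : ℕ → G
  | 0 => x
  | 1 => y
  | 2 => t
  | 3 => t⁻¹
  | 4 => u
  | 5 => u⁻¹
  | 6 => r
  | 7 => b
  | _ => 1

/-- letters for the certificate `PresZe` -/
def gZ (a b c d : G) : ℕ → G
  | 0 => a
  | 1 => b
  | 2 => c
  | 3 => d
  | _ => 1

/-- letters for the certificate `PresCol` -/
def gC (a b c d e h : G) : ℕ → G
  | 0 => a
  | 1 => b
  | 2 => c
  | 3 => d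
  | 4 => e
  | 5 => h
  | _ => 1

/-- the involution `b` of the presentation of `Suz` -/
def be (y t u : G) : G := t * u * y * t * u⁻¹

theorem eq_one_trans {a b : G} (h : a = b) (hb : b = 1) : a = 1 := h.trans hb

namespace RelsL

variable {x y r t u : G} (h : RelsL x y r t u)
include h

theorem w1 : t⁻¹ * (x * (t * (y * (x * y)))) = 1 := by
  have e3 : (t⁻¹ * x * t) * (y * x * y) = 1 := by
    rw [h.tx, h.yxy]
    calc (x * y) ^ 2 * x * ((x * y) ^ 2 * x) = (x * y) ^ 2 * (x * (x * y) ^ 2) * x := by group
      _ = (x * y) ^ 2 * (x * y) ^ 2 * (x * x) := by rw [← h.zx]; group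
      _ = 1 := by rw [h.z2, h.x2, one_mul]
  simpa only [mul_assoc] using e3

theorem w2 : t⁻¹ * (x * (y * (x * (y * (t * x))))) = 1 := by
  have e1 : t⁻¹ * (x * y) ^ 2 * t * x = 1 := by rw [h.tz, h.x2]
  simpa only [pow_two, mul_assoc] using e1

theorem w3 : u⁻¹ * (x * (y * (x * (y * (u * y))))) = 1 := by
  have e1 : u⁻¹ * (x * y) ^ 2 * u * y = 1 := by rw [h.uz, h.y2]
  simpa only [pow_two, mul_assoc] using e1

theorem w4 : u⁻¹ * (y * (u * (y * (x * (y * (x * y)))))) = 1 := by
  have e4 : (u⁻¹ * y * u) * (y * x * y * x * y) = 1 := by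
    rw [h.uy]
    calc (x * y) ^ 2 * y * (y * x * y * x * y) = (x * y) ^ 2 * (y * y) * (x * y) ^ 2 := by
          rw [pow_two]; group
      _ = 1 := by rw [h.y2, mul_one, h.z2]
  simpa only [mul_assoc] using e4

theorem w5 : r * (x * (r * x)) = 1 := by
  calc r * (x * (r * x)) = (r * x) * (r * x) := by group
    _ = x * (r * r) * x := by nth_rewrite 1 [h.rx]; group
    _ = 1 := by rw [h.r2, mul_one, h.x2]

theorem w6 : r * (y * (r * y)) = 1 := by
  calc r * (y * (r * y)) = (r * y) * (r * y) := by group
    _ = y * (r * r) * y := by nth_rewrite 1 [h.ry]; group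
    _ = 1 := by rw [h.r2, mul_one, h.y2]

theorem relA : ∀ w ∈ PresA6Data.rels, ev (gA x y t u) w = 1 := by
  have h1 := h.w1
  have h2 := h.w2
  have h3 := h.w3
  have h4 := h.w4
  intro w hw
  simp only [PresA6Data.rels, List.mem_cons, List.not_mem_nil, or_false] at hw
  rcases hw with rfl | rfl | rfl | rfl | rfl | rfl | rfl | rfl | rfl | rfl | rfl <;>
    simp only [ev_cons, ev_nil, gA, mul_one]
  · exact eq_one_trans (by simp only [pow_succ, pow_zero, one_mul, mul_assoc]) h.t3
  · exact eq_one_trans (by simp only [pow_succ, pow_zero, one_mul, mul_assoc]) h.u3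
  · exact eq_one_trans (by simp only [mul_assoc]) h.ty
  · exact eq_one_trans (by simp only [mul_assoc]) h.ux
  · exact h1
  · exact h2
  · exact h3
  · exact eq_one_trans (by simp only [pow_succ, pow_zero, one_mul, mul_assoc]) h.xy4
  · exact h4
  · exact eq_one_trans (by simp only [pow_succ, pow_zero, one_mul, mul_assoc]) h.j2
  · exact eq_one_trans (by simp only [pow_succ, pow_zero, one_mul, mul_assoc]) h.j1

theorem invA : ∀ i, i < 6 → gA x y t u i * gA x y t u (PresA6Data.C.inv i) = 1 := by
  intro i hi
  interval_cases i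
  · exact h.x2
  · exact h.y2
  · exact mul_inv_cancel t
  · exact inv_mul_cancel t
  · exact mul_inv_cancel u
  · exact inv_mul_cancel u

theorem tgA (w : List ℕ) (hw : w ∈ PresA6Data.targets) : ev (gA x y t u) w = 1 :=
  PresA6.eq_one (gA x y t u) h.invA h.relA w hw

theorem be_sq : be y t u * be y t u = 1 := by
  have := h.tgA [2,4,1,2,5,2,4,1,2,5] (by simp only [PresA6Data.targets, _root_.List.mem_cons, _root_.List.cons.injEq, _root_.OfNat.ofNat_ne_zero, _root_.Nat.reduceEqDiff, _root_.OfNat.one_ne_ofNat, _root_.OfNat.ofNat_ne_one, _root_.List.nil_eq, _root_.reduceCtorEq, _root_.and_self, _root_.and_false, _root_.one_ne_zero, _root_.List.not_mem_nil, _root_.or_self, _root_.or_false])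
  simp only [ev_cons, ev_nil, gA, mul_one] at this
  unfold be
  simpa only [mul_assoc] using this

theorem be_x : (be y t u * x) ^ 3 = 1 := by
  have := h.tgA [2,4,1,2,5,0,2,4,1,2,5,0,2,4,1,2,5,0] (by simp only [PresA6Data.targets, _root_.List.mem_cons, _root_.List.cons.injEq, _root_.OfNat.zero_ne_ofNat, _root_.Nat.reduceEqDiff, _root_.OfNat.ofNat_ne_one, _root_.OfNat.one_ne_ofNat, _root_.reduceCtorEq, _root_.and_self, _root_.and_false, _root_.zero_ne_one, _root_.and_true, _root_.OfNat.ofNat_ne_zero, _root_.List.nil_eq, _root_.Nat.succ_ne_self, _root_.one_ne_zero, _root_.List.not_mem_nil, _root_.or_self, _root_.or_false, _root_.or_true])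
  simp only [ev_cons, ev_nil, gA, mul_one] at this
  unfold be
  simpa only [pow_succ, pow_zero, one_mul, mul_assoc] using this

theorem be_y : (be y t u * y) ^ 3 = 1 := by
  have := h.tgA [2,4,1,2,5,1,2,4,1,2,5,1,2,4,1,2,5,1] (by simp only [PresA6Data.targets, _root_.List.mem_cons, _root_.List.cons.injEq, _root_.OfNat.one_ne_ofNat, _root_.Nat.reduceEqDiff, _root_.OfNat.ofNat_ne_one, _root_.reduceCtorEq, _root_.and_self, _root_.and_false, _root_.one_ne_zero, _root_.and_true, _root_.OfNat.ofNat_ne_zero, _root_.List.nil_eq, _root_.Nat.succ_ne_self, _root_.List.not_mem_nil, _root_.or_self, _root_.or_false, _root_.or_true])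
  simp only [ev_cons, ev_nil, gA, mul_one] at this
  unfold be
  simpa only [pow_succ, pow_zero, one_mul, mul_assoc] using this

theorem be_xy : (be y t u * x * y) ^ 5 = 1 := by
  have := h.tgA [2,4,1,2,5,0,1,2,4,1,2,5,0,1,2,4,1,2,5,0,1,2,4,1,2,5,0,1,2,4,1,2,5,0,1]
    (by simp only [PresA6Data.targets, _root_.List.mem_cons, _root_.List.cons.injEq, _root_.OfNat.zero_ne_ofNat, _root_.OfNat.one_ne_ofNat, _root_.OfNat.ofNat_ne_one, _root_.Nat.reduceEqDiff, _root_.reduceCtorEq, _root_.and_self, _root_.and_false, _root_.OfNat.ofNat_ne_zero, _root_.zero_ne_one, _root_.one_ne_zero, _root_.List.nil_eq, _root_.Nat.succ_ne_self, _root_.List.not_mem_nil, _root_.or_self, _root_.or_false, _root_.or_true])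
  simp only [ev_cons, ev_nil, gA, mul_one] at this
  unfold be
  simpa only [pow_succ, pow_zero, one_mul, mul_assoc] using this

theorem be_z : (be y t u * (x * y) ^ 2) ^ 5 = 1 := by
  have := h.tgA [2,4,1,2,5,0,1,0,1,2,4,1,2,5,0,1,0,1,2,4,1,2,5,0,1,0,1,2,4,1,2,5,0,1,0,1,2,4,1,2,5,0,1,0,1]
    (by simp only [PresA6Data.targets, _root_.List.mem_cons, _root_.List.cons.injEq, _root_.OfNat.zero_ne_ofNat, _root_.OfNat.one_ne_ofNat, _root_.zero_ne_one, _root_.Nat.reduceEqDiff, _root_.reduceCtorEq, _root_.and_self, _root_.and_false, _root_.one_ne_zero, _root_.Nat.succ_ne_self, _root_.OfNat.ofNat_ne_one, _root_.OfNat.ofNat_ne_zero, _root_.List.not_mem_nil, _root_.or_self, _root_.or_false, _root_.or_true])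
  simp only [ev_cons, ev_nil, gA, mul_one] at this
  unfold be
  simpa only [pow_succ, pow_zero, one_mul, mul_assoc] using this

theorem t_eq : t = x * be y t u * x * y * x * y * be y t u * y * x * y * be y t u * x := by
  have := h.tgA [0,2,4,1,2,5,0,1,0,1,2,4,1,2,5,1,0,1,2,4,1,2,5,0,3] (by simp only [PresA6Data.targets, _root_.List.mem_cons, _root_.List.cons.injEq, _root_.OfNat.zero_ne_ofNat, _root_.Nat.reduceEqDiff, _root_.OfNat.ofNat_ne_one, _root_.OfNat.one_ne_ofNat, _root_.reduceCtorEq, _root_.and_self, _root_.and_false, _root_.OfNat.ofNat_ne_zero, _root_.zero_ne_one, _root_.one_ne_zero, _root_.Nat.succ_ne_self, _root_.List.nil_eq, _root_.List.cons_ne_self, _root_.List.not_mem_nil, _root_.or_self, _root_.or_false, _root_.or_true])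
  simp only [ev_cons, ev_nil, gA, mul_one] at this
  have h2 : x * be y t u * x * y * x * y * be y t u * y * x * y * be y t u * x * t⁻¹ = 1 := by
    unfold be
    simpa only [mul_assoc] using this
  exact (mul_inv_eq_one.mp h2).symm

theorem u_eq : u = be y t u * x * y * x * y * be y t u * x * y * x * be y t u * y := by
  have := h.tgA [2,4,1,2,5,0,1,0,1,2,4,1,2,5,0,1,0,2,4,1,2,5,1,5] (by simp only [PresA6Data.targets, _root_.List.mem_cons, _root_.List.cons.injEq, _root_.OfNat.zero_ne_ofNat, _root_.OfNat.one_ne_ofNat, _root_.zero_ne_one, _root_.Nat.reduceEqDiff, _root_.reduceCtorEq, _root_.and_self, _root_.and_false, _root_.one_ne_zero, _root_.Nat.succ_ne_self, _root_.OfNat.ofNat_ne_zero, _root_.OfNat.ofNat_ne_one, _root_.List.nil_eq, _root_.List.ne_cons_self, _root_.List.not_mem_nil, _root_.or_false, _root_.or_true])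
  simp only [ev_cons, ev_nil, gA, mul_one] at this
  have h2 : be y t u * x * y * x * y * be y t u * x * y * x * be y t u * y * u⁻¹ = 1 := by
    unfold be
    simpa only [mul_assoc] using this
  exact (mul_inv_eq_one.mp h2).symm

theorem invB : ∀ i, i < 8 → gB x y t u r (be y t u) i * gB x y t u r (be y t u) (PresBrData.C.inv i) = 1 := by
  intro i hi
  interval_cases i
  · exact h.x2
  · exact h.y2
  · exact mul_inv_cancel t
  · exact inv_mul_cancel t
  · exact mul_inv_cancel u
  · exact inv_mul_cancel u
  · exact h.r2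
  · exact h.be_sq

theorem be_def : be y t u * (t * (u * (y * (t * u⁻¹)))) = 1 := by
  have := h.be_sq
  rw [show t * (u * (y * (t * u⁻¹))) = be y t u by unfold be; simp only [mul_assoc]]
  exact this

theorem relB : ∀ w ∈ PresBrData.rels, ev (gB x y t u r (be y t u)) w = 1 := by
  have h1 := h.w1
  have h2 := h.w2
  have h3 := h.w3
  have h4 := h.w4
  have h5 := h.w5
  have h6 := h.w6
  have h7 := h.be_def
  have k1 := h.be_x
  have k2 := h.be_y
  have k3 := h.be_xy
  have k4 := h.be_z
  generalize be y t u = b at *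
  intro w hw
  simp only [PresBrData.rels, List.mem_cons, List.not_mem_nil, or_false] at hw
  rcases hw with rfl | rfl | rfl | rfl | rfl | rfl | rfl | rfl | rfl | rfl | rfl | rfl | rfl | rfl | rfl | rfl |
    rfl | rfl | rfl | rfl | rfl | rfl <;>
    simp only [ev_cons, ev_nil, gB, mul_one]
  · exact eq_one_trans (by simp only [pow_succ, pow_zero, one_mul, mul_assoc]) h.t3
  · exact eq_one_trans (by simp only [pow_succ, pow_zero, one_mul, mul_assoc]) h.u3
  · exact eq_one_trans (by simp only [mul_assoc]) h.ty
  · exact eq_one_trans (by simp only [mul_assoc]) h.ux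
  · exact h5
  · exact h6
  · exact h7
  · exact eq_one_trans (by simp only [pow_succ, pow_zero, one_mul, mul_assoc]) k1
  · exact eq_one_trans (by simp only [pow_succ, pow_zero, one_mul, mul_assoc]) k2
  · exact h1
  · exact eq_one_trans (by simp only [pow_succ, pow_zero, one_mul, mul_assoc]) h.rt
  · exact eq_one_trans (by simp only [pow_succ, pow_zero, one_mul, mul_assoc]) h.ru
  · exact h2
  · exact h3
  · exact eq_one_trans (by simp only [pow_succ, pow_zero, one_mul, mul_assoc]) h.xy4
  · exact h4
  · exact eq_one_trans (by simp only [pow_succ, pow_zero, one_mul, mul_assoc]) h.j2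
  · exact eq_one_trans (by simp only [pow_succ, pow_zero, one_mul, mul_assoc]) h.j1
  · exact eq_one_trans (by simp only [pow_succ, pow_zero, one_mul, mul_assoc]) k3
  · exact eq_one_trans (by simp only [pow_succ, pow_zero, one_mul, mul_assoc]) h.l1
  · exact eq_one_trans (by simp only [pow_succ, pow_zero, one_mul, mul_assoc]) h.l2
  · exact eq_one_trans (by simp only [pow_succ, pow_zero, one_mul, mul_assoc]) k4

theorem be_r : (be y t u * r) ^ 3 = 1 := by
  have := PresBr.eq_one (gB x y t u r (be y t u)) h.invB h.relB [7,6,7,6,7,6] (by simp [PresBrData.targets])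
  simp only [ev_cons, ev_nil, gB, mul_one] at this
  simpa only [pow_succ, pow_zero, one_mul, mul_assoc] using this

theorem relZb : ∀ w ∈ PresZbData.rels, ev (gB x y t u r (be y t u)) w = 1 := by
  have h1 := h.w1
  have h2 := h.w2
  have h3 := h.w3
  have h4 := h.w4
  have h5 := h.w5
  have h6 := h.w6
  have h7 := h.be_def
  have k1 := h.be_x
  have k2 := h.be_y
  have k3 := h.be_xy
  have k4 := h.be_z
  have k5 := h.be_r
  generalize be y t u = b at *
  intro w hw
  simp only [PresZbData.rels, List.mem_cons, List.not_mem_nil, or_false] at hw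
  rcases hw with rfl | rfl | rfl | rfl | rfl | rfl | rfl | rfl | rfl | rfl | rfl | rfl | rfl | rfl | rfl | rfl |
    rfl | rfl | rfl | rfl | rfl | rfl | rfl <;>
    simp only [ev_cons, ev_nil, gB, mul_one]
  · exact eq_one_trans (by simp only [pow_succ, pow_zero, one_mul, mul_assoc]) h.t3
  · exact eq_one_trans (by simp only [pow_succ, pow_zero, one_mul, mul_assoc]) h.u3
  · exact eq_one_trans (by simp only [mul_assoc]) h.ty
  · exact eq_one_trans (by simp only [mul_assoc]) h.ux
  · exact h5
  · exact h6
  · exact h7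
  · exact eq_one_trans (by simp only [pow_succ, pow_zero, one_mul, mul_assoc]) k1
  · exact eq_one_trans (by simp only [pow_succ, pow_zero, one_mul, mul_assoc]) k2
  · exact h1
  · exact eq_one_trans (by simp only [pow_succ, pow_zero, one_mul, mul_assoc]) h.rt
  · exact eq_one_trans (by simp only [pow_succ, pow_zero, one_mul, mul_assoc]) h.ru
  · exact eq_one_trans (by simp only [pow_succ, pow_zero, one_mul, mul_assoc]) k5
  · exact h2
  · exact h3
  · exact eq_one_trans (by simp only [pow_succ, pow_zero, one_mul, mul_assoc]) h.xy4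
  · exact h4
  · exact eq_one_trans (by simp only [pow_succ, pow_zero, one_mul, mul_assoc]) h.j2
  · exact eq_one_trans (by simp only [pow_succ, pow_zero, one_mul, mul_assoc]) h.j1
  · exact eq_one_trans (by simp only [pow_succ, pow_zero, one_mul, mul_assoc]) k3
  · exact eq_one_trans (by simp only [pow_succ, pow_zero, one_mul, mul_assoc]) h.l1
  · exact eq_one_trans (by simp only [pow_succ, pow_zero, one_mul, mul_assoc]) h.l2
  · exact eq_one_trans (by simp only [pow_succ, pow_zero, one_mul, mul_assoc]) k4

theorem invZb : ∀ i, i < 8 → gB x y t u r (be y t u) i * gB x y t u r (be y t u) (PresZbData.C.inv i) = 1 := by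
  intro i hi
  interval_cases i
  · exact h.x2
  · exact h.y2
  · exact mul_inv_cancel t
  · exact inv_mul_cancel t
  · exact mul_inv_cancel u
  · exact inv_mul_cancel u
  · exact h.r2
  · exact h.be_sq

theorem zbrx : ((x * y) ^ 2 * be y t u * r * x) ^ 5 = 1 := by
  have := PresZb.eq_one (gB x y t u r (be y t u)) h.invZb h.relZb
    [0,1,0,1,7,6,1,0,1,7,6,1,0,1,7,6,1,0,1,7,6,1,0,1,7,6,0] (by simp [PresZbData.targets])
  simp only [ev_cons, ev_nil, gB, mul_one] at this
  generalize be y t u = b at *
  -- the target word is the freely (with squares) reduced form of `(z b r x)^5`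
  have hxx : ∀ w : G, x * (x * w) = w := by intro w; rw [← mul_assoc, h.x2, one_mul]
  refine eq_one_trans ?_ this
  simp only [pow_succ, pow_zero, one_mul, mul_assoc, hxx]

end RelsL

end Cfsg.Agent.SuzType.PresRel
end

-- part: SuzType/AltFive
section
/-!
# Explicit elements of `A₅` for the presentation of `Suz`
-/

set_option autoImplicit false
set_option maxRecDepth 100000

namespace Cfsg.Agent.SuzType.AltFive

open Equiv

/-- `(2 3 4)` -/
def τ : alternatingGroup (Fin 5) := ⟨swap 2 3 * swap 3 4, by
  rw [Equiv.Perm.mem_alternatingGroup, map_mul, Equiv.Perm.sign_swap (by decide), Equiv.Perm.sign_swap (by decide)]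
  rfl⟩

/-- `(0 1)(2 3)` -/
def δ : alternatingGroup (Fin 5) := ⟨swap 0 1 * swap 2 3, by
  rw [Equiv.Perm.mem_alternatingGroup, map_mul, Equiv.Perm.sign_swap (by decide), Equiv.Perm.sign_swap (by decide)]
  rfl⟩

/-- `(2 3)(1 4)` -/
def ε : alternatingGroup (Fin 5) := ⟨swap 2 3 * swap 1 4, by
  rw [Equiv.Perm.mem_alternatingGroup, map_mul, Equiv.Perm.sign_swap (by decide), Equiv.Perm.sign_swap (by decide)]
  rfl⟩

theorem τ_zero : (τ : Perm (Fin 5)) 0 = 0 := by decide
theorem τ_one : (τ : Perm (Fin 5)) 1 = 1 := by decide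
theorem τ_two : (τ : Perm (Fin 5)) 2 = 3 := by decide
theorem δ_zero : (δ : Perm (Fin 5)) 0 = 1 := by decide
theorem ε_zero : (ε : Perm (Fin 5)) 0 = 0 := by decide

theorem τ_cube : τ ^ 3 = 1 := Subtype.ext (by
  rw [Subgroup.coe_pow]
  show (swap 2 3 * swap 3 4 : Perm (Fin 5)) ^ 3 = 1
  decide)

theorem δ_sq : δ * δ = 1 := Subtype.ext (by
  rw [Subgroup.coe_mul]
  show (swap 0 1 * swap 2 3 : Perm (Fin 5)) * (swap 0 1 * swap 2 3) = 1
  decide)

theorem ε_sq : ε * ε = 1 := Subtype.ext (by
  rw [Subgroup.coe_mul]
  show (swap 2 3 * swap 1 4 : Perm (Fin 5)) * (swap 2 3 * swap 1 4) = 1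
  decide)

theorem δε : (δ * ε) ^ 3 = 1 := Subtype.ext (by
  rw [Subgroup.coe_pow, Subgroup.coe_mul]
  show ((swap 0 1 * swap 2 3 : Perm (Fin 5)) * (swap 2 3 * swap 1 4)) ^ 3 = 1
  decide)

theorem τε : (τ * ε) ^ 3 = 1 := Subtype.ext (by
  rw [Subgroup.coe_pow, Subgroup.coe_mul]
  show ((swap 2 3 * swap 3 4 : Perm (Fin 5)) * (swap 2 3 * swap 1 4)) ^ 3 = 1
  decide)

theorem ττε : (τ * τ * ε) ^ 3 = 1 := Subtype.ext (by
  rw [Subgroup.coe_pow, Subgroup.coe_mul, Subgroup.coe_mul]
  show ((swap 2 3 * swap 3 4 : Perm (Fin 5)) * (swap 2 3 * swap 3 4) * (swap 2 3 * swap 1 4)) ^ 3 = 1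
  decide)

theorem exists_perm (i j : Fin 5) (h : i ≠ j) : ∃ p : Perm (Fin 5), p 0 = i ∧ p 1 = j := by
  refine ⟨swap (swap 0 i 1) j * swap 0 i, ?_, ?_⟩
  · rw [Perm.mul_apply, swap_apply_left, swap_apply_of_ne_of_ne ?_ h]
    intro h1
    have : swap 0 i 0 = swap 0 i 1 := by rw [swap_apply_left]; exact h1
    exact absurd ((swap 0 i).injective this) (by decide)
  · rw [Perm.mul_apply, swap_apply_left]

/-- `A₅` is doubly transitive. -/
theorem exists_alt (i j : Fin 5) (h : i ≠ j) :
    ∃ σ : alternatingGroup (Fin 5), (σ : Perm (Fin 5)) 0 = i ∧ (σ : Perm (Fin 5)) 1 = j := by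
  obtain ⟨p, h0, h1⟩ := exists_perm i j h
  rcases Int.units_eq_one_or (Perm.sign p) with hs | hs
  · exact ⟨⟨p, Perm.mem_alternatingGroup.mpr hs⟩, h0, h1⟩
  · refine ⟨⟨p * swap 2 3, Perm.mem_alternatingGroup.mpr ?_⟩, ?_, ?_⟩
    · rw [map_mul, hs, Perm.sign_swap (by decide)]; rfl
    · show (p * swap 2 3 : Perm (Fin 5)) 0 = i
      rw [Perm.mul_apply, swap_apply_of_ne_of_ne (by decide) (by decide), h0]
    · show (p * swap 2 3 : Perm (Fin 5)) 1 = j
      rw [Perm.mul_apply, swap_apply_of_ne_of_ne (by decide) (by decide), h1]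

theorem exists_alt_zero (i : Fin 5) : ∃ σ : alternatingGroup (Fin 5), (σ : Perm (Fin 5)) 0 = i := by
  obtain ⟨j, hj⟩ := exists_ne i
  obtain ⟨σ, h, -⟩ := exists_alt i j hj.symm
  exact ⟨σ, h⟩

/-- the generators `τ, δ, ε` as permutations -/
def gp : ℕ → Perm (Fin 5)
  | 0 => swap 2 3 * swap 3 4
  | 1 => swap 0 1 * swap 2 3
  | _ => swap 2 3 * swap 1 4

/-- 60 words in `τ, δ, ε` -/
def wl : List (List ℕ) :=
  (by
  refine (?fq9031 : ((pk61l (fun i1 => ((fun g1 : Nat → Nat => pk61l (fun i2 => (pk61d (nat_lit 2) 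
    (nat_lit 0x1860218861618492486218192186086866186498649121248861906218421928986646261604948242120191809089228606584892060a61908424) i2)) (g1 i1) (g1 (Nat.succ i1)) List.nil) fun j => (pk61d (nat_lit 8) 
    (nat_lit 0xece5ded8d2ccc6c0bab4aea9a49f9a95908b86817c77726e6a66625e5a56524e4a46423e3a36322f2c292623201d1a1714110f0d0b0907050302010000) j))) (nat_lit 0) (nat_lit 60) List.nil) : List (List ℕ))
    = ?xq9031 → (List (List ℕ))) ?hq9031; (case hq9031 => (set_option maxRecDepth 1000000 in conv => lhs; reduce)); intro _; exact ?xq9031 : List (List ℕ))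

theorem wl_spec : ∀ p : Perm (Fin 5), Perm.sign p = 1 → ∃ w ∈ wl, (w.map gp).prod = p := by decide +kernel

theorem gen (K : Subgroup (alternatingGroup (Fin 5))) (h1 : τ ∈ K) (h2 : δ ∈ K) (h3 : ε ∈ K) : K = ⊤ := by
  rw [eq_top_iff]
  intro σ _
  obtain ⟨w, -, hw⟩ := wl_spec σ (Perm.mem_alternatingGroup.mp σ.2)
  have key : ∀ w : List ℕ, ∃ k ∈ K, (k : Perm (Fin 5)) = (w.map gp).prod := by
    intro w
    induction w with
    | nil => exact ⟨1, K.one_mem, rfl⟩
    | cons i w ih =>
      obtain ⟨k, hk, e⟩ := ih
      have hi : ∃ l ∈ K, (l : Perm (Fin 5)) = gp i := by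
        match i with
        | 0 => exact ⟨τ, h1, rfl⟩
        | 1 => exact ⟨δ, h2, rfl⟩
        | (n + 2) => exact ⟨ε, h3, rfl⟩
      obtain ⟨l, hl, e'⟩ := hi
      refine ⟨l * k, K.mul_mem hl hk, ?_⟩
      rw [Subgroup.coe_mul, e, e', List.map_cons, List.prod_cons]
  obtain ⟨k, hk, e⟩ := key w
  have : k = σ := Subtype.ext (e.trans hw)
  rw [← this]
  exact hk

end Cfsg.Agent.SuzType.AltFive
end

-- part: SuzType/SuzPres
section
/-!
# A copy of the presented `Suz` inside a group with the local relations (node N6)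
-/

set_option autoImplicit false

namespace Cfsg.Agent.SuzType.SuzPres

open Cfsg.Agent.SporadicRecognition.CosetCert
open Cfsg.Agent.LargeExtra.SuzPlane Cfsg.Agent.SuzType.PresRel Cfsg.Agent.SuzType.AltFive

variable {G : Type*} [Group G]

/-- The input of node N6. -/
structure Dat (x y r t u : G) (c : Fin 5 → G) (κ : alternatingGroup (Fin 5) →* G) : Prop
    extends RelsL x y r t u where
  z_ne : (x * y) ^ 2 ≠ 1
  c_zero : c 0 = r
  c_sq : ∀ i, c i * c i = 1
  c_anti : ∀ i j, i ≠ j → c i * c j = (x * y) ^ 2 * (c j * c i)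
  κ_conj : ∀ (σ : alternatingGroup (Fin 5)) i, κ σ * c i * (κ σ)⁻¹ = c ((σ : Equiv.Perm (Fin 5)) i)
  κx : ∀ σ, κ σ * x = x * κ σ
  κy : ∀ σ, κ σ * y = y * κ σ
  κt : ∀ σ, κ σ * t = t * κ σ
  κu : ∀ σ, κ σ * u = u * κ σ
  syl : ∀ s : G, s ^ 3 = 1 → s * c 0 = c 0 * s → s * c 1 = c 1 * s → s * κ τ = κ τ * s →
    s ∈ Subgroup.zpowers (κ τ)

theorem sq_inv {s : G} (h : s * s = 1) : s⁻¹ = s := inv_eq_of_mul_eq_one_right h

/-- if `(d c b)^5 s (b c d)^5 s = 1` for involutions, then `(b c d)^5` commutes with `s` -/
theorem comm_of_word {b c d s : G} (hb : b * b = 1) (hc : c * c = 1) (hd : d * d = 1) (hs : s * s = 1)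
    (h : (d * c * b) ^ 5 * s * (b * c * d) ^ 5 * s = 1) :
    (b * c * d) ^ 5 * s = s * (b * c * d) ^ 5 := by
  have e1 : d * c * b = (b * c * d)⁻¹ := by
    rw [mul_inv_rev, mul_inv_rev, sq_inv hb, sq_inv hc, sq_inv hd, mul_assoc]
  rw [e1, inv_pow] at h
  have h2 : ((b * c * d) ^ 5)⁻¹ * s * (b * c * d) ^ 5 = s := by
    rw [mul_eq_one_iff_eq_inv, sq_inv hs] at h
    exact h
  calc (b * c * d) ^ 5 * s = (b * c * d) ^ 5 * (((b * c * d) ^ 5)⁻¹ * s * (b * c * d) ^ 5) := by rw [h2]
    _ = s * (b * c * d) ^ 5 := by group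

/-- The relators of `PresZe`: `ζ = (b c d)^5` satisfies `ζ^3 = 1`, and commutes with `c` and `d`. -/
theorem zeta_rels {a b c d : G} (ha : a * a = 1) (hb : b * b = 1) (hc : c * c = 1) (hd : d * d = 1)
    (hac : a * c = c * a) (had : a * d = d * a) (hcd : (c * d) ^ 2 = a) (hbc : (b * c) ^ 3 = 1)
    (hbd : (b * d) ^ 3 = 1) (hab : (a * b) ^ 5 = 1) :
    ((b * c * d) ^ 5) ^ 3 = 1 ∧ (b * c * d) ^ 5 * c = c * (b * c * d) ^ 5 ∧
      (b * c * d) ^ 5 * d = d * (b * c * d) ^ 5 := by
  have hinv : ∀ i, i < 4 → gZ a b c d i * gZ a b c d (PresZeData.C.inv i) = 1 := by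
    intro i hi
    interval_cases i
    · exact ha
    · exact hb
    · exact hc
    · exact hd
  have e1 : a * (c * (a * c)) = 1 := by
    rw [hac, ← mul_assoc c c, hc, one_mul, ha]
  have e2 : a * (d * (a * d)) = 1 := by
    rw [had, ← mul_assoc d d, hd, one_mul, ha]
  have e3 : c * (d * (c * (d * a))) = 1 := by
    have : (c * d) ^ 2 * a = 1 := by rw [hcd, ha]
    simpa only [pow_two, mul_assoc] using this
  have hrel : ∀ w ∈ PresZeData.rels, ev (gZ a b c d) w = 1 := by
    intro w hw
    simp only [PresZeData.rels, List.mem_cons, List.not_mem_nil, or_false] at hw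
    rcases hw with rfl | rfl | rfl | rfl | rfl | rfl <;> simp only [ev_cons, ev_nil, gZ, mul_one]
    · exact e1
    · exact e2
    · exact e3
    · exact eq_one_trans (by simp only [pow_succ, pow_zero, one_mul, mul_assoc]) hbc
    · exact eq_one_trans (by simp only [pow_succ, pow_zero, one_mul, mul_assoc]) hbd
    · exact eq_one_trans (by simp only [pow_succ, pow_zero, one_mul, mul_assoc]) hab
  have key := PresZe.eq_one (gZ a b c d) hinv hrel
  refine ⟨?_, ?_, ?_⟩
  · have := key [1,2,3,1,2,3,1,2,3,1,2,3,1,2,3,1,2,3,1,2,3,1,2,3,1,2,3,1,2,3,1,2,3,1,2,3,1,2,3,1,2,3,1,2,3]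
      (by simp only [PresZeData.targets, _root_.List.mem_cons, _root_.List.cons.injEq, _root_.OfNat.one_ne_ofNat, _root_.OfNat.ofNat_ne_one, _root_.Nat.succ_ne_self, _root_.reduceCtorEq, _root_.and_false, _root_.and_self, _root_.List.not_mem_nil, _root_.or_self, _root_.or_false])
    simp only [ev_cons, ev_nil, gZ, mul_one] at this
    rw [← pow_mul]
    simpa only [pow_succ, pow_zero, one_mul, mul_assoc] using this
  · refine comm_of_word hb hc hd hc ?_
    have := key [3,2,1,3,2,1,3,2,1,3,2,1,3,2,1,2,1,2,3,1,2,3,1,2,3,1,2,3,1,2,3,2]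
      (by simp only [PresZeData.targets, _root_.List.mem_cons, _root_.List.cons.injEq, _root_.OfNat.ofNat_ne_one, _root_.OfNat.one_ne_ofNat, _root_.Nat.reduceEqDiff, _root_.List.nil_eq, _root_.reduceCtorEq, _root_.and_false, _root_.and_self, _root_.List.not_mem_nil, _root_.or_self, _root_.or_false, _root_.or_true])
    simp only [ev_cons, ev_nil, gZ, mul_one] at this
    simpa only [pow_succ, pow_zero, one_mul, mul_assoc] using this
  · refine comm_of_word hb hc hd hd ?_
    have := key [3,2,1,3,2,1,3,2,1,3,2,1,3,2,1,3,1,2,3,1,2,3,1,2,3,1,2,3,1,2]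
      (by simp only [PresZeData.targets, _root_.List.mem_cons, _root_.List.cons.injEq, _root_.OfNat.ofNat_ne_one, _root_.OfNat.one_ne_ofNat, _root_.Nat.reduceEqDiff, _root_.List.nil_eq, _root_.reduceCtorEq, _root_.and_self, _root_.and_false, _root_.Nat.succ_ne_self, _root_.List.not_mem_nil, _root_.or_false, _root_.or_true])
    simp only [ev_cons, ev_nil, gZ, mul_one] at this
    refine eq_one_trans ?_ this
    simp only [pow_succ, pow_zero, one_mul, mul_assoc, hd, mul_one]

namespace Dat

variable {x y r t u : G} {c : Fin 5 → G} {κ : alternatingGroup (Fin 5) →* G} (h : Dat x y r t u c κ)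
include h

theorem κz (σ : alternatingGroup (Fin 5)) : κ σ * (x * y) ^ 2 = (x * y) ^ 2 * κ σ := by
  have h1 : Commute (κ σ) x := h.κx σ
  have h2 : Commute (κ σ) y := h.κy σ
  exact ((h1.mul_right h2).pow_right 2).eq

theorem κb (σ : alternatingGroup (Fin 5)) : κ σ * be y t u = be y t u * κ σ := by
  have h2 : Commute (κ σ) y := h.κy σ
  have h3 : Commute (κ σ) t := h.κt σ
  have h4 : Commute (κ σ) u := h.κu σ
  exact ((((h3.mul_right h4).mul_right h2).mul_right h3).mul_right h4.inv_right).eq

theorem conj_c (σ : alternatingGroup (Fin 5)) (i : Fin 5) :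
    κ σ * c i = c ((σ : Equiv.Perm (Fin 5)) i) * κ σ := by
  rw [← h.κ_conj σ i]; group

theorem conj_b (σ : alternatingGroup (Fin 5)) : κ σ * be y t u * (κ σ)⁻¹ = be y t u := by
  rw [h.κb σ]; group

theorem conj_z (σ : alternatingGroup (Fin 5)) : κ σ * (x * y) ^ 2 * (κ σ)⁻¹ = (x * y) ^ 2 := by
  rw [h.κz σ]; group

theorem zc (i : Fin 5) : (x * y) ^ 2 * c i = c i * (x * y) ^ 2 := by
  obtain ⟨σ, hσ⟩ := exists_alt_zero i
  have e1 : c i = κ σ * r * (κ σ)⁻¹ := by rw [← h.c_zero, h.κ_conj, hσ]
  calc (x * y) ^ 2 * c i = (κ σ * (x * y) ^ 2 * (κ σ)⁻¹) * (κ σ * r * (κ σ)⁻¹) := by rw [h.conj_z, e1]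
    _ = κ σ * ((x * y) ^ 2 * r) * (κ σ)⁻¹ := by group
    _ = κ σ * (r * (x * y) ^ 2) * (κ σ)⁻¹ := by rw [h.zr]
    _ = (κ σ * r * (κ σ)⁻¹) * (κ σ * (x * y) ^ 2 * (κ σ)⁻¹) := by group
    _ = c i * (x * y) ^ 2 := by rw [h.conj_z, e1]

theorem bc (i : Fin 5) : (be y t u * c i) ^ 3 = 1 := by
  obtain ⟨σ, hσ⟩ := exists_alt_zero i
  have e1 : c i = κ σ * r * (κ σ)⁻¹ := by rw [← h.c_zero, h.κ_conj, hσ]
  have e2 : be y t u * c i = κ σ * (be y t u * r) * (κ σ)⁻¹ := by
    calc be y t u * c i = (κ σ * be y t u * (κ σ)⁻¹) * (κ σ * r * (κ σ)⁻¹) := by rw [h.conj_b, e1]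
      _ = _ := by group
  rw [e2, conj_pow, h.be_r]; group

theorem cc (i j : Fin 5) (hij : i ≠ j) : (c i * c j) ^ 2 = (x * y) ^ 2 := by
  rw [pow_two]
  calc c i * c j * (c i * c j) = c i * c j * c i * c j := by group
    _ = (x * y) ^ 2 * (c j * c i) * c i * c j := by rw [h.c_anti i j hij]
    _ = (x * y) ^ 2 * (c j * (c i * c i) * c j) := by group
    _ = _ := by rw [h.c_sq, mul_one, h.c_sq, mul_one]

theorem zb : ((x * y) ^ 2 * be y t u) ^ 5 = 1 := by
  have e : (x * y) ^ 2 * be y t u = (x * y) ^ 2 * (be y t u * (x * y) ^ 2) * ((x * y) ^ 2)⁻¹ := by group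
  rw [e, conj_pow, h.be_z]; group

/-- the element `ζ` -/
def zet (_ : Dat x y r t u c κ) : G := (be y t u * c 0 * c 1) ^ 5

theorem z_rels : h.zet ^ 3 = 1 ∧ h.zet * c 0 = c 0 * h.zet ∧ h.zet * c 1 = c 1 * h.zet :=
  zeta_rels h.z2 h.be_sq (h.c_sq 0) (h.c_sq 1) (h.zc 0) (h.zc 1) (h.cc 0 1 (by decide)) (h.bc 0) (h.bc 1) h.zb

theorem z_tau : h.zet * κ τ = κ τ * h.zet := by
  have h1 : Commute (κ τ) (be y t u) := h.κb τ
  have h2 : Commute (κ τ) (c 0) := by
    have := h.conj_c τ 0
    rw [τ_zero] at this
    exact this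
  have h3 : Commute (κ τ) (c 1) := by
    have := h.conj_c τ 1
    rw [τ_one] at this
    exact this
  exact (((h1.mul_right h2).mul_right h3).pow_right 5).eq.symm

/-- `ζ = 1` implies `(b c_i c_j)^5 = 1` for all `i ≠ j` -/
theorem all_five (h1 : h.zet = 1) (i j : Fin 5) (hij : i ≠ j) : (be y t u * c i * c j) ^ 5 = 1 := by
  obtain ⟨σ, h0, h2⟩ := exists_alt i j hij
  have e : be y t u * c i * c j = κ σ * (be y t u * c 0 * c 1) * (κ σ)⁻¹ := by
    calc be y t u * c i * c j = (κ σ * be y t u * (κ σ)⁻¹) * (κ σ * c 0 * (κ σ)⁻¹) * (κ σ * c 1 * (κ σ)⁻¹) := by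
          rw [h.conj_b, h.κ_conj, h.κ_conj, h0, h2]
      _ = _ := by group
  have h3 : (be y t u * c 0 * c 1) ^ 5 = 1 := h1
  rw [e, conj_pow, h3]; group

theorem zet_ne : h.zet ≠ 1 := by
  intro h1
  have h5 := h.all_five h1
  have hz2 := h.z2
  have hb := h.be_sq
  have hzb := h.zb
  have hbc := h.bc
  have hcc := h.cc
  have hzc := h.zc
  have hcs := h.c_sq
  set b := be y t u with hbd
  set z := (x * y) ^ 2 with hzd
  have hinv : ∀ i, i < 6 → gC z b (c 0) (c 1) (c 2) (c 3) i *
      gC z b (c 0) (c 1) (c 2) (c 3) (PresColData.C.inv i) = 1 := by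
    intro i hi
    interval_cases i
    · exact hz2
    · exact hb
    · exact hcs 0
    · exact hcs 1
    · exact hcs 2
    · exact hcs 3
  have e1 : ∀ i, z * (c i * (z * c i)) = 1 := by
    intro i
    rw [hzc i, ← mul_assoc (c i) (c i), hcs, one_mul, hz2]
  have e3 : ∀ i j, i ≠ j → c i * (c j * (c i * (c j * z))) = 1 := by
    intro i j hij
    have : (c i * c j) ^ 2 * z = 1 := by rw [hcc i j hij, hz2]
    simpa only [pow_two, mul_assoc] using this
  have hrel : ∀ w ∈ PresColData.rels, ev (gC z b (c 0) (c 1) (c 2) (c 3)) w = 1 := by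
    intro w hw
    simp only [PresColData.rels, List.mem_cons, List.not_mem_nil, or_false] at hw
    rcases hw with rfl | rfl | rfl | rfl | rfl | rfl | rfl | rfl | rfl | rfl | rfl | rfl | rfl | rfl | rfl |
      rfl | rfl | rfl | rfl | rfl | rfl | rfl | rfl | rfl | rfl | rfl | rfl <;>
      simp only [ev_cons, ev_nil, gC, mul_one]
    · exact e1 0
    · exact e1 1
    · exact e1 2
    · exact e1 3
    · exact e3 0 1 (by decide)
    · exact e3 0 2 (by decide)
    · exact e3 0 3 (by decide)
    · exact e3 1 2 (by decide)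
    · exact e3 1 3 (by decide)
    · exact e3 2 3 (by decide)
    · exact eq_one_trans (by simp only [pow_succ, pow_zero, one_mul, mul_assoc]) (hbc 0)
    · exact eq_one_trans (by simp only [pow_succ, pow_zero, one_mul, mul_assoc]) (hbc 1)
    · exact eq_one_trans (by simp only [pow_succ, pow_zero, one_mul, mul_assoc]) (hbc 2)
    · exact eq_one_trans (by simp only [pow_succ, pow_zero, one_mul, mul_assoc]) (hbc 3)
    · exact eq_one_trans (by simp only [pow_succ, pow_zero, one_mul, mul_assoc]) hzb
    · exact eq_one_trans (by simp only [pow_succ, pow_zero, one_mul, mul_assoc]) (h5 0 1 (by decide))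
    · exact eq_one_trans (by simp only [pow_succ, pow_zero, one_mul, mul_assoc]) (h5 0 2 (by decide))
    · exact eq_one_trans (by simp only [pow_succ, pow_zero, one_mul, mul_assoc]) (h5 0 3 (by decide))
    · exact eq_one_trans (by simp only [pow_succ, pow_zero, one_mul, mul_assoc]) (h5 1 0 (by decide))
    · exact eq_one_trans (by simp only [pow_succ, pow_zero, one_mul, mul_assoc]) (h5 1 2 (by decide))
    · exact eq_one_trans (by simp only [pow_succ, pow_zero, one_mul, mul_assoc]) (h5 1 3 (by decide))
    · exact eq_one_trans (by simp only [pow_succ, pow_zero, one_mul, mul_assoc]) (h5 2 0 (by decide))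
    · exact eq_one_trans (by simp only [pow_succ, pow_zero, one_mul, mul_assoc]) (h5 2 1 (by decide))
    · exact eq_one_trans (by simp only [pow_succ, pow_zero, one_mul, mul_assoc]) (h5 2 3 (by decide))
    · exact eq_one_trans (by simp only [pow_succ, pow_zero, one_mul, mul_assoc]) (h5 3 0 (by decide))
    · exact eq_one_trans (by simp only [pow_succ, pow_zero, one_mul, mul_assoc]) (h5 3 1 (by decide))
    · exact eq_one_trans (by simp only [pow_succ, pow_zero, one_mul, mul_assoc]) (h5 3 2 (by decide))
  -- the centralizer of `κ τ` contains `b, c 0, c 1`, hence `c 2`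
  have hmem : c 2 ∈ Subgroup.centralizer ({κ τ} : Set G) := by
    have hb' : b ∈ Subgroup.centralizer ({κ τ} : Set G) := by
      rw [Subgroup.mem_centralizer_singleton_iff]
      exact (h.κb τ).symm
    have h0 : c 0 ∈ Subgroup.centralizer ({κ τ} : Set G) := by
      rw [Subgroup.mem_centralizer_singleton_iff]
      have := h.conj_c τ 0
      rw [τ_zero] at this
      exact this.symm
    have h1 : c 1 ∈ Subgroup.centralizer ({κ τ} : Set G) := by
      rw [Subgroup.mem_centralizer_singleton_iff]
      have := h.conj_c τ 1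
      rw [τ_one] at this
      exact this.symm
    have := PresCol.mem (Subgroup.centralizer ({κ τ} : Set G)) (gC z b (c 0) (c 1) (c 2) (c 3)) hinv hrel
      (by
        intro s hs
        simp only [PresColData.subw, List.mem_cons, List.not_mem_nil, or_false] at hs
        rcases hs with rfl | rfl | rfl <;> simp only [ev_cons, ev_nil, gC, mul_one]
        · exact hb'
        · exact h0
        · exact h1) [4] (by simp [PresColData.targets])
    simpa only [ev_cons, ev_nil, gC, mul_one] using this
  rw [Subgroup.mem_centralizer_singleton_iff] at hmem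
  have h2 := h.conj_c τ 2
  rw [τ_two] at h2
  -- `c 2 = c 3`
  have h3 : c 3 = c 2 := by
    have : c 3 * κ τ = c 2 * κ τ := by rw [← h2, ← hmem]
    exact mul_right_cancel this
  have h4 := h.c_anti 2 3 (by decide)
  rw [h3, h.c_sq, mul_one] at h4
  exact h.z_ne h4.symm

theorem zet_mem : h.zet ∈ Subgroup.zpowers (κ τ) :=
  h.syl _ h.z_rels.1 h.z_rels.2.1 h.z_rels.2.2 h.z_tau

theorem zet_eq : h.zet = κ τ ∨ h.zet = κ (τ * τ) := by
  obtain ⟨k, hk⟩ := Subgroup.mem_zpowers_iff.mp h.zet_mem
  have h3 : (κ τ) ^ 3 = 1 := by rw [← map_pow, τ_cube, map_one]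
  have hk2 : h.zet = (κ τ) ^ (k % 3) := by
    rw [← hk]
    conv_lhs => rw [← Int.emod_add_mul_ediv k 3]
    rw [zpow_add, zpow_mul]
    rw [show (κ τ) ^ (3 : ℤ) = 1 from by exact_mod_cast h3, one_zpow, mul_one]
  have h0 : 0 ≤ k % 3 := Int.emod_nonneg k (by norm_num)
  have h1 : k % 3 < 3 := Int.emod_lt_of_pos k (by norm_num)
  have h5 : k % 3 = 0 ∨ k % 3 = 1 ∨ k % 3 = 2 := by omega
  rcases h5 with h5 | h5 | h5
  · rw [h5, zpow_zero] at hk2
    exact absurd hk2 h.zet_ne
  · left
    rw [h5, zpow_one] at hk2
    exact hk2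
  · right
    rw [h5] at hk2
    rw [hk2, map_mul, ← pow_two]
    exact_mod_cast rfl

theorem tau_mem_of {K : Subgroup G} (hz : h.zet ∈ K) : κ τ ∈ K := by
  rcases h.zet_eq with h1 | h1
  · rw [← h1]; exact hz
  · have : κ τ = h.zet * h.zet := by
      rw [h1, ← map_mul]
      refine congrArg κ ?_
      have : τ * τ * (τ * τ) = τ ^ 3 * τ := by simp only [pow_succ, pow_zero, one_mul, mul_assoc]
      rw [this, τ_cube, one_mul]
    rw [this]
    exact K.mul_mem hz hz

theorem zeta_e : (h.zet * κ ε) ^ 3 = 1 := by
  rcases h.zet_eq with h1 | h1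
  · rw [h1, ← map_mul, ← map_pow, τε, map_one]
  · rw [h1, ← map_mul, ← map_pow, ττε, map_one]

end Dat

/-! ### The homomorphism -/

open Cfsg.Spor (Suz)
open Cfsg.Spor.Suz (Gen)

/-- images of the generators of `Suz` -/
def gp (x y r t u : G) (κ : alternatingGroup (Fin 5) →* G) : Gen → G
  | .a => (x * y) ^ 2
  | .b => be y t u
  | .c => r
  | .d => κ δ
  | .e => κ ε
  | .f => x
  | .g => y

theorem comm_sq {p q : G} (hp : p * p = 1) (hq : q * q = 1) (h : p * q = q * p) : (p * q) ^ 2 = 1 := by
  rw [pow_two]
  calc p * q * (p * q) = (p * q) * p * q := by group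
    _ = (q * p) * p * q := by rw [h]
    _ = q * (p * p) * q := by group
    _ = 1 := by rw [hp, mul_one, hq]

theorem flip {p q : G} (hp : p * p = 1) (hq : q * q = 1) {m : ℕ} (h : (p * q) ^ m = 1) : (q * p) ^ m = 1 := by
  have h1 : q * p = (p * q)⁻¹ := by rw [mul_inv_rev, sq_inv hp, sq_inv hq]
  rw [h1, inv_pow, h, inv_one]

namespace Dat

variable {x y r t u : G} {c : Fin 5 → G} {κ : alternatingGroup (Fin 5) →* G} (h : Dat x y r t u c κ)
include h

theorem gp_sq (i : Gen) : gp x y r t u κ i * gp x y r t u κ i = 1 := by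
  cases i
  · exact h.z2
  · exact h.be_sq
  · exact h.r2
  · show κ δ * κ δ = 1
    rw [← map_mul, δ_sq, map_one]
  · show κ ε * κ ε = 1
    rw [← map_mul, ε_sq, map_one]
  · exact h.x2
  · exact h.y2

theorem eps_r : κ ε * r = r * κ ε := by
  have := h.conj_c ε 0
  rw [ε_zero, h.c_zero] at this
  exact this

theorem del_r : κ δ * r = c 1 * κ δ := by
  have := h.conj_c δ 0
  rw [δ_zero, h.c_zero] at this
  exact this

/-- `(c d)^2 = c 0 c 1` -/
theorem cd_sq : (r * κ δ) ^ 2 = r * c 1 := by
  rw [pow_two]
  calc r * κ δ * (r * κ δ) = r * (κ δ * r) * κ δ := by group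
    _ = r * (c 1 * κ δ) * κ δ := by rw [h.del_r]
    _ = r * c 1 * (κ δ * κ δ) := by group
    _ = r * c 1 := by rw [← map_mul, δ_sq, map_one, mul_one]

theorem cd_four : (r * κ δ) ^ 4 = (x * y) ^ 2 := by
  rw [show (r * κ δ) ^ 4 = ((r * κ δ) ^ 2) ^ 2 by rw [← pow_mul], h.cd_sq]
  have := h.cc 0 1 (by decide)
  rw [h.c_zero] at this
  exact this

theorem bcdcd : be y t u * r * κ δ * r * κ δ = be y t u * c 0 * c 1 := by
  calc be y t u * r * κ δ * r * κ δ = be y t u * (r * κ δ * (r * κ δ)) := by group
    _ = be y t u * (r * κ δ) ^ 2 := by rw [pow_two]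
    _ = _ := by rw [h.cd_sq, ← h.c_zero, mul_assoc]

theorem p_ab : (gp x y r t u κ .a * gp x y r t u κ .b) ^ 5 = 1 := h.zb
theorem p_ac : (gp x y r t u κ .a * gp x y r t u κ .c) ^ 2 = 1 := comm_sq h.z2 h.r2 h.zr
theorem p_ad : (gp x y r t u κ .a * gp x y r t u κ .d) ^ 2 = 1 :=
  comm_sq h.z2 (h.gp_sq .d) (h.κz δ).symm
theorem p_ae : (gp x y r t u κ .a * gp x y r t u κ .e) ^ 2 = 1 :=
  comm_sq h.z2 (h.gp_sq .e) (h.κz ε).symm
theorem p_af : (gp x y r t u κ .a * gp x y r t u κ .f) ^ 2 = 1 := comm_sq h.z2 h.x2 h.zx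
theorem p_ag : (gp x y r t u κ .a * gp x y r t u κ .g) ^ 2 = 1 := comm_sq h.z2 h.y2 h.zy
theorem p_bc : (gp x y r t u κ .b * gp x y r t u κ .c) ^ 3 = 1 := h.be_r
theorem p_bd : (gp x y r t u κ .b * gp x y r t u κ .d) ^ 2 = 1 :=
  comm_sq h.be_sq (h.gp_sq .d) (h.κb δ).symm
theorem p_be : (gp x y r t u κ .b * gp x y r t u κ .e) ^ 2 = 1 :=
  comm_sq h.be_sq (h.gp_sq .e) (h.κb ε).symm
theorem p_bf : (gp x y r t u κ .b * gp x y r t u κ .f) ^ 3 = 1 := h.be_x
theorem p_bg : (gp x y r t u κ .b * gp x y r t u κ .g) ^ 3 = 1 := h.be_y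
theorem p_cd : (gp x y r t u κ .c * gp x y r t u κ .d) ^ 8 = 1 := by
  show (r * κ δ) ^ 8 = 1
  rw [show (r * κ δ) ^ 8 = (r * κ δ) ^ 4 * (r * κ δ) ^ 4 by rw [← pow_add], h.cd_four, h.z2]
theorem p_ce : (gp x y r t u κ .c * gp x y r t u κ .e) ^ 2 = 1 :=
  comm_sq h.r2 (h.gp_sq .e) h.eps_r.symm
theorem p_cf : (gp x y r t u κ .c * gp x y r t u κ .f) ^ 2 = 1 := comm_sq h.r2 h.x2 h.rx
theorem p_cg : (gp x y r t u κ .c * gp x y r t u κ .g) ^ 2 = 1 := comm_sq h.r2 h.y2 h.ry
theorem p_de : (gp x y r t u κ .d * gp x y r t u κ .e) ^ 3 = 1 := by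
  show (κ δ * κ ε) ^ 3 = 1
  rw [← map_mul, ← map_pow, δε, map_one]
theorem p_df : (gp x y r t u κ .d * gp x y r t u κ .f) ^ 2 = 1 := comm_sq (h.gp_sq .d) h.x2 (h.κx δ)
theorem p_dg : (gp x y r t u κ .d * gp x y r t u κ .g) ^ 2 = 1 := comm_sq (h.gp_sq .d) h.y2 (h.κy δ)
theorem p_ef : (gp x y r t u κ .e * gp x y r t u κ .f) ^ 2 = 1 := comm_sq (h.gp_sq .e) h.x2 (h.κx ε)
theorem p_eg : (gp x y r t u κ .e * gp x y r t u κ .g) ^ 2 = 1 := comm_sq (h.gp_sq .e) h.y2 (h.κy ε)
theorem p_fg : (gp x y r t u κ .f * gp x y r t u κ .g) ^ 4 = 1 := h.xy4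

theorem fl {i j : Gen} {m : ℕ} (h1 : (gp x y r t u κ i * gp x y r t u κ j) ^ m = 1) :
    (gp x y r t u κ j * gp x y r t u κ i) ^ m = 1 := flip (h.gp_sq i) (h.gp_sq j) h1

theorem cox (i j : Gen) :
    (gp x y r t u κ i * gp x y r t u κ j) ^ Cfsg.Spor.coxLabel Cfsg.Spor.Suz.edges i j = 1 := by
  cases i <;> cases j
  · exact (pow_one _).trans (h.gp_sq _)
  · exact h.p_ab
  · exact h.p_ac
  · exact h.p_ad
  · exact h.p_ae
  · exact h.p_af
  · exact h.p_ag
  · exact h.fl h.p_ab
  · exact (pow_one _).trans (h.gp_sq _)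
  · exact h.p_bc
  · exact h.p_bd
  · exact h.p_be
  · exact h.p_bf
  · exact h.p_bg
  · exact h.fl h.p_ac
  · exact h.fl h.p_bc
  · exact (pow_one _).trans (h.gp_sq _)
  · exact h.p_cd
  · exact h.p_ce
  · exact h.p_cf
  · exact h.p_cg
  · exact h.fl h.p_ad
  · exact h.fl h.p_bd
  · exact h.fl h.p_cd
  · exact (pow_one _).trans (h.gp_sq _)
  · exact h.p_de
  · exact h.p_df
  · exact h.p_dg
  · exact h.fl h.p_ae
  · exact h.fl h.p_be
  · exact h.fl h.p_ce
  · exact h.fl h.p_de
  · exact (pow_one _).trans (h.gp_sq _)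
  · exact h.p_ef
  · exact h.p_eg
  · exact h.fl h.p_af
  · exact h.fl h.p_bf
  · exact h.fl h.p_cf
  · exact h.fl h.p_df
  · exact h.fl h.p_ef
  · exact (pow_one _).trans (h.gp_sq _)
  · exact h.p_fg
  · exact h.fl h.p_ag
  · exact h.fl h.p_bg
  · exact h.fl h.p_cg
  · exact h.fl h.p_dg
  · exact h.fl h.p_eg
  · exact h.fl h.p_fg
  · exact (pow_one _).trans (h.gp_sq _)

theorem rels_hold : ∀ w ∈ (Cfsg.Spor.coxRelators Cfsg.Spor.Suz.edges ∪ {w | w ∈ Cfsg.Spor.Suz.extra} :
    Set (FreeGroup Gen)), FreeGroup.lift (gp x y r t u κ) w = 1 := by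
  refine Cfsg.Agent.Lib.PermNetOrbit.cox_lift_eq_one (gp x y r t u κ) Cfsg.Spor.Suz.edges Cfsg.Spor.Suz.extra
    (fun i _ j _ => h.cox i j) ?_
  intro w hw
  rw [Cfsg.Spor.Suz.extra, List.mem_cons, List.mem_cons, List.mem_cons, List.mem_cons,
    List.mem_singleton] at hw
  rcases hw with rfl | rfl | rfl | rfl | rfl
  · simp only [map_mul, map_inv, map_pow, FreeGroup.lift_apply_of]
    show (x * y) ^ 2 * ((r * κ δ) ^ 4)⁻¹ = 1
    rw [h.cd_four, mul_inv_cancel]
  · simp only [map_mul, map_inv, map_pow, FreeGroup.lift_apply_of]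
    show (x * y) ^ 2 * ((x * y) ^ 2)⁻¹ = 1
    rw [mul_inv_cancel]
  · simp only [map_mul, map_inv, map_pow, FreeGroup.lift_apply_of]
    exact h.zbrx
  · simp only [map_mul, map_inv, map_pow, FreeGroup.lift_apply_of]
    exact h.be_xy
  · simp only [map_mul, map_inv, map_pow, FreeGroup.lift_apply_of]
    show ((be y t u * r * κ δ * r * κ δ) ^ 5 * κ ε) ^ 3 = 1
    rw [h.bcdcd]
    exact h.zeta_e

/-- The homomorphism from the presented Suzuki group. -/
def φ : Suz →* G := PresentedGroup.toGroup h.rels_hold

theorem φ_of (i : Gen) : h.φ (PresentedGroup.of i) = gp x y r t u κ i := PresentedGroup.toGroup.of h.rels_hold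

theorem φ_a : h.φ (PresentedGroup.of .a) = (x * y) ^ 2 := h.φ_of .a
theorem φ_b : h.φ (PresentedGroup.of .b) = be y t u := h.φ_of .b
theorem φ_c : h.φ (PresentedGroup.of .c) = r := h.φ_of .c
theorem φ_d : h.φ (PresentedGroup.of .d) = κ δ := h.φ_of .d
theorem φ_e : h.φ (PresentedGroup.of .e) = κ ε := h.φ_of .e
theorem φ_f : h.φ (PresentedGroup.of .f) = x := h.φ_of .f
theorem φ_g : h.φ (PresentedGroup.of .g) = y := h.φ_of .g

theorem φ_injective : Function.Injective h.φ := by
  have hs : IsSimpleGroup Suz := Cfsg.Agent.S1694.result.1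
  rw [← MonoidHom.ker_eq_bot_iff]
  rcases IsSimpleGroup.eq_bot_or_eq_top_of_normal h.φ.ker inferInstance with hk | hk
  · exact hk
  · exfalso
    apply h.z_ne
    rw [← h.φ_a]
    have : (PresentedGroup.of Gen.a : Suz) ∈ h.φ.ker := by rw [hk]; exact Subgroup.mem_top _
    exact this

theorem x_mem : x ∈ h.φ.range := ⟨_, h.φ_f⟩
theorem y_mem : y ∈ h.φ.range := ⟨_, h.φ_g⟩
theorem r_mem : r ∈ h.φ.range := ⟨_, h.φ_c⟩
theorem z_mem : (x * y) ^ 2 ∈ h.φ.range := ⟨_, h.φ_a⟩
theorem b_mem : be y t u ∈ h.φ.range := ⟨_, h.φ_b⟩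

theorem t_mem : t ∈ h.φ.range := by
  have hx := h.x_mem
  have hy := h.y_mem
  have hb := h.b_mem
  have e := h.t_eq
  generalize h.φ.range = K at *
  generalize be y t u = b at *
  rw [e]
  exact mul_mem (mul_mem (mul_mem (mul_mem (mul_mem (mul_mem (mul_mem (mul_mem (mul_mem (mul_mem (mul_mem
    hx hb) hx) hy) hx) hy) hb) hy) hx) hy) hb) hx

theorem u_mem : u ∈ h.φ.range := by
  have hx := h.x_mem
  have hy := h.y_mem
  have hb := h.b_mem
  have e := h.u_eq
  generalize h.φ.range = K at *
  generalize be y t u = b at *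
  rw [e]
  exact mul_mem (mul_mem (mul_mem (mul_mem (mul_mem (mul_mem (mul_mem (mul_mem (mul_mem (mul_mem
    hb hx) hy) hx) hy) hb) hx) hy) hx) hb) hy

theorem c_one_mem : c 1 ∈ h.φ.range := by
  have h1 := h.κ_conj δ 0
  rw [δ_zero, h.c_zero] at h1
  rw [← h1]
  exact mul_mem (mul_mem ⟨_, h.φ_d⟩ h.r_mem) (inv_mem ⟨_, h.φ_d⟩)

theorem zet_range : h.zet ∈ h.φ.range := by
  unfold zet
  refine pow_mem (mul_mem (mul_mem h.b_mem ?_) h.c_one_mem) 5
  rw [h.c_zero]
  exact h.r_mem

theorem κ_range : κ.range ≤ h.φ.range := by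
  have h1 : h.φ.range.comap κ = ⊤ := gen _ (h.tau_mem_of h.zet_range) ⟨_, h.φ_d⟩ ⟨_, h.φ_e⟩
  rintro _ ⟨σ, rfl⟩
  have : σ ∈ h.φ.range.comap κ := by rw [h1]; exact Subgroup.mem_top _
  exact this

theorem c_mem (i : Fin 5) : c i ∈ h.φ.range := by
  obtain ⟨σ, hσ⟩ := exists_alt_zero i
  rw [← hσ, ← h.κ_conj σ 0, h.c_zero]
  have h1 : κ σ ∈ h.φ.range := h.κ_range ⟨σ, rfl⟩
  exact mul_mem (mul_mem h1 h.r_mem) (inv_mem h1)

end Dat

/-- **Node N6.** From the local data we obtain a monomorphism from the presented Suzuki group whose image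
contains `x, y, r, t, u` and the image of `κ`. -/
theorem main {x y r t u : G} {c : Fin 5 → G} {κ : alternatingGroup (Fin 5) →* G} (h : Dat x y r t u c κ) :
    ∃ φ : Suz →* G, Function.Injective φ ∧ φ (PresentedGroup.of Gen.a) = (x * y) ^ 2 ∧
      φ (PresentedGroup.of Gen.c) = r ∧ φ (PresentedGroup.of Gen.f) = x ∧ φ (PresentedGroup.of Gen.g) = y ∧
      t ∈ φ.range ∧ u ∈ φ.range ∧ (∀ i, c i ∈ φ.range) ∧ κ.range ≤ φ.range :=
  ⟨h.φ, h.φ_injective, h.φ_a, h.φ_c, h.φ_f, h.φ_g, h.t_mem, h.u_mem, h.c_mem, h.κ_range⟩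

end Cfsg.Agent.SuzType.SuzPres
end

-- part: SuzType/SuzPresCanon
section
/-!
# The input of `SuzPres.main` from the structures `PreT` and `Canon`
-/

set_option autoImplicit false

namespace Cfsg.Agent.SuzType.SuzPresCanon

open Cfsg.Agent.SuzType.AltFive Cfsg.Agent.SuzType.PresRel Cfsg.Agent.SuzType.SuzPres
open Cfsg.Agent.SuzType.CanonG Cfsg.Agent.SuzType.Swap

variable {G : Type*} [Group G]

/-- If `9` does not divide `|C|` then an element of order dividing 3 commuting with an element `τ` of order 3
is a power of `τ`. -/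
theorem mem_zpowers_of_card [Finite G] {C : Subgroup G} (hC : ¬ 9 ∣ Nat.card C) {s v : G} (hs : s ∈ C) (hv : v ∈ C)
    (s3 : s ^ 3 = 1) (v3 : v ^ 3 = 1) (hne : v ≠ 1) (hcomm : s * v = v * s) : s ∈ Subgroup.zpowers v := by
  have hp : Fact (Nat.Prime 3) := ⟨Nat.prime_three⟩
  have pg : ∀ w : G, w ^ 3 = 1 → IsPGroup 3 (Subgroup.zpowers w) := by
    intro w hw
    rintro ⟨g, hg⟩
    obtain ⟨k, rfl⟩ := Subgroup.mem_zpowers_iff.mp hg
    refine ⟨1, ?_⟩
    ext
    show (w ^ k) ^ (3 ^ 1) = 1
    rw [pow_one, ← zpow_natCast, ← zpow_mul, mul_comm, zpow_mul]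
    rw [show (w : G) ^ ((3 : ℕ) : ℤ) = 1 from by exact_mod_cast hw, one_zpow]
  have hnorm : Subgroup.zpowers s ≤ Subgroup.normalizer (Subgroup.zpowers v : Set G) := by
    rw [Subgroup.zpowers_le, Subgroup.mem_normalizer_iff]
    intro w
    have key : ∀ a : G, a ∈ Subgroup.zpowers v → s * a * s⁻¹ = a := by
      intro a ha
      obtain ⟨k, rfl⟩ := Subgroup.mem_zpowers_iff.mp ha
      have : Commute s v := hcomm
      rw [(this.zpow_right k).eq, mul_inv_cancel_right]
    constructor
    · intro h
      rw [key w h]; exact h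
    · intro h
      have h2 := key _ h
      have h3 : s * w * s⁻¹ = w := by
        calc s * w * s⁻¹ = s⁻¹ * (s * (s * w * s⁻¹) * s⁻¹) * s := by group
          _ = s⁻¹ * (s * w * s⁻¹) * s := by rw [h2]
          _ = w := by group
      rw [h3] at h
      exact h
  have hP := IsPGroup.to_sup_of_normal_right' (pg s s3) (pg v v3) hnorm
  obtain ⟨n, hn⟩ := IsPGroup.iff_card.mp hP
  have hle : Subgroup.zpowers s ⊔ Subgroup.zpowers v ≤ C := by
    rw [sup_le_iff, Subgroup.zpowers_le, Subgroup.zpowers_le]
    exact ⟨hs, hv⟩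
  have hdvd := Subgroup.card_dvd_of_le hle
  rw [hn] at hdvd
  have hn1 : n ≤ 1 := by
    by_contra hcon
    push Not at hcon
    apply hC
    have : 3 ^ 2 ∣ 3 ^ n := pow_dvd_pow 3 (by omega)
    exact (this.trans hdvd)
  have hcard : Nat.card (Subgroup.zpowers v) = 3 := by
    rw [Nat.card_zpowers]
    exact orderOf_eq_prime v3 hne
  have heq : Subgroup.zpowers v = Subgroup.zpowers s ⊔ Subgroup.zpowers v := by
    refine Subgroup.eq_of_le_of_card_ge le_sup_right ?_
    rw [hn, hcard]
    calc 3 ^ n ≤ 3 ^ 1 := Nat.pow_le_pow_right (by norm_num) hn1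
      _ = 3 := by norm_num
  rw [heq]
  exact (le_sup_left : Subgroup.zpowers s ≤ _) (Subgroup.mem_zpowers s)

theorem card_conj [Finite G] {a b a' b' g : G} (ha : g * a * g⁻¹ = a') (hb : g * b * g⁻¹ = b') :
    Nat.card (Subgroup.centralizer ({a', b'} : Set G)) = Nat.card (Subgroup.centralizer ({a, b} : Set G)) := by
  have h : Subgroup.centralizer ({a', b'} : Set G) =
      (Subgroup.centralizer ({a, b} : Set G)).map (MulAut.conj g).toMonoidHom := by
    have key : ∀ p q a b g : G, g * a * g⁻¹ = p → g * b * g⁻¹ = q → ∀ s : G, s * a = a * s → s * b = b * s →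
        (g * s * g⁻¹) * p = p * (g * s * g⁻¹) ∧ (g * s * g⁻¹) * q = q * (g * s * g⁻¹) := by
      intro p q a b g h1 h2 s hs1 hs2
      rw [← h1, ← h2]
      constructor
      · calc g * s * g⁻¹ * (g * a * g⁻¹) = g * (s * a) * g⁻¹ := by group
          _ = g * (a * s) * g⁻¹ := by rw [hs1]
          _ = _ := by group
      · calc g * s * g⁻¹ * (g * b * g⁻¹) = g * (s * b) * g⁻¹ := by group
          _ = g * (b * s) * g⁻¹ := by rw [hs2]
          _ = _ := by group
    ext s
    rw [Subgroup.mem_map, mem_cent_pair]
    constructor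
    · rintro ⟨h1, h2⟩
      refine ⟨g⁻¹ * s * g, ?_, ?_⟩
      · rw [mem_cent_pair]
        have := key a b a' b' g⁻¹ (by rw [← ha]; group) (by rw [← hb]; group) s h1 h2
        simpa only [_root_.inv_inv] using this
      · show g * (g⁻¹ * s * g) * g⁻¹ = s
        group
    · rintro ⟨w, hw, rfl⟩
      rw [mem_cent_pair] at hw
      exact key a' b' a b g ha hb w hw.1 hw.2
  rw [h]
  exact Subgroup.card_map_of_injective (MulAut.conj g).injective

section canon

variable {Q L : Subgroup G} {z y t : G} {c : Fin 5 → G} {κ : alternatingGroup (Fin 5) →* G}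

/-- The Sylow condition, in a group with `PreT`. -/
theorem syl_of_canon [Finite G] (H : PreT Q z y t L) (K : Canon Q z y t L c κ) {i j : Fin 5} (hij : i ≠ j)
    {s v : G} (s3 : s ^ 3 = 1) (v3 : v ^ 3 = 1) (hv : v ≠ 1) (h1 : s * c i = c i * s) (h2 : s * c j = c j * s)
    (h3 : v * c i = c i * v) (h4 : v * c j = c j * v) (h5 : s * v = v * s) : s ∈ Subgroup.zpowers v := by
  obtain ⟨g, -, hy, ht⟩ := H.pairs y t (c i) (c j) H.yQ H.tQ (K.c_mem i) (K.c_mem j) H.y2 H.t2 (K.c_sq i)
    (K.c_sq j) H.yt (K.c_anti i j hij)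
  have hC := card_conj hy ht
  rw [H.cardC] at hC
  refine mem_zpowers_of_card (C := Subgroup.centralizer ({c i, c j} : Set G)) ?_ ?_ ?_ s3 v3 hv h5
  · rw [hC]; norm_num
  · rw [mem_cent_pair]; exact ⟨h1, h2⟩
  · rw [mem_cent_pair]; exact ⟨h3, h4⟩

/-- conjugation of `A₅` by a permutation -/
def cj (π : Equiv.Perm (Fin 5)) : alternatingGroup (Fin 5) →* alternatingGroup (Fin 5) where
  toFun σ := ⟨π * σ * π⁻¹, by
    rw [Equiv.Perm.mem_alternatingGroup, map_mul, map_mul, map_inv, mul_comm, inv_mul_cancel_left]
    exact Equiv.Perm.mem_alternatingGroup.mp σ.2⟩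
  map_one' := by ext; simp only [_root_.OneMemClass.coe_one, _root_.mul_one, _root_.mul_inv_cancel, _root_.Equiv.Perm.coe_one, _root_.id_eq]
  map_mul' σ ρ := by
    apply Subtype.ext
    show π * ((σ : Equiv.Perm (Fin 5)) * ρ) * π⁻¹ = π * σ * π⁻¹ * (π * ρ * π⁻¹)
    group

theorem cj_coe (π : Equiv.Perm (Fin 5)) (σ : alternatingGroup (Fin 5)) :
    ((cj π σ : alternatingGroup (Fin 5)) : Equiv.Perm (Fin 5)) = π * σ * π⁻¹ := rfl

theorem cj_surj (π : Equiv.Perm (Fin 5)) : Function.Surjective (cj π) := by
  intro σ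
  refine ⟨cj π⁻¹ σ, ?_⟩
  apply Subtype.ext
  rw [cj_coe, cj_coe]
  group

theorem cj_inj (π : Equiv.Perm (Fin 5)) : Function.Injective (cj π) := by
  intro σ ρ h
  have h1 := congrArg (fun w : alternatingGroup (Fin 5) => (w : Equiv.Perm (Fin 5))) h
  simp only [cj_coe] at h1
  apply Subtype.ext
  exact mul_left_cancel (mul_right_cancel h1)

theorem τ_ne : τ ≠ 1 := by
  intro h
  have := τ_two
  rw [h] at this
  exact absurd this (by decide)

/-- **The input of `SuzPres.main` from `Canon`.** `f`, `u` are the two elements of order 3 centralising `L`,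
`r` is `c k` or `z * c k`. -/
theorem dat_of_canon [Finite G] (H : PreT Q z y t L) (K : Canon Q z y t L c κ) {r f u : G} (k : Fin 5)
    (hr : r = c k ∨ r = z * c k) (hR : RelsL y t r f u) (fL : ∀ l ∈ L, l * f = f * l)
    (uL : ∀ l ∈ L, l * u = u * l) :
    ∃ (c' : Fin 5 → G) (κ' : alternatingGroup (Fin 5) →* G), Dat y t r f u c' κ' ∧ κ'.range = L ∧
      (∀ i, ∃ j, c' i = c j ∨ c' i = z * c j) ∧ (∀ j, ∃ i, c' i = c j ∨ c' i = z * c j) := by
  have hzz := H.zz
  have hzd : (y * t) ^ 2 = z := by
    rw [pow_two]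
    calc y * t * (y * t) = y * t * y * t := by group
      _ = z * (t * y) * y * t := by rw [H.yt]
      _ = z * (t * (y * y) * t) := by group
      _ = z := by rw [H.y2, mul_one, H.t2, mul_one]
  -- the sign
  obtain ⟨e, he, hre⟩ : ∃ e : G, (e = 1 ∨ e = z) ∧ r = e * c k := by
    rcases hr with h | h
    · exact ⟨1, Or.inl rfl, by rw [h, one_mul]⟩
    · exact ⟨z, Or.inr rfl, h⟩
  have he2 : e * e = 1 := by rcases he with rfl | rfl; exacts [one_mul 1, hzz]
  have hzc : ∀ i, z * c i = c i * z := fun i => (H.D.com (c i) (K.c_mem i)).symm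
  have hec : ∀ i, e * c i = c i * e := by
    intro i
    rcases he with rfl | rfl
    · rw [one_mul, mul_one]
    · exact hzc i
  have hκL : ∀ σ, κ σ ∈ L := fun σ => by rw [← K.κ_range]; exact ⟨σ, rfl⟩
  have heκ : ∀ σ, κ σ * e = e * κ σ := by
    intro σ
    rcases he with rfl | rfl
    · rw [one_mul, mul_one]
    · exact H.Lz _ (hκL σ)
  set π : Equiv.Perm (Fin 5) := Equiv.swap 0 k with hπ
  set κ' : alternatingGroup (Fin 5) →* G := κ.comp (cj π) with hκ'
  have hκ'L : ∀ σ, κ' σ ∈ L := fun σ => hκL _
  set c' : Fin 5 → G := fun i => e * c (π i) with hc'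
  have hconj : ∀ (σ : alternatingGroup (Fin 5)) i, κ' σ * c' i * (κ' σ)⁻¹ = c' ((σ : Equiv.Perm (Fin 5)) i) := by
    intro σ i
    show κ (cj π σ) * (e * c (π i)) * (κ (cj π σ))⁻¹ = e * c (π ((σ : Equiv.Perm (Fin 5)) i))
    have h1 := K.κ_conj (cj π σ) (π i)
    rw [cj_coe] at h1
    rw [← mul_assoc, heκ, mul_assoc e, mul_assoc e, h1]
    congr 2
    simp
  have hcsq : ∀ i, c' i * c' i = 1 := by
    intro i
    show e * c (π i) * (e * c (π i)) = 1
    calc e * c (π i) * (e * c (π i)) = e * (c (π i) * e) * c (π i) := by group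
      _ = e * (e * c (π i)) * c (π i) := by rw [hec]
      _ = (e * e) * (c (π i) * c (π i)) := by group
      _ = 1 := by rw [he2, K.c_sq, one_mul]
  have hanti0 : ∀ i j, i ≠ j → c' i * c' j = z * (c' j * c' i) := by
    intro i j hij
    have hij' : π i ≠ π j := fun h => hij (π.injective h)
    show e * c (π i) * (e * c (π j)) = z * (e * c (π j) * (e * c (π i)))
    have e1 : e * c (π i) * (e * c (π j)) = c (π i) * c (π j) := by
      calc e * c (π i) * (e * c (π j)) = e * (c (π i) * e) * c (π j) := by group
        _ = e * (e * c (π i)) * c (π j) := by rw [hec]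
        _ = (e * e) * (c (π i) * c (π j)) := by group
        _ = _ := by rw [he2, one_mul]
    have e2 : e * c (π j) * (e * c (π i)) = c (π j) * c (π i) := by
      calc e * c (π j) * (e * c (π i)) = e * (c (π j) * e) * c (π i) := by group
        _ = e * (e * c (π j)) * c (π i) := by rw [hec]
        _ = (e * e) * (c (π j) * c (π i)) := by group
        _ = _ := by rw [he2, one_mul]
    rw [e1, e2]
    exact K.c_anti _ _ hij'
  have hcomm_c : ∀ (s : G) (i j : Fin 5), i ≠ j → s * c' i = c' i * s → s * c' j = c' j * s →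
      s * c (π i) = c (π i) * s ∧ s * c (π j) = c (π j) * s := by
    intro s i j hij h1 h2
    have c1 : Commute s (c' i) := h1
    have c2 : Commute s (c' j) := h2
    have hz : Commute s z := by
      have e1 : z = c' i * c' j * (c' i * c' j) := by
        calc z = z * (c' j * (c' i * c' i) * c' j) := by rw [hcsq, mul_one, hcsq, mul_one]
          _ = (z * (c' j * c' i)) * (c' i * c' j) := by group
          _ = _ := by rw [← hanti0 i j hij]
      rw [e1]
      exact (c1.mul_right c2).mul_right (c1.mul_right c2)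
    have he' : Commute s e := by
      rcases he with rfl | rfl
      · exact Commute.one_right s
      · exact hz
    have back : ∀ i, c (π i) = e * c' i := by
      intro i
      show c (π i) = e * (e * c (π i))
      rw [← mul_assoc, he2, one_mul]
    rw [back i, back j]
    exact ⟨(he'.mul_right c1).eq, (he'.mul_right c2).eq⟩
  refine ⟨c', κ', ?_, ?_, ?_, ?_⟩
  · exact {
      toRelsL := hR
      z_ne := by rw [hzd]; exact H.z_ne
      c_zero := by
        show e * c (π 0) = r
        rw [hre, hπ, Equiv.swap_apply_left]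
      c_sq := hcsq
      c_anti := by
        intro i j hij
        rw [hzd]
        exact hanti0 i j hij
      κ_conj := hconj
      κx := fun σ => H.Ly _ (hκ'L σ)
      κy := fun σ => H.Lt _ (hκ'L σ)
      κt := fun σ => fL _ (hκ'L σ)
      κu := fun σ => uL _ (hκ'L σ)
      syl := by
        intro s s3 h1 h2 h3
        obtain ⟨d1, d2⟩ := hcomm_c s 0 1 (by decide) h1 h2
        have t1 : κ' τ * c' 0 = c' 0 * κ' τ := by
          have := hconj τ 0
          rw [τ_zero] at this
          calc κ' τ * c' 0 = (κ' τ * c' 0 * (κ' τ)⁻¹) * κ' τ := by group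
            _ = _ := by rw [this]
        have t2 : κ' τ * c' 1 = c' 1 * κ' τ := by
          have := hconj τ 1
          rw [τ_one] at this
          calc κ' τ * c' 1 = (κ' τ * c' 1 * (κ' τ)⁻¹) * κ' τ := by group
            _ = _ := by rw [this]
        obtain ⟨d3, d4⟩ := hcomm_c (κ' τ) 0 1 (by decide) t1 t2
        have hinj : Function.Injective κ' := K.κ_inj.comp (cj_inj π)
        refine syl_of_canon H K (i := π 0) (j := π 1) (fun h => absurd (π.injective h) (by decide)) s3 ?_ ?_ d1 d2
          d3 d4 h3
        · rw [← map_pow, τ_cube, map_one]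
        · intro h
          rw [← map_one κ'] at h
          exact τ_ne (hinj h) }
  · rw [← K.κ_range]
    ext s
    constructor
    · rintro ⟨σ, rfl⟩
      exact ⟨cj π σ, rfl⟩
    · rintro ⟨σ, rfl⟩
      obtain ⟨ρ, rfl⟩ := cj_surj π σ
      exact ⟨ρ, rfl⟩
  · intro i
    refine ⟨π i, ?_⟩
    rcases he with h0 | h0
    · left; show e * c (π i) = _; rw [h0, one_mul]
    · right; show e * c (π i) = _; rw [h0]
  · intro j
    refine ⟨π j, ?_⟩
    have hjj : π (π j) = j := by rw [hπ]; simp
    rcases he with h0 | h0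
    · left; show e * c (π (π j)) = _; rw [h0, one_mul, hjj]
    · right; show e * c (π (π j)) = _; rw [h0, hjj]

open Cfsg.Spor (Suz)
open Cfsg.Spor.Suz (Gen)

/-- **Node N6 in canonical form.** -/
theorem main [Finite G] (H : PreT Q z y t L) (K : Canon Q z y t L c κ) {r f u : G} (k : Fin 5)
    (hr : r = c k ∨ r = z * c k) (hR : RelsL y t r f u) (fL : ∀ l ∈ L, l * f = f * l)
    (uL : ∀ l ∈ L, l * u = u * l) :
    ∃ φ : Suz →* G, Function.Injective φ ∧ φ (PresentedGroup.of Gen.a) = z ∧
      φ (PresentedGroup.of Gen.f) = y ∧ φ (PresentedGroup.of Gen.g) = t ∧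
      f ∈ φ.range ∧ u ∈ φ.range ∧ L ≤ φ.range ∧ ∀ i, c i ∈ φ.range := by
  obtain ⟨c', κ', D, hL, -, hc⟩ := dat_of_canon H K k hr hR fL uL
  have hzd : (y * t) ^ 2 = z := by
    rw [pow_two]
    calc y * t * (y * t) = y * t * y * t := by group
      _ = z * (t * y) * y * t := by rw [H.yt]
      _ = z * (t * (y * y) * t) := by group
      _ = z := by rw [H.y2, mul_one, H.t2, mul_one]
  obtain ⟨φ, hinj, ha, -, hf, hg, htm, hum, hcm, hκ⟩ := SuzPres.main D
  rw [hzd] at ha
  have hzm : z ∈ φ.range := ⟨_, ha⟩
  refine ⟨φ, hinj, ha, hf, hg, htm, hum, hL ▸ hκ, ?_⟩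
  intro j
  obtain ⟨i, hi | hi⟩ := hc j
  · rw [← hi]; exact hcm i
  · have : c j = z * c' i := by rw [hi, ← mul_assoc, H.zz, one_mul]
    rw [this]
    exact mul_mem hzm (hcm i)

end canon

end Cfsg.Agent.SuzType.SuzPresCanon
end

private theorem dce_e086684ad954 : _root_.True := by
  try have : _root_.True := by simp only [_root_.Cfsg.Agent.SuzType.PresRel.gZ.eq_1]
  try have : _root_.True := by simp only [_root_.Cfsg.Agent.SuzType.PresA6Data.subw.eq_1]
  try have : _root_.True := by simp only [_root_.Cfsg.Agent.SuzType.PresZbData.targets.eq_1]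
  try have : _root_.True := by simp only [_root_.Cfsg.Agent.SuzType.PresRel.gZ.eq_5]
  try have : _root_.True := by simp only [_root_.Cfsg.Agent.SuzType.PresRel.gZ.eq_2]
  try have : _root_.True := by simp only [_root_.Cfsg.Agent.SuzType.PresRel.gA.eq_1]
  try have : _root_.True := by simp only [_root_.Cfsg.Agent.SuzType.PresRel.gC.eq_7]
  try have : _root_.True := by simp only [_root_.Cfsg.Agent.LargeExtra.SuzPlane.actw.eq_2]
  try have : _root_.True := by simp only [_root_.Cfsg.Agent.SuzType.PresRel.gC.eq_5]
  try have : _root_.True := by simp only [_root_.Cfsg.Agent.SuzType.PresRel.gZ.eq_3]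
  try have : _root_.True := by simp only [_root_.Cfsg.Agent.SuzType.PresZbData.rels.eq_1]
  try have : _root_.True := by simp only [_root_.Cfsg.Agent.LargeExtra.SuzPlane.wval.eq_2]
  try have : _root_.True := by simp only [_root_.Cfsg.Agent.SuzType.PresRel.gC.eq_6]
  try have : _root_.True := by simp only [_root_.Cfsg.Agent.SuzType.PresRel.gC.eq_3]
  try have : _root_.True := by simp only [_root_.Cfsg.Agent.SuzType.PresRel.gB.eq_6]
  try have : _root_.True := by simp only [_root_.Cfsg.Agent.SuzType.PresA6Data.rels.eq_1]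
  try have : _root_.True := by simp only [_root_.Cfsg.Agent.LargeExtra.SuzPlane.actw.eq_def]
  try have : _root_.True := by simp only [_root_.Cfsg.Agent.SuzType.PresRel.gC.eq_2]
  try have : _root_.True := by simp only [_root_.Cfsg.Agent.SuzType.PresColData.targets.eq_1]
  try have : _root_.True := by simp only [_root_.Cfsg.Agent.SuzType.PresRel.gB.eq_1]
  try have : _root_.True := by simp only [_root_.Cfsg.Agent.SuzType.PresBrData.targets.eq_1]
  try have : _root_.True := by simp only [_root_.Cfsg.Agent.SuzType.PresRel.gC.eq_1]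
  try have : _root_.True := by simp only [_root_.Cfsg.Agent.SuzType.PresRel.gA.eq_7]
  try have : _root_.True := by simp only [_root_.Cfsg.Agent.SuzType.PresRel.gB.eq_2]
  try have : _root_.True := by simp only [_root_.Cfsg.Agent.LargeExtra.ElemSixteen.E.eq_1]
  try have : _root_.True := by simp only [_root_.Cfsg.Agent.SuzType.PresZeData.targets.eq_1]
  try have : _root_.True := by simp only [_root_.Cfsg.Agent.SuzType.PresRel.gA.eq_5]
  try have : _root_.True := by simp only [_root_.Cfsg.Agent.SuzType.PresRel.gC.eq_4]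
  try have : _root_.True := by simp only [_root_.Cfsg.Agent.SuzType.PresZeData.subw.eq_1]
  try have : _root_.True := by simp only [_root_.Cfsg.Agent.LargeExtra.ElemSixteen.lin.eq_1]
  try have : _root_.True := by simp only [_root_.Cfsg.Agent.LargeExtra.ElemSixteen.Four.F.congr_simp]
  try have : _root_.True := by simp only [_root_.Cfsg.Agent.SuzType.PresColData.subw.eq_1]
  try have : _root_.True := by simp only [_root_.Cfsg.Agent.LargeExtra.ElemSixteen.bp.eq_1]
  try have : _root_.True := by simp only [_root_.Cfsg.Agent.SuzType.PresRel.gA.eq_6]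
  try have : _root_.True := by simp only [_root_.Cfsg.Agent.SuzType.PresRel.gB.eq_8]
  try have : _root_.True := by simp only [_root_.Cfsg.Agent.SuzType.PresBrData.subw.eq_1]
  try have : _root_.True := by simp only [_root_.Cfsg.Agent.SuzType.PresRel.gA.eq_3]
  try have : _root_.True := by simp only [_root_.Cfsg.Agent.SuzType.PresRel.gB.eq_4]
  try have : _root_.True := by simp only [_root_.Cfsg.Agent.LargeExtra.SuzPlane.wval.eq_1]
  try have : _root_.True := by simp only [_root_.Cfsg.Agent.SuzType.PresRel.gB.eq_7]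
  try have : _root_.True := by simp only [_root_.Cfsg.Agent.SuzType.PresRel.gA.eq_2]
  try have : _root_.True := by simp only [_root_.Cfsg.Agent.SuzType.PresRel.gB.eq_9]
  try have : _root_.True := by simp only [_root_.Cfsg.Agent.LargeExtra.SuzPlane.actw.eq_1]
  try have : _root_.True := by simp only [_root_.Cfsg.Agent.SuzType.PresRel.gB.eq_5]
  try have : _root_.True := by simp only [_root_.Cfsg.Agent.SuzType.PresColData.rels.eq_1]
  try have : _root_.True := by simp only [_root_.Cfsg.Agent.SuzType.PresBrData.rels.eq_1]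
  try have : _root_.True := by simp only [_root_.Cfsg.Agent.SuzType.PresZeData.rels.eq_1]
  try have : _root_.True := by simp only [_root_.Cfsg.Agent.SuzType.PresRel.gB.eq_3]
  try have : _root_.True := by simp only [_root_.Cfsg.Agent.SuzType.PresRel.gA.eq_4]
  try have : _root_.True := by simp only [_root_.Cfsg.Agent.SuzType.PresZbData.subw.eq_1]
  try have : _root_.True := by simp only [_root_.Cfsg.Agent.LargeExtra.SuzPlane.wval.eq_def]
  try have : _root_.True := by simp only [_root_.Cfsg.Agent.SuzType.PresRel.gZ.eq_4]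
  try have : _root_.True := by simp only [_root_.Cfsg.Agent.SuzType.PresA6Data.targets.eq_1]
  exact _root_.True.intro
end

-- part: SuzType/LocalRel
section
prune_inst 0x40010240451220000001800002200004000000002004300012040040000488441a00706013860071281100c742038006000100009423000000a008a00411c01a0042000029008000001000040c804000000000000000000000000000000000000000000000
set_option linter.all false
open scoped Cfsg.Agent.FastGrp

-- part: SuzType/RR
section
/-!
# The relations (RR) and `(a b)² = z r` of the Suzuki type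

`Tri Q z e e' g` : `g` is an element of order three with `z → e → z e → z` (`g z g⁻¹ = e`), inverted by
`e'`, `n n^g n^(g²) = 1` and (RR) for `n, m ∈ C_Q(e)`.
-/

set_option autoImplicit false

namespace Cfsg.Agent.SuzType.RR

variable {G : Type*} [Group G]

/-- **(RR)**, general form: in a group `R` of class two with `x x^f x^(f²) = 1`. -/
theorem rr (R : Subgroup G) (f : G) (hfR : ∀ x ∈ R, f * x * f⁻¹ ∈ R)
    (hT : ∀ x ∈ R, x * (f * x * f⁻¹) * (f⁻¹ * x * f) = 1)
    (hcen : ∀ x ∈ R, ∀ w ∈ R, ∀ v ∈ R, (x * w * x⁻¹ * w⁻¹) * v = v * (x * w * x⁻¹ * w⁻¹))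
    (n m : G) (hn : n ∈ R) (hm : m ∈ R) :
    n * (f * m * f⁻¹) * n⁻¹ * (f * m * f⁻¹)⁻¹ =
      (n * m * n⁻¹ * m⁻¹ * (f * (n * m * n⁻¹ * m⁻¹) * f⁻¹))⁻¹ := by
  have hN := hfR n hn
  have hM := hfR m hm
  have t1 := hT n hn
  have t2 := hT m hm
  have t3 := hT (n * m) (R.mul_mem hn hm)
  have e2 : f * (n * m * n⁻¹ * m⁻¹) * f⁻¹ =
      (f * n * f⁻¹) * (f * m * f⁻¹) * (f * n * f⁻¹)⁻¹ * (f * m * f⁻¹)⁻¹ := by group
  have e3 : f * (n * m) * f⁻¹ = (f * n * f⁻¹) * (f * m * f⁻¹) := by group
  have e4 : f⁻¹ * (n * m) * f = (f⁻¹ * n * f) * (f⁻¹ * m * f) := by group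
  rw [e3, e4] at t3
  rw [e2]
  generalize f * n * f⁻¹ = N at *
  generalize f * m * f⁻¹ = M at *
  have h1 : f⁻¹ * n * f = N⁻¹ * n⁻¹ := by
    rw [mul_eq_one_iff_inv_eq] at t1
    rw [← t1, mul_inv_rev]
  have h2 : f⁻¹ * m * f = M⁻¹ * m⁻¹ := by
    rw [mul_eq_one_iff_inv_eq] at t2
    rw [← t2, mul_inv_rev]
  rw [h1, h2] at t3
  have c2 := hcen N hN M hM
  have c3 := hcen n hn M hM
  rw [eq_inv_iff_mul_eq_one, ← t3]
  have k2 := c3 (n * m * n⁻¹) (R.mul_mem (R.mul_mem hn hm) (R.inv_mem hn))
  calc n * M * n⁻¹ * M⁻¹ * (n * m * n⁻¹ * m⁻¹ * (N * M * N⁻¹ * M⁻¹))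
      = (n * M * n⁻¹ * M⁻¹) * (n * m * n⁻¹) * m⁻¹ * (N * M * N⁻¹ * M⁻¹) := by group
    _ = n * m * n⁻¹ * (n * M * n⁻¹ * M⁻¹) * (m⁻¹ * (N * M * N⁻¹ * M⁻¹)) := by rw [k2]; group
    _ = n * m * n⁻¹ * (n * M * n⁻¹ * M⁻¹) * ((N * M * N⁻¹ * M⁻¹) * m⁻¹) := by
        rw [c2 m⁻¹ (R.inv_mem hm)]
    _ = n * m * (M * n⁻¹ * M⁻¹ * (N * M * N⁻¹ * M⁻¹)) * m⁻¹ := by group
    _ = n * m * ((N * M * N⁻¹ * M⁻¹) * (M * n⁻¹ * M⁻¹)) * m⁻¹ := by
        rw [c2 (M * n⁻¹ * M⁻¹) (R.mul_mem (R.mul_mem hM (R.inv_mem hn)) (R.inv_mem hM))]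
    _ = n * m * (N * M) * (N⁻¹ * n⁻¹ * (M⁻¹ * m⁻¹)) := by group

/-- (RR) with the commutators in `⟨z⟩`. -/
theorem rr' (R : Subgroup G) (f z y : G) (hz : z * z = 1) (hy : y * y = 1) (hzy : z * y = y * z)
    (hfz : f * z * f⁻¹ = y)
    (hfR : ∀ x ∈ R, f * x * f⁻¹ ∈ R)
    (hT : ∀ x ∈ R, x * (f * x * f⁻¹) * (f⁻¹ * x * f) = 1)
    (hcen : ∀ x ∈ R, ∀ w ∈ R, ∀ v ∈ R, (x * w * x⁻¹ * w⁻¹) * v = v * (x * w * x⁻¹ * w⁻¹))
    (n m : G) (hn : n ∈ R) (hm : m ∈ R) :
    (n * m = m * n → n * (f * m * f⁻¹) = (f * m * f⁻¹) * n) ∧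
    (n * m = z * (m * n) → n * (f * m * f⁻¹) = z * y * ((f * m * f⁻¹) * n)) := by
  have h := rr R f hfR hT hcen n m hn hm
  constructor
  · intro h1
    have h2 : n * m * n⁻¹ * m⁻¹ = 1 := by rw [h1]; group
    rw [h2] at h
    have h3 : n * (f * m * f⁻¹) * n⁻¹ * (f * m * f⁻¹)⁻¹ = 1 := by rw [h]; group
    rw [mul_inv_eq_one, mul_inv_eq_iff_eq_mul] at h3
    exact h3
  · intro h1
    have h2 : n * m * n⁻¹ * m⁻¹ = z := by rw [h1]; group
    rw [h2, hfz] at h
    have h3 : (z * y)⁻¹ = z * y := by
      rw [inv_eq_iff_mul_eq_one]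
      calc z * y * (z * y) = z * (y * z) * y := by group
        _ = (z * z) * (y * y) := by rw [← hzy]; group
        _ = 1 := by rw [hz, hy, one_mul]
    rw [h3, mul_inv_eq_iff_eq_mul, mul_inv_eq_iff_eq_mul] at h
    rw [h, mul_assoc]

/-- The relations of an element of order three permuting `z → e → z e`. -/
structure Tri (Q : Subgroup G) (z e e' g : G) : Prop where
  gz : g * z * g⁻¹ = e
  ge : g * e * g⁻¹ = z * e
  inv : e' * g * e'⁻¹ = g⁻¹
  hT : ∀ n ∈ Q, n * e = e * n → n * (g * n * g⁻¹) * (g⁻¹ * n * g) = 1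
  rr : ∀ n ∈ Q, ∀ m ∈ Q, n * e = e * n → m * e = e * m →
      (n * m = m * n → n * (g * m * g⁻¹) = (g * m * g⁻¹) * n) ∧
      (n * m = z * (m * n) → n * (g * m * g⁻¹) = z * e * ((g * m * g⁻¹) * n))

theorem Tri.conj {Q : Subgroup G} {z e e' g : G} (h : Tri Q z e e' g) (c : G)
    (hc : c * z = z * c) (hQ : ∀ q, q ∈ Q ↔ c * q * c⁻¹ ∈ Q) :
    Tri Q z (c * e * c⁻¹) (c * e' * c⁻¹) (c * g * c⁻¹) := by
  have cz : c * z * c⁻¹ = z := by rw [hc, mul_inv_cancel_right]
  have cz' : c⁻¹ * z * c = z := by
    calc c⁻¹ * z * c = c⁻¹ * (z * c) := by group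
      _ = c⁻¹ * (c * z) := by rw [hc]
      _ = z := by group
  have hQ' : ∀ q ∈ Q, c⁻¹ * q * c ∈ Q := by
    intro q hq
    rw [hQ]
    have : c * (c⁻¹ * q * c) * c⁻¹ = q := by group
    rw [this]; exact hq
  have hcomm : ∀ q e0 : G, q * (c * e0 * c⁻¹) = (c * e0 * c⁻¹) * q →
      (c⁻¹ * q * c) * e0 = e0 * (c⁻¹ * q * c) := by
    intro q e0 h1
    calc (c⁻¹ * q * c) * e0 = c⁻¹ * (q * (c * e0 * c⁻¹)) * c := by group
      _ = c⁻¹ * ((c * e0 * c⁻¹) * q) * c := by rw [h1]
      _ = _ := by group
  refine ⟨?_, ?_, ?_, ?_, ?_⟩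
  · calc c * g * c⁻¹ * z * (c * g * c⁻¹)⁻¹ = c * g * (c⁻¹ * z * c) * g⁻¹ * c⁻¹ := by group
      _ = c * (g * z * g⁻¹) * c⁻¹ := by rw [cz']; group
      _ = _ := by rw [h.gz]
  · calc c * g * c⁻¹ * (c * e * c⁻¹) * (c * g * c⁻¹)⁻¹ = c * (g * e * g⁻¹) * c⁻¹ := by group
      _ = c * (z * e) * c⁻¹ := by rw [h.ge]
      _ = (c * z * c⁻¹) * (c * e * c⁻¹) := by group
      _ = _ := by rw [cz]
  · calc c * e' * c⁻¹ * (c * g * c⁻¹) * (c * e' * c⁻¹)⁻¹ = c * (e' * g * e'⁻¹) * c⁻¹ := by group
      _ = c * g⁻¹ * c⁻¹ := by rw [h.inv]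
      _ = _ := by group
  · intro n hn hne
    have h1 := h.hT (c⁻¹ * n * c) (hQ' n hn) (hcomm n e hne)
    calc n * (c * g * c⁻¹ * n * (c * g * c⁻¹)⁻¹) * ((c * g * c⁻¹)⁻¹ * n * (c * g * c⁻¹))
        = c * ((c⁻¹ * n * c) * (g * (c⁻¹ * n * c) * g⁻¹) * (g⁻¹ * (c⁻¹ * n * c) * g)) * c⁻¹ := by
          group
      _ = 1 := by rw [h1]; group
  · intro n hn m hm hne hme
    obtain ⟨h1, h2⟩ := h.rr (c⁻¹ * n * c) (hQ' n hn) (c⁻¹ * m * c) (hQ' m hm)
      (hcomm n e hne) (hcomm m e hme)
    constructor
    · intro h3
      have h4 := h1 (by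
        calc c⁻¹ * n * c * (c⁻¹ * m * c) = c⁻¹ * (n * m) * c := by group
          _ = c⁻¹ * (m * n) * c := by rw [h3]
          _ = _ := by group)
      calc n * (c * g * c⁻¹ * m * (c * g * c⁻¹)⁻¹)
          = c * ((c⁻¹ * n * c) * (g * (c⁻¹ * m * c) * g⁻¹)) * c⁻¹ := by group
        _ = c * (g * (c⁻¹ * m * c) * g⁻¹ * (c⁻¹ * n * c)) * c⁻¹ := by rw [h4]
        _ = _ := by group
    · intro h3
      have h4 := h2 (by
        calc c⁻¹ * n * c * (c⁻¹ * m * c) = c⁻¹ * (n * m) * c := by group
          _ = c⁻¹ * (z * (m * n)) * c := by rw [h3]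
          _ = (c⁻¹ * z * c) * (c⁻¹ * m * c * (c⁻¹ * n * c)) := by group
          _ = _ := by rw [cz'])
      calc n * (c * g * c⁻¹ * m * (c * g * c⁻¹)⁻¹)
          = c * ((c⁻¹ * n * c) * (g * (c⁻¹ * m * c) * g⁻¹)) * c⁻¹ := by group
        _ = c * (z * e * (g * (c⁻¹ * m * c) * g⁻¹ * (c⁻¹ * n * c))) * c⁻¹ := by rw [h4]
        _ = (c * z * c⁻¹) * (c * e * c⁻¹) * ((c * g * c⁻¹ * m * (c * g * c⁻¹)⁻¹) * n) := by group
        _ = _ := by rw [cz]

/-- `Tri` from the conclusions of `FourGroup.main_four`. -/
theorem tri_of_four {Q P : Subgroup G} {z y f t : G} (h : LargeExtra.FourGroup.Ctx Q P z y)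
    (hV : ∀ x ∈ Q, x ∈ P → x ∈ h.V) (F : h.IsF f)
    (hT : ∀ x ∈ h.R, x * (f * x * f⁻¹) * (f⁻¹ * x * f) = 1) (ht : t * f * t⁻¹ = f⁻¹) :
    Tri Q z y t f := by
  have hcen : ∀ x ∈ h.R, ∀ w ∈ h.R, ∀ v ∈ h.R,
      (x * w * x⁻¹ * w⁻¹) * v = v * (x * w * x⁻¹ * w⁻¹) := by
    intro x hx w hw v hv
    exact (h.V_comm_CV (h.comm_R hV hx hw) (h.R_le_CV hv)).symm
  have hA : ∀ n ∈ Q, n * y = y * n → n ∈ h.R := fun n hn hny =>
    h.A_le_R (h.mem_A_iff.2 ⟨hn, hny⟩)
  refine ⟨F.fz, F.fy, ht, fun n hn hny => hT n (hA n hn hny), ?_⟩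
  intro n hn m hm hny hmy
  exact rr' h.R f z y h.zz h.yy h.yz.symm F.fz (fun x hx => F.conj_R hx) hT hcen n m
    (hA n hn hny) (hA m hm hmy)

section
variable {Q : Subgroup G} {z : G}

/-- first lemma: the elements `b = F⁻¹ e F` over `r`. -/
theorem bpart {e r r' F : G} (hz : z * z = 1) (hzQ : ∀ q ∈ Q, q * z = z * q)
    (T : Tri Q z r r' F) (rQ : r ∈ Q) (hr : r * r = 1)
    (eQ : e ∈ Q) (he : e * e = 1) (her : e * r = r * e) :
    (F⁻¹ * e * F) * (F⁻¹ * e * F) = 1 ∧ (F⁻¹ * e * F) * z = z * (F⁻¹ * e * F) ∧
    (F⁻¹ * e * F) * r = r * (F⁻¹ * e * F) ∧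
    ∀ n ∈ Q, n * r = r * n →
      (n * e = e * n → n * (F⁻¹ * e * F) = (F⁻¹ * e * F) * n) ∧
      (n * e = z * (e * n) → n * (F⁻¹ * e * F) = r * ((F⁻¹ * e * F) * n)) := by
  have hzr : r * z = z * r := hzQ r rQ
  have hze : e * z = z * e := hzQ e eQ
  have F1 : F * z = r * F := by rw [← T.gz]; group
  have F2 : F * r = z * r * F := by rw [← T.ge]; group
  set b := F⁻¹ * e * F with hb
  have hbb : b * b = 1 := by
    calc b * b = F⁻¹ * (e * e) * F := by rw [hb]; group
      _ = 1 := by rw [he]; group
  have hbz : b * z = z * b := by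
    calc b * z = F⁻¹ * e * (F * z) := by rw [hb]; group
      _ = F⁻¹ * (e * r) * F := by rw [F1]; group
      _ = F⁻¹ * (r * F) * F⁻¹ * e * F := by rw [her]; group
      _ = F⁻¹ * (F * z) * F⁻¹ * e * F := by rw [F1]
      _ = z * b := by rw [hb]; group
  have hbr : b * r = r * b := by
    calc b * r = F⁻¹ * e * (F * r) := by rw [hb]; group
      _ = F⁻¹ * ((e * z) * r) * F := by rw [F2]; group
      _ = F⁻¹ * (z * (e * r)) * F := by rw [hze]; group
      _ = F⁻¹ * (z * r * F) * F⁻¹ * e * F := by rw [her]; group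
      _ = F⁻¹ * (F * r) * F⁻¹ * e * F := by rw [F2]
      _ = r * b := by rw [hb]; group
  have hb' : b = (F * e * F⁻¹) * e := by
    have h1 := T.hT e eQ her
    rw [← hb] at h1
    have h2 : b = (e * (F * e * F⁻¹))⁻¹ := eq_inv_of_mul_eq_one_right h1
    have hei : e⁻¹ = e := inv_eq_of_mul_eq_one_left he
    rw [h2]
    calc (e * (F * e * F⁻¹))⁻¹ = F * e⁻¹ * F⁻¹ * e⁻¹ := by group
      _ = _ := by rw [hei]
  refine ⟨hbb, hbz, hbr, ?_⟩
  intro n hn hnr
  obtain ⟨h1, h2⟩ := T.rr n hn e eQ hnr her
  constructor
  · intro h3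
    have h4 := h1 h3
    calc n * b = (n * (F * e * F⁻¹)) * e := by rw [hb']; group
      _ = (F * e * F⁻¹) * (n * e) := by rw [h4]; group
      _ = b * n := by rw [h3, hb']; group
  · intro h3
    have h4 := h2 h3
    calc n * b = (n * (F * e * F⁻¹)) * e := by rw [hb']; group
      _ = z * r * (F * e * F⁻¹) * (n * e) := by rw [h4]; group
      _ = z * r * ((F * e * F⁻¹) * z) * e * n := by rw [h3]; group
      _ = z * r * (z * (F * e * F⁻¹)) * e * n := by
          congr 3
          -- `F e F⁻¹ = b e` commutes with `z`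
          have h5 : F * e * F⁻¹ = b * e := by rw [hb', mul_assoc _ e e, he, mul_one]
          rw [h5]
          calc b * e * z = b * (z * e) := by rw [mul_assoc, hze]
            _ = (b * z) * e := by group
            _ = z * (b * e) := by rw [hbz]; group
      _ = (z * (r * z)) * (F * e * F⁻¹) * e * n := by group
      _ = (z * z) * r * ((F * e * F⁻¹) * e) * n := by rw [hzr]; group
      _ = r * (b * n) := by rw [hz, hb']; group

/-- second lemma: the elements `a = g r g⁻¹`. -/
theorem apart {e e' r g : G} (hz : z * z = 1) (hzQ : ∀ q ∈ Q, q * z = z * q)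
    (T : Tri Q z e e' g) (rQ : r ∈ Q) (hr : r * r = 1) (eQ : e ∈ Q)
    (her : e * r = r * e) (he'r : e' * r = r * e') :
    (g * r * g⁻¹) * (g * r * g⁻¹) = 1 ∧ (g * r * g⁻¹) * z = z * (g * r * g⁻¹) ∧
    (g * r * g⁻¹) * r = r * (g * r * g⁻¹) ∧ (g * r * g⁻¹) * e = e * (g * r * g⁻¹) ∧
    e' * (g * r * g⁻¹) = r * ((g * r * g⁻¹) * e') ∧
    ∀ n ∈ Q, n * e = e * n → n * r = r * n → n * (g * r * g⁻¹) = (g * r * g⁻¹) * n := by
  have hzr : r * z = z * r := hzQ r rQ
  have hze : e * z = z * e := hzQ e eQ
  have g1 : g * z = e * g := by rw [← T.gz]; group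
  have g2 : g * e = z * e * g := by rw [← T.ge]; group
  have hri : r⁻¹ = r := inv_eq_of_mul_eq_one_left hr
  set a := g * r * g⁻¹ with ha
  have haa : a * a = 1 := by
    calc a * a = g * (r * r) * g⁻¹ := by rw [ha]; group
      _ = 1 := by rw [hr]; group
  have hae : a * e = e * a := by
    have h1 : e = g * z * g⁻¹ := T.gz.symm
    calc a * e = g * (r * z) * g⁻¹ := by rw [ha]; nth_rewrite 1 [h1]; group
      _ = (g * z * g⁻¹) * (g * r * g⁻¹) := by rw [hzr]; group
      _ = e * a := by rw [T.gz]
  have hz' : z = g * (z * e) * g⁻¹ := by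
    calc z = e * (z * e) := by
            have he : e * e = 1 := by
              rw [← T.gz]
              calc g * z * g⁻¹ * (g * z * g⁻¹) = g * (z * z) * g⁻¹ := by group
                _ = 1 := by rw [hz]; group
            rw [← mul_assoc, hze, mul_assoc, he, mul_one]
      _ = (g * z * g⁻¹) * (g * e * g⁻¹) := by rw [T.gz, T.ge]
      _ = _ := by group
  have haz : a * z = z * a := by
    calc a * z = g * (r * z * e) * g⁻¹ := by rw [ha]; nth_rewrite 1 [hz']; group
      _ = g * (z * e * r) * g⁻¹ := by
        rw [show r * z * e = z * e * r from by rw [hzr, mul_assoc, ← her, ← mul_assoc]]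
      _ = (g * (z * e) * g⁻¹) * (g * r * g⁻¹) := by group
      _ = z * a := by rw [← hz']
  have hn : ∀ n ∈ Q, n * e = e * n → n * r = r * n → n * a = a * n := by
    intro n hn hne hnr
    exact (T.rr n hn r rQ hne her.symm).1 hnr
  have har : a * r = r * a := (hn r rQ her.symm rfl).symm
  have h3 : g⁻¹ * r * g = r * a := by
    have h1 := T.hT r rQ her.symm
    rw [← ha] at h1
    have h2 : g⁻¹ * r * g = (r * a)⁻¹ := eq_inv_of_mul_eq_one_right h1
    rw [h2, mul_inv_rev, hri, inv_eq_of_mul_eq_one_left haa, har]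
  refine ⟨haa, haz, har, hae, ?_, hn⟩
  have i1 : e' * g = g⁻¹ * e' := by rw [← T.inv]; group
  have i2 : e' * g⁻¹ = g * e' := by
    have : e' * g⁻¹ * e'⁻¹ = g := by
      calc e' * g⁻¹ * e'⁻¹ = (e' * g * e'⁻¹)⁻¹ := by group
        _ = g := by rw [T.inv, inv_inv]
    rw [mul_inv_eq_iff_eq_mul] at this
    exact this
  calc e' * a = (e' * g) * r * g⁻¹ := by rw [ha]; group
    _ = g⁻¹ * (e' * r) * g⁻¹ := by rw [i1]; group
    _ = g⁻¹ * r * (e' * g⁻¹) := by rw [he'r]; group
    _ = (g⁻¹ * r * g) * e' := by rw [i2]; group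
    _ = r * (a * e') := by rw [h3]; group

/-- combination: `g r g⁻¹ = (F⁻¹ e F) w`, `w ∈ ⟨z, r⟩`. -/
theorem combine {e e' r r' g F : G} (hz : z * z = 1) (hzQ : ∀ q ∈ Q, q * z = z * q)
    (hQ : ∀ a ∈ Q, ∀ b ∈ Q, a * b = b * a ∨ a * b = z * (b * a))
    (T : Tri Q z e e' g) (T' : Tri Q z r r' F)
    (eQ : e ∈ Q) (he : e * e = 1) (eQ' : e' ∈ Q) (he' : e' * e' = 1)
    (hee' : e * e' = z * (e' * e)) (rQ : r ∈ Q) (hr : r * r = 1)
    (her : e * r = r * e) (he'r : e' * r = r * e')
    (hcen : ∀ v : G, v * z = z * v → (∀ n ∈ Q, n * r = r * n → n * v = v * n) →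
      v = 1 ∨ v = z ∨ v = r ∨ v = z * r) :
    ∃ w : G, (w = 1 ∨ w = z ∨ w = r ∨ w = z * r) ∧ g * r * g⁻¹ = (F⁻¹ * e * F) * w := by
  obtain ⟨bb, bz, br, bn⟩ := bpart hz hzQ T' rQ hr eQ he her
  obtain ⟨aa, az, ar, ae, ae', an⟩ := apart hz hzQ T rQ hr eQ her he'r
  have hri : r⁻¹ = r := inv_eq_of_mul_eq_one_left hr
  set b := F⁻¹ * e * F
  set a := g * r * g⁻¹
  have hbi : b⁻¹ = b := inv_eq_of_mul_eq_one_left bb
  have he'e : e' * e = z * (e * e') := by
    rw [hee', ← mul_assoc z z, hz, one_mul]
  have be : e * b = b * e := (bn e eQ her).1 rfl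
  have be' : e' * b = r * (b * e') := (bn e' eQ' he'r).2 he'e
  have we : e * (b * a) = (b * a) * e := by
    calc e * (b * a) = (e * b) * a := by group
      _ = b * (e * a) := by rw [be]; group
      _ = _ := by rw [← ae]; group
  have we' : e' * (b * a) = (b * a) * e' := by
    calc e' * (b * a) = (e' * b) * a := by group
      _ = r * b * (e' * a) := by rw [be']; group
      _ = r * (b * r) * (a * e') := by rw [ae']; group
      _ = (r * r) * b * (a * e') := by rw [br]; group
      _ = _ := by rw [hr]; group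
  have w0 : ∀ n ∈ Q, n * r = r * n → n * e = e * n → n * e' = e' * n →
      n * (b * a) = (b * a) * n := by
    intro n hn hnr hne hne'
    calc n * (b * a) = (n * b) * a := by group
      _ = b * (n * a) := by rw [(bn n hn hnr).1 hne]; group
      _ = _ := by rw [an n hn hne hnr]; group
  refine ⟨b * a, hcen (b * a) ?_ ?_, ?_⟩
  · rw [mul_assoc, az, ← mul_assoc, bz, mul_assoc]
  · intro n hn hnr
    -- decomposition of `n`
    have hne := hQ n hn e eQ
    have hne' := hQ n hn e' eQ'
    have hnz := hzQ n hn
    have hez := hzQ e eQ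
    have he'z := hzQ e' eQ'
    rcases hne with h1 | h1 <;> rcases hne' with h2 | h2
    · exact w0 n hn hnr h1 h2
    · -- n * e
      have k := w0 (n * e) (Q.mul_mem hn eQ) (by rw [mul_assoc, her, ← mul_assoc, hnr, mul_assoc])
        (by rw [h1, mul_assoc, h1]) (by
          calc n * e * e' = n * (z * (e' * e)) := by rw [mul_assoc, hee']
            _ = (n * z) * e' * e := by group
            _ = z * (n * e') * e := by rw [hnz]; group
            _ = (z * z) * (e' * n * e) := by rw [h2]; group
            _ = _ := by rw [hz]; group)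
      have : n = (n * e) * e := by rw [mul_assoc, he, mul_one]
      calc n * (b * a) = (n * e) * (e * (b * a)) := by
            rw [← mul_assoc (n * e), ← this]
        _ = ((n * e) * (b * a)) * e := by rw [we]; group
        _ = (b * a) * ((n * e) * e) := by rw [k]; group
        _ = _ := by rw [← this]
    · -- n * e'
      have k := w0 (n * e') (Q.mul_mem hn eQ') (by
          rw [mul_assoc, he'r, ← mul_assoc, hnr, mul_assoc])
        (by
          calc n * e' * e = n * (z * (e * e')) := by rw [mul_assoc, he'e]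
            _ = (n * z) * e * e' := by group
            _ = z * (n * e) * e' := by rw [hnz]; group
            _ = (z * z) * (e * n * e') := by rw [h1]; group
            _ = _ := by rw [hz]; group) (by rw [h2, mul_assoc, h2])
      have : n = (n * e') * e' := by rw [mul_assoc, he', mul_one]
      calc n * (b * a) = (n * e') * (e' * (b * a)) := by
            rw [← mul_assoc (n * e'), ← this]
        _ = ((n * e') * (b * a)) * e' := by rw [we']; group
        _ = (b * a) * ((n * e') * e') := by rw [k]; group
        _ = _ := by rw [← this]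
    · -- n * (e * e')
      have k := w0 (n * (e * e')) (Q.mul_mem hn (Q.mul_mem eQ eQ')) (by
          calc n * (e * e') * r = n * e * (e' * r) := by group
            _ = n * (e * r) * e' := by rw [he'r]; group
            _ = (n * r) * e * e' := by rw [her]; group
            _ = _ := by rw [hnr]; group)
        (by
          calc n * (e * e') * e = n * e * (e' * e) := by group
            _ = n * e * (z * (e * e')) := by rw [he'e]
            _ = n * (e * z) * e * e' := by group
            _ = n * z * (e * e) * e' := by rw [hez]; group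
            _ = z * n * e' := by rw [he, hnz, mul_one]
            _ = z * n * (e * e) * e' := by rw [he, mul_one]
            _ = z * (n * e) * e * e' := by group
            _ = (z * z) * e * n * (e * e') := by rw [h1]; group
            _ = _ := by rw [hz]; group)
        (by
          calc n * (e * e') * e' = n * e * (e' * e') := by group
            _ = n * e := by rw [he', mul_one]
            _ = (z * z) * (n * e) := by rw [hz, one_mul]
            _ = z * (e' * e') * (n * z) * e := by rw [he', hnz]; group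
            _ = z * e' * (e' * n) * z * e := by group
            _ = z * e' * (e' * n) * (e * z) := by rw [hez]; group
            _ = z * e' * ((z * z) * (e' * n)) * (e * z) := by rw [hz, one_mul]
            _ = z * e' * z * (n * e') * (e * z) := by rw [h2]; group
            _ = z * (e' * z) * n * (e' * e) * z := by group
            _ = z * (z * e') * n * (z * (e * e')) * z := by rw [he'z, he'e]
            _ = (z * z) * e' * (n * z) * e * (e' * z) := by group
            _ = e' * (z * n) * e * (z * e') := by rw [hz, hnz, he'z, one_mul]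
            _ = e' * (z * n * (e * z)) * e' := by group
            _ = e' * (z * (n * z) * e) * e' := by rw [hez]; group
            _ = e' * ((z * z) * n * e) * e' := by rw [hnz]; group
            _ = _ := by rw [hz]; group)
      have h5 : (e * e') * (e' * e) = 1 := by
        calc (e * e') * (e' * e) = e * (e' * e') * e := by group
          _ = 1 := by rw [he', mul_one, he]
      have : n = (n * (e * e')) * (e' * e) := by rw [mul_assoc, h5, mul_one]
      calc n * (b * a) = (n * (e * e')) * (e' * e) * (b * a) := by rw [← this]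
        _ = (n * (e * e')) * e' * (e * (b * a)) := by group
        _ = (n * (e * e')) * (e' * (b * a)) * e := by rw [we]; group
        _ = ((n * (e * e')) * (b * a)) * e' * e := by rw [we']; group
        _ = (b * a) * ((n * (e * e')) * (e' * e)) := by rw [k]; group
        _ = _ := by rw [← this]
  · rw [← mul_assoc, bb, one_mul]

end

/-- **the relation `(a b)² = z r`**: `y, t` generate a `D8`, `T1`, `T2` the two elements of order three,
`c` conjugates `y` to `r`. -/
theorem ab_sq {Q : Subgroup G} {z y t r f g c : G}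
    (hz : z * z = 1) (hzQ : ∀ q ∈ Q, q * z = z * q)
    (hQ : ∀ a ∈ Q, ∀ b ∈ Q, a * b = b * a ∨ a * b = z * (b * a))
    (yQ : y ∈ Q) (hy : y * y = 1) (tQ : t ∈ Q) (ht : t * t = 1) (hyt : y * t = z * (t * y))
    (T1 : Tri Q z y t f) (T2 : Tri Q z t y g)
    (rQ : r ∈ Q) (hr : r * r = 1) (hry : r * y = y * r) (hrt : r * t = t * r)
    (hc : c * z = z * c) (hcQ : ∀ q, q ∈ Q ↔ c * q * c⁻¹ ∈ Q) (hcy : c * y * c⁻¹ = r)
    (hcen : ∀ v : G, v * z = z * v → (∀ n ∈ Q, n * r = r * n → n * v = v * n) →
      v = 1 ∨ v = z ∨ v = r ∨ v = z * r) :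
    (f * r * f⁻¹ * (g * r * g⁻¹)) * (f * r * f⁻¹ * (g * r * g⁻¹)) = z * r := by
  have T' := T1.conj c hc hcQ
  rw [hcy] at T'
  have hty : t * y = z * (y * t) := by rw [hyt, ← mul_assoc z z, hz, one_mul]
  obtain ⟨w1, hw1, e1⟩ := combine hz hzQ hQ T1 T' yQ hy tQ ht hyt rQ hr hry.symm hrt.symm hcen
  obtain ⟨w2, hw2, e2⟩ := combine hz hzQ hQ T2 T' tQ ht yQ hy hty rQ hr hrt.symm hry.symm hcen
  obtain ⟨b1, b1z, b1r, -⟩ := bpart hz hzQ T' rQ hr yQ hy hry.symm
  obtain ⟨b2, b2z, b2r, -⟩ := bpart hz hzQ T' rQ hr tQ ht hrt.symm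
  set F := c * f * c⁻¹ with hF
  have hzr : r * z = z * r := hzQ r rQ
  have hcomm : ∀ b w : G, b * z = z * b → b * r = r * b → (w = 1 ∨ w = z ∨ w = r ∨ w = z * r) →
      b * w = w * b := by
    intro b w h1 h2 hw
    rcases hw with rfl | rfl | rfl | rfl
    · rw [mul_one, one_mul]
    · exact h1
    · exact h2
    · rw [← mul_assoc, h1, mul_assoc, h2, ← mul_assoc]
  have hwz : ∀ w : G, (w = 1 ∨ w = z ∨ w = r ∨ w = z * r) → w * z = z * w ∧ w * r = r * w ∧
      w * w = 1 := by
    intro w hw
    rcases hw with rfl | rfl | rfl | rfl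
    · simp
    · exact ⟨rfl, hzr.symm, hz⟩
    · exact ⟨hzr, rfl, hr⟩
    · refine ⟨by rw [mul_assoc, hzr], by
        calc z * r * r = z * (r * r) := by group
          _ = (r * r) * z := by rw [hr, mul_one, one_mul]
          _ = r * (z * r) := by rw [← hzr]; group, ?_⟩
      calc z * r * (z * r) = z * (r * z) * r := by group
        _ = (z * z) * (r * r) := by rw [hzr]; group
        _ = 1 := by rw [hz, hr, one_mul]
  set B1 := F⁻¹ * y * F with hB1
  set B2 := F⁻¹ * t * F with hB2
  have k12 := hcomm B2 w1 b2z b2r hw1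
  have k11 := hcomm B1 w1 b1z b1r hw1
  have k22 := hcomm B2 w2 b2z b2r hw2
  have k21 := hcomm B1 w2 b1z b1r hw2
  have kw := hcomm w1 w2 (hwz w1 hw1).1 (hwz w1 hw1).2.1 hw2
  have q1 := (hwz w1 hw1).2.2
  have q2 := (hwz w2 hw2).2.2
  have hFz : F⁻¹ * z * F = z * r := by
    have g1 : F * z * F⁻¹ = r := T'.gz
    have g2 : F * r * F⁻¹ = z * r := T'.ge
    have : F * (z * r) * F⁻¹ = z := by
      calc F * (z * r) * F⁻¹ = (F * z * F⁻¹) * (F * r * F⁻¹) := by group
        _ = r * (z * r) := by rw [g1, g2]
        _ = z * (r * r) := by rw [← mul_assoc, hzr]; group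
        _ = z := by rw [hr, mul_one]
    calc F⁻¹ * z * F = F⁻¹ * (F * (z * r) * F⁻¹) * F := by rw [this]
      _ = z * r := by group
  rw [e1, e2]
  calc B1 * w1 * (B2 * w2) * (B1 * w1 * (B2 * w2))
      = B1 * (w1 * B2) * w2 * B1 * (w1 * B2) * w2 := by group
    _ = B1 * (B2 * w1) * w2 * B1 * (B2 * w1) * w2 := by rw [k12]
    _ = B1 * B2 * w1 * (w2 * B1) * B2 * w1 * w2 := by group
    _ = B1 * B2 * (w1 * B1) * w2 * B2 * w1 * w2 := by rw [← k21]; group
    _ = B1 * B2 * B1 * w1 * (w2 * B2) * w1 * w2 := by rw [← k11]; group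
    _ = B1 * B2 * B1 * (w1 * B2) * w2 * w1 * w2 := by rw [← k22]; group
    _ = B1 * B2 * B1 * B2 * w1 * w2 * (w1 * w2) := by rw [← k12]; group
    _ = B1 * B2 * B1 * B2 * w1 * (w2 * w2) * w1 := by rw [kw]; group
    _ = B1 * B2 * B1 * B2 * (w1 * w1) := by rw [q2]; group
    _ = B1 * B2 * B1 * B2 := by rw [q1, mul_one]
    _ = F⁻¹ * (y * t * (y * t)) * F := by rw [hB1, hB2]; group
    _ = F⁻¹ * (z * (t * y) * (y * t)) * F := by nth_rewrite 1 [hyt]; rfl
    _ = F⁻¹ * (z * (t * (y * y) * t)) * F := by group
    _ = F⁻¹ * z * F := by rw [hy, mul_one, ht, mul_one]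
    _ = z * r := hFz

end Cfsg.Agent.SuzType.RR
end

-- part: SuzType/CentA4
section
/-!
# The centralizer in `C(z)` of the subgroup `A4` of `L = A5` (node N5)

`Pre Q z y t L`, `Canon Q z y t L c κ`; `A4 = κ (stabiliser of 4)`; `r = c 4`; elements `a`, `b` of `C(z)`
commuting with `A4` and acting on `Q` like `f r f⁻¹` and `u r u⁻¹`.
Then every element of `C(z)` commuting with `A4` lies in `⟨y, t, r, a, b⟩`.
-/

set_option autoImplicit false

namespace Cfsg.Agent.SuzType.CentA4

open Cfsg.Agent.J2Type.QStruct Cfsg.Agent.J2Type.Model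
open Cfsg.Agent.ClassificationK.LargeSymplectic Cfsg.Agent.SuzType.CanonG

variable {G : Type*} [Group G]

/-- The elements of `C(z)` acting like `f r f⁻¹` (`y' = y`, `t' = t`) or `u r u⁻¹` (`y' = t`, `t' = y`). -/
structure Act (z y' t' : G) (c : Fin 5 → G) (κ : alternatingGroup (Fin 5) →* G) (a : G) : Prop where
  az : a * z = z * a
  ay : a * y' = y' * a
  at' : a * t' * a⁻¹ = c 4 * t'
  a4 : a * c 4 = c 4 * a
  ac : ∀ i, i ≠ 4 → a * c i * a⁻¹ = z * y' * c i
  aA : ∀ σ : alternatingGroup (Fin 5), (σ : Equiv.Perm (Fin 5)) 4 = 4 → a * κ σ = κ σ * a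

/-- `x` or `1` -/
def bp (x : G) (b : Bool) : G := cond b x 1

theorem bp_true (x : G) : bp x true = x := rfl
theorem bp_false (x : G) : bp x false = 1 := rfl

section basics

variable {Q L : Subgroup G} {z y t : G} {c : Fin 5 → G} {κ : alternatingGroup (Fin 5) →* G}
  (H : Pre Q z y t L) (K : Canon Q z y t L c κ)

include K in
theorem cc (i : Fin 5) : c i * c i = 1 := K.c_sq i

include H K in
theorem c_ne_zp (a : ZMod 2) (i : Fin 5) : c i ≠ zp z a := by
  intro h
  have h1 := K.c_anti i (i + 1) (by fin_cases i <;> decide)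
  have hz : ∀ x ∈ Q, x * zp z a = zp z a * x := by
    intro x hx
    rcases zmod2_cases a with rfl | rfl
    · rw [zp_zero, mul_one, one_mul]
    · rw [zp_one]; exact H.D.com x hx
  rw [h, ← hz _ (K.c_mem _)] at h1
  exact H.z_ne (mul_eq_right.1 h1.symm)

include H K in
/-- products of two involutions determine the pair -/
theorem pair_of_eq {i j k l : Fin 5} (_hij : i ≠ j) (hkl : k ≠ l) {a : ZMod 2}
    (h : c i * c j = zp z a * (c k * c l)) : k = i ∨ k = j := by
  by_contra hno
  push Not at hno
  obtain ⟨h1, h2⟩ := hno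
  have hz : ∀ x ∈ Q, x * z = z * x := H.D.com
  have e1 : c k * (c i * c j) = (c i * c j) * c k := by
    calc c k * (c i * c j) = (c k * c i) * c j := by group
      _ = z * c i * (c k * c j) := by rw [K.c_anti k i h1]; group
      _ = z * (c i * z) * (c j * c k) := by rw [K.c_anti k j h2]; group
      _ = (z * z) * (c i * (c j * c k)) := by rw [hz _ (K.c_mem i)]; group
      _ = (c i * c j) * c k := by rw [H.zz]; group
  rw [h] at e1
  have hza : ∀ x ∈ Q, x * zp z a = zp z a * x := by
    intro x hx
    rcases zmod2_cases a with rfl | rfl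
    · rw [zp_zero, mul_one, one_mul]
    · rw [zp_one]; exact hz x hx
  have e2 : c k * (zp z a * (c k * c l)) = zp z a * c l := by
    rw [← mul_assoc, hza _ (K.c_mem k), mul_assoc, ← mul_assoc (c k) (c k), K.c_sq, one_mul]
  have e3 : zp z a * (c k * c l) * c k = zp z a * (z * c l) := by
    have : c k * c l * c k = z * c l := by
      rw [mul_assoc, K.c_anti l k hkl.symm, ← mul_assoc, hz _ (K.c_mem k), mul_assoc, ← mul_assoc (c k) (c k),
        K.c_sq, one_mul]
    rw [mul_assoc, this]
  rw [e2, e3, mul_right_inj] at e1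
  exact H.z_ne (mul_eq_right.1 e1.symm)

/-- the 3-cycle `(1 2 3)` -/
def s123 : alternatingGroup (Fin 5) :=
  ⟨Equiv.swap 1 2 * Equiv.swap 2 3, Equiv.Perm.mem_alternatingGroup.2 (by decide)⟩

/-- the 3-cycle `(0 1 2)` -/
def s012 : alternatingGroup (Fin 5) :=
  ⟨Equiv.swap 0 1 * Equiv.swap 1 2, Equiv.Perm.mem_alternatingGroup.2 (by decide)⟩

theorem s123_fix4 : (s123 : Equiv.Perm (Fin 5)) 4 = 4 := by decide
theorem s012_fix4 : (s012 : Equiv.Perm (Fin 5)) 4 = 4 := by decide
theorem s123_fix0 : (s123 : Equiv.Perm (Fin 5)) 0 = 0 := by decide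
theorem s012_0 : (s012 : Equiv.Perm (Fin 5)) 0 = 1 := by decide

include K in
theorem kap_c (σ : alternatingGroup (Fin 5)) (i : Fin 5) :
    κ σ * c i = c ((σ : Equiv.Perm (Fin 5)) i) * κ σ := by
  rw [← K.κ_conj σ i]; group

include K in
theorem kap_mem (σ : alternatingGroup (Fin 5)) : κ σ ∈ L := by
  rw [← K.κ_range]; exact ⟨σ, rfl⟩

include H K in
theorem kap_zp (σ : alternatingGroup (Fin 5)) (a : ZMod 2) : κ σ * zp z a = zp z a * κ σ := by
  rcases zmod2_cases a with rfl | rfl
  · rw [zp_zero, mul_one, one_mul]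
  · rw [zp_one]; exact H.Lz _ (kap_mem K σ)

include H K in
/-- Elements of `K0` commuting with `κ σ`. -/
theorem comm_K0 (σ : alternatingGroup (Fin 5)) {k : G} (hk : k ∈ Pre.K0 Q y t) (hc : k * κ σ = κ σ * k) :
    (∃ a, k = zp z a) ∨ (∃ a i, (σ : Equiv.Perm (Fin 5)) i = i ∧ k = zp z a * c i) ∨
      (∃ a i j, i < j ∧ (((σ : Equiv.Perm (Fin 5)) i = i ∨ (σ : Equiv.Perm (Fin 5)) i = j) ∧
        ((σ : Equiv.Perm (Fin 5)) j = i ∨ (σ : Equiv.Perm (Fin 5)) j = j)) ∧ k = zp z a * (c i * c j)) := by
  obtain ⟨h1, h2, h3⟩ := Pre.mem_K0.1 hk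
  rcases K.cover k h1 h2 h3 with h | ⟨a, i, h⟩ | ⟨a, i, j, hij, h⟩
  · exact Or.inl h
  · right; left
    refine ⟨a, i, ?_, h⟩
    rw [h, mul_assoc, ← mul_assoc (κ σ), kap_zp H K, mul_assoc, kap_c K, mul_right_inj, mul_left_inj] at hc
    have := K.c_inj 0 0 i ((σ : Equiv.Perm (Fin 5)) i) (by rw [zp_zero, one_mul, one_mul]; exact hc)
    exact this.2.symm
  · right; right
    refine ⟨a, i, j, hij, ?_, h⟩
    have hc' : c i * c j = c ((σ : Equiv.Perm (Fin 5)) i) * c ((σ : Equiv.Perm (Fin 5)) j) := by
      have e1 : κ σ * (c i * c j) = (c ((σ : Equiv.Perm (Fin 5)) i) * c ((σ : Equiv.Perm (Fin 5)) j)) * κ σ := by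
        rw [← mul_assoc, kap_c K, mul_assoc, kap_c K, ← mul_assoc]
      have e2 : zp z a * ((c i * c j) * κ σ) = zp z a * (κ σ * (c i * c j)) := by
        rw [h] at hc
        calc zp z a * ((c i * c j) * κ σ) = zp z a * (c i * c j) * κ σ := by group
          _ = (κ σ * zp z a) * (c i * c j) := by rw [hc]; group
          _ = _ := by rw [kap_zp H K]; group
      rw [mul_right_inj, e1, mul_left_inj] at e2
      exact e2
    have hne : (σ : Equiv.Perm (Fin 5)) i ≠ (σ : Equiv.Perm (Fin 5)) j := fun h => hij.ne ((σ : Equiv.Perm (Fin 5)).injective h)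
    constructor
    · exact pair_of_eq H K hij.ne hne (a := 0) (by rw [zp_zero, one_mul]; exact hc')
    · have hc'' : c i * c j = zp z 1 * (c ((σ : Equiv.Perm (Fin 5)) j) * c ((σ : Equiv.Perm (Fin 5)) i)) := by
        rw [hc', K.c_anti _ _ hne, zp_one]
      exact pair_of_eq H K hij.ne hne.symm hc''

include H K in
/-- Elements of `Q` commuting with `κ (1 2 3)`. -/
theorem comm_s123 {q : G} (hq : q ∈ Q) (hc : q * κ s123 = κ s123 * q) :
    ∃ (s : ZMod 2) (γ δ α β : Bool), q = zp z s * bp (c 0) γ * bp (c 4) δ * bp y α * bp t β := by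
  obtain ⟨k, hk, hx⟩ := H.decomp q hq
  have hd : ∃ α β : Bool, q = k * (bp y α * bp t β) := by
    rcases hx with h | h | h | h
    · exact ⟨false, false, by rw [h]; simp [bp]⟩
    · exact ⟨true, false, by rw [h]; simp [bp]⟩
    · exact ⟨false, true, by rw [h]; simp [bp]⟩
    · exact ⟨true, true, by rw [h]; simp [bp]⟩
  obtain ⟨α, β, hab⟩ := hd
  have hcd : (bp y α * bp t β) * κ s123 = κ s123 * (bp y α * bp t β) := by
    have c1 : Commute (κ s123) y := H.Ly _ (kap_mem K _)
    have c2 : Commute (κ s123) t := H.Lt _ (kap_mem K _)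
    have c3 : Commute (κ s123) (bp y α) := by cases α <;> simp [bp, c1]
    have c4 : Commute (κ s123) (bp t β) := by cases β <;> simp [bp, c2]
    exact (c3.mul_right c4).eq.symm
  have hck : k * κ s123 = κ s123 * k := by
    rw [hab, mul_assoc, hcd] at hc
    apply mul_right_cancel (b := bp y α * bp t β)
    rw [mul_assoc, hc, mul_assoc]
  have key : ∃ (s : ZMod 2) (γ δ : Bool), k = zp z s * bp (c 0) γ * bp (c 4) δ := by
    rcases comm_K0 H K s123 hk hck with ⟨a, h⟩ | ⟨a, i, hi, h⟩ | ⟨a, i, j, hij, hh, h⟩
    · exact ⟨a, false, false, by simp [bp, h]⟩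
    · have : i = 0 ∨ i = 4 := by
        clear h
        revert i
        decide
      rcases this with rfl | rfl
      · exact ⟨a, true, false, by simp [bp, h]⟩
      · exact ⟨a, false, true, by simp [bp, h]⟩
    · have : i = 0 ∧ j = 4 := by
        clear h
        revert i j
        decide
      obtain ⟨rfl, rfl⟩ := this
      exact ⟨a, true, true, by simp [bp, h, mul_assoc]⟩
  obtain ⟨s, γ, δ, hk'⟩ := key
  refine ⟨s, γ, δ, α, β, ?_⟩
  rw [hab, hk']
  simp only [mul_assoc]

include H K in
/-- Elements of `Q` commuting with `A4`. -/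
theorem comm_A4 {q : G} (hq : q ∈ Q) (hc : q * κ s123 = κ s123 * q) (hc' : q * κ s012 = κ s012 * q) :
    ∃ (s : ZMod 2) (δ α β : Bool), q = zp z s * bp (c 4) δ * bp y α * bp t β := by
  obtain ⟨k, hk, hx⟩ := H.decomp q hq
  have hd : ∃ α β : Bool, q = k * (bp y α * bp t β) := by
    rcases hx with h | h | h | h
    · exact ⟨false, false, by rw [h]; simp [bp]⟩
    · exact ⟨true, false, by rw [h]; simp [bp]⟩
    · exact ⟨false, true, by rw [h]; simp [bp]⟩
    · exact ⟨true, true, by rw [h]; simp [bp]⟩
  obtain ⟨α, β, hab⟩ := hd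
  have hcd : ∀ σ : alternatingGroup (Fin 5), (bp y α * bp t β) * κ σ = κ σ * (bp y α * bp t β) := by
    intro σ
    have c1 : Commute (κ σ) y := H.Ly _ (kap_mem K _)
    have c2 : Commute (κ σ) t := H.Lt _ (kap_mem K _)
    have c3 : Commute (κ σ) (bp y α) := by cases α <;> simp [bp, c1]
    have c4 : Commute (κ σ) (bp t β) := by cases β <;> simp [bp, c2]
    exact (c3.mul_right c4).eq.symm
  have hck : ∀ σ : alternatingGroup (Fin 5), q * κ σ = κ σ * q → k * κ σ = κ σ * k := by
    intro σ hc
    rw [hab, mul_assoc, hcd] at hc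
    apply mul_right_cancel (b := bp y α * bp t β)
    rw [mul_assoc, hc, mul_assoc]
  have h1 := comm_K0 H K s123 hk (hck _ hc)
  have h2 := comm_K0 H K s012 hk (hck _ hc')
  have key : ∃ (s : ZMod 2) (δ : Bool), k = zp z s * bp (c 4) δ := by
    rcases h1 with ⟨a, h⟩ | ⟨a, i, hi, h⟩ | ⟨a, i, j, hij, hh, h⟩
    · exact ⟨a, false, by simp [bp, h]⟩
    · have : i = 0 ∨ i = 4 := by
        clear h
        revert i
        decide
      rcases this with rfl | rfl
      · exfalso
        rcases h2 with ⟨a', h'⟩ | ⟨a', i', hi', h'⟩ | ⟨a', i', j', hij', hh', h'⟩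
        · apply c_ne_zp H K (a + a') 0
          rw [h] at h'
          have h3 := congrArg (fun w => zp z a * w) h'
          simp only [← mul_assoc, zp_self z H.zz, one_mul] at h3
          rw [h3, zp_add z H.zz]
        · have := K.c_inj _ _ _ _ (h.symm.trans h')
          rw [← this.2] at hi'
          revert hi'; decide
        · -- an involution is not a product of two
          have e1 : k * k = 1 := by
            rw [h]
            have : zp z a * c 0 * (zp z a * c 0) = (zp z a * zp z a) * (c 0 * c 0) := by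
              have : c 0 * zp z a = zp z a * c 0 := by
                rcases zmod2_cases a with rfl | rfl
                · rw [zp_zero, mul_one, one_mul]
                · rw [zp_one]; exact H.D.com _ (K.c_mem 0)
              calc zp z a * c 0 * (zp z a * c 0) = zp z a * (c 0 * zp z a) * c 0 := by group
                _ = _ := by rw [this]; group
            rw [this, zp_self z H.zz, K.c_sq, one_mul]
          have e2 : k * k = z := by
            rw [h']
            have hcz : ∀ x ∈ Q, x * zp z a' = zp z a' * x := by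
              intro x hx
              rcases zmod2_cases a' with h0 | h0
              · rw [h0, zp_zero, mul_one, one_mul]
              · rw [h0, zp_one]; exact H.D.com _ hx
            have h3 := hcz (c i' * c j') (mul_mem (K.c_mem _) (K.c_mem _))
            calc zp z a' * (c i' * c j') * (zp z a' * (c i' * c j'))
                = zp z a' * ((c i' * c j') * zp z a') * (c i' * c j') := by group
              _ = (zp z a' * zp z a') * ((c i' * c j') * (c i' * c j')) := by rw [h3]; group
              _ = (c i' * c j') * (c i' * c j') := by rw [zp_self z H.zz, one_mul]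
              _ = z * (c j' * c i') * (c i' * c j') := by
                  rw [← K.c_anti _ _ hij'.ne]
              _ = z * (c j' * (c i' * c i') * c j') := by group
              _ = z := by rw [K.c_sq, mul_one, K.c_sq, mul_one]
          rw [e1] at e2
          exact H.z_ne e2.symm
      · exact ⟨a, true, by simp [bp, h]⟩
    · exfalso
      have : i = 0 ∧ j = 4 := by
        clear h
        revert i j
        decide
      obtain ⟨rfl, rfl⟩ := this
      have hzz : ∀ (a' : ZMod 2), ∀ x ∈ Q, x * zp z a' = zp z a' * x := by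
        intro a' x hx
        rcases zmod2_cases a' with h0 | h0
        · rw [h0, zp_zero, mul_one, one_mul]
        · rw [h0, zp_one]; exact H.D.com _ hx
      have e2 : k * k = z := by
        rw [h]
        have h3 := hzz a (c 0 * c 4) (mul_mem (K.c_mem _) (K.c_mem _))
        calc zp z a * (c 0 * c 4) * (zp z a * (c 0 * c 4))
            = zp z a * ((c 0 * c 4) * zp z a) * (c 0 * c 4) := by group
          _ = (zp z a * zp z a) * ((c 0 * c 4) * (c 0 * c 4)) := by rw [h3]; group
          _ = (c 0 * c 4) * (c 0 * c 4) := by rw [zp_self z H.zz, one_mul]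
          _ = z * (c 4 * c 0) * (c 0 * c 4) := by
              rw [← K.c_anti _ _ (by decide)]
          _ = z * (c 4 * (c 0 * c 0) * c 4) := by group
          _ = z := by rw [K.c_sq, mul_one, K.c_sq, mul_one]
      rcases h2 with ⟨a', h'⟩ | ⟨a', i', hi', h'⟩ | ⟨a', i', j', hij', hh', h'⟩
      · have e1 : k * k = 1 := by rw [h', zp_self z H.zz]
        rw [e1] at e2
        exact H.z_ne e2.symm
      · have e1 : k * k = 1 := by
          rw [h']
          calc zp z a' * c i' * (zp z a' * c i') = zp z a' * (c i' * zp z a') * c i' := by group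
            _ = (zp z a' * zp z a') * (c i' * c i') := by rw [hzz a' _ (K.c_mem i')]; group
            _ = 1 := by rw [zp_self z H.zz, K.c_sq, one_mul]
        rw [e1] at e2
        exact H.z_ne e2.symm
      · have hij3 : i' = 3 ∧ j' = 4 := by
          clear h'
          revert i' j'
          decide
        obtain ⟨rfl, rfl⟩ := hij3
        rw [h] at h'
        have h3 : c 0 * c 4 = zp z (a + a') * (c 3 * c 4) := by
          have h4 := congrArg (fun w => zp z a * w) h'
          simp only [← mul_assoc, zp_self z H.zz, one_mul] at h4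
          rw [h4, zp_add z H.zz]
          group
        rcases pair_of_eq H K (by decide) (by decide) h3 with h5 | h5
        · exact absurd h5 (by decide)
        · exact absurd h5 (by decide)
  obtain ⟨s, δ, hk'⟩ := key
  refine ⟨s, δ, α, β, ?_⟩
  rw [hab, hk']
  simp only [mul_assoc]

/-- the subgroup `T = ⟨y, t, r, a, b⟩` -/
def T (y t : G) (c : Fin 5 → G) (a b : G) : Subgroup G := Subgroup.closure {y, t, c 4, a, b}

theorem y_mem (y t : G) (c : Fin 5 → G) (a b : G) : y ∈ T y t c a b := Subgroup.subset_closure (by simp)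
theorem t_mem (y t : G) (c : Fin 5 → G) (a b : G) : t ∈ T y t c a b := Subgroup.subset_closure (by simp)
theorem r_mem (y t : G) (c : Fin 5 → G) (a b : G) : c 4 ∈ T y t c a b := Subgroup.subset_closure (by simp)
theorem a_mem (y t : G) (c : Fin 5 → G) (a b : G) : a ∈ T y t c a b := Subgroup.subset_closure (by simp)
theorem b_mem (y t : G) (c : Fin 5 → G) (a b : G) : b ∈ T y t c a b := Subgroup.subset_closure (by simp)

include H in
theorem z_mem (c : Fin 5 → G) (a b : G) : z ∈ T y t c a b := by
  have h1 : z = y * t * y⁻¹ * t⁻¹ := by rw [H.yt]; group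
  rw [h1]
  exact mul_mem (mul_mem (mul_mem (y_mem _ _ _ _ _) (t_mem _ _ _ _ _)) (inv_mem (y_mem _ _ _ _ _)))
    (inv_mem (t_mem _ _ _ _ _))

theorem bp_mem {S : Subgroup G} {x : G} (h : x ∈ S) (b : Bool) : bp x b ∈ S := by
  cases b
  · exact one_mem _
  · exact h

theorem exists_stab (i : Fin 5) (hi : i ≠ 4) : ∃ σ : alternatingGroup (Fin 5),
    (σ : Equiv.Perm (Fin 5)) 4 = 4 ∧ (σ : Equiv.Perm (Fin 5)) 0 = i := by
  fin_cases i
  · exact ⟨1, rfl, rfl⟩
  · exact ⟨s012, by decide, by decide⟩
  · exact ⟨s012 * s012, by decide, by decide⟩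
  · exact ⟨⟨Equiv.swap 0 1 * Equiv.swap 0 3, Equiv.Perm.mem_alternatingGroup.2 (by decide)⟩, by decide, by decide⟩
  · exact absurd rfl hi

theorem zp_comm (x : G) (hx : x * z = z * x) (a : ZMod 2) : x * zp z a = zp z a * x := by
  rcases zmod2_cases a with rfl | rfl
  · rw [zp_zero, mul_one, one_mul]
  · rw [zp_one]; exact hx

/-- The final step: elements of `C(z)` commuting with `A4` and sending `c 0` into `K0`. -/
theorem mem_of_fixed (H : Pre Q z y t L) (K : Canon Q z y t L c κ) {a b : G}
    (hno : ∀ g : G, g * z = z * g → (∀ i, g * c i * g⁻¹ = c i ∨ g * c i * g⁻¹ = z * c i) →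
      (g * y * g⁻¹ = t ∨ g * y * g⁻¹ = z * t) → (g * t * g⁻¹ = y ∨ g * t * g⁻¹ = z * y) → False)
    {g : G} (hgz : g * z = z * g)
    (hgA : ∀ σ : alternatingGroup (Fin 5), (σ : Equiv.Perm (Fin 5)) 4 = 4 → g * κ σ = κ σ * g)
    {s : ZMod 2} {δ : Bool} (h0 : g * c 0 * g⁻¹ = zp z s * c 0 * bp (c 4) δ) : g ∈ T y t c a b := by
  have hzQ : ∀ x ∈ Q, ∀ a, x * zp z a = zp z a * x := fun x hx a => zp_comm x (H.D.com x hx) a
  have hzc : ∀ i a, c i * zp z a = zp z a * c i := fun i a => hzQ _ (K.c_mem i) a
  -- `δ = false`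
  have hδ : δ = false := by
    cases δ
    · rfl
    · exfalso
      have e1 : (g * c 0 * g⁻¹) * (g * c 0 * g⁻¹) = 1 := by
        calc (g * c 0 * g⁻¹) * (g * c 0 * g⁻¹) = g * (c 0 * c 0) * g⁻¹ := by group
          _ = 1 := by rw [K.c_sq]; group
      rw [h0, bp_true] at e1
      have e2 : zp z s * c 0 * c 4 * (zp z s * c 0 * c 4) = z := by
        calc zp z s * c 0 * c 4 * (zp z s * c 0 * c 4) = zp z s * (c 0 * (c 4 * zp z s)) * (c 0 * c 4) := by group
          _ = zp z s * (c 0 * zp z s) * c 4 * (c 0 * c 4) := by rw [hzc]; group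
          _ = (zp z s * zp z s) * (c 0 * c 4) * (c 0 * c 4) := by rw [hzc]; group
          _ = (c 0 * c 4) * (c 0 * c 4) := by rw [zp_self z H.zz, one_mul]
          _ = z * (c 4 * c 0) * (c 0 * c 4) := by rw [← K.c_anti 0 4 (by decide)]
          _ = z * (c 4 * (c 0 * c 0) * c 4) := by group
          _ = z := by rw [K.c_sq, mul_one, K.c_sq, mul_one]
      rw [e2] at e1
      exact H.z_ne e1
  subst hδ
  rw [bp_false, mul_one] at h0
  -- the other involutions
  have hi : ∀ i, i ≠ 4 → g * c i * g⁻¹ = zp z s * c i := by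
    intro i hi
    obtain ⟨σ, h1, h2⟩ := exists_stab i hi
    have h3 := K.κ_conj σ 0
    rw [h2] at h3
    have h4 := hgA σ h1
    have h5 : g⁻¹ * κ σ = κ σ * g⁻¹ := by
      have c1 : Commute g (κ σ) := h4
      exact c1.inv_left.eq
    calc g * c i * g⁻¹ = g * (κ σ * c 0 * (κ σ)⁻¹) * g⁻¹ := by rw [h3]
      _ = (g * κ σ) * c 0 * (κ σ * 1 * (κ σ)⁻¹ * (κ σ)⁻¹ * g⁻¹) := by group
      _ = κ σ * g * c 0 * ((κ σ)⁻¹ * g⁻¹) := by rw [h4]; group
      _ = κ σ * (g * c 0 * g⁻¹) * (κ σ)⁻¹ := by
          have h6 : (κ σ)⁻¹ * g⁻¹ = g⁻¹ * (κ σ)⁻¹ := by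
            rw [← mul_inv_rev, ← mul_inv_rev, h4]
          rw [h6]; group
      _ = κ σ * zp z s * c 0 * (κ σ)⁻¹ := by rw [h0]; group
      _ = zp z s * (κ σ * c 0 * (κ σ)⁻¹) := by rw [kap_zp H K]; group
      _ = zp z s * c i := by rw [h3]
  have hpair : ∀ i j, (zp z s * c i) * (zp z s * c j) = c i * c j := by
    intro i j
    calc (zp z s * c i) * (zp z s * c j) = zp z s * (c i * zp z s) * c j := by group
      _ = (zp z s * zp z s) * (c i * c j) := by rw [hzc]; group
      _ = _ := by rw [zp_self z H.zz, one_mul]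
  have h4 : g * c 4 * g⁻¹ = c 4 := by
    have e0 : c 4 = (c 0 * c 1 * c 2 * c 3)⁻¹ := by
      rw [eq_inv_iff_mul_eq_one]
      have := K.c_prod
      have e : c 0 * c 1 * c 2 * c 3 = (c 4)⁻¹ := eq_inv_of_mul_eq_one_left this
      rw [e, mul_inv_cancel]
    have e1 : g * (c 0 * c 1 * c 2 * c 3) * g⁻¹ = c 0 * c 1 * c 2 * c 3 := by
      calc g * (c 0 * c 1 * c 2 * c 3) * g⁻¹ =
          (g * c 0 * g⁻¹) * (g * c 1 * g⁻¹) * (g * c 2 * g⁻¹) * (g * c 3 * g⁻¹) := by group
        _ = (zp z s * c 0) * (zp z s * c 1) * (zp z s * c 2) * (zp z s * c 3) := by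
            rw [h0, hi 1 (by decide), hi 2 (by decide), hi 3 (by decide)]
        _ = ((zp z s * c 0) * (zp z s * c 1)) * ((zp z s * c 2) * (zp z s * c 3)) := by group
        _ = _ := by rw [hpair, hpair]; group
    rw [e0]
    calc g * (c 0 * c 1 * c 2 * c 3)⁻¹ * g⁻¹ = (g * (c 0 * c 1 * c 2 * c 3) * g⁻¹)⁻¹ := by group
      _ = _ := by rw [e1]
  -- the images of `y`, `t`
  have himg : ∀ x ∈ Q, (∀ i, x * c i = c i * x) → (∀ σ : alternatingGroup (Fin 5), x * κ σ = κ σ * x) →
      ∃ (s1 : ZMod 2) (α β : Bool), g * x * g⁻¹ = zp z s1 * bp y α * bp t β := by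
    intro x hx hxc hxk
    have hk : ∀ σ : alternatingGroup (Fin 5), (σ : Equiv.Perm (Fin 5)) 4 = 4 →
        (g * x * g⁻¹) * κ σ = κ σ * (g * x * g⁻¹) := by
      intro σ hσ
      have c1 : Commute g (κ σ) := hgA σ hσ
      have c2 : Commute x (κ σ) := hxk σ
      exact ((c1.mul_left c2).mul_left c1.inv_left).eq
    obtain ⟨s1, δ, α, β, h⟩ := comm_A4 H K (H.D.norm g hgz x hx) (hk _ s123_fix4) (hk _ s012_fix4)
    have e1 : (g * x * g⁻¹) * (g * c 0 * g⁻¹) = (g * c 0 * g⁻¹) * (g * x * g⁻¹) := by
      calc (g * x * g⁻¹) * (g * c 0 * g⁻¹) = g * (x * c 0) * g⁻¹ := by group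
        _ = g * (c 0 * x) * g⁻¹ := by rw [hxc]
        _ = _ := by group
    refine ⟨s1, α, β, ?_⟩
    cases δ
    · rw [h, bp_false, mul_one]
    · exfalso
      rw [h, h0, bp_true] at e1
      have cy : Commute (c 0) y := K.c_y 0
      have ct : Commute (c 0) t := K.c_t 0
      have cya : Commute (c 0) (bp y α) := by cases α <;> simp [bp, cy]
      have ctb : Commute (c 0) (bp t β) := by cases β <;> simp [bp, ct]
      have cd : Commute (c 0) (bp y α * bp t β) := cya.mul_right ctb
      have cz : ∀ w ∈ Q, Commute w (zp z s) := fun w hw => hzQ w hw s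
      have cz1 : ∀ w ∈ Q, Commute w (zp z s1) := fun w hw => hzQ w hw s1
      have hyQ : bp y α ∈ Q := bp_mem H.yQ α
      have htQ : bp t β ∈ Q := bp_mem H.tQ β
      have hX : zp z s1 * c 4 * bp y α * bp t β ∈ Q := by
        refine mul_mem (mul_mem (mul_mem ?_ (K.c_mem 4)) hyQ) htQ
        rcases zmod2_cases s1 with h9 | h9
        · rw [h9, zp_zero]; exact one_mem _
        · rw [h9, zp_one]; exact H.D.mem
      have e2 : zp z s1 * c 4 * bp y α * bp t β * c 0 = c 0 * (zp z s1 * c 4 * bp y α * bp t β) := by
        have e3 : zp z s * (zp z s1 * c 4 * bp y α * bp t β * c 0) =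
            zp z s * (c 0 * (zp z s1 * c 4 * bp y α * bp t β)) := by
          rw [← mul_assoc, ← (cz _ hX).eq, mul_assoc, e1, mul_assoc]
        exact mul_left_cancel e3
      have e4 : c 4 * c 0 = c 0 * c 4 := by
        have e5 : zp z s1 * (c 4 * c 0) * (bp y α * bp t β) = zp z s1 * (c 0 * c 4) * (bp y α * bp t β) := by
          calc zp z s1 * (c 4 * c 0) * (bp y α * bp t β) = zp z s1 * c 4 * (c 0 * (bp y α * bp t β)) := by group
            _ = zp z s1 * c 4 * ((bp y α * bp t β) * c 0) := by rw [cd.eq]
            _ = zp z s1 * c 4 * bp y α * bp t β * c 0 := by group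
            _ = c 0 * (zp z s1 * c 4 * bp y α * bp t β) := e2
            _ = (c 0 * zp z s1) * c 4 * bp y α * bp t β := by group
            _ = _ := by rw [(cz1 _ (K.c_mem 0)).eq]; group
        exact mul_left_cancel (mul_right_cancel e5)
      have e6 := K.c_anti 4 0 (by decide)
      rw [e4] at e6
      rw [← e4] at e6
      exact H.z_ne (mul_eq_right.1 e6.symm)
  have hyk : ∀ σ : alternatingGroup (Fin 5), y * κ σ = κ σ * y := fun σ => (H.Ly _ (kap_mem K σ)).symm
  have htk : ∀ σ : alternatingGroup (Fin 5), t * κ σ = κ σ * t := fun σ => (H.Lt _ (kap_mem K σ)).symm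
  -- squares and centrality
  have hsel : ∀ x ∈ Q, x * x = 1 → (∀ a, x ≠ zp z a) → (∀ i, x * c i = c i * x) →
      (∀ σ : alternatingGroup (Fin 5), x * κ σ = κ σ * x) →
      ∃ s1 : ZMod 2, g * x * g⁻¹ = zp z s1 * y ∨ g * x * g⁻¹ = zp z s1 * t := by
    intro x hx hxx hxz hxc hxk
    obtain ⟨s1, α, β, h⟩ := himg x hx hxc hxk
    refine ⟨s1, ?_⟩
    cases α <;> cases β
    · exfalso
      rw [bp_false, bp_false, mul_one, mul_one] at h
      apply hxz s1
      have c1 : Commute g (zp z s1) := zp_comm g hgz s1
      calc x = g⁻¹ * (g * x * g⁻¹) * g := by group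
        _ = g⁻¹ * (zp z s1 * g) := by rw [h]; group
        _ = zp z s1 := by rw [← c1.eq]; group
    · right; rw [h, bp_false, bp_true, mul_one]
    · left; rw [h, bp_false, bp_true, mul_one]
    · exfalso
      rw [bp_true, bp_true] at h
      have e1 : (g * x * g⁻¹) * (g * x * g⁻¹) = 1 := by
        calc (g * x * g⁻¹) * (g * x * g⁻¹) = g * (x * x) * g⁻¹ := by group
          _ = 1 := by rw [hxx]; group
      rw [h] at e1
      have e2 : zp z s1 * y * t * (zp z s1 * y * t) = z := by
        have h9 := hzQ (y * t) (mul_mem H.yQ H.tQ) s1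
        calc zp z s1 * y * t * (zp z s1 * y * t) = zp z s1 * ((y * t) * zp z s1) * (y * t) := by group
          _ = (zp z s1 * zp z s1) * ((y * t) * (y * t)) := by rw [h9]; group
          _ = y * t * (y * t) := by rw [zp_self z H.zz, one_mul]
          _ = z * (t * y) * (y * t) := by rw [← H.yt]
          _ = z * (t * (y * y) * t) := by group
          _ = z := by rw [H.y2, mul_one, H.t2, mul_one]
      rw [e2] at e1
      exact H.z_ne e1
  have hynz : ∀ a, y ≠ zp z a := by
    intro a h
    have h1 := H.yt
    rw [h, ← hzQ t H.tQ a] at h1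
    exact H.z_ne (mul_eq_right.1 h1.symm)
  have htnz : ∀ a, t ≠ zp z a := by
    intro a h
    have h1 := H.yt
    rw [h, hzQ y H.yQ a] at h1
    exact H.z_ne (mul_eq_right.1 h1.symm)
  obtain ⟨s1, hy⟩ := hsel y H.yQ H.y2 hynz (fun i => (K.c_y i).symm) hyk
  obtain ⟨s2, ht⟩ := hsel t H.tQ H.t2 htnz (fun i => (K.c_t i).symm) htk
  have hanti : (g * y * g⁻¹) * (g * t * g⁻¹) = z * ((g * t * g⁻¹) * (g * y * g⁻¹)) := by
    calc (g * y * g⁻¹) * (g * t * g⁻¹) = g * (y * t) * g⁻¹ := by group
      _ = (g * z) * (t * y) * g⁻¹ := by rw [H.yt]; group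
      _ = z * (g * (t * y) * g⁻¹) := by rw [hgz]; group
      _ = _ := by group
  have hzs : ∀ a, zp z a = 1 ∨ zp z a = z := by
    intro a
    rcases zmod2_cases a with h9 | h9
    · left; rw [h9, zp_zero]
    · right; rw [h9, zp_one]
  have hcall : ∀ i, g * c i * g⁻¹ = c i ∨ g * c i * g⁻¹ = z * c i := by
    intro i
    by_cases hi4 : i = 4
    · left; rw [hi4]; exact h4
    · rw [hi i hi4]
      rcases hzs s with h9 | h9
      · left; rw [h9, one_mul]
      · right; rw [h9]
  rcases hy with hy | hy <;> rcases ht with ht | ht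
  · -- both `y`
    exfalso
    rw [hy, ht] at hanti
    have e1 : zp z s1 * y * (zp z s2 * y) = zp z s2 * y * (zp z s1 * y) := by
      calc zp z s1 * y * (zp z s2 * y) = zp z s1 * (y * zp z s2) * y := by group
        _ = (zp z s1 * zp z s2) * (y * y) := by rw [hzQ y H.yQ]; group
        _ = (zp z s2 * zp z s1) * (y * y) := by rw [zp_comm _ (by
            rcases hzs s1 with h9 | h9 <;> simp [h9])]
        _ = zp z s2 * (zp z s1 * y) * y := by group
        _ = zp z s2 * (y * zp z s1) * y := by rw [hzQ y H.yQ]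
        _ = _ := by group
    rw [e1] at hanti
    exact H.z_ne (mul_eq_right.1 hanti.symm)
  · -- the good case
    have hyg : g * y * g⁻¹ = zp z s1 * y := hy
    have htg : g * t * g⁻¹ = zp z s2 * t := ht
    obtain ⟨w, hwT, hwz, hwc, hw4, hwy, hwt⟩ : ∃ w ∈ T y t c a b, w * z = z * w ∧
        (∀ i, i ≠ 4 → w * c i * w⁻¹ = zp z s * c i) ∧ w * c 4 * w⁻¹ = c 4 ∧
        w * y * w⁻¹ = zp z s1 * y ∧ w * t * w⁻¹ = zp z s2 * t := by
      have i4 : (c 4)⁻¹ = c 4 := inv_eq_of_mul_eq_one_left (K.c_sq 4)
      have iy : y⁻¹ = y := inv_eq_of_mul_eq_one_left H.y2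
      have it : t⁻¹ = t := inv_eq_of_mul_eq_one_left H.t2
      -- three elementary pieces
      have p1 : ∃ w ∈ T y t c a b, w ∈ Q ∧ (∀ i, i ≠ 4 → w * c i * w⁻¹ = zp z s * c i) ∧
          w * c 4 * w⁻¹ = c 4 ∧ w * y * w⁻¹ = y ∧ w * t * w⁻¹ = t := by
        rcases zmod2_cases s with h9 | h9
        · exact ⟨1, one_mem _, one_mem _, by intro i _; rw [h9, zp_zero]; group, by group, by group, by group⟩
        · refine ⟨c 4, r_mem _ _ _ _ _, K.c_mem 4, ?_, by group, ?_, ?_⟩
          · intro i hi4
            rw [K.c_anti 4 i (Ne.symm hi4), h9, zp_one]; group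
          · rw [K.c_y]; group
          · rw [K.c_t]; group
      have p2 : ∃ w ∈ T y t c a b, w ∈ Q ∧ (∀ i, w * c i * w⁻¹ = c i) ∧
          w * y * w⁻¹ = zp z s1 * y ∧ w * t * w⁻¹ = t := by
        rcases zmod2_cases s1 with h9 | h9
        · exact ⟨1, one_mem _, one_mem _, by intro i; group, by rw [h9, zp_zero]; group, by group⟩
        · refine ⟨t, t_mem _ _ _ _ _, H.tQ, ?_, ?_, by group⟩
          · intro i
            rw [← K.c_t]; group
          · rw [H.ty, h9, zp_one]; group
      have p3 : ∃ w ∈ T y t c a b, w ∈ Q ∧ (∀ i, w * c i * w⁻¹ = c i) ∧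
          w * y * w⁻¹ = y ∧ w * t * w⁻¹ = zp z s2 * t := by
        rcases zmod2_cases s2 with h9 | h9
        · exact ⟨1, one_mem _, one_mem _, by intro i; group, by group, by rw [h9, zp_zero]; group⟩
        · refine ⟨y, y_mem _ _ _ _ _, H.yQ, ?_, by group, ?_⟩
          · intro i
            rw [← K.c_y]; group
          · rw [H.yt, h9, zp_one]; group
      obtain ⟨w1, m1, q1, c1, d1, y1, t1⟩ := p1
      obtain ⟨w2, m2, q2, c2, y2, t2⟩ := p2
      obtain ⟨w3, m3, q3, c3, y3, t3⟩ := p3
      have hcj : ∀ w ∈ Q, ∀ a x : _, w * (zp z a * x) * w⁻¹ = zp z a * (w * x * w⁻¹) := by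
        intro w hw a x
        have := hzQ w hw a
        calc w * (zp z a * x) * w⁻¹ = (w * zp z a) * x * w⁻¹ := by group
          _ = _ := by rw [this]; group
      refine ⟨w1 * w2 * w3, mul_mem (mul_mem m1 m2) m3, ?_, ?_, ?_, ?_, ?_⟩
      · exact H.D.com _ (mul_mem (mul_mem q1 q2) q3)
      · intro i hi4
        calc w1 * w2 * w3 * c i * (w1 * w2 * w3)⁻¹ = w1 * (w2 * (w3 * c i * w3⁻¹) * w2⁻¹) * w1⁻¹ := by group
          _ = _ := by rw [c3, c2, c1 i hi4]
      · calc w1 * w2 * w3 * c 4 * (w1 * w2 * w3)⁻¹ = w1 * (w2 * (w3 * c 4 * w3⁻¹) * w2⁻¹) * w1⁻¹ := by group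
          _ = _ := by rw [c3, c2, d1]
      · calc w1 * w2 * w3 * y * (w1 * w2 * w3)⁻¹ = w1 * (w2 * (w3 * y * w3⁻¹) * w2⁻¹) * w1⁻¹ := by group
          _ = _ := by rw [y3, y2, hcj _ q1, y1]
      · calc w1 * w2 * w3 * t * (w1 * w2 * w3)⁻¹ = w1 * (w2 * (w3 * t * w3⁻¹) * w2⁻¹) * w1⁻¹ := by group
          _ = _ := by rw [t3, hcj _ q2, hcj _ q1, t2, t1]
    -- `w⁻¹ g` centralizes `Q`
    have hfix : ∀ x : G, g * x * g⁻¹ = w * x * w⁻¹ → (w⁻¹ * g) * x = x * (w⁻¹ * g) := by
      intro x hx
      calc (w⁻¹ * g) * x = w⁻¹ * (g * x * g⁻¹) * g := by group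
        _ = w⁻¹ * (w * x * w⁻¹) * g := by rw [hx]
        _ = _ := by group
    have hfc : ∀ i, (w⁻¹ * g) * c i = c i * (w⁻¹ * g) := by
      intro i
      apply hfix
      by_cases hi4 : i = 4
      · rw [hi4, h4, hw4]
      · rw [hi i hi4, hwc i hi4]
    have hfz : (w⁻¹ * g) * z = z * (w⁻¹ * g) := by
      apply hfix
      rw [hgz, hwz]; group
    have hfy : (w⁻¹ * g) * y = y * (w⁻¹ * g) := hfix y (by rw [hyg, hwy])
    have hft : (w⁻¹ * g) * t = t * (w⁻¹ * g) := hfix t (by rw [htg, hwt])
    have hK : ∀ k ∈ Pre.K0 Q y t, (w⁻¹ * g) * k = k * (w⁻¹ * g) := by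
      intro k hk
      obtain ⟨k1, k2, k3⟩ := Pre.mem_K0.1 hk
      have cz : ∀ a, Commute (w⁻¹ * g) (zp z a) := fun a => zp_comm _ hfz a
      have ccc : ∀ i, Commute (w⁻¹ * g) (c i) := hfc
      rcases K.cover k k1 k2 k3 with ⟨a, h⟩ | ⟨a, i, h⟩ | ⟨a, i, j, -, h⟩
      · rw [h]; exact cz a
      · rw [h]; exact (cz a).mul_right (ccc i)
      · rw [h]; exact (cz a).mul_right ((ccc i).mul_right (ccc j))
    have hT : w⁻¹ * g ∈ T y t c a b := by
      rcases H.cent_Q _ hK hfy hft with h | h
      · rw [h]; exact one_mem _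
      · rw [h]; exact z_mem H c a b
    have := mul_mem hwT hT
    rwa [mul_inv_cancel_left] at this
  · exfalso
    refine hno g hgz hcall ?_ ?_
    · rcases hzs s1 with h9 | h9
      · left; rw [hy, h9, one_mul]
      · right; rw [hy, h9]
    · rcases hzs s2 with h9 | h9
      · left; rw [ht, h9, one_mul]
      · right; rw [ht, h9]
  · exfalso
    rw [hy, ht] at hanti
    have e1 : zp z s1 * t * (zp z s2 * t) = zp z s2 * t * (zp z s1 * t) := by
      calc zp z s1 * t * (zp z s2 * t) = zp z s1 * (t * zp z s2) * t := by group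
        _ = (zp z s1 * zp z s2) * (t * t) := by rw [hzQ t H.tQ]; group
        _ = (zp z s2 * zp z s1) * (t * t) := by rw [zp_comm _ (by
            rcases hzs s1 with h9 | h9 <;> simp [h9])]
        _ = zp z s2 * (zp z s1 * t) * t := by group
        _ = zp z s2 * (t * zp z s1) * t := by rw [hzQ t H.tQ]
        _ = _ := by group
    rw [e1] at hanti
    exact H.z_ne (mul_eq_right.1 hanti.symm)

/-- Commutation of `bp` factors. -/
theorem comm_bp {x w : G} (h : x * w = w * x) (b : Bool) : x * bp w b = bp w b * x := by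
  cases b
  · simp [bp]
  · exact h

/-- The image of `c 0` under an element of `C(z)` commuting with `A4`. -/
theorem image_c0 (H : Pre Q z y t L) (K : Canon Q z y t L c κ) {g : G} (hgz : g * z = z * g)
    (hgA : ∀ σ : alternatingGroup (Fin 5), (σ : Equiv.Perm (Fin 5)) 4 = 4 → g * κ σ = κ σ * g) :
    ∃ (s : ZMod 2) (δ α β : Bool), g * c 0 * g⁻¹ = zp z s * c 0 * bp (c 4) δ * bp y α * bp t β := by
  have hk0 : c 0 * κ s123 = κ s123 * c 0 := by
    rw [kap_c K, s123_fix0]
  have hk : (g * c 0 * g⁻¹) * κ s123 = κ s123 * (g * c 0 * g⁻¹) := by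
    have c1 : Commute g (κ s123) := hgA _ s123_fix4
    have c2 : Commute (c 0) (κ s123) := hk0
    exact ((c1.mul_left c2).mul_left c1.inv_left).eq
  obtain ⟨s, γ, δ, α, β, h⟩ := comm_s123 H K (H.D.norm g hgz _ (K.c_mem 0)) hk
  cases γ
  · exfalso
    rw [bp_false, mul_one] at h
    -- the image commutes with `κ s012`
    have h1 : (g * c 0 * g⁻¹) * κ s012 = κ s012 * (g * c 0 * g⁻¹) := by
      rw [h]
      have d1 : Commute (κ s012) (zp z s) := kap_zp H K s012 s
      have d2 : Commute (κ s012) (c 4) := by
        have := kap_c K s012 4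
        rwa [s012_fix4] at this
      have d2' : Commute (κ s012) (bp (c 4) δ) := comm_bp d2 δ
      have d3 : Commute (κ s012) (bp y α) := comm_bp (H.Ly _ (kap_mem K _)) α
      have d4 : Commute (κ s012) (bp t β) := comm_bp (H.Lt _ (kap_mem K _)) β
      exact (((d1.mul_right d2').mul_right d3).mul_right d4).eq.symm
    have h2 : g * (c 0 * κ s012) * g⁻¹ = g * (κ s012 * c 0) * g⁻¹ := by
      have e1 : g⁻¹ * κ s012 = κ s012 * g⁻¹ := by
        have c1 : Commute g (κ s012) := hgA _ s012_fix4
        exact c1.inv_left.eq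
      calc g * (c 0 * κ s012) * g⁻¹ = g * c 0 * (κ s012 * g⁻¹) := by group
        _ = (g * c 0 * g⁻¹) * κ s012 := by rw [← e1]; group
        _ = κ s012 * g * c 0 * g⁻¹ := by rw [h1]; group
        _ = _ := by rw [← hgA _ s012_fix4]; group
    have h3 : c 0 * κ s012 = κ s012 * c 0 := mul_left_cancel (mul_right_cancel h2)
    rw [kap_c K, s012_0, mul_left_inj] at h3
    have := K.c_inj 0 0 0 1 (by rw [zp_zero, one_mul, one_mul]; exact h3)
    exact absurd this.2 (by decide)
  · exact ⟨s, δ, α, β, by rw [h, bp_true]⟩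

/-- **`C_{C(z)}(A4) = ⟨y, t, r, a, b⟩`.** -/
theorem mem_T (H : Pre Q z y t L) (K : Canon Q z y t L c κ) {a b : G}
    (A : Act z y t c κ a) (B : Act z t y c κ b)
    (hno : ∀ g : G, g * z = z * g → (∀ i, g * c i * g⁻¹ = c i ∨ g * c i * g⁻¹ = z * c i) →
      (g * y * g⁻¹ = t ∨ g * y * g⁻¹ = z * t) → (g * t * g⁻¹ = y ∨ g * t * g⁻¹ = z * y) → False)
    {g : G} (hgz : g * z = z * g)
    (hgA : ∀ σ : alternatingGroup (Fin 5), (σ : Equiv.Perm (Fin 5)) 4 = 4 → g * κ σ = κ σ * g) :
    g ∈ T y t c a b := by
  have hzQ : ∀ x ∈ Q, ∀ a, x * zp z a = zp z a * x := fun x hx a => zp_comm x (H.D.com x hx) a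
  have zp1 : ∀ s : ZMod 2, zp z s * z = zp z (s + 1) := by
    intro s
    rw [zp_add z H.zz, zp_one]
  -- multiplication by an element `w` of `T`
  have red : ∀ w ∈ T y t c a b, w * g ∈ T y t c a b → g ∈ T y t c a b := by
    intro w hw h
    have := mul_mem (inv_mem hw) h
    rwa [inv_mul_cancel_left] at this
  -- the case `α = false`
  have caseB : ∀ g : G, g * z = z * g →
      (∀ σ : alternatingGroup (Fin 5), (σ : Equiv.Perm (Fin 5)) 4 = 4 → g * κ σ = κ σ * g) →
      ∀ (s : ZMod 2) (δ β : Bool), g * c 0 * g⁻¹ = zp z s * c 0 * bp (c 4) δ * bp t β → g ∈ T y t c a b := by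
    intro g hgz hgA s δ β h
    cases β
    · rw [bp_false, mul_one] at h
      exact mem_of_fixed H K hno hgz hgA h
    · rw [bp_true] at h
      have h1 : (b * g) * c 0 * (b * g)⁻¹ = zp z (s + 1) * c 0 * bp (c 4) δ := by
        have e4 : b * bp (c 4) δ * b⁻¹ = bp (c 4) δ := by
          rw [comm_bp B.a4]; group
        have et : b * t * b⁻¹ = t := by rw [B.ay]; group
        have ez : b * zp z s * b⁻¹ = zp z s := by rw [zp_comm b B.az s]; group
        have ct4 : t * bp (c 4) δ = bp (c 4) δ * t := comm_bp (K.c_t 4).symm δ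
        calc (b * g) * c 0 * (b * g)⁻¹ = b * (g * c 0 * g⁻¹) * b⁻¹ := by group
          _ = (b * zp z s * b⁻¹) * (b * c 0 * b⁻¹) * (b * bp (c 4) δ * b⁻¹) * (b * t * b⁻¹) := by rw [h]; group
          _ = zp z s * (z * t * c 0) * bp (c 4) δ * t := by rw [ez, B.ac 0 (by decide), e4, et]
          _ = zp z s * z * (t * c 0) * (bp (c 4) δ * t) := by group
          _ = zp z s * z * (c 0 * t) * (t * bp (c 4) δ) := by rw [← ct4, K.c_t 0]
          _ = zp z s * z * c 0 * (t * t) * bp (c 4) δ := by group
          _ = _ := by rw [H.t2, mul_one, zp1]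
      have hbz : (b * g) * z = z * (b * g) := by
        rw [mul_assoc, hgz, ← mul_assoc, B.az, mul_assoc]
      have hbA : ∀ σ : alternatingGroup (Fin 5), (σ : Equiv.Perm (Fin 5)) 4 = 4 →
          (b * g) * κ σ = κ σ * (b * g) := by
        intro σ hσ
        rw [mul_assoc, hgA σ hσ, ← mul_assoc, B.aA σ hσ, mul_assoc]
      have h2 := mem_of_fixed H K (a := a) (b := b) hno hbz hbA h1
      have := mul_mem (inv_mem (b_mem y t c a b)) h2
      rwa [inv_mul_cancel_left] at this
  obtain ⟨s, δ, α, β, h⟩ := image_c0 H K hgz hgA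
  cases α
  · rw [bp_false, mul_one] at h
    exact caseB g hgz hgA s δ β h
  · rw [bp_true] at h
    apply red a (a_mem y t c a b)
    have haz : (a * g) * z = z * (a * g) := by
      rw [mul_assoc, hgz, ← mul_assoc, A.az, mul_assoc]
    have haA : ∀ σ : alternatingGroup (Fin 5), (σ : Equiv.Perm (Fin 5)) 4 = 4 →
        (a * g) * κ σ = κ σ * (a * g) := by
      intro σ hσ
      rw [mul_assoc, hgA σ hσ, ← mul_assoc, A.aA σ hσ, mul_assoc]
    have e4 : a * bp (c 4) δ * a⁻¹ = bp (c 4) δ := by
      rw [comm_bp A.a4]; group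
    have ey : a * y * a⁻¹ = y := by rw [A.ay]; group
    have ez : a * zp z s * a⁻¹ = zp z s := by rw [zp_comm a A.az s]; group
    have cy4 : y * bp (c 4) δ = bp (c 4) δ * y := comm_bp (K.c_y 4).symm δ
    have hmain : (a * g) * c 0 * (a * g)⁻¹ =
        zp z (s + 1) * c 0 * bp (c 4) δ * (a * bp t β * a⁻¹) := by
      calc (a * g) * c 0 * (a * g)⁻¹ = a * (g * c 0 * g⁻¹) * a⁻¹ := by group
        _ = (a * zp z s * a⁻¹) * (a * c 0 * a⁻¹) * (a * bp (c 4) δ * a⁻¹) * (a * y * a⁻¹) *
            (a * bp t β * a⁻¹) := by rw [h]; group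
        _ = zp z s * (z * y * c 0) * bp (c 4) δ * y * (a * bp t β * a⁻¹) := by
            rw [ez, A.ac 0 (by decide), e4, ey]
        _ = zp z s * z * (y * c 0) * (bp (c 4) δ * y) * (a * bp t β * a⁻¹) := by group
        _ = zp z s * z * (c 0 * y) * (y * bp (c 4) δ) * (a * bp t β * a⁻¹) := by rw [← cy4, K.c_y 0]
        _ = zp z s * z * c 0 * (y * y) * bp (c 4) δ * (a * bp t β * a⁻¹) := by group
        _ = _ := by rw [H.y2, mul_one, zp1]
    cases β
    · apply caseB (a * g) haz haA (s + 1) δ false
      rw [hmain]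
      simp [bp]
    · have hd : ∃ δ', bp (c 4) δ * c 4 = bp (c 4) δ' := by
        cases δ
        · exact ⟨true, by simp [bp]⟩
        · exact ⟨false, by simp [bp, K.c_sq]⟩
      obtain ⟨δ', hd⟩ := hd
      apply caseB (a * g) haz haA (s + 1) δ' true
      rw [hmain, bp_true, A.at', ← hd]
      group

end basics

end Cfsg.Agent.SuzType.CentA4
end

-- part: SuzType/LocalRel
section
/-!
# Groups of Suzuki type: the local elements and their relations

`Local Q z y t f u g L` : `PreT Q z y t L`, elements `f`, `u = g f g⁻¹` of order three (`f : z → y → z y`,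
`u : z → t → z t`), `g` swaps `y`, `t` and normalises `L`.
-/

set_option autoImplicit false

namespace Cfsg.Agent.SuzType.LocalRel

open Cfsg.Agent.J2Type.QStruct Cfsg.Agent.J2Type.Model
open Cfsg.Agent.ClassificationK.LargeSymplectic Cfsg.Agent.SuzType.CanonG Cfsg.Agent.SuzType.Swap
  Cfsg.Agent.SuzType.RR Cfsg.Agent.SuzType.CentA4
open Cfsg.Agent.LargeExtra Cfsg.Agent.LargeExtra.FourGroup

variable {G : Type*} [Group G]

/-- The local data of a group of Suzuki type. -/
structure Local (Q : Subgroup G) (z y t f u g : G) (L : Subgroup G) : Prop extends PreT Q z y t L where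
  T1 : Tri Q z y t f
  T2 : Tri Q z t y u
  f3 : f ^ 3 = 1
  u3 : u ^ 3 = 1
  fL : ∀ l ∈ L, l * f = f * l
  uL : ∀ l ∈ L, l * u = u * l
  gz : g * z = z * g
  gy : g * y * g⁻¹ = t
  gt : g * t * g⁻¹ = y
  gL : ∀ x, x ∈ L ↔ g * x * g⁻¹ ∈ L
  gf : g * f * g⁻¹ = u

end Cfsg.Agent.SuzType.LocalRel
end

private theorem dce_af81edf0fa02 : _root_.True := by
  try have : _root_.True := by simp only [_root_.Cfsg.Agent.SuzType.CentA4.bp.eq_1]
  exact _root_.True.intro
end

-- part: SporRec/SuzNo143
section
set_option linter.all false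
open scoped Cfsg.Agent.FastGrp

/-!
The presented Suzuki group has no commuting elements of order 13 and 11.
-/

set_option autoImplicit false
set_option maxRecDepth 100000
set_option exponentiation.threshold 4000

namespace Cfsg.Agent.SporRec.SuzNo143

open scoped Pointwise
open Cfsg.Spor Cfsg.Agent.Lib.PermNet Cfsg.Agent.Lib.PermNetOrbit Cfsg.Agent.SporadicRecognition.SuzPhi
  Cfsg.Agent.SporadicRecognition.SuzOrder

/-- Points moved by a word (planes `b < m`). -/
noncomputable def moved (k : ℕ) (w : List Net) (m : ℕ) : ℕ :=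
  Nat.rec (motive := fun _ => ℕ) 0
    (fun b ih => seq (Nat.xor (appWord w (plane k b)) (plane k b)) fun x => Nat.lor x ih) m

theorem moved_spec {N k : ℕ} {w : List Net} (hw : WOk N w) (m q : ℕ) (h : (moved k w m).testBit q = true) :
    wperm w q ≠ q := by
  intro he
  induction m with
  | zero =>
    have : (0 : ℕ).testBit q = true := h
    rw [Nat.zero_testBit] at this
    exact absurd this (by simp)
  | succ m ih =>
    have e : moved k w (m + 1) = (appWord w (plane k m) ^^^ plane k m) ||| moved k w m := by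
      show seq (Nat.xor (appWord w (plane k m)) (plane k m)) (fun x => Nat.lor x (moved k w m)) = _
      rw [seq_eq]; rfl
    rw [e, Nat.testBit_or, Bool.or_eq_true] at h
    rcases h with h | h
    · rw [Nat.testBit_xor, testBit_appWord hw, he, Bool.xor_self] at h
      exact absurd h (by simp)
    · exact ih h

/-- An element of order 13. -/
noncomputable def w13 : List Suz.Gen := [.a, .b, .c, .b, .d, .e, .f]

theorem w13_pow : (el w13) ^ 13 = 1 := by
  apply φ_injective
  rw [map_pow, φ_el, wperm_wd, ← rp_prod, map_one]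
  exact triv_spec (by decide +kernel)

theorem w13_moved : ∀ q, 0 < q → q < 1782 → φ (el w13) q ≠ q := by
  intro q h1 h2
  rw [φ_el]
  apply moved_spec (wd_ok w13) (k := 11) 11
  have h3 : moved 11 (wd w13) 11 &&& (2 ^ 1782 - 2) = 2 ^ 1782 - 2 := by decide +kernel
  have h4 : (2 ^ 1782 - 2 : ℕ).testBit q = true := by
    have e : (2 ^ 1782 - 2 : ℕ) = 2 ^ 1782 - (1 + 1) := rfl
    rw [e, Nat.testBit_two_pow_sub_succ (by decide +kernel)]
    rw [Bool.and_eq_true, decide_eq_true_eq]
    refine ⟨h2, ?_⟩
    have : (1 : ℕ).testBit q = false := Nat.testBit_lt_two_pow (Nat.one_lt_two_pow (by omega))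
    rw [this]; rfl
  have h5 := congrArg (fun x => Nat.testBit x q) h3
  simp only [Nat.testBit_and, h4, Bool.and_true] at h5
  exact h5

theorem w13_zero : φ (el w13) 0 = 0 := by
  rw [φ_el, ← ptWord_eq (wd_ok w13)]
  decide +kernel

theorem φ_zero_lt (g : Suz) : φ g 0 < 1782 := by
  have h1 : φ g 0 ∈ {p : ℕ | ∃ x ∈ Subgroup.closure S7, φ x 0 = p} := ⟨g, by rw [closure_S7]; trivial, rfl⟩
  rw [orb0] at h1
  have h2 : U0.testBit (φ g 0) = true := h1
  rw [U0_bits, decide_eq_true_eq] at h2
  exact h2

theorem orderOf_w13 : orderOf (el w13) = 13 := by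
  have h13 : Fact (Nat.Prime 13) := ⟨by norm_num⟩
  apply orderOf_eq_prime w13_pow
  intro h
  apply w13_moved 1 (by norm_num) (by norm_num)
  have h1 : φ (el w13) = 1 := by rw [h]; exact map_one φ
  rw [h1]; rfl

theorem card_stab0 : Nat.card (stabL φ [0]) = 251596800 := by
  have h6 := step6
  have h5 := step5
  have h4 := step4
  have h3 := step3
  have h7 := step7
  have h1 := card_stab
  have h0 : Nat.card (stabL φ []) ≤ Nat.card Suz :=
    Nat.card_le_card_of_injective _ (Subtype.val_injective)
  rw [card_Suz] at h0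
  rw [h1] at h3
  omega

/-- **No element of order 143.** -/
theorem no143 (x y : Suz) (hx : orderOf x = 13) (hy : orderOf y = 11) (h : x * y = y * x) : False := by
  have h13 : Fact (Nat.Prime 13) := ⟨by norm_num⟩
  have key : ∀ s : Suz, orderOf s = 13 → ∃ P : Sylow 13 Suz, (P : Subgroup Suz) = Subgroup.zpowers s := by
    intro s hs
    have hP : IsPGroup 13 (Subgroup.zpowers s) := by
      apply IsPGroup.of_card (n := 1)
      rw [Nat.card_zpowers, hs, pow_one]
    have hidx := Subgroup.card_mul_index (Subgroup.zpowers s)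
    rw [Nat.card_zpowers, hs, card_Suz] at hidx
    have hnd : ¬ 13 ∣ (Subgroup.zpowers s).index := by
      have : (Subgroup.zpowers s).index = 34488115200 := by omega
      rw [this]; decide
    exact ⟨hP.toSylow hnd, rfl⟩
  obtain ⟨P, hP⟩ := key x hx
  obtain ⟨S, hS⟩ := key (el w13) orderOf_w13
  obtain ⟨g, hg⟩ := MulAction.exists_smul_eq Suz P S
  have hs : el w13 ∈ (S : Subgroup Suz) := by rw [hS]; exact Subgroup.mem_zpowers _
  rw [← hg] at hs
  have hs' : g⁻¹ * el w13 * g ∈ Subgroup.zpowers x := by
    rw [← hP]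
    have h1 : el w13 ∈ MulAut.conj g • (P : Subgroup Suz) := hs
    rw [Subgroup.mem_pointwise_smul_iff_inv_smul_mem] at h1
    have h2 : (MulAut.conj g)⁻¹ • (el w13) = g⁻¹ * el w13 * g := by
      rw [MulAut.smul_def, MulAut.conj_inv_apply]
    rw [h2] at h1
    exact h1
  obtain ⟨k, hk⟩ := Subgroup.mem_zpowers_iff.1 hs'
  have hc : Commute x y := h
  have hcomm : (g⁻¹ * el w13 * g) * y = y * (g⁻¹ * el w13 * g) := by
    rw [← hk]; exact (hc.zpow_left k).eq
  have hcomm' : el w13 * (g * y * g⁻¹) = (g * y * g⁻¹) * el w13 := by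
    calc el w13 * (g * y * g⁻¹) = g * ((g⁻¹ * el w13 * g) * y) * g⁻¹ := by group
      _ = g * (y * (g⁻¹ * el w13 * g)) * g⁻¹ := by rw [hcomm]
      _ = _ := by group
  have hfix : φ (g * y * g⁻¹) 0 = 0 := by
    by_contra hne
    apply w13_moved (φ (g * y * g⁻¹) 0) (Nat.pos_of_ne_zero hne) (φ_zero_lt _)
    rw [← Equiv.Perm.mul_apply, ← map_mul, hcomm', map_mul, Equiv.Perm.mul_apply, w13_zero]
  have hmem : g * y * g⁻¹ ∈ stabL φ [0] := by
    rw [mem_stabL]
    intro q hq
    rw [List.mem_singleton] at hq
    rw [hq]; exact hfix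
  have h1 := orderOf_dvd_natCard (⟨_, hmem⟩ : stabL φ [0])
  have h2 : orderOf (g * y * g⁻¹) = 11 := by
    have h3 : orderOf (MulAut.conj g y) = orderOf y :=
      orderOf_injective (MulAut.conj g).toMonoidHom (MulAut.conj g).injective _
    rw [MulAut.conj_apply, hy] at h3
    exact h3
  rw [Subgroup.orderOf_mk, h2, card_stab0] at h1
  exact absurd h1 (by decide)

end Cfsg.Agent.SporRec.SuzNo143
end

-- part: S1719
section
prune_inst 0x100400010000000000000020000040000000000000000100400000000084400000000000000200000000040030002000000000420000000a000000011c00800020000290080000000000008004000000000000000000000000000000000000000000000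
set_option linter.all false
open scoped Cfsg.Agent.FastGrp

-- part: SuzType/S1
section
/-!
# The presentation `S1` of the Suzuki group (helper952)

Eight elements `x y r t u p q w`; `z = (x y)²`; `D8 = ⟨x, y⟩`, `L = ⟨p, q, w⟩ = A5`, `J = ⟨x, y, t, u⟩ = A6`
commutes with `L`, `r` is a canonical involution of `2^{1+4}`.
-/

set_option autoImplicit false

namespace Cfsg.Agent.SuzType.S1

/-- Relations valid in every group of Suzuki type (words left to right, `a ^ g = g⁻¹ a g`). -/
structure Rels {G : Type*} [Group G] (x y r t u p q w : G) : Prop where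
  x2 : x * x = 1
  y2 : y * y = 1
  r2 : r * r = 1
  xy4 : (x * y) ^ 4 = 1
  t3 : t ^ 3 = 1
  u3 : u ^ 3 = 1
  tz : t⁻¹ * (x * y) ^ 2 * t = x
  tx : t⁻¹ * x * t = (x * y) ^ 2 * x
  ty : y * t * y * t = 1
  uz : u⁻¹ * (x * y) ^ 2 * u = y
  uy : u⁻¹ * y * u = (x * y) ^ 2 * y
  ux : x * u * x * u = 1
  rx : r * x = x * r
  ry : r * y = y * r
  rt : (r * t) ^ 3 = 1
  ru : (r * u) ^ 3 = 1
  ab : ((t⁻¹ * r * t) * (u⁻¹ * r * u)) ^ 2 = (x * y) ^ 2 * r
  xb : (x * (u⁻¹ * r * u)) ^ 2 = r
  ya : (y * (t⁻¹ * r * t)) ^ 2 = r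
  tu5 : (t * u) ^ 5 = 1
  tu4 : (t * u⁻¹) ^ 4 = 1
  rtu : (r * t * u) ^ 5 = 1
  rtu' : (r * t * u⁻¹) ^ 5 = 1
  p3 : p ^ 3 = 1
  q3 : q ^ 3 = 1
  w3 : w ^ 3 = 1
  pq : (p * q) ^ 2 = 1
  pw : (p * w) ^ 2 = 1
  qw : (q * w) ^ 2 = 1
  px : p * x = x * p
  py : p * y = y * p
  pt : p * t = t * p
  pu : p * u = u * p
  qx : q * x = x * q
  qy : q * y = y * q
  qt : q * t = t * q
  qu : q * u = u * q
  wx : w * x = x * w
  wy : w * y = y * w
  wt : w * t = t * w
  wu : w * u = u * w
  rp : r * p = p * r
  rq : r * q = q * r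
  rrw : (r * (w⁻¹ * r * w)) ^ 2 = (x * y) ^ 2
  prod : r * (w⁻¹ * r * w) * (w * r * w⁻¹) * (p * w⁻¹ * r * w * p⁻¹) * (q * w⁻¹ * r * w * q⁻¹) = (x * y) ^ 2
  raw : (r * (w⁻¹ * (t⁻¹ * r * t) * w)) ^ 2 = (x * y) ^ 2 * x
  rbw : (r * (w⁻¹ * (u⁻¹ * r * u) * w)) ^ 2 = (x * y) ^ 2 * y

end Cfsg.Agent.SuzType.S1
end

-- part: SuzType/Words
section
/-!
# Groups of Suzuki type: relations among the local elements

`Λ : Local Q z y t f u g L`, `K : Canon Q z y t L c κ`; `r = c 4`, `a = f r f⁻¹`, `b = u r u⁻¹`.
-/

set_option autoImplicit false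

namespace Cfsg.Agent.SuzType.Words

open Cfsg.Agent.J2Type.QStruct Cfsg.Agent.J2Type.Model
open Cfsg.Agent.ClassificationK.LargeSymplectic Cfsg.Agent.SuzType.CanonG Cfsg.Agent.SuzType.Swap
  Cfsg.Agent.SuzType.RR Cfsg.Agent.SuzType.CentA4 Cfsg.Agent.SuzType.LocalRel

variable {G : Type*} [Group G] {Q L : Subgroup G} {z y t f u g : G} {c : Fin 5 → G}
  {κ : alternatingGroup (Fin 5) →* G}

/-- Conjugation of `A5` by the transposition `(0 1)`. -/
def twistHom : alternatingGroup (Fin 5) →* alternatingGroup (Fin 5) where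
  toFun σ := ⟨Equiv.swap (0 : Fin 5) 1 * (σ : Equiv.Perm (Fin 5)) * Equiv.swap (0 : Fin 5) 1, by
    have h := Equiv.Perm.mem_alternatingGroup.1 σ.2
    apply Equiv.Perm.mem_alternatingGroup.2
    rw [map_mul, map_mul, h, mul_one]
    decide⟩
  map_one' := by
    apply Subtype.ext
    show Equiv.swap (0 : Fin 5) 1 * (1 : Equiv.Perm (Fin 5)) * Equiv.swap (0 : Fin 5) 1 = 1
    rw [mul_one, Equiv.swap_mul_self]
  map_mul' σ τ := by
    apply Subtype.ext
    show Equiv.swap (0 : Fin 5) 1 * ((σ : Equiv.Perm (Fin 5)) * (τ : Equiv.Perm (Fin 5))) * Equiv.swap (0 : Fin 5) 1 =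
      (Equiv.swap (0 : Fin 5) 1 * (σ : Equiv.Perm (Fin 5)) * Equiv.swap (0 : Fin 5) 1) *
      (Equiv.swap (0 : Fin 5) 1 * (τ : Equiv.Perm (Fin 5)) * Equiv.swap (0 : Fin 5) 1)
    have h : (Equiv.swap (0 : Fin 5) 1 : Equiv.Perm (Fin 5)) * Equiv.swap (0 : Fin 5) 1 = 1 := Equiv.swap_mul_self 0 1
    calc Equiv.swap (0 : Fin 5) 1 * ((σ : Equiv.Perm (Fin 5)) * (τ : Equiv.Perm (Fin 5))) * Equiv.swap (0 : Fin 5) 1 =
        Equiv.swap (0 : Fin 5) 1 * (σ : Equiv.Perm (Fin 5)) * 1 * (τ : Equiv.Perm (Fin 5)) * Equiv.swap (0 : Fin 5) 1 := by group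
      _ = _ := by rw [← h]; group

theorem twistHom_coe (σ : alternatingGroup (Fin 5)) :
    ((twistHom σ : alternatingGroup (Fin 5)) : Equiv.Perm (Fin 5)) =
      Equiv.swap (0 : Fin 5) 1 * (σ : Equiv.Perm (Fin 5)) * Equiv.swap (0 : Fin 5) 1 := rfl

theorem twistHom_twistHom (σ : alternatingGroup (Fin 5)) : twistHom (twistHom σ) = σ := by
  apply Subtype.ext
  rw [twistHom_coe, twistHom_coe]
  have h : ∀ j : Fin 5, Equiv.swap (0 : Fin 5) 1 (Equiv.swap (0 : Fin 5) 1 j) = j := by intro j; simp
  apply Equiv.ext
  intro i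
  rw [Equiv.Perm.mul_apply, Equiv.Perm.mul_apply, Equiv.Perm.mul_apply, Equiv.Perm.mul_apply, h, h]

/-- The other choice of the signs. -/
theorem canon_twist (H : Pre Q z y t L) (K : Canon Q z y t L c κ) :
    Canon Q z y t L (fun i => z * c (Equiv.swap (0 : Fin 5) 1 i)) (κ.comp twistHom) := by
  have hz : ∀ x ∈ Q, x * z = z * x := H.D.com
  have hsw : ∀ i j : Fin 5, i ≠ j → Equiv.swap (0 : Fin 5) 1 i ≠ Equiv.swap (0 : Fin 5) 1 j := by
    intro i j hij h
    exact hij ((Equiv.swap (0 : Fin 5) 1).injective h)
  have hpair : ∀ i j, (z * c i) * (z * c j) = c i * c j := by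
    intro i j
    calc (z * c i) * (z * c j) = z * (c i * z) * c j := by group
      _ = (z * z) * (c i * c j) := by rw [hz _ (K.c_mem i)]; group
      _ = _ := by rw [H.zz, one_mul]
  refine {
    c_mem := fun i => mul_mem H.D.mem (K.c_mem _)
    c_y := fun i => by rw [mul_assoc, K.c_y, ← mul_assoc, H.zy, mul_assoc]
    c_t := fun i => by rw [mul_assoc, K.c_t, ← mul_assoc, H.zt, mul_assoc]
    c_sq := fun i => by rw [hpair, K.c_sq]
    c_anti := fun i j hij => by rw [hpair, hpair, K.c_anti _ _ (hsw i j hij)]
    c_prod := ?_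
    c_inj := ?_
    κ_range := ?_
    κ_inj := ?_
    κ_conj := ?_
    cover := ?_ }
  · have e0 : Equiv.swap (0 : Fin 5) 1 0 = 1 := by decide
    have e1 : Equiv.swap (0 : Fin 5) 1 1 = 0 := by decide
    have e2 : Equiv.swap (0 : Fin 5) 1 2 = 2 := by decide
    have e3 : Equiv.swap (0 : Fin 5) 1 3 = 3 := by decide
    have e4 : Equiv.swap (0 : Fin 5) 1 4 = 4 := by decide
    rw [e0, e1, e2, e3, e4]
    have h1 := K.c_prod
    calc z * c 1 * (z * c 0) * (z * c 2) * (z * c 3) * (z * c 4)
        = (c 1 * c 0) * ((z * c 2) * (z * c 3)) * (z * c 4) := by rw [hpair]; group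
      _ = (c 1 * c 0) * (c 2 * c 3) * (z * c 4) := by rw [hpair]
      _ = ((c 1 * c 0 * c 2 * c 3) * z) * c 4 := by group
      _ = (z * (c 1 * c 0 * c 2 * c 3)) * c 4 := by
          rw [hz _ (mul_mem (mul_mem (mul_mem (K.c_mem 1) (K.c_mem 0)) (K.c_mem 2)) (K.c_mem 3))]
      _ = (z * (c 1 * c 0)) * (c 2 * c 3 * c 4) := by group
      _ = (c 0 * c 1) * (c 2 * c 3 * c 4) := by rw [← K.c_anti 0 1 (by decide)]
      _ = _ := by rw [← h1]; group
  · intro a b i j h
    have h1 : ∀ (a : ZMod 2) (i : Fin 5), zp z a * (z * c i) = zp z (a + 1) * c i := by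
      intro a i
      rw [zp_add z H.zz, zp_one, mul_assoc]
    rw [h1, h1] at h
    obtain ⟨h2, h3⟩ := K.c_inj _ _ _ _ h
    exact ⟨add_right_cancel h2, (Equiv.swap (0 : Fin 5) 1).injective h3⟩
  · rw [← K.κ_range]
    apply le_antisymm
    · rintro _ ⟨σ, rfl⟩
      exact ⟨twistHom σ, rfl⟩
    · rintro _ ⟨σ, rfl⟩
      refine ⟨twistHom σ, ?_⟩
      show κ (twistHom (twistHom σ)) = κ σ
      rw [twistHom_twistHom]
  · intro σ τ h
    have h1 : twistHom σ = twistHom τ := K.κ_inj h
    rw [← twistHom_twistHom σ, h1, twistHom_twistHom]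
  · intro σ i
    show κ (twistHom σ) * (z * c (Equiv.swap (0 : Fin 5) 1 i)) * (κ (twistHom σ))⁻¹ = _
    have h1 : κ (twistHom σ) * z = z * κ (twistHom σ) := H.Lz _ (by rw [← K.κ_range]; exact ⟨_, rfl⟩)
    calc κ (twistHom σ) * (z * c (Equiv.swap (0 : Fin 5) 1 i)) * (κ (twistHom σ))⁻¹
        = (κ (twistHom σ) * z) * c (Equiv.swap (0 : Fin 5) 1 i) * (κ (twistHom σ))⁻¹ := by group
      _ = z * (κ (twistHom σ) * c (Equiv.swap (0 : Fin 5) 1 i) * (κ (twistHom σ))⁻¹) := by rw [h1]; group
      _ = z * c (((twistHom σ : alternatingGroup (Fin 5)) : Equiv.Perm (Fin 5)) (Equiv.swap (0 : Fin 5) 1 i)) := by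
          rw [K.κ_conj]
      _ = _ := by
          rw [twistHom_coe]
          simp
  · intro q hq h1 h2
    have hzp : ∀ a : ZMod 2, zp z (a + 1) * z = zp z a := by
      intro a
      rw [zp_add z H.zz, zp_one, mul_assoc, H.zz, mul_one]
    have hsurj : ∀ i : Fin 5, Equiv.swap (0 : Fin 5) 1 (Equiv.swap (0 : Fin 5) 1 i) = i := by
      intro i; simp
    rcases K.cover q hq h1 h2 with ⟨a, h⟩ | ⟨a, i, h⟩ | ⟨a, i, j, hij, h⟩
    · exact Or.inl ⟨a, h⟩
    · right; left
      refine ⟨a + 1, Equiv.swap (0 : Fin 5) 1 i, ?_⟩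
      rw [hsurj, ← mul_assoc, hzp, h]
    · right; right
      rcases lt_trichotomy (Equiv.swap (0 : Fin 5) 1 i) (Equiv.swap (0 : Fin 5) 1 j) with h3 | h3 | h3
      · refine ⟨a, Equiv.swap (0 : Fin 5) 1 i, Equiv.swap (0 : Fin 5) 1 j, h3, ?_⟩
        rw [hsurj, hsurj, hpair, h]
      · exact absurd ((Equiv.swap (0 : Fin 5) 1).injective h3) hij.ne
      · refine ⟨a + 1, Equiv.swap (0 : Fin 5) 1 j, Equiv.swap (0 : Fin 5) 1 i, h3, ?_⟩
        rw [hsurj, hsurj, hpair, h, K.c_anti i j hij.ne, zp_add z H.zz, zp_one, mul_assoc]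

/-! ### The elements `a = f r f⁻¹`, `b = u r u⁻¹` -/

theorem qcomm (H : Pre Q z y t L) : ∀ a ∈ Q, ∀ b ∈ Q, a * b = b * a ∨ a * b = z * (b * a) := H.comm

/-- `a = f r f⁻¹` acts as prescribed; symmetric version. -/
theorem act_of_tri {e e' f : G} (D : Data Q z) (T : Tri Q z e e' f)
    (eQ : e ∈ Q) (e2 : e * e = 1)
    (c_mem : ∀ i, c i ∈ Q) (c_sq : ∀ i, c i * c i = 1) (c_e : ∀ i, c i * e = e * c i)
    (c_e' : ∀ i, c i * e' = e' * c i)
    (c_anti : ∀ i j, i ≠ j → c i * c j = z * (c j * c i))
    (hκf : ∀ σ, κ σ * f = f * κ σ) (hκz : ∀ σ, κ σ * z = z * κ σ)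
    (hκc : ∀ (σ : alternatingGroup (Fin 5)) i, κ σ * c i * (κ σ)⁻¹ = c ((σ : Equiv.Perm (Fin 5)) i)) :
    Act z e e' c κ (f * c 4 * f⁻¹) := by
  have hz : ∀ x ∈ Q, x * z = z * x := D.com
  obtain ⟨aa, az, ar, ae, ae', an⟩ := apart D.sqz hz T (c_mem 4) (c_sq 4) eQ (c_e 4).symm (c_e' 4).symm
  set a := f * c 4 * f⁻¹ with ha
  refine ⟨az, ae, ?_, ar, ?_, ?_⟩
  · have h1 : a * e' = c 4 * (e' * a) := by
      rw [ae', ← mul_assoc, c_sq, one_mul]
    rw [h1]; group
  · intro i hi
    have h1 := (T.rr (c i) (c_mem i) (c 4) (c_mem 4) (c_e i) (c_e 4)).2 (c_anti i 4 hi)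
    rw [← ha] at h1
    have hze : z * e = e * z := (hz e eQ).symm
    have h2 : (z * e) * (z * e) = 1 := by
      calc (z * e) * (z * e) = z * (e * z) * e := by group
        _ = (z * z) * (e * e) := by rw [← hze]; group
        _ = 1 := by rw [D.sqz, e2, one_mul]
    have h3 : a * c i = z * e * (c i * a) := by
      rw [h1, ← mul_assoc, h2, one_mul]
    rw [h3]; group
  · intro σ hσ
    have h1 : Commute (κ σ) f := hκf σ
    have h2 : Commute (κ σ) (c 4) := by
      have h3 := hκc σ 4
      rw [hσ, mul_inv_eq_iff_eq_mul] at h3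
      exact h3
    exact ((h1.mul_right h2).mul_right h1.inv_right).eq.symm

section rels

variable [Finite G] (Λ : Local Q z y t f u g L) (K : Canon Q z y t L c κ)

include Λ K in
theorem kap_L (σ : alternatingGroup (Fin 5)) : κ σ ∈ L := by rw [← K.κ_range]; exact ⟨σ, rfl⟩

include Λ K in
theorem act_a : Act z y t c κ (f * c 4 * f⁻¹) :=
  act_of_tri Λ.D Λ.T1 Λ.yQ Λ.y2 K.c_mem K.c_sq K.c_y K.c_t K.c_anti
    (fun σ => Λ.fL _ (kap_L Λ K σ)) (fun σ => Λ.toPreT.toPre.Lz _ (kap_L Λ K σ)) K.κ_conj

include Λ K in
theorem act_b : Act z t y c κ (u * c 4 * u⁻¹) :=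
  act_of_tri Λ.D Λ.T2 Λ.tQ Λ.t2 K.c_mem K.c_sq K.c_t K.c_y K.c_anti
    (fun σ => Λ.uL _ (kap_L Λ K σ)) (fun σ => Λ.toPreT.toPre.Lz _ (kap_L Λ K σ)) K.κ_conj

include Λ in
theorem normQ {k : G} (hk : k * z = z * k) (q : G) : q ∈ Q ↔ k * q * k⁻¹ ∈ Q := by
  constructor
  · exact fun hq => Λ.D.norm k hk q hq
  · intro hq
    have hk' : k⁻¹ * z = z * k⁻¹ := by
      have : Commute k z := hk
      exact this.inv_left.eq
    have := Λ.D.norm k⁻¹ hk' _ hq
    have e : k⁻¹ * (k * q * k⁻¹) * k⁻¹⁻¹ = q := by group
    rwa [e] at this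

include Λ K in
theorem ab_eq : (f * c 4 * f⁻¹ * (u * c 4 * u⁻¹)) * (f * c 4 * f⁻¹ * (u * c 4 * u⁻¹)) = z * c 4 := by
  obtain ⟨k, hk, hky, -⟩ := Λ.pairs y t (c 4) (c 0) Λ.yQ Λ.tQ (K.c_mem 4) (K.c_mem 0) Λ.y2 Λ.t2 (K.c_sq 4)
    (K.c_sq 0) Λ.yt (K.c_anti 4 0 (by decide))
  have hne := Λ.toPreT.c_ne K 4
  refine ab_sq Λ.toPreT.toPre.zz Λ.D.com (qcomm Λ.toPreT.toPre) Λ.yQ Λ.y2 Λ.tQ Λ.t2 Λ.yt Λ.T1 Λ.T2 (K.c_mem 4)
    (K.c_sq 4) (K.c_y 4) (K.c_t 4) hk (normQ Λ hk) hky ?_
  intro v hv hn
  exact cent_cent Λ.D Λ.z_ne Λ.cen (c 4) (K.c_mem 4) (K.c_sq 4) hne.1 hne.2 v hv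
    (fun x hx hxr => (hn x hx hxr).symm)

/-- No element of `C(z)` swaps `y`, `t` modulo `z` and fixes all `c i` modulo `z`. -/
theorem no_swap (H : PreT Q z y t L) (K : Canon Q z y t L c κ) (h : G) (hz : h * z = z * h)
    (hc : ∀ i, h * c i * h⁻¹ = c i ∨ h * c i * h⁻¹ = z * c i)
    (hy : h * y * h⁻¹ = t ∨ h * y * h⁻¹ = z * t) (ht : h * t * h⁻¹ = y ∨ h * t * h⁻¹ = z * y) : False := by
  have hzy : z * y = y * z := H.toPre.zy
  have hzt : z * t = t * z := H.toPre.zt
  have hzz := H.toPre.zz
  have hzp : ∀ x ∈ Q, x * z = z * x := H.D.com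
  -- adjust by `e ∈ {1, y, t, y t}`
  obtain ⟨e, eQ, ec, ey, et⟩ : ∃ e ∈ Q, (∀ i, e * c i = c i * e) ∧ e * (h * y * h⁻¹) * e⁻¹ = t ∧
      e * (h * t * h⁻¹) * e⁻¹ = y := by
    have yty : y * t * y⁻¹ = z * t := by rw [H.yt]; group
    have tyt : t * y * t⁻¹ = z * y := by rw [H.toPre.ty]; group
    have cy : ∀ i, y * c i = c i * y := fun i => (K.c_y i).symm
    have ct : ∀ i, t * c i = c i * t := fun i => (K.c_t i).symm
    rcases hy with hy | hy <;> rcases ht with ht | ht
    · exact ⟨1, one_mem _, fun i => by rw [one_mul, mul_one], by rw [hy]; group, by rw [ht]; group⟩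
    · refine ⟨t, H.tQ, ct, by rw [hy]; group, ?_⟩
      rw [ht]
      calc t * (z * y) * t⁻¹ = (t * z) * y * t⁻¹ := by group
        _ = z * (t * y * t⁻¹) := by rw [← hzt]; group
        _ = y := by rw [tyt, ← mul_assoc, hzz, one_mul]
    · refine ⟨y, H.yQ, cy, ?_, by rw [ht]; group⟩
      rw [hy]
      calc y * (z * t) * y⁻¹ = (y * z) * t * y⁻¹ := by group
        _ = z * (y * t * y⁻¹) := by rw [← hzy]; group
        _ = t := by rw [yty, ← mul_assoc, hzz, one_mul]
    · refine ⟨y * t, mul_mem H.yQ H.tQ, ?_, ?_, ?_⟩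
      · intro i
        rw [mul_assoc, ct, ← mul_assoc, cy, mul_assoc]
      · rw [hy]
        calc y * t * (z * t) * (y * t)⁻¹ = y * (t * z) * t * t⁻¹ * y⁻¹ := by group
          _ = (y * z) * t * y⁻¹ := by rw [← hzt]; group
          _ = z * (y * t * y⁻¹) := by rw [← hzy]; group
          _ = t := by rw [yty, ← mul_assoc, hzz, one_mul]
      · rw [ht]
        calc y * t * (z * y) * (y * t)⁻¹ = y * ((t * z) * y * t⁻¹) * y⁻¹ := by group
          _ = y * (z * (t * y * t⁻¹)) * y⁻¹ := by rw [← hzt]; group
          _ = y * y * y⁻¹ := by rw [tyt, ← mul_assoc z z, hzz, one_mul]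
          _ = y := by group
  have ez : e * z = z * e := hzp e eQ
  have hgz : (e * h) * z = z * (e * h) := by rw [mul_assoc, hz, ← mul_assoc, ez, mul_assoc]
  have hgy : (e * h) * y * (e * h)⁻¹ = t := by rw [← ey]; group
  have hgt : (e * h) * t * (e * h)⁻¹ = y := by rw [← et]; group
  obtain ⟨π, hπ, hs⟩ := H.exists_odd K hgz hgy hgt
  have hid : ∀ i, (e * h) * c i * (e * h)⁻¹ = c i ∨ (e * h) * c i * (e * h)⁻¹ = z * c i := by
    intro i
    have e1 : (e * h) * c i * (e * h)⁻¹ = e * (h * c i * h⁻¹) * e⁻¹ := by group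
    have e2 : e * c i * e⁻¹ = c i := by rw [ec]; group
    rcases hc i with h1 | h1
    · left; rw [e1, h1, e2]
    · right
      rw [e1, h1]
      calc e * (z * c i) * e⁻¹ = (e * z) * c i * e⁻¹ := by group
        _ = z * (e * c i * e⁻¹) := by rw [ez]; group
        _ = _ := by rw [e2]
  have hπ1 : π = 1 := by
    apply Equiv.ext
    intro i
    exact PreT.cls_eq K (hπ i) (hid i)
  rw [hπ1, Equiv.Perm.sign_one] at hs
  exact absurd hs (by decide)

include Λ K in
/-- **`C_{C(z)}(A4) = ⟨y, t, r, a, b⟩`.** -/
theorem cent_A4 {h : G} (hz : h * z = z * h)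
    (hA : ∀ σ : alternatingGroup (Fin 5), (σ : Equiv.Perm (Fin 5)) 4 = 4 → h * κ σ = κ σ * h) :
    h ∈ T y t c (f * c 4 * f⁻¹) (u * c 4 * u⁻¹) :=
  mem_T Λ.toPreT.toPre K (act_a Λ K) (act_b Λ K) (fun h hz hc hy ht => no_swap Λ.toPreT K h hz hc hy ht) hz hA

def sp : alternatingGroup (Fin 5) := ⟨Equiv.swap (0 : Fin 5) 1 * Equiv.swap (1 : Fin 5) 2, Equiv.Perm.mem_alternatingGroup.2 (by decide)⟩
def sq : alternatingGroup (Fin 5) := ⟨Equiv.swap (0 : Fin 5) 1 * Equiv.swap (1 : Fin 5) 3, Equiv.Perm.mem_alternatingGroup.2 (by decide)⟩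
def sw : alternatingGroup (Fin 5) := ⟨Equiv.swap (0 : Fin 5) 1 * Equiv.swap (1 : Fin 5) 4, Equiv.Perm.mem_alternatingGroup.2 (by decide)⟩

theorem sp3 : sp ^ 3 = 1 := by apply Subtype.ext; decide
theorem sq3 : sq ^ 3 = 1 := by apply Subtype.ext; decide
theorem sw3 : sw ^ 3 = 1 := by apply Subtype.ext; decide
theorem spq : (sp * sq) ^ 2 = 1 := by apply Subtype.ext; decide
theorem spw : (sp * sw) ^ 2 = 1 := by apply Subtype.ext; decide
theorem sqw : (sq * sw) ^ 2 = 1 := by apply Subtype.ext; decide

theorem cube_of_sum {n f : G} (hn : n * n = 1) (hf : f ^ 3 = 1)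
    (h : n * (f * n * f⁻¹) * (f⁻¹ * n * f) = 1) : (n * f⁻¹) ^ 3 = 1 := by
  have hni : n⁻¹ = n := inv_eq_of_mul_eq_one_left hn
  have hff : f⁻¹ * f⁻¹ = f := by
    calc f⁻¹ * f⁻¹ = f⁻¹ * f⁻¹ * f ^ 3 := by rw [hf, mul_one]
      _ = f := by simp only [pow_succ, pow_zero, one_mul]; group
  have h1 : (n * f) ^ 3 = 1 := by
    calc (n * f) ^ 3 = n * f * n * f * n * f := by simp only [pow_succ, pow_zero, one_mul]; group
      _ = n * f * n * (f⁻¹ * f⁻¹) * n * f := by rw [hff]
      _ = n * (f * n * f⁻¹) * (f⁻¹ * n * f) := by group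
      _ = 1 := h
  have h2 : n * f⁻¹ = n * (n * f)⁻¹ * n⁻¹ := by
    rw [mul_inv_rev, hni]
    calc n * f⁻¹ = n * f⁻¹ * (n * n) := by rw [hn, mul_one]
      _ = _ := by group
  rw [h2]
  have h3 : (n * (n * f)⁻¹ * n⁻¹) ^ 3 = n * ((n * f) ^ 3)⁻¹ * n⁻¹ := by
    simp only [pow_succ, pow_zero, one_mul]; group
  rw [h3, h1]; group

omit [Finite G] in
include Λ in
theorem z_eq : (y * t) ^ 2 = z := by
  rw [pow_two]
  calc y * t * (y * t) = z * (t * y) * (y * t) := by rw [← Λ.yt]
    _ = z * (t * (y * y) * t) := by group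
    _ = z := by rw [Λ.y2, mul_one, Λ.t2, mul_one]

omit [Finite G] in
include K in
theorem kap_conj' (σ : alternatingGroup (Fin 5)) (i j : Fin 5) (h : (σ : Equiv.Perm (Fin 5)) j = i) :
    (κ σ)⁻¹ * c i * κ σ = c j := by
  have h1 := K.κ_conj σ j
  rw [h] at h1
  rw [← h1]; group

/-- All relations `S1`, given the two relations of `A6` and the plane relations. -/
theorem s1 (Λ : Local Q z y t f u g L) (K : Canon Q z y t L c κ) (j1 : (f⁻¹ * u⁻¹) ^ 5 = 1)
    (j2 : (f⁻¹ * u) ^ 4 = 1) (l1 : (c 4 * f⁻¹ * u⁻¹) ^ 5 = 1) (l2 : (c 4 * f⁻¹ * u) ^ 5 = 1) :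
    S1.Rels y t (c 4) f⁻¹ u⁻¹ (κ sp) (κ sq) (κ sw) := by
  have hz := z_eq Λ
  have hzz := Λ.toPreT.toPre.zz
  have hzQ : ∀ x ∈ Q, x * z = z * x := Λ.D.com
  have hL := kap_L Λ K
  have hti : t⁻¹ = t := inv_eq_of_mul_eq_one_left Λ.t2
  have hyi : y⁻¹ = y := inv_eq_of_mul_eq_one_left Λ.y2
  obtain ⟨aa, az, ar, ae, ae', an⟩ := apart Λ.D.sqz hzQ Λ.T1 (K.c_mem 4) (K.c_sq 4) Λ.yQ (K.c_y 4).symm
    (K.c_t 4).symm
  obtain ⟨bb, bz, br, be, be', bn⟩ := apart Λ.D.sqz hzQ Λ.T2 (K.c_mem 4) (K.c_sq 4) Λ.tQ (K.c_t 4).symm
    (K.c_y 4).symm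
  have comm_inv : ∀ (σ : alternatingGroup (Fin 5)) (v : G), κ σ * v = v * κ σ → κ σ * v⁻¹ = v⁻¹ * κ σ := by
    intro σ v hv
    have : Commute (κ σ) v := hv
    exact this.inv_right.eq
  have hrw : ∀ (v : G), κ sw * v = v * κ sw → (κ sw)⁻¹ * (v * c 4 * v⁻¹) * κ sw = v * c 1 * v⁻¹ := by
    intro v hv
    have h1 : Commute (κ sw) v := hv
    calc (κ sw)⁻¹ * (v * c 4 * v⁻¹) * κ sw = ((κ sw)⁻¹ * v) * c 4 * (v⁻¹ * κ sw) := by group
      _ = (v * (κ sw)⁻¹) * c 4 * (κ sw * v⁻¹) := by rw [h1.inv_left.eq, ← h1.inv_right.eq]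
      _ = v * ((κ sw)⁻¹ * c 4 * κ sw) * v⁻¹ := by group
      _ = _ := by rw [kap_conj' K sw 4 1 (by decide)]
  have hsq : ∀ (w e A : G), A * A = 1 → w * w = 1 → w * A = e * (A * w) → (w * A) ^ 2 = e := by
    intro w e A hA hw h
    rw [pow_two]
    calc w * A * (w * A) = e * (A * w) * (w * A) := by rw [← h]
      _ = e * (A * (w * w) * A) := by group
      _ = e := by rw [hw, mul_one, hA, mul_one]
  have hconjsq : ∀ v : G, (v * c 1 * v⁻¹) * (v * c 1 * v⁻¹) = 1 := by
    intro v
    calc (v * c 1 * v⁻¹) * (v * c 1 * v⁻¹) = v * (c 1 * c 1) * v⁻¹ := by group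
      _ = 1 := by rw [K.c_sq]; group
  have hfσ : ∀ σ, κ σ * f = f * κ σ := fun σ => Λ.fL _ (hL σ)
  have huσ : ∀ σ, κ σ * u = u * κ σ := fun σ => Λ.uL _ (hL σ)
  have e_w1 : (κ sw)⁻¹ * c 4 * κ sw = c 1 := kap_conj' K sw 4 1 (by decide)
  have e_w2 : κ sw * c 4 * (κ sw)⁻¹ = c 0 := by
    rw [K.κ_conj]; rfl
  have e_p : κ sp * c 1 * (κ sp)⁻¹ = c 2 := by
    rw [K.κ_conj]; rfl
  have e_q : κ sq * c 1 * (κ sq)⁻¹ = c 3 := by
    rw [K.κ_conj]; rfl
  refine {
    x2 := Λ.y2
    y2 := Λ.t2
    r2 := K.c_sq 4
    xy4 := by rw [show (4 : ℕ) = 2 * 2 from rfl, pow_mul, hz, pow_two, hzz]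
    t3 := by rw [inv_pow, Λ.f3, inv_one]
    u3 := by rw [inv_pow, Λ.u3, inv_one]
    tz := by rw [hz, inv_inv, Λ.T1.gz]
    tx := by rw [hz, inv_inv, Λ.T1.ge]
    ty := ?_
    uz := by rw [hz, inv_inv, Λ.T2.gz]
    uy := by rw [hz, inv_inv, Λ.T2.ge]
    ux := ?_
    rx := K.c_y 4
    ry := K.c_t 4
    rt := cube_of_sum (K.c_sq 4) Λ.f3 (Λ.T1.hT _ (K.c_mem 4) (K.c_y 4))
    ru := cube_of_sum (K.c_sq 4) Λ.u3 (Λ.T2.hT _ (K.c_mem 4) (K.c_t 4))
    ab := by rw [hz, inv_inv, inv_inv, pow_two]; exact ab_eq Λ K
    xb := by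
      rw [inv_inv]
      exact hsq y (c 4) _ bb Λ.y2 be'
    ya := by
      rw [inv_inv]
      exact hsq t (c 4) _ aa Λ.t2 ae'
    tu5 := j1
    tu4 := by rw [inv_inv]; exact j2
    rtu := l1
    rtu' := by rw [inv_inv]; exact l2
    p3 := by rw [← map_pow, sp3, map_one]
    q3 := by rw [← map_pow, sq3, map_one]
    w3 := by rw [← map_pow, sw3, map_one]
    pq := by rw [← map_mul, ← map_pow, spq, map_one]
    pw := by rw [← map_mul, ← map_pow, spw, map_one]
    qw := by rw [← map_mul, ← map_pow, sqw, map_one]
    px := Λ.Ly _ (hL _)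
    py := Λ.Lt _ (hL _)
    pt := comm_inv _ _ (hfσ _)
    pu := comm_inv _ _ (huσ _)
    qx := Λ.Ly _ (hL _)
    qy := Λ.Lt _ (hL _)
    qt := comm_inv _ _ (hfσ _)
    qu := comm_inv _ _ (huσ _)
    wx := Λ.Ly _ (hL _)
    wy := Λ.Lt _ (hL _)
    wt := comm_inv _ _ (hfσ _)
    wu := comm_inv _ _ (huσ _)
    rp := ?_
    rq := ?_
    rrw := ?_
    prod := ?_
    raw := ?_
    rbw := ?_ }
  · have h1 : t * f * t = f⁻¹ := by
      have := Λ.T1.inv
      rwa [hti] at this
    have h2 : t * f⁻¹ * t = f := by
      calc t * f⁻¹ * t = t * (t * f * t) * t := by rw [h1]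
        _ = (t * t) * f * (t * t) := by group
        _ = f := by rw [Λ.t2]; group
    rw [h2, mul_inv_cancel]
  · have h1 : y * u * y = u⁻¹ := by
      have := Λ.T2.inv
      rwa [hyi] at this
    have h2 : y * u⁻¹ * y = u := by
      calc y * u⁻¹ * y = y * (y * u * y) * y := by rw [h1]
        _ = (y * y) * u * (y * y) := by group
        _ = u := by rw [Λ.y2]; group
    rw [h2, mul_inv_cancel]
  · have := kap_c K sp 4
    have h4 : (sp : Equiv.Perm (Fin 5)) 4 = 4 := by decide
    rw [h4] at this
    exact this.symm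
  · have := kap_c K sq 4
    have h4 : (sq : Equiv.Perm (Fin 5)) 4 = 4 := by decide
    rw [h4] at this
    exact this.symm
  · rw [hz, e_w1, pow_two]
    exact Λ.toPreT.c_mul_sq K 4 1 (by decide)
  · have e1 : κ sp * (κ sw)⁻¹ * c 4 * κ sw * (κ sp)⁻¹ = c 2 := by
      rw [← e_p, ← e_w1]; group
    have e2 : κ sq * (κ sw)⁻¹ * c 4 * κ sw * (κ sq)⁻¹ = c 3 := by
      rw [← e_q, ← e_w1]; group
    rw [hz, e_w1, e_w2, e1, e2]
    have h0 := K.c_prod
    have h1 : c 0 * c 1 * c 2 * c 3 = (c 4)⁻¹ := eq_inv_of_mul_eq_one_left h0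
    calc c 4 * c 1 * c 0 * c 2 * c 3 = c 4 * (c 1 * c 0) * c 2 * c 3 := by group
      _ = c 4 * (z * (c 0 * c 1)) * c 2 * c 3 := by rw [K.c_anti 1 0 (by decide)]
      _ = (c 4 * z) * (c 0 * c 1 * c 2 * c 3) := by group
      _ = (z * c 4) * (c 4)⁻¹ := by rw [h1, hzQ _ (K.c_mem 4)]
      _ = z := by group
  · rw [hz, inv_inv, hrw f (hfσ _)]
    exact hsq (c 4) _ _ (hconjsq f) (K.c_sq 4)
      ((Λ.T1.rr _ (K.c_mem 4) _ (K.c_mem 1) (K.c_y 4) (K.c_y 1)).2 (K.c_anti 4 1 (by decide)))
  · rw [hz, inv_inv, hrw u (huσ _)]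
    exact hsq (c 4) _ _ (hconjsq u) (K.c_sq 4)
      ((Λ.T2.rr _ (K.c_mem 4) _ (K.c_mem 1) (K.c_t 4) (K.c_t 1)).2 (K.c_anti 4 1 (by decide)))

end rels

end Cfsg.Agent.SuzType.Words
end

-- part: LargeExtra/SuzPlaneMain
section
/-!
The relation `(r t u)^5 = 1` in `C_G(A₄) ≅ L₃(4)` for groups of Suzuki type: end of the proof.
-/

set_option autoImplicit false
set_option linter.unusedSectionVars false
set_option maxRecDepth 10000

namespace Cfsg.Agent.LargeExtra.SuzPlane

open Cfsg.Agent.LargeExtra.PlaneOff Cfsg.Agent.LargeExtra.ElemSixteen Cfsg.Agent.LargeExtra.SuzPlaneCert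
open Cfsg.Agent.SporadicRecognition.CosetCert Cfsg.Agent.SporadicRecognition.CosetCertHyp
open Cfsg.Agent.LargeExtra.CertLoop

variable {M : Type*} [Group M]

theorem comm_of_sq {F : Subgroup M} (hF : ∀ s ∈ F, s * s = 1) {p q : M} (hp : p ∈ F) (hq : q ∈ F) :
    p * q = q * p := by
  have h1 := inv_of_sq (hF _ (F.mul_mem hp hq))
  rw [mul_inv_rev, inv_of_sq (hF p hp), inv_of_sq (hF q hq)] at h1
  exact h1.symm

/-- the letters of the certificates -/
def gl (x y r t u : M) : ℕ → M
  | 0 => x
  | 1 => y
  | 2 => r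
  | 3 => t
  | 4 => t⁻¹
  | 5 => u
  | 6 => u⁻¹
  | _ => 1

def inv7 (x : ℕ) : ℕ := bif Nat.beq x 0 then 0 else bif Nat.beq x 1 then 1 else bif Nat.beq x 2 then 2 else bif Nat.beq x 3 then 4 else bif Nat.beq x 4 then 3 else bif Nat.beq x 5 then 6 else bif Nat.beq x 6 then 5 else x

namespace Rels

variable {x y r t u : M} (h : Rels x y r t u)
include h

theorem xbx : x * (u⁻¹ * r * u) * x = r * (u⁻¹ * r * u) := h.swap.yay

theorem hrel (j1 : (t * u) ^ 5 = 1) (j2 : (t * u⁻¹) ^ 4 = 1) : ∀ w ∈ rels, ev (gl x y r t u) w = 1 := by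
  have hx := h.x2
  have hy := h.y2
  have hr := h.r2
  have e1 : t⁻¹ * (x * y) ^ 2 * t * x = 1 := by rw [h.tz, hx]
  have e2 : u⁻¹ * (x * y) ^ 2 * u * y = 1 := by rw [h.uz, hy]
  have e3 : (t⁻¹ * x * t) * (y * x * y) = 1 := by
    rw [h.tx, h.yxy]
    calc (x * y) ^ 2 * x * ((x * y) ^ 2 * x) = (x * y) ^ 2 * (x * (x * y) ^ 2) * x := by group
      _ = (x * y) ^ 2 * (x * y) ^ 2 * (x * x) := by rw [← h.zx]; group
      _ = 1 := by rw [h.z2, hx, one_mul]
  have e4 : (u⁻¹ * y * u) * (y * x * y * x * y) = 1 := by
    rw [h.uy]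
    calc (x * y) ^ 2 * y * (y * x * y * x * y) = (x * y) ^ 2 * (y * y) * (x * y) ^ 2 := by
          rw [pow_two]; group
      _ = 1 := by rw [hy, mul_one, h.z2]
  have e5 : (x * (u⁻¹ * r * u) * x) * (u⁻¹ * r * u) * r = 1 := by
    rw [h.xbx, mul_assoc r, h.swap.a2, mul_one, hr]
  have e6 : (y * (t⁻¹ * r * t) * y) * (t⁻¹ * r * t) * r = 1 := by
    rw [h.yay, mul_assoc r, h.a2, mul_one, hr]
  have e7 : ((t⁻¹ * r * t) * (u⁻¹ * r * u)) ^ 2 * ((x * y) ^ 2 * r) = 1 := by
    rw [h.ab]
    calc (x * y) ^ 2 * r * ((x * y) ^ 2 * r) = (x * y) ^ 2 * (r * (x * y) ^ 2) * r := by group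
      _ = (x * y) ^ 2 * (x * y) ^ 2 * (r * r) := by rw [← h.zr]; group
      _ = 1 := by rw [h.z2, hr, one_mul]
  have e8 : r * x * r * x = 1 := by
    rw [h.rx, mul_assoc x, hr, mul_one, hx]
  have e9 : r * y * r * y = 1 := by
    rw [h.ry, mul_assoc y, hr, mul_one, hy]
  have f : ∀ {a b : M}, a = b → b = 1 → a = 1 := fun h1 h2 => h1.trans h2
  intro w hw
  simp only [rels, List.mem_cons, List.not_mem_nil, or_false] at hw
  rcases hw with rfl | rfl | rfl | rfl | rfl | rfl | rfl | rfl | rfl | rfl | rfl | rfl | rfl | rfl | rfl | rfl |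
    rfl | rfl <;> simp only [ev, List.map, List.prod_cons, List.prod_nil, gl, mul_one]
  · exact f (by simp only [pow_succ, pow_zero, one_mul, mul_assoc]) h.t3
  · exact f (by simp only [pow_succ, pow_zero, one_mul, mul_assoc]) h.u3
  · exact f (by simp only [pow_succ, pow_zero, one_mul, mul_assoc]) h.ty
  · exact f (by simp only [pow_succ, pow_zero, one_mul, mul_assoc]) h.ux
  · exact f (by simp only [pow_succ, pow_zero, one_mul, mul_assoc]) e8
  · exact f (by simp only [pow_succ, pow_zero, one_mul, mul_assoc]) e9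
  · exact f (by simp only [pow_succ, pow_zero, one_mul, mul_assoc]) e3
  · exact f (by simp only [pow_succ, pow_zero, one_mul, mul_assoc]) h.rt
  · exact f (by simp only [pow_succ, pow_zero, one_mul, mul_assoc]) h.ru
  · exact f (by simp only [pow_succ, pow_zero, one_mul, mul_assoc]) e1
  · exact f (by simp only [pow_succ, pow_zero, one_mul, mul_assoc]) e2
  · exact f (by simp only [pow_succ, pow_zero, one_mul, mul_assoc]) h.xy4
  · exact f (by simp only [pow_succ, pow_zero, one_mul, mul_assoc]) e4
  · exact f (by simp only [pow_succ, pow_zero, one_mul, mul_assoc]) j2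
  · exact f (by simp only [pow_succ, pow_zero, one_mul, mul_assoc]) e5
  · exact f (by simp only [pow_succ, pow_zero, one_mul, mul_assoc]) e6
  · exact f (by simp only [pow_succ, pow_zero, one_mul, mul_assoc]) j1
  · exact f (by simp only [pow_succ, pow_zero, one_mul, mul_assoc]) e7

theorem hyp7 (C : Cert) (subw : List (List ℕ)) (hk : C.k = 7) (hinv : C.inv = inv7) (j1 : (t * u) ^ 5 = 1)
    (j2 : (t * u⁻¹) ^ 4 = 1) (H : Subgroup M) (hsub : ∀ s ∈ subw, ev (gl x y r t u) s ∈ H)
    (hchk : checkHyp C rels subw = true) : Hyp C H (gl x y r t u) := by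
  refine hyp_of_checks H (gl x y r t u) C rels subw ?_ ?_ (h.hrel j1 j2) hsub hchk
  · rw [hk]; rfl
  · intro i hi
    rw [hk] at hi
    rw [hk, hinv]
    interval_cases i
    · exact ⟨by decide, h.x2⟩
    · exact ⟨by decide, h.y2⟩
    · exact ⟨by decide, h.r2⟩
    · exact ⟨by decide, mul_inv_cancel t⟩
    · exact ⟨by decide, inv_mul_cancel t⟩
    · exact ⟨by decide, mul_inv_cancel u⟩
    · exact ⟨by decide, inv_mul_cancel u⟩


variable [Finite M]

theorem off1 (H : PlaneOff.Hyp ((x * y) ^ 2) h.four.F h.swap.four.F) :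
    ¬ Inc (cj (u * t)⁻¹ h.four.F) h.swap.four.F := by
  rintro ⟨e, he, he1, he2⟩
  have hz := H.zne
  have h1 : t * e * t⁻¹ ∈ cj u⁻¹ h.four.F := by
    have := conj_mem_cj (g := t) he1
    rwa [← cj_mul, show t * (u * t)⁻¹ = u⁻¹ by group] at this
  have h2 : t * e * t⁻¹ ∈ cj t h.swap.four.F := conj_mem_cj he2
  have h3 : t * e * t⁻¹ ≠ 1 := by
    intro h4
    apply he
    have : e = t⁻¹ * (t * e * t⁻¹) * t := by group
    rw [this, h4]; group
  obtain ⟨a, ha, ha'⟩ := H.rep1 h3 h1
  have hL : cj a h.swap.four.F = cj t h.swap.four.F := by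
    refine H.uniq2 h3 ?_ h2
    rw [ha]; exact H.z_mem_cj2 a
  have hy : y ∈ cj a h.four.F := by
    rw [ha']
    have := conj_mem_cj (g := u⁻¹) H.z1
    rwa [inv_inv, h.uz] at this
  have hzx : (x * y) ^ 2 * x ∈ cj a h.swap.four.F := by
    rw [hL, ← h.tzt]
    exact conj_mem_cj H.z2
  have hp := mem_cj.mp hy
  have hq := mem_cj.mp hzx
  set p := a⁻¹ * y * a with hpd
  set q := a⁻¹ * ((x * y) ^ 2 * x) * a with hqd
  have hqz : q * (x * y) ^ 2 = (x * y) ^ 2 * q := comm_of_sq H.sq2 hq H.z2
  have hc : p * (q * p⁻¹ * q⁻¹) ∈ h.four.F := by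
    refine h.four.F.mul_mem hp ?_
    have := conj_mem_cj (g := q) (h.four.F.inv_mem hp)
    rwa [H.nor1 q hqz] at this
  have hc2 := conj_mem_cj (g := a) hc
  have hcomp : a * (p * (q * p⁻¹ * q⁻¹)) * a⁻¹ = (x * y) ^ 2 := by
    have e1 : a * (p * (q * p⁻¹ * q⁻¹)) * a⁻¹ =
        y * ((x * y) ^ 2 * x) * y⁻¹ * ((x * y) ^ 2 * x)⁻¹ := by rw [hpd, hqd]; group
    rw [e1, mul_inv_rev, inv_of_sq h.x2, inv_of_sq h.y2, inv_of_sq h.z2]
    calc y * ((x * y) ^ 2 * x) * y * (x * (x * y) ^ 2)
        = (y * (x * y) ^ 2) * x * y * x * (x * y) ^ 2 := by group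
      _ = (x * y) ^ 2 * ((y * x * y) * x) * (x * y) ^ 2 := by rw [← h.zy]; group
      _ = (x * y) ^ 2 * ((x * y) ^ 2 * (x * x)) * (x * y) ^ 2 := by rw [h.yxy]; group
      _ = (x * y) ^ 2 := by rw [h.x2, mul_one, h.z2, one_mul]
  rw [hcomp, ha'] at hc2
  have h5 : cj u⁻¹ h.four.F = h.four.F := by
    have := H.uniq1 (g := u⁻¹) (g' := 1) hz hc2 (by rw [cj_one]; exact H.z1)
    rwa [cj_one] at this
  rw [ha', h5] at hy
  have hx : x ∈ h.four.F := by
    have := h.E1_mem 2
    rwa [E1_two] at this
  have h6 := comm_of_sq H.sq1 hx hy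
  apply hz
  rw [pow_two]
  calc x * y * (x * y) = x * y * (y * x) := by rw [h6]
    _ = x * (y * y) * x := by group
    _ = 1 := by rw [h.y2, mul_one, h.x2]

theorem off2 (H : PlaneOff.Hyp ((x * y) ^ 2) h.four.F h.swap.four.F) :
    ¬ Inc (cj (u * t * u)⁻¹ h.four.F) h.swap.four.F := by
  rintro ⟨e, he, he1, he2⟩
  apply h.off1 H
  refine ⟨u * e * u⁻¹, ?_, ?_, ?_⟩
  · intro h4
    apply he
    have : e = u⁻¹ * (u * e * u⁻¹) * u := by group
    rw [this, h4]; group
  · have := conj_mem_cj (g := u) he1
    rwa [← cj_mul, show u * (u * t * u)⁻¹ = (u * t)⁻¹ by group] at this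
  · have := conj_mem_cj (g := u) he2
    rwa [show cj u h.swap.four.F = h.swap.four.F from h.swap.t_nm] at this

theorem exists_v (H : PlaneOff.Hyp ((x * y) ^ 2) h.four.F h.swap.four.F) :
    ∃ n, n < 16 ∧ u * t * u * E1 y x r u n * (u * t)⁻¹ ∈ Nm h.four.F := by
  obtain ⟨v, hv, hv2⟩ := H.off_trans (h.off1 H) (h.off2 H)
  obtain ⟨n, hn, rfl⟩ := h.swap.mem_F1.mp hv
  refine ⟨n, hn, ?_⟩
  show cj _ _ = _
  rw [mul_assoc, cj_mul, hv2, ← cj_mul, mul_inv_cancel, cj_one]

omit [Finite M] in
theorem E1_mem_K (n : ℕ) : E1 x y r t n ∈ Subgroup.closure {x, y, r, t, u} := by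
  have hg : ∀ g ∈ ({x, y, r, t, u} : Set M), g ∈ Subgroup.closure {x, y, r, t, u} :=
    fun g hg => Subgroup.subset_closure hg
  have hx := hg x (by simp)
  have hy := hg y (by simp)
  have hr := hg r (by simp)
  have ht := hg t (by simp)
  have hb : ∀ (e : M) (i : Bool), e ∈ Subgroup.closure {x, y, r, t, u} → bp e i ∈ Subgroup.closure {x, y, r, t, u} := by
    intro e i he
    cases i
    · exact Subgroup.one_mem _
    · exact he
  exact Subgroup.mul_mem _ (Subgroup.mul_mem _ (Subgroup.mul_mem _ (hb _ _ (Subgroup.pow_mem _ (Subgroup.mul_mem _ hx hy) 2))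
    (hb _ _ hx)) (hb _ _ hr)) (hb _ _ (Subgroup.mul_mem _ (Subgroup.mul_mem _ (Subgroup.inv_mem _ ht) hr) ht))

theorem core1 (H : PlaneOff.Hyp ((x * y) ^ 2) h.four.F h.swap.four.F) {c : M} (hc : c ∈ h.four.F)
    (hc2 : ∀ m ∈ Subgroup.closure {x, y, r, t, u}, m * c * m⁻¹ ∈ Nm h.four.F) : c = 1 := by
  by_contra hne
  obtain ⟨n, hn, hn2, hn3⟩ := h.tr1 c hc hne
  have hg : ∀ g ∈ ({x, y, r, t, u} : Set M), g ∈ Subgroup.closure {x, y, r, t, u} :=
    fun g hg => Subgroup.subset_closure hg
  have hm : u * t * n⁻¹ ∈ Subgroup.closure {x, y, r, t, u} :=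
    Subgroup.mul_mem _ (Subgroup.mul_mem _ (hg u (by simp)) (hg t (by simp))) (Subgroup.inv_mem _ hn)
  have h1 := hc2 _ hm
  have h2 : u * t * n⁻¹ * c * (u * t * n⁻¹)⁻¹ = (u * t) * (x * y) ^ 2 * (u * t)⁻¹ := by
    rw [hn3]; group
  rw [h2] at h1
  have h3 : cj ((x * y) ^ 2) (cj (u * t)⁻¹ h.four.F) = cj (u * t)⁻¹ h.four.F := by
    have h4 : cj ((u * t) * (x * y) ^ 2 * (u * t)⁻¹) h.four.F = h.four.F := h1
    apply cj_inj (g := u * t)
    rw [← cj_mul, ← cj_mul, ← cj_mul, mul_inv_cancel, cj_one]
    exact h4
  obtain ⟨a, ha, hi⟩ := H.lemA h.z2 H.zne h3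
  have h5 : cj a h.swap.four.F = h.swap.four.F := by
    have := H.uniq2 (g := a) (g' := 1) H.zne ha (by rw [cj_one]; exact H.z2)
    rwa [cj_one] at this
  rw [h5] at hi
  exact h.off1 H hi

theorem core (H : PlaneOff.Hyp ((x * y) ^ 2) h.four.F h.swap.four.F)
    (hC : ∀ g, g * (x * y) ^ 2 = (x * y) ^ 2 * g →
      g ∈ Subgroup.closure {x, y, r, t⁻¹ * r * t, u⁻¹ * r * u}) {w : M}
    (hw : ∀ m ∈ Subgroup.closure {x, y, r, t, u}, m * w * m⁻¹ ∈ Nm h.four.F) : w = 1 := by
  have hw1 : w ∈ Nm h.four.F := by
    have := hw 1 (Subgroup.one_mem _)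
    simpa using this
  have hK : ∀ f ∈ h.four.F, f ∈ Subgroup.closure {x, y, r, t, u} := by
    intro f hf
    obtain ⟨n, hn, rfl⟩ := h.mem_F1.mp hf
    exact h.E1_mem_K n
  have hcomm : ∀ f ∈ h.four.F, w * f = f * w := by
    intro f hf
    have h1 : w * f * w⁻¹ * f⁻¹ ∈ h.four.F := by
      refine h.four.F.mul_mem ?_ (h.four.F.inv_mem hf)
      have := conj_mem_cj (g := w) hf
      rwa [show cj w h.four.F = h.four.F from hw1] at this
    have h2 := h.core1 H h1 (by
      intro m hm
      have h3 := hw m hm
      have h4 := hw (m * f) (Subgroup.mul_mem _ hm (hK f hf))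
      have h5 : m * (w * f * w⁻¹ * f⁻¹) * m⁻¹ = (m * w * m⁻¹) * (m * f * w * (m * f)⁻¹)⁻¹ := by group
      rw [h5]
      exact (Nm h.four.F).mul_mem h3 ((Nm h.four.F).inv_mem h4))
    have h6 : w * f * w⁻¹ = f := mul_inv_eq_one.mp h2
    exact mul_inv_eq_iff_eq_mul.mp h6
  obtain ⟨m, n, hm, hn, hmn⟩ := h.form (hC w (hcomm _ H.z1))
  have hi := h.indep H.zne (by
    intro hr
    have h1 := H.int
    -- r = 1 contradicts card1
    have h2 : Nat.card h.four.F = 16 := H.card1
    have h3 : ∀ n, n < 16 → E1 x y r t (n &&& 3) = E1 x y r t n := by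
      intro n hn
      have ha : t⁻¹ * r * t = 1 := by rw [hr]; group
      rw [E1, E1, E, E, hr]
      have k2 : ∀ b : Bool, bp (1 : M) b = 1 := by intro b; cases b <;> rfl
      have k3 : ∀ b : Bool, bp (t⁻¹ * 1 * t) b = 1 := by
        intro b; cases b
        · rfl
        · show t⁻¹ * 1 * t = 1
          group
      rw [k2, k2, k3, k3]
      have k0 : (n &&& 3).testBit 0 = n.testBit 0 := by rw [Nat.testBit_land]; simp
      have k1 : (n &&& 3).testBit 1 = n.testBit 1 := by rw [Nat.testBit_land]; simp [Nat.testBit]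
      rw [k0, k1]
    let φ : Fin 4 → h.four.F := fun i => ⟨E1 x y r t i.1, h.E1_mem _⟩
    have hφ : Function.Surjective φ := by
      rintro ⟨g, hg⟩
      obtain ⟨n, hn, rfl⟩ := h.mem_F1.mp hg
      refine ⟨⟨n &&& 3, ?_⟩, Subtype.ext (h3 n hn)⟩
      exact lt_of_le_of_lt Nat.and_le_right (by norm_num)
    have h4 := Nat.card_le_card_of_surjective φ hφ
    rw [h2] at h4
    simp at h4) (by
    intro hr
    have h2 : Nat.card h.four.F = 16 := H.card1
    -- r = z: then a = x and E1 has at most 4 values
    have ha : t⁻¹ * r * t = x := by rw [hr]; exact h.tz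
    have h3 : ∀ n, n < 16 → ∃ i : Fin 4, E1 x y r t i.1 = E1 x y r t n := by
      intro n hn
      have e4 : E1 x y r t 4 = E1 x y r t 1 := by rw [E1_four, E1_one]; exact hr
      have e8 : E1 x y r t 8 = E1 x y r t 2 := by rw [E1_eight, E1_two]; exact ha
      have h5 : ∀ n < 16, ∃ i : Fin 4, ∃ b c : Bool, n = (i.1 ^^^ (bif b then 1 ^^^ 4 else 0)) ^^^ (bif c then 2 ^^^ 8 else 0) := by
        decide
      obtain ⟨i, b, c, hbc⟩ := h5 n hn
      refine ⟨i, ?_⟩
      have e5 : E1 x y r t (1 ^^^ 4) = 1 := by rw [← h.E1_mul, e4, h.E1_sq]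
      have e10 : E1 x y r t (2 ^^^ 8) = 1 := by rw [← h.E1_mul, e8, h.E1_sq]
      have eb : E1 x y r t (bif b then 1 ^^^ 4 else 0) = 1 := by cases b; exact E1_zero _ _ _ _; exact e5
      have ec : E1 x y r t (bif c then 2 ^^^ 8 else 0) = 1 := by cases c; exact E1_zero _ _ _ _; exact e10
      rw [hbc, ← h.E1_mul, ← h.E1_mul, eb, ec, mul_one, mul_one]
    let φ : Fin 4 → h.four.F := fun i => ⟨E1 x y r t i.1, h.E1_mem _⟩
    have hφ : Function.Surjective φ := by
      rintro ⟨g, hg⟩
      obtain ⟨n, hn, rfl⟩ := h.mem_F1.mp hg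
      obtain ⟨i, hi⟩ := h3 n hn
      exact ⟨i, Subtype.ext hi⟩
    have h4 := Nat.card_le_card_of_surjective φ hφ
    rw [h2] at h4
    simp at h4)
  have hfix : ∀ j < 16, actE n j < 16 → actE n j = j := by
    intro j hj hlt
    apply h.four.E_inj hi hlt hj
    show E1 x y r t (actE n j) = E1 x y r t j
    have h1 := hcomm _ (h.E1_mem j)
    have h2 : w⁻¹ * E1 x y r t j * w = E1 x y r t j := by
      rw [mul_assoc, ← h1]; group
    rw [← h2, hmn, ← h.conj_E2]
    have h3 : (E1 x y r t m)⁻¹ * E1 x y r t j * E1 x y r t m = E1 x y r t j := by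
      rw [inv_of_sq (h.E1_sq m), h.E1_mul, h.E1_mul, Nat.xor_comm m j, Nat.xor_assoc, Nat.xor_self, Nat.xor_zero]
    conv_lhs => rw [← h3]
    group
  have hspec : ∀ n < 16, (actE n 2 < 16 ∧ actE n 8 < 16) ∧ (actE n 2 ≠ 2 ∨ actE n 8 ≠ 8 ∨ (n = 0 ∨ n = 1 ∨ n = 4 ∨ n = 5)) := by
    decide
  obtain ⟨⟨h2, h8⟩, h9⟩ := hspec n hn
  have hn' : n = 0 ∨ n = 1 ∨ n = 4 ∨ n = 5 := by
    rcases h9 with h9 | h9 | h9
    · exact absurd (hfix 2 (by norm_num) h2) h9
    · exact absurd (hfix 8 (by norm_num) h8) h9
    · exact h9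
  refine h.core1 H ?_ hw
  rw [hmn, ← h.E12 (t := t) (u := u) hn']
  exact h.four.F.mul_mem (h.E1_mem _) (h.E1_mem _)


omit [Finite M] in
/-- the word of the certificate for the element `v` -/
theorem ev_v (n : ℕ) (hn : n < 16) : ∀ w : List ℕ,
    w = (match n with
      | 0 => []
      | 1 => [0, 1, 0, 1]
      | 2 => [1]
      | 3 => [0, 1, 0]
      | 4 => [2]
      | 5 => [0, 1, 0, 1, 2]
      | 6 => [1, 2]
      | 7 => [0, 1, 0, 2]
      | 8 => [6, 2, 5]
      | 9 => [0, 1, 0, 1, 6, 2, 5]
      | 10 => [1, 6, 2, 5]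
      | 11 => [0, 1, 0, 6, 2, 5]
      | 12 => [2, 6, 2, 5]
      | 13 => [0, 1, 0, 1, 2, 6, 2, 5]
      | 14 => [1, 2, 6, 2, 5]
      | 15 => [0, 1, 0, 2, 6, 2, 5]
      | _ => []) → ev (gl x y r t u) ([5, 3, 5] ++ w ++ [4, 6]) = u * t * u * E1 y x r u n * (u * t)⁻¹ := by
  intro w hw
  have hzy : (x * y) ^ 2 * y = x * y * x := by
    calc (x * y) ^ 2 * y = x * y * x * (y * y) := by rw [pow_two]; group
      _ = x * y * x := by rw [h.y2, mul_one]
  have hz : (x * y) ^ 2 = x * y * x * y := by rw [pow_two]; group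
  have key : ev (gl x y r t u) w = E1 y x r u n := by
    subst hw
    interval_cases n
    · rw [show E1 y x r u 0 = 1 * 1 * 1 * 1 from rfl]
      simp only [ev, List.map, List.prod_cons, List.prod_nil, gl, mul_one, one_mul]
    · rw [show E1 y x r u 1 = (y * x) ^ 2 * 1 * 1 * 1 from rfl]
      simp only [ev, List.map, List.prod_cons, List.prod_nil, gl, mul_one, one_mul]
      rw [h.yx2, hz]
      try group
    · rw [show E1 y x r u 2 = 1 * y * 1 * 1 from rfl]
      simp only [ev, List.map, List.prod_cons, List.prod_nil, gl, mul_one, one_mul]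
    · rw [show E1 y x r u 3 = (y * x) ^ 2 * y * 1 * 1 from rfl]
      simp only [ev, List.map, List.prod_cons, List.prod_nil, gl, mul_one, one_mul]
      rw [h.yx2, hzy]
      try group
    · rw [show E1 y x r u 4 = 1 * 1 * r * 1 from rfl]
      simp only [ev, List.map, List.prod_cons, List.prod_nil, gl, mul_one, one_mul]
    · rw [show E1 y x r u 5 = (y * x) ^ 2 * 1 * r * 1 from rfl]
      simp only [ev, List.map, List.prod_cons, List.prod_nil, gl, mul_one, one_mul]
      rw [h.yx2, hz]
      try group
    · rw [show E1 y x r u 6 = 1 * y * r * 1 from rfl]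
      simp only [ev, List.map, List.prod_cons, List.prod_nil, gl, mul_one, one_mul]
    · rw [show E1 y x r u 7 = (y * x) ^ 2 * y * r * 1 from rfl]
      simp only [ev, List.map, List.prod_cons, List.prod_nil, gl, mul_one, one_mul]
      rw [h.yx2, hzy]
      try group
    · rw [show E1 y x r u 8 = 1 * 1 * 1 * (u⁻¹ * r * u) from rfl]
      simp only [ev, List.map, List.prod_cons, List.prod_nil, gl, mul_one, one_mul]
      try group
    · rw [show E1 y x r u 9 = (y * x) ^ 2 * 1 * 1 * (u⁻¹ * r * u) from rfl]
      simp only [ev, List.map, List.prod_cons, List.prod_nil, gl, mul_one, one_mul]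
      rw [h.yx2, hz]
      try group
    · rw [show E1 y x r u 10 = 1 * y * 1 * (u⁻¹ * r * u) from rfl]
      simp only [ev, List.map, List.prod_cons, List.prod_nil, gl, mul_one, one_mul]
      try group
    · rw [show E1 y x r u 11 = (y * x) ^ 2 * y * 1 * (u⁻¹ * r * u) from rfl]
      simp only [ev, List.map, List.prod_cons, List.prod_nil, gl, mul_one, one_mul]
      rw [h.yx2, hzy]
      try group
    · rw [show E1 y x r u 12 = 1 * 1 * r * (u⁻¹ * r * u) from rfl]
      simp only [ev, List.map, List.prod_cons, List.prod_nil, gl, mul_one, one_mul]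
      try group
    · rw [show E1 y x r u 13 = (y * x) ^ 2 * 1 * r * (u⁻¹ * r * u) from rfl]
      simp only [ev, List.map, List.prod_cons, List.prod_nil, gl, mul_one, one_mul]
      rw [h.yx2, hz]
      try group
    · rw [show E1 y x r u 14 = 1 * y * r * (u⁻¹ * r * u) from rfl]
      simp only [ev, List.map, List.prod_cons, List.prod_nil, gl, mul_one, one_mul]
      try group
    · rw [show E1 y x r u 15 = (y * x) ^ 2 * y * r * (u⁻¹ * r * u) from rfl]
      simp only [ev, List.map, List.prod_cons, List.prod_nil, gl, mul_one, one_mul]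
      rw [h.yx2, hzy]
      try group
  rw [ev_append, ev_append, key]
  simp only [ev, List.map, List.prod_cons, List.prod_nil, gl, mul_one]
  group

theorem u_not (H : PlaneOff.Hyp ((x * y) ^ 2) h.four.F h.swap.four.F) : u ∉ Nm h.four.F := by
  intro hu
  have h5 : cj u⁻¹ h.four.F = h.four.F := (Nm h.four.F).inv_mem hu
  have hy : y ∈ h.four.F := by
    have := conj_mem_cj (g := u⁻¹) H.z1
    rwa [inv_inv, h.uz, h5] at this
  have hx : x ∈ h.four.F := by
    have := h.E1_mem 2
    rwa [E1_two] at this
  have h6 := comm_of_sq H.sq1 hx hy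
  apply H.zne
  rw [pow_two]
  calc x * y * (x * y) = x * y * (y * x) := by rw [h6]
    _ = x * (y * y) * x := by group
    _ = 1 := by rw [h.y2, mul_one, h.x2]

theorem hsub {n : ℕ} (hn : n < 16) {w : List ℕ} (hw : w = (match n with
      | 0 => []
      | 1 => [0, 1, 0, 1]
      | 2 => [1]
      | 3 => [0, 1, 0]
      | 4 => [2]
      | 5 => [0, 1, 0, 1, 2]
      | 6 => [1, 2]
      | 7 => [0, 1, 0, 2]
      | 8 => [6, 2, 5]
      | 9 => [0, 1, 0, 1, 6, 2, 5]
      | 10 => [1, 6, 2, 5]
      | 11 => [0, 1, 0, 6, 2, 5]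
      | 12 => [2, 6, 2, 5]
      | 13 => [0, 1, 0, 1, 2, 6, 2, 5]
      | 14 => [1, 2, 6, 2, 5]
      | 15 => [0, 1, 0, 2, 6, 2, 5]
      | _ => [])) (hv : u * t * u * E1 y x r u n * (u * t)⁻¹ ∈ Nm h.four.F) :
    ∀ s ∈ ([[0], [1], [2], [4, 2, 3], [6, 2, 5], [3], [4], [5, 3, 5] ++ w ++ [4, 6]] : List (List ℕ)),
      ev (gl x y r t u) s ∈ Nm h.four.F := by
  intro s hs
  simp only [List.mem_cons, List.not_mem_nil, or_false] at hs
  rcases hs with rfl | rfl | rfl | rfl | rfl | rfl | rfl | rfl
  · have := nm_self (h.E1_mem 2)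
    rw [E1_two] at this
    simpa [ev, gl] using this
  · have := h.E2_nm 2
    rw [E1_two] at this
    simpa [ev, gl] using this
  · have := nm_self (h.E1_mem 4)
    rw [E1_four] at this
    simpa [ev, gl] using this
  · have := nm_self (h.E1_mem 8)
    rw [E1_eight] at this
    simpa [ev, gl, mul_assoc] using this
  · have := h.E2_nm 8
    rw [E1_eight] at this
    simpa [ev, gl, mul_assoc] using this
  · simpa [ev, gl] using h.t_nm
  · simpa [ev, gl] using h.t_nm
  · rw [h.ev_v n hn w hw]; exact hv

omit h [Finite M] in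
theorem closure_le (C : Cert) (hk : C.k = 7) :
    Subgroup.closure {x, y, r, t, u} ≤ Subgroup.closure (gl x y r t u '' {i | i < C.k}) := by
  rw [Subgroup.closure_le]
  intro g hg
  simp only [Set.mem_insert_iff, Set.mem_singleton_iff] at hg
  rw [hk]
  rcases hg with rfl | rfl | rfl | rfl | rfl
  · exact Subgroup.subset_closure ⟨0, by simp, rfl⟩
  · exact Subgroup.subset_closure ⟨1, by simp, rfl⟩
  · exact Subgroup.subset_closure ⟨2, by simp, rfl⟩
  · exact Subgroup.subset_closure ⟨3, by simp, rfl⟩
  · exact Subgroup.subset_closure ⟨5, by simp, rfl⟩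

theorem collapse (H : PlaneOff.Hyp ((x * y) ^ 2) h.four.F h.swap.four.F) (C : Cert) (subw : List (List ℕ))
    (hk : C.k = 7) (hinv : C.inv = inv7) (hchk : checkHyp C rels subw = true) (hP : Part C 0 C.N 1)
    (j1 : (t * u) ^ 5 = 1) (j2 : (t * u⁻¹) ^ 4 = 1)
    (hsub : ∀ s ∈ subw, ev (gl x y r t u) s ∈ Nm h.four.F) : False := by
  have h1 := h.hyp7 C subw hk hinv j1 j2 (Nm h.four.F) hsub hchk
  refine h.u_not H (mem_of_one C (Nm h.four.F) (gl x y r t u) h1 hP u ?_)
  exact closure_le C hk (Subgroup.subset_closure (by simp))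

theorem loop (H : PlaneOff.Hyp ((x * y) ^ 2) h.four.F h.swap.four.F)
    (hC : ∀ g, g * (x * y) ^ 2 = (x * y) ^ 2 * g →
      g ∈ Subgroup.closure {x, y, r, t⁻¹ * r * t, u⁻¹ * r * u}) (C : Cert) (subw : List (List ℕ))
    (hk : C.k = 7) (hinv : C.inv = inv7) (hchk : checkHyp C rels subw = true) {k : ℕ} (hP : Part C 0 C.N k)
    (j1 : (t * u) ^ 5 = 1) (j2 : (t * u⁻¹) ^ 4 = 1)
    (hsub : ∀ s ∈ subw, ev (gl x y r t u) s ∈ Nm h.four.F) {τ : ℕ} {w : List ℕ} (hw : loopOK C τ w = true) :
    ev (gl x y r t u) w = 1 := by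
  have h1 := h.hyp7 C subw hk hinv j1 j2 (Nm h.four.F) hsub hchk
  refine h.core H hC ?_
  intro m hm
  exact mem_of_loopOK C (Nm h.four.F) (gl x y r t u) h1 hP hw m (closure_le C hk hm)

end Rels

theorem loop12a : loopOK K12.C (K12.C.mask - 1) [2,3,5,2,3,5,2,3,5,2,3,5,2,3,5] = true := by decide +kernel
theorem loop12b : loopOK K12.C (K12.C.mask - 1) [2,3,6,2,3,6,2,3,6,2,3,6,2,3,6] = true := by decide +kernel
theorem loop15a : loopOK K15.C (K15.C.mask - 1) [0,1,0,1,2,3,5,0,1,0,1,2,3,5,0,1,0,1,2,3,5,0,1,0,1,2,3,5,0,1,0,1,2,3,5] = true := by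
  decide +kernel
theorem loop15b : loopOK K15.C (K15.C.mask - 1) [0,1,0,1,2,3,6,0,1,0,1,2,3,6,0,1,0,1,2,3,6,0,1,0,1,2,3,6,0,1,0,1,2,3,6] = true := by
  decide +kernel

/-- **The relation `(r t u)^5 = 1`** (for `r` or for `z r`). -/
theorem main [Finite M] {x y r t u : M} (h : Rels x y r t u) (hz : (x * y) ^ 2 ≠ 1) (hr : r ≠ 1)
    (hrz : r ≠ (x * y) ^ 2)
    (hC : ∀ g, g * (x * y) ^ 2 = (x * y) ^ 2 * g →
      g ∈ Subgroup.closure {x, y, r, t⁻¹ * r * t, u⁻¹ * r * u})
    (j1 : (t * u) ^ 5 = 1) (j2 : (t * u⁻¹) ^ 4 = 1) :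
    ((r * t * u) ^ 5 = 1 ∧ (r * t * u⁻¹) ^ 5 = 1) ∨
    (((x * y) ^ 2 * r * t * u) ^ 5 = 1 ∧ ((x * y) ^ 2 * r * t * u⁻¹) ^ 5 = 1) := by
  have H := h.hyp hz hr hrz hC
  obtain ⟨n, hn, hv⟩ := h.exists_v H
  have hsub := h.hsub hn rfl hv
  interval_cases n
  · exact (h.collapse H K0.C K0.subw rfl rfl K0.check K0.part j1 j2 hsub).elim
  · exact (h.collapse H K1.C K1.subw rfl rfl K1.check K1.part j1 j2 hsub).elim
  · exact (h.collapse H K2.C K2.subw rfl rfl K2.check K2.part j1 j2 hsub).elim
  · exact (h.collapse H K3.C K3.subw rfl rfl K3.check K3.part j1 j2 hsub).elim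
  · exact (h.collapse H K4.C K4.subw rfl rfl K4.check K4.part j1 j2 hsub).elim
  · exact (h.collapse H K5.C K5.subw rfl rfl K5.check K5.part j1 j2 hsub).elim
  · exact (h.collapse H K6.C K6.subw rfl rfl K6.check K6.part j1 j2 hsub).elim
  · exact (h.collapse H K7.C K7.subw rfl rfl K7.check K7.part j1 j2 hsub).elim
  · refine (h.collapse H K8.C K8.subw rfl rfl K8.check K8.part j1 j2 ?_).elim
    intro s hs
    simp only [K8.subw, List.mem_cons, List.not_mem_nil, or_false] at hs
    rcases hs with rfl | rfl | rfl | rfl | rfl | rfl | rfl | rfl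
    · exact hsub _ (by simp)
    · exact hsub _ (by simp)
    · exact hsub _ (by simp)
    · exact hsub _ (by simp)
    · exact hsub _ (by simp)
    · exact hsub _ (by simp)
    · exact hsub _ (by simp)
    · have h1 := hsub [5, 3, 5, 6, 2, 5, 4, 6] (by simp)
      have h2 : ev (gl x y r t u) [5, 3, 5, 6, 2, 5, 4, 6] = ev (gl x y r t u) [5, 3, 2, 5, 4, 6] := by
        simp only [ev, List.map, List.prod_cons, List.prod_nil, gl, mul_one]
        group
      rwa [h2] at h1
  · exact (h.collapse H K9.C K9.subw rfl rfl K9.check K9.part j1 j2 hsub).elim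
  · exact (h.collapse H K10.C K10.subw rfl rfl K10.check K10.part j1 j2 hsub).elim
  · exact (h.collapse H K11.C K11.subw rfl rfl K11.check K11.part j1 j2 hsub).elim
  · left
    have e1 := h.loop H hC K12.C K12.subw rfl rfl K12.check K12.part j1 j2 hsub loop12a
    have e2 := h.loop H hC K12.C K12.subw rfl rfl K12.check K12.part j1 j2 hsub loop12b
    simp only [ev, List.map, List.prod_cons, List.prod_nil, gl, mul_one] at e1 e2
    constructor
    · rw [← e1]; simp only [pow_succ, pow_zero, one_mul, mul_assoc]
    · rw [← e2]; simp only [pow_succ, pow_zero, one_mul, mul_assoc]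
  · exact (h.collapse H K13.C K13.subw rfl rfl K13.check K13.part j1 j2 hsub).elim
  · exact (h.collapse H K14.C K14.subw rfl rfl K14.check K14.part j1 j2 hsub).elim
  · right
    have e1 := h.loop H hC K15.C K15.subw rfl rfl K15.check K15.part j1 j2 hsub loop15a
    have e2 := h.loop H hC K15.C K15.subw rfl rfl K15.check K15.part j1 j2 hsub loop15b
    simp only [ev, List.map, List.prod_cons, List.prod_nil, gl, mul_one] at e1 e2
    constructor
    · rw [← e1]; simp only [pow_succ, pow_zero, one_mul, mul_assoc]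
    · rw [← e2]; simp only [pow_succ, pow_zero, one_mul, mul_assoc]

end Cfsg.Agent.LargeExtra.SuzPlane
end

-- part: SuzType/PlaneRel
section
/-!
# Groups of Suzuki type: the plane relations

From `Λ : Local`, `K : Canon` and the two relations of `A6`, one of the two choices of the signs of the `c i` satisfies
`(r t u)^5 = (r t u⁻¹)^5 = 1`, hence all relations `S1`.
-/

set_option autoImplicit false

namespace Cfsg.Agent.SuzType.PlaneRel

open Cfsg.Agent.J2Type.QStruct Cfsg.Agent.J2Type.Model
open Cfsg.Agent.ClassificationK.LargeSymplectic Cfsg.Agent.SuzType.CanonG Cfsg.Agent.SuzType.Swap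
  Cfsg.Agent.SuzType.RR Cfsg.Agent.SuzType.CentA4 Cfsg.Agent.SuzType.LocalRel Cfsg.Agent.SuzType.Words
open Cfsg.Agent.LargeExtra

variable {G : Type*} [Group G] {Q L : Subgroup G} {z y t f u g : G} {c : Fin 5 → G}
  {κ : alternatingGroup (Fin 5) →* G}

/-- Membership in a closure, in a subgroup. -/
theorem mem_closure_sub (M : Subgroup G) (S : Set M) (g : M)
    (h : (g : G) ∈ Subgroup.closure ((fun x : M => (x : G)) '' S)) : g ∈ Subgroup.closure S := by
  have h1 : (Subgroup.closure S).map M.subtype = Subgroup.closure (M.subtype '' S) := MonoidHom.map_closure _ _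
  have h2 : (g : G) ∈ (Subgroup.closure S).map M.subtype := by
    rw [h1]; exact h
  obtain ⟨g', hg', he⟩ := h2
  have : g' = g := Subtype.ext he
  rwa [this] at hg'

/-- The relations of `SuzPlane` in a subgroup. -/
theorem rels_sub (M : Subgroup G) (x y r t u : M) (h : SuzPlane.Rels (x : G) y r t u) :
    SuzPlane.Rels x y r t u where
  x2 := Subtype.ext h.x2
  y2 := Subtype.ext h.y2
  r2 := Subtype.ext h.r2
  xy4 := Subtype.ext h.xy4
  t3 := Subtype.ext h.t3
  u3 := Subtype.ext h.u3
  tz := Subtype.ext h.tz
  tx := Subtype.ext h.tx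
  ty := Subtype.ext h.ty
  uz := Subtype.ext h.uz
  uy := Subtype.ext h.uy
  ux := Subtype.ext h.ux
  rx := Subtype.ext h.rx
  ry := Subtype.ext h.ry
  rt := Subtype.ext h.rt
  ru := Subtype.ext h.ru
  ab := Subtype.ext h.ab

/-- The main theorem of `SuzPlaneMain` for elements of a subgroup `M`. -/
theorem main_sub [Finite G] (M : Subgroup G) {x y r t u : G} (hx : x ∈ M) (hy : y ∈ M) (hr : r ∈ M) (ht : t ∈ M)
    (hu : u ∈ M) (h : SuzPlane.Rels x y r t u) (hz : (x * y) ^ 2 ≠ 1) (hr1 : r ≠ 1)
    (hrz : r ≠ (x * y) ^ 2)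
    (hC : ∀ g ∈ M, g * (x * y) ^ 2 = (x * y) ^ 2 * g →
      g ∈ Subgroup.closure {x, y, r, t⁻¹ * r * t, u⁻¹ * r * u})
    (j1 : (t * u) ^ 5 = 1) (j2 : (t * u⁻¹) ^ 4 = 1) :
    ((r * t * u) ^ 5 = 1 ∧ (r * t * u⁻¹) ^ 5 = 1) ∨
    (((x * y) ^ 2 * r * t * u) ^ 5 = 1 ∧ ((x * y) ^ 2 * r * t * u⁻¹) ^ 5 = 1) := by
  have key := SuzPlane.main (M := M) (x := ⟨x, hx⟩) (y := ⟨y, hy⟩) (r := ⟨r, hr⟩) (t := ⟨t, ht⟩) (u := ⟨u, hu⟩)
    (rels_sub M _ _ _ _ _ h) (fun e => hz (congrArg Subtype.val e)) (fun e => hr1 (congrArg Subtype.val e))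
    (fun e => hrz (congrArg Subtype.val e)) ?_ (Subtype.ext j1) (Subtype.ext j2)
  · rcases key with ⟨h1, h2⟩ | ⟨h1, h2⟩
    · exact Or.inl ⟨congrArg Subtype.val h1, congrArg Subtype.val h2⟩
    · exact Or.inr ⟨congrArg Subtype.val h1, congrArg Subtype.val h2⟩
  · intro g hg
    apply mem_closure_sub
    have h1 := hC g g.2 (congrArg Subtype.val hg)
    refine Subgroup.closure_mono ?_ h1
    rintro s (rfl | rfl | rfl | rfl | rfl)
    · exact ⟨⟨_, hx⟩, by simp, rfl⟩
    · exact ⟨⟨_, hy⟩, by simp, rfl⟩
    · exact ⟨⟨_, hr⟩, by simp, rfl⟩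
    · exact ⟨⟨_, ht⟩⁻¹ * ⟨r, hr⟩ * ⟨_, ht⟩, by simp, rfl⟩
    · exact ⟨⟨_, hu⟩⁻¹ * ⟨r, hr⟩ * ⟨_, hu⟩, by simp, rfl⟩

/-- The relations of the plane group. -/
theorem plane_rels [Finite G] (Λ : Local Q z y t f u g L) (K : Canon Q z y t L c κ) :
    SuzPlane.Rels y t (c 4) f⁻¹ u⁻¹ := by
  have hz := z_eq Λ
  have hzz := Λ.toPreT.toPre.zz
  have hti : t⁻¹ = t := inv_eq_of_mul_eq_one_left Λ.t2
  have hyi : y⁻¹ = y := inv_eq_of_mul_eq_one_left Λ.y2
  refine {
    x2 := Λ.y2
    y2 := Λ.t2
    r2 := K.c_sq 4
    xy4 := by rw [show (4 : ℕ) = 2 * 2 from rfl, pow_mul, hz, pow_two, hzz]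
    t3 := by rw [inv_pow, Λ.f3, inv_one]
    u3 := by rw [inv_pow, Λ.u3, inv_one]
    tz := by rw [hz, inv_inv, Λ.T1.gz]
    tx := by rw [hz, inv_inv, Λ.T1.ge]
    ty := ?_
    uz := by rw [hz, inv_inv, Λ.T2.gz]
    uy := by rw [hz, inv_inv, Λ.T2.ge]
    ux := ?_
    rx := K.c_y 4
    ry := K.c_t 4
    rt := cube_of_sum (K.c_sq 4) Λ.f3 (Λ.T1.hT _ (K.c_mem 4) (K.c_y 4))
    ru := cube_of_sum (K.c_sq 4) Λ.u3 (Λ.T2.hT _ (K.c_mem 4) (K.c_t 4))
    ab := by rw [hz, inv_inv, inv_inv, pow_two]; exact ab_eq Λ K }
  · have h1 : t * f * t = f⁻¹ := by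
      have := Λ.T1.inv
      rwa [hti] at this
    have h2 : t * f⁻¹ * t = f := by
      calc t * f⁻¹ * t = t * (t * f * t) * t := by rw [h1]
        _ = (t * t) * f * (t * t) := by group
        _ = f := by rw [Λ.t2]; group
    rw [h2, mul_inv_cancel]
  · have h1 : y * u * y = u⁻¹ := by
      have := Λ.T2.inv
      rwa [hyi] at this
    have h2 : y * u⁻¹ * y = u := by
      calc y * u⁻¹ * y = y * (y * u * y) * y := by rw [h1]
        _ = (y * y) * u * (y * y) := by group
        _ = u := by rw [Λ.y2]; group
    rw [h2, mul_inv_cancel]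

/-- **The plane relations.**  One of the two choices of signs satisfies them. -/
theorem exists_canon [Finite G] (Λ : Local Q z y t f u g L) (K : Canon Q z y t L c κ)
    (j1 : (f⁻¹ * u⁻¹) ^ 5 = 1) (j2 : (f⁻¹ * u) ^ 4 = 1) :
    ∃ (c' : Fin 5 → G) (κ' : alternatingGroup (Fin 5) →* G), Canon Q z y t L c' κ' ∧
      (c' 4 * f⁻¹ * u⁻¹) ^ 5 = 1 ∧ (c' 4 * f⁻¹ * u) ^ 5 = 1 := by
  have hzz := z_eq Λ
  have hne := Λ.toPreT.c_ne K 4
  have hL := kap_L Λ K
  let M : Subgroup G := Subgroup.centralizer {x | ∃ σ : alternatingGroup (Fin 5),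
    (σ : Equiv.Perm (Fin 5)) 4 = 4 ∧ κ σ = x}
  have hM : ∀ x : G, x ∈ M ↔ ∀ σ : alternatingGroup (Fin 5), (σ : Equiv.Perm (Fin 5)) 4 = 4 → κ σ * x = x * κ σ := by
    intro x
    show x ∈ Subgroup.centralizer _ ↔ _
    rw [Subgroup.mem_centralizer_iff]
    constructor
    · intro h σ hσ
      exact h _ ⟨σ, hσ, rfl⟩
    · rintro h _ ⟨σ, hσ, rfl⟩
      exact h σ hσ
  have comm_inv : ∀ (σ : alternatingGroup (Fin 5)) (v : G), κ σ * v = v * κ σ → κ σ * v⁻¹ = v⁻¹ * κ σ := by
    intro σ v hv
    have : Commute (κ σ) v := hv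
    exact this.inv_right.eq
  have key := main_sub M (x := y) (y := t) (r := c 4) (t := f⁻¹) (u := u⁻¹)
    ((hM _).2 fun σ _ => Λ.Ly _ (hL σ)) ((hM _).2 fun σ _ => Λ.Lt _ (hL σ))
    ((hM _).2 fun σ hσ => by
      have := kap_c K σ 4
      rw [hσ] at this
      exact this)
    ((hM _).2 fun σ _ => comm_inv _ _ (Λ.fL _ (hL σ))) ((hM _).2 fun σ _ => comm_inv _ _ (Λ.uL _ (hL σ)))
    (plane_rels Λ K) (by rw [hzz]; exact Λ.z_ne) hne.1 (by rw [hzz]; exact hne.2) ?_ j1 (by rw [inv_inv]; exact j2)
  · rw [hzz, inv_inv] at key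
    rcases key with ⟨h1, h2⟩ | ⟨h1, h2⟩
    · exact ⟨c, κ, K, h1, h2⟩
    · have e4 : Equiv.swap (0 : Fin 5) 1 4 = 4 := by decide
      refine ⟨_, _, canon_twist Λ.toPreT.toPre K, ?_, ?_⟩
      · rw [e4]; exact h1
      · rw [e4]; exact h2
  · intro h hh hz
    rw [hzz] at hz
    have := cent_A4 Λ K hz (fun σ hσ => ((hM h).1 hh σ hσ).symm)
    rw [inv_inv, inv_inv]
    exact this

end Cfsg.Agent.SuzType.PlaneRel
end

-- part: SuzType/CentIn
section
/-!
# Groups of Suzuki type: `C_G(z)` is contained in every subgroup containing `Q`, `L`, `f`, `u`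

`exists_local₂` : the local data together with the decomposition of `C_G(⟨z, y⟩)`.
`cent_le` : `C_G(z) ≤ K` if `Q ≤ K`, `L ≤ K`, `f, u ∈ K`.
-/

set_option autoImplicit false

namespace Cfsg.Agent.SuzType.CentIn

open Cfsg.Agent.J2Type.QStruct Cfsg.Agent.J2Type.Model
open Cfsg.Agent.ClassificationK.LargeSymplectic Cfsg.Agent.SuzType.CanonG Cfsg.Agent.SuzType.Swap
  Cfsg.Agent.SuzType.RR Cfsg.Agent.SuzType.CentA4 Cfsg.Agent.SuzType.LocalRel
open Cfsg.Agent.LargeExtra Cfsg.Agent.LargeExtra.FourGroup

variable {G : Type*} [Group G]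

/-- Existence of the local data, with the decomposition of the centralizer of `⟨z, y⟩`. -/
theorem exists_local₂ [Finite G] {Q : Subgroup G} {z y g₀ : G} (H : SuzHyp Q z)
    (hy : g₀ * z * g₀⁻¹ = y) (hyQ : y ∈ Q) (hne : y ≠ z) :
    ∃ (t f u g : G) (L : Subgroup G), Local Q z y t f u g L ∧
      ∀ c, c * z = z * c → c * y = y * c → ∃ a ∈ Q, ∃ b ∈ Q, ∃ l ∈ L, c = a * (f * b * f⁻¹) * l := by
  have h := ctx_of_data H.data hy hne hyQ H.z_ne rfl
  obtain ⟨f, t, F, tQ, t2, tf, ty, tL, fL, LR, hCR, hT, -, hV, -, cardL, -⟩ := H.four h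
  have hzz := h.zz
  have hyt : y * t = z * (t * y) := by
    have h1 : t * y = z * y * t := by rw [← ty]; group
    rw [h1, ← mul_assoc, ← mul_assoc, hzz, one_mul]
  have hpre : PreT Q z y t (h.L f) := {
    D := H.data
    z_ne := H.z_ne
    cardQ := H.card_Q
    cen := fun x hx hc => H.center hx (fun q hq => by rw [hc q hq]; group)
    yQ := hyQ
    tQ := tQ
    y2 := h.yy
    t2 := t2
    yt := hyt
    cardL := cardL
    Ly := fun x hx => (mem_CV.1 (h.mem_L.1 hx).1).2
    Lt := fun x hx => (tL x hx).symm
    LQ := by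
      intro x hx hxQ
      apply LR x hx
      apply h.A_le_R
      rw [h.mem_A_iff]
      exact ⟨hxQ, (mem_CV.1 (h.mem_L.1 hx).1).2⟩
    pairs := by
      intro y₁ w₁ y₂ w₂ m1 m2 m3 m4 s1 s2 s3 s4 c1 c2
      have key : ∀ a b : G, a * b = z * (b * a) → b * a ≠ a * b := by
        intro a b h1 h2
        rw [h2] at h1
        exact H.z_ne (mul_eq_right.1 h1.symm)
      exact H.conj_pair m1 s1 m2 s2 (key _ _ c1) m3 s3 m4 s4 (key _ _ c2)
    cardC := by
      have hne' : t * y ≠ y * t := by
        intro h2
        rw [h2] at hyt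
        exact H.z_ne (mul_eq_right.1 hyt.symm)
      rw [← H.card_CVw hyQ h.yy tQ t2 hne']
      congr 1
      have : Subgroup.centralizer ({y, t} : Set G) = CV z y ⊓ Subgroup.centralizer ({t} : Set G) := by
        ext x
        rw [mem_cent_pair, Subgroup.mem_inf, mem_CV, Subgroup.mem_centralizer_singleton_iff]
        constructor
        · rintro ⟨h1, h2⟩
          refine ⟨⟨?_, h1⟩, h2⟩
          have e1 : z = y * t * y⁻¹ * t⁻¹ := by rw [hyt]; group
          have c1 : Commute x y := h1
          have c2 : Commute x t := h2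
          rw [e1]
          exact (((c1.mul_right c2).mul_right c1.inv_right).mul_right c2.inv_right)
        · rintro ⟨⟨-, h1⟩, h2⟩
          exact ⟨h1, h2⟩
      rw [this] }
  obtain ⟨g, gz, gy, gt, gL⟩ := hpre.exists_swap
  have T1 : Tri Q z y t f := tri_of_four h hV F hT tf
  have hQ : ∀ q, q ∈ Q ↔ g * q * g⁻¹ ∈ Q := by
    intro q
    constructor
    · exact fun hq => H.data.norm g gz q hq
    · intro hq
      have gz' : g⁻¹ * z = z * g⁻¹ := by
        have : Commute g z := gz
        exact this.inv_left.eq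
      have := H.data.norm g⁻¹ gz' _ hq
      have e : g⁻¹ * (g * q * g⁻¹) * g⁻¹⁻¹ = q := by group
      rwa [e] at this
  have T2 := T1.conj g gz hQ
  rw [gy, gt] at T2
  refine ⟨t, f, g * f * g⁻¹, g, h.L f, ?_, ?_⟩
  · exact {
      toPreT := hpre
      T1 := T1
      T2 := T2
      f3 := F.f3
      u3 := by
        have : (g * f * g⁻¹) ^ 3 = g * f ^ 3 * g⁻¹ := by
          simp only [pow_succ, pow_zero, one_mul]; group
        rw [this, F.f3]; group
      fL := fL
      uL := by
        intro l hl
        have h1 : g⁻¹ * l * g ∈ h.L f := by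
          rw [gL]
          have : g * (g⁻¹ * l * g) * g⁻¹ = l := by group
          rw [this]; exact hl
        have h2 := fL _ h1
        calc l * (g * f * g⁻¹) = g * ((g⁻¹ * l * g) * f) * g⁻¹ := by group
          _ = g * (f * (g⁻¹ * l * g)) * g⁻¹ := by rw [h2]
          _ = _ := by group
      gz := gz
      gy := gy
      gt := gt
      gL := gL
      gf := rfl }
  · intro c c1 c2
    obtain ⟨x, hx, l, hl, e⟩ := hCR c (mem_CV.2 ⟨c1, c2⟩)
    obtain ⟨a, ha, b, hb, e'⟩ := h.mem_R.1 hx
    refine ⟨a, (h.mem_A_iff.1 ha).1, f⁻¹ * b * f, ?_, l, hl, ?_⟩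
    · rw [h.cj f T1.gz]
      have : f * (f⁻¹ * b * f) * f⁻¹ = b := by group
      rw [this]
      exact (h.mem_B_iff.1 hb).1
    · rw [e, e']; group

section

variable {Q L K : Subgroup G} {z y t f u g : G}

/-- `x` commutes with `w` and `c x = x c`-type conjugation. -/
theorem comm_conj {k c w v : G} (hk : k * w * k⁻¹ = v) (hc : c * v = v * c) :
    (k⁻¹ * c * k) * w = w * (k⁻¹ * c * k) := by
  have e : w = k⁻¹ * v * k := by rw [← hk]; group
  rw [e]
  calc k⁻¹ * c * k * (k⁻¹ * v * k) = k⁻¹ * (c * v) * k := by group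
    _ = k⁻¹ * (v * c) * k := by rw [hc]
    _ = _ := by group

theorem comm_z_mul {z a b : G} (ha : a * z = z * a) (hb : b * z = z * b) : a * b * z = z * (a * b) := by
  rw [mul_assoc, hb, ← mul_assoc, ha, mul_assoc]

theorem comm_z_inv {z a : G} (ha : a * z = z * a) : a⁻¹ * z = z * a⁻¹ := by
  have : Commute a z := ha
  exact this.inv_left.eq

/-- `w` is a conjugate of `y` under `K ∩ C(z)`. -/
def Orb (K : Subgroup G) (z y w : G) : Prop := ∃ k ∈ K, k * z = z * k ∧ k * y * k⁻¹ = w

theorem orb_cent (hN : ∀ c, c * z = z * c → c * y = y * c → c ∈ K) {w : G} (hw : Orb K z y w) :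
    ∀ c, c * z = z * c → c * w = w * c → c ∈ K := by
  obtain ⟨k, hk, kz, kw⟩ := hw
  intro c c1 c2
  have h1 := comm_conj kw c2
  have h2 : (k⁻¹ * c * k) * z = z * (k⁻¹ * c * k) :=
    comm_z_mul (comm_z_mul (comm_z_inv kz) c1) kz
  have h3 := hN _ h2 h1
  have e : c = k * (k⁻¹ * c * k) * k⁻¹ := by group
  rw [e]
  exact mul_mem (mul_mem hk h3) (inv_mem hk)

theorem orb_step {Q L : Subgroup G} {t : G} (H : PreT Q z y t L)
    (hN : ∀ c, c * z = z * c → c * y = y * c → c ∈ K) {w w' x : G} (hw : Orb K z y w)
    (hw' : Orb K z y w') (wQ : w ∈ Q) (w'Q : w' ∈ Q) (xQ : x ∈ Q) (ww : w * w = 1) (ww' : w' * w' = 1)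
    (xx : x * x = 1) (h1 : w * w' = z * (w' * w)) (h2 : w * x = z * (x * w)) : Orb K z y x := by
  obtain ⟨c, cz, cw, cw'⟩ := H.pairs w w' w x wQ w'Q wQ xQ ww ww' ww xx h1 h2
  have hc : c ∈ K := orb_cent hN hw c cz (by rw [mul_inv_eq_iff_eq_mul] at cw; exact cw)
  obtain ⟨k, hk, kz, kw⟩ := hw'
  refine ⟨c * k, mul_mem hc hk, comm_z_mul cz kz, ?_⟩
  calc c * k * y * (c * k)⁻¹ = c * (k * y * k⁻¹) * c⁻¹ := by group
    _ = x := by rw [kw, cw']

end

/-- **`C_G(z) ≤ K`** for every subgroup `K` containing `C_G(⟨z, y⟩)` and `C_G(⟨z, t⟩)`. -/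
theorem cent_le_aux {Q L K : Subgroup G} {z y t : G} (H : PreT Q z y t L) {c : Fin 5 → G}
    {κ : alternatingGroup (Fin 5) →* G} (C : Canon Q z y t L c κ)
    (hN : ∀ c, c * z = z * c → c * y = y * c → c ∈ K)
    (hN' : ∀ c, c * z = z * c → c * t = t * c → c ∈ K) :
    ∀ x, x * z = z * x → x ∈ K := by
  have P := H.toPre
  have zz := P.zz
  have zy := P.zy
  have zt := P.zt
  have yQ := P.yQ
  have tQ := P.tQ
  have y2 := P.y2
  have t2 := P.t2
  have yt := P.yt
  have ty := P.ty
  have sym : ∀ {a b : G}, a * b = z * (b * a) → b * a = z * (a * b) := by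
    intro a b h
    rw [h, ← mul_assoc, zz, one_mul]
  have Oy : Orb K z y y := ⟨1, one_mem _, by rw [one_mul, mul_one], by group⟩
  -- a noncommuting partner
  have hyt2 : (y * t) * (y * t) = z := by
    calc (y * t) * (y * t) = (y * t) * y * t := by group
      _ = z * (t * y) * y * t := by rw [yt]
      _ = z * (t * (y * y) * t) := by group
      _ = z := by rw [y2, mul_one, t2, mul_one]
  obtain ⟨q, hq, qy, qt, qq⟩ : ∃ q ∈ Q, q * y = y * q ∧ q * t = t * q ∧ q * q = z := by
    refine ⟨c 0 * c 1, mul_mem (C.c_mem 0) (C.c_mem 1), ?_, ?_, ?_⟩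
    · have a1 : Commute (c 0) y := C.c_y 0
      have a2 : Commute (c 1) y := C.c_y 1
      exact (a1.mul_left a2).eq
    · have a1 : Commute (c 0) t := C.c_t 0
      have a2 : Commute (c 1) t := C.c_t 1
      exact (a1.mul_left a2).eq
    · have h01 := C.c_anti 0 1 (by decide)
      calc c 0 * c 1 * (c 0 * c 1) = c 0 * c 1 * c 0 * c 1 := by group
        _ = z * (c 1 * c 0) * c 0 * c 1 := by rw [h01]
        _ = z * (c 1 * (c 0 * c 0) * c 1) := by group
        _ = z := by rw [C.c_sq 0, mul_one, C.c_sq 1, mul_one]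
  have cqyt : Commute q (y * t) := by
    have a1 : Commute q y := qy
    have a2 : Commute q t := qt
    exact a1.mul_right a2
  have w1Q : q * (y * t) ∈ Q := mul_mem hq (mul_mem yQ tQ)
  have w1w1 : q * (y * t) * (q * (y * t)) = 1 := by
    calc q * (y * t) * (q * (y * t)) = q * ((y * t) * q) * (y * t) := by group
      _ = q * (q * (y * t)) * (y * t) := by rw [cqyt.eq]
      _ = (q * q) * ((y * t) * (y * t)) := by group
      _ = 1 := by rw [qq, hyt2, zz]
  have qz : q * z = z * q := P.D.com q hq
  have w1t : t * (q * (y * t)) = z * (q * (y * t) * t) := by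
    calc t * (q * (y * t)) = (t * q) * y * t := by group
      _ = q * (t * y) * t := by rw [← qt]; group
      _ = (q * z) * (y * t) * t := by rw [ty]; group
      _ = _ := by rw [qz]; group
  have w1y : y * (q * (y * t)) = z * (q * (y * t) * y) := by
    calc y * (q * (y * t)) = (y * q) * (y * t) := by group
      _ = q * y * (y * t) := by rw [qy]
      _ = q * y * (z * (t * y)) := by rw [yt]
      _ = q * (y * z) * (t * y) := by group
      _ = (q * z) * (y * t * y) := by rw [← zy]; group
      _ = _ := by rw [qz]; group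
  have O1 : Orb K z y (q * (y * t)) := by
    obtain ⟨d, dz, dt, dy⟩ := H.pairs t y t (q * (y * t)) tQ yQ tQ w1Q t2 y2 t2 w1w1 ty w1t
    refine ⟨d, hN' d dz ?_, dz, dy⟩
    rw [mul_inv_eq_iff_eq_mul] at dt
    exact dt
  have Hy : ∀ x ∈ Q, x * x = 1 → y * x = z * (x * y) → Orb K z y x := by
    intro x xQ xx hx
    exact orb_step H hN Oy O1 yQ w1Q xQ y2 w1w1 xx w1y hx
  have Ot : Orb K z y t := Hy t tQ t2 yt
  have Ht : ∀ x ∈ Q, x * x = 1 → t * x = z * (x * t) → Orb K z y x := by
    intro x xQ xx hx
    exact orb_step H hN Ot Oy tQ yQ xQ t2 y2 xx ty hx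
  have Hall : ∀ x ∈ Q, x * x = 1 → x ≠ 1 → x ≠ z → Orb K z y x := by
    intro x xQ xx x1 xz
    by_cases h1 : x * y = y * x
    · by_cases h2 : x * t = t * x
      · -- `x` commutes with `y` and `t`
        have : ∃ k ∈ Pre.K0 Q y t, ¬ (x * k = k * x) := by
          by_contra hcon
          push Not at hcon
          rcases P.cent_Q x hcon h1 h2 with h | h
          · exact x1 h
          · exact xz h
        obtain ⟨k, hk, hkx⟩ := this
        obtain ⟨kQ, ky, kt⟩ := Pre.mem_K0.1 hk
        have hkx' : x * k = z * (k * x) := (P.anti_iff x xQ k kQ).1 hkx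
        have kz : k * z = z * k := P.D.com k kQ
        have xzc : x * z = z * x := P.D.com x xQ
        rcases P.D.sq k kQ with hk2 | hk2
        · -- `k² = 1`: use `k y`
          have v2 : k * y * (k * y) = 1 := by
            calc k * y * (k * y) = k * (y * k) * y := by group
              _ = (k * k) * (y * y) := by rw [← ky]; group
              _ = 1 := by rw [hk2, y2, one_mul]
          have vQ : k * y ∈ Q := mul_mem kQ yQ
          have vt : t * (k * y) = z * (k * y * t) := by
            calc t * (k * y) = (t * k) * y := by group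
              _ = k * (t * y) := by rw [← kt]; group
              _ = (k * z) * (y * t) := by rw [ty]; group
              _ = _ := by rw [kz]; group
          have Ov := Ht _ vQ v2 vt
          refine orb_step H hN Ov Ot vQ tQ xQ v2 t2 xx (sym vt) ?_
          apply sym
          calc x * (k * y) = (x * k) * y := by group
            _ = z * (k * (x * y)) := by rw [hkx']; group
            _ = _ := by rw [h1]; group
        · -- `k² = z`: use `k y t`
          have ckyt : Commute k (y * t) := by
            have a1 : Commute k y := ky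
            have a2 : Commute k t := kt
            exact a1.mul_right a2
          have v2 : k * (y * t) * (k * (y * t)) = 1 := by
            calc k * (y * t) * (k * (y * t)) = k * ((y * t) * k) * (y * t) := by group
              _ = k * (k * (y * t)) * (y * t) := by rw [ckyt.eq]
              _ = (k * k) * ((y * t) * (y * t)) := by group
              _ = 1 := by rw [hk2, hyt2, zz]
          have vQ : k * (y * t) ∈ Q := mul_mem kQ (mul_mem yQ tQ)
          have vy : y * (k * (y * t)) = z * (k * (y * t) * y) := by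
            calc y * (k * (y * t)) = (y * k) * (y * t) := by group
              _ = k * y * (y * t) := by rw [ky]
              _ = k * y * (z * (t * y)) := by rw [yt]
              _ = k * (y * z) * (t * y) := by group
              _ = (k * z) * (y * t * y) := by rw [← zy]; group
              _ = _ := by rw [kz]; group
          have Ov := Hy _ vQ v2 vy
          refine orb_step H hN Ov Oy vQ yQ xQ v2 y2 xx (sym vy) ?_
          apply sym
          calc x * (k * (y * t)) = (x * k) * (y * t) := by group
            _ = z * (k * (x * y) * t) := by rw [hkx']; group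
            _ = z * (k * y * (x * t)) := by rw [h1]; group
            _ = _ := by rw [h2]; group
      · exact Ht x xQ xx (sym ((P.anti_iff x xQ t tQ).1 h2))
    · exact Hy x xQ xx (sym ((P.anti_iff x xQ y yQ).1 h1))
  intro x hx
  have x1 : x * y * x⁻¹ ≠ 1 := by
    intro h
    rw [mul_inv_eq_iff_eq_mul, one_mul] at h
    have : y = 1 := mul_eq_left.1 h
    rw [this] at yt
    apply P.z_ne
    rw [one_mul, mul_one] at yt
    exact mul_eq_right.1 yt.symm
  have x2 : x * y * x⁻¹ ≠ z := by
    intro h
    rw [mul_inv_eq_iff_eq_mul, ← hx] at h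
    have : y = z := mul_left_cancel h
    rw [this, zt] at yt
    apply P.z_ne
    exact mul_eq_right.1 yt.symm
  obtain ⟨k, hk, kz, ky⟩ := Hall (x * y * x⁻¹) (P.D.norm x hx y yQ) (by
    calc x * y * x⁻¹ * (x * y * x⁻¹) = x * (y * y) * x⁻¹ := by group
      _ = 1 := by rw [y2]; group) x1 x2
  have h1 : (k⁻¹ * x) * y = y * (k⁻¹ * x) := by
    have e : x * y = k * y * k⁻¹ * x := by rw [ky]; group
    calc k⁻¹ * x * y = k⁻¹ * (x * y) := by group
      _ = _ := by rw [e]; group
  have h2 := hN _ (comm_z_mul (comm_z_inv kz) hx) h1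
  have e : x = k * (k⁻¹ * x) := by group
  rw [e]
  exact mul_mem hk h2

/-- **`C_G(z) ≤ K`** if `K` contains `Q`, `L`, `f`, `u`. -/
theorem cent_le {Q L K : Subgroup G} {z y t f u g : G} (Λ : Local Q z y t f u g L) {c : Fin 5 → G}
    {κ : alternatingGroup (Fin 5) →* G} (C : Canon Q z y t L c κ)
    (hc : ∀ c, c * z = z * c → c * y = y * c → ∃ a ∈ Q, ∃ b ∈ Q, ∃ l ∈ L, c = a * (f * b * f⁻¹) * l)
    (hQ : Q ≤ K) (hL : L ≤ K) (hf : f ∈ K) (hu : u ∈ K) : Subgroup.centralizer ({z} : Set G) ≤ K := by
  intro x hx
  rw [Subgroup.mem_centralizer_singleton_iff] at hx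
  refine cent_le_aux Λ.toPreT C ?_ ?_ x hx
  · intro d d1 d2
    obtain ⟨a, ha, b, hb, l, hl, e⟩ := hc d d1 d2
    rw [e]
    exact mul_mem (mul_mem (hQ ha) (mul_mem (mul_mem hf (hQ hb)) (inv_mem hf))) (hL hl)
  · intro d d1 d2
    have gz : g * z * g⁻¹ = z := by rw [Λ.gz]; group
    obtain ⟨a, ha, b, hb, l, hl, e⟩ := hc (g⁻¹ * d * g) (comm_conj gz d1) (comm_conj Λ.gy d2)
    have e2 : d = (g * a * g⁻¹) * (u * (g * b * g⁻¹) * u⁻¹) * (g * l * g⁻¹) := by
      calc d = g * (g⁻¹ * d * g) * g⁻¹ := by group
        _ = g * (a * (f * b * f⁻¹) * l) * g⁻¹ := by rw [e]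
        _ = _ := by rw [← Λ.gf]; group
    rw [e2]
    have n := fun q hq => Λ.D.norm g Λ.gz q hq
    exact mul_mem (mul_mem (hQ (n a ha)) (mul_mem (mul_mem hu (hQ (n b hb))) (inv_mem hu)))
      (hL ((Λ.gL l).1 hl))

/-- `Q` is generated by `y`, `t`, the `c i` and `z`. -/
theorem Q_le {Q L K : Subgroup G} {z y t : G} (H : Pre Q z y t L) {c : Fin 5 → G}
    {κ : alternatingGroup (Fin 5) →* G} (C : Canon Q z y t L c κ) (hy : y ∈ K) (ht : t ∈ K)
    (hc : ∀ i, c i ∈ K) : Q ≤ K := by
  have hz : z ∈ K := by
    have e : z = c 0 * c 1 * (c 0 * c 1) := by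
      have h01 := C.c_anti 0 1 (by decide)
      symm
      calc c 0 * c 1 * (c 0 * c 1) = c 0 * c 1 * c 0 * c 1 := by group
        _ = z * (c 1 * c 0) * c 0 * c 1 := by rw [h01]
        _ = z * (c 1 * (c 0 * c 0) * c 1) := by group
        _ = z := by rw [C.c_sq 0, mul_one, C.c_sq 1, mul_one]
    rw [e]
    exact mul_mem (mul_mem (hc 0) (hc 1)) (mul_mem (hc 0) (hc 1))
  have hzp : ∀ a, zp z a ∈ K := by
    intro a
    rcases (show ∀ a : ZMod 2, a = 0 ∨ a = 1 by decide) a with rfl | rfl
    · have : zp z (0 : ZMod 2) = 1 := zp_zero z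
      rw [this]; exact one_mem _
    · have : zp z (1 : ZMod 2) = z := zp_one z
      rw [this]; exact hz
  intro x hx
  obtain ⟨k, hk, hx'⟩ := H.decomp x hx
  have hkK : k ∈ K := by
    obtain ⟨kQ, ky, kt⟩ := Pre.mem_K0.1 hk
    rcases C.cover k kQ ky kt with ⟨a, rfl⟩ | ⟨a, i, rfl⟩ | ⟨a, i, j, -, rfl⟩
    · exact hzp a
    · exact mul_mem (hzp a) (hc i)
    · exact mul_mem (hzp a) (mul_mem (hc i) (hc j))
  rcases hx' with rfl | rfl | rfl | rfl
  · exact hkK
  · exact mul_mem hkK hy
  · exact mul_mem hkK ht
  · exact mul_mem hkK (mul_mem hy ht)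

end Cfsg.Agent.SuzType.CentIn
end

-- part: SuzType/JGroup
section
/-!
# The group `J = ⟨y, t, f, u⟩ ≅ A₆`
-/

set_option autoImplicit false

namespace Cfsg.Agent.SuzType.JGroup

open Subgroup Cfsg.Agent.J3Type.ExistsW Cfsg.Agent.J2Type.Model

/-- The abstract situation. -/
structure JHyp {J : Type*} [Group J] (z y t f u : J) (φ : J ≃* J) : Prop where
  z1 : z ≠ 1
  zz : z * z = 1
  zy : z * y = y * z
  zt : z * t = t * z
  yy : y * y = 1
  tt : t * t = 1
  yt : y * t = z * (t * y)
  f3 : f * f * f = 1
  u3 : u * u * u = 1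
  fz : f * z * f⁻¹ = y
  fy : f * y * f⁻¹ = z * y
  tf : t * f * t⁻¹ = f⁻¹
  uz : u * z * u⁻¹ = t
  ut : u * t * u⁻¹ = z * t
  yu : y * u * y⁻¹ = u⁻¹
  gen : closure ({y, t, f, u} : Set J) = ⊤
  hC : ∀ x, x * z = z * x → ∃ a : ZMod 2, x = zp z a ∨ x = zp z a * y ∨ x = zp z a * t ∨
    x = zp z a * (y * t)
  φz : φ z = z
  φy : φ y = t
  φt : φ t = y
  φφ : ∀ x, φ (φ x) = z * x * z⁻¹

namespace JHyp

variable {J : Type*} [Group J] {z y t f u : J} {φ : J ≃* J} (H : JHyp z y t f u φ)
include H

theorem ty : t * y = z * (y * t) := by rw [H.yt, ← mul_assoc, H.zz, one_mul]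

theorem sq_yt : (y * t) * (y * t) = z := by
  calc y * t * (y * t) = z * (t * y) * (y * t) := by rw [← H.yt]
    _ = z * t * (y * y) * t := by group
    _ = z * (t * t) := by rw [H.yy]; group
    _ = z := by rw [H.tt, mul_one]

theorem y1 : y ≠ 1 := by
  intro h
  have := H.yt
  rw [h, one_mul, mul_one] at this
  exact H.z1 (mul_eq_right.1 this.symm)

theorem t1 : t ≠ 1 := by
  intro h
  have := H.yt
  rw [h, one_mul, mul_one] at this
  exact H.z1 (mul_eq_right.1 this.symm)

theorem ordz : orderOf z = 2 := orderOf_eq_prime (by rw [pow_two, H.zz]) H.z1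
theorem ordy : orderOf y = 2 := orderOf_eq_prime (by rw [pow_two, H.yy]) H.y1
theorem ordt : orderOf t = 2 := orderOf_eq_prime (by rw [pow_two, H.tt]) H.t1

theorem ordyt : orderOf (y * t) = 4 := by
  have h2 : (y * t) ^ 2 = z := by rw [pow_two, H.sq_yt]
  have : orderOf (y * t) = 2 ^ (1 + 1) := by
    apply orderOf_eq_prime_pow
    · rw [pow_one, h2]; exact H.z1
    · have : (y * t) ^ 2 ^ (1 + 1) = ((y * t) ^ 2) ^ 2 := by rw [← pow_mul]; norm_num
      rw [this, h2, pow_two, H.zz]
  simpa using this

theorem mem_D_of {x : J} (h : ∃ a : ZMod 2, x = zp z a ∨ x = zp z a * y ∨ x = zp z a * t ∨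
    x = zp z a * (y * t)) : x ∈ closure ({y, t} : Set J) := by
  have hy : y ∈ closure ({y, t} : Set J) := subset_closure (by simp)
  have ht : t ∈ closure ({y, t} : Set J) := subset_closure (by simp)
  have hz : z ∈ closure ({y, t} : Set J) := by
    rw [← H.sq_yt]; exact mul_mem (mul_mem hy ht) (mul_mem hy ht)
  have hzp : ∀ a, zp z a ∈ closure ({y, t} : Set J) := by
    intro a
    rcases zmod2_cases a with rfl | rfl
    · rw [zp_zero]; exact one_mem _
    · rw [zp_one]; exact hz
  obtain ⟨a, rfl | rfl | rfl | rfl⟩ := h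
  · exact hzp a
  · exact mul_mem (hzp a) hy
  · exact mul_mem (hzp a) ht
  · exact mul_mem (hzp a) (mul_mem hy ht)

theorem cent_eq : centralizer ({z} : Set J) = closure ({y, t} : Set J) := by
  apply le_antisymm
  · intro x hx
    exact H.mem_D_of (H.hC x (mem_centralizer_singleton_iff.1 hx))
  · rw [closure_le]
    rintro x (rfl | hx)
    · exact mem_centralizer_singleton_iff.2 H.zy.symm
    · rw [Set.mem_singleton_iff] at hx
      subst hx
      exact mem_centralizer_singleton_iff.2 H.zt.symm

theorem equiv_D : Nonempty (centralizer ({z} : Set J) ≃* DihedralGroup 4) := by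
  rw [H.cent_eq]
  exact Cfsg.Agent.SporadicB.DihedralLift.closure_pair_equiv_dihedral' H.ordy H.ordt H.ordyt

theorem perfect : commutator J = ⊤ := by
  rw [eq_top_iff, ← H.gen, closure_le]
  have hcm : ∀ a b : J, a * b * a⁻¹ * b⁻¹ ∈ commutator J := fun a b =>
    commutator_mem_commutator (mem_top a) (mem_top b)
  have hz : z ∈ commutator J := by
    have h1 := hcm y t
    have h2 : y * t * y⁻¹ * t⁻¹ = z := by rw [H.yt]; group
    rwa [h2] at h1
  have hn : (commutator J).Normal := inferInstance
  have hy : y ∈ commutator J := by rw [← H.fz]; exact hn.conj_mem _ hz _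
  have ht : t ∈ commutator J := by rw [← H.uz]; exact hn.conj_mem _ hz _
  have cube : ∀ w : J, w * w * w = 1 → w⁻¹ * w⁻¹ = w := by
    intro w hw
    calc w⁻¹ * w⁻¹ = w⁻¹ * w⁻¹ * (w * w * w) := by rw [hw, mul_one]
      _ = w := by group
  have hf : f ∈ commutator J := by
    have h1 := hcm t f
    rwa [H.tf, cube f H.f3] at h1
  have hu : u ∈ commutator J := by
    have h1 := hcm y u
    rwa [H.yu, cube u H.u3] at h1
  rintro x (rfl | rfl | rfl | hx)
  · exact hy
  · exact ht
  · exact hf
  · rw [Set.mem_singleton_iff] at hx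
    subst hx; exact hu

theorem card_cases [Finite J] : Nat.card J = 168 ∨ Nat.card J = 360 := by
  obtain ⟨e⟩ := H.equiv_D
  exact Cfsg.Agent.S0848.result H.perfect z H.ordz e

/-- conjugates of `z` among the involutions of `D` -/
theorem conj_D {x : J} (hx : x ∈ closure ({y, t} : Set J)) (hx1 : x ≠ 1) (hxx : x * x = 1) :
    ∃ g : J, g * z * g⁻¹ = x := by
  rw [← H.cent_eq] at hx
  have zinv : z⁻¹ = z := inv_eq_of_mul_eq_one_left H.zz
  obtain ⟨a, h | h | h | h⟩ := H.hC x (mem_centralizer_singleton_iff.1 hx)
  · rcases zmod2_cases a with rfl | rfl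
    · exact absurd (h.trans (zp_zero z)) hx1
    · exact ⟨1, by rw [h, zp_one]; group⟩
  · rcases zmod2_cases a with rfl | rfl
    · exact ⟨f, by rw [h, zp_zero, one_mul, H.fz]⟩
    · refine ⟨f * f, ?_⟩
      rw [h, zp_one]
      calc f * f * z * (f * f)⁻¹ = f * (f * z * f⁻¹) * f⁻¹ := by group
        _ = z * y := by rw [H.fz, H.fy]
  · rcases zmod2_cases a with rfl | rfl
    · exact ⟨u, by rw [h, zp_zero, one_mul, H.uz]⟩
    · refine ⟨u * u, ?_⟩
      rw [h, zp_one]
      calc u * u * z * (u * u)⁻¹ = u * (u * z * u⁻¹) * u⁻¹ := by group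
        _ = z * t := by rw [H.uz, H.ut]
  · exfalso
    have e1 : x * x = z := by
      rcases zmod2_cases a with rfl | rfl
      · rw [h, zp_zero, one_mul, H.sq_yt]
      · have hc : z * (y * t) = (y * t) * z := by
          have c1 : Commute z y := H.zy
          have c2 : Commute z t := H.zt
          exact c1.mul_right c2
        rw [h, zp_one]
        calc z * (y * t) * (z * (y * t)) = z * ((y * t) * z) * (y * t) := by group
          _ = (z * z) * ((y * t) * (y * t)) := by rw [← hc]; group
          _ = z := by rw [H.sq_yt, H.zz, one_mul]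
    rw [hxx] at e1
    exact H.z1 e1.symm

theorem card_D : Nat.card (closure ({y, t} : Set J)) = 8 := by
  obtain ⟨e⟩ := H.equiv_D
  rw [H.cent_eq] at e
  rw [Nat.card_congr e.toEquiv, dih_card]

theorem hd8 [Finite J] : HD8 J := by
  have : Fact (Nat.Prime 2) := ⟨Nat.prime_two⟩
  intro s hs
  have hfac : (Nat.card J).factorization 2 = 3 := by
    have key : ∀ m : ℕ, m ≠ 0 → ¬ 2 ∣ m → (2 ^ 3 * m).factorization 2 = 3 := by
      intro m hm h2
      rw [Nat.factorization_mul (by norm_num) hm, Finsupp.add_apply,
        Nat.Prime.factorization_pow Nat.prime_two, Finsupp.single_eq_same,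
        Nat.factorization_eq_zero_of_not_dvd h2]
    rcases H.card_cases with h | h
    · rw [h]; exact key 21 (by norm_num) (by norm_num)
    · rw [h]; exact key 45 (by norm_num) (by norm_num)
  let S : Sylow 2 J := Sylow.ofCard (closure ({y, t} : Set J)) (by rw [hfac, H.card_D]; norm_num)
  have hp : IsPGroup 2 (zpowers s) := by
    apply IsPGroup.of_card (n := 1)
    rw [Nat.card_zpowers, hs, pow_one]
  obtain ⟨P, hP⟩ := hp.exists_le_sylow
  obtain ⟨g, hg⟩ := MulAction.exists_smul_eq J P S
  have hsS : g * s * g⁻¹ ∈ (S : Subgroup J) := by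
    rw [← hg]
    exact Subgroup.smul_mem_pointwise_smul s (MulAut.conj g) _ (hP (mem_zpowers s))
  have hss : s * s = 1 := by rw [← pow_two, ← hs]; exact pow_orderOf_eq_one s
  have hs1 : s ≠ 1 := by rintro rfl; simp at hs
  obtain ⟨k, hk⟩ := H.conj_D (x := g * s * g⁻¹) hsS
    (by
      intro h
      apply hs1
      calc s = g⁻¹ * (g * s * g⁻¹) * g := by group
        _ = 1 := by rw [h]; group)
    (by
      calc g * s * g⁻¹ * (g * s * g⁻¹) = g * (s * s) * g⁻¹ := by group
        _ = 1 := by rw [hss]; group)
  have hk' : (g⁻¹ * k) * z * (g⁻¹ * k)⁻¹ = s := by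
    calc (g⁻¹ * k) * z * (g⁻¹ * k)⁻¹ = g⁻¹ * (k * z * k⁻¹) * g := by group
      _ = s := by rw [hk]; group
  obtain ⟨e⟩ := H.equiv_D
  exact ⟨(Cfsg.Agent.J3Type.OneClass.conjEquiv _ z s hk').symm.trans e⟩

theorem simple [Finite J] : IsSimpleGroup J :=
  Cfsg.Agent.J3Type.Extra.isSimple H.hd8 H.ordz

theorem not_168 [Finite J] : Nat.card J ≠ 168 := by
  intro h168
  have h7 : Fact (Nat.Prime 7) := ⟨by norm_num⟩
  have hsimple := H.simple
  -- a Sylow 7-subgroup
  obtain ⟨P⟩ : Nonempty (Sylow 7 J) := inferInstance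
  have hPcard : Nat.card P = 7 := by
    rw [P.card_eq_multiplicity, h168]
    have : (168 : ℕ).factorization 7 = 1 := by
      rw [show (168 : ℕ) = 7 ^ 1 * 24 by norm_num, Nat.factorization_mul (by norm_num) (by norm_num),
        Finsupp.add_apply, Nat.Prime.factorization_pow (by norm_num : Nat.Prime 7),
        Finsupp.single_eq_same, Nat.factorization_eq_zero_of_not_dvd (by norm_num)]
    rw [this, pow_one]
  have hmod : Nat.card (Sylow 7 J) ≡ 1 [MOD 7] := card_sylow_modEq_one 7 J
  have hdvd : Nat.card (Sylow 7 J) ∣ 24 := by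
    have h1 := P.card_dvd_index
    have h2 := (P : Subgroup J).card_mul_index
    rw [hPcard, h168] at h2
    have h3 : (P : Subgroup J).index = 24 := by omega
    rwa [h3] at h1
  have hcard : Nat.card (Sylow 7 J) = 1 ∨ Nat.card (Sylow 7 J) = 8 := by
    have hle : Nat.card (Sylow 7 J) ≤ 24 := Nat.le_of_dvd (by norm_num) hdvd
    generalize Nat.card (Sylow 7 J) = n at hmod hdvd hle
    unfold Nat.ModEq at hmod
    interval_cases n <;> omega
  have h8 : Nat.card (Sylow 7 J) = 8 := by
    rcases hcard with h | h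
    · exfalso
      have hn : (P : Subgroup J).Normal := by
        rw [← Subgroup.normalizer_eq_top_iff]
        have := P.card_eq_index_normalizer
        rw [h] at this
        exact Subgroup.index_eq_one.1 this.symm
      rcases hn.eq_bot_or_eq_top with h1 | h1
      · have : Nat.card P = 1 := by
          rw [show (P : Subgroup J) = ⊥ from h1]; exact Subgroup.card_bot
        omega
      · have : Nat.card P = 168 := by
          rw [show (P : Subgroup J) = ⊤ from h1, Subgroup.card_top, h168]
        omega
    · exact h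
  -- D acts semiregularly
  have hsemi : ∀ d ∈ closure ({y, t} : Set J), MulAut.conj d • P = P → d = 1 := by
    intro d hd hdP
    by_contra hd1
    have hdN : d ∈ normalizer (P : Set J) := by
      rw [← Sylow.smul_eq_iff_mem_normalizer]
      exact hdP
    have hN : Nat.card (normalizer (P : Set J)) = 21 := by
      have h1 := P.card_eq_index_normalizer
      have h2 := (normalizer (P : Set J)).card_mul_index
      rw [← h1, h8, h168] at h2
      omega
    have ho1 : orderOf d ∣ 21 := by
      have := orderOf_dvd_natCard (⟨d, hdN⟩ : normalizer (P : Set J))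
      rw [hN] at this
      rwa [← Subgroup.orderOf_coe] at this
    have ho2 : orderOf d ∣ 8 := by
      have := orderOf_dvd_natCard (⟨d, hd⟩ : closure ({y, t} : Set J))
      rw [H.card_D] at this
      rwa [← Subgroup.orderOf_coe] at this
    have ho3 : orderOf d ∣ 1 := by
      have := Nat.dvd_gcd ho1 ho2
      simpa using this
    exact hd1 (orderOf_eq_one_iff.1 (Nat.dvd_one.1 ho3))
  -- so it acts regularly
  let F : closure ({y, t} : Set J) → Sylow 7 J := fun d => MulAut.conj (d : J) • P
  have hF : Function.Injective F := by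
    intro a b hab
    have h1 : MulAut.conj ((b : J)⁻¹ * a) • P = P := by
      rw [map_mul, mul_smul]
      have : MulAut.conj (a : J) • P = MulAut.conj (b : J) • P := hab
      rw [this, map_inv, inv_smul_smul]
    have h2 := hsemi _ (mul_mem (inv_mem b.2) a.2) h1
    exact Subtype.ext (inv_mul_eq_one.1 h2).symm
  have hFb : Function.Bijective F := hF.bijective_of_nat_card_le (by rw [h8, H.card_D])
  obtain ⟨d, hd⟩ := hFb.2 ((φ : MulAut J) • P)
  have hd' : MulAut.conj (d : J) • P = (φ : MulAut J) • P := hd
  -- the element d⁻¹ φ(d)⁻¹ z fixes P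
  have e1 : (φ : MulAut J) * MulAut.conj (d : J) = MulAut.conj (φ (d : J)) * (φ : MulAut J) := by
    apply MulEquiv.ext
    intro x
    show φ (d * x * (d : J)⁻¹) = φ d * φ x * (φ d)⁻¹
    rw [map_mul, map_mul, map_inv]
  have e2 : (φ : MulAut J) * (φ : MulAut J) = MulAut.conj z := by
    apply MulEquiv.ext
    intro x
    show φ (φ x) = z * x * z⁻¹
    exact H.φφ x
  have e3 : MulAut.conj ((φ (d : J) * d)⁻¹ * z) • P = P := by
    have h1 : (φ : MulAut J) • (MulAut.conj (d : J) • P) = MulAut.conj z • P := by
      rw [hd', ← mul_smul, e2]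
    rw [← mul_smul, e1, mul_smul, ← hd', ← mul_smul, ← map_mul] at h1
    rw [map_mul, mul_smul, ← h1, map_inv, inv_smul_smul]
  have hzD : z ∈ closure ({y, t} : Set J) := by
    rw [← H.cent_eq]; exact mem_centralizer_singleton_iff.2 rfl
  have hmemD : ∀ x : J, x ∈ closure ({y, t} : Set J) ↔ x * z = z * x := by
    intro x
    rw [← H.cent_eq, mem_centralizer_singleton_iff]
  have hdc : (d : J) * z = z * d := (hmemD _).1 d.2
  have hφD : φ (d : J) ∈ closure ({y, t} : Set J) := by
    rw [hmemD]
    have := congrArg φ hdc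
    rwa [map_mul, map_mul, H.φz] at this
  have e4 := hsemi _ (mul_mem (inv_mem (mul_mem hφD d.2)) hzD) e3
  have e5 : φ (d : J) * d = z := by
    rw [inv_mul_eq_one] at e4
    exact e4
  -- but this never happens
  have hdz : ∃ a : ZMod 2, (d : J) = zp z a ∨ (d : J) = zp z a * y ∨ (d : J) = zp z a * t ∨
      (d : J) = zp z a * (y * t) := H.hC _ hdc
  have hφzp : ∀ a, φ (zp z a) = zp z a := by
    intro a
    rcases zmod2_cases a with rfl | rfl
    · rw [zp_zero, map_one]
    · rw [zp_one, H.φz]
  have hzpc : ∀ a (x : J), z * x = x * z → zp z a * x = x * zp z a := by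
    intro a x hx
    rcases zmod2_cases a with rfl | rfl
    · rw [zp_zero, one_mul, mul_one]
    · rw [zp_one, hx]
  have hzp2 : ∀ a, zp z a * zp z a = 1 := by
    intro a
    rcases zmod2_cases a with rfl | rfl
    · rw [zp_zero, one_mul]
    · rw [zp_one, H.zz]
  have key : ∀ (a : ZMod 2) (w w' : J), z * w' = w' * z → (zp z a * w') * (zp z a * w) = w' * w := by
    intro a w w' hw
    calc (zp z a * w') * (zp z a * w) = zp z a * (w' * zp z a) * w := by group
      _ = (zp z a * zp z a) * (w' * w) := by rw [← hzpc a w' hw]; group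
      _ = w' * w := by rw [hzp2, one_mul]
  obtain ⟨a, ha | ha | ha | ha⟩ := hdz
  · rw [ha, hφzp, hzp2] at e5
    exact H.z1 e5.symm
  · rw [ha, map_mul, hφzp, H.φy, key a y t H.zt, H.ty] at e5
    have : y * t = 1 := mul_eq_left.1 e5
    have h4 := H.ordyt
    rw [this, orderOf_one] at h4
    norm_num at h4
  · rw [ha, map_mul, hφzp, H.φt, key a t y H.zy] at e5
    have h4 := H.ordyt
    rw [e5, H.ordz] at h4
    norm_num at h4
  · have hc : z * (t * y) = (t * y) * z := by
      have c1 : Commute z y := H.zy
      have c2 : Commute z t := H.zt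
      exact c2.mul_right c1
    rw [ha, map_mul, hφzp, map_mul, H.φy, H.φt, key a (y * t) (t * y) hc] at e5
    have : t * y * (y * t) = 1 := by
      calc t * y * (y * t) = t * (y * y) * t := by group
        _ = 1 := by rw [H.yy, mul_one, H.tt]
    rw [this] at e5
    exact H.z1 e5.symm

theorem card_eq [Finite J] : Nat.card J = 360 := by
  rcases H.card_cases with h | h
  · exact absurd h H.not_168
  · exact h

theorem equiv_alt [Finite J] : Nonempty (J ≃* alternatingGroup (Fin 6)) := by
  have := H.simple
  exact Cfsg.Agent.S0497.result H.card_eq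

/-- The relations of `J ≅ A₆`. -/
theorem rels [Finite J] : (f * u) ^ 5 = 1 ∧ (f⁻¹ * u) ^ 4 = 1 := by
  obtain ⟨e⟩ := H.equiv_alt
  let ψ : J →* Equiv.Perm (Fin 6) := (alternatingGroup (Fin 6)).subtype.comp e.toMonoidHom
  have hψ : Function.Injective ψ := Subtype.val_injective.comp e.injective
  have hsign : ∀ x, Equiv.Perm.sign (ψ x) = 1 := fun x =>
    Equiv.Perm.mem_alternatingGroup.1 (e x).2
  have hfinv : f⁻¹ = f * f := by
    rw [inv_eq_iff_mul_eq_one, ← mul_assoc]; exact H.f3
  have huinv : u⁻¹ = u * u := by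
    rw [inv_eq_iff_mul_eq_one, ← mul_assoc]; exact H.u3
  have htinv : t⁻¹ = t := inv_eq_of_mul_eq_one_left H.tt
  have hyinv : y⁻¹ = y := inv_eq_of_mul_eq_one_left H.yy
  have key := ASixRel.rel (z := ψ z) (y := ψ y) (t := ψ t) (f := ψ f) (u := ψ u) (hsign z) (hsign y)
    (by rw [← map_one ψ]; exact fun h => H.z1 (hψ h))
    (by rw [← map_mul, H.zz, map_one]) (by rw [← map_mul, H.yy, map_one])
    (by rw [← map_mul, ← map_mul, H.zy]) (by rw [← map_mul, H.tt, map_one])
    (by rw [← map_mul, ← map_mul, H.sq_yt])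
    (by
      rw [← map_mul, ← map_mul]
      congr 1
      rw [← H.fz]; group)
    (by
      rw [← map_mul, ← map_mul, ← map_mul]
      congr 1
      have := H.tf
      rw [htinv, hfinv] at this
      exact this)
    (by rw [← map_mul, ← map_mul, H.f3, map_one])
    (by
      rw [← map_mul, ← map_mul]
      congr 1
      rw [← H.uz]; group)
    (by
      rw [← map_mul, ← map_mul, ← map_mul]
      congr 1
      have := H.yu
      rw [hyinv, huinv] at this
      exact this)
    (by rw [← map_mul, ← map_mul, H.u3, map_one])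
  constructor
  · apply hψ
    rw [map_pow, map_mul, map_one]
    exact key.1
  · apply hψ
    rw [map_pow, map_mul, hfinv, map_mul, map_one]
    exact key.2

end JHyp

end Cfsg.Agent.SuzType.JGroup
end

-- part: SuzType/JNode
section
/-!
# The normalised swap has square `z`, and `J = ⟨y, t, f, u⟩ ≅ A₆` inside `G`
-/

set_option autoImplicit false

namespace Cfsg.Agent.SuzType.JNode

open Cfsg.Agent.J2Type.Model
open Cfsg.Agent.ClassificationK.LargeSymplectic
open Cfsg.Agent.SuzType.CanonG Cfsg.Agent.SuzType.CanonG.Pre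
open Cfsg.Agent.SuzType.Swap Cfsg.Agent.SuzType.Swap.PreT

variable {G : Type*} [Group G]

section Swap

variable [Finite G] {Q L : Subgroup G} {z y t : G} (H : PreT Q z y t L)
variable {c : Fin 5 → G} {κ : alternatingGroup (Fin 5) →* G} (K : Canon Q z y t L c κ)
include H K

omit H [Finite G] in
theorem κ_mem (σ : alternatingGroup (Fin 5)) : κ σ ∈ L := by rw [← K.κ_range]; exact ⟨σ, rfl⟩

omit H K [Finite G] [Group G] in
theorem s01_odd (π : Equiv.Perm (Fin 5)) (h : Equiv.Perm.sign π = -1) :
    Equiv.Perm.sign (π⁻¹ * Equiv.swap (0 : Fin 5) 1) = 1 := by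
  rw [map_mul, map_inv, h, Equiv.Perm.sign_swap (by decide)]
  decide

omit [Finite G] in
/-- the canonical parametrisation is determined by the action on the classes -/
theorem conj_κ {g : G} (hL : ∀ x, x ∈ L ↔ g * x * g⁻¹ ∈ L)
    {π : Equiv.Perm (Fin 5)} (hπ : ∀ i, g * c i * g⁻¹ = c (π i) ∨ g * c i * g⁻¹ = z * c (π i))
    (σ : alternatingGroup (Fin 5)) : ∃ σ' : alternatingGroup (Fin 5),
      g * κ σ * g⁻¹ = κ σ' ∧ ∀ i, (σ' : Equiv.Perm (Fin 5)) (π i) = π ((σ : Equiv.Perm (Fin 5)) i) := by
  have h1 : g * κ σ * g⁻¹ ∈ L := (hL _).1 (κ_mem K σ)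
  rw [← K.κ_range] at h1
  obtain ⟨σ', hσ'⟩ := h1
  refine ⟨σ', hσ'.symm, ?_⟩
  intro i
  have hlz : Commute (κ σ') z := H.toPre.Lz _ (κ_mem K σ')
  -- compute g κσ c_i κσ⁻¹ g⁻¹ in two ways
  have e1 : g * (κ σ * c i * (κ σ)⁻¹) * g⁻¹ = κ σ' * (g * c i * g⁻¹) * (κ σ')⁻¹ := by
    rw [hσ']; group
  have e2 := hπ ((σ : Equiv.Perm (Fin 5)) i)
  rw [← K.κ_conj, e1] at e2
  have e3 : κ σ' * (g * c i * g⁻¹) * (κ σ')⁻¹ = c ((σ' : Equiv.Perm (Fin 5)) (π i)) ∨
      κ σ' * (g * c i * g⁻¹) * (κ σ')⁻¹ = z * c ((σ' : Equiv.Perm (Fin 5)) (π i)) := by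
    rcases hπ i with h | h
    · left; rw [h, K.κ_conj]
    · right
      rw [h]
      calc κ σ' * (z * c (π i)) * (κ σ')⁻¹ = (κ σ' * z) * c (π i) * (κ σ')⁻¹ := by group
        _ = z * (κ σ' * c (π i) * (κ σ')⁻¹) := by rw [hlz.eq]; group
        _ = _ := by rw [K.κ_conj]
  exact cls_eq K e3 e2

omit H K [Finite G] [Group G] in
theorem trans_facts : ∀ i j : Fin 5, ∃ σ : Equiv.Perm (Fin 5), Equiv.Perm.sign σ = 1 ∧ σ i = j := by
  decide +kernel

omit H [Finite G] in
theorem prod_swap_facts (D : Data Q z) (a : ZMod 2) :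
    (zp z a * c 1) * (zp z a * c 0) * (zp z a * c 2) * (zp z a * c 3) * (zp z a * c 4) =
      zp z a * z := by
  have hzz := D.sqz
  have hz : ∀ i, z * c i = c i * z := fun i => zc K D i
  have key : (c 1) * (c 0) * (c 2) * (c 3) * (c 4) = z := by
    rw [K.c_anti 1 0 (by decide)]
    calc z * (c 0 * c 1) * c 2 * c 3 * c 4 = z * (c 0 * c 1 * c 2 * c 3 * c 4) := by group
      _ = z := by rw [K.c_prod, mul_one]
  rcases zmod2_cases a with rfl | rfl
  · simp only [zp_zero, one_mul]
    exact key
  · simp only [zp_one]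
    have c' : ∀ i, Commute z (c i) := hz
    calc z * c 1 * (z * c 0) * (z * c 2) * (z * c 3) * (z * c 4)
        = z * (c 1 * z) * c 0 * z * (c 2 * z) * c 3 * z * c 4 := by group
      _ = z * (z * c 1) * c 0 * z * (z * c 2) * c 3 * z * c 4 := by rw [← hz 1, ← hz 2]
      _ = (z * z) * c 1 * c 0 * (z * z) * c 2 * (c 3 * z) * c 4 := by group
      _ = c 1 * c 0 * (c 2 * z) * c 3 * c 4 := by rw [hzz, ← hz 3]; group
      _ = c 1 * (c 0 * z) * c 2 * c 3 * c 4 := by rw [← hz 2]; group
      _ = (c 1 * z) * c 0 * c 2 * c 3 * c 4 := by rw [← hz 0]; group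
      _ = z * (c 1 * c 0 * c 2 * c 3 * c 4) := by rw [← hz 1]; group
      _ = z * z := by rw [key]

/-- Normalising a swap: action on the `c i`. -/
theorem norm_act {g : G} (hgz : g * z = z * g) (hgy : g * y * g⁻¹ = t) (hgt : g * t * g⁻¹ = y)
    (hL : ∀ x, x ∈ L ↔ g * x * g⁻¹ ∈ L) :
    ∃ l ∈ L, ∀ i, (g * l) * c i * (g * l)⁻¹ = z * c (Equiv.swap (0 : Fin 5) 1 i) := by
  obtain ⟨π, hπ, hodd⟩ := H.exists_odd K hgz hgy hgt
  let σ : alternatingGroup (Fin 5) := ⟨π⁻¹ * Equiv.swap (0 : Fin 5) 1,
    Equiv.Perm.mem_alternatingGroup.2 (s01_odd π hodd)⟩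
  have hlL := κ_mem K σ
  refine ⟨κ σ, hlL, ?_⟩
  set g1 := g * κ σ with hg1
  have cgz : Commute g z := hgz
  have clz : Commute (κ σ) z := H.toPre.Lz _ hlL
  have hs : ∀ i, g1 * c i * g1⁻¹ = c (Equiv.swap (0 : Fin 5) 1 i) ∨ g1 * c i * g1⁻¹ = z * c (Equiv.swap (0 : Fin 5) 1 i) := by
    intro i
    have e1 : g1 * c i * g1⁻¹ = g * (κ σ * c i * (κ σ)⁻¹) * g⁻¹ := by rw [hg1]; group
    have e2 : π ((σ : Equiv.Perm (Fin 5)) i) = Equiv.swap (0 : Fin 5) 1 i := by
      show π (π⁻¹ (Equiv.swap (0 : Fin 5) 1 i)) = _
      exact π.apply_symm_apply _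
    rw [e1, K.κ_conj, ← e2]
    exact hπ _
  have hL1 : ∀ x, x ∈ L ↔ g1 * x * g1⁻¹ ∈ L := by
    intro x
    have e1 : g1 * x * g1⁻¹ = g * (κ σ * x * (κ σ)⁻¹) * g⁻¹ := by rw [hg1]; group
    rw [e1, ← hL]
    constructor
    · intro hx; exact mul_mem (mul_mem hlL hx) (inv_mem hlL)
    · intro hx
      have h2 := mul_mem (mul_mem (inv_mem hlL) hx) hlL
      have h3 : (κ σ)⁻¹ * (κ σ * x * (κ σ)⁻¹) * κ σ = x := by group
      rwa [h3] at h2
  have hex : ∀ i, ∃ a : ZMod 2, g1 * c i * g1⁻¹ = zp z a * c (Equiv.swap (0 : Fin 5) 1 i) := by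
    intro i
    rcases hs i with h | h
    · exact ⟨0, by rw [zp_zero, one_mul]; exact h⟩
    · exact ⟨1, by rw [zp_one]; exact h⟩
  choose a ha using hex
  have hzpc : ∀ (b : ZMod 2) (l : G), l ∈ L → l * zp z b = zp z b * l := by
    intro b l hl
    rcases zmod2_cases b with rfl | rfl
    · rw [zp_zero, one_mul, mul_one]
    · rw [zp_one]; exact H.toPre.Lz _ hl
  have hconst : ∀ i j, a i = a j := by
    intro i j
    obtain ⟨τ, hτ, hτi⟩ := trans_facts i j
    let τ' : alternatingGroup (Fin 5) := ⟨τ, Equiv.Perm.mem_alternatingGroup.2 hτ⟩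
    obtain ⟨ρ, hρ, hρ'⟩ := conj_κ H K hL1 hs τ'
    have e1 : g1 * c j * g1⁻¹ = κ ρ * (g1 * c i * g1⁻¹) * (κ ρ)⁻¹ := by
      have e2 : c j = κ τ' * c i * (κ τ')⁻¹ := by
        rw [K.κ_conj]
        exact congrArg c hτi.symm
      rw [e2, ← hρ]; group
    rw [ha, ha] at e1
    have e3 : κ ρ * (zp z (a i) * c (Equiv.swap (0 : Fin 5) 1 i)) * (κ ρ)⁻¹ = zp z (a i) * c (Equiv.swap (0 : Fin 5) 1 j) := by
      have e4 : κ ρ * (zp z (a i) * c (Equiv.swap (0 : Fin 5) 1 i)) * (κ ρ)⁻¹ =
          (κ ρ * zp z (a i)) * c (Equiv.swap (0 : Fin 5) 1 i) * (κ ρ)⁻¹ := by group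
      have e5 : (zp z (a i) * κ ρ) * c (Equiv.swap (0 : Fin 5) 1 i) * (κ ρ)⁻¹ =
          zp z (a i) * (κ ρ * c (Equiv.swap (0 : Fin 5) 1 i) * (κ ρ)⁻¹) := by group
      rw [e4, hzpc _ _ (κ_mem K ρ), e5, K.κ_conj, hρ' i]
      have : (τ' : Equiv.Perm (Fin 5)) i = j := hτi
      rw [this]
    rw [e3] at e1
    exact ((K.c_inj _ _ _ _ e1).1).symm
  have ha0 : a 0 = 1 := by
    rcases zmod2_cases (a 0) with h | h
    · exfalso
      have e1 : g1 * (c 0 * c 1 * c 2 * c 3 * c 4) * g1⁻¹ = 1 := by rw [K.c_prod]; group
      have e2 : g1 * (c 0 * c 1 * c 2 * c 3 * c 4) * g1⁻¹ =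
          (g1 * c 0 * g1⁻¹) * (g1 * c 1 * g1⁻¹) * (g1 * c 2 * g1⁻¹) * (g1 * c 3 * g1⁻¹) *
          (g1 * c 4 * g1⁻¹) := by group
      rw [e2, ha, ha, ha, ha, ha, hconst 1 0, hconst 2 0, hconst 3 0, hconst 4 0,
        show Equiv.swap (0 : Fin 5) 1 0 = 1 by decide, show Equiv.swap (0 : Fin 5) 1 1 = 0 by decide,
        show Equiv.swap (0 : Fin 5) 1 2 = 2 by decide, show Equiv.swap (0 : Fin 5) 1 3 = 3 by decide,
        show Equiv.swap (0 : Fin 5) 1 4 = 4 by decide, prod_swap_facts K H.D, h, zp_zero,
        one_mul] at e1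
      exact H.z_ne e1
    · exact h
  intro i
  rw [ha, hconst i 0, ha0, zp_one]

omit [Finite G] in
/-- the involutions of `K0` -/
theorem invol_K0 {k : G} (hk : k ∈ Q) (hky : k * y = y * k) (hkt : k * t = t * k) (hkk : k * k = 1)
    (hk1 : k ≠ 1) (hkz : k ≠ z) : ∃ i, k = c i ∨ k = z * c i := by
  rcases K.cover k hk hky hkt with ⟨a, ha⟩ | ⟨a, j, ha⟩ | ⟨a, j, l, hjk, ha⟩
  · exfalso
    rcases zmod2_cases a with rfl | rfl
    · exact hk1 (ha.trans (zp_zero z))
    · exact hkz (ha.trans (zp_one z))
  · refine ⟨j, ?_⟩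
    rcases zmod2_cases a with rfl | rfl
    · left; rw [ha, zp_zero, one_mul]
    · right; rw [ha, zp_one]
  · exfalso
    have hcz : z * (c j * c l) = (c j * c l) * z := (H.D.com _ (mul_mem (K.c_mem j) (K.c_mem l))).symm
    have e1 : (zp z a * (c j * c l)) * (zp z a * (c j * c l)) = z := by
      rcases zmod2_cases a with rfl | rfl
      · rw [zp_zero, one_mul]; exact H.c_mul_sq K j l hjk.ne
      · rw [zp_one]
        calc z * (c j * c l) * (z * (c j * c l)) = z * ((c j * c l) * z) * (c j * c l) := by group
          _ = (z * z) * ((c j * c l) * (c j * c l)) := by rw [← hcz]; group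
          _ = z := by rw [H.c_mul_sq K j l hjk.ne, H.toPre.zz, one_mul]
    rw [← ha, hkk] at e1
    exact H.z_ne e1.symm

omit H K [Finite G] [Group G] in
theorem two_facts : ∀ i j : Fin 5, i ≠ j → ∃ σ : Equiv.Perm (Fin 5), Equiv.Perm.sign σ = 1 ∧
    σ 2 = i ∧ σ 3 = j := by decide +kernel

omit H K [Finite G] [Group G] in
set_option synthInstance.maxHeartbeats 0 in
set_option synthInstance.maxSize 10000 in
set_option maxRecDepth 10000 in
theorem rho_facts : ∀ ρ : Equiv.Perm (Fin 5), Equiv.Perm.sign ρ = 1 → ρ 0 = 1 → ρ 1 = 0 →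
    ρ * ρ = 1 ∧ ∀ i j : Fin 5, i ≠ 0 → i ≠ 1 → j ≠ 0 → j ≠ 1 → i ≠ j →
      (ρ i = j ∧ ρ j = i) ∨ (ρ i = i ∧ ρ j ≠ j ∧ ρ j ≠ i) ∨ (ρ j = j ∧ ρ i ≠ i ∧ ρ i ≠ j) := by
  decide +kernel

/-- **The square of a normalised swap is `z`.** -/
theorem swap_sq {g : G} (hgz : g * z = z * g) (hgy : g * y * g⁻¹ = t) (hgt : g * t * g⁻¹ = y)
    (hc : ∀ i, g * c i * g⁻¹ = z * c (Equiv.swap (0 : Fin 5) 1 i)) : g * g = z := by
  have hzz := H.toPre.zz
  have czc : ∀ i, z * c i = c i * z := fun i => zc K H.D i
  have zyc : Commute z y := H.toPre.zy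
  have ztc : Commute z t := H.toPre.zt
  have cgz : Commute g z := hgz
  -- g² is 1 or z
  have hg2 : g * g = 1 ∨ g * g = z := by
    apply H.eq_of_comm_c K
    · rw [← mul_inv_eq_iff_eq_mul]
      calc g * g * y * (g * g)⁻¹ = g * (g * y * g⁻¹) * g⁻¹ := by group
        _ = y := by rw [hgy, hgt]
    · rw [← mul_inv_eq_iff_eq_mul]
      calc g * g * t * (g * g)⁻¹ = g * (g * t * g⁻¹) * g⁻¹ := by group
        _ = t := by rw [hgt, hgy]
    · intro i
      rw [← mul_inv_eq_iff_eq_mul]
      calc g * g * c i * (g * g)⁻¹ = g * (g * c i * g⁻¹) * g⁻¹ := by group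
        _ = (g * z) * c (Equiv.swap (0 : Fin 5) 1 i) * g⁻¹ := by rw [hc]; group
        _ = z * (g * c (Equiv.swap (0 : Fin 5) 1 i) * g⁻¹) := by rw [cgz.eq]; group
        _ = c i := by rw [hc, Equiv.swap_apply_self, ← mul_assoc, hzz, one_mul]
  rcases hg2 with hg2 | hg2
  swap
  · exact hg2
  exfalso
  -- the conjugating element d
  obtain ⟨d1, hd1z, hd1y, hd1t⟩ := H.pairs y t (c 0) (c 1) H.yQ H.tQ (K.c_mem 0) (K.c_mem 1) H.y2
    H.t2 (K.c_sq 0) (K.c_sq 1) H.yt (K.c_anti 0 1 (by decide))
  have cd1 : Commute d1 z := hd1z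
  have hQd : ∀ x ∈ Q, d1⁻¹ * x * d1 ∈ Q := by
    intro x hx
    have := H.D.norm d1⁻¹ cd1.inv_left.eq x hx
    simpa using this
  have back : ∀ (w w' : G), d1 * w * d1⁻¹ = w' → d1⁻¹ * w' * d1 = w := by
    intro w w' h; rw [← h]; group
  have by0 := back _ _ hd1y
  have bt0 := back _ _ hd1t
  have hcomm : ∀ x w : G, x * w = w * x → (d1⁻¹ * x * d1) * (d1⁻¹ * w * d1) =
      (d1⁻¹ * w * d1) * (d1⁻¹ * x * d1) := by
    intro x w h
    calc (d1⁻¹ * x * d1) * (d1⁻¹ * w * d1) = d1⁻¹ * (x * w) * d1 := by group
      _ = _ := by rw [h]; group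
  have hinvol : ∀ x, x ∈ Q → x * x = 1 → x ≠ 1 → x ≠ z → (∀ i, x * c i = c i * x) →
      ∃ i, d1⁻¹ * x * d1 = c i ∨ d1⁻¹ * x * d1 = z * c i := by
    intro x hx hxx hx1 hxz hxc
    apply invol_K0 H K (hQd x hx)
    · have := hcomm x (c 0) (hxc 0)
      rwa [by0] at this
    · have := hcomm x (c 1) (hxc 1)
      rwa [bt0] at this
    · calc (d1⁻¹ * x * d1) * (d1⁻¹ * x * d1) = d1⁻¹ * (x * x) * d1 := by group
        _ = 1 := by rw [hxx]; group
    · intro h
      apply hx1
      calc x = d1 * (d1⁻¹ * x * d1) * d1⁻¹ := by group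
        _ = 1 := by rw [h]; group
    · intro h
      apply hxz
      calc x = d1 * (d1⁻¹ * x * d1) * d1⁻¹ := by group
        _ = z := by rw [h, hd1z]; group
  have y1 : y ≠ 1 := by
    intro h1; have := H.yt; rw [h1, one_mul, mul_one] at this
    exact H.z_ne (mul_eq_right.1 this.symm)
  have yz : y ≠ z := by
    intro h1; have := H.yt; rw [h1, ztc.eq.symm, ← mul_assoc, hzz, one_mul] at this
    exact H.z_ne (mul_eq_right.1 this)
  have t1 : t ≠ 1 := by
    intro h1; have := H.yt; rw [h1, one_mul, mul_one] at this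
    exact H.z_ne (mul_eq_right.1 this.symm)
  have tz : t ≠ z := by
    intro h1
    have h2 := H.toPre.ty
    rw [h1, zyc.eq.symm, ← mul_assoc, hzz, one_mul] at h2
    exact H.z_ne (mul_eq_right.1 h2)
  obtain ⟨i, hi⟩ := hinvol y H.yQ H.y2 y1 yz (fun i => (K.c_y i).symm)
  obtain ⟨j, hj⟩ := hinvol t H.tQ H.t2 t1 tz (fun i => (K.c_t i).symm)
  have hij : i ≠ j := by
    rintro rfl
    -- then d1⁻¹ y d1 and d1⁻¹ t d1 commute
    have hcc : Commute (d1⁻¹ * y * d1) (d1⁻¹ * t * d1) := by
      have b0 : Commute (c i) (c i) := Commute.refl _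
      have b1 : Commute z (c i) := czc i
      have b2 : Commute (c i) (z * c i) := b1.symm.mul_right b0
      rcases hi with h | h <;> rcases hj with h' | h' <;> rw [h, h']
      · exact b2
      · exact b2.symm
    have h3 : y * t = t * y := by
      calc y * t = d1 * ((d1⁻¹ * y * d1) * (d1⁻¹ * t * d1)) * d1⁻¹ := by group
        _ = t * y := by rw [hcc.eq]; group
    rw [H.yt] at h3
    exact H.z_ne (mul_eq_right.1 h3)
  obtain ⟨σ, hσ, hσ2, hσ3⟩ := two_facts i j hij
  let σ' : alternatingGroup (Fin 5) := ⟨σ, Equiv.Perm.mem_alternatingGroup.2 hσ⟩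
  have hlL := κ_mem K σ'
  have cly : Commute (κ σ') y := H.Ly _ hlL
  have clt : Commute (κ σ') t := H.Lt _ hlL
  have clz : Commute (κ σ') z := H.toPre.Lz _ hlL
  set d := d1 * κ σ' with hd
  have cdz : Commute d z := cd1.mul_left clz
  have hdy : d * y * d⁻¹ = c 0 := by
    calc d * y * d⁻¹ = d1 * (κ σ' * y * (κ σ')⁻¹) * d1⁻¹ := by rw [hd]; group
      _ = d1 * y * d1⁻¹ := by rw [cly.eq]; group
      _ = c 0 := hd1y
  have hdt : d * t * d⁻¹ = c 1 := by
    calc d * t * d⁻¹ = d1 * (κ σ' * t * (κ σ')⁻¹) * d1⁻¹ := by rw [hd]; group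
      _ = d1 * t * d1⁻¹ := by rw [clt.eq]; group
      _ = c 1 := hd1t
  have hcon : ∀ (k m : Fin 5), σ k = m → (κ σ')⁻¹ * c m * κ σ' = c k := by
    intro k m hkm
    have := K.κ_conj σ' k
    rw [show ((σ' : Equiv.Perm (Fin 5)) k) = m from hkm] at this
    rw [← this]; group
  have hdcls : ∀ (w : G) (k m : Fin 5), σ k = m → (d1⁻¹ * w * d1 = c m ∨ d1⁻¹ * w * d1 = z * c m) →
      (d⁻¹ * w * d = c k ∨ d⁻¹ * w * d = z * c k) := by
    intro w k m hkm hw
    have e1 : d⁻¹ * w * d = (κ σ')⁻¹ * (d1⁻¹ * w * d1) * κ σ' := by rw [hd]; group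
    rw [e1]
    rcases hw with h | h
    · left; rw [h, hcon k m hkm]
    · right
      rw [h]
      calc (κ σ')⁻¹ * (z * c m) * κ σ' = ((κ σ')⁻¹ * z) * c m * κ σ' := by group
        _ = z * ((κ σ')⁻¹ * c m * κ σ') := by rw [clz.inv_left.eq]; group
        _ = _ := by rw [hcon k m hkm]
  have hdy2 := hdcls y 2 i hσ2 hi
  have hdt3 := hdcls t 3 j hσ3 hj
  -- the conjugate g' of g
  set g' := d * g * d⁻¹ with hg'
  have cg'z : Commute g' z := (cdz.mul_left cgz).mul_left cdz.inv_left
  have hneg : ∀ (w : G) (k : Fin 5), Equiv.swap (0 : Fin 5) 1 k = k →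
      (d⁻¹ * w * d = c k ∨ d⁻¹ * w * d = z * c k) → g' * w * g'⁻¹ = z * w := by
    intro w k hk hw
    have e1 : g' * w * g'⁻¹ = d * (g * (d⁻¹ * w * d) * g⁻¹) * d⁻¹ := by rw [hg']; group
    have e2 : g * (d⁻¹ * w * d) * g⁻¹ = z * (d⁻¹ * w * d) := by
      rcases hw with h | h
      · rw [h, hc, hk]
      · rw [h]
        calc g * (z * c k) * g⁻¹ = (g * z) * c k * g⁻¹ := by group
          _ = z * (g * c k * g⁻¹) := by rw [hgz]; group
          _ = _ := by rw [hc, hk]
    rw [e1, e2]
    calc d * (z * (d⁻¹ * w * d)) * d⁻¹ = (d * z) * d⁻¹ * w := by group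
      _ = z * w := by rw [cdz.eq]; group
  have hg'y := hneg y 2 (by decide) hdy2
  have hg't := hneg t 3 (by decide) hdt3
  have hg'0 : g' * c 0 * g'⁻¹ = c 1 := by
    rw [← hdy, ← hdt, ← hgy, hg']; group
  have hg'1 : g' * c 1 * g'⁻¹ = c 0 := by
    have : g' * c 1 * g'⁻¹ = d * (g * t * g⁻¹) * d⁻¹ := by rw [← hdt, hg']; group
    rw [this, hgt, hdy]
  have hg'2 : g' * g' = 1 := by
    calc g' * g' = d * (g * g) * d⁻¹ := by rw [hg']; group
      _ = 1 := by rw [hg2]; group
  -- h = y t g'
  set h := y * t * g' with hh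
  have hty := H.conj_ty
  have hyt := H.conj_yt
  have hhy : h * y * h⁻¹ = y := by
    calc h * y * h⁻¹ = y * (t * (g' * y * g'⁻¹) * t⁻¹) * y⁻¹ := by rw [hh]; group
      _ = y * ((t * z) * y * t⁻¹) * y⁻¹ := by rw [hg'y]; group
      _ = y * (z * (t * y * t⁻¹)) * y⁻¹ := by rw [← ztc.eq]; group
      _ = y := by rw [hty, ← mul_assoc z z, hzz]; group
  have hht : h * t * h⁻¹ = t := by
    calc h * t * h⁻¹ = y * (t * (g' * t * g'⁻¹) * t⁻¹) * y⁻¹ := by rw [hh]; group
      _ = y * ((t * z) * t * t⁻¹) * y⁻¹ := by rw [hg't]; group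
      _ = (y * z) * t * y⁻¹ := by rw [← ztc.eq]; group
      _ = z * (y * t * y⁻¹) := by rw [← zyc.eq]; group
      _ = t := by rw [hyt, ← mul_assoc, hzz, one_mul]
  obtain ⟨n, hn, l, hl, hnl⟩ := H.exists_mul (mul_inv_eq_iff_eq_mul.1 hhy) (mul_inv_eq_iff_eq_mul.1 hht)
  rw [← K.κ_range] at hl
  obtain ⟨ρ, rfl⟩ := hl
  have clz' : Commute (κ ρ) z := H.toPre.Lz _ (κ_mem K ρ)
  have cytc : ∀ i, Commute (y * t) (c i) := by
    intro i
    have b1 : Commute y (c i) := (K.c_y i).symm
    have b2 : Commute t (c i) := (K.c_t i).symm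
    exact b1.mul_left b2
  have hh0 : h * c 0 * h⁻¹ = c 1 := by
    calc h * c 0 * h⁻¹ = (y * t) * (g' * c 0 * g'⁻¹) * (y * t)⁻¹ := by rw [hh]; group
      _ = c 1 := by rw [hg'0, (cytc 1).eq]; group
  have hh1 : h * c 1 * h⁻¹ = c 0 := by
    calc h * c 1 * h⁻¹ = (y * t) * (g' * c 1 * g'⁻¹) * (y * t)⁻¹ := by rw [hh]; group
      _ = c 0 := by rw [hg'1, (cytc 0).eq]; group
  have hn0 := mem_K0.1 hn
  have hρ : ∀ i j, h * c i * h⁻¹ = c j → (ρ : Equiv.Perm (Fin 5)) i = j ∧ n * c j = c j * n := by
    intro i j hij
    have e1 : h * c i * h⁻¹ = n * c ((ρ : Equiv.Perm (Fin 5)) i) * n⁻¹ := by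
      rw [← K.κ_conj, hnl]; group
    have e2 : h * c i * h⁻¹ = c ((ρ : Equiv.Perm (Fin 5)) i) ∨
        h * c i * h⁻¹ = z * c ((ρ : Equiv.Perm (Fin 5)) i) := by
      rw [e1]; exact H.D.comm n hn0.1 _ (K.c_mem _)
    have e3 := cls_eq K e2 (Or.inl hij)
    refine ⟨e3, ?_⟩
    rw [e1, e3] at hij
    exact mul_inv_eq_iff_eq_mul.1 hij
  obtain ⟨hρ0, hn1⟩ := hρ 0 1 hh0
  obtain ⟨hρ1, hnn0⟩ := hρ 1 0 hh1
  obtain ⟨hρρ, hρf⟩ := rho_facts ρ (Equiv.Perm.mem_alternatingGroup.1 ρ.2) hρ0 hρ1
  have hκκ : κ ρ * κ ρ = 1 := by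
    rw [← map_mul]
    have : ρ * ρ = 1 := Subtype.ext hρρ
    rw [this, map_one]
  -- h² = z
  have hh2 : h * h = z := by
    have hsq : (y * t) * (y * t) = z := by
      have hyt' := H.yt
      calc y * t * (y * t) = (y * t) * y * t := by group
        _ = z * t * (y * y) * t := by rw [hyt']; group
        _ = z * (t * t) := by rw [H.y2]; group
        _ = z := by rw [H.t2, mul_one]
    calc h * h = (y * t) * ((g' * y * g'⁻¹) * (g' * t * g'⁻¹)) * (g' * g') := by rw [hh]; group
      _ = (y * t) * (z * y * (z * t)) := by rw [hg'y, hg't, hg'2, mul_one]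
      _ = (y * t) * (z * (y * z) * t) := by group
      _ = (y * t) * ((z * z) * (y * t)) := by rw [← zyc.eq]; group
      _ = z := by rw [hzz, one_mul, hsq]
  have hh2' : h * h = n * (κ ρ * n * (κ ρ)⁻¹) := by
    calc h * h = n * (κ ρ * n * (κ ρ)⁻¹) * (κ ρ * κ ρ) := by rw [hnl]; group
      _ = _ := by rw [hκκ, mul_one]
  rw [hh2'] at hh2
  have hzp2 : ∀ a, zp z a * zp z a = 1 := by
    intro a
    rcases zmod2_cases a with rfl | rfl
    · rw [zp_zero, one_mul]
    · rw [zp_one, hzz]
  have hzpc : ∀ (b : ZMod 2) (l : G), l * z = z * l → l * zp z b = zp z b * l := by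
    intro b l hl
    rcases zmod2_cases b with rfl | rfl
    · rw [zp_zero, one_mul, mul_one]
    · rw [zp_one]; exact hl
  -- cancellation of zp
  have hcan : ∀ (a : ZMod 2) (w : G), w * z = z * w →
      (zp z a * w) * (κ ρ * (zp z a * w) * (κ ρ)⁻¹) = w * (κ ρ * w * (κ ρ)⁻¹) := by
    intro a w hw
    have e1 := hzpc a (κ ρ) clz'.eq
    have e2 := hzpc a w hw
    calc (zp z a * w) * (κ ρ * (zp z a * w) * (κ ρ)⁻¹)
        = zp z a * w * (κ ρ * zp z a) * w * (κ ρ)⁻¹ := by group
      _ = zp z a * (w * zp z a) * κ ρ * w * (κ ρ)⁻¹ := by rw [e1]; group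
      _ = (zp z a * zp z a) * w * κ ρ * w * (κ ρ)⁻¹ := by rw [e2]; group
      _ = _ := by rw [hzp2]; group
  have hcc : ∀ i j, (c i * c j) * z = z * (c i * c j) := fun i j =>
    H.D.com _ (mul_mem (K.c_mem i) (K.c_mem j))
  have hcommc : ∀ (a : ZMod 2) (w : G) (k : Fin 5), (zp z a * w) * c k = c k * (zp z a * w) →
      w * c k = c k * w := by
    intro a w k hk
    have e1 := hzpc a (c k) (czc k).symm
    apply mul_left_cancel (a := zp z a)
    calc zp z a * (w * c k) = c k * (zp z a * w) := by rw [← hk]; group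
      _ = (c k * zp z a) * w := by group
      _ = zp z a * (c k * w) := by rw [e1]; group
  have hanti : ∀ i j, i ≠ j → ¬ (c i * c j = c j * c i) := by
    intro i j hij h1
    rw [K.c_anti i j hij] at h1
    exact H.z_ne (mul_eq_right.1 h1)
  have hne : ∀ i j, i ≠ j → c i ≠ c j := by
    intro i j hij h1
    apply hij
    exact (K.c_inj 0 0 i j (by rw [h1])).2
  rcases K.cover n hn0.1 hn0.2.1 hn0.2.2 with ⟨a, rfl⟩ | ⟨a, i, rfl⟩ | ⟨a, i, j, hij, rfl⟩
  · have e1 := hcan a 1 (by rw [one_mul, mul_one])
    rw [mul_one] at e1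
    rw [e1] at hh2
    apply H.z_ne
    rw [← hh2]; group
  · have e0 := hcommc a _ _ hnn0
    have e1 := hcommc a _ _ hn1
    by_cases h0 : i = 0
    · subst h0; exact hanti 0 1 (by decide) e1
    · exact hanti i 0 h0 e0
  · have e0 := hcommc a _ _ hnn0
    have e1 := hcommc a _ _ hn1
    -- i, j ≥ 2
    have hmix : ∀ p q k : Fin 5, p ≠ q → (c p * c q) * c k = c k * (c p * c q) → k ≠ p ∧ k ≠ q := by
      intro p q k hpq hk
      constructor
      · rintro rfl
        -- c_k c_q c_k = c_k c_k c_q
        have h1 : c q * c k = c k * c q := by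
          apply mul_left_cancel (a := c k)
          rw [← mul_assoc, hk]
        exact hanti q k hpq.symm h1
      · rintro rfl
        have h1 : c k * c p = c p * c k := by
          apply mul_right_cancel (b := c k)
          rw [hk]; group
        exact hanti k p hpq.symm h1
    obtain ⟨a0, b0⟩ := hmix i j 0 hij.ne e0
    obtain ⟨a1, b1⟩ := hmix i j 1 hij.ne e1
    have e2 := hcan a (c i * c j) (hcc i j)
    rw [e2] at hh2
    have e3 : κ ρ * (c i * c j) * (κ ρ)⁻¹ =
        c ((ρ : Equiv.Perm (Fin 5)) i) * c ((ρ : Equiv.Perm (Fin 5)) j) := by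
      rw [← K.κ_conj, ← K.κ_conj]; group
    rw [e3] at hh2
    rcases hρf i j a0.symm a1.symm b0.symm b1.symm hij.ne with ⟨p1, p2⟩ | ⟨p1, p2, p3⟩ | ⟨p1, p2, p3⟩
    · rw [p1, p2] at hh2
      apply H.z_ne
      rw [← hh2]
      calc c i * c j * (c j * c i) = c i * (c j * c j) * c i := by group
        _ = 1 := by rw [K.c_sq, mul_one, K.c_sq]
    · rw [p1] at hh2
      set m := (ρ : Equiv.Perm (Fin 5)) j with hm
      have e4 : c i * c j * (c i * c m) = z * (c j * c m) := by
        calc c i * c j * (c i * c m) = (c i * c j) * c i * c m := by group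
          _ = z * c j * (c i * c i) * c m := by rw [K.c_anti i j hij.ne]; group
          _ = _ := by rw [K.c_sq]; group
      rw [e4] at hh2
      have e5 : c j * c m = 1 := mul_eq_left.1 hh2
      apply hne j m (Ne.symm p2)
      calc c j = (c j * c m) * c m := by rw [mul_assoc, K.c_sq, mul_one]
        _ = c m := by rw [e5, one_mul]
    · rw [p1] at hh2
      set m := (ρ : Equiv.Perm (Fin 5)) i with hm
      have e4 : c i * c j * (c m * c j) = z * (c i * c m) := by
        calc c i * c j * (c m * c j) = c i * (c j * c m) * c j := by group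
          _ = (c i * z) * c m * (c j * c j) := by rw [K.c_anti j m (Ne.symm p3)]; group
          _ = _ := by rw [K.c_sq, ← czc i]; group
      rw [e4] at hh2
      have e5 : c i * c m = 1 := mul_eq_left.1 hh2
      apply hne i m (Ne.symm p2)
      calc c i = (c i * c m) * c m := by rw [mul_assoc, K.c_sq, mul_one]
        _ = c m := by rw [e5, one_mul]

end Swap

end Cfsg.Agent.SuzType.JNode
end

-- part: SuzType/JFinal
section
/-!
# `J = ⟨y, t, f, u⟩ ≅ A₆` and its relations, in a group of Suzuki type
-/

set_option autoImplicit false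

namespace Cfsg.Agent.SuzType.JFinal

open Subgroup Cfsg.Agent.J2Type.Model
open Cfsg.Agent.ClassificationK.LargeSymplectic
open Cfsg.Agent.SuzType.CanonG Cfsg.Agent.SuzType.CanonG.Pre
open Cfsg.Agent.SuzType.Swap Cfsg.Agent.SuzType.Swap.PreT Cfsg.Agent.SuzType.RR
open Cfsg.Agent.SuzType.LocalRel Cfsg.Agent.SuzType.JGroup Cfsg.Agent.SuzType.JNode

variable {G : Type*} [Group G] [Finite G] {Q L : Subgroup G} {z y t f u g : G}

omit [Finite G] in
theorem zp_val' {K : Subgroup G} (z : K) (a : ZMod 2) : ((zp z a : K) : G) = zp (z : G) a := by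
  unfold zp
  split <;> rfl

/-- The subgroup `J`. -/
def JJ (y t f u : G) : Subgroup G := closure {y, t, f, u}

/-- The hypotheses of `JGroup.JHyp` hold in `J`. -/
theorem exists_jhyp (Λ : Local Q z y t f u g L) :
    ∃ (z' y' t' f' u' : JJ y t f u) (φ : JJ y t f u ≃* JJ y t f u),
      (z' : G) = z ∧ (y' : G) = y ∧ (t' : G) = t ∧ (f' : G) = f ∧ (u' : G) = u ∧
      JHyp z' y' t' f' u' φ := by
  have H := Λ.toPreT
  obtain ⟨c, κ, K⟩ := H.toPre.exists_canon
  obtain ⟨l, hl, hact⟩ := norm_act H K Λ.gz Λ.gy Λ.gt Λ.gL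
  have hzz := H.toPre.zz
  have zyc : Commute z y := H.toPre.zy
  have ztc : Commute z t := H.toPre.zt
  -- the normalised swap
  set g' := g * l with hg'
  have cl_z : Commute l z := H.toPre.Lz l hl
  have cg_z : Commute g z := Λ.gz
  have g'z : g' * z = z * g' := (cg_z.mul_left cl_z).eq
  have g'y : g' * y * g'⁻¹ = t := by
    calc g' * y * g'⁻¹ = g * (l * y * l⁻¹) * g⁻¹ := by rw [hg']; group
      _ = t := by rw [H.Ly l hl, mul_inv_cancel_right, Λ.gy]
  have g't : g' * t * g'⁻¹ = y := by
    calc g' * t * g'⁻¹ = g * (l * t * l⁻¹) * g⁻¹ := by rw [hg']; group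
      _ = y := by rw [H.Lt l hl, mul_inv_cancel_right, Λ.gt]
  have g'f : g' * f * g'⁻¹ = u := by
    calc g' * f * g'⁻¹ = g * (l * f * l⁻¹) * g⁻¹ := by rw [hg']; group
      _ = u := by rw [Λ.fL l hl, mul_inv_cancel_right, Λ.gf]
  have hsq : g' * g' = z := swap_sq H K g'z g'y g't hact
  have g'u : g' * u * g'⁻¹ = z * f * z⁻¹ := by
    calc g' * u * g'⁻¹ = (g' * g') * f * (g' * g')⁻¹ := by rw [← g'f]; group
      _ = z * f * z⁻¹ := by rw [hsq]
  -- membership
  have my : y ∈ JJ y t f u := subset_closure (by simp)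
  have mt : t ∈ JJ y t f u := subset_closure (by simp)
  have mf : f ∈ JJ y t f u := subset_closure (by simp)
  have mu : u ∈ JJ y t f u := subset_closure (by simp)
  have hzyt : z = y * t * y⁻¹ * t⁻¹ := by rw [H.yt]; group
  have mz : z ∈ JJ y t f u := by
    rw [hzyt]; exact mul_mem (mul_mem (mul_mem my mt) (inv_mem my)) (inv_mem mt)
  -- J centralises L
  have hJL : ∀ x ∈ JJ y t f u, ∀ l ∈ L, x * l = l * x := by
    intro x hx l hl
    have : JJ y t f u ≤ centralizer ({l} : Set G) := by
      unfold JJ
      rw [closure_le]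
      rintro w (rfl | rfl | rfl | hw)
      · exact mem_centralizer_singleton_iff.2 (H.Ly l hl).symm
      · exact mem_centralizer_singleton_iff.2 (H.Lt l hl).symm
      · exact mem_centralizer_singleton_iff.2 (Λ.fL l hl).symm
      · rw [Set.mem_singleton_iff] at hw
        subst hw
        exact mem_centralizer_singleton_iff.2 (Λ.uL l hl).symm
    exact mem_centralizer_singleton_iff.1 (this hx)
  -- g' normalises J
  have hmap : (JJ y t f u).map (MulAut.conj g').toMonoidHom = JJ y t f u := by
    apply Subgroup.eq_of_le_of_card_ge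
    · rw [map_le_iff_le_comap]
      conv_lhs => unfold JJ
      rw [closure_le]
      intro w hw
      have hw' : w = y ∨ w = t ∨ w = f ∨ w = u := by simpa using hw
      show g' * w * g'⁻¹ ∈ JJ y t f u
      rcases hw' with h | h | h | h
      · rw [h, g'y]; exact mt
      · rw [h, g't]; exact my
      · rw [h, g'f]; exact mu
      · rw [h, g'u]; exact mul_mem (mul_mem mz mf) (inv_mem mz)
    · rw [Nat.card_congr ((JJ y t f u).equivMapOfInjective _ (MulAut.conj g').injective).toEquiv.symm]
  let φ : JJ y t f u ≃* JJ y t f u :=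
    (MulEquiv.subgroupMap (MulAut.conj g') (JJ y t f u)).trans (MulEquiv.subgroupCongr hmap)
  have hφ : ∀ x : JJ y t f u, ((φ x : JJ y t f u) : G) = g' * x * g'⁻¹ := fun _ => rfl
  refine ⟨⟨z, mz⟩, ⟨y, my⟩, ⟨t, mt⟩, ⟨f, mf⟩, ⟨u, mu⟩, φ, rfl, rfl, rfl, rfl, rfl, ?_⟩
  have f3 : f * f * f = 1 := by
    have := Λ.f3
    rwa [pow_succ, pow_two] at this
  have u3 : u * u * u = 1 := by
    have := Λ.u3
    rwa [pow_succ, pow_two] at this
  exact {
    z1 := fun h => H.z_ne (congrArg Subtype.val h)
    zz := Subtype.ext hzz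
    zy := Subtype.ext zyc.eq
    zt := Subtype.ext ztc.eq
    yy := Subtype.ext H.y2
    tt := Subtype.ext H.t2
    yt := Subtype.ext H.yt
    f3 := Subtype.ext f3
    u3 := Subtype.ext u3
    fz := Subtype.ext Λ.T1.gz
    fy := Subtype.ext Λ.T1.ge
    tf := Subtype.ext Λ.T1.inv
    uz := Subtype.ext Λ.T2.gz
    ut := Subtype.ext Λ.T2.ge
    yu := Subtype.ext Λ.T2.inv
    gen := by
      have h1 := Subgroup.closure_closure_coe_preimage (k := ({y, t, f, u} : Set G))
      rw [eq_top_iff]
      intro x _
      have h2 : x ∈ closure ((Subtype.val : closure ({y, t, f, u} : Set G) → G) ⁻¹' {y, t, f, u}) := by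
        rw [h1]; exact mem_top _
      refine (Subgroup.closure_mono ?_) h2
      rintro ⟨w, hw⟩ hw'
      have hw3 : w ∈ ({y, t, f, u} : Set G) := hw'
      have hw'' : w = y ∨ w = t ∨ w = f ∨ w = u := by simpa using hw3
      rcases hw'' with rfl | rfl | rfl | rfl
      · left; rfl
      · right; left; rfl
      · right; right; left; rfl
      · right; right; right; rfl
    hC := by
      intro x hx
      have hx' : (x : G) * z = z * (x : G) := congrArg Subtype.val hx
      obtain ⟨a, ha⟩ := H.C_fix K (x : G) hx' (hJL x x.2)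
      refine ⟨a, ?_⟩
      rcases ha with ha | ha | ha | ha
      · left; apply Subtype.ext; rw [zp_val']; exact ha
      · right; left; apply Subtype.ext; rw [Subgroup.coe_mul, zp_val']; exact ha
      · right; right; left; apply Subtype.ext; rw [Subgroup.coe_mul, zp_val']; exact ha
      · right; right; right; apply Subtype.ext
        rw [Subgroup.coe_mul, Subgroup.coe_mul, zp_val']; exact ha
    φz := by
      apply Subtype.ext
      rw [hφ]
      show g' * z * g'⁻¹ = z
      rw [g'z]; group
    φy := Subtype.ext g'y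
    φt := Subtype.ext g't
    φφ := by
      intro x
      apply Subtype.ext
      rw [hφ, hφ]
      show g' * (g' * (x : G) * g'⁻¹) * g'⁻¹ = z * x * z⁻¹
      calc g' * (g' * (x : G) * g'⁻¹) * g'⁻¹ = (g' * g') * x * (g' * g')⁻¹ := by group
        _ = _ := by rw [hsq] }

/-- **Node J**: the relations of `J ≅ A₆`. -/
theorem j_rels (Λ : Local Q z y t f u g L) : (f⁻¹ * u⁻¹) ^ 5 = 1 ∧ (f⁻¹ * u) ^ 4 = 1 := by
  obtain ⟨z', y', t', f', u', φ, -, -, -, hf, hu, J⟩ := exists_jhyp Λ
  obtain ⟨h5, h4⟩ := J.rels
  have h5' : (f * u) ^ 5 = 1 := by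
    have h6 := congrArg (Subtype.val) h5
    simpa [hf, hu] using h6
  have h4' : (f⁻¹ * u) ^ 4 = 1 := by
    have h6 := congrArg (Subtype.val) h4
    simpa [hf, hu] using h6
  refine ⟨?_, h4'⟩
  have e1 : (f⁻¹ * u⁻¹) = f⁻¹ * (f * u)⁻¹ * (f⁻¹)⁻¹ := by group
  rw [e1, conj_pow, inv_pow, h5']
  group

/-- `|J| = 360`. -/
theorem card_J (Λ : Local Q z y t f u g L) :
    Nat.card (closure ({y, t, f, u} : Set G)) = 360 := by
  obtain ⟨z', y', t', f', u', φ, -, -, -, -, -, J⟩ := exists_jhyp Λ
  exact J.card_eq

end Cfsg.Agent.SuzType.JFinal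
end

-- part: SuzType/Embed
section
/-!
# Groups of Suzuki type: the embedding of the presented Suzuki group

`exists_embedding` : `φ : Spor.Suz →* G` injective with `φ a = z` and `C_G(z) ≤ φ.range`.
-/

set_option autoImplicit false

namespace Cfsg.Agent.SuzType.Embed

open Cfsg.Agent.J2Type.QStruct Cfsg.Agent.J2Type.Model
open Cfsg.Agent.ClassificationK.LargeSymplectic Cfsg.Agent.SuzType.CanonG Cfsg.Agent.SuzType.Swap
  Cfsg.Agent.SuzType.RR Cfsg.Agent.SuzType.CentA4 Cfsg.Agent.SuzType.LocalRel
open Cfsg.Agent.LargeExtra Cfsg.Agent.LargeExtra.FourGroup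
open Cfsg.Spor (Suz)

variable {G : Type*} [Group G]

/-- **The embedding.** -/
theorem exists_embedding [Finite G] {Q : Subgroup G} {z y g₀ : G} (H : SuzHyp Q z)
    (hy : g₀ * z * g₀⁻¹ = y) (hyQ : y ∈ Q) (hne : y ≠ z) :
    ∃ (t f u g : G) (L : Subgroup G) (c : Fin 5 → G) (κ : alternatingGroup (Fin 5) →* G),
      Local Q z y t f u g L ∧ Canon Q z y t L c κ ∧
      (∀ c, c * z = z * c → c * y = y * c → ∃ a ∈ Q, ∃ b ∈ Q, ∃ l ∈ L, c = a * (f * b * f⁻¹) * l) ∧
      PresRel.RelsL y t (c 4) f⁻¹ u⁻¹ ∧
      ∃ φ : Suz →* G, Function.Injective φ ∧ φ (PresentedGroup.of Cfsg.Spor.Suz.Gen.a) = z ∧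
        Q ≤ φ.range ∧ L ≤ φ.range ∧ f ∈ φ.range ∧ u ∈ φ.range ∧
        Subgroup.centralizer ({z} : Set G) ≤ φ.range := by
  obtain ⟨t, f, u, g, L, Λ, hc⟩ := CentIn.exists_local₂ H hy hyQ hne
  obtain ⟨c₀, κ₀, K₀⟩ := Λ.toPreT.toPre.exists_canon
  obtain ⟨j1, j2⟩ := JFinal.j_rels Λ
  obtain ⟨c, κ, K, l1, l2⟩ := PlaneRel.exists_canon Λ K₀ j1 j2
  have hR : PresRel.RelsL y t (c 4) f⁻¹ u⁻¹ :=
    { PlaneRel.plane_rels Λ K with
      j1 := j1
      j2 := by rw [inv_inv]; exact j2
      l1 := l1
      l2 := by rw [inv_inv]; exact l2 }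
  have comm_inv : ∀ l v : G, l * v = v * l → l * v⁻¹ = v⁻¹ * l := by
    intro l v h
    have : Commute l v := h
    exact this.inv_right.eq
  obtain ⟨φ, hinj, ha, hf, hg, hfm, hum, hL, hcm⟩ := SuzPresCanon.main Λ.toPreT K 4 (Or.inl rfl) hR
    (fun l hl => comm_inv _ _ (Λ.fL l hl)) (fun l hl => comm_inv _ _ (Λ.uL l hl))
  have hfm' : f ∈ φ.range := inv_mem_iff.1 hfm
  have hum' : u ∈ φ.range := inv_mem_iff.1 hum
  have hQ : Q ≤ φ.range := CentIn.Q_le Λ.toPreT.toPre K ⟨_, hf⟩ ⟨_, hg⟩ hcm
  exact ⟨t, f, u, g, L, c, κ, Λ, K, hc, hR, φ, hinj, ha, hQ, hL, hfm', hum',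
    CentIn.cent_le Λ K hc hQ hL hfm' hum'⟩

end Cfsg.Agent.SuzType.Embed
end

-- part: SuzType/Close
section
/-!
# Groups of Suzuki type: the closing argument
-/

set_option autoImplicit false

namespace Cfsg.Agent.SuzType.Close

open Cfsg.Agent.LargeExtra Cfsg.Agent.SporRec

/-- The class facts about the presented Suzuki group used to close. -/
theorem model : ClosingZStar.ModelZ Cfsg.Spor.Suz SuzCl.ia SuzCl.ie where
  zz := SuzCl.aa
  z1 := SuzCl.a_ne
  two := SuzCl.two
  comm := SuzCl.comm

/-- The Suzuki group is recognised (given the odd order theorem). -/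
theorem main {G : Type*} [Group G] [Finite G] {Q : Subgroup G} {z y g₀ : G} (H : SuzHyp Q z)
    (hy : g₀ * z * g₀⁻¹ = y) (hyQ : y ∈ Q) (hne : y ≠ z)
    (hsolv : ∀ N : Subgroup G, Odd (Nat.card N) → Group.IsSolvable N) :
    Nonempty (G ≃* Cfsg.Spor.Suz) := by
  obtain ⟨t, f, u, g', L, c, κ, -, -, -, -, φ, hinj, hz', -, -, -, -, hC⟩ :=
    Embed.exists_embedding H hy hyQ hne
  have hz'' : φ SuzCl.ia = z := hz'
  have hCz : Nat.card (Subgroup.centralizer ({φ SuzCl.ia} : Set G)) = 3317760 := by
    rw [hz'']; exact H.card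
  have hnZ : ¬ ClosingSuz.Z (φ SuzCl.ia) (φ SuzCl.ie) := by
    refine ClosingZStar.not_Z_of_comm φ hinj 7 ?_ SuzCl.u7 SuzCl.orderOf_u7 SuzCl.u7_comm
    rw [hCz]; decide
  have hcd : Nat.card Cfsg.Spor.Suz = 448345497600 := SporadicRecognition.SuzOrder.card_Suz
  have hs : Function.Surjective φ := by
    refine model.surjective φ hinj ?_ hnZ (p := 11) (q := 13) (by norm_num) (by norm_num) (by norm_num)
      ?_ ?_ ?_ ?_ ?_ ?_ hsolv ?_
    · rw [hz'']; exact hC
    · rw [hcd]; decide
    · rw [hcd]; decide
    · rw [hcd]; decide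
    · rw [hcd]; decide
    · rw [hCz]; decide
    · rw [hCz]; decide
    · exact ClosingZStar.hno_of SuzNo143.no143
  exact ⟨(MulEquiv.ofBijective φ ⟨hinj, hs⟩).symm⟩

end Cfsg.Agent.SuzType.Close
end

-- part: S1719
section
set_option autoImplicit false
open Cfsg

namespace Cfsg.Agent.S1719

/-- Uniqueness of the sporadic Suzuki group under the large-extraspecial hypothesis: let G be a finite group with an involution z whose centraliser C has generalised Fitting subgroup Q extraspecial of order 2 ^ 7, with C / Q isomorphic to Ω⁻(6, 2) (the commutator subgroup of the isometry group of the elliptic quadratic form x₁y₁ + x₂y₂ + z₁² + z₁z₂ + z₂² over the field with 2 elements), and suppose some conjugate of z different from z lies in Q. Then G is isomorphic to the presented sporadic Suzuki group. -/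
theorem result {G : Type*} [Group G] [Finite G] (z : G) (hz : orderOf z = 2) (Q : Subgroup (Subgroup.centralizer ({z} : Set G))) [Q.Normal] (hF : Cfsg.generalizedFittingSubgroup (Subgroup.centralizer ({z} : Set G)) = Q) (hQ : Cfsg.IsExtraspecial 2 Q) (hcard : Nat.card Q = 2 ^ 7) (e : (Subgroup.centralizer ({z} : Set G)) ⧸ Q ≃* Cfsg.Omega (ZMod 2) (Cfsg.quadFormMinus 2 (ZMod 2) 1 1)) (hnwc : ∃ g : G, (∃ hq : g * z * g⁻¹ ∈ Subgroup.centralizer ({z} : Set G), (⟨g * z * g⁻¹, hq⟩ : Subgroup.centralizer ({z} : Set G)) ∈ Q) ∧ g * z * g⁻¹ ≠ z) : Cfsg.Spor.IsoSuz G := by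
  have H := Cfsg.Agent.LargeExtra.SuzHyp.of_statement z hz Q hF hQ hcard e
  obtain ⟨g, ⟨hq, hgQ⟩, hne⟩ := hnwc
  have hyQ : g * z * g⁻¹ ∈ Q.map (Subgroup.centralizer ({z} : Set G)).subtype := ⟨_, hgQ, rfl⟩
  exact Cfsg.Agent.SuzType.Close.main H rfl hyQ hne fun N hN => Cfsg.Agent.S0205.result hN

end Cfsg.Agent.S1719
end

private theorem dce_fae8a97d9d59 : _root_.True := by
  try have : _root_.True := by simp only [_root_.Cfsg.Agent.LargeExtra.SuzPlane.gl.eq_7]
  try have : _root_.True := by simp only [_root_.Cfsg.Agent.LargeExtra.SuzPlane.gl.eq_3]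
  try have : _root_.True := by simp only [_root_.Cfsg.Agent.LargeExtra.SuzPlane.gl.eq_5]
  try have : _root_.True := by simp only [_root_.Cfsg.Agent.LargeExtra.SuzPlaneCert.K8.subw.eq_1]
  try have : _root_.True := by simp only [_root_.Cfsg.Agent.LargeExtra.SuzPlane.gl.eq_1]
  try have : _root_.True := by simp only [_root_.Cfsg.Agent.LargeExtra.SuzPlane.gl.eq_2]
  try have : _root_.True := by simp only [_root_.Cfsg.Agent.LargeExtra.SuzPlane.E1.eq_1]
  try have : _root_.True := by simp only [_root_.Cfsg.Agent.LargeExtra.SuzPlaneCert.rels.eq_1]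
  try have : _root_.True := by simp only [_root_.Cfsg.Agent.LargeExtra.SuzPlane.gl.eq_6]
  try have : _root_.True := by simp only [_root_.Cfsg.Agent.LargeExtra.SuzPlane.gl.eq_8]
  try have : _root_.True := by simp only [_root_.Cfsg.Agent.LargeExtra.SuzPlane.gl.eq_4]
  exact _root_.True.intro
end
end
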