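import Cfsg.Agent.ONType.FusionEx
import Cfsg.Agent.R04.EndON
import Cfsg.Agent.ONType.OuterZ
import Cfsg.Agent.SporadicRecognition.CosetCertHyp
import Mathlib
import Cfsg.Statements.S1661
import Cfsg.Agent.S1699
set_option linter.all false

-- part: ONType/GlueCheck
section
/-!
# The gluing: the kernel computation

Type II, `τ` = field times graph automorphism, `τ² = 1`.  `T₀ = C_S(x₁₃(1))` is the group of order 256.
An automorphism `θ` of `T₀` with `θ² = 1` exchanging `t = z²` and `u = x₁₃(1)` is determined by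
`p = z^θ`, `d = c^θ`, `y₁ = y^θ` where `c = x₂₃(1) x₁₃(1) t`, `y = x₁₂(ω) x₂₃(ω)`.
-/

set_option autoImplicit false
set_option linter.constructorNameAsVariable false

namespace Cfsg.Agent.ONType.GlueCheck

open Cfsg.Agent.SporadicA.FieldFour
open Cfsg.Agent.ONType.OuterM (trn)
open Cfsg.Agent.ONType.Data
open Cfsg.Agent.ONType.SGroup

/-- type II, field, graph, `z` inverted, `τ² = 1` -/
def P0 : Par := ⟨true, true, true, true, 0⟩

def trK : F4 → ℕ
  | .z => 0
  | .o => 0
  | .w => 1
  | .v => 1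

def nmK (e : Bool) (a b c : F4) (i : ℕ) (a' b' c' : F4) (j : ℕ) : Cd :=
  fF (F4.add a a') fun A => fF (F4.add b b') fun B => fF (F4.mul a' b) fun m =>
  fF (F4.add m c) fun c1 => fF (F4.add c1 c') fun C =>
  fF (F4.mul c a') fun m1 => fF (F4.mul b b) fun b2 => fF (F4.mul a' b2) fun m2 =>
  fF (F4.mul c1 b') fun m3 =>
  fZ (i + j + (2 * trK m1 + 3 * gII m2 + 2 * trK m3)) fun i => ⟨e, A, B, C, i⟩

/-- fast multiplication -/
def mK (x y : Cd) : Cd :=
  match x with
  | ⟨e, a, b, c, i⟩ =>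
    match y with
    | ⟨f, a', b', c', j⟩ =>
      match f with
      | false => nmK e a b c i a' b' c' j
      | true =>
        fF (F4.mul a a) fun a2 => fF (F4.mul b b) fun b2 => fF (F4.mul c c) fun c2 =>
        fF (F4.mul b2 a2) fun m => fF (F4.add m c2) fun c1 =>
        fF (F4.mul a2 a2) fun a4 => fF (F4.mul b2 a4) fun m4 =>
        fZ (3 * i + 3 * gII m4) fun i1 =>
        match e with
        | false => nmK true b2 a2 c1 i1 a' b' c' j
        | true => nmK false b2 a2 c1 i1 a' b' c' j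

theorem mK_eq (x y : Cd) : mK x y = mul P0 x y := by
  obtain ⟨e, a, b, c, i⟩ := x
  obtain ⟨f, a', b', c', j⟩ := y
  have ht : ∀ u : F4, trK u = trn u := by decide
  have ha : ∀ u v : F4, F4.add u v = u + v := fun _ _ => rfl
  have hm : ∀ u v : F4, F4.mul u v = u * v := fun _ _ => rfl
  have hg : gt true = gII := rfl
  cases f
  · simp only [mK, mul, nmK, nm, fF_eq, fZ_eq, ht, ha, hm, hg, P0]
  · cases e
    · simp only [mK, mul, nmK, nm, tw, fF_eq, fZ_eq, ht, ha, hm, hg, P0, if_true]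
    · simp only [mK, mul, nmK, nm, tw, fF_eq, fZ_eq, ht, ha, hm, hg, P0, if_true, adz, add_zero,
        Nat.mod_mod]

/-- equality test -/
def eqC (x y : Cd) : Bool :=
  match x with
  | ⟨e, a, b, c, i⟩ =>
    match y with
    | ⟨f, a', b', c', j⟩ =>
      match e, f with
      | true, true => Nat.beq (F4.toNat a) (F4.toNat a') && Nat.beq (F4.toNat b) (F4.toNat b') &&
          Nat.beq (F4.toNat c) (F4.toNat c') && Nat.beq i j
      | false, false => Nat.beq (F4.toNat a) (F4.toNat a') && Nat.beq (F4.toNat b) (F4.toNat b') &&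
          Nat.beq (F4.toNat c) (F4.toNat c') && Nat.beq i j
      | _, _ => false

theorem toNat_inj {a b : F4} (h : F4.toNat a = F4.toNat b) : a = b := by
  rw [← F4.ofNat_toNat a, h, F4.ofNat_toNat]

theorem eq_of_eqC {x y : Cd} (h : eqC x y = true) : x = y := by
  obtain ⟨e, a, b, c, i⟩ := x
  obtain ⟨f, a', b', c', j⟩ := y
  cases e <;> cases f <;> simp only [eqC, Bool.and_eq_true, Nat.beq_eq, Bool.false_eq_true] at h
  · obtain ⟨⟨⟨h1, h2⟩, h3⟩, h4⟩ := h
    rw [toNat_inj h1, toNat_inj h2, toNat_inj h3, h4]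
  · obtain ⟨⟨⟨h1, h2⟩, h3⟩, h4⟩ := h
    rw [toNat_inj h1, toNat_inj h2, toNat_inj h3, h4]

theorem eqC_self (x : Cd) : eqC x x = true := by
  obtain ⟨e, a, b, c, i⟩ := x
  cases e <;> simp [eqC]

theorem eqC_iff {x y : Cd} : eqC x y = true ↔ x = y :=
  ⟨eq_of_eqC, fun h => h ▸ eqC_self x⟩

/-- force a code -/
def fC {α : Type*} (x : Cd) (k : Cd → α) : α :=
  match x with
  | ⟨e, a, b, c, i⟩ => k ⟨e, a, b, c, i⟩

theorem fC_eq {α : Type*} (x : Cd) (k : Cd → α) : fC x k = k x := rfl

def one : Cd := ⟨false, .z, .z, .z, 0⟩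
def zC : Cd := ⟨false, .z, .z, .z, 1⟩
def z3 : Cd := ⟨false, .z, .z, .z, 3⟩
def tC : Cd := ⟨false, .z, .z, .z, 2⟩
def uC : Cd := ⟨false, .z, .z, .o, 0⟩
def cC : Cd := ⟨false, .z, .o, .o, 2⟩
def yC : Cd := ⟨false, .w, .w, .z, 0⟩
def dC : ℕ → Cd
  | 0 => ⟨true, .z, .z, .z, 0⟩
  | 1 => ⟨true, .z, .z, .z, 0⟩
  | _ => ⟨true, .z, .z, .z, 1⟩
def gC : ℕ → Cd
  | 0 => ⟨true, .w, .v, .v, 3⟩
  | 1 => ⟨true, .v, .w, .w, 3⟩
  | 2 => ⟨true, .w, .v, .v, 0⟩
  | _ => ⟨true, .v, .w, .w, 0⟩

def fs : List F4 := [.z, .o, .w, .v]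
def l4 : List ℕ := [0, 1, 2, 3]

/-- unipotent elements of `T₀` -/
def U0L : List (F4 × F4) := [(.z, .z), (.z, .o), (.o, .z), (.o, .o), (.w, .w), (.w, .v), (.v, .w), (.v, .v)]

/-- all of the codes of `T₀` satisfy `f` -/
def allT (f : Cd → Bool) : Bool :=
  [false, true].all fun e => U0L.all fun ab => fs.all fun c => l4.all fun i =>
    f ⟨e, ab.1, ab.2, c, i⟩

/-- membership in `T₀` -/
def inT (x : Cd) : Prop := trK x.a = trK x.b ∧ x.i < 4

instance (x : Cd) : Decidable (inT x) := by unfold inT; infer_instance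

theorem mem_U0L : ∀ a b : F4, trK a = trK b → (a, b) ∈ U0L := by decide

theorem mem_fs : ∀ a : F4, a ∈ fs := by decide

theorem mem_l4 {i : ℕ} (hi : i < 4) : i ∈ l4 := by
  unfold l4
  interval_cases i <;> decide

theorem allT_spec {f : Cd → Bool} (h : allT f = true) (x : Cd) (hx : inT x) : f x = true := by
  obtain ⟨e, a, b, c, i⟩ := x
  obtain ⟨hab, hi⟩ := hx
  simp only at hab hi
  unfold allT at h
  rw [List.all_eq_true] at h
  have h1 := h e (by cases e <;> simp)
  rw [List.all_eq_true] at h1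
  have h2 := h1 (a, b) (mem_U0L a b hab)
  rw [List.all_eq_true] at h2
  have h3 := h2 c (mem_fs c)
  rw [List.all_eq_true] at h3
  exact h3 i (mem_l4 hi)

def pw (x : Cd) (n : ℕ) : Cd :=
  match n with
  | 0 => one
  | 1 => x
  | 2 => mK x x
  | _ => fC (mK x x) fun y => mK x y

def fstBit : F4 → ℕ
  | .z => 0
  | .o => 1
  | .w => 0
  | .v => 1
def sndBit : F4 → ℕ
  | .z => 0
  | .o => 0
  | .w => 1
  | .v => 1

/-- `θ` on `J = ⟨z, p, y⟩` -/
def thJ (p y1 x : Cd) : Option Cd :=
  fZ (fstBit x.a) fun j0 => fZ (sndBit x.a) fun k0 =>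
  fC (pw p j0) fun pj => fC (pw yC k0) fun yk => fC (mK pj yk) fun q => fC (pw q 3) fun q3 =>
  fC (mK x q3) fun v =>
  fZ (k0 + 2 * sndBit v.c) fun k => fZ (j0 + 2 * (fstBit v.c + sndBit v.c)) fun j =>
  fC (pw p j) fun pj => fC (pw yC k) fun yk => fC (mK pj yk) fun q => fC (pw q 3) fun q3 =>
  fC (mK x q3) fun r => fZ r.i fun i => fC (pw zC i) fun zi =>
  match eqC (mK zi q) x with
  | true => fC (pw p i) fun a => fC (pw zC j) fun b => fC (pw y1 k) fun c =>
      fC (mK b c) fun bc => some (mK a bc)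
  | false => none

def sel (d x : Cd) : Cd :=
  match x.e with
  | true => mK d x
  | false => x

def selc (e : Bool) (r : Cd) : Cd :=
  match e with
  | true => mK cC r
  | false => r

/-- `θ` on `T₀` -/
def th (p d y1 x : Cd) : Option Cd :=
  fC (sel d x) fun v =>
  match Nat.beq (F4.toNat v.a) (F4.toNat v.b) with
  | true =>
    match thJ p y1 v with
    | some r => fC r fun r => some (selc x.e r)
    | none => none
  | false =>
    fC (mK cC v) fun w =>
    match thJ p y1 w with
    | some r => fC r fun r => fC (mK d r) fun dr => some (selc x.e dr)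
    | none => none

/-- the action of the torus element on `J` -/
def hK (x : Cd) : Cd :=
  match x with
  | ⟨_, a, _, c, i⟩ => fF (F4.mul .w a) fun a => fF (F4.mul .v c) fun c => ⟨false, a, a, c, i⟩

/-- membership in `J` -/
def inJ (x : Cd) : Bool :=
  match x with
  | ⟨false, a, b, _, _⟩ => Nat.beq (F4.toNat a) (F4.toNat b)
  | _ => false

/-- one step `θ` then `h` on `J` -/
def stp (p y1 : Cd) (x : Option Cd) : Option Cd :=
  match x with
  | some x =>
    match thJ p y1 x with
    | some r => fC r fun r =>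
      match inJ r with
      | true => fC (hK r) fun r => some r
      | false => none
    | none => none
  | none => none

def stp7 (p y1 x : Cd) : Option Cd :=
  stp p y1 (stp p y1 (stp p y1 (stp p y1 (stp p y1 (stp p y1 (stp p y1 (some x)))))))

/-- equality test for the value of a partial function -/
def isS (o : Option Cd) (x : Cd) : Bool :=
  match o with
  | some y => eqC y x
  | none => false

theorem isS_iff {o : Option Cd} {x : Cd} : isS o x = true ↔ o = some x := by
  cases o with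
  | none => simp [isS]
  | some y => simp [isS, eqC_iff]

/-- the bad case: `(θ h)^7` centralises `t`, `u` but does not normalise `⟨z⟩` -/
def bad (p y1 : Cd) : Bool :=
  isS (stp7 p y1 tC) tC && isS (stp7 p y1 uC) uC &&
    (match stp7 p y1 zC with
     | some r => fC r fun r => !eqC r zC && !eqC r z3
     | none => false)

/-- conjugation `x⁻¹ a x` for `x` with inverse `x'` -/
def cj (x' a x : Cd) : Cd := fC (mK a x) fun w => mK x' w

/-- the seventh power (inverse) -/
def p7 (x : Cd) : Cd :=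
  fC (mK x x) fun x2 => fC (mK x2 x2) fun x4 => fC (mK x4 x2) fun x6 => mK x6 x

/-- pairs `(x, x⁻¹)` -/
def xs : List (Cd × Cd) := [⟨false, .z, .z, .z, 0⟩, ⟨false, .z, .z, .z, 1⟩, ⟨false, .z, .o, .z, 0⟩,
  ⟨false, .z, .o, .z, 1⟩, ⟨false, .w, .w, .z, 0⟩, ⟨false, .w, .w, .z, 1⟩, ⟨false, .w, .v, .z, 0⟩,
  ⟨false, .w, .v, .z, 1⟩].map fun x => (x, p7 x)

def good (p d y1 : Cd) : Bool :=
  xs.any fun xx => fC xx.1 fun x => fC xx.2 fun x' => l4.any fun i =>
    fC (dC i) fun di => fC (gC i) fun gi => eqC (mK x x') one &&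
    isS (th p d y1 (cj x' cC x)) (cj x' di x) && isS (th p d y1 (cj x' gi x)) (cj x' gi x)

def gens : List Cd := [⟨true, .z, .z, .z, 0⟩, ⟨false, .o, .z, .z, 0⟩, ⟨false, .w, .w, .z, 0⟩,
  ⟨false, .z, .z, .w, 0⟩]

/-- conditions for `p` -/
def c1 (p : Cd) : Bool :=
  eqC (mK p p) uC && gens.all fun k =>
    fC (mK p k) fun pk => eqC pk (mK k p) || fC (pw p 3) fun p3 => eqC pk (mK k p3)

/-- conditions for `d` -/
def c2 (p d : Cd) : Bool :=
  eqC (mK d d) one && eqC (mK d p) (mK p d) && eqC (mK zC d) (mK d z3)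

/-- equality test for the value of a partial function; true if undefined -/
def isN (o : Option Cd) (x : Cd) : Bool :=
  match o with
  | some y => eqC y x
  | none => true

theorem isN_of {o : Option Cd} {x : Cd} (h : ∀ y, o = some y → y = x) : isN o x = true := by
  cases o with
  | none => rfl
  | some y => exact eqC_iff.mpr (h y rfl)

/-- conditions for `y₁` -/
def c3 (p d y1 : Cd) : Bool :=
  eqC (mK y1 p) (mK p y1) && eqC (mK y1 zC) (mK zC y1) && isN (thJ p y1 y1) yC &&
  (fC (pw y1 3) fun y3 => fC (mK y3 tC) fun w => fC (mK w p) fun w => eqC (mK y1 d) (mK d w)) &&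
  (fC (mK cC d) fun cd => fC (mK cd cd) fun w => fC (mK d cC) fun dc => isN (thJ p y1 w) (mK dc dc))

def main (p d : Cd) : Bool :=
  allT fun y1 => !c3 p d y1 || (bad p y1 || good p d y1)

set_option maxRecDepth 100000 in
/-- **The kernel computation**: all the involutory automorphisms of `T₀` exchanging `t` and `u`. -/
theorem main_check :
    (allT fun p => !c1 p || allT fun d => !c2 p d || main p d) = true := by decide +kernel

/-- `T₀` normalises `⟨z⟩` -/
theorem norm_z : (allT fun k => eqC (mK zC k) (mK k zC) || eqC (mK zC k) (mK k z3)) = true := by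
  decide +kernel

/-- `t` and `u` are central in `T₀` -/
theorem cent_tu : (allT fun k => eqC (mK tC k) (mK k tC) && eqC (mK uC k) (mK k uC)) = true := by
  decide +kernel

/-- `p` commutes with `y` -/
theorem comm_p : (allT fun p => !c1 p || eqC (mK yC p) (mK p yC)) = true := by decide +kernel

/-- `c` inverts `p` -/
theorem inv_p : (allT fun p => !c1 p || eqC (mK p cC) (mK cC (pw p 3))) = true := by decide +kernel

theorem inT_mK {x y : Cd} (hx : inT x) (hy : inT y) : inT (mK x y) := by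
  obtain ⟨e, a, b, c, i⟩ := x
  obtain ⟨f, a', b', c', j⟩ := y
  obtain ⟨h1, -⟩ := hx
  obtain ⟨h2, -⟩ := hy
  have hm : ∀ n : ℕ, n % 4 < 4 := fun n => Nat.mod_lt n (by decide)
  simp only at h1 h2
  cases f
  · refine ⟨?_, ?_⟩
    · simp only [mK, nmK, fF_eq, fZ_eq]
      revert h1 h2; revert a b a' b'; decide
    · simp only [mK, nmK, fF_eq, fZ_eq]; exact hm _
  · cases e
    · refine ⟨?_, ?_⟩
      · simp only [mK, nmK, fF_eq, fZ_eq]
        revert h1 h2; revert a b a' b'; decide
      · simp only [mK, nmK, fF_eq, fZ_eq]; exact hm _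
    · refine ⟨?_, ?_⟩
      · simp only [mK, nmK, fF_eq, fZ_eq]
        revert h1 h2; revert a b a' b'; decide
      · simp only [mK, nmK, fF_eq, fZ_eq]; exact hm _

end Cfsg.Agent.ONType.GlueCheck
end

-- part: ONType/Glue
section
/-!
# The gluing: from an element exchanging `t` and `u` to an involution `θ` with `c ↔ d`, `g` fixed
-/

set_option autoImplicit false
set_option linter.constructorNameAsVariable false

namespace Cfsg.Agent.ONType.Glue

open Cfsg.Agent.SporadicA.FieldFour
open Cfsg.Agent.ONType.Data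
open Cfsg.Agent.ONType.SGroup
open Cfsg.Agent.ONType.GlueCheck

/-- `T₀ = C(t) ∩ C(u)` by codes -/
structure TData {G : Type*} [Group G] (E : Cd → G) (h : G) : Prop where
  mul : ∀ k l, E (mul P0 k l) = E k * E l
  inj : ∀ k l, inT k → inT l → E k = E l → k = l
  mem : ∀ g : G, g * E tC = E tC * g → g * E uC = E uC * g → ∃ k, inT k ∧ E k = g
  hJ : ∀ (a c : F4) (i : ℕ), h⁻¹ * E ⟨false, a, a, c, i⟩ * h = E ⟨false, .w * a, .w * a, .v * c, i⟩

section
variable {G : Type*} [Group G] {E : Cd → G} {h : G}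

/-- conjugation -/
def cg (θ g : G) : G := θ⁻¹ * g * θ

theorem cg_mul (θ a b : G) : cg θ (a * b) = cg θ a * cg θ b := by unfold cg; group

theorem cg_one (θ : G) : cg θ 1 = 1 := by unfold cg; group

theorem cg_cg {θ : G} (h2 : θ * θ = 1) (a : G) : cg θ (cg θ a) = a := by
  have : cg θ (cg θ a) = (θ * θ)⁻¹ * a * (θ * θ) := by unfold cg; group
  rw [this, h2]; group

theorem cg_comp (θ η a : G) : cg η (cg θ a) = cg (θ * η) a := by unfold cg; group

theorem TData.mK (D : TData E h) (k l : Cd) : E (mK k l) = E k * E l := by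
  rw [mK_eq]; exact D.mul k l

theorem TData.one (D : TData E h) : E GlueCheck.one = 1 := by
  have h1 : E (GlueCheck.mK GlueCheck.one GlueCheck.one) = E GlueCheck.one * E GlueCheck.one :=
    D.mK _ _
  have h2 : GlueCheck.mK GlueCheck.one GlueCheck.one = GlueCheck.one := by decide
  rw [h2] at h1
  exact (mul_eq_left.mp h1.symm)

theorem inT_one : inT one := ⟨rfl, by decide⟩

theorem inT_pw {x : Cd} (hx : inT x) (n : ℕ) : inT (pw x n) := by
  match n with
  | 0 => exact inT_one
  | 1 => exact hx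
  | 2 => exact inT_mK hx hx
  | n + 3 =>
    show inT (fC (mK x x) fun y => mK x y)
    rw [fC_eq]
    exact inT_mK hx (inT_mK hx hx)

theorem pw_three (x : Cd) : pw x 3 = mK x (mK x x) := rfl

theorem pw_big (x : Cd) (n : ℕ) : pw x (n + 3) = mK x (mK x x) := rfl

/-- transport of words: `pw` -/
theorem TData.cg_pw (D : TData E h) {θ : G} {a a' : Cd} (ha : cg θ (E a) = E a') (n : ℕ) :
    cg θ (E (pw a n)) = E (pw a' n) := by
  match n with
  | 0 => show cg θ (E GlueCheck.one) = E GlueCheck.one; rw [D.one, cg_one]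
  | 1 => exact ha
  | 2 => show cg θ (E (GlueCheck.mK a a)) = E (GlueCheck.mK a' a')
         rw [D.mK, D.mK, cg_mul, ha]
  | n + 3 => rw [pw_big, pw_big, D.mK, D.mK, D.mK, D.mK, cg_mul, cg_mul, ha]

/-- the data of an involution exchanging `t` and `u` -/
structure Inv (E : Cd → G) (θ : G) (p d y1 : Cd) : Prop where
  sq : θ * θ = 1
  hp : inT p
  hd : inT d
  hy : inT y1
  ez : cg θ (E zC) = E p
  ec : cg θ (E cC) = E d
  ey : cg θ (E yC) = E y1

variable {θ : G} {p d y1 : Cd}

theorem Inv.ez' (I : Inv E θ p d y1) : cg θ (E p) = E zC := by rw [← I.ez, cg_cg I.sq]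
theorem Inv.ec' (I : Inv E θ p d y1) : cg θ (E d) = E cC := by rw [← I.ec, cg_cg I.sq]
theorem Inv.ey' (I : Inv E θ p d y1) : cg θ (E y1) = E yC := by rw [← I.ey, cg_cg I.sq]

theorem inT_zC : inT zC := ⟨rfl, by decide⟩
theorem inT_z3 : inT z3 := ⟨rfl, by decide⟩
theorem inT_tC : inT tC := ⟨rfl, by decide⟩
theorem inT_uC : inT uC := ⟨rfl, by decide⟩
theorem inT_cC : inT cC := ⟨rfl, by decide⟩
theorem inT_yC : inT yC := ⟨rfl, by decide⟩

theorem inT_dC (i : ℕ) : inT (dC i) := by
  match i with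
  | 0 => exact ⟨rfl, by decide⟩
  | 1 => exact ⟨rfl, by decide⟩
  | n + 2 => exact ⟨rfl, by show 1 < 4; decide⟩

theorem inT_gC (i : ℕ) : inT (gC i) := by
  match i with
  | 0 => exact ⟨rfl, by decide⟩
  | 1 => exact ⟨rfl, by decide⟩
  | 2 => exact ⟨rfl, by decide⟩
  | n + 3 => exact ⟨rfl, by show 0 < 4; decide⟩

/-- soundness of `thJ` -/
theorem thJ_sound (D : TData E h) (I : Inv E θ p d y1) {x r : Cd} (hr : thJ p y1 x = some r) :
    cg θ (E x) = E r ∧ inT r := by
  unfold thJ at hr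
  simp only [fZ_eq, fC_eq] at hr
  split at hr
  · rename_i heq
    have hx := eq_of_eqC heq
    have hr' := Option.some.inj hr
    rw [← hx, ← hr']
    refine ⟨?_, ?_⟩
    · rw [D.mK, D.mK, D.mK, D.mK, cg_mul, cg_mul, D.cg_pw I.ez, D.cg_pw I.ez', D.cg_pw I.ey]
    · exact inT_mK (inT_pw I.hp _) (inT_mK (inT_pw inT_zC _) (inT_pw I.hy _))
  · exact absurd hr (by simp)

/-- soundness of `th` -/
theorem th_sound (D : TData E h) (I : Inv E θ p d y1) (hdd : E d * E d = 1) {x r : Cd}
    (hr : th p d y1 x = some r) : cg θ (E x) = E r := by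
  have hcc : E cC * E cC = 1 := by
    rw [← D.mK, (by decide : mK cC cC = one), D.one]
  unfold th at hr
  simp only [fC_eq] at hr
  -- the value of `v`
  have key : ∀ r', cg θ (E (sel d x)) = E r' → cg θ (E x) = E (selc x.e r') := by
    intro r' h1
    unfold sel at h1
    unfold selc
    cases hx : x.e
    · rw [hx] at h1
      exact h1
    · rw [hx] at h1
      simp only at h1 ⊢
      rw [D.mK, ← h1, D.mK, cg_mul, I.ec', ← mul_assoc, hcc, one_mul]
  split at hr
  · split at hr
    · rename_i r' h1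
      rw [key r' (thJ_sound D I h1).1, Option.some.inj hr]
    · exact absurd hr (by simp)
  · split at hr
    · rename_i r' h1
      have h3 := (thJ_sound D I h1).1
      rw [D.mK, cg_mul, I.ec] at h3
      rw [key (mK d r') (by rw [D.mK, ← h3, ← mul_assoc, hdd, one_mul]), Option.some.inj hr]
    · exact absurd hr (by simp)

theorem inT_hK {x : Cd} (hx : inT x) : inT (hK x) := by
  obtain ⟨e, a, b, c, i⟩ := x
  simp only [hK, fF_eq]
  exact ⟨rfl, hx.2⟩

theorem hK_sound (D : TData E h) {x : Cd} (hx : inJ x = true) : cg h (E x) = E (hK x) := by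
  obtain ⟨e, a, b, c, i⟩ := x
  cases e
  · have hab : a = b := toNat_inj (Nat.eq_of_beq_eq_true hx)
    subst hab
    simp only [hK, fF_eq]
    exact D.hJ a c i
  · exact absurd hx (by simp [inJ])

theorem stp_sound (D : TData E h) (I : Inv E θ p d y1) {x : Option Cd} {r : Cd}
    (hr : stp p y1 x = some r) : ∃ a, x = some a ∧ cg (θ * h) (E a) = E r ∧ inT r := by
  unfold stp at hr
  split at hr
  · rename_i a
    refine ⟨a, rfl, ?_⟩
    split at hr
    · rename_i r' h1
      simp only [fC_eq] at hr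
      split at hr
      · rename_i h2
        have h3 := thJ_sound D I h1
        have h4 := hK_sound D h2
        rw [← Option.some.inj hr]
        exact ⟨by rw [← cg_comp, h3.1, h4], inT_hK h3.2⟩
      · exact absurd hr (by simp)
    · exact absurd hr (by simp)
  · exact absurd hr (by simp)

theorem stp7_sound (D : TData E h) (I : Inv E θ p d y1) {x r : Cd}
    (hr : stp7 p y1 x = some r) : cg ((θ * h) ^ 7) (E x) = E r ∧ inT r := by
  unfold stp7 at hr
  obtain ⟨a6, h6, e6, i6⟩ := stp_sound D I hr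
  obtain ⟨a5, h5, e5, -⟩ := stp_sound D I h6
  obtain ⟨a4, h4, e4, -⟩ := stp_sound D I h5
  obtain ⟨a3, h3, e3, -⟩ := stp_sound D I h4
  obtain ⟨a2, h2, e2, -⟩ := stp_sound D I h3
  obtain ⟨a1, h1, e1, -⟩ := stp_sound D I h2
  obtain ⟨a0, h0, e0, -⟩ := stp_sound D I h1
  rw [Option.some.inj h0]
  refine ⟨?_, i6⟩
  rw [← e6, ← e5, ← e4, ← e3, ← e2, ← e1, ← e0]
  simp only [cg_comp]
  congr 1
  simp only [pow_succ, pow_zero, one_mul]

theorem norm_z' (D : TData E h) {k : Cd} (hk : inT k) :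
    E zC * E k = E k * E zC ∨ E zC * E k = E k * E z3 := by
  have := allT_spec norm_z k hk
  rw [Bool.or_eq_true] at this
  rcases this with h1 | h1
  · left; rw [← D.mK, ← D.mK, eq_of_eqC h1]
  · right; rw [← D.mK, ← D.mK, eq_of_eqC h1]

theorem cent_tu' (D : TData E h) {k : Cd} (hk : inT k) :
    E tC * E k = E k * E tC ∧ E uC * E k = E k * E uC := by
  have := allT_spec cent_tu k hk
  rw [Bool.and_eq_true] at this
  exact ⟨by rw [← D.mK, ← D.mK, eq_of_eqC this.1], by rw [← D.mK, ← D.mK, eq_of_eqC this.2]⟩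

/-- the bad case is impossible -/
theorem not_bad (D : TData E h) (I : Inv E θ p d y1) : bad p y1 = false := by
  by_contra hb
  rw [Bool.not_eq_false] at hb
  unfold bad at hb
  rw [Bool.and_eq_true, Bool.and_eq_true] at hb
  obtain ⟨⟨h1, h2⟩, h3⟩ := hb
  rw [isS_iff] at h1 h2
  split at h3
  · rename_i r hr
    simp only [fC_eq, Bool.and_eq_true, Bool.not_eq_true'] at h3
    obtain ⟨h3, h4⟩ := h3
    have e1 := (stp7_sound D I h1).1
    have e2 := (stp7_sound D I h2).1
    obtain ⟨e3, i3⟩ := stp7_sound D I hr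
    set x := (θ * h) ^ 7
    have cm : ∀ a b : G, cg x a = b → a * x = x * b := fun a b hab => by
      rw [← hab]; unfold cg; group
    obtain ⟨k, hk, hkx⟩ := D.mem x (cm _ _ e1).symm (cm _ _ e2).symm
    have e4 := cm _ _ e3
    rw [← hkx] at e4
    rcases norm_z' D hk with h5 | h5
    · rw [h5] at e4
      have := D.inj _ _ inT_zC i3 (mul_left_cancel e4)
      rw [← this, eqC_self] at h3
      exact absurd h3 (by simp)
    · rw [h5] at e4
      have := D.inj _ _ inT_z3 i3 (mul_left_cancel e4)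
      rw [← this, eqC_self] at h4
      exact absurd h4 (by simp)
  · exact absurd h3 (by simp)

/-- the conditions hold for an actual involution -/
theorem conds (D : TData E h) (I : Inv E θ p d y1) (ht : cg θ (E tC) = E uC) :
    c1 p = true ∧ c2 p d = true ∧ c3 p d y1 = true := by
  have hut : cg θ (E uC) = E tC := by rw [← ht, cg_cg I.sq]
  -- images of codes
  have img : ∀ k, inT k → ∃ k', inT k' ∧ cg θ (E k') = E k := by
    intro k hk
    obtain ⟨h1, h2⟩ := cent_tu' D hk
    have g1 : cg θ (E k) * E tC = E tC * cg θ (E k) := by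
      rw [← hut, ← cg_mul, ← cg_mul, h2]
    have g2 : cg θ (E k) * E uC = E uC * cg θ (E k) := by
      rw [← ht, ← cg_mul, ← cg_mul, h1]
    obtain ⟨k', hk', e'⟩ := D.mem _ g1 g2
    exact ⟨k', hk', by rw [e', cg_cg I.sq]⟩
  have hz3 : E z3 = E (pw zC 3) := by rw [(by decide : pw zC 3 = z3)]
  have ez3 : cg θ (E z3) = E (pw p 3) := by rw [hz3]; exact D.cg_pw I.ez 3
  have hc1 : c1 p = true := by
    unfold c1
    rw [Bool.and_eq_true]
    constructor
    · rw [eqC_iff]
      apply D.inj _ _ (inT_mK I.hp I.hp) inT_uC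
      rw [D.mK, ← I.ez, ← cg_mul, ← D.mK, (by decide : mK zC zC = tC), ht]
    · rw [List.all_eq_true]
      intro k hk
      have hkT : inT k := by
        simp only [gens, List.mem_cons, List.not_mem_nil, or_false] at hk
        rcases hk with rfl | rfl | rfl | rfl <;> exact ⟨rfl, by decide⟩
      obtain ⟨k', hk', e'⟩ := img k hkT
      simp only [fC_eq, Bool.or_eq_true]
      rcases norm_z' D hk' with h5 | h5
      · left
        rw [eqC_iff]
        apply D.inj _ _ (inT_mK I.hp hkT) (inT_mK hkT I.hp)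
        rw [D.mK, D.mK, ← I.ez, ← e', ← cg_mul, ← cg_mul, h5]
      · right
        rw [eqC_iff]
        apply D.inj _ _ (inT_mK I.hp hkT) (inT_mK hkT (inT_pw I.hp 3))
        rw [D.mK, D.mK, ← ez3, ← I.ez, ← e', ← cg_mul, ← cg_mul, h5]
  have hpc : E p * E cC = E cC * E (pw p 3) := by
    have := allT_spec inv_p p I.hp
    rw [hc1, Bool.not_true, Bool.false_or] at this
    rw [← D.mK, ← D.mK, eq_of_eqC this]
  have hpy : E yC * E p = E p * E yC := by
    have := allT_spec comm_p p I.hp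
    rw [hc1, Bool.not_true, Bool.false_or] at this
    rw [← D.mK, ← D.mK, eq_of_eqC this]
  have hc2 : c2 p d = true := by
    unfold c2
    rw [Bool.and_eq_true, Bool.and_eq_true, eqC_iff, eqC_iff, eqC_iff]
    refine ⟨⟨?_, ?_⟩, ?_⟩
    · apply D.inj _ _ (inT_mK I.hd I.hd) inT_one
      rw [D.mK, ← I.ec, ← cg_mul, ← D.mK, (by decide : mK cC cC = one), D.one, cg_one]
    · apply D.inj _ _ (inT_mK I.hd I.hp) (inT_mK I.hp I.hd)
      rw [D.mK, D.mK, ← I.ec, ← I.ez, ← cg_mul, ← cg_mul, ← D.mK, ← D.mK,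
        (by decide : mK cC zC = mK zC cC)]
    · apply D.inj _ _ (inT_mK inT_zC I.hd) (inT_mK I.hd inT_z3)
      rw [D.mK, D.mK, ← I.ec, hz3, ← D.cg_pw I.ez' 3, ← cg_mul, ← hpc, cg_mul, I.ez']
  refine ⟨hc1, hc2, ?_⟩
  have hdd : E d * E d = 1 := by
    rw [← I.ec, ← cg_mul, ← D.mK, (by decide : mK cC cC = one), D.one, cg_one]
  unfold c3
  simp only [fC_eq, Bool.and_eq_true]
  refine ⟨⟨⟨⟨?_, ?_⟩, ?_⟩, ?_⟩, ?_⟩
  · rw [eqC_iff]
    apply D.inj _ _ (inT_mK I.hy I.hp) (inT_mK I.hp I.hy)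
    rw [D.mK, D.mK, ← I.ey, ← I.ez, ← cg_mul, ← cg_mul, ← D.mK, ← D.mK,
      (by decide : mK yC zC = mK zC yC)]
  · rw [eqC_iff]
    apply D.inj _ _ (inT_mK I.hy inT_zC) (inT_mK inT_zC I.hy)
    rw [D.mK, D.mK, ← I.ey, ← I.ez', ← cg_mul, ← cg_mul, hpy]
  · apply isN_of
    intro r hr
    obtain ⟨e1, i1⟩ := thJ_sound D I hr
    apply D.inj _ _ i1 inT_yC
    rw [← e1, I.ey']
  · rw [eqC_iff]
    apply D.inj _ _ (inT_mK I.hy I.hd)
      (inT_mK I.hd (inT_mK (inT_mK (inT_pw I.hy 3) inT_tC) I.hp))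
    have e1 : mK yC cC = mK cC (mK (mK (pw yC 3) uC) zC) := by decide
    rw [D.mK, D.mK, D.mK, D.mK, ← D.cg_pw I.ey 3, ← hut, ← I.ey, ← I.ec, ← I.ez, ← cg_mul,
      ← cg_mul, ← cg_mul, ← cg_mul, ← D.mK, ← D.mK, ← D.mK, ← D.mK, e1]
  · apply isN_of
    intro r hr
    obtain ⟨e1, i1⟩ := thJ_sound D I hr
    apply D.inj _ _ i1
      (inT_mK (inT_mK I.hd inT_cC) (inT_mK I.hd inT_cC))
    rw [← e1]
    simp only [D.mK, cg_mul, I.ec, I.ec']

/-- **The gluing.** -/
theorem exists_theta (D : TData E h) (n : G) (hn1 : cg n (E tC) = E uC) (hn2 : cg n (E uC) = E tC) :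
    ∃ (θ : G) (i : ℕ), i < 4 ∧ θ * θ = 1 ∧ cg θ (E tC) = E uC ∧ cg θ (E cC) = E (dC i) ∧
      cg θ (E (gC i)) = E (gC i) := by
  -- the involution
  set s : Cd := ⟨false, .w, .z, .z, 0⟩ with hs
  have hss : E s * E s = 1 := by rw [← D.mK, (by decide : mK s s = GlueCheck.one), D.one]
  have hst : cg (E s) (E tC) = E tC := by
    have : E tC * E s = E s * E tC := by rw [← D.mK, ← D.mK, (by decide : mK tC s = mK s tC)]
    unfold cg; rw [mul_assoc, this]; group
  have hsu : cg (E s) (E uC) = E uC * E tC := by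
    have : E uC * E s = E s * (E uC * E tC) := by
      rw [← D.mK, ← D.mK, ← D.mK, (by decide : mK uC s = mK s (mK uC tC))]
    unfold cg; rw [mul_assoc, this]; group
  set ρ := n * E s with hρ
  set θ := ρ⁻¹ * E s * ρ with hθ
  have hθ2 : θ * θ = 1 := by
    have : θ * θ = ρ⁻¹ * (E s * E s) * ρ := by rw [hθ]; group
    rw [this, hss]; group
  have r1 : cg ρ (E tC) = E uC * E tC := by rw [hρ, ← cg_comp, hn1, hsu]
  have r2 : cg ρ (E uC) = E tC := by rw [hρ, ← cg_comp, hn2, hst]
  have r3 : cg ρ (E uC * E tC) = E uC := by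
    rw [cg_mul, r1, r2]
    have h1 : E tC * E uC = E uC * E tC := by rw [← D.mK, ← D.mK, (by decide : mK tC uC = mK uC tC)]
    have h2 : E tC * E tC = 1 := by rw [← D.mK, (by decide : mK tC tC = GlueCheck.one), D.one]
    rw [← mul_assoc, h1, mul_assoc, h2, mul_one]
  have hθt : cg θ (E tC) = E uC := by
    have e1 : E tC = cg ρ (E uC) := r2.symm
    have e2 : cg θ (cg ρ (E uC)) = cg ρ (cg (E s) (E uC)) := by rw [hθ]; unfold cg; group
    rw [e1, e2, hsu, r3]
  have hθu : cg θ (E uC) = E tC := by rw [← hθt, cg_cg hθ2]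
  -- the images
  have img : ∀ k, inT k → ∃ k', inT k' ∧ cg θ (E k) = E k' := by
    intro k hk
    obtain ⟨h1, h2⟩ := cent_tu' D hk
    have g1 : cg θ (E k) * E tC = E tC * cg θ (E k) := by
      rw [← hθu, ← cg_mul, ← cg_mul, h2]
    have g2 : cg θ (E k) * E uC = E uC * cg θ (E k) := by
      rw [← hθt, ← cg_mul, ← cg_mul, h1]
    obtain ⟨k', hk', e'⟩ := D.mem _ g1 g2
    exact ⟨k', hk', e'.symm⟩
  obtain ⟨p, hp, ep⟩ := img zC inT_zC
  obtain ⟨d, hd, ed⟩ := img cC inT_cC
  obtain ⟨y1, hy, ey⟩ := img yC inT_yC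
  have I : Inv E θ p d y1 := ⟨hθ2, hp, hd, hy, ep, ed, ey⟩
  obtain ⟨k1, k2, k3⟩ := conds D I hθt
  have m1 := allT_spec main_check p hp
  simp only [k1, Bool.not_true, Bool.false_or] at m1
  have m2 := allT_spec m1 d hd
  simp only [k2, Bool.not_true, Bool.false_or] at m2
  have m3 := allT_spec m2 y1 hy
  simp only [k3, Bool.not_true, Bool.false_or, not_bad D I] at m3
  have hdd : E d * E d = 1 := by
    rw [← ed, ← cg_mul, ← D.mK, (by decide : mK cC cC = GlueCheck.one), D.one, cg_one]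
  unfold good at m3
  rw [List.any_eq_true] at m3
  obtain ⟨⟨x, x'⟩, hxx, m4⟩ := m3
  simp only [fC_eq] at m4
  rw [List.any_eq_true] at m4
  obtain ⟨i, hi, m5⟩ := m4
  rw [Bool.and_eq_true, Bool.and_eq_true, eqC_iff, isS_iff, isS_iff] at m5
  obtain ⟨⟨m6, m7⟩, m8⟩ := m5
  have hi4 : i < 4 := by
    simp only [l4, List.mem_cons, List.not_mem_nil, or_false] at hi
    omega
  have ex' : E x' = (E x)⁻¹ :=
    eq_inv_of_mul_eq_one_right (by rw [← D.mK, m6, D.one])
  have ecj : ∀ a, E (cj x' a x) = cg (E x) (E a) := by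
    intro a
    unfold cj
    rw [fC_eq, D.mK, D.mK, ex', ← mul_assoc]; rfl
  have q7 := th_sound D I hdd m7
  have q8 := th_sound D I hdd m8
  simp only [ecj] at q7 q8
  have hxT : inT x := (by decide : ∀ q ∈ xs, inT q.1) _ hxx
  obtain ⟨ct, cu⟩ := cent_tu' D hxT
  have back : ∀ a b : G, cg θ (cg (E x) a) = cg (E x) b → cg (E x * θ * (E x)⁻¹) a = b := by
    intro a b hab
    have : cg (E x * θ * (E x)⁻¹) a = cg (E x)⁻¹ (cg θ (cg (E x) a)) := by unfold cg; group
    rw [this, hab]; unfold cg; group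
  refine ⟨E x * θ * (E x)⁻¹, i, hi4, ?_, back _ _ ?_, back _ _ q7, back _ _ q8⟩
  · have : E x * θ * (E x)⁻¹ * (E x * θ * (E x)⁻¹) = E x * (θ * θ) * (E x)⁻¹ := by group
    rw [this, hθ2]; group
  · have e1 : cg (E x) (E tC) = E tC := by unfold cg; rw [mul_assoc, ct]; group
    have e2 : cg (E x) (E uC) = E uC := by unfold cg; rw [mul_assoc, cu]; group
    rw [e1, e2, hθt]

end

end Cfsg.Agent.ONType.Glue
end

-- part: ONType/GlueOut
section
/-!
# The gluing: output in the form used for the presentation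
-/

set_option autoImplicit false
set_option linter.constructorNameAsVariable false

namespace Cfsg.Agent.ONType.GlueOut

open Cfsg.Agent.SporadicA.FieldFour
open Cfsg.Agent.ONType.Data
open Cfsg.Agent.ONType.SGroup
open Cfsg.Agent.ONType.GlueCheck
open Cfsg.Agent.ONType.Glue
open Cfsg.Agent.ONType.Hom

theorem RelF.map' {G H : Type*} [Group G] [Group H] {a b c d f g : G} (R : RelF a b c d f g)
    (φ : G →* H) : RelF (φ a) (φ b) (φ c) (φ d) (φ f) (φ g) where
  aa := by rw [← map_mul, R.aa, map_one]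
  bb := by rw [← map_mul, R.bb, map_one]
  cc := by rw [← map_mul, R.cc, map_one]
  dd := by rw [← map_mul, R.dd, map_one]
  ff := by rw [← map_mul, R.ff, map_one]
  ab := by rw [← map_mul, ← map_pow, R.ab, map_one]
  bc := by rw [← map_mul, ← map_pow, R.bc, map_one]
  cd := by rw [← map_mul, ← map_pow, R.cd, map_one]
  ac := by rw [← map_mul, R.ac, map_mul]
  ad := by rw [← map_mul, R.ad, map_mul]
  af := by rw [← map_mul, R.af, map_mul]
  bd := by rw [← map_mul, R.bd, map_mul]
  bf := by rw [← map_mul, R.bf, map_mul]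
  cf := by rw [← map_mul, R.cf, map_mul]
  df := by rw [← map_mul, R.df, map_mul]
  gg := by rw [← map_mul, R.gg, map_mul]
  cd4 := by rw [← map_mul, R.cd4, map_pow, map_mul]
  cg := by simpa using congrArg φ R.cg
  dg := by simpa using congrArg φ R.dg
  five := by simpa using congrArg φ R.five
  gb := by simpa using congrArg φ R.gb

/-- codes of `T₀` -/
def TT : Type := Bool × {ab : F4 × F4 // trK ab.1 = trK ab.2} × F4 × Fin 4

instance : Fintype TT := by unfold TT; infer_instance

theorem card_TT : Fintype.card TT = 256 := by decide +kernel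

def toT (k : TT) : Cd := ⟨k.1, k.2.1.1.1, k.2.1.1.2, k.2.2.1, k.2.2.2⟩

theorem inT_toT (k : TT) : inT (toT k) := ⟨k.2.1.2, k.2.2.2.2⟩

section
variable {G : Type*} [Group G] {E : Cd → G} {h : G}

theorem card_T0 (D : TData E h) :
    Nat.card (Subgroup.centralizer ({E uC} : Set G) ⊓ Subgroup.centralizer ({E tC} : Set G) :
      Subgroup G) = 256 := by
  let F : TT → (Subgroup.centralizer ({E uC} : Set G) ⊓ Subgroup.centralizer ({E tC} : Set G) :
      Subgroup G) := fun k => ⟨E (toT k), by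
    obtain ⟨h1, h2⟩ := cent_tu' D (inT_toT k)
    refine Subgroup.mem_inf.mpr ⟨?_, ?_⟩
    · rw [Subgroup.mem_centralizer_singleton_iff]; exact h2.symm
    · rw [Subgroup.mem_centralizer_singleton_iff]; exact h1.symm⟩
  have hF : Function.Bijective F := by
    constructor
    · intro k l hkl
      have h1 : E (toT k) = E (toT l) := congrArg Subtype.val hkl
      have h2 := D.inj _ _ (inT_toT k) (inT_toT l) h1
      obtain ⟨e, ⟨⟨a, b⟩, hab⟩, c, i⟩ := k
      obtain ⟨e', ⟨⟨a', b'⟩, hab'⟩, c', i'⟩ := l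
      simp only [toT, Cd.mk.injEq] at h2
      obtain ⟨rfl, rfl, rfl, rfl, h3⟩ := h2
      have : i = i' := Fin.ext h3
      subst this
      rfl
    · rintro ⟨g, hg⟩
      obtain ⟨h1, h2⟩ := Subgroup.mem_inf.mp hg
      rw [Subgroup.mem_centralizer_singleton_iff] at h1 h2
      obtain ⟨⟨e, a, b, c, i⟩, hk, hkg⟩ := D.mem g h2 h1
      refine ⟨⟨e, ⟨(a, b), hk.1⟩, c, ⟨i, hk.2⟩⟩, Subtype.ext hkg⟩
  rw [← Nat.card_congr (Equiv.ofBijective F hF), Nat.card_eq_fintype_card, card_TT]

/-- conjugation of subgroups generated by four elements and of centralisers -/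
theorem closure_conj {θ a f b c d g : G} (ha : a = cg θ f)
    (hc : Subgroup.centralizer ({f} : Set G) = Subgroup.closure {b, c, d, g}) :
    Subgroup.centralizer ({a} : Set G) =
      Subgroup.closure {cg θ b, cg θ c, cg θ d, cg θ g} := by
  set φ : G →* G := (MulAut.conj θ⁻¹).toMonoidHom with hφ
  have hφa : ∀ x, φ x = cg θ x := fun x => by simp [hφ, cg]
  have h1 : (Subgroup.closure {b, c, d, g}).map φ =
      Subgroup.closure {cg θ b, cg θ c, cg θ d, cg θ g} := by
    rw [MonoidHom.map_closure]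
    congr 1
    simp only [Set.image_insert_eq, Set.image_singleton, hφa]
  rw [← h1, ← hc]
  ext y
  rw [Subgroup.mem_centralizer_singleton_iff, Subgroup.mem_map]
  constructor
  · intro hy
    refine ⟨θ * y * θ⁻¹, ?_, by rw [hφa]; unfold cg; group⟩
    rw [Subgroup.mem_centralizer_singleton_iff]
    rw [ha] at hy
    unfold cg at hy
    calc θ * y * θ⁻¹ * f = θ * (y * (θ⁻¹ * f * θ)) * θ⁻¹ := by group
      _ = θ * (θ⁻¹ * f * θ * y) * θ⁻¹ := by rw [hy]
      _ = _ := by group
  · rintro ⟨x, hx, rfl⟩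
    rw [Subgroup.mem_centralizer_singleton_iff] at hx
    rw [hφa, ha, ← cg_mul, ← cg_mul, hx]

/-- **Output of the gluing** -/
theorem exists_elements (D : TData E h) (n : G) (hn1 : cg n (E tC) = E uC)
    (hn2 : cg n (E uC) = E tC) (b : G)
    (hb : ∀ i < 4, RelF (E uC) b (E cC) (E (dC i)) (E tC) (E (gC i)))
    (hgen : ∀ i < 4, Subgroup.centralizer ({E tC} : Set G) =
      Subgroup.closure {b, E cC, E (dC i), E (gC i)})
    (hcard : Nat.card (Subgroup.centralizer ({E tC} : Set G)) = 161280) :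
    ∃ a b c d e f g : G, f = E tC ∧ RelF a b c d f g ∧ RelF f e d c a g ∧ (d * g) ^ 4 = f ∧
      (c * g) ^ 4 = a ∧ Subgroup.centralizer ({f} : Set G) = Subgroup.closure {b, c, d, g} ∧
      Subgroup.centralizer ({a} : Set G) = Subgroup.closure {e, d, c, g} ∧
      Nat.card (Subgroup.centralizer ({f} : Set G)) = 161280 ∧
      Nat.card (Subgroup.centralizer ({a} : Set G)) = 161280 ∧ a ≠ f ∧ f ≠ 1 ∧
      Nat.card (Subgroup.centralizer ({a} : Set G) ⊓ Subgroup.centralizer ({f} : Set G) :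
        Subgroup G) = 256 ∧ (∃ θ : G, θ * θ = 1 ∧ θ⁻¹ * a * θ = f ∧ θ⁻¹ * b * θ = e ∧
        θ⁻¹ * c * θ = d ∧ θ⁻¹ * g * θ = g) := by
  obtain ⟨θ, i, hi, h2, ht, hc, hg⟩ := exists_theta D n hn1 hn2
  have hu : cg θ (E uC) = E tC := by rw [← ht, cg_cg h2]
  have hd : cg θ (E (dC i)) = E cC := by rw [← hc, cg_cg h2]
  have R := hb i hi
  have R' := RelF.map' R (MulAut.conj θ⁻¹).toMonoidHom
  have hφa : ∀ x, (MulAut.conj θ⁻¹).toMonoidHom x = cg θ x := fun x => by simp [cg]
  simp only [hφa] at R'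
  rw [hu, hc, hd, ht, hg] at R'
  have hdg : (E (dC i) * E (gC i)) ^ 4 = E tC := by
    have : ∀ i < 4, pw (mK (dC i) (gC i)) 2 = pw (mK (dC i) (gC i)) 2 ∧
        mK (pw (mK (dC i) (gC i)) 2) (pw (mK (dC i) (gC i)) 2) = tC := by decide
    have h1 := (this i hi).2
    rw [← h1, D.mK, ← D.mK]
    show E (mK (dC i) (gC i)) ^ 4 =
      E (mK (mK (dC i) (gC i)) (mK (dC i) (gC i))) * E (mK (mK (dC i) (gC i)) (mK (dC i) (gC i)))
    rw [D.mK (mK (dC i) (gC i))]
    simp only [pow_succ, pow_zero, one_mul, mul_assoc]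
  have hne : E uC ≠ E tC := by
    intro h'
    exact absurd (D.inj _ _ inT_uC inT_tC h') (by decide)
  have hne1 : E tC ≠ 1 := by
    intro h'
    rw [← D.one] at h'
    exact absurd (D.inj _ _ inT_tC inT_one h') (by decide)
  have hcent := closure_conj ht.symm (hgen i hi)
  rw [hc, hd, hg] at hcent
  refine ⟨E uC, b, E cC, E (dC i), cg θ b, E tC, E (gC i), rfl, R, R', hdg, ?_, hgen i hi, hcent,
    hcard, ?_, hne, hne1, card_T0 D, θ, h2, hu, rfl, hc, hg⟩
  · rw [← hd, ← hg, ← cg_mul]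
    have : ∀ (x : G) (n : ℕ), cg θ x ^ n = cg θ (x ^ n) := by
      intro x n
      have := conj_pow (i := n) (a := θ⁻¹) (b := x)
      rw [inv_inv] at this; exact this
    rw [this, hdg, ht]
  · rw [← hcard]
    apply Nat.card_congr
    refine ⟨fun y => ⟨cg θ y, ?_⟩, fun y => ⟨cg θ y, ?_⟩, fun y => Subtype.ext (cg_cg h2 _),
      fun y => Subtype.ext (cg_cg h2 _)⟩
    · have := y.2
      rw [Subgroup.mem_centralizer_singleton_iff] at this ⊢
      rw [← hu, ← cg_mul, ← cg_mul, this]
    · have := y.2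
      rw [Subgroup.mem_centralizer_singleton_iff] at this ⊢
      rw [← ht, ← cg_mul, ← cg_mul, this]

end

end Cfsg.Agent.ONType.GlueOut
end

-- part: ONType/Eval
section
/-!
# A verified evaluator of words in Bruhat form

Everything here holds in an arbitrary group containing elements `x i j u`, `z`, `h`, `τ` with the
relations `MRel` and `τ` acting as `σγ`.
-/

set_option autoImplicit false
set_option linter.constructorNameAsVariable false
set_option linter.unusedVariables false

namespace Cfsg.Agent.ONType.Eval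

open Cfsg.Agent.SporadicA.FieldFour
open Cfsg.Agent.ONType.Psl
open Cfsg.Agent.ONType.Lift
open Cfsg.Agent.ONType.Data
open Cfsg.Agent.ONType.OuterL (rv rv_ne)
open Cfsg.Agent.ONType.OuterM (trn)
open Cfsg.Agent.ONType.OuterZ

variable {G : Type*} [Group G]

/-- the relations of the split extension by `σγ` -/
structure Ext (x : Fin 3 → Fin 3 → F4 → G) (z h τ : G) (g : F4 → ℕ) : Prop where
  R : MRel x z h g
  sg : IsSG x τ
  zt : τ⁻¹ * z * τ = z⁻¹
  tt : τ * τ = 1

/-! ## Consequences of `MRel` -/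

section Basic

variable {x : Fin 3 → Fin 3 → F4 → G} {z h : G} {g : F4 → ℕ}

/-- Weyl element -/
def nn (x : Fin 3 → Fin 3 → F4 → G) (i j : Fin 3) : G := x i j 1 * x j i 1 * x i j 1

theorem nn_sq (R : MRel x z h g) (i j : Fin 3) (hij : i ≠ j) : nn x i j * nn x i j = 1 := by
  have h1 := mrel_sq R i j hij 1
  have h2 := mrel_sq R j i hij.symm 1
  unfold nn
  calc x i j 1 * x j i 1 * x i j 1 * (x i j 1 * x j i 1 * x i j 1)
      = x i j 1 * x j i 1 * (x i j 1 * x i j 1) * x j i 1 * x i j 1 := by group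
    _ = x i j 1 * (x j i 1 * x j i 1) * x i j 1 := by rw [h1]; group
    _ = 1 := by rw [h2, mul_one, h1]

theorem nn_inv (R : MRel x z h g) (i j : Fin 3) (hij : i ≠ j) : (nn x i j)⁻¹ = nn x i j :=
  inv_eq_of_mul_eq_one_left (nn_sq R i j hij)

theorem nn_conj (R : MRel x z h g) (i j k l : Fin 3) (hij : i ≠ j) (hkl : k ≠ l) (u : F4) :
    nn x i j * x k l u = x (Equiv.swap i j k) (Equiv.swap i j l) u * nn x i j := by
  have h1 := R.weyl i j (Equiv.swap i j k) (Equiv.swap i j l) hij
    (fun e => hkl ((Equiv.swap i j).injective e)) u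
  have h2 : Equiv.swap i j (Equiv.swap i j k) = k := Equiv.swap_apply_self _ _ _
  have h3 : Equiv.swap i j (Equiv.swap i j l) = l := Equiv.swap_apply_self _ _ _
  rw [h2, h3] at h1
  change (nn x i j)⁻¹ * _ * nn x i j = _ at h1
  rw [← h1, nn_inv R i j hij]
  have h4 := nn_sq R i j hij
  rw [← mul_assoc, ← mul_assoc, h4, one_mul]

theorem nn_symm (R : MRel x z h g) (i j : Fin 3) (hij : i ≠ j) : nn x j i = nn x i j := by
  have h1 := nn_conj R i j i j hij hij 1
  have h2 := nn_conj R i j j i hij hij.symm 1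
  rw [Equiv.swap_apply_left, Equiv.swap_apply_right] at h1 h2
  have h4 := nn_sq R i j hij
  -- `n = n (x_ij x_ji x_ij) n⁻¹`
  calc nn x j i = x j i 1 * x i j 1 * x j i 1 * (nn x i j * nn x i j) := by
        rw [h4, mul_one]; rfl
    _ = x j i 1 * x i j 1 * (x j i 1 * nn x i j) * nn x i j := by group
    _ = x j i 1 * (x i j 1 * nn x i j) * x i j 1 * nn x i j := by rw [← h1]; group
    _ = (x j i 1 * nn x i j) * x j i 1 * x i j 1 * nn x i j := by rw [← h2]; group
    _ = nn x i j * (x i j 1 * x j i 1 * x i j 1) * nn x i j := by rw [← h1]; group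
    _ = nn x i j * nn x i j * nn x i j := rfl
    _ = nn x i j := by rw [h4, one_mul]

theorem conj_nn (R : MRel x z h g) (i j k l : Fin 3) (hij : i ≠ j) (hkl : k ≠ l) :
    nn x i j * nn x k l = nn x (Equiv.swap i j k) (Equiv.swap i j l) * nn x i j := by
  have h1 := nn_conj R i j k l hij hkl 1
  have h2 := nn_conj R i j l k hij hkl.symm 1
  calc nn x i j * nn x k l = (nn x i j * x k l 1) * x l k 1 * x k l 1 := by
        unfold nn; simp only [mul_assoc]
    _ = x (Equiv.swap i j k) (Equiv.swap i j l) 1 * (nn x i j * x l k 1) * x k l 1 := by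
        rw [h1]; simp only [mul_assoc]
    _ = x (Equiv.swap i j k) (Equiv.swap i j l) 1 * x (Equiv.swap i j l) (Equiv.swap i j k) 1 *
        (nn x i j * x k l 1) := by
        rw [h2]; simp only [mul_assoc]
    _ = _ := by rw [h1]; unfold nn; simp only [mul_assoc]

theorem braid (R : MRel x z h g) :
    nn x 0 1 * nn x 1 2 * nn x 0 1 = nn x 1 2 * nn x 0 1 * nn x 1 2 := by
  have h1 := conj_nn R 0 1 1 2 (by decide) (by decide)
  have h2 := conj_nn R 1 2 0 1 (by decide) (by decide)
  have e1 : Equiv.swap (0 : Fin 3) 1 1 = 0 := by decide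
  have e2 : Equiv.swap (0 : Fin 3) 1 2 = 2 := by decide
  have e3 : Equiv.swap (1 : Fin 3) 2 0 = 0 := by decide
  have e4 : Equiv.swap (1 : Fin 3) 2 1 = 2 := by decide
  rw [e1, e2] at h1
  rw [e3, e4] at h2
  rw [h1, h2, mul_assoc, mul_assoc, nn_sq R 0 1 (by decide), nn_sq R 1 2 (by decide)]

theorem z_comm (R : MRel x z h g) (i j : Fin 3) (hij : i ≠ j) (u : F4) :
    Commute z (x i j u) := (R.zc i j u hij).symm

theorem z_comm_nn (R : MRel x z h g) (i j : Fin 3) (hij : i ≠ j) : Commute z (nn x i j) := by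
  unfold nn
  exact ((z_comm R i j hij 1).mul_right (z_comm R j i hij.symm 1)).mul_right (z_comm R i j hij 1)

theorem z_comm_h (R : MRel x z h g) : Commute z h := R.zh.symm

/-- `x (c) h = h x (κ c)` -/
theorem x_h (R : MRel x z h g) (i j : Fin 3) (hij : i ≠ j) (u : F4) :
    x i j u * h = h * x i j (kap i j * u) := by
  rw [← R.tor i j hij u]; group

theorem h_x (R : MRel x z h g) (i j : Fin 3) (hij : i ≠ j) (u : F4) :
    h * x i j u = x i j (kap j i * u) * h := by
  rw [x_h R i j hij]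
  congr 2
  have : ∀ i j : Fin 3, i ≠ j → ∀ u : F4, u = kap i j * (kap j i * u) := by decide
  exact this i j hij u

/-- `n h n = h⁻¹` -/
theorem nn_h (R : MRel x z h g) (i j : Fin 3) (hij : i ≠ j) :
    nn x i j * h * nn x i j = h⁻¹ := by
  have hn := nn_sq R i j hij
  have e1 := h_x R i j hij 1
  have e2 := h_x R j i hij.symm 1
  rw [mul_one] at e1 e2
  -- `h n h⁻¹ = x_ij(κ_ji) x_ji(κ_ij) x_ij(κ_ji)`
  have h1 : h * nn x i j * h⁻¹ = x i j (kap j i) * x j i (kap i j) * x i j (kap j i) := by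
    calc h * nn x i j * h⁻¹ = (h * x i j 1) * x j i 1 * x i j 1 * h⁻¹ := by
          unfold nn; simp only [mul_assoc]
      _ = x i j (kap j i) * (h * x j i 1) * x i j 1 * h⁻¹ := by rw [e1]; simp only [mul_assoc]
      _ = x i j (kap j i) * x j i (kap i j) * (h * x i j 1) * h⁻¹ := by
          rw [e2]; simp only [mul_assoc]
      _ = _ := by rw [e1]; group
  -- conjugate the torus relation by `n`
  have c1 := nn_conj R i j i j hij hij (kap i j)
  have c2 := nn_conj R i j j i hij hij.symm (kap j i)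
  have c3 := nn_conj R i j j i hij hij.symm (kap i j)
  have c4 := nn_conj R i j i j hij hij (kap j i)
  rw [Equiv.swap_apply_left, Equiv.swap_apply_right] at c1 c2 c3 c4
  have h2 : nn x i j * h = h * nn x i j * h⁻¹ := by
    -- `n h n = x_ji(κ_ij) x_ij(κ_ji) x_ji(κ_ij) n`
    have h3 : nn x i j * h * nn x i j = x j i (kap i j) * x i j (kap j i) * x j i (kap i j) *
        nn x i j := by
      rw [← R.torus i j hij]
      change nn x i j * (x i j (kap i j) * x j i (kap j i) * x i j (kap i j) * nn x i j) *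
        nn x i j = _
      calc nn x i j * (x i j (kap i j) * x j i (kap j i) * x i j (kap i j) * nn x i j) * nn x i j
          = (nn x i j * x i j (kap i j)) * x j i (kap j i) * x i j (kap i j) *
            (nn x i j * nn x i j) := by simp only [mul_assoc]
        _ = x j i (kap i j) * (nn x i j * x j i (kap j i)) * x i j (kap i j) := by
            rw [hn, c1]; simp only [mul_assoc, mul_one]
        _ = x j i (kap i j) * x i j (kap j i) * (nn x i j * x i j (kap i j)) := by
            rw [c2]; simp only [mul_assoc]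
        _ = _ := by rw [c1]; simp only [mul_assoc]
    -- `x_ji(κ_ij) x_ij(κ_ji) x_ji(κ_ij)` is the conjugate of the other form of `n`
    have e3 : h * nn x j i * h⁻¹ = x j i (kap i j) * x i j (kap j i) * x j i (kap i j) := by
      calc h * nn x j i * h⁻¹ = (h * x j i 1) * x i j 1 * x j i 1 * h⁻¹ := by
            unfold nn; simp only [mul_assoc]
        _ = x j i (kap i j) * (h * x i j 1) * x j i 1 * h⁻¹ := by rw [e2]; simp only [mul_assoc]
        _ = x j i (kap i j) * x i j (kap j i) * (h * x j i 1) * h⁻¹ := by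
            rw [e1]; simp only [mul_assoc]
        _ = _ := by rw [e2]; group
    rw [← e3, nn_symm R i j hij] at h3
    exact mul_right_cancel h3
  set n := nn x i j
  -- `A = n h n`, `A² = h`
  have hA : (n * h * n) * (n * h * n) = h := by
    have h4 : n * h⁻¹ * n = h⁻¹ * (n * h * n) := by
      rw [h2]; group
    have h5 : (n * h * n)⁻¹ = n * h⁻¹ * n := by
      rw [mul_inv_rev, mul_inv_rev, nn_inv R i j hij, mul_assoc]
    have h6 : h * (n * h⁻¹ * n) = n * h * n := by rw [h4]; group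
    rw [← h5] at h6
    calc (n * h * n) * (n * h * n) = (h * (n * h * n)⁻¹) * (n * h * n) := by rw [h6]
      _ = h := by group
  have hA3 : (n * h * n) ^ 3 = 1 := by
    calc (n * h * n) ^ 3 = n * h * (n * n) * h * (n * n) * h * n := by
          rw [pow_three]; simp only [mul_assoc]
      _ = n * h ^ 3 * n := by rw [hn, pow_three]; simp only [mul_assoc, mul_one]
      _ = 1 := by rw [R.h3, mul_one, hn]
  have h3 := R.h3
  calc n * h * n = (n * h * n) ^ 3 * (n * h * n) := by rw [hA3, one_mul]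
    _ = ((n * h * n) * (n * h * n)) * ((n * h * n) * (n * h * n)) := by
        rw [pow_three]; simp only [mul_assoc]
    _ = h * h := by rw [hA]
    _ = h ^ 3 * h⁻¹ := by rw [pow_three]; group
    _ = h⁻¹ := by rw [h3, one_mul]

theorem nn_mul_h (R : MRel x z h g) (i j : Fin 3) (hij : i ≠ j) :
    nn x i j * h = h⁻¹ * nn x i j := by
  rw [← nn_h R i j hij, mul_assoc, nn_sq R i j hij, mul_one]

end Basic

/-! ## The unipotent part -/

/-- codes `x01(a) x12(b) x02(c) z^i` -/
structure U where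
  a : F4
  b : F4
  c : F4
  i : ℕ

/-- positive roots -/
inductive Rt
  | a : Rt
  | b : Rt
  | c : Rt

namespace U

/-- multiply by `x01(v)` on the right -/
def m01 (g : F4 → ℕ) (u : U) (v : F4) : U :=
  ⟨u.a + v, u.b, u.c + v * u.b, u.i + 3 * g (v * (u.b * u.b)) + 2 * trn (u.c * v)⟩

/-- multiply by `x12(v)` on the right -/
def m12 (u : U) (v : F4) : U := ⟨u.a, u.b + v, u.c, u.i + 2 * trn (u.c * v)⟩

/-- multiply by `x02(v)` on the right -/
def m02 (u : U) (v : F4) : U := ⟨u.a, u.b, u.c + v, u.i⟩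

/-- multiply by a root element -/
def mr (g : F4 → ℕ) (u : U) : Rt → F4 → U
  | .a, v => u.m01 g v
  | .b, v => u.m12 v
  | .c, v => u.m02 v

/-- product -/
def mul (g : F4 → ℕ) (u v : U) : U :=
  let w := ((u.m01 g v.a).m12 v.b).m02 v.c
  ⟨w.a, w.b, w.c, (w.i + v.i) % 4⟩

/-- identity -/
def one : U := ⟨0, 0, 0, 0⟩

end U

section UEval

variable {x : Fin 3 → Fin 3 → F4 → G} {z h : G} {g : F4 → ℕ}

/-- value of a root element -/
def evR (x : Fin 3 → Fin 3 → F4 → G) : Rt → F4 → G
  | .a, v => x 0 1 v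
  | .b, v => x 1 2 v
  | .c, v => x 0 2 v

/-- value of a code -/
def evU (x : Fin 3 → Fin 3 → F4 → G) (z : G) (u : U) : G :=
  x 0 1 u.a * x 1 2 u.b * x 0 2 u.c * z ^ u.i

theorem pow_mod (R : MRel x z h g) (i : ℕ) : z ^ (i % 4) = z ^ i := by
  conv_rhs => rw [← Nat.div_add_mod i 4, pow_add, pow_mul, R.z4, one_pow, one_mul]

theorem ev_m02 (R : MRel x z h g) (u : U) (v : F4) :
    evU x z (u.m02 v) = evU x z u * x 0 2 v := by
  unfold evU U.m02
  have h1 := ((z_comm R 0 2 (by decide) v).pow_left u.i).eq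
  calc x 0 1 u.a * x 1 2 u.b * x 0 2 (u.c + v) * z ^ u.i
      = x 0 1 u.a * x 1 2 u.b * (x 0 2 u.c * x 0 2 v) * z ^ u.i := by rw [R.add 0 2 (by decide)]
    _ = x 0 1 u.a * x 1 2 u.b * x 0 2 u.c * (x 0 2 v * z ^ u.i) := by simp only [mul_assoc]
    _ = _ := by rw [← h1]; simp only [mul_assoc]

theorem ev_m12 (R : MRel x z h g) (u : U) (v : F4) :
    evU x z (u.m12 v) = evU x z u * x 1 2 v := by
  unfold evU U.m12
  have h1 := ((z_comm R 1 2 (by decide) v).pow_left u.i).eq
  have h2 := R.col 0 2 1 (by decide) (by decide) (by decide) u.c v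
  show x 0 1 u.a * x 1 2 (u.b + v) * x 0 2 u.c * z ^ (u.i + 2 * trn (u.c * v)) = _
  calc x 0 1 u.a * x 1 2 (u.b + v) * x 0 2 u.c * z ^ (u.i + 2 * trn (u.c * v))
      = x 0 1 u.a * (x 1 2 u.b * x 1 2 v) * x 0 2 u.c * (z ^ (2 * trn (u.c * v)) * z ^ u.i) := by
        rw [R.add 1 2 (by decide), add_comm u.i, pow_add]
    _ = x 0 1 u.a * x 1 2 u.b * (x 1 2 v * x 0 2 u.c * z ^ (2 * trn (u.c * v))) * z ^ u.i := by
        simp only [mul_assoc]
    _ = x 0 1 u.a * x 1 2 u.b * x 0 2 u.c * (x 1 2 v * z ^ u.i) := by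
        rw [← h2]; simp only [mul_assoc]
    _ = _ := by rw [← h1]; simp only [mul_assoc]

theorem ev_m01 (R : MRel x z h g) (u : U) (v : F4) :
    evU x z (u.m01 g v) = evU x z u * x 0 1 v := by
  unfold evU U.m01
  have h1 := ((z_comm R 0 1 (by decide) v).pow_left u.i).eq
  have h2 := R.row 0 1 2 (by decide) (by decide) (by decide) v u.c
  have h3 := R.sum 0 2 1 (by decide) (by decide) (by decide) v u.b
  have hz2 : ∀ n, z ^ (2 * n) * z ^ (2 * n) = 1 := by
    intro n
    rw [← pow_add, show 2 * n + 2 * n = 4 * n by ring, pow_mul, R.z4, one_pow]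
  have hzg : ∀ n, z ^ (3 * n) * z ^ n = 1 := by
    intro n
    rw [← pow_add, show 3 * n + n = 4 * n by ring, pow_mul, R.z4, one_pow]
  -- `x02(c) x01(v) = x01(v) x02(c) z^{2tr}`
  have h4 : x 0 2 u.c * x 0 1 v = x 0 1 v * x 0 2 u.c * z ^ (2 * trn (u.c * v)) := by
    rw [h2, mul_comm v u.c, mul_assoc (x 0 2 u.c * x 0 1 v), hz2, mul_one]
  -- `x12(b) x01(v) = x01(v) x12(b) x02(vb) z^{-g}`
  have h5 : x 1 2 u.b * x 0 1 v =
      x 0 1 v * x 1 2 u.b * x 0 2 (v * u.b) * z ^ (3 * g (v * (u.b * u.b))) := by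
    have hc : z ^ g (v * (u.b * u.b)) * x 0 2 (v * u.b) = x 0 2 (v * u.b) * z ^ g (v * (u.b * u.b)) :=
      ((z_comm R 0 2 (by decide) (v * u.b)).pow_left _).eq
    rw [h3]
    have hs := mrel_sq R 0 2 (by decide) (v * u.b)
    calc x 1 2 u.b * x 0 1 v = x 1 2 u.b * x 0 1 v * (x 0 2 (v * u.b) * x 0 2 (v * u.b)) *
          (z ^ (3 * g (v * (u.b * u.b))) * z ^ g (v * (u.b * u.b))) := by
            rw [hs, hzg, mul_one, mul_one]
      _ = x 1 2 u.b * x 0 1 v * (x 0 2 (v * u.b) * x 0 2 (v * u.b)) *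
          (z ^ g (v * (u.b * u.b)) * z ^ (3 * g (v * (u.b * u.b)))) := by
            rw [← pow_add, ← pow_add, add_comm]
      _ = x 1 2 u.b * x 0 1 v * (x 0 2 (v * u.b) * (x 0 2 (v * u.b) * z ^ g (v * (u.b * u.b)))) *
            z ^ (3 * g (v * (u.b * u.b))) := by simp only [mul_assoc]
      _ = x 1 2 u.b * x 0 1 v * (x 0 2 (v * u.b) * (z ^ g (v * (u.b * u.b)) * x 0 2 (v * u.b))) *
            z ^ (3 * g (v * (u.b * u.b))) := by rw [hc]
      _ = _ := by simp only [mul_assoc]
  have hcz : ∀ n m, z ^ n * x 0 2 m = x 0 2 m * z ^ n := fun n m =>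
    ((z_comm R 0 2 (by decide) m).pow_left n).eq
  show x 0 1 (u.a + v) * x 1 2 u.b * x 0 2 (u.c + v * u.b) *
    z ^ (u.i + 3 * g (v * (u.b * u.b)) + 2 * trn (u.c * v)) = _
  symm
  calc x 0 1 u.a * x 1 2 u.b * x 0 2 u.c * z ^ u.i * x 0 1 v
      = x 0 1 u.a * x 1 2 u.b * (x 0 2 u.c * x 0 1 v) * z ^ u.i := by
        simp only [mul_assoc]; rw [h1]
    _ = x 0 1 u.a * (x 1 2 u.b * x 0 1 v) * x 0 2 u.c * z ^ (2 * trn (u.c * v)) * z ^ u.i := by
        rw [h4]; simp only [mul_assoc]
    _ = x 0 1 u.a * x 0 1 v * x 1 2 u.b * x 0 2 (v * u.b) *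
          (z ^ (3 * g (v * (u.b * u.b))) * x 0 2 u.c) * z ^ (2 * trn (u.c * v)) * z ^ u.i := by
        rw [h5]; simp only [mul_assoc]
    _ = x 0 1 u.a * x 0 1 v * x 1 2 u.b * (x 0 2 (v * u.b) * x 0 2 u.c) *
          (z ^ (3 * g (v * (u.b * u.b))) * (z ^ (2 * trn (u.c * v)) * z ^ u.i)) := by
        rw [hcz]; simp only [mul_assoc]
    _ = _ := by
        rw [R.add 0 1 (by decide), R.add 0 2 (by decide), ← pow_add, ← pow_add]
        congr 2
        · rw [add_comm u.c]
        · ring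

theorem ev_mr (R : MRel x z h g) (u : U) (r : Rt) (v : F4) :
    evU x z (u.mr g r v) = evU x z u * evR x r v := by
  cases r
  · exact ev_m01 R u v
  · exact ev_m12 R u v
  · exact ev_m02 R u v

theorem ev_mul (R : MRel x z h g) (u v : U) :
    evU x z (u.mul g v) = evU x z u * evU x z v := by
  have h1 : evU x z (((u.m01 g v.a).m12 v.b).m02 v.c) =
      evU x z u * x 0 1 v.a * x 1 2 v.b * x 0 2 v.c := by
    rw [ev_m02 R, ev_m12 R, ev_m01 R]
  have h2 : evU x z (u.mul g v) = evU x z (((u.m01 g v.a).m12 v.b).m02 v.c) * z ^ v.i := by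
    unfold evU U.mul
    show _ * z ^ (((((u.m01 g v.a).m12 v.b).m02 v.c).i + v.i) % 4) = _
    rw [pow_mod R, pow_add, ← mul_assoc]
  rw [h2, h1]
  unfold evU
  simp only [mul_assoc]

theorem ev_one (R : MRel x z h g) : evU x z U.one = 1 := by
  show x 0 1 0 * x 1 2 0 * x 0 2 0 * z ^ 0 = 1
  rw [mrel_zero R 0 1 (by decide), mrel_zero R 1 2 (by decide), mrel_zero R 0 2 (by decide)]
  simp

end UEval

/-! ## The torus -/

/-- `h^k x_r(c) = x_r(tw r k c) h^k` -/
def tw (r : Rt) (k : ℕ) (c : F4) : F4 :=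
  match r, k % 3 with
  | _, 0 => c
  | .c, 1 => ω * c
  | _, 1 => ω2 * c
  | .c, _ => ω2 * c
  | _, _ => ω * c

section TEval

variable {x : Fin 3 → Fin 3 → F4 → G} {z h : G} {g : F4 → ℕ}

theorem hpow_mod (R : MRel x z h g) (k : ℕ) : h ^ (k % 3) = h ^ k := by
  conv_rhs => rw [← Nat.div_add_mod k 3, pow_add, pow_mul, R.h3, one_pow, one_mul]

theorem h_evR (R : MRel x z h g) (r : Rt) (c : F4) :
    h * evR x r c = evR x r (tw r 1 c) * h := by
  cases r
  · exact h_x R 0 1 (by decide) c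
  · exact h_x R 1 2 (by decide) c
  · exact h_x R 0 2 (by decide) c

theorem tw_succ (r : Rt) (k : ℕ) (c : F4) : tw r (k + 1) c = tw r 1 (tw r k c) := by
  have h1 : ∀ r : Rt, ∀ m : Fin 3, ∀ c : F4, tw r (m.val + 1) c = tw r 1 (tw r m.val c) := by
    intro r; cases r <;> decide
  have h2 : ∀ r k c, tw r k c = tw r (k % 3) c := by
    intro r k c; unfold tw; rw [Nat.mod_mod]
  have h3 : tw r (k + 1) c = tw r (k % 3 + 1) c := by
    unfold tw; rw [Nat.mod_add_mod]
  have := h1 r ⟨k % 3, Nat.mod_lt _ (by decide)⟩ c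
  rw [h3, h2 r k c]
  exact this

theorem hpow_evR (R : MRel x z h g) (r : Rt) (k : ℕ) (c : F4) :
    h ^ k * evR x r c = evR x r (tw r k c) * h ^ k := by
  induction k with
  | zero =>
    have : tw r 0 c = c := by cases r <;> rfl
    rw [this]; simp
  | succ k ih =>
    rw [pow_succ' h, mul_assoc, ih, ← mul_assoc, h_evR R, mul_assoc, ← tw_succ r k c]

theorem nn_hpow (R : MRel x z h g) (i j : Fin 3) (hij : i ≠ j) (k : ℕ) :
    nn x i j * h ^ k = h ^ (2 * k) * nn x i j := by
  have h1 : h⁻¹ = h ^ 2 := by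
    rw [inv_eq_iff_mul_eq_one, ← pow_succ']; exact R.h3
  induction k with
  | zero => simp
  | succ k ih =>
    rw [pow_succ, ← mul_assoc, ih, mul_assoc, nn_mul_h R i j hij, h1, ← mul_assoc, ← pow_add]
    congr 1

end TEval

/-! ## The Weyl group -/

/-- Weyl group -/
inductive W
  | e | s1 | s2 | s12 | s21 | s121

namespace W

/-- right multiplication by `s1` -/
def r1 : W → W
  | e => s1
  | s1 => e
  | s2 => s21
  | s12 => s121
  | s21 => s2
  | s121 => s12

/-- right multiplication by `s2` -/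
def r2 : W → W
  | e => s2
  | s1 => s12
  | s2 => e
  | s12 => s1
  | s21 => s121
  | s121 => s21

/-- image of the first simple root, if positive -/
def root1 : W → Option Rt
  | e => some .a
  | s2 => some .c
  | s12 => some .b
  | _ => none

/-- image of the second simple root, if positive -/
def root2 : W → Option Rt
  | e => some .b
  | s1 => some .c
  | s21 => some .a
  | _ => none

/-- `n_w h = h^(sg w) n_w` -/
def sg : W → ℕ
  | e => 1
  | s12 => 1
  | s21 => 1
  | _ => 2

/-- conjugation by `τ` -/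
def tau : W → W
  | e => e
  | s1 => s2
  | s2 => s1
  | s12 => s21
  | s21 => s12
  | s121 => s121

end W

/-- value of a Weyl element -/
def evW (x : Fin 3 → Fin 3 → F4 → G) : W → G
  | .e => 1
  | .s1 => nn x 0 1
  | .s2 => nn x 1 2
  | .s12 => nn x 0 1 * nn x 1 2
  | .s21 => nn x 1 2 * nn x 0 1
  | .s121 => nn x 0 1 * nn x 1 2 * nn x 0 1

section WEval

variable {x : Fin 3 → Fin 3 → F4 → G} {z h : G} {g : F4 → ℕ}

theorem evW_r1 (R : MRel x z h g) (w : W) : evW x w * nn x 0 1 = evW x w.r1 := by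
  have h1 := nn_sq R 0 1 (by decide)
  cases w <;> simp only [evW, W.r1, one_mul, mul_assoc, h1, mul_one]

theorem evW_r2 (R : MRel x z h g) (w : W) : evW x w * nn x 1 2 = evW x w.r2 := by
  have h1 := nn_sq R 1 2 (by decide)
  have hb := braid R
  cases w
  · simp only [evW, W.r2, one_mul]
  · rfl
  · simp only [evW, W.r2, h1]
  · simp only [evW, W.r2, mul_assoc, h1, mul_one]
  · show nn x 1 2 * nn x 0 1 * nn x 1 2 = nn x 0 1 * nn x 1 2 * nn x 0 1
    rw [hb]
  · show nn x 0 1 * nn x 1 2 * nn x 0 1 * nn x 1 2 = nn x 1 2 * nn x 0 1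
    rw [hb, mul_assoc, h1, mul_one]

theorem evW_root1 (R : MRel x z h g) (w : W) (r : Rt) (hr : w.root1 = some r) (c : F4) :
    evW x w * x 0 1 c = evR x r c * evW x w := by
  have e1 := nn_conj R 0 1 0 2 (by decide) (by decide) c
  have e2 := nn_conj R 1 2 0 1 (by decide) (by decide) c
  have s1 : Equiv.swap (0 : Fin 3) 1 0 = 1 := by decide
  have s2 : Equiv.swap (0 : Fin 3) 1 2 = 2 := by decide
  have s3 : Equiv.swap (1 : Fin 3) 2 0 = 0 := by decide
  have s4 : Equiv.swap (1 : Fin 3) 2 1 = 2 := by decide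
  rw [s1, s2] at e1
  rw [s3, s4] at e2
  cases w <;> simp only [W.root1, Option.some.injEq, reduceCtorEq] at hr <;> subst hr
  · simp only [evW, evR, one_mul, mul_one]
  · exact e2
  · show nn x 0 1 * nn x 1 2 * x 0 1 c = x 1 2 c * (nn x 0 1 * nn x 1 2)
    rw [mul_assoc, e2, ← mul_assoc, e1, mul_assoc]

theorem evW_root2 (R : MRel x z h g) (w : W) (r : Rt) (hr : w.root2 = some r) (c : F4) :
    evW x w * x 1 2 c = evR x r c * evW x w := by
  have e1 := nn_conj R 0 1 1 2 (by decide) (by decide) c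
  have e2 := nn_conj R 1 2 0 2 (by decide) (by decide) c
  have s1 : Equiv.swap (0 : Fin 3) 1 1 = 0 := by decide
  have s2 : Equiv.swap (0 : Fin 3) 1 2 = 2 := by decide
  have s3 : Equiv.swap (1 : Fin 3) 2 0 = 0 := by decide
  have s4 : Equiv.swap (1 : Fin 3) 2 2 = 1 := by decide
  rw [s1, s2] at e1
  rw [s3, s4] at e2
  cases w <;> simp only [W.root2, Option.some.injEq, reduceCtorEq] at hr <;> subst hr
  · simp only [evW, evR, one_mul, mul_one]
  · exact e1
  · show nn x 1 2 * nn x 0 1 * x 1 2 c = x 0 1 c * (nn x 1 2 * nn x 0 1)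
    rw [mul_assoc, e1, ← mul_assoc, e2, mul_assoc]

theorem evW_h (R : MRel x z h g) (w : W) (k : ℕ) :
    evW x w * h ^ k = h ^ (w.sg * k) * evW x w := by
  have e1 := nn_hpow R 0 1 (by decide)
  have e2 := nn_hpow R 1 2 (by decide)
  have h4 : h ^ (2 * (2 * k)) = h ^ k := by
    have : 2 * (2 * k) = 3 * k + k := by ring
    rw [this, pow_add, pow_mul, R.h3, one_pow, one_mul]
  cases w
  · simp [evW, W.sg]
  · exact e1 k
  · exact e2 k
  · show nn x 0 1 * nn x 1 2 * h ^ k = h ^ (1 * k) * (nn x 0 1 * nn x 1 2)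
    rw [mul_assoc, e2, ← mul_assoc, e1, h4, one_mul, mul_assoc]
  · show nn x 1 2 * nn x 0 1 * h ^ k = h ^ (1 * k) * (nn x 1 2 * nn x 0 1)
    rw [mul_assoc, e1, ← mul_assoc, e2, h4, one_mul, mul_assoc]
  · show nn x 0 1 * nn x 1 2 * nn x 0 1 * h ^ k =
      h ^ (2 * k) * (nn x 0 1 * nn x 1 2 * nn x 0 1)
    rw [mul_assoc, e1, ← mul_assoc, mul_assoc (nn x 0 1), e2, ← mul_assoc, e1]
    have : h ^ (2 * (2 * (2 * k))) = h ^ (2 * k) := by
      have : 2 * (2 * (2 * k)) = 3 * (2 * k) + 2 * k := by ring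
      rw [this, pow_add, pow_mul, R.h3, one_pow, one_mul]
    rw [this]; simp only [mul_assoc]

end WEval

/-! ## Codes for the whole group -/

/-- codes `τ^e u h^k n_w v` -/
structure Cd where
  e : ℕ
  u : U
  k : ℕ
  w : W
  v : U

/-- logarithm to the base `ω` -/
def lg : F4 → ℕ
  | .z => 0
  | .o => 0
  | .w => 1
  | .v => 2

/-- inverse -/
def iv : F4 → F4
  | .z => 0
  | .o => 1
  | .w => ω2
  | .v => ω

namespace Cd

/-- right multiplication by `n01` -/
def n1 (g : F4 → ℕ) (c : Cd) : Cd :=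
  let v' : U := ⟨0, c.v.c, c.v.b, c.v.i + 2 * trn (c.v.b * c.v.c)⟩
  if c.v.a = 0 then ⟨c.e, c.u, c.k, c.w.r1, v'⟩ else
  match c.w.root1 with
  | some r => ⟨c.e, c.u.mr g r (tw r c.k c.v.a), c.k, c.w.r1, v'⟩
  | none =>
    match c.w.r1.root1 with
    | some r => ⟨c.e, c.u.mr g r (tw r c.k (iv c.v.a)), (c.k + c.w.r1.sg * (2 * lg c.v.a)) % 3, c.w,
        ⟨iv c.v.a, v'.b, v'.c, v'.i⟩⟩
    | none => c

/-- right multiplication by `n12` -/
def n2 (g : F4 → ℕ) (c : Cd) : Cd :=
  let c1 := c.v.c + c.v.a * c.v.b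
  let i1 := c.v.i + g (c.v.a * (c.v.b * c.v.b))
  let v' : U := ⟨c1, 0, c.v.a, i1 + 2 * trn (c.v.a * c1)⟩
  if c.v.b = 0 then ⟨c.e, c.u, c.k, c.w.r2, v'⟩ else
  match c.w.root2 with
  | some r => ⟨c.e, c.u.mr g r (tw r c.k c.v.b), c.k, c.w.r2, v'⟩
  | none =>
    match c.w.r2.root2 with
    | some r => ⟨c.e, c.u.mr g r (tw r c.k (iv c.v.b)), (c.k + c.w.r2.sg * (2 * lg c.v.b)) % 3, c.w,
        U.mul g ⟨0, iv c.v.b, 0, 0⟩ v'⟩
    | none => c

/-- right multiplication by a unipotent element -/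
def mu (g : F4 → ℕ) (c : Cd) (u : U) : Cd := ⟨c.e, c.u, c.k, c.w, c.v.mul g u⟩

end Cd

/-- value of a code -/
def evC (x : Fin 3 → Fin 3 → F4 → G) (z h τ : G) (c : Cd) : G :=
  τ ^ c.e * (evU x z c.u * h ^ c.k * evW x c.w * evU x z c.v)

section CEval

variable {x : Fin 3 → Fin 3 → F4 → G} {z h τ : G} {g : F4 → ℕ}

theorem ev_mu (R : MRel x z h g) (c : Cd) (u : U) :
    evC x z h τ (c.mu g u) = evC x z h τ c * evU x z u := by
  unfold evC Cd.mu
  rw [ev_mul R]
  simp only [mul_assoc]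

/-- `v n01 = x01(a) n01 v'` -/
theorem ev_pass1 (R : MRel x z h g) (v : U) :
    evU x z v * nn x 0 1 =
      x 0 1 v.a * (nn x 0 1 * evU x z ⟨0, v.c, v.b, v.i + 2 * trn (v.b * v.c)⟩) := by
  have e1 := nn_conj R 0 1 1 2 (by decide) (by decide) v.b
  have e2 := nn_conj R 0 1 0 2 (by decide) (by decide) v.c
  have s1 : Equiv.swap (0 : Fin 3) 1 0 = 1 := by decide
  have s2 : Equiv.swap (0 : Fin 3) 1 1 = 0 := by decide
  have s3 : Equiv.swap (0 : Fin 3) 1 2 = 2 := by decide
  rw [s2, s3] at e1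
  rw [s1, s3] at e2
  have hn := nn_sq R 0 1 (by decide)
  have hz := ((z_comm_nn R 0 1 (by decide)).pow_left v.i).eq
  -- `x12(b) n = n x02(b)`
  have f1 : x 1 2 v.b * nn x 0 1 = nn x 0 1 * x 0 2 v.b := by
    have := nn_conj R 0 1 0 2 (by decide) (by decide) v.b
    rw [s1, s3] at this
    exact this.symm
  have f2 : x 0 2 v.c * nn x 0 1 = nn x 0 1 * x 1 2 v.c := by
    have := nn_conj R 0 1 1 2 (by decide) (by decide) v.c
    rw [s2, s3] at this
    exact this.symm
  have hcol := R.col 0 2 1 (by decide) (by decide) (by decide) v.b v.c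
  unfold evU
  show x 0 1 v.a * x 1 2 v.b * x 0 2 v.c * z ^ v.i * nn x 0 1 =
    x 0 1 v.a * (nn x 0 1 * (x 0 1 0 * x 1 2 v.c * x 0 2 v.b * z ^ (v.i + 2 * trn (v.b * v.c))))
  rw [mrel_zero R 0 1 (by decide), one_mul]
  calc x 0 1 v.a * x 1 2 v.b * x 0 2 v.c * z ^ v.i * nn x 0 1
      = x 0 1 v.a * x 1 2 v.b * x 0 2 v.c * (z ^ v.i * nn x 0 1) := by simp only [mul_assoc]
    _ = x 0 1 v.a * x 1 2 v.b * (x 0 2 v.c * nn x 0 1) * z ^ v.i := by
        rw [hz]; simp only [mul_assoc]
    _ = x 0 1 v.a * (x 1 2 v.b * nn x 0 1) * x 1 2 v.c * z ^ v.i := by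
        rw [f2]; simp only [mul_assoc]
    _ = x 0 1 v.a * (nn x 0 1 * (x 0 2 v.b * x 1 2 v.c)) * z ^ v.i := by
        rw [f1]; simp only [mul_assoc]
    _ = _ := by rw [hcol, add_comm v.i, pow_add]; simp only [mul_assoc]

/-- `v n12 = x12(b) n12 v'` -/
theorem ev_pass2 (R : MRel x z h g) (v : U) :
    evU x z v * nn x 1 2 =
      x 1 2 v.b * (nn x 1 2 * evU x z ⟨v.c + v.a * v.b, 0, v.a,
        v.i + g (v.a * (v.b * v.b)) + 2 * trn (v.a * (v.c + v.a * v.b))⟩) := by
  have s1 : Equiv.swap (1 : Fin 3) 2 0 = 0 := by decide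
  have s2 : Equiv.swap (1 : Fin 3) 2 1 = 2 := by decide
  have s3 : Equiv.swap (1 : Fin 3) 2 2 = 1 := by decide
  have f1 : ∀ b, x 0 1 b * nn x 1 2 = nn x 1 2 * x 0 2 b := by
    intro b
    have := nn_conj R 1 2 0 2 (by decide) (by decide) b
    rw [s1, s3] at this
    exact this.symm
  have f2 : ∀ c, x 0 2 c * nn x 1 2 = nn x 1 2 * x 0 1 c := by
    intro c
    have := nn_conj R 1 2 0 1 (by decide) (by decide) c
    rw [s1, s2] at this
    exact this.symm
  have hz : ∀ i, z ^ i * nn x 1 2 = nn x 1 2 * z ^ i := fun i =>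
    ((z_comm_nn R 1 2 (by decide)).pow_left i).eq
  have hzx : ∀ i c, z ^ i * x 0 2 c = x 0 2 c * z ^ i := fun i c =>
    ((z_comm R 0 2 (by decide) c).pow_left i).eq
  have hsum := R.sum 0 2 1 (by decide) (by decide) (by decide) v.a v.b
  have hrow := R.row 0 2 1 (by decide) (by decide) (by decide) v.a (v.c + v.a * v.b)
  unfold evU
  show x 0 1 v.a * x 1 2 v.b * x 0 2 v.c * z ^ v.i * nn x 1 2 =
    x 1 2 v.b * (nn x 1 2 * (x 0 1 (v.c + v.a * v.b) * x 1 2 0 * x 0 2 v.a *
      z ^ (v.i + g (v.a * (v.b * v.b)) + 2 * trn (v.a * (v.c + v.a * v.b)))))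
  rw [mrel_zero R 1 2 (by decide), mul_one]
  calc x 0 1 v.a * x 1 2 v.b * x 0 2 v.c * z ^ v.i * nn x 1 2
      = x 1 2 v.b * x 0 1 v.a * (x 0 2 (v.a * v.b) * (z ^ g (v.a * (v.b * v.b)) * x 0 2 v.c)) *
          (z ^ v.i * nn x 1 2) := by
        rw [hsum]; simp only [mul_assoc]
    _ = x 1 2 v.b * x 0 1 v.a * (x 0 2 (v.a * v.b) * x 0 2 v.c) *
          (z ^ g (v.a * (v.b * v.b)) * (z ^ v.i * nn x 1 2)) := by
        rw [hzx]; simp only [mul_assoc]
    _ = x 1 2 v.b * x 0 1 v.a * x 0 2 (v.c + v.a * v.b) *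
          (nn x 1 2 * z ^ (v.i + g (v.a * (v.b * v.b)))) := by
        rw [R.add 0 2 (by decide), ← mul_assoc (z ^ g _), ← pow_add, hz, add_comm (v.a * v.b),
          add_comm (g _)]
    _ = x 1 2 v.b * x 0 1 v.a * (x 0 2 (v.c + v.a * v.b) * nn x 1 2) *
          z ^ (v.i + g (v.a * (v.b * v.b))) := by simp only [mul_assoc]
    _ = x 1 2 v.b * (x 0 1 v.a * nn x 1 2) * x 0 1 (v.c + v.a * v.b) *
          z ^ (v.i + g (v.a * (v.b * v.b))) := by rw [f2]; simp only [mul_assoc]
    _ = x 1 2 v.b * nn x 1 2 * (x 0 2 v.a * x 0 1 (v.c + v.a * v.b)) *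
          z ^ (v.i + g (v.a * (v.b * v.b))) := by rw [f1]; simp only [mul_assoc]
    _ = _ := by
        rw [hrow, add_comm (v.i + g _), pow_add z (2 * trn (v.a * (v.c + v.a * v.b)))]
        simp only [mul_assoc]

/-- `n x(c) n = x(c⁻¹) h^(2 lg c) n x(c⁻¹)` for the two simple roots -/
theorem neg_simple (R : MRel x z h g) (i j : Fin 3) (hij : i ≠ j) (hk : kap i j = ω) (c : F4)
    (hc : c ≠ 0) :
    nn x i j * x i j c * nn x i j = x i j (iv c) * h ^ (2 * lg c) * nn x i j * x i j (iv c) := by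
  have hn := nn_sq R i j hij
  have hk' : kap j i = ω2 := by
    revert hk
    have : ∀ i j : Fin 3, i ≠ j → kap i j = ω → kap j i = ω2 := by decide
    exact this i j hij
  have hsq := mrel_sq R i j hij 1
  -- `n x(1) n = x(1) n x(1)`
  have h1 : nn x i j * x i j 1 * nn x i j = x i j 1 * nn x i j * x i j 1 := by
    have e1 := nn_conj R i j i j hij hij 1
    rw [Equiv.swap_apply_left, Equiv.swap_apply_right] at e1
    rw [e1, mul_assoc, hn, mul_one]
    unfold nn
    calc x j i 1 = (x i j 1 * x i j 1) * x j i 1 * (x i j 1 * x i j 1) := by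
          rw [hsq, one_mul, mul_one]
      _ = _ := by simp only [mul_assoc]
  -- conjugate by powers of `h`
  have key : ∀ k : ℕ, ∀ c : F4, h ^ k * x i j c = x i j (ω2 ^ k * c) * h ^ k := by
    intro k
    induction k with
    | zero => intro c; simp
    | succ k ih =>
      intro c
      rw [pow_succ' h, mul_assoc, ih, ← mul_assoc, h_x R i j hij, hk', mul_assoc, pow_succ' ω2,
        mul_assoc]
  have h2 : h ^ 3 = 1 := R.h3
  have hnk := nn_hpow R i j hij
  have hlg : ∀ c : F4, c ≠ 0 → ω2 ^ (lg c) = iv c ∧ ω2 ^ (2 * lg c) = c := by decide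
  obtain ⟨l1, l2⟩ := hlg c hc
  set k := lg c with hkdef
  -- `x(c) = h^{2k} x(1) h^{-2k}`, `h^{-2k} = h^{k}`
  have hinv : h ^ (2 * k) * h ^ k = 1 := by
    rw [← pow_add, show 2 * k + k = 3 * k by ring, pow_mul, h2, one_pow]
  have hinv' : h ^ k * h ^ (2 * k) = 1 := by
    rw [← pow_add, show k + 2 * k = 3 * k by ring, pow_mul, h2, one_pow]
  have hx : x i j c = h ^ (2 * k) * x i j 1 * h ^ k := by
    have := key (2 * k) 1
    rw [mul_one, l2] at this
    rw [this, mul_assoc, hinv, mul_one]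
  have hx' : x i j (iv c) = h ^ k * x i j 1 * h ^ (2 * k) := by
    have := key k 1
    rw [mul_one, l1] at this
    rw [this, mul_assoc, hinv', mul_one]
  have hn4 : h ^ (2 * (2 * k)) = h ^ k := by
    rw [show 2 * (2 * k) = 3 * k + k by ring, pow_add, pow_mul, h2, one_pow, one_mul]
  have a1 : nn x i j * h ^ (2 * k) = h ^ k * nn x i j := by rw [hnk, hn4]
  have a2 : h ^ k * nn x i j = nn x i j * h ^ (2 * k) := a1.symm
  have a3 : nn x i j * h ^ k = h ^ (2 * k) * nn x i j := hnk k
  calc nn x i j * x i j c * nn x i j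
      = (nn x i j * h ^ (2 * k)) * x i j 1 * (h ^ k * nn x i j) := by
        rw [hx]; simp only [mul_assoc]
    _ = (h ^ k * nn x i j) * x i j 1 * (nn x i j * h ^ (2 * k)) := by rw [a1]
    _ = h ^ k * (nn x i j * x i j 1 * nn x i j) * h ^ (2 * k) := by simp only [mul_assoc]
    _ = h ^ k * x i j 1 * nn x i j * x i j 1 * h ^ (2 * k) := by
        rw [h1]; simp only [mul_assoc]
    _ = (h ^ k * x i j 1 * h ^ (2 * k)) * (h ^ k * nn x i j) * x i j 1 * h ^ (2 * k) := by
        have : h ^ (2 * k) * (h ^ k * nn x i j) = nn x i j := by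
          rw [← mul_assoc, hinv, one_mul]
        calc _ = h ^ k * x i j 1 * (h ^ (2 * k) * (h ^ k * nn x i j)) * x i j 1 * h ^ (2 * k) := by
              rw [this]
          _ = _ := by simp only [mul_assoc]
    _ = x i j (iv c) * (h ^ k * nn x i j) * x i j 1 * h ^ (2 * k) := by rw [← hx']
    _ = x i j (iv c) * (nn x i j * h ^ (2 * k)) * x i j 1 * h ^ (2 * k) := by rw [a2]
    _ = x i j (iv c) * (nn x i j * h ^ k * (h ^ k * x i j 1 * h ^ (2 * k))) := by
        rw [show 2 * k = k + k by ring, pow_add]; simp only [mul_assoc]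
    _ = x i j (iv c) * (h ^ (2 * k) * nn x i j * x i j (iv c)) := by rw [← hx', a3]
    _ = _ := by simp only [mul_assoc]

theorem ev_n1 (R : MRel x z h g) (c : Cd) :
    evC x z h τ (c.n1 g) = evC x z h τ c * nn x 0 1 := by
  obtain ⟨e, u, k, w, v⟩ := c
  have hp := ev_pass1 R v
  set v' : U := ⟨0, v.c, v.b, v.i + 2 * trn (v.b * v.c)⟩ with hv'
  have hrhs : evC x z h τ ⟨e, u, k, w, v⟩ * nn x 0 1 =
      τ ^ e * (evU x z u * h ^ k * (evW x w * (x 0 1 v.a * (nn x 0 1 * evU x z v')))) := by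
    rw [← hp]; unfold evC; simp only [mul_assoc]
  rw [hrhs]
  have hroot : ∀ w : W, w.root1 = none → ∃ r, w.r1.root1 = some r := by
    intro w hw
    cases w <;> simp only [W.root1, reduceCtorEq] at hw <;> exact ⟨_, rfl⟩
  unfold Cd.n1
  by_cases h0 : v.a = 0
  · simp only [h0, if_true]
    rw [mrel_zero R 0 1 (by decide), one_mul, ← mul_assoc (evW x w), evW_r1 R]
    unfold evC
    simp only [mul_assoc, hv']
  · simp only [h0, if_false]
    rcases hw : w.root1 with _ | r
    · obtain ⟨r, hr⟩ := hroot w hw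
      simp only [hr]
      have hww : evW x w = evW x w.r1 * nn x 0 1 := by
        rw [← evW_r1 R, mul_assoc, nn_sq R 0 1 (by decide), mul_one]
      have h1 := neg_simple R 0 1 (by decide) (by decide) v.a h0
      have h2 := evW_root1 R w.r1 r hr (iv v.a)
      have h3 := evW_h R w.r1 (2 * lg v.a)
      have h4 := hpow_evR R r k (iv v.a)
      have h5 : evW x w * (x 0 1 v.a * (nn x 0 1 * evU x z v')) =
          evR x r (iv v.a) * (h ^ (w.r1.sg * (2 * lg v.a)) * (evW x w * (x 0 1 (iv v.a) *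
            evU x z v'))) := by
        calc evW x w * (x 0 1 v.a * (nn x 0 1 * evU x z v'))
            = evW x w.r1 * (nn x 0 1 * x 0 1 v.a * nn x 0 1) * evU x z v' := by
              rw [hww]; simp only [mul_assoc]
          _ = (evW x w.r1 * x 0 1 (iv v.a)) * h ^ (2 * lg v.a) * nn x 0 1 * x 0 1 (iv v.a) *
                evU x z v' := by rw [h1]; simp only [mul_assoc]
          _ = evR x r (iv v.a) * (evW x w.r1 * h ^ (2 * lg v.a)) * nn x 0 1 * x 0 1 (iv v.a) *
                evU x z v' := by rw [h2]; simp only [mul_assoc]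
          _ = evR x r (iv v.a) * (h ^ (w.r1.sg * (2 * lg v.a)) * ((evW x w.r1 * nn x 0 1) *
                (x 0 1 (iv v.a) * evU x z v'))) := by rw [h3]; simp only [mul_assoc]
          _ = _ := by rw [← hww]
      have h6 : evU x z ⟨iv v.a, v'.b, v'.c, v'.i⟩ = x 0 1 (iv v.a) * evU x z v' := by
        unfold evU
        show _ = x 0 1 (iv v.a) * (x 0 1 0 * _ * _ * _)
        rw [mrel_zero R 0 1 (by decide), one_mul]; simp only [mul_assoc]
      rw [h5]
      unfold evC
      show τ ^ e * (evU x z (u.mr g r (tw r k (iv v.a))) * h ^ ((k + w.r1.sg * (2 * lg v.a)) % 3) *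
        evW x w * evU x z ⟨iv v.a, v'.b, v'.c, v'.i⟩) = _
      rw [ev_mr R, hpow_mod R, pow_add, h6]
      calc τ ^ e * (evU x z u * evR x r (tw r k (iv v.a)) * (h ^ k * h ^ (w.r1.sg * (2 * lg v.a))) *
              evW x w * (x 0 1 (iv v.a) * evU x z v'))
          = τ ^ e * (evU x z u * (evR x r (tw r k (iv v.a)) * h ^ k) *
              (h ^ (w.r1.sg * (2 * lg v.a)) * (evW x w * (x 0 1 (iv v.a) * evU x z v')))) := by
            simp only [mul_assoc]
        _ = _ := by rw [← h4]; simp only [mul_assoc]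
    · skip
      have h2 := evW_root1 R w r hw v.a
      have h4 := hpow_evR R r k v.a
      unfold evC
      show τ ^ e * (evU x z (u.mr g r (tw r k v.a)) * h ^ k * evW x w.r1 * evU x z v') = _
      rw [ev_mr R, ← evW_r1 R]
      calc τ ^ e * (evU x z u * evR x r (tw r k v.a) * h ^ k * (evW x w * nn x 0 1) * evU x z v')
          = τ ^ e * (evU x z u * (evR x r (tw r k v.a) * h ^ k) * (evW x w * (nn x 0 1 *
              evU x z v'))) := by simp only [mul_assoc]
        _ = τ ^ e * (evU x z u * h ^ k * ((evR x r v.a * evW x w) * (nn x 0 1 *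
              evU x z v'))) := by rw [← h4]; simp only [mul_assoc]
        _ = _ := by rw [← h2]; simp only [mul_assoc]

theorem ev_n2 (R : MRel x z h g) (c : Cd) :
    evC x z h τ (c.n2 g) = evC x z h τ c * nn x 1 2 := by
  obtain ⟨e, u, k, w, v⟩ := c
  have hp := ev_pass2 R v
  set v' : U := ⟨v.c + v.a * v.b, 0, v.a,
        v.i + g (v.a * (v.b * v.b)) + 2 * trn (v.a * (v.c + v.a * v.b))⟩ with hv'
  have hrhs : evC x z h τ ⟨e, u, k, w, v⟩ * nn x 1 2 =
      τ ^ e * (evU x z u * h ^ k * (evW x w * (x 1 2 v.b * (nn x 1 2 * evU x z v')))) := by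
    rw [← hp]; unfold evC; simp only [mul_assoc]
  rw [hrhs]
  have hroot : ∀ w : W, w.root2 = none → ∃ r, w.r2.root2 = some r := by
    intro w hw
    cases w <;> simp only [W.root2, reduceCtorEq] at hw <;> exact ⟨_, rfl⟩
  unfold Cd.n2
  by_cases h0 : v.b = 0
  · simp only [h0, if_true]
    rw [mrel_zero R 1 2 (by decide), one_mul, ← mul_assoc (evW x w), evW_r2 R]
    unfold evC
    simp only [mul_assoc, hv', h0]
  · simp only [h0, if_false]
    rcases hw : w.root2 with _ | r
    · obtain ⟨r, hr⟩ := hroot w hw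
      simp only [hr]
      have hww : evW x w = evW x w.r2 * nn x 1 2 := by
        rw [← evW_r2 R, mul_assoc, nn_sq R 1 2 (by decide), mul_one]
      have h1 := neg_simple R 1 2 (by decide) (by decide) v.b h0
      have h2 := evW_root2 R w.r2 r hr (iv v.b)
      have h3 := evW_h R w.r2 (2 * lg v.b)
      have h4 := hpow_evR R r k (iv v.b)
      have h5 : evW x w * (x 1 2 v.b * (nn x 1 2 * evU x z v')) =
          evR x r (iv v.b) * (h ^ (w.r2.sg * (2 * lg v.b)) * (evW x w * (x 1 2 (iv v.b) *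
            evU x z v'))) := by
        calc evW x w * (x 1 2 v.b * (nn x 1 2 * evU x z v'))
            = evW x w.r2 * (nn x 1 2 * x 1 2 v.b * nn x 1 2) * evU x z v' := by
              rw [hww]; simp only [mul_assoc]
          _ = (evW x w.r2 * x 1 2 (iv v.b)) * h ^ (2 * lg v.b) * nn x 1 2 * x 1 2 (iv v.b) *
                evU x z v' := by rw [h1]; simp only [mul_assoc]
          _ = evR x r (iv v.b) * (evW x w.r2 * h ^ (2 * lg v.b)) * nn x 1 2 * x 1 2 (iv v.b) *
                evU x z v' := by rw [h2]; simp only [mul_assoc]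
          _ = evR x r (iv v.b) * (h ^ (w.r2.sg * (2 * lg v.b)) * ((evW x w.r2 * nn x 1 2) *
                (x 1 2 (iv v.b) * evU x z v'))) := by rw [h3]; simp only [mul_assoc]
          _ = _ := by rw [← hww]
      have h6 : evU x z (U.mul g ⟨0, iv v.b, 0, 0⟩ v') = x 1 2 (iv v.b) * evU x z v' := by
        rw [ev_mul R]
        congr 1
        show x 0 1 0 * x 1 2 (iv v.b) * x 0 2 0 * z ^ 0 = _
        rw [mrel_zero R 0 1 (by decide), mrel_zero R 0 2 (by decide)]; simp
      rw [h5]
      unfold evC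
      show τ ^ e * (evU x z (u.mr g r (tw r k (iv v.b))) * h ^ ((k + w.r2.sg * (2 * lg v.b)) % 3) *
        evW x w * evU x z (U.mul g ⟨0, iv v.b, 0, 0⟩ v')) = _
      rw [ev_mr R, hpow_mod R, pow_add, h6]
      calc τ ^ e * (evU x z u * evR x r (tw r k (iv v.b)) * (h ^ k * h ^ (w.r2.sg * (2 * lg v.b))) *
              evW x w * (x 1 2 (iv v.b) * evU x z v'))
          = τ ^ e * (evU x z u * (evR x r (tw r k (iv v.b)) * h ^ k) *
              (h ^ (w.r2.sg * (2 * lg v.b)) * (evW x w * (x 1 2 (iv v.b) * evU x z v')))) := by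
            simp only [mul_assoc]
        _ = _ := by rw [← h4]; simp only [mul_assoc]
    · skip
      have h2 := evW_root2 R w r hw v.b
      have h4 := hpow_evR R r k v.b
      unfold evC
      show τ ^ e * (evU x z (u.mr g r (tw r k v.b)) * h ^ k * evW x w.r2 * evU x z v') = _
      rw [ev_mr R, ← evW_r2 R]
      calc τ ^ e * (evU x z u * evR x r (tw r k v.b) * h ^ k * (evW x w * nn x 1 2) * evU x z v')
          = τ ^ e * (evU x z u * (evR x r (tw r k v.b) * h ^ k) * (evW x w * (nn x 1 2 *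
              evU x z v'))) := by simp only [mul_assoc]
        _ = τ ^ e * (evU x z u * h ^ k * ((evR x r v.b * evW x w) * (nn x 1 2 *
              evU x z v'))) := by rw [← h4]; simp only [mul_assoc]
        _ = _ := by rw [← h2]; simp only [mul_assoc]

end CEval

/-! ## Multiplication by `τ` -/

namespace U

/-- conjugation by `τ` -/
def tau (g : F4 → ℕ) (u : U) : U :=
  U.mul g ⟨0, u.a * u.a, 0, 0⟩ ⟨u.b * u.b, 0, u.c * u.c, 3 * u.i⟩

end U

namespace Cd

/-- right multiplication by `τ` -/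
def t (g : F4 → ℕ) (c : Cd) : Cd :=
  ⟨(c.e + 1) % 2, c.u.tau g, (2 * c.k) % 3, c.w.tau, c.v.tau g⟩

end Cd

section Tau

variable {x : Fin 3 → Fin 3 → F4 → G} {z h τ : G} {g : F4 → ℕ}

theorem tpow_mod (E : Ext x z h τ g) (e : ℕ) : τ ^ (e % 2) = τ ^ e := by
  have h2 : τ ^ 2 = 1 := by rw [pow_two, E.tt]
  conv_rhs => rw [← Nat.div_add_mod e 2, pow_add, pow_mul, h2, one_pow, one_mul]

theorem x_tau (E : Ext x z h τ g) (i j : Fin 3) (hij : i ≠ j) (u : F4) :
    x i j u * τ = τ * x (rv j) (rv i) (u * u) := by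
  rw [← E.sg i j hij u]; group

theorem nn_tau (E : Ext x z h τ g) (i j : Fin 3) (hij : i ≠ j) :
    nn x i j * τ = τ * nn x (rv j) (rv i) := by
  have h1 := x_tau E i j hij 1
  have h2 := x_tau E j i hij.symm 1
  have e1 : (1 : F4) * 1 = 1 := by decide
  rw [e1] at h1 h2
  calc nn x i j * τ = x i j 1 * x j i 1 * (x i j 1 * τ) := by unfold nn; simp only [mul_assoc]
    _ = x i j 1 * (x j i 1 * τ) * x (rv j) (rv i) 1 := by rw [h1]; simp only [mul_assoc]
    _ = (x i j 1 * τ) * x (rv i) (rv j) 1 * x (rv j) (rv i) 1 := by rw [h2]; simp only [mul_assoc]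
    _ = _ := by rw [h1]; unfold nn; simp only [mul_assoc]

theorem z_tau (E : Ext x z h τ g) (i : ℕ) : z ^ i * τ = τ * z ^ (3 * i) := by
  have h1 : τ⁻¹ * z ^ i * τ = (z⁻¹) ^ i := by
    have := (MulAut.conj τ⁻¹).toMonoidHom.map_pow z i
    have h2 : (MulAut.conj τ⁻¹).toMonoidHom z = z⁻¹ := by
      show τ⁻¹ * z * τ⁻¹⁻¹ = z⁻¹
      rw [inv_inv]; exact E.zt
    rw [h2] at this
    rw [← this]
    show _ = τ⁻¹ * z ^ i * τ⁻¹⁻¹
    rw [inv_inv]
  have h3 : z⁻¹ = z ^ 3 := by
    rw [inv_eq_iff_mul_eq_one, ← pow_succ']; exact E.R.z4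
  rw [h3, ← pow_mul] at h1
  rw [← h1]; group

theorem evU_tau (E : Ext x z h τ g) (u : U) : evU x z u * τ = τ * evU x z (u.tau g) := by
  have R := E.R
  have h1 := x_tau E 0 1 (by decide) u.a
  have h2 := x_tau E 1 2 (by decide) u.b
  have h3 := x_tau E 0 2 (by decide) u.c
  have e0 : rv 0 = 2 := by decide
  have e1 : rv 1 = 1 := by decide
  have e2 : rv 2 = 0 := by decide
  rw [e0, e1] at h1
  rw [e1, e2] at h2
  rw [e0, e2] at h3
  have h4 : evU x z (u.tau g) = x 1 2 (u.a * u.a) * x 0 1 (u.b * u.b) * x 0 2 (u.c * u.c) *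
      z ^ (3 * u.i) := by
    unfold U.tau
    rw [ev_mul R]
    show (x 0 1 0 * x 1 2 (u.a * u.a) * x 0 2 0 * z ^ 0) *
      (x 0 1 (u.b * u.b) * x 1 2 0 * x 0 2 (u.c * u.c) * z ^ (3 * u.i)) = _
    rw [mrel_zero R 0 1 (by decide), mrel_zero R 0 2 (by decide), mrel_zero R 1 2 (by decide)]
    simp only [one_mul, mul_one, pow_zero, mul_assoc]
  rw [h4]
  unfold evU
  calc x 0 1 u.a * x 1 2 u.b * x 0 2 u.c * z ^ u.i * τ
      = x 0 1 u.a * x 1 2 u.b * x 0 2 u.c * (z ^ u.i * τ) := by simp only [mul_assoc]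
    _ = x 0 1 u.a * x 1 2 u.b * (x 0 2 u.c * τ) * z ^ (3 * u.i) := by
        rw [z_tau E]; simp only [mul_assoc]
    _ = x 0 1 u.a * (x 1 2 u.b * τ) * x 0 2 (u.c * u.c) * z ^ (3 * u.i) := by
        rw [h3]; simp only [mul_assoc]
    _ = (x 0 1 u.a * τ) * x 0 1 (u.b * u.b) * x 0 2 (u.c * u.c) * z ^ (3 * u.i) := by
        rw [h2]; simp only [mul_assoc]
    _ = _ := by rw [h1]; simp only [mul_assoc]

theorem h_tau (E : Ext x z h τ g) : h * τ = τ * h⁻¹ := by
  have R := E.R
  have hn := nn_sq R 0 1 (by decide)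
  -- `h = x01(ω) x10(ω²) x01(ω) n01`
  have t1 := R.torus 0 1 (by decide)
  have k1 : kap (0 : Fin 3) 1 = ω := by decide
  have k2 : kap (1 : Fin 3) 0 = ω2 := by decide
  have k3 : kap (1 : Fin 3) 2 = ω := by decide
  have k4 : kap (2 : Fin 3) 1 = ω2 := by decide
  rw [k1, k2] at t1
  change _ * nn x 0 1 = h at t1
  have h1 := x_tau E 0 1 (by decide) ω
  have h2 := x_tau E 1 0 (by decide) ω2
  have h3 := nn_tau E 0 1 (by decide)
  have e0 : rv 0 = 2 := by decide
  have e1 : rv 1 = 1 := by decide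
  have s1 : ω * ω = ω2 := by decide
  have s2 : ω2 * ω2 = ω := by decide
  rw [e0, e1] at h1 h2 h3
  rw [s1] at h1
  rw [s2] at h2
  -- `x12(ω²) x21(ω) x12(ω²) = h n12 h⁻¹`
  have f1 := h_x R 1 2 (by decide) 1
  have f2 := h_x R 2 1 (by decide) 1
  rw [k4, mul_one] at f1
  rw [k3, mul_one] at f2
  have f3 : h * nn x 1 2 = x 1 2 ω2 * x 2 1 ω * x 1 2 ω2 * h := by
    calc h * nn x 1 2 = (h * x 1 2 1) * x 2 1 1 * x 1 2 1 := by
          unfold nn; simp only [mul_assoc]
      _ = x 1 2 ω2 * (h * x 2 1 1) * x 1 2 1 := by rw [f1]; simp only [mul_assoc]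
      _ = x 1 2 ω2 * x 2 1 ω * (h * x 1 2 1) := by rw [f2]; simp only [mul_assoc]
      _ = _ := by rw [f1]; simp only [mul_assoc]
  have f4 := nn_mul_h R 1 2 (by decide)
  have f5 : nn x 1 2 * h⁻¹ = h * nn x 1 2 := by
    have := f4
    calc nn x 1 2 * h⁻¹ = h * (h⁻¹ * nn x 1 2) * h⁻¹ := by group
      _ = h * (nn x 1 2 * h) * h⁻¹ := by rw [f4]
      _ = _ := by group
  have hn2 := nn_sq R 1 2 (by decide)
  have h3' := R.h3
  calc h * τ = x 0 1 ω * x 1 0 ω2 * x 0 1 ω * (nn x 0 1 * τ) := by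
        rw [← mul_assoc, t1]
    _ = x 0 1 ω * x 1 0 ω2 * (x 0 1 ω * τ) * nn x 1 2 := by rw [h3]; simp only [mul_assoc]
    _ = x 0 1 ω * (x 1 0 ω2 * τ) * x 1 2 ω2 * nn x 1 2 := by rw [h1]; simp only [mul_assoc]
    _ = (x 0 1 ω * τ) * x 2 1 ω * x 1 2 ω2 * nn x 1 2 := by rw [h2]; simp only [mul_assoc]
    _ = τ * (x 1 2 ω2 * x 2 1 ω * x 1 2 ω2) * nn x 1 2 := by rw [h1]; simp only [mul_assoc]
    _ = τ * (h * nn x 1 2 * h⁻¹) * nn x 1 2 := by rw [f3]; group
    _ = τ * (h * (nn x 1 2 * h⁻¹) * nn x 1 2) := by simp only [mul_assoc]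
    _ = τ * (h * h * (nn x 1 2 * nn x 1 2)) := by rw [f5]; simp only [mul_assoc]
    _ = τ * (h ^ 3 * h⁻¹) := by rw [hn2, pow_three]; group
    _ = τ * h⁻¹ := by rw [h3', one_mul]

theorem hpow_tau (E : Ext x z h τ g) (k : ℕ) : h ^ k * τ = τ * h ^ ((2 * k) % 3) := by
  rw [hpow_mod E.R]
  have h1 : h⁻¹ = h ^ 2 := by
    rw [inv_eq_iff_mul_eq_one, ← pow_succ']; exact E.R.h3
  induction k with
  | zero => simp
  | succ k ih =>
    rw [pow_succ, mul_assoc, h_tau E, h1, ← mul_assoc, ih, mul_assoc, ← pow_add]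
    congr 2

theorem evW_tau (E : Ext x z h τ g) (w : W) : evW x w * τ = τ * evW x w.tau := by
  have h1 := nn_tau E 0 1 (by decide)
  have h2 := nn_tau E 1 2 (by decide)
  have e0 : rv 0 = 2 := by decide
  have e1 : rv 1 = 1 := by decide
  have e2 : rv 2 = 0 := by decide
  rw [e0, e1] at h1
  rw [e1, e2] at h2
  have hb := braid E.R
  cases w
  · show 1 * τ = τ * 1
    rw [one_mul, mul_one]
  · exact h1
  · exact h2
  · show nn x 0 1 * nn x 1 2 * τ = τ * (nn x 1 2 * nn x 0 1)
    rw [mul_assoc, h2, ← mul_assoc, h1, mul_assoc]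
  · show nn x 1 2 * nn x 0 1 * τ = τ * (nn x 0 1 * nn x 1 2)
    rw [mul_assoc, h1, ← mul_assoc, h2, mul_assoc]
  · show nn x 0 1 * nn x 1 2 * nn x 0 1 * τ = τ * (nn x 0 1 * nn x 1 2 * nn x 0 1)
    rw [mul_assoc, h1, ← mul_assoc, mul_assoc (nn x 0 1), h2, ← mul_assoc, h1, hb]
    simp only [mul_assoc]

theorem ev_t (E : Ext x z h τ g) (c : Cd) :
    evC x z h τ (c.t g) = evC x z h τ c * τ := by
  obtain ⟨e, u, k, w, v⟩ := c
  show τ ^ ((e + 1) % 2) * (evU x z (u.tau g) * h ^ ((2 * k) % 3) * evW x w.tau *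
    evU x z (v.tau g)) = τ ^ e * (evU x z u * h ^ k * evW x w * evU x z v) * τ
  symm
  calc τ ^ e * (evU x z u * h ^ k * evW x w * evU x z v) * τ
      = τ ^ e * (evU x z u * h ^ k * evW x w * (evU x z v * τ)) := by simp only [mul_assoc]
    _ = τ ^ e * (evU x z u * h ^ k * (evW x w * τ) * evU x z (v.tau g)) := by
        rw [evU_tau E]; simp only [mul_assoc]
    _ = τ ^ e * (evU x z u * (h ^ k * τ) * evW x w.tau * evU x z (v.tau g)) := by
        rw [evW_tau E]; simp only [mul_assoc]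
    _ = τ ^ e * ((evU x z u * τ) * h ^ ((2 * k) % 3) * evW x w.tau * evU x z (v.tau g)) := by
        rw [hpow_tau E]; simp only [mul_assoc]
    _ = _ := by rw [evU_tau E, tpow_mod E, pow_succ]; simp only [mul_assoc]

end Tau

/-! ## Words -/

/-- letters -/
inductive L
  | p : Rt → F4 → L
  | n1 : L
  | n2 : L
  | z : L
  | t : L

/-- value of a letter -/
def evL (x : Fin 3 → Fin 3 → F4 → G) (z τ : G) : L → G
  | .p r c => evR x r c
  | .n1 => nn x 0 1
  | .n2 => nn x 1 2
  | .z => z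
  | .t => τ

/-- value of a word -/
def evWd (x : Fin 3 → Fin 3 → F4 → G) (z τ : G) (l : List L) : G := (l.map (evL x z τ)).prod

/-- multiply a code by a letter -/
def stp (g : F4 → ℕ) (c : Cd) : L → Cd
  | .p .a v => c.mu g ⟨v, 0, 0, 0⟩
  | .p .b v => c.mu g ⟨0, v, 0, 0⟩
  | .p .c v => c.mu g ⟨0, 0, v, 0⟩
  | .n1 => c.n1 g
  | .n2 => c.n2 g
  | .z => c.mu g ⟨0, 0, 0, 1⟩
  | .t => c.t g

/-- identity code -/
def Cd.one : Cd := ⟨0, U.one, 0, .e, U.one⟩

section Words

variable {x : Fin 3 → Fin 3 → F4 → G} {z h τ : G} {g : F4 → ℕ}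

theorem ev_stp (E : Ext x z h τ g) (c : Cd) (l : L) :
    evC x z h τ (stp g c l) = evC x z h τ c * evL x z τ l := by
  have R := E.R
  have z1 := mrel_zero R 0 1 (by decide)
  have z2 := mrel_zero R 1 2 (by decide)
  have z3 := mrel_zero R 0 2 (by decide)
  cases l with
  | p r v =>
    cases r
    · show evC x z h τ (c.mu g ⟨v, 0, 0, 0⟩) = _
      rw [ev_mu R]
      show _ * (x 0 1 v * x 1 2 0 * x 0 2 0 * z ^ 0) = _ * x 0 1 v
      rw [z2, z3]; simp
    · show evC x z h τ (c.mu g ⟨0, v, 0, 0⟩) = _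
      rw [ev_mu R]
      show _ * (x 0 1 0 * x 1 2 v * x 0 2 0 * z ^ 0) = _ * x 1 2 v
      rw [z1, z3]; simp
    · show evC x z h τ (c.mu g ⟨0, 0, v, 0⟩) = _
      rw [ev_mu R]
      show _ * (x 0 1 0 * x 1 2 0 * x 0 2 v * z ^ 0) = _ * x 0 2 v
      rw [z1, z2]; simp
  | n1 => exact ev_n1 R c
  | n2 => exact ev_n2 R c
  | z =>
    show evC x z h τ (c.mu g ⟨0, 0, 0, 1⟩) = _
    rw [ev_mu R]
    show _ * (x 0 1 0 * x 1 2 0 * x 0 2 0 * z ^ 1) = _ * z
    rw [z1, z2, z3]; simp
  | t => exact ev_t E c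

theorem ev_one' (E : Ext x z h τ g) : evC x z h τ Cd.one = 1 := by
  show τ ^ 0 * (evU x z U.one * h ^ 0 * 1 * evU x z U.one) = 1
  rw [ev_one E.R]; simp

theorem ev_foldl (E : Ext x z h τ g) (l : List L) (c : Cd) :
    evC x z h τ (l.foldl (stp g) c) = evC x z h τ c * evWd x z τ l := by
  induction l generalizing c with
  | nil => simp [evWd]
  | cons a l ih =>
    rw [List.foldl_cons, ih, ev_stp E, mul_assoc]
    simp [evWd]

/-- the check: the code represents the identity -/
def Cd.isOne (g : F4 → ℕ) (c : Cd) : Bool :=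
  c.e % 2 == 0 && c.k % 3 == 0 &&
    (match c.w with
      | .e => true
      | _ => false) &&
    (let u := c.u.mul g c.v
     u.a == 0 && u.b == 0 && u.c == 0 && u.i % 4 == 0)

theorem ev_isOne (E : Ext x z h τ g) (c : Cd) (hc : c.isOne g = true) : evC x z h τ c = 1 := by
  obtain ⟨e, u, k, w, v⟩ := c
  unfold Cd.isOne at hc
  simp only [Bool.and_eq_true, beq_iff_eq] at hc
  obtain ⟨⟨⟨h1, h2⟩, h3⟩, ⟨⟨h4, h5⟩, h6⟩, h7⟩ := hc
  have hw : w = .e := by cases w <;> simp_all
  subst hw
  show τ ^ e * (evU x z u * h ^ k * 1 * evU x z v) = 1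
  rw [← tpow_mod E, h1, ← hpow_mod E.R, h2, pow_zero, pow_zero, one_mul, mul_one, mul_one,
    ← ev_mul E.R]
  unfold evU
  rw [h4, h5, h6, ← pow_mod E.R, h7, mrel_zero E.R 0 1 (by decide), mrel_zero E.R 1 2 (by decide),
    mrel_zero E.R 0 2 (by decide)]
  simp

/-- evaluation of words -/
theorem ev_eq_one (E : Ext x z h τ g) (l : List L)
    (hl : (l.foldl (stp g) Cd.one).isOne g = true) : evWd x z τ l = 1 := by
  have h1 := ev_foldl E l Cd.one
  rw [ev_one' E, one_mul, ev_isOne E _ hl] at h1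
  exact h1.symm

theorem evWd_append (l m : List L) : evWd x z τ (l ++ m) = evWd x z τ l * evWd x z τ m := by
  simp [evWd]

/-- inverse of a letter -/
def linv : L → List L
  | .z => [.z, .z, .z]
  | l => [l]

/-- inverse of a word -/
def winv : List L → List L
  | [] => []
  | a :: l => winv l ++ linv a

/-- power of a word -/
def wpow (l : List L) : ℕ → List L
  | 0 => []
  | n + 1 => wpow l n ++ l

theorem ev_linv (E : Ext x z h τ g) (a : L) : evWd x z τ (linv a) = (evL x z τ a)⁻¹ := by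
  have R := E.R
  cases a with
  | p r v =>
    have : evR x r v * evR x r v = 1 := by
      cases r
      · exact mrel_sq R 0 1 (by decide) v
      · exact mrel_sq R 1 2 (by decide) v
      · exact mrel_sq R 0 2 (by decide) v
    show [evR x r v].prod = _
    rw [List.prod_singleton]
    exact eq_inv_of_mul_eq_one_left this
  | n1 =>
    show [nn x 0 1].prod = _
    rw [List.prod_singleton]
    exact eq_inv_of_mul_eq_one_left (nn_sq R 0 1 (by decide))
  | n2 =>
    show [nn x 1 2].prod = _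
    rw [List.prod_singleton]
    exact eq_inv_of_mul_eq_one_left (nn_sq R 1 2 (by decide))
  | z =>
    show [z, z, z].prod = z⁻¹
    apply eq_inv_of_mul_eq_one_left
    rw [← R.z4]
    simp only [List.prod_cons, List.prod_nil, pow_succ, pow_zero, one_mul, mul_one, mul_assoc]
  | t =>
    show [τ].prod = _
    rw [List.prod_singleton]
    exact eq_inv_of_mul_eq_one_left E.tt

theorem ev_winv (E : Ext x z h τ g) (l : List L) : evWd x z τ (winv l) = (evWd x z τ l)⁻¹ := by
  induction l with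
  | nil => simp [winv, evWd]
  | cons a l ih =>
    rw [winv, evWd_append, ih, ev_linv E]
    have : evWd x z τ (a :: l) = evL x z τ a * evWd x z τ l := by simp [evWd]
    rw [this, mul_inv_rev]

theorem ev_wpow (l : List L) (n : ℕ) : evWd x z τ (wpow l n) = (evWd x z τ l) ^ n := by
  induction n with
  | zero => simp [wpow, evWd]
  | succ n ih => rw [wpow, evWd_append, ih, pow_succ]

/-- the check of a relation -/
def chk (g : F4 → ℕ) (l m : List L) : Bool := ((l ++ winv m).foldl (stp g) Cd.one).isOne g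

theorem eq_of_chk (E : Ext x z h τ g) (l m : List L) (hl : chk g l m = true) :
    evWd x z τ l = evWd x z τ m := by
  have h1 := ev_eq_one E _ hl
  rw [evWd_append, ev_winv E] at h1
  exact mul_inv_eq_one.mp h1

end Words

end Cfsg.Agent.ONType.Eval
end

-- part: ONType/RelFour
section
/-!
# The four tuples `(a,b,c,d,f,g)` in the centraliser

`RelF` for the four tuples of elements of the split extension by `σγ` of the cover of type II, and
generation.
-/

set_option autoImplicit false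
set_option linter.constructorNameAsVariable false
set_option linter.unusedVariables false

namespace Cfsg.Agent.ONType.RelFour

open Cfsg.Agent.SporadicA.FieldFour
open Cfsg.Agent.ONType.Psl
open Cfsg.Agent.ONType.Data
open Cfsg.Agent.ONType.Eval
open Cfsg.Agent.ONType.OuterZ
open Cfsg.Agent.ONType.Hom

variable {G : Type*} [Group G]

/-- word of `a` -/
def wa : List L := [.p .c 1]
/-- word of `b` -/
def wb : List L := [.n1, .n2, .p .b 1, .n2, .n1]
/-- word of `c` -/
def wc : List L := [.p .b 1, .p .c 1, .z, .z]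
/-- word of `f` -/
def wf : List L := [.z, .z]
/-- word of `d` -/
def wd : Fin 4 → List L
  | 0 => [.t]
  | 1 => [.t]
  | 2 => [.t, .z]
  | 3 => [.t, .z]
/-- word of `g` -/
def wg : Fin 4 → List L
  | 0 => [.t, .p .a ω, .p .b ω2, .p .c ω2, .z, .z, .z]
  | 1 => [.t, .p .a ω2, .p .b ω, .p .c ω, .z, .z, .z]
  | 2 => [.t, .p .a ω, .p .b ω2, .p .c ω2]
  | 3 => [.t, .p .a ω2, .p .b ω, .p .c ω]

/-- the element `d` -/
def ed (z τ : G) : Fin 4 → G
  | 0 => τ
  | 1 => τ
  | 2 => τ * z
  | 3 => τ * z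

/-- the element `g` -/
def eg (x : Fin 3 → Fin 3 → F4 → G) (z τ : G) : Fin 4 → G
  | 0 => τ * (x 0 1 ω * x 1 2 ω2 * x 0 2 ω2 * z ^ 3)
  | 1 => τ * (x 0 1 ω2 * x 1 2 ω * x 0 2 ω * z ^ 3)
  | 2 => τ * (x 0 1 ω * x 1 2 ω2 * x 0 2 ω2)
  | 3 => τ * (x 0 1 ω2 * x 1 2 ω * x 0 2 ω)

variable {x : Fin 3 → Fin 3 → F4 → G} {z h τ : G}

theorem ev_a : evWd x z τ wa = x 0 2 1 := by simp [wa, evWd, evL, evR]

theorem ev_c : evWd x z τ wc = x 1 2 1 * x 0 2 1 * z ^ 2 := by
  simp [wc, evWd, evL, evR, pow_two, mul_assoc]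

theorem ev_f : evWd x z τ wf = z ^ 2 := by simp [wf, evWd, evL, pow_two]

theorem ev_d (i : Fin 4) : evWd x z τ (wd i) = ed z τ i := by
  fin_cases i <;> simp [wd, ed, evWd, evL]

theorem ev_g (i : Fin 4) : evWd x z τ (wg i) = eg x z τ i := by
  fin_cases i <;> simp [wg, eg, evWd, evL, evR, mul_assoc, pow_succ]

theorem ev_b {g : F4 → ℕ} (R : MRel x z h g) : evWd x z τ wb = x 2 0 1 := by
  have h1 := nn_conj R 1 2 1 2 (by decide) (by decide) 1
  have h2 := nn_conj R 0 1 2 1 (by decide) (by decide) 1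
  have s1 : Equiv.swap (1 : Fin 3) 2 1 = 2 := by decide
  have s2 : Equiv.swap (1 : Fin 3) 2 2 = 1 := by decide
  have s3 : Equiv.swap (0 : Fin 3) 1 2 = 2 := by decide
  have s4 : Equiv.swap (0 : Fin 3) 1 1 = 0 := by decide
  rw [s1, s2] at h1
  rw [s3, s4] at h2
  have n1 := nn_sq R 0 1 (by decide)
  have n2 := nn_sq R 1 2 (by decide)
  have e : evWd x z τ wb = nn x 0 1 * (nn x 1 2 * x 1 2 1) * nn x 1 2 * nn x 0 1 := by
    simp [wb, evWd, evL, evR, mul_assoc]
  rw [e, h1]
  calc nn x 0 1 * (x 2 1 1 * nn x 1 2) * nn x 1 2 * nn x 0 1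
      = (nn x 0 1 * x 2 1 1) * (nn x 1 2 * nn x 1 2) * nn x 0 1 := by simp only [mul_assoc]
    _ = x 2 0 1 := by rw [h2, n2, mul_one, mul_assoc, n1, mul_one]

/-- **The relations of `C(f)`**. -/
theorem relF (E : Ext x z h τ gII) (i : Fin 4) :
    RelF (x 0 2 1) (x 2 0 1) (x 1 2 1 * x 0 2 1 * z ^ 2) (ed z τ i) (z ^ 2) (eg x z τ i) := by
  rw [← ev_c (x := x) (z := z) (τ := τ), ← ev_a (x := x) (z := z) (τ := τ), ← ev_b (τ := τ) E.R,
    ← ev_f (x := x) (z := z) (τ := τ), ← ev_d (x := x) i, ← ev_g i]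
  have key := eq_of_chk E
  have e1 : evWd x z τ [] = 1 := rfl
  constructor
  · have := key (wa ++ wa) [] (by decide +kernel)
    simpa only [evWd_append, ev_wpow, ev_winv E, e1] using this
  · have := key (wb ++ wb) [] (by decide +kernel)
    simpa only [evWd_append, ev_wpow, ev_winv E, e1] using this
  · have := key (wc ++ wc) [] (by decide +kernel)
    simpa only [evWd_append, ev_wpow, ev_winv E, e1] using this
  · have := key (wd i ++ wd i) [] (by revert i; decide +kernel)
    simpa only [evWd_append, ev_wpow, ev_winv E, e1] using this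
  · have := key (wf ++ wf) [] (by decide +kernel)
    simpa only [evWd_append, ev_wpow, ev_winv E, e1] using this
  · have := key (wpow (wa ++ wb) 3) [] (by decide +kernel)
    simpa only [evWd_append, ev_wpow, ev_winv E, e1] using this
  · have := key (wpow (wb ++ wc) 3) [] (by decide +kernel)
    simpa only [evWd_append, ev_wpow, ev_winv E, e1] using this
  · have := key (wpow (wc ++ wd i) 8) [] (by revert i; decide +kernel)
    simpa only [evWd_append, ev_wpow, ev_winv E, e1] using this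
  · have := key (wa ++ wc) (wc ++ wa) (by decide +kernel)
    simpa only [evWd_append, ev_wpow, ev_winv E, e1] using this
  · have := key (wa ++ wd i) (wd i ++ wa) (by revert i; decide +kernel)
    simpa only [evWd_append, ev_wpow, ev_winv E, e1] using this
  · have := key (wa ++ wf) (wf ++ wa) (by decide +kernel)
    simpa only [evWd_append, ev_wpow, ev_winv E, e1] using this
  · have := key (wb ++ wd i) (wd i ++ wb) (by revert i; decide +kernel)
    simpa only [evWd_append, ev_wpow, ev_winv E, e1] using this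
  · have := key (wb ++ wf) (wf ++ wb) (by decide +kernel)
    simpa only [evWd_append, ev_wpow, ev_winv E, e1] using this
  · have := key (wc ++ wf) (wf ++ wc) (by decide +kernel)
    simpa only [evWd_append, ev_wpow, ev_winv E, e1] using this
  · have := key (wd i ++ wf) (wf ++ wd i) (by revert i; decide +kernel)
    simpa only [evWd_append, ev_wpow, ev_winv E, e1] using this
  · have := key (wa ++ wf) (wg i ++ wg i) (by revert i; decide +kernel)
    simpa only [evWd_append, ev_wpow, ev_winv E, e1] using this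
  · have := key (wa ++ wf) (wpow (wc ++ wd i) 4) (by revert i; decide +kernel)
    simpa only [evWd_append, ev_wpow, ev_winv E, e1] using this
  · have := key (wc ++ (winv (wd i ++ wg i ++ wd i ++ wg i) ++ wc ++ (wd i ++ wg i ++ wd i ++ wg i)))
      [] (by revert i; decide +kernel)
    simpa only [evWd_append, ev_wpow, ev_winv E, e1] using this
  · have := key (wd i ++ (winv (wc ++ wg i ++ wc ++ wg i) ++ wd i ++ (wc ++ wg i ++ wc ++ wg i)))
      [] (by revert i; decide +kernel)
    simpa only [evWd_append, ev_wpow, ev_winv E, e1] using this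
  · have := key (wpow (wb ++ wc ++ wd i ++ wg i) 5) [] (by revert i; decide +kernel)
    simpa only [evWd_append, ev_wpow, ev_winv E, e1] using this
  · have := key (wg i ++ wb ++ (winv wc ++ wg i ++ wc) ++ (winv wb ++ wg i ++ wb) ++
      (winv wc ++ wg i ++ wc)) [] (by revert i; decide +kernel)
    simpa only [evWd_append, ev_wpow, ev_winv E, e1] using this

/-- words of the four generators -/
def wgen (i : Fin 4) : Fin 4 → List L
  | 0 => wb
  | 1 => wc
  | 2 => wd i
  | 3 => wg i

/-- word in the four generators -/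
def wsub (i : Fin 4) (s : List (Fin 4)) : List L := (s.map (wgen i)).flatten

theorem wsub_mem (i : Fin 4) (K : Subgroup G) (hK : ∀ j, evWd x z τ (wgen i j) ∈ K)
    (s : List (Fin 4)) : evWd x z τ (wsub i s) ∈ K := by
  induction s with
  | nil => exact K.one_mem
  | cons a s ih =>
    have : evWd x z τ (wsub i (a :: s)) = evWd x z τ (wgen i a) * evWd x z τ (wsub i s) := by
      unfold wsub
      rw [List.map_cons, List.flatten_cons, evWd_append]
    rw [this]
    exact K.mul_mem (hK a) ih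

/-- words for `x01(1), x01(ω), n01, n12, z, τ` -/
def sw1 : List (Fin 4) := [1, 2, 1, 2, 1]
/-- word -/
def sw2 : Fin 4 → List (Fin 4)
  | 0 => [0, 1, 2, 1, 0, 3, 3, 0, 1, 2, 3, 0, 1, 3, 0, 2, 3]
  | 1 => [0, 1, 3, 3, 0, 1, 2, 1, 0, 2, 1, 3, 0, 1, 3, 0, 2, 3]
  | 2 => [0, 1, 2, 1, 0, 3, 3, 0, 1, 2, 3, 0, 1, 3, 0, 2, 3]
  | 3 => [0, 1, 3, 3, 0, 1, 2, 1, 0, 2, 1, 3, 0, 1, 3, 0, 2, 3]
/-- word -/
def sw3 : List (Fin 4) := [0, 2, 1, 0, 2, 1, 0, 2, 1, 0, 2]
/-- word -/
def sw4 : List (Fin 4) := [0, 1, 0, 2, 1, 0, 2, 1, 0]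
/-- word -/
def sw5 : List (Fin 4) := [3, 2, 3, 2, 3, 3]
/-- word -/
def sw6 : Fin 4 → List (Fin 4)
  | 0 => [2]
  | 1 => [2]
  | 2 => [3, 2, 3, 3, 3]
  | 3 => [3, 2, 3, 3, 3]

theorem x_mem_of {g : F4 → ℕ} (R : MRel x z h g) (K : Subgroup G) (h1 : x 0 1 1 ∈ K)
    (h2 : x 0 1 ω ∈ K) (h3 : nn x 0 1 ∈ K) (h4 : nn x 1 2 ∈ K) :
    ∀ i j, i ≠ j → ∀ u, x i j u ∈ K := by
  have h5 : ∀ u, x 0 1 u ∈ K := by
    intro u
    cases u
    · have := mrel_zero R 0 1 (by decide)
      show x 0 1 0 ∈ K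
      rw [this]; exact K.one_mem
    · exact h1
    · exact h2
    · have e : F4.v = 1 + ω := by decide
      rw [e, ← R.add 0 1 (by decide)]
      exact K.mul_mem h1 h2
  have key : ∀ i j k l : Fin 3, i ≠ j → k ≠ l → nn x i j ∈ K → (∀ u, x k l u ∈ K) →
      ∀ u, x (Equiv.swap i j k) (Equiv.swap i j l) u ∈ K := by
    intro i j k l hij hkl hn hx u
    have := nn_conj R i j k l hij hkl u
    have e : x (Equiv.swap i j k) (Equiv.swap i j l) u = nn x i j * x k l u * (nn x i j)⁻¹ := by
      rw [this]; group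
    rw [e]
    exact K.mul_mem (K.mul_mem hn (hx u)) (K.inv_mem hn)
  have a1 : ∀ u, x 1 0 u ∈ K := by
    intro u
    have := key 0 1 0 1 (by decide) (by decide) h3 h5 u
    rwa [show Equiv.swap (0 : Fin 3) 1 0 = 1 by decide, show Equiv.swap (0 : Fin 3) 1 1 = 0 by decide]
      at this
  have a2 : ∀ u, x 0 2 u ∈ K := by
    intro u
    have := key 1 2 0 1 (by decide) (by decide) h4 h5 u
    rwa [show Equiv.swap (1 : Fin 3) 2 0 = 0 by decide, show Equiv.swap (1 : Fin 3) 2 1 = 2 by decide]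
      at this
  have a3 : ∀ u, x 2 0 u ∈ K := by
    intro u
    have := key 1 2 1 0 (by decide) (by decide) h4 a1 u
    rwa [show Equiv.swap (1 : Fin 3) 2 0 = 0 by decide, show Equiv.swap (1 : Fin 3) 2 1 = 2 by decide]
      at this
  have a4 : ∀ u, x 1 2 u ∈ K := by
    intro u
    have := key 0 1 0 2 (by decide) (by decide) h3 a2 u
    rwa [show Equiv.swap (0 : Fin 3) 1 0 = 1 by decide, show Equiv.swap (0 : Fin 3) 1 2 = 2 by decide]
      at this
  have a5 : ∀ u, x 2 1 u ∈ K := by
    intro u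
    have := key 0 1 2 0 (by decide) (by decide) h3 a3 u
    rwa [show Equiv.swap (0 : Fin 3) 1 0 = 1 by decide, show Equiv.swap (0 : Fin 3) 1 2 = 2 by decide]
      at this
  intro i j hij u
  fin_cases i <;> fin_cases j
  · exact absurd rfl hij
  · exact h5 u
  · exact a2 u
  · exact a1 u
  · exact absurd rfl hij
  · exact a4 u
  · exact a3 u
  · exact a5 u
  · exact absurd rfl hij

/-- **Generation.** -/
theorem mem_of (E : Ext x z h τ gII) (i : Fin 4) (K : Subgroup G) (hb : x 2 0 1 ∈ K)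
    (hc : x 1 2 1 * x 0 2 1 * z ^ 2 ∈ K) (hd : ed z τ i ∈ K) (hg : eg x z τ i ∈ K) :
    (∀ i j, i ≠ j → ∀ u, x i j u ∈ K) ∧ z ∈ K ∧ τ ∈ K := by
  have hK : ∀ j, evWd x z τ (wgen i j) ∈ K := by
    intro j
    fin_cases j
    · show evWd x z τ wb ∈ K
      rw [ev_b E.R]; exact hb
    · show evWd x z τ wc ∈ K
      rw [ev_c]; exact hc
    · show evWd x z τ (wd i) ∈ K
      rw [ev_d]; exact hd
    · show evWd x z τ (wg i) ∈ K
      rw [ev_g]; exact hg
  have key := eq_of_chk E
  have m1 : x 0 1 1 ∈ K := by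
    have h1 := key (wsub i sw1) [.p .a 1] ((by decide +kernel : ∀ i, chk gII (wsub i sw1) [.p .a 1] = true) i)
    have h2 : evWd x z τ [.p .a 1] = x 0 1 1 := by simp [evWd, evL, evR]
    rw [← h2, ← h1]; exact wsub_mem i K hK _
  have m2 : x 0 1 ω ∈ K := by
    have h1 := key (wsub i (sw2 i)) [.p .a ω] ((by decide +kernel : ∀ i, chk gII (wsub i (sw2 i)) [.p .a ω] = true) i)
    have h2 : evWd x z τ [.p .a ω] = x 0 1 ω := by simp [evWd, evL, evR]
    rw [← h2, ← h1]; exact wsub_mem i K hK _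
  have m3 : nn x 0 1 ∈ K := by
    have h1 := key (wsub i sw3) [.n1] ((by decide +kernel : ∀ i, chk gII (wsub i sw3) [.n1] = true) i)
    have h2 : evWd x z τ [.n1] = nn x 0 1 := by simp [evWd, evL]
    rw [← h2, ← h1]; exact wsub_mem i K hK _
  have m4 : nn x 1 2 ∈ K := by
    have h1 := key (wsub i sw4) [.n2] ((by decide +kernel : ∀ i, chk gII (wsub i sw4) [.n2] = true) i)
    have h2 : evWd x z τ [.n2] = nn x 1 2 := by simp [evWd, evL]
    rw [← h2, ← h1]; exact wsub_mem i K hK _
  have m5 : z ∈ K := by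
    have h1 := key (wsub i sw5) [.z] ((by decide +kernel : ∀ i, chk gII (wsub i sw5) [.z] = true) i)
    have h2 : evWd x z τ [.z] = z := by simp [evWd, evL]
    rw [← h2, ← h1]; exact wsub_mem i K hK _
  have m6 : τ ∈ K := by
    have h1 := key (wsub i (sw6 i)) [.t] ((by decide +kernel : ∀ i, chk gII (wsub i (sw6 i)) [.t] = true) i)
    have h2 : evWd x z τ [.t] = τ := by simp [evWd, evL]
    rw [← h2, ← h1]; exact wsub_mem i K hK _
  exact ⟨x_mem_of E.R K m1 m2 m3 m4, m5, m6⟩

end Cfsg.Agent.ONType.RelFour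
end

-- part: ONType/CfTab
section
/-!
# Action of the involution centraliser of O'Nan type on the 630 conjugates of `a`

Static certificate: the action of `b, c, d, g` (letters `0, 1, 2, 3`, `4 = g⁻¹`) on the orbit of a point
fixed by `c, d, g` follows from relations of the presentation.
-/

set_option autoImplicit false
set_option maxRecDepth 100000
set_option linter.unusedVariables false

namespace Cfsg.Agent.ONType.CfTab

open Cfsg.Agent.SporadicRecognition.CosetCert Cfsg.Agent.SporadicRecognition.CosetCertHyp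

/-- transition table: field `5 i + s` is `rank * 1024 + target + 1` -/
noncomputable def TT : ℕ := 0x65a3e5a3e753e653a633a6536653e76065a325c427442743e743a740651366b3a603a6c06413a73063a3e5d3a4b3e723e4136363a463a37063536492a6c32632a6006332666365e062b3a6d3a613a2c3a5b3e6632583a3f062a36663a5b3a6f3a40062806262a703a733a673e6c365c367306263a380a273a5432570624363b0a253e523e533e6906223e523a5106213e683a233e53061e3a643a1f3a6c3a463e6e366d2a5e061e267036753a75365a3e76061d3a67061b3a1c3a5b3a4a32703226325c061b3a76363806183a1a3e583e3c06183a383a193a6f3a453a73365c2a700618265e363b3a3c3a14364706133e58366f2a66061026603e72060a3a0b3a133e0e3660366b3263060932753a6d3a6e362b3a6406083e76027636650275060505fe2e0432062e003a593a2b3e5e326e3e6205fe326a05fb39fd3a113e4d35f8322d31fa05f7325605f03a1139f13a493e3d39fb3a6a35fc05f036403e693df53a5305ef3e6839f53e693e5205ee3e6905ed3a683a5131f6027435f73a0139f905ec3e2205eb09ec31f23a2e36233a2e05ea362f31f8364e3e3e05e43a422e153e5705e43e3e3a432e293a3f31e62e0b3a7205e02d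e105dc323031dd36073a64364705d935da3a5536712ddd29d832302a1205d705d5364935d7365f36303a7105d435d63a463a673a293a15361705d23a613a153e293a1605d13a3b2de805cd3a4c2a172dce05cd2de83a4d2e1631fd2e1005cb35e102733e720e3305ca35cf3a6d365405ca0e3335ce3a6e3a4c3e4c3e4d3dcd3a0f05c93e0d3a0e3e1205c83e553a5f05c735df31fb3e6205c7365f39de366a3a443a0a027235e605c62dd039c835c939cc05c535ff3a61366239e93a6b05c505c229d63a712e3729da31d4367105c236361e00323205c039c402713dc805c0363235c331d435e40e3f0e4011c1027005bf363432352e202dc005be31d131d235d339e505bc324a05bb32483a0e364705b709b8364e2dda1a2f05b63a4e35b73a4f39ef325635b931ba05b63a0105b31a2732282db53a6f026f3a58365b2dcb05b32e0532062dfe05af026e3e443a452db02e4c05af2e0805ae322c2db2026d1a2c320205ae31ff0a6b3263026c026b25ca05ae2dbe31bd05aa31db0a6a2dfc2dfd026a29f905aa35ee35ef05a73a68364f05a539f639a602693e50026839ed362105a52e2131c331c42e3231d605a1059d321c3a6731a031d6361b0267059d0266099e320431fe320505970265321f05963a6425ad2ddd0264361e05960263099731e905913a6231ab35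df059135e93a6131ac3617026202610591026009921db0059036452a43361905901db03a442e4231de3a453a4429902e4d058f2dde31df3a5f31fa058e360c058d358e3a5d025f0589098a3e3d2a482df13a550588398c3a5735e232092e41118b025e058735d035e539e73a3e05863a3d0585398a3a303e5d05853e3d358939dc39e52dc6361335e0318d05842e4b057f3a5d29e62d8a025d3a3a057f3a0a098031cb3210057d025c097e3a032e2831b3057b025b31c53581317c364a057b322a057a325931803a06057a2e2a321d2d7e025a2e59321d057a2db4360239ae3a083a0235b1057a32272db33a03057736043a500575357635b93a2d2d7729b505742e591e3605722db42d7332273639321d02592e2a057202582e2405713a572db8324205712e2436542db731cf02573a540571323c0972057025ba325632142dfa056f25763a502a2425a635b936563170324e056e317536502d6f0256056d3a22056b356c325135f63e533a5235f5056b31ed2da92d6a35f3056931a3316a2da935f405682dab05660967324f358c31a70565318c3a5515ba2e12358802550565025431b236230564356902533a2e05643623396802523dec3a21025139ed056431f50a4f0563396702503dee0563024f3566357539ea024e39b631b8056339eb3619321a3a3829a205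5f2e422e4339e4055e29c3055d095e3a0f29d335942d7f324b363a2a0b055d360f055a355e3a313a0d024d024c39e8055a363431860559355c317935b105593186315b318f3611258b0558364135982e4b05572d8e360c024b319332140556363c3167361a05562e143a3b3166321605542e48324a21602e1c2dbb024a05543a0d0955115505522553322535d129d7055136492e2f2a37024931d5055129c709522a481d542dbb255f0550054e29da3647297602482a37054d36463220321f31d902472d4e3188054c02463236294d3234054b0549094a363129e7319f32310548354a024531b5054832313949024435db355a360f395d05482e3a0dc10547364031a331fc05470dc1363f31a42e43024302423e3e295d0546054509463a39297c2573024132092d582e2b05440240023f1147262605433639054239463585023e05423a393945023d3e35023c023b295629d90541318d2e0c2957023a0540053f3207355f023902383220053e3a351dc32945053e322036341dc429e8254d02370236053e19740dce0dcf12331d99053d02350234293e2e32053b053a093b0d3d219e023311782e2529a1053a023232252d78253c293b053a259e0539299f2555023102302ddc2dd80d3f053925fa0537322d15f11976362d35f80537360109380a2f053631ea2dfd31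660536022f362e2dfc316939ea022e3536022d05352a00299705342e2c31d22dff053129322e0431782e02022c32080531022b2d802d7e05302e2831f0297e2980052e360335e31e161e172e291949052d2d7b052c292d022a022902283a030227052c022631a331a43195261c05282595052735a4321935a40527259535a3321a2df32da1293c0225052602242df32df4316a11a60526213c2da12d78052521322d6831690223052431f205221d6c3a2211a925f9396b022205220221296231ad051f35ac31ce35ac051f31ad35ab31cf31f4051e3198319929e9299c2da82daa29be051c02202d213199291e321f051c051b2d5029bc2d2931d32d4f25bc051b21bf0a1e2d96021f021e0d1f051b05192d1c2d1d195029a20d1a05162918315b35240516111a2517315c311731a0051531a21dc1211d31a23161051535e1091629b52d770513021d0a1b021c2d9d021b0915051325ab25ac31ad118b0512315b315c2d86051135e7051021822d84291631e021832584051021870a18021a0219021825610510021702162a15214a050c050b1d0f250c31e202152de0050a3613318e0214021331c6050a320c090b31f105093a1135f2355b1d7d25e11210119505080a1205073a0e25462e0b05070212360d2545295e021135f02d0931d50506050509060d08219202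1031e231e32d940505020f020e020d290735c90505259205042d93290f020c05042192310e290b310f21932d0e0504312831603607313f31602d42050429b12db2050132060a0a020b2de6020a210a05012db229b104ff2e050a0921581d8b02091d1e04ff255f2960320729cc04fe04fd2daf2cfe0208020702060205020404fd0203290f290b04fc31e308fd2dbd11be2da804f731b42d972e0004f6020208f725f904f4360129d719ba020131f704f435eb08f518f62134020004f319c204f215322dff18f925cc293101ff04f201fe09fb01fd01fc01fb08f404f2293701fa31f82d0904f120f401f92df7155104f00cf504ef2cf1316e01f804ef10f528f02d6d01f71da604ee35f63120296c01f639a504ee01f508ef2df431f331a908ee04ec31a704eb35ef01f431b704eb2da739ee01f3356709f204e939ec31df356804e901f235eb31de31b8310901f101f004e92d3001ef01ee30eb01ed04e801ec01eb2ce901ea04e73138313804e5256229a531982d1e2121259104e4297c04e3318121dd318204e3257c35c525d801e909e704e235e501e8298904e201e739d029cd01e6319404e135e3319a292e04e1319431e2319b358c01e535d02ce201e404e001e301e22ce12d0604df01e1217d2dcb252704de290a01e029c6295704dd01df01de29c72d3704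dc24f711db04d925bc09dc1dd801dd01dc0d0704d90cd904d625db10f8154901db24f704d62d4f09d901da254e01d9156f04d62d9f04d32939199c01d82d392d9e04d32d5208d4255101d72dd5293604d201d625c229d4294d04d10cd404d028d22cdf01d504d010d424d12ce001d409d304cf35d22190213404cf01d339d119b0155301d201d104cf01d008d001cf01ce11ca112104ce09cc04cd39c9258a01cd04cd01cc39c8258929c42cdf28e028de04cc01cb04cb08cc0cce1cdb01ca01c901c828cd2d8104cb20db04ca24dc28d401c704ca1cdb24dd28d001c6318101c524e30dbb04ca01c401c329c001c204c904c808c90dbf0cd701c129aa21a825bd151904c809bf04c724c929bd01c004c701bf20c801be01bd01bc2d4f295004c701bb3162316204c6353509b901ba297001b92d5604c601b801b735b6294e04c504c418c430c5353801b621741d1301b504c3214a210320d8212b1d0c04c3157304c229b41d1421a801b4297204c201b328cc0d0110ff01b204c12d6504c008c120f90cfe18f90cff0d0101b104c0295c0cfe04bf29af0d0001b001af28fd04bf01ae20db18fb04bd213319171cc00cbe04bb3125150d1d253125312604bb2d9f2d1104b931113112318201ad01ac01ab251f255804b8312904b62cec01aa01a904b63129312a01a81d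2a312004b5352301a7359b04b53120352428eb291818ee01a601a504b524e521152da02161114704b4312331242cb5316c04b301a401a325270d9d04b12d6101a229a01d7d04b004af08b02d9c0cbc21992d9c04ae24b001a101a02cd3019f019e04ae019d119a0d9b04ad310e2caf28ae019c2caf153c04ad0cad04ab299b2502292304ab08ad259a192b319a019b019a04ab29930998019921210198099604ab18f304aa25001d321d0d1d3418f6019704aa019604a808a931280cac0195312804a728a901942d29310e0193019204a701911d8f297904a6298431832d8231103183311a04a604a518ed20f8152a1d1404a308a6258f1d3301902979018f04a32983098d018e2957018d217f04a3018c31652d882d7004a204a108a20d870ca4018b018a018929850d5404a1098704a028a22d59018804a0018724a10186018501840183018204a00181049e213324fb18a228fa20bd24fb049e2518089f0d2e0d300180049d017f049c089d25140d2d0cf811300d2e017e049c017d049b0d2d2d7b0d2f017c292c017b049b017a097918a618a30179089e049b2502192b250314a904990498109f289928f129031cc30497212f1973192f04950896210d11530d002552255504940178097719131974017708970494116d0d6e04932ce709750176216f0175097104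9304921914189c0174149610c201730172049201710c9304902d6e28fa017004900893296d10d5016f016e016d04902ce8096b016c1922016b096a0490190d048f1c9614b0189c14bb10be2d26048f016a0169016831642923048e048d088e14e60c9118ea016701662d630165048d14e6048c2c8e2cef0164048c18e6288d2cf5016318e714e814ea048c18e620c61cc60162048a252220b21cb31cb4048901610160015f253f20cd0488015e015d2d5a24cf0486015c015b2d5920b904852944048428862d4b015a04842d4428852d4c0159248520862944047f01582488047e254024810157047e20882541248001561d402141047e1d43212c2c8a2c8a047d2cc5288308940d530155047c01542133149e24bd08a1047c047b087c20bc0d3d0cbc01530c940152047b0151289f2898189a10f0047b114b0d4c047a2941094f01502d1b014f24b6047a0c7a0478294c2083014e0478087a254b2082014d014c014b047829400948014a0149014824e20478047508760d430c79014701460145294220e3047509430474247601442931047401432475288401420141014020880474013f093d0473253b0c96013e0473013d213a0c95013c013b013a0473013908741ce520e50138047201370471147131352cda013619350135047114c4148c04701cf924c0013401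33013210f2013104702076092f046f289701302898046f012f24c3012e1d2b012d089b012c046f1c7e10ec0d2a30b6046e2cb7012b210224d814a8046e046d086e20d70d1d0cd7012a14ec0129046d1ca92cb12c89046c2cb730a82ca7012830a820e1046c0469086c20b11c8b012728892cb104692cba2cbe0126012530be24d30469012401232d2001220468046708681ce40c6a01211ce40466286824b30120046620e42c6724b22c672cb72cba20b80466011f091d0465251c14ed011e0465011d2d1910a52d1a011c29190465011b086609170d18011a046401190463086420a40d120ca401180117011604630115011418921c9d0113046309120462291114fb1cbb0462011230b914bd30ba01112cb9046201102089090c18fc010f0461010e148f010d209510af04610460086120ac0d080cac18fc010c010b0460010a0908045f290619030109045f0108250508d8010701060105045f0104208410fa28d5045e248e090214d80103010208fc045e0900045d1caa01011c60045d010018f300ff18ed08bf00fe00fd045d00fc0c5e045b18d51499186d045b085e28fa149a00fb28d500fa045b288d28c100f91c7028c108f6045b08f8045a1ced0cc914f3045a00f820a50cc810640cd608d900f7045a00f608f00cf100f5045900f418aa00f3285d00f204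59045808590c5c0cea105c00f100f000ef045800ee00ed14a5205a00ec045808ea04572ce8249f00eb045700ea28e7289800e900e800e7045700e614c4045308540c561cb8207f2cda2cda205500e504532cba28b7045200e420a720dc24dd20ca045000e32082208324511c75045020de044f28e0207700e2044f24de28df1c6b00e100e000df044f28cb20a02087044c244e20d228da044c2087204d20d12482206b2477044b24dd1c812477246b044924dc287204462050204700de208b00dd00dc00db04461cbf1855145500da0445144e08d70442206e00d900d8044200d71c6d00d600d508d10cd200d4044100d3044008411c4a0cce0c6a00d200d100d0044000cf2481248024482086044008ce043f24cc1c4c20c2043f00ce24cb1c8700cd00cc00cb043f00ca08c700c900c800c70842043f043e103e2c4500c6288014c500c500c4043e10571c9700c3146f00c2043d00c100c0147000bf043c08bc043b207c00be00bd043b00bc1c7b00bb189a08b8205200ba043a00b92480208128441c85043a0439083a1c430cb40c79205200b800b7043900b608b4043828b3205300b5043800b42cb21c542cb200b300b2043800b108ae00b000af00ae083b043808ac0437246100ad1095043700ac206000ab00aa00a900a800a704371c5208a40436246400a600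a5043600a4206300a31c9d00a200a100a004361c4f08990c9a009f0435009e009d009c2892009b0435043408350c91145c1091009a009900980434009700960095208f00940434089104332835009300920433009124340090008f008e008d008c04331071043108320c8b10431447147d187d208a18550431088b043028321c6720540430008b24312068008a206c2069008904301c62144d144e24871047042e207f042d202e00880087008600850084042d1c5f1451042b24831448147d042b145120821044184d00830082042b1c76082c144418480081042a184b0429082a1c79142e0c4318481844008004291445184b18492477144e04290428142e207f105114561c2d007f0428007e182f04270c272c72007d14491849144b286b104d0426042508261c6a10560c4a007c007b1c3b0873042408790423242a007a24390423007920290078007700760075007404230073107200721027007104220c240421103c102c007004210824103d182f006f006e006d1c4208650421086a04202826006c006b0420006a28250069244100680067006604200065006400631c360062041f006100601c37005f041e085c041c2859005e005d041c005c2458005b005a00590058041c0057081d0856041a285410311432041a005624531032005500540053041a005208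1b101b04171418183c1846144704162050144a005100501c460416004f08171417181b0415103d084c004e004d004c08160415084a04132441004b18250413004a204000490048101600470046041310180c450045103e1027041208430411283a142600440411004328391425182a083c0c3d182104100042004100401813003f0410040f08100c120c1d003e003d003c1824040f003b003a003918110038040f101d040e181e181b0037040e0c1d181f181700360c1e101f040e0c220833003500340033101c040e182c102f040d181f08300032003100300c11040d040c0c140c190c180c140c0d040a142f0c191028002f142c040a181e082d002e1028002d082b040a0c0a080d002c0409002b0c190c09101404080c19002a0029182300280408040708080c220c0b00270026002518200c1a04070822040614080024002304060022140700210020001f001e001d0406001c08150c18001b0405001a0c090019140c08070405040408050c0b0c120c0b00180c150017040400160c140c0c0c09001504040812040314100014001304030012140f080c00110010000f0403000e0c06080b04021405000d000c0402000b1004000a0009000800070006040208030005000408020003040104010001000100010002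

/-- kinds of the entries -/
noncomputable def KK : ℕ := 0x10e030b385f530301044b53030b016e0717016701071f5d0c0d070301480d105b01041b011f52675f07033a015f25430b01010e582e0c5f6d010b0c5a2b012e0c0d1a5b01654f01173b040107171615055e6401044b5e030b0105015823280f106c01193301442e0c0107435138053f640104240703080105145c0104050162540c405e640104245e0334010d0003000101224355044b0703160131011f1e0c31106b01040107171615462f57016540145c0104400e5b0167014e5c3500400717010c010717230c3101573b041b01573b0c010e50066505141f01480107172e150501582e470532173c01010717061505015823285a1a6001196e076001041b01643648010e50161d330117000c3301430b670125433b670d14030b0105145801280501603b0c0125171604460011010405140301480532030b0101070316154b0e015d0c330117000c010760060424320300010532030b0124320316010501582a280107501615010e1f560c0f3e60010c01225055650053030b010d075b0100052f0308011b015b3700210701160c0f00000b01460701160c0d14000b01392b013a0c013e70000c00105c01042432033a0101075806155a0001000c0d145b01000501173d47004501000c1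b0142271d0107415148000001000c330162351d0125622e19136d033a01240703160105015855000107173d040501032a474b320300014b32030b011b0158370c010743510c5f070363011b01603b040045015d0c4b5301000c1b145b010024070316010501412e47010e5b5500210e0169040d14036301053f030104050158230c314501540c0107172e471b005c01001b011f2a1d010e5029480045013a0c0125502e150107580b15682b033a014b3f03000139016236471b3f5c0104091a11016a052c110148010717162801145835045a0001000c310162000c013e17000c0f00030104050117000c01001f550c000e60010c05140308010d1403011901070316041307113a01330162160c00000301041b0117376a010e1f51480501170b4701070300150501622a1d012558291d01075835484b0001370c3101442e150501171628005301610c3353032e01010758160005011706284b00030b0100530308010107031615330103004701250300154b530301043301411c3801251f1e1d00000308010107030b150053030b010000030b011b011f3700010743000c00000363014b5e0300010125170000330117364701256235384b000001042432033a010000030b01010717230040455b010005140363011b014137000053030b012401623648396601200c0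501622a1901001f261d31000300014645015448050144230c40005b0100392b01340c464501611d2432030b010501440000000e0001000d325b3c0133011f52150125112a474f1a000100300a0308010f0e4301040d0700011501076f0628390001000c33011f2a15010e111e1d013e03061d0d4e5c010024070308010122434c15681401560c4b00000b0101071735193101171c150107431e470501033b043932010b0c463e01000c004a000b012432570b010d4e5c010401225b5528210701560c0000000b010000031601013e4354000501171600005301610c1b010316154b07030b01050117270401004126480059030b0101071723000d145b010000000334010501503700012258551d215e013647053f570b01463e01160c001a000b01314501540c4b53000b012407030b0101071700000000000100392b012a0c1b3f41010c392b01000c0501172e47005301540c0f070001040107583515460001000c0000000b010500030b010f00030b0131011716000107435d000501603b15003e01000c1307030b010501600047010e170015050117271501001f26381b00000104000003000100000300014645015d0c335e030b0105015036480125581600050160004701000306004f01171c47010e1f1e15004a03000100000363010053030b014b00030b010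000030b01462b01340c4b00000b011b014216190045010b0c004a000b0121016236005a66010b0c4b000306010053030b013101172300010743230005010316150100030b38000001000c0000030b0105011f2a0001001f2947054e5b010001071723000000030b01050143230001224323004000030b01000003000101071716001310030b01050117610001004300000059600100464501230c0007000b010000030801013e442300052f0001280d14113c010501421604004501000c13070001040107172e48302f0001480501422e00004501000c1b011127381b015852190d14015d0c01071735000000030b011b01620000010e1700383301110015012511061d0f000001040d25030b012432033a010000030b015f00030b01010758160405014400000d00000100052b010b675f00170b010501172e19010e412a48000001540c000e000b0133010316152d100001000107581600050144000c0500000100393e01346a5f07170b0101071f5115010e413d00310001540c0053000b010014030b0101071716000000030b01050117610001004300000000000100010e1116485a0701160c2d1a0001000107031615052c0001000107581600460001000c302f000b010514113a01013e4327470d0117364701071f1615464501000c0f10000b01052b01230c0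010000b0101321f001d0f000001000501172a00010e413d00000001200c0010000b010501032748050a6001000000030801010750160400000300014f011723000107435d00054e4d01041b0a000104054e5701000000030b010000030b010000030b014f014423000107435d0005145001000501413700010e413700210701560c4b53010b0c09140001001b4a030801010717161500140001001359113c01052b01230c000e003a010501172a00010e415200000001230c0000000b0101071716000000030b01050144000c010043230000005701000501172a000100412900000001000c0914000100010e420b003900014c0c010e03000000100001040501170015010003001d001000010409140301650059033a0101071716280007000104682b015d045f00170b01010e5b3700460e015d670000033b01000003000101075016004f0144550001071755670d665c01000501422a000100583b65005e01000c0d070001000107171628000000010000321700010501423b040100580604005e01000c0d2c0001001800173a0101071716152d000001000501172e000100410600000001000c391a013a0c4b00000b01050117001501001f001d0f000001000501112a1d010e411e005a00012e28000e170b01050103271901001726191b0a0001000d070001003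30017000101071716150000000100001a1100010501173d000100411600000001000c01071734284b4a110001314501000c0d075b01000d140308011b01423d0001074106000000015d0c1b01172a0c010e43510c5a0e01340c5a2b01341d010717001500000001040d4a000148050117000001000300000d07000100010717161500000001000d59033a010501423b040100410600000001000c0000000b0101250300380d000001040d000300010000030001050117000001000300380d0e000100315917080101071716151b0000010005014216000100175565000001000c0000000b010501030038010003000000000001040501030000010003001500000001040d0700010000001700010107171628000000010000001100010501170000010003000000000001040107171628490e110b01050117544701000316000d140001042414030801050158000000000001041b01173d4701251f06040000013a0c2d0e00011d010717161513140001480d1a033a0101075806154b0001000c01250300471b2f17080101071716150000030b01050117001d01001f00000000000100240003000105011f3700010e1f16000000030b010501110000010003003800000001000000030001000003000105011700000100030000000001000c05011736470100033500000001000c3101442e0c0501172e00005301000c460701340c0000000b01050117001d01001f00000f000001042400030b010501112a000100032a480d07500100000003000101071723000000500100000003000105014337000122433700210701200c0000000b01052b01340c0000000b01010e1f1e1d1b01421c04004501340c0010000b011b0a0001000d1a030119000003000101071716000000030b010501440000010043000000000001000914000100180017080101071716150014000100131211000105014200000100410600000001000c05011700000100030000000000010400000300010102020200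

/-- parents: field `j` is `5 p + s` -/
noncomputable def PP : ℕ := 0xbc0bbeb90b41b20b05afbad6acdac3abcabbab1aa6aa4a94a92a8ca86a83a77a76a74a5aa4ca31a29a23a149f49f19e69cf9ae9ac9a79a299f99899599197397295c94a93c92e9279239169119008ff8f68f18f08e88e48e28e18da8d58d48c88c78bf8be8b68b18a78a689188c88a87d87a86786686586386184f84d84083783582080f80e7ef7ed7eb7d47d37d27cf7ce7c67c17c07ab7a779e79979879778f77a77876e76376276176075f75d74f74874173873673473373272e72972171c7167137097046fc6f76f66f36f26f06ee6ed6eb6d66d26cf6cc6c16be6bc6bb6b76b16ad6ac6a26a169969469268b68468067767266b66766666466266165965764f64a64964864063b63963563463262c62262061e61d61c61861261060d60c6046015f45f15ed5e35dc5db5d85c35c25c15ba5b95b55b05a85a759a59959458858758558458257b56d56c56856655c55a55555154e54d54b53753553152f52c52352252151951751551451351251150f5025004f84f64f14ef4ed4e94cf4cb4c34c14bb4b84b74b54b04ab4aa4a94a54a349749649548c48b48948347e47646f46e46d46946846446345b45645144c44743a43842d42b42941e41c41541040f40e40a409408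4014003ff3f83f53f23f13f03ed3e83e63e33e23e13df3db3d93d43d23cb3ca3c93c73c13be3bc3ba3b83b03a63a439b39338d38c38838738537f37a37036b36936536235e35c35635535435235134e34634233f33b33933732d32c32a32532332031f31e31c31431330d30a3083053043022f82f62f22e72e12df2dc2da2d82d62cf2ce2cd2cb2ca2c72c12bf2bc2bb2ba2b82ae2a92a329929429329227727527427326e26826726526326225f25d25725625525324724424324224023e23d23c23623323222e22c22a22922722222121f21d21921720b20a2082032011fd1fc1fa1f81f71f61f01ed1eb1ea1e91e81e71e11e01de1dc1da1d91d81d31d11d01cf1cd1c61c51c41c21c11c01be1b91b81b61b41b31b21b11b019d19a19718c18b18a18918817b17a17416a15c15a15514914814113e13c13b13a13913813613413212c12712612511e11d11b11911711611511311211110f10d10c10a1051041021000ff0fe0fd0fb0f30f00ef0ee0ec0e10e00dd0d60d50d40ce0cb0c90c80c60c50c10b90b70af0ae0ad0ab0a50a40a30a009f09e09c09609108b08a08908108007f07206d06b06606405e05d05b05505405304c04b04904704604504404304103e03c03a03102f02d02902402302101e01d01c01a01501401201000f00e00d00c009008006000000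

/-- words -/
noncomputable def WW : WT := (.N 55 (.N 27 (.N 13 (.N 6 (.N 3 (.N 1 (.L 2 [0, 2, 0]) (.N 2 (.L 0 [1, 0, 1, 0, 1]) (.L 4 [3, 3, 3]))) (.N 4 (.L 1 [4, 1, 0, 4, 1, 4, 1, 0, 4, 0]) (.N 5 (.L 3 [4, 4, 4]) (.L 1 [0, 3, 0, 1, 3, 1, 3, 0, 1, 3])))) (.N 9 (.N 7 (.L 4 [1, 3, 0, 1, 3, 1, 0, 3, 0, 1]) (.N 8 (.L 3 [1, 0, 4, 0, 1, 4, 1, 0, 4, 1]) (.L 1 [0, 1, 0, 1, 0]))) (.N 11 (.N 10 (.L 0 [2, 0, 2]) (.L 4 [1, 3, 3, 1, 3])) (.N 12 (.L 3 [4, 1, 4, 4, 1]) (.L 4 [1, 0, 3, 0, 1, 3, 1, 3, 0, 1]))))) (.N 20 (.N 16 (.N 14 (.L 3 [1, 0, 4, 1, 4, 1, 0, 4, 0, 1]) (.N 15 (.L 2 [1, 3, 1, 3, 2, 4, 1, 4, 1]) (.L 3 [1, 3, 1, 3, 1, 3, 1, 3, 4]))) (.N 18 (.N 17 (.L 4 [1, 3, 1, 3, 1, 3, 4, 4, 1]) (.L 3 [1, 4, 4, 1, 4])) (.N 19 (.L 0 [4, 4, 0, 4, 4, 0, 4, 4]) (.L 1 [4, 4, 1, 4, 4])))) (.N 23 (.N 21 (.L 2 [4, 4, 2, 4, 4]) (.N 22 (.L 4 [3, 4, 1, 4, 1, 4, 1, 4, 1]) (.L 0 [1, 3, 1, 3, 0, 1, 3, 1, 0, 3]))) (.N 25 (.N 24 (.L 3 [1, 3, 3, 4, 1, 4, 1, 4, 1]) (.L 4 [3, 1, 3, 3, 1])) (.N 26 (.L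 1 [3, 1, 3, 4, 4, 1, 3, 1, 3]) (.L 0 [4, 1, 4, 1, 0, 4, 0, 1, 4, 1])))))) (.N 41 (.N 34 (.N 30 (.N 28 (.L 1 [4, 1, 4, 1, 3, 3, 4, 1, 4]) (.N 29 (.L 2 [4, 1, 4, 1, 2, 1, 3, 1, 3]) (.L 1 [2, 1, 2, 1, 2, 1, 2, 4, 4]))) (.N 32 (.N 31 (.L 4 [2, 1, 2, 1, 2, 1, 2, 1, 3]) (.L 3 [4, 1, 2, 1, 2, 1, 2, 1, 2])) (.N 33 (.L 1 [3, 3, 2, 1, 2, 1, 2, 1, 2]) (.L 4 [0, 3, 3, 0, 3, 3, 0, 3])))) (.N 37 (.N 35 (.L 3 [4, 0, 4, 4, 0, 4, 4, 0]) (.N 36 (.L 1 [3, 4, 4, 1, 3, 1, 3, 1, 3]) (.L 1 [3, 1, 3, 1, 3, 1, 3, 4, 4]))) (.N 39 (.N 38 (.L 0 [3, 3, 0, 3, 3, 0, 3, 3]) (.L 1 [4, 1, 4, 1, 4, 1, 3, 3, 4])) (.N 40 (.L 1 [3, 3, 4, 1, 4, 1, 4, 1, 4]) (.L 3 [2, 4, 4, 2, 4]))))) (.N 48 (.N 44 (.N 42 (.L 3 [1, 4, 1, 4, 1, 3, 3, 4, 1]) (.N 43 (.L 4 [1, 3, 1, 3, 4, 4, 1, 3, 1]) (.L 1 [3, 3, 1, 3, 3]))) (.N 46 (.N 45 (.L 3 [1, 4, 1, 3, 3, 4, 1, 4, 1]) (.L 4 [1, 3, 4, 4, 1, 3, 1, 3, 1])) (.N 47 (.L 4 [3, 2, 3, 3, 2]) (.L 3 [0, 4, 4, 0, 4, 4, 0, 4])))) (.N 51 (.N 49 (.L 4 [3, 0, 3, 3, 0, 3, 3, 0]) (.N 50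 (.L 1 [2, 1, 3, 1, 3, 2, 4, 1, 4]) (.L 1 [4, 1, 0, 4, 0, 1, 4, 1, 0, 4]))) (.N 53 (.N 52 (.L 1 [3, 0, 1, 3, 1, 0, 3, 0, 1, 3]) (.L 1 [3, 1, 3, 2, 4, 1, 4, 1, 2])) (.N 54 (.L 0 [4, 0, 1, 4, 1, 0, 4, 1, 4, 1]) (.L 4 [2, 3, 3, 2, 3]))))))) (.N 82 (.N 68 (.N 61 (.N 58 (.N 56 (.L 1 [0, 4, 1, 4, 1, 0, 4, 0, 1, 4]) (.N 57 (.L 1 [3, 1, 0, 3, 0, 1, 3, 1, 3, 0]) (.L 1 [0, 4, 0, 1, 4, 1, 0, 4, 1, 4]))) (.N 59 (.L 1 [3, 1, 3, 0, 1, 3, 1, 0, 3, 0]) (.N 60 (.L 3 [4, 2, 4, 4, 2]) (.L 3 [1, 2, 1, 3, 1, 3, 2, 4, 1])))) (.N 64 (.N 62 (.L 4 [1, 3, 2, 4, 1, 4, 1, 2, 1]) (.N 63 (.L 2 [3, 1, 4, 2, 4, 2, 1, 2, 3]) (.L 2 [1, 2, 3, 2, 3, 1, 4, 2, 4]))) (.N 66 (.N 65 (.L 2 [4, 2, 1, 2, 3, 2, 3, 1, 4]) (.L 2 [3, 2, 3, 1, 4, 2, 4, 2, 1])) (.N 67 (.L 3 [2, 1, 2, 3, 2, 3, 1, 4, 2]) (.L 4 [2, 3, 1, 4, 2, 4, 2, 1, 2]))))) (.N 75 (.N 71 (.N 69 (.L 0 [3, 0, 1, 3, 1, 3, 0, 1, 3, 1]) (.N 70 (.L 0 [1, 4, 1, 0, 4, 1, 4, 1, 0, 4]) (.L 4 [0, 1, 3, 1, 0, 3, 0, 1, 3, 1]))) (.N 73 (.N 72 (.L 3 [1, 4, 1, 0, 4,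 0, 1, 4, 1, 0]) (.L 4 [0, 1, 3, 1, 3, 0, 1, 3, 1, 0])) (.N 74 (.L 1 [2, 1, 3, 3, 2, 1, 2, 1, 2]) (.L 2 [1, 2, 1, 2, 1, 3, 3, 2, 1])))) (.N 78 (.N 76 (.L 3 [1, 2, 1, 2, 1, 2, 1, 2, 4]) (.N 77 (.L 4 [3, 2, 1, 2, 1, 2, 1, 2, 1]) (.L 2 [4, 4, 1, 2, 1, 2, 1, 2, 1]))) (.N 80 (.N 79 (.L 1 [4, 1, 3, 3, 4, 1, 4, 1, 4]) (.L 1 [3, 1, 3, 1, 3, 4, 4, 1, 3])) (.N 81 (.L 3 [0, 1, 4, 1, 0, 4, 1, 4, 1, 0]) (.L 1 [3, 2, 4, 1, 4, 1, 2, 1, 3])))))) (.N 96 (.N 89 (.N 85 (.N 83 (.L 1 [4, 1, 2, 1, 3, 1, 3, 2, 4]) (.N 84 (.L 1 [2, 1, 2, 1, 2, 4, 4, 1, 2]) (.L 2 [1, 2, 1, 2, 1, 2, 4, 4, 1]))) (.N 87 (.N 86 (.L 2 [3, 3, 2, 3, 3]) (.L 3 [1, 4, 1, 2, 1, 3, 1, 3, 2])) (.N 88 (.L 4 [2, 4, 1, 4, 1, 2, 1, 3, 1]) (.L 2 [1, 3, 3, 2, 1, 2, 1, 2, 1])))) (.N 92 (.N 90 (.L 2 [1, 2, 4, 4, 1, 2, 1, 2, 1]) (.N 91 (.L 1 [2, 4, 4, 1, 2, 1, 2, 1, 2]) (.L 3 [2, 1, 0, 4, 2, 1, 0, 4, 2, 1, 0, 4, 2, 1, 0, 4, 2, 1, 0]))) (.N 94 (.N 93 (.L 4 [0, 1, 2, 3, 0, 1, 2, 3, 0, 1, 2, 3, 0, 1, 2, 3, 0, 1, 2]) (.L 2 [1, 0, 4,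 2, 1, 0, 4, 2, 1, 0, 4, 2, 1, 0, 4, 2, 1, 0, 4])) (.N 95 (.L 1 [2, 3, 0, 1, 2, 3, 0, 1, 2, 3, 0, 1, 2, 3, 0, 1, 2, 3, 0]) (.L 2 [3, 0, 1, 2, 3, 0, 1, 2, 3, 0, 1, 2, 3, 0, 1, 2, 3, 0, 1]))))) (.N 103 (.N 99 (.N 97 (.L 1 [0, 4, 2, 1, 0, 4, 2, 1, 0, 4, 2, 1, 0, 4, 2, 1, 0, 4, 2]) (.N 98 (.L 2 [1, 2, 1, 2, 4, 4, 1, 2, 1]) (.L 0 [1, 2, 3, 0, 1, 2, 3, 0, 1, 2, 3, 0, 1, 2, 3, 0, 1, 2, 3]))) (.N 101 (.N 100 (.L 3 [2, 4, 2, 4, 2, 4, 2]) (.L 0 [4, 2, 1, 0, 4, 2, 1, 0, 4, 2, 1, 0, 4, 2, 1, 0, 4, 2, 1])) (.N 102 (.L 4 [2, 3, 2, 3, 2, 3, 2]) (.L 1 [2, 1, 2, 4, 4, 1, 2, 1, 2])))) (.N 106 (.N 104 (.L 0 [1, 3, 1, 0, 3, 0, 1, 3, 1, 3]) (.N 105 (.L 2 [1, 2, 1, 2, 1, 2, 1, 3, 3]) (.L 2 [1, 2, 1, 3, 3, 2, 1, 2, 1]))) (.N 108 (.N 107 (.L 3 [2, 4, 2, 1, 2, 3, 2, 3, 1]) (.L 4 [1, 4, 2, 4, 2, 1, 2, 3, 2])) (.N 109 (.L 2 [3, 2, 3, 2, 3, 2, 3]) (.L 2 [4, 2, 4, 2, 4, 2, 4]))))))))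

noncomputable def inv5 (s : ℕ) : ℕ := Nat.land (Nat.shiftRight 0x34210 (Nat.mul 4 s)) 15

noncomputable def ent (i s : ℕ) : ℕ :=
  Nat.land (Nat.shiftRight TT (Nat.mul 16 (Nat.add (Nat.mul 5 i) s))) 65535

noncomputable def knd (i s : ℕ) : ℕ :=
  Nat.land (Nat.shiftRight KK (Nat.mul 8 (Nat.add (Nat.mul 5 i) s))) 255

noncomputable def par (j : ℕ) : ℕ := Nat.land (Nat.shiftRight PP (Nat.mul 12 j)) 4095

/-- one step, using only entries `< τ`; result `target + 1` or `0` -/
noncomputable def step (τ i s : ℕ) : ℕ := Bool.rec 0 (Nat.land (ent i s) 1023) (Nat.blt (ent i s) τ)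

/-- walk along a word; result `target + 1` or `0` -/
noncomputable def walk (τ : ℕ) (w : List ℕ) : ℕ → ℕ :=
  List.rec (motive := fun _ => ℕ → ℕ) (fun c => Nat.succ c)
    (fun s _ ih c => Nat.rec (motive := fun _ => ℕ) 0 (fun j _ => ih j) (step τ c s)) w

noncomputable def kinds (i s j τ kd : ℕ) : Bool :=
  Nat.rec (motive := fun _ => Bool)
    (Nat.beq (par j) (Nat.add (Nat.mul 5 i) s) && Nat.blt i j)
    (fun kd _ => Nat.rec (motive := fun _ => Bool)
      (Nat.beq (step τ j (inv5 s)) (Nat.succ i))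
      (fun kd _ => Nat.rec (motive := fun _ => Bool)
        (Nat.beq i 0 && Nat.beq j 0 && Nat.blt 0 s)
        (fun kd _ => WW.use kd (fun s' w => Nat.beq s' s && Nat.beq (walk τ w i) (Nat.succ j))) kd)
      kd) kd

noncomputable def chk (i s : ℕ) : Bool :=
  Nat.rec (motive := fun _ => Bool) false
    (fun j _ => Nat.blt j 630 && kinds i s j (Nat.sub (ent i s) (Nat.succ j)) (knd i s))
    (Nat.land (ent i s) 1023)

noncomputable def allN (f : ℕ → Bool) (n : ℕ) : Bool :=
  Nat.rec (motive := fun _ => Bool) true (fun i ih => f i && ih) n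

theorem allN_sound {f : ℕ → Bool} {n : ℕ} (h : allN f n = true) : ∀ i < n, f i = true := by
  induction n with
  | zero => intro i hi; omega
  | succ n ih =>
    have h' : (f n && allN f n) = true := h
    rw [Bool.and_eq_true] at h'
    intro i hi
    rcases Nat.lt_succ_iff_lt_or_eq.mp hi with h1 | h1
    · exact ih h'.2 i h1
    · exact h1 ▸ h'.1

theorem all_chk : allN (fun i => allN (fun s => chk i s) 5) 630 = true := by decide +kernel

/-- the relators, as words acting trivially -/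
def rels : List (List ℕ) := [
  [0, 1, 0, 1, 0, 1],
  [1, 2, 1, 2, 1, 2, 1, 2, 1, 2, 1, 2, 1, 2, 1, 2],
  [0, 2, 0, 2],
  [3, 3, 3, 3],
  [3, 3, 0, 3, 3, 0, 3, 3, 0],
  [3, 3, 1, 3, 3, 1],
  [3, 3, 2, 3, 3, 2],
  [3, 3, 2, 1, 2, 1, 2, 1, 2, 1],
  [2, 3, 2, 3, 2, 3, 2, 3],
  [3, 3, 4, 1, 4, 1, 4, 1, 4, 1],
  [1, 4, 2, 4, 2, 1, 2, 3, 2, 3],
  [2, 4, 1, 4, 1, 2, 1, 3, 1, 3],
  [0, 1, 2, 3, 0, 1, 2, 3, 0, 1, 2, 3, 0, 1, 2, 3, 0, 1, 2, 3],
  [3, 0, 1, 3, 1, 0, 3, 0, 1, 3, 1]]

noncomputable def okW (x : ℕ) (w : List ℕ) : Bool :=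
  Nat.blt x 5 && (w.all fun y => Nat.blt y 5) && okRel inv5 5 rels (w ++ [inv5 x])

theorem words_ok : WT.allB okW WW = true := by decide +kernel

section sound

variable {Γ X : Type*} [Group Γ] [MulAction Γ X] (γ : ℕ → Γ) (x₀ : X)

/-- the points of the orbit, along the tree -/
noncomputable def q (j : ℕ) : X :=
  if h : par j / 5 < j then (γ (par j % 5))⁻¹ • q (par j / 5) else x₀
termination_by j

theorem q_zero : q γ x₀ 0 = x₀ := by rw [q, dif_neg (by omega)]

def Good (i s : ℕ) : Prop :=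
  ∃ j, Nat.land (ent i s) 1023 = j + 1 ∧ j < 630 ∧ q γ x₀ j = (γ s)⁻¹ • q γ x₀ i

structure Hyp : Prop where
  inv : ∀ s < 5, γ s * γ (inv5 s) = 1
  rel : ∀ r ∈ rels, ev γ r = 1
  fix : ∀ s < 5, 0 < s → γ s • x₀ = x₀

theorem inv5_lt : ∀ s < 5, inv5 s < 5 := by
  intro s hs
  interval_cases s <;> decide

theorem step_sound {τ c s c' : ℕ}
    (hb : ∀ i s, i < 630 → s < 5 → ent i s < τ → Good γ x₀ i s)
    (hc : c < 630) (hs : s < 5) (h : step τ c s = c' + 1) :
    c' < 630 ∧ q γ x₀ c' = (γ s)⁻¹ • q γ x₀ c := by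
  unfold step at h
  rcases hble : Nat.blt (ent c s) τ with _ | _
  · rw [hble] at h; exact absurd h (by simp)
  · rw [hble] at h
    have hlt : ent c s < τ := Nat.le_of_ble_eq_true hble
    obtain ⟨j, hj, hj2, hj3⟩ := hb c s hc hs hlt
    have h' : Nat.land (ent c s) 1023 = c' + 1 := h
    have : j = c' := by omega
    subst this
    exact ⟨hj2, hj3⟩

theorem walk_sound {τ : ℕ}
    (hb : ∀ i s, i < 630 → s < 5 → ent i s < τ → Good γ x₀ i s)
    (w : List ℕ) (hw : ∀ s ∈ w, s < 5) :
    ∀ c c', c < 630 → walk τ w c = c' + 1 → c' < 630 ∧ q γ x₀ c' = (ev γ w)⁻¹ • q γ x₀ c := by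
  induction w with
  | nil =>
    intro c c' hc h
    have h' : Nat.succ c = c' + 1 := h
    have : c' = c := by omega
    subst this
    refine ⟨hc, ?_⟩
    rw [ev_nil, inv_one, one_smul]
  | cons s w ih =>
    intro c c' hc h
    have hstep : walk τ (s :: w) c =
      Nat.rec (motive := fun _ => Nat) 0 (fun j _ => walk τ w j) (step τ c s) := rfl
    rw [hstep] at h
    rcases hs : step τ c s with _ | j
    · rw [hs] at h; exact absurd h (by simp)
    · rw [hs] at h
      obtain ⟨hj, hr⟩ := step_sound γ x₀ hb hc (hw s (by simp)) hs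
      obtain ⟨h1, h2⟩ := ih (fun y hy => hw y (by simp [hy])) j c' hj h
      refine ⟨h1, ?_⟩
      rw [h2, hr, ev_cons, mul_inv_rev, mul_smul]

variable {γ x₀}

theorem words_all (H : Hyp γ x₀) : WW.All fun s w => (∀ y ∈ w, y < 5) ∧ γ s = ev γ w := by
  refine WT_all_of_allB ?_ words_ok
  intro x w h
  unfold okW at h
  rw [Bool.and_eq_true, Bool.and_eq_true] at h
  obtain ⟨⟨h4, h5⟩, h6⟩ := h
  have h4 : x < 5 := Nat.le_of_ble_eq_true h4
  have h5 := all_lt h5
  have hinv : ∀ x, x < 5 → inv5 x < 5 ∧ γ x * γ (inv5 x) = 1 :=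
    fun x hx => ⟨inv5_lt x hx, H.inv x hx⟩
  have h7 := okRel_sound γ hinv H.rel h6
  rw [ev_append, ev_cons, ev_nil, mul_one] at h7
  have h8 := H.inv x h4
  have h9 : γ (inv5 x) = (γ x)⁻¹ := (inv_eq_of_mul_eq_one_right h8).symm
  rw [h9] at h7
  exact ⟨h5, (mul_inv_eq_one.mp h7).symm⟩

theorem kinds_sound (H : Hyp γ x₀) {τ i s j kd : ℕ}
    (hb : ∀ i s, i < 630 → s < 5 → ent i s < τ → Good γ x₀ i s)
    (hi : i < 630) (hs : s < 5) (hj : j < 630) (h : kinds i s j τ kd = true) :
    q γ x₀ j = (γ s)⁻¹ • q γ x₀ i := by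
  rcases kd with _ | _ | _ | kd
  · have h' : (Nat.beq (par j) (Nat.add (Nat.mul 5 i) s) && Nat.blt i j) = true := h
    rw [Bool.and_eq_true] at h'
    have h1 : par j = 5 * i + s := Nat.eq_of_beq_eq_true h'.1
    have h2 : i < j := Nat.le_of_ble_eq_true h'.2
    have h3 : par j / 5 = i := by omega
    have h4 : par j % 5 = s := by omega
    rw [q, dif_pos (by rw [h3]; exact h2), h3, h4]
  · have h1 : step τ j (inv5 s) = i + 1 := Nat.eq_of_beq_eq_true h
    obtain ⟨_, h2⟩ := step_sound γ x₀ hb hj (inv5_lt s hs) h1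
    have h9 : γ (inv5 s) = (γ s)⁻¹ := (inv_eq_of_mul_eq_one_right (H.inv s hs)).symm
    rw [h2, h9, inv_inv, inv_smul_smul]
  · have h' : (Nat.beq i 0 && Nat.beq j 0 && Nat.blt 0 s) = true := h
    rw [Bool.and_eq_true, Bool.and_eq_true] at h'
    have h1 : i = 0 := Nat.eq_of_beq_eq_true h'.1.1
    have h2 : j = 0 := Nat.eq_of_beq_eq_true h'.1.2
    have h3 : 0 < s := Nat.le_of_ble_eq_true h'.2
    rw [h1, h2, q_zero, eq_inv_smul_iff, H.fix s hs h3]
  · obtain ⟨s', w, ⟨hw, he⟩, hf⟩ := WT.use_sound (words_all H)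
      (f := fun s' w => Nat.beq s' s && Nat.beq (walk τ w i) (Nat.succ j)) h
    rw [Bool.and_eq_true] at hf
    have h1 : s' = s := Nat.eq_of_beq_eq_true hf.1
    have h2 : walk τ w i = j + 1 := Nat.eq_of_beq_eq_true hf.2
    obtain ⟨_, h3⟩ := walk_sound γ x₀ hb w hw i j hi h2
    rw [h3, ← he, h1]

theorem good (H : Hyp γ x₀) : ∀ i < 630, ∀ s < 5, Good γ x₀ i s := by
  have key : ∀ v i s, ent i s = v → i < 630 → s < 5 → Good γ x₀ i s := by
    intro v
    induction v using Nat.strong_induction_on with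
    | _ v ih =>
      intro i s hv hi hs
      have hc := allN_sound (allN_sound all_chk i hi) s hs
      unfold chk at hc
      rcases hm : Nat.land (ent i s) 1023 with _ | j
      · rw [hm] at hc; exact absurd hc (by simp)
      · rw [hm] at hc
        have hc' : (Nat.blt j 630 && kinds i s j (Nat.sub (ent i s) (Nat.succ j)) (knd i s)) = true := hc
        rw [Bool.and_eq_true] at hc'
        have hj : j < 630 := Nat.le_of_ble_eq_true hc'.1
        refine ⟨j, hm, hj, kinds_sound H ?_ hi hs hj hc'.2⟩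
        intro i' s' hi' hs' hlt
        refine ih (ent i' s') ?_ i' s' rfl hi' hs'
        have : Nat.sub (ent i s) (Nat.succ j) ≤ ent i s := Nat.sub_le _ _
        omega
  exact fun i hi s hs => key _ i s rfl hi hs

/-- walking along a word, after certification -/
theorem walk_q (H : Hyp γ x₀) (w : List ℕ) (hw : ∀ s ∈ w, s < 5) {c c' : ℕ} (hc : c < 630)
    (h : walk 65536 w c = c' + 1) : c' < 630 ∧ q γ x₀ c' = (ev γ w)⁻¹ • q γ x₀ c :=
  walk_sound γ x₀ (fun i s hi hs _ => good H i hi s hs) w hw c c' hc h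

end sound

end Cfsg.Agent.ONType.CfTab
end

-- part: ONType/CfSide
section
/-!
# Facts about the centraliser of an involution in a group of O'Nan type

`Side a b c d f g`: `a, b, c, d, g` generate the centraliser of `f`, of order `161280`, and satisfy the relations
of the presentation of the O'Nan group there.
-/

set_option autoImplicit false
set_option maxRecDepth 100000
set_option linter.unusedVariables false

namespace Cfsg.Agent.ONType.CfSide

open Cfsg.Agent.SporadicRecognition.CosetCert Cfsg.Agent.ONType.Hom Cfsg.Agent.ONType.CfTab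

/-- the hypotheses on the centraliser of `f` -/
structure Side {G : Type*} [Group G] (a b c d f g : G) : Prop extends RelF a b c d f g where
  dg4 : (d * g) ^ 4 = f
  cg4 : (c * g) ^ 4 = a
  ne : a ≠ f
  f1 : f ≠ 1
  cent : Subgroup.centralizer {f} = Subgroup.closure {b, c, d, g}
  cardC : Nat.card (Subgroup.centralizer {f}) = 161280
  cardA : Nat.card (Subgroup.centralizer {a} ⊓ Subgroup.centralizer {f} : Subgroup G) = 256

variable {G : Type*} [Group G] {a b c d f g : G}

namespace Side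

theorem g2 (S : Side a b c d f g) : g * g = a * f := S.gg.symm

theorem gf (S : Side a b c d f g) : g * f = f * g := by
  have : g ∈ Subgroup.centralizer {f} := by
    rw [S.cent]; exact Subgroup.subset_closure (by simp)
  exact (Subgroup.mem_centralizer_iff.mp this f rfl).symm

theorem ga (S : Side a b c d f g) : g * a = a * g := by
  have h1 : a = g * g * f := by rw [S.g2, mul_assoc, S.ff, mul_one]
  rw [h1]
  calc g * (g * g * f) = g * g * (g * f) := by simp only [mul_assoc]
    _ = g * g * (f * g) := by rw [S.gf]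
    _ = g * g * f * g := by simp only [mul_assoc]

theorem afaf (S : Side a b c d f g) : (a * f) * (a * f) = 1 := by
  calc (a * f) * (a * f) = a * (f * a) * f := by simp only [mul_assoc]
    _ = a * (a * f) * f := by rw [S.af]
    _ = (a * a) * (f * f) := by simp only [mul_assoc]
    _ = 1 := by rw [S.aa, S.ff, one_mul]

theorem g4 (S : Side a b c d f g) : g * g * (g * g) = 1 := by rw [S.g2, S.afaf]

theorem ginv (S : Side a b c d f g) : g⁻¹ = g * (a * f) := by
  rw [inv_eq_iff_mul_eq_one, ← S.g2]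
  have := S.g4
  simpa only [mul_assoc] using this

/-- letters -/
def gl (b c d g : G) : ℕ → G
  | 0 => b
  | 1 => c
  | 2 => d
  | 3 => g
  | 4 => g⁻¹
  | _ => 1

theorem cinv (S : Side a b c d f g) : c⁻¹ = c := inv_eq_of_mul_eq_one_left S.cc
theorem binv (S : Side a b c d f g) : b⁻¹ = b := inv_eq_of_mul_eq_one_left S.bb
theorem dinv (S : Side a b c d f g) : d⁻¹ = d := inv_eq_of_mul_eq_one_left S.dd
theorem ainv (S : Side a b c d f g) : a⁻¹ = a := inv_eq_of_mul_eq_one_left S.aa
theorem finv (S : Side a b c d f g) : f⁻¹ = f := inv_eq_of_mul_eq_one_left S.ff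

theorem pow4 (x y : G) : (x * y) ^ 4 = x * (y * (x * (y * (x * (y * (x * y)))))) := by
  simp only [pow_succ, pow_zero, one_mul, mul_assoc]

theorem ggx (S : Side a b c d f g) (x : G) : g * (g * x) = a * (f * x) := by
  rw [← mul_assoc, S.g2, mul_assoc]

theorem r_ab (S : Side a b c d f g) : g * (g * (b * (g * (g * (b * (g * (g * b))))))) = f := by
  have h := S.ab
  have hb := S.bf
  have ha := S.af
  rw [S.ggx, S.ggx, S.ggx]
  -- a f b a f b a f b
  have e1 : ∀ x : G, f * (b * x) = b * (f * x) := fun x => by rw [← mul_assoc, ← hb, mul_assoc]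
  have e2 : ∀ x : G, f * (a * x) = a * (f * x) := fun x => by rw [← mul_assoc, ← ha, mul_assoc]
  have e3 : ∀ x : G, f * (f * x) = x := fun x => by rw [← mul_assoc, S.ff, one_mul]
  rw [e1, e2, e3, ← hb]
  have h' : a * (b * (a * (b * (a * b)))) = 1 := by
    rw [← h]; simp only [pow_succ, pow_zero, one_mul, mul_assoc]
  calc a * (b * (a * (b * (a * (b * f))))) = a * (b * (a * (b * (a * b)))) * f := by simp only [mul_assoc]
    _ = f := by rw [h', one_mul]

theorem r_comm (S : Side a b c d f g) {x : G} (hx : x * x = 1) (h1 : a * x = x * a) (h2 : x * f = f * x) :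
    g * (g * (x * (g * (g * x)))) = 1 := by
  rw [S.ggx, S.ggx]
  calc a * (f * (x * (a * (f * x)))) = a * (f * (x * a * (f * x))) := by simp only [mul_assoc]
    _ = a * (f * (a * x * (f * x))) := by rw [← h1]
    _ = a * (f * a) * (x * (f * x)) := by simp only [mul_assoc]
    _ = a * (a * f) * (x * (x * f)) := by rw [S.af, h2]
    _ = (a * a) * (f * (x * x) * f) := by simp only [mul_assoc]
    _ = 1 := by rw [S.aa, hx, mul_one, S.ff, one_mul]

theorem rels_ev (S : Side a b c d f g) : ∀ r ∈ rels, ev (gl b c d g) r = 1 ∨ ev (gl b c d g) r = f := by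
  intro r hr
  simp only [rels, List.mem_cons, List.not_mem_nil, or_false] at hr
  rcases hr with rfl | rfl | rfl | rfl | rfl | rfl | rfl | rfl | rfl | rfl | rfl | rfl | rfl | rfl
  all_goals simp only [ev, List.map_cons, List.map_nil, List.prod_cons, List.prod_nil, gl, mul_one]
  · left; have := S.bc; simpa only [pow_succ, pow_zero, one_mul, mul_assoc] using this
  · left; have := S.cd; simpa only [pow_succ, pow_zero, one_mul, mul_assoc] using this
  · left
    calc b * (d * (b * d)) = b * (d * b * d) := by simp only [mul_assoc]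
      _ = b * (b * d * d) := by rw [S.bd]
      _ = (b * b) * (d * d) := by simp only [mul_assoc]
      _ = 1 := by rw [S.bb, S.dd, one_mul]
  · left; have := S.g4; simpa only [mul_assoc] using this
  · right; exact S.r_ab
  · left; exact S.r_comm S.cc S.ac S.cf
  · left; exact S.r_comm S.dd S.ad S.df
  · left
    have h := S.cd4
    rw [S.ggx]
    have h2 : (c * d) ^ 4 * (d * (c * (d * (c * (d * (c * (d * c))))))) = 1 := by
      rw [← pow4 d c, show d * c = (c * d)⁻¹ by rw [mul_inv_rev, S.cinv, S.dinv], inv_pow, mul_inv_cancel]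
    rw [← h] at h2
    simpa only [mul_assoc] using h2
  · right
    have h := S.dg4
    rw [pow4] at h
    exact h
  · right
    have h := S.cg4
    rw [S.ggx]
    have h2 : (c * g) ^ 4 * (g⁻¹ * (c * (g⁻¹ * (c * (g⁻¹ * (c * (g⁻¹ * c))))))) = 1 := by
      rw [← pow4 g⁻¹ c, show g⁻¹ * c = (c * g)⁻¹ by rw [mul_inv_rev, S.cinv], inv_pow, mul_inv_cancel]
    rw [h] at h2
    calc a * (f * (g⁻¹ * (c * (g⁻¹ * (c * (g⁻¹ * (c * (g⁻¹ * c))))))))
        = a * f * (g⁻¹ * (c * (g⁻¹ * (c * (g⁻¹ * (c * (g⁻¹ * c))))))) := by simp only [mul_assoc]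
      _ = f * (a * (g⁻¹ * (c * (g⁻¹ * (c * (g⁻¹ * (c * (g⁻¹ * c)))))))) := by
        rw [S.af]; simp only [mul_assoc]
      _ = f := by rw [h2, mul_one]
  · left
    have h := S.cg
    simpa only [mul_inv_rev, S.dinv, mul_assoc] using h
  · left
    have h := S.dg
    simpa only [mul_inv_rev, S.cinv, mul_assoc] using h
  · left; have := S.five; simpa only [pow_succ, pow_zero, one_mul, mul_assoc] using this
  · left; have := S.gb; simpa only [S.cinv, S.binv, mul_assoc] using this

theorem mem_cent {x : G} (h : x * f = f * x) : x ∈ Subgroup.centralizer ({f} : Set G) :=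
  Subgroup.mem_centralizer_iff.mpr fun y hy => by
    rw [Set.mem_singleton_iff] at hy; rw [hy]; exact h.symm

theorem of_mem_cent {x : G} (h : x ∈ Subgroup.centralizer ({f} : Set G)) : x * f = f * x :=
  (Subgroup.mem_centralizer_iff.mp h f rfl).symm

theorem gl_comm (S : Side a b c d f g) (s : ℕ) : gl b c d g s * f = f * gl b c d g s := by
  rcases s with _ | _ | _ | _ | _ | s
  · exact S.bf
  · exact S.cf
  · exact S.df
  · exact S.gf
  · show g⁻¹ * f = f * g⁻¹
    rw [inv_mul_eq_iff_eq_mul, ← mul_assoc, S.gf, mul_assoc, mul_inv_cancel, mul_one]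
  · show 1 * f = f * 1
    rw [one_mul, mul_one]

/-- letters in the centraliser -/
noncomputable def gk (S : Side a b c d f g) (s : ℕ) : Subgroup.centralizer ({f} : Set G) :=
  ⟨gl b c d g s, mem_cent (S.gl_comm s)⟩

/-- `a` in the centraliser -/
noncomputable def ak (S : Side a b c d f g) : Subgroup.centralizer ({f} : Set G) := ⟨a, mem_cent S.af⟩

/-- the conjugation action of the letters -/
noncomputable def γ (S : Side a b c d f g) (s : ℕ) : MulAut (Subgroup.centralizer ({f} : Set G)) :=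
  MulAut.conj (S.gk s)

theorem ev_map {A B : Type*} [Group A] [Group B] (φ : A →* B) (x : ℕ → A) (w : List ℕ) :
    ev (fun s => φ (x s)) w = φ (ev x w) := by
  induction w with
  | nil => rw [ev_nil, ev_nil, map_one]
  | cons s w ih => rw [ev_cons, ev_cons, map_mul, ih]

theorem ev_γ (S : Side a b c d f g) (w : List ℕ) : ev S.γ w = MulAut.conj (ev S.gk w) :=
  ev_map MulAut.conj S.gk w

theorem coe_ev (S : Side a b c d f g) (w : List ℕ) : ((ev S.gk w : Subgroup.centralizer ({f} : Set G)) : G) =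
    ev (gl b c d g) w :=
  (ev_map (Subgroup.centralizer ({f} : Set G)).subtype S.gk w).symm

theorem gl_a (S : Side a b c d f g) (s : ℕ) (h : 0 < s) : gl b c d g s * a = a * gl b c d g s := by
  rcases s with _ | _ | _ | _ | _ | s
  · omega
  · exact S.ac.symm
  · exact S.ad.symm
  · exact S.ga
  · show g⁻¹ * a = a * g⁻¹
    rw [inv_mul_eq_iff_eq_mul, ← mul_assoc, S.ga, mul_assoc, mul_inv_cancel, mul_one]
  · show 1 * a = a * 1
    rw [one_mul, mul_one]

theorem gl_inv5 (b c d g : G) (hb : b * b = 1) (hc : c * c = 1) (hd : d * d = 1) :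
    ∀ s < 5, gl b c d g s * gl b c d g (inv5 s) = 1 := by
  intro s hs
  interval_cases s
  · rw [show inv5 0 = 0 by decide +kernel]; exact hb
  · rw [show inv5 1 = 1 by decide +kernel]; exact hc
  · rw [show inv5 2 = 2 by decide +kernel]; exact hd
  · rw [show inv5 3 = 4 by decide +kernel]; exact mul_inv_cancel g
  · rw [show inv5 4 = 3 by decide +kernel]; exact inv_mul_cancel g

theorem hyp (S : Side a b c d f g) : Hyp S.γ S.ak where
  inv s hs := by
    show MulAut.conj (S.gk s) * MulAut.conj (S.gk (inv5 s)) = 1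
    rw [← map_mul, show S.gk s * S.gk (inv5 s) = 1 from
      Subtype.ext (gl_inv5 b c d g S.bb S.cc S.dd s hs), map_one]
  rel r hr := by
    rw [ev_γ]
    ext x
    rw [MulAut.conj_apply, MulAut.one_apply]
    show ((ev S.gk r : Subgroup.centralizer ({f} : Set G)) : G) * (x : G) *
      ((ev S.gk r : Subgroup.centralizer ({f} : Set G)) : G)⁻¹ = x
    rw [coe_ev]
    rcases S.rels_ev r hr with h | h
    · rw [h]; group
    · rw [h, ← of_mem_cent x.2, mul_inv_cancel_right]
  fix s _ hs := by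
    show MulAut.conj (S.gk s) S.ak = S.ak
    apply Subtype.ext
    show gl b c d g s * a * (gl b c d g s)⁻¹ = a
    rw [S.gl_a s hs, mul_inv_cancel_right]

/-- the conjugates of `a` -/
noncomputable def Q (S : Side a b c d f g) (i : ℕ) : G := (q S.γ S.ak i : Subgroup.centralizer ({f} : Set G))

theorem Q_zero (S : Side a b c d f g) : S.Q 0 = a := by
  unfold Q; rw [q_zero]; rfl

theorem Q_comm (S : Side a b c d f g) (i : ℕ) : S.Q i * f = f * S.Q i := of_mem_cent (Subtype.prop _)

theorem coe_smul (S : Side a b c d f g) (w : List ℕ) (x : Subgroup.centralizer ({f} : Set G)) :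
    (((ev S.γ w)⁻¹ • x : Subgroup.centralizer ({f} : Set G)) : G) =
      (ev (gl b c d g) w)⁻¹ * x * ev (gl b c d g) w := by
  rw [ev_γ, ← map_inv]
  show (((ev S.gk w)⁻¹ * x * (ev S.gk w)⁻¹⁻¹ : Subgroup.centralizer ({f} : Set G)) : G) = _
  rw [inv_inv, Subgroup.coe_mul, Subgroup.coe_mul, Subgroup.coe_inv, coe_ev]

theorem walkQ (S : Side a b c d f g) (w : List ℕ) (hw : ∀ s ∈ w, s < 5) {i j : ℕ} (hi : i < 630)
    (h : walk 65536 w i = j + 1) : j < 630 ∧ S.Q j = (ev (gl b c d g) w)⁻¹ * S.Q i * ev (gl b c d g) w := by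
  obtain ⟨h1, h2⟩ := walk_q S.hyp w hw hi h
  refine ⟨h1, ?_⟩
  unfold Q
  rw [h2, S.coe_smul]

theorem goodQ (S : Side a b c d f g) {i s : ℕ} (hi : i < 630) (hs : s < 5) :
    ∃ j < 630, S.Q j = (gl b c d g s)⁻¹ * S.Q i * gl b c d g s := by
  obtain ⟨j, _, hj, h⟩ := good S.hyp i hi s hs
  refine ⟨j, hj, ?_⟩
  unfold Q
  rw [h]
  have := S.coe_smul [s] (q S.γ S.ak i)
  simpa only [ev, List.map_cons, List.map_nil, List.prod_cons, List.prod_nil, mul_one] using this

theorem conjQ (S : Side a b c d f g) {k : G} (hk : k * f = f * k) : ∀ i < 630, ∃ j < 630,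
    S.Q j = k⁻¹ * S.Q i * k := by
  have hk' : k ∈ Subgroup.closure {b, c, d, g} := by rw [← S.cent]; exact mem_cent hk
  clear hk
  induction hk' using Subgroup.closure_induction'' with
  | mem x hx =>
    intro i hi
    simp only [Set.mem_insert_iff, Set.mem_singleton_iff] at hx
    rcases hx with rfl | rfl | rfl | rfl
    · exact S.goodQ hi (s := 0) (by norm_num)
    · exact S.goodQ hi (s := 1) (by norm_num)
    · exact S.goodQ hi (s := 2) (by norm_num)
    · exact S.goodQ hi (s := 3) (by norm_num)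
  | inv_mem x hx =>
    intro i hi
    simp only [Set.mem_insert_iff, Set.mem_singleton_iff] at hx
    rcases hx with rfl | rfl | rfl | rfl
    · rw [S.binv]; exact S.goodQ hi (s := 0) (by norm_num)
    · rw [S.cinv]; exact S.goodQ hi (s := 1) (by norm_num)
    · rw [S.dinv]; exact S.goodQ hi (s := 2) (by norm_num)
    · exact S.goodQ hi (s := 4) (by norm_num)
  | one => intro i hi; exact ⟨i, hi, by group⟩
  | mul x y _ _ hx hy =>
    intro i hi
    obtain ⟨j, hj, h1⟩ := hx i hi
    obtain ⟨l, hl, h2⟩ := hy j hj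
    exact ⟨l, hl, by rw [h2, h1]; group⟩

theorem Q_conj (S : Side a b c d f g) (i : ℕ) (hi : i < 630) : ∃ k : G, k * f = f * k ∧ S.Q i = k⁻¹ * a * k := by
  induction i using Nat.strong_induction_on with
  | _ i ih =>
    by_cases h : par i / 5 < i
    · obtain ⟨k, hk, h2⟩ := ih (par i / 5) h (by omega)
      refine ⟨k * gl b c d g (par i % 5), ?_, ?_⟩
      · rw [mul_assoc, S.gl_comm, ← mul_assoc, hk, mul_assoc]
      · have : S.Q i = (gl b c d g (par i % 5))⁻¹ * S.Q (par i / 5) * gl b c d g (par i % 5) := by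
          unfold Q
          rw [q, dif_pos h]
          have := S.coe_smul [par i % 5] (q S.γ S.ak (par i / 5))
          simpa only [ev, List.map_cons, List.map_nil, List.prod_cons, List.prod_nil, mul_one] using this
        rw [this, h2]; group
    · refine ⟨1, by rw [one_mul, mul_one], ?_⟩
      unfold Q
      rw [q, dif_neg h]
      show a = _
      group

/-- the orbit has 630 elements -/
theorem Q_inj (S : Side a b c d f g) : Set.InjOn S.Q (Set.Iio 630) := by
  classical
  have hfin : Finite (Subgroup.centralizer ({f} : Set G)) :=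
    Nat.finite_of_card_ne_zero (by rw [S.cardC]; norm_num)
  let _ : MulAction (Subgroup.centralizer ({f} : Set G)) G :=
    MulAction.compHom G ((MulAut.conj : G →* MulAut G).comp (Subgroup.centralizer ({f} : Set G)).subtype)
  have hsmul : ∀ (k : Subgroup.centralizer ({f} : Set G)) (x : G), k • x = (k : G) * x * (k : G)⁻¹ :=
    fun k x => rfl
  have horb : MulAction.orbit (Subgroup.centralizer ({f} : Set G)) a = S.Q '' Set.Iio 630 := by
    ext x
    constructor
    · rintro ⟨k, rfl⟩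
      have hk := of_mem_cent k.2
      obtain ⟨j, hj, h⟩ := S.conjQ (k := (k : G)⁻¹) (by
        rw [inv_mul_eq_iff_eq_mul, ← mul_assoc, hk, mul_assoc, mul_inv_cancel, mul_one]) 0 (by norm_num)
      refine ⟨j, hj, ?_⟩
      rw [h, S.Q_zero, inv_inv]
      exact (hsmul k a).symm
    · rintro ⟨i, hi, rfl⟩
      obtain ⟨k, hk, h⟩ := S.Q_conj i hi
      refine ⟨⟨k⁻¹, mem_cent (by
        rw [inv_mul_eq_iff_eq_mul, ← mul_assoc, hk, mul_assoc, mul_inv_cancel, mul_one])⟩, ?_⟩
      show k⁻¹ * a * k⁻¹⁻¹ = _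
      rw [inv_inv, h]
  have hstab : MulAction.stabilizer (Subgroup.centralizer ({f} : Set G)) a =
      (Subgroup.centralizer ({a} : Set G)).subgroupOf (Subgroup.centralizer ({f} : Set G)) := by
    ext k
    rw [MulAction.mem_stabilizer_iff, hsmul, Subgroup.mem_subgroupOf, Subgroup.mem_centralizer_iff]
    constructor
    · intro h y hy
      rw [Set.mem_singleton_iff] at hy
      rw [hy]; exact (mul_inv_eq_iff_eq_mul.mp h).symm
    · intro h
      rw [← h a rfl, mul_inv_cancel_right]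
  have hcard : Nat.card (MulAction.stabilizer (Subgroup.centralizer ({f} : Set G)) a) = 256 := by
    rw [hstab, ← S.cardA, ← Subgroup.subgroupOf_map_subtype]
    exact (Subgroup.card_map_of_injective (Subgroup.subtype_injective _)).symm
  have hidx : (MulAction.orbit (Subgroup.centralizer ({f} : Set G)) a).ncard = 630 := by
    rw [← MulAction.index_stabilizer]
    have := Subgroup.card_mul_index (MulAction.stabilizer (Subgroup.centralizer ({f} : Set G)) a)
    rw [hcard, S.cardC] at this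
    omega
  rw [horb] at hidx
  refine (Set.ncard_image_iff (Set.finite_Iio 630)).mp ?_
  rw [hidx]
  simp [Set.ncard_eq_toFinset_card']

end Side

end Cfsg.Agent.ONType.CfSide
end

-- part: ONType/CfCheck
section
/-!
# Finite checks on the 630 conjugates
-/

set_option autoImplicit false
set_option maxRecDepth 100000
set_option linter.unusedVariables false

namespace Cfsg.Agent.ONType.CfSide

open Cfsg.Agent.SporadicRecognition.CosetCert Cfsg.Agent.ONType.Hom Cfsg.Agent.ONType.CfTab

/-- conjugates of `b` under `⟨c, d, g⟩` -/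
def LA : List (ℕ × List ℕ) := [(10, []), (17, [1]), (4, [3]), (3, [4]), (33, [1, 2]), (7, [1, 3]), (6, [1, 4]), (12, [3, 1]), (1, [3, 3]), (9, [4, 1]), (28, [1, 2, 1]), (15, [1, 2, 3]), (14, [1, 2, 4]), (19, [1, 3, 1]), (2, [1, 3, 3]), (11, [1, 4, 1]), (26, [3, 1, 2]), (23, [3, 1, 3]), (20, [3, 1, 4]), (22, [4, 1, 2]), (13, [1, 2, 1, 2]), (30, [1, 2, 1, 3]), (29, [1, 2, 1, 4]), (35, [1, 2, 3, 1]), (5, [1, 2, 3, 3]), (32, [1, 2, 4, 1]), (8, [1, 3, 1, 3]), (24, [1, 3, 1, 4]), (46, [3, 1, 2, 3]), (43, [3, 1, 2, 4]), (60, [1, 2, 3, 1, 3]), (59, [1, 2, 3, 1, 4])]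

/-- conjugates of the point `534` -/
def LB : List (ℕ × List ℕ) := [(534, []), (578, [1]), (580, [2]), (399, [3]), (431, [4]), (587, [1, 2]), (460, [1, 3]), (487, [1, 4]), (465, [2, 1]), (532, [2, 3]), (552, [2, 4]), (329, [3, 1]), (533, [3, 3]), (328, [4, 1]), (573, [1, 2, 3]), (483, [1, 2, 4]), (348, [1, 3, 1]), (577, [1, 3, 3]), (349, [1, 4, 1]), (327, [2, 1, 3]), (560, [2, 1, 4]), (588, [2, 3, 1]), (579, [2, 3, 3]), (206, [3, 1, 3]), (466, [3, 1, 4]), (464, [4, 1, 2]), (526, [1, 2, 3, 1]), (345, [1, 2, 4, 1]), (463, [1, 3, 1, 2]), (486, [1, 3, 1, 3]), (225, [1, 3, 1, 4]), (484, [1, 4, 1, 2])]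

noncomputable def bdN (n : ℕ) (k : ℕ → ℕ) : ℕ := Nat.rec (motive := fun _ => ℕ) 0 (fun j _ => k j) n

noncomputable def bdB (n : ℕ) (k : ℕ → Bool) : Bool :=
  Nat.rec (motive := fun _ => Bool) false (fun j _ => k j) n

/-- `E x i`: the point `Q i⁻¹ * Q x * Q i` plus one, or `0` -/
noncomputable def E (fuel : ℕ) : ℕ → ℕ → ℕ :=
  Nat.rec (motive := fun _ => ℕ → ℕ → ℕ) (fun _ _ => 0)
    (fun _ ih x i => Nat.rec (motive := fun _ => ℕ) (walk 65536 [3, 3] x)
      (fun _ _ =>
        bdN (Nat.add (Nat.div (par i) 5) 1) fun p =>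
          bdN (Nat.add (Nat.mod (par i) 5) 1) fun s =>
            bdN (step 65536 x (inv5 s)) fun x1 =>
              bdN (ih x1 p) fun x2 => step 65536 x2 s) i) fuel

noncomputable def okw (base : ℕ) (t : ℕ × List ℕ) : Bool :=
  Nat.beq (walk 65536 t.2 base) (Nat.succ t.1) && t.2.all fun s => Nat.ble 1 s && Nat.blt s 5

noncomputable def inList (base : ℕ) (L : List (ℕ × List ℕ)) (i : ℕ) : Bool :=
  List.rec (motive := fun _ => Bool) false
    (fun t _ ih => Bool.rec ih (okw base t) (Nat.beq t.1 i)) L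

noncomputable def chkA (i : ℕ) : Bool :=
  bdB (E 20 0 i) fun e => bdB (walk 65536 [3, 3] i) fun r =>
    Bool.rec true (Nat.beq i 0 || (inList 10 LA i || inList 534 LB i)) (Nat.beq e r)

noncomputable def mem9 (i : ℕ) : Bool :=
  List.rec (motive := fun _ => Bool) false (fun t _ ih => Bool.rec ih true (Nat.beq t i))
    [0, 10, 1, 17, 2, 348, 349, 460, 487]

noncomputable def chkB (i : ℕ) : Bool :=
  bdB (E 20 0 i) fun e => bdB (walk 65536 [3, 3] i) fun r =>
    Bool.rec true
      (bdB (E 20 38 i) fun e' => bdB (walk 65536 [1] i) fun r' => Bool.rec true (mem9 i) (Nat.beq e' r'))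
      (Nat.beq e r)

noncomputable def parOK (i : ℕ) : Bool := Nat.beq i 0 || Nat.blt (Nat.div (par i) 5) i

theorem all_par : allN parOK 630 = true := by decide +kernel
theorem all_chkA : allN chkA 630 = true := by decide +kernel
theorem all_chkB : allN chkB 630 = true := by decide +kernel
theorem all_LA : LA.all (okw 10) = true := by decide +kernel

end Cfsg.Agent.ONType.CfSide
end

-- part: ONType/CfFacts
section
/-!
# Facts about the centraliser of an involution of O'Nan type, II
-/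

set_option autoImplicit false
set_option maxRecDepth 100000
set_option linter.unusedVariables false

namespace Cfsg.Agent.ONType.CfSide

open Cfsg.Agent.SporadicRecognition.CosetCert Cfsg.Agent.ONType.Hom Cfsg.Agent.ONType.CfTab

variable {G : Type*} [Group G] {a b c d f g : G}

theorem bdB_eq {P : ℕ → Bool} {n : ℕ} (h : bdB n P = true) : ∃ j, n = j + 1 ∧ P j = true := by
  cases n with
  | zero => exact absurd h (by simp [bdB])
  | succ m => exact ⟨m, rfl, h⟩

theorem bdN_eq {P : ℕ → ℕ} {n r : ℕ} (h : bdN n P = r + 1) : ∃ j, n = j + 1 ∧ P j = r + 1 := by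
  cases n with
  | zero => exact absurd h (by simp [bdN])
  | succ m => exact ⟨m, rfl, h⟩

theorem par_lt {i : ℕ} (hi : i < 630) (h0 : 0 < i) : par i / 5 < i := by
  have h := allN_sound all_par i hi
  unfold parOK at h
  rw [Bool.or_eq_true] at h
  rcases h with h | h
  · have : i = 0 := Nat.eq_of_beq_eq_true h
    omega
  · exact Nat.le_of_ble_eq_true h

namespace Side

theorem Q_par (S : Side a b c d f g) {i : ℕ} (hi : i < 630) (h0 : 0 < i) :
    S.Q i = (gl b c d g (par i % 5))⁻¹ * S.Q (par i / 5) * gl b c d g (par i % 5) := by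
  unfold Q
  rw [q, dif_pos (par_lt hi h0)]
  have := S.coe_smul [par i % 5] (q S.γ S.ak (par i / 5))
  simpa only [ev, List.map_cons, List.map_nil, List.prod_cons, List.prod_nil, mul_one] using this

theorem stepQ (S : Side a b c d f g) {i j s : ℕ} (hi : i < 630) (hs : s < 5)
    (h : step 65536 i s = j + 1) : j < 630 ∧ S.Q j = (gl b c d g s)⁻¹ * S.Q i * gl b c d g s := by
  have h1 : walk 65536 [s] i = j + 1 := by
    show Nat.rec (motive := fun _ => ℕ) 0 (fun j _ => walk 65536 [] j) (step 65536 i s) = j + 1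
    rw [h]; rfl
  obtain ⟨h2, h3⟩ := S.walkQ [s] (by simpa using hs) hi h1
  refine ⟨h2, ?_⟩
  simpa only [ev, List.map_cons, List.map_nil, List.prod_cons, List.prod_nil, mul_one] using h3

theorem gg_conj (S : Side a b c d f g) {x : G} (hx : x * f = f * x) : (g * g)⁻¹ * x * (g * g) = a * x * a := by
  rw [S.g2, mul_inv_rev, S.ainv, S.finv]
  calc f * a * x * (a * f) = f * (a * (x * (a * f))) := by simp only [mul_assoc]
    _ = f * (a * (x * (f * a))) := by rw [S.af]
    _ = f * (a * (x * f * a)) := by simp only [mul_assoc]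
    _ = f * (a * (f * x * a)) := by rw [hx]
    _ = f * (a * f) * (x * a) := by simp only [mul_assoc]
    _ = f * (f * a) * (x * a) := by rw [S.af]
    _ = (f * f) * (a * x * a) := by simp only [mul_assoc]
    _ = a * x * a := by rw [S.ff, one_mul]

theorem walkA (S : Side a b c d f g) {i j : ℕ} (hi : i < 630) (h : walk 65536 [3, 3] i = j + 1) :
    j < 630 ∧ S.Q j = a * S.Q i * a := by
  obtain ⟨h1, h2⟩ := S.walkQ [3, 3] (by simp) hi h
  refine ⟨h1, ?_⟩
  rw [h2]
  simp only [ev, List.map_cons, List.map_nil, List.prod_cons, List.prod_nil, mul_one, gl]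
  exact S.gg_conj (S.Q_comm i)

theorem E_sound (S : Side a b c d f g) (fuel : ℕ) : ∀ x i r, x < 630 → i < 630 → E fuel x i = r + 1 →
    r < 630 ∧ S.Q r = (S.Q i)⁻¹ * S.Q x * S.Q i := by
  induction fuel with
  | zero => intro x i r _ _ h; exact absurd h (by simp [E])
  | succ n ih =>
    intro x i r hx hi h
    rcases i with _ | i
    · have h' : walk 65536 [3, 3] x = r + 1 := h
      obtain ⟨h1, h2⟩ := S.walkA hx h'
      refine ⟨h1, ?_⟩
      rw [h2, S.Q_zero, S.ainv]
    · have h' : (bdN (Nat.add (Nat.div (par (i + 1)) 5) 1) fun p =>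
          bdN (Nat.add (Nat.mod (par (i + 1)) 5) 1) fun s =>
            bdN (step 65536 x (inv5 s)) fun x1 =>
              bdN (E n x1 p) fun x2 => step 65536 x2 s) = r + 1 := h
      obtain ⟨p, hp, h'⟩ := bdN_eq h'
      obtain ⟨s, hs, h'⟩ := bdN_eq h'
      obtain ⟨x1, hx1, h'⟩ := bdN_eq h'
      obtain ⟨x2, hx2, h'⟩ := bdN_eq h'
      have hp' : p = par (i + 1) / 5 := by
        have : par (i + 1) / 5 + 1 = p + 1 := hp
        omega
      have hs' : s = par (i + 1) % 5 := by
        have : par (i + 1) % 5 + 1 = s + 1 := hs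
        omega
      have hpl : p < i + 1 := hp' ▸ par_lt hi (Nat.succ_pos i)
      have hsl : s < 5 := hs' ▸ Nat.mod_lt _ (by norm_num)
      have hQ := S.Q_par hi (Nat.succ_pos i)
      rw [← hp', ← hs'] at hQ
      obtain ⟨g1, g2⟩ := S.stepQ hx (inv5_lt s hsl) hx1
      obtain ⟨g3, g4⟩ := ih x1 p x2 g1 (by omega) hx2
      obtain ⟨g5, g6⟩ := S.stepQ g3 hsl h'
      refine ⟨g5, ?_⟩
      have hinv : gl b c d g (inv5 s) = (gl b c d g s)⁻¹ :=
        (inv_eq_of_mul_eq_one_right (gl_inv5 b c d g S.bb S.cc S.dd s hsl)).symm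
      rw [g6, g4, g2, hQ, hinv]
      group

/-- evaluation of a word -/
theorem walkW (S : Side a b c d f g) {w : List ℕ} {i j : ℕ} (hi : i < 630)
    (h : walk 65536 w i = j + 1) (hw : (w.all fun s => Nat.blt s 5) = true) :
    S.Q j = (ev (gl b c d g) w)⁻¹ * S.Q i * ev (gl b c d g) w := by
  refine (S.walkQ w ?_ hi h).2
  intro s hs
  exact Nat.le_of_ble_eq_true (List.all_eq_true.mp hw s hs)

theorem Q_ten (S : Side a b c d f g) : S.Q 10 = b := by
  have h := S.walkW (w := [0, 3, 3]) (i := 0) (j := 10) (by norm_num) (by decide +kernel) (by decide)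
  simp only [ev, List.map_cons, List.map_nil, List.prod_cons, List.prod_nil, mul_one, gl] at h
  rw [h, S.Q_zero]
  have h1 : (b * (g * g))⁻¹ * a * (b * (g * g)) = (g * g)⁻¹ * (b * a * b) * (g * g) := by
    rw [mul_inv_rev, S.binv]; simp only [mul_assoc]
  rw [h1, S.gg_conj]
  · have h2 := S.ab
    have h3 : a * b * (a * b) * (a * b) = 1 := by
      rw [← h2]; simp only [pow_succ, pow_zero, one_mul]
    calc a * (b * a * b) * a = (a * b * (a * b) * (a * b)) * b⁻¹ := by group
      _ = b := by rw [h3, one_mul, S.binv]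
  · calc b * a * b * f = b * (a * (b * f)) := by simp only [mul_assoc]
      _ = b * (a * (f * b)) := by rw [S.bf]
      _ = b * (a * f * b) := by simp only [mul_assoc]
      _ = b * (f * a * b) := by rw [S.af]
      _ = b * f * (a * b) := by simp only [mul_assoc]
      _ = f * b * (a * b) := by rw [S.bf]
      _ = _ := by simp only [mul_assoc]

theorem Q_38 (S : Side a b c d f g) : S.Q 38 = c := by
  have h := S.walkW (w := [1, 0]) (i := 10) (j := 38) (by norm_num) (by decide +kernel) (by decide)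
  simp only [ev, List.map_cons, List.map_nil, List.prod_cons, List.prod_nil, mul_one, gl] at h
  rw [h, S.Q_ten]
  have h3 : b * c * (b * c) * (b * c) = 1 := by
    rw [← S.bc]; simp only [pow_succ, pow_zero, one_mul]
  calc (c * b)⁻¹ * b * (c * b) = b⁻¹ * c⁻¹ * b * (c * b) := by rw [mul_inv_rev]
    _ = b * c * b * (c * b) := by rw [S.binv, S.cinv]
    _ = (b * c * (b * c) * (b * c)) * c⁻¹ := by group
    _ = c := by rw [h3, one_mul, S.cinv]

/-- `w' = g c g⁻¹` satisfies `w' c w' = c a` -/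
theorem wc (S : Side a b c d f g) : (g * c * g⁻¹)⁻¹ * c * (g * c * g⁻¹) = c * a := by
  have hafg : ∀ x : G, (a * f) * (g * x) = g * ((a * f) * x) := fun x => by
    rw [mul_assoc, ← mul_assoc f g, ← S.gf, mul_assoc, ← mul_assoc a g, ← S.ga]
    simp only [mul_assoc]
  have hafc : ∀ x : G, (a * f) * (c * x) = c * ((a * f) * x) := fun x => by
    rw [mul_assoc, ← mul_assoc f c, ← S.cf, mul_assoc, ← mul_assoc a c, S.ac]
    simp only [mul_assoc]
  have h4 := S.cg4
  rw [pow4] at h4
  have key : c * (g * c * g⁻¹) * (c * (g * c * g⁻¹)) = a := by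
    rw [S.ginv]
    calc c * (g * c * (g * (a * f))) * (c * (g * c * (g * (a * f))))
        = c * (g * (c * (g * ((a * f) * (c * (g * (c * (g * (a * f))))))))) := by simp only [mul_assoc]
      _ = c * (g * (c * (g * (c * (g * (c * (g * ((a * f) * (a * f))))))))) := by
        rw [hafc, hafg, hafc, hafg]
      _ = c * (g * (c * (g * (c * (g * (c * g)))))) := by rw [S.afaf, mul_one]
      _ = a := h4
  have hw : (g * c * g⁻¹) * (g * c * g⁻¹) = 1 := by
    calc (g * c * g⁻¹) * (g * c * g⁻¹) = g * (c * c) * g⁻¹ := by group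
      _ = 1 := by rw [S.cc]; group
  rw [inv_eq_of_mul_eq_one_left hw]
  calc (g * c * g⁻¹) * c * (g * c * g⁻¹) = (c⁻¹) * (c * (g * c * g⁻¹) * (c * (g * c * g⁻¹))) := by group
    _ = c * a := by rw [key, S.cinv]

/-- `x = (c d)^2` satisfies `x⁻¹ c x = c a f` -/
theorem xc (S : Side a b c d f g) : (c * d * (c * d))⁻¹ * c * (c * d * (c * d)) = c * (a * f) := by
  have h4 := S.cd4
  have e : (c * d * (c * d))⁻¹ = d * c * (d * c) := by
    rw [mul_inv_rev, mul_inv_rev, S.cinv, S.dinv]
  have h5 : (c * d) ^ 4 = (c * d * (c * d)) * (c * d * (c * d)) := by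
    simp only [pow_succ, pow_zero, one_mul, mul_assoc]
  rw [e]
  have e2 : d * c * (d * c) * c = c * (c * d * (c * d)) := by
    calc d * c * (d * c) * c = d * c * d * (c * c) := by simp only [mul_assoc]
      _ = d * c * d := by rw [S.cc, mul_one]
      _ = (c * c) * (d * c * d) := by rw [S.cc, one_mul]
      _ = c * (c * d * (c * d)) := by simp only [mul_assoc]
  rw [e2, mul_assoc, ← h5, ← h4]

/-- the word conjugating `a` to `a f` -/
def U0 (b c d g : G) : G :=
  b * (g * (g * (c * b))) * (g * c * g⁻¹) * (c * d * (c * d)) * (b * (c * (g⁻¹ * (g⁻¹ * b))))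

theorem Va (S : Side a b c d f g) : (b * (g * (g * (c * b))))⁻¹ * a * (b * (g * (g * (c * b)))) = c := by
  have h1 := S.walkW (w := [0, 3, 3, 1, 0]) (i := 0) (j := 38) (by norm_num) (by decide +kernel) (by decide)
  rw [S.Q_38, S.Q_zero] at h1
  simp only [ev, List.map_cons, List.map_nil, List.prod_cons, List.prod_nil, mul_one, gl] at h1
  exact h1.symm

theorem Vinv (S : Side a b c d f g) : (b * (g * (g * (c * b))))⁻¹ = b * (c * (g⁻¹ * (g⁻¹ * b))) := by
  simp only [mul_inv_rev, S.binv, S.cinv, mul_assoc]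

theorem U0_a (S : Side a b c d f g) : (U0 b c d g)⁻¹ * a * U0 b c d g = a * f := by
  obtain ⟨V, hV⟩ : ∃ V, V = b * (g * (g * (c * b))) := ⟨_, rfl⟩
  obtain ⟨y, hy⟩ : ∃ y, y = g * c * g⁻¹ := ⟨_, rfl⟩
  obtain ⟨x, hx⟩ : ∃ x, x = c * d * (c * d) := ⟨_, rfl⟩
  have h1 := S.Va
  have h2 := S.wc
  have h3 := S.xc
  have hU : U0 b c d g = V * y * x * V⁻¹ := by
    rw [U0, ← S.Vinv, hV, hy, hx]
  rw [← hV] at h1
  rw [← hy] at h2
  rw [← hx] at h3
  have h4 : x * a = a * x := by
    have e1 := S.ac; have e2 := S.ad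
    have hc : Commute (c * d * (c * d)) a :=
      ((show Commute c a from e1.symm).mul_left (show Commute d a from e2.symm)).mul_left
        ((show Commute c a from e1.symm).mul_left (show Commute d a from e2.symm))
    rw [hx]; exact hc.eq
  have hVf : V * f = f * V := by
    have hc : Commute (b * (g * (g * (c * b)))) f :=
      (show Commute b f from S.bf).mul_left ((show Commute g f from S.gf).mul_left
        ((show Commute g f from S.gf).mul_left ((show Commute c f from S.cf).mul_left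
          (show Commute b f from S.bf))))
    rw [hV]; exact hc.eq
  rw [hU]
  calc (V * y * x * V⁻¹)⁻¹ * a * (V * y * x * V⁻¹)
      = V * (x⁻¹ * (y⁻¹ * (V⁻¹ * a * V) * y) * x) * V⁻¹ := by group
    _ = V * (x⁻¹ * (c * a) * x) * V⁻¹ := by rw [h1, h2]
    _ = V * ((x⁻¹ * c * x) * (x⁻¹ * (a * x))) * V⁻¹ := by group
    _ = V * (c * (a * f) * (x⁻¹ * (x * a))) * V⁻¹ := by rw [h3, h4]
    _ = V * (c * (a * f * a)) * V⁻¹ := by group
    _ = V * (c * f) * V⁻¹ := by
      rw [mul_assoc a f a, ← S.af, ← mul_assoc a a f, S.aa, one_mul]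
    _ = (V * c) * (f * V⁻¹) := by group
    _ = (V * (V⁻¹ * a * V)) * (V⁻¹ * f) := by
      rw [h1]
      congr 1
      rw [eq_comm, inv_mul_eq_iff_eq_mul, ← mul_assoc, hVf, mul_assoc, mul_inv_cancel, mul_one]
    _ = a * f := by group

theorem Q_627 (S : Side a b c d f g) : S.Q 627 = a * f := by
  have h := S.walkW (w := [0, 3, 3, 1, 0, 3, 1, 4, 1, 2, 1, 2, 0, 1, 4, 4, 0]) (i := 0) (j := 627)
    (by norm_num) (by decide +kernel) (by decide)
  rw [h, S.Q_zero, ← S.U0_a]
  simp only [ev, List.map_cons, List.map_nil, List.prod_cons, List.prod_nil, mul_one, gl, U0, mul_assoc]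

/-- points and multiplication by `f` -/
theorem Q_mul_f (S : Side a b c d f g) {w : List ℕ} {i j : ℕ}
    (h1 : walk 65536 w 0 = i + 1) (h2 : walk 65536 w 627 = j + 1) (hw : (w.all fun s => Nat.blt s 5) = true) :
    S.Q j = S.Q i * f := by
  have e1 := S.walkW (by norm_num) h1 hw
  have e2 := S.walkW (by norm_num) h2 hw
  rw [e1, e2, S.Q_zero, S.Q_627]
  have hf : ev (gl b c d g) w * f = f * ev (gl b c d g) w := by
    rw [← S.coe_ev]; exact of_mem_cent (Subtype.prop _)
  calc (ev (gl b c d g) w)⁻¹ * (a * f) * ev (gl b c d g) w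
      = (ev (gl b c d g) w)⁻¹ * a * (f * ev (gl b c d g) w) := by simp only [mul_assoc]
    _ = _ := by rw [← hf]; simp only [mul_assoc]

theorem Q_534 (S : Side a b c d f g) : S.Q 534 = (U0 b c d g)⁻¹ * b * U0 b c d g * f := by
  have h1 := S.Q_mul_f (w := [0, 1, 2, 1, 0, 4, 0, 1, 3, 0]) (i := 379) (j := 534) (by decide +kernel)
    (by decide +kernel) (by decide)
  have h2 := S.walkW (w := [0, 3, 3, 1, 0, 3, 1, 4, 1, 2, 1, 2, 0, 1, 4, 4, 0]) (i := 10) (j := 379)
    (by norm_num) (by decide +kernel) (by decide)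
  rw [h1, h2, S.Q_ten]
  simp only [ev, List.map_cons, List.map_nil, List.prod_cons, List.prod_nil, mul_one, gl, U0, mul_assoc]

end Side

end Cfsg.Agent.ONType.CfSide
end

-- part: ONType/CfMain
section
/-!
# Facts about the centraliser of an involution of O'Nan type, III
-/

set_option autoImplicit false
set_option maxRecDepth 100000
set_option linter.unusedVariables false

namespace Cfsg.Agent.ONType.CfSide

open Cfsg.Agent.SporadicRecognition.CosetCert Cfsg.Agent.ONType.Hom Cfsg.Agent.ONType.CfTab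

variable {G : Type*} [Group G] {a b c d f g : G}

theorem inList_sound {base i : ℕ} {L : List (ℕ × List ℕ)} (h : inList base L i = true) :
    ∃ w : List ℕ, walk 65536 w base = i + 1 ∧ ∀ s ∈ w, 1 ≤ s ∧ s < 5 := by
  induction L with
  | nil => exact absurd h (by simp [inList])
  | cons t L ih =>
    have h' : Bool.rec (motive := fun _ => Bool) (inList base L i) (okw base t) (Nat.beq t.1 i) = true := h
    rcases hb : Nat.beq t.1 i with _ | _
    · rw [hb] at h'; exact ih h'
    · rw [hb] at h'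
      have h2 : okw base t = true := h'
      unfold okw at h2
      rw [Bool.and_eq_true] at h2
      have h3 : walk 65536 t.2 base = t.1 + 1 := Nat.eq_of_beq_eq_true h2.1
      have h4 : t.1 = i := Nat.eq_of_beq_eq_true hb
      refine ⟨t.2, by rw [h3, h4], fun s hs => ?_⟩
      have := List.all_eq_true.mp h2.2 s hs
      rw [Bool.and_eq_true] at this
      exact ⟨Nat.le_of_ble_eq_true this.1, Nat.le_of_ble_eq_true this.2⟩

theorem chkA_sound {i e r : ℕ} (hi : i < 630) (he : E 20 0 i = e + 1) (hr : walk 65536 [3, 3] i = r + 1)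
    (h : e = r) : i = 0 ∨ inList 10 LA i = true ∨ inList 534 LB i = true := by
  have hc := allN_sound all_chkA i hi
  unfold chkA at hc
  obtain ⟨e', he', hc⟩ := bdB_eq hc
  obtain ⟨r', hr', hc⟩ := bdB_eq hc
  have h1 : e' = r' := by omega
  have h2 : Nat.beq e' r' = true := by rw [h1]; exact Nat.beq_refl _
  rw [h2] at hc
  have hc' : (Nat.beq i 0 || (inList 10 LA i || inList 534 LB i)) = true := hc
  rw [Bool.or_eq_true, Bool.or_eq_true] at hc'
  rcases hc' with h | h | h
  · exact Or.inl (Nat.eq_of_beq_eq_true h)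
  · exact Or.inr (Or.inl h)
  · exact Or.inr (Or.inr h)

theorem chkA_ex {i : ℕ} (hi : i < 630) : ∃ e r, E 20 0 i = e + 1 ∧ walk 65536 [3, 3] i = r + 1 := by
  have hc := allN_sound all_chkA i hi
  unfold chkA at hc
  obtain ⟨e', he', hc⟩ := bdB_eq hc
  obtain ⟨r', hr', hc⟩ := bdB_eq hc
  exact ⟨e', r', he', hr'⟩

theorem mem9_sound {i : ℕ} (h : mem9 i = true) : i ∈ [0, 10, 1, 17, 2, 348, 349, 460, 487] := by
  have key : ∀ L : List ℕ, List.rec (motive := fun _ => Bool) false
      (fun t _ ih => Bool.rec (motive := fun _ => Bool) ih true (Nat.beq t i)) L = true → i ∈ L := by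
    intro L
    induction L with
    | nil => intro h; exact absurd h (by simp)
    | cons t L ih =>
      intro h
      have h' : Bool.rec (motive := fun _ => Bool) (List.rec (motive := fun _ => Bool) false
        (fun t _ ih => Bool.rec (motive := fun _ => Bool) ih true (Nat.beq t i)) L) true (Nat.beq t i) = true := h
      rcases hb : Nat.beq t i with _ | _
      · rw [hb] at h'; exact List.mem_cons_of_mem _ (ih h')
      · have h4 : t = i := Nat.eq_of_beq_eq_true hb
        rw [h4]; exact List.mem_cons_self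
  exact key _ h

theorem chkB_sound {i e r e' r' : ℕ} (hi : i < 630) (he : E 20 0 i = e + 1)
    (hr : walk 65536 [3, 3] i = r + 1) (h : e = r) (he' : E 20 38 i = e' + 1)
    (hr' : walk 65536 [1] i = r' + 1) (h' : e' = r') : i ∈ [0, 10, 1, 17, 2, 348, 349, 460, 487] := by
  have hc := allN_sound all_chkB i hi
  unfold chkB at hc
  obtain ⟨e1, he1, hc⟩ := bdB_eq hc
  obtain ⟨r1, hr1, hc⟩ := bdB_eq hc
  have h1 : e1 = r1 := by omega
  have h2 : Nat.beq e1 r1 = true := by rw [h1]; exact Nat.beq_refl _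
  rw [h2] at hc
  obtain ⟨e2, he2, hc⟩ := bdB_eq hc
  obtain ⟨r2, hr2, hc⟩ := bdB_eq hc
  have h3 : e2 = r2 := by omega
  have h4 : Nat.beq e2 r2 = true := by rw [h3]; exact Nat.beq_refl _
  rw [h4] at hc
  exact mem9_sound hc

theorem chkB_ex {i e r : ℕ} (hi : i < 630) (he : E 20 0 i = e + 1) (hr : walk 65536 [3, 3] i = r + 1)
    (h : e = r) : ∃ e' r', E 20 38 i = e' + 1 ∧ walk 65536 [1] i = r' + 1 := by
  have hc := allN_sound all_chkB i hi
  unfold chkB at hc
  obtain ⟨e1, he1, hc⟩ := bdB_eq hc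
  obtain ⟨r1, hr1, hc⟩ := bdB_eq hc
  have h1 : e1 = r1 := by omega
  have h2 : Nat.beq e1 r1 = true := by rw [h1]; exact Nat.beq_refl _
  rw [h2] at hc
  obtain ⟨e2, he2, hc⟩ := bdB_eq hc
  obtain ⟨r2, hr2, hc⟩ := bdB_eq hc
  exact ⟨e2, r2, he2, hr2⟩

/-- two involutions whose product has order 3 -/
theorem braid {x y : G} (hx : x * x = 1) (hy : y * y = 1) (h : (x * y) ^ 3 = 1) : y * x * y = x * y * x := by
  have h3 : x * y * (x * y) * (x * y) = 1 := by
    rw [← h]; simp only [pow_succ, pow_zero, one_mul]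
  have hx' : x⁻¹ = x := inv_eq_of_mul_eq_one_left hx
  have hy' : y⁻¹ = y := inv_eq_of_mul_eq_one_left hy
  calc y * x * y = x⁻¹ * (x * y * (x * y) * (x * y)) * y⁻¹ * x⁻¹ := by group
    _ = x * y * x := by rw [h3, hx', hy', mul_one]

namespace Side

/-- the elements inverted ... by `a` with product of order 3 are points -/
theorem exists_point (S : Side a b c d f g) {x : G} (hxf : x * f = f * x) (hx : x * x = 1)
    (hax : (a * x) ^ 3 = 1) : ∃ i < 630, S.Q i = x := by
  have hb := braid S.aa hx hax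
  have hk : x * a * f = f * (x * a) := by
    rw [mul_assoc, S.af, ← mul_assoc, hxf, mul_assoc]
  obtain ⟨j, hj, h⟩ := S.conjQ hk 0 (by norm_num)
  refine ⟨j, hj, ?_⟩
  have hx' : x⁻¹ = x := inv_eq_of_mul_eq_one_left hx
  rw [h, S.Q_zero, mul_inv_rev, S.ainv, hx']
  calc a * x * a * (x * a) = a * (x * a * x) * a := by simp only [mul_assoc]
    _ = a * (a * x * a) * a := by rw [hb]
    _ = (a * a) * x * (a * a) := by simp only [mul_assoc]
    _ = x := by rw [S.aa, one_mul, mul_one]

theorem point_cond (S : Side a b c d f g) {x : G} (hxf : x * f = f * x) (hx : x * x = 1)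
    (hax : (a * x) ^ 3 = 1) {i : ℕ} (hi : i < 630) (hQ : S.Q i = x) :
    ∃ e r, E 20 0 i = e + 1 ∧ walk 65536 [3, 3] i = r + 1 ∧ e = r := by
  obtain ⟨e, r, he, hr⟩ := chkA_ex hi
  refine ⟨e, r, he, hr, ?_⟩
  obtain ⟨h1, h2⟩ := S.E_sound 20 0 i e (by norm_num) hi he
  obtain ⟨h3, h4⟩ := S.walkA hi hr
  apply S.Q_inj h1 h3
  have hx' : x⁻¹ = x := inv_eq_of_mul_eq_one_left hx
  rw [h2, h4, hQ, S.Q_zero, hx']
  exact braid S.aa hx hax

theorem ev_comm_a (S : Side a b c d f g) {w : List ℕ} (hw : ∀ s ∈ w, 1 ≤ s ∧ s < 5) :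
    ev (gl b c d g) w * a = a * ev (gl b c d g) w := by
  induction w with
  | nil => rw [ev_nil, one_mul, mul_one]
  | cons s w ih =>
    rw [ev_cons, mul_assoc, ih (fun y hy => hw y (by simp [hy])), ← mul_assoc,
      S.gl_a s (hw s (by simp)).1, mul_assoc]

theorem ev_comm_f (S : Side a b c d f g) (w : List ℕ) :
    ev (gl b c d g) w * f = f * ev (gl b c d g) w := by
  rw [← S.coe_ev]; exact of_mem_cent (Subtype.prop _)

theorem U0_f (S : Side a b c d f g) : U0 b c d g * f = f * U0 b c d g := by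
  have := S.ev_comm_f [0, 3, 3, 1, 0, 3, 1, 4, 1, 2, 1, 2, 0, 1, 4, 4, 0]
  have e : U0 b c d g = ev (gl b c d g) [0, 3, 3, 1, 0, 3, 1, 4, 1, 2, 1, 2, 0, 1, 4, 4, 0] := by
    simp only [ev, List.map_cons, List.map_nil, List.prod_cons, List.prod_nil, mul_one, gl, U0, mul_assoc]
  rw [e]; exact this

/-- every involution `x ≠ a` commuting with `f` with `(a x)^3 = 1` is conjugate to `b` up to `f`. -/
theorem class_b (S : Side a b c d f g) {x : G} (hxf : x * f = f * x) (hx : x * x = 1)
    (hax : (a * x) ^ 3 = 1) (hne : x ≠ a) : ∃ m : G, m * f = f * m ∧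
      ((m * a * m⁻¹ = a ∧ m * x * m⁻¹ = b) ∨ (m * a * m⁻¹ = a * f ∧ m * x * m⁻¹ = b * f)) := by
  obtain ⟨i, hi, hQ⟩ := S.exists_point hxf hx hax
  obtain ⟨e, r, he, hr, her⟩ := S.point_cond hxf hx hax hi hQ
  rcases chkA_sound hi he hr her with h | h | h
  · exfalso
    rw [h, S.Q_zero] at hQ
    exact hne hQ.symm
  · obtain ⟨w, hw, hl⟩ := inList_sound h
    have h1 := (S.walkQ w (fun s hs => (hl s hs).2) (by norm_num) hw).2
    refine ⟨ev (gl b c d g) w, S.ev_comm_f w, Or.inl ⟨?_, ?_⟩⟩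
    · rw [S.ev_comm_a hl, mul_inv_cancel_right]
    · rw [← hQ, h1, S.Q_ten]; group
  · obtain ⟨w, hw, hl⟩ := inList_sound h
    have h1 := (S.walkQ w (fun s hs => (hl s hs).2) (by norm_num) hw).2
    have h2 := S.U0_f
    have h3 := S.U0_a
    have h4 := S.ev_comm_f w
    refine ⟨U0 b c d g * ev (gl b c d g) w, ?_, Or.inr ⟨?_, ?_⟩⟩
    · rw [mul_assoc, h4, ← mul_assoc, h2, mul_assoc]
    · rw [mul_inv_rev]
      calc U0 b c d g * ev (gl b c d g) w * a * ((ev (gl b c d g) w)⁻¹ * (U0 b c d g)⁻¹)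
          = U0 b c d g * (ev (gl b c d g) w * a * (ev (gl b c d g) w)⁻¹) * (U0 b c d g)⁻¹ := by group
        _ = U0 b c d g * a * (U0 b c d g)⁻¹ := by rw [S.ev_comm_a hl, mul_inv_cancel_right]
        _ = U0 b c d g * (a * f) * f * (U0 b c d g)⁻¹ := by
          rw [← mul_assoc (U0 b c d g) a f, mul_assoc _ f f, S.ff, mul_one]
        _ = U0 b c d g * ((U0 b c d g)⁻¹ * a * U0 b c d g) * f * (U0 b c d g)⁻¹ := by rw [h3]
        _ = a * (U0 b c d g * f * (U0 b c d g)⁻¹) := by group
        _ = a * f := by rw [h2, mul_inv_cancel_right]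
    · rw [← hQ, h1, S.Q_534, mul_inv_rev]
      calc U0 b c d g * ev (gl b c d g) w *
          ((ev (gl b c d g) w)⁻¹ * ((U0 b c d g)⁻¹ * b * U0 b c d g * f) * ev (gl b c d g) w) *
            ((ev (gl b c d g) w)⁻¹ * (U0 b c d g)⁻¹)
          = b * (U0 b c d g * f * (U0 b c d g)⁻¹) := by group
        _ = b * f := by rw [h2, mul_inv_cancel_right]

theorem bw (S : Side a b c d f g) : b * (g * d * g⁻¹) = (g * d * g⁻¹) * b := by
  have h := S.walkW (w := [3, 2, 4]) (i := 10) (j := 10) (by norm_num) (by decide +kernel) (by decide)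
  simp only [ev, List.map_cons, List.map_nil, List.prod_cons, List.prod_nil, mul_one, gl] at h
  rw [S.Q_ten] at h
  have h2 : g * d * g⁻¹ * b = g * d * g⁻¹ * ((g * (d * g⁻¹))⁻¹ * b * (g * (d * g⁻¹))) := by rw [← h]
  rw [h2]; group

theorem ww (S : Side a b c d f g) : (g * d * g⁻¹) * (g * d * g⁻¹) = 1 := by
  calc (g * d * g⁻¹) * (g * d * g⁻¹) = g * (d * d) * g⁻¹ := by group
    _ = 1 := by rw [S.dd]; group

theorem dw (S : Side a b c d f g) : d * (g * d * g⁻¹) = (g * d * g⁻¹) * (d * f) := by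
  have hafg : ∀ x : G, (a * f) * (g * x) = g * ((a * f) * x) := fun x => by
    rw [mul_assoc, ← mul_assoc f g, ← S.gf, mul_assoc, ← mul_assoc a g, ← S.ga]
    simp only [mul_assoc]
  have hafd : ∀ x : G, (a * f) * (d * x) = d * ((a * f) * x) := fun x => by
    rw [mul_assoc, ← mul_assoc f d, ← S.df, mul_assoc, ← mul_assoc a d, S.ad]
    simp only [mul_assoc]
  have h4 := S.dg4
  rw [pow4] at h4
  have key : d * (g * d * g⁻¹) * (d * (g * d * g⁻¹)) = f := by
    rw [S.ginv]
    calc d * (g * d * (g * (a * f))) * (d * (g * d * (g * (a * f))))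
        = d * (g * (d * (g * ((a * f) * (d * (g * (d * (g * (a * f))))))))) := by simp only [mul_assoc]
      _ = d * (g * (d * (g * (d * (g * (d * (g * ((a * f) * (a * f))))))))) := by
        rw [hafd, hafg, hafd, hafg]
      _ = d * (g * (d * (g * (d * (g * (d * g)))))) := by rw [S.afaf, mul_one]
      _ = f := h4
  have hw := S.ww
  have hw' := inv_eq_of_mul_eq_one_left hw
  calc d * (g * d * g⁻¹) = (d * (g * d * g⁻¹) * (d * (g * d * g⁻¹))) * (g * d * g⁻¹)⁻¹ * d⁻¹ := by group
    _ = f * (g * d * g⁻¹) * d := by rw [key, hw', S.dinv]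
    _ = (g * d * g⁻¹) * f * d := by
      congr 1
      rw [S.ginv]
      have hc : Commute (g * d * (g * (a * f))) f :=
        ((show Commute g f from S.gf).mul_left (show Commute d f from S.df)).mul_left
          ((show Commute g f from S.gf).mul_left ((show Commute a f from S.af).mul_left (Commute.refl f)))
      exact hc.eq.symm
    _ = (g * d * g⁻¹) * (d * f) := by rw [mul_assoc, ← S.df]

theorem wa (S : Side a b c d f g) : (g * d * g⁻¹) * a = a * (g * d * g⁻¹) := by
  have hg : Commute g a := S.ga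
  exact ((hg.mul_left (show Commute d a from S.ad.symm)).mul_left hg.inv_left).eq

theorem wf (S : Side a b c d f g) : (g * d * g⁻¹) * f = f * (g * d * g⁻¹) := by
  have hg : Commute g f := S.gf
  exact ((hg.mul_left (show Commute d f from S.df)).mul_left hg.inv_left).eq

end Side

theorem ne_of_comm {x y z : G} (hx : x * z = z * x) (hy : ¬ y * z = z * y) : x ≠ y :=
  fun h => hy (h ▸ hx)

/-- the eight elements of a dihedral group are distinct -/
theorem eight_nodup {d w f : G} (f1 : f ≠ 1) (hd : d * d = 1) (hw : w * w = 1)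
    (hdf : d * f = f * d) (hwf : w * f = f * w) (hdw : d * w = w * (d * f)) :
    List.Nodup [1, f, d, d * f, w, w * f, d * w, d * w * f] := by
  have hne : d * w ≠ w * d := by
    intro h
    rw [hdw] at h
    exact f1 (mul_eq_left.mp (mul_left_cancel h))
  have D1 : (1 : G) * d = d * 1 := by group
  have Df : f * d = d * f := hdf.symm
  have Dd : d * d = d * d := rfl
  have Ddf : d * f * d = d * (d * f) := by rw [mul_assoc, ← hdf]
  have Dw : ¬ w * d = d * w := fun h => hne h.symm
  have Dwf : ¬ w * f * d = d * (w * f) := by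
    intro h
    apply Dw
    rw [mul_assoc, ← hdf, ← mul_assoc, ← mul_assoc] at h
    exact mul_right_cancel h
  have Ddw : ¬ d * w * d = d * (d * w) := by
    intro h
    rw [mul_assoc] at h
    exact Dw (mul_left_cancel h)
  have Ddwf : ¬ d * w * f * d = d * (d * w * f) := by
    intro h
    apply Ddw
    rw [mul_assoc (d * w) f d, ← hdf, ← mul_assoc, ← mul_assoc] at h
    exact mul_right_cancel h
  have W1 : (1 : G) * w = w * 1 := by group
  have Wf : f * w = w * f := hwf.symm
  have Wd : ¬ d * w = w * d := hne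
  have Wdf : ¬ d * f * w = w * (d * f) := by
    intro h
    apply hne
    rw [mul_assoc, ← hwf, ← mul_assoc, ← mul_assoc] at h
    exact mul_right_cancel h
  have Ww : w * w = w * w := rfl
  have Wwf : w * f * w = w * (w * f) := by rw [mul_assoc, ← hwf]
  have Wdw : ¬ d * w * w = w * (d * w) := by
    intro h
    rw [← mul_assoc] at h
    exact hne (mul_right_cancel h)
  have Wdwf : ¬ d * w * f * w = w * (d * w * f) := by
    intro h
    apply Wdw
    rw [mul_assoc (d * w) f w, ← hwf, ← mul_assoc, ← mul_assoc] at h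
    exact mul_right_cancel h
  have nf : ∀ x : G, x ≠ x * f := fun x h => f1 (mul_eq_left.mp h.symm)
  have n01 : (1 : G) ≠ f := Ne.symm f1
  have n02 : (1 : G) ≠ d := ne_of_comm W1 Wd
  have n03 : (1 : G) ≠ d * f := ne_of_comm W1 Wdf
  have n04 : (1 : G) ≠ w := ne_of_comm D1 Dw
  have n05 : (1 : G) ≠ w * f := ne_of_comm D1 Dwf
  have n06 : (1 : G) ≠ d * w := ne_of_comm D1 Ddw
  have n07 : (1 : G) ≠ d * w * f := ne_of_comm D1 Ddwf
  have n12 : f ≠ d := ne_of_comm Wf Wd
  have n13 : f ≠ d * f := ne_of_comm Wf Wdf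
  have n14 : f ≠ w := ne_of_comm Df Dw
  have n15 : f ≠ w * f := ne_of_comm Df Dwf
  have n16 : f ≠ d * w := ne_of_comm Df Ddw
  have n17 : f ≠ d * w * f := ne_of_comm Df Ddwf
  have n23 : d ≠ d * f := nf _
  have n24 : d ≠ w := ne_of_comm Dd Dw
  have n25 : d ≠ w * f := ne_of_comm Dd Dwf
  have n26 : d ≠ d * w := ne_of_comm Dd Ddw
  have n27 : d ≠ d * w * f := ne_of_comm Dd Ddwf
  have n34 : d * f ≠ w := ne_of_comm Ddf Dw
  have n35 : d * f ≠ w * f := ne_of_comm Ddf Dwf
  have n36 : d * f ≠ d * w := ne_of_comm Ddf Ddw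
  have n37 : d * f ≠ d * w * f := ne_of_comm Ddf Ddwf
  have n45 : w ≠ w * f := nf _
  have n46 : w ≠ d * w := ne_of_comm Ww Wdw
  have n47 : w ≠ d * w * f := ne_of_comm Ww Wdwf
  have n56 : w * f ≠ d * w := ne_of_comm Wwf Wdw
  have n57 : w * f ≠ d * w * f := ne_of_comm Wwf Wdwf
  have n67 : d * w ≠ d * w * f := nf _
  simp only [List.nodup_cons, List.mem_cons, List.not_mem_nil, or_false, not_or, List.nodup_nil, and_true,
    not_false_eq_true]
  exact ⟨⟨n01, n02, n03, n04, n05, n06, n07⟩, ⟨n12, n13, n14, n15, n16, n17⟩, ⟨n23, n24, n25, n26, n27⟩, ⟨n34, n35, n36, n37⟩, ⟨n45, n46, n47⟩, ⟨n56, n57⟩, n67⟩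

theorem LA_nodup : (LA.map Prod.fst).Nodup := by decide

theorem LA_lt : ∀ t ∈ LA, t.1 < 630 := by decide

namespace Side

theorem LA_mem (S : Side a b c d f g) {t : ℕ × List ℕ} (ht : t ∈ LA) :
    ∃ u : G, u * a = a * u ∧ u * f = f * u ∧ S.Q t.1 = u⁻¹ * b * u := by
  have h := List.all_eq_true.mp all_LA t ht
  unfold okw at h
  rw [Bool.and_eq_true] at h
  have h3 : walk 65536 t.2 10 = t.1 + 1 := Nat.eq_of_beq_eq_true h.1
  have hl : ∀ s ∈ t.2, 1 ≤ s ∧ s < 5 := by
    intro s hs
    have := List.all_eq_true.mp h.2 s hs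
    rw [Bool.and_eq_true] at this
    exact ⟨Nat.le_of_ble_eq_true this.1, Nat.le_of_ble_eq_true this.2⟩
  refine ⟨ev (gl b c d g) t.2, S.ev_comm_a hl, S.ev_comm_f _, ?_⟩
  rw [(S.walkQ t.2 (fun s hs => (hl s hs).2) (by norm_num) h3).2, S.Q_ten]

theorem card_T (S : Side a b c d f g) : Set.Finite {x : G | x * a = a * x ∧ x * f = f * x ∧ x * b = b * x} ∧
    Set.ncard {x : G | x * a = a * x ∧ x * f = f * x ∧ x * b = b * x} ≤ 8 := by
  classical
  obtain ⟨A, hA⟩ : ∃ A : Subgroup G, A = Subgroup.centralizer {a} ⊓ Subgroup.centralizer {f} := ⟨_, rfl⟩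
  have hcA : Nat.card A = 256 := by rw [hA]; exact S.cardA
  have hfin : Finite A := Nat.finite_of_card_ne_zero (by rw [hcA]; norm_num)
  have hmem : ∀ x : G, x ∈ A ↔ x * a = a * x ∧ x * f = f * x := by
    intro x
    rw [hA, Subgroup.mem_inf]
    exact ⟨fun h => ⟨of_mem_cent h.1, of_mem_cent h.2⟩, fun h => ⟨mem_cent h.1, mem_cent h.2⟩⟩
  let _ : MulAction A G := MulAction.compHom G ((MulAut.conj : G →* MulAut G).comp A.subtype)
  have hsmul : ∀ (k : A) (x : G), k • x = (k : G) * x * (k : G)⁻¹ := fun k x => rfl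
  have horb : S.Q '' ((LA.map Prod.fst).toFinset : Set ℕ) ⊆ MulAction.orbit A b := by
    rintro _ ⟨i, hi, rfl⟩
    have hi' : i ∈ LA.map Prod.fst := by simpa using hi
    obtain ⟨t, ht, rfl⟩ := List.mem_map.mp hi'
    obtain ⟨u, hu1, hu2, hu3⟩ := S.LA_mem ht
    refine ⟨⟨u⁻¹, (hmem _).mpr ⟨?_, ?_⟩⟩, ?_⟩
    · rw [inv_mul_eq_iff_eq_mul, ← mul_assoc, hu1, mul_assoc, mul_inv_cancel, mul_one]
    · rw [inv_mul_eq_iff_eq_mul, ← mul_assoc, hu2, mul_assoc, mul_inv_cancel, mul_one]
    · show u⁻¹ * b * u⁻¹⁻¹ = _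
      rw [inv_inv, hu3]
  have hofin : (MulAction.orbit A b).Finite := Set.finite_range _
  have h32 : 32 ≤ (MulAction.orbit A b).ncard := by
    refine le_trans ?_ (Set.ncard_le_ncard horb hofin)
    have hinj : Set.InjOn S.Q ((LA.map Prod.fst).toFinset : Set ℕ) := by
      refine S.Q_inj.mono ?_
      intro i hi
      have hi' : i ∈ LA.map Prod.fst := by simpa using hi
      obtain ⟨t, ht, rfl⟩ := List.mem_map.mp hi'
      exact LA_lt t ht
    rw [hinj.ncard_image, Set.ncard_coe_finset, List.toFinset_card_of_nodup LA_nodup]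
    decide
  have hidx : (MulAction.stabilizer A b).index = (MulAction.orbit A b).ncard := MulAction.index_stabilizer A b
  have hmul := Subgroup.card_mul_index (MulAction.stabilizer A b)
  rw [hcA, hidx] at hmul
  have h8 : Nat.card (MulAction.stabilizer A b) ≤ 8 := by
    by_contra hcon
    push Not at hcon
    have : 9 * 32 ≤ Nat.card (MulAction.stabilizer A b) * (MulAction.orbit A b).ncard :=
      Nat.mul_le_mul hcon h32
    omega
  have himg : {x : G | x * a = a * x ∧ x * f = f * x ∧ x * b = b * x} ⊆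
      (fun x : MulAction.stabilizer A b => ((x : A) : G)) '' Set.univ := by
    rintro x ⟨h1, h2, h3⟩
    refine ⟨⟨⟨x, (hmem x).mpr ⟨h1, h2⟩⟩, ?_⟩, Set.mem_univ _, rfl⟩
    rw [MulAction.mem_stabilizer_iff, hsmul]
    show x * b * x⁻¹ = b
    rw [h3, mul_inv_cancel_right]
  have hf2 : ((fun x : MulAction.stabilizer A b => ((x : A) : G)) '' Set.univ).Finite := Set.toFinite _
  refine ⟨hf2.subset himg, (Set.ncard_le_ncard himg hf2).trans ?_⟩
  refine (Set.ncard_image_le (Set.toFinite _)).trans ?_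
  rw [Set.ncard_univ]
  exact h8

/-- the centraliser of `⟨a, b⟩` in the centraliser of `f` -/
theorem T_mem (S : Side a b c d f g) {x : G} (ha : x * a = a * x) (hf : x * f = f * x) (hb : x * b = b * x) :
    x ∈ [1, f, d, d * f, g * d * g⁻¹, (g * d * g⁻¹) * f, d * (g * d * g⁻¹), d * (g * d * g⁻¹) * f] := by
  classical
  obtain ⟨hfin, hcard⟩ := S.card_T
  obtain ⟨w, hw⟩ : ∃ w, w = g * d * g⁻¹ := ⟨_, rfl⟩
  have e1 := S.dw
  have e2 := S.wa
  have e3 := S.wf
  have e4 := S.bw
  have e5 := S.ww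
  rw [← hw] at e1 e2 e3 e4 e5 ⊢
  have hnd := eight_nodup S.f1 S.dd e5 S.df e3 e1
  have hsub : (([1, f, d, d * f, w, w * f, d * w, d * w * f] : List G).toFinset : Set G) ⊆
      {x : G | x * a = a * x ∧ x * f = f * x ∧ x * b = b * x} := by
    intro y hy
    have hy' : y ∈ ([1, f, d, d * f, w, w * f, d * w, d * w * f] : List G) := by simpa using hy
    have A1 : Commute (1 : G) a := Commute.one_left a
    have Af : Commute f a := S.af.symm
    have Ad : Commute d a := S.ad.symm
    have Aw : Commute w a := e2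
    have F1 : Commute (1 : G) f := Commute.one_left f
    have Ff : Commute f f := Commute.refl f
    have Fd : Commute d f := S.df
    have Fw : Commute w f := e3
    have B1 : Commute (1 : G) b := Commute.one_left b
    have Bf : Commute f b := S.bf.symm
    have Bd : Commute d b := S.bd.symm
    have Bw : Commute w b := e4.symm
    simp only [List.mem_cons, List.not_mem_nil, or_false] at hy'
    rcases hy' with rfl | rfl | rfl | rfl | rfl | rfl | rfl | rfl
    · exact ⟨A1.eq, F1.eq, B1.eq⟩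
    · exact ⟨Af.eq, Ff.eq, Bf.eq⟩
    · exact ⟨Ad.eq, Fd.eq, Bd.eq⟩
    · exact ⟨(Ad.mul_left Af).eq, (Fd.mul_left Ff).eq, (Bd.mul_left Bf).eq⟩
    · exact ⟨Aw.eq, Fw.eq, Bw.eq⟩
    · exact ⟨(Aw.mul_left Af).eq, (Fw.mul_left Ff).eq, (Bw.mul_left Bf).eq⟩
    · exact ⟨(Ad.mul_left Aw).eq, (Fd.mul_left Fw).eq, (Bd.mul_left Bw).eq⟩
    · exact ⟨((Ad.mul_left Aw).mul_left Af).eq, ((Fd.mul_left Fw).mul_left Ff).eq,
        ((Bd.mul_left Bw).mul_left Bf).eq⟩
  have heq := Set.eq_of_subset_of_ncard_le hsub (by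
    rw [Set.ncard_coe_finset, List.toFinset_card_of_nodup hnd]; exact hcard) hfin
  have hx : x ∈ {x : G | x * a = a * x ∧ x * f = f * x ∧ x * b = b * x} := ⟨ha, hf, hb⟩
  rw [← heq] at hx
  simpa using hx

end Side

end Cfsg.Agent.ONType.CfSide
end

-- part: ONType/Closing
section
/-!
# Closing argument for groups of O'Nan type: the commuting relation

`exists_transposition`: inside a subgroup `P` in which the centraliser of the involution `f` is
(dihedral of order 8) generated by `d`, `w` and in which `f` is fused to `d`, `w` in the obvious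
local way, there is an involution `e` with `(f e)^3 = (d e)^3 = 1`.
-/

set_option autoImplicit false

namespace Cfsg.Agent.ONType.Closing

variable {G : Type*} [Group G]

/-- `x` conjugates `p → q → p q → p`, then `x ^ 3` centralises `p` and `q`; if the common
centraliser of `p` and `q` is `{1, p, q, p q}` then `x ^ 3 = 1`. -/
theorem cube_eq_one {p q x : G} (hp1 : p ≠ 1) (hpp : p * p = 1)
    (h1 : SemiconjBy x q p) (h2 : SemiconjBy x (p * q) q) (hpq : Commute p q)
    (hC : ∀ y : G, y = x ^ 3 → Commute y p → Commute y q → y = 1 ∨ y = p ∨ y = q ∨ y = p * q) :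
    x ^ 3 = 1 := by
  have hqq : q * q = 1 := by
    -- `q = x⁻¹ p x`
    have : q = x⁻¹ * p * x := by
      have := h1.eq
      rw [mul_assoc, ← this, inv_mul_cancel_left]
    rw [this]
    calc x⁻¹ * p * x * (x⁻¹ * p * x) = x⁻¹ * (p * p) * x := by group
      _ = 1 := by rw [hpp]; group
  have h3 : SemiconjBy x p (p * q) := by
    have := h1.mul_right h2
    -- x * (q * (p*q)) = (p * q) * x
    have e : q * (p * q) = p := by
      rw [← mul_assoc, ← hpq.eq, mul_assoc, hqq, mul_one]
    rwa [e] at this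
  -- cubes
  have c1 : Commute (x ^ 3) p := by
    have a1 : SemiconjBy (x * x) (p * q) p := h1.mul_left h2
    have a2 : SemiconjBy (x * x * x) p p := a1.mul_left h3
    have : x ^ 3 = x * x * x := by rw [pow_succ, pow_two]
    rw [this]; exact a2
  have c2 : Commute (x ^ 3) q := by
    have a1 : SemiconjBy (x * x) p q := h2.mul_left h3
    have a2 : SemiconjBy (x * x * x) q q := a1.mul_left h1
    have : x ^ 3 = x * x * x := by rw [pow_succ, pow_two]
    rw [this]; exact a2
  have hx : Commute x (x ^ 3) := Commute.self_pow x 3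
  rcases hC _ rfl c1 c2 with h | h | h | h
  · exact h
  · -- x^3 = p : then p = q
    exfalso
    rw [h] at hx
    have e1 : q = p := by
      have := h1.eq; rw [← hx.eq] at this; exact mul_left_cancel this
    have e2 := h2.eq
    rw [e1, hpp, mul_one] at e2
    -- x = p * x
    exact hp1 (by
      have := e2.symm
      exact mul_eq_right.mp this)
  · exfalso
    rw [h] at hx
    have e2 := h2.eq
    rw [← hx.eq] at e2
    have := mul_left_cancel e2
    exact hp1 (mul_eq_right.mp this)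
  · exfalso
    rw [h] at hx
    have e3 := h3.eq
    rw [← hx.eq] at e3
    have e4 := mul_left_cancel e3
    -- p = p * q, so q = 1
    have hq1 : q = 1 := mul_eq_left.mp e4.symm
    have e5 := h1.eq
    rw [hq1, mul_one] at e5
    exact hp1 (mul_eq_right.mp e5.symm)

theorem exists_transposition (P : Subgroup G) {f d w k h : G}
    (hfP : f ∈ P) (hdP : d ∈ P) (hwP : w ∈ P) (hkP : k ∈ P) (hhP : h ∈ P)
    (hf1 : f ≠ 1) (hf : f * f = 1) (hd : d * d = 1) (hw : w * w = 1)
    (hfd : Commute f d) (hfw : Commute f w) (hdw : d * w = w * (d * f))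
    (hkd : Commute k d) (hkf : f * k = k * (f * d))
    (hhw : Commute h w) (hhf : f * h = h * (f * w))
    (hC : ∀ x ∈ P, Commute x f → Commute x w → x = 1 ∨ x = f ∨ x = w ∨ x = f * w) :
    ∃ e ∈ P, e ≠ 1 ∧ e * e = 1 ∧ (f * e) ^ 3 = 1 ∧ (d * e) ^ 3 = 1 := by
  classical
  obtain ⟨p, hp⟩ : ∃ p, p = f * d := ⟨_, rfl⟩
  obtain ⟨q, hq⟩ : ∃ q, q = k⁻¹ * w * k := ⟨_, rfl⟩
  obtain ⟨h', hh'⟩ : ∃ h', h' = k⁻¹ * h * k := ⟨_, rfl⟩
  obtain ⟨e, he⟩ : ∃ e, e = h'⁻¹ * f * h' := ⟨_, rfl⟩
  have hqP : q ∈ P := hq ▸ P.mul_mem (P.mul_mem (P.inv_mem hkP) hwP) hkP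
  have hh'P : h' ∈ P := hh' ▸ P.mul_mem (P.mul_mem (P.inv_mem hkP) hhP) hkP
  have heP : e ∈ P := he ▸ P.mul_mem (P.mul_mem (P.inv_mem hh'P) hfP) hh'P
  -- `p = k⁻¹ f k`
  have hpk : p = k⁻¹ * f * k := by
    rw [mul_assoc, hkf, inv_mul_cancel_left, hp]
  have hfk : f = k⁻¹ * p * k := by
    have : p * k = k * f := by
      rw [hp, mul_assoc, ← hkd.eq, ← mul_assoc, hkf, mul_assoc, mul_assoc, hd, mul_one]
    rw [mul_assoc, this, inv_mul_cancel_left]
  have hdk : d = k⁻¹ * d * k := by
    rw [mul_assoc, ← hkd.eq, inv_mul_cancel_left]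
  have hp1 : p ≠ 1 := by
    intro h0
    apply hf1
    rw [hfk, h0]; group
  have hpp : p * p = 1 := by
    rw [hp, hfd.symm.mul_mul_mul_comm, hf, hd, one_mul]
  have hqq : q * q = 1 := by
    rw [hq]
    calc k⁻¹ * w * k * (k⁻¹ * w * k) = k⁻¹ * (w * w) * k := by group
      _ = 1 := by rw [hw]; group
  have hpq : Commute p q := by
    rw [hpk, hq]
    show k⁻¹ * f * k * (k⁻¹ * w * k) = k⁻¹ * w * k * (k⁻¹ * f * k)
    calc k⁻¹ * f * k * (k⁻¹ * w * k) = k⁻¹ * (f * w) * k := by group
      _ = k⁻¹ * (w * f) * k := by rw [hfw.eq]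
      _ = _ := by group
  -- conjugation of `q` by `d` and by `f`
  have hwd : w * d = d * (w * f) := by
    -- from d w = w d f
    have h1 : d * w * f = w * d := by
      rw [hdw, mul_assoc, mul_assoc, hf, mul_one]
    rw [← h1, mul_assoc]
  have hqd : q * d = d * (q * p) := by
    calc q * d = k⁻¹ * w * k * (k⁻¹ * d * k) := by rw [← hdk, hq]
      _ = k⁻¹ * (w * d) * k := by group
      _ = k⁻¹ * (d * (w * f)) * k := by rw [hwd]
      _ = (k⁻¹ * d * k) * ((k⁻¹ * w * k) * (k⁻¹ * f * k)) := by group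
      _ = d * (q * p) := by rw [← hdk, ← hpk, ← hq]
  have hcpd : Commute p d := by
    show p * d = d * p
    rw [hp, mul_assoc, hd, mul_one, ← mul_assoc, ← hfd.eq, mul_assoc, hd, mul_one]
  have hcpf : Commute p f := by
    show p * f = f * p
    rw [hp, mul_assoc, ← hfd.eq]
  have hqf : q * f = f * (q * p) := by
    -- f = p * d
    have hfpd : f = p * d := by rw [hp, mul_assoc, hd, mul_one]
    calc q * f = q * (p * d) := by rw [← hfpd]
      _ = p * (q * d) := by rw [← mul_assoc, ← hpq.eq, mul_assoc]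
      _ = p * (d * (q * p)) := by rw [hqd]
      _ = f * (q * p) := by rw [← mul_assoc, ← hfpd]
  have hq'h : Commute q h' := by
    rw [hq, hh']
    show k⁻¹ * w * k * (k⁻¹ * h * k) = k⁻¹ * h * k * (k⁻¹ * w * k)
    calc k⁻¹ * w * k * (k⁻¹ * h * k) = k⁻¹ * (w * h) * k := by group
      _ = k⁻¹ * (h * w) * k := by rw [hhw.eq]
      _ = _ := by group
  have hph : p * h' = h' * (p * q) := by
    rw [hpk, hq, hh']
    calc k⁻¹ * f * k * (k⁻¹ * h * k) = k⁻¹ * (f * h) * k := by group
      _ = k⁻¹ * (h * (f * w)) * k := by rw [hhf]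
      _ = _ := by group
  -- action of `e`
  have hee : e * e = 1 := by
    rw [he]
    calc h'⁻¹ * f * h' * (h'⁻¹ * f * h') = h'⁻¹ * (f * f) * h' := by group
      _ = 1 := by rw [hf]; group
  have he1 : e ≠ 1 := by
    intro h0
    apply hf1
    have : f = h' * e * h'⁻¹ := by rw [he]; group
    rw [this, h0]; group
  have hqh' : q = h'⁻¹ * q * h' := by
    rw [mul_assoc, hq'h.eq, inv_mul_cancel_left]
  have hpqh' : p * q = h'⁻¹ * p * h' := by
    rw [mul_assoc, hph, inv_mul_cancel_left]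
  have hph' : p = h'⁻¹ * (p * q) * h' := by
    calc p = (p * q) * q := by rw [mul_assoc, hqq, mul_one]
      _ = (h'⁻¹ * p * h') * (h'⁻¹ * q * h') := by rw [← hpqh', ← hqh']
      _ = _ := by group
  have hqe : q * e = e * p := by
    have h1 : h'⁻¹ * (q * p) * h' = p := by
      calc h'⁻¹ * (q * p) * h' = (h'⁻¹ * q * h') * (h'⁻¹ * p * h') := by group
        _ = q * (p * q) := by rw [← hqh', ← hpqh']
        _ = p := by rw [← mul_assoc, ← hpq.eq, mul_assoc, hqq, mul_one]
    calc q * e = (h'⁻¹ * q * h') * (h'⁻¹ * f * h') := by rw [← hqh', he]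
      _ = h'⁻¹ * (q * f) * h' := by group
      _ = h'⁻¹ * (f * (q * p)) * h' := by rw [hqf]
      _ = (h'⁻¹ * f * h') * (h'⁻¹ * (q * p) * h') := by group
      _ = e * p := by rw [h1, he]
  have hpe : p * e = e * q := by
    -- invert
    have h1 : e * (q * e) * e = e * (e * p) * e := by rw [hqe]
    have h2 : e * (q * e) * e = e * q := by
      calc e * (q * e) * e = e * q * (e * e) := by group
        _ = e * q := by rw [hee, mul_one]
    have h3 : e * (e * p) * e = p * e := by
      rw [← mul_assoc, hee, one_mul]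
    rw [h2, h3] at h1
    exact h1.symm
  have hCk : ∀ y ∈ P, Commute y p → Commute y q → y = 1 ∨ y = p ∨ y = q ∨ y = p * q := by
    intro y hyP h1 h2
    have hkey := hC (k * y * k⁻¹) (P.mul_mem (P.mul_mem hkP hyP) (P.inv_mem hkP))
      (by
        show k * y * k⁻¹ * f = f * (k * y * k⁻¹)
        have e1 : f = k * p * k⁻¹ := by rw [hpk]; group
        calc k * y * k⁻¹ * f = k * y * k⁻¹ * (k * p * k⁻¹) := by rw [← e1]
          _ = k * (y * p) * k⁻¹ := by group
          _ = k * (p * y) * k⁻¹ := by rw [h1.eq]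
          _ = (k * p * k⁻¹) * (k * y * k⁻¹) := by group
          _ = f * (k * y * k⁻¹) := by rw [← e1])
      (by
        show k * y * k⁻¹ * w = w * (k * y * k⁻¹)
        have e1 : w = k * q * k⁻¹ := by rw [hq]; group
        calc k * y * k⁻¹ * w = k * y * k⁻¹ * (k * q * k⁻¹) := by rw [← e1]
          _ = k * (y * q) * k⁻¹ := by group
          _ = k * (q * y) * k⁻¹ := by rw [h2.eq]
          _ = (k * q * k⁻¹) * (k * y * k⁻¹) := by group
          _ = w * (k * y * k⁻¹) := by rw [← e1])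
    have hy : y = k⁻¹ * (k * y * k⁻¹) * k := by group
    rcases hkey with h | h | h | h
    · left; rw [hy, h]; group
    · right; left; rw [hy, h, ← hpk]
    · right; right; left; rw [hy, h, hq]
    · right; right; right
      rw [hy, h, hpk, hq]; group
  refine ⟨e, heP, he1, hee, ?_, ?_⟩
  · apply cube_eq_one (p := p) (q := q) hp1 hpp
    · -- SemiconjBy (f*e) q p : (f*e)*q = p*(f*e)
      show f * e * q = p * (f * e)
      rw [mul_assoc, ← hpe, ← mul_assoc, ← mul_assoc, hcpf.eq]
    · show f * e * (p * q) = q * (f * e)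
      calc f * e * (p * q) = f * (e * p) * q := by group
        _ = f * (q * e) * q := by rw [hqe]
        _ = f * q * (e * q) := by group
        _ = f * q * (p * e) := by rw [← hpe]
        _ = f * (q * p) * e := by group
        _ = q * f * e := by rw [← hqf]
        _ = _ := by group
    · exact hpq
    · intro y hy h1 h2
      exact hCk y (by rw [hy]; exact P.pow_mem (P.mul_mem hfP heP) 3) h1 h2
  · apply cube_eq_one (p := p) (q := q) hp1 hpp
    · show d * e * q = p * (d * e)
      rw [mul_assoc, ← hpe, ← mul_assoc, ← mul_assoc, hcpd.eq]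
    · show d * e * (p * q) = q * (d * e)
      calc d * e * (p * q) = d * (e * p) * q := by group
        _ = d * (q * e) * q := by rw [hqe]
        _ = d * q * (e * q) := by group
        _ = d * q * (p * e) := by rw [← hpe]
        _ = d * (q * p) * e := by group
        _ = q * d * e := by rw [← hqd]
        _ = _ := by group
    · exact hpq
    · intro y hy h1 h2
      exact hCk y (by rw [hy]; exact P.pow_mem (P.mul_mem hdP heP) 3) h1 h2

end Cfsg.Agent.ONType.Closing
end

-- part: ONType/CfClose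
section
/-!
# The relation `[b, e] = 1`
-/

set_option autoImplicit false
set_option maxRecDepth 100000
set_option linter.unusedVariables false

namespace Cfsg.Agent.ONType.CfSide

open Cfsg.Agent.SporadicRecognition.CosetCert Cfsg.Agent.ONType.Hom Cfsg.Agent.ONType.CfTab

variable {G : Type*} [Group G] {a b c d f g : G}

namespace Side

theorem dwdw (S : Side a b c d f g) : d * (g * d * g⁻¹) * (d * (g * d * g⁻¹)) = f := by
  have e1 := S.dw
  have e3 := S.wf
  have e5 := S.ww
  obtain ⟨w, hw⟩ : ∃ w, w = g * d * g⁻¹ := ⟨_, rfl⟩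
  rw [← hw] at e1 e3 e5 ⊢
  calc d * w * (d * w) = w * (d * f) * (d * w) := by rw [e1]
    _ = w * (d * (f * d) * w) := by simp only [mul_assoc]
    _ = w * (d * (d * f) * w) := by rw [S.df]
    _ = w * ((d * d) * f * w) := by simp only [mul_assoc]
    _ = w * f * w := by rw [S.dd, one_mul, mul_assoc]
    _ = f * (w * w) := by rw [e3, mul_assoc]
    _ = f := by rw [e5, mul_one]

theorem exists_k (S : Side a b c d f g) {x v : G} (hxf : x * f = f * x) (hx : x * x = 1)
    (hax : (a * x) ^ 3 = 1) (hne : x ≠ a) (hvf : v * f = f * v) (hva : v * a = a * v) (hvx : v * x = x * v)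
    (hv : v * v = 1) (hv1 : v ≠ 1) (hvf' : v ≠ f) :
    ∃ k, k * f = f * k ∧ k * a = a * k ∧ k * x = x * k ∧ v * k = k * (v * f) := by
  obtain ⟨m, hm, hcase⟩ := S.class_b hxf hx hax hne
  have hmf : m * f * m⁻¹ = f := by rw [hm, mul_inv_cancel_right]
  have c1 : Commute (m * v * m⁻¹) (m * a * m⁻¹) := (Commute.conj_iff m).mpr hva
  have c2 : Commute (m * v * m⁻¹) (m * x * m⁻¹) := (Commute.conj_iff m).mpr hvx
  have c3 : Commute (m * v * m⁻¹) f := by
    have := (Commute.conj_iff m).mpr (show Commute v f from hvf)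
    rwa [hmf] at this
  have c4 : Commute (m * v * m⁻¹) a := by
    rcases hcase with ⟨h1, _⟩ | ⟨h1, _⟩
    · rwa [h1] at c1
    · rw [h1] at c1
      have := c1.mul_right c3
      rwa [mul_assoc a f f, S.ff, mul_one] at this
  have c5 : Commute (m * v * m⁻¹) b := by
    rcases hcase with ⟨_, h1⟩ | ⟨_, h1⟩
    · rwa [h1] at c2
    · rw [h1] at c2
      have := c2.mul_right c3
      rwa [mul_assoc b f f, S.ff, mul_one] at this
  obtain ⟨w, hw⟩ : ∃ w, w = g * d * g⁻¹ := ⟨_, rfl⟩
  have e1 := S.dw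
  have e2 := S.wa
  have e3 := S.wf
  have e4 := S.bw
  have e5 := S.ww
  have e6 := S.dwdw
  rw [← hw] at e1 e2 e3 e4 e5 e6
  -- the element in `T`
  have key : ∃ k', k' * f = f * k' ∧ k' * a = a * k' ∧ k' * b = b * k' ∧
      (m * v * m⁻¹) * k' = k' * ((m * v * m⁻¹) * f) := by
    have hmem := S.T_mem c4.eq c3.eq c5.eq
    rw [← hw] at hmem
    have hsq : (m * v * m⁻¹) * (m * v * m⁻¹) = 1 := by
      calc (m * v * m⁻¹) * (m * v * m⁻¹) = m * (v * v) * m⁻¹ := by group
        _ = 1 := by rw [hv]; group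
    have hwd : w * d = d * (w * f) := by
      calc w * d = (w * (d * f)) * f := by rw [mul_assoc w, mul_assoc d, S.ff, mul_one]
        _ = d * (w * f) := by rw [← e1, mul_assoc]
    simp only [List.mem_cons, List.not_mem_nil, or_false] at hmem
    rcases hmem with h | h | h | h | h | h | h | h
    · exfalso
      apply hv1
      have := mul_inv_eq_iff_eq_mul.mp h
      rw [one_mul] at this
      exact mul_eq_left.mp this
    · exfalso
      apply hvf'
      have : v = m⁻¹ * (m * v * m⁻¹) * m := by group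
      rw [this, h, mul_assoc, ← hm]; group
    · rw [h]
      exact ⟨w, e3, e2, e4.symm, e1⟩
    · rw [h]
      refine ⟨w, e3, e2, e4.symm, ?_⟩
      rw [mul_assoc d f f, S.ff, mul_one, mul_assoc, ← e3, ← mul_assoc, e1, mul_assoc, mul_assoc, S.ff, mul_one]
    · rw [h]
      exact ⟨d, S.df, S.ad.symm, S.bd.symm, hwd⟩
    · rw [h]
      refine ⟨d, S.df, S.ad.symm, S.bd.symm, ?_⟩
      rw [mul_assoc w f f, S.ff, mul_one, mul_assoc, ← S.df, ← mul_assoc, hwd, mul_assoc, mul_assoc, S.ff, mul_one]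
    · exfalso
      rw [h, e6] at hsq
      exact S.f1 hsq
    · exfalso
      rw [h] at hsq
      apply S.f1
      have hc : f * (d * w) = d * w * f := by
        have hc : Commute f (d * w) := (show Commute f d from S.df.symm).mul_right (show Commute f w from e3.symm)
        exact hc.eq
      calc f = d * w * (d * w) * (f * f) := by rw [e6, S.ff, mul_one]
        _ = d * w * ((d * w) * f) * f := by simp only [mul_assoc]
        _ = d * w * (f * (d * w)) * f := by rw [hc]
        _ = d * w * f * (d * w * f) := by simp only [mul_assoc]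
        _ = 1 := hsq
  obtain ⟨k', k1, k2, k3, k4⟩ := key
  have d1 : Commute (m⁻¹ * k' * m⁻¹⁻¹) (m⁻¹ * (m * a * m⁻¹) * m⁻¹⁻¹) := (Commute.conj_iff m⁻¹).mpr (by
    rcases hcase with ⟨h1, _⟩ | ⟨h1, _⟩
    · rw [h1]; exact k2
    · rw [h1]; exact (show Commute k' a from k2).mul_right k1)
  have d2 : Commute (m⁻¹ * k' * m⁻¹⁻¹) (m⁻¹ * (m * x * m⁻¹) * m⁻¹⁻¹) := (Commute.conj_iff m⁻¹).mpr (by
    rcases hcase with ⟨_, h1⟩ | ⟨_, h1⟩
    · rw [h1]; exact k3
    · rw [h1]; exact (show Commute k' b from k3).mul_right k1)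
  have d3 : Commute (m⁻¹ * k' * m⁻¹⁻¹) (m⁻¹ * (m * f * m⁻¹) * m⁻¹⁻¹) := (Commute.conj_iff m⁻¹).mpr (by
    rw [hmf]; exact k1)
  have s1 : ∀ y : G, m⁻¹ * (m * y * m⁻¹) * m⁻¹⁻¹ = y := fun y => by group
  rw [s1] at d1 d2 d3
  rw [inv_inv] at d1 d2 d3
  refine ⟨m⁻¹ * k' * m, d3.eq, d1.eq, d2.eq, ?_⟩
  calc v * (m⁻¹ * k' * m) = m⁻¹ * ((m * v * m⁻¹) * k') * m := by group
    _ = m⁻¹ * (k' * ((m * v * m⁻¹) * f)) * m := by rw [k4]
    _ = m⁻¹ * k' * m * v * (m⁻¹ * (f * m)) := by group
    _ = m⁻¹ * k' * m * v * (m⁻¹ * (m * f)) := by rw [hm]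
    _ = m⁻¹ * k' * m * (v * f) := by group

/-- `Q 1 = a b a` -/
theorem Q_1 (S : Side a b c d f g) : S.Q 1 = a * b * a := by
  have h := S.walkA (i := 10) (j := 1) (by norm_num) (by decide +kernel)
  rw [h.2, S.Q_ten]

theorem Q_17 (S : Side a b c d f g) : S.Q 17 = c * b * c := by
  have h := S.walkW (w := [1]) (i := 10) (j := 17) (by norm_num) (by decide +kernel) (by decide)
  simp only [ev, List.map_cons, List.map_nil, List.prod_cons, List.prod_nil, mul_one, gl] at h
  rw [h, S.Q_ten, S.cinv]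

theorem Q_2 (S : Side a b c d f g) : S.Q 2 = c * (a * b * a) * c := by
  have h := S.walkW (w := [1]) (i := 1) (j := 2) (by norm_num) (by decide +kernel) (by decide)
  simp only [ev, List.map_cons, List.map_nil, List.prod_cons, List.prod_nil, mul_one, gl] at h
  rw [h, S.Q_1, S.cinv]

theorem Q_68 (S : Side a b c d f g) : S.Q 68 = g * c * g⁻¹ := by
  have h := S.walkW (w := [4]) (i := 38) (j := 68) (by norm_num) (by decide +kernel) (by decide)
  simp only [ev, List.map_cons, List.map_nil, List.prod_cons, List.prod_nil, mul_one, gl] at h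
  rw [h, S.Q_38, inv_inv]

theorem Q_311 (S : Side a b c d f g) : S.Q 311 = S.Q 68 * f :=
  S.Q_mul_f (w := [0, 1, 3, 3, 0, 3]) (by decide +kernel) (by decide +kernel) (by decide)

theorem Q_353 (S : Side a b c d f g) : S.Q 353 = S.Q 38 * f :=
  S.Q_mul_f (w := [0, 1, 3, 3, 0]) (by decide +kernel) (by decide +kernel) (by decide)

/-- conjugation by `w' = g c g⁻¹` -/
theorem walk_w (S : Side a b c d f g) {i j : ℕ} (hi : i < 630) (h : walk 65536 [3, 1, 4] i = j + 1) :
    S.Q j = (g * c * g⁻¹)⁻¹ * S.Q i * (g * c * g⁻¹) := by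
  have h := S.walkW hi h (by decide)
  simp only [ev, List.map_cons, List.map_nil, List.prod_cons, List.prod_nil, mul_one, gl] at h
  rw [h]; group

theorem walk_c (S : Side a b c d f g) {i j : ℕ} (hi : i < 630) (h : walk 65536 [1] i = j + 1) :
    S.Q j = c⁻¹ * S.Q i * c := by
  have h := S.walkW hi h (by decide)
  simpa only [ev, List.map_cons, List.map_nil, List.prod_cons, List.prod_nil, mul_one, gl] using h

/-- a bad `x` of the first kind -/
theorem bad1 (S : Side a b c d f g) {i j : ℕ} (hi : i < 630) (hj : j < 630)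
    (h1 : walk 65536 [3, 1, 4] i = j + 1) (h2 : E 20 j i = 311 + 1) :
    f ∈ Subgroup.closure {c, g * c * g⁻¹, S.Q i} := by
  have e1 := S.walk_w hi h1
  have e2 := (S.E_sound 20 j i 311 hj hi h2).2
  obtain ⟨N, hN⟩ : ∃ N, N = Subgroup.closure {c, g * c * g⁻¹, S.Q i} := ⟨_, rfl⟩
  rw [← hN]
  have m2 : g * c * g⁻¹ ∈ N := hN ▸ Subgroup.subset_closure (by simp)
  have m3 : S.Q i ∈ N := hN ▸ Subgroup.subset_closure (by simp)
  have m4 : S.Q j ∈ N := by
    rw [e1]; exact N.mul_mem (N.mul_mem (N.inv_mem m2) m3) m2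
  have m5 : S.Q 311 ∈ N := by
    rw [e2]; exact N.mul_mem (N.mul_mem (N.inv_mem m3) m4) m3
  have m6 : (S.Q 68)⁻¹ * S.Q 311 ∈ N := N.mul_mem (N.inv_mem (by rw [S.Q_68]; exact m2)) m5
  rwa [S.Q_311, inv_mul_cancel_left] at m6

/-- a bad `x` of the second kind -/
theorem bad2 (S : Side a b c d f g) {i x1 x2 x3 x4 : ℕ} (hi : i < 630)
    (g1 : x1 < 630) (g2 : x2 < 630) (g3 : x3 < 630) (g4 : x4 < 630)
    (h1 : walk 65536 [1] 68 = x1 + 1) (h2 : E 20 x1 i = x2 + 1) (h3 : walk 65536 [1] x2 = x3 + 1)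
    (h4 : walk 65536 [3, 1, 4] x3 = x4 + 1) (h5 : E 20 x4 i = 353 + 1) :
    f ∈ Subgroup.closure {c, g * c * g⁻¹, S.Q i} := by
  have e1 := S.walk_c (by norm_num) h1
  have e2 := (S.E_sound 20 x1 i x2 g1 hi h2).2
  have e3 := S.walk_c g2 h3
  have e4 := S.walk_w g3 h4
  have e5 := (S.E_sound 20 x4 i 353 g4 hi h5).2
  obtain ⟨N, hN⟩ : ∃ N, N = Subgroup.closure {c, g * c * g⁻¹, S.Q i} := ⟨_, rfl⟩
  rw [← hN]
  have m1 : c ∈ N := hN ▸ Subgroup.subset_closure (by simp)
  have m2 : g * c * g⁻¹ ∈ N := hN ▸ Subgroup.subset_closure (by simp)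
  have m3 : S.Q i ∈ N := hN ▸ Subgroup.subset_closure (by simp)
  have n0 : S.Q 68 ∈ N := by rw [S.Q_68]; exact m2
  have n1 : S.Q x1 ∈ N := by rw [e1]; exact N.mul_mem (N.mul_mem (N.inv_mem m1) n0) m1
  have n2 : S.Q x2 ∈ N := by rw [e2]; exact N.mul_mem (N.mul_mem (N.inv_mem m3) n1) m3
  have n3 : S.Q x3 ∈ N := by rw [e3]; exact N.mul_mem (N.mul_mem (N.inv_mem m1) n2) m1
  have n4 : S.Q x4 ∈ N := by rw [e4]; exact N.mul_mem (N.mul_mem (N.inv_mem m2) n3) m2
  have n5 : S.Q 353 ∈ N := by rw [e5]; exact N.mul_mem (N.mul_mem (N.inv_mem m3) n4) m3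
  have m6 : (S.Q 38)⁻¹ * S.Q 353 ∈ N := N.mul_mem (N.inv_mem (by rw [S.Q_38]; exact m1)) n5
  rwa [S.Q_353, inv_mul_cancel_left] at m6

/-- the involutions `x ≠ a` of the centraliser of `f` with `(a x)^3 = (c x)^3 = 1` -/
theorem class_bc (S : Side a b c d f g) {x : G} (hxf : x * f = f * x) (hx : x * x = 1)
    (hax : (a * x) ^ 3 = 1) (hcx : (c * x) ^ 3 = 1) (hne : x ≠ a) :
    (x = b ∨ x = a * b * a ∨ x = c * b * c ∨ x = c * (a * b * a) * c) ∨
      f ∈ Subgroup.closure {c, g * c * g⁻¹, x} := by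
  obtain ⟨i, hi, hQ⟩ := S.exists_point hxf hx hax
  obtain ⟨e, r, he, hr, her⟩ := S.point_cond hxf hx hax hi hQ
  obtain ⟨e', r', he', hr'⟩ := chkB_ex hi he hr her
  have her' : e' = r' := by
    obtain ⟨h1, h2⟩ := S.E_sound 20 38 i e' (by norm_num) hi he'
    obtain ⟨h3, h4⟩ := S.walkQ [1] (by simp) hi hr'
    apply S.Q_inj h1 h3
    have hx' : x⁻¹ = x := inv_eq_of_mul_eq_one_left hx
    simp only [ev, List.map_cons, List.map_nil, List.prod_cons, List.prod_nil, mul_one, gl] at h4
    rw [h2, h4, hQ, S.Q_38, hx', S.cinv]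
    exact braid S.cc hx hcx
  have hmem := chkB_sound hi he hr her he' hr' her'
  simp only [List.mem_cons, List.not_mem_nil, or_false] at hmem
  rcases hmem with h | h | h | h | h | h | h | h | h
  · exfalso
    rw [h, S.Q_zero] at hQ
    exact hne hQ.symm
  · left; left; rw [← hQ, h, S.Q_ten]
  · left; right; left; rw [← hQ, h, S.Q_1]
  · left; right; right; left; rw [← hQ, h, S.Q_17]
  · left; right; right; right; rw [← hQ, h, S.Q_2]
  · right
    rw [← hQ, h]
    exact S.bad2 (x1 := 124) (x2 := 476) (x3 := 351) (x4 := 325) (by norm_num) (by norm_num) (by norm_num)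
      (by norm_num) (by norm_num) (by decide +kernel) (by decide +kernel) (by decide +kernel)
      (by decide +kernel) (by decide +kernel)
  · right
    rw [← hQ, h]
    exact S.bad2 (x1 := 124) (x2 := 471) (x3 := 350) (x4 := 324) (by norm_num) (by norm_num) (by norm_num)
      (by norm_num) (by norm_num) (by decide +kernel) (by decide +kernel) (by decide +kernel)
      (by decide +kernel) (by decide +kernel)
  · right
    rw [← hQ, h]
    exact S.bad1 (j := 399) (by norm_num) (by norm_num) (by decide +kernel) (by decide +kernel)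
  · right
    rw [← hQ, h]
    exact S.bad1 (j := 431) (by norm_num) (by norm_num) (by decide +kernel) (by decide +kernel)

theorem sq_one_of_comm {x y : G} (hx : x * x = 1) (hy : y * y = 1) (h : x * y = y * x) :
    (x * y) * (x * y) = 1 := by
  calc (x * y) * (x * y) = x * (y * x) * y := by simp only [mul_assoc]
    _ = x * (x * y) * y := by rw [h]
    _ = (x * x) * (y * y) := by simp only [mul_assoc]
    _ = 1 := by rw [hx, hy, one_mul]

theorem eq_of_comm_cube {x y : G} (hx : x * x = 1) (hy : y * y = 1) (h : x * y = y * x)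
    (h3 : (x * y) ^ 3 = 1) : x = y := by
  have h2 := sq_one_of_comm hx hy h
  have h1 : x * y = 1 := by
    calc x * y = (x * y) ^ 3 := by rw [pow_succ, pow_two, h2, one_mul]
      _ = 1 := h3
  calc x = x * y * y⁻¹ := by group
    _ = y⁻¹ := by rw [h1, one_mul]
    _ = y := inv_eq_of_mul_eq_one_left hy

theorem af_ne (S : Side a b c d f g) : a * f ≠ 1 := fun h => S.ne (by
  calc a = a * f * f := by rw [mul_assoc, S.ff, mul_one]
    _ = f := by rw [h, one_mul])

theorem d_ne_f (S : Side a b c d f g) : d ≠ f := by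
  rintro rfl
  apply S.af_ne
  have h := sq_one_of_comm S.cc S.dd S.cf
  rw [S.cd4, show (c * d) ^ 4 = (c * d * (c * d)) * (c * d * (c * d)) by
    simp only [pow_succ, pow_zero, one_mul, mul_assoc], h, one_mul]

theorem a_ne_b (S : Side a b c d f g) : a ≠ b := by
  intro h
  have h1 : a = c := eq_of_comm_cube S.aa S.cc S.ac (by rw [h]; exact S.bc)
  apply S.af_ne
  have h2 := sq_one_of_comm S.cc S.dd (h1 ▸ S.ad)
  rw [S.cd4, show (c * d) ^ 4 = (c * d * (c * d)) * (c * d * (c * d)) by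
    simp only [pow_succ, pow_zero, one_mul, mul_assoc], h2, one_mul]

/-- transfer of `exists_k` along an element of the centraliser of `a` -/
theorem exists_k' (S : Side a b c d f g) {x v : G} (hxa : x * a = a * x) (hv : v = x⁻¹ * f * x)
    (hvb : v * b = b * v) (hvf : v * f = f * v) (hne : v ≠ f) :
    ∃ k, k * a = a * k ∧ k * b = b * k ∧ k * v = v * k ∧ f * k = k * (f * v) := by
  have hxax : x * a * x⁻¹ = a := by rw [hxa, mul_inv_cancel_right]
  have hf : f = x * v * x⁻¹ := by rw [hv]; group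
  have k1 : Commute (x * b * x⁻¹) f := by
    have := (Commute.conj_iff x).mpr (show Commute b v from hvb.symm)
    rwa [← hf] at this
  have k2 : Commute (x * f * x⁻¹) f := by
    have := (Commute.conj_iff x).mpr (show Commute f v from hvf.symm)
    rwa [← hf] at this
  have k3 : Commute (x * f * x⁻¹) a := by
    have := (Commute.conj_iff x).mpr (show Commute f a from S.af.symm)
    rwa [hxax] at this
  have k4 : Commute (x * f * x⁻¹) (x * b * x⁻¹) := (Commute.conj_iff x).mpr S.bf.symm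
  obtain ⟨k, h1, h2, h3, h4⟩ := S.exists_k (x := x * b * x⁻¹) (v := x * f * x⁻¹) k1.eq
    (by
      calc x * b * x⁻¹ * (x * b * x⁻¹) = x * (b * b) * x⁻¹ := by group
        _ = 1 := by rw [S.bb]; group)
    (by
      have : a * (x * b * x⁻¹) = x * (a * b) * x⁻¹ := by
        calc a * (x * b * x⁻¹) = x * a * x⁻¹ * (x * b * x⁻¹) := by rw [hxax]
          _ = x * (a * b) * x⁻¹ := by group
      rw [this, conj_pow, S.ab]; group)
    (by
      intro h
      apply S.a_ne_b
      calc a = x⁻¹ * (x * a) := by group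
        _ = x⁻¹ * (a * x) := by rw [hxa]
        _ = x⁻¹ * ((x * b * x⁻¹) * x) := by rw [h]
        _ = b := by group)
    k2.eq k3.eq k4.eq
    (by
      calc x * f * x⁻¹ * (x * f * x⁻¹) = x * (f * f) * x⁻¹ := by group
        _ = 1 := by rw [S.ff]; group)
    (by
      intro h
      apply S.f1
      calc f = x⁻¹ * (x * f * x⁻¹) * x := by group
        _ = 1 := by rw [h]; group)
    (by
      intro h
      apply hne
      rw [hv]
      calc x⁻¹ * f * x = x⁻¹ * (x * f * x⁻¹) * x := by rw [h]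
        _ = f := by group)
  have s1 : ∀ y : G, x⁻¹ * (x * y * x⁻¹) * x⁻¹⁻¹ = y := fun y => by group
  have c1 : Commute (x⁻¹ * k * x⁻¹⁻¹) a := by
    have := (Commute.conj_iff x⁻¹).mpr (show Commute k (x * a * x⁻¹) by rw [hxax]; exact h2)
    rwa [s1] at this
  have c2 : Commute (x⁻¹ * k * x⁻¹⁻¹) b := by
    have := (Commute.conj_iff x⁻¹).mpr (show Commute k (x * b * x⁻¹) from h3)
    rwa [s1] at this
  have c3 : Commute (x⁻¹ * k * x⁻¹⁻¹) v := by
    have := (Commute.conj_iff x⁻¹).mpr (show Commute k (x * v * x⁻¹) by rw [← hf]; exact h1)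
    rwa [s1] at this
  rw [inv_inv] at c1 c2 c3
  refine ⟨x⁻¹ * k * x, c1.eq, c2.eq, c3.eq, ?_⟩
  calc f * (x⁻¹ * k * x) = x⁻¹ * (x * f * x⁻¹ * k) * x := by group
    _ = x⁻¹ * (k * (x * f * x⁻¹ * f)) * x := by rw [h4]
    _ = x⁻¹ * k * x * (f * (x⁻¹ * f * x)) := by group
    _ = x⁻¹ * k * x * (f * v) := by rw [← hv]

end Side

/-- **Closing argument**: the last relation of the presentation of the O'Nan group. -/
theorem be_comm {e : G} (S : Side a b c d f g) (S' : Side f e d c a g) : b * e = e * b := by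
  obtain ⟨w, hw⟩ : ∃ w, w = g * d * g⁻¹ := ⟨_, rfl⟩
  -- `d` and `w` are conjugate to `f` in the centraliser of `a`
  have hef : Commute e a := S'.bf
  have hfa : Commute f a := S.af.symm
  have hda : Commute d a := S.ad.symm
  have hga : Commute g a := S.ga
  have hd : d = (e * f * (d * e))⁻¹ * f * (e * f * (d * e)) := by
    have h1 := braid S'.aa S'.bb S'.ab
    have h2 := braid S'.bb S'.cc S'.bc
    rw [mul_inv_rev, mul_inv_rev, mul_inv_rev, S'.binv, S'.ainv, S'.cinv]
    have h6 : f * (f * e * f) * f = e := by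
      calc f * (f * e * f) * f = (f * f) * e * (f * f) := by simp only [mul_assoc]
        _ = e := by rw [S.ff, one_mul, mul_one]
    have h7 : e * (e * d * e) * e = d := by
      calc e * (e * d * e) * e = (e * e) * d * (e * e) := by simp only [mul_assoc]
        _ = d := by rw [S'.bb, one_mul, mul_one]
    calc d = e * (e * d * e) * e := h7.symm
      _ = e * (d * e * d) * e := by rw [h2]
      _ = e * d * e * (d * e) := by simp only [mul_assoc]
      _ = e * d * (f * (f * e * f) * f) * (d * e) := by rw [h6]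
      _ = e * d * (f * (e * f * e) * f) * (d * e) := by rw [h1]
      _ = e * d * (f * e) * f * (e * f * (d * e)) := by simp only [mul_assoc]
  have hxa : Commute (e * f * (d * e)) a := (hef.mul_left hfa).mul_left (hda.mul_left hef)
  have hwx : w = (e * f * (d * e) * g⁻¹)⁻¹ * f * (e * f * (d * e) * g⁻¹) := by
    calc w = g * ((e * f * (d * e))⁻¹ * f * (e * f * (d * e))) * g⁻¹ := by rw [← hd, hw]
      _ = _ := by group
  have hwx' : Commute (e * f * (d * e) * g⁻¹) a := hxa.mul_left hga.inv_left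
  have e1 := S.dw
  have e2 := S.wa
  have e3 := S.wf
  have e4 := S.bw
  have e5 := S.ww
  rw [← hw] at e1 e2 e3 e4 e5
  have hdf := S.d_ne_f
  have hwf : w ≠ f := by
    intro h
    apply hdf
    calc d = g⁻¹ * (g * d * g⁻¹) * g := by group
      _ = g⁻¹ * (f * g) := by rw [← hw, h]; group
      _ = g⁻¹ * (g * f) := by rw [S.gf]
      _ = f := by group
  obtain ⟨k, ka, kb, kd, kf⟩ := S.exists_k' hxa.eq hd S.bd.symm S.df hdf
  obtain ⟨h, ha, hb, hwh, hf⟩ := S.exists_k' hwx'.eq hwx e4.symm e3 hwf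
  obtain ⟨P, hP⟩ : ∃ P : Subgroup G, P = Subgroup.centralizer {a, b} := ⟨_, rfl⟩
  have hmem : ∀ x : G, x ∈ P ↔ x * a = a * x ∧ x * b = b * x := by
    intro x
    rw [hP, Subgroup.mem_centralizer_iff]
    constructor
    · intro h
      exact ⟨(h a (by simp)).symm, (h b (by simp)).symm⟩
    · rintro ⟨h1, h2⟩ y hy
      simp only [Set.mem_insert_iff, Set.mem_singleton_iff] at hy
      rcases hy with rfl | rfl
      · exact h1.symm
      · exact h2.symm
  have hne : d * w ≠ w * d := by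
    intro h
    rw [e1] at h
    exact S.f1 (mul_eq_left.mp (mul_left_cancel h))
  obtain ⟨e', he'P, he'1, he'2, he'f, he'd⟩ := Closing.exists_transposition P (f := f) (d := d) (w := w)
    (k := k) (h := h)
    ((hmem f).mpr ⟨S.af.symm, S.bf.symm⟩) ((hmem d).mpr ⟨S.ad.symm, S.bd.symm⟩)
    ((hmem w).mpr ⟨e2, e4.symm⟩) ((hmem k).mpr ⟨ka, kb⟩) ((hmem h).mpr ⟨ha, hb⟩)
    S.f1 S.ff S.dd e5 S.df.symm e3.symm e1 kd kf hwh hf
    (by
      intro x hx hxf hxw
      obtain ⟨h1, h2⟩ := (hmem x).mp hx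
      have hT := S.T_mem h1 hxf.eq h2
      rw [← hw] at hT
      simp only [List.mem_cons, List.not_mem_nil, or_false] at hT
      have cwf : Commute w f := e3
      rcases hT with rfl | rfl | rfl | rfl | rfl | rfl | rfl | rfl
      · left; rfl
      · right; left; rfl
      · exact absurd hxw.eq hne
      · exfalso
        have := hxw.mul_left cwf.symm
        rw [mul_assoc d f f, S.ff, mul_one] at this
        exact hne this.eq
      · right; right; left; rfl
      · right; right; right; exact e3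
      · exfalso
        have := hxw.mul_left (Commute.refl w)
        rw [mul_assoc d w w, e5, mul_one] at this
        exact hne this.eq
      · exfalso
        have := (hxw.mul_left cwf.symm).mul_left (Commute.refl w)
        rw [mul_assoc (d * w) f f, S.ff, mul_one, mul_assoc d w w, e5, mul_one] at this
        exact hne this.eq)
  obtain ⟨ea, eb⟩ := (hmem e').mp he'P
  have hne' : e' ≠ f := by
    rintro rfl
    exact hdf (Side.eq_of_comm_cube S.dd S.ff S.df he'd)
  rcases S'.class_bc ea he'2 he'f he'd hne' with hcase | hcase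
  · have cb : Commute e' b := eb
    have cfb : Commute f b := S.bf.symm
    have cdb : Commute d b := S.bd.symm
    suffices h : Commute e b from h.eq.symm
    rcases hcase with h | h | h | h
    · rw [← h]; exact cb
    · have : e = f * e' * f := by
        rw [h]
        calc e = (f * f) * e * (f * f) := by rw [S.ff, one_mul, mul_one]
          _ = f * (f * e * f) * f := by simp only [mul_assoc]
      rw [this]; exact (cfb.mul_left cb).mul_left cfb
    · have : e = d * e' * d := by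
        rw [h]
        calc e = (d * d) * e * (d * d) := by rw [S.dd, one_mul, mul_one]
          _ = d * (d * e * d) * d := by simp only [mul_assoc]
      rw [this]; exact (cdb.mul_left cb).mul_left cdb
    · have : e = f * (d * e' * d) * f := by
        rw [h]
        calc e = (f * ((d * d) * (f * e * f) * (d * d)) * f) := by
              rw [S.dd, one_mul, mul_one]
              calc e = (f * f) * e * (f * f) := by rw [S.ff, one_mul, mul_one]
                _ = f * (f * e * f) * f := by simp only [mul_assoc]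
          _ = f * (d * (d * (f * e * f) * d) * d) * f := by simp only [mul_assoc]
      rw [this]; exact (cfb.mul_left ((cdb.mul_left cb).mul_left cdb)).mul_left cfb
  · exfalso
    have hle : Subgroup.closure {d, g * d * g⁻¹, e'} ≤ Subgroup.centralizer ({b} : Set G) := by
      rw [Subgroup.closure_le]
      intro y hy
      simp only [Set.mem_insert_iff, Set.mem_singleton_iff] at hy
      rcases hy with rfl | rfl | rfl
      · exact Side.mem_cent S.bd.symm
      · exact Side.mem_cent (hw ▸ e4.symm)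
      · exact Side.mem_cent eb
    have hab := Side.of_mem_cent (hle hcase)
    exact S.a_ne_b (Side.eq_of_comm_cube S.aa S.bb hab S.ab)

/-- all relators of the presented O'Nan group -/
theorem rel {e : G} (S : Side a b c d f g) (S' : Side f e d c a g) : Rel a b c d e f g where
  toRelF := S.toRelF
  ee := S'.bb
  de := by
    have h := S'.bc
    have : (d * e) ^ 3 = e⁻¹ * (e * d) ^ 3 * e⁻¹⁻¹ := by
      rw [← conj_pow]; congr 1; group
    rw [this, h]; group
  ef := by
    have h := S'.ab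
    have : (e * f) ^ 3 = f⁻¹ * (f * e) ^ 3 * f⁻¹⁻¹ := by
      rw [← conj_pow]; congr 1; group
    rw [this, h]; group
  ae := S'.bf.symm
  be := be_comm S S'
  ce := S'.bd.symm
  ge := S'.gb

end Cfsg.Agent.ONType.CfSide
end

-- part: ONType/GlueFin
section
/-!
# The gluing for an actual involution centraliser
-/

set_option autoImplicit false
set_option linter.constructorNameAsVariable false

namespace Cfsg.Agent.ONType.GlueFin

open Cfsg.Agent.SporadicA.FieldFour
open Cfsg.Agent.ONType.Psl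
open Cfsg.Agent.ONType.Data
open Cfsg.Agent.ONType.SGroup
open Cfsg.Agent.ONType.GlueCheck
open Cfsg.Agent.ONType.Glue
open Cfsg.Agent.ONType.GlueOut
open Cfsg.Agent.ONType.Hom
open Cfsg.Agent.ONType.SFacts
open Cfsg.Agent.ONType.RelFour
open Cfsg.Agent.ONType.Eval (Ext)

section
variable {C₀ : Type*} [Group C₀] {t : C₀} {M : Subgroup C₀}
  {x : Fin 3 → Fin 3 → F4 → C₀} {z h τ : C₀}

theorem ext_of (S : SData P0 t M x z h τ) : Ext x z h τ gII where
  R := S.H.R
  sg := fun i j hij u => S.H.tx i j hij u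
  zt := S.H.tz
  tt := by rw [S.H.tt]; exact pow_zero _

theorem zt (S : SData P0 t M x z h τ) : z ^ 2 = t := by rw [pow_two, S.zz]

theorem x0 (S : SData P0 t M x z h τ) (i j : Fin 3) (hij : i ≠ j) : x i j 0 = 1 :=
  x_zero (P := P0) S.H.R i j hij

/-- the values of the codes -/
theorem ev_tC (S : SData P0 t M x z h τ) : ev x z τ tC = t := by
  rw [← zt S]
  show (if false = true then τ else 1) * (x 0 1 0 * x 1 2 0 * x 0 2 0 * z ^ 2) = _
  rw [x0 S 0 1 (by decide), x0 S 1 2 (by decide), x0 S 0 2 (by decide)]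
  simp

theorem ev_uC (S : SData P0 t M x z h τ) : ev x z τ uC = x 0 2 1 := by
  show (if false = true then τ else 1) * (x 0 1 0 * x 1 2 0 * x 0 2 1 * z ^ 0) = _
  rw [x0 S 0 1 (by decide), x0 S 1 2 (by decide)]
  simp

theorem ev_cC (S : SData P0 t M x z h τ) : ev x z τ cC = x 1 2 1 * x 0 2 1 * z ^ 2 := by
  show (if false = true then τ else 1) * (x 0 1 0 * x 1 2 1 * x 0 2 1 * z ^ 2) = _
  rw [x0 S 0 1 (by decide)]
  simp

theorem ev_dC (S : SData P0 t M x z h τ) (i : Fin 4) : ev x z τ (dC i) = ed z τ i := by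
  fin_cases i
  · show (if true = true then τ else 1) * (x 0 1 0 * x 1 2 0 * x 0 2 0 * z ^ 0) = τ
    rw [x0 S 0 1 (by decide), x0 S 1 2 (by decide), x0 S 0 2 (by decide)]
    simp
  · show (if true = true then τ else 1) * (x 0 1 0 * x 1 2 0 * x 0 2 0 * z ^ 0) = τ
    rw [x0 S 0 1 (by decide), x0 S 1 2 (by decide), x0 S 0 2 (by decide)]
    simp
  · show (if true = true then τ else 1) * (x 0 1 0 * x 1 2 0 * x 0 2 0 * z ^ 1) = τ * z
    rw [x0 S 0 1 (by decide), x0 S 1 2 (by decide), x0 S 0 2 (by decide)]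
    simp
  · show (if true = true then τ else 1) * (x 0 1 0 * x 1 2 0 * x 0 2 0 * z ^ 1) = τ * z
    rw [x0 S 0 1 (by decide), x0 S 1 2 (by decide), x0 S 0 2 (by decide)]
    simp

theorem ev_gC (i : Fin 4) : ev x z τ (gC i) = eg x z τ i := by
  fin_cases i
  · show (if true = true then τ else 1) * (x 0 1 ω * x 1 2 ω2 * x 0 2 ω2 * z ^ 3) = _
    simp [eg]
  · show (if true = true then τ else 1) * (x 0 1 ω2 * x 1 2 ω * x 0 2 ω * z ^ 3) = _
    simp [eg]
  · show (if true = true then τ else 1) * (x 0 1 ω * x 1 2 ω2 * x 0 2 ω2 * z ^ 0) = _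
    simp [eg]
  · show (if true = true then τ else 1) * (x 0 1 ω2 * x 1 2 ω * x 0 2 ω * z ^ 0) = _
    simp [eg]

theorem un_mem (S : SData P0 t M x z h τ) (k : Cd) :
    x 0 1 k.a * x 1 2 k.b * x 0 2 k.c * z ^ k.i ∈ M :=
  M.mul_mem (M.mul_mem (M.mul_mem (S.xM _ _ _) (S.xM _ _ _)) (S.xM _ _ _)) (M.pow_mem S.zM _)

theorem e_iff (S : SData P0 t M x z h τ) (k : Cd) : ev x z τ k ∈ M ↔ k.e = false := by
  unfold ev
  rw [M.mul_mem_cancel_right (un_mem S k)]
  cases k.e
  · simp [M.one_mem]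
  · simp [S.τM]

theorem ev_inj (S : SData P0 t M x z h τ) (k l : Cd) (hk : k.i < 4) (hl : l.i < 4)
    (hkl : ev x z τ k = ev x z τ l) : k = l := by
  have he : k.e = l.e := by
    have h1 := e_iff S k
    have h2 := e_iff S l
    rw [hkl] at h1
    cases hk' : k.e <;> cases hl' : l.e
    · rfl
    · rw [hk'] at h1; rw [hl'] at h2
      exact absurd (h2.mp (h1.mpr rfl)) (by simp)
    · rw [hk'] at h1; rw [hl'] at h2
      exact absurd (h1.mp (h2.mpr rfl)) (by simp)
    · rfl
  unfold ev at hkl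
  rw [he] at hkl
  obtain ⟨h1, h2, h3, h4⟩ := S.inj _ _ _ _ _ _ _ _ hk hl (mul_left_cancel hkl)
  obtain ⟨e, a, b, c, i⟩ := k
  obtain ⟨e', a', b', c', i'⟩ := l
  simp only at he h1 h2 h3 h4
  rw [he, h1, h2, h3, h4]

/-- commuting with `u` on codes -/
theorem tr_of_comm : ∀ (e : Bool) (a b c : F4),
    eqC (mK ⟨e, a, b, c, 0⟩ uC) (mK uC ⟨e, a, b, c, 0⟩) = true → trK a = trK b := by decide +kernel

theorem ev_mK (S : SData P0 t M x z h τ) (k l : Cd) :
    ev x z τ (mK k l) = ev x z τ k * ev x z τ l := by rw [mK_eq]; exact ev_mul S.H k l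

theorem idx (S : SData P0 t M x z h τ) (g : C₀) (hg : g ∉ M) : τ⁻¹ * g ∈ M := by
  have := (Subgroup.mul_mem_iff_of_index_two S.idx (a := τ⁻¹) (b := g))
  rw [this]
  have h1 : τ⁻¹ ∉ M := fun h => S.τM (by simpa using M.inv_mem h)
  exact ⟨fun h => absurd h h1, fun h => absurd h hg⟩

theorem comm_u (S : SData P0 t M x z h τ) (g : C₀) (hg : g * x 0 2 1 = x 0 2 1 * g) :
    ∃ k, inT k ∧ ev x z τ k = g := by
  have hτu : τ * x 0 2 1 = x 0 2 1 * τ := by
    have h1 := S.H.tx 0 2 (by decide) 1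
    have h2 : τ⁻¹ * x 0 2 1 * τ = x 0 2 1 := h1
    calc τ * x 0 2 1 = τ * (τ⁻¹ * x 0 2 1 * τ) := by rw [h2]
      _ = _ := by group
  -- a code with value `g`
  have key : ∃ k : Cd, k.i < 4 ∧ ev x z τ k = g := by
    by_cases hM : g ∈ M
    · obtain ⟨a, b, c, i, hi, e⟩ := S.cent g hM hg
      exact ⟨⟨false, a, b, c, i⟩, hi, by rw [e]; simp [ev]⟩
    · have h1 := idx S g hM
      have h2 : τ⁻¹ * g * x 0 2 1 = x 0 2 1 * (τ⁻¹ * g) := by
        have : τ⁻¹ * x 0 2 1 = x 0 2 1 * τ⁻¹ := by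
          calc τ⁻¹ * x 0 2 1 = τ⁻¹ * (x 0 2 1 * τ) * τ⁻¹ := by group
            _ = τ⁻¹ * (τ * x 0 2 1) * τ⁻¹ := by rw [hτu]
            _ = _ := by group
        rw [mul_assoc, hg, ← mul_assoc, this, mul_assoc]
      obtain ⟨a, b, c, i, hi, e⟩ := S.cent _ h1 h2
      refine ⟨⟨true, a, b, c, i⟩, hi, ?_⟩
      unfold ev
      simp only [if_true]
      rw [← e]; group
  obtain ⟨⟨e, a, b, c, i⟩, hi, hk⟩ := key
  refine ⟨⟨e, a, b, c, i⟩, ⟨?_, hi⟩, hk⟩
  -- trace condition
  have hz : ∀ j : ℕ, ev x z τ ⟨e, a, b, c, 0⟩ * z ^ j = ev x z τ ⟨e, a, b, c, j⟩ := by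
    intro j
    unfold ev
    simp only [pow_zero, mul_one, mul_assoc]
  have hzu : ∀ j : ℕ, z ^ j * x 0 2 1 = x 0 2 1 * z ^ j := fun j =>
    ((Commute.pow_right (show Commute (x 0 2 1) z from S.H.R.zc 0 2 1 (by decide)) j).eq).symm
  have h0 : ev x z τ ⟨e, a, b, c, 0⟩ * x 0 2 1 = x 0 2 1 * ev x z τ ⟨e, a, b, c, 0⟩ := by
    have h1 : ev x z τ ⟨e, a, b, c, 0⟩ = g * (z ^ i)⁻¹ := by
      rw [eq_mul_inv_iff_mul_eq, hz, hk]
    have h2 : (z ^ i)⁻¹ * x 0 2 1 = x 0 2 1 * (z ^ i)⁻¹ := by
      calc (z ^ i)⁻¹ * x 0 2 1 = (z ^ i)⁻¹ * (x 0 2 1 * z ^ i) * (z ^ i)⁻¹ := by group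
        _ = (z ^ i)⁻¹ * (z ^ i * x 0 2 1) * (z ^ i)⁻¹ := by rw [hzu]
        _ = _ := by group
    rw [h1, mul_assoc, h2, ← mul_assoc, hg, mul_assoc]
  apply tr_of_comm e a b c
  rw [eqC_iff]
  have hlt : ∀ k l : Cd, (mK k l).i < 4 := by
    intro k l
    obtain ⟨e, a, b, c, i⟩ := k
    obtain ⟨f, a', b', c', j⟩ := l
    cases f
    · simp only [mK, nmK, fF_eq, fZ_eq]; exact Nat.mod_lt _ (by decide)
    · cases e
      · simp only [mK, nmK, fF_eq, fZ_eq]; exact Nat.mod_lt _ (by decide)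
      · simp only [mK, nmK, fF_eq, fZ_eq]; exact Nat.mod_lt _ (by decide)
  apply ev_inj S _ _ (hlt _ _) (hlt _ _)
  rw [ev_mK S, ev_mK S, ev_uC S, h0]

theorem kap01 : kap 0 1 = .w := by decide
theorem kap12 : kap 1 2 = .w := by decide
theorem kap02 : kap 0 2 = .v := by decide

theorem hJ (S : SData P0 t M x z h τ) (a c : F4) (i : ℕ) :
    h⁻¹ * ev x z τ ⟨false, a, a, c, i⟩ * h = ev x z τ ⟨false, .w * a, .w * a, .v * c, i⟩ := by
  have e1 : h⁻¹ * (x 0 1 a * x 1 2 a * x 0 2 c * z ^ i) * h =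
      (h⁻¹ * x 0 1 a * h) * (h⁻¹ * x 1 2 a * h) * (h⁻¹ * x 0 2 c * h) * (h⁻¹ * z ^ i * h) := by
    group
  have hz : h⁻¹ * z ^ i * h = z ^ i := by
    have := (Commute.pow_right (show Commute h z from S.H.R.zh) i).eq
    rw [mul_assoc, ← this]; group
  show h⁻¹ * (1 * (x 0 1 a * x 1 2 a * x 0 2 c * z ^ i)) * h =
    1 * (x 0 1 (.w * a) * x 1 2 (.w * a) * x 0 2 (.v * c) * z ^ i)
  rw [one_mul, one_mul, e1, hz, S.H.R.tor 0 1 (by decide), S.H.R.tor 1 2 (by decide),
    S.H.R.tor 0 2 (by decide), kap01, kap12, kap02]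

end

section
variable {G : Type*} [Group G] {t : G} {M : Subgroup (Subgroup.centralizer ({t} : Set G))}
  {x : Fin 3 → Fin 3 → F4 → Subgroup.centralizer ({t} : Set G)}
  {t₀ z h τ : Subgroup.centralizer ({t} : Set G)}

/-- codes in `G` -/
def EG (x : Fin 3 → Fin 3 → F4 → Subgroup.centralizer ({t} : Set G))
    (z τ : Subgroup.centralizer ({t} : Set G)) (k : Cd) : G :=
  ((ev x z τ k : Subgroup.centralizer ({t} : Set G)) : G)

theorem tdata (ht : (t₀ : G) = t) (S : SData P0 t₀ M x z h τ) : TData (EG x z τ) (h : G) where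
  mul k l := by
    show ((ev x z τ (mul P0 k l) : Subgroup.centralizer ({t} : Set G)) : G) = _
    rw [ev_mul S.H]; rfl
  inj k l hk hl hkl := ev_inj S k l hk.2 hl.2 (Subtype.ext hkl)
  mem g h1 h2 := by
    have e1 : EG x z τ tC = t := by
      show ((ev x z τ tC : Subgroup.centralizer ({t} : Set G)) : G) = t
      rw [ev_tC S, ht]
    have hg : g ∈ Subgroup.centralizer ({t} : Set G) := by
      rw [Subgroup.mem_centralizer_singleton_iff]
      rw [e1] at h1; exact h1
    have h3 : (⟨g, hg⟩ : Subgroup.centralizer ({t} : Set G)) * x 0 2 1 = x 0 2 1 * ⟨g, hg⟩ := by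
      apply Subtype.ext
      rw [← ev_uC S]
      exact h2
    obtain ⟨k, hk, e⟩ := comm_u S _ h3
    exact ⟨k, hk, congrArg Subtype.val e⟩
  hJ a c i := congrArg Subtype.val (hJ S a c i)

/-- **The two sides.** -/
theorem exists_sides (ht : (t₀ : G) = t) (S : SData P0 t₀ M x z h τ)
    (hgen : ∀ K : Subgroup (Subgroup.centralizer ({t} : Set G)),
      (∀ i j : Fin 3, i ≠ j → ∀ u, x i j u ∈ K) → M ≤ K)
    (n : G) (hn1 : n⁻¹ * t * n = (x 0 2 1 : Subgroup.centralizer ({t} : Set G)))
    (hn2 : n⁻¹ * (x 0 2 1 : Subgroup.centralizer ({t} : Set G)) * n = t) :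
    ∃ a b c d e g : G, CfSide.Side a b c d t g ∧ CfSide.Side t e d c a g := by
  have D := tdata ht S
  have et : EG x z τ tC = t := by
    show ((ev x z τ tC : Subgroup.centralizer ({t} : Set G)) : G) = t
    rw [ev_tC S, ht]
  have eu : EG x z τ uC = (x 0 2 1 : Subgroup.centralizer ({t} : Set G)) := by
    show ((ev x z τ uC : Subgroup.centralizer ({t} : Set G)) : G) = _
    rw [ev_uC S]
  have E := ext_of S
  have hcard : Nat.card (Subgroup.centralizer ({EG x z τ tC} : Set G)) = 161280 := by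
    rw [et]; exact S.card
  have hrel : ∀ i < 4, RelF (EG x z τ uC) ((x 2 0 1 : Subgroup.centralizer ({t} : Set G)) : G)
      (EG x z τ cC) (EG x z τ (dC i)) (EG x z τ tC) (EG x z τ (gC i)) := by
    intro i hi
    have h1 := RelF.map' (relF E ⟨i, hi⟩) (Subgroup.centralizer ({t} : Set G)).subtype
    rw [← ev_cC S, ← ev_uC S, ← ev_dC S, ← ev_gC, zt S, ← ev_tC S] at h1
    exact h1
  have hclo : ∀ i < 4, Subgroup.centralizer ({EG x z τ tC} : Set G) =
      Subgroup.closure {((x 2 0 1 : Subgroup.centralizer ({t} : Set G)) : G), EG x z τ cC,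
        EG x z τ (dC i), EG x z τ (gC i)} := by
    intro i hi
    rw [et]
    set K₀ : Subgroup (Subgroup.centralizer ({t} : Set G)) :=
      Subgroup.closure {x 2 0 1, ev x z τ cC, ev x z τ (dC i), ev x z τ (gC i)} with hK₀
    have hm := mem_of E ⟨i, hi⟩ K₀ (Subgroup.subset_closure (by simp))
      (by rw [← ev_cC S]; exact Subgroup.subset_closure (by simp))
      (by rw [← ev_dC S]; exact Subgroup.subset_closure (by simp))
      (by rw [← ev_gC]; exact Subgroup.subset_closure (by simp))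
    obtain ⟨hx, hz, hτ⟩ := hm
    have hMK : M ≤ K₀ := hgen K₀ hx
    have htop : K₀ = ⊤ := by
      rw [eq_top_iff]
      intro g _
      by_cases hg : g ∈ M
      · exact hMK hg
      · have h1 := hMK (idx S g hg)
        have := K₀.mul_mem hτ h1
        rwa [mul_inv_cancel_left] at this
    have h2 := congrArg (Subgroup.map (Subgroup.centralizer ({t} : Set G)).subtype) htop
    rw [← MonoidHom.range_eq_map, Subgroup.range_subtype, hK₀, MonoidHom.map_closure] at h2
    refine h2.symm.trans ?_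
    simp only [Set.image_insert_eq, Set.image_singleton, Subgroup.coe_subtype]
    rfl
  obtain ⟨a, b, c, d, e, f, g, hf, R, R', dg, cg', c1, c2, k1, k2, ne, f1, kT, θ, th2, tha, thb,
    thc, thg⟩ := exists_elements D n (by unfold cg; rw [et, eu]; exact hn1)
      (by unfold cg; rw [et, eu]; exact hn2) _ hrel hclo hcard
  rw [et] at hf
  subst hf
  have a1 : a ≠ 1 := by
    intro h1
    apply f1
    rw [← cg', show c * g = θ * (d * g) * θ⁻¹ by rw [← thc]; nth_rewrite 2 [← thg]; group] at h1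
    rw [conj_pow, dg] at h1
    rw [mul_inv_eq_one] at h1
    exact mul_eq_left.mp h1
  refine ⟨a, b, c, d, e, g, ⟨R, dg, cg', ne, f1, c1, k1, kT⟩,
    ⟨R', cg', dg, ne.symm, a1, c2, k2, ?_⟩⟩
  rw [inf_comm]; exact kT

/-- **S1661 from the structure of the centraliser, fusion, and the order of the presented group.** -/
theorem isoON [Finite G] (hON : Cfsg.IsON Cfsg.Spor.ON) (ht : (t₀ : G) = t)
    (S : SData P0 t₀ M x z h τ)
    (hgen : ∀ K : Subgroup (Subgroup.centralizer ({t} : Set G)),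
      (∀ i j : Fin 3, i ≠ j → ∀ u, x i j u ∈ K) → M ≤ K)
    (n : G) (hn1 : n⁻¹ * t * n = (x 0 2 1 : Subgroup.centralizer ({t} : Set G)))
    (hn2 : n⁻¹ * (x 0 2 1 : Subgroup.centralizer ({t} : Set G)) * n = t)
    (hone : ∀ H : Subgroup G, Subgroup.centralizer ({t} : Set G) ≤ H → IsSimpleGroup H →
      ∀ y ∈ H, orderOf y = 2 → ∃ k ∈ H, k * t * k⁻¹ = y) : Cfsg.Spor.IsoON G := by
  obtain ⟨a, b, c, d, e, g, S1, S2⟩ := exists_sides ht S hgen n hn1 hn2
  refine Cfsg.Agent.R04.EndON.isoON_of hON S1.toRelF S2.toRelF (CfSide.be_comm S1 S2) S1.f1 ?_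
    S1.cardC hone
  rw [S1.cent, Subgroup.closure_le]
  intro y hy
  simp only [Set.mem_insert_iff, Set.mem_singleton_iff] at hy
  rcases hy with rfl | rfl | rfl | rfl
  · exact Subgroup.subset_closure (by simp)
  · exact Subgroup.subset_closure (by simp)
  · exact Subgroup.subset_closure (by simp)
  · exact Subgroup.subset_closure (by simp)

end

end Cfsg.Agent.ONType.GlueFin
end

-- part: ONType/Final
section
/-!
# Recognition of the O'Nan group from the centraliser of an involution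
-/

set_option autoImplicit false

namespace Cfsg.Agent.ONType.Final

open Cfsg.Agent.SporadicA.FieldFour

theorem main {G : Type*} [Group G] [Finite G] [IsSimpleGroup G] (hON : Cfsg.IsON Cfsg.Spor.ON)
    (t : G) (ht : orderOf t = 2) (M : Subgroup (Subgroup.centralizer ({t} : Set G))) [M.Normal]
    (hM : M.index = 2)
    (hout : Subgroup.centralizer (M : Set (Subgroup.centralizer ({t} : Set G))) ≤ M)
    (hZc : IsCyclic (Subgroup.center M)) (hZ4 : Nat.card (Subgroup.center M) = 4)
    (hperf : commutator M = ⊤) (F : Type) [Field F] [Fintype F] (hF : Fintype.card F = 4)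
    (e : M ⧸ Subgroup.center M ≃* Matrix.ProjectiveSpecialLinearGroup (Fin 3) F) :
    Cfsg.Spor.IsoON G := by
  obtain ⟨x, z, h, τ, S, ⟨n, hn1, hn2⟩, -, hone⟩ :=
    FusionEx.exists_fusion t ht M hM hout hZc hZ4 hperf F hF e
  refine GlueFin.isoON hON rfl S ?_ n⁻¹ ?_ ?_ ?_
  · intro K hK
    rw [← S.gen, Subgroup.closure_le]
    rintro y ⟨i, j, u, hij, rfl⟩
    exact hK i j hij u
  · rw [inv_inv]; exact hn1
  · rw [inv_inv]; exact hn2
  · intro H hH hs y hy hy2
    have hy2' : y ^ 2 = 1 := by rw [← hy2]; exact pow_orderOf_eq_one y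
    refine hone H hH hs y hy (by rw [← pow_two, hy2']) ?_
    rintro rfl
    rw [orderOf_one] at hy2
    exact absurd hy2 (by decide)

end Cfsg.Agent.ONType.Final
end

-- part: S1661
section
set_option autoImplicit false
open Cfsg

namespace Cfsg.Agent.S1661

/-- Uniqueness of the O'Nan group at the level of isomorphism: a finite simple group having an involution t whose centraliser has a normal subgroup M of index 2, containing its own centraliser in the involution centraliser, which is perfect, with cyclic centre of order 4 and central quotient isomorphic to PSL(3, 4), is isomorphic to the presented O'Nan group. -/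
theorem result {G : Type*} [Group G] [Finite G] [IsSimpleGroup G] (t : G) (ht : orderOf t = 2) (M : Subgroup (Subgroup.centralizer ({t} : Set G))) [M.Normal] (hM : M.index = 2) (hout : Subgroup.centralizer (M : Set (Subgroup.centralizer ({t} : Set G))) ≤ M) (hZc : IsCyclic (Subgroup.center M)) (hZ4 : Nat.card (Subgroup.center M) = 4) (hperf : commutator M = ⊤) (F : Type) [Field F] [Fintype F] (hF : Fintype.card F = 4) (e : M ⧸ Subgroup.center M ≃* Matrix.ProjectiveSpecialLinearGroup (Fin 3) F) : Cfsg.Spor.IsoON G :=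
  Cfsg.Agent.ONType.Final.main Cfsg.Agent.S1699.result t ht M hM hout hZc hZ4 hperf F hF e

end Cfsg.Agent.S1661
end
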