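import Mathlib
import Cfsg.Agent.StdG24.EightA1_m3
import Cfsg.Agent.StdG24.AutA5
import Cfsg.Agent.StdAlt.Five.MkOdd_mg
import Cfsg.Agent.StdAlt.First
import Cfsg.Agent.StdG24.F.CountFive_m3
import Cfsg.Agent.StdG24.F.CaseII_m3
import Cfsg.Agent.StdG24.P957Of_m3
import Cfsg.Agent.StdG24.AutX_mg_m3
import Cfsg.Agent.GTwoFour.EmbOf_m3
import Cfsg.Agent.S1055
import Cfsg.Agent.StdG24.CoSide
import Cfsg.Agent.J2Type.FourSelfCent
import Cfsg.Agent.OddOrderLocal.FreeAction
import Cfsg.Agent.StdG24.AutL
import Cfsg.Agent.Lib.PermCode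
import Cfsg.Agent.TwoGenCore.Basic
import Cfsg.Agent.StdAlt.Five.Swap_m3
import Cfsg.Agent.StdAlt.Pairs
import Cfsg.Statements.S1767
import Cfsg.Agent.Lib.ListFast
import Cfsg.Agent.FastGrp
import Cfsg.Agent.Prune
set_option linter.all false

section
prune_inst 0x7fbcfefbaff8afffffff7e7ffffddffff9fcffffffdffbfbffecfbffafdf6b0effe5fb8fffe858ff3ed7e2b6b0f87b53f9ffceffef6bdc7ffffd5ff45fffff9fffffbf8911d6983e1ffe6ffffbf17fce7f3fffffffffffffffffffffffffffbeffffffffffff

-- part: StdG24/OddPair
section
prune_inst 0x20100000000000000000000000000040100000020040000110400400000610010000000170000c1201008020200a802001000009023800002000820000040000040266c29248100001000040e803180c00000000000000000000000000041000000000000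
set_option linter.all false
open scoped Cfsg.Agent.FastGrp

/-!
# Step 2: the odd configuration in the centralizer of a 5-element
-/

set_option autoImplicit false

namespace Cfsg.Agent.StdG24

open Subgroup Cfsg Cfsg.Agent.StdAlt Cfsg.Agent.StdAlt.Conj Cfsg.Agent.StdAlt.Pairs Cfsg.Agent.StdAlt.First
  Cfsg.Agent.StdAlt.Five

variable {L : Type*} [Group L] {G : Type*} [Group G]

namespace OddPair

theorem four_dvd {K : Type*} [Group K] [Finite K] (h : ¬ PRankLE 2 1 K) : 4 ∣ Nat.card K := by
  rw [PRankLE] at h
  push Not at h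
  obtain ⟨A, hA, h2, hc⟩ := h
  have hp : IsPGroup 2 A := by
    rintro ⟨a, ha⟩
    exact ⟨1, Subtype.ext (by rw [pow_one]; exact h2 a ha)⟩
  have : Fact (Nat.Prime 2) := ⟨Nat.prime_two⟩
  obtain ⟨n, hn⟩ := IsPGroup.iff_card.1 hp
  have h3 : 2 ≤ n := by
    by_contra hlt
    have : n = 0 ∨ n = 1 := by omega
    rcases this with rfl | rfl
    · rw [hn] at hc; norm_num at hc
    · rw [hn] at hc; norm_num at hc
  refine Dvd.dvd.trans ?_ (card_subgroup_dvd_card A)
  rw [hn, show (4 : ℕ) = 2 ^ 2 by norm_num]
  exact pow_dvd_pow 2 h3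

theorem card_map_of_disj {H : Type*} [Group H] {O T : Subgroup H} [O.Normal] (h : ∀ x ∈ T, x ∈ O → x = 1) :
    Nat.card (T.map (QuotientGroup.mk' O)) = Nat.card T := by
  refine (Nat.card_congr (Equiv.ofBijective ((QuotientGroup.mk' O).subgroupMap T)
    ⟨?_, MonoidHom.subgroupMap_surjective _ _⟩)).symm
  rw [injective_iff_map_eq_one]
  intro a ha
  have h1 : QuotientGroup.mk' O (a : H) = 1 := congrArg Subtype.val ha
  rw [← MonoidHom.mem_ker, QuotientGroup.ker_mk'] at h1
  exact Subtype.ext (h a a.2 h1)

theorem eq_one_of_odd {H : Type*} [Group H] [Finite H] {O T : Subgroup H} (hO : Odd (Nat.card O))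
    (hT : IsPGroup 2 T) {x : H} (h1 : x ∈ T) (h2 : x ∈ O) : x = 1 := by
  obtain ⟨k, hk⟩ := hT ⟨x, h1⟩
  have h3 : x ^ 2 ^ k = 1 := congrArg Subtype.val hk
  have h4 : orderOf x ∣ Nat.card O := by
    have := orderOf_dvd_natCard (⟨x, h2⟩ : O)
    rwa [orderOf_mk] at this
  have h5 : Nat.Coprime (Nat.card O) (2 ^ k) := (Nat.coprime_two_right.2 hO).pow_right k
  exact orderOf_eq_one_iff.1 (Nat.eq_one_of_dvd_coprimes h5 h4 (orderOf_dvd_of_pow_eq_one h3))

theorem cj_one {H : Type*} [Group H] (A : Subgroup H) : Conj.cj 1 A = A := by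
  ext x
  rw [mem_cj, inv_one, one_mul, mul_one]

end OddPair

open OddPair

namespace FD

variable {d : L} {B : Subgroup L} {e : L →* G}

/-- two involutions of `B` are conjugate in `B` -/
theorem exists_conj_inv (F : FD d B) {a b : L} (ha : a ∈ B) (ha1 : a ≠ 1) (haa : a * a = 1) (hb : b ∈ B)
    (hb1 : b ≠ 1) (hbb : b * b = 1) : ∃ s ∈ B, s * a * s⁻¹ = b := by
  obtain ⟨φ⟩ := F.iso
  have key : ∀ x : L, ∀ hx : x ∈ B, x ≠ 1 → x * x = 1 → ((φ ⟨x, hx⟩ : alternatingGroup (Fin 5)) : Equiv.Perm (Fin 5)) ≠ 1 ∧
      ((φ ⟨x, hx⟩ : alternatingGroup (Fin 5)) : Equiv.Perm (Fin 5)) * (φ ⟨x, hx⟩ : alternatingGroup (Fin 5)) = 1 := by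
    intro x hx hx1 hxx
    refine ⟨fun h => hx1 ?_, ?_⟩
    · have h1 : φ ⟨x, hx⟩ = 1 := Subtype.ext h
      exact congrArg Subtype.val ((MulEquiv.map_eq_one_iff φ).1 h1)
    · have h1 : φ ⟨x, hx⟩ * φ ⟨x, hx⟩ = 1 := by
        rw [← map_mul]
        have : (⟨x, hx⟩ : B) * ⟨x, hx⟩ = 1 := Subtype.ext hxx
        rw [this, map_one]
      exact congrArg Subtype.val h1
  obtain ⟨ka1, kaa⟩ := key a ha ha1 haa
  obtain ⟨kb1, kbb⟩ := key b hb hb1 hbb
  obtain ⟨s, hs⟩ := AutA5.normV _ (Equiv.Perm.mem_alternatingGroup.1 (φ ⟨a, ha⟩).2) ka1 kaa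
  obtain ⟨t, ht⟩ := AutA5.normV _ (Equiv.Perm.mem_alternatingGroup.1 (φ ⟨b, hb⟩).2) kb1 kbb
  have hc : (Equiv.swap (0 : Fin 5) 1 : Equiv.Perm (Fin 5)) * AutA5.a0 * (Equiv.swap (0 : Fin 5) 1)⁻¹ = AutA5.a0 := by decide
  have hex : ∃ r : Equiv.Perm (Fin 5), Equiv.Perm.sign r = 1 ∧
      r * (φ ⟨a, ha⟩ : alternatingGroup (Fin 5)) * r⁻¹ = (φ ⟨b, hb⟩ : alternatingGroup (Fin 5)) := by
    rcases Int.units_eq_one_or (Equiv.Perm.sign (t⁻¹ * s)) with h | h
    · refine ⟨t⁻¹ * s, h, ?_⟩
      rw [show t⁻¹ * s * ((φ ⟨a, ha⟩ : alternatingGroup (Fin 5)) : Equiv.Perm (Fin 5)) * (t⁻¹ * s)⁻¹ =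
        t⁻¹ * (s * ((φ ⟨a, ha⟩ : alternatingGroup (Fin 5)) : Equiv.Perm (Fin 5)) * s⁻¹) * t by group, hs, ← ht]
      group
    · refine ⟨t⁻¹ * Equiv.swap (0 : Fin 5) 1 * s, ?_, ?_⟩
      · rw [map_mul, map_mul, Equiv.Perm.sign_swap (by decide)]
        rw [map_mul] at h
        rw [mul_right_comm, h]
        rfl
      · rw [show t⁻¹ * Equiv.swap (0 : Fin 5) 1 * s * ((φ ⟨a, ha⟩ : alternatingGroup (Fin 5)) : Equiv.Perm (Fin 5)) *
          (t⁻¹ * Equiv.swap (0 : Fin 5) 1 * s)⁻¹ =
          t⁻¹ * (Equiv.swap (0 : Fin 5) 1 * (s * ((φ ⟨a, ha⟩ : alternatingGroup (Fin 5)) : Equiv.Perm (Fin 5)) * s⁻¹) * (Equiv.swap (0 : Fin 5) 1)⁻¹) * t by group,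
          hs, hc, ← ht]
        group
  obtain ⟨r, hr, hr2⟩ := hex
  let r' : alternatingGroup (Fin 5) := ⟨r, Equiv.Perm.mem_alternatingGroup.2 hr⟩
  have h1 : r' * φ ⟨a, ha⟩ * r'⁻¹ = φ ⟨b, hb⟩ := Subtype.ext hr2
  refine ⟨φ.symm r', (φ.symm r').2, ?_⟩
  have h2 : φ.symm r' * ⟨a, ha⟩ * (φ.symm r')⁻¹ = ⟨b, hb⟩ := by
    apply φ.injective
    rw [map_mul, map_mul, map_inv, MulEquiv.apply_symm_apply, h1]
  exact congrArg Subtype.val h2

/-- non-commuting -/
def NC (d : L) (B : Subgroup L) (e : L →* G) : Prop :=
  ∀ g, g * e d = e d * g → (∀ a ∈ B, ∀ b ∈ B, e a * (g * e b * g⁻¹) = (g * e b * g⁻¹) * e a) → False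

theorem te [Finite G] (F : FD d B) (h : Emb e) (nc : NC d B e) : TE (F.AH e) := by
  refine ⟨fun k g hk h1 h2 hg => ?_, fun a ha hac => ?_, ?_⟩
  · have hk' := F.mem_centralizer_AH.1 hk
    have hg' := F.mem_centralizer_AH.1 hg
    refine F.mem_normalizer_AH.2 (F.tight h nc hk' ?_ ?_ (mem_HH.1 g.2) hg')
    · exact fun h3 => h1 (Subtype.ext h3)
    · exact congrArg Subtype.val h2
  · obtain ⟨b, hb, h1⟩ := F.mem_AH.1 ha
    have h2 := F.mem_centralizer_AH.1 hac
    have h3 : b = 1 := by
      apply F.cent b hb
      intro c hc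
      have h4 := (mem_CC.1 h2).2 c hc
      rw [h1, ← map_mul, ← map_mul] at h4
      exact h.inj h4
    apply Subtype.ext
    rw [h1, h3, map_one]
    rfl
  · rintro B' ⟨g, hg⟩ hle
    refine nc g (mem_HH.1 g.2) fun a ha b hb => ?_
    have h1 : F.eH e ⟨a, ha⟩ ∈ C B' := hle ⟨_, rfl⟩
    have h2 : g * F.eH e ⟨b, hb⟩ * g⁻¹ ∈ B' := (hg _).1 ⟨_, rfl⟩
    exact congrArg Subtype.val (mem_C.1 h1 _ h2)

theorem iso_AH (F : FD d B) (h : Emb e) : Nonempty (F.AH e ≃* alternatingGroup (Fin 5)) := by
  obtain ⟨φ⟩ := F.iso
  exact ⟨(MonoidHom.ofInjective (F.eH_inj h.inj)).symm.trans φ⟩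

/-- elements of `K` in `H` -/
def kH (e : L →* G) (d : L) (k : G) (hk : k ∈ KK e) : HH e d := ⟨k, mem_HH.2 (mem_KK.1 hk d)⟩

theorem hasFour [Finite G] (F : FD d B) (hr : ¬ PRankLE 2 1 (KK e)) : Two.HasFour (F.AH e) := by
  obtain ⟨x, y, hx1, hy1, hxy, hx2, hy2, hc⟩ := exists_klein hr
  have gx2 : (x : G) * x = 1 := congrArg Subtype.val hx2
  have gy2 : (y : G) * y = 1 := congrArg Subtype.val hy2
  have gc : (x : G) * y = y * x := congrArg Subtype.val hc
  refine ⟨kH e d x x.2, F.mem_centralizer_AH.2 (KK_le_CC _ _ x.2), kH e d y y.2,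
    F.mem_centralizer_AH.2 (KK_le_CC _ _ y.2), ?_, ?_, ?_, Subtype.ext gx2, Subtype.ext gy2, Subtype.ext gc.symm⟩
  · intro h1
    have h2 : (x : G) = 1 := congrArg (Subtype.val : HH e d → G) h1
    exact hx1 (Subtype.ext h2)
  · intro h1
    have h2 : (y : G) = 1 := congrArg (Subtype.val : HH e d → G) h1
    exact hy1 (Subtype.ext h2)
  · intro h1
    have h2 : (y : G) = x := congrArg (Subtype.val : HH e d → G) h1
    exact hxy (Subtype.ext h2).symm

/-- `N_H(A) = A C_H(A)` -/
theorem mu_one' [Finite G] (F : FD d B) (h : Emb e) {x : HH e d} (hx : x ∈ N (F.AH e)) :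
    ∃ a ∈ F.AH e, ∃ k ∈ C (F.AH e), x = a * k := by
  obtain ⟨k, hk, c, hc, h1⟩ := F.mu_one h (mem_HH.1 x.2) (F.mem_normalizer_AH.1 hx)
  refine ⟨F.eH e ⟨c, hc⟩, ⟨_, rfl⟩, (F.eH e ⟨c, hc⟩)⁻¹ * x, ?_, by group⟩
  rw [F.mem_centralizer_AH]
  have h2 : (((F.eH e ⟨c, hc⟩)⁻¹ * x : HH e d) : G) = k := by
    change (e c)⁻¹ * (x : G) = k
    rw [h1]; group
  rw [h2]
  exact hk

/-- a good pair exists -/
theorem good [Finite G] (F : FD d B) (h : Emb e) (hr : ¬ PRankLE 2 1 (KK e)) (nc : NC d B e)
    (nn : ∃ g, g * e d = e d * g ∧ ∃ b ∈ B, ∀ b' ∈ B, g * e b * g⁻¹ ≠ e b')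
    (hcomm : CommHalf (HH e d ⧸ oddCore (HH e d))) : Good (F.AH e) := by
  have hO : (oddCore (HH e d)).Normal := Lib.Cores.pPrimeCore_normal 2
  have hodd : Odd (Nat.card (oddCore (HH e d))) :=
    Nat.coprime_two_right.1 (Lib.Cores.pPrimeCore_coprime (G := HH e d) 2)
  have ctx := F.ctx h hr hO hodd
  have hst := F.isStandard h hr hodd nc (O := oddCore (HH e d))
  set π := QuotientGroup.mk' (oddCore (HH e d)) with hπ
  set A' := (F.AH e).map π with hA'
  have hsA : IsSimpleGroup (F.AH e) := by
    have h1 : (F.eH e).range = F.AH e := rfl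
    have := F.simpleB
    exact (MonoidHom.ofInjective (F.eH_inj h.inj)).symm.isSimpleGroup
  have hsA' : IsSimpleGroup A' := ctx.equivMap.symm.isSimpleGroup
  have hTE : TE A' := TE.of_standard hst hsA'
  have hCA : ∀ x : HH e d, π x ∈ C A' ↔ x ∈ C (F.AH e) := fun x => ctx.mem_centralizer_map
  have hNA : ∀ x : HH e d, π x ∈ N A' ↔ x ∈ N (F.AH e) := fun x => ctx.mem_normalizer_map
  -- `Outer` is void
  have hout : Outer A' := by
    intro y hy _ _ hno
    exfalso
    obtain ⟨x, rfl⟩ := QuotientGroup.mk'_surjective _ y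
    obtain ⟨a, ha, k, hk, rfl⟩ := F.mu_one' h ((hNA x).1 hy)
    refine hno (π a⁻¹) ⟨a⁻¹, inv_mem ha, rfl⟩ ?_
    rw [← map_mul, hCA, show a⁻¹ * (a * k) = k by group]
    exact hk
  -- 4 divides the order of the centralizer
  have h4 : 4 ∣ Nat.card (C A') := by
    have h5 : 4 ∣ Nat.card (C (F.AH e)) := by
      refine (four_dvd hr).trans ?_
      let f : KK e →* C (F.AH e) :=
        { toFun := fun k => ⟨kH e d k k.2, F.mem_centralizer_AH.2 (KK_le_CC _ _ k.2)⟩
          map_one' := rfl
          map_mul' := fun _ _ => rfl }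
      refine card_dvd_of_injective f fun a b hab => ?_
      have h6 : (a : G) = b := congrArg (fun x : C (F.AH e) => ((x : HH e d) : G)) hab
      exact Subtype.ext h6
    obtain ⟨T, hT, hT4⟩ := exists_card_four h5
    have hTp := isPGroup_four hT4
    have h6 : Nat.card (T.map π) = 4 := by
      rw [← hT4]
      exact card_map_of_disj fun x hx hxO => eq_one_of_odd hodd hTp hx hxO
    rw [← h6]
    refine card_dvd_of_le ?_
    rintro _ ⟨t, ht, rfl⟩
    exact (hCA t).2 (hT ht)
  obtain ⟨t, htA, ht1, htt⟩ := F.inv
  have htO : π (F.eH e ⟨t, htA⟩) ≠ 1 := by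
    intro h1
    have h2 : F.eH e ⟨t, htA⟩ ∈ oddCore (HH e d) := by
      rw [← QuotientGroup.ker_mk' (oddCore (HH e d)), MonoidHom.mem_ker]
      exact h1
    have h3 := F.disj_odd h hO hodd h2 ⟨_, rfl⟩
    have h4 : e t = 1 := congrArg Subtype.val h3
    exact ht1 (h.inj (h4.trans (map_one e).symm))
  have hts : π (F.eH e ⟨t, htA⟩) * π (F.eH e ⟨t, htA⟩) = 1 := by
    rw [← map_mul, ← map_mul]
    have : (⟨t, htA⟩ : B) * ⟨t, htA⟩ = 1 := Subtype.ext htt
    rw [this, map_one, map_one]
  rcases normal_or_good hTE hsA' hcomm hout h4 (s := π (F.eH e ⟨t, htA⟩)) ⟨_, ⟨_, rfl⟩, rfl⟩ htO hts with hn | hg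
  · exfalso
    obtain ⟨g, hg, b, hb, hne⟩ := nn
    have h1 : π ⟨g, mem_HH.2 hg⟩ ∈ N A' := by
      rw [show N A' = ⊤ from normalizer_eq_top_iff.2 hn]
      trivial
    obtain ⟨b', hb', h2⟩ := F.mem_normalizer_AH.1 ((hNA _).1 h1) b hb
    exact hne b' hb' h2
  · obtain ⟨B', hB', hne, hB4⟩ := hg
    obtain ⟨gq, rfl⟩ := hB'.exists_eq
    obtain ⟨g, rfl⟩ := QuotientGroup.mk'_surjective _ gq
    have hNB : ∀ x : HH e d, π x ∈ N (Conj.cj (π g) A') ↔ x ∈ N (Conj.cj g (F.AH e)) := by
      intro x
      have e1 : ∀ (X : Type _) [Group X] (A : Subgroup X) (g x : X), x ∈ N (Conj.cj g A) ↔ g⁻¹ * x * g ∈ N A := by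
        intro X _ A g x
        rw [← cj_eq_iff, ← cj_eq_iff, cj_cj]
        constructor
        · intro h1
          have h2 := congrArg (Conj.cj g⁻¹) h1
          rw [cj_cj, cj_cj, ← mul_assoc, inv_mul_cancel, OddPair.cj_one] at h2
          exact h2
        · intro h1
          have h2 := congrArg (Conj.cj g) h1
          rw [cj_cj, ← mul_assoc, ← mul_assoc, mul_inv_cancel, one_mul] at h2
          exact h2
      rw [e1, e1, ← map_inv, ← map_mul, ← map_mul, hNA]
    refine ⟨Conj.cj g (F.AH e), Cj.cj _ _, ?_, ?_⟩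
    · intro h1
      apply hne
      have h2 : g ∈ N (F.AH e) := cj_eq_iff.1 h1.symm
      exact (cj_eq_iff.2 ((hNA g).2 h2)).symm
    · have h5 : (C (F.AH e) ⊓ N (Conj.cj g (F.AH e))).map π = C A' ⊓ N (Conj.cj (π g) A') := by
        ext y
        constructor
        · rintro ⟨x, ⟨hx1, hx2⟩, rfl⟩
          exact ⟨(hCA x).2 hx1, (hNB x).2 hx2⟩
        · rintro ⟨hy1, hy2⟩
          obtain ⟨x, rfl⟩ := QuotientGroup.mk'_surjective _ y
          exact ⟨x, ⟨(hCA x).1 hy1, (hNB x).1 hy2⟩, rfl⟩
      have hB4' : 4 ∣ Nat.card ↥((C (F.AH e) ⊓ N (Conj.cj g (F.AH e))).map π) := by rw [h5]; exact hB4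
      exact hB4'.trans (card_map_dvd _ _)

end FD

namespace OddPair

theorem oddE_conj {H : Type*} [Group H] [Finite H] {A R V : Subgroup H} {ρ g c : H} (h : OddE A R V ρ g) (hc : c ∈ C A) :
    OddE A (Conj.cj c R) V ρ (c * g * c⁻¹) where
  te := h.te
  nK := h.nK
  R_le := by
    intro x hx
    rw [mem_cj] at hx
    have h1 := mul_mem (mul_mem hc (h.R_le hx)) (inv_mem hc)
    rwa [show c * (c⁻¹ * x * c) * c⁻¹ = x by group] at h1
  V_le := h.V_le
  cardR := by
    rw [← h.cardR]
    exact (Nat.card_congr (R.equivMapOfInjective _ (MulAut.conj c).injective).toEquiv).symm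
  cardV := h.cardV
  sqR := by
    intro r hr
    rw [mem_cj] at hr
    have h1 := h.sqR _ hr
    calc r * r = c * (c⁻¹ * r * c * (c⁻¹ * r * c)) * c⁻¹ := by group
      _ = 1 := by rw [h1]; group
  sqV := h.sqV
  card8 := h.card8
  ρ_mem := h.ρ_mem
  ρ3 := h.ρ3
  ρV := h.ρV
  ρfix := h.ρfix
  CV := h.CV
  gE := by
    have h1 : Conj.cj c R ⊔ V = Conj.cj c (R ⊔ V) := by
      have h2 : Conj.cj c V = V := by
        rw [cj_eq_iff]
        refine mem_N_of fun v hv => ?_
        rw [comm_of_C hc (h.V_le hv), mul_inv_cancel_right]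
        exact hv
      change R.map _ ⊔ V = (R ⊔ V).map _
      rw [Subgroup.map_sup]
      congr 1
      exact h2.symm
    rw [h1, ← cj_eq_iff, cj_cj]
    have h3 : Conj.cj g (R ⊔ V) = R ⊔ V := cj_eq_iff.2 h.gE
    rw [show c * g * c⁻¹ * c = c * g by group, ← cj_cj, h3]
  gA := by
    intro h1
    apply h.gA
    have h2 := mul_mem (mul_mem (inv_mem (C_le_N hc)) h1) (C_le_N hc)
    rwa [show c⁻¹ * (c * g * c⁻¹) * c = g by group] at h2

end OddPair

namespace FD

variable {d : L} {B : Subgroup L} {e : L →* G}

/-- **The odd configuration in `C(d)`**, when no involution of `B` is conjugate into `C(d, B)`. -/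
theorem exists_odd [Finite G] (F : FD d B) (h : Emb e) (hr : ¬ PRankLE 2 1 (KK e)) (nc : NC d B e)
    (nn : ∃ g, g * e d = e d * g ∧ ∃ b ∈ B, ∀ b' ∈ B, g * e b * g⁻¹ ≠ e b')
    (nI : ∀ g, g * e d = e d * g → ∀ a ∈ B, a ≠ 1 → a * a = 1 → g * e a * g⁻¹ ∉ CC e d B)
    (hcomm : CommHalf (HH e d ⧸ oddCore (HH e d))) :
    ∃ (Lb : Lab (F.AH e) (Fin 5)) (i : Fin 5) (R : Subgroup (HH e d)) (ρ g : HH e d),
      OddE (F.AH e) R (Kl Lb (F.te h nc) i) ρ g ∧ ∀ r ∈ R, (r : G) ∈ KK e := by
  obtain ⟨φ⟩ := F.iso_AH h
  obtain ⟨Lb, -⟩ := exists_lab φ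
  have hgood := F.good h hr nc nn hcomm
  obtain ⟨i, R, ρ, g, hE⟩ := exists_oddE Lb (F.te h nc) hgood (by
    intro x a ha ha1 haa hx
    obtain ⟨b, hb, hab⟩ := F.mem_AH.1 ha
    refine nI x (mem_HH.1 x.2) b hb ?_ ?_ ?_
    · rintro rfl
      rw [map_one] at hab
      exact ha1 (Subtype.ext hab)
    · apply h.inj
      rw [map_mul, ← hab, map_one]
      exact congrArg Subtype.val haa
    · rw [← hab]
      exact F.mem_centralizer_AH.1 hx)
  have hRp := isPGroup_four hE.cardR
  obtain ⟨c, hc, hcR⟩ := F.conj h (P := R.map (HH e d).subtype) (by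
    rintro _ ⟨r, hr, rfl⟩
    exact F.mem_centralizer_AH.1 (hE.R_le hr)) (hRp.map _)
  let c' : HH e d := ⟨c, mem_HH.2 (mem_CC.1 hc).1⟩
  have hc' : c' ∈ C (F.AH e) := F.mem_centralizer_AH.2 hc
  refine ⟨Lb, i, Conj.cj c' R, ρ, c' * g * c'⁻¹, oddE_conj hE hc', ?_⟩
  intro r hr
  rw [mem_cj] at hr
  have h1 := hcR _ ⟨_, hr, rfl⟩
  have h2 : c * ((c'⁻¹ * r * c' : HH e d) : G) * c⁻¹ = r := by
    change c * (c⁻¹ * (r : G) * c) * c⁻¹ = r
    group
  rw [← h2]
  exact h1

end FD

/-! ### `d = u` -/

variable {D : Data L} {e : L →* G}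

theorem fd_u (F : Facts D) (hiso : Nonempty (D.Al ≃* alternatingGroup (Fin 5))) : FD D.u D.Al where
  d5 := F.u5
  comm _ hb := comm_uAl F hb
  aut := F.aut_u
  iso := hiso

theorem fd_w (F : Facts D) (hiso : Nonempty (D.As ≃* alternatingGroup (Fin 5))) : FD D.w D.As where
  d5 := F.w5
  comm _ hb := comm_wAs F hb
  aut := F.aut_w
  iso := hiso

/-- no involution of `Al` is conjugate into `C(u, Al)` under `C(u)` -/
theorem no_inv_u [Finite G] (F : Facts D) (Fu : FD D.u D.Al) (h : Emb e) {g : G} (hg : g * e D.u = e D.u * g)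
    {a : L} (ha : a ∈ D.Al) (ha1 : a ≠ 1) (haa : a * a = 1) (hga : g * e a * g⁻¹ ∈ CC e D.u D.Al) : False := by
  obtain ⟨s, hs, hsz⟩ := Fu.exists_conj_inv F.zAl F.z1 F.z2 ha ha1 haa
  have hsu : e s * e D.u = e D.u * e s := by rw [← map_mul, ← map_mul, Fu.comm s hs]
  obtain ⟨c, hcC, hcK⟩ := Fu.conj_inv h hga (by
    rw [show g * e a * g⁻¹ * (g * e a * g⁻¹) = g * (e a * e a) * g⁻¹ by group, ← map_mul, haa, map_one]; group)
  obtain ⟨hcu, -⟩ := mem_CC.1 hcC
  set g' : G := c * g * e s with hg'
  have hgu : g' * e D.u = e D.u * g' := by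
    rw [hg', mul_assoc, hsu, ← mul_assoc, mul_assoc c, hg, ← mul_assoc c, hcu]
    group
  have hzK : g' * e D.z * g'⁻¹ ∈ KK e := by
    have h1 : g' * e D.z * g'⁻¹ = c * (g * e a * g⁻¹) * c⁻¹ := by
      rw [hg', ← hsz, map_mul, map_mul, map_inv]; group
    rw [h1]
    exact hcK
  have hzz : e D.z * e D.z = 1 := by rw [← map_mul, F.z2, map_one]
  have h' := h.cjh g'⁻¹
  set e' : L →* G := cjh g'⁻¹ e with he'
  have hu' : e' D.u = e D.u := by
    rw [he', cjh_apply, inv_inv]
    calc g'⁻¹ * e D.u * g' = g'⁻¹ * (e D.u * g') := by group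
      _ = g'⁻¹ * (g' * e D.u) := by rw [hgu]
      _ = e D.u := by group
  have hzK' : e D.z ∈ KK e' := by
    rw [he', mem_KK_cjh, inv_inv]
    exact hzK
  have hz1 : e D.z ≠ 1 := fun h1 => F.z1 (h.inj (by rw [h1, map_one]))
  have hle : Wof D.u D.z ≤ e'.range.comap e := by
    rw [Wof, closure_le]
    rintro _ ⟨x, hx, rfl⟩
    change e (x * D.u * x⁻¹) ∈ e'.range
    have hxM : e x ∈ MM e' := h'.nrm hzK' hz1 hzz (by rw [← map_mul, hx, map_mul])
    obtain ⟨y, hy⟩ := (mem_MM.1 hxM).1 D.u
    refine ⟨y, ?_⟩
    rw [← hy, hu', map_mul, map_mul, map_inv]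
  obtain ⟨y, hy⟩ := hle F.zW
  have h1 : y = 1 := h'.disj y (by rw [hy]; exact hzK')
  apply hz1
  rw [← hy, h1, map_one]

theorem nc_u [Finite G] (F : Facts D) (h : Emb e) : FD.NC D.u D.Al e := fun _ hg hc => no_comm_u F h hg hc

/-- **Step 2 for `u`** -/
theorem odd_u [Finite G] (F : Facts D) (Fu : FD D.u D.Al) (h : Emb e) (hr : ¬ PRankLE 2 1 (KK e))
    (hn : ¬ NU D e) (hcomm : CommHalf (HH e D.u ⧸ oddCore (HH e D.u))) :
    ∃ (Lb : Lab (Fu.AH e) (Fin 5)) (i : Fin 5) (R : Subgroup (HH e D.u)) (ρ g : HH e D.u),
      OddE (Fu.AH e) R (Kl Lb (Fu.te h (nc_u F h)) i) ρ g ∧ ∀ r ∈ R, (r : G) ∈ KK e := by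
  refine Fu.exists_odd h hr (nc_u F h) ?_ (fun g hg a ha ha1 haa hga => no_inv_u F Fu h hg ha ha1 haa hga) hcomm
  unfold NU at hn
  push Not at hn
  obtain ⟨g, hg, a, ha, h1⟩ := hn
  exact ⟨g, hg, a, ha, h1⟩

/-- hypothesis (n) for `w` -/
def NW (D : Data L) (e : L →* G) : Prop :=
  ∀ g, g * e D.w = e D.w * g → ∀ a ∈ D.As, ∃ b ∈ D.As, g * e a * g⁻¹ = e b

/-- Steps 5C, 5D: `e` and `e'` agree on `w`, the involution `v` of `e'` lies in `K`, an involution of `e As` lies
in `K'`. -/
theorem swap_w (F : Facts D) (h : Emb e) (hn : NU D e) {e' : L →* G} (h' : Emb e') (hw' : e' D.w = e D.w)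
    (hvK' : e' D.v ∈ KK e) {a : L} (haA : a ∈ D.As) (ha1 : a ≠ 1) (haa : a * a = 1) (haK' : e a ∈ KK e') :
    False := by
  have hv1 : e' D.v ≠ 1 := fun h1 => F.v1 (h'.inj (by rw [h1, map_one]))
  have hv2 : e' D.v * e' D.v = 1 := by rw [← map_mul, F.v2, map_one]
  have hC1 : ∀ x, x * D.v = D.v * x → e' (x * D.w * x⁻¹) ∈ e.range := by
    intro x hx
    have hxM : e' x ∈ MM e := h.nrm hvK' hv1 hv2 (by rw [← map_mul, hx, map_mul])
    obtain ⟨y, hy⟩ := (mem_MM.1 hxM).1 D.w
    refine ⟨y, ?_⟩
    rw [← hy, ← hw', map_mul, map_mul, map_inv]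
  have hC2 : Wof D.w D.v ≤ e.range.comap e' := by
    rw [Wof, closure_le]
    rintro _ ⟨x, hx, rfl⟩
    exact hC1 x hx
  have hC3 : ∀ x ∈ Wof D.w D.v, ∃ x1, e x1 = e' x ∧ x1 * a = a * x1 := by
    intro x hx
    obtain ⟨x1, hx1⟩ := hC2 hx
    refine ⟨x1, hx1, h.inj ?_⟩
    rw [map_mul, map_mul, hx1]
    exact (mem_KK.1 haK' x).symm
  have hC4 : ∀ x ∈ Wof D.w D.v, ∃ x1 ∈ Wof D.w a, e x1 = e' x := by
    have h1 : Wof D.w D.v ≤ ((Wof D.w a).map e).comap e' := by
      refine F.gen_v.trans ?_
      rw [closure_le]
      rintro _ ⟨x, hx, rfl⟩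
      obtain ⟨x1, hx1, hxa⟩ := hC3 x hx
      change e' (x * D.w * x⁻¹) ∈ (Wof D.w a).map e
      refine ⟨x1 * D.w * x1⁻¹, subset_closure ⟨x1, hxa, rfl⟩, ?_⟩
      rw [map_mul, map_mul, map_inv, map_mul, map_mul, map_inv, hx1, hw']
    intro x hx
    obtain ⟨x1, hx1, hx2⟩ := h1 hx
    exact ⟨x1, hx1, hx2⟩
  obtain ⟨y, hyW, hy1, hy2, p, hp⟩ := F.fus_v
  obtain ⟨y1, hy1W, hy1e⟩ := hC4 y hyW
  have hy1' : y1 ≠ 1 := by
    rintro rfl
    rw [map_one] at hy1e
    exact hy1 (h'.inj (by rw [← hy1e, map_one]))
  have hy2' : y1 * y1 = 1 := h.inj (by rw [map_mul, hy1e, ← map_mul, hy2, map_one, map_one])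
  refine a0 F h hn hvK' hv1 hv2 (F.inv2A a haA ha1 haa y1 hy1W hy1' hy2') hy1' hy2' (e' p) ?_
  rw [mem_KK_cjh, hy1e]
  have h1 : (e' p)⁻¹ * (e' D.v * e' y) * e' p = e' D.v := by
    rw [← map_mul, ← map_inv, ← map_mul, ← map_mul, ← hp]
    congr 1
    group
  rw [h1]
  exact hvK'

/-- the configuration obtained from "type two" -/
theorem no_swap_w [Finite G] (F : Facts D) (Fw : FD D.w D.As) (h : Emb e) (hn : NU D e) {g : G}
    (hg : g * e D.w = e D.w * g) {a' : L} (ha' : a' ∈ D.As) (ha'1 : a' ≠ 1) (ha'a' : a' * a' = 1)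
    (hga : g * e a' * g⁻¹ ∈ CC e D.w D.As) {a : L} (ha : a ∈ D.As) (ha1 : a ≠ 1) (haa : a * a = 1)
    (hc : ∀ b ∈ D.As, e a * (g * e b * g⁻¹) = g * e b * g⁻¹ * e a) : False := by
  have hsq : ∀ x : L, x * x = 1 → e x * e x = 1 := fun x hx => by rw [← map_mul, hx, map_one]
  obtain ⟨c, hcC, hcK⟩ := Fw.conj_inv h hga (conj_sq (hsq a' ha'a'))
  obtain ⟨hcw, hcA⟩ := mem_CC.1 hcC
  have h2 := h.cjh (c * g)
  set e2 : L →* G := cjh (c * g) e with he2
  have hcg : c * g * e D.w = e D.w * (c * g) := by rw [mul_assoc, hg, ← mul_assoc, hcw, mul_assoc]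
  have hw2 : e2 D.w = e D.w := by rw [he2, cjh_apply, hcg]; group
  have ha'2 : e2 a' ∈ KK e := by
    rw [he2, cjh_apply, show c * g * e a' * (c * g)⁻¹ = c * (g * e a' * g⁻¹) * c⁻¹ by group]
    exact hcK
  have haC : e a ∈ CC e2 D.w D.As := by
    rw [mem_CC, hw2]
    refine ⟨by rw [← map_mul, ← map_mul, Fw.comm a ha], fun b hb => ?_⟩
    rw [he2, cjh_apply, show c * g * e b * (c * g)⁻¹ = c * (g * e b * g⁻¹) * c⁻¹ by group]
    exact (conj_comm (hcA a ha) (hc b hb).symm).symm
  obtain ⟨c3, hc3C, hc3K⟩ := Fw.conj_inv h2 haC (hsq a haa)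
  obtain ⟨hc3w, hc3A⟩ := mem_CC.1 hc3C
  have h3 := h2.cjh c3⁻¹
  set e3 : L →* G := cjh c3⁻¹ e2 with he3
  have hw3 : e3 D.w = e D.w := by
    rw [he3, cjh_apply, inv_comm hc3w, ← hw2]; group
  have hA3 : ∀ b ∈ D.As, e3 b = e2 b := by
    intro b hb
    rw [he3, cjh_apply, inv_comm (hc3A b hb)]; group
  have haK3 : e a ∈ KK e3 := by
    rw [he3, mem_KK_cjh, inv_inv]
    exact hc3K
  obtain ⟨s, hs, hsv⟩ := Fw.exists_conj_inv F.vAs F.v1 F.v2 ha' ha'1 ha'a'
  have h4 := h3.cjh (e3 s)
  refine swap_w F h hn h4 ?_ ?_ ha ha1 haa ?_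
  · rw [cjh_apply, ← map_inv, ← map_mul, ← map_mul, ← Fw.comm s hs, mul_inv_cancel_right, hw3]
  · rw [cjh_apply, ← map_inv, ← map_mul, ← map_mul, hsv, hA3 a' ha']
    exact ha'2
  · rw [mem_KK_cjh]
    have h5 := mem_KK.1 haK3 s
    rw [show (e3 s)⁻¹ * e a * e3 s = (e3 s)⁻¹ * (e a * e3 s) by group, h5]
    rw [show (e3 s)⁻¹ * (e3 s * e a) = e a by group]
    exact haK3

theorem nc_w [Finite G] (F : Facts D) (h : Emb e) (hn : NU D e) : FD.NC D.w D.As e :=
  fun _ hg hc => no_comm_w F h hn hg hc

/-- no involution of `As` is conjugate into `C(w, As)` under `C(w)` -/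
theorem no_inv_w [Finite G] (F : Facts D) (Fw : FD D.w D.As) (h : Emb e) (hr : ¬ PRankLE 2 1 (KK e)) (hn : NU D e)
    {g : G} (hg : g * e D.w = e D.w * g) {a : L} (ha : a ∈ D.As) (ha1 : a ≠ 1) (haa : a * a = 1)
    (hga : g * e a * g⁻¹ ∈ CC e D.w D.As) : False := by
  have hte := Fw.te h (nc_w F h hn)
  obtain ⟨φ⟩ := Fw.iso_AH h
  obtain ⟨Lb, -⟩ := exists_lab φ
  have hne : Fw.eH e ⟨a, ha⟩ ≠ 1 := by
    intro h1
    have h2 : e a = 1 := congrArg Subtype.val h1
    exact ha1 (h.inj (h2.trans (map_one e).symm))
  have hsq : Fw.eH e ⟨a, ha⟩ * Fw.eH e ⟨a, ha⟩ = 1 := by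
    rw [← map_mul]
    have : (⟨a, ha⟩ : D.As) * ⟨a, ha⟩ = 1 := Subtype.ext haa
    rw [this, map_one]
  obtain ⟨β, T⟩ := typeTwo_of_inv Lb hte (Fw.hasFour hr)
    ⟨⟨g, mem_HH.2 hg⟩, Fw.eH e ⟨a, ha⟩, ⟨_, rfl⟩, hne, hsq, Fw.mem_centralizer_AH.2 hga⟩
  -- an involution of `K₀`
  let σ : alternatingGroup (Fin 5) := ⟨Equiv.swap (0 : Fin 5) 1 * Equiv.swap (2 : Fin 5) 3, Equiv.Perm.mem_alternatingGroup.2 (by decide)⟩
  have hσ4 : σ.1 4 = 4 := by decide
  have hσ1 : σ ≠ 1 := by decide
  have hσσ : σ * σ = 1 := by decide
  let τ : Equiv.Perm (Fin 5) := Equiv.swap (1 : Fin 5) 2 * Equiv.swap (3 : Fin 5) 4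
  have hτ : τ ∈ alternatingGroup (Fin 5) := Equiv.Perm.mem_alternatingGroup.2 (by decide)
  have hτ0 : τ 0 = 0 := by decide
  have hτ1 : τ ≠ 1 := by decide
  have hττ : τ * τ = 1 := by decide
  obtain ⟨k, hk⟩ := T.conjβ 0
  have hx : k⁻¹ * β 0 σ * k ∈ Fw.AH e := (hk _).2 ⟨σ, by group⟩
  obtain ⟨a', ha', hxa'⟩ := Fw.mem_AH.1 hx
  obtain ⟨b, hb, hbτ⟩ := Lb.lift τ hτ
  obtain ⟨b', hb', hbb'⟩ := Fw.mem_AH.1 hb
  have hβσ : β 0 σ ≠ 1 := fun h1 => hσ1 (T.injβ 0 σ h1)
  have hβ1 : β 0 1 = 1 := by
    have h1 := T.mulβ 0 1 1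
    rw [mul_one] at h1
    exact (mul_eq_left.1 h1.symm)
  have hβσσ : β 0 σ * β 0 σ = 1 := by rw [← T.mulβ, hσσ, hβ1]
  have hkw := mem_HH.1 k.2
  refine no_swap_w F Fw h hn (g := k) hkw (a' := a') ha' ?_ ?_ ?_ (a := b') hb' ?_ ?_ ?_
  · rintro rfl
    rw [map_one] at hxa'
    have h1 : k⁻¹ * β 0 σ * k = 1 := Subtype.ext hxa'
    apply hβσ
    rw [show β 0 σ = k * (k⁻¹ * β 0 σ * k) * k⁻¹ by group, h1]; group
  · apply h.inj
    rw [map_mul, ← hxa', map_one]
    have h1 : k⁻¹ * β 0 σ * k * (k⁻¹ * β 0 σ * k) = 1 := by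
      rw [show k⁻¹ * β 0 σ * k * (k⁻¹ * β 0 σ * k) = k⁻¹ * (β 0 σ * β 0 σ) * k by group, hβσσ]; group
    exact congrArg Subtype.val h1
  · rw [← hxa']
    have h1 : (k : G) * ((k⁻¹ * β 0 σ * k : HH e D.w) : G) * (k : G)⁻¹ = (β 0 σ : HH e D.w) := by
      change (k : G) * ((k : G)⁻¹ * (β 0 σ : HH e D.w) * k) * (k : G)⁻¹ = _
      group
    rw [h1]
    exact Fw.mem_centralizer_AH.1 ((T.K0 0 σ).2 hσ4)
  · rintro rfl
    rw [map_one] at hbb'
    have h1 : b = 1 := Subtype.ext hbb'
    rw [h1, Lb.one] at hbτ
    exact hτ1 hbτ.symm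
  · apply h.inj
    rw [map_mul, ← hbb', map_one]
    have h1 : b * b = 1 := by
      apply Lb.eq_one hte (mul_mem hb hb)
      rw [Lb.mul _ _ (le_N hb) (le_N hb), hbτ, hττ]
    exact congrArg Subtype.val h1
  · intro c hc
    have hfix := (T.fix b hb 0).2 (by rw [hbτ]; exact hτ0)
    obtain ⟨σ', hσ'⟩ := (hk (Fw.eH e ⟨c, hc⟩)).1 ⟨_, rfl⟩
    have h1 := hfix σ'
    rw [← hσ'] at h1
    rw [← hbb']
    exact congrArg Subtype.val h1

/-- **Step 2 for `w`** -/
theorem odd_w [Finite G] (F : Facts D) (Fw : FD D.w D.As) (h : Emb e) (hr : ¬ PRankLE 2 1 (KK e))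
    (hn : NU D e) (hnw : ¬ NW D e) (hcomm : CommHalf (HH e D.w ⧸ oddCore (HH e D.w))) :
    ∃ (Lb : Lab (Fw.AH e) (Fin 5)) (i : Fin 5) (R : Subgroup (HH e D.w)) (ρ g : HH e D.w),
      OddE (Fw.AH e) R (Kl Lb (Fw.te h (nc_w F h hn)) i) ρ g ∧ ∀ r ∈ R, (r : G) ∈ KK e := by
  refine Fw.exists_odd h hr (nc_w F h hn) ?_ (fun g hg a ha ha1 haa hga => no_inv_w F Fw h hr hn hg ha ha1 haa hga) hcomm
  unfold NW at hnw
  push Not at hnw
  obtain ⟨g, hg, a, ha, h1⟩ := hnw
  exact ⟨g, hg, a, ha, h1⟩

end Cfsg.Agent.StdG24
end

-- part: StdG24/OddPair_mg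
section

end

-- part: StdG24/MainB
section
prune_inst 0x4001000000100000000000000200000000000000000000000000000000000000000020000080000020000000000000000010000000000000000000000000400000002440002000000000000008000000000000000000000000000000000000000000000000
set_option linter.all false
open scoped Cfsg.Agent.FastGrp

-- part: StdG24/LettersAbs
section
/-!
# The homomorphism of the group of the ten letters onto a simple group is injective

`Γ` finite, `j : L0 → Γ` injective, `w` an involution whose centralizer normalises `j L0` and meets the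
centralizer of `j L0` in a four-group `V`; `G0 ≥ j L0` contains `w` and an involution `d` with `(w d)³ = 1`;
`ψ : G0 → K` is surjective onto a simple group and `ψ w ≠ 1`, `ψ (w d) ≠ 1`. Then `ψ` is injective.
-/

set_option autoImplicit false

namespace Cfsg.Agent.StdG24.LettersAbs

open Cfsg Cfsg.Agent.CoOneType Cfsg.Agent.StdG24.Words Cfsg.Agent.StdG24.PWords Subgroup

/-- `L0` is simple -/
theorem simple_L0 : IsSimpleGroup L0 := by
  haveI : Fintype (GaloisField 2 2) := Fintype.ofFinite _
  have hF : Fintype.card (GaloisField 2 2) = 4 := by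
    rw [← Nat.card_eq_fintype_card, GaloisField.card 2 2 (by norm_num)]; norm_num
  obtain ⟨E⟩ := Iso416.equiv_chev (GaloisField 2 2) hF
  have h3 : ∃ a : GaloisField 2 2, a ≠ 0 ∧ a ≠ 1 := by
    by_contra h
    push Not at h
    have h1 : Fintype.card (GaloisField 2 2) ≤ 2 := by
      classical
      calc Fintype.card (GaloisField 2 2) = (Finset.univ : Finset (GaloisField 2 2)).card := rfl
        _ ≤ ({0, 1} : Finset (GaloisField 2 2)).card := Finset.card_le_card (by
            intro a _
            by_cases ha : a = 0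
            · simp [ha]
            · simp only [h a ha, _root_.Finset.mem_insert, _root_.one_ne_zero, _root_.Finset.mem_singleton, _root_.or_true])
        _ ≤ 2 := Finset.card_le_two
    omega
  haveI := (Cfsg.Agent.S1055.result h3).1
  exact E.isSimpleGroup

theorem st_ne : (s * t) ^ 2 ≠ (1 : L0) := by
  rw [pow_two]
  have h := CentX.E_ne (a := gw pg [0, 1, 0, 1]) (b := gw pg []) (by decide +kernel)
  rw [← pp_eq_E, ← pp_eq_E] at h
  simpa only [pp, pl, List.map_cons, List.map_nil, List.prod_cons, List.prod_nil, mul_one, mul_assoc] using h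

section Abs

variable {Γ K : Type*} [Group Γ] [Group K]

/-- An involution `z` acting without fixed points on the kernel of a homomorphism inverts it. -/
theorem inverts [Finite Γ] {G0 : Subgroup Γ} {ψ : G0 →* K} {z : Γ} (hz : z ∈ G0) (hz2 : z * z = 1)
    (hB : ∀ n : G0, ψ n = 1 → (n : Γ) * z = z * n → n = 1) :
    ∀ n : G0, ψ n = 1 → z * (n : Γ) * z⁻¹ = (n : Γ)⁻¹ := by
  have hzi : z⁻¹ = z := inv_eq_of_mul_eq_one_left hz2
  set ζ : G0 := ⟨z, hz⟩ with hζ
  have hζ2 : ζ * ζ = 1 := Subtype.ext hz2
  have hζi : ζ⁻¹ = ζ := inv_eq_of_mul_eq_one_left hζ2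
  set φ : ψ.ker →* ψ.ker := (MulAut.conjNormal (H := ψ.ker) ζ).toMonoidHom with hφ
  have hφa : ∀ m : ψ.ker, ((φ m : ψ.ker) : G0) = ζ * m * ζ⁻¹ := fun m =>
    MulAut.conjNormal_apply ζ m
  have hfpf : MonoidHom.FixedPointFree φ := by
    intro m hm
    have h1 : ζ * (m : G0) * ζ⁻¹ = m := by rw [← hφa, hm]
    have h2 := hB m.1 m.2 (by
      have h3 := congrArg Subtype.val h1
      have h4 : z * (m : G0) * z⁻¹ = ((m : G0) : Γ) := h3
      rw [mul_inv_eq_iff_eq_mul] at h4
      exact h4.symm)
    exact Subtype.ext h2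
  have hinvol : Function.Involutive φ := by
    intro m
    apply Subtype.ext
    rw [hφa, hφa, hζi]
    calc ζ * (ζ * (m : G0) * ζ) * ζ = (ζ * ζ) * m * (ζ * ζ) := by group
      _ = m := by rw [hζ2]; group
  have hcoe := hfpf.coe_eq_inv_of_involutive hinvol
  intro n hn
  have h1 := congrFun hcoe ⟨n, hn⟩
  have h2 := congrArg (fun m : ψ.ker => ((m : G0) : Γ)) h1
  rw [hφa] at h2
  exact h2

/-- the image of a conjugate inverts too -/
theorem inverts_conj {G0 : Subgroup Γ} {ψ : G0 →* K} {a y : Γ} (hy : y ∈ G0)
    (ha : ∀ n : G0, ψ n = 1 → a * (n : Γ) * a⁻¹ = (n : Γ)⁻¹) :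
    ∀ n : G0, ψ n = 1 → (y * a * y⁻¹) * (n : Γ) * (y * a * y⁻¹)⁻¹ = (n : Γ)⁻¹ := by
  intro n hn
  have h1 := ha (⟨y, hy⟩⁻¹ * n * ⟨y, hy⟩) (by rw [map_mul, map_mul, map_inv, hn]; simp)
  have h2 : a * (y⁻¹ * n * y) * a⁻¹ = (y⁻¹ * (n : Γ) * y)⁻¹ := h1
  calc (y * a * y⁻¹) * (n : Γ) * (y * a * y⁻¹)⁻¹ = y * (a * (y⁻¹ * n * y) * a⁻¹) * y⁻¹ := by group
    _ = (n : Γ)⁻¹ := by rw [h2]; group

variable [Finite Γ] [IsSimpleGroup K] {j : L0 →* Γ} {G0 V : Subgroup Γ} {ψ : G0 →* K} {w d : Γ}

/-- **Injectivity.** -/
theorem injective (hψ : Function.Surjective ψ) (hjG : ∀ l, j l ∈ G0) (hw : w ∈ G0)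
    (hd : d ∈ G0) (hw2 : w * w = 1) (hd2 : d * d = 1) (hwd : (w * d) ^ 3 = 1)
    (hw' : ψ ⟨w, hw⟩ ≠ 1) (hwd' : ψ (⟨w, hw⟩ * ⟨d, hd⟩) ≠ 1) {l₀ : L0} (hj : ψ ⟨j l₀, hjG l₀⟩ ≠ 1)
    (hwV : w ∈ V) (hV4 : Nat.card V = 4)
    (hM : ∀ g, g * w = w * g → g ∈ MM j) (hC : ∀ g, g * w = w * g → g ∈ KK j → g ∈ V)
    (hρ : V ≤ G0 → ∀ v ∈ V, v ≠ 1 → ∃ ρ ∈ G0, ρ * v * ρ⁻¹ = w) :
    Function.Injective ψ := by
  have hw1 : w ≠ 1 := by
    intro h
    apply hw'
    have : (⟨w, hw⟩ : G0) = 1 := Subtype.ext h
    rw [this, map_one]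
  -- `ψ ∘ j` is injective
  have hinj : ∀ l : L0, ψ ⟨j l, hjG l⟩ = 1 → l = 1 := by
    haveI := simple_L0
    let χ : L0 →* K := ψ.comp (j.codRestrict G0 hjG)
    have hker : χ.ker = ⊥ := by
      rcases IsSimpleGroup.eq_bot_or_eq_top_of_normal χ.ker inferInstance with h | h
      · exact h
      · exfalso
        apply hj
        have h1 : l₀ ∈ χ.ker := by rw [h]; trivial
        exact h1
    intro l hl
    have h1 : l ∈ χ.ker := hl
    rw [hker] at h1
    exact h1
  -- kernel elements commuting with `w` lie in `V`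
  have hNV : ∀ n : G0, ψ n = 1 → (n : Γ) * w = w * n → (n : Γ) ∈ V := by
    intro n hn hnw
    refine hC _ hnw ?_
    rw [mem_KK]
    intro l
    obtain ⟨l', hl'⟩ := (mem_MM.1 (hM _ hnw)).1 l
    have h1 : ψ (n * ⟨j l, hjG l⟩ * n⁻¹ * ⟨j l, hjG l⟩⁻¹) = 1 := by
      rw [map_mul, map_mul, map_mul, map_inv, hn, one_mul, inv_one, mul_one, map_inv, mul_inv_cancel]
    have h2 : (n * ⟨j l, hjG l⟩ * n⁻¹ * ⟨j l, hjG l⟩⁻¹ : G0) = ⟨j (l' * l⁻¹), hjG _⟩ := by
      apply Subtype.ext
      show (n : Γ) * j l * (n : Γ)⁻¹ * (j l)⁻¹ = j (l' * l⁻¹)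
      rw [hl', map_mul, map_inv]
    rw [h2] at h1
    have h3 := hinj _ h1
    have h4 : l' = l := mul_inv_eq_one.mp h3
    rw [h4, mul_inv_eq_iff_eq_mul] at hl'
    exact hl'
  -- kernel elements commuting with `w` are trivial
  have hB : ∀ n : G0, ψ n = 1 → (n : Γ) * w = w * n → n = 1 := by
    intro n hn hnw
    by_contra hn1
    have hnV := hNV n hn hnw
    have hnn1 : (n : Γ) ≠ 1 := fun h => hn1 (Subtype.ext h)
    have hnw' : (n : Γ) ≠ w := by
      intro h
      apply hw'
      rw [← hn]
      congr 1
      exact Subtype.ext h.symm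
    -- then `V ≤ G0`
    have hVG : V ≤ G0 := by
      have h2 : 2 ∣ Nat.card (V ⊓ G0 : Subgroup Γ) := by
        have h3 : orderOf (⟨w, hwV, hw⟩ : (V ⊓ G0 : Subgroup Γ)) = 2 := by
          refine orderOf_eq_prime ?_ ?_
          · rw [pow_two]; exact Subtype.ext hw2
          · intro h; exact hw1 (congrArg Subtype.val h)
        rw [← h3]; exact _root_.orderOf_dvd_natCard _
      have h4 : Nat.card (V ⊓ G0 : Subgroup Γ) ∣ 4 := by
        rw [← hV4]; exact Subgroup.card_dvd_of_le inf_le_left
      have h5 : Nat.card (V ⊓ G0 : Subgroup Γ) ≠ 2 := by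
        intro h6
        have h7 := (Nat.card_eq_two_iff' (⟨1, one_mem _⟩ : (V ⊓ G0 : Subgroup Γ))).1 h6
        have h8 := h7.unique (y₁ := ⟨w, hwV, hw⟩) (y₂ := ⟨n, hnV, n.2⟩)
          (fun h => hw1 (congrArg Subtype.val h)) (fun h => hnn1 (congrArg Subtype.val h))
        exact hnw' (congrArg Subtype.val h8).symm
      have h6 : Nat.card (V ⊓ G0 : Subgroup Γ) = 4 := by
        have h7 := Nat.le_of_dvd (by norm_num) h4
        interval_cases (Nat.card (V ⊓ G0 : Subgroup Γ)) <;> omega
      have h7 : V ⊓ G0 = V := Subgroup.eq_of_le_of_card_ge inf_le_left (by rw [h6, hV4])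
      rw [← h7]; exact inf_le_right
    obtain ⟨ρ, hρG, hρn⟩ := hρ hVG n hnV hnn1
    apply hw'
    have h3 : (⟨w, hw⟩ : G0) = ⟨ρ, hρG⟩ * n * ⟨ρ, hρG⟩⁻¹ := Subtype.ext hρn.symm
    rw [h3, map_mul, map_mul, map_inv, hn, mul_one, mul_inv_cancel]
  -- `w` inverts the kernel, so does `d`
  have hI := inverts hw hw2 hB
  have hwi : w⁻¹ = w := inv_eq_of_mul_eq_one_left hw2
  have hdi : d⁻¹ = d := inv_eq_of_mul_eq_one_left hd2
  have hd' : (w * d) * w * (w * d)⁻¹ = d := by
    have h1 : w * d * (w * d) * (w * d) = 1 := by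
      rw [← hwd, pow_succ, pow_two]
    rw [mul_inv_rev, hwi, hdi]
    calc w * d * w * (d * w) = w * d * (w * d) * (w * d) * (d⁻¹ * (w * w⁻¹)) * (w⁻¹ * w) := by group
      _ = d := by rw [h1, hdi]; group
  have hJ : ∀ n : G0, ψ n = 1 → d * (n : Γ) * d⁻¹ = (n : Γ)⁻¹ := by
    have h1 := inverts_conj (ψ := ψ) (G0.mul_mem hw hd) hI
    rw [hd'] at h1
    exact h1
  -- `w d` centralizes the kernel
  have hcomm : ∀ n : G0, ψ n = 1 → (w * d) * (n : Γ) = n * (w * d) := by
    intro n hn
    have h1 : (w * d) * (n : Γ) * (w * d)⁻¹ = n := by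
      calc (w * d) * (n : Γ) * (w * d)⁻¹ = w * (d * n * d⁻¹) * w⁻¹ := by group
        _ = (w * (n : Γ) * w⁻¹)⁻¹ := by rw [hJ n hn]; group
        _ = n := by rw [hI n hn, inv_inv]
    rw [mul_inv_eq_iff_eq_mul] at h1
    exact h1
  -- the kernel is abelian
  have habel : ∀ n m : G0, ψ n = 1 → ψ m = 1 → (n : Γ) * m = m * n := by
    intro n m hn hm
    have h1 := hI (n * m) (by rw [map_mul, hn, hm, one_mul])
    have h2 : w * ((n : Γ) * m) * w⁻¹ = (m : Γ)⁻¹ * (n : Γ)⁻¹ := by
      rw [← mul_inv_rev]; exact h1
    have h3 : w * ((n : Γ) * m) * w⁻¹ = (n : Γ)⁻¹ * (m : Γ)⁻¹ := by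
      rw [← hI n hn, ← hI m hm]; group
    have h4 : ((m : Γ) * n)⁻¹ = ((n : Γ) * m)⁻¹ := by
      rw [mul_inv_rev, mul_inv_rev, ← h3, h2]
    exact (inv_injective h4).symm
  -- the centralizer of the kernel is everything
  set Z : Subgroup G0 := Subgroup.centralizer (ψ.ker : Set G0) with hZ
  have hZn : Z.Normal := by
    rw [hZ]; infer_instance
  have hwdZ : (⟨w, hw⟩ * ⟨d, hd⟩ : G0) ∈ Z := by
    rw [hZ, Subgroup.mem_centralizer_iff]
    intro n hn
    exact Subtype.ext (hcomm n hn).symm
  have hmap : Z.map ψ = ⊤ := by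
    have hn : (Z.map ψ).Normal := Subgroup.Normal.map hZn ψ hψ
    rcases hn.eq_bot_or_eq_top with h | h
    · exfalso
      apply hwd'
      have h1 : ψ (⟨w, hw⟩ * ⟨d, hd⟩) ∈ Z.map ψ := ⟨_, hwdZ, rfl⟩
      rw [h, Subgroup.mem_bot] at h1
      exact h1
    · exact h
  have hwZ : (⟨w, hw⟩ : G0) ∈ Z := by
    have h1 : ψ ⟨w, hw⟩ ∈ Z.map ψ := by rw [hmap]; trivial
    obtain ⟨z, hz, hzw⟩ := h1
    have h2 : (z⁻¹ * ⟨w, hw⟩ : G0) ∈ Z := by
      rw [hZ, Subgroup.mem_centralizer_iff]
      intro n hn
      have h3 : ψ (z⁻¹ * ⟨w, hw⟩) = 1 := by rw [map_mul, map_inv, hzw, inv_mul_cancel]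
      exact Subtype.ext (habel n (z⁻¹ * ⟨w, hw⟩) hn h3)
    have h3 := Z.mul_mem hz h2
    rwa [mul_inv_cancel_left] at h3
  rw [injective_iff_map_eq_one]
  intro n hn
  apply hB n hn
  rw [hZ, Subgroup.mem_centralizer_iff] at hwZ
  exact congrArg Subtype.val (hwZ n hn)

end Abs

section VG

variable {Γ K : Type*} [Group Γ] [Group K] {j : L0 →* Γ} {G0 V : Subgroup Γ} {ψ : G0 →* K} {w : Γ}

/-- `V ≤ G0` -/
theorem V_le (hψ : Function.Bijective ψ) (hjG : ∀ l, j l ∈ G0) (hw : w ∈ G0) (hw1 : w ≠ 1)
    (hV4 : Nat.card V = 4) (hwV : w ∈ V) (hC : ∀ g, g * w = w * g → g ∈ KK j → g ∈ V)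
    {k : K} (hk1 : k ≠ 1) (hkw : k ≠ ψ ⟨w, hw⟩) (hkw' : k * ψ ⟨w, hw⟩ = ψ ⟨w, hw⟩ * k)
    (hkj : ∀ l, k * ψ ⟨j l, hjG l⟩ = ψ ⟨j l, hjG l⟩ * k) : V ≤ G0 := by
  obtain ⟨κ, rfl⟩ := hψ.2 k
  have hκV : (κ : Γ) ∈ V := by
    apply hC
    · have h1 := hψ.1 (by rw [map_mul, map_mul]; exact hkw' : ψ (κ * ⟨w, hw⟩) = ψ (⟨w, hw⟩ * κ))
      exact congrArg Subtype.val h1
    · rw [mem_KK]
      intro l
      have h1 := hψ.1 (by rw [map_mul, map_mul]; exact hkj l :
        ψ (κ * ⟨j l, hjG l⟩) = ψ (⟨j l, hjG l⟩ * κ))
      exact congrArg Subtype.val h1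
  have hκ1 : (κ : Γ) ≠ 1 := by
    intro h
    apply hk1
    have : κ = 1 := Subtype.ext h
    rw [this, map_one]
  have hκw : (κ : Γ) ≠ w := by
    intro h
    apply hkw
    congr 1
    exact Subtype.ext h
  have : Finite V := Nat.finite_of_card_ne_zero (by omega)
  have hle : V ⊓ G0 ≤ V := inf_le_left
  have : Finite (V ⊓ G0 : Subgroup Γ) := Finite.of_injective _ (Subgroup.inclusion_injective hle)
  have h4 : Nat.card (V ⊓ G0 : Subgroup Γ) ∣ 4 := by
    rw [← hV4]; exact Subgroup.card_dvd_of_le inf_le_left
  have h5 : Nat.card (V ⊓ G0 : Subgroup Γ) ≠ 2 := by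
    intro h6
    have h7 := (Nat.card_eq_two_iff' (⟨1, one_mem _⟩ : (V ⊓ G0 : Subgroup Γ))).1 h6
    have h8 := h7.unique (y₁ := ⟨w, hwV, hw⟩) (y₂ := ⟨κ, hκV, κ.2⟩)
      (fun h => hw1 (congrArg Subtype.val h)) (fun h => hκ1 (congrArg Subtype.val h))
    exact hκw (congrArg Subtype.val h8).symm
  have h6 : Nat.card (V ⊓ G0 : Subgroup Γ) ≠ 1 := by
    intro h7
    rw [Nat.card_eq_one_iff_unique] at h7
    have h8 := h7.1.elim (⟨w, hwV, hw⟩ : (V ⊓ G0 : Subgroup Γ)) 1
    exact hw1 (congrArg Subtype.val h8)
  have h7 : Nat.card (V ⊓ G0 : Subgroup Γ) = 4 := by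
    have h7 := Nat.le_of_dvd (by norm_num) h4
    interval_cases (Nat.card (V ⊓ G0 : Subgroup Γ)) <;> omega
  have h8 : V ⊓ G0 = V := Subgroup.eq_of_le_of_card_ge inf_le_left (by rw [h7, hV4])
  rw [← h8]; exact inf_le_right

end VG

end Cfsg.Agent.StdG24.LettersAbs
end

-- part: StdG24/LettersCo
section
/-!
# From the ten letters to `Co₁`
-/

set_option autoImplicit false

namespace Cfsg.Agent.StdG24.LettersCo

open Cfsg Cfsg.Agent.CoOneType Cfsg.Agent.StdG24.Words Subgroup

/-- the group of the ten letters -/
abbrev Lt {Γ : Type*} [Group Γ] (s t x y w d e f g h : Γ) : Subgroup Γ :=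
  _root_.Subgroup.closure ({s, t, x, y, w, d, e, f, g, h} : Set Γ)

/-- the pairs letter of `Γ`, letter of `Co₁` -/
def pairs {Γ : Type*} (s t x y w d e f g h : Γ) : Set (Γ × Spor.Co1) :=
  {(s, Model.s), (t, Model.t), (x, Model.x), (y, Model.y), (w, Model.w), (d, Model.d), (e, Model.e'),
    (f, Model.f), (g, Model.g), (h, Model.h)}

theorem exists_psi {Γ : Type*} [Group Γ] [Finite Γ] {s t x y w d e f g h : Γ}
    (P : P957 s t x y w d e f g h) (hz : (s * t) ^ 2 ≠ 1) :
    ∃ (G0 : Subgroup Γ) (ψ : G0 →* Spor.Co1), G0 = Lt s t x y w d e f g h ∧ Function.Surjective ψ ∧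
      ∀ p ∈ pairs s t x y w d e f g h, ∀ h' : p.1 ∈ G0, ψ ⟨p.1, h'⟩ = p.2 := by
  have : IsSimpleGroup Spor.Co1 := Cfsg.Agent.S0399.result.1
  set Γ' := _root_.Subgroup.closure (pairs s t x y w d e f g h) with hΓ
  have himg1 : (MonoidHom.fst Γ Spor.Co1) '' (pairs s t x y w d e f g h) =
      {s, t, x, y, w, d, e, f, g, h} := by
    unfold pairs
    simp only [Set.image_insert_eq, Set.image_singleton]
    rfl
  have himg2 : (MonoidHom.snd Γ Spor.Co1) '' (pairs s t x y w d e f g h) =
      {Model.s, Model.t, Model.x, Model.y, Model.w, Model.d, Model.e', Model.f, Model.g, Model.h} := by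
    unfold pairs
    simp only [Set.image_insert_eq, Set.image_singleton]
    rfl
  have hmap1 : Γ'.map (MonoidHom.fst Γ Spor.Co1) = Lt s t x y w d e f g h := by
    rw [hΓ, MonoidHom.map_closure, himg1]
  have hmap2 : Γ'.map (MonoidHom.snd Γ Spor.Co1) = ⊤ := by
    rw [hΓ, MonoidHom.map_closure, himg2]
    exact Gen.closure_eq_top
  have h20 : 20160 ≤ Nat.card (Γ'.map (MonoidHom.fst Γ Spor.Co1)) :=
    Ident.card_ge P hz _ (by rw [hmap1]; exact _root_.Subgroup.subset_closure)
  have hub : Nat.card Γ' ≤ 31 * (2690072985600 * 503193600) :=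
    (TopStep.card_le (Identify.p957_prod P Model.p957)).2
  have hlt : 31 * (2690072985600 * 503193600) < 20160 * Nat.card Spor.Co1 := by
    rw [Identify.card_co1]; norm_num
  have h1 := Goursat.eq_one_of_card Γ' hmap2
    (lt_of_lt_of_le (lt_of_le_of_lt hub hlt) (Nat.mul_le_mul_right _ h20))
  obtain ⟨ψ, hψ⟩ := Goursat.exists_psi Γ' h1
  have hle : Lt s t x y w d e f g h ≤ Γ'.map (MonoidHom.fst Γ Spor.Co1) := hmap1.ge
  have hmem : ∀ p : Γ × Spor.Co1, p ∈ Γ' → p.1 ∈ Lt s t x y w d e f g h := by
    intro p hp
    rw [← hmap1]; exact ⟨p, hp, rfl⟩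
  refine ⟨Lt s t x y w d e f g h, ψ.comp (inclusion hle), rfl, ?_, ?_⟩
  · intro k
    have hk : k ∈ Γ'.map (MonoidHom.snd Γ Spor.Co1) := by rw [hmap2]; trivial
    obtain ⟨p, hp, rfl⟩ := hk
    exact ⟨⟨p.1, hmem p hp⟩, hψ p hp _⟩
  · intro p hp h'
    exact hψ p (_root_.Subgroup.subset_closure hp) _

/-- the commutation of an element of `Co₁` with the model of `L0` -/
theorem comm_of_gens {Γ : Type*} [Group Γ] {j : L0 →* Γ} {G0 : Subgroup Γ} {ψ : G0 →* Spor.Co1}
    (hjG : ∀ l, j l ∈ G0) {k : Spor.Co1}
    (hs : k * ψ ⟨j PWords.s, hjG _⟩ = ψ ⟨j PWords.s, hjG _⟩ * k)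
    (ht : k * ψ ⟨j PWords.t, hjG _⟩ = ψ ⟨j PWords.t, hjG _⟩ * k)
    (hx : k * ψ ⟨j PWords.x, hjG _⟩ = ψ ⟨j PWords.x, hjG _⟩ * k)
    (hy : k * ψ ⟨j PWords.y, hjG _⟩ = ψ ⟨j PWords.y, hjG _⟩ * k)
    (hq : k * ψ ⟨j PWords.q, hjG _⟩ = ψ ⟨j PWords.q, hjG _⟩ * k)
    (hv : k * ψ ⟨j PWords.v, hjG _⟩ = ψ ⟨j PWords.v, hjG _⟩ * k) (l : L0) :
    k * ψ ⟨j l, hjG l⟩ = ψ ⟨j l, hjG l⟩ * k := by
  let χ : L0 →* Spor.Co1 := ψ.comp (j.codRestrict G0 hjG)
  have h1 : _root_.Subgroup.closure ({PWords.s, PWords.t, PWords.x, PWords.y, PWords.q, PWords.v} : Set L0) ≤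
      (centralizer ({k} : Set Spor.Co1)).comap χ := by
    rw [closure_le]
    rintro a (rfl | rfl | rfl | rfl | rfl | rfl)
    · exact mem_centralizer_singleton_iff.2 hs.symm
    · exact mem_centralizer_singleton_iff.2 ht.symm
    · exact mem_centralizer_singleton_iff.2 hx.symm
    · exact mem_centralizer_singleton_iff.2 hy.symm
    · exact mem_centralizer_singleton_iff.2 hq.symm
    · exact mem_centralizer_singleton_iff.2 hv.symm
  rw [PWords.closure_top] at h1
  exact (mem_centralizer_singleton_iff.1 (h1 (mem_top l))).symm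

/-- **Piece (9).** -/
theorem main {Γ : Type*} [Group Γ] [Finite Γ] {j : L0 →* Γ} (hj : Function.Injective j) {w d e : Γ}
    (P : P957 (j PWords.s) (j PWords.t) (j PWords.x) (j PWords.y) w d e (j PWords.v * e)
      (j PWords.r * (j PWords.v * e)) ((j PWords.q)⁻¹ * (j PWords.r * (j PWords.v * e))))
    {V : Subgroup Γ} (hwV : w ∈ V) (hV4 : Nat.card V = 4)
    (hM : ∀ g, g * w = w * g → g ∈ MM j) (hC : ∀ g, g * w = w * g → g ∈ KK j → g ∈ V)
    (hρ : ∀ v ∈ V, v ≠ 1 → ∃ ρ ∈ _root_.Subgroup.closure ((V : Set Γ) ∪ {d}), ρ * v * ρ⁻¹ = w) :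
    ∃ (G0 : Subgroup Γ) (θ : G0 ≃* Spor.Co1), (∀ l, j l ∈ G0) ∧ V ≤ G0 ∧ d ∈ G0 ∧ e ∈ G0 ∧
      ∃ h : w ∈ G0, θ ⟨w, h⟩ = Model.w := by
  have hst : (j PWords.s * j PWords.t) ^ 2 ≠ 1 := by
    rw [← map_mul, ← map_pow, ← map_one j]
    exact fun h => LettersAbs.st_ne (hj h)
  obtain ⟨G0, ψ, hG0, hψs, hψ⟩ := exists_psi P hst
  have hsub : ∀ a ∈ ({j PWords.s, j PWords.t, j PWords.x, j PWords.y, w, d, e, j PWords.v * e,
      j PWords.r * (j PWords.v * e), (j PWords.q)⁻¹ * (j PWords.r * (j PWords.v * e))} : Set Γ), a ∈ G0 :=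
    fun a ha => by rw [hG0]; exact _root_.Subgroup.subset_closure ha
  have ms := hsub (j PWords.s) (by simp only [_root_.Set.mem_insert_iff, _root_.Set.mem_singleton_iff, _root_.true_or])
  have mt := hsub (j PWords.t) (by simp only [_root_.Set.mem_insert_iff, _root_.Set.mem_singleton_iff, _root_.true_or, _root_.or_true])
  have mx := hsub (j PWords.x) (by simp only [_root_.Set.mem_insert_iff, _root_.Set.mem_singleton_iff, _root_.true_or, _root_.or_true])
  have my := hsub (j PWords.y) (by simp only [_root_.Set.mem_insert_iff, _root_.Set.mem_singleton_iff, _root_.true_or, _root_.or_true])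
  have mw := hsub w (by simp only [_root_.Set.mem_insert_iff, _root_.Set.mem_singleton_iff, _root_.true_or, _root_.or_true])
  have md := hsub d (by simp only [_root_.Set.mem_insert_iff, _root_.Set.mem_singleton_iff, _root_.true_or, _root_.or_true])
  have me := hsub e (by simp only [_root_.Set.mem_insert_iff, _root_.right_eq_mul, _root_.Set.mem_singleton_iff, _root_.true_or, _root_.or_true])
  have mf := hsub (j PWords.v * e) (by simp only [_root_.Set.mem_insert_iff, _root_.mul_eq_right, _root_.right_eq_mul, _root_.Set.mem_singleton_iff, _root_.true_or, _root_.or_true])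
  have mg := hsub (j PWords.r * (j PWords.v * e)) (by simp only [_root_.Set.mem_insert_iff, _root_.mul_eq_right, _root_.Set.mem_singleton_iff, _root_.right_eq_mul, _root_.inv_eq_one, _root_.true_or, _root_.or_true])
  have mh := hsub ((j PWords.q)⁻¹ * (j PWords.r * (j PWords.v * e))) (by simp only [_root_.Set.mem_insert_iff, _root_.mul_eq_right, _root_.inv_eq_one, _root_.Set.mem_singleton_iff, _root_.or_true])
  have mv : j PWords.v ∈ G0 := (G0.mul_mem_cancel_right me).1 mf
  have mq : j PWords.q ∈ G0 := by
    have h1 := (G0.mul_mem_cancel_right mg).1 mh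
    simpa using G0.inv_mem h1
  have hjG : ∀ l, j l ∈ G0 := by
    have h1 : _root_.Subgroup.closure ({PWords.s, PWords.t, PWords.x, PWords.y, PWords.q, PWords.v} : Set L0) ≤
        G0.comap j := by
      rw [closure_le]
      rintro a (rfl | rfl | rfl | rfl | rfl | rfl)
      · exact ms
      · exact mt
      · exact mx
      · exact my
      · exact mq
      · exact mv
    rw [PWords.closure_top] at h1
    exact fun l => h1 (mem_top l)
  have ps : ψ ⟨j PWords.s, ms⟩ = Model.s := hψ (j PWords.s, Model.s) (by simp only [pairs, _root_.Set.mem_insert_iff, _root_.Prod.mk.injEq, _root_.Set.mem_singleton_iff, _root_.true_or]) ms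
  have pt : ψ ⟨j PWords.t, mt⟩ = Model.t := hψ (j PWords.t, Model.t) (by simp only [pairs, _root_.Set.mem_insert_iff, _root_.Prod.mk.injEq, _root_.Set.mem_singleton_iff, _root_.true_or, _root_.or_true]) mt
  have px : ψ ⟨j PWords.x, mx⟩ = Model.x := hψ (j PWords.x, Model.x) (by simp only [pairs, _root_.Set.mem_insert_iff, _root_.Prod.mk.injEq, _root_.Set.mem_singleton_iff, _root_.true_or, _root_.or_true]) mx
  have py : ψ ⟨j PWords.y, my⟩ = Model.y := hψ (j PWords.y, Model.y) (by simp only [pairs, _root_.Set.mem_insert_iff, _root_.Prod.mk.injEq, _root_.Set.mem_singleton_iff, _root_.true_or, _root_.or_true]) my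
  have pw : ψ ⟨w, mw⟩ = Model.w := hψ (w, Model.w) (by simp only [pairs, _root_.Set.mem_insert_iff, _root_.Prod.mk.injEq, _root_.Set.mem_singleton_iff, _root_.true_or, _root_.or_true]) mw
  have pd : ψ ⟨d, md⟩ = Model.d := hψ (d, Model.d) (by simp only [pairs, _root_.Set.mem_insert_iff, _root_.Prod.mk.injEq, _root_.Set.mem_singleton_iff, _root_.true_or, _root_.or_true]) md
  have pe : ψ ⟨e, me⟩ = Model.e' := hψ (e, Model.e') (by simp only [pairs, _root_.Set.mem_insert_iff, _root_.Prod.mk.injEq, _root_.right_eq_mul, _root_.Set.mem_singleton_iff, _root_.true_or, _root_.or_true]) me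
  have pf : ψ ⟨j PWords.v * e, mf⟩ = Model.f := hψ (j PWords.v * e, Model.f) (by simp only [pairs, _root_.Set.mem_insert_iff, _root_.Prod.mk.injEq, _root_.mul_eq_right, _root_.right_eq_mul, _root_.Set.mem_singleton_iff, _root_.true_or, _root_.or_true]) mf
  have pg : ψ ⟨j PWords.r * (j PWords.v * e), mg⟩ = Model.g :=
    hψ (j PWords.r * (j PWords.v * e), Model.g) (by simp only [pairs, _root_.Set.mem_insert_iff, _root_.Prod.mk.injEq, _root_.mul_eq_right, _root_.Set.mem_singleton_iff, _root_.right_eq_mul, _root_.inv_eq_one, _root_.true_or, _root_.or_true]) mg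
  have ph : ψ ⟨(j PWords.q)⁻¹ * (j PWords.r * (j PWords.v * e)), mh⟩ = Model.h :=
    hψ ((j PWords.q)⁻¹ * (j PWords.r * (j PWords.v * e)), Model.h) (by simp only [pairs, _root_.Set.mem_insert_iff, _root_.Prod.mk.injEq, _root_.mul_eq_right, _root_.inv_eq_one, _root_.Set.mem_singleton_iff, _root_.or_true]) mh
  -- `v = f e`, `q = g h`
  have pv : ψ ⟨j PWords.v, mv⟩ = Model.f * Model.e' := by
    have h1 : (⟨j PWords.v, mv⟩ : G0) = ⟨j PWords.v * e, mf⟩ * ⟨e, me⟩ := by
      apply Subtype.ext
      show j PWords.v = j PWords.v * e * e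
      rw [mul_assoc, P.e2, mul_one]
    rw [h1, map_mul, pf, pe]
  have pq : ψ ⟨j PWords.q, mq⟩ = Model.g * Model.h := by
    have h1 : (⟨j PWords.q, mq⟩ : G0) = ⟨j PWords.r * (j PWords.v * e), mg⟩ *
        ⟨(j PWords.q)⁻¹ * (j PWords.r * (j PWords.v * e)), mh⟩⁻¹ := by
      apply Subtype.ext
      show j PWords.q = j PWords.r * (j PWords.v * e) *
        ((j PWords.q)⁻¹ * (j PWords.r * (j PWords.v * e)))⁻¹
      group
    have hi : (Model.h)⁻¹ = Model.h := (inv_eq_of_mul_eq_one_left Model.v_h2 :)
    rw [h1, map_mul, map_inv, pg, ph, hi]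
  have hz' : (Model.s * Model.t) ^ 2 ≠ (1 : Spor.Co1) := by
    rw [Gen.z_eq]
    intro h
    have h3 : CoOneE.pr (Cfsg.Agent.SporadicA.Co0Mono.signCo0 GenCrit.c0) = 1 := h
    rw [Cfsg.Agent.CoOneType.CoOneE.pr_sign_eq_one_iff] at h3
    rw [ModelFinal.wt_c0] at h3
    omega
  have hs' : Model.s ≠ (1 : Spor.Co1) := by
    intro h
    apply hz'
    have h1 := Model.p957.zx
    rw [h] at h1
    rw [h]
    have h2 : Model.x⁻¹ * (1 * Model.t) ^ 2 * Model.x = Model.x⁻¹ * 1 * Model.x := by
      rw [h1, mul_one, inv_mul_cancel]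
    exact (mul_left_cancel (mul_right_cancel h2) :)
  have hw' : Model.w ≠ (1 : Spor.Co1) := by
    intro h
    apply CoSide.v2_ne_one
    rw [← CoSide.rho_conj, h, mul_one, mul_inv_cancel]
  have hwd' : Model.w * Model.d ≠ (1 : Spor.Co1) := by
    intro h
    have h1 : Model.w = Model.d := by
      have h2 := congrArg (fun u => u * Model.d) h
      simp only [one_mul] at h2
      rw [mul_assoc, Model.v_d2, mul_one] at h2
      exact h2
    have h2 : Model.d = Model.e' := Ident.eq_of_braid_comm Model.p957.d2 Model.p957.e2 Model.p957.de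
      (by rw [← h1]; exact Model.p957.we)
    apply Ident.w_ne_e Model.p957 hz'
    rw [h1, ← h2]
    exact Model.p957.d2
  have : IsSimpleGroup Spor.Co1 := Cfsg.Agent.S0399.result.1
  have hinj := LettersAbs.injective hψs hjG mw md P.w2 P.d2 P.wd (by rw [pw]; exact hw')
    (by rw [map_mul, pw, pd]; exact hwd') (l₀ := PWords.s) (by rw [ps]; exact hs') hwV hV4 hM hC
    (by
      intro hVG v hv hv1
      obtain ⟨ρ, hρ1, hρ2⟩ := hρ v hv hv1
      refine ⟨ρ, ?_, hρ2⟩
      have h1 : _root_.Subgroup.closure ((V : Set Γ) ∪ {d}) ≤ G0 := by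
        rw [closure_le]
        rintro a (ha | ha)
        · exact hVG ha
        · rw [Set.mem_singleton_iff.1 ha]; exact md
      exact h1 hρ1)
  have hw1 : w ≠ 1 := by
    intro h
    apply hw'
    rw [← pw]
    have : (⟨w, mw⟩ : G0) = 1 := Subtype.ext h
    rw [this, map_one]
  have hVG : V ≤ G0 := by
    refine LettersAbs.V_le ⟨hinj, hψs⟩ hjG mw hw1 hV4 hwV hC (k := CoSide.v2) CoSide.v2_ne_one
      (by rw [pw]; exact CoSide.v2_ne_w) (by rw [pw]; exact CoSide.v2_w) ?_
    apply comm_of_gens
    · rw [ps]; exact CoSide.v2_s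
    · rw [pt]; exact CoSide.v2_t
    · rw [px]; exact CoSide.v2_x
    · rw [py]; exact CoSide.v2_y
    · rw [pq]; exact CoSide.v2_gh
    · rw [pv]; exact CoSide.v2_fe
  exact ⟨G0, MulEquiv.ofBijective ψ ⟨hinj, hψs⟩, hjG, hVG, md, me, mw, pw⟩

end Cfsg.Agent.StdG24.LettersCo
end

-- part: StdG24/LettersFin
section
/-!
# From the input of step 8 to `Co₁`
-/

set_option autoImplicit false

namespace Cfsg.Agent.StdG24.LettersFin

open Cfsg Cfsg.Agent.CoOneType Cfsg.Agent.StdG24.Words Subgroup Cfsg.Agent.StdG24.F.A5

set_option maxRecDepth 100000 in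
set_option synthInstance.maxHeartbeats 400000 in
set_option synthInstance.maxSize 2000 in
theorem five : ∀ w : Alt5, w ≠ 1 → w * w = 1 → ∀ v : Alt5, v ≠ 1 → v * v = 1 → v ≠ w → v * w = w * v →
    ∀ d : Alt5, d * d = 1 → d ≠ w → (w * d) ^ 3 = 1 → (v * d) ^ 5 = 1 ∧ v * d ≠ 1 := by (simp only [↓Cfsg.Agent.PermCode.M, Cfsg.Agent.PermCode.P5.R, Cfsg.Agent.PermCode.B]; decide +kernel)

variable {Γ : Type*} [Group Γ] {j : L0 →* Γ} {V B : Subgroup Γ} {w d e : Γ}

theorem w_ne_d (h : Eight.In j V B) (o : Eight.Out j V B w d e) : d ≠ w := by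
  intro hwd
  have h1 : d = e := Ident.eq_of_braid_comm o.d2 o.e2 o.de (by rw [hwd]; exact o.we)
  apply o.e_not
  rw [← h1, hwd]
  exact h.Vj o.w_mem

/-- `⟨V, d⟩ = B` -/
theorem B_le (h : Eight.In j V B) (o : Eight.Out j V B w d e) : B ≤ _root_.Subgroup.closure ((V : Set Γ) ∪ {d}) := by
  obtain ⟨φ⟩ := h.BA
  have hB : Nat.card B = 60 := h.cardB
  have : Finite B := Nat.finite_of_card_ne_zero (by rw [hB]; norm_num)
  set C := _root_.Subgroup.closure ((V : Set Γ) ∪ {d}) with hC
  have hCB : C ≤ B := by
    rw [hC, closure_le]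
    rintro a (ha | ha)
    · exact h.VB ha
    · rw [Set.mem_singleton_iff.1 ha]; exact o.d_mem
  have : Finite C := Finite.of_injective _ (inclusion_injective hCB)
  have hVC : V ≤ C := fun a ha => _root_.Subgroup.subset_closure (Or.inl ha)
  have hdC : d ∈ C := _root_.Subgroup.subset_closure (Or.inr rfl)
  have h4 : 4 ∣ Nat.card C := by rw [← h.V4]; exact card_dvd_of_le hVC
  -- an involution of `V` different from `w`
  obtain ⟨v, hv, hv1, hvw⟩ : ∃ v ∈ V, v ≠ 1 ∧ v ≠ w := by
    by_contra hcon
    push Not at hcon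
    have hle : V ≤ zpowers w := by
      intro v hv
      by_cases h1 : v = 1
      · rw [h1]; exact one_mem _
      · rw [hcon v hv h1]; exact mem_zpowers w
    have h2 : Nat.card (zpowers w) = 2 := by
      rw [Nat.card_zpowers]
      exact orderOf_eq_prime (by rw [pow_two]; exact o.w2) o.w_ne
    have h3 := card_dvd_of_le hle
    rw [h2, h.V4] at h3
    norm_num at h3
  have hvv := h.sq v hv
  have hcomm : v * w = w * v := by
    have h1 := h.sq _ (V.mul_mem hv o.w_mem)
    calc v * w = (v * w)⁻¹ := eq_inv_of_mul_eq_one_left h1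
      _ = w⁻¹ * v⁻¹ := mul_inv_rev v w
      _ = w * v := by rw [inv_eq_of_mul_eq_one_left hvv, inv_eq_of_mul_eq_one_left o.w2]
  have hwB : w ∈ B := h.VB o.w_mem
  have hvB : v ∈ B := h.VB hv
  have hne : ∀ {a : Γ} (ha : a ∈ B), a ≠ 1 → φ ⟨a, ha⟩ ≠ 1 := by
    intro a ha ha1 h1
    apply ha1
    have h2 : (⟨a, ha⟩ : B) = 1 := (map_eq_one_iff φ φ.injective).1 h1
    exact congrArg Subtype.val h2
  have h35 := five (φ ⟨w, hwB⟩) (hne hwB o.w_ne) (by
      rw [← map_mul, ← map_one φ]; congr 1; exact Subtype.ext o.w2)
    (φ ⟨v, hvB⟩) (hne hvB hv1) (by rw [← map_mul, ← map_one φ]; congr 1; exact Subtype.ext hvv)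
    (fun h1 => hvw (congrArg Subtype.val (φ.injective h1)))
    (by rw [← map_mul, ← map_mul]; congr 1; exact Subtype.ext hcomm)
    (φ ⟨d, o.d_mem⟩) (by rw [← map_mul, ← map_one φ]; congr 1; exact Subtype.ext o.d2)
    (fun h1 => w_ne_d h o (congrArg Subtype.val (φ.injective h1)))
    (by rw [← map_mul, ← map_pow, ← map_one φ]; congr 1; exact Subtype.ext o.wd)
  have h5' : (v * d) ^ 5 = 1 := by
    have h1 := h35.1
    rw [← map_mul, ← map_pow, map_eq_one_iff φ φ.injective] at h1
    exact congrArg Subtype.val h1
  have h5n : v * d ≠ 1 := by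
    intro h1
    apply h35.2
    rw [← map_mul, map_eq_one_iff φ φ.injective]
    exact Subtype.ext h1
  have : Fact (Nat.Prime 5) := ⟨by norm_num⟩
  have : Fact (Nat.Prime 3) := ⟨by norm_num⟩
  have h5 : 5 ∣ Nat.card C := by
    have h1 : orderOf (⟨v * d, C.mul_mem (hVC hv) hdC⟩ : C) = 5 :=
      orderOf_eq_prime (Subtype.ext h5') (fun h2 => h5n (congrArg Subtype.val h2))
    rw [← h1]; exact _root_.orderOf_dvd_natCard _
  have h3 : 3 ∣ Nat.card C := by
    have h1 : orderOf (⟨w * d, C.mul_mem (hVC o.w_mem) hdC⟩ : C) = 3 := by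
      refine orderOf_eq_prime (Subtype.ext o.wd) (fun h2 => ?_)
      have h3 : w * d = 1 := congrArg Subtype.val h2
      apply w_ne_d h o
      calc d = w⁻¹ * (w * d) := by group
        _ = w := by rw [h3, mul_one, inv_eq_of_mul_eq_one_left o.w2]
    rw [← h1]; exact _root_.orderOf_dvd_natCard _
  have h12 : 4 * 3 ∣ Nat.card C := Nat.Coprime.mul_dvd_of_dvd_of_dvd (by norm_num) h4 h3
  have h60 : 4 * 3 * 5 ∣ Nat.card C := Nat.Coprime.mul_dvd_of_dvd_of_dvd (by norm_num) h12 h5
  have hle := Nat.le_of_dvd Nat.card_pos h60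
  have heq : C = B := eq_of_le_of_card_ge hCB (by rw [hB]; exact hle)
  exact heq.ge

/-- `B` is transitive on the involutions of `V` -/
theorem conj_w (h : Eight.In j V B) (o : Eight.Out j V B w d e) {v : Γ} (hv : v ∈ V) (hv1 : v ≠ 1) :
    ∃ ρ ∈ _root_.Subgroup.closure ((V : Set Γ) ∪ {d}), ρ * v * ρ⁻¹ = w := by
  obtain ⟨φ⟩ := h.BA
  have hwB : w ∈ B := h.VB o.w_mem
  have hvB : v ∈ B := h.VB hv
  have hne : ∀ {a : Γ} (ha : a ∈ B), a ≠ 1 → φ ⟨a, ha⟩ ≠ 1 := by
    intro a ha ha1 h1
    apply ha1
    have h2 : (⟨a, ha⟩ : B) = 1 := (map_eq_one_iff φ φ.injective).1 h1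
    exact congrArg Subtype.val h2
  obtain ⟨g, hg⟩ := f4 (φ ⟨v, hvB⟩) (hne hvB hv1)
    (by rw [← map_mul, ← map_one φ]; congr 1; exact Subtype.ext (h.sq v hv)) (φ ⟨w, hwB⟩)
    (by rw [← map_mul, ← map_one φ]; congr 1; exact Subtype.ext o.w2) (hne hwB o.w_ne)
  obtain ⟨ρ, rfl⟩ := φ.surjective g
  rw [← map_mul, ← map_inv, ← map_mul] at hg
  exact ⟨ρ, B_le h o ρ.2, congrArg Subtype.val (φ.injective hg)⟩

/-- **The letters generate `Co₁`, containing `N(j L₀)`.** -/
theorem main [Finite Γ] {E : AutL.El L0} (A : AutL.Ax E) (h : Eight.In j V B) :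
    ∃ (w : Γ) (G0 : Subgroup Γ) (θ : G0 ≃* Spor.Co1), w ∈ V ∧ w ≠ 1 ∧ (∀ l, j l ∈ G0) ∧ MM j ≤ G0 ∧
      ∃ hw : w ∈ G0, θ ⟨w, hw⟩ = Model.w := by
  obtain ⟨w, d, e, o⟩ := h.main
  obtain ⟨G0, θ, hjG, hVG, hd, he, hw, hθ⟩ := LettersCo.main h.inj (h.p957 o) o.w_mem h.V4
    (fun g hg => h.cent w o.w_mem o.w_ne g hg) (fun g hg hk => h.self w o.w_mem o.w_ne g hk hg)
    (fun v hv hv1 => conj_w h o hv hv1)
  have hBG : B ≤ G0 := by
    refine (B_le h o).trans ?_
    rw [closure_le]
    rintro a (ha | ha)
    · exact hVG ha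
    · rw [Set.mem_singleton_iff.1 ha]; exact hd
  refine ⟨w, G0, θ, o.w_mem, o.w_ne, hjG, ?_, hw, hθ⟩
  intro m hm
  obtain ⟨k, hk, l, h1 | h1⟩ := EightMM.MM_dec h o A hm
  · rw [h1]
    exact G0.mul_mem (hBG (h.KB hk)) (hjG l)
  · rw [h1]
    exact G0.mul_mem (G0.mul_mem (hBG (h.KB hk)) (hjG l)) he

end Cfsg.Agent.StdG24.LettersFin
end

-- part: StdG24/EightA3a
section
/-!
# Step 8 of S1767, first half (A3): the group `T = C(S₅)` (helper963)

Abstract part: `S` is a central subgroup of exponent 5 of the finite group `T`, `V` a four-group with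
`C_T(v) = V × S`, not normalised by `g`. Then `T = T' × S` with `T' ≅ A₅`.
-/

set_option autoImplicit false
set_option linter.style.haveILetI false

namespace Cfsg.Agent.StdG24.EightA3

open Subgroup
open scoped commutatorElement

variable {T : Type*} [Group T]

/-- the hypothesis -/
structure HT (S V : Subgroup T) (g : T) : Prop where
  SZ : ∀ s ∈ S, ∀ x : T, x * s = s * x
  s5 : ∀ s ∈ S, s ^ 5 = 1
  V4 : Nat.card V = 4
  sq : ∀ v ∈ V, v * v = 1
  cV : ∀ v ∈ V, v ≠ 1 → ∀ x : T, x * v = v * x → ∃ y ∈ V, ∃ s ∈ S, x = y * s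
  mov : ∃ v ∈ V, g * v * g⁻¹ ∉ V

theorem eq_one_of_two_five {s : T} (h2 : s * s = 1) (h5 : s ^ 5 = 1) : s = 1 := by
  have : s ^ 5 = s * s * (s * s) * s := by
    simp only [pow_succ, pow_zero, one_mul, mul_assoc]
  rw [h2, one_mul, one_mul] at this
  rw [← this, h5]

namespace HT

variable {S V : Subgroup T} {g : T} (h : HT S V g)
include h

theorem normal : S.Normal := ⟨fun s hs x => by
  rw [h.SZ s hs x, mul_inv_cancel_right]; exact hs⟩

theorem disj {x : T} (hx : x ∈ V) (hs : x ∈ S) : x = 1 := eq_one_of_two_five (h.sq x hx) (h.s5 x hs)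

/-- a conjugate of an involution that is congruent to an involution mod `S` equals it -/
theorem eq_of_mul {v w s : T} (hv : v * v = 1) (hw : w * w = 1) (hs : s ∈ S) (e : v = w * s) : v = w := by
  have h1 : s * s = 1 := by
    have h2 : w * s * (w * s) = w * w * (s * s) := by
      calc w * s * (w * s) = w * (s * w) * s := by group
        _ = w * (w * s) * s := by rw [h.SZ s hs w]
        _ = w * w * (s * s) := by group
    rw [← e, hv, hw, one_mul] at h2
    exact h2.symm
  rw [e, eq_one_of_two_five h1 (h.s5 s hs), mul_one]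

omit h in
theorem conj_sq {v x : T} (hv : v * v = 1) : x * v * x⁻¹ * (x * v * x⁻¹) = 1 := by
  calc x * v * x⁻¹ * (x * v * x⁻¹) = x * (v * v) * x⁻¹ := by group
    _ = 1 := by rw [hv]; group

/-- the image of `V` in `T / S` -/
def Vb (_ : HT S V g) [S.Normal] : Subgroup (T ⧸ S) := ((QuotientGroup.mk' S).comp V.subtype).range

theorem mem_Vb [S.Normal] {x : T} : (QuotientGroup.mk' S x) ∈ h.Vb ↔ ∃ y ∈ V, ∃ s ∈ S, x = y * s := by
  constructor
  · rintro ⟨y, hy⟩
    have h1 : (QuotientGroup.mk (y : T) : T ⧸ S) = QuotientGroup.mk x := hy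
    rw [QuotientGroup.eq] at h1
    exact ⟨y, y.2, _, h1, by group⟩
  · rintro ⟨y, hy, s, hs, rfl⟩
    refine ⟨⟨y, hy⟩, ?_⟩
    show (QuotientGroup.mk y : T ⧸ S) = QuotientGroup.mk (y * s)
    rw [QuotientGroup.eq]
    have : y⁻¹ * (y * s) = s := by group
    rw [this]; exact hs

theorem hyp [S.Normal] : J2Type.FourSelfCent.Hyp h.Vb where
  card4 := by
    have hinj : Function.Injective ((QuotientGroup.mk' S).comp V.subtype) := by
      rw [injective_iff_map_eq_one]
      intro x hx
      have h1 : (QuotientGroup.mk (x : T) : T ⧸ S) = 1 := hx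
      rw [QuotientGroup.eq_one_iff] at h1
      exact Subtype.ext (h.disj x.2 h1)
    rw [← h.V4]
    exact (Nat.card_congr (MonoidHom.ofInjective hinj).toEquiv).symm
  sq := by
    rintro _ ⟨x, rfl⟩
    rw [← map_mul]
    have : x * x = 1 := Subtype.ext (h.sq x x.2)
    rw [this, map_one]
  cent := by
    rintro _ ⟨v, rfl⟩ hv x hx
    obtain ⟨x, rfl⟩ := QuotientGroup.mk_surjective x
    have hv1 : (v : T) ≠ 1 := by
      intro e
      apply hv
      rw [show v = 1 from Subtype.ext e, map_one]
    have h1 : (QuotientGroup.mk (x * v) : T ⧸ S) = QuotientGroup.mk (v * x) := hx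
    rw [QuotientGroup.eq] at h1
    -- `v x = x v s`
    have h2 : (v : T) = (x * v * x⁻¹) * ((x * v)⁻¹ * (v * x)) := by
      have h3 := h.SZ _ h1 x
      calc (v : T) = (v * x) * x⁻¹ := by group
        _ = x * v * ((x * v)⁻¹ * (v * x)) * x⁻¹ := by group
        _ = x * v * (x⁻¹ * x) * ((x * v)⁻¹ * (v * x)) * x⁻¹ := by group
        _ = x * v * x⁻¹ * (x * ((x * v)⁻¹ * (v * x))) * x⁻¹ := by group
        _ = x * v * x⁻¹ * (((x * v)⁻¹ * (v * x)) * x) * x⁻¹ := by rw [h3]
        _ = _ := by group
    have h3 := h.eq_of_mul (h.sq v v.2) (conj_sq (h.sq v v.2)) h1 h2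
    have h4 : x * v = v * x := by
      nth_rewrite 2 [h3]
      group
    exact h.mem_Vb.2 (h.cV v v.2 hv1 x h4)

variable [Finite T]

theorem card60 [S.Normal] : Nat.card (T ⧸ S) = 60 := by
  have hH := h.hyp
  have key : h.Vb.Normal → False := by
    intro hn
    obtain ⟨v, hv, hg⟩ := h.mov
    apply hg
    have h1 : QuotientGroup.mk' S (g * v * g⁻¹) ∈ h.Vb := by
      rw [map_mul, map_mul, map_inv]
      exact hn.conj_mem _ (h.mem_Vb.2 ⟨v, hv, 1, S.one_mem, (mul_one v).symm⟩) _
    obtain ⟨y, hy, s, hs, e⟩ := h.mem_Vb.1 h1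
    rw [h.eq_of_mul (conj_sq (h.sq v hv)) (h.sq y hy) hs e]
    exact hy
  rcases hH.card_cases with h1 | h1 | h1
  · exfalso
    have h2 : h.Vb = ⊤ := Subgroup.eq_top_of_card_eq _ (by rw [hH.card4, h1])
    exact key (by rw [h2]; infer_instance)
  · exfalso
    rcases hH.card_normalizer with h2 | h2
    · have := hH.card_eq_four h2
      omega
    · have h3 : normalizer (h.Vb : Set (T ⧸ S)) = ⊤ := Subgroup.eq_top_of_card_eq _ (by rw [h2, h1])
      exact key (normalizer_eq_top_iff.1 h3)
  · exact h1

theorem equiv [S.Normal] : Nonempty ((T ⧸ S) ≃* alternatingGroup (Fin 5)) :=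
  h.hyp.equiv_of_card_60 h.card60

theorem sup_eq_top [S.Normal] : commutator T ⊔ S = ⊤ := by
  obtain ⟨e⟩ := h.equiv
  have h1 : (commutator T).map (QuotientGroup.mk' S) = ⊤ := by
    rw [_root_.commutator_def, map_commutator, ← MonoidHom.range_eq_map,
      MonoidHom.range_eq_top.2 (QuotientGroup.mk'_surjective S), ← _root_.commutator_def]
    exact AutL.comm_top e
  have h2 := comap_map_eq (QuotientGroup.mk' S) (commutator T)
  rw [h1, comap_top, QuotientGroup.ker_mk'] at h2
  exact h2.symm

theorem inf_eq_bot {z : T} (hz : z ∈ S) (hc : z ∈ commutator T) : z = 1 := by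
  have hn := h.normal
  have : Fact (Nat.Prime 5) := ⟨by norm_num⟩
  have hS5 : IsPGroup 5 S := fun x => ⟨1, Subtype.ext (by
    rw [pow_one]; exact h.s5 x x.2)⟩
  obtain ⟨P, hP⟩ := hS5.exists_le_sylow
  refine OddOrderLocal.FreeAction.eq_one_of_mem_sylow_center_commutator P ?_ (hP hz)
    (mem_center_iff.2 fun x => h.SZ z hz x) hc
  let f : P →* T ⧸ S := (QuotientGroup.mk' S).comp (P : Subgroup T).subtype
  have hcyc : IsCyclic f.range := by
    have h5 : IsPGroup 5 f.range := P.2.of_surjective f.rangeRestrict f.rangeRestrict_surjective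
    obtain ⟨k, hk⟩ := IsPGroup.iff_card.1 h5
    have h6 : Nat.card f.range ∣ 60 := by
      rw [← h.card60]; exact card_subgroup_dvd_card _
    rw [hk] at h6
    have hk1 : k < 2 := by
      by_contra hk2
      push Not at hk2
      have h7 : 5 ^ 2 ∣ 60 := (pow_dvd_pow 5 hk2).trans h6
      omega
    interval_cases k
    · have : Subsingleton f.range := (Nat.card_eq_one_iff_unique.1 (by rw [hk, pow_zero])).1
      exact isCyclic_of_subsingleton
    · exact isCyclic_of_prime_card (p := 5) (by rw [hk, pow_one])
  have hker : f.rangeRestrict.ker ≤ center P := by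
    intro x hx
    rw [MonoidHom.ker_rangeRestrict] at hx
    have h1 : (QuotientGroup.mk (x : T) : T ⧸ S) = 1 := hx
    rw [QuotientGroup.eq_one_iff] at h1
    rw [mem_center_iff]
    intro y
    exact Subtype.ext (h.SZ x h1 y)
  exact MonoidHom.isMulCommutative_of_isCyclic_of_ker_le_center f.rangeRestrict hker

theorem equiv_comm : Nonempty (commutator T ≃* alternatingGroup (Fin 5)) := by
  have hn := h.normal
  obtain ⟨e⟩ := h.equiv
  let f : commutator T →* T ⧸ S := (QuotientGroup.mk' S).comp (commutator T).subtype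
  have hinj : Function.Injective f := by
    rw [injective_iff_map_eq_one]
    intro x hx
    have h1 : (QuotientGroup.mk (x : T) : T ⧸ S) = 1 := hx
    rw [QuotientGroup.eq_one_iff] at h1
    exact Subtype.ext (h.inf_eq_bot h1 x.2)
  have hsur : Function.Surjective f := by
    intro y
    obtain ⟨x, rfl⟩ := QuotientGroup.mk_surjective y
    have h1 : x ∈ commutator T ⊔ S := by rw [h.sup_eq_top]; trivial
    obtain ⟨a, ha, s, hs, rfl⟩ := mem_sup_of_normal_right.1 h1
    refine ⟨⟨a, ha⟩, ?_⟩
    show (QuotientGroup.mk a : T ⧸ S) = QuotientGroup.mk (a * s)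
    rw [QuotientGroup.eq]
    have : a⁻¹ * (a * s) = s := by group
    rw [this]; exact hs
  exact ⟨(MulEquiv.ofBijective f ⟨hinj, hsur⟩).trans e⟩

/-- decomposition -/
theorem decomp (x : T) : ∃ b ∈ commutator T, ∃ s ∈ S, x = b * s := by
  have hn := h.normal
  have h1 : x ∈ commutator T ⊔ S := by rw [h.sup_eq_top]; trivial
  obtain ⟨a, ha, s, hs, rfl⟩ := mem_sup_of_normal_right.1 h1
  exact ⟨a, ha, s, hs, rfl⟩

/-- elements of order prime to 5 lie in `T'` -/
theorem mem_of_pow {x : T} (hx : x ^ 12 = 1) : x ∈ _root_.commutator T := by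
  obtain ⟨b, hb, s, hs, rfl⟩ := h.decomp x
  have hc : Commute b s := h.SZ s hs b
  rw [hc.mul_pow] at hx
  have h1 : s ^ 12 = 1 := by
    apply h.inf_eq_bot (S.pow_mem hs 12)
    have h2 : s ^ 12 = (b ^ 12)⁻¹ := (inv_eq_of_mul_eq_one_right hx).symm
    rw [h2]
    exact inv_mem (pow_mem hb 12)
  have h5 := h.s5 s hs
  have h3 : s * s = 1 := by
    have h4 : s ^ 12 = (s ^ 5) ^ 2 * (s * s) := by
      simp only [pow_succ, pow_zero, one_mul, mul_assoc]
    rw [h5, one_pow, one_mul] at h4
    rw [← h4, h1]
  rw [eq_one_of_two_five h3 h5, mul_one]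
  exact hb

/-- a subgroup containing `K ≅ A₄` (with `V ⊴ K`) and `g` contains `T'` -/
theorem comm_le {K T₁ : Subgroup T} (K12 : Nat.card K = 12)
    (KV : ∀ k ∈ K, ∀ v ∈ V, k * v * k⁻¹ ∈ V) (hK : K ≤ T₁) (hg : g ∈ T₁) : commutator T ≤ T₁ := by
  have hn := h.normal
  have hKS : ∀ x ∈ K, x ∈ S → x = 1 := by
    intro x hx hs
    have h1 : x ^ 12 = 1 := by
      have h2 : (⟨x, hx⟩ : K) ^ Nat.card K = 1 := pow_card_eq_one'
      rw [K12] at h2
      exact congrArg Subtype.val h2
    have h5 := h.s5 x hs
    have h3 : x * x = 1 := by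
      have h4 : x ^ 12 = (x ^ 5) ^ 2 * (x * x) := by
        simp only [pow_succ, pow_zero, one_mul, mul_assoc]
      rw [h5, one_pow, one_mul] at h4
      rw [← h4, h1]
    exact eq_one_of_two_five h3 h5
  let f : K →* T ⧸ S := (QuotientGroup.mk' S).comp K.subtype
  have hinj : Function.Injective f := by
    rw [injective_iff_map_eq_one]
    intro x hx
    have h1 : (QuotientGroup.mk (x : T) : T ⧸ S) = 1 := hx
    rw [QuotientGroup.eq_one_iff] at h1
    exact Subtype.ext (hKS x x.2 h1)
  have hK12 : Nat.card f.range = 12 := by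
    rw [← K12]
    exact (Nat.card_congr (MonoidHom.ofInjective hinj).toEquiv).symm
  set I : Subgroup (T ⧸ S) := T₁.map (QuotientGroup.mk' S) with hI
  have hle : f.range ≤ I := by
    rintro _ ⟨x, rfl⟩
    exact ⟨x, hK x.2, rfl⟩
  have h12 : 12 ∣ Nat.card I := by
    rw [← hK12]; exact card_dvd_of_le hle
  have h60 : Nat.card I ∣ 60 := by
    rw [← h.card60]; exact card_subgroup_dvd_card _
  have hne : Nat.card I ≠ 12 := by
    intro h1
    have h2 : f.range = I := Subgroup.eq_of_le_of_card_ge hle (by rw [h1, hK12])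
    have h3 : QuotientGroup.mk' S g ∈ f.range := by
      rw [h2]; exact ⟨g, hg, rfl⟩
    obtain ⟨k, hk⟩ := h3
    have h4 : (QuotientGroup.mk (k : T) : T ⧸ S) = QuotientGroup.mk g := hk
    rw [QuotientGroup.eq] at h4
    obtain ⟨v, hv, hgv⟩ := h.mov
    apply hgv
    have h5 : g * v * g⁻¹ = k * v * (k : T)⁻¹ := by
      have h6 := h.SZ _ h4 v
      calc g * v * g⁻¹ = k * (((k : T)⁻¹ * g) * v) * g⁻¹ := by group
        _ = k * (v * ((k : T)⁻¹ * g)) * g⁻¹ := by rw [h6]
        _ = k * v * (k : T)⁻¹ := by group
    rw [h5]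
    exact KV k k.2 v hv
  have hI60 : Nat.card I = 60 := by
    obtain ⟨m, hm⟩ := h12
    rw [hm] at h60 hne ⊢
    have h1 : m ∣ 5 := by
      have : 12 * m ∣ 12 * 5 := h60
      exact (Nat.mul_dvd_mul_iff_left (by norm_num)).1 this
    rcases (Nat.dvd_prime (by norm_num)).1 h1 with rfl | rfl
    · exact absurd rfl hne
    · rfl
  have hItop : I = ⊤ := Subgroup.eq_top_of_card_eq _ (by rw [hI60, h.card60])
  have hdec : ∀ x : T, ∃ a ∈ T₁, ∃ s ∈ S, x = a * s := by
    intro x
    have h1 : QuotientGroup.mk' S x ∈ I := by rw [hItop]; trivial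
    obtain ⟨a, ha, e⟩ := h1
    have h4 : (QuotientGroup.mk a : T ⧸ S) = QuotientGroup.mk x := e
    rw [QuotientGroup.eq] at h4
    exact ⟨a, ha, _, h4, by group⟩
  rw [_root_.commutator_def, commutator_le]
  intro x _ y _
  obtain ⟨a, ha, s, hs, rfl⟩ := hdec x
  obtain ⟨b, hb, r, hr, rfl⟩ := hdec y
  have e : ⁅a * s, b * r⁆ = ⁅a, b⁆ := by
    rw [commutatorElement_def, commutatorElement_def]
    have h1 := h.SZ s hs
    have h2 := h.SZ r hr
    have c1 : Commute s (b * r) := ((h1 (b * r)).symm : s * (b * r) = b * r * s)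
    have c2 : Commute r a⁻¹ := ((h2 a⁻¹).symm : r * a⁻¹ = a⁻¹ * r)
    calc a * s * (b * r) * (a * s)⁻¹ * (b * r)⁻¹
        = a * (s * (b * r)) * s⁻¹ * a⁻¹ * (b * r)⁻¹ := by group
      _ = a * (b * r * s) * s⁻¹ * a⁻¹ * (b * r)⁻¹ := by rw [c1.eq]
      _ = a * b * (r * a⁻¹) * r⁻¹ * b⁻¹ := by group
      _ = a * b * (a⁻¹ * r) * r⁻¹ * b⁻¹ := by rw [c2.eq]
      _ = a * b * a⁻¹ * b⁻¹ := by group
  rw [e, commutatorElement_def]
  exact T₁.mul_mem (T₁.mul_mem (T₁.mul_mem ha hb) (T₁.inv_mem ha)) (T₁.inv_mem hb)

end HT

end Cfsg.Agent.StdG24.EightA3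
end

-- part: StdG24/EightA3
section
/-!
# Step 8 of S1767, first half (A3): `C(j J_L) ≅ A₅` (helper963)
-/

set_option autoImplicit false
set_option linter.style.haveILetI false

namespace Cfsg.Agent.StdG24.EightA3

open Subgroup Cfsg.Agent.StdG24.AutL
open scoped commutatorElement

variable {L : Type*} [Group L] {G : Type*} [Group G]

theorem exists_aut {j : L →* G} (hj : Function.Injective j) {m : G} (hm : m ∈ MM j) :
    ∃ α : MulAut L, ∀ x, j (α x) = m * j x * m⁻¹ := by
  obtain ⟨h1, h2⟩ := mem_MM.1 hm
  choose f hf using h1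
  choose f' hf' using h2
  refine ⟨{ toFun := f, invFun := f', left_inv := fun x => ?_, right_inv := fun x => ?_, map_mul' := fun x y => ?_ },
    fun x => (hf x).symm⟩
  · apply hj
    rw [← hf', ← hf]; group
  · apply hj
    rw [← hf, ← hf']; group
  · apply hj
    rw [map_mul, ← hf, ← hf, ← hf, map_mul]; group

section El

variable {E : El L}

/-- the Sylow 5-subgroup `⟨w, u⟩` -/
def S0 (A : Ax E) : Subgroup L where
  carrier := {x | ∃ a b : ℕ, x = E.w ^ a * E.u ^ b}
  one_mem' := ⟨0, 0, by simp⟩
  mul_mem' := by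
    rintro _ _ ⟨a, b, rfl⟩ ⟨c, d, rfl⟩
    exact ⟨a + c, b + d, A.qmul a b c d⟩
  inv_mem' := by
    rintro _ ⟨a, b, rfl⟩
    refine ⟨4 * a, 4 * b, ?_⟩
    apply inv_eq_of_mul_eq_one_right
    rw [A.qmul, A.qmod]
    have h1 : (a + 4 * a) % 5 = 0 := by omega
    have h2 : (b + 4 * b) % 5 = 0 := by omega
    rw [h1, h2]; simp

variable (A : Ax E)
include A

theorem w_conj : E.i₂ * E.n * E.w * (E.i₂ * E.n)⁻¹ = E.w ^ 3 * E.u ^ 2 := by
  have h1 : E.i₂ * E.n * E.w * (E.i₂ * E.n)⁻¹ = E.i₂ * (E.n * E.w * E.n⁻¹) * E.i₂⁻¹ := by group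
  have h2 : E.i₂ * (E.w ^ 2 * E.u ^ 2) * E.i₂⁻¹ = (E.i₂ * E.w * E.i₂⁻¹) ^ 2 * (E.i₂ * E.u * E.i₂⁻¹) ^ 2 := by
    rw [conj_pow, conj_pow]; group
  have h3 : E.i₂ * E.w * E.i₂⁻¹ = E.w ^ 4 := by
    rw [A.i₂inv, A.i₂w]
    apply inv_eq_of_mul_eq_one_right
    rw [← pow_succ', A.w5]
  have h4 : E.i₂ * E.u * E.i₂⁻¹ = E.u := by rw [A.i₂u]; group
  rw [h1, A.nw, h2, h3, h4, ← pow_mul]
  have := A.qmod (4 * 2) 2
  rw [this]

theorem u_conj : E.i₂ * E.n * E.u * (E.i₂ * E.n)⁻¹ = E.w ^ 1 * E.u ^ 2 := by
  have h1 : E.i₂ * E.n * E.u * (E.i₂ * E.n)⁻¹ = E.i₂ * (E.n * E.u * E.n⁻¹) * E.i₂⁻¹ := by group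
  have h2 : E.i₂ * (E.w ^ 4 * E.u ^ 2) * E.i₂⁻¹ = (E.i₂ * E.w * E.i₂⁻¹) ^ 4 * (E.i₂ * E.u * E.i₂⁻¹) ^ 2 := by
    rw [conj_pow, conj_pow]; group
  have h3 : E.i₂ * E.w * E.i₂⁻¹ = E.w ^ 4 := by
    rw [A.i₂inv, A.i₂w]
    apply inv_eq_of_mul_eq_one_right
    rw [← pow_succ', A.w5]
  have h4 : E.i₂ * E.u * E.i₂⁻¹ = E.u := by rw [A.i₂u]; group
  rw [h1, A.nu, h2, h3, h4, ← pow_mul]
  have := A.qmod (4 * 4) 2
  rw [this]

theorem s_conj (a b : ℕ) : E.i₂ * E.n * (E.w ^ a * E.u ^ b) * (E.i₂ * E.n)⁻¹ =
    E.w ^ (3 * a + 1 * b) * E.u ^ (2 * a + 2 * b) := by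
  have h1 : E.i₂ * E.n * (E.w ^ a * E.u ^ b) * (E.i₂ * E.n)⁻¹ =
      (E.i₂ * E.n * E.w * (E.i₂ * E.n)⁻¹) ^ a * (E.i₂ * E.n * E.u * (E.i₂ * E.n)⁻¹) ^ b := by
    rw [conj_pow, conj_pow]; group
  rw [h1, w_conj A, u_conj A, A.qpow, A.qpow, A.qmul]

theorem w_conj' : (E.i₂ * E.n)⁻¹ * E.w * (E.i₂ * E.n) = E.w ^ 3 * E.u ^ 2 := by
  have h1 := s_conj A 3 2
  rw [A.qmod (3 * 3 + 1 * 2) (2 * 3 + 2 * 2)] at h1
  have h2 : E.w ^ ((3 * 3 + 1 * 2) % 5) * E.u ^ ((2 * 3 + 2 * 2) % 5) = E.w := by norm_num
  rw [h2] at h1
  nth_rewrite 1 [← h1]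
  group

theorem u_conj' : (E.i₂ * E.n)⁻¹ * E.u * (E.i₂ * E.n) = E.w ^ 1 * E.u ^ 2 := by
  have h1 := s_conj A 1 2
  rw [A.qmod (3 * 1 + 1 * 2) (2 * 1 + 2 * 2)] at h1
  have h2 : E.w ^ ((3 * 1 + 1 * 2) % 5) * E.u ^ ((2 * 1 + 2 * 2) % 5) = E.u := by norm_num
  rw [h2] at h1
  nth_rewrite 1 [← h1]
  group

/-- `C_{⟨w, u⟩}(J) = 1` -/
theorem eq_one_of_comm {s : L} (hs : s ∈ S0 A) (h1 : s * E.i₁ = E.i₁ * s)
    (h2 : s * (E.i₂ * E.n) = E.i₂ * E.n * s) : s = 1 := by
  obtain ⟨a, b, rfl⟩ := hs
  have h3 : E.i₁ * (E.w ^ a * E.u ^ b) * E.i₁⁻¹ = E.w ^ a * E.u ^ (4 * b) := by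
    have e1 : E.i₁ * (E.w ^ a * E.u ^ b) * E.i₁⁻¹ = (E.i₁ * E.w * E.i₁⁻¹) ^ a * (E.i₁ * E.u * E.i₁⁻¹) ^ b := by
      rw [conj_pow, conj_pow]; group
    have e2 : E.i₁ * E.w * E.i₁⁻¹ = E.w := by rw [A.i₁w]; group
    have e3 : E.i₁ * E.u * E.i₁⁻¹ = E.u ^ 4 := by
      rw [A.i₁inv, A.i₁u]
      apply inv_eq_of_mul_eq_one_right
      rw [← pow_succ', A.u5]
    rw [e1, e2, e3, ← pow_mul]
  have h4 : E.i₁ * (E.w ^ a * E.u ^ b) * E.i₁⁻¹ = E.w ^ a * E.u ^ b := by rw [← h1]; group
  have h5 : E.u ^ (4 * b) = E.u ^ b := mul_left_cancel (h3.symm.trans h4)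
  have h6 : E.w ^ 0 * E.u ^ (3 * b) = 1 := by
    rw [pow_zero, one_mul]
    have e4 : E.u ^ (4 * b) = E.u ^ b * E.u ^ (3 * b) := by rw [← pow_add]; congr 1; ring
    rw [e4] at h5
    exact mul_eq_left.1 h5
  have h7 := (FiveL.indep A _ _ h6).2
  have h8 : b % 5 = 0 := by omega
  have h9 := s_conj A a b
  have h10 : E.i₂ * E.n * (E.w ^ a * E.u ^ b) * (E.i₂ * E.n)⁻¹ = E.w ^ a * E.u ^ b := by rw [← h2]; group
  rw [h9] at h10
  have h11 : E.w ^ a * E.u ^ b * (E.w ^ (2 * a + b) * E.u ^ (2 * a + b)) =
      E.w ^ (3 * a + 1 * b) * E.u ^ (2 * a + 2 * b) := by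
    rw [A.qmul]; congr 2 <;> ring
  rw [← h11] at h10
  have h12 := (FiveL.indep A _ _ (mul_eq_left.1 h10)).1
  have h13 : a % 5 = 0 := by (clear * - h8 h12; omega)
  rw [A.qmod, h8, h13]; simp

end El

/-- the hypothesis -/
structure In3 (E : El L) (j : L →* G) (V : Subgroup G) (g : G) : Prop where
  inj : Function.Injective j
  V4 : Nat.card V = 4
  sq : ∀ v ∈ V, v * v = 1
  Vj : V ≤ KK j
  cent : ∀ v ∈ V, v ≠ 1 → ∀ g, g * v = v * g → g ∈ MM j
  self : ∀ v ∈ V, v ≠ 1 → ∀ k ∈ KK j, k * v = v * k → k ∈ V
  K12 : Nat.card (KK j) = 12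
  KV : ∀ k ∈ KK j, ∀ v ∈ V, k * v * k⁻¹ ∈ V
  gA : ∀ a ∈ E.As, g * j a = j a * g
  gw : g * j E.w = j E.w * g
  gV : ∃ v ∈ V, g * v * g⁻¹ ∉ V

/-- the subgroup `T = C(j⟨u, w⟩)` -/
def TT (E : El L) (j : L →* G) : Subgroup G := centralizer {j E.u, j E.w}

theorem mem_TT {E : El L} {j : L →* G} {g : G} :
    g ∈ TT E j ↔ g * j E.u = j E.u * g ∧ g * j E.w = j E.w * g := by
  rw [TT, mem_centralizer_iff]
  constructor
  · intro h
    exact ⟨(h _ (by simp)).symm, (h _ (by simp)).symm⟩
  · rintro ⟨h1, h2⟩ x hx
    rcases hx with rfl | rfl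
    · exact h1.symm
    · exact h2.symm

namespace In3

variable {E : El L} (A : Ax E) {j : L →* G} {V : Subgroup G} {g : G} (h : In3 E j V g)
include h

omit h in
theorem Kj : KK j ≤ TT E j := fun _ hk => mem_TT.2 ⟨mem_KK.1 hk _, mem_KK.1 hk _⟩

omit h in
theorem comm_S0 {x : G} (hx : x ∈ TT E j) (a b : ℕ) : x * j (E.w ^ a * E.u ^ b) = j (E.w ^ a * E.u ^ b) * x := by
  obtain ⟨h1, h2⟩ := mem_TT.1 hx
  rw [map_mul, map_pow, map_pow]
  exact ((show Commute x (j E.w) from h2).pow_right a).mul_right ((show Commute x (j E.u) from h1).pow_right b)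

include A in
theorem ht : HT (((S0 A).map j).subgroupOf (TT E j)) (V.subgroupOf (TT E j))
    ⟨g, mem_TT.2 ⟨h.gA _ A.uAs, h.gw⟩⟩ where
  SZ := by
    rintro s ⟨_, ⟨a, b, rfl⟩, hs⟩ x
    apply Subtype.ext
    show (x : G) * s = s * x
    have hs' : j (E.w ^ a * E.u ^ b) = (s : G) := hs
    rw [← hs']
    exact comm_S0 x.2 a b
  s5 := by
    rintro s ⟨_, ⟨a, b, rfl⟩, hs⟩
    apply Subtype.ext
    have hs' : j (E.w ^ a * E.u ^ b) = (s : G) := hs
    show (s : G) ^ 5 = 1
    rw [← hs', ← map_pow, FiveL.q5 A, map_one]
  V4 := by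
    rw [← h.V4]
    exact Nat.card_congr (subgroupOfEquivOfLe (h.Vj.trans Kj)).toEquiv
  sq := fun v hv => Subtype.ext (h.sq v hv)
  cV := by
    intro v hv hv1 x hx
    have hv1' : (v : G) ≠ 1 := fun e => hv1 (Subtype.ext e)
    have hvV : (v : G) ∈ V := hv
    have hx' : (x : G) * v = v * x := congrArg Subtype.val hx
    obtain ⟨α, hα⟩ := exists_aut h.inj (h.cent v hvV hv1' x hx')
    obtain ⟨hxu, hxw⟩ := mem_TT.1 x.2
    obtain ⟨i, c, -, h1⟩ := A.aut_w α (h.inj (by rw [hα, hxw]; group))
    set d := E.w ^ i * c with hd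
    have hdw : d * E.w = E.w * d := by
      have h2 : α E.w = E.w := h.inj (by rw [hα, hxw]; group)
      rw [h1] at h2
      exact mul_inv_eq_iff_eq_mul.1 h2
    have hdu : d * E.u = E.u * d := by
      have h2 : α E.u = E.u := h.inj (by rw [hα, hxu]; group)
      rw [h1] at h2
      exact mul_inv_eq_iff_eq_mul.1 h2
    obtain ⟨a, b, hab⟩ := A.cuw hdw hdu
    have h2 : (x : G) * (j d)⁻¹ ∈ KK j := by
      rw [mem_KK]
      intro y
      have h3 := hα (d⁻¹ * y * d)
      rw [h1, show d * (d⁻¹ * y * d) * d⁻¹ = y by group] at h3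
      calc (x : G) * (j d)⁻¹ * j y
          = x * j (d⁻¹ * y * d) * (x : G)⁻¹ * (x * (j d)⁻¹) := by
            simp only [map_mul, map_inv]; group
        _ = j y * (x * (j d)⁻¹) := by rw [← h3]
    have h4 := mem_KK.1 (h.Vj hvV) d
    have h5 : (x : G) * (j d)⁻¹ ∈ V := by
      apply h.self v hvV hv1' _ h2
      calc (x : G) * (j d)⁻¹ * v = x * ((j d)⁻¹ * (v * j d) * (j d)⁻¹) := by group
        _ = x * v * (j d)⁻¹ := by rw [h4]; group
        _ = v * (x * (j d)⁻¹) := by rw [hx']; group
    have hdT : j d ∈ TT E j := by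
      rw [mem_TT]
      constructor
      · rw [← map_mul, ← map_mul, hdu]
      · rw [← map_mul, ← map_mul, hdw]
    refine ⟨⟨x * (j d)⁻¹, (TT E j).mul_mem x.2 ((TT E j).inv_mem hdT)⟩, h5, ⟨j d, hdT⟩, ?_, ?_⟩
    · exact ⟨d, ⟨a, b, hab⟩, rfl⟩
    · apply Subtype.ext
      show (x : G) = x * (j d)⁻¹ * j d
      group
  mov := by
    obtain ⟨v, hv, hg⟩ := h.gV
    exact ⟨⟨v, (h.Vj.trans Kj) hv⟩, hv, fun h1 => hg h1⟩

variable [Finite G]

include A in
theorem KB : KK j ≤ ⁅TT E j, TT E j⁆ := by
  intro k hk
  have hH := h.ht A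
  have h1 : (⟨k, Kj hk⟩ : TT E j) ∈ _root_.commutator (TT E j) := by
    apply hH.mem_of_pow
    apply Subtype.ext
    have h2 : (⟨k, hk⟩ : KK j) ^ Nat.card (KK j) = 1 := pow_card_eq_one'
    rw [h.K12] at h2
    have h3 : k ^ 12 = 1 := congrArg Subtype.val h2
    exact h3
  rw [← map_subtype_commutator]
  exact ⟨_, h1, rfl⟩

/-- `j (i₂ n)` normalises `T` -/
theorem conj_T {x : G} (A : Ax E) : x ∈ TT E j ↔ j (E.i₂ * E.n) * x * (j (E.i₂ * E.n))⁻¹ ∈ TT E j := by
  set m := E.i₂ * E.n with hm
  have key : ∀ (n c : L) (x : G), (∃ a b : ℕ, n⁻¹ * c * n = E.w ^ a * E.u ^ b) → x ∈ TT E j →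
      j n * x * (j n)⁻¹ * j c = j c * (j n * x * (j n)⁻¹) := by
    rintro n c x ⟨a, b, e⟩ hx
    have h1 := comm_S0 hx a b
    rw [← e] at h1
    calc j n * x * (j n)⁻¹ * j c = j n * (x * j (n⁻¹ * c * n)) * (j n)⁻¹ := by
          simp only [map_mul, map_inv]; group
      _ = j n * (j (n⁻¹ * c * n) * x) * (j n)⁻¹ := by rw [h1]
      _ = j c * (j n * x * (j n)⁻¹) := by simp only [map_mul, map_inv]; group
  constructor
  · intro hx
    rw [mem_TT]
    exact ⟨key m E.u x ⟨1, 2, u_conj' A⟩ hx, key m E.w x ⟨3, 2, w_conj' A⟩ hx⟩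
  · intro hx
    have h1 := key m⁻¹ E.u _ ⟨1, 2, by rw [inv_inv]; exact u_conj A⟩ hx
    have h2 := key m⁻¹ E.w _ ⟨3, 2, by rw [inv_inv]; exact w_conj A⟩ hx
    have e : j m⁻¹ * (j m * x * (j m)⁻¹) * (j m⁻¹)⁻¹ = x := by rw [map_inv]; group
    rw [e] at h1 h2
    exact mem_TT.2 ⟨h1, h2⟩

theorem map_T (A : Ax E) : (TT E j).map (MulAut.conj (j (E.i₂ * E.n))).toMonoidHom = TT E j := by
  ext x
  constructor
  · rintro ⟨y, hy, rfl⟩
    exact (h.conj_T A).1 hy
  · intro hx
    refine ⟨(j (E.i₂ * E.n))⁻¹ * x * j (E.i₂ * E.n), ?_, ?_⟩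
    · apply (h.conj_T A).2
      have : j (E.i₂ * E.n) * ((j (E.i₂ * E.n))⁻¹ * x * j (E.i₂ * E.n)) * (j (E.i₂ * E.n))⁻¹ = x := by group
      rw [this]; exact hx
    · show j (E.i₂ * E.n) * ((j (E.i₂ * E.n))⁻¹ * x * j (E.i₂ * E.n)) * (j (E.i₂ * E.n))⁻¹ = x
      group

theorem conj_B (A : Ax E) {x : G} : x ∈ ⁅TT E j, TT E j⁆ ↔
    j (E.i₂ * E.n) * x * (j (E.i₂ * E.n))⁻¹ ∈ ⁅TT E j, TT E j⁆ := by
  have h1 : (⁅TT E j, TT E j⁆).map (MulAut.conj (j (E.i₂ * E.n))).toMonoidHom = ⁅TT E j, TT E j⁆ := by
    rw [map_commutator, h.map_T A]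
  constructor
  · intro hx
    rw [← h1]
    exact ⟨x, hx, rfl⟩
  · intro hx
    rw [← h1] at hx
    obtain ⟨y, hy, e⟩ := hx
    have e' : j (E.i₂ * E.n) * y * (j (E.i₂ * E.n))⁻¹ = j (E.i₂ * E.n) * x * (j (E.i₂ * E.n))⁻¹ := e
    have : y = x := mul_left_cancel (mul_right_cancel e')
    rw [← this]; exact hy

include A in
theorem equiv : Nonempty (↥(⁅TT E j, TT E j⁆ : Subgroup G) ≃* alternatingGroup (Fin 5)) := by
  obtain ⟨e⟩ := (h.ht A).equiv_comm
  rw [← map_subtype_commutator]
  exact ⟨((commutator (TT E j)).equivMapOfInjective _ (TT E j).subtype_injective).symm.trans e⟩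

include A in
theorem comm_As {b : G} (hb : b ∈ ⁅TT E j, TT E j⁆) {a : L} (ha : a ∈ E.As) : b * j a = j a * b := by
  rw [← map_subtype_commutator] at hb
  obtain ⟨b, hb, rfl⟩ := hb
  have h1 : commutator (TT E j) ≤ (centralizer ((E.As.map j : Subgroup G) : Set G)).subgroupOf (TT E j) := by
    refine (h.ht A).comm_le (K := (KK j).subgroupOf (TT E j)) ?_ ?_ ?_ ?_
    · rw [← h.K12]
      exact Nat.card_congr (subgroupOfEquivOfLe Kj).toEquiv
    · intro k hk v hv
      exact h.KV k hk v hv
    · intro k hk
      rw [mem_subgroupOf, mem_centralizer_iff]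
      rintro _ ⟨a, -, rfl⟩
      exact (mem_KK.1 hk a).symm
    · rw [mem_subgroupOf, mem_centralizer_iff]
      rintro _ ⟨a, ha, rfl⟩
      exact (h.gA a ha).symm
  have h2 := h1 hb
  rw [mem_subgroupOf, mem_centralizer_iff] at h2
  exact (h2 (j a) ⟨a, ha, rfl⟩).symm

theorem exists_ab : ∃ a b : G, a ∈ V ∧ b ∈ V ∧ a ≠ 1 ∧ b ≠ 1 ∧ a ≠ b := by
  classical
  have hV : Finite V := inferInstance
  have hc := h.V4
  obtain ⟨a, ha⟩ : ∃ a : V, a ≠ 1 := by
    by_contra hcon
    push Not at hcon
    have : Subsingleton V := ⟨fun x y => (hcon x).trans (hcon y).symm⟩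
    have := Nat.card_of_subsingleton (1 : V)
    omega
  obtain ⟨b, hb⟩ : ∃ b : V, b ≠ 1 ∧ b ≠ a := by
    by_contra hcon
    push Not at hcon
    have := Fintype.ofFinite V
    have h1 : (Finset.univ : Finset V) ⊆ {1, a} := by
      intro x _
      rw [Finset.mem_insert, Finset.mem_singleton]
      by_cases hx : x = 1
      · exact Or.inl hx
      · exact Or.inr (hcon x hx)
    have h2 := Finset.card_le_card h1
    have h3 : ({1, a} : Finset V).card ≤ 2 := Finset.card_le_two
    rw [Finset.card_univ, ← Nat.card_eq_fintype_card, hc] at h2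
    omega
  exact ⟨a, b, a.2, b.2, fun e => ha (Subtype.ext e), fun e => hb.1 (Subtype.ext e),
    fun e => hb.2 (Subtype.ext e).symm⟩

include A in
/-- `B` centralises `j (i₂ n)` (rigidity of `A₄ ≤ A₅`) -/
theorem comm_m {b : G} (hb : b ∈ ⁅TT E j, TT E j⁆) : b * j (E.i₂ * E.n) = j (E.i₂ * E.n) * b := by
  obtain ⟨eB⟩ := h.equiv A
  set g' := j (E.i₂ * E.n) with hg'
  have hg : ∀ x, x ∈ ⁅TT E j, TT E j⁆ ↔ g' * x * g'⁻¹ ∈ ⁅TT E j, TT E j⁆ := fun x => h.conj_B A
  set B := ⁅TT E j, TT E j⁆ with hB
  set α : MulAut B :=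
    { toFun := fun x => ⟨g' * x * g'⁻¹, (hg x).1 x.2⟩
      invFun := fun x => ⟨g'⁻¹ * x * g', (hg _).2 (by
        rw [show g' * (g'⁻¹ * (x : G) * g') * g'⁻¹ = x by group]; exact x.2)⟩
      left_inv := fun x => Subtype.ext (by
        show g'⁻¹ * (g' * (x : G) * g'⁻¹) * g' = x
        group)
      right_inv := fun x => Subtype.ext (by
        show g' * (g'⁻¹ * (x : G) * g') * g'⁻¹ = x
        group)
      map_mul' := fun x y => Subtype.ext (by
        show g' * ((x : G) * y) * g'⁻¹ = g' * x * g'⁻¹ * (g' * y * g'⁻¹)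
        group) } with hα
  have hαx : ∀ x : B, ((α x : B) : G) = g' * x * g'⁻¹ := fun x => rfl
  obtain ⟨a, b', ha, hb', ha1, hb1, hne⟩ := h.exists_ab
  have hVB : V ≤ B := h.Vj.trans (h.KB A)
  have hfix : ∀ k ∈ KK j, g' * k * g'⁻¹ = k := by
    intro k hk
    rw [hg', ← mem_KK.1 hk]; group
  obtain ⟨v, hv, hvx⟩ := AutA5.conj_of_fix_four eB α (a := ⟨a, hVB ha⟩) (b := ⟨b', hVB hb'⟩)
    (fun e => ha1 (congrArg Subtype.val e)) (fun e => hb1 (congrArg Subtype.val e))
    (Subtype.ext (h.sq a ha)) (Subtype.ext (h.sq b' hb')) (fun e => hne (congrArg Subtype.val e))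
    (Subtype.ext (by
      show a * b' = b' * a
      have h1 := h.sq _ (V.mul_mem ha hb')
      have h2 := h.sq _ ha
      have h3 := h.sq _ hb'
      calc a * b' = (a * b')⁻¹ := eq_inv_of_mul_eq_one_left h1
        _ = b'⁻¹ * a⁻¹ := mul_inv_rev a b'
        _ = b' * a := by rw [inv_eq_of_mul_eq_one_left h2, inv_eq_of_mul_eq_one_left h3]))
    (Subtype.ext (by rw [hαx]; exact hfix a (h.Vj ha)))
    (Subtype.ext (by rw [hαx]; exact hfix b' (h.Vj hb')))
  have hvV : (v : G) ∈ V := by
    rcases hv with e | e | e | e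
    · rw [e]; exact V.one_mem
    · rw [e]; exact ha
    · rw [e]; exact hb'
    · rw [e]; exact V.mul_mem ha hb'
  -- `k ∈ K - V`
  obtain ⟨k, hk, hkV⟩ : ∃ k ∈ KK j, k ∉ V := by
    by_contra hcon
    push Not at hcon
    have h1 : KK j ≤ V := hcon
    have h2 := card_dvd_of_le h1
    rw [h.K12, h.V4] at h2
    omega
  have hv1 : (v : G) = 1 := by
    by_contra hv1
    apply hkV
    apply h.self v hvV hv1 k hk
    have h1 := congrArg Subtype.val (hvx ⟨k, h.KB A hk⟩)
    rw [hαx] at h1
    have h2 : g' * k * g'⁻¹ = v * k * (v : G)⁻¹ := h1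
    rw [hfix k hk] at h2
    calc k * (v : G) = (v * k * (v : G)⁻¹) * v := by rw [← h2]
      _ = v * k := by group
  have h1 := congrArg Subtype.val (hvx ⟨b, hb⟩)
  have hv2 : v = 1 := Subtype.ext hv1
  rw [hαx, hv2] at h1
  have h2 : g' * b * g'⁻¹ = 1 * b * (1 : G)⁻¹ := h1
  have h3 : g' * b * g'⁻¹ = b := by rw [h2]; group
  calc b * g' = (g' * b * g'⁻¹) * g' := by rw [h3]
    _ = g' * b := by group

include A in
/-- **(A3)**: `C(j J) = T' ≅ A₅` for `J = ⟨As, i₂ n⟩` -/
theorem mem_B (x : G) : x ∈ ⁅TT E j, TT E j⁆ ↔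
    ∀ l ∈ E.As ⊔ _root_.Subgroup.closure {E.i₂ * E.n}, x * j l = j l * x := by
  have key : ∀ b ∈ ⁅TT E j, TT E j⁆, ∀ l ∈ E.As ⊔ _root_.Subgroup.closure {E.i₂ * E.n}, b * j l = j l * b := by
    intro b hb
    have h1 : E.As ⊔ closure {E.i₂ * E.n} ≤ (centralizer {b}).comap j := by
      refine sup_le ?_ ?_
      · intro a ha
        exact mem_centralizer_singleton_iff.2 (h.comm_As A hb ha).symm
      · rw [closure_le]
        intro a ha
        rw [Set.mem_singleton_iff] at ha
        rw [ha]
        exact mem_centralizer_singleton_iff.2 (h.comm_m A hb).symm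
    intro l hl
    exact (mem_centralizer_singleton_iff.1 (h1 hl)).symm
  refine ⟨key x, fun hx => ?_⟩
  have hm : E.i₂ * E.n ∈ E.As ⊔ closure {E.i₂ * E.n} := mem_sup_right (_root_.Subgroup.subset_closure rfl)
  have hu : E.u ∈ E.As ⊔ closure {E.i₂ * E.n} := mem_sup_left A.uAs
  have hw : E.w ∈ E.As ⊔ closure {E.i₂ * E.n} := by
    have h1 := u_conj A
    have h2 : E.w = E.i₂ * E.n * E.u * (E.i₂ * E.n)⁻¹ * (E.u ^ 2)⁻¹ := by rw [h1, pow_one]; group
    rw [h2]
    exact mul_mem (mul_mem (mul_mem hm hu) (inv_mem hm)) (inv_mem (pow_mem hu 2))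
  have hxT : x ∈ TT E j := mem_TT.2 ⟨hx _ hu, hx _ hw⟩
  obtain ⟨b, hb, s, hs, e⟩ := (h.ht A).decomp ⟨x, hxT⟩
  have hb' : (b : G) ∈ ⁅TT E j, TT E j⁆ := by
    rw [← map_subtype_commutator]; exact ⟨b, hb, rfl⟩
  obtain ⟨s₀, hs₀, hs₁⟩ := hs
  have hs₁' : j s₀ = (s : G) := hs₁
  have e' : x = b * j s₀ := by rw [hs₁']; exact congrArg Subtype.val e
  have hcomm : ∀ l ∈ E.As ⊔ _root_.Subgroup.closure {E.i₂ * E.n}, s₀ * l = l * s₀ := by
    intro l hl
    apply h.inj
    rw [map_mul, map_mul]
    have h1 := key b hb' l hl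
    have h2 := hx l hl
    have h3 : j s₀ = (b : G)⁻¹ * x := by rw [e']; group
    rw [h3]
    calc (b : G)⁻¹ * x * j l = (b : G)⁻¹ * (x * j l) := by group
      _ = (b : G)⁻¹ * (j l * x) := by rw [h2]
      _ = (b : G)⁻¹ * (j l * b) * (b : G)⁻¹ * x := by group
      _ = (b : G)⁻¹ * (b * j l) * (b : G)⁻¹ * x := by rw [h1]
      _ = j l * ((b : G)⁻¹ * x) := by group
  have h4 := eq_one_of_comm A hs₀ (hcomm _ (mem_sup_left A.i₁As)) (hcomm _ hm)
  rw [e', h4, map_one, mul_one]
  exact hb'

end In3

end Cfsg.Agent.StdG24.EightA3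
end

-- part: StdG24/Hat
section
/-!
# The hat group `N_G(D₀) / D₀`

`D₀` is generated by the normal 2-complements of `C_K(v)`, `v ∈ W#`, where `W` is a four-group, Sylow in
`K = C_G(e L)`.
-/

set_option autoImplicit false

namespace Cfsg.Agent.StdG24.Hat

open Subgroup Cfsg.Agent.StdAlt
open scoped Pointwise

variable {L : Type*} [Group L] {G : Type*} [Group G]

theorem four_cases {H : Type*} [Group H] {S : Subgroup H} (h4 : Nat.card S = 4) (hsq : ∀ s ∈ S, s * s = 1) {a b : H}
    (ha : a ∈ S) (hb : b ∈ S) (a1 : a ≠ 1) (b1 : b ≠ 1) (hab : b ≠ a) {x : H} (hx : x ∈ S) :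
    x = 1 ∨ x = a ∨ x = b ∨ x = a * b := by
  have hfin : Finite S := Nat.finite_of_card_ne_zero (by rw [h4]; norm_num)
  by_contra hcon
  push Not at hcon
  obtain ⟨c1, c2, c3, c4⟩ := hcon
  have hzy := S.mul_mem ha hb
  have n1 : a * b ≠ 1 := by
    intro h1
    apply hab
    rw [mul_eq_one_iff_eq_inv, inv_eq_of_mul_eq_one_left (hsq b hb)] at h1
    exact h1.symm
  have n2 : a * b ≠ a := fun h1 => b1 (by simpa using h1)
  have n3 : a * b ≠ b := fun h1 => a1 (by simpa using h1)
  classical
  have hsub : (({1, a, b, a * b, x} : Finset H) : Set H) ⊆ S := by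
    intro t ht
    simp only [Finset.coe_insert, Finset.coe_singleton, Set.mem_insert_iff, Set.mem_singleton_iff] at ht
    rcases ht with rfl | rfl | rfl | rfl | rfl
    · exact one_mem _
    · exact ha
    · exact hb
    · exact hzy
    · exact hx
  have h2 := Set.ncard_le_ncard hsub (Set.toFinite _)
  have h3 : Set.ncard (S : Set H) = 4 := h4
  rw [h3, Set.ncard_coe_finset, Finset.card_insert_of_notMem, Finset.card_insert_of_notMem,
    Finset.card_insert_of_notMem, Finset.card_insert_of_notMem, Finset.card_singleton] at h2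
  · omega
  · simp only [Finset.mem_singleton]
    exact fun h => c4 h.symm
  · simp only [Finset.mem_insert, Finset.mem_singleton, not_or]
    exact ⟨fun h => n3 h.symm, fun h => c3 h.symm⟩
  · simp only [Finset.mem_insert, Finset.mem_singleton, not_or]
    exact ⟨fun h => hab h.symm, fun h => n2 h.symm, fun h => c2 h.symm⟩
  · simp only [Finset.mem_insert, Finset.mem_singleton, not_or]
    exact ⟨fun h => a1 h.symm, fun h => b1 h.symm, fun h => n1 h.symm, fun h => c1 h.symm⟩

theorem comm_of_sq {H : Type*} [Group H] {S : Subgroup H} (hsq : ∀ s ∈ S, s * s = 1) {x y : H} (hx : x ∈ S)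
    (hy : y ∈ S) : x * y = y * x := by
  have h1 := hsq _ (mul_mem hx hy)
  calc x * y = (x * y)⁻¹ := eq_inv_of_mul_eq_one_left h1
    _ = y⁻¹ * x⁻¹ := mul_inv_rev x y
    _ = y * x := by rw [inv_eq_of_mul_eq_one_left (hsq x hx), inv_eq_of_mul_eq_one_left (hsq y hy)]

/-- normal 2-complement: the Sylow 2-subgroup is a four-group containing a central involution -/
theorem exists_complement {H : Type*} [Group H] [Finite H] {S : Subgroup H} (h4 : Nat.card S = 4)
    (hmax : ∀ P : Subgroup H, IsPGroup 2 P → S ≤ P → P = S) (hsq : ∀ s ∈ S, s * s = 1) {v : H} (hv : v ∈ S)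
    (hv1 : v ≠ 1) (hc : ∀ g : H, g * v = v * g) :
    ∃ O : Subgroup H, (∀ g, ∀ x ∈ O, g * x * g⁻¹ ∈ O) ∧ Odd (Nat.card O) ∧ (∀ y, ∃ o ∈ O, ∃ s ∈ S, y = o * s) ∧
      ∀ y, Odd (orderOf y) → y ∈ O := by
  have : Fact (Nat.Prime 2) := ⟨Nat.prime_two⟩
  obtain ⟨P, hSP⟩ := (Five.isPGroup_four h4).exists_le_sylow
  have hPS : (P : Subgroup H) = S := hmax _ P.isPGroup' hSP
  have hcomm : ∀ x ∈ S, ∀ y ∈ S, x * y = y * x := fun x hx y hy => comm_of_sq hsq hx hy
  -- 2-elements of the normalizer
  have h2 : ∀ x : H, (∀ s ∈ S, x * s * x⁻¹ ∈ S) → (∃ k : ℕ, x ^ 2 ^ k = 1) → x ∈ S := by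
    intro x hx ⟨k, hk⟩
    have hxN : x ∈ normalizer (S : Set H) := mem_normalizer_fintype hx
    have hz : IsPGroup 2 (zpowers x) := by
      rintro ⟨y, hy⟩
      obtain ⟨n, rfl⟩ := mem_zpowers_iff.1 hy
      refine ⟨k, Subtype.ext ?_⟩
      change (x ^ n) ^ 2 ^ k = 1
      rw [← zpow_natCast, ← zpow_mul, mul_comm, zpow_mul, zpow_natCast, hk, one_zpow]
    have h3 : IsPGroup 2 ((S ⊔ zpowers x : Subgroup H)) :=
      IsPGroup.to_sup_of_normal_left' (Five.isPGroup_four h4) hz (by rwa [zpowers_le])
    rw [← hmax _ h3 le_sup_left]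
    exact (le_sup_right : zpowers x ≤ _) (mem_zpowers x)
  have hNT : normalizer ((P : Subgroup H) : Set H) ≤ centralizer ((P : Subgroup H) : Set H) := by
    rw [hPS]
    intro g hg
    rw [mem_centralizer_iff]
    intro s hs
    have hgS : ∀ s ∈ S, g * s * g⁻¹ ∈ S := fun s hs => (mem_normalizer_iff.1 hg s).1 hs
    -- `g²` commutes with `s`
    have hg2 : Commute (g ^ 2) s := by
      by_cases hs1 : s = 1
      · rw [hs1]; exact Commute.one_right _
      by_cases hsv : s = v
      · rw [hsv]; exact Commute.pow_left (hc g) 2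
      have hgv : g * v * g⁻¹ = v := by rw [hc, mul_inv_cancel_right]
      have key : g * s * g⁻¹ = s ∨ g * s * g⁻¹ = v * s := by
        rcases four_cases h4 hsq hv hs hv1 hs1 hsv (hgS s hs) with h | h | h | h
        · exfalso
          apply hs1
          calc s = g⁻¹ * (g * s * g⁻¹) * g := by group
            _ = 1 := by rw [h]; group
        · exfalso
          apply hsv
          calc s = g⁻¹ * (g * s * g⁻¹) * g := by group
            _ = g⁻¹ * (g * v * g⁻¹) * g := by rw [h, hgv]
            _ = v := by group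
        · exact Or.inl h
        · exact Or.inr h
      have h3 : g * (g * s * g⁻¹) * g⁻¹ = s := by
        rcases key with h | h
        · rw [h, h]
        · rw [h]
          calc g * (v * s) * g⁻¹ = (g * v * g⁻¹) * (g * s * g⁻¹) := by group
            _ = v * v * s := by rw [hgv, h, mul_assoc]
            _ = s := by rw [hsq v hv, one_mul]
      change g ^ 2 * s = s * g ^ 2
      rw [pow_two]
      calc g * g * s = g * (g * s * g⁻¹) * g⁻¹ * (g * g) := by group
        _ = s * (g * g) := by rw [h3]
    obtain ⟨k, m, hm, hkm⟩ := Nat.exists_eq_two_pow_mul_odd (n := orderOf g) (orderOf_pos g).ne'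
    have hgm : g ^ m ∈ S := by
      apply h2
      · intro t ht
        exact (mem_normalizer_iff.1 (pow_mem hg m) t).1 ht
      · refine ⟨k, ?_⟩
        rw [← pow_mul, mul_comm m, ← hkm, pow_orderOf_eq_one]
    have hgmc : Commute (g ^ m) s := hcomm _ hgm _ hs
    obtain ⟨t, rfl⟩ := hm
    have h5 : g = g ^ (2 * t + 1) * ((g ^ 2) ^ t)⁻¹ := by
      rw [← pow_mul, pow_succ']; group
    have h6 : Commute g s := by
      rw [h5]
      exact hgmc.mul_left ((hg2.pow_left t).inv_left)
    exact h6.eq.symm
  set O : Subgroup H := (MonoidHom.transferSylow P hNT).ker with hO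
  have hcompl : IsComplement' O (P : Subgroup H) := MonoidHom.ker_transferSylow_isComplement' P hNT
  have hodd : Odd (Nat.card O) := by
    have := MonoidHom.not_dvd_card_ker_transferSylow P hNT
    rw [Nat.odd_iff]
    rw [← hO] at this
    omega
  have hOn : O.Normal := by rw [hO]; infer_instance
  refine ⟨O, fun g x hx => hOn.conj_mem x hx g, hodd, fun y => ?_, fun y hy => ?_⟩
  · obtain ⟨⟨o, s⟩, h1⟩ := hcompl.2 y
    exact ⟨o, o.2, s, by rw [← hPS]; exact s.2, h1.symm⟩
  · rw [hO, MonoidHom.mem_ker]
    obtain ⟨k, hk⟩ := P.isPGroup' (MonoidHom.transferSylow P hNT y)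
    have h1 : orderOf (MonoidHom.transferSylow P hNT y) ∣ orderOf y := orderOf_map_dvd _ y
    have h2 : orderOf (MonoidHom.transferSylow P hNT y) ∣ 2 ^ k := orderOf_dvd_of_pow_eq_one hk
    have h3 : Nat.Coprime (orderOf y) (2 ^ k) := (Nat.coprime_two_right.2 hy).pow_right k
    exact orderOf_eq_one_iff.1 (Nat.eq_one_of_dvd_coprimes h3 h1 h2)

/-- two involutions with product in a subgroup of odd order are conjugate in it -/
theorem conj_of_odd {s t : G} {O : Subgroup G} [Finite G] (hO : Odd (Nat.card O)) (hs : s * s = 1) (ht : t * t = 1)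
    (hts : t * s ∈ O) : ∃ c ∈ O, c * t * c⁻¹ = s := by
  have hsi : s⁻¹ = s := inv_eq_of_mul_eq_one_left hs
  have hti : t⁻¹ = t := inv_eq_of_mul_eq_one_left ht
  obtain ⟨k, hk⟩ := hO
  have h : (t * s) ^ (2 * k + 1) = 1 := by
    have h1 : (⟨t * s, hts⟩ : O) ^ Nat.card O = 1 := pow_card_eq_one'
    rw [hk] at h1
    exact congrArg Subtype.val h1
  have h1 : ∀ n : ℕ, t * (t * s) ^ n = ((t * s) ^ n)⁻¹ * t := by
    intro n
    have h2 : t * (t * s) * t⁻¹ = (t * s)⁻¹ := by
      rw [mul_inv_rev, hsi, hti, ← mul_assoc, ht, one_mul]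
    calc t * (t * s) ^ n = (t * (t * s) * t⁻¹) ^ n * t := by rw [conj_pow]; group
      _ = ((t * s) ^ n)⁻¹ * t := by rw [h2, inv_pow]
  refine ⟨(t * s) ^ k, pow_mem hts k, ?_⟩
  have h3 : (t * s) ^ k * t * ((t * s) ^ k)⁻¹ = (t * s) ^ k * (t * s) ^ k * t := by
    have h4 := h1 k
    have h5 : t * ((t * s) ^ k)⁻¹ = (t * s) ^ k * t := by
      calc t * ((t * s) ^ k)⁻¹ = (t * s) ^ k * (((t * s) ^ k)⁻¹ * t) * ((t * s) ^ k)⁻¹ := by group
        _ = (t * s) ^ k * (t * (t * s) ^ k) * ((t * s) ^ k)⁻¹ := by rw [h4]
        _ = (t * s) ^ k * t := by group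
    rw [mul_assoc, h5, mul_assoc]
  rw [h3, ← pow_add]
  have h6 : (t * s) ^ (k + k) = (t * s)⁻¹ := by
    rw [eq_inv_iff_mul_eq_one, ← pow_succ, ← two_mul]
    exact h
  rw [h6, mul_inv_rev, hsi, hti, mul_assoc, ht, mul_one]

theorem odd_of_no_inv [Finite G] {O : Subgroup G} (h : ∀ t ∈ O, t * t = 1 → t = 1) : Odd (Nat.card O) := by
  rw [← Nat.not_even_iff_odd]
  intro he
  have : Fact (Nat.Prime 2) := ⟨Nat.prime_two⟩
  obtain ⟨t, ht⟩ := exists_prime_orderOf_dvd_card' (G := O) 2 (even_iff_two_dvd.1 he)
  have h1 : t ^ 2 = 1 := by rw [← ht]; exact pow_orderOf_eq_one t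
  have h2 : t = 1 := Subtype.ext (h t t.2 (by rw [← pow_two]; exact congrArg Subtype.val h1))
  rw [h2, orderOf_one] at ht
  omega

/-- the hypotheses on `W`, `b` -/
structure HIn (D : Data L) (Z : Subgroup L) (e : L →* G) (W : Subgroup G) (b : G) : Prop where
  WK : W ≤ KK e
  sq : ∀ v ∈ W, v * v = 1
  W4 : Nat.card W = 4
  max : ∀ P : Subgroup G, P ≤ KK e → IsPGroup 2 P → W ≤ P → P = W
  bu : b * e D.u = e D.u * b
  bW : ∀ v ∈ W, ∃ v' ∈ W, ∃ x ∈ Z, b * v * b⁻¹ = v' * e x
  bZ : ∀ x ∈ Z, ∃ x' ∈ Z, b * e x * b⁻¹ = e x'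
  bn : ∃ v ∈ W, b * v * b⁻¹ ∉ W

/-- the elements of odd order of `C_K(v)` -/
def NV (e : L →* G) (v : G) : Set G := {y | y ∈ KK e ∧ y * v = v * y ∧ Odd (orderOf y)}

namespace HIn

variable {D : Data L} {Z : Subgroup L} {e : L →* G} {W : Subgroup G} {b : G}

theorem exists_O [Finite G] (H : HIn D Z e W b) {v : G} (hv : v ∈ W) (hv1 : v ≠ 1) :
    ∃ O : Subgroup G, (∀ y, y ∈ O ↔ y ∈ NV e v) ∧
      (∀ g ∈ KK e, g * v = v * g → ∀ x ∈ O, g * x * g⁻¹ ∈ O) ∧
      (∀ y ∈ KK e, y * v = v * y → ∃ o ∈ O, ∃ s ∈ W, y = o * s) := by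
  set C : Subgroup G := KK e ⊓ centralizer {v} with hC
  have memC : ∀ y, y ∈ C ↔ y ∈ KK e ∧ y * v = v * y := fun y => by
    rw [hC, mem_inf, mem_centralizer_singleton_iff]
  have hWC : W ≤ C := fun s hs => (memC s).2 ⟨H.WK hs, comm_of_sq H.sq hs hv⟩
  obtain ⟨O, hOn, hodd, hdec, hall⟩ := exists_complement (S := W.subgroupOf C)
    (by rw [Nat.card_congr (subgroupOfEquivOfLe hWC).toEquiv, H.W4])
    (by
      intro P hP hle
      have h1 : P.map C.subtype = W := by
        apply H.max _ _ (hP.map _)
        · intro s hs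
          exact ⟨⟨s, hWC hs⟩, hle hs, rfl⟩
        · rintro _ ⟨p, -, rfl⟩
          exact ((memC _).1 p.2).1
      rw [← h1]
      ext x
      rw [mem_subgroupOf]
      constructor
      · intro hx
        exact ⟨x, hx, rfl⟩
      · rintro ⟨p, hp, hpx⟩
        have : p = x := Subtype.ext hpx
        rw [← this]
        exact hp)
    (fun s hs => Subtype.ext (H.sq _ hs)) (v := ⟨v, hWC hv⟩) hv (fun h => hv1 (congrArg Subtype.val h))
    (fun g => Subtype.ext ((memC _).1 g.2).2)
  have hodd' : ∀ y ∈ O, Odd (orderOf (y : G)) := by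
    intro y hy
    have h1 : orderOf (⟨y, hy⟩ : O) ∣ Nat.card O := _root_.orderOf_dvd_natCard _
    rw [orderOf_mk] at h1
    rw [← orderOf_coe] at h1
    exact Odd.of_dvd_nat hodd h1
  refine ⟨O.map C.subtype, fun y => ?_, ?_, ?_⟩
  · constructor
    · rintro ⟨y, hy, rfl⟩
      exact ⟨((memC _).1 y.2).1, ((memC _).1 y.2).2, hodd' y hy⟩
    · rintro ⟨h1, h2, h3⟩
      refine ⟨⟨y, (memC _).2 ⟨h1, h2⟩⟩, hall _ ?_, rfl⟩
      rw [← orderOf_coe]
      exact h3
  · rintro g hg hgv _ ⟨x, hx, rfl⟩
    exact ⟨⟨g, (memC _).2 ⟨hg, hgv⟩⟩ * x * (⟨g, (memC _).2 ⟨hg, hgv⟩⟩ : C)⁻¹, hOn _ _ hx, rfl⟩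
  · intro y hy hyv
    obtain ⟨o, ho, s, hs, h1⟩ := hdec ⟨y, (memC _).2 ⟨hy, hyv⟩⟩
    exact ⟨o, ⟨o, ho, rfl⟩, s, hs, congrArg Subtype.val h1⟩

theorem NV_mul [Finite G] (H : HIn D Z e W b) {v : G} (hv : v ∈ W) (hv1 : v ≠ 1) {x y : G} (hx : x ∈ NV e v)
    (hy : y ∈ NV e v) : x * y ∈ NV e v := by
  obtain ⟨O, hO, -⟩ := H.exists_O hv hv1
  rw [← hO] at hx hy ⊢
  exact mul_mem hx hy

theorem NV_inv {v x : G} (hx : x ∈ NV e v) : x⁻¹ ∈ NV e v := by
  obtain ⟨h1, h2, h3⟩ := hx
  exact ⟨inv_mem h1, inv_comm h2, by rw [orderOf_inv]; exact h3⟩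

theorem NV_conj {v m x : G} (hm : m ∈ MM e) (hmv : m * v = v * m) (hx : x ∈ NV e v) :
    m * x * m⁻¹ ∈ NV e v := by
  obtain ⟨h1, h2, h3⟩ := hx
  refine ⟨Emb.conj_KK hm h1, ?_, ?_⟩
  · have h4 := inv_comm hmv
    calc m * x * m⁻¹ * v = m * x * (m⁻¹ * v) := by group
      _ = m * (x * v) * m⁻¹ := by rw [h4]; group
      _ = m * v * x * m⁻¹ := by rw [h2]; group
      _ = v * (m * x * m⁻¹) := by rw [hmv]; group
  · have : orderOf (m * x * m⁻¹) = orderOf x := MulEquiv.orderOf_eq (MulAut.conj m) x
    rw [this]
    exact h3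

/-- `b` permutes `e Z` -/
theorem bZ' (h : Emb e) (H : HIn D Z e W b) (hZ4 : Nat.card Z = 4) {x : L} (hx : x ∈ Z) :
    ∃ x' ∈ Z, b * e x' * b⁻¹ = e x := by
  have : Finite Z := Nat.finite_of_card_ne_zero (by rw [hZ4]; norm_num)
  choose! f hf hfx using H.bZ
  let φ : Z → Z := fun x => ⟨f x, hf x x.2⟩
  have hφ : Function.Injective φ := by
    intro x y hxy
    have h1 : f x = f y := congrArg Subtype.val hxy
    have h2 : b * e x * b⁻¹ = b * e y * b⁻¹ := by rw [hfx x x.2, hfx y y.2, h1]
    exact Subtype.ext (h.inj (mul_left_cancel (mul_right_cancel h2)))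
  obtain ⟨y, hy⟩ := (Finite.injective_iff_surjective.1 hφ) ⟨x, hx⟩
  have h1 : f y = x := congrArg Subtype.val hy
  exact ⟨y, y.2, by rw [hfx y y.2, h1]⟩

/-- the image of `v` under `b` modulo `Z` is not trivial -/
theorem bW' (h : Emb e) (H : HIn D Z e W b) (hZ4 : Nat.card Z = 4) {v : G} (hv : v ∈ W) (hv1 : v ≠ 1) :
    ∃ v' ∈ W, v' ≠ 1 ∧ ∃ x ∈ Z, b * v * b⁻¹ = v' * e x := by
  obtain ⟨v', hv', x, hx, h1⟩ := H.bW v hv
  refine ⟨v', hv', ?_, x, hx, h1⟩
  rintro rfl
  obtain ⟨x', hx', h2⟩ := H.bZ' h hZ4 hx
  rw [one_mul, ← h2] at h1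
  have h3 : v = e x' := mul_left_cancel (mul_right_cancel h1)
  apply hv1
  rw [h3, h.disj x' (by rw [← h3]; exact H.WK hv), map_one]

/-- `b` maps `NV v` to elements `k * e (u ^ i)` -/
theorem conj_form [Finite G] (F : Facts D) (eAl : Nonempty (D.Al ≃* alternatingGroup (Fin 5))) (hZ : Z ≤ D.Al)
    (hz : D.z ∈ Z) (h : Emb e) (H : HIn D Z e W b) (hZ4 : Nat.card Z = 4) {v y : G} (hv : v ∈ W) (hv1 : v ≠ 1)
    (hy : y ∈ NV e v) : ∃ k ∈ KK e, ∃ i : ℕ, b * y * b⁻¹ = k * e (D.u ^ i) := by
  obtain ⟨hyK, hyv, hodd⟩ := hy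
  obtain ⟨v', hv', hv'1, x, hx, hbv⟩ := H.bW' h hZ4 hv hv1
  set d := b * y * b⁻¹ with hd
  -- `d` commutes with `u`
  have hdu : d * e D.u = e D.u * d := by
    have h1 := mem_KK.1 hyK D.u
    have h2 := inv_comm H.bu
    calc d * e D.u = b * y * (b⁻¹ * e D.u) := by rw [hd]; group
      _ = b * (y * e D.u) * b⁻¹ := by rw [h2]; group
      _ = b * e D.u * y * b⁻¹ := by rw [h1]; group
      _ = e D.u * d := by rw [H.bu, hd]; group
  -- `d` commutes with `Z`
  have hdZ : ∀ t ∈ Z, d * e t = e t * d := by
    intro t ht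
    obtain ⟨t', ht', h1⟩ := H.bZ' h hZ4 ht
    rw [← h1, hd]
    have h2 := mem_KK.1 hyK t'
    calc b * y * b⁻¹ * (b * e t' * b⁻¹) = b * (y * e t') * b⁻¹ := by group
      _ = b * e t' * b⁻¹ * (b * y * b⁻¹) := by rw [h2]; group
  have hdv : d * v' = v' * d := by
    have h1 : d * (b * v * b⁻¹) = b * v * b⁻¹ * d := by
      rw [hd]
      calc b * y * b⁻¹ * (b * v * b⁻¹) = b * (y * v) * b⁻¹ := by group
        _ = b * v * b⁻¹ * (b * y * b⁻¹) := by rw [hyv]; group
    rw [hbv] at h1
    have h2 := hdZ x hx
    calc d * v' = d * (v' * e x) * (e x)⁻¹ := by group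
      _ = v' * (e x * d) * (e x)⁻¹ := by rw [h1]; group
      _ = v' * d := by rw [← h2]; group
  have hdM : d ∈ MM e := h.nrm (H.WK hv') hv'1 (H.sq v' hv') hdv
  have Fu : FD D.u D.Al := fd_u F eAl
  obtain ⟨k, hk, i, c, hc, hdk⟩ := Fu.exists_of_comm h hdM hdu
  obtain ⟨φ⟩ := eAl
  -- `c` commutes with `z`
  have hcz : c * D.z = D.z * c := by
    apply h.inj
    rw [map_mul, map_mul]
    have h1 := hdZ D.z hz
    rw [hdk] at h1
    have h2 := mem_KK.1 hk D.z
    have h3 : e (D.u ^ i) * e D.z = e D.z * e (D.u ^ i) := by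
      rw [← map_mul, ← map_mul, F.comm _ (pow_mem F.uAs i) _ F.zAl]
    rw [map_mul] at h1
    have h4 : k * e (D.u ^ i) * (e c * e D.z) = k * e (D.u ^ i) * (e D.z * e c) := by
      calc k * e (D.u ^ i) * (e c * e D.z) = k * (e (D.u ^ i) * e c) * e D.z := by group
        _ = e D.z * (k * (e (D.u ^ i) * e c)) := h1
        _ = (e D.z * k) * e (D.u ^ i) * e c := by group
        _ = k * (e D.z * e (D.u ^ i)) * e c := by rw [← h2]; group
        _ = k * e (D.u ^ i) * (e D.z * e c) := by rw [← h3]; group
    exact mul_left_cancel h4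
  have hcc : c * c = 1 := StdG24.F.A5.sq_of_comm φ F.zAl F.z1 F.z2 hc hcz
  -- odd order
  obtain ⟨m, hm⟩ := hodd
  have hdm : d ^ (2 * m + 1) = 1 := by
    rw [hd, conj_pow, ← hm, pow_orderOf_eq_one]; group
  have hcm : D.u ^ (i * (2 * m + 1)) * c = 1 := by
    apply h.disj
    have h1 : Commute k (e (D.u ^ i * c)) := mem_KK.1 hk _
    rw [hdk, h1.mul_pow, ← map_pow] at hdm
    have h2 : Commute (D.u ^ i) c := F.comm _ (pow_mem F.uAs i) _ hc
    rw [h2.mul_pow, ← pow_mul] at hdm
    have h3 : c ^ (2 * m + 1) = c := by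
      rw [pow_succ, pow_mul, pow_two, hcc, one_pow, one_mul]
    rw [h3] at hdm
    rw [← inv_eq_of_mul_eq_one_right hdm]
    exact inv_mem (pow_mem hk _)
  have hc1 : c = 1 := by
    refine F.centAl c hc fun c' hc' => ?_
    have h1 : c = (D.u ^ (i * (2 * m + 1)))⁻¹ := (inv_eq_of_mul_eq_one_right hcm).symm
    rw [h1]
    exact F.comm _ (inv_mem (pow_mem F.uAs _)) _ hc'
  exact ⟨k, hk, i, by rw [hdk, hc1, mul_one]⟩

/-- **`b` maps `NV v` into `NV v'`** -/
theorem conj_NV [Finite G] (F : Facts D) (eAs : Nonempty (D.As ≃* alternatingGroup (Fin 5)))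
    (eAl : Nonempty (D.Al ≃* alternatingGroup (Fin 5))) (hZ : Z ≤ D.Al)
    (hz : D.z ∈ Z) (h : Emb e) (H : HIn D Z e W b) (hZ4 : Nat.card Z = 4) {v y : G} (hv : v ∈ W) (hv1 : v ≠ 1)
    (hy : y ∈ NV e v) : ∃ v' ∈ W, v' ≠ 1 ∧ b * y * b⁻¹ ∈ NV e v' := by
  obtain ⟨v', hv', hv'1, x, hx, hbv⟩ := H.bW' h hZ4 hv hv1
  refine ⟨v', hv', hv'1, ?_⟩
  obtain ⟨k, hk, i, hki⟩ := H.conj_form F eAl hZ hz h hZ4 hv hv1 hy
  -- `u ^ i = 1`
  have hui : D.u ^ i = 1 := by
    have key : ∀ a ∈ D.As, a * D.u ^ i * a⁻¹ ∈ zpowers D.u := by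
      intro a ha
      set m := b⁻¹ * e a * b with hm
      have hmv : m * v = v * m := by
        have h1 : e a * (b * v * b⁻¹) = b * v * b⁻¹ * e a := by
          rw [hbv]
          have h2 := mem_KK.1 (H.WK hv') a
          have h3 : e a * e x = e x * e a := by rw [← map_mul, ← map_mul, F.comm a ha x (hZ hx)]
          calc e a * (v' * e x) = e a * v' * e x := by group
            _ = v' * (e a * e x) := by rw [← h2]; group
            _ = v' * e x * e a := by rw [h3]; group
        rw [hm]
        calc b⁻¹ * e a * b * v = b⁻¹ * (e a * (b * v * b⁻¹)) * b := by group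
          _ = v * (b⁻¹ * e a * b) := by rw [h1]; group
      have hmM : m ∈ MM e := h.nrm (H.WK hv) hv1 (H.sq v hv) hmv
      have hy' : m * y * m⁻¹ * y⁻¹ ∈ NV e v := H.NV_mul hv hv1 (NV_conj hmM hmv hy) (NV_inv hy)
      obtain ⟨k', hk', i', hk'i⟩ := H.conj_form F eAl hZ hz h hZ4 hv hv1 hy'
      have h1 : b * (m * y * m⁻¹ * y⁻¹) * b⁻¹ = e a * (b * y * b⁻¹) * (e a)⁻¹ * (b * y * b⁻¹)⁻¹ := by
        rw [hm]; group
      rw [h1, hki] at hk'i
      have h2 : e (a * D.u ^ i * a⁻¹ * (D.u ^ i)⁻¹ * (D.u ^ i')⁻¹) = k' := by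
        have h3 := mem_KK.1 hk a
        have h4 := mem_KK.1 hk (a * D.u ^ i * a⁻¹ * (D.u ^ i)⁻¹)
        have h5 : e a * (k * e (D.u ^ i)) * (e a)⁻¹ * (k * e (D.u ^ i))⁻¹ = e (a * D.u ^ i * a⁻¹ * (D.u ^ i)⁻¹) := by
          calc e a * (k * e (D.u ^ i)) * (e a)⁻¹ * (k * e (D.u ^ i))⁻¹ =
              (e a * k) * e (D.u ^ i) * (e a)⁻¹ * (e (D.u ^ i))⁻¹ * k⁻¹ := by group
            _ = k * e (a * D.u ^ i * a⁻¹ * (D.u ^ i)⁻¹) * k⁻¹ := by
              rw [← h3]; simp only [map_mul, map_inv]; group
            _ = _ := by rw [h4]; group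
        rw [h5] at hk'i
        rw [map_mul, hk'i, map_inv]; group
      have h3 := h.disj _ (by rw [h2]; exact hk')
      have h4 : a * D.u ^ i * a⁻¹ = D.u ^ i' * D.u ^ i := by
        calc a * D.u ^ i * a⁻¹ = (a * D.u ^ i * a⁻¹ * (D.u ^ i)⁻¹ * (D.u ^ i')⁻¹) * (D.u ^ i' * D.u ^ i) := by group
          _ = D.u ^ i' * D.u ^ i := by rw [h3, one_mul]
      rw [h4]
      exact mul_mem (pow_mem (mem_zpowers _) _) (pow_mem (mem_zpowers _) _)
    have hs : IsSimpleGroup D.As := by
      obtain ⟨φ⟩ := eAs
      have : IsSimpleGroup (alternatingGroup (Fin 5)) := alternatingGroup.isSimpleGroup (by simp)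
      exact φ.isSimpleGroup
    have hle : normalClosure {(⟨D.u ^ i, pow_mem F.uAs i⟩ : D.As)} ≤ (zpowers D.u).subgroupOf D.As := by
      rw [normalClosure, closure_le]
      intro y hy
      rw [Group.mem_conjugatesOfSet_iff] at hy
      obtain ⟨a, ha, hay⟩ := hy
      rw [Set.mem_singleton_iff] at ha
      obtain ⟨t, ht⟩ := isConj_iff.1 hay
      have h1 : (y : L) = t * D.u ^ i * (t : L)⁻¹ := by
        rw [← ht, ha]; rfl
      change (y : L) ∈ zpowers D.u
      rw [h1]
      exact key t t.2
    rcases (normalClosure_normal (s := {(⟨D.u ^ i, pow_mem F.uAs i⟩ : D.As)})).eq_bot_or_eq_top with h1 | h1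
    · have h2 : (⟨D.u ^ i, pow_mem F.uAs i⟩ : D.As) ∈ normalClosure {(⟨D.u ^ i, pow_mem F.uAs i⟩ : D.As)} :=
        subset_normalClosure rfl
      rw [h1, mem_bot] at h2
      exact congrArg Subtype.val h2
    · exfalso
      rw [h1] at hle
      apply F.u1
      refine F.centAs _ F.uAs fun c hc => ?_
      have h2 : (⟨c, hc⟩ : D.As) ∈ (zpowers D.u).subgroupOf D.As := hle (mem_top _)
      obtain ⟨n, hn⟩ := mem_zpowers_iff.1 (mem_subgroupOf.1 h2)
      have hn' : D.u ^ n = c := hn
      rw [← hn']
      exact (Commute.refl D.u).zpow_right n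
  rw [hui, map_one, mul_one] at hki
  obtain ⟨hyK, hyv, hodd⟩ := hy
  refine ⟨by rw [hki]; exact hk, ?_, ?_⟩
  · have h1 : b * y * b⁻¹ * (b * v * b⁻¹) = b * v * b⁻¹ * (b * y * b⁻¹) := by
      calc b * y * b⁻¹ * (b * v * b⁻¹) = b * (y * v) * b⁻¹ := by group
        _ = b * v * b⁻¹ * (b * y * b⁻¹) := by rw [hyv]; group
    rw [hbv, hki] at h1
    rw [hki]
    have h2 := mem_KK.1 hk x
    calc k * v' = k * (v' * e x) * (e x)⁻¹ := by group
      _ = v' * (e x * k) * (e x)⁻¹ := by rw [h1]; group
      _ = v' * k := by rw [← h2]; group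
  · have : orderOf (b * y * b⁻¹) = orderOf y := MulEquiv.orderOf_eq (MulAut.conj b) y
    rw [this]
    exact hodd

end HIn

/-- `D₀` -/
def D₀ (e : L →* G) (W : Subgroup G) : Subgroup G := _root_.Subgroup.closure {y | ∃ v ∈ W, v ≠ 1 ∧ y ∈ NV e v}

namespace HIn

variable {D : Data L} {Z : Subgroup L} {e : L →* G} {W : Subgroup G} {b : G}

theorem D₀_le : D₀ e W ≤ KK e := by
  rw [D₀, closure_le]
  rintro y ⟨v, -, -, hy⟩
  exact hy.1

theorem mem_D₀ {v y : G} (hv : v ∈ W) (hv1 : v ≠ 1) (hy : y ∈ NV e v) : y ∈ D₀ e W :=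
  subset_closure ⟨v, hv, hv1, hy⟩

theorem conj_D₀ {g : G} (hg : ∀ v ∈ W, v ≠ 1 → ∀ y ∈ NV e v, g * y * g⁻¹ ∈ D₀ e W) :
    ∀ y ∈ D₀ e W, g * y * g⁻¹ ∈ D₀ e W := by
  have h1 : D₀ e W ≤ (D₀ e W).comap (MulAut.conj g).toMonoidHom := by
    conv_lhs => rw [D₀]
    rw [closure_le]
    rintro y ⟨v, hv, hv1, hy⟩
    exact hg v hv hv1 y hy
  exact fun y hy => h1 hy

theorem b_mem [Finite G] (F : Facts D) (eAs : Nonempty (D.As ≃* alternatingGroup (Fin 5)))
    (eAl : Nonempty (D.Al ≃* alternatingGroup (Fin 5))) (hZ : Z ≤ D.Al)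
    (hz : D.z ∈ Z) (h : Emb e) (H : HIn D Z e W b) (hZ4 : Nat.card Z = 4) : b ∈ normalizer (D₀ e W : Set G) := by
  refine mem_normalizer_fintype (conj_D₀ fun v hv hv1 y hy => ?_)
  obtain ⟨v', hv', hv'1, h1⟩ := H.conj_NV F eAs eAl hZ hz h hZ4 hv hv1 hy
  exact mem_D₀ hv' hv'1 h1

theorem D₀_odd [Finite G] (F : Facts D) (eAs : Nonempty (D.As ≃* alternatingGroup (Fin 5)))
    (eAl : Nonempty (D.Al ≃* alternatingGroup (Fin 5))) (hZ : Z ≤ D.Al)
    (hz : D.z ∈ Z) (h : Emb e) (H : HIn D Z e W b) (hZ4 : Nat.card Z = 4) : Odd (Nat.card (D₀ e W)) := by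
  refine odd_of_no_inv fun t ht htt => ?_
  by_contra ht1
  have h1 : b * t * b⁻¹ ∈ D₀ e W := (mem_normalizer_iff.1 (H.b_mem F eAs eAl hZ hz h hZ4) t).1 ht
  have hbM : b ∈ MM e := h.key t b (D₀_le ht) ht1 htt (D₀_le h1)
  obtain ⟨v, hv, hvn⟩ := H.bn
  apply hvn
  obtain ⟨v', hv', x, hx, h2⟩ := H.bW v hv
  have h3 : e x ∈ KK e := by
    have h4 := Emb.conj_KK hbM (H.WK hv)
    rw [h2] at h4
    have h5 := mul_mem (inv_mem (H.WK hv')) h4
    rwa [inv_mul_cancel_left] at h5
  rw [h2, h.disj x h3, map_one, mul_one]
  exact hv'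

/-- elements of `M` normalising `W` normalise `D₀` -/
theorem mem_N_of_norm [Finite G] {g : G} (hg : g ∈ MM e) (hgW : ∀ v ∈ W, g * v * g⁻¹ ∈ W) :
    g ∈ normalizer (D₀ e W : Set G) := by
  refine mem_normalizer_fintype (conj_D₀ fun v hv hv1 y hy => ?_)
  obtain ⟨h1, h2, h3⟩ := hy
  refine mem_D₀ (hgW v hv) ?_ ⟨Emb.conj_KK hg h1, ?_, ?_⟩
  · intro h4
    apply hv1
    calc v = g⁻¹ * (g * v * g⁻¹) * g := by group
      _ = 1 := by rw [h4]; group
  · calc g * y * g⁻¹ * (g * v * g⁻¹) = g * (y * v) * g⁻¹ := by group
      _ = g * v * g⁻¹ * (g * y * g⁻¹) := by rw [h2]; group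
  · have : orderOf (g * y * g⁻¹) = orderOf y := MulEquiv.orderOf_eq (MulAut.conj g) y
    rw [this]
    exact h3

/-- **`C_G(v) ≤ N_G(D₀)`** -/
theorem cent_le [Finite G] (h : Emb e) (H : HIn D Z e W b) {v : G} (hv : v ∈ W) (hv1 : v ≠ 1) {g : G}
    (hg : g * v = v * g) : g ∈ normalizer (D₀ e W : Set G) := by
  have : Fact (Nat.Prime 2) := ⟨Nat.prime_two⟩
  have hgM : g ∈ MM e := h.nrm (H.WK hv) hv1 (H.sq v hv) hg
  obtain ⟨O, hO, -, hdec⟩ := H.exists_O hv hv1
  -- Sylow in `C_K(v)`
  set C : Subgroup G := KK e ⊓ centralizer {v} with hC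
  have memC : ∀ y, y ∈ C ↔ y ∈ KK e ∧ y * v = v * y := fun y => by
    rw [hC, mem_inf, mem_centralizer_singleton_iff]
  have hWC : W ≤ C := fun s hs => (memC s).2 ⟨H.WK hs, comm_of_sq H.sq hs hv⟩
  have hWp : IsPGroup 2 W := Five.isPGroup_four H.W4
  have hgW : W.map (MulAut.conj g).toMonoidHom ≤ C := by
    rintro _ ⟨s, hs, rfl⟩
    refine (memC _).2 ⟨Emb.conj_KK hgM (H.WK hs), ?_⟩
    change g * s * g⁻¹ * v = v * (g * s * g⁻¹)
    have h1 := inv_comm hg
    have h2 := comm_of_sq H.sq hs hv
    calc g * s * g⁻¹ * v = g * s * (g⁻¹ * v) := by group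
      _ = g * (s * v) * g⁻¹ := by rw [h1]; group
      _ = g * v * s * g⁻¹ := by rw [h2]; group
      _ = v * (g * s * g⁻¹) := by rw [hg]; group
  obtain ⟨P₁, hP₁⟩ := (hWp.comap_subtype (K := C)).exists_le_sylow
  obtain ⟨P₂, hP₂⟩ := ((hWp.map (MulAut.conj g).toMonoidHom).comap_subtype (K := C)).exists_le_sylow
  have hP₁W : ∀ x : C, x ∈ P₁ → (x : G) ∈ W := by
    intro x hx
    have h1 : (P₁ : Subgroup C).map C.subtype = W := by
      apply H.max _ _ (P₁.isPGroup'.map _)
      · intro s hs
        exact ⟨⟨s, hWC hs⟩, hP₁ hs, rfl⟩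
      · rintro _ ⟨p, -, rfl⟩
        exact ((memC _).1 p.2).1
    rw [← h1]
    exact ⟨x, hx, rfl⟩
  obtain ⟨c, hc⟩ := MulAction.exists_smul_eq C P₂ P₁
  have hcW : ∀ s ∈ W, (c : G) * (g * s * g⁻¹) * (c : G)⁻¹ ∈ W := by
    intro s hs
    have h1 : (⟨g * s * g⁻¹, hgW ⟨s, hs, rfl⟩⟩ : C) ∈ (P₂ : Subgroup C) := hP₂ ⟨s, hs, rfl⟩
    have h2 : c * (⟨g * s * g⁻¹, hgW ⟨s, hs, rfl⟩⟩ : C) * c⁻¹ ∈ P₁ := by
      rw [← hc]
      exact ⟨_, h1, rfl⟩
    exact hP₁W _ h2
  -- `c⁻¹ = o s`
  obtain ⟨o, ho, s, hs, hos⟩ := hdec _ (inv_mem ((memC _).1 c.2).1) (inv_comm ((memC _).1 c.2).2)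
  have hc' : (c : G) = s⁻¹ * o⁻¹ := by rw [← mul_inv_rev, ← hos, inv_inv]
  have hoD : o ∈ D₀ e W := mem_D₀ hv hv1 ((hO o).1 ho)
  have h3 : o⁻¹ * g ∈ normalizer (D₀ e W : Set G) := by
    refine mem_N_of_norm (mul_mem (inv_mem (KK_le_MM e (D₀_le hoD))) hgM) fun t ht => ?_
    have h4 := hcW t ht
    rw [hc'] at h4
    have h5 := mul_mem (mul_mem hs h4) (inv_mem hs)
    rwa [show s * (s⁻¹ * o⁻¹ * (g * t * g⁻¹) * (s⁻¹ * o⁻¹)⁻¹) * s⁻¹ = o⁻¹ * g * t * (o⁻¹ * g)⁻¹ by group] at h5
  have h6 : g = o * (o⁻¹ * g) := by group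
  rw [h6]
  exact mul_mem (le_normalizer hoD) h3

end HIn

/-- **HAT** -/
theorem exists_hat [Finite G] {D : Data L} {Z : Subgroup L} {e : L →* G} {W : Subgroup G} {b : G} (F : Facts D)
    (eAs : Nonempty (D.As ≃* alternatingGroup (Fin 5))) (eAl : Nonempty (D.Al ≃* alternatingGroup (Fin 5)))
    (hZ : Z ≤ D.Al) (hZ4 : Nat.card Z = 4) (hz : D.z ∈ Z) (h : Emb e) (H : HIn D Z e W b) :
    ∃ D₀ : Subgroup G, Odd (Nat.card D₀) ∧ (∀ x, ∀ d ∈ D₀, d * e x = e x * d) ∧
      ∃ (V : Subgroup (↥(normalizer (D₀ : Set G)) ⧸ D₀.subgroupOf (normalizer (D₀ : Set G))))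
        (b' : ↥(normalizer (D₀ : Set G)) ⧸ D₀.subgroupOf (normalizer (D₀ : Set G)))
        (j : L →* ↥(normalizer (D₀ : Set G)) ⧸ D₀.subgroupOf (normalizer (D₀ : Set G))),
        EightA.In D Z j V b' ∧
        (∀ x (hx : e x ∈ normalizer (D₀ : Set G)), QuotientGroup.mk' _ ⟨e x, hx⟩ = j x) ∧
        ∀ v ∈ V, v ≠ 1 → ∃ (w : G) (hw : w ∈ normalizer (D₀ : Set G)), w * w = 1 ∧
          QuotientGroup.mk' _ ⟨w, hw⟩ = v ∧ (∀ g, g * w = w * g → g ∈ normalizer (D₀ : Set G)) ∧
          ∀ x, w * e x = e x * w := by
  have hodd := H.D₀_odd F eAs eAl hZ hz h hZ4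
  have hbN := H.b_mem F eAs eAl hZ hz h hZ4
  have hcl := fun {v : G} (hv : v ∈ W) (hv1 : v ≠ 1) {g : G} (hg : g * v = v * g) => HIn.cent_le h H hv hv1 hg
  have hDK : D₀ e W ≤ KK e := HIn.D₀_le
  have hO := fun {v : G} (hv : v ∈ W) (hv1 : v ≠ 1) => H.exists_O hv hv1
  have hmem := fun {v y : G} (hv : v ∈ W) (hv1 : v ≠ 1) (hy : y ∈ NV e v) => HIn.mem_D₀ hv hv1 hy
  generalize D₀ e W = E at *
  set N := normalizer (E : Set G) with hN
  set π := QuotientGroup.mk' (E.subgroupOf N) with hπ
  have hπs : Function.Surjective π := QuotientGroup.mk'_surjective _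
  have hπe : ∀ x y : N, π x = π y ↔ (x : G)⁻¹ * y ∈ E := by
    intro x y
    rw [hπ, QuotientGroup.mk'_apply, QuotientGroup.mk'_apply, QuotientGroup.eq, mem_subgroupOf]
    rfl
  have hEN : E ≤ N := le_normalizer
  -- a nontrivial element of `W`
  obtain ⟨v₀, hv₀, hv₀1⟩ : ∃ v ∈ W, v ≠ 1 := by
    by_contra hno
    push Not at hno
    have h1 : W = ⊥ := (eq_bot_iff_forall W).2 hno
    have h2 := H.W4
    rw [h1, Subgroup.card_bot] at h2
    omega
  have hWN : W ≤ N := by
    intro v hv
    by_cases hv1 : v = 1
    · rw [hv1]; exact one_mem _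
    · exact hcl hv hv1 rfl
  have heN : ∀ x, e x ∈ N := fun x => hcl hv₀ hv₀1 (mem_KK.1 (H.WK hv₀) x).symm
  -- `E ∩ W = 1`, `E ∩ e L = 1`
  have hdisjW : ∀ x ∈ W, x ∈ E → x = 1 := fun x hx hxE =>
    OddPair.eq_one_of_odd hodd (Five.isPGroup_four H.W4) hx hxE
  let j : L →* ↥N ⧸ E.subgroupOf N := π.comp (e.codRestrict N heN)
  have hj : ∀ x, j x = π ⟨e x, heN x⟩ := fun x => rfl
  -- elements commuting with an involution of `W` modulo `E`
  have hlift : ∀ v, ∀ hv : v ∈ W, v ≠ 1 → ∀ g : N, π g * π ⟨v, hWN hv⟩ = π ⟨v, hWN hv⟩ * π g →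
      ∃ m : N, (m : G) * v = v * m ∧ π m = π g := by
    intro v hv hv1 g hg
    rw [← map_mul, ← map_mul, hπe] at hg
    have h1 : ((g : G) * v)⁻¹ * (v * g) ∈ E := hg
    have h2 : (g : G) * v * (g : G)⁻¹ * v ∈ E := by
      have h3 := (mem_normalizer_iff.1 g.2 _).1 (inv_mem h1)
      have h4 : (g : G) * (((g : G) * v)⁻¹ * (v * g))⁻¹ * (g : G)⁻¹ = v⁻¹ * ((g : G) * v * (g : G)⁻¹) := by group
      rw [h4] at h3
      have h5 := (mem_normalizer_iff.1 (hWN hv) _).1 h3
      have h6 : v * (v⁻¹ * ((g : G) * v * (g : G)⁻¹)) * v⁻¹ = (g : G) * v * (g : G)⁻¹ * v := by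
        rw [inv_eq_of_mul_eq_one_left (H.sq v hv)]
        calc v * (v * ((g : G) * v * (g : G)⁻¹)) * v = (v * v) * ((g : G) * v * (g : G)⁻¹) * v := by group
          _ = _ := by rw [H.sq v hv, one_mul]
      rwa [h6] at h5
    obtain ⟨c, hc, hcv⟩ := conj_of_odd hodd (H.sq v hv) (t := (g : G) * v * (g : G)⁻¹) (by
      calc (g : G) * v * (g : G)⁻¹ * ((g : G) * v * (g : G)⁻¹) = (g : G) * (v * v) * (g : G)⁻¹ := by group
        _ = 1 := by rw [H.sq v hv]; group) h2
    refine ⟨⟨c, hEN hc⟩ * g, ?_, ?_⟩
    · change c * (g : G) * v = v * (c * g)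
      calc c * (g : G) * v = (c * ((g : G) * v * (g : G)⁻¹) * c⁻¹) * (c * g) := by group
        _ = v * (c * g) := by rw [hcv]
    · rw [hπe]
      have h3 : ((⟨c, hEN hc⟩ * g : N) : G)⁻¹ * g = (g : G)⁻¹ * c⁻¹ * g := by
        change (c * (g : G))⁻¹ * g = _
        group
      rw [h3]
      have h4 := (mem_normalizer_iff.1 (inv_mem g.2) c⁻¹).1 (inv_mem hc)
      rwa [inv_inv] at h4
  refine ⟨E, hodd, fun x d hd => mem_KK.1 (hDK hd) x, (W.subgroupOf N).map π, π ⟨b, hbN⟩, j, ?_, fun x hx => rfl, ?_⟩
  · refine
      { inj := ?_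
        V4 := ?_
        sq := ?_
        Vj := ?_
        cent := ?_
        self := ?_
        bu := ?_
        bV := ?_
        bn := ?_
        bZ := ?_ }
    · intro x y hxy
      rw [hj, hj, hπe] at hxy
      have h1 : e (x⁻¹ * y) ∈ KK e := by
        rw [map_mul, map_inv]; exact hDK hxy
      exact (inv_mul_eq_one.1 (h.disj _ h1))
    · rw [OddPair.card_map_of_disj]
      · rw [Nat.card_congr (subgroupOfEquivOfLe hWN).toEquiv, H.W4]
      · intro x hx hxE
        exact Subtype.ext (hdisjW x hx hxE)
    · rintro _ ⟨v, hv, rfl⟩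
      rw [← map_mul]
      have h1 : v * v = 1 := Subtype.ext (H.sq v hv)
      rw [h1, map_one]
    · rintro _ ⟨v, hv, rfl⟩
      rw [mem_KK]
      intro x
      rw [hj, ← map_mul, ← map_mul]
      congr 1
      exact Subtype.ext (mem_KK.1 (H.WK hv) x)
    · rintro _ ⟨v, hv, rfl⟩ hv1 g hg
      obtain ⟨g, rfl⟩ := hπs g
      have hv1' : (v : G) ≠ 1 := by
        intro h1
        apply hv1
        have : v = 1 := Subtype.ext h1
        rw [this, map_one]
      obtain ⟨m, hm, hmg⟩ := hlift v hv hv1' g hg
      rw [← hmg]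
      have hmM : (m : G) ∈ MM e := h.nrm (H.WK hv) hv1' (H.sq v hv) hm
      rw [mem_MM]
      refine ⟨fun x => ?_, fun x => ?_⟩
      · obtain ⟨y, hy⟩ := (mem_MM.1 hmM).1 x
        refine ⟨y, ?_⟩
        rw [hj, hj, ← map_inv, ← map_mul, ← map_mul]
        congr 1
        exact Subtype.ext hy
      · obtain ⟨y, hy⟩ := (mem_MM.1 hmM).2 x
        refine ⟨y, ?_⟩
        rw [hj, hj, ← map_inv, ← map_mul, ← map_mul]
        congr 1
        exact Subtype.ext hy
    · rintro _ ⟨v, hv, rfl⟩ hv1 g hgK hg
      obtain ⟨g, rfl⟩ := hπs g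
      have hv1' : (v : G) ≠ 1 := by
        intro h1
        apply hv1
        have : v = 1 := Subtype.ext h1
        rw [this, map_one]
      obtain ⟨m, hm, hmg⟩ := hlift v hv hv1' g hg
      rw [← hmg] at hgK ⊢
      have hmM : (m : G) ∈ MM e := h.nrm (H.WK hv) hv1' (H.sq v hv) hm
      have hmK : (m : G) ∈ KK e := by
        rw [mem_KK]
        intro x
        have h1 := mem_KK.1 hgK x
        rw [hj, ← map_mul, ← map_mul, hπe] at h1
        have h1' : ((m : G) * e x)⁻¹ * (e x * m) ∈ E := h1
        obtain ⟨y, hy⟩ := (mem_MM.1 hmM).2 (x⁻¹)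
        have h2 : ((m : G) * e x)⁻¹ * (e x * m) = (e x)⁻¹ * ((m : G)⁻¹ * e x * m) := by group
        have h3 : (m : G)⁻¹ * e x * m = e y⁻¹ := by
          rw [map_inv, ← hy, map_inv]; group
        rw [h2, h3, ← map_inv, ← map_mul] at h1'
        have h4 := h.disj _ (hDK h1')
        have h5 : y⁻¹ = x := by
          rw [← mul_left_cancel_iff (a := x⁻¹), h4, inv_mul_cancel]
        rw [h5] at h3
        calc (m : G) * e x = m * ((m : G)⁻¹ * e x * m) := by rw [h3]
          _ = e x * m := by group
      obtain ⟨O, hO1, -, hO3⟩ := hO hv hv1'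
      obtain ⟨o, ho, s, hs, hos⟩ := hO3 m hmK hm
      have hoE : o ∈ E := hmem hv hv1' ((hO1 o).1 ho)
      refine ⟨⟨s, hWN hs⟩, hs, ?_⟩
      rw [hπe]
      change s⁻¹ * (m : G) ∈ E
      rw [hos]
      have h1 := (mem_normalizer_iff.1 (inv_mem (hWN hs)) o).1 hoE
      rwa [inv_inv, mul_assoc] at h1
    · rw [hj, ← map_mul, ← map_mul]
      congr 1
      exact Subtype.ext H.bu
    · rintro _ ⟨v, hv, rfl⟩
      obtain ⟨v', hv', x, hx, h1⟩ := H.bW v hv
      refine ⟨_, ⟨⟨v', hWN hv'⟩, hv', rfl⟩, x, hx, ?_⟩
      rw [hj, ← map_mul, ← map_inv, ← map_mul, ← map_mul]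
      congr 1
      exact Subtype.ext h1
    · obtain ⟨v, hv, hvn⟩ := H.bn
      refine ⟨_, ⟨⟨v, hWN hv⟩, hv, rfl⟩, ?_⟩
      rintro ⟨s, hs, h1⟩
      apply hvn
      rw [← map_mul, ← map_inv, ← map_mul, hπe] at h1
      have h1' : (s : G)⁻¹ * (b * v * b⁻¹) ∈ E := h1
      obtain ⟨v', hv', x, hx, h2⟩ := H.bW v hv
      have h3 : e x ∈ KK e := by
        rw [h2] at h1'
        have hs' : (s : G) ∈ W := hs
        have h4 := mul_mem (mul_mem (inv_mem (H.WK hv')) (H.WK hs')) (hDK h1')
        rwa [show v'⁻¹ * (s : G) * ((s : G)⁻¹ * (v' * e x)) = e x by group] at h4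
      rw [h2, h.disj x h3, map_one, mul_one]
      exact hv'
    · intro x hx
      obtain ⟨x', hx', h1⟩ := H.bZ' h hZ4 hx
      refine ⟨x', hZ hx', ?_⟩
      rw [hj, hj, ← map_mul, ← map_inv, ← map_mul]
      congr 1
      exact Subtype.ext h1.symm
  · rintro _ ⟨v, hv, rfl⟩ hv1
    have hv1' : (v : G) ≠ 1 := by
      intro h1
      apply hv1
      have : v = 1 := Subtype.ext h1
      rw [this, map_one]
    exact ⟨v, v.2, H.sq v hv, rfl, fun g hg => hcl hv hv1' hg, fun x => mem_KK.1 (H.WK hv) x⟩

end Cfsg.Agent.StdG24.Hat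
end

-- part: StdG24/MainB
section
/-!
# S1767: from `HIn` to `Co₁`
-/

set_option autoImplicit false

namespace Cfsg.Agent.StdG24.MainB

open Cfsg Cfsg.Agent.CoOneType Cfsg.Agent.StdG24.Words Cfsg.Agent.StdG24.FactsL0 Subgroup

theorem eAl : Nonempty (D0.Al ≃* alternatingGroup (Fin 5)) := ax0.eAl

theorem eAs : Nonempty (D0.As ≃* alternatingGroup (Fin 5)) := ax0.eAs

/-- `J_L = ⟨As, i₂ n⟩` -/
theorem JL_eq : E0.As ⊔ _root_.Subgroup.closure {E0.i₂ * E0.n} = GenJ.JL := by
  have h1 : E0.i₂ * E0.n = GenJ.n := by
    show E0.i₂ * (E0.i₂ * GenJ.n) = GenJ.n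
    rw [← mul_assoc, ax0.i₂i₂, one_mul]
  rw [h1]
  rfl

/-- the input of `Eight` -/
theorem exists_in {Γ : Type*} [Group Γ] [Finite Γ] {Z : Subgroup L0} {j : L0 →* Γ} {V : Subgroup Γ} {b g : Γ}
    (h : EightA.In D0 Z j V b) (K12 : Nat.card (KK j) = 12)
    (KV : ∀ k ∈ KK j, ∀ v ∈ V, k * v * k⁻¹ ∈ V) (gA : ∀ a ∈ D0.As, g * j a = j a * g)
    (gw : g * j D0.w = j D0.w * g) (gV : ∃ v ∈ V, g * v * g⁻¹ ∉ V) : ∃ B, Eight.In j V B := by
  have h3 : EightA3.In3 E0 j V g :=
    { inj := h.inj, V4 := h.V4, sq := h.sq, Vj := h.Vj, cent := h.cent, self := h.self, K12 := K12,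
      KV := KV, gA := gA, gw := gw, gV := gV }
  refine ⟨⁅EightA3.TT E0 j, EightA3.TT E0 j⁆,
    { inj := h.inj, V4 := h.V4, sq := h.sq, Vj := h.Vj, cent := h.cent, self := h.self, K12 := K12,
      KV := KV, BA := h3.equiv ax0, mem_B := fun x => ?_ }⟩
  rw [h3.mem_B ax0, JL_eq]

theorem iso {G : Type*} [Group G] [Finite G] (hO : Cfsg.oddCore G = ⊥) {Z : Subgroup L0}
    (hZ : Z ≤ D0.Al) (hZ4 : Nat.card Z = 4) (hz : D0.z ∈ Z) {e : L0 →* G} (h : Emb e) {W : Subgroup G}
    {b : G} (H : Hat.HIn D0 Z e W b) : Spor.IsoCo1 (normalClosure (e.range : Set G)) := by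
  obtain ⟨D₀, hD, hcomm, V, b', j, hIn, hje, hlift⟩ := Hat.exists_hat facts0 eAs eAl hZ hZ4 hz h H
  obtain ⟨K12, KV, ρ, hρ, hρ1⟩ := hIn.kk12 facts0 eAl hZ hZ4
  obtain ⟨g, hgA, hgw, hgV⟩ := hIn.moves facts0 eAs eAl hZ hZ4 hz hρ (fun v hv => KV ρ hρ v hv) hρ1
    (fun R A B σ τ H => (F.lemmaF H).2.1) (w := D0.w) facts0.wAl facts0.w1 facts0.w5
  obtain ⟨B, hB⟩ := exists_in hIn K12 KV hgA hgw hgV
  obtain ⟨w', G0, θ, hwV, hw1, hjG, hMG, hwG, hθ⟩ := LettersFin.main ax0 hB
  obtain ⟨w, hwN, hww, rfl, hCw, hwe⟩ := hlift w' hwV hw1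
  refine HatBack.isoCo1_of hO ax0 h.inj hD hcomm (φ := QuotientGroup.mk' _)
    (QuotientGroup.mk'_surjective _) ?_ hIn.inj hje θ hjG hww hwN hwG hθ ?_ hCw ?_ hIn.V4 ?_ ?_ ?_
  · intro x
    rw [QuotientGroup.mk'_apply, QuotientGroup.eq_one_iff, mem_subgroupOf]
  · intro y hy
    exact hMG (hIn.cent _ hwV hw1 y hy)
  · intro x
    exact (mem_KK.1 (hIn.Vj hwV) x).symm
  · intro k hk
    exact hIn.commV hk hwV
  · intro y hy x
    obtain ⟨x', hx'⟩ := (mem_MM.1 (hIn.cent _ hwV hw1 y hy)).1 x
    exact ⟨x', hx'.symm⟩
  · intro y hy hyx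
    exact hIn.self _ hwV hw1 y (mem_KK.2 hyx) hy

end Cfsg.Agent.StdG24.MainB
end

private theorem dce_10b72afd5a22 : _root_.True := by
  try have : _root_.True := by simp only [_root_.Cfsg.Agent.StdG24.Hat.D₀.eq_1]
  try have : _root_.True := by simp only [_root_.Cfsg.Agent.StdG24.LettersCo.pairs.eq_1]
  try have : _root_.True := by simp only [_root_.Cfsg.Agent.StdG24.EightA3.TT.eq_1]
  exact _root_.True.intro
end

-- part: S1767
section
prune_inst 0x4000000000100000000000000000000400000000000000001100001020006100000020000480008000000000000000040020000000010000000000000000000000000000000000000000000002003100000000000000000000000000000041000000000000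
set_option linter.all false
open scoped Cfsg.Agent.FastGrp

-- part: StdG24/NormalCase
section
/-!
# Step 6: if `As ⊲ C_G(w)` and `Al ⊲ C_G(u)` then `A ≅ G₂(4)` is normal

`ι : L →* G` embeds `L = G₂(4)` in the finite group `G` with standard image.
-/

set_option autoImplicit false

namespace Cfsg.Agent.StdG24.NormalCase

open Subgroup Cfsg.Agent.StdG24.AutA5 Cfsg.Agent.StdG24.AutL Cfsg.Agent.StdG24.FiveL
open Cfsg.Agent.StdAlt.Conj Cfsg.Agent.StdAlt.Pairs Cfsg.Agent.StdAlt.First

variable {L G : Type*} [Group L] [Group G]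

/-- `ι` embeds `L` in `G` with standard image, `As ⊲ C_G(w)`, `Al ⊲ C_G(u)` -/
structure NC (E : El L) (ι : L →* G) : Prop where
  inj : Function.Injective ι
  te : TE ι.range
  nocomm : ∀ g : G, ∃ a b : L, ι a * (g * ι b * g⁻¹) ≠ (g * ι b * g⁻¹) * ι a
  inv : ∃ t ∈ C ι.range, t ≠ 1 ∧ t * t = 1
  nw : ∀ x : G, x * ι E.w = ι E.w * x → ∀ c ∈ E.As, ∃ c' ∈ E.As, x * ι c * x⁻¹ = ι c'
  nu : ∀ x : G, x * ι E.u = ι E.u * x → ∀ c ∈ E.Al, ∃ c' ∈ E.Al, x * ι c * x⁻¹ = ι c'

theorem mem_C_range {ι : L →* G} {k : G} : k ∈ C ι.range ↔ ∀ l, k * ι l = ι l * k := by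
  rw [mem_C]
  constructor
  · intro h l
    exact h _ ⟨l, rfl⟩
  · rintro h _ ⟨l, rfl⟩
    exact h l

theorem mem_N_range {ι : L →* G} [Finite G] {k : G} :
    k ∈ N ι.range ↔ ∀ l, ∃ l', k * ι l * k⁻¹ = ι l' := by
  constructor
  · intro h l
    obtain ⟨l', hl'⟩ := conj_mem h (show ι l ∈ ι.range from ⟨l, rfl⟩)
    exact ⟨l', hl'.symm⟩
  · intro h
    refine mem_N_of ?_
    rintro _ ⟨l, rfl⟩
    obtain ⟨l', hl'⟩ := h l
    exact ⟨l', hl'.symm⟩

/-- conjugation of an embedding -/
def cjι (g : G) (ι : L →* G) : L →* G := (MulAut.conj g).toMonoidHom.comp ι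

theorem cjι_apply (g : G) (ι : L →* G) (l : L) : cjι g ι l = g * ι l * g⁻¹ := rfl

theorem range_cjι (g : G) (ι : L →* G) : (cjι g ι).range = cj g ι.range := MonoidHom.range_comp _ _

theorem NC.cj {E : El L} {ι : L →* G} (h : NC E ι) (g : G) : NC E (cjι g ι) := by
  have hconj : ∀ x l : G, x * (g * l * g⁻¹) = (g * l * g⁻¹) * x → (g⁻¹ * x * g) * l = l * (g⁻¹ * x * g) := by
    intro x l hx
    calc g⁻¹ * x * g * l = g⁻¹ * (x * (g * l * g⁻¹)) * g := by group
      _ = _ := by rw [hx]; group
  refine ⟨?_, ?_, ?_, ?_, ?_, ?_⟩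
  · intro a b hab
    rw [cjι_apply, cjι_apply] at hab
    exact h.inj (mul_left_cancel (mul_right_cancel hab))
  · rw [range_cjι]
    exact h.te.cj g
  · intro x
    obtain ⟨a, b, hab⟩ := h.nocomm (g⁻¹ * x * g)
    refine ⟨a, b, fun he => hab ?_⟩
    rw [cjι_apply, cjι_apply] at he
    calc ι a * (g⁻¹ * x * g * ι b * (g⁻¹ * x * g)⁻¹)
        = g⁻¹ * (g * ι a * g⁻¹ * (x * (g * ι b * g⁻¹) * x⁻¹)) * g := by group
      _ = _ := by rw [he]; group
  · obtain ⟨t, ht, ht1, htt⟩ := h.inv
    refine ⟨g * t * g⁻¹, ?_, ?_, ?_⟩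
    · rw [range_cjι, mem_C_cj, show g⁻¹ * (g * t * g⁻¹) * g = t by group]
      exact ht
    · intro e
      apply ht1
      rw [show t = g⁻¹ * (g * t * g⁻¹) * g by group, e]; group
    · rw [show g * t * g⁻¹ * (g * t * g⁻¹) = g * (t * t) * g⁻¹ by group, htt]; group
  · intro x hx c hc
    obtain ⟨c', hc', he⟩ := h.nw (g⁻¹ * x * g) (hconj _ _ hx) c hc
    refine ⟨c', hc', ?_⟩
    rw [cjι_apply, cjι_apply, ← he]; group
  · intro x hx c hc
    obtain ⟨c', hc', he⟩ := h.nu (g⁻¹ * x * g) (hconj _ _ hx) c hc
    refine ⟨c', hc', ?_⟩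
    rw [cjι_apply, cjι_apply, ← he]; group

/-- the automorphism induced by an element of the normalizer -/
theorem exists_aut [Finite G] {ι : L →* G} (hι : Function.Injective ι) {x : G} (hx : x ∈ N ι.range) :
    ∃ α : MulAut L, ∀ l, ι (α l) = x * ι l * x⁻¹ := by
  set e : L ≃* ι.range := MonoidHom.ofInjective hι
  set α : MulAut L := (e.trans (res (MulAut.conj x) ι.range (fun y => (mem_N.1 hx y)))).trans e.symm
  refine ⟨α, fun l => ?_⟩
  have h1 : ∀ y : ι.range, ι (e.symm y) = y := by
    intro y
    have : ((e (e.symm y) : ι.range) : G) = ι (e.symm y) := rfl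
    rw [← this, MulEquiv.apply_symm_apply]
  have h2 : ι (α l) = ((res (MulAut.conj x) ι.range (fun y => (mem_N.1 hx y))) (e l) : G) := h1 _
  rw [h2]
  rfl

/-- an element centralizing `v` and normalizing `B ≅ A₅` acts on `B` as a power of `v` -/
theorem conj_fix_G {B : Subgroup L} {v : L} (e : B ≃* alternatingGroup (Fin 5)) (hv : v ∈ B)
    (hv1 : v ≠ 1) (hv5 : v ^ 5 = 1) {ι : L →* G} (hι : Function.Injective ι) {x : G}
    (hx : x * ι v = ι v * x) (hn : ∀ c ∈ B, ∃ c' ∈ B, x * ι c * x⁻¹ = ι c') [Finite G] :
    ∃ k : ℕ, ∀ c ∈ B, x * ι c * x⁻¹ = ι (v ^ k * c * (v ^ k)⁻¹) := by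
  set ιB : B →* G := ι.comp B.subtype with hιB
  have hi : Function.Injective ιB := hι.comp B.subtype_injective
  have hxN : x ∈ N ιB.range := by
    rw [mem_N_range]
    rintro ⟨c, hc⟩
    obtain ⟨c', hc', h⟩ := hn c hc
    exact ⟨⟨c', hc'⟩, h⟩
  obtain ⟨α, hα⟩ := exists_aut hi hxN
  obtain ⟨k, hk⟩ := conj_of_fix e α (u := ⟨v, hv⟩) (fun h => hv1 (congrArg Subtype.val h))
    (Subtype.ext hv5) (hi (by
      rw [hα]
      show x * ι v * x⁻¹ = ι v
      rw [hx, mul_inv_cancel_right]))
  refine ⟨k, fun c hc => ?_⟩
  have h1 := hα ⟨c, hc⟩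
  rw [hk] at h1
  exact h1.symm

section one

variable [Finite G] {E : El L} (A : Ax E) [IsSimpleGroup L] {ι : L →* G} (h : NC E ι)
include A h

/-- involutions centralizing `u` and `w` centralize `As` and `Al` -/
theorem inv_comm {t : G} (htt : t * t = 1) (hw : t * ι E.w = ι E.w * t) (hu : t * ι E.u = ι E.u * t) :
    ∀ c, c ∈ E.As ∨ c ∈ E.Al → t * ι c = ι c * t := by
  obtain ⟨es⟩ := A.eAs
  obtain ⟨el⟩ := A.eAl
  obtain ⟨k, hk⟩ := conj_fix_G es A.uAs A.u1 A.u5 h.inj hu (h.nw t hw)
  obtain ⟨i, hi⟩ := conj_fix_G el A.wAl A.w1 A.w5 h.inj hw (h.nu t hu)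
  set q := E.w ^ i * E.u ^ k with hq
  have hc : ∀ c, c ∈ E.As ∨ c ∈ E.Al → t * ι c * t⁻¹ = ι (q * c * q⁻¹) := by
    rintro c (hc | hc)
    · rw [hk c hc]
      congr 1
      have h1 : Commute (E.w ^ i) c := (show Commute E.w c from (A.comm c hc _ A.wAl).symm).pow_left i
      have h2 : E.w ^ i * c * (E.w ^ i)⁻¹ = c := by rw [h1.eq]; group
      rw [hq, (A.commuw.pow_pow k i).symm.eq]
      calc E.u ^ k * c * (E.u ^ k)⁻¹ = E.u ^ k * (E.w ^ i * c * (E.w ^ i)⁻¹) * (E.u ^ k)⁻¹ := by rw [h2]
        _ = _ := by group
    · rw [hi c hc]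
      congr 1
      have h1 : Commute (E.u ^ k) c := (show Commute E.u c from A.comm _ A.uAs c hc).pow_left k
      have h2 : E.u ^ k * c * (E.u ^ k)⁻¹ = c := by rw [h1.eq]; group
      rw [hq]
      calc E.w ^ i * c * (E.w ^ i)⁻¹ = E.w ^ i * (E.u ^ k * c * (E.u ^ k)⁻¹) * (E.w ^ i)⁻¹ := by rw [h2]
        _ = _ := by group
  have htq : t * ι q = ι q * t := by
    have h1 : Commute t (ι E.w ^ i) := (show Commute t (ι E.w) from hw).pow_right i
    have h2 : Commute t (ι E.u ^ k) := (show Commute t (ι E.u) from hu).pow_right k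
    rw [hq, map_mul, map_pow, map_pow]
    exact (h1.mul_right h2).eq
  have hti : t⁻¹ = t := inv_eq_of_mul_eq_one_left htt
  have hqq : ∀ c, c ∈ E.As ∨ c ∈ E.Al → (q * q) * c = c * (q * q) := by
    intro c hcc
    have h1 : ι c = ι (q * q * c * (q * q)⁻¹) := by
      calc ι c = t * (t * ι c * t⁻¹) * t⁻¹ := by
            rw [hti]
            calc ι c = (t * t) * ι c * (t * t) := by rw [htt]; group
              _ = _ := by group
        _ = t * ι (q * c * q⁻¹) * t⁻¹ := by rw [hc c hcc]
        _ = (t * ι q) * ι c * (t * ι q)⁻¹ := by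
            rw [map_mul, map_mul, map_inv]; group
        _ = ι q * (t * ι c * t⁻¹) * (ι q)⁻¹ := by rw [htq]; group
        _ = ι (q * q * c * (q * q)⁻¹) := by
            rw [hc c hcc, ← map_inv, ← map_mul, ← map_mul]; group
    have h2 := h.inj h1
    calc q * q * c = (q * q * c * (q * q)⁻¹) * (q * q) := by group
      _ = _ := by rw [← h2]
  have hq2 : q * q = E.w ^ (i + i) * E.u ^ (k + k) := by rw [hq, A.qmul]
  have hq1 : q = 1 := by
    apply eq_one_of_sq (q5 A i k)
    rw [← hq, hq2]
    apply q_eq_one A
    rw [← hq2]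
    have h1 := hqq E.i₁ (Or.inl A.i₁As)
    have h2 := hqq E.i₂ (Or.inr A.i₂Al)
    exact (Commute.mul_right (show Commute (q * q) E.i₁ from h1) h2).eq
  intro c hcc
  have h1 := hc c hcc
  rw [hq1, one_mul, inv_one, mul_one] at h1
  exact mul_inv_eq_iff_eq_mul.1 h1

/-- involutions centralizing `u` and `w` centralize `L` -/
theorem inv_mem_C {t : G} (htt : t * t = 1) (hw : t * ι E.w = ι E.w * t)
    (hu : t * ι E.u = ι E.u * t) : t ∈ C ι.range := by
  set X : Subgroup L :=
    { carrier := {x | ∀ t : G, t * t = 1 → t * ι E.w = ι E.w * t → t * ι E.u = ι E.u * t →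
        t * ι x = ι x * t}
      one_mem' := by intro t _ _ _; rw [map_one, mul_one, one_mul]
      mul_mem' := by
        intro a b ha hb t h1 h2 h3
        have := (show Commute t (ι a) from ha t h1 h2 h3).mul_right (hb t h1 h2 h3)
        rw [map_mul]; exact this.eq
      inv_mem' := by
        intro a ha t h1 h2 h3
        have := (show Commute t (ι a) from ha t h1 h2 h3).inv_right
        rw [map_inv]; exact this.eq } with hX
  have htop : X = ⊤ := by
    apply top_of A
    · intro c hc t h1 h2 h3
      exact inv_comm A h h1 h2 h3 c (Or.inl hc)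
    · intro c hc t h1 h2 h3
      exact inv_comm A h h1 h2 h3 c (Or.inr hc)
    · intro x hx t h1 h2 h3
      have hq : ∀ p : ℕ × ℕ, t * ι (E.n * (E.w ^ p.1 * E.u ^ p.2) * E.n⁻¹)
          = ι (E.n * (E.w ^ p.1 * E.u ^ p.2) * E.n⁻¹) * t := by
        intro p
        rw [A.nq, map_mul, map_pow, map_pow]
        exact (((show Commute t (ι E.w) from h2).pow_right _).mul_right
          ((show Commute t (ι E.u) from h3).pow_right _)).eq
      have hcc : ∀ y : L, t * ι (E.n * y * E.n⁻¹) = ι (E.n * y * E.n⁻¹) * t ↔
          ((ι E.n)⁻¹ * t * ι E.n) * ι y = ι y * ((ι E.n)⁻¹ * t * ι E.n) := by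
        intro y
        rw [map_mul, map_mul, map_inv]
        constructor
        · intro e
          calc (ι E.n)⁻¹ * t * ι E.n * ι y
              = (ι E.n)⁻¹ * (t * (ι E.n * ι y * (ι E.n)⁻¹)) * ι E.n := by group
            _ = _ := by rw [e]; group
        · intro e
          calc t * (ι E.n * ι y * (ι E.n)⁻¹)
              = ι E.n * ((ι E.n)⁻¹ * t * ι E.n * ι y) * (ι E.n)⁻¹ := by group
            _ = _ := by rw [e]; group
      rw [hcc]
      apply hx
      · rw [show (ι E.n)⁻¹ * t * ι E.n * ((ι E.n)⁻¹ * t * ι E.n) = (ι E.n)⁻¹ * (t * t) * ι E.n by group,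
          h1]; group
      · rw [← hcc]
        have := hq (1, 0)
        simpa only [_root_.map_mul, _root_.map_inv, _root_.pow_one, _root_.pow_zero, _root_.mul_one] using this
      · rw [← hcc]
        have := hq (0, 1)
        simpa only [_root_.map_mul, _root_.map_inv, _root_.pow_zero, _root_.pow_one, _root_.one_mul] using this
  rw [mem_C_range]
  intro l
  have hl : l ∈ X := by rw [htop]; trivial
  exact hl t htt hw hu

theorem cent_w_le {x : G} (hx : x * ι E.w = ι E.w * x) : x ∈ N ι.range := by
  obtain ⟨es⟩ := A.eAs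
  obtain ⟨u', hu', hxu⟩ := h.nw x hx _ A.uAs
  have hu5 : u' ^ 5 = 1 := h.inj (by rw [map_pow, ← hxu, conj_pow, ← map_pow, A.u5, map_one]; group)
  have hu1 : u' ≠ 1 := by
    rintro rfl
    rw [map_one] at hxu
    apply A.u1
    apply h.inj
    rw [map_one, show ι E.u = x⁻¹ * (x * ι E.u * x⁻¹) * x by group, hxu]; group
  obtain ⟨k, c, hc⟩ := conj_five es (u := ⟨E.u, A.uAs⟩) (fun h => A.u1 (congrArg Subtype.val h))
    (Subtype.ext A.u5) (x := ⟨u', hu'⟩) (fun h => hu1 (congrArg Subtype.val h)) (Subtype.ext hu5)
  have hc' : (c : L) * u' * (c : L)⁻¹ = E.u ^ k := congrArg Subtype.val hc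
  have hk1 : E.u ^ k ≠ 1 := by
    rw [← hc']
    intro e
    apply hu1
    rw [show u' = (c : L)⁻¹ * (c * u' * (c : L)⁻¹) * c by group, e]; group
  obtain ⟨m, hm⟩ := pow_inv A.u5 hk1
  set y := ι (c : L) * x with hy
  have hyw : y * ι E.w * y⁻¹ = ι E.w := by
    rw [hy, show ι (c : L) * x * ι E.w * (ι (c : L) * x)⁻¹
      = ι (c : L) * (x * ι E.w) * x⁻¹ * (ι (c : L))⁻¹ by group, hx,
      show ι (c : L) * (ι E.w * x) * x⁻¹ * (ι (c : L))⁻¹ = ι ((c : L) * E.w * (c : L)⁻¹) by
        rw [map_mul, map_mul, map_inv]; group, A.comm _ c.2 _ A.wAl, mul_inv_cancel_right]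
  have hyu : y * ι E.u * y⁻¹ = ι (E.u ^ k) := by
    rw [← hc', map_mul, map_mul, map_inv, ← hxu, hy]; group
  obtain ⟨t, ht, ht1, htt⟩ := h.inv
  have hyt : y * t * y⁻¹ ∈ C ι.range := by
    apply inv_mem_C A h
    · rw [show y * t * y⁻¹ * (y * t * y⁻¹) = y * (t * t) * y⁻¹ by group, htt]; group
    · calc y * t * y⁻¹ * ι E.w = y * t * y⁻¹ * (y * ι E.w * y⁻¹) := by rw [hyw]
        _ = y * (t * ι E.w) * y⁻¹ := by group
        _ = y * (ι E.w * t) * y⁻¹ := by rw [mem_C_range.1 ht]
        _ = (y * ι E.w * y⁻¹) * (y * t * y⁻¹) := by group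
        _ = ι E.w * (y * t * y⁻¹) := by rw [hyw]
    · have h1 : Commute (y * t * y⁻¹) (ι (E.u ^ k)) := by
        rw [← hyu]
        show y * t * y⁻¹ * (y * ι E.u * y⁻¹) = y * ι E.u * y⁻¹ * (y * t * y⁻¹)
        rw [show y * t * y⁻¹ * (y * ι E.u * y⁻¹) = y * (t * ι E.u) * y⁻¹ by group, (mem_C_range.1 ht)]
        group
      have h2 := h1.pow_right m
      rw [← map_pow, hm] at h2
      exact h2.eq
  have h3 := h.te.key t y ht ht1 htt hyt
  have h4 : x = (ι (c : L))⁻¹ * y := by rw [hy]; group
  rw [h4]
  exact mul_mem (inv_mem (le_N ⟨c, rfl⟩)) h3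

theorem cent_u_le {x : G} (hx : x * ι E.u = ι E.u * x) : x ∈ N ι.range := by
  obtain ⟨el⟩ := A.eAl
  obtain ⟨u', hu', hxu⟩ := h.nu x hx _ A.wAl
  have hu5 : u' ^ 5 = 1 := h.inj (by rw [map_pow, ← hxu, conj_pow, ← map_pow, A.w5, map_one]; group)
  have hu1 : u' ≠ 1 := by
    rintro rfl
    rw [map_one] at hxu
    apply A.w1
    apply h.inj
    rw [map_one, show ι E.w = x⁻¹ * (x * ι E.w * x⁻¹) * x by group, hxu]; group
  obtain ⟨k, c, hc⟩ := conj_five el (u := ⟨E.w, A.wAl⟩) (fun h => A.w1 (congrArg Subtype.val h))
    (Subtype.ext A.w5) (x := ⟨u', hu'⟩) (fun h => hu1 (congrArg Subtype.val h)) (Subtype.ext hu5)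
  have hc' : (c : L) * u' * (c : L)⁻¹ = E.w ^ k := congrArg Subtype.val hc
  have hk1 : E.w ^ k ≠ 1 := by
    rw [← hc']
    intro e
    apply hu1
    rw [show u' = (c : L)⁻¹ * (c * u' * (c : L)⁻¹) * c by group, e]; group
  obtain ⟨m, hm⟩ := pow_inv A.w5 hk1
  set y := ι (c : L) * x with hy
  have hyw : y * ι E.u * y⁻¹ = ι E.u := by
    rw [hy, show ι (c : L) * x * ι E.u * (ι (c : L) * x)⁻¹
      = ι (c : L) * (x * ι E.u) * x⁻¹ * (ι (c : L))⁻¹ by group, hx,
      show ι (c : L) * (ι E.u * x) * x⁻¹ * (ι (c : L))⁻¹ = ι ((c : L) * E.u * (c : L)⁻¹) by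
        rw [map_mul, map_mul, map_inv]; group, ← A.comm _ A.uAs _ c.2, mul_inv_cancel_right]
  have hyu : y * ι E.w * y⁻¹ = ι (E.w ^ k) := by
    rw [← hc', map_mul, map_mul, map_inv, ← hxu, hy]; group
  obtain ⟨t, ht, ht1, htt⟩ := h.inv
  have hyt : y * t * y⁻¹ ∈ C ι.range := by
    apply inv_mem_C A h
    · rw [show y * t * y⁻¹ * (y * t * y⁻¹) = y * (t * t) * y⁻¹ by group, htt]; group
    · have h1 : Commute (y * t * y⁻¹) (ι (E.w ^ k)) := by
        rw [← hyu]
        show y * t * y⁻¹ * (y * ι E.w * y⁻¹) = y * ι E.w * y⁻¹ * (y * t * y⁻¹)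
        rw [show y * t * y⁻¹ * (y * ι E.w * y⁻¹) = y * (t * ι E.w) * y⁻¹ by group, (mem_C_range.1 ht)]
        group
      have h2 := h1.pow_right m
      rw [← map_pow, hm] at h2
      exact h2.eq
    · calc y * t * y⁻¹ * ι E.u = y * t * y⁻¹ * (y * ι E.u * y⁻¹) := by rw [hyw]
        _ = y * (t * ι E.u) * y⁻¹ := by group
        _ = y * (ι E.u * t) * y⁻¹ := by rw [mem_C_range.1 ht]
        _ = (y * ι E.u * y⁻¹) * (y * t * y⁻¹) := by group
        _ = ι E.u * (y * t * y⁻¹) := by rw [hyw]
  have h3 := h.te.key t y ht ht1 htt hyt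
  have h4 : x = (ι (c : L))⁻¹ * y := by rw [hy]; group
  rw [h4]
  exact mul_mem (inv_mem (le_N ⟨c, rfl⟩)) h3

/-- the centralizer of an element of order 5 of `L` normalizes `L` -/
theorem cent_le {d : L} (hd : d ≠ 1) (hd5 : d ^ 5 = 1) {x : G} (hx : x * ι d = ι d * x) :
    x ∈ N ι.range := by
  have key : ∀ (v g : L) (k : ℕ), v ^ 5 = 1 → g * d * g⁻¹ = v ^ k →
      (ι g * x * (ι g)⁻¹) * ι v = ι v * (ι g * x * (ι g)⁻¹) := by
    intro v g k hv5 hg
    have hk1 : v ^ k ≠ 1 := by
      rw [← hg]
      intro e
      apply hd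
      rw [show d = g⁻¹ * (g * d * g⁻¹) * g by group, e]; group
    obtain ⟨m, hm⟩ := pow_inv hv5 hk1
    have h1 : Commute (ι g * x * (ι g)⁻¹) (ι (v ^ k)) := by
      rw [← hg, map_mul, map_mul, map_inv]
      show ι g * x * (ι g)⁻¹ * (ι g * ι d * (ι g)⁻¹) = ι g * ι d * (ι g)⁻¹ * (ι g * x * (ι g)⁻¹)
      rw [show ι g * x * (ι g)⁻¹ * (ι g * ι d * (ι g)⁻¹) = ι g * (x * ι d) * (ι g)⁻¹ by group, hx]
      group
    have h2 := h1.pow_right m
    rw [← map_pow, hm] at h2
    exact h2.eq
  have fin : ∀ g : L, ι g * x * (ι g)⁻¹ ∈ N ι.range → x ∈ N ι.range := by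
    intro g h1
    have hg : ι g ∈ N ι.range := le_N ⟨g, rfl⟩
    rw [show x = (ι g)⁻¹ * (ι g * x * (ι g)⁻¹) * ι g by group]
    exact mul_mem (mul_mem (inv_mem hg) h1) hg
  obtain ⟨g, k, hg | hg⟩ := A.five d hd5
  · exact fin g (cent_u_le A h (key _ _ _ A.u5 hg))
  · exact fin g (cent_w_le A h (key _ _ _ A.w5 hg))

end one

/-- elements normalizing `L` and inducing an inner automorphism -/
theorem dec_of_inner {ι : L →* G} {x : G} {q : L} (hq : ∀ l, x * ι l * x⁻¹ = ι (q * l * q⁻¹)) :
    ∃ k ∈ C ι.range, x = k * ι q := by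
  refine ⟨x * (ι q)⁻¹, ?_, by group⟩
  rw [mem_C_range]
  intro l
  calc x * (ι q)⁻¹ * ι l = (x * ι (q⁻¹ * l * q) * x⁻¹) * x * (ι q)⁻¹ := by
        rw [map_mul, map_mul, map_inv]; group
    _ = ι (q * (q⁻¹ * l * q) * q⁻¹) * x * (ι q)⁻¹ := by rw [hq]
    _ = ι l * (x * (ι q)⁻¹) := by
        rw [show q * (q⁻¹ * l * q) * q⁻¹ = l by group]; group

/-- elements of the normalizer commuting with an element `d` of order 5 -/
theorem dec [Finite G] {ι : L →* G} (hι : Function.Injective ι) {d : L} {D : Subgroup L} (hD : FC d D)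
    {x : G} (hx : x ∈ N ι.range) (hxd : x * ι d = ι d * x) :
    ∃ k ∈ C ι.range, ∃ q : L, q * d = d * q ∧ x = k * ι q := by
  obtain ⟨α, hα⟩ := exists_aut hι hx
  obtain ⟨i, c, hc, h1⟩ := hD.aut α (hι (by rw [hα, hxd]; group))
  obtain ⟨k, hk, h2⟩ := dec_of_inner (ι := ι) (x := x) (q := d ^ i * c) (fun l => by rw [← hα, h1])
  refine ⟨k, hk, _, ?_, h2⟩
  have c1 : Commute (d ^ i) d := (Commute.refl d).pow_left i
  have c2 : Commute c d := hD.comm c hc
  exact (c1.mul_left c2).eq

/-- `ι₂` is conjugate to `ι₁` -/
def Rl (ι₁ ι₂ : L →* G) : Prop := ∃ g : G, ∀ l, ι₂ l = g * ι₁ l * g⁻¹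

theorem Rl.symm {ι₁ ι₂ : L →* G} (r : Rl ι₁ ι₂) : Rl ι₂ ι₁ := by
  obtain ⟨g, hg⟩ := r
  exact ⟨g⁻¹, fun l => by rw [hg]; group⟩

theorem Rl.cj {ι₁ ι₂ : L →* G} (r : Rl ι₁ ι₂) : Cj ι₁.range ι₂.range := by
  obtain ⟨g, hg⟩ := r
  have : ι₂ = cjι g ι₁ := MonoidHom.ext hg
  rw [this, range_cjι]
  exact Cj.cj _ _

theorem Rl.no_comm {E : El L} {ι₁ ι₂ : L →* G} (r : Rl ι₁ ι₂) (h₁ : NC E ι₁) :
    ∃ a b : L, ι₁ a * ι₂ b ≠ ι₂ b * ι₁ a := by
  obtain ⟨g, hg⟩ := r
  obtain ⟨a, b, h⟩ := h₁.nocomm g
  exact ⟨a, b, by rw [hg]; exact h⟩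

theorem not_central [IsSimpleGroup L] {E : El L} (A : Ax E) {d : L} (hd : d ≠ 1) :
    ∃ x, x * d ≠ d * x := by
  by_contra hcon
  push Not at hcon
  have h1 : d ∈ center L := mem_center_iff.2 hcon
  rcases (inferInstance : (center L).Normal).eq_bot_or_eq_top with h | h
  · rw [h, mem_bot] at h1
    exact hd h1
  · have h2 : E.u ∈ center L := by rw [h]; trivial
    have h3 := mem_center_iff.1 h2 E.i₁
    have h4 := A.i₁u
    rw [h3, mul_assoc, A.i₁i₁, mul_one] at h4
    exact A.u1 (eq_one_of_sq A.u5 (by nth_rewrite 2 [h4]; exact mul_inv_cancel _))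

section pair

variable [Finite G] {E : El L} (A : Ax E) [IsSimpleGroup L] {ι₁ ι₂ : L →* G} (h₁ : NC E ι₁)
  (h₂ : NC E ι₂) (r : Rl ι₁ ι₂)

include A h₁ r in
/-- an element of order 5 of `L₁` does not centralize `L₂` -/
theorem no_cent {d : L} (hd : d ≠ 1) (hd5 : d ^ 5 = 1) : ι₁ d ∉ C ι₂.range := by
  intro hc
  have := A.finite
  have hcomm : ∀ y, ι₂ y * ι₁ d = ι₁ d * ι₂ y := fun y => (mem_C_range.1 hc y).symm
  have hle : ∀ y, ι₂ y ∈ N ι₁.range := fun y => cent_le A h₁ hd hd5 (hcomm y)
  obtain ⟨D, hD⟩ := exists_FC A hd hd5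
  have hex : ∀ y, ∃ q : L, q * d = d * q ∧ ∃ k ∈ C ι₁.range, ι₂ y = k * ι₁ q := by
    intro y
    obtain ⟨k, hk, q, hq, h⟩ := dec h₁.inj hD (hle y) (hcomm y)
    exact ⟨q, hq, k, hk, h⟩
  choose f hf hf' using hex
  have hX : ((C ι₁.range).comap ι₂).Normal := by
    constructor
    intro y hy z
    rw [mem_comap] at hy ⊢
    rw [map_mul, map_mul, map_inv]
    exact conj_mem_C (hle z) hy
  rcases hX.eq_bot_or_eq_top with h | h
  · have hinj : Function.Injective f := by
      intro y z hyz
      obtain ⟨k, hk, e1⟩ := hf' y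
      obtain ⟨k', hk', e2⟩ := hf' z
      have h3 : y * z⁻¹ ∈ (C ι₁.range).comap ι₂ := by
        rw [mem_comap, map_mul, map_inv, e1, e2, hyz,
          show k * ι₁ (f z) * (k' * ι₁ (f z))⁻¹ = k * k'⁻¹ by group]
        exact mul_mem hk (inv_mem hk')
      rw [h, mem_bot] at h3
      exact mul_inv_eq_one.1 h3
    have hsurj := Finite.surjective_of_injective hinj
    obtain ⟨x, hx⟩ := not_central A hd
    obtain ⟨y, rfl⟩ := hsurj x
    exact hx (hf y)
  · obtain ⟨a, b, hab⟩ := r.no_comm h₁
    have hb : b ∈ (C ι₁.range).comap ι₂ := by rw [h]; trivial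
    exact hab (mem_C_range.1 hb a).symm

/-- elements of order 5 of `N(L)` lie in `C(L) L` -/
theorem dec_five {ι : L →* G} (hι : NC E ι) (A : Ax E) {x : G} (hx : x ∈ N ι.range) (hx5 : x ^ 5 = 1) :
    ∃ k ∈ C ι.range, ∃ b : L, b ^ 5 = 1 ∧ x = k * ι b := by
  obtain ⟨α, hα⟩ := exists_aut hι.inj hx
  obtain ⟨c, hc⟩ := A.sq_inner α
  obtain ⟨k, hk, h1⟩ := dec_of_inner (ι := ι) (x := x * x) (q := c) (fun l => by
    rw [← hc, hα, hα]; group)
  have hkc : Commute k (ι c) := mem_C_range.1 hk c
  have h2 : x = k ^ 3 * ι (c ^ 3) := by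
    calc x = x ^ 5 * x := by rw [hx5, one_mul]
      _ = (x * x) ^ 3 := by rw [← sq, ← pow_mul, ← pow_succ]
      _ = _ := by rw [h1, hkc.mul_pow, map_pow]
  refine ⟨k ^ 3, pow_mem hk 3, c ^ 3, ?_, h2⟩
  have hkc' : Commute (k ^ 3) (ι (c ^ 3)) := mem_C_range.1 (pow_mem hk 3) _
  have h3 : (k ^ 3) ^ 5 * ι (c ^ 3) ^ 5 = 1 := by rw [← hkc'.mul_pow, ← h2, hx5]
  have h4 : ι ((c ^ 3) ^ 5) = 1 := by
    apply hι.te.disj _ ⟨_, rfl⟩
    rw [map_pow, eq_inv_of_mul_eq_one_right h3]
    exact inv_mem (pow_mem (pow_mem hk 3) 5)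
  exact hι.inj (by rw [h4, map_one])

include A h₁ h₂ r in
/-- if `L₁` has an element of order 5 normalizing `L₂` then `L₂` normalizes `L₁` -/
theorem five_aux (hne : ι₁.range ≠ ι₂.range) {d : L} (hd : d ≠ 1) (hd5 : d ^ 5 = 1)
    (hdN : ι₁ d ∈ N ι₂.range) (l : L) : ι₂ l ∈ N ι₁.range := by
  have := A.finite
  have : Fact (Nat.Prime 5) := ⟨by norm_num⟩
  obtain ⟨k₀, hk₀, b, hb5, hdb⟩ := dec_five h₂ A hdN (by rw [← map_pow, hd5, map_one])
  have hk₀c := mem_C_range.1 hk₀
  have hb : b ≠ 1 := by
    rintro rfl
    rw [map_one, mul_one] at hdb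
    exact no_cent A h₁ r hd hd5 (hdb ▸ hk₀)
  obtain ⟨B, hB⟩ := exists_FC A hb hb5
  obtain ⟨D, hD⟩ := exists_FC A hd hd5
  obtain ⟨eB⟩ := hB.iso
  obtain ⟨v, i, v1, v5, i1, ii, iv⟩ := exists_five eB
  -- elements of `B` commute with `d`
  have hBd : ∀ c ∈ B, ι₂ c * ι₁ d = ι₁ d * ι₂ c := by
    intro c hc
    rw [hdb]
    have e1 : Commute (ι₂ c) k₀ := (hk₀c c).symm
    have e2 : Commute (ι₂ c) (ι₂ b) := by
      show ι₂ c * ι₂ b = ι₂ b * ι₂ c
      rw [← map_mul, hB.comm c hc, map_mul]
    exact (e1.mul_right e2).eq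
  have hBN : ∀ c ∈ B, ι₂ c ∈ N ι₁.range := fun c hc => cent_le A h₁ hd hd5 (hBd c hc)
  obtain ⟨k₁, hk₁, q₁, hq₁, e₁⟩ := dec h₁.inj hD (hBN _ v.2) (hBd _ v.2)
  obtain ⟨k₂, hk₂, q₂, hq₂, e₂⟩ := dec h₁.inj hD (hBN _ i.2) (hBd _ i.2)
  have iv' : (i : L) * v * i = (v : L)⁻¹ := congrArg Subtype.val iv
  have ii' : (i : L) * i = 1 := congrArg Subtype.val ii
  have i3 : (i : L)⁻¹ = i := inv_eq_of_mul_eq_one_left ii'
  have v5' : (v : L) ^ 5 = 1 := congrArg Subtype.val v5
  have v1' : (v : L) ≠ 1 := fun h => v1 (Subtype.ext h)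
  -- `ι₂ v = k * ι₁ a` with `a ∈ D`
  set a := (q₂ * q₁ * q₂⁻¹ * q₁⁻¹) ^ 2 with ha
  set k := (k₂ * k₁ * k₂⁻¹ * k₁⁻¹) ^ 2 with hk
  have haD : a ∈ D := pow_mem (hD.comm_mem hq₂ hq₁) 2
  have hkC : k ∈ C ι₁.range :=
    pow_mem (mul_mem (mul_mem (mul_mem hk₂ hk₁) (inv_mem hk₂)) (inv_mem hk₁)) 2
  have hva : ι₂ v = k * ι₁ a := by
    have h3 : (v : L) = (i * v * (i : L)⁻¹ * (v : L)⁻¹) ^ 2 := by
      rw [i3, iv']
      calc (v : L) = (v : L) ^ 5 * ((v : L)⁻¹ * (v : L)⁻¹) ^ 2 := by group
        _ = _ := by rw [v5', one_mul]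
    have hcc : Commute (k₂ * k₁ * k₂⁻¹ * k₁⁻¹) (ι₁ (q₂ * q₁ * q₂⁻¹ * q₁⁻¹)) :=
      mem_C_range.1 (mul_mem (mul_mem (mul_mem hk₂ hk₁) (inv_mem hk₂)) (inv_mem hk₁)) _
    rw [h3, map_pow, hk, ha, map_pow, ← hcc.mul_pow]
    congr 1
    rw [map_mul, map_mul, map_mul, map_inv, map_inv, e₁, e₂, mul_inv_rev, mul_inv_rev, map_mul,
      map_mul, map_mul, map_inv, map_inv]
    have f11 : Commute k₁ (ι₁ q₁) := mem_C_range.1 hk₁ _
    have f12 : Commute k₁ (ι₁ q₂) := mem_C_range.1 hk₁ _
    have f21 : Commute k₂ (ι₁ q₁) := mem_C_range.1 hk₂ _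
    have f22 : Commute k₂ (ι₁ q₂) := mem_C_range.1 hk₂ _
    have g1 : Commute (ι₁ q₂ * ι₁ q₁ * (ι₁ q₂)⁻¹ * (ι₁ q₁)⁻¹) k₁ :=
      (((f12.symm.mul_left f11.symm).mul_left f12.symm.inv_left).mul_left f11.symm.inv_left)
    calc k₂ * ι₁ q₂ * (k₁ * ι₁ q₁) * ((ι₁ q₂)⁻¹ * k₂⁻¹) * ((ι₁ q₁)⁻¹ * k₁⁻¹)
        = k₂ * (ι₁ q₂ * k₁) * ι₁ q₁ * ((ι₁ q₂)⁻¹ * k₂⁻¹) * ((ι₁ q₁)⁻¹ * k₁⁻¹) := by group
      _ = k₂ * (k₁ * ι₁ q₂) * ι₁ q₁ * (k₂⁻¹ * (ι₁ q₂)⁻¹) * ((ι₁ q₁)⁻¹ * k₁⁻¹) := by
          rw [f12.eq, f22.inv_inv.eq]
      _ = k₂ * k₁ * ι₁ q₂ * (ι₁ q₁ * k₂⁻¹) * (ι₁ q₂)⁻¹ * ((ι₁ q₁)⁻¹ * k₁⁻¹) := by group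
      _ = k₂ * k₁ * ι₁ q₂ * (k₂⁻¹ * ι₁ q₁) * (ι₁ q₂)⁻¹ * ((ι₁ q₁)⁻¹ * k₁⁻¹) := by
          rw [f21.inv_left.eq]
      _ = k₂ * k₁ * (ι₁ q₂ * k₂⁻¹) * ι₁ q₁ * (ι₁ q₂)⁻¹ * ((ι₁ q₁)⁻¹ * k₁⁻¹) := by group
      _ = k₂ * k₁ * (k₂⁻¹ * ι₁ q₂) * ι₁ q₁ * (ι₁ q₂)⁻¹ * ((ι₁ q₁)⁻¹ * k₁⁻¹) := by
          rw [f22.inv_left.eq]
      _ = k₂ * k₁ * k₂⁻¹ * ((ι₁ q₂ * ι₁ q₁ * (ι₁ q₂)⁻¹ * (ι₁ q₁)⁻¹) * k₁⁻¹) := by group
      _ = k₂ * k₁ * k₂⁻¹ * (k₁⁻¹ * (ι₁ q₂ * ι₁ q₁ * (ι₁ q₂)⁻¹ * (ι₁ q₁)⁻¹)) := by
          rw [g1.inv_right.eq]
      _ = _ := by group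
  have hka : Commute k (ι₁ a) := mem_C_range.1 hkC a
  have ha5 : a ^ 5 = 1 := by
    have h3 : k ^ 5 * ι₁ a ^ 5 = 1 := by rw [← hka.mul_pow, ← hva, ← map_pow, v5', map_one]
    have h4 : ι₁ (a ^ 5) = 1 := by
      apply h₁.te.disj _ ⟨_, rfl⟩
      rw [map_pow, eq_inv_of_mul_eq_one_right h3]
      exact inv_mem (pow_mem hkC 5)
    exact h₁.inj (by rw [h4, map_one])
  have ha1 : a ≠ 1 := by
    intro e
    rw [e, map_one, mul_one] at hva
    exact no_cent A h₂ r.symm v1' v5' (hva ▸ hkC)
  -- the centralizer of `a` normalizes `L₂`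
  have hcaN : ∀ y : L, y * a = a * y → ι₁ y ∈ N ι₂.range := by
    intro y hy
    apply cent_le A h₂ v1' v5'
    rw [hva]
    have e1 : Commute (ι₁ y) k := (mem_C_range.1 hkC y).symm
    have e2 : Commute (ι₁ y) (ι₁ a) := by
      show ι₁ y * ι₁ a = ι₁ a * ι₁ y
      rw [← map_mul, hy, map_mul]
    exact (e1.mul_right e2).eq
  have had : a * d = d * a := hD.comm a haD
  obtain ⟨k₃, hk₃, b₁, hb₁5, hab⟩ := dec_five h₂ A (hcaN a rfl) (by rw [← map_pow, ha5, map_one])
  have hk₃c := mem_C_range.1 hk₃
  -- products
  have hprod : ∀ i j : ℕ, ι₁ (d ^ i * a ^ j) = k₀ ^ i * k₃ ^ j * ι₂ (b ^ i * b₁ ^ j) := by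
    intro i j
    have e1 : Commute k₀ (ι₂ b) := hk₀c b
    have e2 : Commute k₃ (ι₂ b₁) := hk₃c b₁
    rw [map_mul, map_pow, map_pow, hdb, hab, e1.mul_pow, e2.mul_pow, map_mul, map_pow, map_pow]
    have e3 : Commute (k₃ ^ j) (ι₂ b ^ i) := (show Commute k₃ (ι₂ b) from hk₃c b).pow_pow j i
    calc k₀ ^ i * ι₂ b ^ i * (k₃ ^ j * ι₂ b₁ ^ j) = k₀ ^ i * (ι₂ b ^ i * k₃ ^ j) * ι₂ b₁ ^ j := by group
      _ = _ := by rw [← e3.eq]; group
  have hkk : ∀ i j : ℕ, k₀ ^ i * k₃ ^ j ∈ C ι₂.range := fun i j =>
    mul_mem (pow_mem hk₀ i) (pow_mem hk₃ j)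
  have hda5 : ∀ i j : ℕ, (d ^ i * a ^ j) ^ 5 = 1 := by
    intro i j
    have e1 : Commute (d ^ i) (a ^ j) := (show Commute d a from had.symm).pow_pow i j
    rw [e1.mul_pow, ← pow_mul, ← pow_mul, mul_comm i, mul_comm j, pow_mul, pow_mul, hd5, ha5, one_pow,
      one_pow, one_mul]
  have hbb : b * b₁ = b₁ * b := by
    have e1 : ι₁ (d * a) = k₀ * k₃ * ι₂ (b * b₁) := by simpa only [_root_.map_mul, _root_.pow_one] using hprod 1 1
    have e2 : ι₁ (a * d) = k₃ * k₀ * ι₂ (b₁ * b) := by
      rw [map_mul, hdb, hab, map_mul]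
      have e3 : Commute k₀ (ι₂ b₁) := hk₀c b₁
      calc k₃ * ι₂ b₁ * (k₀ * ι₂ b) = k₃ * (ι₂ b₁ * k₀) * ι₂ b := by group
        _ = _ := by rw [← e3.eq]; group
    rw [had, e1] at e2
    have e4 : ι₂ ((b * b₁) * (b₁ * b)⁻¹) = (k₀ * k₃)⁻¹ * (k₃ * k₀) := by
      rw [map_mul, map_inv]
      calc ι₂ (b * b₁) * (ι₂ (b₁ * b))⁻¹
          = (k₀ * k₃)⁻¹ * (k₀ * k₃ * ι₂ (b * b₁)) * (ι₂ (b₁ * b))⁻¹ := by group
        _ = _ := by rw [e2]; group
    have e5 : ι₂ ((b * b₁) * (b₁ * b)⁻¹) = 1 := by
      apply h₂.te.disj _ ⟨_, rfl⟩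
      rw [e4]
      exact mul_mem (inv_mem (mul_mem hk₀ hk₃)) (mul_mem hk₃ hk₀)
    have e6 : (b * b₁) * (b₁ * b)⁻¹ = 1 := h₂.inj (by rw [e5, map_one])
    exact mul_inv_eq_one.1 e6
  have hind : ∀ i j : ℕ, b ^ i * b₁ ^ j = 1 → i % 5 = 0 ∧ j % 5 = 0 := by
    intro i j hij
    have e1 := hprod i j
    rw [hij, map_one, mul_one] at e1
    have e2 : d ^ i * a ^ j = 1 := by
      by_contra hcon
      exact no_cent A h₁ r hcon (hda5 i j) (e1 ▸ hkk i j)
    have e3 : a ^ j = d ^ (4 * i) := by
      rw [eq_inv_of_mul_eq_one_right e2, inv_eq_iff_mul_eq_one, ← pow_add,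
        show i + 4 * i = 5 * i by ring, pow_mul, hd5, one_pow]
    have e4 : a ^ j = 1 := hD.inter (pow_mem haD j) e3
    have e5 : d ^ i = 1 := by rw [e4, mul_one] at e2; exact e2
    have od : orderOf d = 5 := orderOf_eq_prime hd5 hd
    have oa : orderOf a = 5 := orderOf_eq_prime ha5 ha1
    have h6 := orderOf_dvd_of_pow_eq_one e5
    have h7 := orderOf_dvd_of_pow_eq_one e4
    rw [od] at h6
    rw [oa] at h7
    omega
  have htop := top_of_five A hb5 hb₁5 hbb hind ((N ι₁.range).comap ι₂) (by
    intro i j x hij hx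
    rw [mem_comap]
    apply cent_le A h₁ (d := d ^ i * a ^ j)
    · intro e
      apply hij
      have e1 := hprod i j
      rw [e, map_one] at e1
      have e2 : ι₂ (b ^ i * b₁ ^ j) = 1 := by
        apply h₂.te.disj _ ⟨_, rfl⟩
        rw [eq_inv_of_mul_eq_one_right e1.symm]
        exact inv_mem (hkk i j)
      exact h₂.inj (by rw [e2, map_one])
    · exact hda5 i j
    · rw [hprod]
      have e1 : Commute (ι₂ x) (k₀ ^ i * k₃ ^ j) := (mem_C_range.1 (hkk i j) x).symm
      have e2 : Commute (ι₂ x) (ι₂ (b ^ i * b₁ ^ j)) := by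
        show ι₂ x * ι₂ (b ^ i * b₁ ^ j) = ι₂ (b ^ i * b₁ ^ j) * ι₂ x
        rw [← map_mul, hx, map_mul]
      exact (e1.mul_right e2).eq)
  have : l ∈ (N ι₁.range).comap ι₂ := by rw [htop]; trivial
  exact this

include A h₁ h₂ r in
/-- `(*)`: no element of order 5 of `L₁` normalizes `L₂` -/
theorem five_prime (hne : ι₁.range ≠ ι₂.range) {d : L} (hd : d ≠ 1) (hd5 : d ^ 5 = 1) :
    ι₁ d ∉ N ι₂.range := by
  intro hdN
  have n21 : ∀ l, ι₂ l ∈ N ι₁.range := five_aux A h₁ h₂ r hne hd hd5 hdN
  have n12 : ∀ l, ι₁ l ∈ N ι₂.range := five_aux A h₂ h₁ r.symm hne.symm A.w1 A.w5 (n21 _)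
  have hX : (ι₂.range.comap ι₁).Normal := by
    constructor
    intro y hy z
    rw [mem_comap] at hy ⊢
    rw [map_mul, map_mul, map_inv]
    exact conj_mem (n12 z) hy
  rcases hX.eq_bot_or_eq_top with h | h
  · obtain ⟨a, b, hab⟩ := r.no_comm h₁
    apply hab
    obtain ⟨a', ha'⟩ := conj_mem (n21 b) (show ι₁ a ∈ ι₁.range from ⟨a, rfl⟩)
    obtain ⟨b', hb'⟩ := conj_mem (n12 a) (show ι₂ b ∈ ι₂.range from ⟨b, rfl⟩)
    have h1 : a * a'⁻¹ ∈ ι₂.range.comap ι₁ := by
      rw [mem_comap]
      refine ⟨b' * b⁻¹, ?_⟩
      rw [map_mul, map_mul, map_inv, map_inv, ha', hb']; group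
    rw [h, mem_bot] at h1
    have h2 : a' = a := (mul_inv_eq_one.1 h1).symm
    rw [h2] at ha'
    calc ι₁ a * ι₂ b = (ι₂ b * ι₁ a * (ι₂ b)⁻¹) * ι₂ b := by rw [← ha']
      _ = _ := by group
  · apply hne
    have hle : ι₁.range ≤ ι₂.range := by
      rintro _ ⟨l, rfl⟩
      have : l ∈ ι₂.range.comap ι₁ := by rw [h]; trivial
      exact this
    have hcard : Nat.card ι₂.range = Nat.card ι₁.range := by
      obtain ⟨g, hg⟩ := r.cj.exists_eq
      rw [hg, card_cj]
    exact eq_of_le_of_card_ge hle hcard.le

include A h₁ h₂ r in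
/-- there are no inner pairs -/
theorem no_inner (F4 : ∀ l : L, l * l = 1 → ∃ d : L, d ≠ 1 ∧ d ^ 5 = 1 ∧ d * l = l * d)
    (hne : ι₁.range ≠ ι₂.range) {x : G} (hx : x ∈ C ι₂.range) (hx1 : x ≠ 1) (hxx : x * x = 1) {k : G}
    (hk : k ∈ C ι₁.range) {l : L} (he : x = k * ι₁ l) : False := by
  have hkl : Commute k (ι₁ l) := mem_C_range.1 hk l
  have h3 : ι₁ (l * l) = (k * k)⁻¹ := by
    rw [eq_inv_iff_mul_eq_one, map_mul]
    calc ι₁ l * ι₁ l * (k * k) = ι₁ l * (ι₁ l * k) * k := by group
      _ = ι₁ l * (k * ι₁ l) * k := by rw [hkl.eq]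
      _ = (ι₁ l * k) * (ι₁ l * k) := by group
      _ = (k * ι₁ l) * (k * ι₁ l) := by rw [hkl.eq]
      _ = 1 := by rw [← he, hxx]
  have h4 : ι₁ (l * l) = 1 := by
    apply h₁.te.disj _ ⟨_, rfl⟩
    rw [h3]
    exact inv_mem (mul_mem hk hk)
  have hll : l * l = 1 := h₁.inj (by rw [h4, map_one])
  obtain ⟨d, hd, hd5, hdl⟩ := F4 l hll
  apply five_prime A h₁ h₂ r hne hd hd5
  apply h₂.te.nrm hx hx1 hxx
  rw [he]
  have e1 : Commute (ι₁ d) k := (mem_C_range.1 hk d).symm
  have e2 : Commute (ι₁ d) (ι₁ l) := by
    show ι₁ d * ι₁ l = ι₁ l * ι₁ d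
    rw [← map_mul, hdl, map_mul]
  exact (e1.mul_right e2).eq

end pair

section main

variable [Finite G] {E : El L} (A : Ax E) [IsSimpleGroup L] {ι : L →* G} (h : NC E ι)

/-- `x` induces an inner automorphism -/
def Inn (ι : L →* G) (x : G) : Prop := ∃ q : L, ∀ l, x * ι l * x⁻¹ = ι (q * l * q⁻¹)

theorem Inn.mul {ι : L →* G} {x y : G} (hx : Inn ι x) (hy : Inn ι y) : Inn ι (x * y) := by
  obtain ⟨p, hp⟩ := hx
  obtain ⟨q, hq⟩ := hy
  refine ⟨p * q, fun l => ?_⟩
  calc x * y * ι l * (x * y)⁻¹ = x * (y * ι l * y⁻¹) * x⁻¹ := by group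
    _ = _ := by rw [hq, hp]; group

theorem Inn.one {ι : L →* G} : Inn ι 1 := ⟨1, fun l => by simp⟩

theorem Inn.pow {ι : L →* G} {x : G} (hx : Inn ι x) (n : ℕ) : Inn ι (x ^ n) := by
  induction n with
  | zero => rw [pow_zero]; exact Inn.one
  | succ n ih => rw [pow_succ]; exact ih.mul hx

include A in
/-- the product of two elements inducing non-inner automorphisms induces an inner one -/
theorem inn_mul {ι : L →* G} (hι : Function.Injective ι) {x y : G} (hx : x ∈ N ι.range)
    (hy : y ∈ N ι.range) (hx' : ¬ Inn ι x) (hy' : ¬ Inn ι y) : Inn ι (x * y) := by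
  obtain ⟨α, hα⟩ := exists_aut hι hx
  obtain ⟨β, hβ⟩ := exists_aut hι hy
  obtain ⟨c, hc⟩ := A.mul_inner α β
    (fun ⟨c, hc⟩ => hx' ⟨c, fun l => by rw [← hα, hc]⟩)
    (fun ⟨c, hc⟩ => hy' ⟨c, fun l => by rw [← hβ, hc]⟩)
  refine ⟨c, fun l => ?_⟩
  rw [← hc, hα, hβ]; group

include A h in
theorem not_good (F4 : ∀ l : L, l * l = 1 → ∃ d : L, d ≠ 1 ∧ d ^ 5 = 1 ∧ d * l = l * d) :
    ¬ Good ι.range := by
  rintro ⟨B, hB, hne, h4⟩
  obtain ⟨g, rfl⟩ := hB.exists_eq
  set ι₂ := cjι g ι with hι₂
  rw [← range_cjι] at hne h4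
  have h₂ : NC E ι₂ := h.cj g
  have r : Rl ι ι₂ := ⟨g, fun l => rfl⟩
  obtain ⟨P, hP, -, hPle, hdvd⟩ := exists_two_subgroup (C ι.range ⊓ N ι₂.range) ⊥
    (IsPGroup.of_bot) bot_le
  have h4P : 4 ∣ Nat.card P := hdvd 2 (by norm_num only [_root_.Subgroup.mem_inf]; exact h4)
  -- an element `x ≠ 1` of `P` inducing an inner automorphism on `L₂`
  obtain ⟨x, hxP, hx1, hxi⟩ : ∃ x ∈ P, x ≠ 1 ∧ Inn ι₂ x := by
    by_contra hcon
    push Not at hcon
    have hex : ∃ x ∈ P, x ≠ 1 := by
      by_contra h1
      push Not at h1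
      have : P = ⊥ := by
        rw [eq_bot_iff]
        intro x hx
        exact mem_bot.2 (h1 x hx)
      rw [this, card_bot] at h4P
      omega
    obtain ⟨x, hx, hx1⟩ := hex
    have hex2 : ∃ y ∈ P, y ≠ 1 ∧ y ≠ x⁻¹ := by
      by_contra h1
      push Not at h1
      have hsub : (P : Set G) ⊆ {1, x⁻¹} := by
        intro y hy
        by_cases h2 : y = 1
        · exact Or.inl h2
        · exact Or.inr (h1 y hy h2)
      have h3 : Nat.card P ≤ 2 := by
        have h4 := Set.ncard_le_ncard hsub (Set.toFinite _)
        have h5 : Nat.card P = (P : Set G).ncard := rfl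
        rw [h5]
        exact h4.trans ((Set.ncard_insert_le _ _).trans (by rw [Set.ncard_singleton]))
      have := Nat.le_of_dvd Nat.card_pos h4P
      omega
    obtain ⟨y, hy, hy1, hyx⟩ := hex2
    have h5 := inn_mul A h₂.inj (hPle hx).2 (hPle hy).2 (hcon x hx hx1) (hcon y hy hy1)
    exact hcon (x * y) (mul_mem hx hy) (fun e => hyx (eq_inv_of_mul_eq_one_right e)) h5
  -- an involution
  obtain ⟨n, hn⟩ : ∃ n, x ^ 2 ^ n ≠ 1 ∧ x ^ 2 ^ (n + 1) = 1 := by
    obtain ⟨m, hm⟩ := hP ⟨x, hxP⟩
    have hm' : x ^ 2 ^ m = 1 := congrArg Subtype.val hm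
    classical
    have hex : ∃ m, x ^ 2 ^ m = 1 := ⟨m, hm'⟩
    have h0 : Nat.find hex ≠ 0 := by
      intro h0
      have := Nat.find_spec hex
      rw [h0, pow_zero, pow_one] at this
      exact hx1 this
    obtain ⟨n, hn⟩ := Nat.exists_eq_succ_of_ne_zero h0
    refine ⟨n, Nat.find_min hex (by omega), ?_⟩
    have := Nat.find_spec hex
    rwa [hn] at this
  set z := x ^ 2 ^ n with hz
  have hzP : z ∈ P := pow_mem hxP _
  have hzz : z * z = 1 := by rw [hz, ← pow_add, ← two_mul, ← pow_succ']; exact hn.2
  obtain ⟨q, hq⟩ := hxi.pow (2 ^ n)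
  obtain ⟨k, hk, he⟩ := dec_of_inner hq
  exact no_inner A h₂ h r.symm F4 hne.symm (hPle hzP).1 hn.1 hzz hk he

include A h in
theorem outer : Outer ι.range := by
  intro y hy hy1 hyy hout
  have := A.finite
  have : Fact (Nat.Prime 2) := ⟨by norm_num⟩
  have hyi : y⁻¹ = y := inv_eq_of_mul_eq_one_left hyy
  have hyA : y ∉ ι.range := by
    intro h1
    apply hout y h1
    rw [hyy]
    exact one_mem _
  have hy2 : IsPGroup 2 (zpowers y) := by
    apply IsPGroup.of_card (n := 1)
    rw [Nat.card_zpowers, pow_one]
    exact orderOf_eq_prime (by rw [sq]; exact hyy) hy1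
  obtain ⟨P, hP, hyP, hPle, hdvd⟩ := exists_two_subgroup (ι.range ⊔ zpowers y) (zpowers y) hy2
    le_sup_right
  have hyP : y ∈ P := hyP (mem_zpowers y)
  -- `P` does not centralize `y`
  have hne : P ⊓ centralizer {y} ≠ P := by
    intro hPc
    rw [inf_eq_left] at hPc
    -- the Sylow subgroup of `L`
    have h2 : IsPGroup 2 ((P ⊓ ι.range).comap ι) := by
      rintro ⟨x, hx⟩
      obtain ⟨m, hm⟩ := hP ⟨ι x, hx.1⟩
      refine ⟨m, Subtype.ext (h.inj ?_)⟩
      show ι (x ^ 2 ^ m) = ι 1
      rw [map_pow, map_one]
      exact congrArg Subtype.val hm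
    obtain ⟨S, hS⟩ := h2.exists_le_sylow
    have hcP : Nat.card P = 2 * Nat.card ↥(P ⊓ ι.range) := by
      have h3 : P = (P ⊓ ι.range) ⊔ zpowers y := by
        apply le_antisymm
        · intro x hx
          rcases (mem_sup_zpowers hy hyy).1 (hPle hx) with h4 | h4
          · exact (le_sup_left : (P ⊓ ι.range) ≤ _) ⟨hx, h4⟩
          · have : x = x * y * y := by rw [mul_assoc, hyy, mul_one]
            rw [this]
            exact mul_mem ((le_sup_left : (P ⊓ ι.range) ≤ _) ⟨mul_mem hx hyP, h4⟩)
              ((le_sup_right : zpowers y ≤ _) (mem_zpowers y))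
        · apply sup_le inf_le_left
          rw [zpowers_le]; exact hyP
      have hyN : y ∈ N (P ⊓ ι.range) :=
        mem_N_of fun a ha => ⟨P.mul_mem (P.mul_mem hyP ha.1) (P.inv_mem hyP), conj_mem hy ha.2⟩
      have h5 := card_sup_zpowers hyN hyy (fun h4 => hyA h4.2)
      rw [← h3] at h5
      exact h5
    have hcA : Nat.card ↥(ι.range ⊔ zpowers y) = 2 * Nat.card L := by
      rw [card_sup_zpowers hy hyy hyA, Nat.card_congr (MonoidHom.ofInjective h.inj).toEquiv.symm]
    obtain ⟨m, hm⟩ := IsPGroup.iff_card.1 S.2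
    have hmL : 2 ^ m ∣ Nat.card L := by
      have : Nat.card S ∣ Nat.card L := card_subgroup_dvd_card _
      rwa [hm] at this
    have hmP : 2 ^ (m + 1) ∣ Nat.card P := by
      apply hdvd
      rw [hcA, pow_succ']
      exact mul_dvd_mul_left 2 hmL
    have hmP' : 2 ^ m ∣ Nat.card ↥(P ⊓ ι.range) := by
      rw [hcP, pow_succ'] at hmP
      exact (mul_dvd_mul_iff_left (by norm_num)).1 hmP
    have hcc : Nat.card ((P ⊓ ι.range).comap ι) = Nat.card ↥(P ⊓ ι.range) := by
      have h3 : ((P ⊓ ι.range).comap ι).map ι = P ⊓ ι.range := by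
        rw [map_comap_eq, inf_eq_right]
        exact inf_le_right
      rw [← h3, comap_map_eq_self_of_injective h.inj]
      exact Nat.card_congr (((P ⊓ ι.range).comap ι).equivMapOfInjective ι h.inj).toEquiv
    have hSe : (P ⊓ ι.range).comap ι = S := by
      apply eq_of_le_of_card_ge hS
      rw [hcc]
      calc Nat.card S = 2 ^ m := hm
        _ ≤ _ := Nat.le_of_dvd Nat.card_pos hmP'
    obtain ⟨α, hα⟩ := exists_aut h.inj hy
    obtain ⟨c, hc⟩ := A.inner_of_sylow α S (by
      intro x hx
      have h3 : x ∈ (P ⊓ ι.range).comap ι := by rw [hSe]; exact hx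
      apply h.inj
      rw [hα]
      have h4 : ι x * y = y * ι x := mem_cent.1 (hPc h3.1)
      rw [← h4, mul_inv_cancel_right])
    obtain ⟨k, hk, he⟩ := dec_of_inner (ι := ι) (x := y) (q := c) (fun l => by rw [← hα, hc])
    apply hout (ι c)⁻¹ (inv_mem ⟨c, rfl⟩)
    rw [he, mem_C_range.1 hk, inv_mul_cancel_left]
    exact hk
  obtain ⟨c₀, hc₀P, hc₀D, hnorm⟩ := exists_normalizing P (P ⊓ centralizer {y}) hP inf_le_left hne
  have hyD : y ∈ P ⊓ centralizer {y} := ⟨hyP, mem_cent.2 rfl⟩
  obtain ⟨c, hcA, hcP, hcD, hcn⟩ : ∃ c ∈ ι.range, c ∈ P ∧ c ∉ P ⊓ centralizer {y} ∧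
      ∀ x ∈ P ⊓ centralizer {y}, c * x * c⁻¹ ∈ P ⊓ centralizer {y} := by
    rcases (mem_sup_zpowers hy hyy).1 (hPle hc₀P) with h1 | h1
    · exact ⟨c₀, h1, hc₀P, hc₀D, hnorm⟩
    · refine ⟨c₀ * y, h1, mul_mem hc₀P hyP, ?_, ?_⟩
      · intro h'
        apply hc₀D
        have := mul_mem h' (inv_mem hyD)
        rwa [mul_inv_cancel_right] at this
      · intro x hx
        rw [show c₀ * y * x * (c₀ * y)⁻¹ = c₀ * (y * x * y⁻¹) * c₀⁻¹ by group]
        exact hnorm _ (mul_mem (mul_mem hyD hx) (inv_mem hyD))
  set s := c * y * c⁻¹ * y⁻¹ with hs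
  have hsA : s ∈ ι.range := by
    rw [hs, show c * y * c⁻¹ * y⁻¹ = c * (y * c⁻¹ * y⁻¹) by group]
    exact mul_mem hcA (conj_mem hy (inv_mem hcA))
  have hsD : s ∈ P ⊓ centralizer {y} := mul_mem (hcn y hyD) (inv_mem hyD)
  have hsy : s * y = y * s := mem_cent.1 hsD.2
  have hcy : c * y * c⁻¹ = s * y := by rw [hs]; group
  refine ⟨s, hsA, ?_, ?_, hsy, c, hcA, hcy⟩
  · intro e
    rw [e, one_mul] at hcy
    exact hcD ⟨hcP, mem_cent.2 (mul_inv_eq_iff_eq_mul.1 hcy)⟩
  · have e1 : (s * y) * (s * y) = 1 := by
      rw [← hcy, show c * y * c⁻¹ * (c * y * c⁻¹) = c * (y * y) * c⁻¹ by group, hyy]; group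
    have e2 : (s * y) * (s * y) = s * s * (y * y) := by
      calc (s * y) * (s * y) = s * (y * s) * y := by group
        _ = s * (s * y) * y := by rw [hsy]
        _ = _ := by group
    rw [e2, hyy, mul_one] at e1
    exact e1

include A h in
/-- **Step 6** -/
theorem normal (F4 : ∀ l : L, l * l = 1 → ∃ d : L, d ≠ 1 ∧ d ^ 5 = 1 ∧ d * l = l * d)
    (hcomm : CommHalf G) (h4 : 4 ∣ Nat.card (C ι.range)) : ι.range.Normal := by
  have hs : IsSimpleGroup ι.range := (MonoidHom.ofInjective h.inj).symm.isSimpleGroup
  have hi : ι E.i₁ ∈ ι.range := ⟨_, rfl⟩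
  rcases normal_or_good h.te hs hcomm (outer A h) h4 hi
    (fun e => A.i₁1 (h.inj (by rw [e, map_one]))) (by rw [← map_mul, A.i₁i₁, map_one]) with h1 | h1
  · exact h1
  · exact (not_good A h F4 h1).elim

end main

end Cfsg.Agent.StdG24.NormalCase
end

-- part: StdG24/NormalStd
section
/-!
# Step 6 for a standard subgroup
-/

set_option autoImplicit false

namespace Cfsg.Agent.StdG24.NormalStd

open Subgroup Cfsg.Agent.StdG24.AutL Cfsg.Agent.StdG24.NormalCase
open Cfsg.Agent.StdAlt.Conj Cfsg.Agent.StdAlt.Pairs Cfsg.Agent.StdAlt.First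

variable {G : Type*} [Group G] [Finite G]

/-- a subgroup of 2-rank at least two has order divisible by four -/
theorem four_dvd {X : Subgroup G} (h : ¬ Cfsg.PRankLE 2 1 X) : 4 ∣ Nat.card X := by
  obtain ⟨x, hx, y, hy, hx1, hy1, hxy, hxx, hyy, hc⟩ := TwoGenCore.not_pRankLE_one_iff.1 h
  rw [← card_four (htt := hxx) (hyy := hyy) (hty := hc) hx1 hy1 hxy]
  apply card_dvd_of_le
  rintro z (rfl | rfl | rfl | rfl)
  · exact one_mem _
  · exact hx
  · exact hy
  · exact mul_mem hx hy

/-- an embedding of `L` with standard image -/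
theorem nc_of_standard {A₀ : Subgroup G} (hA : Cfsg.IsStandardSubgroup A₀) {L : Type*} [Group L]
    [IsSimpleGroup L] {E : El L} (A : Ax E) (e : L ≃* A₀)
    (nw : ∀ x : G, x * e E.w = e E.w * x → ∀ c ∈ E.As, ∃ c' ∈ E.As, x * e c * x⁻¹ = e c')
    (nu : ∀ x : G, x * e E.u = e E.u * x → ∀ c ∈ E.Al, ∃ c' ∈ E.Al, x * e c * x⁻¹ = e c') :
    NC E (A₀.subtype.comp e.toMonoidHom) ∧ (A₀.subtype.comp e.toMonoidHom).range = A₀ := by
  have hs : IsSimpleGroup A₀ := e.symm.isSimpleGroup
  have hT := TE.of_standard hA hs
  have hr : (A₀.subtype.comp e.toMonoidHom).range = A₀ := by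
    rw [MonoidHom.range_comp, MonoidHom.range_eq_top_of_surjective _ e.surjective, ← MonoidHom.range_eq_map,
      range_subtype]
  refine ⟨⟨?_, ?_, ?_, ?_, nw, nu⟩, hr⟩
  · exact A₀.subtype_injective.comp e.injective
  · rw [hr]; exact hT
  · intro g
    by_contra hcon
    push Not at hcon
    have hcomm : ∀ a ∈ A₀, ∀ b ∈ A₀, a * (g * b * g⁻¹) = (g * b * g⁻¹) * a := by
      intro a ha b hb
      have h1 : (e (e.symm ⟨a, ha⟩) : G) * (g * (e (e.symm ⟨b, hb⟩) : G) * g⁻¹) =
        (g * (e (e.symm ⟨b, hb⟩) : G) * g⁻¹) * (e (e.symm ⟨a, ha⟩) : G) :=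
        hcon (e.symm ⟨a, ha⟩) (e.symm ⟨b, hb⟩)
      rwa [MulEquiv.apply_symm_apply, MulEquiv.apply_symm_apply] at h1
    have hne : A₀.map (MulAut.conj g).toMonoidHom = A₀ := by
      by_contra h1
      apply hA.2.2.1 g h1
      rw [commutator_eq_bot_iff_le_centralizer]
      intro a ha
      rw [mem_centralizer_iff]
      rintro _ ⟨b, hb, rfl⟩
      exact (hcomm a ha b hb).symm
    have h2 : (e E.u : G) ∈ C A₀ := by
      rw [mem_C]
      intro a ha
      have h3 : a ∈ A₀.map (MulAut.conj g).toMonoidHom := by rw [hne]; exact ha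
      obtain ⟨b, hb, rfl⟩ := h3
      exact hcomm _ (e E.u).2 b hb
    have h3 := hT.disj _ (e E.u).2 h2
    apply A.u1
    apply e.injective
    rw [map_one]
    exact Subtype.ext h3
  · rw [hr]
    have h2 : 2 ∣ Nat.card (C A₀) := even_iff_two_dvd.1 hA.2.1.1
    have : Fact (Nat.Prime 2) := ⟨by norm_num⟩
    obtain ⟨t, ht⟩ := exists_prime_orderOf_dvd_card' 2 h2
    have ht' : orderOf (t : G) = 2 := by rw [orderOf_coe]; exact ht
    refine ⟨t, t.2, ?_, ?_⟩
    · intro e
      rw [e, orderOf_one] at ht'
      exact absurd ht' (by norm_num)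
    · rw [← sq, ← ht']; exact pow_orderOf_eq_one _

/-- **Step 6**: if `As ⊲ C_G(w)` and `Al ⊲ C_G(u)` then the standard subgroup is normal -/
theorem normal_of_standard (hcomm : CommHalf G) {A₀ : Subgroup G} (hA : Cfsg.IsStandardSubgroup A₀) (hR : ¬ Cfsg.PRankLE 2 1 ↥(centralizer (A₀ : Set G)))
    {L : Type*} [Group L] [IsSimpleGroup L] {E : El L} (A : Ax E)
    (F4 : ∀ l : L, l * l = 1 → ∃ d : L, d ≠ 1 ∧ d ^ 5 = 1 ∧ d * l = l * d) (e : L ≃* A₀)
    (nw : ∀ x : G, x * e E.w = e E.w * x → ∀ c ∈ E.As, ∃ c' ∈ E.As, x * e c * x⁻¹ = e c')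
    (nu : ∀ x : G, x * e E.u = e E.u * x → ∀ c ∈ E.Al, ∃ c' ∈ E.Al, x * e c * x⁻¹ = e c') :
    A₀.Normal := by
  obtain ⟨h, hr⟩ := nc_of_standard hA A e nw nu
  have h4 := four_dvd hR
  have := normal A h F4 hcomm (by rw [hr]; exact h4)
  rwa [hr] at this

/-- the same for the group on 416 points -/
theorem f4 (l : Words.L0) (hl : l * l = 1) : ∃ d : Words.L0, d ≠ 1 ∧ d ^ 5 = 1 ∧ d * l = l * d := by
  have A := FactsL0.ax0
  have hz : GenJ.X 6 0 ∈ FactsL0.E0.Al := by
    apply Subgroup.subset_closure
    simp
  have hv : GenJ.X 9 0 ∈ FactsL0.E0.As := by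
    apply Subgroup.subset_closure
    simp
  have key : ∀ (d g : Words.L0), d ≠ 1 → d ^ 5 = 1 → d * (g * l * g⁻¹) = (g * l * g⁻¹) * d →
      ∃ d : Words.L0, d ≠ 1 ∧ d ^ 5 = 1 ∧ d * l = l * d := by
    intro d g hd hd5 h
    refine ⟨g⁻¹ * d * g, ?_, ?_, ?_⟩
    · intro e
      apply hd
      rw [show d = g * (g⁻¹ * d * g) * g⁻¹ by group, e]; group
    · have := conj_pow (i := 5) (a := g⁻¹) (b := d)
      rw [inv_inv, hd5] at this
      rw [this]; group
    · calc g⁻¹ * d * g * l = g⁻¹ * (d * (g * l * g⁻¹)) * g := by group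
        _ = _ := by rw [h]; group
  by_cases h1 : l = 1
  · exact ⟨FactsL0.E0.u, A.u1, A.u5, by rw [h1]; simp⟩
  rcases FactsL0.conj_z_or_v hl h1 with ⟨g, hg⟩ | ⟨g, hg⟩
  · refine key FactsL0.E0.u g A.u1 A.u5 ?_
    rw [hg]
    exact A.comm _ A.uAs _ hz
  · refine key FactsL0.E0.w g A.w1 A.w5 ?_
    rw [hg]
    exact (A.comm _ hv _ A.wAl).symm

end Cfsg.Agent.StdG24.NormalStd
end

-- part: StdG24/StepSevenGlue
section
/-!
# From the odd configuration to step 7

`FD.align`: an odd configuration in `C(d)` moved so that its four-group of `e B` is a given four-group `e X`.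
`nw_of_nu`: (n) for `u` implies (n) for `w`.
-/

set_option autoImplicit false

namespace Cfsg.Agent.StdG24

open scoped Pointwise
open Subgroup Cfsg Cfsg.Agent.StdAlt Cfsg.Agent.StdAlt.Conj Cfsg.Agent.StdAlt.Pairs Cfsg.Agent.StdAlt.First
  Cfsg.Agent.StdAlt.Five

variable {L : Type*} [Group L] {G : Type*} [Group G]

namespace Glue

/-- a subgroup of order 4 is a maximal 2-subgroup when 8 does not divide the order -/
theorem eq_of_four {K : Type*} [Group K] [Finite K] (h8 : ¬ 8 ∣ Nat.card K) {P S : Subgroup K} (hP : Nat.card P = 4)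
    (hS : IsPGroup 2 S) (h : P ≤ S) : P = S := by
  have : Fact (Nat.Prime 2) := ⟨Nat.prime_two⟩
  obtain ⟨n, hn⟩ := IsPGroup.iff_card.1 hS
  have h1 : n ≤ 2 := by
    by_contra hlt
    apply h8
    refine Dvd.dvd.trans ?_ (card_subgroup_dvd_card S)
    rw [hn, show (8 : ℕ) = 2 ^ 3 by norm_num]
    exact pow_dvd_pow 2 (by omega)
  refine eq_of_le_of_card_ge h ?_
  rw [hn, hP, show (4 : ℕ) = 2 ^ 2 by norm_num]
  exact Nat.pow_le_pow_right (by norm_num) h1

theorem exists_conj_four {K : Type*} [Group K] [Finite K] (h8 : ¬ 8 ∣ Nat.card K) {P Q : Subgroup K}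
    (hP : Nat.card P = 4) (hQ : Nat.card Q = 4) : ∃ s : K, ∀ x, x ∈ P ↔ s * x * s⁻¹ ∈ Q := by
  have : Fact (Nat.Prime 2) := ⟨Nat.prime_two⟩
  obtain ⟨S, hS⟩ := (isPGroup_four hP).exists_le_sylow
  obtain ⟨T, hT⟩ := (isPGroup_four hQ).exists_le_sylow
  have h1 : P = S := eq_of_four h8 hP S.isPGroup' hS
  have h2 : Q = T := eq_of_four h8 hQ T.isPGroup' hT
  obtain ⟨s, hs⟩ := MulAction.exists_smul_eq K S T
  refine ⟨s, fun x => ?_⟩
  have h3 : ((T : Subgroup K)) = MulAut.conj s • (S : Subgroup K) := by
    rw [← hs]; rfl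
  rw [h1, h2, h3, Subgroup.mem_pointwise_smul_iff_inv_smul_mem]
  constructor
  · intro hx
    have : (MulAut.conj s)⁻¹ • (s * x * s⁻¹) = x := by
      rw [← map_inv, MulAut.smul_def, MulAut.conj_apply]; group
    rw [this]
    exact hx
  · intro hx
    have : (MulAut.conj s)⁻¹ • (s * x * s⁻¹) = x := by
      rw [← map_inv, MulAut.smul_def, MulAut.conj_apply]; group
    rw [this] at hx
    exact hx

theorem mem_sup [Finite G] {A R V : Subgroup G} (hR : R ≤ C A) (hV : V ≤ A) {x : G} (hx : x ∈ R ⊔ V) :
    ∃ r ∈ R, ∃ v ∈ V, x = r * v := by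
  have hc : V ≤ N R := by
    intro v hv
    refine mem_N_of fun r hr => ?_
    rw [← comm_of_C (hR hr) (hV hv), mul_inv_cancel_right]
    exact hr
  rw [← SetLike.mem_coe, coe_mul_of_right_le_normalizer_left R V hc] at hx
  obtain ⟨r, hr, v, hv, rfl⟩ := hx
  exact ⟨r, hr, v, hv, rfl⟩

end Glue

namespace FD

variable {d : L} {B : Subgroup L} {e : L →* G}

/-- The odd configuration in `C(d)`, moved to a given four-group `X` of `B`. -/
theorem align [Finite G] (F : FD d B) (h : Emb e) {R V : Subgroup (HH e d)} {ρ g : HH e d}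
    (hE : OddE (F.AH e) R V ρ g) (hRK : ∀ r ∈ R, (r : G) ∈ KK e) {X : Subgroup L} (hXB : X ≤ B)
    (hX4 : Nat.card X = 4) :
    ∃ g' : G, R.map (HH e d).subtype ≤ KK e ∧ (∀ v ∈ R.map (HH e d).subtype, v * v = 1) ∧
      Nat.card (R.map (HH e d).subtype) = 4 ∧
      (∀ P : Subgroup G, P ≤ KK e → IsPGroup 2 P → R.map (HH e d).subtype ≤ P → P = R.map (HH e d).subtype) ∧
      g' * e d = e d * g' ∧
      (∀ v ∈ R.map (HH e d).subtype, ∃ v' ∈ R.map (HH e d).subtype, ∃ x ∈ X, g' * v * g'⁻¹ = v' * e x) ∧
      (∀ x ∈ X, ∃ x' ∈ X, g' * e x * g'⁻¹ = e x') ∧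
      ∃ v ∈ R.map (HH e d).subtype, g' * v * g'⁻¹ ∉ R.map (HH e d).subtype := by
  set W : Subgroup G := R.map (HH e d).subtype with hW
  have hWK : W ≤ KK e := by
    rintro _ ⟨r, hr, rfl⟩
    exact hRK r hr
  have hW4 : Nat.card W = 4 := by
    rw [← hE.cardR]
    exact (Nat.card_congr (R.equivMapOfInjective _ (HH e d).subtype_injective).toEquiv).symm
  have hW2 : ∀ v ∈ W, v * v = 1 := by
    rintro _ ⟨r, hr, rfl⟩
    exact congrArg Subtype.val (hE.sqR r hr)
  have hmem : ∀ r : HH e d, (r : G) ∈ W ↔ r ∈ R := by
    intro r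
    constructor
    · rintro ⟨r', hr', h1⟩
      have h2 : r' = r := Subtype.ext h1
      rw [← h2]
      exact hr'
    · intro hr
      exact ⟨r, hr, rfl⟩
  -- the conjugating element
  obtain ⟨s, hs⟩ : ∃ s : B, ∀ x : B, F.eH e x ∈ V ↔ ((s * x * s⁻¹ : B) : L) ∈ X := by
    have h60 : Nat.card B = 60 := by
      obtain ⟨φ⟩ := F.iso
      exact StepSevenAbs.card_of_equiv φ
    have : Finite B := Nat.finite_of_card_ne_zero (by rw [h60]; norm_num)
    have h8 : ¬ 8 ∣ Nat.card B := by rw [h60]; norm_num
    have hV4 : Nat.card (V.comap (F.eH e)) = 4 := by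
      have h1 : (V.comap (F.eH e)).map (F.eH e) = V := by
        rw [map_comap_eq]
        exact inf_eq_right.2 hE.V_le
      have h2 := Nat.card_congr ((V.comap (F.eH e)).equivMapOfInjective _ (F.eH_inj h.inj)).toEquiv
      rw [h1] at h2
      rw [h2]
      exact hE.cardV
    have hX4' : Nat.card (X.subgroupOf B) = 4 := by
      rw [← hX4]
      exact Nat.card_congr (subgroupOfEquivOfLe hXB).toEquiv
    obtain ⟨s, hs⟩ := Glue.exists_conj_four h8 hV4 hX4'
    exact ⟨s, fun x => hs x⟩
  have hsd : e s * e d = e d * e s := by rw [← map_mul, ← map_mul, F.comm s s.2]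
  have hgd := mem_HH.1 g.2
  have hsK : ∀ k ∈ KK e, e s * k * (e s)⁻¹ = k := by
    intro k hk
    rw [← mem_KK.1 hk]; group
  have hsK' : ∀ k ∈ KK e, (e s)⁻¹ * k * e s = k := by
    intro k hk
    rw [mul_assoc, mem_KK.1 hk]; group
  -- elements of `R ⊔ V`
  have hsup : ∀ x : HH e d, x ∈ R ⊔ V → ∃ v' ∈ W, ∃ x' ∈ X, e s * (x : G) * (e s)⁻¹ = v' * e x' := by
    intro x hx
    obtain ⟨r, hr, v, hv, rfl⟩ := Glue.mem_sup hE.R_le hE.V_le hx
    obtain ⟨b, rfl⟩ := hE.V_le hv
    refine ⟨r, ⟨r, hr, rfl⟩, _, (hs b).1 hv, ?_⟩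
    have h1 := hsK _ (hRK r hr)
    calc e s * ((r * F.eH e b : HH e d) : G) * (e s)⁻¹ = (e s * (r : G) * (e s)⁻¹) * (e s * e b * (e s)⁻¹) := by
          rw [Subgroup.coe_mul, coe_eH]; group
      _ = r * e ((s * b * s⁻¹ : B) : L) := by
          rw [h1]
          simp only [Subgroup.coe_mul, Subgroup.coe_inv, map_mul, map_inv]
  refine ⟨e s * g * (e s)⁻¹, hWK, hW2, hW4, ?_, ?_, ?_, ?_, ?_⟩
  · intro P hP hP2 hle
    have hPH : ∀ p ∈ P, p ∈ HH e d := fun p hp => mem_HH.2 (mem_KK.1 (hP hp) d)
    let f : P →* C (F.AH e) :=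
      { toFun := fun p => ⟨⟨p, hPH p p.2⟩, F.mem_centralizer_AH.2 (KK_le_CC _ _ (hP p.2))⟩
        map_one' := rfl
        map_mul' := fun _ _ => rfl }
    have hf : Function.Injective f := fun a b hab => by
      have h6 : (a : G) = b := congrArg (fun x : C (F.AH e) => ((x : HH e d) : G)) hab
      exact Subtype.ext h6
    have : Fact (Nat.Prime 2) := ⟨Nat.prime_two⟩
    obtain ⟨n, hn⟩ := IsPGroup.iff_card.1 hP2
    have h1 : n ≤ 2 := by
      by_contra hlt
      apply hE.card8
      refine Dvd.dvd.trans ?_ (card_dvd_of_injective f hf)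
      rw [hn, show (8 : ℕ) = 2 ^ 3 by norm_num]
      exact pow_dvd_pow 2 (by omega)
    refine (eq_of_le_of_card_ge hle ?_).symm
    rw [hn, hW4, show (4 : ℕ) = 2 ^ 2 by norm_num]
    exact Nat.pow_le_pow_right (by norm_num) h1
  · have h1 := inv_comm hsd
    calc e s * (g : G) * (e s)⁻¹ * e d = e s * (g : G) * ((e s)⁻¹ * e d) := by group
      _ = e s * ((g : G) * e d) * (e s)⁻¹ := by rw [h1]; group
      _ = e s * e d * (g : G) * (e s)⁻¹ := by rw [hgd]; group
      _ = e d * (e s * (g : G) * (e s)⁻¹) := by rw [hsd]; group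
  · intro v hv
    obtain ⟨r, hr, rfl⟩ := hv
    obtain ⟨v', hv', x', hx', h1⟩ := hsup _ (Conj.conj_mem hE.gE (mem_sup_left hr))
    refine ⟨v', hv', x', hx', ?_⟩
    rw [← h1]
    change e s * (g : G) * (e s)⁻¹ * (r : G) * (e s * (g : G) * (e s)⁻¹)⁻¹ =
      e s * ((g : G) * (r : G) * (g : G)⁻¹) * (e s)⁻¹
    calc e s * (g : G) * (e s)⁻¹ * (r : G) * (e s * (g : G) * (e s)⁻¹)⁻¹ =
        e s * (g : G) * ((e s)⁻¹ * (r : G) * e s) * (g : G)⁻¹ * (e s)⁻¹ := by group
      _ = e s * ((g : G) * (r : G) * (g : G)⁻¹) * (e s)⁻¹ := by rw [hsK' _ (hRK r hr)]; group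
  · intro x hx
    have hxV : F.eH e (s⁻¹ * ⟨x, hXB hx⟩ * s) ∈ V := by
      rw [hs, show s * (s⁻¹ * ⟨x, hXB hx⟩ * s) * s⁻¹ = ⟨x, hXB hx⟩ by group]
      exact hx
    have hgV := PGroup.normV hE hE.gE hxV
    obtain ⟨y, hy⟩ := hE.V_le hgV
    rw [← hy] at hgV
    refine ⟨_, (hs y).1 hgV, ?_⟩
    have h1 : (g : G) * (F.eH e (s⁻¹ * ⟨x, hXB hx⟩ * s) : G) * (g : G)⁻¹ = e y := (congrArg Subtype.val hy).symm
    simp only [Subgroup.coe_mul, Subgroup.coe_inv, map_mul, map_inv]
    rw [← h1, coe_eH]
    simp only [Subgroup.coe_mul, Subgroup.coe_inv, map_mul, map_inv, mul_inv_rev, inv_inv]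
    group
  · by_contra hcon
    push Not at hcon
    apply hE.gA
    obtain ⟨r, hr, hr1⟩ : ∃ r ∈ R, r ≠ 1 := by
      by_contra hno
      push Not at hno
      have : R = ⊥ := (eq_bot_iff_forall R).2 hno
      have h1 := hE.cardR
      rw [this, Subgroup.card_bot] at h1
      omega
    refine hE.te.key r g (hE.R_le hr) hr1 (hE.sqR r hr) (hE.R_le ?_)
    rw [← hmem]
    have h1 := hcon r ⟨r, hr, rfl⟩
    have h2 := hsK' _ (hWK h1)
    have h3 : ((g * r * g⁻¹ : HH e d) : G) = e s * (g : G) * (e s)⁻¹ * (r : G) * (e s * (g : G) * (e s)⁻¹)⁻¹ := by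
      rw [← h2]
      change (g : G) * (r : G) * (g : G)⁻¹ = _
      calc (g : G) * (r : G) * (g : G)⁻¹ = (g : G) * ((e s)⁻¹ * (r : G) * e s) * (g : G)⁻¹ := by
            rw [hsK' _ (hRK r hr)]
        _ = _ := by group
    rw [h3]
    exact h1

end FD

variable {D : Data L} {e : L →* G}

/-- **Step 7**: (n) for `u` implies (n) for `w` -/
theorem nw_of_nu [Finite G] (F : Facts D) (Fw : FD D.w D.As) {N Q X : Subgroup L}
    (FN : StepSevenN.FactsN D N Q X) (hX : X ≤ D.As) (hX4 : Nat.card X = 4) (h : Emb e)
    (hr : ¬ PRankLE 2 1 (KK e)) (hn : NU D e) (hcomm : CommHalf (HH e D.w ⧸ oddCore (HH e D.w))) : NW D e := by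
  by_contra hnw
  obtain ⟨Lb, i, R, ρ, g, hE, hRK⟩ := odd_w F Fw h hr hn hnw hcomm
  obtain ⟨g', h1, h2, h3, h4, h5, h6, h7, h8⟩ := Fw.align h hE hRK hX hX4
  refine StepSevenN.step_seven F FN h hn _ h1 h2 h4 g' h5 h6 (fun x hx => ?_) h8
  obtain ⟨x', hx', h9⟩ := h7 x hx
  exact ⟨1, one_mem _, x', hx', by rw [h9, one_mul]⟩

end Cfsg.Agent.StdG24
end

-- part: StdG24/CentLe
section
/-!
# Large centralisers by sifting

Tools for `C(ws) ≤ H` where `H` is given by generators.
-/

set_option autoImplicit false

namespace Cfsg.Agent.StdG24.CentLe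

open Cfsg.Agent.StdG24.Perm416 Cfsg.Agent.StdG24.Sift Cfsg.Agent.StdG24.Words Cfsg.Agent.StdG24.CentX

/-- indices from a packed number (4 bits each, ended by 15) -/
noncomputable def idxs (n : ℕ) : ℕ → List ℕ :=
  Nat.rec (motive := fun _ => ℕ → List ℕ) (fun _ => [])
    (fun _ ih w => cond (Nat.blt (Nat.land w 15) 15) (Nat.land w 15 :: ih (Nat.shiftRight w 4)) []) n

/-- entry `q` of a table of packed index lists with `f` digits each -/
noncomputable def tabAt (f T q : ℕ) : List ℕ := idxs f (Nat.shiftRight T (Nat.mul (Nat.mul 4 f) q))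

/-- the elements fixing the points of the list `bs` -/
theorem stab_cases {ls : List Level} {bs : List ℕ} (hbs : ∀ b ∈ bs, b < 416) {l : Level}
    (hv : verify bs (l :: ls) = true) (hc : Nat.card (Stab bs) ≤ prod (l :: ls))
    {g : Equiv.Perm (Fin 416)} (hg : g ∈ Stab bs) :
    l.ok (ap g l.b) = true ∧ ap g l.b < 416 ∧ (l.t (ap g l.b))⁻¹ * g ∈ Stab (l.b :: bs) := by
  obtain ⟨h1, _⟩ := tight hbs hv hc
  obtain ⟨hl, hv'⟩ := verify_cons.1 hv
  obtain ⟨hb, _, h3⟩ := chk_spec hbs hl
  have h4 := h1 g hg
  obtain ⟨h5, h6⟩ := h3 _ (ap_lt g hb) h4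
  refine ⟨h4, ap_lt g hb, LL.mul_mem (LL.inv_mem h5.1) hg.1, fun b hb' => ?_⟩
  rcases List.mem_cons.1 hb' with rfl | hb'
  · rw [ap_mul]
    have h10 := ap_inv_self (l.t (ap g l.b)) l.b
    rwa [h6] at h10
  · rw [ap_mul, hg.2 b hb']
    have := ap_inv_self (l.t (ap g l.b)) b
    rwa [h5.2 b hb'] at this

/-- all transversal elements of the levels lie in `H`: so does the stabiliser -/
theorem stab_le (H : Subgroup L0) : ∀ (ls : List Level) (bs : List ℕ), (∀ b ∈ bs, b < 416) →
    verify bs ls = true → Nat.card (Stab bs) ≤ prod ls →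
    (∀ l ∈ ls, ∀ q < 416, l.ok q = true → E [l.get q] ∈ H) →
    ∀ g : L0, (g : Equiv.Perm (Fin 416)) ∈ Stab bs → g ∈ H := by
  intro ls
  induction ls with
  | nil =>
    intro bs _ _ hc _ g hg
    have h1 : Nat.card (Stab bs) = 1 := le_antisymm hc (Nat.one_le_iff_ne_zero.2 (Nat.card_pos).ne')
    have h2 := Subgroup.card_eq_one.1 h1
    rw [h2] at hg
    have h3 : g = 1 := Subtype.ext (Subgroup.mem_bot.1 hg)
    rw [h3]; exact H.one_mem
  | cons l ls ih =>
    intro bs hbs hv hc hH g hg
    obtain ⟨h1, h2, h3⟩ := stab_cases hbs hv hc hg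
    obtain ⟨_, h4⟩ := tight hbs hv hc
    obtain ⟨hl, hv'⟩ := verify_cons.1 hv
    have hb := (chk_spec hbs hl).1
    have hbs' : ∀ b ∈ l.b :: bs, b < 416 := by
      intro b hb'
      rcases List.mem_cons.1 hb' with rfl | h
      · exact hb
      · exact hbs b h
    have h5 : E [l.get (ap (g : Equiv.Perm (Fin 416)) l.b)] ∈ H := hH l List.mem_cons_self _ h2 h1
    have h6 := ih _ hbs' hv' h4 (fun l' hl' => hH l' (List.mem_cons_of_mem _ hl'))
      ((E [l.get (ap (g : Equiv.Perm (Fin 416)) l.b)])⁻¹ * g) h3
    have := H.mul_mem h5 h6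
    rwa [mul_inv_cancel_left] at this

/-- after `k` levels: the chain below is verified and tight -/
theorem tight_drop : ∀ (k : ℕ) (ls : List Level) (bs : List ℕ), (∀ b ∈ bs, b < 416) →
    verify bs ls = true → Nat.card (Stab bs) ≤ prod ls →
    ∃ bs' : List ℕ, (∀ b ∈ bs', b < 416) ∧ (∀ b, b ∈ bs' ↔ b ∈ bs ∨ b ∈ (bases ls).take k) ∧
      verify bs' (ls.drop k) = true ∧ Nat.card (Stab bs') ≤ prod (ls.drop k) := by
  intro k
  induction k with
  | zero => intro ls bs h1 h2 h3; exact ⟨bs, h1, by simp, by simpa using h2, by simpa only [_root_.List.drop_zero] using h3⟩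
  | succ k ih =>
    intro ls bs h1 h2 h3
    cases ls with
    | nil => exact ⟨bs, h1, by simp [bases], by simpa using h2, by simpa only [_root_.List.drop_nil] using h3⟩
    | cons l ls =>
      obtain ⟨_, h4⟩ := tight h1 h2 h3
      obtain ⟨hl, hv'⟩ := verify_cons.1 h2
      have hb := (chk_spec h1 hl).1
      have hbs' : ∀ b ∈ l.b :: bs, b < 416 := by
        intro b hb'
        rcases List.mem_cons.1 hb' with rfl | h
        · exact hb
        · exact h1 b h
      obtain ⟨bs', h5, h6, h7, h8⟩ := ih ls (l.b :: bs) hbs' hv' h4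
      refine ⟨bs', h5, fun b => ?_, by simpa using h7, by simpa only [_root_.List.drop_succ_cons] using h8⟩
      rw [h6, List.mem_cons]
      show _ ↔ _ ∨ b ∈ (l.b :: bases ls).take (k + 1)
      rw [List.take_succ_cons, List.mem_cons]
      (clear * -; tauto)

/-- moving an adapted base point -/
theorem ap_ivL {d : L0} {w : List ℕ} {p : ℕ} (hp : p < 416) (hd : d * E w = E w * d) :
    ap (d : Equiv.Perm (Fin 416)) (ivL w p) = ivL w (ap (d : Equiv.Perm (Fin 416)) p) := by
  rw [← ap_E_inv w hp, ← ap_E_inv w (ap_lt _ hp), ← ap_mul, ← ap_mul]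
  congr 1
  have h1 : (d : Equiv.Perm (Fin 416)) * (E w : Equiv.Perm (Fin 416)) = E w * d := congrArg Subtype.val hd
  rw [eq_inv_mul_iff_mul_eq, ← mul_assoc, ← h1, mul_inv_cancel_right]

/-- First step for a centraliser: an element `c` commuting with `ws` is `h * c'` with `h ∈ H` and `c'`
commuting with `ws` and fixing the adapted base points. -/
theorem cent_step {ls : List Level} (hf : Full ls) {p : ℕ} {ws : List (List ℕ)}
    (hb : (bases ls).take (ws.length + 1) = p :: ws.map (fun w => ivL w p)) (gens : List (List ℕ))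
    (H : Subgroup L0) (hH : ∀ g ∈ gens, E g ∈ H) (f T : ℕ)
    (hchk : allN 416 (fun q => cond (sift ls (q :: ws.map fun w => ivL w q))
      (Nat.beq (ivL (gw gens (tabAt f T q)) q) p) true) = true)
    (hcomm : ∀ h ∈ H, ∀ w ∈ ws, h * E w = E w * h)
    (c : L0) (hc : ∀ w ∈ ws, c * E w = E w * c) :
    ∃ h ∈ H, (∀ w ∈ ws, (h⁻¹ * c) * E w = E w * (h⁻¹ * c)) ∧
      ∀ b ∈ (bases ls).take (ws.length + 1), ap ((h⁻¹ * c : L0) : Equiv.Perm (Fin 416)) b = b := by
  have hlt := bases_lt ls [] (by simp) hf.v
  have hp : p < 416 := hlt p (List.mem_of_mem_take (by rw [hb]; exact List.mem_cons_self))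
  set q := ap (c : Equiv.Perm (Fin 416)) p with hq
  have hq' : q < 416 := ap_lt _ hp
  have h1 := hf.sift_ok c.2 (ws.length + 1)
  rw [hb, List.map_cons, List.map_map] at h1
  have h2 : ws.map (ap (c : Equiv.Perm (Fin 416)) ∘ fun w => ivL w p) = ws.map fun w => ivL w q := by
    apply List.map_congr_left
    intro w hw
    exact ap_ivL hp (hc w hw)
  rw [h2, ← hq] at h1
  have h3 := allN_spec hchk q hq'
  rw [h1, cond_true] at h3
  set hw := gw gens (tabAt f T q) with hhw
  have h5 : ivL hw q = p := Nat.eq_of_beq_eq_true h3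
  have h6 : E hw ∈ H := gw_mem gens _ H hH
  have h7 : ∀ w ∈ ws, ((E hw)⁻¹ * c) * E w = E w * ((E hw)⁻¹ * c) := by
    intro w hw'
    have h8 := hcomm _ (H.inv_mem h6) w hw'
    rw [mul_assoc, hc w hw', ← mul_assoc, h8, mul_assoc]
  refine ⟨E hw, h6, h7, fun b hb' => ?_⟩
  have h9 : ap (((E hw)⁻¹ * c : L0) : Equiv.Perm (Fin 416)) p = p := by
    show ap ((E hw : Equiv.Perm (Fin 416))⁻¹ * (c : Equiv.Perm (Fin 416))) p = p
    rw [ap_mul, ← hq, ap_E_inv hw hq', h5]
  rw [hb] at hb'
  rcases List.mem_cons.1 hb' with rfl | hb'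
  · exact h9
  · obtain ⟨w, hw', rfl⟩ := List.mem_map.1 hb'
    rw [ap_ivL hp (h7 w hw'), h9]

/-- check that the transversal elements of a level lie in the subgroup generated by `gens` -/
noncomputable def lvlIn (gens : List (List ℕ)) (l : Level) (f T : ℕ) : Bool :=
  allN 416 fun q => cond (l.ok q) (eqc [l.get q] (gw gens (tabAt f T q))) true

theorem lvlIn_spec {gens : List (List ℕ)} {l : Level} {f T : ℕ} (h : lvlIn gens l f T = true)
    {H : Subgroup L0} (hH : ∀ g ∈ gens, E g ∈ H) : ∀ q < 416, l.ok q = true → E [l.get q] ∈ H := by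
  intro q hq hok
  have h1 := allN_spec h q hq
  rw [hok, cond_true] at h1
  rw [E_eq h1]; exact gw_mem gens _ H hH

/-- The centraliser of `ws` lies in `H` if the stabiliser of the adapted points does. -/
theorem cent_le {ls : List Level} (hf : Full ls) {p : ℕ} {ws : List (List ℕ)}
    (hb : (bases ls).take (ws.length + 1) = p :: ws.map (fun w => ivL w p)) (gens : List (List ℕ))
    (H : Subgroup L0) (hH : ∀ g ∈ gens, E g ∈ H) (f T : ℕ)
    (hchk : allN 416 (fun q => cond (sift ls (q :: ws.map fun w => ivL w q))
      (Nat.beq (ivL (gw gens (tabAt f T q)) q) p) true) = true)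
    (hcomm : ∀ h ∈ H, ∀ w ∈ ws, h * E w = E w * h)
    (hrest : ∀ l ∈ ls.drop (ws.length + 1), ∀ q < 416, l.ok q = true → E [l.get q] ∈ H)
    (c : L0) (hc : ∀ w ∈ ws, c * E w = E w * c) : c ∈ H := by
  obtain ⟨h, hh, _, h2⟩ := cent_step hf hb gens H hH f T hchk hcomm c hc
  obtain ⟨bs', h3, h4, h5, h6⟩ := tight_drop (ws.length + 1) ls [] (by simp) hf.v hf.card_le
  have h7 : h⁻¹ * c ∈ H := by
    refine stab_le H _ bs' h3 h5 h6 hrest _ ⟨(h⁻¹ * c).2, fun b hb' => h2 b ?_⟩
    rcases (h4 b).1 hb' with h8 | h8
    · simp at h8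
    · exact h8
  have := H.mul_mem hh h7
  rwa [mul_inv_cancel_left] at this

end Cfsg.Agent.StdG24.CentLe
end

-- part: StdG24/CentBlk
section
/-!
# Centralisers by sifting over several blocks of adapted base points
-/

set_option autoImplicit false

namespace Cfsg.Agent.StdG24.CentBlk

open Cfsg.Agent.StdG24.Perm416 Cfsg.Agent.StdG24.Sift Cfsg.Agent.StdG24.Words Cfsg.Agent.StdG24.CentX
  Cfsg.Agent.StdG24.CentLe

/-- a block: a base point `p` and a table of index words (`f` digits each) of elements of `H` mapping `p` to `q` -/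
structure Blk where
  p : ℕ
  f : ℕ
  T : ℕ

/-- the adapted points of `q` -/
noncomputable def pts (ws : List (List ℕ)) (q : ℕ) : List ℕ := q :: ws.map fun w => ivL w q

/-- the word of a block at `q` -/
noncomputable def Blk.wd (B : Blk) (gens : List (List ℕ)) (q : ℕ) : List ℕ := gw gens (tabAt B.f B.T q)

/-- check of the blocks over the prefix `prev` -/
noncomputable def chkB (ls : List Level) (ws gens : List (List ℕ)) : List ℕ → List Blk → Bool
  | _, [] => true
  | prev, B :: Bs =>
    cond (allN 416 fun q => cond (sift ls (prev ++ pts ws q))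
      (cond (Nat.beq (ivL (B.wd gens q) q) B.p) (prev.all fun b => Nat.beq (ivL (B.wd gens q) b) b) false)
      true) (chkB ls ws gens (prev ++ pts ws B.p) Bs) false

/-- all adapted points -/
noncomputable def allPts (ws : List (List ℕ)) : List ℕ → List Blk → List ℕ
  | prev, [] => prev
  | prev, B :: Bs => allPts ws (prev ++ pts ws B.p) Bs

theorem allPts_eq (ws : List (List ℕ)) : ∀ (Bs : List Blk) (prev : List ℕ),
    ∃ r, allPts ws prev Bs = prev ++ r := by
  intro Bs
  induction Bs with
  | nil => intro prev; exact ⟨[], by simp [allPts]⟩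
  | cons B Bs ih =>
    intro prev
    obtain ⟨r, hr⟩ := ih (prev ++ pts ws B.p)
    exact ⟨pts ws B.p ++ r, by rw [allPts, hr, List.append_assoc]⟩

theorem map_pts {c : L0} {ws : List (List ℕ)} (hc : ∀ w ∈ ws, c * E w = E w * c) {p : ℕ} (hp : p < 416) :
    (pts ws p).map (ap (c : Equiv.Perm (Fin 416))) = pts ws (ap (c : Equiv.Perm (Fin 416)) p) := by
  unfold pts
  rw [List.map_cons, List.map_map]
  congr 1
  apply List.map_congr_left
  intro w hw
  exact ap_ivL hp (hc w hw)

theorem blk_aux {ls : List Level} (hf : Full ls) (ws gens : List (List ℕ)) (H : Subgroup L0)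
    (hH : ∀ g ∈ gens, E g ∈ H) (hcomm : ∀ h ∈ H, ∀ w ∈ ws, h * E w = E w * h) :
    ∀ (Bs : List Blk) (prev : List ℕ), chkB ls ws gens prev Bs = true →
      (bases ls).take (allPts ws prev Bs).length = allPts ws prev Bs →
      ∀ c : L0, (∀ w ∈ ws, c * E w = E w * c) → (∀ b ∈ prev, ap (c : Equiv.Perm (Fin 416)) b = b) →
      ∃ h ∈ H, ∀ b ∈ allPts ws prev Bs, ap ((h⁻¹ * c : L0) : Equiv.Perm (Fin 416)) b = b := by
  intro Bs
  induction Bs with
  | nil =>
    intro prev _ _ c _ hfix
    refine ⟨1, H.one_mem, fun b hb => ?_⟩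
    rw [inv_one, one_mul]
    exact hfix b hb
  | cons B Bs ih =>
    intro prev hchk hb c hc hfix
    have hchk' : cond (allN 416 fun q => cond (sift ls (prev ++ pts ws q))
      (cond (Nat.beq (ivL (B.wd gens q) q) B.p) (prev.all fun b => Nat.beq (ivL (B.wd gens q) b) b) false)
      true) (chkB ls ws gens (prev ++ pts ws B.p) Bs) false = true := hchk
    rw [cond_and] at hchk'
    obtain ⟨hc1, hc2⟩ := hchk'
    obtain ⟨r, hr⟩ := allPts_eq ws Bs (prev ++ pts ws B.p)
    have hall : allPts ws prev (B :: Bs) = prev ++ pts ws B.p ++ r := hr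
    have hlt := bases_lt ls [] (by simp) hf.v
    have hmem : ∀ b ∈ prev ++ pts ws B.p, b ∈ bases ls := by
      intro b hb'
      have h1 : b ∈ (bases ls).take (allPts ws prev (B :: Bs)).length := by
        rw [hb, hall]; exact List.mem_append_left _ hb'
      exact List.mem_of_mem_take h1
    have hp : B.p < 416 := hlt _ (hmem _ (List.mem_append_right _ List.mem_cons_self))
    set q := ap (c : Equiv.Perm (Fin 416)) B.p with hq
    have hq' : q < 416 := ap_lt _ hp
    have hn : (prev ++ pts ws B.p).length ≤ (allPts ws prev (B :: Bs)).length := by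
      rw [hall, List.length_append (as := prev ++ pts ws B.p)]; exact Nat.le_add_right _ _
    have htk : (bases ls).take (prev ++ pts ws B.p).length = prev ++ pts ws B.p := by
      calc (bases ls).take (prev ++ pts ws B.p).length
          = ((bases ls).take (allPts ws prev (B :: Bs)).length).take (prev ++ pts ws B.p).length := by
            rw [List.take_take, min_eq_left hn]
        _ = (allPts ws prev (B :: Bs)).take (prev ++ pts ws B.p).length := by rw [hb]
        _ = prev ++ pts ws B.p := by
            rw [hall, List.take_append_of_le_length le_rfl, List.take_length]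
    have h1 := hf.sift_ok c.2 (prev ++ pts ws B.p).length
    rw [htk, List.map_append, map_pts hc hp, ← hq] at h1
    have h2 : prev.map (ap (c : Equiv.Perm (Fin 416))) = prev := by
      conv_rhs => rw [← List.map_id prev]
      exact List.map_congr_left fun b hb' => hfix b hb'
    rw [h2] at h1
    have h3 := allN_spec hc1 q hq'
    rw [h1, cond_true, cond_and] at h3
    obtain ⟨h4, h5⟩ := h3
    have h4 : ivL (B.wd gens q) q = B.p := Nat.eq_of_beq_eq_true h4
    have h6 : E (B.wd gens q) ∈ H := gw_mem gens _ H hH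
    set h := E (B.wd gens q) with hh
    have h7 : ∀ w ∈ ws, (h⁻¹ * c) * E w = E w * (h⁻¹ * c) := by
      intro w hw'
      have h8 := hcomm _ (H.inv_mem h6) w hw'
      rw [mul_assoc, hc w hw', ← mul_assoc, h8, mul_assoc]
    have h9 : ap ((h⁻¹ * c : L0) : Equiv.Perm (Fin 416)) B.p = B.p := by
      show ap ((h : Equiv.Perm (Fin 416))⁻¹ * (c : Equiv.Perm (Fin 416))) B.p = B.p
      rw [ap_mul, ← hq, hh, ap_E_inv _ hq', h4]
    have h10 : ∀ b ∈ prev ++ pts ws B.p, ap ((h⁻¹ * c : L0) : Equiv.Perm (Fin 416)) b = b := by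
      intro b hb'
      rcases List.mem_append.1 hb' with hb' | hb'
      · have hb416 := hlt b (hmem b (List.mem_append_left _ hb'))
        show ap ((h : Equiv.Perm (Fin 416))⁻¹ * (c : Equiv.Perm (Fin 416))) b = b
        rw [ap_mul, hfix b hb', hh, ap_E_inv _ hb416]
        exact Nat.eq_of_beq_eq_true (List.all_eq_true.1 h5 b hb')
      · rcases List.mem_cons.1 hb' with rfl | hb''
        · exact h9
        · obtain ⟨w, hw', rfl⟩ := List.mem_map.1 hb''
          rw [ap_ivL hp (h7 w hw'), h9]
    obtain ⟨k, hk, hk2⟩ := ih (prev ++ pts ws B.p) hc2 hb (h⁻¹ * c) h7 h10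
    refine ⟨h * k, H.mul_mem h6 hk, fun b hb' => ?_⟩
    have h11 := hk2 b hb'
    rwa [show (h * k)⁻¹ * c = k⁻¹ * (h⁻¹ * c) by group]

/-- **centralisers**: an element commuting with `ws` lies in `H` -/
theorem cent_blk {ls : List Level} (hf : Full ls) {ws gens : List (List ℕ)} {Bs : List Blk}
    (hb : (bases ls).take (allPts ws [] Bs).length = allPts ws [] Bs)
    (hchk : chkB ls ws gens [] Bs = true) (H : Subgroup L0)
    (hH : ∀ g ∈ gens, E g ∈ H) (hcomm : ∀ h ∈ H, ∀ w ∈ ws, h * E w = E w * h)
    (hrest : ∀ l ∈ ls.drop (allPts ws [] Bs).length, ∀ q < 416, l.ok q = true → E [l.get q] ∈ H)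
    (c : L0) (hc : ∀ w ∈ ws, c * E w = E w * c) : c ∈ H := by
  obtain ⟨h, hh, h2⟩ := blk_aux hf ws gens H hH hcomm Bs [] hchk hb c hc (by simp)
  obtain ⟨bs', h3, h4, h5, h6⟩ := tight_drop (allPts ws [] Bs).length ls [] (by simp) hf.v hf.card_le
  have h7 : h⁻¹ * c ∈ H := by
    refine stab_le H _ bs' h3 h5 h6 hrest _ ⟨(h⁻¹ * c).2, fun b hb' => h2 b ?_⟩
    rcases (h4 b).1 hb' with h8 | h8
    · simp at h8
    · rw [hb] at h8; exact h8
  have := H.mul_mem hh h7
  rwa [mul_inv_cancel_left] at this

/-- commutation of a closure with words from a check on the generators -/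
theorem comm_of_chk {gens ws : List (List ℕ)}
    (h : (gens.all fun g => ws.all fun w => eqc (g ++ w) (w ++ g)) = true) :
    ∀ x ∈ Subgroup.closure {x : L0 | ∃ g ∈ gens, x = E g}, ∀ w ∈ ws, x * E w = E w * x := by
  intro x hx w hw
  have h1 : Subgroup.closure {x : L0 | ∃ g ∈ gens, x = E g} ≤ Subgroup.centralizer {E w} := by
    rw [Subgroup.closure_le]
    rintro y ⟨g, hg, rfl⟩
    rw [SetLike.mem_coe, Subgroup.mem_centralizer_singleton_iff]
    have h2 := E_eq (List.all_eq_true.1 (List.all_eq_true.1 h g hg) w hw)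
    rwa [E_append, E_append] at h2
  exact Subgroup.mem_centralizer_singleton_iff.1 (h1 hx)

/-- the subgroup generated by words -/
noncomputable def gen (gens : List (List ℕ)) : Subgroup L0 := Subgroup.closure {x : L0 | ∃ g ∈ gens, x = E g}

theorem gen_mem {gens : List (List ℕ)} : ∀ g ∈ gens, E g ∈ gen gens := fun g hg =>
  Subgroup.subset_closure ⟨g, hg, rfl⟩

theorem gen_le {gens : List (List ℕ)} {H : Subgroup L0} (h : ∀ g ∈ gens, E g ∈ H) : gen gens ≤ H := by
  unfold gen
  rw [Subgroup.closure_le]
  rintro y ⟨g, hg, rfl⟩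
  exact h g hg

end Cfsg.Agent.StdG24.CentBlk
end

-- part: StdG24/Cents
section
/-!
# Centralisers in `G₂(4)` by sifting: `C(N)`, `C(v)`, `C(Z1)`
-/

set_option autoImplicit false
set_option maxRecDepth 20000

namespace Cfsg.Agent.StdG24.Cents

open Cfsg.Agent.StdG24.Perm416 Cfsg.Agent.StdG24.Sift Cfsg.Agent.StdG24.Words Cfsg.Agent.StdG24.CentLe
  Cfsg.Agent.StdG24.CentBlk

theorem rest_spec {gens : List (List ℕ)} : ∀ (ls : List Level) (ts : List (ℕ × ℕ)), ls.length = ts.length →
    (ls.zip ts).all (fun x => lvlIn gens x.1 x.2.1 x.2.2) = true →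
    ∀ l ∈ ls, ∀ q < 416, l.ok q = true → E [l.get q] ∈ gen gens := by
  intro ls
  induction ls with
  | nil => intro ts _ _ l hl; simp at hl
  | cons l ls ih =>
    intro ts hlen hall l' hl'
    cases ts with
    | nil => simp at hlen
    | cons t ts =>
      rw [List.zip_cons_cons, List.all_cons, Bool.and_eq_true] at hall
      rcases List.mem_cons.1 hl' with rfl | hl'
      · exact lvlIn_spec hall.1 gen_mem
      · exact ih ts (by simpa using hlen) hall.2 l' hl'

def cN_c : List Level := [
  ⟨0, 416, 19, 0xf5102132104351000000f512321432345000000f51232143215100000000f51232143250000f51021321014325000f5102321432134510000f5102321432345100000f5102321432345000000f51232432105100000f5123243210512000f51021321014323500000f51232143234510000f51232143213451000f51023214323243500000f5102132143251000000f51232104325100000f51023214321050000f51023214323245000000f510232104325000000000f5123214350000f5102321432135100000f51023214321510000000f51023210435000000f51021321432500000f510213214323500000f51023210432350000f5123210432345100000f512321043234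50000f5102321043234500000f51232143210510000f512321432103510000f5102132134325100000f51023210432510000f5102321043235100000f5102324321051000000f5102324321050000000f51232432105000000f51232143210500000f51232143210350000f5123210432351000000f512321043251000000f5102321432135000000f5102321432150000000f5102324321500000000f51232432150000000f5123214321500000f51232104323510000000f5102132143500000f510213210432500000f5102321432325000000f51023214325100000f5102321432351000000f5102321432350000000f5102321432500000000f510232143500000000f51232104350000000f51232104325000000f5123210432350000000f512321432350000000f51232143251000000f51232143235100000f5123214321351000000f51232143213500000f51232143213450000f510232143213450000f51023210432510000f5102321043235100000f51232432105101000f5102324321051010000f5102324321051000000f51232432105100000f51232432105102000f5123210432345100000f512321432103450000f5102132134323500000f5102132134325000000f5102132134350000f51021321014351000000f51021321043500000f51021321014350000f51023210432101000f5102321043210130000f5123210432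10100000f5102321043210300000f510232104321000f510213213432105100f51232104321010340f5123210432101032300f5123210432101032000f512321043210103000f512321432101034000f51021321343210500000000f5101023243000000000f51010232400f5102321043210132000f51232104321013400f51232104321013230000f5102132432101200000f510213243210100000f51021323432150f51232143210103213f5123210432101032130f5123210432101032100f512321432101032100f5123214321010323000f5123214321010320000f5123214321010300000f51232143210100000f510213234321350000f510213232432100000f5102132324321500000000f5102103243000000000f51010213400000000f510232104500000f5102132101451000000f510213210451000f510210324321015000f5102103243210100000f510213243210100000f510213234321010000000f51021324325000000f510213243215000f5102132134321030000f5102321043213400000f51232104321340000f51232104321324000f5102103243210120000f510210324321010000000f5101232143200000000f5101232143000000000f5102103240000000f5101213214300000000f51012132430000000f51012132432000000f512324321012000f5102132143210510000f5123210432101200000f512321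04321010000f51232104321013000f51232104321013200f510213213432103200f5102132343213232000f5102132343213230000000f510213243210000000f5101023243200000000f5101232432000000000f5101232430000000000f51012324000000000f512321045000000000f51012321400000000f5101213214000000000f510121324000000000f5102101340000000000f5101023400000000000f510123400000f51012132432100000f510232143210100000f5102132143210500000f51021324321050000f5102132343210500000f5123214321012000000f512321432101000000f51012321432300000f5101232143213000000f5101232143210000000f51012324321000000f510102324321000000f5102103243210000000f5102103243200000000f5102132432000000f51012132143200000000f51021323430000000f51021323432000000f51021323432300000f51012132143230000f5101213214321300000f5101213214321000000f510121324321000000f5102132432510000000f512321043210000000000f5123214500000000f51021324350000000000f51021345000000000f5102132450000000000f51232104000000000f51232104300000000f5123210432000f512321432101325000f5102132134321320000000f5102132104500000f51021321014320000f5102132101432300000f510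23210432150000f510232104321350000f510123214321010000f5102321043213200000000f5102321043000000f510213210145000000f5102132101430000000f51021321043000000f51021321343200000f51021321343230000f5102132134321300000f5102132134321000000f51021323432100000f51021323432130000f5102132343213200000f51232104321050000f5123210432103200000f5123210432103000000f51232104321000000f51021324325100000f5101232143213500000f5101232143215000000f510123243215000000f51232432101000000f510210324321500000f510121324321500000f5102132432151000000f51232104321500000f5123210432132000000f5123210432130000000f51232104323000000f51232104323400000f510232104323400000f51021321432340000f510213213432340000f5123214321013500000f51232143210150000f5102132343210300000f51021323432100000f51021321343210000f510213213432101000f5123210432103240000f51232104321034000f510232104321034000f510213243210123000f510232104321032000f51012321432101000000f5101232143232000000f5102132324320000000f5102132324300000000f51021323240000000f51021321345000000000f5102132340000000f5102132101400000f51023210432130000f5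10123214321320000f510213213432150000f51232143210134000f5123214321013230000f5123214321013200000f512321432101300000f51232143210340000f510232143210340000f510232104321510000f5101232432101200000f5102103243210000000f51021324321000000f51021321432100000f510213214321010000f510232104321050000f5101232143232100000f5102132324321000000f5102321043210000000f51023210432000000f510232104323000000000f5102132430000000f5102132101500000000f510213214500000000f51021321350000000f5102132134300000000f51021321340000000000f5102132400000000f5102132104000000f510213210432000000f5102321432320000000f5102321432300000000f5102321432000000000f510232145000000000f51023210400000000f512321432100000f51021321432150000000f5102324321000000f5102321432134000000f512324321015000000f5102132143230000000000f51023215000000000f5102321430000000000f51023214000000000f51021321400000000f51021321430000000f51021321432000000f51021321432100000f51021321432130000f5101232143210300000f5101232143210000000f51012324321000000f510123243210100000f51232432101510000f5123214321324300000f5123214321324000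000f5123214321340000000f51232143234000000f51023214323400000f51023214323240000f51023214323243000f5102132101432130000f5102132101432100000f510213210432100000f5102321432321000000f5123214321030000000f5123214321000000000f51232432100000000f51232432101000000f51023243210100000f51023243210120000f5102321432101200000f5102321432101000000f51023214321000000f510232143210300000f5123210432151000000f5123214321320000000f5123214321300000000f5123214323000000000f5123214320000000000f51232143000000000f510232105000000f5102132101510000000f510213210510000000000f5102324300000000000f512321500000000000f512321400000000000f5102324000000000f5123243210000f510232143213210000f512321432103240000f5102132104321000f510213210143213200f5102321432321432000f5102321432321430000f510232143232140000f510232143232100000f51023214321324000f5101232432101020000f510123243210100000f51232432101510000f512321432103243000f510213210143210000f51232143210321400f5123214321013213000f5123214321013210000f5123214321032100000f512321432103200000f5102321432132000000f5102321432130000000f51023214321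00000000f5102324321000000000f5102324320000000000f5123243200000000000f51232430000000000f51232105000000000f51021321500000000f5102132105000000000000f5123240000000000f510102130000000000f510210340000000000f5102101300000000000f510123200000000000f51010230000000000f510102320000000000f51012134000000000000f5101230000000000f5102321000000000000f512321000000000000f510102100000000000f510213400000000000f51021320000000000f51021323000000000f5102132320000000000f5102132500000000000f51021350000000000f510210320000000000f5101232100000000000f5102103000000000000f510234000000000000f510213000000000f5101213210000000000f5101213200000000000f51012130000000000000f5123400000000000f5102101000000000000f510215000000000000f5101020000000000000f510120000000000000f51023000000000000f512321000000000f51021321000000000f5102132101000000000f5102132130000000000f5102132100000000000f5102321000000000000f5102320000000000000f5123200000000000000f51230000000000000f5101000000000000000f5101000000000000000f510000000000000f510210000000000000f5101210000000000000f5102100000000000000f5102000000000000000f5120000000000000000f5100000000000000000f5000000000000000000f⟩,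
  ⟨0, 1, 1, 0xeeeeeeeeeeeeeeeeeeeeeeeeeeeeeeeeeeeeeeeeeeeeeeeeeeeeeeeeeeeeeeeeeeeeeeeeeeeeeeeeeeeeeeeeeeeeeeeeeeeeeeeeeeeeeeeeeeeeeeeeeeeeeeeeeeeeeeeeeeeeeeeeeeeeeeeeeeeeeeeeeeeeeeeeeeeeeeeeeeeeeeeeeeeeeeeeeeeeeeeeeeeeeeeeeeeeeeeeeeeeeeeeeeeeeeeeeeeeeeeeeeeeeeeeeeeeeeeeeeeeeeeeeeeeeeeeeeeeeeeeeeeeeeeeeeeeeeeeeeeeeeeeeeeeeeeeeeeeeeeeeeeeeeeeeeeeeeeeeeeeeeeeeeeeeeeeeeeeeeeeeeeeeeeeeeeeeeeeeeeeeeeeeeeeeeeeeeeeeeeeeeeeeeeeeeeeeeef⟩,
  ⟨10, 315, 18, 0xe00000000000000000e00000000000000000e00000000000000000e00000000000000000e00000000000000000e00000000000000000e00000000000000000e00000000000000000e00000000000000000e00000000000000000e00000000000000000e00000000000000000e00000000000000000e00000000000000000e00000000000000000e00000000000000000e00000000000000000e00000000000000000e00000000000000000e00000000000000000e00000000000000000e00000000000000000e00000000000000000e00000000000000000e00000000000000000e00000000000000000e00000000000000000e00000000000000000e00000000000000000e00000000000000000e00000000000000000e00000000000000000e0000000000000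0000e00000000000000000e00000000000000000e00000000000000000e00000000000000000e00000000000000000e00000000000000000e00000000000000000e00000000000000000e00000000000000000e00000000000000000e00000000000000000e00000000000000000e00000000000000000e00000000000000000e00000000000000000e00000000000000000e00000000000000000e00000000000000000e00000000000000000e00000000000000000e00000000000000000e00000000000000000e00000000000000000e00000000000000000e00000000000000000e00000000000000000e00000000000000000e00000000000000000e00000000000000000e00000000000000000e00000000000000000e00000000000000000e00000000000000000e00000000000000000e00000000000000000e00000000000000000e00000000000000000e00000000000000000e00000000000000000e00000000000000000e00000000000000000e00000000000000000e00000000000000000e00000000000000000e00000000000000000e00000000000000000e0000f0123423120101000f01234231230101000f012342312010120000f012342312301000000f0123423120100f01234231234010100f01234231201012340f23423010123120100f012342312010123200f01234231201012300f23423210123201000f01234231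2341010000000000000f234230000000000000f234200f01234231234010100f23401230123410100f23423010123120100000f234231201012000000f234231201010000f2342301232101f23423210123012101f23423010123120101f01234231201012321f012342301231012010f23423210123012100f012342301231012000f012342301231010000f012342301210100000f234012312010100000f23401231201000000f23423012321000000000000f2342310000000000000f234100000000000000000e00000000000000000e00000000000000000e0000f2342301230101000000f2342312101000000f23423120101000000f23423012010100000000f2340123200000f23401231231010000f23423010123100000f01234231234010000f234012301234100000f234232101231000000f234232101210000000f2342312101000000000f234230120000000000f2342301000000000000f23421000000000f234012310000000000f2340123000000000f234012320000f012342320101200f012342312301010000f012342312010100000f2340123012101000f2340123012310100f234230123012321000f23423010123120000f234230123012320000f234230123012300000000f23423120100000000000f2342320000000000f234232000000000000f234230000000000000f2342000000000000000000e000000000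00f2342010000000000f234012100000000000f234012000000000000f2341200000000000000f2340000000000000f23400000000f23401232100000f0123423121010000f01234231231010000f01234232010123000f23423012321010000f012342320101210000f012342301210100000000f2342301230000000f234230123100000000f234230121000000000f234232010000000000f2342321000000000f234231210000000000f2342312000000000f2342312000000000f234012312000000000f2342301000000000f2342301200000000f23423012300000000f2340123123000000f234012312310000000f234012312100000000f2340123210000000f2340123201000000f2340123012100000000000000000e000000000f2340123000000000000f2340100000000000f2340120000000000f2340120100000000f2340123010000000f2340123012000f234231012343120000f234230101231200000000000000000e000000f2342301012000000f2342301012300000f234230123121000000f234232010121000000f2342301210100000f23423012310100000000f01234231000000000000000000e0000000f234230101000000000f2342310100000000f2342301012000000f2342301012300000f234230101231000000f234230101210000000f2342301201000000f2342301230100000f23423012301200000f2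340123123120000f23401231231230000f234012301231000000f234012301210000000f2340123201000000f234012320101000000f2340123210100000f0123423210100000f012342320101000000f234012312101000000f2340123121000000f2340123123100000f23401231231200000f234232101234100000f234012301231000000f2340123012300000f23401230123400000f012342312340000000f2342310123400000f2342310123430000f234231012343100000f23423101234100000f234230123010000000f2342301201000000f23423010121000000f2342321012100000f2342321012310000f23401230123410000f012342312340100000f23423120101230000f234230123101000000f2342301210100000000f23423012320000000f234012312000000000f234012310000000000f2340121000000000000000000e0000000000f234201000000000f23420101000000f012342312301000000f23423012312000f01234231234101000f2342321012320100f23423210123012100f012342301231012000f012342301231010000f23423210123200000f012342312341000000f234232010123000000f2342320101200000000f2342312100000000f2342312010000000f2342310121000000f23423101210100000f234230123121000000f23423012321000000f23401231201000000f0123423120100000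00f0123423120000000f012342312300000000000f234231000000000000000000e00000000000000000e00000000000000000e00000000f234230101000000000f2342010100000000000f234210000000000f234210100000000f2342310120000000f012342312320000000f012342312300000000f01234231200000000000000000e000000000f01234210000000f012342301210000f01234231231010000000f012342321000000f012342312341000000000f234232100000000f234231012300000000000000000e000000000f012342310000000000f01234210000000000f2342101000000000f2342310100000000f2342310120000000f2342310121000000f23423101231000000f234230123100000000f234230121000000000f2342320100000000f234232010100000000f2342321010000000f2342321012000000f2342321012300000f23423210123200000f012342312343000000f0123423123400000f0123423123420000f01234231234230000f234230101230100000f234230101201000000f2342310120100000f0123423123210000f012342301231000000f012342301210000000f0123423201000000f012342320101000000f0123423210100000f0123423210120000f012342321012100000f012342312101000000f0123423121000000f0123423123100000f012342312312000000f234232101234000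00f012342301231000000f012342301230000000f012342301200000000f01234230100000000000000000e00000000000000000e00000000000000000e0000000000f012342300000000000000000e000000000f0123420100000000000f0123420000000f01234232010000f012342312312100000f23423210123000000f234231012010000f2342301012301200f012342312342312000f012342312342310000f01234231234210000f01234231232100000f012342312341200000f234232010120000000f234232010100000000f2342321010000000f2342321012000000f2342321012010000f2342321012301000f2342321012301200f012342312312312000f012342312312310000f012342312312300000f012342312312000000f012342312310000000f012342312100000000f012342321000000000f0123423200000000f012342320000000000f0123423000000000000000000e00000000000000000e00000000000000000e0000000000f012342000000000000000f21300000000000f2341210000000000000f21320000000000000f2320000000000000000f2300000000000000f232000000000000f2340100000000000000f0230000000000f01232100000000000f0231201000000000000000f2100000000000f012341000000000000f2321000000000000f2320100000000000f023121000000000000f0231200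00000000000f023100000000000000f2321000000000000f23201000000000000f21321000000000000f01234000000000000f0123100000000000f023121000000000000f023120000000000000f023100000000000f012340000000000000f213230000000000000f02100000000000000000f2000000000000000f020000000000000f01230000000000f01232010000000000f2321010000000000f232010100000000000f232010100000000000f23210100000000000f012321000000000000f0123200000000000f012320000000000000f0123000000000000000000f0000000000000000f0000000000000000f01000000000000f0121000000000000000f0210000000000000f012100000000000000f0120000000000000f010200000000000000f0100000000000000f010100000000000000000e⟩,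
  ⟨25, 10, 13, 0xe000000000000e000000000000e000000000000e000000000000e000000000000e000000000000e000000000000e000000000000e000000000000e000000000000e000000000000e000000000000e000000000000e000000000000e000000000000e000000000000e000000000000e000000000000e000000000000e000000000000e000000000000e000000000000e000000000000e000000000000e000000000000e000000000000e000000000000e000000000000e000000000000e000000000000e000000000000e000000000000e000000000000e000000000000e000000000000e000000000000e000000000000e000000000000e000000000000e000000000000e000000000000e000000000000e000000000000e000000000000e000000000000e000000000000e000000000000e000000000000e000000000000e000000000000e000000000000e000000000000e000000000000e000000000000e000000000000e000000000000e000000000000e000000000000e000000000000e000000000000e000000000000e000000000000e000000000000e000000000000e000000000000e000000000000e000000000000e000000000000e000000000000e000000000000e000000000000e000000000000e000000000000e000000000000e000000000000e000000000000e000000000000e000000000000e000000000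000e000000000000e000000000000e000000000000e000000000000e000000000000e000000000000e000000000000e000000000000e000000000000e000000000000e000000000000e000000000000e000000000000e000000000000e000000000000e000000000000e000000000000e000000000000e000000000000e000000000000e000000000000e000000000000e000000000000e000000000000e000000000000e000000000000e000000000000e000000000000e000000000000e000000000000e000000000000e000000000000e000000000000e000000000000e000000000000e000000000000e000000000000e000000000000e000000000000e000000000000e000000000000e000000000000e000000000000e000000000000e000000000000e000000000000e000000000000e000000000000e000000000000e000000000000e000000000000e000000000000e000000000000e000000000000e000000000000e000000000000e000000000000e000000000000e000000000000e000000000000e000000000000e000000000000e000000000000e000000000000e000000000000e000000000000e000000000000e000000000000e000000000000e000000000000e000000000000e000000000000e000000000000e000000000000e000000000000e000000000000e000000000000e000000000000e000000000000e00000000000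0e000000000000e000000000000e000000000000e000000000000e000000000000e000000000000e000000000000e000000000000e000000000000e000000000000e000000000000e000000000000e000000000000e000000000000e000000000000e000000000000e000000000000e000000000000e000000000000e000000000000e000000000000e000000000000e0000000f21012000000000000e000000000000e000000000000e000000000000ef231230101210f012101032132000000000000e000000000000e000000000000e000000000000e000000000000e000000000000e000000000000e000000000000e000000000000e000000000000e000000000000e000000000000e000000000000e000000000000e000000000000e000000000000e000000000000e000000000000e000000000000e000000000000e000000000000e000000000000e000000000000e000000000000e000000000000e000000000000e000000000000e000000000000e000000000000e000000000000e000000000000e000000000000e000000000000e000000000000e000000000000e000000000000e000000000000e000000000000e000000000000e000000000000e000000000000e000000000000e000000000000e000000000000e000000000000e000000000000e000000000000e000000000000e000000000000e000000000000e000000000000e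000000000000e000000000000e000000000000e000000000000e000000000000e000000000000e000000000000e000000000000e000000000000e000000000000e000000000000e000000000000e000000000000e000000000000e000000000000e000000000000e000000000000e000000000000e000000000000e000000000000e000000000000e000000000000e000000000000e000000000000e000000000000e000000000000e000000000000e000000000000e000000000000e000000000000e000000000000e000000000000e000000000000e000000000000e000000000000e000000000000e000000000000e000000000000e000000000000e000000000000e000000000000e000000000000e000000000000e000000000000e000000000000e000000000000e000000000000e000000000000e000000000000e000000000000e000000000000e000000000000e000000000000e000000000000e000000000000e000000000000e000000000000e000000000000e000000000000e000000000000e000000000000e000000000000e000000000000e000000000000e000000000000e000000000000e000000000000e000000000000e000000000000e000000000000e000000000000e000000000000e000000000000e000000000000e000000000000e000000000000e000000000000e000000000000e000000000000e000000000000e00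0000000000e000000000000e000000000000e000000000000e000000000000e000000000000e000000000000e000000000000e000000000000e000000000000e000000000000e000000000000e000000000000e000000000000e000000000000e000000000000e000000000000e000000000000e0f012101321320f21321013210000000000000e000000000000e000000000000e000000000000e000000000000e000000000000e000000000000e000000000000e000000000000e000000000000e000000000000e000000000000e000000000000e000000000000e000000000000e000000000000e000000000000e000000000000e000000000000e000000000000e000000000000e000000000000e000000000000e000000000000e000000000000e000000000000e000000000000e000000000000e000000000000e000000000000e000000000000e000000000000e000000000000e000000000000e000000000000e000000000000e000000000000e000000000000e000000000000e000000000000e000000000000e000000f210124000000000000e000000000000e000000000000e000000000000e000000000000e000000000000e000000000000e000000000000e000000000000f000000000000e00000f2101243000000000000e000000000000e000000000000e000000000000e000000000000e000000000000e000000000000e000000000000e000000000000e000000000000e000000000000e00000000000f4000000000000e000000000000e000000000000e000000000000e000000000000e000000000000e000000000000e0000000000f43000000000000e000000000000e000000000000e⟩,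
  ⟨1, 16, 21, 0xe00000000000000000000e00000000000000000000e00000000000000000000e00000000000000000000e00000000000000000000e00000000000000000000e00000000000000000000e00000000000000000000e00000000000000000000e00000000000000000000e00000000000000000000e00000000000000000000e00000000000000000000e00000000000000000000e00000000000000000000e00000000000000000000e00000000000000000000e00000000000000000000e00000000000000000000e00000000000000000000e00000000000000000000e00000000000000000000e00000000000000000000e00000000000000000000e00000000000000000000e00000000000000000000e00000000000000000000e00000000000000000000e00000000000000000000e00000000000000000000e00000000000000000000e00000000000000000000e00000000000000000000e00000000000000000000e00000000000000000000e00000000000000000000e00000000000000000000e00000000000000000000e00000000000000000000e00000000000000000000e00000000000000000000e00000000000000000000e00000000000000000000e00000000000000000000e00000000000000000000e00000000000000000000e00000000000000000000e00000000000000000000e0000000000000000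0000e00000000000000000000e00000000000000000000e00000000000000000000e00000000000000000000e00000000000000000000e00000000000000000000e00000000000000000000e00000000000000000000e00000000000000000000e00000000000000000000e00000000000000000000e00000000000000000000e00000000000000000000e00000000000000000000e00000000000000000000e00000000000000000000e00000000000000000000e00000000000000000000e00000000000000000000e00000000000000000000e00000000000000000000e00000000000000000000e00000000000000000000e00000000000000000000e00000000000000000000e00000000000000000000e00000000000000000000e00000000000000000000e00000000000000000000e00000000000000000000e00000000000000000000e00000000000000000000e00000000000000000000e00000000000000000000e00000000000000000000e00000000000000000000e00000000000000000000e00000000000000000000e00000000000000000000e00000000000000000000e00000000000000000000e00000000000000000000e00000000000000000000e00000000000000000000e00000000000000000000e00000000000000000000e00000000000000000000e00000000000000000000e00000000000000000000e00000000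000000000000e00000000000000000000e00000000000000000000e00000000000000000000e00000000000000000000e00000000000000000000e00000000000000000000e00000000000000000000e00000000000000000000e00000000000000000000e00000000000000000000e00000000000000000000e00000000000000000000e00000000000000000000e00000000000000000000e00000000000000000000e00000000000000000000e00000000000000000000e00000000000000000000e00000000000000000000e00000000000000000000e00000000000000000000e00000000000000000000e00000000000000000000e00000000000000000000e00000000000000000000e00000000000000000000e00000000000000000000e00000000000000000000e00000000000000000000e00000000000000000000e00000000000000000000e00000000000000000000e00000000000000000000e00000000000000000000e00000000000000000000e00000000000000000000e00000000000000000000e00000000000000000000e00000000000000000000e00000000000000000000e00000000000000000000e00000000000000000000e00000000000000000000e00000000000000000000e00000000000000000000e00000000000000000000e00000000000000000000e00000000000000000000e00000000000000000000e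00000000000000000000e00000000000000000000e00000000000000000000e00000000000000000000e00000000000000000000e00000000000f43210123400000000000000000000e00000000000000000000e00000000000000000000e00000000000000000000e00000000000000000000e00000000000000000000e00000000000000000000e00000000000000000000e00000000000000000000e00000000000000000000e00000000000000000000e00000000000000000000e00000000000000000000e00000000000000000000e00000000000000000000e00000000000000000000e00000000000000000000e00000000000000000000e00000000000000000000e00000000000000000000e00000000000000000000e00000000000000000000e00000000000000000000e00000000000000000000e00000000000000000000e00000000000000000000e00000000000000000000e00000000000000000000e00000000000000000000e00000000000000000000e00000000000000000000e00000000000000000000e00000000000000000000e00000000000000000000e00000000000000000000e00000000000000000000e00000000000000000000e00000000000000000000e00000000000000000000e00000000000000000000e00000000000000000000e00000000000000000000e00000000000000000000e0000000000000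0000000e00000000000000000000e00000000000000000000e00000000000000000000e00000000000000000000e00000000000000000000e00000000000000000000e00000000000000000000e00000000000000000000e00000000000000000000e00000000000000000000e00000000000000000000e00000000000000000000e00000000000000000000e00000000000000000000e00000000000000000000e00000000000000000000e00000000000000000000e00000000000000000000e00000000000000000000e00000000000000000000e00000000000000000000e00000000000000000000e00000000000000000000e00000000000000000000e00000000000000000000e00000000000000000000e00000000000000000000e00000000000000000000e00000000000000000000e00000000000000000000e00000000000000000000e00000000000000000000e00000000000000000000e00000000000000000000e00000000000000000000e00000000000000000000e00000000000000000000e00000000000000000000e00000000000000000000e00000000000000000000e00000000000000000000e00000000000000000000e00000000000000000000e00000000000000000000e00000000000000000000e00000000000000000000e00000000000000000000e00000000000000000000e00000000000000000000e00000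000000000000000e00000000000000000000e00000000000000000000e00000000000000000000e00000000000000000000e00000000000000000000e00000000000000000000e00000000000000000000e00000000000000000000e00000000000000000000e00000000000000000000e00000000000000000000e00000000000000000000e00000000000000000000e00000000000000000000e00000000000000000000e00000000000000000000e00000000000000000000e00000000000000000000e00000000000000000000e00000000000000000000e00000000000000000000e00000000000000000000e00000000000000000000e00000000000000000000e00000000000000000000e00000000000000000000e00000000000000000000e00000000000000000000e00000000000000000000e00000000000000000000e00000000000000000000e00000000000000000000e0f010123412301012341200000000000000000000e00000000000000000000e0000f432132324321323400000000000000000000e00000000000000000000e00000000000000000000e00000000000000000000e00000000000000000000e00000000000000000000e00000000000000000000e00000000000000000000e00000000000000000000e00000000000000000000e00000000000000000000e00000000000000000000e000000000000000000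00e00000000000000000000e00000000000000000000e00000000000000000000e00000000000000000000e0000f143213234321323400000f4321323432132340000f432132343213234300000000000000000000e00000000000000000000e00000000000000000000e00000000000000000000e00000000000000000000e00000000000000000000e00000000000000000000e00000000000000000000e00000000000000000000e00000000000000000000e00000000000000000000e00000000000000000000e00000000000000000000e00000000000000000000e00000000000000000000e00000000000000000000e00000000000000000000e00000000000000000000ef213234321012321323210f21323432101232132320f213213432101232312000000000000000000000e00000000000000000000e00000000000000000000e00000000000000000000e00000000000000000000e00000000000000000000e00000000000000000000e00000000000000000000e00000000000000000000e00000000000000000000e00000000000000000000e00000000000000000000e00000000000000000000e00000000000000000000e00000000000000000000e00000000000000000000e00000000000000000000e00000000000000000000e00000000000000000000e0000f01012324321013400000f01012343232101400000000000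0000000000e00000000000000000000e00000000000000000000e00000000000000000000e00000000000000000000e00000000000000000000e00000000000000000000e00000000000000000000e00000000000000000000e00000000000000000000e00000000000000000000e00000000000000000000e00000000000000000000e00000000000000000000e00000000000000000000e00000000000000000000e00000000000000000000e00000000000000000000e00000000000000000000e00000000000000000000e00000000000000000000e00000000000000000000e00000000000000000000e00000000000000000000e0000000000f143210123400000000000000000000e00000000000000000000e00000000000000000000e00000000000000000000e00000000000000000000e00000000000000000000e00000000000000000000e00000000000000000000e00000000000000000000e00000000000000000000e00000000000000000000e00000000000000000000e00000000000000000000e00000000000000000000e00000000000000000000e00000000000000000000e00000000000000000000e00000000000000000000e00000000000000000000e00000000000000000000e00000000000000000000e00000000000000000000e00000000000000000000e00000000000000000000e00000000000000000000e00000000f010102321010000000000f0101232101000000000000000000000e00000000000000000000e00000000000000000000e00000000000000000000e00000000000000000000e00000000000000000000e00000000000000000000e00000000000000000000e00000000000000000000e00000000000000000000e00000000000000000000e00000000000000000000e00000000000000000000e00000000000000000000e0000000000000000000f100000000000000000000f00000000000000000000e⟩,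
  ⟨3, 4, 23, 0xe0000000000000000000000e0000000000000000000000e0000000000000000000000e0000000000000000000000e0000000000000000000000e0000000000000000000000e0000000000000000000000e0000000000000000000000e0000000000000000000000e0000000000000000000000e0000000000000000000000e0000000000000000000000e0000000000000000000000e0000000000000000000000e0000000000000000000000e0000000000000000000000e0000000000000000000000e0000000000000000000000e0000000000000000000000e0000000000000000000000e0000000000000000000000e0000000000000000000000e0000000000000000000000e0000000000000000000000e0000000000000000000000e0000000000000000000000e0000000000000000000000e0000000000000000000000e0000000000000000000000e0000000000000000000000e0000000000000000000000e0000000000000000000000e0000000000000000000000e0000000000000000000000e0000000000000000000000e0000000000000000000000e0000000000000000000000e0000000000000000000000e0000000000000000000000e0000000000000000000000e0000000000000000000000e0000000000000000000000e0000000000000000000000e0000000000000000000000e0000000000000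000000000e0000000000000000000000e0000000000000000000000e0000000000000000000000e0000000000000000000000e0000000000000000000000e0000000000000000000000e0000000000000000000000e0000000000000000000000e0000000000000000000000e0000000000000000000000e0000000000000000000000e0000000000000000000000e0000000000000000000000e0000000000000000000000e0000000000000000000000e0000000000000000000000e0000000000000000000000e0000000000000000000000e0000000000000000000000e0000000000000000000000e0000000000000000000000e0000000000000000000000e0000000000000000000000e0000000000000000000000e0000000000000000000000e0000000000000000000000e0000000000000000000000e0000000000000000000000e0000000000000000000000e0000000000000000000000e0000000000000000000000e0000000000000000000000e0000000000000000000000e0000000000000000000000e0000000000000000000000e0000000000000000000000e0000000000000000000000e0000000000000000000000e0000000000000000000000e0000000000000000000000e0000000000000000000000e0000000000000000000000e0000000000000000000000e0000000000000000000000e00000000000000000000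00e0000000000000000000000e0000000000000000000000e0000000000000000000000e0000000000000000000000e0000000000000000000000e0000000000000000000000e0000000000000000000000e0000000000000000000000e0000000000000000000000e0000000000000000000000e0000000000000000000000e0000000000000000000000e0000000000000000000000e0000000000000000000000e0000000000000000000000e0000000000000000000000e0000000000000000000000e0000000000000000000000e0000000000000000000000e0000000000000000000000e0000000000000000000000e0000000000000000000000e0000000000000000000000e0000000000000000000000e0000000000000000000000e0000000000000000000000e0000000000000000000000e0000000000000000000000e0000000000000000000000e0000000000000000000000e0000000000000000000000e0000000000000000000000e0000000000000000000000e0000000000000000000000e0000000000000000000000e0000000000000000000000e0000000000000000000000e0000000000000000000000e0000000000000000000000e0000000000000000000000e0000000000000000000000e0000000000000000000000e0000000000000000000000e0000000000000000000000e0000000000000000000000e0000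000000000000000000e0000000000000000000000e0000000000000000000000e0000000000000000000000e0000000000000000000000e0000000000000000000000e0000000000000000000000e0000000000000000000000e0000000000000000000000e0000000000000000000000e0000000000000000000000e0000000000000000000000e0000000000000000000000e0000000000000000000000e0000000000000000000000e0000000000000000000000e0000000000000000000000e0000000000000000000000e0000000000000000000000e0000000000000000000000e0000000000000000000000e0000000000000000000000e0000000000000000000000e0000000000000000000000e0000000000000000000000e0000000000000000000000e0000000000000000000000e0000000000000000000000e0000000000000000000000e0000000000000000000000e0000000000000000000000e0000000000000000000000e0000000000000000000000e0000000000000000000000e0000000000000000000000e0000000000000000000000e0000000000000000000000e0000000000000000000000e0000000000000000000000e0000000000000000000000e0000000000000000000000e0000000000000000000000e0000000000000000000000e0000000000000000000000e0000000000000000000000e00000000000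00000000000e0000000000000000000000e0000000000000000000000e0000000000000000000000e0000000000000000000000e0000000000000000000000e0000000000000000000000e0000000000000000000000e0000000000000000000000e0000000000000000000000e0000000000000000000000e0000000000000000000000e0000000000000000000000e0000000000000000000000e0000000000000000000000e0000000000000000000000e0000000000000000000000e0000000000000000000000e0000000000000000000000e0000000000000000000000e0000000000000000000000e0000000000000000000000e0000000000000000000000e0000000000000000000000e0000000000000000000000e0000000000000000000000e0000000000000000000000e0000000000000000000000e0000000000000000000000e0000000000000000000000e0000000000000000000000e0000000000000000000000e0000000000000000000000e0000000000000000000000e0000000000000000000000e0000000000000000000000e0000000000000000000000e0000000000000000000000e0000000000000000000000e0000000000000000000000e0000000000000000000000e0000000000000000000000e0000000000000000000000e0000000000000000000000e0000000000000000000000e000000000000000000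0000e0000000000000000000000e0000000000000000000000e0000000000000000000000e0000000000000000000000e0000000000000000000000e0000000000000000000000e0000000000000000000000e0000000000000000000000e0000000000000000000000e0000000000000000000000e0000000000000000000000e0000000000000000000000e0000000000000000000000e0000000000000000000000e0000000000000000000000e0000000000000000000000e0000000000000000000000e0000000000000000000000e0000000000000000000000e0000000000000000000000e0000000000000000000000e0000000000000000000000e0000000000000000000000e0000000000000000000000e0000000000000000000000e0000000000000000000000e0000000000000000000000e0000000000000000000000e0000000000000000000000e0000000000000000000000e0000000000000000000000e0000000000000000000000e0000000000000000000000e0000000000000000000000e0000000000000000000000e0000000000000000000000e0000000000000000000000e0000000000000000000000e0000000000000000000000e0000000000000000000000e0000000000000000000000e0000000000000000000000e0000000000000000000000e0000000000000000000000e0000000000000000000000e00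00000000000000000000e0000000000000000000000e0000000000000000000000e0000000000000000000000e0000000000000000000000e0000000000000000000000e0000000000000000000000e0000000000000000000000e0000000000000000000000e0000000000000000000000e0000000000000000000000e0000000000000000000000e0000000000000000000000e0000000000000000000000e0000000000000000000000e0000000000000000000000e0000000000000000000000e0000000000000000000000e0000000000000000000000e0000000000000000000000e0000000000000000000000e0000000000000000000000e0000000000000000000000e0000000000000000000000e0000000000000000000000e0000000000000000000000e0000000000000000000000e0000000000000000000000e0000000000000000000000e0000000000000000000000e0000000000000000000000e0000000000000000000000e0000000000000000000000e0000000000000000000000e0000000000000000000000e0000000000000000000000e0000000000000000000000e0000000000000000000000e0000000000000000000000e0000000000000000000000e0000000000000000000000e0000000000000000000000e0000000000000000000000e0000000000000000000000e0000000000000000000000e000000000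0000000000000e0000000000000000000000e0000000000000000000000e0000000000000000000000e0000000000000000000000e0000000000000000000000e0000000000000000000000e0000000000000000000000e0000000000000000000000e0000000000000000000000e0000000000000000000000e0000000000000000000000e0000000000000000000000e0000000000000000000000e0000000000000000000000e0000000000000000000000e0000000000000000000000e0000000000000000000000e0000000000000000000000e0000000000000000000000e0000000000000000000000ef0103214323101230123421f01013243231230101234120000000000000000000000e0000000000000000000000e0000000000000000000000e0000000000000000000000e0000000000000000000000e0000000000000000000000e0000000000000000000000e0000000000000000000000e0000000000000000000000e0000000000000000000000e0000000000000000000000e0000000000000000000000e0000000000000000000000e0000000000000000000000e0000000000000000000000e0000000000000000000000e0000000000000000000000e0000000000000000000000e0000000000000000000000e0000000000000000000000e0000000000000000000000e0000000000000000000000e0000000000000000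000000e0000000000000000000000e0000000000000000000000e0000000000000000000000e0000000000000000000000e0000000000000000000000e0000000000000000000000e0000000000000000000000e0000000000000000000000e0000000000000000000000e0000000000000000000000e0000000000000000000000e0000000000000000000000e0000000000000000000000e0000000000000000000000e0000000000000000000000e0000000000000000000000e0000000000000000000000e0000000000000000000000e0000000000000000000000e0000000000000000000000e0000000000000000000000e0000000000000000000000e0000000000000000000000e0000000000000000000000e0000000000000000000000e0000000000000000000000e0000000000000000000000e0000000000000000000000e0000000000000000000000e0000000000000000000000e0000000000000000000000e0000000000000000000000e0000000000000000000000e0000000000000000000000e0000000000000000000000e0000000000000000000000e0000000000000000000000e0000000000000000000000e0000000000000000000000e0000000000000000000000e0000000000000000000000e000000000000000000000f30000000000000000000000e0000000000000000000000e0000000000000000000000e0000000000000000000000e0000000000000000000000e0000000000000000000000e0000000000000000000000e0000000000000000000000f0000000000000000000000e0000000000000000000000e0000000000000000000000e⟩,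
  ⟨11, 3, 22, 0xe000000000000000000000e000000000000000000000e000000000000000000000e000000000000000000000e000000000000000000000e000000000000000000000e000000000000000000000e000000000000000000000e000000000000000000000e000000000000000000000e000000000000000000000e000000000000000000000e000000000000000000000e000000000000000000000e000000000000000000000e000000000000000000000e000000000000000000000e000000000000000000000e000000000000000000000e000000000000000000000e000000000000000000000e000000000000000000000e000000000000000000000e000000000000000000000e000000000000000000000e000000000000000000000e000000000000000000000e000000000000000000000e000000000000000000000e000000000000000000000e000000000000000000000e000000000000000000000e000000000000000000000e000000000000000000000e000000000000000000000e000000000000000000000e000000000000000000000e000000000000000000000e000000000000000000000e000000000000000000000e000000000000000000000e000000000000000000000e000000000000000000000e000000000000000000000e000000000000000000000e000000000000000000000e000000000000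000000000e000000000000000000000e000000000000000000000e000000000000000000000e000000000000000000000e000000000000000000000e000000000000000000000e000000000000000000000e000000000000000000000e000000000000000000000e000000000000000000000e000000000000000000000e000000000000000000000e000000000000000000000e000000000000000000000e000000000000000000000e000000000000000000000e000000000000000000000e000000000000000000000e000000000000000000000e000000000000000000000e000000000000000000000e000000000000000000000e000000000000000000000e000000000000000000000e000000000000000000000e000000000000000000000e000000000000000000000e000000000000000000000e000000000000000000000e000000000000000000000e000000000000000000000e000000000000000000000e000000000000000000000e000000000000000000000e000000000000000000000e000000000000000000000e000000000000000000000e000000000000000000000e000000000000000000000e000000000000000000000e000000000000000000000e000000000000000000000e000000000000000000000e000000000000000000000e000000000000000000000e000000000000000000000e00000000000000000000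0e000000000000000000000e000000000000000000000e000000000000000000000e000000000000000000000e000000000000000000000e000000000000000000000e000000000000000000000e000000000000000000000e000000000000000000000e000000000000000000000e000000000000000000000e000000000000000000000e000000000000000000000e000000000000000000000e000000000000000000000e000000000000000000000e000000000000000000000e000000000000000000000e000000000000000000000e000000000000000000000e000000000000000000000e000000000000000000000e000000000000000000000e000000000000000000000e000000000000000000000e000000000000000000000e000000000000000000000e000000000000000000000e000000000000000000000e000000000000000000000e000000000000000000000e000000000000000000000e000000000000000000000e000000000000000000000e000000000000000000000e000000000000000000000e000000000000000000000e000000000000000000000e000000000000000000000e000000000000000000000e000000000000000000000e000000000000000000000e000000000000000000000e000000000000000000000e000000000000000000000e000000000000000000000e000000000000000000000e000000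000000000000000e000000000000000000000e000000000000000000000e000000000000000000000e000000000000000000000e000000000000000000000e000000000000000000000e000000000000000000000e000000000000000000000e000000000000000000000e000000000000000000000e000000000000000000000e000000000000000000000e000000000000000000000e000000000000000000000e000000000000000000000e000000000000000000000e000000000000000000000e000000000000000000000e000000000000000000000e000000000000000000000e000000000000000000000e000000000000000000000e000000000000000000000e000000000000000000000e000000000000000000000e000000000000000000000e000000000000000000000e000000000000000000000e000000000000000000000e000000000000000000000e000000000000000000000e000000000000000000000e000000000000000000000e000000000000000000000e000000000000000000000e000000000000000000000e000000000000000000000e000000000000000000000e000000000000000000000e000000000000000000000e000000000000000000000e000000000000000000000e000000000000000000000e000000000000000000000e000000000000000000000e000000000000000000000e00000000000000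0000000e000000000000000000000e000000000000000000000e000000000000000000000e000000000000000000000e000000000000000000000e000000000000000000000e000000000000000000000e000000000000000000000e000000000000000000000e000000000000000000000e000000000000000000000e000000000000000000000e000000000000000000000e000000000000000000000e000000000000000000000e000000000000000000000e000000000000000000000e000000000000000000000e000000000000000000000e000000000000000000000e000000000000000000000e000000000000000000000e000000000000000000000e000000000000000000000e000000000000000000000e000000000000000000000e000000000000000000000e000000000000000000000e000000000000000000000e000000000000000000000e000000000000000000000e000000000000000000000e000000000000000000000e000000000000000000000e000000000000000000000e000000000000000000000e000000000000000000000e000000000000000000000e000000000000000000000e000000000000000000000e000000000000000000000e000000000000000000000e000000000000000000000e000000000000000000000e000000000000000000000e000000000000000000000e000000000000000000000e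000000000000000000000e000000000000000000000e000000000000000000000e000000000000000000000e000000000000000000000e000000000000000000000e000000000000000000000e000000000000000000000e000000000000000000000e000000000000000000000e000000000000000000000e000000000000000000000e000000000000000000000e000000000000000000000e000000000000000000000e000000000000000000000e000000000000000000000e000000000000000000000e000000000000000000000e000000000000000000000e000000000000000000000e000000000000000000000e000000000000000000000e000000000000000000000e000000000000000000000e000000000000000000000e000000000000000000000e000000000000000000000e000000000000000000000e000000000000000000000e000000000000000000000e000000000000000000000e000000000000000000000e000000000000000000000e000000000000000000000e000000000000000000000e000000000000000000000e000000000000000000000e000000000000000000000e000000000000000000000e000000000000000000000e000000000000000000000e000000000000000000000e000000000000000000000e000000000000000000000e000000000000000000000e000000000000000000000e00000000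0000000000000e000000000000000000000e000000000000000000000e000000000000000000000e000000000000000000000e000000000000000000000e000000000000000000000e000000000000000000000e000000000000000000000e000000000000000000000e000000000000000000000e000000000000000000000e000000000000000000000e000000000000000000000e000000000000000000000e000000000000000000000e000000000000000000000e000000000000000000000e000000000000000000000e000000000000000000000e000000000000000000000e000000000000000000000e000000000000000000000e000000000000000000000e000000000000000000000e000000000000000000000e000000000000000000000e000000000000000000000e000000000000000000000e000000000000000000000e000000000000000000000e000000000000000000000e000000000000000000000e000000000000000000000e000000000000000000000e000000000000000000000e000000000000000000000e000000000000000000000e000000000000000000000e000000000000000000000e000000000000000000000e000000000000000000000e000000000000000000000e000000000000000000000e000000000000000000000e000000000000000000000e000000000000000000000e0000000000000000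00000e000000000000000000000e000000000000000000000e000000000000000000000e000000000000000000000e000000000000000000000e000000000000000000000ef214321010321323421010f010124323123010123412000000000000000000000e000000000000000000000e000000000000000000000e000000000000000000000e000000000000000000000e000000000000000000000e000000000000000000000e000000000000000000000e000000000000000000000e000000000000000000000e000000000000000000000e000000000000000000000e000000000000000000000e000000000000000000000e000000000000000000000e000000000000000000000e000000000000000000000e000000000000000000000e000000000000000000000e000000000000000000000e000000000000000000000e000000000000000000000e000000000000000000000e000000000000000000000e000000000000000000000e000000000000000000000e000000000000000000000e000000000000000000000e000000000000000000000e000000000000000000000e000000000000000000000e000000000000000000000e000000000000000000000e000000000000000000000e000000000000000000000e000000000000000000000e000000000000000000000e000000000000000000000e000000000000000000000e00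0000000000000000000e000000000000000000000e000000000000000000000e000000000000000000000e000000000000000000000e000000000000000000000e000000000000000000000e000000000000000000000e000000000000000000000e000000000000000000000e000000000000000000000e000000000000000000000e000000000000000000000e000000000000000000000e000000000000000000000e000000000000000000000e000000000000000000000e000000000000000000000e000000000000000000000e000000000000000000000e000000000000000000000e000000000000000000000e000000000000000000000e000000000000000000000e000000000000000000000e000000000000000000000f000000000000000000000e000000000000000000000e000000000000000000000e000000000000000000000e000000000000000000000e000000000000000000000e000000000000000000000e000000000000000000000e000000000000000000000e000000000000000000000e000000000000000000000e⟩]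

def cN_g : List (List ℕ) := [[xr 7 0], [xr 7 1], [xr 8 0], [xr 8 1], [xr 9 0], [xr 9 1], [xr 10 0], [xr 10 1], [xr 11 0], [xr 11 1], [xr 2 0, xr 9 2, xr 2 2]]

def cN_w : List (List ℕ) := [[xr 11 0], [xr 10 0], [xr 10 1]]

def cN_b : List Blk := [⟨0, 3, 0xf00f00f00ff3100f00f00f00f00ff3700f00ff5100f00f00ff2300f00f00f00f00f00f00f00f00f00f00f00f00f00f00f00f00f00f00f00f00ff500f500f00f0f40f200f00f00f00f00f00f00f00f00f00f00f00f00f00f00f00f00f00f00f00f00f00f00f00f00f00f0f3f3000f00f00f00f00f00f00f00f00f00f00f00f00f00f00f00f00f00f00f00f00f00f00f00f00f00f00f00f00f00f00f00f00f00f00f00f00f00f00f00f00f00f00f00f00f00f00f00f00f00f00f00f00f00f00f00f00f00f00f00f00f00f00f00f00f00f00f00f00f00f00f00f00f00f00f00f00f00f00f00f00f00f00f00f00f00f00f00f00f00f00f00f00f00f00f00f00f00f00f00f00f00f00f00f00f00f00f00f00ff6700f00f00f00f00f00f00f00f00f00f00f00f00f00f00f00f00f00f00f00f00f00f00f00f00f00f00f00f00f00f00f00f00f00f00f00f00f00f00f00f00f00f00f00f00f00f00f00f00f00f00f00f00f00f00f00f00f00f00f00f00f00f00f00f00f00f00f00f00f00f00f00f00f00f00f00f00f00f00f00f00f00f00f00f00f00f00f00f00f00f00f00f00f00f00f00f00f00f00f00f00f00f00f00ff4100f00f00f00f00f00f00f00f00f00f00f00f00f00f00f00f00f00f00f00f00f00f00f00f00f00f00f00f00f00f00f00f00f00f00f00f00f00f00f00f00f00f00ff2100f00f00f00f00f00f00f00f00f00f00f00f00f00f00f00f00f00f00f00f00f00f00f00f00f00f00f00f00f00f00f00f00f00f00f00f00f00f00f00f00f00f00f00f00f00f00f00f00f00f00f00f00f00f00f00f00f00f0f700f00f00f00f00f00f00f00f00f00f00f00f00f00f0f600f00f00f00f00f00f00f00f00f00f⟩]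

private noncomputable def _root_.Cfsg.Agent.LsF.f55d70b_0 : {f // @Cfsg.Agent.StdG24.Sift.cnt = f} := ⟨_, by first | (delta Cfsg.Agent.StdG24.Sift.cnt; rewrite [Cfsg.Agent.LsF.cond_eq]; exact rfl) | exact rfl⟩
private noncomputable def _root_.Cfsg.Agent.LsF.f55d70b_1 : {f // @Cfsg.Agent.StdG24.Sift.Level.ok = f} := ⟨_, by first | (delta Cfsg.Agent.StdG24.Sift.Level.ok; rewrite [Cfsg.Agent.LsF.cond_eq]; exact rfl) | exact rfl⟩
private noncomputable def _root_.Cfsg.Agent.LsF.f55d70b_2 : {f // @Cfsg.Agent.StdG24.Perm416.allN = f} := ⟨_, by first | (delta Cfsg.Agent.StdG24.Perm416.allN; rewrite [Cfsg.Agent.LsF.cond_eq]; exact rfl) | exact rfl⟩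
private noncomputable def _root_.Cfsg.Agent.LsF.f55d70b_3 : {f // @Cfsg.Agent.StdG24.Sift.ivf = f} := ⟨_, by first | (delta Cfsg.Agent.StdG24.Sift.ivf; rewrite [Cfsg.Agent.LsF.cond_eq]; exact rfl) | exact rfl⟩
private noncomputable def _root_.Cfsg.Agent.LsF.f55d70b_4 : {f // @Cfsg.Agent.StdG24.Sift.iv = f} := ⟨_, by first | (delta Cfsg.Agent.StdG24.Sift.iv; rewrite [Cfsg.Agent.LsF.f55d70b_3.2, Cfsg.Agent.LsF.log2_eq]; exact rfl) | exact rfl⟩
private noncomputable def _root_.Cfsg.Agent.LsF.f55d70b_5 : {f // @Cfsg.Agent.StdG24.Sift.Level.inv = f} := ⟨_, by first | (delta Cfsg.Agent.StdG24.Sift.Level.inv; rewrite [Cfsg.Agent.LsF.f55d70b_4.2]; exact rfl) | exact rfl⟩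
private noncomputable def _root_.Cfsg.Agent.LsF.f55d70b_6 : {f // @Cfsg.Agent.StdG24.Sift.Level.chk = f} := ⟨_, by first | (delta Cfsg.Agent.StdG24.Sift.Level.chk; rewrite [Cfsg.Agent.LsF.f55d70b_0.2, Cfsg.Agent.LsF.f55d70b_1.2, Cfsg.Agent.LsF.f55d70b_2.2, Cfsg.Agent.LsF.f55d70b_5.2, Cfsg.Agent.LsF.cond_eq, Cfsg.Agent.LsF.all_eq]; exact rfl) | exact rfl⟩
private noncomputable def _root_.Cfsg.Agent.LsF.f55d70b_7 : {f // @Cfsg.Agent.StdG24.Sift.verify = f} := ⟨_, by first | (delta Cfsg.Agent.StdG24.Sift.verify Cfsg.Agent.StdG24.Sift.verify._f List.brecOn List.brecOn.go; rewrite [Cfsg.Agent.LsF.f55d70b_6.2, Cfsg.Agent.LsF.cond_eq]; (try delta Cfsg.Agent.StdG24.Sift.verify.match_1); (try delta List.casesOn); first | dsimp -zeta only | exact rfl) | exact rfl⟩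
theorem cN_full : Full cN_c := ⟨by ((try (rewrite [Cfsg.Agent.LsF.f55d70b_7.2])); decide +kernel), by decide +kernel⟩

theorem cN_bases : (bases cN_c).take (allPts cN_w [] cN_b).length = allPts cN_w [] cN_b := by decide +kernel

private noncomputable def _root_.Cfsg.Agent.LsF.f55d70b_8 : {f // @Cfsg.Agent.StdG24.Sift.sift = f} := ⟨_, by first | (delta Cfsg.Agent.StdG24.Sift.sift Cfsg.Agent.StdG24.Sift.sift._f List.brecOn List.brecOn.go; rewrite [Cfsg.Agent.LsF.f55d70b_1.2, Cfsg.Agent.LsF.f55d70b_5.2, Cfsg.Agent.LsF.cond_eq, Cfsg.Agent.LsF.map_eq]; (try delta Cfsg.Agent.StdG24.Sift.sift.match_1); (try delta List.casesOn); first | dsimp -zeta only | exact rfl) | exact rfl⟩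
private noncomputable def _root_.Cfsg.Agent.LsF.f55d70b_9 : {f // @Cfsg.Agent.StdG24.Words.ivL = f} := ⟨_, by first | (delta Cfsg.Agent.StdG24.Words.ivL; rewrite [Cfsg.Agent.LsF.f55d70b_4.2, Cfsg.Agent.LsF.foldl_eq]; exact rfl) | exact rfl⟩
private noncomputable def _root_.Cfsg.Agent.LsF.f55d70b_10 : {f // @Cfsg.Agent.StdG24.CentBlk.pts = f} := ⟨_, by first | (delta Cfsg.Agent.StdG24.CentBlk.pts; rewrite [Cfsg.Agent.LsF.f55d70b_9.2, Cfsg.Agent.LsF.map_eq]; exact rfl) | exact rfl⟩
private noncomputable def _root_.Cfsg.Agent.LsF.f55d70b_11 : {f // @Cfsg.Agent.StdG24.Words.gw = f} := ⟨_, by first | (delta Cfsg.Agent.StdG24.Words.gw; rewrite [Cfsg.Agent.LsF.map_eq, Cfsg.Agent.LsF.flatten_eq, Cfsg.Agent.LsF.getD_eq]; exact rfl) | exact rfl⟩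
private noncomputable def _root_.Cfsg.Agent.LsF.f55d70b_12 : {f // @Cfsg.Agent.StdG24.CentLe.idxs = f} := ⟨_, by first | (delta Cfsg.Agent.StdG24.CentLe.idxs; rewrite [Cfsg.Agent.LsF.cond_eq]; exact rfl) | exact rfl⟩
private noncomputable def _root_.Cfsg.Agent.LsF.f55d70b_13 : {f // @Cfsg.Agent.StdG24.CentLe.tabAt = f} := ⟨_, by first | (delta Cfsg.Agent.StdG24.CentLe.tabAt; rewrite [Cfsg.Agent.LsF.f55d70b_12.2]; exact rfl) | exact rfl⟩
private noncomputable def _root_.Cfsg.Agent.LsF.f55d70b_14 : {f // @Cfsg.Agent.StdG24.CentBlk.Blk.wd = f} := ⟨_, by first | (delta Cfsg.Agent.StdG24.CentBlk.Blk.wd; rewrite [Cfsg.Agent.LsF.f55d70b_11.2, Cfsg.Agent.LsF.f55d70b_13.2]; exact rfl) | exact rfl⟩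
private noncomputable def _root_.Cfsg.Agent.LsF.f55d70b_15 : {f // @Cfsg.Agent.StdG24.CentBlk.chkB = f} := ⟨_, by first | (delta Cfsg.Agent.StdG24.CentBlk.chkB List.brecOn List.brecOn.go Cfsg.Agent.StdG24.CentBlk.chkB._f; rewrite [Cfsg.Agent.LsF.f55d70b_2.2, Cfsg.Agent.LsF.f55d70b_8.2, Cfsg.Agent.LsF.f55d70b_10.2, Cfsg.Agent.LsF.f55d70b_9.2, Cfsg.Agent.LsF.f55d70b_14.2, Cfsg.Agent.LsF.lappend_pat, Cfsg.Agent.LsF.cond_eq, Cfsg.Agent.LsF.all_eq]; (try delta Cfsg.Agent.StdG24.CentBlk.chkB.match_1); (try delta List.casesOn); first | dsimp -zeta only | exact rfl) | exact rfl⟩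
private noncomputable def _root_.Cfsg.Agent.LsF.f55d70b_16 : {f // @Cfsg.Agent.StdG24.Words.xr = f} := ⟨_, by first | (delta Cfsg.Agent.StdG24.Words.xr; rewrite [Cfsg.Agent.LsF.nadd_pat, Cfsg.Agent.LsF.nmul_pat, Cfsg.Agent.LsF.getD_eq]; exact rfl) | exact rfl⟩
private noncomputable def _root_.Cfsg.Agent.LsF.f55d70b_17 : {f // @Cfsg.Agent.StdG24.Cents.cN_w = f} := ⟨_, by first | (delta Cfsg.Agent.StdG24.Cents.cN_w; rewrite [Cfsg.Agent.LsF.f55d70b_16.2]; exact rfl) | exact rfl⟩
private noncomputable def _root_.Cfsg.Agent.LsF.f55d70b_18 : {f // @Cfsg.Agent.StdG24.Cents.cN_g = f} := ⟨_, by first | (delta Cfsg.Agent.StdG24.Cents.cN_g; rewrite [Cfsg.Agent.LsF.f55d70b_16.2]; exact rfl) | exact rfl⟩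
theorem cN_chk : chkB cN_c cN_w cN_g [] cN_b = true := by ((try (rewrite [Cfsg.Agent.LsF.f55d70b_15.2, Cfsg.Agent.LsF.f55d70b_17.2, Cfsg.Agent.LsF.f55d70b_18.2])); decide +kernel)

theorem cN_comm : (cN_g.all fun g => cN_w.all fun w => eqc (g ++ w) (w ++ g)) = true := by decide +kernel

def cN_t : List (ℕ × ℕ) := [(6, 0xf00000f00000f00000f00000f00000f00000f00000f00000f00000f00000f00000f00000f00000f00000f00000f00000f00000f00000f00000f00000f00000f00000f00000f00000f00000f00000f00000f00000f00000f00000f00000f00000f00000f00000f00000f00000f00000f00000f00000f00000f00000f00000f00000f00000f00000f00000f00000f00000f00000f00000f00000f00000f00000f00000f00000f00000f00000f00000f00000f00000f00000f00000f00000f00000f00000f00000f00000f00000f00000f00000f00000f00000f00000f00000f00000f00000f00000f00000f00000f00000f00000f00000f00000f00000f00000f00000f00000f00000f00000f00000f00000f00000f00000f00000f00000f00000f00000f00000f00000f00000f00000f00000f00000f00000f00000f00000f00000f00000f00000f00000f00000f00000f00000f00000f00000f00000f00000f00000f00000f0000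0f00000f00000f00000f00000f00000f00000f00000f00000f00000f00000f00000f00000f00000f00000f00000f00000f00000f00000f00000f00000f00000f00000f00000f00000f00000f00000f00000f00000f00000f00000f00000f00000f00000f00f98600000f00000f00000f00000f00000f00000f00000f00000f00000f00000f00000f00000f00000f00000f00000f00000f00000f00000f00000f00000f00000f00000f00000f00000f00000f00000f00000f00000f00000f00000f00000f00000f00000f00000f00000f00000f00000f00000f00000f00000f00000f00000f00000f00000f00000f00000f00000f00000f00000f00000f00000f00000f00000f00000f00000f00000f00000f00000f00000f00000f00000f00000f00000f00000f00000f00000f00000f00000f00000f00000f00000f00000f00000f00000f00000f00000f00000f00000f00000f00000f00000f00000f00000f00000f00000f00000f00000f00000f00000f00000f00000f00000f00000f00000f00000f00000f00000f00000f00000f00000f00000f00000f00000f00000f00000f00000f00000f00000f00000f00000f00000f00000f00000f00000f00000f00000f00000f00000f00000f00000f00000f00000f00000f00000f00000f00000f0f03a300000f00000f0f534100000f00000f00000f00000f00000f00000f00000f00000f00000f00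000f00000f00000f00000f00000f00000f00000f00000f0f5413f65431f0435100000f00000f00000f00000f00000f00000f00000f00000f00000f00000f00000f00000f00000f00000f00000f00000f00000f00000f0fa63200f2a60f2a6000000f00000f00000f00000f00000f00000f00000f00000f00000f00000f00000f00000f00000f00000f00000f00000f00000f00000f00000f0f94200f924000000f00000f00000f00000f00000f00000f00000f00000f00000f00000f00000f00000f00000f00000f00000f00000f00000f00000f00000f00000f00000f00000f00000f00000f000f9600000f00000f00000f00000f00000f00000f00000f00000f00000f00000f00000f00000f00000f00000f00000f00000f00000f00000f00000f00000f00000f00000f00000f00000f00000f00f4020f642000000f00000f00000f00000f00000f00000f00000f00000f00000f00000f00000f00000f00000f00000f0000f800000f00000f), (5, 0xf0000f0000f0000f0000f0000f0000f0000f0000f0000f0000f0000f0000f0000f0000f0000f0000f0000f0000f0000f0000f0000f0000f0000f0000f0000f0000f0000f0000f0000f0000f0000f0000f0000f0000f0000f0000f0000f0000f0000f0000f0000f0000f0000f0000f0000f0000f0000f0000f0000f0000f0000f0000f0000f0000f0000f0000f0000f0000f0000f0000f00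00f0000f0000f0000f0000f0000f0000f0000f0000f0000f0000f0000f0000f0000f0000f0000f0000f0000f0000f0000f0000f0000f0000f0000f0000f0000f0000f0000f0000f0000f0000f0000f0000f0000f0000f0000f0000f0000f0000f0000f0000f0000f0000f0000f0000f0000f0000f0000f0000f0000f0000f0000f0000f0000f0000f0000f0000f0000f0000f0000f0000f0000f0000f0000f0000f0000f0000f0000f0000f0000f0000f0000f0000f0000f0000f0000f0000f0000f0000f0000f0000f0000f0000f0000f0000f0000f0000f0000f0000f0000f0000f0000f0000f0000f0000f0000f0000f0000f0000f0000f0000f0000f0000f0000f0000f0000f0000f0000f0000f0000f0000f0000f0000f0000f0000f0000f0000f0000f0000f0000f0000f0000f0000f0000f0000f0000f0000f0000f0000f0000f0000f0000f0000f0000f0000f0000f0000f0000f0000f0000f0000f0000f0000f0000f0000f0000f0000f0000f0000f0000f0000f0000f0000f0000f0000f0000f0000f0000f0000f0000f0000f0000f0000f0000f0000f0000f0000f0000f0000f0000f0000f0000f0000f0000f0000f0000f0000f0000f0000f0000f0000f0000f0000f0000f0000f0000f0000f0000f0000f0000f0000f0000f0000f0000f0000f0000f0000f0000f0000f0000f0000f0000f0000f0000f0000f0000f0000f0000f0000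f0000f0000f0000f0000f0000f0000f0000f0000f0000f0000f0000f0000f0000f0000f0000f0000f0000f0000f0000f0000f0000f0000f0000f0000f0000f0000f0000f0000f0000f0000f0000f0000f0000f0000f0000f0000f0000f0000f0000f0000f0000f0000f0000f0000f0000f0000f0000f0000f0000f0000f0000f0000f0000f0000f0000f0000f0000f0000f0000f0000f0000f0000f0000f0000f0000f0000f0000f0000ffaa410f0a50000f0000f0000f0000f0000f0000f0000f0000f0000f0000f0000f0000f0000f0000f0000f0000f0000f0000f0000f0000f0000f0000f0000f0000f0000f0000f0000f0000f0000f0000f0000f0000f0000f0000f0000f0000f0000f0000f0000f0000f0000f0000f0000f0000f0000f0000f0000f0000f0000f0000f0000f0000f0000f0000f0000f0000f0000f0000f0000f0000f0000f0000f0000f0000f000f00000f0000f0000f0000f0000f0000f0000f0000f0000f0000f0000f), (4, 0xf000f000f000f000f000f000f000f000f000f000f000f000f000f000f000f000f000f000f000f000f000f000f000f000f000f000f000f000f000f000f000f000f000f000f000f000f000f000f000f000f000f000f000f000f000f000f000f000f000f000f000f000f000f000f000f000f000f000f000f000f000f000f000f000f000f000f000f000f000f000f000f000f000f000f000f0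00f000f000f000f000f000f000f000f000f000f000f000f000f000f000f000f000f000f000f000f000f000f000f000f000f000f000f000f000f000f000f000f000f000f000f000f000f000f000f000f000f000f000f000f000f000f000f000f000f000f000f000f000f000f000f000f000f000f000f000f000f000f000f000f000f000f000f000f000f000f000f000f000f000f000f000f000f000f000f000f000f000f000f000f000f000f000f000f000f000f000f000f000f000f000f000f000f000f000f000f000f000f000f000f000f000f000f000f000f000f000f000f000f000f000f000f000f000f000f000f000f000f000f000f000f000f000f000f000f000f000f000f000f000f000f000f000f000f000f000f000f000f000f000f000f000f000f000f000f000f000f000f000f000f000f000f000f000f000f000f000f000f000f000f000f000f000f000f000f000f000f000f000f000f000f000f000f000f000f000f000f000f000f000f000f000f000f000f000f000f000f000f000f000f000f000f000f000f000f000f000f000f000f000f000f000f000f000f000f000f000f000f000f000f000f000f000f000f000f000f000f000f000f000f000f000f000f000f000f000f000f000f000f000f000f000f000f000f000f000f000f000f000f000f000f000f000f000f000f000f000f000f000f000f000f000f000f000f000f000f000f000ffaa40fa5000f000f000f000f000f000f000f000f000f000f000f000f000f000f000f000f000f000f000f000f000f000f000f000f000f000f000f000f000f000f000f000f000f000f000f000f000f000f000f000f000f000f000f000f000f000f000f000f000f000f000f000f000f000f000f000f000f000f000f000f000f000f000f000f000f000f000f000f000f000f000f000f000f000f000f000f)]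

theorem cN_rest : ((cN_c.drop 4).zip cN_t).all (fun x => lvlIn cN_g x.1 x.2.1 x.2.2) = true := by decide +kernel

theorem cN_len : (allPts cN_w [] cN_b).length = 4 := by decide +kernel

theorem cN (c : L0) (hc : ∀ w ∈ cN_w, c * E w = E w * c) : c ∈ gen cN_g := by
  refine cent_blk cN_full cN_bases cN_chk (gen cN_g) gen_mem
    (comm_of_chk cN_comm) ?_ c hc
  rw [cN_len]
  exact rest_spec _ _ (by decide) cN_rest

end Cfsg.Agent.StdG24.Cents
end

-- part: StdG24/CentQ
section
/-!
# Centralisers in `G₂(4)` by sifting: `C(Q) = N`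
-/

set_option autoImplicit false
set_option maxRecDepth 20000

namespace Cfsg.Agent.StdG24.CentQ

open Cfsg.Agent.StdG24.Perm416 Cfsg.Agent.StdG24.Sift Cfsg.Agent.StdG24.Words Cfsg.Agent.StdG24.CentLe
  Cfsg.Agent.StdG24.CentBlk Cfsg.Agent.StdG24.Cents

def cQ_c : List Level := [
  ⟨12, 416, 14, 0xf01024351000000f1432345000000f143215100000000f143250000f010214325000f01432134510000f01432345100000f01432345000000f432105100000f43210512000f010214323500000f143234510000f143213451000f014323243500000f01243251000000f104325100000f014321050000f014323245000000f0104325000000000f14350000f01432135100000f014321510000000f010435000000f012432500000f0124323500000f010432350000f10432345100000f104323450000f01043234500000f143210510000f1432103510000f01043251200000f010432510000f01043235100000f04321051000000f04321050000000f432105000000f143210500000f143210350000f10432351000000f1043251000000f01432135000000f01432150000000f04321500000000f432150000000f14321500000f104323510000000f01243500000f0102432500000f01432325000000f014325100000f01432351000000f01432350000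000f01432500000000f0143500000000f104350000000f104325000000f10432350000000f1432350000000f143251000000f143235100000f14321351000000f143213500000f143213450000f0143213450000f010432510000f01043235100000f432105101000f04321051010000f04321051000000f432105100000f432105102000f10432345100000f1432103450000f01043512300000f01043512000000f01043510000f010214351000000f010243500000f010214350000f010432101000f01043210130000f1043210100000f01043210300000f0104321000f0123432105100f104321010340f10432101032300f10432101032000f1043210103000f1432101034000f012343210500000f01210143000000f012101400f01043210132000f104321013400f1043210132300f01214321012000f0121432101000f01012432150f143210103213f10432101032130f10432101032100f1432101032100f14321010323000f14321010320000f14321010300000f143210100000f1432101020000f0101432100000f010143215000000f0121043000000f021012400000000f0104500000f01021451000000f0102451000f0104321324000f432101251000f0121432101000f010124321010000000f1014320000f012143215000f01234321030000f01043213400000f104321340000f104321324000f01043213450000f43210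12510000f01010243200000f010102430000000f012104000000f01010430000000f101043000000f1010432000000f4321012000f01243210510000f10432101200000f104321010000f104321013000f104321013200f0123432103200f10432101321000f104321032100000f012143210000f012101432000f01010214320000f01010214300000f01010214000000000f1045000000f01010240000000f01010400000000f101040000000f02101400000f01210124000000f02104510000f1010432100000f0143210100000f01243210500000f432101230000f14321012300000f14321012000000f14321010000f010143232000f0101432321000f01010243210000f04321010500000f432101050000f01210432100000f01210432000000f012143200000f01010432000000f010124300000f010124320000f0101243230000f0101043230000f1014321050000f01010432100000f10104321000000f10143210000000f1043210000000000f14500000000f1014300000000f02145000000000f10140000000000f104000000000f104300000000f10432000f1432101325000f01234321320000000f01024500000f010214320000f01021432300000f010432150000f010432135000f01043213230000f01043213200000000f01043000000f0102145000000f01021430000000f010243000000f012343200000f0123432300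00f01234321300000f012343210000f010124321000f01012432130000f10432105100000f104321050000f10432103200000f10432103000000f104321000000f101432100000f1014321010000f04321010200000f04321010000000f432101000000f432101020000f10104321500000f10143215000000f104321500000f10432132000000f10432130000000f104323000000f104323400000f0104323400000f012432340000f0123432340000f14321013500000f143210150000f143210125000f01012432100000f012343210000f0123432101000f10432103240000f104321034000f010432103400f01043210321000f0104321032000f012432101200000f01014323000000f01014320000000f01014300000000f010140000000f0104510000000f0101240000000f01021400000f010432130000f0124321030000f0123432150000f143210134000f14321013230000f14321013200000f1432101300000f143210340000f0143210340000f010432151000f010432135100000f432101250000f01214321000000f012432100000f0124321010000f0104321050000f01014321300000f01014321000000f01043210000000f010432000000f01043230000000f0121430000000f01021500000000f0124500000000f010510000000f01234300000000f0123400000000f0121400000000f01024000000f0102432000000f0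1432320000000f01432300000000f01432000000000f0145000000000f010400000000f1432100000f012432150000000f04321000000f01432134000000f4321015000000f01243230000000000f015000000000f01430000000000f014000000000f012400000000f012430000000f012432000000f012432100000f012432130000f0124321320000f04321012500000f043210150000f04321015100000f432101510000f14321324300000f14321324000000f14321340000000f143234000000f014323400000f014323240000f014323243000f01021432130000f01021432100000f0102432100000f01432321000000f14321030000000f14321000000000f432100000000f432101000000f043210100000f043210120000f01432101200000f01432101000000f014321000000f0143210300000f10432151000000f14321320000000f14321300000000f14323000000000f14320000000000f143000000000f0105000000f01021510000000f0102510000000000f04300000000000f1500000000000f1400000000000f04000000000f43210000f0143213210000f1432103240000f01024321000f0102143213200f01432321432000f01432321430000f0143232140000f0143232100000f014321324000f0102432101000f04321015100000f432101510000f1432103243000f0102143210000f143210321400f14321013213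000f14321013210000f14321032100000f1432103200000f01432132000000f01432130000000f01432100000000f04321000000000f04320000000000f43200000000000f430000000000f105000000000f012500000000f01025000000000000f40000000f02101200000000f0210400000000f02101000000f0101021000000f01210120000000f0121010000000f0210450000000f0210510000000000f01000000000000f10000000f0210123000000000f0214000000000f012100000000f01012000000000f01010000000000f101000000000f021500000000f012100000000f010102000000000f02100000000000f0240000000000f02100000000f01010000000000f101000000000f0210500000000000f240000000f02101300000000f02135000000f02132100000000f02132100000000000f02000000000000f1000000000f010200000000f01021000000000f01230000000000f01200000000000f01000000000000f00000000000000f000000000000f20000000f02321000000000f02321000000000f023200000000f0210300000000f02132000000000f02130000000000f02300000000000f230000000000f232000000000f232100000000f23215⟩,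
  ⟨13, 315, 22, 0xf012101523412312000f10512343210123215410000f12015234312312310000000000f12015234312000000f121532153423012000000f12015234230121010000f1021523423012101500f0102541232153432301000000000000000000000ef101215103234312301232000000000000000000000e00f1012153423012101530000f102152342301231010000000000000000000000e000000000000000000000e00f1012153423215301210000f10215234323101201000f2132324325120151210000000000000000000000e00f1210315423210152341000000f1215321534321010000f1215321534323101000f12132153421012321010000000f1012151232343200000f12321510132343230000f120152340123101230f0123215431201534201000f010254123215343201000f1012134323012015120000000000000000000000e00f2132324325120151231000f12301501234312010100f021012513423210153000000f120152343232101000f1232151013234323121000f012432153101234321000f1012343523101201530f12321510123423231230000000000000000000000e000f1432341232151012340000000f12132153432101000f102152343231012301000000000000000000000e000f1012343523101201500000f10123432132015101000000000000000000000e000000f101523431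232152000f10125342321523010100000f1232151013234320000000f120152312342323000f12153215432101543000000f1215321543210154000000000000000000000e0000f1201523401231012000000f1015234323210150000000000000000000000e0000000f12321510123432000000000f120152343123000000f121321534230123000f10123435123215123000000f1201523431232152000000f120152343123121000f12321510123423231200f1023542312015342301000000000000000000000e000000f1201523423201010000f0210152341232101500f210532341232153010100f2105323412321501010000000000000000000000e00f1023542312312015431000f02101251342312101500f1215321534230123121000000000000000000000e00000f1215321534230123000000000000000000000e000f10123423215010123100000f1201532101234320000000000000000000000e000f10102324351210153000000f12153234123201010000f101243210154301210f1051232154012321015400000000f4101231210154000000000000000000000e000f1012343230120151200000f10412320154301231000f02140123215432312300f12132341232153012100f10123435121015321012000f121323432101231231000000000000000000000e0000f213232432101512100000000f1012320154301200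00f10412320154301210000f10123432301201512300f1213234123215301231000000000000000000000e0000000000f101234321010000f10152343210123210000f101234320153012321000f121323431231012301000f12132343123101201000f1213234321230120150000f1234323120151234010f1012343515210153121000000f1213234312321010000000000000000000000e0000f121532341230121010f02101531234232150101000f210323412321501010000000000000000000000e000000000f101234230120000000f10152342320101500000f120153210123432300000f0121015234123123000000000000000000000e00000000f1012343231010000000000000000000000e000000000f410123210154000000f101512321523432000f10123432123201510100f1213234321012321523000f123542312010152341000f1012432101523412300000f10124321015412310000f123542301210153401000000000000000000000e0000000000f231232154320f1010232431210152310100000000f101234230101200f1012324310152301010000000000000000000000e000000000000f21323243200f10123432132321510100000f121532343123210100000f1215323412320101500f10512321501234321010f12132343123210150121000f021401232154323120000f1234232153101234100f21323215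2343123123120000f1213234312321015000f10123432152320101510000000000f21532342312000000000f23123215431200000f1012320154301230000000f2312321523423120f1213523412321530123100000f10123215432101200000f101232154321015200000000f2312321523423200000000f1012320154320000f101234231210150120000f101232154321015012000000000000000000000e000000f231234123215232000000000000000000000e000f1213210153432101230000f101243210143201520000f10152343210123231000000f121323412320101000000000000000000000e000f123243215312301234000f102123215432101520000f210101234232101523000000000000000000000e000f21323243210152101200000000000f21323243250000000f1015123212343200000000000f231234231200000f1012321543210123000000000000000000000e00000000f2312321543230000000000000000000000e0000f10124321013423234000000000000000000000e00f1012432101543234323000000000000000000000e00000f2132321523432312000000000000000000000e000000f2312321523432320000f10123215432010123000000000000000000000e0f12103542321015234123000000000000000000000e000000f123215101523432000f1234232153101234310f1213523120154312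3121000f1012534232152010100000f12153231201543120000000000000000000000e0000000f10123431231010000000000000000000000e000f21032153423210121000f213232152343101231200f2103234123215301201000f1012342321501012100000f10152342301231010000000000000000000000e000000000000000000000e0000f12153231201543123000000000000000000000e000f101234321230120152000f1012343521012321500000f10123432321012301000000000000000000000e000000f23123215423231200f2132321423215431230000f21323215234323123000000f2132341232152312000f10124321015342323400f21053215342321012100000f120123215432101200000f21010123423210123000000000000000000000e0000f21323243510152101000f101243210143234323000000000000000000000e0000f213234123215323120000f21323215423231230000f1235432101232154010000000000f101523431230f10123435232101234320000f102412320154301210000000000000000000000e000f213232432510151231000000000000000000000e00000f1213234123201015000f10123435210123215300000f1012343230101201000000000000000000000e000000f41012321015412100f012354231210153401000f012321543121015340100000f12401232101541210000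000f41012321015430000f21032153423210123100f1012343201532010152000000000f231234231230000000000000000000000e0000f101232154321015230000f1012321015432010100000f1015234230121015000f101232431015201015000f101232101543012101000000000000000000000e0000000f231234123123120000f12012343230101201000000000000000000000e0f1012343515210153123100f2132341232151012312000000000000000000000e000000000000000000000e00f1012513232154321015000f0210152341232310100000f120152343232101500f1012343215323210151000f1215342321015423101000000000000000000000e000000000f101234312101000000000000000000000e00f0210512342321540101000f210323412321530101000000f410123121015430000000000000000000000e000f1012343215010152310000000f23123412301232000000000000f101215123000000000000000000000e0000000000f1232151013000f1012324321501201523000000f101523423012101000000000000000000000e000f1012534231201501010000f123215101532343200000000f10152312342323000000000000000000000e00000f143232152312340100f01210153234321012310000000f10152342320101000000000000000000000e00000f213234123215323200f101234321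3210153101000000000000000000000e0000f121323412301210150000f12321510153234323000000000000000000000e000000f1015234323210100f10121513423215230123000000000000000000000e00f101253423215201015300000000f1012512323432000000f231234123012312000000000000000000000e000f10212321543210152300f1213234321015231201000000000000000000000e000f123423201512342010000000000000000000000e0f1025143201523412321000f021012513423123101000f1025123432101523421000f1024123201543012310f10123435232101234323000f213232432510151210000000000000000000000e000000000000000000000e000000000000000000000e00f101253423120101232100f0123423215123423210000000000000000000000e0f101251342321532310100000f1015234323101230100000f1213234123012101000000000000000000000e00f21053215342321012310000f12012321543210123000000000000000000000e00f1012134352310120150000000000000000000000e00f10123432123201512010000000f10152343123121000f10125134232153210100000f12132312015431230000000000f1015234312000f101234321532010152100000000f12015310120100000000000f120153210100000000000f1201532310100000000000000000000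0e00000000f1201531012301000000000000000000000e000000000000000000000e000f101234321532010151000000000000000000000e0f1213521534230123215200f1023423215123423201000000000000000000000e000000000000000000000e000000000000000000000e000000000000000000000e0f1012513234312312010100000f120152342320101500000f0210152341232101000000000000000000000e000f1234232015123423010000f02101523412312101000000000000000000000e000000000000000000000e000000000000000000000e000000000000000000000e000000000000000000000e000f213234123215101232000000f12132154321015400f1012134352310120153000000000000000000000e0000f1015234323101201000000f1432321512312341000000000f101523431012000000000000000000000e000000000000000000000e000000000000f101215102000000000000f123215101000000000000000000000e0000000000f01231210150000f10123215432010152000000000000f012312101000000000000f232101232500000000000f1210325125000000000000f2321012320000f10123215432010120000000000000f12103251200000000f0123210151201000000000000000000000e0000000000f01012321520000f101232431520101523000000000000000000f121000000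00000f1015123215000000000000f10151232100000000000000000f1215000000000000000000000e000000000f1015123215300000000000000000f12103000000000000f121013215000000000000000000000e000000000000000000000e000000000000000f1210350000000000f101512321300000000000000f12101321000000000000000000000e00000000000f010123121000000000000f12101321300000000000f12103251230000000000f121032512530000000000000f1012510120000000f1201531012015300000000000f12321510150000000000000f10125123000000000f1232151015300000000000000f10125102000000000000000000000e000000000000000000000f000000000000000000000e0000000f23120151012323000000000f01012321501200000000f0101232101512000000000000000000000e000000000000000000000e000000000000000000000e0000000000f1210132153000000000f230120153101200000000000f1015323101000000000000000000000e0000000000f10153231201000000000f232015012320⟩,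
  ⟨83, 80, 23, 0xe0000000000000000000000e0000000000000000000000e0000000000000000000000e0000000000000000000000e0000000000000000000000e0000000000000000000000e0000000000000000000000e00f234321523123120152010000000000000000000000e000f13232512321012530100000000000000000000000e0000000000000000000000e00000000000000f323432350f2343251501231201523210000000000000000000000e0000000000000000000000e0000000000000000000000e00f213245101232101512100000000000000000000000e0000000000000000000000e0000000000000000000000e0000000000000000000000e0000000000000000000000e0000000000000000000000e0000000000000000000000e0000000000000000000000e0000000000000000000000e0000000000000000000000e00000000000000f032343250000000000000000000000e0000000000000000000000e0000000000000000000000e0000000000000000000000e0000000000000000000000e0000000000000000000000e0000000000000000000000e0000000000000000000000e0f2132432101021321015300000000000000000000000e0000000000000000000000e0000000000000000000000e0f2134325012320152312310000000000000000000000e0000000000000000000000e000f2345123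2101230121010000000000000000000000e0000000000000000000000e0000000000000000000000e0000000000000000000000e0000000000000000000000e0000000000000000000000e00f213245101232101512310000000000000000000000e0000000000000000000000e0000000000000000000f0350000000000000000000000e0000000000000000000000e0000000000000000000000e0000000000000000000000e0000000000000000000000e0000000000000000000000e0000000000000000000000e0000000000000000000000e000f23451012312010123210000000000000000000000e0000000000000000000000e0000000000000000000000e0000000000000000000000ef02343231501231201523210000000000000000000000e0000000000000000000000e0000000000000000000000e0f2101321043210123215300000000000000000000000e00000f135231231210152010000000000000000000000e0000000000000000000000e00000000000000f023432350000000000000000000000e0000000000000000000000e0000000000000000000000e0000000000000000000000e0000000000000000000000e000000f23432132510125150000000000000000000000e0000000000000000000000e0000000000000000000000e0000000000000000000000e0000000000000000000000e000000000000000000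0000e00f213234512321435215320000000000000000000000e0000000000000000000000e0000000000000000000000e0000000000000000000000e0000000000000000000000e000000000f01325101213510000000000000000000000e0000000000000000000000e0000000000000000000000e0000000000000000000000e0000000000000000000000e0000000000000000000000e0000000000000000000000e0000000000000000000000e0000000000000000000000ef23432135012310120153210000000000000000000000e0000000000000000000000e0000000000000000000000e0000000f2134321510123510000000000000000000000e0000000000000000000000e0000000000000000000000e0000000000000000000000e00000000000f132510121510000000000000000000000e0000000000f0132510123510000000000000000000000e0000000000000000000000e0000000000000000000000e0000000000000000000000e0000000000000000000000e0000000000000000000000e0000000000000000000000e0000000000000000000000e000000000000f13251012510000000000000000000000e0000000000000000000000e0000000000000000000000e0000000000000000000000e000000f21343215101235150000000000000000000000e0000000000000000000000e0000000000000000000000e00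00000000000000000000e0000000000000000000000e0000000000000000000000e0000000000000000000000e0000000000000000000000e0000000000000000000000e0000000000000000000000e0000000000000000000000e0000000000000000000000e0000000000000000000000e0000000000000000000000e0000000000000000000000e0000000000000000000000e0000000000000000000000e0000000000000000000000e0000000000000000000000e0000000000000000000000e0000000000000000000000e0000000000000000000000e0000000f1025102132132510000000000000000000000e000f21342010153231201010000000000000000000000e0000000000000000000000e0000000000000000000000e0000000000000000000000e000000f12325102132105150000000000000000000000e0000000000000000000000e0000000000000000000000e0f0234510120153231012010000000000000000000000e0000000000000000000000e0000000000000000000000e0000000000000000000000e0000000000000000000000e000000f32134321510125150000000000000000000000e0000000f1232510213210510000000000000000000000e000000f10251021321325150000000000000000000000e000000f13214510123451250000000000000000000000e000000000000000000000f5000000000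0000000000000e0000000000000000000000e000000f02134321510125150000000000000000000000e00000000000000000000f030000000000000000000000e0000000000000000000000e0000000000000000000000e0000000000000000000000e0000000000000000000000e000f13235102101321530100000000000000000000000e0000000f2132451012135120000000000000000000000e0000000000000000000000e0000000000000000000000e0000000000000000000000e0000000000000000000000e000000000000000f023432300000f135231230120152010000000000000000000000e0f2132345123214352312300000000000000000000000e0000000000000000000000e0000000000000000000000ef23432135201012321523210000000000000000000000e0000000000000000000000e0000000000000000000000e0000000000000000000000e0000000000000000000000e0000000000000000000000e0000000000000000000000e0000000000000000000000e00f021340120153231012010000000000000000000000e0000000000000000000000e0000000f1321451012345120000000000000000000000e0000000000000000000000e0000000000000000000000e0000000000000000000000e0000000000000000000000e0000000000000000000000e000000000000000f03234320000000000000000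000000ef02103245101232152323120000000000000000000000e0000000000000000000000e0000000000000000000000e000f21323451232143523120000000000000000000000e0000000000000000000000e0000000000000000000000e0000000000000000000000e0000000000000000000000e0000000000000000000000e0000000000000000000000e0000000000000000000000e0000000f3213432151012510000000000000000000000e0000000000000000000000e0000000000000000000000e0000000000000000000000e0000000000000000000000e00000000f213245101235120000000000000000000000e0000000000000000000000ef21323451232143521532300000000000000000000000e0000000000000000000000ef232104312015323010120100f210132104321012323100000000000000000000000e0000000000000000000000e0000000000000000000000e0000000000000000000000e0000000000000000000000e00f234512010153231201010000000000000000000000e0000000f2343213251012510000000000000000000000e0000000000000000000000e0000000000000000000000e00f101232103210132431230000000000000000000000e0000000000000000000000e0000000000000000000000e0000000000000000f2343250000000000000000000000e0000000000000000000000e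0000000000000000000000e0000000f0213432151012510000000000000000000000e0000000000000000000000e0000000000000000000000e00f010132312010123423120000000000000000000000e0000000000000000000000e0000000000000000000000e0000f2341232101230121010000000000000000000000e0000000000000000000000e0000f2341012312010123210000000000000000000000e0000000000000000000000e000f13251012432101523410000000000000000000000e0000000000000000000000e00000000000000000f234320000000000000000000000e0000000000000000000000e0000000000000000000000e0f2134325312312101501210000000000000000000000e0000000000000000000000e00f213234512321435423120000000000000000000000e0f2343251523123120152010000000000000000000000e0000000000000000000000e0000000000000000000000e0000000000000000000000e0000000000000000000000e0000000000000000000000e000000000000000f32343230000000000000000000000e0000000000000000000000e0000000000000000000000e0000000000000000000000e00f213243210102132310100000000000000000000000e0000000000000000000000e0000000000000000000000e00f210341201532310123010000000000000000000000e0000000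000000000000000e0f2134325312301201501210000000000000000000000e00f234321501231201523210000000000000000000000e0000000000000000000000e0000000000000000000000e0000000000000000000000e0000000000000000000000e0000000000000000000000e0000000000000000000000e0000000000000000000000e0000000000000000000000e0000000000000000000000e0000000000000000000000e0000000000000000000000f0000000000000000000000e0000000000000000000000e0000000000000000000000e0000000000000000000000e0000000000000000000000e0000000000000000000000e0000000000000000000000e0000000000000000000000e0000000000000000000000e0000000000000000000000e0000000000000000000000e0000000000000000000000e0f2134325312312015012310000000000000000000000e0000000000000000000000e0000000000000000000000e0000000000000000000000e0000000000000000000000e0000000000000000000000e0000000000000000000000e0000000000000000000000e0000000000000000000000e0000000000000000000000e0f1010321323432132301010000000000000000000000e0000000000000000000000e0000000000000000000000e0000000000000000000000e00f1021013234321031201500000000000000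00000000e0000000000000000000000e0000000000000000000000e0000000000000000000000e0000000000000000000000e0000000000000000000000e0000000000000000000000e0000000000000000000000e0000000000000000000000e0000000000000000000000e0000000000000000000000e0000000000000000000000e000f10210132343210312010000000000000000000000e0000000000000000000000e0000000000000000000000e0000000000000000000000e0000000000000000000000e0000000000000000000000e000000f01343251012345150000000000000000000000e0000000000000000000000e0000000000000000000000e0000000000000000000000e0000000f0134325101234510000000000000000000000e0000000000000000000000e0000000000000000000000e0000000000000000000000e0000000000000000000000e0000000000000000000000e0000000000000000000000e0000000000000000000000e0000000000000000000000e0000000000000000000000e0000000000000000000000e0000000000000000000000e0000000000000000000000e0000000000000000000000e0000f1232101021321014320000000000000000000000e0000000000000000000000e0000000000000000000000e0000000000000000000000e0000000000000000000000e0000000000000000000000e000000000f143251012345100000000f143251012134510000000000000000000000e0000000000000000000000e0000000000000000000000e0000000000000000000000e0000000000000000000000e0000000000000000000000e⟩,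
  ⟨15, 24, 31, 0xe000000000000000000000000000000e000000000000000000000000000000e000000000000000000000000000000e000000000000000000000000000000e000000000000000000000000000000e000000000000000000000000000000e000000000000000000000000000000e000000000000000000000000000000e000000000000000000000000000000e000000000000000000000000000000e000000000000000000000000000000e000000000000000000000000000000e000000000000000000000000000000e000000000000000000000000000000e0f32132435123210412301210150123000000000000000000000000000000e000000000000000000000000000000e000000000000000000000000000000e000000000000000000000000000000e000000000000000000000000000000e000000000000000000000000000000e000000000000000000000000000000e000000000000000000000000000000e000000000000000000000000000000e000000000000000000000000000000e000000000000000000000000000000e000000000000000000000000000000e000000000000000000000000000000e000000000000000000000000000000e000000000000000000000000000000e000000000000000000000000000000e000000000000000000000000000000e000000000000000000000000000000e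000000000000000000000000000000e000000000000000000000000000000e000000000000000000000000000000e000000000000000000000000000000e000000000000000000000000000000e000000000000000000000000000000e000000000000000000000000000000e000000000000000000000000000000e000000000000000000000000000000e000000000000000000000000000000e000000000000000000000000000000e000000000000000000000000000000e000000000000000000000000000000e000000000000000000000000000000e000000000000000000000000000000e000000000000000000000000000000e000000000000000000000000000000e000000000000000000000000000000e000000000000000000000000000000e000000000000000000000000000000e000000000000000000000000000000e000000000000000000000000000000e000000000000000000000000000000e000000000000000000000000000000e000000000000000000000000000000e000000000000000000000000000000e000000000000000000000000000000e000000000000000000000000000000e000000000000000000000000000000e000000000000000000000000000000e000000000000000000000000000000e000000000000000000000000000000e000000000000000000000000000000e0000000000000000000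00000000000e000000000000000000000000000000e000000000000000000000000000000e000000000000000000000000000000e000000000000000000000000000000e000000000000000000000000000000e000000000000000000000000000000e000000000000000000000000000000e000000000000000000000000000000e0000f12435102132432101232015401000000000000000000000000000000e000000000000000000000000000000e000000000000000000000000000000e000000000000000000000000000000e000000000000000000000000000000e000000000000000000000000000000e000000000000000000000000000000e000000000000000000000000000000e000000000000000000000000000000e000000000000000000000000000000e000000000000000000000000000000e000000000000000000000000000000e000000000000000000000000000000e000000000000000000000000000000e000000000000000000000000000000e000000000000000000000000000000e000000000000000000000000000000e000000000000000000000000000000e000000000000000000000000000000e000000000000000000000000000000e000000000000000000000000000000e000000000000000000000000000000e000000000000000000000000000000e000000000000000000000000000000e0000000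00000000000000000000000e000000000000000000000000000000e000000000000000000000000000000e000000000000000000000000000000e000000000000000000000000000000e000000000000000000000000000000e000000000000000000000000000000e000000000000000000000000000000e000000000000000000000000000000e000000000000000000000000000000e000000000000000000000000000000e000000000000000000000000000000e000000000000000000000000000000e000000000000000000000000000000e000000000000000000000000000000e000000000000000000000000000000e000000000000000000000000000000e000000000000000000000000000000e000000000000000000000000000000e000000000000000000000000000000e000000000000000000000000000000e000000000000000000000000000000e000000000000000000000000000000e000000000000000000000000000000e000000000000000000000000000000e000000000000000000000000000000e000000000000000000000000000000e000000000000000000000000000000e000000000000000000000000000000e000000000000000000000000000000e000000000000000000000000000000e000000000000000000000000000000e00000000f101021323510102154323000000000000000000000000000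0000e000000000000000000000000000000e000000000000000000000000000000e000000000000000000000000000000e000000000000000000000000000000e000000000000000000000000000000e000000000000000000000000000000e000000000000000000000000000000e000000000000000000000000000000e000000000000000000000000000000e000000000000000000000000000000e000000000000000000000000000000e000000000000000000000000000000e000000000000000000000000000000e000000000000000000000000000000e000000000000000000000000000000e000000000000000000000000000000e000000000000000000000000000000e000000000000000000000000000000e000000000000000000000000000000e000000000000000000000000000000e000000000000000000000000000000e000000000000000000000000000000e000000000000000000000000000000e000000000000000000000000000000e000000000000000000000000000000e000000000000000000000000000000e000000000000000000000000000000e000000000000000000000000000000e000000000000000000000000000000e000000000000000000000000000000e000000000000000000000000000000e000000000000000000000000000000e000000000000000000000000000000e00000000000000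0000000000000000e000000000000000000000000000000e000000000000000000000000000000e000000000000000000000000000000e000000000000000000000000000000e000000000000000000000000000000e000000000000000000000000000000e000000000000000000000000000000e000000000000000000000000000000e000000000000000000000000000000e000000000000000000000000000000e0000f12432512324321012320154010000000000000000000000000000000e000000000000000000000000000000e00f2435101210345123215430123101000000000000000000000000000000e000000000000000000000000000000e000000000000000000000000000000e000000000000000000000000000000e000000000000000000000000000000e000000000000000000000000000000e000000000000000000000000000000e000000000000000000000000000000e000000000000000000000000000000e000000000000000000000000000000e000000000000000000000000000000e000000000000000000000000000000e000000000000000000000000000000e000000000000000000000000000000e000000000000000000000000000000e000000000000000000000000000000e000000000000000000000000000000e000000000000000000000000000000e000000000000000000000000000000e00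0000000000000000000000000000e000000000000000000000000000000e000000000000000000000000000000e00000000f0323451201015323120101000000000000000000000000000000e000000000000000000000000000000e000000000000000000000000000000e000000000000000000000000000000e000000000000000000000000000000e000000000000000000000000000000e000000000000000000000000000000e000000000000000000000000000000e000000000000000000000000000000e000000000000000000000000000000e000f321051012132435123210152101000000000000000000000000000000e000000000000000000000000000000e000000000000000000000000000000e000000000000000000000000000000e000000000000000000000000000000e000000000000000000000000000000e000000000000000000000000000000e0000f10451023210123423120153421000000000000000000000000000000e000000000000000000000000000000e000000000000000000000000000000e000000000000000000000000000000e000000000000000000000000000000e000000000000000000000000000000e000000000000000000000000000000e000000000000000000000000000000e000000000000000000000000000000e000000000000000000000000000000e000000000000000000000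000000000e000000000000000000000000000000e000000000000000000000000000000e000000000000000000000000000000e000000000000000000000000000000e000000000000000000000000000000e0000f01045102321012342321523421000000000000000000000000000000e000000000000000000000000000000e000000000000000000000000000000e000000000000000000000000000000e000000000000000000000000000000e000000000000000000000000000000e000000000000000000000000000000e000000000000000000000000000000ef321032510213234323120154230123f101034512321435231234323120101000000000000000000000000000000e000000000000000000000000000000e000000000000000000000000000000e000000000000000000000000000000e000000000000000000000000000000e000000000000000000000000000000e000000000000000000000000000000e000000000000000000000000000000e000000000000000000000000000000e000000000000000000000000000000e000f101251012321534231210150123000000000000000000000000000000e000000000000000000000000000000e000000000000000000000000000000e000000000000000000000000000000e000000000000000000000000000000e000000000000000000000000000000e000000000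000000000000000000000e000000000000000000000000000000e000000000000000000000000000000e000000000000000000000000000000e000000000000000000000000000000e000000000000000000000000000000e000f1012351012135423121015012320000000000f01012312010123423123000000000000000000000000000000e000000000000000000000000000000e00f1013210345123215430121015342000000000000000000000000000000e000000000000000000000000000000e000000000000000000000000000000e000000000000000000000000000000e000000000000000000000000000000e000000000000000000000000000000e000000000000000000000000000000e000000000000000000000000000000e000000000000000000000000000000e000000000000000000000000000000e000000000000000000000000000000e000000000000000000000000000000e000000000000000000000000000000e000000000000000000000000000000e000000000000000000000000000000e0f3210510121032140123215342312300f3213243251021034231210150123000000000000000000000000000000e000000000000000000000000000000e000000000000000000000000000000e00f3210510121324301201523423123000000000000000000000000000000e0000000000000000000000000000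00e000000000000000000000000000000e000000000000000000000000000000e000000000000000000000000000000e000000000000000000000000000000e000000000000000000000000000000e000000000000000000000000000000e000000000000000000000000000000e000000000000000000000000000000e000000000000000000000000000000e000000000000000000000000000000e000000000000000000000000000000e000000000000000000000000000000e000000000000000000000000000000e000000000000000000000000000000e000000000000000000000000000000e000000000000000000000000000000e000000000000000000000000000000e000000000000000000000000000000e000000000000000000000000000000e000000000000000000000000000000e000000000000000000000000000000e000000000000000000000000000000e000000000000000000000000000000e000000000000000000000000000000e000000000000000000000000000000e000000000000000000000000000000e000000000000000000000000000000e000000000000000000000000000000e000000000000000000000000000000e000000000000000000000000000000e000000000000000000000000000000e000000000000000000000000000000e000000000000000000000000000000ef321032451021323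432312015230123000000000000000000000000000000e000000000000000000000000000000e000000000000000000000000000000e000000000000000000000000000000e000000000000000000000000000000e000000000000000000000000000000e000f2321051012132453121015321010000000000f32132432101021321010000000000000000000000000000000e000000000000000000000000000000e000000000000000000000000000000e000000000000000000000000000000e000000000000000000000000000000e000000000000000000000000000000e000000000000000000000000000000e000000000000000000000000000000ef101021323432132534123215430101000000000000000000000000000000e000000000000000000000000000000e000000000000000000000000000000e000000000000000000000000000000e000000000000000000000000000000e000000000000000000000000000000e000000000000000000000000000000e000000000000000000000000000000e000000000000000000000000000000e000000000000000000000000000000e000000000000000000000000000000e000000000000000000000000000000e000000000000000000000000000000e000000000000000000000000000000e000000000000000000000000000000e000000000000000000000000000000e0000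00000000000000000000000000e000000000000000000000000000000e000000000000000000000000000000e000000000000000000000000000000e000000000000000000000000000000e000000000000000000000000000000e000000000000000000000000000000e00000000000000000000f0125101251000000000000000000000000000000e000000000000000000000000000000e000000000000000000000000000000e000000000000000000000000000000e000000000000000000000000000000e000000000000000000000000000000e000000000000000000000000000000e000000000000000000000000000000e000000000000000000000000000000e000000000000000000000000000000e000000000000000000000000000000e000000000000000000000000000000e000000000000000000000000000000e000000000000000000000000000000e000000000000000000000000000000e000000000000000000000000000000e000000000000000000000000000000e000000000000000000000000000000e000000000000000000000000000000e000000000000000000000000000000e000000000000000000000000000000e000000000000000000000000000000e000000000000000000000000000000f000000000000000000000000000000e000000000000000000000000000000e000000000000000000000000000000e000000000000000000000000000000e000000000000000000000000000000e000000000000000000000000000000e000000000000000000000000000000e000000000000000000000000000000e000000000000000000000000000000e000000000000000000000000000000e000000000000000000000000000000e000000000000000000000000000000e000000000000000000000000000000e000000000000000000000000000000e000000000000000000000000000000e⟩]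

def cQ_g : List (List ℕ) := [[xr 10 0], [xr 10 1], [xr 11 0], [xr 11 1]]

def cQ_w : List (List ℕ) := [[xr 7 0], [xr 8 0], [xr 9 1]]

def cQ_b : List Blk := [⟨12, 5, 0xf0000f0000f0000f0000f0000f0000f0000f0000f0000f0000f0000f000f10000f0000f0000f0000f0000f0000f0000f0000f0000f0000f0000f0000f0000f0000f0000f0000f0000f0000f0000f0000f0000f0000f0000f0000f0000f0000f0000f0000f0000f0000f0000f0000f0000f0f0130000f0000f0000f0000f0000f0000f0000f0000f0000f0000ff01230000f0000f0000f0000f0000f00f120000f0000f0000f0000f0000f0000f0000f0000f0000f0000f0000f0000f0000f0000f0000f0000f0000f0000f0000f0000f0000f0000f0000f0000f0000f00f010000f0000f0000f0000f0000f0000f0000f0000f0000f0000f0000f0000f0000f0000f0000f0000f0f0120000f0000f0000f0000f0000f0000f0000f0000f0000f0000f0000f0000f0000f0000f0000f0000f0000f0000f00f130000f0000f0000f0000f0000f0000f0000f0000f0000f0000f0000f0000f0000f0000f0000f0000f0000f0000f0000f0000f0000f0000f0000f0000f0000f0000f0000f0000f0000f0000f0000f0000f00f030f0230000f0000f0000f0000f0000f0000f0000f0000f0000f0000f0000f0000f0000f0000f0000f0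000f0000f0000f0000f0000f0000f0000f0000f0000f0000f0000f0000f0000f0000f0000f0000f0000f0000f0000f0000f0000f0000f0000f0000f0000f0000f0000f0000f0000f0000f0000f0000f0000f0000f0000f0000f0000f0000f0000f0000f0000f0000f0000f0000f0000f0000f0000f0000f0000f0000f0000f0000f0000f0000f0000f0000f0000f0000f0000f0000f0000f00f02000f00000f0000f0000f0000f0000f0000f0000f0000f0000f0000f0000f0000f0000f0000f0000f0000f0000f0000f0000f0000f0000f0000f0000f0000f0000f0000f0000f0000f0000f0000f0000f0000f0000f0000f0000f0000f0000f0000f0000f0000f0000f0000f0000f0000f0000f0000f0000f0000f0000f0000f0000f0000f0000f0000f0000f0000f0000f0000f0000f0000f0000f0000f0000f0f1230000f0000f0000f0000f0000f0000f0000f0000f0000f0000f0000f0000f0000f0000f0000f0000f0000f0000f0000f0000f0000f0000f0000f0000f0000f0000f0000f0000f0000f0000f0000f0000f0000f0000f0000f0000f0000f0000f0000f0000f0000f0000f0000f0000f0000f0000f0000f0000f0000f0000f0000f0000f0000f0000f0000f0000f0000f0000f0000f0000f0000f0000f0000f0000f0000f0000f0000f0000f0000f0000f0000f0000f0000f0000f0000f00f230000f0000f0000f0000f0000f0000f0000f0000f0000f0000f0000f0000f0000f0000f0000f0000f0000f0000f000f20000f0000f0000f000f30000f0000f0000f0000f0000f0000f0000f0000f0000f0000f0000f0000f0000f0000f0000f⟩]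

theorem cQ_full : Full cQ_c := ⟨by ((try (rewrite [Cfsg.Agent.LsF.f55d70b_7.2])); decide +kernel), by decide +kernel⟩

theorem cQ_bases : (bases cQ_c).take (allPts cQ_w [] cQ_b).length = allPts cQ_w [] cQ_b := by decide +kernel

private noncomputable def _root_.Cfsg.Agent.LsF.f55d70b_22 : {f // @Cfsg.Agent.StdG24.CentQ.cQ_w = f} := ⟨_, by first | (delta Cfsg.Agent.StdG24.CentQ.cQ_w; rewrite [Cfsg.Agent.LsF.f55d70b_16.2]; exact rfl) | exact rfl⟩
private noncomputable def _root_.Cfsg.Agent.LsF.f55d70b_23 : {f // @Cfsg.Agent.StdG24.CentQ.cQ_g = f} := ⟨_, by first | (delta Cfsg.Agent.StdG24.CentQ.cQ_g; rewrite [Cfsg.Agent.LsF.f55d70b_16.2]; exact rfl) | exact rfl⟩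
theorem cQ_chk : chkB cQ_c cQ_w cQ_g [] cQ_b = true := by ((try (rewrite [Cfsg.Agent.LsF.f55d70b_15.2, Cfsg.Agent.LsF.f55d70b_22.2, Cfsg.Agent.LsF.f55d70b_23.2])); decide +kernel)

theorem cQ_comm : (cQ_g.all fun g => cQ_w.all fun w => eqc (g ++ w) (w ++ g)) = true := by decide +kernel

theorem cQ (c : L0) (hc : ∀ w ∈ cQ_w, c * E w = E w * c) : c ∈ gen cQ_g := by
  refine cent_blk cQ_full cQ_bases cQ_chk (gen cQ_g) gen_mem
    (comm_of_chk cQ_comm) ?_ c hc
  intro l hl
  have hd : cQ_c.drop (allPts cQ_w [] cQ_b).length = [] := by decide +kernel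
  rw [hd] at hl
  simp at hl

end Cfsg.Agent.StdG24.CentQ
end

-- part: StdG24/QB
section
/-!
# Facts on `N = ⟨X₁₀, X₁₁⟩` and `Q = ⟨X₇, …, X₁₁⟩` in the group on 416 points
-/

set_option autoImplicit false
set_option maxRecDepth 20000

namespace Cfsg.Agent.StdG24.QB

open Cfsg.Agent.StdG24.Perm416 Cfsg.Agent.StdG24.Words Cfsg.Agent.StdG24.CentX Cfsg.Agent.StdG24.CentLe
  Cfsg.Agent.StdG24.CentBlk Cfsg.Agent.StdG24.Cents Cfsg.Agent.StdG24.CentQ Cfsg.Agent.StdG24.GenJ
  Cfsg.Agent.StdG24.QDef

section General

variable {G : Type*} [Group G]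

/-- commutators of a closure from the generators, modulo a central subgroup -/
theorem comm_mem {S : Set G} {N : Subgroup G} (hN : ∀ x ∈ Subgroup.closure S, ∀ y ∈ N, x * y = y * x)
    (h : ∀ a ∈ S, ∀ b ∈ S, a * b * a⁻¹ * b⁻¹ ∈ N) :
    ∀ x ∈ Subgroup.closure S, ∀ y ∈ Subgroup.closure S, x * y * x⁻¹ * y⁻¹ ∈ N := by
  -- one-sided version
  have key : ∀ b ∈ Subgroup.closure S, (∀ a ∈ S, a * b * a⁻¹ * b⁻¹ ∈ N) →
      ∀ x ∈ Subgroup.closure S, x * b * x⁻¹ * b⁻¹ ∈ N := by
    intro b hb hS x hx
    induction hx using Subgroup.closure_induction with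
    | mem a ha => exact hS a ha
    | one => simpa using N.one_mem
    | mul x y hx hy ihx ihy =>
      have e : x * y * b * (x * y)⁻¹ * b⁻¹ = (x * (y * b * y⁻¹ * b⁻¹)) * b * x⁻¹ * b⁻¹ := by group
      rw [e, hN x hx _ ihy]
      have e2 : y * b * y⁻¹ * b⁻¹ * x * b * x⁻¹ * b⁻¹ = (y * b * y⁻¹ * b⁻¹) * (x * b * x⁻¹ * b⁻¹) := by group
      rw [e2]
      exact N.mul_mem ihy ihx
    | inv x hx ihx =>
      have e : x⁻¹ * b * x⁻¹⁻¹ * b⁻¹ = x⁻¹ * (x * b * x⁻¹ * b⁻¹)⁻¹ * x := by group
      rw [e, hN _ (inv_mem hx) _ (N.inv_mem ihx), mul_assoc, inv_mul_cancel, mul_one]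
      exact N.inv_mem ihx
  intro x hx y hy
  have h1 : ∀ a ∈ S, ∀ y ∈ Subgroup.closure S, y * a * y⁻¹ * a⁻¹ ∈ N := fun a ha y hy =>
    key a (Subgroup.subset_closure ha) (fun a' ha' => h a' ha' a ha) y hy
  refine key y hy (fun a ha => ?_) x hx
  have h2 := N.inv_mem (h1 a ha y hy)
  have e : a * y * a⁻¹ * y⁻¹ = (y * a * y⁻¹ * a⁻¹)⁻¹ := by group
  rw [e]
  exact h2

theorem sq_mem {S : Set G} {N : Subgroup G} (hN : ∀ x ∈ Subgroup.closure S, ∀ y ∈ N, x * y = y * x)
    (h : ∀ a ∈ S, ∀ b ∈ S, a * b * a⁻¹ * b⁻¹ ∈ N) (h2 : ∀ a ∈ S, a * a ∈ N) :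
    ∀ x ∈ Subgroup.closure S, x * x ∈ N := by
  intro x hx
  induction hx using Subgroup.closure_induction with
  | mem a ha => exact h2 a ha
  | one => simpa using N.one_mem
  | mul x y hx hy ihx ihy =>
    have e : x * y * (x * y) = (x * (y * x * y⁻¹ * x⁻¹)) * x * (y * y) := by group
    rw [e, hN x hx _ (comm_mem hN h y hy x hx)]
    have e2 : y * x * y⁻¹ * x⁻¹ * x * x * (y * y) = (y * x * y⁻¹ * x⁻¹) * ((x * x) * (y * y)) := by group
    rw [e2]
    exact N.mul_mem (comm_mem hN h y hy x hx) (N.mul_mem ihx ihy)
  | inv x hx ihx =>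
    rw [← mul_inv_rev]
    exact N.inv_mem ihx

end General

/-- commutation of two closures -/
theorem comm_gen {A B : List (List ℕ)}
    (h : (A.all fun a => B.all fun b => eqc (a ++ b) (b ++ a)) = true) :
    ∀ x ∈ gen A, ∀ y ∈ gen B, x * y = y * x := by
  intro x hx y hy
  have h1 : gen B ≤ Subgroup.centralizer {x} := by
    refine gen_le fun b hb => ?_
    rw [Subgroup.mem_centralizer_singleton_iff]
    exact (comm_of_chk h x hx b hb).symm
  exact (Subgroup.mem_centralizer_singleton_iff.1 (h1 hy)).symm

theorem sq_gen {A : List (List ℕ)}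
    (h : (A.all fun a => A.all fun b => eqc (a ++ b) (b ++ a)) = true)
    (h2 : (A.all fun a => eqc (a ++ a) []) = true) : ∀ x ∈ gen A, x * x = 1 := by
  intro x hx
  have h3 := comm_gen h
  unfold gen at hx
  induction hx using Subgroup.closure_induction with
  | mem a ha =>
    obtain ⟨g, hg, rfl⟩ := ha
    have h4 := E_eq (List.all_eq_true.1 h2 g hg)
    rwa [E_append] at h4
  | one => rw [one_mul]
  | mul x y hx hy ihx ihy =>
    calc x * y * (x * y) = x * (y * x) * y := by group
      _ = x * (x * y) * y := by rw [h3 y hy x hx]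
      _ = (x * x) * (y * y) := by group
      _ = 1 := by rw [ihx, ihy, one_mul]
  | inv x hx ihx => rw [← mul_inv_rev, ihx, inv_one]

def QG : List (List ℕ) := [[xr 7 0], [xr 7 1], [xr 8 0], [xr 8 1], [xr 9 0], [xr 9 1], [xr 10 0], [xr 10 1],
  [xr 11 0], [xr 11 1]]

def NG : List (List ℕ) := [[xr 10 0], [xr 10 1], [xr 11 0], [xr 11 1]]

theorem NB_eq : NB = gen NG := by
  unfold NB gen
  congr 1
  ext x
  simp only [NG, List.mem_cons, List.not_mem_nil, or_false, exists_eq_or_imp, exists_eq_left,
    Set.mem_insert_iff, Set.mem_singleton_iff, Set.mem_ofPred_eq, X]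

theorem QB_eq : QB = gen QG := by
  unfold QB gen
  congr 1
  ext x
  simp only [QG, List.mem_cons, List.not_mem_nil, or_false, exists_eq_or_imp, exists_eq_left,
    Set.mem_insert_iff, Set.mem_singleton_iff, Set.mem_ofPred_eq, X]

theorem N2 : ∀ y ∈ NB, y * y = 1 := by
  rw [NB_eq]
  exact sq_gen (by decide +kernel) (by decide +kernel)

theorem QN : ∀ x ∈ QB, ∀ y ∈ NB, x * y = y * x := by
  rw [NB_eq, QB_eq]
  exact comm_gen (by decide +kernel)

theorem vX : X 9 0 ∈ XB := Subgroup.subset_closure (by simp)

theorem XQ : XB ≤ QB := by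
  unfold XB
  rw [Subgroup.closure_le]
  rintro x (rfl | rfl)
  · exact Subgroup.subset_closure (by simp only [_root_.Set.mem_insert_iff, _root_.Set.mem_singleton_iff, _root_.true_or, _root_.or_true])
  · exact Subgroup.subset_closure (by simp only [_root_.Set.mem_insert_iff, _root_.Set.mem_singleton_iff, _root_.true_or, _root_.or_true])

theorem XX {r t : ℕ} (h : eqc ([xr r t] ++ [xr r t]) [] = true) : X r t * X r t = 1 := by
  have h1 := E_eq h
  rwa [E_append] at h1

theorem XXX {r t r' t' : ℕ} (h : eqc ([xr r t] ++ [xr r' t']) ([xr r' t'] ++ [xr r t]) = true) :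
    X r t * X r' t' = X r' t' * X r t := by
  have h1 := E_eq h
  rwa [E_append, E_append] at h1

theorem XXn {a b : List ℕ} (h : eqc (a ++ b) (b ++ a) = false) : E a * E b ≠ E b * E a := by
  have h1 := E_ne h
  rwa [E_append, E_append] at h1

theorem XB_cases {x : L0} (hx : x ∈ XB) : x = 1 ∨ x = X 9 0 ∨ x = X 9 1 ∨ x = X 9 0 * X 9 1 := by
  have h0 : X 9 0 * X 9 0 = 1 := XX (by decide +kernel)
  have h1 : X 9 1 * X 9 1 = 1 := XX (by decide +kernel)
  have h2 : X 9 1 * X 9 0 = X 9 0 * X 9 1 := XXX (by decide +kernel)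
  have h3 : ∀ a b c : L0, a * (b * c) = a * b * c := fun a b c => (mul_assoc a b c).symm
  unfold XB at hx
  induction hx using Subgroup.closure_induction with
  | mem a ha =>
    rcases ha with rfl | rfl
    · exact Or.inr (Or.inl rfl)
    · exact Or.inr (Or.inr (Or.inl rfl))
  | one => exact Or.inl rfl
  | mul x y _ _ ihx ihy =>
    have e1 : X 9 0 * (X 9 0 * X 9 1) = X 9 1 := by rw [h3, h0, one_mul]
    have e2 : X 9 1 * (X 9 0 * X 9 1) = X 9 0 := by rw [h3, h2, mul_assoc, h1, mul_one]
    have e3 : X 9 0 * X 9 1 * X 9 0 = X 9 1 := by rw [← h2, mul_assoc, h0, mul_one]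
    have e4 : X 9 0 * X 9 1 * X 9 1 = X 9 0 := by rw [mul_assoc, h1, mul_one]
    have e5 : X 9 0 * X 9 1 * (X 9 0 * X 9 1) = 1 := by rw [h3, e3, h1]
    rcases ihx with rfl | rfl | rfl | rfl <;> rcases ihy with rfl | rfl | rfl | rfl <;>
      simp only [h0, h1, h2, e1, e2, e3, e4, e5, _root_.mul_one, _root_.true_or, _root_.one_mul, _root_.left_eq_mul, _root_.or_true, _root_.right_eq_mul, _root_.mul_eq_left, _root_.mul_eq_right]
  | inv x _ ihx =>
    have e5 : X 9 0 * X 9 1 * (X 9 0 * X 9 1) = 1 := by
      rw [h3, ← h2, mul_assoc (X 9 1), h0, mul_one, h1]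
    rcases ihx with rfl | rfl | rfl | rfl
    · simp
    · rw [inv_eq_of_mul_eq_one_left h0]; simp
    · rw [inv_eq_of_mul_eq_one_left h1]; simp
    · rw [inv_eq_of_mul_eq_one_left e5]; simp only [_root_.mul_eq_left, _root_.mul_eq_right, _root_.or_true]

theorem XN : ∀ x ∈ XB, x ∈ NB → x = 1 := by
  intro x hx hN
  have h1 := QN (X 7 0) (Subgroup.subset_closure (by simp only [_root_.Set.mem_insert_iff, _root_.Set.mem_singleton_iff, _root_.true_or])) x hN
  rcases XB_cases hx with rfl | rfl | rfl | rfl
  · rfl
  · exact absurd h1 (XXn (a := [xr 7 0]) (b := [xr 9 0]) (by decide +kernel))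
  · exact absurd h1 (XXn (a := [xr 7 0]) (b := [xr 9 1]) (by decide +kernel))
  · have h2 := XXn (a := [xr 7 0]) (b := [xr 9 0] ++ [xr 9 1]) (by decide +kernel)
    rw [E_append [xr 9 0]] at h2
    exact absurd h1 h2

theorem ZQ : ∀ x ∈ QB, (∀ y ∈ QB, x * y = y * x) → x ∈ NB := by
  intro x _ h
  rw [NB_eq]
  refine cQ x fun w hw => ?_
  have hw' : w = [xr 7 0] ∨ w = [xr 8 0] ∨ w = [xr 9 1] := by
    simpa [cQ_w] using hw
  rcases hw' with rfl | rfl | rfl
  · exact h (X 7 0) (Subgroup.subset_closure (by simp only [_root_.Set.mem_insert_iff, _root_.Set.mem_singleton_iff, _root_.true_or]))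
  · exact h (X 8 0) (Subgroup.subset_closure (by simp only [_root_.Set.mem_insert_iff, _root_.Set.mem_singleton_iff, _root_.true_or, _root_.or_true]))
  · exact h (X 9 1) (Subgroup.subset_closure (by simp only [_root_.Set.mem_insert_iff, _root_.Set.mem_singleton_iff, _root_.true_or, _root_.or_true]))

/-- commutators of the generators of `Q` as words in the generators of `N` -/
def ctab : List (List ℕ) := [[], [], [0, 2], [1, 2, 3], [0], [1], [], [], [], [], [], [], [0, 1, 3], [0, 2], [1],
  [0, 1], [], [], [], [], [0, 2], [0, 1, 3], [], [], [2], [3], [], [], [], [], [1, 2, 3], [0, 2], [], [], [3],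
  [2, 3], [], [], [], [], [0], [1], [2], [3], [], [], [], [], [], [], [1], [0, 1], [3], [2, 3], [], [], [], [],
  [], [], [], [], [], [], [], [], [], [], [], [], [], [], [], [], [], [], [], [], [], [], [], [], [], [], [], [],
  [], [], [], [], [], [], [], [], [], [], [], [], [], []]

theorem QG_inv : (QG.all fun a => eqc (a ++ a) []) = true := by decide +kernel

private noncomputable def _root_.Cfsg.Agent.LsF.f55d70b_19 : {f // @Cfsg.Agent.StdG24.Sift.bases = f} := ⟨_, by first | (delta Cfsg.Agent.StdG24.Sift.bases; rewrite [Cfsg.Agent.LsF.map_eq]; exact rfl) | exact rfl⟩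
private noncomputable def _root_.Cfsg.Agent.LsF.f55d70b_20 : {f // @Cfsg.Agent.StdG24.Words.eqc = f} := ⟨_, by first | (delta Cfsg.Agent.StdG24.Words.eqc; rewrite [Cfsg.Agent.LsF.f55d70b_19.2, Cfsg.Agent.LsF.f55d70b_9.2, Cfsg.Agent.LsF.all_eq]; exact rfl) | exact rfl⟩
private noncomputable def _root_.Cfsg.Agent.LsF.f55d70b_24 : {f // @Cfsg.Agent.StdG24.QB.QG = f} := ⟨_, by first | (delta Cfsg.Agent.StdG24.QB.QG; rewrite [Cfsg.Agent.LsF.f55d70b_16.2]; exact rfl) | exact rfl⟩
private noncomputable def _root_.Cfsg.Agent.LsF.f55d70b_25 : {f // @Cfsg.Agent.StdG24.QB.NG = f} := ⟨_, by first | (delta Cfsg.Agent.StdG24.QB.NG; rewrite [Cfsg.Agent.LsF.f55d70b_16.2]; exact rfl) | exact rfl⟩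
theorem QG_comm : ((List.range 10).all fun i => (List.range 10).all fun j =>
    eqc (QG.getD i [] ++ QG.getD j [] ++ QG.getD i [] ++ QG.getD j []) (gw NG (ctab.getD (10 * i + j) []))) = true := by
  ((try (rewrite [Cfsg.Agent.LsF.f55d70b_20.2, Cfsg.Agent.LsF.f55d70b_24.2, Cfsg.Agent.LsF.f55d70b_11.2, Cfsg.Agent.LsF.f55d70b_25.2, Cfsg.Agent.LsF.nadd_pat, Cfsg.Agent.LsF.nmul_pat, Cfsg.Agent.LsF.lappend_pat, Cfsg.Agent.LsF.all_eq, Cfsg.Agent.LsF.range_eq, Cfsg.Agent.LsF.getD_eq])); decide +kernel)

theorem idx_of_mem {l : List (List ℕ)} {a : List ℕ} (h : a ∈ l) : ∃ i < l.length, a = l.getD i [] := by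
  obtain ⟨i, hi, rfl⟩ := List.mem_iff_getElem.1 h
  exact ⟨i, hi, by rw [List.getD_eq_getElem _ _ hi]⟩

theorem sq_QG {a : List ℕ} (ha : a ∈ QG) : E a * E a = 1 := by
  have := E_eq (List.all_eq_true.1 QG_inv a ha)
  rwa [E_append] at this

theorem inv_QG {a : List ℕ} (ha : a ∈ QG) : (E a)⁻¹ = E a := inv_eq_of_mul_eq_one_left (sq_QG ha)

theorem comm_QG {a b : List ℕ} (ha : a ∈ QG) (hb : b ∈ QG) : E a * E b * (E a)⁻¹ * (E b)⁻¹ ∈ NB := by
  rw [inv_QG ha, inv_QG hb, NB_eq]
  obtain ⟨i, hi, rfl⟩ := idx_of_mem ha
  obtain ⟨j, hj, rfl⟩ := idx_of_mem hb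
  have h1 := List.all_eq_true.1 (List.all_eq_true.1 QG_comm i (List.mem_range.2 hi)) j (List.mem_range.2 hj)
  have h2 := mem_of_gw gen_mem h1
  rwa [E_append, E_append, E_append] at h2

theorem QQ : ∀ x ∈ QB, ∀ y ∈ QB, x * y * x⁻¹ * y⁻¹ ∈ NB := by
  have h0 := QN
  rw [QB_eq] at h0 ⊢
  refine comm_mem h0 ?_
  rintro _ ⟨a, ha, rfl⟩ _ ⟨b, hb, rfl⟩
  exact comm_QG ha hb

theorem QS : ∀ x ∈ QB, x * x ∈ NB := by
  have h0 := QN
  rw [QB_eq] at h0 ⊢
  refine sq_mem h0 ?_ ?_
  · rintro _ ⟨a, ha, rfl⟩ _ ⟨b, hb, rfl⟩
    exact comm_QG ha hb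
  · rintro _ ⟨a, ha, rfl⟩
    rw [sq_QG ha]
    exact NB.one_mem

theorem Q4 {x : L0} (hx : x ∈ QB) : x ^ 4 = 1 := by
  have h := N2 _ (QS x hx)
  rw [show (4 : ℕ) = 2 + 2 from rfl, pow_add, pow_two]
  exact h

theorem Q2 : IsPGroup 2 QB := by
  intro x
  refine ⟨2, Subtype.ext ?_⟩
  rw [Subgroup.coe_pow]
  exact Q4 x.2

/-- the element of order 3 of `As` normalising `X₉` -/
noncomputable def ρ : L0 := E [xr 2 0, xr 9 2, xr 2 2]

theorem ρ_inv : ρ⁻¹ = E [xr 2 2, xr 9 2, xr 2 0] := by
  apply inv_eq_of_mul_eq_one_left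
  have h := E_eq (a := [xr 2 2, xr 9 2, xr 2 0] ++ [xr 2 0, xr 9 2, xr 2 2]) (b := []) (by decide +kernel)
  rwa [E_append] at h

theorem ρ3 : ρ ^ 3 = 1 := by
  have h := E_eq (a := [xr 2 0, xr 9 2, xr 2 2] ++ [xr 2 0, xr 9 2, xr 2 2] ++ [xr 2 0, xr 9 2, xr 2 2]) (b := [])
    (by decide +kernel)
  rw [E_append, E_append] at h
  rw [pow_succ, pow_two]
  exact h

def rtab : List (List ℕ) := [[0, 1, 6], [0, 7], [2, 3, 8], [2, 9], [5], [4, 5], [6], [7], [8], [9]]

theorem ρ_chk : ((List.range 10).all fun i => eqc ([xr 2 0, xr 9 2, xr 2 2] ++ QG.getD i [] ++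
    [xr 2 2, xr 9 2, xr 2 0]) (gw QG (rtab.getD i []))) = true := by decide +kernel

theorem ρ_conj : ∀ x ∈ QB, ρ * x * ρ⁻¹ ∈ QB := by
  intro x hx
  have h1 : gen QG ≤ (gen QG).comap (MulAut.conj ρ).toMonoidHom := by
    refine gen_le fun a ha => ?_
    obtain ⟨i, hi, rfl⟩ := idx_of_mem ha
    have h2 := mem_of_gw gen_mem (List.all_eq_true.1 ρ_chk i (List.mem_range.2 hi))
    rw [E_append, E_append, ← ρ_inv] at h2
    exact h2
  rw [QB_eq] at hx ⊢
  exact h1 hx

theorem ρ_norm : ρ ∈ Subgroup.normalizer (QB : Set L0) := by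
  rw [Subgroup.mem_normalizer_iff]
  intro x
  refine ⟨ρ_conj x, fun h => ?_⟩
  have h2 := ρ_conj _ (ρ_conj _ h)
  have e : ρ * (ρ * (ρ * x * ρ⁻¹) * ρ⁻¹) * ρ⁻¹ = ρ ^ 3 * x * (ρ ^ 3)⁻¹ := by
    rw [pow_succ, pow_two]; group
  rw [e, ρ3, one_mul, inv_one, mul_one] at h2
  exact h2

theorem zpow_conj (i : ℤ) {x : L0} (hx : x ∈ QB) : ρ ^ i * x * (ρ ^ i)⁻¹ ∈ QB :=
  (Subgroup.mem_normalizer_iff.1 (Subgroup.zpow_mem _ ρ_norm i) x).1 hx

/-- `Q⟨ρ⟩` -/
noncomputable def QR : Subgroup L0 where
  carrier := {x | ∃ q ∈ QB, ∃ i : ℤ, x = q * ρ ^ i}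
  one_mem' := ⟨1, QB.one_mem, 0, by simp only [_root_.zpow_ofNat, _root_.pow_zero, _root_.mul_one]⟩
  mul_mem' := by
    rintro _ _ ⟨q, hq, i, rfl⟩ ⟨q', hq', j, rfl⟩
    refine ⟨q * (ρ ^ i * q' * (ρ ^ i)⁻¹), QB.mul_mem hq (zpow_conj i hq'), i + j, ?_⟩
    rw [zpow_add]
    group
  inv_mem' := by
    rintro _ ⟨q, hq, i, rfl⟩
    refine ⟨ρ ^ (-i) * q⁻¹ * (ρ ^ (-i))⁻¹, zpow_conj _ (QB.inv_mem hq), -i, ?_⟩
    group

theorem QB_le_QR : QB ≤ QR := fun q hq => ⟨q, hq, 0, by simp only [_root_.zpow_ofNat, _root_.pow_zero, _root_.mul_one]⟩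

theorem ρ_mem_QR : ρ ∈ QR := ⟨1, QB.one_mem, 1, by simp only [_root_.zpow_ofNat, _root_.pow_one, _root_.one_mul]⟩

theorem gen_cN_le : gen cN_g ≤ QR := by
  refine gen_le fun a ha => ?_
  have h1 : a ∈ QG ∨ a = [xr 2 0, xr 9 2, xr 2 2] := by
    have : cN_g = QG ++ [[xr 2 0, xr 9 2, xr 2 2]] := rfl
    rw [this, List.mem_append, List.mem_singleton] at ha
    exact ha
  rcases h1 with h1 | rfl
  · apply QB_le_QR
    rw [QB_eq]
    exact gen_mem a h1
  · exact ρ_mem_QR

theorem cent_N {x : L0} (h : ∀ y ∈ NB, x * y = y * x) : x ∈ QR := by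
  apply gen_cN_le
  refine cN x fun w hw => ?_
  have hw' : w = [xr 11 0] ∨ w = [xr 10 0] ∨ w = [xr 10 1] := by
    simpa [cN_w] using hw
  rcases hw' with rfl | rfl | rfl
  · exact h (X 11 0) (Subgroup.subset_closure (by simp))
  · exact h (X 10 0) (Subgroup.subset_closure (by simp))
  · exact h (X 10 1) (Subgroup.subset_closure (by simp))

theorem QR_pow {q : L0} (hq : q ∈ QB) (i : ℤ) (m : ℕ) : ∃ q' ∈ QB, (q * ρ ^ i) ^ m = q' * (ρ ^ i) ^ m := by
  induction m with
  | zero => exact ⟨1, QB.one_mem, by simp only [_root_.pow_zero, _root_.mul_one]⟩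
  | succ m ih =>
    obtain ⟨q', hq', h⟩ := ih
    refine ⟨q' * ((ρ ^ (i * m)) * q * (ρ ^ (i * m))⁻¹), QB.mul_mem hq' (zpow_conj _ hq), ?_⟩
    rw [pow_succ, h, pow_succ, ← zpow_natCast (ρ ^ i), ← zpow_mul]
    group

theorem cent2 : ∀ x, (∀ y ∈ NB, x * y = y * x) → ∀ k : ℕ, x ^ 2 ^ k = 1 → x ∈ QB := by
  intro x hx k hk
  obtain ⟨q, hq, i, rfl⟩ := cent_N hx
  obtain ⟨q', hq', h⟩ := QR_pow hq i (2 ^ k)
  rw [hk] at h
  have h1 : (ρ ^ i) ^ (2 ^ k) ∈ QB := by
    rw [← inv_eq_of_mul_eq_one_right h.symm]
    exact QB.inv_mem hq'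
  have h3 : (ρ ^ i) ^ 3 = 1 := by
    rw [← zpow_natCast, ← zpow_mul, mul_comm, zpow_mul, zpow_natCast, ρ3, one_zpow]
  have h4 : (ρ ^ i) ^ (2 ^ k) = 1 := by
    have e1 := Q4 h1
    have e2 : ((ρ ^ i) ^ (2 ^ k)) ^ 3 = 1 := by rw [← pow_mul, mul_comm, pow_mul, h3, one_pow]
    rwa [pow_succ, e2, one_mul] at e1
  have h5 : ρ ^ i = 1 := by
    rw [← orderOf_eq_one_iff, ← Nat.dvd_one]
    have e3 : Nat.gcd (2 ^ k) 3 = 1 := Nat.Coprime.pow_left k (by norm_num)
    rw [← e3]
    exact Nat.dvd_gcd (orderOf_dvd_of_pow_eq_one h4) (orderOf_dvd_of_pow_eq_one h3)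
  rw [h5, mul_one]
  exact hq

end Cfsg.Agent.StdG24.QB
end

-- part: StdG24/FactsNL0
section
/-!
# The facts of step 7 for the group on 416 points
-/

set_option autoImplicit false

namespace Cfsg.Agent.StdG24.FactsNL0

open Cfsg.Agent.StdG24 Cfsg.Agent.StdG24.FactsL0 Cfsg.Agent.StdG24.FactsNW

theorem factsN0 : StepSevenN.FactsN D0 QDef.NB QDef.QB QDef.XB where
  vX := QB.vX
  XQ := QB.XQ
  XN := QB.XN
  cX := fnw0.cX
  NW := fnw0.NW
  nW := fnw0.nW
  N2 := fnw0.N2
  NAl := fnw0.NAl
  NO2 := fnw0.NO2
  QN := QB.QN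
  cent2 := QB.cent2
  Q2 := QB.Q2
  ZQ := QB.ZQ
  QQ := QB.QQ
  inner := fnw0.inner

end Cfsg.Agent.StdG24.FactsNL0
end

-- part: StdG24/MainA
section
/-!
# S1767: assembly
-/

set_option autoImplicit false

namespace Cfsg.Agent.StdG24.MainA

open Cfsg Cfsg.Agent.StdG24.Words Cfsg.Agent.StdG24.FactsL0 Cfsg.Agent.StdG24.GenJ Subgroup
open Cfsg.Agent.StdAlt Cfsg.Agent.StdAlt.First

theorem z00 : X 6 0 * X 6 0 = 1 := QB.XX (by decide +kernel)
theorem z11 : X 6 1 * X 6 1 = 1 := QB.XX (by decide +kernel)
theorem z01 : X 6 0 * X 6 1 = X 6 1 * X 6 0 := QB.XXX (by decide +kernel)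
theorem v00 : X 9 0 * X 9 0 = 1 := QB.XX (by decide +kernel)
theorem v11 : X 9 1 * X 9 1 = 1 := QB.XX (by decide +kernel)
theorem v01 : X 9 0 * X 9 1 = X 9 1 * X 9 0 := QB.XXX (by decide +kernel)
theorem z0 : X 6 0 ≠ 1 := by
  have h := CentX.E_ne (a := [xr 6 0]) (b := []) (by decide +kernel)
  rwa [E_nil] at h
theorem z1 : X 6 1 ≠ 1 := by
  have h := CentX.E_ne (a := [xr 6 1]) (b := []) (by decide +kernel)
  rwa [E_nil] at h
theorem v0 : X 9 0 ≠ 1 := by
  have h := CentX.E_ne (a := [xr 9 0]) (b := []) (by decide +kernel)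
  rwa [E_nil] at h
theorem v1 : X 9 1 ≠ 1 := by
  have h := CentX.E_ne (a := [xr 9 1]) (b := []) (by decide +kernel)
  rwa [E_nil] at h
theorem zne : X 6 0 ≠ X 6 1 := CentX.E_ne (a := [xr 6 0]) (b := [xr 6 1]) (by decide +kernel)
theorem vne : X 9 0 ≠ X 9 1 := CentX.E_ne (a := [xr 9 0]) (b := [xr 9 1]) (by decide +kernel)

/-- `Z₁` -/
noncomputable def Z1 : Subgroup L0 := Pairs.four (X 6 0) (X 6 1) z00 z11 z01

theorem Z1_le : Z1 ≤ D0.Al := by
  rintro x (rfl | rfl | rfl | rfl)
  · exact one_mem _
  · exact X_mem_Al (Or.inr rfl) (by norm_num)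
  · exact X_mem_Al (Or.inr rfl) (by norm_num)
  · exact mul_mem (X_mem_Al (Or.inr rfl) (by norm_num)) (X_mem_Al (Or.inr rfl) (by norm_num))

theorem card_Z1 : Nat.card Z1 = 4 := Pairs.card_four z0 z1 zne

theorem z_mem : D0.z ∈ Z1 := Or.inr (Or.inl rfl)

theorem XB_le : QDef.XB ≤ D0.As := by
  rw [QDef.XB, closure_le]
  rintro x (rfl | rfl)
  · exact X_mem_As (Or.inr rfl) (by norm_num)
  · exact X_mem_As (Or.inr rfl) (by norm_num)

theorem card_XB : Nat.card QDef.XB = 4 := by
  have h : QDef.XB = Pairs.four (X 9 0) (X 9 1) v00 v11 v01 := by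
    apply le_antisymm
    · intro x hx
      exact QB.XB_cases hx
    · rintro x (rfl | rfl | rfl | rfl)
      · exact one_mem _
      · exact _root_.Subgroup.subset_closure (by simp)
      · exact _root_.Subgroup.subset_closure (by simp)
      · exact mul_mem (_root_.Subgroup.subset_closure (by simp)) (_root_.Subgroup.subset_closure (by simp))
  rw [h]
  exact Pairs.card_four v0 v1 vne

/-- the centre of `L0` is trivial -/
theorem center_L0 (x : L0) (hx : ∀ y, x * y = y * x) : x = 1 := by
  have h1 := LettersAbs.simple_L0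
  rcases (inferInstance : (center L0).Normal).eq_bot_or_eq_top with h | h
  · have h2 : x ∈ center L0 := mem_center_iff.2 fun y => (hx y).symm
    rw [h, mem_bot] at h2
    exact h2
  · exfalso
    apply facts0.u1
    apply facts0.centAs _ facts0.uAs
    intro b _
    have h2 : D0.u ∈ center L0 := by rw [h]; exact mem_top _
    exact (mem_center_iff.1 h2 b).symm

/-- **S1767** -/
theorem main {G : Type*} [Group G] [Finite G] (hO : Cfsg.oddCore G = ⊥)
    (A : Subgroup G) (hA : Cfsg.IsStandardSubgroup A) {F : Type*} [Field F] [Fintype F] (hF : Fintype.card F = 4)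
    (hAX : Nonempty (↥A ≃* ↥(Cfsg.Lie.chevG2.group F)))
    (hR : ¬ Cfsg.PRankLE 2 1 ↥(Subgroup.centralizer (A : Set G)))
    (hcG : CommHalf G) (hcQ : ∀ K : Subgroup G, CommHalf (K ⧸ Cfsg.oddCore K)) :
    A.Normal ∨ Cfsg.Spor.IsoCo1 ↥(Subgroup.normalClosure (A : Set G)) := by
  obtain ⟨φ0⟩ := hAX
  obtain ⟨φ1⟩ := Iso416.equiv_chev F hF
  let φ : A ≃* L0 := φ0.trans φ1.symm
  have h : Emb (GTwoFour.EmbOf.emb φ) := GTwoFour.EmbOf.emb_of_standard hA φ center_L0 ⟨_, facts0.u1⟩
  have hrange := GTwoFour.EmbOf.range_emb φ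
  have hr : ¬ PRankLE 2 1 (KK (GTwoFour.EmbOf.emb φ)) := by
    rw [GTwoFour.EmbOf.KK_emb]; exact hR
  by_cases hn : NU D0 (GTwoFour.EmbOf.emb φ)
  · left
    have hw : NW D0 (GTwoFour.EmbOf.emb φ) := nw_of_nu facts0 (fd_w facts0 MainB.eAs) FactsNL0.factsN0 XB_le card_XB
      h hr hn (hcQ _)
    have hs := LettersAbs.simple_L0
    exact NormalStd.normal_of_standard hcG hA hR (E := E0) ax0 NormalStd.f4 φ.symm hw hn
  · right
    obtain ⟨Lb, i, R, ρ, g, hE, hRK⟩ := odd_u facts0 (fd_u facts0 MainB.eAl) h hr hn (hcQ _)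
    obtain ⟨g', h1, h2, h3, h4, h5, h6, h7, h8⟩ := (fd_u facts0 MainB.eAl).align h hE hRK Z1_le card_Z1
    have := MainB.iso hO Z1_le card_Z1 z_mem h (b := g')
      { WK := h1, sq := h2, W4 := h3, max := h4, bu := h5, bW := h6, bZ := h7, bn := h8 }
    rwa [hrange] at this

end Cfsg.Agent.StdG24.MainA
end

-- part: S1767
section
set_option autoImplicit false
open Cfsg

namespace Cfsg.Agent.S1767

/-- Let G be a finite group with no nontrivial normal subgroup of odd order in which every section has the B-property, and let A be a standard subgroup of G isomorphic to the Chevalley group of type G₂ over the field with 4 elements whose centralizer contains a Klein four-group. Then either A is normal in G, or the normal closure of A in G is isomorphic to the first Conway group. -/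
theorem result {G : Type*} [Group G] [Finite G] (hO : Cfsg.oddCore G = ⊥) (hB : Cfsg.HasStrongBProperty G)
    (A : Subgroup G) (hA : Cfsg.IsStandardSubgroup A) {F : Type*} [Field F] [Fintype F] (hF : Fintype.card F = 4)
    (hAX : Nonempty (↥A ≃* ↥(Cfsg.Lie.chevG2.group F))) (hR : ¬ Cfsg.PRankLE 2 1 ↥(Subgroup.centralizer (A : Set G))) :
    A.Normal ∨ Cfsg.Spor.IsoCo1 ↥(Subgroup.normalClosure (A : Set G)) :=
  StdG24.MainA.main hO A hA hF hAX hR (StdG24.Comm.commHalf_of_bot hO) (fun _ => StdG24.Comm.commHalf_quot)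

end Cfsg.Agent.S1767
end

private theorem dce_2c2ced9072c0 : _root_.True := by
  try have : _root_.True := by simp only [_root_.Cfsg.Agent.StdG24.CentBlk.allPts.eq_1]
  try have : _root_.True := by simp only [_root_.Cfsg.Agent.StdG24.QB.QG.eq_1]
  try have : _root_.True := by simp only [_root_.Cfsg.Agent.StdG24.CentBlk.allPts.eq_def]
  try have : _root_.True := by simp only [_root_.Cfsg.Agent.StdG24.Cents.cN_w.eq_1]
  try have : _root_.True := by simp only [_root_.Cfsg.Agent.StdG24.QB.NG.eq_1]
  try have : _root_.True := by simp only [_root_.Cfsg.Agent.StdG24.CentQ.cQ_w.eq_1]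
  try have : _root_.True := by simp only [_root_.Cfsg.Agent.StdG24.CentBlk.allPts.eq_2]
  try have : _root_.True := by simp only [_root_.Cfsg.Agent.StdG24.QDef.XB.eq_1]
  exact _root_.True.intro
end
end
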