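import Cfsg.Statements.S3695
import Cfsg.Agent.S0000
import Cfsg.Agent.H50.HerFinal
set_option linter.all false

set_option autoImplicit false
open Cfsg

namespace Cfsg.Agent.S3695

/-- Hering's classification of semilinear groups transitive on lines (the known short proof uses the classification of the finite simple groups). Let K be a finite field with q elements, V a K-vector space of dimension n ≥ 1, and H a group of permutations of V each of which is additive and semilinear with respect to some field automorphism of K (a subgroup of ΓL(V)), such that H is transitive on the one-dimensional subspaces of V. Then one of the following holds: (1) for some factorization n = a·b and a field with q^b elements, H has a normal subgroup isomorphic to SL(a, q^b) with a ≥ 2, or to Sp(a, q^b) with a = 2m ≥ 2, or, when a = 6 and q is even, to the Chevalley group of type G₂ over the field with q^b ≥ 4 elements or (if q^b = 2) to PSU(3, 3); (2) the additive group of V can be identified with a field of q^n elements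 (the identification need not respect multiplication by K) so that every element of H acts as x ↦ c·σ(x) with c in that field and σ a field automorphism; (3) n = 2, q ∈ {5, 7, 11, 23} and H has a normal quaternion subgroup of order 8; (4) n = 2, q ∈ {9, 11, 19, 29, 59} and H has a normal subgroup isomorphic to SL(2, 5); (5) n = 4, q = 2 and H is isomorphic to the alternating group of degree 6 or 7; (6) n = 4, q = 3 and either H has a normal subgroup of order 32 and H itself has order dividing 32 · 120, or H has a normal subgroup isomorphic to SL(2, 5); (7) n = 6, q = 3 and H is isomorphic to SL(2, 13). -/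
theorem result {K V : Type*} [Field K] [Fintype K] [AddCommGroup V] [Module K V] [Finite V]
    (q n : ℕ) (hq : Fintype.card K = q) (hn : Module.finrank K V = n) (h1 : 1 ≤ n)
    (H : Subgroup (Equiv.Perm V)) (hadd : ∀ h ∈ H, ∀ v w : V, h (v + w) = h v + h w)
    (hsemi : ∀ h ∈ H, ∃ σ : K ≃+* K, ∀ (c : K) (v : V), h (c • v) = σ c • h v)
    (htrans : ∀ v w : V, v ≠ 0 → w ≠ 0 → ∃ h ∈ H, ∃ c : K, h v = c • w) :
    (∃ (a b : ℕ) (F : Type) (_ : Field F) (_ : Fintype F), a * b = n ∧ Fintype.card F = q ^ b ∧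
      ∃ N : Subgroup H, N.Normal ∧
        ((2 ≤ a ∧ Nonempty (N ≃* Matrix.SpecialLinearGroup (Fin a) F)) ∨
         (∃ m : ℕ, a = 2 * m ∧ 1 ≤ m ∧ Nonempty (N ≃* Matrix.symplecticGroup (Fin m) F)) ∨
         (a = 6 ∧ q % 2 = 0 ∧ 4 ≤ Fintype.card F ∧ Nonempty (N ≃* Cfsg.Lie.chevG2.group F)) ∨
         (a = 6 ∧ Fintype.card F = 2 ∧ ∃ (E : Type) (_ : Field E) (_ : Fintype E), Fintype.card E = 9 ∧ Nonempty (N ≃* Cfsg.PSU 3 E 3)))) ∨
    (∃ (F : Type) (_ : Field F) (_ : Fintype F) (e : V ≃+ F), Fintype.card F = q ^ n ∧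
      ∀ h ∈ H, ∃ (c : F) (σ : F ≃+* F), ∀ v : V, e (h v) = c * σ (e v)) ∨
    (n = 2 ∧ (q = 5 ∨ q = 7 ∨ q = 11 ∨ q = 23) ∧ ∃ N : Subgroup H, N.Normal ∧ Nonempty (N ≃* QuaternionGroup 2)) ∨
    (n = 2 ∧ (q = 9 ∨ q = 11 ∨ q = 19 ∨ q = 29 ∨ q = 59) ∧
      ∃ N : Subgroup H, N.Normal ∧ Nonempty (N ≃* Matrix.SpecialLinearGroup (Fin 2) (ZMod 5))) ∨
    (n = 4 ∧ q = 2 ∧ (Nonempty (H ≃* alternatingGroup (Fin 6)) ∨ Nonempty (H ≃* alternatingGroup (Fin 7)))) ∨
    (n = 4 ∧ q = 3 ∧ ((∃ N : Subgroup H, N.Normal ∧ Nat.card N = 32 ∧ Nat.card H ∣ 32 * 120) ∨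
      ∃ N : Subgroup H, N.Normal ∧ Nonempty (N ≃* Matrix.SpecialLinearGroup (Fin 2) (ZMod 5)))) ∨
    (n = 6 ∧ q = 3 ∧ Nonempty (H ≃* Matrix.SpecialLinearGroup (Fin 2) (ZMod 13))) := by
  exact Cfsg.Agent.H50.Her.hering_of_known (fun X _ _ _ => Cfsg.Agent.S0000.result) q n hq hn h1 H hadd hsemi htrans

end Cfsg.Agent.S3695
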