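import Cfsg.Agent.Leech.HSConfig
import Cfsg.Agent.SporadicA.M24Frames
import Cfsg.Agent.LeechMat.Orbit
import Cfsg.Agent.SporStruct.U35Iso
import Cfsg.Statements.S1633
import Cfsg.Agent.Leech.FrameTriples
import Cfsg.Agent.Leech.FrameStab
import Cfsg.Agent.S0401
import Cfsg.Agent.S0405
set_option linter.all false

-- part: SporStruct/HS352
section
/-!
The 352 minimal vectors with inner products 16 and -24 with the two vectors of the standard
Higman-Sims configuration: classification, number, transitivity.
-/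

set_option autoImplicit false

namespace Cfsg.Agent.SporStruct.HS352

open Cfsg
open Cfsg.Agent.SporadicA
open Cfsg.Agent.Leech.HSList Cfsg.Agent.Leech.FrameTriplesOf Cfsg.Agent.Leech.FrameAux
open Cfsg.Agent.Leech.HSConfig
open scoped Pointwise

/-- The minimal vectors with inner products 16 and -24 with `v` and `w`. -/
def Z (v w : leechLattice) : Set leechLattice :=
  {x | sqNorm (x : GolayPt → ℤ) = 32 ∧ dotInt (v : GolayPt → ℤ) (x : GolayPt → ℤ) = 16 ∧
    dotInt (w : GolayPt → ℤ) (x : GolayPt → ℤ) = -24}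

theorem mem_Z {v w x : leechLattice} : x ∈ Z v w ↔ sqNorm (x : GolayPt → ℤ) = 32 ∧
    dotInt (v : GolayPt → ℤ) (x : GolayPt → ℤ) = 16 ∧
    dotInt (w : GolayPt → ℤ) (x : GolayPt → ℤ) = -24 := Iff.rfl

theorem smul_mem_Z (g : Co0) {v w x : leechLattice} : g • x ∈ Z (g • v) (g • w) ↔ x ∈ Z v w := by
  rw [mem_Z, mem_Z, co0_sqNorm, co0_dot, co0_dot]

/-- The set is closed under `x ↦ -w - x`. -/
theorem flip_mem {v w x : leechLattice} (hw : sqNorm (w : GolayPt → ℤ) = 48)
    (hvw : dotInt (v : GolayPt → ℤ) (w : GolayPt → ℤ) = -32) (hx : x ∈ Z v w) :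
    -w - x ∈ Z v w := by
  obtain ⟨h1, h2, h3⟩ := hx
  have e : ((-w - x : leechLattice) : GolayPt → ℤ) = -((w : GolayPt → ℤ) + (x : GolayPt → ℤ)) := by
    rw [AddSubgroup.coe_sub, AddSubgroup.coe_neg]; abel
  have e2 : sqNorm (-((w : GolayPt → ℤ) + (x : GolayPt → ℤ))) =
      sqNorm ((w : GolayPt → ℤ) + (x : GolayPt → ℤ)) := by
    rw [sqNorm_def, sqNorm_def]
    exact Finset.sum_congr rfl fun i _ => by rw [Pi.neg_apply]; ring
  have e3 : ∀ u z : GolayPt → ℤ, dotInt u (-z) = -dotInt u z := by
    intro u z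
    rw [dot_comm, dot_neg_left, dot_comm]
  refine ⟨?_, ?_, ?_⟩
  · rw [e, e2, sqNorm_add, hw, h3, h1]; norm_num
  · rw [e, e3, dot_add_right, hvw, h2]; norm_num
  · rw [e, e3, dot_add_right, dot_self, hw, h3]; norm_num

theorem flip_flip (w x : leechLattice) : -w - (-w - x) = x := by abel

/-- The octads through `some 0` missing `none`. -/
def octs : Set (Finset GolayPt) := {o | o ∈ octads ∧ some 0 ∈ o ∧ none ∉ o}

/-- Even vectors of the configuration. -/
theorem classify_even {x y : GolayPt → ℤ} (hy : ∀ i, x i = 2 * y i)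
    (hc : (Finset.univ.filter fun i => y i % 2 = 1) ∈ supports (golayCode : Set (GolayPt → ZMod 2)))
    (hn : ∑ i, x i ^ 2 = 32)
    (h1 : ∑ i, x i + 4 * x none = 16) (h2 : ∑ i, x i + 4 * x (some 0) = 24) :
    ∃ o ∈ octs, x = vC o := by
  simp only [hy, mul_pow, ← Finset.mul_sum] at hn h1 h2
  have ht : y (some 0) = y none + 1 := by linarith
  rw [sum_split, ht] at hn h1
  set s := y none with hs
  have hS : ∑ i ∈ rest, y i = 7 - 6 * s := by linarith
  have hQ : ∑ i ∈ rest, y i ^ 2 = 7 - 2 * s ^ 2 - 2 * s := by linarith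
  have hP : ∑ i ∈ rest, y i * (y i - 1) = -2 * (s * (s - 2)) := by
    have : ∑ i ∈ rest, y i * (y i - 1) = ∑ i ∈ rest, y i ^ 2 - ∑ i ∈ rest, y i := by
      rw [← Finset.sum_sub_distrib]
      exact Finset.sum_congr rfl fun i _ => by ring
    rw [this, hS, hQ]
    ring
  have hnn : 0 ≤ ∑ i ∈ rest, y i * (y i - 1) :=
    Finset.sum_nonneg fun i _ => mul_pred_nonneg (y i)
  have hnq : 0 ≤ ∑ i ∈ rest, y i ^ 2 := Finset.sum_nonneg fun i _ => sq_nonneg _
  rw [hP] at hnn
  rw [hQ] at hnq
  have hs01 : s = 0 ∨ s = 1 := by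
    have h3 : s ≤ 1 := by nlinarith
    have h4 : 0 ≤ s := by nlinarith
    omega
  rcases hs01 with h | h
  · rw [h] at hS hP hs ht
    norm_num at hS hP
    have hz : ∀ i ∈ rest, y i = 0 ∨ y i = 1 := by
      have := (Finset.sum_eq_zero_iff_of_nonneg fun i _ => mul_pred_nonneg (y i)).1 hP
      intro i hi
      rcases mul_eq_zero.1 (this i hi) with h | h
      · exact Or.inl h
      · exact Or.inr (by linarith)
    have hall : ∀ i, y i = 0 ∨ y i = 1 := by
      intro i
      by_cases hi : i ∈ rest
      · exact hz i hi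
      · rw [mem_rest, not_and_or, not_not, not_not] at hi
        rcases hi with rfl | rfl
        · left; rw [← hs]
        · right; rw [ht]; norm_num
    refine ⟨Finset.univ.filter fun i => y i % 2 = 1, ⟨⟨hc, ?_⟩, ?_, ?_⟩, ?_⟩
    · have h8 : ∑ i, y i = 8 := by
        rw [sum_split, ht, hS, ← hs]
        norm_num
      have e : ∑ i, y i = ((Finset.univ.filter fun i => y i % 2 = 1).card : ℤ) := by
        rw [Finset.card_filter]
        push_cast
        refine Finset.sum_congr rfl fun i _ => ?_
        rcases hall i with hi | hi <;> rw [hi] <;> norm_num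
      rw [h8] at e
      exact_mod_cast e.symm
    · simp only [Finset.mem_filter, Finset.mem_univ, true_and]
      rw [ht]
      norm_num
    · simp only [Finset.mem_filter, Finset.mem_univ, true_and]
      rw [← hs]
      norm_num
    · funext i
      unfold vC
      simp only [Finset.mem_filter, Finset.mem_univ, true_and]
      rw [hy i]
      rcases hall i with hi | hi <;> rw [hi] <;> norm_num
  · exfalso
    rw [h] at hS hQ hs ht
    norm_num at hS hQ ht
    have hle : ((Finset.univ.filter fun i => y i % 2 = 1).card : ℤ) ≤ 4 := by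
      rw [Finset.card_filter]
      push_cast
      rw [sum_split]
      have a1 : (if y none % 2 = 1 then (1 : ℤ) else 0) = 1 := by rw [← hs]; norm_num
      have a2 : (if y (some 0) % 2 = 1 then (1 : ℤ) else 0) = 0 := by rw [ht]; norm_num
      have a3 : ∑ i ∈ rest, (if y i % 2 = 1 then (1 : ℤ) else 0) ≤ ∑ i ∈ rest, y i ^ 2 := by
        refine Finset.sum_le_sum fun i _ => ?_
        split
        · next hodd =>
          have : y i ≠ 0 := by omega
          have := Int.one_le_abs this
          nlinarith [sq_abs (y i)]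
        · exact sq_nonneg _
      rw [a1, a2]
      rw [hQ] at a3
      linarith
    have hmem : (none : GolayPt) ∈ Finset.univ.filter fun i => y i % 2 = 1 := by
      simp only [Finset.mem_filter, Finset.mem_univ, true_and]
      rw [← hs]
      norm_num
    have hpos := Finset.card_pos.2 ⟨_, hmem⟩
    rcases GolayBase.card_of_mem_supports hc with h | h | h | h | h
    · omega
    all_goals rw [h] at hle; norm_num at hle

theorem vC_sum {o : Finset GolayPt} (ho : o ∈ octs) :
    ∑ i, vC o i ^ 2 = 32 ∧ ∑ i, vC o i + 4 * vC o none = 16 ∧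
      ∑ i, vC o i + 4 * vC o (some 0) = 24 := by
  have h1 : vC o none = 0 := if_neg ho.2.2
  have h2 : vC o (some 0) = 2 := if_pos ho.2.1
  rw [sum_sq_vC ho.1, sum_vC ho.1, h1, h2]
  norm_num

theorem mem_Z_std {v w : leechLattice} (h : Std v w) (x : leechLattice) :
    x ∈ Z v w ↔ ∑ i, (x : GolayPt → ℤ) i ^ 2 = 32 ∧
      ∑ i, (x : GolayPt → ℤ) i + 4 * (x : GolayPt → ℤ) none = 16 ∧
      ∑ i, (x : GolayPt → ℤ) i + 4 * (x : GolayPt → ℤ) (some 0) = 24 := by
  rw [mem_Z, h.hv, h.hw, dot_vec_five, dot_vec_neg, sqNorm_def, neg_inj]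

/-- `vC o` as a lattice vector belongs to the configuration. -/
theorem lC_mem {v w : leechLattice} (h : Std v w) {o : Finset GolayPt} (ho : o ∈ octs) :
    lC o ∈ Z v w := by
  rw [mem_Z_std h, coe_lC ho.1]
  exact vC_sum ho

theorem std_w {v w : leechLattice} (h : Std v w) : sqNorm (w : GolayPt → ℤ) = 48 := by
  rw [h.hw, sqNorm_vec3]; norm_num

theorem std_vw {v w : leechLattice} (h : Std v w) :
    dotInt (v : GolayPt → ℤ) (w : GolayPt → ℤ) = -32 := by
  rw [h.hv, h.hw]; decide

/-- Classification of the configuration. -/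
theorem mem_Z_iff {v w : leechLattice} (h : Std v w) (x : leechLattice) :
    x ∈ Z v w ↔ (∃ o ∈ octs, x = lC o) ∨ (∃ o ∈ octs, x = -w - lC o) := by
  constructor
  · intro hx
    have hx' := (mem_Z_std h x).1 hx
    rcases even_or_odd x.2 with ⟨y, hy, hc⟩ | ⟨y, hy, -⟩
    · left
      obtain ⟨o, ho, hxo⟩ := classify_even hy hc hx'.1 hx'.2.1 hx'.2.2
      exact ⟨o, ho, Subtype.ext (by rw [coe_lC ho.1]; exact hxo)⟩
    · right
      have hz := flip_mem (std_w h) (std_vw h) hx
      have hz' := (mem_Z_std h _).1 hz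
      rcases even_or_odd (-w - x).2 with ⟨z, hz1, hzc⟩ | ⟨z, hz1, -⟩
      · obtain ⟨o, ho, hxo⟩ := classify_even hz1 hzc hz'.1 hz'.2.1 hz'.2.2
        refine ⟨o, ho, ?_⟩
        have : -w - x = lC o := Subtype.ext (by rw [coe_lC ho.1]; exact hxo)
        rw [← this, flip_flip]
      · exfalso
        have a := hz1 none
        have b := hy none
        rw [AddSubgroup.coe_sub, AddSubgroup.coe_neg, Pi.sub_apply, Pi.neg_apply, h.hw, vec3_none,
          b] at a
        omega
  · rintro (⟨o, ho, rfl⟩ | ⟨o, ho, rfl⟩)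
    · exact lC_mem h ho
    · exact flip_mem (std_w h) (std_vw h) (lC_mem h ho)

/-! ### The 176 octads -/

/-- Indices of the octads through `some 0` missing `none`. -/
def idx176 : Finset ℕ := (Finset.range 4096).filter fun i =>
  Nat.beq (GolayBase.popcount (GolayBase.enc i)) 8 && (!((GolayBase.enc i).testBit 23) &&
    (GolayBase.enc i).testBit 0)

theorem card_idx176 : idx176.card = 176 := by decide +kernel

theorem mem_idx176 {i : ℕ} : i ∈ idx176 ↔ i < 4096 ∧ GolayBase.popcount (GolayBase.enc i) = 8 ∧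
    (GolayBase.enc i).testBit 23 = false ∧ (GolayBase.enc i).testBit 0 = true := by
  unfold idx176
  rw [Finset.mem_filter, Finset.mem_range, Bool.and_eq_true, Bool.and_eq_true, Bool.not_eq_true']
  have : (GolayBase.popcount (GolayBase.enc i)).beq 8 = true ↔
      GolayBase.popcount (GolayBase.enc i) = 8 := ⟨Nat.eq_of_beq_eq_true, fun h => by rw [h]; rfl⟩
  rw [this]

theorem octs_eq :
    octs = (fun i => GolayBase.fin (GolayBase.enc i)) '' (idx176 : Set ℕ) := by
  ext o
  rw [Set.mem_image]
  simp only [Finset.mem_coe, mem_idx176]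
  constructor
  · rintro ⟨ho, h1, h2⟩
    have hc := (GolayBase.mem_supports_iff o).1 ho.1
    obtain ⟨i, hi, he⟩ := GolayBase.isCode_iff_exists.1 hc
    have hf : GolayBase.fin (GolayBase.enc i) = o := by rw [← he, GolayBase.fin_maskOf]
    refine ⟨i, ⟨hi, ?_, ?_, ?_⟩, hf⟩
    · rw [← GolayBase.card_fin, hf]; exact ho.2
    · rw [← hf, GolayBase.mem_fin] at h2
      rw [Bool.not_eq_true] at h2
      exact h2
    · rw [← hf, GolayBase.mem_fin] at h1; exact h1
  · rintro ⟨i, ⟨hi, h1, h2, h3⟩, rfl⟩
    refine ⟨⟨?_, ?_⟩, ?_, ?_⟩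
    · exact (GolayBase.fin_mem_supports_iff (GolayBase.enc_lt i)).2 (GolayBase.isCode_enc i)
    · rw [GolayBase.card_fin, h1]
    · exact GolayBase.mem_fin.2 h3
    · rw [GolayBase.mem_fin]
      intro h
      have h' : (GolayBase.enc i).testBit 23 = true := h
      rw [h2] at h'
      exact Bool.noConfusion h'

theorem ncard_octs : octs.ncard = 176 := by
  have hinj : Set.InjOn (fun i => GolayBase.fin (GolayBase.enc i)) (idx176 : Set ℕ) := by
    intro i hi j hj h
    have hi' : i < 4096 := (mem_idx176.1 hi).1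
    have hj' : j < 4096 := (mem_idx176.1 hj).1
    exact GolayBase.enc_injOn hi' hj'
      (GolayBase.fin_injective (GolayBase.enc_lt i) (GolayBase.enc_lt j) h)
  rw [octs_eq, hinj.ncard_image, Set.ncard_coe_finset, card_idx176]

theorem lC_injOn_octs : Set.InjOn lC octs := fun o ho o' ho' h =>
  vC_injective (by rw [← coe_lC ho.1, ← coe_lC ho'.1, h])

theorem ncard_Z_std {v w : leechLattice} (h : Std v w) : (Z v w).ncard = 352 := by
  have e : Z v w = lC '' octs ∪ (fun x => -w - x) '' (lC '' octs) := by
    ext x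
    rw [mem_Z_iff h]
    constructor
    · rintro (⟨o, ho, rfl⟩ | ⟨o, ho, rfl⟩)
      · exact Or.inl ⟨o, ho, rfl⟩
      · exact Or.inr ⟨_, ⟨o, ho, rfl⟩, rfl⟩
    · rintro (⟨o, ho, rfl⟩ | ⟨_, ⟨o, ho, rfl⟩, rfl⟩)
      · exact Or.inl ⟨o, ho, rfl⟩
      · exact Or.inr ⟨o, ho, rfl⟩
  have n1 : (lC '' octs).ncard = 176 := by rw [lC_injOn_octs.ncard_image, ncard_octs]
  have hinj : Function.Injective (fun x : leechLattice => -w - x) := fun x y hxy => by
    have := congrArg (fun z => -w - z) hxy
    simpa only [flip_flip] using this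
  have n2 : ((fun x : leechLattice => -w - x) '' (lC '' octs)).ncard = 176 := by
    rw [Set.ncard_image_of_injective _ hinj, n1]
  have f1 : (lC '' octs).Finite := Set.finite_of_ncard_ne_zero (by rw [n1]; norm_num)
  rw [e, Set.ncard_union_eq _ f1 (f1.image _), n1, n2]
  rw [Set.disjoint_left]
  rintro _ ⟨o, ho, rfl⟩ ⟨_, ⟨o', ho', rfl⟩, heq⟩
  have := congrArg (fun z : leechLattice => (z : GolayPt → ℤ) none) heq
  simp only [AddSubgroup.coe_sub, AddSubgroup.coe_neg, Pi.sub_apply, Pi.neg_apply, h.hw, vec3_none,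
    coe_lC ho.1, coe_lC ho'.1] at this
  have h1 : vC o none = 0 := if_neg ho.2.2
  have h2 : vC o' none = 0 := if_neg ho'.2.2
  rw [h1, h2] at this
  norm_num at this

theorem ncard_Z_smul (g : Co0) (v w : leechLattice) :
    (Z (g • v) (g • w)).ncard = (Z v w).ncard := by
  have : Z (g • v) (g • w) = (fun y => g • y) '' Z v w := by
    ext y
    constructor
    · intro h1
      exact ⟨g⁻¹ • y, by rw [← smul_mem_Z g, smul_inv_smul]; exact h1, smul_inv_smul g y⟩
    · rintro ⟨z, h1, rfl⟩
      exact (smul_mem_Z g).2 h1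
  rw [this, (MulAction.injective g).injOn.ncard_image]

/-! ### Transitivity -/

/-- Five further points of an octad through `some 0`. -/
theorem exists_frame {o : Finset GolayPt} (ho : o ∈ octs) :
    ∃ a : Fin 7 → GolayPt, Function.Injective a ∧ a 0 = some 0 ∧ a 6 = none ∧
      ∀ i : Fin 7, i < 6 → a i ∈ o := by
  have hc : 5 ≤ (o.erase (some 0)).card := by
    rw [Finset.card_erase_of_mem ho.2.1, ho.1.2]
    norm_num
  obtain ⟨t, ht, ht5⟩ := Finset.exists_subset_card_eq hc
  have hne : ∀ p ∈ t, p ≠ some 0 ∧ p ∈ o := fun p hp => Finset.mem_erase.1 (ht hp)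
  obtain ⟨f⟩ : Nonempty (Fin 5 ≃ t) := ⟨(Fintype.equivFinOfCardEq (by rw [Fintype.card_coe, ht5])).symm⟩
  refine ⟨![some 0, f 0, f 1, f 2, f 3, f 4, none], ?_, rfl, rfl, ?_⟩
  · have hf : ∀ i j : Fin 5, (f i : GolayPt) = f j → i = j := fun i j h =>
      f.injective (Subtype.ext h)
    have h0 : ∀ i : Fin 5, (f i : GolayPt) ≠ some 0 := fun i => (hne _ (f i).2).1
    have h6 : ∀ i : Fin 5, (f i : GolayPt) ≠ none := fun i h => ho.2.2 (h ▸ (hne _ (f i).2).2)
    have hff : ∀ i j : Fin 5, i ≠ j → (f i : GolayPt) ≠ f j := fun i j hij h => hij (hf i j h)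
    intro a b hab
    fin_cases a <;> fin_cases b <;> first
      | rfl
      | exact absurd hab (h0 _)
      | exact absurd hab.symm (h0 _)
      | exact absurd hab (h6 _)
      | exact absurd hab.symm (h6 _)
      | exact absurd hab (hff _ _ (by decide))
      | exact absurd hab (Option.some_ne_none _)
      | exact absurd hab.symm (Option.some_ne_none _)
  · intro i hi
    fin_cases i
    · exact ho.2.1
    · exact (hne _ (f 0).2).2
    · exact (hne _ (f 1).2).2
    · exact (hne _ (f 2).2).2
    · exact (hne _ (f 3).2).2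
    · exact (hne _ (f 4).2).2
    · exact absurd hi (by decide)

theorem exists_perm_octs {o o' : Finset GolayPt} (ho : o ∈ octs) (ho' : o' ∈ octs) :
    ∃ σ ∈ M24, σ none = none ∧ σ (some 0) = some 0 ∧ σ • o = o' := by
  obtain ⟨a, ha, ha0, ha6, hao⟩ := exists_frame ho
  obtain ⟨b, hb, hb0, hb6, hbo⟩ := exists_frame ho'
  obtain ⟨σ, ⟨hσ, h⟩, -⟩ := M24Frames.exists_unique_map a b
    ⟨ha, o, ho.1, hao, by rw [ha6]; exact ho.2.2⟩ ⟨hb, o', ho'.1, hbo, by rw [hb6]; exact ho'.2.2⟩
  refine ⟨σ, hσ, ?_, ?_, ?_⟩
  · have := h 6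
    rwa [ha6, hb6] at this
  · have := h 0
    rwa [ha0, hb0] at this
  · apply GolayBase.octad_unique (M24Frames.smul_mem_octads hσ ho.1) ho'.1
    have hsub : (Finset.univ.filter fun i : Fin 7 => i < 6).image b ⊆ σ • o ∩ o' := by
      intro p hp
      obtain ⟨i, hi, rfl⟩ := Finset.mem_image.1 hp
      have hi' : i < 6 := (Finset.mem_filter.1 hi).2
      refine Finset.mem_inter.2 ⟨?_, hbo i hi'⟩
      rw [← h i]
      exact Finset.smul_mem_smul_finset (hao i hi')
    have := Finset.card_le_card hsub
    rw [Finset.card_image_of_injective _ hb] at this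
    exact le_trans (by decide) this

/-- Transitivity on the even vectors. -/
theorem trans_even {v w : leechLattice} (h : Std v w) {o o' : Finset GolayPt} (ho : o ∈ octs)
    (ho' : o' ∈ octs) : ∃ g : Co0, g • v = v ∧ g • w = w ∧ g • lC o = lC o' := by
  obtain ⟨σ, hσ, h1, h2, h3⟩ := exists_perm_octs ho ho'
  obtain ⟨g, hg⟩ := exists_co0_of_perm σ hσ
  refine ⟨g, fix_vec3 h1 h2 hg h.hv, fix_vec3 h1 h2 hg h.hw, ?_⟩
  apply Subtype.ext
  funext i
  rw [hg, coe_lC ho.1, coe_lC ho'.1, ← h3]
  unfold vC
  have : σ.symm i ∈ o ↔ i ∈ σ • o := by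
    rw [Finset.mem_smul_finset]
    constructor
    · intro hp
      exact ⟨_, hp, by simp⟩
    · rintro ⟨q, hq, rfl⟩
      simpa using hq
  simp only [this]

theorem dot_vB_vC {j : GolayPt} {o : Finset GolayPt} (ho : o ∈ octads) (hj : j ∉ o) :
    dotInt (vB j) (vC o) = 16 := by
  rw [dotInt_def]
  have : ∀ i, vB j i * vC o i = vC o i := by
    intro i
    unfold vB vC
    by_cases hi : i = j
    · rw [hi, if_neg hj]; norm_num
    · rw [if_neg hi, one_mul]
  rw [Finset.sum_congr rfl fun i _ => this i, sum_vC ho]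

/-- An even vector can be moved to an odd vector. -/
theorem exists_even_odd (hT : Trans64) {v w : leechLattice} (h : Std v w) {o : Finset GolayPt}
    (ho : o ∈ octs) : ∃ g : Co0, g • v = v ∧ g • w = w ∧ ∃ o' ∈ octs, g • lC o = -w - lC o' := by
  obtain ⟨j, hj, hjr⟩ : ∃ j, j ∉ o ∧ j ∈ rest := by
    by_contra hcon
    push Not at hcon
    have hsub : rest ⊆ o := by
      intro p hp
      by_contra hpo
      exact hcon p hpo hp
    have := Finset.card_le_card hsub
    rw [Leech.HSList.card_rest, ho.1.2] at this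
    norm_num at this
  have hX : lB j ∈ X v w := (h.mem_X_iff _).2 (Or.inr (Or.inl ⟨j, hjr, rfl⟩))
  have hv48 : sqNorm (v : GolayPt → ℤ) = 48 := by rw [h.hv, sqNorm_vec3]; norm_num
  obtain ⟨g, h1, h2, h3⟩ := hs_triple_of hT v w (lB j) hv48 (std_w h) (std_vw h) hX.1 hX.2.1 hX.2.2
  have e1 : g • v = v := Subtype.ext (h1.trans h.hv.symm)
  have e2 : g • w = w := Subtype.ext (h2.trans h.hw.symm)
  refine ⟨g, e1, e2, ?_⟩
  have hZ : g • lC o ∈ Z v w := by
    have := (smul_mem_Z g).2 (lC_mem h ho)
    rwa [e1, e2] at this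
  rcases (mem_Z_iff h _).1 hZ with ⟨o', ho', hgo⟩ | hgo
  · exfalso
    have hd := co0_dot g (lB j) (lC o)
    rw [hgo, h3, coe_lC ho'.1, coe_lB, coe_lC ho.1, dot_vB_vC ho.1 hj, ← vA_eq, dotInt_def,
      sum_vA_mul] at hd
    have a1 : vC o' none = 0 := if_neg ho'.2.2
    have a2 : vC o' (some 0) = 2 := if_pos ho'.2.1
    rw [a1, a2] at hd
    norm_num at hd
  · exact hgo

/-- Every vector of the configuration is the image of a given even one. -/
theorem trans_aux (hT : Trans64) {v w : leechLattice} (h : Std v w) {o : Finset GolayPt}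
    (ho : o ∈ octs) (x : leechLattice) (hx : x ∈ Z v w) :
    ∃ g : Co0, g • v = v ∧ g • w = w ∧ g • lC o = x := by
  rcases (mem_Z_iff h _).1 hx with ⟨o', ho', rfl⟩ | ⟨o', ho', rfl⟩
  · exact trans_even h ho ho'
  · obtain ⟨g, g1, g2, o1, ho1, g3⟩ := exists_even_odd hT h ho
    obtain ⟨k, k1, k2, k3⟩ := trans_even h ho1 ho'
    refine ⟨k * g, by rw [mul_smul, g1, k1], by rw [mul_smul, g2, k2], ?_⟩
    rw [mul_smul, g3, co0_sub, co0_neg, k2, k3]

/-- Transitivity, for arbitrary `v` and `w`. -/
theorem trans_Z (hT : Trans64) (hT48 : ∀ v w : leechLattice, sqNorm (v : GolayPt → ℤ) = 48 →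
      sqNorm (w : GolayPt → ℤ) = 48 → ∃ g : Co0, g • v = w)
    (v w : leechLattice) (hv : sqNorm (v : GolayPt → ℤ) = 48)
    (hw : sqNorm (w : GolayPt → ℤ) = 48)
    (hvw : dotInt (v : GolayPt → ℤ) (w : GolayPt → ℤ) = -32) :
    ∃ g : Co0, Std (g • v) (g • w) := by
  obtain ⟨x, hx⟩ := X_nonempty hT48 v w hv hw hvw
  obtain ⟨g, h1, h2, -⟩ := hs_triple_of hT v w x hv hw hvw hx.1 hx.2.1 hx.2.2
  exact ⟨g, h1, h2⟩

end Cfsg.Agent.SporStruct.HS352
end

-- part: SporStruct/HSStabData
section
/-!
Data: the 50 minimal vectors attached to the triple `v0 = (5,1^23)`, `w0 = -(1,5,1^22)`, `x0 = (0,2,2^7,0^15)`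
of lattice vectors, and six elements of `Co0` fixing the triple, permuting the 50 vectors as the
generators of `K50`.  Generated by a script, everything is checked by the kernel.
-/

set_option autoImplicit false

namespace Cfsg.Agent.SporStruct.HSStabData

open Cfsg Cfsg.Agent.LeechMat.Elements Cfsg.Agent.LeechMat.Orbit
open Cfsg.Agent.SporStruct.U35Table

/-- mask of the octad -/
def oMask : ℕ := 5279
/-- code of `v0` -/
def vc : ℕ := 0xac6318c6318c6318c6318c6318c631
/-- code of `w0` -/
def wc : ℕ := 0x7bdef7bdef7bdef7bdef7bdef7bdeb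
/-- code of `x0` -/
def xc : ℕ := 0x84210842108421284a109421294a52
/-- codes of the 50 vectors -/
def yc : List ℕ := [0xa42108421084210842108421084214, 0x8c6318c6318c6318c6318c6318c5b1, 0x8c6318c6318c6318c6318c6318b631, 0x8c6318c6318c6318c6318c6316c631, 0x8c6318c6318c6318c6318c62d8c631, 0x8c6318c6318c6318c6316c6318c631, 0x8c6318c6318c6318b6318c6318c631, 0x8c6318c6318c62d8c6318c6318c631, 0x942108421294252842528421084212, 0x942108421294a109421084a1084252, 0x942108425084a50942128421284212, 0x9421084252842508421094a5084212, 0x9421084a1084a508425084a1084a12, 0x9421084a508421084a528425084212, 0x9421094210942108425084a5094212, 0x942109425284210942508421084a12, 0x9421094a1084a10942109425084212, 0x9421094a12842108421284a1284212, 0x9421094a5094250842108421084252, 0x9421284210842109425294a1084212, 0x942128421284a10842508425284212, 0x942128425094212942108425084212, 0x9421284a1094a10842128421094212, 0x9421284a128425094a108421084212, 0x942129421084250842128425084a12, 0x942129425084a1084a1084a1084212, 0x942508421084250942508425084252,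 0x942508421084a128421284a5084212, 0x942508425094a10842509421084212, 0x9425084a1294210842108425084a12, 0x9425084a50842109421084a1094212, 0x94250942109421094a128421084212, 0x942509421284a50842108421094212, 0x9425284210942508421084a1284212, 0x942528425284210842128421084252, 0x9425294a1084212842508421084212, 0x94a108421094a5084a108425084212, 0x94a108421284210942128425094212, 0x94a1084250942108421284a1084a12, 0x94a1084a1094210942508421284212, 0x94a1084a5284a12842108421084212, 0x94a1094210842529421084a1084212, 0x94a109421084a10842528421084252, 0x94a128425084250842508421094212, 0x94a1284a10842108421084a5084252, 0x94a129421294210842109421084212, 0x94a50842128421084a5084a1084212, 0x94a5084a1084250842129421084212, 0x94a509425084210842108425284212, 0x94a528421084a10942108421084a12]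

/-- action check -/
def actOK (d : ℕ) (A : List ℕ) (P : ℕ) : Bool :=
  allLt (fun j => appc A (yc.getD j 0) == (d : ℤ) * val (yc.getD (papp P j) 0)) 50

/-- the 50 vectors are lattice vectors of norm 32 -/
def ysOK : Bool :=
  allLt (fun j => and (isLeech (yc.getD j 0)) (and (dotc (yc.getD j 0) (yc.getD j 0) == 32)
    (Nat.blt (yc.getD j 0) (32 ^ 24)))) 50

theorem ysOK_true : ysOK = true := by decide +kernel
theorem nodup_yc : yc.Nodup := by decide +kernel

/-- matrix of generator 0 -/
def A0 : List ℕ := [0x7c2108c231842108c2308421084613, 0x8462f83e107be318460f8c6317c230, 0x8c2107c1ef842107c1f08421084e11, 0x83e2f83e108c631846118bdf18c1f0, 0x845f1846108be2f8460f8bdf18c230, 0x83e31846108be31846117be2f7c230, 0x8463183e108c5ef846118c5ef7c230, 0x83e31846107bdf183e118c5f18c230, 0x845f183e108be3183e118c62f8c1f0, 0x8c2107c1ef842109c1f08421083e11, 0x83df183e108c5f18460f7c6318c230, 0x8c2107c1ef842107c2708421083e11, 0x845ef846107c5f1846118be2f8c230, 0x8463183e107c62f83e117be318c230, 0x84631846107c6318460f7c5ef8c1f0,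 0x8462f846108bdef846117c6318c1f0, 0x8c2107c1f3842107c1f08421083e11, 0x8c2107c26f842107c1f08421083e11, 0x84631846108c5f183e0f8be317c1f0, 0x8c2109c1ef842107c1f08421083e11, 0x83df1846107c62f846118c6317c1f0, 0x83e2f846108c62f83e0f8c62f8c230, 0x845ef846108c63183e117c5f17c230, 0x9c2108c231842108c230842108460f]
/-- images of the lattice generators -/
def I0 : List ℕ := [0x942109425284210942508421084a12, 0x9c62f8be317be318c62f8c6317c62f, 0xa42108421084210842108421085210, 0x9be2f8be318c6318c6318bdf18c5ef, 0x9c5f18c6318be2f8c62f8bdf18c62f, 0x9be318c6318be318c6317be2f7c62f, 0x9c6318be318c5ef8c6318c5ef7c62f, 0x9be318c6317bdf18be318c5f18c62f, 0x9c5f18be318be318be318c62f8c5ef, 0xa42108421084210a42108421084210, 0x9bdf18be318c5f18c62f7c6318c62f, 0xa42108421084210842908421084210, 0x9c5ef8c6317c5f18c6318be2f8c62f, 0x9c6318be317c62f8be317be318c62f, 0x9c6318c6317c6318c62f7c5ef8c5ef, 0x9c62f8c6318bdef8c6317c6318c5ef, 0xa42108421484210842108421084210, 0xa42108429084210842108421084210, 0x9c6318c6318c5f18be2f8be317c5ef, 0xa4210a421084210842108421084210,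 0x9bdf18c6317c62f8c6318c6317c5ef, 0x9be2f8c6318c62f8be2f8c62f8c62f, 0x9c5ef8c6318c6318be317c5f17c62f, 0xb42109425284210942508421084a0e, 0x7c6317c5ef8c6317c5f18c6318be33, 0x94a1084a5284a12842108421084212, 0x8ce2f8c5f17c6317c5f17c6318be31, 0x94a1084a1084a10842128425284a10, 0x8c62f8c62f8ce317bdf18be318be31, 0x9c5f18c6317c62f7c5f18be318be31, 0x9425284a5084a50842108425084210, 0x94a5094a1094a108421084a1084210, 0x8c6318ce2f7c5f17c5f18c6318bdf1, 0x8c6318c5f18c62f7bdf18c6718bdf1, 0x9421084a1084a50841d084a1083a12, 0x9421084a1284a1084a1084a5094210, 0x9c62f7c6318c62f7be317c6318be31]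
theorem rep0 : checkRep 4 A0 I0 = true := by decide +kernel
theorem fix0 : fixes 4 A0 [vc, wc, xc] = true := by decide +kernel
theorem act0 : actOK 4 A0 P0 = true := by decide +kernel
/-- matrix of generator 1 -/
def A1 : List ℕ := [0x842108421084210842108421084211, 0x842108421084210842108421084610, 0x84210842108421084210842108c210, 0x842108421084210842108421184210, 0x842108421084210842108c21084210, 0x842108421084210842118421084210, 0x842108c21084210842108421084210, 0x842108421084210846108421084210, 0x842108421084610842108421084210, 0x842108421084210842108461084210, 0x842108421084211842108421084210, 0x842108423084210842108421084210, 0x842108421084210842108421084230, 0x84210842108c210842108421084210, 0x842108421084210842308421084210, 0x842108421184210842108421084210, 0x8421084210842108c2108421084210, 0x842308421084210842108421084210, 0x842108421084210842108423084210, 0x842108461084210842108421084210, 0x842118421084210842108421084210, 0x846108421084210842108421084210, 0x842108421084230842108421084210, 0x8c2108421084210842108421084210]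
/-- images of the lattice generators -/
def I1 : List ℕ := [0xa42108421084210842108421084214, 0xa42108421084210842108421085210, 0xa421084210842108421084210a4210, 0xa42108421084210842108421484210, 0xa4210842108421084210a421084210, 0xa42108421084210842148421084210, 0xa4210a421084210842108421084210, 0xa42108421084210852108421084210, 0xa42108421085210842108421084210, 0xa42108421084210842108521084210, 0xa42108421084214842108421084210, 0xa42108429084210842108421084210, 0xa42108421084210842108421084290, 0xa421084210a4210842108421084210, 0xa42108421084210842908421084210, 0xa42108421484210842108421084210, 0xa42108421084210a42108421084210, 0xa42908421084210842108421084210, 0xa42108421084210842108429084210, 0xa42108521084210842108421084210, 0xa42148421084210842108421084210, 0xa52108421084210842108421084210, 0xa42108421084290842108421084210, 0xc42108421084210842108421084210, 0x6c6318c6318c6318c6318c6318c631, 0x942508421084250942508425084252, 0x8421084a1294250942508421084a50, 0x942128421294250842108425094250, 0x84a5084a1094250842108425284250,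 0x9425284a1094210942109421084250, 0x94a528421094210842528425084210, 0x94a1094a1284250842508425084210, 0x8425284a128421084a508425084250, 0x84a1284a1294a10942108425084210, 0x84a5284a10842509425084a1084210, 0x94a128421284212942508421084250, 0x94a508425294250942108421084210]
theorem rep1 : checkRep 1 A1 I1 = true := by decide +kernel
theorem fix1 : fixes 1 A1 [vc, wc, xc] = true := by decide +kernel
theorem act1 : actOK 1 A1 P1 = true := by decide +kernel
/-- matrix of generator 2 -/
def A2 : List ℕ := [0x842108421084210842108421084211, 0x842108421084210842108421084230, 0x84210842108421084210842108c210, 0x842108421084210842108421184210, 0x842108421084210842108c21084210, 0x8421084210842108c2108421084210, 0x842108421084230842108421084210, 0x842108421084210846108421084210, 0x846108421084210842108421084210, 0x842108421084610842108421084210, 0x842108421084210842108421084610, 0x84210842108c210842108421084210, 0x842108421084211842108421084210, 0x842108421184210842108421084210, 0x842108c21084210842108421084210, 0x842108423084210842108421084210,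 0x842108461084210842108421084210, 0x842118421084210842108421084210, 0x842308421084210842108421084210, 0x842108421084210842118421084210, 0x842108421084210842108423084210, 0x842108421084210842108461084210, 0x842108421084210842308421084210, 0x8c2108421084210842108421084210]
/-- images of the lattice generators -/
def I2 : List ℕ := [0xa42108421084210842108421084214, 0xa42108421084210842108421084290, 0xa421084210842108421084210a4210, 0xa42108421084210842108421484210, 0xa4210842108421084210a421084210, 0xa42108421084210a42108421084210, 0xa42108421084290842108421084210, 0xa42108421084210852108421084210, 0xa52108421084210842108421084210, 0xa42108421085210842108421084210, 0xa42108421084210842108421085210, 0xa421084210a4210842108421084210, 0xa42108421084214842108421084210, 0xa42108421484210842108421084210, 0xa4210a421084210842108421084210, 0xa42108429084210842108421084210, 0xa42108521084210842108421084210, 0xa42148421084210842108421084210, 0xa42908421084210842108421084210, 0xa42108421084210842148421084210, 0xa42108421084210842108429084210,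 0xa42108421084210842108521084210, 0xa42108421084210842908421084210, 0xc42108421084210842108421084210, 0x6c6318c6318c6318c6318c6318c631, 0x9425294a1084212842508421084212, 0x8421094a5284212842528421084250, 0x942508425284212842508425094210, 0x8425284212842128425284a1284210, 0x9421284a1284212842129425084210, 0x9425294212842109421084a5084210, 0x9425094250842508425284a1084210, 0x84252942508421284a128425084210, 0x84a5084a52842108421284a5084210, 0x8421294a1084a108425284a5084210, 0x9421094a50842128421084a5084a10, 0x9421284a52942108425084a1084210]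
theorem rep2 : checkRep 1 A2 I2 = true := by decide +kernel
theorem fix2 : fixes 1 A2 [vc, wc, xc] = true := by decide +kernel
theorem act2 : actOK 1 A2 P2 = true := by decide +kernel
/-- matrix of generator 3 -/
def A3 : List ℕ := [0x842108421084210842108421084211, 0x842108421084210842108421084230, 0x842108421084210842108421084610, 0x842108421084210842108421184210, 0x842108421084210842108c21084210, 0x846108421084210842108421084210, 0x842108421084210842308421084210, 0x842108421084210846108421084210, 0x842108423084210842108421084210, 0x842108461084210842108421084210, 0x842108421084211842108421084210, 0x842108421084210842108423084210, 0x84210842108421084210842108c210, 0x842108421084210842108461084210, 0x842108421084230842108421084210, 0x8421084210842108c2108421084210, 0x842308421084210842108421084210, 0x842108421184210842108421084210, 0x842108421084610842108421084210, 0x84210842108c210842108421084210, 0x842108421084210842118421084210, 0x842118421084210842108421084210, 0x842108c21084210842108421084210, 0x8c2108421084210842108421084210]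
/-- images of the lattice generators -/
def I3 : List ℕ := [0xa42108421084210842108421084214, 0xa42108421084210842108421084290, 0xa42108421084210842108421085210, 0xa42108421084210842108421484210, 0xa4210842108421084210a421084210, 0xa52108421084210842108421084210, 0xa42108421084210842908421084210, 0xa42108421084210852108421084210, 0xa42108429084210842108421084210, 0xa42108521084210842108421084210, 0xa42108421084214842108421084210, 0xa42108421084210842108429084210, 0xa421084210842108421084210a4210, 0xa42108421084210842108521084210, 0xa42108421084290842108421084210, 0xa42108421084210a42108421084210, 0xa42908421084210842108421084210, 0xa42108421484210842108421084210, 0xa42108421085210842108421084210, 0xa421084210a4210842108421084210, 0xa42108421084210842148421084210, 0xa42148421084210842108421084210, 0xa4210a421084210842108421084210, 0xc42108421084210842108421084210, 0x6c6318c6318c6318c6318c6318c631, 0x942509421284a50842108421094212, 0x8425094210942509421084a1094250, 0x942109421084a109421284a1094a10, 0x842129421294a108421084a1294210,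 0x9425084212942108421294a1094210, 0x94a128421284a508421284a1084210, 0x942129421094a50942508421084210, 0x842108421294a5094a128421094210, 0x842528425094a109421284a1084210, 0x8425294a1294250842128421084210, 0x942528421084252942128421094210, 0x9425294212842109421084a5084210]
theorem rep3 : checkRep 1 A3 I3 = true := by decide +kernel
theorem fix3 : fixes 1 A3 [vc, wc, xc] = true := by decide +kernel
theorem act3 : actOK 1 A3 P3 = true := by decide +kernel
/-- matrix of generator 4 -/
def A4 : List ℕ := [0x842108421084210842108421084211, 0x842108421084210842108421084230, 0x842108421084210842108421084610, 0x84210842108421084210842108c210, 0x842108421084210842108c21084210, 0x842108423084210842108421084210, 0x842118421084210842108421084210, 0x842108421084210846108421084210, 0x8421084210842108c2108421084210, 0x842108421084230842108421084210, 0x842108421084210842108421184210, 0x842108461084210842108421084210, 0x842108421084211842108421084210, 0x842108c21084210842108421084210, 0x842108421084210842108423084210, 0x846108421084210842108421084210,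 0x842108421084210842108461084210, 0x842108421084610842108421084210, 0x842108421084210842118421084210, 0x842108421084210842308421084210, 0x842108421184210842108421084210, 0x84210842108c210842108421084210, 0x842308421084210842108421084210, 0x8c2108421084210842108421084210]
/-- images of the lattice generators -/
def I4 : List ℕ := [0xa42108421084210842108421084214, 0xa42108421084210842108421084290, 0xa42108421084210842108421085210, 0xa421084210842108421084210a4210, 0xa4210842108421084210a421084210, 0xa42108429084210842108421084210, 0xa42148421084210842108421084210, 0xa42108421084210852108421084210, 0xa42108421084210a42108421084210, 0xa42108421084290842108421084210, 0xa42108421084210842108421484210, 0xa42108521084210842108421084210, 0xa42108421084214842108421084210, 0xa4210a421084210842108421084210, 0xa42108421084210842108429084210, 0xa52108421084210842108421084210, 0xa42108421084210842108521084210, 0xa42108421085210842108421084210, 0xa42108421084210842148421084210, 0xa42108421084210842908421084210, 0xa42108421484210842108421084210,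 0xa421084210a4210842108421084210, 0xa42908421084210842108421084210, 0xc42108421084210842108421084210, 0x6c6318c6318c6318c6318c6318c631, 0x942508421084a128421284a5084212, 0x84a5094210842128425084a5084250, 0x94a509421284212842128421084a10, 0x842509421094a12842528421094210, 0x942109421284a128425094a1084210, 0x942109425294a10842128425084210, 0x94a528421094210842528425084210, 0x84a108421284a1284a528425084210, 0x84a1094212942109425284a1084210, 0x842508421294a508425084a5084210, 0x94a1084212942128421084a5284210, 0x94a5094a1094a108421084a1084210]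
theorem rep4 : checkRep 1 A4 I4 = true := by decide +kernel
theorem fix4 : fixes 1 A4 [vc, wc, xc] = true := by decide +kernel
theorem act4 : actOK 1 A4 P4 = true := by decide +kernel
/-- matrix of generator 5 -/
def A5 : List ℕ := [0x842108421084210842108421084211, 0x842108421084210842108421084230, 0x842108421084210842108421084610, 0x84210842108421084210842108c210, 0x842108421084210842108421184210, 0x842108421084610842108421084210, 0x84210842108c210842108421084210, 0x842108421084210846108421084210, 0x842308421084210842108421084210, 0x842108421084210842118421084210, 0x842108421084211842108421084210, 0x842108c21084210842108421084210, 0x842108421084210842108c21084210, 0x846108421084210842108421084210, 0x842108423084210842108421084210, 0x842108461084210842108421084210, 0x842108421084230842108421084210, 0x842108421084210842108423084210, 0x842108421084210842108461084210, 0x842118421084210842108421084210, 0x8421084210842108c2108421084210, 0x842108421084210842308421084210, 0x842108421184210842108421084210, 0x8c2108421084210842108421084210]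
/-- images of the lattice generators -/
def I5 : List ℕ := [0xa42108421084210842108421084214, 0xa42108421084210842108421084290, 0xa42108421084210842108421085210, 0xa421084210842108421084210a4210, 0xa42108421084210842108421484210, 0xa42108421085210842108421084210, 0xa421084210a4210842108421084210, 0xa42108421084210852108421084210, 0xa42908421084210842108421084210, 0xa42108421084210842148421084210, 0xa42108421084214842108421084210, 0xa4210a421084210842108421084210, 0xa4210842108421084210a421084210, 0xa52108421084210842108421084210, 0xa42108429084210842108421084210, 0xa42108521084210842108421084210, 0xa42108421084290842108421084210, 0xa42108421084210842108429084210, 0xa42108421084210842108521084210, 0xa42148421084210842108421084210, 0xa42108421084210a42108421084210, 0xa42108421084210842908421084210, 0xa42108421484210842108421084210, 0xc42108421084210842108421084210, 0x6c6318c6318c6318c6318c6318c631, 0x9421084252842508421094a5084212, 0x84a1284a5284250842109421084250, 0x94a1084a12842109421094a1084a10, 0x84a1284212842108425094a5094210,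 0x94a128421084250942109425284210, 0x94a108425084a109425084a5084210, 0x9421284a52942108425084a1084210, 0x8421284a508421094a1094a5084210, 0x84a5284a10842509425084a1084210, 0x842128425284250942528425084210, 0x9421084a5084252942509421084210, 0x94a1094a1284250842508425084210]
theorem rep5 : checkRep 1 A5 I5 = true := by decide +kernel
theorem fix5 : fixes 1 A5 [vc, wc, xc] = true := by decide +kernel
theorem act5 : actOK 1 A5 P5 = true := by decide +kernel

/-- 24 independent vectors -/
def uc : List ℕ := [0xac6318c6318c6318c6318c6318c631, 0x7bdef7bdef7bdef7bdef7bdef7bdeb, 0x84210842108421284a109421294a52, 0xa42108421084210842108421084214, 0x8c6318c6318c6318c6318c6318c5b1, 0x8c6318c6318c6318c6318c6318b631, 0x8c6318c6318c6318c6318c6316c631, 0x8c6318c6318c6318c6318c62d8c631, 0x8c6318c6318c6318c6316c6318c631, 0x8c6318c6318c6318b6318c6318c631, 0x942108421294252842528421084212, 0x942108421294a109421084a1084252, 0x942108425084a50942128421284212, 0x9421084252842508421094a5084212, 0x9421084a1084a508425084a1084a12, 0x9421084a508421084a528425084212,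 0x9421094210942108425084a5094212, 0x942109425284210942508421084a12, 0x9421094a1084a10942109425084212, 0x9421094a12842108421284a1284212, 0x9421094a5094250842108421084252, 0x9421284210842109425294a1084212, 0x942128421284a10842508425284212, 0x942508421084250942508425084252]

/-- certificate of independence -/
def cert : List (List ℤ) := [[-30, -30, 0, 30, 0, 0, 0, 0, 0, 0, 0, 0, 0, 0, 0, 0, 0, 0, 0, 0, 0, 0, 0, 0],
  [30, -30, 0, -30, -60, 0, 0, 0, 0, 0, 0, 0, 0, 0, 0, 0, 0, 0, 0, 0, 0, 0, 0, 0],
  [30, -30, 0, -30, 0, -60, 0, 0, 0, 0, 0, 0, 0, 0, 0, 0, 0, 0, 0, 0, 0, 0, 0, 0],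
  [30, -30, 0, -30, 0, 0, -60, 0, 0, 0, 0, 0, 0, 0, 0, 0, 0, 0, 0, 0, 0, 0, 0, 0],
  [30, -30, 0, -30, 0, 0, 0, -60, 0, 0, 0, 0, 0, 0, 0, 0, 0, 0, 0, 0, 0, 0, 0, 0],
  [18, -26, -16, -30, -24, -32, 0, -24, 36, 0, 16, -12, -12, 40, -24, 16, 16, -24, 48, -20, -20, 0, 0, 0],
  [-57, 74, 34, 45, 21, 23, 30, 21, 21, 15, -34, 18, 3, 20, 21, -4, 26, -9, -27, 20, -10, 15, -15, 0],
  [30, -30, 0, -30, 0, 0, 0, 0, -60, 0, 0, 0, 0, 0, 0, 0, 0, 0, 0, 0, 0, 0, 0, 0],
  [18, -26, -16, -30, -24, -32, 0, 36, -24, 0, 16, -12, 48, -20, -24, 16, 16, -24, -12, 40, -20, 0, 0, 0],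
  [18, -26, -16, -30, -24, 28, 0, -24, -24, 0, 16, -12, -12, -20, 36, 16, 16, 36, -12, -20, -20, 0, 0, 0],
  [30, -30, 0, -30, 0, 0, 0, 0, 0, -60, 0, 0, 0, 0, 0, 0, 0, 0, 0, 0, 0, 0, 0, 0],
  [33, -46, -26, -45, -9, -7, -30, -69, 51, -15, 26, 18, -27, 20, -9, -4, -34, 21, 63, -40, -10, 45, -45, 0],
  [-150, 210, 120, 150, 60, 60, 60, 60, 60, 60, 0, 0, 0, 0, 0, 0, 0, 0, 0, 0, 0, 0, 0, 0],
  [63, -86, -46, -75, -39, -17, -30, -39, 21, -45, 46, -42, 3, 40, 21, -44, -14, -9, 33, -20, 10, 15, -15, 0],
  [-57, 74, 34, 45, 21, 23, 30, 81, -39, 15, -34, 18, 63, -40, 21, -4, 26, -9, -27, 20, -10, -45, 45, 0],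
  [18, -26, -16, -30, 36, -32, 0, -24, -24, 0, 16, 48, -12, -20, -24, 16, 16, -24, -12, -20, 40, 0, 0, 0],
  [33, -46, -26, -45, -9, -7, -30, -9, -9, -15, 26, 18, -27, 20, -9, -4, -34, 21, 3, 20, -10, -15, 15, 0],
  [-87, 114, 54, 75, 51, 33, 30, 51, -9, 45, -54, 18, 33, 0, -9, 36, 6, 21, -57, 0, 30, -15, 15, 0],
  [3, -6, -6, -15, 21, 3, -30, -39, 21, 15, 6, 18, -57, 0, 21, 36, -54, -9, 33, 0, 30, 15, -15, 0],
  [-27, 34, 14, 15, -9, 13, 30, 51, -9, -15, -14, -42, 33, -20, -9, -44, 46, 21, 3, 40, 10, -15, 15, 0],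
  [-42, 54, 24, 30, 36, -12, 0, 36, 36, 0, -24, -12, -12, 0, -24, -24, -24, -24, -12, 0, 60, 60, 60, 0],
  [-162, 214, 104, 150, 156, 28, 60, 156, -84, 60, -104, 48, 48, -80, -24, 16, 16, -24, -132, 100, 40, -60, 60, 120],
  [318, -426, -216, -210, -204, -12, -60, -204, 36, -60, 96, -72, -72, 60, 36, -24, -24, 36, 108, -120, -120, 0, -120, -120],
  [30, 30, 0, 30, 0, 0, 0, 0, 0, 0, 0, 0, 0, 0, 0, 0, 0, 0, 0, 0, 0, 0, 0, 0]]

/-- check of the certificate -/
def certOK : Bool :=
  allTo (fun i => allTo (fun p =>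
    sumTo (fun k => (cert.getD i []).getD k 0 * sdig (uc.getD k 0) p) 24 == if p = i then 240 else 0) 24) 24

theorem certOK_true : certOK = true := by decide +kernel

end Cfsg.Agent.SporStruct.HSStabData
end

-- part: SporStruct/HSStabIso
section
/-!
The joint stabiliser of `v0`, `w0`, `x0` acts on the 50 vectors as the permutation group K50, once its
order is known to be at most 126000.
-/

set_option autoImplicit false

namespace Cfsg.Agent.SporStruct.HSStabIso

open Cfsg Cfsg.Agent.LeechMat.Code Cfsg.Agent.LeechMat.Core Cfsg.Agent.LeechMat.Elements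
open Cfsg.Agent.LeechMat.Orbit
open Cfsg.Agent.SporStruct.U35Table Cfsg.Agent.SporStruct.U35K50 Cfsg.Agent.SporStruct.HSStabData

theorem ys_spec {j : ℕ} (hj : j < 50) : isLeech (yc.getD j 0) = true ∧
    sqNorm (vec (yc.getD j 0)) = 32 ∧ yc.getD j 0 < 32 ^ 24 := by
  have h := allLt_spec _ _ ysOK_true j hj
  rw [Bool.and_eq_true, Bool.and_eq_true, beq_iff_eq, Nat.blt_eq, dotc_eq] at h
  exact ⟨h.1, by rw [sqNorm_eq_dotInt]; exact h.2.1, h.2.2⟩

/-- the 50 vectors -/
def Y (j : Fin 50) : leechLattice := ⟨vec (yc.getD j 0), isLeech_sound (ys_spec j.2).1⟩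

theorem coe_Y (j : Fin 50) : (Y j : GolayPt → ℤ) = vec (yc.getD j 0) := rfl

theorem Y_injective : Function.Injective Y := by
  intro i j h
  have h1 : vec (yc.getD i 0) = vec (yc.getD j 0) := congrArg Subtype.val h
  have h2 := vec_inj (ys_spec i.2).2.2 (ys_spec j.2).2.2 h1
  have hlen : yc.length = 50 := rfl
  rw [List.getD_eq_getElem _ _ (by rw [hlen]; exact i.2),
    List.getD_eq_getElem _ _ (by rw [hlen]; exact j.2)] at h2
  exact Fin.ext ((List.Nodup.getElem_inj_iff nodup_yc).1 h2)

theorem act_gen {d : ℕ} {A : List ℕ} {P Q : ℕ} (hP : chkPerm P Q = true) {g : Co0}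
    (hr : Rep d A g) (hact : actOK d A P = true) (j : Fin 50) :
    g • Y j = Y (mkPerm P Q hP j) := by
  have h := allLt_spec _ _ hact j j.2
  rw [beq_iff_eq] at h
  apply Subtype.ext
  exact hr.step (x := Y j) rfl (by rw [coe_Y, (ys_spec j.2).2.1]; norm_num)
    (ys_spec (mkPerm P Q hP j).2).2.2 h

/-- the standard triple -/
structure Std3 (v w x : leechLattice) : Prop where
  hv : (v : GolayPt → ℤ) = vec vc
  hw : (w : GolayPt → ℤ) = vec wc
  hx : (x : GolayPt → ℤ) = vec xc

theorem norm_vc : sqNorm (vec vc) ≤ 225 := by rw [sqNorm_eq_dotInt, ← dotc_eq]; decide +kernel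
theorem norm_wc : sqNorm (vec wc) ≤ 225 := by rw [sqNorm_eq_dotInt, ← dotc_eq]; decide +kernel
theorem norm_xc : sqNorm (vec xc) ≤ 225 := by rw [sqNorm_eq_dotInt, ← dotc_eq]; decide +kernel

section
variable {v w x : leechLattice} (h : Std3 v w x)
include h

/-- existence of the generators -/
theorem exists_gen {d : ℕ} {A I : List ℕ} {P Q : ℕ} (hP : chkPerm P Q = true)
    (hrep : checkRep d A I = true) (hfix : fixes d A [vc, wc, xc] = true)
    (hact : actOK d A P = true) :
    ∃ g ∈ (MulAction.stabilizer Co0 v ⊓ MulAction.stabilizer Co0 w ⊓ MulAction.stabilizer Co0 x :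
      Subgroup Co0), ∀ j, g • Y j = Y (mkPerm P Q hP j) := by
  obtain ⟨g, hg⟩ := exists_rep hrep
  refine ⟨g, ⟨⟨?_, ?_⟩, ?_⟩, act_gen hP hg hact⟩
  · exact fixes_sound hg hfix (c := vc) (by simp) h.hv (by rw [h.hv]; exact norm_vc)
  · exact fixes_sound hg hfix (c := wc) (by simp) h.hw (by rw [h.hw]; exact norm_wc)
  · exact fixes_sound hg hfix (c := xc) (by simp) h.hx (by rw [h.hx]; exact norm_xc)

end

/-- the group of compatible pairs -/
def D (v w x : leechLattice) : Subgroup (Co0 × Equiv.Perm (Fin 50)) where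
  carrier := {p | p.1 ∈ (MulAction.stabilizer Co0 v ⊓ MulAction.stabilizer Co0 w ⊓
    MulAction.stabilizer Co0 x : Subgroup Co0) ∧ ∀ j, p.1 • Y j = Y (p.2 j)}
  mul_mem' {p q} hp hq := by
    refine ⟨Subgroup.mul_mem _ hp.1 hq.1, fun j => ?_⟩
    change (p.1 * q.1) • Y j = Y ((p.2 * q.2) j)
    rw [mul_smul, hq.2, hp.2, Equiv.Perm.mul_apply]
  one_mem' := ⟨Subgroup.one_mem _, fun j => one_smul _ _⟩
  inv_mem' {p} hp := by
    refine ⟨Subgroup.inv_mem _ hp.1, fun j => ?_⟩
    change p.1⁻¹ • Y j = Y (p.2⁻¹ j)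
    rw [inv_smul_eq_iff, hp.2]
    congr 1
    exact (p.2.apply_symm_apply j).symm

/-- projection to the permutations -/
def pr2 (v w x : leechLattice) : D v w x →* Equiv.Perm (Fin 50) :=
  (MonoidHom.snd Co0 (Equiv.Perm (Fin 50))).comp (D v w x).subtype

/-- projection to the stabiliser -/
def pr1 (v w x : leechLattice) : D v w x →*
    (MulAction.stabilizer Co0 v ⊓ MulAction.stabilizer Co0 w ⊓ MulAction.stabilizer Co0 x :
      Subgroup Co0) where
  toFun p := ⟨p.1.1, p.2.1⟩
  map_one' := rfl
  map_mul' _ _ := rfl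

theorem pr1_injective (v w x : leechLattice) : Function.Injective (pr1 v w x) := by
  rintro ⟨⟨g, π⟩, hg⟩ ⟨⟨g', π'⟩, hg'⟩ h
  have h1 : g = g' := congrArg Subtype.val h
  subst h1
  have h2 : π = π' := by
    ext j
    have a := hg.2 j
    have b := hg'.2 j
    change g • Y j = Y (π j) at a
    change g • Y j = Y (π' j) at b
    rw [a] at b
    exact congrArg Fin.val (Y_injective b)
  subst h2
  rfl

/-- a vector orthogonal to the 24 vectors is zero -/
theorem eq_zero_of_orth (z : GolayPt → ℤ) (hz : ∀ k < 24, dotInt z (vec (uc.getD k 0)) = 0) :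
    z = 0 := by
  funext i
  have hc := certOK_true
  unfold certOK at hc
  rw [allTo_iff] at hc
  have hc1 := hc (pos i) (pos_lt i)
  rw [allTo_iff] at hc1
  have key : ∀ p : GolayPt, ∑ k ∈ Finset.range 24,
      (cert.getD (pos i) []).getD k 0 * vec (uc.getD k 0) p = if p = i then 240 else 0 := by
    intro p
    have h1 := hc1 (pos p) (pos_lt p)
    rw [beq_iff_eq, sumTo_eq] at h1
    have h2 : (pos p = pos i) ↔ (p = i) := ⟨pos_inj, fun h => by rw [h]⟩
    simp only [h2] at h1
    rw [← h1]
    rfl
  have h3 : ∑ p : GolayPt, z p * (∑ k ∈ Finset.range 24,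
      (cert.getD (pos i) []).getD k 0 * vec (uc.getD k 0) p) = 0 := by
    simp only [Finset.mul_sum]
    rw [Finset.sum_comm]
    apply Finset.sum_eq_zero
    intro k hk
    have h4 := hz k (Finset.mem_range.1 hk)
    unfold dotInt at h4
    have h5 : ∀ p, z p * ((cert.getD (pos i) []).getD k 0 * vec (uc.getD k 0) p) =
        (cert.getD (pos i) []).getD k 0 * (z p * vec (uc.getD k 0) p) := fun p => by ring
    simp only [h5]
    rw [← Finset.mul_sum, h4, mul_zero]
  simp only [key, mul_ite, mul_zero, Finset.sum_ite_eq', Finset.mem_univ, if_true] at h3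
  simp only [Pi.zero_apply]
  omega

/-- every vector of the certificate is one of the fixed vectors -/
theorem uc_cases : ∀ k < 24, uc.getD k 0 = vc ∨ uc.getD k 0 = wc ∨ uc.getD k 0 = xc ∨
    ∃ j : Fin 50, uc.getD k 0 = yc.getD j 0 := by
  decide +kernel

theorem pr2_injective {v w x : leechLattice} (h : Std3 v w x) :
    Function.Injective (pr2 v w x) := by
  rw [injective_iff_map_eq_one]
  rintro ⟨⟨g, π⟩, hg⟩ hπ
  change π = 1 at hπ
  subst hπ
  have hgv : g • v = v := hg.1.1.1
  have hgw : g • w = w := hg.1.1.2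
  have hgx : g • x = x := hg.1.2
  have hgY : ∀ j, g • Y j = Y j := hg.2
  have hfix : ∀ k < 24, ∃ u : leechLattice, (u : GolayPt → ℤ) = vec (uc.getD k 0) ∧ g • u = u := by
    intro k hk
    rcases uc_cases k hk with h1 | h1 | h1 | ⟨j, h1⟩
    · exact ⟨v, by rw [h1]; exact h.hv, hgv⟩
    · exact ⟨w, by rw [h1]; exact h.hw, hgw⟩
    · exact ⟨x, by rw [h1]; exact h.hx, hgx⟩
    · exact ⟨Y j, by rw [h1]; rfl, hgY j⟩
  have hg1 : g = 1 := by
    apply Subtype.ext
    apply Equiv.ext
    intro l
    apply Subtype.ext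
    have : ((g • l : leechLattice) : GolayPt → ℤ) - (l : GolayPt → ℤ) = 0 := by
      apply eq_zero_of_orth
      intro k hk
      obtain ⟨u, hu, hgu⟩ := hfix k hk
      rw [← hu, dotInt_sub_left]
      have := co0_dotInt g l u
      rw [hgu] at this
      rw [this, sub_self]
    exact sub_eq_zero.1 this
  subst hg1
  rfl

theorem K50_le_range {v w x : leechLattice} (h : Std3 v w x) : K50 ≤ (pr2 v w x).range := by
  unfold K50
  rw [Subgroup.closure_le]
  have key : ∀ {d : ℕ} {A I : List ℕ} {P Q : ℕ} (hP : chkPerm P Q = true),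
      checkRep d A I = true → fixes d A [vc, wc, xc] = true → actOK d A P = true →
      mkPerm P Q hP ∈ (pr2 v w x).range := by
    intro d A I P Q hP h1 h2 h3
    obtain ⟨g, hg, hgY⟩ := exists_gen h hP h1 h2 h3
    exact ⟨⟨(g, mkPerm P Q hP), hg, hgY⟩, rfl⟩
  intro g hg
  simp only [Set.mem_insert_iff, Set.mem_singleton_iff] at hg
  rcases hg with rfl | rfl | rfl | rfl | rfl | rfl
  · exact key cP0 rep0 fix0 act0
  · exact key cP1 rep1 fix1 act1
  · exact key cP2 rep2 fix2 act2
  · exact key cP3 rep3 fix3 act3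
  · exact key cP4 rep4 fix4 act4
  · exact key cP5 rep5 fix5 act5

/-- The stabiliser of the standard triple is isomorphic to K50 if its order is at most 126000. -/
theorem stab_equiv {v w x : leechLattice} (h : Std3 v w x)
    [Finite (MulAction.stabilizer Co0 v ⊓ MulAction.stabilizer Co0 w ⊓ MulAction.stabilizer Co0 x :
      Subgroup Co0)]
    (hcard : Nat.card (MulAction.stabilizer Co0 v ⊓ MulAction.stabilizer Co0 w ⊓
      MulAction.stabilizer Co0 x : Subgroup Co0) ≤ 126000) :
    Nonempty ((MulAction.stabilizer Co0 v ⊓ MulAction.stabilizer Co0 w ⊓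
      MulAction.stabilizer Co0 x : Subgroup Co0) ≃* K50) := by
  have f1 : Finite (D v w x) := Finite.of_injective _ (pr1_injective v w x)
  have a1 : Nat.card (D v w x) ≤ Nat.card (MulAction.stabilizer Co0 v ⊓
      MulAction.stabilizer Co0 w ⊓ MulAction.stabilizer Co0 x : Subgroup Co0) :=
    Nat.card_le_card_of_injective _ (pr1_injective v w x)
  have e1 : D v w x ≃* (pr2 v w x).range := MonoidHom.ofInjective (pr2_injective h)
  have a2 : Nat.card (D v w x) = Nat.card (pr2 v w x).range := Nat.card_congr e1.toEquiv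
  have a3 : Nat.card K50 ≤ Nat.card (pr2 v w x).range :=
    Nat.card_le_card_of_injective _ (Subgroup.inclusion_injective (K50_le_range h))
  have a4 := card_K50_ge
  have b1 : Function.Bijective (pr1 v w x) :=
    (Nat.bijective_iff_injective_and_card _).mpr ⟨pr1_injective v w x, by omega⟩
  have b2 : K50 = (pr2 v w x).range := Subgroup.eq_of_le_of_card_ge (K50_le_range h) (by omega)
  exact ⟨((MulEquiv.ofBijective (pr1 v w x) b1).symm.trans e1).trans
    (MulEquiv.subgroupCongr b2.symm)⟩

end Cfsg.Agent.SporStruct.HSStabIso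
end

-- part: S1633
section
set_option autoImplicit false
open Cfsg

namespace Cfsg.Agent.S1633

open Cfsg.Agent.SporStruct.HS352 Cfsg.Agent.SporStruct.HSStabIso Cfsg.Agent.SporStruct.HSStabData
open Cfsg.Agent.Leech.HSConfig Cfsg.Agent.Leech.HSList Cfsg.Agent.Leech.FrameTriplesOf
open Cfsg.Agent.SporadicA

/-- the octad of the standard triple -/
def o0 : Finset GolayPt := GolayBase.fin oMask

theorem o0_mem : o0 ∈ octs := by
  refine ⟨(GolayBase.fin_mem_octads_iff (by decide)).2 (by decide +kernel), ?_, ?_⟩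
  · decide +kernel
  · decide +kernel

theorem vc_eq : Cfsg.Agent.LeechMat.Elements.vec vc = vec3 5 1 1 := by
  funext p; revert p; decide +kernel
theorem wc_eq : Cfsg.Agent.LeechMat.Elements.vec wc = vec3 (-1) (-5) (-1) := by
  funext p; revert p; decide +kernel
theorem xc_eq : Cfsg.Agent.LeechMat.Elements.vec xc = vC o0 := by
  funext p; revert p; decide +kernel

theorem trans_all (v w : leechLattice) (hv : sqNorm (v : GolayPt → ℤ) = 48)
    (hw : sqNorm (w : GolayPt → ℤ) = 48)
    (hvw : dotInt (v : GolayPt → ℤ) (w : GolayPt → ℤ) = -32) :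
    ∀ x ∈ Z v w, ∀ x' ∈ Z v w, ∃ g : Co0, g • v = v ∧ g • w = w ∧ g • x = x' := by
  obtain ⟨g, hS⟩ := trans_Z Cfsg.Agent.Leech.FrameTriples.trans64 Cfsg.Agent.S0401.result v w hv hw hvw
  intro x hx x' hx'
  obtain ⟨k, k1, k2, k3⟩ := trans_aux Cfsg.Agent.Leech.FrameTriples.trans64 hS o0_mem (g • x)
    ((smul_mem_Z g).2 hx)
  obtain ⟨l, l1, l2, l3⟩ := trans_aux Cfsg.Agent.Leech.FrameTriples.trans64 hS o0_mem (g • x')
    ((smul_mem_Z g).2 hx')
  refine ⟨g⁻¹ * (l * (k⁻¹ * g)), ?_, ?_, ?_⟩
  · rw [mul_smul, mul_smul, mul_smul, inv_smul_eq_iff.2 k1.symm, l1, inv_smul_smul]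
  · rw [mul_smul, mul_smul, mul_smul, inv_smul_eq_iff.2 k2.symm, l2, inv_smul_smul]
  · rw [mul_smul, mul_smul, mul_smul, ← k3, inv_smul_smul, l3, inv_smul_smul]

theorem ncard_all (v w : leechLattice) (hv : sqNorm (v : GolayPt → ℤ) = 48)
    (hw : sqNorm (w : GolayPt → ℤ) = 48)
    (hvw : dotInt (v : GolayPt → ℤ) (w : GolayPt → ℤ) = -32) : (Z v w).ncard = 352 := by
  obtain ⟨g, hS⟩ := trans_Z Cfsg.Agent.Leech.FrameTriples.trans64 Cfsg.Agent.S0401.result v w hv hw hvw
  rw [← ncard_Z_smul g]
  exact ncard_Z_std hS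

theorem stab_card (v w x : leechLattice) (hv : sqNorm (v : GolayPt → ℤ) = 48)
    (hw : sqNorm (w : GolayPt → ℤ) = 48)
    (hvw : dotInt (v : GolayPt → ℤ) (w : GolayPt → ℤ) = -32) (hx : x ∈ Z v w) :
    Finite (MulAction.stabilizer Co0 v ⊓ MulAction.stabilizer Co0 w ⊓ MulAction.stabilizer Co0 x :
      Subgroup Co0) ∧
    Nat.card (MulAction.stabilizer Co0 v ⊓ MulAction.stabilizer Co0 w ⊓
      MulAction.stabilizer Co0 x : Subgroup Co0) ≤ 126000 := by
  have hH : Nat.card (MulAction.stabilizer Co0 v ⊓ MulAction.stabilizer Co0 w : Subgroup Co0)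
    = 44352000 := (Cfsg.Agent.S0405.result v w hv hw hvw).2
  set H : Subgroup Co0 := MulAction.stabilizer Co0 v ⊓ MulAction.stabilizer Co0 w with hHdef
  have hfin : Finite H := Nat.finite_of_card_ne_zero (by rw [hH]; norm_num)
  have horb : MulAction.orbit H x = Z v w := by
    ext y
    constructor
    · rintro ⟨⟨g, hg⟩, rfl⟩
      have := (smul_mem_Z g).2 hx
      rw [show g • v = v from hg.1, show g • w = w from hg.2] at this
      exact this
    · intro hy
      obtain ⟨g, g1, g2, g3⟩ := trans_all v w hv hw hvw x hx y hy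
      exact ⟨⟨g, g1, g2⟩, g3⟩
  have h2 : Nat.card (MulAction.orbit H x) = 352 := by
    rw [horb]; exact ncard_all v w hv hw hvw
  let f : (H ⊓ MulAction.stabilizer Co0 x : Subgroup Co0) → MulAction.stabilizer H x :=
    fun g => ⟨⟨g.1, g.2.1⟩, g.2.2⟩
  have hf : Function.Injective f := by
    intro a b hab
    have := congrArg (fun t : MulAction.stabilizer H x => (t.1.1 : Co0)) hab
    exact Subtype.ext this
  have hfin2 : Finite (H ⊓ MulAction.stabilizer Co0 x : Subgroup Co0) := Finite.of_injective f hf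
  refine ⟨hfin2, ?_⟩
  have h3 := Nat.card_le_card_of_injective f hf
  have h4 : Nat.card (MulAction.orbit H x) * Nat.card (MulAction.stabilizer H x) = Nat.card H := by
    classical
    have : Finite (MulAction.orbit H x) := Nat.finite_of_card_ne_zero (by rw [h2]; norm_num)
    have : Fintype H := Fintype.ofFinite _
    have : Fintype (MulAction.orbit H x) := Fintype.ofFinite _
    have : Fintype (MulAction.stabilizer H x) := Fintype.ofFinite _
    rw [Nat.card_eq_fintype_card, Nat.card_eq_fintype_card, Nat.card_eq_fintype_card]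
    exact MulAction.card_orbit_mul_card_stabilizer_eq_card_group H x
  rw [h2, hH] at h4
  omega

theorem iso_all (v w x : leechLattice) (hv : sqNorm (v : GolayPt → ℤ) = 48)
    (hw : sqNorm (w : GolayPt → ℤ) = 48)
    (hvw : dotInt (v : GolayPt → ℤ) (w : GolayPt → ℤ) = -32) (hx : x ∈ Z v w)
    (F : Type) [Field F] [Fintype F] (hF : Fintype.card F = 25) :
    Nonempty ((MulAction.stabilizer Co0 v ⊓ MulAction.stabilizer Co0 w ⊓
      MulAction.stabilizer Co0 x : Subgroup Co0) ≃* Cfsg.PSU 3 F 5) := by
  obtain ⟨g, hS⟩ := trans_Z Cfsg.Agent.Leech.FrameTriples.trans64 Cfsg.Agent.S0401.result v w hv hw hvw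
  obtain ⟨k, k1, k2, k3⟩ := trans_aux Cfsg.Agent.Leech.FrameTriples.trans64 hS o0_mem (g • x)
    ((smul_mem_Z g).2 hx)
  have e1 : (k⁻¹ * g) • v = g • v := by rw [mul_smul, inv_smul_eq_iff.2 k1.symm]
  have e2 : (k⁻¹ * g) • w = g • w := by rw [mul_smul, inv_smul_eq_iff.2 k2.symm]
  have e3 : (k⁻¹ * g) • x = lC o0 := by rw [mul_smul, ← k3, inv_smul_smul]
  obtain ⟨E1⟩ := Cfsg.Agent.Leech.FrameStab.nonempty_equiv_stab (k⁻¹ * g) v w x
  rw [e1, e2, e3] at E1
  have h3 : Std3 (g • v) (g • w) (lC o0) :=
    ⟨by rw [vc_eq]; exact hS.hv, by rw [wc_eq]; exact hS.hw, by rw [xc_eq]; exact coe_lC o0_mem.1⟩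
  have hv' : sqNorm ((g • v : leechLattice) : GolayPt → ℤ) = 48 := by
    rw [Cfsg.Agent.Leech.FrameAux.co0_sqNorm, hv]
  obtain ⟨hfin, hcard⟩ := stab_card (g • v) (g • w) (lC o0) hv' (std_w hS) (std_vw hS) (lC_mem hS o0_mem)
  obtain ⟨E2⟩ := stab_equiv h3 hcard
  obtain ⟨E3⟩ := Cfsg.Agent.SporStruct.U35Iso.psu35_iso F hF
  exact ⟨(E1.trans E2).trans E3.symm⟩

/-- The Higman–Sims group acts transitively on 352 vectors, a set closed under x ↦ −w − x, with vector stabiliser isomorphic to PSU(3, 5). -/
theorem result (v w : ↥Cfsg.leechLattice) (hv : Cfsg.sqNorm (v : Cfsg.GolayPt → ℤ) = 48) (hw : Cfsg.sqNorm (w : Cfsg.GolayPt → ℤ) = 48) (hvw : Cfsg.dotInt (v : Cfsg.GolayPt → ℤ) (w : Cfsg.GolayPt → ℤ) = -32) (F : Type) [Field F] [Fintype F] (hF : Fintype.card F = 25) : {x : ↥Cfsg.leechLattice | Cfsg.sqNorm (x : Cfsg.GolayPt → ℤ) = 32 ∧ Cfsg.dotInt (v : Cfsg.GolayPt → ℤ) (x : Cfsg.GolayPt → ℤ) = 16 ∧ Cfsg.dotInt (w : Cfsg.GolayPt → ℤ) (x : Cfsg.GolayPt → ℤ) = -24}.ncard = 352 ∧ (∀ x ∈ {x : ↥Cfsg.leechLattice | Cfsg.sqNorm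 (x : Cfsg.GolayPt → ℤ) = 32 ∧ Cfsg.dotInt (v : Cfsg.GolayPt → ℤ) (x : Cfsg.GolayPt → ℤ) = 16 ∧ Cfsg.dotInt (w : Cfsg.GolayPt → ℤ) (x : Cfsg.GolayPt → ℤ) = -24}, -w - x ∈ {x : ↥Cfsg.leechLattice | Cfsg.sqNorm (x : Cfsg.GolayPt → ℤ) = 32 ∧ Cfsg.dotInt (v : Cfsg.GolayPt → ℤ) (x : Cfsg.GolayPt → ℤ) = 16 ∧ Cfsg.dotInt (w : Cfsg.GolayPt → ℤ) (x : Cfsg.GolayPt → ℤ) = -24}) ∧ (∀ x ∈ {x : ↥Cfsg.leechLattice | Cfsg.sqNorm (x : Cfsg.GolayPt → ℤ) = 32 ∧ Cfsg.dotInt (v : Cfsg.GolayPt → ℤ) (x : Cfsg.GolayPt → ℤ) = 16 ∧ Cfsg.dotInt (w : Cfsg.GolayPt → ℤ) (x : Cfsg.GolayPt → ℤ) = -24}, ∀ x' ∈ {x : ↥Cfsg.leechLattice | Cfsg.sqNorm (x : Cfsg.GolayPt → ℤ) = 32 ∧ Cfsg.dotInt (v : Cfsg.GolayPt → ℤ) (x : Cfsg.GolayPt → ℤ) = 16 ∧ Cfsg.dotInt (w : Cfsg.GolayPt → ℤ) (x : Cfsg.GolayPt → ℤ) = -24}, ∃ g : ↥Cfsg.Co0, g • v = v ∧ g • w = w ∧ g • x = x') ∧ ∀ x ∈ {x : ↥Cfsg.leechLattice | Cfsg.sqNorm (x : Cfsg.GolayPt → ℤ) = 32 ∧ Cfsg.dotInt (v : Cfsg.GolayPt → ℤ) (x : Cfsg.GolayPt → ℤ) = 16 ∧ Cfsg.dotInt (w : Cfsg.GolayPt → ℤ) (x : Cfsg.GolayPt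 → ℤ) = -24}, Nonempty (↥(MulAction.stabilizer ↥Cfsg.Co0 v ⊓ MulAction.stabilizer ↥Cfsg.Co0 w ⊓ MulAction.stabilizer ↥Cfsg.Co0 x) ≃* Cfsg.PSU 3 F 5) :=
  ⟨ncard_all v w hv hw hvw, fun _ hx => flip_mem hw hvw hx, trans_all v w hv hw hvw,
    fun x hx => iso_all v w x hv hw hvw hx F hF⟩

end Cfsg.Agent.S1633
end
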