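import Mathlib
import Cfsg.Agent.H285.Ccp.PureG_m3
import Cfsg.Agent.H520.ReeT
import Cfsg.Agent.H71.FldAut
import Cfsg.Agent.H967.CopD4_m3
import Cfsg.Agent.S1156
import Cfsg.Agent.S1069
import Cfsg.Agent.Lib.FieldAutCard
import Cfsg.Agent.H139.Bruhat
import Cfsg.Agent.ClassicalGeometry.AutPSL.Main
import Cfsg.Agent.H507.GmnTwF
import Cfsg.Agent.H496.Ccp.TwFOut
import Cfsg.Agent.H566.BNPerm_m3
import Cfsg.Agent.H270.StrP.TwFFF
import Cfsg.Agent.KFacts.TwF4.CentQ
import Cfsg.Agent.H520.SzT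
import Cfsg.Agent.H410.RealTw
import Cfsg.Agent.Lib.MatLit
import Cfsg.Agent.H460.FamB
import Cfsg.Agent.H583.NoSwapG2Row_mg_m3
import Cfsg.Agent.H456.PspGraph_m3
import Cfsg.Agent.H763.Ccp.Alt_m3
import Cfsg.Agent.S0256
import Cfsg.Agent.H497.Stein.Eng
import Cfsg.Agent.H478.RadTools_m3
import Cfsg.Agent.H763.Ccp.B_m3
import Cfsg.Agent.H979.Ccp.MFiveC_m3
import Cfsg.Agent.H544.Ccp.MEleven
import Cfsg.Agent.H109.NrM
import Cfsg.Agent.CpAutBFive.Final
import Cfsg.Agent.H497.Stein.HSMc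
import Cfsg.Agent.H497.Stein.Jan
import Cfsg.Agent.H497.Stein.Th_mg_m3
import Cfsg.Agent.H859.Ccp.Ru
import Cfsg.Statements.S4114
import Cfsg.Agent.S0000
import Cfsg.Agent.S1938
import Cfsg.Agent.FastGrp
import Cfsg.Agent.Prune
set_option linter.all false

section
prune_inst 0x7fb8bcf9c9b82fffdfff7e7faed9dffc19905fffafdff94bffe0e1ff0f9f030809c5fb850de010ff0ed6621410b87853fbfffabfe26ffc7ffffdfff45ffbee0fe5f7bd08119280240f342fff63f07f8e7f3fffffffffffffffffffffffffffbeffffffffffff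

-- part: H569/Ccp/Ree
section
prune_inst 0x24306044090002000000050240003c66ca000500002b0000d1200b0406867b4000028f20eca00902000a020400300040004400d00000000000000000011d01a0800a500402000004240009801004000000000000000000000000000000041000000000000
set_option linter.all false
open scoped Cfsg.Agent.FastGrp

/-!
# S4114: the row of the small Ree groups (helper569)

* `invol_false` : `α` fixes no involution;
* `row_ree`.
-/

set_option autoImplicit false
set_option linter.unusedSectionVars false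

namespace Cfsg.Agent.H569.Ccp

open Cfsg Subgroup Cfsg.Agent.H566 Cfsg.Agent.H520 Cfsg.Agent.Walter Cfsg.Agent.Walter.Types
  Cfsg.Agent.CpAutRee.Ree Cfsg.Lie

universe u

/-- A solvable normal subgroup of `2 × L`, `L` nonabelian simple. -/
theorem mem_of_solv_normal {M L : Type*} [Group M] [Group L] [IsSimpleGroup L] (hL : ∃ a b : L, a * b ≠ b * a)
    (e : M ≃* Multiplicative (ZMod 2) × L) {N : Subgroup M} (hN : N.Normal) (hs : Group.IsSolvable ↥N) {x : M}
    (hx : x ∈ N) : (e x).2 = 1 := by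
  let f : M →* L := (MonoidHom.snd _ _).comp e.toMonoidHom
  have hf : Function.Surjective f := by
    intro l
    refine ⟨e.symm (1, l), ?_⟩
    show (e (e.symm (1, l))).2 = l
    rw [e.apply_symm_apply]
  have h1 : (N.map f).Normal := hN.map f hf
  have h2 : Group.IsSolvable ↥(N.map f) :=
    Group.isSolvable_of_surjective (f := f.subgroupMap N) (f.subgroupMap_surjective N)
  rcases h1.eq_bot_or_eq_top with h3 | h3
  · have h4 : f x ∈ N.map f := ⟨x, hx, rfl⟩
    rw [h3, mem_bot] at h4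
    exact h4
  · exfalso
    rw [h3] at h2
    have h5 : Group.IsSolvable L :=
      Group.isSolvable_of_surjective (f := (⊤ : Subgroup L).subtype) (fun l => ⟨⟨l, mem_top l⟩, rfl⟩)
    obtain ⟨a, b, hab⟩ := hL
    exact hab ((IsSimpleGroup.comm_iff_isSolvable.2 h5) a b)

theorem two_el : ∀ z : Multiplicative (ZMod 2), z = 1 ∨ z = Multiplicative.ofAdd 1 := by decide

section

variable {K : Type} [Field K] [Fintype K] {m : ℕ}

/-- **`α` fixes no involution.** -/
theorem invol_false (hm : 1 ≤ m) (hK : Fintype.card K = 3 ^ (2 * m + 1))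
    {α : MulAut ↥(Cfsg.Lie.twistedG2 K (3 ^ m))} (h : Cfg α) {s : ↥(Cfsg.Lie.twistedG2 K (3 ^ m))}
    (hso : orderOf s = 2) (hsα : α s = s) : False := by
  classical
  have h2 : Fact (Nat.Prime 2) := ⟨Nat.prime_two⟩
  obtain ⟨hsimp, hc⟩ := Cfsg.Agent.S1073.result hm hK
  have hna : ∃ a b : ↥(Cfsg.Lie.twistedG2 K (3 ^ m)), a * b ≠ b * a := by
    by_contra hcon
    push Not at hcon
    exact hc ⟨⟨hcon⟩⟩
  obtain ⟨a, haH, ha1, ha2⟩ := Cfsg.Agent.S1157.exists_involution hK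
  obtain ⟨⟨e⟩, hS⟩ := Cfsg.Agent.S1152.result hK a haH ha1 ha2
  have hao : orderOf a = 2 := orderOf_eq_prime (by rw [sq, ha2]) ha1
  have hq8 := pow_mod_eight m
  have hq27 : 27 ≤ 3 ^ (2 * m + 1) := by
    calc 27 = 3 ^ 3 := by norm_num
      _ ≤ 3 ^ (2 * m + 1) := Nat.pow_le_pow_right (by norm_num) (by omega)
  have hJ : IsJR ↥(Cfsg.Lie.twistedG2 K (3 ^ m)) := by
    refine ⟨⟨default, hS default⟩, K, inferInstance, inferInstance, Or.inl (by rw [hK, hq8]), by rw [hK]; omega, ?_⟩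
    intro t ht
    obtain ⟨g, rfl⟩ := exists_conj hna hS hao ht
    obtain ⟨f⟩ := cent_conj a g
    exact ⟨f.symm.trans e⟩
  have hB : AutFacts.Bender ↥(Cfsg.Lie.twistedG2 K (3 ^ m)) := fun M hM => Cfsg.Agent.S0222.result hna M hM
  have hs1 : s ≠ 1 := by
    rintro rfl
    rw [orderOf_one] at hso
    omega
  -- a Sylow `2`-subgroup containing `s`
  obtain ⟨P, hsP⟩ : ∃ P : Sylow 2 ↥(Cfsg.Lie.twistedG2 K (3 ^ m)), s ∈ (P : Subgroup _) := by
    have h3 : IsPGroup 2 ↥(zpowers s) := IsPGroup.of_card (n := 1) (by rw [Nat.card_zpowers, hso, pow_one])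
    obtain ⟨Q, hQ⟩ := h3.exists_le_sylow
    exact ⟨Q, hQ (mem_zpowers s)⟩
  obtain ⟨f1, f2, f3⟩ := PSLFacts.IsJR.facts hJ P
  obtain ⟨g, hg⟩ := exists_conj hna hS hao hso
  obtain ⟨f⟩ := cent_conj a g
  rw [hg] at f
  have hPs : IsSimpleGroup (Matrix.ProjectiveSpecialLinearGroup (Fin 2) K) :=
    TwoFusion.SLTwoFacts.isSimpleGroup_psl (by rw [hK]; omega)
  have hLna : ∃ a b : Matrix.ProjectiveSpecialLinearGroup (Fin 2) K, a * b ≠ b * a := by
    by_contra hcon
    push Not at hcon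
    exact GTwoRows.not_comm_psl (F := K) (by rw [hK]; omega) ⟨⟨hcon⟩⟩
  let E := f.symm.trans e
  set M := centralizer ({s} : Set ↥(Cfsg.Lie.twistedG2 K (3 ^ m))) with hMdef
  have hne : M ≠ ⊤ := by
    intro h3
    have h4 : s ∈ center ↥(Cfsg.Lie.twistedG2 K (3 ^ m)) := by
      rw [mem_center_iff]
      intro x
      exact mem_centralizer_singleton_iff.1 (by rw [← hMdef, h3]; trivial)
    rw [h.center_bot, mem_bot] at h4
    exact hs1 h4
  have hMα : ∀ x ∈ M, α x ∈ M := by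
    intro x hx
    rw [hMdef, mem_centralizer_singleton_iff] at hx ⊢
    have h3 := congrArg α hx
    rw [map_mul, map_mul, hsα] at h3
    exact h3
  have hsM : s ∈ M := by
    rw [hMdef, mem_centralizer_singleton_iff]
  -- `[M, α] ≤ ⟨s⟩`
  have hkey : ∀ x ∈ M, x⁻¹ * α x = 1 ∨ x⁻¹ * α x = s := by
    intro x hx
    have h3 : Group.IsSolvable ↥(cG (resA α M hMα)) := by
      rw [← solvable_cM_iff α M hMα]
      exact h.min M hne hMα
    have h4 := mem_of_solv_normal hLna E (cG_normal (resA α M hMα)) h3 (mem_cG (resA α M hMα) ⟨x, hx⟩)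
    -- the image of `s`
    have h5 : (E ⟨s, hsM⟩).2 = 1 := by
      have h6 : (zpowers (⟨s, hsM⟩ : ↥M)).Normal := by
        constructor
        rintro _ ⟨i, rfl⟩ y
        refine ⟨i, ?_⟩
        have h7 : Commute y (⟨s, hsM⟩ : ↥M) := by
          apply Subtype.ext
          exact mem_centralizer_singleton_iff.1 y.2
        show (⟨s, hsM⟩ : ↥M) ^ i = y * (⟨s, hsM⟩ : ↥M) ^ i * y⁻¹
        rw [(h7.zpow_right i).eq]
        group
      have h7 : Group.IsSolvable ↥(zpowers (⟨s, hsM⟩ : ↥M)) :=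
        Group.isSolvable_of_comm fun a b => by
          obtain ⟨_, i, rfl⟩ := a
          obtain ⟨_, j, rfl⟩ := b
          apply Subtype.ext
          exact ((Commute.refl (⟨s, hsM⟩ : ↥M)).zpow_zpow i j).eq
      exact mem_of_solv_normal hLna E h6 h7 (mem_zpowers _)
    have h6 : ∀ z : Multiplicative (ZMod 2), z = 1 ∨ z = Multiplicative.ofAdd 1 := two_el
    have h7 : (E ⟨s, hsM⟩).1 = Multiplicative.ofAdd 1 := by
      rcases h6 (E ⟨s, hsM⟩).1 with h7 | h7
      · exfalso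
        apply hs1
        have h8 : E ⟨s, hsM⟩ = 1 := Prod.ext h7 h5
        have h9 : (⟨s, hsM⟩ : ↥M) = 1 := E.injective (by rw [h8, map_one])
        exact congrArg Subtype.val h9
      · exact h7
    set w : ↥M := (⟨x, hx⟩ : ↥M)⁻¹ * resA α M hMα ⟨x, hx⟩ with hw
    have hwv : (w : ↥(Cfsg.Lie.twistedG2 K (3 ^ m))) = x⁻¹ * α x := rfl
    rcases h6 (E w).1 with h8 | h8
    · left
      have h9 : E w = 1 := Prod.ext h8 h4
      have h10 : w = 1 := E.injective (by rw [h9, map_one])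
      rw [← hwv, h10]
      rfl
    · right
      have h9 : E w = E ⟨s, hsM⟩ := Prod.ext (by rw [h8, h7]) (by rw [h4, h5])
      have h10 := E.injective h9
      rw [← hwv, h10]
  have hsq : ∀ x ∈ M, α (α x) = x := by
    intro x hx
    rcases hkey x hx with h3 | h3
    · have h4 : α x = x := (inv_mul_eq_one.1 h3).symm
      rw [h4, h4]
    · have h4 : α x = x * s := by rw [← h3]; group
      have h5 : s * s = 1 := by rw [← sq, ← hso, pow_orderOf_eq_one]
      rw [h4, map_mul, h4, hsα, mul_assoc, h5, mul_one]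
  -- the odd part of `α`
  obtain ⟨x, z, hx, hz, hα, hx2, hz2, -⟩ := exists_ppart α 2
  have hodd : Odd (orderOf z) := by
    rw [← Nat.not_even_iff_odd, even_iff_two_dvd]
    exact hz2
  have hzfix : ∀ y ∈ M, z y = y := by
    -- `z` is a power of `z ^ 2`, which is a power of `α ^ 2`
    have h3 : ∀ i : ℤ, ∀ y ∈ M, ((α ^ 2) ^ i : MulAut _) y = y := by
      intro i y hy
      have h4 : zpowers (α ^ 2) ≤ (MulAction.stabilizer (MulAut ↥(Cfsg.Lie.twistedG2 K (3 ^ m))) y) := by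
        rw [zpowers_le]
        show (α ^ 2) y = y
        rw [pow_two]
        exact hsq y hy
      exact h4 ⟨i, rfl⟩
    intro y hy
    obtain ⟨k, hk⟩ := hodd
    obtain ⟨i, hi⟩ := hz
    have hi' : α ^ i = z := hi
    have h5 : z = z ^ (2 * (k + 1)) := by
      have h6 : z ^ (2 * (k + 1)) = z ^ (orderOf z) * z := by
        rw [hk, ← pow_succ]
        congr 1
      rw [h6, pow_orderOf_eq_one, one_mul]
    have h7 : z = (α ^ 2) ^ (i * (k + 1 : ℕ)) := by
      nth_rw 1 [h5]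
      rw [← hi', ← zpow_natCast, ← zpow_natCast α 2, ← zpow_mul, ← zpow_mul]
      congr 1
      push_cast
      ring
    rw [h7]
    exact h3 _ y hy
  have hz1 : z = 1 := AutFacts.aut_eq_one hB hna P f1 (by rw [f2]; norm_num) f3 hsP hs1 z hodd hzfix
  rw [hz1, one_mul] at hα
  obtain ⟨k, hk⟩ := hx2
  have h2G : 2 ∣ Nat.card ↥(Cfsg.Lie.twistedG2 K (3 ^ m)) := by
    rw [← hso]
    exact orderOf_dvd_natCard s
  exact h.not_primepow h2G k (by rw [hα, hk])

/-- A field automorphism which is inner is trivial. -/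
theorem fld_eq_one (hK : Fintype.card K = 3 ^ (2 * m + 1)) {τ : K ≃+* K}
    {g : ↥(Cfsg.Lie.twistedG2 K (3 ^ m))} (hg : MulAut.conj g = S2127.fld τ (3 ^ m)) : τ = 1 := by
  obtain ⟨θ, c⟩ := Cfsg.Agent.ChevalleyStructure.Ree.Normal.exists_ctx hK
  have hfin : Finite ↥(twistedG2 K (3 ^ m)) := LieRecognition.ReeSylowThree.finite (ChevalleyStructure.Ree.Data.data c)
  have F := H71.FldAut.reeFld c
  have h1 : MulAut.conj g ∈ H71.ReeOut.Fr (ChevalleyStructure.Ree.Data.data c) := by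
    rw [hg]
    exact F.mem τ
  obtain ⟨a, ha⟩ := (H71.ReeOut.conj_mem_iff _ g).1 h1
  have e : ∀ t, (MulAut.conj g) (ChevalleyStructure.Ree.Data.U K (3 ^ m) t 0 0) =
      (S2127.fld τ (3 ^ m)) (ChevalleyStructure.Ree.Data.U K (3 ^ m) t 0 0) := by
    intro t
    rw [hg]
  have e0 : ∀ t, (a : K) ^ (3 ^ (m + 1)) * t = τ t := by
    intro t
    have h2 := e t
    rw [F.onU, MulAut.conj_apply, ha, H71.ReeOut.h_U_inv (ChevalleyStructure.Ree.Data.data c)] at h2
    exact (LieRecognition.ReeSylowThree.U_injective (ChevalleyStructure.Ree.Data.data c) h2).1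
  have e1 := e0 1
  rw [map_one, mul_one] at e1
  ext t
  rw [← e0 t, e1, one_mul]
  rfl

/-- the field automorphisms -/
noncomputable abbrev Phi (K : Type) [Field K] (m : ℕ) : (K ≃+* K) →* MulAut ↥(Cfsg.Lie.twistedG2 K (3 ^ m)) :=
  H967.CopMat.fieldAut (H967.CopSz.stab_g2 (3 ^ m))

theorem phi_range (hK : Fintype.card K = 3 ^ (2 * m + 1)) {τ : K ≃+* K}
    (h : Phi K m τ ∈ (MulAut.conj : ↥(Cfsg.Lie.twistedG2 K (3 ^ m)) →* _).range) : τ = 1 := by
  obtain ⟨g, hg⟩ := h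
  exact fld_eq_one hK (g := g) hg

theorem exists_form (hm : 1 ≤ m) (hK : Fintype.card K = 3 ^ (2 * m + 1))
    (y : MulAut ↥(Cfsg.Lie.twistedG2 K (3 ^ m))) : ∃ (g : ↥(Cfsg.Lie.twistedG2 K (3 ^ m))) (τ : K ≃+* K),
      y = MulAut.conj g * Phi K m τ := by
  obtain ⟨g, τ, h⟩ := H71.FldAut.ree_aut hm hK y
  exact ⟨g, τ, h⟩

theorem tau_pow (hK : Fintype.card K = 3 ^ (2 * m + 1)) {g : ↥(Cfsg.Lie.twistedG2 K (3 ^ m))} {τ : K ≃+* K}
    {p : ℕ} (h : (MulAut.conj g * Phi K m τ) ^ p = 1) : τ ^ p = 1 := by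
  apply phi_range (m := m) hK
  rw [conj_mul_pow, ← map_pow] at h
  rw [eq_inv_of_mul_eq_one_right h, ← map_inv]
  exact ⟨_, rfl⟩

/-! ### The fixed points of a field automorphism -/

theorem mul_dvd_pow_sub {p : ℕ} {a : ℤ} (h : (p : ℤ) ∣ a - 1) : (p : ℤ) * (a - 1) ∣ a ^ p - 1 := by
  rw [← mul_geom_sum, mul_comm (p : ℤ)]
  apply mul_dvd_mul_left
  have h1 : ∀ N : ℕ, (p : ℤ) ∣ ∑ i ∈ Finset.range N, a ^ i - N := by
    intro N
    induction N with
    | zero => simp
    | succ N ih =>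
      rw [Finset.sum_range_succ]
      have h2 : (p : ℤ) ∣ a ^ N - 1 := h.trans (sub_one_dvd_pow_sub_one a N)
      have h3 := dvd_add ih h2
      have h4 : ∑ x ∈ Finset.range N, a ^ x + a ^ N - ((N + 1 : ℕ) : ℤ) =
          ∑ i ∈ Finset.range N, a ^ i - (N : ℤ) + (a ^ N - 1) := by
        push_cast
        ring
      rw [h4]
      exact h3
  have := dvd_add (h1 p) (dvd_refl (p : ℤ))
  rwa [sub_add_cancel] at this

/-- `p |²G₂(q₁)|` divides `|²G₂(q₁ᵖ)|` if `p` divides the latter. -/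
theorem card_dvd_aux {p Q : ℕ} (hp : p.Prime) (hp3 : 3 < p) (hQ : 1 ≤ Q) (hQ3 : ¬ p ∣ Q)
    (h : p ∣ (Q ^ p) ^ 3 * (Q ^ p - 1) * ((Q ^ p) ^ 3 + 1)) :
    p * (Q ^ 3 * (Q - 1) * (Q ^ 3 + 1)) ∣ (Q ^ p) ^ 3 * (Q ^ p - 1) * ((Q ^ p) ^ 3 + 1) := by
  have hfact : Fact p.Prime := ⟨hp⟩
  have hQp : 1 ≤ Q ^ p := Nat.one_le_pow _ _ hQ
  have hodd : Odd p := hp.odd_of_ne_two (by omega)
  zify [hQ, hQp] at h ⊢
  have hfer : ∀ a : ℤ, (p : ℤ) ∣ a ^ p - 1 → (p : ℤ) ∣ a - 1 := by
    intro a h1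
    have h6 : (p : ℤ) ∣ a ^ p - a := by
      have h7 : ((a ^ p - a : ℤ) : ZMod p) = 0 := by
        push_cast
        rw [ZMod.pow_card, sub_self]
      exact (ZMod.intCast_zmod_eq_zero_iff_dvd _ _).1 h7
    have := dvd_sub h1 h6
    rwa [show a ^ p - 1 - (a ^ p - a) = a - 1 by ring] at this
  have hpz : Prime (p : ℤ) := Nat.prime_iff_prime_int.1 hp
  have d1 : (Q : ℤ) ^ 3 ∣ ((Q : ℤ) ^ p) ^ 3 := pow_dvd_pow_of_dvd (dvd_pow_self _ hp.ne_zero) 3
  have d2 : (Q : ℤ) - 1 ∣ (Q : ℤ) ^ p - 1 := sub_one_dvd_pow_sub_one _ p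
  have e3 : -(-(Q : ℤ) ^ 3 - 1) = (Q : ℤ) ^ 3 + 1 := by ring
  have e4 : -((-(Q : ℤ) ^ 3) ^ p - 1) = ((Q : ℤ) ^ p) ^ 3 + 1 := by
    rw [hodd.neg_pow]
    ring
  have d3 : (Q : ℤ) ^ 3 + 1 ∣ ((Q : ℤ) ^ p) ^ 3 + 1 := by
    rw [← e3, ← e4, neg_dvd, dvd_neg]
    exact sub_one_dvd_pow_sub_one _ p
  rcases hpz.dvd_or_dvd h with h1 | h1
  · rcases hpz.dvd_or_dvd h1 with h2 | h2
    · exfalso
      have h3 := hpz.dvd_of_dvd_pow (hpz.dvd_of_dvd_pow h2)
      exact hQ3 (by exact_mod_cast h3)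
    · have h3 := mul_dvd_pow_sub (hfer _ h2)
      have h4 := mul_dvd_mul (mul_dvd_mul d1 h3) d3
      refine (dvd_of_eq ?_).trans h4
      ring
  · have h2 : (p : ℤ) ∣ (-(Q : ℤ) ^ 3) ^ p - 1 := by
      rw [← dvd_neg, e4]
      exact h1
    have h3 := mul_dvd_pow_sub (hfer _ h2)
    have h3' : (p : ℤ) * ((Q : ℤ) ^ 3 + 1) ∣ ((Q : ℤ) ^ p) ^ 3 + 1 := by
      rw [← e3, ← e4, mul_neg, neg_dvd, dvd_neg]
      exact h3
    have h4 := mul_dvd_mul (mul_dvd_mul d1 d2) h3'
    refine (dvd_of_eq ?_).trans h4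
    ring

/-- the data of the fixed field -/
theorem fix_data (hK : Fintype.card K = 3 ^ (2 * m + 1)) (τ : K ≃+* K) :
    ∃ m₀ : ℕ, Nat.card ↥(H967.CopMat.Fx τ) = 3 ^ (2 * m₀ + 1) ∧ 3 ^ (2 * m + 1) = (3 ^ (2 * m₀ + 1)) ^ orderOf τ ∧
      ∃ f : ↥(Cfsg.Lie.twistedG2 ↥(H967.CopMat.Fx τ) (3 ^ m₀)) →* ↥(Cfsg.Lie.twistedG2 K (3 ^ m)),
        Function.Injective f ∧ fixA (Phi K m τ) = f.range := by
  obtain ⟨θ, c⟩ := Cfsg.Agent.ChevalleyStructure.Ree.Normal.exists_ctx hK
  have hcard := H967.CopMat.card_Fx τ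
  rw [Nat.card_eq_fintype_card, hK] at hcard
  obtain ⟨m₀, j, h1, h2⟩ := H967.CopFix.exists_odd_exp Nat.prime_three hcard
  have : Fintype ↥(H967.CopMat.Fx τ) := Fintype.ofFinite _
  have hE : Fintype.card ↥(H967.CopMat.Fx τ) = 3 ^ (2 * m₀ + 1) := by rw [← Nat.card_eq_fintype_card, h1]
  obtain ⟨θ₀, c₀⟩ := Cfsg.Agent.ChevalleyStructure.Ree.Normal.exists_ctx hE
  have hpow : ∀ x : ↥(H967.CopMat.Fx τ), x ^ 3 ^ m = x ^ 3 ^ m₀ := H967.CopFix.pow_eq h1 h2
  refine ⟨m₀, h1, ?_, H415.CopReeRow.emb (H967.CopMat.Fx τ).subtype hpow, H415.CopReeRow.emb_injective _ hpow, ?_⟩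
  · rw [hcard, h1]
  · exact H415.CopReeRow.fx_eq τ c c₀ hpow

theorem not_le_fix (hK : Fintype.card K = 3 ^ (2 * m + 1)) {p : ℕ} [hp : Fact p.Prime] (hp3 : 3 < p)
    {τ : K ≃+* K} (hτ : orderOf τ = p) (hpG : p ∣ Nat.card ↥(Cfsg.Lie.twistedG2 K (3 ^ m)))
    (P : Sylow p ↥(Cfsg.Lie.twistedG2 K (3 ^ m))) : ¬ (P : Subgroup _) ≤ fixA (Phi K m τ) := by
  intro hle
  obtain ⟨θ, c⟩ := Cfsg.Agent.ChevalleyStructure.Ree.Normal.exists_ctx hK
  have hfin : Finite ↥(twistedG2 K (3 ^ m)) := LieRecognition.ReeSylowThree.finite (ChevalleyStructure.Ree.Data.data c)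
  obtain ⟨m₀, h1, h2, f, hf, hfx⟩ := fix_data hK τ
  have : Fintype ↥(H967.CopMat.Fx τ) := Fintype.ofFinite _
  have hE : Fintype.card ↥(H967.CopMat.Fx τ) = 3 ^ (2 * m₀ + 1) := by rw [← Nat.card_eq_fintype_card, h1]
  have hC : Nat.card ↥(fixA (Phi K m τ)) = (3 ^ (2 * m₀ + 1)) ^ 3 * (3 ^ (2 * m₀ + 1) - 1) *
      ((3 ^ (2 * m₀ + 1)) ^ 3 + 1) := by
    rw [← Cfsg.Agent.S1069.result hE, hfx]
    exact (Nat.card_congr (MonoidHom.ofInjective hf).toEquiv).symm
  have hG := Cfsg.Agent.S1069.result hK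
  rw [hτ] at h2
  have h3 : p * Nat.card ↥(fixA (Phi K m τ)) ∣ Nat.card ↥(Cfsg.Lie.twistedG2 K (3 ^ m)) := by
    rw [hC]
    rw [hG, h2] at hpG
    rw [hG, h2]
    refine card_dvd_aux hp.out hp3 (Nat.one_le_pow _ _ (by norm_num)) ?_ hpG
    intro h4
    have h5 := (Nat.prime_dvd_prime_iff_eq hp.out Nat.prime_three).1 (hp.out.dvd_of_dvd_pow h4)
    omega
  have h4 : p * Nat.card ↥(P : Subgroup ↥(Cfsg.Lie.twistedG2 K (3 ^ m))) ∣ Nat.card ↥(Cfsg.Lie.twistedG2 K (3 ^ m)) :=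
    (Nat.mul_dvd_mul_left p (card_dvd_of_le hle)).trans h3
  rw [← (P : Subgroup ↥(Cfsg.Lie.twistedG2 K (3 ^ m))).card_mul_index, mul_comm] at h4
  exact P.not_dvd_index (Nat.dvd_of_mul_dvd_mul_left Nat.card_pos h4)

theorem fix_not_solvable (hK : Fintype.card K = 3 ^ (2 * m + 1)) (τ : K ≃+* K) :
    ¬ Group.IsSolvable ↥(fixA (Phi K m τ)) := by
  intro hs
  obtain ⟨m₀, h1, h2, f, hf, hfx⟩ := fix_data hK τ
  have : Fintype ↥(H967.CopMat.Fx τ) := Fintype.ofFinite _
  have hE : Fintype.card ↥(H967.CopMat.Fx τ) = 3 ^ (2 * m₀ + 1) := by rw [← Nat.card_eq_fintype_card, h1]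
  rw [hfx] at hs
  have hs' : Group.IsSolvable ↥(Cfsg.Lie.twistedG2 ↥(H967.CopMat.Fx τ) (3 ^ m₀)) :=
    Group.isSolvable_of_isSolvable_injective (f := f.rangeRestrict) (fun a b hab => hf (congrArg Subtype.val hab))
  rcases Nat.eq_zero_or_pos m₀ with h0 | h0
  · subst h0
    obtain ⟨-, h3, h4⟩ := H415.CopReeRow.three_facts hE
    have h5 : Group.IsSolvable ↥(commutator ↥(Cfsg.Lie.twistedG2 ↥(H967.CopMat.Fx τ) (3 ^ 0))) :=
      Group.isSolvable_of_isSolvable_injective (f := Subgroup.subtype _) (subtype_injective _)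
    exact h4 ⟨⟨fun a b => (IsSimpleGroup.comm_iff_isSolvable.2 h5) a b⟩⟩
  · obtain ⟨h3, h4⟩ := Cfsg.Agent.S1073.result h0 hE
    exact h4 ⟨⟨fun a b => (IsSimpleGroup.comm_iff_isSolvable.2 hs') a b⟩⟩

/-- **The row.** -/
theorem row_twistedG2 (hm : 1 ≤ m) (hK : Fintype.card K = 3 ^ (2 * m + 1)) : Row ↥(Cfsg.Lie.twistedG2 K (3 ^ m)) := by
  intro α h
  obtain ⟨θ, c⟩ := Cfsg.Agent.ChevalleyStructure.Ree.Normal.exists_ctx hK
  have hfin : Finite ↥(twistedG2 K (3 ^ m)) := LieRecognition.ReeSylowThree.finite (ChevalleyStructure.Ree.Data.data c)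
  have hz := h.center_bot
  have hgal : Nat.card (K ≃+* K) = 2 * m + 1 := Cfsg.Agent.Lib.FieldAutCard.card_ringAut (by omega) hK
  have hfinK : Finite (K ≃+* K) := Nat.finite_of_card_ne_zero (by rw [hgal]; omega)
  -- an involution fixed by `α` from an even order
  have hinv : ¬ 2 ∣ Nat.card ↥(fixA α) := by
    intro h1
    have h2 : Fact (Nat.Prime 2) := ⟨Nat.prime_two⟩
    obtain ⟨x, hx⟩ := exists_prime_orderOf_dvd_card' 2 h1
    refine invol_false hm hK h (s := x.1) ?_ x.2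
    rw [← hx]
    exact orderOf_injective (fixA α).subtype (fixA α).subtype_injective x
  have h3G : 3 ∣ Nat.card ↥(Cfsg.Lie.twistedG2 K (3 ^ m)) := by
    rw [Cfsg.Agent.S1069.result hK, mul_assoc]
    refine Dvd.dvd.mul_right ?_ _
    exact dvd_pow (dvd_pow_self 3 (by omega)) (by norm_num)
  obtain ⟨p, hp, hp3, hpα⟩ := h.exists_prime_ne Nat.prime_three h3G
  have hpf : Fact p.Prime := ⟨hp⟩
  obtain ⟨y, hyα, hyp⟩ := exists_prime_order hp hpα
  obtain ⟨g, τ, hy⟩ := exists_form hm hK y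
  have hy1 : y ^ p = 1 := by rw [← hyp]; exact pow_orderOf_eq_one y
  have hyne : y ≠ 1 := by
    rintro rfl
    rw [orderOf_one] at hyp
    exact hp.one_lt.ne hyp
  have hτp : τ ^ p = 1 := by
    apply tau_pow (m := m) hK (g := g)
    rw [← hy, hy1]
  by_cases hτ1 : τ = 1
  · -- `y` is inner
    rw [hτ1, map_one, mul_one] at hy
    have hgo : orderOf g = p := by
      apply orderOf_eq_prime
      · apply conj_inj hz
        rw [map_pow, ← hy, hy1, map_one]
      · rintro rfl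
        rw [map_one] at hy
        exact hyne hy
    by_cases hp2 : p = 2
    · subst hp2
      apply hinv
      have hgα : α g = g := by
        apply fix_of_comm hz
        rw [← hy]
        exact (Cfg.comm_zpowers hyα (mem_zpowers α)).symm
      rw [← hgo]
      have h4 : orderOf (⟨g, hgα⟩ : ↥(fixA α)) = orderOf g :=
        (orderOf_injective (fixA α).subtype (fixA α).subtype_injective ⟨g, hgα⟩).symm
      rw [← h4]
      exact orderOf_dvd_natCard _
    · have hp5 : 3 < p := by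
        have := hp.two_le
        omega
      obtain ⟨P⟩ : Nonempty (Sylow p ↥(Cfsg.Lie.twistedG2 K (3 ^ m))) := inferInstance
      exact inner_false h P (Cfsg.Agent.S1156.result hm hK hp5 P) hgo (by rw [← hy]; exact hyα)
  · have hτo : orderOf τ = p := orderOf_eq_prime hτp hτ1
    have hp2 : p ≠ 2 := by
      rintro rfl
      have h4 : orderOf τ ∣ Nat.card (K ≃+* K) := orderOf_dvd_natCard τ
      rw [hτo, hgal] at h4
      omega
    have hp5 : 3 < p := by
      have := hp.two_le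
      omega
    have hout : Phi K m τ ∉ (MulAut.conj : ↥(Cfsg.Lie.twistedG2 K (3 ^ m)) →* _).range :=
      fun h4 => hτ1 (phi_range hK h4)
    obtain ⟨w, hw⟩ := conj_of_coset hp2 hz (fun P => Cfsg.Agent.S1156.result hm hK hp5 P)
      (φ := Phi K m τ) (ψ := y) (by rw [← map_pow, hτp, map_one]) hy1 hout hy
      (fun h4 P => not_le_fix hK hp5 hτo h4 P)
    -- the centraliser of `y`
    have hns : ¬ Group.IsSolvable ↥(fixA y) := by
      intro hs
      apply fix_not_solvable hK τ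
      let f : ↥(fixA (Phi K m τ)) →* ↥(fixA y) :=
        { toFun := fun x => ⟨w * x.1 * w⁻¹, by
            rw [mem_fixA, hw]
            show w * (Phi K m τ) ((MulAut.conj w)⁻¹ (w * x.1 * w⁻¹)) * w⁻¹ = w * x.1 * w⁻¹
            rw [← map_inv MulAut.conj w, MulAut.conj_apply]
            have h5 : w⁻¹ * (w * x.1 * w⁻¹) * w⁻¹⁻¹ = x.1 := by group
            rw [h5, mem_fixA.1 x.2]⟩
          map_one' := by
            apply Subtype.ext
            show w * 1 * w⁻¹ = 1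
            group
          map_mul' := by
            intro a b
            apply Subtype.ext
            show w * (a.1 * b.1) * w⁻¹ = (w * a.1 * w⁻¹) * (w * b.1 * w⁻¹)
            group }
      refine Group.isSolvable_of_isSolvable_injective (f := f) ?_
      intro a b hab
      apply Subtype.ext
      have h5 : w * a.1 * w⁻¹ = w * b.1 * w⁻¹ := congrArg Subtype.val hab
      exact mul_left_cancel (mul_right_cancel h5)
    exact hinv (two_dvd_fix h hyα hyne hns)

end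

/-- **The small Ree groups.** -/
theorem row_ree {G : Type u} [Group G] [Finite G] (h : Cfsg.Lie.IsoRee G) : Row G := by
  obtain ⟨K, iK, iK', m, hm, hK, ⟨e⟩⟩ := h
  exact Row.congr e (row_twistedG2 hm hK)

end Cfsg.Agent.H569.Ccp
end

-- part: H272/Ccp/NoSwap_mg
section
prune_inst 0x4500003200800000000000000000002001000000000000000000000000000000000000000000000001008000000000000000000800000000000000000000000000000040040810008800000000000000000000000000000000000000000000000000000000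
set_option linter.all false
open scoped Cfsg.Agent.FastGrp

-- part: H272/Ccp/PslThree
section
/-!
# S4114: correlations of `PSL_3(F)` normalising a Sylow subgroup in the characteristic (helper272)
-/

set_option autoImplicit false
set_option linter.unusedSectionVars false
set_option linter.unusedSimpArgs false

namespace Cfsg.Agent.H272.Ccp

open Matrix Cfsg.Agent.H520
open Cfsg.Agent.ClassicalGeometry.AutPSL.Root Cfsg.Agent.ClassicalGeometry.AutPSL.Auto
open Cfsg.Agent.ClassicalGeometry.AutPSL.SylowU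

variable {F : Type} [Field F]

local notation "SL3" => Matrix.SpecialLinearGroup (Fin 3) F
local notation "M3" => Matrix (Fin 3) (Fin 3) F

/-- upper triangular -/
def Tri (s : M3) : Prop := s 1 0 = 0 ∧ s 2 0 = 0 ∧ s 2 1 = 0

theorem Tri.diag_ne {s : SL3} (h : Tri (s : M3)) : (s : M3) 0 0 ≠ 0 ∧ (s : M3) 1 1 ≠ 0 ∧ (s : M3) 2 2 ≠ 0 := by
  have h1 := s.2
  rw [Matrix.det_fin_three] at h1
  obtain ⟨h10, h20, h21⟩ := h
  have h2 : (s : M3) 0 0 * (s : M3) 1 1 * (s : M3) 2 2 = 1 := by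
    simpa only [h10, h20, h21, mul_zero, zero_mul, add_zero, sub_zero] using h1
  refine ⟨?_, ?_, ?_⟩ <;> intro h0 <;> rw [h0] at h2 <;> simp at h2

theorem Tri.inv {s : SL3} (h : Tri (s : M3)) : Tri ((s⁻¹ : SL3) : M3) ∧
    ((s⁻¹ : SL3) : M3) 0 0 = ((s : M3) 0 0)⁻¹ ∧ ((s⁻¹ : SL3) : M3) 1 1 = ((s : M3) 1 1)⁻¹ ∧
    ((s⁻¹ : SL3) : M3) 2 2 = ((s : M3) 2 2)⁻¹ := by
  obtain ⟨d0, d1, d2⟩ := h.diag_ne
  obtain ⟨h10, h20, h21⟩ := h
  have e : ((s⁻¹ : SL3) : M3) * (s : M3) = 1 := by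
    rw [← Matrix.SpecialLinearGroup.coe_mul, inv_mul_cancel, Matrix.SpecialLinearGroup.coe_one]
  have key : ∀ i j, ((s⁻¹ : SL3) : M3) i 0 * (s : M3) 0 j + ((s⁻¹ : SL3) : M3) i 1 * (s : M3) 1 j +
      ((s⁻¹ : SL3) : M3) i 2 * (s : M3) 2 j = (1 : M3) i j := by
    intro i j
    rw [← e, Matrix.mul_apply, Fin.sum_univ_three]
  have k00 := key 0 0
  have k10 := key 1 0
  have k20 := key 2 0
  have k11 := key 1 1
  have k21 := key 2 1
  have k22 := key 2 2
  rw [h10, h20, mul_zero, mul_zero, add_zero, add_zero] at k00 k10 k20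
  rw [one_apply_eq] at k00 k11 k22
  rw [one_apply_ne (by decide)] at k10 k20 k21
  have z10 : ((s⁻¹ : SL3) : M3) 1 0 = 0 := (mul_eq_zero.1 k10).resolve_right d0
  have z20 : ((s⁻¹ : SL3) : M3) 2 0 = 0 := (mul_eq_zero.1 k20).resolve_right d0
  rw [z10, h21, zero_mul, mul_zero, zero_add, add_zero] at k11
  rw [z20, h21, zero_mul, mul_zero, zero_add, add_zero] at k21
  have z21 : ((s⁻¹ : SL3) : M3) 2 1 = 0 := (mul_eq_zero.1 k21).resolve_right d1
  rw [z20, z21, zero_mul, zero_mul, zero_add, zero_add] at k22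
  exact ⟨⟨z10, z20, z21⟩, eq_inv_of_mul_eq_one_left k00, eq_inv_of_mul_eq_one_left k11, eq_inv_of_mul_eq_one_left k22⟩

theorem mul_tri {a b : M3} (ha : Tri a) (hb : Tri b) : Tri (a * b) ∧ (a * b) 0 0 = a 0 0 * b 0 0 ∧
    (a * b) 1 1 = a 1 1 * b 1 1 ∧ (a * b) 2 2 = a 2 2 * b 2 2 := by
  obtain ⟨a10, a20, a21⟩ := ha
  obtain ⟨b10, b20, b21⟩ := hb
  refine ⟨⟨?_, ?_, ?_⟩, ?_, ?_, ?_⟩ <;>
    simp only [Matrix.mul_apply, Fin.sum_univ_three, a10, a20, a21, b10, b20, b21, zero_mul, mul_zero, add_zero, zero_add]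

theorem mem_upper_iff [Finite F] {s : SL3} : s ∈ upper 3 F ↔
    Tri (s : M3) ∧ (s : M3) 0 0 = 1 ∧ (s : M3) 1 1 = 1 ∧ (s : M3) 2 2 = 1 := by
  rw [mem_upper]
  constructor
  · intro h
    exact ⟨⟨h 1 0 (by decide), h 2 0 (by decide), h 2 1 (by decide)⟩, h 0 0 le_rfl, h 1 1 le_rfl, h 2 2 le_rfl⟩
  · rintro ⟨⟨h10, h20, h21⟩, h0, h1, h2⟩ i j hij
    fin_cases i <;> fin_cases j <;> simp_all only [_root_.Fin.isValue, _root_.Fin.zero_eta, _root_.Std.le_refl, ↓ _root_.reduceIte, _root_.Fin.mk_one, _root_.nonpos_iff_eq_zero, _root_.one_ne_zero, _root_.Fin.reduceFinMk, _root_.Fin.reduceEq, _root_.zero_le, _root_.Fin.reduceLE]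

/-- two triangular matrices with the same diagonal -/
theorem inv_mul_mem [Finite F] {s t : SL3} (hs : Tri (s : M3)) (ht : Tri (t : M3)) (h0 : (s : M3) 0 0 = (t : M3) 0 0)
    (h1 : (s : M3) 1 1 = (t : M3) 1 1) (h2 : (s : M3) 2 2 = (t : M3) 2 2) : s⁻¹ * t ∈ upper 3 F := by
  obtain ⟨hi, e0, e1, e2⟩ := hs.inv
  obtain ⟨d0, d1, d2⟩ := hs.diag_ne
  obtain ⟨hm, m0, m1, m2⟩ := mul_tri hi ht
  rw [mem_upper_iff, Matrix.SpecialLinearGroup.coe_mul]
  refine ⟨hm, ?_, ?_, ?_⟩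
  · rw [m0, e0, ← h0, inv_mul_cancel₀ d0]
  · rw [m1, e1, ← h1, inv_mul_cancel₀ d1]
  · rw [m2, e2, ← h2, inv_mul_cancel₀ d2]

/-- anti-triangular invertible matrices -/
structure AT (A : GL (Fin 3) F) : Prop where
  z12 : (A : M3) 1 2 = 0
  z21 : (A : M3) 2 1 = 0
  z22 : (A : M3) 2 2 = 0
  n02 : (A : M3) 0 2 ≠ 0
  n11 : (A : M3) 1 1 ≠ 0
  n20 : (A : M3) 2 0 ≠ 0

theorem at_of [Finite F] {A : GL (Fin 3) F} {σ : F ≃+* F} (h : ∀ u ∈ upper 3 F, gr A σ u ∈ upper 3 F) : AT A := by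
  have h1 := anti h
  have z12 := h1 1 2 (by decide)
  have z21 := h1 2 1 (by decide)
  have z22 := h1 2 2 (by decide)
  have hdet : (A : M3).det ≠ 0 := by
    have := (Matrix.isUnit_iff_isUnit_det (A : M3)).1 A.isUnit
    exact this.ne_zero
  rw [Matrix.det_fin_three, z12, z21, z22] at hdet
  refine ⟨z12, z21, z22, ?_, ?_, ?_⟩ <;> intro h0 <;> apply hdet <;> rw [h0] <;> ring

/-- the action on triangular matrices -/
theorem AT.tri {A : GL (Fin 3) F} (hA : AT A) (σ : F ≃+* F) {s : SL3} (hs : Tri (s : M3)) :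
    Tri (gr A σ s : M3) ∧ (gr A σ s : M3) 0 0 = σ ((s : M3) 2 2)⁻¹ ∧ (gr A σ s : M3) 1 1 = σ ((s : M3) 1 1)⁻¹ ∧
      (gr A σ s : M3) 2 2 = σ ((s : M3) 0 0)⁻¹ := by
  obtain ⟨⟨i10, i20, i21⟩, e0, e1, e2⟩ := hs.inv
  have hrel := gr_rel A σ s
  set t := gr A σ s with ht
  have key : ∀ i j, (t : M3) i 0 * (A : M3) 0 j + (t : M3) i 1 * (A : M3) 1 j + (t : M3) i 2 * (A : M3) 2 j =
      (A : M3) i 0 * σ (((s⁻¹ : SL3) : M3) j 0) + (A : M3) i 1 * σ (((s⁻¹ : SL3) : M3) j 1) +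
        (A : M3) i 2 * σ (((s⁻¹ : SL3) : M3) j 2) := by
    intro i j
    have h1 := congrFun (congrFun hrel i) j
    rw [Matrix.mul_apply, Matrix.mul_apply, Fin.sum_univ_three, Fin.sum_univ_three] at h1
    exact h1
  have k02 := key 0 2
  have k12 := key 1 2
  have k22 := key 2 2
  have k11 := key 1 1
  have k21 := key 2 1
  have k20 := key 2 0
  simp only [hA.z12, hA.z22, i20, i21, map_zero, mul_zero, zero_mul, add_zero, zero_add] at k02 k12
  simp only [hA.z12, hA.z22, hA.z21, i20, i21, map_zero, mul_zero, zero_mul, add_zero, zero_add] at k22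
  have t10 : (t : M3) 1 0 = 0 := (mul_eq_zero.1 k12).resolve_right hA.n02
  have t20 : (t : M3) 2 0 = 0 := (mul_eq_zero.1 k22).resolve_right hA.n02
  simp only [t10, hA.z21, hA.z12, i10, map_zero, mul_zero, zero_mul, add_zero, zero_add] at k02 k11
  simp only [t20, hA.z21, hA.z22, i10, map_zero, mul_zero, zero_mul, add_zero, zero_add] at k21
  have t21 : (t : M3) 2 1 = 0 := (mul_eq_zero.1 k21).resolve_right hA.n11
  simp only [t20, t21, hA.z21, hA.z22, map_zero, mul_zero, zero_mul, add_zero, zero_add] at k20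
  rw [e0, mul_comm] at k20
  rw [e1, mul_comm] at k11
  refine ⟨⟨t10, t20, t21⟩, ?_, ?_, ?_⟩
  · rw [mul_comm, e2] at k02
    exact mul_left_cancel₀ hA.n02 k02
  · exact mul_left_cancel₀ hA.n11 k11
  · exact mul_left_cancel₀ hA.n20 k20

/-- the normaliser is invariant -/
theorem normalizer_inv {G : Type*} [Group G] [Finite G] {α : MulAut G} {N : Subgroup G} (hN : ∀ m ∈ N, α m ∈ N) :
    ∀ m ∈ Subgroup.normalizer (N : Set G), α m ∈ Subgroup.normalizer (N : Set G) := by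
  have h1 : N.map α.toMonoidHom = N := by
    apply Subgroup.eq_of_le_of_card_ge
    · rintro _ ⟨m, hm, rfl⟩
      exact hN m hm
    · exact (Nat.card_congr (N.equivMapOfInjective α.toMonoidHom α.injective).toEquiv).le
  intro m hm
  rw [Subgroup.mem_normalizer_iff] at hm ⊢
  intro x
  obtain ⟨y, rfl⟩ := α.surjective x
  have h2 : ∀ z, α z ∈ N ↔ z ∈ N := by
    intro z
    constructor
    · intro hz
      rw [← h1] at hz
      obtain ⟨w, hw, e⟩ := hz
      have : w = z := α.injective e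
      rw [← this]
      exact hw
    · exact hN z
  have h3 := hm y
  have h4 := h2 y
  have h5 := h2 (m * y * m⁻¹)
  rw [map_mul, map_mul, map_inv] at h5
  exact h4.trans (h3.trans h5.symm)

/-- **odd characteristic** -/
theorem odd_false [Fintype F] (h2 : (2 : F) ≠ 0) {A : GL (Fin 3) F} {σ : F ≃+* F} (h : Cfg (lift (gr A σ)))
    (hU : ∀ u ∈ upper 3 F, gr A σ u ∈ upper 3 F) : False := by
  have hA := at_of hU
  let a : SL3 := ⟨!![-1, 0, 0; 0, -1, 0; 0, 0, 1], by rw [Matrix.det_fin_three]; simp⟩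
  have ha : Tri (a : M3) := ⟨rfl, rfl, rfl⟩
  have a0 : (a : M3) 0 0 = -1 := rfl
  have a1 : (a : M3) 1 1 = -1 := rfl
  have a2 : (a : M3) 2 2 = 1 := rfl
  have haa : a * a = 1 := by
    apply Subtype.ext
    change !![(-1 : F), 0, 0; 0, -1, 0; 0, 0, 1] * !![(-1 : F), 0, 0; 0, -1, 0; 0, 0, 1] = 1
    ext i j
    (revert i j; simp only [Matrix.mul_apply, Fin.sum_univ_three, _root_.Fin.forall_fin_succ, _root_.Matrix.of_apply, _root_.Matrix.cons_val', _root_.Matrix.cons_val_fin_one, Fin.isValue, _root_.Matrix.cons_val_zero, _root_.Matrix.cons_val_one, _root_.Matrix.cons_val, _root_.mul_neg, _root_.mul_one, _root_.MulZeroClass.mul_zero, _root_.add_zero, _root_.Matrix.cons_val_succ, _root_.zero_add, _root_.IsEmpty.forall_iff, _root_.and_true, _root_.neg_neg, _root_.Matrix.one_apply_eq, _root_.neg_zero, Nat.reduceAdd, _root_.Fin.succ_zero_eq_one, _root_.ne_eq, _root_.zero_ne_one, _root_.not_false_eq_true, _root_.Matrix.one_apply_ne, _root_.Fin.succ_one_eq_two,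 Fin.reduceEq, _root_.and_self, _root_.Fin.succ_ne_zero, _root_.neg_eq_zero, _root_.true_and])
  obtain ⟨ht, t0, t1, t2⟩ := hA.tri σ ha
  rw [a2, inv_one, map_one] at t0
  rw [a1, inv_neg, inv_one, map_neg, map_one] at t1
  rw [a0, inv_neg, inv_one, map_neg, map_one] at t2
  obtain ⟨hi, i0, i1, i2⟩ := ha.inv
  rw [a0, inv_neg, inv_one] at i0
  rw [a1, inv_neg, inv_one] at i1
  rw [a2, inv_one] at i2
  let w : SL3 := a⁻¹ * gr A σ a
  obtain ⟨hw, w0, w1, w2⟩ := mul_tri hi ht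
  have hw' : Tri (w : M3) := hw
  have w0' : (w : M3) 0 0 = -1 := by
    show (((a⁻¹ : SL3) : M3) * (gr A σ a : M3)) 0 0 = -1
    rw [w0, i0, t0, mul_one]
  have w1' : (w : M3) 1 1 = 1 := by
    show (((a⁻¹ : SL3) : M3) * (gr A σ a : M3)) 1 1 = 1
    rw [w1, i1, t1]
    ring
  have w2' : (w : M3) 2 2 = -1 := by
    show (((a⁻¹ : SL3) : M3) * (gr A σ a : M3)) 2 2 = -1
    rw [w2, i2, t2, one_mul]
  obtain ⟨hv, v0, v1, v2⟩ := hA.tri σ hw'
  rw [w2', inv_neg, inv_one, map_neg, map_one] at v0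
  rw [w1', inv_one, map_one] at v1
  rw [w0', inv_neg, inv_one, map_neg, map_one] at v2
  have hwv := inv_mul_mem hw' hv (w0'.trans v0.symm) (w1'.trans v1.symm) (w2'.trans v2.symm)
  set N : Subgroup (Matrix.ProjectiveSpecialLinearGroup (Fin 3) F) := (upper 3 F).map pr with hNdef
  have hN : ∀ m ∈ N, lift (gr A σ) m ∈ N := by
    rintro _ ⟨u, hu, rfl⟩
    exact ⟨_, hU u hu, (lift_pr _ _).symm⟩
  have hconj : ∀ m ∈ N, pr a * m * (pr a)⁻¹ ∈ N := by
    rintro _ ⟨u, hu, rfl⟩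
    refine ⟨a * u * a⁻¹, ?_, by rw [map_mul, map_mul]; rfl⟩
    obtain ⟨hu', u0, u1, u2⟩ := mem_upper_iff.1 hu
    obtain ⟨hb, b0, b1, b2⟩ := mul_tri ha hu'
    obtain ⟨hc, c0, c1, c2⟩ := mul_tri hb hi
    rw [SetLike.mem_coe, mem_upper_iff, Matrix.SpecialLinearGroup.coe_mul, Matrix.SpecialLinearGroup.coe_mul]
    refine ⟨hc, ?_, ?_, ?_⟩
    · rw [c0, b0, a0, u0, i0]; ring
    · rw [c1, b1, a1, u1, i1]; ring
    · rw [c2, b2, a2, u2, i2]; ring
  have hga : pr a ∈ Subgroup.normalizer (N : Set (Matrix.ProjectiveSpecialLinearGroup (Fin 3) F)) := by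
    rw [Subgroup.mem_normalizer_iff]
    intro x
    refine ⟨fun hx => hconj x hx, fun hx => ?_⟩
    have h1 := hconj _ hx
    have h3 : pr a * pr a = (1 : Matrix.ProjectiveSpecialLinearGroup (Fin 3) F) := by rw [← map_mul, haa, map_one]
    have h4 : (pr a)⁻¹ = (pr a : Matrix.ProjectiveSpecialLinearGroup (Fin 3) F) := inv_eq_of_mul_eq_one_left h3
    rw [h4] at h1
    have h5 : pr a * (pr a * x * pr a) * pr a = x := by
      calc pr a * (pr a * x * pr a) * pr a = (pr a * pr a) * x * (pr a * pr a) := by simp only [mul_assoc]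
        _ = x := by rw [h3, one_mul, mul_one]
    rw [h5] at h1
    exact h1
  have hx : (pr a)⁻¹ * lift (gr A σ) (pr a) = pr w := by
    rw [lift_pr]
    show _ = pr (a⁻¹ * gr A σ a)
    rw [map_mul]
    rfl
  have hfin := swap_lem h.ccp (Subgroup.normalizer (N : Set _)) N (normalizer_inv hN) hN
    (fun m hm n hn => (Subgroup.mem_normalizer_iff.1 hm n).1 hn) hga (by
      rw [hx, lift_pr]
      exact ⟨w⁻¹ * gr A σ w, hwv, by rw [map_mul]; rfl⟩)
  rw [hx] at hfin
  obtain ⟨u, hu, e⟩ := hfin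
  obtain ⟨c, hc⟩ := exists_smul_of_pr_eq e
  obtain ⟨-, u0, u1, -⟩ := mem_upper_iff.1 hu
  have q0 := congrFun (congrFun hc 0) 0
  have q1 := congrFun (congrFun hc 1) 1
  rw [Matrix.smul_apply, w0', u0, smul_eq_mul, mul_one] at q0
  rw [Matrix.smul_apply, w1', u1, smul_eq_mul, mul_one] at q1
  rw [← q0] at q1
  apply h2
  calc (2 : F) = 1 - (-1) := by ring
    _ = 0 := by rw [← q1]; ring

/-! ### Characteristic two -/

theorem inv_upper [Finite F] {s : SL3} (hs : s ∈ upper 3 F) : ((s⁻¹ : SL3) : M3) 0 1 = -(s : M3) 0 1 ∧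
    ((s⁻¹ : SL3) : M3) 1 2 = -(s : M3) 1 2 ∧
      ((s⁻¹ : SL3) : M3) 0 2 = (s : M3) 0 1 * (s : M3) 1 2 - (s : M3) 0 2 := by
  obtain ⟨h, s0, s1, s2⟩ := mem_upper_iff.1 hs
  obtain ⟨-, i0, i1, i2⟩ := mem_upper_iff.1 (inv_mem hs)
  obtain ⟨h10, h20, h21⟩ := h
  have e : ((s⁻¹ : SL3) : M3) * (s : M3) = 1 := by
    rw [← Matrix.SpecialLinearGroup.coe_mul, inv_mul_cancel, Matrix.SpecialLinearGroup.coe_one]
  have key : ∀ i j, ((s⁻¹ : SL3) : M3) i 0 * (s : M3) 0 j + ((s⁻¹ : SL3) : M3) i 1 * (s : M3) 1 j +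
      ((s⁻¹ : SL3) : M3) i 2 * (s : M3) 2 j = (1 : M3) i j := by
    intro i j
    rw [← e, Matrix.mul_apply, Fin.sum_univ_three]
  obtain ⟨⟨j10, j20, j21⟩, -⟩ := mem_upper_iff.1 (inv_mem hs)
  have k01 := key 0 1
  have k02 := key 0 2
  have k12 := key 1 2
  simp only [i0, i1, i2, s0, s1, s2, h10, h20, h21, j10, j20, j21, one_mul, mul_one, mul_zero, zero_mul, add_zero,
    zero_add] at k01 k02 k12
  rw [one_apply_ne (by decide)] at k01 k02 k12
  have e01 : ((s⁻¹ : SL3) : M3) 0 1 = -(s : M3) 0 1 := eq_neg_of_add_eq_zero_right k01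
  have e12 : ((s⁻¹ : SL3) : M3) 1 2 = -(s : M3) 1 2 := eq_neg_of_add_eq_zero_right k12
  refine ⟨e01, e12, ?_⟩
  rw [e01] at k02
  linear_combination k02

/-- the action on the unitriangular matrices -/
theorem AT.upp [Finite F] {A : GL (Fin 3) F} (hA : AT A) (σ : F ≃+* F) {s : SL3} (hs : s ∈ upper 3 F) :
    gr A σ s ∈ upper 3 F ∧ (gr A σ s : M3) 0 1 * (A : M3) 1 1 = -((A : M3) 0 2 * σ ((s : M3) 1 2)) ∧
      (gr A σ s : M3) 1 2 * (A : M3) 2 0 = -((A : M3) 1 1 * σ ((s : M3) 0 1)) ∧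
      (gr A σ s : M3) 0 1 * (A : M3) 1 0 + (gr A σ s : M3) 0 2 * (A : M3) 2 0 = -((A : M3) 0 1 * σ ((s : M3) 0 1)) +
        (A : M3) 0 2 * σ ((s : M3) 0 1 * (s : M3) 1 2 - (s : M3) 0 2) := by
  obtain ⟨h, s0, s1, s2⟩ := mem_upper_iff.1 hs
  obtain ⟨ht, t0, t1, t2⟩ := hA.tri σ h
  rw [s0, inv_one, map_one] at t2
  rw [s1, inv_one, map_one] at t1
  rw [s2, inv_one, map_one] at t0
  have hup : gr A σ s ∈ upper 3 F := mem_upper_iff.2 ⟨ht, t0, t1, t2⟩
  refine ⟨hup, ?_⟩
  obtain ⟨i01, i12, i02⟩ := inv_upper hs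
  obtain ⟨⟨j10, j20, j21⟩, i0, i1, i2⟩ := mem_upper_iff.1 (inv_mem hs)
  obtain ⟨t10, t20, t21⟩ := ht
  have hrel := gr_rel A σ s
  set t := gr A σ s with ht
  have key : ∀ i j, (t : M3) i 0 * (A : M3) 0 j + (t : M3) i 1 * (A : M3) 1 j + (t : M3) i 2 * (A : M3) 2 j =
      (A : M3) i 0 * σ (((s⁻¹ : SL3) : M3) j 0) + (A : M3) i 1 * σ (((s⁻¹ : SL3) : M3) j 1) +
        (A : M3) i 2 * σ (((s⁻¹ : SL3) : M3) j 2) := by
    intro i j
    have h1 := congrFun (congrFun hrel i) j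
    rw [Matrix.mul_apply, Matrix.mul_apply, Fin.sum_univ_three, Fin.sum_univ_three] at h1
    exact h1
  have k01 := key 0 1
  have k10 := key 1 0
  have k00 := key 0 0
  simp only [t0, t1, t2, t10, t20, t21, j10, j20, j21, i0, i1, i2, i01, i12, i02, hA.z12, hA.z21, hA.z22, map_zero,
    map_one, map_neg, mul_zero, zero_mul, one_mul, mul_one, add_zero, zero_add] at k01 k10 k00
  refine ⟨?_, ?_, ?_⟩
  · linear_combination k01
  · linear_combination k10
  · linear_combination k00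

/-- the centre of the unitriangular group -/
def zs (F : Type) [Field F] [Finite F] : Subgroup (Matrix.SpecialLinearGroup (Fin 3) F) where
  carrier := {s | s ∈ upper 3 F ∧ (s : Matrix (Fin 3) (Fin 3) F) 0 1 = 0 ∧ (s : Matrix (Fin 3) (Fin 3) F) 1 2 = 0}
  mul_mem' := by
    rintro a b ⟨ha, a01, a12⟩ ⟨hb, b01, b12⟩
    obtain ⟨⟨a10, a20, a21⟩, a0, a1, a2⟩ := mem_upper_iff.1 ha
    obtain ⟨⟨b10, b20, b21⟩, b0, b1, b2⟩ := mem_upper_iff.1 hb
    refine ⟨mul_mem ha hb, ?_, ?_⟩ <;>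
      rw [Matrix.SpecialLinearGroup.coe_mul, Matrix.mul_apply, Fin.sum_univ_three] <;>
      simp only [a01, a12, b01, b12, a10, a20, a21, b10, b20, b21, mul_zero, zero_mul, add_zero]
  one_mem' := ⟨one_mem _, by rw [Matrix.SpecialLinearGroup.coe_one]; exact one_apply_ne (by decide), by
    rw [Matrix.SpecialLinearGroup.coe_one]; exact one_apply_ne (by decide)⟩
  inv_mem' := by
    rintro a ⟨ha, a01, a12⟩
    obtain ⟨i01, i12, -⟩ := inv_upper ha
    exact ⟨inv_mem ha, by rw [i01, a01, neg_zero], by rw [i12, a12, neg_zero]⟩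

theorem mem_zs [Finite F] {s : SL3} : s ∈ zs F ↔ s ∈ upper 3 F ∧ (s : M3) 0 1 = 0 ∧ (s : M3) 1 2 = 0 := Iff.rfl

theorem mul_upper [Finite F] {s t : SL3} (hs : s ∈ upper 3 F) (ht : t ∈ upper 3 F) :
    ((s * t : SL3) : M3) 0 1 = (s : M3) 0 1 + (t : M3) 0 1 ∧ ((s * t : SL3) : M3) 1 2 = (s : M3) 1 2 + (t : M3) 1 2 := by
  obtain ⟨⟨a10, a20, a21⟩, a0, a1, a2⟩ := mem_upper_iff.1 hs
  obtain ⟨⟨b10, b20, b21⟩, b0, b1, b2⟩ := mem_upper_iff.1 ht
  constructor <;>
    rw [Matrix.SpecialLinearGroup.coe_mul, Matrix.mul_apply, Fin.sum_univ_three] <;>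
    simp only [a0, a1, a2, b0, b1, b2, a10, a20, a21, b10, b20, b21, mul_zero, zero_mul, add_zero, zero_add, one_mul,
      mul_one]
  · rw [add_comm]
  · rw [add_comm]

/-- the unitriangular matrix with given entries -/
def uu (a b c : F) : SL3 := ⟨!![1, a, c; 0, 1, b; 0, 0, 1], by rw [Matrix.det_fin_three]; simp⟩

theorem uu_mem [Finite F] (a b c : F) : uu a b c ∈ upper 3 F := mem_upper_iff.2 ⟨⟨rfl, rfl, rfl⟩, rfl, rfl, rfl⟩

theorem pr_mem_map [Finite F] {K : Subgroup SL3} (hK : K ≤ upper 3 F) {s : SL3} (hs : s ∈ upper 3 F)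
    (h : pr s ∈ K.map pr) : s ∈ K := by
  obtain ⟨k, hk, e⟩ := h
  rw [← pr_injOn_upper (hK hk) hs e]
  exact hk

theorem eq_uu [Finite F] {s : SL3} (hs : s ∈ upper 3 F) : s = uu ((s : M3) 0 1) ((s : M3) 1 2) ((s : M3) 0 2) := by
  obtain ⟨⟨a10, a20, a21⟩, a0, a1, a2⟩ := mem_upper_iff.1 hs
  apply Subtype.ext
  change (s : M3) = !![1, (s : M3) 0 1, (s : M3) 0 2; 0, 1, (s : M3) 1 2; 0, 0, 1]
  ext i j
  fin_cases i <;> fin_cases j <;> simp_all only [_root_.Fin.isValue, _root_.Fin.zero_eta, _root_.Matrix.of_apply, _root_.Matrix.cons_val', _root_.Matrix.cons_val_zero, _root_.Matrix.cons_val_fin_one, _root_.Fin.mk_one, _root_.Matrix.cons_val_one, _root_.Fin.reduceFinMk, _root_.Matrix.cons_val]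

section Even

variable [Fintype F] {A : GL (Fin 3) F} {σ : F ≃+* F}

/-- the section `U / Z(U)` : an element of `U` fixed modulo `Z(U)` with ... -/
theorem sec_false (hc : ∀ x : F, -x = x) (h : Cfg (lift (gr A σ))) (hA : AT A) {a b : F}
    (e1 : a * (A : M3) 1 1 = -((A : M3) 0 2 * σ b)) (e2 : b * (A : M3) 2 0 = -((A : M3) 1 1 * σ a)) : a = 0 ∧ b = 0 := by
  have hg := uu_mem a 0 0
  obtain ⟨hv, v01, v12, -⟩ := hA.upp σ hg
  have g01 : (uu a 0 0 : M3) 0 1 = a := rfl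
  have g12 : (uu a 0 0 : M3) 1 2 = 0 := rfl
  rw [g12, map_zero, mul_zero, neg_zero] at v01
  have v01' := (mul_eq_zero.1 v01).resolve_right hA.n11
  rw [g01, ← e2] at v12
  have v12' := mul_right_cancel₀ hA.n20 v12
  set w : SL3 := (uu a 0 0)⁻¹ * gr A σ (uu a 0 0) with hw
  have hwu : w ∈ upper 3 F := mul_mem (inv_mem hg) hv
  have w01 : (w : M3) 0 1 = a := by
    rw [hw, (mul_upper (inv_mem hg) hv).1, (inv_upper hg).1, v01', add_zero, g01, hc]
  have w12 : (w : M3) 1 2 = b := by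
    rw [hw, (mul_upper (inv_mem hg) hv).2, (inv_upper hg).2.1, v12', g12, neg_zero, zero_add]
  obtain ⟨hx, x01, x12, -⟩ := hA.upp σ hwu
  rw [w12, ← e1] at x01
  rw [w01, ← e2] at x12
  have x01' := mul_right_cancel₀ hA.n11 x01
  have x12' := mul_right_cancel₀ hA.n20 x12
  have hfix : w⁻¹ * gr A σ w ∈ zs F := by
    refine mem_zs.2 ⟨mul_mem (inv_mem hwu) hx, ?_, ?_⟩
    · rw [(mul_upper (inv_mem hwu) hx).1, (inv_upper hwu).1, w01, x01']
      ring
    · rw [(mul_upper (inv_mem hwu) hx).2, (inv_upper hwu).2.1, w12, x12']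
      ring
  have hzle : zs F ≤ upper 3 F := fun s hs => (mem_zs.1 hs).1
  have hxx : (pr (uu a 0 0))⁻¹ * lift (gr A σ) (pr (uu a 0 0)) = pr w := by
    rw [lift_pr, hw, map_mul]
    rfl
  have hfin := swap_lem h.ccp ((upper 3 F).map pr) ((zs F).map pr) (by
    rintro _ ⟨u, hu, rfl⟩
    exact ⟨_, (hA.upp σ hu).1, (lift_pr _ _).symm⟩) (by
    rintro _ ⟨u, hu, rfl⟩
    obtain ⟨hu', u01, u12⟩ := mem_zs.1 hu
    obtain ⟨hy, y01, y12, -⟩ := hA.upp σ hu'
    rw [u12, map_zero, mul_zero, neg_zero] at y01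
    rw [u01, map_zero, mul_zero, neg_zero] at y12
    exact ⟨_, mem_zs.2 ⟨hy, (mul_eq_zero.1 y01).resolve_right hA.n11, (mul_eq_zero.1 y12).resolve_right hA.n20⟩,
      (lift_pr _ _).symm⟩) (by
    rintro _ ⟨m, hm, rfl⟩ _ ⟨u, hu, rfl⟩
    obtain ⟨hu', u01, u12⟩ := mem_zs.1 hu
    refine ⟨m * u * m⁻¹, mem_zs.2 ⟨mul_mem (mul_mem hm hu') (inv_mem hm), ?_, ?_⟩, by rw [map_mul, map_mul]; rfl⟩
    · rw [(mul_upper (mul_mem hm hu') (inv_mem hm)).1, (mul_upper hm hu').1, (inv_upper hm).1, u01]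
      ring
    · rw [(mul_upper (mul_mem hm hu') (inv_mem hm)).2, (mul_upper hm hu').2, (inv_upper hm).2.1, u12]
      ring) (g := pr (uu a 0 0)) ⟨_, hg, rfl⟩ (by
    rw [hxx, lift_pr]
    exact ⟨w⁻¹ * gr A σ w, hfix, by rw [map_mul]; rfl⟩)
  rw [hxx] at hfin
  have hz := mem_zs.1 (pr_mem_map hzle hwu hfin)
  exact ⟨w01 ▸ hz.2.1, w12 ▸ hz.2.2⟩

/-- squares -/
theorem exists_sq (hc : ∀ x : F, -x = x) (x : F) : ∃ y, y * y = x := by
  have h2 : (2 : F) = 0 := by
    have h3 := hc 1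
    calc (2 : F) = 1 + 1 := by norm_num
      _ = -1 + 1 := by rw [h3]
      _ = 0 := by norm_num
  have : CharP F 2 := CharTwo.of_one_ne_zero_of_two_eq_zero one_ne_zero h2
  obtain ⟨y, hy⟩ := FiniteField.isSquare_of_char_two (F := F) (ringChar.eq F 2) x
  exact ⟨y, hy.symm⟩

theorem uu_zero_mul (s t : F) : (uu 0 0 s)⁻¹ * uu 0 0 t = uu 0 0 (t - s) := by
  rw [inv_mul_eq_iff_eq_mul]
  apply Subtype.ext
  change !![1, 0, t; 0, 1, 0; 0, 0, 1] = !![1, 0, s; 0, 1, 0; 0, 0, 1] * !![1, 0, t - s; 0, 1, 0; 0, 0, 1]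
  ext i j
  (revert i j; simp only [Matrix.mul_apply, Fin.sum_univ_three, _root_.Fin.forall_fin_succ, _root_.Matrix.of_apply, _root_.Matrix.cons_val', _root_.Matrix.cons_val_fin_one, Fin.isValue, _root_.Matrix.cons_val_zero, _root_.Matrix.cons_val_one, _root_.Matrix.cons_val, _root_.mul_one, _root_.MulZeroClass.mul_zero, _root_.add_zero, _root_.Matrix.cons_val_succ, _root_.zero_add, _root_.forall_const, _root_.true_and, _root_.one_mul, _root_.sub_add_cancel, _root_.right_eq_add, _root_.mul_eq_zero, _root_.true_or, _root_.implies_true, _root_.and_self])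

/-- **no fixed elements in `U`** -/
theorem fix_upper (hc : ∀ x : F, -x = x) (h : Cfg (lift (gr A σ))) (hA : AT A) {s : SL3} (hs : s ∈ upper 3 F)
    (hf : lift (gr A σ) (pr s) = pr s) : s = 1 := by
  obtain ⟨hv, v01, v12, v02⟩ := hA.upp σ hs
  rw [lift_pr] at hf
  have hf' := pr_injOn_upper hv hs hf
  rw [hf'] at v01 v12 v02
  obtain ⟨s01, s12⟩ := sec_false hc h hA v01 v12
  by_contra hne
  have hs' := eq_uu hs
  rw [s01, s12] at hs'
  set c := (s : M3) 0 2 with hcdef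
  have hc0 : c ≠ 0 := by
    intro h0
    apply hne
    rw [hs', h0]
    apply Subtype.ext
    change !![(1 : F), 0, 0; 0, 1, 0; 0, 0, 1] = 1
    ext i j
    (revert i j; simp only [_root_.Fin.forall_fin_succ, _root_.Matrix.of_apply, _root_.Matrix.cons_val', _root_.Matrix.cons_val_fin_one, Fin.isValue, _root_.Matrix.cons_val_zero, _root_.Matrix.cons_val_succ, _root_.IsEmpty.forall_iff, _root_.and_true, _root_.Matrix.one_apply_eq, Nat.reduceAdd, _root_.Fin.succ_zero_eq_one, _root_.ne_eq, _root_.zero_ne_one, _root_.not_false_eq_true, _root_.Matrix.one_apply_ne, _root_.Fin.succ_one_eq_two, Fin.reduceEq, _root_.and_self, _root_.Fin.succ_ne_zero, _root_.true_and])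
  -- the action on the centre
  have hcen : ∀ t : F, ∃ t' : F, gr A σ (uu 0 0 t) = uu 0 0 t' ∧ t' * (A : M3) 2 0 = -((A : M3) 0 2 * σ t) := by
    intro t
    obtain ⟨hy, y01, y12, y02⟩ := hA.upp σ (uu_mem 0 0 t)
    have g01 : (uu 0 0 t : M3) 0 1 = 0 := rfl
    have g12 : (uu 0 0 t : M3) 1 2 = 0 := rfl
    have g02 : (uu 0 0 t : M3) 0 2 = t := rfl
    rw [g12, map_zero, mul_zero, neg_zero] at y01
    rw [g01, map_zero, mul_zero, neg_zero] at y12
    have y01' := (mul_eq_zero.1 y01).resolve_right hA.n11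
    have y12' := (mul_eq_zero.1 y12).resolve_right hA.n20
    rw [y01', g01, g12, g02, map_zero, mul_zero, neg_zero, zero_mul, zero_mul, zero_add, zero_add, zero_sub, map_neg,
      mul_neg] at y02
    refine ⟨_, ?_, y02⟩
    have h1 := eq_uu hy
    rwa [y01', y12'] at h1
  have hall : ∀ t : F, t * (A : M3) 2 0 = -((A : M3) 0 2 * σ t) := by
    intro t
    obtain ⟨t', e, e'⟩ := hcen t
    by_cases htt : t' = t
    · rw [htt] at e'
      exact e'
    exfalso
    have hd : t' - t ≠ 0 := sub_ne_zero.2 htt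
    obtain ⟨x, hx⟩ := exists_sq hc (c * (t' - t)⁻¹)
    have hx0 : x ≠ 0 := by
      rintro rfl
      rw [mul_zero] at hx
      exact mul_ne_zero hc0 (inv_ne_zero hd) hx.symm
    let d : SL3 := ⟨!![x, 0, 0; 0, 1, 0; 0, 0, x⁻¹], by rw [Matrix.det_fin_three]; simp [hx0]⟩
    have hd2 : d * uu 0 0 (t' - t) * d⁻¹ = uu 0 0 c := by
      rw [mul_inv_eq_iff_eq_mul]
      apply Subtype.ext
      change !![x, 0, 0; 0, 1, 0; 0, 0, x⁻¹] * !![1, 0, t' - t; 0, 1, 0; 0, 0, 1] =
        !![1, 0, c; 0, 1, 0; 0, 0, 1] * !![x, 0, 0; 0, 1, 0; 0, 0, x⁻¹]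
      have h3 : x * (t' - t) = c * x⁻¹ := by
        field_simp
        have h4 : x * x * (t' - t) = c := by
          rw [hx, mul_assoc, inv_mul_cancel₀ hd, mul_one]
        rw [pow_two, ← h4]
      ext i j
      (revert i j; simp only [Matrix.mul_apply, Fin.sum_univ_three, h3, _root_.Fin.forall_fin_succ, _root_.Matrix.of_apply, _root_.Matrix.cons_val', _root_.Matrix.cons_val_fin_one, Fin.isValue, _root_.Matrix.cons_val_zero, _root_.Matrix.cons_val_one, _root_.Matrix.cons_val, _root_.mul_one, _root_.MulZeroClass.mul_zero, _root_.add_zero, _root_.Matrix.cons_val_succ, _root_.zero_add, _root_.forall_const, _root_.true_and, _root_.one_mul, _root_.and_self, _root_.MulZeroClass.zero_mul, _root_.implies_true])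
    have h5 := h.ccp.not_conj (g := pr (uu 0 0 t)) (k := pr d) (c := pr s) (by rw [lift_pr, hf']) (by
      rw [lift_pr, e, hs', ← hd2, ← uu_zero_mul, map_mul, map_mul, map_mul]
      rfl)
    apply hne
    rw [← map_one pr] at h5
    exact pr_injOn_upper hs (one_mem _) h5
  -- `σ = 1`, `A 0 2 = - A 2 0`
  have h1 := hall 1
  rw [one_mul, map_one, mul_one] at h1
  have hσ : ∀ t, σ t = t := by
    intro t
    have h3 := hall t
    rw [h1, mul_neg, mul_comm] at h3
    have h4 : (A : M3) 0 2 * t = (A : M3) 0 2 * σ t := neg_injective h3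
    exact (mul_left_cancel₀ hA.n02 h4).symm
  -- the element `a = 1`
  have hf2 := sec_false hc h hA (a := 1) (b := -((A : M3) 1 1 * ((A : M3) 2 0)⁻¹)) (by
    rw [hσ, h1, one_mul, mul_neg, ← mul_assoc, neg_neg, inv_neg, mul_neg, mul_comm ((A : M3) 0 2), mul_assoc,
      mul_inv_cancel₀ hA.n02, mul_one, hc]) (by
    rw [hσ, mul_one, neg_mul, mul_assoc, inv_mul_cancel₀ hA.n20, mul_one])
  exact one_ne_zero hf2.1

/-- every element of `U` is `v⁻¹ α(v)`, `v ∈ U` -/
theorem upper_surj (hc : ∀ x : F, -x = x) (h : Cfg (lift (gr A σ))) (hA : AT A) {s : SL3} (hs : s ∈ upper 3 F) :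
    ∃ v ∈ upper 3 F, s = v⁻¹ * gr A σ v := by
  let f : upper 3 F → upper 3 F := fun v => ⟨v.1⁻¹ * gr A σ v.1, mul_mem (inv_mem v.2) (hA.upp σ v.2).1⟩
  have hinj : Function.Injective f := by
    intro v w hvw
    have h1 : v.1⁻¹ * gr A σ v.1 = w.1⁻¹ * gr A σ w.1 := congrArg Subtype.val hvw
    have h2 : gr A σ (w.1 * v.1⁻¹) = w.1 * v.1⁻¹ := by
      rw [map_mul, map_inv]
      calc gr A σ w.1 * (gr A σ v.1)⁻¹ = w.1 * (w.1⁻¹ * gr A σ w.1) * (gr A σ v.1)⁻¹ := by
            rw [mul_inv_cancel_left]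
        _ = w.1 * (v.1⁻¹ * gr A σ v.1) * (gr A σ v.1)⁻¹ := by rw [h1]
        _ = w.1 * v.1⁻¹ := by rw [mul_assoc, mul_assoc, mul_inv_cancel, mul_one]
    have h3 := fix_upper hc h hA (mul_mem w.2 (inv_mem v.2)) (by rw [lift_pr, h2])
    apply Subtype.ext
    rw [mul_inv_eq_one] at h3
    exact h3.symm
  have hsur := Finite.injective_iff_surjective.1 hinj
  obtain ⟨v, hv⟩ := hsur ⟨s, hs⟩
  exact ⟨v.1, v.2, (congrArg Subtype.val hv).symm⟩

/-- no fixed involutions -/
theorem no_invol (hc : ∀ x : F, -x = x) (h : Cfg (lift (gr A σ))) (hA : AT A)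
    {t : Matrix.ProjectiveSpecialLinearGroup (Fin 3) F} (ht : t * t = 1) (hf : lift (gr A σ) t = t) : t = 1 := by
  have h2 : (2 : F) = 0 := by
    have h3 := hc 1
    calc (2 : F) = 1 + 1 := by norm_num
      _ = -1 + 1 := by rw [h3]
      _ = 0 := by norm_num
  have : CharP F 2 := CharTwo.of_one_ne_zero_of_two_eq_zero one_ne_zero h2
  have : Fact (Nat.Prime 2) := ⟨Nat.prime_two⟩
  have hp : IsPGroup 2 (Subgroup.zpowers t) := by
    rw [IsPGroup.iff_orderOf]
    intro x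
    have h3 : orderOf x ∣ 2 ^ 1 := by
      have h4 : orderOf x ∣ Nat.card (Subgroup.zpowers t) := orderOf_dvd_natCard x
      rw [Nat.card_zpowers] at h4
      refine h4.trans ?_
      apply orderOf_dvd_of_pow_eq_one
      rw [pow_one, pow_two]
      exact ht
    obtain ⟨k, -, hk⟩ := (Nat.dvd_prime_pow Nat.prime_two).1 h3
    exact ⟨k, hk⟩
  obtain ⟨P, hP⟩ := hp.exists_le_sylow
  obtain ⟨U, hU⟩ := exists_sylow (F := F) 3 2
  obtain ⟨g, hg⟩ := MulAction.exists_smul_eq (Matrix.ProjectiveSpecialLinearGroup (Fin 3) F) P U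
  have h3 : g * t * g⁻¹ ∈ (U : Subgroup (Matrix.ProjectiveSpecialLinearGroup (Fin 3) F)) := by
    rw [← hg]
    exact ⟨t, hP (Subgroup.mem_zpowers t), rfl⟩
  rw [hU] at h3
  obtain ⟨s, hs, e⟩ := h3
  obtain ⟨v, hv, e2⟩ := upper_surj hc h hA hs
  apply h.ccp.not_conj (g := pr v) (k := g⁻¹) hf
  have e3 : (pr v)⁻¹ * lift (gr A σ) (pr v) = g * t * g⁻¹ := by
    rw [lift_pr, ← e, e2, map_mul]
    rfl
  rw [e3]
  group

/-- invertible anti-diagonal matrices -/
structure AD (A : GL (Fin 3) F) : Prop extends AT A where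
  z00 : (A : M3) 0 0 = 0
  z01 : (A : M3) 0 1 = 0
  z10 : (A : M3) 1 0 = 0

/-- a conjugate by an element of `U` is anti-diagonal -/
theorem exists_ad (hc : ∀ x : F, -x = x) (h : Cfg (lift (gr A σ))) (hA : AT A) :
    ∃ A' : GL (Fin 3) F, AD A' ∧ Cfg (lift (gr A' σ)) := by
  -- `A = v A₀`
  let v : SL3 := uu ((A : M3) 0 1 * ((A : M3) 1 1)⁻¹) ((A : M3) 1 0 * ((A : M3) 2 0)⁻¹) ((A : M3) 0 0 * ((A : M3) 2 0)⁻¹)
  have hv : v ∈ upper 3 F := uu_mem _ _ _
  let A₀ : M3 := !![0, 0, (A : M3) 0 2; 0, (A : M3) 1 1, 0; (A : M3) 2 0, 0, 0]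
  have hvA : (A : M3) = (v : M3) * A₀ := by
    change (A : M3) = !![1, (A : M3) 0 1 * ((A : M3) 1 1)⁻¹, (A : M3) 0 0 * ((A : M3) 2 0)⁻¹;
      0, 1, (A : M3) 1 0 * ((A : M3) 2 0)⁻¹; 0, 0, 1] * A₀
    ext i j
    (revert i j; simp only [Matrix.mul_apply, Fin.sum_univ_three, A₀, hA.z12, hA.z21, hA.z22, hA.n11, hA.n20, _root_.Fin.forall_fin_succ, Fin.isValue, _root_.Matrix.of_apply, _root_.Matrix.cons_val', _root_.Matrix.cons_val_fin_one, _root_.Matrix.cons_val_zero, _root_.Matrix.cons_val_one, _root_.Matrix.cons_val, _root_.MulZeroClass.mul_zero, _root_.add_zero, _root_.zero_add, _root_.Matrix.cons_val_succ, _root_.Fin.succ_zero_eq_one, _root_.Fin.succ_one_eq_two, _root_.IsEmpty.forall_iff, _root_.and_true, _root_.ne_eq, _root_.not_false_eq_true, _root_.inv_mul_cancel_right₀, _root_.one_mul, _root_.and_self, _root_.MulZeroClass.zero_mul])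
  obtain ⟨w, hw, e⟩ := upper_surj hc h hA (inv_mem hv)
  refine ⟨cA w⁻¹ A σ, ?_, ?_⟩
  · -- the matrix is `A₀`
    have hmat : (cA w⁻¹ A σ : M3) = A₀ := by
      rw [coe_cA]
      have h1 := gr_rel A σ w
      have h2 : (((w⁻¹ : SL3) : M3)) * (gr A σ w : M3) = ((v⁻¹ : SL3) : M3) := by
        rw [← Matrix.SpecialLinearGroup.coe_mul, ← e]
      have h3 : ((v⁻¹ : SL3) : M3) * (v : M3) = 1 := by
        rw [← Matrix.SpecialLinearGroup.coe_mul, inv_mul_cancel, Matrix.SpecialLinearGroup.coe_one]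
      calc ((w⁻¹ : SL3) : M3) * (A : M3) * (((w⁻¹ : SL3) : M3)ᵀ).map σ
          = ((w⁻¹ : SL3) : M3) * ((A : M3) * (((w⁻¹ : SL3) : M3)ᵀ).map σ) := by rw [mul_assoc]
        _ = ((w⁻¹ : SL3) : M3) * ((gr A σ w : M3) * (A : M3)) := by rw [h1]
        _ = ((v⁻¹ : SL3) : M3) * (A : M3) := by rw [← mul_assoc, h2]
        _ = A₀ := by rw [hvA, ← mul_assoc, h3, one_mul]
    refine ⟨⟨?_, ?_, ?_, ?_, ?_, ?_⟩, ?_, ?_, ?_⟩ <;> rw [hmat]
    · rfl
    · rfl
    · rfl
    · exact hA.n02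
    · exact hA.n11
    · exact hA.n20
    · rfl
    · rfl
    · rfl
  · rw [← conj_gr]
    exact h.congr _

/-- the diagonal matrices -/
def dg (F : Type) [Field F] [Finite F] : Subgroup (Matrix.SpecialLinearGroup (Fin 3) F) where
  carrier := {s | ∀ i j, i ≠ j → (s : Matrix (Fin 3) (Fin 3) F) i j = 0}
  mul_mem' := by
    intro a b ha hb i j hij
    rw [Matrix.SpecialLinearGroup.coe_mul, Matrix.mul_apply]
    refine Finset.sum_eq_zero fun k _ => ?_
    by_cases hik : i = k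
    · rw [← hik, hb i j hij, mul_zero]
    · rw [ha i k hik, zero_mul]
  one_mem' := by
    intro i j hij
    rw [Matrix.SpecialLinearGroup.coe_one, one_apply_ne hij]
  inv_mem' := by
    intro a ha i j hij
    have e : ((a⁻¹ : Matrix.SpecialLinearGroup (Fin 3) F) : Matrix (Fin 3) (Fin 3) F) * (a : Matrix (Fin 3) (Fin 3) F) = 1 := by
      rw [← Matrix.SpecialLinearGroup.coe_mul, inv_mul_cancel, Matrix.SpecialLinearGroup.coe_one]
    have h1 := congrFun (congrFun e i) j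
    rw [Matrix.mul_apply, Finset.sum_eq_single j, one_apply_ne hij] at h1
    · refine (mul_eq_zero.1 h1).resolve_right ?_
      intro h0
      have h2 := a.2
      rw [Matrix.det_fin_three] at h2
      have ha' : ∀ i j, i ≠ j → (a : Matrix (Fin 3) (Fin 3) F) i j = 0 := ha
      have h3 := ha' 0 1 (by decide)
      have h4 := ha' 0 2 (by decide)
      have h5 := ha' 1 2 (by decide)
      have h6 := ha' 1 0 (by decide)
      have h7 := ha' 2 0 (by decide)
      have h8 := ha' 2 1 (by decide)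
      fin_cases j <;> simp_all only [_root_.ne_eq, _root_.Set.mem_ofPred_eq, _root_.not_false_eq_true, _root_.implies_true, _root_.Matrix.SpecialLinearGroup.coe_inv, _root_.Fin.isValue, _root_.Fin.reduceEq, _root_.MulZeroClass.mul_zero, _root_.sub_zero, _root_.zero_ne_one, _root_.one_ne_zero, _root_.MulZeroClass.zero_mul, _root_.add_zero, _root_.Fin.zero_eta, _root_.mul_eq_zero, _root_.Fin.mk_one, _root_.Fin.reduceFinMk]
    · intro k _ hk
      rw [ha k j hk, mul_zero]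
    · intro h2
      exact absurd (Finset.mem_univ _) h2

theorem mem_dg {s : SL3} : s ∈ dg F ↔ ∀ i j, i ≠ j → (s : M3) i j = 0 := Iff.rfl

/-- the antidiagonal matrix -/
def w0 (hc : ∀ x : F, -x = x) : SL3 := ⟨!![0, 0, 1; 0, 1, 0; 1, 0, 0], by
  rw [Matrix.det_fin_three]
  simp [hc]⟩

theorem w0_mul (hc : ∀ x : F, -x = x) : w0 hc * w0 hc = 1 := by
  apply Subtype.ext
  change !![(0 : F), 0, 1; 0, 1, 0; 1, 0, 0] * !![(0 : F), 0, 1; 0, 1, 0; 1, 0, 0] = 1
  ext i j
  (revert i j; simp only [Matrix.mul_apply, Fin.sum_univ_three, _root_.Fin.forall_fin_succ, _root_.Matrix.of_apply, _root_.Matrix.cons_val', _root_.Matrix.cons_val_fin_one, Fin.isValue, _root_.Matrix.cons_val_zero, _root_.Matrix.cons_val_one, _root_.Matrix.cons_val, _root_.MulZeroClass.mul_zero, _root_.add_zero, _root_.mul_one, _root_.zero_add, _root_.Matrix.cons_val_succ, _root_.IsEmpty.forall_iff, _root_.and_true, _root_.Matrix.one_apply_eq, Nat.reduceAdd, _root_.Fin.succ_zero_eq_one,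 _root_.ne_eq, _root_.zero_ne_one, _root_.not_false_eq_true, _root_.Matrix.one_apply_ne, _root_.Fin.succ_one_eq_two, Fin.reduceEq, _root_.and_self, _root_.Fin.succ_ne_zero, _root_.true_and])

theorem AD.dg (hA : AD A) {s : SL3} (hs : s ∈ dg F) : gr A σ s ∈ dg F := by
  have hs' := mem_dg.1 hs
  have hi := mem_dg.1 (inv_mem hs)
  have htri : Tri (s : M3) := ⟨hs' 1 0 (by decide), hs' 2 0 (by decide), hs' 2 1 (by decide)⟩
  obtain ⟨⟨t10, t20, t21⟩, -⟩ := hA.toAT.tri σ htri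
  have hrel := gr_rel A σ s
  set t := gr A σ s with ht
  have key : ∀ i j, (t : M3) i 0 * (A : M3) 0 j + (t : M3) i 1 * (A : M3) 1 j + (t : M3) i 2 * (A : M3) 2 j =
      (A : M3) i 0 * σ (((s⁻¹ : SL3) : M3) j 0) + (A : M3) i 1 * σ (((s⁻¹ : SL3) : M3) j 1) +
        (A : M3) i 2 * σ (((s⁻¹ : SL3) : M3) j 2) := by
    intro i j
    have h1 := congrFun (congrFun hrel i) j
    rw [Matrix.mul_apply, Matrix.mul_apply, Fin.sum_univ_three, Fin.sum_univ_three] at h1
    exact h1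
  have k01 := key 0 1
  have k00 := key 0 0
  have k10 := key 1 0
  simp only [hA.z00, hA.z01, hA.z10, hA.z12, hA.z21, hi 1 2 (by decide), hi 0 2 (by decide), hi 0 1 (by decide), map_zero,
    mul_zero, zero_mul, add_zero, zero_add] at k01 k00 k10
  have t01 := (mul_eq_zero.1 k01).resolve_right hA.n11
  have t02 := (mul_eq_zero.1 k00).resolve_right hA.n20
  have t12 := (mul_eq_zero.1 k10).resolve_right hA.n20
  rw [mem_dg]
  intro i j hij
  fin_cases i <;> fin_cases j <;> first | exact absurd rfl hij | assumption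

theorem AD.w0 (hc : ∀ x : F, -x = x) (hA : AD A) : (Ccp.w0 hc)⁻¹ * gr A σ (Ccp.w0 hc) ∈ Ccp.dg F := by
  have hinv : (Ccp.w0 hc : SL3)⁻¹ = Ccp.w0 hc := inv_eq_of_mul_eq_one_left (w0_mul hc)
  have hrel := gr_rel A σ (Ccp.w0 hc)
  rw [hinv] at hrel ⊢
  set t := gr A σ (Ccp.w0 hc) with ht
  have key : ∀ i j, (t : M3) i 0 * (A : M3) 0 j + (t : M3) i 1 * (A : M3) 1 j + (t : M3) i 2 * (A : M3) 2 j =
      (A : M3) i 0 * σ ((Ccp.w0 hc : M3) j 0) + (A : M3) i 1 * σ ((Ccp.w0 hc : M3) j 1) +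
        (A : M3) i 2 * σ ((Ccp.w0 hc : M3) j 2) := by
    intro i j
    have h1 := congrFun (congrFun hrel i) j
    rw [Matrix.mul_apply, Matrix.mul_apply, Fin.sum_univ_three, Fin.sum_univ_three] at h1
    exact h1
  have e00 : (Ccp.w0 hc : M3) 0 0 = 0 := rfl
  have e01 : (Ccp.w0 hc : M3) 0 1 = 0 := rfl
  have e02 : (Ccp.w0 hc : M3) 0 2 = 1 := rfl
  have e10 : (Ccp.w0 hc : M3) 1 0 = 0 := rfl
  have e11 : (Ccp.w0 hc : M3) 1 1 = 1 := rfl
  have e12 : (Ccp.w0 hc : M3) 1 2 = 0 := rfl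
  have e20 : (Ccp.w0 hc : M3) 2 0 = 1 := rfl
  have e21 : (Ccp.w0 hc : M3) 2 1 = 0 := rfl
  have e22 : (Ccp.w0 hc : M3) 2 2 = 0 := rfl
  have k10 := key 1 0
  have k20 := key 2 0
  have k01 := key 0 1
  have k21 := key 2 1
  have k02 := key 0 2
  have k12 := key 1 2
  simp only [hA.z00, hA.z01, hA.z10, hA.z12, hA.z21, hA.z22, e00, e01, e02, e10, e11, e12, e20, e21, e22, map_zero,
    mul_zero, zero_mul, add_zero, zero_add] at k10 k20 k01 k21 k02 k12
  have t12 := (mul_eq_zero.1 k10).resolve_right hA.n20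
  have t22 := (mul_eq_zero.1 k20).resolve_right hA.n20
  have t01 := (mul_eq_zero.1 k01).resolve_right hA.n11
  have t21 := (mul_eq_zero.1 k21).resolve_right hA.n11
  have t00 := (mul_eq_zero.1 k02).resolve_right hA.n02
  have t10 := (mul_eq_zero.1 k12).resolve_right hA.n02
  rw [mem_dg]
  intro i j hij
  rw [Matrix.SpecialLinearGroup.coe_mul, Matrix.mul_apply, Fin.sum_univ_three]
  fin_cases i <;> fin_cases j <;> first | exact absurd rfl hij | simp only [e00, e01, e02, e10, e11, e12, e20, e21, e22, t12,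
    t22, t01, t21, t00, t10, _root_.Fin.zero_eta, _root_.Fin.isValue, _root_.Fin.mk_one, _root_.MulZeroClass.mul_zero, _root_.MulZeroClass.zero_mul, _root_.add_zero, _root_.Fin.reduceFinMk]

theorem w0_conj (hc : ∀ x : F, -x = x) {s : SL3} (hs : s ∈ dg F) : w0 hc * s * (w0 hc)⁻¹ ∈ dg F := by
  have hs' := mem_dg.1 hs
  have hinv : (w0 hc : SL3)⁻¹ = w0 hc := inv_eq_of_mul_eq_one_left (w0_mul hc)
  rw [hinv, mem_dg]
  have e00 : (Ccp.w0 hc : M3) 0 0 = 0 := rfl
  have e01 : (Ccp.w0 hc : M3) 0 1 = 0 := rfl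
  have e02 : (Ccp.w0 hc : M3) 0 2 = 1 := rfl
  have e10 : (Ccp.w0 hc : M3) 1 0 = 0 := rfl
  have e11 : (Ccp.w0 hc : M3) 1 1 = 1 := rfl
  have e12 : (Ccp.w0 hc : M3) 1 2 = 0 := rfl
  have e20 : (Ccp.w0 hc : M3) 2 0 = 1 := rfl
  have e21 : (Ccp.w0 hc : M3) 2 1 = 0 := rfl
  have e22 : (Ccp.w0 hc : M3) 2 2 = 0 := rfl
  have h01 := hs' 0 1 (by decide)
  have h02 := hs' 0 2 (by decide)
  have h12 := hs' 1 2 (by decide)
  have h10 := hs' 1 0 (by decide)
  have h20 := hs' 2 0 (by decide)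
  have h21 := hs' 2 1 (by decide)
  intro i j hij
  rw [Matrix.SpecialLinearGroup.coe_mul, Matrix.SpecialLinearGroup.coe_mul, Matrix.mul_apply, Fin.sum_univ_three,
    Matrix.mul_apply, Matrix.mul_apply, Matrix.mul_apply, Fin.sum_univ_three, Fin.sum_univ_three, Fin.sum_univ_three]
  fin_cases i <;> fin_cases j <;> first | exact absurd rfl hij | simp [e00, e01, e02, e10, e11, e12, e20, e21, e22, h01,
    h02, h12, h10, h20, h21]

/-- **characteristic two** -/
theorem even_false (hc : ∀ x : F, -x = x) (h : Cfg (lift (gr A σ))) (hA : AT A) : False := by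
  obtain ⟨A', hA', h'⟩ := exists_ad hc h hA
  clear h hA
  set α := lift (gr A' σ) with hα
  set N : Subgroup (Matrix.ProjectiveSpecialLinearGroup (Fin 3) F) := (dg F).map pr with hNdef
  have hN : ∀ m ∈ N, α m ∈ N := by
    rintro _ ⟨u, hu, rfl⟩
    exact ⟨_, hA'.dg hu, (lift_pr _ _).symm⟩
  set x : Matrix.ProjectiveSpecialLinearGroup (Fin 3) F := pr (w0 hc) with hx
  have hxx : x * x = 1 := by rw [hx, ← map_mul, w0_mul, map_one]
  have hxinv : x⁻¹ = x := inv_eq_of_mul_eq_one_left hxx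
  have hconj : ∀ m ∈ N, x * m * x⁻¹ ∈ N := by
    rintro _ ⟨u, hu, rfl⟩
    exact ⟨_, w0_conj hc hu, by rw [map_mul, map_mul]; rfl⟩
  have hxM : x ∈ Subgroup.normalizer (N : Set (Matrix.ProjectiveSpecialLinearGroup (Fin 3) F)) := by
    rw [Subgroup.mem_normalizer_iff]
    intro y
    refine ⟨fun hy => hconj y hy, fun hy => ?_⟩
    have h1 := hconj _ hy
    rw [hxinv] at h1
    have h5 : x * (x * y * x) * x = y := by
      calc x * (x * y * x) * x = (x * x) * y * (x * x) := by simp only [mul_assoc]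
        _ = y := by rw [hxx, one_mul, mul_one]
    rw [h5] at h1
    exact h1
  have hxα : x⁻¹ * α x ∈ N := ⟨_, hA'.w0 hc, by rw [map_mul]; rfl⟩
  set M := Subgroup.normalizer (N : Set (Matrix.ProjectiveSpecialLinearGroup (Fin 3) F)) with hM
  have hMi := normalizer_inv hN
  have hMn : ∀ m ∈ M, ∀ n ∈ N, m * n * m⁻¹ ∈ N := fun m hm n hn => (Subgroup.mem_normalizer_iff.1 hm n).1 hn
  have hN'n : (N.subgroupOf M).Normal := ⟨fun n hn' m => by
    rw [Subgroup.mem_subgroupOf] at hn' ⊢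
    exact hMn _ m.2 _ hn'⟩
  obtain ⟨c, hcf, hcx⟩ := (h'.ccp.res M hMi).fix_quo (N.subgroupOf M) (by
    intro m hm
    rw [Subgroup.mem_subgroupOf] at hm ⊢
    exact hN _ hm) (x := ⟨x, hxM⟩) (Subgroup.mem_subgroupOf.2 hxα)
  have hcf' : α c.1 = c.1 := congrArg Subtype.val hcf
  have hcx' : c.1⁻¹ * x ∈ N := Subgroup.mem_subgroupOf.1 hcx
  -- `c ∉ N`
  have hxN : x ∉ N := by
    rintro ⟨d, hd, e⟩
    obtain ⟨k, hk⟩ := exists_smul_of_pr_eq e
    have h1 := congrFun (congrFun hk 0) 2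
    rw [Matrix.smul_apply, mem_dg.1 hd 0 2 (by decide), smul_zero] at h1
    have h2 : (w0 hc : M3) 0 2 = 1 := rfl
    rw [h2] at h1
    exact one_ne_zero h1
  have hcN : c.1 ∉ N := by
    intro h1
    apply hxN
    have h2 := mul_mem h1 hcx'
    rwa [mul_inv_cancel_left] at h2
  have hcc : c.1 * c.1 ∈ N := by
    set m := (c.1⁻¹ * x)⁻¹ with hm
    have hmN : m ∈ N := inv_mem hcx'
    have h1 : c.1 = x * m := by
      rw [hm, _root_.mul_inv_rev, inv_inv, mul_inv_cancel_left]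
    have h2 : c.1 * c.1 = (x * m * x⁻¹) * m := by
      rw [h1, hxinv]
      simp only [mul_assoc]
    rw [h2]
    exact mul_mem (hconj m hmN) hmN
  -- the order of `c` is even
  have hev : 2 ∣ orderOf c.1 := by
    by_contra hodd
    apply hcN
    have h1 : Odd (orderOf c.1) := by
      rw [← Nat.not_even_iff_odd, even_iff_two_dvd]
      exact hodd
    obtain ⟨k, hk⟩ := h1
    have h2 : c.1 = (c.1 * c.1) ^ (k + 1) := by
      rw [← pow_two, ← pow_mul]
      have h3 : 2 * (k + 1) = orderOf c.1 + 1 := by omega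
      rw [h3, pow_succ, pow_orderOf_eq_one, one_mul]
    rw [h2]
    exact pow_mem hcc _
  obtain ⟨k, hk⟩ := hev
  have hpos := orderOf_pos c.1
  have h1 : c.1 ^ k * c.1 ^ k = 1 := by
    rw [← pow_add, ← two_mul, ← hk, pow_orderOf_eq_one]
  have h2 : c.1 ^ k = 1 := no_invol hc h' hA'.toAT h1 (by rw [← hα, map_pow, hcf'])
  have h3 := orderOf_dvd_of_pow_eq_one h2
  have h4 := Nat.le_of_dvd (by omega) h3
  omega

end Even

/-- **PSL_3** : a correlation normalising a Sylow `r`-subgroup, `r` the characteristic, is not a minimal configuration. -/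
theorem psl3_corr [Fintype F] {r : ℕ} [Fact r.Prime] [CharP F r]
    {α : MulAut (Matrix.ProjectiveSpecialLinearGroup (Fin 3) F)} (h : Cfg α)
    (hc : ∃ (A : GL (Fin 3) F) (σ : F ≃+* F), α = lift (cj A * fld σ * itr))
    (S : Sylow r (Matrix.ProjectiveSpecialLinearGroup (Fin 3) F)) (hS : ∀ m ∈ S, α m ∈ S) : False := by
  obtain ⟨A, σ, rfl⟩ := hc
  obtain ⟨A', h', hU⟩ := exists_upper (A := A) (σ := σ) h S hS
  by_cases h2 : (2 : F) = 0
  · refine even_false (fun x => ?_) h' (at_of hU)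
    have h3 : x + x = 0 := by rw [← two_mul, h2, zero_mul]
    exact neg_eq_of_add_eq_zero_left h3
  · exact odd_false h2 h' hU

end Cfsg.Agent.H272.Ccp
end

-- part: H272/Ccp/RealFour
section
/-!
# S4114: elements `1 + N`, `N³ = 0`, of `SL_4(F)` are real (helper272)
-/

set_option autoImplicit false
set_option linter.unusedSectionVars false

namespace Cfsg.Agent.H272.Ccp

open Matrix

variable {F : Type} [Field F]

local notation "SL4" => Matrix.SpecialLinearGroup (Fin 4) F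
local notation "M4" => Matrix (Fin 4) (Fin 4) F

/-- linear independence of four vectors -/
def Ind4 (v : Fin 4 → Fin 4 → F) : Prop :=
  ∀ a b c d : F, a • v 0 + b • v 1 + c • v 2 + d • v 3 = 0 → a = 0 ∧ b = 0 ∧ c = 0 ∧ d = 0

/-- the matrix with the given columns -/
def cols (v : Fin 4 → Fin 4 → F) : M4 := Matrix.of fun i j => v j i

theorem cols_mulVec (v : Fin 4 → Fin 4 → F) (x : Fin 4 → F) :
    cols v *ᵥ x = x 0 • v 0 + x 1 • v 1 + x 2 • v 2 + x 3 • v 3 := by
  ext i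
  simp only [cols, Matrix.mulVec, dotProduct, Fin.sum_univ_four, Matrix.of_apply, Pi.add_apply, Pi.smul_apply, smul_eq_mul]
  ring

theorem cols_inj {v : Fin 4 → Fin 4 → F} (h : Ind4 v) : Function.Injective (cols v).mulVec := by
  intro x y hxy
  have h1 : cols v *ᵥ (x - y) = 0 := by
    rw [Matrix.mulVec_sub]
    exact sub_eq_zero.2 hxy
  rw [cols_mulVec] at h1
  obtain ⟨h0, h1, h2, h3⟩ := h _ _ _ _ h1
  ext i
  fin_cases i
  · exact sub_eq_zero.1 h0
  · exact sub_eq_zero.1 h1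
  · exact sub_eq_zero.1 h2
  · exact sub_eq_zero.1 h3

theorem cols_unit {v : Fin 4 → Fin 4 → F} (h : Ind4 v) : IsUnit (cols v) :=
  Matrix.mulVec_injective_iff_isUnit.1 (cols_inj h)

theorem cols_surj {v : Fin 4 → Fin 4 → F} (h : Ind4 v) (z : Fin 4 → F) :
    ∃ x : Fin 4 → F, z = x 0 • v 0 + x 1 • v 1 + x 2 • v 2 + x 3 • v 3 := by
  obtain ⟨x, hx⟩ := Matrix.mulVec_surjective_iff_isUnit.2 (cols_unit h) z
  exact ⟨x, by rw [← cols_mulVec]; exact hx.symm⟩

/-- **criterion** -/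
theorem real_of {E : SL4} {v : Fin 4 → Fin 4 → F} (h : Ind4 v) (J H : M4) (hN : (E : M4) * cols v = cols v * (1 + J))
    (hH : (1 + J) * H * (1 + J) = H) (hdet : H.det = 1) : ∃ g : SL4, g * E * g⁻¹ = E⁻¹ := by
  obtain ⟨P, hP⟩ := cols_unit h
  have e1 : ((P⁻¹ : GL (Fin 4) F) : M4) * (P : M4) = 1 := by rw [← Units.val_mul, inv_mul_cancel, Units.val_one]
  have e2 : (P : M4) * ((P⁻¹ : GL (Fin 4) F) : M4) = 1 := by rw [← Units.val_mul, mul_inv_cancel, Units.val_one]
  rw [← hP] at hN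
  have hd : ((P : M4) * H * ((P⁻¹ : GL (Fin 4) F) : M4)).det = 1 := by
    rw [Matrix.det_mul, Matrix.det_mul, hdet, mul_one, ← Matrix.det_mul, e2, Matrix.det_one]
  let g : SL4 := ⟨(P : M4) * H * ((P⁻¹ : GL (Fin 4) F) : M4), hd⟩
  refine ⟨g, ?_⟩
  have h1 : E * g * E = g := by
    apply Subtype.ext
    change (E : M4) * ((P : M4) * H * ((P⁻¹ : GL (Fin 4) F) : M4)) * (E : M4) = (P : M4) * H * ((P⁻¹ : GL (Fin 4) F) : M4)
    have h2 : ((P⁻¹ : GL (Fin 4) F) : M4) * (E : M4) = (1 + J) * ((P⁻¹ : GL (Fin 4) F) : M4) := by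
      calc ((P⁻¹ : GL (Fin 4) F) : M4) * (E : M4) = ((P⁻¹ : GL (Fin 4) F) : M4) * ((E : M4) *
            ((P : M4) * ((P⁻¹ : GL (Fin 4) F) : M4))) := by rw [e2, mul_one]
        _ = ((P⁻¹ : GL (Fin 4) F) : M4) * (((E : M4) * (P : M4)) * ((P⁻¹ : GL (Fin 4) F) : M4)) := by
            simp only [mul_assoc]
        _ = (((P⁻¹ : GL (Fin 4) F) : M4) * (P : M4)) * (1 + J) * ((P⁻¹ : GL (Fin 4) F) : M4) := by
            rw [hN]; simp only [mul_assoc]
        _ = _ := by rw [e1, one_mul]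
    calc (E : M4) * ((P : M4) * H * ((P⁻¹ : GL (Fin 4) F) : M4)) * (E : M4)
        = ((E : M4) * (P : M4)) * H * (((P⁻¹ : GL (Fin 4) F) : M4) * (E : M4)) := by simp only [mul_assoc]
      _ = (P : M4) * ((1 + J) * H * (1 + J)) * ((P⁻¹ : GL (Fin 4) F) : M4) := by
          rw [hN, h2]; simp only [mul_assoc]
      _ = _ := by rw [hH]
  rw [mul_inv_eq_iff_eq_mul, eq_inv_mul_iff_mul_eq, ← mul_assoc]
  exact h1

theorem exists_not_span (v0 v1 v2 : Fin 4 → F) : ∃ x : Fin 4 → F, ∀ a b c : F, x ≠ a • v0 + b • v1 + c • v2 := by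
  by_contra hcon
  push Not at hcon
  let f : (Fin 3 → F) →ₗ[F] (Fin 4 → F) :=
    { toFun := fun x => x 0 • v0 + x 1 • v1 + x 2 • v2
      map_add' := fun x y => by
        simp only [Pi.add_apply, add_smul]
        abel
      map_smul' := fun c x => by
        simp only [Pi.smul_apply, smul_eq_mul, mul_smul, smul_add, RingHom.id_apply] }
  have hs : Function.Surjective f := by
    intro x
    obtain ⟨a, b, c, h⟩ := hcon x
    exact ⟨![a, b, c], h.symm⟩
  have h1 := LinearMap.finrank_le_finrank_of_surjective hs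
  rw [Module.finrank_fin_fun, Module.finrank_fin_fun] at h1
  omega

section

variable {N : Matrix (Fin 4) (Fin 4) F}

theorem mulVec_cols (v w : Fin 4 → Fin 4 → F) (h : ∀ j, N *ᵥ v j = w j) : N * cols v = cols w := by
  ext i j
  have h1 := congrFun (h j) i
  rw [Matrix.mul_apply]
  exact h1

/-- `N v₀ = v₁`, `N v₁ = v₂`, `N v₂ = N v₃ = 0` -/
theorem real31 {E : SL4} (hE : (E : M4) = 1 + N) {v : Fin 4 → Fin 4 → F} (h : Ind4 v) (h0 : N *ᵥ v 0 = v 1)
    (h1 : N *ᵥ v 1 = v 2) (h2 : N *ᵥ v 2 = 0) (h3 : N *ᵥ v 3 = 0) : ∃ g : SL4, g * E * g⁻¹ = E⁻¹ := by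
  apply real_of h !![0, 0, 0, 0; 1, 0, 0, 0; 0, 1, 0, 0; 0, 0, 0, 0] !![1, 0, 0, 0; 0, -1, 0, 0; 0, 1, 1, 0; 0, 0, 0, -1]
  · rw [hE, add_mul, mul_add, one_mul, mul_one]
    congr 1
    rw [mulVec_cols v ![v 1, v 2, 0, 0] (by
      intro j
      fin_cases j
      · exact h0
      · exact h1
      · exact h2
      · exact h3)]
    ext i j
    (revert j; simp only [cols, Matrix.mul_apply, Fin.sum_univ_four, _root_.Fin.forall_fin_succ, Fin.isValue, _root_.Matrix.cons_val', _root_.Pi.zero_apply, _root_.Matrix.cons_val_fin_one, _root_.Matrix.of_apply, _root_.Matrix.cons_val_zero, _root_.Matrix.cons_val_one, _root_.Matrix.cons_val, _root_.MulZeroClass.mul_zero, _root_.mul_one, _root_.zero_add, _root_.add_zero, _root_.Matrix.cons_val_succ, _root_.implies_true, _root_.and_self])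
  · ext i j
    (revert i j; simp [Cfsg.Agent.Lib.MatLit.r4] <;> and_intros)
  · simp only [Matrix.det_succ_row_zero, Fin.sum_univ_succ, _root_.Matrix.det_succ_row_zero, _root_.Nat.succ_eq_add_one, _root_.Nat.reduceAdd, _root_.Fin.isValue, _root_.Matrix.of_apply, _root_.Matrix.cons_val', _root_.Matrix.cons_val_fin_one, _root_.Matrix.cons_val_zero, _root_.Matrix.submatrix_apply, _root_.Fin.succ_zero_eq_one, _root_.Matrix.cons_val_one, _root_.Matrix.submatrix_submatrix, _root_.Function.comp_apply, _root_.Fin.succ_one_eq_two, _root_.Matrix.cons_val, _root_.Matrix.det_unique, _root_.Fin.default_eq_zero, _root_.Fin.reduceSucc, _root_.Fin.sum_univ_succ, _root_.Fin.coe_ofNat_eq_mod, _root_.Nat.zero_mod, _root_.pow_zero, _root_.one_mul, _root_.Fin.zero_succAbove, _root_.Finset.univ_unique, _root_.Fin.val_succ, _root_.Fin.val_eq_zero, _root_.zero_add, _root_.pow_one, _root_.neg_mul, _root_.ne_eq, _root_.Fin.succ_ne_zero, _root_.not_false_eq_true,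 _root_.Fin.succAbove_ne_zero_zero, _root_.Finset.sum_neg_distrib, _root_.Finset.sum_singleton, _root_.Fin.succ_succAbove_one, _root_.even_two, _root_.Even.neg_pow, _root_.one_pow, _root_.mul_one, _root_.mul_neg, _root_.MulZeroClass.mul_zero, _root_.neg_zero, _root_.add_zero, _root_.neg_neg, _root_.Matrix.cons_val_succ, _root_.MulZeroClass.zero_mul, _root_.Finset.sum_const_zero]

/-- `N v₀ = v₁`, `N v₁ = N v₂ = N v₃ = 0` -/
theorem real211 {E : SL4} (hE : (E : M4) = 1 + N) {v : Fin 4 → Fin 4 → F} (h : Ind4 v) (h0 : N *ᵥ v 0 = v 1)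
    (h1 : N *ᵥ v 1 = 0) (h2 : N *ᵥ v 2 = 0) (h3 : N *ᵥ v 3 = 0) : ∃ g : SL4, g * E * g⁻¹ = E⁻¹ := by
  apply real_of h !![0, 0, 0, 0; 1, 0, 0, 0; 0, 0, 0, 0; 0, 0, 0, 0] !![1, 0, 0, 0; 0, -1, 0, 0; 0, 0, -1, 0; 0, 0, 0, 1]
  · rw [hE, add_mul, mul_add, one_mul, mul_one]
    congr 1
    rw [mulVec_cols v ![v 1, 0, 0, 0] (by
      intro j
      fin_cases j
      · exact h0
      · exact h1
      · exact h2
      · exact h3)]
    ext i j
    (revert j; simp only [cols, Matrix.mul_apply, Fin.sum_univ_four, _root_.Fin.forall_fin_succ, Fin.isValue, _root_.Matrix.cons_val', _root_.Pi.zero_apply, _root_.Matrix.cons_val_fin_one, _root_.Matrix.of_apply, _root_.Matrix.cons_val_zero, _root_.Matrix.cons_val_one, _root_.Matrix.cons_val, _root_.MulZeroClass.mul_zero, _root_.mul_one, _root_.zero_add, _root_.add_zero, _root_.Matrix.cons_val_succ, _root_.implies_true, _root_.and_self])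
  · ext i j
    (revert i j; simp [Cfsg.Agent.Lib.MatLit.r4] <;> and_intros)
  · simp only [Matrix.det_succ_row_zero, Fin.sum_univ_succ, _root_.Matrix.det_succ_row_zero, _root_.Nat.succ_eq_add_one, _root_.Nat.reduceAdd, _root_.Fin.isValue, _root_.Matrix.of_apply, _root_.Matrix.cons_val', _root_.Matrix.cons_val_fin_one, _root_.Matrix.cons_val_zero, _root_.Matrix.submatrix_apply, _root_.Fin.succ_zero_eq_one, _root_.Matrix.cons_val_one, _root_.Matrix.submatrix_submatrix, _root_.Function.comp_apply, _root_.Fin.succ_one_eq_two, _root_.Matrix.cons_val, _root_.Matrix.det_unique, _root_.Fin.default_eq_zero, _root_.Fin.reduceSucc, _root_.Fin.sum_univ_succ, _root_.Fin.coe_ofNat_eq_mod, _root_.Nat.zero_mod, _root_.pow_zero, _root_.one_mul, _root_.Fin.zero_succAbove, _root_.Finset.univ_unique, _root_.Fin.val_succ, _root_.Fin.val_eq_zero, _root_.zero_add, _root_.pow_one, _root_.neg_mul, _root_.ne_eq, _root_.Fin.succ_ne_zero, _root_.not_false_eq_true,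 _root_.Fin.succAbove_ne_zero_zero, _root_.Finset.sum_neg_distrib, _root_.Finset.sum_singleton, _root_.Fin.succ_succAbove_one, _root_.even_two, _root_.Even.neg_pow, _root_.one_pow, _root_.mul_one, _root_.MulZeroClass.mul_zero, _root_.neg_zero, _root_.add_zero, _root_.mul_neg, _root_.neg_neg, _root_.Matrix.cons_val_succ, _root_.MulZeroClass.zero_mul, _root_.Finset.sum_const_zero]

/-- `N v₀ = v₁`, `N v₂ = v₃`, `N v₁ = N v₃ = 0` -/
theorem real22 {E : SL4} (hE : (E : M4) = 1 + N) {v : Fin 4 → Fin 4 → F} (h : Ind4 v) (h0 : N *ᵥ v 0 = v 1)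
    (h1 : N *ᵥ v 1 = 0) (h2 : N *ᵥ v 2 = v 3) (h3 : N *ᵥ v 3 = 0) : ∃ g : SL4, g * E * g⁻¹ = E⁻¹ := by
  apply real_of h !![0, 0, 0, 0; 1, 0, 0, 0; 0, 0, 0, 0; 0, 0, 1, 0] !![1, 0, 0, 0; 0, -1, 0, 0; 0, 0, 1, 0; 0, 0, 0, -1]
  · rw [hE, add_mul, mul_add, one_mul, mul_one]
    congr 1
    rw [mulVec_cols v ![v 1, 0, v 3, 0] (by
      intro j
      fin_cases j
      · exact h0
      · exact h1
      · exact h2
      · exact h3)]
    ext i j
    (revert j; simp only [cols, Matrix.mul_apply, Fin.sum_univ_four, _root_.Fin.forall_fin_succ, Fin.isValue, _root_.Matrix.cons_val', _root_.Pi.zero_apply, _root_.Matrix.cons_val_fin_one, _root_.Matrix.of_apply, _root_.Matrix.cons_val_zero, _root_.Matrix.cons_val_one, _root_.Matrix.cons_val, _root_.MulZeroClass.mul_zero, _root_.mul_one, _root_.zero_add, _root_.add_zero, _root_.Matrix.cons_val_succ, _root_.implies_true, _root_.and_self])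
  · ext i j
    (revert i j; simp [Cfsg.Agent.Lib.MatLit.r4] <;> and_intros)
  · simp only [Matrix.det_succ_row_zero, Fin.sum_univ_succ, _root_.Matrix.det_succ_row_zero, _root_.Nat.succ_eq_add_one, _root_.Nat.reduceAdd, _root_.Fin.isValue, _root_.Matrix.of_apply, _root_.Matrix.cons_val', _root_.Matrix.cons_val_fin_one, _root_.Matrix.cons_val_zero, _root_.Matrix.submatrix_apply, _root_.Fin.succ_zero_eq_one, _root_.Matrix.cons_val_one, _root_.Matrix.submatrix_submatrix, _root_.Function.comp_apply, _root_.Fin.succ_one_eq_two, _root_.Matrix.cons_val, _root_.Matrix.det_unique, _root_.Fin.default_eq_zero, _root_.Fin.reduceSucc, _root_.Fin.sum_univ_succ, _root_.Fin.coe_ofNat_eq_mod, _root_.Nat.zero_mod, _root_.pow_zero, _root_.one_mul, _root_.Fin.zero_succAbove, _root_.Finset.univ_unique, _root_.Fin.val_succ, _root_.Fin.val_eq_zero, _root_.zero_add, _root_.pow_one, _root_.neg_mul, _root_.ne_eq, _root_.Fin.succ_ne_zero, _root_.not_false_eq_true,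 _root_.Fin.succAbove_ne_zero_zero, _root_.Finset.sum_neg_distrib, _root_.Finset.sum_singleton, _root_.Fin.succ_succAbove_one, _root_.even_two, _root_.Even.neg_pow, _root_.one_pow, _root_.mul_one, _root_.mul_neg, _root_.MulZeroClass.mul_zero, _root_.neg_zero, _root_.add_zero, _root_.neg_neg, _root_.Matrix.cons_val_succ, _root_.MulZeroClass.zero_mul, _root_.Finset.sum_const_zero]

theorem real_sq_ne {E : SL4} (hE : (E : M4) = 1 + N) (h3 : N * N * N = 0) (h2 : N * N ≠ 0) :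
    ∃ g : SL4, g * E * g⁻¹ = E⁻¹ := by
  obtain ⟨v, hv⟩ : ∃ v, N *ᵥ (N *ᵥ v) ≠ 0 := by
    by_contra hcon
    push Not at hcon
    apply h2
    apply Matrix.mulVec_injective
    funext v
    rw [← Matrix.mulVec_mulVec, hcon v, Matrix.zero_mulVec]
  have h3' : ∀ x, N *ᵥ (N *ᵥ (N *ᵥ x)) = 0 := by
    intro x
    rw [Matrix.mulVec_mulVec, Matrix.mulVec_mulVec, h3, Matrix.zero_mulVec]
  obtain ⟨x, hx⟩ := exists_not_span v (N *ᵥ v) (N *ᵥ (N *ᵥ v))
  -- independence
  have ind3 : ∀ a b c : F, a • v + b • (N *ᵥ v) + c • (N *ᵥ (N *ᵥ v)) = 0 → a = 0 ∧ b = 0 ∧ c = 0 := by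
    intro a b c h
    have e1 := congrArg (fun z => N *ᵥ z) h
    simp only [Matrix.mulVec_add, Matrix.mulVec_smul, Matrix.mulVec_zero, h3', smul_zero, add_zero] at e1
    have e2 := congrArg (fun z => N *ᵥ z) e1
    simp only [Matrix.mulVec_add, Matrix.mulVec_smul, Matrix.mulVec_zero, h3', smul_zero, add_zero] at e2
    have ha : a = 0 := (smul_eq_zero.1 e2).resolve_right hv
    rw [ha, zero_smul, zero_add] at e1
    have hb : b = 0 := (smul_eq_zero.1 e1).resolve_right hv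
    rw [ha, hb, zero_smul, zero_smul, zero_add, zero_add] at h
    exact ⟨ha, hb, (smul_eq_zero.1 h).resolve_right hv⟩
  have ind4 : ∀ x : Fin 4 → F, (∀ a b c : F, x ≠ a • v + b • (N *ᵥ v) + c • (N *ᵥ (N *ᵥ v))) →
      Ind4 ![v, N *ᵥ v, N *ᵥ (N *ᵥ v), x] := by
    intro x hx a b c d h
    have h' : a • v + b • (N *ᵥ v) + c • (N *ᵥ (N *ᵥ v)) + d • x = 0 := h
    have hd : d = 0 := by
      by_contra hd
      apply hx (-(d⁻¹ * a)) (-(d⁻¹ * b)) (-(d⁻¹ * c))
      have h4 : d • x = -(a • v + b • (N *ᵥ v) + c • (N *ᵥ (N *ᵥ v))) := (neg_eq_of_add_eq_zero_right h').symm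
      have h5 : x = d⁻¹ • (d • x) := by rw [smul_smul, inv_mul_cancel₀ hd, one_smul]
      rw [h5, h4]
      simp only [smul_neg, smul_add, neg_smul, mul_smul]
      abel
    rw [hd, zero_smul, add_zero] at h'
    obtain ⟨ha, hb, hc⟩ := ind3 a b c h'
    exact ⟨ha, hb, hc, hd⟩
  obtain ⟨y, hy⟩ := cols_surj (ind4 x hx) (N *ᵥ x)
  have hy' : N *ᵥ x = y 0 • v + y 1 • (N *ᵥ v) + y 2 • (N *ᵥ (N *ᵥ v)) + y 3 • x := hy
  have e1 : N *ᵥ (N *ᵥ x) = y 0 • (N *ᵥ v) + y 1 • (N *ᵥ (N *ᵥ v)) + y 3 • (N *ᵥ x) := by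
    conv_lhs => rw [hy']
    simp only [Matrix.mulVec_add, Matrix.mulVec_smul, h3', smul_zero, add_zero]
  have e2 : (0 : Fin 4 → F) = y 0 • (N *ᵥ (N *ᵥ v)) + y 3 • (N *ᵥ (N *ᵥ x)) := by
    rw [← h3' x]
    conv_lhs => rw [e1]
    simp only [Matrix.mulVec_add, Matrix.mulVec_smul, h3', smul_zero, add_zero]
  rw [e1, hy'] at e2
  have e3 : (y 3 * (y 3 * y 0)) • v + (y 3 * y 0 + y 3 * (y 3 * y 1)) • (N *ᵥ v) +
      (y 0 + y 3 * y 1 + y 3 * (y 3 * y 2)) • (N *ᵥ (N *ᵥ v)) + (y 3 * (y 3 * y 3)) • x = 0 := by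
    rw [e2]
    simp only [smul_add, add_smul, mul_smul]
    abel
  obtain ⟨-, -, f3, f4⟩ := ind4 x hx _ _ _ _ e3
  have hy3 : y 3 = 0 := by
    rcases mul_eq_zero.1 f4 with h | h
    · exact h
    · rcases mul_eq_zero.1 h with h | h <;> exact h
  rw [hy3, zero_mul, zero_mul, add_zero, add_zero] at f3
  rw [f3, hy3, zero_smul, zero_smul, zero_add, add_zero] at hy'
  -- the fourth vector
  set w := x - y 1 • v - y 2 • (N *ᵥ v) with hw
  have hNw : N *ᵥ w = 0 := by
    rw [hw]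
    simp only [Matrix.mulVec_sub, Matrix.mulVec_smul, hy']
    abel
  have hwi : ∀ a b c : F, w ≠ a • v + b • (N *ᵥ v) + c • (N *ᵥ (N *ᵥ v)) := by
    intro a b c h
    apply hx (a + y 1) (b + y 2) c
    have h4 : x = w + y 1 • v + y 2 • (N *ᵥ v) := by rw [hw]; abel
    rw [h4, h]
    simp only [add_smul]
    abel
  exact real31 hE (ind4 w hwi) rfl rfl (h3' v) hNw

theorem real_sq_zero {E : SL4} (hE : (E : M4) = 1 + N) (h2 : N * N = 0) (h1 : N ≠ 0) :
    ∃ g : SL4, g * E * g⁻¹ = E⁻¹ := by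
  obtain ⟨v, hv⟩ : ∃ v, N *ᵥ v ≠ 0 := by
    by_contra hcon
    push Not at hcon
    apply h1
    apply Matrix.mulVec_injective
    funext v
    rw [hcon v, Matrix.zero_mulVec]
  have h2' : ∀ x, N *ᵥ (N *ᵥ x) = 0 := by
    intro x
    rw [Matrix.mulVec_mulVec, h2, Matrix.zero_mulVec]
  by_cases hr : ∃ x, ∀ c : F, N *ᵥ x ≠ c • (N *ᵥ v)
  · obtain ⟨x, hx⟩ := hr
    refine real22 hE (v := ![v, N *ᵥ v, x, N *ᵥ x]) ?_ rfl (h2' v) rfl (h2' x)
    have key : ∀ a c : F, a • (N *ᵥ v) + c • (N *ᵥ x) = 0 → a = 0 ∧ c = 0 := by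
      intro a c h
      have hc : c = 0 := by
        by_contra hc
        apply hx (-(c⁻¹ * a))
        have h4 : c • (N *ᵥ x) = -(a • (N *ᵥ v)) := (neg_eq_of_add_eq_zero_right h).symm
        have h5 : N *ᵥ x = c⁻¹ • (c • (N *ᵥ x)) := by rw [smul_smul, inv_mul_cancel₀ hc, one_smul]
        rw [h5, h4, smul_neg, neg_smul, mul_smul]
      rw [hc, zero_smul, add_zero] at h
      exact ⟨(smul_eq_zero.1 h).resolve_right hv, hc⟩
    intro a b c d h
    have h' : a • v + b • (N *ᵥ v) + c • x + d • (N *ᵥ x) = 0 := h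
    have e1 := congrArg (fun z => N *ᵥ z) h'
    simp only [Matrix.mulVec_add, Matrix.mulVec_smul, Matrix.mulVec_zero, h2', smul_zero, add_zero] at e1
    obtain ⟨ha, hc⟩ := key a c e1
    rw [ha, hc, zero_smul, zero_smul, zero_add, add_zero] at h'
    obtain ⟨hb, hd⟩ := key b d h'
    exact ⟨ha, hb, hc, hd⟩
  · push Not at hr
    obtain ⟨x, hx⟩ := exists_not_span v (N *ᵥ v) 0
    obtain ⟨y, hy⟩ := exists_not_span v (N *ᵥ v) x
    obtain ⟨p, hp⟩ := hr x
    obtain ⟨q, hq⟩ := hr y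
    refine real211 hE (v := ![v, N *ᵥ v, x - p • v, y - q • v]) ?_ rfl (h2' v) ?_ ?_
    · intro a b c d h
      have h' : a • v + b • (N *ᵥ v) + c • (x - p • v) + d • (y - q • v) = 0 := h
      have e1 : (a - c * p - d * q) • v + b • (N *ᵥ v) + c • x + d • y = 0 := by
        rw [← h']
        simp only [sub_smul, smul_sub, mul_smul]
        abel
      have hd : d = 0 := by
        by_contra hd
        apply hy (-(d⁻¹ * (a - c * p - d * q))) (-(d⁻¹ * b)) (-(d⁻¹ * c))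
        have h4 : d • y = -((a - c * p - d * q) • v + b • (N *ᵥ v) + c • x) := (neg_eq_of_add_eq_zero_right e1).symm
        have h5 : y = d⁻¹ • (d • y) := by rw [smul_smul, inv_mul_cancel₀ hd, one_smul]
        rw [h5, h4]
        simp only [smul_neg, smul_add, neg_smul, mul_smul]
        abel
      rw [hd, zero_mul, sub_zero, zero_smul, add_zero] at e1
      have hc : c = 0 := by
        by_contra hc
        apply hx (-(c⁻¹ * (a - c * p))) (-(c⁻¹ * b)) 0
        have h4 : c • x = -((a - c * p) • v + b • (N *ᵥ v)) := (neg_eq_of_add_eq_zero_right e1).symm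
        have h5 : x = c⁻¹ • (c • x) := by rw [smul_smul, inv_mul_cancel₀ hc, one_smul]
        rw [h5, h4]
        simp only [smul_neg, smul_add, neg_smul, mul_smul, smul_zero, add_zero]
        abel
      rw [hc, zero_mul, sub_zero, zero_smul, add_zero] at e1
      have e2 := congrArg (fun z => N *ᵥ z) e1
      simp only [Matrix.mulVec_add, Matrix.mulVec_smul, Matrix.mulVec_zero, h2', smul_zero, add_zero] at e2
      have ha : a = 0 := (smul_eq_zero.1 e2).resolve_right hv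
      rw [ha, zero_smul, zero_add] at e1
      exact ⟨ha, (smul_eq_zero.1 e1).resolve_right hv, hc, hd⟩
    · show N *ᵥ (x - p • v) = 0
      rw [Matrix.mulVec_sub, Matrix.mulVec_smul, hp, sub_self]
    · show N *ᵥ (y - q • v) = 0
      rw [Matrix.mulVec_sub, Matrix.mulVec_smul, hq, sub_self]

/-- **`1 + N` with `N³ = 0` is real in `SL_4(F)`.** -/
theorem real_four {E : SL4} (hE : (E : M4) = 1 + N) (h3 : N * N * N = 0) : ∃ g : SL4, g * E * g⁻¹ = E⁻¹ := by
  by_cases h2 : N * N = 0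
  · by_cases h1 : N = 0
    · refine ⟨1, ?_⟩
      have : E = 1 := by
        apply Subtype.ext
        rw [hE, h1, add_zero]
        rfl
      rw [this]
      simp
    · exact real_sq_zero hE h2 h1
  · exact real_sq_ne hE h3 h2

end

end Cfsg.Agent.H272.Ccp
end

-- part: H272/Ccp/PslFour
section
/-!
# S4114: correlations of `PSL_4(3)` normalising a Sylow `3`-subgroup (helper272)
-/

set_option autoImplicit false
set_option linter.unusedSectionVars false
set_option linter.unusedSimpArgs false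

namespace Cfsg.Agent.H272.Ccp

open Matrix Cfsg.Agent.H520
open Cfsg.Agent.ClassicalGeometry.AutPSL.Root Cfsg.Agent.ClassicalGeometry.AutPSL.Auto
open Cfsg.Agent.ClassicalGeometry.AutPSL.SylowU

variable {F : Type} [Field F]

local notation "SL4" => Matrix.SpecialLinearGroup (Fin 4) F
local notation "M4" => Matrix (Fin 4) (Fin 4) F

/-- the elements of a field with three elements -/
theorem three_cases [Fintype F] (h3 : Fintype.card F = 3) (x : F) : x = 0 ∨ x = 1 ∨ x = -1 := by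
  by_cases hx : x = 0
  · exact Or.inl hx
  right
  have h1 : x ^ 2 = 1 := by
    have := FiniteField.pow_card_sub_one_eq_one x hx
    rwa [h3] at this
  have h2 : (x - 1) * (x + 1) = 0 := by
    calc (x - 1) * (x + 1) = x ^ 2 - 1 := by ring
      _ = 0 := by rw [h1, sub_self]
  rcases mul_eq_zero.1 h2 with h | h
  · exact Or.inl (sub_eq_zero.1 h)
  · exact Or.inr (eq_neg_of_add_eq_zero_left h)

theorem entries [Finite F] {A : GL (Fin 4) F} (h : ∀ k m : Fin 4, 4 ≤ (k : ℕ) + m → (A : M4) k m = 0) :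
    (A : M4) 3 0 ≠ 0 ∧ (A : M4) 2 1 ≠ 0 ∧ (A : M4) 1 2 ≠ 0 := by
  have z13 := h 1 3 (by decide)
  have z22 := h 2 2 (by decide)
  have z23 := h 2 3 (by decide)
  have z31 := h 3 1 (by decide)
  have z32 := h 3 2 (by decide)
  have z33 := h 3 3 (by decide)
  have hdet : (A : M4).det ≠ 0 := by
    have := (Matrix.isUnit_iff_isUnit_det (A : M4)).1 A.isUnit
    exact this.ne_zero
  have hform : (A : M4).det = (A : M4) 0 3 * ((A : M4) 1 2 * ((A : M4) 2 1 * (A : M4) 3 0)) := by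
    have e : (A : M4) = !![(A : M4) 0 0, (A : M4) 0 1, (A : M4) 0 2, (A : M4) 0 3; (A : M4) 1 0, (A : M4) 1 1,
        (A : M4) 1 2, 0; (A : M4) 2 0, (A : M4) 2 1, 0, 0; (A : M4) 3 0, 0, 0, 0] := by
      ext i j
      (revert i j; simp only [z13, z22, z23, z31, z32, z33, _root_.Fin.forall_fin_succ, Fin.isValue, _root_.Matrix.of_apply, _root_.Matrix.cons_val', _root_.Matrix.cons_val_fin_one, _root_.Matrix.cons_val_zero, _root_.Matrix.cons_val_succ, _root_.Fin.succ_zero_eq_one, _root_.Fin.succ_one_eq_two, Fin.reduceSucc, _root_.IsEmpty.forall_iff, _root_.and_true, _root_.and_self])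
    rw [e]
    generalize (A : M4) 0 0 = a00
    generalize (A : M4) 0 1 = a01
    generalize (A : M4) 0 2 = a02
    generalize (A : M4) 0 3 = a03
    generalize (A : M4) 1 0 = a10
    generalize (A : M4) 1 1 = a11
    generalize (A : M4) 1 2 = a12
    generalize (A : M4) 2 0 = a20
    generalize (A : M4) 2 1 = a21
    generalize (A : M4) 3 0 = a30
    simp only [Matrix.det_succ_row_zero, Fin.sum_univ_succ, Fin.succAbove, _root_.Matrix.det_succ_row_zero, _root_.Nat.succ_eq_add_one, _root_.Nat.reduceAdd, _root_.Fin.isValue, _root_.Matrix.of_apply, _root_.Matrix.cons_val', _root_.Matrix.cons_val_fin_one, _root_.Matrix.cons_val_zero, _root_.Matrix.submatrix_apply, _root_.Fin.succ_zero_eq_one, _root_.Fin.succAbove, _root_.Matrix.cons_val_one, _root_.Matrix.submatrix_submatrix, _root_.Function.comp_apply, _root_.Fin.succ_one_eq_two, _root_.Matrix.cons_val, _root_.Matrix.det_unique, _root_.Fin.default_eq_zero, _root_.Fin.reduceSucc, _root_.Fin.castSucc_zero,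 _root_.Fin.sum_univ_succ, _root_.Fin.coe_ofNat_eq_mod, _root_.Nat.zero_mod, _root_.pow_zero, _root_.one_mul, _root_.lt_self_iff_false, ↓ _root_.reduceIte, _root_.Fin.castSucc_one, _root_.Finset.univ_unique, _root_.Fin.val_succ, _root_.Fin.val_eq_zero, _root_.zero_add, _root_.pow_one, _root_.Fin.castSucc_succ, _root_.neg_mul, _root_.Fin.succ_pos, _root_.Finset.sum_neg_distrib, _root_.Finset.sum_singleton, _root_.not_lt_zero, _root_.Fin.reduceCastSucc, _root_.even_two, _root_.Even.neg_pow, _root_.one_pow, _root_.Fin.reduceLT, _root_.MulZeroClass.mul_zero, _root_.neg_zero, _root_.add_zero, _root_.Matrix.cons_val_succ, _root_.Fin.lt_one_iff, _root_.Fin.reduceEq, _root_.MulZeroClass.zero_mul, _root_.mul_neg]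
    ring
  rw [hform] at hdet
  refine ⟨?_, ?_, ?_⟩ <;> intro h0 <;> apply hdet <;> rw [h0] <;> ring

/-- `A A^{-T}` -/
def dd (A : GL (Fin 4) F) : SL4 := ⟨(A : M4) * (((A⁻¹ : GL (Fin 4) F) : M4)ᵀ), by
  rw [Matrix.det_mul, Matrix.det_transpose, ← Matrix.det_mul, ← Units.val_mul, mul_inv_cancel, Units.val_one,
    Matrix.det_one]⟩

theorem dd_mul (A : GL (Fin 4) F) : (dd A : M4) * (A : M4)ᵀ = (A : M4) := by
  show (A : M4) * (((A⁻¹ : GL (Fin 4) F) : M4)ᵀ) * (A : M4)ᵀ = (A : M4)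
  rw [mul_assoc, ← transpose_mul, ← Units.val_mul, mul_inv_cancel, Units.val_one, transpose_one, mul_one]

theorem gr_gr (A : GL (Fin 4) F) {σ : F ≃+* F} (hσ : ∀ x, σ x = x) (s : SL4) :
    gr A σ (gr A σ s) = dd A * s * (dd A)⁻¹ := by
  have hmap : ∀ X : M4, X.map σ = X := by
    intro X
    ext i j
    exact hσ _
  rw [eq_mul_inv_iff_mul_eq]
  set t := gr A σ s with ht
  have h1 := gr_rel A σ s
  have h2 := gr_rel A σ t
  rw [hmap] at h1 h2
  rw [← ht] at h1
  set u := gr A σ t with hu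
  apply Subtype.ext
  rw [Matrix.SpecialLinearGroup.coe_mul, Matrix.SpecialLinearGroup.coe_mul]
  -- `A sᵀ = t⁻¹ A`
  have e1 : ((s⁻¹ : SL4) : M4)ᵀ * (s : M4)ᵀ = 1 := by
    rw [← transpose_mul, ← Matrix.SpecialLinearGroup.coe_mul, mul_inv_cancel, Matrix.SpecialLinearGroup.coe_one,
      transpose_one]
  have e2 : ((t⁻¹ : SL4) : M4) * (t : M4) = 1 := by
    rw [← Matrix.SpecialLinearGroup.coe_mul, inv_mul_cancel, Matrix.SpecialLinearGroup.coe_one]
  have h3 : (A : M4) * (s : M4)ᵀ = ((t⁻¹ : SL4) : M4) * (A : M4) := by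
    calc (A : M4) * (s : M4)ᵀ = (((t⁻¹ : SL4) : M4) * (t : M4)) * ((A : M4) * (s : M4)ᵀ) := by rw [e2, one_mul]
      _ = ((t⁻¹ : SL4) : M4) * ((t : M4) * (A : M4)) * (s : M4)ᵀ := by simp only [mul_assoc]
      _ = ((t⁻¹ : SL4) : M4) * (A : M4) * (((s⁻¹ : SL4) : M4)ᵀ * (s : M4)ᵀ) := by rw [h1]; simp only [mul_assoc]
      _ = _ := by rw [e1, mul_one]
  have h4 := congrArg Matrix.transpose h3
  rw [transpose_mul, transpose_mul, transpose_transpose] at h4
  -- `u A = A t^{-T}`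
  show (u : M4) * ((A : M4) * (((A⁻¹ : GL (Fin 4) F) : M4)ᵀ)) = (A : M4) * (((A⁻¹ : GL (Fin 4) F) : M4)ᵀ) * (s : M4)
  have e3 : (A : M4)ᵀ * (((A⁻¹ : GL (Fin 4) F) : M4)ᵀ) = 1 := by
    rw [← transpose_mul, ← Units.val_mul, inv_mul_cancel, Units.val_one, transpose_one]
  have e4 : (((A⁻¹ : GL (Fin 4) F) : M4)ᵀ) * (A : M4)ᵀ = 1 := by
    rw [← transpose_mul, ← Units.val_mul, mul_inv_cancel, Units.val_one, transpose_one]
  calc (u : M4) * ((A : M4) * (((A⁻¹ : GL (Fin 4) F) : M4)ᵀ))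
      = (A : M4) * ((t⁻¹ : SL4) : M4)ᵀ * (((A⁻¹ : GL (Fin 4) F) : M4)ᵀ) := by rw [← mul_assoc, h2]
    _ = (A : M4) * ((((A⁻¹ : GL (Fin 4) F) : M4)ᵀ) * (A : M4)ᵀ) * ((t⁻¹ : SL4) : M4)ᵀ *
        (((A⁻¹ : GL (Fin 4) F) : M4)ᵀ) := by rw [e4, mul_one]
    _ = (A : M4) * (((A⁻¹ : GL (Fin 4) F) : M4)ᵀ) * ((A : M4)ᵀ * ((t⁻¹ : SL4) : M4)ᵀ) *
        (((A⁻¹ : GL (Fin 4) F) : M4)ᵀ) := by simp only [mul_assoc]
    _ = (A : M4) * (((A⁻¹ : GL (Fin 4) F) : M4)ᵀ) * (s : M4) * ((A : M4)ᵀ * (((A⁻¹ : GL (Fin 4) F) : M4)ᵀ)) := by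
        rw [← h4]; simp only [mul_assoc]
    _ = _ := by rw [e3, mul_one]

/-- `(A A^{-T})²` is unitriangular -/
theorem dd_sq [Fintype F] (h3 : Fintype.card F = 3) {A : GL (Fin 4) F}
    (h : ∀ k m : Fin 4, 4 ≤ (k : ℕ) + m → (A : M4) k m = 0) : dd A * dd A ∈ upper 4 F := by
  obtain ⟨n30, n21, n12⟩ := entries h
  have z13 := h 1 3 (by decide)
  have z22 := h 2 2 (by decide)
  have z23 := h 2 3 (by decide)
  have z31 := h 3 1 (by decide)
  have z32 := h 3 2 (by decide)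
  have z33 := h 3 3 (by decide)
  have hD := dd_mul A
  have key : ∀ i j, (dd A : M4) i 0 * (A : M4) j 0 + (dd A : M4) i 1 * (A : M4) j 1 + (dd A : M4) i 2 * (A : M4) j 2 +
      (dd A : M4) i 3 * (A : M4) j 3 = (A : M4) i j := by
    intro i j
    have h1 := congrFun (congrFun hD i) j
    rw [Matrix.mul_apply, Fin.sum_univ_four] at h1
    exact h1
  set D := dd A with hDdef
  have k13 := key 1 3
  have k23 := key 2 3
  have k33 := key 3 3
  simp only [z31, z32, z33, z13, z23, mul_zero, add_zero] at k13 k23 k33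
  have d10 := (mul_eq_zero.1 k13).resolve_right n30
  have d20 := (mul_eq_zero.1 k23).resolve_right n30
  have d30 := (mul_eq_zero.1 k33).resolve_right n30
  have k22 := key 2 2
  have k32 := key 3 2
  simp only [d20, d30, z22, z23, z32, mul_zero, zero_mul, add_zero, zero_add] at k22 k32
  have d21 := (mul_eq_zero.1 k22).resolve_right n21
  have d31 := (mul_eq_zero.1 k32).resolve_right n21
  have k31 := key 3 1
  simp only [d30, d31, z13, z31, mul_zero, zero_mul, add_zero, zero_add] at k31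
  have d32 := (mul_eq_zero.1 k31).resolve_right n12
  have hdet : (D : M4) 0 0 * ((D : M4) 1 1 * ((D : M4) 2 2 * (D : M4) 3 3)) = 1 := by
    have e := D.2
    rw [Matrix.det_succ_column_zero, Fin.sum_univ_four] at e
    simp only [d10, d20, d30, mul_zero, zero_mul, add_zero] at e
    have e2 : ((D : M4).submatrix (Fin.succAbove 0) Fin.succ).det = (D : M4) 1 1 * ((D : M4) 2 2 * (D : M4) 3 3) := by
      rw [Matrix.det_fin_three]
      have a1 : ((D : M4).submatrix (Fin.succAbove 0) Fin.succ) 0 0 = (D : M4) 1 1 := rfl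
      have a2 : ((D : M4).submatrix (Fin.succAbove 0) Fin.succ) 1 1 = (D : M4) 2 2 := rfl
      have a3 : ((D : M4).submatrix (Fin.succAbove 0) Fin.succ) 2 2 = (D : M4) 3 3 := rfl
      have a4 : ((D : M4).submatrix (Fin.succAbove 0) Fin.succ) 1 0 = 0 := d21
      have a5 : ((D : M4).submatrix (Fin.succAbove 0) Fin.succ) 2 0 = 0 := d31
      have a6 : ((D : M4).submatrix (Fin.succAbove 0) Fin.succ) 2 1 = 0 := d32
      rw [a1, a2, a3, a4, a5, a6]
      ring
    rw [e2] at e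
    simpa only [_root_.Fin.isValue, _root_.Nat.succ_eq_add_one, _root_.Nat.reduceAdd, _root_.Fin.coe_ofNat_eq_mod, _root_.Nat.zero_mod, _root_.pow_zero, _root_.one_mul] using e
  have hsq : ∀ x : F, x ≠ 0 → x * x = 1 := by
    intro x hx
    rcases three_cases h3 x with h0 | h0 | h0
    · exact absurd h0 hx
    · rw [h0, one_mul]
    · rw [h0]; ring
  have n0 : (D : M4) 0 0 ≠ 0 := by rintro h0; rw [h0, zero_mul] at hdet; exact zero_ne_one hdet
  have n1 : (D : M4) 1 1 ≠ 0 := by rintro h0; rw [h0, zero_mul, mul_zero] at hdet; exact zero_ne_one hdet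
  have n2 : (D : M4) 2 2 ≠ 0 := by rintro h0; rw [h0, zero_mul, mul_zero, mul_zero] at hdet; exact zero_ne_one hdet
  have n3 : (D : M4) 3 3 ≠ 0 := by
    rintro h0; rw [h0, mul_zero, mul_zero, mul_zero] at hdet; exact zero_ne_one hdet
  rw [mem_upper]
  intro i j hij
  rw [Matrix.SpecialLinearGroup.coe_mul, Matrix.mul_apply, Fin.sum_univ_four]
  fin_cases i <;> fin_cases j <;> first
    | exact absurd hij (by decide)
    | simp only [d10, d20, d30, d21, d31, d32, hsq _ n0, hsq _ n1, hsq _ n2, hsq _ n3, _root_.Fin.zero_eta, _root_.Fin.isValue, _root_.MulZeroClass.mul_zero, _root_.add_zero, ↓ _root_.reduceIte, _root_.Fin.mk_one, _root_.MulZeroClass.zero_mul, _root_.one_ne_zero, _root_.zero_add, _root_.Fin.reduceFinMk, _root_.Fin.reduceEq]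

/-- **PSL_4(3)** -/
theorem psl4_three [Fintype F] (h3 : Fintype.card F = 3) {r : ℕ} [Fact r.Prime] [CharP F r]
    {α : MulAut (Matrix.ProjectiveSpecialLinearGroup (Fin 4) F)} (h : Cfg α)
    (hc : ∃ (A : GL (Fin 4) F) (σ : F ≃+* F), α = lift (cj A * fld σ * itr))
    (S : Sylow r (Matrix.ProjectiveSpecialLinearGroup (Fin 4) F)) (hS : ∀ m ∈ S, α m ∈ S) : False := by
  obtain ⟨A₀, σ, rfl⟩ := hc
  obtain ⟨A, h', hU⟩ := exists_upper (A := A₀) (σ := σ) h S hS
  clear h hS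
  have hanti := anti hU
  have hσ : ∀ x, σ x = x := by
    intro x
    rcases three_cases h3 x with h0 | h0 | h0
    · rw [h0, map_zero]
    · rw [h0, map_one]
    · rw [h0, map_neg, map_one]
  have hthree : (3 : F) = 0 := by
    have := Nat.cast_card_eq_zero F
    rw [h3] at this
    exact_mod_cast this
  have hD2 := dd_sq h3 hanti
  set D := dd A with hD
  set α := lift (gr A σ) with hα
  have hα2 : α * α = MulAut.conj (pr D) := by
    apply MulEquiv.ext
    intro x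
    obtain ⟨s, rfl⟩ := pr_surjective x
    rw [MulAut.mul_apply, hα, lift_pr, lift_pr, gr_gr A hσ, MulAut.conj_apply, map_mul, map_mul]
    rfl
  have hDo : (D * D) ^ 3 ^ 6 = 1 := by
    have h1 : (⟨D * D, hD2⟩ : upper 4 F) ^ Nat.card (upper 4 F) = 1 := pow_card_eq_one'
    rw [card_upper, h3] at h1
    exact congrArg Subtype.val h1
  have hpow4 : α ^ 4 = (α * α) * (α * α) := by
    rw [pow_succ, pow_succ, pow_succ, pow_one]
    simp only [mul_assoc]
  -- `3 ∣ orderOf α`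
  have hord : α ^ (4 * 3 ^ 6) = 1 := by
    have h1 : α ^ (4 * 3 ^ 6) = ((α * α) * (α * α)) ^ 3 ^ 6 := by
      rw [pow_mul, hpow4]
    rw [h1, hα2, ← map_mul, ← map_mul, ← map_pow, ← map_pow, hDo, map_one, map_one]
  have h2G : 2 ∣ Nat.card (Matrix.ProjectiveSpecialLinearGroup (Fin 4) F) := by
    -- the image of `diag(-1,-1,1,1)`
    let a : SL4 := ⟨!![-1, 0, 0, 0; 0, -1, 0, 0; 0, 0, 1, 0; 0, 0, 0, 1], by
      simp only [Matrix.det_succ_row_zero, Fin.sum_univ_succ, _root_.Matrix.det_succ_row_zero, _root_.Nat.succ_eq_add_one, _root_.Nat.reduceAdd, _root_.Fin.isValue, _root_.Matrix.of_apply, _root_.Matrix.cons_val', _root_.Matrix.cons_val_fin_one, _root_.Matrix.cons_val_zero, _root_.Matrix.submatrix_apply, _root_.Fin.succ_zero_eq_one, _root_.Matrix.cons_val_one, _root_.Matrix.submatrix_submatrix, _root_.Function.comp_apply, _root_.Fin.succ_one_eq_two, _root_.Matrix.cons_val, _root_.Matrix.det_unique, _root_.Fin.default_eq_zero, _root_.Fin.reduceSucc,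 _root_.Fin.sum_univ_succ, _root_.Fin.coe_ofNat_eq_mod, _root_.Nat.zero_mod, _root_.pow_zero, _root_.one_mul, _root_.Fin.zero_succAbove, _root_.Finset.univ_unique, _root_.Fin.val_succ, _root_.Fin.val_eq_zero, _root_.zero_add, _root_.pow_one, _root_.neg_mul, _root_.ne_eq, _root_.Fin.succ_ne_zero, _root_.not_false_eq_true, _root_.Fin.succAbove_ne_zero_zero, _root_.Finset.sum_neg_distrib, _root_.Finset.sum_singleton, _root_.Fin.succ_succAbove_one, _root_.even_two, _root_.Even.neg_pow, _root_.one_pow, _root_.mul_neg, _root_.mul_one, _root_.MulZeroClass.mul_zero, _root_.neg_zero, _root_.add_zero, _root_.neg_neg, _root_.Matrix.cons_val_succ, _root_.MulZeroClass.zero_mul, _root_.Finset.sum_const_zero]⟩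
    have ha : a * a = 1 := by
      apply Subtype.ext
      change !![(-1 : F), 0, 0, 0; 0, -1, 0, 0; 0, 0, 1, 0; 0, 0, 0, 1] *
        !![(-1 : F), 0, 0, 0; 0, -1, 0, 0; 0, 0, 1, 0; 0, 0, 0, 1] = 1
      ext i j
      (revert i j; simp only [Matrix.mul_apply, Fin.sum_univ_four, _root_.Fin.forall_fin_succ, _root_.Matrix.of_apply, _root_.Matrix.cons_val', _root_.Matrix.cons_val_fin_one, Fin.isValue, _root_.Matrix.cons_val_zero, _root_.Matrix.cons_val_one, _root_.Matrix.cons_val, _root_.mul_neg, _root_.mul_one, _root_.MulZeroClass.mul_zero, _root_.add_zero, _root_.Matrix.cons_val_succ, _root_.zero_add, _root_.IsEmpty.forall_iff, _root_.and_true, _root_.neg_neg, _root_.Matrix.one_apply_eq, _root_.neg_zero, Nat.reduceAdd, _root_.Fin.succ_zero_eq_one, _root_.ne_eq, _root_.zero_ne_one, _root_.not_false_eq_true, _root_.Matrix.one_apply_ne, _root_.Fin.succ_one_eq_two, Fin.reduceEq, Fin.reduceSucc, _root_.and_self, _root_.Fin.succ_ne_zero,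 _root_.neg_eq_zero, _root_.true_and])
    have h1 : orderOf (pr a) = 2 := by
      apply orderOf_eq_prime
      · rw [pow_two, ← map_mul, ha, map_one]
      · intro h0
        rw [← map_one pr] at h0
        obtain ⟨c, hc⟩ := exists_smul_of_pr_eq h0.symm
        have q0 := congrFun (congrFun hc 0) 0
        have q3 := congrFun (congrFun hc 3) 3
        rw [Matrix.smul_apply, Matrix.SpecialLinearGroup.coe_one, one_apply_eq, smul_eq_mul, mul_one] at q0 q3
        have q0' : (-1 : F) = c := q0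
        have q3' : (1 : F) = c := q3
        rw [← q3'] at q0'
        have : (1 : F) = 0 := by
          calc (1 : F) = 3 - 1 - 1 := by norm_num
            _ = 0 := by rw [hthree]; linear_combination q0'
        exact one_ne_zero this
    rw [← h1]
    exact orderOf_dvd_natCard _
  obtain ⟨p, hp, hp2, hpα⟩ := h'.exists_prime_ne Nat.prime_two h2G
  have hp3 : p = 3 := by
    have h1 := hpα.trans (orderOf_dvd_of_pow_eq_one hord)
    rcases (Nat.Prime.dvd_mul hp).1 h1 with h2 | h2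
    · have h4 : p ∣ 2 := hp.dvd_of_dvd_pow (n := 2) (by norm_num; exact h2)
      exact absurd ((Nat.prime_dvd_prime_iff_eq hp Nat.prime_two).1 h4) hp2
    · exact (Nat.prime_dvd_prime_iff_eq hp Nat.prime_three).1 (hp.dvd_of_dvd_pow h2)
  subst hp3
  obtain ⟨y, hy, hyo⟩ := exists_prime_order hp hpα
  obtain ⟨j, hj⟩ := hy
  have hj' : α ^ j = y := hj
  set E : SL4 := (D * D) ^ j with hE
  have hEU : E ∈ upper 4 F := zpow_mem hD2 j
  have hyE : y = MulAut.conj (pr E) := by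
    have h1 : y = y ^ 4 := by
      have h2 : y ^ 3 = 1 := by rw [← hyo]; exact pow_orderOf_eq_one y
      rw [pow_succ, h2, one_mul]
    have h2 : y ^ 4 = ((α * α) * (α * α)) ^ j := by
      rw [← hj', ← zpow_natCast, ← _root_.zpow_mul, mul_comm, _root_.zpow_mul, zpow_natCast, hpow4]
    rw [h1, h2, hα2, ← map_mul, ← map_mul, ← map_zpow, ← map_zpow]
  have hE3 : E ^ 3 = 1 := by
    have h1 : MulAut.conj (pr (E ^ 3)) = MulAut.conj (1 : Matrix.ProjectiveSpecialLinearGroup (Fin 4) F) := by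
      rw [map_one, map_pow, map_pow, ← hyE, ← hyo]
      exact pow_orderOf_eq_one y
    have h2 := conj_inj h'.center_bot h1
    rw [← map_one pr] at h2
    exact pr_injOn_upper (pow_mem hEU 3) (one_mem _) h2
  have hEm : (E : M4) * (E : M4) * (E : M4) = 1 := by
    have h1 := congrArg (fun x : SL4 => (x : M4)) hE3
    simp only [Matrix.SpecialLinearGroup.coe_pow, Matrix.SpecialLinearGroup.coe_one] at h1
    rw [← h1, pow_succ, pow_two]
  have hN : ((E : M4) - 1) * ((E : M4) - 1) * ((E : M4) - 1) = 0 := by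
    have h1 : ((E : M4) - 1) * ((E : M4) - 1) * ((E : M4) - 1) =
        (E : M4) * (E : M4) * (E : M4) - 1 - (3 : F) • ((E : M4) * (E : M4)) + (3 : F) • (E : M4) := by
      have e1 : (3 : F) • ((E : M4) * (E : M4)) = (E : M4) * (E : M4) + (E : M4) * (E : M4) + (E : M4) * (E : M4) := by
        rw [show (3 : F) = 1 + 1 + 1 by norm_num, add_smul, add_smul, one_smul]
      have e2 : (3 : F) • (E : M4) = (E : M4) + (E : M4) + (E : M4) := by
        rw [show (3 : F) = 1 + 1 + 1 by norm_num, add_smul, add_smul, one_smul]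
      rw [e1, e2]
      noncomm_ring
    rw [h1, hEm, hthree, zero_smul, zero_smul]
    simp
  obtain ⟨g, hg⟩ := real_four (E := E) (N := (E : M4) - 1) (by rw [add_sub_cancel]) hN
  have hreal := h'.sq_eq_one_of_real (y := pr E) (by rw [← hyE]; exact ⟨j, hj⟩) (g := pr g) (by
    rw [← hα] at *
    have h1 := congrArg pr hg
    rw [map_mul, map_mul] at h1
    exact h1)
  have h3' : (pr E : Matrix.ProjectiveSpecialLinearGroup (Fin 4) F) ^ 3 = 1 := by rw [← map_pow, hE3, map_one]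
  have hfin : (pr E : Matrix.ProjectiveSpecialLinearGroup (Fin 4) F) = 1 := by
    rw [pow_succ, hreal, one_mul] at h3'
    exact h3'
  rw [hfin, map_one] at hyE
  rw [hyE, orderOf_one] at hyo
  omega

end Cfsg.Agent.H272.Ccp
end

-- part: H272/Ccp/NoSwap
section
/-!
# S4114: `NoSwap r (PSL_n(F))`, `n = 3`, and `n = 4`, `|F| = 3` (helper272)

* `dbl` : `X g Y ∈ B g B` for `g ∈ SL_n`, `X`, `Y` upper triangular with `det X det Y = 1` (`B` the upper triangular
  matrices of determinant 1); from the Bruhat decomposition;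
* `fix_over` : an automorphism without graph part which normalises a Sylow `r`-subgroup (`r` the characteristic) fixes all
  subgroups above the normaliser;
* `noswap_psl3`, `noswap_psl4_three`.
-/

set_option autoImplicit false
set_option linter.unusedSectionVars false

namespace Cfsg.Agent.H272.Ccp

open Matrix Cfsg.Agent.H520
open Cfsg.Agent.ClassicalGeometry.AutPSL.Root Cfsg.Agent.ClassicalGeometry.AutPSL.Auto
open Cfsg.Agent.ClassicalGeometry.AutPSL.SylowU

section Generic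

/-- two overgroups exchanged by an automorphism and both fixed by it are equal -/
theorem eq_of_fix_swap {G : Type*} [Group G] [Finite G] {α : MulAut G} {M₁ M₂ : Subgroup G}
    (hsw : ∀ m ∈ M₁, α m ∈ M₂) (hsw' : ∀ m ∈ M₂, α m ∈ M₁) (h1 : ∀ m ∈ M₁, α m ∈ M₁) (h2 : ∀ m ∈ M₂, α m ∈ M₂) :
    M₁ = M₂ := by
  have key : ∀ {A B : Subgroup G}, (∀ m ∈ A, α m ∈ A) → (∀ m ∈ A, α m ∈ B) → A ≤ B := by
    intro A B hA hB
    have hmap : A.map α.toMonoidHom = A := by
      refine Subgroup.eq_of_le_of_card_ge ?_ ?_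
      · rintro _ ⟨b, hb, rfl⟩
        exact hA b hb
      · exact (Nat.card_congr (A.equivMapOfInjective α.toMonoidHom α.injective).toEquiv).le
    intro a ha
    rw [← hmap] at ha
    obtain ⟨b, hb, rfl⟩ := ha
    exact hB b hb
  exact le_antisymm (key h1 hsw) (key h2 hsw')

/-- transport to another Sylow subgroup -/
theorem fix_of_conj {G : Type*} [Group G] {r : ℕ} {α : MulAut G} {S U : Sylow r G} {x : G} (hx : x • S = U)
    (hfix : ∀ M : Subgroup G, Subgroup.normalizer ((U : Subgroup G) : Set G) ≤ M →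
      ∀ m ∈ M, MulAut.congr (MulAut.conj x) α m ∈ M) {M : Subgroup G}
    (hM : Subgroup.normalizer ((S : Subgroup G) : Set G) ≤ M) : ∀ m ∈ M, α m ∈ M := by
  intro m hm
  have hcoe : (U : Subgroup G) = (S : Subgroup G).map (MulAut.conj x).toMonoidHom := by
    rw [← hx]
    rfl
  have hN : Subgroup.normalizer ((U : Subgroup G) : Set G) =
      (Subgroup.normalizer ((S : Subgroup G) : Set G)).map (MulAut.conj x).toMonoidHom := by
    rw [hcoe]
    exact (Subgroup.map_equiv_normalizer_eq (S : Subgroup G) (MulAut.conj x)).symm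
  obtain ⟨m', hm', e⟩ := hfix (M.map (MulAut.conj x).toMonoidHom) (by rw [hN]; exact Subgroup.map_mono hM)
    (MulAut.conj x m) ⟨m, hm, rfl⟩
  rw [congr_ap] at e
  have : m' = α m := (MulAut.conj x).injective e
  rw [← this]
  exact hm'

end Generic

variable {F : Type} [Field F] {n : ℕ}

/-- an element of `GL_n` of determinant one -/
def slOf (X : GL (Fin n) F) (h : (X : Matrix (Fin n) (Fin n) F).det = 1) : Matrix.SpecialLinearGroup (Fin n) F := ⟨X, h⟩

theorem toGL_slOf (X : GL (Fin n) F) (h : (X : Matrix (Fin n) (Fin n) F).det = 1) :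
    Matrix.SpecialLinearGroup.toGL (slOf X h) = X := Units.ext rfl

/-- `diag(c, 1, …, 1)` -/
noncomputable def dgl (i₀ : Fin n) (c : Fˣ) : GL (Fin n) F :=
  ⟨diagonal (Function.update 1 i₀ (c : F)), diagonal (Function.update 1 i₀ ((c⁻¹ : Fˣ) : F)), by
    rw [diagonal_mul_diagonal, ← diagonal_one]
    congr 1
    funext i
    rcases eq_or_ne i i₀ with rfl | hi
    · simp
    · simp [Function.update_of_ne hi], by
    rw [diagonal_mul_diagonal, ← diagonal_one]
    congr 1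
    funext i
    rcases eq_or_ne i i₀ with rfl | hi
    · simp
    · simp [Function.update_of_ne hi]⟩

theorem det_dgl (i₀ : Fin n) (c : Fˣ) : ((dgl i₀ c : GL (Fin n) F) : Matrix (Fin n) (Fin n) F).det = c := by
  show (diagonal (Function.update 1 i₀ (c : F))).det = c
  rw [det_diagonal, Finset.prod_update_of_mem (Finset.mem_univ _)]
  simp only [_root_.Pi.one_apply, _root_.Finset.prod_const_one, _root_.mul_one]

/-- conjugates of diagonal matrices by permutation matrices are upper triangular -/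
theorem perm_diag (σ : Equiv.Perm (Fin n)) (d : GL (Fin n) F)
    (hd : ∀ i j, i ≠ j → (d : Matrix (Fin n) (Fin n) F) i j = 0) :
    (Cfsg.Agent.H139.Bruhat.permGL F n σ)⁻¹ * d * Cfsg.Agent.H139.Bruhat.permGL F n σ ∈ Cfsg.upperTriangularGL n F := by
  show ((((Cfsg.Agent.H139.Bruhat.permGL F n σ)⁻¹ * d * Cfsg.Agent.H139.Bruhat.permGL F n σ : GL (Fin n) F)) :
    Matrix (Fin n) (Fin n) F).BlockTriangular id
  intro i j hij
  have hij' : j < i := hij
  rw [← map_inv, mul_assoc, Units.val_mul, Cfsg.Agent.H139.Bruhat.permGL_mul_apply, Units.val_mul, mul_apply,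
    Finset.sum_eq_single (σ i)]
  · rw [inv_inv, Cfsg.Agent.H139.Bruhat.coe_permGL, Equiv.Perm.permMatrix]
    have h1 : (σ⁻¹ : Equiv.Perm (Fin n)).toPEquiv.toMatrix (α := F) (σ i) j = 0 := by
      rw [PEquiv.toMatrix_apply, if_neg]
      intro h2
      rw [Equiv.toPEquiv_apply, Option.mem_some_iff] at h2
      have h3 : (σ⁻¹ : Equiv.Perm (Fin n)) (σ i) = i := by simp
      rw [h3] at h2
      exact hij'.ne h2.symm
    rw [h1, mul_zero]
  · intro k _ hk
    rw [inv_inv, hd _ _ (Ne.symm hk), zero_mul]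
  · intro h
    exact absurd (Finset.mem_univ _) h

/-- `X g Y ∈ B g B` -/
theorem dbl {X Y : GL (Fin n) F} (hX : X ∈ Cfsg.upperTriangularGL n F) (hY : Y ∈ Cfsg.upperTriangularGL n F)
    (hXY : (X : Matrix (Fin n) (Fin n) F).det * (Y : Matrix (Fin n) (Fin n) F).det = 1) (g : GL (Fin n) F) :
    ∃ b b' : Matrix.SpecialLinearGroup (Fin n) F, Matrix.SpecialLinearGroup.toGL b ∈ Cfsg.upperTriangularGL n F ∧
      Matrix.SpecialLinearGroup.toGL b' ∈ Cfsg.upperTriangularGL n F ∧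
      X * g * Y = Matrix.SpecialLinearGroup.toGL b * g * Matrix.SpecialLinearGroup.toGL b' := by
  rcases Nat.eq_zero_or_pos n with hn | hn
  · subst hn
    exact ⟨1, 1, by rw [map_one]; exact one_mem _, by rw [map_one]; exact one_mem _, Subsingleton.elim _ _⟩
  obtain ⟨u, hu, σ, v, hv, rfl⟩ := Cfsg.Agent.H139.Bruhat.bruhat g
  set P := Cfsg.Agent.H139.Bruhat.permGL F n σ with hP
  let i₀ : Fin n := ⟨0, hn⟩
  let δ : Fˣ := Units.mk0 _ (left_ne_zero_of_mul_eq_one hXY)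
  have hδ : (δ : F) = (X : Matrix (Fin n) (Fin n) F).det := rfl
  set d : GL (Fin n) F := dgl i₀ δ with hd
  have hdiag : ∀ i j, i ≠ j → (d : Matrix (Fin n) (Fin n) F) i j = 0 := fun i j hij => diagonal_apply_ne _ hij
  have hdU : d ∈ Cfsg.upperTriangularGL n F := by
    show (d : Matrix (Fin n) (Fin n) F).BlockTriangular id
    intro i j hij
    exact hdiag _ _ (ne_of_gt hij)
  have hdet : (d : Matrix (Fin n) (Fin n) F).det = (X : Matrix (Fin n) (Fin n) F).det := by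
    rw [hd, det_dgl, hδ]
  have hdet' : Matrix.GeneralLinearGroup.det d = Matrix.GeneralLinearGroup.det X := Units.ext hdet
  have hXY' : Matrix.GeneralLinearGroup.det X * Matrix.GeneralLinearGroup.det Y = 1 := Units.ext hXY
  -- `X g Y = (X d⁻¹ (d u d⁻¹ u⁻¹)) (u P v) (v⁻¹ (P⁻¹ d P) v Y)`
  set L : GL (Fin n) F := X * d⁻¹ * (d * u * d⁻¹ * u⁻¹) with hL
  set R : GL (Fin n) F := v⁻¹ * (P⁻¹ * d * P) * v * Y with hR
  have hLU : L ∈ Cfsg.upperTriangularGL n F :=
    mul_mem (mul_mem hX (inv_mem hdU)) (mul_mem (mul_mem (mul_mem hdU hu) (inv_mem hdU)) (inv_mem hu))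
  have hRU : R ∈ Cfsg.upperTriangularGL n F :=
    mul_mem (mul_mem (mul_mem (inv_mem hv) (perm_diag σ d hdiag)) hv) hY
  have hLd : (L : Matrix (Fin n) (Fin n) F).det = 1 := by
    have h1 : Matrix.GeneralLinearGroup.det L = 1 := by
      rw [hL]
      simp only [map_mul, map_inv, hdet']
      have h2 : ∀ a c : Fˣ, a * a⁻¹ * (a * c * a⁻¹ * c⁻¹) = 1 := by
        intro a c
        rw [mul_inv_cancel, one_mul, mul_right_comm a c a⁻¹, mul_inv_cancel, one_mul, mul_inv_cancel]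
      exact h2 _ _
    exact congrArg Units.val h1
  have hRd : (R : Matrix (Fin n) (Fin n) F).det = 1 := by
    have h1 : Matrix.GeneralLinearGroup.det R = 1 := by
      rw [hR]
      simp only [map_mul, map_inv, hdet']
      rw [← hXY']
      have h2 : ∀ a b c e : Fˣ, a⁻¹ * (b⁻¹ * c * b) * a * e = c * e := by
        intro a b c e
        rw [mul_right_comm b⁻¹ c b, inv_mul_cancel, one_mul, mul_right_comm a⁻¹ c a, inv_mul_cancel, one_mul]
      exact h2 _ _ _ _
    exact congrArg Units.val h1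
  refine ⟨slOf L hLd, slOf R hRd, ?_, ?_, ?_⟩
  · rw [toGL_slOf]; exact hLU
  · rw [toGL_slOf]; exact hRU
  · rw [toGL_slOf, toGL_slOf, hL, hR]
    group

/-- `s ↦ A s^σ A⁻¹` -/
def nf (A : GL (Fin n) F) (σ : F ≃+* F) : MulAut (Matrix.SpecialLinearGroup (Fin n) F) := cj A * fld σ

theorem toGL_nf (A : GL (Fin n) F) (σ : F ≃+* F) (s : Matrix.SpecialLinearGroup (Fin n) F) :
    Matrix.SpecialLinearGroup.toGL (nf A σ s) = A * Matrix.SpecialLinearGroup.toGL (fld σ s) * A⁻¹ := Units.ext rfl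

/-- the field automorphism on `GL_n` -/
def gm (σ : F ≃+* F) : GL (Fin n) F →* GL (Fin n) F := Matrix.GeneralLinearGroup.map (σ : F →+* F)

theorem gm_apply (σ : F ≃+* F) (X : GL (Fin n) F) (i j : Fin n) :
    (gm σ X : Matrix (Fin n) (Fin n) F) i j = σ ((X : Matrix (Fin n) (Fin n) F) i j) := rfl

theorem gm_toGL (σ : F ≃+* F) (s : Matrix.SpecialLinearGroup (Fin n) F) :
    Matrix.SpecialLinearGroup.toGL (fld σ s) = gm σ (Matrix.SpecialLinearGroup.toGL s) := Units.ext rfl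

theorem gm_mem (σ : F ≃+* F) {X : GL (Fin n) F} (h : X ∈ Cfsg.upperTriangularGL n F) :
    gm σ X ∈ Cfsg.upperTriangularGL n F := by
  show (gm σ X : Matrix (Fin n) (Fin n) F).BlockTriangular id
  intro i j hij
  rw [gm_apply]
  have h1 : (X : Matrix (Fin n) (Fin n) F) i j = 0 := h hij
  rw [h1, map_zero]

theorem gm_perm (σ : F ≃+* F) (τ : Equiv.Perm (Fin n)) :
    gm σ (Cfsg.Agent.H139.Bruhat.permGL F n τ) = Cfsg.Agent.H139.Bruhat.permGL F n τ := by
  apply Units.ext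
  ext i j
  show σ ((Cfsg.Agent.H139.Bruhat.permGL F n τ : Matrix (Fin n) (Fin n) F) i j) = _
  rw [Cfsg.Agent.H139.Bruhat.coe_permGL, Equiv.Perm.permMatrix, PEquiv.toMatrix_apply]
  split_ifs <;> simp

/-- the value at `g` is in `B g B` -/
theorem nf_dbl {A : GL (Fin n) F} (hA : A ∈ Cfsg.upperTriangularGL n F) (σ : F ≃+* F)
    (s : Matrix.SpecialLinearGroup (Fin n) F) :
    ∃ b b' : Matrix.SpecialLinearGroup (Fin n) F, Matrix.SpecialLinearGroup.toGL b ∈ Cfsg.upperTriangularGL n F ∧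
      Matrix.SpecialLinearGroup.toGL b' ∈ Cfsg.upperTriangularGL n F ∧ nf A σ s = b * s * b' := by
  obtain ⟨u, hu, τ, v, hv, hs⟩ := Cfsg.Agent.H139.Bruhat.bruhat (Matrix.SpecialLinearGroup.toGL s)
  have hX : A * gm σ u * u⁻¹ ∈ Cfsg.upperTriangularGL n F := mul_mem (mul_mem hA (gm_mem σ hu)) (inv_mem hu)
  have hY : v⁻¹ * gm σ v * A⁻¹ ∈ Cfsg.upperTriangularGL n F := mul_mem (mul_mem (inv_mem hv) (gm_mem σ hv)) (inv_mem hA)
  have heq : Matrix.SpecialLinearGroup.toGL (nf A σ s) =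
      (A * gm σ u * u⁻¹) * Matrix.SpecialLinearGroup.toGL s * (v⁻¹ * gm σ v * A⁻¹) := by
    rw [toGL_nf, gm_toGL, hs, map_mul, map_mul, gm_perm]
    group
  have hdt : ((A * gm σ u * u⁻¹ : GL (Fin n) F) : Matrix (Fin n) (Fin n) F).det *
      ((v⁻¹ * gm σ v * A⁻¹ : GL (Fin n) F) : Matrix (Fin n) (Fin n) F).det = 1 := by
    have h1 := congrArg Matrix.GeneralLinearGroup.det heq
    have h2 : ∀ t : Matrix.SpecialLinearGroup (Fin n) F,
        Matrix.GeneralLinearGroup.det (Matrix.SpecialLinearGroup.toGL t) = 1 := fun t => Units.ext t.2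
    rw [map_mul, map_mul, h2, h2, mul_one] at h1
    exact (congrArg Units.val h1).symm
  obtain ⟨b, b', h1, h2, h3⟩ := dbl hX hY hdt (Matrix.SpecialLinearGroup.toGL s)
  refine ⟨b, b', h1, h2, ?_⟩
  apply Matrix.SpecialLinearGroup.toGL_injective
  rw [heq, h3, map_mul, map_mul]

/-- `A` is upper triangular -/
theorem nf_up [Finite F] {A : GL (Fin n) F} {σ : F ≃+* F} (h : ∀ u ∈ upper n F, nf A σ u ∈ upper n F) :
    A ∈ Cfsg.upperTriangularGL n F := by
  show (A : Matrix (Fin n) (Fin n) F).BlockTriangular id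
  have key : ∀ (d : ℕ) (k : Fin n), n - 1 - (k : ℕ) = d → ∀ m : Fin n, m < k →
      (A : Matrix (Fin n) (Fin n) F) k m = 0 := by
    intro d
    induction d using Nat.strong_induction_on with
    | _ d ih =>
      intro k hk m hmk
      have hmk' : (m : ℕ) < k := hmk
      let j : Fin n := ⟨(m : ℕ) + 1, by have := k.2; omega⟩
      have hij : m < j := by
        rw [Fin.lt_def]
        show (m : ℕ) < m + 1
        omega
      have h1 := h _ (transvection_mem_upper hij (1 : F))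
      have h2 : ((nf A σ (Matrix.SpecialLinearGroup.transvection hij.ne (1 : F)) : Matrix.SpecialLinearGroup (Fin n) F) :
          Matrix (Fin n) (Fin n) F) * (A : Matrix (Fin n) (Fin n) F) =
          (A : Matrix (Fin n) (Fin n) F) * (1 + single m j (1 : F)) := by
        have e1 : fld σ (Matrix.SpecialLinearGroup.transvection hij.ne (1 : F)) =
            Matrix.SpecialLinearGroup.transvection hij.ne (1 : F) := by
          rw [fld_transvection, map_one]
        have e2 : nf A σ (Matrix.SpecialLinearGroup.transvection hij.ne (1 : F)) =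
          cj A (fld σ (Matrix.SpecialLinearGroup.transvection hij.ne (1 : F))) := rfl
        rw [e2, e1, coe_cj, mul_assoc, ← Units.val_mul, inv_mul_cancel, Units.val_one, mul_one]
        rfl
      set w := nf A σ (Matrix.SpecialLinearGroup.transvection hij.ne (1 : F)) with hw
      have h4 := congrFun (congrFun h2 k) j
      rw [mul_add, mul_one, Matrix.add_apply, Matrix.mul_single_apply_same, mul_one, Matrix.mul_apply,
        Finset.sum_eq_single k] at h4
      · rw [h1 k k le_rfl, if_pos rfl, one_mul] at h4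
        have h6 : (A : Matrix (Fin n) (Fin n) F) k j = (A : Matrix (Fin n) (Fin n) F) k j +
          (A : Matrix (Fin n) (Fin n) F) k m := h4
        exact (left_eq_add.1 h6)
      · intro l _ hl
        rcases lt_or_gt_of_ne hl with h5 | h5
        · rw [h1 k l h5.le, if_neg (Ne.symm hl), zero_mul]
        · have h6 : (A : Matrix (Fin n) (Fin n) F) l j = 0 := by
            have h5' : (k : ℕ) < l := h5
            refine ih (n - 1 - (l : ℕ)) ?_ l rfl j ?_
            · have := l.2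
              omega
            · show (m : ℕ) + 1 < l
              omega
          rw [h6, mul_zero]
      · intro h5
        exact absurd (Finset.mem_univ _) h5
  intro i j hij
  exact key _ i rfl j hij

/-- the image of the upper triangular matrices normalises the image of the unitriangular ones -/
theorem up_le_norm [Finite F] {b : Matrix.SpecialLinearGroup (Fin n) F}
    (hb : Matrix.SpecialLinearGroup.toGL b ∈ Cfsg.upperTriangularGL n F) :
    pr b ∈ Subgroup.normalizer (((upper n F).map pr : Subgroup (Matrix.ProjectiveSpecialLinearGroup (Fin n) F)) :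
      Set (Matrix.ProjectiveSpecialLinearGroup (Fin n) F)) := by
  have key : ∀ b : Matrix.SpecialLinearGroup (Fin n) F, Matrix.SpecialLinearGroup.toGL b ∈ Cfsg.upperTriangularGL n F →
      ∀ u ∈ upper n F, b * u * b⁻¹ ∈ upper n F := by
    intro b hb u hu
    have hbt : ∀ i j : Fin n, j < i → (b : Matrix (Fin n) (Fin n) F) i j = 0 := fun i j hij => hb hij
    have hbi : ∀ i j : Fin n, j < i → ((b⁻¹ : Matrix.SpecialLinearGroup (Fin n) F) : Matrix (Fin n) (Fin n) F) i j = 0 := by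
      intro i j hij
      have h1 : Matrix.SpecialLinearGroup.toGL (b⁻¹) ∈ Cfsg.upperTriangularGL n F := by
        rw [map_inv]
        exact inv_mem hb
      exact h1 hij
    have hu' := mem_upper.1 hu
    have hub : ∀ i j : Fin n, j ≤ i → ((b * u : Matrix.SpecialLinearGroup (Fin n) F) : Matrix (Fin n) (Fin n) F) i j =
        (b : Matrix (Fin n) (Fin n) F) i j := by
      intro i j hij
      rw [Matrix.SpecialLinearGroup.coe_mul, mul_apply, Finset.sum_eq_single j]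
      · rw [hu' j j le_rfl, if_pos rfl, mul_one]
      · intro k _ hk
        rcases lt_or_gt_of_ne hk with h5 | h5
        · rw [hbt i k (lt_of_lt_of_le h5 hij), zero_mul]
        · rw [hu' k j h5.le, if_neg hk, mul_zero]
      · intro h5
        exact absurd (Finset.mem_univ _) h5
    rw [mem_upper]
    intro i j hij
    have h1 : (1 : Matrix (Fin n) (Fin n) F) i j = if i = j then 1 else 0 := one_apply
    have e1 : ((b * u * b⁻¹ : Matrix.SpecialLinearGroup (Fin n) F) : Matrix (Fin n) (Fin n) F) i j =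
        ∑ k, ((b * u : Matrix.SpecialLinearGroup (Fin n) F) : Matrix (Fin n) (Fin n) F) i k *
          ((b⁻¹ : Matrix.SpecialLinearGroup (Fin n) F) : Matrix (Fin n) (Fin n) F) k j := by
      rw [Matrix.SpecialLinearGroup.coe_mul (b * u), mul_apply]
    have e2 : (1 : Matrix (Fin n) (Fin n) F) i j =
        ∑ k, (b : Matrix (Fin n) (Fin n) F) i k *
          ((b⁻¹ : Matrix.SpecialLinearGroup (Fin n) F) : Matrix (Fin n) (Fin n) F) k j := by
      rw [← Matrix.SpecialLinearGroup.coe_one, ← mul_inv_cancel b, Matrix.SpecialLinearGroup.coe_mul, mul_apply]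
    rw [← h1, e1, e2]
    apply Finset.sum_congr rfl
    intro k _
    rcases le_or_gt k i with h5 | h5
    · rw [hub i k h5]
    · rw [hbi k j (lt_of_le_of_lt hij h5), mul_zero, mul_zero]
  have key2 : ∀ b : Matrix.SpecialLinearGroup (Fin n) F, Matrix.SpecialLinearGroup.toGL b ∈ Cfsg.upperTriangularGL n F →
      ∀ y ∈ (upper n F).map pr, pr b * y * (pr b)⁻¹ ∈ (upper n F).map pr := by
    rintro b hb _ ⟨u, hu, rfl⟩
    exact ⟨_, key b hb u hu, by rw [map_mul, map_mul, map_inv]⟩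
  rw [Subgroup.mem_normalizer_iff]
  intro y
  refine ⟨fun hy => key2 b hb y hy, fun hy => ?_⟩
  have hbi : Matrix.SpecialLinearGroup.toGL (b⁻¹) ∈ Cfsg.upperTriangularGL n F := by
    rw [map_inv]
    exact inv_mem hb
  have h1 := key2 b⁻¹ hbi _ hy
  rw [map_inv, inv_inv] at h1
  have h2 : (pr b)⁻¹ * (pr b * y * (pr b)⁻¹) * pr b = y := by group
  rwa [h2] at h1

/-- the standard case -/
theorem fix_std [Fintype F] {r : ℕ} [Fact r.Prime] [CharP F r] {A : GL (Fin n) F} {σ : F ≃+* F}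
    (h : ∀ m ∈ (upper n F).map pr, lift (nf A σ) m ∈ (upper n F).map pr)
    {M : Subgroup (Matrix.ProjectiveSpecialLinearGroup (Fin n) F)}
    (hM : Subgroup.normalizer (((upper n F).map pr : Subgroup (Matrix.ProjectiveSpecialLinearGroup (Fin n) F)) :
      Set (Matrix.ProjectiveSpecialLinearGroup (Fin n) F)) ≤ M) : ∀ m ∈ M, lift (nf A σ) m ∈ M := by
  have hA := nf_up (upper_of_map (r := r) h)
  intro m hm
  obtain ⟨s, rfl⟩ := pr_surjective m
  obtain ⟨b, b', h1, h2, h3⟩ := nf_dbl hA σ s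
  rw [lift_pr, h3, map_mul, map_mul]
  exact mul_mem (mul_mem (hM (up_le_norm h1)) hm) (hM (up_le_norm h2))

theorem conj_nf (g : Matrix.SpecialLinearGroup (Fin n) F) (A : GL (Fin n) F) (σ : F ≃+* F) :
    MulAut.congr (MulAut.conj (pr g)) (lift (nf A σ)) = lift (nf (Matrix.SpecialLinearGroup.toGL g * A *
      (Matrix.SpecialLinearGroup.toGL (fld σ g))⁻¹) σ) := by
  apply MulEquiv.ext
  intro x
  obtain ⟨s, rfl⟩ := pr_surjective x
  have h0 : pr s = MulAut.conj (pr g) (pr (g⁻¹ * s * g)) := by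
    rw [MulAut.conj_apply, ← map_inv, ← map_mul, ← map_mul]
    congr 1
    group
  rw [lift_pr, h0, congr_ap, lift_pr, MulAut.conj_apply, ← map_inv, ← map_mul, ← map_mul]
  congr 1
  apply Matrix.SpecialLinearGroup.toGL_injective
  rw [toGL_nf, map_mul, map_mul, toGL_nf, map_mul, map_mul, map_mul, map_mul, map_inv, map_inv, map_inv]
  group

/-- **An automorphism without graph part which normalises a Sylow subgroup fixes all overgroups of the normaliser.** -/
theorem fix_over [Fintype F] {r : ℕ} [Fact r.Prime] [CharP F r] {A : GL (Fin n) F} {σ : F ≃+* F}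
    (S : Sylow r (Matrix.ProjectiveSpecialLinearGroup (Fin n) F))
    (hS : ∀ m ∈ (S : Subgroup (Matrix.ProjectiveSpecialLinearGroup (Fin n) F)), lift (cj A * fld σ) m ∈
      (S : Subgroup (Matrix.ProjectiveSpecialLinearGroup (Fin n) F)))
    {M : Subgroup (Matrix.ProjectiveSpecialLinearGroup (Fin n) F)}
    (hM : Subgroup.normalizer ((S : Subgroup (Matrix.ProjectiveSpecialLinearGroup (Fin n) F)) :
      Set (Matrix.ProjectiveSpecialLinearGroup (Fin n) F)) ≤ M) : ∀ m ∈ M, lift (cj A * fld σ) m ∈ M := by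
  obtain ⟨U, hU⟩ := exists_sylow (F := F) n r
  obtain ⟨x, hx⟩ := MulAction.exists_smul_eq (Matrix.ProjectiveSpecialLinearGroup (Fin n) F) S U
  obtain ⟨g, rfl⟩ := pr_surjective x
  refine fix_of_conj hx ?_ hM
  intro M' hM'
  show ∀ m ∈ M', MulAut.congr (MulAut.conj (pr g)) (lift (nf A σ)) m ∈ M'
  rw [conj_nf]
  rw [hU] at hM'
  refine fix_std (r := r) ?_ hM'
  intro m hm
  rw [← hU] at hm ⊢
  rw [← conj_nf, ← hx]
  rw [← hx] at hm
  obtain ⟨m', hm', rfl⟩ := hm
  refine ⟨lift (nf A σ) m', hS _ hm', ?_⟩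
  show pr g * lift (nf A σ) m' * (pr g)⁻¹ = MulAut.congr (MulAut.conj (pr g)) (lift (nf A σ)) (MulAut.conj (pr g) m')
  rw [congr_ap]
  rfl

/-- **`PSL_3(q)`** -/
theorem noswap_psl3 [Fintype F] (r : ℕ) [Fact r.Prime] [CharP F r] :
    NoSwap r (Matrix.ProjectiveSpecialLinearGroup (Fin 3) F) := by
  intro α h U hU M₁ M₂ h1 h2 hne _ _ hsw hsw'
  rcases Cfsg.Agent.ClassicalGeometry.AutPSL.Main.surj_three r (le_refl 3) α with ⟨A, σ, rfl⟩ | hc
  · exact hne (eq_of_fix_swap hsw hsw' (fix_over U hU h1.le) (fix_over U hU h2.le))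
  · exact psl3_corr h hc U hU

/-- **`PSL_4(3)`** -/
theorem noswap_psl4_three [Fintype F] (h3 : Fintype.card F = 3) (r : ℕ) [Fact r.Prime] [CharP F r] :
    NoSwap r (Matrix.ProjectiveSpecialLinearGroup (Fin 4) F) := by
  intro α h U hU M₁ M₂ h1 h2 hne _ _ hsw hsw'
  rcases Cfsg.Agent.ClassicalGeometry.AutPSL.Main.surj_three r (by norm_num : 3 ≤ 4) α with ⟨A, σ, rfl⟩ | hc
  · exact hne (eq_of_fix_swap hsw hsw' (fix_over U hU h1.le) (fix_over U hU h2.le))
  · exact psl4_three h3 h hc U hU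

end Cfsg.Agent.H272.Ccp
end

-- part: H496/Ccp/TwFReal
section
/-!
# All elements of odd order of `²F₄(q)` are real (helper496)

`Y = D.group k`, `k` algebraically closed; `σ` an automorphism of `Y` with Lang's theorem for the groups
`MM t = ⟨X a : a(t) = 1⟩` and the automorphisms `conj n * σ`, `n ∈ N`, fixing `t`.

* `exists_real'` : every `p'`-element `x` of `Y^σ` is inverted by an element of `Y^σ` (not only some element of the same
  order, as in `H501.TwReal`);
* `lang_S` : Lang's theorem for `conj n * al * phi m`, `F₄`, characteristic two, and groups generated by root groups;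
* `real_TwF` : **every element of odd order of `²F₄(q)` is inverted by an element of `²F₄(q)`.**
-/

set_option autoImplicit false
set_option linter.unusedSectionVars false

namespace Cfsg.Agent.H496.Ccp.TwFReal

open CoxeterSystem Cfsg Cfsg.Lie Cfsg.Lie.ChevalleyDatum
open Cfsg.Agent.ChevalleyStructure Cfsg.Agent.ChevalleyStructure.Elts Cfsg.Agent.ChevalleyStructure.CoxeterGeom
  Cfsg.Agent.ChevalleyStructure.CoxeterGeomTypes Cfsg.Agent.ChevalleyStructure.NPerm
open Cfsg.Agent.Tits.Roots Cfsg.Agent.Tits.Core Cfsg.Agent.Nodes Cfsg.Agent.Nodes.Reps Cfsg.Agent.Nodes.BNOf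
  Cfsg.Agent.Nodes.RGDChev Cfsg.Agent.Nodes.Bruhat Cfsg.Agent.Nodes.SubComb Cfsg.Agent.Nodes.Coroot
open Cfsg.Agent.KFacts.RgdField Cfsg.Agent.KFacts.RgdChevCoord Cfsg.Agent.BpExc.TorCent Cfsg.Agent.BpExc.TorChev
open Cfsg.Agent.GpExc.Field Cfsg.Agent.BpExc.Tow Cfsg.Agent.BpExc.TowChev Cfsg.Agent.BpExc.Fr
  Cfsg.Agent.BpExc.LangFr Cfsg.Agent.LangThm Cfsg.Agent.BpExc Cfsg.Agent.H129.TorusChar Cfsg.Agent.H129.TorusCent
  Cfsg.Agent.H129.TorusTw Cfsg.Agent.H129.TorusMain Cfsg.Agent.H720.TorusReal Cfsg.Agent.H501.TwReal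

universe u v

section General

variable {D : ChevalleyDatum} {l : ℕ} {M : CoxeterMatrix (Fin l)} (hp : IsType D l M) {k : Type u} [Field k]
  {W : Type*} [Group W] (cs : CoxeterSystem M W) {p : ℕ} [Fact p.Prime] [CharP k p] {σ : MulAut ↥(D.group k)}

/-- the group generated by the root groups centralised by `t` -/
noncomputable def MT (t : ↥(D.group k)) : Subgroup ↥(D.group k) :=
  Cfsg.Agent.BpExc.TorCent.MM cs hp.isCartan (XX D l k) (ch hp) t

/-- Lang's theorem for the centralisers. -/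
def LangC (hN : NSys M (TT D k) (nc hp k)) (σ : MulAut ↥(D.group k)) : Prop :=
  ∀ (t n : ↥(D.group k)) (w : W), t ∈ TT D k → Rp cs hN w n → n * σ t * n⁻¹ = t →
    ∀ m ∈ MT hp cs t, ∃ v ∈ MT hp cs t, m = v⁻¹ * (n * σ v * n⁻¹)

/-- **Every `p'`-element of `Y^σ` is real in `Y^σ`.** -/
theorem exists_real' [IsAlgClosed k] [Finite W] (hA : Cfsg.Agent.BpExc.TorAll.HAlg p k) (hk : LocFin k)
    (hN : NSys M (TT D k) (nc hp k)) {d' : ℕ} {B' : Fin l → Fin l → ℤ} (hB : InvC D l d' B')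
    (hd' : d' ≠ 0) (hT : ∀ s ∈ TT D k, σ s ∈ TT D k) (hT' : ∀ s, σ s ∈ TT D k → s ∈ TT D k) {N : ℕ} (h1N : 1 < N)
    (hsq : ∀ s ∈ TT D k, σ (σ s) = s ^ N) (hlangC : LangC hp cs hN σ)
    {w₀ : W} (hneg : ∀ x, rep cs hp.isCartan w₀ x = -x) {x : ↥(D.group k)}
    (hx : σ x = x) {m : ℕ} (hm : m ≠ 0) (hmp : m.Coprime p) (hxm : x ^ m = 1) :
    ∃ y : ↥(D.group k), σ y = y ∧ y * x * y⁻¹ = x⁻¹ := by
  obtain ⟨y, hy⟩ := H944.TorAnyChev.exists_conj_mem_TT hp p hA hm hmp hxm
  set t := y * x * y⁻¹ with htdef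
  have ht : t ∈ TT D k := hy
  have hσt : σ t ∈ TT D k := hT t ht
  have h1 : (y * (σ y)⁻¹) * σ t = t * (y * (σ y)⁻¹) := by
    rw [htdef, map_mul, map_mul, map_inv, hx]
    group
  have H := tow hp cs hk p
  have C := coordsL hp cs hk p
  rw [← TL_eq hp hk, ← XL_eq hp hk] at C
  have ht' : t ∈ TL (Tj hp (k := k)) := by rw [TL_eq hp hk]; exact ht
  have hσt' : σ t ∈ TL (Tj hp (k := k)) := by rw [TL_eq hp hk]; exact hσt
  have hcG : y * (σ y)⁻¹ ∈ GG cs hp.isCartan (TL (Tj hp (k := k))) (XL (Xj hp)) := by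
    rw [GG_eq_top hp cs hk]; exact Subgroup.mem_top _
  obtain ⟨m', hm'M, w, n, hn, hnt, hc'⟩ := BpExc.Fr.exists_form H C hσt' ht' hcG h1
  have hn' : Rp cs hN w n := by
    have key : ∀ (T : Subgroup ↥(D.group k)) (h1 : NSys M T (nc hp k)) (h2 : T = TT D k), Rp cs h1 w n →
        Rp cs hN w n := by
      intro T h1 h2 h3
      subst h2
      exact h3
    exact key _ _ (TL_eq hp hk) hn
  have hm'T : m' ∈ MT hp cs t := by
    rw [XL_eq hp hk] at hm'M
    exact hm'M
  have hnt' : n * σ t * n⁻¹ = t := by rw [hnt]; group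
  -- correct `y`
  obtain ⟨v₀, hv₀, hvm⟩ := hlangC t n w ht hn' hnt' m' hm'T
  have hv₀t : v₀ * t = t * v₀ := by
    have C' := coordsL hp cs hk p
    have h2 := MM_le_centralizer C' ht hv₀
    rw [Subgroup.mem_centralizer_singleton_iff] at h2
    exact h2
  obtain ⟨z, hz⟩ : ∃ z, z = (v₀ * y)⁻¹ := ⟨_, rfl⟩
  have hzx : z * t * z⁻¹ = x := by
    rw [hz, htdef]
    have h3 : v₀⁻¹ * t * v₀ = t := by rw [mul_assoc, ← hv₀t]; group
    calc (v₀ * y)⁻¹ * (y * x * y⁻¹) * (v₀ * y)⁻¹⁻¹ = y⁻¹ * (v₀⁻¹ * t * v₀) * y := by rw [htdef]; group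
      _ = x := by rw [h3, htdef]; group
  have hσz : σ z = z * n := by
    have h4 : v₀⁻¹ * n * σ v₀ = y * (σ y)⁻¹ := by
      rw [hc', hvm]
      group
    have h5 : n = (v₀ * y) * (σ (v₀ * y))⁻¹ := by
      rw [map_mul]
      calc n = v₀ * (v₀⁻¹ * n * σ v₀) * (σ v₀)⁻¹ := by group
        _ = _ := by rw [h4]; group
    rw [hz, map_inv, h5]
    group
  -- the inverting element
  obtain ⟨v, hv⟩ := exists_rp cs hN w₀
  have hvt : ∀ s ∈ TT D k, v * s * v⁻¹ = s⁻¹ := fun s hs => conj_neg hp cs hk p hneg hv hs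
  have hvn : ∀ s, v * s * v⁻¹ ∈ TT D k ↔ s ∈ TT D k := fun s =>
    (Subgroup.mem_normalizer_iff.1 hv.mem_normalizer s).symm
  -- `α = conj n ∘ σ`
  set α : MulAut ↥(D.group k) := MulAut.conj n * σ with hα
  have hαn : ∀ y, α y = n * σ y * n⁻¹ := fun y => rfl
  have hnn : ∀ s, n * s * n⁻¹ ∈ TT D k ↔ s ∈ TT D k := fun s =>
    (Subgroup.mem_normalizer_iff.1 hn'.mem_normalizer s).symm
  have hαT : ∀ s ∈ TT D k, α s ∈ TT D k := fun s hs => (hnn _).2 (hT s hs)
  have hαT' : ∀ s, α s ∈ TT D k → s ∈ TT D k := fun s hs => hT' s ((hnn _).1 hs)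
  -- a power of `α` is a power map
  set b := n * σ n with hb
  have hα2 : ∀ s ∈ TT D k, α (α s) = b * s ^ N * b⁻¹ := by
    intro s hs
    rw [hαn, hαn, map_mul, map_mul, map_inv, hsq s hs, hb]
    group
  have hbT : ∀ s ∈ TT D k, b * s * b⁻¹ ∈ TT D k := by
    intro s hs
    obtain ⟨r, hr⟩ := σ.surjective s
    have hr' : r ∈ TT D k := hT' r (by rw [hr]; exact hs)
    have e1 : b * s * b⁻¹ = α (n * r * n⁻¹) := by
      rw [hαn, map_mul, map_mul, map_inv, hr, hb]
      group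
    rw [e1]
    exact hαT _ ((hnn r).2 hr')
  obtain ⟨w₂, hw₂⟩ := exists_rp_of_normalizer hp cs hk p hN hB hd' hbT
  obtain ⟨M', hM', hwM⟩ := (isOfFinOrder_of_finite w₂).exists_pow_eq_one
  have hRpow : ∀ j : ℕ, Rp cs hN (w₂ ^ j) (b ^ j) := by
    intro j
    induction j with
    | zero => rw [pow_zero, pow_zero]; exact rp_one
    | succ j ih => rw [pow_succ, pow_succ]; exact ih.mul hw₂
  have hbM : b ^ M' ∈ TT D k := by
    have h2 := hRpow M'
    rw [hwM] at h2
    exact h2.mem_of_one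
  have hbj : ∀ j : ℕ, ∀ s ∈ TT D k, b ^ j * s * (b ^ j)⁻¹ ∈ TT D k := fun j s hs =>
    (Subgroup.mem_normalizer_iff.1 (hRpow j).mem_normalizer s).1 hs
  have hpow2 : ∀ j : ℕ, ∀ s ∈ TT D k, (α ^ (2 * j)) s = b ^ j * s ^ N ^ j * (b ^ j)⁻¹ := by
    intro j
    induction j with
    | zero => intro s _; simp
    | succ j ih =>
      intro s hs
      have e1 : (α ^ (2 * (j + 1))) s = α (α ((α ^ (2 * j)) s)) := by
        have e0 : α ^ (2 * (j + 1)) = α * (α * α ^ (2 * j)) := by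
          rw [← pow_succ', ← pow_succ']
          rfl
        rw [e0]
        rfl
      rw [e1, ih s hs, hα2 _ (hbj j _ (pow_mem hs _)), conj_pow, ← pow_mul, ← pow_succ]
      rw [pow_succ' b j]
      group
  have hpowM : ∀ s ∈ TT D k, (α ^ (2 * M')) s = s ^ N ^ M' := by
    intro s hs
    rw [hpow2 M' s hs, TT_comm hp hbM (pow_mem hs _), mul_inv_cancel_right]
  -- `c = v⁻¹ α(v)`
  set c := v⁻¹ * α v with hc
  have hcT : c ∈ TT D k := by
    refine mem_TT_of_central hp cs hk p hB hd' fun s hs => ?_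
    obtain ⟨r, hr⟩ := α.surjective s
    have hr' : r ∈ TT D k := hαT' r (by rw [hr]; exact hs)
    have e1 : α v * s * (α v)⁻¹ = s⁻¹ := by
      have e4 := congrArg α (hvt r hr')
      rwa [map_mul, map_mul, map_inv, map_inv, hr] at e4
    have e2 := hvt s hs
    rw [hc]
    have e3 : α v * s = v * s * v⁻¹ * α v := by
      rw [e2, ← e1]; group
    rw [mul_assoc, e3]
    group
  have hNM : 1 < N ^ M' := Nat.one_lt_pow hM'.ne' h1N
  obtain ⟨s, hs, h2⟩ := torus_lang' hp hB hd' hαT hNM hpowM hcT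
  have h3 : α (v * s) = v * s := by
    rw [map_mul]
    have e1 : α v = v * c := by rw [hc]; group
    rw [e1, mul_assoc, ← h2]
  refine ⟨z * (v * s) * z⁻¹, ?_, ?_⟩
  · rw [map_mul, map_mul, map_inv, hσz]
    rw [hαn] at h3
    calc z * n * σ (v * s) * (z * n)⁻¹ = z * (n * σ (v * s) * n⁻¹) * z⁻¹ := by group
      _ = z * (v * s) * z⁻¹ := by rw [h3]
  · rw [← hzx]
    have h4 : s * t = t * s := TT_comm hp hs ht
    calc z * (v * s) * z⁻¹ * (z * t * z⁻¹) * (z * (v * s) * z⁻¹)⁻¹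
        = z * (v * (s * t) * s⁻¹ * v⁻¹) * z⁻¹ := by group
      _ = z * (v * t * v⁻¹) * z⁻¹ := by rw [h4]; group
      _ = (z * t * z⁻¹)⁻¹ := by rw [hvt t ht]; group

end General

/-! ### Lang's theorem for `F₄`, characteristic two -/

section Lang

open Cfsg.Agent.H79.SimpleGen (xS nS nS_def)
open Cfsg.Agent.H296.FFour (hp4 br la tab al al_xS fld_xS phi_xS al_phi_sq lang4 sg sg_xS ext4 fix_le le_fix tab2)
open Cfsg.Agent.BpExc.FamUntw (phi)
open Cfsg.Agent.BpExc.FamInst (phi_frob)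
open Cfsg.Agent.H296.Core

variable {k : Type u} [Field k] [CharP k 2] [IsAlgClosed k] [PerfectRing k 2]

/-- **Lang's theorem for groups generated by root elements of `F₄` and `conj n * al * phi m`.** -/
theorem lang_S (m : ℕ) (n : ↥(chevF4.group k)) (S : Set ℕ) (hS48 : ∀ r ∈ S, r < 48)
    (hS : ∀ r ∈ S, ∃ s ∈ S, ∀ t : k, ∃ u : k,
      n * (al k * phi chevF4 k 2 m : MulAut ↥(chevF4.group k)) (xS hp4.inList r t) * n⁻¹ = xS hp4.inList s u)
    {c : GL chevF4.Idx k} (hc : c ∈ Cfsg.Agent.LangThm.MM hp4.inList S k) (hcG : c ∈ chevF4.group k) :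
    ∃ z : ↥(chevF4.group k), (z : GL chevF4.Idx k) ∈ Cfsg.Agent.LangThm.MM hp4.inList S k ∧
      (⟨c, hcG⟩ : ↥(chevF4.group k)) = z⁻¹ * (n * (al k * phi chevF4 k 2 m : MulAut ↥(chevF4.group k)) z * n⁻¹) := by
  have : Fact (Nat.Prime 2) := ⟨Nat.prime_two⟩
  classical
  let X : S → GL chevF4.Idx (Polynomial k) := fun r => xP hp4.inList (r : ℕ) Polynomial.X
  have h2 : Gam X k = Cfsg.Agent.LangThm.MM hp4.inList S k := gam_eq hp4.inList S
  have hle : Cfsg.Agent.LangThm.MM hp4.inList S k ≤ chevF4.group k := by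
    unfold Cfsg.Agent.LangThm.MM
    rw [Subgroup.closure_le]
    rintro g ⟨r, hr, t, rfl⟩
    exact xG_mem_group hp4.inList r t
  let s : MulAut ↥(chevF4.group k) := MulAut.conj n * (al k * phi chevF4 k 2 m)
  have hs : ∀ z, s z = n * (al k * phi chevF4 k 2 m : MulAut ↥(chevF4.group k)) z * n⁻¹ := fun z => rfl
  -- `s` preserves the group
  have hsM : ∀ g : ↥(chevF4.group k), (g : GL chevF4.Idx k) ∈ Cfsg.Agent.LangThm.MM hp4.inList S k →
      ((s g : ↥(chevF4.group k)) : GL chevF4.Idx k) ∈ Cfsg.Agent.LangThm.MM hp4.inList S k := by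
    have key : Cfsg.Agent.LangThm.MM hp4.inList S k ≤
        (((Cfsg.Agent.LangThm.MM hp4.inList S k).subgroupOf (chevF4.group k)).comap s.toMonoidHom).map (chevF4.group k).subtype := by
      conv_lhs => unfold Cfsg.Agent.LangThm.MM
      rw [Subgroup.closure_le]
      rintro g ⟨r, hr, t, rfl⟩
      refine ⟨xS hp4.inList r t, ?_, rfl⟩
      obtain ⟨s', hs', h⟩ := hS r hr
      obtain ⟨u, hu⟩ := h t
      show s (xS hp4.inList r t) ∈ (Cfsg.Agent.LangThm.MM hp4.inList S k).subgroupOf (chevF4.group k)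
      rw [hs, hu, Subgroup.mem_subgroupOf]
      exact Subgroup.subset_closure ⟨s', hs', u, rfl⟩
    intro g hg
    obtain ⟨g', hg', e⟩ := key hg
    have e' : g' = g := Subtype.ext e
    rw [← e']
    exact hg'
  let inc : ↥(Gam X k) →* ↥(chevF4.group k) := Subgroup.inclusion (h2.le.trans hle)
  have hinc : ∀ g : ↥(Gam X k), ((inc g : ↥(chevF4.group k)) : GL chevF4.Idx k) = g := fun g => rfl
  let F : Monoid.End ↥(Gam X k) :=
    { toFun := fun g => ⟨(s (inc g) : ↥(chevF4.group k)), by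
        exact h2.ge (hsM _ (h2.le g.2))⟩
      map_one' := Subtype.ext (by
        show ((s (inc 1) : ↥(chevF4.group k)) : GL chevF4.Idx k) = 1
        rw [map_one, map_one]; rfl)
      map_mul' := fun g h => Subtype.ext (by
        show ((s (inc (g * h)) : ↥(chevF4.group k)) : GL chevF4.Idx k) =
          ((s (inc g) : ↥(chevF4.group k)) : GL chevF4.Idx k) * ((s (inc h) : ↥(chevF4.group k)) : GL chevF4.Idx k)
        rw [map_mul, map_mul]; rfl) }
  have hF' : ∀ g : ↥(Gam X k), inc (F g) = s (inc g) := fun g => Subtype.ext rfl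
  -- the polynomials
  have hpoly : ∀ r : S, ∃ s' : S, ∃ P : Polynomial k, ∀ t : k,
      ((s (xS hp4.inList r t) : ↥(chevF4.group k)) : GL chevF4.Idx k) = xG hp4.inList s' (P.eval t) := by
    intro r
    obtain ⟨s', hs', h⟩ := hS r r.2
    have hr48 := hS48 r r.2
    have hpos : 0 < 2 ^ m * la r := by
      have h3 := (tab r hr48).2.2
      have h4 : la r ≠ 0 := by
        intro h0
        rw [h0, zero_mul] at h3
        omega
      positivity
    have h5 : ∀ t : k, ∃ u : k, (n : GL chevF4.Idx k) * xG hp4.inList (br r) t * (n : GL chevF4.Idx k)⁻¹ =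
        xG hp4.inList s' u := by
      intro t
      obtain ⟨t', ht'⟩ : ∃ t' : k, t' ^ (2 ^ m * la r) = t := IsAlgClosed.exists_pow_nat_eq t hpos
      obtain ⟨u, hu⟩ := h t'
      refine ⟨u, ?_⟩
      rw [MulAut.mul_apply, phi_xS, al_xS hr48, ← pow_mul, ht'] at hu
      exact congrArg Subtype.val hu
    obtain ⟨P, hP⟩ := exists_poly hp4.inList (n : GL chevF4.Idx k) h5
    refine ⟨⟨s', hs'⟩, P.comp (Polynomial.X ^ (2 ^ m * la r)), fun t => ?_⟩
    rw [hs, MulAut.mul_apply, phi_xS, al_xS hr48, ← pow_mul]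
    show (n : GL chevF4.Idx k) * xG hp4.inList (br r) (t ^ (2 ^ m * la r)) * (n : GL chevF4.Idx k)⁻¹ = _
    rw [hP, Polynomial.eval_comp, Polynomial.eval_pow, Polynomial.eval_X]
  choose ρ P hP using hpoly
  have hX0 : ∀ i, ev (0 : k) (X i) = 1 := by
    intro i
    rw [ev_xP, Polynomial.eval_X, xG_zero]
  have hF : ∀ (r : S) (a : k), (F ⟨ev a (X r), ev_mem r a⟩ : GL chevF4.Idx k) =
      ev a (ev (P r) (X (ρ r)) : GL chevF4.Idx (Polynomial k)) := by
    intro r a
    have e1 : inc ⟨ev a (X r), ev_mem r a⟩ = xS hp4.inList r a := by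
      apply Subtype.ext
      rw [hinc]
      show ev a (X r) = _
      rw [ev_xP, Polynomial.eval_X]
      rfl
    show ((s (inc ⟨ev a (X r), ev_mem r a⟩) : ↥(chevF4.group k)) : GL chevF4.Idx k) = _
    rw [e1, hP]
    have h3 := mp_ev (Polynomial.aeval a : Polynomial k →ₐ[k] k) (P r) (X (ρ r))
    have h4 : ev a (ev (P r) (X (ρ r))) = ev ((P r).eval a) (X (ρ r)) := by
      rw [show (P r).eval a = Polynomial.aeval a (P r) by simp [Polynomial.aeval_def]]
      exact h3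
    rw [h4, ev_xP, Polynomial.eval_X]
  have hJ : ∀ g : ↥(Gam X k), (((F ^ 2) g : ↥(Gam X k)) : GL chevF4.Idx k) =
      ((n * (al k * phi chevF4 k 2 m : MulAut ↥(chevF4.group k)) n : ↥(chevF4.group k)) : GL chevF4.Idx k) *
        frob 2 (2 * m + 1) (g : GL chevF4.Idx k) *
      ((n * (al k * phi chevF4 k 2 m : MulAut ↥(chevF4.group k)) n : ↥(chevF4.group k)) : GL chevF4.Idx k)⁻¹ := by
    intro g
    have e1 : inc ((F ^ 2) g) = s (s (inc g)) := by
      rw [pow_two]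
      show inc (F (F g)) = _
      rw [hF', hF']
    have e2 : s (s (inc g)) = (n * (al k * phi chevF4 k 2 m : MulAut ↥(chevF4.group k)) n) *
        phi chevF4 k 2 (2 * m + 1) (inc g) * (n * (al k * phi chevF4 k 2 m : MulAut ↥(chevF4.group k)) n)⁻¹ := by
      have e3 : phi chevF4 k 2 (2 * m + 1) (inc g) = (al k * phi chevF4 k 2 m : MulAut ↥(chevF4.group k))
          ((al k * phi chevF4 k 2 m : MulAut ↥(chevF4.group k)) (inc g)) := by
        rw [← MulAut.mul_apply]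
        exact (DFunLike.congr_fun (al_phi_sq m) (inc g)).symm
      simp only [e3, hs, hs, map_mul, map_mul, map_inv]
      group
    rw [← hinc, e1, e2]
    show _ * ((phi chevF4 k 2 (2 * m + 1) (inc g) : ↥(chevF4.group k)) : GL chevF4.Idx k) * _ = _
    rw [phi_frob]
    rfl
  obtain ⟨z, hz⟩ := lang (X := X) 2 (2 * m + 1) 2 (by omega) hX0 F
    (Y := fun r => ev (P r) (X (ρ r))) (fun i => ev_mem _ _) hF _ hJ ⟨c, by rw [h2]; exact hc⟩
  refine ⟨inc z, ?_, ?_⟩
  · rw [hinc, ← h2]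
    exact z.2
  · have h3 := congrArg inc hz
    rw [map_mul, map_inv, hF'] at h3
    rw [← hs, ← h3]
    rfl

variable {W : Type*} [Group W] (cs : CoxeterSystem CoxeterMatrix.F₄ W)

/-- **Lang's theorem for the centralisers of the elements of the torus.** -/
theorem langC [Fact (Nat.Prime 2)] (hk : LocFin k) (hN : NSys CoxeterMatrix.F₄ (TT chevF4 k) (nc hp4 k)) (m : ℕ) :
    LangC hp4 cs hN (al k * phi chevF4 k 2 m : MulAut ↥(chevF4.group k)) := by
  intro t n w ht hn hnt c hc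
  have H := tow hp4 cs hk 2
  have C := coordsL hp4 cs hk 2
  set σ : MulAut ↥(chevF4.group k) := al k * phi chevF4 k 2 m with hσ
  set S : Set ℕ := {r | r < 48 ∧ vec chevF4 4 r ∈ Sx cs hp4.isCartan (ch hp4) t} with hSdef
  have hroot : ∀ {r : ℕ}, r < 48 → IsRoot cs hp4.isCartan (vec chevF4 4 r) := fun {r} hr =>
    (isRoot_iff hp4 cs _).2 ⟨r, hr, rfl⟩
  have hcomm : ∀ y, y * t = t * y → (n * σ y * n⁻¹) * t = t * (n * σ y * n⁻¹) := by
    intro y hy
    conv_lhs => rw [← hnt]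
    conv_rhs => rw [← hnt]
    calc n * σ y * n⁻¹ * (n * σ t * n⁻¹) = n * (σ y * σ t) * n⁻¹ := by group
      _ = n * (σ t * σ y) * n⁻¹ := by rw [← map_mul, hy, map_mul]
      _ = _ := by group
  have hS : ∀ r ∈ S, ∃ s ∈ S, ∀ t : k, ∃ u : k, n * σ (xS hp4.inList r t) * n⁻¹ = xS hp4.inList s u := by
    rintro r ⟨hr, hrt⟩
    have hbr : br r < 48 := (tab r hr).1
    have h1 := hroot hbr
    have h2 : IsRoot cs hp4.isCartan (rep cs hp4.isCartan w (vec chevF4 4 (br r))) := h1.act w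
    obtain ⟨s, hs, hsv⟩ := (isRoot_iff hp4 cs _).1 h2
    have hmem : ∀ u : k, n * σ (xS hp4.inList r u) * n⁻¹ ∈ XX chevF4 4 k (vec chevF4 4 s) := by
      intro u
      have h3 : xS hp4.inList (br r) ((u ^ 2 ^ m) ^ la r) ∈ XX chevF4 4 k (vec chevF4 4 (br r)) :=
        (mem_XX_vec hp4 hbr).2 ⟨_, rfl⟩
      have h4 := (fr_conj hp4 cs hk 2 hn).map _ h1 (xS hp4.inList (br r) ((u ^ 2 ^ m) ^ la r))
      have h5 := h4.2 h3
      rw [repAut_apply, ← hsv] at h5
      rw [hσ, MulAut.mul_apply, phi_xS, al_xS hr]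
      exact h5
    refine ⟨s, ⟨hs, ?_⟩, fun u => ?_⟩
    · refine mem_Sx_of_centralizer C ht (hroot hs) (hmem 1) ?_ ?_
      · intro h3
        have h4 : xS hp4.inList r (1 : k) = 1 := by
          apply σ.injective
          rw [map_one]
          calc σ (xS hp4.inList r (1 : k)) = n⁻¹ * (n * σ (xS hp4.inList r 1) * n⁻¹) * n := by group
            _ = 1 := by rw [h3]; group
        have h5 : xG hp4.inList r (1 : k) = 1 := congrArg Subtype.val h4
        exact one_ne_zero ((xG_eq_one_iff hp4.inList hr (1 : k)).1 h5)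
      · rw [Subgroup.mem_centralizer_singleton_iff]
        refine hcomm _ ?_
        have h3 := X_le_centralizer C ht hrt ((mem_XX_vec hp4 hr).2 ⟨(1 : k), rfl⟩ : xS hp4.inList r (1 : k) ∈ _)
        rwa [Subgroup.mem_centralizer_singleton_iff] at h3
    · obtain ⟨v, hv⟩ := (mem_XX_vec hp4 hs).1 (hmem u)
      exact ⟨v, Subtype.ext hv⟩
  have hto : (c : GL chevF4.Idx k) ∈ Cfsg.Agent.LangThm.MM hp4.inList S k := by
    have h1 : MT hp4 cs t ≤ (Cfsg.Agent.LangThm.MM hp4.inList S k).subgroupOf (chevF4.group k) := by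
      refine iSup_le ?_
      rintro ⟨a, ha⟩ x hx
      obtain ⟨r, hr, rfl⟩ := (isRoot_iff hp4 cs a).1 ha.1
      obtain ⟨t', ht'⟩ := (mem_XX_vec hp4 hr).1 hx
      rw [Subgroup.mem_subgroupOf, ht']
      exact Subgroup.subset_closure ⟨r, ⟨hr, ha⟩, t', rfl⟩
    exact h1 hc
  have hfrom : ∀ g : ↥(chevF4.group k), (g : GL chevF4.Idx k) ∈ Cfsg.Agent.LangThm.MM hp4.inList S k →
      g ∈ MT hp4 cs t := by
    have key : Cfsg.Agent.LangThm.MM hp4.inList S k ≤ (MT hp4 cs t).map (chevF4.group k).subtype := by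
      unfold Cfsg.Agent.LangThm.MM
      rw [Subgroup.closure_le]
      rintro g ⟨r, ⟨hr, ha⟩, u, rfl⟩
      exact ⟨xS hp4.inList r u, RGD.le_Sup ha ((mem_XX_vec hp4 hr).2 ⟨u, rfl⟩), rfl⟩
    intro g hg
    obtain ⟨g', hg', e⟩ := key hg
    have e' : g' = g := Subtype.ext e
    rw [← e']
    exact hg'
  obtain ⟨z, hz, hcz⟩ := lang_S m n S (fun r hr => hr.1) hS hto c.2
  exact ⟨z, hfrom z hz, hcz⟩

end Lang

/-! ### the finite group -/

section Main

open Cfsg.Agent.H296.FFour (hp4 br la tab al al_xS fld_xS phi_xS al_phi_sq lang4 sg sg_xS ext4 fix_le le_fix tab2)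
open Cfsg.Agent.H501.RowTwF

local notation "phiA" => Cfsg.Agent.BpExc.FamUntw.phi chevF4

local notation "phiB" => Cfsg.Agent.H129.TorusUntw.phi chevF4

/-- **All elements of odd order of `²F₄(q)` are real.** -/
theorem real_TwF {F : Type u} [Field F] [Fintype F] {m : ℕ} (hF : Fintype.card F = 2 ^ (2 * m + 1))
    (g : ↥(twistedF4 F (2 ^ m))) {r : ℕ} (hr0 : r ≠ 0) (hr2 : r.Coprime 2) (hgr : g ^ r = 1) :
    ∃ c : ↥(twistedF4 F (2 ^ m)), c * g * c⁻¹ = g⁻¹ := by
  have hf2 : Fact (Nat.Prime 2) := ⟨Nat.prime_two⟩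
  have hF2 : CharP F 2 := by
    obtain ⟨p, hp⟩ := CharP.exists F
    have : Fact p.Prime := ⟨CharP.char_is_prime F p⟩
    obtain ⟨n, h1, h2⟩ := FiniteField.card F p
    rw [hF] at h2
    have h3 : p ∣ 2 ^ (2 * m + 1) := by rw [h2]; exact dvd_pow_self p n.ne_zero
    have h4 := (Nat.prime_dvd_prime_iff_eq h1 Nat.prime_two).1 (h1.dvd_of_dvd_pow h3)
    rwa [h4] at hp
  have hPF : PerfectRing F 2 := inferInstance
  have h1 := Cfsg.Agent.H296.Core.charP_closure F 2
  have hk := Cfsg.Agent.H296.Core.locFin_closure F 2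
  have hPk : PerfectRing (AlgebraicClosure F) 2 := inferInstance
  have hA : Cfsg.Agent.BpExc.TorAll.HAlg 2 (AlgebraicClosure F) := Cfsg.Agent.H944.RootVals.hAlg_closure 2 F
  set k := AlgebraicClosure F
  let f : F →+* k := algebraMap F k
  have cs := CoxeterMatrix.F₄.toCoxeterSystem
  have : Finite CoxeterMatrix.F₄.Group := finite_W hp4 cs
  obtain ⟨w₀, hw₀⟩ := Cfsg.Agent.H720.RowsNeg.exists_neg Cfsg.Agent.H130.WeylTab.lists_F4 cs hp4.isCartan
    [0, 1, 2, 3] 6 (by decide +kernel)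
  have hN := Cfsg.Agent.H129.TorusUntw.nsys_of_locFin hp4 cs hk 2
  set σ : MulAut ↥(chevF4.group k) := al k * phiA k 2 m with hσ
  have hFr : Fr cs hp4.isCartan (TT chevF4 k) (XX chevF4 4 k) (phiB k 2 (2 * m + 1))
      (AddEquiv.refl (Fin 4 → ℤ)) := Cfsg.Agent.H129.TorusUntw.fr_phi hp4 cs
  have hFr' : Fr cs hp4.isCartan (TT chevF4 k) (XX chevF4 4 k) (phiB k 2 m)
      (AddEquiv.refl (Fin 4 → ℤ)) := Cfsg.Agent.H129.TorusUntw.fr_phi hp4 cs
  have hσσ : ∀ y, σ (σ y) = phiB k 2 (2 * m + 1) y := by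
    intro y
    rw [← phi_eq_phi, ← al_phi_sq]
    rfl
  have hT : ∀ s ∈ TT chevF4 k, σ s ∈ TT chevF4 k := by
    intro s hs
    refine al_TT _ ?_
    rw [phi_eq_phi]
    exact (hFr'.tor s).2 hs
  have hT' : ∀ s, σ s ∈ TT chevF4 k → s ∈ TT chevF4 k := by
    intro s hs
    have h2 := hT _ hs
    rw [hσσ] at h2
    exact (hFr.tor s).1 h2
  have hsq : ∀ s ∈ TT chevF4 k, σ (σ s) = s ^ 2 ^ (2 * m + 1) := by
    intro s hs
    rw [hσσ]
    refine cX_inj hp4 ((hFr.tor s).2 hs) (pow_mem hs _) fun i => ?_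
    rw [cX_pow hp4 hs]
    exact cX_sigma hp4 cs Cfsg.Agent.H129.TorusUntw.isFrob_phi hFr hs (sr i)
  obtain ⟨τ, hτ⟩ : ∃ τ : F ≃+* F, ∀ a, τ a = a ^ 2 ^ m :=
    ⟨iterateFrobeniusEquiv F 2 m, fun a => by rw [iterateFrobeniusEquiv_def]⟩
  -- the element
  obtain ⟨a, ha, hfa⟩ := le_fix hF hτ g.2
  have har : a ^ r = 1 := by
    apply Subtype.ext
    rw [Subgroup.coe_pow, ha, Subgroup.coe_one, ← Subgroup.coe_pow, hgr, Subgroup.coe_one]
  have hinj := emb_injective hp4.inList f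
  obtain ⟨y, hσy, hyx⟩ := exists_real' hp4 cs hA hk hN
    invC_F4 one_ne_zero hT hT' (N := 2 ^ (2 * m + 1))
    (Nat.one_lt_pow (by omega) (by norm_num)) hsq (langC cs hk hN m) hw₀ (x := emb hp4.inList f a)
    (by rw [hσ, nat_sg f hτ, hfa]) hr0 hr2 (by rw [← map_pow, har, map_one])
  have hdesc : ∀ y : ↥(chevF4.group k), σ y = y → ∃ b : ↥(chevF4.group F), emb hp4.inList f b = y ∧
      (b : GL chevF4.Idx F) ∈ twistedF4 F (2 ^ m) := by
    intro y hy
    have h2 : phiB k 2 (2 * m + 1) y = y := by rw [← hσσ, hy, hy]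
    obtain ⟨b, hb⟩ := Cfsg.Agent.H129.TorusUntw.fix_range hp4 cs f hF invC_F4 one_ne_zero
      (fun a => ⟨a, pow_one a⟩) h2
    refine ⟨b, hb, fix_le hF hτ ?_⟩
    apply hinj
    rw [← nat_sg f hτ, hb]
    exact hy
  obtain ⟨c, hc, hcT⟩ := hdesc y hσy
  have hca : c * a * c⁻¹ = a⁻¹ := by
    apply hinj
    rw [map_mul, map_mul, map_inv, map_inv, hc, hyx]
  refine ⟨⟨c, hcT⟩, ?_⟩
  apply Subtype.ext
  have h2 := congrArg (fun u : ↥(chevF4.group F) => (u : GL chevF4.Idx F)) hca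
  simp only [Subgroup.coe_mul, Subgroup.coe_inv, ha] at h2
  simpa only [Subgroup.coe_mul, Subgroup.coe_inv] using h2

end Main

end Cfsg.Agent.H496.Ccp.TwFReal
end

-- part: H496/Ccp/TwF
section
/-!
# S4114, the row `²F₄(q)` (helper496)

`h : Cfg α`, `G = ²F₄(q)`. An odd prime `p` divides `|α|`; `y ∈ ⟨α⟩` of order `p` is not inner since elements of odd order
are real, hence of field type; `α` centralises `C_G(y) = ²F₄(q₀)`, in particular a root element `z`; `Z(C_G(z))` is the root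
group and `α` acts trivially on it by (F1); a contradiction.
-/

set_option autoImplicit false

namespace Cfsg.Agent.H496.Ccp.TwF

open Subgroup Cfsg Cfsg.Lie Cfsg.Agent.H520

universe u v

/-! ### groups without solvable normal subgroups -/

theorem ns_of_simple {E : Type*} [Group E] (hs : IsSimpleGroup E) (hna : ¬ IsMulCommutative E) :
    ∀ N : Subgroup E, N.Normal → Group.IsSolvable N → N = ⊥ := by
  intro N hN hsol
  rcases hN.eq_bot_or_eq_top with h | h
  · exact h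
  · exfalso
    subst h
    have h1 : Group.IsSolvable E :=
      Group.isSolvable_of_isSolvable_injective (f := (Subgroup.topEquiv (G := E)).symm.toMonoidHom)
        (Subgroup.topEquiv (G := E)).symm.injective
    apply hna
    exact ⟨⟨fun a b => (IsSimpleGroup.comm_iff_isSolvable.2 h1) a b⟩⟩

theorem ns_of_two {E : Type*} [Group E] (D : Subgroup E) [hD : D.Normal] (hs : IsSimpleGroup D)
    (hna : ¬ IsMulCommutative D) (hz : ∀ r : E, r ∈ centralizer (D : Set E) → r = 1) :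
    ∀ N : Subgroup E, N.Normal → Group.IsSolvable N → N = ⊥ := by
  intro N hN hsol
  have h1 : N.subgroupOf D = ⊥ := by
    refine ns_of_simple hs hna _ (hN.subgroupOf D) ?_
    have : Group.IsSolvable N := hsol
    let f : ↥(N.subgroupOf D) →* N :=
      { toFun := fun x => ⟨x.1, x.2⟩
        map_one' := rfl
        map_mul' := fun _ _ => rfl }
    exact Group.isSolvable_of_isSolvable_injective (f := f) fun a b hab => by
      have h2 : (⟨a.1, a.2⟩ : N) = ⟨b.1, b.2⟩ := hab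
      exact Subtype.ext (Subtype.ext (congrArg (fun x : N => (x : E)) h2))
  rw [eq_bot_iff]
  intro n hn
  rw [mem_bot]
  apply hz
  rw [mem_centralizer_iff]
  intro d hd
  have h2 : d * n * d⁻¹ * n⁻¹ ∈ N := mul_mem (hN.conj_mem n hn d) (inv_mem hn)
  have h3 : d * n * d⁻¹ * n⁻¹ ∈ D := by
    have : d * n * d⁻¹ * n⁻¹ = d * (n * d⁻¹ * n⁻¹) := by group
    rw [this]
    exact mul_mem hd (hD.conj_mem _ (inv_mem hd) n)
  have h4 : (⟨_, h3⟩ : D) ∈ N.subgroupOf D := h2
  rw [h1, mem_bot] at h4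
  have h5 : d * n * d⁻¹ * n⁻¹ = 1 := congrArg Subtype.val h4
  rw [mul_inv_eq_one, mul_inv_eq_iff_eq_mul] at h5
  exact h5

theorem ns_congr {E E' : Type*} [Group E] [Group E'] (e : E ≃* E')
    (h : ∀ N : Subgroup E, N.Normal → Group.IsSolvable N → N = ⊥) :
    ∀ N : Subgroup E', N.Normal → Group.IsSolvable N → N = ⊥ := by
  intro N hN hsol
  have h1 : N.comap e.toMonoidHom = ⊥ := by
    refine h _ (hN.comap _) ?_
    have : Group.IsSolvable N := hsol
    let f : ↥(N.comap e.toMonoidHom) →* N :=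
      { toFun := fun x => ⟨e x.1, x.2⟩
        map_one' := Subtype.ext (map_one e)
        map_mul' := fun a b => Subtype.ext (map_mul e a.1 b.1) }
    exact Group.isSolvable_of_isSolvable_injective (f := f)
      (fun a b hab => Subtype.ext (e.injective (congrArg Subtype.val hab)))
  rw [eq_bot_iff]
  intro n hn
  have h2 : e.symm n ∈ N.comap e.toMonoidHom := by
    show e (e.symm n) ∈ N
    rwa [e.apply_symm_apply]
  rw [h1, mem_bot] at h2
  rw [mem_bot, ← e.apply_symm_apply n, h2, map_one]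

theorem fix_of_zpowers {G : Type*} [Group G] {β γ : MulAut G} {g : G} (h : β g = g) (hγ : γ ∈ zpowers β) : γ g = g := by
  have h1 : zpowers β ≤ MulAction.stabilizer (MulAut G) g := by
    rw [zpowers_le]
    exact h
  exact h1 hγ

/-! ### the centre of the centraliser of a root element -/

section Zc

variable {F : Type*} [Field F] {σ : F →+* F} {G : Type u} [Group G] (S : Cfsg.Agent.KFacts.TwF4.Full σ G) [Finite F]
  [Finite G]

/-- If `α` fixes a root element then it fixes the root group. -/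
theorem fix_Zc {α : MulAut G} (h : Cfg α) (hz : α (S.e 2 0 1) = S.e 2 0 1) (u : F) : α (S.e 2 0 u) = S.e 2 0 u := by
  have hz1 : S.e 2 0 1 ≠ 1 := fun h1 => one_ne_zero (S.e_eq_one h1).2
  have hzZ : S.e 2 0 1 ∈ S.Zc 2 := ⟨1, rfl⟩
  have hPL : ∀ x, x ∈ S.PL ↔ x * S.e 2 0 1 = S.e 2 0 1 * x := by
    intro x
    rw [← S.centralizer_z hzZ hz1, mem_centralizer_singleton_iff]
  have hαPL : ∀ x, α x ∈ S.PL ↔ x ∈ S.PL := by
    intro x
    rw [hPL, hPL]
    constructor
    · intro h1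
      apply α.injective
      rw [map_mul, map_mul, hz, h1]
    · intro h1
      have h2 := congrArg α h1
      rwa [map_mul, map_mul, hz] at h2
  have h1 : α (S.e 2 0 u) ∈ S.Zc 2 := by
    apply S.center_PL
    intro x hx
    obtain ⟨x', rfl⟩ := α.surjective x
    have hx' := (hαPL x').1 hx
    rw [← map_mul, ← map_mul, S.comm_PL hx' (⟨u, rfl⟩ : S.e 2 0 u ∈ S.Zc 2)]
  have h2 : (S.e 2 0 u)⁻¹ * α (S.e 2 0 u) ∈ S.Zc 2 := mul_mem (inv_mem ⟨u, rfl⟩) h1
  obtain ⟨v, hv⟩ := h2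
  by_cases hv0 : v = 0
  · rw [hv0, S.e_zero] at hv
    exact (inv_mul_eq_one.1 hv.symm).symm
  · exfalso
    obtain ⟨t, -, ht⟩ := S.T_trans hv0 one_ne_zero
    rw [hv] at ht
    exact hz1 (h.ccp.not_conj hz ht)

end Zc

/-! ### the row -/

section Row

open Cfsg.Agent.H967.CopSz Cfsg.Agent.H967.CopFix Cfsg.Agent.H967.CopMat Cfsg.Agent.H270.StrP

variable {K : Type u} [Field K] [Fintype K] {m : ℕ}

/-- The fixed points of a field automorphism of odd prime order have no nontrivial solvable normal subgroup. -/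
theorem ns_fixA (hK : Fintype.card K = 2 ^ (2 * m + 1)) {p : ℕ} (hp : p.Prime) {τ : K ≃+* K}
    (hτp : τ ^ p = 1) (hτ : τ ≠ 1) :
    ∀ N : Subgroup ↥(fixA (S2128.fld τ (2 ^ m))), N.Normal → Group.IsSolvable N → N = ⊥ := by
  have hpf : Fact p.Prime := ⟨hp⟩
  have hfinF : Finite ↥(Fx τ) := inferInstance
  have hE := card_Fx τ
  rw [orderOf_eq_prime hτp hτ, Nat.card_eq_fintype_card, hK] at hE
  obtain ⟨m₀, j, h1, h2⟩ := exists_odd_exp Nat.prime_two hE
  have hfinE : Fintype ↥(Fx τ) := Fintype.ofFinite _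
  have hE' : Fintype.card ↥(Fx τ) = 2 ^ (2 * m₀ + 1) := by rw [← Nat.card_eq_fintype_card, h1]
  obtain ⟨f, hf, hfix⟩ := tf4_fixed hK τ h1 h2
  have hrange : f.range = fixA (S2128.fld τ (2 ^ m)) := by
    ext g
    rw [← hfix, mem_fixA]
    exact Iff.rfl
  have e : ↥(twistedF4 ↥(Fx τ) (2 ^ m₀)) ≃* ↥(fixA (S2128.fld τ (2 ^ m))) :=
    (MonoidHom.ofInjective hf).trans (MulEquiv.subgroupCongr hrange)
  apply ns_congr e
  rcases Nat.eq_zero_or_pos m₀ with h0 | h0
  · subst h0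
    obtain ⟨-, s1, na1, z1⟩ := tf4_two (E := ↥(Fx τ)) (by rw [hE']; norm_num) (d := 2 ^ 0) (pow_zero 2)
    exact ns_of_two (commutator ↥(twistedF4 ↥(Fx τ) (2 ^ 0))) s1 na1 z1
  · exact ns_of_simple (Cfsg.Agent.S1072.result h0 hE').1 (Cfsg.Agent.S1072.result h0 hE').2

theorem row (hm : 1 ≤ m) (hK : Fintype.card K = 2 ^ (2 * m + 1)) : Row ↥(twistedF4 K (2 ^ m)) := by
  have hf2 : Fact (Nat.Prime 2) := ⟨Nat.prime_two⟩
  have hcK : CharP K 2 := charP_of_card Nat.prime_two hK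
  have hpK : PerfectRing K 2 := perfect_of_finite K
  have hfinG : Finite ↥(twistedF4 K (2 ^ m)) := inferInstance
  intro α h
  -- an odd prime dividing `|α|`
  have h2G : 2 ∣ Nat.card ↥(twistedF4 K (2 ^ m)) := by
    rw [Cfsg.Agent.S1068.result hK]
    refine Dvd.dvd.mul_right (Dvd.dvd.mul_right (Dvd.dvd.mul_right (Dvd.dvd.mul_right ?_ _) _) _) _
    rw [← pow_mul]
    exact dvd_pow_self 2 (by positivity)
  obtain ⟨p, hp, hp2, hpα⟩ := h.exists_prime_ne Nat.prime_two h2G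
  obtain ⟨y, hy, hyo⟩ := exists_prime_order hp hpα
  rcases TwFOut.out hK hm hp hp2 y hyo with ⟨g, rfl⟩ | ⟨i, w, τ, hi, hτp, hτ, hw⟩
  · -- inner: real
    have hgp : g ^ p = 1 := by
      apply conj_inj h.center_bot
      rw [map_pow, map_one, ← hyo, pow_orderOf_eq_one]
    obtain ⟨c, hc⟩ := TwFReal.real_TwF hK g hp.ne_zero ((Nat.coprime_primes hp Nat.prime_two).2 hp2) hgp
    have h1 := h.sq_eq_one_of_real hy hc
    have h2 : (MulAut.conj g) ^ 2 = 1 := by rw [← map_pow, h1, map_one]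
    have h3 := orderOf_dvd_of_pow_eq_one h2
    rw [hyo] at h3
    exact hp2 ((Nat.prime_dvd_prime_iff_eq hp Nat.prime_two).1 h3)
  · -- field type
    have h' := h.congr (MulAut.conj w)
    have hcg : ∀ β : MulAut ↥(twistedF4 K (2 ^ m)), MulAut.congr (MulAut.conj w) β =
        MulAut.conj w * β * (MulAut.conj w)⁻¹ := fun β => rfl
    set β := MulAut.congr (MulAut.conj w) α with hβ
    have hfβ : S2128.fld τ (2 ^ m) ∈ zpowers β := by
      obtain ⟨n, hn⟩ := mem_zpowers_iff.1 hy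
      refine mem_zpowers_iff.2 ⟨n * i, ?_⟩
      simp_rw [hβ, hcg, conj_pow_aut, zpow_mul, hn, zpow_natCast, hw]
    obtain ⟨φ, hφ⟩ := Cfsg.Agent.ChevalleyStructure.TwF4.TwistedFix.exists_rln hK
    have hfe : ∀ u : K, S2128.fld τ (2 ^ m) ((Cfsg.Agent.KFacts.TwF4.Inst.full hK hφ).e 2 0 u) =
        (Cfsg.Agent.KFacts.TwF4.Inst.full hK hφ).e 2 0 (τ u) := by
      intro u
      have h1 := S2128.fld_re τ hφ 2 0 u
      rwa [map_zero] at h1
    have hne : S2128.fld τ (2 ^ m) ≠ 1 := by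
      intro h1
      apply hτ
      ext u
      have h2 := hfe u
      rw [h1, MulAut.one_apply] at h2
      exact ((Cfsg.Agent.KFacts.TwF4.Inst.full hK hφ).injE 2 _ _ _ _ h2).2.symm
    have hcent : ∀ g ∈ fixA (S2128.fld τ (2 ^ m)), β g = g :=
      h'.centralizes' (Cfg.fixA_ne_top hne) (Cfg.fixA_inv (Cfg.comm_zpowers hfβ (mem_zpowers β))) le_rfl
        (Cfg.fixA_inv (Cfg.comm_zpowers hfβ (mem_zpowers β))) (ns_fixA hK hp hτp hτ)
    have hz : β ((Cfsg.Agent.KFacts.TwF4.Inst.full hK hφ).e 2 0 1) =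
        (Cfsg.Agent.KFacts.TwF4.Inst.full hK hφ).e 2 0 1 := by
      apply hcent
      rw [mem_fixA, hfe, map_one]
    have hall := fix_Zc (Cfsg.Agent.KFacts.TwF4.Inst.full hK hφ) h' hz
    apply hτ
    ext u
    have h3 : S2128.fld τ (2 ^ m) ((Cfsg.Agent.KFacts.TwF4.Inst.full hK hφ).e 2 0 u) =
        (Cfsg.Agent.KFacts.TwF4.Inst.full hK hφ).e 2 0 u := by
      exact fix_of_zpowers (hall u) hfβ
    rw [hfe] at h3
    exact ((Cfsg.Agent.KFacts.TwF4.Inst.full hK hφ).injE 2 _ _ _ _ h3).2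

end Row

end Cfsg.Agent.H496.Ccp.TwF

namespace Cfsg.Agent.H496.Ccp

open Cfsg.Agent.H520

/-- **S4114 for `²F₄(q)`.** -/
theorem row_twF4 {G : Type*} [Group G] [Finite G] (h : Cfsg.Lie.Iso2F4 G) : Row G := by
  obtain ⟨K, _, _, m, hm, hK, ⟨e⟩⟩ := h
  exact (TwF.row hm hK).congr e

end Cfsg.Agent.H496.Ccp
end

-- part: H496/Ccp/Sz
section
/-!
# S4114, the Suzuki groups (helper496)

`h : Cfg α`, `G = Sz(q)`.

* `fix_one` : `α` does not fix the involution `u 0 1` (by (F1) `α` would be trivial on the root group, hence inner and a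
  2-element); hence no involution;
* `real` : elements of odd prime order are real (cyclic Sylow subgroups);
* `inn_triv` : `⟨α⟩` contains no nontrivial inner automorphism, so `|α|` divides `2 m + 1`;
* `row` : if `|α|` is prime to `|G|` then `α` is conjugate to a field automorphism; otherwise `p ∣ |α|`, `p ∣ |G|`,
  `y ∈ ⟨α⟩` of order `p` is conjugate to a field automorphism; `C_G(y) = Sz(q₀)` contains involutions and is centralised by
  `α` if `q₀ > 2`, and `|α| = p` if `q₀ = 2`.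
-/

set_option autoImplicit false

namespace Cfsg.Agent.H496.Ccp.Sz

open Subgroup Cfsg Cfsg.Lie Cfsg.Agent.H520 Cfsg.Agent.LieRecognition.SzMatrix Cfsg.Agent.H70.SzOut
  Cfsg.Agent.ThreePrime Cfsg.Agent.ThreePrime.SzRel

universe u v

variable {F : Type u} [Field F] [Fintype F] {m : ℕ}

theorem ord_conj {G : Type*} [Group G] (g x : G) : orderOf (g * x * g⁻¹) = orderOf x := by
  rw [← MulAut.conj_apply]
  exact orderOf_injective (MulAut.conj g).toMonoidHom (MulAut.conj g).injective x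

/-- In a finite cyclic group, `x ^ orderOf y = 1` makes `x` a power of `y`. -/
theorem mem_zpowers_of {G : Type*} [Group G] [Finite G] (hG : IsCyclic G) {x y : G} (h : x ^ orderOf y = 1) :
    x ∈ Subgroup.zpowers y := by
  classical
  have := Fintype.ofFinite G
  have h1 : (Finset.univ.filter fun z : G => z ^ orderOf y = 1).card ≤ orderOf y :=
    IsCyclic.card_pow_eq_one_le (orderOf_pos y)
  have h2 : (Finset.univ.filter fun z : G => z ∈ Subgroup.zpowers y) ⊆
      (Finset.univ.filter fun z : G => z ^ orderOf y = 1) := by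
    intro z hz
    rw [Finset.mem_filter] at hz ⊢
    refine ⟨Finset.mem_univ _, ?_⟩
    obtain ⟨k, rfl⟩ := hz.2
    show (y ^ k) ^ orderOf y = 1
    rw [← zpow_natCast, zpow_comm, zpow_natCast, pow_orderOf_eq_one, _root_.one_zpow]
  have h3 : (Finset.univ.filter fun z : G => z ∈ Subgroup.zpowers y).card = orderOf y := by
    rw [← Nat.card_zpowers y, Nat.card_eq_fintype_card, Fintype.card_subtype]
  have h4 := Finset.eq_of_subset_of_card_le h2 (by rw [h3]; exact h1)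
  have h5 : x ∈ (Finset.univ.filter fun z : G => z ^ orderOf y = 1) := by simp [h]
  rw [← h4, Finset.mem_filter] at h5
  exact h5.2

/-- `α` does not fix `u 0 1`. -/
theorem fix_one (hm : 1 ≤ m) (hF : Fintype.card F = 2 ^ (2 * m + 1)) {α : MulAut ↥(Cfsg.Lie.Sz F (2 ^ (m + 1)))}
    (h : Cfg α) (hz : α ((ofGood (good hF)).u 0 1) = (ofGood (good hF)).u 0 1) : False := by
  have hfin : Finite ↥(Cfsg.Lie.Sz F (2 ^ (m + 1))) := inferInstance
  set R := ofGood (good hF) with hR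
  have : Fact (Nat.Prime 2) := ⟨Nat.prime_two⟩
  have hu : ∀ (σ : F ≃+* F) (a b : F), fieldAut (good hF) σ (R.u a b) = R.u (σ a) (σ b) := fun σ a b =>
    fieldAut_u (good hF) σ a b
  obtain ⟨g, τ, hα⟩ := Cfsg.Agent.H70.SzAutThm.exists_conj_field hm hF α
  have hαu : ∀ b, α (R.u 0 b) = g * R.u 0 (τ b) * g⁻¹ := by
    intro b
    rw [hα, MulAut.mul_apply, hu, map_zero, MulAut.conj_apply]
  have hg1 : g * R.u 0 1 * g⁻¹ = R.u 0 1 := by
    have h1 := hαu 1
    rw [map_one, hz] at h1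
    exact h1.symm
  obtain ⟨a, b, k, hg⟩ := R.exists_ud (g := g) (R.u_mem 0 1) (R.u_ne_one one_ne_zero) (by rw [hg1]; exact R.u_mem 0 1)
  have hcomm : ∀ a b c, R.u a b * R.u 0 c = R.u 0 c * R.u a b := by
    intro a b c
    rw [R.comm_iff, map_zero, mul_zero, zero_mul]
  have hk : k = 1 := by
    have h1 : R.d k * R.u 0 1 * (R.d k)⁻¹ = R.u 0 1 := by
      have h2 : g * R.u 0 1 * g⁻¹ = R.u a b * (R.d k * R.u 0 1 * (R.d k)⁻¹) * (R.u a b)⁻¹ := by
        rw [hg]; group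
      rw [hg1, R.conj_d, zero_mul, zero_mul, hcomm, mul_inv_cancel_right] at h2
      rw [R.conj_d, zero_mul, zero_mul]
      exact h2.symm
    rcases R.fpf h1 with h2 | h2
    · exact h2
    · exact absurd h2.2 one_ne_zero
  rw [hk, R.d_one, mul_one] at hg
  have hτ : τ = 1 := by
    ext b
    have h1 : (R.u 0 b)⁻¹ * α (R.u 0 b) = R.u 0 (b + τ b) := by
      rw [hαu, hg, hcomm, mul_inv_cancel_right, R.u_inv, R.u_mul, map_zero]
      congr 1
      · ring
      · ring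
    by_cases h2 : b + τ b = 0
    · show τ b = b
      have h3 : τ b = - b := by linear_combination h2
      rw [h3, R.neg_eq]
    · exfalso
      obtain ⟨k, hk⟩ := R.theta_surj (b + τ b)⁻¹
      have hk0 : k ≠ 0 := by
        rintro rfl
        rw [map_zero] at hk
        exact inv_ne_zero h2 hk.symm
      have h3 : R.d (Units.mk0 k hk0) * ((R.u 0 b)⁻¹ * α (R.u 0 b)) * (R.d (Units.mk0 k hk0))⁻¹ = R.u 0 1 := by
        rw [h1, R.conj_d, zero_mul, zero_mul, Units.val_mk0, hk, mul_inv_cancel₀ h2]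
      exact R.u_ne_one one_ne_zero (h.ccp.not_conj hz h3)
  rw [hτ, map_one, mul_one] at hα
  have h4 : α ^ 2 ^ 2 = 1 := by
    have h5 : g ^ 4 = 1 := R.pow_four (by rw [hg]; exact R.u_mem a b)
    rw [hα, ← map_pow]
    norm_num only [h5, _root_.map_one]
  obtain ⟨n, -, hn⟩ := (Nat.dvd_prime_pow Nat.prime_two).1 (orderOf_dvd_of_pow_eq_one h4)
  refine h.not_primepow (p := 2) ?_ n hn
  have h6 : orderOf (R.u 0 1) = 2 := by
    rw [orderOf_eq_prime_iff, pow_two]
    exact ⟨(R.u_sq_iff 0 1).2 rfl, R.u_ne_one one_ne_zero⟩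
  have h7 := _root_.orderOf_dvd_natCard (R.u 0 1)
  rwa [h6] at h7

/-- All involutions are conjugate to `u 0 1`. -/
theorem conj_invol (hm : 1 ≤ m) (hF : Fintype.card F = 2 ^ (2 * m + 1)) {z : ↥(Cfsg.Lie.Sz F (2 ^ (m + 1)))}
    (hz : orderOf z = 2) : ∃ c, c * z * c⁻¹ = (ofGood (good hF)).u 0 1 := by
  have hfin : Finite ↥(Cfsg.Lie.Sz F (2 ^ (m + 1))) := inferInstance
  set R := ofGood (good hF) with hR
  have : Fact (Nat.Prime 2) := ⟨Nat.prime_two⟩
  obtain ⟨S, hS⟩ := Cfsg.Agent.H70.SzOut.exists_sylow hm hF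
  obtain ⟨P, hP⟩ := (IsPGroup.of_card (p := 2) (G := zpowers z) (n := 1)
    (by rw [Nat.card_zpowers, hz, pow_one])).exists_le_sylow
  obtain ⟨c, hc⟩ := MulAction.exists_smul_eq ↥(Cfsg.Lie.Sz F (2 ^ (m + 1))) P S
  have h1 : c * z * c⁻¹ ∈ R.T := by
    rw [hR, ← hS, ← hc, Sylow.coe_subgroup_smul, Subgroup.mem_pointwise_smul_iff_inv_smul_mem]
    have h2 : (MulAut.conj c)⁻¹ • (c * z * c⁻¹) = z := by
      rw [← map_inv, MulAut.smul_def, MulAut.conj_apply]
      group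
    rw [h2]
    exact hP (mem_zpowers z)
  obtain ⟨a, b, hab⟩ := h1
  have h2 : orderOf (R.u a b) = 2 := by
    rw [← hab, ord_conj, hz]
  have h3 : R.u a b * R.u a b = 1 := by
    have h3 := pow_orderOf_eq_one (R.u a b)
    rwa [h2, pow_two] at h3
  have h4 := (R.u_sq_iff a b).1 h3
  subst h4
  have hb : b ≠ 0 := by
    rintro rfl
    rw [R.u_zero, orderOf_one] at h2
    omega
  obtain ⟨k, hk⟩ := R.theta_surj b⁻¹
  have hk0 : k ≠ 0 := by
    rintro rfl
    rw [map_zero] at hk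
    exact inv_ne_zero hb hk.symm
  refine ⟨R.d (Units.mk0 k hk0) * c, ?_⟩
  have h5 : R.d (Units.mk0 k hk0) * (c * z * c⁻¹) * (R.d (Units.mk0 k hk0))⁻¹ = R.u 0 1 := by
    rw [hab, R.conj_d, zero_mul, zero_mul, Units.val_mk0, hk, mul_inv_cancel₀ hb]
  rw [← h5]
  group

/-- `α` fixes no involution. -/
theorem fix_invol (hm : 1 ≤ m) (hF : Fintype.card F = 2 ^ (2 * m + 1)) {α : MulAut ↥(Cfsg.Lie.Sz F (2 ^ (m + 1)))}
    (h : Cfg α) {z : ↥(Cfsg.Lie.Sz F (2 ^ (m + 1)))} (hz : orderOf z = 2) (hα : α z = z) : False := by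
  obtain ⟨c, hc⟩ := conj_invol hm hF hz
  refine fix_one hm hF (h.congr (MulAut.conj c)) ?_
  rw [← hc]
  have h1 := congr_ap (MulAut.conj c) α z
  rw [MulAut.conj_apply] at h1
  rw [h1, hα, MulAut.conj_apply]

/-- Elements of odd prime order are real. -/
theorem real (hm : 1 ≤ m) (hF : Fintype.card F = 2 ^ (2 * m + 1)) {p : ℕ} (hp : p.Prime) (hp2 : p ≠ 2)
    {y : ↥(Cfsg.Lie.Sz F (2 ^ (m + 1)))} (hy : orderOf y = p) : ∃ c, c * y * c⁻¹ = y⁻¹ := by
  have hfin : Finite ↥(Cfsg.Lie.Sz F (2 ^ (m + 1))) := inferInstance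
  have : Fact p.Prime := ⟨hp⟩
  obtain ⟨x, hx, hxr⟩ := Cfsg.Agent.H410.RealTw.real_sz hm hF hp2 (p := p) (by rw [← hy]; exact orderOf_dvd_natCard y)
  obtain ⟨d, hd⟩ := isConj_iff.1 hxr
  have hsyl : ∀ x : ↥(Cfsg.Lie.Sz F (2 ^ (m + 1))), orderOf x = p →
      ∃ P : Sylow p ↥(Cfsg.Lie.Sz F (2 ^ (m + 1))), x ∈ (P : Subgroup ↥(Cfsg.Lie.Sz F (2 ^ (m + 1)))) := by
    intro x hx
    obtain ⟨P, hP⟩ := (IsPGroup.of_card (p := p) (G := zpowers x) (n := 1)
      (by rw [Nat.card_zpowers, hx, pow_one])).exists_le_sylow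
    exact ⟨P, hP (mem_zpowers x)⟩
  obtain ⟨P, hP⟩ := hsyl x hx
  obtain ⟨Q, hQ⟩ := hsyl y hy
  obtain ⟨c, hc⟩ := MulAction.exists_smul_eq ↥(Cfsg.Lie.Sz F (2 ^ (m + 1))) Q P
  have h1 : c * y * c⁻¹ ∈ (P : Subgroup ↥(Cfsg.Lie.Sz F (2 ^ (m + 1)))) := by
    rw [← hc, Sylow.coe_subgroup_smul, Subgroup.mem_pointwise_smul_iff_inv_smul_mem]
    have h2 : (MulAut.conj c)⁻¹ • (c * y * c⁻¹) = y := by
      rw [← map_inv, MulAut.smul_def, MulAut.conj_apply]
      group
    rw [h2]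
    exact hQ
  have hcyc := Cfsg.Agent.H67.SzOdd.sylow_cyclic hm hF hp2 P
  -- the subgroups of order `p` of a cyclic group
  have hz : (⟨c * y * c⁻¹, h1⟩ : ↥(P : Subgroup ↥(Cfsg.Lie.Sz F (2 ^ (m + 1))))) ∈
      zpowers (⟨x, hP⟩ : ↥(P : Subgroup ↥(Cfsg.Lie.Sz F (2 ^ (m + 1))))) := by
    refine mem_zpowers_of hcyc ?_
    have h2 : orderOf (⟨x, hP⟩ : ↥(P : Subgroup ↥(Cfsg.Lie.Sz F (2 ^ (m + 1))))) = p := by
      rw [Subgroup.orderOf_mk, hx]
    rw [h2]
    apply Subtype.ext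
    have h3 : (c * y * c⁻¹) ^ p = 1 := by
      rw [conj_pow, ← hy, pow_orderOf_eq_one, mul_one, mul_inv_cancel]
    exact h3
  obtain ⟨i, hi⟩ := mem_zpowers_iff.1 hz
  have hi' : x ^ i = c * y * c⁻¹ := by
    have := congrArg Subtype.val hi
    simpa only [_root_.SubgroupClass.coe_zpow] using this
  refine ⟨c⁻¹ * d * c, ?_⟩
  have h3 : y = c⁻¹ * x ^ i * c := by rw [hi']; group
  have h4 : d * x ^ i * d⁻¹ = (x ^ i)⁻¹ := by
    rw [← conj_zpow, hd, inv_zpow]
  calc c⁻¹ * d * c * y * (c⁻¹ * d * c)⁻¹ = c⁻¹ * (d * x ^ i * d⁻¹) * c := by rw [h3]; group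
    _ = y⁻¹ := by rw [h4, h3]; group

/-- `⟨α⟩` contains no nontrivial inner automorphism. -/
theorem inn_triv (hm : 1 ≤ m) (hF : Fintype.card F = 2 ^ (2 * m + 1)) {α : MulAut ↥(Cfsg.Lie.Sz F (2 ^ (m + 1)))}
    (h : Cfg α) {x : MulAut ↥(Cfsg.Lie.Sz F (2 ^ (m + 1)))} (hx : x ∈ zpowers α)
    {g : ↥(Cfsg.Lie.Sz F (2 ^ (m + 1)))} (hg : x = MulAut.conj g) : x = 1 := by
  have hfin : Finite ↥(Cfsg.Lie.Sz F (2 ^ (m + 1))) := inferInstance
  by_contra hne
  have h1 : orderOf g ≠ 1 := by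
    intro h1
    rw [orderOf_eq_one_iff] at h1
    rw [h1, map_one] at hg
    exact hne hg
  obtain ⟨s, hs, hsd⟩ := Nat.exists_prime_and_dvd h1
  obtain ⟨z, hz⟩ : ∃ z, z = g ^ (orderOf g / s) := ⟨_, rfl⟩
  have hzo : orderOf z = s := by
    rw [hz]
    exact orderOf_pow_orderOf_div (orderOf_pos g).ne' hsd
  have hzα : MulAut.conj z ∈ zpowers α := by
    rw [hz, map_pow, ← hg]
    exact pow_mem hx _
  by_cases h2 : s = 2
  · refine fix_invol hm hF h (z := z) (by rw [hzo, h2]) ?_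
    exact fix_of_comm h.center_bot (Cfg.comm_zpowers (mem_zpowers α) hzα)
  · obtain ⟨c, hc⟩ := real hm hF hs h2 hzo
    have h3 := h.sq_eq_one_of_real hzα hc
    have h4 := orderOf_dvd_of_pow_eq_one h3
    rw [hzo] at h4
    exact h2 ((Nat.prime_dvd_prime_iff_eq hs Nat.prime_two).1 h4)

/-- `|α|` divides `2 m + 1`. -/
theorem ord_dvd (hm : 1 ≤ m) (hF : Fintype.card F = 2 ^ (2 * m + 1)) {α : MulAut ↥(Cfsg.Lie.Sz F (2 ^ (m + 1)))}
    (h : Cfg α) : orderOf α ∣ 2 * m + 1 := by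
  rw [orderOf_dvd_iff_pow_eq_one]
  have h1 : (QuotientGroup.mk' (Cfsg.Inn ↥(Cfsg.Lie.Sz F (2 ^ (m + 1))))) (α ^ (2 * m + 1)) = 1 := by
    have hout := Cfsg.Agent.S2126.result hm hF
    have hfO : Finite (Cfsg.Out ↥(Cfsg.Lie.Sz F (2 ^ (m + 1)))) := Nat.finite_of_card_ne_zero (by rw [hout]; omega)
    simp only [map_pow, ← hout]
    exact pow_card_eq_one' (G := Cfsg.Out ↥(Cfsg.Lie.Sz F (2 ^ (m + 1))))
  obtain ⟨g, hg⟩ := (QuotientGroup.eq_one_iff _).1 h1
  exact inn_triv hm hF h (pow_mem (mem_zpowers α) _) hg.symm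

/-- coprime automorphisms are conjugate to field automorphisms -/
theorem copIn (hm : 1 ≤ m) (hF : Fintype.card F = 2 ^ (2 * m + 1)) {ρ : F ≃+* F}
    (hρ : orderOf ρ = Nat.card (F ≃+* F)) :
    H254.CopIn ↥(Cfsg.Lie.Sz F (2 ^ (m + 1))) (fieldAut (good hF) ρ) := by
  have h1 := (copIn_sz hm hF hρ).of_equiv (szE hm hF)
  have h2 : MulAut.congr (szE hm hF) (fa hm hF ρ) = fieldAut (good hF) ρ := by
    ext g : 1
    show szE hm hF (fa hm hF ρ ((szE hm hF).symm g)) = _
    unfold fa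
    show szE hm hF ((szE hm hF).symm (fieldAut (good hF) ρ (szE hm hF ((szE hm hF).symm g)))) = _
    rw [MulEquiv.apply_symm_apply, MulEquiv.apply_symm_apply]
  rwa [h2] at h1

section Main

open Cfsg.Agent.H967.CopSz Cfsg.Agent.H967.CopFix Cfsg.Agent.H967.CopMat Cfsg.Agent.H270.StrP

/-- **The row of the Suzuki groups.** -/
theorem row (hm : 1 ≤ m) (hF : Fintype.card F = 2 ^ (2 * m + 1)) : Row ↥(Cfsg.Lie.Sz F (2 ^ (m + 1))) := by
  have hfin : Finite ↥(Cfsg.Lie.Sz F (2 ^ (m + 1))) := inferInstance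
  intro α h
  by_cases hco : (orderOf α).Coprime (Nat.card ↥(Cfsg.Lie.Sz F (2 ^ (m + 1))))
  · -- coprime: a field automorphism
    obtain ⟨ρ, hρ, -⟩ := H254.exists_ringAut F
    obtain ⟨γ, hγ⟩ := copIn hm hF hρ (Subgroup.zpowers α) (by rw [Nat.card_zpowers]; exact hco)
    have h5 : γ * α * γ⁻¹ ∈ Subgroup.zpowers (H70.SzOut.fieldAut (good hF) ρ) := by
      apply hγ
      exact ⟨α, Subgroup.mem_zpowers α, rfl⟩
    obtain ⟨k, hk⟩ := h5
    have h6 : γ * α * γ⁻¹ = H70.SzOut.fieldAut (good hF) (ρ ^ k) := by rw [map_zpow]; exact hk.symm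
    refine fix_one hm hF (h.congr γ) ?_
    show (γ * α * γ⁻¹) _ = _
    rw [h6]
    have h7 := fieldAut_u (good hF) (ρ ^ k) 0 1
    rw [map_zero, map_one] at h7
    exact h7
  · obtain ⟨p, hp, hpα, hpG⟩ := Nat.Prime.not_coprime_iff_dvd.1 hco
    have hpf : Fact p.Prime := ⟨hp⟩
    have h2m := (hpα.trans (ord_dvd hm hF h))
    have hp2 : p ≠ 2 := by
      rintro rfl
      omega
    obtain ⟨y, hy, hyo⟩ := exists_prime_order hp hpα
    have h2p := two_prime
    have hcF : CharP F 2 := charP_of_card Nat.prime_two hF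
    have hs : IsSimpleGroup ↥(Cfsg.Lie.Sz F (2 ^ (m + 1))) := Cfsg.Agent.S1162.result hm hF
    have hcard := (Cfsg.Agent.S1163.result hm hF).1
    have hq2 : 2 ≤ 2 ^ (2 * m + 1) := Nat.le_self_pow (by omega) 2
    have hyi : ¬ ∃ g, y = MulAut.conj g := by
      rintro ⟨g, hg⟩
      have h1 := inn_triv hm hF h hy hg
      rw [h1, orderOf_one] at hyo
      exact hp.one_lt.ne hyo
    obtain ⟨σ, hσ, hσ', g, hg⟩ := exists_field (stab_sz hF) (p := 2) (by omega) hF (S2126.result hm hF)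
      (fun ψ => by
        obtain ⟨g, σ, h⟩ := Cfsg.Agent.H70.SzAutThm.exists_conj_field hm hF ψ
        exact ⟨g, σ, h⟩) hp hyo hyi
    have hE := card_Fx σ
    rw [hσ, Nat.card_eq_fintype_card, hF] at hE
    obtain ⟨m₀, j, h1, h2⟩ := exists_odd_exp Nat.prime_two hE
    have h3 : 2 * m + 1 = (2 * m₀ + 1) * p := by
      rw [h1, ← pow_mul] at hE
      exact Nat.pow_right_injective (le_refl 2) hE
    have hfinE : Fintype ↥(Fx σ) := Fintype.ofFinite _
    have hE' : Fintype.card ↥(Fx σ) = 2 ^ (2 * m₀ + 1) := by rw [← Nat.card_eq_fintype_card, h1]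
    have hpq : ∀ n : ℕ, ¬ p ∣ 2 ^ n := fun n h =>
      hp2 ((Nat.prime_dvd_prime_iff_eq hp Nat.prime_two).1 (hp.dvd_of_dvd_pow h))
    have hqq : 2 ^ (2 * m + 1) = (2 ^ (2 * m₀ + 1)) ^ p := by rw [h3, pow_mul]
    by_cases hm₀ : 1 ≤ m₀
    · obtain ⟨f, hf, hfix⟩ := sz_fixed hF σ h1 h2
      have hs₀ : IsSimpleGroup ↥(Cfsg.Lie.Sz ↥(Fx σ) (2 ^ (m₀ + 1))) := Cfsg.Agent.S1162.result hm₀ hE'
      have hcard₀ := (Cfsg.Agent.S1163.result hm₀ hE').1
      have hr2 : 2 ≤ 2 ^ (2 * m₀ + 1) := Nat.le_self_pow (by omega) 2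
      have hna₀ : ¬ IsMulCommutative ↥(Cfsg.Lie.Sz ↥(Fx σ) (2 ^ (m₀ + 1))) :=
        not_comm_of_card hcard₀ (by nlinarith only [hr2, Nat.sub_pos_of_lt hr2]) (by nlinarith only [hr2])
      have hlt : (Nat.card ↥(Cfsg.Lie.Sz ↥(Fx σ) (2 ^ (m₀ + 1)))).factorization p <
          (Nat.card ↥(Cfsg.Lie.Sz F (2 ^ (m + 1)))).factorization p := by
        have hA := fact_pow_sub hp hp2 hr2
        have hB := fact_pow_add hp hp2 (a := (2 ^ (2 * m₀ + 1)) ^ 2) (Nat.one_le_pow _ _ (by positivity))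
        have hB' : ((2 ^ (2 * m₀ + 1)) ^ 2) ^ p = (2 ^ (2 * m + 1)) ^ 2 := by
          rw [hqq]
          generalize 2 ^ (2 * m₀ + 1) = r
          rw [← pow_mul, ← pow_mul, mul_comm 2 p]
        rw [hB'] at hB
        rw [← hqq] at hA
        rw [hcard] at hpG
        rw [hcard, hcard₀]
        refine fact_mul_lt hp (by positivity) (by positivity) (by omega) (by omega) (by positivity) (by positivity)
          (by rw [← pow_mul]; exact hpq _) (by rw [← pow_mul]; exact hpq _) hA hB hpG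
      have hfixc : (Nat.card {y : ↥(Cfsg.Lie.Sz F (2 ^ (m + 1))) //
          H967.CopMat.fieldAut (stab_sz hF) σ y = y}).factorization p <
          (Nat.card ↥(Cfsg.Lie.Sz F (2 ^ (m + 1)))).factorization p := by
        rw [Nat.card_congr (Equiv.subtypeEquivRight hfix)]
        have h9 : Nat.card ↥f.range = Nat.card ↥(Cfsg.Lie.Sz ↥(Fx σ) (2 ^ (m₀ + 1))) :=
          (Nat.card_congr (MonoidHom.ofInjective hf).toEquiv).symm
        exact lt_of_eq_of_lt (congrArg (fun n => n.factorization p) h9) hlt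
      obtain ⟨β, hβ⟩ := coset_conj h.center_bot hp2
        (fun P => Cfsg.Agent.H67.SzOdd.sylow_cyclic hm hF hp2 P) hyo hσ' hg hfixc
      -- conjugate `α`
      set φ := H967.CopMat.fieldAut (stab_sz hF) σ with hφdef
      have hyφ : β⁻¹ * y * β = φ := by
        ext w : 1
        show β⁻¹ (y (β w)) = φ w
        rw [← hβ, MulAut.inv_apply_self]
      have h' := h.congr β⁻¹
      have hcg : MulAut.congr β⁻¹ α = β⁻¹ * α * (β⁻¹)⁻¹ := rfl
      set α' := MulAut.congr β⁻¹ α with hα'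
      have hφα : φ ∈ zpowers α' := by
        obtain ⟨n, hn⟩ := mem_zpowers_iff.1 hy
        refine mem_zpowers_iff.2 ⟨n, ?_⟩
        rw [hcg, conj_pow_aut, hn, inv_inv, hyφ]
      have hrange : f.range = fixA φ := by
        ext g
        rw [← hfix, mem_fixA]
      have e : ↥(Cfsg.Lie.Sz ↥(Fx σ) (2 ^ (m₀ + 1))) ≃* ↥(fixA φ) :=
        (MonoidHom.ofInjective hf).trans (MulEquiv.subgroupCongr hrange)
      have hφ1 : φ ≠ 1 := by
        intro h4
        rw [h4, orderOf_one] at hσ'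
        exact hp.one_lt.ne hσ'
      have hcent : ∀ g ∈ fixA φ, α' g = g :=
        h'.centralizes' (Cfg.fixA_ne_top hφ1) (Cfg.fixA_inv (Cfg.comm_zpowers hφα (mem_zpowers α'))) le_rfl
          (Cfg.fixA_inv (Cfg.comm_zpowers hφα (mem_zpowers α'))) (TwF.ns_congr e (TwF.ns_of_simple hs₀ hna₀))
      refine fix_one hm hF h' (hcent _ ?_)
      rw [mem_fixA]
      have h7 := fieldAut_u (good hF) σ 0 1
      rw [map_zero, map_one] at h7
      exact h7
    · -- `q₀ = 2`
      have h0 : m₀ = 0 := by omega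
      rw [h0, mul_zero, zero_add, one_mul] at h3
      have h4 := ord_dvd hm hF h
      rw [h3] at h4
      rcases (Nat.dvd_prime hp).1 h4 with h5 | h5
      · exact h.ne (orderOf_eq_one_iff.1 h5)
      · exact h.not_primepow hpG 1 (by rw [h5, pow_one])

end Main

end Cfsg.Agent.H496.Ccp.Sz

namespace Cfsg.Agent.H496.Ccp

open Cfsg.Agent.H520

/-- **S4114 for the Suzuki groups.** -/
theorem row_sz {G : Type*} [Group G] [Finite G] (h : Cfsg.Lie.IsoSuzuki G) : Row G := by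
  obtain ⟨F, _, _, m, hm, hF, ⟨e⟩⟩ := h
  exact (Sz.row hm hF).congr e

end Cfsg.Agent.H496.Ccp
end

private theorem dce_6105889e1194 : _root_.True := by
  try have : _root_.True := by simp only [_root_.Cfsg.Agent.ClassicalGeometry.AutPSL.SylowU.upper.congr_simp]
  try have : _root_.True := by simp only [_root_.Cfsg.Agent.H272.Ccp.cols.eq_1]
  try have : _root_.True := by simp only [_root_.Cfsg.Agent.H272.Ccp.w0.congr_simp]
  exact _root_.True.intro
end

-- part: H520/CcpLie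
section
prune_inst 0x4743063647500020000000512220022247800050200600001e1e00b060b0963628002a9000ea00012184cb28010000040004400d0000000000000300000070120802a5604d3d90d0c840009801004000000000000000000000000000000000000000000000
set_option linter.all false
open scoped Cfsg.Agent.FastGrp

/-!
# The rows of the groups of Lie type (helper520, S4114)

`row_lie` : `Row K` for the simple groups `K` with `IsLieTypeChar p K`.
-/

set_option autoImplicit false
set_option linter.unusedSectionVars false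

namespace Cfsg.Agent.H520.Lie

open Cfsg Cfsg.Agent.H460.Engine Cfsg.Agent.H520.Comb Cfsg.Agent.H520.EngNE Cfsg.Agent.H538.MFacts
open Cfsg.Agent.H460.Typed Cfsg.Agent.H185.TypedTw
open Cfsg.Agent.LieRecognition.BNCox (cA)
open Cfsg.Agent.Nodes
open Cfsg.Agent.FixOdd (Tw)
open Cfsg.Agent.KFacts.RgdLieCharP (IsLieFilt)

/-! ### Linear groups -/

section Linear

open Matrix

variable {F : Type} [Field F] [Fintype F] {p : ℕ} [Fact p.Prime] [CharP F p]

include p

theorem row_psl_ge {n : ℕ} (hn : 4 ≤ n) [IsSimpleGroup (ProjectiveSpecialLinearGroup (Fin (n + 1)) F)] :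
    Row (ProjectiveSpecialLinearGroup (Fin (n + 1)) F) := by
  have : Finite (ProjectiveSpecialLinearGroup (Fin (n + 1)) F) := Quotient.finite _
  obtain ⟨E, -⟩ := exists_engF (ℓ := p) (by omega) (H460.FTypedAE.ftyped_psl F (n := n) (by omega))
  have hG : IsPSLChar p (ProjectiveSpecialLinearGroup (Fin (n + 1)) F) :=
    ⟨F, inferInstance, inferInstance, inferInstance, n + 1, by omega, fun h => by omega, ⟨MulEquiv.refl _⟩⟩
  exact row_comb E (by omega) (irr_A n) (Or.inl hG) (Or.inl hG) (comb_A hn)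

theorem row_psl4 [IsSimpleGroup (ProjectiveSpecialLinearGroup (Fin 4) F)] :
    Row (ProjectiveSpecialLinearGroup (Fin 4) F) := by
  have : Finite (ProjectiveSpecialLinearGroup (Fin 4) F) := Quotient.finite _
  by_cases h2 : Fintype.card F = 2
  · obtain ⟨e⟩ := Cfsg.Agent.S0256.result h2
    exact Row.congr e (H763.Ccp.row_alt ⟨8, by norm_num, ⟨MulEquiv.refl _⟩⟩)
  obtain ⟨E, hE⟩ := exists_engF (ℓ := p) (by omega) (H460.FTypedAE.ftyped_psl F (n := 3) (by omega))
  have hG : IsPSLChar p (ProjectiveSpecialLinearGroup (Fin 4) F) :=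
    ⟨F, inferInstance, inferInstance, inferInstance, 4, by omega, fun h => by omega, ⟨MulEquiv.refl _⟩⟩
  refine row_eng E (by omega) (irr_A 3) (Or.inl hG) (Or.inl hG) fun {t c} h hc hM => ?_
  by_contra hne
  have hσ := E.sigma_M t
  -- the middle node
  have h1 : t.σ 1 = 1 := by
    have h3 : ∀ x : Fin 3, dg (cA 3) x = dg (cA 3) 1 → x = 1 := by decide
    exact h3 _ (dg_inv hσ 1)
  have h0 : t.σ 0 = 2 ∧ t.σ 2 = 0 := by
    have h4 : ∀ i : Fin 3, i = 0 ∨ i = 1 ∨ i = 2 := by decide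
    have h5 : t.σ 0 ≠ 1 := fun h => absurd (t.σ.injective (h.trans h1.symm)) (by decide)
    have h6 : t.σ 2 ≠ 1 := fun h => absurd (t.σ.injective (h.trans h1.symm)) (by decide)
    have h7 : t.σ 0 ≠ t.σ 2 := fun h => absurd (t.σ.injective h) (by decide)
    rcases h4 (t.σ 0) with h8 | h8 | h8
    · rcases h4 (t.σ 2) with h9 | h9 | h9
      · exact absurd (h8.trans h9.symm) h7
      · exact absurd h9 h6
      · exfalso
        apply hne
        intro i
        rcases h4 i with rfl | rfl | rfl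
        · exact h8
        · exact h1
        · exact h9
    · exact absurd h8 h5
    · rcases h4 (t.σ 2) with h9 | h9 | h9
      · exact ⟨h8, h9⟩
      · exact absurd h9 h6
      · exact absurd (h8.trans h9.symm) h7
  have hsol := (hM {i | i ≠ 1} (fun h => by
      have : (1 : Fin 3) ∈ ({i | i ≠ 1} : Set (Fin 3)) := by rw [h]; trivial
      exact this rfl) (fun i hi h => hi (t.σ.injective (h.trans h1.symm))) 0 (by
      show (0 : Fin 3) ≠ 1
      decide) (by rw [h0.1]; decide)).2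
  have h3 := H460.PanL.q_of_fsol E.S E.e (hE 0) hsol
  rw [Nat.card_eq_fintype_card] at h3
  have h3 : Fintype.card F = 3 := h3.resolve_left h2
  have hp : p = 3 := by
    have h5 : (Fintype.card F : F) = 0 := FiniteField.cast_card_eq_zero F
    rw [h3, CharP.cast_eq_zero_iff F p] at h5
    exact (Nat.prime_dvd_prime_iff_eq Fact.out Nat.prime_three).1 h5
  subst hp
  exact noswap_false (H272.Ccp.noswap_psl4_three h3 3) h hc (by decide) h0.1 h0.2

theorem row_psl3 [IsSimpleGroup (ProjectiveSpecialLinearGroup (Fin 3) F)] :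
    Row (ProjectiveSpecialLinearGroup (Fin 3) F) := by
  have : Finite (ProjectiveSpecialLinearGroup (Fin 3) F) := Quotient.finite _
  obtain ⟨E, -⟩ := exists_engF (ℓ := p) (by norm_num) (H460.FTypedAE.ftyped_psl F (n := 2) (by omega))
  have hG : IsPSLChar p (ProjectiveSpecialLinearGroup (Fin 3) F) :=
    ⟨F, inferInstance, inferInstance, inferInstance, 3, by omega, fun h => by omega, ⟨MulEquiv.refl _⟩⟩
  exact row_swap E (irr_A 2) (Or.inl hG) (Or.inl hG) (H272.Ccp.noswap_psl3 p)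

end Linear

/-! ### Symplectic groups -/

section Symplectic

variable {F : Type} [Field F] [Fintype F] {p : ℕ} [Fact p.Prime] [CharP F p] {m : ℕ}

include p

theorem row_psp (hm : 2 ≤ m) (h2 : m = 2 → 3 ≤ Fintype.card F) [IsSimpleGroup (PSp m F)] : Row (PSp m F) := by
  have : Finite (PSp m F) := Quotient.finite _
  have hG : IsPSpChar p (PSp m F) := ⟨F, inferInstance, inferInstance, inferInstance, m, hm, h2, ⟨MulEquiv.refl _⟩⟩
  by_cases hp : p = 2
  · subst hp
    exact H456.PspGraph.row_psp_char_two hG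
  obtain ⟨E, -⟩ := exists_engF (ℓ := p) (by omega) (H460.FTypC.ftyped_psp F (m := m) (by omega))
  rcases hm.eq_or_lt with rfl | hm
  · exact row_eng E le_rfl (irr_B 2) (Or.inr (Or.inl hG)) (Or.inr (Or.inl hG)) fun {t c} _ hc _ => SpOdd.no_swap hp E hc
  · exact row_comb E (by omega) (irr_B m) (Or.inr (Or.inl hG)) (Or.inr (Or.inl hG)) fun h _ => comb_B hm h

end Symplectic

/-! ### Unitary groups -/

section Unitary

variable {F : Type} [Field F] [Fintype F] {p : ℕ} [Fact p.Prime] [CharP F p] {q m : ℕ}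

theorem q_gt (hF : Fintype.card F = q ^ 2) : 2 ≤ q := by
  have h1 : 1 < Fintype.card F := Fintype.one_lt_card
  by_contra hcon
  have : q ≤ 1 := by omega
  have h2 : q ^ 2 ≤ 1 ^ 2 := Nat.pow_le_pow_left this 2
  omega

include p

theorem row_psu_even (hF : Fintype.card F = q ^ 2) (hm : 2 ≤ m) [IsSimpleGroup (PSU (2 * m) F q)] :
    Row (PSU (2 * m) F q) := by
  have : Finite (PSU (2 * m) F q) := Quotient.finite _
  have hG : IsPSUChar p (PSU (2 * m) F q) := ⟨F, inferInstance, inferInstance, inferInstance, 2 * m, q, hF, by omega,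
    fun h => by omega, ⟨MulEquiv.refl _⟩⟩
  have hG1 : IsLieFilt p (PSU (2 * m) F q) := Or.inr (Or.inr (Or.inl hG))
  have hG2 : IsLieTypeChar p (PSU (2 * m) F q) := Or.inr (Or.inr (Or.inl hG))
  obtain ⟨E, -⟩ := exists_engF (ℓ := p) (by omega) (H460.FTypC.ftyped_psu_even (p := p) hF hm)
  rcases hm.eq_or_lt with rfl | hm
  · refine row_size E (irr_B 2) hG1 hG2 ?_
    show q ^ 2 ≠ q
    have := q_gt hF
    intro h
    nlinarith
  · exact row_comb E (by omega) (irr_B m) hG1 hG2 fun h _ => comb_B hm h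

theorem row_psu_odd (hF : Fintype.card F = q ^ 2) (hm : 2 ≤ m) [IsSimpleGroup (PSU (2 * m + 1) F q)] :
    Row (PSU (2 * m + 1) F q) := by
  have : Finite (PSU (2 * m + 1) F q) := Quotient.finite _
  have hG : IsPSUChar p (PSU (2 * m + 1) F q) := ⟨F, inferInstance, inferInstance, inferInstance, 2 * m + 1, q, hF,
    by omega, fun h => by omega, ⟨MulEquiv.refl _⟩⟩
  have hG1 : IsLieFilt p (PSU (2 * m + 1) F q) := Or.inr (Or.inr (Or.inl hG))
  have hG2 : IsLieTypeChar p (PSU (2 * m + 1) F q) := Or.inr (Or.inr (Or.inl hG))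
  obtain ⟨E⟩ := exists_eng (ℓ := p) (by omega) (H14.TypC.typed_psu_odd (F := F) (p := p) hF (m := m) (by omega))
  rcases hm.eq_or_lt with rfl | hm
  · refine row_size E (irr_B 2) hG1 hG2 ?_
    show q ^ 2 ≠ q ^ 3
    have := q_gt hF
    intro h
    have h3 : q ^ 3 = q ^ 2 * q := by ring
    rw [h3] at h
    have h4 : 0 < q ^ 2 := by positivity
    nlinarith
  · exact row_comb E (by omega) (irr_B m) hG1 hG2 fun h _ => comb_B hm h

theorem row_psu3 (hF : Fintype.card F = q ^ 2) (hq : q ≠ 2) : Row (PSU 3 F q) := by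
  have : Finite (PSU 3 F q) := Quotient.finite _
  have hG : IsPSUChar p (PSU 3 F q) := ⟨F, inferInstance, inferInstance, inferInstance, 3, q, hF, by omega,
    fun h => hq h.2, ⟨MulEquiv.refl _⟩⟩
  intro α h
  exact H412.TwRow.elRow_of_lie (r := p) (Or.inr (Or.inr (Or.inl hG))) α h (H763.Ccp.Psu.ne_psu3 hF hq α h)

end Unitary

/-! ### Orthogonal groups -/

section Orth

variable {F : Type} [Field F] [Fintype F] {p : ℕ} [Fact p.Prime] [CharP F p] {m : ℕ}

include p

theorem row_odd (hm : 3 ≤ m) (hq : Odd (Fintype.card F)) [IsSimpleGroup (POmega F (quadFormOdd m F))] :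
    Row (POmega F (quadFormOdd m F)) := by
  have : Finite (POmega F (quadFormOdd m F)) := Quotient.finite _
  have hG : IsPOmegaOddChar p (POmega F (quadFormOdd m F)) := ⟨F, inferInstance, inferInstance, inferInstance, m, hm, hq,
    ⟨MulEquiv.refl _⟩⟩
  obtain ⟨E⟩ := exists_eng (ℓ := p) (by omega) (H185.TypedO.typed_odd_card (F := F) (p := p) (m := m) (by omega) (by
    rw [Nat.card_eq_fintype_card]; exact hq))
  exact row_comb E (by omega) (irr_B m) (Or.inr (Or.inr (Or.inr (Or.inl hG)))) (Or.inr (Or.inr (Or.inr (Or.inl hG))))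
    fun h _ => comb_B hm h

theorem row_minus (hm : 4 ≤ m) (a b : F)
    (hab : ∀ z₁ z₂ : F, z₁ ^ 2 + a * z₁ * z₂ + b * z₂ ^ 2 = 0 → z₁ = 0 ∧ z₂ = 0)
    [IsSimpleGroup (POmega F (quadFormMinus (m - 1) F a b))] : Row (POmega F (quadFormMinus (m - 1) F a b)) := by
  have : Finite (POmega F (quadFormMinus (m - 1) F a b)) := Quotient.finite _
  have hG : IsPOmegaMinusChar p (POmega F (quadFormMinus (m - 1) F a b)) :=
    ⟨F, inferInstance, inferInstance, inferInstance, m, a, b, hm, hab, ⟨MulEquiv.refl _⟩⟩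
  obtain ⟨E⟩ := exists_eng (ℓ := p) (by omega) (H185.TypedO.typed_minus' (F := F) (p := p) (m := m - 1) (by omega) a b hab)
  have hG1 : IsLieFilt p (POmega F (quadFormMinus (m - 1) F a b)) :=
    Or.inr (Or.inr (Or.inr (Or.inr (Or.inr (Or.inl hG)))))
  have hG2 : IsLieTypeChar p (POmega F (quadFormMinus (m - 1) F a b)) :=
    Or.inr (Or.inr (Or.inr (Or.inr (Or.inr (Or.inl hG)))))
  exact row_comb E (by omega) (irr_B (m - 1)) hG1 hG2 fun h _ => comb_B (by omega) h

theorem row_plus {n : ℕ} (hn : 2 ≤ n) [IsSimpleGroup (POmega F (quadFormPlus (n + 2) F))] :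
    Row (POmega F (quadFormPlus (n + 2) F)) := by
  have : Finite (POmega F (quadFormPlus (n + 2) F)) := Quotient.finite _
  have hG : IsPOmegaPlusChar p (POmega F (quadFormPlus (n + 2) F)) :=
    ⟨F, inferInstance, inferInstance, inferInstance, n + 2, by omega, ⟨MulEquiv.refl _⟩⟩
  have hG1 : IsLieFilt p (POmega F (quadFormPlus (n + 2) F)) := Or.inr (Or.inr (Or.inr (Or.inr (Or.inl hG))))
  have hG2 : IsLieTypeChar p (POmega F (quadFormPlus (n + 2) F)) := Or.inr (Or.inr (Or.inr (Or.inr (Or.inl hG))))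
  rcases hn.eq_or_lt with rfl | hn
  · by_cases hF : Nat.card F = 2 ∨ Nat.card F = 3
    · obtain ⟨E, -, h1, -⟩ := H289.D4T.exists_eng_o8 (F := F) (r := p) hF
      refine row_eng E (by omega) (irr_D 2 (by norm_num)) hG1 hG2 fun {t c} h hc hM => ?_
      refine comb_D4 (E.sigma_M t) (h1 t h.ccp ∅ (fun h => ?_) (fun i hi => hi.elim) ⟨c, ?_⟩) hM.ct
      · have : (0 : Fin 4) ∈ (∅ : Set (Fin 4)) := by rw [h]; trivial
        exact this
      · rw [hc]
        exact E.Δ.self_mem_Res _ _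
    · obtain ⟨E, hE⟩ := exists_engF (ℓ := p) (by omega) (H460.FTypO.ftyped_plus' (F := F) (p := p) (m := 2) (by omega))
      refine row_eng E (by omega) (irr_D 2 (by norm_num)) hG1 hG2 fun {t c} h hc hM => ?_
      have hσ := E.sigma_M t
      have h1 : t.σ 1 = 1 := by
        have h3 : ∀ x : Fin 4, mD x (t.σ 1) = mD x (t.σ 1) := fun _ => rfl
        by_contra hne
        -- `1` has three neighbours
        have h4 : ∀ j : Fin 4, j ≠ 1 → mD (t.σ 1) (t.σ j) = 3 := by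
          intro j hj
          rw [← mD_eq, hσ, mD_eq]
          unfold mD
          rw [if_neg (Ne.symm hj), if_pos (Or.inl rfl)]
        have h5 : ∀ a b : Fin 4, a ≠ 1 → mD a b = 3 → b = 1 := by decide
        have h6 := h5 _ _ hne (h4 0 (by decide))
        have h7 := h5 _ _ hne (h4 2 (by decide))
        exact absurd (t.σ.injective (h6.trans h7.symm)) (by decide)
      intro i
      by_contra hi
      have hi1 : i ≠ 1 := by
        rintro rfl
        exact hi h1
      have hsol := (hM {i | i ≠ 1} (fun h => by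
        have : (1 : Fin 4) ∈ ({i | i ≠ 1} : Set (Fin 4)) := by rw [h]; trivial
        exact this rfl) (fun i hi h => hi (t.σ.injective (h.trans h1.symm))) i hi1 hi).2
      exact hF (H460.PanL.q_of_fsol E.S E.e (hE i) hsol)
  · obtain ⟨E, -⟩ := exists_engF (ℓ := p) (by omega) (H460.FTypO.ftyped_plus' (F := F) (p := p) (m := n) (by omega))
    exact row_comb E (by omega) (irr_D n (by omega)) hG1 hG2 (comb_D hn)

end Orth

/-! ### Exceptional groups -/

section Exc

open Cfsg.Lie Cfsg.Agent.Nodes.RGDChev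

variable {F : Type} [Field F] [Fintype F] {p : ℕ} [Fact p.Prime] [CharP F p]

include p

theorem row_G2 (h3 : 3 ≤ Fintype.card F) [IsSimpleGroup ↥(chevG2.group F)] : Row ↥(chevG2.group F) := by
  have hG : IsExceptionalChevChar p ↥(chevG2.group F) :=
    ⟨F, inferInstance, inferInstance, inferInstance, Or.inl ⟨h3, ⟨MulEquiv.refl _⟩⟩⟩
  obtain ⟨E, -⟩ := exists_engF (ℓ := p) (by norm_num)
    (H460.FTypedAE.ftyped_chev (D := chevG2) (l := 2) (M := CoxeterMatrix.G₂) (by simp [IsType, typeList]) F p)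
  exact row_swap E irr_G2 (Or.inr (Or.inr (Or.inr (Or.inr (Or.inr (Or.inr (Or.inl hG)))))))
    (Or.inr (Or.inr (Or.inr (Or.inr (Or.inr (Or.inr (Or.inl hG))))))) (H583.NoSwapG2.noSwap_row h3 (MulEquiv.refl _))

theorem row_F4 [IsSimpleGroup ↥(chevF4.group F)] : Row ↥(chevF4.group F) := by
  have hG : IsExceptionalChevChar p ↥(chevF4.group F) :=
    ⟨F, inferInstance, inferInstance, inferInstance, Or.inr (Or.inl ⟨MulEquiv.refl _⟩)⟩
  obtain ⟨E⟩ := exists_eng (ℓ := p) (by norm_num)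
    (H594.TypedAE.typed_chev (D := chevF4) (l := 4) (M := CoxeterMatrix.F₄) (by simp [IsType, typeList]) F p)
  exact row_comb E (by norm_num) irr_F4 (Or.inr (Or.inr (Or.inr (Or.inr (Or.inr (Or.inr (Or.inl hG)))))))
    (Or.inr (Or.inr (Or.inr (Or.inr (Or.inr (Or.inr (Or.inl hG))))))) comb_F4

theorem row_E6 [IsSimpleGroup ↥(chevE6.group F)] : Row ↥(chevE6.group F) := by
  have hG : IsExceptionalChevChar p ↥(chevE6.group F) :=
    ⟨F, inferInstance, inferInstance, inferInstance, Or.inr (Or.inr (Or.inl ⟨MulEquiv.refl _⟩))⟩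
  obtain ⟨E⟩ := exists_eng (ℓ := p) (by norm_num)
    (H594.TypedAE.typed_chev (D := chevE6) (l := 6) (M := CoxeterMatrix.E₆) (by simp [IsType, typeList]) F p)
  exact row_comb E (by norm_num) irr_E6 (Or.inr (Or.inr (Or.inr (Or.inr (Or.inr (Or.inr (Or.inl hG)))))))
    (Or.inr (Or.inr (Or.inr (Or.inr (Or.inr (Or.inr (Or.inl hG))))))) comb_E6

theorem row_E7 [IsSimpleGroup ↥(chevE7.group F)] : Row ↥(chevE7.group F) := by
  have hG : IsExceptionalChevChar p ↥(chevE7.group F) :=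
    ⟨F, inferInstance, inferInstance, inferInstance, Or.inr (Or.inr (Or.inr (Or.inl ⟨MulEquiv.refl _⟩)))⟩
  obtain ⟨E⟩ := exists_eng (ℓ := p) (by norm_num)
    (H594.TypedAE.typed_chev (D := chevE7) (l := 7) (M := CoxeterMatrix.E₇) (by simp [IsType, typeList]) F p)
  exact row_comb E (by norm_num) irr_E7 (Or.inr (Or.inr (Or.inr (Or.inr (Or.inr (Or.inr (Or.inl hG)))))))
    (Or.inr (Or.inr (Or.inr (Or.inr (Or.inr (Or.inr (Or.inl hG))))))) comb_E7

theorem row_E8 [IsSimpleGroup ↥(chevE8.group F)] : Row ↥(chevE8.group F) := by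
  have hG : IsExceptionalChevChar p ↥(chevE8.group F) :=
    ⟨F, inferInstance, inferInstance, inferInstance, Or.inr (Or.inr (Or.inr (Or.inr ⟨MulEquiv.refl _⟩)))⟩
  obtain ⟨E⟩ := exists_eng (ℓ := p) (by norm_num)
    (H594.TypedAE.typed_chev (D := chevE8) (l := 8) (M := CoxeterMatrix.E₈) (by simp [IsType, typeList]) F p)
  exact row_comb E (by norm_num) irr_E8 (Or.inr (Or.inr (Or.inr (Or.inr (Or.inr (Or.inr (Or.inl hG)))))))
    (Or.inr (Or.inr (Or.inr (Or.inr (Or.inr (Or.inr (Or.inl hG))))))) comb_E8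

theorem row_2E6 {q : ℕ} (hq : IsPrimePow q) (hF : Fintype.card F = q ^ 2) [IsSimpleGroup ↥(twistedE6 F q)] :
    Row ↥(twistedE6 F q) := by
  have hG : IsTwistedE6D4Char p ↥(twistedE6 F q) :=
    ⟨F, inferInstance, inferInstance, inferInstance, q, hq, Or.inl ⟨hF, ⟨MulEquiv.refl _⟩⟩⟩
  obtain ⟨E⟩ := exists_eng (ℓ := p) (by norm_num) (ftyped_2E6 F hq (by rw [Nat.card_eq_fintype_card]; exact hF)).typed
  exact row_comb E (by norm_num) irr_F4 (Or.inr (Or.inr (Or.inr (Or.inr (Or.inr (Or.inr (Or.inr hG)))))))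
    (Or.inr (Or.inr (Or.inr (Or.inr (Or.inr (Or.inr (Or.inr (Or.inl hG)))))))) comb_F4

theorem row_3D4 {q : ℕ} (hq : IsPrimePow q) (hF : Fintype.card F = q ^ 3) [IsSimpleGroup ↥(twistedD4 F q)] :
    Row ↥(twistedD4 F q) := by
  have hG : IsTwistedE6D4Char p ↥(twistedD4 F q) :=
    ⟨F, inferInstance, inferInstance, inferInstance, q, hq, Or.inr ⟨hF, ⟨MulEquiv.refl _⟩⟩⟩
  obtain ⟨E, -⟩ := exists_engF (ℓ := p) (by norm_num) (ftyped_3D4 F hq (by rw [Nat.card_eq_fintype_card]; exact hF))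
  refine row_size E irr_G2 (Or.inr (Or.inr (Or.inr (Or.inr (Or.inr (Or.inr (Or.inr hG)))))))
    (Or.inr (Or.inr (Or.inr (Or.inr (Or.inr (Or.inr (Or.inr (Or.inl hG)))))))) ?_
  show q ≠ q ^ 3
  have := hq.one_lt
  intro h
  have h4 : q ^ 1 < q ^ 3 := Nat.pow_lt_pow_right this (by norm_num)
  rw [pow_one] at h4
  omega

end Exc

/-- **The rows of the groups of Lie type.** -/
theorem row_lie (p : ℕ) [Fact p.Prime] (K : Type) [Group K] [Finite K] [IsSimpleGroup K] (hG : IsLieTypeChar p K) : Row K := by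
  rcases hG with h | h | h | h | h | h | h | h | ⟨-, h⟩ | ⟨-, h⟩ | ⟨-, h⟩
  · obtain ⟨F, _, _, _, n, hn, hc, ⟨e⟩⟩ := h
    rcases (show n = 2 ∨ n = 3 ∨ n = 4 ∨ 5 ≤ n by omega) with rfl | rfl | rfl | hn
    · exact Row.congr e (H975.Ccp.row_psl2 (hc rfl))
    · exact row_tr (fun _ => row_psl3 (p := p)) e
    · exact row_tr (fun _ => row_psl4 (p := p)) e
    · obtain ⟨m, rfl⟩ : ∃ m, n = m + 1 := ⟨n - 1, by omega⟩
      exact row_tr (fun _ => row_psl_ge (p := p) (by omega)) e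
  · obtain ⟨F, _, _, _, m, hm, hc, ⟨e⟩⟩ := h
    exact row_tr (fun _ => row_psp (p := p) hm hc) e
  · obtain ⟨F, _, _, _, n, q, hF, hn, hq, ⟨e⟩⟩ := h
    rcases Nat.even_or_odd' n with ⟨m, rfl | rfl⟩
    · exact row_tr (fun _ => row_psu_even (p := p) hF (by omega)) e
    · rcases (show m = 1 ∨ 2 ≤ m by omega) with rfl | hm
      · exact Row.congr e (row_psu3 (p := p) hF fun h => hq ⟨rfl, h⟩)
      · exact row_tr (fun _ => row_psu_odd (p := p) hF hm) e
  · obtain ⟨F, _, _, _, m, hm, hq, ⟨e⟩⟩ := h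
    exact row_tr (fun _ => row_odd (p := p) hm hq) e
  · obtain ⟨F, _, _, _, m, hm, ⟨e⟩⟩ := h
    obtain ⟨n, rfl⟩ : ∃ n, m = n + 2 := ⟨m - 2, by omega⟩
    exact row_tr (fun _ => row_plus (p := p) (by omega)) e
  · obtain ⟨F, _, _, _, m, a, b, hm, hab, ⟨e⟩⟩ := h
    exact row_tr (fun _ => row_minus (p := p) hm a b hab) e
  · obtain ⟨F, _, _, _, ⟨h5, ⟨e⟩⟩ | ⟨⟨e⟩⟩ | ⟨⟨e⟩⟩ | ⟨⟨e⟩⟩ | ⟨⟨e⟩⟩⟩ := h
    · exact row_tr (fun _ => row_G2 (p := p) h5) e
    · exact row_tr (fun _ => row_F4 (p := p)) e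
    · exact row_tr (fun _ => row_E6 (p := p)) e
    · exact row_tr (fun _ => row_E7 (p := p)) e
    · exact row_tr (fun _ => row_E8 (p := p)) e
  · obtain ⟨F, _, _, _, q, hq, ⟨hF, ⟨e⟩⟩ | ⟨hF, ⟨e⟩⟩⟩ := h
    · exact row_tr (fun _ => row_2E6 (p := p) hq hF) e
    · exact row_tr (fun _ => row_3D4 (p := p) hq hF) e
  · exact H496.Ccp.row_sz h
  · exact H496.Ccp.row_twF4 h
  · exact H569.Ccp.row_ree h

end Cfsg.Agent.H520.Lie
end

-- part: S4114
section
set_option linter.all false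
open scoped Cfsg.Agent.FastGrp

-- part: H979/Ccp/MonRow
section
/-!
# The row of the Monster from the facts (helper979)
-/

set_option autoImplicit false
set_option maxRecDepth 100000

namespace Cfsg.Agent.H979.Ccp.MonRow

open Subgroup Cfsg Cfsg.Agent.H520 Cfsg.Agent.H497.Stein

universe u

/-- the order of the Monster -/
abbrev N : ℕ := 808017424794512875886459904961710757005754368000000000

theorem N_eq : N = 2 ^ 46 * 3 ^ 20 * 5 ^ 9 * 7 ^ 6 * 11 ^ 2 * 13 ^ 3 * 17 * 19 * 23 * 29 * 31 * 41 * 47 * 59 * 71 := by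
  norm_num

theorem primes {p : ℕ} (hp : p.Prime) (h : p ^ 2 ∣ N) : p = 2 ∨ p = 3 ∨ p = 5 ∨ p = 7 ∨ p = 11 ∨ p = 13 := by
  have h1 : p ∣ N := (dvd_pow_self p (by norm_num)).trans h
  have key : ∀ {a b : ℕ}, p ∣ a * b → p ∣ a ∨ p ∣ b := fun hd => (Nat.Prime.dvd_mul hp).1 hd
  have kp : ∀ {a : ℕ}, a.Prime → p ∣ a → p = a := fun ha hd => (Nat.prime_dvd_prime_iff_eq hp ha).1 hd
  rw [N_eq] at h1
  rcases key h1 with h1 | h1
  swap
  · rw [kp (by norm_num) h1] at h
    norm_num at h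
  rcases key h1 with h1 | h1
  swap
  · rw [kp (by norm_num) h1] at h
    norm_num at h
  rcases key h1 with h1 | h1
  swap
  · rw [kp (by norm_num) h1] at h
    norm_num at h
  rcases key h1 with h1 | h1
  swap
  · rw [kp (by norm_num) h1] at h
    norm_num at h
  rcases key h1 with h1 | h1
  swap
  · rw [kp (by norm_num) h1] at h
    norm_num at h
  rcases key h1 with h1 | h1
  swap
  · rw [kp (by norm_num) h1] at h
    norm_num at h
  rcases key h1 with h1 | h1
  swap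
  · rw [kp (by norm_num) h1] at h
    norm_num at h
  rcases key h1 with h1 | h1
  swap
  · rw [kp (by norm_num) h1] at h
    norm_num at h
  rcases key h1 with h1 | h1
  swap
  · rw [kp (by norm_num) h1] at h
    norm_num at h
  rcases key h1 with h1 | h1
  swap
  · have := kp (by norm_num) (hp.dvd_of_dvd_pow h1)
    omega
  rcases key h1 with h1 | h1
  swap
  · have := kp (by norm_num) (hp.dvd_of_dvd_pow h1)
    omega
  rcases key h1 with h1 | h1
  swap
  · have := kp (by norm_num) (hp.dvd_of_dvd_pow h1)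
    omega
  rcases key h1 with h1 | h1
  swap
  · have := kp (by norm_num) (hp.dvd_of_dvd_pow h1)
    omega
  rcases key h1 with h1 | h1
  swap
  · have := kp (by norm_num) (hp.dvd_of_dvd_pow h1)
    omega
  · have := kp (by norm_num) (hp.dvd_of_dvd_pow h1)
    omega

theorem ord {q n : ℕ} (s : ℕ) (hn : 0 < n) (h : (s : ZMod q) ^ n = 1 ∧ ∀ m, m < n → 0 < m → (s : ZMod q) ^ m ≠ 1) :
    orderOf (s : ZMod q) = n := (orderOf_eq_iff hn).2 h

theorem ord35 : orderOf ((3 : ℕ) : ZMod 5) = 4 := ord 3 (by norm_num) (by decide)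
theorem ord75 : orderOf ((7 : ℕ) : ZMod 5) = 4 := ord 7 (by norm_num) (by decide)
theorem ord115 : orderOf ((11 : ℕ) : ZMod 5) = 1 := ord 11 (by norm_num) (by decide)
theorem ord135 : orderOf ((13 : ℕ) : ZMod 5) = 4 := ord 13 (by norm_num) (by decide)
theorem ord37 : orderOf ((3 : ℕ) : ZMod 7) = 6 := ord 3 (by norm_num) (by decide)
theorem ord117 : orderOf ((11 : ℕ) : ZMod 7) = 3 := ord 11 (by norm_num) (by decide)
theorem ord137 : orderOf ((13 : ℕ) : ZMod 7) = 2 := ord 13 (by norm_num) (by decide)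
theorem ord311 : orderOf ((3 : ℕ) : ZMod 11) = 5 := ord 3 (by norm_num) (by decide)
theorem ord1311 : orderOf ((13 : ℕ) : ZMod 11) = 10 := ord 13 (by norm_num) (by decide)
theorem ord73 : orderOf ((7 : ℕ) : ZMod 3) = 1 := ord 7 (by norm_num) (by decide)

theorem num5 {o : ℕ} (ho : ∀ p : ℕ, p.Prime → p ∣ o → p = 3 ∨ p = 5 ∨ p = 7 ∨ p = 11 ∨ p = 13) : NumOK2 5 N o := by
  intro s p hs hp hso hpo hs5 hp5 hps
  rcases ho s hs hso with rfl | rfl | rfl | rfl | rfl <;> rcases ho p hp hpo with rfl | rfl | rfl | rfl | rfl <;>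
    first
      | exact absurd rfl hs5
      | exact absurd rfl hp5
      | exact absurd rfl hps
      | (simp only [ord35, ord75, ord115, ord135]; norm_num)

theorem num7 {o : ℕ} (ho : ∀ p : ℕ, p.Prime → p ∣ o → p = 3 ∨ p = 7 ∨ p = 11 ∨ p = 13) : NumOK2 7 N o := by
  intro s p hs hp hso hpo hs5 hp5 hps
  rcases ho s hs hso with rfl | rfl | rfl | rfl <;> rcases ho p hp hpo with rfl | rfl | rfl | rfl <;>
    first
      | exact absurd rfl hs5
      | exact absurd rfl hp5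
      | exact absurd rfl hps
      | (simp only [ord37, ord117, ord137, ord73]; norm_num)

theorem num11 {o : ℕ} (ho : ∀ p : ℕ, p.Prime → p ∣ o → p = 3 ∨ p = 11 ∨ p = 13) : NumOK2 11 N o := by
  intro s p hs hp hso hpo hs5 hp5 hps
  rcases ho s hs hso with rfl | rfl | rfl <;> rcases ho p hp hpo with rfl | rfl | rfl <;>
    first
      | exact absurd rfl hs5
      | exact absurd rfl hp5
      | exact absurd rfl hps
      | (simp only [ord311, ord1311]; norm_num)

theorem num13 {n o : ℕ} (ho : ∀ p : ℕ, p.Prime → p ∣ o → p = 3 ∨ p = 13) : NumOK2 13 n o := by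
  intro s p hs hp hso hpo hs5 hp5 hps
  rcases ho s hs hso with rfl | rfl <;> rcases ho p hp hpo with rfl | rfl <;>
    first
      | exact absurd rfl hs5
      | exact absurd rfl hp5
      | exact absurd rfl hps

/-- the centralizer of the center of a Sylow subgroup is not solvable -/
def CenNS (q : ℕ) (G : Type*) [Group G] : Prop := ∃ (T : Sylow q G) (w : G),
  (∀ t ∈ (T : Subgroup G), (∀ r ∈ (T : Subgroup G), r * t = t * r) → t ∈ zpowers w) ∧
    ¬ Group.IsSolvable ↥(centralizer ({w} : Set G))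

/-- **The facts on the Monster.** -/
structure MF (G : Type*) [Group G] : Prop where
  card : Nat.card G = N
  inn : ∀ β : MulAut G, ∃ g : G, β = MulAut.conj g
  rad : ∀ p : ℕ, p.Prime → p ≠ 2 → ∀ t : G, orderOf t = 2 → H839.Rad.RadFree p ↥(centralizer ({t} : Set G))
  five : CenNS 5 G
  seven : CenNS 7 G
  eleven : ∃ c g : G, orderOf c = 11 ∧ g * c * g⁻¹ = c⁻¹
  thirteen : (∀ S : Sylow 13 G, ∃ a ∈ (S : Subgroup G), ∃ b ∈ (S : Subgroup G), a * b ≠ b * a) → Moved 13 G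
  cube : ∃ R Q : Subgroup G, Nat.card R = 13 ^ 3 ∧ IsPGroup 2 Q ∧ (∀ q ∈ Q, ∀ r ∈ R, q * r * q⁻¹ ∈ R) ∧
    ∃ k ∈ Q, ∃ l ∈ Q, ∃ r ∈ R, k * l * r * (k * l)⁻¹ ≠ l * k * r * (l * k)⁻¹

variable {G : Type u} [Group G]

/-- **The row from the facts.** -/
theorem MF.row (F : MF G) : Row G := by
  intro α h
  have hcard : Nat.card G = N := F.card
  have hfin : Finite G := Nat.finite_of_card_ne_zero (by rw [hcard]; norm_num)
  have hsim := h.sim
  have hna : ¬ ∀ a b : G, a * b = b * a := h.na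
  have hcb := h.center_bot
  have hinn : ∀ (q : ℕ), ∀ x : MulAut G, x ∈ zpowers α → (∃ k : ℕ, orderOf x = q ^ k) → ∃ u : G, x = MulAut.conj u :=
    fun q x _ _ => F.inn x
  -- `|C_G(α)|` is odd
  have hodd : Odd (Nat.card (fixA α)) := by
    obtain ⟨p, hp, hp2, hd⟩ := h.exists_prime_ne Nat.prime_two (by rw [hcard]; norm_num)
    obtain ⟨x, hx, hxo⟩ := exists_prime_order hp hd
    obtain ⟨y, rfl⟩ := F.inn x
    have hinj : Function.Injective (MulAut.conj : G →* MulAut G) := fun a b hab => conj_inj hcb hab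
    have hy : orderOf y = p := by rw [← hxo]; exact (orderOf_injective _ hinj y).symm
    exact odd_fix h hx hy (F.rad p hp hp2)
  have hodd2 : Odd (orderOf α) := by
    obtain ⟨a, ha⟩ := F.inn α
    have haα : a ∈ fixA α := by
      show α a = a
      nth_rw 1 [ha]
      rw [MulAut.conj_apply, mul_inv_cancel_right]
    have h1 : orderOf α ∣ orderOf a := by
      rw [ha]
      exact orderOf_map_dvd MulAut.conj a
    have h2 : orderOf a ∣ Nat.card (fixA α) := by
      have h3 : orderOf (⟨a, haα⟩ : ↥(fixA α)) = orderOf a := Subgroup.orderOf_mk _ _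
      rw [← h3]
      exact orderOf_dvd_natCard _
    exact hodd.of_dvd_nat (h1.trans h2)
  -- the primes
  have hprm : ∀ p : ℕ, p.Prime → p ∣ orderOf α → p = 3 ∨ p = 5 ∨ p = 7 ∨ p = 11 ∨ p = 13 := by
    intro p hp hd
    have h2 : p ^ 2 ∣ N := by
      by_contra hn
      rw [← hcard] at hn
      exact not_dvd_of_moved h hp (fun x _ => F.inn x) (moved_of_not_sq hna hp hn) hd
    rcases primes hp h2 with rfl | h3
    · exact absurd (even_iff_two_dvd.2 hd) (Nat.not_even_iff_odd.2 hodd2)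
    · exact h3
  -- 5
  have h5 : ¬ 5 ∣ orderOf α := by
    intro hd
    have : Fact (Nat.Prime 5) := ⟨by norm_num⟩
    obtain ⟨T, w, hw, hs⟩ := F.five
    exact false_of_center2 h hodd (hcard ▸ num5 hprm) hd (hinn 5) T hw hs
  have hprm7 : ∀ p : ℕ, p.Prime → p ∣ orderOf α → p = 3 ∨ p = 7 ∨ p = 11 ∨ p = 13 := by
    intro p hp hd
    rcases hprm p hp hd with h1 | rfl | h1
    · exact Or.inl h1
    · exact absurd hd h5
    · exact Or.inr h1
  have h7 : ¬ 7 ∣ orderOf α := by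
    intro hd
    have : Fact (Nat.Prime 7) := ⟨by norm_num⟩
    obtain ⟨T, w, hw, hs⟩ := F.seven
    exact false_of_center2 h hodd (hcard ▸ num7 hprm7) hd (hinn 7) T hw hs
  have hprm11 : ∀ p : ℕ, p.Prime → p ∣ orderOf α → p = 3 ∨ p = 11 ∨ p = 13 := by
    intro p hp hd
    rcases hprm7 p hp hd with h1 | rfl | h1
    · exact Or.inl h1
    · exact absurd hd h7
    · exact Or.inr h1
  have h11 : ¬ 11 ∣ orderOf α := by
    intro hd
    have : Fact (Nat.Prime 11) := ⟨by norm_num⟩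
    obtain ⟨c, g, hc, hg⟩ := F.eleven
    obtain ⟨T₀⟩ : Nonempty (Sylow 11 G) := inferInstance
    have hT : Nat.card (T₀ : Subgroup G) = 11 ^ 2 := by
      have h1 : Nat.card (T₀ : Subgroup G) ∣ N := hcard ▸ (T₀ : Subgroup G).card_subgroup_dvd_card
      obtain ⟨n, hn⟩ := IsPGroup.iff_card.1 T₀.isPGroup'
      have h2 : 11 ^ 2 ∣ Nat.card (T₀ : Subgroup G) :=
        T₀.pow_dvd_card_of_pow_dvd_card (by rw [hcard]; norm_num)
      rw [hn] at h1 h2 ⊢
      have h3 : 2 ≤ n := (Nat.pow_dvd_pow_iff_le_right (by norm_num)).1 h2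
      have h4 : ¬ 3 ≤ n := by
        intro h5
        have h6 := (pow_dvd_pow 11 h5).trans h1
        norm_num at h6
      congr 1
      omega
    refine false_of_sq h hodd (hcard ▸ num11 hprm11) hd (hinn 11) T₀ hT ?_ hc (by norm_num) hg
    intro p hp hpd hp11 hpp
    rcases hprm11 p hp hpd with rfl | rfl | rfl
    · norm_num at hpp
    · exact hp11 rfl
    · norm_num at hpp
  have hprm13 : ∀ p : ℕ, p.Prime → p ∣ orderOf α → p = 3 ∨ p = 13 := by
    intro p hp hd
    rcases hprm11 p hp hd with h1 | rfl | h1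
    · exact Or.inl h1
    · exact absurd hd h11
    · exact Or.inr h1
  -- 13
  obtain ⟨p, hp, hp3, hpd⟩ := h.exists_prime_ne Nat.prime_three (by rw [hcard]; norm_num)
  have hp13 : p = 13 := (hprm13 p hp hpd).resolve_left hp3
  subst hp13
  have : Fact (Nat.Prime 13) := ⟨hp⟩
  by_cases hab : ∀ S : Sylow 13 G, ∃ a ∈ (S : Subgroup G), ∃ b ∈ (S : Subgroup G), a * b ≠ b * a
  · exact not_dvd_of_moved h hp (fun x _ => F.inn x) (F.thirteen hab) hpd
  push Not at hab
  obtain ⟨S, hS⟩ := hab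
  obtain ⟨x, z, hx, hz, hα, hxs, hzs, hzα⟩ := exists_ppart α 13
  obtain ⟨u, rfl⟩ := F.inn x
  have hu1 : u ≠ 1 := by
    rintro rfl
    rw [map_one, mul_one] at hα
    rw [hα] at hpd
    exact hzs hpd
  obtain ⟨T, hT⟩ := exists_sylow2 h hodd (num13 hprm13) hx hz hα hxs hzs hu1
  have hupow : ∃ k : ℕ, u ^ 13 ^ k = 1 := by
    obtain ⟨k, hk⟩ := hxs
    refine ⟨k, ?_⟩
    apply conj_inj hcb
    rw [map_pow, ← hk, pow_orderOf_eq_one, map_one]
  have huT : u ∈ (T : Subgroup G) := mem_of_normalizes T hupow (zpowers_inv hT hx)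
  -- `T` is abelian
  have hTab : ∀ a ∈ (T : Subgroup G), ∀ b ∈ (T : Subgroup G), a * b = b * a := by
    obtain ⟨g, hg⟩ := MulAction.exists_smul_eq G T S
    have hm : ∀ a ∈ (T : Subgroup G), g * a * g⁻¹ ∈ (S : Subgroup G) := by
      intro a ha
      rw [← hg]
      exact ⟨a, ha, rfl⟩
    intro a ha b hb
    have h1 := hS _ (hm a ha) _ (hm b hb)
    have h2 : g * (a * b) * g⁻¹ = g * (b * a) * g⁻¹ := by
      calc g * (a * b) * g⁻¹ = g * a * g⁻¹ * (g * b * g⁻¹) := by group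
        _ = g * b * g⁻¹ * (g * a * g⁻¹) := h1
        _ = _ := by group
    exact mul_left_cancel (mul_right_cancel h2)
  -- the order of `z`
  have hz3 : ∃ k, orderOf z = 3 ^ k := by
    refine ⟨(orderOf z).primeFactorsList.length, ?_⟩
    refine Nat.eq_prime_pow_of_unique_prime_dvd (orderOf_pos z).ne' ?_
    intro d hd hdz
    rcases hprm13 d hd (hdz.trans hzα) with h1 | rfl
    · exact h1
    · exact absurd hdz hzs
  obtain ⟨R, Q, hR, hQ, hQR, k, hk, l, hl, r, hr, hne⟩ := F.cube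
  -- `R` is conjugate to `T`
  have hRp : IsPGroup 13 R := IsPGroup.of_card hR
  obtain ⟨R', hR'⟩ := hRp.exists_le_sylow
  have hSc : ∀ P : Sylow 13 G, Nat.card (P : Subgroup G) = 13 ^ 3 := by
    intro P
    have h1 : Nat.card (P : Subgroup G) ∣ N := hcard ▸ (P : Subgroup G).card_subgroup_dvd_card
    obtain ⟨n, hn⟩ := IsPGroup.iff_card.1 P.isPGroup'
    have h2 : 13 ^ 3 ∣ Nat.card (P : Subgroup G) :=
      P.pow_dvd_card_of_pow_dvd_card (by rw [hcard]; norm_num)
    rw [hn] at h1 h2 ⊢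
    have h3 : 3 ≤ n := (Nat.pow_dvd_pow_iff_le_right (by norm_num)).1 h2
    have h4 : ¬ 4 ≤ n := by
      intro h5
      have h6 := (pow_dvd_pow 13 h5).trans h1
      norm_num at h6
    congr 1
    omega
  have hRR : R = (R' : Subgroup G) := eq_of_le_of_card_ge hR' (by rw [hSc, hR])
  obtain ⟨g, hg⟩ := MulAction.exists_smul_eq G R' T
  have hmem : ∀ a, a ∈ R ↔ g * a * g⁻¹ ∈ (T : Subgroup G) := by
    intro a
    rw [← hg, hRR]
    constructor
    · intro ha
      exact ⟨a, ha, rfl⟩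
    · rintro ⟨b, hb, e⟩
      have e' : g * b * g⁻¹ = g * a * g⁻¹ := e
      rw [← mul_left_cancel (mul_right_cancel e')]
      exact hb
  refine false_of_cube h hodd (p := 13) (by norm_num) (T : Subgroup G) hT hTab (hSc T) hz hx huT hα hz3
    (Q.map (MulAut.conj g).toMonoidHom) (hQ.map _) ?_ (k := g * k * g⁻¹) (l := g * l * g⁻¹) (r := g * r * g⁻¹)
    ⟨k, hk, rfl⟩ ⟨l, hl, rfl⟩ ((hmem r).1 hr) ?_
  · rintro _ ⟨q, hq, rfl⟩ t ht
    have h1 : g⁻¹ * t * g ∈ R := by
      rw [hmem]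
      have e : g * (g⁻¹ * t * g) * g⁻¹ = t := by group
      rwa [e]
    have h2 := (hmem _).1 (hQR q hq _ h1)
    show g * q * g⁻¹ * t * (g * q * g⁻¹)⁻¹ ∈ (T : Subgroup G)
    have e : g * q * g⁻¹ * t * (g * q * g⁻¹)⁻¹ = g * (q * (g⁻¹ * t * g) * q⁻¹) * g⁻¹ := by group
    rwa [e]
  · intro e
    apply hne
    have e' : g * (k * l * r * (k * l)⁻¹) * g⁻¹ = g * (l * k * r * (l * k)⁻¹) * g⁻¹ := by
      calc g * (k * l * r * (k * l)⁻¹) * g⁻¹
          = g * k * g⁻¹ * (g * l * g⁻¹) * (g * r * g⁻¹) * (g * k * g⁻¹ * (g * l * g⁻¹))⁻¹ := by group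
        _ = g * l * g⁻¹ * (g * k * g⁻¹) * (g * r * g⁻¹) * (g * l * g⁻¹ * (g * k * g⁻¹))⁻¹ := e
        _ = _ := by group
    exact mul_left_cancel (mul_right_cancel e')

end Cfsg.Agent.H979.Ccp.MonRow
end

-- part: H979/Ccp/Mon
section
/-!
# S4114, the row of the Monster (helper979)
-/

set_option autoImplicit false
set_option maxRecDepth 100000

namespace Cfsg.Agent.H979.Ccp.Mon

open Subgroup Cfsg Cfsg.Agent.H520 Cfsg.Agent.H497.Stein Cfsg.Agent.H979.Ccp.MonRow
open Cfsg.Agent.MonsterX Cfsg.Agent.MonsterU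
open Cfsg.Agent.BpSpor.MBigModel

universe u

/-- the facts -/
theorem mf (h5 : CenNS 5 MG) : MF MG where
  card := card_M
  inn β := KFacts.MonsterE.inner_model KDone.mGroup KDone.mRep KDone.mLat Uncond.mOrbit Instance.mTrans β
  rad p hp hp2 t ht := by
    have hfin := finite
    rcases cls ht with ⟨g, hg⟩ | h
    · exact H109.Nr.M.radFree_conj hp hg (H109.Nr.M.radFree_z hp hp2)
    · exact H109.Nr.M.radFree_t hp hp2 h
  five := h5
  seven := H544.Ccp.MSeven.seven
  eleven := H544.Ccp.MEleven.eleven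
  thirteen := MThirteen.moved_thirteen
  cube := MThirteen.exists_cube

theorem row_of (h5 : CenNS 5 MG) {G : Type u} [Group G] [Finite G] (h : Cfsg.Spor.IsoM G) : Row G := by
  obtain ⟨e⟩ := h
  obtain ⟨f⟩ := MonsterP.Equiv.equiv
  exact Row.congr (e.trans f) (mf h5).row

/-- **The row of the Monster.** -/
theorem row_M {G : Type u} [Group G] [Finite G] (h : Cfsg.Spor.IsoM G) : Row G := row_of MFiveC.five h

end Cfsg.Agent.H979.Ccp.Mon
end

-- part: H520/CcpSpor
section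
/-!
# The rows of the sporadic groups (helper520, S4114)
-/

set_option autoImplicit false

namespace Cfsg.Agent.H520.Spor

open Cfsg Cfsg.Agent.H520

/-- **The rows of the sporadic groups.** -/
theorem row_spor
    (hFi22 : ∀ (K : Type) [Group K] [Finite K], Spor.IsoFi22 K → Row K)
    (K : Type) [Group K] [Finite K] (h : IsSporadicGroup K) : Row K := by
  rcases h with h | h | h | h | h | h | h | h | h | h | h | h | h | h | h | h | h | h | h | h | h | h | h | h | h | h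
  · exact H497.Stein.row_M11 h
  · exact H497.Stein.row_M12 h
  · exact H497.Stein.row_M22 h
  · exact H497.Stein.row_M23 h
  · exact H497.Stein.row_M24 h
  · exact H497.Stein.row_J1 h
  · exact H497.Stein.row_J2 h
  · exact H497.Stein.row_J3 h
  · exact H859.Ccp.J4.row_J4 h
  · exact H859.Ccp.Co1.row_Co1 h
  · exact H859.Ccp.Co2.row_Co2 h
  · exact H230.Ccp.Co3.row_Co3 h
  · exact H497.Stein.row_McL h
  · exact H497.Stein.row_HS h
  · exact H859.Ccp.Suz.row_Suz h
  · exact H859.Ccp.He.row_He h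
  · exact H859.Ccp.Ru.row_Ru h
  · exact H859.Ccp.ON.row_ON h
  · exact H763.Ccp.Ly.row_Ly h
  · exact hFi22 K h
  · exact H285.Ccp.FiTh.row_Fi23 h
  · exact H999.Ccp.FiTF.row_Fi24' h
  · exact H285.Ccp.HN.row_HN h
  · exact H497.Stein.Th.row_Th h
  · exact H763.Ccp.B.row_B h
  · exact H979.Ccp.Mon.row_M h

end Cfsg.Agent.H520.Spor
end

-- part: H520/CcpSporAll
section
/-!
# The rows of the sporadic groups, all of them (helper520, S4114)
-/

set_option autoImplicit false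

namespace Cfsg.Agent.H520.Spor

open Cfsg Cfsg.Agent.H520

/-- **The rows of the sporadic groups.** -/
theorem row_spor_all (K : Type) [Group K] [Finite K] (h : IsSporadicGroup K) : Row K :=
  row_spor (fun _ _ _ h => H979.Ccp.FiTT.row_Fi22 h) K h

end Cfsg.Agent.H520.Spor
end

-- part: S4114
section
set_option autoImplicit false
open Cfsg

namespace Cfsg.Agent.S4114

/-- Let G be a finite group and α an automorphism of G such that every element of G is the product of an element fixed by α and an element of the form g⁻¹α(g) (so the elements g⁻¹α(g) form a transversal to the fixed-point subgroup), and such that G is generated by the elements g⁻¹α(g). Then G is solvable. -/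
theorem result {G : Type*} [Group G] [Finite G] (α : MulAut G)
    (hccp : ∀ x : G, ∃ c g : G, α c = c ∧ x = c * (g⁻¹ * α g))
    (hgen : Subgroup.closure {y : G | ∃ g : G, y = g⁻¹ * α g} = ⊤) : Group.IsSolvable G :=
  H285.Ccp.solvable_of (fun K _ _ _ => S0000.result) (fun K _ _ _ _ S x hx hiso => S1938.result S x hx hiso)
    H520.Lie.row_lie (fun K _ _ h => H285.Ccp.Tits.row_tits h) H520.Spor.row_spor_all α hccp hgen

end Cfsg.Agent.S4114
end
end
end
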