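import Cfsg.Statements.S0723
import Cfsg.Agent.S0722
import Cfsg.Agent.PermutationGroups.OnanScott
set_option linter.all false

set_option autoImplicit false
open Cfsg

namespace Cfsg.Agent.S0723

/-- The core of the O'Nan–Scott Theorem. Let `H` be a primitive permutation group on a finite set whose unique minimal normal subgroup `N` is non-abelian, and `K` a point stabiliser. Then there are a non-abelian simple group `T` and an isomorphism `N ≃* T^m` (`m ≥ 1`) under which `K ⊓ N` becomes either a product `∏ K_i` of proper subgroups `K_i < T`, or the set of functions constant on each block of a partition of the index set into blocks of one common size `k ≥ 2`. -/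
theorem result {α : Type*} [Finite α] (H : Subgroup (Equiv.Perm α)) [MulAction.IsPreprimitive H α] (N : Subgroup H) [N.Normal] (hN : N ≠ ⊥) (hmin : ∀ M : Subgroup H, M.Normal → M ≤ N → M = ⊥ ∨ M = N) (huniq : ∀ L : Subgroup H, L.Normal → L ≠ ⊥ → (∀ M : Subgroup H, M.Normal → M ≤ L → M = ⊥ ∨ M = L) → L = N) (hnab : ¬ IsMulCommutative N) (a : α) : ∃ (T : Type) (_ : Group T) (m : ℕ) (e : N ≃* (Fin m → T)), IsSimpleGroup T ∧ ¬ IsMulCommutative T ∧ 0 < m ∧ ((∃ K : Fin m → Subgroup T, (∀ i, K i ≠ ⊤) ∧ ∀ n : N, (n : H) ∈ MulAction.stabilizer H a ↔ ∀ i, e n i ∈ K i) ∨ (∃ (k : ℕ) (c : Fin m → Fin m), 2 ≤ k ∧ (∀ j : Fin m, Nat.card {i : Fin m // c i = j} = k ∨ Nat.card {i : Fin m // c i = j} = 0) ∧ ∀ n : N, (n : H) ∈ MulAction.stabilizer H a ↔ ∀ i j : Fin m, c i = c j → e n i = e n j)) := by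
  have hfix : MulAction.fixedPoints N α ≠ Set.univ := by
    intro h
    apply hN
    rw [eq_bot_iff]
    intro x hx
    rw [Subgroup.mem_bot]
    apply Subtype.ext
    apply Equiv.ext
    intro y
    have hy : y ∈ MulAction.fixedPoints N α := by rw [h]; exact Set.mem_univ y
    exact hy ⟨x, hx⟩
  have htr : MulAction.IsPretransitive N α :=
    MulAction.IsQuasiPreprimitive.isPretransitive_of_normal hfix
  apply Cfsg.Agent.PermutationGroups.OnanScott.onan_scott N hmin
  · intro h
    exact hnab ⟨⟨fun x y => Subtype.ext (h x x.2 y y.2)⟩⟩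
  · intro g
    obtain ⟨n, hn⟩ := MulAction.exists_smul_eq N a (g⁻¹ • a)
    refine ⟨n, n.2, ?_⟩
    rw [MulAction.mem_stabilizer_iff, mul_smul]
    change g • (n • a) = a
    rw [hn, smul_inv_smul]
  · intro h
    apply hfix
    rw [Set.eq_univ_iff_forall]
    intro y n
    obtain ⟨n', rfl⟩ := MulAction.exists_smul_eq N a y
    have h1 : (n'⁻¹ * n * n') • a = a := h (n'⁻¹ * n * n' : N).2
    rw [mul_smul, mul_smul, inv_smul_eq_iff] at h1
    exact h1
  · intro X hX hKX hinv
    exact Cfsg.Agent.S0722.result H N hN hmin a X hX hKX hinv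

end Cfsg.Agent.S0723
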