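import Mathlib
import Cfsg.Statements.S2392
set_option linter.all false

-- part: H133/AddWeights
section
/-!
# Weights of an elementary abelian group `F ^ m` in a representation, cross characteristic

`F` a finite field, `ψ : AddChar F L` primitive, `U : Multiplicative (Fin m → F) → End V` a homomorphism.
`e U ψ v = ∑_x ψ(-v·x) U(x)`.

* `invariant_of_steps`: a function on `F ^ m`, `m ≥ 2`, invariant under elementary row operations is constant on nonzero
  vectors.
* `card_le_finrank`: if all `e v`, `v` in a finite set `S`, are nonzero, then `|S| ≤ dim V`.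
* `eq_one_of_forall`: if `e v = 0` for all `v ≠ 0` then `U` is trivial.
-/

set_option autoImplicit false

namespace Cfsg.Agent.H133.AddWeights

open Module

section steps

variable {F : Type*} [Field F] {ι : Type*} [Fintype ι] [DecidableEq ι] {α : Type*}

theorem invariant_of_steps (f : (ι → F) → α)
    (h : ∀ (i j : ι), i ≠ j → ∀ (c : F) (v : ι → F), f (Function.update v i (v i + c * v j)) = f v)
    {a b : ι} (hab : a ≠ b) {v : ι → F} (hv : v ≠ 0) : f v = f (Pi.single a 1) := by
  -- clearing
  have hclear : ∀ v : ι → F, v a = 1 → ∀ T : Finset ι, a ∉ T → f (fun i => if i ∈ T then 0 else v i) = f v := by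
    intro v hva T
    induction T using Finset.induction_on with
    | empty => intro _; simp
    | insert k T hk ih =>
      intro haT
      rw [Finset.mem_insert, not_or] at haT
      rw [← ih haT.2, ← h k a (Ne.symm haT.1) (-v k) (fun i => if i ∈ T then 0 else v i)]
      congr 1
      funext i
      by_cases hik : i = k
      · subst hik
        simp [hk, haT.2, hva]
      · rw [Function.update_of_ne hik]
        simp [hik]
  have h1 : ∀ v : ι → F, v a = 1 → f v = f (Pi.single a 1) := by
    intro v hva
    rw [← hclear v hva (Finset.univ.erase a) (by simp)]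
    congr 1
    funext i
    by_cases hi : i = a
    · subst hi; simp [hva]
    · simp [hi]
  have h2 : ∀ v : ι → F, (∃ j, j ≠ a ∧ v j ≠ 0) → f v = f (Pi.single a 1) := by
    rintro v ⟨j, hja, hj⟩
    rw [← h a j (Ne.symm hja) ((1 - v a) / v j) v]
    apply h1
    rw [Function.update_self, div_mul_cancel₀ _ hj]
    ring
  by_cases hex : ∃ j, j ≠ a ∧ v j ≠ 0
  · exact h2 v hex
  · push Not at hex
    have hva : v a ≠ 0 := by
      intro h0
      apply hv
      funext i
      by_cases hi : i = a
      · rw [hi, h0]; rfl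
      · exact hex i hi
    rw [← h b a (Ne.symm hab) 1 v]
    apply h2
    refine ⟨b, Ne.symm hab, ?_⟩
    rw [Function.update_self, hex b (Ne.symm hab), zero_add, one_mul]
    exact hva

end steps

section weights

variable {F : Type*} [Field F] [Fintype F] [DecidableEq F] {L : Type*} [Field L] {ι : Type*} [Fintype ι] [DecidableEq ι]
  {V : Type*} [AddCommGroup V] [Module L V]

/-- The character `x ↦ ψ(v · x)`. -/
def chi (ψ : AddChar F L) (v x : ι → F) : L := ψ (v ⬝ᵥ x)

omit [Fintype F] [DecidableEq F] [DecidableEq ι] in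
theorem chi_add (ψ : AddChar F L) (v x y : ι → F) : chi ψ v (x + y) = chi ψ v x * chi ψ v y := by
  unfold chi
  rw [dotProduct_add, AddChar.map_add_eq_mul]

omit [Fintype F] [DecidableEq F] [DecidableEq ι] in
theorem chi_comm (ψ : AddChar F L) (v x : ι → F) : chi ψ v x = chi ψ x v := by
  unfold chi
  rw [dotProduct_comm]

omit [Fintype F] [DecidableEq F] [DecidableEq ι] in
theorem chi_zero (ψ : AddChar F L) (v : ι → F) : chi ψ v 0 = 1 := by
  unfold chi
  rw [dotProduct_zero, AddChar.map_zero_eq_one]

omit [Fintype F] [DecidableEq F] [DecidableEq ι] in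
theorem chi_neg_mul (ψ : AddChar F L) (v x : ι → F) : chi ψ v (-x) * chi ψ v x = 1 := by
  rw [← chi_add, neg_add_cancel, chi_zero]

/-- Orthogonality. -/
theorem sum_chi {ψ : AddChar F L} (hψ : ψ.IsPrimitive) (v : ι → F) :
    ∑ x : ι → F, chi ψ v x = if v = 0 then (Fintype.card (ι → F) : L) else 0 := by
  split_ifs with h
  · subst h
    have : ∀ x : ι → F, chi ψ 0 x = 1 := fun x => by rw [chi_comm, chi_zero]
    simp only [this, Finset.sum_const, Finset.card_univ, nsmul_eq_mul, mul_one]
  · obtain ⟨i, hi⟩ : ∃ i, v i ≠ 0 := by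
      by_contra hcon
      push Not at hcon
      exact h (funext hcon)
    have h1 := hψ hi
    rw [AddChar.ne_one_iff] at h1
    obtain ⟨c, hc⟩ := h1
    rw [AddChar.mulShift_apply] at hc
    have h2 : chi ψ v (Pi.single i c) ≠ 1 := by
      unfold chi
      rwa [dotProduct_single]
    have h3 : chi ψ v (Pi.single i c) * ∑ x : ι → F, chi ψ v x = ∑ x : ι → F, chi ψ v x := by
      rw [Finset.mul_sum]
      refine Fintype.sum_equiv (Equiv.addLeft (Pi.single i c)) _ _ fun x => ?_
      rw [← chi_add]
      rfl
    have h4 : (chi ψ v (Pi.single i c) - 1) * ∑ x : ι → F, chi ψ v x = 0 := by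
      rw [sub_mul, one_mul, h3, sub_self]
    rcases mul_eq_zero.1 h4 with h5 | h5
    · exact absurd (sub_eq_zero.1 h5) h2
    · exact h5

/-- The (unnormalised) projection onto the weight space of `v`. -/
def e (U : (ι → F) → Module.End L V) (ψ : AddChar F L) (v : ι → F) : Module.End L V :=
  ∑ x : ι → F, chi ψ v (-x) • U x

omit [DecidableEq F] in
theorem U_mul_e (U : (ι → F) → Module.End L V) (hU : ∀ x y, U (x + y) = U x * U y) (ψ : AddChar F L) (v x : ι → F) :
    U x * e U ψ v = chi ψ v x • e U ψ v := by
  unfold e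
  rw [Finset.mul_sum, Finset.smul_sum]
  refine Fintype.sum_equiv (Equiv.addLeft x) _ _ fun y => ?_
  rw [mul_smul_comm, ← hU, smul_smul]
  show _ = (chi ψ v x * chi ψ v (-(x + y))) • U (x + y)
  rw [← chi_add]
  congr 2
  abel

/-- On a vector of weight `v`. -/
theorem e_apply {U : (ι → F) → Module.End L V} {ψ : AddChar F L} (hψ : ψ.IsPrimitive) {v : ι → F} {b : V}
    (hb : ∀ x, U x b = chi ψ v x • b) (w : ι → F) :
    e U ψ w b = if w = v then (Fintype.card (ι → F) : L) • b else 0 := by
  unfold e
  rw [LinearMap.sum_apply]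
  have h1 : ∀ x : ι → F, (chi ψ w (-x) • U x) b = chi ψ (w - v) (-x) • b := by
    intro x
    rw [LinearMap.smul_apply, hb, smul_smul]
    congr 1
    unfold chi
    rw [← AddChar.map_add_eq_mul]
    congr 1
    rw [sub_dotProduct, dotProduct_neg, dotProduct_neg]
    ring
  rw [Finset.sum_congr rfl fun x _ => h1 x, ← Finset.sum_smul]
  have h2 : ∑ x : ι → F, chi ψ (w - v) (-x) = ∑ x : ι → F, chi ψ (w - v) x :=
    Fintype.sum_equiv (Equiv.neg _) _ _ fun x => rfl
  rw [h2, sum_chi hψ]
  by_cases h : w = v
  · rw [if_pos h, if_pos (sub_eq_zero.2 h)]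
  · rw [if_neg h, if_neg (sub_ne_zero.2 h), zero_smul]

theorem card_le_finrank [FiniteDimensional L V] {U : (ι → F) → Module.End L V} (hU : ∀ x y, U (x + y) = U x * U y)
    {ψ : AddChar F L} (hψ : ψ.IsPrimitive) (hq : (Fintype.card (ι → F) : L) ≠ 0) (S : Finset (ι → F))
    (hS : ∀ v ∈ S, e U ψ v ≠ 0) : S.card ≤ finrank L V := by
  have h1 : ∀ v : S, ∃ b : V, b ≠ 0 ∧ ∀ x, U x b = chi ψ v.1 x • b := by
    intro v
    obtain ⟨a, ha⟩ : ∃ a, e U ψ v.1 a ≠ 0 := by
      by_contra hcon
      push Not at hcon
      exact hS v.1 v.2 (LinearMap.ext hcon)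
    refine ⟨e U ψ v.1 a, ha, fun x => ?_⟩
    rw [← Module.End.mul_apply, U_mul_e U hU, LinearMap.smul_apply]
  choose b hb0 hb using h1
  have hlin : LinearIndependent L b := by
    rw [Fintype.linearIndependent_iff]
    intro g hg v
    have h2 := congrArg (e U ψ v.1) hg
    rw [map_sum, map_zero, Finset.sum_eq_single v] at h2
    · rw [map_smul, e_apply hψ (hb v), if_pos rfl, smul_smul] at h2
      rcases smul_eq_zero.1 h2 with h3 | h3
      · rcases mul_eq_zero.1 h3 with h4 | h4
        · exact h4
        · exact absurd h4 hq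
      · exact absurd h3 (hb0 v)
    · intro w _ hwv
      rw [map_smul, e_apply hψ (hb w), if_neg (fun h => hwv (Subtype.ext h).symm), smul_zero]
    · intro h
      exact absurd (Finset.mem_univ _) h
  have h3 := hlin.fintype_card_le_finrank
  rwa [Fintype.card_coe] at h3

theorem eq_one_of_forall {U : (ι → F) → Module.End L V} (hU : ∀ x y, U (x + y) = U x * U y) (hU0 : U 0 = 1)
    {ψ : AddChar F L} (hψ : ψ.IsPrimitive) (hq : (Fintype.card (ι → F) : L) ≠ 0)
    (h : ∀ v, v ≠ 0 → e U ψ v = 0) (x : ι → F) : U x = 1 := by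
  have h1 : ∑ v : ι → F, e U ψ v = (Fintype.card (ι → F) : L) • (1 : Module.End L V) := by
    unfold e
    rw [Finset.sum_comm]
    have h2 : ∀ y : ι → F, ∑ v : ι → F, chi ψ v (-y) • U y =
        (if -y = 0 then (Fintype.card (ι → F) : L) else 0) • U y := by
      intro y
      rw [← Finset.sum_smul, ← sum_chi hψ]
      congr 1
      exact Finset.sum_congr rfl fun v _ => chi_comm ψ v (-y)
    rw [Finset.sum_congr rfl fun y _ => h2 y, Finset.sum_eq_single (0 : ι → F)]
    · rw [neg_zero, if_pos rfl, hU0]
    · intro y _ hy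
      rw [if_neg (neg_ne_zero.2 hy), zero_smul]
    · intro h
      exact absurd (Finset.mem_univ _) h
  rw [Finset.sum_eq_single (0 : ι → F) (fun v _ hv => h v hv) (fun h => absurd (Finset.mem_univ _) h)] at h1
  have h3 := U_mul_e U hU ψ 0 x
  rw [chi_comm, chi_zero, one_smul, h1, mul_smul_comm, mul_one] at h3
  exact smul_right_injective _ hq h3

end weights

end Cfsg.Agent.H133.AddWeights
end

-- part: H133/SLCross
section
/-!
# Cross characteristic lower bound for `SL_{m+1}(q)`, `m ≥ 2`

`main`: if `ρ : SL_{m+1}(F) →* End V` over a field `L` in which `|F| ≠ 0` and having a primitive additive character of `F`,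
is nontrivial on the elements `1 + e_0 (0, x)`, then `dim V ≥ q ^ m - 1`.
-/

set_option autoImplicit false

namespace Cfsg.Agent.H133.SLCross

open Matrix Module
open Cfsg.Agent.H133.AddWeights

variable {F : Type*} [Field F] {m : ℕ}

/-- The matrix `1 + e_0 (0, x)`. -/
def uMat (x : Fin m → F) : Matrix (Fin (m + 1)) (Fin (m + 1)) F :=
  1 + vecMulVec (Pi.single 0 1) (Fin.cons 0 x)

theorem cons_dot (x : Fin m → F) : (Fin.cons 0 x : Fin (m + 1) → F) ⬝ᵥ Pi.single 0 1 = 0 := by
  rw [dotProduct_single, Fin.cons_zero, zero_mul]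

theorem uMat_add (x y : Fin m → F) : uMat (x + y) = uMat x * uMat y := by
  unfold uMat
  rw [mul_add, mul_one, add_mul, one_mul, vecMulVec_mul_vecMulVec, cons_dot, zero_smul, vecMulVec_zero, add_zero,
    add_assoc, ← vecMulVec_add]
  congr 2
  funext i
  refine Fin.cases ?_ (fun i => ?_) i
  · simp
  · simp

theorem uMat_zero : uMat (0 : Fin m → F) = 1 := by
  unfold uMat
  have : (Fin.cons 0 0 : Fin (m + 1) → F) = 0 := by
    funext i
    refine Fin.cases ?_ (fun i => ?_) i <;> simp
  rw [this, vecMulVec_zero, add_zero]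

theorem det_uMat (x : Fin m → F) : (uMat x).det = 1 := by
  unfold uMat
  rw [vecMulVec_eq Unit, det_one_add_replicateCol_mul_replicateRow, cons_dot, add_zero]

/-- The element of `SL`. -/
def u (x : Fin m → F) : SpecialLinearGroup (Fin (m + 1)) F := ⟨uMat x, det_uMat x⟩

theorem coe_u (x : Fin m → F) : (u x : Matrix (Fin (m + 1)) (Fin (m + 1)) F) = uMat x := rfl

theorem u_add (x y : Fin m → F) : u (x + y) = u x * u y := Subtype.ext (uMat_add x y)

theorem u_zero : u (0 : Fin m → F) = 1 := Subtype.ext uMat_zero

theorem u_not_mem_center (i : Fin m) : u (Pi.single i (1 : F)) ∉ Subgroup.center (SpecialLinearGroup (Fin (m + 1)) F) := by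
  intro h
  obtain ⟨r, _, hr⟩ := Matrix.SpecialLinearGroup.mem_center_iff.1 h
  have h1 := congrFun (congrFun hr 0) i.succ
  rw [coe_u] at h1
  unfold uMat at h1
  rw [scalar_apply, diagonal_apply_ne _ (Fin.succ_ne_zero i).symm, Matrix.add_apply,
    one_apply_ne (Fin.succ_ne_zero i).symm, vecMulVec_apply] at h1
  simp at h1

/-- Conjugation by a transvection. -/
theorem transvection_mul_u {i j : Fin m} (hij : i ≠ j) (c : F) (x : Fin m → F) :
    SpecialLinearGroup.transvection ((Fin.succ_injective m).ne hij) c * u x =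
      u (Function.update x j (x j - c * x i)) * SpecialLinearGroup.transvection ((Fin.succ_injective m).ne hij) c := by
  apply Subtype.ext
  show (1 + single i.succ j.succ c) * uMat x = uMat _ * (1 + single i.succ j.succ c)
  unfold uMat
  rw [mul_add, mul_one, add_mul (1 : Matrix (Fin (m + 1)) (Fin (m + 1)) F) (vecMulVec _ _), one_mul, mul_vecMulVec,
    vecMulVec_mul]
  congr 2
  · funext k
    rw [add_mulVec, one_mulVec, Pi.add_apply, single_mulVec]
    rw [Function.update_apply]
    simp
  · rw [vecMul_add, vecMul_one]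
    funext k
    refine Fin.cases ?_ (fun k => ?_) k
    · rw [Pi.add_apply, Fin.cons_zero, Fin.cons_zero]
      simp only [vecMul, dotProduct, single_apply]
      rw [Finset.sum_eq_zero, add_zero]
      intro b _
      rw [if_neg (fun h => Fin.succ_ne_zero j h.2), mul_zero]
    · rw [Pi.add_apply, Fin.cons_succ, Fin.cons_succ]
      have : (Fin.cons 0 (Function.update x j (x j - c * x i)) ᵥ* single i.succ j.succ c : Fin (m + 1) → F) k.succ =
          if k = j then x i * c else 0 := by
        simp only [vecMul, dotProduct, single_apply]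
        rw [Finset.sum_eq_single i.succ]
        · rw [Fin.cons_succ, Function.update_of_ne hij]
          by_cases h : k = j
          · subst h; simp
          · have h' : ¬ j.succ = k.succ := fun e => h (Fin.succ_injective _ e).symm
            simp [h, h']
        · intro b _ hb
          rw [if_neg (fun h => hb h.1.symm), mul_zero]
        · intro h
          exact absurd (Finset.mem_univ _) h
      rw [this]
      by_cases h : k = j
      · subst h
        rw [Function.update_self, if_pos rfl]; ring
      · rw [Function.update_of_ne h, if_neg h, add_zero]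

variable [Fintype F] [DecidableEq F] {L : Type*} [Field L] {V : Type*} [AddCommGroup V] [Module L V]

omit [DecidableEq F] in
theorem e_step (ρ : SpecialLinearGroup (Fin (m + 1)) F →* Module.End L V) (ψ : AddChar F L) {i j : Fin m} (hij : i ≠ j)
    (c : F) (v : Fin m → F) :
    ρ (SpecialLinearGroup.transvection ((Fin.succ_injective m).ne hij) c) * e (fun x => ρ (u x)) ψ v =
      e (fun x => ρ (u x)) ψ (Function.update v i (v i + c * v j)) *
        ρ (SpecialLinearGroup.transvection ((Fin.succ_injective m).ne hij) c) := by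
  unfold e
  rw [Finset.mul_sum, Finset.sum_mul]
  let E : (Fin m → F) ≃ (Fin m → F) :=
    { toFun := fun x => Function.update x j (x j - c * x i)
      invFun := fun x => Function.update x j (x j + c * x i)
      left_inv := fun x => by
        funext k
        by_cases h : k = j
        · subst h; simp [Function.update_of_ne hij]
        · simp [Function.update_of_ne h]
      right_inv := fun x => by
        funext k
        by_cases h : k = j
        · subst h; simp [Function.update_of_ne hij]
        · simp [Function.update_of_ne h] }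
  refine Fintype.sum_equiv E _ _ fun x => ?_
  rw [mul_smul_comm, smul_mul_assoc, ← map_mul, ← map_mul, transvection_mul_u hij]
  congr 1
  show chi ψ v (-x) = chi ψ _ (-(Function.update x j (x j - c * x i)))
  unfold chi
  congr 1
  rw [dotProduct_neg, dotProduct_neg]
  congr 1
  have h1 : ∀ (w : Fin m → F) (k : Fin m) (a : F), Function.update w k a = w + Pi.single k (a - w k) := by
    intro w k a
    funext l
    by_cases h : l = k
    · subst h; simp
    · simp [Function.update_of_ne h, Pi.single_eq_of_ne h]
  rw [h1 v, h1 x, add_dotProduct, dotProduct_add, dotProduct_single, single_dotProduct, Pi.add_apply,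
    Pi.single_eq_of_ne hij, add_zero]
  ring

theorem main [FiniteDimensional L V] (hm : 2 ≤ m) (ρ : SpecialLinearGroup (Fin (m + 1)) F →* Module.End L V)
    {ψ : AddChar F L} (hψ : ψ.IsPrimitive) (hq : (Fintype.card F : L) ≠ 0)
    (hnt : ∃ x, ρ (u x) ≠ 1) : Fintype.card F ^ m - 1 ≤ finrank L V := by
  have hU : ∀ x y : Fin m → F, ρ (u (x + y)) = ρ (u x) * ρ (u y) := fun x y => by rw [u_add, map_mul]
  have hU0 : ρ (u (0 : Fin m → F)) = 1 := by rw [u_zero, map_one]
  have hqm : (Fintype.card (Fin m → F) : L) ≠ 0 := by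
    rw [Fintype.card_fun, Fintype.card_fin, Nat.cast_pow]
    exact pow_ne_zero _ hq
  have hstep : ∀ (i j : Fin m), i ≠ j → ∀ (c : F) (v : Fin m → F),
      (e (fun x => ρ (u x)) ψ (Function.update v i (v i + c * v j)) = 0) = (e (fun x => ρ (u x)) ψ v = 0) := by
    intro i j hij c v
    have h1 := e_step ρ ψ hij c v
    have h2 : ρ (SpecialLinearGroup.transvection ((Fin.succ_injective m).ne hij) c) *
        ρ (SpecialLinearGroup.transvection ((Fin.succ_injective m).ne hij) c)⁻¹ = 1 := by
      rw [← map_mul, mul_inv_cancel, map_one]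
    have h3 : ρ (SpecialLinearGroup.transvection ((Fin.succ_injective m).ne hij) c)⁻¹ *
        ρ (SpecialLinearGroup.transvection ((Fin.succ_injective m).ne hij) c) = 1 := by
      rw [← map_mul, inv_mul_cancel, map_one]
    apply propext
    constructor
    · intro h
      rw [h, zero_mul] at h1
      rw [← one_mul (e _ ψ v), ← h3, mul_assoc, h1, mul_zero]
    · intro h
      rw [h, mul_zero] at h1
      rw [← mul_one (e _ ψ (Function.update v i (v i + c * v j))), ← h2, ← mul_assoc, ← h1, zero_mul]
  have h01 : (⟨0, by omega⟩ : Fin m) ≠ ⟨1, by omega⟩ := by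
    intro h
    exact absurd (congrArg Fin.val h) (by simp)
  have hall : ∀ v : Fin m → F, v ≠ 0 → e (fun x => ρ (u x)) ψ v ≠ 0 := by
    by_contra hcon
    push Not at hcon
    obtain ⟨v, hv, hv0⟩ := hcon
    obtain ⟨x, hx⟩ := hnt
    apply hx
    refine eq_one_of_forall (U := fun x => ρ (u x)) hU hU0 hψ hqm (fun w hw => ?_) x
    have h1 := invariant_of_steps (fun v => e (fun x => ρ (u x)) ψ v = 0) hstep h01 hv
    have h2 := invariant_of_steps (fun v => e (fun x => ρ (u x)) ψ v = 0) hstep h01 hw
    have h3 := h1.trans h2.symm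
    exact h3.mp hv0
  have := card_le_finrank hU hψ hqm (Finset.univ.erase 0) fun v hv => hall v (Finset.ne_of_mem_erase hv)
  rwa [Finset.card_erase_of_mem (Finset.mem_univ _), Finset.card_univ, Fintype.card_fun, Fintype.card_fin] at this

end Cfsg.Agent.H133.SLCross
end

-- part: S2392
section
set_option autoImplicit false
open scoped MatrixGroups
open Cfsg

namespace Cfsg.Agent.S2392

open Cfsg.Agent.H133.SLCross

/-- The linear action of `GL_d(K)` on `L ^ d`, `L` an extension of `K`. -/
def toEnd (K L : Type*) [Field K] [Field L] [Algebra K L] (d : ℕ) :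
    GL (Fin d) K →* Module.End L (Fin d → L) where
  toFun g := Matrix.toLin' ((g : Matrix (Fin d) (Fin d) K).map (algebraMap K L))
  map_one' := by
    rw [Units.val_one, Matrix.map_one _ (map_zero _) (map_one _), Matrix.toLin'_one]
    rfl
  map_mul' a b := by
    rw [Units.val_mul, Matrix.map_mul, Matrix.toLin'_mul]
    rfl

theorem toEnd_injective (K L : Type*) [Field K] [Field L] [Algebra K L] (d : ℕ) :
    Function.Injective (toEnd K L d) := by
  intro a b h
  have h1 : (a : Matrix (Fin d) (Fin d) K).map (algebraMap K L) = (b : Matrix (Fin d) (Fin d) K).map (algebraMap K L) :=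
    Matrix.toLin'.injective h
  apply Units.ext
  ext i j
  exact (algebraMap K L).injective (congrFun (congrFun h1 i) j)

theorem aux {F : Type*} [Field F] [Fintype F] {m : ℕ} (hm : 2 ≤ m) {K L : Type*} [Field K] [Field L] [Algebra K L]
    (hq : (Fintype.card F : K) ≠ 0) {ψ : AddChar F L} (hψ : ψ.IsPrimitive) {d : ℕ}
    (ρ : Matrix.SpecialLinearGroup (Fin (m + 1)) F →* GL (Fin d) K)
    (hker : ρ.ker ≤ Subgroup.center (Matrix.SpecialLinearGroup (Fin (m + 1)) F)) :
    Fintype.card F ^ m - 1 ≤ d := by
  classical
  have h1 := main hm ((toEnd K L d).comp ρ) hψ (by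
    have h := (algebraMap K L).injective.ne hq
    rwa [map_natCast, map_zero] at h) (by
      refine ⟨Pi.single ⟨0, by omega⟩ 1, fun h => ?_⟩
      apply u_not_mem_center (F := F) (⟨0, by omega⟩ : Fin m)
      apply hker
      rw [MonoidHom.mem_ker]
      apply toEnd_injective K L d
      rw [map_one]
      exact h)
  rwa [Module.finrank_fin_fun] at h1

/-- The order of a finite field is nonzero in a field of different characteristic. -/
theorem card_ne_zero {F : Type*} [Field F] [Fintype F] {K : Type*} [Field K] (hK : ringChar K ≠ ringChar F) :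
    (Fintype.card F : K) ≠ 0 := by
  intro h
  obtain ⟨n, hp, hn⟩ := FiniteField.card F (ringChar F)
  rw [hn, Nat.cast_pow] at h
  have h1 := pow_eq_zero_iff (n.ne_zero) |>.1 h
  have h2 := (ringChar.spec K (ringChar F)).1 h1
  rcases (Nat.dvd_prime hp).1 h2 with h3 | h3
  · exact CharP.ringChar_ne_one h3
  · exact hK h3

/-- A lower bound for representations in cross characteristic: for `n ≥ 3` and a field `F` with `q` elements, every homomorphism from `SL_n(F)` to `GL_d(K)`, `K` a field of characteristic different from that of `F`, whose kernel is central has `d ≥ q^(n-1) - 1`. -/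
theorem result {F : Type*} [Field F] [Fintype F] {q : ℕ} (hq : Fintype.card F = q) (n : ℕ) (hn : 3 ≤ n)
    {K : Type*} [Field K] (hK : ringChar K ≠ ringChar F) {d : ℕ}
    (ρ : Matrix.SpecialLinearGroup (Fin n) F →* GL (Fin d) K) (hker : ρ.ker ≤ Subgroup.center (Matrix.SpecialLinearGroup (Fin n) F)) :
    q ^ (n - 1) - 1 ≤ d := by
  obtain ⟨m, rfl⟩ : ∃ m, n = m + 1 := ⟨n - 1, by omega⟩
  subst hq
  exact aux (by omega) (card_ne_zero hK) (AddChar.FiniteField.primitiveChar F K hK).prim ρ hker

end Cfsg.Agent.S2392
end
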