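import Cfsg.Agent.H141.Ore.Dicho
import Cfsg.Statements.S2444
set_option linter.all false

-- part: H141/Ore/Two
section
/-!
# The two-dimensional factorisation (helper141, S2444)
-/

set_option autoImplicit false
set_option linter.unusedSectionVars false

namespace Cfsg.Agent.H141.Ore

open Module Polynomial

section Field

variable {F : Type*} [Field F] [Finite F]

theorem exists_sq_add_mul_sq (a c : F) (ha : a ≠ 0) : ∃ x y : F, x ^ 2 + a * y ^ 2 = c := by
  classical
  have : Fintype F := Fintype.ofFinite F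
  by_cases h2 : ringChar F = 2
  · obtain ⟨x, hx⟩ := FiniteField.isSquare_of_char_two h2 c
    exact ⟨x, 0, by rw [hx]; ring⟩
  · have hodd : Fintype.card F % 2 = 1 := FiniteField.odd_card_of_char_ne_two h2
    have hf : degree (X ^ 2 - C c : F[X]) = 2 := degree_X_pow_sub_C (by norm_num) c
    have hg : degree (C a * X ^ 2 : F[X]) = 2 := degree_C_mul_X_pow 2 ha
    obtain ⟨x, y, hxy⟩ := FiniteField.exists_root_sum_quadratic hf hg hodd
    refine ⟨x, y, ?_⟩
    simp only [eval_sub, eval_pow, eval_X, eval_C, eval_mul] at hxy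
    linear_combination hxy

theorem ringChar_eq_two (h2 : (2 : F) = 0) : ringChar F = 2 := by
  have h3 : ringChar F ∣ 2 := ringChar.dvd (by exact_mod_cast h2)
  rcases (Nat.dvd_prime Nat.prime_two).1 h3 with h | h
  · exact absurd h (CharP.ringChar_ne_one)
  · exact h

theorem exists_xz (s τ c : F) (hs : s ≠ 2) (hτ : τ ≠ 0) :
    ∃ x z : F, x ^ 2 + s * x * z + z ^ 2 - τ * x + τ * (1 - s) * z + c = 0 := by
  by_cases h2s : 2 + s = 0
  · have hs' : s = -2 := by linear_combination h2s
    have h2 : (2 : F) ≠ 0 := by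
      intro h
      apply hs
      rw [hs', h, neg_zero]
    subst hs'
    refine ⟨-c / (2 * τ), -c / (2 * τ), ?_⟩
    field_simp
    ring
  · obtain ⟨k, hk⟩ : ∃ k, τ = k * (2 + s) := ⟨τ / (2 + s), (div_mul_cancel₀ _ h2s).symm⟩
    have key : ∃ u w : F, u ^ 2 + s * u * w + w ^ 2 = k ^ 2 * (2 + s) - c := by
      by_cases h2 : (2 : F) = 0
      · obtain ⟨y, hy⟩ := FiniteField.isSquare_of_char_two (ringChar_eq_two h2) (k ^ 2 * (2 + s) - c)
        exact ⟨y, 0, by rw [hy]; ring⟩
      · obtain ⟨h, hh⟩ : ∃ h, s = 2 * h := ⟨s / 2, by field_simp⟩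
        have h4 : 1 - h ^ 2 ≠ 0 := by
          intro h0
          have h5 : (1 - h) * (1 + h) = 0 := by linear_combination h0
          rcases mul_eq_zero.1 h5 with h6 | h6
          · exact hs (by linear_combination hh - 2 * h6)
          · exact h2s (by linear_combination hh + 2 * h6)
        obtain ⟨u, w, huw⟩ := exists_sq_add_mul_sq (1 - h ^ 2) (k ^ 2 * (2 + s) - c) h4
        refine ⟨u - h * w, w, ?_⟩
        rw [← huw, hh]
        ring
    obtain ⟨u, w, huw⟩ := key
    refine ⟨u + k * (1 + s), w - k, ?_⟩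
    rw [hk]
    linear_combination huw

end Field

section Lin

variable {F : Type*} [Field F] {W : Type*} [AddCommGroup W] [Module F W] [FiniteDimensional F W]

theorem exists_noneigen (T : Module.End F W) (hns : NonScalar T) :
    ∃ w, LinearIndependent F ![w, T w] := by
  by_contra hcon
  push Not at hcon
  have h : ∀ w, w ≠ 0 → ∃ a : F, a • w = T w := by
    intro w hw
    have := hcon w
    rw [LinearIndependent.pair_iff' hw] at this
    push Not at this
    exact this
  obtain ⟨x, hx⟩ := hns 0
  have hx0 : x ≠ 0 := by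
    rintro rfl
    simp at hx
  obtain ⟨a, ha⟩ := h x hx0
  obtain ⟨y, hy⟩ := hns a
  have hy0 : y ≠ 0 := by
    rintro rfl
    simp at hy
  obtain ⟨b, hb⟩ := h y hy0
  by_cases hxy : x + y = 0
  · have : y = -x := by rw [← sub_eq_zero, sub_neg_eq_add, add_comm]; exact hxy
    apply hy
    rw [this, map_neg, ← ha, smul_neg]
  · obtain ⟨c, hc⟩ := h _ hxy
    rw [map_add, ← ha, ← hb, smul_add] at hc
    have h1 : (c - a) • x = (b - c) • y := by
      rw [sub_smul, sub_smul, sub_eq_sub_iff_add_eq_add, hc, add_comm]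
    by_cases hbc : b - c = 0
    · rw [hbc, zero_smul, smul_eq_zero] at h1
      rcases h1 with h1 | h1
      · apply hy
        rw [← hb]
        congr 1
        linear_combination hbc + h1
      · exact hx0 h1
    · apply hy
      have h2 : y = ((b - c)⁻¹ * (c - a)) • x := by
        rw [mul_smul, h1, smul_smul, inv_mul_cancel₀ hbc, one_smul]
      rw [h2, map_smul, ← ha, smul_smul, smul_smul, mul_comm]

open Matrix in
theorem exists_pair_two [Finite F] (τ c : F) (hτ : τ ≠ 0) (T : Module.End F W)
    (hk : finrank F W = 2) (hdet : LinearMap.det T = 1) (hns : NonScalar T)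
    (htr : LinearMap.trace F W T ≠ 2) :
    ∃ B D : Module.End F W, (∀ x, T (D x) = B x) ∧
      aeval B (X ^ 2 - C τ * X + C c) = 0 ∧ aeval D (X ^ 2 - C τ * X + C c) = 0 := by
  obtain ⟨w, hw⟩ := exists_noneigen T hns
  let b : Basis (Fin 2) F W := basisOfLinearIndependentOfCardEqFinrank hw (by rw [hk]; rfl)
  have hb0 : b 0 = w := by simp [b]
  have hb1 : b 1 = T w := by simp [b]
  set s := LinearMap.trace F W T with hs
  have hTm : LinearMap.toMatrix b b T = !![0, -1; 1, s] := by
    have e00 : LinearMap.toMatrix b b T 0 0 = 0 := by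
      rw [LinearMap.toMatrix_apply, hb0, ← hb1]; simp
    have e10 : LinearMap.toMatrix b b T 1 0 = 1 := by
      rw [LinearMap.toMatrix_apply, hb0, ← hb1]; simp
    have e1 := LinearMap.trace_eq_matrix_trace F b T
    rw [Matrix.trace_fin_two, e00, zero_add, ← hs] at e1
    have e2 := LinearMap.det_toMatrix b T
    rw [Matrix.det_fin_two, e00, e10, hdet] at e2
    ext i j
    fin_cases i <;> fin_cases j
    · exact e00
    · simp only [Fin.zero_eta, Fin.mk_one, of_apply, cons_val', cons_val_one, cons_val_zero]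
      linear_combination -e2
    · exact e10
    · exact e1.symm
  obtain ⟨x, z, hxz⟩ := exists_xz s τ c htr hτ
  set M : Matrix (Fin 2) (Fin 2) F := !![x, z + τ - s * (τ - x); z, τ - x] with hM
  set N : Matrix (Fin 2) (Fin 2) F := !![0, -1; 1, s] * M with hN
  have hchM : M.charpoly = X ^ 2 - C τ * X + C c := by
    rw [Matrix.charpoly_fin_two]
    have h1 : M.trace = τ := by rw [Matrix.trace_fin_two, hM]; simp
    have h2 : M.det = c := by
      rw [Matrix.det_fin_two, hM]
      simp only [of_apply, cons_val', cons_val_zero, cons_val_one, cons_val_fin_one]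
      linear_combination -hxz
    rw [h1, h2]
  have hchN : N.charpoly = X ^ 2 - C τ * X + C c := by
    rw [Matrix.charpoly_fin_two]
    have h1 : N.trace = τ := by
      rw [hN, hM, Matrix.mul_fin_two, Matrix.trace_fin_two]
      simp only [of_apply, cons_val', cons_val_zero, cons_val_one, cons_val_fin_one]
      ring
    have h2 : N.det = c := by
      rw [hN, Matrix.det_mul, Matrix.det_fin_two, Matrix.det_fin_two, hM]
      simp only [of_apply, cons_val', cons_val_zero, cons_val_one, cons_val_fin_one]
      linear_combination -hxz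
    rw [h1, h2]
  have hT : T = Matrix.toLin b b !![0, -1; 1, s] := by
    rw [← hTm, Matrix.toLin_toMatrix]
  refine ⟨Matrix.toLinAlgEquiv b N, Matrix.toLinAlgEquiv b M, ?_, ?_, ?_⟩
  · intro y
    have : Matrix.toLinAlgEquiv b N = T * Matrix.toLinAlgEquiv b M := by
      rw [hN, map_mul, hT]; rfl
    rw [this]; rfl
  · rw [← hchN]
    have := Polynomial.aeval_algHom_apply (Matrix.toLinAlgEquiv b).toAlgHom N N.charpoly
    rw [Matrix.aeval_self_charpoly, map_zero] at this
    exact this
  · rw [← hchM]
    have := Polynomial.aeval_algHom_apply (Matrix.toLinAlgEquiv b).toAlgHom M M.charpoly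
    rw [Matrix.aeval_self_charpoly, map_zero] at this
    exact this

end Lin

end Cfsg.Agent.H141.Ore
end

-- part: H141/Ore/Base
section
/-!
# The three-dimensional base case over fields with at least three elements (helper141, S2444)
-/

set_option autoImplicit false
set_option linter.unusedSectionVars false

namespace Cfsg.Agent.H141.Ore

open Module Polynomial

universe u w

section Select

variable {F : Type*} [Field F] [Finite F] {V : Type*} [AddCommGroup V] [Module F V]
  [FiniteDimensional F V]

theorem det_scalar {W : Type*} [AddCommGroup W] [Module F W] [FiniteDimensional F W]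
    (T : Module.End F W) (a : F) (h : ∀ x, T x = a • x) :
    LinearMap.det T = a ^ finrank F W ∧ LinearMap.trace F W T = a * finrank F W := by
  have hT : T = a • LinearMap.id := by
    apply LinearMap.ext; intro x; rw [h]; rfl
  constructor
  · rw [hT, LinearMap.det_smul, LinearMap.det_id, mul_one]
  · rw [hT, map_smul, LinearMap.trace_id, smul_eq_mul]

theorem exists_notMem_pair (hq : 3 ≤ Nat.card F) (a b : F) : ∃ t : F, t ≠ a ∧ t ≠ b := by
  classical
  by_contra hcon
  push Not at hcon
  have h1 : (Set.univ : Set F) ⊆ {a, b} := by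
    intro t _
    by_cases h : t = a
    · exact Or.inl h
    · exact Or.inr (hcon t h)
  have h2 := Set.ncard_le_ncard h1 (Set.toFinite _)
  have h3 := Set.ncard_insert_le a {b}
  rw [Set.ncard_singleton] at h3
  rw [Set.ncard_univ] at h2
  omega

theorem select_dim3 (hq : 3 ≤ Nat.card F) (S : Module.End F V) (hk : finrank F V = 3)
    (hdet : LinearMap.det S = 1) (hns : NonScalar S)
    (hR : 2 ≤ finrank F (LinearMap.range (S - 1))) :
    ∃ (v : V) (φ : V →ₗ[F] F) (_ : φ v = 1) (hSv : φ (S v) = 1),
      NonScalar (schur S φ v hSv) ∧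
      LinearMap.trace F (LinearMap.ker φ) (schur S φ v hSv) ≠ 2 := by
  have hsc : ∀ (v : V) (φ : V →ₗ[F] F) (_ : φ v = 1) (hSv : φ (S v) = 1) (a : F),
      (∀ w, schur S φ v hSv w = a • w) →
      (a = 1 ∨ a = -1) ∧ LinearMap.trace F (LinearMap.ker φ) (schur S φ v hSv) = a * 2 := by
    intro v φ hv hSv a ha
    have h1 := finrank_ker_functional φ v hv
    have h2 : finrank F (LinearMap.ker φ) = 2 := by omega
    obtain ⟨h3, h4⟩ := det_scalar _ a ha
    rw [det_schur S φ v hv hSv, hdet, h2] at h3
    rw [h2] at h4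
    refine ⟨?_, by rw [h4]; norm_num⟩
    have h5 : (a - 1) * (a + 1) = 0 := by linear_combination -h3
    rcases mul_eq_zero.1 h5 with h6 | h6
    · exact Or.inl (sub_eq_zero.1 h6)
    · exact Or.inr (eq_neg_of_add_eq_zero_left h6)
  rcases cyclic_or_rank_one S hk hns with ⟨v, hli⟩ | ⟨a, x, ψ, hS⟩
  · let b : Basis (Fin 3) F V := basisOfLinearIndependentOfCardEqFinrank hli (by rw [hk]; rfl)
    obtain ⟨t, ht1, ht2⟩ := exists_notMem_pair hq (LinearMap.trace F V S - 2)
      (LinearMap.trace F V S + 2)
    let φ : V →ₗ[F] F := b.constr F ![1, 1, t]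
    have hb0 : b 0 = v := by simp [b]
    have hb1 : b 1 = S v := by simp [b]
    have hb2 : b 2 = S (S v) := by simp [b]
    have hv : φ v = 1 := by rw [← hb0, b.constr_basis]; rfl
    have hSv : φ (S v) = 1 := by rw [← hb1, b.constr_basis]; rfl
    have hSSv : φ (S (S v)) = t := by rw [← hb2, b.constr_basis]; rfl
    have htr := trace_schur S φ v hSv
    rw [hSSv] at htr
    refine ⟨v, φ, hv, hSv, ?_, ?_⟩
    · intro c
      by_contra hcon
      push Not at hcon
      obtain ⟨h1, h2⟩ := hsc v φ hv hSv c hcon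
      rw [htr] at h2
      rcases h1 with rfl | rfl
      · exact ht1 (by linear_combination -h2)
      · exact ht2 (by linear_combination -h2)
    · rw [htr]
      intro h
      exact ht1 (by linear_combination -h)
  · -- scalar plus rank one
    have ha1 : a ≠ 1 := by
      rintro rfl
      have h1 : LinearMap.range (S - 1) ≤ ⊥ ⊔ Submodule.span F {x} := by
        rintro _ ⟨y, rfl⟩
        rw [bot_sup_eq, LinearMap.sub_apply, Module.End.one_apply, hS, one_smul, add_sub_cancel_left]
        exact Submodule.smul_mem _ _ (Submodule.mem_span_singleton_self x)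
      have h2 := Submodule.finrank_mono h1
      have h3 := finrank_sup_span_le (⊥ : Submodule F V) x
      rw [finrank_bot] at h3
      omega
    have hinj : ∀ y, S y = 0 → y = 0 := by
      intro y hy
      have hu : IsUnit (LinearMap.det S) := by rw [hdet]; exact isUnit_one
      have h1 : LinearMap.equivOfIsUnitDet hu y = 0 := by
        rw [LinearMap.equivOfIsUnitDet_apply]; exact hy
      exact (LinearEquiv.map_eq_zero_iff _).1 h1
    have hkerψ : ∃ y, y ≠ 0 ∧ ψ y = 0 := by
      have h1 := LinearMap.finrank_range_add_finrank_ker ψ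
      have h2 : finrank F (LinearMap.range ψ) ≤ 1 := by
        have := Submodule.finrank_le (LinearMap.range ψ)
        rw [finrank_self] at this
        exact this
      have h3 : 0 < finrank F (LinearMap.ker ψ) := by omega
      have : Nontrivial (LinearMap.ker ψ) := Module.nontrivial_of_finrank_pos h3
      obtain ⟨y, hy⟩ := exists_ne (0 : LinearMap.ker ψ)
      exact ⟨y, fun h => hy (Subtype.ext h), y.2⟩
    have ha0 : a ≠ 0 := by
      rintro rfl
      obtain ⟨y, hy0, hy⟩ := hkerψ
      apply hy0
      apply hinj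
      rw [hS, hy, zero_smul, zero_smul, add_zero]
    have hx0 : x ≠ 0 := by
      rintro rfl
      obtain ⟨y, hy⟩ := hns a
      apply hy
      rw [hS, smul_zero, add_zero]
    have hψ0 : ∃ y, ψ y ≠ 0 := by
      by_contra hcon
      push Not at hcon
      obtain ⟨y, hy⟩ := hns a
      apply hy
      rw [hS, hcon, zero_smul, add_zero]
    have hdetS : a ^ 3 + a ^ 2 * ψ x = 1 := by
      have h1 : S = a • LinearMap.transvection ψ (a⁻¹ • x) := by
        apply LinearMap.ext
        intro y
        rw [LinearMap.smul_apply, LinearMap.transvection.apply, hS, smul_add, smul_comm (ψ y),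
          smul_smul, mul_inv_cancel₀ ha0, one_smul]
      rw [h1, LinearMap.det_smul, LinearMap.transvection.det, hk, map_smul, smul_eq_mul] at hdet
      field_simp at hdet
      linear_combination hdet
    have htrS : LinearMap.trace F V S = 3 * a + ψ x := by
      have h1 : S = a • LinearMap.id + LinearMap.toSpanSingleton F V x ∘ₗ ψ := by
        apply LinearMap.ext
        intro y
        rw [hS]; rfl
      rw [h1, map_add, map_smul, LinearMap.trace_id, hk, trace_toSpanSingleton_comp, smul_eq_mul]
      push_cast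
      ring
    -- choice of v
    obtain ⟨v, hψv, hvx⟩ : ∃ v, ψ v ≠ 0 ∧ v ∉ Submodule.span F {x} := by
      obtain ⟨v₀, hv₀⟩ := hψ0
      by_cases h1 : v₀ ∈ Submodule.span F {x}
      · obtain ⟨y, hy⟩ : ∃ y, y ∉ Submodule.span F {x} := by
          by_contra hcon
          push Not at hcon
          have h1 : (⊤ : Submodule F V) ≤ ⊥ ⊔ Submodule.span F {x} := by
            rw [bot_sup_eq]; exact fun y _ => hcon y
          have h2 := Submodule.finrank_mono h1
          have h3 := finrank_sup_span_le (⊥ : Submodule F V) x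
          rw [finrank_bot] at h3
          rw [finrank_top] at h2
          omega
        by_cases h2 : ψ y = 0
        · refine ⟨v₀ + y, by rw [map_add, h2, add_zero]; exact hv₀, fun h => hy ?_⟩
          have := sub_mem h h1
          rwa [add_sub_cancel_left] at this
        · exact ⟨y, h2, hy⟩
      · exact ⟨v₀, hv₀, h1⟩
    have hxv : x ∉ Submodule.span F {v} := notMem_swap hx0 hvx
    obtain ⟨z, hz⟩ : ∃ z, z ∉ (⊥ ⊔ Submodule.span F {v}) ⊔ Submodule.span F {x} := by
      by_contra hcon
      push Not at hcon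
      have h1 : (⊤ : Submodule F V) ≤ (⊥ ⊔ Submodule.span F {v}) ⊔ Submodule.span F {x} :=
        fun y _ => hcon y
      have h2 := Submodule.finrank_mono h1
      have h3 := finrank_sup_span_le (⊥ ⊔ Submodule.span F {v} : Submodule F V) x
      have h4 := finrank_sup_span_le (⊥ : Submodule F V) v
      rw [finrank_bot] at h4
      rw [finrank_top] at h2
      omega
    obtain ⟨f, hf, hfx⟩ := Submodule.exists_le_ker_of_notMem hvx
    obtain ⟨g, hg, hgv⟩ := Submodule.exists_le_ker_of_notMem hxv
    obtain ⟨h, hh, hhP⟩ := Submodule.exists_le_ker_of_notMem hz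
    have hfx' : f x = 0 := hfx (Submodule.mem_span_singleton_self x)
    have hgv' : g v = 0 := hgv (Submodule.mem_span_singleton_self v)
    have hhv : h v = 0 := hhP ((le_sup_right.trans le_sup_left : Submodule.span F {v} ≤ _)
      (Submodule.mem_span_singleton_self v))
    have hhx : h x = 0 := hhP ((le_sup_right : Submodule.span F {x} ≤ _)
      (Submodule.mem_span_singleton_self x))
    set k : F := (1 - a) / ψ v with hk'
    have hkψ : ψ v * k = 1 - a := by rw [hk', mul_div_cancel₀ _ hψv]
    have hval : ∀ φ : V →ₗ[F] F, φ v = 1 → φ x = k → φ (S v) = 1 := by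
      intro φ h1 h2
      rw [hS, map_add, map_smul, map_smul, h1, h2, smul_eq_mul, smul_eq_mul, hkψ]
      ring
    let φ₁ : V →ₗ[F] F := (f v)⁻¹ • f + (k * (g x)⁻¹) • g
    let φ₂ : V →ₗ[F] F := φ₁ + h
    have e1 : φ₁ v = 1 := by simp [φ₁, hgv', hf]
    have e2 : φ₁ x = k := by simp [φ₁, hfx', hg]
    have e3 : φ₂ v = 1 := by simp [φ₂, e1, hhv]
    have e4 : φ₂ x = k := by simp [φ₂, e2, hhx]
    have hne : φ₁ ≠ φ₂ := by
      intro he
      apply hh
      have := LinearMap.congr_fun he z
      simp only [φ₂, LinearMap.add_apply] at this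
      exact (left_eq_add.1 this)
    have hSvne : S v ≠ v := by
      intro hcon
      rw [hS] at hcon
      apply hvx
      rw [Submodule.mem_span_singleton]
      refine ⟨ψ v / (1 - a), ?_⟩
      have h1 : ψ v • x = (1 - a) • v := by
        rw [sub_smul, one_smul]
        nth_rewrite 2 [← hcon]
        abel
      rw [div_eq_inv_mul, mul_smul, h1, smul_smul, inv_mul_cancel₀ (sub_ne_zero.2 (Ne.symm ha1)),
        one_smul]
    have htr : ∀ (φ : V →ₗ[F] F) (h1 : φ v = 1) (h2 : φ x = k),
        LinearMap.trace F (LinearMap.ker φ) (schur S φ v (hval φ h1 h2)) ≠ 2 := by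
      intro φ h1 h2 hcon
      rw [trace_schur, htrS] at hcon
      have h3 : φ (S (S v)) = a + (a + ψ x) * (1 - a) := by
        rw [hS (S v), map_add, map_smul, map_smul, hval φ h1 h2, hS v, map_add, map_smul, map_smul,
          h2]
        simp only [smul_eq_mul]
        linear_combination (a + ψ x) * hkψ
      rw [h3] at hcon
      apply ha1
      have h4 : (a - 1) ^ 2 = 0 := by linear_combination a * hcon - hdetS
      exact sub_eq_zero.1 (pow_eq_zero_iff (by norm_num) |>.1 h4)
    have hdic : NonScalar (schur S φ₁ v (hval φ₁ e1 e2)) ∨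
        NonScalar (schur S φ₂ v (hval φ₂ e3 e4)) := by
      by_contra hcon
      push Not at hcon
      obtain ⟨c1, c2⟩ := hcon
      unfold NonScalar at c1 c2
      push Not at c1 c2
      obtain ⟨μ₁, hμ₁⟩ := c1
      obtain ⟨μ₂, hμ₂⟩ := c2
      obtain ⟨d1, d2⟩ := hsc v φ₁ e1 (hval φ₁ e1 e2) μ₁ hμ₁
      obtain ⟨d3, d4⟩ := hsc v φ₂ e3 (hval φ₂ e3 e4) μ₂ hμ₂
      have g1 : μ₁ = -1 := by
        rcases d1 with rfl | h
        · exact absurd (by rw [d2, one_mul]) (htr φ₁ e1 e2)
        · exact h
      have g2 : μ₂ = -1 := by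
        rcases d3 with rfl | h
        · exact absurd (by rw [d4, one_mul]) (htr φ₂ e3 e4)
        · exact h
      subst g1 g2
      exact hne (schur_scalar_unique S φ₁ φ₂ v e1 e3 (hval φ₁ e1 e2) (hval φ₂ e3 e4) hSvne (-1)
        (neg_ne_zero.2 one_ne_zero) hμ₁ hμ₂)
    rcases hdic with h1 | h1
    · exact ⟨v, φ₁, e1, hval φ₁ e1 e2, h1, htr φ₁ e1 e2⟩
    · exact ⟨v, φ₂, e3, hval φ₂ e3 e4, h1, htr φ₂ e3 e4⟩

end Select

section Quad

variable {F : Type*} [Field F]

theorem quad_monic (τ c : F) : (X ^ 2 - C τ * X + C c : F[X]).Monic := by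
  have : (X ^ 2 - C τ * X + C c : F[X]) = X ^ 2 + (C (-τ) * X + C c) := by
    rw [map_neg]; ring
  rw [this]
  apply monic_X_pow_add
  exact (degree_linear_le).trans_lt (by norm_num)

theorem quad_natDegree (τ c : F) : (X ^ 2 - C τ * X + C c : F[X]).natDegree = 2 := by
  compute_degree!

theorem quad_eval (τ c x : F) : (X ^ 2 - C τ * X + C c : F[X]).eval x = x ^ 2 - τ * x + c := by
  simp

theorem quad_irreducible (τ c : F) (h : ∀ x : F, x ^ 2 - τ * x + c ≠ 0) :
    Irreducible (X ^ 2 - C τ * X + C c : F[X]) := by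
  apply irreducible_of_degree_le_three_of_not_isRoot
  · rw [quad_natDegree]; simp
  · intro x hx
    rw [IsRoot, quad_eval] at hx
    exact h x hx

theorem exists_quad [Finite F] (hq : 3 ≤ Nat.card F) :
    ∃ τ c : F, τ ≠ 0 ∧ c ≠ 0 ∧ c ≠ 1 ∧ ∀ x : F, x ^ 2 - τ * x + c ≠ 0 := by
  by_cases h2 : (2 : F) = 0
  · have hni : ¬ Function.Injective (fun x : F => x ^ 2 + x) := by
      intro h
      have : (0 : F) = -1 := h (by norm_num)
      have h1 : (1 : F) = 0 := by linear_combination this
      exact one_ne_zero h1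
    have hns : ¬ Function.Surjective (fun x : F => x ^ 2 + x) :=
      fun h => hni (Finite.injective_iff_surjective.2 h)
    rw [Function.Surjective] at hns
    push Not at hns
    obtain ⟨δ, hδ⟩ := hns
    have hδ0 : δ ≠ 0 := by
      rintro rfl
      exact hδ 0 (by norm_num)
    by_cases h1 : -δ = 1
    · obtain ⟨t, ht0, ht1⟩ := exists_notMem_pair hq (0 : F) 1
      refine ⟨-t, t ^ 2, neg_ne_zero.2 ht0, pow_ne_zero _ ht0, ?_, ?_⟩
      · intro h
        apply ht1
        have : (t - 1) ^ 2 = 0 := by linear_combination h + (1 - t) * h2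
        exact sub_eq_zero.1 (pow_eq_zero_iff (by norm_num) |>.1 this)
      · intro x hx
        apply hδ (x / t)
        have hδ' : δ = -1 := by rw [← h1, neg_neg]
        rw [hδ']
        field_simp
        linear_combination hx
    · refine ⟨-1, -δ, neg_ne_zero.2 one_ne_zero, neg_ne_zero.2 hδ0, h1, ?_⟩
      intro x hx
      apply hδ x
      linear_combination hx
  · have hc : ringChar F ≠ 2 := by
      intro h
      apply h2
      have : ((2 : ℕ) : F) = 0 := by rw [← h]; exact ringChar.Nat.cast_ringChar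
      exact_mod_cast this
    obtain ⟨δ, hδ⟩ := FiniteField.exists_nonsquare hc
    refine ⟨2, 1 - δ, h2, ?_, ?_, ?_⟩
    · intro h
      apply hδ
      refine ⟨1, ?_⟩
      linear_combination -h
    · intro h
      apply hδ
      refine ⟨0, ?_⟩
      linear_combination -h
    · intro x hx
      apply hδ
      refine ⟨x - 1, ?_⟩
      linear_combination -hx

theorem dvd_of_irreducible_kill {W : Type*} [AddCommGroup W] [Module F W] [Nontrivial W]
    (B : Module.End F W) (g : F[X]) (hg : Irreducible g) (hm : g.Monic) (h : aeval B g = 0)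
    (p : F[X]) (hp : ∀ x, aeval B p x = 0) : g ∣ p := by
  rw [minpoly.eq_of_irreducible_of_monic hg h hm]
  exact minpoly.dvd F B (LinearMap.ext hp)

/-- the cubic, fields with at least three elements -/
theorem good_cubic (τ c : F) (hc0 : c ≠ 0) (hc1 : c ≠ 1) (h : ∀ x : F, x ^ 2 - τ * x + c ≠ 0) :
    Good ((X - C c⁻¹) * (X ^ 2 - C τ * X + C c)) where
  monic := (monic_X_sub_C _).mul (quad_monic τ c)
  deg := by
    rw [(monic_X_sub_C _).natDegree_mul (quad_monic τ c), natDegree_X_sub_C, quad_natDegree]
  coeff := by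
    rw [coeff_zero_eq_eval_zero, eval_mul, quad_eval]
    simp [hc0]
  one := by
    rw [eval_mul, quad_eval]
    refine mul_ne_zero ?_ (h 1)
    rw [eval_sub, eval_X, eval_C, sub_ne_zero]
    intro h1
    apply hc1
    rw [eq_comm, inv_eq_one] at h1
    exact h1
  ctrl := Or.inr ⟨c⁻¹, _, rfl, by rw [quad_eval]; exact h _⟩

theorem base_cubic {F : Type u} [Field F] [Finite F] (hq : 3 ≤ Nat.card F) (τ c : F) (hτ : τ ≠ 0)
    (h : ∀ x : F, x ^ 2 - τ * x + c ≠ 0) :
    BaseHyp.{u, w} F ((X - C c⁻¹) * (X ^ 2 - C τ * X + C c)) := by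
  intro V _ _ _ S hk hdet hns hR
  obtain ⟨v, φ, hv, hSv, hns', htr⟩ := select_dim3 hq S hk hdet hns hR
  have hk' := finrank_ker_functional φ v hv
  obtain ⟨B', D', hSD, hB', hD'⟩ := exists_pair_two τ c hτ (schur S φ v hSv) (by omega)
    (by rw [det_schur S φ v hv hSv, hdet]) hns' htr
  have hnt : Nontrivial (LinearMap.ker φ) := Module.nontrivial_of_finrank_pos (R := F) (by omega)
  obtain ⟨B, D, L⟩ := exists_lift S φ v hv hSv c⁻¹ B' D' hSD
  have hirr := quad_irreducible τ c h
  have hcop : IsCoprime (X - C c⁻¹) (X ^ 2 - C τ * X + C c : F[X]) := by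
    rw [(prime_X_sub_C c⁻¹).irreducible.coprime_iff_not_dvd, dvd_iff_isRoot, IsRoot, quad_eval]
    exact h _
  refine ⟨B, D, L.sd, ?_, ?_, ?_, ?_⟩
  · intro x
    rw [pow_zero, one_mul]
    exact L.ann_B _ (fun w => by rw [hB']; rfl) x
  · intro x
    rw [pow_zero, one_mul]
    exact L.ann_D _ (fun w => by rw [hD']; rfl) x
  · intro p hp
    refine hcop.mul_dvd (dvd_iff_isRoot.2 (L.root_B p hp)) ?_
    exact L.dvd_B _ (fun p hp => dvd_of_irreducible_kill B' _ hirr (quad_monic τ c) hB' p hp) p hp
  · intro p hp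
    refine hcop.mul_dvd (dvd_iff_isRoot.2 (L.root_D p hp)) ?_
    exact L.dvd_D _ (fun p hp => dvd_of_irreducible_kill D' _ hirr (quad_monic τ c) hD' p hp) p hp

end Quad

end Cfsg.Agent.H141.Ore
end

-- part: H141/Ore/BaseTwo
section
/-!
# The three-dimensional base case over the field with two elements (helper141, S2444)
-/

set_option autoImplicit false
set_option linter.unusedSectionVars false

namespace Cfsg.Agent.H141.Ore

open Module Polynomial

universe u w

theorem zmod_two_pair (a b : ZMod 2) : ∃ M : Matrix (Fin 3) (Fin 3) (ZMod 2),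
    M * M * M + M + 1 = 0 ∧ (!![0, 0, 1; 1, 0, a; 0, 1, b] * M) * (!![0, 0, 1; 1, 0, a; 0, 1, b] * M) *
      (!![0, 0, 1; 1, 0, a; 0, 1, b] * M) + (!![0, 0, 1; 1, 0, a; 0, 1, b] * M) + 1 = 0 := by
  fin_cases a <;> fin_cases b
  · exact ⟨!![0, 1, 1; 1, 1, 0; 1, 1, 1], by decide +kernel, by decide +kernel⟩
  · exact ⟨!![1, 0, 1; 1, 1, 0; 0, 1, 0], by decide +kernel, by decide +kernel⟩
  · exact ⟨!![0, 0, 1; 1, 0, 1; 0, 1, 0], by decide +kernel, by decide +kernel⟩
  · exact ⟨!![0, 0, 1; 0, 1, 1; 1, 1, 1], by decide +kernel, by decide +kernel⟩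

variable {F : Type*} [Field F]

theorem two_elem (hq : Nat.card F = 2) (t : F) : t = 0 ∨ t = 1 := by
  have hfin : Finite F := Nat.finite_of_card_ne_zero (by omega)
  by_contra hcon
  push Not at hcon
  have h1 : ({0, 1, t} : Set F).ncard = 3 := by
    rw [Set.ncard_eq_three]
    exact ⟨0, 1, t, zero_ne_one, hcon.1.symm, hcon.2.symm, rfl⟩
  have h2 := Set.ncard_le_card ({0, 1, t} : Set F)
  omega

theorem two_eq_zero (hq : Nat.card F = 2) : (2 : F) = 0 := by
  rcases two_elem hq 2 with h | h
  · exact h
  · exfalso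
    have : (1 : F) = 0 := by linear_combination h
    exact one_ne_zero this

theorem cubic_two_natDegree : (X ^ 3 + X + 1 : F[X]).natDegree = 3 := by compute_degree!

theorem cubic_two_monic : (X ^ 3 + X + 1 : F[X]).Monic := by monicity!

theorem cubic_two_eval (hq : Nat.card F = 2) (x : F) : (X ^ 3 + X + 1 : F[X]).eval x ≠ 0 := by
  simp only [eval_add, eval_pow, eval_X, eval_one]
  rcases two_elem hq x with rfl | rfl
  · simp
  · intro h
    apply one_ne_zero (α := F)
    linear_combination h - two_eq_zero hq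

theorem cubic_two_irreducible (hq : Nat.card F = 2) : Irreducible (X ^ 3 + X + 1 : F[X]) := by
  apply irreducible_of_degree_le_three_of_not_isRoot
  · rw [cubic_two_natDegree]; simp
  · intro x hx
    exact cubic_two_eval hq x hx

theorem good_two (hq : Nat.card F = 2) : Good (X ^ 3 + X + 1 : F[X]) where
  monic := cubic_two_monic
  deg := cubic_two_natDegree
  coeff := by
    rw [coeff_zero_eq_eval_zero]
    simp only [eval_add, eval_pow, eval_X, eval_one]
    linear_combination two_eq_zero hq
  one := cubic_two_eval hq 1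
  ctrl := Or.inl fun t ht => (two_elem hq t).resolve_left ht

open Matrix in
theorem base_two {F : Type u} [Field F] (hq : Nat.card F = 2) :
    BaseHyp.{u, w} F (X ^ 3 + X + 1) := by
  intro V _ _ _ S hk hdet hns hR
  have h20 := two_eq_zero hq
  have hfin : Finite F := Nat.finite_of_card_ne_zero (by omega)
  rcases cyclic_or_rank_one S hk hns with ⟨v, hli⟩ | ⟨a, x, ψ, hS⟩
  · let b : Basis (Fin 3) F V := basisOfLinearIndependentOfCardEqFinrank hli (by rw [hk]; rfl)
    have hb0 : b 0 = v := by simp [b]
    have hb1 : b 1 = S v := by simp [b]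
    have hb2 : b 2 = S (S v) := by simp [b]
    have e0 : ∀ i, LinearMap.toMatrix b b S i 0 = if i = 1 then 1 else 0 := by
      intro i
      rw [LinearMap.toMatrix_apply, hb0, ← hb1, b.repr_self, Finsupp.single_apply]
      simp [eq_comm]
    have e1 : ∀ i, LinearMap.toMatrix b b S i 1 = if i = 2 then 1 else 0 := by
      intro i
      rw [LinearMap.toMatrix_apply, hb1, ← hb2, b.repr_self, Finsupp.single_apply]
      simp [eq_comm]
    set A := LinearMap.toMatrix b b S with hA
    have edet := LinearMap.det_toMatrix b S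
    rw [hdet, ← hA, Matrix.det_fin_three] at edet
    simp only [e0, e1] at edet
    have e20 : A 0 2 = 1 := by
      simpa using edet
    have hAm : A = !![0, 0, 1; 1, 0, A 1 2; 0, 1, A 2 2] := by
      ext i j
      fin_cases i <;> fin_cases j <;> simp [e0, e1, e20]
    have hchar : CharP F 2 := by
      have := ringChar_eq_two h20
      rw [← this]; infer_instance
    let f : ZMod 2 →+* F := ZMod.castHom (dvd_refl 2) F
    have hf : ∀ t : F, ∃ a : ZMod 2, f a = t := by
      intro t
      rcases two_elem hq t with rfl | rfl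
      · exact ⟨0, map_zero f⟩
      · exact ⟨1, map_one f⟩
    obtain ⟨α, hα⟩ := hf (A 1 2)
    obtain ⟨β, hβ⟩ := hf (A 2 2)
    obtain ⟨M₀, hM₀, hN₀⟩ := zmod_two_pair α β
    set S₀ : Matrix (Fin 3) (Fin 3) (ZMod 2) := !![0, 0, 1; 1, 0, α; 0, 1, β] with hS₀
    have hAS : A = f.mapMatrix S₀ := by
      rw [hAm]
      ext i j
      fin_cases i <;> fin_cases j <;> simp [hS₀, hα, hβ]
    set M := f.mapMatrix M₀ with hM
    have hM1 : M * M * M + M + 1 = 0 := by
      rw [hM, ← map_mul, ← map_mul, ← map_add, ← map_one f.mapMatrix, ← map_add, hM₀, map_zero]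
    have hN1 : (A * M) * (A * M) * (A * M) + (A * M) + 1 = 0 := by
      rw [hM, hAS, ← map_mul, ← map_mul, ← map_mul, ← map_add, ← map_one f.mapMatrix, ← map_add,
        hN₀, map_zero]
    have hT : S = Matrix.toLinAlgEquiv b A := by
      rw [hA]
      exact (Matrix.toLin_toMatrix b b S).symm
    have hnt : Nontrivial V := Module.nontrivial_of_finrank_pos (R := F) (by omega)
    have hkill : ∀ N : Matrix (Fin 3) (Fin 3) F, N * N * N + N + 1 = 0 →
        aeval (Matrix.toLinAlgEquiv b N) (X ^ 3 + X + 1 : F[X]) = 0 := by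
      intro N hN
      simp only [map_add, map_pow, aeval_X, map_one]
      have h1 := congrArg (Matrix.toLinAlgEquiv b) hN
      rw [map_add, map_add, map_mul, map_mul, map_one, map_zero] at h1
      rw [← h1, pow_three, mul_assoc]
    have hB := hkill _ hN1
    have hD := hkill _ hM1
    refine ⟨Matrix.toLinAlgEquiv b (A * M), Matrix.toLinAlgEquiv b M, ?_, ?_, ?_, ?_, ?_⟩
    · intro y
      rw [map_mul, ← hT]; rfl
    · intro y
      rw [pow_zero, one_mul, hB]; rfl
    · intro y
      rw [pow_zero, one_mul, hD]; rfl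
    · exact dvd_of_irreducible_kill _ _ (cubic_two_irreducible hq) cubic_two_monic hB
    · exact dvd_of_irreducible_kill _ _ (cubic_two_irreducible hq) cubic_two_monic hD
  · exfalso
    rcases two_elem hq a with rfl | rfl
    · -- `S` has rank at most one
      have h1 : LinearMap.range S ≤ ⊥ ⊔ Submodule.span F {x} := by
        rintro _ ⟨y, rfl⟩
        rw [bot_sup_eq, hS, zero_smul, zero_add]
        exact Submodule.smul_mem _ _ (Submodule.mem_span_singleton_self x)
      have h2 := Submodule.finrank_mono h1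
      have h3 := finrank_sup_span_le (⊥ : Submodule F V) x
      rw [finrank_bot] at h3
      have hu : IsUnit (LinearMap.det S) := by rw [hdet]; exact isUnit_one
      have h4 : LinearMap.range S = ⊤ := by
        rw [LinearMap.range_eq_top]
        intro y
        refine ⟨(LinearMap.equivOfIsUnitDet hu).symm y, ?_⟩
        rw [← LinearMap.equivOfIsUnitDet_apply hu, LinearEquiv.apply_symm_apply]
      rw [h4, finrank_top] at h2
      omega
    · have h1 : LinearMap.range (S - 1) ≤ ⊥ ⊔ Submodule.span F {x} := by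
        rintro _ ⟨y, rfl⟩
        rw [bot_sup_eq, LinearMap.sub_apply, Module.End.one_apply, hS, one_smul, add_sub_cancel_left]
        exact Submodule.smul_mem _ _ (Submodule.mem_span_singleton_self x)
      have h2 := Submodule.finrank_mono h1
      have h3 := finrank_sup_span_le (⊥ : Submodule F V) x
      rw [finrank_bot] at h3
      omega

end Cfsg.Agent.H141.Ore
end

-- part: H141/Ore/Sum
section
/-!
# Direct sums, transvections, rank two (helper141, S2444)
-/

set_option autoImplicit false
set_option linter.unusedSectionVars false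

namespace Cfsg.Agent.H141.Ore

open Module Polynomial

universe u w

section Transfer

variable {F : Type*} [Field F] {V W : Type*} [AddCommGroup V] [Module F V] [AddCommGroup W]
  [Module F W]

theorem IsComm.congr (e : V ≃ₗ[F] W) (S : Module.End F V) (T : Module.End F W)
    (h : ∀ x, T (e x) = e (S x)) (hS : IsComm S) : IsComm T := by
  obtain ⟨X, D, hX, hD, hXD⟩ := hS
  refine ⟨(e.symm.trans X).trans e, (e.symm.trans D).trans e, ?_, ?_, ?_⟩
  · have : (((e.symm.trans X).trans e : W ≃ₗ[F] W) : W →ₗ[F] W) =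
        (e : V →ₗ[F] W) ∘ₗ (X : V →ₗ[F] V) ∘ₗ (e.symm : W →ₗ[F] V) := rfl
    rw [this, LinearMap.det_conj, hX]
  · have : (((e.symm.trans D).trans e : W ≃ₗ[F] W) : W →ₗ[F] W) =
        (e : V →ₗ[F] W) ∘ₗ (D : V →ₗ[F] V) ∘ₗ (e.symm : W →ₗ[F] V) := rfl
    rw [this, LinearMap.det_conj, hD]
  · intro y
    obtain ⟨x, rfl⟩ := e.surjective y
    rw [h, hXD]
    simp

theorem IsComm.prod_id [FiniteDimensional F V] [FiniteDimensional F W] (S : Module.End F V)
    (hS : IsComm S) : IsComm (S.prodMap (LinearMap.id : W →ₗ[F] W)) := by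
  obtain ⟨X, D, hX, hD, hXD⟩ := hS
  refine ⟨X.prodCongr (LinearEquiv.refl F W), D.prodCongr (LinearEquiv.refl F W), ?_, ?_, ?_⟩
  · have : ((X.prodCongr (LinearEquiv.refl F W) : (V × W) ≃ₗ[F] (V × W)) : (V × W) →ₗ[F] (V × W)) =
        (X : V →ₗ[F] V).prodMap LinearMap.id := rfl
    rw [this, LinearMap.det_prodMap, hX, LinearMap.det_id, mul_one]
  · have : ((D.prodCongr (LinearEquiv.refl F W) : (V × W) ≃ₗ[F] (V × W)) : (V × W) →ₗ[F] (V × W)) =
        (D : V →ₗ[F] V).prodMap LinearMap.id := rfl
    rw [this, LinearMap.det_prodMap, hD, LinearMap.det_id, mul_one]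
  · rintro ⟨x, y⟩
    simp [hXD]

theorem IsComm.of_isCompl [FiniteDimensional F V] (S : Module.End F V) (V₁ V₂ : Submodule F V)
    (h : IsCompl V₁ V₂) (h₁ : ∀ x ∈ V₁, S x ∈ V₁) (h₂ : ∀ x ∈ V₂, S x = x)
    (hc : IsComm (S.restrict h₁)) : IsComm S := by
  refine IsComm.congr (Submodule.prodEquivOfIsCompl V₁ V₂ h) _ S ?_ (IsComm.prod_id (W := V₂) _ hc)
  rintro ⟨x, y⟩
  simp only [Submodule.coe_prodEquivOfIsCompl', map_add, LinearMap.prodMap_apply,
    LinearMap.id_apply, LinearMap.coe_restrict_apply]
  rw [h₂ y y.2]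

theorem isComm_one [FiniteDimensional F V] (S : Module.End F V) (h : ∀ x, S x = x) : IsComm S :=
  ⟨LinearEquiv.refl F V, LinearEquiv.refl F V, LinearMap.det_id, LinearMap.det_id,
    fun x => by rw [h]; rfl⟩

/-- transvections -/
theorem isComm_transvection [FiniteDimensional F V] (hk : 3 ≤ finrank F V) (S : Module.End F V)
    (a : V) (g : V →ₗ[F] F) (hga : g a = 0) (hS : ∀ x, S x = x + g x • a) : IsComm S := by
  obtain ⟨b, hgb, hba⟩ : ∃ b, g b = 0 ∧ b ∉ Submodule.span F {a} := by
    by_contra hcon
    push Not at hcon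
    have h1 : LinearMap.ker g ≤ ⊥ ⊔ Submodule.span F {a} := by
      rw [bot_sup_eq]; exact fun y hy => hcon y hy
    have h2 := Submodule.finrank_mono h1
    have h3 := finrank_sup_span_le (⊥ : Submodule F V) a
    rw [finrank_bot] at h3
    have h4 := LinearMap.finrank_range_add_finrank_ker g
    have h5 := Submodule.finrank_le (LinearMap.range g)
    rw [finrank_self] at h5
    omega
  obtain ⟨f₀, hf₀, hf₀a⟩ := Submodule.exists_le_ker_of_notMem hba
  have hf₀a' : f₀ a = 0 := hf₀a (Submodule.mem_span_singleton_self a)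
  set f : V →ₗ[F] F := (f₀ b)⁻¹ • f₀ with hf
  have hfa : f a = 0 := by simp [hf, hf₀a']
  have hfb : f b = 1 := by simp [hf, hf₀]
  refine ⟨LinearEquiv.transvection hfa, LinearEquiv.transvection hgb, ?_, ?_, ?_⟩
  · rw [LinearEquiv.transvection.coe_toLinearMap, LinearMap.transvection.det, hfa, add_zero]
  · rw [LinearEquiv.transvection.coe_toLinearMap, LinearMap.transvection.det, hgb, add_zero]
  · intro x
    obtain ⟨y, rfl⟩ := (LinearEquiv.transvection hgb).surjective x
    obtain ⟨z, rfl⟩ := (LinearEquiv.transvection hfa).surjective y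
    rw [LinearEquiv.symm_apply_apply, LinearEquiv.symm_apply_apply]
    simp only [LinearEquiv.transvection.apply]
    rw [hS]
    simp only [map_add, map_smul, smul_eq_mul, hga, hgb, hfb]
    module

end Transfer

section RankTwo

variable {F : Type u} [Field F] [Finite F]

theorem exists_good (F : Type u) [Field F] [Finite F] : ∃ e : F[X], Good e ∧ BaseHyp.{u, w} F e := by
  have hq := two_le_card (F := F)
  rcases Nat.lt_or_ge (Nat.card F) 3 with h | h
  · exact ⟨_, good_two (by omega), base_two (by omega)⟩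
  · obtain ⟨τ, c, hτ, hc0, hc1, hx⟩ := exists_quad h
    exact ⟨_, good_cubic τ c hc0 hc1 hx, base_cubic h τ c hτ hx⟩

/-- rank two in dimension at least four -/
theorem isComm_rank2' (n : ℕ) : ∀ (V : Type w) [AddCommGroup V] [Module F V] [FiniteDimensional F V]
    (S : Module.End F V), finrank F V = n + 4 → LinearMap.det S = 1 →
    finrank F (LinearMap.range (S - 1)) = 2 → IsComm S := by
  induction n with
  | zero =>
    intro V _ _ _ S hk hdet hR
    obtain ⟨e, he, hb⟩ := exists_good.{u, w} F
    exact isComm_rank2 e he hb V S (by omega) hdet hR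
  | succ n ih =>
    intro V _ _ _ S hk hdet hR
    have h1 := LinearMap.finrank_range_add_finrank_ker (S - 1)
    obtain ⟨z, hz, hzI⟩ : ∃ z ∈ LinearMap.ker (S - 1), z ∉ LinearMap.range (S - 1) := by
      by_contra hcon
      push Not at hcon
      have h2 : LinearMap.ker (S - 1) ≤ LinearMap.range (S - 1) := hcon
      have h3 := Submodule.finrank_mono h2
      omega
    have hz' : S z = z := by
      rw [LinearMap.mem_ker, LinearMap.sub_apply, Module.End.one_apply, sub_eq_zero] at hz
      exact hz
    have hz0 : z ≠ 0 := by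
      rintro rfl
      exact hzI (zero_mem _)
    have hdis : Disjoint (LinearMap.range (S - 1)) (Submodule.span F {z}) := by
      rw [Submodule.disjoint_span_singleton' hz0]
      exact hzI
    obtain ⟨V₁, hV₁, hcompl⟩ := hdis.exists_isCompl
    have hinv : ∀ x ∈ V₁, S x ∈ V₁ := by
      intro x hx
      have : S x = (S - 1) x + x := by simp
      rw [this]
      exact add_mem (hV₁ (LinearMap.mem_range_self _ x)) hx
    have hid : ∀ x ∈ Submodule.span F {z}, S x = x := by
      intro x hx
      rw [Submodule.mem_span_singleton] at hx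
      obtain ⟨a, rfl⟩ := hx
      rw [map_smul, hz']
    have hdim : finrank F V₁ = n + 4 := by
      have := Submodule.finrank_add_eq_of_isCompl hcompl
      rw [finrank_span_singleton hz0] at this
      omega
    refine IsComm.of_isCompl S V₁ _ hcompl hinv hid (ih V₁ _ hdim ?_ ?_)
    · have he : V₁ ≤ V₁.comap S := hinv
      have h2 := LinearMap.det_eq_det_mul_det V₁ S he
      have h3 : V₁.mapQ V₁ S he = LinearMap.id := by
        ext x
        simp only [LinearMap.comp_apply, Submodule.mapQ_apply, Submodule.mkQ_apply,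
          LinearMap.id_apply]
        rw [Submodule.Quotient.eq]
        have : S x - x = (S - 1) x := by simp
        rw [this]
        exact hV₁ (LinearMap.mem_range_self _ x)
      rw [h3, LinearMap.det_id, mul_one, hdet] at h2
      exact h2.symm
    · have : (LinearMap.range (S.restrict hinv - 1)).map V₁.subtype = LinearMap.range (S - 1) := by
        apply le_antisymm
        · rintro _ ⟨_, ⟨x, rfl⟩, rfl⟩
          exact ⟨x, by simp⟩
        · rintro _ ⟨x, rfl⟩
          obtain ⟨y, hy, t, ht, rfl⟩ : ∃ y ∈ V₁, ∃ t ∈ Submodule.span F {z}, y + t = x := by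
            have : x ∈ V₁ ⊔ Submodule.span F {z} := by rw [hcompl.sup_eq_top]; trivial
            exact Submodule.mem_sup.1 this
          refine ⟨(S.restrict hinv - 1) ⟨y, hy⟩, LinearMap.mem_range_self _ _, ?_⟩
          simp [hid t ht]
      rw [← hR, ← Submodule.finrank_map_subtype_eq V₁, this]

end RankTwo

end Cfsg.Agent.H141.Ore
end

-- part: H141/Ore/Scalar
section
/-!
# Scalars and dimension two (helper141, S2444)
-/

set_option autoImplicit false
set_option linter.unusedSectionVars false

namespace Cfsg.Agent.H141.Ore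

open Module Polynomial

universe u w

section Criterion

variable {F : Type*} [Field F] {V : Type*} [AddCommGroup V] [Module F V] [FiniteDimensional F V]

theorem isComm_of_end (S X D : Module.End F V) (hX : LinearMap.det X = 1)
    (hD : LinearMap.det D = 1) (h : ∀ z, X (D z) = S (D (X z))) : IsComm S := by
  have uX : IsUnit (LinearMap.det X) := by rw [hX]; exact isUnit_one
  have uD : IsUnit (LinearMap.det D) := by rw [hD]; exact isUnit_one
  refine ⟨LinearMap.equivOfIsUnitDet uX, LinearMap.equivOfIsUnitDet uD, ?_, ?_, ?_⟩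
  · rw [LinearMap.coe_equivOfIsUnitDet, hX]
  · rw [LinearMap.coe_equivOfIsUnitDet, hD]
  · intro x
    obtain ⟨y, rfl⟩ := (LinearMap.equivOfIsUnitDet uD).surjective x
    obtain ⟨z, rfl⟩ := (LinearMap.equivOfIsUnitDet uX).surjective y
    rw [LinearEquiv.symm_apply_apply, LinearEquiv.symm_apply_apply]
    simp only [LinearMap.equivOfIsUnitDet_apply]
    exact (h z).symm

end Criterion

section Shift

variable {F : Type*} [Field F] {W : Type*} [AddCommGroup W] [Module F W] [FiniteDimensional F W]
  (k : ℕ)

/-- the cyclic shift -/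
def shift (F W : Type*) [Field F] [AddCommGroup W] [Module F W] (k : ℕ) :
    Module.End F (Fin (k + 1) → W) := LinearMap.funLeft F W (fun i => i - 1)

theorem shift_apply (f : Fin (k + 1) → W) (i : Fin (k + 1)) : shift F W k f i = f (i - 1) := rfl

theorem det_shift_sq : LinearMap.det (shift F W k) ^ 2 = 1 := by
  set ρ : Module.End F (Fin (k + 1) → W) := LinearMap.funLeft F W (fun i => -i) with hρ
  have h1 : ρ ∘ₗ ρ = LinearMap.id := by
    apply LinearMap.ext; intro f; funext i
    simp [hρ, LinearMap.funLeft_apply]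
  have h2 : shift F W k ∘ₗ (ρ ∘ₗ shift F W k ∘ₗ ρ) = LinearMap.id := by
    apply LinearMap.ext; intro f; funext i
    simp only [LinearMap.comp_apply, LinearMap.id_apply, shift_apply, hρ, LinearMap.funLeft_apply]
    congr 1
    abel
  have h3 := congrArg LinearMap.det h1
  have h4 := congrArg LinearMap.det h2
  simp only [LinearMap.det_comp, LinearMap.det_id] at h3 h4
  calc LinearMap.det (shift F W k) ^ 2 = LinearMap.det (shift F W k) *
        (LinearMap.det ρ * (LinearMap.det (shift F W k) * LinearMap.det ρ)) := by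
          linear_combination (-(LinearMap.det (shift F W k)) ^ 2) * h3
    _ = 1 := h4

theorem shift_pow (n : ℕ) (f : Fin (k + 1) → W) (i : Fin (k + 1)) :
    (shift F W k ^ n) f i = f (i - n • (1 : Fin (k + 1))) := by
  induction n generalizing i with
  | zero => simp
  | succ n ih =>
    rw [pow_succ', Module.End.mul_apply, shift_apply, ih, succ_nsmul]
    congr 1
    abel

theorem det_shift_odd (hk : Even k) : LinearMap.det (shift F F k) = 1 := by
  have h1 := det_shift_sq (F := F) (W := F) k
  have h2 : (shift F F k) ^ (k + 1) = 1 := by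
    apply LinearMap.ext; intro f; funext i
    rw [shift_pow]
    have h0 : (k + 1) • (1 : Fin (k + 1)) = 0 := by
      have := card_nsmul_eq_zero (G := Fin (k + 1)) (x := 1)
      rwa [Fintype.card_fin] at this
    rw [h0, sub_zero]; rfl
  have h3 := congrArg LinearMap.det h2
  rw [map_pow, map_one] at h3
  obtain ⟨j, hj⟩ := hk
  rw [pow_succ] at h3
  have h4 : ∀ d : F, d ^ 2 = 1 → d ^ k = 1 := by
    intro d hd
    rw [hj, ← two_mul, pow_mul, hd, one_pow]
  rw [h4 _ h1, one_mul] at h3
  exact h3

theorem det_shift_two : LinearMap.det (shift F (Fin 2 → F) k) = 1 := by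
  let e : (Fin 2 → (Fin (k + 1) → F)) ≃ₗ[F] (Fin (k + 1) → (Fin 2 → F)) :=
    { toFun := fun f i j => f j i
      invFun := fun f i j => f j i
      left_inv := fun f => rfl
      right_inv := fun f => rfl
      map_add' := fun f g => rfl
      map_smul' := fun a f => rfl }
  have h1 : shift F (Fin 2 → F) k = (e : _ →ₗ[F] _) ∘ₗ
      (LinearMap.pi fun j : Fin 2 => (shift F F k).comp (LinearMap.proj j)) ∘ₗ
      (e.symm : _ →ₗ[F] _) := by
    apply LinearMap.ext; intro f; funext i j
    rfl
  rw [h1, LinearMap.det_conj, LinearMap.det_pi, Fin.prod_univ_two, ← pow_two]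
  exact det_shift_sq k

theorem sum_fin_val : ∑ i : Fin (k + 1), (i : ℕ) = k * (k + 1) / 2 := by
  rw [Fin.sum_univ_eq_sum_range (fun i => i) (k + 1), Finset.sum_range_id]
  simp [mul_comm]

theorem isComm_scalar_construct (K T : Module.End F W) (a : F)
    (hKT : ∀ w, T (K w) = a ^ (k + 1) • K (T w))
    (hP : LinearMap.det (shift F W k) = 1) (hK : LinearMap.det K = 1)
    (hX : a ^ (finrank F W * (k * (k + 1) / 2)) * LinearMap.det T ^ (k + 1) = 1)
    (S : Module.End F (Fin (k + 1) → W)) (hS : ∀ x, S x = a • x) : IsComm S := by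
  let X : Module.End F (Fin (k + 1) → W) :=
    LinearMap.pi fun i : Fin (k + 1) => (a ^ (i : ℕ) • T).comp (LinearMap.proj i)
  let D₀ : Module.End F (Fin (k + 1) → W) :=
    LinearMap.pi fun i : Fin (k + 1) => (if i = 0 then K else LinearMap.id).comp (LinearMap.proj i)
  refine isComm_of_end S X (D₀ ∘ₗ shift F W k) ?_ ?_ ?_
  · rw [LinearMap.det_pi]
    simp only [LinearMap.det_smul]
    rw [Finset.prod_mul_distrib, Finset.prod_const, Finset.card_univ, Fintype.card_fin]
    have : ∏ i : Fin (k + 1), (a ^ (i : ℕ)) ^ finrank F W = a ^ (finrank F W * (k * (k + 1) / 2)) := by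
      simp only [← pow_mul]
      rw [Finset.prod_pow_eq_pow_sum, ← Finset.sum_mul, sum_fin_val, mul_comm]
    rw [this, hX]
  · rw [LinearMap.det_comp, hP, mul_one, LinearMap.det_pi]
    have : ∀ i : Fin (k + 1), LinearMap.det (if i = 0 then K else LinearMap.id) = 1 := by
      intro i
      split_ifs
      · exact hK
      · exact LinearMap.det_id
    simp only [this, Finset.prod_const_one]
  · intro z
    rw [hS]
    funext i
    simp only [X, D₀, LinearMap.comp_apply, LinearMap.pi_apply, LinearMap.proj_apply,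
      LinearMap.smul_apply, shift_apply, Pi.smul_apply]
    by_cases hi : i = 0
    · subst hi
      have h1 : ((0 - 1 : Fin (k + 1)) : ℕ) = k := by
        rw [Fin.coe_sub_one]; simp
      rw [if_pos rfl, hKT, h1]
      simp only [Fin.val_zero, pow_zero, map_smul, smul_smul]
      rw [one_mul, ← pow_succ']
    · have h1 : ((i - 1 : Fin (k + 1)) : ℕ) = (i : ℕ) - 1 := by
        rw [Fin.coe_sub_one, if_neg hi]
      have h2 : 0 < (i : ℕ) := Fin.pos_iff_ne_zero.2 hi
      obtain ⟨j, hj⟩ : ∃ j, (i : ℕ) = j + 1 := ⟨(i : ℕ) - 1, by omega⟩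
      rw [if_neg hi, h1, hj]
      simp only [LinearMap.id_apply, Nat.add_sub_cancel, smul_smul]
      rw [← pow_succ']

end Shift

section Main

variable {F : Type*} [Field F] [Finite F] {V : Type*} [AddCommGroup V] [Module F V]
  [FiniteDimensional F V]

theorem pow_triangle (a : F) (k : ℕ) : a ^ (2 * (k * (k + 1) / 2)) = (a ^ (k + 1)) ^ k := by
  have h : 2 * (k * (k + 1) / 2) = (k + 1) * k := by
    rw [Nat.mul_div_cancel' (Nat.even_mul_succ_self k).two_dvd, mul_comm]
  rw [h, pow_mul]

theorem isComm_scalar (hk : 1 ≤ finrank F V) (S : Module.End F V) (a : F) (hS : ∀ x, S x = a • x)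
    (hdet : LinearMap.det S = 1) : IsComm S := by
  have hdet' : a ^ finrank F V = 1 := by rw [← (det_scalar S a hS).1, hdet]
  rcases Nat.even_or_odd (finrank F V) with he | ho
  · obtain ⟨m, hm⟩ := he
    obtain ⟨k, rfl⟩ : ∃ k, m = k + 1 := ⟨m - 1, by omega⟩
    have hdim : finrank F V = finrank F (Fin (k + 1) → (Fin 2 → F)) := by
      rw [Module.finrank_pi_fintype]
      simp [hm]
      ring
    let e : (Fin (k + 1) → (Fin 2 → F)) ≃ₗ[F] V := (LinearEquiv.ofFinrankEq _ _ hdim).symm
    refine IsComm.congr e (a • LinearMap.id) S (fun x => by rw [hS]; simp) ?_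
    have hsq : (a ^ (k + 1)) ^ 2 = 1 := by
      rw [← pow_mul, mul_two, ← hm, hdet']
    have hpm : (a ^ (k + 1) - 1) * (a ^ (k + 1) + 1) = 0 := by linear_combination hsq
    rcases mul_eq_zero.1 hpm with h1 | h1
    · have h2 : a ^ (k + 1) = 1 := sub_eq_zero.1 h1
      refine isComm_scalar_construct k (W := Fin 2 → F) 1 1 a ?_ (det_shift_two k) LinearMap.det_id ?_ _
        (fun x => rfl)
      · intro w
        rw [h2, one_smul]
      · have : LinearMap.det (1 : Module.End F (Fin 2 → F)) = 1 := LinearMap.det_id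
        rw [this, one_pow, mul_one, finrank_fintype_fun_eq_card, Fintype.card_fin, pow_triangle, h2,
          one_pow]
    · have h2 : a ^ (k + 1) = -1 := eq_neg_of_add_eq_zero_left h1
      obtain ⟨b, c, hbc⟩ := exists_sq_add_mul_sq 1 a one_ne_zero
      refine isComm_scalar_construct k (W := Fin 2 → F) (Matrix.toLin' !![0, -1; 1, 0])
        (Matrix.toLin' !![b, c; c, -b]) a ?_ (det_shift_two k) ?_ ?_ _ (fun x => rfl)
      · intro w
        rw [h2]
        funext i
        fin_cases i
        · simp [Matrix.toLin'_apply, Matrix.mulVec, dotProduct, Fin.sum_univ_two]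
          ring
        · simp [Matrix.toLin'_apply, Matrix.mulVec, dotProduct, Fin.sum_univ_two]
      · rw [LinearMap.det_toLin', Matrix.det_fin_two]
        simp
      · rw [LinearMap.det_toLin', Matrix.det_fin_two, finrank_fintype_fun_eq_card, Fintype.card_fin,
          pow_triangle, h2]
        have h3 : (!![b, c; c, -b] : Matrix (Fin 2) (Fin 2) F) 0 0 *
            (!![b, c; c, -b] : Matrix (Fin 2) (Fin 2) F) 1 1 -
            (!![b, c; c, -b] : Matrix (Fin 2) (Fin 2) F) 0 1 *
            (!![b, c; c, -b] : Matrix (Fin 2) (Fin 2) F) 1 0 = -a := by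
          simp only [Matrix.of_apply, Matrix.cons_val', Matrix.cons_val_zero, Matrix.cons_val_one,
            Matrix.cons_val_fin_one]
          linear_combination -hbc
        rw [h3, neg_pow a, h2, ← mul_assoc, ← pow_add]
        have : k + (k + 1) = 2 * k + 1 := by ring
        rw [this, pow_succ, pow_mul]
        simp
  · obtain ⟨m, hm⟩ := ho
    have hdim : finrank F V = finrank F (Fin (2 * m + 1) → F) := by
      rw [hm]; simp
    let e : (Fin (2 * m + 1) → F) ≃ₗ[F] V := (LinearEquiv.ofFinrankEq _ _ hdim).symm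
    refine IsComm.congr e (a • LinearMap.id) S (fun x => by rw [hS]; simp) ?_
    have h2 : a ^ (2 * m + 1) = 1 := by rw [← hm, hdet']
    refine isComm_scalar_construct (2 * m) (W := F) 1 1 a ?_ (det_shift_odd (2 * m) (even_two_mul m))
      LinearMap.det_id ?_ _ (fun x => rfl)
    · intro w
      rw [h2, one_smul]
    · have h3 : LinearMap.det (1 : Module.End F F) = 1 := LinearMap.det_id
      have h4 : 2 * m * (2 * m + 1) / 2 = (2 * m + 1) * m := by
        rw [mul_assoc, Nat.mul_div_cancel_left _ (by norm_num), mul_comm]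
      rw [h3, one_pow, mul_one, finrank_self, one_mul, h4, pow_mul, h2, one_pow]

/-- dimension two, at least four elements -/
theorem isComm_dim2 (hq : 4 ≤ Nat.card F) (hk : finrank F V = 2) (S : Module.End F V)
    (hns : NonScalar S) (hdet : LinearMap.det S = 1) : IsComm S := by
  classical
  obtain ⟨b, hb0, hb1, hb2⟩ : ∃ b : F, b ≠ 0 ∧ b ≠ 1 ∧ b ≠ -1 := by
    by_contra hcon
    push Not at hcon
    have h1 : (Set.univ : Set F) ⊆ {0, 1, -1} := by
      intro t _
      by_cases h : t = 0
      · exact Or.inl h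
      · by_cases h' : t = 1
        · exact Or.inr (Or.inl h')
        · exact Or.inr (Or.inr (hcon t h h'))
    have h2 := Set.ncard_le_ncard h1 (Set.toFinite _)
    have h3 := Set.ncard_insert_le (0 : F) {1, -1}
    have h4 := Set.ncard_insert_le (1 : F) {-1}
    rw [Set.ncard_singleton] at h4
    rw [Set.ncard_univ] at h2
    omega
  have hbb : b ≠ b⁻¹ := by
    intro h
    have h1 : b * b = 1 := by nth_rewrite 2 [h]; exact mul_inv_cancel₀ hb0
    have h2 : (b - 1) * (b + 1) = 0 := by linear_combination h1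
    rcases mul_eq_zero.1 h2 with h3 | h3
    · exact hb1 (sub_eq_zero.1 h3)
    · exact hb2 (eq_neg_of_add_eq_zero_left h3)
  obtain ⟨v, hli⟩ := exists_noneigen S hns
  let bas : Basis (Fin 2) F V := basisOfLinearIndependentOfCardEqFinrank hli (by rw [hk]; rfl)
  let φ : V →ₗ[F] F := bas.constr F ![1, 1]
  have hv0 : bas 0 = v := by simp [bas]
  have hv1 : bas 1 = S v := by simp [bas]
  have hv : φ v = 1 := by rw [← hv0, bas.constr_basis]; rfl
  have hSv : φ (S v) = 1 := by rw [← hv1, bas.constr_basis]; rfl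
  have hk' := finrank_ker_functional φ v hv
  have hk1 : finrank F (LinearMap.ker φ) = 1 := by omega
  obtain ⟨w₀, hw₀, hw⟩ := finrank_eq_one_iff'.1 hk1
  have hT : ∀ w, schur S φ v hSv w = w := by
    obtain ⟨t, ht⟩ := hw (schur S φ v hSv w₀)
    have h1 : ∀ w, schur S φ v hSv w = t • w := by
      intro w
      obtain ⟨s, rfl⟩ := hw w
      rw [map_smul, ← ht, smul_comm]
    have h2 := (det_scalar _ t h1).1
    rw [det_schur S φ v hv hSv, hdet, hk1, pow_one] at h2
    intro w
    rw [h1, ← h2, one_smul]
  obtain ⟨B, D, L⟩ := exists_lift S φ v hv hSv b (b⁻¹ • LinearMap.id) (b⁻¹ • LinearMap.id)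
    (fun w => hT _)
  have hB' : ∀ (p : F[X]) (w : LinearMap.ker φ),
      aeval (b⁻¹ • LinearMap.id : Module.End F (LinearMap.ker φ)) p w = p.eval b⁻¹ • w := by
    intro p w
    have h1 := aeval_intertwine (A := algebraMap F (Module.End F F) b⁻¹)
      (B := (b⁻¹ • LinearMap.id : Module.End F (LinearMap.ker φ)))
      (LinearMap.toSpanSingleton F (LinearMap.ker φ) w) (by
        intro y
        simp only [LinearMap.toSpanSingleton_apply, Module.algebraMap_end_apply, smul_eq_mul,
          LinearMap.smul_apply, LinearMap.id_apply]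
        rw [mul_smul]) p 1
    rw [aeval_scalar] at h1
    simpa using h1.symm
  have hcop : IsCoprime (X - C b : F[X]) (X - C b⁻¹) := by
    rw [(prime_X_sub_C b).irreducible.coprime_iff_not_dvd, dvd_iff_isRoot, IsRoot, eval_sub, eval_X,
      eval_C, sub_eq_zero]
    exact hbb
  have hkill : ∀ w, aeval (b⁻¹ • LinearMap.id : Module.End F (LinearMap.ker φ)) (X - C b⁻¹) w = 0 := by
    intro w
    rw [hB', eval_sub, eval_X, eval_C, sub_self, zero_smul]
  have hmon : ((X - C b) * (X - C b⁻¹) : F[X]).Monic := (monic_X_sub_C b).mul (monic_X_sub_C b⁻¹)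
  have hdvd' : ∀ p : F[X],
      (∀ w, aeval (b⁻¹ • LinearMap.id : Module.End F (LinearMap.ker φ)) p w = 0) → (X - C b⁻¹) ∣ p := by
    intro p hp
    rw [dvd_iff_isRoot]
    have := hp w₀
    rw [hB'] at this
    exact (smul_eq_zero.1 this).resolve_right hw₀
  have hmin : ∀ A : Module.End F V, (∀ x, aeval A ((X - C b) * (X - C b⁻¹)) x = 0) →
      (∀ p : F[X], (∀ x, aeval A p x = 0) → (X - C b⁻¹) ∣ p) →
      (∀ p : F[X], (∀ x, aeval A p x = 0) → p.eval b = 0) →
      minpoly F A = (X - C b) * (X - C b⁻¹) := by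
    intro A h1 h2 h3
    have hm : (minpoly F A).Monic := minpoly.monic (Algebra.IsIntegral.isIntegral A)
    apply eq_of_monic_of_associated hm hmon
    apply associated_of_dvd_dvd
    · exact minpoly.dvd F A (LinearMap.ext h1)
    · have h4 : ∀ x, aeval A (minpoly F A) x = 0 := fun x => by rw [minpoly.aeval]; rfl
      exact hcop.mul_dvd (dvd_iff_isRoot.2 (h3 _ h4)) (h2 _ h4)
  have hmB := hmin B (L.ann_B _ hkill) (L.dvd_B _ hdvd') L.root_B
  have hmD := hmin D (L.ann_D _ hkill) (L.dvd_D _ hdvd') L.root_D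
  have hdeg : ((X - C b) * (X - C b⁻¹) : F[X]).natDegree = finrank F V := by
    rw [(monic_X_sub_C b).natDegree_mul (monic_X_sub_C _), natDegree_X_sub_C, natDegree_X_sub_C, hk]
  refine isComm_of_cyclic S B D _ hmB hmD hdeg L.sd ?_ ?_
  · rw [hk, coeff_zero_eq_eval_zero, eval_mul, eval_sub, eval_sub, eval_X, eval_C, eval_C]
    simp [hb0]
  · intro t ht
    refine exists_centralizer_det D b (X - C b⁻¹) (L.ann_D _ hkill) ?_ ?_ t ht
    · intro h
      have h1 := minpoly.dvd F D h
      rw [hmD] at h1
      have h2 := natDegree_le_of_dvd h1 (monic_X_sub_C _).ne_zero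
      rw [hdeg, hk, natDegree_X_sub_C] at h2
      omega
    · rw [eval_sub, eval_X, eval_C, sub_ne_zero]
      exact hbb

/-- Thompson's theorem for endomorphisms of determinant one -/
theorem isComm_main {F : Type u} [Field F] [Finite F] (V : Type w) [AddCommGroup V] [Module F V]
    [FiniteDimensional F V] (hk : 2 ≤ finrank F V) (hex : finrank F V = 2 → 4 ≤ Nat.card F)
    (S : Module.End F V) (hdet : LinearMap.det S = 1) : IsComm S := by
  by_cases hns : NonScalar S
  · rcases Nat.lt_or_ge (finrank F V) 3 with h2 | h3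
    · have h2' : finrank F V = 2 := by omega
      exact isComm_dim2 (hex h2') h2' S hns hdet
    · obtain ⟨e, he, hb⟩ := exists_good.{u, w} F
      rcases Nat.lt_or_ge (finrank F (LinearMap.range (S - 1))) 2 with hR | hR
      · obtain ⟨x, ψ, hψ⟩ := exists_rank_one (S - 1) (by omega)
        have hS : ∀ y, S y = y + ψ y • x := by
          intro y
          rw [← hψ]; simp
        have hψx : ψ x = 0 := by
          have h1 : S = LinearMap.transvection ψ x := by
            apply LinearMap.ext; intro y
            rw [LinearMap.transvection.apply, hS]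
          rw [h1, LinearMap.transvection.det] at hdet
          linear_combination hdet
        exact isComm_transvection h3 S x ψ hψx hS
      · rcases Nat.lt_or_ge (finrank F V) 4 with h4 | h4
        · exact isComm_dim3 e he hb V S (by omega) hdet hns hR
        · rcases Nat.lt_or_ge (finrank F (LinearMap.range (S - 1))) 3 with hR3 | hR3
          · exact isComm_rank2' (finrank F V - 4) V S (by omega) hdet (by omega)
          · exact isComm_rank3 e he hb V S h4 hdet hns hR3
  · unfold NonScalar at hns
    push Not at hns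
    obtain ⟨a, ha⟩ := hns
    exact isComm_scalar (by omega) S a ha hdet

end Main

end Cfsg.Agent.H141.Ore
end

-- part: S2444
section
set_option autoImplicit false
open Cfsg

namespace Cfsg.Agent.S2444

/-- In the special linear group SL(n,F) over a finite field F, with n ≥ 2 and (n, |F|) not (2,2) or (2,3), every element is a commutator a·b·a⁻¹·b⁻¹ of two elements of SL(n,F). -/
theorem result {F : Type*} [Field F] [Fintype F] (n : ℕ) (hn : 2 ≤ n) (hex : n = 2 → 4 ≤ Fintype.card F) :
    ∀ g : Matrix.SpecialLinearGroup (Fin n) F, ∃ a b : Matrix.SpecialLinearGroup (Fin n) F, g = a * b * a⁻¹ * b⁻¹ := by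
  intro g
  have hdet : LinearMap.det (Matrix.toLin' (g : Matrix (Fin n) (Fin n) F)) = 1 := by
    rw [LinearMap.det_toLin', g.det_coe]
  obtain ⟨X, D, hX, hD, hXD⟩ := Cfsg.Agent.H141.Ore.isComm_main (F := F) (Fin n → F)
    (by simpa using hn) (by
      intro h
      rw [Nat.card_eq_fintype_card]
      exact hex (by simpa using h)) _ hdet
  have key : ∀ Y : (Fin n → F) ≃ₗ[F] (Fin n → F), LinearMap.det (Y : (Fin n → F) →ₗ[F] _) = 1 →
      ∃ a : Matrix.SpecialLinearGroup (Fin n) F,
        Matrix.toLin' (a : Matrix (Fin n) (Fin n) F) = (Y : (Fin n → F) →ₗ[F] _) := by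
    intro Y hY
    refine ⟨⟨LinearMap.toMatrix' (Y : (Fin n → F) →ₗ[F] _), ?_⟩, ?_⟩
    · rw [LinearMap.det_toMatrix', hY]
    · exact Matrix.toLin'_toMatrix' _
  obtain ⟨a, ha⟩ := key X hX
  obtain ⟨b, hb⟩ := key D hD
  refine ⟨a, b, ?_⟩
  rw [eq_mul_inv_iff_mul_eq, eq_mul_inv_iff_mul_eq]
  apply Subtype.ext
  apply Matrix.toLin'.injective
  rw [Matrix.SpecialLinearGroup.coe_mul, Matrix.SpecialLinearGroup.coe_mul,
    Matrix.SpecialLinearGroup.coe_mul, Matrix.toLin'_mul, Matrix.toLin'_mul, Matrix.toLin'_mul, ha, hb]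
  apply LinearMap.ext
  intro x
  simp only [LinearMap.comp_apply, LinearEquiv.coe_coe]
  rw [hXD, LinearEquiv.symm_apply_apply, LinearEquiv.symm_apply_apply]

end Cfsg.Agent.S2444
end
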