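import Cfsg.Agent.H190.E6.Joint
import Cfsg.Agent.H224.E8T3b
import Mathlib
import Cfsg.Agent.H189.ExcLift
import Cfsg.Agent.H190.Act
import Cfsg.Agent.H190.Start
import Cfsg.Agent.H186.ExcClass
import Cfsg.Agent.H186.FusEmb
import Cfsg.Statements.S2654
set_option linter.all false

-- part: H189/T3aLemma
section
/-!
# Integer matrices of size 8: no two "commuting" Heisenberg triples for the prime 3

`two_heis`: if `h g = A g h`, `h' g' = B g' h'`, with `A, B` commuting with everything and the two pairs commuting, all of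
order dividing 3, then `A = 1` or `B = 1`.
-/

set_option autoImplicit false

namespace Cfsg.Agent.H189.T3a

open Cfsg.Agent.H190.E6 Module Matrix

theorem comb9a : ∀ c0 c1 : ZMod 3,
    (({![c0, c1, 0, 0], ![c0, c1, 0, 1], ![c0, c1, 0, 2], ![c0, c1, 1, 0], ![c0, c1, 1, 1], ![c0, c1, 1, 2],
      ![c0, c1, 2, 0], ![c0, c1, 2, 1], ![c0, c1, 2, 2]} : Finset (Fin 4 → ZMod 3))).card = 9 := by decide +kernel

theorem comb9b : ∀ c0 c3 d1 d2 : ZMod 3, c0 ≠ 0 → d1 ≠ 0 →
    (({![c0, 0, 0, c3], ![c0, 0, 1, c3], ![c0, 0, 2, c3], ![-c0, 0, 0, -c3], ![-c0, 0, 1, -c3], ![-c0, 0, 2, -c3],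
      ![0, d1, d2, 0], ![0, d1, d2, 1], ![0, d1, d2, 2]} : Finset (Fin 4 → ZMod 3))).card = 9 := by decide +kernel

theorem eta4 (c : Fin 4 → ZMod 3) : c = ![c 0, c 1, c 2, c 3] := by
  funext i
  fin_cases i <;> rfl

theorem z3 : ∀ a b t : ZMod 3, a ≠ 0 → t = b ∨ t = b - a ∨ t = b - a - a := by decide +kernel

theorem comb {Z : Finset (Fin 4 → ZMod 3)} (hcard : Z.card ≤ 8)
    (h1 : ∀ a b c d, ![a, b, c, d] ∈ Z → ![a, b, c - a, d] ∈ Z)
    (h2 : ∀ a b c d, ![a, b, c, d] ∈ Z → ![a, b, c, d - b] ∈ Z)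
    (h3 : ∀ a b c d, ![a, b, c, d] ∈ Z → ![-a, -b, -c, -d] ∈ Z)
    (ha : ∃ c ∈ Z, c 0 ≠ 0) (hb : ∃ c ∈ Z, c 1 ≠ 0) : False := by
  have e1 : ∀ a b c d, a ≠ 0 → ![a, b, c, d] ∈ Z → ∀ t, ![a, b, t, d] ∈ Z := by
    intro a b c d ha0 h t
    rcases z3 a c t ha0 with rfl | rfl | rfl
    · exact h
    · exact h1 _ _ _ _ h
    · exact h1 _ _ _ _ (h1 _ _ _ _ h)
  have e2 : ∀ a b c d, b ≠ 0 → ![a, b, c, d] ∈ Z → ∀ t, ![a, b, c, t] ∈ Z := by
    intro a b c d hb0 h t
    rcases z3 b d t hb0 with rfl | rfl | rfl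
    · exact h
    · exact h2 _ _ _ _ h
    · exact h2 _ _ _ _ (h2 _ _ _ _ h)
  have both : ∀ a b c d, ![a, b, c, d] ∈ Z → a = 0 ∨ b = 0 := by
    intro a b c d h
    by_contra hn
    push Not at hn
    have hall : ∀ s t, ![a, b, s, t] ∈ Z := fun s t => e2 _ _ _ _ hn.2 (e1 _ _ _ _ hn.1 h s) t
    have hsub : ({![a, b, 0, 0], ![a, b, 0, 1], ![a, b, 0, 2], ![a, b, 1, 0], ![a, b, 1, 1], ![a, b, 1, 2],
        ![a, b, 2, 0], ![a, b, 2, 1], ![a, b, 2, 2]} : Finset (Fin 4 → ZMod 3)) ⊆ Z := by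
      intro x hx
      simp only [Finset.mem_insert, Finset.mem_singleton] at hx
      rcases hx with rfl | rfl | rfl | rfl | rfl | rfl | rfl | rfl | rfl <;> exact hall _ _
    have := Finset.card_le_card hsub
    rw [comb9a] at this
    omega
  obtain ⟨c, hc, hc0⟩ := ha
  obtain ⟨d, hd, hd1⟩ := hb
  rw [eta4 c] at hc
  rw [eta4 d] at hd
  have hc1 := (both _ _ _ _ hc).resolve_left hc0
  have hd0 := (both _ _ _ _ hd).resolve_right hd1
  rw [hc1] at hc
  rw [hd0] at hd
  have hc' := h3 _ _ _ _ hc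
  rw [neg_zero] at hc'
  have f1 := e1 _ _ _ _ hc0 hc
  have f2 := e1 _ _ _ _ (neg_ne_zero.2 hc0) hc'
  have f3 := e2 _ _ _ _ hd1 hd
  have hsub : ({![c 0, 0, 0, c 3], ![c 0, 0, 1, c 3], ![c 0, 0, 2, c 3], ![-c 0, 0, 0, -c 3], ![-c 0, 0, 1, -c 3],
      ![-c 0, 0, 2, -c 3], ![0, d 1, d 2, 0], ![0, d 1, d 2, 1], ![0, d 1, d 2, 2]} : Finset (Fin 4 → ZMod 3)) ⊆ Z := by
    intro x hx
    simp only [Finset.mem_insert, Finset.mem_singleton] at hx
    rcases hx with rfl | rfl | rfl | rfl | rfl | rfl | rfl | rfl | rfl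
    · exact f1 _
    · exact f1 _
    · exact f1 _
    · exact f2 _
    · exact f2 _
    · exact f2 _
    · exact f3 _
    · exact f3 _
    · exact f3 _
  have := Finset.card_le_card hsub
  rw [comb9b _ _ _ _ hc0 hd1] at this
  omega

/-- complexification of integer matrices -/
noncomputable def cm : Matrix (Fin 8) (Fin 8) ℤ →+* Matrix (Fin 8) (Fin 8) ℂ := (Int.castRingHom ℂ).mapMatrix

theorem cm_injective : Function.Injective cm := by
  intro A B h
  ext i j
  exact Int.cast_injective (α := ℂ) (congrFun (congrFun h i) j)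

theorem cm_star (A : Matrix (Fin 8) (Fin 8) ℤ) (v : Fin 8 → ℂ) : cm A *ᵥ star v = star (cm A *ᵥ v) := by
  funext i
  simp only [mulVec, dotProduct, Pi.star_apply, star_sum, star_mul']
  refine Finset.sum_congr rfl fun j _ => ?_
  congr 1
  show ((A i j : ℤ) : ℂ) = star ((A i j : ℤ) : ℂ)
  simp

variable {A g h B g' h' : Matrix (Fin 8) (Fin 8) ℤ}

theorem two_heis (hA3 : A ^ 3 = 1) (hB3 : B ^ 3 = 1) (hg3 : g ^ 3 = 1) (hg3' : g' ^ 3 = 1)
    (hh : ∃ x, x * h = 1) (hh' : ∃ x, x * h' = 1) (hAB : A * B = B * A) (hAg : A * g = g * A) (hAg' : A * g' = g' * A)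
    (hBg : B * g = g * B) (hBg' : B * g' = g' * B) (hgg' : g * g' = g' * g)
    (hAh : A * h = h * A) (hBh : B * h = h * B) (hg'h : g' * h = h * g')
    (hAh' : A * h' = h' * A) (hBh' : B * h' = h' * B) (hgh' : g * h' = h' * g)
    (hrel : h * g = A * g * h) (hrel' : h' * g' = B * g' * h') : A = 1 ∨ B = 1 := by
  classical
  by_contra hn
  push Not at hn
  obtain ⟨ω, hω⟩ : ∃ ω : ℂ, IsPrimitiveRoot ω 3 := ⟨_, Complex.isPrimitiveRoot_exp 3 (by norm_num)⟩
  have hω0 : ω ≠ 0 := hω.ne_zero (by norm_num)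
  let T : Fin 4 → Module.End ℂ (Fin 8 → ℂ) := ![(cm A).mulVecLin, (cm B).mulVecLin, (cm g).mulVecLin, (cm g').mulVecLin]
  have hpow : ∀ M : Matrix (Fin 8) (Fin 8) ℤ, M ^ 3 = 1 → ((cm M).mulVecLin : Module.End ℂ (Fin 8 → ℂ)) ^ 3 = 1 := by
    intro M hM
    rw [pow_three, Module.End.mul_eq_comp, Module.End.mul_eq_comp, ← mulVecLin_mul, ← mulVecLin_mul, ← map_mul, ← map_mul,
      ← pow_three, hM, map_one, mulVecLin_one]
    rfl
  have hcom : ∀ M N : Matrix (Fin 8) (Fin 8) ℤ, M * N = N * M → Commute ((cm M).mulVecLin : Module.End ℂ (Fin 8 → ℂ))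
      (cm N).mulVecLin := by
    intro M N h
    show _ * _ = _ * _
    rw [Module.End.mul_eq_comp, Module.End.mul_eq_comp, ← mulVecLin_mul, ← mulVecLin_mul, ← map_mul, ← map_mul, h]
  have hT : ∀ i, T i ^ 3 = 1 := by
    intro i
    fin_cases i
    · exact hpow A hA3
    · exact hpow B hB3
    · exact hpow g hg3
    · exact hpow g' hg3'
  have hc : ∀ i j, Commute (T i) (T j) := by
    have key : ∀ i j : Fin 4, ![A, B, g, g'] i * ![A, B, g, g'] j = ![A, B, g, g'] j * ![A, B, g, g'] i := by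
      intro i j
      fin_cases i <;> fin_cases j <;> simp <;> first | assumption | (symm; assumption)
    have hTi : ∀ i, T i = (cm (![A, B, g, g'] i)).mulVecLin := by
      intro i
      fin_cases i <;> rfl
    intro i j
    rw [hTi, hTi]
    exact hcom _ _ (key i j)
  have hn3 : ((3 : ℕ) : ℂ) ≠ 0 := by norm_num
  have hind := indep_J (n := 3) hω hn3 hT hc
  have hsup := iSup_J (n := 3) hω hn3 hT hc
  let Z : Finset (Fin 4 → ZMod 3) := Finset.univ.filter fun c => J ω T c ≠ ⊥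
  have hZ : Z.card ≤ 8 := by
    have h1 := hind.subtype_ne_bot_le_finrank
    rw [Module.finrank_fin_fun, Fintype.card_subtype] at h1
    exact h1
  have hmem : ∀ c, c ∈ Z ↔ ∃ v, v ≠ 0 ∧ v ∈ J ω T c := by
    intro c
    rw [Finset.mem_filter, Submodule.ne_bot_iff]
    constructor
    · rintro ⟨-, v, hv, hv0⟩; exact ⟨v, hv0, hv⟩
    · rintro ⟨v, hv0, hv⟩; exact ⟨Finset.mem_univ _, v, hv, hv0⟩
  have hJ : ∀ (a b c d : ZMod 3) (v : Fin 8 → ℂ), v ∈ J ω T ![a, b, c, d] ↔ cm A *ᵥ v = ω ^ a.val • v ∧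
      cm B *ᵥ v = ω ^ b.val • v ∧ cm g *ᵥ v = ω ^ c.val • v ∧ cm g' *ᵥ v = ω ^ d.val • v := by
    intro a b c d v
    rw [mem_J]
    constructor
    · intro H; exact ⟨H 0, H 1, H 2, H 3⟩
    · rintro ⟨H0, H1, H2, H3⟩ i
      fin_cases i
      · exact H0
      · exact H1
      · exact H2
      · exact H3
  have hadd : ∀ a b : ZMod 3, ω ^ (a + b).val = ω ^ a.val * ω ^ b.val := by
    intro a b
    rw [ZMod.val_add, ← pow_add, ← pow_eq_pow_mod _ hω.pow_eq_one]
  have hωn : ∀ a : ZMod 3, ω ^ a.val ≠ 0 := fun a => pow_ne_zero _ hω0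
  -- the key computation
  have step : ∀ (M N H : Matrix (Fin 8) (Fin 8) ℤ) (a c : ZMod 3) (v : Fin 8 → ℂ), M * H = H * M → M * N = N * M →
      H * N = M * N * H → cm M *ᵥ v = ω ^ a.val • v → cm N *ᵥ v = ω ^ c.val • v →
      cm N *ᵥ (cm H *ᵥ v) = ω ^ (c - a).val • (cm H *ᵥ v) := by
    intro M N H a c v hMH hMN hr hM hN
    have e1 : cm (M * N * H) *ᵥ v = ω ^ c.val • (cm H *ᵥ v) := by
      rw [← hr, map_mul, ← mulVec_mulVec, hN, mulVec_smul]
    have e2 : cm (M * N * H) *ᵥ v = ω ^ a.val • (cm N *ᵥ (cm H *ᵥ v)) := by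
      rw [hMN, Matrix.mul_assoc, hMH, ← Matrix.mul_assoc, map_mul, map_mul, ← mulVec_mulVec, hM, mulVec_smul,
        ← mulVec_mulVec]
    have e3 : ω ^ a.val • (cm N *ᵥ (cm H *ᵥ v)) = ω ^ a.val • (ω ^ (c - a).val • (cm H *ᵥ v)) := by
      rw [← e2, e1, smul_smul, ← hadd, add_sub_cancel]
    exact smul_right_injective _ (hωn a) e3
  have comm : ∀ (M H : Matrix (Fin 8) (Fin 8) ℤ) (a : ZMod 3) (v : Fin 8 → ℂ), M * H = H * M →
      cm M *ᵥ v = ω ^ a.val • v → cm M *ᵥ (cm H *ᵥ v) = ω ^ a.val • (cm H *ᵥ v) := by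
    intro M H a v hMH hM
    rw [mulVec_mulVec, ← map_mul, hMH, map_mul, ← mulVec_mulVec, hM, mulVec_smul]
  have nz : ∀ (H : Matrix (Fin 8) (Fin 8) ℤ) (v : Fin 8 → ℂ), (∃ x, x * H = 1) → v ≠ 0 → cm H *ᵥ v ≠ 0 := by
    rintro H v ⟨x, hx⟩ hv h0
    apply hv
    have := congrArg (fun w => cm x *ᵥ w) h0
    simp only [mulVec_mulVec, mulVec_zero] at this
    rwa [← map_mul, hx, map_one, one_mulVec] at this
  have key1 : ∀ a b c d, ![a, b, c, d] ∈ Z → ![a, b, c - a, d] ∈ Z := by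
    intro a b c d hz
    obtain ⟨v, hv0, hv⟩ := (hmem _).1 hz
    obtain ⟨k0, k1, k2, k3⟩ := (hJ _ _ _ _ _).1 hv
    exact (hmem _).2 ⟨cm h *ᵥ v, nz h v hh hv0, (hJ _ _ _ _ _).2
      ⟨comm _ _ _ _ hAh k0, comm _ _ _ _ hBh k1, step A g h a c v hAh hAg hrel k0 k2, comm _ _ _ _ hg'h k3⟩⟩
  have key2 : ∀ a b c d, ![a, b, c, d] ∈ Z → ![a, b, c, d - b] ∈ Z := by
    intro a b c d hz
    obtain ⟨v, hv0, hv⟩ := (hmem _).1 hz
    obtain ⟨k0, k1, k2, k3⟩ := (hJ _ _ _ _ _).1 hv
    exact (hmem _).2 ⟨cm h' *ᵥ v, nz h' v hh' hv0, (hJ _ _ _ _ _).2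
      ⟨comm _ _ _ _ hAh' k0, comm _ _ _ _ hBh' k1, comm _ _ _ _ hgh' k2, step B g' h' b d v hBh' hBg' hrel' k1 k3⟩⟩
  have hstar : ∀ a : ZMod 3, star (ω ^ a.val) = ω ^ (-a).val := by
    intro a
    have h1 : ω ^ (-a).val * ω ^ a.val = 1 := by
      rw [← hadd, neg_add_cancel, ZMod.val_zero, pow_zero]
    have h2 : star (ω ^ a.val) * ω ^ a.val = 1 := by
      have hnorm : ‖ω ^ a.val‖ = 1 := by
        rw [norm_pow, Complex.norm_eq_one_of_pow_eq_one hω.pow_eq_one (by norm_num), one_pow]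
      rw [Complex.star_def, ← Complex.normSq_eq_conj_mul_self, Complex.normSq_eq_norm_sq, hnorm]
      norm_num
    exact mul_right_cancel₀ (hωn a) (h2.trans h1.symm)
  have key3 : ∀ a b c d, ![a, b, c, d] ∈ Z → ![-a, -b, -c, -d] ∈ Z := by
    intro a b c d hz
    obtain ⟨v, hv0, hv⟩ := (hmem _).1 hz
    obtain ⟨k0, k1, k2, k3⟩ := (hJ _ _ _ _ _).1 hv
    have aux : ∀ (M : Matrix (Fin 8) (Fin 8) ℤ) (a : ZMod 3), cm M *ᵥ v = ω ^ a.val • v →
        cm M *ᵥ star v = ω ^ (-a).val • star v := by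
      intro M a hM
      rw [cm_star, hM, star_smul, hstar]
    exact (hmem _).2 ⟨star v, fun h0 => hv0 (by rw [← star_star v, h0, star_zero]), (hJ _ _ _ _ _).2
      ⟨aux _ _ k0, aux _ _ k1, aux _ _ k2, aux _ _ k3⟩⟩
  have ex : ∀ i : Fin 4, (∀ c ∈ Z, c i = 0) → T i = 1 := by
    intro i hi
    have h1 : ∀ c : Fin 4 → ZMod 3, J ω T c ≤ (T i).eigenspace 1 := by
      intro c v hv
      rw [Module.End.mem_eigenspace_iff, one_smul]
      by_cases hv0 : v = 0
      · rw [hv0, map_zero]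
      · have h2 := hi c ((hmem c).2 ⟨v, hv0, hv⟩)
        have h3 := mem_J.1 hv i
        rwa [h2, ZMod.val_zero, pow_zero, one_smul] at h3
    have h2 := iSup_le h1
    rw [hsup, top_le_iff] at h2
    refine LinearMap.ext fun v => ?_
    have h3 : v ∈ (T i).eigenspace 1 := by rw [h2]; trivial
    rwa [Module.End.mem_eigenspace_iff, one_smul] at h3
  have one_of : ∀ M : Matrix (Fin 8) (Fin 8) ℤ, ((cm M).mulVecLin : Module.End ℂ (Fin 8 → ℂ)) = 1 → M = 1 := by
    intro M hM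
    apply cm_injective
    rw [map_one]
    ext i j
    have := congrFun (congrArg (fun f : Module.End ℂ (Fin 8 → ℂ) => f (Pi.single j 1)) hM) i
    simp only [mulVecLin_apply, mulVec_single_one, Module.End.one_apply] at this
    rw [Matrix.one_apply, ← Pi.single_apply j (1 : ℂ) i]
    exact this
  have exa : ∃ c ∈ Z, c 0 ≠ 0 := by
    by_contra hall
    push Not at hall
    exact hn.1 (one_of A (ex 0 hall))
  have exb : ∃ c ∈ Z, c 1 ≠ 0 := by
    by_contra hall
    push Not at hall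
    exact hn.2 (one_of B (ex 1 hall))
  exact comb hZ key1 key2 key3 exa exb

end Cfsg.Agent.H189.T3a
end

-- part: H189/T3aCount
section
/-!
# Weight multiplicities of the elementary abelian group `3^6` of `A₁₈`
-/

set_option autoImplicit false

namespace Cfsg.Agent.H189.T3a

open Cfsg.Agent.H190.E6 Cfsg.Agent.H224.E8 Module

section general

variable {K V ι : Type*} [Field K] [AddCommGroup V] [Module K V] [FiniteDimensional K V]

omit [FiniteDimensional K V] in
theorem iSup_single {w : K} (hw : IsPrimitiveRoot w 3) (h3 : (3 : K) ≠ 0) {T : Module.End K V} (hT : T ^ 3 = 1) :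
    ⨆ μ, T.maxGenEigenspace μ = ⊤ := by
  have hw3 : w ^ 3 = 1 := hw.pow_eq_one
  have hsum : 1 + w + w ^ 2 = 0 := by
    have h1 : (w - 1) * (1 + w + w ^ 2) = 0 := by ring_nf; rw [hw3]; ring
    rcases mul_eq_zero.1 h1 with h | h
    · exact absurd (sub_eq_zero.1 h) (hw.ne_one (by norm_num))
    · exact h
  rw [eq_top_iff]
  intro v _
  have key : ∀ a : K, a ^ 3 = 1 → (v + a ^ 2 • T v + a • T (T v)) ∈ ⨆ μ, T.maxGenEigenspace μ := by
    intro a ha
    refine (le_iSup (fun μ => T.maxGenEigenspace μ) a) ?_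
    refine Module.End.eigenspace_le_maxGenEigenspace ?_
    rw [Module.End.mem_eigenspace_iff]
    have hTTT : T (T (T v)) = v := by
      have := congrArg (fun f : Module.End K V => f v) hT
      simpa [pow_succ] using this
    rw [map_add, map_add, map_smul, map_smul, hTTT, smul_add, smul_add, smul_smul, smul_smul]
    have e1 : a * a ^ 2 = 1 := by rw [← ha]; ring
    have e2 : a * a = a ^ 2 := by ring
    rw [e1, one_smul, e2]
    abel
  have h1 := key 1 (one_pow 3)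
  have h2 := key w hw3
  have h4 := key (w ^ 2) (by rw [← pow_mul, mul_comm, pow_mul, hw3, one_pow])
  have h5 := Submodule.add_mem _ (Submodule.add_mem _ h1 h2) h4
  have e : (v + (1 : K) ^ 2 • T v + (1 : K) • T (T v)) + (v + w ^ 2 • T v + w • T (T v)) +
      (v + (w ^ 2) ^ 2 • T v + w ^ 2 • T (T v)) = (3 : K) • v := by
    have e1 : (w ^ 2) ^ 2 = w := by
      have : (w ^ 2) ^ 2 = w ^ 3 * w := by ring
      rw [this, hw3, one_mul]
    rw [e1]
    have e2 : (v + (1 : K) ^ 2 • T v + (1 : K) • T (T v)) + (v + w ^ 2 • T v + w • T (T v)) +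
      (v + w • T v + w ^ 2 • T (T v)) = (3 : K) • v + (1 + w + w ^ 2) • T v + (1 + w + w ^ 2) • T (T v) := by
      module
    rw [e2, hsum, zero_smul, zero_smul, add_zero, add_zero]
  rw [e] at h5
  have h6 := Submodule.smul_mem _ (3 : K)⁻¹ h5
  rwa [smul_smul, inv_mul_cancel₀ h3, one_smul] at h6

variable {w : K} {T : ι → Module.End K V}

theorem iSup_J3 (hw : IsPrimitiveRoot w 3) (h3 : ((3 : ℕ) : K) ≠ 0) (hT : ∀ i, T i ^ 3 = 1)
    (hc : ∀ i j, Commute (T i) (T j)) : ⨆ c, J (n := 3) w T c = ⊤ := by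
  have h1 := Module.End.iSup_iInf_maxGenEigenspace_eq_top_of_iSup_maxGenEigenspace_eq_top_of_commute T
    (fun i j _ => hc i j) (fun i => iSup_single hw (by exact_mod_cast h3) (hT i))
  rw [eq_top_iff, ← h1]
  refine iSup_le fun χ => ?_
  by_cases hbot : (⨅ i, (T i).maxGenEigenspace (χ i)) = ⊥
  · rw [hbot]; exact bot_le
  obtain ⟨v, hv, hv0⟩ := Submodule.exists_mem_ne_zero_of_ne_bot hbot
  have h2 : ∀ i, T i v = χ i • v := by
    intro i
    have h3' := (Submodule.mem_iInf _).1 hv i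
    rw [maxGen_eq h3 (hT i), Module.End.mem_eigenspace_iff] at h3'
    exact h3'
  have h3' : ∀ i, χ i ^ 3 = 1 := by
    intro i
    have h4 : ∀ m : ℕ, (T i ^ m) v = χ i ^ m • v := by
      intro m
      induction m with
      | zero => simp
      | succ m ih => rw [pow_succ', Module.End.mul_apply, ih, map_smul, h2, smul_smul, pow_succ]
    have h5 := h4 3
    rw [hT i, Module.End.one_apply] at h5
    have h6 : (1 - χ i ^ 3) • v = 0 := by rw [sub_smul, one_smul, ← h5, sub_self]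
    rcases smul_eq_zero.1 h6 with h | h
    · exact (sub_eq_zero.1 h).symm
    · exact absurd h hv0
  have h4 : ∀ i, ∃ c : ZMod 3, χ i = w ^ c.val := by
    intro i
    obtain ⟨j, hj, h5⟩ := hw.eq_pow_of_pow_eq_one (h3' i)
    refine ⟨(j : ZMod 3), ?_⟩
    rw [ZMod.val_natCast, Nat.mod_eq_of_lt hj, h5]
  choose c hc' using h4
  refine le_trans ?_ (le_iSup _ c)
  rw [J]
  refine le_of_eq (iInf_congr fun i => ?_)
  rw [maxGen_eq h3 (hT i), hc' i]

theorem sum_J3 [Fintype (ι → ZMod 3)] (hw : IsPrimitiveRoot w 3) (h3 : ((3 : ℕ) : K) ≠ 0) (hT : ∀ i, T i ^ 3 = 1)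
    (hc : ∀ i j, Commute (T i) (T j)) : ∑ c, finrank K (J (n := 3) w T c) = finrank K V := by
  classical
  have h : DirectSum.IsInternal (J (n := 3) w T) :=
    (DirectSum.isInternal_submodule_iff_iSupIndep_and_iSup_eq_top _).2 ⟨indep_J hw h3 hT hc, iSup_J3 hw h3 hT hc⟩
  have e := LinearEquiv.ofBijective (DirectSum.coeLinearMap (J (n := 3) w T)) h
  rw [← e.finrank_eq, Module.finrank_directSum]

/-- the dimension of the kernel of `e - 1` -/
theorem finrank_ker [Fintype (ι → ZMod 3)] (hw : IsPrimitiveRoot w 3) (h3 : ((3 : ℕ) : K) ≠ 0)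
    (hT : ∀ i, T i ^ 3 = 1) (hc : ∀ i j, Commute (T i) (T j)) {e : Module.End K V} (he : ∀ i, Commute (T i) e)
    (wt : (ι → ZMod 3) → ZMod 3) (hwt : ∀ c, ∀ v ∈ J w T c, e v = w ^ (wt c).val • v) :
    finrank K (e.eigenspace 1) = ∑ c, if wt c = 0 then finrank K (J (n := 3) w T c) else 0 := by
  set U := e.eigenspace (1 : K) with hU
  have hmem : ∀ v, v ∈ U ↔ e v = v := fun v => by rw [hU, Module.End.mem_eigenspace_iff, one_smul]
  have hmaps : ∀ i, ∀ v ∈ U, T i v ∈ U := by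
    intro i v hv
    rw [hmem] at hv ⊢
    have := congrArg (fun f : Module.End K V => f v) (he i).eq
    simp only [Module.End.mul_apply] at this
    rw [← this, hv]
  let T' : ι → Module.End K U := fun i => (T i).restrict (hmaps i)
  have hT'v : ∀ i (v : U), ((T' i v : U) : V) = T i v := fun i v => rfl
  have hT' : ∀ i, T' i ^ 3 = 1 := by
    intro i
    refine LinearMap.ext fun v => Subtype.ext ?_
    rw [pow_three, Module.End.mul_apply, Module.End.mul_apply, hT'v, hT'v, hT'v]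
    have := congrArg (fun f : Module.End K V => f v) (hT i)
    rw [pow_three] at this
    exact this
  have hc' : ∀ i j, Commute (T' i) (T' j) := by
    intro i j
    refine LinearMap.ext fun v => Subtype.ext ?_
    rw [Module.End.mul_apply, Module.End.mul_apply, hT'v, hT'v, hT'v, hT'v]
    exact congrArg (fun f : Module.End K V => f v) (hc i j).eq
  rw [← sum_J3 hw h3 hT' hc']
  refine Finset.sum_congr rfl fun c _ => ?_
  have hJ : J w T' c = (J w T c).comap U.subtype := by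
    ext v
    rw [Submodule.mem_comap, mem_J, mem_J]
    exact forall_congr' fun i => Subtype.ext_iff
  rw [hJ]
  split_ifs with h
  · have hle : J w T c ≤ U := by
      intro v hv
      rw [hmem, hwt c v hv, h, ZMod.val_zero, pow_zero, one_smul]
    exact (Submodule.comapSubtypeEquivOfLe hle).finrank_eq
  · have hbot : (J w T c).comap U.subtype = ⊥ := by
      rw [Submodule.eq_bot_iff]
      rintro ⟨v, hvU⟩ hv
      have h1 := hwt c v hv
      rw [(hmem v).1 hvU] at h1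
      have h2 : (w ^ (wt c).val - 1) • v = 0 := by rw [sub_smul, one_smul, ← h1, sub_self]
      rcases smul_eq_zero.1 h2 with h5 | h5
      · exfalso
        apply h
        have h6 := (hw.pow_eq_one_iff_dvd _).1 (sub_eq_zero.1 h5)
        rw [← ZMod.natCast_eq_zero_iff, ZMod.natCast_zmod_val] at h6
        exact h6
      · exact Subtype.ext h5
    rw [hbot, finrank_bot]

end general


section P18

open Equiv

/-- the pull-back of a weight -/
def pull (σ : Fin 6 → Fin 6) (e : Fin 6 → ℕ) (lam : Fin 6 → ZMod 3) : Fin 6 → ZMod 3 := fun i => e i * lam (σ i)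

/-- `t` is monomial with permutation `σ` and exponents `e` -/
def Mv (t : Perm (Fin 18)) (σ : Fin 6 → Fin 6) (e : Fin 6 → ℕ) : Prop := ∀ i, t * xp i * t⁻¹ = xp (σ i) ^ e i

theorem Mv.comp {t t' : Perm (Fin 18)} {σ σ' : Fin 6 → Fin 6} {e e' : Fin 6 → ℕ} (h : Mv t σ e) (h' : Mv t' σ' e') :
    Mv (t' * t) (fun i => σ' (σ i)) (fun i => e' (σ i) * e i) := by
  intro i
  have h1 : t' * t * xp i * (t' * t)⁻¹ = t' * (t * xp i * t⁻¹) * t'⁻¹ := by group
  rw [h1, h i, ← conj_pow, h' (σ i), ← pow_mul]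

theorem pull_comp (σ σ' : Fin 6 → Fin 6) (e e' : Fin 6 → ℕ) (lam : Fin 6 → ZMod 3) :
    pull (fun i => σ' (σ i)) (fun i => e' (σ i) * e i) lam = pull σ e (pull σ' e' lam) := by
  funext i
  unfold pull
  push_cast
  ring

/-- inversion of `x i` -/
def tinv (i : Fin 6) : Perm (Fin 18) := swap ⟨3 * i + 1, by omega⟩ ⟨3 * i + 2, by omega⟩

/-- interchange of `x i` and `x j` -/
def tsw (i j : Fin 6) : Perm (Fin 18) := swap ⟨3 * i, by omega⟩ ⟨3 * j, by omega⟩ *
  swap ⟨3 * i + 1, by omega⟩ ⟨3 * j + 1, by omega⟩ * swap ⟨3 * i + 2, by omega⟩ ⟨3 * j + 2, by omega⟩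

theorem mv_tinv : ∀ i, Mv (tinv i) (fun j => j) (fun j => if j = i then 2 else 1) := by
  unfold Mv
  decide +kernel

theorem mv_tsw : ∀ i j, Mv (tsw i j) (fun k => swap i j k) (fun _ => 1) := by
  unfold Mv
  decide +kernel

theorem sign_tinv : ∀ i, Perm.sign (tinv i) = -1 := by decide +kernel

theorem sign_tsw : ∀ i j, i ≠ j → Perm.sign (tsw i j) = -1 := by decide +kernel

/-- basic odd moves -/
inductive Basic : Perm (Fin 18) → (Fin 6 → Fin 6) → (Fin 6 → ℕ) → Prop
  | inv (i : Fin 6) : Basic (tinv i) (fun j => j) (fun j => if j = i then 2 else 1)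
  | sw (i j : Fin 6) (h : i ≠ j) : Basic (tsw i j) (fun k => swap i j k) (fun _ => 1)

theorem Basic.mv {t : Perm (Fin 18)} {σ : Fin 6 → Fin 6} {e : Fin 6 → ℕ} (h : Basic t σ e) : Mv t σ e := by
  rcases h with i | ⟨i, j, h⟩
  · exact mv_tinv i
  · exact mv_tsw i j

theorem Basic.sign {t : Perm (Fin 18)} {σ : Fin 6 → Fin 6} {e : Fin 6 → ℕ} (h : Basic t σ e) : Perm.sign t = -1 := by
  rcases h with i | ⟨i, j, h⟩
  · exact sign_tinv i
  · exact sign_tsw i j h

theorem Basic.invol {t : Perm (Fin 18)} {σ : Fin 6 → Fin 6} {e : Fin 6 → ℕ} (h : Basic t σ e)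
    (lam : Fin 6 → ZMod 3) : pull σ e (pull σ e lam) = lam := by
  funext k
  unfold pull
  rcases h with i | ⟨i, j, h⟩
  · simp only []
    split_ifs
    · rw [← mul_assoc, ← Nat.cast_mul]
      have : ((2 * 2 : ℕ) : ZMod 3) = 1 := by decide
      rw [this, one_mul]
    · simp
  · simp

theorem exists_fix (lam : Fin 6 → ZMod 3) : ∃ t σ e, Basic t σ e ∧ pull σ e lam = lam := by
  have h : ∀ lam : Fin 6 → ZMod 3, (∃ i, lam i = 0) ∨ ∃ i j, i ≠ j ∧ lam i = lam j := by decide +kernel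
  rcases h lam with ⟨i, hi⟩ | ⟨i, j, hij, h⟩
  · refine ⟨_, _, _, Basic.inv i, ?_⟩
    funext k
    show ((if k = i then 2 else 1 : ℕ) : ZMod 3) * lam k = lam k
    split_ifs with hk
    · rw [hk, hi, mul_zero]
    · rw [Nat.cast_one, one_mul]
  · refine ⟨_, _, _, Basic.sw i j hij, ?_⟩
    funext k
    show ((1 : ℕ) : ZMod 3) * lam (swap i j k) = lam k
    rw [Nat.cast_one, one_mul]
    by_cases h1 : k = i
    · rw [h1, swap_apply_left, h]
    · by_cases h2 : k = j
      · rw [h2, swap_apply_right, h]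
      · rw [swap_apply_of_ne_of_ne h1 h2]

variable {K V : Type*} [Field K] [AddCommGroup V] [Module K V] [FiniteDimensional K V]

theorem E18_le : E18 ≤ P18 := by
  rw [E18, Subgroup.closure_le]
  rintro _ ⟨i, rfl⟩
  exact x_mem i

/-- one even move -/
theorem finrank_wsp_le {w : K} (ρ : ↥P18 →* Module.End K V) (hfus : Fus ρ) {t : Perm (Fin 18)} (ht : Perm.sign t = 1)
    {σ : Fin 6 → Fin 6} {e : Fin 6 → ℕ} (hm : Mv t σ e) (lam : Fin 6 → ZMod 3) (hw : w ^ 3 = 1) :
    finrank K (wsp w ρ lam) ≤ finrank K (wsp w ρ (pull σ e lam)) := by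
  let a : ↥(alternatingGroup (Fin 18)) := ⟨t, Perm.mem_alternatingGroup.2 ht⟩
  have hax : ∀ i, a * x i * a⁻¹ = x (σ i) ^ e i := fun i => Subtype.ext (hm i)
  have hQ' : ∀ q ∈ E18, a * q * a⁻¹ ∈ P18 := by
    intro q hq
    have : E18 ≤ P18.comap (MulAut.conj a).toMonoidHom := by
      rw [E18, Subgroup.closure_le]
      rintro _ ⟨i, rfl⟩
      show a * x i * a⁻¹ ∈ P18
      rw [hax]
      exact P18.pow_mem (x_mem _) _
    exact this hq
  obtain ⟨h, hh⟩ := hfus a E18 E18_le hQ'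
  have hxE : ∀ i, x i ∈ E18 := fun i => Subgroup.subset_closure ⟨i, rfl⟩
  have hpw : ∀ (i : Fin 6) (v : V), v ∈ wsp w ρ lam → ∀ m : ℕ, ρ (xP (σ i) ^ m) v = (w ^ (lam (σ i)).val) ^ m • v := by
    intro i v hv m
    induction m with
    | zero => rw [pow_zero, pow_zero, map_one, one_smul]; rfl
    | succ m ih => rw [pow_succ', map_mul, Module.End.mul_apply, ih, map_smul, hv (σ i), smul_smul, pow_succ]
  have hmap : ∀ v ∈ wsp w ρ lam, h.symm v ∈ wsp w ρ (pull σ e lam) := by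
    intro v hv i
    apply h.injective
    have h1 := hh (x i) (hxE i) (h.symm v)
    have h2 : (⟨a * x i * a⁻¹, hQ' (x i) (hxE i)⟩ : ↥P18) = xP (σ i) ^ e i := Subtype.ext (hax i)
    rw [h2, h.apply_symm_apply, hpw i v hv] at h1
    have h3 : (⟨x i, E18_le (hxE i)⟩ : ↥P18) = xP i := rfl
    rw [h3] at h1
    rw [h1, map_smul, h.apply_symm_apply]
    congr 1
    rw [← pow_mul]
    have h4 : ∀ m : ℕ, w ^ m = w ^ (m % 3) := fun m => pow_eq_pow_mod m hw
    rw [h4]
    congr 1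
    unfold pull
    rw [← ZMod.val_natCast]
    congr 1
    push_cast [ZMod.natCast_zmod_val]
    ring
  let f : wsp w ρ lam →ₗ[K] wsp w ρ (pull σ e lam) :=
    (h.symm.toLinearMap.domRestrict _).codRestrict _ (fun v => hmap v v.2)
  refine LinearMap.finrank_le_finrank_of_injective (f := f) ?_
  intro v v' hvv
  apply Subtype.ext
  exact h.symm.injective (congrArg Subtype.val hvv)

theorem finrank_wsp_basic {w : K} (ρ : ↥P18 →* Module.End K V) (hfus : Fus ρ) (hw : w ^ 3 = 1) {t : Perm (Fin 18)}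
    {σ : Fin 6 → Fin 6} {e : Fin 6 → ℕ} (hb : Basic t σ e) (lam : Fin 6 → ZMod 3) :
    finrank K (wsp w ρ (pull σ e lam)) = finrank K (wsp w ρ lam) := by
  have key : ∀ mu : Fin 6 → ZMod 3, finrank K (wsp w ρ mu) ≤ finrank K (wsp w ρ (pull σ e mu)) := by
    intro mu
    obtain ⟨t', σ', e', hb', hfix⟩ := exists_fix mu
    have h1 := finrank_wsp_le ρ hfus (t := t' * t) (by rw [Perm.sign_mul, hb.sign, hb'.sign]; decide)
      (hb.mv.comp hb'.mv) mu hw
    rwa [pull_comp, hfix] at h1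
  refine le_antisymm ?_ (key lam)
  have h1 := key (pull σ e lam)
  rwa [hb.invol] at h1

/-- the multiplicity -/
noncomputable def dm (w : K) (ρ : ↥P18 →* Module.End K V) (lam : Fin 6 → ZMod 3) : ℕ := finrank K (wsp w ρ lam)

theorem dm_inv {w : K} (ρ : ↥P18 →* Module.End K V) (hfus : Fus ρ) (hw : w ^ 3 = 1) (i : Fin 6) (mu : Fin 6 → ZMod 3) :
    dm w ρ (Function.update mu i (mu i * mu i)) = dm w ρ mu := by
  have h2 : ∀ a : ZMod 3, a * a = a ∨ a * a = 2 * a := by decide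
  rcases h2 (mu i) with h | h
  · rw [h, Function.update_eq_self]
  · rw [h]
    refine Eq.trans (congrArg (dm w ρ) ?_) (finrank_wsp_basic ρ hfus hw (Basic.inv i) mu)
    funext k
    show _ = ((if k = i then 2 else 1 : ℕ) : ZMod 3) * mu k
    by_cases hk : k = i
    · subst hk
      rw [Function.update_self, if_pos rfl]
      rfl
    · rw [Function.update_of_ne hk, if_neg hk, Nat.cast_one, one_mul]

theorem dm_sq {w : K} (ρ : ↥P18 →* Module.End K V) (hfus : Fus ρ) (hw : w ^ 3 = 1) (lam : Fin 6 → ZMod 3) :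
    dm w ρ (fun i => lam i * lam i) = dm w ρ lam := by
  have key := dm_inv ρ hfus hw
  -- square the first `n` coordinates
  let g : ℕ → Fin 6 → ZMod 3 := fun n i => if (i : ℕ) < n then lam i * lam i else lam i
  have step : ∀ n : Fin 6, dm w ρ (g (n + 1)) = dm w ρ (g n) := by
    intro n
    rw [← key n (g n)]
    congr 1
    funext i
    by_cases hi : i = n
    · subst hi
      rw [Function.update_self]
      show (if (i : ℕ) < i + 1 then lam i * lam i else lam i) = _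
      rw [if_pos (Nat.lt_succ_self _)]
      show _ = (if (i : ℕ) < i then lam i * lam i else lam i) * (if (i : ℕ) < i then lam i * lam i else lam i)
      rw [if_neg (lt_irrefl _)]
    · rw [Function.update_of_ne hi]
      show (if (i : ℕ) < n + 1 then lam i * lam i else lam i) = (if (i : ℕ) < n then lam i * lam i else lam i)
      have h1 : (i : ℕ) ≠ n := fun e => hi (Fin.ext e)
      by_cases h2 : (i : ℕ) < n
      · rw [if_pos h2, if_pos (by omega)]
      · rw [if_neg h2, if_neg (by omega)]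
  have h6 : (fun i => lam i * lam i) = g 6 := by
    funext i
    show _ = if (i : ℕ) < 6 then _ else _
    rw [if_pos i.2]
  have h0 : lam = g 0 := by
    funext i
    show _ = if (i : ℕ) < 0 then _ else _
    rw [if_neg (Nat.not_lt_zero _)]
  rw [h6]
  conv_rhs => rw [h0]
  exact (step 5).trans ((step 4).trans ((step 3).trans ((step 2).trans ((step 1).trans (step 0)))))

theorem dm_perm {w : K} (ρ : ↥P18 →* Module.End K V) (hfus : Fus ρ) (hw : w ^ 3 = 1) (τ : Perm (Fin 6)) :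
    ∀ lam : Fin 6 → ZMod 3, dm w ρ (fun i => lam (τ i)) = dm w ρ lam := by
  induction τ using Perm.swap_induction_on with
  | one => intro lam; rfl
  | swap_mul f i j hij ih =>
    intro lam
    have h1 := finrank_wsp_basic ρ hfus hw (Basic.sw i j hij) lam
    have h2 := ih (pull (fun k => swap i j k) (fun _ => 1) lam)
    refine Eq.trans (congrArg (dm w ρ) ?_) (h2.trans h1)
    funext k
    show _ = ((1 : ℕ) : ZMod 3) * lam (swap i j (f k))
    rw [Nat.cast_one, one_mul]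
    rfl

/-- **the multiplicities depend only on the number of non-zero coordinates** -/
theorem dm_eq {w : K} (ρ : ↥P18 →* Module.End K V) (hfus : Fus ρ) (hw : w ^ 3 = 1)
    {lam mu : Fin 6 → ZMod 3} (h : nz lam = nz mu) : dm w ρ lam = dm w ρ mu := by
  classical
  have e : {i // lam i ≠ 0} ≃ {i // mu i ≠ 0} := by
    apply Fintype.equivOfCardEq
    rw [Fintype.card_subtype, Fintype.card_subtype]
    exact h
  rw [← dm_sq ρ hfus hw lam, ← dm_perm ρ hfus hw e.extendSubtype mu, ← dm_sq ρ hfus hw (fun i => mu (e.extendSubtype i))]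
  congr 1
  funext i
  have h3 : ∀ a b : ZMod 3, a ≠ 0 → b ≠ 0 → a * a = b * b := by decide
  by_cases hi : lam i = 0
  · have h1 : mu (e.extendSubtype i) = 0 := by
      by_contra h2
      exact (e.extendSubtype_not_mem i (by simpa using hi)) h2
    rw [hi, h1]
  · exact h3 _ _ hi (e.extendSubtype_mem i hi)

/-- standard weights -/
def stdw (k : Fin 7) : Fin 6 → ZMod 3 := fun i => if (i : ℕ) < k then 1 else 0

theorem nz_stdw : ∀ k : Fin 7, nz (stdw k) = k := by decide +kernel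

theorem nz_lt (lam : Fin 6 → ZMod 3) : nz lam < 7 :=
  Nat.lt_succ_of_le ((Finset.card_le_univ _).trans_eq (Fintype.card_fin 6))

/-- counting -/
theorem sum_dm {w : K} (ρ : ↥P18 →* Module.End K V) (hfus : Fus ρ) (hw : w ^ 3 = 1) (p : (Fin 6 → ZMod 3) → Prop)
    [DecidablePred p] : ∑ c : Fin 6 → ZMod 3, (if p c then dm w ρ c else 0) =
      ∑ k : Fin 7, (Finset.univ.filter fun c : Fin 6 → ZMod 3 => p c ∧ nz c = k).card * dm w ρ (stdw k) := by
  classical
  have h1 : ∀ c : Fin 6 → ZMod 3, (if p c then dm w ρ c else 0) =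
      ∑ k : Fin 7, if (p c ∧ nz c = k) then dm w ρ (stdw k) else 0 := by
    intro c
    rw [Finset.sum_eq_single (⟨nz c, nz_lt c⟩ : Fin 7)]
    · by_cases hp : p c
      · rw [if_pos hp, if_pos ⟨hp, rfl⟩]
        exact dm_eq ρ hfus hw (nz_stdw ⟨nz c, nz_lt c⟩).symm
      · rw [if_neg hp, if_neg (fun h => hp h.1)]
    · intro k _ hk
      rw [if_neg]
      rintro ⟨-, h⟩
      exact hk (Fin.ext h.symm)
    · intro h; exact absurd (Finset.mem_univ _) h
  simp only [h1]
  rw [Finset.sum_comm]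
  refine Finset.sum_congr rfl fun k _ => ?_
  rw [← Finset.sum_filter, Finset.sum_const, smul_eq_mul]

end P18

end Cfsg.Agent.H189.T3a
end

-- part: H189/T3aNum
section
/-!
# The multiplicities: `(12, 4, 1, 0, 0, 0, 2)`
-/

set_option autoImplicit false

namespace Cfsg.Agent.H189.T3a

open Cfsg.Agent.H190.E6 Cfsg.Agent.H224.E8 Module

/-- the number of weights with `k` non-zero coordinates and property `p` -/
def cnt (p : (Fin 6 → ZMod 3) → Bool) (k : ℕ) : ℕ :=
  (Finset.univ.filter fun c : Fin 6 → ZMod 3 => p c = true ∧ nz c = k).card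

theorem cnt_all : List.map (cnt fun _ => true) [0, 1, 2, 3, 4, 5, 6] = [1, 12, 60, 160, 240, 192, 64] := by decide +kernel
theorem cnt_b1 : List.map (cnt fun c => c 0 + c 0 + c 1 == 0) [0, 1, 2, 3, 4, 5, 6] = [1, 8, 26, 48, 64, 64, 32] := by
  decide +kernel
theorem cnt_b2 : List.map (cnt fun c => c 3 + c 3 + c 4 == 0) [0, 1, 2, 3, 4, 5, 6] = [1, 8, 26, 48, 64, 64, 32] := by
  decide +kernel
theorem cnt_z1 : List.map (cnt fun c => c 0 + c 1 + c 2 == 0) [0, 1, 2, 3, 4, 5, 6] = [1, 6, 18, 46, 84, 72, 16] := by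
  decide +kernel
theorem cnt_z2 : List.map (cnt fun c => c 3 + c 4 + c 5 == 0) [0, 1, 2, 3, 4, 5, 6] = [1, 6, 18, 46, 84, 72, 16] := by
  decide +kernel

theorem num {d0 d1 d2 d3 d4 d5 d6 A B : ℕ} (h : d0 + 12 * d1 + 60 * d2 + 160 * d3 + 240 * d4 + 192 * d5 + 64 * d6 = 248)
    (hA : d0 + 8 * d1 + 26 * d2 + 48 * d3 + 64 * d4 + 64 * d5 + 32 * d6 = A)
    (hB : d0 + 6 * d1 + 18 * d2 + 46 * d3 + 84 * d4 + 72 * d5 + 16 * d6 = B)
    (hA' : A = 80 ∨ A = 86 ∨ A = 92 ∨ A = 134) (hB' : B = 80 ∨ B = 86 ∨ B = 92 ∨ B = 134) :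
    d3 = 0 ∧ d4 = 0 ∧ d5 = 0 ∧ d6 = 2 := by
  have e3 : d3 ≤ 1 := by omega
  have e4 : d4 ≤ 1 := by omega
  have e5 : d5 ≤ 1 := by omega
  have e6 : d6 ≤ 3 := by omega
  have e2 : d2 ≤ 4 := by omega
  interval_cases d3 <;> interval_cases d4 <;> interval_cases d5 <;> interval_cases d6 <;> interval_cases d2 <;> omega

end Cfsg.Agent.H189.T3a
end

-- part: H189/Sixteen
section
/-!
# No isometry `M` of an even unimodular lattice of rank 8 has `M ^ 8 = - 1`
-/

set_option autoImplicit false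

namespace Cfsg.Agent.H189.Sixteen

open Matrix Polynomial

abbrev Mt (R : Type*) := Matrix (Fin 8) (Fin 8) R

/-- reduction modulo 2 -/
def red : Mt ℤ →+* Mt (ZMod 2) := (Int.castRingHom (ZMod 2)).mapMatrix

theorem red_apply (A : Mt ℤ) (i j : Fin 8) : red A i j = (A i j : ZMod 2) := rfl

theorem even_form {C : Mt ℤ} (hs : Cᵀ = C) (he : ∀ i, Even (C i i)) (x : Fin 8 → ℤ) : Even (x ⬝ᵥ (C *ᵥ x)) := by
  have h1 : ((x ⬝ᵥ (C *ᵥ x) : ℤ) : ZMod 2) = 0 := by
    simp only [dotProduct, mulVec, Finset.mul_sum, Int.cast_sum, Int.cast_mul]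
    have h2 : ∀ i j, (C i j : ZMod 2) = C j i := fun i j => by
      have := congrFun (congrFun hs j) i
      rw [transpose_apply] at this
      rw [this]
    have h3 : ∀ i, (C i i : ZMod 2) = 0 := fun i => (ZMod.intCast_zmod_eq_zero_iff_dvd _ 2).2 (he i).two_dvd
    simp only [Fin.sum_univ_eight, h3, mul_zero, zero_mul]
    simp only [h2 1 0, h2 2 0, h2 3 0, h2 4 0, h2 5 0, h2 6 0, h2 7 0, h2 2 1, h2 3 1, h2 4 1, h2 5 1, h2 6 1, h2 7 1,
      h2 3 2, h2 4 2, h2 5 2, h2 6 2, h2 7 2, h2 4 3, h2 5 3, h2 6 3, h2 7 3, h2 5 4, h2 6 4, h2 7 4, h2 6 5, h2 7 5,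
      h2 7 6]
    have h4 : ∀ a : ZMod 2, a + a = 0 := by decide
    ring_nf
    have h5 : (2 : ZMod 2) = 0 := by decide
    simp only [h5, mul_zero, add_zero]
  exact (ZMod.intCast_zmod_eq_zero_iff_dvd _ 2).1 h1 |>.elim fun k hk => ⟨k, by rw [hk]; push_cast; ring⟩

variable {C M : Mt ℤ}

theorem pow_isom (hM : Mᵀ * C * M = C) (j : ℕ) : (M ^ j)ᵀ * C * M ^ j = C := by
  induction j with
  | zero => simp
  | succ j ih =>
    rw [pow_succ, transpose_mul]
    calc Mᵀ * (M ^ j)ᵀ * C * (M ^ j * M) = Mᵀ * ((M ^ j)ᵀ * C * M ^ j) * M := by simp only [Matrix.mul_assoc]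
      _ = C := by rw [ih, hM]

/-- the form `x, M^j x` -/
theorem form_neg (hs : Cᵀ = C) (hM : Mᵀ * C * M = C) (h8 : M ^ 8 = -1) {i j : ℕ} (hij : i + j = 8) (x : Fin 8 → ℤ) :
    x ⬝ᵥ ((C * M ^ i) *ᵥ x) = - (x ⬝ᵥ ((C * M ^ j) *ᵥ x)) := by
  have h1 : C * M ^ i = - (C * M ^ j)ᵀ := by
    have h2 := pow_isom hM j
    have h3 : (M ^ j)ᵀ * C * M ^ j * M ^ i = C * M ^ i := by rw [h2]
    rw [Matrix.mul_assoc, ← pow_add, add_comm j i, hij, h8, Matrix.mul_neg, Matrix.mul_one] at h3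
    rw [← h3, transpose_mul, hs]
  rw [h1, neg_mulVec, dotProduct_neg, mulVec_transpose, dotProduct_mulVec x (C * M ^ j) x,
    dotProduct_comm x (x ᵥ* (C * M ^ j))]

/-- the sum of the powers -/
def S (M : Mt ℤ) : Mt ℤ := ∑ j ∈ Finset.range 8, M ^ j

theorem form_S (hs : Cᵀ = C) (hM : Mᵀ * C * M = C) (h8 : M ^ 8 = -1) (x : Fin 8 → ℤ) :
    x ⬝ᵥ ((C * S M) *ᵥ x) = x ⬝ᵥ (C *ᵥ x) := by
  have h0 : C * S M = C * M ^ 0 + C * M ^ 1 + C * M ^ 2 + C * M ^ 3 + C * M ^ 4 + C * M ^ 5 + C * M ^ 6 + C * M ^ 7 := by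
    unfold S
    simp only [Finset.sum_range_succ, Finset.sum_range_zero, zero_add, Matrix.mul_add]
  rw [h0]
  simp only [add_mulVec, dotProduct_add]
  have h7 := form_neg hs hM h8 (show 7 + 1 = 8 from rfl) x
  have h6 := form_neg hs hM h8 (show 6 + 2 = 8 from rfl) x
  have h5 := form_neg hs hM h8 (show 5 + 3 = 8 from rfl) x
  have h4 := form_neg hs hM h8 (show 4 + 4 = 8 from rfl) x
  rw [pow_zero, Matrix.mul_one]
  omega

theorem S_mul (h8 : M ^ 8 = -1) : S M * (M - 1) = -((2 : ℤ) • (1 : Mt ℤ)) := by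
  unfold S
  rw [geom_sum_mul, h8]
  module

theorem exists_div {A : Mt ℤ} (h : red A = 0) : ∃ Y : Mt ℤ, A = (2 : ℤ) • Y := by
  have h1 : ∀ i j, ∃ y : ℤ, A i j = 2 * y := by
    intro i j
    have h2 : (A i j : ZMod 2) = 0 := congrFun (congrFun h i) j
    exact (ZMod.intCast_zmod_eq_zero_iff_dvd _ 2).1 h2
  choose Y hY using h1
  refine ⟨Matrix.of Y, ?_⟩
  ext i j
  rw [hY i j]
  rfl

theorem pow_eight_sub (N : Mt (ZMod 2)) : (N - 1) ^ 8 = N ^ 8 - 1 := by
  have h2 := sub_pow_char_pow_of_commute 2 3 (Commute.one_right N)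
  norm_num at h2
  exact h2

theorem red_pow_eight (h8 : M ^ 8 = -1) : (red M - 1) ^ 8 = 0 := by
  rw [pow_eight_sub, ← map_pow, h8, map_neg, map_one, ← neg_add']
  rw [CharTwo.add_self_eq_zero, neg_zero]

theorem red_S_ne (h8 : M ^ 8 = -1) : red (S M) ≠ 0 := by
  intro h
  obtain ⟨Y, hY⟩ := exists_div h
  have h1 := S_mul h8
  rw [hY, smul_mul, ← smul_neg] at h1
  have h2 : Y * (M - 1) = -1 := smul_right_injective _ (two_ne_zero : (2 : ℤ) ≠ 0) h1
  have h3 := congrArg red h2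
  rw [map_mul, map_sub, map_one, map_neg, map_one] at h3
  have h4 := congrArg (fun A => A.det ^ 8) h3
  simp only [det_mul, mul_pow] at h4
  rw [← det_pow (red M - 1), red_pow_eight h8, det_zero, mul_zero] at h4
  have h5 : ((-1 : Mt (ZMod 2)).det) = 1 := by
    rw [det_neg, det_one]; decide
  rw [h5] at h4
  exact absurd h4 (by decide)

theorem poly_id : (∑ j ∈ Finset.range 8, (X : (ZMod 2)[X]) ^ j) = (X - 1) ^ 7 := by
  have h1 : (∑ j ∈ Finset.range 8, (X : (ZMod 2)[X]) ^ j) * (X - 1) = (X - 1) ^ 7 * (X - 1) := by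
    rw [geom_sum_mul, ← pow_succ]
    have h2 := sub_pow_char_pow (X : (ZMod 2)[X]) 1 (p := 2) (n := 3)
    norm_num at h2
    exact h2.symm
  exact mul_right_cancel₀ (X_sub_C_ne_zero (1 : ZMod 2)) (by rwa [C_1])

theorem red_S : red (S M) = (red M - 1) ^ 7 := by
  unfold S
  have h := congrArg (aeval (red M)) poly_id
  rw [map_sum] at h
  simpa using h

/-- nilpotent of maximal class: the powers on a vector form a basis -/
theorem span_top {N : Mt (ZMod 2)} (h8 : N ^ 8 = 0) {v : Fin 8 → ZMod 2} (hv : (N ^ 7) *ᵥ v ≠ 0) :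
    Submodule.span (ZMod 2) (Set.range fun i : Fin 8 => (N ^ (i : ℕ)) *ᵥ v) = ⊤ := by
  have hli : LinearIndependent (ZMod 2) (fun i : Fin 8 => (N ^ (i : ℕ)) *ᵥ v) := by
    rw [Fintype.linearIndependent_iff]
    intro f hf
    have key : ∀ n : ℕ, ∀ i : Fin 8, (i : ℕ) < n → f i = 0 := by
      intro n
      induction n with
      | zero => intro i hi; exact absurd hi (Nat.not_lt_zero _)
      | succ n ih =>
        intro i hi
        rcases Nat.lt_succ_iff_lt_or_eq.1 hi with h | h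
        · exact ih i h
        · have h1 := congrArg (fun w => (N ^ (7 - (i : ℕ))) *ᵥ w) hf
          simp only [mulVec_zero] at h1
          rw [mulVec_sum] at h1
          rw [Finset.sum_eq_single i] at h1
          · rw [mulVec_smul, mulVec_mulVec, ← pow_add, Nat.sub_add_cancel (by omega)] at h1
            exact (smul_eq_zero.1 h1).resolve_right hv
          · intro j _ hj
            rcases lt_or_ge (j : ℕ) n with h2 | h2
            · rw [ih j h2, zero_smul, mulVec_zero]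
            · have h3 : (j : ℕ) ≠ i := fun e => hj (Fin.ext e)
              rw [mulVec_smul, mulVec_mulVec, ← pow_add, show 7 - (i : ℕ) + j = 8 + (j - i - 1) by omega, pow_add, h8,
                zero_mul, zero_mulVec, smul_zero]
          · intro h2
            exact absurd (Finset.mem_univ i) h2
    exact fun i => key 8 i i.2
  exact hli.span_eq_top_of_card_eq_finrank' (by simp)

/-- **no `M ^ 8 = - 1`** in an even unimodular lattice of rank 8 -/
theorem no_sixteen {D : Mt ℤ} (hs : Cᵀ = C) (he : ∀ i, Even (C i i)) (hC : D * C = 1) (hM : Mᵀ * C * M = C) :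
    M ^ 8 ≠ -1 := by
  intro h8
  set m := red M with hm
  set c := red C with hc
  have hN := red_pow_eight h8
  have hne := red_S_ne h8
  have hsN := red_S (M := M)
  rw [hsN] at hne
  obtain ⟨v, hv⟩ : ∃ v, ((m - 1) ^ 7) *ᵥ v ≠ 0 := by
    by_contra hall
    push Not at hall
    apply hne
    ext i j
    have h1 := congrFun (hall (Pi.single j 1)) i
    rw [mulVec_single_one] at h1
    exact h1
  have hspan := span_top hN hv
  -- the form
  have hcm : mᵀ * c * m = c := by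
    have h1 := congrArg red hM
    rw [map_mul, map_mul] at h1
    have h2 : red Mᵀ = mᵀ := by ext i j; rfl
    rwa [h2] at h1
  have hmS : m * (m - 1) ^ 7 = (m - 1) ^ 7 := by
    have h1 : (m - 1) * (m - 1) ^ 7 = 0 := by rw [← pow_succ']; exact hN
    rw [sub_mul, one_mul] at h1
    exact sub_eq_zero.1 h1
  have hall : ∀ u : Fin 8 → ZMod 2, u ⬝ᵥ ((c * (m - 1) ^ 7) *ᵥ v) = 0 := by
    intro u
    have hu : u ∈ Submodule.span (ZMod 2) (Set.range fun i : Fin 8 => ((m - 1) ^ (i : ℕ)) *ᵥ v) := by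
      rw [hspan]; trivial
    induction hu using Submodule.span_induction with
    | mem w hw =>
      obtain ⟨i, rfl⟩ := hw
      rcases Nat.eq_zero_or_pos (i : ℕ) with h | h
      · simp only [h, pow_zero, one_mulVec]
        -- `v, S v`
        have h1 : ∃ x : Fin 8 → ℤ, ∀ i, (x i : ZMod 2) = v i := ⟨fun i => (v i).val, fun i => by simp⟩
        obtain ⟨x, hx⟩ := h1
        have h2 := form_S hs hM h8 x
        have h3 := even_form hs he x
        rw [← h2] at h3
        have h4 : ((x ⬝ᵥ ((C * S M) *ᵥ x) : ℤ) : ZMod 2) = 0 :=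
          (ZMod.intCast_zmod_eq_zero_iff_dvd _ 2).2 h3.two_dvd
        have h5 : ((x ⬝ᵥ ((C * S M) *ᵥ x) : ℤ) : ZMod 2) = v ⬝ᵥ (red (C * S M) *ᵥ v) := by
          simp only [dotProduct, mulVec, Int.cast_sum, Int.cast_mul, hx]
          rfl
        rw [h5, map_mul, hsN] at h4
        exact h4
      · obtain ⟨j, hj⟩ : ∃ j, (i : ℕ) = j + 1 := ⟨i - 1, by omega⟩
        simp only [hj]
        generalize hw : (m - 1) ^ j *ᵥ v = w
        have h1 : (m - 1) ^ (j + 1) *ᵥ v = m *ᵥ w - w := by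
          rw [pow_succ', ← mulVec_mulVec, hw, sub_mulVec, one_mulVec]
        rw [h1, sub_dotProduct]
        have h2 : (m *ᵥ w) ⬝ᵥ ((c * (m - 1) ^ 7) *ᵥ v) = w ⬝ᵥ ((c * (m - 1) ^ 7) *ᵥ v) := by
          conv_lhs => rw [← hmS]
          rw [← vecMul_transpose, ← dotProduct_mulVec, mulVec_mulVec, ← Matrix.mul_assoc, ← Matrix.mul_assoc, hcm]
        rw [h2, sub_self]
    | zero => exact zero_dotProduct _
    | add a b _ _ ha hb => rw [add_dotProduct, ha, hb, add_zero]
    | smul a b _ hb => rw [smul_dotProduct, hb, smul_zero]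
  have h1 : (c * (m - 1) ^ 7) *ᵥ v = 0 := by
    funext i
    have := hall (Pi.single i 1)
    rwa [single_one_dotProduct] at this
  apply hv
  have h2 := congrArg (fun w => red D *ᵥ w) h1
  simp only [mulVec_mulVec, mulVec_zero] at h2
  rw [← Matrix.mul_assoc, hc, ← map_mul, hC, map_one, Matrix.one_mul] at h2
  exact h2

end Cfsg.Agent.H189.Sixteen
end

-- part: H189/PhiSixteen
section
/-!
# An integer 8 x 8 matrix of finite order with an "eigenvalue of order 16 modulo `ℓ`" satisfies `M ^ 8 = - 1`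
-/

set_option autoImplicit false

namespace Cfsg.Agent.H189.PhiSixteen

open Matrix Polynomial

abbrev Mt (R : Type*) := Matrix (Fin 8) (Fin 8) R

theorem cyc16 : cyclotomic 16 ℚ = X ^ 8 + 1 := by
  have h := cyclotomic_prime_pow_eq_geom_sum (R := ℚ) (n := 3) Nat.prime_two
  norm_num [Finset.sum_range_succ] at h
  rw [h, add_comm]

theorem irr : Irreducible (X ^ 8 + 1 : ℚ[X]) := by
  rw [← cyc16]
  exact cyclotomic.irreducible_rat (by norm_num)

/-- the cofactor -/
theorem exists_cof {m : ℕ} (hm : 16 ∣ m) : ∃ R : ℤ[X], (X ^ 8 + 1) * R = X ^ m - 1 := by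
  obtain ⟨k, rfl⟩ := hm
  refine ⟨(X ^ 8 - 1) * ∑ j ∈ Finset.range k, (X ^ 16) ^ j, ?_⟩
  have h := mul_geom_sum (X ^ 16 : ℤ[X]) k
  rw [← mul_assoc, pow_mul, ← h]
  ring

theorem pow_eight {M : Mt ℤ} {m : ℕ} (hm : M ^ m = 1) {R : ℤ[X]} (hR : (X ^ 8 + 1) * R = X ^ m - 1)
    (hRM : aeval M R ≠ 0) : M ^ 8 = -1 := by
  let φ : Mt ℤ →+* Mt ℚ := (Int.castRingHom ℚ).mapMatrix
  have hφ : Function.Injective φ := by
    intro A B h
    ext i j
    exact Int.cast_injective (congrFun (congrFun h i) j)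
  have haev : ∀ f : ℤ[X], aeval (φ M) (f.map (Int.castRingHom ℚ)) = φ (aeval M f) := by
    intro f
    rw [aeval_def, aeval_def, eval₂_map, hom_eval₂]
    congr 1
    exact Subsingleton.elim _ _
  set N := φ M with hN
  have hdvd : (X ^ 8 + 1 : ℚ[X]) ∣ minpoly ℚ N := by
    rcases irr.isCoprime_or_dvd (minpoly ℚ N) with h | h
    · exfalso
      apply hRM
      apply hφ
      rw [← haev, map_zero]
      have h1 : minpoly ℚ N ∣ (X ^ 8 + 1) * R.map (Int.castRingHom ℚ) := by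
        apply minpoly.dvd
        have h2 := congrArg (Polynomial.map (Int.castRingHom ℚ)) hR
        simp only [Polynomial.map_mul, Polynomial.map_add, Polynomial.map_sub, Polynomial.map_pow, map_X,
          Polynomial.map_one] at h2
        rw [h2, map_sub, map_pow, aeval_X, map_one, hN, ← map_pow, hm, map_one, sub_self]
      have h2 := h.symm.dvd_of_dvd_mul_left h1
      obtain ⟨Q, hQ⟩ := h2
      rw [hQ, map_mul, minpoly.aeval, zero_mul]
    · exact h
  have h2 : (X ^ 8 + 1 : ℚ[X]) ∣ N.charpoly := hdvd.trans (Matrix.minpoly_dvd_charpoly N)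
  have hm8 : (X ^ 8 + 1 : ℚ[X]).Monic := by
    have := monic_X_pow_add_C (1 : ℚ) (n := 8) (by norm_num)
    rwa [C_1] at this
  have h3 : N.charpoly = X ^ 8 + 1 := by
    have h5 : (X ^ 8 + 1 : ℚ[X]).natDegree = 8 := by
      have := natDegree_X_pow_add_C (n := 8) (r := (1 : ℚ))
      rwa [C_1] at this
    refine eq_of_monic_of_dvd_of_natDegree_le hm8 N.charpoly_monic h2 ?_
    have h6 := Matrix.charpoly_natDegree_eq_dim N
    rw [Fintype.card_fin] at h6
    exact (h6.trans h5.symm).le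
  have h4 := Matrix.aeval_self_charpoly N
  rw [h3, map_add, map_pow, aeval_X, map_one] at h4
  apply hφ
  rw [map_pow, map_neg, map_one]
  exact eq_neg_of_add_eq_zero_left h4

/-- the value of the cofactor at a number of order 16 modulo `ℓ` -/
theorem cof_ne {ℓ : ℕ} [Fact ℓ.Prime] {m : ℕ} (hm0 : (m : ZMod ℓ) ≠ 0) {R : ℤ[X]} (hR : (X ^ 8 + 1) * R = X ^ m - 1)
    {k : ZMod ℓ} (hk : k ^ 8 = -1) : aeval k R ≠ 0 := by
  intro h
  have h1 := congrArg (fun f => aeval k (derivative f)) hR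
  simp only [derivative_mul, derivative_sub, derivative_X_pow, derivative_one, map_add, map_mul, map_pow,
    aeval_X, map_one, h, hk, add_zero, mul_zero, sub_zero, neg_add_cancel, zero_mul, map_natCast] at h1
  have hk0 : k ≠ 0 := by
    rintro rfl
    rw [zero_pow (by norm_num)] at hk
    exact neg_ne_zero.2 one_ne_zero hk.symm
  exact (mul_ne_zero hm0 (pow_ne_zero _ hk0)) h1.symm

end Cfsg.Agent.H189.PhiSixteen
end

-- part: H189/NoNineteen
section
/-!
# No section `A₁₉` in `E₈(q)`, `q` prime to 17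

`no_nineteen`.
-/

set_option autoImplicit false

namespace Cfsg.Agent.H189.NoNineteen

open Cfsg.Lie Cfsg.Agent.ChevalleyStructure Cfsg.Agent.ChevalleyStructure.Elts Cfsg.Agent.H190 Cfsg.Agent.H186
  Cfsg.Agent.ChevalleyStructure.RootCombGood Cfsg.Agent.ChevalleyStructure.RootWord
  Cfsg.Agent.ChevalleyStructure.RootComb Cfsg.Agent.ChevalleyStructure.NPerm
  Cfsg.Agent.H189.ExcLift Matrix Polynomial

universe u v

/-- the coordinates of a root of `E₈` -/
def cv (r : Fin chevE8.nroots) : Fin 8 → ℤ := fun j => co chevE8 r j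

/-- the Cartan matrix -/
def C8 : Matrix (Fin 8) (Fin 8) ℤ := Matrix.of fun i j => chevE8.cartan i (chevE8.simple j)

/-- its inverse -/
def D8 : Matrix (Fin 8) (Fin 8) ℤ := Matrix.of
  ![![4, 5, 7, 10, 8, 6, 4, 2], ![5, 8, 10, 15, 12, 9, 6, 3], ![7, 10, 14, 20, 16, 12, 8, 4],
    ![10, 15, 20, 30, 24, 18, 12, 6], ![8, 12, 16, 24, 20, 15, 10, 5], ![6, 9, 12, 18, 15, 12, 8, 4],
    ![4, 6, 8, 12, 10, 8, 6, 3], ![2, 3, 4, 6, 5, 4, 3, 2]]

theorem C8_symm : C8ᵀ = C8 := by decide +kernel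
theorem C8_even : ∀ i, Even (C8 i i) := by decide +kernel
theorem D8_mul : D8 * C8 = 1 := by decide +kernel

theorem rk : chevE8.rank = 8 := by decide +kernel

/-- the simple root -/
def sr (j : Fin 8) : Fin chevE8.nroots := ⟨chevE8.simple j, goodE8.simple_lt (by rw [rk]; exact j.2)⟩

theorem cv_sr (j : Fin 8) : cv (sr j) = Pi.single j 1 := by
  funext i
  have h := goodE8.co_simple (i := j) (j := i) (by rw [rk]; exact j.2) (by rw [rk]; exact i.2)
  show co chevE8 (chevE8.simple j) i = _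
  rw [h]
  by_cases hij : (j : ℕ) = i
  · rw [if_pos hij, Fin.ext hij, Pi.single_eq_same]
  · rw [if_neg hij, Pi.single_eq_of_ne (fun e => hij (by rw [e]))]

theorem car_eq (r s : Fin chevE8.nroots) : car chevE8 r s = cv r ⬝ᵥ (C8 *ᵥ cv s) := by
  unfold car
  rw [rk]
  simp only [dotProduct, mulVec]
  rw [Finset.sum_range]
  refine Finset.sum_congr rfl fun i _ => ?_
  congr 1
  rw [cartan_eq_sum goodE8 slE8 s.2 (by rw [rk]; exact i.2), rk, Finset.sum_range]
  refine Finset.sum_congr rfl fun j _ => ?_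
  rw [mul_comm]
  rfl

/-- `M` is the matrix of the permutation `w` of the roots -/
def Rep (w : Equiv.Perm (Fin chevE8.nroots)) (M : Matrix (Fin 8) (Fin 8) ℤ) : Prop := ∀ r, M *ᵥ cv r = cv (w r)

theorem Rep.mul {v w : Equiv.Perm (Fin chevE8.nroots)} {M N : Matrix (Fin 8) (Fin 8) ℤ} (h : Rep v M) (h' : Rep w N) :
    Rep (v * w) (M * N) := by
  intro r
  rw [← mulVec_mulVec, h' r, h (w r)]
  rfl

theorem Rep.one : Rep 1 1 := fun r => by rw [one_mulVec]; rfl

theorem Rep.pow {w : Equiv.Perm (Fin chevE8.nroots)} {M : Matrix (Fin 8) (Fin 8) ℤ} (h : Rep w M) (m : ℕ) :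
    Rep (w ^ m) (M ^ m) := by
  induction m with
  | zero => rw [pow_zero, pow_zero]; exact Rep.one
  | succ m ih => rw [pow_succ, pow_succ]; exact ih.mul h

theorem Rep.unique {w : Equiv.Perm (Fin chevE8.nroots)} {M N : Matrix (Fin 8) (Fin 8) ℤ} (h : Rep w M) (h' : Rep w N) :
    M = N := by
  ext i j
  have h1 := (h (sr j)).trans (h' (sr j)).symm
  rw [cv_sr, mulVec_single_one, mulVec_single_one] at h1
  exact congrFun h1 i

/-- the permutations that are isometries -/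
def Iso (w : Equiv.Perm (Fin chevE8.nroots)) : Prop :=
  (∀ r s, car chevE8 (w r) (w s) = car chevE8 r s) ∧ ∃ M, Rep w M

theorem Iso.mul {v w : Equiv.Perm (Fin chevE8.nroots)} (h : Iso v) (h' : Iso w) : Iso (v * w) := by
  obtain ⟨h1, M, hM⟩ := h
  obtain ⟨h2, N, hN⟩ := h'
  exact ⟨fun r s => (h1 (w r) (w s)).trans (h2 r s), M * N, hM.mul hN⟩

theorem Iso.isom {w : Equiv.Perm (Fin chevE8.nroots)} (h : Iso w) {M : Matrix (Fin 8) (Fin 8) ℤ} (hM : Rep w M) :
    Mᵀ * C8 * M = C8 := by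
  ext i j
  have h1 := h.1 (sr i) (sr j)
  rw [car_eq, car_eq, ← hM, ← hM, cv_sr, cv_sr] at h1
  have key : ∀ N : Matrix (Fin 8) (Fin 8) ℤ, (Pi.single i 1 : Fin 8 → ℤ) ⬝ᵥ (N *ᵥ Pi.single j 1) = N i j := by
    intro N
    rw [mulVec_single_one, single_one_dotProduct]
    rfl
  rw [key, ← vecMul_transpose, ← dotProduct_mulVec, mulVec_mulVec, mulVec_mulVec, key] at h1
  rw [← h1, Matrix.mul_assoc]

theorem iso_reflect {w : Equiv.Perm (Fin chevE8.nroots)} {i : ℕ} (hi : i < chevE8.rank)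
    (hw : ∀ r, ((w r : Fin chevE8.nroots) : ℕ) = chevE8.reflectRoot i r) : Iso w := by
  have hi' : i < 8 := by rwa [rk] at hi
  refine ⟨fun r s => ?_, Matrix.of fun j k : Fin 8 => (if j = k then 1 else 0) -
    if (j : ℕ) = i then chevE8.cartan k (chevE8.simple i) else 0, fun r => ?_⟩
  · rw [hw, hw]
    exact car_reflect goodE8 hi r.2 s.2
  · funext j
    show _ = co chevE8 (w r : Fin chevE8.nroots) j
    rw [hw, goodE8.co_reflect hi r.2 (by rw [rk]; exact j.2)]
    simp only [mulVec, dotProduct, Matrix.of_apply, sub_mul, Finset.sum_sub_distrib, ite_mul, one_mul, zero_mul,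
      Finset.sum_ite_eq, Finset.mem_univ, if_true]
    congr 1
    split_ifs with h
    · unfold car
      rw [rk, Finset.sum_range]
      exact Finset.sum_congr rfl fun k _ => mul_comm _ _
    · exact Finset.sum_const_zero

variable {F : Type u} [Field F]

theorem iso_inv_pw {n : ↥(chevE8.group F)} (hn : n ∈ NG chevE8 F) : Iso (pw inE8 hn)⁻¹ := by
  have h1 : pw inE8 hn ∈ (permHom inE8 F).range := ⟨_, rfl⟩
  rw [range_permHom inE8 F] at h1
  have hrefl : ∀ {w : Equiv.Perm (Fin chevE8.nroots)} {i : ℕ} (hi : i < chevE8.rank)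
      (hw : ∀ r, ((w r : Fin chevE8.nroots) : ℕ) = chevE8.reflectRoot i r), Iso w ∧ Iso w⁻¹ := by
    intro w i hi hw
    refine ⟨iso_reflect hi hw, iso_reflect hi fun r => ?_⟩
    have h2 := hw (w⁻¹ r)
    rw [show w (w⁻¹ r) = r from w.apply_symm_apply r] at h2
    rw [h2, goodE8.reflect_reflect hi (w⁻¹ r).2]
  have hgen : ∀ g ∈ Set.range fun i : Fin chevE8.rank =>
      permHom inE8 F ⟨nG inE8 (chevE8.simple i) 1, nG_simple_mem inE8 F i.2⟩, Iso g ∧ Iso g⁻¹ := by
    rintro _ ⟨i, rfl⟩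
    have hw := fun r => permHom_nG inE8 i.2 ⟨nG inE8 (chevE8.simple i) 1, nG_simple_mem inE8 F i.2⟩ (coe_nG inE8 _ _) r
    exact hrefl i.2 hw
  have key : ∀ g ∈ Subgroup.closure (Set.range fun i : Fin chevE8.rank =>
      permHom inE8 F ⟨nG inE8 (chevE8.simple i) 1, nG_simple_mem inE8 F i.2⟩), Iso g ∧ Iso g⁻¹ := by
    intro g hg
    induction hg using Subgroup.closure_induction with
    | mem g hg => exact hgen g hg
    | one => rw [inv_one]; exact ⟨⟨fun _ _ => rfl, 1, Rep.one⟩, ⟨fun _ _ => rfl, 1, Rep.one⟩⟩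
    | mul a b _ _ ha hb => rw [_root_.mul_inv_rev]; exact ⟨ha.1.mul hb.1, hb.2.mul ha.2⟩
    | inv a _ ha => rw [inv_inv]; exact ⟨ha.2, ha.1⟩
  exact (key _ h1).2

/-- the additive map `x ↦ ∏ t(α_j)^{x_j}` -/
noncomputable def L (t : GL chevE8.Idx F) (x : Fin 8 → ℤ) : F := ∏ j, ent t (sr j) ^ x j

theorem ent_eq_L {t : GL chevE8.Idx F} (ht : t ∈ chevE8.diagonalSubgroup F) (r : Fin chevE8.nroots) :
    ent t r = L t (cv r) := by
  rw [ent_eq_prod inE8 slE8 ht r]
  rfl

theorem L_add {t : GL chevE8.Idx F} (ht : t ∈ chevE8.diagonalSubgroup F) (x y : Fin 8 → ℤ) :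
    L t (x + y) = L t x * L t y := by
  unfold L
  rw [← Finset.prod_mul_distrib]
  exact Finset.prod_congr rfl fun j _ => zpow_add₀ (ent_ne_zero inE8 ht _) _ _

theorem L_zero (t : GL chevE8.Idx F) : L t 0 = 1 := by
  unfold L
  simp

theorem L_smul {t : GL chevE8.Idx F} (a : ℤ) (x : Fin 8 → ℤ) : L t (a • x) = L t x ^ a := by
  unfold L
  rw [← Finset.prod_zpow]
  refine Finset.prod_congr rfl fun j _ => ?_
  rw [Pi.smul_apply, smul_eq_mul, mul_comm, _root_.zpow_mul]

theorem L_mul_left {t t' : GL chevE8.Idx F} (ht : t ∈ chevE8.diagonalSubgroup F)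
    (ht' : t' ∈ chevE8.diagonalSubgroup F) (x : Fin 8 → ℤ) : L (t * t') x = L t x * L t' x := by
  unfold L
  rw [← Finset.prod_mul_distrib]
  refine Finset.prod_congr rfl fun j _ => ?_
  rw [ent_mul inE8 ht ht', mul_zpow]

theorem L_sum {t : GL chevE8.Idx F} (ht : t ∈ chevE8.diagonalSubgroup F) {ι : Type*} (s : Finset ι) (f : ι → Fin 8 → ℤ) :
    L t (∑ i ∈ s, f i) = ∏ i ∈ s, L t (f i) := by
  classical
  induction s using Finset.induction_on with
  | empty => rw [Finset.sum_empty, Finset.prod_empty, L_zero]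
  | insert a s ha ih => rw [Finset.sum_insert ha, Finset.prod_insert ha, L_add ht, ih]

/-- conjugation by `n` -/
theorem L_conj {n t : ↥(chevE8.group F)} (hn : n ∈ NG chevE8 F) (ht : t ∈ TG chevE8 F) {M : Matrix (Fin 8) (Fin 8) ℤ}
    (hM : Rep (pw inE8 hn)⁻¹ M) (x : Fin 8 → ℤ) :
    L ((n * t * n⁻¹ : ↥(chevE8.group F)) : GL chevE8.Idx F) x = L (t : GL chevE8.Idx F) (M *ᵥ x) := by
  have h1 := conj_mem_TG inE8 hn ht
  have key : ∀ j, ent ((n * t * n⁻¹ : ↥(chevE8.group F)) : GL chevE8.Idx F) (sr j) =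
      L (t : GL chevE8.Idx F) (M *ᵥ Pi.single j 1) := by
    intro j
    have h2 := ent_conj' inE8 hn ht ((pw inE8 hn)⁻¹ (sr j))
    rw [show pw inE8 hn ((pw inE8 hn)⁻¹ (sr j)) = sr j from (pw inE8 hn).apply_symm_apply _] at h2
    rw [h2, ent_eq_L (t := (t : GL chevE8.Idx F)) ht, ← hM, cv_sr]
  unfold L
  have h3 : M *ᵥ x = ∑ j, x j • (M *ᵥ Pi.single j 1) := by
    conv_lhs => rw [pi_eq_sum_univ' x]
    rw [mulVec_sum]
    refine Finset.sum_congr rfl fun j _ => ?_
    rw [mulVec_smul]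
  have h4 : L (t : GL chevE8.Idx F) (M *ᵥ x) = ∏ j, ent ((n * t * n⁻¹ : ↥(chevE8.group F)) : GL chevE8.Idx F) (sr j) ^ x j := by
    rw [h3, L_sum (t := (t : GL chevE8.Idx F)) ht]
    refine Finset.prod_congr rfl fun j _ => ?_
    rw [L_smul, key]
  exact h4.symm


theorem L_one (x : Fin 8 → ℤ) : L (1 : GL chevE8.Idx F) x = 1 := by
  unfold L
  refine Finset.prod_eq_one fun j _ => ?_
  have h : ent (1 : GL chevE8.Idx F) (sr j) = 1 := by
    unfold ent
    rw [Units.val_one, Matrix.one_apply_eq]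
  rw [h, _root_.one_zpow]

/-- `L` on elements of the torus of `D.group F` -/
noncomputable def LT (t : ↥(chevE8.group F)) (x : Fin 8 → ℤ) : F := L (t : GL chevE8.Idx F) x

theorem LT_mul {s t : ↥(chevE8.group F)} (hs : s ∈ TG chevE8 F) (ht : t ∈ TG chevE8 F) (x : Fin 8 → ℤ) :
    LT (s * t) x = LT s x * LT t x :=
  L_mul_left (t := (s : GL chevE8.Idx F)) (t' := (t : GL chevE8.Idx F)) hs ht x

theorem LT_one (x : Fin 8 → ℤ) : LT (1 : ↥(chevE8.group F)) x = 1 := L_one x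

theorem LT_pow {s : ↥(chevE8.group F)} (hs : s ∈ TG chevE8 F) (x : Fin 8 → ℤ) (m : ℕ) :
    LT (s ^ m) x = LT s x ^ m := by
  induction m with
  | zero => rw [pow_zero, pow_zero, LT_one]
  | succ m ih => rw [pow_succ, pow_succ, LT_mul ((TG chevE8 F).pow_mem hs m) hs, ih]

theorem LT_inv {s : ↥(chevE8.group F)} (hs : s ∈ TG chevE8 F) (x : Fin 8 → ℤ) : LT s⁻¹ x = (LT s x)⁻¹ := by
  have h1 := LT_mul ((TG chevE8 F).inv_mem hs) hs x
  rw [inv_mul_cancel, LT_one] at h1
  exact eq_inv_of_mul_eq_one_left h1.symm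

/-- **the relation lemma**: `aeval M f` acts on the torus; `ψ` multiplies by `f(k)`. -/
theorem rel {n : ↥(chevE8.group F)} (hn : n ∈ NG chevE8 F) {M : Matrix (Fin 8) (Fin 8) ℤ}
    (hM : Rep (pw inE8 hn)⁻¹ M) {ℓ k : ℕ} {S : Subgroup ↥(chevE8.group F)} (hS : S ≤ TG chevE8 F)
    {ψ : ↥(chevE8.group F) → ZMod ℓ} (hψ : ∀ s ∈ S, ∀ t ∈ S, ψ (s * t) = ψ s + ψ t)
    (hn' : ∀ s ∈ S, n * s * n⁻¹ ∈ S ∧ ψ (n * s * n⁻¹) = k * ψ s) (f : ℤ[X]) :
    ∀ s ∈ S, ∃ u ∈ S, (∀ x, LT u x = LT s (aeval M f *ᵥ x)) ∧ ψ u = aeval (k : ZMod ℓ) f * ψ s := by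
  have hpow : ∀ s ∈ S, ∀ m : ℕ, ψ (s ^ m) = m * ψ s := by
    intro s hs m
    induction m with
    | zero => rw [pow_zero, psi_one S ψ hψ, Nat.cast_zero, zero_mul]
    | succ m ih => rw [pow_succ, hψ _ (S.pow_mem hs m) _ hs, ih, Nat.cast_succ, add_mul, one_mul]
  induction f using Polynomial.induction_on' with
  | add p q hp hq =>
    intro s hs
    obtain ⟨u, hu, h1, h2⟩ := hp s hs
    obtain ⟨v, hv, h3, h4⟩ := hq s hs
    refine ⟨u * v, S.mul_mem hu hv, fun x => ?_, ?_⟩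
    · rw [map_add, add_mulVec, LT_mul (hS hu) (hS hv), h1, h3]
      exact (L_add (t := (s : GL chevE8.Idx F)) (hS hs) _ _).symm
    · rw [hψ u hu v hv, h2, h4, map_add, add_mul]
  | monomial m a =>
    induction m with
    | zero =>
      intro s hs
      rw [monomial_zero_left]
      have haC : aeval M (C a) = a • (1 : Matrix (Fin 8) (Fin 8) ℤ) := by
        rw [aeval_C]
        exact Algebra.algebraMap_eq_smul_one a
      have hL : ∀ x, LT s ((a • (1 : Matrix (Fin 8) (Fin 8) ℤ)) *ᵥ x) = LT s x ^ a := by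
        intro x
        rw [smul_mulVec, one_mulVec]
        exact L_smul a x
      rw [haC, aeval_C]
      rcases Int.eq_nat_or_neg a with ⟨b, rfl | rfl⟩
      · refine ⟨s ^ b, S.pow_mem hs b, fun x => ?_, ?_⟩
        · rw [hL, LT_pow (hS hs), _root_.zpow_natCast]
        · rw [hpow s hs b]; simp
      · refine ⟨(s ^ b)⁻¹, S.inv_mem (S.pow_mem hs b), fun x => ?_, ?_⟩
        · rw [hL, LT_inv (hS (S.pow_mem hs b)), LT_pow (hS hs), _root_.zpow_neg, _root_.zpow_natCast]
        · rw [psi_inv S ψ hψ (S.pow_mem hs b), hpow s hs b]; simp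
    | succ m ih =>
      intro s hs
      obtain ⟨u, hu, h1, h2⟩ := ih s hs
      have h3 := hn' u hu
      refine ⟨n * u * n⁻¹, h3.1, fun x => ?_, ?_⟩
      · have h4 : LT (n * u * n⁻¹) x = LT u (M *ᵥ x) := L_conj hn (hS hu) hM x
        rw [h4, h1, mulVec_mulVec, ← monomial_mul_X, map_mul, aeval_X]
      · rw [h3.2, h2, ← monomial_mul_X, map_mul, aeval_X]
        ring

theorem rel_zero {n : ↥(chevE8.group F)} (hn : n ∈ NG chevE8 F) {M : Matrix (Fin 8) (Fin 8) ℤ}
    (hM : Rep (pw inE8 hn)⁻¹ M) {ℓ k : ℕ} (hA : Acts (TG chevE8 F) n ℓ k) {f : ℤ[X]} (hf : aeval M f = 0) :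
    aeval (k : ZMod ℓ) f = 0 := by
  obtain ⟨S, hST, ψ, hadd, ⟨s, hs, hs1⟩, hn'⟩ := hA
  obtain ⟨u, hu, h1, h2⟩ := rel hn hM hST hadd hn' f s hs
  have h3 : u = 1 := by
    apply Subtype.ext
    refine torus_ext inE8 (t := (u : GL chevE8.Idx F)) (hST hu) (one_mem _) fun r => ?_
    rw [ent_eq_L (t := (u : GL chevE8.Idx F)) (hST hu), Subgroup.coe_one, ent_eq_L (one_mem _), L_one]
    have h4 := h1 (cv r)
    rw [hf, zero_mulVec] at h4
    exact h4.trans (L_zero _)
  rw [h3, psi_one S ψ hadd, hs1, mul_one] at h2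
  exact h2.symm

/-- `M ^ |W| = 1` -/
theorem pow_W {n : ↥(chevE8.group F)} (hn : n ∈ NG chevE8 F) {M : Matrix (Fin 8) (Fin 8) ℤ}
    (hM : Rep (pw inE8 hn)⁻¹ M) : M ^ 696729600 = 1 := by
  have hW : (TG chevE8 F).relIndex (NG chevE8 F) = 696729600 := by
    obtain ⟨φ, h1, h2, -⟩ := Cfsg.Agent.S1039.result (F := F) (chevE8, ⟨8, CoxeterMatrix.E₈⟩) (by simp)
    exact relIndex_NG inE8 ⟨φ, h1, h2⟩ (Cfsg.Agent.S1093.result (⟨8, CoxeterMatrix.E₈⟩, 696729600) (by simp))
  have hnor : ((TG chevE8 F).subgroupOf (NG chevE8 F)).Normal := by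
    refine ⟨fun a ha b => ?_⟩
    exact (torusData inE8 F).normal b b.2 a ha
  have h1 : (⟨n, hn⟩ : NG chevE8 F) ^ ((TG chevE8 F).subgroupOf (NG chevE8 F)).index ∈
      (TG chevE8 F).subgroupOf (NG chevE8 F) := Subgroup.pow_index_mem _ _
  have h2 : n ^ 696729600 ∈ TG chevE8 F := by
    rw [← hW]
    exact h1
  have h3 : pw inE8 hn ^ 696729600 = 1 := by
    rw [← pw_pow]
    exact permHom_diagonal inE8 h2
  have h4 := hM.pow 696729600
  rw [inv_pow, h3, inv_one] at h4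
  exact h4.unique Rep.one

theorem m17 : ((696729600 : ℕ) : ZMod 17) ≠ 0 := by decide +kernel
theorem k17 : ((3 : ℕ) : ZMod 17) ^ 8 = -1 := by decide +kernel

/-- **no element of `N` acts on the torus with "eigenvalue" of order 16** -/
theorem no_acts {n : ↥(chevE8.group F)} (hn : n ∈ NG chevE8 F) (hA : Acts (TG chevE8 F) n 17 3) : False := by
  have : Fact (Nat.Prime 17) := ⟨by norm_num⟩
  have hI := iso_inv_pw hn
  obtain ⟨M, hM⟩ := hI.2
  obtain ⟨R, hR⟩ := PhiSixteen.exists_cof (m := 696729600) (by norm_num)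
  have h1 : aeval M R ≠ 0 := by
    intro h
    have h2 := rel_zero hn hM hA h
    exact PhiSixteen.cof_ne (ℓ := 17) (m := 696729600) m17 hR k17 h2
  exact Sixteen.no_sixteen C8_symm C8_even D8_mul (hI.isom hM) (PhiSixteen.pow_eight (pow_W hn hM) hR h1)

/-- a 17-cycle -/
def x19 : Equiv.Perm (Fin 19) := ofTab ![1, 2, 3, 4, 5, 6, 7, 8, 9, 10, 11, 12, 13, 14, 15, 16, 0, 17, 18]
  ![16, 0, 1, 2, 3, 4, 5, 6, 7, 8, 9, 10, 11, 12, 13, 14, 15, 17, 18] (by decide) (by decide)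
/-- `x ↦ 3x` and a transposition -/
def y19 : Equiv.Perm (Fin 19) := ofTab ![0, 3, 6, 9, 12, 15, 1, 4, 7, 10, 13, 16, 2, 5, 8, 11, 14, 18, 17]
  ![0, 6, 12, 1, 7, 13, 2, 8, 14, 3, 9, 15, 4, 10, 16, 5, 11, 18, 17] (by decide) (by decide)

theorem x19_mem : x19 ∈ alternatingGroup (Fin 19) := by
  rw [Equiv.Perm.mem_alternatingGroup]; decide +kernel
theorem y19_mem : y19 ∈ alternatingGroup (Fin 19) := by
  rw [Equiv.Perm.mem_alternatingGroup]; decide +kernel
theorem rel19 : y19 * x19 * y19⁻¹ = x19 ^ 3 := by decide +kernel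
theorem x19_order : orderOf x19 = 17 := by
  have : Fact (Nat.Prime 17) := ⟨by norm_num⟩
  exact orderOf_eq_prime (by decide +kernel) (by decide +kernel)

/-- **no section `A_r`, `r ≥ 19`, if `p ≠ 17`** -/
theorem no_nineteen {F : Type u} [Field F] [Fintype F] (p : ℕ) [hp : Fact p.Prime] [CharP F p] (h17 : p ≠ 17)
    (r : ℕ) (hr : 19 ≤ r) (H : Subgroup ↥(chevE8.group F)) (K : Subgroup ↥H) [K.Normal]
    (h : Nonempty (↥H ⧸ K ≃* ↥(alternatingGroup (Fin r)))) : False := by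
  have : Fact (Nat.Prime 17) := ⟨by norm_num⟩
  have hm : ¬ p ∣ 17 := fun hd => h17 ((Nat.prime_dvd_prime_iff_eq hp.out (by norm_num)).1 hd)
  obtain ⟨K', _, _, f, hK'⟩ := field_ext' F p hm
  obtain ⟨H', ι, φ, hι, hφ⟩ := start chevE8 f hr H K h
  have hidx : ¬ 17 ∣ (TG chevE8 K').index := by
    refine not_dvd_index inE8 [2, 8, 12, 14, 18, 20, 24, 30] (d := 1) (N := 120) one_ne_zero ?_ ?_ (by norm_num) hK'
      (by decide)
    · rw [one_mul, Cfsg.Agent.S1065.result rfl]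
      simp only [List.map_cons, List.map_nil, List.prod_cons, List.prod_nil]
      ring
    · exact Cfsg.Agent.S1035.result (F := K') rfl (chevE8, 1) (by simp)
  obtain ⟨n, hn, hA⟩ := one_prime (torusData inE8 K') hidx ι hι φ hφ
    (x := ⟨x19, x19_mem⟩) (y := ⟨y19, y19_mem⟩) (k := 3) (by rw [Subgroup.orderOf_mk]; exact x19_order)
    (Subtype.ext rel19)
  exact no_acts hn hA

end Cfsg.Agent.H189.NoNineteen
end

-- part: H189/T3a
section
/-!
# Part T3a of S2654: the multiplicities of the weights of `3^6 ≤ A₁₈ ≤ E₈(q)`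
-/

set_option autoImplicit false

namespace Cfsg.Agent.H189.T3a

open Cfsg.Lie Cfsg.Agent.ChevalleyStructure Cfsg.Agent.ChevalleyStructure.Elts Cfsg.Agent.H190 Cfsg.Agent.H186
  Cfsg.Agent.ChevalleyStructure.RootCombGood Cfsg.Agent.ChevalleyStructure.RootWord
  Cfsg.Agent.ChevalleyStructure.RootComb Cfsg.Agent.ChevalleyStructure.NPerm
  Cfsg.Agent.H189.ExcLift Cfsg.Agent.H189.NoNineteen Cfsg.Agent.H224.E8 Cfsg.Agent.H190.E6 Matrix Module

universe u

section diag

variable {K : Type u} [Field K]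

theorem finrank_eigen_diag {n : Type*} [Fintype n] [DecidableEq n] [DecidableEq K] (d : n → K) :
    finrank K (Module.End.eigenspace ((diagonal d).mulVecLin : Module.End K (n → K)) 1) =
      (Finset.univ.filter fun i => d i = 1).card := by
  have h1 : Module.End.eigenspace ((diagonal d).mulVecLin : Module.End K (n → K)) 1 =
      LinearMap.ker (diagonal fun i => d i - 1).mulVecLin := by
    ext v
    rw [Module.End.mem_eigenspace_iff, one_smul, LinearMap.mem_ker, mulVecLin_apply, mulVecLin_apply]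
    constructor
    · intro h
      funext i
      have := congrFun h i
      rw [mulVec_diagonal] at this ⊢
      rw [sub_mul, one_mul, this, sub_self]
      rfl
    · intro h
      funext i
      have := congrFun h i
      rw [mulVec_diagonal] at this ⊢
      rw [sub_mul, one_mul] at this
      exact sub_eq_zero.1 this
  have h2 := LinearMap.finrank_range_add_finrank_ker (diagonal fun i => d i - 1).mulVecLin
  have h3 := Matrix.rank_diagonal (fun i => d i - 1)
  rw [Matrix.rank] at h3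
  rw [h3, Module.finrank_fintype_fun_eq_card, Fintype.card_subtype] at h2
  rw [h1]
  have h4 := Finset.card_filter_add_card_filter_not (s := (Finset.univ : Finset n)) (fun i => d i = 1)
  have h5 : (Finset.univ.filter fun i => d i - 1 ≠ 0) = (Finset.univ.filter fun i => ¬ d i = 1) := by
    ext i
    simp [sub_eq_zero]
  rw [h5] at h2
  rw [Finset.card_univ] at h4
  omega

end diag

section rep

variable {K : Type u} [Field K]

/-- **toral elements of order 3** -/
theorem finrank_toral {w : K} (hw : IsPrimitiveRoot w 3) {t : GL chevE8.Idx K} (ht : t ∈ chevE8.diagonalSubgroup K)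
    (ht3 : t ^ 3 = 1) :
    finrank K (Module.End.eigenspace ((t : Matrix chevE8.Idx chevE8.Idx K).mulVecLin : Module.End K (chevE8.Idx → K)) 1) ∈
      [80, 86, 92, 134, 248] := by
  classical
  obtain ⟨χ, h0, h1⟩ := HDiag.exists_dmat chevE8 inE8 t ht
  obtain ⟨x, hx⟩ := exists_vec inE8 slE8 (by norm_num) hw ht ht3
  have hc := class3 x
  rw [h1, HDiag.dmat_def, finrank_eigen_diag]
  have hcard : (Finset.univ.filter fun i : chevE8.Idx => Sum.elim (fun _ => (1 : K)) χ i = 1).card =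
      8 + N1 chevE8 3 x 0 := by
    have ea : ∑ i : Fin chevE8.rank, (if Sum.elim (fun _ => (1 : K)) χ (Sum.inl i) = 1 then 1 else 0) = 8 := by
      simp only [Sum.elim_inl, if_true, Finset.sum_const, Finset.card_univ, Fintype.card_fin, smul_eq_mul, mul_one]
      exact rk
    have eb : ∑ r : Fin chevE8.nroots, (if Sum.elim (fun _ : Fin chevE8.rank => (1 : K)) χ (Sum.inr r) = 1 then 1 else 0) =
        N1 chevE8 3 x 0 := by
      unfold N1
      rw [Finset.card_filter]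
      refine Finset.sum_congr rfl fun r _ => ?_
      rw [Sum.elim_inr, ← ent_of_dmat h1 r, hx r]
      refine if_congr ?_ rfl rfl
      rw [hw.zpow_eq_one_iff_dvd, ← ZMod.intCast_zmod_eq_zero_iff_dvd]
    rw [Finset.card_filter, Fintype.sum_sum_type, ea, eb]
  rw [hcard]
  simp only [List.mem_cons, List.not_mem_nil, or_false] at hc ⊢
  omega

theorem iso_pw {n : ↥(chevE8.group K)} (hn : n ∈ NG chevE8 K) : Iso (pw inE8 hn) := by
  have hn' : n⁻¹ ∈ NG chevE8 K := Subgroup.inv_mem _ hn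
  have h := iso_inv_pw hn'
  have e : (pw inE8 hn')⁻¹ = pw inE8 hn := by
    unfold pw
    rw [← map_inv]
    exact congrArg _ (Subtype.ext (inv_inv _))
  rwa [e] at h

theorem pw_eq_one {n : ↥(chevE8.group K)} (hn : n ∈ NG chevE8 K) (h : pw inE8 hn = 1) : n ∈ TG chevE8 K := by
  have h1 : (⟨n, hn⟩ : ↥(chevE8.monomialSubgroup K)) ∈ (permHom inE8 K).ker := h
  rw [ker_permHom] at h1
  exact h1

theorem Rep.eq_one {v : Equiv.Perm (Fin chevE8.nroots)} (h : Rep v 1) : v = 1 := by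
  apply Equiv.ext
  intro r
  apply Fin.ext
  have h1 := h r
  rw [one_mulVec] at h1
  refine (goodE8.co_inj r.2 (v r).2 fun j hj => ?_).symm
  rw [rk] at hj
  exact congrFun h1 ⟨j, hj⟩

variable (E : FusEmb chevE8 K 18 P18)

theorem exists_theta (q : ↥P18) : ∃ M, Rep (pw inE8 (E.mem q)) M := (iso_pw (E.mem q)).2

/-- the action of `P18` on the root lattice -/
noncomputable def theta (q : ↥P18) : Matrix (Fin 8) (Fin 8) ℤ := Classical.choose (exists_theta E q)

theorem theta_rep (q : ↥P18) : Rep (pw inE8 (E.mem q)) (theta E q) := Classical.choose_spec (exists_theta E q)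

theorem theta_mul (p q : ↥P18) : theta E (p * q) = theta E p * theta E q := by
  have h1 := theta_rep E (p * q)
  have h2 := (theta_rep E p).mul (theta_rep E q)
  have e : pw inE8 (E.mem (p * q)) = pw inE8 (E.mem p) * pw inE8 (E.mem q) := by
    unfold pw
    rw [← map_mul]
    congr 1
    apply Subtype.ext
    show ((E.s (p * q) : ↥(chevE8.group K)) : GL chevE8.Idx K) = _
    rw [map_mul]
    rfl
  rw [e] at h1
  exact h1.unique h2

theorem theta_one : theta E 1 = 1 := by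
  have h1 := theta_rep E 1
  have e : pw inE8 (E.mem 1) = 1 := by
    unfold pw
    rw [← map_one (permHom inE8 K)]
    congr 1
    apply Subtype.ext
    show ((E.s 1 : ↥(chevE8.group K)) : GL chevE8.Idx K) = _
    rw [map_one]
    rfl
  rw [e] at h1
  exact h1.unique Rep.one

theorem theta_pow (q : ↥P18) (m : ℕ) : theta E (q ^ m) = theta E q ^ m := by
  induction m with
  | zero => rw [pow_zero, pow_zero, theta_one]
  | succ m ih => rw [pow_succ, pow_succ, theta_mul, ih]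

theorem mem_TG_of_theta {q : ↥P18} (h : theta E q = 1) : E.s q ∈ TG chevE8 K := by
  have h1 := theta_rep E q
  rw [h] at h1
  exact pw_eq_one (E.mem q) (Rep.eq_one h1)

/-- the elements -/
def tr (i j k : Fin 6) : ↥P18 := xP i * xP j * xP k

end rep

/-! ### relations in `P18` -/

theorem ext18 {p q : ↥P18} (h : ((p : ↥(alternatingGroup (Fin 18))) : Equiv.Perm (Fin 18)) = q) : p = q :=
  Subtype.ext (Subtype.ext h)

theorem tr_cube (i j k : Fin 6) : tr i j k ^ 3 = 1 := by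
  apply ext18
  have h : ∀ i j k : Fin 6, (xp i * xp j * xp k) ^ 3 = 1 := by decide +kernel
  exact h i j k

theorem xP_comm (i j : Fin 6) : xP i * xP j = xP j * xP i := Subtype.ext (x_comm i j)

theorem tr_comm (i j k : Fin 6) (q : ↥P18) (hi : xP i * q = q * xP i) (hj : xP j * q = q * xP j)
    (hk : xP k * q = q * xP k) : tr i j k * q = q * tr i j k :=
  ((show Commute (xP i) q from hi).mul_left (show Commute (xP j) q from hj)).mul_left (show Commute (xP k) q from hk)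

theorem tr_comm_x (i j k l : Fin 6) : tr i j k * xP l = xP l * tr i j k :=
  tr_comm i j k _ (xP_comm _ _) (xP_comm _ _) (xP_comm _ _)

theorem tr_comm_tr (i j k i' j' k' : Fin 6) : tr i j k * tr i' j' k' = tr i' j' k' * tr i j k :=
  (tr_comm i' j' k' _ (tr_comm_x _ _ _ _).symm (tr_comm_x _ _ _ _).symm (tr_comm_x _ _ _ _).symm).symm

theorem zA_c : tr 0 1 2 * cP = cP * tr 0 1 2 := ext18 (by decide +kernel)
theorem zA_d : tr 0 1 2 * dP = dP * tr 0 1 2 := ext18 (by decide +kernel)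
theorem zB_c : tr 3 4 5 * cP = cP * tr 3 4 5 := ext18 (by decide +kernel)
theorem zB_d : tr 3 4 5 * dP = dP * tr 3 4 5 := ext18 (by decide +kernel)
theorem bA_d : tr 0 0 1 * dP = dP * tr 0 0 1 := ext18 (by decide +kernel)
theorem bB_c : tr 3 3 4 * cP = cP * tr 3 3 4 := ext18 (by decide +kernel)
theorem x0_d : xP 0 * dP = dP * xP 0 := ext18 (by decide +kernel)
theorem x3_c : xP 3 * cP = cP * xP 3 := ext18 (by decide +kernel)
theorem rel_c1 : cP * tr 0 0 1 = tr 0 1 2 * tr 0 0 1 * cP := ext18 (by decide +kernel)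
theorem rel_d1 : dP * tr 3 3 4 = tr 3 4 5 * tr 3 3 4 * dP := ext18 (by decide +kernel)
theorem rel_c0 : cP * xP 0 = tr 0 0 1 * xP 0 * cP := ext18 (by decide +kernel)
theorem rel_d0 : dP * xP 3 = tr 3 3 4 * xP 3 * dP := ext18 (by decide +kernel)

theorem tr_ne (i j k : Fin 6) (h : (i, j, k) ∈ [((0 : Fin 6), (1 : Fin 6), (2 : Fin 6)), (3, 4, 5), (0, 0, 1), (3, 3, 4)]) :
    tr i j k ≠ 1 := by
  have key : ∀ i j k : Fin 6, (i, j, k) ∈ [((0 : Fin 6), (1 : Fin 6), (2 : Fin 6)), (3, 4, 5), (0, 0, 1), (3, 3, 4)] →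
      xp i * xp j * xp k ≠ 1 := by decide +kernel
  intro h1
  exact key i j k h (congrArg (fun q : ↥P18 => ((q : ↥(alternatingGroup (Fin 18))) : Equiv.Perm (Fin 18))) h1)

section main

variable {K : Type u} [Field K] (E : FusEmb chevE8 K 18 P18)

theorem theta_comm {p q : ↥P18} (h : p * q = q * p) : theta E p * theta E q = theta E q * theta E p := by
  rw [← theta_mul, h, theta_mul]

theorem heis (A g h B g' h' : ↥P18) (hA3 : A ^ 3 = 1) (hB3 : B ^ 3 = 1) (hg3 : g ^ 3 = 1) (hg3' : g' ^ 3 = 1)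
    (hAB : A * B = B * A) (hAg : A * g = g * A) (hAg' : A * g' = g' * A)
    (hBg : B * g = g * B) (hBg' : B * g' = g' * B) (hgg' : g * g' = g' * g)
    (hAh : theta E A * theta E h = theta E h * theta E A) (hBh : B * h = h * B) (hg'h : g' * h = h * g')
    (hAh' : A * h' = h' * A) (hBh' : theta E B * theta E h' = theta E h' * theta E B) (hgh' : g * h' = h' * g)
    (hrel : h * g = A * g * h) (hrel' : h' * g' = B * g' * h') : theta E A = 1 ∨ theta E B = 1 := by
  have hp : ∀ q : ↥P18, q ^ 3 = 1 → theta E q ^ 3 = 1 := fun q hq => by rw [← theta_pow, hq, theta_one]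
  have hi : ∀ q : ↥P18, ∃ x, x * theta E q = 1 := fun q => ⟨theta E q⁻¹, by rw [← theta_mul, inv_mul_cancel, theta_one]⟩
  exact two_heis (hp A hA3) (hp B hB3) (hp g hg3) (hp g' hg3') (hi h) (hi h') (theta_comm E hAB) (theta_comm E hAg)
    (theta_comm E hAg') (theta_comm E hBg) (theta_comm E hBg') (theta_comm E hgg') hAh (theta_comm E hBh)
    (theta_comm E hg'h) (theta_comm E hAh') hBh' (theta_comm E hgh')
    (by rw [← theta_mul, hrel, theta_mul, theta_mul]) (by rw [← theta_mul, hrel', theta_mul, theta_mul])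

theorem dich : (theta E (tr 0 1 2) = 1 ∧ theta E (tr 0 0 1) = 1) ∨ (theta E (tr 3 4 5) = 1 ∧ theta E (tr 3 3 4) = 1) := by
  have hx3 : ∀ i, xP i ^ 3 = 1 := fun i => Subtype.ext (x_cube i)
  have hcA : theta E (tr 0 1 2) = 1 → theta E (tr 0 0 1) * theta E cP = theta E cP * theta E (tr 0 0 1) := by
    intro h
    rw [← theta_mul E cP, rel_c1, theta_mul, theta_mul, h, one_mul]
  have hdB : theta E (tr 3 4 5) = 1 → theta E (tr 3 3 4) * theta E dP = theta E dP * theta E (tr 3 3 4) := by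
    intro h
    rw [← theta_mul E dP, rel_d1, theta_mul, theta_mul, h, one_mul]
  have H2 : theta E (tr 0 1 2) = 1 → theta E (tr 3 4 5) = 1 → theta E (tr 0 0 1) = 1 ∨ theta E (tr 3 3 4) = 1 :=
    fun hz hz' => heis E (tr 0 0 1) (xP 0) cP (tr 3 3 4) (xP 3) dP (tr_cube _ _ _) (tr_cube _ _ _) (hx3 _) (hx3 _)
      (tr_comm_tr _ _ _ _ _ _) (tr_comm_x _ _ _ _) (tr_comm_x _ _ _ _) (tr_comm_x _ _ _ _) (tr_comm_x _ _ _ _)
      (xP_comm _ _) (hcA hz) bB_c x3_c bA_d (hdB hz') x0_d rel_c0 rel_d0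
  rcases heis E (tr 0 1 2) (tr 0 0 1) cP (tr 3 4 5) (tr 3 3 4) dP (tr_cube _ _ _) (tr_cube _ _ _) (tr_cube _ _ _)
    (tr_cube _ _ _) (tr_comm_tr _ _ _ _ _ _) (tr_comm_tr _ _ _ _ _ _) (tr_comm_tr _ _ _ _ _ _) (tr_comm_tr _ _ _ _ _ _)
    (tr_comm_tr _ _ _ _ _ _) (tr_comm_tr _ _ _ _ _ _) (theta_comm E zA_c) zB_c bB_c zA_d (theta_comm E zB_d) bA_d
    rel_c1 rel_d1 with hz | hz'
  · by_cases hb : theta E (tr 0 0 1) = 1
    · exact Or.inl ⟨hz, hb⟩
    by_cases hz' : theta E (tr 3 4 5) = 1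
    · exact Or.inr ⟨hz', (H2 hz hz').resolve_left hb⟩
    · rcases heis E (tr 0 0 1) (xP 0) cP (tr 3 4 5) (tr 3 3 4) dP (tr_cube _ _ _) (tr_cube _ _ _) (hx3 _)
        (tr_cube _ _ _) (tr_comm_tr _ _ _ _ _ _) (tr_comm_x _ _ _ _) (tr_comm_tr _ _ _ _ _ _) (tr_comm_x _ _ _ _)
        (tr_comm_tr _ _ _ _ _ _) (tr_comm_x _ _ _ _).symm (hcA hz) zB_c bB_c bA_d (theta_comm E zB_d) x0_d
        rel_c0 rel_d1 with h | h
      · exact absurd h hb
      · exact absurd h hz'
  · by_cases hb : theta E (tr 3 3 4) = 1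
    · exact Or.inr ⟨hz', hb⟩
    by_cases hz : theta E (tr 0 1 2) = 1
    · exact Or.inl ⟨hz, (H2 hz hz').resolve_right hb⟩
    · rcases heis E (tr 0 1 2) (tr 0 0 1) cP (tr 3 3 4) (xP 3) dP (tr_cube _ _ _) (tr_cube _ _ _) (tr_cube _ _ _)
        (hx3 _) (tr_comm_tr _ _ _ _ _ _) (tr_comm_tr _ _ _ _ _ _) (tr_comm_x _ _ _ _) (tr_comm_tr _ _ _ _ _ _)
        (tr_comm_x _ _ _ _) (tr_comm_x _ _ _ _) (theta_comm E zA_c) bB_c x3_c zA_d (hdB hz') bA_d
        rel_c1 rel_d0 with h | h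
      · exact absurd h hz
      · exact absurd h hb

/-- the representation of `P18` on `K ^ 248` -/
noncomputable def rho : ↥P18 →* Module.End K (chevE8.Idx → K) :=
  ((Matrix.toLinAlgEquiv' : Matrix chevE8.Idx chevE8.Idx K ≃ₐ[K] _).toAlgHom.toMonoidHom).comp
    ((Units.coeHom _).comp ((chevE8.group K).subtype.comp E.s))

theorem rho_apply (q : ↥P18) : rho E q = (((E.s q : ↥(chevE8.group K)) : GL chevE8.Idx K) :
    Matrix chevE8.Idx chevE8.Idx K).mulVecLin := rfl

theorem rho_fus : Fus (rho E) := by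
  intro a Q hQ hQ'
  obtain ⟨h, hh⟩ := E.fus a Q hQ hQ'
  let g : GL chevE8.Idx K := h
  refine ⟨LinearEquiv.ofLinearMap ((g : Matrix chevE8.Idx chevE8.Idx K).mulVecLin)
    (((g⁻¹ : GL chevE8.Idx K) : Matrix chevE8.Idx chevE8.Idx K).mulVecLin) ?_ ?_, ?_⟩
  · rw [← mulVecLin_mul, ← Units.val_mul, mul_inv_cancel, Units.val_one, mulVecLin_one]
  · rw [← mulVecLin_mul, ← Units.val_mul, inv_mul_cancel, Units.val_one, mulVecLin_one]
  · intro q hq v
    have h1 : g * ((E.s ⟨q, hQ hq⟩ : ↥(chevE8.group K)) : GL chevE8.Idx K) =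
        ((E.s ⟨a * q * a⁻¹, hQ' q hq⟩ : ↥(chevE8.group K)) : GL chevE8.Idx K) * g := by
      rw [← hh q hq]
      simp only [Subgroup.coe_mul, Subgroup.coe_inv]
      exact (inv_mul_cancel_right _ _).symm
    have h2 := congrArg (fun x : GL chevE8.Idx K => (x : Matrix chevE8.Idx chevE8.Idx K)) h1
    simp only [Units.val_mul] at h2
    show (g : Matrix chevE8.Idx chevE8.Idx K) *ᵥ (_ *ᵥ v) = _ *ᵥ ((g : Matrix chevE8.Idx chevE8.Idx K) *ᵥ v)
    rw [mulVec_mulVec, mulVec_mulVec]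
    exact congrArg (fun M : Matrix chevE8.Idx chevE8.Idx K => M *ᵥ v) h2

theorem rho_inj {q : ↥P18} (h : rho E q = 1) : q = 1 := by
  rw [rho_apply] at h
  apply E.inj
  rw [map_one]
  apply Subtype.ext
  apply Units.ext
  have h1 : Matrix.toLin' (((E.s q : ↥(chevE8.group K)) : GL chevE8.Idx K) : Matrix chevE8.Idx chevE8.Idx K) =
      Matrix.toLin' (1 : Matrix chevE8.Idx chevE8.Idx K) := by rw [toLin'_one]; exact h
  exact Matrix.toLin'.injective h1

variable {w : K}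

theorem wsp_eq (lam : Fin 6 → ZMod 3) : wsp w (rho E) lam = J w (fun i => rho E (xP i)) lam := by
  ext v
  rw [mem_wsp, mem_J]

theorem rho_x3 (i : Fin 6) : rho E (xP i) ^ 3 = 1 := by
  rw [← map_pow, show xP i ^ 3 = 1 from Subtype.ext (x_cube i), map_one]

theorem rho_comm (i j : Fin 6) : Commute (rho E (xP i)) (rho E (xP j)) := by
  show _ * _ = _ * _
  rw [← map_mul, ← map_mul, xP_comm]

theorem finrank_V : finrank K (chevE8.Idx → K) = 248 := by
  rw [Module.finrank_fintype_fun_eq_card]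
  show Fintype.card (Fin chevE8.rank ⊕ Fin chevE8.nroots) = 248
  rw [Fintype.card_sum, Fintype.card_fin, Fintype.card_fin]
  decide +kernel

theorem cnt_eq (p : (Fin 6 → ZMod 3) → Prop) [DecidablePred p] (b : (Fin 6 → ZMod 3) → Bool) (h : ∀ c, p c ↔ b c = true)
    (l : Fin 7) : (Finset.univ.filter fun c : Fin 6 → ZMod 3 => p c ∧ nz c = l).card = cnt b l := by
  unfold cnt
  rw [Finset.filter_congr fun c _ => and_congr_left' (h c)]

/-- the dimension of the fixed space of `x_i x_j x_k` -/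
theorem dims (hw : IsPrimitiveRoot w 3) (h3 : ((3 : ℕ) : K) ≠ 0) (i j k : Fin 6) :
    finrank K (Module.End.eigenspace (rho E (tr i j k)) 1) =
      ∑ l : Fin 7, cnt (fun c => c i + c j + c k == 0) l * dm w (rho E) (stdw l) := by
  have hadd : ∀ a b : ZMod 3, w ^ (a + b).val = w ^ a.val * w ^ b.val := by
    intro a b
    rw [ZMod.val_add, ← pow_add, ← pow_eq_pow_mod _ hw.pow_eq_one]
  have h1 := finrank_ker (T := fun i => rho E (xP i)) hw h3 (rho_x3 E) (rho_comm E) (e := rho E (tr i j k))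
    (by
      intro l
      show _ * _ = _ * _
      rw [← map_mul, ← map_mul, tr_comm_x])
    (fun c => c i + c j + c k)
    (by
      intro c v hv
      rw [mem_J] at hv
      unfold tr
      rw [map_mul, map_mul, Module.End.mul_apply, Module.End.mul_apply, hv k, map_smul, hv j, map_smul, map_smul, hv i,
        smul_smul, smul_smul, hadd, hadd]
      congr 1
      ring)
  rw [h1]
  have h2 := sum_dm (rho E) (rho_fus E) hw.pow_eq_one (fun c => c i + c j + c k = 0)
  have h4 : ∀ c : Fin 6 → ZMod 3, finrank K (J w (fun i => rho E (xP i)) c) = dm w (rho E) c := by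
    intro c
    unfold dm
    rw [wsp_eq]
  simp only [h4]
  rw [h2]
  refine Finset.sum_congr rfl fun l _ => ?_
  rw [cnt_eq (fun c : Fin 6 → ZMod 3 => c i + c j + c k = 0) (fun c => c i + c j + c k == 0) (fun c => beq_iff_eq.symm) l]

theorem total (hw : IsPrimitiveRoot w 3) (h3 : ((3 : ℕ) : K) ≠ 0) :
    ∑ l : Fin 7, cnt (fun _ => true) l * dm w (rho E) (stdw l) = 248 := by
  have h1 := sum_J3 (T := fun i => rho E (xP i)) hw h3 (rho_x3 E) (rho_comm E)
  rw [finrank_V] at h1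
  have h2 := sum_dm (rho E) (rho_fus E) hw.pow_eq_one (fun _ => True)
  have h4 : ∀ c : Fin 6 → ZMod 3, finrank K (J w (fun i => rho E (xP i)) c) = dm w (rho E) c := by
    intro c
    unfold dm
    rw [wsp_eq]
  simp only [h4] at h1
  rw [← h1]
  simp only [if_true] at h2
  rw [h2]
  refine Finset.sum_congr rfl fun l _ => ?_
  rw [cnt_eq (fun _ : Fin 6 → ZMod 3 => True) (fun _ => true) (fun c => by simp) l]

/-- the fixed space of a toral element -/
theorem toral_dim (hw : IsPrimitiveRoot w 3) {i j k : Fin 6} (h : theta E (tr i j k) = 1) (hne : tr i j k ≠ 1) :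
    finrank K (Module.End.eigenspace (rho E (tr i j k)) 1) ∈ [80, 86, 92, 134] := by
  have hT := mem_TG_of_theta E h
  have h3 : ((E.s (tr i j k) : ↥(chevE8.group K)) : GL chevE8.Idx K) ^ 3 = 1 := by
    have := congrArg (fun q => ((E.s q : ↥(chevE8.group K)) : GL chevE8.Idx K)) (tr_cube i j k)
    simp only [map_pow, map_one] at this
    exact this
  have h1 := finrank_toral hw hT h3
  have h2 : finrank K (Module.End.eigenspace (rho E (tr i j k)) 1) ≠ 248 := by
    intro h5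
    have h6 : Module.End.eigenspace (rho E (tr i j k)) 1 = ⊤ := by
      apply Submodule.eq_top_of_finrank_eq
      rw [h5, finrank_V]
    apply hne
    apply rho_inj E
    refine LinearMap.ext fun v => ?_
    have h7 : v ∈ Module.End.eigenspace (rho E (tr i j k)) 1 := by rw [h6]; trivial
    rwa [Module.End.mem_eigenspace_iff, one_smul] at h7
  rw [rho_apply] at h2 ⊢
  simp only [List.mem_cons, List.not_mem_nil, or_false] at h1 ⊢
  tauto

theorem list7 {f : ℕ → ℕ} {a0 a1 a2 a3 a4 a5 a6 : ℕ} (h : List.map f [0, 1, 2, 3, 4, 5, 6] = [a0, a1, a2, a3, a4, a5, a6])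
    (g : Fin 7 → ℕ) : ∑ l : Fin 7, f l * g l = a0 * g 0 + a1 * g 1 + a2 * g 2 + a3 * g 3 + a4 * g 4 + a5 * g 5 + a6 * g 6 := by
  simp only [List.map_cons, List.map_nil, List.cons.injEq, and_true] at h
  obtain ⟨rfl, rfl, rfl, rfl, rfl, rfl, rfl⟩ := h
  rw [Fin.sum_univ_seven]
  rfl

/-- **T3a** -/
theorem mult (hw : IsPrimitiveRoot w 3) (h3 : ((3 : ℕ) : K) ≠ 0) :
    dm w (rho E) (stdw 3) = 0 ∧ dm w (rho E) (stdw 4) = 0 ∧ dm w (rho E) (stdw 5) = 0 ∧ dm w (rho E) (stdw 6) = 2 := by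
  have ht := total E hw h3
  rw [list7 cnt_all] at ht
  have hmem : ∀ A : ℕ, A ∈ [80, 86, 92, 134] → A = 80 ∨ A = 86 ∨ A = 92 ∨ A = 134 := by
    intro A hA
    simpa using hA
  rcases dich E with ⟨hz, hb⟩ | ⟨hz, hb⟩
  · have e1 := dims E hw h3 0 0 1
    have e2 := dims E hw h3 0 1 2
    rw [list7 cnt_b1] at e1
    rw [list7 cnt_z1] at e2
    have f1 := hmem _ (toral_dim E hw hb (tr_ne _ _ _ (by simp)))
    have f2 := hmem _ (toral_dim E hw hz (tr_ne _ _ _ (by simp)))
    rw [e1] at f1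
    rw [e2] at f2
    exact num (by omega) (by omega) (by omega) f1 f2
  · have e1 := dims E hw h3 3 3 4
    have e2 := dims E hw h3 3 4 5
    rw [list7 cnt_b2] at e1
    rw [list7 cnt_z2] at e2
    have f1 := hmem _ (toral_dim E hw hb (tr_ne _ _ _ (by simp)))
    have f2 := hmem _ (toral_dim E hw hz (tr_ne _ _ _ (by simp)))
    rw [e1] at f1
    rw [e2] at f2
    exact num (by omega) (by omega) (by omega) f1 f2

end main

theorem exists_root {K : Type u} [Field K] [Fintype K] (h : 3 ∣ Fintype.card K - 1) :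
    ∃ w : K, IsPrimitiveRoot w 3 ∧ ((3 : ℕ) : K) ≠ 0 := by
  have : Fact (Nat.Prime 3) := ⟨Nat.prime_three⟩
  obtain ⟨u, hu⟩ := exists_prime_orderOf_dvd_card' (G := Kˣ) 3 (by rw [Nat.card_units, Nat.card_eq_fintype_card]; exact h)
  have h1 : IsPrimitiveRoot (u : K) 3 := by
    rw [IsPrimitiveRoot.coe_units_iff, ← hu]
    exact IsPrimitiveRoot.orderOf u
  refine ⟨u, h1, fun h3 => ?_⟩
  have h4 : ((u : K) - 1) ^ 3 = 0 := by
    have e : ((u : K) - 1) ^ 3 = (u : K) ^ 3 - 1 - ((3 : ℕ) : K) * ((u : K) ^ 2 - u) := by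
      push_cast
      ring
    rw [e, h3, h1.pow_eq_one]
    ring
  exact h1.ne_one (by norm_num) (sub_eq_zero.1 (pow_eq_zero_iff (by norm_num) |>.1 h4))

/-- **The hypotheses of T3b**: from a fusion-respecting embedding of `P18` in the monomial subgroup of `E₈(q)`. -/
theorem t3a {K : Type u} [Field K] [Fintype K] (h3 : 3 ∣ Fintype.card K - 1) (E : FusEmb chevE8 K 18 P18) :
    ∃ w : K, IsPrimitiveRoot w 3 ∧ Fus (rho E) ∧ (∀ lam, 3 ≤ nz lam → nz lam ≤ 5 → wsp w (rho E) lam = ⊥) ∧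
      ∀ lam, nz lam = 6 → finrank K (wsp w (rho E) lam) = 2 := by
  obtain ⟨w, hw, h3'⟩ := exists_root h3
  obtain ⟨m3, m4, m5, m6⟩ := mult E hw h3'
  refine ⟨w, hw, rho_fus E, fun lam h1 h2 => ?_, fun lam h6 => ?_⟩
  · apply Submodule.finrank_eq_zero.1
    show dm w (rho E) lam = 0
    have h4 : nz lam = 3 ∨ nz lam = 4 ∨ nz lam = 5 := by omega
    rcases h4 with h | h | h
    · rw [← m3]; exact dm_eq (rho E) (rho_fus E) hw.pow_eq_one (h.trans (nz_stdw 3).symm)
    · rw [← m4]; exact dm_eq (rho E) (rho_fus E) hw.pow_eq_one (h.trans (nz_stdw 4).symm)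
    · rw [← m5]; exact dm_eq (rho E) (rho_fus E) hw.pow_eq_one (h.trans (nz_stdw 5).symm)
  · rw [← m6]; exact dm_eq (rho E) (rho_fus E) hw.pow_eq_one (h6.trans (nz_stdw 6).symm)

end Cfsg.Agent.H189.T3a
end

-- part: S2654
section
set_option autoImplicit false
open scoped MatrixGroups
open Cfsg

namespace Cfsg.Agent.S2654

/-- Alternating sections of the groups of type E₈. Let `F` be a finite field of characteristic `p` and let `G` be the Chevalley group of type E₈ over `F`. If some subgroup of `G` has a quotient isomorphic to the alternating group of degree `r`, then `r` is at most 17, or 18 in characteristic 3. (Only an upper bound is asserted.) -/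
theorem result {F : Type*} [Field F] [Fintype F] (p : ℕ) [Fact p.Prime] [CharP F p]
    (r : ℕ) (H : Subgroup ↥(Cfsg.Lie.chevE8.group F)) (K : Subgroup ↥H) [K.Normal]
    (h : Nonempty (↥H ⧸ K ≃* ↥(alternatingGroup (Fin r)))) :
    r ≤ 17 + (if p = 3 then 1 else 0) := by
  by_contra hlt
  split_ifs at hlt with hp
  · exact Cfsg.Agent.H189.NoNineteen.no_nineteen p (by rw [hp]; norm_num) r (by omega) H K h
  · obtain ⟨K', _, _, hK', ⟨E⟩⟩ := Cfsg.Agent.H189.ExcLift.exists_fusEmb_E8 (F := F) p (l := 3) (r := 18) ⟨rfl, rfl⟩ hp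
      (r' := r) (by omega) H K h Cfsg.Agent.H224.E8.P18 Cfsg.Agent.H224.E8.isPGroup_P18
    obtain ⟨w, hw, hfus, h345, h6⟩ := Cfsg.Agent.H189.T3a.t3a hK' E
    exact Cfsg.Agent.H224.E8.false_of_wsp hw _ hfus h345 h6

end Cfsg.Agent.S2654
end
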