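import Cfsg.Statements.S5093
import Cfsg.Agent.H747.Hyperfocal
import Cfsg.Agent.Lib.Hyperfocal
set_option linter.all false

set_option autoImplicit false
open Cfsg

namespace Cfsg.Agent.S5093

open Cfsg.Agent.H747 Cfsg.Agent.H802

/-- Hyperfocal subgroup Theorem: for a finite group G with Sylow p-subgroup S, the hyperfocal subgroup of the fusion system of G on S equals S ∩ O^p(G), where O^p(G) is the subgroup generated by the elements of order prime to p. -/
theorem result {G : Type*} [Group G] [Finite G] (p : ℕ) [Fact p.Prime] (S : Sylow p G) : (Cfsg.groupFusionSystem (S : Subgroup G)).hyperfocalSubgroup p = (S : Subgroup G) ⊓ Cfsg.pResidual p G := by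
  have hpow : ∀ {P : Subgroup G} {α : MulAut P} {g : G},
      (∀ x : P, ((α x : P) : G) = g * (x : G) * g⁻¹) → ∀ (n : ℕ) (x : P),
      (((α ^ n) x : P) : G) = g ^ n * (x : G) * (g ^ n)⁻¹ := by
    intro P α g h n
    induction n with
    | zero => intro x; simp
    | succ n ih =>
      intro x
      rw [pow_succ' α, pow_succ' g]
      show ((α ((α ^ n) x) : P) : G) = _
      rw [h, ih]
      group
  apply le_antisymm
  · refine le_inf (hyperfocal_le_base _ p) (hyperfocal_le fun P hP α hα ho x => ?_)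
    -- an element of order prime to `p` inducing `α`
    obtain ⟨-, -, g, hg⟩ := (mem_autGroup_iff _ hP α).1 hα
    have hg' : ∀ x : P, ((α x : P) : G) = g * (x : G) * g⁻¹ := hg
    set k := (orderOf g).factorization p with hkdef
    have h1 : (orderOf (g ^ p ^ k)).Coprime p := by
      have h2 : p ^ k ∣ orderOf g := Nat.ordProj_dvd _ _
      rw [orderOf_pow_of_dvd (pow_ne_zero _ (Fact.out : p.Prime).ne_zero) h2]
      exact (Nat.coprime_ordCompl (Fact.out : p.Prime) (orderOf_pos g).ne').symm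
    obtain ⟨m, hm⟩ := exists_pow_eq_self_of_coprime (x := α) (Nat.Coprime.pow_left k ho.symm)
    have h3 : (g ^ p ^ k) ^ m ∈ Cfsg.pResidual p G :=
      (Cfsg.pResidual p G).pow_mem (Cfsg.Agent.Transfer.Residual.mem_pResidual_of_coprime h1) m
    have h4 : ((α x : P) : G) = (g ^ p ^ k) ^ m * (x : G) * ((g ^ p ^ k) ^ m)⁻¹ := by
      conv_lhs => rw [← hm]
      exact hpow (hpow hg' _) m x
    rw [h4]
    have h5 : (x : G)⁻¹ * ((g ^ p ^ k) ^ m * (x : G) * ((g ^ p ^ k) ^ m)⁻¹) =
        ((x : G)⁻¹ * (g ^ p ^ k) ^ m * (x : G)⁻¹⁻¹) * ((g ^ p ^ k) ^ m)⁻¹ := by group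
    rw [h5]
    exact (Cfsg.pResidual p G).mul_mem (Cfsg.Agent.Transfer.Residual.conj_mem_pResidual h3 _)
      ((Cfsg.pResidual p G).inv_mem h3)
  · refine Cfsg.Agent.Lib.Hyperfocal.hyperfocal S _ (le_normalizer_hyperfocal _ p) ?_
    intro X hX g hg ho x hx
    have hXS : X ≤ (S : Subgroup G) := by
      rcases hX with rfl | hX
      · exact le_rfl
      · exact hX.lt.le
    obtain ⟨α, hα⟩ := exists_conjAut hg
    have hαF : α ∈ (groupFusionSystem (S : Subgroup G)).autGroup X := by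
      rw [mem_autGroup_iff _ hXS]
      exact ⟨hXS, fun x => hXS (α x).2, g, hα⟩
    have hαo : (orderOf α).Coprime p := by
      refine Nat.Coprime.coprime_dvd_left ?_ ho
      apply orderOf_dvd_of_pow_eq_one
      apply MulEquiv.ext
      intro y
      apply Subtype.ext
      rw [hpow hα, pow_orderOf_eq_one]
      simp
    have h1 := hyperfocal_mem_of_coprime hXS hαF hαo (⟨x, hx⟩⁻¹ : X)
    have h2 := Subgroup.inv_mem _ h1
    rw [hα] at h2
    have h3 : ((((⟨x, hx⟩⁻¹ : X) : G))⁻¹ * (g * ((⟨x, hx⟩⁻¹ : X) : G) * g⁻¹))⁻¹ =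
        g * x * g⁻¹ * x⁻¹ := by
      show ((x⁻¹)⁻¹ * (g * x⁻¹ * g⁻¹))⁻¹ = _
      group
    rwa [h3] at h2

end Cfsg.Agent.S5093
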