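import Cfsg.Agent.H758.NConj
import Cfsg.Agent.H757.ExtMain
import Cfsg.Agent.H758.TransSys
import Cfsg.Agent.S5113
import Cfsg.Agent.H757.GrpLemmas
import Cfsg.Agent.H756.TCen
import Cfsg.Agent.S5093
import Cfsg.Agent.H750.SatCritE
import Cfsg.Agent.H760.Layer
import Cfsg.Statements.S5143
set_option linter.all false

-- part: H758/LemB
section
/-!
# Lemma B: trivial extension over a strongly closed subgroup (helper758)

`T` strongly closed in the saturated `F`, `X ≤ Y ≤ S`, `|C_T(X)|` maximal among the conjugates of `X`, `C_T(X) ≤ Y`.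
A `p'`-automorphism of `Y` in `F` trivial on `X` and on `Y ∩ T` extends to `Y T`, trivially on `T`.
-/

set_option autoImplicit false

namespace Cfsg.Agent.H758

open Cfsg Cfsg.FusionSystem Cfsg.Agent.H752

variable {Ω : Type*} [Group Ω] {S T : Subgroup Ω} {p : ℕ}

/-- Automorphisms of `Y` in `F`, trivial on `Y ∩ T` and modulo `T`. -/
def trG (F : FusionSystem S) (T Y : Subgroup Ω) : Subgroup (MulAut Y) where
  carrier := {γ | γ ∈ F.autGroup Y ∧ (∀ x : Y, (x : Ω) ∈ T → γ x = x) ∧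
    ∀ x : Y, (x : Ω)⁻¹ * (γ x : Y) ∈ T}
  one_mem' := ⟨one_mem _, fun _ _ => rfl, fun x => by simp⟩
  mul_mem' := by
    rintro a b ⟨ha, ha1, ha2⟩ ⟨hb, hb1, hb2⟩
    refine ⟨mul_mem ha hb, fun x hx => ?_, fun x => ?_⟩
    · rw [MulAut.mul_apply, hb1 x hx, ha1 x hx]
    · have h3 := mul_mem (hb2 x) (ha2 (b x))
      have h4 : (x : Ω)⁻¹ * (b x : Y) * (((b x : Y) : Ω)⁻¹ * (a (b x) : Y)) =
          (x : Ω)⁻¹ * (a (b x) : Y) := by group
      rw [h4] at h3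
      exact h3
  inv_mem' := by
    rintro a ⟨ha, ha1, ha2⟩
    refine ⟨Subgroup.inv_mem _ ha, fun x hx => ?_, fun x => ?_⟩
    · have h1 := ha1 x hx
      conv_lhs => rw [← h1]
      exact MulAut.inv_apply_self _ a x
    · have h1 := ha2 (a⁻¹ x)
      rw [MulAut.apply_inv_self] at h1
      have h2 := Subgroup.inv_mem _ h1
      simpa using h2

theorem mem_trG {F : FusionSystem S} {Y : Subgroup Ω} {γ : MulAut Y} :
    γ ∈ trG F T Y ↔ γ ∈ F.autGroup Y ∧ (∀ x : Y, (x : Ω) ∈ T → γ x = x) ∧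
    ∀ x : Y, (x : Ω)⁻¹ * (γ x : Y) ∈ T := Iff.rfl

theorem aut_mem_T {F : FusionSystem S} (hT : F.StronglyClosed T) {Y : Subgroup Ω} (hY : Y ≤ S)
    {a : MulAut Y} (ha : a ∈ F.autGroup Y) (x : Y) (hx : (x : Ω) ∈ T) : ((a x : Y) : Ω) ∈ T :=
  H759.StronglyClosed.apply_mem hT ((H802.mem_autGroup_iff F hY a).1 ha) (x := x) hx

theorem trG_normal {F : FusionSystem S} (hT : F.StronglyClosed T) {Y : Subgroup Ω} (hY : Y ≤ S)
    {a k : MulAut Y} (ha : a ∈ F.autGroup Y) (hk : k ∈ trG F T Y) : a * k * a⁻¹ ∈ trG F T Y := by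
  obtain ⟨hk0, hk1, hk2⟩ := hk
  have hai := Subgroup.inv_mem _ ha
  refine ⟨mul_mem (mul_mem ha hk0) hai, fun x hx => ?_, fun x => ?_⟩
  · rw [MulAut.mul_apply, MulAut.mul_apply, hk1 _ (aut_mem_T hT hY hai x hx), MulAut.apply_inv_self]
  · set y := a⁻¹ x with hy
    have hxy : a y = x := by rw [hy, MulAut.apply_inv_self]
    have h1 : (x : Ω)⁻¹ * ((a * k * a⁻¹) x : Y) = ((a (y⁻¹ * k y) : Y) : Ω) := by
      rw [MulAut.mul_apply, MulAut.mul_apply, ← hy, map_mul, map_inv, hxy]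
      rfl
    rw [h1]
    refine aut_mem_T hT hY ha _ ?_
    exact hk2 y

theorem trG_isPGroup [Fact p.Prime] [Finite S] (hS : IsPGroup p S) {F : FusionSystem S}
    {Y : Subgroup Ω} (hY : Y ≤ S) : IsPGroup p (trG F T Y) := by
  have hfY : Finite Y := H802.finite_of_le hY
  have hfM := finite_mulAut Y
  refine H757.isPGroup_of_coprime fun γ hγ hc => ?_
  refine H757.aut_eq_one_of_coprime (isPGroup_mono hS hY) hc (T.subgroupOf Y) ?_ ?_
  · intro x hx
    exact hγ.2.1 x hx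
  · intro x
    exact hγ.2.2 x

/-- For `Y` fully automized these automorphisms are induced by `S`. -/
theorem trG_le [Fact p.Prime] [Finite S] (hS : IsPGroup p S) {F : FusionSystem S}
    (hT : F.StronglyClosed T) {Y : Subgroup Ω} (hY : F.IsFullyAutomized p Y) :
    trG F T Y ≤ autInducedBy S Y := by
  have hfY : Finite Y := H802.finite_of_le hY.1
  exact H759.le_autInducedBy_of_normal hY _ (fun γ hγ => hγ.1)
    (fun a ha k hk => trG_normal hT hY.1 ha hk) (trG_isPGroup hS hY.1)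

/-- Lemma B, one step, for fully normalized `Y`. -/
theorem lemB_step [Fact p.Prime] [Finite S] (hS : IsPGroup p S) {F : FusionSystem S}
    (hF : F.IsSaturated p) (hT : F.StronglyClosed T) {X Y : Subgroup Ω}
    (hYn : F.IsFullyNormalized Y) (hXY : X ≤ Y) (hCY : centralizerIn T X ≤ Y) {d : Ω → Ω}
    (hd : Mp F Y d) (hpp : PP p Y d) (hX : ∀ x ∈ X, d x = x) (hdT : ∀ x ∈ Y, x ∈ T → d x = x) :
    ∃ d', Mp F (Y ⊔ (T ⊓ Subgroup.normalizer (Y : Set Ω))) d' ∧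
      PP p (Y ⊔ (T ⊓ Subgroup.normalizer (Y : Set Ω))) d' ∧ (∀ y ∈ Y, d' y = d y) ∧
      ∀ t ∈ T ⊓ Subgroup.normalizer (Y : Set Ω), d' t = t := by
  have hYS : Y ≤ S := hYn.1
  have hfY : Finite Y := H802.finite_of_le hYS
  have hYa := H802.isFullyAutomized_of_isFullyNormalized hS hF hYn
  have hYr := H802.isReceptive_of_isFullyNormalized hS hF hYn
  obtain ⟨α, hα, hαd⟩ := hd.exists_aut hpp.1
  obtain ⟨N, ψ, hψ, hYN, hψe, hN⟩ := H753.mp_extend hYr hd (fun y =>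
    ⟨fun hy => hd.surj hpp.1 hy, fun ⟨x, hx, h⟩ => h ▸ hpp.1 x hx⟩)
  -- `N_T(Y)` lies in the extender
  have hVN : T ⊓ Subgroup.normalizer (Y : Set Ω) ≤ N := by
    rintro t ⟨htT, htn⟩
    have htS : t ∈ S := hT.1 htT
    refine hN t htS htn ?_
    obtain ⟨c, hc⟩ := H757.exists_cj htn
    have hcF : c ∈ F.autGroup Y := hc.mem_autGroup hYS htS
    have hγ : α * c * α⁻¹ * c⁻¹ ∈ trG F T Y := by
      refine ⟨mul_mem (mul_mem (mul_mem hα hcF) (Subgroup.inv_mem _ hα)) (Subgroup.inv_mem _ hcF),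
        fun x hx => ?_, fun x => ?_⟩
      · have hci := Subgroup.inv_mem _ hcF
        have h1 : ((c⁻¹ x : Y) : Ω) ∈ T := aut_mem_T hT hYS hci x hx
        have hαT : ∀ y : Y, (y : Ω) ∈ T → α y = y := fun y hy => Subtype.ext (by
          rw [← hαd y y.2]; exact hdT y y.2 hy)
        have hαi : ∀ y : Y, (y : Ω) ∈ T → α⁻¹ y = y := fun y hy => by
          conv_lhs => rw [← hαT y hy]
          exact MulAut.inv_apply_self _ α y
        rw [MulAut.mul_apply, MulAut.mul_apply, MulAut.mul_apply, hαi _ h1, MulAut.apply_inv_self,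
          hαT x hx]
      · -- modulo `T`
        set z := α⁻¹ (c⁻¹ x) with hz
        have h1 : α z = c⁻¹ x := by rw [hz, MulAut.apply_inv_self]
        have h2 : ((c z : Y) : Ω) = t * z * t⁻¹ := hc z
        have h3 : ((c⁻¹ x : Y) : Ω) = t⁻¹ * x * t := by
          have := hc.inv x
          simpa using this
        -- `c z = z * (z⁻¹ t z t⁻¹)`
        have h4 : (z : Ω)⁻¹ * (c z : Y) ∈ T := by
          rw [h2]
          have h5 : (z : Ω)⁻¹ * (t * z * t⁻¹) = ((z : Ω)⁻¹ * t * (z : Ω)⁻¹⁻¹) * t⁻¹ := by group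
          rw [h5]
          exact mul_mem (H759.StronglyClosed.conj_mem hT (Subgroup.inv_mem _ (hYS z.2)) htT)
            (Subgroup.inv_mem _ htT)
        have h5 : ((α (z⁻¹ * c z) : Y) : Ω) ∈ T := aut_mem_T hT hYS hα _ h4
        have h6 : ((α * c * α⁻¹ * c⁻¹) x : Y) = α (c z) := by
          rw [MulAut.mul_apply, MulAut.mul_apply, MulAut.mul_apply]
        have h7 : α (c z) = α z * α (z⁻¹ * c z) := by rw [← map_mul]; congr 1; group
        rw [h6, h7, h1]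
        have h8 : (x : Ω)⁻¹ * ((c⁻¹ x * α (z⁻¹ * c z) : Y) : Ω) =
            ((x : Ω)⁻¹ * t⁻¹ * (x : Ω)⁻¹⁻¹) * t * ((α (z⁻¹ * c z) : Y) : Ω) := by
          rw [Subgroup.coe_mul, h3]
          group
        rw [h8]
        exact mul_mem (mul_mem (H759.StronglyClosed.conj_mem hT (Subgroup.inv_mem _ (hYS x.2))
          (Subgroup.inv_mem _ htT)) htT) h5
    obtain ⟨g, hg, hgc⟩ := H757.exists_cj_of_mem (trG_le hS hT hYa hγ)
    refine ⟨g * t, mul_mem hg htS, fun x hx => ?_⟩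
    have h9 := (hgc.mul hc) (α ⟨x, hx⟩)
    have h10 : (α * c * α⁻¹ * c⁻¹ * c) (α ⟨x, hx⟩) = α (c ⟨x, hx⟩) := by
      simp [MulAut.mul_apply]
    rw [h10] at h9
    have h11 : t * x * t⁻¹ ∈ Y := (Subgroup.mem_normalizer_iff.1 htn x).1 hx
    rw [hαd _ h11, hαd x hx]
    have h12 : (⟨t * x * t⁻¹, h11⟩ : Y) = c ⟨x, hx⟩ := Subtype.ext (hc ⟨x, hx⟩).symm
    rw [h12, h9]
  set V := T ⊓ Subgroup.normalizer (Y : Set Ω) with hV
  have hVS : V ≤ S := inf_le_left.trans hT.1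
  have hRS : Y ⊔ V ≤ S := sup_le hYS hVS
  have hfR : Finite ↥(Y ⊔ V) := H802.finite_of_le hRS
  have hψR : Mp F (Y ⊔ V) ψ := hψ.res (sup_le hYN hVN)
  have hVV : ∀ t ∈ V, ψ t ∈ V := by
    intro t ht
    refine ⟨mp_mem_of_stronglyClosed hT hψ (hVN ht) ht.1, ?_⟩
    refine H757.mem_normalizer_of_conj_mem fun y hy => ?_
    obtain ⟨x, hx, rfl⟩ := hd.surj hpp.1 hy
    have h1 : t * x * t⁻¹ ∈ Y := (Subgroup.mem_normalizer_iff.1 ht.2 x).1 hx
    rw [← hψe x hx, ← mp_conj_eq hψ (hVN ht) (hYN hx), hψe _ h1]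
    exact hpp.1 _ h1
  have hm : ∀ x ∈ Y ⊔ V, ψ x ∈ Y ⊔ V := mp_sup_mem hψR
    (fun x hx => (le_sup_left : Y ≤ _) (by rw [hψe x hx]; exact hpp.1 x hx))
    (fun x hx => (le_sup_right : V ≤ Y ⊔ V) (hVV x hx))
  obtain ⟨m, hδpp, hδ, hδe⟩ := exists_iter_pp (p := p) hψR hm
  have h1 : ∀ y ∈ Y, ψ^[m] y = d y := hδe _ _ le_sup_left hpp hψe
  refine ⟨ψ^[m], hδ, hδpp, h1, ?_⟩
  refine axb_fix (isPGroup_mono hS hRS) hδ hδpp (R := V) (B := X) le_sup_right
    (hXY.trans le_sup_left) ?_ (iter_mem hVV m) ?_ ?_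
  · intro b hb r hr
    have hbY := hXY hb
    refine ⟨H759.StronglyClosed.conj_mem hT (hYS hbY) hr.1, ?_⟩
    exact mul_mem (mul_mem (Subgroup.le_normalizer hbY) hr.2)
      (Subgroup.inv_mem _ (Subgroup.le_normalizer hbY))
  · intro b hb
    rw [h1 b (hXY hb), hX b hb]
  · intro r hr hcomm
    have h2 : r ∈ Y := hCY ⟨hr.1, Subgroup.mem_centralizer_iff.2 hcomm⟩
    rw [h1 r h2, hdT r h2 hr.1]

/-- Transport of a `p'`-automorphism. -/
theorem pp_transport {F : FusionSystem S} {W Y Y' : Subgroup Ω} {ψ d : Ω → Ω} (hψ : Mp F W ψ)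
    (hYW : Y ≤ W) (hY' : ∀ y, y ∈ Y' ↔ ∃ x ∈ Y, ψ x = y) (hd : Mp F Y d) (hpp : PP p Y d) :
    ∃ d', Mp F Y' d' ∧ PP p Y' d' ∧ ∀ x ∈ Y, d' (ψ x) = ψ (d x) := by
  obtain ⟨ψ', hψ', h1, h2⟩ := hψ.exists_symm hYW hY'
  have h3 : ∀ x ∈ Y, ψ (d (ψ' (ψ x))) = ψ (d x) := fun x hx => by rw [h1 x hx]
  have h4 : ∀ y ∈ Y', ψ (d (ψ' y)) ∈ Y' := fun y hy =>
    (hY' _).2 ⟨_, hpp.1 _ (h2 y hy).1, rfl⟩
  refine ⟨fun y => ψ (d (ψ' y)), ?_, ⟨h4, ?_⟩, h3⟩
  · exact (hψ'.comp hd (fun y hy => (h2 y hy).1)).comp hψ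
      (fun y hy => hYW (hpp.1 _ (h2 y hy).1))
  · obtain ⟨hm, n, hn, hid⟩ := hpp
    refine ⟨n, hn, fun y hy => ?_⟩
    have key : ∀ k : ℕ, ∀ x ∈ Y, (fun y => ψ (d (ψ' y)))^[k] (ψ x) = ψ (d^[k] x) := by
      intro k
      induction k with
      | zero => intro x _; rfl
      | succ k ih =>
        intro x hx
        rw [Function.iterate_succ_apply, Function.iterate_succ_apply]
        show (fun y => ψ (d (ψ' y)))^[k] (ψ (d (ψ' (ψ x)))) = _
        rw [h3 x hx]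
        exact ih _ (hm x hx)
    obtain ⟨x, hx, rfl⟩ := (hY' y).1 hy
    rw [key n x hx, hid x hx]

/-- **Lemma B.** -/
theorem lemB [Fact p.Prime] [Finite S] (hS : IsPGroup p S) {F : FusionSystem S}
    (hF : F.IsSaturated p) (hT : F.StronglyClosed T) {X : Subgroup Ω}
    (hmax : ∀ V : Subgroup Ω, F.IsConj X V →
      Nat.card (centralizerIn T V) ≤ Nat.card (centralizerIn T X)) {Y : Subgroup Ω}
    (hXY : X ≤ Y) (hCY : centralizerIn T X ≤ Y) {d : Ω → Ω}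
    (hd : Mp F Y d) (hpp : PP p Y d) (hX : ∀ x ∈ X, d x = x) (hdT : ∀ x ∈ Y, x ∈ T → d x = x) :
    ∃ d', Mp F (Y ⊔ T) d' ∧ PP p (Y ⊔ T) d' ∧ (∀ y ∈ Y, d' y = d y) ∧ ∀ t ∈ T, d' t = t := by
  -- induction on the index
  induction hn : Nat.card S - Nat.card Y using Nat.strong_induction_on generalizing Y d with
  | _ n IH =>
    by_cases hTY : T ≤ Y
    · refine ⟨d, ?_, ?_, fun _ _ => rfl, fun t ht => hdT t (hTY ht) ht⟩
      · rwa [sup_eq_left.2 hTY]
      · rwa [sup_eq_left.2 hTY]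
    have hYS : Y ≤ S := hd.le
    obtain ⟨Y', hYY', hY'n⟩ := H802.exists_isFullyNormalized hS hF hYS
    obtain ⟨ψ, hψ, hψY, hψN⟩ := exists_mp_normalizer hS hF hYY' hY'n
    have hYN : Y ≤ normalizerIn S Y := le_inf hYS Subgroup.le_normalizer
    obtain ⟨d₁, hd₁, hpp₁, he₁⟩ := pp_transport hψ hYN hψY hd hpp
    -- the image of `X`
    obtain ⟨X', hX', hX'S, hX'c⟩ := hψ.exists_image (hXY.trans hYN)
    have hXX' : F.IsConj X X' := by
      obtain ⟨φ, hφ, hφψ⟩ := hψ.res (hXY.trans hYN)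
      refine ⟨φ, hφ, ?_⟩
      ext y
      rw [hX']
      constructor
      · rintro ⟨x, rfl⟩
        exact ⟨x, x.2, (hφψ x x.2).symm⟩
      · rintro ⟨x, hx, rfl⟩
        exact ⟨⟨x, hx⟩, hφψ x hx⟩
    have hX'Y' : X' ≤ Y' := by
      intro y hy
      obtain ⟨x, hx, rfl⟩ := (hX' y).1 hy
      exact (hψY _).2 ⟨x, hXY hx, rfl⟩
    -- `C_T(X') = ψ(C_T(X))`
    have hCN : centralizerIn T X ≤ normalizerIn S Y := hCY.trans hYN
    obtain ⟨C', hC', hC'S, hC'c⟩ := hψ.exists_image hCN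
    have hC'le : C' ≤ centralizerIn T X' := by
      intro y hy
      obtain ⟨c, hc, rfl⟩ := (hC' y).1 hy
      refine ⟨mp_mem_of_stronglyClosed hT hψ (hCN hc) hc.1, Subgroup.mem_centralizer_iff.2 ?_⟩
      intro z hz
      obtain ⟨x, hx, rfl⟩ := (hX' z).1 hz
      have hxN := hYN (hXY hx)
      rw [← hψ.mul hxN (hCN hc), ← hψ.mul (hCN hc) hxN, Subgroup.mem_centralizer_iff.1 hc.2 x hx]
    have hfC : Finite (centralizerIn T X') := H802.finite_of_le (inf_le_left.trans hT.1)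
    have hC'e : C' = centralizerIn T X' :=
      Subgroup.eq_of_le_of_card_ge hC'le (hC'c ▸ hmax X' hXX')
    have hCY' : centralizerIn T X' ≤ Y' := by
      rw [← hC'e]
      intro y hy
      obtain ⟨c, hc, rfl⟩ := (hC' y).1 hy
      exact (hψY _).2 ⟨c, hCY hc, rfl⟩
    obtain ⟨e, he, hepp, hee, heT⟩ := lemB_step hS hF hT hY'n hX'Y' hCY' hd₁ hpp₁
      (by
        intro y hy
        obtain ⟨x, hx, rfl⟩ := (hX' y).1 hy
        rw [he₁ x (hXY hx), hX x hx])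
      (by
        intro y hy hyT
        obtain ⟨x, hx, rfl⟩ := (hψY y).1 hy
        have hxT := mp_mem_of_stronglyClosed' hT hψ (hYN hx) hyT
        rw [he₁ x hx, hdT x hx hxT])
    -- pull back
    set V := T ⊓ Subgroup.normalizer (Y : Set Ω) with hV
    have hVN : V ≤ normalizerIn S Y := fun t ht => ⟨hT.1 ht.1, ht.2⟩
    have hRN : Y ⊔ V ≤ normalizerIn S Y := sup_le hYN hVN
    obtain ⟨R', hR', hR'S, -⟩ := hψ.exists_image hRN
    obtain ⟨ψ', hψ', hl, hr⟩ := hψ.exists_symm hRN hR'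
    have hVV' : ∀ t ∈ V, ψ t ∈ T ⊓ Subgroup.normalizer (Y' : Set Ω) := fun t ht =>
      ⟨mp_mem_of_stronglyClosed hT hψ (hVN ht) ht.1, (hψN t (hVN ht)).2⟩
    have hψR : Mp F (Y ⊔ V) ψ := hψ.res hRN
    have hR'le : R' ≤ Y' ⊔ (T ⊓ Subgroup.normalizer (Y' : Set Ω)) := by
      intro y hy
      obtain ⟨x, hx, rfl⟩ := (hR' y).1 hy
      exact mp_sup_mem hψR (fun a ha => (le_sup_left : Y' ≤ _) ((hψY _).2 ⟨a, ha, rfl⟩))
        (fun a ha => (le_sup_right : T ⊓ Subgroup.normalizer (Y' : Set Ω) ≤ _) (hVV' a ha)) x hx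
    have hecomp : Mp F (Y ⊔ V) (fun x => e (ψ x)) := hψR.comp he (fun x hx =>
      hR'le ((hR' _).2 ⟨x, hx, rfl⟩))
    have heR' : ∀ x ∈ Y ⊔ V, e (ψ x) ∈ R' := mp_sup_mem hecomp
      (fun a ha => by
        show e (ψ a) ∈ R'
        rw [hee _ ((hψY _).2 ⟨a, ha, rfl⟩), he₁ a ha]
        exact (hR' _).2 ⟨_, (le_sup_left : Y ≤ _) (hpp.1 a ha), rfl⟩)
      (fun a ha => by
        show e (ψ a) ∈ R'
        rw [heT _ (hVV' a ha)]
        exact (hR' _).2 ⟨_, (le_sup_right : V ≤ Y ⊔ V) ha, rfl⟩)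
    have heR'' : ∀ y ∈ R', e y ∈ R' := fun y hy => by
      obtain ⟨x, hx, rfl⟩ := (hR' y).1 hy
      exact heR' x hx
    have hfR : Finite ↥(Y ⊔ V) := H802.finite_of_le hψR.le
    obtain ⟨f, hf, hfpp, hfe⟩ := pp_transport (p := p) (Y := R') (Y' := Y ⊔ V) hψ' le_rfl
      (fun x => ⟨fun hx => ⟨ψ x, (hR' _).2 ⟨x, hx, rfl⟩, hl x hx⟩, fun ⟨y, hy, h⟩ => h ▸ (hr y hy).1⟩)
      (he.res hR'le) (hepp.res hR'le heR'')
    have hf1 : ∀ x ∈ Y ⊔ V, f x = ψ' (e (ψ x)) := fun x hx => by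
      have h1 := hfe (ψ x) ((hR' _).2 ⟨x, hx, rfl⟩)
      rwa [hl x hx] at h1
    have hfY : ∀ y ∈ Y, f y = d y := fun y hy => by
      rw [hf1 y ((le_sup_left : Y ≤ _) hy), hee _ ((hψY _).2 ⟨y, hy, rfl⟩), he₁ y hy,
        hl _ ((le_sup_left : Y ≤ _) (hpp.1 y hy))]
    have hfV : ∀ t ∈ V, f t = t := fun t ht => by
      have htR : t ∈ Y ⊔ V := (le_sup_right : V ≤ _) ht
      rw [hf1 t htR, heT _ (hVV' t ht), hl t htR]
    have hlt : Nat.card Y < Nat.card ↥(Y ⊔ V) := card_lt_card_sup hS hT hYS hTY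
    have hle : Nat.card ↥(Y ⊔ V) ≤ Nat.card S :=
      Nat.card_le_card_of_injective (Subgroup.inclusion hψR.le) (Subgroup.inclusion_injective _)
    obtain ⟨d', h1, h2, h3, h4⟩ := IH (Nat.card S - Nat.card ↥(Y ⊔ V)) (by omega)
      (hXY.trans le_sup_left) (hCY.trans le_sup_left) hf hfpp
      (fun x hx => by rw [hfY x (hXY hx), hX x hx])
      (fun x hx hxT => by
        obtain ⟨y, hy, t, ht, rfl⟩ := (H757.mem_sup_of_normalizes (fun t ht => ht.2 :
          V ≤ Subgroup.normalizer (Y : Set Ω))).1 hx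
        have hyT : y ∈ T := by
          have h5 := mul_mem hxT (Subgroup.inv_mem _ ht.1)
          rwa [mul_inv_cancel_right] at h5
        rw [hf.mul ((le_sup_left : Y ≤ _) hy) ((le_sup_right : V ≤ _) ht), hfY y hy, hfV t ht,
          hdT y hy hyT]) rfl
    have hsup : (Y ⊔ V) ⊔ T = Y ⊔ T := by
      rw [sup_assoc, sup_eq_right.2 (inf_le_left : V ≤ T)]
    rw [hsup] at h1 h2
    exact ⟨d', h1, h2, fun y hy => by rw [h3 y ((le_sup_left : Y ≤ _) hy), hfY y hy], h4⟩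

end Cfsg.Agent.H758
end

-- part: H758/ProdSys
section
/-!
# The family of product systems `E R` (helper758)

`E` a normal subsystem of `F` over `T`; for `T ≤ R ≤ S` let `D R` be the unique saturated subsystem of `F` over `R` in
which `E` has `p`-power index (S5143).
-/

set_option autoImplicit false

namespace Cfsg.Agent.H758

open Cfsg Cfsg.FusionSystem Cfsg.Agent.H752

variable {Ω : Type*} [Group Ω] {S T : Subgroup Ω} {p : ℕ}

/-! ### Isomorphisms with inverse -/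

/-- `f : P → Q` is an isomorphism of the system with inverse `g`. -/
structure IP (F : FusionSystem S) (P Q : Subgroup Ω) (f g : Ω → Ω) : Prop where
  mp : Mp F P f
  mp' : Mp F Q g
  l : ∀ x ∈ P, f x ∈ Q ∧ g (f x) = x
  r : ∀ y ∈ Q, g y ∈ P ∧ f (g y) = y

theorem IP.symm {F : FusionSystem S} {P Q : Subgroup Ω} {f g : Ω → Ω} (h : IP F P Q f g) :
    IP F Q P g f := ⟨h.mp', h.mp, h.r, h.l⟩

theorem exists_ip {F : FusionSystem S} {P : Subgroup Ω} {f : Ω → Ω} (hf : Mp F P f) :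
    ∃ Q g, IP F P Q f g := by
  obtain ⟨Q, hQ, hQS, -⟩ := hf.exists_image le_rfl
  obtain ⟨g, hg, h1, h2⟩ := hf.exists_symm le_rfl hQ
  exact ⟨Q, g, hf, hg, fun x hx => ⟨(hQ _).2 ⟨x, hx, rfl⟩, h1 x hx⟩, h2⟩

theorem IP.res {F : FusionSystem S} {P Q : Subgroup Ω} {f g : Ω → Ω} (h : IP F P Q f g)
    {R : Subgroup Ω} (hR : R ≤ P) :
    ∃ R', R' ≤ Q ∧ IP F R R' f g ∧ ∀ y, y ∈ R' ↔ ∃ x ∈ R, f x = y := by
  obtain ⟨R', hR', hR'S, -⟩ := h.mp.exists_image hR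
  have hle : R' ≤ Q := fun y hy => by
    obtain ⟨x, hx, rfl⟩ := (hR' y).1 hy
    exact (h.l x (hR hx)).1
  refine ⟨R', hle, ⟨h.mp.res hR, h.mp'.res hle, fun x hx => ⟨(hR' _).2 ⟨x, hx, rfl⟩,
    (h.l x (hR hx)).2⟩, fun y hy => ⟨?_, (h.r y (hle hy)).2⟩⟩, hR'⟩
  obtain ⟨x, hx, rfl⟩ := (hR' y).1 hy
  rw [(h.l x (hR hx)).2]
  exact hx

theorem IP.mem_iff {F : FusionSystem S} {P Q : Subgroup Ω} {f g : Ω → Ω} (h : IP F P Q f g)
    {y : Ω} : y ∈ Q ↔ ∃ x ∈ P, f x = y :=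
  ⟨fun hy => ⟨g y, (h.r y hy).1, (h.r y hy).2⟩, fun ⟨x, hx, e⟩ => e ▸ (h.l x hx).1⟩

/-! ### `p`-power index in terms of functions -/

theorem mem_pResidual_of_coprime' {P : Subgroup Ω} {D : FusionSystem S} {α : MulAut P}
    (hα : α ∈ D.autGroup P) (hc : (orderOf α).Coprime p) :
    α ∈ (pResidual p (D.autGroup P)).map (D.autGroup P).subtype :=
  ⟨⟨α, hα⟩, mem_residual hα hc, rfl⟩

theorem pPower_iff [Fact p.Prime] {R : Subgroup Ω} [Finite R] {E : FusionSystem T}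
    {D : FusionSystem R} (hTR : T ≤ R) : E.HasPPowerIndexIn D p ↔ E.IsSubsystemOf D ∧
      (∀ (P : Subgroup Ω) (f : Ω → Ω), Mp D P f → PP p P f → ∀ x ∈ P, x⁻¹ * f x ∈ T) ∧
      ∀ (P : Subgroup Ω) (f : Ω → Ω), P ≤ T → Mp D P f → PP p P f → Mp E P f := by
  constructor
  · rintro ⟨h1, h2, h3⟩
    refine ⟨h1, fun P f hf hpp x hx => ?_, fun P f hP hf hpp => ?_⟩
    · have hfP : Finite P := H802.finite_of_le hf.le
      obtain ⟨α, hα, hαf⟩ := hf.exists_aut hpp.1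
      have h4 := h2 (H747.hyperfocal_mem_of_coprime hf.le hα (hpp.orderOf_coprime hαf) ⟨x, hx⟩)
      rw [hαf x hx]
      exact h4
    · have hfP : Finite P := H802.finite_of_le hf.le
      obtain ⟨α, hα, hαf⟩ := hf.exists_aut hpp.1
      exact mp_of_autGroup hP (h3 P hP (mem_pResidual_of_coprime' hα (hpp.orderOf_coprime hαf))) hαf
  · rintro ⟨h1, h2, h3⟩
    refine ⟨h1, H747.hyperfocal_le fun P hP α hα hc x => ?_, fun P hP => ?_⟩
    · have hfP : Finite P := H802.finite_of_le hP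
      have hval : ∀ (x : Ω) (hx : x ∈ P), ex (fun x => ((α x : P) : Ω)) x = (α ⟨x, hx⟩ : P) :=
        fun x hx => ex_apply _ hx
      have h4 := h2 P _ ((mp_iff_autGroup hP α).1 hα) (pp_of_aut hval hc) x x.2
      rwa [ex_coe] at h4
    · rw [Subgroup.map_le_iff_le_comap]
      refine (Subgroup.closure_le _).2 ?_
      rintro ⟨α, hα⟩ hc
      have hPR : P ≤ R := hP.trans hTR
      have hfP : Finite P := H802.finite_of_le hPR
      have hc' : (orderOf α).Coprime p := by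
        have h5 : (orderOf (⟨α, hα⟩ : D.autGroup P)).Coprime p := hc
        rwa [Subgroup.orderOf_mk] at h5
      have hval : ∀ (x : Ω) (hx : x ∈ P), ex (fun x => ((α x : P) : Ω)) x = (α ⟨x, hx⟩ : P) :=
        fun x hx => ex_apply _ hx
      have h4 := h3 P _ hP ((mp_iff_autGroup hPR α).1 hα) (pp_of_aut hval hc')
      exact (mp_iff_autGroup hP α).2 h4

/-- The family of product systems. -/
structure ESys (p : ℕ) (F : FusionSystem S) (E : FusionSystem T)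
    (D : ∀ R : Subgroup Ω, FusionSystem R) : Prop where
  sat : ∀ R, T ≤ R → R ≤ S → (D R).IsSaturated p
  le : ∀ R, T ≤ R → R ≤ S → (D R).IsSubsystemOf F
  idx : ∀ R, T ≤ R → R ≤ S → E.HasPPowerIndexIn (D R) p
  uniq : ∀ R, T ≤ R → R ≤ S → ∀ D' : FusionSystem R, D'.IsSaturated p → D'.IsSubsystemOf F →
    E.HasPPowerIndexIn D' p → D' = D R

/-- The product hypothesis, for one normal subsystem. -/
def ProdHyp (p : ℕ) (F : FusionSystem S) (E : FusionSystem T) : Prop :=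
  ∀ R, T ≤ R → R ≤ S → ∃ D : FusionSystem R, D.IsSaturated p ∧ D.IsSubsystemOf F ∧
    E.HasPPowerIndexIn D p ∧ ∀ D' : FusionSystem R, D'.IsSaturated p → D'.IsSubsystemOf F →
    E.HasPPowerIndexIn D' p → D' = D

theorem exists_eSys {F : FusionSystem S} {E : FusionSystem T} (h : ProdHyp p F E) :
    ∃ D : ∀ R : Subgroup Ω, FusionSystem R, ESys p F E D := by
  classical
  let D : ∀ R : Subgroup Ω, FusionSystem R := fun R =>
    if hR : T ≤ R ∧ R ≤ S then (h R hR.1 hR.2).choose else innerFusionSystem R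
  have hD : ∀ R (h1 : T ≤ R) (h2 : R ≤ S), D R = (h R h1 h2).choose := fun R h1 h2 =>
    dif_pos ⟨h1, h2⟩
  refine ⟨D, fun R h1 h2 => ?_, fun R h1 h2 => ?_, fun R h1 h2 => ?_, fun R h1 h2 => ?_⟩
  · rw [hD R h1 h2]; exact (h R h1 h2).choose_spec.1
  · rw [hD R h1 h2]; exact (h R h1 h2).choose_spec.2.1
  · rw [hD R h1 h2]; exact (h R h1 h2).choose_spec.2.2.1
  · rw [hD R h1 h2]; exact (h R h1 h2).choose_spec.2.2.2

section Family

variable {F : FusionSystem S} {E : FusionSystem T} {D : ∀ R : Subgroup Ω, FusionSystem R}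

/-- A saturated system is contained in any system containing its conjugations and `p'`-automorphisms. -/
theorem isSubsystemOf_of_pp [Fact p.Prime] {T R : Subgroup Ω} [Finite T] (hT : IsPGroup p T)
    {E : FusionSystem T} (hE : E.IsSaturated p) {D : FusionSystem R} (hTR : T ≤ R)
    (h : ∀ (P : Subgroup Ω) (f : Ω → Ω), Mp E P f → PP p P f → Mp D P f) : E.IsSubsystemOf D := by
  have key : ∀ (P : Subgroup Ω) (f : Ω → Ω), Mp E P f → Mp D P f := by
    refine mp_generation E hT hE (fun P f => Mp D P f) ?_ ?_ ?_ ?_ ?_ ?_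
    · intro P f g _ h he
      exact h.congr he
    · intro P R f _ h hR
      exact h.res hR
    · intro P Q' f g _ _ h1 h2 h3
      exact h1.comp h2 h3
    · intro P R f g _ h1 _ h2
      exact h1.symm h2
    · intro P hP s hs
      exact mp_conj D (hP.trans hTR) (hTR hs)
    · intro P hPa _ α hα hc f hf
      have hfP : Finite P := H802.finite_of_le hPa.1
      exact h P f (mp_of_autGroup hPa.1 hα hf) (pp_of_aut hf hc)
  intro P φ hφ
  exact (key P (ex φ) (mp_ex hφ)).mem_hom fun x hx => (ex_apply _ hx).symm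

theorem ESys.mono [Fact p.Prime] [Finite S] (hS : IsPGroup p S) (h : ESys p F E D)
    (hEs : E.IsSaturated p) {R' R : Subgroup Ω} (hTR' : T ≤ R') (hR : R' ≤ R) (hRS : R ≤ S) :
    (D R').HasPPowerIndexIn (D R) p := by
  have hTR : T ≤ R := hTR'.trans hR
  have hfR : Finite R := H802.finite_of_le hRS
  have hfR' : Finite R' := H802.finite_of_le (hR.trans hRS)
  have hfT : Finite T := H802.finite_of_le (hTR.trans hRS)
  have hRp : IsPGroup p R := isPGroup_mono hS hRS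
  have hTp : IsPGroup p T := isPGroup_mono hS (hTR.trans hRS)
  obtain ⟨hE1, hE2, hE3⟩ := (pPower_iff hTR).1 (h.idx R hTR hRS)
  obtain ⟨E', ⟨hE's, hE'i⟩, -⟩ := S5113.result p hRp (D R) (h.sat R hTR hRS) R' hR
    ((h.idx R hTR hRS).2.1.trans hTR')
  obtain ⟨h1, h2, h3⟩ := (pPower_iff hR).1 hE'i
  have hEE' : E.IsSubsystemOf E' := isSubsystemOf_of_pp hTp hEs hTR' fun P f hf hpp =>
    h3 P f (hf.le.trans hTR') (mp_mono hE1 hf) hpp
  have : E' = D R' := by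
    refine h.uniq R' hTR' (hR.trans hRS) E' hE's (fun P φ hφ => h.le R hTR hRS P (h1 P hφ)) ?_
    refine (pPower_iff hTR').2 ⟨hEE', fun P f hf hpp => hE2 P f (mp_mono h1 hf) hpp,
      fun P f hP hf hpp => hE3 P f hP (mp_mono h1 hf) hpp⟩
  rw [← this]
  exact hE'i

/-- The family is compatible with the maps of `F` defined above `T`. -/
theorem ESys.transport [Fact p.Prime] [Finite S] (h : ESys p F E D)
    (hE : E.IsInvariantIn F) {R R' : Subgroup Ω} {ν ν' : Ω → Ω} (hν : IP F R R' ν ν')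
    (hTR : T ≤ R) {P P' : Subgroup Ω} {f f' : Ω → Ω} (hf : Mp (D R) P f)
    (hP : ∀ y ∈ P', ∃ x ∈ P, ν x = y ∧ f' y = ν (f x)) : Mp (D R') P' f' := by
  have hRS : R ≤ S := hν.mp.le
  have hR'S : R' ≤ S := hν.mp'.le
  have hfR : Finite R := H802.finite_of_le hRS
  have hfR' : Finite R' := H802.finite_of_le hR'S
  have hsc := hE.2.1
  have hTS := hsc.1
  have hfT : Finite T := H802.finite_of_le hTS
  have hI : InvC E F := (isInvariantIn_iff.1 hE).2.2.1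
  have hνT : Mp F T ν := hν.mp.res hTR
  have hTm : ∀ t ∈ T, ν t ∈ T := fun t ht => mp_mem_of_stronglyClosed hsc hνT ht ht
  have hTR' : T ≤ R' := by
    intro t ht
    obtain ⟨x, hx, rfl⟩ := hνT.surj hTm ht
    exact (hν.l x (hTR hx)).1
  have hν'T : Mp F T ν' := hν.mp'.res hTR'
  have hTm' : ∀ t ∈ T, ν' t ∈ T := fun t ht => mp_mem_of_stronglyClosed hsc hν'T ht ht
  obtain ⟨D', hD's, h1, h2⟩ := exists_transport_sys (p := p) (D R) hν.mp hν.l hν.r
  -- pull back of a map of `D'`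
  have hpull : ∀ (P' : Subgroup Ω) (f' : Ω → Ω), Mp D' P' f' → ∃ P : Subgroup Ω, P ≤ R ∧
      (∀ x, x ∈ P ↔ ∃ y ∈ P', ν' y = x) ∧ Mp (D R) P (fun x => ν' (f' (ν x))) := by
    intro P' f' hf'
    have hP'R : P' ≤ R' := hf'.le
    obtain ⟨P, hPR, -, hPi⟩ := hν.symm.res hP'R
    refine ⟨P, hPR, hPi, h2 P P' _ f' hf' fun x hx => ?_⟩
    obtain ⟨y, hy, rfl⟩ := (hPi x).1 hx
    have hy' := hν.r y (hP'R hy)
    refine ⟨hy'.1, by rw [hy'.2]; exact hy, ?_, ?_⟩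
    · rw [hy'.2]; exact (hν.r _ (hf'.mem hy)).1
    · rw [hy'.2]; exact (hν.r _ (hf'.mem hy)).2
  have hD'F : D'.IsSubsystemOf F := by
    intro P' φ hφ
    obtain ⟨P, hPR, hPi, hPf⟩ := hpull P' (ex φ) (mp_ex hφ)
    have hP'R : P' ≤ R' := (D'.le_of_mem hφ).1
    have h3 : Mp F P (fun x => ν' (ex φ (ν x))) := mp_mono (h.le R hTR hRS) hPf
    have h4 : Mp F P' (fun y => ν (ν' (ex φ (ν (ν' y))))) :=
      ((hν.mp'.res hP'R).comp h3 (fun y hy => (hPi _).2 ⟨y, hy, rfl⟩)).comp hν.mp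
        (fun y hy => by
          show ν' (ex φ (ν (ν' y))) ∈ R
          rw [(hν.r y (hP'R hy)).2, ex_apply _ hy]
          exact (hν.r _ ((D'.le_of_mem hφ).2 _)).1)
    refine h4.mem_hom fun y hy => ?_
    rw [(hν.r y (hP'R hy)).2, ex_apply _ hy, (hν.r _ ((D'.le_of_mem hφ).2 _)).2]
  obtain ⟨hE1, hE2, hE3⟩ := (pPower_iff hTR).1 (h.idx R hTR hRS)
  -- `p'`-automorphisms
  have hppull : ∀ (P' : Subgroup Ω) (f' : Ω → Ω), P' ≤ R' → PP p P' f' → ∀ P : Subgroup Ω,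
      (∀ x, x ∈ P ↔ ∃ y ∈ P', ν' y = x) → PP p P (fun x => ν' (f' (ν x))) := by
    rintro P' f' hP'R ⟨hm, n, hn, hid⟩ P hPi
    have h3 : ∀ y ∈ P', ν' (f' (ν (ν' y))) = ν' (f' y) := fun y hy => by
      rw [(hν.r y (hP'R hy)).2]
    refine ⟨fun x hx => ?_, n, hn, fun x hx => ?_⟩
    · obtain ⟨y, hy, rfl⟩ := (hPi x).1 hx
      show ν' (f' (ν (ν' y))) ∈ P
      rw [h3 y hy]
      exact (hPi _).2 ⟨_, hm y hy, rfl⟩
    · obtain ⟨y, hy, rfl⟩ := (hPi x).1 hx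
      have key : ∀ k : ℕ, ∀ y ∈ P', (fun x => ν' (f' (ν x)))^[k] (ν' y) = ν' (f'^[k] y) := by
        intro k
        induction k with
        | zero => intro y _; rfl
        | succ k ih =>
          intro y hy
          rw [Function.iterate_succ_apply, Function.iterate_succ_apply]
          show (fun x => ν' (f' (ν x)))^[k] (ν' (f' (ν (ν' y)))) = _
          rw [h3 y hy]
          exact ih _ (hm y hy)
      rw [key n y hy, hid y hy]
  have hD'E : E.HasPPowerIndexIn D' p := by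
    refine (pPower_iff hTR').2 ⟨?_, ?_, ?_⟩
    · intro P' φ hφ
      have hP'T : P' ≤ T := (E.le_of_mem hφ).1
      obtain ⟨P, hPR, -, hPi⟩ := hν.symm.res (hP'T.trans hTR')
      have h3 : Mp E P (fun x => ν' (ex φ (ν x))) := by
        refine hI P' P (ex φ) ν' _ (mp_ex hφ) hν'T fun x hx => ?_
        obtain ⟨y, hy, rfl⟩ := (hPi x).1 hx
        exact ⟨y, hy, rfl, by rw [(hν.r y (hTR' (hP'T hy))).2]⟩
      refine (h1 P P' _ (ex φ) (mp_mono hE1 h3) fun y hy => ?_).mem_hom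
        fun y hy => (ex_apply _ hy).symm
      refine ⟨ν' y, (hPi _).2 ⟨y, hy, rfl⟩, (hν.r y (hTR' (hP'T hy))).2, ?_⟩
      rw [(hν.r y (hTR' (hP'T hy))).2, (hν.r _ (hTR' ((mp_ex hφ).mem hy))).2]
    · intro P' f' hf' hpp y hy
      have hP'R : P' ≤ R' := hf'.le
      obtain ⟨P, hPR, hPi, hPf⟩ := hpull P' f' hf'
      have h3 := hE2 P _ hPf (hppull P' f' hP'R hpp P hPi) (ν' y) ((hPi _).2 ⟨y, hy, rfl⟩)
      have h4 : ν (ν' (f' y)) = f' y := (hν.r _ (hP'R (hpp.1 y hy))).2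
      have h5 : ν' y ∈ R := (hν.r y (hP'R hy)).1
      have h6 : ν' (f' y) ∈ R := (hν.r _ (hP'R (hpp.1 y hy))).1
      have h7 : (ν' y)⁻¹ * ν' (f' y) ∈ T := by
        have h8 := h3
        simp only [(hν.r y (hP'R hy)).2] at h8
        exact h8
      have h9 := hTm _ h7
      rw [hν.mp.mul (Subgroup.inv_mem _ h5) h6, hν.mp.inv h5, (hν.r y (hP'R hy)).2, h4] at h9
      exact h9
    · intro P' f' hP'T hf' hpp
      have hP'R : P' ≤ R' := hf'.le
      obtain ⟨P, hPR, hPi, hPf⟩ := hpull P' f' hf'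
      have hPT : P ≤ T := fun x hx => by
        obtain ⟨y, hy, rfl⟩ := (hPi x).1 hx
        exact hTm' y (hP'T hy)
      have h3 := hE3 P _ hPT hPf (hppull P' f' hP'R hpp P hPi)
      refine hI P P' _ ν f' h3 hνT fun y hy => ?_
      have h4 : ν (ν' (f' y)) = f' y := (hν.r _ (hP'R (hpp.1 y hy))).2
      exact ⟨ν' y, (hPi _).2 ⟨y, hy, rfl⟩, (hν.r y (hP'R hy)).2, by
        rw [(hν.r y (hP'R hy)).2, h4]⟩
  have hDD : D' = D R' := h.uniq R' hTR' hR'S D' (hD's.2 (h.sat R hTR hRS)) hD'F hD'E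
  rw [← hDD]
  exact h1 P P' f f' hf hP

end Family

end Cfsg.Agent.H758
end

-- part: H758/BC
section
/-!
# The key lemma on the product system `E S` (helper758)

`DD` saturated over `S`, `E` has `p`-power index in `DD`. If `Q` is fully `F`-normalized with `C_T(Q ∩ T) ≤ Q`, every
`p'`-automorphism of `Q` in `F`, trivial modulo `T`, whose restriction to `Q ∩ T` lies in `E`, lies in `DD`.
-/

set_option autoImplicit false

namespace Cfsg.Agent.H758

open Cfsg Cfsg.FusionSystem Cfsg.Agent.H752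

variable {Ω : Type*} [Group Ω] {S T : Subgroup Ω} {p : ℕ}

theorem isConj_of_image {F : FusionSystem S} {P Q W : Subgroup Ω} {f : Ω → Ω} (hf : Mp F W f)
    (hP : P ≤ W) (hQ : ∀ y, y ∈ Q ↔ ∃ x ∈ P, f x = y) : F.IsConj P Q := by
  obtain ⟨φ, hφ, hφf⟩ := hf.res hP
  refine ⟨φ, hφ, ?_⟩
  ext y
  rw [hQ]
  constructor
  · rintro ⟨x, rfl⟩
    exact ⟨x, x.2, (hφf x x.2).symm⟩
  · rintro ⟨x, hx, rfl⟩
    exact ⟨⟨x, hx⟩, hφf x hx⟩

/-- A map defined on the normalizer of a fully normalized subgroup carries it onto the normalizer of the image. -/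
theorem normalizer_image [Finite S] {F : FusionSystem S} {Q Q' W : Subgroup Ω} {f : Ω → Ω}
    (hQ : F.IsFullyNormalized Q) (hf : Mp F W f) (hNW : normalizerIn S Q ≤ W)
    (hQ' : ∀ y, y ∈ Q' ↔ ∃ x ∈ Q, f x = y) :
    F.IsFullyNormalized Q' ∧ (∀ x ∈ normalizerIn S Q, f x ∈ normalizerIn S Q') ∧
      ∀ y ∈ normalizerIn S Q', ∃ x ∈ normalizerIn S Q, f x = y := by
  have hQN : Q ≤ normalizerIn S Q := le_inf hQ.1 Subgroup.le_normalizer
  have hQW : Q ≤ W := hQN.trans hNW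
  have hc := isConj_of_image hf hQW hQ'
  obtain ⟨V, hV, hVS, hVc⟩ := hf.exists_image hNW
  have h1 : ∀ x ∈ normalizerIn S Q, f x ∈ normalizerIn S Q' := by
    intro x hx
    refine ⟨hf.mem (hNW hx), ?_⟩
    have hfQ' : Finite Q' := H802.finite_of_le (fun y hy => by
      obtain ⟨x, hx, rfl⟩ := (hQ' y).1 hy
      exact hf.mem (hQW hx) : Q' ≤ S)
    refine H757.mem_normalizer_of_conj_mem fun y hy => ?_
    obtain ⟨u, hu, rfl⟩ := (hQ' y).1 hy
    refine (hQ' _).2 ⟨x * u * x⁻¹, (Subgroup.mem_normalizer_iff.1 hx.2 u).1 hu, ?_⟩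
    exact mp_conj_eq hf (hNW hx) (hQW hu)
  have hVle : V ≤ normalizerIn S Q' := by
    intro y hy
    obtain ⟨x, hx, rfl⟩ := (hV y).1 hy
    exact h1 x hx
  have hfin : Finite (normalizerIn S Q') := H802.finite_of_le inf_le_left
  have hVe : V = normalizerIn S Q' :=
    Subgroup.eq_of_le_of_card_ge hVle (hVc ▸ hQ.2 Q' hc)
  refine ⟨⟨fun y hy => ?_, fun R hR => ?_⟩, h1, fun y hy => ?_⟩
  · obtain ⟨x, hx, rfl⟩ := (hQ' y).1 hy
    exact hf.mem (hQW hx)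
  · rw [← hVe, hVc]
    exact hQ.2 R (H802.isConj_trans hc hR)
  · rw [← hVe] at hy
    exact (hV y).1 hy

theorem bc [Fact p.Prime] [Finite S] (hS : IsPGroup p S) {F : FusionSystem S}
    {E : FusionSystem T} (hF : F.IsSaturated p) (hT : F.StronglyClosed T) (hI : StrongInvC E F) {DD : FusionSystem S}
    (hDs : DD.IsSaturated p) (hDF : DD.IsSubsystemOf F) (hED : E.IsSubsystemOf DD)
    (hD2 : ∀ (P : Subgroup Ω) (f : Ω → Ω), Mp DD P f → PP p P f → ∀ x ∈ P, x⁻¹ * f x ∈ T)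
    {Q : Subgroup Ω} (hQ : F.IsFullyNormalized Q) (hC : centralizerIn T (Q ⊓ T) ≤ Q) {κ : Ω → Ω}
    (hκ : Mp F Q κ) (hpp : PP p Q κ) (hTr : ∀ x ∈ Q, x⁻¹ * κ x ∈ T) (hE : Mp E (Q ⊓ T) κ) :
    Mp DD Q κ := by
  have hQS := hQ.1
  have hTS := hT.1
  have hfQ : Finite Q := H802.finite_of_le hQS
  have hSn : S ≤ Subgroup.normalizer (T : Set Ω) := H759.StronglyClosed.le_normalizer hT
  obtain ⟨Q₁, hc₁, hQ₁n⟩ := H802.exists_isFullyNormalized hS hDs (P := Q ⊓ T) (inf_le_left.trans hQS)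
  obtain ⟨χ, hχ, hχQ, hχN⟩ := exists_mp_normalizer hS hDs hc₁ hQ₁n
  have hχF : Mp F _ χ := mp_mono hDF hχ
  have hQ₀N : Q ⊓ T ≤ normalizerIn S (Q ⊓ T) := le_inf (inf_le_left.trans hQS) Subgroup.le_normalizer
  have hNN : normalizerIn S Q ≤ normalizerIn S (Q ⊓ T) := by
    intro g hg
    have hfQ₀ : Finite ↥(Q ⊓ T) := H802.finite_of_le (inf_le_left.trans hQS)
    refine ⟨hg.1, H757.mem_normalizer_of_conj_mem fun x hx => ⟨?_, ?_⟩⟩
    · exact (Subgroup.mem_normalizer_iff.1 hg.2 x).1 hx.1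
    · exact H759.StronglyClosed.conj_mem hT hg.1 hx.2
  have hQN : Q ≤ normalizerIn S (Q ⊓ T) := (le_inf hQS Subgroup.le_normalizer).trans hNN
  obtain ⟨Q', hQ', hQ'S, -⟩ := hχ.exists_image hQN
  obtain ⟨hQ'n, hN1, hN2⟩ := normalizer_image hQ hχF hNN hQ'
  have hfQ' : Finite Q' := H802.finite_of_le hQ'S
  have hfQ₁ : Finite Q₁ := H802.finite_of_le hQ₁n.1
  have hχT : ∀ x ∈ normalizerIn S (Q ⊓ T), (χ x ∈ T ↔ x ∈ T) := fun x hx =>
    ⟨mp_mem_of_stronglyClosed' hT hχF hx, mp_mem_of_stronglyClosed hT hχF hx⟩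
  have hQ₁Q' : Q₁ ≤ Q' := by
    intro y hy
    obtain ⟨x, hx, rfl⟩ := (hχQ y).1 hy
    exact (hQ' _).2 ⟨x, hx.1, rfl⟩
  have hQ₁T : Q₁ ≤ T := by
    intro y hy
    obtain ⟨x, hx, rfl⟩ := (hχQ y).1 hy
    exact (hχT x (hQ₀N hx)).2 hx.2
  have hQ'T : ∀ y ∈ Q', y ∈ T → y ∈ Q₁ := by
    intro y hy hyT
    obtain ⟨x, hx, rfl⟩ := (hQ' y).1 hy
    exact (hχQ _).2 ⟨x, ⟨hx, (hχT x (hQN hx)).1 hyT⟩, rfl⟩
  obtain ⟨d, hd, hdpp, hdχ⟩ := pp_transport hχF hQN hQ' hκ hpp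
  -- `d` is trivial modulo `T`
  have hdT : ∀ y ∈ Q', y⁻¹ * d y ∈ T := by
    intro y hy
    obtain ⟨x, hx, rfl⟩ := (hQ' y).1 hy
    rw [hdχ x hx, ← hχF.inv (hQN hx), ← hχF.mul (Subgroup.inv_mem _ (hQN hx)) (hQN (hpp.1 x hx))]
    exact (hχT _ (mul_mem (Subgroup.inv_mem _ (hQN hx)) (hQN (hpp.1 x hx)))).2 (hTr x hx)
  have hκT : ∀ x ∈ Q ⊓ T, κ x ∈ Q ⊓ T := fun x hx =>
    ⟨hpp.1 x hx.1, mp_mem_of_stronglyClosed hT hκ hx.1 hx.2⟩
  have hdE : Mp E Q₁ d := by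
    refine hI (Q ⊓ T) (Q ⊓ T) Q₁ κ χ d le_rfl inf_le_right hE hκT (hχF.res hQ₀N) fun y hy => ?_
    obtain ⟨x, hx, rfl⟩ := (hχQ y).1 hy
    exact ⟨x, hx, rfl, hdχ x hx.1⟩
  have hdQ₁ : ∀ y ∈ Q₁, d y ∈ Q₁ := fun y hy =>
    hQ'T _ (hdpp.1 y (hQ₁Q' hy)) (mp_mem_of_stronglyClosed hT hd (hQ₁Q' hy) (hQ₁T hy))
  have hdDD : Mp DD Q₁ d := mp_mono hED hdE
  have hrec := H802.isReceptive_of_isFullyNormalized hS hDs hQ₁n
  obtain ⟨N, ψ, hψ, hQ₁N, hψe, hN⟩ := H753.mp_extend hrec hdDD (fun y =>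
    ⟨fun hy => hdDD.surj hdQ₁ hy, fun ⟨x, hx, h⟩ => h ▸ hdQ₁ x hx⟩)
  have hQ'nor : ∀ y ∈ Q', y ∈ Subgroup.normalizer (Q₁ : Set Ω) := by
    intro y hy
    obtain ⟨x, hx, rfl⟩ := (hQ' y).1 hy
    exact (hχN x (hQN hx)).2
  have hQ'N : Q' ≤ N := by
    intro g hg
    refine hN g (hQ'S hg) (hQ'nor g hg) ⟨d g, hQ'S (hdpp.1 g hg), fun x hx => ?_⟩
    exact mp_conj_eq hd hg (hQ₁Q' hx)
  have hCN : centralizerIn S Q₁ ≤ N := by
    intro g hg
    refine hN g hg.1 (Subgroup.centralizer_le_normalizer _ hg.2) ⟨1, one_mem _, fun x hx => ?_⟩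
    have h1 : g * x * g⁻¹ = x := by
      rw [← Subgroup.mem_centralizer_iff.1 hg.2 x hx]
      group
    rw [h1]
    simp
  have hWN : Q' ⊔ centralizerIn S Q₁ ≤ N := sup_le hQ'N hCN
  have hψW : Mp DD (Q' ⊔ centralizerIn S Q₁) ψ := hψ.res hWN
  have hWS : Q' ⊔ centralizerIn S Q₁ ≤ S := hψW.le
  have hfW : Finite ↥(Q' ⊔ centralizerIn S Q₁) := H802.finite_of_le hWS
  -- a map agreeing with `d` on `Q₁` agrees with `d` on `Q'` modulo `C_S(Q₁)`
  have hmod : ∀ g : Ω → Ω, Mp DD (Q' ⊔ centralizerIn S Q₁) g → (∀ x ∈ Q₁, g x = d x) →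
      ∀ x ∈ Q', (d x)⁻¹ * g x ∈ centralizerIn S Q₁ := by
    intro g hg hge x hx
    have hxW : x ∈ Q' ⊔ centralizerIn S Q₁ := (le_sup_left : Q' ≤ _) hx
    refine ⟨mul_mem (Subgroup.inv_mem _ (hQ'S (hdpp.1 x hx))) (hg.mem hxW),
      Subgroup.mem_centralizer_iff.2 fun z hz => ?_⟩
    obtain ⟨y, hy, rfl⟩ := hdDD.surj hdQ₁ hz
    have hyW : y ∈ Q' ⊔ centralizerIn S Q₁ := (le_sup_left : Q' ≤ _) (hQ₁Q' hy)
    have hcy : x * y * x⁻¹ ∈ Q₁ := (Subgroup.mem_normalizer_iff.1 (hQ'nor x hx) y).1 hy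
    have e1 : g (x * y * x⁻¹) = g x * d y * (g x)⁻¹ := by
      rw [mp_conj_eq hg hxW hyW, hge y hy]
    have e2 : d (x * y * x⁻¹) = d x * d y * (d x)⁻¹ := mp_conj_eq hd hx (hQ₁Q' hy)
    rw [hge _ hcy, e2] at e1
    -- `d x * z * (d x)⁻¹ = g x * z * (g x)⁻¹`
    calc d y * ((d x)⁻¹ * g x) = (d x)⁻¹ * (d x * d y * (d x)⁻¹) * g x := by group
      _ = (d x)⁻¹ * (g x * d y * (g x)⁻¹) * g x := by rw [e1]
      _ = (d x)⁻¹ * g x * d y := by group
  have hψmem : ∀ x ∈ Q' ⊔ centralizerIn S Q₁, ψ x ∈ Q' ⊔ centralizerIn S Q₁ := by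
    refine mp_sup_mem hψW (fun x hx => ?_) (fun x hx => ?_)
    · have h1 := hmod ψ hψW hψe x hx
      have h2 : ψ x = d x * ((d x)⁻¹ * ψ x) := by group
      rw [h2]
      exact mul_mem ((le_sup_left : Q' ≤ _) (hdpp.1 x hx)) ((le_sup_right : centralizerIn S Q₁ ≤ _) h1)
    · refine (le_sup_right : centralizerIn S Q₁ ≤ Q' ⊔ centralizerIn S Q₁)
        ⟨hψ.mem (hCN hx), Subgroup.mem_centralizer_iff.2 fun z hz => ?_⟩
      obtain ⟨y, hy, rfl⟩ := hdDD.surj hdQ₁ hz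
      rw [← hψe y hy, ← hψ.mul (hQ₁N hy) (hCN hx), ← hψ.mul (hCN hx) (hQ₁N hy),
        Subgroup.mem_centralizer_iff.1 hx.2 y hy]
  obtain ⟨m, hgpp, hg, hge⟩ := exists_iter_pp (p := p) hψW hψmem
  set g := ψ^[m] with hgdef
  have hgQ₁ : ∀ x ∈ Q₁, g x = d x :=
    hge Q₁ d (hQ₁Q'.trans le_sup_left) (hdpp.res hQ₁Q' hdQ₁) hψe
  -- `C_T(Q₁) ≤ Q'`
  have hC1 : centralizerIn T Q₁ ≤ Q' := by
    by_contra hcon
    have hR : IsPGroup p ↥(Q' ⊔ centralizerIn T Q₁) :=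
      isPGroup_mono hS (sup_le hQ'S (inf_le_left.trans hTS))
    have hfR : Finite ↥(Q' ⊔ centralizerIn T Q₁) :=
      H802.finite_of_le (sup_le hQ'S (inf_le_left.trans hTS))
    obtain ⟨u, hu, huQ, hun⟩ := H757.exists_normalizes_of_not_le hR
      (U := centralizerIn T Q₁) (V := Q') le_sup_right le_sup_left (by
        have h1 : Q' ⊔ centralizerIn T Q₁ ≤ Subgroup.normalizer (centralizerIn T Q₁ : Set Ω) := by
          have hfC : Finite ↥(centralizerIn T Q₁) := H802.finite_of_le (inf_le_left.trans hTS)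
          refine sup_le (fun x hx => H757.mem_normalizer_of_conj_mem fun v hv => ⟨?_, ?_⟩)
            Subgroup.le_normalizer
          · exact H759.StronglyClosed.conj_mem hT (hQ'S hx) hv.1
          · refine Subgroup.mem_centralizer_iff.2 fun z hz => ?_
            have hz' : x⁻¹ * z * x ∈ Q₁ := by
              have h2 := (Subgroup.mem_normalizer_iff.1
                (Subgroup.inv_mem _ (hQ'nor x hx)) z).1 hz
              simpa using h2
            have h3 := Subgroup.mem_centralizer_iff.1 hv.2 _ hz'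
            calc z * (x * v * x⁻¹) = x * ((x⁻¹ * z * x) * v) * x⁻¹ := by group
              _ = x * (v * (x⁻¹ * z * x)) * x⁻¹ := by rw [h3]
              _ = x * v * x⁻¹ * z := by group
        intro r hr u hu
        exact (Subgroup.mem_normalizer_iff.1 (h1 hr) u).1 hu) hcon
    obtain ⟨v, hv, rfl⟩ := hN2 u ⟨hTS hu.1, hun⟩
    refine huQ ((hQ' _).2 ⟨v, hC ⟨(hχT v (hNN hv)).1 hu.1, ?_⟩, rfl⟩)
    refine Subgroup.mem_centralizer_iff.2 fun z hz => ?_
    refine hχ.inj (mul_mem (hQ₀N hz) (hNN hv)) (mul_mem (hNN hv) (hQ₀N hz)) ?_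
    rw [hχ.mul (hQ₀N hz) (hNN hv), hχ.mul (hNN hv) (hQ₀N hz)]
    exact Subgroup.mem_centralizer_iff.1 hu.2 _ ((hχQ _).2 ⟨z, hz, rfl⟩)
  -- `g` and `d` on `Q'`
  have hgd : ∀ x ∈ Q', (d x)⁻¹ * g x ∈ Q₁ := by
    intro x hx
    have h1 := hmod g hg hgQ₁ x hx
    have h2 : (d x)⁻¹ * g x ∈ T := by
      have h3 := mul_mem (Subgroup.inv_mem _ (hdT x hx)) (hD2 _ g hg hgpp x ((le_sup_left : Q' ≤ _) hx))
      have h4 : (x⁻¹ * d x)⁻¹ * (x⁻¹ * g x) = (d x)⁻¹ * g x := by group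
      rwa [h4] at h3
    exact hQ'T _ (hC1 ⟨h2, h1.2⟩) h2
  have hgQ' : ∀ x ∈ Q', g x ∈ Q' := fun x hx => by
    have h2 : g x = d x * ((d x)⁻¹ * g x) := by group
    rw [h2]
    exact mul_mem (hdpp.1 x hx) (hQ₁Q' (hgd x hx))
  have hgDD : Mp DD Q' g := hg.res le_sup_left
  have hgppQ : PP p Q' g := hgpp.res le_sup_left hgQ'
  obtain ⟨γ, hγ, hγg⟩ := hgDD.exists_aut hgQ'
  obtain ⟨δ, hδ, hδd⟩ := hd.exists_aut hdpp.1
  have hγF : γ ∈ F.autGroup Q' := (mp_mono hDF hgDD).mem_autGroup hγg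
  have hfM := finite_mulAut Q'
  have hV : IsPGroup p (trG F T Q') := trG_isPGroup hS hQ'S
  have hdiff : γ * δ⁻¹ ∈ trG F T Q' := by
    refine ⟨mul_mem hγF (Subgroup.inv_mem _ hδ), fun x hx => ?_, fun x => ?_⟩
    · have hx1 : (x : Ω) ∈ Q₁ := hQ'T x x.2 hx
      obtain ⟨y, hy, hyx⟩ := hdDD.surj hdQ₁ hx1
      have h1 : δ ⟨y, hQ₁Q' hy⟩ = x := Subtype.ext (by rw [← hδd y (hQ₁Q' hy), hyx])
      have h2 : δ⁻¹ x = ⟨y, hQ₁Q' hy⟩ := H757.inv_apply_eq h1
      rw [MulAut.mul_apply, h2]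
      apply Subtype.ext
      rw [← hγg y (hQ₁Q' hy), hgQ₁ y hy, hyx]
    · set y := δ⁻¹ x with hy
      have hxy : δ y = x := by rw [hy, MulAut.apply_inv_self]
      have e1 : ((γ * δ⁻¹) x : Q') = γ y := by rw [MulAut.mul_apply, ← hy]
      have e2 : (x : Ω) = d y := by rw [← hxy, hδd y y.2]
      rw [e1, e2, ← hγg y y.2]
      exact hQ₁T (hgd y y.2)
  obtain ⟨v, hv, hve⟩ := H757.exists_conj_of_coset hV (κ := γ) (κ₁ := δ)
    (fun v hv => trG_normal hT hQ'S hγF hv) (hgppQ.orderOf_coprime hγg) (hdpp.orderOf_coprime hδd)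
    (by
      have h1 := Subgroup.inv_mem _ hdiff
      simpa using h1)
  have hvS : v ∈ DD.autGroup Q' := by
    have h1 := trG_le hS hT (H802.isFullyAutomized_of_isFullyNormalized hS hF hQ'n) hv
    exact H802.autInducedBy_le_autGroup DD hQ'S h1
  have hδDD : δ ∈ DD.autGroup Q' := by
    rw [hve]
    exact mul_mem (mul_mem hvS hγ) (Subgroup.inv_mem _ hvS)
  have hdfin : Mp DD Q' d := mp_of_autGroup hQ'S hδDD hδd
  -- pull back
  obtain ⟨χ', hχ', hl, hr⟩ := hχ.exists_symm hQN hQ'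
  have h1 : Mp DD Q (fun x => χ' (d (χ x))) :=
    ((hχ.res hQN).comp hdfin fun x hx => (hQ' _).2 ⟨x, hx, rfl⟩).comp hχ'
      fun x hx => hdpp.1 _ ((hQ' _).2 ⟨x, hx, rfl⟩)
  refine h1.congr fun x hx => ?_
  show κ x = χ' (d (χ x))
  rw [hdχ x hx, hl _ (hpp.1 x hx)]

end Cfsg.Agent.H758
end

-- part: H758/SIStar
section
/-!
# The family `D` is compatible with all maps of `F` (helper758)

`Tp T D f Y Y'`: conjugation by `f : Y → Y'` carries maps of `D (Y T)` between subgroups of `Y` to maps of `D (Y' T)`.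
-/

set_option autoImplicit false

namespace Cfsg.Agent.H758

open Cfsg Cfsg.FusionSystem Cfsg.Agent.H752

variable {Ω : Type*} [Group Ω] {S T : Subgroup Ω} {p : ℕ}

/-- Transport of maps of the family. -/
def Tp (T : Subgroup Ω) (D : ∀ R : Subgroup Ω, FusionSystem R) (f : Ω → Ω)
    (Y Y' : Subgroup Ω) : Prop :=
  ∀ (Q Q' : Subgroup Ω) (β β' : Ω → Ω), Mp (D (Y ⊔ T)) Q β → Q ≤ Y → (∀ x ∈ Q, β x ∈ Y) →
    (∀ y ∈ Q', ∃ x ∈ Q, f x = y ∧ β' y = f (β x)) → Mp (D (Y' ⊔ T)) Q' β'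

/-- The transport property for all restrictions of `f` and for their inverses. -/
def MM (F : FusionSystem S) (T : Subgroup Ω) (D : ∀ R : Subgroup Ω, FusionSystem R)
    (P : Subgroup Ω) (f : Ω → Ω) : Prop :=
  ∀ (Y Y' : Subgroup Ω) (g : Ω → Ω), Y ≤ P → IP F Y Y' f g → Tp T D f Y Y' ∧ Tp T D g Y' Y

variable {F : FusionSystem S} {E : FusionSystem T} {D : ∀ R : Subgroup Ω, FusionSystem R}

theorem Tp.congr {f f' : Ω → Ω} {Y Y' : Subgroup Ω} (h : Tp T D f Y Y')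
    (he : ∀ x ∈ Y, f' x = f x) : Tp T D f' Y Y' := by
  intro Q Q' β β' hβ hQ hβY hβ'
  refine h Q Q' β β' hβ hQ hβY fun y hy => ?_
  obtain ⟨x, hx, h1, h2⟩ := hβ' y hy
  exact ⟨x, hx, by rw [← he x (hQ hx)]; exact h1, by rw [h2]; exact he _ (hβY x hx)⟩

theorem Tp.comp {f f' g : Ω → Ω} {Y Y' Y'' : Subgroup Ω} (hi : IP F Y Y' f f')
    (h : Tp T D f Y Y') (h' : Tp T D g Y' Y'') : Tp T D (fun x => g (f x)) Y Y'' := by
  intro Q Q' β β' hβ hQ hβY hβ'
  obtain ⟨R, hR, -, -⟩ := hi.mp.exists_image hQ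
  have hRY : R ≤ Y' := by
    intro y hy
    obtain ⟨x, hx, rfl⟩ := (hR y).1 hy
    exact (hi.l x (hQ hx)).1
  refine h' R Q' (fun z => f (β (f' z))) β' (h Q R β _ hβ hQ hβY fun y hy => ?_) hRY
    (fun z hz => ?_) fun y hy => ?_
  · obtain ⟨x, hx, rfl⟩ := (hR y).1 hy
    exact ⟨x, hx, rfl, by rw [(hi.l x (hQ hx)).2]⟩
  · obtain ⟨x, hx, rfl⟩ := (hR z).1 hz
    show f (β (f' (f x))) ∈ Y'
    rw [(hi.l x (hQ hx)).2]
    exact (hi.l _ (hβY x hx)).1
  · obtain ⟨x, hx, h1, h2⟩ := hβ' y hy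
    refine ⟨f x, (hR _).2 ⟨x, hx, rfl⟩, h1, ?_⟩
    rw [h2, (hi.l x (hQ hx)).2]

theorem MM.congr {P : Subgroup Ω} {f f' : Ω → Ω} (h : MM F T D P f) (he : ∀ x ∈ P, f' x = f x) :
    MM F T D P f' := by
  intro Y Y' g hY hi
  have hi' : IP F Y Y' f g := ⟨hi.mp.congr fun x hx => (he x (hY hx)).symm, hi.mp',
    fun x hx => by rw [← he x (hY hx)]; exact hi.l x hx,
    fun y hy => ⟨(hi.r y hy).1, by rw [← he _ (hY (hi.r y hy).1)]; exact (hi.r y hy).2⟩⟩
  obtain ⟨h1, h2⟩ := h Y Y' g hY hi'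
  exact ⟨h1.congr fun x hx => he x (hY hx), h2⟩

theorem MM.res {P R : Subgroup Ω} {f : Ω → Ω} (h : MM F T D P f) (hR : R ≤ P) : MM F T D R f :=
  fun Y Y' g hY hi => h Y Y' g (hY.trans hR) hi

theorem MM.comp {P Q : Subgroup Ω} {f g : Ω → Ω} (hf : MM F T D P f) (hg : MM F T D Q g)
    (hfm : Mp F P f) (hgm : Mp F Q g) (hPQ : ∀ x ∈ P, f x ∈ Q) :
    MM F T D P (fun x => g (f x)) := by
  intro Y Y'' k hY hi
  obtain ⟨Y', f', hif⟩ := exists_ip (hfm.res hY)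
  have hY'Q : Y' ≤ Q := by
    intro y hy
    obtain ⟨x, hx, rfl⟩ := hif.mem_iff.1 hy
    exact hPQ x (hY hx)
  obtain ⟨Z, g', hig⟩ := exists_ip (hgm.res hY'Q)
  have hZ : Z = Y'' := by
    ext y
    rw [hig.mem_iff, hi.mem_iff]
    constructor
    · rintro ⟨z, hz, rfl⟩
      obtain ⟨x, hx, rfl⟩ := hif.mem_iff.1 hz
      exact ⟨x, hx, rfl⟩
    · rintro ⟨x, hx, rfl⟩
      exact ⟨f x, (hif.l x hx).1, rfl⟩
  subst hZ
  obtain ⟨h1, h2⟩ := hf Y Y' f' hY hif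
  obtain ⟨h3, h4⟩ := hg Y' Z g' hY'Q hig
  refine ⟨Tp.comp hif h1 h3, (Tp.comp hig.symm h4 h2).congr fun y hy => ?_⟩
  obtain ⟨x, hx, rfl⟩ := hi.mem_iff.1 hy
  show k (g (f x)) = f' (g' (g (f x)))
  rw [(hig.l _ (hif.l x hx).1).2, (hif.l x hx).2]
  exact (hi.l x hx).2

theorem MM.symm {P R : Subgroup Ω} {f g : Ω → Ω} (hf : MM F T D P f) (hfm : Mp F P f)
    (hinv : ∀ y ∈ R, ∃ x ∈ P, f x = y ∧ g y = x) : MM F T D R g := by
  intro Y Y' k hY hi
  have hY'P : Y' ≤ P := by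
    intro z hz
    obtain ⟨y, hy, rfl⟩ := hi.mem_iff.1 hz
    obtain ⟨x, hx, -, h2⟩ := hinv y (hY hy)
    rw [h2]; exact hx
  have hfg : ∀ y ∈ Y, f (g y) = y := fun y hy => by
    obtain ⟨x, hx, h1, h2⟩ := hinv y (hY hy)
    rw [h2, h1]
  have hkf : ∀ z ∈ Y', k z = f z := fun z hz => by
    obtain ⟨y, hy, rfl⟩ := hi.mem_iff.1 hz
    rw [(hi.l y hy).2, hfg y hy]
  have hi' : IP F Y' Y f g := ⟨hfm.res hY'P, hi.mp, fun z hz => ⟨by
      rw [← hkf z hz]; exact (hi.r z hz).1, by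
      rw [← hkf z hz]; exact (hi.r z hz).2⟩, fun y hy => ⟨(hi.l y hy).1, hfg y hy⟩⟩
  obtain ⟨h1, h2⟩ := hf Y' Y g hY'P hi'
  exact ⟨h2, h1.congr hkf⟩

theorem mm_id {P : Subgroup Ω} : MM F T D P (fun x => x) := by
  intro Y Y' g _ hi
  have hYY : Y' = Y := by
    ext y
    exact ⟨fun hy => by have h1 := hi.r y hy; rw [← h1.2]; exact h1.1, fun hy => (hi.l y hy).1⟩
  subst hYY
  have h1 : Tp T D (fun x => x) Y' Y' := by
    intro Q Q' β β' hβ hQ hβY hβ'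
    refine (hβ.res (R := Q') fun y hy => ?_).congr fun y hy => ?_
    · obtain ⟨x, hx, h1, -⟩ := hβ' y hy
      exact h1 ▸ hx
    · obtain ⟨x, hx, h1, h2⟩ := hβ' y hy
      rw [h2, ← h1]
  exact ⟨h1, h1.congr fun x hx => (hi.r x hx).2⟩

/-- The case of a map of the family. -/
theorem tp_of_mp {f g : Ω → Ω} {Y Y' : Subgroup Ω} (hi : IP F Y Y' f g) (he : Y' ⊔ T = Y ⊔ T)
    (hf : Mp (D (Y ⊔ T)) Y f) : Tp T D f Y Y' := by
  intro Q Q' β β' hβ hQ hβY hβ'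
  rw [he]
  have h1 : Mp (D (Y ⊔ T)) Q' g := hf.symm fun y hy => by
    obtain ⟨x, hx, h1, -⟩ := hβ' y hy
    exact ⟨x, hQ hx, h1, by rw [← h1]; exact (hi.l x (hQ hx)).2⟩
  have h2 : ∀ y ∈ Q', g y ∈ Q := fun y hy => by
    obtain ⟨x, hx, h1, -⟩ := hβ' y hy
    rw [← h1, (hi.l x (hQ hx)).2]; exact hx
  refine ((h1.comp hβ h2).comp hf fun y hy => hβY _ (h2 y hy)).congr fun y hy => ?_
  obtain ⟨x, hx, h1, h3⟩ := hβ' y hy
  show β' y = f (β (g y))
  rw [h3, ← h1, (hi.l x (hQ hx)).2]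

/-- The case `T ≤ Q`. -/
theorem mm_of_le [Fact p.Prime] [Finite S] (h : ESys p F E D) (hE : E.IsInvariantIn F)
    {Q : Subgroup Ω} {f : Ω → Ω} (hf : Mp F Q f) (hTQ : T ≤ Q) : MM F T D Q f := by
  intro Y Y' g hY hi
  have hT := hE.2.1
  have hfT : Finite T := H802.finite_of_le hT.1
  obtain ⟨Q'', g', hi''⟩ := exists_ip hf
  obtain ⟨R', -, hiR, hR'⟩ := hi''.res (sup_le hY hTQ)
  have hTm : ∀ t ∈ T, f t ∈ T := fun t ht => mp_mem_of_stronglyClosed hT hf (hTQ ht) ht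
  have he : R' = Y' ⊔ T := by
    apply le_antisymm
    · intro y hy
      obtain ⟨x, hx, rfl⟩ := (hR' y).1 hy
      exact mp_sup_mem (hf.res (sup_le hY hTQ)) (fun x hx => (le_sup_left : Y' ≤ _) (hi.l x hx).1)
        (fun x hx => (le_sup_right : T ≤ Y' ⊔ T) (hTm x hx)) x hx
    · refine sup_le (fun y hy => ?_) (fun t ht => ?_)
      · obtain ⟨x, hx, rfl⟩ := hi.mem_iff.1 hy
        exact (hR' _).2 ⟨x, (le_sup_left : Y ≤ _) hx, rfl⟩
      · obtain ⟨x, hx, rfl⟩ := (hf.res hTQ).surj hTm ht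
        exact (hR' _).2 ⟨x, (le_sup_right : T ≤ Y ⊔ T) hx, rfl⟩
  subst he
  have hgg : ∀ y ∈ Y', g y = g' y := fun y hy => by
    obtain ⟨x, hx, rfl⟩ := hi.mem_iff.1 hy
    rw [(hi.l x hx).2, (hi''.l x (hY hx)).2]
  refine ⟨fun Q₂ Q' β β' hβ _ _ hβ' => h.transport hE hiR le_sup_right hβ hβ', Tp.congr
    (fun Q₂ Q' β β' hβ _ _ hβ' => h.transport hE hiR.symm le_sup_right hβ hβ') hgg⟩

/-- A `p'`-map of `D S`, trivial modulo `T`. -/
theorem mm_of_pp [Fact p.Prime] [Finite S] (hS : IsPGroup p S) (h : ESys p F E D)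
    (hEs : E.IsSaturated p) (hT : F.StronglyClosed T) {Q : Subgroup Ω} {κ : Ω → Ω}
    (hκF : Mp F Q κ) (hκ : Mp (D S) Q κ) (hpp : PP p Q κ) : MM F T D Q κ := by
  intro Y Y' g hY hi
  have hTS := hT.1
  have hTr : ∀ x ∈ Q, x⁻¹ * κ x ∈ T :=
    ((pPower_iff hTS).1 (h.idx S hTS le_rfl)).2.1 Q κ hκ hpp
  have hYTS : Y ⊔ T ≤ S := sup_le (hY.trans hκF.le) hTS
  have he : Y' ⊔ T = Y ⊔ T := by
    apply le_antisymm
    · refine sup_le (fun y hy => ?_) le_sup_right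
      obtain ⟨x, hx, rfl⟩ := hi.mem_iff.1 hy
      have h1 : κ x = x * (x⁻¹ * κ x) := by group
      rw [h1]
      exact mul_mem ((le_sup_left : Y ≤ _) hx) ((le_sup_right : T ≤ Y ⊔ T) (hTr x (hY hx)))
    · refine sup_le (fun x hx => ?_) le_sup_right
      have h1 : x = κ x * (x⁻¹ * κ x)⁻¹ := by group
      rw [h1]
      exact mul_mem ((le_sup_left : Y' ≤ _) (hi.l x hx).1)
        (Subgroup.inv_mem _ ((le_sup_right : T ≤ Y' ⊔ T) (hTr x (hY hx))))
  have hm : ∀ x ∈ Q ⊓ (Y ⊔ T), κ x ∈ Q ⊓ (Y ⊔ T) := by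
    intro x hx
    refine ⟨hpp.1 x hx.1, ?_⟩
    have h1 : κ x = x * (x⁻¹ * κ x) := by group
    rw [h1]
    exact mul_mem hx.2 ((le_sup_right : T ≤ Y ⊔ T) (hTr x hx.1))
  have h1 : Mp (D (Y ⊔ T)) (Q ⊓ (Y ⊔ T)) κ :=
    ((pPower_iff hYTS).1 (h.mono hS hEs le_sup_right hYTS le_rfl)).2.2 _ κ inf_le_right
      (hκ.res inf_le_left) (hpp.res inf_le_left hm)
  have h2 : Mp (D (Y ⊔ T)) Y κ := h1.res (le_inf hY le_sup_left)
  have h3 : Mp (D (Y' ⊔ T)) Y' g := by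
    rw [he]
    exact h2.symm fun y hy => by
      obtain ⟨x, hx, rfl⟩ := hi.mem_iff.1 hy
      exact ⟨x, hx, rfl, (hi.l x hx).2⟩
  exact ⟨tp_of_mp hi he h2, tp_of_mp hi.symm he.symm h3⟩

/-- A group is generated by its `p'`-elements and a Sylow `p`-subgroup. -/
theorem le_of_sylIn_of_coprime {G : Type*} [Group G] [Fact p.Prime] {K R L : Subgroup G} [Finite K]
    (hR : H802.SylIn p R K) (hRL : R ≤ L) (hc : ∀ k ∈ K, (orderOf k).Coprime p → k ∈ L) :
    K ≤ L := by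
  intro a ha
  obtain ⟨B, hB⟩ := hR.exists_sylow
  obtain ⟨r, hr, b, hb, hrb⟩ := exists_residual_mul B ⟨a, ha⟩
  have h1 : ∀ r : K, r ∈ pResidual p K → (r : G) ∈ L := by
    intro r hr
    refine Subgroup.closure_induction (p := fun (r : K) _ => (r : G) ∈ L) ?_ (one_mem _)
      (fun x y _ _ hx hy => mul_mem hx hy) (fun x _ hx => inv_mem hx) hr
    intro γ hγ
    refine hc γ γ.2 ?_
    rw [Subgroup.orderOf_coe]
    exact hγ
  have h2 : a = (r : G) * b := congrArg Subtype.val hrb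
  rw [h2]
  refine mul_mem (h1 r hr) (hRL ?_)
  rw [hB] at hb
  exact hb

/-- **The family is compatible with all maps of `F`.** -/
theorem siStar [Fact p.Prime] [Finite S] (hS : IsPGroup p S) (hF : F.IsSaturated p)
    (hE : E.IsInvariantIn F) (hEs : E.IsSaturated p) (h : ESys p F E D) :
    ∀ (P : Subgroup Ω) (f : Ω → Ω), Mp F P f → MM F T D P f := by
  have hT := hE.2.1
  have hTS := hT.1
  have hfT : Finite T := H802.finite_of_le hTS
  have hI : StrongInvC E F := (isInvariantIn_iff_strongInvC hS hF hE.1 hT).1 hE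
  refine mp_induction F hS hF (MM F T D) ?_ ?_ ?_ ?_ ?_
  · intro P f g _ h1 he
    exact h1.congr he
  · intro P R f _ h1 hR
    exact h1.res hR
  · intro P Q f g hf hg h1 h2 hm
    exact h1.comp h2 hf hg hm
  · intro P R f g hf h1 _ hinv
    exact h1.symm hf hinv
  · intro Q hQa hQr IH α hα f hf
    have hQS : Q ≤ S := hQa.1
    have hfQ : Finite Q := H802.finite_of_le hQS
    have hfm : Mp F Q f := mp_of_autGroup hQS hα hf
    by_cases hTQ : T ≤ Q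
    · exact mm_of_le h hE hfm hTQ
    have hQn := H802.isFullyNormalized_of_automized_receptive hS hQa hQr
    have hmp : ∀ β ∈ F.autGroup Q, Mp F Q (ex fun x => ((β x : Q) : Ω)) := fun β hβ =>
      (mp_iff_autGroup hQS β).1 hβ
    have hval : ∀ (β : MulAut Q) (x : Ω) (hx : x ∈ Q), ex (fun x => ((β x : Q) : Ω)) x =
        (β ⟨x, hx⟩ : Q) := fun β x hx => ex_apply _ hx
    have hQmem : ∀ κ ∈ F.autGroup Q, ∀ x (hx : x ∈ Q), x ∈ T → ((κ ⟨x, hx⟩ : Q) : Ω) ∈ T :=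
      fun κ hκ x hx hxT => aut_mem_T hT hQS hκ ⟨x, hx⟩ hxT
    -- the subgroup of good automorphisms
    let L : Subgroup (MulAut Q) :=
      { carrier := {β | β ∈ F.autGroup Q ∧ MM F T D Q (ex fun x => ((β x : Q) : Ω))}
        one_mem' := ⟨one_mem _, mm_id.congr fun x hx => by rw [hval 1 x hx]; rfl⟩
        mul_mem' := by
          rintro a b ⟨ha, ha'⟩ ⟨hb, hb'⟩
          refine ⟨mul_mem ha hb, (hb'.comp ha' (hmp b hb) (hmp a ha) fun x hx => ?_).congr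
            fun x hx => ?_⟩
          · rw [hval b x hx]
            exact (b _).2
          · rw [hval (a * b) x hx, hval b x hx, hval a _ (b ⟨x, hx⟩).2]
            rfl
        inv_mem' := by
          rintro a ⟨ha, ha'⟩
          refine ⟨Subgroup.inv_mem _ ha, ha'.symm (hmp a ha) fun y hy =>
            ⟨((a⁻¹ ⟨y, hy⟩ : Q) : Ω), (a⁻¹ _).2, ?_, ?_⟩⟩
          · rw [hval a _ (a⁻¹ ⟨y, hy⟩).2]
            show ((a (a⁻¹ ⟨y, hy⟩) : Q) : Ω) = y
            rw [MulAut.apply_inv_self]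
          · rw [hval a⁻¹ y hy] }
    -- automorphisms which extend to a larger subgroup are good
    have hext : ∀ β ∈ F.autGroup Q, ∀ (N : Subgroup Ω) (ψ : Ω → Ω), Mp F N ψ → Q < N →
        (∀ (x : Ω) (hx : x ∈ Q), ψ x = (β ⟨x, hx⟩ : Q)) → β ∈ L := by
      intro β hβ N ψ hψ hQN hψe
      have hfN : Finite N := H802.finite_of_le hψ.le
      have h1 : Nat.card Q < Nat.card N := by
        refine lt_of_le_of_ne (Subgroup.card_le_of_le hQN.le) fun he => hQN.ne ?_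
        exact Subgroup.eq_of_le_of_card_ge hQN.le he.ge
      exact ⟨hβ, ((IH N ψ hψ h1).res hQN.le).congr fun x hx => by rw [hval β x hx, hψe x hx]⟩
    -- extension when an element `t` outside `Q` is admissible
    have hext2 : ∀ β ∈ F.autGroup Q, ∀ t ∈ S, t ∉ Q → ∀ c : MulAut Q, H757.Cj t c →
        β * c * β⁻¹ ∈ autInducedBy S Q → β ∈ L := by
      intro β hβ t htS htQ c hc hcβ
      obtain ⟨N, ψ, hψ, hQN, hψe, hN⟩ := H753.mp_extend hQr (hmp β hβ) (fun y =>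
        ⟨fun hy => (hmp β hβ).surj (fun x hx => by rw [hval β x hx]; exact (β _).2) hy,
          fun ⟨x, hx, h⟩ => h ▸ (by rw [hval β x hx]; exact (β _).2)⟩)
      have htn := hc.mem_normalizer
      have htN : t ∈ N := by
        obtain ⟨g, hg, hgc⟩ := H757.exists_cj_of_mem hcβ
        refine hN t htS htn ⟨g, hg, fun x hx => ?_⟩
        have h11 : t * x * t⁻¹ ∈ Q := (Subgroup.mem_normalizer_iff.1 htn x).1 hx
        have h9 := hgc (β ⟨x, hx⟩)
        have h10 : (β * c * β⁻¹) (β ⟨x, hx⟩) = β (c ⟨x, hx⟩) := by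
          simp [MulAut.mul_apply]
        rw [h10] at h9
        rw [hval β _ h11, hval β x hx]
        have h12 : (⟨t * x * t⁻¹, h11⟩ : Q) = c ⟨x, hx⟩ := Subtype.ext (hc ⟨x, hx⟩).symm
        rw [h12, h9]
      refine hext β hβ N ψ hψ (lt_of_le_of_ne hQN fun he => htQ (he ▸ htN)) fun x hx => ?_
      rw [hψe x hx, hval β x hx]
    have hcjT : ∀ t ∈ T, ∀ c : MulAut Q, H757.Cj t c → c ∈ F.autGroup Q ∧
        ∀ x : Q, (x : Ω)⁻¹ * (c x : Q) ∈ T := by
      intro t ht c hc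
      refine ⟨hc.mem_autGroup hQS (hTS ht), fun x => ?_⟩
      rw [hc x]
      have h5 : (x : Ω)⁻¹ * (t * x * t⁻¹) = ((x : Ω)⁻¹ * t * (x : Ω)⁻¹⁻¹) * t⁻¹ := by group
      rw [h5]
      exact mul_mem (H759.StronglyClosed.conj_mem hT (Subgroup.inv_mem _ (hQS x.2)) ht)
        (Subgroup.inv_mem _ ht)
    suffices hαL : α ∈ L from hαL.2.congr fun x hx => by rw [hf x hx, hval α x hx]
    by_cases hC : centralizerIn T (Q ⊓ T) ≤ Q
    swap
    · -- `C_T(Q ∩ T) ≰ Q`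
      have hR : IsPGroup p ↥(Q ⊔ centralizerIn T (Q ⊓ T)) :=
        isPGroup_mono hS (sup_le hQS (inf_le_left.trans hTS))
      have hfR : Finite ↥(Q ⊔ centralizerIn T (Q ⊓ T)) :=
        H802.finite_of_le (sup_le hQS (inf_le_left.trans hTS))
      obtain ⟨u, hu, huQ, hun⟩ := H757.exists_normalizes_of_not_le hR
        (U := centralizerIn T (Q ⊓ T)) (V := Q) le_sup_right le_sup_left (by
          have h1 : Q ⊔ centralizerIn T (Q ⊓ T) ≤
              Subgroup.normalizer (centralizerIn T (Q ⊓ T) : Set Ω) := by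
            have hfC : Finite ↥(centralizerIn T (Q ⊓ T)) :=
              H802.finite_of_le (inf_le_left.trans hTS)
            refine sup_le (fun x hx => H757.mem_normalizer_of_conj_mem fun v hv => ⟨?_, ?_⟩)
              Subgroup.le_normalizer
            · exact H759.StronglyClosed.conj_mem hT (hQS hx) hv.1
            · refine Subgroup.mem_centralizer_iff.2 fun z hz => ?_
              have hz' : x⁻¹ * z * x ∈ Q ⊓ T := by
                refine ⟨mul_mem (mul_mem (Subgroup.inv_mem _ hx) hz.1) hx, ?_⟩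
                have h2 := H759.StronglyClosed.conj_mem hT (Subgroup.inv_mem _ (hQS hx)) hz.2
                simpa using h2
              have h3 := Subgroup.mem_centralizer_iff.1 hv.2 _ hz'
              calc z * (x * v * x⁻¹) = x * ((x⁻¹ * z * x) * v) * x⁻¹ := by group
                _ = x * (v * (x⁻¹ * z * x)) * x⁻¹ := by rw [h3]
                _ = x * v * x⁻¹ * z := by group
          intro r hr u hu
          exact (Subgroup.mem_normalizer_iff.1 (h1 hr) u).1 hu) hC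
      obtain ⟨c, hc⟩ := H757.exists_cj hun
      obtain ⟨hcF, hcT⟩ := hcjT u hu.1 c hc
      refine hext2 α hα u (hTS hu.1) huQ c hc (trG_le hS hT hQa (trG_normal hT hQS hα ?_))
      refine ⟨hcF, fun x hx => Subtype.ext ?_, hcT⟩
      rw [hc x]
      have h3 := Subgroup.mem_centralizer_iff.1 hu.2 _ (⟨x.2, hx⟩ : (x : Ω) ∈ Q ⊓ T)
      rw [← h3]
      group
    -- the group `K`
    let K : Subgroup (MulAut Q) :=
      { carrier := {κ | κ ∈ F.autGroup Q ∧ (∀ x : Q, (x : Ω)⁻¹ * (κ x : Q) ∈ T) ∧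
          Mp E (Q ⊓ T) (ex fun x => ((κ x : Q) : Ω))}
        one_mem' := ⟨one_mem _, fun x => by simp, (mp_id E inf_le_right).congr fun x hx => by
          rw [hval 1 x hx.1]; rfl⟩
        mul_mem' := by
          rintro a b ⟨ha, ha1, ha'⟩ ⟨hb, hb1, hb'⟩
          refine ⟨mul_mem ha hb, H757.Tr.mul ha1 hb1, (hb'.comp ha' fun x hx => ?_).congr
            fun x hx => ?_⟩
          · rw [hval b x hx.1]
            exact ⟨(b _).2, hQmem b hb x hx.1 hx.2⟩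
          · rw [hval (a * b) x hx.1, hval b x hx.1, hval a _ (b ⟨x, hx.1⟩).2]
            rfl
        inv_mem' := by
          rintro a ⟨ha, ha1, ha'⟩
          refine ⟨Subgroup.inv_mem _ ha, H757.Tr.inv ha1, ha'.symm fun y hy =>
            ⟨((a⁻¹ ⟨y, hy.1⟩ : Q) : Ω),
            ⟨(a⁻¹ _).2, hQmem a⁻¹ (Subgroup.inv_mem _ ha) y hy.1 hy.2⟩, ?_, ?_⟩⟩
          · rw [hval a _ (a⁻¹ ⟨y, hy.1⟩).2]
            show ((a (a⁻¹ ⟨y, hy.1⟩) : Q) : Ω) = y
            rw [MulAut.apply_inv_self]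
          · rw [hval a⁻¹ y hy.1] }
    have hKA : K ≤ F.autGroup Q := fun k hk => hk.1
    have hKn : ∀ a ∈ F.autGroup Q, ∀ k ∈ K, a * k * a⁻¹ ∈ K := by
      rintro a ha k ⟨hk, hk1, hk'⟩
      refine ⟨mul_mem (mul_mem ha hk) (Subgroup.inv_mem _ ha), H757.Tr.conj hT hQS ha hk1, ?_⟩
      refine hI (Q ⊓ T) (Q ⊓ T) (Q ⊓ T) _ _ _ le_rfl inf_le_right hk' (fun x hx => ?_)
        ((hmp a ha).res inf_le_left) fun y hy => ⟨((a⁻¹ ⟨y, hy.1⟩ : Q) : Ω),
          ⟨(a⁻¹ _).2, hQmem a⁻¹ (Subgroup.inv_mem _ ha) y hy.1 hy.2⟩, ?_, ?_⟩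
      · rw [hval k x hx.1]
        exact ⟨(k _).2, hQmem k hk x hx.1 hx.2⟩
      · rw [hval a _ (a⁻¹ ⟨y, hy.1⟩).2]
        show ((a (a⁻¹ ⟨y, hy.1⟩) : Q) : Ω) = y
        rw [MulAut.apply_inv_self]
      · rw [hval (a * k * a⁻¹) y hy.1, hval k _ (a⁻¹ ⟨y, hy.1⟩).2, hval a _ (k _).2]
        rfl
    have hfM := finite_mulAut Q
    have hSyl : H802.SylIn p (autInducedBy S Q ⊓ K) K :=
      (H750.sylIn_of_isFullyAutomized hQa).inf_normal hKA hKn
    -- a subgroup larger than `Q`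
    have hQlt : Q < S := lt_of_le_of_ne hQS fun he => hTQ (he ▸ hTS)
    have hKL : K ≤ L := by
      refine le_of_sylIn_of_coprime hSyl ?_ ?_
      · rintro c ⟨hc, hcK⟩
        obtain ⟨s, hs, hcs⟩ := H757.exists_cj_of_mem hc
        exact hext c hcK.1 S _ (mp_conj F le_rfl hs) hQlt fun x hx => (hcs ⟨x, hx⟩).symm
      · rintro κ ⟨hκ, hκ1, hκE⟩ hκc
        have hpp : PP p Q (ex fun x => ((κ x : Q) : Ω)) := pp_of_aut (hval κ) hκc
        have hD := h.sat S hTS le_rfl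
        obtain ⟨hE1, hE2, -⟩ := (pPower_iff hTS).1 (h.idx S hTS le_rfl)
        have hbc : Mp (D S) Q (ex fun x => ((κ x : Q) : Ω)) :=
          bc hS hF hT hI hD (h.le S hTS le_rfl) hE1 hE2 hQn hC (hmp κ hκ) hpp
            (fun x hx => by rw [hval κ x hx]; exact hκ1 ⟨x, hx⟩) hκE
        exact ⟨hκ, mm_of_pp hS h hEs hT (hmp κ hκ) hbc hpp⟩
    obtain ⟨k, hk, hkα⟩ := H757.frattini_in hSyl (hKn α hα)
    have hkαF : k * α ∈ F.autGroup Q := mul_mem (hKA hk) hα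
    -- an element of `N_T(Q)` outside `Q`
    have hkαL : k * α ∈ L := by
      have hlt := card_lt_card_sup hS hT hQS hTQ
      obtain ⟨t, ht, htQ⟩ : ∃ t ∈ T ⊓ Subgroup.normalizer (Q : Set Ω), t ∉ Q := by
        by_contra hcon
        push Not at hcon
        have h1 : Q ⊔ (T ⊓ Subgroup.normalizer (Q : Set Ω)) = Q := sup_eq_left.2 hcon
        rw [h1] at hlt
        exact lt_irrefl _ hlt
      obtain ⟨c, hc⟩ := H757.exists_cj ht.2
      obtain ⟨hcF, hcT⟩ := hcjT t ht.1 c hc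
      have hcK : c ∈ K := by
        refine ⟨hcF, hcT, (mp_conj E (P := Q ⊓ T) inf_le_right ht.1).congr fun x hx => ?_⟩
        rw [hval c x hx.1]
        exact hc ⟨x, hx.1⟩
      exact hext2 _ hkαF t (hTS ht.1) htQ c hc (hkα c ⟨hc.mem (hTS ht.1), hcK⟩).1
    have h1 : α = k⁻¹ * (k * α) := by group
    rw [h1]
    exact mul_mem (Subgroup.inv_mem _ (hKL hk)) hkαL

end Cfsg.Agent.H758
end

-- part: H758/PGen
section
/-!
# The product `E S`: generators and the system they generate (helper758)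

`GD`: the `p'`-automorphisms of `Q`, `Q ∩ T` centric in `E`, trivial modulo `T`, with restriction to `Q ∩ T` in `E`.
`NN`: composites of restrictions of such automorphisms. `prodSys`: the system generated by these and `S`.
(Construction due to E. Henke.)
-/

set_option autoImplicit false

namespace Cfsg.Agent.H758

open Cfsg Cfsg.FusionSystem Cfsg.Agent.H752

variable {Ω : Type*} [Group Ω] {S T : Subgroup Ω} {p : ℕ}

/-- The generators. -/
structure GD (p : ℕ) (F : FusionSystem S) (E : FusionSystem T) (Q : Subgroup Ω) (κ : Ω → Ω) :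
    Prop where
  mp : Mp F Q κ
  pp : PP p Q κ
  tr : ∀ x ∈ Q, x⁻¹ * κ x ∈ T
  e : Mp E (Q ⊓ T) κ
  cen : H756.TC F T (Q ⊓ T)

/-- Composites of restrictions of generators. -/
inductive NN (p : ℕ) (F : FusionSystem S) (E : FusionSystem T) (P : Subgroup Ω) : (Ω → Ω) → Prop
  | id (g : Ω → Ω) : P ≤ S → (∀ x ∈ P, g x = x) → NN p F E P g
  | step (Q : Subgroup Ω) (f κ g : Ω → Ω) : NN p F E P f → GD p F E Q κ →
      (∀ x ∈ P, f x ∈ Q) → (∀ x ∈ P, g x = κ (f x)) → NN p F E P g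

variable {F : FusionSystem S} {E : FusionSystem T}

/-! ### Generators -/

theorem GD.congr {Q : Subgroup Ω} {κ κ' : Ω → Ω} (h : GD p F E Q κ) (he : ∀ x ∈ Q, κ' x = κ x) :
    GD p F E Q κ' where
  mp := h.mp.congr he
  pp := h.pp.congr he
  tr := fun x hx => by rw [he x hx]; exact h.tr x hx
  e := h.e.congr fun x hx => he x hx.1
  cen := h.cen

/-- Restriction to a subgroup `Q ∩ R`, `T ≤ R`. -/
theorem GD.inf {Q R : Subgroup Ω} {κ : Ω → Ω} (h : GD p F E Q κ) (hR : T ≤ R) :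
    GD p F E (Q ⊓ R) κ := by
  have hm : ∀ x ∈ Q ⊓ R, κ x ∈ Q ⊓ R := fun x hx => by
    refine ⟨h.pp.1 x hx.1, ?_⟩
    have h1 : κ x = x * (x⁻¹ * κ x) := by group
    rw [h1]
    exact mul_mem hx.2 (hR (h.tr x hx.1))
  have he : (Q ⊓ R) ⊓ T = Q ⊓ T := by rw [inf_assoc, inf_eq_right.2 hR]
  exact ⟨h.mp.res inf_le_left, h.pp.res inf_le_left hm, fun x hx => h.tr x hx.1,
    by rw [he]; exact h.e, by rw [he]; exact h.cen⟩

theorem GD.mem_T {Q : Subgroup Ω} {κ : Ω → Ω} (h : GD p F E Q κ) {x : Ω} (hx : x ∈ Q) :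
    κ x ∈ T ↔ x ∈ T := by
  have h1 := h.tr x hx
  constructor
  · intro h2
    have h3 := mul_mem h2 (Subgroup.inv_mem _ h1)
    simpa using h3
  · intro h2
    have h3 := mul_mem h2 h1
    simpa using h3

/-- The inverse of a generator. -/
theorem GD.exists_inv [Fact p.Prime] {Q : Subgroup Ω} {κ : Ω → Ω} (h : GD p F E Q κ) :
    ∃ κ', GD p F E Q κ' ∧ (∀ x ∈ Q, κ' (κ x) = x) ∧ ∀ x ∈ Q, κ (κ' x) = x := by
  obtain ⟨hm, n, hn, hid⟩ := h.pp
  have hn0 : n ≠ 0 := by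
    rintro rfl
    rw [Nat.coprime_zero_left] at hn
    exact (Fact.out : p.Prime).ne_one hn
  obtain ⟨n, rfl⟩ := Nat.exists_eq_succ_of_ne_zero hn0
  have h1 : ∀ x ∈ Q, κ^[n] (κ x) = x := fun x hx => by
    rw [← Function.iterate_succ_apply]
    exact hid x hx
  have h2 : ∀ x ∈ Q, κ (κ^[n] x) = x := fun x hx => by
    rw [← Function.iterate_succ_apply' κ n x]
    exact hid x hx
  have hmn := iter_mem hm n
  have hmT : ∀ x ∈ Q ⊓ T, κ x ∈ Q ⊓ T := fun x hx => ⟨hm x hx.1, (h.mem_T hx.1).2 hx.2⟩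
  refine ⟨κ^[n], ⟨Mp.iter h.mp hm n, ⟨hmn, n + 1, hn, fun x hx => ?_⟩, fun x hx => ?_,
    Mp.iter h.e hmT n, h.cen⟩, h1, h2⟩
  · rw [← Function.iterate_mul, Nat.mul_comm, Function.iterate_mul]
    have h3 : ∀ m : ℕ, (κ^[n + 1])^[m] x = x := by
      intro m
      induction m with
      | zero => rfl
      | succ m ih => rw [Function.iterate_succ_apply, hid x hx, ih]
    exact h3 n
  · have h3 := Subgroup.inv_mem _ (h.tr (κ^[n] x) (hmn x hx))
    rw [h2 x hx] at h3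
    have h4 : ((κ^[n] x)⁻¹ * x)⁻¹ = x⁻¹ * κ^[n] x := by group
    rwa [h4] at h3

theorem cen_image [Finite S] (hT : F.StronglyClosed T) {W P R : Subgroup Ω} {f : Ω → Ω}
    (hf : Mp F W f) (hP : P ≤ W) (hR : ∀ y, y ∈ R ↔ ∃ x ∈ P, f x = y)
    (h : H756.TC F T (P ⊓ T)) : H756.TC F T (R ⊓ T) := by
  refine h.image hT (hf.res (inf_le_left.trans hP)) fun y => ?_
  constructor
  · rintro ⟨hy, hyT⟩
    obtain ⟨x, hx, rfl⟩ := (hR y).1 hy
    exact ⟨x, ⟨hx, mp_mem_of_stronglyClosed' hT hf (hP hx) hyT⟩, rfl⟩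
  · rintro ⟨x, hx, rfl⟩
    exact ⟨(hR _).2 ⟨x, hx.1, rfl⟩, mp_mem_of_stronglyClosed hT hf (hP hx.1) hx.2⟩

/-- Transport of a generator by a map of `F`. -/
theorem GD.transport [Finite S] (hT : F.StronglyClosed T) (hI : StrongInvC E F)
    {W Q Q' : Subgroup Ω} {f κ : Ω → Ω} (hf : Mp F W f) (hQ : Q ≤ W)
    (hQ' : ∀ y, y ∈ Q' ↔ ∃ x ∈ Q, f x = y) (h : GD p F E Q κ) :
    ∃ κ', GD p F E Q' κ' ∧ ∀ x ∈ Q, κ' (f x) = f (κ x) := by
  obtain ⟨κ', hκ', hpp', he⟩ := pp_transport hf hQ hQ' h.mp h.pp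
  have hT1 : ∀ x ∈ Q, (f x ∈ T ↔ x ∈ T) := fun x hx =>
    ⟨mp_mem_of_stronglyClosed' hT hf (hQ hx), mp_mem_of_stronglyClosed hT hf (hQ hx)⟩
  refine ⟨κ', ⟨hκ', hpp', fun y hy => ?_, ?_, cen_image hT hf hQ hQ' h.cen⟩, he⟩
  · obtain ⟨x, hx, rfl⟩ := (hQ' y).1 hy
    rw [he x hx, ← hf.inv (hQ hx), ← hf.mul (Subgroup.inv_mem _ (hQ hx)) (hQ (h.pp.1 x hx))]
    exact mp_mem_of_stronglyClosed hT hf
      (mul_mem (Subgroup.inv_mem _ (hQ hx)) (hQ (h.pp.1 x hx))) (h.tr x hx)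
  · refine hI (Q ⊓ T) (Q ⊓ T) (Q' ⊓ T) κ f κ' le_rfl inf_le_right h.e (fun x hx =>
      ⟨h.pp.1 x hx.1, (h.mem_T hx.1).2 hx.2⟩) (hf.res (inf_le_left.trans hQ)) fun y hy => ?_
    obtain ⟨x, hx, rfl⟩ := (hQ' y).1 hy.1
    exact ⟨x, ⟨hx, (hT1 x hx).1 hy.2⟩, rfl, he x hx⟩

/-! ### Composites -/

namespace NN

variable {P R : Subgroup Ω} {f g : Ω → Ω}

theorem mp (h : NN p F E P f) : Mp F P f := by
  induction h with
  | id g hP hg => exact (mp_id F hP).congr hg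
  | step Q f κ g _ hκ hm hg ih => exact (ih.comp hκ.mp hm).congr hg

theorem tr (h : NN p F E P f) : ∀ x ∈ P, x⁻¹ * f x ∈ T := by
  induction h with
  | id g hP hg => intro x hx; rw [hg x hx]; simp
  | step Q f κ g _ hκ hm hg ih =>
    intro x hx
    rw [hg x hx]
    have h1 : x⁻¹ * κ (f x) = (x⁻¹ * f x) * ((f x)⁻¹ * κ (f x)) := by group
    rw [h1]
    exact mul_mem (ih x hx) (hκ.tr _ (hm x hx))

theorem mem_T (h : NN p F E P f) {x : Ω} (hx : x ∈ P) : f x ∈ T ↔ x ∈ T := by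
  have h1 := h.tr x hx
  constructor
  · intro h2
    have h3 := mul_mem h2 (Subgroup.inv_mem _ h1)
    simpa using h3
  · intro h2
    have h3 := mul_mem h2 h1
    simpa using h3

theorem mem_sup (h : NN p F E P f) {x : Ω} (hx : x ∈ P) : f x ∈ P ⊔ T := by
  have h1 : f x = x * (x⁻¹ * f x) := by group
  rw [h1]
  exact mul_mem ((le_sup_left : P ≤ _) hx) ((le_sup_right : T ≤ P ⊔ T) (h.tr x hx))

theorem e (h : NN p F E P f) : Mp E (P ⊓ T) f := by
  induction h with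
  | id g hP hg => exact (mp_id E inf_le_right).congr fun x hx => hg x hx.1
  | step Q f κ g hf hκ hm hg ih =>
    exact (ih.comp hκ.e fun x hx => ⟨hm x hx.1, (hf.mem_T hx.1).2 hx.2⟩).congr fun x hx => hg x hx.1

theorem congr (h : NN p F E P f) (he : ∀ x ∈ P, g x = f x) : NN p F E P g := by
  cases h with
  | id _ hP hg => exact NN.id g hP fun x hx => (he x hx).trans (hg x hx)
  | step Q f₀ κ _ hf hκ hm hg =>
    exact NN.step Q f₀ κ g hf hκ hm fun x hx => (he x hx).trans (hg x hx)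

theorem res (h : NN p F E P f) (hR : R ≤ P) : NN p F E R f := by
  induction h with
  | id g hP hg => exact NN.id g (hR.trans hP) fun x hx => hg x (hR hx)
  | step Q f κ g _ hκ hm hg ih =>
    exact NN.step Q f κ g ih hκ (fun x hx => hm x (hR hx)) fun x hx => hg x (hR hx)

theorem comp {Q : Subgroup Ω} (h : NN p F E P f) (h' : NN p F E Q g) (hm : ∀ x ∈ P, f x ∈ Q) :
    NN p F E P (fun x => g (f x)) := by
  induction h' with
  | id g hQ hg => exact h.congr fun x hx => hg _ (hm x hx)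
  | step R g κ g' _ hκ hm' hg' ih =>
    exact NN.step R _ κ _ ih hκ (fun x hx => hm' _ (hm x hx)) fun x hx => hg' _ (hm x hx)

theorem of_gd {Q : Subgroup Ω} {κ : Ω → Ω} (h : GD p F E Q κ) : NN p F E Q κ :=
  NN.step Q (fun x => x) κ κ (NN.id _ h.mp.le fun _ _ => rfl) h (fun _ hx => hx) fun _ _ => rfl

theorem symm [Fact p.Prime] (h : NN p F E P f) :
    ∀ (R : Subgroup Ω) (g : Ω → Ω), (∀ y ∈ R, ∃ x ∈ P, f x = y ∧ g y = x) → NN p F E R g := by
  induction h with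
  | id f hP hf =>
    intro R g hg
    refine NN.id g (fun y hy => ?_) fun y hy => ?_
    · obtain ⟨x, hx, h1, -⟩ := hg y hy
      rw [← h1, hf x hx]
      exact hP hx
    · obtain ⟨x, hx, h1, h2⟩ := hg y hy
      rw [h2, ← h1, hf x hx]
  | step Q f κ g' hf hκ hm hg' ih =>
    intro R g hg
    obtain ⟨κ', hκ', h1, h2⟩ := hκ.exists_inv
    have hRQ : R ≤ Q := fun y hy => by
      obtain ⟨x, hx, h3, -⟩ := hg y hy
      rw [← h3, hg' x hx]
      exact hκ.pp.1 _ (hm x hx)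
    obtain ⟨R₁, hR₁, -, -⟩ := hκ'.mp.exists_image hRQ
    have h3 : NN p F E R₁ (fun z => g (κ z)) := by
      refine ih R₁ _ fun z hz => ?_
      obtain ⟨y, hy, rfl⟩ := (hR₁ z).1 hz
      obtain ⟨x, hx, h4, h5⟩ := hg y hy
      refine ⟨x, hx, ?_, ?_⟩
      · rw [← h4, hg' x hx, h1 _ (hm x hx)]
      · rw [h2 y (hRQ hy), h5]
    refine (((NN.of_gd hκ').res hRQ).comp h3 fun y hy => (hR₁ _).2 ⟨y, hy, rfl⟩).congr fun y hy => ?_
    show g y = g (κ (κ' y))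
    rw [h2 y (hRQ hy)]

/-- Transport of a composite by a map of `F` defined on `P T`. -/
theorem transport [Finite S] (hT : F.StronglyClosed T) (hI : StrongInvC E F) {W : Subgroup Ω}
    {χ : Ω → Ω} (hχ : Mp F W χ) (h : NN p F E P f) (hPW : P ≤ W) (hTW : T ≤ W)
    (hR : ∀ y ∈ R, ∃ x ∈ P, χ x = y ∧ g y = χ (f x)) : NN p F E R g := by
  induction h generalizing R g with
  | id f hP hf =>
    refine NN.id g (fun y hy => ?_) fun y hy => ?_
    · obtain ⟨x, hx, h1, -⟩ := hR y hy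
      rw [← h1]
      exact hχ.mem (hPW hx)
    · obtain ⟨x, hx, h1, h2⟩ := hR y hy
      rw [h2, hf x hx, h1]
  | step Q f κ g' hf hκ hm hg' ih =>
    have hκ' := hκ.inf hTW
    obtain ⟨Q', hQ', -, -⟩ := hκ'.mp.exists_image (le_refl (Q ⊓ W))
    obtain ⟨Q₁, hQ₁, -, -⟩ := hχ.exists_image (inf_le_right : Q ⊓ W ≤ W)
    obtain ⟨κ₁, hκ₁, he⟩ := hκ'.transport hT hI hχ inf_le_right hQ₁
    have hfW : ∀ x ∈ P, f x ∈ Q ⊓ W := fun x hx =>
      ⟨hm x hx, (sup_le hPW hTW) (hf.mem_sup hx)⟩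
    classical
    have hch : ∀ y ∈ R, ∃ x, x ∈ P ∧ χ x = y ∧ g y = χ (g' x) := fun y hy => by
      obtain ⟨x, hx, h1, h2⟩ := hR y hy
      exact ⟨x, hx, h1, h2⟩
    choose! inv hi1 hi2 hi3 using hch
    have h1 : NN p F E R (fun y => χ (f (inv y))) := ih fun y hy =>
      ⟨inv y, hi1 y hy, hi2 y hy, rfl⟩
    refine NN.step Q₁ _ κ₁ g h1 hκ₁ (fun y hy => (hQ₁ _).2 ⟨_, hfW _ (hi1 y hy), rfl⟩)
      fun y hy => ?_
    rw [he _ (hfW _ (hi1 y hy)), hi3 y hy, hg' _ (hi1 y hy)]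

end NN

/-! ### The system -/

/-- A composite of generators followed by conjugation by `s`. -/
def DPs (p : ℕ) (F : FusionSystem S) (E : FusionSystem T) (s : Ω) (P : Subgroup Ω)
    (f : Ω → Ω) : Prop :=
  ∃ ν, NN p F E P ν ∧ ∀ x ∈ P, f x = s * ν x * s⁻¹

/-- The maps of the product system. -/
def DP (p : ℕ) (F : FusionSystem S) (E : FusionSystem T) (P : Subgroup Ω) (f : Ω → Ω) : Prop :=
  ∃ s ∈ S, DPs p F E s P f

theorem NN.dp [Finite S] {P : Subgroup Ω} {f : Ω → Ω} (h : NN p F E P f) : DP p F E P f :=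
  ⟨1, one_mem S, f, h, fun x _ => by simp⟩

theorem DPs.comp [Finite S] (hT : F.StronglyClosed T) (hI : StrongInvC E F) {s t : Ω} (hs : s ∈ S)
    {P Q : Subgroup Ω} {f g : Ω → Ω} (h : DPs p F E s P f) (h' : DPs p F E t Q g)
    (hPQ : ∀ x ∈ P, f x ∈ Q) : DPs p F E (t * s) P (fun x => g (f x)) := by
  obtain ⟨ν, hν, h⟩ := h
  obtain ⟨μ, hμ, h'⟩ := h'
  obtain ⟨R, hR, hRS, -⟩ := hν.mp.exists_image le_rfl
  have h1 : NN p F E R (fun y => s⁻¹ * μ (s * y * s⁻¹) * s) := by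
    obtain ⟨R', hR', hR'S, -⟩ := (mp_conj F hRS hs).exists_image le_rfl
    have hR'Q : R' ≤ Q := fun z hz => by
      obtain ⟨y, hy, rfl⟩ := (hR' z).1 hz
      obtain ⟨x, hx, rfl⟩ := (hR y).1 hy
      rw [← h x hx]
      exact hPQ x hx
    refine (hμ.res hR'Q).transport hT hI (mp_conj F (le_refl S) (Subgroup.inv_mem _ hs)) hR'S
      hT.1 fun y hy => ⟨s * y * s⁻¹, (hR' _).2 ⟨y, hy, rfl⟩, ?_, ?_⟩
    · group
    · show _ = s⁻¹ * μ (s * y * s⁻¹) * s⁻¹⁻¹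
      rw [inv_inv]
  refine ⟨_, hν.comp h1 fun x hx => (hR _).2 ⟨x, hx, rfl⟩, fun x hx => ?_⟩
  show g (f x) = t * s * (s⁻¹ * μ (s * ν x * s⁻¹) * s) * (t * s)⁻¹
  rw [h' _ (hPQ x hx), h x hx]
  group

theorem sysPred_dp [Finite S] [Fact p.Prime] (hT : F.StronglyClosed T) (hI : StrongInvC E F) :
    SysPred F S (DP p F E) where
  mp := by
    rintro P f ⟨s, hs, ν, hν, h⟩
    exact (hν.mp.comp (mp_conj F le_rfl hs) fun x hx => hν.mp.mem hx).congr h
  le := by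
    rintro P f ⟨s, hs, ν, hν, h⟩
    exact hν.mp.le
  mem := by
    rintro P f ⟨s, hs, ν, hν, h⟩ x hx
    rw [h x hx]
    exact mul_mem (mul_mem hs (hν.mp.mem hx)) (Subgroup.inv_mem _ hs)
  congr := by
    rintro P f g ⟨s, hs, ν, hν, h⟩ he
    exact ⟨s, hs, ν, hν, fun x hx => (he x hx).trans (h x hx)⟩
  conj := by
    intro P t hP ht
    exact ⟨t, ht, fun x => x, NN.id _ hP fun _ _ => rfl, fun _ _ => rfl⟩
  comp := by
    rintro P Q f g ⟨s, hs, h⟩ ⟨t, ht, h'⟩ hPQ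
    exact ⟨t * s, mul_mem ht hs, h.comp hT hI hs h' hPQ⟩
  symm := by
    rintro P R f g ⟨s, hs, ν, hν, h⟩ hR hg
    obtain ⟨R', hR', hR'S, -⟩ := hν.mp.exists_image le_rfl
    obtain ⟨ν', hν', hl, hr⟩ := hν.mp.exists_symm le_rfl hR'
    have h1 : NN p F E R' ν' := hν.symm R' ν' fun y hy => by
      obtain ⟨x, hx, rfl⟩ := (hR' y).1 hy
      exact ⟨x, hx, rfl, hl x hx⟩
    refine ⟨s⁻¹, Subgroup.inv_mem _ hs, fun y => s * g y * s⁻¹, ?_, fun y _ => by group⟩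
    refine h1.transport hT hI (mp_conj F (le_refl S) hs) hR'S hT.1 fun y hy => ?_
    obtain ⟨x, hx, rfl⟩ := (hR y).1 hy
    refine ⟨ν x, (hR' _).2 ⟨x, hx, rfl⟩, (h x hx).symm, ?_⟩
    show s * g (f x) * s⁻¹ = s * ν' (ν x) * s⁻¹
    rw [hg x hx, hl x hx]

/-- The product system `E S`. -/
noncomputable def prodSys [Finite S] [Fact p.Prime] (hT : F.StronglyClosed T)
    (hI : StrongInvC E F) : FusionSystem S := subSys (sysPred_dp (p := p) hT hI)

theorem mp_prodSys [Finite S] [Fact p.Prime] {hT : F.StronglyClosed T} {hI : StrongInvC E F}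
    {P : Subgroup Ω} {f : Ω → Ω} : Mp (prodSys (p := p) hT hI) P f ↔ DP p F E P f := mp_subSys _

theorem prodSys_le [Finite S] [Fact p.Prime] (hT : F.StronglyClosed T) (hI : StrongInvC E F) :
    (prodSys (p := p) hT hI).IsSubsystemOf F := subSys_isSubsystemOf _

/-! ### Automorphisms of order prime to `p` -/

theorem NN.iter {P : Subgroup Ω} {f : Ω → Ω} (h : NN p F E P f) (hm : ∀ x ∈ P, f x ∈ P) (n : ℕ) :
    NN p F E P (f^[n]) := by
  induction n with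
  | zero => exact NN.id _ h.mp.le fun _ _ => rfl
  | succ n ih => exact (h.comp ih hm).congr fun x _ => Function.iterate_succ_apply f n x

theorem DPs.iter [Finite S] (hT : F.StronglyClosed T) (hI : StrongInvC E F) {s : Ω} (hs : s ∈ S)
    {P : Subgroup Ω} {f : Ω → Ω} (h : DPs p F E s P f) (hm : ∀ x ∈ P, f x ∈ P) (n : ℕ) :
    DPs p F E (s ^ n) P (f^[n]) := by
  induction n with
  | zero =>
    obtain ⟨ν, hν, -⟩ := h
    exact ⟨fun x => x, NN.id _ hν.mp.le fun _ _ => rfl, fun x _ => by simp⟩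
  | succ n ih =>
    obtain ⟨ν, hν, h1⟩ := h.comp hT hI hs ih hm
    refine ⟨ν, hν, fun x hx => ?_⟩
    rw [pow_succ, ← h1 x hx, Function.iterate_succ_apply]

/-- A `p'`-automorphism in the product system is a composite of generators. -/
theorem nn_of_pp [Finite S] [Fact p.Prime] (hS : IsPGroup p S) (hT : F.StronglyClosed T)
    (hI : StrongInvC E F) {P : Subgroup Ω} {f : Ω → Ω} (h : DP p F E P f) (hpp : PP p P f) :
    NN p F E P f := by
  obtain ⟨s, hs, h⟩ := h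
  obtain ⟨hm, n, hn, hid⟩ := hpp
  obtain ⟨k, hk⟩ := hS ⟨s, hs⟩
  have hk' : s ^ p ^ k = 1 := congrArg Subtype.val hk
  obtain ⟨ν, hν, h1⟩ := h.iter hT hI hs hm (p ^ k)
  have h2 : NN p F E P (f^[p ^ k]) := hν.congr fun x hx => by rw [h1 x hx, hk']; simp
  have hc : (p ^ k).Coprime n := (Nat.Coprime.pow_right k hn).symm
  obtain ⟨m, hm1, hm2⟩ : ∃ m : ℕ, p ^ k * m ≡ 1 [MOD n] ∧ True := by
    by_cases hn1 : n = 1
    · exact ⟨0, by rw [hn1]; exact Nat.modEq_one, trivial⟩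
    · have hn0 : n ≠ 0 := by
        rintro rfl
        rw [Nat.coprime_zero_left] at hn
        exact (Fact.out : p.Prime).ne_one hn
      obtain ⟨m, hm⟩ := Nat.exists_mul_mod_eq_one_of_coprime hc (by omega)
      exact ⟨m, by rw [Nat.ModEq, hm.2, Nat.mod_eq_of_lt (by omega)], trivial⟩
  have h3 := h2.iter (iter_mem hm _) m
  rw [← Function.iterate_mul] at h3
  refine h3.congr fun x hx => ?_
  have hid' : ∀ j : ℕ, f^[n * j] x = x := by
    intro j
    rw [Function.iterate_mul]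
    induction j with
    | zero => rfl
    | succ j ih => rw [Function.iterate_succ_apply, hid x hx, ih]
  have hn0 : n ≠ 0 := by
    rintro rfl
    rw [Nat.coprime_zero_left] at hn
    exact (Fact.out : p.Prime).ne_one hn
  have h4 : f^[p ^ k * m] x = f^[(p ^ k * m) % n] x := by
    conv_lhs => rw [← Nat.mod_add_div (p ^ k * m) n, Function.iterate_add_apply, hid']
  have h5 : f^[1] x = f^[1 % n] x := by
    conv_lhs => rw [← Nat.mod_add_div 1 n, Function.iterate_add_apply, hid']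
  rw [h4, hm1, ← h5]
  rfl

theorem gd_of_pp [Finite S] [Fact p.Prime] (hS : IsPGroup p S) (hT : F.StronglyClosed T)
    (hI : StrongInvC E F) {P : Subgroup Ω} {f : Ω → Ω} (h : DP p F E P f) (hpp : PP p P f)
    (hc : H756.TC F T (P ⊓ T)) : GD p F E P f := by
  have h1 := nn_of_pp hS hT hI h hpp
  exact ⟨h1.mp, hpp, h1.tr, h1.e, hc⟩

/-! ### `E` and the product system -/

theorem le_prodSys [Finite S] [Fact p.Prime] (hS : IsPGroup p S) (hT : F.StronglyClosed T)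
    (hI : StrongInvC E F) (hE : E.IsInvariantIn F) (hEs : E.IsSaturated p) :
    E.IsSubsystemOf (prodSys (p := p) hT hI) := by
  have hTS := hT.1
  have hfT : Finite T := H802.finite_of_le hTS
  have hTp : IsPGroup p T := isPGroup_mono hS hTS
  have hpred : SysPred E T (fun P f => Mp E P f ∧ DP p F E P f) := by
    have h0 := sysPred_dp (p := p) hT hI
    refine ⟨fun h => h.1, fun h => h.1.le, fun h x hx => h.1.mem hx,
      fun h he => ⟨h.1.congr he, h0.congr h.2 he⟩,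
      fun hP ht => ⟨mp_conj E hP ht, h0.conj (hP.trans hTS) (hTS ht)⟩,
      fun h h' hm => ⟨h.1.comp h'.1 hm, h0.comp h.2 h'.2 hm⟩, ?_⟩
    intro P R f g h hR hg
    refine ⟨h.1.symm fun y hy => ?_, h0.symm h.2 hR hg⟩
    obtain ⟨x, hx, rfl⟩ := (hR y).1 hy
    exact ⟨x, hx, rfl, hg x hx⟩
  intro P φ hφ
  have key := H802.le_of_centric hTp hEs (subSys hpred) (fun Q hQ hQc _ => ?_) P hφ
  · have h1 : Mp (subSys hpred) P (ex φ) := mp_ex key
    exact (mp_prodSys.2 ((mp_subSys hpred).1 h1).2).mem_hom fun x hx => (ex_apply _ hx).symm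
  · have hQT : Q ≤ T := hQ.1
    have hQS := hQT.trans hTS
    have hfQ : Finite Q := H802.finite_of_le hQT
    have hfM := finite_mulAut Q
    have hsyl := H750.sylIn_of_isFullyAutomized (H802.isFullyAutomized_of_isFullyNormalized hTp hEs hQ)
    have hfE : Finite (E.autGroup Q) := inferInstance
    refine le_of_sylIn_of_coprime hsyl (H802.autInducedBy_le_autGroup _ hQT) fun α hα hc => ?_
    have hval : ∀ (x : Ω) (hx : x ∈ Q), ex (fun x => ((α x : Q) : Ω)) x = (α ⟨x, hx⟩ : Q) :=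
      fun x hx => ex_apply _ hx
    have hαE := (mp_iff_autGroup hQT α).1 hα
    rw [mp_iff_autGroup hQT]
    refine (mp_subSys hpred).2 ⟨hαE, NN.dp (NN.of_gd ⟨mp_mono hE.1 hαE, pp_of_aut hval hc,
      fun x hx => ?_, ?_, ?_⟩)⟩
    · rw [hval x hx]
      exact mul_mem (Subgroup.inv_mem _ (hQT hx)) (hQT (α ⟨x, hx⟩).2)
    · rw [inf_eq_left.2 hQT]
      exact hαE
    · rw [inf_eq_left.2 hQT]
      exact (H756.isCentric_iff_tc hE).1 hQc

theorem prodSys_index [Finite S] [Fact p.Prime] (hS : IsPGroup p S) (hT : F.StronglyClosed T)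
    (hI : StrongInvC E F) (hE : E.IsInvariantIn F) (hEs : E.IsSaturated p) :
    E.HasPPowerIndexIn (prodSys (p := p) hT hI) p := by
  refine (pPower_iff hT.1).2 ⟨le_prodSys hS hT hI hE hEs, fun P f hf hpp => ?_,
    fun P f hP hf hpp => ?_⟩
  · exact (nn_of_pp hS hT hI (mp_prodSys.1 hf) hpp).tr
  · have h1 := (nn_of_pp hS hT hI (mp_prodSys.1 hf) hpp).e
    rwa [inf_eq_left.2 hP] at h1

end Cfsg.Agent.H758
end

-- part: H758/PFact
section
/-!
# Factorization of maps of `F` through the product system (helper758)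

Every map of `F` on `P` is `ψ ∘ ν` with `ν` a composite of generators and `ψ` a map of `F` on `P T`.
-/

set_option autoImplicit false

namespace Cfsg.Agent.H758

open Cfsg Cfsg.FusionSystem Cfsg.Agent.H752

variable {Ω : Type*} [Group Ω] {S T : Subgroup Ω} {p : ℕ} {F : FusionSystem S}
  {E : FusionSystem T}

/-- `f = ψ ν` on `P`. -/
def FF (p : ℕ) (F : FusionSystem S) (E : FusionSystem T) (P : Subgroup Ω) (f : Ω → Ω) : Prop :=
  ∃ ν, NN p F E P ν ∧ ∃ ψ, Mp F (P ⊔ T) ψ ∧ ∀ x ∈ P, f x = ψ (ν x)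

theorem FF.congr {P : Subgroup Ω} {f g : Ω → Ω} (h : FF p F E P f) (he : ∀ x ∈ P, g x = f x) :
    FF p F E P g := by
  obtain ⟨ν, hν, ψ, hψ, h⟩ := h
  exact ⟨ν, hν, ψ, hψ, fun x hx => (he x hx).trans (h x hx)⟩

theorem FF.res {P R : Subgroup Ω} {f : Ω → Ω} (h : FF p F E P f) (hR : R ≤ P) :
    FF p F E R f := by
  obtain ⟨ν, hν, ψ, hψ, h⟩ := h
  exact ⟨ν, hν.res hR, ψ, hψ.res (sup_le_sup_right hR T), fun x hx => h x (hR hx)⟩

/-- The data of a factorization. -/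
theorem FF.data [Finite S] (hT : F.StronglyClosed T) {P : Subgroup Ω} {ν ψ : Ω → Ω}
    (hν : NN p F E P ν) (hψ : Mp F (P ⊔ T) ψ) :
    ∃ (P₁ W : Subgroup Ω) (ψ' : Ω → Ω), (∀ y, y ∈ P₁ ↔ ∃ x ∈ P, ν x = y) ∧ P₁ ≤ P ⊔ T ∧
      (∀ y, y ∈ W ↔ ∃ x ∈ P ⊔ T, ψ x = y) ∧ Mp F W ψ' ∧ (∀ x ∈ P ⊔ T, ψ' (ψ x) = x) ∧
      (∀ y ∈ W, ψ' y ∈ P ⊔ T ∧ ψ (ψ' y) = y) ∧ T ≤ W := by
  obtain ⟨P₁, hP₁, -, -⟩ := hν.mp.exists_image le_rfl
  obtain ⟨W, hW, -, -⟩ := hψ.exists_image le_rfl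
  obtain ⟨ψ', hψ', hl, hr⟩ := hψ.exists_symm le_rfl hW
  refine ⟨P₁, W, ψ', hP₁, fun y hy => ?_, hW, hψ', hl, hr, fun t ht => ?_⟩
  · obtain ⟨x, hx, rfl⟩ := (hP₁ y).1 hy
    exact hν.mem_sup hx
  · have hfT : Finite T := H802.finite_of_le hT.1
    have hTm : ∀ t ∈ T, ψ t ∈ T := fun t ht =>
      mp_mem_of_stronglyClosed hT hψ ((le_sup_right : T ≤ P ⊔ T) ht) ht
    obtain ⟨x, hx, rfl⟩ := (hψ.res (le_sup_right : T ≤ P ⊔ T)).surj hTm ht
    exact (hW _).2 ⟨x, (le_sup_right : T ≤ P ⊔ T) hx, rfl⟩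

theorem FF.comp [Finite S] (hT : F.StronglyClosed T) (hI : StrongInvC E F) {P Q : Subgroup Ω}
    {f g : Ω → Ω} (h : FF p F E P f) (h' : FF p F E Q g) (hm : ∀ x ∈ P, f x ∈ Q) :
    FF p F E P (fun x => g (f x)) := by
  obtain ⟨ν, hν, ψ, hψ, h⟩ := h
  obtain ⟨μ, hμ, θ, hθ, h'⟩ := h'
  obtain ⟨P₁, W, ψ', hP₁, hP₁T, hW, hψ', hl, hr, hTW⟩ := FF.data hT hν hψ
  obtain ⟨P₂, hP₂, -, -⟩ := hψ.exists_image hP₁T
  have hP₂Q : P₂ ≤ Q := fun y hy => by
    obtain ⟨z, hz, rfl⟩ := (hP₂ y).1 hy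
    obtain ⟨x, hx, rfl⟩ := (hP₁ z).1 hz
    rw [← h x hx]
    exact hm x hx
  have hP₂W : P₂ ≤ W := fun y hy => by
    obtain ⟨z, hz, rfl⟩ := (hP₂ y).1 hy
    exact (hW _).2 ⟨z, hP₁T hz, rfl⟩
  have h1 : NN p F E P₁ (fun y => ψ' (μ (ψ y))) :=
    (hμ.res hP₂Q).transport hT hI hψ' hP₂W hTW fun y hy =>
      ⟨ψ y, (hP₂ _).2 ⟨y, hy, rfl⟩, hl y (hP₁T hy), rfl⟩
  have hψQ : ∀ x ∈ P ⊔ T, ψ x ∈ Q ⊔ T := by
    refine mp_sup_mem hψ (fun x hx => ?_) fun t ht => (le_sup_right : T ≤ Q ⊔ T)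
      (mp_mem_of_stronglyClosed hT hψ ((le_sup_right : T ≤ P ⊔ T) ht) ht)
    have h2 := hν.tr x hx
    have h3 : x = ν x * (x⁻¹ * ν x)⁻¹ := by group
    have h4 : ψ x = ψ (ν x) * ψ ((x⁻¹ * ν x)⁻¹) := by
      conv_lhs => rw [h3]
      exact hψ.mul (hν.mem_sup hx) ((le_sup_right : T ≤ P ⊔ T) (Subgroup.inv_mem _ h2))
    rw [h4, ← h x hx]
    exact mul_mem ((le_sup_left : Q ≤ _) (hm x hx)) ((le_sup_right : T ≤ Q ⊔ T)
      (mp_mem_of_stronglyClosed hT hψ ((le_sup_right : T ≤ P ⊔ T) (Subgroup.inv_mem _ h2))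
        (Subgroup.inv_mem _ h2)))
  refine ⟨_, hν.comp h1 fun x hx => (hP₁ _).2 ⟨x, hx, rfl⟩, fun x => θ (ψ x),
    hψ.comp hθ hψQ, fun x hx => ?_⟩
  show g (f x) = θ (ψ (ψ' (μ (ψ (ν x)))))
  have h5 : ψ (ν x) ∈ P₂ := (hP₂ _).2 ⟨ν x, (hP₁ _).2 ⟨x, hx, rfl⟩, rfl⟩
  have h6 : μ (ψ (ν x)) ∈ W := by
    have h7 := (hμ.res hP₂Q).mem_sup h5
    exact (sup_le hP₂W hTW) h7
  rw [(hr _ h6).2, h' _ (hm x hx), h x hx]

theorem FF.symm [Finite S] [Fact p.Prime] (hT : F.StronglyClosed T) (hI : StrongInvC E F)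
    {P R : Subgroup Ω} {f g : Ω → Ω} (h : FF p F E P f)
    (hg : ∀ y ∈ R, ∃ x ∈ P, f x = y ∧ g y = x) : FF p F E R g := by
  obtain ⟨ν, hν, ψ, hψ, h⟩ := h
  obtain ⟨P₁, W, ψ', hP₁, hP₁T, hW, hψ', hl, hr, hTW⟩ := FF.data hT hν hψ
  obtain ⟨ν', hν', hl', hr'⟩ := hν.mp.exists_symm le_rfl hP₁
  have h1 : NN p F E P₁ ν' := hν.symm P₁ ν' fun y hy => by
    obtain ⟨x, hx, rfl⟩ := (hP₁ y).1 hy
    exact ⟨x, hx, rfl, hl' x hx⟩
  have hRW : R ≤ W := fun y hy => by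
    obtain ⟨x, hx, rfl, -⟩ := hg y hy
    rw [h x hx]
    exact (hW _).2 ⟨_, hν.mem_sup hx, rfl⟩
  have h2 : NN p F E R (fun y => ψ (g y)) := by
    refine h1.transport hT hI hψ hP₁T le_sup_right fun y hy => ?_
    obtain ⟨x, hx, rfl, h3⟩ := hg y hy
    refine ⟨ν x, (hP₁ _).2 ⟨x, hx, rfl⟩, (h x hx).symm, ?_⟩
    rw [h3, hl' x hx]
  refine ⟨_, h2, ψ', hψ'.res (sup_le hRW hTW), fun y hy => ?_⟩
  obtain ⟨x, hx, -, h3⟩ := hg y hy
  show g y = ψ' (ψ (g y))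
  rw [hl _ (by rw [h3]; exact (le_sup_left : P ≤ _) hx)]

theorem ff_of_le {P : Subgroup Ω} {f : Ω → Ω} (hf : Mp F P f) (hT : T ≤ P) : FF p F E P f :=
  ⟨fun x => x, NN.id _ hf.le fun _ _ => rfl, f, by rwa [sup_eq_left.2 hT], fun _ _ => rfl⟩

theorem ff_of_nn {P : Subgroup Ω} {f : Ω → Ω} (hTS : T ≤ S) (hf : NN p F E P f) :
    FF p F E P f :=
  ⟨f, hf, fun x => x, mp_id F (sup_le hf.mp.le hTS), fun _ _ => rfl⟩

section Step

variable [Finite S] [Fact p.Prime] {Q : Subgroup Ω}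

/-- An automorphism which extends to a larger subgroup factors. -/
theorem ff_of_ext (IH : ∀ (R : Subgroup Ω) (f : Ω → Ω), Mp F R f → Nat.card Q < Nat.card R →
    FF p F E R f) {f : Ω → Ω} {N : Subgroup Ω} {ψ : Ω → Ω} (hψ : Mp F N ψ) (hQN : Q < N)
    (hψe : ∀ x ∈ Q, ψ x = f x) : FF p F E Q f := by
  have hfN : Finite N := H802.finite_of_le hψ.le
  have h1 : Nat.card Q < Nat.card N := by
    refine lt_of_le_of_ne (Subgroup.card_le_of_le hQN.le) fun he => hQN.ne ?_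
    exact Subgroup.eq_of_le_of_card_ge hQN.le he.ge
  exact ((IH N ψ hψ h1).res hQN.le).congr fun x hx => (hψe x hx).symm

/-- Extension when an element `t` outside `Q` is admissible. -/
theorem ff_of_adm (IH : ∀ (R : Subgroup Ω) (f : Ω → Ω), Mp F R f → Nat.card Q < Nat.card R →
    FF p F E R f) (hQr : F.IsReceptive Q) {β : MulAut Q} (hβ : β ∈ F.autGroup Q) {t : Ω}
    (htS : t ∈ S) (htQ : t ∉ Q) {c : MulAut Q} (hc : H757.Cj t c)
    (hcβ : β * c * β⁻¹ ∈ autInducedBy S Q) :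
    FF p F E Q (ex fun x => ((β x : Q) : Ω)) := by
  have hQS := hQr.1
  have hfQ : Finite Q := H802.finite_of_le hQS
  have hm := (mp_iff_autGroup hQS β).1 hβ
  have hval : ∀ (x : Ω) (hx : x ∈ Q), ex (fun x => ((β x : Q) : Ω)) x = (β ⟨x, hx⟩ : Q) :=
    fun x hx => ex_apply _ hx
  obtain ⟨N, ψ, hψ, hQN, hψe, hN⟩ := H753.mp_extend hQr hm (fun y =>
    ⟨fun hy => hm.surj (fun x hx => by rw [hval x hx]; exact (β _).2) hy,
      fun ⟨x, hx, h⟩ => h ▸ (by rw [hval x hx]; exact (β _).2)⟩)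
  have htn := hc.mem_normalizer
  have htN : t ∈ N := by
    obtain ⟨g, hg, hgc⟩ := H757.exists_cj_of_mem hcβ
    refine hN t htS htn ⟨g, hg, fun x hx => ?_⟩
    have h11 : t * x * t⁻¹ ∈ Q := (Subgroup.mem_normalizer_iff.1 htn x).1 hx
    have h9 := hgc (β ⟨x, hx⟩)
    have h10 : (β * c * β⁻¹) (β ⟨x, hx⟩) = β (c ⟨x, hx⟩) := by
      simp [MulAut.mul_apply]
    rw [h10] at h9
    rw [hval _ h11, hval x hx]
    have h12 : (⟨t * x * t⁻¹, h11⟩ : Q) = c ⟨x, hx⟩ := Subtype.ext (hc ⟨x, hx⟩).symm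
    rw [h12, h9]
  exact ff_of_ext IH hψ (lt_of_le_of_ne hQN fun he => htQ (he ▸ htN)) hψe

/-- The case `C_T(Q ∩ T) ≰ Q`. -/
theorem ff_of_not_centralizer_le (hS : IsPGroup p S) (hT : F.StronglyClosed T)
    (IH : ∀ (R : Subgroup Ω) (f : Ω → Ω), Mp F R f → Nat.card Q < Nat.card R → FF p F E R f)
    (hQa : F.IsFullyAutomized p Q) (hQr : F.IsReceptive Q) (hC : ¬ centralizerIn T (Q ⊓ T) ≤ Q)
    {α : MulAut Q} (hα : α ∈ F.autGroup Q) : FF p F E Q (ex fun x => ((α x : Q) : Ω)) := by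
  have hTS := hT.1
  have hQS := hQr.1
  have hR : IsPGroup p ↥(Q ⊔ centralizerIn T (Q ⊓ T)) :=
    isPGroup_mono hS (sup_le hQS (inf_le_left.trans hTS))
  have hfR : Finite ↥(Q ⊔ centralizerIn T (Q ⊓ T)) :=
    H802.finite_of_le (sup_le hQS (inf_le_left.trans hTS))
  obtain ⟨u, hu, huQ, hun⟩ := H757.exists_normalizes_of_not_le hR
    (U := centralizerIn T (Q ⊓ T)) (V := Q) le_sup_right le_sup_left (by
      have h1 : Q ⊔ centralizerIn T (Q ⊓ T) ≤
          Subgroup.normalizer (centralizerIn T (Q ⊓ T) : Set Ω) := by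
        have hfC : Finite ↥(centralizerIn T (Q ⊓ T)) :=
          H802.finite_of_le (inf_le_left.trans hTS)
        refine sup_le (fun x hx => H757.mem_normalizer_of_conj_mem fun v hv => ⟨?_, ?_⟩)
          Subgroup.le_normalizer
        · exact H759.StronglyClosed.conj_mem hT (hQS hx) hv.1
        · refine Subgroup.mem_centralizer_iff.2 fun z hz => ?_
          have hz' : x⁻¹ * z * x ∈ Q ⊓ T := by
            refine ⟨mul_mem (mul_mem (Subgroup.inv_mem _ hx) hz.1) hx, ?_⟩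
            have h2 := H759.StronglyClosed.conj_mem hT (Subgroup.inv_mem _ (hQS hx)) hz.2
            simpa using h2
          have h3 := Subgroup.mem_centralizer_iff.1 hv.2 _ hz'
          calc z * (x * v * x⁻¹) = x * ((x⁻¹ * z * x) * v) * x⁻¹ := by group
            _ = x * (v * (x⁻¹ * z * x)) * x⁻¹ := by rw [h3]
            _ = x * v * x⁻¹ * z := by group
      intro r hr u hu
      exact (Subgroup.mem_normalizer_iff.1 (h1 hr) u).1 hu) hC
  obtain ⟨c, hc⟩ := H757.exists_cj hun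
  have hcF : c ∈ F.autGroup Q := hc.mem_autGroup hQS (hTS hu.1)
  have hcT : ∀ x : Q, (x : Ω)⁻¹ * (c x : Q) ∈ T := by
    intro x
    rw [hc x]
    have h5 : (x : Ω)⁻¹ * (u * x * u⁻¹) = ((x : Ω)⁻¹ * u * (x : Ω)⁻¹⁻¹) * u⁻¹ := by group
    rw [h5]
    exact mul_mem (H759.StronglyClosed.conj_mem hT (Subgroup.inv_mem _ (hQS x.2)) hu.1)
      (Subgroup.inv_mem _ hu.1)
  refine ff_of_adm IH hQr hα (hTS hu.1) huQ hc (trG_le hS hT hQa (trG_normal hT hQS hα ?_))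
  refine ⟨hcF, fun x hx => Subtype.ext ?_, hcT⟩
  rw [hc x]
  have h3 := Subgroup.mem_centralizer_iff.1 hu.2 _ (⟨x.2, hx⟩ : (x : Ω) ∈ Q ⊓ T)
  rw [← h3]
  group

end Step

/-- If `C_T(U) ≤ U` for a fully normalized `U ≤ T` then `U` is `T`-centric. -/
theorem tc_of_fn [Finite S] [Fact p.Prime] (hS : IsPGroup p S) (hF : F.IsSaturated p)
    (hT : F.StronglyClosed T) {U : Subgroup Ω} (hUT : U ≤ T) (hU : F.IsFullyNormalized U)
    (hC : centralizerIn T U ≤ U) : H756.TC F T U := by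
  refine ⟨hUT, fun f hf z hz hc => ?_⟩
  obtain ⟨V, hV, -, -⟩ := hf.exists_image le_rfl
  have h1 := H757.centralizer_le_of_isConj hS hF hT hU hC (isConj_of_image hf le_rfl hV)
  refine (hV z).1 (h1 ⟨hz, Subgroup.mem_centralizer_iff.2 fun y hy => ?_⟩)
  obtain ⟨x, hx, rfl⟩ := (hV y).1 hy
  exact hc x hx

/-- **Factorization.** -/
theorem fact [Finite S] [Fact p.Prime] (hS : IsPGroup p S) (hF : F.IsSaturated p)
    (hE : E.IsInvariantIn F) : ∀ (P : Subgroup Ω) (f : Ω → Ω), Mp F P f → FF p F E P f := by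
  have hT := hE.2.1
  have hTS := hT.1
  have hfT : Finite T := H802.finite_of_le hTS
  have hI : StrongInvC E F := (isInvariantIn_iff_strongInvC hS hF hE.1 hT).1 hE
  refine mp_induction F hS hF (FF p F E) ?_ ?_ ?_ ?_ ?_
  · intro P f g _ h1 he
    exact h1.congr he
  · intro P R f _ h1 hR
    exact h1.res hR
  · intro P Q f g _ _ h1 h2 hm
    exact h1.comp hT hI h2 hm
  · intro P R f g _ h1 _ hinv
    exact h1.symm hT hI hinv
  · intro Q hQa hQr IH α hα f hf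
    have hQS : Q ≤ S := hQa.1
    have hfQ : Finite Q := H802.finite_of_le hQS
    have hfm : Mp F Q f := mp_of_autGroup hQS hα hf
    by_cases hTQ : T ≤ Q
    · exact ff_of_le hfm hTQ
    have hQn := H802.isFullyNormalized_of_automized_receptive hS hQa hQr
    have hmp : ∀ β ∈ F.autGroup Q, Mp F Q (ex fun x => ((β x : Q) : Ω)) := fun β hβ =>
      (mp_iff_autGroup hQS β).1 hβ
    have hval : ∀ (β : MulAut Q) (x : Ω) (hx : x ∈ Q), ex (fun x => ((β x : Q) : Ω)) x =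
        (β ⟨x, hx⟩ : Q) := fun β x hx => ex_apply _ hx
    have hQmem : ∀ κ ∈ F.autGroup Q, ∀ x (hx : x ∈ Q), x ∈ T → ((κ ⟨x, hx⟩ : Q) : Ω) ∈ T :=
      fun κ hκ x hx hxT => aut_mem_T hT hQS hκ ⟨x, hx⟩ hxT
    have hQlt : Q < S := lt_of_le_of_ne hQS fun he => hTQ (he ▸ hTS)
    by_cases hC : centralizerIn T (Q ⊓ T) ≤ Q
    swap
    · exact (ff_of_not_centralizer_le hS hT IH hQa hQr hC hα).congr fun x hx => by
        rw [hf x hx, hval α x hx]
    by_cases hTC : H756.TC F T (Q ⊓ T)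
    swap
    · -- replace `Q` by a conjugate `Q'` with `Q' ∩ T` fully normalized
      obtain ⟨U, hcU, hUn⟩ := H802.exists_isFullyNormalized hS hF (P := Q ⊓ T)
        (inf_le_left.trans hQS)
      obtain ⟨χ, hχ, hχU, hχN⟩ := exists_mp_normalizer hS hF hcU hUn
      have hQ₀N : Q ⊓ T ≤ normalizerIn S (Q ⊓ T) :=
        le_inf (inf_le_left.trans hQS) Subgroup.le_normalizer
      have hNN : normalizerIn S Q ≤ normalizerIn S (Q ⊓ T) := by
        intro g hg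
        have hfQ₀ : Finite ↥(Q ⊓ T) := H802.finite_of_le (inf_le_left.trans hQS)
        refine ⟨hg.1, H757.mem_normalizer_of_conj_mem fun x hx => ⟨?_, ?_⟩⟩
        · exact (Subgroup.mem_normalizer_iff.1 hg.2 x).1 hx.1
        · exact H759.StronglyClosed.conj_mem hT hg.1 hx.2
      have hQN : Q ≤ normalizerIn S (Q ⊓ T) := (le_inf hQS Subgroup.le_normalizer).trans hNN
      have hQlt' : Q < normalizerIn S (Q ⊓ T) := by
        refine lt_of_lt_of_le ?_ hNN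
        obtain ⟨g, hg, hgQ, hgn⟩ := H759.exists_mem_normalizer_not_mem hS le_rfl hQlt
        exact lt_of_le_of_ne (le_inf hQS Subgroup.le_normalizer) fun he =>
          hgQ (he ▸ (⟨hg, hgn⟩ : g ∈ normalizerIn S Q))
      obtain ⟨Q', hQ', hQ'S, hcard⟩ := hχ.exists_image hQN
      obtain ⟨hQ'n, -, -⟩ := normalizer_image hQn hχ hNN hQ'
      have hfQ' : Finite Q' := H802.finite_of_le hQ'S
      have hU' : Q' ⊓ T = U := by
        ext y
        rw [hχU]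
        constructor
        · rintro ⟨hy, hyT⟩
          obtain ⟨x, hx, rfl⟩ := (hQ' y).1 hy
          exact ⟨x, ⟨hx, mp_mem_of_stronglyClosed' hT hχ (hQN hx) hyT⟩, rfl⟩
        · rintro ⟨x, hx, rfl⟩
          exact ⟨(hQ' _).2 ⟨x, hx.1, rfl⟩, mp_mem_of_stronglyClosed hT hχ (hQ₀N hx) hx.2⟩
      have hC' : ¬ centralizerIn T (Q' ⊓ T) ≤ Q' := by
        intro hC'
        have h1 : centralizerIn T U ≤ U := by
          rw [← hU']
          exact fun z hz => ⟨hC' hz, hz.1⟩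
        have hUT : U ≤ T := by rw [← hU']; exact inf_le_right
        have h2 := tc_of_fn hS hF hT hUT hUn h1
        obtain ⟨χ', hχ', hl, hr⟩ := hχ.exists_symm hQ₀N hχU
        refine hTC (h2.image hT hχ' fun y => ⟨fun hy => ⟨χ y, (hχU _).2 ⟨y, hy, rfl⟩, hl y hy⟩, ?_⟩)
        rintro ⟨z, hz, rfl⟩
        exact (hr z hz).1
      have hχQ : FF p F E Q χ := ff_of_ext IH hχ hQlt' fun _ _ => rfl
      obtain ⟨χ', hχ', hl, hr⟩ := hχ.exists_symm hQN hQ'
      have hχ'Q : FF p F E Q' χ' := hχQ.symm hT hI fun y hy => by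
        obtain ⟨x, hx, rfl⟩ := (hQ' y).1 hy
        exact ⟨x, hx, rfl, hl x hx⟩
      have hfQQ : ∀ x ∈ Q, f x ∈ Q := fun x hx => by rw [hf x hx]; exact (α _).2
      have hg : Mp F Q' (fun y => χ (f (χ' y))) :=
        (hχ'.comp hfm fun y hy => (hr y hy).1).comp hχ fun y hy => hQN (hfQQ _ (hr y hy).1)
      have hgm : ∀ y ∈ Q', χ (f (χ' y)) ∈ Q' := fun y hy =>
        (hQ' _).2 ⟨_, hfQQ _ (hr y hy).1, rfl⟩
      obtain ⟨γ, hγ, hγg⟩ := hg.exists_aut hgm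
      have h1 := ff_of_not_centralizer_le (E := E) hS hT (fun R f hf hc => IH R f hf (by
          rw [← hcard]; exact hc)) (H802.isFullyAutomized_of_isFullyNormalized hS hF hQ'n)
        (H802.isReceptive_of_isFullyNormalized hS hF hQ'n) hC' hγ
      have h2 : FF p F E Q' (fun y => χ (f (χ' y))) := h1.congr fun y hy => by
        rw [hγg y hy, ex_apply _ hy]
      have h3 := (hχQ.comp hT hI h2 fun x hx => (hQ' _).2 ⟨x, hx, rfl⟩).comp hT hI hχ'Q
        fun x hx => hgm _ ((hQ' _).2 ⟨x, hx, rfl⟩)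
      refine h3.congr fun x hx => ?_
      show f x = χ' (χ (f (χ' (χ x))))
      rw [hl x hx, hl _ (hfQQ x hx)]
    -- the subgroup of good automorphisms
    let L : Subgroup (MulAut Q) :=
      { carrier := {β | β ∈ F.autGroup Q ∧ FF p F E Q (ex fun x => ((β x : Q) : Ω))}
        one_mem' := ⟨one_mem _, (ff_of_nn hTS (NN.id _ hQS fun _ _ => rfl :
            NN p F E Q (fun x => x))).congr fun x hx => by rw [hval 1 x hx]; rfl⟩
        mul_mem' := by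
          rintro a b ⟨ha, ha'⟩ ⟨hb, hb'⟩
          refine ⟨mul_mem ha hb, (hb'.comp hT hI ha' fun x hx => ?_).congr fun x hx => ?_⟩
          · rw [hval b x hx]
            exact (b _).2
          · rw [hval (a * b) x hx, hval b x hx, hval a _ (b ⟨x, hx⟩).2]
            rfl
        inv_mem' := by
          rintro a ⟨ha, ha'⟩
          refine ⟨Subgroup.inv_mem _ ha, ha'.symm hT hI fun y hy =>
            ⟨((a⁻¹ ⟨y, hy⟩ : Q) : Ω), (a⁻¹ _).2, ?_, ?_⟩⟩
          · rw [hval a _ (a⁻¹ ⟨y, hy⟩).2]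
            show ((a (a⁻¹ ⟨y, hy⟩) : Q) : Ω) = y
            rw [MulAut.apply_inv_self]
          · rw [hval a⁻¹ y hy] }
    have hcjT : ∀ t ∈ T, ∀ c : MulAut Q, H757.Cj t c → c ∈ F.autGroup Q ∧
        ∀ x : Q, (x : Ω)⁻¹ * (c x : Q) ∈ T := by
      intro t ht c hc
      refine ⟨hc.mem_autGroup hQS (hTS ht), fun x => ?_⟩
      rw [hc x]
      have h5 : (x : Ω)⁻¹ * (t * x * t⁻¹) = ((x : Ω)⁻¹ * t * (x : Ω)⁻¹⁻¹) * t⁻¹ := by group
      rw [h5]
      exact mul_mem (H759.StronglyClosed.conj_mem hT (Subgroup.inv_mem _ (hQS x.2)) ht)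
        (Subgroup.inv_mem _ ht)
    suffices hαL : α ∈ L from hαL.2.congr fun x hx => by rw [hf x hx, hval α x hx]
    -- the group `K`
    let K : Subgroup (MulAut Q) :=
      { carrier := {κ | κ ∈ F.autGroup Q ∧ (∀ x : Q, (x : Ω)⁻¹ * (κ x : Q) ∈ T) ∧
          Mp E (Q ⊓ T) (ex fun x => ((κ x : Q) : Ω))}
        one_mem' := ⟨one_mem _, fun x => by simp, (mp_id E inf_le_right).congr fun x hx => by
          rw [hval 1 x hx.1]; rfl⟩
        mul_mem' := by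
          rintro a b ⟨ha, ha1, ha'⟩ ⟨hb, hb1, hb'⟩
          refine ⟨mul_mem ha hb, H757.Tr.mul ha1 hb1, (hb'.comp ha' fun x hx => ?_).congr
            fun x hx => ?_⟩
          · rw [hval b x hx.1]
            exact ⟨(b _).2, hQmem b hb x hx.1 hx.2⟩
          · rw [hval (a * b) x hx.1, hval b x hx.1, hval a _ (b ⟨x, hx.1⟩).2]
            rfl
        inv_mem' := by
          rintro a ⟨ha, ha1, ha'⟩
          refine ⟨Subgroup.inv_mem _ ha, H757.Tr.inv ha1, ha'.symm fun y hy =>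
            ⟨((a⁻¹ ⟨y, hy.1⟩ : Q) : Ω),
            ⟨(a⁻¹ _).2, hQmem a⁻¹ (Subgroup.inv_mem _ ha) y hy.1 hy.2⟩, ?_, ?_⟩⟩
          · rw [hval a _ (a⁻¹ ⟨y, hy.1⟩).2]
            show ((a (a⁻¹ ⟨y, hy.1⟩) : Q) : Ω) = y
            rw [MulAut.apply_inv_self]
          · rw [hval a⁻¹ y hy.1] }
    have hKA : K ≤ F.autGroup Q := fun k hk => hk.1
    have hKn : ∀ a ∈ F.autGroup Q, ∀ k ∈ K, a * k * a⁻¹ ∈ K := by
      rintro a ha k ⟨hk, hk1, hk'⟩
      refine ⟨mul_mem (mul_mem ha hk) (Subgroup.inv_mem _ ha), H757.Tr.conj hT hQS ha hk1, ?_⟩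
      refine hI (Q ⊓ T) (Q ⊓ T) (Q ⊓ T) _ _ _ le_rfl inf_le_right hk' (fun x hx => ?_)
        ((hmp a ha).res inf_le_left) fun y hy => ⟨((a⁻¹ ⟨y, hy.1⟩ : Q) : Ω),
          ⟨(a⁻¹ _).2, hQmem a⁻¹ (Subgroup.inv_mem _ ha) y hy.1 hy.2⟩, ?_, ?_⟩
      · rw [hval k x hx.1]
        exact ⟨(k _).2, hQmem k hk x hx.1 hx.2⟩
      · rw [hval a _ (a⁻¹ ⟨y, hy.1⟩).2]
        show ((a (a⁻¹ ⟨y, hy.1⟩) : Q) : Ω) = y
        rw [MulAut.apply_inv_self]
      · rw [hval (a * k * a⁻¹) y hy.1, hval k _ (a⁻¹ ⟨y, hy.1⟩).2, hval a _ (k _).2]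
        rfl
    have hfM := finite_mulAut Q
    have hSyl : H802.SylIn p (autInducedBy S Q ⊓ K) K :=
      (H750.sylIn_of_isFullyAutomized hQa).inf_normal hKA hKn
    have hKL : K ≤ L := by
      refine le_of_sylIn_of_coprime hSyl ?_ ?_
      · rintro c ⟨hc, hcK⟩
        obtain ⟨s, hs, hcs⟩ := H757.exists_cj_of_mem hc
        exact ⟨hcK.1, ff_of_ext IH (mp_conj F le_rfl hs) hQlt fun x hx => by
          rw [hval c x hx]; exact (hcs ⟨x, hx⟩).symm⟩
      · rintro κ ⟨hκ, hκ1, hκE⟩ hκc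
        exact ⟨hκ, ff_of_nn hTS (NN.of_gd ⟨hmp κ hκ, pp_of_aut (hval κ) hκc, fun x hx => by
          rw [hval κ x hx]; exact hκ1 ⟨x, hx⟩, hκE, hTC⟩)⟩
    obtain ⟨k, hk, hkα⟩ := H757.frattini_in hSyl (hKn α hα)
    have hkαF : k * α ∈ F.autGroup Q := mul_mem (hKA hk) hα
    -- an element of `N_T(Q)` outside `Q`
    have hkαL : k * α ∈ L := by
      have hlt := card_lt_card_sup hS hT hQS hTQ
      obtain ⟨t, ht, htQ⟩ : ∃ t ∈ T ⊓ Subgroup.normalizer (Q : Set Ω), t ∉ Q := by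
        by_contra hcon
        push Not at hcon
        have h1 : Q ⊔ (T ⊓ Subgroup.normalizer (Q : Set Ω)) = Q := sup_eq_left.2 hcon
        rw [h1] at hlt
        exact lt_irrefl _ hlt
      obtain ⟨c, hc⟩ := H757.exists_cj ht.2
      obtain ⟨hcF, hcT⟩ := hcjT t ht.1 c hc
      have hcK : c ∈ K := by
        refine ⟨hcF, hcT, (mp_conj E (P := Q ⊓ T) inf_le_right ht.1).congr fun x hx => ?_⟩
        rw [hval c x hx.1]
        exact hc ⟨x, hx.1⟩
      exact ⟨hkαF, ff_of_adm IH hQr hkαF (hTS ht.1) htQ hc (hkα c ⟨hc.mem (hTS ht.1), hcK⟩).1⟩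
    have h1 : α = k⁻¹ * (k * α) := by group
    rw [h1]
    exact mul_mem (Subgroup.inv_mem _ (hKL hk)) hkαL

end Cfsg.Agent.H758
end

-- part: H758/PExt
section
/-!
# Extension of generators at nice subgroups (helper758)

`P` nice: `P` and `P ∩ T` are fully normalized.
-/

set_option autoImplicit false

namespace Cfsg.Agent.H758

open Cfsg Cfsg.FusionSystem Cfsg.Agent.H752

variable {Ω : Type*} [Group Ω] {S T : Subgroup Ω} {p : ℕ} {F : FusionSystem S}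
  {E : FusionSystem T}

theorem normalizerIn_le_inf [Finite S] (hT : F.StronglyClosed T) {P : Subgroup Ω} (hPS : P ≤ S) :
    normalizerIn S P ≤ normalizerIn S (P ⊓ T) := by
  intro g hg
  have hfQ₀ : Finite ↥(P ⊓ T) := H802.finite_of_le (inf_le_left.trans hPS)
  refine ⟨hg.1, H757.mem_normalizer_of_conj_mem fun x hx => ⟨?_, ?_⟩⟩
  · exact (Subgroup.mem_normalizer_iff.1 hg.2 x).1 hx.1
  · exact H759.StronglyClosed.conj_mem hT hg.1 hx.2

/-- Every subgroup is conjugate to a nice one. -/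
theorem exists_nice [Finite S] [Fact p.Prime] (hS : IsPGroup p S) (hF : F.IsSaturated p)
    (hT : F.StronglyClosed T) {P : Subgroup Ω} (hPS : P ≤ S) :
    ∃ Q, F.IsConj P Q ∧ F.IsFullyNormalized Q ∧ F.IsFullyNormalized (Q ⊓ T) := by
  obtain ⟨P₁, hc, hn⟩ := H802.exists_isFullyNormalized hS hF hPS
  have hP₁S := hn.1
  obtain ⟨U, hcU, hUn⟩ := H802.exists_isFullyNormalized hS hF (P := P₁ ⊓ T)
    (inf_le_left.trans hP₁S)
  obtain ⟨χ, hχ, hχU, hχN⟩ := exists_mp_normalizer hS hF hcU hUn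
  have hNN := normalizerIn_le_inf hT hP₁S
  have hQN : P₁ ≤ normalizerIn S (P₁ ⊓ T) := (le_inf hP₁S Subgroup.le_normalizer).trans hNN
  obtain ⟨Q, hQ, hQS, -⟩ := hχ.exists_image hQN
  obtain ⟨hQn, -, -⟩ := normalizer_image hn hχ hNN hQ
  have hU' : Q ⊓ T = U := by
    ext y
    rw [hχU]
    constructor
    · rintro ⟨hy, hyT⟩
      obtain ⟨x, hx, rfl⟩ := (hQ y).1 hy
      exact ⟨x, ⟨hx, mp_mem_of_stronglyClosed' hT hχ (hQN hx) hyT⟩, rfl⟩
    · rintro ⟨x, hx, rfl⟩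
      exact ⟨(hQ _).2 ⟨x, hx.1, rfl⟩, mp_mem_of_stronglyClosed hT hχ (hQN hx.1) hx.2⟩
  exact ⟨Q, H802.isConj_trans hc (isConj_of_image hχ hQN hQ), hQn, by rw [hU']; exact hUn⟩

/-- An element of order prime to `p` of `G` in `Δ B`, `Δ` a `p`-group normalizing... -/
theorem mem_of_coprime_mul {G : Type*} [Group G] [Fact p.Prime] {B : Subgroup G} {γ δ β : G}
    (h : γ = δ * β) (hβ : β ∈ B) (hδ : ∀ b ∈ B, δ⁻¹ * b * δ ∈ B) {k : ℕ} (hk : δ ^ p ^ k = 1)
    (hγ : (orderOf γ).Coprime p) : γ ∈ B := by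
  have h1 : ∀ j : ℕ, ∃ b ∈ B, γ ^ j = δ ^ j * b := by
    intro j
    induction j with
    | zero => exact ⟨1, one_mem B, by simp⟩
    | succ j ih =>
      obtain ⟨b, hb, h2⟩ := ih
      refine ⟨δ⁻¹ * b * δ * β, mul_mem (hδ b hb) hβ, ?_⟩
      rw [pow_succ, h2, pow_succ, h]
      group
  obtain ⟨b, hb, h2⟩ := h1 (p ^ k)
  rw [hk, one_mul] at h2
  obtain ⟨m, hm⟩ := exists_pow_eq_self_of_coprime (n := p ^ k) (x := γ)
    ((Nat.Coprime.pow_right k hγ).symm)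
  rw [← hm, h2]
  exact pow_mem hb m

/-- A `p'`-automorphism of `W ≤ T` in `F` whose restriction to the fully normalized `T`-centric `U` lies in `E` lies
in `E`. -/
theorem mp_of_res [Finite S] [Fact p.Prime] (hS : IsPGroup p S) (hE : E.IsNormalIn F p)
    {U W : Subgroup Ω} {g : Ω → Ω} (hU : F.IsFullyNormalized U) (hUT : H756.TC F T U)
    (hUW : U ≤ W) (hWn : W ≤ normalizerIn T U) (hg : Mp F W g) (hpp : PP p W g)
    (hgU : ∀ x ∈ U, g x ∈ U) (hgE : Mp E U g) : Mp E W g := by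
  have hF := hE.1.2.1
  have hT : F.StronglyClosed T := hE.1.2.2.2.1
  have hTS := hT.1
  have hWT : W ≤ T := hWn.trans inf_le_left
  have hWS := hWT.trans hTS
  have hfW : Finite W := H802.finite_of_le hWS
  have hfU : Finite U := H802.finite_of_le hU.1
  have hfT : Finite T := H802.finite_of_le hTS
  obtain ⟨-, -, -, hErec⟩ := H757.sylow_facts hS hE.1 hUT.le hU
  obtain ⟨γ, hγ, hγg⟩ := hg.exists_aut hpp.1
  obtain ⟨α, hα, hαg⟩ := hgE.exists_aut hgU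
  have hex : H757.Ex α γ := fun x hx hxW => by rw [← hγg x hxW, ← hαg x hx]
  obtain ⟨β, hβ, hexβ⟩ := H757.exists_ext_aut hErec hUW (fun z hz => hUW (hUT.self hTS hz.1
    fun x hx => Subgroup.mem_centralizer_iff.1 hz.2 x hx)) hWn hα (by
      intro v hv
      obtain ⟨n, hn, hc⟩ := H757.exists_cj_of_mem hv
      have h1 := H757.Cj.conj_of_ex hUW hex (n := ⟨n, hn⟩) hc
      exact h1.mem (γ ⟨n, hn⟩).2)
  have hβF : β ∈ F.autGroup W := H757.autGroup_le_of_isSubsystemOf hE.1.2.2.1 hWT hWS hβ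
  have hδ : γ * β⁻¹ ∈ F.autGroup W := mul_mem hγ (Subgroup.inv_mem _ hβF)
  have hfix : ∀ (x : Ω) (hx : x ∈ U), (((γ * β⁻¹) ⟨x, hUW hx⟩ : W) : Ω) = x := by
    intro x hx
    have h1 := (hex.mul hUW (hexβ.inv hUW)) x hx (hUW hx)
    rw [h1, mul_inv_cancel]
    rfl
  obtain ⟨k, hk⟩ := H756.pow_eq_one_of_fix hS hT hUT hUW hWT (hWn.trans inf_le_right) hδ hfix
  have h1 : γ ∈ E.autGroup W := by
    refine mem_of_coprime_mul (δ := γ * β⁻¹) (β := β) (by group) hβ (fun b hb => ?_) hk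
      (hpp.orderOf_coprime hγg)
    have h2 := H757.autGroup_conj_mem hE.1.2.2 hWT (Subgroup.inv_mem _ hδ) hb
    rwa [inv_inv] at h2
  exact mp_of_autGroup hWT h1 hγg

/-- **Extension of a generator at a nice subgroup.** -/
theorem GD.ext [Finite S] [Fact p.Prime] (hS : IsPGroup p S) (hE : E.IsNormalIn F p)
    {P N : Subgroup Ω} {a : Ω → Ω} (hP : F.IsFullyNormalized P)
    (hU : F.IsFullyNormalized (P ⊓ T)) (ha : GD p F E P a) (hPN : P ≤ N)
    (hCN : centralizerIn S P ≤ N) (hN : N ≤ normalizerIn S P)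
    (hV : ∀ n ∈ N, ∃ n' ∈ N, ∀ x ∈ P, a (n * x * n⁻¹) = n' * a x * n'⁻¹) :
    ∃ a', GD p F E N a' ∧ ∀ x ∈ P, a' x = a x := by
  have hF := hE.1.2.1
  have hT : F.StronglyClosed T := hE.1.2.2.2.1
  have hTS := hT.1
  have hPS := hP.1
  have hNS : N ≤ S := hN.trans inf_le_left
  have hfP : Finite P := H802.finite_of_le hPS
  have hfN : Finite N := H802.finite_of_le hNS
  set U := P ⊓ T with hUdef
  have hUP : U ≤ P := inf_le_left
  have hUT : U ≤ T := inf_le_right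
  have hUS : U ≤ S := hUP.trans hPS
  have hfU : Finite U := H802.finite_of_le hUS
  have hNN : normalizerIn S P ≤ normalizerIn S U := normalizerIn_le_inf hT hPS
  have hPNP : P ≤ normalizerIn S P := le_inf hPS Subgroup.le_normalizer
  have haU : ∀ x ∈ U, a x ∈ U := fun x hx => ⟨ha.pp.1 x hx.1, (ha.mem_T hx.1).2 hx.2⟩
  -- `N₁ = N C_S(U)`
  set N₁ := N ⊔ centralizerIn S U with hN₁def
  have hCn : centralizerIn S U ≤ normalizerIn S U := H802.centralizerIn_le_normalizerIn S U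
  have hCnn : normalizerIn S U ≤ Subgroup.normalizer (centralizerIn S U : Set Ω) := by
    intro g hg
    have hfC : Finite (centralizerIn S U) := H802.finite_of_le inf_le_left
    refine H757.mem_normalizer_of_conj_mem fun c hc => ?_
    refine ⟨mul_mem (mul_mem hg.1 hc.1) (Subgroup.inv_mem _ hg.1),
      Subgroup.mem_centralizer_iff.2 fun z hz => ?_⟩
    have h1 : g⁻¹ * z * g ∈ U := by
      have := (Subgroup.mem_normalizer_iff.1 (Subgroup.inv_mem _ hg.2) z).1 hz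
      simpa using this
    have h2 := Subgroup.mem_centralizer_iff.1 hc.2 _ h1
    calc z * (g * c * g⁻¹) = g * ((g⁻¹ * z * g) * c) * g⁻¹ := by group
      _ = g * (c * (g⁻¹ * z * g)) * g⁻¹ := by rw [h2]
      _ = g * c * g⁻¹ * z := by group
  have hN₁n : N₁ ≤ normalizerIn S U := sup_le (hN.trans hNN) hCn
  have hN₁m : ∀ x ∈ N₁, ∃ n ∈ N, ∃ c ∈ centralizerIn S U, n * c = x := fun x hx =>
    (H759.mem_sup_of_normalizes ((hN.trans hNN).trans hCnn)).1 hx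
  have hN₁S : N₁ ≤ S := hN₁n.trans inf_le_left
  have hPN₁ : P ≤ N₁ := hPN.trans le_sup_left
  have hfN₁ : Finite N₁ := H802.finite_of_le hN₁S
  obtain ⟨-, m, hm, hid⟩ := ha.pp
  obtain ⟨κ, hκ, hκN, hκe, ⟨m', hm', hid'⟩, hκT⟩ :=
    H757.exists_extension_of_normal (N := N₁) hS hE hUT hU ha.e haU hm
      (fun x hx => hid x hx.1) (hUP.trans hPN₁) le_sup_right hN₁n (by
      intro n hn
      obtain ⟨n₀, hn₀, c, hc, rfl⟩ := hN₁m n hn
      obtain ⟨n', hn', h1⟩ := hV n₀ hn₀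
      refine ⟨n', (le_sup_left : N ≤ N₁) hn', fun x hx => ?_⟩
      have h2 : n₀ * c * x * (n₀ * c)⁻¹ = n₀ * x * n₀⁻¹ := by
        have h3 := Subgroup.mem_centralizer_iff.1 hc.2 x hx
        calc n₀ * c * x * (n₀ * c)⁻¹ = n₀ * (c * x) * c⁻¹ * n₀⁻¹ := by group
          _ = n₀ * (x * c) * c⁻¹ * n₀⁻¹ := by rw [h3]
          _ = n₀ * x * n₀⁻¹ := by group
      rw [h2, h1 x hx.1])
  -- `κ` maps `P` to itself
  have hκa : ∀ x ∈ P, (a x)⁻¹ * κ x ∈ U := by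
    intro x hx
    have h1 : (a x)⁻¹ * κ x ∈ T := by
      have h2 : (a x)⁻¹ * κ x = (x⁻¹ * a x)⁻¹ * (x⁻¹ * κ x) := by group
      rw [h2]
      exact mul_mem (Subgroup.inv_mem _ (ha.tr x hx)) (hκT x (hPN₁ hx))
    refine ha.cen.self hTS h1 fun u hu => ?_
    -- `κ x` and `a x` act in the same way on `U`
    obtain ⟨v, hv, rfl⟩ := ha.e.surj haU hu
    have h3 : x * v * x⁻¹ ∈ U :=
      (Subgroup.mem_normalizer_iff.1 (hNN (hPNP hx)).2 v).1 hv
    have h4 : a (x * v * x⁻¹) = a x * a v * (a x)⁻¹ := mp_conj_eq ha.mp hx hv.1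
    have h5 : κ (x * v * x⁻¹) = κ x * κ v * (κ x)⁻¹ := mp_conj_eq hκ (hPN₁ hx) (hPN₁ hv.1)
    rw [hκe _ h3, hκe v hv, h4] at h5
    calc a v * ((a x)⁻¹ * κ x) = (a x)⁻¹ * (a x * a v * (a x)⁻¹) * κ x := by group
      _ = (a x)⁻¹ * (κ x * a v * (κ x)⁻¹) * κ x := by rw [h5]
      _ = (a x)⁻¹ * κ x * a v := by group
  have hκP : ∀ x ∈ P, κ x ∈ P := fun x hx => by
    have h1 : κ x = a x * ((a x)⁻¹ * κ x) := by group
    rw [h1]
    exact mul_mem (ha.pp.1 x hx) (hUP (hκa x hx))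
  -- `N₃ = N₁ ∩ N_S(P)`
  set N₃ := N₁ ⊓ normalizerIn S P with hN₃def
  have hN₃S : N₃ ≤ S := inf_le_left.trans hN₁S
  have hfN₃ : Finite N₃ := H802.finite_of_le hN₃S
  have hPN₃ : P ≤ N₃ := le_inf hPN₁ hPNP
  have hNN₃ : N ≤ N₃ := le_inf le_sup_left hN
  have hκN₃ : ∀ x ∈ N₃, κ x ∈ N₃ := by
    intro x hx
    refine ⟨hκN x hx.1, hN₁S (hκN x hx.1), H757.mem_normalizer_of_conj_mem fun y hy => ?_⟩
    obtain ⟨z, hz, rfl⟩ := (hκ.res hPN₁).surj hκP hy
    rw [← mp_conj_eq hκ hx.1 (hPN₁ hz)]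
    exact hκP _ ((Subgroup.mem_normalizer_iff.1 hx.2.2 z).1 hz)
  obtain ⟨κ₃, hκ₃, hκ₃e⟩ := (hκ.res (inf_le_left : N₃ ≤ N₁)).exists_aut hκN₃
  have hpp₃ : PP p N₃ κ := ⟨hκN₃, m', hm', fun x hx => hid' x hx.1⟩
  have hppP : PP p P κ := hpp₃.res hPN₃ hκP
  obtain ⟨δ, hδ, hδe⟩ := (hκ.res hPN₁).exists_aut hκP
  obtain ⟨α, hα, hαe⟩ := ha.mp.exists_aut ha.pp.1
  have hV' := trG_isPGroup (T := T) hS (F := F) hPS
  have hfM := finite_mulAut P
  obtain ⟨v, hv, hve⟩ := H757.exists_conj_of_coset hV' (κ := δ) (κ₁ := α)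
    (fun v hv => trG_normal hT hPS hδ hv) (hppP.orderOf_coprime hδe)
    (ha.pp.orderOf_coprime hαe) (by
      refine ⟨mul_mem hα (Subgroup.inv_mem _ hδ), fun x hx => ?_, fun x => ?_⟩
      · obtain ⟨y, hy, hyx⟩ := ha.e.surj haU (show (x : Ω) ∈ U from ⟨x.2, hx⟩)
        have h1 : δ ⟨y, hy.1⟩ = x := Subtype.ext (by rw [← hδe y hy.1, hκe y hy, hyx])
        rw [MulAut.mul_apply, H757.inv_apply_eq h1]
        apply Subtype.ext
        rw [← hαe y hy.1, hyx]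
      · set y := δ⁻¹ x with hy
        have hxy : δ y = x := by rw [hy, MulAut.apply_inv_self]
        have e1 : ((α * δ⁻¹) x : P) = α y := by rw [MulAut.mul_apply, ← hy]
        have e2 : (x : Ω) = κ y := by rw [← hxy, hδe y y.2]
        rw [e1, e2, ← hαe y y.2]
        have h2 := hUT (hκa y y.2)
        have h3 : (κ (y : Ω))⁻¹ * a y = ((a (y : Ω))⁻¹ * κ y)⁻¹ := by group
        rw [h3]
        exact Subgroup.inv_mem _ h2)
  obtain ⟨s, hs, hsv⟩ := H757.exists_cj_of_mem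
    (trG_le hS hT (H802.isFullyAutomized_of_isFullyNormalized hS hF hP) hv)
  have hsn : s ∈ normalizerIn S P := ⟨hs, hsv.mem_normalizer⟩
  have hsN₃ : s ∈ N₃ := by
    refine ⟨(le_sup_right : centralizerIn S U ≤ N₁) ⟨hs, Subgroup.mem_centralizer_iff.2
      fun z hz => ?_⟩, hsn⟩
    have h1 := hsv ⟨z, hz.1⟩
    rw [hv.2.1 ⟨z, hz.1⟩ hz.2] at h1
    have h2 : z = s * z * s⁻¹ := h1
    calc z * s = s * z * s⁻¹ * s := by rw [← h2]
      _ = s * z := by group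
  -- `a' = c_s κ c_s⁻¹`
  obtain ⟨ρ, hρ⟩ := H757.exists_cj (P := N₃) (Subgroup.le_normalizer hsN₃)
  have hρF : ρ ∈ F.autGroup N₃ := hρ.mem_autGroup hN₃S hs
  set α' := ρ * κ₃ * ρ⁻¹ with hα'def
  have hα' : α' ∈ F.autGroup N₃ := mul_mem (mul_mem hρF hκ₃) (Subgroup.inv_mem _ hρF)
  have hval : ∀ (x : Ω) (hx : x ∈ N₃), ex (fun x => ((α' x : N₃) : Ω)) x = (α' ⟨x, hx⟩ : N₃) :=
    fun x hx => ex_apply _ hx
  set a' := ex (fun x => ((α' x : N₃) : Ω)) with ha'def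
  have hκ₃T : H757.Tr T κ₃ := fun x => by rw [← hκ₃e x x.2]; exact hκT x x.2.1
  have hα'T : H757.Tr T α' := H757.Tr.conj hT hN₃S hρF hκ₃T
  have hα'c : (orderOf α').Coprime p := by
    have h1 : orderOf α' = orderOf κ₃ := by
      rw [hα'def, ← MulAut.conj_apply]
      exact orderOf_injective (MulAut.conj ρ).toMonoidHom (MulAut.conj ρ).injective κ₃
    rw [h1]
    exact hpp₃.orderOf_coprime hκ₃e
  have hex' : H757.Ex α α' := by
    rw [hve]
    have h1 : H757.Ex δ κ₃ := fun x hx hxN => by rw [← hκ₃e x hxN, ← hδe x hx]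
    have h2 : H757.Ex v ρ := hsv.ex hρ
    exact (h2.mul hPN₃ h1).mul hPN₃ (h2.inv hPN₃)
  have ha'P : ∀ x ∈ P, a' x = a x := fun x hx => by
    rw [hval x (hPN₃ hx), hex' x hx (hPN₃ hx), hαe x hx]
  have ha'F : Mp F N₃ a' := (mp_iff_autGroup hN₃S α').1 hα'
  have ha'N : ∀ n ∈ N, a' n ∈ N := by
    intro n hn
    obtain ⟨n', hn', h1⟩ := hV n hn
    have hnn := hN hn
    have h2 : n'⁻¹ * a' n ∈ centralizerIn S P := by
      refine ⟨mul_mem (Subgroup.inv_mem _ (hNS hn')) (ha'F.mem (hNN₃ hn)),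
        Subgroup.mem_centralizer_iff.2 fun y hy => ?_⟩
      obtain ⟨x, hx, rfl⟩ := ha.mp.surj ha.pp.1 hy
      have h3 := h1 x hx
      have h4 : n * x * n⁻¹ ∈ P := (Subgroup.mem_normalizer_iff.1 hnn.2 x).1 hx
      rw [← ha'P _ h4, mp_conj_eq ha'F (hNN₃ hn) (hPN₃ hx), ha'P x hx] at h3
      calc a x * (n'⁻¹ * a' n) = n'⁻¹ * (n' * a x * n'⁻¹) * a' n := by group
        _ = n'⁻¹ * (a' n * a x * (a' n)⁻¹) * a' n := by rw [h3]
        _ = n'⁻¹ * a' n * a x := by group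
    have h3 : a' n = n' * (n'⁻¹ * a' n) := by group
    rw [h3]
    exact mul_mem hn' (hCN h2)
  have hppN : PP p N a' := (pp_of_aut hval hα'c).res hNN₃ ha'N
  have htr : ∀ x ∈ N, x⁻¹ * a' x ∈ T := fun x hx => by
    rw [hval x (hNN₃ hx)]
    exact hα'T ⟨x, hNN₃ hx⟩
  have hNT : ∀ x ∈ N ⊓ T, a' x ∈ N ⊓ T := fun x hx =>
    ⟨ha'N x hx.1, mp_mem_of_stronglyClosed hT ha'F (hNN₃ hx.1) hx.2⟩
  refine ⟨a', ⟨ha'F.res hNN₃, hppN, htr, ?_, ha.cen.mono (inf_le_inf_right T hPN) inf_le_right⟩,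
    ha'P⟩
  exact mp_of_res hS hE hU ha.cen (inf_le_inf_right T hPN)
    (le_inf inf_le_right ((inf_le_left.trans (hN.trans hNN)).trans inf_le_right))
    (ha'F.res (inf_le_left.trans hNN₃)) (hppN.res inf_le_left hNT) (fun x hx => by
      rw [ha'P x hx.1]; exact haU x hx) (ha.e.congr fun x hx => ha'P x hx.1)

end Cfsg.Agent.H758
end

-- part: H758/PGrp
section
/-!
# Two lemmas on finite groups (helper758)

`sylow_le_of_hyper`: from the hyperfocal subgroup theorem. `alperin_ext`: an Alperin type induction.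
-/

set_option autoImplicit false

namespace Cfsg.Agent.H758

open Cfsg Cfsg.FusionSystem

/-- A Sylow `p`-subgroup `R` of `A = O^p(A)` lies in `V` if all commutators `[Q, a]`, `Q ≤ R`, `a` a `p'`-element
normalizing `Q`, do. -/
theorem sylow_le_of_hyper {G : Type*} [Group G] [Finite G] {p : ℕ} [Fact p.Prime]
    {A R V : Subgroup G} (hR : H802.SylIn p R A)
    (hgen : A ≤ Subgroup.closure {c | c ∈ A ∧ (orderOf c).Coprime p})
    (h : ∀ Q : Subgroup G, Q ≤ R → ∀ a ∈ A, (orderOf a).Coprime p → (∀ q ∈ Q, a * q * a⁻¹ ∈ Q) →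
      ∀ q ∈ Q, q⁻¹ * (a * q * a⁻¹) ∈ V) : R ≤ V := by
  obtain ⟨R', hR'⟩ := hR.exists_sylow
  have h1 := S5093.result (G := A) p R'
  have hres : pResidual p A = ⊤ := by
    rw [eq_top_iff]
    rintro ⟨a, ha⟩ -
    have h2 : Subgroup.closure {c | c ∈ A ∧ (orderOf c).Coprime p} ≤
        (pResidual p A).map A.subtype := by
      refine (Subgroup.closure_le _).2 ?_
      rintro c ⟨hc, hcc⟩
      refine ⟨⟨c, hc⟩, Subgroup.subset_closure ?_, rfl⟩
      show (orderOf (⟨c, hc⟩ : A)).Coprime p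
      rwa [Subgroup.orderOf_mk]
    obtain ⟨b, hb, hba⟩ := h2 (hgen ha)
    have h3 : b = ⟨a, ha⟩ := Subtype.ext hba
    rwa [← h3]
  rw [hres, inf_top_eq] at h1
  have h2 : (groupFusionSystem (R' : Subgroup A)).hyperfocalSubgroup p ≤ V.subgroupOf A := by
    refine H747.hyperfocal_le fun P hP α hα hc x => ?_
    rw [H802.mem_autGroup_iff _ hP] at hα
    obtain ⟨-, -, g, hg⟩ := hα
    have hfP : Finite P := inferInstance
    obtain ⟨m, hm, hm'⟩ := H792.exists_pow_coprime (p := p) g hc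
    have h3 : α ^ m = α := by
      conv_rhs => rw [← pow_one α]
      exact pow_eq_pow_iff_modEq.2 hm'
    have h4 : ∀ (j : ℕ) (x : P), (((α ^ j) x : P) : A) = g ^ j * x * (g ^ j)⁻¹ := by
      intro j
      induction j with
      | zero => intro x; simp
      | succ j ih =>
        intro x
        have h5 : ((α x : P) : A) = g * x * g⁻¹ := hg x
        rw [pow_succ, MulAut.mul_apply, ih, h5, pow_succ]
        group
    have h5 : ∀ x : P, ((α x : P) : A) = g ^ m * x * (g ^ m)⁻¹ := fun x => by rw [← h4, h3]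
    rw [Subgroup.mem_subgroupOf]
    have hPR : P.map A.subtype ≤ R := by
      rintro _ ⟨y, hy, rfl⟩
      have h6 := hP hy
      rw [hR'] at h6
      exact h6
    have h7 := h (P.map A.subtype) hPR ((g ^ m : A) : G) (g ^ m).2 (by rwa [Subgroup.orderOf_coe])
      (by
        rintro _ ⟨y, hy, rfl⟩
        refine ⟨(α ⟨y, hy⟩ : P), (α ⟨y, hy⟩).2, ?_⟩
        rw [h5]
        rfl) (x : A) ⟨x, x.2, rfl⟩
    rw [h5]
    exact h7
  rw [h1] at h2
  intro r hr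
  have hrA := hR.le hr
  have h3 : (⟨r, hrA⟩ : A) ∈ (R' : Subgroup A) := by
    rw [hR', Subgroup.mem_subgroupOf]
    exact hr
  exact h2 h3

/-- Conjugates. -/
def cj {G : Type*} [Group G] (a : G) (B : Subgroup G) : Subgroup G :=
  B.map (MulAut.conj a).toMonoidHom

theorem mem_cj {G : Type*} [Group G] {a : G} {B : Subgroup G} {x : G} :
    x ∈ cj a B ↔ ∃ b ∈ B, a * b * a⁻¹ = x := Iff.rfl

theorem cj_mul {G : Type*} [Group G] (a b : G) (B : Subgroup G) : cj (a * b) B = cj a (cj b B) := by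
  ext x
  simp only [mem_cj]
  constructor
  · rintro ⟨y, hy, rfl⟩
    exact ⟨_, ⟨y, hy, rfl⟩, by group⟩
  · rintro ⟨_, ⟨y, hy, rfl⟩, rfl⟩
    exact ⟨y, hy, by group⟩

theorem cj_one {G : Type*} [Group G] (B : Subgroup G) : cj (1 : G) B = B := by
  ext x
  simp [mem_cj]

theorem cj_inv_cj {G : Type*} [Group G] (a : G) (B : Subgroup G) : cj a⁻¹ (cj a B) = B := by
  rw [← cj_mul, inv_mul_cancel, cj_one]

theorem cj_mono {G : Type*} [Group G] (a : G) {B C : Subgroup G} (h : B ≤ C) : cj a B ≤ cj a C :=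
  Subgroup.map_mono h

theorem card_cj {G : Type*} [Group G] (a : G) (B : Subgroup G) : Nat.card (cj a B) = Nat.card B :=
  H802.card_map_conj a B

theorem mem_normalizer_of_cj {G : Type*} [Group G] {a : G} {B : Subgroup G} (h : cj a B = B) :
    a ∈ Subgroup.normalizer (B : Set G) := by
  rw [Subgroup.mem_normalizer_iff]
  intro x
  constructor
  · intro hx
    rw [← h]
    exact ⟨x, hx, rfl⟩
  · intro hx
    rw [← h] at hx
    obtain ⟨y, hy, hyx⟩ := hx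
    have h1 : a * y * a⁻¹ = a * x * a⁻¹ := hyx
    have h2 : y = x := mul_left_cancel (mul_right_cancel h1)
    rwa [← h2]

theorem cj_of_mem_normalizer {G : Type*} [Group G] {a : G} {B : Subgroup G}
    (h : a ∈ Subgroup.normalizer (B : Set G)) : cj a B = B := by
  ext x
  rw [mem_cj]
  constructor
  · rintro ⟨y, hy, rfl⟩
    exact (Subgroup.mem_normalizer_iff.1 h y).1 hy
  · intro hx
    refine ⟨a⁻¹ * x * a, ?_, by group⟩
    have h1 := (Subgroup.mem_normalizer_iff.1 (Subgroup.inv_mem _ h) x).1 hx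
    simpa using h1

/-- **Alperin type induction.** `R` a Sylow `p`-subgroup of `A`. A property of pairs `(B, a)`, `B ≤ R`, `a B a⁻¹ ≤ R`,
compatible with composition, inverse and restriction, holding for `a ∈ R` and for `p'`-elements normalizing `B`, holds
always. -/
theorem alperin_ext {G : Type*} [Group G] [Finite G] {p : ℕ} [Fact p.Prime] {A R : Subgroup G}
    (hR : H802.SylIn p R A) (M : Subgroup G → G → Prop)
    (h1 : ∀ B : Subgroup G, B ≤ R → ∀ r ∈ R, M B r)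
    (h2 : ∀ B : Subgroup G, B ≤ R → ∀ c ∈ A, (orderOf c).Coprime p → cj c B = B → M B c)
    (h3 : ∀ (B : Subgroup G) (a b : G), B ≤ R → a ∈ A → b ∈ A → cj a B ≤ R → cj (b * a) B ≤ R →
      M B a → M (cj a B) b → M B (b * a))
    (h4 : ∀ (B C : Subgroup G) (a : G), B ≤ C → C ≤ R → a ∈ A → cj a C ≤ R → M C a → M B a)
    (h5 : ∀ (B : Subgroup G) (a : G), B ≤ R → a ∈ A → cj a B ≤ R → M B a → M (cj a B) a⁻¹) :
    ∀ (B : Subgroup G) (a : G), B ≤ R → a ∈ A → cj a B ≤ R → M B a := by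
  -- elements normalizing `B`, when `N_R(B)` is Sylow in `N_A(B)`
  have hnorm : ∀ B : Subgroup G, B ≤ R →
      H802.SylIn p (R ⊓ Subgroup.normalizer (B : Set G)) (A ⊓ Subgroup.normalizer (B : Set G)) →
      ∀ m ∈ A, cj m B = B → M B m := by
    intro B hB hs m hm hmB
    let L : Subgroup G :=
      { carrier := {c | c ∈ A ∧ cj c B = B ∧ M B c}
        one_mem' := ⟨one_mem _, cj_one B, h1 B hB 1 (one_mem R)⟩
        mul_mem' := by
          rintro a b ⟨ha, haB, ha'⟩ ⟨hb, hbB, hb'⟩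
          have h6 : cj (a * b) B = B := by rw [cj_mul, hbB, haB]
          exact ⟨mul_mem ha hb, h6, h3 B b a hB hb ha (by rw [hbB]; exact hB) (by rw [h6]; exact hB)
            hb' (by rw [hbB]; exact ha')⟩
        inv_mem' := by
          rintro a ⟨ha, haB, ha'⟩
          refine ⟨Subgroup.inv_mem _ ha, ?_, ?_⟩
          · conv_lhs => rw [← haB]
            exact cj_inv_cj a B
          · have h6 := h5 B a hB ha (by rw [haB]; exact hB) ha'
            rwa [haB] at h6 }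
    have hKL : A ⊓ Subgroup.normalizer (B : Set G) ≤ L := by
      refine le_of_sylIn_of_coprime hs ?_ ?_
      · intro r hr
        exact ⟨hR.le hr.1, cj_of_mem_normalizer hr.2, h1 B hB r hr.1⟩
      · intro k hk hkc
        exact ⟨hk.1, cj_of_mem_normalizer hk.2, h2 B hB k hk.1 hkc (cj_of_mem_normalizer hk.2)⟩
    exact (hKL ⟨hm, mem_normalizer_of_cj hmB⟩).2.2
  have key : ∀ (n : ℕ) (B : Subgroup G) (a : G), Nat.card R - Nat.card B ≤ n → B ≤ R → a ∈ A →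
      cj a B ≤ R → M B a := by
    intro n
    induction n with
    | zero =>
      intro B a hn hB ha haB
      have hBR : B = R := Subgroup.eq_of_le_of_card_ge hB (by omega)
      subst hBR
      have haB' : cj a B = B := Subgroup.eq_of_le_of_card_ge haB (card_cj a B).ge
      refine hnorm B le_rfl ?_ a ha haB'
      have hBn : B ⊓ Subgroup.normalizer (B : Set G) = B := inf_eq_left.2 Subgroup.le_normalizer
      rw [hBn]
      exact hR.mono (le_inf hR.le Subgroup.le_normalizer) inf_le_left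
    | succ n ih =>
      intro B a hn hB ha haB
      by_cases hBR : Nat.card R ≤ Nat.card B
      · exact ih B a (by omega) hB ha haB
      have hpR := hR.isPGroup
      have hcardB := card_cj a B
      -- normalizers grow
      have hgrow : ∀ C : Subgroup G, C ≤ R → Nat.card C = Nat.card B →
          C ≤ R ⊓ Subgroup.normalizer (C : Set G) ∧
          Nat.card R - Nat.card ↥(R ⊓ Subgroup.normalizer (C : Set G)) ≤ n := by
        intro C hC hCc
        have hle : C ≤ R ⊓ Subgroup.normalizer (C : Set G) := le_inf hC Subgroup.le_normalizer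
        refine ⟨hle, ?_⟩
        obtain ⟨g, hg, hgC, hgn⟩ := H759.exists_mem_normalizer_not_mem hpR (le_refl R)
          (lt_of_le_of_ne hC fun he => by rw [← he] at hBR; omega)
        have hlt : Nat.card C < Nat.card ↥(R ⊓ Subgroup.normalizer (C : Set G)) := by
          refine lt_of_le_of_ne (Subgroup.card_le_of_le hle) fun he => hgC ?_
          rw [Subgroup.eq_of_le_of_card_ge hle he.ge]
          exact ⟨hg, hgn⟩
        omega
      obtain ⟨a₁, ha₁, hB₁R, hs⟩ := H757.exists_conj_fully hR hB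
      set B₁ := B.map (MulAut.conj a₁).toMonoidHom with hB₁def
      have hB₁ : cj a₁ B = B₁ := rfl
      -- moving `N_R(C)` into `N_R(B₁)`
      have hmove : ∀ (C : Subgroup G) (c : G), C ≤ R → c ∈ A → cj c C = B₁ →
          ∃ b ∈ A, cj b C = B₁ ∧ cj b (R ⊓ Subgroup.normalizer (C : Set G)) ≤ R := by
        intro C c hC hc hcC
        have h6 : cj c (R ⊓ Subgroup.normalizer (C : Set G)) ≤
            A ⊓ Subgroup.normalizer (B₁ : Set G) := by
          rintro _ ⟨x, hx, rfl⟩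
          refine ⟨mul_mem (mul_mem hc (hR.le hx.1)) (Subgroup.inv_mem _ hc), ?_⟩
          refine mem_normalizer_of_cj ?_
          rw [← hcC, ← cj_mul]
          show cj (c * x * c⁻¹ * c) C = cj c C
          rw [inv_mul_cancel_right, cj_mul, cj_of_mem_normalizer hx.2]
        obtain ⟨k, hk, hk'⟩ := hs.exists_conj h6 ((hpR.to_le inf_le_left).map _)
        refine ⟨k * c, mul_mem hk.1 hc, ?_, ?_⟩
        · rw [cj_mul, hcC, cj_of_mem_normalizer hk.2]
        · rw [cj_mul]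
          rintro _ ⟨y, hy, rfl⟩
          exact (hk' y hy).1
      obtain ⟨b₁, hb₁, hb₁B, hb₁N⟩ := hmove B a₁ hB ha₁ hB₁
      obtain ⟨b₂, hb₂, hb₂B, hb₂N⟩ := hmove (cj a B) (b₁ * a⁻¹) haB
        (mul_mem hb₁ (Subgroup.inv_mem _ ha)) (by rw [cj_mul, cj_inv_cj, hb₁B])
      obtain ⟨hg1, hg2⟩ := hgrow B hB rfl
      obtain ⟨hg3, hg4⟩ := hgrow (cj a B) haB hcardB
      have hM1 : M B b₁ := h4 B _ b₁ hg1 inf_le_left hb₁ hb₁N (ih _ b₁ hg2 inf_le_left hb₁ hb₁N)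
      have hM2 : M (cj a B) b₂ :=
        h4 _ _ b₂ hg3 inf_le_left hb₂ hb₂N (ih _ b₂ hg4 inf_le_left hb₂ hb₂N)
      have hM2' : M B₁ b₂⁻¹ := by
        have h6 := h5 (cj a B) b₂ haB hb₂ (by rw [hb₂B]; exact hB₁R) hM2
        rwa [hb₂B] at h6
      set m := b₂ * a * b₁⁻¹ with hmdef
      have hmA : m ∈ A := mul_mem (mul_mem hb₂ ha) (Subgroup.inv_mem _ hb₁)
      have hb₁' : cj b₁⁻¹ B₁ = B := by rw [← hb₁B, cj_inv_cj]
      have hb₂' : cj b₂⁻¹ B₁ = cj a B := by rw [← hb₂B, cj_inv_cj]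
      have hmB : cj m B₁ = B₁ := by rw [hmdef, cj_mul, cj_mul, hb₁', hb₂B]
      have hM3 := hnorm B₁ hB₁R hs m hmA hmB
      have h6 : M B (m * b₁) := h3 B b₁ m hB hb₁ hmA (by rw [hb₁B]; exact hB₁R)
        (by rw [cj_mul, hb₁B, hmB]; exact hB₁R) hM1 (by rw [hb₁B]; exact hM3)
      have h7 : cj (m * b₁) B = B₁ := by rw [cj_mul, hb₁B, hmB]
      have h8 : M B (b₂⁻¹ * (m * b₁)) := h3 B (m * b₁) b₂⁻¹ hB (mul_mem hmA hb₁)
        (Subgroup.inv_mem _ hb₂) (by rw [h7]; exact hB₁R) (by rw [cj_mul, h7, hb₂']; exact haB) h6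
        (by rw [h7]; exact hM2')
      have h9 : b₂⁻¹ * (m * b₁) = a := by rw [hmdef]; group
      rwa [h9] at h8
  exact fun B a => key _ B a le_rfl

end Cfsg.Agent.H758
end

-- part: H758/PSy
section
/-!
# The group generated by the generators on `P`, and its Sylow subgroups (helper758)
-/

set_option autoImplicit false

namespace Cfsg.Agent.H758

open Cfsg Cfsg.FusionSystem Cfsg.Agent.H752

variable {Ω : Type*} [Group Ω] {S T : Subgroup Ω} {p : ℕ} {F : FusionSystem S}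
  {E : FusionSystem T}

/-- An automorphism as a function on the ambient group. -/
noncomputable abbrev fn {P : Subgroup Ω} (α : MulAut P) : Ω → Ω := ex fun x => ((α x : P) : Ω)

theorem fn_apply {P : Subgroup Ω} (α : MulAut P) {x : Ω} (hx : x ∈ P) :
    fn α x = (α ⟨x, hx⟩ : P) := ex_apply _ hx

theorem fn_mem {P : Subgroup Ω} (α : MulAut P) {x : Ω} (hx : x ∈ P) : fn α x ∈ P := by
  rw [fn_apply α hx]
  exact (α _).2

theorem fn_mul {P : Subgroup Ω} (α β : MulAut P) {x : Ω} (hx : x ∈ P) :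
    fn (α * β) x = fn α (fn β x) := by
  rw [fn_apply _ hx, fn_apply _ hx, fn_apply _ (β ⟨x, hx⟩).2]
  rfl

theorem fn_inv_fn {P : Subgroup Ω} (α : MulAut P) {x : Ω} (hx : x ∈ P) :
    fn α⁻¹ (fn α x) = x := by
  rw [← fn_mul _ _ hx, inv_mul_cancel, fn_apply _ hx]
  rfl

theorem fn_fn_inv {P : Subgroup Ω} (α : MulAut P) {x : Ω} (hx : x ∈ P) :
    fn α (fn α⁻¹ x) = x := by
  rw [← fn_mul _ _ hx, mul_inv_cancel, fn_apply _ hx]
  rfl

theorem iso_of_mp {P Q W : Subgroup Ω} {f : Ω → Ω} (hf : Mp F W f) (hP : P ≤ W)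
    (hQ : ∀ y, y ∈ Q ↔ ∃ x ∈ P, f x = y) : H750.Iso F P Q f := by
  obtain ⟨φ, hφ, h1⟩ := hf.res hP
  refine ⟨φ, hφ, ?_, h1⟩
  ext y
  rw [hQ]
  constructor
  · rintro ⟨x, rfl⟩
    exact ⟨x, x.2, (h1 x x.2).symm⟩
  · rintro ⟨x, hx, rfl⟩
    exact ⟨⟨x, hx⟩, h1 x hx⟩

theorem mp_of_iso {P Q : Subgroup Ω} {f : Ω → Ω} (hf : H750.Iso F P Q f) : Mp F P f := by
  obtain ⟨φ, hφ, -, h1⟩ := hf
  exact ⟨φ, hφ, h1⟩

/-- The group generated by the generators on `P`. -/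
def Az (p : ℕ) (F : FusionSystem S) (E : FusionSystem T) (P : Subgroup Ω) : Subgroup (MulAut P) :=
  Subgroup.closure {α | GD p F E P (fn α)}

theorem az_le {P : Subgroup Ω} (hPS : P ≤ S) : Az p F E P ≤ F.autGroup P :=
  (Subgroup.closure_le _).2 fun α hα => (mp_iff_autGroup hPS α).2 (GD.mp hα)

/-- The group of all automorphisms trivial modulo `T` with restriction in `E`. -/
theorem exists_kz (hT : F.StronglyClosed T) {P : Subgroup Ω} (hPS : P ≤ S) :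
    ∃ K : Subgroup (MulAut P), ∀ κ, κ ∈ K ↔ κ ∈ F.autGroup P ∧ H757.Tr T κ ∧
      Mp E (P ⊓ T) (fn κ) := by
  have hQmem : ∀ κ ∈ F.autGroup P, ∀ x ∈ P ⊓ T, fn κ x ∈ P ⊓ T := fun κ hκ x hx => by
    refine ⟨fn_mem κ hx.1, ?_⟩
    rw [fn_apply κ hx.1]
    exact aut_mem_T hT hPS hκ ⟨x, hx.1⟩ hx.2
  refine ⟨{ carrier := {κ | κ ∈ F.autGroup P ∧ H757.Tr T κ ∧ Mp E (P ⊓ T) (fn κ)}
            one_mem' := ⟨one_mem _, H757.Tr.one, (mp_id E inf_le_right).congr fun x hx => by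
              rw [fn_apply 1 hx.1]; rfl⟩
            mul_mem' := ?_
            inv_mem' := ?_ }, fun κ => Iff.rfl⟩
  · rintro a b ⟨ha, ha1, ha'⟩ ⟨hb, hb1, hb'⟩
    exact ⟨mul_mem ha hb, ha1.mul hb1, (hb'.comp ha' (hQmem b hb)).congr fun x hx =>
      fn_mul a b hx.1⟩
  · rintro a ⟨ha, ha1, ha'⟩
    exact ⟨Subgroup.inv_mem _ ha, ha1.inv, ha'.symm fun y hy =>
      ⟨fn a⁻¹ y, hQmem a⁻¹ (Subgroup.inv_mem _ ha) y hy, fn_fn_inv a hy.1, rfl⟩⟩

theorem az_props (hT : F.StronglyClosed T) {P : Subgroup Ω} (hPS : P ≤ S) {α : MulAut P}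
    (hα : α ∈ Az p F E P) : H757.Tr T α ∧ Mp E (P ⊓ T) (fn α) := by
  obtain ⟨K, hK⟩ := exists_kz (E := E) hT hPS
  have h1 : Az p F E P ≤ K := (Subgroup.closure_le _).2 fun κ hκ => (hK κ).2
    ⟨(mp_iff_autGroup hPS κ).2 (GD.mp hκ), fun x => by
      have := GD.tr hκ x x.2
      rwa [fn_apply κ x.2] at this, GD.e hκ⟩
  exact ((hK α).1 (h1 hα)).2

theorem gd_of_mem_az (hT : F.StronglyClosed T) {P : Subgroup Ω} (hPS : P ≤ S) {α : MulAut P}
    (hα : α ∈ Az p F E P) (hc : (orderOf α).Coprime p) (hcen : H756.TC F T (P ⊓ T)) :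
    GD p F E P (fn α) := by
  obtain ⟨h1, h2⟩ := az_props hT hPS hα
  exact ⟨(mp_iff_autGroup hPS α).1 (az_le hPS hα), pp_of_aut (fun x hx => fn_apply α hx) hc,
    fun x hx => by rw [fn_apply α hx]; exact h1 ⟨x, hx⟩, h2, hcen⟩

/-- Transport by a map of `F`. -/
theorem az_congr [Finite S] (hT : F.StronglyClosed T) (hI : StrongInvC E F) {P Q W : Subgroup Ω}
    {ψ : Ω → Ω} (hψ : Mp F W ψ) (hPW : P ≤ W) (hQ : ∀ y, y ∈ Q ↔ ∃ x ∈ P, ψ x = y) {e : P ≃* Q}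
    (he : ∀ x : P, ((e x : Q) : Ω) = ψ x) {α : MulAut P} (hα : α ∈ Az p F E P) :
    MulAut.congr e α ∈ Az p F E Q := by
  have h1 : Az p F E P ≤ (Az p F E Q).comap (MulAut.congr e).toMonoidHom := by
    refine (Subgroup.closure_le _).2 fun κ hκ => Subgroup.subset_closure ?_
    obtain ⟨κ', hκ', h2⟩ := GD.transport hT hI hψ hPW hQ hκ
    refine hκ'.congr fun y hy => ?_
    obtain ⟨x, hx⟩ := e.surjective ⟨y, hy⟩
    rw [fn_apply _ hy, ← hx]
    show (((MulAut.congr e κ) (e x) : Q) : Ω) = κ' y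
    have h3 : (MulAut.congr e κ) (e x) = e (κ x) := by simp [MulAut.congr]
    have h4 : y = ψ x := by rw [← he x, hx]
    rw [h3, he, h4, h2 x x.2, fn_apply κ x.2]
  exact h1 hα

theorem az_normal [Finite S] (hT : F.StronglyClosed T) (hI : StrongInvC E F) {P : Subgroup Ω}
    (hPS : P ≤ S) {a k : MulAut P} (ha : a ∈ F.autGroup P) (hk : k ∈ Az p F E P) :
    a * k * a⁻¹ ∈ Az p F E P := by
  have hm := (mp_iff_autGroup hPS a).1 ha
  have h1 := az_congr (Q := P) hT hI hm le_rfl (fun y => ⟨fun hy => ⟨fn a⁻¹ y, fn_mem _ hy,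
    fn_fn_inv a hy⟩, fun ⟨x, hx, h⟩ => h ▸ fn_mem a hx⟩) (e := a) (fun x => (fn_apply a x.2).symm) hk
  have h2 : MulAut.congr a k = a * k * a⁻¹ := by
    ext x
    simp [MulAut.congr]
  rwa [h2] at h1

/-- `P` and all `g ∈ N_S(P)` inducing an element of `B`. -/
def Nb (S P : Subgroup Ω) (B : Subgroup (MulAut P)) : Subgroup Ω where
  carrier := {g | g ∈ normalizerIn S P ∧ ∃ c ∈ B ⊔ autInducedBy P P, H757.Cj g c}
  one_mem' := ⟨one_mem _, 1, one_mem _, H757.Cj.one⟩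
  mul_mem' := by
    rintro a b ⟨ha, c, hc, hac⟩ ⟨hb, d, hd, hbd⟩
    exact ⟨mul_mem ha hb, c * d, mul_mem hc hd, hac.mul hbd⟩
  inv_mem' := by
    rintro a ⟨ha, c, hc, hac⟩
    exact ⟨Subgroup.inv_mem _ ha, c⁻¹, Subgroup.inv_mem _ hc, hac.inv⟩

theorem mem_nb {P : Subgroup Ω} {B : Subgroup (MulAut P)} {g : Ω} :
    g ∈ Nb S P B ↔ g ∈ normalizerIn S P ∧ ∃ c ∈ B ⊔ autInducedBy P P, H757.Cj g c := Iff.rfl

theorem nb_le {P : Subgroup Ω} {B : Subgroup (MulAut P)} : Nb S P B ≤ normalizerIn S P :=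
  fun _ h => h.1

theorem le_nb {P : Subgroup Ω} (hPS : P ≤ S) {B : Subgroup (MulAut P)} : P ≤ Nb S P B := by
  intro g hg
  obtain ⟨c, hc⟩ := H757.exists_cj (P := P) (Subgroup.le_normalizer hg)
  exact ⟨⟨hPS hg, Subgroup.le_normalizer hg⟩, c, (le_sup_right : _ ≤ B ⊔ autInducedBy P P)
    (hc.mem hg), hc⟩

theorem centralizer_le_nb {P : Subgroup Ω} {B : Subgroup (MulAut P)} :
    centralizerIn S P ≤ Nb S P B := by
  intro g hg
  refine ⟨H802.centralizerIn_le_normalizerIn S P hg, 1, one_mem _, fun x => ?_⟩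
  have h1 := Subgroup.mem_centralizer_iff.1 hg.2 x x.2
  rw [← h1]
  simp

/-- The conjugate of an inner automorphism. -/
theorem inn_conj {P : Subgroup Ω} (a : MulAut P) {c : MulAut P} (hc : c ∈ autInducedBy P P) :
    a * c * a⁻¹ ∈ autInducedBy P P := by
  obtain ⟨n, hn, hcn⟩ := H757.exists_cj_of_mem hc
  exact (H757.Cj.conj_of_ex (N := P) le_rfl (γ := a) (α := a) (fun _ _ _ => rfl)
    (n := ⟨n, hn⟩) hcn).mem (a ⟨n, hn⟩).2

/-- If `a` normalizes `B ≤ Aut_S(P)` then `a` satisfies the hypothesis of the extension theorem for `Nb S P B`. -/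
theorem nb_hyp {P : Subgroup Ω} (hPS : P ≤ S) {B : Subgroup (MulAut P)}
    (hB : B ≤ autInducedBy S P) {a : MulAut P} (ha : ∀ b ∈ B, a * b * a⁻¹ ∈ B) :
    ∀ n ∈ Nb S P B, ∃ n' ∈ Nb S P B, ∀ x ∈ P, fn a (n * x * n⁻¹) = n' * fn a x * n'⁻¹ := by
  rintro n ⟨hn, c, hc, hnc⟩
  have h1 : B ⊔ autInducedBy P P ≤ (B ⊔ autInducedBy P P).comap (MulAut.conj a).toMonoidHom := by
    refine sup_le (fun b hb => ?_) fun b hb => ?_
    · exact (le_sup_left : B ≤ _) (ha b hb)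
    · exact (le_sup_right : _ ≤ B ⊔ autInducedBy P P) (inn_conj a hb)
  have h2 : a * c * a⁻¹ ∈ B ⊔ autInducedBy P P := h1 hc
  have h3 : B ⊔ autInducedBy P P ≤ autInducedBy S P := by
    refine sup_le hB fun b hb => ?_
    obtain ⟨g, hg, h⟩ := H757.exists_cj_of_mem hb
    exact h.mem (hPS hg)
  obtain ⟨n', hn', hn'c⟩ := H757.exists_cj_of_mem (h3 h2)
  refine ⟨n', ⟨⟨hn', hn'c.mem_normalizer⟩, _, h2, hn'c⟩, fun x hx => ?_⟩
  have h4 : n * x * n⁻¹ ∈ P := (Subgroup.mem_normalizer_iff.1 hn.2 x).1 hx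
  rw [fn_apply a h4, fn_apply a hx]
  have h5 := hn'c (a ⟨x, hx⟩)
  have h6 : (a * c * a⁻¹) (a ⟨x, hx⟩) = a (c ⟨x, hx⟩) := by simp [MulAut.mul_apply]
  have h7 : c ⟨x, hx⟩ = ⟨n * x * n⁻¹, h4⟩ := Subtype.ext (hnc ⟨x, hx⟩)
  rw [h6, h7] at h5
  exact h5

/-- **Sylow subgroups of `Az` at a nice subgroup are induced by `T`.** -/
theorem sylIn_az_nice [Finite S] [Fact p.Prime] (hS : IsPGroup p S) (hE : E.IsNormalIn F p)
    {Q : Subgroup Ω} (hQ : F.IsFullyNormalized Q) (hU : F.IsFullyNormalized (Q ⊓ T))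
    (hc : H756.TC F T (Q ⊓ T)) :
    H802.SylIn p (autInducedBy T Q ⊓ Az p F E Q) (Az p F E Q) := by
  have hF := hE.1.2.1
  have hT : F.StronglyClosed T := hE.1.2.2.2.1
  have hTS := hT.1
  have hI : StrongInvC E F :=
    (isInvariantIn_iff_strongInvC hS hF hE.1.2.2.1 hT).1 hE.1.2.2
  have hQS := hQ.1
  have hfQ : Finite Q := H802.finite_of_le hQS
  have hfM := finite_mulAut Q
  have hs := (H750.sylIn_of_isFullyAutomized (H802.isFullyAutomized_of_isFullyNormalized hS hF hQ)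
    ).inf_normal (M := Az p F E Q) (az_le hQS) (fun a ha k hk => az_normal hT hI hQS ha hk)
  have hle : autInducedBy S Q ⊓ Az p F E Q ≤ autInducedBy T Q := by
    refine sylow_le_of_hyper hs ?_ ?_
    · refine (Subgroup.closure_le _).2 fun κ hκ => Subgroup.subset_closure
        ⟨Subgroup.subset_closure hκ, ?_⟩
      exact (GD.pp hκ).orderOf_coprime fun x hx => fn_apply κ hx
    · intro B hB a ha hac haB q hq
      have hg := gd_of_mem_az hT hQS ha hac hc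
      have hBS : B ≤ autInducedBy S Q := hB.trans inf_le_left
      obtain ⟨a', ha', hae⟩ := hg.ext hS hE hQ hU (le_nb hQS) centralizer_le_nb nb_le
        (nb_hyp hQS hBS haB)
      obtain ⟨g, hg, hgq⟩ := H757.exists_cj_of_mem (hBS hq)
      have hgN : g ∈ Nb S Q B := ⟨⟨hg, hgq.mem_normalizer⟩, q, (le_sup_left : B ≤ _) hq, hgq⟩
      have h1 : g⁻¹ * a' g ∈ T := ha'.tr g hgN
      refine H757.Cj.mem (g := g⁻¹ * a' g) (fun x => ?_) h1
      obtain ⟨y, rfl⟩ := a.surjective x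
      have h2 : (q⁻¹ * (a * q * a⁻¹)) (a y) = q⁻¹ (a (q y)) := by simp [MulAut.mul_apply]
      have h3 : ((q⁻¹ (a (q y)) : Q) : Ω) = g⁻¹ * (a (q y) : Q) * g⁻¹⁻¹ := hgq.inv (a (q y))
      rw [h2, h3]
      have h4 : ((a (q y) : Q) : Ω) = a' g * (a y : Q) * (a' g)⁻¹ := by
        have h5 : ((a (q y) : Q) : Ω) = a' (q y : Q) := by
          rw [hae _ (q y).2, fn_apply a (q y).2]
        have h6 : ((a y : Q) : Ω) = a' y := by rw [hae _ y.2, fn_apply a y.2]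
        rw [h5, h6, hgq y, mp_conj_eq ha'.mp hgN (le_nb hQS y.2)]
      rw [h4]
      group
  have h1 : autInducedBy S Q ⊓ Az p F E Q = autInducedBy T Q ⊓ Az p F E Q := by
    refine le_antisymm (le_inf hle inf_le_right) (inf_le_inf_right _ fun c hc => ?_)
    obtain ⟨g, hg, h⟩ := H757.exists_cj_of_mem hc
    exact h.mem (hTS hg)
  rwa [h1] at hs

theorem sylIn_map {G G' : Type*} [Group G] [Group G'] (e : G ≃* G') {R K : Subgroup G}
    (h : H802.SylIn p R K) : H802.SylIn p (R.map e.toMonoidHom) (K.map e.toMonoidHom) := by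
  have hc : ∀ L : Subgroup G, Nat.card (L.map e.toMonoidHom) = Nat.card L := fun L =>
    Nat.card_congr (L.equivMapOfInjective _ e.injective).symm.toEquiv
  exact ⟨Subgroup.map_mono h.le, by rw [hc, hc]; exact h.2⟩

end Cfsg.Agent.H758
end

-- part: H758/PTop
section
/-!
# Automorphisms in the product system of the top member of a conjugacy class (helper758)
-/

set_option autoImplicit false

namespace Cfsg.Agent.H758

open Cfsg Cfsg.FusionSystem Cfsg.Agent.H752 Cfsg.Agent.H750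

variable {Ω : Type*} [Group Ω] {S T : Subgroup Ω} {p : ℕ} {F : FusionSystem S}
  {E : FusionSystem T} {D : FusionSystem S}

theorem iso_of_gd (hD : ∀ P f, Mp D P f ↔ DP p F E P f) [Finite S] {Q : Subgroup Ω} {κ : Ω → Ω}
    (h : GD p F E Q κ) : Iso D Q Q κ := by
  have h1 : Mp D Q κ := (hD _ _).2 (NN.of_gd h).dp
  have hfQ : Finite Q := H802.finite_of_le h.mp.le
  exact iso_of_mp h1 le_rfl fun y => ⟨fun hy => h1.surj h.pp.1 hy, fun ⟨x, hx, e⟩ => e ▸ h.pp.1 x hx⟩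

/-- Every member of the conjugacy class of `P` is reached by maps on properly larger subgroups. -/
theorem gen_of_nn (hD : ∀ P f, Mp D P f ↔ DP p F E P f) [Finite S] {P : Subgroup Ω}
    (hlt : Nat.card P < Nat.card S) {ν : Ω → Ω} (h : NN p F E P ν) :
    ∃ (P₁ : Subgroup Ω) (f' : Ω → Ω), (∀ y, y ∈ P₁ ↔ ∃ x ∈ P, ν x = y) ∧ Gen D P P₁ f' := by
  induction h with
  | id g hP hg =>
    refine ⟨P, fun x => x, fun y => ⟨fun hy => ⟨y, hy, hg y hy⟩, ?_⟩,
      Gen.base P P S S id (fun x => x) ?_ (Iso.refl D le_rfl) (Iso.refl D hP) fun _ _ => rfl⟩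
    · rintro ⟨x, hx, rfl⟩
      rw [hg x hx]
      exact hx
    · refine lt_of_le_of_ne hP ?_
      rintro rfl
      exact lt_irrefl _ hlt
  | step Q f κ g hf hκ hm hg ih =>
    obtain ⟨P₁, f', hP₁, hgen⟩ := ih
    have hP₁Q : P₁ ≤ Q := fun y hy => by
      obtain ⟨x, hx, rfl⟩ := (hP₁ y).1 hy
      exact hm x hx
    have hi := iso_of_gd hD hκ
    obtain ⟨P₂, hP₂, -⟩ := hi.restrict hP₁Q
    refine ⟨P₂, ?_⟩
    have hP₂' : ∀ y, y ∈ P₂ ↔ ∃ x ∈ P, g x = y := by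
      intro y
      rw [hP₂.mem_iff]
      constructor
      · rintro ⟨z, hz, rfl⟩
        obtain ⟨x, hx, rfl⟩ := (hP₁ z).1 hz
        exact ⟨x, hx, hg x hx⟩
      · rintro ⟨x, hx, rfl⟩
        exact ⟨f x, (hP₁ _).2 ⟨x, hx, rfl⟩, (hg x hx).symm⟩
    by_cases he : P₁ = Q
    · have h2 : P₂ = P₁ := by
        have h3 : Iso D P₁ P₁ κ := by rw [he]; exact hi
        exact hP₂.eq_of h3
      exact ⟨f', hP₂', by rw [h2]; exact hgen⟩
    · exact ⟨fun x => κ (f' x), hP₂', Gen.comp P P₁ P₂ f' κ _ hgen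
        (Gen.base P₁ P₂ Q Q κ κ (lt_of_le_of_ne hP₁Q he) hi hP₂ fun _ _ => rfl) fun _ _ => rfl⟩

theorem iso_conj_S (D : FusionSystem S) {s : Ω} (hs : s ∈ S) :
    Iso D S S (fun x => s * x * s⁻¹) :=
  iso_conj D le_rfl hs (Subgroup.le_normalizer hs)

theorem gen_of_conj (hD : ∀ P f, Mp D P f ↔ DP p F E P f) [Finite S] {P Q : Subgroup Ω}
    (hlt : Nat.card P < Nat.card S) (h : D.IsConj P Q) : ∃ f', Gen D P Q f' := by
  obtain ⟨f, hf⟩ := exists_iso_of_isConj h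
  obtain ⟨s, hs, ν, hν, hfe⟩ := (hD _ _).1 (mp_of_iso hf)
  obtain ⟨P₁, f', hP₁, hgen⟩ := gen_of_nn hD hlt hν
  have hP₁S : P₁ ≤ S := hgen.iso.le_right
  have hc := hgen.iso.card_eq
  have hi := iso_conj_S D hs
  obtain ⟨P₂, hP₂, -⟩ := hi.restrict hP₁S
  have h1 : P₂ = Q := by
    ext y
    rw [hP₂.mem_iff, hf.mem_iff]
    constructor
    · rintro ⟨z, hz, rfl⟩
      obtain ⟨x, hx, rfl⟩ := (hP₁ z).1 hz
      exact ⟨x, hx, hfe x hx⟩
    · rintro ⟨x, hx, rfl⟩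
      exact ⟨ν x, (hP₁ _).2 ⟨x, hx, rfl⟩, (hfe x hx).symm⟩
  subst h1
  refine ⟨fun x => s * f' x * s⁻¹, Gen.comp P P₁ P₂ f' _ _ hgen
    (Gen.base P₁ P₂ S S _ _ (lt_of_le_of_ne hP₁S ?_) hi hP₂ fun _ _ => rfl) fun _ _ => rfl⟩
  rintro rfl
  omega

/-- The top member of a conjugacy class. -/
theorem exists_top' (hD : ∀ P f, Mp D P f ↔ DP p F E P f) [Finite S] [Fact p.Prime]
    (hS : IsPGroup p S) {P : Subgroup Ω} (hPS : P ≤ S) (hlt : Nat.card P < Nat.card S)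
    (hbig : Big p D (Nat.card P)) :
    ∃ P₀, D.IsConj P P₀ ∧ ∀ Q, D.IsConj P Q → Arr D Q P₀ := by
  obtain ⟨P₀, hP₀, hmin⟩ := WellFounded.has_min
    (measure (fun Q : Subgroup Ω => Nat.card S - Nat.card (normalizerIn S Q))).wf
    {Q | D.IsConj P Q} ⟨P, H802.isConj_refl D hPS⟩
  refine ⟨P₀, hP₀, fun Q hQ => ?_⟩
  have hP₀' : D.IsConj P P₀ := hP₀
  have hcQ := H802.isConj_card_eq hQ
  obtain ⟨f, hf⟩ := gen_of_conj hD (by rw [← hcQ]; exact hlt)
    (H802.isConj_trans (H802.isConj_symm hQ) hP₀')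
  obtain ⟨Y, h1, h2⟩ := arr_of_gen hS hbig hlt hf hcQ.symm
  refine h1.trans (h2.symm_of_card ?_)
  have h3 := hmin Y (H802.isConj_trans hP₀' h2.isConj)
  have h4 : Nat.card (normalizerIn S Y) ≤ Nat.card S := card_le_of_le le_rfl inf_le_left
  have h5 : Nat.card (normalizerIn S P₀) ≤ Nat.card S := card_le_of_le le_rfl inf_le_left
  have h6 : ¬ (Nat.card S - Nat.card (normalizerIn S Y) < Nat.card S - Nat.card (normalizerIn S P₀)) := h3
  omega

/-- A property of automorphisms of `P₀`. -/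
structure AM (p : ℕ) (F : FusionSystem S) (E : FusionSystem T) (D : FusionSystem S)
    (P₀ : Subgroup Ω) (M : (Ω → Ω) → Prop) : Prop where
  congr : ∀ f g : Ω → Ω, (∀ x ∈ P₀, g x = f x) → M f → M g
  comp : ∀ f g : Ω → Ω, Iso D P₀ P₀ f → Iso D P₀ P₀ g → M f → M g → M (g ∘ f)
  inv : ∀ f g : Ω → Ω, Iso D P₀ P₀ f → Iso D P₀ P₀ g → (∀ x ∈ P₀, g (f x) = x) → M f → M g
  gd : ∀ κ : Ω → Ω, GD p F E P₀ κ → M κ
  conj : ∀ s ∈ normalizerIn S P₀, M (fun x => s * x * s⁻¹)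

variable [Finite S] [Fact p.Prime] {P₀ : Subgroup Ω} {M : (Ω → Ω) → Prop}

theorem iso_fn_of_stab {R₀ Q₁ : Subgroup Ω} (hR₀ : R₀ ≤ S) (hQR : Q₁ ≤ R₀) {κ : MulAut R₀}
    (hκ : κ ∈ stab D R₀ Q₁) : Iso D Q₁ Q₁ (fn κ) := by
  have h1 : Mp D R₀ (fn κ) := (mp_iff_autGroup hR₀ κ).1 hκ.1
  have hfQ : Finite Q₁ := H802.finite_of_le (hQR.trans hR₀)
  have h2 : ∀ x ∈ Q₁, fn κ x ∈ Q₁ := fun x hx => by
    rw [fn_apply κ (hQR hx)]
    exact (hκ.2 ⟨x, hQR hx⟩).1 hx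
  exact iso_of_mp h1 hQR fun y => ⟨fun hy => (h1.res hQR).surj h2 hy, fun ⟨x, hx, e⟩ => e ▸ h2 x hx⟩

/-- Transport of the stabilizer. -/
theorem m_of_stab (hD : ∀ P f, Mp D P f ↔ DP p F E P f) (hS : IsPGroup p S)
    (hT : F.StronglyClosed T) (hI : StrongInvC E F) (hM : AM p F E D P₀ M)
    (hcen : H756.TC F T (P₀ ⊓ T)) {R₀ Q₁ W : Subgroup Ω} {ω : Ω → Ω} (hR₀ : R₀ ≤ S)
    (hQR : Q₁ ≤ R₀) (hal : Aligned p D R₀ Q₁) (hω : Iso D (normalizerIn S Q₁) W ω)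
    (hωQ : Iso D Q₁ P₀ ω) {κ : MulAut R₀} (hκ : κ ∈ stab D R₀ Q₁) {a : Ω → Ω}
    (ha : ∀ x ∈ Q₁, a (ω x) = ω (fn κ x)) : M a := by
  have hQ₁S : Q₁ ≤ S := hQR.trans hR₀
  have hfR₀ : Finite R₀ := H802.finite_of_le hR₀
  have hfM := finite_mulAut R₀
  obtain ⟨g, hg, hgω, hωg⟩ := hωQ.exists_inv
  have hP₀S : P₀ ≤ S := hωQ.le_right
  have hia : ∀ κ ∈ stab D R₀ Q₁, Iso D P₀ P₀ (ω ∘ (fn κ ∘ g)) := fun κ hκ =>
    (hg.trans (iso_fn_of_stab hR₀ hQR hκ)).trans hωQ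
  have hQm : ∀ κ ∈ stab D R₀ Q₁, ∀ x ∈ Q₁, fn κ x ∈ Q₁ := fun κ hκ x hx =>
    (iso_fn_of_stab hR₀ hQR hκ).mem hx
  let L : Subgroup (MulAut R₀) :=
    { carrier := {κ | κ ∈ stab D R₀ Q₁ ∧ M (ω ∘ (fn κ ∘ g))}
      one_mem' := by
        refine ⟨one_mem _, hM.congr _ _ (fun x hx => ?_) (hM.conj 1 (one_mem _))⟩
        show ω (fn 1 (g x)) = 1 * x * 1⁻¹
        rw [fn_apply 1 (hQR (hg.mem hx))]
        show ω (g x) = _
        rw [hωg x hx]
        simp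
      mul_mem' := by
        rintro κ₁ κ₂ ⟨h1, h1'⟩ ⟨h2, h2'⟩
        refine ⟨mul_mem h1 h2, hM.congr _ _ (fun x hx => ?_)
          (hM.comp _ _ (hia κ₂ h2) (hia κ₁ h1) h2' h1')⟩
        show ω (fn (κ₁ * κ₂) (g x)) = ω (fn κ₁ (g (ω (fn κ₂ (g x)))))
        rw [fn_mul _ _ (hQR (hg.mem hx)), hgω _ (hQm κ₂ h2 _ (hg.mem hx))]
      inv_mem' := by
        rintro κ₁ ⟨h1, h1'⟩
        have h2 := Subgroup.inv_mem _ h1
        refine ⟨h2, hM.inv _ _ (hia κ₁ h1) (hia κ₁⁻¹ h2) (fun x hx => ?_) h1'⟩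
        show ω (fn κ₁⁻¹ (g (ω (fn κ₁ (g x))))) = x
        rw [hgω _ (hQm κ₁ h1 _ (hg.mem hx)), fn_inv_fn κ₁ (hQR (hg.mem hx)), hωg x hx] }
  have hKL : stab D R₀ Q₁ ≤ L := by
    refine le_of_sylIn_of_coprime hal ?_ ?_
    · rintro c ⟨hc, hcs⟩
      obtain ⟨s, hs, hsc⟩ := H757.exists_cj_of_mem hc
      have hsQ : s ∈ normalizerIn S Q₁ := by
        refine ⟨hs, H802.mem_normalizer_of_conj_mem hQ₁S fun x hx => ?_⟩
        rw [← hsc ⟨x, hQR hx⟩]
        exact (hcs.2 ⟨x, hQR hx⟩).1 hx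
      have hωs : ω s ∈ normalizerIn S P₀ :=
        hω.le_normalizerIn hωQ (H802.le_normalizerIn hQ₁S) inf_le_right (hω.mem hsQ)
      refine ⟨hcs, hM.congr _ _ (fun x hx => ?_) (hM.conj _ hωs)⟩
      show ω (fn c (g x)) = ω s * x * (ω s)⁻¹
      have hgx := hg.mem hx
      have h1 : fn c (g x) = s * g x * s⁻¹ := by
        rw [fn_apply c (hQR hgx)]
        exact hsc ⟨g x, hQR hgx⟩
      rw [h1, hω.map_conj hsQ (H802.le_normalizerIn hQ₁S hgx), hωg x hx]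
    · intro κ₁ h1 hc
      refine ⟨h1, hM.gd _ ?_⟩
      have hi := hia κ₁ h1
      refine gd_of_pp hS hT hI ((hD _ _).1 (mp_of_iso hi)) ⟨fun x hx => hi.mem hx, orderOf κ₁, hc,
        fun x hx => ?_⟩ hcen
      have h2 : ∀ j : ℕ, (ω ∘ (fn κ₁ ∘ g))^[j] x = ω ((fn κ₁)^[j] (g x)) := by
        intro j
        induction j with
        | zero => exact (hωg x hx).symm
        | succ j ih =>
          rw [Function.iterate_succ_apply', ih, Function.iterate_succ_apply']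
          show ω (fn κ₁ (g (ω ((fn κ₁)^[j] (g x))))) = _
          rw [hgω _ (iter_mem (hQm κ₁ h1) j _ (hg.mem hx))]
      have h3 : (fn κ₁)^[orderOf κ₁] (g x) = g x :=
        (iter_eq_id_iff (fun x hx => fn_apply κ₁ hx) _).2 dvd_rfl _ (hQR (hg.mem hx))
      rw [h2, h3, hωg x hx]
  refine hM.congr _ _ (fun x hx => ?_) (hKL hκ).2
  obtain ⟨y, hy, rfl⟩ := hωQ.surj hx
  rw [ha y hy]
  show _ = ω (fn κ (g (ω y)))
  rw [hgω y hy]

/-- **Claim C.** -/
theorem claimC (hD : ∀ P f, Mp D P f ↔ DP p F E P f) (hS : IsPGroup p S)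
    (hT : F.StronglyClosed T) (hI : StrongInvC E F) (hM : AM p F E D P₀ M)
    (hcen : H756.TC F T (P₀ ⊓ T)) (hbig : Big p D (Nat.card P₀))
    (htop : ∀ Q, D.IsConj P₀ Q → Arr D Q P₀) :
    ∀ (m : ℕ) (R R' : Subgroup Ω) (f : Ω → Ω), Nat.card S - Nat.card R ≤ m → P₀ < R →
      R ≤ normalizerIn S P₀ → Iso D R R' f → Iso D P₀ P₀ f → M f := by
  have hmain : ∀ (R R' : Subgroup Ω) (f : Ω → Ω), P₀ < R → R ≤ normalizerIn S P₀ →
      Iso D R R' f → Iso D P₀ P₀ f → (R ≠ normalizerIn S P₀ →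
        ∀ (R₂ R₂' : Subgroup Ω) (f₂ : Ω → Ω), Nat.card R < Nat.card R₂ → P₀ < R₂ →
          R₂ ≤ normalizerIn S P₀ → Iso D R₂ R₂' f₂ → Iso D P₀ P₀ f₂ → M f₂) → M f := by
    intro R R' f hPR hRN hf hfP hIH
    have hP₀S : P₀ ≤ S := hfP.le_left
    have hRS : R ≤ S := hf.le_left
    have hR'S : R' ≤ S := hf.le_right
    have hR'N : R' ≤ normalizerIn S P₀ := hf.le_normalizerIn hfP hPR.le (hRN.trans inf_le_right)
    have hPR' : P₀ ≤ R' := hf.le_of_le hfP hPR.le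
    have hcR := hf.card_eq
    obtain ⟨g, hg, hgP, hgf, hfg⟩ := hf.inv_restrict hfP hPR.le
    obtain ⟨R₀, hRR₀, hR₀a, hR₀r⟩ := hbig R hRS (card_lt_of_lt hRS hPR)
    obtain ⟨χ, Q₁, hχ, hχQ, hal⟩ := exists_aligned hS hRR₀ hR₀a hPR.le
    have hR₀S : R₀ ≤ S := hR₀r.1
    have hQ₁R₀ : Q₁ ≤ R₀ := hχ.le_of_le hχQ hPR.le
    have hQ₁S := hQ₁R₀.trans hR₀S
    obtain ⟨ω, W, hω, hωQ⟩ := htop Q₁ hχQ.isConj
    have hR₀N : R₀ ≤ normalizerIn S Q₁ := hχ.le_normalizerIn hχQ hPR.le (hRN.trans inf_le_right)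
    by_cases hRne : R = normalizerIn S P₀
    · -- `R₀ = N_S(Q₁)`
      have hRe : R₀ = normalizerIn S Q₁ := by
        refine eq_of_le_of_card inf_le_left hR₀N ?_
        rw [← hχ.card_eq, hRne]
        exact (htop Q₁ hχQ.isConj).card_le
      obtain ⟨χ', hχ', hχ'Q, hχ'χ, hχχ'⟩ := hχ.inv_restrict hχQ hPR.le
      have hR'e : R' = R := by
        refine eq_of_le_of_card hRS ?_ ?_
        · rw [hRne]; exact hR'N
        · rw [← hcR]
      rw [hR'e] at hf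
      have hκi : Iso D R₀ R₀ (χ ∘ (f ∘ χ')) := (hχ'.trans hf).trans hχ
      have hκQ : Iso D Q₁ Q₁ (χ ∘ (f ∘ χ')) := (hχ'Q.trans hfP).trans hχQ
      obtain ⟨κ, hκ, hκe⟩ := hκi.exists_aut
      have hκs : κ ∈ stab D R₀ Q₁ := ⟨hκ, fun x => by
        rw [hκe]; exact (hκi.mem_iff_mem hκQ hQ₁R₀ x.2).symm⟩
      rw [hRe] at hχ'
      refine m_of_stab hD hS hT hI hM hcen hR₀S hQ₁R₀ hal hχ' hχ'Q hκs (a := f) fun x hx => ?_
      rw [fn_apply κ (hQ₁R₀ hx), hκe ⟨x, hQ₁R₀ hx⟩]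
      show f (χ' x) = χ' (χ (f (χ' x)))
      rw [hχ'χ _ (hPR.le (hfP.mem (hχ'Q.mem hx)))]
    · have hR'ne : R' ≠ normalizerIn S P₀ := by
        intro h
        have h1 : Nat.card R < Nat.card (normalizerIn S P₀) :=
          card_lt_of_lt inf_le_left (lt_of_le_of_ne hRN hRne)
        rw [← h] at h1
        omega
      have hc1 := lt_common hS hRN hRne
      have hc2 := lt_common hS hR'N hR'ne
      have hN₁le : R ≤ normalizerIn S R ⊓ normalizerIn S P₀ := le_inf (H802.le_normalizerIn hRS) hRN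
      have hN₂le : R' ≤ normalizerIn S R' ⊓ normalizerIn S P₀ :=
        le_inf (H802.le_normalizerIn hR'S) hR'N
      obtain ⟨k₁, hk₁, N₁', f₁, hf₁, hf₁R, hf₁Q, hf₁e⟩ := exists_ext_stab hS hχ hχQ hPR.le hR₀r hal
        (normalizerIn S R ⊓ normalizerIn S P₀) hN₁le inf_le_left inf_le_right
      obtain ⟨k₂, hk₂, N₂', f₂, hf₂, hf₂R, hf₂Q, hf₂e⟩ := exists_ext_stab hS (hg.trans hχ)
        (hgP.trans hχQ) hPR' hR₀r hal (normalizerIn S R' ⊓ normalizerIn S P₀) hN₂le inf_le_left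
        inf_le_right
      have hP₀N₁ : P₀ ≤ normalizerIn S R ⊓ normalizerIn S P₀ := hPR.le.trans hN₁le
      have hP₀N₂ : P₀ ≤ normalizerIn S R' ⊓ normalizerIn S P₀ := hPR'.trans hN₂le
      have hN₁' : N₁' ≤ normalizerIn S Q₁ :=
        hf₁.le_normalizerIn hf₁Q hP₀N₁ (inf_le_right.trans inf_le_right)
      have hN₂' : N₂' ≤ normalizerIn S Q₁ :=
        hf₂.le_normalizerIn hf₂Q hP₀N₂ (inf_le_right.trans inf_le_right)
      obtain ⟨W₁, hW₁, -⟩ := hω.restrict hN₁'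
      obtain ⟨W₂, hW₂, -⟩ := hω.restrict hN₂'
      have ha₁ := hf₁Q.trans hωQ
      have ha₂ := hf₂Q.trans hωQ
      have hM₁ : M (ω ∘ f₁) := hIH hRne _ W₁ _ hc1 (lt_of_lt_of_le hPR hN₁le) inf_le_right
        (hf₁.trans hW₁) ha₁
      have hM₂ : M (ω ∘ f₂) := hIH hRne _ W₂ _ (by rw [hcR]; exact hc2)
        (lt_of_lt_of_le (lt_of_le_of_ne hPR' fun he => by
          have h1 := card_lt_of_lt hRS hPR
          rw [he] at h1
          omega) hN₂le) inf_le_right (hf₂.trans hW₂) ha₂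
      -- the stabilizer part
      have hκs : k₂ * k₁⁻¹ ∈ stab D R₀ Q₁ := mul_mem hk₂ (Subgroup.inv_mem _ hk₁)
      obtain ⟨ωi, hωi, hωiω, hωωi⟩ := hωQ.exists_inv
      have ha₃ : Iso D P₀ P₀ (ω ∘ (fn (k₂ * k₁⁻¹) ∘ ωi)) :=
        (hωi.trans (iso_fn_of_stab hR₀S hQ₁R₀ hκs)).trans hωQ
      have hM₃ : M (ω ∘ (fn (k₂ * k₁⁻¹) ∘ ωi)) :=
        m_of_stab hD hS hT hI hM hcen hR₀S hQ₁R₀ hal hω hωQ hκs fun x hx => by
          show ω (fn (k₂ * k₁⁻¹) (ωi (ω x))) = _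
          rw [hωiω x hx]
      obtain ⟨a₂', ha₂', ha₂'a₂, -⟩ := ha₂.exists_inv
      have hM₂' : M a₂' := hM.inv _ _ ha₂ ha₂' ha₂'a₂ hM₂
      have h13 := hM.comp _ _ ha₁ ha₃ hM₁ hM₃
      refine hM.congr _ _ (fun x hx => ?_) (hM.comp _ _ (ha₁.trans ha₃) ha₂' h13 hM₂')
      show f x = a₂' (ω (fn (k₂ * k₁⁻¹) (ωi (ω (f₁ x)))))
      have hfx : f x ∈ P₀ := hfP.mem hx
      have h1 : ωi (ω (f₁ x)) = f₁ x := hωiω _ (hf₁Q.mem hx)
      have hχx : χ x ∈ R₀ := hχ.mem (hPR.le hx)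
      have h2 : f₁ x = fn k₁ (χ x) := by
        rw [hf₁e x (hPR.le hx) hχx, fn_apply k₁ hχx]
      have h3 : f₂ (f x) = fn k₂ (χ x) := by
        have h4 : χ (g (f x)) = χ x := by rw [hgf x (hPR.le hx)]
        have h5 : (χ ∘ g) (f x) ∈ R₀ := by
          show χ (g (f x)) ∈ R₀
          rw [h4]; exact hχx
        rw [hf₂e (f x) (hPR' hfx) h5, ← fn_apply k₂ h5]
        show fn k₂ (χ (g (f x))) = _
        rw [h4]
      have h4 : fn (k₂ * k₁⁻¹) (f₁ x) = f₂ (f x) := by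
        rw [h2, h3, fn_mul _ _ (fn_mem k₁ hχx), fn_inv_fn k₁ hχx]
      rw [h1, h4]
      exact (ha₂'a₂ (f x) hfx).symm
  intro m
  induction m with
  | zero =>
    intro R R' f hm hPR hRN hf hfP
    refine hmain R R' f hPR hRN hf hfP fun hne => ?_
    exfalso
    have h1 : Nat.card R < Nat.card (normalizerIn S P₀) :=
      card_lt_of_lt inf_le_left (lt_of_le_of_ne hRN hne)
    have h2 : Nat.card (normalizerIn S P₀) ≤ Nat.card S := card_le_of_le le_rfl inf_le_left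
    omega
  | succ m ih =>
    intro R R' f hm hPR hRN hf hfP
    exact hmain R R' f hPR hRN hf hfP fun _ R₂ R₂' f₂ h1 h2 h3 h4 h5 =>
      ih R₂ R₂' f₂ (by omega) h2 h3 h4 h5

/-- Two full maps onto `P₀`. -/
theorem m_of_full (hD : ∀ P f, Mp D P f ↔ DP p F E P f) (hS : IsPGroup p S)
    (hT : F.StronglyClosed T) (hI : StrongInvC E F) (hM : AM p F E D P₀ M)
    (hcen : H756.TC F T (P₀ ⊓ T)) (hbig : Big p D (Nat.card P₀)) (hlt : Nat.card P₀ < Nat.card S)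
    (htop : ∀ Q, D.IsConj P₀ Q → Arr D Q P₀) {Q N N' : Subgroup Ω} {χ χ' : Ω → Ω}
    (hχ : Iso D (normalizerIn S Q) N χ) (hχQ : Iso D Q P₀ χ)
    (hχ' : Iso D (normalizerIn S Q) N' χ') (hχ'Q : Iso D Q P₀ χ') {a : Ω → Ω}
    (ha : ∀ x ∈ Q, a (χ x) = χ' x) : M a := by
  have hQS : Q ≤ S := hχQ.le_left
  have hQN : Q ≤ normalizerIn S Q := H802.le_normalizerIn hQS
  obtain ⟨g, hg, hgQ, hgχ, hχg⟩ := hχ.inv_restrict hχQ hQN
  have hN := hχ.le_normalizerIn hχQ hQN inf_le_right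
  have hQne : Q ≠ S := by
    rintro rfl
    have := hχQ.card_eq
    omega
  have hlt2 := H802.card_lt_card_normalizerIn hS hQS hQne
  have hPN : P₀ < N := by
    refine lt_of_le_of_ne (hχ.le_of_le hχQ hQN) fun he => ?_
    have h1 := hχ.card_eq
    have h2 := hχQ.card_eq
    rw [← he] at h1
    omega
  refine hM.congr _ _ (fun x hx => ?_) (claimC hD hS hT hI hM hcen hbig htop _ N N' (χ' ∘ g) le_rfl
    hPN hN (hg.trans hχ') (hgQ.trans hχ'Q))
  obtain ⟨y, hy, rfl⟩ := hχQ.surj hx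
  rw [ha y hy]
  show χ' y = χ' (g (χ y))
  rw [hgχ y (hQN hy)]

/-- One generator. -/
theorem m_of_step (hD : ∀ P f, Mp D P f ↔ DP p F E P f) (hS : IsPGroup p S)
    (hT : F.StronglyClosed T) (hI : StrongInvC E F) (hDF : D.IsSubsystemOf F)
    (hM : AM p F E D P₀ M)
    (hcen : H756.TC F T (P₀ ⊓ T)) (hbig : Big p D (Nat.card P₀)) (hlt : Nat.card P₀ < Nat.card S)
    (htop : ∀ Q, D.IsConj P₀ Q → Arr D Q P₀) {Q Q' R N N' : Subgroup Ω} {κ χ χ' : Ω → Ω}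
    (hκ : GD p F E R κ) (hQR : Q ≤ R) (hκQ : Iso D Q Q' κ)
    (hχ : Iso D (normalizerIn S Q) N χ) (hχQ : Iso D Q P₀ χ)
    (hχ' : Iso D (normalizerIn S Q') N' χ') (hχ'Q : Iso D Q' P₀ χ') {a : Ω → Ω}
    (ha : ∀ x ∈ Q, a (χ x) = χ' (κ x)) : M a := by
  have hQS : Q ≤ S := hχQ.le_left
  have hQN : Q ≤ normalizerIn S Q := H802.le_normalizerIn hQS
  have hκR := iso_of_gd hD hκ
  by_cases hne : Q = R
  · subst hne
    have he : Q' = Q := hκQ.eq_of hκR
    subst he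
    obtain ⟨ω, hω, hωχ, hχω⟩ := hχQ.exists_inv
    have h1 : Iso D P₀ P₀ (χ ∘ (κ ∘ ω)) := (hω.trans hκR).trans hχQ
    have h2 : Iso D P₀ P₀ (χ' ∘ ω) := hω.trans hχ'Q
    obtain ⟨κ', hκ', he'⟩ := hκ.transport hT hI (mp_mono hDF (mp_of_iso hχ)) hQN
      (fun y => hχQ.mem_iff)
    have hM1 : M (χ ∘ (κ ∘ ω)) := hM.gd _ (hκ'.congr fun x hx => by
      obtain ⟨y, hy, rfl⟩ := hχQ.surj hx
      show χ (κ (ω (χ y))) = κ' (χ y)
      rw [hωχ y hy, he' y hy])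
    have hM2 : M (χ' ∘ ω) := m_of_full hD hS hT hI hM hcen hbig hlt htop hχ hχQ hχ' hχ'Q
      fun x hx => by
        show χ' (ω (χ x)) = χ' x
        rw [hωχ x hx]
    refine hM.congr _ _ (fun x hx => ?_) (hM.comp _ _ h1 h2 hM1 hM2)
    obtain ⟨y, hy, rfl⟩ := hχQ.surj hx
    rw [ha y hy]
    show _ = χ' (ω (χ (κ (ω (χ y)))))
    rw [hωχ y hy, hωχ _ (hκR.mem hy)]
  · have hQR' : Q < R := lt_of_le_of_ne hQR hne
    obtain ⟨g, hg, hgQ, hgn⟩ := H759.exists_mem_normalizer_not_mem hS hκR.le_left hQR'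
    obtain ⟨R₁', hR₁', -⟩ := hκR.restrict (R := R ⊓ normalizerIn S Q) inf_le_left
    have hle : Q ≤ R ⊓ normalizerIn S Q := le_inf hQR hQN
    have hgN : g ∈ R ⊓ normalizerIn S Q := ⟨hg, hκR.le_left hg, hgn⟩
    obtain ⟨V, hV, hVN⟩ := hχ.restrict (R := R ⊓ normalizerIn S Q) inf_le_right
    obtain ⟨ψ, hψ, hψQ, hψχ, -⟩ := hV.inv_restrict hχQ hle
    have hR₁'N : R₁' ≤ normalizerIn S Q' :=
      hR₁'.le_normalizerIn hκQ hle (inf_le_right.trans inf_le_right)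
    obtain ⟨V', hV', -⟩ := hχ'.restrict hR₁'N
    have hall := (hψ.trans hR₁').trans hV'
    have hall0 := (hψQ.trans hκQ).trans hχ'Q
    have hP₀V : P₀ < V := by
      refine lt_of_le_of_ne (hV.le_of_le hχQ hle) (fun he => hgQ ?_)
      have h6 : χ g ∈ P₀ := by
        rw [he]
        exact hV.mem hgN
      exact (hV.mem_iff_mem hχQ hle hgN).1 h6
    have hVN : V ≤ normalizerIn S P₀ :=
      hV.le_normalizerIn hχQ hle (inf_le_right.trans inf_le_right)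
    refine hM.congr _ _ (fun y hy => ?_)
      (claimC hD hS hT hI hM hcen hbig htop _ V V' _ le_rfl hP₀V hVN hall hall0)
    obtain ⟨x, hx, rfl⟩ := hχQ.surj hy
    rw [ha x hx]
    show _ = χ' (κ (ψ (χ x)))
    rw [hψχ x (hle hx)]

theorem m_of_nn (hD : ∀ P f, Mp D P f ↔ DP p F E P f) (hS : IsPGroup p S)
    (hT : F.StronglyClosed T) (hI : StrongInvC E F) (hDF : D.IsSubsystemOf F)
    (hM : AM p F E D P₀ M)
    (hcen : H756.TC F T (P₀ ⊓ T)) (hbig : Big p D (Nat.card P₀)) (hlt : Nat.card P₀ < Nat.card S)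
    (htop : ∀ Q, D.IsConj P₀ Q → Arr D Q P₀) {Q N : Subgroup Ω} {ν χ : Ω → Ω}
    (hν : NN p F E Q ν) (hχ : Iso D (normalizerIn S Q) N χ) (hχQ : Iso D Q P₀ χ) :
    ∀ (Q' N' : Subgroup Ω) (χ' a : Ω → Ω), Iso D Q Q' ν →
      Iso D (normalizerIn S Q') N' χ' → Iso D Q' P₀ χ' → (∀ x ∈ Q, a (χ x) = χ' (ν x)) → M a := by
  have hQS : Q ≤ S := hχQ.le_left
  induction hν with
  | id g hP hg =>
    intro Q' N' χ' a hQ' hχ' hχ'Q ha
    have he : Q' = Q := by
      refine hQ'.eq_of ((Iso.refl D hQS).congr fun x hx => ?_)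
      rw [hg x hx]; rfl
    subst he
    exact m_of_full hD hS hT hI hM hcen hbig hlt htop hχ hχQ hχ' hχ'Q fun x hx => by
      rw [ha x hx, hg x hx]
  | step R f κ g hf hκ hm hg ih =>
    intro Q' N' χ' a hQ' hχ' hχ'Q ha
    have hfD : Mp D Q f := (hD _ _).2 hf.dp
    obtain ⟨Q'', hQ'', -, -⟩ := hfD.exists_image le_rfl
    have hfi : Iso D Q Q'' f := iso_of_mp hfD le_rfl hQ''
    have hQ''R : Q'' ≤ R := fun y hy => by
      obtain ⟨x, hx, rfl⟩ := hfi.surj hy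
      exact hm x hx
    have hκi : Iso D Q'' Q' κ := by
      refine (iso_of_gd hD hκ).restrict_of hQ''R fun y => ?_
      rw [hQ'.mem_iff]
      constructor
      · rintro ⟨x, hx, rfl⟩
        exact ⟨f x, hfi.mem hx, (hg x hx).symm⟩
      · rintro ⟨z, hz, rfl⟩
        obtain ⟨x, hx, rfl⟩ := hfi.surj hz
        exact ⟨x, hx, hg x hx⟩
    obtain ⟨ω, W, hω, hωQ⟩ := htop Q'' (H802.isConj_trans (H802.isConj_symm hχQ.isConj) hfi.isConj)
    obtain ⟨χi, hχi, hχiχ, hχχi⟩ := hχQ.exists_inv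
    obtain ⟨ωi, hωi, hωiω, hωωi⟩ := hωQ.exists_inv
    have h1 : Iso D P₀ P₀ (ω ∘ (f ∘ χi)) := (hχi.trans hfi).trans hωQ
    have h2 : Iso D P₀ P₀ (χ' ∘ (κ ∘ ωi)) := (hωi.trans hκi).trans hχ'Q
    have hM1 : M (ω ∘ (f ∘ χi)) := ih Q'' W ω _ hfi hω hωQ fun x hx => by
      show ω (f (χi (χ x))) = ω (f x)
      rw [hχiχ x hx]
    have hM2 : M (χ' ∘ (κ ∘ ωi)) := m_of_step hD hS hT hI hDF hM hcen hbig hlt htop hκ hQ''R hκi
      hω hωQ hχ' hχ'Q fun x hx => by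
        show χ' (κ (ωi (ω x))) = χ' (κ x)
        rw [hωiω x hx]
    refine hM.congr _ _ (fun x hx => ?_) (hM.comp _ _ h1 h2 hM1 hM2)
    obtain ⟨y, hy, rfl⟩ := hχQ.surj hx
    rw [ha y hy, hg y hy]
    show _ = χ' (κ (ωi (ω (f (χi (χ y))))))
    rw [hχiχ y hy, hωiω _ (hfi.mem hy)]

/-- **Automorphisms of the top member of a conjugacy class.** -/
theorem aut_top (hD : ∀ P f, Mp D P f ↔ DP p F E P f) (hS : IsPGroup p S)
    (hT : F.StronglyClosed T) (hI : StrongInvC E F) (hDF : D.IsSubsystemOf F)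
    (hM : AM p F E D P₀ M)
    (hcen : H756.TC F T (P₀ ⊓ T)) (hbig : Big p D (Nat.card P₀)) (hlt : Nat.card P₀ < Nat.card S)
    (htop : ∀ Q, D.IsConj P₀ Q → Arr D Q P₀) {f : Ω → Ω} (hf : Iso D P₀ P₀ f) : M f := by
  have hP₀S : P₀ ≤ S := hf.le_left
  obtain ⟨s, hs, ν, hν, hfe⟩ := (hD _ _).1 (mp_of_iso hf)
  have hνD : Mp D P₀ ν := (hD _ _).2 hν.dp
  obtain ⟨Q', hQ', hQ'S, -⟩ := hνD.exists_image le_rfl
  have hνi : Iso D P₀ Q' ν := iso_of_mp hνD le_rfl hQ'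
  have hc : Mp D (normalizerIn S Q') (fun x => s * x * s⁻¹) := mp_conj D inf_le_left hs
  obtain ⟨N', hN', -, -⟩ := hc.exists_image le_rfl
  have hcP : Iso D Q' P₀ (fun x => s * x * s⁻¹) := by
    refine iso_of_mp hc (H802.le_normalizerIn hQ'S) fun y => ?_
    rw [hf.mem_iff]
    constructor
    · rintro ⟨x, hx, rfl⟩
      exact ⟨ν x, hνi.mem hx, (hfe x hx).symm⟩
    · rintro ⟨z, hz, rfl⟩
      obtain ⟨x, hx, rfl⟩ := hνi.surj hz
      exact ⟨x, hx, hfe x hx⟩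
  exact m_of_nn hD hS hT hI hDF hM hcen hbig hlt htop hν (Iso.refl D inf_le_left)
    (Iso.refl D hP₀S) Q' N' _ f hνi (iso_of_mp hc le_rfl hN') hcP fun x hx => hfe x hx

end Cfsg.Agent.H758
end

-- part: H758/PLoc
section
/-!
# The product system at a subgroup linked to a nice subgroup (helper758)
-/

set_option autoImplicit false

namespace Cfsg.Agent.H758

open Cfsg Cfsg.FusionSystem Cfsg.Agent.H752 Cfsg.Agent.H750

variable {Ω : Type*} [Group Ω] {S T : Subgroup Ω} {p : ℕ} {F : FusionSystem S}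
  {E : FusionSystem T} {D : FusionSystem S}

/-- `P` is linked to the nice subgroup `Q` by `ψ`. -/
structure Lk (F : FusionSystem S) (T P Q : Subgroup Ω) (ψ : Ω → Ω) : Prop where
  mp : Mp F (normalizerIn S P ⊔ T) ψ
  le : P ≤ S
  im : ∀ y, y ∈ Q ↔ ∃ x ∈ P, ψ x = y
  fn : F.IsFullyNormalized Q
  fnT : F.IsFullyNormalized (Q ⊓ T)

variable {P Q : Subgroup Ω} {ψ : Ω → Ω}

theorem Lk.le_dom (h : Lk F T P Q ψ) : P ≤ normalizerIn S P ⊔ T :=
  (H802.le_normalizerIn h.le).trans le_sup_left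

theorem Lk.mem_T (hT : F.StronglyClosed T) (h : Lk F T P Q ψ) {x : Ω}
    (hx : x ∈ normalizerIn S P ⊔ T) : ψ x ∈ T ↔ x ∈ T :=
  ⟨mp_mem_of_stronglyClosed' hT h.mp hx, mp_mem_of_stronglyClosed hT h.mp hx⟩

/-- An element of the domain whose image normalizes `Q` normalizes `P`. -/
theorem Lk.mem_normalizer [Finite S] (h : Lk F T P Q ψ) {w : Ω} (hw : w ∈ normalizerIn S P ⊔ T)
    (hn : ψ w ∈ Subgroup.normalizer (Q : Set Ω)) : w ∈ normalizerIn S P := by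
  refine ⟨h.mp.le hw, H802.mem_normalizer_of_conj_mem h.le fun x hx => ?_⟩
  have hxd := h.le_dom hx
  have h1 : ψ (w * x * w⁻¹) ∈ Q := by
    rw [mp_conj_eq h.mp hw hxd]
    exact (Subgroup.mem_normalizer_iff.1 hn _).1 ((h.im _).2 ⟨x, hx, rfl⟩)
  obtain ⟨y, hy, hye⟩ := (h.im _).1 h1
  have h2 := h.mp.inj (h.le_dom hy) (mul_mem (mul_mem hw hxd) (Subgroup.inv_mem _ hw)) hye
  rwa [← h2]

theorem Lk.image_normalizer [Finite S] (h : Lk F T P Q ψ) {w : Ω} (hw : w ∈ normalizerIn S P) :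
    ψ w ∈ normalizerIn S Q := by
  have hwd : w ∈ normalizerIn S P ⊔ T := (le_sup_left : normalizerIn S P ≤ _) hw
  refine ⟨h.mp.mem hwd, H802.mem_normalizer_of_conj_mem h.fn.1 fun y hy => ?_⟩
  obtain ⟨x, hx, rfl⟩ := (h.im y).1 hy
  rw [← mp_conj_eq h.mp hwd (h.le_dom hx)]
  exact (h.im _).2 ⟨_, (Subgroup.mem_normalizer_iff.1 hw.2 x).1 hx, rfl⟩

theorem Lk.exists_T [Finite S] (hT : F.StronglyClosed T) (h : Lk F T P Q ψ) {y : Ω} (hy : y ∈ T) :
    ∃ x ∈ T, ψ x = y := by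
  have hfT : Finite T := H802.finite_of_le hT.1
  exact (h.mp.res (le_sup_right : T ≤ _)).surj (fun x hx =>
    (h.mem_T hT ((le_sup_right : T ≤ normalizerIn S P ⊔ T) hx)).2 hx) hy

/-- **Extension of generators.** -/
theorem GD.ext_linked [Finite S] [Fact p.Prime] (hS : IsPGroup p S) (hE : E.IsNormalIn F p)
    (hL : Lk F T P Q ψ) {κ : Ω → Ω} (hκ : GD p F E P κ) {N : Subgroup Ω} (hPN : P ≤ N)
    (hCN : centralizerIn S P ≤ N) (hN : N ≤ normalizerIn S P)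
    (hV : ∀ n ∈ N, ∃ n' ∈ N, ∀ x ∈ P, κ (n * x * n⁻¹) = n' * κ x * n'⁻¹) :
    ∃ κ', GD p F E N κ' ∧ ∀ x ∈ P, κ' x = κ x := by
  have hF := hE.1.2.1
  have hT : F.StronglyClosed T := hE.1.2.2.2.1
  have hTS := hT.1
  have hI : StrongInvC E F :=
    (isInvariantIn_iff_strongInvC hS hF hE.1.2.2.1 hT).1 hE.1.2.2
  have hPd := hL.le_dom
  have hNd : N ≤ normalizerIn S P ⊔ T := hN.trans le_sup_left
  obtain ⟨κ₁, hκ₁, hκ₁e⟩ := hκ.transport hT hI hL.mp hPd hL.im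
  obtain ⟨N', hN', hN'S, -⟩ := hL.mp.exists_image hNd
  have hN'n : N' ≤ normalizerIn S Q := fun y hy => by
    obtain ⟨n, hn, rfl⟩ := (hN' y).1 hy
    exact hL.image_normalizer (hN hn)
  have hQS := hL.fn.1
  have hQN' : Q ≤ N' := fun y hy => by
    obtain ⟨x, hx, rfl⟩ := (hL.im y).1 hy
    exact (hN' _).2 ⟨x, hPN hx, rfl⟩
  have hCn : centralizerIn S Q ≤ normalizerIn S Q := H802.centralizerIn_le_normalizerIn S Q
  have hCnn : normalizerIn S Q ≤ Subgroup.normalizer (centralizerIn S Q : Set Ω) := by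
    intro g hg
    have hfC : Finite (centralizerIn S Q) := H802.finite_of_le inf_le_left
    refine H757.mem_normalizer_of_conj_mem fun c hc => ?_
    refine ⟨mul_mem (mul_mem hg.1 hc.1) (Subgroup.inv_mem _ hg.1),
      Subgroup.mem_centralizer_iff.2 fun z hz => ?_⟩
    have h1 : g⁻¹ * z * g ∈ Q := by
      have := (Subgroup.mem_normalizer_iff.1 (Subgroup.inv_mem _ hg.2) z).1 hz
      simpa using this
    have h2 := Subgroup.mem_centralizer_iff.1 hc.2 _ h1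
    calc z * (g * c * g⁻¹) = g * ((g⁻¹ * z * g) * c) * g⁻¹ := by group
      _ = g * (c * (g⁻¹ * z * g)) * g⁻¹ := by rw [h2]
      _ = g * c * g⁻¹ * z := by group
  set N₁ := N' ⊔ centralizerIn S Q with hN₁def
  have hN₁n : N₁ ≤ normalizerIn S Q := sup_le hN'n hCn
  have hN₁m : ∀ x ∈ N₁, ∃ n ∈ N', ∃ c ∈ centralizerIn S Q, n * c = x := fun x hx =>
    (H759.mem_sup_of_normalizes (hN'n.trans hCnn)).1 hx
  obtain ⟨κ₂, hκ₂, hκ₂e⟩ := hκ₁.ext hS hE hL.fn hL.fnT (hQN'.trans le_sup_left)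
    (le_sup_right : centralizerIn S Q ≤ N₁) hN₁n (by
      intro n₁ hn₁
      obtain ⟨n', hn', c, hc, rfl⟩ := hN₁m n₁ hn₁
      obtain ⟨n, hn, rfl⟩ := (hN' n').1 hn'
      obtain ⟨m, hm, hme⟩ := hV n hn
      refine ⟨ψ m, (le_sup_left : N' ≤ N₁) ((hN' _).2 ⟨m, hm, rfl⟩), fun y hy => ?_⟩
      obtain ⟨x, hx, rfl⟩ := (hL.im y).1 hy
      have h2 : ψ n * c * ψ x * (ψ n * c)⁻¹ = ψ n * ψ x * (ψ n)⁻¹ := by
        have h3 := Subgroup.mem_centralizer_iff.1 hc.2 (ψ x) hy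
        calc ψ n * c * ψ x * (ψ n * c)⁻¹ = ψ n * (c * ψ x) * c⁻¹ * (ψ n)⁻¹ := by group
          _ = ψ n * (ψ x * c) * c⁻¹ * (ψ n)⁻¹ := by rw [h3]
          _ = ψ n * ψ x * (ψ n)⁻¹ := by group
      have hx' : n * x * n⁻¹ ∈ P := (Subgroup.mem_normalizer_iff.1 (hN hn).2 x).1 hx
      rw [h2, ← mp_conj_eq hL.mp (hNd hn) (hPd hx), hκ₁e _ hx', hme x hx, hκ₁e x hx,
        mp_conj_eq hL.mp (hNd hm) (hPd (hκ.pp.1 x hx))])
  -- restrict to the image of the domain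
  obtain ⟨W, hW, hWS, -⟩ := hL.mp.exists_image (le_refl (normalizerIn S P ⊔ T))
  obtain ⟨ψi, hψi, hl, hr⟩ := hL.mp.exists_symm le_rfl hW
  have hTW : T ≤ W := fun y hy => by
    obtain ⟨x, hx, rfl⟩ := hL.exists_T hT hy
    exact (hW _).2 ⟨x, (le_sup_right : T ≤ normalizerIn S P ⊔ T) hx, rfl⟩
  have hκ₃ := hκ₂.inf hTW
  have hN'W : N' ≤ W := fun y hy => by
    obtain ⟨n, hn, rfl⟩ := (hN' y).1 hy
    exact (hW _).2 ⟨n, hNd hn, rfl⟩
  have he : N₁ ⊓ W = N' := by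
    refine le_antisymm ?_ (le_inf le_sup_left hN'W)
    rintro z ⟨hz, hzW⟩
    obtain ⟨w, hw, rfl⟩ := (hW z).1 hzW
    have hwn := hL.mem_normalizer hw (hN₁n hz).2
    obtain ⟨n', hn', c, hc, hnc⟩ := hN₁m _ hz
    obtain ⟨n, hn, rfl⟩ := (hN' n').1 hn'
    have hnw : n⁻¹ * w ∈ normalizerIn S P := mul_mem (Subgroup.inv_mem _ (hN hn)) hwn
    have hnwd : n⁻¹ * w ∈ normalizerIn S P ⊔ T := (le_sup_left : normalizerIn S P ≤ _) hnw
    have h1 : ψ (n⁻¹ * w) = c := by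
      rw [hL.mp.mul (Subgroup.inv_mem _ (hNd hn)) hw, hL.mp.inv (hNd hn), ← hnc]
      group
    have h2 : n⁻¹ * w ∈ centralizerIn S P := by
      refine ⟨hnw.1, Subgroup.mem_centralizer_iff.2 fun x hx => ?_⟩
      have hxd := hPd hx
      refine hL.mp.inj (mul_mem hxd hnwd) (mul_mem hnwd hxd) ?_
      rw [hL.mp.mul hxd hnwd, hL.mp.mul hnwd hxd, h1]
      exact Subgroup.mem_centralizer_iff.1 hc.2 _ ((hL.im _).2 ⟨x, hx, rfl⟩)
    have h3 : w = n * (n⁻¹ * w) := by group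
    exact (hN' _).2 ⟨w, by rw [h3]; exact mul_mem hn (hCN h2), rfl⟩
  rw [he] at hκ₃
  have hNim : ∀ y, y ∈ N ↔ ∃ x ∈ N', ψi x = y := by
    intro y
    constructor
    · intro hy
      exact ⟨ψ y, (hN' _).2 ⟨y, hy, rfl⟩, hl y (hNd hy)⟩
    · rintro ⟨z, hz, rfl⟩
      obtain ⟨n, hn, rfl⟩ := (hN' z).1 hz
      rw [hl n (hNd hn)]
      exact hn
  obtain ⟨κ₄, hκ₄, hκ₄e⟩ := hκ₃.transport hT hI hψi hN'W hNim
  refine ⟨κ₄, hκ₄, fun x hx => ?_⟩
  have h1 := hκ₄e (ψ x) (hQN' ((hL.im _).2 ⟨x, hx, rfl⟩))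
  rw [hl x (hPd hx), hκ₂e _ ((hL.im _).2 ⟨x, hx, rfl⟩), hκ₁e x hx,
    hl _ (hPd (hκ.pp.1 x hx))] at h1
  exact h1

/-- The isomorphism of automorphism groups. -/
theorem Lk.exists_equiv (h : Lk F T P Q ψ) : ∃ e : P ≃* Q, ∀ x : P, ((e x : Q) : Ω) = ψ x :=
  (iso_of_mp h.mp h.le_dom h.im).exists_equiv

theorem sylIn_az [Finite S] [Fact p.Prime] (hS : IsPGroup p S) (hE : E.IsNormalIn F p)
    (hL : Lk F T P Q ψ) (hc : H756.TC F T (P ⊓ T)) :
    H802.SylIn p (autInducedBy T P ⊓ Az p F E P) (Az p F E P) := by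
  have hF := hE.1.2.1
  have hT : F.StronglyClosed T := hE.1.2.2.2.1
  have hTS := hT.1
  have hI : StrongInvC E F :=
    (isInvariantIn_iff_strongInvC hS hF hE.1.2.2.1 hT).1 hE.1.2.2
  have hPd := hL.le_dom
  obtain ⟨e, he⟩ := hL.exists_equiv
  have hcQ : H756.TC F T (Q ⊓ T) := cen_image hT hL.mp hPd hL.im hc
  have h1 := sylIn_map (MulAut.congr e).symm (sylIn_az_nice hS hE hL.fn hL.fnT hcQ)
  obtain ⟨ψi, hψi, hl, hr⟩ := hL.mp.exists_symm hPd hL.im
  have hes : ∀ y : Q, ((e.symm y : P) : Ω) = ψi y := by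
    intro y
    obtain ⟨x, rfl⟩ := e.surjective y
    rw [e.symm_apply_apply, he, hl x x.2]
  have hPim : ∀ y, y ∈ P ↔ ∃ x ∈ Q, ψi x = y := fun y =>
    ⟨fun hy => ⟨ψ y, (hL.im _).2 ⟨y, hy, rfl⟩, hl y hy⟩, fun ⟨z, hz, e⟩ => e ▸ (hr z hz).1⟩
  have hsymm : ∀ β : MulAut Q, (MulAut.congr e).symm β = MulAut.congr e.symm β := fun β => rfl
  have hcongr : ∀ α : MulAut P, (MulAut.congr e).symm (MulAut.congr e α) = α := fun α =>
    MulEquiv.symm_apply_apply _ _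
  have hAz : (Az p F E Q).map (MulAut.congr e).symm.toMonoidHom = Az p F E P := by
    ext α
    constructor
    · rintro ⟨β, hβ, rfl⟩
      exact az_congr hT hI hψi le_rfl hPim hes hβ
    · intro hα
      exact ⟨MulAut.congr e α, az_congr hT hI hL.mp hPd hL.im he hα, hcongr α⟩
  have hcj : ∀ (α : MulAut P) (t : Ω), t ∈ normalizerIn S P ⊔ T → H757.Cj t α →
      H757.Cj (ψ t) (MulAut.congr e α) := by
    intro α t ht hα y
    obtain ⟨x, rfl⟩ := e.surjective y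
    have h3 : (MulAut.congr e α) (e x) = e (α x) := by simp [MulAut.congr]
    rw [h3, he, he, hα x, mp_conj_eq hL.mp ht (hPd x.2)]
  have hAT : (autInducedBy T Q).map (MulAut.congr e).symm.toMonoidHom = autInducedBy T P := by
    ext α
    constructor
    · rintro ⟨β, hβ, rfl⟩
      obtain ⟨y, hy, hyβ⟩ := H757.exists_cj_of_mem hβ
      obtain ⟨t, ht, rfl⟩ := hL.exists_T hT hy
      have htd : t ∈ normalizerIn S P ⊔ T := (le_sup_right : T ≤ normalizerIn S P ⊔ T) ht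
      have htn := hL.mem_normalizer htd hyβ.mem_normalizer
      obtain ⟨c, hc'⟩ := H757.exists_cj htn.2
      have h4 : MulAut.congr e c = β := (hcj c t htd hc').eq hyβ
      show (MulAut.congr e).symm β ∈ _
      rw [← h4, hcongr]
      exact hc'.mem ht
    · intro hα
      obtain ⟨t, ht, htα⟩ := H757.exists_cj_of_mem hα
      have htd : t ∈ normalizerIn S P ⊔ T := (le_sup_right : T ≤ normalizerIn S P ⊔ T) ht
      exact ⟨MulAut.congr e α, (hcj α t htd htα).mem ((hL.mem_T hT htd).2 ht), hcongr α⟩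
  rw [Subgroup.map_inf _ _ _ (MulAut.congr e).symm.injective, hAz, hAT] at h1
  exact h1

end Cfsg.Agent.H758
end

-- part: H758/PSat
section
/-!
# The product system is saturated (helper758)
-/

set_option autoImplicit false

namespace Cfsg.Agent.H758

open Cfsg Cfsg.FusionSystem Cfsg.Agent.H752 Cfsg.Agent.H750

variable {Ω : Type*} [Group Ω] {S T : Subgroup Ω} {p : ℕ} {F : FusionSystem S}
  {E : FusionSystem T} {D : FusionSystem S}

/-- The property of an automorphism to lie in the group generated by the generators and `Aut_S(P)`. -/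
theorem am_sup [Finite S] {P : Subgroup Ω} (hPS : P ≤ S) :
    AM p F E D P (fun f => ∃ γ ∈ Az p F E P ⊔ autInducedBy S P, ∀ x ∈ P, f x = fn γ x) where
  congr := by
    rintro f g he ⟨γ, hγ, h⟩
    exact ⟨γ, hγ, fun x hx => (he x hx).trans (h x hx)⟩
  comp := by
    rintro f g hf hg ⟨γ, hγ, h⟩ ⟨δ, hδ, h'⟩
    refine ⟨δ * γ, mul_mem hδ hγ, fun x hx => ?_⟩
    show g (f x) = _
    rw [h' _ (hf.mem hx), h x hx, fn_mul _ _ hx]
  inv := by
    rintro f g hf hg he ⟨γ, hγ, h⟩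
    refine ⟨γ⁻¹, Subgroup.inv_mem _ hγ, fun y hy => ?_⟩
    obtain ⟨x, hx, rfl⟩ := hf.surj hy
    rw [he x hx, h x hx, fn_inv_fn γ hx]
  gd := by
    intro κ hκ
    have hfP : Finite P := H802.finite_of_le hPS
    obtain ⟨γ, hγ, h⟩ := hκ.mp.exists_aut hκ.pp.1
    have h1 : ∀ x ∈ P, κ x = fn γ x := fun x hx => by rw [fn_apply γ hx, h x hx]
    exact ⟨γ, (le_sup_left : Az p F E P ≤ _) (Subgroup.subset_closure
      (hκ.congr fun x hx => (h1 x hx).symm)), h1⟩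
  conj := by
    intro s hs
    obtain ⟨c, hc⟩ := H757.exists_cj hs.2
    refine ⟨c, (le_sup_right : autInducedBy S P ≤ _) (hc.mem hs.1), fun x hx => ?_⟩
    show s * x * s⁻¹ = _
    rw [fn_apply c hx, hc ⟨x, hx⟩]

variable [Finite S] [Fact p.Prime] {P Q : Subgroup Ω} {ψ : Ω → Ω}

theorem aut_le_top (hD : ∀ P f, Mp D P f ↔ DP p F E P f) (hS : IsPGroup p S)
    (hE : E.IsNormalIn F p) (hDF : D.IsSubsystemOf F) (hPS : P ≤ S)
    (hcen : H756.TC F T (P ⊓ T)) (hbig : Big p D (Nat.card P)) (hlt : Nat.card P < Nat.card S)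
    (htop : ∀ Q, D.IsConj P Q → Arr D Q P) {α : MulAut P} (hα : α ∈ D.autGroup P) :
    ∃ c ∈ autInducedBy S P, ∃ a ∈ Az p F E P, c * a = α := by
  have hF := hE.1.2.1
  have hT : F.StronglyClosed T := hE.1.2.2.2.1
  have hI : StrongInvC E F :=
    (isInvariantIn_iff_strongInvC hS hF hE.1.2.2.1 hT).1 hE.1.2.2
  obtain ⟨f, hf, hfe⟩ := exists_iso_of_aut hPS hα
  obtain ⟨γ, hγ, h⟩ := aut_top hD hS hT hI hDF (am_sup hPS) hcen hbig hlt htop hf
  have h1 : γ = α := by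
    ext x
    rw [← hfe x, h x x.2, fn_apply γ x.2]
  rw [h1] at hγ
  have hfP : Finite P := H802.finite_of_le hPS
  have hfM := finite_mulAut P
  have h2 : autInducedBy S P ≤ Subgroup.normalizer (Az p F E P : Set (MulAut P)) := fun c hc =>
    H757.mem_normalizer_of_conj_mem fun k hk =>
      az_normal hT hI hPS (H802.autInducedBy_le_autGroup F hPS hc) hk
  rw [sup_comm] at hγ
  exact (H759.mem_sup_of_normalizes h2).1 hγ

theorem sylIn_top (hD : ∀ P f, Mp D P f ↔ DP p F E P f) (hS : IsPGroup p S)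
    (hE : E.IsNormalIn F p) (hDF : D.IsSubsystemOf F) (hL : Lk F T P Q ψ)
    (hcen : H756.TC F T (P ⊓ T)) (hbig : Big p D (Nat.card P)) (hlt : Nat.card P < Nat.card S)
    (htop : ∀ Q, D.IsConj P Q → Arr D Q P) :
    H802.SylIn p (autInducedBy S P) (D.autGroup P) := by
  have hPS := hL.le
  have hT : F.StronglyClosed T := hE.1.2.2.2.1
  have hfP : Finite P := H802.finite_of_le hPS
  have hfM := finite_mulAut P
  obtain ⟨X, hX, hsyl⟩ := H802.exists_sylIn (p := p) (B := autInducedBy S P)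
    (K := D.autGroup P) (H802.autInducedBy_le_autGroup D hPS) (H802.isPGroup_autInducedBy hS P)
  have h1 : X ⊓ Az p F E P = autInducedBy T P ⊓ Az p F E P := by
    refine (sylIn_az hS hE hL hcen).eq_of_le inf_le_right
      (hsyl.isPGroup.to_le inf_le_left) (inf_le_inf_right _ fun c hc => hX ?_)
    obtain ⟨g, hg, h⟩ := H757.exists_cj_of_mem hc
    exact h.mem (hT.1 hg)
  have h2 : X = autInducedBy S P := by
    refine le_antisymm (fun σ hσ => ?_) hX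
    obtain ⟨c, hc, a, ha, rfl⟩ := aut_le_top hD hS hE hDF hPS hcen hbig hlt htop (hsyl.le hσ)
    have h3 : a ∈ X := by
      have h4 : a = c⁻¹ * (c * a) := by group
      rw [h4]
      exact mul_mem (Subgroup.inv_mem _ (hX hc)) hσ
    have h5 : a ∈ autInducedBy T P ⊓ Az p F E P := by rw [← h1]; exact ⟨h3, ha⟩
    obtain ⟨g, hg, h⟩ := H757.exists_cj_of_mem h5.1
    exact mul_mem hc (h.mem (hT.1 hg))
  rwa [h2] at hsyl

/-! ### Extensions -/

/-- `α` extends to a subgroup containing all elements of `N_S(P)` which induce elements of `B`. -/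
def Me (D : FusionSystem S) (P : Subgroup Ω) (B : Subgroup (MulAut P)) (α : MulAut P) : Prop :=
  ∃ (N : Subgroup Ω) (f : Ω → Ω), Mp D N f ∧ P ≤ N ∧ N ≤ normalizerIn S P ∧
    (∀ g ∈ normalizerIn S P, ∀ c ∈ B, H757.Cj g c → g ∈ N) ∧ ∀ x ∈ P, f x = fn α x

omit [Finite S] in
theorem cj_image {N : Subgroup Ω} {f : Ω → Ω} (hf : Mp D N f) (hPN : P ≤ N) {a : MulAut P}
    (hfa : ∀ x ∈ P, f x = fn a x) {g : Ω} (hg : g ∈ N) {c : MulAut P} (hc : H757.Cj g c) :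
    H757.Cj (f g) (a * c * a⁻¹) := by
  intro y
  obtain ⟨x, rfl⟩ := a.surjective y
  have h1 : (a * c * a⁻¹) (a x) = a (c x) := by simp [MulAut.mul_apply]
  have h2 : ∀ x : P, ((a x : P) : Ω) = f x := fun x => by rw [hfa x x.2, fn_apply a x.2]
  rw [h1, h2, h2, hc x, mp_conj_eq hf hg (hPN x.2)]

theorem me_all (hD : ∀ P f, Mp D P f ↔ DP p F E P f) (hS : IsPGroup p S)
    (hE : E.IsNormalIn F p) (hL : Lk F T P Q ψ) (hcen : H756.TC F T (P ⊓ T))
    (hsyl : H802.SylIn p (autInducedBy S P) (D.autGroup P)) :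
    ∀ (B : Subgroup (MulAut P)) (a : MulAut P), B ≤ autInducedBy S P → a ∈ D.autGroup P →
      cj a B ≤ autInducedBy S P → Me D P B a := by
  have hPS := hL.le
  have hF := hE.1.2.1
  have hT : F.StronglyClosed T := hE.1.2.2.2.1
  have hI : StrongInvC E F :=
    (isInvariantIn_iff_strongInvC hS hF hE.1.2.2.1 hT).1 hE.1.2.2
  have hfP : Finite P := H802.finite_of_le hPS
  have hfM := finite_mulAut P
  have hPN := H802.le_normalizerIn hPS
  -- images of elements of the domain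
  have himg : ∀ (N : Subgroup Ω) (f : Ω → Ω) (a : MulAut P), Mp D N f → P ≤ N →
      N ≤ normalizerIn S P → (∀ x ∈ P, f x = fn a x) → ∀ x ∈ N, f x ∈ normalizerIn S P := by
    intro N f a hf hPN hN hfa x hx
    obtain ⟨c, hc⟩ := H757.exists_cj (hN hx).2
    exact ⟨hf.mem hx, (cj_image hf hPN hfa hx hc).mem_normalizer⟩
  refine alperin_ext hsyl (Me D P) ?_ ?_ ?_ ?_ ?_
  · -- elements induced by `S`
    intro B _ r hr
    obtain ⟨s, hs, hsr⟩ := H757.exists_cj_of_mem hr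
    refine ⟨normalizerIn S P, fun x => s * x * s⁻¹, mp_conj D inf_le_left hs, hPN, le_rfl,
      fun g hg _ _ _ => hg, fun x hx => ?_⟩
    rw [fn_apply r hx, hsr ⟨x, hx⟩]
  · -- `p'`-elements
    intro B hB c hc hcc hcB
    have h1 : DP p F E P (fn c) := (hD _ _).1 ((mp_iff_autGroup hPS c).1 hc)
    have h2 := gd_of_pp hS hT hI h1 (pp_of_aut (fun x hx => fn_apply c hx) hcc) hcen
    obtain ⟨κ, hκ, hκe⟩ := h2.ext_linked hS hE hL (le_nb hPS) centralizer_le_nb nb_le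
      (nb_hyp hPS hB fun b hb => by
        rw [← hcB]
        exact ⟨b, hb, rfl⟩)
    exact ⟨Nb S P B, κ, (hD _ _).2 (NN.of_gd hκ).dp, le_nb hPS, nb_le, fun g hg d hd hgd =>
      ⟨hg, d, (le_sup_left : B ≤ _) hd, hgd⟩, hκe⟩
  · -- composition
    rintro B a b hB ha hb haB hbaB ⟨N, f, hf, hPN, hN, hNB, hfa⟩ ⟨N', f', hf', hPN', hN', hNB', hfb⟩
    let N'' : Subgroup Ω :=
      { carrier := {x | x ∈ N ∧ f x ∈ N'}
        one_mem' := ⟨one_mem _, by rw [hf.one]; exact one_mem _⟩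
        mul_mem' := by
          rintro x y ⟨hx, hx'⟩ ⟨hy, hy'⟩
          exact ⟨mul_mem hx hy, by rw [hf.mul hx hy]; exact mul_mem hx' hy'⟩
        inv_mem' := by
          rintro x ⟨hx, hx'⟩
          exact ⟨Subgroup.inv_mem _ hx, by rw [hf.inv hx]; exact Subgroup.inv_mem _ hx'⟩ }
    have hle : N'' ≤ N := fun x hx => hx.1
    refine ⟨N'', fun x => f' (f x), (hf.res hle).comp hf' fun x hx => hx.2, fun x hx =>
      ⟨hPN hx, hPN' ?_⟩, hle.trans hN, fun g hg c hc hgc => ?_, fun x hx => ?_⟩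
    · rw [hfa x hx]
      exact fn_mem a hx
    · have hgN := hNB g hg c hc hgc
      exact ⟨hgN, hNB' _ (himg N f a hf hPN hN hfa g hgN) _ ⟨c, hc, rfl⟩
        (cj_image hf hPN hfa hgN hgc)⟩
    · show f' (f x) = _
      rw [hfa x hx, hfb _ (fn_mem a hx), fn_mul _ _ hx]
  · -- restriction
    rintro B C a hBC - - - ⟨N, f, hf, hPN, hN, hNC, hfa⟩
    exact ⟨N, f, hf, hPN, hN, fun g hg c hc hgc => hNC g hg c (hBC hc) hgc, hfa⟩
  · -- inverse
    rintro B a hB ha haB ⟨N, f, hf, hPN, hN, hNB, hfa⟩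
    obtain ⟨N', hN', -, -⟩ := hf.exists_image le_rfl
    obtain ⟨g, hg, hl, hr⟩ := hf.exists_symm le_rfl hN'
    have hCN : centralizerIn S P ≤ N := fun z hz => hNB z
      (H802.centralizerIn_le_normalizerIn S P hz) 1 (one_mem _) fun x => by
        have h1 := Subgroup.mem_centralizer_iff.1 hz.2 x x.2
        rw [← h1]
        simp
    have hPmem : ∀ x ∈ P, f x ∈ P := fun x hx => by rw [hfa x hx]; exact fn_mem a hx
    have hCmem : ∀ z ∈ centralizerIn S P, f z ∈ centralizerIn S P := by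
      intro z hz
      refine ⟨hf.mem (hCN hz), Subgroup.mem_centralizer_iff.2 fun y hy => ?_⟩
      obtain ⟨x, hx, rfl⟩ := (hf.res hPN).surj hPmem hy
      rw [← hf.mul (hPN hx) (hCN hz), ← hf.mul (hCN hz) (hPN hx),
        Subgroup.mem_centralizer_iff.1 hz.2 x hx]
    have hCN' : centralizerIn S P ≤ N' := fun y hy => by
      have hfC : Finite (centralizerIn S P) := H802.finite_of_le inf_le_left
      obtain ⟨z, hz, rfl⟩ := (hf.res hCN).surj hCmem hy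
      exact (hN' _).2 ⟨z, hCN hz, rfl⟩
    have hPN' : P ≤ N' := fun y hy => by
      obtain ⟨x, hx, rfl⟩ := (hf.res hPN).surj hPmem hy
      exact (hN' _).2 ⟨x, hPN hx, rfl⟩
    refine ⟨N', g, hg, hPN', fun y hy => ?_, ?_, fun y hy => ?_⟩
    · obtain ⟨x, hx, rfl⟩ := (hN' y).1 hy
      exact himg N f a hf hPN hN hfa x hx
    · rintro h hh _ ⟨c, hc, rfl⟩ hhc
      obtain ⟨n, hn, hnc⟩ := H757.exists_cj_of_mem (hB hc)
      have hnn : n ∈ normalizerIn S P := ⟨hn, hnc.mem_normalizer⟩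
      have hnN := hNB n hnn c hc hnc
      have h1 : H757.Cj (f n) (a * c * a⁻¹) := cj_image hf hPN hfa hnN hnc
      have h2 : h⁻¹ * f n ∈ centralizerIn S P := by
        refine ⟨mul_mem (Subgroup.inv_mem _ hh.1) (hf.mem hnN),
          Subgroup.mem_centralizer_iff.2 fun y hy => ?_⟩
        have h3 := h1 ⟨y, hy⟩
        have h4 : (((a * c * a⁻¹) ⟨y, hy⟩ : P) : Ω) = h * y * h⁻¹ := hhc ⟨y, hy⟩
        rw [h4] at h3
        have h5 : h * y * h⁻¹ = f n * y * (f n)⁻¹ := h3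
        calc y * (h⁻¹ * f n) = h⁻¹ * (h * y * h⁻¹) * f n := by group
          _ = h⁻¹ * (f n * y * (f n)⁻¹) * f n := by rw [h5]
          _ = h⁻¹ * f n * y := by group
      have h3 : h = f n * (h⁻¹ * f n)⁻¹ := by group
      rw [h3]
      exact mul_mem ((hN' _).2 ⟨n, hnN, rfl⟩) (Subgroup.inv_mem _ (hCN' h2))
    · obtain ⟨x, hx, rfl⟩ := (hf.res hPN).surj hPmem hy
      rw [hl x (hPN hx), hfa x hx, fn_inv_fn a hx]

theorem receptive_top (hD : ∀ P f, Mp D P f ↔ DP p F E P f) (hS : IsPGroup p S)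
    (hE : E.IsNormalIn F p) (hL : Lk F T P Q ψ) (hcen : H756.TC F T (P ⊓ T))
    (hsyl : H802.SylIn p (autInducedBy S P) (D.autGroup P))
    (htop : ∀ Q, D.IsConj P Q → Arr D Q P) : D.IsReceptive P := by
  have hPS := hL.le
  refine isReceptive_of_iso hPS fun Q' φ hφ N hQN hN => ?_
  have hQ'S := hφ.le_left
  have hNn : N ≤ normalizerIn S Q' := fun g hg => ⟨(hN g hg).1, (hN g hg).2.1⟩
  have hQ'n := H802.le_normalizerIn hQ'S
  obtain ⟨ω, W, hω, hωQ⟩ := htop Q' (H802.isConj_symm hφ.isConj)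
  obtain ⟨ωi, hωi, hωiω, hωωi⟩ := hωQ.exists_inv
  obtain ⟨a, ha, hae⟩ := (hωi.trans hφ).exists_aut
  have haf : ∀ x ∈ P, fn a x = φ (ωi x) := fun x hx => by rw [fn_apply a hx, hae ⟨x, hx⟩]; rfl
  obtain ⟨V, hV, -⟩ := hω.restrict hNn
  have hVS := hV.le_right
  have hcj : cj a (autInducedBy V P) ≤ autInducedBy S P := by
    rintro _ ⟨c, hc, rfl⟩
    obtain ⟨v, hv, hvc⟩ := H757.exists_cj_of_mem hc
    obtain ⟨g, hg, rfl⟩ := hV.surj hv
    obtain ⟨-, hgn, h, hh, hhe⟩ := hN g hg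
    refine H757.Cj.mem (g := h) (fun y => ?_) hh
    obtain ⟨x, rfl⟩ := a.surjective y
    show (((a * c * a⁻¹) (a x) : P) : Ω) = _
    have h1 : (a * c * a⁻¹) (a x) = a (c x) := by simp [MulAut.mul_apply]
    obtain ⟨z, hz, hzx⟩ := hωQ.surj x.2
    have h2 : ((c x : P) : Ω) = ω (g * z * g⁻¹) := by
      rw [hvc x, ← hzx, hω.map_conj (hNn hg) (hQ'n hz)]
    have hz' : g * z * g⁻¹ ∈ Q' := (Subgroup.mem_normalizer_iff.1 hgn z).1 hz
    have h3 : ((a (c x) : P) : Ω) = φ (g * z * g⁻¹) := by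
      rw [hae (c x)]
      show φ (ωi ((c x : P) : Ω)) = _
      rw [h2, hωiω _ hz']
    have h4 : ((a x : P) : Ω) = φ z := by
      rw [hae x]
      show φ (ωi (x : Ω)) = _
      rw [← hzx, hωiω z hz]
    rw [h1, h3, h4, hhe z hz]
  have hBS : autInducedBy V P ≤ autInducedBy S P := fun c hc => by
    obtain ⟨v, hv, hvc⟩ := H757.exists_cj_of_mem hc
    exact hvc.mem (hVS hv)
  obtain ⟨N₁, f₁, hf₁, hPN₁, -, hNB, hf₁e⟩ := me_all hD hS hE hL hcen hsyl _ a hBS ha hcj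
  have hVN₁ : V ≤ N₁ := by
    intro v hv
    obtain ⟨g, hg, rfl⟩ := hV.surj hv
    have h1 : ω g ∈ normalizerIn S P :=
      hω.le_normalizerIn hωQ hQ'n inf_le_right (hω.mem (hNn hg))
    obtain ⟨c, hc⟩ := H757.exists_cj h1.2
    exact hNB _ h1 c (hc.mem hv) hc
  obtain ⟨N₁', hN₁', -, -⟩ := hf₁.exists_image hVN₁
  refine ⟨N₁', f₁ ∘ ω, hV.trans (iso_of_mp hf₁ hVN₁ hN₁'), fun x hx => ?_⟩
  show f₁ (ω x) = φ x
  rw [hf₁e _ (hωQ.mem hx), haf _ (hωQ.mem hx), hωiω x hx]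

end Cfsg.Agent.H758
end

-- part: H758/PClass
section
/-!
# The product system is saturated: conjugacy classes (helper758)
-/

set_option autoImplicit false

namespace Cfsg.Agent.H758

open Cfsg Cfsg.FusionSystem Cfsg.Agent.H752 Cfsg.Agent.H750

variable {Ω : Type*} [Group Ω] {S T : Subgroup Ω} {p : ℕ} {F : FusionSystem S}
  {E : FusionSystem T} {D : FusionSystem S}

theorem tc_of_iso [Finite S] (hT : F.StronglyClosed T) (hDF : D.IsSubsystemOf F) {P Q : Subgroup Ω}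
    {f : Ω → Ω} (hf : Iso D P Q f) (h : H756.TC F T (P ⊓ T)) : H756.TC F T (Q ⊓ T) :=
  cen_image hT (mp_mono hDF (mp_of_iso hf)) le_rfl (fun _ => hf.mem_iff) h

theorem tc_of_isConj [Finite S] (hT : F.StronglyClosed T) (hDF : D.IsSubsystemOf F)
    {P Q : Subgroup Ω} (hc : D.IsConj P Q) (h : H756.TC F T (P ⊓ T)) : H756.TC F T (Q ⊓ T) := by
  obtain ⟨f, hf⟩ := exists_iso_of_isConj hc
  exact tc_of_iso hT hDF hf h

theorem isSubsystemOf_self (F : FusionSystem S) : F.IsSubsystemOf F := fun _ _ h => h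

variable [Finite S] [Fact p.Prime]

/-- **A conjugacy class of `D` of subgroups `P` with `P ∩ T` centric.** -/
theorem class_sat (hD : ∀ P f, Mp D P f ↔ DP p F E P f) (hS : IsPGroup p S)
    (hE : E.IsNormalIn F p) (hDF : D.IsSubsystemOf F) {P : Subgroup Ω} (hPS : P ≤ S)
    (hcen : H756.TC F T (P ⊓ T)) (hbig : Big p D (Nat.card P)) :
    ∃ Q, D.IsConj P Q ∧ D.IsFullyAutomized p Q ∧ D.IsReceptive Q := by
  have hF := hE.1.2.1
  have hT : F.StronglyClosed T := hE.1.2.2.2.1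
  have hTS := hT.1
  have hfP : Finite P := H802.finite_of_le hPS
  have hfM := finite_mulAut P
  rcases eq_or_lt_of_le (card_le_of_le (le_refl S) hPS) with he | hlt
  · have h1 : P = S := eq_of_le_of_card le_rfl hPS he.ge
    subst h1
    refine ⟨P, H802.isConj_refl D le_rfl, isFullyAutomized_of_sylIn le_rfl ?_, ?_⟩
    · obtain ⟨Q, hc, ha, -⟩ := hF P le_rfl
      have h2 : Q = P := eq_of_le_of_card le_rfl ha.1 (H802.isConj_card_eq hc).le
      rw [h2] at ha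
      exact (sylIn_of_isFullyAutomized ha).mono (H802.autInducedBy_le_autGroup D le_rfl)
        (H757.autGroup_le_of_isSubsystemOf hDF le_rfl le_rfl)
    · refine isReceptive_of_iso le_rfl fun Q' φ hφ N hQN hN => ?_
      have h2 : Q' = P := eq_of_le_of_card le_rfl hφ.le_left hφ.card_eq.ge
      have h3 : N = Q' := le_antisymm (fun g hg => by rw [h2]; exact (hN g hg).1) hQN
      rw [h3]
      exact ⟨P, φ, hφ, fun _ _ => rfl⟩
  -- the top of the class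
  obtain ⟨P₀, hP₀, htop⟩ := exists_top' hD hS hPS hlt hbig
  have hP₀S := H802.isConj_le_right hP₀
  obtain ⟨Q, hPQ, hQn, hQnT⟩ := exists_nice hS hF hT hP₀S
  obtain ⟨χ, hχ, hχQ, hχN⟩ := exists_mp_normalizer hS hF hPQ hQn
  obtain ⟨ν, hν, ψ, hψ, hχe⟩ := fact hS hF hE.1.2.2 (normalizerIn S P₀) χ hχ
  have hνD : Mp D (normalizerIn S P₀) ν := (hD _ _).2 hν.dp
  have hPN := H802.le_normalizerIn hP₀S
  obtain ⟨P₁, hP₁, hP₁S, -⟩ := hνD.exists_image hPN
  obtain ⟨N₁, hN₁, hN₁S, -⟩ := hνD.exists_image (le_refl (normalizerIn S P₀))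
  have hi : Iso D P₀ P₁ ν := iso_of_mp hνD hPN hP₁
  have hiN : Iso D (normalizerIn S P₀) N₁ ν := iso_of_mp hνD le_rfl hN₁
  have hN₁n : N₁ ≤ normalizerIn S P₁ := hiN.le_normalizerIn hi hPN inf_le_right
  have harr : Arr D P₀ P₁ := ⟨ν, N₁, hiN, hi⟩
  have harr' : Arr D P₁ P₀ := htop P₁ (H802.isConj_trans hP₀ hi.isConj)
  have hNe : normalizerIn S P₁ = N₁ := by
    refine (eq_of_le_of_card inf_le_left hN₁n ?_).symm
    rw [← hiN.card_eq]
    exact harr'.card_le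
  have hle : normalizerIn S P₁ ≤ normalizerIn S P₀ ⊔ T := fun y hy => by
    rw [hNe] at hy
    obtain ⟨x, hx, rfl⟩ := (hN₁ y).1 hy
    exact hν.mem_sup hx
  have hL : Lk F T P₁ Q ψ :=
    { mp := hψ.res (sup_le hle le_sup_right)
      le := hP₁S
      im := fun y => by
        rw [hχQ]
        constructor
        · rintro ⟨x, hx, rfl⟩
          exact ⟨ν x, hi.mem hx, (hχe x (hPN hx)).symm⟩
        · rintro ⟨z, hz, rfl⟩
          obtain ⟨x, hx, rfl⟩ := hi.surj hz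
          exact ⟨x, hx, hχe x (hPN hx)⟩
      fn := hQn
      fnT := hQnT }
  have hPP : D.IsConj P P₁ := H802.isConj_trans hP₀ hi.isConj
  have hc := H802.isConj_card_eq hPP
  have hcen₁ : H756.TC F T (P₁ ⊓ T) := tc_of_isConj hT hDF hPP hcen
  rw [hc] at hbig hlt
  have htop₁ : ∀ Q, D.IsConj P₁ Q → Arr D Q P₁ := fun Q hQ =>
    (htop Q (H802.isConj_trans hPP hQ)).trans harr
  have hsyl := sylIn_top hD hS hE hDF hL hcen₁ hbig hlt htop₁
  exact ⟨P₁, hPP, isFullyAutomized_of_sylIn hP₁S hsyl,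
    receptive_top hD hS hE hL hcen₁ hsyl htop₁⟩

/-- An element outside `Q` inducing an element of `O_p(Aut_D(Q))`. -/
theorem exists_core_elt (hD : ∀ P f, Mp D P f ↔ DP p F E P f) (hS : IsPGroup p S)
    (hE : E.IsInvariantIn F) (hF : F.IsSaturated p) (hDF : D.IsSubsystemOf F)
    {P : Subgroup Ω} (hPS : P ≤ S) (hcen : ¬ H756.TC F T (P ⊓ T)) :
    ∃ Q, D.IsConj P Q ∧ ∃ g ∈ XL S (coreFam p D) Q, g ∉ Q := by
  have hT : F.StronglyClosed T := hE.2.1
  have hTS := hT.1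
  obtain ⟨Q₀, hPQ, hQn, hQnT⟩ := exists_nice hS hF hT hPS
  obtain ⟨f, hf⟩ := exists_iso_of_isConj hPQ
  obtain ⟨ν, hν, ψ, hψ, hfe⟩ := fact hS hF hE P f (mp_of_iso hf)
  have hνD : Mp D P ν := (hD _ _).2 hν.dp
  obtain ⟨Q, hQ, hQS, -⟩ := hνD.exists_image le_rfl
  have hi : Iso D P Q ν := iso_of_mp hνD le_rfl hQ
  have hQPT : Q ≤ P ⊔ T := fun y hy => by
    obtain ⟨x, hx, rfl⟩ := hi.surj hy
    exact hν.mem_sup hx
  have hψQ : ∀ y, y ∈ Q₀ ↔ ∃ x ∈ Q, ψ x = y := by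
    intro y
    rw [hf.mem_iff]
    constructor
    · rintro ⟨x, hx, rfl⟩
      exact ⟨ν x, hi.mem hx, (hfe x hx).symm⟩
    · rintro ⟨z, hz, rfl⟩
      obtain ⟨x, hx, rfl⟩ := hi.surj hz
      exact ⟨x, hx, hfe x hx⟩
  have hTd : T ≤ P ⊔ T := le_sup_right
  -- `C_T(Q₀ ∩ T)` is not contained in `Q₀`
  have h1 : ¬ centralizerIn T (Q₀ ⊓ T) ≤ Q₀ ⊓ T := by
    intro hC
    have h2 := tc_of_fn hS hF hT inf_le_right hQnT hC
    exact hcen (tc_of_isConj hT (isSubsystemOf_self F) (H802.isConj_symm hPQ) h2)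
  have h2 : ¬ centralizerIn T (Q ⊓ T) ≤ Q := by
    intro hC
    refine h1 fun y hy => ⟨?_, hy.1⟩
    have hfT : Finite T := H802.finite_of_le hTS
    obtain ⟨t, ht, rfl⟩ := (hψ.res hTd).surj (fun x hx =>
      mp_mem_of_stronglyClosed hT hψ (hTd hx) hx) hy.1
    refine (hψQ _).2 ⟨t, hC ⟨ht, Subgroup.mem_centralizer_iff.2 fun x hx => ?_⟩, rfl⟩
    have hxd := hQPT hx.1
    refine hψ.inj (mul_mem hxd (hTd ht)) (mul_mem (hTd ht) hxd) ?_
    rw [hψ.mul hxd (hTd ht), hψ.mul (hTd ht) hxd]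
    exact Subgroup.mem_centralizer_iff.1 hy.2 _ ⟨(hψQ _).2 ⟨x, hx.1, rfl⟩,
      mp_mem_of_stronglyClosed hT hψ hxd hx.2⟩
  -- an element normalizing `Q`
  have hTD : D.StronglyClosed T := ⟨hTS, fun P hP φ hφ x => hT.2 P hP φ (hDF P hφ) x⟩
  have hfR : Finite ↥(Q ⊔ centralizerIn T (Q ⊓ T)) :=
    H802.finite_of_le (sup_le hQS (inf_le_left.trans hTS))
  obtain ⟨u, hu, huQ, hun⟩ := H757.exists_normalizes_of_not_le (R := Q ⊔ centralizerIn T (Q ⊓ T))
    (U := centralizerIn T (Q ⊓ T)) (V := Q)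
    (isPGroup_mono hS (sup_le hQS (inf_le_left.trans hTS))) le_sup_right le_sup_left (by
      have h1 : Q ⊔ centralizerIn T (Q ⊓ T) ≤
          Subgroup.normalizer (centralizerIn T (Q ⊓ T) : Set Ω) := by
        have hfC : Finite ↥(centralizerIn T (Q ⊓ T)) :=
          H802.finite_of_le (inf_le_left.trans hTS)
        refine sup_le (fun x hx => H757.mem_normalizer_of_conj_mem fun v hv => ⟨?_, ?_⟩)
          Subgroup.le_normalizer
        · exact H759.StronglyClosed.conj_mem hT (hQS hx) hv.1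
        · refine Subgroup.mem_centralizer_iff.2 fun z hz => ?_
          have hz' : x⁻¹ * z * x ∈ Q ⊓ T := by
            refine ⟨mul_mem (mul_mem (Subgroup.inv_mem _ hx) hz.1) hx, ?_⟩
            have h2 := H759.StronglyClosed.conj_mem hT (Subgroup.inv_mem _ (hQS hx)) hz.2
            simpa using h2
          have h3 := Subgroup.mem_centralizer_iff.1 hv.2 _ hz'
          calc z * (x * v * x⁻¹) = x * ((x⁻¹ * z * x) * v) * x⁻¹ := by group
            _ = x * (v * (x⁻¹ * z * x)) * x⁻¹ := by rw [h3]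
            _ = x * v * x⁻¹ * z := by group
      intro r hr u hu
      exact (Subgroup.mem_normalizer_iff.1 (h1 hr) u).1 hu) h2
  obtain ⟨c, hc⟩ := H757.exists_cj hun
  have hcD : c ∈ D.autGroup Q := hc.mem_autGroup hQS (hTS hu.1)
  have hcT : c ∈ trG D T Q := by
    refine ⟨hcD, fun x hx => Subtype.ext ?_, fun x => ?_⟩
    · rw [hc x]
      have h3 := Subgroup.mem_centralizer_iff.1 hu.2 _ (⟨x.2, hx⟩ : (x : Ω) ∈ Q ⊓ T)
      rw [← h3]
      group
    · rw [hc x]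
      have h5 : (x : Ω)⁻¹ * (u * x * u⁻¹) = ((x : Ω)⁻¹ * u * (x : Ω)⁻¹⁻¹) * u⁻¹ := by group
      rw [h5]
      exact mul_mem (H759.StronglyClosed.conj_mem hT (Subgroup.inv_mem _ (hQS x.2)) hu.1)
        (Subgroup.inv_mem _ hu.1)
  have hle : trG D T Q ≤ D.autGroup Q := fun γ hγ => hγ.1
  have hnorm : ((trG D T Q).subgroupOf (D.autGroup Q)).Normal := by
    refine ⟨fun n hn g => ?_⟩
    rw [Subgroup.mem_subgroupOf] at hn ⊢
    exact trG_normal hTD hQS g.2 hn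
  have hpg : IsPGroup p ((trG D T Q).subgroupOf (D.autGroup Q)) :=
    (trG_isPGroup hS hQS).comap_of_injective _ (Subgroup.subtype_injective _)
  have hcore : c ∈ coreFam p D Q := by
    have h3 := Lib.Cores.le_pCore hnorm hpg (x := ⟨c, hcD⟩) (by
      rw [Subgroup.mem_subgroupOf]
      exact hcT)
    exact ⟨⟨c, hcD⟩, h3, rfl⟩
  exact ⟨Q, hi.isConj, u, ⟨⟨hTS hu.1, hun⟩, c, hcore, fun x => hc x⟩, huQ⟩

/-- **The product system is saturated.** -/
theorem sat_prod (hD : ∀ P f, Mp D P f ↔ DP p F E P f) (hS : IsPGroup p S)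
    (hE : E.IsNormalIn F p) (hDF : D.IsSubsystemOf F) : D.IsSaturated p := by
  have hF := hE.1.2.1
  have hT : F.StronglyClosed T := hE.1.2.2.2.1
  have hTS := hT.1
  let ℋ : Set (Subgroup Ω) := {P | P ≤ S ∧ H756.TC F T (P ⊓ T)}
  have hfT : Finite T := H802.finite_of_le hTS
  have hTT : H756.TC F T T := ⟨le_rfl, fun f hf z hz _ => hf.surj (fun x hx =>
    mp_mem_of_stronglyClosed hT hf hx hx) hz⟩
  have hgen : ∀ E' : FusionSystem S, (∀ X ∈ ℋ, D.Hom X ⊆ E'.Hom X) → D ≤ E' := by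
    intro E' h P φ hφ
    have hnn : ∀ (P : Subgroup Ω) (ν : Ω → Ω), NN p F E P ν → Mp E' P ν := by
      intro P ν hν
      induction hν with
      | id g hP hg => exact (mp_id E' hP).congr hg
      | step Q f κ g _ hκ hm hg ih =>
        have h1 : Mp D Q κ := (hD _ _).2 (NN.of_gd hκ).dp
        obtain ⟨κ', hκ', he⟩ := h1
        have h2 : Mp E' Q κ := ⟨κ', h Q ⟨hκ.mp.le, hκ.cen⟩ hκ', he⟩
        exact (ih.comp h2 hm).congr hg
    obtain ⟨s, hs, ν, hν, hφe⟩ := (hD _ _).1 (mp_ex hφ)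
    have h1 := ((hnn P ν hν).comp (mp_conj E' (le_refl S) hs) fun x hx =>
      (hnn P ν hν).mem hx).congr hφe
    exact h1.mem_hom fun x hx => (ex_apply _ hx).symm
  have key : ∀ (m : ℕ) (P : Subgroup Ω), P ≤ S → Nat.card S - Nat.card P ≤ m →
      ∃ Q, D.IsConj P Q ∧ D.IsFullyAutomized p Q ∧ D.IsReceptive Q := by
    intro m
    induction m with
    | zero =>
      intro P hP hm
      refine class_sat hD hS hE hDF hP ?_ fun R hR hc => ?_
      · have h1 : P = S := eq_of_le_of_card le_rfl hP (by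
          have := card_le_of_le le_rfl hP
          omega)
        rw [h1, inf_eq_right.2 hTS]
        exact hTT
      · exfalso
        have h1 := card_le_of_le (S := S) le_rfl hR
        omega
    | succ m ih =>
      intro P hP hm
      have hbig : Big p D (Nat.card P) := by
        intro R hR hc
        have h1 := card_le_of_le (S := S) le_rfl hR
        exact ih R hR (by omega)
      by_cases hPH : H756.TC F T (P ⊓ T)
      · exact class_sat hD hS hE hDF hP hPH hbig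
      by_cases hPS : Nat.card P = Nat.card S
      · exact ih P hP (by omega)
      have hlt : Nat.card P < Nat.card S := lt_of_le_of_ne (card_le_of_le le_rfl hP) hPS
      have hgen' : ∀ (Q Q' : Subgroup Ω) (f : Ω → Ω), D.IsConj P Q → Iso D Q Q' f →
          Gen D Q Q' f :=
        fun Q Q' f hQ hf => gen_of_generated hlt ℋ
          (fun Q hQ h => hPH (tc_of_isConj hT hDF (H802.isConj_symm hQ) h.2)) hgen hQ hf
      by_cases hcen : D.IsCentric P
      · obtain ⟨Q, hQ, g, hg, hgQ⟩ := exists_core_elt hD hS hE.1.2.2 hF hDF hP hPH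
        exact sat_step hS (natFam_core hS D) hP hbig (good_core hS hcen) hgen' hQ hg hgQ
      · have : ∃ Q, D.IsConj P Q ∧ ¬ (centralizerIn S Q ≤ Q) := by
          by_contra hno
          push Not at hno
          exact hcen ⟨hP, hno⟩
        obtain ⟨Q, hQ, hQn⟩ := this
        obtain ⟨g, hg, hgQ⟩ := SetLike.not_le_iff_exists.1 hQn
        refine sat_step hS (natFam_inn D) hP hbig (good_inn P) hgen' hQ (g := g)
          ⟨H802.centralizerIn_le_normalizerIn S Q hg, 1, one_mem _, fun x => ?_⟩ hgQ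
        have h1 := (Subgroup.mem_centralizer_iff.1 hg.2) x x.2
        rw [MulAut.one_apply, ← h1]
        group
  intro P hP
  exact key _ P hP le_rfl

end Cfsg.Agent.H758
end

-- part: H758/ProdOf
section
/-!
# The product hypothesis from S5143 (helper758)
-/

set_option autoImplicit false

namespace Cfsg.Agent.H758

open Cfsg Cfsg.FusionSystem Cfsg.Agent.H752

variable {Ω : Type*} [Group Ω] {S T : Subgroup Ω} {p : ℕ}

theorem mem_hyperfocal_of_pp {E : FusionSystem T} {P : Subgroup Ω} [Finite P] {f : Ω → Ω}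
    (hf : Mp E P f) (hpp : PP p P f) {x : Ω} (hx : x ∈ P) : x⁻¹ * f x ∈ E.hyperfocalSubgroup p := by
  obtain ⟨α, hα, hαf⟩ := hf.exists_aut hpp.1
  rw [hαf x hx]
  exact H747.hyperfocal_mem_of_coprime hf.le hα (hpp.orderOf_coprime hαf) ⟨x, hx⟩

theorem hyperfocal_le_of_pp {E : FusionSystem T} {H : Subgroup Ω}
    (h : ∀ (P : Subgroup Ω) (f : Ω → Ω), Mp E P f → PP p P f → ∀ x ∈ P, x⁻¹ * f x ∈ H) :
    E.hyperfocalSubgroup p ≤ H := by
  refine H747.hyperfocal_le fun P hP α hα hc x => ?_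
  have hval : ∀ (x : Ω) (hx : x ∈ P), ex (fun x => ((α x : P) : Ω)) x = (α ⟨x, hx⟩ : P) :=
    fun x hx => ex_apply _ hx
  have h4 := h P _ ((mp_iff_autGroup hP α).1 hα) (pp_of_aut hval hc) x x.2
  rwa [ex_coe] at h4

/-- The hyperfocal subgroup of an invariant subsystem is normalized by `S`. -/
theorem hyperfocal_conj_mem [Finite S] {D : FusionSystem S} {E : FusionSystem T}
    (hE : E.IsInvariantIn D) {s : Ω} (hs : s ∈ S) :
    ∀ y ∈ E.hyperfocalSubgroup p, s * y * s⁻¹ ∈ E.hyperfocalSubgroup p := by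
  have hT := hE.2.1
  have hTS := hT.1
  have hfT : Finite T := H802.finite_of_le hTS
  have hI : InvC E D := (isInvariantIn_iff.1 hE).2.2.1
  suffices h : E.hyperfocalSubgroup p ≤
      (E.hyperfocalSubgroup p).comap (MulAut.conj s).toMonoidHom from fun y hy => h hy
  refine hyperfocal_le_of_pp fun P f hf hpp x hx => ?_
  have hPT : P ≤ T := hf.le
  have hc := mp_conj D (P := T) hTS hs
  have hcP := hc.res hPT
  obtain ⟨P', hP', -, -⟩ := hcP.exists_image le_rfl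
  obtain ⟨f', hf', hpp', hfe⟩ := pp_transport (p := p) (ψ := fun x => s * x * s⁻¹) hcP le_rfl hP'
    (mp_mono hE.1 hf) hpp
  have hfE : Mp E P' f' := by
    refine hI P P' f _ f' hf hc fun y hy => ?_
    obtain ⟨x, hx, rfl⟩ := (hP' y).1 hy
    exact ⟨x, hx, rfl, hfe x hx⟩
  have hfP' : Finite P' := H802.finite_of_le hfE.le
  have h1 := mem_hyperfocal_of_pp hfE hpp' ((hP' _).2 ⟨x, hx, rfl⟩)
  rw [hfe x hx] at h1
  show s * (x⁻¹ * f x) * s⁻¹ ∈ E.hyperfocalSubgroup p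
  have h2 : s * (x⁻¹ * f x) * s⁻¹ = (s * x * s⁻¹)⁻¹ * (s * f x * s⁻¹) := by group
  rw [h2]
  exact h1

/-- Subsystems of `p`-power index have the same hyperfocal subgroup. -/
theorem hyperfocal_eq [Fact p.Prime] [Finite S] (hS : IsPGroup p S) {D : FusionSystem S}
    (hD : D.IsSaturated p) {E : FusionSystem T} (hE : E.IsSaturated p) (hT : D.StronglyClosed T)
    (hi : E.HasPPowerIndexIn D p) : D.hyperfocalSubgroup p = E.hyperfocalSubgroup p := by
  have hTS := hT.1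
  have hn : E.IsNormalIn D p := isNormalIn_of_pPowerIndex hS hD hTS
    (fun s hs t ht => H759.StronglyClosed.conj_mem hT hs ht) hi.2.1 hE hi
  obtain ⟨h1, h2, h3⟩ := (pPower_iff hTS).1 hi
  apply le_antisymm
  · refine hyperfocal_le_of_pp fun P f hf hpp x hx => ?_
    have hPS : P ≤ S := hf.le
    have hfP : Finite P := H802.finite_of_le hPS
    have hPTf : Finite ↥(P ⊓ T) := H802.finite_of_le (inf_le_left.trans hPS)
    have hfT : ∀ y ∈ P ⊓ T, f y ∈ P ⊓ T := fun y hy =>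
      ⟨hpp.1 y hy.1, mp_mem_of_stronglyClosed hT hf hy.1 hy.2⟩
    have hE' : Mp E (P ⊓ T) f := h3 (P ⊓ T) f inf_le_right (hf.res inf_le_left)
      (hpp.res inf_le_left hfT)
    have hkey : ∀ y ∈ P ⊓ T, y⁻¹ * f y ∈ E.hyperfocalSubgroup p := fun y hy =>
      mem_hyperfocal_of_pp hE' (hpp.res inf_le_left hfT) hy
    have hhT : E.hyperfocalSubgroup p ≤ T := H747.hyperfocal_le_base E p
    have h4 := cop_mem (P := P ⊓ E.hyperfocalSubgroup p) (isPGroup_mono hS hPS) hf hpp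
      (fun w hw y hy => ⟨mul_mem (mul_mem hw hy.1) (Subgroup.inv_mem _ hw),
        hyperfocal_conj_mem hn.1.2.2 (hPS hw) y hy.2⟩)
      (fun y hy => ⟨hpp.1 y hy.1, by
        have h5 := mul_mem hy.2 (hkey y ⟨hy.1, hhT hy.2⟩)
        have h6 : y * (y⁻¹ * f y) = f y := by group
        rwa [h6] at h5⟩) hx (by
        have h7 : x⁻¹ * f x ∈ P := mul_mem (Subgroup.inv_mem _ hx) (hpp.1 x hx)
        have h8 : x⁻¹ * f x ∈ T := h2 P f hf hpp x hx
        exact ⟨mul_mem (Subgroup.inv_mem _ h7) (hpp.1 _ h7), hkey _ ⟨h7, h8⟩⟩)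
    exact h4.2
  · refine hyperfocal_le_of_pp fun P f hf hpp x hx => ?_
    have hfP : Finite P := H802.finite_of_le (hf.le.trans hTS)
    exact mem_hyperfocal_of_pp (mp_mono h1 hf) hpp hx

/-- Transitivity of `p`-power index, for the residual. -/
theorem pPower_trans [Fact p.Prime] [Finite S] {A : Subgroup Ω} {D : FusionSystem S}
    {E : FusionSystem T} {E₁ : FusionSystem A} (hTS : T ≤ S) (hAT : A ≤ T)
    (hi : E.HasPPowerIndexIn D p) (hi₁ : E₁.HasPPowerIndexIn E p)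
    (hA : D.hyperfocalSubgroup p ≤ A) : E₁.HasPPowerIndexIn D p := by
  have hfT : Finite T := H802.finite_of_le hTS
  obtain ⟨h1, h2, h3⟩ := (pPower_iff hTS).1 hi
  obtain ⟨k1, k2, k3⟩ := (pPower_iff hAT).1 hi₁
  refine (pPower_iff (hAT.trans hTS)).2 ⟨fun P φ hφ => h1 P (k1 P hφ), fun P f hf hpp x hx => ?_,
    fun P f hP hf hpp => k3 P f hP (h3 P f (hP.trans hAT) hf hpp) hpp⟩
  have hfP : Finite P := H802.finite_of_le hf.le
  exact hA (mem_hyperfocal_of_pp hf hpp hx)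

/-- Uniqueness of the residual. -/
theorem residual_unique [Fact p.Prime] [Finite S] (hS : IsPGroup p S) {D : FusionSystem S}
    (hD : D.IsSaturated p) {A B : Subgroup Ω} (hAB : A = B) (hA : A ≤ S)
    (hh : D.hyperfocalSubgroup p ≤ A) {D₁ : FusionSystem A} {E₁ : FusionSystem B}
    (h1 : D₁.IsSaturated p) (h2 : D₁.HasPPowerIndexIn D p) (h3 : E₁.IsSaturated p)
    (h4 : E₁.HasPPowerIndexIn D p) (P : Subgroup Ω) : D₁.Hom P = E₁.Hom P := by
  subst hAB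
  obtain ⟨X, -, hX⟩ := S5113.result p hS D hD A hA hh
  rw [hX D₁ h1 h2, hX E₁ h3 h4]

/-- The conditions of S5143. -/
def Good (p : ℕ) (F : FusionSystem S) (E : FusionSystem T) {R : Subgroup Ω}
    (D : FusionSystem R) : Prop :=
  D.IsSaturated p ∧ D.IsSubsystemOf F ∧ D.hyperfocalSubgroup p = E.hyperfocalSubgroup p ∧
    ∀ (D₁ : FusionSystem (D.hyperfocalSubgroup p)) (E₁ : FusionSystem (E.hyperfocalSubgroup p)),
      D.IsPResidual p D₁ → E.IsPResidual p E₁ → ∀ P : Subgroup Ω, D₁.Hom P = E₁.Hom P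

variable {F : FusionSystem S} {E : FusionSystem T}

theorem good_of_pPower [Fact p.Prime] [Finite S] (hS : IsPGroup p S) (hT : F.StronglyClosed T)
    (hEs : E.IsSaturated p) {R : Subgroup Ω} (hTR : T ≤ R) (hRS : R ≤ S) {D : FusionSystem R}
    (hD : D.IsSaturated p) (hDF : D.IsSubsystemOf F) (hi : E.HasPPowerIndexIn D p) :
    Good p F E D := by
  have hfR : Finite R := H802.finite_of_le hRS
  have hRp : IsPGroup p R := isPGroup_mono hS hRS
  have hTD : D.StronglyClosed T := ⟨hTR, fun P hP φ hφ x => hT.2 P hP φ (hDF P hφ) x⟩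
  have he := hyperfocal_eq hRp hD hEs hTD hi
  have hhT : E.hyperfocalSubgroup p ≤ T := H747.hyperfocal_le_base E p
  refine ⟨hD, hDF, he, fun D₁ E₁ h1 h2 P => ?_⟩
  exact residual_unique hRp hD he (H747.hyperfocal_le_base D p) le_rfl h1.1 h1.2 h2.1
    (pPower_trans hTR hhT hi h2.2 he.le) P

theorem pPower_of_good [Fact p.Prime] [Finite S] (hS : IsPGroup p S) (hT : F.StronglyClosed T)
    (hEs : E.IsSaturated p) (hEF : E.IsSubsystemOf F)
    (hu : ∀ D₁ D₂ : FusionSystem T, Good p F E D₁ → Good p F E D₂ → D₁ = D₂)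
    {R : Subgroup Ω} (hTR : T ≤ R) (hRS : R ≤ S) {D : FusionSystem R}
    (hD : Good p F E D) : E.HasPPowerIndexIn D p := by
  obtain ⟨hDs, hDF, hhyp, hres⟩ := hD
  have hfR : Finite R := H802.finite_of_le hRS
  have hRp : IsPGroup p R := isPGroup_mono hS hRS
  have hTS := hT.1
  have hfT : Finite T := H802.finite_of_le hTS
  have hTp : IsPGroup p T := isPGroup_mono hS hTS
  have hTD : D.StronglyClosed T := ⟨hTR, fun P hP φ hφ x => hT.2 P hP φ (hDF P hφ) x⟩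
  have hhT : E.hyperfocalSubgroup p ≤ T := H747.hyperfocal_le_base E p
  obtain ⟨E', ⟨hE's, hE'i⟩, -⟩ := S5113.result p hRp D hDs T hTR (hhyp.le.trans hhT)
  have hE'F : E'.IsSubsystemOf F := fun P φ hφ => hDF P (hE'i.1 P hφ)
  have he' := hyperfocal_eq hRp hDs hE's hTD hE'i
  -- `E` itself is good
  have hgE : Good p F E E := by
    refine ⟨hEs, hEF, rfl, fun D₁ E₁ h1 h2 P => ?_⟩
    exact residual_unique hTp hEs rfl hhT le_rfl h1.1 h1.2 h2.1 h2.2 P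
  have hgE' : Good p F E E' := by
    refine ⟨hE's, hE'F, he'.symm.trans hhyp, fun E₁' E₁ h1 h2 P => ?_⟩
    obtain ⟨D₁, ⟨hD₁s, hD₁i⟩, -⟩ := S5113.result p hRp D hDs (D.hyperfocalSubgroup p)
      (H747.hyperfocal_le_base D p) le_rfl
    have hh' : E'.hyperfocalSubgroup p ≤ T := H747.hyperfocal_le_base E' p
    have h3 := residual_unique hRp hDs he'.symm (hh'.trans hTR) he'.le h1.1
      (pPower_trans hTR hh' hE'i h1.2 he'.le) hD₁s hD₁i P
    rw [h3]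
    exact hres D₁ E₁ ⟨hD₁s, hD₁i⟩ h2 P
  rw [hu E E' hgE hgE']
  exact hE'i

/-- `ProdHyp` from S5143. -/
theorem prodHyp_of [Fact p.Prime] [Finite S] (hS : IsPGroup p S) (hT : F.StronglyClosed T)
    (hEs : E.IsSaturated p) (hEF : E.IsSubsystemOf F)
    (h : ∀ R : Subgroup Ω, T ≤ R → R ≤ S → ∃ D : FusionSystem R, Good p F E D ∧
      ∀ D' : FusionSystem R, Good p F E D' → ∀ P : Subgroup Ω, D'.Hom P = D.Hom P) :
    ProdHyp p F E := by
  have hu : ∀ D₁ D₂ : FusionSystem T, Good p F E D₁ → Good p F E D₂ → D₁ = D₂ := by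
    intro D₁ D₂ h1 h2
    obtain ⟨D, -, hD⟩ := h T le_rfl hT.1
    exact H760.ext_hom fun P => (hD D₁ h1 P).trans (hD D₂ h2 P).symm
  intro R hTR hRS
  obtain ⟨D, hD, hDu⟩ := h R hTR hRS
  refine ⟨D, hD.1, hD.2.1, pPower_of_good hS hT hEs hEF hu hTR hRS hD, fun D' h1 h2 h3 => ?_⟩
  exact H760.ext_hom (hDu D' (good_of_pPower hS hT hEs hTR hRS h1 h2 h3))

end Cfsg.Agent.H758
end

-- part: H758/PRes
section
/-!
# The residual of an invariant subsystem is invariant (helper758)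
-/

set_option autoImplicit false

namespace Cfsg.Agent.H758

open Cfsg Cfsg.FusionSystem Cfsg.Agent.H752

variable {Ω : Type*} [Group Ω] {S T : Subgroup Ω} {p : ℕ} {F : FusionSystem S}
  {E : FusionSystem T}

/-- The hyperfocal subgroup of an invariant subsystem is mapped to itself by the automorphisms of `T` in `F`. -/
theorem res_image [Finite S] (hE : E.IsInvariantIn F) {a : Ω → Ω} (ha : Mp F T a) {x : Ω}
    (hx : x ∈ E.hyperfocalSubgroup p) : a x ∈ E.hyperfocalSubgroup p := by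
  have hT := hE.2.1
  have hTS := hT.1
  have hfT : Finite T := H802.finite_of_le hTS
  have hI : InvC E F := (isInvariantIn_iff.1 hE).2.2.1
  let H : Subgroup Ω :=
    { carrier := {x | x ∈ T ∧ a x ∈ E.hyperfocalSubgroup p}
      one_mem' := ⟨one_mem _, by rw [ha.one]; exact one_mem _⟩
      mul_mem' := by
        rintro x y ⟨hx, hx'⟩ ⟨hy, hy'⟩
        exact ⟨mul_mem hx hy, by rw [ha.mul hx hy]; exact mul_mem hx' hy'⟩
      inv_mem' := by
        rintro x ⟨hx, hx'⟩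
        exact ⟨Subgroup.inv_mem _ hx, by rw [ha.inv hx]; exact Subgroup.inv_mem _ hx'⟩ }
  suffices h : E.hyperfocalSubgroup p ≤ H from (h hx).2
  refine hyperfocal_le_of_pp fun P f hf hpp x hx => ?_
  have hPT : P ≤ T := hf.le
  have haP := ha.res hPT
  obtain ⟨P', hP', -, -⟩ := haP.exists_image le_rfl
  obtain ⟨f', hf', hpp', hfe⟩ := pp_transport (p := p) (ψ := a) haP le_rfl hP' (mp_mono hE.1 hf) hpp
  have hfE : Mp E P' f' := by
    refine hI P P' f a f' hf ha fun y hy => ?_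
    obtain ⟨x, hx, rfl⟩ := (hP' y).1 hy
    exact ⟨x, hx, rfl, hfe x hx⟩
  have hfP' : Finite P' := H802.finite_of_le hfE.le
  have h1 := mem_hyperfocal_of_pp hfE hpp' ((hP' _).2 ⟨x, hx, rfl⟩)
  rw [hfe x hx] at h1
  refine ⟨mul_mem (Subgroup.inv_mem _ (hPT hx)) (hf.mem hx), ?_⟩
  rw [ha.mul (Subgroup.inv_mem _ (hPT hx)) (hf.mem hx), ha.inv (hPT hx)]
  exact h1

variable [Finite S] [Fact p.Prime]

/-- Properties of the residual inside `E`. -/
theorem res_normal (hS : IsPGroup p S) (hTS : T ≤ S) (hEs : E.IsSaturated p)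
    {E₁ : FusionSystem (E.hyperfocalSubgroup p)} (h1 : E.IsPResidual p E₁) :
    E₁.IsNormalIn E p := by
  have hfT : Finite T := H802.finite_of_le hTS
  have hI : E.IsInvariantIn E := by
    refine (isInvariantIn_iff_strongInvC (isPGroup_mono hS hTS) hEs (isSubsystemOf_self E)
      ⟨le_rfl, fun P hP φ hφ x => (E.le_of_mem hφ).2 x⟩).2 ?_
    intro P Q R f g h hPQ hQT hf hfQ hg hR
    have hcl : ∀ y ∈ R, ∃ x, x ∈ P ∧ g x = y ∧ h y = g (f x) := fun y hy => by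
      obtain ⟨x, hx, h1, h2⟩ := hR y hy
      exact ⟨x, hx, h1, h2⟩
    obtain ⟨R', hR', -, -⟩ := hg.exists_image hPQ
    obtain ⟨g', hg', hl, hr⟩ := hg.exists_symm hPQ hR'
    have hRR' : R ≤ R' := fun y hy => by
      obtain ⟨x, hx, h1, -⟩ := hR y hy
      exact (hR' y).2 ⟨x, hx, h1⟩
    refine (((hg'.comp hf fun y hy => (hr y hy).1).comp hg fun y hy =>
      hfQ _ (hr y hy).1).res hRR').congr fun y hy => ?_
    obtain ⟨x, hx, rfl, h2⟩ := hR y hy
    rw [h2, hl x hx]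
  exact isNormalIn_of_pPowerIndex (isPGroup_mono hS hTS) hEs (H747.hyperfocal_le_base E p)
    (fun s hs t ht => hyperfocal_conj_mem hI hs t ht) le_rfl h1.1 h1.2

theorem res_stronglyClosed (hS : IsPGroup p S) (hE : E.IsInvariantIn F) (hEs : E.IsSaturated p)
    {E₁ : FusionSystem (E.hyperfocalSubgroup p)} (h1 : E.IsPResidual p E₁) :
    F.StronglyClosed (E.hyperfocalSubgroup p) := by
  have hT := hE.2.1
  have hTS := hT.1
  have hfT : Finite T := H802.finite_of_le hTS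
  have hle : E.hyperfocalSubgroup p ≤ T := H747.hyperfocal_le_base E p
  have hAE : E.StronglyClosed (E.hyperfocalSubgroup p) := (res_normal hS hTS hEs h1).1.2.2.2.1
  have hfr := (isInvariantIn_iff.1 hE).2.2.2
  refine ⟨hle.trans hTS, fun P hP φ hφ x => ?_⟩
  obtain ⟨a, ha, f₀, hf₀, he⟩ := hfr P (ex φ) (hP.trans hle) (mp_ex hφ)
  have h2 : φ x = a (f₀ x) := by rw [← ex_coe φ x, he x x.2]
  rw [h2]
  exact res_image hE ha (mp_mem_of_stronglyClosed hAE hf₀ x.2 (hP x.2))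

theorem res_strongInv (hS : IsPGroup p S) (hE : E.IsInvariantIn F) (hEs : E.IsSaturated p)
    {E₁ : FusionSystem (E.hyperfocalSubgroup p)} (h1 : E.IsPResidual p E₁) :
    StrongInvC E₁ F := by
  have hT := hE.2.1
  have hTS := hT.1
  have hfT : Finite T := H802.finite_of_le hTS
  have hle : E.hyperfocalSubgroup p ≤ T := H747.hyperfocal_le_base E p
  have hn := res_normal hS hTS hEs h1
  have hAE : E.StronglyClosed (E.hyperfocalSubgroup p) := hn.1.2.2.2.1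
  have hfA : Finite (E.hyperfocalSubgroup p) := H802.finite_of_le (hle.trans hTS)
  have hfr := (isInvariantIn_iff.1 hE).2.2.2
  have hI : InvC E F := (isInvariantIn_iff.1 hE).2.2.1
  have hE₁E : StrongInvC E₁ E :=
    (isInvariantIn_iff_strongInvC (isPGroup_mono hS hTS) hEs hn.1.2.2.1 hAE).1 hn.1.2.2
  obtain ⟨k1, k2, k3⟩ := (pPower_iff hle).1 h1.2
  -- conjugation by automorphisms of `T`
  have key : ∀ a : Ω → Ω, Mp F T a → ∀ (P : Subgroup Ω) (f : Ω → Ω), Mp E₁ P f →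
      ∀ (R : Subgroup Ω) (h : Ω → Ω), (∀ y ∈ R, ∃ x ∈ P, a x = y ∧ h y = a (f x)) →
        Mp E₁ R h := by
    intro a ha
    have haA := ha.res hle
    have hpred : SysPred E₁ (E.hyperfocalSubgroup p) (fun P f => Mp E₁ P f ∧
        ∀ (R : Subgroup Ω) (h : Ω → Ω), (∀ y ∈ R, ∃ x ∈ P, a x = y ∧ h y = a (f x)) →
          Mp E₁ R h) := by
      refine ⟨fun h => h.1, fun h => h.1.le, fun h x hx => h.1.mem hx, ?_, ?_, ?_, ?_⟩
      · rintro P f g ⟨h2, h3⟩ he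
        refine ⟨h2.congr he, fun R h hR => h3 R h fun y hy => ?_⟩
        obtain ⟨x, hx, h4, h5⟩ := hR y hy
        exact ⟨x, hx, h4, by rw [h5, he x hx]⟩
      · intro P t hP ht
        refine ⟨mp_conj E₁ hP ht, fun R h hR => ?_⟩
        have hRA : R ≤ E.hyperfocalSubgroup p := fun y hy => by
          obtain ⟨x, hx, rfl, -⟩ := hR y hy
          exact res_image hE ha (hP hx)
        refine (mp_conj E₁ hRA (res_image hE ha ht)).congr fun y hy => ?_
        obtain ⟨x, hx, rfl, h2⟩ := hR y hy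
        rw [h2]
        exact mp_conj_eq haA ht (hP hx)
      · rintro P Q f g ⟨hf, hf'⟩ ⟨hg, hg'⟩ hm
        refine ⟨hf.comp hg hm, fun R h hR => ?_⟩
        classical
        have hch : ∀ y ∈ R, ∃ x, x ∈ P ∧ a x = y ∧ h y = a (g (f x)) := fun y hy => by
          obtain ⟨x, hx, h1, h2⟩ := hR y hy
          exact ⟨x, hx, h1, h2⟩
        choose! inv hi1 hi2 hi3 using hch
        have h2 : Mp E₁ R (fun y => a (f (inv y))) := hf' R _ fun y hy =>
          ⟨inv y, hi1 y hy, hi2 y hy, rfl⟩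
        obtain ⟨R', hR', -, -⟩ := (haA.res hg.le).exists_image le_rfl
        obtain ⟨ai, hai, hl, hr⟩ := (haA.res hg.le).exists_symm le_rfl hR'
        have h3 : Mp E₁ R' (fun z => a (g (ai z))) := hg' R' _ fun z hz => by
          obtain ⟨x, hx, rfl⟩ := (hR' z).1 hz
          exact ⟨x, hx, rfl, by rw [hl x hx]⟩
        refine (h2.comp h3 fun y hy => (hR' _).2 ⟨_, hm _ (hi1 y hy), rfl⟩).congr fun y hy => ?_
        show h y = a (g (ai (a (f (inv y)))))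
        rw [hl _ (hm _ (hi1 y hy)), hi3 y hy]
      · rintro P R f g ⟨hf, hf'⟩ hR hg
        refine ⟨hf.symm fun y hy => ?_, fun R₂ h hR₂ => ?_⟩
        · obtain ⟨x, hx, rfl⟩ := (hR y).1 hy
          exact ⟨x, hx, rfl, hg x hx⟩
        · obtain ⟨P', hP', -, -⟩ := (haA.res hf.le).exists_image le_rfl
          obtain ⟨ai, hai, hl, hr⟩ := (haA.res hf.le).exists_symm le_rfl hP'
          have h3 : Mp E₁ P' (fun z => a (f (ai z))) := hf' P' _ fun z hz => by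
            obtain ⟨x, hx, rfl⟩ := (hP' z).1 hz
            exact ⟨x, hx, rfl, by rw [hl x hx]⟩
          refine h3.symm fun y hy => ?_
          obtain ⟨z, hz, rfl, h4⟩ := hR₂ y hy
          obtain ⟨x, hx, rfl⟩ := (hR z).1 hz
          refine ⟨a x, (hP' _).2 ⟨x, hx, rfl⟩, ?_, ?_⟩
          · show a (f (ai (a x))) = a (f x)
            rw [hl x hx]
          · rw [h4, hg x hx]
    have hAp : IsPGroup p (E.hyperfocalSubgroup p) := isPGroup_mono hS (hle.trans hTS)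
    intro P f hf
    obtain ⟨φ, hφ, hφf⟩ := hf
    have h2 := H802.le_of_centric hAp h1.1 (subSys hpred) (fun Q hQ hQc _ => ?_) P hφ
    · have h3 := (mp_subSys hpred).1 (⟨φ, h2, hφf⟩ : Mp (subSys hpred) P f)
      exact h3.2
    · have hQA := hQ.1
      have hfQ : Finite Q := H802.finite_of_le hQA
      have hfM := finite_mulAut Q
      have hsyl := H750.sylIn_of_isFullyAutomized
        (H802.isFullyAutomized_of_isFullyNormalized hAp h1.1 hQ)
      refine le_of_sylIn_of_coprime hsyl (H802.autInducedBy_le_autGroup _ hQA) fun α hα hc => ?_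
      have hαE := (mp_iff_autGroup hQA α).1 hα
      rw [mp_iff_autGroup hQA]
      refine (mp_subSys hpred).2 ⟨hαE, fun R h hR => ?_⟩
      have hval : ∀ (x : Ω) (hx : x ∈ Q), ex (fun x => ((α x : Q) : Ω)) x = (α ⟨x, hx⟩ : Q) :=
        fun x hx => ex_apply _ hx
      have hpp := pp_of_aut hval hc
      obtain ⟨Q', hQ', -, -⟩ := (haA.res hQA).exists_image le_rfl
      obtain ⟨f', hf', hpp', hfe⟩ := pp_transport (p := p) (ψ := a) (haA.res hQA) le_rfl hQ'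
        (mp_mono hE.1 (mp_mono k1 hαE)) hpp
      have hfE : Mp E Q' f' := by
        refine hI Q Q' _ a f' (mp_mono k1 hαE) ha fun y hy => ?_
        obtain ⟨x, hx, rfl⟩ := (hQ' y).1 hy
        exact ⟨x, hx, rfl, hfe x hx⟩
      have hQ'A : Q' ≤ E.hyperfocalSubgroup p := fun y hy => by
        obtain ⟨x, hx, rfl⟩ := (hQ' y).1 hy
        exact res_image hE ha (hQA hx)
      have h2 := k3 Q' f' hQ'A hfE hpp'
      have hRQ' : R ≤ Q' := fun y hy => by
        obtain ⟨x, hx, h3, -⟩ := hR y hy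
        exact (hQ' y).2 ⟨x, hx, h3⟩
      refine (h2.res hRQ').congr fun y hy => ?_
      obtain ⟨x, hx, rfl, h3⟩ := hR y hy
      rw [h3, hfe x hx]
  -- general maps
  intro P Q R f g h hPQ hQA hf hfQ hg hR
  obtain ⟨a, ha, e, he, hge⟩ := hfr Q g (hQA.trans hle) hg
  obtain ⟨P', hP', -, -⟩ := he.exists_image hPQ
  obtain ⟨ei, hei, hl, hr⟩ := he.exists_symm hPQ hP'
  have h2 : Mp E₁ P' (fun y => e (f (ei y))) := by
    refine hE₁E P Q P' f e _ hPQ hQA hf hfQ he fun y hy => ?_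
    obtain ⟨x, hx, rfl⟩ := (hP' y).1 hy
    exact ⟨x, hx, rfl, by rw [hl x hx]⟩
  refine key a ha P' _ h2 R h fun y hy => ?_
  obtain ⟨x, hx, rfl, h3⟩ := hR y hy
  refine ⟨e x, (hP' _).2 ⟨x, hx, rfl⟩, (hge x (hPQ hx)).symm, ?_⟩
  rw [h3, hge _ (hfQ x hx), hl x hx]

end Cfsg.Agent.H758
end

-- part: H758/PUniq
section
/-!
# Uniqueness of the product (helper758)
-/

set_option autoImplicit false

namespace Cfsg.Agent.H758

open Cfsg Cfsg.FusionSystem Cfsg.Agent.H752 Cfsg.Agent.H750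

variable {Ω : Type*} [Group Ω] {S T A R U : Subgroup Ω} {p : ℕ} {F : FusionSystem S}
  {E : FusionSystem T} {W : FusionSystem S}

theorem hom_subset_of_mp {X : FusionSystem T} {Y : FusionSystem U}
    (h : ∀ P f, Mp X P f → Mp Y P f) (P : Subgroup Ω) : X.Hom P ⊆ Y.Hom P := fun φ hφ =>
  (h P (ex φ) (mp_ex hφ)).mem_hom fun _ hx => (ex_apply _ hx).symm

theorem le_of_pPower [Finite S] [Fact p.Prime] (hS : IsPGroup p S) (hUR : U ≤ R) (hRS : R ≤ S)
    {X : FusionSystem U} {Y : FusionSystem R} (hX : X.IsSaturated p)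
    (hXW : ∀ P f, Mp X P f → Mp W P f) (hY : Y.HasPPowerIndexIn W p) :
    ∀ P f, Mp X P f → Mp Y P f := by
  have hUS := hUR.trans hRS
  have hfU : Finite U := H802.finite_of_le hUS
  have hUp : IsPGroup p U := isPGroup_mono hS hUS
  obtain ⟨k1, k2, k3⟩ := (pPower_iff hRS).1 hY
  have hpred : SysPred X U (fun P f => Mp X P f ∧ Mp Y P f) := by
    refine ⟨fun h => h.1, fun h => h.1.le, fun h x hx => h.1.mem hx,
      fun h he => ⟨h.1.congr he, h.2.congr he⟩,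
      fun hP ht => ⟨mp_conj X hP ht, mp_conj Y (hP.trans hUR) (hUR ht)⟩,
      fun h h' hm => ⟨h.1.comp h'.1 hm, h.2.comp h'.2 hm⟩, ?_⟩
    intro P R f g h hR hg
    refine ⟨h.1.symm fun y hy => ?_, h.2.symm fun y hy => ?_⟩
    · obtain ⟨x, hx, rfl⟩ := (hR y).1 hy
      exact ⟨x, hx, rfl, hg x hx⟩
    · obtain ⟨x, hx, rfl⟩ := (hR y).1 hy
      exact ⟨x, hx, rfl, hg x hx⟩
  rintro P f ⟨φ, hφ, hφf⟩
  have h2 := H802.le_of_centric hUp hX (subSys hpred) (fun Q hQ hQc _ => ?_) P hφ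
  · exact ((mp_subSys hpred).1 (⟨φ, h2, hφf⟩ : Mp (subSys hpred) P f)).2
  · have hQU := hQ.1
    have hfQ : Finite Q := H802.finite_of_le hQU
    have hfM := finite_mulAut Q
    have hsyl := sylIn_of_isFullyAutomized (H802.isFullyAutomized_of_isFullyNormalized hUp hX hQ)
    refine le_of_sylIn_of_coprime hsyl (H802.autInducedBy_le_autGroup _ hQU) fun α hα hc => ?_
    have hαX := (mp_iff_autGroup hQU α).1 hα
    rw [mp_iff_autGroup hQU]
    exact (mp_subSys hpred).2 ⟨hαX, k3 Q _ (hQU.trans hUR) (hXW _ _ hαX)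
      (pp_of_aut (fun x hx => ex_apply _ hx) hc)⟩

variable [Finite S] [Fact p.Prime]

/-- Generators for the residual lie in the product system. -/
theorem claimK (hD : ∀ P f, Mp W P f ↔ DP p F E P f) (hS : IsPGroup p S)
    (hE : E.IsNormalIn F p) (hWF : W.IsSubsystemOf F) (hWs : W.IsSaturated p)
    {E₁ : FusionSystem A} (hAF : F.StronglyClosed A) (hI₁ : StrongInvC E₁ F)
    (hE₁W : E₁.IsSubsystemOf W)
    (hWA : ∀ (P : Subgroup Ω) (f : Ω → Ω), Mp W P f → PP p P f → ∀ x ∈ P, x⁻¹ * f x ∈ A)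
    {Q : Subgroup Ω} {κ : Ω → Ω} (hκ : GD p F E₁ Q κ) : Mp W Q κ := by
  have hF := hE.1.2.1
  have hT : F.StronglyClosed T := hE.1.2.2.2.1
  have hTS := hT.1
  have hI : StrongInvC E F :=
    (isInvariantIn_iff_strongInvC hS hF hE.1.2.2.1 hT).1 hE.1.2.2
  have hQS : Q ≤ S := hκ.mp.le
  obtain ⟨Q', hc, hn⟩ := H802.exists_isFullyNormalized hS hF hQS
  obtain ⟨χ, hχ⟩ := exists_iso_of_isConj hc
  obtain ⟨ν, hν, ψ, hψ, hχe⟩ := fact hS hF hE.1.2.2 Q χ (mp_of_iso hχ)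
  have hνW : Mp W Q ν := (hD _ _).2 hν.dp
  obtain ⟨Q₂, V, ψi, hQ₂, hQ₂T, hV, hψi, hl, hr, hTV⟩ := FF.data hT hν hψ
  obtain ⟨κ₂, hκ₂, hκ₂e⟩ := hκ.transport hAF hI₁ hν.mp le_rfl hQ₂
  have hQ' : ∀ y, y ∈ Q' ↔ ∃ x ∈ Q₂, ψ x = y := by
    intro y
    rw [hχ.mem_iff]
    constructor
    · rintro ⟨x, hx, rfl⟩
      exact ⟨ν x, (hQ₂ _).2 ⟨x, hx, rfl⟩, (hχe x hx).symm⟩
    · rintro ⟨z, hz, rfl⟩
      obtain ⟨x, hx, rfl⟩ := (hQ₂ z).1 hz
      exact ⟨x, hx, hχe x hx⟩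
  obtain ⟨κ', hκ', hκ'e⟩ := hκ₂.transport hAF hI₁ hψ hQ₂T hQ'
  have h1 : Mp W Q' κ' := bc hS hF hAF hI₁ hWs hWF hE₁W hWA hn
    (fun z hz => (hκ'.cen.self hAF.1 hz.1 fun x hx =>
      Subgroup.mem_centralizer_iff.1 hz.2 x hx).1) hκ'.mp hκ'.pp hκ'.tr hκ'.e
  have h2 : NN p F E Q' κ' := nn_of_pp hS hT hI ((hD _ _).1 h1) hκ'.pp
  have hQ'V : Q' ≤ V := fun y hy => by
    obtain ⟨z, hz, rfl⟩ := (hQ' y).1 hy
    exact (hV _).2 ⟨z, hQ₂T hz, rfl⟩
  have h3 : NN p F E Q₂ κ₂ := h2.transport hT hI hψi hQ'V hTV fun y hy =>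
    ⟨ψ y, (hQ' _).2 ⟨y, hy, rfl⟩, hl y (hQ₂T hy), by
      rw [hκ'e y hy, hl _ (hQ₂T (hκ₂.pp.1 y hy))]⟩
  have h4 : Mp W Q₂ κ₂ := (hD _ _).2 h3.dp
  obtain ⟨νi, hνi, hνl, hνr⟩ := hνW.exists_symm le_rfl hQ₂
  refine ((hνW.comp h4 fun x hx => (hQ₂ _).2 ⟨x, hx, rfl⟩).comp hνi fun x hx =>
    hκ₂.pp.1 _ ((hQ₂ _).2 ⟨x, hx, rfl⟩)).congr fun x hx => ?_
  show κ x = νi (κ₂ (ν x))
  rw [hκ₂e x hx, hνl _ (hκ.pp.1 x hx)]

/-- Every candidate is contained in the product system. -/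
theorem le_prod (hD : ∀ P f, Mp W P f ↔ DP p F E P f) (hS : IsPGroup p S)
    (hE : E.IsNormalIn F p) (hWF : W.IsSubsystemOf F) (hWs : W.IsSaturated p)
    {E₁ : FusionSystem A} (hAF : F.StronglyClosed A) (hI₁ : StrongInvC E₁ F)
    (hE₁W : E₁.IsSubsystemOf W)
    (hWA : ∀ (P : Subgroup Ω) (f : Ω → Ω), Mp W P f → PP p P f → ∀ x ∈ P, x⁻¹ * f x ∈ A)
    (hAR : A ≤ R) (hRS : R ≤ S) {D : FusionSystem R} (hDs : D.IsSaturated p)
    (hDF : D.IsSubsystemOf F) (hi : E₁.HasPPowerIndexIn D p) :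
    ∀ P f, Mp D P f → Mp W P f := by
  have hF := hE.1.2.1
  have hfR : Finite R := H802.finite_of_le hRS
  have hRp : IsPGroup p R := isPGroup_mono hS hRS
  have hfA : Finite A := H802.finite_of_le (hAR.trans hRS)
  have hAD : D.StronglyClosed A := ⟨hAR, fun P hP φ hφ x => hAF.2 P hP φ (hDF P hφ) x⟩
  have hE₁F : E₁.IsSubsystemOf F := fun P φ hφ => hWF P (hE₁W P hφ)
  obtain ⟨k1, k2, k3⟩ := (pPower_iff hAR).1 hi
  have hI₁D : StrongInvC E₁ D := fun P Q R f g h h1 h2 h3 h4 h5 h6 =>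
    hI₁ P Q R f g h h1 h2 h3 h4 (mp_mono hDF h5) h6
  have hInvD : E₁.IsInvariantIn D :=
    (isInvariantIn_iff_strongInvC hRp hDs k1 hAD).2 hI₁D
  have hInvF : E₁.IsInvariantIn F :=
    (isInvariantIn_iff_strongInvC hS hF hE₁F hAF).2 hI₁
  have hK : ∀ (Q : Subgroup Ω) (κ : Ω → Ω), GD p D E₁ Q κ → Mp W Q κ := by
    intro Q κ hκ
    refine claimK hD hS hE hWF hWs hAF hI₁ hE₁W hWA
      ⟨mp_mono hDF hκ.mp, hκ.pp, hκ.tr, hκ.e, ?_⟩
    exact (H756.isCentric_iff_tc hInvF).1 ((H756.isCentric_iff_tc hInvD).2 hκ.cen)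
  have hNN : ∀ (Q : Subgroup Ω) (ν : Ω → Ω), NN p D E₁ Q ν → Mp W Q ν := by
    intro Q ν hν
    induction hν with
    | id g hP hg => exact (mp_id W (hP.trans hRS)).congr hg
    | step Q f κ g _ hκ hm hg ih => exact (ih.comp (hK Q κ hκ) hm).congr hg
  have hTT : H756.TC D A A := ⟨le_rfl, fun f hf z hz _ => hf.surj (fun x hx =>
    mp_mem_of_stronglyClosed hAD hf hx hx) hz⟩
  have hL : ∀ (P : Subgroup Ω) (f : Ω → Ω), Mp D P f → A ≤ P → Mp W P f := by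
    refine mp_induction D hRp hDs (fun P f => A ≤ P → Mp W P f) ?_ ?_ ?_ ?_ ?_
    · intro P f g _ h1 he hA
      exact (h1 hA).congr he
    · intro P R f _ h1 hR hA
      exact (h1 (hA.trans hR)).res hR
    · intro P Q f g hf _ h1 h2 hm hA
      have hAQ : A ≤ Q := fun y hy => by
        obtain ⟨x, hx, rfl⟩ := (hf.res hA).surj (fun x hx =>
          mp_mem_of_stronglyClosed hAD hf (hA hx) hx) hy
        exact hm x (hA hx)
      exact (h1 hA).comp (h2 hAQ) hm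
    · intro P R f g hf h1 hg hinv hA
      have hAP : A ≤ P := fun y hy => by
        obtain ⟨x, hx, rfl⟩ := (hg.res hA).surj (fun x hx =>
          mp_mem_of_stronglyClosed hAD hg (hA hx) hx) hy
        obtain ⟨z, hz, -, h2⟩ := hinv x (hA hx)
        rw [h2]
        exact hz
      exact (h1 hAP).symm hinv
    · intro Q hQa hQr _ α hα f hf hA
      have hQR : Q ≤ R := hQa.1
      have hQS := hQR.trans hRS
      have hfQ : Finite Q := H802.finite_of_le hQR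
      have hfM := finite_mulAut Q
      have hle : D.autGroup Q ≤ W.autGroup Q := by
        refine le_of_sylIn_of_coprime (sylIn_of_isFullyAutomized hQa) (fun c hc => ?_)
          fun β hβ hc => ?_
        · obtain ⟨g, hg, h⟩ := H757.exists_cj_of_mem hc
          exact h.mem_autGroup hQS (hRS hg)
        · have hβD := (mp_iff_autGroup hQR β).1 hβ
          have hpp := pp_of_aut (fun x hx => fn_apply β hx) hc
          rw [mp_iff_autGroup hQS]
          refine hK Q _ ⟨hβD, hpp, k2 Q _ hβD hpp, k3 _ _ inf_le_right (hβD.res inf_le_left)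
            (hpp.res inf_le_left fun x hx => ⟨hpp.1 x hx.1,
              mp_mem_of_stronglyClosed hAD hβD hx.1 hx.2⟩), ?_⟩
          rw [inf_eq_right.2 hA]
          exact hTT
      exact mp_of_autGroup hQS (hle hα) hf
  intro P f hf
  obtain ⟨ν, hν, ψ, hψ, he⟩ := fact hRp hDs hInvD P f hf
  exact ((hNN P ν hν).comp (hL _ ψ hψ le_sup_right) fun x hx => hν.mem_sup hx).congr he

/-- Extension in the non-centric case. -/
theorem ext_of_not_centralizer_le (hS : IsPGroup p S) (hT : F.StronglyClosed T) {Q : Subgroup Ω}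
    (hQa : F.IsFullyAutomized p Q) (hQr : F.IsReceptive Q) (hC : ¬ centralizerIn T (Q ⊓ T) ≤ Q)
    {β : MulAut Q} (hβ : β ∈ F.autGroup Q) :
    ∃ (N : Subgroup Ω) (ψ : Ω → Ω), Mp F N ψ ∧ Q < N ∧ ∀ x ∈ Q, ψ x = fn β x := by
  have hTS := hT.1
  have hQS := hQr.1
  have hfQ : Finite Q := H802.finite_of_le hQS
  have hR : IsPGroup p ↥(Q ⊔ centralizerIn T (Q ⊓ T)) :=
    isPGroup_mono hS (sup_le hQS (inf_le_left.trans hTS))
  have hfR : Finite ↥(Q ⊔ centralizerIn T (Q ⊓ T)) :=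
    H802.finite_of_le (sup_le hQS (inf_le_left.trans hTS))
  obtain ⟨u, hu, huQ, hun⟩ := H757.exists_normalizes_of_not_le hR
    (U := centralizerIn T (Q ⊓ T)) (V := Q) le_sup_right le_sup_left (by
      have h1 : Q ⊔ centralizerIn T (Q ⊓ T) ≤
          Subgroup.normalizer (centralizerIn T (Q ⊓ T) : Set Ω) := by
        have hfC : Finite ↥(centralizerIn T (Q ⊓ T)) :=
          H802.finite_of_le (inf_le_left.trans hTS)
        refine sup_le (fun x hx => H757.mem_normalizer_of_conj_mem fun v hv => ⟨?_, ?_⟩)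
          Subgroup.le_normalizer
        · exact H759.StronglyClosed.conj_mem hT (hQS hx) hv.1
        · refine Subgroup.mem_centralizer_iff.2 fun z hz => ?_
          have hz' : x⁻¹ * z * x ∈ Q ⊓ T := by
            refine ⟨mul_mem (mul_mem (Subgroup.inv_mem _ hx) hz.1) hx, ?_⟩
            have h2 := H759.StronglyClosed.conj_mem hT (Subgroup.inv_mem _ (hQS hx)) hz.2
            simpa using h2
          have h3 := Subgroup.mem_centralizer_iff.1 hv.2 _ hz'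
          calc z * (x * v * x⁻¹) = x * ((x⁻¹ * z * x) * v) * x⁻¹ := by group
            _ = x * (v * (x⁻¹ * z * x)) * x⁻¹ := by rw [h3]
            _ = x * v * x⁻¹ * z := by group
      intro r hr u hu
      exact (Subgroup.mem_normalizer_iff.1 (h1 hr) u).1 hu) hC
  obtain ⟨c, hc⟩ := H757.exists_cj hun
  have hcF : c ∈ F.autGroup Q := hc.mem_autGroup hQS (hTS hu.1)
  have hcT : ∀ x : Q, (x : Ω)⁻¹ * (c x : Q) ∈ T := by
    intro x
    rw [hc x]
    have h5 : (x : Ω)⁻¹ * (u * x * u⁻¹) = ((x : Ω)⁻¹ * u * (x : Ω)⁻¹⁻¹) * u⁻¹ := by group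
    rw [h5]
    exact mul_mem (H759.StronglyClosed.conj_mem hT (Subgroup.inv_mem _ (hQS x.2)) hu.1)
      (Subgroup.inv_mem _ hu.1)
  have hcG : c ∈ trG F T Q := by
    refine ⟨hcF, fun x hx => Subtype.ext ?_, hcT⟩
    rw [hc x]
    have h3 := Subgroup.mem_centralizer_iff.1 hu.2 _ (⟨x.2, hx⟩ : (x : Ω) ∈ Q ⊓ T)
    rw [← h3]
    group
  have hcβ : β * c * β⁻¹ ∈ autInducedBy S Q := trG_le hS hT hQa (trG_normal hT hQS hβ hcG)
  have hm := (mp_iff_autGroup hQS β).1 hβ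
  obtain ⟨N, ψ, hψ, hQN, hψe, hN⟩ := H753.mp_extend hQr hm (fun y =>
    ⟨fun hy => hm.surj (fun x hx => fn_mem β hx) hy, fun ⟨x, hx, h⟩ => h ▸ fn_mem β hx⟩)
  have huN : u ∈ N := by
    obtain ⟨g, hg, hgc⟩ := H757.exists_cj_of_mem hcβ
    refine hN u (hTS hu.1) hun ⟨g, hg, fun x hx => ?_⟩
    have h11 : u * x * u⁻¹ ∈ Q := (Subgroup.mem_normalizer_iff.1 hun x).1 hx
    have h9 := hgc (β ⟨x, hx⟩)
    have h10 : (β * c * β⁻¹) (β ⟨x, hx⟩) = β (c ⟨x, hx⟩) := by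
      simp [MulAut.mul_apply]
    rw [h10] at h9
    show fn β _ = g * fn β x * g⁻¹
    rw [fn_apply β h11, fn_apply β hx]
    have h12 : (⟨u * x * u⁻¹, h11⟩ : Q) = c ⟨x, hx⟩ := Subtype.ext (hc ⟨x, hx⟩).symm
    rw [h12, h9]
  exact ⟨N, ψ, hψ, lt_of_le_of_ne hQN fun he => huQ (he ▸ huN), hψe⟩

/-- Two saturated systems `D ≤ W` over the same group, `E` of `p`-power index in both, coincide. -/
theorem le_of_index (hS : IsPGroup p S) (hT : W.StronglyClosed T) (hWs : W.IsSaturated p)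
    (hI : StrongInvC E W) (hi : E.HasPPowerIndexIn W p) {D : FusionSystem S}
    (hDs : D.IsSaturated p) (hDW : D.IsSubsystemOf W) (hiD : E.HasPPowerIndexIn D p) :
    ∀ P f, Mp W P f → Mp D P f := by
  have hTS := hT.1
  obtain ⟨k1, k2, k3⟩ := (pPower_iff hTS).1 hi
  obtain ⟨l1, l2, l3⟩ := (pPower_iff hTS).1 hiD
  refine mp_induction W hS hWs (fun P f => Mp D P f) ?_ ?_ ?_ ?_ ?_
  · intro P f g _ h1 he
    exact h1.congr he
  · intro P R f _ h1 hR
    exact h1.res hR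
  · intro P Q f g _ _ h1 h2 hm
    exact h1.comp h2 hm
  · intro P R f g _ h1 _ hinv
    exact h1.symm hinv
  · intro Q hQa hQr IH α hα f hf
    have hQS : Q ≤ S := hQa.1
    have hfQ : Finite Q := H802.finite_of_le hQS
    have hfM := finite_mulAut Q
    by_cases hC : centralizerIn T (Q ⊓ T) ≤ Q
    · have hle : W.autGroup Q ≤ D.autGroup Q := by
        refine le_of_sylIn_of_coprime (sylIn_of_isFullyAutomized hQa)
          (H802.autInducedBy_le_autGroup _ hQS) fun β hβ hc => ?_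
        have hβW := (mp_iff_autGroup hQS β).1 hβ
        have hpp := pp_of_aut (fun x hx => fn_apply β hx) hc
        rw [mp_iff_autGroup hQS]
        exact bc hS hWs hT hI hDs hDW l1 l2
          (H802.isFullyNormalized_of_automized_receptive hS hQa hQr) hC hβW hpp (k2 Q _ hβW hpp)
          (k3 _ _ inf_le_right (hβW.res inf_le_left)
            (hpp.res inf_le_left fun x hx => ⟨hpp.1 x hx.1,
              mp_mem_of_stronglyClosed hT hβW hx.1 hx.2⟩))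
      exact mp_of_autGroup hQS (hle hα) hf
    · obtain ⟨N, ψ, hψ, hQN, hψe⟩ := ext_of_not_centralizer_le hS hT hQa hQr hC hα
      have h1 : Nat.card Q < Nat.card N := card_lt_of_lt hψ.le hQN
      refine ((IH N ψ hψ h1).res hQN.le).congr fun x hx => ?_
      rw [hψe x hx, fn_apply α hx, hf x hx]

end Cfsg.Agent.H758
end

-- part: H758/PMain
section
/-!
# The product of a normal subsystem with a subgroup (helper758)
-/

set_option autoImplicit false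

namespace Cfsg.Agent.H758

open Cfsg Cfsg.FusionSystem Cfsg.Agent.H752 Cfsg.Agent.H750

variable {Ω : Type*} [Group Ω] {S T R : Subgroup Ω} {p : ℕ} {F : FusionSystem S}
  {E : FusionSystem T}

theorem product_main [Finite S] [Fact p.Prime] (hS : IsPGroup p S) (hE : E.IsNormalIn F p)
    (hTR : T ≤ R) (hRS : R ≤ S) : ∃ D : FusionSystem R, Good p F E D ∧
      ∀ D' : FusionSystem R, Good p F E D' → ∀ P : Subgroup Ω, D'.Hom P = D.Hom P := by
  have hEs : E.IsSaturated p := hE.1.1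
  have hF := hE.1.2.1
  have hInv := hE.1.2.2
  have hT : F.StronglyClosed T := hInv.2.1
  have hTS := hT.1
  have hfT : Finite T := H802.finite_of_le hTS
  have hTp : IsPGroup p T := isPGroup_mono hS hTS
  have hfR : Finite R := H802.finite_of_le hRS
  have hRp : IsPGroup p R := isPGroup_mono hS hRS
  have hI : StrongInvC E F := (isInvariantIn_iff_strongInvC hS hF hInv.1 hT).1 hInv
  -- the product system `W = E S`
  set W := prodSys (p := p) hT hI with hWdef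
  have hD : ∀ P f, Mp W P f ↔ DP p F E P f := fun P f => mp_prodSys
  have hWF : W.IsSubsystemOf F := prodSys_le hT hI
  have hWs : W.IsSaturated p := sat_prod hD hS hE hWF
  have hEW : E.HasPPowerIndexIn W p := prodSys_index hS hT hI hInv hEs
  have hTW : W.StronglyClosed T := ⟨hTS, fun P hP φ hφ x => hT.2 P hP φ (hWF P hφ) x⟩
  have hWh : W.hyperfocalSubgroup p = E.hyperfocalSubgroup p := hyperfocal_eq hS hWs hEs hTW hEW
  have hAT : E.hyperfocalSubgroup p ≤ T := H747.hyperfocal_le_base E p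
  have hAR := hAT.trans hTR
  have hfA : Finite (E.hyperfocalSubgroup p) := H802.finite_of_le (hAT.trans hTS)
  obtain ⟨D, ⟨hDs, hDi⟩, -⟩ := S5113.result p hS W hWs R hRS (hWh.le.trans hAR)
  obtain ⟨d1, d2, d3⟩ := (pPower_iff hRS).1 hDi
  obtain ⟨w1, w2, w3⟩ := (pPower_iff hTS).1 hEW
  have hDF : D.IsSubsystemOf F := fun P φ hφ => hWF P (d1 P hφ)
  have hED : E.HasPPowerIndexIn D p := by
    refine (pPower_iff hTR).2 ⟨hom_subset_of_mp (le_of_pPower hS hTR hRS hEs (fun P f hf =>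
      mp_mono w1 hf) hDi), fun P f hf hpp => w2 P f (mp_mono d1 hf) hpp,
      fun P f hP hf hpp => w3 P f hP (mp_mono d1 hf) hpp⟩
  refine ⟨D, good_of_pPower hS hT hEs hTR hRS hDs hDF hED, fun D' hD' P => ?_⟩
  obtain ⟨hD's, hD'F, hD'h, hD'r⟩ := hD'
  -- the residual
  obtain ⟨E₁, ⟨hE₁s, hE₁i⟩, -⟩ := S5113.result p hTp E hEs (E.hyperfocalSubgroup p) hAT le_rfl
  have hres : E.IsPResidual p E₁ := ⟨hE₁s, hE₁i⟩
  have hAF : F.StronglyClosed (E.hyperfocalSubgroup p) := res_stronglyClosed hS hInv hEs hres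
  have hI₁ : StrongInvC E₁ F := res_strongInv hS hInv hEs hres
  have hE₁W : E₁.HasPPowerIndexIn W p := pPower_trans hTS hAT hEW hE₁i hWh.le
  obtain ⟨v1, v2, v3⟩ := (pPower_iff (hAT.trans hTS)).1 hE₁W
  have hE₁D' : E₁.HasPPowerIndexIn D' p := by
    have hle' : D'.hyperfocalSubgroup p ≤ R := H747.hyperfocal_le_base D' p
    obtain ⟨D₁, ⟨hD₁s, hD₁i⟩, -⟩ := S5113.result p hRp D' hD's (D'.hyperfocalSubgroup p)
      hle' le_rfl
    have heq := hD'r D₁ E₁ ⟨hD₁s, hD₁i⟩ hres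
    obtain ⟨u1, u2, u3⟩ := (pPower_iff hle').1 hD₁i
    refine (pPower_iff hAR).2 ⟨fun P φ hφ => u1 P (by rw [heq]; exact hφ), fun P f hf hpp x hx => ?_,
      fun P f hP hf hpp => ?_⟩
    · rw [← hD'h]
      exact u2 P f hf hpp x hx
    · obtain ⟨φ, hφ, h⟩ := u3 P f (by rw [hD'h]; exact hP) hf hpp
      exact ⟨φ, by rw [← heq]; exact hφ, h⟩
  have hW' : ∀ P f, Mp D' P f → Mp W P f :=
    le_prod hD hS hE hWF hWs hAF hI₁ v1 v2 hAR hRS hD's hD'F hE₁D'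
  have hD'D : ∀ P f, Mp D' P f → Mp D P f := le_of_pPower hS le_rfl hRS hD's hW' hDi
  have hE₁D : E₁.HasPPowerIndexIn D p := by
    refine (pPower_iff hAR).2 ⟨hom_subset_of_mp (le_of_pPower hS hAR hRS hE₁s (fun P f hf =>
      mp_mono v1 hf) hDi), fun P f hf hpp => v2 P f (mp_mono d1 hf) hpp,
      fun P f hP hf hpp => v3 P f hP (mp_mono d1 hf) hpp⟩
  have hAD : D.StronglyClosed (E.hyperfocalSubgroup p) :=
    ⟨hAR, fun P hP φ hφ x => hAF.2 P hP φ (hDF P hφ) x⟩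
  have hI₁D : StrongInvC E₁ D := fun P Q R f g h h1 h2 h3 h4 h5 h6 =>
    hI₁ P Q R f g h h1 h2 h3 h4 (mp_mono hDF h5) h6
  have hDD' := le_of_index hRp hAD hDs hI₁D hE₁D hD's (hom_subset_of_mp hD'D) hE₁D'
  exact Set.Subset.antisymm (hom_subset_of_mp hD'D P) (hom_subset_of_mp hDD' P)

end Cfsg.Agent.H758
end

-- part: S5143
section
set_option autoImplicit false
open Cfsg

namespace Cfsg.Agent.S5143

/-- Let F be a saturated fusion system over a finite p-group S, E a normal subsystem over T, and R a subgroup with T ≤ R ≤ S. Then there is exactly one saturated subsystem D of F over R (exactly one family of map sets) whose p-residual subsystem is that of E: the hyperfocal subgroups of D and E coincide and the p-residual subsystems of D and of E have the same maps. -/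
theorem result {Ω : Type*} [Group Ω] {S : Subgroup Ω} [Finite S] (p : ℕ) [Fact p.Prime] (hS : IsPGroup p S) (F : Cfsg.FusionSystem S) (hF : F.IsSaturated p) {T : Subgroup Ω} (E : Cfsg.FusionSystem T) (hE : E.IsNormalIn F p) (R : Subgroup Ω) (hTR : T ≤ R) (hRS : R ≤ S) : ∃ D : Cfsg.FusionSystem R, (D.IsSaturated p ∧ D.IsSubsystemOf F ∧ D.hyperfocalSubgroup p = E.hyperfocalSubgroup p ∧ ∀ (D₁ : Cfsg.FusionSystem (D.hyperfocalSubgroup p)) (E₁ : Cfsg.FusionSystem (E.hyperfocalSubgroup p)), D.IsPResidual p D₁ → E.IsPResidual p E₁ → ∀ P : Subgroup Ω, D₁.Hom P = E₁.Hom P) ∧ ∀ D' : Cfsg.FusionSystem R, D'.IsSaturated p → D'.IsSubsystemOf F → D'.hyperfocalSubgroup p = E.hyperfocalSubgroup p → (∀ (D₁ : Cfsg.FusionSystem (D'.hyperfocalSubgroup p)) (E₁ : Cfsg.FusionSystem (E.hyperfocalSubgroup p)), D'.IsPResidual p D₁ → E.IsPResidual p E₁ → ∀ P : Subgroup Ω, D₁.Hom P = E₁.Hom P) → ∀ P : Subgroup Ω, D'.Hom P =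 D.Hom P := by
  obtain ⟨D, h1, h2⟩ := Cfsg.Agent.H758.product_main (F := F) hS hE hTR hRS
  exact ⟨D, h1, fun D' g1 g2 g3 g4 => h2 D' ⟨g1, g2, g3, g4⟩⟩

end Cfsg.Agent.S5143
end
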