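import Cfsg.Agent.H539.Lim.Defs
import Cfsg.Agent.H759.FusFactor
import Cfsg.Agent.H757.Central
import Cfsg.Agent.H752.Mp
import Cfsg.Agent.H758.TransSys
import Cfsg.Statements.S5242
import Cfsg.Agent.H539.Lim.MainE
set_option linter.all false

-- part: H269/Lim/FactorReal
section
/-!
# S5242, piece I3: `F` is realizable if the factor system `F/A` (`A` central) is realizable

From `exists_ext` (central extensions by stable classes) and `bridge`.
-/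

set_option autoImplicit false

namespace Cfsg.Agent.H269.Lim

open Cfsg Cfsg.FusionSystem Cfsg.Agent.H539.Lim Cfsg.Agent.H759

universe u v

/-- the statement of I1 -/
def ExtStmt : Prop :=
  ∀ {p : ℕ} [Fact p.Prime] {G₀ : Type v} [Group G₀] [Finite G₀] (T : Sylow p G₀) {S : Type u}
    [Group S] [Finite S] (_ : IsPGroup p S) (θ : S →* G₀) (_ : θ.range = (T : Subgroup G₀))
    (_ : θ.ker ≤ Subgroup.center S)
    (_ : ∀ g : G₀, ∃ φ : ↥(((T : Subgroup G₀) ⊓ cj g⁻¹ (T : Subgroup G₀)).comap θ) →* S,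
      (∀ s : ↥(((T : Subgroup G₀) ⊓ cj g⁻¹ (T : Subgroup G₀)).comap θ), θ (φ s) = g * θ (s : S) * g⁻¹) ∧
        ∀ s : ↥(((T : Subgroup G₀) ⊓ cj g⁻¹ (T : Subgroup G₀)).comap θ), θ (s : S) = 1 → φ s = (s : S)),
    ∃ (L : Type (max v u)) (_ : Group L) (_ : Finite L) (π : L →* G₀) (ι : S →* L), Function.Surjective π ∧
      Function.Injective ι ∧ π.comp ι = θ ∧ π.ker = θ.ker.map ι ∧ π.ker ≤ Subgroup.center L

/-- the statement of I2 -/
def BridgeStmt : Prop :=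
  ∀ {p : ℕ} [Fact p.Prime] {W : Type u} [Group W] {S : Subgroup W} [Finite S] (_ : IsPGroup p S)
    (F : Cfsg.FusionSystem S) (_ : F.IsSaturated p) (A : Subgroup W) (_ : F.IsCentral A)
    {L : Type (max v u)} [Group L] [Finite L] (ι : S →* L) (_ : Function.Injective ι)
    (T : Sylow p L) (_ : (T : Subgroup L) = ι.range) (_ : (A.subgroupOf S).map ι ≤ Subgroup.center L)
    (_ : ∀ (P : Subgroup W) (hP : P ≤ S) (φ : P →* W) (hφS : ∀ s : P, φ s ∈ S), A ≤ P → φ ∈ F.Hom P →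
      ∃ l : L, ∀ s : P, (l * ι ⟨s, hP s.2⟩ * l⁻¹)⁻¹ * ι ⟨φ s, hφS s⟩ ∈ (A.subgroupOf S).map ι)
    (_ : ∀ (P : Subgroup W) (hP : P ≤ S), A ≤ P → ∀ l : L, (∀ s : P, l * ι ⟨s, hP s.2⟩ * l⁻¹ ∈ ι.range) →
      ∃ (φ : P →* W) (hφS : ∀ s : P, φ s ∈ S), φ ∈ F.Hom P ∧
        ∀ s : P, (l * ι ⟨s, hP s.2⟩ * l⁻¹)⁻¹ * ι ⟨φ s, hφS s⟩ ∈ (A.subgroupOf S).map ι),
    F.IsRealizable p

section Setup

variable {W : Type u} [Group W] {S : Subgroup W} {F : FusionSystem S} {A : Subgroup W}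
  {W' : Type v} [Group W'] {S' : Subgroup W'} {θ : ↥S →* W'} {E : FusionSystem S'}

/-- a map of the system fixes the elements of the central subgroup `A` -/
theorem apply_of_central (hA : F.IsCentral A) {P : Subgroup W} {φ : P →* W} (hφ : φ ∈ F.Hom P)
    (a : P) (ha : (a : W) ∈ A) : φ a = a := by
  obtain ⟨ψ, hψ, h1, h2⟩ := hA.2 P φ hφ
  rw [← h1 a]
  exact h2 ⟨a, ha⟩

/-- the preimage of the image -/
theorem preimage_image (hE : F.IsFactorSystem A θ E) {P : Subgroup W} (hP : P ≤ S) (hAP : A ≤ P) :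
    preimageAlong θ (imageAlong θ P) = P := by
  apply le_antisymm
  · intro y hy
    obtain ⟨hyS, hy'⟩ := mem_preimageAlong.1 hy
    obtain ⟨r, hr, hrR, hry⟩ := mem_imageAlong.1 hy'
    have h1 := (theta_eq_iff hE).1 hry
    have h2 : y = r * (r⁻¹ * y) := by group
    rw [h2]
    exact mul_mem hrR (hAP h1)
  · intro y hy
    exact mem_preimageAlong.2 ⟨hP hy, mem_imageAlong.2 ⟨y, hP hy, hy, rfl⟩⟩

variable {G₀ : Type v} [Group G₀] {ι₀ : S' →* G₀}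

/-- the conjugation map of the realizing group on a subgroup of `S'` -/
theorem exists_conj (hr : E.IsRealizedBy ι₀) {P' : Subgroup W'} (hP' : P' ≤ S') (g : G₀)
    (hg : ∀ x : P', g * ι₀ ⟨x, hP' x.2⟩ * g⁻¹ ∈ ι₀.range) :
    ∃ (φ' : P' →* W') (hφ' : ∀ x : P', φ' x ∈ S'), φ' ∈ E.Hom P' ∧
      ∀ x : P', ι₀ ⟨φ' x, hφ' x⟩ = g * ι₀ ⟨x, hP' x.2⟩ * g⁻¹ := by
  choose f hf using hg
  let φ' : P' →* W' :=
    { toFun := fun x => (f x : W')
      map_one' := by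
        have : f 1 = 1 := by
          apply hr.1
          rw [hf, map_one]
          have h1 : (⟨((1 : P') : W'), hP' (1 : P').2⟩ : S') = 1 := rfl
          rw [h1, map_one]
          group
        rw [this]
        rfl
      map_mul' := fun x y => by
        have : f (x * y) = f x * f y := by
          apply hr.1
          rw [hf, map_mul, hf, hf]
          have h1 : (⟨((x * y : P') : W'), hP' (x * y).2⟩ : S') = ⟨x, hP' x.2⟩ * ⟨y, hP' y.2⟩ := rfl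
          rw [h1, map_mul]
          group
        rw [this]
        rfl }
  refine ⟨φ', fun x => (f x).2, ?_, hf⟩
  exact (hr.2 P' hP' φ' (fun x => (f x).2)).2 ⟨g, hf⟩

end Setup

/-- **I3**, from I1 and I2 -/
theorem realizable_of_factor_aux (hext : ExtStmt.{u, v}) (hbr : BridgeStmt.{u, v}) (p : ℕ) [Fact p.Prime]
    {W : Type u} [Group W] {S : Subgroup W} [Finite S]
    (hS : IsPGroup p S) (F : Cfsg.FusionSystem S) (hF : F.IsSaturated p) (A : Subgroup W) (hA : F.IsCentral A)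
    {W' : Type v} [Group W'] {S' : Subgroup W'} (θ : ↥S →* W') (E : Cfsg.FusionSystem S')
    (hE : F.IsFactorSystem A θ E) (hr : E.IsRealizable p) : F.IsRealizable p := by
  obtain ⟨G₀, _, _, ι₀, hι₀, T, hT⟩ := hr
  have hθS : ∀ s : S, θ s ∈ S' := fun s => by rw [← hE.2.2.1]; exact ⟨s, rfl⟩
  let θ₀ : S →* G₀ := ι₀.comp (θ.codRestrict S' hθS)
  have hθ₀ : ∀ s : S, θ₀ s = ι₀ ⟨θ s, hθS s⟩ := fun _ => rfl
  have hker : ∀ s : S, θ₀ s = 1 ↔ (s : W) ∈ A := by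
    intro s
    rw [← hE.2.1 s, hθ₀, ← map_one ι₀, hι₀.1.eq_iff]
    exact Subtype.ext_iff
  have hkerA : θ₀.ker = A.subgroupOf S := by
    ext s
    rw [MonoidHom.mem_ker, hker, Subgroup.mem_subgroupOf]
  have hrange : θ₀.range = ι₀.range := by
    apply le_antisymm
    · rintro _ ⟨s, rfl⟩
      exact ⟨_, rfl⟩
    · rintro _ ⟨⟨y, hy⟩, rfl⟩
      have hy' := hy
      rw [← hE.2.2.1] at hy'
      obtain ⟨s, rfl⟩ := hy'
      exact ⟨s, rfl⟩
  -- the kernel is central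
  have hcenter : θ₀.ker ≤ Subgroup.center S := by
    intro a ha
    rw [Subgroup.mem_center_iff]
    intro g
    have h1 : conjHom S (g : W) ∈ F.Hom S := F.conj_mem le_rfl g.2
    have h2 := apply_of_central hA h1 a ((hker a).1 ha)
    apply Subtype.ext
    change (g : W) * (a : W) = a * g
    have h3 : (g : W) * (a : W) * (g : W)⁻¹ = a := h2
    rw [mul_inv_eq_iff_eq_mul] at h3
    exact h3
  -- stability
  have hst : ∀ g : G₀, ∃ φ : ↥(((T : Subgroup G₀) ⊓ cj g⁻¹ (T : Subgroup G₀)).comap θ₀) →* S,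
      (∀ s : ↥(((T : Subgroup G₀) ⊓ cj g⁻¹ (T : Subgroup G₀)).comap θ₀), θ₀ (φ s) = g * θ₀ (s : S) * g⁻¹) ∧
        ∀ s : ↥(((T : Subgroup G₀) ⊓ cj g⁻¹ (T : Subgroup G₀)).comap θ₀), θ₀ (s : S) = 1 → φ s = (s : S) := by
    intro g
    set Q : Subgroup S := ((T : Subgroup G₀) ⊓ cj g⁻¹ (T : Subgroup G₀)).comap θ₀ with hQ
    -- the subgroup of `W'`
    let P' : Subgroup W' := Q.map θ
    have hP' : P' ≤ S' := by
      rintro _ ⟨s, -, rfl⟩
      exact hθS s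
    have hg : ∀ x : P', g * ι₀ ⟨x, hP' x.2⟩ * g⁻¹ ∈ ι₀.range := by
      rintro ⟨_, ⟨s, hs, rfl⟩⟩
      have h1 : θ₀ s ∈ cj g⁻¹ (T : Subgroup G₀) := hs.2
      obtain ⟨t, ht, htg⟩ := h1
      rw [← hT]
      have h2 : g⁻¹ * t * (g⁻¹)⁻¹ = θ₀ s := htg
      have h3 : g * θ₀ s * g⁻¹ = t := by rw [← h2]; group
      change g * θ₀ s * g⁻¹ ∈ _
      rw [h3]
      exact ht
    obtain ⟨φ', hφ'S, hφ', hφ'g⟩ := exists_conj hι₀ hP' g hg
    obtain ⟨φ, hφ, h⟩ := exists_map_of_factor hE hφ'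
    have hmem : ∀ s : Q, ((s : S) : W) ∈ preimageAlong θ P' := by
      intro s
      exact mem_preimageAlong.2 ⟨(s : S).2, ⟨s, s.2, rfl⟩⟩
    have hφS := (F.le_of_mem hφ).2
    refine ⟨
      { toFun := fun s => ⟨φ ⟨((s : S) : W), hmem s⟩, hφS _⟩
        map_one' := Subtype.ext (by
          change φ ⟨_, _⟩ = 1
          rw [← map_one φ]
          rfl)
        map_mul' := fun s t => Subtype.ext (by
          change φ ⟨_, _⟩ = φ ⟨_, _⟩ * φ ⟨_, _⟩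
          rw [← map_mul φ]
          rfl) }, ?_, ?_⟩
    · intro s
      have h1 := h ((s : S) : W) (hmem s) (s : S).2 ⟨s, s.2, rfl⟩ (hφS _)
      have h2 := hφ'g ⟨θ (s : S), ⟨s, s.2, rfl⟩⟩
      change ι₀ ⟨θ ⟨φ ⟨((s : S) : W), hmem s⟩, hφS _⟩, _⟩ = g * ι₀ ⟨θ (s : S), _⟩ * g⁻¹
      rw [← h2]
      congr 1
      exact Subtype.ext h1.symm
    · intro s hs
      apply Subtype.ext
      exact apply_of_central hA hφ ⟨((s : S) : W), hmem s⟩ ((hker s).1 hs)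
  obtain ⟨L, _, _, π, ι, hπ, hι, hπι, hπker, hπc⟩ := hext T hS θ₀ (hrange.trans hT.symm) hcenter hst
  have hπι' : ∀ s : S, π (ι s) = θ₀ s := fun s => DFunLike.congr_fun hπι s
  rw [hkerA] at hπker
  -- the Sylow subgroup of `L`
  have hιr : ι.range = (T : Subgroup G₀).comap π := by
    apply le_antisymm
    · rintro _ ⟨s, rfl⟩
      rw [Subgroup.mem_comap, hπι', hT, ← hrange]
      exact ⟨s, rfl⟩
    · intro x hx
      rw [Subgroup.mem_comap, hT, ← hrange] at hx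
      obtain ⟨s, hs⟩ := hx
      have h1 : x * (ι s)⁻¹ ∈ π.ker := by
        rw [MonoidHom.mem_ker, map_mul, map_inv, hπι', hs, mul_inv_cancel]
      rw [hπker] at h1
      obtain ⟨a, -, ha⟩ := h1
      refine ⟨a * s, ?_⟩
      rw [map_mul, ha]
      group
  have hιp : IsPGroup p ι.range := hS.of_surjective ι.rangeRestrict ι.rangeRestrict_surjective
  have hind : ¬ p ∣ ι.range.index := by
    rw [hιr, Subgroup.index_comap_of_surjective _ hπ]
    exact T.not_dvd_index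
  let TL : Sylow p L := hιp.toSylow hind
  refine hbr hS F hF A hA ι hι TL rfl ?_ ?_ ?_
  · rw [← hπker]
    exact hπc
  · -- h1
    intro P hP φ hφS hAP hφ
    have hst' : F.StronglyClosed A := by
      refine ⟨hA.1, fun R hR ψ hψ x => ?_⟩
      rw [apply_of_central hA hψ x (hR x.2)]
      exact hR x.2
    have hle : imageAlong θ P ≤ S' := by rw [← hE.2.2.1]; exact imageAlong_le_range
    obtain ⟨φ', hφ', h⟩ := exists_factor_map hst' hE hφ hle (preimage_image hE hP hAP).le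
    have hφ'S := (E.le_of_mem hφ').2
    obtain ⟨g, hg⟩ := (hι₀.2 _ hle φ' hφ'S).1 hφ'
    obtain ⟨l, rfl⟩ := hπ g
    refine ⟨l, fun s => ?_⟩
    rw [← hπker, MonoidHom.mem_ker, map_mul, map_inv, map_mul, map_mul, map_inv, hπι', hπι', inv_mul_eq_one]
    have hsi : θ ⟨s, hP s.2⟩ ∈ imageAlong θ P := mem_imageAlong.2 ⟨s, hP s.2, s.2, rfl⟩
    have h1 := h s s.2 (hP s.2) hsi (hφS s)
    have h2 := hg ⟨θ ⟨s, hP s.2⟩, hsi⟩
    rw [hθ₀, hθ₀, ← h2]
    congr 1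
    exact Subtype.ext h1
  · -- h2
    intro P hP hAP l hl
    have hle : imageAlong θ P ≤ S' := by rw [← hE.2.2.1]; exact imageAlong_le_range
    have hg : ∀ x : ↥(imageAlong θ P), π l * ι₀ ⟨x, hle x.2⟩ * (π l)⁻¹ ∈ ι₀.range := by
      rintro ⟨_, hx⟩
      obtain ⟨s, hsS, hs, rfl⟩ := mem_imageAlong.1 hx
      obtain ⟨t, ht⟩ := hl ⟨s, hs⟩
      rw [← hrange]
      refine ⟨t, ?_⟩
      rw [← hπι', ht, map_mul, map_mul, map_inv, hπι']
      rfl
    obtain ⟨φ', hφ'S, hφ', hφ'g⟩ := exists_conj hι₀ hle (π l) hg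
    obtain ⟨φ, hφ, h⟩ := exists_map_of_factor hE hφ'
    have hpre := (preimage_image hE hP hAP).symm
    generalize preimageAlong θ (imageAlong θ P) = Q at hpre φ hφ h
    subst hpre
    have hφS := (F.le_of_mem hφ).2
    refine ⟨φ, hφS, hφ, fun s => ?_⟩
    rw [← hπker, MonoidHom.mem_ker, map_mul, map_inv, map_mul, map_mul, map_inv, hπι', hπι', inv_mul_eq_one]
    have hsi : θ ⟨s, hP s.2⟩ ∈ imageAlong θ P := mem_imageAlong.2 ⟨s, hP s.2, s.2, rfl⟩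
    have h1 := h s s.2 (hP s.2) hsi (hφS s)
    have h2 := hφ'g ⟨θ ⟨s, hP s.2⟩, hsi⟩
    rw [hθ₀, hθ₀, ← h2]
    congr 1
    exact Subtype.ext h1

end Cfsg.Agent.H269.Lim
end

-- part: H544/Lim/Ext
section
/-!
# S5242, piece I1: the central extension with given Sylow subgroup (stable classes in degree 2) (helper544)

`θ : S → G₀` a homomorphism onto the Sylow subgroup `T` with central kernel `A`, stable.  `W = (Ω → S) ⋊ G₀`,
`Ω = G₀ / T`; `E ≤ W` the preimage of the monomial image of `G₀` in `(Ω → T) ⋊ G₀` (representatives `r`), an extension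
of `G₀` by `Ω → A`; `L = E / N`, `N` the functions `Ω → A` with product `1`.  The stability gives a monomial
homomorphism `S → E`, `a ↦ (a, .., a)` for `a ∈ A`, and `|Ω|` is prime to `|S|`.
-/

set_option autoImplicit false

namespace Cfsg.Agent.H544.Lim

open Cfsg.Agent.H539.Lim
open scoped IsMulCommutative

universe u v

section wr

variable (G₀ : Type u) [Group G₀] (Ω : Type u) [MulAction G₀ Ω] (S : Type v) [Group S]

/-- the action of `G₀` on the functions `Ω → S` -/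
def actF : G₀ →* MulAut (Ω → S) where
  toFun g :=
    { toFun := fun f ω => f (g⁻¹ • ω)
      invFun := fun f ω => f (g • ω)
      left_inv := fun f => by funext ω; simp
      right_inv := fun f => by funext ω; simp
      map_mul' := fun _ _ => rfl }
  map_one' := by
    ext f ω
    simp
  map_mul' g g' := by
    ext f ω
    simp [mul_smul]

/-- the wreath product -/
abbrev Wr : Type (max u v) := (Ω → S) ⋊[actF G₀ Ω S] G₀

variable {G₀ Ω S}

theorem wr_mul_left (x y : Wr G₀ Ω S) (ω : Ω) : (x * y).left ω = x.left ω * y.left (x.right⁻¹ • ω) := rfl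

theorem wr_inv_left (x : Wr G₀ Ω S) (ω : Ω) : (x⁻¹).left ω = (x.left (x.right • ω))⁻¹ := by
  show (x.left ((x.right⁻¹)⁻¹ • ω))⁻¹ = _
  rw [inv_inv]

/-- the preimage of the monomial image of `G₀` -/
def EE (θ : S →* G₀) (r : Ω → G₀) : Subgroup (Wr G₀ Ω S) where
  carrier := {x | ∀ ω, θ (x.left ω) = (r ω)⁻¹ * x.right * r (x.right⁻¹ • ω)}
  one_mem' := by
    intro ω
    show θ 1 = (r ω)⁻¹ * 1 * r ((1 : G₀)⁻¹ • ω)
    rw [map_one, inv_one, one_smul, mul_one, inv_mul_cancel]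
  mul_mem' := by
    intro x y hx hy ω
    rw [wr_mul_left, SemidirectProduct.mul_right, map_mul, hx, hy, mul_inv_rev, mul_smul]
    group
  inv_mem' := by
    intro x hx ω
    rw [wr_inv_left, SemidirectProduct.inv_right, map_inv, hx, inv_inv, inv_smul_smul]
    group

end wr

/-- **the construction of the extension from the monomial representation `f`** -/
theorem ext_of {G₀ : Type u} [Group G₀] [Finite G₀] {Ω : Type u} [Finite Ω] [MulAction G₀ Ω] {S : Type v}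
    [Group S] [Finite S] (θ : S →* G₀) (hker : θ.ker ≤ Subgroup.center S) (r : Ω → G₀)
    (hr : ∀ g ω, (r ω)⁻¹ * g * r (g⁻¹ • ω) ∈ θ.range) (hcop : (Nat.card S).Coprime (Nat.card Ω))
    (f : S → Ω → S) (hf : ∀ s s' ω, f (s * s') ω = f s ω * f s' ((θ s)⁻¹ • ω))
    (hfθ : ∀ s ω, θ (f s ω) = (r ω)⁻¹ * θ s * r ((θ s)⁻¹ • ω)) (hfa : ∀ s, θ s = 1 → ∀ ω, f s ω = s) :
    ∃ (L : Type (max u v)) (_ : Group L) (_ : Finite L) (π : L →* G₀) (ι : S →* L), Function.Surjective π ∧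
      Function.Injective ι ∧ π.comp ι = θ ∧ π.ker = θ.ker.map ι ∧ π.ker ≤ Subgroup.center L := by
  classical
  have : Fintype Ω := Fintype.ofFinite Ω
  have hfinW : Finite (Wr G₀ Ω S) :=
    Finite.of_injective (fun x : Wr G₀ Ω S => (x.left, x.right)) fun x y hxy =>
      SemidirectProduct.ext (congrArg Prod.fst hxy) (congrArg Prod.snd hxy)
  let E : Subgroup (Wr G₀ Ω S) := EE θ r
  -- the kernel
  let N : Subgroup E :=
    { carrier := {x | (x : Wr G₀ Ω S).right = 1 ∧ ∃ a : Ω → Subgroup.center S,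
        (∀ ω, (x : Wr G₀ Ω S).left ω = a ω) ∧ ∏ ω, a ω = 1}
      one_mem' := ⟨rfl, fun _ => 1, fun ω => rfl, Finset.prod_const_one⟩
      mul_mem' := by
        rintro x y ⟨hx, a, ha, ha1⟩ ⟨hy, b, hb, hb1⟩
        refine ⟨?_, fun ω => a ω * b ω, fun ω => ?_, ?_⟩
        · show (x : Wr G₀ Ω S).right * (y : Wr G₀ Ω S).right = 1
          rw [hx, hy, mul_one]
        · show ((x : Wr G₀ Ω S) * (y : Wr G₀ Ω S)).left ω = _
          rw [wr_mul_left, hx, inv_one, one_smul, ha, hb]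
          rfl
        · rw [Finset.prod_mul_distrib, ha1, hb1, mul_one]
      inv_mem' := by
        rintro x ⟨hx, a, ha, ha1⟩
        refine ⟨?_, fun ω => (a ω)⁻¹, fun ω => ?_, ?_⟩
        · show ((x : Wr G₀ Ω S).right)⁻¹ = 1
          rw [hx, inv_one]
        · show ((x : Wr G₀ Ω S)⁻¹).left ω = _
          rw [wr_inv_left, hx, one_smul, ha]
          rfl
        · rw [Finset.prod_inv_distrib, ha1, inv_one] }
  have hN : N.Normal := by
    refine ⟨?_⟩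
    rintro x ⟨hx, a, ha, ha1⟩ e
    refine ⟨?_, fun ω => a ((e : Wr G₀ Ω S).right⁻¹ • ω), fun ω => ?_, ?_⟩
    · show (e : Wr G₀ Ω S).right * (x : Wr G₀ Ω S).right * ((e : Wr G₀ Ω S).right)⁻¹ = 1
      rw [hx, mul_one, mul_inv_cancel]
    · show ((e : Wr G₀ Ω S) * (x : Wr G₀ Ω S) * (e : Wr G₀ Ω S)⁻¹).left ω = _
      rw [wr_mul_left, wr_mul_left, wr_inv_left, SemidirectProduct.mul_right, hx, mul_one, smul_inv_smul, ha,
        (Subgroup.mem_center_iff.1 (a ((e : Wr G₀ Ω S).right⁻¹ • ω)).2 ((e : Wr G₀ Ω S).left ω)),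
        mul_inv_cancel_right]
    · rw [← ha1]
      exact Fintype.prod_equiv (MulAction.toPerm ((e : Wr G₀ Ω S).right⁻¹)) _ _ fun ω => rfl
  let π : E ⧸ N →* G₀ := QuotientGroup.lift N (SemidirectProduct.rightHom.comp E.subtype) fun x hx => hx.1
  let ι₀ : S →* E :=
    { toFun := fun s => ⟨⟨f s, θ s⟩, hfθ s⟩
      map_one' := by
        apply Subtype.ext
        refine SemidirectProduct.ext ?_ ?_
        · funext ω
          exact hfa 1 (map_one θ) ω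
        · exact map_one θ
      map_mul' := fun s s' => by
        apply Subtype.ext
        refine SemidirectProduct.ext ?_ ?_
        · funext ω
          exact hf s s' ω
        · exact map_mul θ s s' }
  let ι : S →* E ⧸ N := (QuotientGroup.mk' N).comp ι₀
  have hπι : π.comp ι = θ := by
    ext s
    rfl
  have hcent : ∀ a ∈ θ.ker, ι a ∈ Subgroup.center (E ⧸ N) := by
    intro a ha
    rw [Subgroup.mem_center_iff]
    intro z
    obtain ⟨e, rfl⟩ := QuotientGroup.mk_surjective z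
    have ha' : θ a = 1 := ha
    have h1 : e * ι₀ a = ι₀ a * e := by
      apply Subtype.ext
      refine SemidirectProduct.ext ?_ ?_
      · funext ω
        show ((e : Wr G₀ Ω S) * (ι₀ a : Wr G₀ Ω S)).left ω = ((ι₀ a : Wr G₀ Ω S) * (e : Wr G₀ Ω S)).left ω
        rw [wr_mul_left, wr_mul_left]
        show (e : Wr G₀ Ω S).left ω * f a _ = f a ω * (e : Wr G₀ Ω S).left ((θ a)⁻¹ • ω)
        rw [hfa a ha', hfa a ha', ha', inv_one, one_smul]
        exact Subgroup.mem_center_iff.1 (hker ha) _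
      · show (e : Wr G₀ Ω S).right * θ a = θ a * (e : Wr G₀ Ω S).right
        rw [ha', one_mul, mul_one]
    show (e : E ⧸ N) * (ι₀ a : E ⧸ N) = (ι₀ a : E ⧸ N) * (e : E ⧸ N)
    rw [← QuotientGroup.mk_mul, ← QuotientGroup.mk_mul, h1]
  have hkerπ : π.ker = θ.ker.map ι := by
    apply le_antisymm
    · intro x hx
      obtain ⟨e, rfl⟩ := QuotientGroup.mk_surjective x
      have he : (e : Wr G₀ Ω S).right = 1 := hx
      have hθe : ∀ ω, θ ((e : Wr G₀ Ω S).left ω) = 1 := by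
        intro ω
        have h1 : θ ((e : Wr G₀ Ω S).left ω) = (r ω)⁻¹ * (e : Wr G₀ Ω S).right * r ((e : Wr G₀ Ω S).right⁻¹ • ω) := e.2 ω
        rw [h1, he, inv_one, one_smul, mul_one, inv_mul_cancel]
      let a : Ω → Subgroup.center S := fun ω => ⟨(e : Wr G₀ Ω S).left ω, hker (hθe ω)⟩
      let K : Subgroup (Subgroup.center S) := (θ.comp (Subgroup.center S).subtype).ker
      have hbK : ∏ ω, a ω ∈ K := Subgroup.prod_mem K fun ω _ => hθe ω
      have hcopK : (Nat.card K).Coprime (Nat.card Ω) :=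
        Nat.Coprime.coprime_dvd_left ((Subgroup.card_subgroup_dvd_card K).trans
          (Subgroup.card_subgroup_dvd_card (Subgroup.center S))) hcop
      obtain ⟨c, hc⟩ : ∃ c : K, c ^ Nat.card Ω = ⟨∏ ω, a ω, hbK⟩ := (powCoprime hcopK).surjective _
      have hc' : (c : Subgroup.center S) ^ Nat.card Ω = ∏ ω, a ω := congrArg Subtype.val hc
      have hθc : θ ((c : Subgroup.center S) : S) = 1 := c.2
      refine ⟨((c : Subgroup.center S) : S), hθc, ?_⟩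
      show (ι₀ ((c : Subgroup.center S) : S) : E ⧸ N) = (e : E ⧸ N)
      rw [QuotientGroup.eq, ← map_inv]
      have hθci : θ (((c : Subgroup.center S) : S)⁻¹) = 1 := by rw [map_inv, hθc, inv_one]
      refine ⟨?_, fun ω => (c : Subgroup.center S)⁻¹ * a ω, fun ω => ?_, ?_⟩
      · show θ (((c : Subgroup.center S) : S)⁻¹) * (e : Wr G₀ Ω S).right = 1
        rw [he, hθci, mul_one]
      · show f (((c : Subgroup.center S) : S)⁻¹) ω *
          (e : Wr G₀ Ω S).left ((θ (((c : Subgroup.center S) : S)⁻¹))⁻¹ • ω) = _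
        rw [hfa _ hθci, hθci, inv_one, one_smul]
        rfl
      · rw [Finset.prod_mul_distrib, Finset.prod_const, Finset.card_univ, ← Nat.card_eq_fintype_card, inv_pow, hc',
          inv_mul_cancel]
    · rintro _ ⟨a, ha, rfl⟩
      show (π.comp ι) a = 1
      rw [hπι]
      exact ha
  refine ⟨E ⧸ N, inferInstance, inferInstance, π, ι, ?_, ?_, hπι, hkerπ, ?_⟩
  · intro g
    choose l hl using fun ω => hr g ω
    exact ⟨((⟨⟨l, g⟩, hl⟩ : E) : E ⧸ N), rfl⟩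
  · rw [injective_iff_map_eq_one]
    intro s hs
    have h1 : ι₀ s ∈ N := (QuotientGroup.eq_one_iff _).1 hs
    obtain ⟨h2, a, ha, ha1⟩ := h1
    have h3 : θ s = 1 := h2
    have h4 : ∀ ω, (a ω : S) = s := fun ω => by
      rw [← ha ω]
      exact hfa s h3 ω
    have h5 : s ^ Nat.card Ω = 1 := by
      have h6 : a = fun _ => (⟨s, hker h3⟩ : Subgroup.center S) := funext fun ω => Subtype.ext (h4 ω)
      rw [h6, Finset.prod_const, Finset.card_univ, ← Nat.card_eq_fintype_card] at ha1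
      exact congrArg Subtype.val ha1
    have h6 : orderOf s ∣ 1 := by
      rw [← hcop]
      exact Nat.dvd_gcd (orderOf_dvd_natCard s) (orderOf_dvd_of_pow_eq_one h5)
    exact orderOf_eq_one_iff.1 (Nat.dvd_one.1 h6)
  · rw [hkerπ]
    rintro _ ⟨a, ha, rfl⟩
    exact hcent a ha

/-- **the monomial homomorphism of `S`** -/
theorem exists_mono {G₀ : Type u} [Group G₀] (T : Subgroup G₀) {S : Type v} [Group S] (θ : S →* G₀)
    (hθ : θ.range = T) (hker : θ.ker ≤ Subgroup.center S)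
    (hst : ∀ g : G₀, ∃ φ : ↥((T ⊓ cj g⁻¹ T).comap θ) →* S,
      (∀ s : ↥((T ⊓ cj g⁻¹ T).comap θ), θ (φ s) = g * θ (s : S) * g⁻¹) ∧
        ∀ s : ↥((T ⊓ cj g⁻¹ T).comap θ), θ (s : S) = 1 → φ s = (s : S)) :
    ∃ (r : G₀ ⧸ T → G₀) (f : S → G₀ ⧸ T → S), (∀ g ω, (r ω)⁻¹ * g * r (g⁻¹ • ω) ∈ θ.range) ∧
      (∀ s s' ω, f (s * s') ω = f s ω * f s' ((θ s)⁻¹ • ω)) ∧
      (∀ s ω, θ (f s ω) = (r ω)⁻¹ * θ s * r ((θ s)⁻¹ • ω)) ∧ ∀ s, θ s = 1 → ∀ ω, f s ω = s := by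
  classical
  have hT : ∀ s, θ s ∈ T := fun s => by rw [← hθ]; exact ⟨s, rfl⟩
  let ρ : G₀ ⧸ T → G₀ := Quotient.out
  have hρ : ∀ ω, ((ρ ω : G₀) : G₀ ⧸ T) = ω := fun ω => Quotient.out_eq' ω
  -- the local homomorphisms
  have hΦ : ∀ ω : G₀ ⧸ T, ∃ Φ : S → S, (∀ s s', θ s • ω = ω → θ s' • ω = ω → Φ (s * s') = Φ s * Φ s') ∧
      (∀ s, θ s • ω = ω → θ (Φ s) = (ρ ω)⁻¹ * θ s * ρ ω) ∧ ∀ s, θ s = 1 → Φ s = s := by
    intro ω
    obtain ⟨φ, h1, h2⟩ := hst (ρ ω)⁻¹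
    have hdom : ∀ s, θ s • ω = ω → s ∈ (T ⊓ cj (ρ ω)⁻¹⁻¹ T).comap θ := by
      intro s hs
      refine ⟨hT s, ?_⟩
      have h3 : ((ρ ω : G₀) : G₀ ⧸ T) = ((θ s * ρ ω : G₀) : G₀ ⧸ T) := by
        rw [hρ]
        conv_lhs => rw [← hs]
        conv_lhs => rw [← hρ ω]
        rfl
      rw [QuotientGroup.eq] at h3
      refine ⟨(ρ ω)⁻¹ * (θ s * ρ ω), h3, ?_⟩
      show (ρ ω)⁻¹⁻¹ * ((ρ ω)⁻¹ * (θ s * ρ ω)) * ((ρ ω)⁻¹⁻¹)⁻¹ = θ s
      group
    let Ψ : S → S := fun s => if h : s ∈ (T ⊓ cj (ρ ω)⁻¹⁻¹ T).comap θ then φ ⟨s, h⟩ else 1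
    have hΨ : ∀ s (hs : θ s • ω = ω), Ψ s = φ ⟨s, hdom s hs⟩ := fun s hs => dif_pos (hdom s hs)
    refine ⟨Ψ, ?_, ?_, ?_⟩
    · intro s s' hs hs'
      have hss : θ (s * s') • ω = ω := by rw [map_mul, mul_smul, hs', hs]
      rw [hΨ _ hss, hΨ _ hs, hΨ _ hs', ← map_mul]
      rfl
    · intro s hs
      rw [hΨ _ hs]
      calc θ (φ ⟨s, hdom s hs⟩) = (ρ ω)⁻¹ * θ s * (ρ ω)⁻¹⁻¹ := h1 _
        _ = (ρ ω)⁻¹ * θ s * ρ ω := by group
    · intro s hs
      have hs' : θ s • ω = ω := by rw [hs, one_smul]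
      rw [hΨ _ hs']
      exact h2 _ hs
  choose Φ hΦ1 hΦ2 hΦ3 using hΦ
  -- the representatives of the orbits
  let rep : G₀ ⧸ T → G₀ ⧸ T := fun ω => (Quotient.mk (MulAction.orbitRel T (G₀ ⧸ T)) ω).out
  have hrep1 : ∀ ω, ∃ u : S, θ u • rep ω = ω := by
    intro ω
    have h1 : (MulAction.orbitRel T (G₀ ⧸ T)) (rep ω) ω := Quotient.mk_out ω
    obtain ⟨t, ht⟩ := h1
    obtain ⟨u, hu⟩ : ((t⁻¹ : T) : G₀) ∈ θ.range := by rw [hθ]; exact (t⁻¹).2
    refine ⟨u, ?_⟩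
    rw [hu, ← ht]
    show (t⁻¹ : T) • (t • ω) = ω
    exact inv_smul_smul t ω
  have hrep2 : ∀ (s : S) ω, rep (θ s • ω) = rep ω := by
    intro s ω
    have h1 : (Quotient.mk (MulAction.orbitRel T (G₀ ⧸ T)) (θ s • ω)) =
        Quotient.mk (MulAction.orbitRel T (G₀ ⧸ T)) ω := Quotient.sound ⟨⟨θ s, hT s⟩, rfl⟩
    show Quotient.out _ = Quotient.out _
    rw [h1]
  have hrep2' : ∀ (s : S) ω, rep ((θ s)⁻¹ • ω) = rep ω := by
    intro s ω
    rw [← map_inv]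
    exact hrep2 _ _
  choose u hu using hrep1
  have huinv : ∀ ω, (θ (u ω))⁻¹ • ω = rep ω := by
    intro ω
    rw [inv_smul_eq_iff]
    exact (hu ω).symm
  -- the element of the stabilizer of the representative
  have hstab : ∀ (s : S) ω, θ ((u ω)⁻¹ * s * u ((θ s)⁻¹ • ω)) • rep ω = rep ω := by
    intro s ω
    rw [map_mul, map_mul, map_inv, mul_smul, mul_smul]
    have h1 := hu ((θ s)⁻¹ • ω)
    rw [hrep2'] at h1
    rw [h1, smul_inv_smul, huinv]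
  let r : G₀ ⧸ T → G₀ := fun ω => θ (u ω) * ρ (rep ω)
  have hr : ∀ ω, ((r ω : G₀) : G₀ ⧸ T) = ω := by
    intro ω
    show ((θ (u ω) * ρ (rep ω) : G₀) : G₀ ⧸ T) = ω
    have h1 : ((θ (u ω) * ρ (rep ω) : G₀) : G₀ ⧸ T) = θ (u ω) • ((ρ (rep ω) : G₀) : G₀ ⧸ T) := rfl
    rw [h1, hρ, hu]
  refine ⟨r, fun s ω => Φ (rep ω) ((u ω)⁻¹ * s * u ((θ s)⁻¹ • ω)), ?_, ?_, ?_, ?_⟩
  · intro g ω
    rw [hθ, mul_assoc, ← QuotientGroup.eq, hr]
    have h1 : ((g * r (g⁻¹ • ω) : G₀) : G₀ ⧸ T) = g • ((r (g⁻¹ • ω) : G₀) : G₀ ⧸ T) := rfl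
    rw [h1, hr, smul_inv_smul]
  · intro s s' ω
    show Φ (rep ω) ((u ω)⁻¹ * (s * s') * u ((θ (s * s'))⁻¹ • ω)) =
      Φ (rep ω) ((u ω)⁻¹ * s * u ((θ s)⁻¹ • ω)) *
        Φ (rep ((θ s)⁻¹ • ω)) ((u ((θ s)⁻¹ • ω))⁻¹ * s' * u ((θ s')⁻¹ • (θ s)⁻¹ • ω))
    have h1 := hstab s' ((θ s)⁻¹ • ω)
    rw [hrep2'] at h1 ⊢
    rw [← hΦ1 (rep ω) _ _ (hstab s ω) h1]
    congr 1
    rw [map_mul, mul_inv_rev, mul_smul]
    group
  · intro s ω
    show θ (Φ (rep ω) ((u ω)⁻¹ * s * u ((θ s)⁻¹ • ω))) =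
      (θ (u ω) * ρ (rep ω))⁻¹ * θ s * (θ (u ((θ s)⁻¹ • ω)) * ρ (rep ((θ s)⁻¹ • ω)))
    rw [hΦ2 _ _ (hstab s ω), hrep2', map_mul, map_mul, map_inv]
    group
  · intro s hs ω
    have hsc : s ∈ Subgroup.center S := hker hs
    show Φ (rep ω) ((u ω)⁻¹ * s * u ((θ s)⁻¹ • ω)) = s
    have h1 : (u ω)⁻¹ * s * u ((θ s)⁻¹ • ω) = s := by
      rw [hs, inv_one, one_smul, Subgroup.mem_center_iff.1 hsc, mul_assoc, inv_mul_cancel, mul_one]
    rw [h1]
    exact hΦ3 _ _ hs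

/-- **I1**: the central extension of `G₀` by `A` with Sylow subgroup `S` -/
theorem exists_ext {p : ℕ} [Fact p.Prime] {G₀ : Type u} [Group G₀] [Finite G₀] (T : Sylow p G₀) {S : Type v}
    [Group S] [Finite S] (hS : IsPGroup p S) (θ : S →* G₀) (hθ : θ.range = (T : Subgroup G₀))
    (hker : θ.ker ≤ Subgroup.center S)
    (hst : ∀ g : G₀, ∃ φ : ↥(((T : Subgroup G₀) ⊓ cj g⁻¹ (T : Subgroup G₀)).comap θ) →* S,
      (∀ s : ↥(((T : Subgroup G₀) ⊓ cj g⁻¹ (T : Subgroup G₀)).comap θ), θ (φ s) = g * θ (s : S) * g⁻¹) ∧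
        ∀ s : ↥(((T : Subgroup G₀) ⊓ cj g⁻¹ (T : Subgroup G₀)).comap θ), θ (s : S) = 1 → φ s = (s : S)) :
    ∃ (L : Type (max u v)) (_ : Group L) (_ : Finite L) (π : L →* G₀) (ι : S →* L), Function.Surjective π ∧
      Function.Injective ι ∧ π.comp ι = θ ∧ π.ker = θ.ker.map ι ∧ π.ker ≤ Subgroup.center L := by
  obtain ⟨r, f, h1, h2, h3, h4⟩ := exists_mono (T : Subgroup G₀) θ hθ hker hst
  have hcop : (Nat.card S).Coprime (Nat.card (G₀ ⧸ (T : Subgroup G₀))) := by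
    obtain ⟨k, hk⟩ := IsPGroup.iff_card.1 hS
    rw [hk]
    refine Nat.Coprime.pow_left _ ?_
    rw [(Fact.out : p.Prime).coprime_iff_not_dvd]
    exact T.not_dvd_index
  exact ext_of θ hker r h1 hcop f h2 h3 h4

end Cfsg.Agent.H544.Lim
end

-- part: H877/Lim/Factor
section
/-!
# S5242, pieces I4 and I5: the factor system modulo a central subgroup (helper877)

* `factor_saturated`: the factor system is saturated.
* `factor_realizable`: if `F` is realized by `G` then `F/A` is realized by `C_G(A)/A`.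
-/

set_option autoImplicit false

namespace Cfsg.Agent.H877.Lim

open Cfsg Cfsg.FusionSystem

universe u v

/-- I5 -/
theorem factor_saturated (p : ℕ) [Fact p.Prime] {W : Type u} [Group W] {S : Subgroup W} [Finite S]
    (hS : IsPGroup p S) (F : Cfsg.FusionSystem S) (hF : F.IsSaturated p) (A : Subgroup W) (hA : F.IsCentral A)
    {W' : Type v} [Group W'] {S' : Subgroup W'} (θ : ↥S →* W') (E : Cfsg.FusionSystem S')
    (hE : F.IsFactorSystem A θ E) : E.IsSaturated p :=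
  H759.isSaturated_factor hS hF (H757.IsCentral.stronglyClosed hA) hE

/-- a finite group is isomorphic to a group in any universe -/
theorem exists_equiv (K : Type u) [Group K] [Finite K] :
    ∃ (K' : Type v) (_ : Group K') (_ : Finite K'), Nonempty (K ≃* K') := by
  obtain ⟨n, ⟨e⟩⟩ := Finite.exists_equiv_fin K
  have key : ∀ (K' : Type v) (_ : K' ≃ K), ∃ _ : Group K', Nonempty (K ≃* K') := by
    intro K' e'
    letI := e'.group
    exact ⟨inferInstance, ⟨e'.mulEquiv.symm⟩⟩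
  obtain ⟨g, he⟩ := key (ULift.{v} (Fin n)) (Equiv.ulift.trans e.symm)
  exact ⟨_, g, inferInstance, he⟩

/-- realizability does not depend on the universe of the realizing group -/
theorem isRealizable_of {W : Type v} [Group W] {S : Subgroup W} {F : FusionSystem S} {p : ℕ} [Fact p.Prime]
    {K : Type u} [Group K] [Finite K] (ι : S →* K) (h : F.IsRealizedBy ι) (T : Sylow p K)
    (hT : (T : Subgroup K) = ι.range) : F.IsRealizable p := by
  obtain ⟨K', _, hfin, ⟨e⟩⟩ := exists_equiv.{u, v} K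
  refine ⟨K', _, hfin, e.toMonoidHom.comp ι, ⟨e.injective.comp h.1, fun P hP φ hφ => ?_⟩,
    T.mapSurjective (f := e.toMonoidHom) e.surjective, ?_⟩
  · rw [h.2 P hP φ hφ]
    constructor
    · rintro ⟨g, hg⟩
      refine ⟨e g, fun x => ?_⟩
      show e (ι _) = e g * e (ι _) * (e g)⁻¹
      rw [hg x, map_mul, map_mul, map_inv]
    · rintro ⟨g, hg⟩
      refine ⟨e.symm g, fun x => ?_⟩
      apply e.injective
      rw [map_mul, map_mul, map_inv, e.apply_symm_apply]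
      exact hg x
  · show Subgroup.map e.toMonoidHom (T : Subgroup K) = _
    rw [hT, MonoidHom.range_comp]

/-- I4 -/
theorem factor_realizable (p : ℕ) [Fact p.Prime] {W : Type u} [Group W] {S : Subgroup W} [Finite S]
    (hS : IsPGroup p S) (F : Cfsg.FusionSystem S) (hF : F.IsSaturated p) (A : Subgroup W) (hA : F.IsCentral A)
    {W' : Type v} [Group W'] {S' : Subgroup W'} [Finite S'] (θ : ↥S →* W') (E : Cfsg.FusionSystem S')
    (hE : F.IsFactorSystem A θ E) (hr : F.IsRealizable p) : E.IsRealizable p := by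
  obtain ⟨G, _, _, ι, ⟨hinj, hreal⟩, T, hT⟩ := hr
  obtain ⟨hAS, hker, hrange, hmem⟩ := hE
  -- the image of `A` in `G` and its centralizer
  set A' : Subgroup G := (A.subgroupOf S).map ι with hA'
  set C : Subgroup G := Subgroup.centralizer (A' : Set G) with hC
  have hAc : ∀ a ∈ A, ∀ s ∈ S, s * a * s⁻¹ = a := by
    intro a ha s hs
    exact H757.IsCentral.apply_eq hA (F.conj_mem le_rfl hs) (x := ⟨a, hAS ha⟩) ha
  have hιC : ∀ s : S, ι s ∈ C := by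
    intro s
    rw [hC, Subgroup.mem_centralizer_iff]
    rintro _ ⟨a, ha, rfl⟩
    rw [← map_mul, ← map_mul]
    congr 1
    apply Subtype.ext
    have h1 := hAc a ha s s.2
    show (a : W) * s = s * a
    have h2 : (s : W) * a = (s * a * (s : W)⁻¹) * s := by group
    rw [h2, h1]
  have hA'C : A' ≤ C := by
    rintro _ ⟨a, ha, rfl⟩
    exact hιC a
  -- the quotient
  have hN : (A'.subgroupOf C).Normal := by
    refine ⟨fun n hn g => ?_⟩
    rw [Subgroup.mem_subgroupOf] at hn ⊢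
    have h1 := Subgroup.mem_centralizer_iff.1 g.2 n hn
    have h2 : ((g * n * g⁻¹ : C) : G) = n := by
      show (g : G) * n * (g : G)⁻¹ = n
      rw [← h1]; group
    rw [h2]; exact hn
  set K := C ⧸ A'.subgroupOf C with hK
  set π : C →* K := QuotientGroup.mk' (A'.subgroupOf C) with hπ
  have hπs : Function.Surjective π := QuotientGroup.mk'_surjective _
  have hπ1 : ∀ c : C, π c = 1 ↔ (c : G) ∈ A' := by
    intro c
    rw [hπ, QuotientGroup.mk'_apply, QuotientGroup.eq_one_iff, Subgroup.mem_subgroupOf]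
  let ιC : S →* C := ι.codRestrict C hιC
  let κ : S →* K := π.comp ιC
  have hκ : ∀ s : S, κ s = 1 ↔ (s : W) ∈ A := by
    intro s
    show π (ιC s) = 1 ↔ _
    rw [hπ1]
    constructor
    · rintro ⟨a, ha, h⟩
      have h1 : a = s := hinj h
      rw [← h1]; exact ha
    · intro h
      exact ⟨s, h, rfl⟩
  -- the map on `S'`
  have hθS : ∀ s : S, θ s ∈ S' := fun s => by rw [← hrange]; exact ⟨s, rfl⟩
  let θ' : S →* S' := θ.codRestrict S' hθS
  have hθ's : Function.Surjective θ' := by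
    intro y
    have h1 : (y : W') ∈ θ.range := by rw [hrange]; exact y.2
    obtain ⟨s, hs⟩ := h1
    exact ⟨s, Subtype.ext hs⟩
  have hθ1 : ∀ s : S, θ' s = 1 ↔ (s : W) ∈ A := by
    intro s
    rw [← hker s]
    exact ⟨fun h => congrArg Subtype.val h, fun h => Subtype.ext h⟩
  obtain ⟨ι', hι'⟩ : ∃ ι' : S' →* K, ∀ s, ι' (θ' s) = κ s := by
    refine ⟨(θ'.liftOfSurjective hθ's ⟨κ, ?_⟩), fun s => ?_⟩
    · intro s hs
      rw [MonoidHom.mem_ker] at hs ⊢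
      rw [hκ, ← hθ1]; exact hs
    · exact θ'.liftOfRightInverse_comp_apply _ _ _ _
  have hι'inj : Function.Injective ι' := by
    rw [injective_iff_map_eq_one]
    intro y hy
    obtain ⟨s, rfl⟩ := hθ's y
    rw [hι', hκ] at hy
    exact (hθ1 s).2 hy
  -- a Sylow subgroup
  have hTC : (T : Subgroup G) ≤ C := by
    rw [hT]
    rintro _ ⟨s, rfl⟩
    exact hιC s
  let TC : Sylow p C := T.subtype hTC
  refine isRealizable_of ι' ⟨hι'inj, ?_⟩ (TC.mapSurjective hπs) ?_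
  · intro P' hP' φ' hφ'
    rw [hmem]
    constructor
    · rintro ⟨-, φ, hφ, hP, hφS, h1, h2⟩
      obtain ⟨g, hg⟩ := (hreal _ hP φ hφS).1 hφ
      have hgC : g ∈ C := by
        rw [hC, Subgroup.mem_centralizer_iff]
        rintro _ ⟨a, ha, rfl⟩
        have haP : (a : W) ∈ preimageAlong θ P' := H759.le_preimageAlong hAS hker ha
        have h3 := hg ⟨a, haP⟩
        have h4 : φ ⟨a, haP⟩ = a := H757.IsCentral.apply_eq hA hφ (x := ⟨a, haP⟩) ha
        have h5 : (⟨φ ⟨a, haP⟩, hφS _⟩ : S) = a := Subtype.ext h4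
        rw [h5] at h3
        have h6 : ι a * g = (g * ι a * g⁻¹) * g := by rw [← h3]
        rw [h6]; group
      refine ⟨π ⟨g, hgC⟩, fun y => ?_⟩
      obtain ⟨x, hxS, hxP, hxy⟩ := H759.exists_preimage_of_mem (E := E) ⟨hAS, hker, hrange, hmem⟩ hP' y.2
      have h3 := h2 ⟨x, hxP⟩
      have h4 : (⟨θ ⟨x, hP hxP⟩, h1 ⟨x, hxP⟩⟩ : P') = y := Subtype.ext hxy
      rw [h4] at h3
      have h5 : (⟨φ' y, hφ' y⟩ : S') = θ' ⟨φ ⟨x, hxP⟩, hφS _⟩ := Subtype.ext h3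
      have h6 : (⟨y, hP' y.2⟩ : S') = θ' ⟨x, hxS⟩ := Subtype.ext hxy.symm
      rw [h5, h6, hι', hι']
      show π (ιC _) = π ⟨g, hgC⟩ * π (ιC _) * (π ⟨g, hgC⟩)⁻¹
      rw [← map_inv, ← map_mul, ← map_mul]
      congr 1
      exact Subtype.ext (hg ⟨x, hxP⟩)
    · rintro ⟨k, hk⟩
      refine ⟨hP', ?_⟩
      obtain ⟨c, rfl⟩ := hπs k
      set P := preimageAlong θ P' with hPdef
      have hP : P ≤ S := H759.preimageAlong_le
      have h1 : ∀ x : P, θ ⟨x, hP x.2⟩ ∈ P' := fun x => (H759.mem_preimageAlong.1 x.2).2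
      have key : ∀ x : P, ∃ s : S, (c : G) * ι ⟨x, hP x.2⟩ * (c : G)⁻¹ = ι s ∧
          θ s = φ' ⟨θ ⟨x, hP x.2⟩, h1 x⟩ := by
        intro x
        obtain ⟨s, hs⟩ := hθ's ⟨φ' ⟨θ ⟨x, hP x.2⟩, h1 x⟩, hφ' _⟩
        have h2 := hk ⟨θ ⟨x, hP x.2⟩, h1 x⟩
        have h6 : (⟨θ ⟨x, hP x.2⟩, hP' (h1 x)⟩ : S') = θ' ⟨x, hP x.2⟩ := rfl
        rw [← hs] at h2
        have h7 : ι' (θ' s) = π c * ι' (θ' ⟨x, hP x.2⟩) * (π c)⁻¹ := h2
        rw [hι', hι'] at h7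
        have h8 : π (ιC s) = π (c * ιC ⟨x, hP x.2⟩ * c⁻¹) := by
          rw [map_mul, map_mul, map_inv]; exact h7
        have h9 : π ((ιC s)⁻¹ * (c * ιC ⟨x, hP x.2⟩ * c⁻¹)) = 1 := by
          rw [map_mul, map_inv, h8, inv_mul_cancel]
        rw [hπ1] at h9
        obtain ⟨a, ha, haeq⟩ := h9
        refine ⟨s * a, ?_, ?_⟩
        · rw [map_mul, haeq]
          show _ = ι s * ((ι s)⁻¹ * ((c : G) * ι ⟨x, hP x.2⟩ * (c : G)⁻¹))
          group
        · rw [map_mul, (hker a).2 ha, mul_one]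
          exact congrArg Subtype.val hs
      choose f hf1 hf2 using key
      let φ : P →* W :=
        { toFun := fun x => f x
          map_one' := by
            have h2 := hf1 1
            have h3 : (⟨((1 : P) : W), hP (1 : P).2⟩ : S) = 1 := rfl
            rw [h3, map_one, mul_one, mul_inv_cancel] at h2
            have h4 : f 1 = 1 := hinj (by rw [← h2, map_one])
            rw [h4]; rfl
          map_mul' := fun x y => by
            have h2 := hf1 (x * y)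
            have h3 : (⟨((x * y : P) : W), hP (x * y).2⟩ : S) = ⟨x, hP x.2⟩ * ⟨y, hP y.2⟩ := rfl
            rw [h3, map_mul] at h2
            have h4 : f (x * y) = f x * f y := by
              apply hinj
              rw [← h2, map_mul, ← hf1 x, ← hf1 y]
              group
            rw [h4]; rfl }
      refine ⟨φ, (hreal P hP φ (fun x => (f x).2)).2 ⟨c, fun x => (hf1 x).symm⟩, hP, fun x => (f x).2, h1,
        fun x => (hf2 x).symm⟩
  · rw [Sylow.coe_mapSurjective]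
    ext y
    constructor
    · rintro ⟨c, hc, rfl⟩
      have h1 : (c : G) ∈ T := hc
      have h2 : (c : G) ∈ ι.range := by rw [← hT]; exact h1
      obtain ⟨s, hs⟩ := h2
      refine ⟨θ' s, ?_⟩
      rw [hι']
      show π (ιC s) = π c
      congr 1
      exact Subtype.ext hs
    · rintro ⟨z, rfl⟩
      obtain ⟨s, rfl⟩ := hθ's z
      rw [hι']
      refine ⟨ιC s, ?_, rfl⟩
      show ι s ∈ (T : Subgroup G)
      rw [hT]
      exact ⟨s, rfl⟩

end Cfsg.Agent.H877.Lim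
end

-- part: H70/Lim/BridgeK
section
/-!
# S5242, I2: maps of a fusion system trivial modulo a central subgroup (helper70)

`F` a saturated fusion system over a Sylow subgroup `S` of `L`, `A ≤ Z(L)` central in `F`; `F` and `L` agree modulo `A`.

* `Mp.fix`, `Mp.ext_central`;
* `exists_conj_of_mp` : a map `s ↦ s d(s)`, `d(s) ∈ A`, of `F` is conjugation by an element of `L`;
* `mp_of_conj` : the converse.
-/

set_option autoImplicit false

namespace Cfsg.Agent.H70.Lim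

open Cfsg Cfsg.FusionSystem Cfsg.Agent.H752

universe v

variable {L : Type v} [Group L] {S A : Subgroup L} {F : FusionSystem S}

theorem mp_ext_central (hA : F.IsCentral A) {P : Subgroup L} {f : L → L} (hf : Mp F P f) :
    ∃ g, Mp F (P ⊔ A) g ∧ (∀ x ∈ P, g x = f x) ∧ ∀ a ∈ A, g a = a := by
  obtain ⟨φ, hφ, h1⟩ := hf
  obtain ⟨ψ, hψ, h2, h3⟩ := hA.2 P φ hφ
  refine ⟨ex ψ, mp_ex hψ, fun x hx => ?_, fun a ha => ?_⟩
  · rw [ex_apply _ ((le_sup_left : P ≤ P ⊔ A) hx), ← h1 x hx]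
    exact h2 ⟨x, hx⟩
  · rw [ex_apply _ ((le_sup_right : A ≤ P ⊔ A) ha)]
    exact h3 ⟨a, ha⟩

theorem mp_fix (hA : F.IsCentral A) {P : Subgroup L} {f : L → L} (hf : Mp F P f) (hAP : A ≤ P) {a : L} (ha : a ∈ A) :
    f a = a := by
  obtain ⟨g, -, h2, h3⟩ := mp_ext_central hA hf
  rw [← h2 a (hAP ha), h3 a ha]

theorem cen {A : Subgroup L} (hAL : A ≤ Subgroup.center L) {a : L} (ha : a ∈ A) (x : L) : x * a = a * x :=
  Subgroup.mem_center_iff.1 (hAL ha) x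

/-- values of `d` and products -/
theorem mp_mul_fix (hA : F.IsCentral A) {P : Subgroup L} {f : L → L} (hf : Mp F P f) (hAP : A ≤ P) {x a : L}
    (hx : x ∈ P) (ha : a ∈ A) : f (x * a) = f x * a := by
  rw [hf.mul hx (hAP ha), mp_fix hA hf hAP ha]

/-- **automorphisms trivial modulo `A`, from `F` to `L`** -/
theorem exists_conj_of_mp {p : ℕ} [Fact p.Prime] [Finite L] (hS : IsPGroup p S) (hF : F.IsSaturated p)
    (hA : F.IsCentral A) (hAL : A ≤ Subgroup.center L)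
    (h1 : ∀ (P : Subgroup L) (f : L → L), A ≤ P → Mp F P f → ∃ l : L, ∀ s ∈ P, (l * s * l⁻¹)⁻¹ * f s ∈ A)
    {P : Subgroup L} (hAP : A ≤ P) {d : L → L} (hd : ∀ s ∈ P, d s ∈ A) (hf : Mp F P fun s => s * d s) :
    ∃ c : L, ∀ s ∈ P, s * d s = c * s * c⁻¹ := by
  classical
  have hPS := hf.le
  obtain ⟨Q, ⟨χ, hχ, hχQ⟩, hQa, -⟩ := hF P hPS
  have hX : Mp F P (ex χ) := mp_ex hχ
  have hQ : ∀ y, y ∈ Q ↔ ∃ x ∈ P, ex χ x = y := by
    intro y
    rw [← hχQ]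
    constructor
    · rintro ⟨x, rfl⟩
      exact ⟨x, x.2, ex_coe _ x⟩
    · rintro ⟨x, hx, rfl⟩
      exact ⟨⟨x, hx⟩, (ex_apply _ hx).symm⟩
  obtain ⟨g, hg, hg1, hg2⟩ := hX.exists_symm le_rfl hQ
  have hAQ : A ≤ Q := fun a ha => (hQ a).2 ⟨a, hAP ha, mp_fix hA hX hAP ha⟩
  have hdQ : ∀ y ∈ Q, d (g y) ∈ A := fun y hy => hd _ (hg2 y hy).1
  have hk : Mp F Q fun y => y * d (g y) := by
    have h2 := (hg.comp hf (fun y hy => (hg2 y hy).1)).comp hX (fun y hy =>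
      mul_mem (hg2 y hy).1 (hAP (hdQ y hy)))
    refine h2.congr fun y hy => ?_
    rw [mp_mul_fix hA hX hAP (hg2 y hy).1 (hdQ y hy), (hg2 y hy).2]
  have hfinQ : Finite Q := inferInstance
  obtain ⟨α, hα, hα'⟩ := hk.exists_aut fun y hy => mul_mem hy (hAQ (hdQ y hy))
  have hQS : Q ≤ S := hQa.1
  -- the normal `p`-subgroup
  have hfixα : ∀ β ∈ F.autGroup Q, ∀ (a : L) (ha : a ∈ A), ((β ⟨a, hAQ ha⟩ : Q) : L) = a := by
    intro β hβ a ha
    have h3 := (mp_iff_autGroup hQS β).1 hβ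
    have h4 := mp_fix hA h3 hAQ ha
    rwa [ex_apply _ (hAQ ha)] at h4
  let N : Subgroup (MulAut Q) :=
    { carrier := {β | β ∈ F.autGroup Q ∧ ∀ y : Q, (y : L)⁻¹ * (β y : Q) ∈ A}
      one_mem' := ⟨one_mem _, fun y => by
        rw [MulAut.one_apply, inv_mul_cancel]; exact one_mem A⟩
      mul_mem' := by
        rintro a b ⟨ha, ha'⟩ ⟨hb, hb'⟩
        refine ⟨mul_mem ha hb, fun y => ?_⟩
        have h3 : (y : L)⁻¹ * ((a * b) y : Q) = ((y : L)⁻¹ * (b y : Q)) * (((b y : Q) : L)⁻¹ * (a (b y) : Q)) := by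
          rw [MulAut.mul_apply]; group
        rw [h3]
        exact mul_mem (hb' _) (ha' _)
      inv_mem' := by
        rintro a ⟨ha, ha'⟩
        refine ⟨inv_mem ha, fun y => ?_⟩
        have h3 := ha' (a⁻¹ y)
        rw [MulAut.apply_inv_self] at h3
        have h4 := inv_mem h3
        rw [mul_inv_rev, inv_inv] at h4
        exact h4 }
  have hval : ∀ β ∈ N, ∀ y : Q, ∃ (a : L) (ha : a ∈ A), β y = y * ⟨a, hAQ ha⟩ := by
    intro β hβ y
    refine ⟨(y : L)⁻¹ * (β y : Q), hβ.2 y, Subtype.ext ?_⟩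
    change ((β y : Q) : L) = y * ((y : L)⁻¹ * (β y : Q))
    group
  have hN1 : N ≤ F.autGroup Q := fun β hβ => hβ.1
  have hN2 : ∀ a ∈ F.autGroup Q, ∀ k ∈ N, a * k * a⁻¹ ∈ N := by
    intro a ha k hk'
    refine ⟨mul_mem (mul_mem ha hk'.1) (inv_mem ha), fun y => ?_⟩
    obtain ⟨z, hz, h3⟩ := hval k hk' (a⁻¹ y)
    have h4 : ((a * k * a⁻¹) y : Q) = y * ⟨z, hAQ hz⟩ := by
      rw [MulAut.mul_apply, MulAut.mul_apply, h3, map_mul, MulAut.apply_inv_self]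
      congr 1
      exact Subtype.ext (hfixα a ha z hz)
    rw [h4]
    change (y : L)⁻¹ * (y * z) ∈ A
    rw [inv_mul_cancel_left]
    exact hz
  have hAp : IsPGroup p A := hS.to_le hA.1
  have hN3 : IsPGroup p N := by
    rintro ⟨β, hβ⟩
    have hpow : ∀ (y : Q) (a : L) (ha : a ∈ A), β y = y * ⟨a, hAQ ha⟩ → ∀ n : ℕ, (β ^ n) y = y * ⟨a, hAQ ha⟩ ^ n := by
      intro y a ha h3 n
      induction n with
      | zero => rw [pow_zero, pow_zero, mul_one, MulAut.one_apply]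
      | succ n ih =>
        have h4 : β (⟨a, hAQ ha⟩ : Q) = ⟨a, hAQ ha⟩ := Subtype.ext (hfixα β hβ.1 a ha)
        rw [pow_succ', MulAut.mul_apply, ih, map_mul, h3, map_pow, h4, mul_assoc, ← pow_succ']
    obtain ⟨m, hm⟩ := IsPGroup.iff_card.1 hAp
    refine ⟨m, Subtype.ext ?_⟩
    change β ^ p ^ m = 1
    ext y
    obtain ⟨a, ha, h3⟩ := hval β hβ y
    rw [hpow y a ha h3, ← hm]
    have h4 : (⟨a, ha⟩ : A) ^ Nat.card A = 1 := pow_card_eq_one'
    have h5 : a ^ Nat.card A = 1 := congrArg Subtype.val h4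
    change (y : L) * a ^ Nat.card A = y
    rw [h5, mul_one]
  have hαN : α ∈ N := ⟨hα, fun y => by
    rw [← hα' y y.2]
    rw [inv_mul_cancel_left]
    exact hdQ y y.2⟩
  obtain ⟨n, hn, hn'⟩ := H759.mem_autInducedBy.1 (H759.le_autInducedBy_of_normal hQa N hN1 hN2 hN3 hαN)
  have hn2 : ∀ y ∈ Q, y * d (g y) = n * y * n⁻¹ := by
    intro y hy
    have h3 := hα' y hy
    rw [h3]
    exact hn' ⟨y, hy⟩
  obtain ⟨l, hl⟩ := h1 P (ex χ) hAP hX
  refine ⟨l⁻¹ * n * l, fun s hs => ?_⟩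
  obtain ⟨a, ha, ha2⟩ : ∃ a ∈ A, ex χ s = l * s * l⁻¹ * a := ⟨_, hl s hs, by group⟩
  have hsQ : ex χ s ∈ Q := (hQ _).2 ⟨s, hs, rfl⟩
  have h3 := hn2 _ hsQ
  rw [hg1 s hs] at h3
  have e1 : l * s * l⁻¹ = ex χ s * a⁻¹ := by rw [ha2]; group
  have e2 : l⁻¹ * n * l * s * (l⁻¹ * n * l)⁻¹ = l⁻¹ * (n * (l * s * l⁻¹) * n⁻¹) * l := by group
  have ca := cen hAL (inv_mem ha)
  have cd := cen hAL (hd s hs)
  have e3 : n * (ex χ s * a⁻¹) * n⁻¹ = n * ex χ s * n⁻¹ * a⁻¹ := by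
    rw [← mul_assoc, mul_assoc (n * ex χ s), ← ca n⁻¹, ← mul_assoc]
  rw [e2, e1, e3, ← h3, ha2]
  have e4 : l⁻¹ * (l * s * l⁻¹ * a * d s * a⁻¹) * l = s * (l⁻¹ * (a * d s * a⁻¹) * l) := by group
  rw [e4]
  congr 1
  rw [ca (a * d s), inv_mul_cancel_left, cd l⁻¹, mul_assoc, inv_mul_cancel, mul_one]

/-- a `p`-element inducing the same automorphism -/
theorem exists_pelt {p : ℕ} [Fact p.Prime] [Finite L] (hAp : IsPGroup p A) (hAL : A ≤ Subgroup.center L)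
    {P : Subgroup L} {c : L} (hc : ∀ s ∈ P, s⁻¹ * (c * s * c⁻¹) ∈ A) :
    ∃ u : L, (∃ k : ℕ, u ^ p ^ k = 1) ∧ ∀ s ∈ P, u * s * u⁻¹ = c * s * c⁻¹ := by
  have hp : p.Prime := Fact.out
  obtain ⟨m, hm⟩ := IsPGroup.iff_card.1 hAp
  -- powers
  have hpow : ∀ s ∈ P, ∀ n : ℕ, c ^ n * s * (c ^ n)⁻¹ = s * (s⁻¹ * (c * s * c⁻¹)) ^ n := by
    intro s hs n
    induction n with
    | zero => simp
    | succ n ih =>
      have h1 : c ^ (n + 1) * s * (c ^ (n + 1))⁻¹ = c * (c ^ n * s * (c ^ n)⁻¹) * c⁻¹ := by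
        rw [pow_succ']; group
      have h2 := cen hAL (pow_mem (hc s hs) n) c⁻¹
      have h3 : c * s * c⁻¹ = s * (s⁻¹ * (c * s * c⁻¹)) := by group
      rw [h1, ih]
      generalize (s⁻¹ * (c * s * c⁻¹)) = a at h2 h3
      rw [mul_assoc c, mul_assoc s, ← h2, ← mul_assoc s, ← mul_assoc c, ← mul_assoc c, h3, mul_assoc, ← pow_succ']
  obtain ⟨k, r, hr, hkr⟩ : ∃ k r : ℕ, ¬ p ∣ r ∧ orderOf c = p ^ k * r :=
    Nat.exists_eq_pow_mul_and_not_dvd (orderOf_pos c).ne' p hp.ne_one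
  have hcop : Nat.Coprime (p ^ m) r := ((Nat.Prime.coprime_iff_not_dvd hp).2 hr).pow_left m
  obtain ⟨n, hn1, hn2⟩ := Nat.chineseRemainder hcop 1 0
  refine ⟨c ^ n, ⟨k, ?_⟩, fun s hs => ?_⟩
  · obtain ⟨j, hj⟩ := (Nat.modEq_zero_iff_dvd).1 hn2
    rw [← pow_mul, hj]
    have h3 : r * j * p ^ k = orderOf c * j := by rw [hkr]; ring
    rw [h3, pow_mul, pow_orderOf_eq_one, one_pow]
  · rw [hpow s hs]
    have h4 : (s⁻¹ * (c * s * c⁻¹)) ^ (p ^ m) = 1 := by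
      rw [← hm]
      have h5 : (⟨_, hc s hs⟩ : A) ^ Nat.card A = 1 := pow_card_eq_one'
      exact congrArg Subtype.val h5
    have h6 : (s⁻¹ * (c * s * c⁻¹)) ^ n = (s⁻¹ * (c * s * c⁻¹)) ^ 1 := pow_eq_pow_of_modEq hn1 h4
    rw [h6, pow_one, mul_inv_cancel_left]

/-- a `p`-subgroup is conjugate into the Sylow subgroup -/
theorem exists_conj_le {p : ℕ} [Fact p.Prime] [Finite L] (T : Sylow p L) {H : Subgroup L} (hH : IsPGroup p H) :
    ∃ g : L, ∀ h ∈ H, g * h * g⁻¹ ∈ (T : Subgroup L) := by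
  obtain ⟨Q, hQ⟩ := hH.exists_le_sylow
  obtain ⟨g, hg⟩ := MulAction.exists_smul_eq L Q T
  refine ⟨g, fun h hh => ?_⟩
  rw [← hg]
  exact Subgroup.smul_mem_pointwise_smul h (MulAut.conj g) _ (hQ hh)

/-- **automorphisms trivial modulo `A`, from `L` to `F`** -/
theorem mp_of_conj {p : ℕ} [Fact p.Prime] [Finite L] (T : Sylow p L) (hT : (T : Subgroup L) = S)
    (hA : F.IsCentral A) (hAL : A ≤ Subgroup.center L)
    (h2 : ∀ P : Subgroup L, P ≤ S → A ≤ P → ∀ l : L, (∀ s ∈ P, l * s * l⁻¹ ∈ S) →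
      ∃ f, Mp F P f ∧ ∀ s ∈ P, (l * s * l⁻¹)⁻¹ * f s ∈ A)
    {P : Subgroup L} (hPS : P ≤ S) (hAP : A ≤ P) {c : L} (hc : ∀ s ∈ P, s⁻¹ * (c * s * c⁻¹) ∈ A) :
    Mp F P fun s => c * s * c⁻¹ := by
  classical
  have hS : IsPGroup p S := hT ▸ T.isPGroup'
  obtain ⟨u, ⟨k, hk⟩, hu⟩ := exists_pelt (hS.to_le hA.1) hAL hc
  have hcP : ∀ s ∈ P, c * s * c⁻¹ ∈ P := by
    intro s hs
    have := mul_mem hs (hAP (hc s hs))
    rwa [mul_inv_cancel_left] at this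
  have hcP' : ∀ s, c * s * c⁻¹ ∈ P → s ∈ P := by
    intro s hs
    have hfin : Finite P := inferInstance
    have hinj : Function.Injective (fun x : P => (⟨c * x * c⁻¹, hcP x x.2⟩ : P)) := by
      intro x y hxy
      have := congrArg Subtype.val hxy
      exact Subtype.ext (mul_left_cancel (mul_right_cancel this))
    obtain ⟨x, hx⟩ := (Finite.injective_iff_surjective.1 hinj) ⟨_, hs⟩
    have h3 := congrArg Subtype.val hx
    have h4 : (x : L) = s := mul_left_cancel (mul_right_cancel h3)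
    rw [← h4]
    exact x.2
  -- the `p`-group
  have hnu : u ∈ Subgroup.normalizer (P : Set L) := by
    rw [Subgroup.mem_normalizer_iff]
    intro s
    constructor
    · intro hs
      have hs' : s ∈ P := hs
      change u * s * u⁻¹ ∈ P
      rw [hu s hs']
      exact hcP s hs'
    · intro hs
      have hfin : Finite P := inferInstance
      have hinj : Function.Injective (fun x : P => (⟨u * x * u⁻¹, by rw [hu x x.2]; exact hcP x x.2⟩ : P)) := by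
        intro x y hxy
        have := congrArg Subtype.val hxy
        exact Subtype.ext (mul_left_cancel (mul_right_cancel this))
      obtain ⟨x, hx⟩ := (Finite.injective_iff_surjective.1 hinj) ⟨_, hs⟩
      have h3 := congrArg Subtype.val hx
      have h4 : (x : L) = s := mul_left_cancel (mul_right_cancel h3)
      rw [← h4]
      exact x.2
  have hup : IsPGroup p (Subgroup.zpowers u) := by
    rw [IsPGroup.iff_card]
    rw [Nat.card_zpowers]
    exact (Nat.dvd_prime_pow Fact.out).1 (orderOf_dvd_of_pow_eq_one hk) |>.imp fun _ h => h.2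
  have hH : IsPGroup p (Subgroup.zpowers u ⊔ P : Subgroup L) :=
    IsPGroup.to_sup_of_normal_right' hup (hS.to_le hPS) (by
      rw [Subgroup.zpowers_le]
      exact hnu)
  obtain ⟨g, hg⟩ := exists_conj_le T hH
  rw [hT] at hg
  obtain ⟨f, hf, hf2⟩ := h2 P hPS hAP g (fun s hs => hg s ((le_sup_right : P ≤ _) hs))
  have hn : g * u * g⁻¹ ∈ S := hg u ((le_sup_left : Subgroup.zpowers u ≤ _) (Subgroup.mem_zpowers u))
  obtain ⟨Q, hQ, hQS, -⟩ := hf.exists_image le_rfl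
  obtain ⟨f', hf', hf'1, hf'2⟩ := hf.exists_symm le_rfl hQ
  have key : ∀ s ∈ P, (g * u * g⁻¹) * f s * (g * u * g⁻¹)⁻¹ = f (c * s * c⁻¹) := by
    intro s hs
    obtain ⟨a, ha, ha2⟩ : ∃ a ∈ A, f s = g * s * g⁻¹ * a := ⟨_, hf2 s hs, by group⟩
    have hcs : c * s * c⁻¹ = s * (s⁻¹ * (c * s * c⁻¹)) := by group
    have e1 : f (c * s * c⁻¹) = f s * (s⁻¹ * (c * s * c⁻¹)) := by
      conv_lhs => rw [hcs]
      exact mp_mul_fix hA hf hAP hs (hc s hs)
    have e2 : g * u * g⁻¹ * (g * s * g⁻¹ * a) * (g * u * g⁻¹)⁻¹ = g * (u * s * u⁻¹) * g⁻¹ * a := by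
      have h3 := cen hAL ha (g * u * g⁻¹)⁻¹
      calc g * u * g⁻¹ * (g * s * g⁻¹ * a) * (g * u * g⁻¹)⁻¹
          = g * u * s * g⁻¹ * (a * (g * u * g⁻¹)⁻¹) := by group
        _ = g * u * s * g⁻¹ * ((g * u * g⁻¹)⁻¹ * a) := by rw [h3]
        _ = _ := by group
    have h4 := cen hAL (hc s hs)
    rw [e1, ha2, e2, hu s hs]
    calc g * (c * s * c⁻¹) * g⁻¹ * a
        = g * s * (s⁻¹ * (c * s * c⁻¹)) * g⁻¹ * a := by group
      _ = g * s * (s⁻¹ * (c * s * c⁻¹)) * (g⁻¹ * a) := by group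
      _ = g * s * ((g⁻¹ * a) * (s⁻¹ * (c * s * c⁻¹))) := by rw [h4 (g⁻¹ * a), mul_assoc]
      _ = _ := by group
  refine (((hf.comp (mp_conj F hQS hn) (fun s hs => (hQ _).2 ⟨s, hs, rfl⟩)).comp hf' (fun s hs => ?_))).congr
    fun s hs => ?_
  · rw [key s hs]
    exact (hQ _).2 ⟨_, hcP s hs, rfl⟩
  · rw [key s hs, hf'1 _ (hcP s hs)]

end Cfsg.Agent.H70.Lim
end

-- part: H70/Lim/BridgeE
section
/-!
# S5242, I2: the comparison cocycle (helper70)

`Good F A x y e` : the map `α_x u ↦ α_y(u) e(u)` (`u ∈ L_x ∩ L_y`, `α_x` conjugation into `S` by a representative of the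
coset `x`) belongs to `F`.
-/

set_option autoImplicit false

namespace Cfsg.Agent.H70.Lim

open Cfsg Cfsg.FusionSystem Cfsg.Agent.H752 MulAction

universe v

variable {L : Type v} [Group L] {S A : Subgroup L} {F : FusionSystem S}

theorem mem_stab_coe {r u : L} : u ∈ stabilizer L (r : L ⧸ S) ↔ r⁻¹ * u * r ∈ S := by
  rw [mem_stabilizer_iff]
  change ((u * r : L) : L ⧸ S) = r ↔ _
  rw [eq_comm, QuotientGroup.eq]
  have : r⁻¹ * (u * r) = r⁻¹ * u * r := by group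
  rw [this]

/-- the stabilizer of a pair -/
abbrev st2 (x y : L ⧸ S) : Subgroup L := stabilizer L x ⊓ stabilizer L y

/-- the stabilizer of a pair, read in `S` -/
abbrev cm (r : L) (P : Subgroup L) : Subgroup L := P.comap (MulAut.conj r).toMonoidHom

theorem mem_cm {r s : L} {P : Subgroup L} : s ∈ cm r P ↔ r * s * r⁻¹ ∈ P := Iff.rfl

/-- the comparison function -/
def Good (F : FusionSystem S) (A : Subgroup L) (x y : L ⧸ S) (e : L → L) : Prop :=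
  (∀ u ∈ st2 x y, e u ∈ A) ∧ ∀ r r' : L, (r : L ⧸ S) = x → (r' : L ⧸ S) = y →
    Mp F (cm r (st2 x y)) (fun s => r'⁻¹ * (r * s * r⁻¹) * r' * e (r * s * r⁻¹))

theorem cm_le {r : L} {x : L ⧸ S} (hr : (r : L ⧸ S) = x) {P : Subgroup L} (hP : P ≤ stabilizer L x) : cm r P ≤ S := by
  intro s hs
  have h1 := hP (mem_cm.1 hs)
  rw [← hr, mem_stab_coe] at h1
  have : r⁻¹ * (r * s * r⁻¹) * r = s := by group
  rwa [this] at h1

theorem A_le_stab (hAS : A ≤ S) (hAL : A ≤ Subgroup.center L) (x : L ⧸ S) : A ≤ stabilizer L x := by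
  intro a ha
  obtain ⟨r, rfl⟩ := QuotientGroup.mk_surjective x
  rw [mem_stab_coe, mul_assoc, ← cen hAL ha r, inv_mul_cancel_left]
  exact hAS ha

theorem conj_A (hAL : A ≤ Subgroup.center L) {a : L} (ha : a ∈ A) (r : L) : r * a * r⁻¹ = a := by
  rw [cen hAL ha r, mul_inv_cancel_right]

theorem le_cm (hAL : A ≤ Subgroup.center L) {P : Subgroup L} (hP : A ≤ P) (r : L) : A ≤ cm r P := by
  intro a ha
  rw [mem_cm, conj_A hAL ha]
  exact hP ha

theorem good_of_one (hAL : A ≤ Subgroup.center L) {x y : L ⧸ S} {e : L → L} (he : ∀ u ∈ st2 x y, e u ∈ A)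
    {r₀ r₀' : L} (h : (r₀ : L ⧸ S) = x) (h' : (r₀' : L ⧸ S) = y)
    (hm : Mp F (cm r₀ (st2 x y)) (fun s => r₀'⁻¹ * (r₀ * s * r₀⁻¹) * r₀' * e (r₀ * s * r₀⁻¹))) : Good F A x y e := by
  refine ⟨he, fun r r' hr hr' => ?_⟩
  have ht : r₀⁻¹ * r ∈ S := QuotientGroup.eq.1 (h.trans hr.symm)
  have ht' : r₀'⁻¹ * r' ∈ S := QuotientGroup.eq.1 (h'.trans hr'.symm)
  have e0 : ∀ s, r₀ * (r₀⁻¹ * r * s * (r₀⁻¹ * r)⁻¹) * r₀⁻¹ = r * s * r⁻¹ := fun s => by group
  have h1 : Mp F (cm r (st2 x y)) (fun s => r₀⁻¹ * r * s * (r₀⁻¹ * r)⁻¹) := mp_conj F (cm_le hr inf_le_left) ht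
  have h2 := h1.comp hm (fun s hs => by rw [mem_cm, e0]; exact hs)
  have h3 := h2.comp (mp_conj F le_rfl (inv_mem ht')) (fun s hs => h2.mem hs)
  refine h3.congr fun s hs => ?_
  rw [e0]
  have h4 := cen hAL (he _ (mem_cm.1 hs)) ((r₀'⁻¹ * r')⁻¹⁻¹)
  generalize e (r * s * r⁻¹) = a at h4
  generalize r * s * r⁻¹ = u
  calc r'⁻¹ * u * r' * a = (r₀'⁻¹ * r')⁻¹ * (r₀'⁻¹ * u * r₀') * ((r₀'⁻¹ * r')⁻¹⁻¹ * a) := by group
    _ = _ := by rw [h4]; group

theorem exists_good (hAS : A ≤ S) (hAL : A ≤ Subgroup.center L)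
    (h2 : ∀ P : Subgroup L, P ≤ S → A ≤ P → ∀ l : L, (∀ s ∈ P, l * s * l⁻¹ ∈ S) →
      ∃ f, Mp F P f ∧ ∀ s ∈ P, (l * s * l⁻¹)⁻¹ * f s ∈ A) (x y : L ⧸ S) : ∃ e, Good F A x y e := by
  obtain ⟨r, rfl⟩ := QuotientGroup.mk_surjective x
  obtain ⟨r', rfl⟩ := QuotientGroup.mk_surjective y
  have e0 : ∀ s, r'⁻¹ * r * s * (r'⁻¹ * r)⁻¹ = r'⁻¹ * (r * s * r⁻¹) * r' := fun s => by group
  obtain ⟨f, hf, hf2⟩ := h2 (cm r (st2 (r : L ⧸ S) (r' : L ⧸ S))) (cm_le rfl inf_le_left)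
    (le_cm hAL (le_inf (A_le_stab hAS hAL _) (A_le_stab hAS hAL _)) r) (r'⁻¹ * r) (fun s hs => by
      rw [e0]
      exact mem_stab_coe.1 (mem_cm.1 hs).2)
  refine ⟨fun u => (r'⁻¹ * u * r')⁻¹ * f (r⁻¹ * u * r), good_of_one hAL (fun u hu => ?_) rfl rfl ?_⟩
  · have h3 : r⁻¹ * u * r ∈ cm r (st2 (r : L ⧸ S) (r' : L ⧸ S)) := by
      rw [mem_cm]
      have : r * (r⁻¹ * u * r) * r⁻¹ = u := by group
      rw [this]
      exact hu
    have h4 := hf2 _ h3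
    rw [e0] at h4
    have h5 : r * (r⁻¹ * u * r) * r⁻¹ = u := by group
    rwa [h5] at h4
  · refine hf.congr fun s _ => ?_
    have h5 : r⁻¹ * (r * s * r⁻¹) * r = s := by group
    rw [h5]
    group

theorem mem_stab_smul {g u : L} {x : L ⧸ S} : u ∈ stabilizer L (g • x) ↔ g⁻¹ * u * g ∈ stabilizer L x := by
  rw [mem_stabilizer_iff, mem_stabilizer_iff, mul_smul, mul_smul, inv_smul_eq_iff]

theorem Good.smul {x y : L ⧸ S} {e : L → L} (h : Good F A x y e) (g : L) :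
    Good F A (g • x) (g • y) (fun u => e (g⁻¹ * u * g)) := by
  refine ⟨fun u hu => h.1 _ ⟨mem_stab_smul.1 hu.1, mem_stab_smul.1 hu.2⟩, fun r r' hr hr' => ?_⟩
  have h1 := h.2 (g⁻¹ * r) (g⁻¹ * r') (by
    change g⁻¹ • (r : L ⧸ S) = x
    rw [hr, inv_smul_smul]) (by
    change g⁻¹ • (r' : L ⧸ S) = y
    rw [hr', inv_smul_smul])
  have e0 : ∀ s, g⁻¹ * r * s * (g⁻¹ * r)⁻¹ = g⁻¹ * (r * s * r⁻¹) * g := fun s => by group
  refine (h1.res fun s hs => ?_).congr fun s _ => ?_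
  · rw [mem_cm, e0]
    exact ⟨mem_stab_smul.1 (mem_cm.1 hs).1, mem_stab_smul.1 (mem_cm.1 hs).2⟩
  · rw [e0]
    congr 1
    group

theorem Good.fixA (hA : F.IsCentral A) (hAL : A ≤ Subgroup.center L) {x y : L ⧸ S} {e : L → L} (h : Good F A x y e)
    {a : L} (ha : a ∈ A) : e a = 1 := by
  obtain ⟨r, hr⟩ := QuotientGroup.mk_surjective x
  obtain ⟨r', hr'⟩ := QuotientGroup.mk_surjective y
  have h1 := mp_fix hA (h.2 r r' hr hr') (le_cm hAL (le_inf (A_le_stab hA.1 hAL _) (A_le_stab hA.1 hAL _)) r) ha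
  have h2 : r'⁻¹ * a * r' = a := by
    have := conj_A hAL ha r'⁻¹
    rwa [inv_inv] at this
  rw [conj_A hAL ha, h2] at h1
  exact mul_eq_left.1 h1

theorem Good.mul (hAL : A ≤ Subgroup.center L) {x y : L ⧸ S} {e : L → L} (h : Good F A x y e)
    {u w : L} (hu : u ∈ st2 x y) (hw : w ∈ st2 x y) : e (u * w) = e u * e w := by
  obtain ⟨r, hr⟩ := QuotientGroup.mk_surjective x
  obtain ⟨r', hr'⟩ := QuotientGroup.mk_surjective y
  have e0 : ∀ u, r * (r⁻¹ * u * r) * r⁻¹ = u := fun u => by group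
  have h1 := (h.2 r r' hr hr').mul (x := r⁻¹ * u * r) (y := r⁻¹ * w * r) (by rw [mem_cm, e0]; exact hu)
    (by rw [mem_cm, e0]; exact hw)
  have e1 : r * (r⁻¹ * u * r * (r⁻¹ * w * r)) * r⁻¹ = u * w := by group
  rw [e1, e0, e0] at h1
  have h2 := cen hAL (h.1 u hu) (r'⁻¹ * w * r')
  have h3 : r'⁻¹ * u * r' * e u * (r'⁻¹ * w * r' * e w) = r'⁻¹ * (u * w) * r' * (e u * e w) := by
    rw [← mul_assoc, mul_assoc _ (e u), ← h2]
    group
  rw [h3] at h1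
  exact mul_left_cancel h1

/-- the equivariant choice -/
theorem exists_e (hA : F.IsCentral A) (hAL : A ≤ Subgroup.center L)
    (h2 : ∀ P : Subgroup L, P ≤ S → A ≤ P → ∀ l : L, (∀ s ∈ P, l * s * l⁻¹ ∈ S) →
      ∃ f, Mp F P f ∧ ∀ s ∈ P, (l * s * l⁻¹)⁻¹ * f s ∈ A) :
    ∃ e : L ⧸ S → L ⧸ S → L → L, (∀ x y, Good F A x y (e x y)) ∧
      ∀ (l : L) x y, ∀ u ∈ st2 x y, e (l • x) (l • y) (l * u * l⁻¹) = e x y u := by
  classical
  have h3 : ∀ q : (L ⧸ S) × (L ⧸ S), ∃ e, Good F A q.1 q.2 e := fun q => exists_good hA.1 hAL h2 q.1 q.2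
  choose e₀ he₀ using h3
  let rep : (L ⧸ S) × (L ⧸ S) → (L ⧸ S) × (L ⧸ S) := fun q =>
    Quotient.out (Quotient.mk (orbitRel L ((L ⧸ S) × (L ⧸ S))) q)
  have hrep : ∀ q, ∃ g : L, g • rep q = q := by
    intro q
    have h4 : (orbitRel L ((L ⧸ S) × (L ⧸ S))) (rep q) q := Quotient.mk_out (s := orbitRel L ((L ⧸ S) × (L ⧸ S))) q
    obtain ⟨g, hg⟩ := (orbitRel_apply.1 h4 : rep q ∈ orbit L q)
    exact ⟨g⁻¹, by rw [← hg]; exact inv_smul_smul g q⟩
  choose g hg using hrep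
  have hrepl : ∀ (l : L) q, rep (l • q) = rep q := by
    intro l q
    have h4 : Quotient.mk (orbitRel L ((L ⧸ S) × (L ⧸ S))) (l • q) = Quotient.mk (orbitRel L ((L ⧸ S) × (L ⧸ S))) q :=
      Quotient.sound (s := orbitRel L ((L ⧸ S) × (L ⧸ S))) (orbitRel_apply.2 ⟨l, rfl⟩)
    change Quotient.out _ = Quotient.out _
    rw [h4]
  refine ⟨fun x y u => e₀ (rep (x, y)) ((g (x, y))⁻¹ * u * g (x, y)), fun x y => ?_, fun l x y u hu => ?_⟩
  · have h4 := (he₀ (rep (x, y))).smul (g (x, y))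
    have h5 : g (x, y) • (rep (x, y)).1 = x := congrArg Prod.fst (hg (x, y))
    have h6 : g (x, y) • (rep (x, y)).2 = y := congrArg Prod.snd (hg (x, y))
    rw [h5, h6] at h4
    exact h4
  · have hl : ((l • x, l • y) : (L ⧸ S) × (L ⧸ S)) = l • (x, y) := rfl
    dsimp only
    rw [hl, hrepl l (x, y)]
    have hgl := hg (l • (x, y))
    rw [hrepl] at hgl
    have hg0 := hg (x, y)
    set q := rep (x, y) with hq
    set a := g (x, y) with ha
    set b := g (l • (x, y)) with hb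
    -- `h = a⁻¹ l⁻¹ b` stabilizes `q`
    have hh : (a⁻¹ * l⁻¹ * b) • q = q := by
      rw [mul_smul, mul_smul, hgl, inv_smul_smul]
      rw [inv_smul_eq_iff]
      exact hg0.symm
    have hh2 : a⁻¹ * l⁻¹ * b ∈ st2 q.1 q.2 :=
      ⟨mem_stabilizer_iff.2 (congrArg Prod.fst hh), mem_stabilizer_iff.2 (congrArg Prod.snd hh)⟩
    have hu2 : a⁻¹ * u * a ∈ st2 q.1 q.2 := by
      have hx : x = a • q.1 := (congrArg Prod.fst hg0).symm
      have hy : y = a • q.2 := (congrArg Prod.snd hg0).symm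
      rw [hx, hy] at hu
      exact ⟨mem_stab_smul.1 hu.1, mem_stab_smul.1 hu.2⟩
    have e1 : b⁻¹ * (l * u * l⁻¹) * b = (a⁻¹ * l⁻¹ * b)⁻¹ * ((a⁻¹ * u * a) * (a⁻¹ * l⁻¹ * b)) := by group
    have hG := he₀ q
    rw [e1, hG.mul hAL (inv_mem hh2) (mul_mem hu2 hh2), hG.mul hAL hu2 hh2, cen hAL (hG.1 _ hh2), ← mul_assoc,
      ← hG.mul hAL (inv_mem hh2) hh2, inv_mul_cancel, hG.fixA hA hAL (one_mem A), one_mul]

end Cfsg.Agent.H70.Lim
end

-- part: H70/Lim/BridgeC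
section
/-!
# S5242, I2: the cocycle condition (helper70)
-/

set_option autoImplicit false

namespace Cfsg.Agent.H70.Lim

open Cfsg Cfsg.FusionSystem Cfsg.Agent.H752 MulAction

universe v

variable {L : Type v} [Group L] {S A : Subgroup L} {F : FusionSystem S}

theorem coc {p : ℕ} [Fact p.Prime] [Finite L] (hS : IsPGroup p S) (hF : F.IsSaturated p)
    (hA : F.IsCentral A) (hAL : A ≤ Subgroup.center L)
    (h1 : ∀ (P : Subgroup L) (f : L → L), A ≤ P → Mp F P f → ∃ l : L, ∀ s ∈ P, (l * s * l⁻¹)⁻¹ * f s ∈ A)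
    {x y z : L ⧸ S} {e₁ e₂ e₃ : L → L} (g1 : Good F A x y e₁) (g2 : Good F A y z e₂) (g3 : Good F A x z e₃) :
    ∃ c : L, (∀ u ∈ stabilizer L x ⊓ stabilizer L y ⊓ stabilizer L z, c * u * c⁻¹ * u⁻¹ ∈ A) ∧
      ∀ u ∈ stabilizer L x ⊓ stabilizer L y ⊓ stabilizer L z, e₁ u * e₂ u = e₃ u * (c * u * c⁻¹ * u⁻¹) := by
  obtain ⟨r, hr⟩ := QuotientGroup.mk_surjective x
  obtain ⟨r', hr'⟩ := QuotientGroup.mk_surjective y
  obtain ⟨r'', hr''⟩ := QuotientGroup.mk_surjective z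
  set P : Subgroup L := stabilizer L x ⊓ stabilizer L y ⊓ stabilizer L z with hP
  have m1 := g1.2 r r' hr hr'
  have m2 := g2.2 r' r'' hr' hr''
  have m3 := g3.2 r r'' hr hr''
  set f₁ : L → L := fun s => r'⁻¹ * (r * s * r⁻¹) * r' * e₁ (r * s * r⁻¹) with hf₁
  set f₂ : L → L := fun s => r''⁻¹ * (r' * s * r'⁻¹) * r'' * e₂ (r' * s * r'⁻¹) with hf₂
  set f₃ : L → L := fun s => r''⁻¹ * (r * s * r⁻¹) * r'' * e₃ (r * s * r⁻¹) with hf₃
  have hP1 : P ≤ st2 x y := inf_le_left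
  have hP2 : P ≤ st2 y z := fun u hu => ⟨hu.1.2, hu.2⟩
  have hP3 : P ≤ st2 x z := fun u hu => ⟨hu.1.1, hu.2⟩
  have hAx := A_le_stab hA.1 hAL x
  have hAy := A_le_stab hA.1 hAL y
  have hAz := A_le_stab hA.1 hAL z
  have hAP : A ≤ P := le_inf (le_inf hAx hAy) hAz
  have hAQ : A ≤ cm r P := le_cm hAL hAP r
  have d1 : ∀ u ∈ P, e₁ u ∈ A := fun u hu => g1.1 u (hP1 hu)
  have d2 : ∀ u ∈ P, e₂ u ∈ A := fun u hu => g2.1 u (hP2 hu)
  have d3 : ∀ u ∈ P, e₃ u ∈ A := fun u hu => g3.1 u (hP3 hu)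
  have m3' : Mp F (cm r P) f₃ := m3.res (fun s hs => hP3 hs)
  obtain ⟨T, hT, -, -⟩ := m3'.exists_image le_rfl
  obtain ⟨g, hg, hg1, hg2⟩ := m3'.exists_symm le_rfl hT
  let d : L → L := fun s => e₁ (r * s * r⁻¹) * e₂ (r * s * r⁻¹) * (e₃ (r * s * r⁻¹))⁻¹
  have hd : ∀ s ∈ cm r P, d s ∈ A := fun s hs => mul_mem (mul_mem (d1 _ hs) (d2 _ hs)) (inv_mem (d3 _ hs))
  have key : ∀ s ∈ cm r P, r' * f₁ s * r'⁻¹ = r * s * r⁻¹ * e₁ (r * s * r⁻¹) := by
    intro s hs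
    have hs' : r * s * r⁻¹ ∈ P := hs
    have h3 := cen hAL (d1 _ hs') r'⁻¹
    have h4 : r' * f₁ s * r'⁻¹ = r * s * r⁻¹ * (r' * (e₁ (r * s * r⁻¹) * r'⁻¹)) := by
      simp only [hf₁]
      generalize e₁ (r * s * r⁻¹) = a
      group
    rw [h4, ← h3]
    group
  have key2 : ∀ s ∈ cm r P, f₂ (f₁ s) = f₃ (s * d s) := by
    intro s hs
    have hs' : r * s * r⁻¹ ∈ P := hs
    have h5 : f₂ (f₁ s) = r''⁻¹ * (r' * f₁ s * r'⁻¹) * r'' * e₂ (r' * f₁ s * r'⁻¹) := rfl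
    have h6 := cen hAL (d1 _ hs') r''
    rw [mp_mul_fix hA m3' hAQ hs (hd s hs), h5, key s hs, g2.mul hAL (hP2 hs') (hP2 (hAP (d1 _ hs'))),
      g2.fixA hA hAL (d1 _ hs'), mul_one]
    simp only [hf₃, d]
    have h7 := cen hAL (d1 _ hs')
    have h8 := cen hAL (d3 _ hs')
    generalize e₁ (r * s * r⁻¹) = a at *
    generalize e₂ (r * s * r⁻¹) = b at *
    generalize e₃ (r * s * r⁻¹) = c at *
    generalize r * s * r⁻¹ = u at *
    calc r''⁻¹ * (u * a) * r'' * b = r''⁻¹ * u * (a * r'') * b := by group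
      _ = r''⁻¹ * u * r'' * (a * b) := by rw [← h6]; group
      _ = r''⁻¹ * u * r'' * ((a * b) * c * c⁻¹) := by group
      _ = _ := by rw [h8 (a * b)]; group
  have hf1Q : ∀ s ∈ cm r P, f₁ s ∈ cm r' (st2 y z) := by
    intro s hs
    rw [mem_cm, key s hs]
    exact hP2 (mul_mem hs (hAP (d1 _ hs)))
  have hm : Mp F (cm r P) fun s => s * d s := by
    refine (((m1.res (R := cm r P) (fun s hs => hP1 hs)).comp m2 hf1Q).comp hg (fun s hs => ?_)).congr fun s hs => ?_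
    · rw [key2 s hs]
      exact (hT _).2 ⟨_, mul_mem hs (hAQ (hd s hs)), rfl⟩
    · rw [key2 s hs, hg1 _ (mul_mem hs (hAQ (hd s hs)))]
  obtain ⟨c, hc⟩ := exists_conj_of_mp hS hF hA hAL h1 hAQ hd hm
  have hfin : ∀ u ∈ P, r * c * r⁻¹ * u * (r * c * r⁻¹)⁻¹ * u⁻¹ = e₁ u * e₂ u * (e₃ u)⁻¹ := by
    intro u hu
    have e0 : r * (r⁻¹ * u * r) * r⁻¹ = u := by group
    have hs : r⁻¹ * u * r ∈ cm r P := by rw [mem_cm, e0]; exact hu
    have h5 := hc _ hs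
    have h6 : r * c * r⁻¹ * u * (r * c * r⁻¹)⁻¹ * u⁻¹ = r * (c * (r⁻¹ * u * r) * c⁻¹) * r⁻¹ * u⁻¹ := by group
    rw [h6, ← h5]
    have h7 : d (r⁻¹ * u * r) = e₁ u * e₂ u * (e₃ u)⁻¹ := by simp only [d, e0]
    rw [h7]
    have h8 : e₁ u * e₂ u * (e₃ u)⁻¹ ∈ A := mul_mem (mul_mem (d1 _ hu) (d2 _ hu)) (inv_mem (d3 _ hu))
    have h9 := cen hAL h8
    generalize e₁ u * e₂ u * (e₃ u)⁻¹ = a at *
    calc r * (r⁻¹ * u * r * a) * r⁻¹ * u⁻¹ = u * r * (a * (r⁻¹ * u⁻¹)) := by group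
      _ = _ := by rw [← h9 (r⁻¹ * u⁻¹)]; group
  refine ⟨r * c * r⁻¹, fun u hu => ?_, fun u hu => ?_⟩
  · rw [hfin u hu]
    exact mul_mem (mul_mem (d1 _ hu) (d2 _ hu)) (inv_mem (d3 _ hu))
  · rw [hfin u hu, cen hAL (mul_mem (mul_mem (d1 _ hu) (d2 _ hu)) (inv_mem (d3 _ hu))) (e₃ u), inv_mul_cancel_right]

end Cfsg.Agent.H70.Lim
end

-- part: H70/Lim/BridgeM
section
/-!
# S5242, I2: the untwisted embedding (helper70)

Given the untwisting function `v` of Theorem E, the map `j s = s v₀(s)⁻¹` (`v₀` = value at the base point) turns the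
maps of `F` into conjugations by elements of `L`.
-/

set_option autoImplicit false

namespace Cfsg.Agent.H70.Lim

open Cfsg Cfsg.FusionSystem Cfsg.Agent.H752 MulAction

universe v

variable {L : Type v} [Group L] {S A : Subgroup L} {F : FusionSystem S}

/-- the data of Theorem E -/
structure Unt (F : FusionSystem S) (A : Subgroup L) (e : L ⧸ S → L ⧸ S → L → L) (v : L ⧸ S → L → L) : Prop where
  good : ∀ x y, Good F A x y (e x y)
  mem : ∀ x, ∀ u ∈ stabilizer L x, v x u ∈ A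
  mul : ∀ x, ∀ u ∈ stabilizer L x, ∀ w ∈ stabilizer L x, v x (u * w) = v x u * v x w
  triv : ∀ x, ∀ u ∈ A, v x u = 1
  smul : ∀ (l : L) x, ∀ u ∈ stabilizer L x, v (l • x) (l * u * l⁻¹) = v x u
  coh : ∀ x y, ∃ c : L, (∀ u ∈ stabilizer L x ⊓ stabilizer L y, c * u * c⁻¹ * u⁻¹ ∈ A) ∧
        ∀ u ∈ stabilizer L x ⊓ stabilizer L y, e x y u * v x u = v y u * (c * u * c⁻¹ * u⁻¹)

/-- the untwisted embedding -/
def jv (v : L ⧸ S → L → L) (s : L) : L := s * (v ((1 : L) : L ⧸ S) s)⁻¹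

theorem mem_stab_one {u : L} : u ∈ stabilizer L ((1 : L) : L ⧸ S) ↔ u ∈ S := by
  rw [mem_stab_coe, inv_one, one_mul, mul_one]

section

variable {e : L ⧸ S → L ⧸ S → L → L} {v : L ⧸ S → L → L}

theorem Unt.mem1 (U : Unt F A e v) {s : L} (hs : s ∈ S) : v ((1 : L) : L ⧸ S) s ∈ A := U.mem _ s (mem_stab_one.2 hs)

theorem Unt.mul1 (U : Unt F A e v) {s t : L} (hs : s ∈ S) (ht : t ∈ S) :
    v ((1 : L) : L ⧸ S) (s * t) = v ((1 : L) : L ⧸ S) s * v ((1 : L) : L ⧸ S) t :=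
  U.mul _ s (mem_stab_one.2 hs) t (mem_stab_one.2 ht)

theorem Unt.jv_mem (U : Unt F A e v) (hAS : A ≤ S) {s : L} (hs : s ∈ S) : jv v s ∈ S :=
  mul_mem hs (inv_mem (hAS (U.mem1 hs)))

theorem Unt.jv_mul (U : Unt F A e v) (hAL : A ≤ Subgroup.center L) {s t : L} (hs : s ∈ S) (ht : t ∈ S) :
    jv v (s * t) = jv v s * jv v t := by
  unfold jv
  rw [U.mul1 hs ht]
  have h1 := cen hAL (inv_mem (U.mem1 hs)) (t * (v ((1 : L) : L ⧸ S) t)⁻¹)
  rw [mul_assoc s (v ((1 : L) : L ⧸ S) s)⁻¹, ← h1]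
  group

theorem Unt.jv_mulA (U : Unt F A e v) (hAS : A ≤ S) {s a : L} (hs : s ∈ S) (ha : a ∈ A)
    (hAL : A ≤ Subgroup.center L) : jv v (s * a) = jv v s * a := by
  rw [U.jv_mul hAL hs (hAS ha)]
  congr 1
  unfold jv
  rw [U.triv _ a ha, inv_one, mul_one]

theorem Unt.v_mulA (U : Unt F A e v) (hAS : A ≤ S) {s a : L} (hs : s ∈ S) (ha : a ∈ A) :
    v ((1 : L) : L ⧸ S) (s * a) = v ((1 : L) : L ⧸ S) s := by
  rw [U.mul1 hs (hAS ha), U.triv _ a ha, mul_one]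

theorem Unt.jv_inj (U : Unt F A e v) (hAS : A ≤ S) {s t : L} (hs : s ∈ S) (ht : t ∈ S)
    (h : jv v s = jv v t) : s = t := by
  have h1 : v ((1 : L) : L ⧸ S) (jv v s) = v ((1 : L) : L ⧸ S) s := U.v_mulA hAS hs (inv_mem (U.mem1 hs))
  have h2 : v ((1 : L) : L ⧸ S) (jv v t) = v ((1 : L) : L ⧸ S) t := U.v_mulA hAS ht (inv_mem (U.mem1 ht))
  have h3 : v ((1 : L) : L ⧸ S) s = v ((1 : L) : L ⧸ S) t := by rw [← h1, ← h2, h]
  unfold jv at h
  rw [h3] at h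
  exact mul_right_cancel h

theorem Unt.jv_surj (U : Unt F A e v) (hAS : A ≤ S) {t : L} (ht : t ∈ S) :
    ∃ s ∈ S, jv v s = t := by
  refine ⟨t * v ((1 : L) : L ⧸ S) t, mul_mem ht (hAS (U.mem1 ht)), ?_⟩
  unfold jv
  rw [U.v_mulA hAS ht (U.mem1 ht), mul_inv_cancel_right]

/-- **Lemma M** -/
theorem Unt.lemM (U : Unt F A e v) (hAS : A ≤ S) (hAL : A ≤ Subgroup.center L) {P : Subgroup L} (hPS : P ≤ S)
    {g : L} (hg : ∀ s ∈ P, g * s * g⁻¹ ∈ S) :
    ∃ (f : L → L) (c : L), Mp F P f ∧ (∀ s ∈ P, (g * s * g⁻¹)⁻¹ * f s ∈ A) ∧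
      (∀ s ∈ P, c * s * c⁻¹ * s⁻¹ ∈ A) ∧ ∀ s ∈ P, jv v (f s) = g * c * jv v s * (g * c)⁻¹ := by
  obtain ⟨c, hc1, hc2⟩ := U.coh ((1 : L) : L ⧸ S) ((g⁻¹ : L) : L ⧸ S)
  have hst : ∀ s ∈ P, s ∈ stabilizer L ((1 : L) : L ⧸ S) ⊓ stabilizer L ((g⁻¹ : L) : L ⧸ S) := by
    intro s hs
    refine ⟨mem_stab_one.2 (hPS hs), mem_stab_coe.2 ?_⟩
    rw [inv_inv]
    exact hg s hs
  have hG := U.good ((1 : L) : L ⧸ S) ((g⁻¹ : L) : L ⧸ S)
  have hm := hG.2 1 g⁻¹ rfl rfl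
  set E := e ((1 : L) : L ⧸ S) ((g⁻¹ : L) : L ⧸ S) with hE
  refine ⟨fun s => g * s * g⁻¹ * E s, c, ?_, fun s hs => ?_, fun s hs => hc1 s (hst s hs), fun s hs => ?_⟩
  · refine (hm.res (R := P) (fun s hs => ?_)).congr fun s _ => ?_
    · rw [mem_cm, one_mul, inv_one, mul_one]
      exact hst s hs
    · rw [one_mul, inv_one, mul_one, inv_inv]
  · rw [inv_mul_cancel_left]
    exact hG.1 s (hst s hs)
  · have hEA : E s ∈ A := hG.1 s (hst s hs)
    have h1 := hc2 s (hst s hs)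
    have h2 : v ((g⁻¹ : L) : L ⧸ S) s = v ((1 : L) : L ⧸ S) (g * s * g⁻¹) := by
      have h3 := U.smul g ((g⁻¹ : L) : L ⧸ S) s (hst s hs).2
      have h4 : g • ((g⁻¹ : L) : L ⧸ S) = ((1 : L) : L ⧸ S) := by
        change ((g * g⁻¹ : L) : L ⧸ S) = _
        rw [mul_inv_cancel]
      rw [h4] at h3
      exact h3.symm
    rw [h2] at h1
    unfold jv
    change g * s * g⁻¹ * E s * (v ((1 : L) : L ⧸ S) (g * s * g⁻¹ * E s))⁻¹ = _
    rw [U.v_mulA hAS (hg s hs) hEA]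
    have c1 := cen hAL hEA
    have c2 := cen hAL (U.mem1 (hg s hs))
    have c3 := cen hAL (U.mem1 (hPS hs))
    have c4 := cen hAL (hc1 s (hst s hs))
    have e1 : c * s * c⁻¹ = c * s * c⁻¹ * s⁻¹ * s := by group
    generalize v ((1 : L) : L ⧸ S) (g * s * g⁻¹) = a at *
    generalize v ((1 : L) : L ⧸ S) s = b at *
    generalize E s = ε at *
    generalize c * s * c⁻¹ * s⁻¹ = d at *
    -- `ε * b = a * d`
    have e2 : ε * a⁻¹ = d * b⁻¹ := by
      rw [mul_inv_eq_iff_eq_mul, mul_assoc, c2 (b⁻¹), ← mul_assoc, eq_mul_inv_iff_mul_eq, h1]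
      exact (c2 d).symm
    have c3' : ∀ x, b⁻¹ * x = x * b⁻¹ := fun x => by
      rw [inv_mul_eq_iff_eq_mul, ← mul_assoc, ← c3, mul_inv_cancel_right]
    calc g * s * g⁻¹ * ε * a⁻¹ = g * s * g⁻¹ * (ε * a⁻¹) := by group
      _ = g * s * (g⁻¹ * d) * b⁻¹ := by rw [e2]; group
      _ = g * (s * d) * g⁻¹ * b⁻¹ := by rw [c4 g⁻¹]; group
      _ = g * (c * s * c⁻¹) * g⁻¹ * b⁻¹ := by rw [c4 s, e1]
      _ = g * c * s * ((g * c)⁻¹ * b⁻¹) := by group
      _ = g * c * s * (b⁻¹ * (g * c)⁻¹) := by rw [c3']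
      _ = _ := by group

/-- commutators with `c⁻¹` -/
theorem inv_comm (hAL : A ≤ Subgroup.center L) {c s : L} (h : c * s * c⁻¹ * s⁻¹ ∈ A) :
    c⁻¹ * s * c = s * (c * s * c⁻¹ * s⁻¹)⁻¹ := by
  have h1 := cen hAL h
  have e2 : s * c * (c * s * c⁻¹ * s⁻¹) = c * s := by rw [h1 (s * c)]; group
  have e3 : c⁻¹ * s * c * (c * s * c⁻¹ * s⁻¹) = s := by
    rw [mul_assoc c⁻¹ s c, mul_assoc c⁻¹, e2, inv_mul_cancel_left]
  exact eq_mul_inv_of_mul_eq e3

/-- `j (c s c⁻¹) = c (j s) c⁻¹` if `[c,s] ∈ A` -/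
theorem Unt.jv_conj (U : Unt F A e v) (hAS : A ≤ S) (hAL : A ≤ Subgroup.center L) {c s : L} (hs : s ∈ S)
    (h : s⁻¹ * (c * s * c⁻¹) ∈ A) : jv v (c * s * c⁻¹) = c * jv v s * c⁻¹ := by
  have e1 : c * s * c⁻¹ = s * (s⁻¹ * (c * s * c⁻¹)) := by group
  have h1 : jv v (c * s * c⁻¹) = jv v s * (s⁻¹ * (c * s * c⁻¹)) := by
    conv_lhs => rw [e1]
    exact U.jv_mulA hAS hs h hAL
  rw [h1]
  unfold jv
  have h2 := cen hAL (inv_mem (U.mem1 hs))
  generalize (v ((1 : L) : L ⧸ S) s)⁻¹ = b at *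
  calc s * b * (s⁻¹ * (c * s * c⁻¹)) = s * (b * (s⁻¹ * (c * s * c⁻¹))) := by group
    _ = c * s * (c⁻¹ * b) := by rw [← h2]; group
    _ = c * s * (b * c⁻¹) := by rw [h2]
    _ = _ := by group

/-- maps of `F` are conjugations, sources containing `A` -/
theorem Unt.conj_of_mp {p : ℕ} [Fact p.Prime] [Finite L] (U : Unt F A e v) (hS : IsPGroup p S)
    (hF : F.IsSaturated p) (hA : F.IsCentral A) (hAL : A ≤ Subgroup.center L)
    (h1 : ∀ (P : Subgroup L) (f : L → L), A ≤ P → Mp F P f → ∃ l : L, ∀ s ∈ P, (l * s * l⁻¹)⁻¹ * f s ∈ A)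
    {P : Subgroup L} {f : L → L} (hf : Mp F P f) : ∃ g : L, ∀ s ∈ P, jv v (f s) = g * jv v s * g⁻¹ := by
  have hAS := hA.1
  obtain ⟨f', hf', hf'1, -⟩ := mp_ext_central hA hf
  suffices h : ∃ g : L, ∀ s ∈ P ⊔ A, jv v (f' s) = g * jv v s * g⁻¹ by
    obtain ⟨g, hg⟩ := h
    exact ⟨g, fun s hs => by rw [← hf'1 s hs]; exact hg s ((le_sup_left : P ≤ P ⊔ A) hs)⟩
  have hAP : A ≤ P ⊔ A := le_sup_right
  generalize P ⊔ A = Q at *
  have hQS := hf'.le
  obtain ⟨l, hl⟩ := h1 Q f' hAP hf'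
  have hlS : ∀ s ∈ Q, l * s * l⁻¹ ∈ S := by
    intro s hs
    have h2 := mul_mem (hf'.mem hs) (inv_mem (hAS (hl s hs)))
    have h3 : f' s * ((l * s * l⁻¹)⁻¹ * f' s)⁻¹ = l * s * l⁻¹ := by group
    rwa [h3] at h2
  obtain ⟨f₁, c, hm, hf1, hc, hj⟩ := U.lemM hAS hAL hQS hlS
  obtain ⟨T, hT, -, -⟩ := hm.exists_image le_rfl
  obtain ⟨k, hk, hk1, hk2⟩ := hm.exists_symm le_rfl hT
  have hd : ∀ s ∈ Q, (f₁ s)⁻¹ * f' s ∈ A := by
    intro s hs
    have h2 := mul_mem (inv_mem (hf1 s hs)) (hl s hs)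
    have h3 : ((l * s * l⁻¹)⁻¹ * f₁ s)⁻¹ * ((l * s * l⁻¹)⁻¹ * f' s) = (f₁ s)⁻¹ * f' s := by group
    rwa [h3] at h2
  have hfd : ∀ s ∈ Q, f' s = f₁ (s * ((f₁ s)⁻¹ * f' s)) := by
    intro s hs
    rw [mp_mul_fix hA hm hAP hs (hd s hs), mul_inv_cancel_left]
  have hm2 : Mp F Q fun s => s * ((f₁ s)⁻¹ * f' s) := by
    refine (hf'.comp hk fun s hs => ?_).congr fun s hs => ?_
    · rw [hfd s hs]
      exact (hT _).2 ⟨_, mul_mem hs (hAP (hd s hs)), rfl⟩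
    · rw [hfd s hs, hk1 _ (mul_mem hs (hAP (hd s hs)))]
      rw [← hfd s hs]
  obtain ⟨m, hm3⟩ := exists_conj_of_mp hS hF hA hAL h1 hAP hd hm2
  refine ⟨l * c * m, fun s hs => ?_⟩
  have hmA : s⁻¹ * (m * s * m⁻¹) ∈ A := by
    rw [← hm3 s hs, inv_mul_cancel_left]
    exact hd s hs
  have hmQ : m * s * m⁻¹ ∈ Q := by
    rw [← hm3 s hs]
    exact mul_mem hs (hAP (hd s hs))
  rw [hfd s hs, hm3 s hs, hj _ hmQ, U.jv_conj hAS hAL (hQS hs) hmA]
  group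

/-- conjugations are maps of `F`, sources containing `A` -/
theorem Unt.mp_of_conj {p : ℕ} [Fact p.Prime] [Finite L] (U : Unt F A e v) (T : Sylow p L)
    (hT : (T : Subgroup L) = S) (hA : F.IsCentral A) (hAL : A ≤ Subgroup.center L)
    (h2 : ∀ P : Subgroup L, P ≤ S → A ≤ P → ∀ l : L, (∀ s ∈ P, l * s * l⁻¹ ∈ S) →
      ∃ f, Mp F P f ∧ ∀ s ∈ P, (l * s * l⁻¹)⁻¹ * f s ∈ A)
    {P : Subgroup L} (hPS : P ≤ S) (hAP : A ≤ P) {f : L → L} (hfS : ∀ s ∈ P, f s ∈ S) {g : L}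
    (hg : ∀ s ∈ P, jv v (f s) = g * jv v s * g⁻¹) : Mp F P f := by
  have hAS := hA.1
  have hgS : ∀ s ∈ P, g * s * g⁻¹ ∈ S := by
    intro s hs
    have h3 := hg s hs
    have h4 := cen hAL (U.mem1 (hPS hs)) (g⁻¹)
    have h5 : g * s * g⁻¹ = jv v (f s) * v ((1 : L) : L ⧸ S) s := by
      rw [h3]
      unfold jv
      rw [mul_assoc _ g⁻¹, h4]
      group
    rw [h5]
    exact mul_mem (U.jv_mem hAS (hfS s hs)) (hAS (U.mem1 (hPS hs)))
  obtain ⟨f₁, c, hm, hf1, hc, hj⟩ := U.lemM hAS hAL hPS hgS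
  have hcA : ∀ s ∈ P, s⁻¹ * (c⁻¹ * s * c⁻¹⁻¹) ∈ A := by
    intro s hs
    rw [inv_inv, inv_comm hAL (hc s hs), inv_mul_cancel_left]
    exact inv_mem (hc s hs)
  have hcP : ∀ s ∈ P, c⁻¹ * s * c⁻¹⁻¹ ∈ P := by
    intro s hs
    have h3 := mul_mem hs (hAP (hcA s hs))
    rwa [mul_inv_cancel_left] at h3
  have hk := Lim.mp_of_conj T hT hA hAL h2 hPS hAP hcA
  refine (hk.comp hm hcP).congr fun s hs => ?_
  refine U.jv_inj hAS (hfS s hs) (hm.mem (hcP s hs)) ?_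
  rw [hj _ (hcP s hs), U.jv_conj hAS hAL (hPS hs) (hcA s hs), hg s hs]
  group

/-- **the untwisted embedding realizes `F`** -/
theorem Unt.mp_iff {p : ℕ} [Fact p.Prime] [Finite L] (U : Unt F A e v) (T : Sylow p L)
    (hT : (T : Subgroup L) = S) (hF : F.IsSaturated p) (hA : F.IsCentral A) (hAL : A ≤ Subgroup.center L)
    (h1 : ∀ (P : Subgroup L) (f : L → L), A ≤ P → Mp F P f → ∃ l : L, ∀ s ∈ P, (l * s * l⁻¹)⁻¹ * f s ∈ A)
    (h2 : ∀ P : Subgroup L, P ≤ S → A ≤ P → ∀ l : L, (∀ s ∈ P, l * s * l⁻¹ ∈ S) →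
      ∃ f, Mp F P f ∧ ∀ s ∈ P, (l * s * l⁻¹)⁻¹ * f s ∈ A)
    {P : Subgroup L} (hPS : P ≤ S) {f : L → L} (hfS : ∀ s ∈ P, f s ∈ S) :
    Mp F P f ↔ ∃ g : L, ∀ s ∈ P, jv v (f s) = g * jv v s * g⁻¹ := by
  have hAS := hA.1
  have hS : IsPGroup p S := hT ▸ T.isPGroup'
  refine ⟨fun hf => U.conj_of_mp hS hF hA hAL h1 hf, ?_⟩
  rintro ⟨g, hg⟩
  -- extension to `P A`
  have hPA : P ⊔ A ≤ S := sup_le hPS hAS
  have hmem : ∀ s ∈ P ⊔ A, g * jv v s * g⁻¹ ∈ S := by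
    intro s hs
    have : A.Normal := ⟨fun a ha x => by rw [conj_A hAL ha]; exact ha⟩
    obtain ⟨s₀, hs₀, a, ha, rfl⟩ := Subgroup.mem_sup_of_normal_right.1 hs
    have h3 : g * jv v (s₀ * a) * g⁻¹ = jv v (f s₀) * a := by
      rw [U.jv_mulA hAS (hPS hs₀) ha hAL, hg s₀ hs₀]
      have h4 := cen hAL ha g⁻¹
      rw [← mul_assoc g, mul_assoc (g * jv v s₀) a, ← h4, ← mul_assoc]
    rw [h3]
    exact mul_mem (U.jv_mem hAS (hfS s₀ hs₀)) (hAS ha)
  have hex : ∀ s ∈ P ⊔ A, ∃ t ∈ S, jv v t = g * jv v s * g⁻¹ := fun s hs => U.jv_surj hAS (hmem s hs)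
  choose! k hk1 hk2 using hex
  have h3 := U.mp_of_conj T hT hA hAL h2 hPA le_sup_right hk1 hk2
  refine (h3.res le_sup_left).congr fun s hs => ?_
  have hs' : s ∈ P ⊔ A := (le_sup_left : P ≤ P ⊔ A) hs
  exact U.jv_inj hAS (hfS s hs) (hk1 s hs') (by rw [hk2 s hs', hg s hs])

end

end Cfsg.Agent.H70.Lim
end

-- part: H70/Lim/BridgeT
section
/-!
# S5242, I2: the bridge (helper70)

A saturated fusion system with a central subgroup `A` agreeing modulo `A` with a finite group `L` (with `A` central and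
the same Sylow subgroup) is realizable (given Theorem E, taken as hypothesis here).
-/

set_option autoImplicit false

namespace Cfsg.Agent.H70.Lim

open Cfsg Cfsg.FusionSystem Cfsg.Agent.H752 MulAction Cfsg.Agent.H539.Lim

universe u v w

/-- the statement of Theorem E for `L` acting on `Ω` -/
def ThmE (p : ℕ) (L : Type u) [Group L] (Ω : Type v) [MulAction L Ω] : Prop :=
  PSet p L Ω → ∀ (A : Subgroup L), A ≤ Subgroup.center L → IsPGroup p A →
    (∀ x : Ω, A ≤ stabilizer L x) → ∀ (e : Ω → Ω → L → L),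
    (∀ x y, ∀ u ∈ stabilizer L x ⊓ stabilizer L y, e x y u ∈ A) →
    (∀ x y, ∀ u ∈ stabilizer L x ⊓ stabilizer L y, ∀ w ∈ stabilizer L x ⊓ stabilizer L y,
      e x y (u * w) = e x y u * e x y w) →
    (∀ x y, ∀ u ∈ A, e x y u = 1) →
    (∀ (l : L) x y, ∀ u ∈ stabilizer L x ⊓ stabilizer L y, e (l • x) (l • y) (l * u * l⁻¹) = e x y u) →
    (∀ x y z, ∃ c : L, (∀ u ∈ stabilizer L x ⊓ stabilizer L y ⊓ stabilizer L z, c * u * c⁻¹ * u⁻¹ ∈ A) ∧
      ∀ u ∈ stabilizer L x ⊓ stabilizer L y ⊓ stabilizer L z,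
        e x y u * e y z u = e x z u * (c * u * c⁻¹ * u⁻¹)) →
    ∃ v : Ω → L → L, (∀ x, ∀ u ∈ stabilizer L x, v x u ∈ A) ∧
      (∀ x, ∀ u ∈ stabilizer L x, ∀ w ∈ stabilizer L x, v x (u * w) = v x u * v x w) ∧
      (∀ x, ∀ u ∈ A, v x u = 1) ∧
      (∀ (l : L) x, ∀ u ∈ stabilizer L x, v (l • x) (l * u * l⁻¹) = v x u) ∧
      ∀ x y, ∃ c : L, (∀ u ∈ stabilizer L x ⊓ stabilizer L y, c * u * c⁻¹ * u⁻¹ ∈ A) ∧
        ∀ u ∈ stabilizer L x ⊓ stabilizer L y, e x y u * v x u = v y u * (c * u * c⁻¹ * u⁻¹)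

section

variable {L : Type v} [Group L] {S A : Subgroup L} {F : FusionSystem S}

theorem pset {p : ℕ} [Fact p.Prime] [Finite L] (T : Sylow p L) (hT : (T : Subgroup L) = S) :
    PSet p L (L ⧸ S) := by
  have hS : IsPGroup p S := hT ▸ T.isPGroup'
  constructor
  · intro x
    obtain ⟨r, rfl⟩ := QuotientGroup.mk_surjective x
    have h1 : stabilizer L (r : L ⧸ S) ≤ S.map (MulAut.conj r).toMonoidHom := by
      intro u hu
      refine ⟨_, mem_stab_coe.1 hu, ?_⟩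
      change r * (r⁻¹ * u * r) * r⁻¹ = u
      group
    exact (hS.map _).to_le h1
  · intro P hP
    obtain ⟨g, hg⟩ := exists_conj_le T hP
    refine ⟨((g⁻¹ : L) : L ⧸ S), fun u hu => mem_stab_coe.2 ?_⟩
    rw [inv_inv, ← hT]
    exact hg u hu

theorem exists_unt {p : ℕ} [Fact p.Prime] [Finite L] (T : Sylow p L)
    (hT : (T : Subgroup L) = S) (hF : F.IsSaturated p) (hA : F.IsCentral A) (hAL : A ≤ Subgroup.center L)
    (h1 : ∀ (P : Subgroup L) (f : L → L), A ≤ P → Mp F P f → ∃ l : L, ∀ s ∈ P, (l * s * l⁻¹)⁻¹ * f s ∈ A)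
    (h2 : ∀ P : Subgroup L, P ≤ S → A ≤ P → ∀ l : L, (∀ s ∈ P, l * s * l⁻¹ ∈ S) →
      ∃ f, Mp F P f ∧ ∀ s ∈ P, (l * s * l⁻¹)⁻¹ * f s ∈ A)
    (hE : ThmE p L (L ⧸ S)) : ∃ e v, Unt F A e v := by
  have hS : IsPGroup p S := hT ▸ T.isPGroup'
  obtain ⟨e, he, he2⟩ := exists_e hA hAL h2
  obtain ⟨v, hv1, hv2, hv3, hv4, hv5⟩ := hE (pset T hT) A hAL (hS.to_le hA.1) (A_le_stab hA.1 hAL) e
    (fun x y => (he x y).1) (fun x y u hu w hw => (he x y).mul hAL hu hw)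
    (fun x y u hu => (he x y).fixA hA hAL hu) he2
    (fun x y z => coc hS hF hA hAL h1 (he x y) (he y z) (he x z))
  exact ⟨e, v, he, hv1, hv2, hv3, hv4, hv5⟩

end

section

variable {W : Type u} [Group W] {S : Subgroup W} {L : Type v} [Group L] {ι : S →* L} {hι : Function.Injective ι}
  {F : FusionSystem S} {T : Subgroup L} {F' : FusionSystem T} {C : FusionSystem (⊤ : Subgroup S)}

theorem exists_fn (hι : Function.Injective ι) {P : Subgroup W} (hP : P ≤ S) (φ : P → W) (hφ : ∀ x, φ x ∈ S) :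
    ∃ f : L → L, ∀ x : P, f (ι ⟨x, hP x.2⟩) = ι ⟨φ x, hφ x⟩ := by
  classical
  refine ⟨fun y => if h : ∃ x : P, ι ⟨x, hP x.2⟩ = y then ι ⟨φ h.choose, hφ _⟩ else 1, fun x => ?_⟩
  have h : ∃ x' : P, ι ⟨x', hP x'.2⟩ = ι ⟨x, hP x.2⟩ := ⟨x, rfl⟩
  beta_reduce
  rw [dif_pos h]
  have h1 := hι h.choose_spec
  have h2 : h.choose = x := Subtype.ext (Subtype.mk.inj h1)
  congr 2
  rw [h2]

theorem mp_trans (hC : H759.IsPush (Subgroup.subtype_injective S) C F) (hD : H759.IsPush hι C F')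
    {P : Subgroup W} (hP : P ≤ S) (φ : P →* W) (hφ : ∀ x, φ x ∈ S) {f : L → L}
    (hf : ∀ x : P, f (ι ⟨x, hP x.2⟩) = ι ⟨φ x, hφ x⟩) :
    φ ∈ F.Hom P ↔ Mp F' ((P.subgroupOf S).map ι) f := by
  have e1 : (P.subgroupOf S).map S.subtype = P := Subgroup.map_subgroupOf_eq_of_le hP
  constructor
  · intro h
    have h1 : Mp F ((P.subgroupOf S).map S.subtype) (ex φ) := by
      rw [e1]
      exact mp_ex h
    obtain ⟨g₁, hg₁, hg⟩ := (H758.mp_push_iff hC).1 h1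
    refine (H758.mp_push_iff hD).2 ⟨g₁, hg₁, fun x hx => ?_⟩
    have h2 := hg x hx
    have hx' : (x : W) ∈ P := hx
    have h3 := hf ⟨x, hx'⟩
    have h4 : ex φ (S.subtype x) = φ ⟨x, hx'⟩ := ex_apply _ hx'
    rw [h4] at h2
    change f (ι x) = _ at h3
    rw [h3]
    congr 1
    exact Subtype.ext h2
  · intro h
    obtain ⟨g₁, hg₁, hg⟩ := (H758.mp_push_iff hD).1 h
    have h1 : Mp F ((P.subgroupOf S).map S.subtype) (ex φ) := by
      refine (H758.mp_push_iff hC).2 ⟨g₁, hg₁, fun x hx => ?_⟩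
      have h2 := hg x hx
      have hx' : (x : W) ∈ P := hx
      have h3 := hf ⟨x, hx'⟩
      have h4 : ex φ (S.subtype x) = φ ⟨x, hx'⟩ := ex_apply _ hx'
      rw [h4]
      change f (ι x) = _ at h3
      rw [h2] at h3
      exact (congrArg Subtype.val (hι h3)).symm
    rw [e1] at h1
    exact h1.mem_hom fun x hx => (ex_apply φ hx).symm

theorem exists_src (hC : H759.IsPush (Subgroup.subtype_injective S) C F) (hD : H759.IsPush hι C F')
    {P' : Subgroup L} {f : L → L} (hf : Mp F' P' f) : ∃ (P : Subgroup W) (hP : P ≤ S) (φ : P →* W) (hφ : ∀ x, φ x ∈ S),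
    P' = (P.subgroupOf S).map ι ∧ φ ∈ F.Hom P ∧ ∀ x : P, f (ι ⟨x, hP x.2⟩) = ι ⟨φ x, hφ x⟩ := by
  classical
  obtain ⟨Q, rfl, -⟩ := hD.exists_source hf.le
  obtain ⟨g₁, hg₁, hg⟩ := (H758.mp_push_iff hD).1 hf
  have h1 : Mp F (Q.map S.subtype) (fun x => if hx : x ∈ S then (g₁ ⟨x, hx⟩ : W) else 1) := by
    refine (H758.mp_push_iff hC).2 ⟨g₁, hg₁, fun x hx => ?_⟩
    change (if hx : (x : W) ∈ S then (g₁ ⟨x, hx⟩ : W) else 1) = _
    rw [dif_pos x.2]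
    rfl
  obtain ⟨φ, hφ, hφ2⟩ := h1
  have hQS : Q.map S.subtype ≤ S := Subgroup.map_subtype_le Q
  have hval : ∀ x : Q.map S.subtype, φ x = g₁ ⟨x, hQS x.2⟩ := by
    intro x
    have h2 := hφ2 x x.2
    have h3 := hQS x.2
    beta_reduce at h2
    rw [dif_pos h3] at h2
    exact h2
  refine ⟨Q.map S.subtype, hQS, φ, fun x => (F.le_of_mem hφ).2 x, ?_, hφ, fun x => ?_⟩
  · congr 1
    ext x
    exact ⟨fun hx => ⟨x, hx, rfl⟩, by rintro ⟨y, hy, hyx⟩; rw [← Subtype.ext hyx]; exact hy⟩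
  · obtain ⟨y, hy, hyx⟩ := x.2
    have h4 : (⟨x, hQS x.2⟩ : S) ∈ Q := by
      have : y = ⟨x, hQS x.2⟩ := Subtype.ext hyx
      rwa [← this]
    rw [hg _ h4]
    congr 1
    exact Subtype.ext (hval x).symm

end

/-- a system realized in a finite group of any universe is realizable -/
theorem realizable_of_finite {W : Type u} [Group W] {S : Subgroup W} {F : FusionSystem S} {p : ℕ} [Fact p.Prime]
    {G : Type v} [Group G] [Finite G] (ι : S →* G) (hF : F.IsRealizedBy ι)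
    (hT : ∃ T : Sylow p G, (T : Subgroup G) = ι.range) : F.IsRealizable p := by
  obtain ⟨T, hT⟩ := hT
  let E : Shrink.{u} G ≃* G := Shrink.mulEquiv
  refine ⟨Shrink.{u} G, inferInstance, inferInstance, E.symm.toMonoidHom.comp ι, ⟨?_, ?_⟩, ?_⟩
  · exact E.symm.injective.comp hF.1
  · intro P hP φ hφ
    rw [hF.2 P hP φ hφ]
    constructor
    · rintro ⟨g, hg⟩
      refine ⟨E.symm g, fun x => ?_⟩
      change E.symm (ι _) = E.symm g * E.symm (ι _) * (E.symm g)⁻¹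
      rw [hg x, map_mul, map_mul, map_inv]
    · rintro ⟨g, hg⟩
      refine ⟨E g, fun x => ?_⟩
      have h1 := congrArg E (hg x)
      change E (E.symm (ι _)) = E (g * E.symm (ι _) * g⁻¹) at h1
      rwa [map_mul, map_mul, map_inv, MulEquiv.apply_symm_apply, MulEquiv.apply_symm_apply] at h1
  · have hsurj : Function.Surjective E.symm.toMonoidHom := E.symm.surjective
    refine ⟨T.mapSurjective hsurj, ?_⟩
    rw [Sylow.coe_mapSurjective, hT, MonoidHom.range_comp]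

theorem bridge_aux {p : ℕ} [Fact p.Prime] {W : Type u} [Group W] {S : Subgroup W} [Finite S] (_hS : IsPGroup p S)
    (F : Cfsg.FusionSystem S) (hF : F.IsSaturated p) (A : Subgroup W) (hA : F.IsCentral A)
    {L : Type v} [Group L] [Finite L] (ι : S →* L) (hι : Function.Injective ι)
    (T : Sylow p L) (hT : (T : Subgroup L) = ι.range) (hAL : (A.subgroupOf S).map ι ≤ Subgroup.center L)
    (h1 : ∀ (P : Subgroup W) (hP : P ≤ S) (φ : P →* W) (hφS : ∀ s : P, φ s ∈ S), A ≤ P → φ ∈ F.Hom P →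
      ∃ l : L, ∀ s : P, (l * ι ⟨s, hP s.2⟩ * l⁻¹)⁻¹ * ι ⟨φ s, hφS s⟩ ∈ (A.subgroupOf S).map ι)
    (h2 : ∀ (P : Subgroup W) (hP : P ≤ S), A ≤ P → ∀ l : L, (∀ s : P, l * ι ⟨s, hP s.2⟩ * l⁻¹ ∈ ι.range) →
      ∃ (φ : P →* W) (hφS : ∀ s : P, φ s ∈ S), φ ∈ F.Hom P ∧
        ∀ s : P, (l * ι ⟨s, hP s.2⟩ * l⁻¹)⁻¹ * ι ⟨φ s, hφS s⟩ ∈ (A.subgroupOf S).map ι)
    (hE : ThmE p L (L ⧸ (T : Subgroup L))) :
    F.IsRealizable p := by
  classical
  obtain ⟨C, hC⟩ := H759.exists_pull' (hf := Subgroup.subtype_injective S)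
    (T₁ := (⊤ : Subgroup S)) (T₂ := S) (by
      rw [← MonoidHom.range_eq_map, Subgroup.range_subtype]) F
  obtain ⟨F', hD⟩ := H759.exists_push' (hf := hι) (T₁ := (⊤ : Subgroup S)) (T₂ := (T : Subgroup L)) (by
      rw [← MonoidHom.range_eq_map, hT]) C
  have hF' : F'.IsSaturated p := hD.isSaturated_iff.2 (hC.isSaturated_iff.1 hF)
  have hAS : A ≤ S := hA.1
  have hA' : F'.IsCentral ((A.subgroupOf S).map ι) := by
    refine hD.isCentral_iff.2 (hC.isCentral_iff.1 ?_)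
    rw [Subgroup.map_subgroupOf_eq_of_le hAS]
    exact hA
  set A' := (A.subgroupOf S).map ι with hA'def
  have hAP : ∀ {P : Subgroup W}, P ≤ S → (A' ≤ (P.subgroupOf S).map ι ↔ A ≤ P) := by
    intro P hP
    rw [hA'def, H759.map_le_map hι]
    constructor
    · intro h a ha
      exact h (x := ⟨a, hAS ha⟩) ha
    · intro h a ha
      exact h ha
  have h1' : ∀ (P : Subgroup L) (f : L → L), A' ≤ P → Mp F' P f → ∃ l : L, ∀ s ∈ P, (l * s * l⁻¹)⁻¹ * f s ∈ A' := by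
    intro P' f hAP' hf
    obtain ⟨P, hP, φ, hφ, rfl, hφF, hφf⟩ := exists_src hC hD hf
    obtain ⟨l, hl⟩ := h1 P hP φ hφ ((hAP hP).1 hAP') hφF
    refine ⟨l, ?_⟩
    rintro _ ⟨x, hx, rfl⟩
    have h3 := hl ⟨x, hx⟩
    rw [← hφf ⟨x, hx⟩] at h3
    exact h3
  have h2' : ∀ P : Subgroup L, P ≤ (T : Subgroup L) → A' ≤ P → ∀ l : L, (∀ s ∈ P, l * s * l⁻¹ ∈ (T : Subgroup L)) →
      ∃ f, Mp F' P f ∧ ∀ s ∈ P, (l * s * l⁻¹)⁻¹ * f s ∈ A' := by
    intro P' hP' hAP' l hl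
    obtain ⟨P, hP, φ, hφ, rfl, -, -⟩ := exists_src hC hD (mp_id F' hP')
    rw [hT] at hl
    obtain ⟨ψ, hψ, hψF, hψl⟩ := h2 P hP ((hAP hP).1 hAP') l (fun s => hl _ ⟨⟨s, hP s.2⟩, s.2, rfl⟩)
    obtain ⟨f, hf⟩ := exists_fn hι hP ψ hψ
    refine ⟨f, (mp_trans hC hD hP ψ hψ hf).1 hψF, ?_⟩
    rintro _ ⟨x, hx, rfl⟩
    have h3 := hψl ⟨x, hx⟩
    rw [← hf ⟨x, hx⟩] at h3
    exact h3
  obtain ⟨e, v, U⟩ := exists_unt T rfl hF' hA' hAL h1' h2' hE
  have hιT : ∀ x : S, ι x ∈ (T : Subgroup L) := fun x => by rw [hT]; exact ⟨x, rfl⟩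
  let j : S →* L :=
    { toFun := fun x => jv v (ι x)
      map_one' := by
        have h3 := U.jv_mul hAL (one_mem (T : Subgroup L)) (one_mem (T : Subgroup L))
        rw [one_mul] at h3
        rw [map_one]
        exact mul_eq_left.1 h3.symm
      map_mul' := fun x y => by rw [map_mul, U.jv_mul hAL (hιT x) (hιT y)] }
  refine realizable_of_finite j ⟨fun x y hxy => hι (U.jv_inj hA'.1 (hιT x) (hιT y) hxy), ?_⟩ ⟨T, ?_⟩
  · intro P hP φ hφ
    obtain ⟨f, hf⟩ := exists_fn hι hP φ hφ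
    have hPT : (P.subgroupOf S).map ι ≤ (T : Subgroup L) := by
      rintro _ ⟨x, -, rfl⟩
      exact hιT x
    rw [mp_trans hC hD hP φ hφ hf, U.mp_iff T rfl hF' hA' hAL h1' h2' hPT (by
      rintro _ ⟨x, hx, rfl⟩
      have h3 := hf ⟨x, hx⟩
      change f (ι x) = _ at h3
      rw [h3]
      exact hιT _)]
    constructor
    · rintro ⟨g, hg⟩
      refine ⟨g, fun x => ?_⟩
      have h3 := hg (ι ⟨x, hP x.2⟩) ⟨_, x.2, rfl⟩
      rw [hf x] at h3
      exact h3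
    · rintro ⟨g, hg⟩
      refine ⟨g, ?_⟩
      rintro _ ⟨x, hx, rfl⟩
      have h3 := hg ⟨x, hx⟩
      change jv v (ι _) = g * jv v (ι x) * g⁻¹ at h3
      have h4 := hf ⟨x, hx⟩
      change f (ι x) = _ at h4
      rw [h4]
      exact h3
  · ext y
    constructor
    · intro hy
      obtain ⟨t, ht, rfl⟩ := U.jv_surj hA'.1 hy
      rw [hT] at ht
      obtain ⟨x, rfl⟩ := ht
      exact ⟨x, rfl⟩
    · rintro ⟨x, rfl⟩
      exact U.jv_mem hA'.1 (hιT x)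

end Cfsg.Agent.H70.Lim
end

-- part: S5242
section
set_option autoImplicit false
open Cfsg

namespace Cfsg.Agent.S5242

/-- Let F be a saturated fusion system over a finite p-group S and A a subgroup of S central in F (every map of F extends to a map fixing A elementwise). Then, for every factor system E of F by A, F is exotic (saturated, but not the fusion system of a finite group on one of its Sylow p-subgroups) if and only if E is exotic. -/
theorem result {Ω : Type*} [Group Ω] {S : Subgroup Ω} [Finite S] (p : ℕ) [Fact p.Prime] (hS : IsPGroup p S) (F : Cfsg.FusionSystem S) (hF : F.IsSaturated p) (A : Subgroup Ω) (hA : F.IsCentral A) {Ω' : Type*} [Group Ω'] {S' : Subgroup Ω'} [Finite S'] (θ : ↥S →* Ω') (E : Cfsg.FusionSystem S') (hE : F.IsFactorSystem A θ E) : F.IsExotic p ↔ E.IsExotic p := by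
  constructor
  · rintro ⟨-, h⟩
    exact ⟨Cfsg.Agent.H877.Lim.factor_saturated p hS F hF A hA θ E hE, fun hr => h
      (Cfsg.Agent.H269.Lim.realizable_of_factor_aux
        (fun T _ _ _ hS θ hθ hker hst => Cfsg.Agent.H544.Lim.exists_ext T hS θ hθ hker hst)
        (fun hS F hF A hA _ _ _ ι hι T hT hAL h1 h2 =>
          Cfsg.Agent.H70.Lim.bridge_aux hS F hF A hA ι hι T hT hAL h1 h2
            (fun hΩ A hA hAp hAst e he hmul heA heq hcoc =>
              Cfsg.Agent.H539.Lim.ME.thmE hΩ A hA hAp hAst e he hmul heA heq hcoc))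
        p hS F hF A hA θ E hE hr)⟩
  · rintro ⟨-, h⟩
    exact ⟨hF, fun hr => h (Cfsg.Agent.H877.Lim.factor_realizable p hS F hF A hA θ E hE hr)⟩

end Cfsg.Agent.S5242
end
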