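import Cfsg.Statements.S2431
import Cfsg.Agent.LieClassical.SLTwoSylowTwo
import Cfsg.Agent.LFourB.ProdAut
import Cfsg.Agent.PermutationGroups.AutQuaternion
import Cfsg.Agent.ClassicalGeometry.PSL2Basic
set_option linter.all false

set_option autoImplicit false
open Cfsg

namespace Cfsg.Agent.S2431

open Matrix Cfsg.Agent.LieClassical

/-- a quaternion pair in `SL₂(F)`, with an element of order dividing 6 permuting `i, j, ij` cyclically. -/
theorem exists_pair {F : Type*} [Field F] [Finite F] (h2 : (2 : F) ≠ 0) :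
    ∃ i j w : SpecialLinearGroup (Fin 2) F, i * i = -1 ∧ j * j = -1 ∧ j * i = -(i * j) ∧ i ≠ -i ∧
      (∀ x, x * i = i * x → x * j = j * x → x ∈ Subgroup.center (SpecialLinearGroup (Fin 2) F)) ∧
      w * i = i * j * w ∧ w * j = i * w := by
  obtain ⟨p, hp⟩ := CharP.exists F
  have : Fact p.Prime := ⟨CharP.char_is_prime F p⟩
  obtain ⟨a', b', hab'⟩ := CharP.sq_add_sq F p (-1)
  obtain ⟨a, ha⟩ : ∃ a : F, a = a' := ⟨_, rfl⟩
  obtain ⟨b, hb⟩ : ∃ b : F, b = b' := ⟨_, rfl⟩
  have hab : a ^ 2 + b ^ 2 = -1 := by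
    rw [ha, hb]; simpa using hab'
  clear hab'
  let i : SpecialLinearGroup (Fin 2) F := ⟨!![0, 1; -1, 0], by
    rw [Matrix.det_fin_two_of]; ring⟩
  let j : SpecialLinearGroup (Fin 2) F := ⟨!![a, b; b, -a], by
    rw [Matrix.det_fin_two_of]; linear_combination -hab⟩
  obtain ⟨t, ht⟩ : ∃ t : F, 2 * t = 1 := ⟨2⁻¹, mul_inv_cancel₀ h2⟩
  -- w = (-1 + i + j + ij)/2 ; ij = [[b, -a], [-a, -b]]
  let w : SpecialLinearGroup (Fin 2) F := ⟨!![t * (-1 + a + b), t * (1 + b - a); t * (-1 + b - a), t * (-1 - a - b)], by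
    rw [Matrix.det_fin_two_of]
    linear_combination (-2 * t ^ 2) * hab + (2 * t + 1) * ht⟩
  have hi : (i : Matrix (Fin 2) (Fin 2) F) = !![0, 1; -1, 0] := rfl
  have hj : (j : Matrix (Fin 2) (Fin 2) F) = !![a, b; b, -a] := rfl
  have hw : (w : Matrix (Fin 2) (Fin 2) F) = !![t * (-1 + a + b), t * (1 + b - a); t * (-1 + b - a), t * (-1 - a - b)] := rfl
  refine ⟨i, j, w, ?_, ?_, ?_, ?_, ?_, ?_, ?_⟩
  · apply Subtype.ext
    refine Eq.trans ?_ SLTwoSylowTwo.coe_neg_one.symm
    rw [SLTwoUnipotent.coe_mul, hi, Matrix.mul_fin_two]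
    simp
  · apply Subtype.ext
    refine Eq.trans ?_ SLTwoSylowTwo.coe_neg_one.symm
    rw [SLTwoUnipotent.coe_mul, hj, Matrix.mul_fin_two]
    ext r s
    fin_cases r <;> fin_cases s
    · simp; linear_combination hab
    · simp; ring
    · simp; ring
    · simp; linear_combination hab
  · apply Subtype.ext
    rw [SpecialLinearGroup.coe_neg, SLTwoUnipotent.coe_mul, SLTwoUnipotent.coe_mul, hi, hj,
      Matrix.mul_fin_two, Matrix.mul_fin_two]
    simp
  · intro h
    have h4 := congrArg (fun z : SpecialLinearGroup (Fin 2) F => z 0 1) h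
    simp [SpecialLinearGroup.coe_neg, hi] at h4
    apply h2
    linear_combination h4
  · intro x hxi hxj
    have hx := Matrix.eta_fin_two (x : Matrix (Fin 2) (Fin 2) F)
    have e1 := congrArg (fun z : SpecialLinearGroup (Fin 2) F => (z : Matrix (Fin 2) (Fin 2) F)) hxi
    have e2 := congrArg (fun z : SpecialLinearGroup (Fin 2) F => (z : Matrix (Fin 2) (Fin 2) F)) hxj
    simp only [SLTwoUnipotent.coe_mul] at e1 e2
    rw [hx, hi, Matrix.mul_fin_two, Matrix.mul_fin_two] at e1
    rw [hx, hj, Matrix.mul_fin_two, Matrix.mul_fin_two] at e2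
    have a00 := congrFun (congrFun e1 0) 0
    have a01 := congrFun (congrFun e1 0) 1
    have b00 := congrFun (congrFun e2 0) 0
    have b01 := congrFun (congrFun e2 0) 1
    simp only [of_apply, cons_val', cons_val_zero, cons_val_one, cons_val_fin_one] at a00 a01 b00 b01
    obtain ⟨s, hs⟩ : ∃ s, s = x 0 0 := ⟨_, rfl⟩
    obtain ⟨u, hu⟩ : ∃ u, u = x 0 1 := ⟨_, rfl⟩
    obtain ⟨v, hv⟩ : ∃ v, v = x 1 0 := ⟨_, rfl⟩
    obtain ⟨y, hy⟩ : ∃ y, y = x 1 1 := ⟨_, rfl⟩
    rw [← hs, ← hu, ← hv, ← hy] at hx
    rw [← hu, ← hv, ← hs] at a00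
    rw [← hs, ← hu, ← hy] at a01
    rw [← hs, ← hu, ← hv] at b00
    rw [← hs, ← hu, ← hy] at b01
    have hvu : v = -u := by linear_combination -a00
    have hsy : y = s := by linear_combination -a01
    have h1 : (2 * u) * b = 0 := by rw [hvu] at b00; linear_combination b00
    have h3 : (2 * u) * a = 0 := by rw [hsy] at b01; linear_combination -b01
    have h4 : (2 * u) = 0 := by
      linear_combination (2 * u) * hab - a * h3 - b * h1
    have hu0 : u = 0 := (mul_eq_zero.1 h4).resolve_left h2
    rw [Matrix.SpecialLinearGroup.mem_center_iff]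
    refine ⟨s, ?_, ?_⟩
    · have hdet := x.det_coe
      rw [hx, Matrix.det_fin_two_of, hvu, hsy, hu0] at hdet
      simp only [Fintype.card_fin]
      linear_combination hdet
    · rw [hx, hvu, hsy, hu0]
      ext r c
      fin_cases r <;> fin_cases c <;> simp
  · apply Subtype.ext
    rw [SLTwoUnipotent.coe_mul, SLTwoUnipotent.coe_mul, SLTwoUnipotent.coe_mul, hi, hj, hw,
      Matrix.mul_fin_two, Matrix.mul_fin_two, Matrix.mul_fin_two]
    ext r s
    fin_cases r <;> fin_cases s
    · simp; linear_combination (-t) * hab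
    · simp; linear_combination (-t) * hab
    · simp; linear_combination (t) * hab
    · simp; linear_combination (-t) * hab
  · apply Subtype.ext
    rw [SLTwoUnipotent.coe_mul, SLTwoUnipotent.coe_mul, hi, hj, hw,
      Matrix.mul_fin_two, Matrix.mul_fin_two]
    ext r s
    fin_cases r <;> fin_cases s
    · simp; linear_combination (t) * hab
    · simp; linear_combination (t) * hab
    · simp; linear_combination (-t) * hab
    · simp; linear_combination (t) * hab

/-- every Sylow 2-subgroup contains a quaternion pair -/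
theorem exists_pair_mem {F : Type*} [Field F] [Finite F] (h2 : (2 : F) ≠ 0)
    (S : Sylow 2 (SpecialLinearGroup (Fin 2) F)) :
    ∃ i j w : SpecialLinearGroup (Fin 2) F, i ∈ S ∧ j ∈ S ∧ i * i = -1 ∧ j * j = -1 ∧
      j * i = -(i * j) ∧ i ≠ -i ∧
      (∀ x, x * i = i * x → x * j = j * x → x ∈ Subgroup.center (SpecialLinearGroup (Fin 2) F)) ∧
      w * i = i * j * w ∧ w * j = i * w := by
  obtain ⟨i, j, w, hii, hjj, hji, hne, hcen, hwi, hwj⟩ := exists_pair (F := F) h2
  have h2g : ∀ k : SpecialLinearGroup (Fin 2) F, k * k = -1 → IsPGroup 2 (Subgroup.zpowers k) := by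
    intro k hk
    have : Nat.card (Subgroup.zpowers k) ∣ 2 ^ 2 := by
      rw [Nat.card_zpowers]
      apply orderOf_dvd_of_pow_eq_one
      rw [show (2 : ℕ) ^ 2 = 2 * 2 from rfl, pow_mul, pow_two k, hk]
      simp
    obtain ⟨n, _, hn⟩ := (Nat.dvd_prime_pow Nat.prime_two).1 this
    exact IsPGroup.of_card hn
  have hnegi : i⁻¹ = -i := by
    rw [inv_eq_iff_mul_eq_one, mul_neg, hii, neg_neg]
  have hnorm : Subgroup.zpowers j ≤ Subgroup.normalizer (Subgroup.zpowers i : Set (SpecialLinearGroup (Fin 2) F)) := by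
    rw [Subgroup.zpowers_le, Subgroup.mem_normalizer_iff]
    have hconj : j * i * j⁻¹ = i⁻¹ := by
      rw [mul_inv_eq_iff_eq_mul, hji, hnegi, neg_mul]
    have key : ∀ n : ℤ, j * i ^ n * j⁻¹ = (i ^ n)⁻¹ := by
      intro n
      rw [← MulAut.conj_apply, map_zpow, MulAut.conj_apply, hconj, _root_.inv_zpow]
    intro h
    constructor
    · rintro ⟨n, rfl⟩
      change j * i ^ n * j⁻¹ ∈ _
      rw [key]
      exact Subgroup.inv_mem _ (Subgroup.zpow_mem _ (Subgroup.mem_zpowers i) n)
    · rintro ⟨n, hn⟩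
      have hn' : i ^ n = j * h * j⁻¹ := hn
      have : h = j⁻¹ * i ^ n * j := by rw [hn']; group
      have h3 : j⁻¹ * i ^ n * j = (i ^ n)⁻¹ := by
        have h4 := key (-n)
        rw [_root_.zpow_neg, inv_inv] at h4
        calc j⁻¹ * i ^ n * j = j⁻¹ * (j * (i ^ n)⁻¹ * j⁻¹) * j := by rw [h4]
          _ = _ := by group
      rw [this, h3]
      exact Subgroup.inv_mem _ (Subgroup.zpow_mem _ (Subgroup.mem_zpowers i) n)
  have hQ : IsPGroup 2 (Subgroup.zpowers j ⊔ Subgroup.zpowers i : Subgroup (SpecialLinearGroup (Fin 2) F)) :=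
    (h2g j hjj).to_sup_of_normal_right' (h2g i hii) hnorm
  obtain ⟨T, hT⟩ := hQ.exists_le_sylow
  obtain ⟨g, hg⟩ := MulAction.exists_smul_eq (SpecialLinearGroup (Fin 2) F) T S
  have hmem : ∀ x ∈ (T : Subgroup (SpecialLinearGroup (Fin 2) F)), g * x * g⁻¹ ∈ S := by
    intro x hx
    rw [← hg]
    exact Subgroup.smul_mem_pointwise_smul x (MulAut.conj g) (T : Subgroup (SpecialLinearGroup (Fin 2) F)) hx
  refine ⟨g * i * g⁻¹, g * j * g⁻¹, g * w * g⁻¹, hmem i (hT (Subgroup.mem_sup_right (Subgroup.mem_zpowers i))),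
    hmem j (hT (Subgroup.mem_sup_left (Subgroup.mem_zpowers j))), ?_, ?_, ?_, ?_, ?_, ?_, ?_⟩
  · calc g * i * g⁻¹ * (g * i * g⁻¹) = g * (i * i) * g⁻¹ := by group
      _ = -1 := by rw [hii, mul_neg, mul_one, neg_mul, mul_inv_cancel]
  · calc g * j * g⁻¹ * (g * j * g⁻¹) = g * (j * j) * g⁻¹ := by group
      _ = -1 := by rw [hjj, mul_neg, mul_one, neg_mul, mul_inv_cancel]
  · calc g * j * g⁻¹ * (g * i * g⁻¹) = g * (j * i) * g⁻¹ := by group
      _ = - (g * (i * j) * g⁻¹) := by rw [hji, mul_neg, neg_mul]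
      _ = _ := by congr 1; group
  · intro h
    apply hne
    have h3 : g * i * g⁻¹ = g * (-i) * g⁻¹ := by rw [mul_neg, neg_mul]; exact h
    exact mul_left_cancel (mul_right_cancel h3)
  · intro x h1 h3
    have h4 : g⁻¹ * x * g ∈ Subgroup.center (SpecialLinearGroup (Fin 2) F) := by
      apply hcen
      · calc g⁻¹ * x * g * i = g⁻¹ * (x * (g * i * g⁻¹)) * g := by group
          _ = i * (g⁻¹ * x * g) := by rw [h1]; group
      · calc g⁻¹ * x * g * j = g⁻¹ * (x * (g * j * g⁻¹)) * g := by group
          _ = j * (g⁻¹ * x * g) := by rw [h3]; group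
    have h5 := (Subgroup.mem_center_iff.1 h4) g
    have h6 : g⁻¹ * x * g = x := by
      have : g * (g⁻¹ * x * g) = x * g := by group
      rw [this] at h5
      exact (mul_right_cancel h5).symm
    rwa [h6] at h4
  · calc g * w * g⁻¹ * (g * i * g⁻¹) = g * (w * i) * g⁻¹ := by group
      _ = _ := by rw [hwi]; group
  · calc g * w * g⁻¹ * (g * j * g⁻¹) = g * (w * j) * g⁻¹ := by group
      _ = _ := by rw [hwj]; group

/-- Let F be a finite field with q elements, q odd, and S a Sylow 2-subgroup of SL₂ over F. The centraliser of S is the centre of SL₂ (of order 2); S is its own normaliser when q ≡ ±1 mod 8, and has index 3 in its normaliser when q ≡ ±3 mod 8. -/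
theorem result {F : Type*} [Field F] [Fintype F] (hodd : Odd (Fintype.card F)) (S : Sylow 2 (Matrix.SpecialLinearGroup (Fin 2) F)) :
    Subgroup.centralizer ((S : Subgroup (Matrix.SpecialLinearGroup (Fin 2) F)) : Set (Matrix.SpecialLinearGroup (Fin 2) F)) = Subgroup.center (Matrix.SpecialLinearGroup (Fin 2) F) ∧
    ((Fintype.card F % 8 = 1 ∨ Fintype.card F % 8 = 7) →
      Subgroup.normalizer ((S : Subgroup (Matrix.SpecialLinearGroup (Fin 2) F)) : Set (Matrix.SpecialLinearGroup (Fin 2) F)) = (S : Subgroup (Matrix.SpecialLinearGroup (Fin 2) F))) ∧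
    ((Fintype.card F % 8 = 3 ∨ Fintype.card F % 8 = 5) →
      Nat.card (Subgroup.normalizer ((S : Subgroup (Matrix.SpecialLinearGroup (Fin 2) F)) : Set (Matrix.SpecialLinearGroup (Fin 2) F))) = 3 * Nat.card S) := by
  classical
  have h2 : (2 : F) ≠ 0 := by
    intro h
    have h3 : Fintype.card F % 2 = 1 := Nat.odd_iff.1 hodd
    have := FiniteField.even_card_of_char_two
      (CharP.ringChar_of_prime_eq_zero Nat.prime_two (by exact_mod_cast h) : ringChar F = 2)
    omega
  obtain ⟨i, j, w, hiS, hjS, hii, hjj, hji, hne, hcen, hwi, hwj⟩ := exists_pair_mem h2 S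
  have hC : Subgroup.centralizer ((S : Subgroup (SpecialLinearGroup (Fin 2) F)) : Set (SpecialLinearGroup (Fin 2) F)) = Subgroup.center (SpecialLinearGroup (Fin 2) F) := by
    apply le_antisymm
    · intro x hx
      apply hcen x
      · exact (Subgroup.mem_centralizer_iff.1 hx i hiS).symm
      · exact (Subgroup.mem_centralizer_iff.1 hx j hjS).symm
    · exact Subgroup.center_le_centralizer _
  have hcenter : ∀ x ∈ Subgroup.center (SpecialLinearGroup (Fin 2) F), x = 1 ∨ x = -1 := by
    intro x hx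
    by_cases h1 : x = 1
    · exact Or.inl h1
    · right
      apply SLTwoSylowTwo.eq_neg_one_of_sq h2 x h1
      rw [Matrix.SpecialLinearGroup.mem_center_iff] at hx
      obtain ⟨r, hr, hx⟩ := hx
      apply Subtype.ext
      rw [pow_two, SLTwoUnipotent.coe_mul, ← hx, ← map_mul, ← pow_two]
      simp only [Fintype.card_fin] at hr
      rw [hr, map_one]
      rfl
  have hnoncomm : i * j ≠ j * i := by
    intro h
    rw [hji] at h
    apply hne
    have h3 : i * j = (-i) * j := by rw [neg_mul]; exact h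
    exact mul_right_cancel h3
  have hnc : ¬ IsCyclic (⊤ : Subgroup (S : Subgroup (SpecialLinearGroup (Fin 2) F))) := by
    intro hcyc
    apply hnoncomm
    let _ : CommGroup (⊤ : Subgroup (S : Subgroup (SpecialLinearGroup (Fin 2) F))) := IsCyclic.commGroup
    have := mul_comm (⟨⟨i, hiS⟩, Subgroup.mem_top _⟩ : (⊤ : Subgroup (S : Subgroup (SpecialLinearGroup (Fin 2) F)))) ⟨⟨j, hjS⟩, Subgroup.mem_top _⟩
    have h3 := congrArg (fun z : (⊤ : Subgroup (S : Subgroup (SpecialLinearGroup (Fin 2) F))) => ((z : (S : Subgroup (SpecialLinearGroup (Fin 2) F))) : SpecialLinearGroup (Fin 2) F)) this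
    exact h3
  have hpT : IsPGroup 2 (⊤ : Subgroup (S : Subgroup (SpecialLinearGroup (Fin 2) F))) :=
    S.2.to_subgroup ⊤
  obtain ⟨m, hm, ⟨e'⟩⟩ := (SLTwoSylowTwo.sylow_two_cyclic_or_quaternion h2 (S : Subgroup (SpecialLinearGroup (Fin 2) F)) ⊤ hpT).resolve_left hnc
  have e : (S : Subgroup (SpecialLinearGroup (Fin 2) F)) ≃* QuaternionGroup (2 ^ m) :=
    Subgroup.topEquiv.symm.trans e'
  have hcardS : Nat.card (S : Subgroup (SpecialLinearGroup (Fin 2) F)) = 4 * 2 ^ m := by
    rw [Nat.card_congr e.toEquiv, Nat.card_eq_fintype_card, QuaternionGroup.card]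
  have hcardG := Cfsg.Agent.ClassicalGeometry.PSL2Basic.card_SL2 (F := F)
  refine ⟨hC, ?_, ?_⟩
  · intro hq
    have h16 : 2 ^ 4 ∣ Nat.card (SpecialLinearGroup (Fin 2) F) := by
      rw [hcardG]
      apply Dvd.dvd.mul_left
      obtain ⟨q, hqe⟩ : ∃ q, q = Fintype.card F := ⟨_, rfl⟩
      rw [← hqe] at hq ⊢
      have : q ^ 2 - 1 = (q - 1) * (q + 1) := by
        rw [mul_comm, ← Nat.sq_sub_sq q 1, one_pow]
      rw [this]
      rcases hq with hq | hq
      · obtain ⟨t, ht⟩ : ∃ t, q = 8 * t + 1 := ⟨q / 8, by omega⟩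
        exact ⟨t * (4 * t + 1), by rw [ht, Nat.add_sub_cancel]; ring⟩
      · obtain ⟨t, ht⟩ : ∃ t, q = 8 * t + 7 := ⟨q / 8, by omega⟩
        have h7 : 8 * t + 7 - 1 = 8 * t + 6 := by omega
        exact ⟨(t + 1) * (4 * t + 3), by rw [ht, h7]; ring⟩
    have h16' := S.pow_dvd_card_of_pow_dvd_card h16
    have hm2 : 2 ≤ m := by
      by_contra hlt
      have : m = 1 := by omega
      rw [this] at hcardS
      rw [hcardS] at h16'
      norm_num at h16'
    have hN2 : IsPGroup 2 (Subgroup.normalizer ((S : Subgroup (SpecialLinearGroup (Fin 2) F)) : Set (SpecialLinearGroup (Fin 2) F))) := by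
      intro g
      obtain ⟨k, n, hn, hkn⟩ := Nat.exists_eq_two_pow_mul_odd (orderOf_pos g).ne'
      refine ⟨k, ?_⟩
      have hy : (g ^ 2 ^ k) ^ n = 1 := by rw [← pow_mul, ← hkn, pow_orderOf_eq_one]
      obtain ⟨y, hye⟩ : ∃ y, y = g ^ 2 ^ k := ⟨_, rfl⟩
      rw [← hye] at hy ⊢
      have h1 : ((S : Subgroup (SpecialLinearGroup (Fin 2) F)).normalizerMonoidHom y) ^ n = 1 := by
        rw [← map_pow, hy, map_one]
      have h3 := Cfsg.Agent.LFourB.ProdAut.eq_one_of_odd' hm2 e _ hn h1
      have h4 : (y : SpecialLinearGroup (Fin 2) F) ∈ Subgroup.center (SpecialLinearGroup (Fin 2) F) := by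
        rw [← hC, Subgroup.mem_centralizer_iff]
        intro s hs
        have h5 := congrArg (fun φ : MulAut (S : Subgroup (SpecialLinearGroup (Fin 2) F)) => ((φ ⟨s, hs⟩ : (S : Subgroup (SpecialLinearGroup (Fin 2) F))) : SpecialLinearGroup (Fin 2) F)) h3
        have h6 : (y : SpecialLinearGroup (Fin 2) F) * s * (y : SpecialLinearGroup (Fin 2) F)⁻¹ = s := h5
        rw [mul_inv_eq_iff_eq_mul] at h6
        exact h6.symm
      apply Subtype.ext
      rcases hcenter _ h4 with h5 | h5
      · exact h5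
      · exfalso
        have h6 := congrArg (fun z : Subgroup.normalizer ((S : Subgroup (SpecialLinearGroup (Fin 2) F)) : Set (SpecialLinearGroup (Fin 2) F)) => (z : SpecialLinearGroup (Fin 2) F)) hy
        simp only [Subgroup.coe_pow, h5, Subgroup.coe_one] at h6
        rw [hn.neg_one_pow] at h6
        apply hne
        calc i = 1 * i := (one_mul i).symm
          _ = -1 * i := by rw [h6]
          _ = -i := by rw [neg_mul, one_mul]
    exact S.3 hN2 Subgroup.le_normalizer
  · intro hq
    have h16 : ¬ 16 ∣ Nat.card (SpecialLinearGroup (Fin 2) F) := by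
      rw [hcardG]
      obtain ⟨q, hqe⟩ : ∃ q, q = Fintype.card F := ⟨_, rfl⟩
      rw [← hqe] at hq hodd ⊢
      have h3 : q ^ 2 - 1 = (q - 1) * (q + 1) := by
        rw [mul_comm, ← Nat.sq_sub_sq q 1, one_pow]
      rw [h3]
      intro hd
      have hcop : Nat.Coprime 16 q := by
        rw [show 16 = 2 ^ 4 from rfl]
        exact Nat.Coprime.pow_left 4 (Nat.coprime_two_left.2 hodd)
      have hd' := hcop.dvd_of_dvd_mul_left hd
      rcases hq with hq | hq
      · obtain ⟨t, ht⟩ : ∃ t, q = 8 * t + 3 := ⟨q / 8, by omega⟩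
        have h7 : (q - 1) * (q + 1) = 16 * (4 * t ^ 2 + 3 * t) + 8 := by
          rw [ht, show 8 * t + 3 - 1 = 8 * t + 2 by omega]; ring
        rw [h7] at hd'
        omega
      · obtain ⟨t, ht⟩ : ∃ t, q = 8 * t + 5 := ⟨q / 8, by omega⟩
        have h7 : (q - 1) * (q + 1) = 16 * (4 * t ^ 2 + 5 * t + 1) + 8 := by
          rw [ht, show 8 * t + 5 - 1 = 8 * t + 4 by omega]; ring
        rw [h7] at hd'
        omega
    have hm1 : m = 1 := by
      by_contra hm1
      apply h16
      have : 16 ∣ Nat.card (S : Subgroup (SpecialLinearGroup (Fin 2) F)) := by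
        rw [hcardS]
        obtain ⟨l, rfl⟩ : ∃ l, m = l + 2 := ⟨m - 2, by omega⟩
        exact ⟨2 ^ l, by rw [pow_add]; ring⟩
      exact this.trans (Subgroup.card_subgroup_dvd_card _)
    have hS8 : Nat.card (S : Subgroup (SpecialLinearGroup (Fin 2) F)) = 8 := by rw [hcardS, hm1]; norm_num
    have hi4 : Nat.card (Subgroup.zpowers i) = 4 := by
      rw [Nat.card_zpowers]
      have hne1 : i ≠ 1 := by
        intro h; rw [h] at hnoncomm; simp at hnoncomm
      have h5 : orderOf i = 2 ^ (1 + 1) := by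
        apply orderOf_eq_prime_pow
        · rw [pow_one, pow_two, hii]
          intro h
          apply hne
          calc i = 1 * i := (one_mul i).symm
            _ = -1 * i := by rw [h]
            _ = -i := by rw [neg_mul, one_mul]
        · rw [show (2 : ℕ) ^ (1 + 1) = 2 * 2 from rfl, pow_mul, pow_two i, hii]
          simp
      rw [h5]; norm_num
    have hjI : j ∉ Subgroup.zpowers i := by
      rintro ⟨n, hn⟩
      apply hnoncomm
      rw [← hn]
      change i * i ^ n = i ^ n * i
      rw [← _root_.zpow_one_add, ← _root_.zpow_add_one, add_comm]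
    have hIS : Subgroup.zpowers i ≤ (S : Subgroup (SpecialLinearGroup (Fin 2) F)) := by
      rw [Subgroup.zpowers_le]; exact hiS
    -- `⟨i, j⟩ = S`
    have hgen : Subgroup.closure {i, j} = (S : Subgroup (SpecialLinearGroup (Fin 2) F)) := by
      have hle : Subgroup.closure {i, j} ≤ (S : Subgroup (SpecialLinearGroup (Fin 2) F)) := by
        rw [Subgroup.closure_le]
        rintro x (rfl | rfl)
        · exact hiS
        · exact hjS
      have hIQ : Subgroup.zpowers i ≤ Subgroup.closure {i, j} := by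
        rw [Subgroup.zpowers_le]; exact Subgroup.subset_closure (Or.inl rfl)
      have hjQ : j ∈ Subgroup.closure {i, j} := Subgroup.subset_closure (Or.inr rfl)
      have h1 : Nat.card (Subgroup.closure {i, j}) ∣ 8 := by
        rw [← hS8]; exact Subgroup.card_dvd_of_le hle
      have h3 : 4 ∣ Nat.card (Subgroup.closure {i, j}) := by
        rw [← hi4]; exact Subgroup.card_dvd_of_le hIQ
      have h5 : Nat.card (Subgroup.closure {i, j}) ≠ 4 := by
        intro h6
        have h7 : Subgroup.zpowers i = Subgroup.closure {i, j} :=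
          Subgroup.eq_of_le_of_card_ge hIQ (by rw [h6, hi4])
        rw [← h7] at hjQ
        exact hjI hjQ
      apply Subgroup.eq_of_le_of_card_ge hle
      rw [hS8]
      have h6 : Nat.card (Subgroup.closure {i, j}) ≤ 8 := Nat.le_of_dvd (by norm_num) h1
      interval_cases h7 : Nat.card (Subgroup.closure {i, j}) <;> omega
    have hwN : w ∈ Subgroup.normalizer ((S : Subgroup (SpecialLinearGroup (Fin 2) F)) : Set (SpecialLinearGroup (Fin 2) F)) := by
      have hmap : (S : Subgroup (SpecialLinearGroup (Fin 2) F)).map (MulAut.conj w).toMonoidHom = (S : Subgroup (SpecialLinearGroup (Fin 2) F)) := by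
        apply Subgroup.eq_of_le_of_card_ge
        · conv_lhs => rw [← hgen]
          rw [MonoidHom.map_closure, Subgroup.closure_le]
          rintro _ ⟨x, hx, rfl⟩
          rcases hx with rfl | rfl
          · have : (MulAut.conj w).toMonoidHom x = x * j := by
              change w * x * w⁻¹ = _
              rw [hwi]; group
            rw [this]; exact mul_mem hiS hjS
          · have : (MulAut.conj w).toMonoidHom x = i := by
              change w * x * w⁻¹ = _
              rw [hwj]; group
            rw [this]; exact hiS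
        · exact (Nat.card_congr ((S : Subgroup (SpecialLinearGroup (Fin 2) F)).equivMapOfInjective _ (MulAut.conj w).injective).toEquiv).le
      rw [Subgroup.mem_normalizer_iff]
      intro h
      constructor
      · intro hh
        have h5 : (MulAut.conj w).toMonoidHom h ∈ (S : Subgroup (SpecialLinearGroup (Fin 2) F)).map (MulAut.conj w).toMonoidHom :=
          Subgroup.mem_map_of_mem _ hh
        rw [hmap] at h5
        exact h5
      · intro hh
        rw [← hmap] at hh
        obtain ⟨x, hx, hx'⟩ := hh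
        have h5 : x = h := (MulAut.conj w).injective hx'
        rw [← h5]; exact hx
    have hwS : w ∉ (S : Subgroup (SpecialLinearGroup (Fin 2) F)) := by
      intro hwS
      have hidx : ((Subgroup.zpowers i).subgroupOf (S : Subgroup (SpecialLinearGroup (Fin 2) F))).index = 2 := by
        have h5 := ((Subgroup.zpowers i).subgroupOf (S : Subgroup (SpecialLinearGroup (Fin 2) F))).card_mul_index
        rw [Nat.card_congr (Subgroup.subgroupOfEquivOfLe hIS).toEquiv, hi4, hS8] at h5
        omega
      have hnormal := Subgroup.normal_of_index_eq_two hidx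
      have h5 := hnormal.conj_mem ⟨i, hiS⟩ (by rw [Subgroup.mem_subgroupOf]; exact Subgroup.mem_zpowers i) ⟨w, hwS⟩
      rw [Subgroup.mem_subgroupOf] at h5
      have h6 : w * i * w⁻¹ ∈ Subgroup.zpowers i := h5
      rw [hwi] at h6
      have h7 : i * j * w * w⁻¹ = i * j := by group
      rw [h7] at h6
      apply hjI
      have h8 := mul_mem (inv_mem (Subgroup.mem_zpowers i)) h6
      rwa [inv_mul_cancel_left] at h8
    -- orders
    obtain ⟨N, hNe⟩ : ∃ N, N = Subgroup.normalizer ((S : Subgroup (SpecialLinearGroup (Fin 2) F)) : Set (SpecialLinearGroup (Fin 2) F)) := ⟨_, rfl⟩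
    have hSN : (S : Subgroup (SpecialLinearGroup (Fin 2) F)) ≤ N := by rw [hNe]; exact Subgroup.le_normalizer
    have hrel := Subgroup.relIndex_mul_index hSN
    have hodd' : ¬ 2 ∣ (S : Subgroup (SpecialLinearGroup (Fin 2) F)).relIndex N := by
      intro h
      apply S.not_dvd_index
      rw [← hrel]
      exact h.mul_right _
    have hcN : Nat.card N = (S : Subgroup (SpecialLinearGroup (Fin 2) F)).relIndex N * 8 := by
      have h5 := ((S : Subgroup (SpecialLinearGroup (Fin 2) F)).subgroupOf N).card_mul_index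
      rw [Nat.card_congr (Subgroup.subgroupOfEquivOfLe hSN).toEquiv, hS8] at h5
      rw [← h5, mul_comm]; rfl
    have hker : Nat.card ((S : Subgroup (SpecialLinearGroup (Fin 2) F)).normalizerMonoidHom).ker ≤ 2 := by
      have hsub : ∀ x : ((S : Subgroup (SpecialLinearGroup (Fin 2) F)).normalizerMonoidHom).ker, ((x : Subgroup.normalizer ((S : Subgroup (SpecialLinearGroup (Fin 2) F)) : Set (SpecialLinearGroup (Fin 2) F))) : SpecialLinearGroup (Fin 2) F) ∈ ({1, -1} : Finset (SpecialLinearGroup (Fin 2) F)) := by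
        intro x
        have hx : (x : Subgroup.normalizer ((S : Subgroup (SpecialLinearGroup (Fin 2) F)) : Set (SpecialLinearGroup (Fin 2) F))) ∈
            (Subgroup.center (SpecialLinearGroup (Fin 2) F)).subgroupOf (Subgroup.normalizer ((S : Subgroup (SpecialLinearGroup (Fin 2) F)) : Set (SpecialLinearGroup (Fin 2) F))) := by
          rw [← hC, ← Subgroup.normalizerMonoidHom_ker]; exact x.2
        rcases hcenter _ (Subgroup.mem_subgroupOf.1 hx) with h | h
        · rw [h]; simp
        · rw [h]; simp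
      let f : ((S : Subgroup (SpecialLinearGroup (Fin 2) F)).normalizerMonoidHom).ker → ({1, -1} : Finset (SpecialLinearGroup (Fin 2) F)) := fun x => ⟨_, hsub x⟩
      have hf : Function.Injective f := by
        intro x y hxy
        apply Subtype.ext; apply Subtype.ext
        exact congrArg (fun z : ({1, -1} : Finset (SpecialLinearGroup (Fin 2) F)) => (z : SpecialLinearGroup (Fin 2) F)) hxy
      refine (Nat.card_le_card_of_injective f hf).trans ?_
      rw [Nat.card_eq_fintype_card, Fintype.card_coe]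
      exact Finset.card_le_two
    have hran : Nat.card ((S : Subgroup (SpecialLinearGroup (Fin 2) F)).normalizerMonoidHom).range ∣ 24 := by
      have h5 : Nat.card (MulAut (S : Subgroup (SpecialLinearGroup (Fin 2) F))) = 24 := by
        rw [Nat.card_congr (MulAut.congr e).toEquiv, hm1, pow_one]
        exact Cfsg.Agent.PermutationGroups.AutQuaternion.card_mulAut
      rw [← h5]
      exact Subgroup.card_subgroup_dvd_card _
    have hprod : Nat.card ((S : Subgroup (SpecialLinearGroup (Fin 2) F)).normalizerMonoidHom).ker *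
        Nat.card ((S : Subgroup (SpecialLinearGroup (Fin 2) F)).normalizerMonoidHom).range = Nat.card N := by
      rw [hNe, ← Subgroup.index_ker, Subgroup.card_mul_index]
    have hNS : (S : Subgroup (SpecialLinearGroup (Fin 2) F)).relIndex N ≠ 1 := by
      intro h
      rw [Subgroup.relIndex_eq_one] at h
      rw [hNe] at h
      exact hwS (h hwN)
    rw [← hNe]
    have hS8' : Nat.card S = 8 := hS8
    rw [hS8', hcN]
    have hk0 : 0 < Nat.card ((S : Subgroup (SpecialLinearGroup (Fin 2) F)).normalizerMonoidHom).ker := Nat.card_pos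
    rw [hcN] at hprod
    generalize (S : Subgroup (SpecialLinearGroup (Fin 2) F)).relIndex N = r at *
    generalize Nat.card ((S : Subgroup (SpecialLinearGroup (Fin 2) F)).normalizerMonoidHom).ker = k at *
    generalize Nat.card ((S : Subgroup (SpecialLinearGroup (Fin 2) F)).normalizerMonoidHom).range = l at *
    clear hcN hrel h16 hcardG hcardS
    have hl : l ≤ 24 := Nat.le_of_dvd (by norm_num) hran
    interval_cases k <;> interval_cases l <;> omega

end Cfsg.Agent.S2431
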