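import Cfsg.Statements.S1008
import Cfsg.Agent.SmallSimple.Simple168Max
set_option linter.all false

set_option autoImplicit false
open Cfsg
open Cfsg.Agent.SmallSimple Cfsg.Agent.SmallSimple.Simple168Klein Cfsg.Agent.SmallSimple.Simple168Max Cfsg.Agent.SmallSimple.KleinDihedral

namespace Cfsg.Agent.S1008

/-- In a simple group of order 168 every maximal subgroup is either isomorphic to the symmetric group of degree 4 or non-abelian of order 21; the maximal subgroups of order 21 form one conjugacy class and those isomorphic to the symmetric group of degree 4 form exactly two conjugacy classes. -/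
theorem result {G : Type*} [Group G] [Finite G] [IsSimpleGroup G] (h : Nat.card G = 168) : (∀ M : Subgroup G, IsCoatom M → Nonempty (↥M ≃* Equiv.Perm (Fin 4)) ∨ (Nat.card ↥M = 21 ∧ ¬ IsMulCommutative ↥M)) ∧ (∀ M M' : Subgroup G, IsCoatom M → IsCoatom M' → Nat.card ↥M = 21 → Nat.card ↥M' = 21 → ∃ g : G, M' = M.map (MulAut.conj g).toMonoidHom) ∧ ∃ M₁ M₂ : Subgroup G, IsCoatom M₁ ∧ IsCoatom M₂ ∧ Nonempty (↥M₁ ≃* Equiv.Perm (Fin 4)) ∧ Nonempty (↥M₂ ≃* Equiv.Perm (Fin 4)) ∧ (∀ g : G, M₂ ≠ M₁.map (MulAut.conj g).toMonoidHom) ∧ ∀ M : Subgroup G, IsCoatom M → Nonempty (↥M ≃* Equiv.Perm (Fin 4)) → ∃ g : G, M = M₁.map (MulAut.conj g).toMonoidHom ∨ M = M₂.map (MulAut.conj g).toMonoidHom := by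
  have hsq7 : ¬ 7 ^ 2 ∣ Nat.card G := by rw [h]; decide
  have hp7 : Fact (Nat.Prime 7) := ⟨by norm_num⟩
  have hcard7 : ∀ P : Sylow 7 G, Nat.card (P : Subgroup G) = 7 := fun P =>
    card_sylow_eq_prime P (by rw [h]; decide) hsq7
  have h24of : ∀ M : Subgroup G, Nonempty (↥M ≃* Equiv.Perm (Fin 4)) → Nat.card M = 24 := by
    rintro M ⟨e⟩
    rw [Nat.card_congr e.toEquiv, Nat.card_perm, Nat.card_fin]
    rfl
  refine ⟨?_, ?_, ?_⟩
  · intro M hM
    rcases isCoatom_cases h M hM with ⟨P, hP⟩ | ⟨U, hU, hMU⟩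
    · right
      have h21 : Nat.card M = 21 := by
        rw [hP, Simple168.card_normalizer_seven h P]
      refine ⟨h21, ?_⟩
      intro hcomm
      have hne : (P : Subgroup G) ≠ ⊥ := ne_bot_of_card (by rw [hcard7 P]; norm_num)
      obtain ⟨⟨x, hx⟩, hx'⟩ := (Subgroup.ne_bot_iff_exists_ne_one (H := (P : Subgroup G))).1 hne
      have hx1 : x ≠ 1 := fun h => hx' (Subtype.ext h)
      have hx7 : orderOf x = 7 := by
        have h1 := orderOf_dvd_natCard (⟨x, hx⟩ : (P : Subgroup G))
        rw [hcard7 P, Subgroup.orderOf_mk] at h1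
        rcases (Nat.dvd_prime hp7.out).1 h1 with h2 | h2
        · exact absurd (orderOf_eq_one_iff.1 h2) hx1
        · exact h2
      have hxM : x ∈ M := by
        rw [hP]
        exact Subgroup.le_normalizer hx
      have h1 : M ≤ Subgroup.centralizer {x} := by
        intro m hm
        rw [Subgroup.mem_centralizer_singleton_iff]
        exact congrArg Subtype.val (hcomm.is_comm.comm (⟨m, hm⟩ : M) ⟨x, hxM⟩)
      have h2 := Subgroup.card_dvd_of_le h1
      rw [Simple168.card_centralizer_seven h x hx7, h21] at h2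
      revert h2
      decide
    · left
      apply iso_perm_of_card h
      rw [hMU, card_normalizer h hU]
  · intro M M' hM hM' h21 h21'
    have key : ∀ M : Subgroup G, IsCoatom M → Nat.card M = 21 →
        ∃ P : Sylow 7 G, M = Subgroup.normalizer ((P : Subgroup G) : Set G) := by
      intro M hM h21
      rcases isCoatom_cases h M hM with h1 | ⟨U, hU, hMU⟩
      · exact h1
      · rw [hMU, card_normalizer h hU] at h21
        omega
    obtain ⟨P, hP⟩ := key M hM h21
    obtain ⟨P', hP'⟩ := key M' hM' h21'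
    obtain ⟨g, hg⟩ := MulAction.exists_smul_eq G P P'
    refine ⟨g, ?_⟩
    rw [hP, hP', ← normalizer_map_conj, ← hg, Sylow.coe_subgroup_smul]
    rfl
  · obtain ⟨T⟩ : Nonempty (Sylow 2 G) := inferInstance
    obtain ⟨U₁, U₂, hne, h1, h2, h3, h4, h5⟩ := exists_pair h T
    refine ⟨_, _, isCoatom_normalizer h h3, isCoatom_normalizer h h4,
      iso_perm_of_card h _ (card_normalizer h h3), iso_perm_of_card h _ (card_normalizer h h4),
      ?_, ?_⟩
    · intro g hg
      rw [← normalizer_map_conj] at hg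
      have h6 := eq_of_normalizer_eq h h4
        ((isKleinFour_congr (U₁.equivMapOfInjective _ (MulAut.conj g).injective)).1 h3) hg
      exact not_conj h T h1 h2 h3 h4 hne g h6.symm
    · intro M hM hiso
      rcases isCoatom_cases h M hM with ⟨P, hP⟩ | ⟨U, hU, hMU⟩
      · exfalso
        have h6 := h24of M hiso
        rw [hP, Simple168.card_normalizer_seven h P] at h6
        omega
      · obtain ⟨V, g, hVT, hV, hUV⟩ := exists_conj_le T hU
        refine ⟨g, ?_⟩
        rw [hMU, hUV, normalizer_map_conj]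
        rcases h5 V hVT hV with h6 | h6
        · left
          rw [h6]
        · right
          rw [h6]

end Cfsg.Agent.S1008
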