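import Cfsg.Agent.H914.SpExc2
import Cfsg.Agent.H914.SpExc3
import Cfsg.Agent.H931.SpWrap
import Cfsg.Statements.S5805
import Cfsg.Agent.S5662
set_option linter.all false

-- part: H914/SpExc4
section
/-!
# Maximal subgroups of `Sp_2m(q)`: the list with the exclusions for small `q` (helper914)

`symplectic_maximal_fine` refines `Cfsg.Agent.H931.symplectic_maximal_cases`: the decompositions into non-degenerate
2-spaces for `q = 2` and the tensor decompositions with second factor of dimension three for `q = 3` do not occur, and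
the degree of the self-adjoint field divides `m`.
-/

set_option autoImplicit false

namespace Cfsg.Agent.H914

open Cfsg Cfsg.Agent.H918 Cfsg.Agent.H931
open scoped Matrix MatrixGroups

variable {F : Type*} [Field F] [Fintype F] {m : ℕ}

theorem odd_card_of_card_two_ne (h : Fintype.card F = 2) : ¬ Odd (Fintype.card F) := by
  rw [h]; decide

/-- The list of types of maximal subgroups of `Sp_2m(q)`, with the exclusions for small `q`. -/
theorem symplectic_maximal_fine (hm : 2 ≤ m) (hex : ¬ (m = 2 ∧ Fintype.card F = 2))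
    {H : Subgroup (Matrix.GeneralLinearGroup (Fin m ⊕ Fin m) F)}
    (hH : Geo.IsMaximalIn (spGL m F) H)
    (hwr : ∀ (k t : ℕ) (e : Fin m ⊕ Fin m ≃ (Fin t → Fin k))
      (P : Matrix.GeneralLinearGroup (Fin m ⊕ Fin m) F), k = 2 → Odd t → 3 ≤ t → k ^ t = 2 * m →
      ¬ spGL m F ≤ Geo.tensorWreathSubgroup k t e P)
    (h : (∃ M : Subgroup (Matrix.GeneralLinearGroup (Fin m ⊕ Fin m) F),
      Geo.InSymplecticClass m F M ∧ H ≤ M) ∨ Geo.InSymplecticResidualClass H) :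
    (∃ W : Submodule F (Fin m ⊕ Fin m → F), W ≠ ⊥ ∧
      Geo.IsTotallySingularFor (sympForm m F) W ∧ H = Geo.subspaceStabilizer W ⊓ spGL m F) ∨
    (∃ W : Submodule F (Fin m ⊕ Fin m → F), W ≠ ⊥ ∧ Geo.IsNondegenerateOn (sympForm m F) W ∧
      Even (Module.finrank F W) ∧ Module.finrank F W < m ∧
      H = Geo.subspaceStabilizer W ⊓ spGL m F) ∨
    (∃ (t k : ℕ) (D : Fin t → Submodule F (Fin m ⊕ Fin m → F)), t * k = 2 * m ∧ Even k ∧ 2 ≤ t ∧
      ¬ (Fintype.card F = 2 ∧ k = 2) ∧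
      Geo.IsNondegenerateMDecomposition (sympForm m F) k D ∧
      H = Geo.decompositionStabilizer D ⊓ spGL m F) ∨
    (∃ (D : Fin 2 → Submodule F (Fin m ⊕ Fin m → F)), Odd (Fintype.card F) ∧
      Geo.IsMDecomposition m D ∧ (∀ i, Geo.IsTotallySingularFor (sympForm m F) (D i)) ∧
      H = Geo.decompositionStabilizer D ⊓ spGL m F) ∨
    (∃ (F₀ : Subfield F) (r : ℕ) (P : Matrix.GeneralLinearGroup (Fin m ⊕ Fin m) F) (ζ : F),
      r.Prime ∧ Fintype.card F = Nat.card F₀ ^ r ∧ ζ ≠ 0 ∧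
      Geo.IsFormRationalStructure (sympForm m F) F₀ ζ P ∧ H = Geo.subfieldSubgroup F₀ P ⊓ spGL m F) ∨
    (∃ (R : Subgroup (Matrix.GeneralLinearGroup (Fin m ⊕ Fin m) F)) (p k : ℕ),
      Geo.IsSymplecticTypeGroup 2 R ∧ Geo.ActsAbsolutelyIrreducibly (Geo.matrixSet R) ∧
      R ≤ Geo.similarityGroup (sympForm m F) ∧ p.Prime ∧ Odd p ∧ Fintype.card F = p ∧
      Nat.card R = 2 ^ (1 + 2 * k) ∧ Nat.card (Subgroup.center R) = 2 ∧ Geo.IsOfMinusType k R ∧
      2 * m = 2 ^ k ∧ H = Geo.subgroupNormalizer R ⊓ spGL m F) ∨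
    (∃ Q : (Fin m ⊕ Fin m → F) → F, ¬ Odd (Fintype.card F) ∧ Geo.IsNondegenerateQuadraticForm Q ∧
      (∀ u v, QuadraticMap.polar Q u v = sympForm m F u v) ∧
      H = Geo.quadSimilarityGroup Q ⊓ spGL m F) ∨
    (∃ (r : ℕ) (K : Subalgebra F (Matrix (Fin m ⊕ Fin m) (Fin m ⊕ Fin m) F)), r.Prime ∧ r ∣ m ∧
      Geo.IsFieldSubalgebra r K ∧ Geo.IsSelfAdjointFor (sympForm m F) K ∧
      (∀ k ∈ K, ∀ v, sympForm m F (k *ᵥ v) v = 0) ∧ H = Geo.subalgebraNormalizer K ⊓ spGL m F) ∨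
    (∃ K : Subalgebra F (Matrix (Fin m ⊕ Fin m) (Fin m ⊕ Fin m) F), Odd (Fintype.card F) ∧
      Geo.IsFieldSubalgebra 2 K ∧ Geo.IsAdjointClosedFor (sympForm m F) K ∧
      ¬ Geo.IsSelfAdjointFor (sympForm m F) K ∧ H = Geo.subalgebraNormalizer K ⊓ spGL m F) ∨
    (∃ (n₁ n₂ : ℕ) (e : (Fin m ⊕ Fin m) ≃ Fin n₁ × Fin n₂)
      (P : Matrix.GeneralLinearGroup (Fin m ⊕ Fin m) F)
      (f₁ : (Fin n₁ → F) → (Fin n₁ → F) → F) (f₂ : (Fin n₂ → F) → (Fin n₂ → F) → F),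
      Odd (Fintype.card F) ∧ n₁ * n₂ = 2 * m ∧ Even n₁ ∧ 2 ≤ n₁ ∧ 3 ≤ n₂ ∧
      ¬ (Fintype.card F = 3 ∧ n₂ = 3) ∧
      Geo.IsSymplecticForm f₁ ∧ Geo.IsSymmetricForm f₂ ∧
      Geo.IsTensorFormStructure id (sympForm m F) f₁ f₂ e P ∧
      H = Geo.tensorProductSubgroup n₁ n₂ e P ⊓ spGL m F) ∨
    (∃ (k t : ℕ) (e : (Fin m ⊕ Fin m) ≃ (Fin t → Fin k))
      (P : Matrix.GeneralLinearGroup (Fin m ⊕ Fin m) F) (f₁ : (Fin k → F) → (Fin k → F) → F),
      Odd (Fintype.card F) ∧ k ^ t = 2 * m ∧ Even k ∧ 2 ≤ k ∧ Odd t ∧ 3 ≤ t ∧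
      ¬ (Fintype.card F = 3 ∧ k = 2) ∧ Geo.IsSymplecticForm f₁ ∧
      Geo.IsTensorPowerFormStructure id (sympForm m F) f₁ e P ∧
      H = Geo.tensorWreathSubgroup k t e P ⊓ spGL m F) ∨
    Geo.InSymplecticResidualClass H := by
  have hc := exc_cases hm hex
  have hcard : Fintype.card (Fin m ⊕ Fin m) = 2 * m := card_sum_fin
  have hf : Geo.IsSymplecticForm (sympForm m F) := H924.isSymplecticForm_sympForm
  rcases symplectic_maximal_cases hm hex hH hwr h with h | h | h | h | h | h | h | h | h | h | h | h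
  · exact Or.inl h
  · exact Or.inr (Or.inl h)
  · obtain ⟨t, k, D, htk, hk, ht, hD, hHD⟩ := h
    by_cases hq : Fintype.card F = 2 ∧ k = 2
    · -- an orthogonal group
      obtain ⟨hq, rfl⟩ := hq
      obtain ⟨Q, hQ, hpol, hle⟩ := quad_of_frame_two hq hf hD
      iterate 6 right
      left
      refine ⟨Q, odd_card_of_card_two_ne hq, hQ, hpol, ?_⟩
      refine eq_inf_of_maximal hH (?_ : H ≤ _) (spGL_not_le_quadSimilarityGroup hm hpol hQ.smul)
      exact hHD.le.trans (inf_le_left.trans hle)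
    · exact Or.inr (Or.inr (Or.inl ⟨t, k, D, htk, hk, ht, hq, hD, hHD⟩))
  · exact Or.inr (Or.inr (Or.inr (Or.inl h)))
  · exact Or.inr (Or.inr (Or.inr (Or.inr (Or.inl h))))
  · exact Or.inr (Or.inr (Or.inr (Or.inr (Or.inr (Or.inl h)))))
  · exact Or.inr (Or.inr (Or.inr (Or.inr (Or.inr (Or.inr (Or.inl h))))))
  · obtain ⟨r, K, hr, hrm, hK, hs, ha, hHK⟩ := h
    iterate 7 right
    left
    refine ⟨r, K, hr, ?_, hK, hs, ha, hHK⟩
    have h1 := two_mul_dvd_of_selfAdjoint hf hK hs ha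
    rw [hcard] at h1
    exact Nat.dvd_of_mul_dvd_mul_left (by norm_num) h1
  · iterate 8 right
    left
    exact h
  · obtain ⟨n₁, n₂, e, P, f₁, f₂, hodd, hn, hev, hn1, hn2, hf₁, hf₂, hst, hHt⟩ := h
    by_cases hq : Fintype.card F = 3 ∧ n₂ = 3
    · obtain ⟨hq, rfl⟩ := hq
      have h1 : Cfsg.Agent.H919.HermForm (RingEquiv.refl F) (-1) f₁ :=
        ⟨hf₁.bilinear.add_left, hf₁.bilinear.smul_left, fun a => rfl, by simp,
          fun x y => by rw [hf₁.skew]; simp, hf₁.nondegenerate⟩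
      obtain ⟨D, hD, hle⟩ := frame_of_tensor_three hq hf.bilinear (by omega) h1 hf₂ hst
      iterate 2 right
      left
      refine ⟨3, n₁, D, by rw [← hn]; ring, hev, by norm_num, fun h => by omega, hD, ?_⟩
      refine eq_inf_of_maximal hH (?_ : H ≤ _) (spGL_not_le_decompositionStabilizer hc hD.decomp)
      rw [hHt]
      rintro g ⟨hg, hg'⟩
      exact hle g hg (Cfsg.Agent.H924.mem_spGL.mp hg')
    · iterate 9 right
      left
      exact ⟨n₁, n₂, e, P, f₁, f₂, hodd, hn, hev, hn1, hn2, hq, hf₁, hf₂, hst, hHt⟩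
  · iterate 10 right
    left
    exact h
  · iterate 11 right
    exact h

end Cfsg.Agent.H914
end

-- part: S5805
section
set_option autoImplicit false
open Cfsg

namespace Cfsg.Agent.S5805

/-- Every maximal subgroup of Sp_6(q) is of one of the listed geometric types or lies in the residual class. Let F be a finite field with q elements, f the standard alternating form on F^6 (coordinates Fin 3 ⊕ Fin 3), and H a maximal subgroup of Sp_6(F) (inside GL_6(F)). Then H is the intersection with Sp_6(F) of one of: the stabiliser of a non-zero totally isotropic subspace; the stabiliser of a non-degenerate 2-space; for q ≥ 3, the stabiliser of a decomposition into three mutually orthogonal non-degenerate 2-spaces; for q odd, of a decomposition into two totally isotropic 3-spaces; the normaliser of a degree-3 subfield K of the matrix algebra, self-adjoint with f(k v, v) = 0; for q odd, the normaliser of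 a degree-2 subfield closed under adjoints but not self-adjoint; for q odd, q ≥ 5, the stabiliser of a tensor decomposition of f into an alternating form on F^2 and a symmetric form on F^3; a subfield group (|F| = |F₀|^r, r prime) whose F₀-structure carries a non-zero multiple of f; for q even, the similarity group of a non-degenerate quadratic form polarising to f — or else H lies in the residual class of the symplectic case. -/
theorem result {F : Type*} [Field F] [Fintype F] (H : Subgroup (Matrix.GeneralLinearGroup (Fin 3 ⊕ Fin 3) F)) (hH : Cfsg.Geo.IsMaximalIn (Cfsg.spGL 3 F) H) :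
    (∃ W : Submodule F (Fin 3 ⊕ Fin 3 → F), W ≠ ⊥ ∧ Cfsg.Geo.IsTotallySingularFor (Cfsg.sympForm 3 F) W ∧ H = Cfsg.Geo.subspaceStabilizer W ⊓ Cfsg.spGL 3 F) ∨
    (∃ W : Submodule F (Fin 3 ⊕ Fin 3 → F), W ≠ ⊥ ∧ Cfsg.Geo.IsNondegenerateOn (Cfsg.sympForm 3 F) W ∧ Module.finrank F W < 3 ∧ H = Cfsg.Geo.subspaceStabilizer W ⊓ Cfsg.spGL 3 F) ∨
    (3 ≤ Fintype.card F ∧ ∃ D : Fin 3 → Submodule F (Fin 3 ⊕ Fin 3 → F), Cfsg.Geo.IsNondegenerateMDecomposition (Cfsg.sympForm 3 F) 2 D ∧ H = Cfsg.Geo.decompositionStabilizer D ⊓ Cfsg.spGL 3 F) ∨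
    (Odd (Fintype.card F) ∧ ∃ D : Fin 2 → Submodule F (Fin 3 ⊕ Fin 3 → F), Cfsg.Geo.IsMDecomposition 3 D ∧ (∀ i, Cfsg.Geo.IsTotallySingularFor (Cfsg.sympForm 3 F) (D i)) ∧ H = Cfsg.Geo.decompositionStabilizer D ⊓ Cfsg.spGL 3 F) ∨
    (∃ K : Subalgebra F (Matrix (Fin 3 ⊕ Fin 3) (Fin 3 ⊕ Fin 3) F), Cfsg.Geo.IsFieldSubalgebra 3 K ∧ Cfsg.Geo.IsSelfAdjointFor (Cfsg.sympForm 3 F) K ∧ (∀ k ∈ K, ∀ v : (Fin 3 ⊕ Fin 3 → F), (Cfsg.sympForm 3 F) (Matrix.mulVec k v) v = 0) ∧ H = Cfsg.Geo.subalgebraNormalizer K ⊓ Cfsg.spGL 3 F) ∨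
    (Odd (Fintype.card F) ∧ ∃ K : Subalgebra F (Matrix (Fin 3 ⊕ Fin 3) (Fin 3 ⊕ Fin 3) F), Cfsg.Geo.IsFieldSubalgebra 2 K ∧ Cfsg.Geo.IsAdjointClosedFor (Cfsg.sympForm 3 F) K ∧ ¬ Cfsg.Geo.IsSelfAdjointFor (Cfsg.sympForm 3 F) K ∧ H = Cfsg.Geo.subalgebraNormalizer K ⊓ Cfsg.spGL 3 F) ∨
    (Odd (Fintype.card F) ∧ 5 ≤ Fintype.card F ∧ ∃ (e : (Fin 3 ⊕ Fin 3) ≃ Fin 2 × Fin 3) (P : Matrix.GeneralLinearGroup (Fin 3 ⊕ Fin 3) F) (f₁ : (Fin 2 → F) → (Fin 2 → F) → F) (f₂ : (Fin 3 → F) → (Fin 3 → F) → F), Cfsg.Geo.IsSymplecticForm f₁ ∧ Cfsg.Geo.IsSymmetricForm f₂ ∧ Cfsg.Geo.IsTensorFormStructure id (Cfsg.sympForm 3 F) f₁ f₂ e P ∧ H = Cfsg.Geo.tensorProductSubgroup 2 3 e P ⊓ Cfsg.spGL 3 F) ∨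
    (∃ (F₀ : Subfield F) (r : ℕ) (P : Matrix.GeneralLinearGroup (Fin 3 ⊕ Fin 3) F) (ζ : F), r.Prime ∧ Fintype.card F = Nat.card F₀ ^ r ∧ ζ ≠ 0 ∧ Cfsg.Geo.IsFormRationalStructure (Cfsg.sympForm 3 F) F₀ ζ P ∧ H = Cfsg.Geo.subfieldSubgroup F₀ P ⊓ Cfsg.spGL 3 F) ∨
    (¬ Odd (Fintype.card F) ∧ ∃ Q : (Fin 3 ⊕ Fin 3 → F) → F, Cfsg.Geo.IsNondegenerateQuadraticForm Q ∧ (∀ u v : (Fin 3 ⊕ Fin 3 → F), QuadraticMap.polar Q u v = (Cfsg.sympForm 3 F) u v) ∧ H = Cfsg.Geo.quadSimilarityGroup Q ⊓ Cfsg.spGL 3 F) ∨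
    Cfsg.Geo.InSymplecticResidualClass H := by
  have hex : ¬ ((3 : ℕ) = 2 ∧ Fintype.card F = 2) := fun h => by omega
  have hcard2 : 1 < Fintype.card F := Fintype.one_lt_card
  have h0 := Cfsg.Agent.S5662.result 3 (by norm_num) hex H hH.1.le
    (Cfsg.Agent.H931.spGL_sup_scalars_ne (Cfsg.Agent.H931.exc_cases (by norm_num) hex) hH)
  have hpow : ∀ k t : ℕ, 3 ≤ t → k ^ t ≠ 2 * 3 := by
    intro k t ht h
    rcases Nat.lt_or_ge k 2 with hk | hk
    · have h1 : k ^ t ≤ 1 := by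
        calc k ^ t ≤ 1 ^ t := Nat.pow_le_pow_left (by omega) t
          _ = 1 := one_pow t
      omega
    · have h1 : 2 ^ 3 ≤ k ^ t := le_trans (Nat.pow_le_pow_right (by norm_num) ht) (Nat.pow_le_pow_left hk t)
      omega
  rcases Cfsg.Agent.H914.symplectic_maximal_fine (by norm_num) hex hH
    (fun k t e P _ _ ht hk => absurd hk (hpow k t ht)) h0 with
    h | h | h | h | h | h | h | h | h | h | h | h
  · exact Or.inl h
  · obtain ⟨W, hW0, hW, hev, hlt, hHW⟩ := h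
    exact Or.inr (Or.inl ⟨W, hW0, hW, hlt, hHW⟩)
  · obtain ⟨t, k, D, htk, hk, ht, hq, hD, hHD⟩ := h
    have hk2 : k = 2 ∧ t = 3 := by
      obtain ⟨j, rfl⟩ := hk
      have h1 : t * j = 3 := by nlinarith
      have h2 : t ∣ 3 := ⟨j, h1.symm⟩
      rcases (Nat.dvd_prime Nat.prime_three).mp h2 with h3 | h3
      · omega
      · subst h3
        omega
    obtain ⟨rfl, rfl⟩ := hk2
    refine Or.inr (Or.inr (Or.inl ⟨?_, D, hD, hHD⟩))
    by_contra hcon
    exact hq ⟨by omega, rfl⟩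
  · obtain ⟨D, hodd, hD, hs, hHD⟩ := h
    exact Or.inr (Or.inr (Or.inr (Or.inl ⟨hodd, D, hD, hs, hHD⟩)))
  · iterate 7 right
    left
    exact h
  · obtain ⟨R, p, k, -, -, -, -, -, -, -, -, -, hk, -⟩ := h
    exfalso
    rcases Nat.lt_or_ge k 3 with h3 | h3
    · interval_cases k <;> omega
    · have : 2 ^ 3 ≤ 2 ^ k := Nat.pow_le_pow_right (by norm_num) h3
      omega
  · obtain ⟨Q, hodd, hQ, hpol, hHQ⟩ := h
    iterate 8 right
    left
    exact ⟨hodd, Q, hQ, hpol, hHQ⟩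
  · obtain ⟨r, K, hr, hrm, hK, hs, ha, hHK⟩ := h
    have : r = 3 := (Nat.prime_dvd_prime_iff_eq hr Nat.prime_three).mp hrm
    subst this
    iterate 4 right
    left
    exact ⟨K, hK, hs, ha, hHK⟩
  · obtain ⟨K, hodd, hK, hac, hns, hHK⟩ := h
    iterate 5 right
    left
    exact ⟨hodd, K, hK, hac, hns, hHK⟩
  · obtain ⟨n₁, n₂, e, P, f₁, f₂, hodd, hn, hev, hn1, hn2, hq, hf₁, hf₂, hst, hHt⟩ := h
    have hn12 : n₁ = 2 ∧ n₂ = 3 := by
      obtain ⟨j, rfl⟩ := hev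
      have h1 : j * n₂ = 3 := by nlinarith
      have h2 : j ∣ 3 := ⟨n₂, h1.symm⟩
      rcases (Nat.dvd_prime Nat.prime_three).mp h2 with h3 | h3
      · subst h3
        omega
      · subst h3
        omega
    obtain ⟨rfl, rfl⟩ := hn12
    iterate 6 right
    left
    refine ⟨hodd, ?_, e, P, f₁, f₂, hf₁, hf₂, hst, hHt⟩
    by_contra hcon
    apply hq
    refine ⟨?_, rfl⟩
    rcases hodd with ⟨j, hj⟩
    omega
  · obtain ⟨k, t, e, P, f₁, -, hkt, -, -, -, ht, -⟩ := h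
    exact absurd hkt (hpow k t ht)
  · iterate 9 right
    exact h

end Cfsg.Agent.S5805
end
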