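import Cfsg.Statements.S2405
import Cfsg.Agent.H135.TwoGenTab
set_option linter.all false

set_option autoImplicit false
open Cfsg

namespace Cfsg.Agent.S2405

open Cfsg.Lie Cfsg.Agent.H135.TwoG

/-- in the field with two elements -/
theorem charTwo {F : Type*} [Field F] (hF : ∀ x : F, x = 0 ∨ x = 1) : CharP F 2 := by
  apply CharTwo.of_one_ne_zero_of_two_eq_zero one_ne_zero
  rcases hF (2 : F) with h | h
  · exact h
  · exfalso
    have h1 : (1 : F) + 1 = 1 := by rw [one_add_one_eq_two]; exact h
    simp at h1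

/-- Each Chevalley group of type G₂, B₂, D₄, F₄, E₆, E₇ or E₈ over a finite field is generated by two of its elements (types B₂ and G₂ over the field with two elements, where the group is not simple, excepted). -/
theorem result {F : Type*} [Field F] [Finite F] (D : Cfsg.Lie.ChevalleyDatum) (hD : D ∈ [Cfsg.Lie.chevG2, Cfsg.Lie.chevB2, Cfsg.Lie.chevD4, Cfsg.Lie.chevF4, Cfsg.Lie.chevE6, Cfsg.Lie.chevE7, Cfsg.Lie.chevE8])
    (hF : D ∈ [Cfsg.Lie.chevB2, Cfsg.Lie.chevG2] → ∃ x : F, x ≠ 0 ∧ x ≠ 1) :
    ∃ a b : ↥(D.group F), Subgroup.closure ({a, b} : Set ↥(D.group F)) = ⊤ := by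
  apply Cfsg.Agent.H136.TwoGen.of_ambient
  by_cases hq : ∃ x : F, x ≠ 0 ∧ x ≠ 1
  · simp only [List.mem_cons, List.not_mem_nil, or_false] at hD
    rcases hD with rfl | rfl | rfl | rfl | rfl | rfl | rfl
    · exact bigG2 hq
    · exact bigB2 hq
    · exact bigD4 hq
    · exact bigF4 hq
    · exact bigE6 hq
    · exact bigE7 hq
    · exact bigE8 hq
  · have hF2 : ∀ x : F, x = 0 ∨ x = 1 := by
      intro x
      by_contra h
      push Not at h
      exact hq ⟨x, h⟩
    have := charTwo hF2
    simp only [List.mem_cons, List.not_mem_nil, or_false] at hD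
    rcases hD with rfl | rfl | rfl | rfl | rfl | rfl | rfl
    · exact absurd (hF (by simp)) hq
    · exact absurd (hF (by simp)) hq
    · exact twoD4 hF2
    · exact twoF4 hF2
    · exact twoE6 hF2
    · exact twoE7 hF2
    · exact twoE8 hF2

end Cfsg.Agent.S2405
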