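import Cfsg.Statements.S2407
import Cfsg.Agent.ChevalleyStructure.D4Perfect
import Cfsg.Agent.ChevalleyStructure.D4U
import Cfsg.Agent.H136.TwoGen
import Cfsg.Agent.H136.FieldLem
set_option linter.all false

set_option autoImplicit false
open Cfsg

namespace Cfsg.Agent.S2407

open Cfsg.Lie
open Cfsg.Agent.ChevalleyStructure.D4Comm Cfsg.Agent.ChevalleyStructure.D4NCheck
open Cfsg.Agent.ChevalleyStructure.D4NConj Cfsg.Agent.ChevalleyStructure.D4RGD
open Cfsg.Agent.ChevalleyStructure.D4Perm Cfsg.Agent.ChevalleyStructure.D4TwN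
open Cfsg.Agent.ChevalleyStructure.D4Cols (xU)
open Cfsg.Agent.ChevalleyStructure.D4Fixed (X Y fix mem_fix twisted_le_fix twisted_induction X_mem Y_mem exists_frob)
open Cfsg.Agent.ChevalleyStructure.D4HConj
open Cfsg.Agent.ChevalleyStructure.D4Perfect
open Cfsg.Agent.ChevalleyStructure.D4U (RS na nb na_RS nb_RS RS_outer_fix phi3)
open Cfsg.Agent.ChevalleyStructure.D4Pos
open Cfsg.Agent.ChevalleyStructure.TwistedU
open Cfsg.Agent.H136
open scoped commutatorElement

variable {K : Type*} [Field K] {φ : K →+* K} {q : ℕ}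

/-- the short root group -/
noncomputable def XS (φ : K →+* K) : Subgroup (GL chevD4.Idx K) where
  carrier := {g | ∃ t, g = X φ t}
  mul_mem' := by
    rintro _ _ ⟨t, rfl⟩ ⟨u, rfl⟩
    exact ⟨t + u, X_mul t u⟩
  one_mem' := ⟨0, X_zero.symm⟩
  inv_mem' := by
    rintro _ ⟨t, rfl⟩
    exact ⟨-t, X_inv t⟩

theorem mem_XS {g : GL chevD4.Idx K} : g ∈ XS φ ↔ ∃ t, g = X φ t := Iff.rfl

/-- three root elements as a list product -/
theorem three_inj {a b c : ℕ} (hab : b ≠ a) (hac : c ≠ a) (hbc : c ≠ b) (hu : uniqB [a, b, c] = true)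
    {t1 t2 t3 u1 u2 u3 : K}
    (h : xG a t1 * xG b t2 * xG c t3 = (xG a u1 * xG b u2 * xG c u3 : GL chevD4.Idx K)) :
    t1 = u1 ∧ t2 = u2 ∧ t3 = u3 := by
  have e : ∀ v1 v2 v3 : K, (xG a v1 * xG b v2 * xG c v3 : GL chevD4.Idx K) =
      lprod xG [a, b, c] (fun r => if r = a then v1 else if r = b then v2 else v3) := by
    intro v1 v2 v3
    rw [lprod_cons, lprod_cons, lprod_cons, lprod_nil, mul_one, if_pos rfl, if_neg hab, if_pos rfl, if_neg hac,
      if_neg hbc, mul_assoc]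
  rw [e, e] at h
  have h1 := lprod_inj _ hu h
  have ha := h1 a (by simp)
  have hb := h1 b (by simp)
  have hc := h1 c (by simp)
  simp only [if_pos, if_neg hab, if_neg hac, if_neg hbc] at ha hb hc
  exact ⟨ha, hb, hc⟩

theorem X_inj {t u : K} (h : X φ t = X φ u) : t = u :=
  (three_inj (by decide) (by decide) (by decide) (by decide +kernel) h).1

/-- conjugation of three root elements by an element -/
theorem conj3 {G : Type*} [Group G] (g a b c : G) :
    g * (a * b * c) * g⁻¹ = (g * a * g⁻¹) * (g * b * g⁻¹) * (g * c * g⁻¹) := by group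

/-- `v = n_A n_B` -/
noncomputable def vv (K : Type*) [Field K] : GL chevD4.Idx K := nA K * nB K

theorem vv_conj (K : Type*) [Field K] {s : ℕ} (hs : s < 24) (t : K) : vv K * xG s t * (vv K)⁻¹ =
    xG (rfl' 0 (rfl' 2 (rfl' 3 (rfl' 1 s))))
      ((eta 0 (rfl' 2 (rfl' 3 (rfl' 1 s))) : K) * ((eta 2 (rfl' 3 (rfl' 1 s)) : K) *
        ((eta 3 (rfl' 1 s) : K) * ((eta 1 s : K) * t)))) := by
  have h1 := rfl'_lt (i := 1) (by norm_num) hs
  have h2 := rfl'_lt (i := 3) (by norm_num) h1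
  have h3 := rfl'_lt (i := 2) (by norm_num) h2
  have e : vv K * xG s t * (vv K)⁻¹ =
      nG K 0 * (nG K 2 * (nG K 3 * (nG K 1 * xG s t * (nG K 1)⁻¹) * (nG K 3)⁻¹) * (nG K 2)⁻¹) * (nG K 0)⁻¹ := by
    rw [vv, nA_def, nB_def]; group
  rw [e, nG_conj (by norm_num) hs, nG_conj (by norm_num) h1, nG_conj (by norm_num) h2, nG_conj (by norm_num) h3]

/-- the sign of the conjugation by `v` on the root `s` -/
def vsg (s : ℕ) : ℤ :=
  eta 0 (rfl' 2 (rfl' 3 (rfl' 1 s))) * (eta 2 (rfl' 3 (rfl' 1 s)) * (eta 3 (rfl' 1 s) * eta 1 s))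

theorem vv_conj' (K : Type*) [Field K] {s s' : ℕ} (hs : s < 24) (h : rfl' 0 (rfl' 2 (rfl' 3 (rfl' 1 s))) = s')
    (t : K) : vv K * xG s t * (vv K)⁻¹ = xG s' ((vsg s : K) * t) := by
  rw [vv_conj K hs, h, vsg]
  push_cast
  rw [mul_assoc, mul_assoc, mul_assoc]

theorem vv_X (t : K) : vv K * X φ t * (vv K)⁻¹ =
    xG 17 ((vsg 18 : K) * t) * xG 20 ((vsg 13 : K) * φ t) * xG 21 ((vsg 12 : K) * φ (φ t)) := by
  rw [X_def', conj3, vv_conj' K (by norm_num) (show rfl' 0 (rfl' 2 (rfl' 3 (rfl' 1 18))) = 17 by decide +kernel),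
    vv_conj' K (by norm_num) (show rfl' 0 (rfl' 2 (rfl' 3 (rfl' 1 13))) = 20 by decide +kernel),
    vv_conj' K (by norm_num) (show rfl' 0 (rfl' 2 (rfl' 3 (rfl' 1 12))) = 21 by decide +kernel)]

theorem vsg_sq : ∀ s ∈ [18, 13, 12], vsg s * vsg s = 1 := by decide +kernel

theorem cart_vals : Cfsg.Agent.ChevalleyStructure.SparseHDiag.cartanRS chevD4 18 17 = -1 ∧
    Cfsg.Agent.ChevalleyStructure.SparseHDiag.cartanRS chevD4 13 17 = 1 ∧
    Cfsg.Agent.ChevalleyStructure.SparseHDiag.cartanRS chevD4 12 17 = 1 := by decide +kernel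

theorem c_comm {r s : ℕ} (hr : 12 ≤ r) (hr' : r < 24) (hs : 12 ≤ s) (hs' : s < 24) (hne : s ≠ r)
    (h : Cfsg.Agent.ChevalleyStructure.D4CommTab.cm r s = none) (t u : K) :
    xG r t * xG s u = (xG s u * xG r t : GL chevD4.Idx K) := by
  have h1 := xG_comm (F := K) hr hr' hs hs' hne t u
  unfold cval at h1
  rw [h] at h1
  exact (commutatorElement_eq_one_iff_mul_comm).1 h1

theorem c_comm2 {r s k : ℕ} {c : ℤ} (hr : 12 ≤ r) (hr' : r < 24) (hs : 12 ≤ s) (hs' : s < 24) (hne : s ≠ r)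
    (h : Cfsg.Agent.ChevalleyStructure.D4CommTab.cm r s = some (k, c)) (t u : K) :
    xG r t * xG s u = (xG k ((c : K) * (t * u)) * (xG s u * xG r t) : GL chevD4.Idx K) := by
  have h1 := xG_comm (F := K) hr hr' hs hs' hne t u
  unfold cval at h1
  rw [h] at h1
  have h2 : ⁅(xG r t : GL chevD4.Idx K), xG s u⁆ = xG k ((c : K) * (t * u)) := h1
  rw [← h2, commutatorElement_def]
  group

/-- abstract commutator computation -/
theorem comm3 {G : Type*} [Group G] {a b c x y z p r s : G} (hax : a * x = p * (x * a)) (hby : b * y = r * (y * b))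
    (hcz : c * z = s * (z * c)) (hay : a * y = y * a) (haz : a * z = z * a) (hbx : b * x = x * b)
    (hbz : b * z = z * b) (hcx : c * x = x * c) (hcy : c * y = y * c)
    (hpr : ∀ g ∈ ({a, b, c, x, y, z} : Set G), p * g = g * p ∧ r * g = g * r ∧ s * g = g * s) :
    (a * b * c) * (x * y * z) * (a * b * c)⁻¹ * (x * y * z)⁻¹ = p * r * s := by
  have ha := hpr a (by simp)
  have hb := hpr b (by simp)
  have hc := hpr c (by simp)
  have hx := hpr x (by simp)
  have hy := hpr y (by simp)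
  have hz := hpr z (by simp)
  have key : (a * b * c) * (x * y * z) = p * r * s * ((x * y * z) * (a * b * c)) := by
    calc (a * b * c) * (x * y * z) = a * b * (c * x) * y * z := by group
      _ = a * (b * x) * c * y * z := by rw [hcx]; group
      _ = (a * x) * b * c * y * z := by rw [hbx]; group
      _ = p * x * a * b * (c * y) * z := by rw [hax]; group
      _ = p * x * a * (b * y) * c * z := by rw [hcy]; group
      _ = p * x * (a * r) * y * b * c * z := by rw [hby]; group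
      _ = p * (x * r) * a * y * b * c * z := by rw [← ha.2.1]; group
      _ = p * r * x * (a * y) * b * c * z := by rw [← hx.2.1]; group
      _ = p * r * x * y * a * b * (c * z) := by rw [hay]; group
      _ = p * r * x * y * a * (b * s) * z * c := by rw [hcz]; group
      _ = p * r * x * y * (a * s) * b * z * c := by rw [← hb.2.2]; group
      _ = p * r * x * (y * s) * a * b * z * c := by rw [← ha.2.2]; group
      _ = p * r * (x * s) * y * a * b * z * c := by rw [← hy.2.2]; group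
      _ = p * r * s * x * y * a * (b * z) * c := by rw [← hx.2.2]; group
      _ = p * r * s * x * y * (a * z) * b * c := by rw [hbz]; group
      _ = p * r * s * ((x * y * z) * (a * b * c)) := by rw [haz]; group
  rw [key]; group

theorem mem_RS {l : List ℕ} {r : ℕ} (h : r ∈ l) (t : K) : xG r t ∈ RS K l := mem_rspan xG (S := {k | k ∈ l}) h t

theorem conj_XS [Fintype K] (hK : Fintype.card K = q ^ 3) (hφ : ∀ x, φ x = x ^ q) {g : GL chevD4.Idx K}
    (hg : g ∈ chevD4.diagonalSubgroup K) (hg' : g ∈ twistedD4 K q) {x : GL chevD4.Idx K} (hx : x ∈ XS φ) :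
    g * x * g⁻¹ ∈ XS φ := by
  obtain ⟨t, rfl⟩ := hx
  have hfix := twisted_le_fix hK hφ
  have h1 : g * X φ t * g⁻¹ ∈ RS K [18, 13, 12] := by
    obtain ⟨c, rfl⟩ := diagonal_le_torus K hg
    rw [X_def', conj3, torG_conj _ (by norm_num), torG_conj _ (by norm_num), torG_conj _ (by norm_num)]
    exact mul_mem (mul_mem (mem_RS (by simp) _) (mem_RS (by simp) _)) (mem_RS (by simp) _)
  have h2 : g * X φ t * g⁻¹ ∈ fix φ :=
    mul_mem (mul_mem (hfix hg') (hfix (X_mem hφ t))) (inv_mem (hfix hg'))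
  exact RS_outer_fix h1 h2

theorem hA_mem_diagonal {c : K} (hc : c ≠ 0) : hA φ c ∈ chevD4.diagonalSubgroup K := by
  have h1 : φ c ≠ 0 := by rwa [Ne, map_eq_zero]
  have h2 : φ (φ c) ≠ 0 := by rwa [Ne, map_eq_zero]
  exact mul_mem (mul_mem (hR_mem (by norm_num) hc) (hR_mem (by norm_num) h1)) (hR_mem (by norm_num) h2)

theorem diag_comm {g h : GL chevD4.Idx K} (hg : g ∈ chevD4.diagonalSubgroup K)
    (hh : h ∈ chevD4.diagonalSubgroup K) : g * h = h * g := by
  obtain ⟨c, rfl⟩ := diagonal_le_torus K hg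
  obtain ⟨d, rfl⟩ := diagonal_le_torus K hh
  rw [torG_mul, torG_mul, mul_comm]

/-- the parameters of the elements `X φ t` of a subgroup -/
noncomputable def par (φ : K →+* K) (S : Subgroup (GL chevD4.Idx K)) : AddSubgroup K where
  carrier := {t | X φ t ∈ S}
  add_mem' := by
    intro a b ha hb
    show X φ (a + b) ∈ S
    rw [← X_mul]; exact S.mul_mem ha hb
  zero_mem' := by
    show X φ 0 ∈ S
    rw [X_zero]; exact S.one_mem
  neg_mem' := by
    intro a ha
    show X φ (-a) ∈ S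
    rw [← X_inv]; exact S.inv_mem ha

theorem mem_par {S : Subgroup (GL chevD4.Idx K)} {t : K} : t ∈ par φ S ↔ X φ t ∈ S := Iff.rfl

theorem irr [Fintype K] {c : Kˣ} (hc : ∀ x : Kˣ, x ∈ Subgroup.zpowers c) (Z : Subgroup (GL chevD4.Idx K))
    (hZ : Z ≤ XS φ) (h : ∀ y ∈ Z, hA φ (c : K) * y * (hA φ (c : K))⁻¹ ∈ Z) : Z = ⊥ ∨ Z = XS φ := by
  rcases FieldLem.eq_bot_or_top hc (par φ Z) (by
    intro a ha
    have := h _ ha
    rwa [hA_conj_X c.ne_zero] at this) with h1 | h1
  · left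
    rw [eq_bot_iff]
    intro g hg
    obtain ⟨t, rfl⟩ := hZ hg
    have : t ∈ par φ Z := hg
    rw [h1, AddSubgroup.mem_bot] at this
    rw [this, X_zero]
    exact Subgroup.mem_bot.2 rfl
  · right
    apply le_antisymm hZ
    rintro _ ⟨t, rfl⟩
    have : t ∈ par φ Z := by rw [h1]; exact AddSubgroup.mem_top t
    exact this

theorem Y_conj [Fintype K] (hK : Fintype.card K = q ^ 3) (hφ : ∀ x, φ x = x ^ q) (t : K) :
    vv K * (vv K * (vv K * Y φ t * (vv K)⁻¹) * (vv K)⁻¹) * (vv K)⁻¹ ∈ XS φ := by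
  have hfix := twisted_le_fix hK hφ
  have hv : vv K ∈ fix φ := hfix (mul_mem (nA_mem_twisted hφ) (nB_mem_twisted hφ))
  have hY : Y φ t ∈ fix φ := hfix (Y_mem hφ t)
  have h0 : Y φ t ∈ RS K [5, 10, 11] := by
    rw [Y_def']
    exact mul_mem (mul_mem (mem_RS (by simp) _) (mem_RS (by simp) _)) (mem_RS (by simp) _)
  have e : ∀ g : GL chevD4.Idx K, nb K * (na K * g * (na K)⁻¹) * (nb K)⁻¹ = vv K * g * (vv K)⁻¹ := by
    intro g
    show nA K * (nB K * g * (nB K)⁻¹) * (nA K)⁻¹ = nA K * nB K * g * (nA K * nB K)⁻¹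
    group
  have h1 := nb_RS K (l := [4, 7, 8]) (l' := [6, 3, 2]) (by decide +kernel)
    (na_RS K (l := [5, 10, 11]) (l' := [4, 7, 8]) (by decide +kernel) h0)
  rw [e] at h1
  have h2 := nb_RS K (l := [6, 3, 2]) (l' := [4, 7, 8]) (by decide +kernel)
    (na_RS K (l := [6, 3, 2]) (l' := [6, 3, 2]) (by decide +kernel) h1)
  rw [e] at h2
  have h3 := nb_RS K (l := [5, 10, 11]) (l' := [18, 13, 12]) (by decide +kernel)
    (na_RS K (l := [4, 7, 8]) (l' := [5, 10, 11]) (by decide +kernel) h2)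
  rw [e] at h3
  refine RS_outer_fix h3 ?_
  have c : ∀ g ∈ fix φ, vv K * g * (vv K)⁻¹ ∈ fix φ := fun g hg => mul_mem (mul_mem hv hg) (inv_mem hv)
  exact c _ (c _ (c _ hY))

theorem main {K : Type*} [Field K] [Fintype K] {q : ℕ} (hq : IsPrimePow q) (hK : Fintype.card K = q ^ 3) :
    ∃ a b : GL chevD4.Idx K, a ∈ twistedD4 K q ∧ b ∈ twistedD4 K q ∧ twistedD4 K q ≤ Subgroup.closure {a, b} := by
  obtain ⟨φ, hφ⟩ := exists_frob hq hK
  have hfix := twisted_le_fix hK hφ
  have hq2 : 2 ≤ q := hq.two_le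
  have hq3 : 2 ^ 3 ≤ q ^ 3 := Nat.pow_le_pow_left hq2 3
  obtain ⟨c, hc⟩ := IsCyclic.exists_generator (α := Kˣ)
  have hc0 : (c : K) ≠ 0 := c.ne_zero
  have hord : orderOf c = q ^ 3 - 1 := by
    rw [orderOf_eq_card_of_forall_mem_zpowers hc, Nat.card_units, Nat.card_eq_fintype_card, hK]
  have hpow : ∀ n, 0 < n → n < q ^ 3 - 1 → (c : K) ^ n ≠ 1 := by
    intro n h0 hn h1
    have h2 : c ^ n = 1 := Units.ext (by rw [Units.val_pow_eq_pow_val, h1, Units.val_one])
    have := Nat.le_of_dvd h0 (orderOf_dvd_of_pow_eq_one h2)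
    omega
  have hc2 : (c : K) ^ 2 ≠ 1 := hpow 2 (by norm_num) (by omega)
  have hlam : φ c * φ (φ c) ≠ c := by
    intro h
    have h1 : φ c * φ (φ c) = (c : K) ^ (q + q ^ 2) := by
      rw [hφ (φ c), hφ c, ← pow_mul, ← pow_add, ← sq]
    have h2 : q ^ 2 + q ^ 2 ≤ q ^ 3 := by nlinarith [Nat.pos_of_ne_zero (by omega : q ≠ 0)]
    have h3 : q + q < q ^ 2 + q := by nlinarith
    refine hpow (q + q ^ 2 - 1) (by omega) (by omega) ?_
    apply mul_right_cancel₀ hc0
    rw [one_mul, ← pow_succ, Nat.sub_add_cancel (by omega), ← h1, h]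
  have hvT : vv K ∈ twistedD4 K q := mul_mem (nA_mem_twisted hφ) (nB_mem_twisted hφ)
  have hvN : vv K ∈ chevD4.monomialSubgroup K := mul_mem (nA_mem K) (nB_mem K)
  have hhD : hA φ (c : K) ∈ chevD4.diagonalSubgroup K := hA_mem_diagonal hc0
  have hhT : hA φ (c : K) ∈ twistedD4 K q := hA_mem hφ _
  refine ⟨hA φ (c : K), X φ 1 * (vv K)⁻¹, hhT, mul_mem (X_mem hφ 1) (inv_mem hvT), ?_⟩
  set M := Subgroup.closure {hA φ (c : K), X φ 1 * (vv K)⁻¹} with hM
  have ha : hA φ (c : K) ∈ M := Subgroup.subset_closure (by simp)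
  have hb : X φ 1 * (vv K)⁻¹ ∈ M := Subgroup.subset_closure (by simp)
  have h1D : (vv K)⁻¹ * hA φ (c : K) * (vv K)⁻¹⁻¹ ∈ chevD4.diagonalSubgroup K :=
    conj_mem_diagonal (inv_mem hvN) hhD
  have h1T : (vv K)⁻¹ * hA φ (c : K) * (vv K)⁻¹⁻¹ ∈ twistedD4 K q :=
    mul_mem (mul_mem (inv_mem hvT) hhT) (inv_mem (inv_mem hvT))
  obtain ⟨hXM, hwM⟩ := TwoGen.torus_trick M (XS φ) (h := hA φ (c : K)) (w := (vv K)⁻¹) (u := X φ 1) ha hb
    ⟨1, rfl⟩ (fun x hx => conj_XS hK hφ h1D h1T hx)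
    (fun x hx => by
      have := conj_XS hK hφ (inv_mem h1D) (inv_mem h1T) hx
      rwa [inv_inv] at this)
    (irr hc)
    ⟨X φ 1, ⟨1, rfl⟩, fun h => by
      have h2 := hA_conj_X (φ := φ) hc0 1
      rw [h, mul_inv_cancel_right] at h2
      have h3 := X_inj h2
      rw [mul_one] at h3
      exact hc2 h3.symm⟩
    (fun x hx => conj_XS hK hφ hhD hhT hx)
    (diag_comm hhD h1D)
    (fun h => by
      have h2 : hA φ (c : K) * (vv K * X φ 1 * (vv K)⁻¹) * (hA φ (c : K))⁻¹ = vv K * X φ 1 * (vv K)⁻¹ := by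
        have h3 : vv K * ((vv K)⁻¹ * hA φ (c : K) * (vv K)⁻¹⁻¹ * X φ 1) * (vv K)⁻¹ =
            vv K * (X φ 1 * ((vv K)⁻¹ * hA φ (c : K) * (vv K)⁻¹⁻¹)) * (vv K)⁻¹ := by rw [h]
        have h4 : vv K * ((vv K)⁻¹ * hA φ (c : K) * (vv K)⁻¹⁻¹ * X φ 1) * (vv K)⁻¹ =
            hA φ (c : K) * (vv K * X φ 1 * (vv K)⁻¹) := by group
        have h5 : vv K * (X φ 1 * ((vv K)⁻¹ * hA φ (c : K) * (vv K)⁻¹⁻¹)) * (vv K)⁻¹ =
            (vv K * X φ 1 * (vv K)⁻¹) * hA φ (c : K) := by group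
        rw [h4, h5] at h3
        rw [h3, mul_inv_cancel_right]
      rw [vv_X, conj3, hA_conj (by norm_num) hc0, hA_conj (by norm_num) hc0, hA_conj (by norm_num) hc0] at h2
      have h6 := (three_inj (by decide) (by decide) (by decide) (by decide +kernel) h2).1
      obtain ⟨e1, e2, e3⟩ := cart_vals
      rw [e1, e2, e3, zpow_one, zpow_one, zpow_neg_one, mul_one] at h6
      have hs : ((vsg 18 : ℤ) : K) ≠ 0 := by
        intro h0
        have := congrArg (Int.cast (R := K)) (vsg_sq 18 (by simp))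
        rw [Int.cast_mul, h0, mul_zero, Int.cast_one] at this
        exact zero_ne_one this
      have h7 : ((c : K)⁻¹ * (φ c * φ (φ c))) * ((vsg 18 : ℤ) : K) = 1 * ((vsg 18 : ℤ) : K) := by
        rw [one_mul]
        calc ((c : K)⁻¹ * (φ c * φ (φ c))) * ((vsg 18 : ℤ) : K)
            = (c : K)⁻¹ * (φ c * (φ (φ c) * ((vsg 18 : ℤ) : K))) := by ring
          _ = _ := h6
      have h8 := mul_right_cancel₀ hs h7
      apply hlam
      rw [inv_mul_eq_one₀ hc0] at h8
      exact h8.symm)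
  have hvM : vv K ∈ M := by
    have := M.inv_mem hwM
    rwa [inv_inv] at this
  have hX : ∀ t, X φ t ∈ M := fun t => hXM ⟨t, rfl⟩
  have hunconj : ∀ g : GL chevD4.Idx K, vv K * g * (vv K)⁻¹ ∈ M → g ∈ M := by
    intro g hg
    have := M.mul_mem (M.mul_mem (M.inv_mem hvM) hg) hvM
    have e : (vv K)⁻¹ * (vv K * g * (vv K)⁻¹) * vv K = g := by group
    rwa [e] at this
  have hY : ∀ t, Y φ t ∈ M := fun t => hunconj _ (hunconj _ (hunconj _ (hXM (Y_conj hK hφ t))))
  have hnA : nA K ∈ M := by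
    have h1 := Cfsg.Agent.ChevalleyStructure.D4H1.n_outer_eq φ 1
    rw [map_one, map_one, wU_nWord_eq (by norm_num), wU_nWord_eq (by norm_num), wU_nWord_eq (by norm_num)] at h1
    have h2 : nA K = nR 18 1 * nR 13 1 * nR 12 (1 : K) := rfl
    rw [h2, ← h1]
    apply Subgroup.list_prod_mem
    intro x hx
    rw [List.mem_map] at hx
    obtain ⟨⟨_ | _, t⟩, _, rfl⟩ := hx
    · exact hY t
    · exact hX t
  have hnB : nB K ∈ M := by
    have := M.mul_mem (M.inv_mem hnA) hvM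
    rwa [vv, inv_mul_cancel_left] at this
  -- long root elements
  have h22 : ∃ ε : K, (ε = 1 ∨ ε = -1) ∧ ∀ t : K, xG 22 (ε * (t + φ t + φ (φ t))) ∈ M := by
    obtain ⟨a1, a2, a3, k1, k2, k3, r1, r2, r3, r4⟩ :
        ∃ a1 a2 a3 : ℤ, Cfsg.Agent.ChevalleyStructure.D4CommTab.cm 18 17 = some (22, a1) ∧
          Cfsg.Agent.ChevalleyStructure.D4CommTab.cm 13 20 = some (22, a2) ∧
          Cfsg.Agent.ChevalleyStructure.D4CommTab.cm 12 21 = some (22, a3) ∧
          a2 * vsg 13 = a1 * vsg 18 ∧ a3 * vsg 12 = a1 * vsg 18 ∧ a1 * vsg 18 * (a1 * vsg 18) = 1 ∧ True := by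
      refine ⟨((Cfsg.Agent.ChevalleyStructure.D4CommTab.cm 18 17).getD (0, 0)).2,
        ((Cfsg.Agent.ChevalleyStructure.D4CommTab.cm 13 20).getD (0, 0)).2,
        ((Cfsg.Agent.ChevalleyStructure.D4CommTab.cm 12 21).getD (0, 0)).2, ?_, ?_, ?_, ?_, ?_, ?_, trivial⟩ <;>
      decide +kernel
    refine ⟨((a1 * vsg 18 : ℤ) : K), ?_, fun t => ?_⟩
    · have h3 : ((a1 * vsg 18 : ℤ) : K) ^ 2 = 1 := by
        rw [sq, ← Int.cast_mul, r3, Int.cast_one]
      exact Cfsg.Agent.ChevalleyStructure.D4H1.sq_one_cases h3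
    · have h3 : X φ 1 * (vv K * X φ t * (vv K)⁻¹) * (X φ 1)⁻¹ * (vv K * X φ t * (vv K)⁻¹)⁻¹ ∈ M := by
        have h4 := M.mul_mem (M.mul_mem hvM (hX t)) (M.inv_mem hvM)
        exact M.mul_mem (M.mul_mem (M.mul_mem (hX 1) h4) (M.inv_mem (hX 1))) (M.inv_mem h4)
      rw [vv_X, X_def', map_one, map_one] at h3
      rw [comm3 (c_comm2 (by norm_num) (by norm_num) (by norm_num) (by norm_num) (by norm_num) k1 _ _)
        (c_comm2 (by norm_num) (by norm_num) (by norm_num) (by norm_num) (by norm_num) k2 _ _)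
        (c_comm2 (by norm_num) (by norm_num) (by norm_num) (by norm_num) (by norm_num) k3 _ _)
        (c_comm (by norm_num) (by norm_num) (by norm_num) (by norm_num) (by norm_num) (by decide +kernel) _ _)
        (c_comm (by norm_num) (by norm_num) (by norm_num) (by norm_num) (by norm_num) (by decide +kernel) _ _)
        (c_comm (by norm_num) (by norm_num) (by norm_num) (by norm_num) (by norm_num) (by decide +kernel) _ _)
        (c_comm (by norm_num) (by norm_num) (by norm_num) (by norm_num) (by norm_num) (by decide +kernel) _ _)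
        (c_comm (by norm_num) (by norm_num) (by norm_num) (by norm_num) (by norm_num) (by decide +kernel) _ _)
        (c_comm (by norm_num) (by norm_num) (by norm_num) (by norm_num) (by norm_num) (by decide +kernel) _ _)
        (by
          have hcen : ∀ r ∈ [18, 13, 12, 17, 20, 21], ∀ t u : K, xG 22 t * xG r u = (xG r u * xG 22 t :
              GL chevD4.Idx K) := by
            have hd : ∀ r ∈ [18, 13, 12, 17, 20, 21], 12 ≤ r ∧ r < 24 ∧ r ≠ 22 ∧
              Cfsg.Agent.ChevalleyStructure.D4CommTab.cm 22 r = none := by decide +kernel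
            intro r hr t u
            obtain ⟨d1, d2, d3, d4⟩ := hd r hr
            exact c_comm (by norm_num) (by norm_num) d1 d2 d3 d4 t u
          intro g hg
          simp only [Set.mem_insert_iff, Set.mem_singleton_iff] at hg
          rcases hg with rfl | rfl | rfl | rfl | rfl | rfl
          · exact ⟨hcen 18 (by simp) _ _, hcen 18 (by simp) _ _, hcen 18 (by simp) _ _⟩
          · exact ⟨hcen 13 (by simp) _ _, hcen 13 (by simp) _ _, hcen 13 (by simp) _ _⟩
          · exact ⟨hcen 12 (by simp) _ _, hcen 12 (by simp) _ _, hcen 12 (by simp) _ _⟩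
          · exact ⟨hcen 17 (by simp) _ _, hcen 17 (by simp) _ _, hcen 17 (by simp) _ _⟩
          · exact ⟨hcen 20 (by simp) _ _, hcen 20 (by simp) _ _, hcen 20 (by simp) _ _⟩
          · exact ⟨hcen 21 (by simp) _ _, hcen 21 (by simp) _ _, hcen 21 (by simp) _ _⟩)] at h3
      rw [← xG_add, ← xG_add] at h3
      have e : (a1 : K) * (1 * ((vsg 18 : K) * t)) + (a2 : K) * (1 * ((vsg 13 : K) * φ t)) +
          (a3 : K) * (1 * ((vsg 12 : K) * φ (φ t))) = ((a1 * vsg 18 : ℤ) : K) * (t + φ t + φ (φ t)) := by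
        have r1' := congrArg (Int.cast (R := K)) r1
        have r2' := congrArg (Int.cast (R := K)) r2
        push_cast at r1' r2' ⊢
        linear_combination φ t * r1' + φ (φ t) * r2'
      rwa [e] at h3
  obtain ⟨ε, hε, h22⟩ := h22
  have h22' : ∀ v, φ v = v → xG 22 v ∈ M := by
    intro v hv
    obtain ⟨t, ht⟩ := FieldLem.exists_trace hq2 hK φ hφ (phi_sign hε hv)
    have := h22 t
    rwa [ht, sign_mul_self hε] at this
  have h14 : ∀ v, φ v = v → xG 14 v ∈ M := by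
    intro v hv
    obtain ⟨ε', hε', h⟩ := nA_conj_14 K
    have h5 := h22' _ (phi_sign hε' hv)
    rw [← h] at h5
    have := M.mul_mem (M.mul_mem (M.inv_mem hnA) h5) hnA
    have e : (nA K)⁻¹ * (nA K * xG 14 v * (nA K)⁻¹) * nA K = xG 14 v := by group
    rwa [e] at this
  refine twisted_induction hφ ?_ ?_ hX hY
  · intro t ht
    rw [xU_eq]
    exact h14 t ht
  · intro t ht
    rw [xU_eq]
    obtain ⟨ε', hε', h⟩ := nB_conj_14 K
    have h5 := M.mul_mem (M.mul_mem hnB (h14 _ (phi_sign hε' ht))) (M.inv_mem hnB)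
    rwa [h, sign_mul_self hε'] at h5

/-- The twisted group ³D₄(q) (realised inside D₄ over the field with `q³` elements) is generated by two of its elements. -/
theorem result {K : Type*} [Field K] [Fintype K] {q : ℕ} (hq : IsPrimePow q) (hK : Fintype.card K = q ^ 3) :
    ∃ a b : ↥(Cfsg.Lie.twistedD4 K q), Subgroup.closure ({a, b} : Set ↥(Cfsg.Lie.twistedD4 K q)) = ⊤ :=
  Cfsg.Agent.H136.TwoGen.of_ambient _ (main hq hK)

end Cfsg.Agent.S2407
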