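import Cfsg.Statements.S2409
import Cfsg.Agent.ChevalleyStructure.Ree.Perfect
import Cfsg.Agent.H136.TwoGen
set_option linter.all false

set_option autoImplicit false
open Cfsg

namespace Cfsg.Agent.S2409

open Cfsg.Lie Cfsg.Agent.ChevalleyStructure.Ree.Words Cfsg.Agent.ChevalleyStructure.Ree.Gens
open Cfsg.Agent.ChevalleyStructure.Ree.Checks Cfsg.Agent.ChevalleyStructure.Ree.Perfect

variable {K : Type*} [Field K]

theorem rootA_rev {r s : ℕ} (h : r + s = 11) : rootA s = - rootA r := by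
  have h1 : ∀ r ∈ List.range 12, rootA (11 - r) = - rootA r := by decide
  have h2 : s = 11 - r := by omega
  rw [h2]
  exact h1 r (List.mem_range.2 (by omega))

theorem rootB_rev {r s : ℕ} (h : r + s = 11) : rootB s = - rootB r := by
  have h1 : ∀ r ∈ List.range 12, rootB (11 - r) = - rootB r := by decide
  have h2 : s = 11 - r := by omega
  rw [h2]
  exact h1 r (List.mem_range.2 (by omega))

theorem n_h (α β : K) : nMat K * hMat α β = hMat α⁻¹ β⁻¹ * nMat K := by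
  unfold hMat
  ext i j
  rw [Matrix.mul_diagonal, Matrix.diagonal_mul]
  rcases i with i | i <;> rcases j with j | j
  · simp [nMat]
  · simp [nMat]
  · simp [nMat]
  · by_cases h : i.val + j.val = 11
    · simp [nMat, h, rootA_rev h, rootB_rev h]
    · simp [nMat, h]

theorem nU_conj_tU (e : ℕ) (α : Kˣ) : nU K * tU e α * (nU K)⁻¹ = tU e α⁻¹ := by
  rw [mul_inv_eq_iff_eq_mul]
  apply Units.ext
  rw [Units.val_mul, Units.val_mul, coe_tU, coe_tU, coe_nU, n_h, Units.val_inv_eq_inv_val, inv_pow]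

theorem main {K : Type*} [Field K] [Fintype K] {m : ℕ} (hm : 1 ≤ m) (hK : Fintype.card K = 3 ^ (2 * m + 1)) :
    ∃ a b : GL chevG2.Idx K, a ∈ twistedG2 K (3 ^ m) ∧ b ∈ twistedG2 K (3 ^ m) ∧
      twistedG2 K (3 ^ m) ≤ Subgroup.closure {a, b} := by
  have h := theta_of_card hK
  set e := 3 ^ m with he
  have hcard : 3 < Fintype.card K := by
    rw [hK]
    calc 3 = 3 ^ 1 := rfl
      _ < 3 ^ (2 * m + 1) := Nat.pow_lt_pow_right (by decide) (by omega)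
  obtain ⟨γ, hγ⟩ := exists_unit_sq_ne_one hcard
  obtain ⟨k, hk⟩ := IsCyclic.exists_generator (α := Kˣ)
  refine ⟨tU e k, wU e 1 0 0 * nU K, tU_mem hK k, mul_mem (wU_mem e 1 0 0) (nU_mem h), ?_⟩
  set M := Subgroup.closure {tU e k, wU e (1 : K) 0 0 * nU K} with hM
  have ha : tU e k ∈ M := Subgroup.subset_closure (by simp)
  have hb : wU e (1 : K) 0 0 * nU K ∈ M := Subgroup.subset_closure (by simp)
  -- the whole torus
  have hT : ∀ l : Kˣ, tU e l ∈ M := by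
    let f : Kˣ →* GL chevG2.Idx K := ⟨⟨tU e, tU_one e⟩, fun x y => (tU_mul e x y).symm⟩
    intro l
    obtain ⟨n, rfl⟩ := Subgroup.mem_zpowers_iff.1 (hk l)
    have : tU e (k ^ n) = tU e k ^ n := map_zpow f k n
    rw [this]
    exact Subgroup.zpow_mem _ ha n
  have hconj : ∀ (l : Kˣ) (t u v : K), wU e t u v ∈ M →
      wU e ((l : K) ^ (3 * e) * t) ((l : K) ^ (3 * e) * (l : K) ^ 3 * u) ((l : K) ^ (6 * e) * (l : K) ^ 3 * v) ∈ M := by
    intro l t u v h1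
    rw [← tU_conj_wU h]
    exact M.mul_mem (M.mul_mem (hT l) h1) (M.inv_mem (hT l))
  -- `θ` is surjective
  have hsurj : ∀ x : K, x ≠ 0 → ∃ l : Kˣ, (l : K) ^ (3 * e) = x := by
    intro x hx
    refine ⟨Units.mk0 (x ^ e) (pow_ne_zero _ hx), ?_⟩
    rw [Units.val_mk0, ← pow_mul, mul_comm e, pow_mul, h.inv]
  have h3e : ∀ x : K, (x ^ e) ^ 3 = x ^ (3 * e) := fun x => by rw [← pow_mul, mul_comm]
  -- inverse
  have hinv : ∀ t u v : K, ∃ u' v', (wU e t u v)⁻¹ = wU e (-t) u' v' := by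
    intro t u v
    refine ⟨-u + t * ((-t) ^ e) ^ 3, ?_⟩
    refine ⟨-(v - u * (-t) - t ^ 2 * ((-t) ^ e) ^ 3 + t * (-t) * ((-t) ^ e) ^ 3), ?_⟩
    rw [inv_eq_iff_mul_eq_one, wU_mul h, ← wU_zero h]
    congr 1 <;> ring
  -- a unipotent element with nonzero first coordinate
  obtain ⟨c, c2, c3, hc, hcM⟩ : ∃ c c2 c3 : K, c ≠ 0 ∧ wU e c c2 c3 ∈ M := by
    have h1 : (wU e (1 : K) 0 0 * nU K) * tU e k * (wU e (1 : K) 0 0 * nU K)⁻¹ * tU e k ∈ M :=
      M.mul_mem (M.mul_mem (M.mul_mem hb ha) (M.inv_mem hb)) ha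
    have h2 : (wU e (1 : K) 0 0 * nU K) * tU e k * (wU e (1 : K) 0 0 * nU K)⁻¹ * tU e k =
        wU e 1 0 0 * (tU e k⁻¹ * (wU e 1 0 0)⁻¹ * (tU e k⁻¹)⁻¹) := by
      have h4 : tU e k = (tU e k⁻¹)⁻¹ := by
        rw [eq_comm, inv_eq_iff_mul_eq_one, tU_mul, inv_mul_cancel, tU_one]
      calc (wU e (1 : K) 0 0 * nU K) * tU e k * (wU e (1 : K) 0 0 * nU K)⁻¹ * tU e k
          = wU e (1 : K) 0 0 * (nU K * tU e k * (nU K)⁻¹) * (wU e (1 : K) 0 0)⁻¹ * tU e k := by group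
        _ = wU e 1 0 0 * tU e k⁻¹ * (wU e 1 0 0)⁻¹ * (tU e k⁻¹)⁻¹ := by rw [nU_conj_tU, ← h4]
        _ = wU e 1 0 0 * (tU e k⁻¹ * (wU e 1 0 0)⁻¹ * (tU e k⁻¹)⁻¹) := by group
    obtain ⟨u', v', h5⟩ := hinv 1 0 0
    rw [h2, h5, tU_conj_wU h, wU_mul h] at h1
    refine ⟨_, _, _, ?_, h1⟩
    intro h0
    have h6 : ((k⁻¹ : Kˣ) : K) ^ (3 * e) = 1 := by linear_combination -h0
    have h7 : ((k⁻¹ : Kˣ) : K) = 1 := by
      have := h.inv ((k⁻¹ : Kˣ) : K)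
      rwa [h6, one_pow, eq_comm] at this
    have h8 : k = 1 := by
      rw [← inv_inv k, show k⁻¹ = 1 from Units.ext (h7.trans Units.val_one.symm), inv_one]
    obtain ⟨i, hi⟩ := Subgroup.mem_zpowers_iff.1 (hk γ)
    apply hγ
    rw [← hi, h8, one_zpow, one_pow]
  -- all first coordinates
  have s1 : ∀ t : K, ∃ u v : K, wU e t u v ∈ M := by
    intro t
    by_cases ht : t = 0
    · exact ⟨0, 0, by rw [ht, wU_zero h]; exact M.one_mem⟩
    · obtain ⟨l, hl⟩ := hsurj (t / c) (div_ne_zero ht hc)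
      have h1 := hconj l c c2 c3 hcM
      rw [hl, div_mul_cancel₀ t hc] at h1
      exact ⟨_, _, h1⟩
  -- commutators: second coordinates
  have key : ∀ t u v t1 u1 v1 : K, wU e t u v ∈ M → wU e t1 u1 v1 ∈ M →
      ∃ w, wU e 0 (t1 * (t ^ e) ^ 3 - t * (t1 ^ e) ^ 3) w ∈ M := by
    intro t u v t1 u1 v1 h1 h2
    have h3 : wU e t u v * wU e t1 u1 v1 =
        wU e t1 u1 v1 * wU e t u v * wU e 0 (t1 * (t ^ e) ^ 3 - t * (t1 ^ e) ^ 3)
          ((v + v1 - u * t1 - t ^ 2 * (t1 ^ e) ^ 3 + t * t1 * (t1 ^ e) ^ 3) -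
            (v1 + v - u1 * t - t1 ^ 2 * (t ^ e) ^ 3 + t1 * t * (t ^ e) ^ 3)) := by
      rw [wU_mul h, wU_mul h, wU_mul h, zero_pow h.ne_zero]
      congr 1 <;> ring
    have h4 := M.mul_mem (M.inv_mem (M.mul_mem h2 h1)) (M.mul_mem h1 h2)
    rw [h3, inv_mul_cancel_left] at h4
    exact ⟨_, h4⟩
  -- there is a nonzero one
  obtain ⟨d, d2, hd, hdM⟩ : ∃ d d2 : K, d ≠ 0 ∧ wU e 0 d d2 ∈ M := by
    obtain ⟨u, v, h1⟩ := s1 1
    obtain ⟨u1, v1, h2⟩ := s1 (γ : K)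
    obtain ⟨w, hw⟩ := key _ _ _ _ _ _ h1 h2
    refine ⟨_, w, ?_, hw⟩
    intro h0
    rw [one_pow, one_pow, mul_one, one_mul, h3e, sub_eq_zero] at h0
    -- γ = γ^(3e), so γ = γ^3
    have h5 : (γ : K) ^ 3 = γ := by
      have h6 : ((γ : K) ^ (3 * e)) ^ (3 * e) = (γ : K) ^ 3 := by
        rw [mul_comm 3 e, pow_mul _ e 3, mul_comm e 3, h.inv]
      rw [← h0, ← h0] at h6
      exact h6.symm
    apply hγ
    apply Units.ext
    have h7 : (γ : K) ≠ 0 := γ.ne_zero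
    apply mul_left_cancel₀ h7
    rw [Units.val_pow_eq_pow_val, Units.val_one, mul_one, ← pow_succ']
    exact h5
  -- squares
  have hsq : ∀ (b u w : K), wU e 0 u w ∈ M → ∃ w', wU e 0 (b ^ 2 * u) w' ∈ M := by
    intro b u w hu
    by_cases hb0 : b = 0
    · refine ⟨0, ?_⟩
      rw [hb0, zero_pow (by norm_num), zero_mul, wU_zero h]
      exact M.one_mem
    · -- `l` with `l^(3e) l^3 = b^2`: `l = (c^(3e-1))^e`..., `β = b^(3e-1)`, `l = β^e`
      have h0 : 1 ≤ 3 * e := by have := Nat.pos_of_ne_zero h.ne_zero; omega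
      let β : Kˣ := (Units.mk0 b hb0) ^ (3 * e - 1)
      have hβ : (β : K) * b = b ^ (3 * e) := by
        show ((Units.mk0 b hb0) ^ (3 * e - 1) : Kˣ).val * b = _
        rw [Units.val_pow_eq_pow_val, Units.val_mk0, ← pow_succ, Nat.sub_add_cancel h0]
      let l : Kˣ := β ^ e
      have hl : (l : K) = (β : K) ^ e := Units.val_pow_eq_pow_val _ _
      have h1 : (l : K) ^ (3 * e) = β := by
        rw [hl, ← pow_mul, mul_comm e, pow_mul, h.inv]
      have h2 : (l : K) ^ 3 = (β : K) ^ (3 * e) := by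
        rw [hl, h3e]
      have h3 : (l : K) ^ (3 * e) * (l : K) ^ 3 = b ^ 2 := by
        rw [h1, h2]
        have h4 : (β : K) ^ (3 * e) * b ^ (3 * e) = b ^ 3 := by
          rw [← mul_pow, hβ, ← pow_mul]
          have h6 : (b ^ (3 * e)) ^ (3 * e) = b ^ 3 := by
            rw [mul_comm 3 e, pow_mul _ e 3, mul_comm e 3, h.inv]
          rw [pow_mul, h6]
        have h5 : (β : K) * (β : K) ^ (3 * e) * b = b ^ 2 * b := by
          calc (β : K) * (β : K) ^ (3 * e) * b = (β * b) * (β : K) ^ (3 * e) := by ring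
            _ = (β : K) ^ (3 * e) * b ^ (3 * e) := by rw [hβ, mul_comm]
            _ = b ^ 2 * b := by rw [h4]; ring
        exact mul_right_cancel₀ hb0 h5
      have h4 := hconj l 0 u w hu
      rw [mul_zero, h3] at h4
      exact ⟨_, h4⟩
  have h3' := h.three'
  have s2 : ∀ u : K, ∃ v, wU e 0 u v ∈ M := by
    intro u
    -- `u / d = x = (x+1)^2 - (x-1)^2` in characteristic 3
    set x := u / d with hx
    have hxd : x * d = u := div_mul_cancel₀ u hd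
    obtain ⟨w1, h1⟩ := hsq (x + 1) d d2 hdM
    obtain ⟨w2, h2⟩ := hsq (x - 1) d d2 hdM
    have h4 := M.mul_mem h1 (M.inv_mem h2)
    have h5 : (wU e 0 ((x - 1) ^ 2 * d) w2)⁻¹ = wU e 0 (-((x - 1) ^ 2 * d)) (-w2) := by
      rw [inv_eq_iff_mul_eq_one, wU_0 h, add_neg_cancel, add_neg_cancel, wU_zero h]
    rw [h5, wU_0 h] at h4
    have h6 : (x + 1) ^ 2 * d + -((x - 1) ^ 2 * d) = u := by
      linear_combination x * d * h3' + hxd
    rw [h6] at h4
    exact ⟨_, h4⟩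
  have s3 : ∀ v : K, wU e 0 0 v ∈ M := by
    intro v
    obtain ⟨u1, v1, h1⟩ := s1 1
    obtain ⟨v2, h2⟩ := s2 v
    have h4 : wU e 1 u1 v1 * wU e 0 v v2 = wU e 0 v v2 * wU e 1 u1 v1 * wU e 0 0 v := by
      rw [wU_mul h, wU_mul h, wU_mul h, zero_pow h.ne_zero]
      congr 1 <;> ring
    have h5 := M.mul_mem (M.inv_mem (M.mul_mem h2 h1)) (M.mul_mem h1 h2)
    rwa [h4, inv_mul_cancel_left] at h5
  have sAll : ∀ t u v : K, wU e t u v ∈ M := by
    intro t u v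
    obtain ⟨u1, v1, h1⟩ := s1 t
    obtain ⟨v2, h2⟩ := s2 (u - u1)
    have h4 := M.mul_mem (M.mul_mem h1 h2) (s3 (v - v1 - v2))
    rw [wU_mul h, wU_mul h, zero_pow h.ne_zero] at h4
    have e1 : t + 0 + 0 = t := by ring
    have e2 : u1 + (u - u1) - t * 0 ^ 3 + 0 - (t + 0) * 0 ^ 3 = u := by ring
    have e3 : v1 + v2 - u1 * 0 - t ^ 2 * 0 ^ 3 + t * 0 * 0 ^ 3 + (v - v1 - v2) -
        (u1 + (u - u1) - t * 0 ^ 3) * 0 - (t + 0) ^ 2 * 0 ^ 3 + (t + 0) * 0 * 0 ^ 3 = v := by ring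
    rwa [e1, e2, e3] at h4
  have hn : nU K ∈ M := by
    have h4 := M.mul_mem (M.inv_mem (sAll 1 0 0)) hb
    rwa [inv_mul_cancel_left] at h4
  rw [twistedG2_le_iff]
  refine ⟨sAll, fun t u v => ?_⟩
  rw [← nU_conj_wU h]
  exact M.mul_mem (M.mul_mem hn (sAll t u v)) (M.inv_mem hn)

/-- The small Ree group ²G₂(3^(2m+1)) with `m ≥ 1` is generated by two of its elements. -/
theorem result {K : Type*} [Field K] [Fintype K] {m : ℕ} (hm : 1 ≤ m) (hK : Fintype.card K = 3 ^ (2 * m + 1)) :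
    ∃ a b : ↥(Cfsg.Lie.twistedG2 K (3 ^ m)), Subgroup.closure ({a, b} : Set ↥(Cfsg.Lie.twistedG2 K (3 ^ m))) = ⊤ :=
  Cfsg.Agent.H136.TwoGen.of_ambient _ (main hm hK)

end Cfsg.Agent.S2409
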