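import Cfsg.Agent.H920.PlusA
import Cfsg.Agent.H921.SympDim
import Cfsg.Agent.H932.TensAlt
import Cfsg.Agent.H919.AschWreathForm4
import Cfsg.Agent.H924.TensorTwo
import Cfsg.Agent.H926.EvenA
import Cfsg.Agent.H922.OddPerp
import Cfsg.Agent.H926.Sub1
import Cfsg.Statements.S5826
import Cfsg.Agent.H925.OrthNot
set_option linter.all false

-- part: H920/PlusB
section
/-!
# Extraspecial `2`-groups of isometries force plus type

* `plus_of_anticomm`: isometries `x, y` of `Q` with `x² = 1`, `y x = - x y`, `4 ∣ n`, odd characteristic: plus type.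
* `plus_of_symplecticType`: `R ≤ O(Q)` absolutely irreducible of symplectic type, `|R| > 8`: plus type.
-/

set_option autoImplicit false

namespace Cfsg.Agent.H920

open QuadraticMap Matrix

section

variable {ι : Type} [Fintype ι] [DecidableEq ι] {F : Type*} [Field F]

theorem plus_of_anticomm [Fintype F] {Q : (ι → F) → F} (hQ : Geo.IsNondegenerateQuadraticForm Q) (h2 : (2 : F) ≠ 0)
    (h4 : 4 ∣ Fintype.card ι) {x y : GL ι F} (hx : x ∈ Cfsg.isometryGroup F Q) (hy : y ∈ Cfsg.isometryGroup F Q)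
    (hxx : x * x = 1) (hxy : (y : Matrix ι ι F) * (x : Matrix ι ι F) = - ((x : Matrix ι ι F) * (y : Matrix ι ι F))) :
    Geo.IsPlusTypeOn Q ⊤ := by
  have hxx' : ∀ v, (x : Matrix ι ι F) *ᵥ ((x : Matrix ι ι F) *ᵥ v) = v := by
    intro v
    rw [Matrix.mulVec_mulVec, ← Units.val_mul, hxx, Units.val_one, Matrix.one_mulVec]
  have hxy' : ∀ v, (x : Matrix ι ι F) *ᵥ ((y : Matrix ι ι F) *ᵥ v) =
      - ((y : Matrix ι ι F) *ᵥ ((x : Matrix ι ι F) *ᵥ v)) := by
    intro v
    rw [Matrix.mulVec_mulVec, Matrix.mulVec_mulVec, hxy, Matrix.neg_mulVec, neg_neg]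
  let D0 : Submodule F (ι → F) := LinearMap.ker (Matrix.toLin' (x : Matrix ι ι F) - LinearMap.id)
  have hD0 : ∀ v, v ∈ D0 ↔ (x : Matrix ι ι F) *ᵥ v = v := by
    intro v
    rw [LinearMap.mem_ker, LinearMap.sub_apply, Matrix.toLin'_apply, LinearMap.id_apply, sub_eq_zero]
  let yl : (ι → F) →ₗ[F] (ι → F) := Matrix.toLin' (y : Matrix ι ι F)
  have hyl : ∀ v, yl v = (y : Matrix ι ι F) *ᵥ v := fun v => Matrix.toLin'_apply _ _
  have hyinj : Function.Injective yl := by
    intro a b hab
    rw [hyl, hyl] at hab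
    have := congrArg (fun v => ((y⁻¹ : GL ι F) : Matrix ι ι F) *ᵥ v) hab
    simpa [Matrix.mulVec_mulVec, ← Units.val_mul] using this
  let D1 : Submodule F (ι → F) := D0.map yl
  have hD1 : ∀ v, v ∈ D1 ↔ (x : Matrix ι ι F) *ᵥ v = - v := by
    intro v
    constructor
    · rintro ⟨w, hw, rfl⟩
      rw [hyl, hxy', (hD0 w).1 hw]
    · intro hv
      refine ⟨((y⁻¹ : GL ι F) : Matrix ι ι F) *ᵥ v, ?_, ?_⟩
      · apply (hD0 _).2
        apply hyinj
        have h1 : (y : Matrix ι ι F) *ᵥ (((y⁻¹ : GL ι F) : Matrix ι ι F) *ᵥ v) = v := by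
          rw [Matrix.mulVec_mulVec, ← Units.val_mul]; simp
        have h3 := hxy' (((y⁻¹ : GL ι F) : Matrix ι ι F) *ᵥ v)
        rw [h1, hv] at h3
        rw [hyl, hyl, h1]
        exact (neg_injective h3).symm
      · rw [hyl, Matrix.mulVec_mulVec, ← Units.val_mul]; simp
  have hinf : D0 ⊓ D1 = ⊥ := by
    rw [eq_bot_iff]
    rintro v ⟨h1, h3⟩
    have e1 := (hD0 v).1 h1
    have e2 := (hD1 v).1 h3
    rw [e1] at e2
    have e3 : (2 : F) • v = 0 := by
      rw [two_smul]; nth_rewrite 1 [e2]; exact neg_add_cancel v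
    exact (smul_eq_zero.1 e3).resolve_left h2
  have hsup : D0 ⊔ D1 = ⊤ := by
    rw [eq_top_iff]
    intro v _
    have e : v = (2 : F)⁻¹ • (v + (x : Matrix ι ι F) *ᵥ v) + (2 : F)⁻¹ • (v - (x : Matrix ι ι F) *ᵥ v) := by
      rw [← smul_add, add_add_sub_cancel, ← two_smul F v, smul_smul, inv_mul_cancel₀ h2, one_smul]
    rw [e]
    apply Submodule.add_mem_sup
    · apply Submodule.smul_mem
      rw [hD0, Matrix.mulVec_add, hxx', add_comm]
    · apply Submodule.smul_mem
      rw [hD1, Matrix.mulVec_sub, hxx', neg_sub]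
  have hfr1 : Module.finrank F D1 = Module.finrank F D0 := (LinearEquiv.finrank_eq (Submodule.equivMapOfInjective yl hyinj D0)).symm
  have hfr : 2 * Module.finrank F D0 = Fintype.card ι := by
    have h := Submodule.finrank_sup_add_finrank_inf_eq D0 D1
    rw [hinf, hsup, finrank_top, finrank_bot, Module.finrank_fintype_fun_eq_card, hfr1] at h
    omega
  have hort : ∀ u ∈ D0, ∀ v ∈ D1, polar Q u v = 0 := by
    intro u hu v hv
    have h1 := H925.polar_iso hx u v
    rw [(hD0 u).1 hu, (hD1 v).1 hv] at h1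
    have h3 : polar Q u (-v) = - polar Q u v := by
      have := hQ.polar_bilinear.smul_right (-1) u v
      rwa [neg_one_smul, neg_one_mul] at this
    rw [h3] at h1
    have h5 : (2 : F) * polar Q u v = 0 := by linear_combination -h1
    exact (mul_eq_zero.1 h5).resolve_left h2
  let q : QuadraticForm F D0 := (H925.qf hQ).comp D0.subtype
  have hnd : ∀ w, (∀ x, polar q w x = 0) → w = 0 := by
    intro w hw
    by_contra hne
    obtain ⟨u, hu⟩ := (hQ.nondegenerate (w : ι → F) (fun h => hne (Subtype.ext h))).2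
    obtain ⟨a, ha, b, hb, rfl⟩ := Submodule.mem_sup.1 (by rw [hsup]; trivial : u ∈ D0 ⊔ D1)
    apply hu
    rw [hQ.polar_bilinear.add_right, hort w w.2 b hb, add_zero]
    exact hw ⟨a, ha⟩
  obtain ⟨k, hk⟩ := h4
  obtain ⟨U, hU, hU'⟩ := ts_two_mul (s := 1) (H925.qf hQ) q hnd
    (exists_anti_even q hnd ⟨k, by omega⟩)
    (fun p => if p.2 = 0 then D0.subtype else yl.comp D0.subtype)
    (by
      rintro ⟨i, j⟩ w
      dsimp only
      split_ifs with h
      · rfl
      · show Q (yl w) = Q w
        rw [hyl]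
        exact H925.mem_iso_iff.1 hy w)
    (by
      rintro ⟨i, j⟩ ⟨i', j'⟩ hij u v
      dsimp only
      have hii : i = i' := Subsingleton.elim _ _
      have hjj : j ≠ j' := fun h => hij (by rw [hii, h])
      split_ifs with h h' h'
      · exact absurd (h.trans h'.symm) hjj
      · exact hort _ u.2 _ ⟨v, v.2, rfl⟩
      · rw [polar_comm]
        exact hort _ v.2 _ ⟨u, u.2, rfl⟩
      · exfalso; apply hjj
        fin_cases j <;> fin_cases j' <;> simp_all)
  refine ⟨U, le_top, hU, ?_⟩
  rw [hU', finrank_top, Module.finrank_fintype_fun_eq_card, ← hfr]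
  ring

/-- A group with `x² ∈ {1, z}`, `[x, y] ∈ {1, z}` for all `x, y`, centre of order two and more than eight elements
has a noncentral element of order two. -/
theorem exists_noncentral_involution {R : Type*} [Group R] [Finite R] {z : R} (hzc : z ∈ Subgroup.center R)
    (hz2 : z * z = 1) (hcomm : ∀ x y : R, x * y * x⁻¹ * y⁻¹ = 1 ∨ x * y * x⁻¹ * y⁻¹ = z)
    (hsq : ∀ x : R, x * x = 1 ∨ x * x = z) (hZ : Nat.card (Subgroup.center R) = 2) (hR : 8 < Nat.card R) :
    ∃ x : R, x ∉ Subgroup.center R ∧ x * x = 1 := by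
  classical
  by_contra hcon
  push Not at hcon
  have hsq' : ∀ x : R, x ∉ Subgroup.center R → x * x = z := fun x hx => (hsq x).resolve_left (hcon x hx)
  -- a noncentral element
  have hne : ∃ x₀ : R, x₀ ∉ Subgroup.center R := by
    by_contra h
    push Not at h
    have : Subgroup.center R = ⊤ := by rw [eq_top_iff]; exact fun x _ => h x
    rw [this, Subgroup.card_top] at hZ
    omega
  obtain ⟨x₀, hx₀⟩ := hne
  have hx₀z := hsq' x₀ hx₀
  have hzx : ∀ g : R, z * g = g * z := fun g => ((Subgroup.mem_center_iff.1 hzc) g).symm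
  -- the centraliser
  let C : Set R := {y | x₀ * y = y * x₀}
  have hC : ∀ y ∈ C, y ∈ Subgroup.center R ∨ x₀ * y ∈ Subgroup.center R := by
    intro y hy
    by_contra h
    push Not at h
    have h1 := hsq' y h.1
    have h2 := hsq' (x₀ * y) h.2
    have hy' : x₀ * y = y * x₀ := hy
    have h3 : x₀ * y * (x₀ * y) = 1 := by
      calc x₀ * y * (x₀ * y) = x₀ * (y * x₀) * y := by group
        _ = x₀ * (x₀ * y) * y := by rw [hy']
        _ = (x₀ * x₀) * (y * y) := by group
        _ = 1 := by rw [hx₀z, h1, hz2]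
    rw [h3] at h2
    -- `z = 1`
    have h4 : x₀ * x₀ = 1 := by rw [hx₀z, ← h2]
    exact hcon x₀ hx₀ h4
  have hcard1 : Nat.card C ≤ 4 := by
    let f : C → Bool × Subgroup.center R := fun y =>
      if h : (y : R) ∈ Subgroup.center R then (true, ⟨y, h⟩)
      else (false, ⟨x₀ * y, (hC y y.2).resolve_left h⟩)
    have hf : Function.Injective f := by
      intro a b hab
      by_cases ha : (a : R) ∈ Subgroup.center R <;> by_cases hb : (b : R) ∈ Subgroup.center R <;>
        simp only [f, ha, hb, dif_pos, dif_neg, not_false_iff, Prod.mk.injEq, Subtype.mk.injEq, reduceCtorEq,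
          false_and, true_and, mul_right_inj] at hab
      · exact Subtype.ext hab
      · exact Subtype.ext hab
    have h := Nat.card_le_card_of_injective f hf
    rw [Nat.card_prod, hZ] at h
    simpa using h
  have hcard2 : Nat.card R ≤ 2 * Nat.card C := by
    by_cases hall : ∀ y : R, y ∈ C
    · have : Nat.card R = Nat.card C := (Nat.card_congr (Equiv.subtypeUnivEquiv hall)).symm
      omega
    · push Not at hall
      obtain ⟨y₀, hy₀⟩ := hall
      have hcz : ∀ y : R, y ∉ C → x₀ * y = z * (y * x₀) := by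
        intro y hy
        rcases hcomm x₀ y with h | h
        · exfalso; apply hy
          show x₀ * y = y * x₀
          calc x₀ * y = (x₀ * y * x₀⁻¹ * y⁻¹) * (y * x₀) := by group
            _ = y * x₀ := by rw [h, one_mul]
        · calc x₀ * y = (x₀ * y * x₀⁻¹ * y⁻¹) * (y * x₀) := by group
            _ = z * (y * x₀) := by rw [h]
      have hmem : ∀ y : R, y ∉ C → y₀⁻¹ * y ∈ C := by
        intro y hy
        show x₀ * (y₀⁻¹ * y) = y₀⁻¹ * y * x₀
        have h1 := hcz y hy
        have h2 := hcz y₀ hy₀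
        have h3 : y₀ * (x₀ * (y₀⁻¹ * y)) = y₀ * (y₀⁻¹ * y * x₀) := by
          have h4 : y₀ * x₀ = z⁻¹ * (x₀ * y₀) := by rw [h2]; group
          calc y₀ * (x₀ * (y₀⁻¹ * y)) = (y₀ * x₀) * (y₀⁻¹ * y) := by group
            _ = z⁻¹ * (x₀ * y₀) * (y₀⁻¹ * y) := by rw [h4]
            _ = z⁻¹ * (x₀ * y) := by group
            _ = y * x₀ := by rw [h1]; group
            _ = y₀ * (y₀⁻¹ * y * x₀) := by group
        exact mul_left_cancel h3
      let f : R → Bool × C := fun y => if h : y ∈ C then (true, ⟨y, h⟩) else (false, ⟨y₀⁻¹ * y, hmem y h⟩)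
      have hf : Function.Injective f := by
        intro a b hab
        by_cases ha : a ∈ C <;> by_cases hb : b ∈ C <;>
          simp only [f, ha, hb, dif_pos, dif_neg, not_false_iff, Prod.mk.injEq, Subtype.mk.injEq, reduceCtorEq,
            false_and, true_and, mul_right_inj] at hab
        · exact hab
        · exact hab
      have h := Nat.card_le_card_of_injective f hf
      rw [Nat.card_prod] at h
      simpa using h
  omega

/-- An absolutely irreducible group of isometries of symplectic type with more than eight elements modulo a small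
centre: the quadratic form has plus type. -/
theorem plus_of_symplecticType [Fintype F] {Q : (ι → F) → F} (hQ : Geo.IsNondegenerateQuadraticForm Q)
    (h2 : (2 : F) ≠ 0) (h4 : 4 ∣ Fintype.card ι) (h0 : 0 < Fintype.card ι) {R : Subgroup (GL ι F)}
    (hR : R ≤ Cfsg.isometryGroup F Q)
    (habs : Geo.ActsAbsolutelyIrreducibly (Geo.matrixSet R)) (hS : Geo.IsSymplecticTypeGroup 2 R)
    (hev : Even (Nat.card (Subgroup.center R))) (hbig : 8 < Nat.card R) : Geo.IsPlusTypeOn Q ⊤ := by
  have : Nonempty ι := Fintype.card_pos_iff.1 h0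
  have hfin : Finite R := by classical infer_instance
  -- a nonsingular vector
  obtain ⟨v₀, hv₀⟩ : ∃ v, Q v ≠ 0 := by
    by_contra h
    push Not at h
    obtain ⟨v, hv⟩ := exists_ne (0 : ι → F)
    obtain ⟨u, hu⟩ := (hQ.nondegenerate v hv).2
    apply hu
    rw [polar, h, h, h]; ring
  -- the centre
  have hcen : ∀ z : R, z ∈ Subgroup.center R → z = 1 ∨ ((z : GL ι F) : Matrix ι ι F) = -1 := by
    intro z hz
    obtain ⟨c, hc⟩ := H921.center_scalar habs z hz
    have h1 := H925.mem_iso_iff.1 (hR z.2) v₀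
    rw [hc, Matrix.smul_mulVec, Matrix.one_mulVec, hQ.smul] at h1
    have h3 : c ^ 2 = 1 := mul_right_cancel₀ hv₀ (by rw [h1, one_mul])
    rcases mul_self_eq_one_iff.1 (by rwa [pow_two] at h3) with h | h
    · left
      apply Subtype.ext
      apply Units.ext
      rw [hc, h, one_smul]; rfl
    · right
      rw [hc, h, neg_one_smul]
  have hpos : 0 < Nat.card (Subgroup.center R) := Nat.card_pos
  obtain ⟨⟨z, hzc⟩, hz⟩ := exists_prime_orderOf_dvd_card' (G := Subgroup.center R) 2 hev.two_dvd
  have hzo : orderOf z = 2 := by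
    rw [← hz]; exact (Subgroup.orderOf_mk z hzc).symm
  have hz1 : z ≠ 1 := by
    rintro rfl; rw [orderOf_one] at hzo; exact absurd hzo (by norm_num)
  have hzz : z * z = 1 := by rw [← pow_two, ← hzo, pow_orderOf_eq_one]
  have hzm : ((z : GL ι F) : Matrix ι ι F) = -1 := (hcen z hzc).resolve_left hz1
  have hcard : Nat.card (Subgroup.center R) = 2 := by
    have hset : ((Subgroup.center R : Subgroup R) : Set R) = {1, z} := by
      ext w
      simp only [SetLike.mem_coe, Set.mem_insert_iff, Set.mem_singleton_iff]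
      constructor
      · intro hw
        rcases hcen w hw with h | h
        · exact Or.inl h
        · right
          apply Subtype.ext
          apply Units.ext
          rw [h, hzm]
      · rintro (rfl | rfl)
        · exact Subgroup.one_mem _
        · exact hzc
    have : Nat.card (Subgroup.center R) = ((Subgroup.center R : Subgroup R) : Set R).ncard := rfl
    rw [this, hset, Set.ncard_pair (Ne.symm hz1)]
  have hexp : Monoid.exponent R = 4 := by rw [hS.exponent_eq]; norm_num
  have h4' : ∀ q : R, q ^ 4 = 1 := fun q => by rw [← hexp]; exact Monoid.pow_exponent_eq_one q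
  obtain ⟨hc1, hc2, -⟩ := ClassificationK.SymplecticExpFour.structure_exp_four
    ⟨hS.pGroup, hS.cyclic_of_characteristic⟩ h4' hzo hzc
  obtain ⟨x, hx, hxx⟩ := exists_noncentral_involution hzc hzz
    (fun x y => by simpa [commutatorElement_def] using hc1 x y) (fun x => by simpa [pow_two] using hc2 x) hcard hbig
  obtain ⟨y, hy⟩ : ∃ y : R, y * x ≠ x * y := by
    by_contra h
    push Not at h
    exact hx (Subgroup.mem_center_iff.2 h)
  have hyx : y * x = z * (x * y) := by
    rcases hc1 y x with h | h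
    · exfalso; apply hy
      rw [commutatorElement_def] at h
      calc y * x = (y * x * y⁻¹ * x⁻¹) * (x * y) := by group
        _ = x * y := by rw [h, one_mul]
    · rw [commutatorElement_def] at h
      calc y * x = (y * x * y⁻¹ * x⁻¹) * (x * y) := by group
        _ = z * (x * y) := by rw [h]
  refine plus_of_anticomm hQ h2 h4 (hR x.2) (hR y.2) ?_ ?_
  · have := congrArg Subtype.val hxx
    simpa using this
  · have := congrArg (fun w : R => ((w : GL ι F) : Matrix ι ι F)) hyx
    simp only [Subgroup.coe_mul, Units.val_mul] at this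
    rw [this, hzm, neg_mul, one_mul]

end

end Cfsg.Agent.H920
end

-- part: H920/PlusC
section
/-!
# Plus type from tensor decompositions

* `plus_of_coords` : half of the columns of `P` span a totally singular subspace;
* `plus_of_tensor_two` : a tensor decomposition `2 × n₂` with alternating factors and singular pure tensors;
* `plus_of_power_two` : a tensor power of a two-dimensional alternating form, singular pure tensors.
-/

set_option autoImplicit false

namespace Cfsg.Agent.H920

open QuadraticMap Matrix Cfsg Cfsg.Geo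
open Cfsg.Agent.H919 (HermForm WreathData)

variable {ι : Type} [Fintype ι] [DecidableEq ι] {F : Type*} [Field F]

theorem plus_of_coords {Q : (ι → F) → F} (hQ : IsNondegenerateQuadraticForm Q) (P : GL ι F) (S : Finset ι)
    (hS : 2 * S.card = Fintype.card ι)
    (h1 : ∀ j ∈ S, Q ((P : Matrix ι ι F) *ᵥ Pi.single j 1) = 0)
    (h2 : ∀ j ∈ S, ∀ k ∈ S, j ≠ k →
      polar Q ((P : Matrix ι ι F) *ᵥ Pi.single j 1) ((P : Matrix ι ι F) *ᵥ Pi.single k 1) = 0) :
    IsPlusTypeOn Q ⊤ := by
  classical
  let u : S → (ι → F) := fun j => (P : Matrix ι ι F) *ᵥ Pi.single (j : ι) 1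
  have hli : LinearIndependent F u := by
    have h3 : LinearIndependent F (fun j : ι => (Pi.single j 1 : ι → F)) := by
      have := (Pi.basisFun F ι).linearIndependent
      convert this using 1
      funext j; simp
    have h4 := h3.comp (fun j : S => (j : ι)) Subtype.val_injective
    have h5 := h4.map' (Matrix.toLin' (P : Matrix ι ι F)) (by
      rw [LinearMap.ker_eq_bot]
      intro a b hab
      rw [Matrix.toLin'_apply, Matrix.toLin'_apply] at hab
      have := congrArg (fun v => ((P⁻¹ : GL ι F) : Matrix ι ι F) *ᵥ v) hab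
      simpa [Matrix.mulVec_mulVec, ← Units.val_mul] using this)
    have h6 : u = (⇑(Matrix.toLin' (P : Matrix ι ι F)) ∘ (fun j : ι => (Pi.single j 1 : ι → F)) ∘
        fun j : S => (j : ι)) := by
      funext j
      simp only [u, Function.comp_apply, Matrix.toLin'_apply]
    rw [h6]
    exact h5
  refine ⟨Submodule.span F (Set.range u), le_top, ?_, ?_⟩
  · intro w hw
    obtain ⟨c, rfl⟩ := (Submodule.mem_span_range_iff_exists_fun F).1 hw
    have := Q_sum (H925.qf hQ) Finset.univ (fun j : S => c j • u j) (by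
      intro i _ j _ hij
      have : polar Q (c i • u i) (c j • u j) = 0 := by
        rw [hQ.polar_bilinear.smul_left, hQ.polar_bilinear.smul_right, h2 i i.2 j j.2 (fun h => hij (Subtype.ext h))]
        ring
      exact this)
    have h6 : Q (∑ i, c i • u i) = ∑ i, Q (c i • u i) := this
    rw [h6]
    apply Finset.sum_eq_zero
    intro j _
    rw [hQ.smul, h1 j j.2, mul_zero]
  · rw [finrank_span_eq_card hli, finrank_top, Module.finrank_fintype_fun_eq_card, ← hS]
    simp

omit [Fintype ι] in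
theorem single_comp {κ : Type} [Fintype κ] [DecidableEq κ] (e : ι ≃ κ) (j : ι) :
    (Pi.single (e j) (1 : F) : κ → F) ∘ e = Pi.single j 1 := by
  funext i
  simp only [Function.comp_apply, Pi.single_apply, EmbeddingLike.apply_eq_iff_eq]

theorem pt_single {n₁ n₂ : ℕ} (a : Fin n₁) (b : Fin n₂) :
    (fun p : Fin n₁ × Fin n₂ => (Pi.single a (1 : F) : Fin n₁ → F) p.1 * (Pi.single b (1 : F) : Fin n₂ → F) p.2) =
      Pi.single (a, b) 1 := by
  funext ⟨x, y⟩
  simp only [Pi.single_apply, Prod.mk.injEq]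
  by_cases h1 : x = a <;> by_cases h2 : y = b <;> simp [h1, h2]

/-- A tensor decomposition `2 × n₂` with alternating first factor and singular pure tensors forces plus type. -/
theorem plus_of_tensor_two {Q : (ι → F) → F} (hQ : IsNondegenerateQuadraticForm Q) {n₂ : ℕ} {ε₁ ε₂ : F}
    {f₁ : (Fin 2 → F) → (Fin 2 → F) → F} {f₂ : (Fin n₂ → F) → (Fin n₂ → F) → F}
    (h1 : HermForm (RingEquiv.refl F) ε₁ f₁) (h2 : HermForm (RingEquiv.refl F) ε₂ f₂)
    (halt : ∀ w, f₁ w w = 0) {e : ι ≃ Fin 2 × Fin n₂} {P : GL ι F}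
    (h : IsTensorFormStructure (RingEquiv.refl F) (polar Q) f₁ f₂ e P)
    (hpure : ∀ (v : Fin 2 → F) (w : Fin n₂ → F),
      Q ((P : Matrix ι ι F) *ᵥ ((fun a : Fin 2 × Fin n₂ => v a.1 * w a.2) ∘ e)) = 0) : IsPlusTypeOn Q ⊤ := by
  classical
  have hcol : ∀ j : ι, (P : Matrix ι ι F) *ᵥ Pi.single j 1 = (P : Matrix ι ι F) *ᵥ
      ((fun a : Fin 2 × Fin n₂ => (Pi.single (e j).1 (1 : F) : Fin 2 → F) a.1 *
        (Pi.single (e j).2 (1 : F) : Fin n₂ → F) a.2) ∘ e) := by
    intro j
    rw [pt_single, single_comp]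
  obtain ⟨c, hc, hpt⟩ := H912.form_pt h1 h2 h
  refine plus_of_coords hQ P (Finset.univ.filter (fun j => (e j).1 = 0)) ?_ ?_ ?_
  · have hcard : (Finset.univ.filter (fun j => (e j).1 = 0)).card = n₂ := by
      rw [← Fintype.card_subtype]
      have e1 : {j : ι // (e j).1 = 0} ≃ Fin n₂ :=
        { toFun := fun j => (e j).2
          invFun := fun b => ⟨e.symm (0, b), by simp⟩
          left_inv := by
            rintro ⟨j, hj⟩
            apply Subtype.ext
            apply e.injective
            rw [Equiv.apply_symm_apply]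
            exact Prod.ext hj.symm rfl
          right_inv := fun b => by simp }
      rw [Fintype.card_congr e1, Fintype.card_fin]
    rw [hcard, Fintype.card_congr e, Fintype.card_prod, Fintype.card_fin, Fintype.card_fin]
  · intro j _
    rw [hcol]
    exact hpure _ _
  · intro j hj k hk _
    rw [hcol j, hcol k]
    have h3 := hpt (Pi.single (e j).1 (1 : F)) (Pi.single (e k).1 (1 : F)) (Pi.single (e j).2 (1 : F))
      (Pi.single (e k).2 (1 : F))
    have hj' := (Finset.mem_filter.1 hj).2
    have hk' := (Finset.mem_filter.1 hk).2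
    rw [hj', hk', halt] at h3
    rw [hj', hk']
    refine Eq.trans ?_ (h3.trans (by ring))
    rfl

/-- A tensor power of a two-dimensional alternating form with singular pure tensors forces plus type. -/
theorem plus_of_power_two {Q : (ι → F) → F} (hQ : IsNondegenerateQuadraticForm Q) {s : ℕ}
    {f₁ : (Fin 2 → F) → (Fin 2 → F) → F} (halt : ∀ w, f₁ w w = 0) {e : ι ≃ (Fin (s + 1) → Fin 2)} {P : GL ι F}
    (h : IsTensorPowerFormStructure id (polar Q) f₁ e P)
    (hpure : ∀ w : Fin (s + 1) → (Fin 2 → F), Q (H919.framePure e P w) = 0) : IsPlusTypeOn Q ⊤ := by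
  classical
  have hcol : ∀ j : ι, (P : Matrix ι ι F) *ᵥ Pi.single j 1 =
      H919.framePure e P (fun i => Pi.single (e j i) 1) := by
    intro j
    rw [H919.framePure, ← H919.single_eq_pureVec, single_comp]
  obtain ⟨c, hc, hpt⟩ := h
  refine plus_of_coords hQ P (Finset.univ.filter (fun j => e j 0 = 0)) ?_ ?_ ?_
  · have hcard : (Finset.univ.filter (fun j => e j 0 = 0)).card = 2 ^ s := by
      rw [← Fintype.card_subtype]
      have e1 : {j : ι // e j 0 = 0} ≃ (Fin s → Fin 2) :=
        { toFun := fun j => Fin.tail (e j)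
          invFun := fun b => ⟨e.symm (Fin.cons 0 b), by simp⟩
          left_inv := by
            rintro ⟨j, hj⟩
            apply Subtype.ext
            apply e.injective
            rw [Equiv.apply_symm_apply]
            conv_rhs => rw [← Fin.cons_self_tail (e j), hj]
          right_inv := fun b => by simp }
      rw [Fintype.card_congr e1, Fintype.card_fun, Fintype.card_fin, Fintype.card_fin]
    rw [hcard, Fintype.card_congr e, Fintype.card_fun, Fintype.card_fin, Fintype.card_fin, pow_succ, mul_comm]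
  · intro j _
    rw [hcol]
    exact hpure _
  · intro j hj k hk _
    have h3 := hpt (Pi.single (e j) 1) (Pi.single (e k) 1)
    rw [single_comp, single_comp] at h3
    rw [h3]
    have hj' := (Finset.mem_filter.1 hj).2
    have hk' := (Finset.mem_filter.1 hk).2
    rw [Finset.sum_eq_zero, mul_zero]
    intro a _
    apply Finset.sum_eq_zero
    intro b _
    by_cases ha : a = e j
    · by_cases hb : b = e k
      · have h4 : gramMatrix f₁ (a 0) (b 0) = 0 := by
          rw [ha, hb, hj', hk']
          exact halt _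
        rw [Finset.prod_eq_zero (Finset.mem_univ 0) h4, mul_zero, zero_mul]
      · rw [id, Pi.single_eq_of_ne hb, mul_zero]
    · rw [Pi.single_eq_of_ne ha, zero_mul, zero_mul]

end Cfsg.Agent.H920
end

-- part: H920/MinusA
section
/-!
# Reducible maximal subgroups in even dimension: small fields
-/

set_option autoImplicit false

namespace Cfsg.Agent.H920

open QuadraticMap Matrix Cfsg Cfsg.Geo
open Cfsg.Agent.H919 (HermForm WreathData)

variable {ι : Type} [Fintype ι] [DecidableEq ι] {F : Type*} [Field F]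

/-- Over the field with two elements a nondegenerate plane of plus type has a unique nonsingular vector. -/
theorem exists_unique_nonsingular [Fintype F] (h2 : Fintype.card F = 2) {Q : (ι → F) → F}
    (hQ : IsNondegenerateQuadraticForm Q) {W : Submodule F (ι → F)} (hW : IsNondegenerateOn (polar Q) W)
    (hdim : Module.finrank F W = 2) (hplus : IsPlusTypeOn Q W) :
    ∃ v ∈ W, Q v ≠ 0 ∧ ∀ w ∈ W, Q w ≠ 0 → w = v := by
  obtain ⟨U, hUW, hU, hU2⟩ := hplus
  have hU1 : Module.finrank F U = 1 := by omega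
  obtain ⟨⟨e, heU⟩, he0, -⟩ := finrank_eq_one_iff'.1 hU1
  have he0' : e ≠ 0 := fun h => he0 (Subtype.ext h)
  have heW := hUW heU
  have hQe : Q e = 0 := hU e heU
  obtain ⟨x, hxW, hx⟩ := (hW e heW he0').2
  have hx1 : polar Q e x = 1 := (H932.eq_zero_or_one h2 _).resolve_left hx
  have h20 : (2 : F) = 0 := by
    have := FiniteField.cast_card_eq_zero F
    rw [h2] at this
    exact_mod_cast this
  -- `e, x` span `W`
  have hspan : ∀ w ∈ W, ∃ a b : F, w = a • e + b • x := by
    have hli : LinearIndependent F ![(⟨e, heW⟩ : W), ⟨x, hxW⟩] := by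
      rw [LinearIndependent.pair_iff]
      intro a b hab
      have h3 : a • e + b • x = 0 := congrArg Subtype.val hab
      have h4 : b = 0 := by
        have h5 : polar Q e (a • e + b • x) = b := by
          rw [hQ.polar_bilinear.add_right, hQ.polar_bilinear.smul_right, hQ.polar_bilinear.smul_right,
            H925.polar_self hQ, hQe, hx1]; ring
        rw [h3] at h5
        have h6 : polar Q e 0 = 0 := by
          have := hQ.polar_bilinear.smul_right 0 e e
          rwa [zero_smul, zero_mul] at this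
        rw [← h5, h6]
      rw [h4, zero_smul, add_zero] at h3
      exact ⟨(smul_eq_zero.1 h3).resolve_right he0', h4⟩
    have htop := hli.span_eq_top_of_card_eq_finrank' (by rw [Fintype.card_fin, hdim])
    intro w hw
    have h3 : (⟨w, hw⟩ : W) ∈ Submodule.span F (Set.range ![(⟨e, heW⟩ : W), ⟨x, hxW⟩]) := by
      rw [htop]; trivial
    rw [Matrix.range_cons, Matrix.range_cons, Matrix.range_empty, Set.union_empty, Set.singleton_union,
      Submodule.mem_span_pair] at h3
    obtain ⟨a, b, hab⟩ := h3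
    exact ⟨a, b, (congrArg Subtype.val hab).symm⟩
  have hval : ∀ a b : F, Q (a • e + b • x) = b ^ 2 * Q x + a * b := by
    intro a b
    rw [H925.Q_add' hQ, hQ.smul, hQ.smul, hQe, hQ.polar_bilinear.smul_left, hQ.polar_bilinear.smul_right, hx1]
    ring
  have h11 : (1 : F) + 1 = 0 := by rw [one_add_one_eq_two]; exact h20
  rcases H932.eq_zero_or_one h2 (Q x) with hqx | hqx
  · refine ⟨(1 : F) • e + (1 : F) • x, W.add_mem (W.smul_mem _ heW) (W.smul_mem _ hxW), ?_, ?_⟩
    · rw [hval, hqx]; simp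
    · intro w hw hw0
      obtain ⟨a, b, rfl⟩ := hspan w hw
      rw [hval, hqx] at hw0
      rcases H932.eq_zero_or_one h2 a with rfl | rfl <;> rcases H932.eq_zero_or_one h2 b with rfl | rfl <;>
        simp at hw0 ⊢
  · refine ⟨(0 : F) • e + (1 : F) • x, W.add_mem (W.smul_mem _ heW) (W.smul_mem _ hxW), ?_, ?_⟩
    · rw [hval, hqx]; simp
    · intro w hw hw0
      obtain ⟨a, b, rfl⟩ := hspan w hw
      rw [hval, hqx] at hw0
      rcases H932.eq_zero_or_one h2 a with rfl | rfl <;> rcases H932.eq_zero_or_one h2 b with rfl | rfl <;>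
        simp [h11] at hw0 ⊢

/-- Over the field with two elements the stabiliser of a plane of plus type fixes a nonsingular vector. -/
theorem plus_plane_le_two [Fintype F] (h2 : Fintype.card F = 2) {Q : (ι → F) → F}
    (hQ : IsNondegenerateQuadraticForm Q) {W : Submodule F (ι → F)} (hW : IsNondegenerateOn (polar Q) W)
    (hdim : Module.finrank F W = 2) (hplus : IsPlusTypeOn Q W) :
    ∃ v, Q v ≠ 0 ∧ subspaceStabilizer W ⊓ isometryGroup F Q ≤ subspaceStabilizer (Submodule.span F {v}) := by
  obtain ⟨v, hvW, hv, huniq⟩ := exists_unique_nonsingular h2 hQ hW hdim hplus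
  refine ⟨v, hv, ?_⟩
  rintro g ⟨hgW, hg⟩
  have hgv : (g : Matrix ι ι F) *ᵥ v = v :=
    huniq _ ((H925.mem_subspaceStabilizer_iff.1 hgW v).1 hvW) (by rw [H925.mem_iso_iff.1 hg]; exact hv)
  rw [H925.mem_subspaceStabilizer_iff]
  intro u
  rw [Submodule.mem_span_singleton, Submodule.mem_span_singleton]
  constructor
  · rintro ⟨c, rfl⟩
    exact ⟨c, by rw [Matrix.mulVec_smul, hgv]⟩
  · rintro ⟨c, hc⟩
    refine ⟨c, ?_⟩
    have h3 : (g : Matrix ι ι F) *ᵥ (c • v) = (g : Matrix ι ι F) *ᵥ u := by
      rw [Matrix.mulVec_smul, hgv, hc]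
    have h4 := congrArg (fun w => ((g⁻¹ : GL ι F) : Matrix ι ι F) *ᵥ w) h3
    simpa [Matrix.mulVec_mulVec, ← Units.val_mul] using h4

end Cfsg.Agent.H920
end

-- part: H920/MinusB
section
/-!
# Irreducible subgroups of `O_8^-(q)`
-/

set_option autoImplicit false

namespace Cfsg.Agent.H920

open QuadraticMap Matrix Cfsg Cfsg.Geo
open Cfsg.Agent.H919 (HermForm WreathData)

section

variable {ι : Type} [Fintype ι] [DecidableEq ι] {F : Type*} [Field F]

omit [DecidableEq ι] in
theorem plus_of_halves {Q : (ι → F) → F} {m : ℕ} {D : Fin 2 → Submodule F (ι → F)} (hm : 2 * m = Fintype.card ι)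
    (hD : IsMDecomposition m D) (hs : ∀ i, IsTotallySingularQuad Q (D i)) : IsPlusTypeOn Q ⊤ :=
  ⟨D 0, le_top, hs 0, by rw [hD.finrank_eq, finrank_top, Module.finrank_fintype_fun_eq_card, hm]⟩

theorem parity_eight {t m : ℕ} (h2t : 2 ≤ t) (htm : t * m = 8) : (Even m ∧ Even t) ∨ 4 ∣ t := by
  have h3 : t ∣ 8 := ⟨m, htm.symm⟩
  have h4 : t ≤ 8 := Nat.le_of_dvd (by norm_num) h3
  have h5 : (t = 2 ∧ m = 4) ∨ t = 4 ∨ t = 8 := by
    interval_cases t <;> omega
  rcases h5 with ⟨rfl, rfl⟩ | rfl | rfl
  · left; exact ⟨⟨2, rfl⟩, ⟨1, rfl⟩⟩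
  · right; exact ⟨1, rfl⟩
  · right; exact ⟨2, rfl⟩

/-- The tensor case `2 × 4` for irreducible groups of isometries of a form of minus type. -/
theorem tensor_two_cases [Fintype F] (hcard : Fintype.card ι = 8) {Q : (ι → F) → F}
    (hQ : IsNondegenerateQuadraticForm Q) (hminus : ¬ IsPlusTypeOn Q ⊤) {H : Subgroup (GL ι F)}
    (hH : H ≤ Cfsg.isometryGroup F Q) (hirr : ActsIrreducibly (matrixSet H))
    {e : ι ≃ Fin 2 × Fin 4} {P : GL ι F} {ε : F} {f₁ : (Fin 2 → F) → (Fin 2 → F) → F}
    {f₂ : (Fin 4 → F) → (Fin 4 → F) → F} (hε : ε = 1 ∨ ε = -1)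
    (h1 : HermForm (RingEquiv.refl F) ε f₁) (h2 : HermForm (RingEquiv.refl F) ε f₂)
    (hT : IsTensorFormStructure id (polar Q) f₁ f₂ e P) (hHT : H ≤ tensorProductSubgroup 2 4 e P) :
    ∃ K : Subalgebra F (Matrix ι ι F), IsFieldSubalgebra 2 K ∧ H ≤ subalgebraNormalizer K := by
  have : Nonempty ι := Fintype.card_pos_iff.1 (by omega)
  have hiso : ∀ g ∈ H, ∀ u v, polar Q ((g : Matrix ι ι F) *ᵥ u) ((g : Matrix ι ι F) *ᵥ v) = polar Q u v :=
    fun g hg => H925.polar_iso (hH hg)
  by_cases h20 : (2 : F) = 0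
  · -- characteristic two
    exfalso
    apply hminus
    have ha2 := H912.second_alternating h20 (by norm_num) (by norm_num) h1 h2 hT hirr hHT hiso
    have ha1 := H912.second_alternating h20 (by norm_num) (by norm_num) h2 h1
      (H912.isTensorFormStructure_swap hT) hirr (by rwa [H912.tensorProductSubgroup_swap]) hiso
    exact plus_of_tensor_two hQ h1 h2 ha1 hT
      (H932.quad_pure_eq_zero hQ (by norm_num) (by norm_num) h1 h2 ha1 ha2 hT hirr hH hHT)
  rcases hε with rfl | rfl
  · -- symmetric factors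
    rcases H924.cases_of_tensor_two h20 (H925.hermForm_polar hQ) hirr hiso (by norm_num) h2 h1
      (H912.isTensorFormStructure_swap hT) (by rwa [H912.tensorProductSubgroup_swap]) with
      ⟨t, m, D, hD, hHD, htr⟩ | ⟨m, D, hD, hs, hHD⟩ | ⟨r, K, hr, hK, hadj, hHK⟩
    · exfalso
      apply hminus
      have hO := Cfsg.Agent.H922.isOrthogonalMDecomposition_of_irreducible hirr hH hD hHD
      have htm := Cfsg.Agent.H922.mul_eq_card hD.decomp
      have h2t := hD.decomp.two_le
      exact plus_of_decomposition hQ hO (parity_eight h2t (by rw [htm, hcard]))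
    · exfalso
      apply hminus
      exact plus_of_halves (Cfsg.Agent.H922.mul_eq_card hD) hD
        (H925.quad_pair hQ hH hirr (by omega) hD hs hHD)
    · have h3 := Cfsg.Agent.H912.finrank_dvd_of_fieldSub hK
      rw [hcard] at h3
      have h4 : r = 2 := (Nat.prime_dvd_prime_iff_eq hr Nat.prime_two).1
        (hr.dvd_of_dvd_pow (by simpa using h3 : r ∣ 2 ^ 3))
      subst h4
      exact ⟨K, hK, hHK⟩
  · -- alternating factors
    exfalso
    apply hminus
    have ha1 : ∀ w, f₁ w w = 0 := by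
      intro w
      have h3 := h1.herm w w
      rw [RingEquiv.refl_apply, neg_one_mul] at h3
      have h4 : (2 : F) * f₁ w w = 0 := by linear_combination h3
      exact (mul_eq_zero.1 h4).resolve_left h20
    refine plus_of_tensor_two hQ h1 h2 ha1 hT ?_
    intro v w
    obtain ⟨c, hc, hpt⟩ := H912.form_pt h1 h2 hT
    have h3 := hpt v v w w
    rw [ha1, zero_mul, mul_zero] at h3
    have h4 : 2 * Q ((P : Matrix ι ι F) *ᵥ ((fun a : Fin 2 × Fin 4 => v a.1 * w a.2) ∘ e)) = 0 := by
      rw [← H925.polar_self hQ]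
      exact h3
    exact (mul_eq_zero.1 h4).resolve_left h20

/-- Irreducible groups of isometries of a form of minus type on an eight-dimensional space. -/
theorem minus_eight_irreducible [Fintype F] (hcard : Fintype.card ι = 8) {Q : (ι → F) → F}
    (hQ : IsNondegenerateQuadraticForm Q) (hminus : ¬ IsPlusTypeOn Q ⊤) {H : Subgroup (GL ι F)}
    (hH : H ≤ Cfsg.isometryGroup F Q) (hirr : ActsIrreducibly (matrixSet H)) :
    (∃ K : Subalgebra F (Matrix ι ι F), IsFieldSubalgebra 2 K ∧ H ≤ subalgebraNormalizer K) ∨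
    (∃ (F₀ : Subfield F) (r : ℕ) (P : GL ι F) (ζ : F), F₀ ≠ ⊤ ∧ r.Prime ∧ Odd r ∧ Fintype.card F = Nat.card F₀ ^ r ∧
      ζ ≠ 0 ∧ IsQuadFormRationalStructure (fun v => ζ * Q v) F₀ P ∧ H ≤ subfieldSubgroup F₀ P) ∨
    InOrthogonalResidualClass H := by
  have : Nonempty ι := Fintype.card_pos_iff.1 (by omega)
  have hiso : ∀ g ∈ H, ∀ u v, polar Q ((g : Matrix ι ι F) *ᵥ u) ((g : Matrix ι ι F) *ᵥ v) = polar Q u v :=
    fun g hg => H925.polar_iso (hH hg)
  rcases H925.orth_irreducible_fine (by omega) hQ hH hirr with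
    ⟨t, m, D, htm, hD, hHD, htr⟩ | ⟨m, D, hm, hD, hs, hHD⟩ | ⟨r, K, hr, hdvd, hK, hadj, hHK⟩ |
    ⟨n₁, n₂, e, P, ε, f₁, f₂, h1, h2, h12, hε, hf1, hf2, hT, hHT⟩ |
    ⟨F₁, r, B, ζ, hF₁, hr, hc, hζ, hR, hHB⟩ |
    ⟨r, m, R, hRH, hnorm, hHR, habs, hS, hchar, hm, hcm, hcen, hcases, hreal⟩ | ⟨m, t, e, P, E, hmt, hw⟩ | h
  · exact absurd (plus_of_decomposition hQ hD (parity_eight hD.decomp.decomp.two_le (by rw [htm, hcard]))) hminus
  · exact absurd (plus_of_halves hm hD hs) hminus
  · left
    rw [hcard] at hdvd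
    have h4 : r = 2 := (Nat.prime_dvd_prime_iff_eq hr Nat.prime_two).1
      (hr.dvd_of_dvd_pow (by simpa using hdvd : r ∣ 2 ^ 3))
    subst h4
    exact ⟨K, hK, hHK⟩
  · left
    rw [hcard] at h12
    have h3 : n₁ ∣ 8 := ⟨n₂, h12.symm⟩
    have h4 : n₁ ≤ 8 := Nat.le_of_dvd (by norm_num) h3
    have h5 : (n₁ = 2 ∧ n₂ = 4) ∨ (n₁ = 4 ∧ n₂ = 2) := by
      interval_cases n₁ <;> omega
    rcases h5 with ⟨rfl, rfl⟩ | ⟨rfl, rfl⟩
    · exact tensor_two_cases hcard hQ hminus hH hirr hε hf1 hf2 hT hHT
    · exact tensor_two_cases hcard hQ hminus hH hirr hε hf2 hf1 (H912.isTensorFormStructure_swap hT)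
        (by rwa [H912.tensorProductSubgroup_swap])
  · right; left
    have hRat := H926.quadRational_of_formRational hQ (by omega) hH hirr hHB hζ hR
    rw [Nat.card_eq_fintype_card] at hc
    refine ⟨F₁, r, B, ζ, hF₁, hr, ?_, hc, hζ, hRat, hHB⟩
    rcases hr.eq_two_or_odd' with h | h
    · subst h
      exact absurd (H926.plusType_of_index_two hQ ⟨4, by rw [hcard]⟩ hc hζ hRat) hminus
    · exact h
  · exfalso
    have h4 : r = 2 := by
      have h5 : r ∣ 8 := by rw [← hcard, hcm]; exact dvd_pow_self r (by omega)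
      exact (Nat.prime_dvd_prime_iff_eq hS.prime Nat.prime_two).1
        (hS.prime.dvd_of_dvd_pow (by simpa using h5 : r ∣ 2 ^ 3))
    subst h4
    have h2 : (2 : F) ≠ 0 := by
      intro h20
      apply hchar
      have hd : ringChar F ∣ 2 := (ringChar.spec F 2).1 (by exact_mod_cast h20)
      exact ((Nat.dvd_prime Nat.prime_two).1 hd).resolve_left (CharP.ringChar_ne_one)
    have hm3 : m = 3 := by
      rw [hcard] at hcm
      exact Nat.pow_right_injective le_rfl (show 2 ^ m = 2 ^ 3 by rw [← hcm])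
    subst hm3
    apply hminus
    rcases hcases with ⟨ho, -⟩ | ⟨-, hz, hc⟩ | ⟨-, hz, hc⟩
    · exact absurd ho (by decide)
    · exact plus_of_symplecticType hQ h2 (by rw [hcard]; norm_num) (by omega) (hRH.trans hH) habs hS
        (by rw [hz]; decide) (by rw [hc]; norm_num)
    · exact plus_of_symplecticType hQ h2 (by rw [hcard]; norm_num) (by omega) (hRH.trans hH) habs hS
        (by rw [hz]; decide) (by rw [hc]; norm_num)
  · exfalso
    have h2m := hw.two_le_m
    have h2t := hw.two_le_t
    have h5 : m = 2 ∧ t = 3 := by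
      rw [hcard] at hmt
      have ht : t < 4 := by
        by_contra h
        have h6 := Nat.pow_le_pow_right (n := m) (by omega) (not_lt.1 h)
        have h7 : 2 ^ 4 ≤ m ^ 4 := Nat.pow_le_pow_left h2m 4
        omega
      have hm : m < 3 := by
        by_contra h
        have h6 := Nat.pow_le_pow_right (n := m) (by omega) h2t
        have h7 : 3 ^ 2 ≤ m ^ 2 := Nat.pow_le_pow_left (not_lt.1 h) 2
        omega
      have hm2 : m = 2 := by omega
      subst hm2
      refine ⟨rfl, ?_⟩
      interval_cases t <;> simp_all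
    obtain ⟨rfl, rfl⟩ := h5
    by_cases h20 : (2 : F) = 0
    · obtain ⟨P', f₁, hw', hsymp, hpow, hpure⟩ := H919.C7_quad_even hQ h20
        (fun g hg v => H925.mem_iso_iff.1 (hH hg) v) hw
      exact hminus (plus_of_power_two hQ hsymp.alternating hpow hpure)
    · have hsym : IsSymmetricForm (polar Q) :=
        ⟨hQ.polar_bilinear, fun u v => polar_comm Q u v, hQ.nondegenerate⟩
      obtain ⟨P', f₁, hw', hf₁, hpow, -, hinv⟩ := H919.C7_orth_odd hsym h20 hiso hw
      rcases hf₁ with hf₁ | ⟨-, ht⟩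
      · have halt := H919.WreathData.two_alternating hw' 0 hf₁.bilinear (hinv 0)
        have hzero : ∀ u v, f₁ u v = 0 := by
          intro u v
          have h3 := halt (u + v)
          rw [hf₁.bilinear.add_left, hf₁.bilinear.add_right, hf₁.bilinear.add_right, halt, halt,
            hf₁.symm v u] at h3
          have h4 : (2 : F) * f₁ u v = 0 := by linear_combination h3
          exact (mul_eq_zero.1 h4).resolve_left h20
        obtain ⟨v, hv⟩ := exists_ne (0 : Fin 2 → F)
        obtain ⟨w, hw0⟩ := (hf₁.nondegenerate v hv).1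
        exact hw0 (hzero _ _)
      · exact absurd ht (by decide)
  · exact Or.inr (Or.inr h)

end

end Cfsg.Agent.H920
end

-- part: S5826
section
set_option autoImplicit false
open Cfsg

namespace Cfsg.Agent.S5826

/-- Every maximal subgroup of Ω_8^-(q) is of one of the listed geometric types or lies in the residual class. Let F be a finite field with q elements, Q a non-degenerate quadratic form on F^8 of minus type (no totally singular 4-space), Ω the commutator subgroup of its isometry group, and H a maximal subgroup of Ω (inside GL_8(F)). Then H is the intersection with Ω of one of: the stabiliser of a non-zero totally singular subspace; for q odd, the stabiliser of a non-degenerate subspace of odd dimension; the stabiliser of a non-degenerate 2-space of minus type; for q ≥ 4, the stabiliser of a non-degenerate 2-space of plus type; the stabiliser of a non-degenerate 4-space; for q even, the stabiliser of the span of a non-singular vector; the normaliser of a degree-2 subfield of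 the matrix algebra; a subfield group of odd prime index whose F₀-structure carries a non-zero multiple of Q — or else H lies in the residual class of the orthogonal case (modulo scalars H is almost simple, with absolutely irreducible perfect socle preimage realisable over no proper subfield and fixing no non-degenerate unitary form). -/
theorem result {F : Type*} [Field F] [Fintype F] (Q : (Fin 8 → F) → F) (hQ : Cfsg.Geo.IsNondegenerateQuadraticForm Q) (hminus : ¬ Cfsg.Geo.IsPlusTypeOn Q ⊤) (H : Subgroup (Matrix.GeneralLinearGroup (Fin 8) F)) (hH : Cfsg.Geo.IsMaximalIn (Cfsg.Geo.omegaGL Q) H) :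
    (∃ W : Submodule F (Fin 8 → F), W ≠ ⊥ ∧ Cfsg.Geo.IsTotallySingularQuad Q W ∧ H = Cfsg.Geo.subspaceStabilizer W ⊓ Cfsg.Geo.omegaGL Q) ∨
    (Odd (Fintype.card F) ∧ ∃ W : Submodule F (Fin 8 → F), W ≠ ⊥ ∧ W ≠ ⊤ ∧ Odd (Module.finrank F W) ∧ Cfsg.Geo.IsNondegenerateOn (QuadraticMap.polar Q) W ∧ H = Cfsg.Geo.subspaceStabilizer W ⊓ Cfsg.Geo.omegaGL Q) ∨
    (∃ W : Submodule F (Fin 8 → F), Module.finrank F W = 2 ∧ Cfsg.Geo.IsNondegenerateOn (QuadraticMap.polar Q) W ∧ ¬ Cfsg.Geo.IsPlusTypeOn Q W ∧ H = Cfsg.Geo.subspaceStabilizer W ⊓ Cfsg.Geo.omegaGL Q) ∨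
    (4 ≤ Fintype.card F ∧ ∃ W : Submodule F (Fin 8 → F), Module.finrank F W = 2 ∧ Cfsg.Geo.IsNondegenerateOn (QuadraticMap.polar Q) W ∧ Cfsg.Geo.IsPlusTypeOn Q W ∧ H = Cfsg.Geo.subspaceStabilizer W ⊓ Cfsg.Geo.omegaGL Q) ∨
    (∃ W : Submodule F (Fin 8 → F), Module.finrank F W = 4 ∧ Cfsg.Geo.IsNondegenerateOn (QuadraticMap.polar Q) W ∧ H = Cfsg.Geo.subspaceStabilizer W ⊓ Cfsg.Geo.omegaGL Q) ∨
    (¬ Odd (Fintype.card F) ∧ ∃ v : (Fin 8 → F), Q v ≠ 0 ∧ H = Cfsg.Geo.subspaceStabilizer (Submodule.span F {v}) ⊓ Cfsg.Geo.omegaGL Q) ∨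
    (∃ K : Subalgebra F (Matrix (Fin 8) (Fin 8) F), Cfsg.Geo.IsFieldSubalgebra 2 K ∧ H = Cfsg.Geo.subalgebraNormalizer K ⊓ Cfsg.Geo.omegaGL Q) ∨
    (∃ (F₀ : Subfield F) (r : ℕ) (P : Matrix.GeneralLinearGroup (Fin 8) F) (ζ : F), r.Prime ∧ Odd r ∧ Fintype.card F = Nat.card F₀ ^ r ∧ ζ ≠ 0 ∧ Cfsg.Geo.IsQuadFormRationalStructure (fun v : Fin 8 → F => ζ * Q v) F₀ P ∧ H = Cfsg.Geo.subfieldSubgroup F₀ P ⊓ Cfsg.Geo.omegaGL Q) ∨
    Cfsg.Geo.InOrthogonalResidualClass H := by
  have hcard : Fintype.card (Fin 8) = 8 := by simp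
  have hHO : H ≤ Cfsg.Geo.omegaGL Q := hH.1.le
  have hHI : H ≤ Cfsg.isometryGroup F Q := hHO.trans (H925.omegaGL_le_iso Q)
  have heq : ∀ M : Subgroup (Matrix.GeneralLinearGroup (Fin 8) F), H ≤ M → ¬ Cfsg.Geo.omegaGL Q ≤ M →
      H = M ⊓ Cfsg.Geo.omegaGL Q := fun M h1 h2 => H925.eq_inf_of_isMaximalIn hH h1 h2
  have hsub : ∀ W : Submodule F (Fin 8 → F), W ≠ ⊥ → W ≠ ⊤ → H ≤ Cfsg.Geo.subspaceStabilizer W →
      H = Cfsg.Geo.subspaceStabilizer W ⊓ Cfsg.Geo.omegaGL Q := fun W h0 h1 h =>
    heq _ h (H925.omegaGL_not_le_subspaceStabilizer hQ (by omega) h0 h1)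
  have htop : ∀ W : Submodule F (Fin 8 → F), Module.finrank F W < 8 → W ≠ ⊤ := by
    rintro W hW rfl
    rw [finrank_top, Module.finrank_fintype_fun_eq_card, hcard] at hW
    exact lt_irrefl _ hW
  have hbot : ∀ W : Submodule F (Fin 8 → F), 0 < Module.finrank F W → W ≠ ⊥ := by
    rintro W hW rfl
    rw [finrank_bot] at hW
    exact lt_irrefl _ hW
  have h2iff : ¬ Odd (Fintype.card F) ↔ (2 : F) = 0 := H926.card_even_iff_two_eq_zero
  by_cases hirr : Cfsg.Geo.ActsIrreducibly (Cfsg.Geo.matrixSet H)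
  · rcases H920.minus_eight_irreducible hcard hQ hminus hHI hirr with ⟨K, hK, hHK⟩ |
      ⟨F₀, r, P, ζ, hF₀, hr, ho, hc, hζ, hR, hHP⟩ | h
    · iterate 6 right
      exact Or.inl ⟨K, hK, heq _ hHK (H925.omegaGL_not_le_subalgebraNormalizer hQ (by omega) le_rfl hK)⟩
    · iterate 7 right
      exact Or.inl ⟨F₀, r, P, ζ, hr, ho, hc, hζ, hR, heq _ hHP
        (H925.omegaGL_not_le_subfieldSubgroup hQ (by omega) hF₀ P)⟩
    · iterate 8 right
      exact h
  rcases H925.reducible_cases hQ hHI hirr with ⟨W, hW0, hW, hHW⟩ | ⟨W, hW0, hW, hdim, hHW⟩ | ⟨h2, v, hv, hHv⟩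
  · refine Or.inl ⟨W, hW0, hW, hsub W hW0 (htop W ?_) hHW⟩
    have := H925.two_mul_finrank_le hQ hW
    omega
  · have hpos : 0 < Module.finrank F W := by
      rw [Module.finrank_pos_iff]
      exact Submodule.nontrivial_iff_ne_bot.2 hW0
    have hWtop := htop W (by omega)
    by_cases hodd : Odd (Module.finrank F W)
    · refine Or.inr (Or.inl ⟨?_, W, hW0, hWtop, hodd, hW, hsub W hW0 hWtop hHW⟩)
      by_contra hne
      have h2 := h2iff.1 hne
      have hev := H926.even_on hQ.polar_bilinear W (fun v _ => by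
        rw [H925.polar_self hQ, h2, zero_mul]) hW
      exact (Nat.not_even_iff_odd.2 hodd) hev
    · have h24 : Module.finrank F W = 2 ∨ Module.finrank F W = 4 := by
        rw [Nat.not_odd_iff_even] at hodd
        obtain ⟨k, hk⟩ := hodd
        omega
      rcases h24 with h2 | h4
      · by_cases hplus : Cfsg.Geo.IsPlusTypeOn Q W
        · by_cases hq : 4 ≤ Fintype.card F
          · exact Or.inr (Or.inr (Or.inr (Or.inl ⟨hq, W, h2, hW, hplus, hsub W hW0 hWtop hHW⟩)))
          · have h1q := Fintype.one_lt_card (α := F)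
            have h23 : Fintype.card F = 2 ∨ Fintype.card F = 3 := by omega
            rcases h23 with hF | hF
            · obtain ⟨v, hv, hle⟩ := H920.plus_plane_le_two hF hQ hW h2 hplus
              have hv0 : v ≠ 0 := by
                rintro rfl; exact hv (H925.Q_zero hQ)
              refine Or.inr (Or.inr (Or.inr (Or.inr (Or.inr (Or.inl ⟨?_, v, hv, ?_⟩)))))
              · rw [hF]; decide
              · refine hsub _ ?_ (htop _ ?_) ((le_inf hHW hHI).trans hle)
                · rwa [Ne, Submodule.span_singleton_eq_bot]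
                · rw [finrank_span_singleton hv0]; norm_num
            · obtain ⟨W', hd, hW', hle⟩ := H922.plus_plane_le hF hQ hW h2 hplus
              have hd' : Module.finrank F W' = 7 := by omega
              refine Or.inr (Or.inl ⟨by rw [hF]; decide, W', hbot W' (by omega), htop W' (by omega),
                by rw [hd']; decide, hW', hsub W' (hbot W' (by omega)) (htop W' (by omega))
                  ((le_inf hHW hHI).trans (hle.trans inf_le_left))⟩)
        · exact Or.inr (Or.inr (Or.inl ⟨W, h2, hW, hplus, hsub W hW0 hWtop hHW⟩))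
      · exact Or.inr (Or.inr (Or.inr (Or.inr (Or.inl ⟨W, h4, hW, hsub W hW0 hWtop hHW⟩))))
  · have hv0 : v ≠ 0 := by
      rintro rfl; exact hv (H925.Q_zero hQ)
    refine Or.inr (Or.inr (Or.inr (Or.inr (Or.inr (Or.inl ⟨h2iff.2 h2, v, hv, ?_⟩)))))
    refine hsub _ ?_ (htop _ ?_) hHv
    · rwa [Ne, Submodule.span_singleton_eq_bot]
    · rw [finrank_span_singleton hv0]; norm_num

end Cfsg.Agent.S5826
end
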