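import Cfsg.Statements.S1922
import Cfsg.Agent.AschCrit.Basic
set_option linter.all false

/-!
S1922.  `Pre G Ω z`: `G` is transitive on `Ω`, the involution `z` fixes exactly one point `a`, and for each
conjugate `z' ≠ z` of `z` commuting with `z` the product `z z'` fixes only `a`.  Then `z` is central in a
Sylow 2-subgroup: `|D| = |Ω| |D_a|` and both factors are odd, `|D_a| = |D ∩ I(a,b)|` for `a ≠ b`, and an
element `x` of `D ∩ I(a,b)` acts on this set with the only fixed point `x`.
-/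

set_option autoImplicit false
open Cfsg

namespace Cfsg.Agent.S1922

open Cfsg.Agent.TwoFusion.StronglyEmbeddedBasic
open Cfsg.Agent.AschCrit.Basic (exists_central exists_swap_conj)
open Cfsg.Agent.AschCrit.Basic.Setup (At Sw)

/-- The set-up without 2-centrality. -/
structure Pre (G Ω : Type*) [Group G] [MulAction G Ω] (z : G) : Prop where
  invol : orderOf z = 2
  nontriv : ∃ a b : Ω, a ≠ b
  trans : ∀ a b : Ω, ∃ g : G, g • a = b
  exists_fix : ∃ a : Ω, z • a = a
  fix_unique : ∀ a b : Ω, z • a = a → z • b = b → a = b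
  good : ∀ g : G, Commute z (g * z * g⁻¹) → g * z * g⁻¹ ≠ z →
    ∀ a b : Ω, z • a = a → (z * (g * z * g⁻¹)) • b = b → b = a

namespace Pre

variable {G Ω : Type*} [Group G] [MulAction G Ω] {z : G}

theorem comm (h : Pre G Ω z) (g : G) (h1 : Commute z (g * z * g⁻¹)) (h2 : g * z * g⁻¹ ≠ z)
    (c : G) (hc : Commute c (z * (g * z * g⁻¹))) (a : Ω) (ha : z • a = a) : c • a = a := by
  apply h.good g h1 h2 a (c • a) ha
  rw [smul_smul, ← hc.eq, mul_smul]
  congr 1
  have h3 : (g * z * g⁻¹) • a = a := by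
    apply h.fix_unique _ _ _ ha
    rw [smul_smul, h1.eq, mul_smul, ha]
  rw [mul_smul, h3, ha]

theorem orderOf_eq (h : Pre G Ω z) {d : G} (hd : IsConj z d) : orderOf d = 2 := by
  obtain ⟨g, hg⟩ := isConj_iff.mp hd
  rw [← hg, orderOf_conj, h.invol]

theorem mul_self (h : Pre G Ω z) {d : G} (hd : IsConj z d) : d * d = 1 :=
  mul_self_of_orderOf (h.orderOf_eq hd)

theorem inv_eq (h : Pre G Ω z) {d : G} (hd : IsConj z d) : d⁻¹ = d :=
  inv_eq_self_of_orderOf (h.orderOf_eq hd)

theorem smul_smul_self (h : Pre G Ω z) {d : G} (hd : IsConj z d) (a : Ω) : d • d • a = a := by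
  rw [smul_smul, h.mul_self hd, one_smul]

theorem conj_mem {d : G} (hd : IsConj z d) (g : G) : IsConj z (g * d * g⁻¹) :=
  hd.trans (isConj_iff.mpr ⟨g, rfl⟩)

theorem conj_mem_inv {d : G} (hd : IsConj z d) (g : G) : IsConj z (g⁻¹ * d * g) := by
  have := conj_mem hd g⁻¹
  rwa [inv_inv] at this

/-- every element of `D` fixes a point -/
theorem ex (h : Pre G Ω z) {d : G} (hd : IsConj z d) : ∃ a : Ω, d • a = a := by
  obtain ⟨g, rfl⟩ := isConj_iff.mp hd
  obtain ⟨a, ha⟩ := h.exists_fix
  exact ⟨g • a, by rw [mul_smul, mul_smul, inv_smul_smul, ha]⟩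

/-- the fixed point of an element of `D` is unique -/
theorem uniq (h : Pre G Ω z) {d : G} (hd : IsConj z d) {a b : Ω} (ha : d • a = a)
    (hb : d • b = b) : a = b := by
  obtain ⟨g, rfl⟩ := isConj_iff.mp hd
  have h1 : ∀ x : Ω, (g * z * g⁻¹) • x = x → z • (g⁻¹ • x) = g⁻¹ • x := by
    intro x hx
    rw [mul_smul, mul_smul] at hx
    exact smul_left_cancel g (by rw [hx, smul_inv_smul])
  have := h.fix_unique _ _ (h1 a ha) (h1 b hb)
  exact smul_left_cancel g⁻¹ this

/-- an element commuting with `d ∈ D` fixes the point of `d` -/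
theorem fix_of_commute (h : Pre G Ω z) {d c : G} (hd : IsConj z d) (hc : Commute c d) {a : Ω}
    (ha : d • a = a) : c • a = a := by
  refine (h.uniq hd ha ?_).symm
  rw [smul_smul, ← hc.eq, mul_smul, ha]

theorem comm' (h : Pre G Ω z) {d e c : G} (hd : IsConj z d) (he : IsConj z e)
    (hde : Commute d e) (hne : d ≠ e) (hc : Commute c (d * e)) {a : Ω} (ha : d • a = a) :
    c • a = a := by
  obtain ⟨k, rfl⟩ := isConj_iff.mp hd
  have he' : IsConj z (k⁻¹ * e * k) := conj_mem_inv he k
  obtain ⟨g, hg⟩ := isConj_iff.mp he'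
  have e1 : z = k⁻¹ * (k * z * k⁻¹) * k := by group
  have h1 : Commute z (g * z * g⁻¹) := by
    rw [hg]
    conv_lhs => rw [e1]
    show k⁻¹ * (k * z * k⁻¹) * k * (k⁻¹ * e * k) = k⁻¹ * e * k * (k⁻¹ * (k * z * k⁻¹) * k)
    calc k⁻¹ * (k * z * k⁻¹) * k * (k⁻¹ * e * k) = k⁻¹ * ((k * z * k⁻¹) * e) * k := by group
      _ = k⁻¹ * (e * (k * z * k⁻¹)) * k := by rw [hde.eq]
      _ = _ := by group
  have h2 : g * z * g⁻¹ ≠ z := by
    rw [hg]
    intro hh
    apply hne
    calc k * z * k⁻¹ = k * (k⁻¹ * e * k) * k⁻¹ := by rw [hh]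
      _ = e := by group
  have h3 : Commute (k⁻¹ * c * k) (z * (g * z * g⁻¹)) := by
    rw [hg]
    show k⁻¹ * c * k * (z * (k⁻¹ * e * k)) = z * (k⁻¹ * e * k) * (k⁻¹ * c * k)
    calc k⁻¹ * c * k * (z * (k⁻¹ * e * k)) = k⁻¹ * (c * ((k * z * k⁻¹) * e)) * k := by group
      _ = k⁻¹ * (((k * z * k⁻¹) * e) * c) * k := by rw [hc.eq]
      _ = _ := by group
  have h4 : z • (k⁻¹ • a) = k⁻¹ • a := by
    rw [mul_smul, mul_smul] at ha
    exact smul_left_cancel k (by rw [ha, smul_inv_smul])
  have := h.comm g h1 h2 _ h3 _ h4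
  rw [mul_smul, mul_smul, smul_inv_smul] at this
  exact smul_left_cancel k⁻¹ this

/-- elements of `D` at different points have product of odd order -/
theorem odd_mul [Finite G] (h : Pre G Ω z) {d e : G} (hd : IsConj z d) (he : IsConj z e)
    {a b : Ω} (ha : d • a = a) (hb : e • b = b) (hab : a ≠ b) : Odd (orderOf (d * e)) := by
  by_contra hodd
  obtain ⟨w, -, hw2, hwd, hwe, hwc⟩ :=
    exists_central d e (h.orderOf_eq hd) (h.orderOf_eq he) (orderOf_pos _) hodd
  have hdw : IsConj z (d * w) := by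
    rcases hwc with hc | hc
    · exact hd.trans hc
    · exact he.trans hc
  have hw1 : w ≠ 1 := by
    intro h1; rw [h1, orderOf_one] at hw2; exact absurd hw2 (by norm_num)
  have hcomm : Commute d (d * w) := (Commute.refl d).mul_right hwd.symm
  have hne : d ≠ d * w := by
    intro hh
    exact hw1 (by simpa using hh.symm)
  have hprod : d * (d * w) = w := by rw [← mul_assoc, h.mul_self hd, one_mul]
  have := h.comm' hd hdw hcomm hne (c := e) (by rw [hprod]; exact hwe.symm) ha
  exact hab (h.uniq he this hb)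

/-- elements of `D` at different points are swapped by an element of `D` in `⟨d, e⟩` -/
theorem exists_swap [Finite G] (h : Pre G Ω z) {d e : G} (hd : IsConj z d) (he : IsConj z e)
    {a b : Ω} (ha : d • a = a) (hb : e • b = b) (hab : a ≠ b) :
    ∃ x ∈ Subgroup.closure ({d, e} : Set G), IsConj z x ∧ x * d * x⁻¹ = e ∧ x * e * x⁻¹ = d ∧
      x • a = b ∧ x • b = a := by
  obtain ⟨j, hj, hjc, hjd, hje⟩ := exists_swap_conj d e (h.orderOf_eq hd) (h.orderOf_eq he)
    (h.odd_mul hd he ha hb hab)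
  refine ⟨j, hj, hd.trans hjc, hjd, hje, ?_, ?_⟩
  · refine h.uniq he ?_ hb
    rw [← hjd, mul_smul, mul_smul, inv_smul_smul, ha]
  · refine h.uniq hd ?_ ha
    rw [← hje, mul_smul, mul_smul, inv_smul_smul, hb]

/-- two commuting elements of `D` moving `a` cannot have a product centralising an element of
`D_a` unless they are equal -/
theorem eq_of_commute_commute (h : Pre G Ω z) {d x y : G} (hd : IsConj z d)
    (hx : IsConj z x) (hy : IsConj z y) {a : Ω} (ha : d • a = a) (hxa : x • a ≠ a)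
    (hxy : Commute x y) (hdxy : Commute d (x * y)) : x = y := by
  by_contra hne
  obtain ⟨c, hc⟩ := h.ex hx
  have := h.comm' hx hy hxy hne hdxy hc
  have hac := h.uniq hd ha this
  exact hxa (by rw [hac, hc])

/-- uniqueness of the swapping element -/
theorem eq_swap [Finite G] (h : Pre G Ω z) {d x : G} (hd : IsConj z d) (hx : IsConj z x)
    {a : Ω} (ha : d • a = a) (hxa : x • a ≠ a) {j : G} (hj : IsConj z j)
    (hjm : j ∈ Subgroup.closure ({d, x * d * x⁻¹} : Set G)) (hjd : j * d * j⁻¹ = x * d * x⁻¹) :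
    x = j := by
  have hxi := h.inv_eq hx
  have hji := h.inv_eq hj
  -- `j x` commutes with `d` and with `e = x d x`
  have h1 : Commute (j * x) d := by
    show j * x * d = d * (j * x)
    have e1 : j * (x * d * x⁻¹) * j⁻¹ = d := by
      rw [← hjd]
      calc j * (j * d * j⁻¹) * j⁻¹ = (j * j) * d * (j * j)⁻¹ := by group
        _ = d := by rw [h.mul_self hj]; group
    calc j * x * d = (j * (x * d * x⁻¹) * j⁻¹) * (j * x) := by group
      _ = d * (j * x) := by rw [e1]
  have h2 : Commute (j * x) (x * d * x⁻¹) := by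
    show j * x * (x * d * x⁻¹) = (x * d * x⁻¹) * (j * x)
    have e2 : x * (x * d * x⁻¹) * x⁻¹ = d := by
      calc x * (x * d * x⁻¹) * x⁻¹ = (x * x) * d * (x * x)⁻¹ := by group
        _ = d := by rw [h.mul_self hx]; group
    calc j * x * (x * d * x⁻¹) = j * (x * (x * d * x⁻¹) * x⁻¹) * j⁻¹ * (j * x) := by group
      _ = (j * d * j⁻¹) * (j * x) := by rw [e2]
      _ = (x * d * x⁻¹) * (j * x) := by rw [hjd]
  have h3 : Commute (j * x) j := by
    have hle : Subgroup.closure ({d, x * d * x⁻¹} : Set G) ≤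
        Subgroup.centralizer ({j * x} : Set G) := by
      rw [Subgroup.closure_le]
      rintro y (rfl | rfl)
      · rw [SetLike.mem_coe, Subgroup.mem_centralizer_singleton_iff]; exact h1.symm.eq
      · rw [SetLike.mem_coe, Subgroup.mem_centralizer_singleton_iff]; exact h2.symm.eq
    have := hle hjm
    rw [Subgroup.mem_centralizer_singleton_iff] at this
    exact (show j * (j * x) = j * x * j from this).symm
  have h4 : Commute x j := by
    have : j * x * j = j * (j * x) := h3.eq
    have h5 : x * j = j * x := by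
      have := congrArg (fun y => j⁻¹ * y) this
      simpa [mul_assoc] using this
    exact h5
  refine h.eq_of_commute_commute hd hx hj ha hxa h4 ?_
  rw [h4.eq]; exact h1.symm

/-- uniqueness of the element of `D` mapping `d` to a given element at another point -/
theorem swap_unique [Finite G] (h : Pre G Ω z) {d x y : G} (hd : IsConj z d)
    (hx : IsConj z x) (hy : IsConj z y) {a : Ω} (ha : d • a = a) (hxa : x • a ≠ a)
    (hxy : x * d * x⁻¹ = y * d * y⁻¹) : x = y := by
  have he : IsConj z (x * d * x⁻¹) := conj_mem hd x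
  have hb : (x * d * x⁻¹) • (x • a) = x • a := by
    rw [mul_smul, mul_smul, inv_smul_smul, ha]
  obtain ⟨j, hjm, hj, hjd, -, hja, -⟩ := h.exists_swap hd he ha hb (Ne.symm hxa)
  have h1 : x = j := h.eq_swap hd hx ha hxa hj hjm hjd
  have hya : y • a ≠ a := by
    have hb' : (y * d * y⁻¹) • (y • a) = y • a := by
      rw [mul_smul, mul_smul, inv_smul_smul, ha]
    rw [← hxy] at hb'
    rw [h.uniq he hb' hb]; exact hxa
  have h2 : y = j := h.eq_swap hd hy ha hya hj (by rw [← hxy]; exact hjm) (by rw [← hxy]; exact hjd)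
  rw [h1, h2]

/-! ### Counting -/

theorem Sw_symm (h : Pre G Ω z) (a b : Ω) : Sw z a b = Sw z b a := by
  ext x
  constructor
  · rintro ⟨hx, rfl⟩; exact ⟨hx, h.smul_smul_self hx a⟩
  · rintro ⟨hx, rfl⟩; exact ⟨hx, h.smul_smul_self hx b⟩

theorem conj_mem_At {a : Ω} {d : G} (g : G) (hd : d ∈ At z a) : g * d * g⁻¹ ∈ At z (g • a) :=
  ⟨conj_mem hd.1 g, by rw [mul_smul, mul_smul, inv_smul_smul, hd.2]⟩

theorem conj_mem_Sw {a b : Ω} {x : G} (g : G) (hx : x ∈ Sw z a b) :
    g * x * g⁻¹ ∈ Sw z (g • a) (g • b) :=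
  ⟨conj_mem hx.1 g, by rw [mul_smul, mul_smul, inv_smul_smul, hx.2]⟩

/-- conjugation by `g` as a bijection `D_a → D_{ga}` -/
def atEquiv (g : G) (a : Ω) : At z a ≃ At z (g • a) where
  toFun d := ⟨g * d * g⁻¹, conj_mem_At g d.2⟩
  invFun d := ⟨g⁻¹ * d * g, by
    have := conj_mem_At g⁻¹ d.2
    rwa [inv_inv, inv_smul_smul] at this⟩
  left_inv d := by ext; simp [mul_assoc]
  right_inv d := by ext; simp [mul_assoc]

theorem nonempty_At (h : Pre G Ω z) (a : Ω) : (At z a).Nonempty := by
  obtain ⟨b, hb⟩ := h.exists_fix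
  obtain ⟨g, rfl⟩ := h.trans b a
  exact ⟨g * z * g⁻¹, conj_mem_At g ⟨IsConj.refl z, hb⟩⟩

theorem card_at_eq (h : Pre G Ω z) (a b : Ω) : Nat.card (At z a) = Nat.card (At z b) := by
  obtain ⟨g, rfl⟩ := h.trans a b
  exact Nat.card_congr (atEquiv g a)

/-- two elements of `D_a` are conjugate under the stabiliser of `a` -/
theorem exists_conj_at (h : Pre G Ω z) {a : Ω} {d e : G} (hd : d ∈ At z a) (he : e ∈ At z a) :
    ∃ g : G, g • a = a ∧ g * d * g⁻¹ = e := by
  obtain ⟨g, hg⟩ := isConj_iff.mp (hd.1.symm.trans he.1)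
  refine ⟨g, ?_, hg⟩
  refine h.uniq he.1 ?_ he.2
  rw [← hg, mul_smul, mul_smul, inv_smul_smul, hd.2]

/-- the bijection `D ∩ I(a,b) → D_b`, `x ↦ x d x⁻¹` for a fixed `d ∈ D_a` -/
theorem bijective_swap [Finite G] (h : Pre G Ω z) {a b : Ω} (hab : a ≠ b) {d : G}
    (hd : d ∈ At z a) :
    Function.Bijective (fun x : Sw z a b => (⟨x.1 * d * x.1⁻¹, by
      have := conj_mem_At x.1 hd
      rwa [x.2.2] at this⟩ : At z b)) := by
  constructor
  · rintro ⟨x, hx⟩ ⟨y, hy⟩ hxy
    have hxy' : x * d * x⁻¹ = y * d * y⁻¹ := congrArg Subtype.val hxy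
    refine Subtype.ext (h.swap_unique hd.1 hx.1 hy.1 hd.2 ?_ hxy')
    rw [hx.2]; exact Ne.symm hab
  · rintro ⟨e, he⟩
    obtain ⟨x, -, hx, hxd, -, hxa, -⟩ := h.exists_swap hd.1 he.1 hd.2 he.2 hab
    exact ⟨⟨x, hx, hxa⟩, Subtype.ext hxd⟩

theorem card_swap [Finite G] (h : Pre G Ω z) {a b : Ω} (hab : a ≠ b) :
    Nat.card (Sw z a b) = Nat.card (At z a) := by
  obtain ⟨d, hd⟩ := h.nonempty_At a
  rw [Nat.card_congr (Equiv.ofBijective _ (h.bijective_swap hab hd)), h.card_at_eq b a]

theorem finite_points [Finite G] (h : Pre G Ω z) : Finite Ω := by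
  obtain ⟨a, -⟩ := h.exists_fix
  refine Finite.of_surjective (fun g : G => g • a) ?_
  intro b
  obtain ⟨g, hg⟩ := h.trans a b
  exact ⟨g, hg⟩

/-- the class `D` is the disjoint union of the `D_a` -/
noncomputable def classEquiv (h : Pre G Ω z) : {d : G // IsConj z d} ≃ Σ a : Ω, At z a where
  toFun d := ⟨(h.ex d.2).choose, d.1, d.2, (h.ex d.2).choose_spec⟩
  invFun p := ⟨p.2.1, p.2.2.1⟩
  left_inv d := rfl
  right_inv p := by
    obtain ⟨a, d, hd, hda⟩ := p
    have : (h.ex hd).choose = a := h.uniq hd (h.ex hd).choose_spec hda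
    subst this
    rfl

theorem card_class [Finite G] (h : Pre G Ω z) (a : Ω) :
    Nat.card {d : G // IsConj z d} = Nat.card Ω * Nat.card (At z a) := by
  have := h.finite_points
  have : Fintype Ω := Fintype.ofFinite Ω
  rw [Nat.card_congr h.classEquiv, Nat.card_sigma]
  rw [Finset.sum_congr rfl (fun b _ => h.card_at_eq b a), Finset.sum_const, Finset.card_univ,
    Nat.card_eq_fintype_card (α := Ω), smul_eq_mul]


theorem good' (h : Pre G Ω z) {d e : G} (hd : IsConj z d) (he : IsConj z e)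
    (hde : Commute d e) (hne : d ≠ e) {a b : Ω} (ha : d • a = a) (hb : (d * e) • b = b) :
    b = a := by
  obtain ⟨k, rfl⟩ := isConj_iff.mp hd
  have he' : IsConj z (k⁻¹ * e * k) := conj_mem_inv he k
  obtain ⟨g, hg⟩ := isConj_iff.mp he'
  have e1 : z = k⁻¹ * (k * z * k⁻¹) * k := by group
  have h1 : Commute z (g * z * g⁻¹) := by
    rw [hg]
    conv_lhs => rw [e1]
    show k⁻¹ * (k * z * k⁻¹) * k * (k⁻¹ * e * k) = k⁻¹ * e * k * (k⁻¹ * (k * z * k⁻¹) * k)
    calc k⁻¹ * (k * z * k⁻¹) * k * (k⁻¹ * e * k) = k⁻¹ * ((k * z * k⁻¹) * e) * k := by group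
      _ = k⁻¹ * (e * (k * z * k⁻¹)) * k := by rw [hde.eq]
      _ = _ := by group
  have h2 : g * z * g⁻¹ ≠ z := by
    rw [hg]
    intro hh
    apply hne
    calc k * z * k⁻¹ = k * (k⁻¹ * e * k) * k⁻¹ := by rw [hh]
      _ = e := by group
  have h4 : z • (k⁻¹ • a) = k⁻¹ • a := by
    rw [mul_smul, mul_smul] at ha
    exact smul_left_cancel k (by rw [ha, smul_inv_smul])
  have h5 : (z * (g * z * g⁻¹)) • (k⁻¹ • b) = k⁻¹ • b := by
    rw [hg, smul_smul]
    have h6 : z * (k⁻¹ * e * k) * k⁻¹ = k⁻¹ * ((k * z * k⁻¹) * e) := by group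
    rw [h6, mul_smul, hb]
  exact smul_left_cancel k⁻¹ (h.good g h1 h2 _ _ h4 h5)

theorem odd_card_of_involutive {α : Type*} [Finite α] (f : α → α) (hf : ∀ x, f (f x) = x)
    {p : α} (hp : f p = p) (h2 : ∀ x, f x = x → x = p) : Odd (Nat.card α) := by
  classical
  have : Fintype α := Fintype.ofFinite α
  let g : Function.End α := f
  have h3 : g ^ 2 ^ 1 = 1 := by
    rw [pow_one, pow_two]
    funext x
    exact hf x
  have h4 := Equiv.Perm.card_fixedPoints_modEq (α := α) (f := g) (p := 2) (n := 1) h3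
  have h5 : Fintype.card (Function.fixedPoints f) = 1 := by
    rw [Fintype.card_eq_one_iff]
    exact ⟨⟨p, hp⟩, fun y => Subtype.ext (h2 _ y.2)⟩
  have h6 : Fintype.card α ≡ 1 [MOD 2] := by
    rw [← h5]; exact h4
  rw [Nat.card_eq_fintype_card, Nat.odd_iff]
  exact h6

theorem odd_card_points [Finite G] (h : Pre G Ω z) : Odd (Nat.card Ω) := by
  have := h.finite_points
  obtain ⟨a, ha⟩ := h.exists_fix
  refine odd_card_of_involutive (fun b : Ω => z • b) ?_ ha ?_
  · intro b
    exact h.smul_smul_self (IsConj.refl z) b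
  · intro b hb
    exact h.fix_unique b a hb ha

theorem odd_mul_swap [Finite G] (h : Pre G Ω z) {a b : Ω} (hab : a ≠ b) {x y : G}
    (hx : x ∈ Sw z a b) (hy : y ∈ Sw z a b) : Odd (orderOf (x * y)) := by
  by_contra hodd
  obtain ⟨w, hw, hw2, hwx, hwy, hwc⟩ :=
    exists_central x y (h.orderOf_eq hx.1) (h.orderOf_eq hy.1) (orderOf_pos _) hodd
  have hxw : IsConj z (x * w) := by
    rcases hwc with hc | hc
    · exact hx.1.trans hc
    · exact hy.1.trans hc
  have hw1 : w ≠ 1 := by
    intro h1; rw [h1, orderOf_one] at hw2; exact absurd hw2 (by norm_num)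
  have hxya : (x * y) • a = a := by
    rw [mul_smul, hy.2, ← hx.2, h.smul_smul_self hx.1]
  have hwa : w • a = a := by
    have hle : Subgroup.zpowers (x * y) ≤ MulAction.stabilizer G a := by
      rw [Subgroup.zpowers_le]; exact hxya
    exact hle hw
  have hcomm : Commute x (x * w) := (Commute.refl x).mul_right hwx.symm
  have hne : x ≠ x * w := by
    intro hh
    exact hw1 (by simpa using hh.symm)
  have hprod : x * (x * w) = w := by rw [← mul_assoc, h.mul_self hx.1, one_mul]
  obtain ⟨p, hp⟩ := h.ex hx.1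
  have := h.good' hx.1 hxw hcomm hne hp (b := a) (by rw [hprod]; exact hwa)
  rw [← this] at hp
  exact hab (hp.symm.trans hx.2)

theorem odd_card_swap [Finite G] (h : Pre G Ω z) {a b : Ω} (hab : a ≠ b) :
    Odd (Nat.card (Sw z a b)) := by
  have hne : Nonempty (Sw z a b) := by
    obtain ⟨d, hd⟩ := h.nonempty_At a
    obtain ⟨e, he⟩ := h.nonempty_At b
    obtain ⟨x, -, hx, -, -, hxa, -⟩ := h.exists_swap hd.1 he.1 hd.2 he.2 hab
    exact ⟨⟨x, hx, hxa⟩⟩
  obtain ⟨x, hx⟩ := hne
  have hxx := h.mul_self hx.1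
  have hxi := h.inv_eq hx.1
  refine odd_card_of_involutive
    (fun y : Sw z a b => (⟨x * y * x⁻¹, ?_⟩ : Sw z a b)) ?_ (p := ⟨x, hx⟩) ?_ ?_
  · refine ⟨conj_mem y.2.1 x, ?_⟩
    have h1 : x • b = a := by rw [← hx.2, h.smul_smul_self hx.1]
    have h2 : (y : G) • b = a := by
      have h3 := h.smul_smul_self y.2.1 a
      rwa [y.2.2] at h3
    rw [hxi, mul_smul, mul_smul, hx.2, h2, hx.2]
  · intro y
    apply Subtype.ext
    show x * (x * y * x⁻¹) * x⁻¹ = y
    calc x * (x * y * x⁻¹) * x⁻¹ = (x * x) * y * (x * x)⁻¹ := by group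
      _ = y := by rw [hxx]; group
  · apply Subtype.ext
    show x * x * x⁻¹ = x
    group
  · rintro ⟨y, hy⟩ hxy
    have h1 : x * y * x⁻¹ = y := congrArg Subtype.val hxy
    have h2 : Commute x y := by
      show x * y = y * x
      calc x * y = x * y * x⁻¹ * x := by group
        _ = y * x := by rw [h1]
    have h3 : (x * y) ^ 2 = 1 := by
      rw [h2.mul_pow, pow_two, pow_two, hxx, h.mul_self hy.1, one_mul]
    have h4 := orderOf_dvd_of_pow_eq_one h3
    have h5 := h.odd_mul_swap hab hx hy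
    have h6 : orderOf (x * y) = 1 := by
      rcases (Nat.dvd_prime Nat.prime_two).mp h4 with h7 | h7
      · exact h7
      · rw [h7] at h5; exact absurd h5 (by decide)
    rw [orderOf_eq_one_iff] at h6
    apply Subtype.ext
    show y = x
    rw [← hxi]
    exact eq_inv_of_mul_eq_one_right h6

theorem odd_card_class [Finite G] (h : Pre G Ω z) : Odd (Nat.card {d : G // IsConj z d}) := by
  obtain ⟨a, b, hab⟩ := h.nontriv
  rw [h.card_class a, Nat.odd_mul]
  refine ⟨h.odd_card_points, ?_⟩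
  rw [← h.card_swap hab]
  exact h.odd_card_swap hab

theorem central [Finite G] (h : Pre G Ω z) : ∃ S : Sylow 2 G, z ∈ S ∧ ∀ s ∈ S, Commute s z := by
  have hodd := h.odd_card_class
  have h1 : Nat.card {d : G // IsConj z d} = (Subgroup.centralizer ({z} : Set G)).index := by
    have h2 : Nat.card {d : G // IsConj z d} = (MulAction.orbit (ConjAct G) z).ncard := by
      rw [← Nat.card_coe_set_eq]
      apply Nat.card_congr
      refine Equiv.subtypeEquivRight (fun d => ?_)
      rw [ConjAct.mem_orbit_conjAct]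
      exact isConj_comm
    rw [h2, ← MulAction.index_stabilizer, ConjAct.stabilizer_eq_centralizer]
    rfl
  rw [h1] at hodd
  obtain ⟨S, hS⟩ : ∃ S : Sylow 2 G, (S : Subgroup G) ≤ Subgroup.centralizer ({z} : Set G) := by
    obtain ⟨P⟩ : Nonempty (Sylow 2 (Subgroup.centralizer ({z} : Set G))) := inferInstance
    have hP : IsPGroup 2 ((P : Subgroup _).map (Subgroup.centralizer ({z} : Set G)).subtype) :=
      P.isPGroup'.map _
    have hi : ¬ 2 ∣ ((P : Subgroup _).map (Subgroup.centralizer ({z} : Set G)).subtype).index := by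
      rw [Subgroup.index_map_subtype]
      intro hdvd
      rcases (Nat.prime_two.dvd_mul).mp hdvd with h3 | h3
      · exact P.not_dvd_index h3
      · exact (Nat.not_even_iff_odd.mpr hodd) (even_iff_two_dvd.mpr h3)
    refine ⟨hP.toSylow hi, ?_⟩
    intro x hx
    obtain ⟨y, -, rfl⟩ := hx
    exact y.2
  have hcomm : ∀ s ∈ S, Commute s z := by
    intro s hs
    have := hS hs
    rw [Subgroup.mem_centralizer_singleton_iff] at this
    exact this
  refine ⟨S, ?_, hcomm⟩
  -- `z` centralises `S`, so it lies in `S`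
  have h3 : IsPGroup 2 ((S : Subgroup G) ⊔ Subgroup.zpowers z : Subgroup G) := by
    have hz2 : IsPGroup 2 (Subgroup.zpowers z) := by
      rintro ⟨t, k, rfl⟩
      refine ⟨1, ?_⟩
      ext
      simp only [pow_one, Subgroup.coe_pow, Subgroup.coe_one]
      rw [← zpow_natCast, ← zpow_mul, mul_comm, zpow_mul, zpow_natCast, pow_two,
        mul_self_of_orderOf h.invol, one_zpow]
    refine IsPGroup.to_sup_of_normal_right' S.isPGroup' hz2 ?_
    intro s hs
    rw [Subgroup.mem_normalizer_iff]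
    intro n
    have key : ∀ c : G, Commute c z → ∀ n ∈ Subgroup.zpowers z, c * n * c⁻¹ ∈ Subgroup.zpowers z := by
      intro c hc n hn
      obtain ⟨k, rfl⟩ := Subgroup.mem_zpowers_iff.mp hn
      rw [(hc.zpow_right k).eq, mul_assoc, mul_inv_cancel, mul_one]
      exact hn
    constructor
    · exact key s (hcomm s hs) n
    · intro hn
      have := key s⁻¹ (hcomm s hs).inv_left _ hn
      simpa [mul_assoc] using this
  have h4 := S.is_maximal' h3 le_sup_left
  have h5 : z ∈ ((S : Subgroup G) ⊔ Subgroup.zpowers z : Subgroup G) :=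
    Subgroup.mem_sup_right (Subgroup.mem_zpowers z)
  rw [h4] at h5
  exact h5

end Pre

/-- Let z be an involution of a finite group G and H a proper subgroup such that z lies in gHg⁻¹ exactly when g ∈ H. Then the following are equivalent: (1) for every conjugate t ≠ z of z commuting with z, the product zt lies in gHg⁻¹ exactly when g ∈ H; (2) z lies in the centre of some Sylow 2-subgroup of G, and for every conjugate t ≠ z of z commuting with z, the centralizer of zt is contained in H. -/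
theorem result {G : Type*} [Group G] [Finite G] (z : G) (hz : orderOf z = 2) (H : Subgroup G) (hH : H ≠ ⊤)
    (h0 : ∀ g : G, z ∈ H.map (MulAut.conj g).toMonoidHom ↔ g ∈ H) :
    (∀ t : G, IsConj z t → t ≠ z → t * z = z * t → ∀ g : G, z * t ∈ H.map (MulAut.conj g).toMonoidHom ↔ g ∈ H) ↔
      ((∃ P : Sylow 2 G, z ∈ (Subgroup.center ↥(P : Subgroup G)).map (P : Subgroup G).subtype) ∧
        ∀ t : G, IsConj z t → t ≠ z → t * z = z * t → Subgroup.centralizer ({z * t} : Set G) ≤ H) := by
  -- the action on the cosets of `H`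
  have hsm : ∀ x g : G, x • (QuotientGroup.mk g : G ⧸ H) = QuotientGroup.mk g ↔
      x ∈ H.map (MulAut.conj g).toMonoidHom := by
    intro x g
    have e : x • (QuotientGroup.mk g : G ⧸ H) = QuotientGroup.mk (x * g) := rfl
    rw [e, eq_comm, QuotientGroup.eq]
    constructor
    · intro hx
      exact ⟨_, hx, by simp [mul_assoc]⟩
    · rintro ⟨y, hy, rfl⟩
      have : g⁻¹ * ((MulAut.conj g).toMonoidHom y * g) = y := by simp [mul_assoc]
      rw [this]; exact hy
  have hmk : ∀ g : G, (QuotientGroup.mk g : G ⧸ H) = QuotientGroup.mk 1 ↔ g ∈ H := by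
    intro g
    rw [eq_comm, QuotientGroup.eq]; simp
  have hzH : z • (QuotientGroup.mk 1 : G ⧸ H) = QuotientGroup.mk 1 :=
    (hsm z 1).mpr ((h0 1).mpr H.one_mem)
  have hfix : ∀ a : G ⧸ H, z • a = a → a = QuotientGroup.mk 1 := by
    intro a
    induction a using QuotientGroup.induction_on with
    | H g =>
      intro hg
      exact (hmk g).mpr ((h0 g).mp ((hsm z g).mp hg))
  have hnon : ∃ a b : G ⧸ H, a ≠ b := by
    by_contra hcon
    push Not at hcon
    apply hH
    rw [Subgroup.eq_top_iff']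
    intro g
    exact (hmk g).mp (hcon _ _)
  have htr : ∀ a b : G ⧸ H, ∃ g : G, g • a = b := fun a b => MulAction.exists_smul_eq G a b
  constructor
  · intro h1
    have hpre : Pre G (G ⧸ H) z := by
      refine ⟨hz, hnon, htr, ⟨_, hzH⟩, ?_, ?_⟩
      · intro a b ha hb
        rw [hfix a ha, hfix b hb]
      · intro g hc hne a b ha hb
        rw [hfix a ha]
        induction b using QuotientGroup.induction_on with
        | H k =>
          exact (hmk k).mpr ((h1 _ (isConj_iff.mpr ⟨g, rfl⟩) hne hc.symm.eq k).mp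
            ((hsm _ k).mp hb))
    obtain ⟨S, hzS, hS⟩ := hpre.central
    refine ⟨⟨S, ⟨z, hzS⟩, ?_, rfl⟩, ?_⟩
    · rw [SetLike.mem_coe, Subgroup.mem_center_iff]
      intro g
      exact Subtype.ext (hS g g.2).eq
    · intro t ht hne hc g hg
      rw [← h1 t ht hne hc g]
      rw [Subgroup.mem_centralizer_singleton_iff] at hg
      have h2 : z * t ∈ H.map (MulAut.conj (1 : G)).toMonoidHom := (h1 t ht hne hc 1).mpr H.one_mem
      have h3 : z * t ∈ H := by
        obtain ⟨y, hy, hy2⟩ := h2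
        have : y = z * t := by simpa using hy2
        rw [← this]; exact hy
      refine ⟨z * t, h3, ?_⟩
      show g * (z * t) * g⁻¹ = z * t
      rw [hg]; group
  · rintro ⟨⟨P, hP⟩, h2⟩ t ht hne hc g
    obtain ⟨⟨z', hz'P⟩, hz'c, hz'⟩ := hP
    have hz'' : z' = z := hz'
    subst hz''
    have hset : Cfsg.Agent.AschCrit.Basic.Setup G (G ⧸ H) z' := by
      refine ⟨hz, ⟨P, hz'P, ?_⟩, hnon, htr, ⟨_, hzH⟩, ?_, ?_⟩
      · intro s hs
        exact congrArg Subtype.val (Subgroup.mem_center_iff.mp hz'c ⟨s, hs⟩)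
      · intro a b ha hb
        rw [hfix a ha, hfix b hb]
      · intro g hc hne c hcc a ha
        rw [hfix a ha, hsm]
        have h3 : c ∈ H := h2 _ (isConj_iff.mpr ⟨g, rfl⟩) hne hc.symm.eq
          (Subgroup.mem_centralizer_singleton_iff.mpr hcc.eq)
        exact ⟨c, h3, by simp⟩
    have htz : Commute z' t := hc.symm
    rw [← hsm]
    constructor
    · intro hg
      have hw : (z' * t) * (z' * t) = 1 := by
        rw [htz.symm.mul_mul_mul_comm, hset.mul_self (IsConj.refl z'), hset.mul_self ht, one_mul]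
      obtain ⟨d, hd, hdw⟩ := hset.exists_commute_of_mul_self hw hg
      have h3 := hset.comm' (IsConj.refl z') ht htz hne.symm hdw hzH
      have h4 := hset.uniq hd.1 hd.2 h3
      exact (hmk g).mp h4
    · intro hg
      rw [(hmk g).mpr hg, mul_smul, hset.fix_of_commute (IsConj.refl z') htz.symm hzH, hzH]

end Cfsg.Agent.S1922
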