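import Cfsg.Agent.AschCrit.Basic
import Cfsg.Agent.S0215
import Cfsg.Agent.Lib.Cores
import Cfsg.Agent.AschCrit.CommuteFinal_mg_m3
import Cfsg.Agent.H23.FreeAct
import Cfsg.Agent.AschCrit.Final_mg
import Cfsg.Agent.StrongEmb.Strong
import Cfsg.Agent.S0205
import Cfsg.Prelude.Def_Involutions
import Cfsg.Agent.Transfer.Extraspecial
import Cfsg.Agent.KFacts.Mult.Unitary
import Cfsg.Agent.AschCrit.CommFour.Orbits_m3
import Cfsg.Statements.S1911
import Cfsg.Agent.S1922
import Cfsg.Agent.FastGrp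
import Cfsg.Agent.Prune
set_option linter.all false

section
prune_inst 0x7ffcfefaaff8addfffff7e7ffff9dffe39d4dfffffdffb43ffedebffdfff036f3fe5fbaf1de4d8ffcef7e29630b87813f9ffceffef6bdd7ffffd5ff45ffbee1fe5ffbf8d51d7b8341ffc6ffffbf37fdfffffffffffffffffffffffffffffffffffffffffffff

-- part: H23/AschKer_mg
section
prune_inst 0x10004022000000000000600000000000000000008001010002000208000000000800000001000002800000040020020000000000000000000000000001200000020000400000200000000000000000000000000000000000000000000000000000000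
set_option linter.all false
open scoped Cfsg.Agent.FastGrp

-- part: H23/AschKer
section
/-!
# Aschbacher's criterion without faithfulness: the kernel of the action

`Setup G Ω z`, `N₀` the kernel of the action of `G` on `Ω`.

* `odd_of_ker` : if `z · gzg⁻¹` acts trivially then it has odd order
* `commutator_mem` : `[z, N₀] ≤ N₀ ∩ O(G)`
* `commutator_closure` : `[K, N₀] ≤ N₀ ∩ O(G)` for `K` the normal closure of `z`
-/

set_option autoImplicit false

open Subgroup

namespace Cfsg.Agent.H23.AschKer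

open Cfsg.Agent.TwoFusion.StronglyEmbeddedBasic Cfsg.Agent.AschCrit.Basic
open Cfsg.Agent.AschCrit.Basic.Setup

variable {G Ω : Type*} [Group G] [MulAction G Ω] {z : G}

/-- the kernel of the action -/
def ker (G Ω : Type*) [Group G] [MulAction G Ω] : Subgroup G := (MulAction.toPermHom G Ω).ker

theorem mem_ker {g : G} : g ∈ ker G Ω ↔ ∀ a : Ω, g • a = a := by
  rw [ker, MonoidHom.mem_ker]
  constructor
  · intro h a
    exact congrArg (fun σ : Equiv.Perm Ω => σ a) h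
  · intro h
    ext a
    exact h a

instance ker_normal : (ker G Ω).Normal := by
  unfold ker; infer_instance

/-- the kernel core -/
def kcore (G Ω : Type*) [Group G] [MulAction G Ω] : Subgroup G :=
  ker G Ω ⊓ pPrimeCore 2 G

instance kcore_normal : (kcore G Ω).Normal := by
  unfold kcore; infer_instance

theorem odd_kcore [Finite G] : Odd (Nat.card (kcore G Ω)) := by
  have h1 : Odd (Nat.card (pPrimeCore 2 G)) :=
    Nat.coprime_two_right.mp (Cfsg.Agent.Lib.Cores.pPrimeCore_coprime 2)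
  exact h1.of_dvd_nat (Subgroup.card_dvd_of_le inf_le_right)

/-- an involution `w` of the kernel: for two different points there are commuting elements of `D` -/
theorem exists_ne [Finite G] (h : Setup G Ω z) {a : Ω} : ∃ b : Ω, a ≠ b := by
  obtain ⟨p, q, hpq⟩ := h.nontriv
  by_cases hap : a = p
  · exact ⟨q, by rw [hap]; exact hpq⟩
  · exact ⟨p, hap⟩

/-- two involutions with product of odd order are conjugate by a power of the product -/
theorem exists_zpowers_conj {a b : G} (ha : a * a = 1) (hb : b * b = 1)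
    (hab : Odd (orderOf (a * b))) : ∃ c ∈ zpowers (a * b), c * a * c⁻¹ = b := by
  obtain ⟨k, hk⟩ := hab
  have hai : a⁻¹ = a := inv_eq_of_mul_eq_one_left ha
  have hbi : b⁻¹ = b := inv_eq_of_mul_eq_one_left hb
  set w := a * b with hw
  have hwi : w⁻¹ = b * a := by rw [hw, mul_inv_rev, hai, hbi]
  have hw1 : w ^ (2 * k + 1) = 1 := by rw [← hk]; exact pow_orderOf_eq_one w
  have hsa : SemiconjBy a w w⁻¹ := by
    show a * w = w⁻¹ * a
    rw [hwi, hw, ← mul_assoc, ha, mul_assoc, ha]; simp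
  have hpa : ∀ j : ℕ, a * w ^ j = (w ^ j)⁻¹ * a := by
    intro j
    have := (hsa.pow_right j).eq
    rwa [inv_pow] at this
  refine ⟨(w ^ (k + 1))⁻¹, inv_mem (pow_mem (mem_zpowers w) _), ?_⟩
  rw [inv_inv, mul_assoc, hpa, ← mul_assoc, ← mul_inv_rev, ← pow_add]
  have e1 : k + 1 + (k + 1) = (2 * k + 1) + 1 := by ring
  rw [e1, pow_succ, hw1, one_mul, hwi, mul_assoc, ha, mul_one]

theorem pow_mem_kcore_iff [Finite G] {W : Subgroup G} (hodd : Odd (Nat.card W))
    {l : G} (hl : l * l ∈ W) (hlW : l ∉ W) :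
    l ^ (orderOf (l * l)) * l ^ (orderOf (l * l)) = 1 ∧ l ^ (orderOf (l * l)) ≠ 1 ∧
      (l ^ (orderOf (l * l)))⁻¹ * l ∈ W := by
  set m := orderOf (l * l) with hm
  have hmo : Odd m := by
    have : m ∣ Nat.card W := by
      rw [hm, ← Subgroup.orderOf_mk (l * l) hl]; exact _root_.orderOf_dvd_natCard _
    exact hodd.of_dvd_nat this
  have h1 : l ^ m * l ^ m = 1 := by
    rw [← pow_add, ← two_mul, pow_mul, pow_two, hm, pow_orderOf_eq_one]
  obtain ⟨k, hk⟩ := hmo
  have h2 : l ^ (2 * k) ∈ W := by rw [pow_mul, pow_two]; exact W.pow_mem hl k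
  have h3 : (l ^ m)⁻¹ * l ∈ W := by
    rw [hk, pow_succ', mul_inv_rev, mul_assoc, inv_mul_cancel, mul_one]
    exact W.inv_mem h2
  refine ⟨h1, ?_, h3⟩
  intro h4
  rw [h4] at h3
  exact hlW (by simpa using h3)

end Cfsg.Agent.H23.AschKer
end

-- part: H23/RankOneBd
section
/-!
# Simple rank-one set-ups: a list of facts

`q = 2 ^ k`, `|Q| = q ^ i`, `E = Ω₁(Q)`, `D = G_{ab}`.

* `Bd` : the list of facts
* `bd` : a simple rank-one set-up has them
* `Bd.eq_or_eq` : a `D`-invariant subgroup between `E` and `Q` is `E` or `Q`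
-/

set_option autoImplicit false

open Cfsg

namespace Cfsg.Agent.H23.RankOneBd

open MulAction Subgroup Cfsg.Agent Cfsg.Agent.SuzukiRankOne
  Cfsg.Agent.SuzukiRankOne.Assembly Cfsg.Agent.LieRecognition Cfsg.Agent.LieRecognition.HermHeis
  Cfsg.Agent.AschCrit.RankOneTypes Cfsg.Agent.AschCrit.RankOneCases Cfsg.Agent.AschCrit.RankOneThree

/-- The facts. -/
structure Bd {G Ω : Type*} [Group G] [MulAction G Ω] (a b : Ω) (Q E D : Subgroup G) (k i : ℕ) :
    Prop where
  ne : a ≠ b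
  fixQ : ∀ s ∈ Q, s • a = a
  regQ : ∀ c : Ω, c ≠ a → ∃ s ∈ Q, s • b = c
  freeQ : ∀ s ∈ Q, ∀ c : Ω, c ≠ a → s • c = c → s = 1
  memD : ∀ g : G, g ∈ D ↔ g • a = a ∧ g • b = b
  oddD : Odd (Nat.card D)
  commD : ∀ d ∈ D, ∀ e ∈ D, d * e = e * d
  pQ : IsPGroup 2 Q
  memQ : ∀ g : G, g • a = a → IsPGroup 2 (zpowers g) → g ∈ Q
  normQ : ∀ g : G, g • a = a → ∀ s ∈ Q, g * s * g⁻¹ ∈ Q
  memE : ∀ g : G, g ∈ E ↔ g ∈ Q ∧ g * g = 1
  cenE : ∀ e ∈ E, ∀ s ∈ Q, e * s = s * e
  sqE : ∀ s ∈ Q, s * s ∈ E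
  transE : ∀ e ∈ E, e ≠ 1 → ∀ f ∈ E, f ≠ 1 → ∃ d ∈ D, d * e * d⁻¹ = f
  cardE : Nat.card E = 2 ^ k
  two_le : 2 ≤ k
  cardQ : Nat.card Q = (2 ^ k) ^ i
  cardG : Nat.card G = Nat.card Q * Nat.card D * (Nat.card Q + 1)
  srV : ∀ d ∈ D, d ≠ 1 → ∀ s ∈ Q, s⁻¹ * (d * s * d⁻¹) ∈ E → s ∈ E
  fpf : ∃ d ∈ D, ∀ s ∈ Q, d * s = s * d → s = 1
  typ : i = 1 ∨ (i = 2 ∧ Odd k ∧ Nat.card D = 2 ^ k - 1) ∨
    (i = 3 ∧ Nat.gcd 3 (2 ^ k + 1) * Nat.card D = (2 ^ k) ^ 2 - 1 ∧
      ∃ (F : Type) (_ : Field F) (_ : Fintype F), Fintype.card F = (2 ^ k) ^ 2 ∧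
        Nonempty (G ≃* Cfsg.PSU 3 F (2 ^ k)))

theorem exists_mul_self {G : Type*} [Group G] {x : G} (hx : IsPGroup 2 (zpowers x)) (h1 : x ≠ 1) :
    ∃ n : ℕ, x ^ n ≠ 1 ∧ x ^ n * x ^ n = 1 := by
  obtain ⟨m, hm⟩ := hx ⟨x, mem_zpowers x⟩
  have hm' : x ^ 2 ^ m = 1 := congrArg Subtype.val hm
  have hex : ∃ m, x ^ 2 ^ m = 1 := ⟨m, hm'⟩
  classical
  have h2 := Nat.find_spec hex
  have h3 : Nat.find hex ≠ 0 := by
    intro h0
    rw [h0, pow_zero, pow_one] at h2
    exact h1 h2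
  obtain ⟨j, hj⟩ := Nat.exists_eq_succ_of_ne_zero h3
  refine ⟨2 ^ j, ?_, ?_⟩
  · exact Nat.find_min hex (by omega)
  · rw [← pow_add, ← two_mul, ← pow_succ']
    rw [hj] at h2
    exact h2

variable {G Ω : Type*} [Group G] [Finite G] [MulAction G Ω] {a : Ω} {t : G} {Q : Subgroup G}

theorem isPGroup_zpowers {x : G} (hQ : IsPGroup 2 Q) (hx : x ∈ Q) : IsPGroup 2 (zpowers x) :=
  hQ.to_le (zpowers_le.mpr hx)

/-- 2-elements of `G_a` lie in `Q`. -/
theorem mem_of_isPGroup (hS : IsRankOneSetup G Ω a t Q) {g : G} (hg : g • a = a)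
    (hp : IsPGroup 2 (zpowers g)) : g ∈ Q := by
  obtain ⟨q, hq, d, hd, rfl⟩ :=
    RankOneBasic.exists_mul_of_mem_stabilizer hS (mem_stabilizer_iff.mpr hg)
  -- the powers of `q d`
  have hD : stabilizer G a ⊓ stabilizer G (t • a) ≤ Subgroup.normalizer (Q : Set G) :=
    inf_le_left.trans (RankOneBasic.stabilizer_le_normalizer hS)
  have hpow : ∀ n : ℕ, ∃ r ∈ Q, (q * d) ^ n = r * d ^ n := by
    intro n
    induction n with
    | zero => exact ⟨1, Q.one_mem, by simp⟩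
    | succ n ih =>
      obtain ⟨r, hr, he⟩ := ih
      refine ⟨r * (d ^ n * q * (d ^ n)⁻¹), Q.mul_mem hr ?_, ?_⟩
      · exact (Subgroup.mem_normalizer_iff.mp (hD (Subgroup.pow_mem _ hd n)) q).mp hq
      · rw [pow_succ, he, pow_succ]; group
  obtain ⟨m, hm⟩ := hp ⟨q * d, mem_zpowers _⟩
  have hm' : (q * d) ^ 2 ^ m = 1 := congrArg Subtype.val hm
  obtain ⟨r, hr, he⟩ := hpow (2 ^ m)
  rw [hm'] at he
  have h1 : d ^ 2 ^ m ∈ Q := by
    have : d ^ 2 ^ m = r⁻¹ := eq_inv_of_mul_eq_one_right he.symm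
    rw [this]; exact Q.inv_mem hr
  have h2 : d ^ 2 ^ m ∈ Q ⊓ stabilizer G (t • a) := ⟨h1, (Subgroup.pow_mem _ hd _).2⟩
  rw [hS.inf_eq_bot, Subgroup.mem_bot] at h2
  have h3 : orderOf d ∣ 2 ^ m := orderOf_dvd_of_pow_eq_one h2
  have h4 : orderOf d ∣ Nat.card ↥(stabilizer G a ⊓ stabilizer G (t • a)) := by
    rw [← Subgroup.orderOf_mk d hd]; exact _root_.orderOf_dvd_natCard _
  have h5 : Nat.Coprime (2 ^ m) (Nat.card ↥(stabilizer G a ⊓ stabilizer G (t • a))) :=
    Nat.Coprime.pow_left _ hS.odd_card.coprime_two_left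
  have h6 : orderOf d = 1 := Nat.eq_one_of_dvd_coprimes h5 h3 h4
  rw [orderOf_eq_one_iff] at h6
  rw [h6, mul_one]; exact hq

/-- product of squares -/
theorem comm_eq_sq {H : Type*} [Group H] (x y : H) :
    x * y * x⁻¹ * y⁻¹ = (x * y) * (x * y) * ((y⁻¹ * x⁻¹ * y) * (y⁻¹ * x⁻¹ * y)) * (y⁻¹ * y⁻¹) := by
  group

section

variable [FaithfulSMul G Ω] [IsSimpleGroup G] (hS : IsRankOneSetup G Ω a t Q)
  (h2 : ∃ x y : G, x ≠ 1 ∧ y ≠ 1 ∧ x ≠ y ∧ x * x = 1 ∧ y * y = 1 ∧ x * y = y * x)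
  {k i : ℕ} (hk : 2 ≤ k) (hi1 : 1 ≤ i) (hi3 : i ≤ 3)
  (hq : Nat.card (involutionsIn (stabilizer G a : Set G)) + 1 = 2 ^ k)
  (hi : Nat.card Q = (2 ^ k) ^ i)

omit [IsSimpleGroup G] in
include hS h2 in
theorem mul_mem_E {x y : G} (hx : x ∈ Q ∧ x * x = 1) (hy : y ∈ Q ∧ y * y = 1) :
    x * y ∈ Q ∧ (x * y) * (x * y) = 1 := by
  by_cases hx1 : x = 1
  · rw [hx1, one_mul]; exact hy
  by_cases hy1 : y = 1
  · rw [hy1, mul_one]; exact hx
  refine ⟨Q.mul_mem hx.1 hy.1, ?_⟩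
  have h3 := ((S1130.result hS h2).1 x ⟨hS.le hx.1, hx1, hx.2⟩).2 y hy.1
  calc x * y * (x * y) = x * (y * x) * y := by group
    _ = x * (x * y) * y := by rw [h3]
    _ = (x * x) * (y * y) := by group
    _ = 1 := by rw [hx.2, hy.2, one_mul]

/-- `E = Ω₁(Q)` -/
def Esub (hS : IsRankOneSetup G Ω a t Q)
    (h2 : ∃ x y : G, x ≠ 1 ∧ y ≠ 1 ∧ x ≠ y ∧ x * x = 1 ∧ y * y = 1 ∧ x * y = y * x) :
    Subgroup G where
  carrier := {x | x ∈ Q ∧ x * x = 1}
  mul_mem' := fun hx hy => mul_mem_E hS h2 hx hy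
  one_mem' := ⟨Q.one_mem, mul_one 1⟩
  inv_mem' := by
    rintro x ⟨hx, hxx⟩
    refine ⟨Q.inv_mem hx, ?_⟩
    rw [← mul_inv_rev, hxx, inv_one]

omit [IsSimpleGroup G] in
include hS h2 in
theorem cenE {e : G} (he : e ∈ Esub hS h2) {s : G} (hs : s ∈ Q) : e * s = s * e := by
  by_cases h1 : e = 1
  · rw [h1, one_mul, mul_one]
  · exact ((S1130.result hS h2).1 e ⟨hS.le he.1, h1, he.2⟩).2 s hs

omit [IsSimpleGroup G] in
include hq in
theorem cardE : Nat.card (Esub hS h2) = 2 ^ k := by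
  have h1 : ((Esub hS h2 : Subgroup G) : Set G) =
      insert 1 (involutionsIn (stabilizer G a : Set G)) := by
    ext x
    constructor
    · rintro ⟨hx, hxx⟩
      by_cases h1 : x = 1
      · left; exact h1
      · right; exact ⟨hS.le hx, h1, hxx⟩
    · rintro (rfl | ⟨hx, -, hxx⟩)
      · exact (Esub hS h2).one_mem
      · exact ⟨RankOneBasic.mem_of_mul_self hS hx hxx, hxx⟩
  have h3 : Nat.card (Esub hS h2) = ((Esub hS h2 : Subgroup G) : Set G).ncard :=
    Nat.card_coe_set_eq _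
  rw [h3, h1, Set.ncard_insert_of_notMem, ← Nat.card_coe_set_eq, hq]
  rintro ⟨-, h, -⟩
  exact h rfl

include hS h2 hk hi1 hi3 hq hi in
theorem sq_sq {x : G} (hx : x ∈ Q) : (x * x) * (x * x) = 1 := by
  rcases (show i = 1 ∨ i = 2 ∨ i = 3 by omega) with h | h | h
  · rw [(one_iff hS h2 hq hi hk).mp h x hx, one_mul]
  · exact (type_two' hS h2 hq hi hk h).2.2.1 x hx
  · exact (three hS h2 hk hq hi h).sq_sq x hx

include hS h2 hk hi1 hi3 hq hi in
theorem isCyclicD : IsCyclic ↥(stabilizer G a ⊓ stabilizer G (t • a)) := by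
  rcases (show i ≤ 2 ∨ i = 3 by omega) with h | h
  · exact isCyclic_of_le_two hS h2 hq hi hk h
  · exact (three hS h2 hk hq hi h).isCyclic

include hS h2 hk hi1 hi3 hq hi in
theorem commD {d e : G} (hd : d ∈ stabilizer G a ⊓ stabilizer G (t • a))
    (he : e ∈ stabilizer G a ⊓ stabilizer G (t • a)) : d * e = e * d := by
  have := isCyclicD hS h2 hk hi1 hi3 hq hi
  let _ : CommGroup ↥(stabilizer G a ⊓ stabilizer G (t • a)) := IsCyclic.commGroup
  exact congrArg Subtype.val (mul_comm (⟨d, hd⟩ : ↥(stabilizer G a ⊓ stabilizer G (t • a))) ⟨e, he⟩)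

include hS h2 hk hi1 hi3 hq hi in
/-- an element of `D` commuting with an involution of `Q` commutes with all of them -/
theorem comm_all {d : G} (hd : d ∈ stabilizer G a ⊓ stabilizer G (t • a)) {f : G}
    (hf : f ∈ Esub hS h2) (hf1 : f ≠ 1) (hdf : d * f = f * d) {e : G} (he : e ∈ Esub hS h2) :
    d * e = e * d := by
  by_cases he1 : e = 1
  · rw [he1, one_mul, mul_one]
  obtain ⟨c, hc, hce⟩ := exists_conj hS (s := f) (s' := e) ⟨hS.le hf.1, hf1, hf.2⟩
    ⟨hS.le he.1, he1, he.2⟩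
  have h1 := commD hS h2 hk hi1 hi3 hq hi hd hc
  rw [← hce]
  calc d * (c * f * c⁻¹) = (d * c) * f * c⁻¹ := by group
    _ = c * (d * f) * c⁻¹ := by rw [h1]; group
    _ = c * (f * d) * c⁻¹ := by rw [hdf]
    _ = c * f * c⁻¹ * ((c * d) * c⁻¹) := by group
    _ = c * f * c⁻¹ * ((d * c) * c⁻¹) := by rw [h1]
    _ = c * f * c⁻¹ * d := by group

include hS h2 hk hi1 hi3 hq hi in
/-- an element of `D` other than 1 commuting with an involution of `Q` centralises only `E` -/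
theorem fix_of_comm {d : G} (hd : d ∈ stabilizer G a ⊓ stabilizer G (t • a)) (hd1 : d ≠ 1) {f : G}
    (hf : f ∈ Esub hS h2) (hf1 : f ≠ 1) (hdf : d * f = f * d) {x : G} (hx : x ∈ Q)
    (hdx : d * x = x * d) : x * x = 1 := by
  rcases (show i ≤ 2 ∨ i = 3 by omega) with h | h
  · exfalso
    apply hd1
    have hb := mem_stabilizer_iff.mp hd.2
    have hb1 := RankOneBasic.t_smul_ne hS
    refine eq_one_of_le_two hS h2 hq hi hk h (b := a) (c := t • a) (d := f • t • a) hb1.symm ?_ ?_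
      (mem_stabilizer_iff.mp hd.1) hb ?_
    · exact (RankOneBasic.smul_ne_of_mem (hS.le hf.1) hb1).symm
    · intro hh
      exact hf1 (RankOneBasic.eq_one_of_smul_eq hS hf.1 hb1 hh.symm)
    · rw [smul_smul, hdf, mul_smul, hb]
  · exact (three hS h2 hk hq hi h).sq_of_commute d hd hd1 f ⟨hS.le hf.1, hf1, hf.2⟩ hdf.symm.symm x hx
      hdx

include hS h2 hk hi1 hi3 hq hi in
/-- an element of `D` moving an involution of `Q` has no fixed points on `Q` -/
theorem fpf_of {d : G} (hd : d ∈ stabilizer G a ⊓ stabilizer G (t • a)) {f : G}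
    (hf : f ∈ Esub hS h2) (hdf : d * f ≠ f * d) {s : G} (hs : s ∈ Q) (hQ2 : IsPGroup 2 Q)
    (hds : d * s = s * d) : s = 1 := by
  by_contra hs1
  obtain ⟨n, hn1, hn2⟩ := exists_mul_self (isPGroup_zpowers hQ2 hs) hs1
  refine hdf (comm_all hS h2 hk hi1 hi3 hq hi hd (f := s ^ n) ⟨Q.pow_mem hs n, hn2⟩ hn1 ?_ hf)
  exact (show Commute d (s ^ n) from (show Commute d s from hds).pow_right n).eq

include hk hi1 hi3 hq hi in
theorem srV (hQ2 : IsPGroup 2 Q) {d : G} (hd : d ∈ stabilizer G a ⊓ stabilizer G (t • a))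
    (hd1 : d ≠ 1) {s : G} (hs : s ∈ Q) (hse : s⁻¹ * (d * s * d⁻¹) ∈ Esub hS h2) :
    s ∈ Esub hS h2 := by
  have hnorm : ∀ x ∈ Q, d * x * d⁻¹ ∈ Q := fun x hx => hS.conj_mem d hd.1 x hx
  have hnormE : ∀ x ∈ Esub hS h2, d * x * d⁻¹ ∈ Esub hS h2 := by
    rintro x ⟨hx, hxx⟩
    refine ⟨hnorm x hx, ?_⟩
    calc d * x * d⁻¹ * (d * x * d⁻¹) = d * (x * x) * d⁻¹ := by group
      _ = 1 := by rw [hxx]; group
  set e := s⁻¹ * (d * s * d⁻¹) with he
  have hds : d * s * d⁻¹ = s * e := by rw [he]; group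
  by_cases hc : ∃ f ∈ Esub hS h2, f ≠ 1 ∧ d * f = f * d
  · obtain ⟨f, hf, hf1, hdf⟩ := hc
    have hde := comm_all hS h2 hk hi1 hi3 hq hi hd hf hf1 hdf hse
    -- `d ^ m s d ^ -m = s e ^ m`
    have hpow : ∀ m : ℕ, d ^ m * s * (d ^ m)⁻¹ = s * e ^ m := by
      intro m
      induction m with
      | zero => simp
      | succ m ih =>
        have h3 : Commute d (e ^ m) := (show Commute d e from hde).pow_right m
        calc d ^ (m + 1) * s * (d ^ (m + 1))⁻¹ = d * (d ^ m * s * (d ^ m)⁻¹) * d⁻¹ := by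
              rw [pow_succ']; group
          _ = d * (s * e ^ m) * d⁻¹ := by rw [ih]
          _ = (d * s * d⁻¹) * (d * e ^ m * d⁻¹) := by group
          _ = s * e * e ^ m := by rw [hds, h3.eq]; group
          _ = s * e ^ (m + 1) := by rw [pow_succ']; group
    have h3 := hpow (orderOf d)
    rw [pow_orderOf_eq_one] at h3
    have h4 : e ^ orderOf d = 1 := by simpa using h3.symm
    have h5 : e ^ 2 = 1 := by rw [pow_two]; exact hse.2
    have hodd : Odd (orderOf d) := by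
      have h6 : orderOf d ∣ Nat.card ↥(stabilizer G a ⊓ stabilizer G (t • a)) := by
        rw [← Subgroup.orderOf_mk d hd]; exact _root_.orderOf_dvd_natCard _
      exact hS.odd_card.of_dvd_nat h6
    have h6 : e = 1 := by
      obtain ⟨j, hj⟩ := hodd
      rw [hj, pow_add, pow_mul, h5, one_pow, one_mul, pow_one] at h4
      exact h4
    rw [h6, mul_one] at hds
    have h7 : d * s = s * d := by
      calc d * s = d * s * d⁻¹ * d := by group
        _ = s * d := by rw [hds]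
    exact ⟨hs, fix_of_comm hS h2 hk hi1 hi3 hq hi hd hd1 hf hf1 hdf hs h7⟩
  · push Not at hc
    -- the map `u ↦ u⁻¹ d u d⁻¹` of `E` is bijective
    have hinj : Function.Injective (fun u : Esub hS h2 =>
        (⟨(u : G)⁻¹ * (d * u * d⁻¹), mul_mem (inv_mem u.2) (hnormE u u.2)⟩ : Esub hS h2)) := by
      rintro ⟨u, hu⟩ ⟨v, hv⟩ huv
      have h3 : u⁻¹ * (d * u * d⁻¹) = v⁻¹ * (d * v * d⁻¹) := congrArg Subtype.val huv
      apply Subtype.ext
      show u = v
      by_contra hne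
      have hw : v * u⁻¹ ∈ Esub hS h2 := mul_mem hv (inv_mem hu)
      refine hc _ hw (fun hh => hne (mul_inv_eq_one.mp hh).symm) ?_
      have h4 : v * u⁻¹ * (d * u * d⁻¹) = d * v * d⁻¹ := by
        rw [mul_assoc, h3]; group
      calc d * (v * u⁻¹) = (d * v * d⁻¹) * d * u⁻¹ := by group
        _ = (v * u⁻¹ * (d * u * d⁻¹)) * d * u⁻¹ := by rw [h4]
        _ = v * u⁻¹ * d := by group
    have hsurj := Finite.surjective_of_injective hinj
    obtain ⟨⟨u, hu⟩, hue⟩ := hsurj ⟨e⁻¹, inv_mem hse⟩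
    have h3 : u⁻¹ * (d * u * d⁻¹) = e⁻¹ := congrArg Subtype.val hue
    -- `s u` commutes with `d`
    have h4 : d * (s * u) * d⁻¹ = s * u := by
      have h5 : d * u * d⁻¹ = u * e⁻¹ := by rw [← h3]; group
      have h6 := cenE hS h2 hse hu.1
      calc d * (s * u) * d⁻¹ = (d * s * d⁻¹) * (d * u * d⁻¹) := by group
        _ = s * (e * u) * e⁻¹ := by rw [hds, h5]; group
        _ = s * (u * e) * e⁻¹ := by rw [h6]
        _ = s * u := by group
    have h5 : d * (s * u) = s * u * d := by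
      calc d * (s * u) = d * (s * u) * d⁻¹ * d := by group
        _ = s * u * d := by rw [h4]
    have h6 : s * u = 1 := by
      by_contra hs1
      have hsu : s * u ∈ Q := Q.mul_mem hs hu.1
      obtain ⟨n, hn1, hn2⟩ := exists_mul_self (isPGroup_zpowers hQ2 hsu) hs1
      exact hc _ ⟨Q.pow_mem hsu n, hn2⟩ hn1
        (show Commute d ((s * u) ^ n) from (show Commute d (s * u) from h5).pow_right n).eq
    have h7 : s = u⁻¹ := eq_inv_of_mul_eq_one_left h6
    rw [h7]; exact inv_mem hu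

include hk hi1 hi3 hq hi in
/-- a simple rank-one set-up has the listed facts -/
theorem bd (hQ2 : IsPGroup 2 Q) :
    Bd a (t • a) Q (Esub hS h2) (stabilizer G a ⊓ stabilizer G (t • a)) k i where
  ne := (RankOneBasic.t_smul_ne hS).symm
  fixQ := fun s hs => mem_stabilizer_iff.mp (hS.le hs)
  regQ := fun c hc => RankOneBasic.exists_smul_t_smul hS hc
  freeQ := fun s hs c hc h => RankOneBasic.eq_one_of_smul_eq hS hs hc h
  memD := fun g => Iff.rfl
  oddD := hS.odd_card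
  commD := fun d hd e he => commD hS h2 hk hi1 hi3 hq hi hd he
  pQ := hQ2
  memQ := fun g hg hp => mem_of_isPGroup hS hg hp
  normQ := fun g hg s hs => hS.conj_mem g hg s hs
  memE := fun g => Iff.rfl
  cenE := fun e he s hs => cenE hS h2 he hs
  sqE := fun s hs => ⟨Q.mul_mem hs hs, sq_sq hS h2 hk hi1 hi3 hq hi hs⟩
  transE := fun e he he1 f hf hf1 => exists_conj hS ⟨hS.le he.1, he1, he.2⟩ ⟨hS.le hf.1, hf1, hf.2⟩
  cardE := cardE hS h2 hq
  two_le := hk
  cardQ := hi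
  cardG := card_eq hS
  srV := fun d hd hd1 s hs hse => srV hS h2 hk hi1 hi3 hq hi hQ2 hd hd1 hs hse
  fpf := by
    have hc := cardE hS h2 hq
    have h4 : 4 ≤ 2 ^ k := by
      calc 4 = 2 ^ 2 := rfl
        _ ≤ 2 ^ k := Nat.pow_le_pow_right (by norm_num) hk
    -- two different involutions
    obtain ⟨e, he, he1⟩ : ∃ e ∈ Esub hS h2, e ≠ 1 := by
      by_contra hcon
      push Not at hcon
      have : Esub hS h2 = ⊥ := (Subgroup.eq_bot_iff_forall _).mpr hcon
      rw [this, Subgroup.card_bot] at hc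
      omega
    obtain ⟨f, hf, hf1, hfe⟩ : ∃ f ∈ Esub hS h2, f ≠ 1 ∧ f ≠ e := by
      by_contra hcon
      push Not at hcon
      have hle : Esub hS h2 ≤ zpowers e := by
        intro x hx
        by_cases hx1 : x = 1
        · rw [hx1]; exact one_mem _
        · rw [hcon x hx hx1]; exact mem_zpowers e
      have h5 := Subgroup.card_le_of_le hle
      rw [hc, Nat.card_zpowers, orderOf_eq_prime (p := 2) (by rw [pow_two]; exact he.2) he1] at h5
      omega
    obtain ⟨d, hd, hde⟩ := exists_conj hS (s := e) (s' := f) ⟨hS.le he.1, he1, he.2⟩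
      ⟨hS.le hf.1, hf1, hf.2⟩
    refine ⟨d, hd, fun s hs hds => fpf_of hS h2 hk hi1 hi3 hq hi hd he ?_ hs hQ2 hds⟩
    intro hh
    apply hfe
    rw [← hde, hh]; group
  typ := by
    rcases (show i = 1 ∨ i = 2 ∨ i = 3 by omega) with h | h | h
    · exact Or.inl h
    · have := type_two' hS h2 hq hi hk h
      exact Or.inr (Or.inl ⟨h, this.1, this.2.2.2⟩)
    · have := three hS h2 hk hq hi h
      exact Or.inr (Or.inr ⟨h, this.card, this.iso⟩)

end

end Cfsg.Agent.H23.RankOneBd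
end

-- part: H23/Bdr
section
/-!
# Bender groups as normal subgroups of permutation groups

* `Bdr a b L Q E D k i` : the normal subgroup `L` of `G` is a simple rank-one group on `Ω`, facts inside `G`
* `Bdr.eq_or_eq` : a `D`-invariant subgroup between `E` and `Q` is `E` or `Q`
-/

set_option autoImplicit false

open Cfsg

namespace Cfsg.Agent.H23.BD

open Subgroup Cfsg.Agent.H23.RankOneBd

/-- The facts, inside a group `G` acting on `Ω` with normal subgroup `L`. -/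
structure Bdr {G Ω : Type*} [Group G] [MulAction G Ω] (a b : Ω) (L Q E D : Subgroup G) (k i : ℕ) :
    Prop where
  normal : L.Normal
  simple : IsSimpleGroup L
  ne : a ≠ b
  QL : Q ≤ L
  fixQ : ∀ s ∈ Q, s • a = a
  regQ : ∀ c : Ω, c ≠ a → ∃ s ∈ Q, s • b = c
  freeQ : ∀ s ∈ Q, ∀ c : Ω, c ≠ a → s • c = c → s = 1
  memD : ∀ g : G, g ∈ D ↔ g ∈ L ∧ g • a = a ∧ g • b = b
  oddD : Odd (Nat.card D)
  commD : ∀ d ∈ D, ∀ e ∈ D, d * e = e * d
  pQ : IsPGroup 2 Q
  memQ : ∀ g ∈ L, g • a = a → IsPGroup 2 (zpowers g) → g ∈ Q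
  normQL : ∀ g ∈ L, g • a = a → ∀ s ∈ Q, g * s * g⁻¹ ∈ Q
  memE : ∀ g : G, g ∈ E ↔ g ∈ Q ∧ g * g = 1
  cenE : ∀ e ∈ E, ∀ s ∈ Q, e * s = s * e
  sqE : ∀ s ∈ Q, s * s ∈ E
  transE : ∀ e ∈ E, e ≠ 1 → ∀ f ∈ E, f ≠ 1 → ∃ d ∈ D, d * e * d⁻¹ = f
  cardE : Nat.card E = 2 ^ k
  two_le : 2 ≤ k
  cardQ : Nat.card Q = (2 ^ k) ^ i
  cardL : Nat.card L = Nat.card Q * Nat.card D * (Nat.card Q + 1)
  srV : ∀ d ∈ D, d ≠ 1 → ∀ s ∈ Q, s⁻¹ * (d * s * d⁻¹) ∈ E → s ∈ E
  fpf : ∃ d ∈ D, ∀ s ∈ Q, d * s = s * d → s = 1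
  typ : i = 1 ∨ (i = 2 ∧ Odd k ∧ Nat.card D = 2 ^ k - 1) ∨
    (i = 3 ∧ Nat.gcd 3 (2 ^ k + 1) * Nat.card D = (2 ^ k) ^ 2 - 1 ∧
      ∃ (F : Type) (_ : Field F) (_ : Fintype F), Fintype.card F = (2 ^ k) ^ 2 ∧
        Nonempty (L ≃* Cfsg.PSU 3 F (2 ^ k)))

theorem mem_map_subtype {G : Type*} [Group G] {L : Subgroup G} {Q : Subgroup L} {g : G} :
    g ∈ Q.map L.subtype ↔ ∃ h : g ∈ L, (⟨g, h⟩ : L) ∈ Q := by
  constructor
  · rintro ⟨⟨x, hx⟩, hxQ, rfl⟩
    exact ⟨hx, hxQ⟩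
  · rintro ⟨h, hQ⟩
    exact ⟨⟨g, h⟩, hQ, rfl⟩

theorem isPGroup_zpowers_coe {G : Type*} [Group G] {L : Subgroup G} {g : L}
    (h : IsPGroup 2 (zpowers (g : G))) : IsPGroup 2 (zpowers g) := by
  rintro ⟨x, hx⟩
  obtain ⟨n, rfl⟩ := mem_zpowers_iff.mp hx
  obtain ⟨m, hm⟩ := h ⟨(g : G) ^ n, zpow_mem (mem_zpowers _) n⟩
  refine ⟨m, Subtype.ext (Subtype.ext ?_)⟩
  have := congrArg Subtype.val hm
  simpa only [_root_.SubmonoidClass.mk_pow, _root_.SubmonoidClass.coe_pow, _root_.SubgroupClass.coe_zpow, _root_.OneMemClass.coe_one] using this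

/-- from the type of `L` to `G` -/
theorem bdr_of {G Ω : Type*} [Group G] [Finite G] [MulAction G Ω] {a b : Ω} {L : Subgroup G}
    (hn : L.Normal) (hs : IsSimpleGroup L) {Q E D : Subgroup L} {k i : ℕ}
    (h : Bd (G := L) a b Q E D k i) :
    Bdr a b L (Q.map L.subtype) (E.map L.subtype) (D.map L.subtype) k i where
  normal := hn
  simple := hs
  ne := h.ne
  QL := Subgroup.map_subtype_le _
  fixQ := by
    rintro _ ⟨s, hs, rfl⟩
    exact h.fixQ s hs
  regQ := by
    intro c hc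
    obtain ⟨s, hs, hsc⟩ := h.regQ c hc
    exact ⟨s, ⟨s, hs, rfl⟩, hsc⟩
  freeQ := by
    rintro _ ⟨s, hs, rfl⟩ c hc hsc
    exact congrArg Subtype.val (h.freeQ s hs c hc hsc)
  memD := by
    intro g
    rw [mem_map_subtype]
    constructor
    · rintro ⟨h1, h2⟩
      exact ⟨h1, (h.memD _).mp h2⟩
    · rintro ⟨h1, h2⟩
      exact ⟨h1, (h.memD _).mpr h2⟩
  oddD := by
    rw [Subgroup.card_map_of_injective L.subtype_injective]; exact h.oddD
  commD := by
    rintro _ ⟨d, hd, rfl⟩ _ ⟨e, he, rfl⟩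
    exact congrArg Subtype.val (h.commD d hd e he)
  pQ := h.pQ.map _
  memQ := by
    intro g hg hga hp
    exact mem_map_subtype.mpr ⟨hg, h.memQ ⟨g, hg⟩ hga (isPGroup_zpowers_coe hp)⟩
  normQL := by
    rintro g hg hga _ ⟨s, hs, rfl⟩
    exact mem_map_subtype.mpr ⟨_, h.normQ ⟨g, hg⟩ hga s hs⟩
  memE := by
    intro g
    rw [mem_map_subtype, mem_map_subtype]
    constructor
    · rintro ⟨h1, h2⟩
      have h3 := (h.memE _).mp h2
      exact ⟨⟨h1, h3.1⟩, congrArg Subtype.val h3.2⟩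
    · rintro ⟨⟨h1, h2⟩, h3⟩
      exact ⟨h1, (h.memE _).mpr ⟨h2, Subtype.ext h3⟩⟩
  cenE := by
    rintro _ ⟨e, he, rfl⟩ _ ⟨s, hs, rfl⟩
    exact congrArg Subtype.val (h.cenE e he s hs)
  sqE := by
    rintro _ ⟨s, hs, rfl⟩
    exact ⟨s * s, h.sqE s hs, rfl⟩
  transE := by
    rintro _ ⟨e, he, rfl⟩ he1 _ ⟨f, hf, rfl⟩ hf1
    obtain ⟨d, hd, hde⟩ := h.transE e he (fun hh => he1 (by rw [hh]; rfl)) f hf
      (fun hh => hf1 (by rw [hh]; rfl))
    exact ⟨d, ⟨d, hd, rfl⟩, congrArg Subtype.val hde⟩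
  cardE := by
    rw [Subgroup.card_map_of_injective L.subtype_injective]; exact h.cardE
  two_le := h.two_le
  cardQ := by
    rw [Subgroup.card_map_of_injective L.subtype_injective]; exact h.cardQ
  cardL := by
    rw [Subgroup.card_map_of_injective L.subtype_injective,
      Subgroup.card_map_of_injective L.subtype_injective]; exact h.cardG
  srV := by
    rintro _ ⟨d, hd, rfl⟩ hd1 _ ⟨s, hs, rfl⟩ hse
    obtain ⟨h1, h2⟩ := mem_map_subtype.mp hse
    exact ⟨s, h.srV d hd (fun hh => hd1 (by rw [hh]; rfl)) s hs h2, rfl⟩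
  fpf := by
    obtain ⟨d, hd, hds⟩ := h.fpf
    refine ⟨d, ⟨d, hd, rfl⟩, ?_⟩
    rintro _ ⟨s, hs, rfl⟩ hh
    rw [hds s hs (Subtype.ext hh)]; rfl
  typ := by
    rw [Subgroup.card_map_of_injective L.subtype_injective]; exact h.typ

namespace Bdr

variable {G Ω : Type*} [Group G] [MulAction G Ω] {a b : Ω} {L Q E D : Subgroup G} {k i : ℕ}

theorem EQ (h : Bdr a b L Q E D k i) : E ≤ Q := fun g hg => ((h.memE g).mp hg).1

theorem DL (h : Bdr a b L Q E D k i) : D ≤ L := fun g hg => ((h.memD g).mp hg).1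

theorem comE (h : Bdr a b L Q E D k i) {x y : G} (hx : x ∈ Q) (hy : y ∈ Q) :
    x * y * x⁻¹ * y⁻¹ ∈ E := by
  rw [comm_eq_sq]
  refine E.mul_mem (E.mul_mem (h.sqE _ (Q.mul_mem hx hy)) (h.sqE _ ?_)) (h.sqE _ (Q.inv_mem hy))
  exact Q.mul_mem (Q.mul_mem (Q.inv_mem hy) (Q.inv_mem hx)) hy

/-- `G_a` normalises `Q` -/
theorem normQ (h : Bdr a b L Q E D k i) {g : G} (hg : g • a = a) {s : G} (hs : s ∈ Q) :
    g * s * g⁻¹ ∈ Q := by
  have hn := h.normal
  refine h.memQ _ (hn.conj_mem s (h.QL hs) g) ?_ ?_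
  · have hga : g⁻¹ • a = a := by rw [inv_smul_eq_iff, hg]
    rw [mul_smul, mul_smul, hga, h.fixQ s hs, hg]
  · have h1 : IsPGroup 2 (zpowers s) := h.pQ.to_le (zpowers_le.mpr hs)
    have h2 : (zpowers s).map (MulAut.conj g).toMonoidHom = zpowers (g * s * g⁻¹) := by
      rw [MonoidHom.map_zpowers]; rfl
    rw [← h2]
    exact h1.map _

theorem normE (h : Bdr a b L Q E D k i) {g : G} (hg : g • a = a) {s : G} (hs : s ∈ E) :
    g * s * g⁻¹ ∈ E := by
  obtain ⟨h1, h2⟩ := (h.memE s).mp hs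
  refine (h.memE _).mpr ⟨h.normQ hg h1, ?_⟩
  calc g * s * g⁻¹ * (g * s * g⁻¹) = g * (s * s) * g⁻¹ := by group
    _ = 1 := by rw [h2]; group

theorem fixD (h : Bdr a b L Q E D k i) {d : G} (hd : d ∈ D) : d • a = a := ((h.memD d).mp hd).2.1

theorem fixDb (h : Bdr a b L Q E D k i) {d : G} (hd : d ∈ D) : d • b = b := ((h.memD d).mp hd).2.2

theorem relIndex_mul {H K : Subgroup G} (hHK : H ≤ K) : Nat.card H * H.relIndex K = Nat.card K := by
  have := Subgroup.relIndex_mul_relIndex ⊥ H K bot_le hHK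
  simpa only [_root_.Subgroup.relIndex_bot_left] using this

theorem four_le (h : Bdr a b L Q E D k i) : 4 ≤ 2 ^ k := by
  calc 4 = 2 ^ 2 := rfl
    _ ≤ 2 ^ k := Nat.pow_le_pow_right (by norm_num) h.two_le

theorem arith_three {q d m : ℕ} (hq4 : 4 ≤ q) (hq : ∃ k, q = 2 ^ k)
    (hg : Nat.gcd 3 (q + 1) * d = q ^ 2 - 1) (hd : d ∣ m - 1) (hm : m ∣ q ^ 2) (hm1 : m ≠ 1) :
    m = q ^ 2 := by
  have hq2 : 16 ≤ q ^ 2 := by nlinarith only [hq4]
  have hmpos : 0 < m := Nat.pos_of_dvd_of_pos hm (by omega)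
  have hmle : m ≤ q ^ 2 := Nat.le_of_dvd (by omega) hm
  obtain ⟨c, hc⟩ := hd
  have hg3 : Nat.gcd 3 (q + 1) = 1 ∨ Nat.gcd 3 (q + 1) = 3 := by
    have := Nat.gcd_dvd_left 3 (q + 1)
    exact (Nat.dvd_prime Nat.prime_three).mp this
  obtain ⟨k, hk⟩ := hq
  have hk2 : q ^ 2 = 2 ^ (2 * k) := by rw [hk, ← pow_mul, mul_comm]
  obtain ⟨j, hj, hmj⟩ := (Nat.dvd_prime_pow Nat.prime_two).mp (hk2 ▸ hm)
  have hj0 : j ≠ 0 := by
    intro h0
    rw [h0, pow_zero] at hmj
    exact hm1 hmj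
  have heven : 2 ∣ m := by rw [hmj]; exact dvd_pow_self 2 hj0
  have hq2e : 4 ∣ q ^ 2 := by
    rw [hk2]
    have : 2 ≤ 2 * k := by
      rcases Nat.eq_zero_or_pos k with h0 | h0
      · rw [h0, pow_zero] at hk; omega
      · omega
    exact (pow_dvd_pow 2 this)
  rcases hg3 with h1 | h1
  · rw [h1, one_mul] at hg
    have hcpos : c ≠ 0 := by
      rintro rfl
      omega
    have : c = 1 ∨ 2 ≤ c := by omega
    rcases this with rfl | h2
    · (clear * - hg hmpos hmle hc; omega)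
    · have : d * 2 ≤ d * c := Nat.mul_le_mul_left d h2
      (clear * - hg hmpos hmle hc this; omega)
  · rw [h1] at hg
    have hcpos : c ≠ 0 := by
      rintro rfl
      omega
    have : c = 1 ∨ c = 2 ∨ c = 3 ∨ 4 ≤ c := by omega
    rcases this with rfl | rfl | rfl | h2
    · -- `3 m = q² + 2`
      exfalso
      have h3 : 3 * m = q ^ 2 + 2 := by (clear * - hg hq2 hc; omega)
      -- `m` is 2 mod 4
      have hj1 : j = 1 := by
        by_contra hj1
        have h4 : 4 ∣ m := by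
          rw [hmj]
          exact pow_dvd_pow 2 (show 2 ≤ j by (clear * - hq2 hk2 hmj hj0 heven hq2e hcpos h3 hj1; omega))
        (clear * - hq2e h3 h4; omega)
      rw [hj1, pow_one] at hmj
      omega
    · exfalso
      omega
    · (clear * - hg hmpos hmle hmj hc; omega)
    · have : d * 4 ≤ d * c := Nat.mul_le_mul_left d h2
      (clear * - hg hmpos hmle hc hmj h2 this; omega)

/-- a `D`-invariant subgroup between `E` and `Q` is `E` or `Q` -/
theorem eq_or_eq [Finite G] (h : Bdr a b L Q E D k i) {S : Subgroup G} (hES : E ≤ S) (hSQ : S ≤ Q)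
    (hD : ∀ d ∈ D, ∀ s ∈ S, d * s * d⁻¹ ∈ S) : S = E ∨ S = Q := by
  have h4 := h.four_le
  have hcE := h.cardE
  have hcQ := h.cardQ
  rcases h.typ with h1 | ⟨h1, -, h2⟩ | ⟨h1, h2, -⟩
  · left
    rw [h1, pow_one, ← hcE] at hcQ
    have h5 := Subgroup.eq_of_le_of_card_ge h.EQ hcQ.le
    exact le_antisymm (hSQ.trans h5.ge) hES
  · -- type 2
    have hdvd : Nat.card D ∣ E.relIndex S - 1 :=
      Cfsg.Agent.H23.FreeAct.card_dvd_relIndex_sub hD (fun d hd e he => h.normE (h.fixD hd) he)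
        (fun d hd hd1 s hs hse => h.srV d hd hd1 s (hSQ hs) hse)
    have hm1 := relIndex_mul hES
    by_cases hm : E.relIndex S = 1
    · left
      exact le_antisymm (Subgroup.relIndex_eq_one.mp hm) hES
    right
    apply Subgroup.eq_of_le_of_card_ge hSQ
    have hpos : 0 < E.relIndex S := by
      rcases Nat.eq_zero_or_pos (E.relIndex S) with h0 | h0
      · rw [h0, mul_zero] at hm1
        have := Nat.card_pos (α := S)
        omega
      · exact h0
    have h5 : 2 ^ k - 1 ≤ E.relIndex S - 1 := by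
      rw [← h2]; exact Nat.le_of_dvd (by omega) hdvd
    have h6 : 2 ^ k ≤ E.relIndex S := by omega
    rw [hcQ, h1, ← hm1, hcE, pow_two]
    exact Nat.mul_le_mul_left _ h6
  · -- type 3
    have hdvd : Nat.card D ∣ E.relIndex S - 1 :=
      Cfsg.Agent.H23.FreeAct.card_dvd_relIndex_sub hD (fun d hd e he => h.normE (h.fixD hd) he)
        (fun d hd hd1 s hs hse => h.srV d hd hd1 s (hSQ hs) hse)
    have hm1 := relIndex_mul hES
    have hm3 := relIndex_mul hSQ
    by_cases hm : E.relIndex S = 1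
    · left
      exact le_antisymm (Subgroup.relIndex_eq_one.mp hm) hES
    right
    apply Subgroup.eq_of_le_of_card_ge hSQ
    have h5 : E.relIndex S ∣ (2 ^ k) ^ 2 := by
      have h6 : Nat.card S ∣ Nat.card Q := ⟨_, hm3.symm⟩
      rw [hcQ, h1, ← hm1, hcE, pow_succ' (2 ^ k) 2] at h6
      exact Nat.dvd_of_mul_dvd_mul_left (by omega) h6
    have h6 := arith_three h4 ⟨k, rfl⟩ h2 hdvd h5 hm
    rw [hcQ, h1, ← hm1, hcE, h6, ← pow_succ']

end Bdr

end Cfsg.Agent.H23.BD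
end

private theorem dce_b3c1cbe9abcc : _root_.True := by
  try have : _root_.True := by simp only [_root_.Cfsg.Agent.H23.AschKer.ker.eq_1]
  try have : _root_.True := by simp only [_root_.Cfsg.Agent.H23.RankOneBd.Esub.congr_simp]
  exact _root_.True.intro
end

-- part: S1911
section
prune_inst 0x1000000100000000000000000000400000000000400000000000000000000000000000000000100000000000000000000000000000000000000000000400000002000000000000000000000000000000000000000000000000000000000000000000000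
set_option linter.all false
open scoped Cfsg.Agent.FastGrp

-- part: AschCrit/AC
section
/-!
# Aschbacher's criterion for groups which are not simple

`M < H`, `z` a 2-central involution of `H` in `M`, `z ^ h ∈ M → h ∈ M`, `C(z z^h) ≤ M` for commuting
`z ≠ z^h`, `z` not isolated, `core_H(M) = 1`.  Then the normal closure `E` of `z` is simple and
`E ∩ M` is strongly embedded in `E`.
-/

set_option autoImplicit false

universe u

namespace Cfsg.Agent.AschCrit.AC

open Cfsg Cfsg.Agent.AschCrit.Basic Cfsg.Agent.AschCrit.Basic.Setup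
open Cfsg.Agent.AschCrit.Closed Cfsg.Agent.AschCrit.Descent Cfsg.Agent.AschCrit.NonIso
open Cfsg.Agent.AschCrit.BGroup Cfsg.Agent.AschCrit.InductFaithful Cfsg.Agent.AschCrit.Induct

theorem noBadBelow (N : ℕ) : NoBadBelow.{u} N :=
  Frame.noBadBelow_of_step
    (Final.stepHolds (fun _ _ _ hK => Cfsg.Agent.S0205.result hK)
      (fun X _ _ => Cfsg.Agent.StrongEmb.Main.bender X) CommThree.caseThree) N

end Cfsg.Agent.AschCrit.AC
end

-- part: H23/SEmb
section
/-!
# Strong embedding of `H ∩ K` in `K`: introduction and elimination; the isolated case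

* `not_se` : no involution of `L` has all its `L`-conjugates in `H` if `H ∩ L` is strongly embedded in `L`
* `se_of` : criterion for `H ∩ K` to be strongly embedded in `K`
* `iso_of_not_nonIso` : an involution commuting with no other conjugate is isolated
-/

set_option autoImplicit false

open Subgroup

namespace Cfsg.Agent.H23.SEmb

open Cfsg.Agent.TwoFusion.StronglyEmbeddedBasic Cfsg.Agent.AschCrit.Basic
open Cfsg.Agent.H23.AschKer

variable {G : Type*} [Group G]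

theorem mem_map_conj {H : Subgroup G} {g x : G} :
    x ∈ H.map (MulAut.conj g).toMonoidHom ↔ g⁻¹ * x * g ∈ H := by
  constructor
  · rintro ⟨y, hy, rfl⟩
    have : g⁻¹ * (g * y * g⁻¹) * g = y := by group
    simpa only [this, _root_.MulEquiv.toMonoidHom_eq_coe, _root_.MonoidHom.coe_coe, _root_.MulAut.conj_apply, _root_.SetLike.mem_coe] using hy
  · intro hx
    exact ⟨g⁻¹ * x * g, hx, by simp only [mul_assoc, _root_.MulEquiv.toMonoidHom_eq_coe, _root_.MonoidHom.coe_coe, _root_.MulAut.conj_apply, _root_.mul_inv_cancel_left, _root_.mul_inv_cancel, _root_.mul_one]⟩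

/-- introduction -/
theorem se_of [Finite G] {H K : Subgroup G} (hK : ¬ K ≤ H) {z : G} (hz : orderOf z = 2)
    (hzK : z ∈ K) (hzH : z ∈ H)
    (h : ∀ v ∈ K, orderOf v = 2 → v ∈ H → ∀ g ∈ K, g⁻¹ * v * g ∈ H → g ∈ H) :
    Cfsg.IsStronglyEmbedded (H.subgroupOf K) := by
  refine ⟨?_, ?_, ?_⟩
  · intro hc
    apply hK
    intro x hx
    have : (⟨x, hx⟩ : K) ∈ H.subgroupOf K := hc ▸ Subgroup.mem_top _
    exact Subgroup.mem_subgroupOf.mp this
  · have h1 : (⟨z, hzK⟩ : K) ∈ H.subgroupOf K := Subgroup.mem_subgroupOf.mpr hzH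
    have h2 : orderOf (⟨z, hzK⟩ : K) ∣ Nat.card (H.subgroupOf K) := by
      rw [← Subgroup.orderOf_mk _ h1]; exact _root_.orderOf_dvd_natCard _
    rw [Subgroup.orderOf_mk, hz] at h2
    exact even_iff_two_dvd.mpr h2
  · intro g hg
    by_contra hodd
    rw [Nat.not_odd_iff_even, even_iff_two_dvd] at hodd
    obtain ⟨⟨v, hv⟩, hv2⟩ := exists_prime_orderOf_dvd_card' 2 hodd
    rw [Subgroup.orderOf_mk] at hv2
    have hv2' : orderOf (v : G) = 2 := by rw [Subgroup.orderOf_coe]; exact hv2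
    apply hg
    rw [Subgroup.mem_subgroupOf]
    have h1 := mem_map_conj.mp hv.2
    exact h v v.2 hv2' (Subgroup.mem_subgroupOf.mp hv.1) g g.2 (Subgroup.mem_subgroupOf.mp h1)

/-- an involution commuting with no other conjugate is isolated -/
theorem iso_of [Finite G] {z : G} (hz : orderOf z = 2)
    (h : ∀ d : G, IsConj z d → Commute z d → d = z) : Cfsg.Agent.Involutions.ZStar.Iso z := by
  refine ⟨mul_self_of_orderOf hz, fun g => ?_⟩
  by_contra hodd
  obtain ⟨w, -, hw2, hwz, -, hwc⟩ := exists_central z (g * z * g⁻¹) hz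
    (by rw [orderOf_conj, hz]) (orderOf_pos _) hodd
  have hzw : IsConj z (z * w) := by
    rcases hwc with hc | hc
    · exact hc
    · exact (isConj_iff.mpr ⟨g, rfl⟩ : IsConj z (g * z * g⁻¹)).trans hc
  have hw1 : w ≠ 1 := by
    intro h1; rw [h1, orderOf_one] at hw2; exact absurd hw2 (by norm_num)
  have := h _ hzw ((Commute.refl z).mul_right hwz.symm)
  exact hw1 (by simpa using this)

end Cfsg.Agent.H23.SEmb
end

-- part: H23/AschBad
section
/-!
# Aschbacher's criterion without faithfulness: bad involutions of the normal closure of `z` act trivially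

* `setup_im` : the set-up of the image in the permutations of the points
* `mem_ker_of_bad` : a bad involution of the normal closure of `z` acts trivially if `z` is not isolated
-/

set_option autoImplicit false

universe u

open Subgroup

namespace Cfsg.Agent.H23.AschBad

open Cfsg MulAction
open Cfsg.Agent.TwoFusion.StronglyEmbeddedBasic Cfsg.Agent.AschCrit.Basic
open Cfsg.Agent.AschCrit.Basic.Setup Cfsg.Agent.AschCrit.Closed Cfsg.Agent.AschCrit.Descent
open Cfsg.Agent.AschCrit.NonIso Cfsg.Agent.AschCrit.InductFaithful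
open Cfsg.Agent.AschCrit.InductAct Cfsg.Agent.AschCrit.BGroup Cfsg.Agent.AschCrit.Induct
open Cfsg.Agent.H23.AschKer

variable {K Ψ : Type u} [Group K] [Finite K] [MulAction K Ψ] {z : K}

omit [Finite K] in
theorem pr_smul (g : K) (a : Ψ) : pr K Ψ g • a = g • a := rfl

omit [Finite K] in
theorem pr_surjective : Function.Surjective (pr K Ψ) := (toPermHom K Ψ).rangeRestrict_surjective

omit [Finite K] in
theorem pr_eq_one_iff {g : K} : pr K Ψ g = 1 ↔ g ∈ ker K Ψ := by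
  rw [mem_ker]
  constructor
  · intro h a
    rw [← pr_smul, h, one_smul]
  · intro h
    apply Subtype.ext
    ext a
    exact h a

instance : Finite (Im K Ψ) := Finite.of_surjective _ (pr_surjective (K := K) (Ψ := Ψ))

omit [Finite K] in
theorem faithful_im : ∀ g : Im K Ψ, (∀ a : Ψ, g • a = a) → g = 1 := by
  intro g hg
  apply Subtype.ext
  ext a
  exact hg a

theorem setup_im (h : Setup K Ψ z) : Setup (Im K Ψ) Ψ (pr K Ψ z) :=
  setup_map h (pr K Ψ) pr_surjective pr_smul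

theorem nonIso_im (h : Setup K Ψ z) (hn : NonIso z) : NonIso (pr K Ψ z) := by
  obtain ⟨d, hd, hzd, hne⟩ := id hn
  exact ⟨pr K Ψ d, (pr K Ψ).map_isConj hd, hzd.map (pr K Ψ), fun hh =>
    hne (eq_of_map_eq (pr K Ψ) h pr_smul (IsConj.refl z) hd hzd hh.symm).symm⟩

/-- a bad involution of the normal closure of `z` acts trivially -/
theorem mem_ker_of_bad (hN : ∀ N : ℕ, NoBadBelow.{u} N) (h : Setup K Ψ z) (hn : NonIso z) {v : K}
    (hv : v ∈ normalClosure ({z} : Set K)) (hb : Bad Ψ v) : v ∈ ker K Ψ := by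
  by_contra hk
  have h1 := noBad_of_below (hN (Nat.card (Im K Ψ) + 1)) (setup_im h) faithful_im (nonIso_im h hn)
    (Nat.lt_succ_self _) (pr K Ψ v) (by
      have h2 : (normalClosure ({z} : Set K)).map (pr K Ψ) =
          normalClosure ((pr K Ψ) '' ({z} : Set K)) :=
        Subgroup.map_normalClosure _ _ pr_surjective
      rw [Set.image_singleton] at h2
      show pr K Ψ v ∈ normalClosure ({pr K Ψ z} : Set (Im K Ψ))
      rw [← h2]
      exact ⟨v, hv, rfl⟩)
  apply h1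
  obtain ⟨hv2, a, b, hab, ha, hb'⟩ := hb
  refine ⟨orderOf_eq_two_of_mul_self ?_ ?_, a, b, hab, ha, hb'⟩
  · rw [← map_mul, mul_self_of_orderOf hv2, map_one]
  · intro h3
    exact hk (pr_eq_one_iff.mp h3)

end Cfsg.Agent.H23.AschBad
end

-- part: H23/BdrEx
section
/-!
# Aschbacher's set-up: the normal closure of `z` in the permutation group is a Bender group

* `exists_bdr` : the facts `Bdr` for the image of the normal closure of a non-isolated `z`
-/

set_option autoImplicit false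

universe u

open Subgroup

namespace Cfsg.Agent.H23.BdrEx

open Cfsg MulAction
open Cfsg.Agent.TwoFusion.StronglyEmbeddedBasic Cfsg.Agent.AschCrit.Basic
open Cfsg.Agent.AschCrit.Basic.Setup Cfsg.Agent.AschCrit.Closed Cfsg.Agent.AschCrit.Descent
open Cfsg.Agent.AschCrit.NonIso Cfsg.Agent.AschCrit.InductFaithful
open Cfsg.Agent.AschCrit.InductAct Cfsg.Agent.AschCrit.BGroup Cfsg.Agent.AschCrit.Induct
open Cfsg.Agent.StrongEmb.Split
open Cfsg.Agent.H23.AschKer Cfsg.Agent.H23.AschBad Cfsg.Agent.H23.BD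

variable {K Ψ : Type u} [Group K] [Finite K] [MulAction K Ψ] {z : K}

theorem exists_bdr (hN : ∀ N : ℕ, NoBadBelow.{u} N)
    (hB : ∀ (X : Type u) [Group X] [Finite X], BenderHolds X) (h : Setup K Ψ z)
    (hn : NonIso z) (a : Ψ) : ∃ (b : Ψ) (Q E D : Subgroup (Im K Ψ)) (k i : ℕ),
      Bdr a b (L (pr K Ψ z)) Q E D k i := by
  obtain ⟨k, i, hact, hall⟩ := bact (hN (Nat.card K + 1)) hB h hn (Nat.lt_succ_self _)
  obtain ⟨t, Qa, hS, hp, hcard, hq⟩ := hall a
  have hsim : IsSimpleGroup (L (pr K Ψ z)) :=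
    isSimpleGroup_closure (setup_im h) faithful_im (nonIso_im h hn)
  have hfaith : FaithfulSMul (L (pr K Ψ z)) Ψ := by
    refine ⟨fun {g g'} hg => ?_⟩
    apply Subtype.ext
    have h1 : ((g'⁻¹ * g : L (pr K Ψ z)) : Im K Ψ) = 1 := by
      apply faithful_im
      intro c
      show (g'⁻¹ * g : L (pr K Ψ z)) • c = c
      rw [mul_smul, hg c, inv_smul_smul]
    have h2 : g'⁻¹ * g = 1 := Subtype.ext h1
    rw [inv_mul_eq_one] at h2
    rw [h2]
  have h2 : ∃ x y : L (pr K Ψ z), x ≠ 1 ∧ y ≠ 1 ∧ x ≠ y ∧ x * x = 1 ∧ y * y = 1 ∧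
      x * y = y * x := by
    have hSI := setup_im h
    obtain ⟨d, hd, hzd, hne⟩ := nonIso_im h hn
    have hne1 : ∀ e : Im K Ψ, IsConj (pr K Ψ z) e → e ≠ 1 := by
      intro e he h1
      have := hSI.orderOf_eq he
      rw [h1, orderOf_one] at this
      exact absurd this (by norm_num)
    refine ⟨⟨pr K Ψ z, mem_L (IsConj.refl _)⟩, ⟨d, mem_L hd⟩, ?_, ?_, ?_, ?_, ?_, ?_⟩
    · exact fun hh => hne1 _ (IsConj.refl _) (congrArg Subtype.val hh)
    · exact fun hh => hne1 _ hd (congrArg Subtype.val hh)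
    · exact fun hh => hne (congrArg Subtype.val hh).symm
    · exact Subtype.ext (hSI.mul_self (IsConj.refl _))
    · exact Subtype.ext (hSI.mul_self hd)
    · exact Subtype.ext hzd.eq
  exact ⟨_, _, _, _, k, i, bdr_of normalClosure_normal hsim
    (Cfsg.Agent.H23.RankOneBd.bd hS h2 hact.two_le hact.one_le hact.le_three hq hcard hp)⟩

end Cfsg.Agent.H23.BdrEx
end

-- part: H23/Parity
section
/-!
# Groups of class two: a quotient with derived group of order 2

`exists_quotient` : `P` of class two with `[P, P]` and all squares in the central subgroup `M`, `[P, P] ≰ Ep ≤ M`: there is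
`Ep ≤ N ≤ M` with `[P, P] ≰ N` such that the subgroup of the elements central modulo `N` has index `2 ^ (2 n)`.
-/

set_option autoImplicit false

open Subgroup

namespace Cfsg.Agent.H23.Parity

open scoped commutatorElement

theorem exists_quotient {P : Type*} [Group P] [Finite P] {Ep M : Subgroup P} (hEM : Ep ≤ M)
    (hMc : M ≤ center P) (hPM : commutator P ≤ M) (hsq : ∀ x : P, x * x ∈ M)
    (hne : ¬ commutator P ≤ Ep) :
    ∃ N : Subgroup P, Ep ≤ N ∧ N ≤ M ∧ ∃ S : Subgroup P,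
      (∀ x, x ∈ S ↔ ∀ y, x * y * x⁻¹ * y⁻¹ ∈ N) ∧ S ≠ ⊤ ∧ ∃ n : ℕ, S.index = 2 ^ (2 * n) := by
  classical
  have hfin : Finite (Subgroup P) := inferInstance
  obtain ⟨N, ⟨hEN, hNM, hPN⟩, hmax⟩ :=
    Set.Finite.exists_maximalFor id {N : Subgroup P | Ep ≤ N ∧ N ≤ M ∧ ¬ commutator P ≤ N}
      (Set.toFinite _) ⟨Ep, le_rfl, hEM, hne⟩
  have hNn : N.Normal := by
    refine ⟨fun n hn g => ?_⟩
    have := mem_center_iff.mp (hMc (hNM hn)) g
    rw [this, mul_inv_cancel_right]; exact hn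
  refine ⟨N, hEN, hNM, (center (P ⧸ N)).comap (QuotientGroup.mk' N), ?_, ?_, ?_⟩
  · intro x
    rw [mem_comap, mem_center_iff]
    constructor
    · intro h y
      rw [← QuotientGroup.eq_one_iff]
      have h1 := h (QuotientGroup.mk' N y)
      rw [QuotientGroup.mk'_apply, QuotientGroup.mk'_apply] at h1
      rw [QuotientGroup.mk_mul, QuotientGroup.mk_mul, QuotientGroup.mk_mul, ← h1]
      simp
    · intro h g
      obtain ⟨y, rfl⟩ := QuotientGroup.mk'_surjective N g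
      have h1 := h y
      rw [← QuotientGroup.eq_one_iff] at h1
      rw [QuotientGroup.mk_mul, QuotientGroup.mk_mul, QuotientGroup.mk_mul,
        QuotientGroup.mk_inv, QuotientGroup.mk_inv, mul_inv_eq_one, mul_inv_eq_iff_eq_mul] at h1
      exact h1.symm
  · intro htop
    apply hPN
    rw [commutator_def, Subgroup.commutator_le]
    intro x _ y _
    have hx : x ∈ (center (P ⧸ N)).comap (QuotientGroup.mk' N) := htop ▸ mem_top x
    rw [mem_comap, mem_center_iff] at hx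
    have h1 := hx (QuotientGroup.mk' N y)
    rw [QuotientGroup.mk'_apply, QuotientGroup.mk'_apply] at h1
    rw [commutatorElement_def, ← QuotientGroup.eq_one_iff, QuotientGroup.mk_mul,
      QuotientGroup.mk_mul, QuotientGroup.mk_mul, ← h1]
    simp
  · rw [index_comap_of_surjective _ (QuotientGroup.mk'_surjective N)]
    -- a commutator outside `N`
    obtain ⟨x, y, hxy⟩ : ∃ x y : P, ⁅x, y⁆ ∉ N := by
      by_contra hcon
      push Not at hcon
      apply hPN
      rw [commutator_def, Subgroup.commutator_le]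
      exact fun x _ y _ => hcon x y
    have hcM : ⁅x, y⁆ ∈ M := hPM (Cfsg.Agent.Transfer.Extraspecial.comm_mem x y)
    have hcc := mem_center_iff.mp (hMc hcM)
    have hc2 : ⁅x, y⁆ * ⁅x, y⁆ = 1 := by
      have h1 := mem_center_iff.mp (hMc (hsq x)) y
      have h2 := hcc x
      -- `x y x⁻¹ = c y`
      have h3 : x * y * x⁻¹ = ⁅x, y⁆ * y := by rw [commutatorElement_def]; group
      have h4 : x * x * y * (x * x)⁻¹ = ⁅x, y⁆ * ⁅x, y⁆ * y := by
        calc x * x * y * (x * x)⁻¹ = x * (x * y * x⁻¹) * x⁻¹ := by group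
          _ = (x * ⁅x, y⁆) * y * x⁻¹ := by rw [h3]; group
          _ = ⁅x, y⁆ * (x * y * x⁻¹) := by rw [h2]; group
          _ = ⁅x, y⁆ * ⁅x, y⁆ * y := by rw [h3]; group
      have h5 : x * x * y * (x * x)⁻¹ = y := by rw [← h1]; group
      rw [h5] at h4
      exact (mul_eq_right.mp h4.symm)
    have hle : commutator P ≤ zpowers ⁅x, y⁆ ⊔ N := by
      by_contra hcon
      have h1 : zpowers ⁅x, y⁆ ⊔ N ∈ {N : Subgroup P | Ep ≤ N ∧ N ≤ M ∧ ¬ commutator P ≤ N} :=
        ⟨hEN.trans le_sup_right, sup_le (zpowers_le.mpr hcM) hNM, hcon⟩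
      have h2 := hmax h1 (show id N ≤ id (zpowers ⁅x, y⁆ ⊔ N) from le_sup_right)
      exact hxy (h2 (mem_sup_left (mem_zpowers _)))
    have hcard : Nat.card (commutator (P ⧸ N)) ∣ 2 := by
      have h1 : commutator (P ⧸ N) ≤ zpowers (QuotientGroup.mk' N ⁅x, y⁆) := by
        have h2 : commutator (P ⧸ N) = (commutator P).map (QuotientGroup.mk' N) := by
          rw [commutator_def, commutator_def, map_commutator,
            Subgroup.map_top_of_surjective _ (QuotientGroup.mk'_surjective N)]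
        rw [h2]
        refine (Subgroup.map_mono hle).trans ?_
        rw [Subgroup.map_sup, MonoidHom.map_zpowers]
        refine sup_le le_rfl ?_
        rintro _ ⟨n, hn, rfl⟩
        have h5 : QuotientGroup.mk' N n = 1 := (QuotientGroup.eq_one_iff n).mpr hn
        rw [h5]
        exact one_mem _
      refine (Subgroup.card_dvd_of_le h1).trans ?_
      rw [Nat.card_zpowers]
      apply orderOf_dvd_of_pow_eq_one
      rw [pow_two, ← map_mul, hc2, map_one]
    have : Fact (Nat.Prime 2) := ⟨Nat.prime_two⟩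
    refine Cfsg.Agent.Transfer.Extraspecial.exists_index_center_eq (p := 2) _ rfl ?_ hcard
    intro a b
    obtain ⟨a, rfl⟩ := QuotientGroup.mk'_surjective N a
    obtain ⟨b, rfl⟩ := QuotientGroup.mk'_surjective N b
    rw [← map_commutatorElement, mem_center_iff]
    intro g
    obtain ⟨g, rfl⟩ := QuotientGroup.mk'_surjective N g
    have := mem_center_iff.mp (hMc (hPM (Cfsg.Agent.Transfer.Extraspecial.comm_mem a b))) g
    rw [← map_mul, this, map_mul]

end Cfsg.Agent.H23.Parity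
end

-- part: H23/CentralKer
section
/-!
# The kernel of the action and the derived group of the normal closure of `z`

`TS G Ω z a R` : the set-up with a normal subgroup `R ∋ z` of `G_a` meeting the kernel trivially, the kernel having
no core.  With `X` the normal closure of `z`:

* `pow_index_mem` : transfer
* `TS.eq_one_of_commutator` : `[X, X]` meets the kernel trivially
-/

set_option autoImplicit false

universe u

open Subgroup

namespace Cfsg.Agent.H23.CentralKer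

open Cfsg MulAction
open Cfsg.Agent.TwoFusion.StronglyEmbeddedBasic Cfsg.Agent.AschCrit.Basic
open Cfsg.Agent.AschCrit.Basic.Setup Cfsg.Agent.AschCrit.Closed Cfsg.Agent.AschCrit.Descent
open Cfsg.Agent.AschCrit.NonIso Cfsg.Agent.AschCrit.InductFaithful
open Cfsg.Agent.AschCrit.InductAct Cfsg.Agent.AschCrit.BGroup Cfsg.Agent.AschCrit.Induct
open Cfsg.Agent.H23.AschKer Cfsg.Agent.H23.AschBad Cfsg.Agent.H23.BD
open scoped commutatorElement

/-- a central element of the derived group: its power by the index of `P` lies in `Eh ≥ [P, P]` -/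
theorem pow_index_mem {X : Type*} [Group X] [Finite X] {P Eh : Subgroup X}
    (hcom : ∀ x ∈ P, ∀ y ∈ P, x * y * x⁻¹ * y⁻¹ ∈ Eh) {c : X} (hcc : ∀ x, x * c = c * x)
    (hc : c ∈ commutator X) : c ^ P.index ∈ Eh := by
  have key : ∀ (k : ℕ) (g₀ : X), g₀⁻¹ * c ^ k * g₀ ∈ P → g₀⁻¹ * c ^ k * g₀ = c ^ k := by
    intro k g₀ _
    have h2 : Commute c g₀ := (hcc g₀).symm
    rw [mul_assoc, (h2.pow_left k).eq]; group
  have h3 := MonoidHom.transfer_eq_pow (Abelianization.of (G := P)) c key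
  have h4 : MonoidHom.transfer (Abelianization.of (G := P)) c = 1 :=
    (Abelianization.commutator_subset_ker _) hc
  rw [h4] at h3
  have h5 : (⟨c ^ P.index, MonoidHom.transfer_eq_pow_aux c key⟩ : P) ∈ commutator P := by
    rw [← Abelianization.ker_of, MonoidHom.mem_ker]; exact h3.symm
  have h6 : commutator P ≤ Eh.subgroupOf P := by
    rw [commutator_def, Subgroup.commutator_le]
    intro x _ y _
    rw [Subgroup.mem_subgroupOf, commutatorElement_def]
    exact hcom x x.2 y y.2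
  exact Subgroup.mem_subgroupOf.mp (h6 h5)

/-- the set-up -/
structure TS (G Ω : Type u) [Group G] [MulAction G Ω] (z : G) (a : Ω) (R : Subgroup G) : Prop where
  setup : Setup G Ω z
  nonIso : NonIso z
  fa : z • a = a
  Ra : ∀ r ∈ R, r • a = a
  Rn : ∀ g : G, g • a = a → ∀ r ∈ R, g * r * g⁻¹ ∈ R
  zR : z ∈ R
  Ri : ∀ r ∈ R, r * r = 1 → r ≠ 1 → ∀ c : Ω, r • c = c → c = a
  Rk : ∀ r ∈ R, r ∈ ker G Ω → r = 1
  core : kcore G Ω = ⊥

namespace TS

variable {G Ω : Type u} [Group G] [Finite G] [MulAction G Ω] {z : G} {a b : Ω} {R : Subgroup G}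
  {Q E D : Subgroup (Im G Ω)} {k i : ℕ}

omit [Finite G] in
theorem comm_R (h : TS G Ω z a R) {n r : G} (hn : n ∈ ker G Ω) (hr : r ∈ R) : n * r = r * n := by
  have h1 : n * r * n⁻¹ * r⁻¹ = 1 := by
    apply h.Rk
    · exact R.mul_mem (h.Rn n (mem_ker.mp hn a) r hr) (R.inv_mem hr)
    · have e : n * r * n⁻¹ * r⁻¹ = n * (r * n⁻¹ * r⁻¹) := by group
      rw [e]
      exact mul_mem hn (ker_normal.conj_mem _ (inv_mem hn) r)
  rw [mul_inv_eq_one, mul_inv_eq_iff_eq_mul] at h1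
  exact h1

omit [Finite G] in
/-- the kernel centralises the normal closure of `R` -/
theorem comm_K (h : TS G Ω z a R) {n x : G} (hn : n ∈ ker G Ω)
    (hx : x ∈ normalClosure (R : Set G)) : n * x = x * n := by
  have hle : normalClosure (R : Set G) ≤ centralizer ((ker G Ω : Subgroup G) : Set G) := by
    refine normalClosure_le_normal ?_
    intro r hr
    rw [SetLike.mem_coe, mem_centralizer_iff]
    intro m hm
    exact h.comm_R hm hr
  exact (mem_centralizer_iff.mp (hle hx)) n hn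

omit [Finite G] in
theorem X_le (h : TS G Ω z a R) : normalClosure ({z} : Set G) ≤ normalClosure (R : Set G) :=
  normalClosure_mono (Set.singleton_subset_iff.mpr h.zR)

omit [Finite G] in
theorem comm_X (h : TS G Ω z a R) {n x : G} (hn : n ∈ ker G Ω)
    (hx : x ∈ normalClosure ({z} : Set G)) : n * x = x * n := h.comm_K hn (h.X_le hx)

/-- no elements of odd order in `X ∩ N₀` -/
theorem eq_one_of_odd (h : TS G Ω z a R) {c : G} (hc : c ∈ ker G Ω)
    (hx : c ∈ normalClosure ({z} : Set G)) (hodd : Odd (orderOf c)) : c = 1 := by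
  set N : Subgroup G := normalClosure ({z} : Set G) ⊓ ker G Ω with hN
  have hNn : N.Normal := inferInstance
  have h1 := Cfsg.Agent.Lib.Cores.map_subtype_pPrimeCore 2 hNn
  have hcN : c ∈ N := ⟨hx, hc⟩
  have hzn : (zpowers (⟨c, hcN⟩ : N)).Normal := by
    refine ⟨?_⟩
    rintro x hx' ⟨g, hg⟩
    obtain ⟨j, rfl⟩ := mem_zpowers_iff.mp hx'
    have h2 : (⟨g, hg⟩ : N) * ⟨c, hcN⟩ = ⟨c, hcN⟩ * ⟨g, hg⟩ :=
      Subtype.ext (h.comm_X hg.2 hx)
    have h3 : (⟨g, hg⟩ : N) * ⟨c, hcN⟩ ^ j * (⟨g, hg⟩ : N)⁻¹ = ⟨c, hcN⟩ ^ j := by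
      rw [((show Commute (⟨g, hg⟩ : N) ⟨c, hcN⟩ from h2).zpow_right j).eq]; group
    rw [h3]; exact hx'
  have h2 : (⟨c, hcN⟩ : N) ∈ pPrimeCore 2 N := by
    refine (Cfsg.Agent.Lib.Cores.le_pPrimeCore hzn ?_) (mem_zpowers _)
    rw [Nat.card_zpowers, Subgroup.orderOf_mk]
    exact Nat.coprime_two_right.mpr hodd
  have h3 : c ∈ (pPrimeCore 2 N).map N.subtype := ⟨_, h2, rfl⟩
  rw [h1] at h3
  have h4 : c ∈ kcore G Ω := ⟨hc, h3.2⟩
  rw [h.core, Subgroup.mem_bot] at h4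
  exact h4

omit [Finite G] in
theorem exists_lift {l : Im G Ω} (hl : l ∈ L (pr G Ω z)) :
    ∃ x ∈ normalClosure ({z} : Set G), pr G Ω x = l := by
  have h2 : (normalClosure ({z} : Set G)).map (pr G Ω) = normalClosure ((pr G Ω) '' ({z} : Set G)) :=
    Subgroup.map_normalClosure _ _ pr_surjective
  rw [Set.image_singleton] at h2
  have h3 : l ∈ (normalClosure ({z} : Set G)).map (pr G Ω) := by rw [h2]; exact hl
  exact h3

omit [Finite G] in
theorem pr_mem {x : G} (hx : x ∈ normalClosure ({z} : Set G)) :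
    pr G Ω x ∈ L (pr G Ω z) := by
  have h2 : (normalClosure ({z} : Set G)).map (pr G Ω) = normalClosure ((pr G Ω) '' ({z} : Set G)) :=
    Subgroup.map_normalClosure _ _ pr_surjective
  rw [Set.image_singleton] at h2
  show pr G Ω x ∈ normalClosure ({pr G Ω z} : Set (Im G Ω))
  rw [← h2]
  exact ⟨x, hx, rfl⟩

omit [Finite G] in
theorem R_inj (h : TS G Ω z a R) {r s : G} (hr : r ∈ R) (hs : s ∈ R)
    (hrs : pr G Ω r = pr G Ω s) : r = s := by
  have h1 : r * s⁻¹ ∈ ker G Ω := by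
    rw [← pr_eq_one_iff, map_mul, map_inv, hrs, mul_inv_cancel]
  exact mul_inv_eq_one.mp (h.Rk _ (R.mul_mem hr (R.inv_mem hs)) h1)

/-- lifts of the elements of `E` -/
theorem exists_lift_E (h : TS G Ω z a R) (hB : Bdr a b (L (pr G Ω z)) Q E D k i) {e : Im G Ω}
    (he : e ∈ E) : ∃ r ∈ R, r ∈ normalClosure ({z} : Set G) ∧ pr G Ω r = e := by
  by_cases he1 : e = 1
  · exact ⟨1, R.one_mem, one_mem _, by rw [map_one, he1]⟩
  obtain ⟨heQ, hee⟩ := (hB.memE e).mp he
  have hne := hB.ne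
  have hSI := setup_im h.setup
  have hconj : IsConj (pr G Ω z) e := by
    rcases isConj_or_bad hSI faithful_im (orderOf_eq_two_of_mul_self hee he1) with h1 | h1
    · exact h1
    · exfalso
      obtain ⟨-, p, q, hpq, hp, hq⟩ := h1
      by_cases hpa : p = a
      · have hqa : q ≠ a := fun hh => hpq (by rw [hpa, hh])
        exact he1 (hB.freeQ e heQ q hqa hq)
      · exact he1 (hB.freeQ e heQ p hpa hp)
  obtain ⟨g, hg⟩ := isConj_iff.mp hconj
  obtain ⟨γ, rfl⟩ := pr_surjective g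
  have h1 : pr G Ω (γ * z * γ⁻¹) = e := by rw [map_mul, map_mul, map_inv]; exact hg
  have h2 : (γ * z * γ⁻¹) • a = a := by
    rw [← pr_smul, h1]; exact hB.fixQ e heQ
  have h3 : (γ * z * γ⁻¹) • (γ • a) = γ • a := by
    rw [mul_smul, mul_smul, inv_smul_smul, h.fa]
  have h4 : γ • a = a := h.setup.uniq (isConj_iff.mpr ⟨γ, rfl⟩) h3 h2
  exact ⟨_, h.Rn γ h4 z h.zR,
    normalClosure_normal.conj_mem z (subset_normalClosure (Set.mem_singleton z)) γ, h1⟩

/-- the preimage of the Sylow 2-subgroup in the normal closure of `z` -/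
def PP (z : G) (Q : Subgroup (Im G Ω)) : Subgroup G :=
  normalClosure ({z} : Set G) ⊓ Q.comap (pr G Ω)

/-- the lift of `E` -/
def Eh (z : G) (R : Subgroup G) (E : Subgroup (Im G Ω)) : Subgroup G :=
  R ⊓ (normalClosure ({z} : Set G) ⊓ E.comap (pr G Ω))

omit [Finite G] in
theorem mem_PP {x : G} : x ∈ PP z Q ↔ x ∈ normalClosure ({z} : Set G) ∧ pr G Ω x ∈ Q := Iff.rfl

omit [Finite G] in
theorem mem_Eh {x : G} : x ∈ Eh z R E ↔
    x ∈ R ∧ x ∈ normalClosure ({z} : Set G) ∧ pr G Ω x ∈ E := Iff.rfl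

omit [Finite G] in
theorem Eh_le_PP (hB : Bdr a b (L (pr G Ω z)) Q E D k i) : Eh z R E ≤ PP z Q :=
  fun _ hx => ⟨hx.2.1, hB.EQ hx.2.2⟩

theorem comm_Eh (h : TS G Ω z a R) (hB : Bdr a b (L (pr G Ω z)) Q E D k i) {e p : G}
    (he : e ∈ Eh z R E) (hp : p ∈ PP z Q) : e * p = p * e := by
  obtain ⟨he1, he2, he3⟩ := mem_Eh.mp he
  obtain ⟨hp1, hp2⟩ := mem_PP.mp hp
  have hpa : p • a = a := by rw [← pr_smul]; exact hB.fixQ _ hp2
  have h1 : e * p * e⁻¹ * p⁻¹ = 1 := by
    apply h.Rk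
    · have e1 : e * p * e⁻¹ * p⁻¹ = e * (p * e⁻¹ * p⁻¹) := by group
      rw [e1]; exact R.mul_mem he1 (h.Rn p hpa _ (R.inv_mem he1))
    · rw [← pr_eq_one_iff, map_mul, map_mul, map_mul, map_inv, map_inv, hB.cenE _ he3 _ hp2]
      group
  rw [mul_inv_eq_one, mul_inv_eq_iff_eq_mul] at h1
  exact h1

/-- elements of the preimage of `E` -/
theorem exists_dec (h : TS G Ω z a R) (hB : Bdr a b (L (pr G Ω z)) Q E D k i) {x : G}
    (hx : x ∈ normalClosure ({z} : Set G)) (hxE : pr G Ω x ∈ E) :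
    ∃ e ∈ Eh z R E, ∃ c ∈ normalClosure ({z} : Set G), c ∈ ker G Ω ∧ x = e * c := by
  obtain ⟨r, hr, hrX, hre⟩ := h.exists_lift_E hB hxE
  refine ⟨r, mem_Eh.mpr ⟨hr, hrX, by rw [hre]; exact hxE⟩, r⁻¹ * x, mul_mem (inv_mem hrX) hx, ?_,
    by group⟩
  rw [← pr_eq_one_iff, map_mul, map_inv, hre, inv_mul_cancel]

theorem comm_of_E (h : TS G Ω z a R) (hB : Bdr a b (L (pr G Ω z)) Q E D k i) {x y : G}
    (hx : x ∈ normalClosure ({z} : Set G)) (hxE : pr G Ω x ∈ E) (hy : y ∈ PP z Q) :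
    x * y = y * x := by
  obtain ⟨e, he, c, hc, hck, rfl⟩ := h.exists_dec hB hx hxE
  rw [mul_assoc, h.comm_X hck hy.1, ← mul_assoc, h.comm_Eh hB he hy, mul_assoc]

theorem PP_relIndex (h : TS G Ω z a R) (hB : Bdr a b (L (pr G Ω z)) Q E D k i) :
    ¬ 2 ∣ ((PP z Q).subgroupOf (normalClosure ({z} : Set G))).index := by
  have h1 : ((PP z Q).subgroupOf (normalClosure ({z} : Set G))).index =
      (PP z Q).relIndex (normalClosure ({z} : Set G)) := rfl
  have h2 : (normalClosure ({z} : Set G)).map (pr G Ω) = normalClosure ((pr G Ω) '' ({z} : Set G)) :=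
    Subgroup.map_normalClosure _ _ pr_surjective
  rw [Set.image_singleton] at h2
  have h3 : (PP z Q).relIndex (normalClosure ({z} : Set G)) = Q.relIndex (L (pr G Ω z)) := by
    rw [PP, inf_relIndex_left, relIndex_comap, h2]
  rw [h1, h3]
  have h4 := Bdr.relIndex_mul hB.QL
  rw [hB.cardL, mul_assoc] at h4
  have h5 := Nat.eq_of_mul_eq_mul_left Nat.card_pos h4
  rw [h5]
  have hev : Even (Nat.card Q) := by
    have h6 := Subgroup.card_dvd_of_le hB.EQ
    rw [hB.cardE] at h6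
    have h7 : 2 ∣ 2 ^ k := dvd_pow_self 2 (by have := hB.two_le; omega)
    exact even_iff_two_dvd.mpr (h7.trans h6)
  have h8 : Odd (Nat.card D * (Nat.card Q + 1)) := hB.oddD.mul hev.add_one
  intro h9
  exact (Nat.not_even_iff_odd.mpr h8) (even_iff_two_dvd.mpr h9)

/-- if `[P, P] ≤ Eh` then `[X, X]` meets the kernel trivially -/
theorem eq_one_of_comEh (h : TS G Ω z a R) (hB : Bdr a b (L (pr G Ω z)) Q E D k i)
    (hcom : ∀ x ∈ PP z Q, ∀ y ∈ PP z Q, x * y * x⁻¹ * y⁻¹ ∈ Eh z R E) {c : G}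
    (hck : c ∈ ker G Ω) (hc : c ∈ ⁅normalClosure ({z} : Set G), normalClosure ({z} : Set G)⁆) :
    c = 1 := by
  set X := normalClosure ({z} : Set G) with hX
  have hcX : c ∈ X := (Subgroup.commutator_le_self X) hc
  have h1 : (⟨c, hcX⟩ : X) ∈ commutator X := by
    have h2 : (commutator X).map X.subtype = ⁅X, X⁆ := by
      rw [commutator_def, map_commutator, ← MonoidHom.range_eq_map, X.range_subtype]
    rw [← h2] at hc
    obtain ⟨⟨y, hy⟩, hy2, hy3⟩ := hc
    have : (⟨c, hcX⟩ : X) = ⟨y, hy⟩ := Subtype.ext hy3.symm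
    rw [this]; exact hy2
  have h2 := pow_index_mem (P := (PP z Q).subgroupOf X) (Eh := (Eh z R E).subgroupOf X) (by
    intro x hx y hy
    rw [Subgroup.mem_subgroupOf] at hx hy ⊢
    exact hcom x hx y hy) (c := ⟨c, hcX⟩) (fun x => Subtype.ext (h.comm_X hck x.2).symm) h1
  rw [Subgroup.mem_subgroupOf] at h2
  set n := ((PP z Q).subgroupOf X).index with hn
  have h3 : c ^ n = 1 := by
    have h4 : ((⟨c, hcX⟩ : X) ^ n : X).1 = c ^ n := rfl
    rw [h4] at h2
    exact h.Rk _ h2.1 (pow_mem hck n)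
  have h4 : ¬ 2 ∣ n := h.PP_relIndex hB
  have h5 : Odd (orderOf c) := by
    rw [← Nat.not_even_iff_odd, even_iff_two_dvd]
    intro h6
    exact h4 (h6.trans (orderOf_dvd_of_pow_eq_one h3))
  exact h.eq_one_of_odd hck hcX h5

theorem comEh_one (h : TS G Ω z a R) (hB : Bdr a b (L (pr G Ω z)) Q E D k i) (hi : i = 1) {x y : G}
    (hx : x ∈ PP z Q) (hy : y ∈ PP z Q) : x * y * x⁻¹ * y⁻¹ ∈ Eh z R E := by
  have hcE := hB.cardE
  have hcQ := hB.cardQ
  rw [hi, pow_one, ← hcE] at hcQ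
  have hQE : Q = E := (Subgroup.eq_of_le_of_card_ge hB.EQ hcQ.le).symm
  have h1 := h.comm_of_E hB hx.1 (show pr G Ω x ∈ E from hQE ▸ hx.2) hy
  rw [h1]
  have : y * x * x⁻¹ * y⁻¹ = 1 := by group
  rw [this]; exact one_mem _

theorem comEh_two (h : TS G Ω z a R) (hB : Bdr a b (L (pr G Ω z)) Q E D k i) (hi : i = 2)
    (hk : Odd k) {x y : G} (hx : x ∈ PP z Q) (hy : y ∈ PP z Q) :
    x * y * x⁻¹ * y⁻¹ ∈ Eh z R E := by
  by_contra hne
  set X := normalClosure ({z} : Set G) with hX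
  -- elements of the preimage of `E`
  set W : Subgroup G := X ⊓ E.comap (pr G Ω) with hW
  have hWP : W ≤ PP z Q := fun w hw => ⟨hw.1, hB.EQ hw.2⟩
  obtain ⟨N, hEN, hNM, S, hS, hStop, n, hn⟩ := Cfsg.Agent.H23.Parity.exists_quotient
    (P := PP z Q) (Ep := (Eh z R E).subgroupOf (PP z Q)) (M := W.subgroupOf (PP z Q))
    (by
      intro w hw
      rw [Subgroup.mem_subgroupOf] at hw ⊢
      exact hw.2)
    (by
      intro w hw
      rw [Subgroup.mem_subgroupOf] at hw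
      rw [mem_center_iff]
      intro g
      exact Subtype.ext (h.comm_of_E hB hw.1 hw.2 g.2).symm)
    (by
      rw [commutator_def, Subgroup.commutator_le]
      intro u _ v _
      rw [Subgroup.mem_subgroupOf, commutatorElement_def]
      refine ⟨?_, ?_⟩
      · exact X.mul_mem (X.mul_mem (X.mul_mem u.2.1 v.2.1) (X.inv_mem u.2.1)) (X.inv_mem v.2.1)
      · show pr G Ω ((u : G) * v * (u : G)⁻¹ * (v : G)⁻¹) ∈ E
        rw [map_mul, map_mul, map_mul, map_inv, map_inv]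
        exact hB.comE u.2.2 v.2.2)
    (by
      intro u
      rw [Subgroup.mem_subgroupOf]
      refine ⟨mul_mem u.2.1 u.2.1, ?_⟩
      show pr G Ω ((u : G) * u) ∈ E
      rw [map_mul]
      exact hB.sqE _ u.2.2)
    (by
      intro hc
      apply hne
      have h1 : (⁅(⟨x, hx⟩ : PP z Q), ⟨y, hy⟩⁆ : PP z Q) ∈ (Eh z R E).subgroupOf (PP z Q) :=
        hc (Cfsg.Agent.Transfer.Extraspecial.comm_mem _ _)
      rw [Subgroup.mem_subgroupOf, commutatorElement_def] at h1
      exact h1)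
  -- the image of `S`
  let f : PP z Q →* Im G Ω := (pr G Ω).comp (PP z Q).subtype
  have hfr : f.range = Q := by
    ext g
    constructor
    · rintro ⟨u, rfl⟩
      exact u.2.2
    · intro hg
      obtain ⟨u, hu, rfl⟩ := exists_lift (z := z) (hB.QL hg)
      exact ⟨⟨u, hu, hg⟩, rfl⟩
  have hkS : f.ker ≤ S := by
    intro u hu
    rw [hS]
    intro v
    have h1 : (u : G) ∈ ker G Ω := pr_eq_one_iff.mp hu
    have h2 : u * v = v * u := Subtype.ext (h.comm_X h1 v.2.1)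
    rw [h2]
    have : v * u * u⁻¹ * v⁻¹ = 1 := by group
    rw [this]; exact one_mem _
  have hSc : (S.map f).comap f = S := by
    rw [comap_map_eq, sup_eq_left.mpr hkS]
  have hSQ : S.map f ≤ Q := by
    rintro _ ⟨u, -, rfl⟩
    exact u.2.2
  have hidx : S.index = (S.map f).relIndex Q := by
    have h1 : (S.map f).relIndex f.range = (S.map f).relIndex Q :=
      congrArg (fun A : Subgroup (Im G Ω) => (S.map f).relIndex A) hfr
    rw [← h1, ← index_comap, hSc]
  have hES : E ≤ S.map f := by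
    intro e he
    obtain ⟨r, hr, hrX, hre⟩ := h.exists_lift_E hB he
    have hrP : r ∈ PP z Q := ⟨hrX, by show pr G Ω r ∈ Q; rw [hre]; exact hB.EQ he⟩
    refine ⟨⟨r, hrP⟩, ?_, hre⟩
    rw [SetLike.mem_coe, hS]
    intro v
    have hrE : r ∈ Eh z R E := mem_Eh.mpr ⟨hr, hrX, by rw [hre]; exact he⟩
    have h2 : (⟨r, hrP⟩ : PP z Q) * v = v * ⟨r, hrP⟩ := Subtype.ext (h.comm_Eh hB hrE v.2)
    rw [h2]
    have : v * (⟨r, hrP⟩ : PP z Q) * (⟨r, hrP⟩ : PP z Q)⁻¹ * v⁻¹ = 1 := by group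
    rw [this]; exact one_mem _
  have hSD : ∀ d ∈ D, ∀ s ∈ S.map f, d * s * d⁻¹ ∈ S.map f := by
    rintro d hd _ ⟨⟨u, hu⟩, huS, rfl⟩
    obtain ⟨δ, hδ, hδd⟩ := exists_lift (z := z) (hB.DL hd)
    have hda := hB.fixD hd
    have hδa : δ • a = a := by rw [← pr_smul, hδd]; exact hda
    have hdia : d⁻¹ • a = a := by rw [inv_smul_eq_iff, hda]
    have hδu : δ * u * δ⁻¹ ∈ PP z Q := by
      refine ⟨X.mul_mem (X.mul_mem hδ hu.1) (X.inv_mem hδ), ?_⟩
      show pr G Ω (δ * u * δ⁻¹) ∈ Q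
      rw [map_mul, map_mul, map_inv, hδd]
      exact hB.normQ hda hu.2
    refine ⟨⟨δ * u * δ⁻¹, hδu⟩, ?_, ?_⟩
    · rw [SetLike.mem_coe, hS] at huS ⊢
      rintro ⟨v, hv⟩
      have hv' : δ⁻¹ * v * δ ∈ PP z Q := by
        refine ⟨X.mul_mem (X.mul_mem (X.inv_mem hδ) hv.1) hδ, ?_⟩
        show pr G Ω (δ⁻¹ * v * δ) ∈ Q
        rw [map_mul, map_mul, map_inv, hδd]
        have := hB.normQ hdia hv.2
        rwa [inv_inv] at this
      have h1 := huS ⟨δ⁻¹ * v * δ, hv'⟩
      set c : PP z Q := ⟨u, hu⟩ * ⟨δ⁻¹ * v * δ, hv'⟩ * ⟨u, hu⟩⁻¹ * ⟨δ⁻¹ * v * δ, hv'⟩⁻¹ with hc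
      have hcW : (c : G) ∈ W := Subgroup.mem_subgroupOf.mp (hNM h1)
      have hcv : (c : G) = u * (δ⁻¹ * v * δ) * u⁻¹ * (δ⁻¹ * v * δ)⁻¹ := rfl
      obtain ⟨e, he, w, hwX, hwk, hew⟩ := h.exists_dec hB hcW.1 hcW.2
      -- `δ c δ⁻¹ = (δ e δ⁻¹ e⁻¹) c`
      have hδe : δ * e * δ⁻¹ ∈ Eh z R E := by
        refine mem_Eh.mpr ⟨h.Rn δ hδa e he.1, normalClosure_normal.conj_mem e he.2.1 δ, ?_⟩
        rw [map_mul, map_mul, map_inv, hδd]
        exact hB.normE hda he.2.2
      have hwc := h.comm_X hwk hδ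
      have h2 : δ * (c : G) * δ⁻¹ = (δ * e * δ⁻¹ * e⁻¹) * (c : G) := by
        rw [hew]
        calc δ * (e * w) * δ⁻¹ = δ * e * (w * δ⁻¹) := by group
          _ = δ * e * δ⁻¹ * (δ * w) * δ⁻¹ := by group
          _ = δ * e * δ⁻¹ * (w * δ) * δ⁻¹ := by rw [hwc]
          _ = (δ * e * δ⁻¹ * e⁻¹) * (e * w) := by group
      have h3 : δ * e * δ⁻¹ * e⁻¹ ∈ Eh z R E := mul_mem hδe (inv_mem he)
      have h4 : (⟨δ * e * δ⁻¹ * e⁻¹, Eh_le_PP hB h3⟩ : PP z Q) ∈ N :=
        hEN (Subgroup.mem_subgroupOf.mpr h3)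
      have h5 := N.mul_mem h4 h1
      have h6 : (⟨δ * u * δ⁻¹, hδu⟩ * ⟨v, hv⟩ * ⟨δ * u * δ⁻¹, hδu⟩⁻¹ * ⟨v, hv⟩⁻¹ : PP z Q) =
          ⟨δ * e * δ⁻¹ * e⁻¹, Eh_le_PP hB h3⟩ * c := by
        apply Subtype.ext
        show (δ * u * δ⁻¹) * v * (δ * u * δ⁻¹)⁻¹ * v⁻¹ = (δ * e * δ⁻¹ * e⁻¹) * (c : G)
        rw [← h2, hcv]; group
      rw [h6]; exact h5
    · show pr G Ω (δ * u * δ⁻¹) = d * pr G Ω u * d⁻¹
      rw [map_mul, map_mul, map_inv, hδd]
  have hcE := hB.cardE
  have hcQ := hB.cardQ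
  rcases hB.eq_or_eq hES hSQ hSD with h1 | h1
  · rw [hidx, h1] at hn
    have h2 := Bdr.relIndex_mul hB.EQ
    rw [hn, hcE, hcQ, hi, pow_two] at h2
    have h3 := Nat.eq_of_mul_eq_mul_left (by positivity) h2
    have h4 : 2 * n = k := Nat.pow_right_injective le_rfl h3
    rw [← h4] at hk
    exact (Nat.not_even_iff_odd.mpr hk) (even_two_mul n)
  · rw [h1, relIndex_self] at hidx
    exact hStop (index_eq_one.mp hidx)

omit [Finite G] in
theorem commutator_L [Finite (Im G Ω)] (hB : Bdr a b (L (pr G Ω z)) Q E D k i) :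
    _root_.commutator (L (pr G Ω z)) = ⊤ := by
  have hs := hB.simple
  rcases hs.eq_bot_or_eq_top_of_normal (_root_.commutator (L (pr G Ω z))) inferInstance with h1 | h1
  · exfalso
    obtain ⟨d, hd, hdf⟩ := hB.fpf
    have hbot : E = ⊥ := by
      rw [Subgroup.eq_bot_iff_forall]
      intro e he
      apply hdf e (hB.EQ he)
      have h2 : (⟨d, hB.DL hd⟩ : L (pr G Ω z)) * ⟨e, hB.QL (hB.EQ he)⟩ =
          ⟨e, hB.QL (hB.EQ he)⟩ * ⟨d, hB.DL hd⟩ := by
        have h3 := Cfsg.Agent.Transfer.Extraspecial.comm_mem (⟨d, hB.DL hd⟩ : L (pr G Ω z))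
          ⟨e, hB.QL (hB.EQ he)⟩
        rw [h1, Subgroup.mem_bot, commutatorElement_eq_one_iff_mul_comm] at h3
        exact h3
      exact congrArg Subtype.val h2
    have h2 := hB.cardE
    rw [hbot, Subgroup.card_bot] at h2
    have := hB.four_le
    omega
  · exact h1

/-- the derived group of `X` maps onto `L` -/
theorem exists_lift' (hB : Bdr a b (L (pr G Ω z)) Q E D k i) {l : Im G Ω}
    (hl : l ∈ L (pr G Ω z)) :
    ∃ x ∈ ⁅normalClosure ({z} : Set G), normalClosure ({z} : Set G)⁆, pr G Ω x = l := by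
  have h1 := commutator_L hB
  have h2 : (_root_.commutator (L (pr G Ω z))).map (L (pr G Ω z)).subtype =
      ⁅L (pr G Ω z), L (pr G Ω z)⁆ := by
    rw [commutator_def, map_commutator, ← MonoidHom.range_eq_map, Subgroup.range_subtype]
  rw [h1, ← MonoidHom.range_eq_map, Subgroup.range_subtype] at h2
  have h3 : (normalClosure ({z} : Set G)).map (pr G Ω) = L (pr G Ω z) := by
    have := Subgroup.map_normalClosure ({z} : Set G) (pr G Ω) pr_surjective
    rw [Set.image_singleton] at this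
    exact this
  rw [h2, ← h3, ← map_commutator] at hl
  exact hl

theorem eq_one_three (h : TS G Ω z a R) (hB : Bdr a b (L (pr G Ω z)) Q E D k i)
    {F : Type} [Field F] [Fintype F] (hF : Fintype.card F = (2 ^ k) ^ 2)
    (e : L (pr G Ω z) ≃* Cfsg.PSU 3 F (2 ^ k)) {c : G}
    (hck : c ∈ ker G Ω) (hc : c ∈ ⁅normalClosure ({z} : Set G), normalClosure ({z} : Set G)⁆) :
    c = 1 := by
  set X := normalClosure ({z} : Set G) with hX
  set X₁ := ⁅X, X⁆ with hX₁
  have hX₁X : X₁ ≤ X := Subgroup.commutator_le_self X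
  have hND : Cfsg.Agent.KFacts.MulDef.NoDouble (Cfsg.PSU 3 F (2 ^ k)) :=
    Cfsg.Agent.KFacts.Mult.Unitary.u3 F k hB.two_le (by
      rw [hF, ← pow_mul, mul_comm, pow_mul]; norm_num)
  -- `X₁` is perfect
  have hperf : commutator X₁ = ⊤ := by
    have h2 : (commutator X₁).map X₁.subtype = ⁅X₁, X₁⁆ := by
      rw [commutator_def, map_commutator, ← MonoidHom.range_eq_map, Subgroup.range_subtype]
    have h3 : X₁ ≤ ⁅X₁, X₁⁆ := by
      conv_lhs => rw [hX₁]
      rw [Subgroup.commutator_le]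
      intro x hx y hy
      obtain ⟨x', hx', hxx⟩ := exists_lift' hB (pr_mem (z := z) hx)
      obtain ⟨y', hy', hyy⟩ := exists_lift' hB (pr_mem (z := z) hy)
      have hcx : x'⁻¹ * x ∈ ker G Ω := by
        rw [← pr_eq_one_iff, map_mul, map_inv, hxx, inv_mul_cancel]
      have hcy : y'⁻¹ * y ∈ ker G Ω := by
        rw [← pr_eq_one_iff, map_mul, map_inv, hyy, inv_mul_cancel]
      set u := x'⁻¹ * x with hu
      set v := y'⁻¹ * y with hv
      have ex : x = x' * u := by rw [hu]; group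
      have ey : y = y' * v := by rw [hv]; group
      have h4 : ⁅x, y⁆ = ⁅x', y'⁆ := by
        have c1 : u * y = y * u := h.comm_X hcx hy
        have c2 : v * x' = x' * v := h.comm_X hcy (hX₁X hx')
        have c3 : v * x'⁻¹ = x'⁻¹ * v := h.comm_X hcy (inv_mem (hX₁X hx'))
        rw [commutatorElement_def, commutatorElement_def]
        calc x * y * x⁻¹ * y⁻¹ = x' * (u * y) * u⁻¹ * x'⁻¹ * y⁻¹ := by
              rw [ex]; group
          _ = x' * y * x'⁻¹ * y⁻¹ := by rw [c1]; group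
          _ = x' * y' * (v * x'⁻¹) * v⁻¹ * y'⁻¹ := by rw [ey]; group
          _ = x' * y' * x'⁻¹ * y'⁻¹ := by rw [c3]; group
      rw [h4]
      exact Subgroup.commutator_mem_commutator hx' hy'
    rw [eq_top_iff]
    rintro ⟨x, hx⟩ -
    have h4 := h3 hx
    rw [← h2] at h4
    obtain ⟨⟨w, hw⟩, hw2, hw3⟩ := h4
    have : (⟨x, hx⟩ : X₁) = ⟨w, hw⟩ := Subtype.ext hw3.symm
    rw [this]; exact hw2
  let f : X₁ →* L (pr G Ω z) :=
    ((pr G Ω).comp X₁.subtype).codRestrict (L (pr G Ω z)) (fun x => pr_mem (z := z) (hX₁X x.2))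
  have hfs : Function.Surjective f := by
    rintro ⟨l, hl⟩
    obtain ⟨x, hx, hxl⟩ := exists_lift' hB hl
    exact ⟨⟨x, hx⟩, Subtype.ext hxl⟩
  have hker : ∀ x : X₁, x ∈ f.ker ↔ (x : G) ∈ ker G Ω := by
    intro x
    rw [MonoidHom.mem_ker, ← pr_eq_one_iff]
    constructor
    · intro hh
      exact congrArg Subtype.val hh
    · intro hh
      exact Subtype.ext hh
  have hodd := hND.odd_card (K := X₁) hperf (f := e.toMonoidHom.comp f) (e.surjective.comp hfs) (by
    intro x hx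
    have hx' : x ∈ f.ker := by
      rw [MonoidHom.mem_ker] at hx ⊢
      have : e (f x) = 1 := hx
      rwa [map_eq_one_iff e e.injective] at this
    rw [mem_center_iff]
    intro g
    exact Subtype.ext (h.comm_X ((hker x).mp hx') (hX₁X g.2)).symm)
  have hcker : (⟨c, hc⟩ : X₁) ∈ (e.toMonoidHom.comp f).ker := by
    rw [MonoidHom.mem_ker]
    show e (f ⟨c, hc⟩) = 1
    rw [map_eq_one_iff e e.injective, ← MonoidHom.mem_ker, hker]
    exact hck
  apply h.eq_one_of_odd hck (hX₁X hc)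
  have h5 : orderOf (⟨c, hc⟩ : X₁) ∣ Nat.card (e.toMonoidHom.comp f).ker := by
    rw [← Subgroup.orderOf_mk _ hcker]; exact _root_.orderOf_dvd_natCard _
  rw [Subgroup.orderOf_mk] at h5
  exact hodd.of_dvd_nat h5

/-- **`[X, X]` meets the kernel trivially.** -/
theorem eq_one_of_commutator (h : TS G Ω z a R) (hB : Bdr a b (L (pr G Ω z)) Q E D k i) {c : G}
    (hck : c ∈ ker G Ω) (hc : c ∈ ⁅normalClosure ({z} : Set G), normalClosure ({z} : Set G)⁆) :
    c = 1 := by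
  rcases hB.typ with h1 | ⟨h1, h2, -⟩ | ⟨-, -, F, _, _, hF, ⟨e⟩⟩
  · exact h.eq_one_of_comEh hB (fun x hx y hy => h.comEh_one hB h1 hx hy) hck hc
  · exact h.eq_one_of_comEh hB (fun x hx y hy => h.comEh_two hB h1 h2 hx hy) hck hc
  · exact h.eq_one_three hB hF e hck hc

end TS

end Cfsg.Agent.H23.CentralKer
end

-- part: H23/OuterTwo
section
/-!
# 2-elements outside the Bender group

`Setup G Ω z` faithful, `L` a Bender group normal in `G`, `R` a normal subgroup of `G_a` containing `E` all of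
whose involutions fix only `a`.  Then the 2-elements of `R` lie in `L` (`mem_of_two`).
-/

set_option autoImplicit false

open Subgroup

namespace Cfsg.Agent.H23.OuterTwo

open Cfsg.Agent.TwoFusion.StronglyEmbeddedBasic Cfsg.Agent.AschCrit.Basic
open Cfsg.Agent.AschCrit.Basic.Setup Cfsg.Agent.AschCrit.Closed
open Cfsg.Agent.H23.BD Cfsg.Agent.H23.RankOneBd

variable {G Ω : Type*} [Group G] [MulAction G Ω] {z : G} {a b : Ω} {L Q E D R : Subgroup G}
  {k i : ℕ}

/-- an element of `R` outside `L` with square in `L` gives an involution fixing `a` and `b` -/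
theorem exists_invol (hB : Bdr a b L Q E D k i) {x : G} (hxa : x • a = a) (hxL : x ∉ L)
    (hxx : x * x ∈ L) (hp : IsPGroup 2 (zpowers x)) :
    ∃ s ∈ Q, (s⁻¹ * x) • a = a ∧ (s⁻¹ * x) • b = b ∧ (s⁻¹ * x) * (s⁻¹ * x) = 1 ∧
      s⁻¹ * x ∉ L := by
  have hxb : x • b ≠ a := by
    intro hh
    apply hB.ne
    have : x • b = x • a := by rw [hh, hxa]
    exact (smul_left_cancel x this).symm
  obtain ⟨s, hs, hsb⟩ := hB.regQ _ hxb
  have hxxQ : x * x ∈ Q := by
    refine hB.memQ _ hxx (by rw [mul_smul, hxa, hxa]) ?_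
    exact hp.to_le (zpowers_le.mpr (mul_mem (mem_zpowers x) (mem_zpowers x)))
  have hsa : s⁻¹ • a = a := by rw [inv_smul_eq_iff, hB.fixQ s hs]
  have hyb : (s⁻¹ * x) • b = b := by rw [mul_smul, ← hsb, inv_smul_smul]
  refine ⟨s, hs, by rw [mul_smul, hxa, hsa], hyb, ?_, ?_⟩
  · have h1 : (s⁻¹ * x) * (s⁻¹ * x) = s⁻¹ * (x * s⁻¹ * x⁻¹) * (x * x) := by group
    have h2 : (s⁻¹ * x) * (s⁻¹ * x) ∈ Q := by
      rw [h1]
      exact mul_mem (mul_mem (inv_mem hs) (hB.normQ hxa (inv_mem hs))) hxxQ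
    exact hB.freeQ _ h2 b hB.ne.symm (by rw [mul_smul, hyb, hyb])
  · intro hh
    apply hxL
    have : x = s * (s⁻¹ * x) := by group
    rw [this]
    exact mul_mem (hB.QL hs) hh

theorem arith_two {q c : ℕ} (hq : 4 ≤ q) (h : q ^ 2 * (q - 1) * (q ^ 2 + 1) = (q + 1) * c) :
    False := by
  obtain ⟨m, rfl⟩ := Nat.exists_eq_add_of_le hq
  have e1 : 4 + m - 1 = 3 + m := by omega
  rw [e1] at h
  have h1 : ((4 + m : ℤ) + 1) ∣ 4 := by
    refine ⟨(4 + m : ℤ) ^ 4 - 2 * (4 + m) ^ 3 + 3 * (4 + m) ^ 2 - 4 * (4 + m) + 4 - c, ?_⟩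
    have h2 : ((4 + m : ℤ)) ^ 2 * (3 + m) * ((4 + m) ^ 2 + 1) = (4 + m + 1) * c := by
      exact_mod_cast h
    linear_combination (-1 : ℤ) * h2
  have h2 := Int.le_of_dvd (by norm_num) h1
  omega

theorem mem_of_two [Finite G] (h : Setup G Ω z) (hf : ∀ g : G, (∀ a : Ω, g • a = a) → g = 1)
    (hB : Bdr a b L Q E D k i) (hL : ∀ d : G, IsConj z d → d ∈ L)
    (hRa : ∀ r ∈ R, r • a = a) (hRn : ∀ g : G, g • a = a → ∀ r ∈ R, g * r * g⁻¹ ∈ R)
    (hRi : ∀ r ∈ R, r * r = 1 → r ≠ 1 → ∀ c : Ω, r • c = c → c = a) (hER : E ≤ R) {x : G}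
    (hx : x ∈ R) (hp : IsPGroup 2 (zpowers x)) : x ∈ L := by
  -- reduction to `x * x ∈ L`
  suffices H : ∀ x ∈ R, IsPGroup 2 (zpowers x) → x * x ∈ L → x ∈ L by
    obtain ⟨m, hm⟩ := hp ⟨x, mem_zpowers x⟩
    have hm' : x ^ 2 ^ m = 1 := congrArg Subtype.val hm
    have h1 : ∀ j : ℕ, x ^ 2 ^ (m - j) ∈ L := by
      intro j
      induction j with
      | zero => rw [Nat.sub_zero, hm']; exact L.one_mem
      | succ j ih =>
        by_cases hj : m - j = 0
        · have : m - (j + 1) = m - j := by omega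
          rw [this]; exact ih
        · refine H _ (R.pow_mem hx _) (hp.to_le (zpowers_le.mpr (pow_mem (mem_zpowers x) _))) ?_
          have e : 2 ^ (m - (j + 1)) + 2 ^ (m - (j + 1)) = 2 ^ (m - j) := by
            have : m - j = (m - (j + 1)) + 1 := by omega
            rw [this, pow_succ]; ring
          rw [← pow_add, e]; exact ih
    have := h1 m
    simpa using this
  intro x hx hp hxx
  by_contra hxL
  obtain ⟨s, hs, hya, hyb, hyy, hyL⟩ := exists_invol hB (hRa x hx) hxL hxx hp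
  set y := s⁻¹ * x with hy
  have hy1 : y ≠ 1 := fun hh => hyL (by rw [hh]; exact L.one_mem)
  have hyi : y⁻¹ = y := inv_eq_of_mul_eq_one_left hyy
  have hLn := hB.normal
  have hxa := hRa x hx
  -- `Q ≰ R`
  have hQR : ¬ Q ≤ R := by
    intro hQR
    have hyR : y ∈ R := R.mul_mem (R.inv_mem (hQR hs)) hx
    exact hB.ne.symm (hRi y hyR hyy hy1 b hyb)
  have hS2 : Q ⊓ R = E := by
    rcases hB.eq_or_eq (S := Q ⊓ R) (le_inf hB.EQ hER) inf_le_left (by
      rintro d hd t ⟨ht1, ht2⟩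
      exact ⟨hB.normQ (hB.fixD hd) ht1, hRn d (hB.fixD hd) t ht2⟩) with h1 | h1
    · exact h1
    · exact absurd (inf_eq_left.mp h1) hQR
  have hQE : Q ≠ E := by
    intro hh
    exact hQR (hh ▸ hER)
  obtain ⟨s₀, hs₀, hs₀E⟩ : ∃ s₀ ∈ Q, s₀ ∉ E := by
    by_contra hc
    push Not at hc
    exact hQE (le_antisymm hc hB.EQ)
  -- `y` acts trivially on `Q / E`
  have hxE : ∀ t ∈ Q, x * t * x⁻¹ * t⁻¹ ∈ E := by
    intro t ht
    rw [← hS2]
    refine ⟨Q.mul_mem (hB.normQ hxa ht) (Q.inv_mem ht), ?_⟩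
    have e : x * t * x⁻¹ * t⁻¹ = x * (t * x⁻¹ * t⁻¹) := by group
    rw [e]
    exact mul_mem hx (hRn t (hB.fixQ t ht) _ (inv_mem hx))
  have hyE : ∀ t ∈ Q, y * t * y⁻¹ * t⁻¹ ∈ E := by
    intro t ht
    have h1 := hxE t ht
    set e := x * t * x⁻¹ * t⁻¹ with he
    have h2 : x * t * x⁻¹ = e * t := by rw [he]; group
    have h3 : y * t * y⁻¹ * t⁻¹ = e * (s⁻¹ * t * (s⁻¹)⁻¹ * t⁻¹) := by
      have h4 := hB.cenE e h1 s⁻¹ (inv_mem hs)
      calc y * t * y⁻¹ * t⁻¹ = s⁻¹ * (x * t * x⁻¹) * s * t⁻¹ := by rw [hy]; group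
        _ = (s⁻¹ * e) * t * s * t⁻¹ := by rw [h2]; group
        _ = (e * s⁻¹) * t * s * t⁻¹ := by rw [h4]
        _ = _ := by group
    rw [h3]
    exact mul_mem h1 (hB.comE (inv_mem hs) ht)
  have hyEE : ∀ e ∈ E, y * e * y⁻¹ ∈ E := fun e he => hB.normE hya he
  -- `y` centralises `D`
  have hyD : ∀ d ∈ D, y * d = d * y := by
    intro d hd
    have hdL := hB.DL hd
    have hda := hB.fixD hd
    have hdb := hB.fixDb hd
    have hcD : y * d * y⁻¹ * d⁻¹ ∈ D := by
      refine mul_mem ((hB.memD _).mpr ⟨hLn.conj_mem d hdL y, ?_, ?_⟩) (inv_mem hd)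
      · rw [mul_smul, mul_smul, hyi, hya, hda, hya]
      · rw [mul_smul, mul_smul, hyi, hyb, hdb, hyb]
    by_contra hne
    have hc1 : y * d * y⁻¹ * d⁻¹ ≠ 1 := by
      intro hh
      apply hne
      rw [mul_inv_eq_one, mul_inv_eq_iff_eq_mul] at hh
      exact hh
    apply hs₀E
    refine hB.srV _ hcD hc1 s₀ hs₀ ?_
    have hdi : d⁻¹ • a = a := by rw [inv_smul_eq_iff, hda]
    have hs1 : d⁻¹ * s₀ * d ∈ Q := by
      have := hB.normQ hdi hs₀
      rwa [inv_inv] at this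
    set s₁ := d⁻¹ * s₀ * d with hs₁
    have h1 : y * s₁ * y⁻¹ * s₁⁻¹ ∈ E := hyE s₁ hs1
    set e₁ := y * s₁ * y⁻¹ * s₁⁻¹ with he₁
    have h2 : y⁻¹ * s₁ * y = e₁ * s₁ := by rw [he₁, hyi]; group
    have h3 : d * e₁ * d⁻¹ ∈ E := hB.normE hda h1
    have h4 : y * (d * e₁ * d⁻¹) * y⁻¹ ∈ E := hyEE _ h3
    have h5 : y * s₀ * y⁻¹ * s₀⁻¹ ∈ E := hyE s₀ hs₀
    set e₂ := y * (d * e₁ * d⁻¹) * y⁻¹ with he₂
    set e₃ := y * s₀ * y⁻¹ * s₀⁻¹ with he₃
    have h6 : y * d * y⁻¹ * d⁻¹ * s₀ * (y * d * y⁻¹ * d⁻¹)⁻¹ = e₂ * e₃ * s₀ := by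
      calc y * d * y⁻¹ * d⁻¹ * s₀ * (y * d * y⁻¹ * d⁻¹)⁻¹
          = y * d * (y⁻¹ * (d⁻¹ * s₀ * d) * y) * d⁻¹ * y⁻¹ := by group
        _ = y * d * (e₁ * s₁) * d⁻¹ * y⁻¹ := by rw [← hs₁, h2]
        _ = y * (d * e₁ * d⁻¹) * y⁻¹ * (y * (d * s₁ * d⁻¹) * y⁻¹) := by group
        _ = e₂ * (y * s₀ * y⁻¹) := by
            rw [← he₂, hs₁]; group
        _ = e₂ * e₃ * s₀ := by rw [he₃]; group
    have h7 := hB.cenE (e₂ * e₃) (mul_mem h4 h5) s₀ hs₀
    rw [h6, h7, inv_mul_cancel_left]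
    exact mul_mem h4 h5
  -- `y` centralises `E`
  have hyEc : ∀ e ∈ E, y * e = e * y := by
    obtain ⟨f, hf1, hfE, hyf⟩ : ∃ f : G, f ≠ 1 ∧ f ∈ E ∧ y * f = f * y := by
      obtain ⟨e, he, he1⟩ : ∃ e ∈ E, e ≠ 1 := by
        by_contra hcon
        push Not at hcon
        have h1 : E = ⊥ := (Subgroup.eq_bot_iff_forall _).mpr hcon
        have h2 := hB.cardE
        rw [h1, Subgroup.card_bot] at h2
        have := hB.four_le
        omega
      have h1 := hyEE e he
      have hcomm := hB.cenE e he _ (hB.EQ h1)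
      by_cases h2 : e * (y * e * y⁻¹) = 1
      · refine ⟨e, he1, he, ?_⟩
        have h3 : y * e * y⁻¹ = e := by
          have h4 : y * e * y⁻¹ = e⁻¹ := eq_inv_of_mul_eq_one_right h2
          rw [h4]
          exact inv_eq_of_mul_eq_one_left ((hB.memE e).mp he).2
        calc y * e = y * e * y⁻¹ * y := by group
          _ = e * y := by rw [h3]
      · refine ⟨_, h2, mul_mem he h1, ?_⟩
        have h3 : y * (e * (y * e * y⁻¹)) * y⁻¹ = e * (y * e * y⁻¹) := by
          calc y * (e * (y * e * y⁻¹)) * y⁻¹ = (y * e * y⁻¹) * ((y * y) * e * (y⁻¹ * y⁻¹)) := by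
                group
            _ = (y * e * y⁻¹) * e := by
                have : y⁻¹ * y⁻¹ = 1 := by rw [hyi, hyy]
                rw [hyy, this]; group
            _ = e * (y * e * y⁻¹) := hcomm.symm
        calc y * (e * (y * e * y⁻¹)) = y * (e * (y * e * y⁻¹)) * y⁻¹ * y := by group
          _ = _ := by rw [h3]
    intro e he
    by_cases he1 : e = 1
    · rw [he1, mul_one, one_mul]
    obtain ⟨d, hd, hde⟩ := hB.transE f hfE hf1 e he he1
    have h1 := hyD d hd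
    rw [← hde]
    calc y * (d * f * d⁻¹) = (y * d) * f * d⁻¹ := by group
      _ = d * (y * f) * d⁻¹ := by rw [h1]; group
      _ = d * (f * y) * d⁻¹ := by rw [hyf]
      _ = d * f * d⁻¹ * ((d * y) * d⁻¹) := by group
      _ = d * f * d⁻¹ * ((y * d) * d⁻¹) := by rw [h1]
      _ = d * f * d⁻¹ * y := by group
  -- `C_Q(y) = E`
  set C := Q ⊓ centralizer ({y} : Set G) with hC
  have hmemC : ∀ t : G, t ∈ C ↔ t ∈ Q ∧ y * t = t * y := by
    intro t
    rw [hC, Subgroup.mem_inf, Subgroup.mem_centralizer_singleton_iff]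
    exact ⟨fun hh => ⟨hh.1, hh.2.symm⟩, fun hh => ⟨hh.1, hh.2.symm⟩⟩
  have hCE : C = E := by
    rcases hB.eq_or_eq (S := C) (fun e he => (hmemC e).mpr ⟨hB.EQ he, hyEc e he⟩)
      (fun t ht => ((hmemC t).mp ht).1) (by
        intro d hd t ht
        obtain ⟨ht1, ht2⟩ := (hmemC t).mp ht
        refine (hmemC _).mpr ⟨hB.normQ (hB.fixD hd) ht1, ?_⟩
        have h1 := hyD d hd
        calc y * (d * t * d⁻¹) = (y * d) * t * d⁻¹ := by group
          _ = d * (y * t) * d⁻¹ := by rw [h1]; group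
          _ = d * (t * y) * d⁻¹ := by rw [ht2]
          _ = d * t * d⁻¹ * ((d * y) * d⁻¹) := by group
          _ = d * t * d⁻¹ * ((y * d) * d⁻¹) := by rw [h1]
          _ = d * t * d⁻¹ * y := by group) with h1 | h1
    · exact h1
    · exfalso
      apply hy1
      apply hf
      intro c
      by_cases hca : c = a
      · rw [hca, hya]
      · obtain ⟨t, ht, rfl⟩ := hB.regQ c hca
        have h2 := ((hmemC t).mp (h1 ▸ ht)).2
        rw [smul_smul, h2, mul_smul, hyb]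
  have hmemE : ∀ t : G, t ∈ E ↔ t ∈ Q ∧ y * t = t * y := by
    intro t
    constructor
    · intro ht
      exact (hmemC t).mp (hCE.ge ht)
    · intro ht
      exact hCE.le ((hmemC t).mpr ht)
  -- the homomorphism `t ↦ [y, t]`
  let δ : Q →* E :=
    { toFun := fun t => ⟨y * t * y⁻¹ * (t : G)⁻¹, hyE t t.2⟩
      map_one' := Subtype.ext (by simp only [_root_.OneMemClass.coe_one, _root_.mul_one, _root_.mul_inv_cancel, _root_.inv_one])
      map_mul' := by
        intro t u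
        apply Subtype.ext
        show y * ((t * u : Q) : G) * y⁻¹ * ((t * u : Q) : G)⁻¹ =
          y * t * y⁻¹ * (t : G)⁻¹ * (y * u * y⁻¹ * (u : G)⁻¹)
        have h1 := hB.cenE _ (hyE u u.2) _ (inv_mem t.2)
        push_cast
        calc y * ((t : G) * u) * y⁻¹ * ((t : G) * u)⁻¹
            = (y * t * y⁻¹) * ((y * u * y⁻¹ * (u : G)⁻¹) * (t : G)⁻¹) := by group
          _ = (y * t * y⁻¹) * ((t : G)⁻¹ * (y * u * y⁻¹ * (u : G)⁻¹)) := by rw [h1]
          _ = _ := by group }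
  have hker : δ.ker = E.subgroupOf Q := by
    ext t
    rw [MonoidHom.mem_ker, Subgroup.mem_subgroupOf, hmemE]
    constructor
    · intro hh
      have h1 : y * t * y⁻¹ * (t : G)⁻¹ = 1 := congrArg Subtype.val hh
      rw [mul_inv_eq_one, mul_inv_eq_iff_eq_mul] at h1
      exact ⟨t.2, h1⟩
    · rintro ⟨-, h1⟩
      apply Subtype.ext
      show y * t * y⁻¹ * (t : G)⁻¹ = 1
      rw [mul_inv_eq_one, mul_inv_eq_iff_eq_mul]
      exact h1
  have hidx : E.relIndex Q ≤ Nat.card E := by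
    have h1 := Subgroup.index_ker δ
    rw [hker] at h1
    have h2 : (E.subgroupOf Q).index = E.relIndex Q := rfl
    rw [← h2, h1]
    exact Subgroup.card_le_card_group _
  have hmul := Bdr.relIndex_mul hB.EQ
  have hcE := hB.cardE
  have hcQ := hB.cardQ
  have h4 := hB.four_le
  rcases hB.typ with h1 | ⟨h1, -, h2⟩ | ⟨h1, -, -⟩
  · -- `i = 1`
    apply hQE
    rw [h1, pow_one] at hcQ
    exact (Subgroup.eq_of_le_of_card_ge hB.EQ (by rw [hcQ, hcE])).symm
  · -- `i = 2` : `q + 1` divides `|L|`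
    set H := L ⊓ centralizer ({y} : Set G) with hH
    have hmemH : ∀ t : G, t ∈ H ↔ t ∈ L ∧ t * y = y * t := by
      intro t
      rw [hH, Subgroup.mem_inf, Subgroup.mem_centralizer_singleton_iff]
    have horb : ∀ c : Ω, c ∈ MulAction.orbit H a ↔ y • c = c := by
      intro c
      constructor
      · rintro ⟨⟨t, ht⟩, rfl⟩
        obtain ⟨-, ht2⟩ := (hmemH t).mp ht
        show y • (t • a) = t • a
        rw [smul_smul, ← ht2, mul_smul, hya]
      · intro hc
        by_cases hca : a = c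
        · rw [← hca]; exact MulAction.mem_orbit_self a
        obtain ⟨d₁, hd₁, hc₁⟩ := h.exists_commute_of_mul_self hyy hya
        obtain ⟨d₂, hd₂, hc₂⟩ := h.exists_commute_of_mul_self hyy hc
        obtain ⟨t, ht, hts, -, -⟩ := h.exists_swap_mem (centralizer ({y} : Set G)) hca hd₁ hd₂
          (Subgroup.mem_centralizer_singleton_iff.mpr hc₁.eq)
          (Subgroup.mem_centralizer_singleton_iff.mpr hc₂.eq)
        refine ⟨⟨t, (hmemH t).mpr ⟨hL t hts.1, Subgroup.mem_centralizer_singleton_iff.mp ht⟩⟩, ?_⟩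
        exact hts.2
    have hfin := h.finite_points
    have hcard : Nat.card (MulAction.orbit H a) = 2 ^ k + 1 := by
      have e1 : MulAction.orbit H a = insert a ((fun e : G => e • b) '' (E : Set G)) := by
        ext c
        rw [horb]
        constructor
        · intro hc
          by_cases hca : c = a
          · left; exact hca
          · right
            obtain ⟨t, ht, rfl⟩ := hB.regQ c hca
            refine ⟨t, ?_, rfl⟩
            rw [SetLike.mem_coe, hmemE]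
            refine ⟨ht, ?_⟩
            have h5 : (t⁻¹ * (y * t * y⁻¹)) • b = b := by
              rw [mul_smul, mul_smul, mul_smul, hyi, hyb, hc, inv_smul_smul]
            have h6 := hB.freeQ _ (mul_mem (inv_mem ht) (hB.normQ hya ht)) b hB.ne.symm h5
            rw [inv_mul_eq_one] at h6
            calc y * t = y * t * y⁻¹ * y := by group
              _ = t * y := by rw [← h6]
        · rintro (rfl | ⟨e, he, rfl⟩)
          · exact hya
          · show y • e • b = e • b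
            rw [smul_smul, hyEc e he, mul_smul, hyb]
      have e2 : Nat.card (MulAction.orbit H a) = (MulAction.orbit H a).ncard :=
        Nat.card_coe_set_eq _
      rw [e2, e1, Set.ncard_insert_of_notMem]
      · rw [Set.InjOn.ncard_image]
        · rw [← Nat.card_coe_set_eq]
          exact congrArg (· + 1) hcE
        · intro e he f hf' hef
          have h5 : (f⁻¹ * e) • b = b := by
            rw [mul_smul]
            have : e • b = f • b := hef
            rw [this, inv_smul_smul]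
          have h6 := hB.freeQ _ (mul_mem (inv_mem (hB.EQ hf')) (hB.EQ he)) b hB.ne.symm h5
          rw [inv_mul_eq_one] at h6
          exact h6.symm
      · rintro ⟨e, he, hea⟩
        have hea' : e • b = a := hea
        have h5 := hB.fixQ e (hB.EQ he)
        exact hB.ne.symm (smul_left_cancel e (by rw [hea', h5]))
    have hdvd : 2 ^ k + 1 ∣ Nat.card L := by
      rw [← hcard]
      have h5 : Nat.card (MulAction.orbit H a) ∣ Nat.card H := by
        rw [Nat.card_congr (MulAction.orbitEquivQuotientStabilizer H a)]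
        exact Subgroup.index_dvd_card _
      exact h5.trans (Subgroup.card_dvd_of_le inf_le_left)
    obtain ⟨c, hc⟩ := hdvd
    rw [hB.cardL, hcQ, h1, h2] at hc
    exact arith_two h4 hc
  · -- `i = 3`
    rw [h1] at hcQ
    rw [hcE] at hidx hmul
    rw [hcQ] at hmul
    have h5 : (2 ^ k) ^ 3 ≤ 2 ^ k * 2 ^ k := by
      rw [← hmul]; exact Nat.mul_le_mul_left _ hidx
    have h6 : 2 ^ k * 2 ^ k < (2 ^ k) ^ 3 := by
      have : 0 < 2 ^ k * 2 ^ k := by positivity
      nlinarith only [h4]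
    omega

end Cfsg.Agent.H23.OuterTwo
end

-- part: H23/TightMain
section
/-!
# The involutions of the normal closure of `R` are not bad

`TS G Ω z a R` : the involutions of the normal closure of `R` fix at most one point.
-/

set_option autoImplicit false

universe u

open Subgroup

namespace Cfsg.Agent.H23.CentralKer.TS

open Cfsg MulAction
open Cfsg.Agent.TwoFusion.StronglyEmbeddedBasic Cfsg.Agent.AschCrit.Basic
open Cfsg.Agent.AschCrit.Basic.Setup Cfsg.Agent.AschCrit.Closed Cfsg.Agent.AschCrit.Descent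
open Cfsg.Agent.AschCrit.NonIso Cfsg.Agent.AschCrit.InductFaithful
open Cfsg.Agent.AschCrit.InductAct Cfsg.Agent.AschCrit.BGroup Cfsg.Agent.AschCrit.Induct
open Cfsg.Agent.H23.AschKer Cfsg.Agent.H23.AschBad Cfsg.Agent.H23.BD
open scoped commutatorElement

variable {G Ω : Type u} [Group G] [Finite G] [MulAction G Ω] {z : G} {a b : Ω} {R : Subgroup G}
  {Q E D : Subgroup (Im G Ω)} {k i : ℕ}

/-- the image of a 2-element of `R` lies in `Q` -/
theorem pr_mem_Q (h : TS G Ω z a R) (hB : Bdr a b (L (pr G Ω z)) Q E D k i) {r : G} (hr : r ∈ R)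
    (hp : IsPGroup 2 (zpowers r)) : pr G Ω r ∈ Q := by
  have hpa : pr G Ω r • a = a := h.Ra r hr
  have hpp : IsPGroup 2 (zpowers (pr G Ω r)) := by
    rw [← MonoidHom.map_zpowers]; exact hp.map _
  refine hB.memQ _ ?_ hpa hpp
  refine Cfsg.Agent.H23.OuterTwo.mem_of_two (R := R.map (pr G Ω)) (setup_im h.setup) faithful_im hB
    (fun d hd => mem_L hd) ?_ ?_ ?_ ?_ ⟨r, hr, rfl⟩ hpp
  · rintro _ ⟨s, hs, rfl⟩
    exact h.Ra s hs
  · rintro g hg _ ⟨s, hs, rfl⟩
    obtain ⟨γ, rfl⟩ := pr_surjective g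
    exact ⟨γ * s * γ⁻¹, h.Rn γ hg s hs, by rw [map_mul, map_mul, map_inv]⟩
  · rintro _ ⟨s, hs, rfl⟩ hss hs1 c hc
    refine h.Ri s hs ?_ ?_ c hc
    · apply h.R_inj (R.mul_mem hs hs) R.one_mem
      rw [map_mul, map_one]; exact hss
    · rintro rfl
      exact hs1 (map_one _)
  · intro e he
    obtain ⟨s, hs, -, hse⟩ := h.exists_lift_E hB he
    exact ⟨s, hs, hse⟩

/-- an element of `R` mapping into `Q` lies in `[X, X]` -/
theorem mem_commutator_of (h : TS G Ω z a R) (hB : Bdr a b (L (pr G Ω z)) Q E D k i) {t : G}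
    (ht : t ∈ R) (htQ : pr G Ω t ∈ Q) :
    t ∈ ⁅normalClosure ({z} : Set G), normalClosure ({z} : Set G)⁆ := by
  set L₁ := ⁅normalClosure ({z} : Set G), normalClosure ({z} : Set G)⁆ with hL₁
  have hL₁n : L₁.Normal := inferInstance
  obtain ⟨d, hd, hdf⟩ := hB.fpf
  obtain ⟨δ, hδ, hδd⟩ := exists_lift' hB (hB.DL hd)
  have hda := hB.fixD hd
  have hδa : δ • a = a := by rw [← pr_smul, hδd]; exact hda
  let T : Subgroup G := R ⊓ Q.comap (pr G Ω)
  have hT : ∀ x : G, x ∈ T ↔ x ∈ R ∧ pr G Ω x ∈ Q := fun x => Iff.rfl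
  have hTc : ∀ x ∈ T, δ * x * δ⁻¹ ∈ T := by
    intro x hx
    refine (hT _).mpr ⟨h.Rn δ hδa x ((hT x).mp hx).1, ?_⟩
    rw [map_mul, map_mul, map_inv, hδd]
    exact hB.normQ hda ((hT x).mp hx).2
  let f : T → T := fun x => ⟨(x : G)⁻¹ * (δ * x * δ⁻¹), T.mul_mem (T.inv_mem x.2) (hTc x x.2)⟩
  have hf : Function.Injective f := by
    rintro ⟨x, hx⟩ ⟨y, hy⟩ hxy
    have h1 : x⁻¹ * (δ * x * δ⁻¹) = y⁻¹ * (δ * y * δ⁻¹) := congrArg Subtype.val hxy
    have h2 : δ * (y * x⁻¹) = (y * x⁻¹) * δ := by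
      have h3 : δ * x * δ⁻¹ = x * (y⁻¹ * (δ * y * δ⁻¹)) := by rw [← h1]; group
      calc δ * (y * x⁻¹) = (δ * y * δ⁻¹) * (δ * x * δ⁻¹)⁻¹ * δ := by group
        _ = (y * x⁻¹) * δ := by rw [h3]; group
    have h4 : y * x⁻¹ ∈ T := T.mul_mem hy (T.inv_mem hx)
    have h5 : pr G Ω (y * x⁻¹) = 1 := by
      apply hdf _ ((hT _).mp h4).2
      rw [← hδd, ← map_mul, ← map_mul, h2]
    have h6 : y * x⁻¹ = 1 := h.Rk _ ((hT _).mp h4).1 (pr_eq_one_iff.mp h5)
    exact Subtype.ext (mul_inv_eq_one.mp h6).symm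
  obtain ⟨⟨x, hx⟩, hxt⟩ := (Finite.surjective_of_injective hf) ⟨t, (hT t).mpr ⟨ht, htQ⟩⟩
  have h1 : x⁻¹ * (δ * x * δ⁻¹) = t := congrArg Subtype.val hxt
  rw [← h1]
  have e : x⁻¹ * (δ * x * δ⁻¹) = (x⁻¹ * δ * x) * δ⁻¹ := by group
  rw [e]
  refine L₁.mul_mem ?_ (L₁.inv_mem hδ)
  have := hL₁n.conj_mem δ hδ x⁻¹
  rwa [inv_inv] at this

/-- `[X, X]` is transitive -/
theorem exists_mem_commutator (h : TS G Ω z a R) (hB : Bdr a b (L (pr G Ω z)) Q E D k i) (c : Ω) :
    ∃ l ∈ ⁅normalClosure ({z} : Set G), normalClosure ({z} : Set G)⁆, l • a = c := by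
  by_cases hac : a = c
  · exact ⟨1, one_mem _, by rw [one_smul, hac]⟩
  obtain ⟨g, hg⟩ := h.setup.trans a c
  have h1 : IsConj z (g * z * g⁻¹) := isConj_iff.mpr ⟨g, rfl⟩
  have h2 : (g * z * g⁻¹) • c = c := by
    rw [← hg, mul_smul, mul_smul, inv_smul_smul, h.fa]
  obtain ⟨x, -, hx, -, -, hxa, -⟩ := h.setup.exists_swap (IsConj.refl z) h1 h.fa h2 hac
  have h3 : x ∈ normalClosure ({z} : Set G) := by
    obtain ⟨γ, rfl⟩ := isConj_iff.mp hx
    exact normalClosure_normal.conj_mem z (subset_normalClosure (Set.mem_singleton z)) γ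
  obtain ⟨l, hl, hlx⟩ := exists_lift' hB (pr_mem (z := z) h3)
  exact ⟨l, hl, by rw [← pr_smul, hlx]; exact hxa⟩

/-- the normal closure of `R` -/
theorem normalClosure_le (h : TS G Ω z a R) (hB : Bdr a b (L (pr G Ω z)) Q E D k i) :
    normalClosure (R : Set G) ≤
      R ⊔ ⁅normalClosure ({z} : Set G), normalClosure ({z} : Set G)⁆ := by
  set L₁ := ⁅normalClosure ({z} : Set G), normalClosure ({z} : Set G)⁆ with hL₁
  have hL₁n : L₁.Normal := inferInstance
  rw [normalClosure, closure_le]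
  intro x hx
  rw [Group.mem_conjugatesOfSet_iff] at hx
  obtain ⟨r, hr, hrx⟩ := hx
  obtain ⟨w, rfl⟩ := isConj_iff.mp hrx
  obtain ⟨l, hl, hla⟩ := h.exists_mem_commutator hB (w • a)
  have hga : (l⁻¹ * w) • a = a := by rw [mul_smul, ← hla, inv_smul_smul]
  have h1 := h.Rn _ hga r hr
  set r' := l⁻¹ * w * r * (l⁻¹ * w)⁻¹ with hr'
  have e : w * r * w⁻¹ = (l * (r' * l⁻¹ * r'⁻¹)) * r' := by
    rw [hr']; group
  rw [SetLike.mem_coe, e]
  refine mul_mem (mem_sup_right (L₁.mul_mem hl (hL₁n.conj_mem _ (L₁.inv_mem hl) r')))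
    (mem_sup_left h1)

/-- **The involutions of the normal closure of `R` are not bad.** -/
theorem not_bad (hN : ∀ N : ℕ, NoBadBelow.{u} N)
    (hBe : ∀ (X : Type u) [Group X] [Finite X], Cfsg.Agent.StrongEmb.Split.BenderHolds X)
    (h : TS G Ω z a R) {v : G} (hv : v ∈ normalClosure (R : Set G)) : ¬ Bad Ω v := by
  intro hbad
  obtain ⟨b, Q, E, D, k, i, hB⟩ :=
    Cfsg.Agent.H23.BdrEx.exists_bdr hN hBe h.setup h.nonIso a
  set L₁ := ⁅normalClosure ({z} : Set G), normalClosure ({z} : Set G)⁆ with hL₁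
  have hL₁n : L₁.Normal := inferInstance
  have hvv := hbad.mul_self
  suffices H : v ∈ L₁ by
    have h1 := mem_ker_of_bad hN h.setup h.nonIso (Subgroup.commutator_le_self _ H) hbad
    have h2 := h.eq_one_of_commutator hB h1 H
    have h3 := hbad.1
    rw [h2, orderOf_one] at h3
    exact absurd h3 (by norm_num)
  have hmem : v ∈ ((R ⊔ L₁ : Subgroup G) : Set G) := h.normalClosure_le hB hv
  rw [Subgroup.mul_normal] at hmem
  obtain ⟨q, hq, l, hl, hql⟩ := hmem
  have hq' : q ∈ R := hq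
  have hl' : l ∈ L₁ := hl
  have hql' : q * l = v := hql
  have hqq : q ^ 2 ∈ L₁ := by
    have h0 : q * l * (q * l) = 1 := by rw [hql', hvv]
    have e : q ^ 2 = (q * l⁻¹ * q⁻¹) * l⁻¹ := by
      have e1 : q = l⁻¹ * q⁻¹ * l⁻¹ := by
        have e2 : q * (l * q * l) = 1 := by rw [← h0]; group
        have e3 : l * q * l = q⁻¹ := (inv_eq_of_mul_eq_one_right e2).symm
        rw [← e3]; group
      calc q ^ 2 = q * q := pow_two q
        _ = q * (l⁻¹ * q⁻¹ * l⁻¹) := by rw [← e1]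
        _ = _ := by group
    rw [e]
    exact L₁.mul_mem (hL₁n.conj_mem _ (L₁.inv_mem hl') q) (L₁.inv_mem hl')
  -- the 2-part of `q`
  obtain ⟨s, m, hm, hsm⟩ := Nat.exists_eq_two_pow_mul_odd (n := orderOf q) (orderOf_pos q).ne'
  have h1 : IsPGroup 2 (zpowers (q ^ m)) := by
    rintro ⟨x, hx⟩
    obtain ⟨n, rfl⟩ := mem_zpowers_iff.mp hx
    refine ⟨s, Subtype.ext ?_⟩
    show ((q ^ m) ^ n) ^ 2 ^ s = 1
    rw [← zpow_natCast, zpow_comm, zpow_natCast, ← pow_mul, mul_comm, ← hsm, pow_orderOf_eq_one,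
      one_zpow]
  have h2 : q ^ m ∈ L₁ := by
    apply h.mem_commutator_of hB (R.pow_mem hq' m)
    exact h.pr_mem_Q hB (R.pow_mem hq' m) h1
  have h3 : q ∈ L₁ := by
    obtain ⟨j, hj⟩ := hm
    have e : q = q ^ m * ((q ^ 2) ^ j)⁻¹ := by
      rw [hj, pow_succ', pow_mul]; group
    rw [e]
    exact L₁.mul_mem h2 (L₁.inv_mem (L₁.pow_mem hqq j))
  rw [← hql']
  exact L₁.mul_mem h3 hl'

end Cfsg.Agent.H23.CentralKer.TS
end

-- part: H23/TightQuot
section
/-!
# The involutions of the normal closure of `R` are not bad: passing to the quotient by the kernel core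

* `not_bad` : `Setup G Ω z` with `z` not isolated, `R ∋ z` normal in `G_a`, the involutions of `R` fixing only
  `a`: then the involutions of the normal closure of `R` are not bad
-/

set_option autoImplicit false

universe u

open Subgroup

namespace Cfsg.Agent.H23.TightQuot

open Cfsg MulAction
open Cfsg.Agent.TwoFusion.StronglyEmbeddedBasic Cfsg.Agent.AschCrit.Basic
open Cfsg.Agent.AschCrit.Basic.Setup Cfsg.Agent.AschCrit.Closed Cfsg.Agent.AschCrit.Descent
open Cfsg.Agent.AschCrit.NonIso Cfsg.Agent.AschCrit.BGroup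
open Cfsg.Agent.H23.AschKer Cfsg.Agent.H23.CentralKer

variable {G Ω : Type u} [Group G] [MulAction G Ω] {z : G} {a : Ω} {R : Subgroup G}

/-- `R ∩ N₀` lies in the core -/
theorem mem_kcore [Finite G] (h : Setup G Ω z) (Rn : ∀ g : G, g • a = a → ∀ r ∈ R, g * r * g⁻¹ ∈ R)
    (Ri : ∀ r ∈ R, r * r = 1 → r ≠ 1 → ∀ c : Ω, r • c = c → c = a) {r : G} (hr : r ∈ R)
    (hk : r ∈ ker G Ω) : r ∈ kcore G Ω := by
  have hodd : (Nat.card ((R.subgroupOf (ker G Ω)))).Coprime 2 := by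
    rw [Nat.coprime_two_right, ← Nat.not_even_iff_odd, even_iff_two_dvd]
    intro h2
    obtain ⟨⟨⟨x, hxk⟩, hx⟩, hx2⟩ := exists_prime_orderOf_dvd_card' 2 h2
    rw [Subgroup.orderOf_mk, Subgroup.orderOf_mk] at hx2
    have hxR : x ∈ R := hx
    obtain ⟨b, hab⟩ := exists_ne h (a := a)
    have hx1 : x ≠ 1 := by
      rintro rfl
      rw [orderOf_one] at hx2
      exact absurd hx2 (by norm_num)
    exact hab (Ri x hxR (mul_self_of_orderOf hx2) hx1 b (mem_ker.mp hxk b)).symm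
  have hn : (R.subgroupOf (ker G Ω)).Normal := by
    refine ⟨?_⟩
    rintro ⟨x, hx⟩ hxR ⟨g, hg⟩
    rw [Subgroup.mem_subgroupOf] at hxR ⊢
    exact Rn g (mem_ker.mp hg a) x hxR
  have h1 := Cfsg.Agent.Lib.Cores.le_pPrimeCore hn hodd
  have h2 : (⟨r, hk⟩ : ker G Ω) ∈ pPrimeCore 2 (ker G Ω) := h1 (Subgroup.mem_subgroupOf.mpr hr)
  have h3 := Cfsg.Agent.Lib.Cores.map_subtype_pPrimeCore 2 (ker_normal (G := G) (Ω := Ω))
  have h4 : r ∈ (pPrimeCore 2 (ker G Ω)).map (ker G Ω).subtype := ⟨_, h2, rfl⟩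
  rw [h3] at h4
  exact ⟨hk, h4.2⟩

/-- the action of the quotient -/
@[reducible] def quotAct (G Ω : Type u) [Group G] [MulAction G Ω] :
    MulAction (G ⧸ kcore G Ω) Ω :=
  MulAction.compHom Ω (QuotientGroup.lift (kcore G Ω) (MulAction.toPermHom G Ω)
    (fun _ hx => hx.1))

theorem not_bad [Finite G] (hN : ∀ N : ℕ, NoBadBelow.{u} N)
    (hBe : ∀ (X : Type u) [Group X] [Finite X], Cfsg.Agent.StrongEmb.Split.BenderHolds X)
    (h : Setup G Ω z) (hn : NonIso z) (fa : z • a = a) (Ra : ∀ r ∈ R, r • a = a)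
    (Rn : ∀ g : G, g • a = a → ∀ r ∈ R, g * r * g⁻¹ ∈ R) (zR : z ∈ R)
    (Ri : ∀ r ∈ R, r * r = 1 → r ≠ 1 → ∀ c : Ω, r • c = c → c = a) {v : G}
    (hv : v ∈ normalClosure (R : Set G)) : ¬ Bad Ω v := by
  intro hbad
  set W := kcore G Ω with hW
  let _ : MulAction (G ⧸ W) Ω := quotAct G Ω
  let π : G →* G ⧸ W := QuotientGroup.mk' W
  have hπ : Function.Surjective π := QuotientGroup.mk'_surjective W
  have hπs : ∀ (g : G) (c : Ω), π g • c = g • c := fun g c => rfl
  have hπk : ∀ g : G, π g = 1 ↔ g ∈ W := fun g => QuotientGroup.eq_one_iff g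
  have hWodd : Odd (Nat.card W) := odd_kcore
  have hts : TS (G ⧸ W) Ω (π z) a (R.map π) := by
    refine ⟨setup_map h π hπ hπs, ?_, fa, ?_, ?_, ⟨z, zR, rfl⟩, ?_, ?_, ?_⟩
    · obtain ⟨d, hd, hzd, hne⟩ := id hn
      exact ⟨π d, π.map_isConj hd, hzd.map π, fun hh =>
        hne (Cfsg.Agent.AschCrit.InductAct.eq_of_map_eq π h hπs (IsConj.refl z) hd hzd hh.symm).symm⟩
    · rintro _ ⟨r, hr, rfl⟩
      exact Ra r hr
    · rintro g hg _ ⟨r, hr, rfl⟩
      obtain ⟨γ, rfl⟩ := hπ g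
      exact ⟨γ * r * γ⁻¹, Rn γ hg r hr, by rw [map_mul, map_mul, map_inv]⟩
    · rintro _ ⟨r, hr, rfl⟩ hrr hr1 c hc
      have h1 : r * r ∈ W := by rw [← hπk, map_mul]; exact hrr
      have h2 : r ∉ W := fun hh => hr1 ((hπk r).mpr hh)
      obtain ⟨h3, h4, h5⟩ := pow_mem_kcore_iff hWodd h1 h2
      refine Ri _ (R.pow_mem hr _) h3 h4 c ?_
      set y := r ^ orderOf (r * r) with hy
      have h6 : (y⁻¹ * r) • c = c := mem_ker.mp h5.1 c
      have h7 : r • c = c := hc
      rw [mul_smul, h7] at h6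
      exact (inv_smul_eq_iff.mp h6).symm
    · rintro _ ⟨r, hr, rfl⟩ hk
      rw [hπk]
      refine mem_kcore h Rn Ri hr ?_
      rw [mem_ker] at hk ⊢
      exact hk
    · rw [Subgroup.eq_bot_iff_forall]
      intro x hx
      obtain ⟨g, rfl⟩ := hπ x
      rw [hπk]
      set N' := kcore (G ⧸ W) Ω with hN'
      have hN'odd : Odd (Nat.card N') := odd_kcore
      have hcard : Nat.card (N'.comap π) = Nat.card W * Nat.card N' :=
        QuotientGroup.card_preimage_mk W (N' : Set (G ⧸ W))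
      have hn1 : (N'.comap π).Normal := inferInstance
      have h2 := Cfsg.Agent.Lib.Cores.le_pPrimeCore (p := 2) hn1 (by
        rw [Nat.coprime_two_right, hcard]
        exact hWodd.mul hN'odd)
      exact ⟨mem_ker.mpr (mem_ker.mp hx.1), h2 hx⟩
  have hmap : π v ∈ normalClosure ((R.map π : Subgroup (G ⧸ W)) : Set (G ⧸ W)) := by
    have h1 := Subgroup.map_normalClosure (R : Set G) π hπ
    rw [Subgroup.coe_map, ← h1]
    exact ⟨v, hv, rfl⟩
  apply hts.not_bad hN hBe hmap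
  obtain ⟨hv2, c, d, hcd, hc, hd⟩ := hbad
  refine ⟨orderOf_eq_two_of_mul_self ?_ ?_, c, d, hcd, hc, hd⟩
  · rw [← map_mul, mul_self_of_orderOf hv2, map_one]
  · intro h3
    have h4 := (hπk v).mp h3
    have h5 : orderOf v ∣ Nat.card W := by
      rw [← Subgroup.orderOf_mk v h4]; exact _root_.orderOf_dvd_natCard _
    rw [hv2] at h5
    exact (Nat.not_even_iff_odd.mpr hWodd) (even_iff_two_dvd.mpr h5)

end Cfsg.Agent.H23.TightQuot
end

-- part: S1911
section
set_option autoImplicit false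
open Cfsg

namespace Cfsg.Agent.S1911

open Subgroup
open Cfsg.Agent.TwoFusion.StronglyEmbeddedBasic Cfsg.Agent.AschCrit.Basic
open Cfsg.Agent.H23.AschKer Cfsg.Agent.H23.SEmb

section

variable {G : Type*} [Group G] {Q : Subgroup G}

/-- an element of even order of `Q` stays in `N(Q)` only under the conjugation by elements of `N(Q)` -/
theorem mem_of_conj [Finite G]
    (hodd : ∀ g : G, g ∉ Subgroup.normalizer (Q : Set G) →
      Odd (Nat.card ↥(Q.map (MulAut.conj g).toMonoidHom ⊓ Subgroup.normalizer (Q : Set G))))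
    {t : G} (ht : t ∈ Q) (ht2 : orderOf t = 2) {g : G}
    (hg : g * t * g⁻¹ ∈ Subgroup.normalizer (Q : Set G)) : g ∈ Subgroup.normalizer (Q : Set G) := by
  by_contra hc
  have h1 := hodd g hc
  have h2 : g * t * g⁻¹ ∈ Q.map (MulAut.conj g).toMonoidHom ⊓ Subgroup.normalizer (Q : Set G) :=
    ⟨⟨t, ht, rfl⟩, hg⟩
  have h3 : orderOf (g * t * g⁻¹) ∣
      Nat.card ↥(Q.map (MulAut.conj g).toMonoidHom ⊓ Subgroup.normalizer (Q : Set G)) := by
    rw [← Subgroup.orderOf_mk _ h2]; exact _root_.orderOf_dvd_natCard _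
  rw [orderOf_conj, ht2] at h3
  exact (Nat.not_even_iff_odd.mpr h1) (even_iff_two_dvd.mpr h3)

theorem smul_mk_eq_iff {M : Subgroup G} {x g : G} :
    x • (g : G ⧸ M) = (g : G ⧸ M) ↔ g⁻¹ * x * g ∈ M := by
  have h1 : x • (g : G ⧸ M) = ((x * g : G) : G ⧸ M) := rfl
  rw [h1, eq_comm, QuotientGroup.eq, ← mul_assoc]

/-- in the product of a normal subgroup and an element of odd order -/
theorem mul_pow_mem {w q : G} (hw : w ∈ Subgroup.normalizer (Q : Set G)) (hq : q ∈ Q) (j : ℕ) :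
    (q * w) ^ j * (w ^ j)⁻¹ ∈ Q := by
  induction j with
  | zero => simp
  | succ j ih =>
    have e : (q * w) ^ (j + 1) * (w ^ (j + 1))⁻¹ =
        ((q * w) ^ j * (w ^ j)⁻¹) * (w ^ j * q * (w ^ j)⁻¹) := by
      rw [pow_succ, pow_succ]; group
    rw [e]
    exact Q.mul_mem ih ((Subgroup.mem_normalizer_iff.mp (pow_mem hw j) q).mp hq)

end

/-- Let Q be a tightly embedded subgroup of a finite group G such that Q^g ∩ N_G(Q) has odd order for every g outside N_G(Q), and let K be the normal closure of Q in G. Then Q is normal in G, or K ∩ N_G(Q) is a strongly embedded subgroup of K. -/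
theorem result {G : Type*} [Group G] [Finite G] (Q : Subgroup G) (hQ : Cfsg.IsTightlyEmbedded Q)
    (hodd : ∀ g : G, g ∉ Subgroup.normalizer (Q : Set G) →
      Odd (Nat.card ↥(Q.map (MulAut.conj g).toMonoidHom ⊓ Subgroup.normalizer (Q : Set G)))) :
    Q.Normal ∨
      Cfsg.IsStronglyEmbedded ((Subgroup.normalizer (Q : Set G)).subgroupOf (Subgroup.normalClosure (Q : Set G))) := by
  set M : Subgroup G := Subgroup.normalizer (Q : Set G) with hM
  by_cases hMt : M = ⊤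
  · left
    exact Subgroup.normalizer_eq_top_iff.mp hMt
  right
  have hQM : Q ≤ M := Subgroup.le_normalizer
  have hQK : Q ≤ normalClosure (Q : Set G) := subset_normalClosure
  -- an involution of `Q`
  obtain ⟨⟨z, hzQ⟩, hz2⟩ := exists_prime_orderOf_dvd_card' 2 (even_iff_two_dvd.mp hQ.1)
  rw [Subgroup.orderOf_mk] at hz2
  obtain ⟨g₀, hg₀⟩ : ∃ g : G, g ∉ M := by
    by_contra hc
    push Not at hc
    exact hMt (Subgroup.eq_top_iff' _ |>.mpr hc)
  have hfix1 : ∀ x : G, x • ((1 : G) : G ⧸ M) = ((1 : G) : G ⧸ M) ↔ x ∈ M := by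
    intro x
    rw [smul_mk_eq_iff]
    simp
  have hmk : ∀ g : G, ((g : G) : G ⧸ M) = ((1 : G) : G ⧸ M) ↔ g ∈ M := by
    intro g
    rw [eq_comm, QuotientGroup.eq]
    simp
  -- the involutions of `Q` fix only one point
  have hRi : ∀ r ∈ Q, r * r = 1 → r ≠ 1 → ∀ c : G ⧸ M, r • c = c → c = ((1 : G) : G ⧸ M) := by
    intro r hr hrr hr1 c hc
    obtain ⟨g, rfl⟩ := QuotientGroup.mk_surjective c
    rw [smul_mk_eq_iff] at hc
    rw [hmk]
    have h1 : g⁻¹ ∈ M := by
      apply mem_of_conj hodd hr (orderOf_eq_two_of_mul_self hrr hr1)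
      rw [inv_inv]; exact hc
    simpa using inv_mem h1
  have hz1 : z ≠ 1 := by
    rintro rfl
    rw [orderOf_one] at hz2
    exact absurd hz2 (by norm_num)
  have hzz := mul_self_of_orderOf hz2
  have hKM : ¬ normalClosure (Q : Set G) ≤ M := by
    intro hle
    apply hg₀
    exact mem_of_conj hodd hzQ hz2 (hle (normalClosure_normal.conj_mem z (hQK hzQ) g₀))
  have hpre : Cfsg.Agent.S1922.Pre G (G ⧸ M) z := by
    refine ⟨hz2, ⟨((1 : G) : G ⧸ M), (g₀ : G ⧸ M), fun hh => hg₀ ((hmk g₀).mp hh.symm)⟩, ?_,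
      ⟨((1 : G) : G ⧸ M), (hfix1 z).mpr (hQM hzQ)⟩, ?_, ?_⟩
    · intro c d
      exact MulAction.exists_smul_eq G c d
    · intro c d hc hd
      rw [hRi z hzQ hzz hz1 c hc, hRi z hzQ hzz hz1 d hd]
    · intro g hcom hne c d hc hd
      have hc1 := hRi z hzQ hzz hz1 c hc
      have h1 : (g * z * g⁻¹) • ((1 : G) : G ⧸ M) = ((1 : G) : G ⧸ M) := by
        apply hRi z hzQ hzz hz1
        rw [smul_smul, hcom.eq, mul_smul, (hfix1 z).mpr (hQM hzQ)]
      have hg : g ∈ M := mem_of_conj hodd hzQ hz2 ((hfix1 _).mp h1)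
      have h2 : g * z * g⁻¹ ∈ Q := (Subgroup.mem_normalizer_iff.mp hg z).mp hzQ
      have h3 : (g * z * g⁻¹) * (g * z * g⁻¹) = 1 := by
        calc g * z * g⁻¹ * (g * z * g⁻¹) = g * (z * z) * g⁻¹ := by group
          _ = 1 := by rw [hzz]; group
      rw [hc1]
      refine hRi (z * (g * z * g⁻¹)) (Q.mul_mem hzQ h2) ?_ ?_ d hd
      · calc z * (g * z * g⁻¹) * (z * (g * z * g⁻¹)) =
            z * ((g * z * g⁻¹) * z) * (g * z * g⁻¹) := by group
          _ = z * (z * (g * z * g⁻¹)) * (g * z * g⁻¹) := by rw [hcom.eq]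
          _ = (z * z) * ((g * z * g⁻¹) * (g * z * g⁻¹)) := by group
          _ = 1 := by rw [hzz, h3, one_mul]
      · intro hh
        apply hne
        have : z⁻¹ = g * z * g⁻¹ := inv_eq_of_mul_eq_one_right hh
        rw [← this]
        exact inv_eq_of_mul_eq_one_right hzz
  have hset : Setup G (G ⧸ M) z :=
    ⟨hz2, hpre.central, hpre.nontriv, hpre.trans, hpre.exists_fix, hpre.fix_unique, hpre.comm⟩
  refine se_of hKM hz2 (hQK hzQ) (hQM hzQ) ?_
  intro v hv hv2 hvM g hg hvg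
  by_cases hn : Cfsg.Agent.AschCrit.NonIso.NonIso z
  · have h1 := Cfsg.Agent.H23.TightQuot.not_bad Cfsg.Agent.AschCrit.AC.noBadBelow
      (fun X _ _ => Cfsg.Agent.StrongEmb.Main.bender X) hset hn (a := ((1 : G) : G ⧸ M)) (R := Q)
      ((hfix1 z).mpr (hQM hzQ)) (fun r hr => (hfix1 r).mpr (hQM hr))
      (fun x hx r hr => (Subgroup.mem_normalizer_iff.mp ((hfix1 x).mp hx) r).mp hr) hzQ hRi hv
    by_contra hgM
    apply h1
    refine ⟨hv2, ((1 : G) : G ⧸ M), (g : G ⧸ M), fun hh => hgM ((hmk g).mp hh.symm),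
      (hfix1 v).mpr hvM, smul_mk_eq_iff.mpr hvg⟩
  · -- the isolated case
    have hiso := iso_of hz2 (by
      intro d hd hzd
      by_contra hne
      exact hn ⟨d, hd, hzd, hne⟩)
    set O := pPrimeCore 2 G with hO
    have hOn : O.Normal := Cfsg.Agent.Lib.Cores.pPrimeCore_normal 2
    have hOodd : Odd (Nat.card O) :=
      Nat.coprime_two_right.mp (Cfsg.Agent.Lib.Cores.pPrimeCore_coprime 2)
    have hzi : z⁻¹ = z := inv_eq_of_mul_eq_one_left hzz
    -- `G = O M`
    have hOM : ∀ x : G, ∃ c ∈ O, c⁻¹ * x ∈ M := by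
      intro x
      have h1 := Cfsg.Agent.S0215.iso_commutator z hiso x
      have h2 : z * (x * z * x⁻¹) ∈ O := by
        have e : z * (x * z * x⁻¹) = z * x * z⁻¹ * x⁻¹ := by rw [hzi]; group
        rw [e]; exact h1
      have h3 : Odd (orderOf (z * (x * z * x⁻¹))) := by
        have : orderOf (z * (x * z * x⁻¹)) ∣ Nat.card O := by
          rw [← Subgroup.orderOf_mk _ h2]; exact _root_.orderOf_dvd_natCard _
        exact hOodd.of_dvd_nat this
      obtain ⟨c, hc, hcx⟩ := exists_zpowers_conj hzz (by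
        calc x * z * x⁻¹ * (x * z * x⁻¹) = x * (z * z) * x⁻¹ := by group
          _ = 1 := by rw [hzz]; group) h3
      refine ⟨c, (zpowers_le.mpr h2) hc, ?_⟩
      apply mem_of_conj hodd hzQ hz2
      have e : c⁻¹ * x * z * (c⁻¹ * x)⁻¹ = z := by
        calc c⁻¹ * x * z * (c⁻¹ * x)⁻¹ = c⁻¹ * (x * z * x⁻¹) * c := by group
          _ = c⁻¹ * (c * z * c⁻¹) * c := by rw [hcx]
          _ = z := by group
      rw [e]; exact hQM hzQ
    have hKle : normalClosure (Q : Set G) ≤ Q ⊔ O := by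
      rw [normalClosure, closure_le]
      intro x hx
      rw [Group.mem_conjugatesOfSet_iff] at hx
      obtain ⟨r, hr, hrx⟩ := hx
      obtain ⟨w, rfl⟩ := isConj_iff.mp hrx
      obtain ⟨c, hc, hcw⟩ := hOM w
      have h1 := (Subgroup.mem_normalizer_iff.mp hcw r).mp hr
      set r' := c⁻¹ * w * r * (c⁻¹ * w)⁻¹ with hr'
      have e : w * r * w⁻¹ = (c * (r' * c⁻¹ * r'⁻¹)) * r' := by
        rw [hr']; group
      rw [SetLike.mem_coe, e]
      exact mul_mem (mem_sup_right (O.mul_mem hc (hOn.conj_mem _ (O.inv_mem hc) r')))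
        (mem_sup_left h1)
    have hmem : v ∈ ((Q ⊔ O : Subgroup G) : Set G) := hKle hv
    rw [Subgroup.mul_normal] at hmem
    obtain ⟨q, hq, w, hw, hqw⟩ := hmem
    have hqw' : q * w = v := hqw
    have hwM : w ∈ M := by
      have e : w = q⁻¹ * v := by rw [← hqw']; group
      rw [e]; exact M.mul_mem (M.inv_mem (hQM hq)) hvM
    have hvQ : v ∈ Q := by
      have h1 := mul_pow_mem (Q := Q) hwM hq (orderOf w)
      rw [pow_orderOf_eq_one, inv_one, mul_one, hqw'] at h1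
      have h2 : Odd (orderOf w) := by
        have : orderOf w ∣ Nat.card O := by
          rw [← Subgroup.orderOf_mk _ hw]; exact _root_.orderOf_dvd_natCard _
        exact hOodd.of_dvd_nat this
      obtain ⟨j, hj⟩ := h2
      rw [hj, pow_succ, pow_mul, pow_two, mul_self_of_orderOf hv2, one_pow, one_mul] at h1
      exact h1
    have hv1 : v ≠ 1 := by
      rintro rfl
      rw [orderOf_one] at hv2
      exact absurd hv2 (by norm_num)
    have h1 := hRi v hvQ (mul_self_of_orderOf hv2) hv1 (g : G ⧸ M) (smul_mk_eq_iff.mpr hvg)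
    exact (hmk g).mp h1

end Cfsg.Agent.S1911
end

private theorem dce_2534f1a0fee7 : _root_.True := by
  try have : _root_.True := by simp only [_root_.Cfsg.Agent.H23.CentralKer.TS.PP.eq_1]
  exact _root_.True.intro
end
end
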