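import Cfsg.Statements.S1907
import Cfsg.Agent.Dichotomy.Constraint
set_option linter.all false

set_option autoImplicit false
open Cfsg

namespace Cfsg.Agent.S1907

open Subgroup

variable {p : ℕ} [hp : Fact p.Prime]

/-- A `p`-subgroup and a subgroup of order prime to `p` meet trivially. -/
theorem eq_one_of_mem_of_mem {L : Type*} [Group L] [Finite L] {Q K : Subgroup L} (hQ : IsPGroup p Q)
    (hK : (Nat.card K).Coprime p) {x : L} (hxQ : x ∈ Q) (hxK : x ∈ K) : x = 1 := by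
  obtain ⟨k, hk⟩ := (IsPGroup.iff_orderOf.mp hQ) ⟨x, hxQ⟩
  rw [Subgroup.orderOf_mk] at hk
  have h1 : orderOf x ∣ Nat.card K := by
    have := orderOf_dvd_natCard (⟨x, hxK⟩ : K)
    rwa [Subgroup.orderOf_mk] at this
  have h2 : k = 0 := by
    by_contra hk0
    have h3 : p ∣ Nat.card K := (dvd_pow_self p hk0).trans (hk ▸ h1)
    exact hp.out.one_lt.ne' (Nat.Coprime.eq_one_of_dvd hK.symm h3)
  rw [h2, pow_zero, orderOf_eq_one_iff] at hk
  exact hk

omit hp in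
theorem isPGroup_zpowers {L : Type*} [Group L] {y : L} (hy : ∃ k : ℕ, orderOf y = p ^ k) :
    IsPGroup p (zpowers y) := by
  obtain ⟨k, hk⟩ := hy
  exact IsPGroup.of_card (n := k) (by rw [Nat.card_zpowers, hk])

theorem conj_aux {L : Type*} [Group L] [Finite L] {K : Subgroup L} [K.Normal]
    (hK : (Nat.card K).Coprime p) {y z : L} (hy : ∃ k : ℕ, orderOf y = p ^ k)
    (hz : ∃ k : ℕ, orderOf z = p ^ k) (hL : K ⊔ zpowers y = ⊤) (hyz : y⁻¹ * z ∈ K) :
    ∃ k ∈ K, k * y * k⁻¹ = z := by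
  obtain ⟨P1, hP1⟩ := (isPGroup_zpowers hy).exists_le_sylow
  obtain ⟨P2, hP2⟩ := (isPGroup_zpowers hz).exists_le_sylow
  have hyP : y ∈ P1 := hP1 (mem_zpowers y)
  have hzP : z ∈ P2 := hP2 (mem_zpowers z)
  obtain ⟨s, hs⟩ := MulAction.exists_smul_eq L P1 P2
  have hsL : s ∈ K ⊔ zpowers y := by rw [hL]; trivial
  obtain ⟨k, hk, a, ha, hka⟩ := Subgroup.mem_sup_of_normal_left.mp hsL
  have haP : a ∈ P1 := hP1 ha
  have h1 : k * y * k⁻¹ ∈ P2 := by
    rw [← hs]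
    refine ⟨a⁻¹ * y * a, ?_, ?_⟩
    · exact mul_mem (mul_mem (inv_mem haP) hyP) haP
    · change s * (a⁻¹ * y * a) * s⁻¹ = k * y * k⁻¹
      rw [← hka]
      group
  refine ⟨k, hk, ?_⟩
  have h2 : z⁻¹ * (k * y * k⁻¹) ∈ (P2 : Subgroup L) := mul_mem (inv_mem hzP) h1
  have h3 : z⁻¹ * (k * y * k⁻¹) ∈ K := by
    have h4 : z⁻¹ * (k * y * k⁻¹) = (y⁻¹ * z)⁻¹ * ((y⁻¹ * k * y⁻¹⁻¹) * k⁻¹) := by group
    rw [h4]
    exact mul_mem (inv_mem hyz) (mul_mem (Subgroup.Normal.conj_mem inferInstance k hk _)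
      (inv_mem hk))
  have h4 := eq_one_of_mem_of_mem P2.isPGroup' hK h2 h3
  rw [inv_mul_eq_one] at h4
  exact h4.symm

theorem orderOf_conj_eq {G : Type*} [Group G] (g y : G) : orderOf (g * y * g⁻¹) = orderOf y :=
  (MulEquiv.orderOf_eq (MulAut.conj g) y)

/-- If `K` is a `p'`-subgroup normalised by the `p`-element `y`, then every `p`-element of the
coset `y K` is `K`-conjugate to `y`. -/
theorem exists_conj_of_coset {G : Type*} [Group G] [Finite G] {K : Subgroup G}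
    (hK : (Nat.card K).Coprime p) {y z : G} (hy : ∃ k : ℕ, orderOf y = p ^ k)
    (hz : ∃ k : ℕ, orderOf z = p ^ k) (hyK : y ∈ normalizer (K : Set G)) (hyz : y⁻¹ * z ∈ K) :
    ∃ k ∈ K, k * y * k⁻¹ = z := by
  set L := K ⊔ zpowers y with hL
  have hKL : K ≤ L := le_sup_left
  have hyL : y ∈ L := le_sup_right (a := K) (mem_zpowers y)
  have hzL : z ∈ L := by
    have : z = y * (y⁻¹ * z) := by group
    rw [this]
    exact mul_mem hyL (hKL hyz)
  have hn : (K.subgroupOf L).Normal := by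
    apply Subgroup.normal_subgroupOf_of_le_normalizer
    rw [hL, sup_le_iff]
    exact ⟨Subgroup.le_normalizer, (zpowers_le).mpr hyK⟩
  have hcard : (Nat.card (K.subgroupOf L)).Coprime p := by
    rwa [Nat.card_congr (Subgroup.subgroupOfEquivOfLe hKL).toEquiv]
  obtain ⟨k, hk, hkz⟩ := conj_aux (K := K.subgroupOf L) hcard
    (y := ⟨y, hyL⟩) (z := ⟨z, hzL⟩) (by simpa only [Subgroup.orderOf_mk] using hy)
    (by simpa only [Subgroup.orderOf_mk] using hz) (by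
      apply Subgroup.map_injective L.subtype_injective
      rw [Subgroup.map_sup, MonoidHom.map_zpowers, Subgroup.subgroupOf_map_subtype,
        inf_eq_left.mpr hKL, ← MonoidHom.range_eq_map, Subgroup.range_subtype]
      rfl) hyz
  refine ⟨k, hk, ?_⟩
  exact congrArg Subtype.val hkz

/-- Let P be a Sylow p-subgroup of a finite group G, H = P ∩ O_{p',p}(G), N = N_G(H) and D = O_{p'}(G). (a) If y is an element of p-power order of N and d ∈ D with d⁻¹ y d ∈ N, then d = d₁ d₂ with d₁ ∈ C_D(y) and d₂ ∈ C_D(H). (b) Two elements of P that are conjugate in G are conjugate in N. -/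
theorem result {G : Type*} [Group G] [Finite G] {p : ℕ} [Fact p.Prime] (P : Sylow p G) :
    (∀ y ∈ Subgroup.normalizer (((P : Subgroup G) ⊓ Cfsg.pPrimePCore p G : Subgroup G) : Set G), (∃ k : ℕ, orderOf y = p ^ k) →
      ∀ d ∈ Cfsg.pPrimeCore p G, d⁻¹ * y * d ∈ Subgroup.normalizer (((P : Subgroup G) ⊓ Cfsg.pPrimePCore p G : Subgroup G) : Set G) →
        ∃ d₁ ∈ Cfsg.pPrimeCore p G ⊓ Subgroup.centralizer ({y} : Set G),
          ∃ d₂ ∈ Cfsg.pPrimeCore p G ⊓ Subgroup.centralizer (((P : Subgroup G) ⊓ Cfsg.pPrimePCore p G : Subgroup G) : Set G), d = d₁ * d₂) ∧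
    ∀ x y : G, x ∈ (P : Subgroup G) → y ∈ (P : Subgroup G) → IsConj x y →
      ∃ n ∈ Subgroup.normalizer (((P : Subgroup G) ⊓ Cfsg.pPrimePCore p G : Subgroup G) : Set G), n * x * n⁻¹ = y := by
  have hDn : (pPrimeCore p G).Normal := Lib.Cores.pPrimeCore_normal p
  have hDc : (Nat.card (pPrimeCore p G)).Coprime p := Lib.Cores.pPrimeCore_coprime p
  set D := pPrimeCore p G with hD
  have hMn : (pPrimePCore p G).Normal := SignalizersComponents.PConstrained.pPrimePCore_normal (G := G) p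
  set H : Subgroup G := (P : Subgroup G) ⊓ pPrimePCore p G with hH
  have hHp : IsPGroup p H := P.isPGroup'.to_le inf_le_left
  -- `N_D(H) = C_D(H)`
  have hcent : ∀ d ∈ D, d ∈ normalizer (H : Set G) → d ∈ centralizer (H : Set G) := by
    intro d hd hdN
    rw [Subgroup.mem_centralizer_iff]
    intro h hh
    have h1 : d * h * d⁻¹ * h⁻¹ ∈ H :=
      mul_mem ((Subgroup.mem_normalizer_iff.mp hdN h).mp hh) (inv_mem hh)
    have h2 : d * h * d⁻¹ * h⁻¹ ∈ D := by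
      have h3 : d * h * d⁻¹ * h⁻¹ = d * (h * d⁻¹ * h⁻¹) := by group
      rw [h3]
      exact mul_mem hd (hDn.conj_mem _ (inv_mem hd) h)
    have h4 := eq_one_of_mem_of_mem hHp hDc h1 h2
    rw [mul_inv_eq_one, mul_inv_eq_iff_eq_mul] at h4
    exact h4.symm
  have ha : ∀ y ∈ normalizer (H : Set G), (∃ k : ℕ, orderOf y = p ^ k) →
      ∀ d ∈ D, d⁻¹ * y * d ∈ normalizer (H : Set G) →
        ∃ d₁ ∈ D ⊓ centralizer ({y} : Set G),
          ∃ d₂ ∈ D ⊓ centralizer (H : Set G), d = d₁ * d₂ := by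
    intro y hy hyp d hd hyd
    set K : Subgroup G := D ⊓ centralizer (H : Set G) with hK
    have hKc : (Nat.card K).Coprime p := Nat.Coprime.coprime_dvd_left
      (Subgroup.card_dvd_of_le inf_le_left) hDc
    have hyK : y ∈ normalizer (K : Set G) := by
      rw [Subgroup.mem_normalizer_iff]
      intro k
      have key : ∀ w ∈ normalizer (H : Set G), ∀ k ∈ K, w * k * w⁻¹ ∈ K := by
        intro w hw k hk
        refine ⟨hDn.conj_mem _ hk.1 w, hcent _ (hDn.conj_mem _ hk.1 w) ?_⟩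
        exact mul_mem (mul_mem hw (Subgroup.centralizer_le_normalizer _ hk.2)) (inv_mem hw)
      refine ⟨key y hy k, fun h => ?_⟩
      have := key y⁻¹ (inv_mem hy) _ h
      have h2 : y⁻¹ * (y * k * y⁻¹) * y⁻¹⁻¹ = k := by group
      rwa [h2] at this
    have hyz : y⁻¹ * (d⁻¹ * y * d) ∈ K := by
      have h1 : y⁻¹ * (d⁻¹ * y * d) ∈ D := by
        have h3 : y⁻¹ * (d⁻¹ * y * d) = (y⁻¹ * d⁻¹ * y⁻¹⁻¹) * d := by group
        rw [h3]
        exact mul_mem (hDn.conj_mem _ (inv_mem hd) _) hd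
      exact ⟨h1, hcent _ h1 (mul_mem (inv_mem hy) hyd)⟩
    have hzp : ∃ k : ℕ, orderOf (d⁻¹ * y * d) = p ^ k := by
      obtain ⟨k, hk⟩ := hyp
      refine ⟨k, ?_⟩
      rw [← hk]
      have := orderOf_conj_eq d⁻¹ y
      rwa [inv_inv] at this
    obtain ⟨k, hk, hkz⟩ := exists_conj_of_coset hKc hyp hzp hyK hyz
    refine ⟨d * k, ⟨mul_mem hd hk.1, ?_⟩, k⁻¹, inv_mem hk, by group⟩
    refine Subgroup.mem_centralizer_singleton_iff.mpr ?_
    have h5 : d * (k * y * k⁻¹) * d⁻¹ = y := by rw [hkz]; group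
    calc d * k * y = d * (k * y * k⁻¹) * d⁻¹ * (d * k) := by group
      _ = y * (d * k) := by rw [h5]
  refine ⟨ha, ?_⟩
  intro x y hx hy hxy
  obtain ⟨g, hg⟩ := isConj_iff.mp hxy
  obtain ⟨d, hd, n, hn, rfl⟩ := Dichotomy.Constraint.frattini P g
  have hPN : (P : Subgroup G) ≤ normalizer (H : Set G) := by
    intro w hw
    rw [Subgroup.mem_normalizer_iff]
    intro h
    have key : ∀ w ∈ (P : Subgroup G), ∀ h ∈ H, w * h * w⁻¹ ∈ H := fun w hw h hh =>
      ⟨Subgroup.mul_mem _ (Subgroup.mul_mem _ hw hh.1) (Subgroup.inv_mem _ hw), hMn.conj_mem _ hh.2 w⟩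
    refine ⟨key w hw h, fun hh => ?_⟩
    have := key w⁻¹ (Subgroup.inv_mem _ hw) _ hh
    have h2 : w⁻¹ * (w * h * w⁻¹) * w⁻¹⁻¹ = h := by group
    rwa [h2] at this
  have hz : n * x * n⁻¹ ∈ normalizer (H : Set G) :=
    mul_mem (mul_mem hn (hPN hx)) (inv_mem hn)
  have hzp : ∃ k : ℕ, orderOf (n * x * n⁻¹) = p ^ k := by
    obtain ⟨k, hk⟩ := (IsPGroup.iff_orderOf.mp P.isPGroup') ⟨x, hx⟩
    rw [Subgroup.orderOf_mk] at hk
    refine ⟨k, ?_⟩
    rw [← hk]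
    exact orderOf_conj_eq n x
  have hyz : d⁻¹⁻¹ * (n * x * n⁻¹) * d⁻¹ = y := by rw [← hg]; group
  obtain ⟨d₁, hd₁, d₂, hd₂, hdd⟩ := ha _ hz hzp d⁻¹ (inv_mem hd) (by
    rw [hyz]; exact hPN hy)
  refine ⟨d₂⁻¹ * n, mul_mem (inv_mem (Subgroup.centralizer_le_normalizer _ hd₂.2)) hn, ?_⟩
  have h6 : d₁⁻¹ * (n * x * n⁻¹) * d₁ = n * x * n⁻¹ := by
    have h7 := Subgroup.mem_centralizer_singleton_iff.mp hd₁.2
    rw [mul_assoc, ← h7]
    group
  rw [← hyz, hdd]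
  calc d₂⁻¹ * n * x * (d₂⁻¹ * n)⁻¹ = d₂⁻¹ * (n * x * n⁻¹) * d₂ := by group
    _ = d₂⁻¹ * (d₁⁻¹ * (n * x * n⁻¹) * d₁) * d₂ := by rw [h6]
    _ = _ := by group

end Cfsg.Agent.S1907
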