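import Cfsg.Agent.H922.OddTensorTwo
import Cfsg.Agent.H931.SpProper
import Cfsg.Agent.S0144
import Mathlib
import Cfsg.Agent.H919.AschWreathForm3
import Cfsg.Statements.S5823
import Cfsg.Agent.H931.SpWrap
import Cfsg.Agent.H914.SpExc
import Cfsg.Agent.S5662
set_option linter.all false

-- part: H919/SpEightA
section
/-!
# `Sp_8(q)` is not in the tensor-wreath subgroup `GL_2 ⊗ GL_2 ⊗ GL_2 . S_3` (helper919)

`permPart A` : the elements of the tensor-wreath subgroup whose permutation lies in `A`. A perfect subgroup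
of the tensor-wreath subgroup with `t ≤ 4` factors consists of pure tensors.
-/

set_option autoImplicit false
set_option linter.unusedSectionVars false
set_option linter.unusedVariables false

namespace Cfsg.Agent.H919

open Cfsg Cfsg.Geo Cfsg.Agent.H922
open scoped MatrixGroups Matrix Kronecker commutatorElement

section Perm

variable {F : Type*} [Field F] {t m : ℕ}

lemma nf_mul (x y : Fin t → GL (Fin m) F) (σ τ : Equiv.Perm (Fin t)) :
    (pureGL x * facPerm F m σ) * (pureGL y * facPerm F m τ)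
      = pureGL (x * fun i => y (σ.symm i)) * facPerm F m (σ * τ) := by
  rw [← pureGL_mul, ← facPerm_mul_pureGL, ← facPerm_mul]
  group

lemma nf_inv (x : Fin t → GL (Fin m) F) (σ : Equiv.Perm (Fin t)) :
    (pureGL x * facPerm F m σ)⁻¹ = pureGL (fun i => (x⁻¹) (σ i)) * facPerm F m σ⁻¹ := by
  rw [mul_inv_rev, pureGL_inv, facPerm_inv]
  have h := facPerm_mul_pureGL (F := F) (m := m) σ⁻¹ x⁻¹
  have h3 : (fun i => (x⁻¹) ((σ⁻¹).symm i)) = fun i => (x⁻¹) (σ i) := rfl
  rw [h3] at h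
  rw [← h]
  group

/-- The elements of the standard tensor-wreath subgroup with permutation in `A`. -/
def permPart (F : Type*) [Field F] (m : ℕ) {t : ℕ} (A : Subgroup (Equiv.Perm (Fin t))) :
    Subgroup (GL (Fin t → Fin m) F) where
  carrier := {g | ∃ σ ∈ A, ∃ x : Fin t → GL (Fin m) F, g = pureGL x * facPerm F m σ}
  mul_mem' := by
    rintro _ _ ⟨σ, hσ, x, rfl⟩ ⟨τ, hτ, y, rfl⟩
    exact ⟨σ * τ, A.mul_mem hσ hτ, _, nf_mul x y σ τ⟩
  one_mem' := by
    refine ⟨1, A.one_mem, 1, ?_⟩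
    have h1 : pureGL (1 : Fin t → GL (Fin m) F) = 1 := by
      have := pureGL_mul (1 : Fin t → GL (Fin m) F) 1
      rw [mul_one] at this
      exact mul_eq_left.1 this
    have h2 : facPerm F m (1 : Equiv.Perm (Fin t)) = 1 := by
      have := facPerm_mul (F := F) (m := m) (1 : Equiv.Perm (Fin t)) 1
      rw [mul_one] at this
      exact mul_eq_left.1 this
    rw [h1, h2, mul_one]
  inv_mem' := by
    rintro _ ⟨σ, hσ, x, rfl⟩
    exact ⟨σ⁻¹, A.inv_mem hσ, _, nf_inv x σ⟩

lemma commutator_permPart (A B : Subgroup (Equiv.Perm (Fin t))) :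
    ⁅permPart F m A, permPart F m B⁆ ≤ permPart F m ⁅A, B⁆ := by
  rw [Subgroup.commutator_le]
  rintro _ ⟨σ, hσ, x, rfl⟩ _ ⟨τ, hτ, y, rfl⟩
  refine ⟨⁅σ, τ⁆, Subgroup.commutator_mem_commutator hσ hτ, ?_⟩
  rw [commutatorElement_def, nf_inv, nf_inv, nf_mul, nf_mul, nf_mul, commutatorElement_def]
  exact ⟨_, rfl⟩

lemma tensorWreathStandard_le_permPart : tensorWreathStandard m t F ≤ permPart F m ⊤ := by
  intro g hg
  obtain ⟨σ, x, rfl⟩ := exists_normal_form hg
  exact ⟨σ, Subgroup.mem_top σ, x, rfl⟩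

/-- A perfect subgroup of the tensor-wreath subgroup with at most four factors consists of pure tensors. -/
theorem perfect_le_pure (ht : t ≤ 4) {S : Subgroup (GL (Fin t → Fin m) F)} (hS : ⁅S, S⁆ = S)
    (hle : S ≤ tensorWreathStandard m t F) : S ≤ permPart F m ⊥ := by
  have h1 : ∀ n, S ≤ permPart F m (derivedSeries (Equiv.Perm (Fin t)) n) := by
    intro n
    induction n with
    | zero => rw [derivedSeries_zero]; exact hle.trans tensorWreathStandard_le_permPart
    | succ n ih =>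
      rw [derivedSeries_succ]
      calc S = ⁅S, S⁆ := hS.symm
        _ ≤ _ := Subgroup.commutator_mono ih ih
        _ ≤ _ := commutator_permPart _ _
  have hsol : Group.IsSolvable (Equiv.Perm (Fin t)) := by
    have hcard : Nat.card (Equiv.Perm (Fin t)) = t.factorial := by
      rw [Nat.card_eq_fintype_card, Fintype.card_perm, Fintype.card_fin]
    have : ∃ a b, Nat.card (Equiv.Perm (Fin t)) = 2 ^ a * 3 ^ b := by
      rw [hcard]
      interval_cases t
      · exact ⟨0, 0, rfl⟩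
      · exact ⟨0, 0, rfl⟩
      · exact ⟨1, 0, rfl⟩
      · exact ⟨1, 1, rfl⟩
      · exact ⟨3, 1, rfl⟩
    obtain ⟨a, b, hab⟩ := this
    exact Cfsg.Agent.S0144.result 2 3 a b Nat.prime_two Nat.prime_three hab
  obtain ⟨n, hn⟩ := hsol.solvable
  have := h1 n
  rwa [hn] at this

end Perm

section Frame

variable {ι : Type} [Fintype ι] [DecidableEq ι] {F : Type*} [Field F] {t m : ℕ}

/-- Separating the first factor. -/
def headEquiv (e : ι ≃ (Fin (t + 1) → Fin m)) (u : (Fin t → Fin m) ≃ Fin (m ^ t)) : ι ≃ Fin m × Fin (m ^ t) :=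
  (e.trans (Fin.consEquiv (fun _ => Fin m)).symm).trans (Equiv.prodCongr (Equiv.refl _) u)

lemma headEquiv_fst (e : ι ≃ (Fin (t + 1) → Fin m)) (u : (Fin t → Fin m) ≃ Fin (m ^ t)) (i : ι) :
    (headEquiv e u i).1 = e i 0 := rfl

lemma headEquiv_snd (e : ι ≃ (Fin (t + 1) → Fin m)) (u : (Fin t → Fin m) ≃ Fin (m ^ t)) (i : ι) :
    (headEquiv e u i).2 = u (fun j => e i j.succ) := rfl

/-- Pure tensors with `t + 1` factors lie in the stabiliser of the tensor decomposition separating the first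
factor. -/
theorem frameGL_pure_mem (e : ι ≃ (Fin (t + 1) → Fin m)) (P : GL ι F) (u : (Fin t → Fin m) ≃ Fin (m ^ t))
    (x : Fin (t + 1) → GL (Fin m) F) :
    frameGL e P (pureGL x) ∈ tensorProductSubgroup m (m ^ t) (headEquiv e u) P := by
  rw [mem_tensorProductSubgroup_iff]
  refine ⟨x 0, glReindex u (pureGL fun i => x i.succ), ?_⟩
  apply Units.ext
  rw [frameGL_val, frameMat, Units.val_mul, Units.val_mul]
  congr 2
  ext i j
  have h1 : (Matrix.reindexAlgEquiv F F e.symm ((pureGL x : GL (Fin (t + 1) → Fin m) F) : Matrix _ _ F)) i j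
      = ∏ l, (x l : Matrix (Fin m) (Fin m) F) (e i l) (e j l) := rfl
  have h2 : ((glReindex (headEquiv e u).symm (kronGL (x 0) (glReindex u (pureGL fun i => x i.succ))) : GL ι F) :
      Matrix ι ι F) i j
      = (x 0 : Matrix (Fin m) (Fin m) F) (e i 0) (e j 0) *
        ∏ l, (x (Fin.succ l) : Matrix (Fin m) (Fin m) F) ((u.symm (headEquiv e u i).2) l)
          ((u.symm (headEquiv e u j).2) l) := rfl
  rw [h1, h2, Fin.prod_univ_succ]
  congr 1
  apply Finset.prod_congr rfl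
  intro l _
  rw [headEquiv_snd, headEquiv_snd, Equiv.symm_apply_apply, Equiv.symm_apply_apply]

end Frame

/-- `Sp_8(q)` is not in `GL_2 ⊗ GL_2 ⊗ GL_2 . S_3`; more generally `Sp_2m` is in no tensor-wreath subgroup with
`3` or `4` factors. -/
theorem spGL_not_le_tensorWreath {F : Type*} [Field F] [Fintype F] {m : ℕ}
    (hperf : ⁅spGL m F, spGL m F⁆ = spGL m F) (hm : 1 ≤ m) {t k : ℕ} (ht : t ≤ 4) (ht2 : 2 ≤ t) (hk : 2 ≤ k)
    (e : (Fin m ⊕ Fin m) ≃ (Fin t → Fin k)) (P : GL (Fin m ⊕ Fin m) F) :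
    ¬ spGL m F ≤ tensorWreathSubgroup k t e P := by
  intro hle
  obtain ⟨s, rfl⟩ : ∃ s, t = s + 1 := ⟨t - 1, by omega⟩
  let u : (Fin s → Fin k) ≃ Fin (k ^ s) := finFunctionFinEquiv
  apply Cfsg.Agent.H931.spGL_not_le_tensorProductSubgroup hm hk
    (show 2 ≤ k ^ s from le_trans hk (Nat.le_self_pow (by omega) k)) (headEquiv e u) P
  let S : Subgroup (GL (Fin (s + 1) → Fin k) F) := (spGL m F).comap (frameGL e P).toMonoidHom
  have hmap : S.map (frameGL e P).toMonoidHom = spGL m F :=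
    Subgroup.map_comap_eq_self_of_surjective (frameGL e P).surjective _
  have hSle : S ≤ tensorWreathStandard k (s + 1) F := by
    intro g hg
    have h1 : frameGL e P g ∈ tensorWreathSubgroup k (s + 1) e P := hle hg
    rw [mem_tensorWreathSubgroup_iff] at h1
    obtain ⟨g', hg', h2⟩ := h1
    rwa [← (frameGL e P).injective h2]
  have hSperf : ⁅S, S⁆ = S := by
    apply Subgroup.map_injective (f := (frameGL e P).toMonoidHom) (frameGL e P).injective
    rw [Subgroup.map_commutator, hmap, hperf]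
  intro g hg
  have h3 : (frameGL e P).symm g ∈ S := by
    change frameGL e P ((frameGL e P).symm g) ∈ spGL m F
    rw [MulEquiv.apply_symm_apply]; exact hg
  obtain ⟨σ, hσ, x, hx⟩ := perfect_le_pure ht hSperf hSle h3
  rw [Subgroup.mem_bot] at hσ
  have h2 : facPerm F k (1 : Equiv.Perm (Fin (s + 1))) = 1 := by
    have := facPerm_mul (F := F) (m := k) (1 : Equiv.Perm (Fin (s + 1))) 1
    rw [mul_one] at this
    exact mul_eq_left.1 this
  rw [hσ, h2, mul_one] at hx
  have h4 : g = frameGL e P (pureGL x) := by rw [← hx, MulEquiv.apply_symm_apply]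
  rw [h4]
  exact frameGL_pure_mem e P u x

end Cfsg.Agent.H919
end

-- part: H919/DetPres
section
/-!
# Linear maps of 2 × 2 matrices multiplying the determinant by a constant (helper919)

`det_preserver`: such a map is `X ↦ A X B` or `X ↦ A Xᵀ B` with `A`, `B` invertible.
-/

set_option autoImplicit false
set_option linter.unusedSectionVars false
set_option linter.unusedVariables false

namespace Cfsg.Agent.H919

open scoped Matrix

variable {F : Type*} [Field F]

local notation "M2" => Matrix (Fin 2) (Fin 2) F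

lemma mat2_decomp (X : Matrix (Fin 2) (Fin 2) F) :
    X = X 0 0 • (!![1, 0; 0, 0] : Matrix (Fin 2) (Fin 2) F) + X 0 1 • !![0, 1; 0, 0]
      + X 1 0 • !![0, 0; 1, 0] + X 1 1 • !![0, 0; 0, 1] := by
  ext i j
  fin_cases i <;> fin_cases j <;> simp

/-- A linear map fixing `1`, `E₁₂`, `E₂₁` and preserving the determinant. -/
lemma det_preserver_aux {T : M2 →ₗ[F] M2} (hdet : ∀ X, (T X).det = X.det) (h1 : T 1 = 1)
    (h12 : T !![0, 1; 0, 0] = !![0, 1; 0, 0]) (h21 : T !![0, 0; 1, 0] = !![0, 0; 1, 0]) :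
    (∀ X, T X = X) ∨ (∀ X, T X = !![0, 1; 1, 0] * Xᵀ * !![0, 1; 1, 0]) := by
  set L := T !![1, 0; 0, 0] with hL
  have h22 : T !![0, 0; 0, 1] = 1 - L := by
    have h2 : (!![0, 0; 0, 1] : M2) = 1 - !![1, 0; 0, 0] := by
      ext i j; fin_cases i <;> fin_cases j <;> simp
    rw [h2, map_sub, h1]
  have hd : L.det = 0 := by rw [hL, hdet]; simp
  have hd1 : (L + !![0, 1; 0, 0]).det = 0 := by
    rw [hL, ← h12, ← map_add, hdet]; simp
  have hd2 : (L + !![0, 0; 1, 0]).det = 0 := by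
    rw [hL, ← h21, ← map_add, hdet]; simp
  have hd3 : (L - 1).det = 0 := by
    rw [hL, ← h1, ← map_sub, hdet]
    simp [Matrix.det_fin_two]
  simp only [Matrix.det_fin_two, Matrix.add_apply, Matrix.sub_apply, Matrix.of_apply, Matrix.cons_val',
    Matrix.cons_val_zero, Matrix.cons_val_one, Matrix.one_apply_eq, Matrix.cons_val_fin_one, add_zero, zero_add,
    ne_eq, zero_ne_one, not_false_eq_true, Matrix.one_apply_ne, one_ne_zero, sub_zero] at hd hd1 hd2 hd3
  have hr : L 1 0 = 0 := by linear_combination hd - hd1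
  have hq : L 0 1 = 0 := by linear_combination hd - hd2
  rw [hr, hq] at hd hd3
  have hps : L 0 0 * L 1 1 = 0 := by linear_combination hd
  have htr : L 0 0 + L 1 1 = 1 := by linear_combination hd - hd3
  rcases mul_eq_zero.1 hps with h | h
  · right
    have h11 : L 1 1 = 1 := by rw [h, zero_add] at htr; exact htr
    have hLe : L = !![0, 0; 0, 1] := by
      ext i j; fin_cases i <;> fin_cases j <;> simp [h, h11, hr, hq]
    intro X
    conv_lhs => rw [mat2_decomp X]
    rw [map_add, map_add, map_add, map_smul, map_smul, map_smul, map_smul, h12, h21, h22, ← hL, hLe]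
    ext i j
    fin_cases i <;> fin_cases j <;> simp [Matrix.mul_apply, Fin.sum_univ_two, Matrix.vecMul, dotProduct]
  · left
    have h11 : L 0 0 = 1 := by rw [h, add_zero] at htr; exact htr
    have hLe : L = !![1, 0; 0, 0] := by
      ext i j; fin_cases i <;> fin_cases j <;> simp [h, h11, hr, hq]
    intro X
    conv_lhs => rw [mat2_decomp X]
    rw [map_add, map_add, map_add, map_smul, map_smul, map_smul, map_smul, h12, h21, h22, ← hL, hLe]
    ext i j
    fin_cases i <;> fin_cases j <;> simp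

/-- The linear map `X ↦ A X B`. -/
def sandwich (A B : M2) : M2 →ₗ[F] M2 :=
  (LinearMap.mulLeft F A).comp (LinearMap.mulRight F B)

lemma sandwich_apply (A B X : M2) : sandwich A B X = A * (X * B) := rfl

/-- **Frobenius**: a linear map of `M₂(F)` multiplying the determinant by a non-zero constant is
`X ↦ A X B` or `X ↦ A Xᵀ B`. -/
theorem det_preserver {T : M2 →ₗ[F] M2} {μ : F} (hμ : μ ≠ 0) (hdet : ∀ X, (T X).det = μ * X.det) :
    ∃ A B : (M2)ˣ, (∀ X, T X = (A : M2) * X * (B : M2)) ∨ (∀ X, T X = (A : M2) * Xᵀ * (B : M2)) := by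
  -- step 1: fix the identity
  have hC : IsUnit (T 1) := by
    rw [Matrix.isUnit_iff_isUnit_det, hdet, Matrix.det_one, mul_one]
    exact hμ.isUnit
  obtain ⟨C, hC⟩ := hC
  set T₁ : M2 →ₗ[F] M2 := (LinearMap.mulLeft F ((C⁻¹ : (M2)ˣ) : M2)).comp T with hT₁
  have hT₁a : ∀ X, T₁ X = ((C⁻¹ : (M2)ˣ) : M2) * T X := fun X => rfl
  have hCdet : ((C⁻¹ : (M2)ˣ) : M2).det * μ = 1 := by
    have h1 : ((C⁻¹ : (M2)ˣ) : M2) * (C : M2) = 1 := Units.inv_mul C
    have h2 := congrArg Matrix.det h1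
    rw [Matrix.det_mul, hC, hdet, Matrix.det_one, mul_one] at h2
    exact h2
  have hT₁det : ∀ X, (T₁ X).det = X.det := by
    intro X
    rw [hT₁a, Matrix.det_mul, hdet, ← mul_assoc, hCdet, one_mul]
  have hT₁1 : T₁ 1 = 1 := by rw [hT₁a, ← hC, Units.inv_mul]
  have hinj₁ : ∀ X, T₁ X = 0 → X = 0 := by
    intro X hX
    have hdX : ∀ Y, (X + Y).det = Y.det := by
      intro Y
      rw [← hT₁det, map_add, hX, zero_add, hT₁det]
    have e0 := hdX 0
    have e1 := hdX !![1, 0; 0, 0]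
    have e2 := hdX !![0, 1; 0, 0]
    have e3 := hdX !![0, 0; 1, 0]
    have e4 := hdX !![0, 0; 0, 1]
    simp only [Matrix.det_fin_two, Matrix.add_apply, Matrix.of_apply, Matrix.cons_val',
      Matrix.cons_val_zero, Matrix.cons_val_one, Matrix.cons_val_fin_one, add_zero, zero_add,
      Matrix.zero_apply, mul_zero, zero_mul, sub_zero, mul_one, one_mul] at e0 e1 e2 e3 e4
    ext i j
    fin_cases i <;> fin_cases j <;> simp only [Fin.zero_eta, Fin.mk_one, Fin.isValue, Matrix.zero_apply]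
    · linear_combination e4 - e0
    · linear_combination e0 - e3
    · linear_combination e0 - e2
    · linear_combination e1 - e0
  -- step 2: fix E₁₂
  set N := T₁ !![0, 1; 0, 0] with hN
  have hN0 : N ≠ 0 := by
    intro h
    have h3 := hinj₁ _ h
    have := congrFun (congrFun h3 0) 1
    simp at this
  have hNdet : N.det = 0 := by rw [hN, hT₁det]; simp
  have hNtr : (N + 1).det = 1 := by
    rw [hN, ← hT₁1, ← map_add, hT₁det]; simp [Matrix.det_fin_two]
  simp only [Matrix.det_fin_two, Matrix.add_apply, Matrix.one_apply_eq, ne_eq, zero_ne_one, not_false_eq_true,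
    Matrix.one_apply_ne, one_ne_zero, add_zero] at hNdet hNtr
  have htr : N 1 1 = - N 0 0 := by linear_combination hNtr - hNdet
  have hNN : N * N = 0 := by
    ext i j
    fin_cases i <;> fin_cases j <;> simp [Matrix.mul_apply, Fin.sum_univ_two, htr] <;>
      first
        | (rw [htr] at hNdet; linear_combination -hNdet)
        | ring
  obtain ⟨w, hw⟩ : ∃ w : Fin 2 → F, N *ᵥ w ≠ 0 := by
    by_contra hcon
    push Not at hcon
    apply hN0
    ext i j
    have := congrFun (hcon (Pi.single j 1)) i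
    simpa using this
  set n := N *ᵥ w with hn
  have hNn : N *ᵥ n = 0 := by rw [hn, Matrix.mulVec_mulVec, hNN, Matrix.zero_mulVec]
  set A₀ : M2 := !![n 0, w 0; n 1, w 1] with hA₀
  have hA₀det : A₀.det ≠ 0 := by
    intro h0
    rw [hA₀, Matrix.det_fin_two_of] at h0
    apply hw
    have hex : ∃ c : F, w = c • n := by
      by_cases hn0 : n 0 = 0
      · have hn1 : n 1 ≠ 0 := by
          intro h1
          apply hw
          funext i
          fin_cases i
          · exact hn0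
          · exact h1
        refine ⟨w 1 / n 1, ?_⟩
        funext i
        fin_cases i
        · simp only [Fin.zero_eta, Pi.smul_apply, smul_eq_mul, hn0, mul_zero]
          rw [hn0, zero_mul, zero_sub, neg_eq_zero] at h0
          exact (mul_eq_zero.1 h0).resolve_right hn1
        · simp only [Fin.mk_one, Pi.smul_apply, smul_eq_mul]
          field_simp
      · refine ⟨w 0 / n 0, ?_⟩
        funext i
        fin_cases i
        · simp only [Fin.zero_eta, Pi.smul_apply, smul_eq_mul]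
          field_simp
        · simp only [Fin.mk_one, Pi.smul_apply, smul_eq_mul]
          field_simp
          linear_combination h0
    obtain ⟨c, hc⟩ := hex
    have h3 : n = N *ᵥ w := hn
    rw [hc, Matrix.mulVec_smul, hNn, smul_zero] at h3
    exact h3
  have hA₀u : IsUnit A₀ := (Matrix.isUnit_iff_isUnit_det _).2 hA₀det.isUnit
  obtain ⟨A, hA⟩ := hA₀u
  have hNA : N * (A : M2) = (A : M2) * !![0, 1; 0, 0] := by
    rw [hA, hA₀]
    have e0 := congrFun hNn 0
    have e1 := congrFun hNn 1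
    have e2 := congrFun hn 0
    have e3 := congrFun hn 1
    simp only [Matrix.mulVec, dotProduct, Fin.sum_univ_two, Pi.zero_apply] at e0 e1 e2 e3
    ext i j
    fin_cases i <;> fin_cases j <;>
      simp only [Matrix.mul_apply, Fin.sum_univ_two, Matrix.of_apply, Matrix.cons_val', Matrix.cons_val_zero,
        Matrix.cons_val_one, Matrix.cons_val_fin_one, Fin.zero_eta, Fin.mk_one, Fin.isValue, mul_zero, mul_one,
        add_zero, zero_add]
    · exact e0
    · exact e2.symm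
    · exact e1
    · exact e3.symm
  set T₂ : M2 →ₗ[F] M2 := (sandwich ((A⁻¹ : (M2)ˣ) : M2) (A : M2)).comp T₁ with hT₂
  have hT₂a : ∀ X, T₂ X = ((A⁻¹ : (M2)ˣ) : M2) * (T₁ X * (A : M2)) := fun X => rfl
  have hT₂det : ∀ X, (T₂ X).det = X.det := by
    intro X
    rw [hT₂a, Matrix.det_mul, Matrix.det_mul, hT₁det]
    have h3 : ((A⁻¹ : (M2)ˣ) : M2).det * (A : M2).det = 1 := by
      rw [← Matrix.det_mul, Units.inv_mul, Matrix.det_one]
    linear_combination X.det * h3
  have hT₂1 : T₂ 1 = 1 := by rw [hT₂a, hT₁1, one_mul, Units.inv_mul]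
  have hT₂12 : T₂ !![0, 1; 0, 0] = !![0, 1; 0, 0] := by
    rw [hT₂a, ← hN, hNA, ← mul_assoc, Units.inv_mul, one_mul]
  -- step 3: fix E₂₁
  set M := T₂ !![0, 0; 1, 0] with hM
  have hMdet : M.det = 0 := by rw [hM, hT₂det]; simp
  have hMtr : (M + 1).det = 1 := by
    rw [hM, ← hT₂1, ← map_add, hT₂det]; simp [Matrix.det_fin_two]
  have hM12 : (M + !![0, 1; 0, 0]).det = -1 := by
    rw [hM, ← hT₂12, ← map_add, hT₂det]; simp [Matrix.det_fin_two]
  simp only [Matrix.det_fin_two, Matrix.add_apply, Matrix.one_apply_eq, ne_eq, zero_ne_one, not_false_eq_true,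
    Matrix.one_apply_ne, one_ne_zero, add_zero, Matrix.of_apply, Matrix.cons_val', Matrix.cons_val_zero,
    Matrix.cons_val_one, Matrix.cons_val_fin_one] at hMdet hMtr hM12
  have hMtr' : M 1 1 = - M 0 0 := by linear_combination hMtr - hMdet
  have hM10 : M 1 0 = 1 := by linear_combination hMdet - hM12
  have hM01 : M 0 1 = - M 0 0 * M 0 0 := by
    rw [hM10, hMtr'] at hMdet; linear_combination -hMdet
  let U : (M2)ˣ :=
    { val := !![1, M 0 0; 0, 1]
      inv := !![1, -M 0 0; 0, 1]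
      val_inv := by
        ext i j; fin_cases i <;> fin_cases j <;> simp [Matrix.mul_apply, Fin.sum_univ_two]
      inv_val := by
        ext i j; fin_cases i <;> fin_cases j <;> simp [Matrix.mul_apply, Fin.sum_univ_two] }
  have hU : (U : M2) = !![1, M 0 0; 0, 1] := rfl
  have hUi : ((U⁻¹ : (M2)ˣ) : M2) = !![1, -M 0 0; 0, 1] := rfl
  set T₃ : M2 →ₗ[F] M2 := (sandwich ((U⁻¹ : (M2)ˣ) : M2) (U : M2)).comp T₂ with hT₃
  have hT₃a : ∀ X, T₃ X = ((U⁻¹ : (M2)ˣ) : M2) * (T₂ X * (U : M2)) := fun X => rfl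
  have hT₃det : ∀ X, (T₃ X).det = X.det := by
    intro X
    rw [hT₃a, Matrix.det_mul, Matrix.det_mul, hT₂det]
    have h3 : ((U⁻¹ : (M2)ˣ) : M2).det * (U : M2).det = 1 := by
      rw [← Matrix.det_mul, Units.inv_mul, Matrix.det_one]
    linear_combination X.det * h3
  have hT₃1 : T₃ 1 = 1 := by rw [hT₃a, hT₂1, one_mul, Units.inv_mul]
  have hT₃12 : T₃ !![0, 1; 0, 0] = !![0, 1; 0, 0] := by
    rw [hT₃a, hT₂12, hU, hUi]
    ext i j; fin_cases i <;> fin_cases j <;> simp [Matrix.mul_apply, Fin.sum_univ_two]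
  have hT₃21 : T₃ !![0, 0; 1, 0] = !![0, 0; 1, 0] := by
    rw [hT₃a, ← hM, hU, hUi]
    ext i j
    fin_cases i <;> fin_cases j <;>
      simp [Matrix.mul_apply, Fin.sum_univ_two, hM10, hM01, hMtr']
  have hback : ∀ X, T X = ((C * A * U : (M2)ˣ) : M2) * T₃ X * (((A * U)⁻¹ : (M2)ˣ) : M2) := by
    intro X
    rw [hT₃a, hT₂a, hT₁a, mul_inv_rev, Units.val_mul, Units.val_mul, Units.val_mul]
    simp only [mul_assoc, Units.mul_inv_cancel_left, Units.mul_inv, mul_one]
  rcases det_preserver_aux hT₃det hT₃1 hT₃12 hT₃21 with h | h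
  · refine ⟨C * A * U, (A * U)⁻¹, Or.inl fun X => ?_⟩
    rw [hback, h]
  · let K : (M2)ˣ :=
      { val := !![0, 1; 1, 0]
        inv := !![0, 1; 1, 0]
        val_inv := by
          ext i j; fin_cases i <;> fin_cases j <;> simp [Matrix.mul_apply, Fin.sum_univ_two]
        inv_val := by
          ext i j; fin_cases i <;> fin_cases j <;> simp [Matrix.mul_apply, Fin.sum_univ_two] }
    have hK : (K : M2) = !![0, 1; 1, 0] := rfl
    refine ⟨C * A * U * K, K * (A * U)⁻¹, Or.inr fun X => ?_⟩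
    rw [hback, h, Units.val_mul (C * A * U) K, Units.val_mul K, hK]
    simp only [mul_assoc]

end Cfsg.Agent.H919
end

-- part: H919/SpEightB
section
/-!
# Tensor decompositions `F² ⊗ F⁴` with a plus type form on `F⁴` (helper919)
-/

set_option autoImplicit false
set_option linter.unusedSectionVars false
set_option linter.unusedVariables false

namespace Cfsg.Agent.H919

open Cfsg Cfsg.Geo Cfsg.Agent.H922
open scoped MatrixGroups Matrix Kronecker commutatorElement

variable {F : Type*} [Field F]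

/-- The 2 × 2 alternating matrix. -/
def JJ (F : Type*) [Field F] : Matrix (Fin 2) (Fin 2) F := !![0, 1; -1, 0]

/-- The coordinates of the hyperbolic basis. -/
def hypCol (u₁ u₂ w₁ w₂ : Fin 4 → F) (x : Fin 2 → Fin 2) : Fin 4 → F :=
  if x 0 = 0 then (if x 1 = 0 then u₁ else u₂) else (if x 1 = 0 then -w₂ else w₁)

/-- A plus type form on `F⁴` is, in suitable coordinates, `J ⊗ J`. -/
theorem exists_hyperbolic (h2 : (2 : F) ≠ 0) {f : (Fin 4 → F) → (Fin 4 → F) → F} (hf : IsSymmetricForm f)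
    (hplus : IsPlusTypeOn (fun v : Fin 4 → F => f v v) ⊤) :
    ∃ c : (Fin 2 → Fin 2) → (Fin 4 → F), ∀ x y, f (c x) (c y) = JJ F (x 0) (y 0) * JJ F (x 1) (y 1) := by
  obtain ⟨U, -, hU, hUd⟩ := hplus
  rw [finrank_top, Module.finrank_fintype_fun_eq_card, Fintype.card_fin] at hUd
  have hU2 : Module.finrank F U = 2 := by omega
  have hb := hf.bilinear
  have hUU : ∀ u ∈ U, ∀ v ∈ U, f u v = 0 := by
    intro u hu v hv
    have h1 := hU (u + v) (U.add_mem hu hv)
    have h3 := hU u hu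
    have h4 := hU v hv
    simp only [hb.add_left, hb.add_right] at h1 h3 h4
    rw [h3, h4, hf.symm v u] at h1
    have h5 : 2 * f u v = 0 := by linear_combination h1
    exact (mul_eq_zero.1 h5).resolve_left h2
  -- a basis of U
  let b := Module.finBasisOfFinrankEq F U hU2
  set u₁ : Fin 4 → F := (b 0 : Fin 4 → F) with hu₁
  set u₂ : Fin 4 → F := (b 1 : Fin 4 → F) with hu₂
  have hu₁m : u₁ ∈ U := (b 0).2
  have hu₂m : u₂ ∈ U := (b 1).2
  have hind : ∀ s t : F, s • u₁ + t • u₂ = 0 → s = 0 ∧ t = 0 := by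
    intro s t hst
    have h1 : s • b 0 + t • b 1 = 0 := Subtype.ext hst
    have h3 := Fintype.linearIndependent_iff.1 b.linearIndependent ![s, t] (by
      rw [Fin.sum_univ_two]; exact h1)
    exact ⟨h3 0, h3 1⟩
  -- the map `w ↦ (f w u₁, f w u₂)` is surjective
  let φ : (Fin 4 → F) →ₗ[F] (Fin 2 → F) :=
    { toFun := fun w => ![f w u₁, f w u₂]
      map_add' := by
        intro a c; funext i; fin_cases i
        · exact hb.add_left _ _ _
        · exact hb.add_left _ _ _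
      map_smul' := by
        intro a c; funext i; fin_cases i
        · exact hb.smul_left _ _ _
        · exact hb.smul_left _ _ _ }
  have hφ : Function.Surjective φ := by
    rw [← LinearMap.range_eq_top]
    by_contra hne
    obtain ⟨ψ, hψ0, hψ⟩ := Submodule.exists_le_ker_of_lt_top _ (lt_top_iff_ne_top.2 hne)
    have hψe : ∀ z : Fin 2 → F, ψ z = z 0 * ψ (Pi.single 0 1) + z 1 * ψ (Pi.single 1 1) := by
      intro z
      have h1 : z = z 0 • (Pi.single 0 (1 : F) : Fin 2 → F) + z 1 • (Pi.single 1 (1 : F) : Fin 2 → F) := by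
        funext i; fin_cases i <;> simp
      conv_lhs => rw [h1]
      rw [map_add, map_smul, map_smul, smul_eq_mul, smul_eq_mul]
    set s := ψ (Pi.single 0 1) with hs
    set r := ψ (Pi.single 1 1) with hr
    have h1 : ∀ w, f w (s • u₁ + r • u₂) = 0 := by
      intro w
      have h3 : ψ (φ w) = 0 := hψ ⟨w, rfl⟩
      rw [hψe] at h3
      rw [hb.add_right, hb.smul_right, hb.smul_right]
      have h4 : φ w 0 = f w u₁ := rfl
      have h5 : φ w 1 = f w u₂ := rfl
      rw [h4, h5] at h3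
      linear_combination h3
    have h3 : s • u₁ + r • u₂ = 0 := by
      by_contra hne0
      obtain ⟨⟨x, hx⟩, -⟩ := hf.nondegenerate _ hne0
      exact hx (h1 x)
    obtain ⟨hs0, hr0⟩ := hind _ _ h3
    apply hψ0
    ext i
    fin_cases i
    · simpa using hs0
    · simpa using hr0
  obtain ⟨w₁, hw₁⟩ := hφ ![1, 0]
  obtain ⟨w₂, hw₂⟩ := hφ ![0, 1]
  have h11 : f w₁ u₁ = 1 := congrFun hw₁ 0
  have h12 : f w₁ u₂ = 0 := congrFun hw₁ 1
  have h21 : f w₂ u₁ = 0 := congrFun hw₂ 0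
  have h22 : f w₂ u₂ = 1 := congrFun hw₂ 1
  -- make `w₂` orthogonal to `w₁`, then both singular
  set v₁ := w₁ - (f w₁ w₁ / 2) • u₁ with hv₁
  set v₂ := w₂ - (f w₂ w₂ / 2) • u₂ - (f w₁ w₂) • u₁ with hv₂
  have sub_left : ∀ x y z, f (x - y) z = f x z - f y z := by
    intro x y z
    rw [sub_eq_add_neg, hb.add_left, ← neg_one_smul F y, hb.smul_left]; ring
  have sub_right : ∀ x y z, f z (x - y) = f z x - f z y := by
    intro x y z
    rw [sub_eq_add_neg, hb.add_right, ← neg_one_smul F y, hb.smul_right]; ring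
  have huu : f u₁ u₁ = 0 := hUU _ hu₁m _ hu₁m
  have huu2 : f u₂ u₂ = 0 := hUU _ hu₂m _ hu₂m
  have hu12 : f u₁ u₂ = 0 := hUU _ hu₁m _ hu₂m
  have hu21 : f u₂ u₁ = 0 := hUU _ hu₂m _ hu₁m
  have k11 : f u₁ w₁ = 1 := by rw [hf.symm]; exact h11
  have k21 : f u₂ w₁ = 0 := by rw [hf.symm]; exact h12
  have k12 : f u₁ w₂ = 0 := by rw [hf.symm]; exact h21
  have k22 : f u₂ w₂ = 1 := by rw [hf.symm]; exact h22
  have e1 : f v₁ u₁ = 1 := by
    rw [hv₁, sub_left, hb.smul_left, h11, huu]; ring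
  have e2 : f v₁ u₂ = 0 := by
    rw [hv₁, sub_left, hb.smul_left, h12, hu12]; ring
  have e3 : f v₂ u₁ = 0 := by
    rw [hv₂, sub_left, sub_left, hb.smul_left, hb.smul_left, h21, huu, hu21]; ring
  have e4 : f v₂ u₂ = 1 := by
    rw [hv₂, sub_left, sub_left, hb.smul_left, hb.smul_left, h22, huu2, hu12]; ring
  have e5 : f v₁ v₁ = 0 := by
    rw [hv₁]; simp only [sub_left, sub_right, hb.smul_left, hb.smul_right, h11, huu, k11]; field_simp; ring
  have e6 : f v₂ v₂ = 0 := by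
    rw [hv₂]
    simp only [sub_left, sub_right, hb.smul_left, hb.smul_right, h21, h22, huu, huu2, hu12, hu21, k12, k22]
    field_simp; ring
  have e7 : f v₁ v₂ = 0 := by
    rw [hv₁, hv₂]
    simp only [sub_left, sub_right, hb.smul_left, hb.smul_right, h11, h12, h21, h22, huu, huu2, hu12, hu21, k12, k22]
    ring
  have e8 : f v₂ v₁ = 0 := by rw [hf.symm]; exact e7
  have g1 : f u₁ v₁ = 1 := by rw [hf.symm]; exact e1
  have g2 : f u₂ v₁ = 0 := by rw [hf.symm]; exact e2
  have g3 : f u₁ v₂ = 0 := by rw [hf.symm]; exact e3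
  have g4 : f u₂ v₂ = 1 := by rw [hf.symm]; exact e4
  have neg_left : ∀ x z, f (-x) z = - f x z := by
    intro x z; rw [← neg_one_smul F x, hb.smul_left]; ring
  have neg_right : ∀ x z, f z (-x) = - f z x := by
    intro x z; rw [← neg_one_smul F x, hb.smul_right]; ring
  refine ⟨hypCol u₁ u₂ v₁ v₂, ?_⟩
  have key : ∀ a b c d : Fin 2, f (hypCol u₁ u₂ v₁ v₂ ![a, b]) (hypCol u₁ u₂ v₁ v₂ ![c, d])
      = JJ F a c * JJ F b d := by
    intro a b c d
    fin_cases a <;> fin_cases b <;> fin_cases c <;> fin_cases d <;>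
      simp [hypCol, JJ, e1, e2, e3, e4, e5, e6, e7, e8, g1, g2, g3, g4, huu, huu2, hu12, hu21, neg_left, neg_right]
  intro x y
  have hx : x = ![x 0, x 1] := by funext i; fin_cases i <;> rfl
  have hy : y = ![y 0, y 1] := by funext i; fin_cases i <;> rfl
  conv_lhs => rw [hx, hy]
  exact key _ _ _ _

end Cfsg.Agent.H919
end

-- part: H919/SpEightC
section
/-!
# Tensor decompositions `F² ⊗ F⁴` with a plus type form on `F⁴`: not maximal in `Sp_8` (helper919)
-/

set_option autoImplicit false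
set_option linter.unusedSectionVars false
set_option linter.unusedVariables false

namespace Cfsg.Agent.H919

open Cfsg Cfsg.Geo Cfsg.Agent.H922
open scoped MatrixGroups Matrix Kronecker commutatorElement

section Four

variable {F : Type*} [Field F]

/-- The Gram matrix `J ⊗ J` on `F⁴`. -/
def gam (F : Type*) [Field F] (u : (Fin 2 → Fin 2) ≃ Fin 4) : Matrix (Fin 4) (Fin 4) F :=
  fun r s => JJ F (u.symm r 0) (u.symm s 0) * JJ F (u.symm r 1) (u.symm s 1)

/-- The vector of a 2 × 2 matrix. -/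
def vec4 (u : (Fin 2 → Fin 2) ≃ Fin 4) (X : Matrix (Fin 2) (Fin 2) F) : Fin 4 → F :=
  fun r => X (u.symm r 0) (u.symm r 1)

/-- The matrix of a vector. -/
def unvec4 (u : (Fin 2 → Fin 2) ≃ Fin 4) (v : Fin 4 → F) : Matrix (Fin 2) (Fin 2) F :=
  fun i j => v (u ![i, j])

lemma vec_unvec (u : (Fin 2 → Fin 2) ≃ Fin 4) (v : Fin 4 → F) : vec4 u (unvec4 u v) = v := by
  funext r
  have h : ![u.symm r 0, u.symm r 1] = u.symm r := by funext i; fin_cases i <;> rfl
  simp only [vec4, unvec4, h, Equiv.apply_symm_apply]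

lemma sum_fun_two {M : Type*} [AddCommMonoid M] (g : (Fin 2 → Fin 2) → M) :
    ∑ x, g x = g ![0, 0] + g ![0, 1] + (g ![1, 0] + g ![1, 1]) := by
  rw [← Equiv.sum_comp (finTwoArrowEquiv (Fin 2)).symm, Fintype.sum_prod_type]
  simp only [Fin.sum_univ_two]
  rfl

lemma gam_quad (u : (Fin 2 → Fin 2) ≃ Fin 4) (X : Matrix (Fin 2) (Fin 2) F) :
    vec4 u X ⬝ᵥ (gam F u *ᵥ vec4 u X) = 2 * X.det := by
  simp only [dotProduct, Matrix.mulVec]
  rw [← Equiv.sum_comp u]
  simp only [← Equiv.sum_comp u (fun s => gam F u _ s * vec4 u X s), sum_fun_two]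
  simp only [gam, vec4, Equiv.symm_apply_apply, JJ, Matrix.det_fin_two]
  simp
  ring

lemma quad_mulVec {κ : Type} [Fintype κ] [DecidableEq κ] (G b : Matrix κ κ F) (v w : κ → F) :
    (b *ᵥ v) ⬝ᵥ (G *ᵥ (b *ᵥ w)) = v ⬝ᵥ ((bᵀ * G * b) *ᵥ w) := by
  rw [← Matrix.mulVec_mulVec, ← Matrix.mulVec_mulVec, Matrix.dotProduct_mulVec v, Matrix.vecMul_transpose]

/-- A similitude of `J ⊗ J` is a tensor product, up to the interchange of the factors. -/
theorem gam_similitude (h2 : (2 : F) ≠ 0) (u : (Fin 2 → Fin 2) ≃ Fin 4) {b : Matrix (Fin 4) (Fin 4) F} {μ : F}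
    (hμ : μ ≠ 0) (hb : bᵀ * gam F u * b = μ • gam F u) :
    ∃ A B : GL (Fin 2) F,
      (∀ x y : Fin 2 → Fin 2, b (u x) (u y) = (A : Matrix _ _ F) (x 0) (y 0) * (B : Matrix _ _ F) (x 1) (y 1)) ∨
      (∀ x y : Fin 2 → Fin 2, b (u x) (u y) = (A : Matrix _ _ F) (x 0) (y 1) * (B : Matrix _ _ F) (x 1) (y 0)) := by
  let T : Matrix (Fin 2) (Fin 2) F →ₗ[F] Matrix (Fin 2) (Fin 2) F :=
    { toFun := fun X => unvec4 u (b *ᵥ vec4 u X)
      map_add' := by
        intro X Y
        have h1 : vec4 u (X + Y) = vec4 u X + vec4 u Y := rfl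
        rw [h1, Matrix.mulVec_add]; rfl
      map_smul' := by
        intro c X
        have h1 : vec4 u (c • X) = c • vec4 u X := rfl
        rw [h1, Matrix.mulVec_smul]; rfl }
  have hTa : ∀ X, T X = unvec4 u (b *ᵥ vec4 u X) := fun X => rfl
  have hdet : ∀ X, (T X).det = μ * X.det := by
    intro X
    have h3 : 2 * (T X).det = μ * (2 * X.det) := by
      rw [← gam_quad u, ← gam_quad u, hTa, vec_unvec, quad_mulVec, hb, Matrix.smul_mulVec, dotProduct_smul,
        smul_eq_mul]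
    have h4 : 2 * ((T X).det - μ * X.det) = 0 := by linear_combination h3
    exact sub_eq_zero.1 ((mul_eq_zero.1 h4).resolve_left h2)
  obtain ⟨A, B, hAB⟩ := det_preserver hμ hdet
  have hentry : ∀ x y : Fin 2 → Fin 2, b (u x) (u y) = T (Matrix.single (y 0) (y 1) 1) (x 0) (x 1) := by
    intro x y
    have h1 : vec4 u (Matrix.single (y 0) (y 1) (1 : F)) = Pi.single (u y) 1 := by
      funext r
      rw [vec4, Matrix.single_apply]
      by_cases h : r = u y
      · subst h; simp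
      · rw [Pi.single_eq_of_ne h, if_neg]
        rintro ⟨h3, h4⟩
        apply h
        rw [← u.symm_apply_eq]
        funext i
        fin_cases i
        · exact h3.symm
        · exact h4.symm
    have h3 : ![x 0, x 1] = x := by funext i; fin_cases i <;> rfl
    rw [hTa, h1, unvec4, h3, Matrix.mulVec_single_one]
    rfl
  have hBt : IsUnit (B : Matrix (Fin 2) (Fin 2) F)ᵀ := (Matrix.isUnit_transpose _).2 B.isUnit
  obtain ⟨B', hB'⟩ := hBt
  refine ⟨A, B', ?_⟩
  rcases hAB with hAB | hAB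
  · left
    intro x y
    rw [hentry, hAB, hB', Matrix.transpose_apply, Matrix.mul_assoc, Matrix.mul_apply,
      Finset.sum_eq_single (y 0)]
    · rw [Matrix.single_mul_apply_same, one_mul]
    · intro k _ hk
      rw [Matrix.single_mul_apply_of_ne _ _ _ _ _ hk, mul_zero]
    · intro h; exact absurd (Finset.mem_univ _) h
  · right
    intro x y
    rw [hentry, hAB, hB', Matrix.transpose_apply, Matrix.mul_assoc, Matrix.transpose_single, Matrix.mul_apply,
      Finset.sum_eq_single (y 1)]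
    · rw [Matrix.single_mul_apply_same, one_mul]
    · intro k _ hk
      rw [Matrix.single_mul_apply_of_ne _ _ _ _ _ hk, mul_zero]
    · intro h; exact absurd (Finset.mem_univ _) h

end Four

section Eight

variable {ι : Type} [Fintype ι] [DecidableEq ι] {F : Type*} [Field F]

/-- The bijection `Fin 2 × Fin 4 ≃ (Fin 3 → Fin 2)`. -/
def E3 (u : (Fin 2 → Fin 2) ≃ Fin 4) : Fin 2 × Fin 4 ≃ (Fin 3 → Fin 2) :=
  (Equiv.prodCongr (Equiv.refl _) u.symm).trans (Fin.consEquiv (fun _ => Fin 2))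

lemma E3_zero (u : (Fin 2 → Fin 2) ≃ Fin 4) (p : Fin 2 × Fin 4) : E3 u p 0 = p.1 := rfl
lemma E3_one (u : (Fin 2 → Fin 2) ≃ Fin 4) (p : Fin 2 × Fin 4) : E3 u p 1 = u.symm p.2 0 := rfl
lemma E3_two (u : (Fin 2 → Fin 2) ≃ Fin 4) (p : Fin 2 × Fin 4) : E3 u p 2 = u.symm p.2 1 := rfl
lemma E3_symm (u : (Fin 2 → Fin 2) ≃ Fin 4) (x : Fin 3 → Fin 2) : (E3 u).symm x = (x 0, u ![x 1, x 2]) := by
  rw [Equiv.symm_apply_eq]
  funext i
  fin_cases i
  · rfl
  · change x 1 = E3 u (x 0, u ![x 1, x 2]) 1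
    rw [E3_one]; simp
  · change x 2 = E3 u (x 0, u ![x 1, x 2]) 2
    rw [E3_two]; simp

/-- An alternating form on `F²` is a multiple of `J`. -/
lemma gram_two {f : (Fin 2 → F) → (Fin 2 → F) → F} (hf : IsSymplecticForm f) :
    ∃ c : F, c ≠ 0 ∧ gramMatrix f = c • JJ F := by
  refine ⟨f (Pi.single 0 1) (Pi.single 1 1), ?_, ?_⟩
  · intro h0
    have hne : (Pi.single 0 (1 : F) : Fin 2 → F) ≠ 0 := by
      intro h
      have := congrFun h 0
      simp at this
    obtain ⟨-, x, hx⟩ := hf.nondegenerate _ hne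
    apply hx
    have h1 : x = x 0 • (Pi.single 0 (1 : F) : Fin 2 → F) + x 1 • (Pi.single 1 (1 : F) : Fin 2 → F) := by
      funext i; fin_cases i <;> simp
    rw [h1, hf.bilinear.add_right, hf.bilinear.smul_right, hf.bilinear.smul_right, h0, hf.alternating]; ring
  · ext i j
    fin_cases i <;> fin_cases j
    · simp [gramMatrix, JJ, hf.alternating]
    · simp [gramMatrix, JJ]
    · simp only [gramMatrix, JJ]
      rw [hf.skew]; simp
    · simp [gramMatrix, JJ, hf.alternating]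

lemma JJ_conj (a : Matrix (Fin 2) (Fin 2) F) : aᵀ * JJ F * a = a.det • JJ F := by
  ext i j
  fin_cases i <;> fin_cases j <;>
    simp [JJ, Matrix.mul_apply, Fin.sum_univ_two, Matrix.det_fin_two] <;> ring

/-- Elements of the tensor-wreath subgroup by entries. -/
lemma mem_wreath_of_entries {m t : ℕ} {k : GL (Fin t → Fin m) F} (gs : Fin t → GL (Fin m) F) (σ : Equiv.Perm (Fin t))
    (h : ∀ x y : Fin t → Fin m, (k : Matrix (Fin t → Fin m) (Fin t → Fin m) F) x y
      = ∏ i, (gs i : Matrix (Fin m) (Fin m) F) (x i) (y (σ⁻¹ i))) : k ∈ tensorWreathStandard m t F := by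
  have h1 : k = pureGL gs * facPerm F m σ := by
    apply Units.ext
    ext x y
    rw [Units.val_mul, Matrix.mul_apply, h, Finset.sum_eq_single (y ∘ (σ⁻¹ : Equiv.Perm (Fin t)))]
    · rw [facPerm_val, if_pos, mul_one, pureGL_val, pureMat_apply]
      · rfl
      · funext i; simp
    · intro z _ hz
      rw [facPerm_val, if_neg, mul_zero]
      intro hy
      apply hz
      rw [hy]
      funext i; simp
    · intro h'; exact absurd (Finset.mem_univ _) h'
  rw [h1]
  exact Subgroup.mul_mem _ (pureGL_mem gs) (facPerm_mem σ)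

lemma det_GL2_ne_zero (a : GL (Fin 2) F) : (a : Matrix (Fin 2) (Fin 2) F).det ≠ 0 := by
  intro h
  have h1 : IsUnit (a : Matrix (Fin 2) (Fin 2) F).det := (Matrix.isUnit_iff_isUnit_det _).1 a.isUnit
  rw [h] at h1
  exact not_isUnit_zero h1

/-- **The plus type case.** If `f` is a tensor product of an alternating form on `F²` and a plus type symmetric
form on `F⁴`, then `f` is a tensor power of an alternating form on `F²` in some frame, the isometries in the
stabiliser of the first decomposition lie in the tensor-wreath subgroup, and the latter contains an isometry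
outside the former. -/
theorem plus_type_frame (h2 : (2 : F) ≠ 0) {f : (ι → F) → (ι → F) → F} {e : ι ≃ Fin 2 × Fin 4} {P : GL ι F}
    {f₁ : (Fin 2 → F) → (Fin 2 → F) → F} {f₂ : (Fin 4 → F) → (Fin 4 → F) → F}
    (hf₁ : IsSymplecticForm f₁) (hf₂ : IsSymmetricForm f₂)
    (hplus : IsPlusTypeOn (fun v : Fin 4 → F => f₂ v v) ⊤)
    (hst : IsTensorFormStructure id f f₁ f₂ e P) :
    ∃ (e' : ι ≃ (Fin 3 → Fin 2)) (P' : GL ι F),
      IsTensorPowerFormStructure id f f₁ e' P' ∧
      (∀ g ∈ tensorProductSubgroup 2 4 e P, (∀ u v, f ((g : Matrix ι ι F) *ᵥ u) ((g : Matrix ι ι F) *ᵥ v) = f u v) →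
        g ∈ tensorWreathSubgroup 2 3 e' P') ∧
      ∃ h ∈ tensorWreathSubgroup 2 3 e' P', (∀ u v, f ((h : Matrix ι ι F) *ᵥ u) ((h : Matrix ι ι F) *ᵥ v) = f u v) ∧
        h ∉ tensorProductSubgroup 2 4 e P := by
  classical
  obtain ⟨cc, hcc⟩ := exists_hyperbolic h2 hf₂ hplus
  let u : (Fin 2 → Fin 2) ≃ Fin 4 := finFunctionFinEquiv
  obtain ⟨c₁, hc₁, hG₁⟩ := gram_two hf₁
  set G₂ := gramMatrix f₂ with hG₂
  -- the change of basis of `F⁴`
  let B₀ : Matrix (Fin 4) (Fin 4) F := fun r s => cc (u.symm s) r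
  have hf₂g : ∀ x y, f₂ x y = x ⬝ᵥ (G₂ *ᵥ y) := by
    intro x y
    have h1 := eq_gram hf₂.bilinear x y
    rw [h1]
  have hB₀ : B₀ᵀ * G₂ * B₀ = gam F u := by
    ext r s
    have h1 := hcc (u.symm r) (u.symm s)
    rw [hf₂g] at h1
    rw [gam, ← h1]
    have h3 : B₀ *ᵥ Pi.single r 1 = cc (u.symm r) := by
      rw [Matrix.mulVec_single_one]; rfl
    have h4 : B₀ *ᵥ Pi.single s 1 = cc (u.symm s) := by
      rw [Matrix.mulVec_single_one]; rfl
    rw [← h3, ← h4, quad_mulVec, Matrix.mulVec_single_one]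
    simp
  have hgg : gam F u * gam F u = 1 := by
    have hJJ : JJ F * JJ F = -1 := by
      ext i j; fin_cases i <;> fin_cases j <;> simp [JJ, Matrix.mul_apply, Fin.sum_univ_two]
    ext r s
    obtain ⟨x, rfl⟩ := u.surjective r
    obtain ⟨y, rfl⟩ := u.surjective s
    have h1 : (gam F u * gam F u) (u x) (u y) = (JJ F * JJ F) (x 0) (y 0) * (JJ F * JJ F) (x 1) (y 1) := by
      rw [Matrix.mul_apply, ← Equiv.sum_comp u, sum_fun_two, Matrix.mul_apply, Matrix.mul_apply,
        Fin.sum_univ_two, Fin.sum_univ_two]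
      simp only [gam, Equiv.symm_apply_apply, Matrix.cons_val_zero, Matrix.cons_val_one, Matrix.cons_val_fin_one]
      ring
    rw [h1, hJJ, Matrix.neg_apply, Matrix.neg_apply, Matrix.one_apply, Matrix.one_apply, Matrix.one_apply]
    by_cases h3 : x = y
    · subst h3; simp
    · rw [if_neg (fun h => h3 (u.injective h))]
      by_cases h4 : x 0 = y 0
      · have h5 : x 1 ≠ y 1 := by
          intro h5
          apply h3
          funext i
          fin_cases i
          · exact h4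
          · exact h5
        rw [if_neg h5]; simp
      · rw [if_neg h4]; simp
  have hB₀u : IsUnit B₀ := by
    apply IsUnit.of_mul_eq_one_right (gam F u * (B₀ᵀ * G₂))
    rw [mul_assoc, hB₀, hgg]
  obtain ⟨B, hB⟩ := hB₀u
  rw [← hB] at hB₀
  obtain ⟨c, hc, hst⟩ := hst
  set K : GL (Fin 2 × Fin 4) F := kronGL 1 B with hK
  set W : Matrix (Fin 3 → Fin 2) (Fin 3 → Fin 2) F := pureMat (fun _ : Fin 3 => JJ F) with hW
  let e' : ι ≃ (Fin 3 → Fin 2) := e.trans (E3 u)
  set P' : GL ι F := P * glReindex e.symm K with hP'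
  have hKG : (K : Matrix (Fin 2 × Fin 4) (Fin 2 × Fin 4) F)ᵀ * (gramMatrix f₁ ⊗ₖ G₂) * (K : Matrix _ _ F)
      = gramMatrix f₁ ⊗ₖ gam F u := by
    rw [hK, kronGL_val, ← Matrix.kroneckerMap_transpose, ← Matrix.mul_kronecker_mul, ← Matrix.mul_kronecker_mul, hB₀]
    simp
  have hform8 : ∀ x y : (Fin 3 → Fin 2) → F,
      f ((P' : Matrix ι ι F) *ᵥ (x ∘ e')) ((P' : Matrix ι ι F) *ᵥ (y ∘ e')) = (c * c₁) * (x ⬝ᵥ (W *ᵥ y)) := by
    intro x y
    have h1 : ∀ x : (Fin 3 → Fin 2) → F, (P' : Matrix ι ι F) *ᵥ (x ∘ e')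
        = (P : Matrix ι ι F) *ᵥ (((K : Matrix _ _ F) *ᵥ (x ∘ E3 u)) ∘ e) := by
      intro x
      rw [hP', Units.val_mul, ← Matrix.mulVec_mulVec, ← glReindex_mulVec]
      rfl
    rw [h1, h1, hst, formOfGram_id, quad_mulVec, hKG, mul_assoc]
    congr 1
    simp only [dotProduct, Matrix.mulVec, Finset.mul_sum]
    rw [← Equiv.sum_comp (E3 u)]
    apply Finset.sum_congr rfl
    intro p _
    rw [← Equiv.sum_comp (E3 u)]
    apply Finset.sum_congr rfl
    intro q _
    rw [Matrix.kroneckerMap_apply, hG₁, gam, hW, pureMat_apply, Fin.prod_univ_three, Matrix.smul_apply, smul_eq_mul,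
      E3_zero, E3_one, E3_two, E3_zero, E3_one, E3_two]
    simp only [Function.comp]
    ring
  have hconjK : ∀ (a : GL (Fin 2) F) (b : GL (Fin 4) F),
      frameGL e' P' (glReindex (E3 u) (kronGL a (B⁻¹ * b * B))) = P * glReindex e.symm (kronGL a b) * P⁻¹ := by
    intro a b
    have h1 : frameGL e' P' (glReindex (E3 u) (kronGL a (B⁻¹ * b * B)))
        = P' * glReindex e'.symm (glReindex (E3 u) (kronGL a (B⁻¹ * b * B))) * P'⁻¹ := rfl
    have h3 : glReindex e'.symm (glReindex (E3 u) (kronGL a (B⁻¹ * b * B)))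
        = glReindex e.symm (kronGL a (B⁻¹ * b * B)) := by
      apply Units.ext
      ext i j
      change (kronGL a (B⁻¹ * b * B) : Matrix _ _ F) ((E3 u).symm (E3 u (e i))) ((E3 u).symm (E3 u (e j))) = _
      rw [Equiv.symm_apply_apply, Equiv.symm_apply_apply]
      rfl
    rw [h1, h3, hP', mul_inv_rev, ← map_inv]
    have h4 : glReindex e.symm K * glReindex e.symm (kronGL a (B⁻¹ * b * B)) * glReindex e.symm K⁻¹
        = glReindex e.symm (kronGL a b) := by
      rw [← map_mul, ← map_mul, hK, kronGL_inv, kronGL_mul, kronGL_mul]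
      congr 2
      · group
      · group
    rw [← h4]
    group
  have hframe : ∀ g : GL (Fin 3 → Fin 2) F, ∀ x : (Fin 3 → Fin 2) → F,
      ((frameGL e' P' g : GL ι F) : Matrix ι ι F) *ᵥ ((P' : Matrix ι ι F) *ᵥ (x ∘ e')) =
      (P' : Matrix ι ι F) *ᵥ (((g : Matrix _ _ F) *ᵥ x) ∘ e') := fun g x => frameGL_mulVec e' P' g x
  refine ⟨e', P', ?_, ?_, ?_⟩
  · refine ⟨c * c₁ * (c₁ ^ 3)⁻¹, mul_ne_zero (mul_ne_zero hc hc₁) (inv_ne_zero (pow_ne_zero _ hc₁)), ?_⟩
    intro x y
    rw [hform8]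
    have h1 : ∀ a b : Fin 3 → Fin 2, ∏ i, gramMatrix f₁ (a i) (b i) = c₁ ^ 3 * W a b := by
      intro a b
      rw [hG₁, hW, pureMat_apply, Fin.prod_univ_three, Fin.prod_univ_three]
      simp only [Matrix.smul_apply, smul_eq_mul]; ring
    simp only [h1, id]
    have h3 : ∑ a, ∑ b, x a * (c₁ ^ 3 * W a b) * y b = c₁ ^ 3 * (x ⬝ᵥ (W *ᵥ y)) := by
      simp only [dotProduct, Matrix.mulVec, Finset.mul_sum]
      apply Finset.sum_congr rfl
      intro a _
      apply Finset.sum_congr rfl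
      intro b _
      ring
    rw [h3]
    field_simp
  · intro g hg hiso
    rw [mem_tensorProductSubgroup_iff] at hg
    obtain ⟨a, b, rfl⟩ := hg
    rw [mem_tensorWreathSubgroup_iff]
    refine ⟨glReindex (E3 u) (kronGL a (B⁻¹ * b * B)), ?_, hconjK a b⟩
    -- the isometry condition
    have hmat : ((kronGL a b : GL (Fin 2 × Fin 4) F) : Matrix _ _ F)ᵀ * (gramMatrix f₁ ⊗ₖ G₂) *
        ((kronGL a b : GL (Fin 2 × Fin 4) F) : Matrix _ _ F) = gramMatrix f₁ ⊗ₖ G₂ := by
      have h1 : ∀ x y : Fin 2 × Fin 4 → F, x ⬝ᵥ ((((kronGL a b : GL (Fin 2 × Fin 4) F) : Matrix _ _ F)ᵀ *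
          (gramMatrix f₁ ⊗ₖ G₂) * ((kronGL a b : GL (Fin 2 × Fin 4) F) : Matrix _ _ F)) *ᵥ y)
          = x ⬝ᵥ ((gramMatrix f₁ ⊗ₖ G₂) *ᵥ y) := by
        intro x y
        have h3 := hiso ((P : Matrix ι ι F) *ᵥ (x ∘ e)) ((P : Matrix ι ι F) *ᵥ (y ∘ e))
        have h4 : ∀ x : Fin 2 × Fin 4 → F, ((P * glReindex e.symm (kronGL a b) * P⁻¹ : GL ι F) : Matrix ι ι F) *ᵥ
            ((P : Matrix ι ι F) *ᵥ (x ∘ e))
            = (P : Matrix ι ι F) *ᵥ ((((kronGL a b : GL (Fin 2 × Fin 4) F) : Matrix _ _ F) *ᵥ x) ∘ e) := by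
          intro x
          rw [Units.val_mul, Units.val_mul, Matrix.mulVec_mulVec, mul_assoc _ _ (P : Matrix ι ι F), Units.inv_mul,
            mul_one, ← Matrix.mulVec_mulVec, glReindex_mulVec]
        rw [h4, h4, hst, hst, formOfGram_id, formOfGram_id, quad_mulVec] at h3
        exact mul_left_cancel₀ hc h3
      ext r s
      have := h1 (Pi.single r 1) (Pi.single s 1)
      simpa using this
    rw [kronGL_val, ← Matrix.kroneckerMap_transpose, ← Matrix.mul_kronecker_mul, ← Matrix.mul_kronecker_mul, hG₁] at hmat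
    have hd : (a : Matrix (Fin 2) (Fin 2) F).det ≠ 0 := det_GL2_ne_zero a
    have hb2 : (b : Matrix (Fin 4) (Fin 4) F)ᵀ * G₂ * (b : Matrix (Fin 4) (Fin 4) F)
        = ((a : Matrix (Fin 2) (Fin 2) F).det)⁻¹ • G₂ := by
      ext r s
      have h1 := congrFun (congrFun hmat (0, r)) (1, s)
      rw [Matrix.kroneckerMap_apply, Matrix.kroneckerMap_apply, Matrix.mul_smul, Matrix.smul_mul, JJ_conj] at h1
      simp only [Matrix.smul_apply, smul_eq_mul, JJ, Matrix.of_apply, Matrix.cons_val', Matrix.cons_val_zero,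
        Matrix.cons_val_one, Matrix.cons_val_fin_one, mul_one] at h1
      rw [Matrix.smul_apply, smul_eq_mul]
      have h3 : c₁ * ((a : Matrix (Fin 2) (Fin 2) F).det *
          ((b : Matrix (Fin 4) (Fin 4) F)ᵀ * G₂ * (b : Matrix (Fin 4) (Fin 4) F)) r s) = c₁ * G₂ r s := by
        rw [← mul_assoc]; exact h1
      have h4 := mul_left_cancel₀ hc₁ h3
      rw [← h4, ← mul_assoc, inv_mul_cancel₀ hd, one_mul]
    have hb' : ((B⁻¹ * b * B : GL (Fin 4) F) : Matrix (Fin 4) (Fin 4) F)ᵀ * gam F u *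
        ((B⁻¹ * b * B : GL (Fin 4) F) : Matrix (Fin 4) (Fin 4) F)
        = ((a : Matrix (Fin 2) (Fin 2) F).det)⁻¹ • gam F u := by
      have hBB : (B : Matrix (Fin 4) (Fin 4) F) * ((B⁻¹ : GL (Fin 4) F) : Matrix (Fin 4) (Fin 4) F) = 1 := Units.mul_inv B
      have hBBt : ((B⁻¹ : GL (Fin 4) F) : Matrix (Fin 4) (Fin 4) F)ᵀ * (B : Matrix (Fin 4) (Fin 4) F)ᵀ = 1 := by
        rw [← Matrix.transpose_mul, hBB, Matrix.transpose_one]
      rw [← hB₀, Units.val_mul, Units.val_mul, Matrix.transpose_mul, Matrix.transpose_mul]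
      calc (B : Matrix (Fin 4) (Fin 4) F)ᵀ * ((b : Matrix (Fin 4) (Fin 4) F)ᵀ * ((B⁻¹ : GL (Fin 4) F) : Matrix (Fin 4) (Fin 4) F)ᵀ)
            * ((B : Matrix (Fin 4) (Fin 4) F)ᵀ * G₂ * (B : Matrix (Fin 4) (Fin 4) F))
            * (((B⁻¹ : GL (Fin 4) F) : Matrix (Fin 4) (Fin 4) F) * (b : Matrix (Fin 4) (Fin 4) F) * (B : Matrix (Fin 4) (Fin 4) F))
          = (B : Matrix (Fin 4) (Fin 4) F)ᵀ * (b : Matrix (Fin 4) (Fin 4) F)ᵀ *
            (((B⁻¹ : GL (Fin 4) F) : Matrix (Fin 4) (Fin 4) F)ᵀ * (B : Matrix (Fin 4) (Fin 4) F)ᵀ) * G₂ *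
            ((B : Matrix (Fin 4) (Fin 4) F) * ((B⁻¹ : GL (Fin 4) F) : Matrix (Fin 4) (Fin 4) F)) *
            (b : Matrix (Fin 4) (Fin 4) F) * (B : Matrix (Fin 4) (Fin 4) F) := by simp only [mul_assoc]
        _ = (B : Matrix (Fin 4) (Fin 4) F)ᵀ * ((b : Matrix (Fin 4) (Fin 4) F)ᵀ * G₂ * (b : Matrix (Fin 4) (Fin 4) F))
            * (B : Matrix (Fin 4) (Fin 4) F) := by rw [hBBt, hBB, mul_one, mul_one]; simp only [mul_assoc]
        _ = _ := by rw [hb2, Matrix.mul_smul, Matrix.smul_mul]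
    have hentry : ∀ x y : Fin 3 → Fin 2,
        ((glReindex (E3 u) (kronGL a (B⁻¹ * b * B)) : GL (Fin 3 → Fin 2) F) : Matrix _ _ F) x y
        = (a : Matrix (Fin 2) (Fin 2) F) (x 0) (y 0) *
          ((B⁻¹ * b * B : GL (Fin 4) F) : Matrix (Fin 4) (Fin 4) F) (u ![x 1, x 2]) (u ![y 1, y 2]) := by
      intro x y
      change (kronGL a (B⁻¹ * b * B) : Matrix _ _ F) ((E3 u).symm x) ((E3 u).symm y) = _
      rw [E3_symm, E3_symm]
      rfl
    obtain ⟨A, B₂, hAB⟩ := gam_similitude h2 u (inv_ne_zero hd) hb'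
    rcases hAB with hAB | hAB
    · apply mem_wreath_of_entries ![a, A, B₂] 1
      intro x y
      rw [hentry, hAB, Fin.prod_univ_three]
      simp [mul_assoc]
    · apply mem_wreath_of_entries ![a, A, B₂] (Equiv.swap 1 2)
      intro x y
      rw [hentry, hAB, Fin.prod_univ_three, Equiv.swap_inv, Equiv.swap_apply_left, Equiv.swap_apply_right,
        Equiv.swap_apply_of_ne_of_ne (by decide) (by decide)]
      simp [mul_assoc]
  · set σ : Equiv.Perm (Fin 3) := finRotate 3 with hσ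
    refine ⟨frameGL e' P' (facPerm F 2 σ), ?_, ?_, ?_⟩
    · rw [mem_tensorWreathSubgroup_iff]
      exact ⟨_, facPerm_mem σ, rfl⟩
    · intro v w
      obtain ⟨x, rfl⟩ := exists_frame_coords e' P' v
      obtain ⟨y, rfl⟩ := exists_frame_coords e' P' w
      rw [hframe, hframe, hform8, hform8, quad_mulVec]
      congr 3
      rw [facPerm_transpose, facPerm_inv]
      have h1 := facPerm_conj (F := F) (m := 2) σ⁻¹ (fun _ : Fin 3 => JJ F)
      rw [facPerm_inv, inv_inv] at h1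
      exact h1
    · intro hmem
      rw [mem_tensorProductSubgroup_iff] at hmem
      obtain ⟨a, b, hab⟩ := hmem
      rw [← hconjK] at hab
      have h1 := (frameGL e' P').injective hab
      set b' : GL (Fin 4) F := B⁻¹ * b * B with hb'
      have hentry : ∀ x y : Fin 3 → Fin 2, (if y = x ∘ σ then (1 : F) else 0)
          = (a : Matrix (Fin 2) (Fin 2) F) (x 0) (y 0) *
            (b' : Matrix (Fin 4) (Fin 4) F) (u ![x 1, x 2]) (u ![y 1, y 2]) := by
        intro x y
        rw [← facPerm_val, h1]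
        change (kronGL a b' : Matrix _ _ F) ((E3 u).symm x) ((E3 u).symm y) = _
        rw [E3_symm, E3_symm]
        rfl
      have k1 := hentry ![0, 0, 0] ![0, 0, 0]
      have k2 := hentry ![1, 1, 1] ![1, 1, 1]
      have k3 := hentry ![1, 0, 0] ![1, 0, 0]
      rw [if_pos (by rw [hσ]; decide)] at k1 k2
      rw [if_neg (by rw [hσ]; decide)] at k3
      simp only [Matrix.cons_val_zero, Matrix.cons_val_one, Matrix.cons_val] at k1 k2 k3
      rcases mul_eq_zero.1 k3.symm with h | h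
      · rw [h, zero_mul] at k2; exact one_ne_zero k2
      · rw [h, mul_zero] at k1; exact one_ne_zero k1

end Eight


end Cfsg.Agent.H919
end

-- part: S5823
section
set_option autoImplicit false
open Cfsg

namespace Cfsg.Agent.S5823

/-- Every maximal subgroup of Sp_8(q) is of one of the listed geometric types or lies in the residual class. Let F be a finite field with q elements, f the standard alternating form on F^8 (coordinates Fin 4 ⊕ Fin 4), and H a maximal subgroup of Sp_8(F) (inside GL_8(F)). Then H is the intersection with Sp_8(F) of one of: the stabiliser of a non-zero totally isotropic subspace; the stabiliser of a non-degenerate 2-space; for q ≥ 3, the stabiliser of a decomposition into four mutually orthogonal non-degenerate 2-spaces; of a decomposition into two orthogonal non-degenerate 4-spaces; for q odd, of a decomposition into two totally isotropic 4-spaces; the normaliser of a degree-2 subfield K, self-adjoint with f(k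 v, v) = 0; for q odd, the normaliser of a degree-2 subfield closed under adjoints but not self-adjoint; for q odd, the stabiliser of a tensor decomposition of f into an alternating form on F^2 and a minus-type symmetric form on F^4; a subfield group (|F| = |F₀|^r, r prime) whose F₀-structure carries a non-zero multiple of f; for q = p an odd prime, the normaliser of an absolutely irreducible extraspecial group 2_-^(1+6) of exponent 4 inside the similarity group of f; for q odd, q ≥ 5, the stabiliser of a tensor decomposition of f as a third tensor power of an alternating form on F^2; for q even, the similarity group of a non-degenerate quadratic form polarising to f — or else H lies in the residual class of the symplectic case. -/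
theorem result {F : Type*} [Field F] [Fintype F] (H : Subgroup (Matrix.GeneralLinearGroup (Fin 4 ⊕ Fin 4) F)) (hH : Cfsg.Geo.IsMaximalIn (Cfsg.spGL 4 F) H) :
    (∃ W : Submodule F (Fin 4 ⊕ Fin 4 → F), W ≠ ⊥ ∧ Cfsg.Geo.IsTotallySingularFor (Cfsg.sympForm 4 F) W ∧ H = Cfsg.Geo.subspaceStabilizer W ⊓ Cfsg.spGL 4 F) ∨
    (∃ W : Submodule F (Fin 4 ⊕ Fin 4 → F), W ≠ ⊥ ∧ Cfsg.Geo.IsNondegenerateOn (Cfsg.sympForm 4 F) W ∧ Module.finrank F W < 4 ∧ H = Cfsg.Geo.subspaceStabilizer W ⊓ Cfsg.spGL 4 F) ∨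
    (3 ≤ Fintype.card F ∧ ∃ D : Fin 4 → Submodule F (Fin 4 ⊕ Fin 4 → F), Cfsg.Geo.IsNondegenerateMDecomposition (Cfsg.sympForm 4 F) 2 D ∧ H = Cfsg.Geo.decompositionStabilizer D ⊓ Cfsg.spGL 4 F) ∨
    (∃ D : Fin 2 → Submodule F (Fin 4 ⊕ Fin 4 → F), Cfsg.Geo.IsNondegenerateMDecomposition (Cfsg.sympForm 4 F) 4 D ∧ H = Cfsg.Geo.decompositionStabilizer D ⊓ Cfsg.spGL 4 F) ∨
    (Odd (Fintype.card F) ∧ ∃ D : Fin 2 → Submodule F (Fin 4 ⊕ Fin 4 → F), Cfsg.Geo.IsMDecomposition 4 D ∧ (∀ i, Cfsg.Geo.IsTotallySingularFor (Cfsg.sympForm 4 F) (D i)) ∧ H = Cfsg.Geo.decompositionStabilizer D ⊓ Cfsg.spGL 4 F) ∨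
    (∃ K : Subalgebra F (Matrix (Fin 4 ⊕ Fin 4) (Fin 4 ⊕ Fin 4) F), Cfsg.Geo.IsFieldSubalgebra 2 K ∧ Cfsg.Geo.IsSelfAdjointFor (Cfsg.sympForm 4 F) K ∧ (∀ k ∈ K, ∀ v : (Fin 4 ⊕ Fin 4 → F), (Cfsg.sympForm 4 F) (Matrix.mulVec k v) v = 0) ∧ H = Cfsg.Geo.subalgebraNormalizer K ⊓ Cfsg.spGL 4 F) ∨
    (Odd (Fintype.card F) ∧ ∃ K : Subalgebra F (Matrix (Fin 4 ⊕ Fin 4) (Fin 4 ⊕ Fin 4) F), Cfsg.Geo.IsFieldSubalgebra 2 K ∧ Cfsg.Geo.IsAdjointClosedFor (Cfsg.sympForm 4 F) K ∧ ¬ Cfsg.Geo.IsSelfAdjointFor (Cfsg.sympForm 4 F) K ∧ H = Cfsg.Geo.subalgebraNormalizer K ⊓ Cfsg.spGL 4 F) ∨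
    (Odd (Fintype.card F) ∧ ∃ (e : (Fin 4 ⊕ Fin 4) ≃ Fin 2 × Fin 4) (P : Matrix.GeneralLinearGroup (Fin 4 ⊕ Fin 4) F) (f₁ : (Fin 2 → F) → (Fin 2 → F) → F) (f₂ : (Fin 4 → F) → (Fin 4 → F) → F), Cfsg.Geo.IsSymplecticForm f₁ ∧ Cfsg.Geo.IsSymmetricForm f₂ ∧ ¬ Cfsg.Geo.IsPlusTypeOn (fun v : Fin 4 → F => f₂ v v) ⊤ ∧ Cfsg.Geo.IsTensorFormStructure id (Cfsg.sympForm 4 F) f₁ f₂ e P ∧ H = Cfsg.Geo.tensorProductSubgroup 2 4 e P ⊓ Cfsg.spGL 4 F) ∨
    (∃ (F₀ : Subfield F) (r : ℕ) (P : Matrix.GeneralLinearGroup (Fin 4 ⊕ Fin 4) F) (ζ : F), r.Prime ∧ Fintype.card F = Nat.card F₀ ^ r ∧ ζ ≠ 0 ∧ Cfsg.Geo.IsFormRationalStructure (Cfsg.sympForm 4 F) F₀ ζ P ∧ H = Cfsg.Geo.subfieldSubgroup F₀ P ⊓ Cfsg.spGL 4 F) ∨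
    (∃ (p : ℕ) (R : Subgroup (Matrix.GeneralLinearGroup (Fin 4 ⊕ Fin 4) F)), p.Prime ∧ Odd p ∧ Fintype.card F = p ∧ Cfsg.Geo.IsSymplecticTypeGroup 2 R ∧ Cfsg.Geo.ActsAbsolutelyIrreducibly (Cfsg.Geo.matrixSet R) ∧ R ≤ Cfsg.Geo.similarityGroup (Cfsg.sympForm 4 F) ∧ Nat.card R = 128 ∧ Nat.card (Subgroup.center R) = 2 ∧ Cfsg.Geo.IsOfMinusType 3 R ∧ H = Cfsg.Geo.subgroupNormalizer R ⊓ Cfsg.spGL 4 F) ∨
    (Odd (Fintype.card F) ∧ 5 ≤ Fintype.card F ∧ ∃ (e : (Fin 4 ⊕ Fin 4) ≃ (Fin 3 → Fin 2)) (P : Matrix.GeneralLinearGroup (Fin 4 ⊕ Fin 4) F) (f₁ : (Fin 2 → F) → (Fin 2 → F) → F), Cfsg.Geo.IsSymplecticForm f₁ ∧ Cfsg.Geo.IsTensorPowerFormStructure id (Cfsg.sympForm 4 F) f₁ e P ∧ H = Cfsg.Geo.tensorWreathSubgroup 2 3 e P ⊓ Cfsg.spGL 4 F) ∨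
    (¬ Odd (Fintype.card F) ∧ ∃ Q : (Fin 4 ⊕ Fin 4 → F) → F, Cfsg.Geo.IsNondegenerateQuadraticForm Q ∧ (∀ u v : (Fin 4 ⊕ Fin 4 → F), QuadraticMap.polar Q u v = (Cfsg.sympForm 4 F) u v) ∧ H = Cfsg.Geo.quadSimilarityGroup Q ⊓ Cfsg.spGL 4 F) ∨
    Cfsg.Geo.InSymplecticResidualClass H := by
  have hwr : ∀ (k t : ℕ) (e : Fin 4 ⊕ Fin 4 ≃ (Fin t → Fin k))
      (P : Matrix.GeneralLinearGroup (Fin 4 ⊕ Fin 4) F), k = 2 → Odd t → 3 ≤ t → k ^ t = 2 * 4 →
      ¬ Cfsg.spGL 4 F ≤ Cfsg.Geo.tensorWreathSubgroup k t e P := by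
    intro k t e P hk ht h3 hkt
    subst hk
    have h4 : t ≤ 4 := by
      by_contra hcon
      have : 2 ^ 5 ≤ 2 ^ t := Nat.pow_le_pow_right (by norm_num) (by omega)
      omega
    exact Cfsg.Agent.H919.spGL_not_le_tensorWreath
      (Cfsg.Agent.H931.spGL_perfect' (by norm_num) (by norm_num)) (by norm_num) h4 (by omega) le_rfl e P
  have hex : ¬ ((4 : ℕ) = 2 ∧ Fintype.card F = 2) := by norm_num
  have h := Cfsg.Agent.H931.symplectic_maximal_cases (by norm_num) hex hH hwr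
    (Cfsg.Agent.S5662.result 4 (by norm_num) hex H hH.1.le
      (Cfsg.Agent.H931.spGL_sup_scalars_ne (Cfsg.Agent.H931.exc_cases (by norm_num) hex) hH))
  rcases h with h | h | h | h | h | h | h | h | h | h | h | h
  · exact Or.inl h
  · obtain ⟨W, hW0, hW, -, hW4, hHW⟩ := h
    exact Or.inr (Or.inl ⟨W, hW0, hW, hW4, hHW⟩)
  · obtain ⟨t, k, D, htk, hk, ht, hD, hHD⟩ := h
    have hkt : (t = 4 ∧ k = 2) ∨ (t = 2 ∧ k = 4) := by
      have h1 : k ≤ 8 := by
        by_contra hcon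
        have : 8 < t * k := lt_of_lt_of_le (by omega) (Nat.le_mul_of_pos_left k (by omega))
        omega
      obtain ⟨j, hj⟩ := hk
      interval_cases k <;> omega
    rcases hkt with ⟨rfl, rfl⟩ | ⟨rfl, rfl⟩
    · by_cases h3 : 3 ≤ Fintype.card F
      · exact Or.inr (Or.inr (Or.inl ⟨h3, D, hD, hHD⟩))
      · have hF2 : Fintype.card F = 2 := by
          have := Fintype.one_lt_card (α := F)
          omega
        obtain ⟨Q, hQ, hpol, hle⟩ := Cfsg.Agent.H914.quad_of_frame_two hF2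
          Cfsg.Agent.H924.isSymplecticForm_sympForm hD
        iterate 11 right
        left
        refine ⟨by rw [hF2]; decide, Q, hQ, hpol, ?_⟩
        apply Cfsg.Agent.H918.eq_inf_of_maximal hH
        · rw [hHD]; exact inf_le_left.trans hle
        · exact Cfsg.Agent.H931.spGL_not_le_quadSimilarityGroup (by norm_num) hpol hQ.smul
    · exact Or.inr (Or.inr (Or.inr (Or.inl ⟨D, hD, hHD⟩)))
  · obtain ⟨D, hodd, hD, hs, hHD⟩ := h
    iterate 4 right
    left
    exact ⟨hodd, D, hD, hs, hHD⟩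
  · iterate 8 right
    left
    exact h
  · obtain ⟨R, p, k, hR, habs, hRs, hp, hpo, hcF, hcR, hz, hmin, hk, hHR⟩ := h
    have hk3 : k = 3 := by
      have h1 : 2 ^ 3 = 2 ^ k := by omega
      exact (Nat.pow_right_injective le_rfl h1).symm
    subst hk3
    iterate 9 right
    left
    exact ⟨p, R, hp, hpo, hcF, hR, habs, hRs, by rw [hcR]; norm_num, hz, hmin, hHR⟩
  · obtain ⟨Q, hodd, hQ, hpol, hHQ⟩ := h
    iterate 11 right
    left
    exact ⟨hodd, Q, hQ, hpol, hHQ⟩
  · obtain ⟨r, K, hr, hr8, hK, hKs, hKa, hHK⟩ := h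
    have hr2 : r = 2 := by
      have h1 : r ∣ 2 ^ 3 := by norm_num at hr8 ⊢; exact hr8
      exact (Nat.prime_dvd_prime_iff_eq hr Nat.prime_two).1 (hr.dvd_of_dvd_pow h1)
    subst hr2
    iterate 5 right
    left
    exact ⟨K, hK, hKs, hKa, hHK⟩
  · obtain ⟨K, hodd, hK, hKa, hKs, hHK⟩ := h
    iterate 6 right
    left
    exact ⟨hodd, K, hK, hKa, hKs, hHK⟩
  · obtain ⟨n₁, n₂, e, P, f₁, f₂, hodd, hn, hn1, h2, h3, hf₁, hf₂, hst, hHT⟩ := h
    have hnn : n₁ = 2 ∧ n₂ = 4 := by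
      have h5 : n₁ ≤ 8 := by
        by_contra hcon
        have : 8 < n₁ * n₂ := lt_of_lt_of_le (by omega) (Nat.le_mul_of_pos_right n₁ (by omega))
        omega
      obtain ⟨j, hj⟩ := hn1
      interval_cases n₁ <;> omega
    obtain ⟨rfl, rfl⟩ := hnn
    iterate 7 right
    left
    refine ⟨hodd, e, P, f₁, f₂, hf₁, hf₂, ?_, hst, hHT⟩
    intro hplus
    have h20 : (2 : F) ≠ 0 := Cfsg.Agent.H922.two_ne_zero_of_odd_card hodd
    obtain ⟨e', P', -, hle, g, hg, hgi, hgn⟩ := Cfsg.Agent.H919.plus_type_frame h20 hf₁ hf₂ hplus hst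
    have hHM : H ≤ Cfsg.Geo.tensorWreathSubgroup 2 3 e' P' := by
      intro x hx
      rw [hHT] at hx
      exact hle x hx.1 hx.2
    have hHe : H = Cfsg.Geo.tensorWreathSubgroup 2 3 e' P' ⊓ Cfsg.spGL 4 F :=
      Cfsg.Agent.H918.eq_inf_of_maximal hH hHM (hwr 2 3 e' P' rfl (by decide) le_rfl (by norm_num))
    have hgH : g ∈ H := by
      rw [hHe]
      exact ⟨hg, hgi⟩
    rw [hHT] at hgH
    exact hgn hgH.1
  · obtain ⟨k, t, e, P, f₁, hodd, hkt, hk, hk2, hto, ht3, hqk, hf₁, hst, hHT⟩ := h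
    have hkt' : k = 2 ∧ t = 3 := by
      have h5 : k < 3 := by
        by_contra hcon
        have h6 : 3 ^ 3 ≤ k ^ t := calc
          3 ^ 3 ≤ k ^ 3 := Nat.pow_le_pow_left (by omega) 3
          _ ≤ k ^ t := Nat.pow_le_pow_right (by omega) ht3
        omega
      have h6 : k = 2 := by omega
      subst h6
      refine ⟨rfl, ?_⟩
      have h1 : 2 ^ t = 2 ^ 3 := by omega
      exact Nat.pow_right_injective le_rfl h1
    obtain ⟨rfl, rfl⟩ := hkt'
    iterate 10 right
    left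
    refine ⟨hodd, ?_, e, P, f₁, hf₁, hst, hHT⟩
    have h1 := Fintype.one_lt_card (α := F)
    have h3 : Fintype.card F ≠ 3 := fun h => hqk ⟨h, rfl⟩
    rw [Nat.odd_iff] at hodd
    omega
  · iterate 12 right
    exact h

end Cfsg.Agent.S5823
end
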