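import Cfsg.Statements.S5790
import Cfsg.Agent.S5662
import Cfsg.Agent.H931.SpWrap
set_option linter.all false

set_option autoImplicit false
open Cfsg

namespace Cfsg.Agent.S5790

/-- Every maximal subgroup of Sp_4(q), q ≥ 4 even, is of one of the listed geometric types or lies in the residual class. Let F be a finite field of even order q ≥ 4, f the standard alternating form on F^4 (coordinates Fin 2 ⊕ Fin 2), and H a maximal subgroup of Sp_4(F) (inside GL_4(F)). Then H is the intersection with Sp_4(F) of one of: the stabiliser of a non-zero totally isotropic subspace; the stabiliser of a decomposition into two orthogonal non-degenerate 2-spaces; the normaliser of a degree-2 subfield K of the matrix algebra, self-adjoint with f(k v, v) = 0; a subfield group whose F₀-structure carries a non-zero multiple of f, |F| = |F₀|^r with r prime; the similarity group of a non-degenerate quadratic form whose polar form is f — or else H lies in the residual class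 of the symplectic case. -/
theorem result {F : Type*} [Field F] [Fintype F] (heven : ¬ Odd (Fintype.card F)) (h4 : 4 ≤ Fintype.card F) (H : Subgroup (Matrix.GeneralLinearGroup (Fin 2 ⊕ Fin 2) F)) (hH : Cfsg.Geo.IsMaximalIn (Cfsg.spGL 2 F) H) :
    (∃ W : Submodule F (Fin 2 ⊕ Fin 2 → F), W ≠ ⊥ ∧ Cfsg.Geo.IsTotallySingularFor (Cfsg.sympForm 2 F) W ∧ H = Cfsg.Geo.subspaceStabilizer W ⊓ Cfsg.spGL 2 F) ∨
    (∃ D : Fin 2 → Submodule F (Fin 2 ⊕ Fin 2 → F), Cfsg.Geo.IsNondegenerateMDecomposition (Cfsg.sympForm 2 F) 2 D ∧ H = Cfsg.Geo.decompositionStabilizer D ⊓ Cfsg.spGL 2 F) ∨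
    (∃ K : Subalgebra F (Matrix (Fin 2 ⊕ Fin 2) (Fin 2 ⊕ Fin 2) F), Cfsg.Geo.IsFieldSubalgebra 2 K ∧ Cfsg.Geo.IsSelfAdjointFor (Cfsg.sympForm 2 F) K ∧ (∀ k ∈ K, ∀ v : (Fin 2 ⊕ Fin 2 → F), (Cfsg.sympForm 2 F) (Matrix.mulVec k v) v = 0) ∧ H = Cfsg.Geo.subalgebraNormalizer K ⊓ Cfsg.spGL 2 F) ∨
    (∃ (F₀ : Subfield F) (r : ℕ) (P : Matrix.GeneralLinearGroup (Fin 2 ⊕ Fin 2) F) (ζ : F), r.Prime ∧ Fintype.card F = Nat.card F₀ ^ r ∧ ζ ≠ 0 ∧ Cfsg.Geo.IsFormRationalStructure (Cfsg.sympForm 2 F) F₀ ζ P ∧ H = Cfsg.Geo.subfieldSubgroup F₀ P ⊓ Cfsg.spGL 2 F) ∨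
    (∃ Q : (Fin 2 ⊕ Fin 2 → F) → F, Cfsg.Geo.IsNondegenerateQuadraticForm Q ∧ (∀ u v : (Fin 2 ⊕ Fin 2 → F), QuadraticMap.polar Q u v = (Cfsg.sympForm 2 F) u v) ∧ H = Cfsg.Geo.quadSimilarityGroup Q ⊓ Cfsg.spGL 2 F) ∨
    Cfsg.Geo.InSymplecticResidualClass H := by
  have hex : ¬ (2 = 2 ∧ Fintype.card F = 2) := by omega
  have h := Cfsg.Agent.H931.symplectic_maximal_cases le_rfl hex hH
    (by
      intro k t e P hk ht h3 hkt
      exfalso
      rw [hk] at hkt
      have : 2 ^ 3 ≤ 2 ^ t := Nat.pow_le_pow_right (by norm_num) h3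
      omega)
    (Cfsg.Agent.S5662.result 2 le_rfl hex H hH.1.le
      (Cfsg.Agent.H931.spGL_sup_scalars_ne (Cfsg.Agent.H931.exc_cases le_rfl hex) hH))
  rcases h with h | h | h | h | h | h | h | h | h | h | h | h
  · exact Or.inl h
  · exfalso
    obtain ⟨W, hW0, -, hev, hlt, -⟩ := h
    apply hW0
    apply Submodule.finrank_eq_zero.1
    obtain ⟨a, ha⟩ := hev
    omega
  · right; left
    obtain ⟨t, k, D, htk, hev, ht, hD, hHD⟩ := h
    have hk : k = 2 := by
      obtain ⟨a, ha⟩ := hev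
      have hk0 : k ≠ 0 := by rintro rfl; omega
      have h2 : 2 ≤ k := by omega
      by_contra hne
      have h3 : 4 ≤ k := by omega
      nlinarith
    subst hk
    have ht2 : t = 2 := by omega
    subst ht2
    exact ⟨D, hD, hHD⟩
  · exact absurd h.choose_spec.1 heven
  · right; right; right; left
    exact h
  · exfalso
    obtain ⟨R, p, k, -, -, -, -, hp, hcard, -⟩ := h
    rw [hcard] at heven
    exact heven hp
  · right; right; right; right; left
    obtain ⟨Q, -, h1, h2, h3⟩ := h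
    exact ⟨Q, h1, h2, h3⟩
  · right; right; left
    obtain ⟨r, K, hr, hr4, hK, hsa, halt, hHK⟩ := h
    have hr2 : r = 2 := by
      have h1 : r ∣ 2 ^ 2 := by simpa using hr4
      have h2 := hr.dvd_of_dvd_pow h1
      exact (Nat.prime_dvd_prime_iff_eq hr Nat.prime_two).1 h2
    subst hr2
    exact ⟨K, hK, hsa, halt, hHK⟩
  · exact absurd h.choose_spec.1 heven
  · exfalso
    obtain ⟨n₁, n₂, e, P, f₁, f₂, hodd, -⟩ := h
    exact heven hodd
  · exfalso
    obtain ⟨k, t, e, P, f₁, hodd, -⟩ := h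
    exact heven hodd
  · right; right; right; right; right
    exact h

end Cfsg.Agent.S5790
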