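import Mathlib
import Cfsg.Agent.Lib.FieldFour
import Cfsg.Agent.S0245
import Cfsg.Agent.S0765
import Cfsg.Agent.ClassicalGeometry.SympBasic
import Cfsg.Agent.SporRec.HeldPerm
import Cfsg.Statements.S1682
import Cfsg.Agent.S1683
import Cfsg.Agent.S1695
set_option linter.all false

-- part: SporRec/HeldSp4Core
section
/-!
Abstract criterion: a group `H` of order 1958400 acting (through a set with a "label" map to the points of the
projective space of `F4 ^ 4`) so that certain elements act as given symplectic matrices, one of them as a transvection,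
and one element acts as the field automorphism, has a normal subgroup of index 2 isomorphic to `Sp(4, 4)`.
-/

set_option autoImplicit false

namespace Cfsg.Agent.SporRec.HeldSp4Core

open Cfsg.Agent.Lib.FieldFour
open Cfsg.Agent.ClassicalGeometry
open scoped Matrix

abbrev V : Type := Fin 2 ⊕ Fin 2 → F4
abbrev M4 : Type := Matrix (Fin 2 ⊕ Fin 2) (Fin 2 ⊕ Fin 2) F4

/-- Proportional vectors. -/
def Par (x y : V) : Prop := ∃ c : F4, c ≠ 0 ∧ x = c • y

theorem Par.refl (x : V) : Par x x := ⟨1, one_ne_zero, (one_smul _ _).symm⟩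

theorem Par.symm {x y : V} (h : Par x y) : Par y x := by
  obtain ⟨c, hc, rfl⟩ := h
  exact ⟨c⁻¹, inv_ne_zero hc, by rw [smul_smul, inv_mul_cancel₀ hc, one_smul]⟩

theorem Par.trans {x y z : V} (h : Par x y) (h' : Par y z) : Par x z := by
  obtain ⟨c, hc, rfl⟩ := h
  obtain ⟨d, hd, rfl⟩ := h'
  exact ⟨c * d, mul_ne_zero hc hd, by rw [smul_smul]⟩

theorem Par.mulVec {x y : V} (h : Par x y) (A : M4) : Par (A *ᵥ x) (A *ᵥ y) := by
  obtain ⟨c, hc, rfl⟩ := h
  exact ⟨c, hc, by rw [Matrix.mulVec_smul]⟩

/-- The coordinatewise Frobenius map. -/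
def frob (x : V) : V := fun j => x j * x j

theorem Par.frob {x y : V} (h : Par x y) : Par (frob x) (frob y) := by
  obtain ⟨c, hc, rfl⟩ := h
  refine ⟨c * c, mul_ne_zero hc hc, ?_⟩
  funext j
  simp only [HeldSp4Core.frob, Pi.smul_apply, smul_eq_mul]
  ring

/-- The four standard basis vectors. -/
def e (j : Fin 2 ⊕ Fin 2) : V := Pi.single j 1

theorem mulVec_e (A : M4) (j : Fin 2 ⊕ Fin 2) : A *ᵥ e j = A.col j := Matrix.mulVec_single_one A j

theorem sq_eq_one (c : F4) (h : c * c = 1) : c = 1 := by
  revert h; revert c; decide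

theorem sq_surj (c : F4) : ∃ d : F4, d ^ 2 = c := by
  revert c; decide

/-- If `A` maps every nonzero vector to a proportional one then `A` is scalar. -/
theorem scalar_of_par (A : M4) (h : ∀ v : V, v ≠ 0 → Par (A *ᵥ v) v) :
    ∃ c : F4, A = c • (1 : M4) := by
  have he : ∀ j, e j ≠ 0 := by
    intro j hj
    have := congrFun hj j
    simp [e] at this
  choose c hc hcv using fun j => h (e j) (he j)
  have key : ∀ i j, i ≠ j → c i = c j := by
    intro i j hij
    have hne : e i + e j ≠ 0 := by
      intro h0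
      have := congrFun h0 i
      simp [e, hij] at this
    obtain ⟨d, _, hd⟩ := h _ hne
    rw [Matrix.mulVec_add, hcv i, hcv j, smul_add] at hd
    have h1 := congrFun hd i
    have h2 := congrFun hd j
    simp [e, hij] at h1
    simp [e, hij.symm] at h2
    rw [h1, h2]
  refine ⟨c (Sum.inl 0), ?_⟩
  apply Matrix.ext_of_mulVec_single
  intro i
  change A *ᵥ e i = _
  rw [hcv i]
  by_cases hi : i = Sum.inl 0
  · subst hi
    rw [Matrix.smul_mulVec, Matrix.one_mulVec]
    rfl
  · rw [key i (Sum.inl 0) hi, Matrix.smul_mulVec, Matrix.one_mulVec]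
    rfl

theorem eq_one_of_par (A : Matrix.symplecticGroup (Fin 2) F4)
    (h : ∀ v : V, v ≠ 0 → Par ((A : M4) *ᵥ v) v) : A = 1 := by
  obtain ⟨c, hc⟩ := scalar_of_par (A : M4) h
  have hs := SympBasic.sympForm_mulVec A.2 (e (Sum.inr 0)) (e (Sum.inl 0))
  rw [hc, Matrix.smul_mulVec, Matrix.smul_mulVec, Matrix.one_mulVec, Matrix.one_mulVec,
    SympBasic.sympForm_smul_left, SympBasic.sympForm_smul_right] at hs
  have h1 : Cfsg.sympForm 2 F4 (e (Sum.inr 0)) (e (Sum.inl 0)) = 1 := by
    rw [e, SympBasic.sympForm_single_inr_left]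
    simp [e]
  rw [h1, mul_one] at hs
  have hc1 := sq_eq_one c hs
  apply Subtype.ext
  rw [hc, hc1, one_smul]
  rfl

/-- A linear map is not projectively the field automorphism. -/
theorem not_par_frob (A : M4) (h : ∀ v : V, v ≠ 0 → Par (A *ᵥ v) (frob v)) : False := by
  have he : ∀ j, e j ≠ 0 := by
    intro j hj
    have := congrFun hj j
    simp [e] at this
  have hij : (Sum.inl 0 : Fin 2 ⊕ Fin 2) ≠ Sum.inl 1 := by decide
  obtain ⟨c0, _, hc0⟩ := h (e (Sum.inl 0)) (he _)
  obtain ⟨c1, _, hc1⟩ := h (e (Sum.inl 1)) (he _)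
  have hne : e (Sum.inl 0) + e (Sum.inl 1) ≠ 0 := by
    intro h0
    have := congrFun h0 (Sum.inl 0)
    simp [e] at this
  have hne' : e (Sum.inl 0) + F4.w • e (Sum.inl 1) ≠ 0 := by
    intro h0
    have := congrFun h0 (Sum.inl 0)
    simp [e] at this
  obtain ⟨d, hd0, hd⟩ := h _ hne
  obtain ⟨d', hd0', hd'⟩ := h _ hne'
  rw [Matrix.mulVec_add, hc0, hc1] at hd
  rw [Matrix.mulVec_add, Matrix.mulVec_smul, hc0, hc1] at hd'
  have a0 := congrFun hd (Sum.inl 0)
  have a1 := congrFun hd (Sum.inl 1)
  have b0 := congrFun hd' (Sum.inl 0)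
  have b1 := congrFun hd' (Sum.inl 1)
  simp [e, frob] at a0 a1 b0 b1
  rw [a0] at b0
  rw [a1] at b1
  rw [b0] at b1
  revert b1 hd0'
  clear * -
  revert d'
  decide

section core

variable {G : Type*} [Group G] {Ω : Type*} (φ : G →* Equiv.Perm Ω) (H : Subgroup G) (lab : Ω → V)

/-- Compatible pairs. -/
def R : Subgroup (H × Matrix.symplecticGroup (Fin 2) F4) where
  carrier := {x | ∀ p, Par (lab (φ (x.1 : G) p)) ((x.2 : M4) *ᵥ lab p)}
  mul_mem' := by
    intro x y hx hy p
    have h1 := hx (φ (y.1 : G) p)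
    have h2 := (hy p).mulVec (x.2 : M4)
    have h3 := h1.trans h2
    rw [Matrix.mulVec_mulVec] at h3
    have : φ (((x * y).1 : H) : G) p = φ (x.1 : G) (φ (y.1 : G) p) := by
      rw [Prod.fst_mul, Subgroup.coe_mul, map_mul]; rfl
    rw [this]
    exact h3
  one_mem' := by
    intro p
    have : φ (((1 : H × Matrix.symplecticGroup (Fin 2) F4).1 : H) : G) p = p := by
      rw [Prod.fst_one, Subgroup.coe_one, map_one]; rfl
    rw [this]
    change Par _ ((1 : M4) *ᵥ lab p)
    rw [Matrix.one_mulVec]
    exact Par.refl _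
  inv_mem' := by
    intro x hx p
    have h1 := hx (φ (x.1 : G)⁻¹ p)
    have h2 : φ (x.1 : G) (φ (x.1 : G)⁻¹ p) = p := by
      rw [← Equiv.Perm.mul_apply, ← map_mul, mul_inv_cancel, map_one]; rfl
    rw [h2] at h1
    have h3 := h1.mulVec ((x.2⁻¹ : Matrix.symplecticGroup (Fin 2) F4) : M4)
    rw [Matrix.mulVec_mulVec] at h3
    have h4 : ((x.2⁻¹ : Matrix.symplecticGroup (Fin 2) F4) : M4) * (x.2 : M4) = 1 := by
      have := congrArg (Subtype.val) (inv_mul_cancel x.2)
      exact this
    rw [h4, Matrix.one_mulVec] at h3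
    exact h3.symm

theorem mem_R (x : H × Matrix.symplecticGroup (Fin 2) F4) :
    x ∈ R φ H lab ↔ ∀ p, Par (lab (φ (x.1 : G) p)) ((x.2 : M4) *ᵥ lab p) := Iff.rfl

variable (hlab : ∀ v : V, v ≠ 0 → ∃ p, Par (lab p) v)
include hlab

theorem snd_eq_one (A : Matrix.symplecticGroup (Fin 2) F4) (h : ((1 : H), A) ∈ R φ H lab) :
    A = 1 := by
  apply eq_one_of_par
  intro v hv
  obtain ⟨p, hp⟩ := hlab v hv
  have h1 := h p
  have h2 : φ ((((1 : H), A).1 : H) : G) p = p := by
    change φ ((1 : H) : G) p = p
    rw [Subgroup.coe_one, map_one]; rfl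
  rw [h2] at h1
  exact ((hp.mulVec (A : M4)).symm.trans h1.symm).trans hp

theorem core (hH : Nat.card H = 1958400)
    (w₀ : V) (t : H)
    (hw : ∀ p, Par (lab (φ (t : G) p)) (Cfsg.sympTransvection 2 w₀ 1 *ᵥ lab p))
    {ι : Type*} (h : ι → H) (A : ι → M4) (hA : ∀ i, A i ∈ Matrix.symplecticGroup (Fin 2) F4)
    (hc : ∀ i p, Par (lab (φ (h i : G) p)) (A i *ᵥ lab p))
    (htrans : ∀ P : V → Prop, P w₀ → (∀ i v, P v → P (A i *ᵥ v)) → ∀ v, v ≠ 0 → P v)
    (u : H) (hfr : ∀ p, Par (lab (φ (u : G) p)) (frob (lab p))) :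
    ∃ N : Subgroup H, N.Normal ∧ N.index = 2 ∧
      Nonempty (N ≃* Matrix.symplecticGroup (Fin 2) F4) := by
  classical
  haveI : Finite H := Nat.finite_of_card_ne_zero (by rw [hH]; norm_num)
  let S := R φ H lab
  let f : S →* H := (MonoidHom.fst _ _).comp S.subtype
  let g : S →* Matrix.symplecticGroup (Fin 2) F4 := (MonoidHom.snd _ _).comp S.subtype
  have hf : Function.Injective f := by
    rw [injective_iff_map_eq_one]
    rintro ⟨⟨x, B⟩, hx⟩ h1
    have h1' : x = 1 := h1
    subst h1'
    have := snd_eq_one φ H lab hlab B hx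
    subst this
    rfl
  -- all transvections are in the range of `g`
  have hT : ∀ v : V, v ≠ 0 → SympBasic.transv v (1 : F4) ∈ g.range := by
    apply htrans
    · exact ⟨⟨(t, SympBasic.transv w₀ 1), hw⟩, rfl⟩
    · rintro i v ⟨y, hy⟩
      let z : S := ⟨(h i, ⟨A i, hA i⟩), hc i⟩
      refine ⟨z * y * z⁻¹, ?_⟩
      rw [map_mul, map_mul, map_inv, hy]
      change (⟨A i, hA i⟩ : Matrix.symplecticGroup (Fin 2) F4) * SympBasic.transv v 1 *
        (⟨A i, hA i⟩ : Matrix.symplecticGroup (Fin 2) F4)⁻¹ = _
      rw [mul_inv_eq_iff_eq_mul]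
      apply Subtype.ext
      exact SympBasic.mul_sympTransvection (hA i) v 1
  have hg : Function.Surjective g := by
    rw [← MonoidHom.range_eq_top, eq_top_iff, ← Cfsg.Agent.S0765.result (F := F4) 2,
      Subgroup.closure_le]
    rintro B ⟨v, c, hB⟩
    have hBt : B = SympBasic.transv v c := Subtype.ext hB
    rw [hBt]
    obtain ⟨d, hd⟩ := sq_surj c
    have h2 : SympBasic.transv v c = SympBasic.transv (d • v) (1 : F4) := by
      apply Subtype.ext
      rw [SympBasic.coe_transv, SympBasic.coe_transv, SympBasic.sympTransvection_smul, hd, mul_one]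
    rw [h2]
    by_cases hv : d • v = 0
    · rw [hv]
      have : SympBasic.transv (0 : V) (1 : F4) = 1 := by
        apply Subtype.ext
        have h0 : (0 : V) = (0 : F4) • (0 : V) := by simp
        rw [SympBasic.coe_transv, h0, SympBasic.sympTransvection_smul]
        have : (0 : F4) ^ 2 * 1 = 0 := by decide
        rw [this, SympBasic.sympTransvection_zero]
        rfl
      rw [this]
      exact one_mem _
    · exact hT _ hv
  haveI : Finite S := Finite.of_injective f hf
  have hcSp : Nat.card (Matrix.symplecticGroup (Fin 2) F4) = 979200 := by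
    rw [Cfsg.Agent.S0245.result (F := F4) F4.card 2]
    decide
  have hle : 979200 ≤ Nat.card S := by
    rw [← hcSp]
    exact Nat.card_le_card_of_surjective g hg
  have hcard : Nat.card f.range = Nat.card S :=
    (Nat.card_congr (MonoidHom.ofInjective hf).toEquiv).symm
  have hne : f.range ≠ ⊤ := by
    intro htop
    have hu : u ∈ f.range := by rw [htop]; trivial
    obtain ⟨⟨⟨x, B⟩, hx⟩, h1⟩ := hu
    have h1' : x = u := h1
    subst h1'
    apply not_par_frob (B : M4)
    intro v hv
    obtain ⟨p, hp⟩ := hlab v hv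
    exact ((hp.mulVec (B : M4)).symm.trans ((hx p).symm.trans (hfr p))).trans hp.frob
  have hmul : Nat.card f.range * f.range.index = 1958400 := by
    rw [Subgroup.card_mul_index, hH]
  have hidx1 : f.range.index ≠ 1 := fun h1 => hne (Subgroup.index_eq_one.1 h1)
  have hidx0 : f.range.index ≠ 0 := by
    intro h0
    rw [h0, mul_zero] at hmul
    exact absurd hmul (by norm_num)
  have hidx2 : 2 ≤ f.range.index := by omega
  have hrange : Nat.card f.range = 979200 ∧ f.range.index = 2 := by
    rw [hcard] at hmul ⊢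
    have h3 : Nat.card S * f.range.index ≥ 979200 * f.range.index :=
      Nat.mul_le_mul_right _ hle
    have h4 : f.range.index ≤ 2 := by omega
    have h5 : f.range.index = 2 := le_antisymm h4 hidx2
    rw [h5] at hmul
    exact ⟨by omega, h5⟩
  have hcS : Nat.card S = Nat.card (Matrix.symplecticGroup (Fin 2) F4) := by
    rw [← hcard, hrange.1, hcSp]
  have hbij : Function.Bijective g := by
    haveI : Finite (Matrix.symplecticGroup (Fin 2) F4) := Finite.of_surjective g hg
    rw [Nat.bijective_iff_surjective_and_card]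
    exact ⟨hg, hcS⟩
  refine ⟨f.range, Subgroup.normal_of_index_eq_two hrange.2, hrange.2, ⟨?_⟩⟩
  exact (MonoidHom.ofInjective hf).symm.trans (MulEquiv.ofBijective g hbij)

end core

end Cfsg.Agent.SporRec.HeldSp4Core
end

-- part: SporRec/HeldSp4
section
/-!
The subgroup `<a, c, d, e, f, (ab)^2, (bcde)^7>` of the presented Held group acts on 85 blocks of its suborbit of
length 425 as on the points of the projective space of `F4 ^ 4`: explicit labels and matrices.
-/

set_option autoImplicit false

namespace Cfsg.Agent.SporRec.HeldSp4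

open Cfsg.Spor
open Cfsg.Agent.Lib.FieldFour
open Cfsg.Agent.SporRec.HeldPerm
open Cfsg.Agent.SporRec.HeldSp4Core
open scoped Matrix

/-- Elements of `F4` by number. -/
def ofN (n : ℕ) : F4 :=
  Nat.rec (motive := fun _ => F4) F4.o (fun n _ => Nat.rec (motive := fun _ => F4) F4.i
    (fun n _ => Nat.rec (motive := fun _ => F4) F4.w (fun _ _ => F4.v) n) n) n

/-- Position of a coordinate. -/
def ix (j : Fin 2 ⊕ Fin 2) : ℕ := Sum.elim (fun i : Fin 2 => i.val) (fun i : Fin 2 => 2 + i.val) j

/-- Vector with a given code. -/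
def dec (c : ℕ) : V := fun j => ofN (Nat.land (Nat.shiftRight c (2 * ix j)) 3)

/-- Matrix with a given code. -/
def matOf (c : ℕ) : M4 := fun j k => ofN (Nat.land (Nat.shiftRight c (2 * (4 * ix j + ix k))) 3)

/-- Explicit matrix-vector product. -/
def mv (A : M4) (x : V) : V := fun j =>
  (A j (Sum.inl 0) * x (Sum.inl 0) + A j (Sum.inl 1) * x (Sum.inl 1)) +
    (A j (Sum.inr 0) * x (Sum.inr 0) + A j (Sum.inr 1) * x (Sum.inr 1))

theorem mulVec_eq_mv (A : M4) (x : V) : A *ᵥ x = mv A x := by
  funext j
  simp [Matrix.mulVec, dotProduct, Fintype.sum_sum_type, mv]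

/-- Boolean equality of vectors. -/
def eqB (x y : V) : Bool :=
  (decide (x (Sum.inl 0) = y (Sum.inl 0)) && decide (x (Sum.inl 1) = y (Sum.inl 1))) &&
    (decide (x (Sum.inr 0) = y (Sum.inr 0)) && decide (x (Sum.inr 1) = y (Sum.inr 1)))

theorem eqB_spec {x y : V} (h : eqB x y = true) : x = y := by
  simp only [eqB, Bool.and_eq_true, decide_eq_true_eq] at h
  obtain ⟨⟨h1, h2⟩, h3, h4⟩ := h
  funext j
  rcases j with j | j <;> fin_cases j
  · exact h1
  · exact h2
  · exact h3
  · exact h4

/-- Boolean proportionality. -/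
def parB (x y : V) : Bool := eqB x y || (eqB x (fun j => F4.w * y j) || eqB x (fun j => F4.v * y j))

theorem parB_spec {x y : V} (h : parB x y = true) : Par x y := by
  simp only [parB, Bool.or_eq_true] at h
  rcases h with h | h | h
  · exact ⟨1, by decide, by rw [eqB_spec h, one_smul]⟩
  · exact ⟨F4.w, by decide, eqB_spec h⟩
  · exact ⟨F4.v, by decide, eqB_spec h⟩

theorem exists_dec (v : V) : ∃ c, c < 256 ∧ dec c = v := by
  have key : ∀ a b c d : F4, ∃ n, n < 256 ∧ (ofN (Nat.land (Nat.shiftRight n 0) 3) = a ∧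
      ofN (Nat.land (Nat.shiftRight n 2) 3) = b) ∧ ofN (Nat.land (Nat.shiftRight n 4) 3) = c ∧
      ofN (Nat.land (Nat.shiftRight n 6) 3) = d := by
    intro a b c d
    let f : F4 → ℕ := fun x => match x with
      | F4.o => 0
      | F4.i => 1
      | F4.w => 2
      | F4.v => 3
    refine ⟨f a + 4 * f b + 16 * f c + 64 * f d, ?_⟩
    revert a b c d
    decide +kernel
  obtain ⟨n, hn, ⟨h1, h2⟩, h3, h4⟩ := key (v (Sum.inl 0)) (v (Sum.inl 1)) (v (Sum.inr 0)) (v (Sum.inr 1))
  refine ⟨n, hn, ?_⟩
  funext j
  rcases j with j | j <;> fin_cases j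
  · exact h1
  · exact h2
  · exact h3
  · exact h4

/-- Labels of the 2058 points (8 bits each; 0 outside the suborbit of length 425). -/
def labT : ℕ := 0x11000011000000000000000000000000000000000000000000000000000000000000000000000000000000000000000000000000000000000000000000000000000000000000000000000000000000000000000000000000000000000000000000000000000000000000000000000000000000000000000000000000000000000000000000000000000000000000000000000000000000000000000000000000000000000000000000000000000000000000000000000000000000000000000000000000000000000000000000000000dddddd000000000000000000000000000000000000000000000000000000890000000000dd00cd000099990000000000000000000000000000890000000000009999000000cd00000000000000006575006575640000000000000000000000a9000000000000000000a90000000000000000000000000000000000000000000000000000000064750000006475000089650000000089650000000000000000000000000000000000000000000000000000000000000000000000000000000000000000000000000000000000000000000000000000000000000000000000000000000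000000000000000005900950000000000000000000000000000000000000000000000000000000000000000000000000000000000005900000000000000000000000000000000000000000000000064000000000000000000000000000000000000006d000000310000000000000000000000000000000000e5000000000000000000000000000000000000d59d000000000000d9e500212101000000000100310000000000001dd100000000e48500000d004900000000000000000000000000000000fd74fd740000000000cd00000000000000cd000000000000000000000000000000b4e4b47df50000000000000000000000000000000000000000000000000000000000000000000000000000000000006df5e48dc90000000000000000100000000000000000000000007db4c98d0000000000000000000000000000000000000000000085000000000000004d71000000e900000000000069a5910000000000000000000000000000c535000000002500000000ad00610000790924d000000000e900a5691981b5000000000000b50000000000004d79000000000000000000000059000000000000000000000000d000000000000000007df56d8500000000000000000000000000005d9549e50000000000000000000000000000000000000000000000000000bd00bd000000000000f9000000000000000000000000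00000000000000000000000000000000000000b9b95410540045ed00000000000000000045ed0000000000000000c1adc500000000000084c4c48400000000c40084000000000000000000000000000000000084000000000000000000000000c4000000000000f90000000071000000000000000000000000000000000000001100a900a9000000000029690000000000d5b50000000000000000000000c500000000ad000000000000e90000911900000081d024000000000000000000000000000000090000000000000000000000000000000011000000000000000000000000000000000000000000fd740000edfd7400000000000000000000000000000000000000000000000000000000000000000000000000000000ed4501450100000000000000000000000000000000000000000000b921311000000054b921311000000000000000000000000000000000540000000000000000dd990000000089000000000000000000000000000000000000000000000000005d5d00712500000061351dc1d1000d000000000000000000000991c11dd11d1de9d100000000000000000000f4000000940000000000000000000000c4a194f4bd000000000000000000000000a100004d79a5c99d9db5698dd90000000000000000d400000000a4254dd5d50000000000000000000000000000f9ad000000004995bd599500000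000949500000000000000a4000000000000000000000000d55900000000000dd181194d91092571d0241924d000ad19bdc5613524000000000000009100000000000000000000000000000029f494f90000000000000000e90000000000c55d5d0000000000000000f4f9000000000000000000007935618100000000d439b1e549d4f56d85a40000b17da539000000000000000079a50000000000f429e51450000000000094a16d00000000000000000000c98dd9d900a1c100000000d4290d00000000a40000c99d9d00000000000000b51450000000000000000000e4b47d55555555000000000000000000b1391400000000000000000000000000000000000000b4e4f52df190343de1e13d3490f12d0000000000000000000000000049356181000041000000000000000000000000000084d98d69503490f12d0590343de10000000000000000000000d4f13d3490f1444400004444000000000000000000004400000000000000000000005000002d000000001400000000000000000014500000000000000000000000000000000000110000cd657564a9000000b9000000005474fd00000000000000e1b139a1c100002d39b1290d0000000000000500510000a43de1410541150000008571250900000000000000054100001500510000150000000005410051001540000000000000510000000000000404000015400000000000005100000000000000000000000000000000000000000000000000ed31210110450055000440040440400000000000000000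

/-- A point for every code. -/
def ptT : ℕ := 0xf09d0920941d91a31cf07322020b13319d0300870e60b609f2df0160931592361e11931a416f19b1340681fd0710e70a00992e009e1911671031351012092210eb11708121920d0112da0a10d52160691711041191021db28404f1160860082211012090eb2e00a009909e10319116713521911708120d13322020b19d09200f09d0941cf1d91a30730e60300870b619b1a416f13401609f2df0931e11592361930710681fd0e71db1191022840a10112da0d517121606910408604f1160082361e115919316f19b1a41342df01609f0931fd0710680e71671031911352092211010eb0992e00a009e08121911720d1a31cf1d907320b13322019d09d09200f0940870e60300b60691712161041021db1192842da0a10110d511608604f0080380800720b72a106708220520a0831180e80a401401501211820a0830e80720380800b70822a10672050150a40140120670822a120508311820a0e80800720380b70140150a401205006607f00a07f05006600a06607f05000a013013013000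

def map_a : ℕ := 0x55a9fd54d569bdd495e97d9415293d147599ed74f559adf4b5d96db435192d3465b9dd64e5799de4a5f95da425391d244589cd44c5498dc485c94d8405090d045da5f9a4dd65b9649de579e41d2539247d95e994fd55a954bdd569d43d1529146db5d9b4ed759974adf559f42d3519344d85c984cd4589448dc549c40d05090459adf5f4d96db5b499ed7574192d3534799de5e4f95da5a4b9dd6564391d252469bdd5d4e97d9594a9fd5554293d1514498dc5c4c94d858489cd4544090d050451a1f150d161b1d091e17190112131107191e190f151a150b1d161d03111211061b1d1d0e1719190a1f15150213111104181c140c141814081c1414001010100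
def map_c : ℕ := 0x55cd74b95dc994b559c5e4bd51c190b1649945fdb4954df9d49d49f5d09141f18954dd7585a4d97d8df4d5798150d171ed65a944e96da584e569adc4e161a140d58df479dd895475d985a47dd1815071e459c5bd7455cdb9945dc9b59051c1b149d49df5456499fd4db495f941d091f1ade569c4a9ed6544a5e96d84a1e16140954db4f99d49d4f5994564fd9141d0f1a4d9857df4d58d7954dd897550d18171c9945db5c5e459bdcd7455b9c19051b16da5e98469ade5c465a9ed4461a1e140150d34391d0914351905243d110110312419053d34150d39141d09351011013109141d350524193d0d341539011011312d252904292d250425292d0421212100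
def map_d : ℕ := 0x45b9ed54c579add485f96d9405392d146589fd74e549bdf4a5c97db425093d3475a9cd64f5698de4b5e94da435290d245599dd44d5599dc495d95d8415191d044db5e9a4cd75a9648df569e40d3529246d85f994ed45b954adc579d42d0539147da5c9b4fd658974bde549f43d2509345d95d984dd5599449dd559c41d15190449bde5f4c97da5b489fd6574093d2534698df5e4e94db5a4a9cd7564290d352479adc5d4f96d8594b9ed4554392d0514599dd5c4d95d958499dd5544191d150441b1e150c171a1d081f16190013121106181f190e141b150a1c171d02101311071a1c1d0f1618190b1e14150312101105191d140d151914091d1514011111100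
def map_f : ℕ := 0x55fda9019569c13dd5817d294094d414659931cdf55d09a190c424b485d12d797521dd89d03484e4a50d59f1c539916d1064744425718dd935c9619d05adf95159a50df1dd75218984d034e491c5396d7dd58129a955fd01c195693dd44094142490c4b4316599cd09f55da12d85d1796135c99d741064448d2571d9f905ad515d09f5a1c42490b4993165cdd12d85793484d0e40d59a5f121dd75893991c56d69c1953d817dd529fda9550194d44014718d25d9c961359d64741044adf9055104f4a450194db1e51de149b511b9ed45491de1b5a404f450b1194de5ed11b9454db119e5e1491db5f4a40450b9ed114541e9bd15bd41e915e9bd411554545400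
def map_v : ℕ := 0xd96db5b4d569bdd4dd65b964d161b1d0f95da5a4f559adf4fd55a954f151a150e97d9594e5799de4ed759974e1719190c94d8584c5498dc4cd458944c141814099ed757495e97d949de579e491e17190b9dd6564b5d96db4bdd569d4b1d161d0a9fd5554a5f95da4adf559f4a1f1515089cd454485c94d848dc549c481c1414059adf5f455a9fd545da5f9a451a1f150799de5e47599ed747d95e9947191e19069bdd5d465b9dd646db5d9b461b1d1d0498dc5c44589cd444d85c9844181c140192d353415293d141d25392411213110391d252435192d343d15291431112110293d151425391d242d35193421311110090d050405090d040d05090401010100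
def map_u : ℕ := 0x55fda95459f5adf45df9a5a451f1a15065ddb96469d5bdd46dd9b5b461d1b1d075ed997479e59de47de9959471e1919045cd894449c58dc44dc9858441c18140957de9949975ed749d79e5e49171e190a55df9a4a955fd54ad59f5f4a151f150b56dd9b4b965dd64bd69d5d4b161d1d0854dc9848945cd448d49c5c48141c140d5bd69d4d9b56db4ddb96564d1b161d0e59d79e4e9957d94ed997574e1917190f5ad59f4f9a55da4fda95554f1a15150c58d49c4c9854d84cd894544c1814140153d291419352d341d39252411312110251d392429153d142d19353421113110352d193439251d243d29151431211110050d090409050d040d09050401010100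
def mat_a : M4 := matOf 0x4104001
def mat_c : M4 := matOf 0x40230432
def mat_d : M4 := matOf 0x4114001
def mat_f : M4 := matOf 0x51451554
def mat_v : M4 := matOf 0xc0100801

/-- Entry of a packed byte table. -/
def by8 (t i : ℕ) : ℕ := Nat.land (Nat.shiftRight t (Nat.mul 8 i)) 255

/-- The label map. -/
def lab (p : Fin 2058) : V := dec (by8 labT p)

/-- Check that the word `w` acts on the labels through the table `mp`. -/
noncomputable def chkLab (w : List He.Gen) (mp : ℕ) : Bool :=
  allP (fun i => Bool.or (Nat.ble 2058 i) (Nat.beq (by8 labT (tr w i)) (by8 mp (by8 labT i)))) 12 0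

theorem chkLab_spec {w : List He.Gen} {mp : ℕ} (h : chkLab w mp = true) {i : ℕ} (hi : i < 2058) :
    by8 labT (tr w i) = by8 mp (by8 labT i) := by
  have h1 := allP_spec _ 12 0 h i (Nat.zero_le _) (by norm_num; omega)
  rw [Bool.or_eq_true] at h1
  rcases h1 with h1 | h1
  · have := Nat.le_of_ble_eq_true h1
    omega
  · exact Nat.eq_of_beq_eq_true h1

theorem by8_lt (t i : ℕ) : by8 t i < 256 := by
  unfold by8
  exact Nat.lt_of_le_of_lt (Nat.and_le_right) (by norm_num)

/-- Check of a table against a map of vectors. -/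
def chkMap (g : V → V) (mp : ℕ) : Bool := allP (fun c => parB (dec (by8 mp c)) (g (dec c))) 8 0

theorem chkMap_spec {g : V → V} {mp : ℕ} (h : chkMap g mp = true) {c : ℕ} (hc : c < 256) :
    Par (dec (by8 mp c)) (g (dec c)) := by
  have h1 := allP_spec _ 8 0 h c (Nat.zero_le _) (by norm_num; omega)
  exact parB_spec h1

theorem compat {w : List He.Gen} {mp : ℕ} {g : V → V} (h1 : chkLab w mp = true)
    (h2 : chkMap g mp = true) (p : Fin 2058) : Par (lab ((w.map gen).prod p)) (g (lab p)) := by
  have h3 : lab ((w.map gen).prod p) = dec (by8 mp (by8 labT p)) := by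
    unfold lab
    rw [prod_val, chkLab_spec h1 p.2]
  rw [h3]
  exact chkMap_spec h2 (by8_lt _ _)

theorem lab_a : chkLab [.a] map_a = true := by decide +kernel
theorem map_a_ok : chkMap (mv mat_a) map_a = true := by decide +kernel
theorem lab_c : chkLab [.c] map_c = true := by decide +kernel
theorem map_c_ok : chkMap (mv mat_c) map_c = true := by decide +kernel
theorem lab_d : chkLab [.d] map_d = true := by decide +kernel
theorem map_d_ok : chkMap (mv mat_d) map_d = true := by decide +kernel
theorem lab_f : chkLab [.f] map_f = true := by decide +kernel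
theorem map_f_ok : chkMap (mv mat_f) map_f = true := by decide +kernel
theorem lab_v : chkLab [.b, .c, .d, .e, .b, .c, .d, .e, .b, .c, .d, .e, .b, .c, .d, .e, .b, .c, .d, .e, .b, .c, .d, .e, .b, .c, .d, .e] map_v = true := by decide +kernel
theorem map_v_ok : chkMap (mv mat_v) map_v = true := by decide +kernel
theorem lab_u : chkLab [.b, .a, .b] map_u = true := by decide +kernel
theorem map_u_ok : chkMap frob map_u = true := by decide +kernel

theorem pt_ok : allP (fun c => parB (dec (by8 labT (app ptT c))) (dec c)) 8 0 = true := by decide +kernel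

theorem pt_bnd : allP (fun c => Nat.ble (app ptT c) 2057) 8 0 = true := by decide +kernel

theorem hlab (v : V) (_ : v ≠ 0) : ∃ p, Par (lab p) v := by
  obtain ⟨c, hc, rfl⟩ := exists_dec v
  have h1 := allP_spec _ 8 0 pt_ok c (Nat.zero_le _) (by norm_num; omega)
  have h2 := allP_spec _ 8 0 pt_bnd c (Nat.zero_le _) (by norm_num; omega)
  have h3 := Nat.le_of_ble_eq_true h2
  exact ⟨⟨app ptT c, by omega⟩, parB_spec h1⟩

theorem mat_a_mem : mat_a ∈ Matrix.symplecticGroup (Fin 2) F4 := by
  rw [SymplecticGroup.mem_iff]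
  decide +kernel
theorem mat_c_mem : mat_c ∈ Matrix.symplecticGroup (Fin 2) F4 := by
  rw [SymplecticGroup.mem_iff]
  decide +kernel
theorem mat_d_mem : mat_d ∈ Matrix.symplecticGroup (Fin 2) F4 := by
  rw [SymplecticGroup.mem_iff]
  decide +kernel
theorem mat_f_mem : mat_f ∈ Matrix.symplecticGroup (Fin 2) F4 := by
  rw [SymplecticGroup.mem_iff]
  decide +kernel
theorem mat_v_mem : mat_v ∈ Matrix.symplecticGroup (Fin 2) F4 := by
  rw [SymplecticGroup.mem_iff]
  decide +kernel

/-- The vector of the transvection `a`. -/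
def w₀ : V := dec 68

theorem mat_a_eq : Cfsg.sympTransvection 2 w₀ 1 = mat_a := by
  decide +kernel

/-- The four linear generators used for transitivity. -/
def mats (i : Fin 4) : M4 := Fin.cases mat_c (fun i => Fin.cases mat_d (fun i => Fin.cases mat_f (fun _ => mat_v) i) i) i

/-- Breadth first search tree of the nonzero vectors: (child, generator, parent). -/
def tree : List (ℕ × Fin 4 × ℕ) := [(200, 3, 68), (140, 1, 200), (217, 2, 200), (157, 2, 140), (141, 1, 217), (201, 1, 157), (85, 3, 157), (190, 0, 141), (69, 3, 141), (250, 0, 201), (218, 1, 190), (118, 3, 190), (16, 2, 69), (158, 1, 250), (248, 0, 218), (52, 2, 218), (86, 1, 118), (35, 2, 118), (188, 0, 158), (112, 2, 158), (22, 2, 248), (56, 3, 52), (116, 0, 86), (169, 2, 86), (19, 1, 35), (82, 2, 188), (240, 3, 112), (114, 1, 22), (26, 3, 22), (176, 1, 56), (229, 2, 56), (60, 3, 56), (139, 2, 116), (185, 1, 169), (109, 3, 169), (2, 0, 19), (54, 1, 82), (210, 3, 82), (65, 0, 114), (242, 3, 114), (178, 1, 26), (199, 2, 26), (30, 3, 26), (146, 0, 176),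 (125, 1, 229), (187, 1, 139), (79, 3, 139), (168, 0, 185), (245, 1, 109), (34, 1, 2), (5, 0, 54), (58, 3, 54), (62, 1, 210), (21, 1, 65), (193, 3, 65), (148, 2, 242), (129, 0, 178), (197, 2, 178), (127, 1, 199), (108, 0, 125), (247, 1, 79), (228, 0, 245), (81, 1, 5), (9, 3, 5), (77, 2, 58), (13, 0, 62), (88, 2, 62), (4, 2, 21), (25, 3, 21), (29, 1, 193), (167, 2, 193), (246, 2, 129), (93, 1, 197), (137, 3, 197), (213, 2, 247), (64, 2, 81), (209, 3, 81), (145, 1, 9), (126, 2, 9), (107, 2, 13), (220, 3, 88), (8, 3, 4), (59, 2, 25), (46, 2, 29), (91, 1, 167), (94, 1, 246), (186, 3, 246), (153, 1, 137), (192, 3, 64), (226, 2, 209), (179, 2, 145), (214, 1, 126), (151, 1, 107), (239, 3, 107), (128, 1, 8), (42, 2, 8), (12, 3, 8), (131, 1, 59), (63, 3, 59), (194, 1, 46), (38, 3, 46), (74, 0, 91), (223, 3, 91), (124, 0, 94), (154, 1, 186), (243, 2, 192), (14, 1, 226), (162, 3, 226), (11, 1, 179), (115, 3, 179), (244, 0, 214), (134, 0, 151), (130, 1, 42), (161, 0, 131), (67, 3, 131), (195, 1, 63), (55, 3, 63), (211, 0, 194),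 (66, 1, 38), (166, 1, 74), (206, 3, 74), (117, 2, 223), (184, 0, 154), (101, 2, 154), (15, 1, 243), (31, 0, 14), (6, 3, 14), (10, 1, 162), (98, 3, 162), (41, 0, 11), (7, 1, 115), (106, 1, 134), (147, 0, 130), (57, 1, 161), (97, 3, 161), (173, 2, 67), (225, 0, 195), (47, 1, 211), (83, 0, 66), (249, 2, 66), (149, 2, 166), (238, 1, 206), (100, 2, 206), (71, 2, 184), (233, 3, 101), (45, 0, 15), (227, 1, 31), (23, 3, 31), (189, 2, 6), (27, 0, 10), (177, 1, 41), (37, 0, 7), (89, 2, 106), (43, 1, 147), (40, 0, 57), (61, 3, 57), (53, 1, 97), (143, 2, 97), (28, 0, 47), (73, 2, 47), (39, 3, 47), (232, 2, 83), (119, 1, 71), (203, 3, 71), (241, 1, 45), (208, 0, 227), (133, 2, 227), (163, 3, 227), (99, 1, 23), (172, 2, 23), (160, 0, 177), (113, 3, 177), (221, 3, 89), (24, 0, 43), (92, 2, 43), (44, 3, 40), (164, 2, 61), (36, 0, 53), (142, 2, 53), (251, 1, 143), (122, 2, 28), (20, 3, 28), (205, 3, 73), (191, 1, 203), (224, 0, 241), (104, 2, 241), (182, 2, 208), (144, 3, 208), (212, 2, 163), (80, 0, 99), (96, 3, 160), (202, 2,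 113), (111, 2, 24), (181, 2, 44), (159, 2, 36), (234, 1, 142), (70, 3, 142), (150, 1, 122), (254, 3, 122), (152, 2, 205), (174, 2, 191), (121, 2, 224), (236, 3, 104), (90, 1, 182), (231, 2, 144), (219, 2, 96), (215, 1, 111), (105, 1, 181), (235, 1, 159), (87, 3, 159), (102, 1, 70), (180, 0, 150), (222, 1, 254), (171, 2, 254), (165, 1, 121), (253, 3, 121), (120, 0, 90), (95, 1, 231), (175, 1, 219), (198, 0, 215), (155, 3, 215), (75, 0, 105), (237, 3, 105), (216, 0, 235), (103, 1, 87), (252, 0, 222), (33, 2, 222), (135, 0, 165), (78, 0, 95), (156, 0, 175), (110, 1, 198), (138, 3, 198), (49, 2, 155), (183, 1, 75), (207, 3, 75), (18, 2, 237), (84, 0, 103), (50, 2, 103), (3, 2, 252), (123, 1, 135), (230, 1, 78), (76, 2, 110), (170, 1, 138), (32, 2, 138), (132, 2, 183), (255, 1, 207), (48, 2, 207), (1, 2, 84), (51, 1, 3), (72, 2, 123), (196, 2, 230), (17, 1, 1), (204, 3, 72), (136, 3, 196)]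

/-- Check of the tree; `seen` is a bit mask. -/
def chkTree : List (ℕ × Fin 4 × ℕ) → ℕ → Bool
  | [], seen => seen == 2 ^ 256 - 2
  | (a, g, b) :: l, seen =>
    (seen.testBit b && eqB (dec a) (mv (mats g) (dec b))) && chkTree l (seen ||| 2 ^ a)

theorem chkTree_spec (P : V → Prop) (hstep : ∀ i v, P v → P (mats i *ᵥ v)) :
    ∀ (l : List (ℕ × Fin 4 × ℕ)) (seen : ℕ), chkTree l seen = true →
      (∀ c, seen.testBit c = true → P (dec c)) → ∀ c, (2 ^ 256 - 2).testBit c = true → P (dec c) := by
  intro l
  induction l with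
  | nil =>
    intro seen h hs c hc
    simp only [chkTree, beq_iff_eq] at h
    subst h
    exact hs c hc
  | cons x l ih =>
    obtain ⟨a, g, b⟩ := x
    intro seen h hs
    simp only [chkTree, Bool.and_eq_true] at h
    obtain ⟨⟨h1, h2⟩, h3⟩ := h
    apply ih _ h3
    intro c hc
    rw [Nat.testBit_or, Bool.or_eq_true, Nat.testBit_two_pow] at hc
    rcases hc with hc | hc
    · exact hs c hc
    · have : a = c := by simpa using hc
      subst this
      rw [eqB_spec h2, ← mulVec_eq_mv]
      exact hstep g _ (hs b h1)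

theorem tree_ok : chkTree tree (2 ^ 68) = true := by decide +kernel

theorem nz_ok : allP (fun c => Bool.or (eqB (dec c) (fun _ => F4.o)) ((2 ^ 256 - 2).testBit c)) 8 0 = true := by
  decide +kernel

theorem trans (P : V → Prop) (h0 : P w₀) (hstep : ∀ i v, P v → P (mats i *ᵥ v)) (v : V) (hv : v ≠ 0) :
    P v := by
  obtain ⟨c, hc, rfl⟩ := exists_dec v
  refine chkTree_spec P hstep tree _ tree_ok ?_ c ?_
  · intro c hc
    rw [Nat.testBit_two_pow] at hc
    have : 68 = c := by simpa using hc
    subst this
    exact h0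
  · have h1 := allP_spec _ 8 0 nz_ok c (Nat.zero_le _) (by norm_num; omega)
    rw [Bool.or_eq_true] at h1
    rcases h1 with h1 | h1
    · exact absurd (eqB_spec h1) hv
    · exact h1

end Cfsg.Agent.SporRec.HeldSp4
end

-- part: S1682
section
set_option autoImplicit false
open Cfsg

namespace Cfsg.Agent.S1682

open Cfsg.Spor Cfsg.Agent.Lib.FieldFour Cfsg.Agent.SporRec.HeldPerm Cfsg.Agent.SporRec.HeldSp4Core
  Cfsg.Agent.SporRec.HeldSp4

/-- The subgroup of the statement. -/
abbrev HH : Subgroup He := ((Subgroup.closure ({Cfsg.Spor.He.a, Cfsg.Spor.He.c, Cfsg.Spor.He.d, Cfsg.Spor.He.e, Cfsg.Spor.He.f, (Cfsg.Spor.He.a * Cfsg.Spor.He.b) ^ 2, (Cfsg.Spor.He.b * Cfsg.Spor.He.c * Cfsg.Spor.He.d * Cfsg.Spor.He.e) ^ 7} : Set (FreeGroup Cfsg.Spor.He.Gen))).map (PresentedGroup.mk (Cfsg.Spor.coxRelators Cfsg.Spor.He.edges ∪ {r | r ∈ Cfsg.Spor.He.extra})))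

theorem card_HH : Nat.card HH = 1958400 := by
  have h1 : HH.index = 2058 := Cfsg.Agent.S1683.result.1
  have h2 : Nat.card He = 4030387200 := Cfsg.Agent.S1695.result.2
  have h3 := Subgroup.card_mul_index HH
  rw [h1, h2] at h3
  exact Nat.eq_of_mul_eq_mul_right (by norm_num : 0 < 2058) (h3.trans (by norm_num))

/-- Elements of the subgroup. -/
def mkH (w : FreeGroup He.Gen) (h : w ∈ Subgroup.closure ({Cfsg.Spor.He.a, Cfsg.Spor.He.c, Cfsg.Spor.He.d, Cfsg.Spor.He.e, Cfsg.Spor.He.f, (Cfsg.Spor.He.a * Cfsg.Spor.He.b) ^ 2, (Cfsg.Spor.He.b * Cfsg.Spor.He.c * Cfsg.Spor.He.d * Cfsg.Spor.He.e) ^ 7} : Set (FreeGroup Cfsg.Spor.He.Gen))) : HH :=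
  ⟨PresentedGroup.mk _ w, Subgroup.mem_map_of_mem _ h⟩

theorem φ_word (w : List He.Gen) :
    φ (PresentedGroup.mk (coxRelators He.edges ∪ {r | r ∈ He.extra}) ((w.map FreeGroup.of).prod)) =
      (w.map gen).prod := by
  induction w with
  | nil => simp
  | cons x w ih =>
    rw [List.map_cons, List.prod_cons, map_mul, map_mul, ih, φ_of, List.map_cons, List.prod_cons]


/-- In the presented Held group, the subgroup H generated by the images of a, c, d, e, f, (ab)^2 and (bcde)^7 has a normal subgroup of index 2 isomorphic to the 4-dimensional symplectic group over a field with four elements. -/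
theorem result : ∃ (N : Subgroup (((Subgroup.closure ({Cfsg.Spor.He.a, Cfsg.Spor.He.c, Cfsg.Spor.He.d, Cfsg.Spor.He.e, Cfsg.Spor.He.f, (Cfsg.Spor.He.a * Cfsg.Spor.He.b) ^ 2, (Cfsg.Spor.He.b * Cfsg.Spor.He.c * Cfsg.Spor.He.d * Cfsg.Spor.He.e) ^ 7} : Set (FreeGroup Cfsg.Spor.He.Gen))).map (PresentedGroup.mk (Cfsg.Spor.coxRelators Cfsg.Spor.He.edges ∪ {r | r ∈ Cfsg.Spor.He.extra}))))) (K : Type) (_ : Field K) (_ : Fintype K), N.Normal ∧ N.index = 2 ∧ Fintype.card K = 4 ∧ Nonempty (N ≃* Matrix.symplecticGroup (Fin 2) K) := by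

  have key : ∃ N : Subgroup HH, N.Normal ∧ N.index = 2 ∧
      Nonempty (N ≃* Matrix.symplecticGroup (Fin 2) F4) := by
    have ha : He.a ∈ Subgroup.closure ({Cfsg.Spor.He.a, Cfsg.Spor.He.c, Cfsg.Spor.He.d, Cfsg.Spor.He.e, Cfsg.Spor.He.f, (Cfsg.Spor.He.a * Cfsg.Spor.He.b) ^ 2, (Cfsg.Spor.He.b * Cfsg.Spor.He.c * Cfsg.Spor.He.d * Cfsg.Spor.He.e) ^ 7} : Set (FreeGroup Cfsg.Spor.He.Gen)) :=
      Subgroup.subset_closure (by simp)
    have hc : He.c ∈ Subgroup.closure ({Cfsg.Spor.He.a, Cfsg.Spor.He.c, Cfsg.Spor.He.d, Cfsg.Spor.He.e, Cfsg.Spor.He.f, (Cfsg.Spor.He.a * Cfsg.Spor.He.b) ^ 2, (Cfsg.Spor.He.b * Cfsg.Spor.He.c * Cfsg.Spor.He.d * Cfsg.Spor.He.e) ^ 7} : Set (FreeGroup Cfsg.Spor.He.Gen)) :=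
      Subgroup.subset_closure (by simp)
    have hd : He.d ∈ Subgroup.closure ({Cfsg.Spor.He.a, Cfsg.Spor.He.c, Cfsg.Spor.He.d, Cfsg.Spor.He.e, Cfsg.Spor.He.f, (Cfsg.Spor.He.a * Cfsg.Spor.He.b) ^ 2, (Cfsg.Spor.He.b * Cfsg.Spor.He.c * Cfsg.Spor.He.d * Cfsg.Spor.He.e) ^ 7} : Set (FreeGroup Cfsg.Spor.He.Gen)) :=
      Subgroup.subset_closure (by simp)
    have hf : He.f ∈ Subgroup.closure ({Cfsg.Spor.He.a, Cfsg.Spor.He.c, Cfsg.Spor.He.d, Cfsg.Spor.He.e, Cfsg.Spor.He.f, (Cfsg.Spor.He.a * Cfsg.Spor.He.b) ^ 2, (Cfsg.Spor.He.b * Cfsg.Spor.He.c * Cfsg.Spor.He.d * Cfsg.Spor.He.e) ^ 7} : Set (FreeGroup Cfsg.Spor.He.Gen)) :=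
      Subgroup.subset_closure (by simp)
    have hu : (He.a * He.b) ^ 2 ∈ Subgroup.closure ({Cfsg.Spor.He.a, Cfsg.Spor.He.c, Cfsg.Spor.He.d, Cfsg.Spor.He.e, Cfsg.Spor.He.f, (Cfsg.Spor.He.a * Cfsg.Spor.He.b) ^ 2, (Cfsg.Spor.He.b * Cfsg.Spor.He.c * Cfsg.Spor.He.d * Cfsg.Spor.He.e) ^ 7} : Set (FreeGroup Cfsg.Spor.He.Gen)) :=
      Subgroup.subset_closure (by simp)
    have hv : (He.b * He.c * He.d * He.e) ^ 7 ∈ Subgroup.closure ({Cfsg.Spor.He.a, Cfsg.Spor.He.c, Cfsg.Spor.He.d, Cfsg.Spor.He.e, Cfsg.Spor.He.f, (Cfsg.Spor.He.a * Cfsg.Spor.He.b) ^ 2, (Cfsg.Spor.He.b * Cfsg.Spor.He.c * Cfsg.Spor.He.d * Cfsg.Spor.He.e) ^ 7} : Set (FreeGroup Cfsg.Spor.He.Gen)) :=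
      Subgroup.subset_closure (by simp)
    have hp : ∀ (w : FreeGroup He.Gen) (h) (l : List He.Gen),
        FreeGroup.lift gen w = (l.map gen).prod →
        φ ((mkH w h : HH) : He) = (l.map gen).prod := by
      intro w h l hl
      rw [← hl]
      rfl
    refine core φ HH lab hlab card_HH w₀ (mkH He.a ha) ?_
      (Fin.cases (mkH He.c hc) (fun i => Fin.cases (mkH He.d hd)
        (fun i => Fin.cases (mkH He.f hf) (fun _ => mkH _ hv) i) i)) mats ?_ ?_ trans
      (mkH (He.a * (He.a * He.b) ^ 2) (mul_mem ha hu)) ?_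
    · intro p
      rw [mat_a_eq, hp _ _ [.a] (by simp), mulVec_eq_mv]
      exact compat lab_a map_a_ok p
    · intro i
      fin_cases i
      · exact mat_c_mem
      · exact mat_d_mem
      · exact mat_f_mem
      · exact mat_v_mem
    · intro i p
      fin_cases i
      · change Par (lab (φ ((mkH He.c hc : HH) : He) p)) (mat_c.mulVec (lab p))
        rw [hp _ _ [.c] (by simp), mulVec_eq_mv]
        exact compat lab_c map_c_ok p
      · change Par (lab (φ ((mkH He.d hd : HH) : He) p)) (mat_d.mulVec (lab p))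
        rw [hp _ _ [.d] (by simp), mulVec_eq_mv]
        exact compat lab_d map_d_ok p
      · change Par (lab (φ ((mkH He.f hf : HH) : He) p)) (mat_f.mulVec (lab p))
        rw [hp _ _ [.f] (by simp), mulVec_eq_mv]
        exact compat lab_f map_f_ok p
      · change Par (lab (φ ((mkH _ hv : HH) : He) p)) (mat_v.mulVec (lab p))
        rw [hp _ _ [.b, .c, .d, .e, .b, .c, .d, .e, .b, .c, .d, .e, .b, .c, .d, .e, .b, .c, .d, .e, .b, .c, .d, .e, .b, .c, .d, .e] (by
          simp only [map_mul, FreeGroup.lift_apply_of, List.map_cons, List.map_nil,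
            List.prod_cons, List.prod_nil, mul_one, pow_succ, pow_zero, one_mul, mul_assoc]), mulVec_eq_mv]
        exact compat lab_v map_v_ok p
    · intro p
      rw [hp _ _ [.b, .a, .b] (by
          simp only [map_mul, FreeGroup.lift_apply_of, List.map_cons, List.map_nil,
            List.prod_cons, List.prod_nil, mul_one, pow_succ, pow_zero, one_mul, mul_assoc]
          rw [← mul_assoc (gen _) (gen _), gen_sq, one_mul])]
      exact compat lab_u map_u_ok p
  obtain ⟨N, hN1, hN2, hN3⟩ := key
  exact ⟨N, F4, inferInstance, inferInstance, hN1, hN2, F4.card, hN3⟩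

end Cfsg.Agent.S1682
end
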