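import Cfsg.Prelude.Def_Local
import Cfsg.Agent.Lib.Cores
import Cfsg.Agent.Lib.PGroupCoprimeAction
import Cfsg.Agent.PLocal.HallHigmanPrime
import Cfsg.Statements.S0633
import Cfsg.Agent.PLocal.HHBCore
set_option linter.all false

-- part: PLocal/HHBReduction
section
/-!
Hall–Higman Theorem B, group theoretic reduction: an element `x` of order `p^n` of a `p`-solvable group with
`O_p = 1` normalizes a `q`-subgroup (`q ≠ p`) which is not centralized by `x^(p^(n-1))`.
-/

set_option autoImplicit false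

namespace Cfsg.Agent.PLocal.HHBReduction

/-- A finite group is generated by any family containing a Sylow `q`-subgroup for every prime `q`. -/
theorem le_of_forall_sylow_le {G : Type*} [Group G] [Finite G] (N C : Subgroup G)
    (h : ∀ q : ℕ, q.Prime → ∃ S : Subgroup G, (∃ T : Sylow q N, (T : Subgroup N).map N.subtype = S) ∧
      S ≤ C) : N ≤ C := by
  have hdvd : Nat.card N ∣ Nat.card (N ⊓ C : Subgroup G) := by
    rw [← Nat.factorization_prime_le_iff_dvd Nat.card_pos.ne' Nat.card_pos.ne']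
    intro q hq
    have : Fact q.Prime := ⟨hq⟩
    obtain ⟨S, ⟨T, rfl⟩, hSC⟩ := h q hq
    have h1 : Nat.card ((T : Subgroup N).map N.subtype : Subgroup G) =
        q ^ (Nat.card N).factorization q := by
      rw [← Sylow.card_eq_multiplicity T]
      exact (Nat.card_congr ((T : Subgroup N).equivMapOfInjective N.subtype
        N.subtype_injective).toEquiv).symm
    have h2 : q ^ (Nat.card N).factorization q ∣ Nat.card (N ⊓ C : Subgroup G) := by
      rw [← h1]
      exact Subgroup.card_dvd_of_le (le_inf (Subgroup.map_subtype_le _) hSC)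
    exact (hq.pow_dvd_iff_le_factorization Nat.card_pos.ne').1 h2
  have heq : N ⊓ C = N :=
    Subgroup.eq_of_le_of_card_ge inf_le_left (Nat.le_of_dvd Nat.card_pos hdvd)
  exact inf_eq_left.1 heq

theorem L7 {H : Type*} [Group H] [Finite H] {p : ℕ} [Fact p.Prime] (hsol : Cfsg.IsPSolvable p H)
    (hOp : Cfsg.pCore p H = ⊥) (x : H) (n : ℕ) (hn : 1 ≤ n) (hx : orderOf x = p ^ n) :
    ∃ (q : ℕ) (Q : Subgroup H), q.Prime ∧ q ≠ p ∧ IsPGroup q Q ∧ x ∈ Subgroup.normalizer (Q : Set H) ∧
      ∃ g ∈ Q, x ^ (p ^ (n - 1)) * g ≠ g * x ^ (p ^ (n - 1)) := by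
  have hp : p.Prime := Fact.out
  set N : Subgroup H := Cfsg.pPrimeCore p H with hN
  have hNn : N.Normal := Cfsg.Agent.Lib.Cores.pPrimeCore_normal p
  have hNc : (Nat.card N).Coprime p := Cfsg.Agent.Lib.Cores.pPrimeCore_coprime p
  have hNp : ¬ p ∣ Nat.card N := fun h => by
    have := Nat.dvd_gcd h (dvd_refl p)
    rw [hNc] at this
    exact hp.one_lt.ne' (Nat.dvd_one.1 this)
  have hcent := Cfsg.Agent.PLocal.HallHigmanPrime.centralizer_pPrimeCore_le_of_pSolvable p hsol hOp
  set y : H := x ^ (p ^ (n - 1)) with hy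
  by_contra hcon
  push Not at hcon
  have hxp : IsPGroup p (Subgroup.zpowers x) := by
    apply IsPGroup.of_card (n := n)
    rw [Nat.card_zpowers, hx]
  have hle : N ≤ Subgroup.centralizer {y} := by
    apply le_of_forall_sylow_le
    intro q hq
    have : Fact q.Prime := ⟨hq⟩
    obtain ⟨S, hS, hinv⟩ := Cfsg.Agent.Lib.PGroupCoprimeAction.exists_invariant_sylow hxp hNp
      (fun b _ u hu => hNn.conj_mem u hu b) q
    refine ⟨S, hS, ?_⟩
    obtain ⟨T, rfl⟩ := hS
    have hSq : IsPGroup q ((T : Subgroup N).map N.subtype : Subgroup H) :=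
      T.isPGroup'.map N.subtype
    by_cases hqp : q = p
    · subst hqp
      -- the Sylow subgroup is trivial
      have h1 : Nat.card ((T : Subgroup N).map N.subtype : Subgroup H) = 1 := by
        rw [← Nat.card_congr ((T : Subgroup N).equivMapOfInjective N.subtype
          N.subtype_injective).toEquiv, Sylow.card_eq_multiplicity T,
          Nat.factorization_eq_zero_of_not_dvd hNp, pow_zero]
      rw [Subgroup.card_eq_one.1 h1]
      exact bot_le
    · have hxn : x ∈ Subgroup.normalizer (((T : Subgroup N).map N.subtype : Subgroup H) : Set H) := by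
        rw [Subgroup.mem_normalizer_iff]
        intro u
        constructor
        · exact hinv x (Subgroup.mem_zpowers x) u
        · intro hu
          have := hinv x⁻¹ (Subgroup.inv_mem _ (Subgroup.mem_zpowers x)) _ hu
          have h2 : x⁻¹ * (x * u * x⁻¹) * x⁻¹⁻¹ = u := by group
          rwa [h2] at this
      intro g hg
      rw [Subgroup.mem_centralizer_singleton_iff]
      exact (hcon q _ hq hqp hSq hxn g hg).symm
  have hyN : y ∈ N := by
    apply hcent
    rw [Subgroup.mem_centralizer_iff]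
    intro g hg
    exact Subgroup.mem_centralizer_singleton_iff.1 (hle hg)
  have hyo : orderOf y = p := by
    rw [hy, orderOf_pow, hx, Nat.gcd_eq_right (Nat.pow_dvd_pow p (Nat.sub_le n 1)),
      Nat.pow_div (Nat.sub_le n 1) hp.pos, Nat.sub_sub_self hn, pow_one]
  have : orderOf y ∣ Nat.card N := by
    have h1 := orderOf_dvd_natCard (⟨y, hyN⟩ : N)
    rwa [Subgroup.orderOf_mk] at h1
  rw [hyo] at this
  exact hNp this

end Cfsg.Agent.PLocal.HHBReduction
end

-- part: S0633
section
set_option autoImplicit false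
open Cfsg

namespace Cfsg.Agent.S0633

open Cfsg.Agent.PLocal

/-- the conclusion in terms of a nilpotency bound -/
theorem bound {F : Type*} [Field F] {p : ℕ} [hp : Fact p.Prime] [CharP F p] {V : Type*}
    [AddCommGroup V] [Module F V] [FiniteDimensional F V] (H : Subgroup (V ≃ₗ[F] V)) [Finite H]
    (hsol : Cfsg.IsPSolvable p H) (hOp : Cfsg.pCore p H = ⊥) (x : V ≃ₗ[F] V) (hx : x ∈ H) (n : ℕ)
    (hn1 : 1 ≤ n) (hn : orderOf x = p ^ n) (r : ℕ)
    (hr : ((x : Module.End F V) - 1) ^ r = 0) :
    p ^ n ≤ r ∨ ∃ n₀ q m : ℕ, 1 ≤ n₀ ∧ n₀ ≤ n ∧ q.Prime ∧ 1 ≤ m ∧ p ^ n₀ - 1 = q ^ m ∧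
      (∀ Q : Sylow q H, ¬ IsMulCommutative Q) ∧ p ^ (n - n₀) * (p ^ n₀ - 1) ≤ r := by
  classical
  let x' : H := ⟨x, hx⟩
  have hx' : orderOf x' = p ^ n := by rw [← hn]; exact Subgroup.orderOf_mk x hx
  obtain ⟨q, Q, hq, hqp, hQ, hxQ, g, hgQ, hg⟩ := HHBReduction.L7 hsol hOp x' n hn1 hx'
  have hqf : Fact q.Prime := ⟨hq⟩
  let K := AlgebraicClosure F
  have hKp : CharP K p := charP_of_injective_algebraMap (algebraMap F K).injective p
  let φ : Module.End F V →ₐ[F] Module.End K (TensorProduct F K V) :=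
    Module.End.baseChangeHom F K V
  have hφ : Function.Injective φ := LinearMap.baseChangeHom_injective F V K
  let ρ₀ : (V ≃ₗ[F] V) →* Module.End K (TensorProduct F K V) :=
    (φ : Module.End F V →* Module.End K (TensorProduct F K V)).comp
      (LinearEquiv.automorphismGroup.toLinearMapMonoidHom (R := F) (M := V))
  have hρ₀ : Function.Injective ρ₀ := by
    intro a b hab
    have h1 := hφ hab
    exact LinearEquiv.toLinearMap_injective h1
  let ρ : Q →* Module.End K (TensorProduct F K V) := ρ₀.comp (H.subtype.comp Q.subtype)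
  have hρ : Function.Injective ρ :=
    hρ₀.comp (H.subtype_injective.comp Q.subtype_injective)
  let ξ : Subgroup.normalizer (Q : Set H) := ⟨x', hxQ⟩
  let σ : MulAut Q := Q.normalizerMonoidHom ξ
  have hσ : ∀ (k : ℕ) (h : Q), (((σ ^ k) h : Q) : H) = x' ^ k * h * (x' ^ k)⁻¹ := by
    intro k h
    have h1 : σ ^ k = Q.normalizerMonoidHom (ξ ^ k) := (map_pow _ _ _).symm
    rw [h1]
    rfl
  have hξ : ξ ^ (p ^ n) = 1 := by
    apply Subtype.ext
    show x' ^ (p ^ n) = 1
    rw [← hx', pow_orderOf_eq_one]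
  have hxn : x ^ (p ^ n) = 1 := by rw [← hn, pow_orderOf_eq_one]
  have hX : ρ₀ x = φ (x : Module.End F V) := rfl
  rcases HHBCore.core hqp hQ ρ hρ σ (ρ₀ x) (by
      intro h
      have h1 : x' * (h : H) = ((σ h : Q) : H) * x' := by
        have h2 := hσ 1 h
        rw [pow_one, pow_one] at h2
        rw [h2]; group
      have h3 := congrArg (fun z : H => ρ₀ (z : V ≃ₗ[F] V)) h1
      simp only [Subgroup.coe_mul, map_mul] at h3
      exact h3) n hn1 (by rw [← map_pow, hxn, map_one])
      (by
        show (Q.normalizerMonoidHom ξ) ^ (p ^ n) = 1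
        rw [← map_pow, hξ, map_one])
      ⟨⟨g, hgQ⟩, by
        intro h
        apply hg
        have h1 := congrArg (Subtype.val) h
        rw [hσ] at h1
        exact mul_inv_eq_iff_eq_mul.1 h1⟩ r
      (by
        have h := congrArg φ hr
        rw [map_pow, map_sub, map_one, map_zero] at h
        exact h) with h | h
  · exact Or.inl h
  · right
    obtain ⟨n₀, m, h1, h2, h3, h4, ⟨a, b, hab⟩, h6⟩ := h
    refine ⟨n₀, q, m, h1, h2, hq, h3, h4, ?_, h6⟩
    intro S hS
    obtain ⟨S₀, hS₀⟩ := hQ.exists_le_sylow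
    obtain ⟨z, hz⟩ := MulAction.exists_smul_eq H S S₀
    have hSc : ∀ u ∈ (S : Subgroup H), ∀ v ∈ (S : Subgroup H), u * v = v * u := by
      intro u hu v hv
      have := hS.is_comm.comm ⟨u, hu⟩ ⟨v, hv⟩
      exact congrArg Subtype.val this
    have hconj : ∀ u ∈ (S₀ : Subgroup H), z⁻¹ * u * z ∈ (S : Subgroup H) := by
      intro u hu
      rw [← hz, Sylow.coe_subgroup_smul] at hu
      obtain ⟨w, hw, rfl⟩ := hu
      show z⁻¹ * (z * w * z⁻¹) * z ∈ (S : Subgroup H)
      have h7 : z⁻¹ * (z * w * z⁻¹) * z = w := by group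
      rw [h7]; exact hw
    apply hab
    apply Subtype.ext
    have h7 := hSc _ (hconj a (hS₀ a.2)) _ (hconj b (hS₀ b.2))
    have h8 : z⁻¹ * ((a : H) * b) * z = z⁻¹ * ((b : H) * a) * z := by
      calc z⁻¹ * ((a : H) * b) * z = z⁻¹ * a * z * (z⁻¹ * b * z) := by group
        _ = z⁻¹ * b * z * (z⁻¹ * a * z) := h7
        _ = _ := by group
    exact mul_left_cancel (mul_right_cancel h8)

/-- Theorem B of Hall and Higman on the minimal polynomial of a p-element of order p^n in a p-solvable linear group on a nonzero vector space in characteristic p with no nontrivial normal p-subgroup: its degree is p^n, except when some p^n₀ - 1 (n₀ ≤ n) is a power of a prime q for which the Sylow q-subgroups are non-abelian, in which case the degree is at least p^(n-n₀)(p^n₀ - 1). -/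
theorem result {F : Type*} [Field F] {p : ℕ} [Fact p.Prime] [CharP F p] {V : Type*} [AddCommGroup V] [Module F V] [FiniteDimensional F V] [Nontrivial V] (H : Subgroup (V ≃ₗ[F] V)) [Finite H] (hsol : Cfsg.IsPSolvable p H) (hOp : Cfsg.pCore p H = ⊥) (x : V ≃ₗ[F] V) (hx : x ∈ H) (n : ℕ) (hn : orderOf x = p ^ n) (r : ℕ) (hr : minpoly F (x : Module.End F V) = (Polynomial.X - 1) ^ r) : r = p ^ n ∨ ∃ n₀ q m : ℕ, 1 ≤ n₀ ∧ n₀ ≤ n ∧ q.Prime ∧ 1 ≤ m ∧ p ^ n₀ - 1 = q ^ m ∧ (∀ Q : Sylow q H, ¬ IsMulCommutative Q) ∧ p ^ (n - n₀) * (p ^ n₀ - 1) ≤ r := by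
  have hnil : ((x : Module.End F V) - 1) ^ r = 0 := by
    have h1 := minpoly.aeval F (x : Module.End F V)
    rw [hr] at h1
    simpa using h1
  have hpow : ((x : Module.End F V)) ^ (p ^ n) = 1 := by
    have h1 : x ^ (p ^ n) = 1 := by rw [← hn, pow_orderOf_eq_one]
    have h2 := congrArg (LinearEquiv.automorphismGroup.toLinearMapMonoidHom (R := F) (M := V)) h1
    rw [map_pow, map_one] at h2
    exact h2
  have hle : r ≤ p ^ n := by
    have h1 : minpoly F (x : Module.End F V) ∣ (Polynomial.X - 1) ^ (p ^ n) := by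
      apply minpoly.dvd
      rw [sub_pow_char_pow]
      simp [hpow]
    rw [hr] at h1
    have h2 : (Polynomial.X - 1 : Polynomial F) ≠ 0 := by
      simpa using Polynomial.X_sub_C_ne_zero (1 : F)
    have h3 := Polynomial.natDegree_le_of_dvd h1 (pow_ne_zero _ h2)
    have h4 : (Polynomial.X - 1 : Polynomial F).natDegree = 1 := by
      simpa using Polynomial.natDegree_X_sub_C (1 : F)
    rwa [Polynomial.natDegree_pow, Polynomial.natDegree_pow, h4, mul_one, mul_one] at h3
  rcases Nat.eq_zero_or_pos n with h0 | h0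
  · left
    subst h0
    rw [pow_zero] at hle ⊢
    have : r ≠ 0 := by
      rintro rfl
      rw [pow_zero] at hnil
      exact one_ne_zero hnil
    omega
  · rcases bound H hsol hOp x hx n h0 hn r hnil with h | h
    · exact Or.inl (le_antisymm hle h)
    · exact Or.inr h

end Cfsg.Agent.S0633
end
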