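import Cfsg.Agent.H186.ExcWeyl
import Cfsg.Statements.S2655
import Cfsg.Agent.H189.ExcLift
set_option linter.all false

-- part: H186/ExcE7
section
/-!
# No block embeddings in `E₇` (helper186)

* `no_block7 : BlockEmb chevE7 K 2 7 → False`;
* `no_block5 : BlockEmb chevE7 K 3 5 → False`.
-/

set_option autoImplicit false

namespace Cfsg.Agent.H186

open Cfsg.Lie Cfsg.Agent.ChevalleyStructure Cfsg.Agent.ChevalleyStructure.Elts
  Cfsg.Agent.ChevalleyStructure.RootCombGood Cfsg.Agent.ChevalleyStructure.RootWord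
  Cfsg.Agent.ChevalleyStructure.RootComb Cfsg.Agent.ChevalleyStructure.NPerm Cfsg.Agent.H190 Equiv

universe u

theorem fix_mod {p : ℕ} [hp : Fact p.Prime] {α : Type*} [Fintype α] [DecidableEq α] {π : Perm α} (h : π ^ p = 1)
    (S : Finset α) (hS : ∀ r ∈ S, π r ∈ S) : S.card ≡ (S.filter fun r => π r = r).card [MOD p] := by
  let f : Function.End S := fun r => ⟨π r, hS r r.2⟩
  have h1 : ∀ (n : ℕ) (r : S), ((f ^ n) r : α) = (π ^ n) r := by
    intro n
    induction n with
    | zero => intro r; rfl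
    | succ n ih =>
      intro r
      rw [pow_succ, pow_succ]
      show ((f ^ n) (f r) : α) = (π ^ n) (π r)
      rw [ih]
  have h2 : f ^ p ^ 1 = 1 := by
    funext r
    apply Subtype.ext
    rw [h1, pow_one, h]
    rfl
  have h3 := Perm.card_fixedPoints_modEq h2
  rw [Fintype.card_coe] at h3
  have h4 : Fintype.card ↥(Function.fixedPoints f) = (S.filter fun r => π r = r).card := by
    rw [Fintype.card_subtype]
    refine Finset.card_bij (fun r _ => (r : α)) ?_ (fun a _ b _ h => Subtype.ext h) ?_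
    · intro r hr
      rw [Finset.mem_filter] at hr ⊢
      exact ⟨r.2, congrArg Subtype.val hr.2⟩
    · intro r hr
      rw [Finset.mem_filter] at hr
      refine ⟨⟨r, hr.1⟩, ?_, rfl⟩
      rw [Finset.mem_filter]
      exact ⟨Finset.mem_univ _, Subtype.ext hr.2⟩
  rw [h4] at h3
  exact h3

/-- a moved point of a permutation of prime order `p` has an orbit of `p` points -/
theorem orbit_card {p : ℕ} [hp : Fact p.Prime] {α : Type*} [DecidableEq α] {π : Perm α} (h : π ^ p = 1) {m : α}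
    (hm : π m ≠ m) : ((Finset.range p).image fun i => (π ^ i) m).card = p := by
  have h1 : Function.IsPeriodicPt π p m := by
    show (π)^[p] m = m
    rw [← Perm.coe_pow, h]
    rfl
  have h2 : Function.minimalPeriod π m = p := by
    rcases (Nat.dvd_prime hp.out).1 h1.minimalPeriod_dvd with h3 | h3
    · exact absurd (Function.minimalPeriod_eq_one_iff_isFixedPt.1 h3) hm
    · exact h3
  rw [Finset.card_image_of_injOn, Finset.card_range]
  intro i hi j hj hij
  have h3 := Function.iterate_injOn_Iio_minimalPeriod (f := π) (x := m)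
  rw [h2] at h3
  refine h3 (by simpa using hi) (by simpa using hj) ?_
  show (π)^[i] m = (π)^[j] m
  rw [← Perm.coe_pow, ← Perm.coe_pow]
  exact hij

/-! ### facts on the roots of `E₇` -/

theorem nonorth0 : ∀ m < chevE7.nroots, ∃ r < chevE7.nroots, chevE7.cartan 0 r ≠ 0 ∧ car chevE7 r m ≠ 0 := by
  decide +kernel

/-- two roots have a common non-orthogonal root -/
theorem nonorth (a m : Fin chevE7.nroots) : ∃ r : Fin chevE7.nroots, car chevE7 r a ≠ 0 ∧ car chevE7 r m ≠ 0 := by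
  obtain ⟨w, hw, hwa⟩ := exists_word0 a.2
  have hw' : ∀ b ∈ w.reverse, b < chevE7.rank := fun b hb => hw b (List.mem_reverse.1 hb)
  have hs0 : chevE7.simple 0 < chevE7.nroots := goodE7.simple_lt (by decide)
  have hm' := wact_lt goodE7 hw' m.2
  obtain ⟨r, hr, h1, h2⟩ := nonorth0 (wact chevE7 w.reverse m) hm'
  refine ⟨⟨wact chevE7 w r, wact_lt goodE7 hw hr⟩, ?_, ?_⟩
  · show car chevE7 (wact chevE7 w r) a ≠ 0
    rw [← hwa, car_wact goodE7 hw hr hs0, car_symm goodE7 slE7 hr hs0, car_simple goodE7 (by decide)]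
    exact h1
  · show car chevE7 (wact chevE7 w r) m ≠ 0
    rw [← wact_reverse' goodE7 hw m.2, car_wact goodE7 hw hr hm']
    exact h2

/-- every root has a non-proportional non-orthogonal root -/
theorem nonorth' (a : Fin chevE7.nroots) : ∃ r : Fin chevE7.nroots, car chevE7 r a ≠ 0 ∧ r ≠ a ∧ r ≠ negPerm goodE7 a := by
  obtain ⟨w, hw, hwa⟩ := exists_word0 a.2
  have hs0 : chevE7.simple 0 < chevE7.nroots := goodE7.simple_lt (by decide)
  have hs2 : chevE7.simple 2 < chevE7.nroots := goodE7.simple_lt (by decide)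
  refine ⟨⟨wact chevE7 w (chevE7.simple 2), wact_lt goodE7 hw hs2⟩, ?_, ?_, ?_⟩
  · show car chevE7 (wact chevE7 w (chevE7.simple 2)) a ≠ 0
    rw [← hwa, car_wact goodE7 hw hs2 hs0, car_simple goodE7 (by decide)]
    decide +kernel
  · intro h
    have h1 : wact chevE7 w (chevE7.simple 2) = a := congrArg Fin.val h
    rw [← hwa] at h1
    have h2 := wact_inj goodE7 hw hs2 hs0 h1
    exact absurd h2 (by decide +kernel)
  · intro h
    have h0 := congrArg Fin.val h
    rw [negPerm_apply] at h0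
    have h1 : wact chevE7 w (chevE7.simple 2) = chevE7.neg a := h0
    rw [← hwa, ← wact_neg goodE7 hw hs0] at h1
    have h2 := wact_inj goodE7 hw hs2 (neg_lt goodE7 hs0) h1
    exact absurd h2 (by decide +kernel)

theorem val_lin {D : ChevalleyDatum} {u m r : ℕ} {c : ℤ} (hu : ∀ j < D.rank, co D u j = co D m j - c * co D r j)
    (x : ℕ → ℤ) : val D x u = val D x m - c * val D x r := by
  unfold val
  rw [Finset.mul_sum, ← Finset.sum_sub_distrib]
  refine Finset.sum_congr rfl fun k hk => ?_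
  rw [hu k (Finset.mem_range.1 hk)]
  ring

theorem car_lin {D : ChevalleyDatum} {u m r : ℕ} {c : ℤ} (hu : ∀ j < D.rank, co D u j = co D m j - c * co D r j)
    (s : ℕ) : car D u s = car D m s - c * car D r s := by
  unfold car
  rw [Finset.mul_sum, ← Finset.sum_sub_distrib]
  refine Finset.sum_congr rfl fun k hk => ?_
  rw [hu k (Finset.mem_range.1 hk)]
  ring

theorem wgt_neg {D : ChevalleyDatum} (G : Good D) (ℓ : ℕ) {m : ℕ} (X : Fin m → ℕ → ℤ) (r : Fin D.nroots) :
    wgt D ℓ X (negPerm G r) = - wgt D ℓ X r := by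
  funext b
  show ((val D (X b) (D.neg r) : ℤ) : ZMod ℓ) = - ((val D (X b) r : ℤ) : ZMod ℓ)
  rw [val_neg G _ r.2]
  push_cast
  rfl

theorem negPerm_ne {D : ChevalleyDatum} (G : Good D) (r : Fin D.nroots) : negPerm G r ≠ r := fun h =>
  neg_ne G r.2 (congrArg Fin.val h)

/-! ### `ℓ = 5`, the group is not in the torus -/

theorem five_w {π : Perm (Fin chevE7.nroots)} (hW : IsW chevE7 π) (h5 : π ^ 5 = 1) {X : Fin 2 → ℕ → ℤ}
    (hinv : ∀ r, wgt chevE7 5 X (π r) = wgt chevE7 5 X r)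
    (h0 : (Finset.univ.filter fun r => wgt chevE7 5 X r = 0).card = 6)
    (hl : ∀ l0 : Fin 2 → ZMod 5, l0 ≠ 0 → (Finset.univ.filter fun r => wgt chevE7 5 X r = l0).card = 5) : π = 1 := by
  have : Fact (Nat.Prime 5) := ⟨by norm_num⟩
  -- the roots of weight zero are fixed
  have s1 : ∀ a, wgt chevE7 5 X a = 0 → π a = a := by
    set S := Finset.univ.filter fun r => wgt chevE7 5 X r = 0 with hS
    have h1 := fix_mod h5 S (fun r hr => by
      rw [hS, Finset.mem_filter] at hr ⊢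
      exact ⟨Finset.mem_univ _, (hinv r).trans hr.2⟩)
    rw [h0] at h1
    have hle : (S.filter fun r => π r = r).card ≤ 6 := h0 ▸ Finset.card_filter_le _ _
    have hne : (S.filter fun r => π r = r).card ≠ 1 := by
      intro hc
      obtain ⟨a, ha⟩ := Finset.card_eq_one.1 hc
      have ha' : a ∈ (S.filter fun r => π r = r) := by rw [ha]; exact Finset.mem_singleton_self a
      rw [Finset.mem_filter, hS, Finset.mem_filter] at ha'
      have hn : negPerm goodE7 a ∈ (S.filter fun r => π r = r) := by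
        rw [Finset.mem_filter, hS, Finset.mem_filter]
        refine ⟨⟨Finset.mem_univ _, ?_⟩, ?_⟩
        · rw [wgt_neg, ha'.1.2, neg_zero]
        · rw [hW.neg goodE7, ha'.2]
      rw [ha, Finset.mem_singleton] at hn
      exact negPerm_ne goodE7 a hn
    have h6 : (S.filter fun r => π r = r).card = 6 := by
      have h2 : 6 % 5 = (S.filter fun r => π r = r).card % 5 := h1
      omega
    have h7 : (S.filter fun r => π r = r) = S := Finset.eq_of_subset_of_card_le (Finset.filter_subset _ _) (by rw [h6, h0])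
    intro a ha
    have h8 : a ∈ (S.filter fun r => π r = r) := by
      rw [h7, hS, Finset.mem_filter]
      exact ⟨Finset.mem_univ _, ha⟩
    exact (Finset.mem_filter.1 h8).2
  -- moved roots are orthogonal to the roots of weight zero
  have s2 : ∀ m, π m ≠ m → ∀ a, wgt chevE7 5 X a = 0 → car chevE7 m a = 0 := by
    intro m hm a ha
    have hml : wgt chevE7 5 X m ≠ 0 := fun h => hm (s1 m h)
    obtain ⟨u, hu, hu1, -⟩ := exists_reflection goodE7 a.2 m m.2
    have huw : wgt chevE7 5 X ⟨u, hu⟩ = wgt chevE7 5 X m := by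
      funext b
      have h1 := congrFun ha b
      change ((val chevE7 (X b) a : ℤ) : ZMod 5) = 0 at h1
      show ((val chevE7 (X b) u : ℤ) : ZMod 5) = ((val chevE7 (X b) m : ℤ) : ZMod 5)
      rw [val_lin hu1, Int.cast_sub, Int.cast_mul, h1, mul_zero, sub_zero]
    set C := Finset.univ.filter fun r => wgt chevE7 5 X r = wgt chevE7 5 X m with hC
    have hpow : ∀ i : ℕ, ∀ r, wgt chevE7 5 X ((π ^ i) r) = wgt chevE7 5 X r := by
      intro i
      induction i with
      | zero => intro r; rfl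
      | succ i ih =>
        intro r
        rw [pow_succ]
        show wgt chevE7 5 X ((π ^ i) (π r)) = _
        rw [ih, hinv]
    have hsub : (Finset.range 5).image (fun i => (π ^ i) m) ⊆ C := by
      intro r hr
      rw [Finset.mem_image] at hr
      obtain ⟨i, -, rfl⟩ := hr
      rw [hC, Finset.mem_filter]
      exact ⟨Finset.mem_univ _, hpow i m⟩
    have heq := Finset.eq_of_subset_of_card_le hsub (by rw [hl _ hml, orbit_card h5 hm])
    have humem : (⟨u, hu⟩ : Fin chevE7.nroots) ∈ C := by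
      rw [hC, Finset.mem_filter]
      exact ⟨Finset.mem_univ _, huw⟩
    rw [← heq, Finset.mem_image] at humem
    obtain ⟨i, -, hi⟩ := humem
    have hai : (π ^ i) a = a := by
      clear hi
      induction i with
      | zero => rfl
      | succ i ih =>
        rw [pow_succ]
        show (π ^ i) (π a) = a
        rw [s1 a ha, ih]
    have h2 := (hW.pow i).car goodE7 m a
    rw [hi, hai] at h2
    have h3 := car_lin hu1 a
    rw [goodE7.car_self a.2] at h3
    have h4 : car chevE7 u a = car chevE7 m a := h2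
    omega
  -- all roots are fixed
  by_contra hne
  have hex : ∃ m, π m ≠ m := by
    by_contra hcon
    push Not at hcon
    exact hne (Equiv.ext hcon)
  obtain ⟨m, hm⟩ := hex
  have hnon : (Finset.univ.filter fun r => wgt chevE7 5 X r = 0).Nonempty := by
    rw [← Finset.card_pos, h0]
    norm_num
  obtain ⟨a, ha⟩ := hnon
  rw [Finset.mem_filter] at ha
  obtain ⟨r, hr1, hr2⟩ := nonorth a m
  have hrf : π r = r := by
    by_contra h
    exact hr1 (s2 r h a ha.2)
  obtain ⟨u, hu, hu1, -⟩ := exists_reflection goodE7 r.2 m m.2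
  have hmr : car chevE7 m r ≠ 0 := by
    rw [car_symm goodE7 slE7 m.2 r.2]
    exact hr2
  have hum : π ⟨u, hu⟩ ≠ ⟨u, hu⟩ := by
    intro h
    apply hm
    apply Fin.ext
    apply goodE7.co_inj (π m).2 m.2
    intro j hj
    have h1 := hW.lin goodE7 (u := ⟨u, hu⟩) (m := m) (r := r) hu1 hj
    rw [h, hrf, hu1 j hj] at h1
    omega
  have h1 := s2 ⟨u, hu⟩ hum a ha.2
  have h2 := s2 m hm a ha.2
  have h3 := car_lin hu1 a
  have h4 : car chevE7 u a = 0 := h1
  rw [h4, h2, zero_sub, zero_eq_neg, mul_eq_zero] at h3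
  rcases h3 with h3 | h3
  · exact hmr h3
  · exact hr1 h3

end Cfsg.Agent.H186
end

-- part: H186/ExcE7b
section
/-!
# No block embeddings in `E₇`: conclusion (helper186)

* `no_block7 : BlockEmb chevE7 K 2 7 → False`;
* `no_block5 : BlockEmb chevE7 K 3 5 → False`.
-/

set_option autoImplicit false

namespace Cfsg.Agent.H186

open Cfsg.Lie Cfsg.Agent.ChevalleyStructure Cfsg.Agent.ChevalleyStructure.Elts
  Cfsg.Agent.ChevalleyStructure.RootCombGood Cfsg.Agent.ChevalleyStructure.RootWord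
  Cfsg.Agent.ChevalleyStructure.RootComb Cfsg.Agent.ChevalleyStructure.NPerm Cfsg.Agent.H190 Equiv

universe u

theorem exists_root {K : Type u} [Field K] [Fintype K] {ℓ : ℕ} (hl : ℓ ∣ Fintype.card K - 1) :
    ∃ ζ : K, IsPrimitiveRoot ζ ℓ := by
  classical
  obtain ⟨g, hg⟩ := IsCyclic.exists_ofOrder_eq_natCard (α := Kˣ)
  rw [Nat.card_eq_fintype_card, Fintype.card_units] at hg
  obtain ⟨m, hm⟩ := hl
  have h1 : IsPrimitiveRoot g (Fintype.card K - 1) := hg ▸ IsPrimitiveRoot.orderOf g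
  have hpos : 0 < Fintype.card K - 1 := by
    have := Fintype.one_lt_card (α := K)
    omega
  have h2 : IsPrimitiveRoot (g ^ m) ℓ := h1.pow hpos (by rw [hm]; ring)
  exact ⟨((g ^ m : Kˣ) : K), IsPrimitiveRoot.coe_units_iff.2 h2⟩

section Hom

variable {D : ChevalleyDatum} {K : Type u} [Field K] {k ℓ : ℕ} [NeZero ℓ]

/-- the action on the roots -/
noncomputable def BlockEmb.chi (be : BlockEmb D K k ℓ) (hD : InList D) :
    Multiplicative (Fin k → ZMod ℓ) →* Perm (Fin D.nroots) :=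
  (permHom hD K).comp (be.σ.codRestrict _ be.mem)

theorem BlockEmb.mem_ker (be : BlockEmb D K k ℓ) (hD : InList D) (v : Multiplicative (Fin k → ZMod ℓ)) :
    v ∈ (be.chi hD).ker ↔ be.σ v ∈ D.diagonalSubgroup K := by
  have h := ker_permHom hD K
  have h1 : v ∈ (be.chi hD).ker ↔ (⟨be.σ v, be.mem v⟩ : ↥(D.monomialSubgroup K)) ∈ (permHom hD K).ker := Iff.rfl
  rw [h1, h]
  exact Iff.rfl

theorem BlockEmb.chi_range (be : BlockEmb D K k ℓ) (hD : InList D) (v : Multiplicative (Fin k → ZMod ℓ)) :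
    be.chi hD v ∈ (permHom hD K).range := ⟨_, rfl⟩

theorem BlockEmb.index_dvd (be : BlockEmb D K k ℓ) (hD : InList D) :
    (be.chi hD).ker.index ∣ Nat.card (permHom hD K).range := by
  rw [Subgroup.index_ker]
  apply Subgroup.card_dvd_of_le
  rintro _ ⟨v, rfl⟩
  exact be.chi_range hD v

theorem BlockEmb.index_dvd' (be : BlockEmb D K k ℓ) (hD : InList D) : (be.chi hD).ker.index ∣ ℓ ^ k := by
  have h := (be.chi hD).ker.index_dvd_card
  have h2 : Nat.card (Multiplicative (Fin k → ZMod ℓ)) = ℓ ^ k := by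
    rw [Nat.card_congr Multiplicative.toAdd, Nat.card_eq_fintype_card, Fintype.card_fun, ZMod.card, Fintype.card_fin]
  rwa [h2] at h

theorem BlockEmb.chi_pow (be : BlockEmb D K k ℓ) (hD : InList D) (v : Multiplicative (Fin k → ZMod ℓ)) :
    be.chi hD v ^ ℓ = 1 := by
  rw [← map_pow]
  have : v ^ ℓ = 1 := by
    apply Multiplicative.toAdd.injective
    rw [toAdd_pow, toAdd_one]
    funext i
    rw [Pi.smul_apply, Pi.zero_apply, nsmul_eq_mul, ZMod.natCast_self, zero_mul]
  rw [this, map_one]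

/-- the permutations preserve the weights -/
theorem BlockEmb.wgt_inv {m : ℕ} (be : BlockEmb D K k ℓ) (hD : InList D) {ζ : K} (hζ : IsPrimitiveRoot ζ ℓ)
    {u : Fin m → Fin k → ZMod ℓ} {X : Fin m → ℕ → ℤ}
    (hX : ∀ c, be.σ (Multiplicative.ofAdd (comb u c)) ∈ D.diagonalSubgroup K ∧
      ∀ r, ent (be.σ (Multiplicative.ofAdd (comb u c))) r = zE ζ (c ⬝ᵥ wgt D ℓ X r))
    (v : Multiplicative (Fin k → ZMod ℓ)) (r : Fin D.nroots) :
    wgt D ℓ X (be.chi hD v r) = wgt D ℓ X r := by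
  funext b
  obtain ⟨h1, h2⟩ := hX (Pi.single b 1)
  have hcomm : be.σ v * be.σ (Multiplicative.ofAdd (comb u (Pi.single b 1))) * (be.σ v)⁻¹ =
      be.σ (Multiplicative.ofAdd (comb u (Pi.single b 1))) := by
    rw [← map_mul, mul_comm v, map_mul, mul_inv_cancel_right]
  have h3 := ent_perm hD ⟨be.σ v, be.mem v⟩ h1 hcomm r
  have h4 : ent (be.σ (Multiplicative.ofAdd (comb u (Pi.single b 1)))) (be.chi hD v r) =
      ent (be.σ (Multiplicative.ofAdd (comb u (Pi.single b 1)))) r := h3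
  rw [h2, h2] at h4
  have h5 := zE_injective hζ h4
  rwa [single_dotProduct, single_dotProduct, one_mul, one_mul] at h5

end Hom

theorem sum_Mct {D : ChevalleyDatum} {ℓ m : ℕ} [NeZero ℓ] (X : Fin m → ℕ → ℤ) (c : Fin m → ZMod ℓ) :
    ∑ j, Mct D X c j = D.nroots := by
  unfold Mct
  simp_rw [Finset.card_filter]
  rw [Finset.sum_comm]
  simp

theorem Mct_total {D : ChevalleyDatum} {ℓ m : ℕ} [NeZero ℓ] {X : Fin m → ℕ → ℤ} {c : Fin m → ZMod ℓ} {μ : ℕ}
    (h : ∀ j, j ≠ 0 → Mct D X c j = μ) : Mct D X c 0 + (ℓ - 1) * μ = D.nroots := by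
  classical
  rw [← sum_Mct X c, ← Finset.add_sum_erase _ _ (Finset.mem_univ (0 : ZMod ℓ)), Finset.sum_congr rfl
    (fun j hj => h j (Finset.ne_of_mem_erase hj)), Finset.sum_const, Finset.card_erase_of_mem (Finset.mem_univ _),
    Finset.card_univ, ZMod.card, smul_eq_mul]

/-- the inversion formula in terms of `Mct` -/
theorem Mct_inversion {D : ChevalleyDatum} {ℓ m : ℕ} [NeZero ℓ] [Fact ℓ.Prime] (X : Fin m → ℕ → ℤ)
    (l0 : Fin m → ZMod ℓ) : ℓ * ∑ v : Fin m → ZMod ℓ, Mct D X v (v ⬝ᵥ l0) =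
      ℓ ^ m * (D.nroots + (ℓ - 1) * (Finset.univ.filter fun r => wgt D ℓ X r = l0).card) := by
  have h := inversion (wgt D ℓ X) l0
  rw [Fintype.card_fin] at h
  exact h

/-! ### `ℓ = 5` -/

theorem inv5 {m : ℕ} {X : Fin m → ℕ → ℤ}
    (h : ∀ c : Fin m → ZMod 5, c ≠ 0 → Mct chevE7 X c 0 = 26 ∧ ∀ j, j ≠ 0 → Mct chevE7 X c j = 25) (l0 : Fin m → ZMod 5) :
    5 * (25 * 5 ^ m + (Finset.univ.filter fun v : Fin m → ZMod 5 => v ⬝ᵥ l0 = 0).card + 100) =
      5 ^ m * (126 + 4 * (Finset.univ.filter fun r => wgt chevE7 5 X r = l0).card) := by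
  classical
  have : Fact (Nat.Prime 5) := ⟨by norm_num⟩
  have h1 : 5 * ∑ v : Fin m → ZMod 5, Mct chevE7 X v (v ⬝ᵥ l0) =
      5 ^ m * (126 + 4 * (Finset.univ.filter fun r => wgt chevE7 5 X r = l0).card) := Mct_inversion (D := chevE7) X l0
  rw [← h1]
  congr 1
  have h2 : ∀ v : Fin m → ZMod 5, Mct chevE7 X v (v ⬝ᵥ l0) = 25 + (if v ⬝ᵥ l0 = 0 then 1 else 0) + (if v = 0 then 100 else 0) := by
    intro v
    by_cases hv : v = 0
    · subst hv
      rw [zero_dotProduct, Mct_zero, if_pos rfl, if_pos rfl]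
      rfl
    · rw [if_neg hv]
      by_cases h0 : v ⬝ᵥ l0 = 0
      · rw [h0, if_pos rfl, (h v hv).1]
      · rw [if_neg h0, (h v hv).2 _ h0]
  simp_rw [h2]
  rw [Finset.sum_add_distrib, Finset.sum_add_distrib, Finset.sum_const, Finset.card_univ, Fintype.card_fun, ZMod.card,
    Fintype.card_fin, ← Finset.card_filter, Finset.sum_ite_eq', if_pos (Finset.mem_univ _), smul_eq_mul, mul_comm 25]

theorem inE7 : InList chevE7 := by simp [InList]

/-- rational elements of order 5: the numbers of roots -/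
theorem data5 {K : Type u} [Field K] {m : ℕ} (be : BlockEmb chevE7 K 3 5) {ζ : K} (hζ : IsPrimitiveRoot ζ 5)
    {u : Fin m → Fin 3 → ZMod 5} {X : Fin m → ℕ → ℤ}
    (hX : ∀ c, be.σ (Multiplicative.ofAdd (comb u c)) ∈ chevE7.diagonalSubgroup K ∧
      ∀ r, ent (be.σ (Multiplicative.ofAdd (comb u c))) r = zE ζ (c ⬝ᵥ wgt chevE7 5 X r))
    (hu : ∀ c, comb u c = 0 → c = 0) :
    ∀ c : Fin m → ZMod 5, c ≠ 0 → Mct chevE7 X c 0 = 26 ∧ ∀ j, j ≠ 0 → Mct chevE7 X c j = 25 := by
  have : Fact (Nat.Prime 5) := ⟨by norm_num⟩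
  intro c hc
  have h1 : ∀ j, j ≠ 0 → Mct chevE7 X c j = Mct chevE7 X c 1 := fun j hj =>
    Mct_rational inE7 be hζ hX c hj one_ne_zero
  have h2 := class5 (cvec X c) (μ := Mct chevE7 X c 1) (fun a ha => by rw [← Mct_eq_N1]; exact h1 a ha)
  rw [← Mct_eq_N1] at h2
  have h3 := Mct_total h1
  have e : chevE7.nroots = 126 := rfl
  have h4 : Mct chevE7 X c 0 ≠ 126 := fun h => hc (hu c (Mct_eq_all inE7 be hX c h))
  simp only [List.mem_cons, List.not_mem_nil, or_false] at h2
  have h5 : Mct chevE7 X c 0 = 26 := by omega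
  refine ⟨h5, fun j hj => ?_⟩
  rw [h1 j hj]
  omega

theorem comb_single {k ℓ : ℕ} [NeZero ℓ] (c : Fin k → ZMod ℓ) : comb (fun b : Fin k => (Pi.single b 1 : Fin k → ZMod ℓ)) c = c := by
  unfold comb
  funext i
  rw [Finset.sum_apply]
  simp [Pi.single_apply]

theorem no_block5 {K : Type u} [Field K] [Fintype K] (hK : 5 ∣ Fintype.card K - 1) (be : BlockEmb chevE7 K 3 5) : False := by
  classical
  have : Fact (Nat.Prime 5) := ⟨by norm_num⟩
  obtain ⟨ζ, hζ⟩ := exists_root hK
  have hidx : (be.chi inE7).ker.index ∣ 5 := by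
    have h1 := be.index_dvd inE7
    rw [card_range_E7] at h1
    have h2 := be.index_dvd' inE7
    exact (Nat.dvd_gcd h2 h1).trans (by norm_num)
  rcases (Nat.dvd_prime (by norm_num : Nat.Prime 5)).1 hidx with h | h
  · -- in the torus
    rw [Subgroup.index_eq_one] at h
    obtain ⟨X, hX⟩ := exists_weights inE7 slE7 be hζ (fun b : Fin 3 => (Pi.single b 1 : Fin 3 → ZMod 5)) (fun b => by
      rw [← be.mem_ker inE7, h]; trivial)
    have hd := data5 be hζ hX (fun c hc => by rwa [comb_single] at hc)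
    have n0 : (Finset.univ.filter fun r => wgt chevE7 5 X r = 0).card = 2 := by
      have h1 := inv5 hd 0
      have h2 : (Finset.univ.filter fun v : Fin 3 → ZMod 5 => v ⬝ᵥ 0 = 0).card = 125 := by
        rw [Finset.filter_true_of_mem (fun v _ => dotProduct_zero v), Finset.card_univ, Fintype.card_fun, ZMod.card,
          Fintype.card_fin]
        norm_num
      rw [h2] at h1
      omega
    have n1 : ∀ l0 : Fin 3 → ZMod 5, l0 ≠ 0 → (Finset.univ.filter fun r => wgt chevE7 5 X r = l0).card = 1 := by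
      intro l0 hl0
      have h1 := inv5 hd l0
      have h2 := card_dot_eq_zero (m := 3) (ℓ := 5) hl0
      omega
    have hnon : (Finset.univ.filter fun r => wgt chevE7 5 X r = 0).Nonempty := by
      rw [← Finset.card_pos, n0]
      norm_num
    obtain ⟨a, ha⟩ := hnon
    have ha' := (Finset.mem_filter.1 ha).2
    obtain ⟨r, hr1, hr2, hr3⟩ := nonorth' a
    obtain ⟨v, hv, hv1, -⟩ := exists_reflection goodE7 a.2 r r.2
    have hvw : wgt chevE7 5 X ⟨v, hv⟩ = wgt chevE7 5 X r := by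
      funext b
      have h1 := congrFun ha' b
      change ((val chevE7 (X b) a : ℤ) : ZMod 5) = 0 at h1
      show ((val chevE7 (X b) v : ℤ) : ZMod 5) = ((val chevE7 (X b) r : ℤ) : ZMod 5)
      rw [val_lin hv1, Int.cast_sub, Int.cast_mul, h1, mul_zero, sub_zero]
    have hne : (⟨v, hv⟩ : Fin chevE7.nroots) ≠ r := by
      intro h'
      obtain ⟨j, hj, hj0⟩ := goodE7.co_ne_zero a.2
      have h1 := hv1 j hj
      have h2 : v = r := congrArg Fin.val h'
      rw [h2] at h1
      have h3 : car chevE7 r a * co chevE7 a j = 0 := by omega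
      rcases mul_eq_zero.1 h3 with h4 | h4
      · exact hr1 h4
      · exact hj0 h4
    by_cases hr0 : wgt chevE7 5 X r = 0
    · have hsub : ({a, negPerm goodE7 a, r} : Finset (Fin chevE7.nroots)) ⊆
          Finset.univ.filter fun r => wgt chevE7 5 X r = 0 := by
        intro s hs
        rw [Finset.mem_insert, Finset.mem_insert, Finset.mem_singleton] at hs
        rw [Finset.mem_filter]
        refine ⟨Finset.mem_univ _, ?_⟩
        rcases hs with rfl | rfl | rfl
        · exact ha'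
        · rw [wgt_neg, ha', neg_zero]
        · exact hr0
      have h1 := Finset.card_le_card hsub
      rw [n0, Finset.card_eq_three.2 ⟨a, negPerm goodE7 a, r, (negPerm_ne goodE7 a).symm, hr2.symm, hr3.symm, rfl⟩] at h1
      omega
    · obtain ⟨s, hs⟩ := Finset.card_eq_one.1 (n1 _ hr0)
      have h1 : r ∈ (Finset.univ.filter fun r' => wgt chevE7 5 X r' = wgt chevE7 5 X r) :=
        Finset.mem_filter.2 ⟨Finset.mem_univ _, rfl⟩
      have h2 : (⟨v, hv⟩ : Fin chevE7.nroots) ∈ (Finset.univ.filter fun r' => wgt chevE7 5 X r' = wgt chevE7 5 X r) :=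
        Finset.mem_filter.2 ⟨Finset.mem_univ _, hvw⟩
      rw [hs, Finset.mem_singleton] at h1 h2
      exact hne (h2.trans h1.symm)
  · -- not in the torus
    have hcard : Nat.card (be.chi inE7).ker = 25 := by
      have h1 := (be.chi inE7).ker.card_mul_index
      rw [h, Nat.card_congr Multiplicative.toAdd, Nat.card_eq_fintype_card (α := Fin 3 → ZMod 5), Fintype.card_fun,
        ZMod.card, Fintype.card_fin] at h1
      omega
    -- an element outside
    have hex : ∃ v3, v3 ∉ (be.chi inE7).ker := by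
      by_contra hcon
      push Not at hcon
      have : (be.chi inE7).ker = ⊤ := by
        rw [eq_top_iff]
        intro v _
        exact hcon v
      rw [this, Subgroup.index_top] at h
      omega
    obtain ⟨v3, hv3⟩ := hex
    -- a basis of the kernel
    have hex1 : ∃ u1 ∈ (be.chi inE7).ker, u1 ≠ 1 := by
      by_contra hcon
      push Not at hcon
      have : (be.chi inE7).ker = ⊥ := by
        rw [eq_bot_iff]
        intro v hv
        exact Subgroup.mem_bot.2 (hcon v hv)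
      rw [this, Subgroup.card_bot] at hcard
      omega
    obtain ⟨u1, hu1, hu1n⟩ := hex1
    have hord : ∀ v : Multiplicative (Fin 3 → ZMod 5), v ^ 5 = 1 := by
      intro v
      apply Multiplicative.toAdd.injective
      rw [toAdd_pow, toAdd_one]
      funext i
      rw [Pi.smul_apply, Pi.zero_apply, nsmul_eq_mul]
      have : ((5 : ℕ) : ZMod 5) = 0 := ZMod.natCast_self 5
      rw [this, zero_mul]
    have hex2 : ∃ u2 ∈ (be.chi inE7).ker, u2 ∉ Subgroup.zpowers u1 := by
      by_contra hcon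
      push Not at hcon
      have hle : (be.chi inE7).ker ≤ Subgroup.zpowers u1 := hcon
      have h1 := Subgroup.card_le_of_le hle
      rw [Nat.card_zpowers, hcard] at h1
      have h2 := Nat.le_of_dvd (by norm_num) (orderOf_dvd_of_pow_eq_one (hord u1))
      omega
    obtain ⟨u2, hu2, hu2n⟩ := hex2
    let u : Fin 2 → Fin 3 → ZMod 5 := ![u1.toAdd, u2.toAdd]
    obtain ⟨X, hX⟩ := exists_weights inE7 slE7 be hζ u (fun b => by
      rw [← be.mem_ker inE7]
      fin_cases b
      · exact hu1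
      · exact hu2)
    have hind : ∀ c, comb u c = 0 → c = 0 := by
      intro c hc
      have h1 : c 0 • u1.toAdd + c 1 • u2.toAdd = 0 := by
        rw [← hc]
        unfold comb
        rw [Fin.sum_univ_two]
        rfl
      by_cases h2 : c 1 = 0
      · rw [h2, zero_smul, add_zero] at h1
        have h3 : c 0 = 0 := by
          by_contra h4
          apply hu1n
          apply Multiplicative.toAdd.injective
          rw [toAdd_one]
          rcases smul_eq_zero.1 h1 with h5 | h5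
          · exact absurd h5 h4
          · exact h5
        funext b
        fin_cases b
        · exact h3
        · exact h2
      · exfalso
        apply hu2n
        rw [Subgroup.mem_zpowers_iff]
        refine ⟨((-(c 0) / c 1).val : ℤ), ?_⟩
        apply Multiplicative.toAdd.injective
        rw [toAdd_zpow, natCast_zsmul]
        have h3 : u2.toAdd = (-(c 0) / c 1) • u1.toAdd := by
          have h4 : c 1 • u2.toAdd = -(c 0) • u1.toAdd := by
            rw [neg_smul]
            exact eq_neg_of_add_eq_zero_right h1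
          rw [div_eq_inv_mul, mul_smul, ← h4, smul_smul, inv_mul_cancel₀ h2, one_smul]
        rw [h3]
        funext i
        rw [Pi.smul_apply, Pi.smul_apply, nsmul_eq_mul, ZMod.natCast_zmod_val, smul_eq_mul]
    have hd := data5 be hζ hX hind
    have n0 : (Finset.univ.filter fun r => wgt chevE7 5 X r = 0).card = 6 := by
      have h1 := inv5 hd 0
      have h2 : (Finset.univ.filter fun v : Fin 2 → ZMod 5 => v ⬝ᵥ 0 = 0).card = 25 := by
        rw [Finset.filter_true_of_mem (fun v _ => dotProduct_zero v), Finset.card_univ, Fintype.card_fun, ZMod.card,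
          Fintype.card_fin]
        norm_num
      rw [h2] at h1
      omega
    have n1 : ∀ l0 : Fin 2 → ZMod 5, l0 ≠ 0 → (Finset.univ.filter fun r => wgt chevE7 5 X r = l0).card = 5 := by
      intro l0 hl0
      have h1 := inv5 hd l0
      have h2 := card_dot_eq_zero (m := 2) (ℓ := 5) hl0
      omega
    exact hv3 (five_w (isW_permHom inE7 _) (be.chi_pow inE7 v3) (be.wgt_inv inE7 hζ hX v3) n0 n1)

/-! ### `ℓ = 7` -/

theorem cnt7_0 : (Finset.univ.filter fun v : Fin 2 → ZMod 7 => (v ≠ 0 ∧ (v 0 = 0 ∨ v 1 = 0)) ∧ v ⬝ᵥ (0 : Fin 2 → ZMod 7) = 0).card = 12 ∧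
    (Finset.univ.filter fun v : Fin 2 → ZMod 7 => (v ≠ 0 ∧ (v 0 = 0 ∨ v 1 = 0)) ∧ v ⬝ᵥ (0 : Fin 2 → ZMod 7) ≠ 0).card = 0 ∧
    (Finset.univ.filter fun v : Fin 2 → ZMod 7 => (v 0 ≠ 0 ∧ v 1 ≠ 0) ∧ v ⬝ᵥ (0 : Fin 2 → ZMod 7) = 0).card = 36 ∧
    (Finset.univ.filter fun v : Fin 2 → ZMod 7 => (v 0 ≠ 0 ∧ v 1 ≠ 0) ∧ v ⬝ᵥ (0 : Fin 2 → ZMod 7) ≠ 0).card = 0 := by
  decide +kernel

theorem cnt7_1 : ∀ l0 : Fin 2 → ZMod 7, (l0 0 = 0 ∧ l0 1 ≠ 0) ∨ (l0 0 = 1 ∧ l0 1 = 0) →
    (Finset.univ.filter fun v : Fin 2 → ZMod 7 => (v ≠ 0 ∧ (v 0 = 0 ∨ v 1 = 0)) ∧ v ⬝ᵥ l0 = 0).card = 6 ∧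
    (Finset.univ.filter fun v : Fin 2 → ZMod 7 => (v ≠ 0 ∧ (v 0 = 0 ∨ v 1 = 0)) ∧ v ⬝ᵥ l0 ≠ 0).card = 6 ∧
    (Finset.univ.filter fun v : Fin 2 → ZMod 7 => (v 0 ≠ 0 ∧ v 1 ≠ 0) ∧ v ⬝ᵥ l0 = 0).card = 0 ∧
    (Finset.univ.filter fun v : Fin 2 → ZMod 7 => (v 0 ≠ 0 ∧ v 1 ≠ 0) ∧ v ⬝ᵥ l0 ≠ 0).card = 36 := by
  decide +kernel

theorem cnt7_2 : ∀ l0 : Fin 2 → ZMod 7, (l0 0 = 1 ∧ l0 1 ≠ 0) →
    (Finset.univ.filter fun v : Fin 2 → ZMod 7 => (v ≠ 0 ∧ (v 0 = 0 ∨ v 1 = 0)) ∧ v ⬝ᵥ l0 = 0).card = 0 ∧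
    (Finset.univ.filter fun v : Fin 2 → ZMod 7 => (v ≠ 0 ∧ (v 0 = 0 ∨ v 1 = 0)) ∧ v ⬝ᵥ l0 ≠ 0).card = 12 ∧
    (Finset.univ.filter fun v : Fin 2 → ZMod 7 => (v 0 ≠ 0 ∧ v 1 ≠ 0) ∧ v ⬝ᵥ l0 = 0).card = 6 ∧
    (Finset.univ.filter fun v : Fin 2 → ZMod 7 => (v 0 ≠ 0 ∧ v 1 ≠ 0) ∧ v ⬝ᵥ l0 ≠ 0).card = 30 := by
  decide +kernel

theorem ne10 : (![1, 0] : Fin 2 → ZMod 7) ≠ 0 := by decide
theorem ne11 : (![1, 1] : Fin 2 → ZMod 7) ≠ 0 := by decide
theorem eq00 : (![0, 0] : Fin 2 → ZMod 7) = 0 := by decide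

theorem no_block7 {K : Type u} [Field K] [Fintype K] (hK : 7 ∣ Fintype.card K - 1) (be : BlockEmb chevE7 K 2 7) : False := by
  have : Fact (Nat.Prime 7) := ⟨by norm_num⟩
  obtain ⟨ζ, hζ⟩ := exists_root hK
  have e : chevE7.nroots = 126 := rfl
  have hidx : (be.chi inE7).ker.index ∣ 7 := by
    have h1 := be.index_dvd inE7
    rw [card_range_E7] at h1
    have h2 := be.index_dvd' inE7
    exact (Nat.dvd_gcd h2 h1).trans (by norm_num)
  have hcl : ∀ {m : ℕ} {u : Fin m → Fin 2 → ZMod 7} {X : Fin m → ℕ → ℤ}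
      (hX : ∀ c, be.σ (Multiplicative.ofAdd (comb u c)) ∈ chevE7.diagonalSubgroup K ∧
        ∀ r, ent (be.σ (Multiplicative.ofAdd (comb u c))) r = zE ζ (c ⬝ᵥ wgt chevE7 7 X r)) (c : Fin m → ZMod 7),
      comb u c ≠ 0 → (Mct chevE7 X c 0 = 12 ∧ ∀ j, j ≠ 0 → Mct chevE7 X c j = 19) ∨
        (Mct chevE7 X c 0 = 24 ∧ ∀ j, j ≠ 0 → Mct chevE7 X c j = 17) ∨
        (Mct chevE7 X c 0 = 30 ∧ ∀ j, j ≠ 0 → Mct chevE7 X c j = 16) := by
    intro m u X hX c hc
    have h1 : ∀ j, j ≠ 0 → Mct chevE7 X c j = Mct chevE7 X c 1 := fun j hj =>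
      Mct_rational inE7 be hζ hX c hj one_ne_zero
    have h2 := class7 (cvec X c) (μ := Mct chevE7 X c 1) (fun a ha => by rw [← Mct_eq_N1]; exact h1 a ha)
    rw [← Mct_eq_N1] at h2
    have h3 := Mct_total h1
    have h4 : Mct chevE7 X c 0 ≠ 126 := fun h => hc (Mct_eq_all inE7 be hX c h)
    simp only [List.mem_cons, List.not_mem_nil, or_false] at h2
    rcases h2 with h5 | h5 | h5 | h5
    · exact Or.inl ⟨h5, fun j hj => by rw [h1 j hj]; omega⟩
    · exact Or.inr (Or.inl ⟨h5, fun j hj => by rw [h1 j hj]; omega⟩)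
    · exact Or.inr (Or.inr ⟨h5, fun j hj => by rw [h1 j hj]; omega⟩)
    · exact absurd h5 h4
  rcases (Nat.dvd_prime (by norm_num : Nat.Prime 7)).1 hidx with h | h
  · -- in the torus
    rw [Subgroup.index_eq_one] at h
    obtain ⟨X, hX⟩ := exists_weights inE7 slE7 be hζ (fun b : Fin 2 => (Pi.single b 1 : Fin 2 → ZMod 7)) (fun b => by
      rw [← be.mem_ker inE7, h]; trivial)
    -- the two types
    have t1 : ∀ c : Fin 2 → ZMod 7, c ≠ 0 → (c 0 = 0 ∨ c 1 = 0) → ∀ j, Mct chevE7 X c j = Mct chevE7 X (![1, 0] : Fin 2 → ZMod 7) j := by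
      intro c hc h01 j
      have hswap : ∀ c' : Fin 2 → ZMod 7, c' 0 = 0 → c' 1 ≠ 0 → ∀ j, Mct chevE7 X c' j = Mct chevE7 X ![c' 1, 0] j := by
        intro c' h0 h1 j
        refine Mct_conj inE7 be hζ hX (ρ := blk 2 7 (Equiv.swap 0 1)) ?_ j
        rw [comb_single, comb_single, blk_conj]
        congr 1
        funext b
        fin_cases b
        · rfl
        · show c' ((Equiv.swap 0 1).symm 1) = _
          rw [Equiv.symm_swap, Equiv.swap_apply_right, h0]
          rfl
      have hscale : ∀ a : ZMod 7, a ≠ 0 → ∀ j, Mct chevE7 X ![a, 0] j = Mct chevE7 X (![1, 0] : Fin 2 → ZMod 7) j := by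
        intro a ha j
        obtain ⟨ρ, hρ⟩ := exists_scl (k := 2) (ℓ := 7) (v := ![a, 0]) (w := ![1, 0]) (by
          intro b
          fin_cases b
          · show a = 0 ↔ (1 : ZMod 7) = 0
            exact ⟨fun h => absurd h ha, fun h => absurd h one_ne_zero⟩
          · exact Iff.rfl)
        exact Mct_conj inE7 be hζ hX (ρ := ρ) (by rw [comb_single, comb_single]; exact hρ) j
      rcases h01 with h0 | h1
      · have h1 : c 1 ≠ 0 := by
          intro h1
          apply hc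
          funext b
          fin_cases b
          · exact h0
          · exact h1
        rw [hswap c h0 h1, hscale _ h1]
      · have h0 : c 0 ≠ 0 := by
          intro h0
          apply hc
          funext b
          fin_cases b
          · exact h0
          · exact h1
        have hc' : c = ![c 0, 0] := by
          funext b
          fin_cases b
          · rfl
          · exact h1
        rw [hc']
        exact hscale _ h0 j
    have t2 : ∀ c : Fin 2 → ZMod 7, c 0 ≠ 0 → c 1 ≠ 0 → ∀ j, Mct chevE7 X c j = Mct chevE7 X (![1, 1] : Fin 2 → ZMod 7) j := by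
      intro c h0 h1 j
      obtain ⟨ρ, hρ⟩ := exists_scl (k := 2) (ℓ := 7) (v := c) (w := ![1, 1]) (by
        intro b
        fin_cases b
        · show c 0 = 0 ↔ (1 : ZMod 7) = 0
          exact ⟨fun h => absurd h h0, fun h => absurd h one_ne_zero⟩
        · show c 1 = 0 ↔ (1 : ZMod 7) = 0
          exact ⟨fun h => absurd h h1, fun h => absurd h one_ne_zero⟩)
      exact Mct_conj inE7 be hζ hX (ρ := ρ) (by rw [comb_single, comb_single]; exact hρ) j
    -- the equation for the multiplicity of a weight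
    have key : ∀ f1 m1 f2 m2 : ℕ, Mct chevE7 X (![1, 0] : Fin 2 → ZMod 7) 0 = f1 → (∀ j, j ≠ 0 → Mct chevE7 X (![1, 0] : Fin 2 → ZMod 7) j = m1) →
        Mct chevE7 X (![1, 1] : Fin 2 → ZMod 7) 0 = f2 → (∀ j, j ≠ 0 → Mct chevE7 X (![1, 1] : Fin 2 → ZMod 7) j = m2) → ∀ l0 : Fin 2 → ZMod 7,
        126 + f1 * (Finset.univ.filter fun v : Fin 2 → ZMod 7 => (v ≠ 0 ∧ (v 0 = 0 ∨ v 1 = 0)) ∧ v ⬝ᵥ l0 = 0).card +
          m1 * (Finset.univ.filter fun v : Fin 2 → ZMod 7 => (v ≠ 0 ∧ (v 0 = 0 ∨ v 1 = 0)) ∧ v ⬝ᵥ l0 ≠ 0).card +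
          f2 * (Finset.univ.filter fun v : Fin 2 → ZMod 7 => (v 0 ≠ 0 ∧ v 1 ≠ 0) ∧ v ⬝ᵥ l0 = 0).card +
          m2 * (Finset.univ.filter fun v : Fin 2 → ZMod 7 => (v 0 ≠ 0 ∧ v 1 ≠ 0) ∧ v ⬝ᵥ l0 ≠ 0).card =
          882 + 42 * (Finset.univ.filter fun r => wgt chevE7 7 X r = l0).card := by
      intro f1 m1 f2 m2 hf1 hm1 hf2 hm2 l0
      have h1 : 7 * ∑ v : Fin 2 → ZMod 7, Mct chevE7 X v (v ⬝ᵥ l0) =
        7 ^ 2 * (126 + 6 * (Finset.univ.filter fun r => wgt chevE7 7 X r = l0).card) := Mct_inversion (D := chevE7) X l0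
      have h2 : ∀ v : Fin 2 → ZMod 7, Mct chevE7 X v (v ⬝ᵥ l0) = (if v = 0 then 126 else 0) +
          f1 * (if (v ≠ 0 ∧ (v 0 = 0 ∨ v 1 = 0)) ∧ v ⬝ᵥ l0 = 0 then 1 else 0) +
          m1 * (if (v ≠ 0 ∧ (v 0 = 0 ∨ v 1 = 0)) ∧ v ⬝ᵥ l0 ≠ 0 then 1 else 0) +
          f2 * (if (v 0 ≠ 0 ∧ v 1 ≠ 0) ∧ v ⬝ᵥ l0 = 0 then 1 else 0) +
          m2 * (if (v 0 ≠ 0 ∧ v 1 ≠ 0) ∧ v ⬝ᵥ l0 ≠ 0 then 1 else 0) := by
        intro v
        by_cases hv : v = 0
        · subst hv
          rw [zero_dotProduct, Mct_zero, if_pos rfl, if_neg (fun h => h.1.1 rfl), if_neg (fun h => h.1.1 rfl),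
            if_neg (fun h => h.1.1 rfl), if_neg (fun h => h.1.1 rfl)]
          show 126 = _
          omega
        · by_cases h01 : v 0 = 0 ∨ v 1 = 0
          · have hn : ¬ (v 0 ≠ 0 ∧ v 1 ≠ 0) := fun h => h01.elim h.1 h.2
            rw [t1 v hv h01]
            by_cases h0 : v ⬝ᵥ l0 = 0
            · rw [if_neg hv, if_pos ⟨⟨hv, h01⟩, h0⟩, if_neg (fun h => h.2 h0), if_neg (fun h => hn h.1), if_neg (fun h => hn h.1), h0,
                hf1]
              omega
            · rw [if_neg hv, if_neg (fun h => h0 h.2), if_pos ⟨⟨hv, h01⟩, h0⟩, if_neg (fun h => hn h.1), if_neg (fun h => hn h.1),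
                hm1 _ h0]
              omega
          · push Not at h01
            have hn : ¬ (v 0 = 0 ∨ v 1 = 0) := fun h => h.elim h01.1 h01.2
            rw [t2 v h01.1 h01.2]
            by_cases h0 : v ⬝ᵥ l0 = 0
            · rw [if_neg hv, if_neg (fun h => hn h.1.2), if_neg (fun h => hn h.1.2), if_pos ⟨h01, h0⟩, if_neg (fun h => h.2 h0), h0,
                hf2]
              omega
            · rw [if_neg hv, if_neg (fun h => hn h.1.2), if_neg (fun h => hn h.1.2), if_neg (fun h => h0 h.2), if_pos ⟨h01, h0⟩,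
                hm2 _ h0]
              omega
      simp_rw [h2] at h1
      rw [Finset.sum_add_distrib, Finset.sum_add_distrib, Finset.sum_add_distrib, Finset.sum_add_distrib,
        ← Finset.mul_sum, ← Finset.mul_sum, ← Finset.mul_sum, ← Finset.mul_sum, ← Finset.card_filter, ← Finset.card_filter,
        ← Finset.card_filter, ← Finset.card_filter, Finset.sum_ite_eq', if_pos (Finset.mem_univ _)] at h1
      omega
    have hne10 : comb (fun b : Fin 2 => (Pi.single b 1 : Fin 2 → ZMod 7)) ![1, 0] ≠ 0 := by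
      rw [comb_single]; exact ne10
    have hne11 : comb (fun b : Fin 2 => (Pi.single b 1 : Fin 2 → ZMod 7)) ![1, 1] ≠ 0 := by
      rw [comb_single]; exact ne11
    have fin : Mct chevE7 X (![1, 0] : Fin 2 → ZMod 7) 0 = 12 → (∀ j, j ≠ 0 → Mct chevE7 X (![1, 0] : Fin 2 → ZMod 7) j = 19) →
        Mct chevE7 X (![1, 1] : Fin 2 → ZMod 7) 0 = 24 → (∀ j, j ≠ 0 → Mct chevE7 X (![1, 1] : Fin 2 → ZMod 7) j = 17) → False := by
      intro hf1 hm1 hf2 hm2
      have hN2 : ∀ a b, N2 chevE7 7 (X 0) (X 1) a b = (Finset.univ.filter fun r => wgt chevE7 7 X r = ![a, b]).card := by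
        intro a b
        unfold N2
        refine congrArg Finset.card (Finset.ext fun r => ?_)
        rw [Finset.mem_filter, Finset.mem_filter]
        constructor
        · rintro ⟨-, h1, h2⟩
          refine ⟨Finset.mem_univ _, ?_⟩
          funext i
          fin_cases i
          · exact h1
          · exact h2
        · rintro ⟨-, h1⟩
          exact ⟨Finset.mem_univ _, congrFun h1 0, congrFun h1 1⟩
      have hN1 : ∀ a, N1 chevE7 7 (X 0) a = Mct chevE7 X (![1, 0] : Fin 2 → ZMod 7) a := by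
        intro a
        unfold N1 Mct
        refine congrArg Finset.card (Finset.ext fun r => ?_)
        rw [Finset.mem_filter, Finset.mem_filter]
        have : (![1, 0] : Fin 2 → ZMod 7) ⬝ᵥ wgt chevE7 7 X r = ((val chevE7 (X 0) r : ℤ) : ZMod 7) := by
          unfold dotProduct
          rw [Fin.sum_univ_two]
          simp [wgt]
        rw [this]
      refine no_pair7 (x := X 0) (y := X 1) (by rw [hN1, hf1]) (fun a ha => by rw [hN1, hm1 a ha]) ?_ ?_ ?_ ?_
      · rw [hN2]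
        have h1 := key 12 19 24 17 hf1 hm1 hf2 hm2 0
        rw [cnt7_0.1, cnt7_0.2.1, cnt7_0.2.2.1, cnt7_0.2.2.2] at h1
        rw [eq00]
        omega
      · intro k hk
        rw [hN2]
        have h1 := key 12 19 24 17 hf1 hm1 hf2 hm2 ![0, k]
        have h2 := cnt7_1 ![0, k] (Or.inl ⟨rfl, hk⟩)
        rw [h2.1, h2.2.1, h2.2.2.1, h2.2.2.2] at h1
        omega
      · rw [hN2]
        have h1 := key 12 19 24 17 hf1 hm1 hf2 hm2 ![1, 0]
        have h2 := cnt7_1 ![1, 0] (Or.inr ⟨rfl, rfl⟩)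
        rw [h2.1, h2.2.1, h2.2.2.1, h2.2.2.2] at h1
        omega
      · intro k hk
        rw [hN2]
        have h1 := key 12 19 24 17 hf1 hm1 hf2 hm2 ![1, k]
        have h2 := cnt7_2 ![1, k] ⟨rfl, hk⟩
        rw [h2.1, h2.2.1, h2.2.2.1, h2.2.2.2] at h1
        omega
    rcases hcl hX (![1, 0] : Fin 2 → ZMod 7) hne10 with ⟨h1, h1'⟩ | ⟨h1, h1'⟩ | ⟨h1, h1'⟩ <;>
      rcases hcl hX (![1, 1] : Fin 2 → ZMod 7) hne11 with ⟨h2, h2'⟩ | ⟨h2, h2'⟩ | ⟨h2, h2'⟩ <;>
      first
      | exact fin h1 h1' h2 h2'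
      | (have h3 := key _ _ _ _ h1 h1' h2 h2' 0
         rw [cnt7_0.1, cnt7_0.2.1, cnt7_0.2.2.1, cnt7_0.2.2.2] at h3
         omega)
  · -- not in the torus
    have hcard : Nat.card (be.chi inE7).ker = 7 := by
      have h1 := (be.chi inE7).ker.card_mul_index
      rw [h, Nat.card_congr Multiplicative.toAdd, Nat.card_eq_fintype_card (α := Fin 2 → ZMod 7), Fintype.card_fun,
        ZMod.card, Fintype.card_fin] at h1
      omega
    have hex : ∃ v3, v3 ∉ (be.chi inE7).ker := by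
      by_contra hcon
      push Not at hcon
      have : (be.chi inE7).ker = ⊤ := by
        rw [eq_top_iff]
        intro v _
        exact hcon v
      rw [this, Subgroup.index_top] at h
      omega
    obtain ⟨v3, hv3⟩ := hex
    have hex1 : ∃ u1 ∈ (be.chi inE7).ker, u1 ≠ 1 := by
      by_contra hcon
      push Not at hcon
      have : (be.chi inE7).ker = ⊥ := by
        rw [eq_bot_iff]
        intro v hv
        exact Subgroup.mem_bot.2 (hcon v hv)
      rw [this, Subgroup.card_bot] at hcard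
      omega
    obtain ⟨u1, hu1, hu1n⟩ := hex1
    obtain ⟨X, hX⟩ := exists_weights inE7 slE7 be hζ (fun _ : Fin 1 => u1.toAdd) (fun b => by
      rw [← be.mem_ker inE7]
      exact hu1)
    have hc1 : comb (fun _ : Fin 1 => u1.toAdd) ![1] = u1.toAdd := by
      unfold comb
      rw [Fin.sum_univ_one]
      show (1 : ZMod 7) • u1.toAdd = u1.toAdd
      rw [one_smul]
    have hne : comb (fun _ : Fin 1 => u1.toAdd) ![1] ≠ 0 := by
      rw [hc1]
      intro h1
      exact hu1n (Multiplicative.toAdd.injective h1)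
    have hinv := be.wgt_inv inE7 hζ hX v3
    have hmod := fix_mod (be.chi_pow inE7 v3) (Finset.univ.filter fun r => (![1] : Fin 1 → ZMod 7) ⬝ᵥ wgt chevE7 7 X r = 1)
      (fun r hr => by
        rw [Finset.mem_filter] at hr ⊢
        exact ⟨Finset.mem_univ _, by rw [hinv]; exact hr.2⟩)
    have hempty : ((Finset.univ.filter fun r => (![1] : Fin 1 → ZMod 7) ⬝ᵥ wgt chevE7 7 X r = 1).filter
        fun r => be.chi inE7 v3 r = r) = ∅ := by
      rw [Finset.filter_eq_empty_iff]
      intro r _ hr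
      exact hv3 (fix_seven (be.chi_range inE7 v3) (be.chi_pow inE7 v3) hr)
    rw [hempty, Finset.card_empty] at hmod
    have hM : Mct chevE7 X ![1] 1 % 7 = 0 := hmod
    rcases hcl hX ![1] hne with ⟨-, h1⟩ | ⟨-, h1⟩ | ⟨-, h1⟩
    · rw [h1 1 one_ne_zero] at hM
      omega
    · rw [h1 1 one_ne_zero] at hM
      omega
    · rw [h1 1 one_ne_zero] at hM
      omega

end Cfsg.Agent.H186
end

-- part: S2655
section
set_option autoImplicit false
open scoped MatrixGroups
open Cfsg

namespace Cfsg.Agent.S2655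

open Cfsg.Lie Cfsg.Agent.H186

universe u

theorem isPGroup_tau (k ℓ : ℕ) [NeZero ℓ] (hodd : Odd ℓ) : IsPGroup ℓ (tau k ℓ hodd).range := by
  rintro ⟨_, v, rfl⟩
  refine ⟨1, Subtype.ext ?_⟩
  show (tau k ℓ hodd v) ^ ℓ ^ 1 = 1
  rw [pow_one, ← map_pow]
  have : v ^ ℓ = 1 := by
    apply Multiplicative.toAdd.injective
    rw [toAdd_pow, toAdd_one]
    funext i
    rw [Pi.smul_apply, Pi.zero_apply, nsmul_eq_mul, ZMod.natCast_self, zero_mul]
  rw [this, map_one]

/-- no section `A₁₄` if `p ≠ 7` -/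
theorem no_fourteen {F : Type u} [Field F] [Fintype F] (p : ℕ) [hp : Fact p.Prime] [CharP F p] (h7 : p ≠ 7)
    (r : ℕ) (hr : 14 ≤ r) (H : Subgroup ↥(chevE7.group F)) (K : Subgroup ↥H) [K.Normal]
    (h : Nonempty (↥H ⧸ K ≃* ↥(alternatingGroup (Fin r)))) : False := by
  have : Fact (Nat.Prime 7) := ⟨by norm_num⟩
  obtain ⟨K', _, _, hK, ⟨fe⟩⟩ := Cfsg.Agent.H189.ExcLift.exists_fusEmb_E7 p (l := 7) (r := 14) (Or.inl ⟨rfl, rfl⟩) h7 hr H K h
    (tau 2 7 (by decide)).range (isPGroup_tau 2 7 (by decide))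
  obtain ⟨be⟩ := exists_blockEmb (k := 2) (ℓ := 7) (by decide) (by norm_num) sign_blk27 fe
  exact no_block7 hK be

/-- no section `A₁₅` if `p ≠ 5` -/
theorem no_fifteen {F : Type u} [Field F] [Fintype F] (p : ℕ) [hp : Fact p.Prime] [CharP F p] (h5 : p ≠ 5)
    (r : ℕ) (hr : 15 ≤ r) (H : Subgroup ↥(chevE7.group F)) (K : Subgroup ↥H) [K.Normal]
    (h : Nonempty (↥H ⧸ K ≃* ↥(alternatingGroup (Fin r)))) : False := by
  have : Fact (Nat.Prime 5) := ⟨by norm_num⟩
  obtain ⟨K', _, _, hK, ⟨fe⟩⟩ := Cfsg.Agent.H189.ExcLift.exists_fusEmb_E7 p (l := 5) (r := 15) (Or.inr ⟨rfl, rfl⟩) h5 hr H K h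
    (tau 3 5 (by decide)).range (isPGroup_tau 3 5 (by decide))
  obtain ⟨be⟩ := exists_blockEmb (k := 3) (ℓ := 5) (by decide) (by norm_num) sign_blk35 fe
  exact no_block5 hK be

/-- Alternating sections of the groups of type E₇. Let `F` be a finite field of characteristic `p` and let `G` be the Chevalley group of type E₇ over `F`. If some subgroup of `G` has a quotient isomorphic to the alternating group of degree `r`, then `r` is at most 13, or 14 in characteristic 7. (Only an upper bound is asserted.) -/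
theorem result {F : Type*} [Field F] [Fintype F] (p : ℕ) [Fact p.Prime] [CharP F p]
    (r : ℕ) (H : Subgroup ↥(Cfsg.Lie.chevE7.group F)) (K : Subgroup ↥H) [K.Normal]
    (h : Nonempty (↥H ⧸ K ≃* ↥(alternatingGroup (Fin r)))) :
    r ≤ 13 + (if p = 7 then 1 else 0) := by
  by_contra hlt
  split_ifs at hlt with hp
  · exact no_fifteen p (by omega) r (by omega) H K h
  · exact no_fourteen p hp r (by omega) H K h

end Cfsg.Agent.S2655
end
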