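import Cfsg.Agent.H190.Act
import Cfsg.Statements.S2657
import Cfsg.Agent.H190.Start
import Cfsg.Agent.S1062
import Cfsg.Agent.S1035
set_option linter.all false

-- part: H190/WeylF4
section
/-!
# The Weyl group of type `F₄`: `w ^ 6 = 1` or `w ^ 8 = 1` or `w ^ 6 = - 1`
-/

set_option autoImplicit false

namespace Cfsg.Agent.H190.WF4

open Cfsg.Agent.H190.PC

def gensF4 : List ℕ :=
  [0x2f2e2d28201f1e2c2726251d1c1b0e2b2a292423221a19181716150d0c0b060504211413120a09080311100f07020100,
   0x2f2e2b2c2d2a292728242326252122201a191d1c141f1e181711101b131216150f0d0e0a090c0b070806050203040100,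
   0x2f2d2e2c2a2b2928262725242223211f201e1d1b1c18161a151917131412110f100e0c0d0b0a08090706040503010200,
   0x2e2f2d2c2b292a2827252623242221201e1f1c1d1b191a1718151614121310110f0e0d0b0c090a080705060403020001]

def XF40 : List ℕ :=
  [0x2f2e2d2c2b2a292827262524232221201f1e1d1c1b1a191817161514131211100f0e0d0c0b0a09080706050403020100,
   0x2e2f2d2c2b292a2827252623242221201e1f1c1d1b191a1718151614121310110f0e0d0b0c090a080705060403020001,
   0x2d2f2e2c2a292b28262527222423211f1e201b1d1c1618151a17191312140f11100e0c0b0d080a090704060503010002,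
   0x2b2f2e2c2a292d27242328212625221a1920141d1c1118101f171e13121b0f16150d0a090e070c0b0802060503010004,
   0x202f2e281f1e2d271d1c2c0e26251b1a192b0d24230618052a17290c0b22041615140a0921031312080211100701000f,
   0x2a2f2d2c2b292e262422282127252318161f131d1b111a0f20151e14121c1019170c0a080e070d0b0901060403020005,
   0x1f2f2d28201e2e261d1b2c0e27251c18162a0c2422061a042b15290d0b23051917130a08210314120901110f07020010,
   0x292e2d2c2b2a2f252322282127262417151e121c1b10190f20161f14131d111a180b09080e070d0c0a00050403020106,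
   0x1a2f2b2720192e241d142c0d28231c18112a0a2621061f022d10290e0925051e17130c0722031b120b01160f08040015,
   0x1e2e2d28201f2f251c1b2c0e27261d1715290b23220519042b162a0d0c24061a18120908210314130a00100f07020111,
   0x182f2a261f162d241d132c0c28221b1a112b0a27210620012e0f290e0825041e15140d0723031c120b02191009050017,
   0x192e2b27201a2f231c142c0d28241d171029092521051e022d112a0e0a26061f18120b0722031b130c00150f08040116,
   0x172e29251e152d231c122c0b28221b19102b0927210520002f0f2a0e0826041f16140d0724031d130c021a110a060118,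
   0x162d2a261f182f221b132c0c28241d150f29082521041e012e112b0e0a2706201a120b0723031c140d00171009050219,
   0x152d29251e172e221b122c0b28231c160f2a082621041f002f102b0e0927052019130c0724031d140d0118110a06021a,
   0x112b2a241a182f2114132c0a27261d100f290723220219012e162d0d0c2806201f12090825031c1b0e0017150b05041e,
   0x102b292319172e2114122c0927251c110f2a072422021a002f152d0d0b2805201e130a0826031d1b0e0118160c06041f,
   0x6201f1d1a182f0e0d0c280a27262405041e031c1b0219012e162d14132c112b2a0b0908250723222100171512100f29,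
   0x5201e1c19172e0e0d0b280927252306041f031d1b021a002f152d14122c102b290c0a08260724222101181613110f2a,
   0xf2a292216152d2113122c0826251b11102b0724230118002f172e0c0b28041f1e140a0927031d1c0e021a190d060520,
   0x41f1e1b16152d0e0c0b2808262522060520031d1c0118002f172e13122c0f2a290d0a092707242321021a191411102b,
   0x21a191411102b0d0a092707242321060520031d1c0118002f172e13122c0f2a290e0c0b2808262522041f1e1b16152d,
   0x1181613110f2a0c0a08260724222106041f031d1b021a002f152d14122c102b290e0d0b280927252305201e1c19172e,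
   0x171512100f290b0908250723222105041e031c1b0219012e162d14132c112b2a0e0d0c280a27262406201f1d1a182f]

def XF41 : List ℕ :=
  [0x2f2e2d2c2b2a292827262524232221201f1e1d1c1b1a191817161514131211100f0e0d0c0b0a09080706050403020100,
   0x2f2e2d28201f1e2c2726251d1c1b0e2b2a292423221a19181716150d0c0b060504211413120a09080311100f07020100,
   0x2f2e2b27201a192c2824231d1c140d2d2a292625211f1e181711100e0a09060502221b13120c0b070316150f08040100,
   0x2f2d2a261f18162c2824221d1b130c2e2b29272521201e1a15110f0e0a08060401231c14120d0b070319171009050200,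
   0x2f2b2a241a18112c2726211d14130a2e2d2928232220191f10160f0d0c07060201251c1b120e0908031e17150b050400,
   0x2f201f1d1a18062827260e240d0c0a2e2d1e2c1c1b2b192a0516041413031102012523220b2109080729171512100f00]

def XF42 : List ℕ :=
  [0x2f2e2d2c2b2a292827262524232221201f1e1d1c1b1a191817161514131211100f0e0d0c0b0a09080706050403020100,
   0x2f2d2e2c2a2b2928262725242223211f201e1d1b1c18161a151917131412110f100e0c0d0b0a08090706040503010200,
   0x2f2b2e2c2a2d2927242823262125221a20191d141c18111f101e17131b12160f150d0a0e090c070b0806020503010400,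
   0x2f2a2d2c2b2e292624282227212523181f161d131b1a11200f1e15141c121910170c0a0e080d070b0906010403020500]

def XF43 : List ℕ :=
  [0x2f2e2d2c2b2a292827262524232221201f1e1d1c1b1a191817161514131211100f0e0d0c0b0a09080706050403020100,
   0x2f2e2b2c2d2a292728242326252122201a191d1c141f1e181711101b131216150f0d0e0a090c0b070806050203040100]

def chainF4 : List (List ℕ × List ℕ) :=
  [([0x2f2e2d28201f1e2c2726251d1c1b0e2b2a292423221a19181716150d0c0b060504211413120a09080311100f07020100, 0x2f2e2b2c2d2a292728242326252122201a191d1c141f1e181711101b131216150f0d0e0a090c0b070806050203040100, 0x2f2d2e2c2a2b2928262725242223211f201e1d1b1c18161a151917131412110f100e0c0d0b0a08090706040503010200], XF40),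
   ([0x2f2e2b2c2d2a292728242326252122201a191d1c141f1e181711101b131216150f0d0e0a090c0b070806050203040100, 0x2f2d2e2c2a2b2928262725242223211f201e1d1b1c18161a151917131412110f100e0c0d0b0a08090706040503010200], XF41),
   ([0x2f2e2b2c2d2a292728242326252122201a191d1c141f1e181711101b131216150f0d0e0a090c0b070806050203040100], XF42),
   ([], XF43)]


/-- the check on one element -/
def pF4 (c : ℕ) : Bool := powOne 48 c 6 || powOne 48 c 8 || powNeg 48 c 6

set_option maxRecDepth 100000 in
theorem chain_ok : chain 48 gensF4 chainF4 = true := by decide +kernel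

set_option maxRecDepth 100000 in
theorem all_ok : allProd 48 pF4 (chainF4.map Prod.snd) (one 48) = true := by decide +kernel

theorem codes_gens : ∀ c ∈ gensF4, ∃ w : Equiv.Perm (Fin 48), Codes c w := by
  have h : ∀ c ∈ gensF4, (∀ x : Fin 48, get c x < 48) ∧ ∀ x : Fin 48, get c (get c x) = x := by
    decide +kernel
  intro c hc
  obtain ⟨h1, h2⟩ := h c hc
  let f : Fin 48 → Fin 48 := fun x => ⟨get c x, h1 x⟩
  have hf : ∀ x, f (f x) = x := fun x => Fin.ext (h2 x)
  exact ⟨⟨f, f, hf, hf⟩, fun x => rfl⟩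

theorem sub_gens : ∀ p ∈ chainF4, ∀ c ∈ p.1, c ∈ gensF4 := by decide +kernel

theorem order (w : Equiv.Perm (Fin 48)) (hw : w ∈ Subgroup.closure (PS 48 gensF4)) :
    w ^ 6 = 1 ∨ w ^ 8 = 1 ∨ ∀ x : Fin 48, (((w ^ 6) x : Fin 48) : ℕ) = 48 - 1 - x := by
  have h1 := chain_spec (by norm_num) chainF4 gensF4 (fun p hp c hc => codes_gens c (sub_gens p hp c hc)) chain_ok w hw
  obtain ⟨c, hc, hP⟩ := allProd_spec pF4 _ _ 1 (codes_one (by norm_num)) all_ok w h1
  rw [one_mul] at hc
  unfold pF4 at hP
  rw [Bool.or_eq_true, Bool.or_eq_true] at hP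
  rcases hP with (h | h) | h
  · exact Or.inl (powOne_spec hc h)
  · exact Or.inr (Or.inl (powOne_spec hc h))
  · exact Or.inr (Or.inr (powNeg_spec hc h))

end Cfsg.Agent.H190.WF4
end

-- part: S2657
section
set_option autoImplicit false
open scoped MatrixGroups
open Cfsg

namespace Cfsg.Agent.S2657

open Cfsg.Lie Cfsg.Agent.H190 Cfsg.Agent.H190.PC Cfsg.Agent.ChevalleyStructure.Elts

universe u

theorem inF4 : InList chevF4 := by simp [InList]

theorem gens_ok : ∀ i < chevF4.rank, ∃ c ∈ WF4.gensF4, ∀ x < chevF4.nroots, get c x = chevF4.reflectRoot i x := by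
  decide +kernel

/-- the index of the torus of `F₄` -/
theorem index_ok {K : Type u} [Field K] [Fintype K] {ℓ : ℕ} (hl : ℓ.Prime) (hq : ℓ ∣ Fintype.card K - 1)
    (hds : ∀ k ∈ [2, 6, 8, 12], ¬ ℓ ∣ k) : ¬ ℓ ∣ (TG chevF4 K).index := by
  refine not_dvd_index inF4 [2, 6, 8, 12] (d := 1) (N := 24) one_ne_zero ?_ ?_ hl hq hds
  · rw [one_mul, Cfsg.Agent.S1062.result rfl]
    simp only [List.map_cons, List.map_nil, List.prod_cons, List.prod_nil]
    ring
  · exact Cfsg.Agent.S1035.result (F := K) rfl (chevF4, 1) (by simp)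

theorem weyl {K : Type u} [Field K] {n : ↥(chevF4.group K)} (hn : n ∈ NG chevF4 K) :
    (∀ t ∈ TG chevF4 K, n ^ 6 * t * (n ^ 6)⁻¹ = t) ∨ (∀ t ∈ TG chevF4 K, n ^ 8 * t * (n ^ 8)⁻¹ = t) ∨
      (∀ t ∈ TG chevF4 K, n ^ 6 * t * (n ^ 6)⁻¹ = t⁻¹) := by
  rcases WF4.order _ (pw_mem inF4 hn WF4.gensF4 gens_ok) with h | h | h
  · exact Or.inl (conj_pow_eq inF4 hn h)
  · exact Or.inr (Or.inl (conj_pow_eq inF4 hn h))
  · exact Or.inr (Or.inr (conj_pow_neg inF4 hn h))

/-- no section `A₁₁` if `p ≠ 11` -/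
theorem no_eleven {F : Type u} [Field F] [Fintype F] (p : ℕ) [hp : Fact p.Prime] [CharP F p] (h11 : p ≠ 11)
    (r : ℕ) (hr : 11 ≤ r) (H : Subgroup ↥(chevF4.group F)) (K : Subgroup ↥H) [K.Normal]
    (h : Nonempty (↥H ⧸ K ≃* ↥(alternatingGroup (Fin r)))) : False := by
  haveI : Fact (Nat.Prime 11) := ⟨by norm_num⟩
  have hm : ¬ p ∣ 11 := fun hd => h11 ((Nat.prime_dvd_prime_iff_eq hp.out (by norm_num)).1 hd)
  obtain ⟨K', _, _, f, hK'⟩ := field_ext' F p hm
  obtain ⟨H', ι, φ, hι, hφ⟩ := start chevF4 f hr H K h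
  have hidx := index_ok (K := K') (ℓ := 11) (by norm_num) hK' (by decide)
  obtain ⟨n, hn, hA⟩ := one_prime (torusData inF4 K') hidx ι hι φ hφ
    (x := ⟨x11, x11_mem⟩) (y := ⟨y11, y11_mem⟩) (k := 3) (by rw [Subgroup.orderOf_mk]; exact x11_order)
    (Subtype.ext rel11)
  rcases weyl hn with h6 | h8 | h6
  · exact absurd (hA.pow_eq_one h6) (by decide)
  · exact absurd (hA.pow_eq_one h8) (by decide)
  · exact absurd (hA.pow_eq_neg_one h6) (by decide)

/-- no section `A₁₂` if `p = 11` -/
theorem no_twelve {F : Type u} [Field F] [Fintype F] (p : ℕ) [hp : Fact p.Prime] [CharP F p] (h11 : p = 11)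
    (r : ℕ) (hr : 12 ≤ r) (H : Subgroup ↥(chevF4.group F)) (K : Subgroup ↥H) [K.Normal]
    (h : Nonempty (↥H ⧸ K ≃* ↥(alternatingGroup (Fin r)))) : False := by
  haveI : Fact (Nat.Prime 5) := ⟨by norm_num⟩
  haveI : Fact (Nat.Prime 7) := ⟨by norm_num⟩
  have hm : ¬ p ∣ 35 := by rw [h11]; decide
  obtain ⟨K', _, _, f, hK'⟩ := field_ext' F p hm
  obtain ⟨H', ι, φ, hι, hφ⟩ := start chevF4 f hr H K h
  have hidx5 := index_ok (K := K') (ℓ := 5) (by norm_num) ((by norm_num : 5 ∣ 35).trans hK') (by decide)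
  have hidx7 := index_ok (K := K') (ℓ := 7) (by norm_num) ((by norm_num : 7 ∣ 35).trans hK') (by decide)
  obtain ⟨n, hn, hA, hB⟩ := two_primes (torusData inF4 K') hidx5 hidx7 ι hι φ hφ
    (x₁ := ⟨x12, x12_mem⟩) (x₂ := ⟨z12, z12_mem⟩) (y := ⟨y12, y12_mem⟩) (k₁ := 2) (k₂ := 3)
    (by rw [Subgroup.orderOf_mk]; exact x12_order) (by rw [Subgroup.orderOf_mk]; exact z12_order)
    (Subtype.ext comm12) (Subtype.ext rel12x) (Subtype.ext rel12z)
  rcases weyl hn with h6 | h8 | h6
  · exact absurd (hA.pow_eq_one h6) (by decide)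
  · exact absurd (hB.pow_eq_one h8) (by decide)
  · exact absurd (hB.pow_eq_neg_one h6) (by decide)

/-- Alternating sections of the groups of type F₄. Let `F` be a finite field of characteristic `p` and let `G` be the Chevalley group of type F₄ over `F`. If some subgroup of `G` has a quotient isomorphic to the alternating group of degree `r`, then `r` is at most 10, or 11 in characteristic 11. (Only an upper bound is asserted.) -/
theorem result {F : Type*} [Field F] [Fintype F] (p : ℕ) [Fact p.Prime] [CharP F p]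
    (r : ℕ) (H : Subgroup ↥(Cfsg.Lie.chevF4.group F)) (K : Subgroup ↥H) [K.Normal]
    (h : Nonempty (↥H ⧸ K ≃* ↥(alternatingGroup (Fin r)))) :
    r ≤ 10 + (if p = 11 then 1 else 0) := by
  by_contra hlt
  split_ifs at hlt with hp
  · exact no_twelve p hp r (by omega) H K h
  · exact no_eleven p hp r (by omega) H K h

end Cfsg.Agent.S2657
end
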