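import Mathlib
import Cfsg.Agent.H174.F2Forms
import Cfsg.Agent.ClassicalGeometry.SymModel
import Cfsg.Statements.S2563
set_option linter.all false

-- part: H171/SymF2
section
/-!
The symmetric group of degree `4k+4` acting on even weight vectors modulo the all-one vector, an orthogonal
space of dimension `4k+2` over the field with two elements.
-/

set_option autoImplicit false

namespace Cfsg.Agent.H171.SymF2

open Module Cfsg.Agent.ClassicalGeometry.SymModel Cfsg.Agent.ClassicalGeometry.IsoTransfer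

/-- the weight -/
def wt {n : ℕ} (w : Fin n → ZMod 2) : ℕ := ∑ i, (w i).val

theorem halfWt_eq {n : ℕ} (w : Fin n → ZMod 2) : halfWt w = ((wt w / 2 : ℕ) : ZMod 2) := rfl

/-- even weight vectors -/
def E (n : ℕ) : Submodule (ZMod 2) (Fin n → ZMod 2) where
  carrier := {w | ∑ i, w i = 0}
  add_mem' := by
    intro a b ha hb
    simp only [Set.mem_ofPred_eq, Pi.add_apply, Finset.sum_add_distrib] at ha hb ⊢
    rw [ha, hb, add_zero]
  zero_mem' := by simp
  smul_mem' := by
    intro c x hx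
    simp only [Set.mem_ofPred_eq, Pi.smul_apply, ← Finset.smul_sum] at hx ⊢
    rw [hx, smul_zero]

theorem mem_E {n : ℕ} (w : Fin n → ZMod 2) : w ∈ E n ↔ ∑ i, w i = 0 := Iff.rfl

theorem cast_wt {n : ℕ} (w : Fin n → ZMod 2) : ((wt w : ℕ) : ZMod 2) = ∑ i, w i := by
  rw [wt, Nat.cast_sum]
  exact Finset.sum_congr rfl fun i _ => ZMod.natCast_zmod_val _

theorem even_wt {n : ℕ} (w : Fin n → ZMod 2) : w ∈ E n ↔ 2 ∣ wt w := by
  rw [mem_E, ← cast_wt, ZMod.natCast_eq_zero_iff]

theorem wt_add {n : ℕ} (u v : Fin n → ZMod 2) :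
    wt (u + v) + 2 * ∑ i, (u i).val * (v i).val = wt u + wt v := by
  rw [wt, wt, wt, Finset.mul_sum, ← Finset.sum_add_distrib, ← Finset.sum_add_distrib]
  refine Finset.sum_congr rfl fun i _ => ?_
  rw [Pi.add_apply]
  generalize u i = a
  generalize v i = b
  revert a b
  decide

theorem halfWt_add {n : ℕ} (u v : Fin n → ZMod 2) (hu : u ∈ E n) (hv : v ∈ E n) :
    halfWt (u + v) = halfWt u + halfWt v + ∑ i, u i * v i := by
  have h := wt_add u v
  have h1 := (even_wt u).1 hu
  have h2 := (even_wt v).1 hv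
  have h3 : wt (u + v) / 2 + ∑ i, (u i).val * (v i).val = wt u / 2 + wt v / 2 := by omega
  have h4 := congrArg (fun t : ℕ => (t : ZMod 2)) h3
  simp only [Nat.cast_add] at h4
  have h5 : ((∑ i, (u i).val * (v i).val : ℕ) : ZMod 2) = ∑ i, u i * v i := by
    rw [Nat.cast_sum]
    refine Finset.sum_congr rfl fun i _ => ?_
    rw [Nat.cast_mul, ZMod.natCast_zmod_val, ZMod.natCast_zmod_val]
  rw [h5] at h4
  rw [halfWt_eq, halfWt_eq, halfWt_eq, ← h4, add_assoc, CharTwo.add_self_eq_zero, add_zero]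

/-- the scalar product -/
def dot (n : ℕ) : LinearMap.BilinForm (ZMod 2) (Fin n → ZMod 2) :=
  LinearMap.mk₂ (ZMod 2) (fun u v => ∑ i, u i * v i)
    (by intro a b c; simp [add_mul, Finset.sum_add_distrib])
    (by intro a b c; simp [Finset.mul_sum, mul_assoc])
    (by intro a b c; simp [mul_add, Finset.sum_add_distrib])
    (by intro a b c; simp [Finset.mul_sum, mul_left_comm])

theorem dot_apply {n : ℕ} (u v : Fin n → ZMod 2) : dot n u v = ∑ i, u i * v i := rfl

/-- the quadratic form on even weight vectors -/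
def QE (n : ℕ) : QuadraticForm (ZMod 2) (E n) where
  toFun w := halfWt w.1
  toFun_smul a w := by
    have : a = 0 ∨ a = 1 := by
      revert a
      decide
    rcases this with rfl | rfl
    · simp [halfWt]
    · simp
  exists_companion' := ⟨(dot n).domRestrict₁₂ (E n) (E n), fun u v => by
    show halfWt (u.1 + v.1) = _
    rw [halfWt_add _ _ u.2 v.2]
    rfl⟩

theorem QE_apply {n : ℕ} (w : E n) : QE n w = halfWt w.1 := rfl

theorem polar_QE {n : ℕ} (u v : E n) : QuadraticMap.polar (QE n) u v = ∑ i, u.1 i * v.1 i := by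
  rw [QuadraticMap.polar, QE_apply, QE_apply, QE_apply]
  show halfWt (u.1 + v.1) - _ - _ = _
  rw [halfWt_add _ _ u.2 v.2]
  ring

/-- the all-one vector -/
def one (k : ℕ) : E (4 * k + 4) := ⟨1, by
  rw [mem_E]
  simp only [Pi.one_apply, Finset.sum_const, Finset.card_univ, Fintype.card_fin, nsmul_eq_mul, mul_one]
  have : (((4 * k + 4 : ℕ)) : ZMod 2) = 0 := by
    rw [ZMod.natCast_eq_zero_iff]; omega
  exact_mod_cast this⟩

theorem QE_one (k : ℕ) : QE (4 * k + 4) (one k) = 0 := by
  rw [QE_apply, halfWt_eq]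
  have : wt (1 : Fin (4 * k + 4) → ZMod 2) = 4 * k + 4 := by
    simp [wt, ZMod.val_one]
  show ((wt (1 : Fin (4 * k + 4) → ZMod 2) / 2 : ℕ) : ZMod 2) = 0
  rw [this, ZMod.natCast_eq_zero_iff]
  omega

theorem polar_one (k : ℕ) (u : E (4 * k + 4)) : QuadraticMap.polar (QE (4 * k + 4)) u (one k) = 0 := by
  rw [polar_QE]
  have h : ∑ i, u.1 i = 0 := u.2
  calc ∑ i, u.1 i * (one k).1 i = ∑ i, u.1 i := Finset.sum_congr rfl fun i _ => by
        show u.1 i * 1 = _
        rw [mul_one]
    _ = 0 := h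

/-- the line spanned by the all-one vector -/
def L (k : ℕ) : Submodule (ZMod 2) (E (4 * k + 4)) := Submodule.span (ZMod 2) {one k}

theorem mem_L {k : ℕ} (u : E (4 * k + 4)) : u ∈ L k ↔ u = 0 ∨ u = one k := by
  rw [L, Submodule.mem_span_singleton]
  constructor
  · rintro ⟨a, rfl⟩
    have : a = 0 ∨ a = 1 := by
      revert a
      decide
    rcases this with rfl | rfl
    · left; simp
    · right; simp
  · rintro (rfl | rfl)
    · exact ⟨0, by simp⟩
    · exact ⟨1, by simp⟩

theorem QE_add_L {k : ℕ} (u l : E (4 * k + 4)) (hl : l ∈ L k) : QE (4 * k + 4) (u + l) = QE (4 * k + 4) u := by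
  rcases (mem_L l).1 hl with rfl | rfl
  · rw [add_zero]
  · have h := polar_one k u
    rw [QuadraticMap.polar, QE_one] at h
    linear_combination h

/-- vectors of weight two -/
def pair {n : ℕ} (i j : Fin n) : E n := ⟨Pi.single i 1 + Pi.single j 1, by
  rw [mem_E]
  simp only [Pi.add_apply, Finset.sum_add_distrib, Finset.sum_pi_single', Finset.mem_univ, if_true]
  decide⟩

theorem dot_pair {n : ℕ} (u : E n) (i j : Fin n) : QuadraticMap.polar (QE n) u (pair i j) = u.1 i + u.1 j := by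
  rw [polar_QE]
  show ∑ k, u.1 k * ((Pi.single i 1 + Pi.single j 1 : Fin n → ZMod 2) k) = _
  simp [Pi.single_apply, mul_add, Finset.sum_add_distrib]

theorem mem_L_of_polar {k : ℕ} (u : E (4 * k + 4))
    (h : ∀ v, QuadraticMap.polar (QE (4 * k + 4)) u v = 0) : u ∈ L k := by
  have h1 : ∀ i j, u.1 i = u.1 j := by
    intro i j
    have := h (pair i j)
    rw [dot_pair] at this
    exact CharTwo.add_eq_zero.1 this
  rw [mem_L]
  have h2 : u.1 0 = 0 ∨ u.1 0 = 1 := by
    generalize u.1 0 = a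
    revert a
    decide
  rcases h2 with h2 | h2
  · left
    apply Subtype.ext
    funext i
    rw [h1 i 0, h2]
    rfl
  · right
    apply Subtype.ext
    funext i
    rw [h1 i 0, h2]
    rfl

/-- permutations act on even weight vectors -/
def P {n : ℕ} (σ : Equiv.Perm (Fin n)) : E n →ₗ[ZMod 2] E n :=
  (LinearMap.funLeft (ZMod 2) (ZMod 2) σ.symm).restrict (fun w hw => by
    rw [mem_E] at hw ⊢
    rw [← hw]
    exact Equiv.sum_comp σ.symm w)

theorem P_apply {n : ℕ} (σ : Equiv.Perm (Fin n)) (w : E n) (i : Fin n) : (P σ w).1 i = w.1 (σ.symm i) := rfl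

theorem P_mul {n : ℕ} (σ τ : Equiv.Perm (Fin n)) (w : E n) : P (σ * τ) w = P σ (P τ w) := rfl

theorem P_one {n : ℕ} (w : E n) : P (1 : Equiv.Perm (Fin n)) w = w := rfl

theorem QE_P {n : ℕ} (σ : Equiv.Perm (Fin n)) (w : E n) : QE n (P σ w) = QE n w :=
  halfWt_comp w.1 σ.symm

theorem P_L {k : ℕ} (σ : Equiv.Perm (Fin (4 * k + 4))) (l : E (4 * k + 4)) (hl : l ∈ L k) : P σ l = l := by
  rcases (mem_L l).1 hl with rfl | rfl
  · rw [map_zero]
  · rfl

theorem P_pair {n : ℕ} (σ : Equiv.Perm (Fin n)) (i j : Fin n) : P σ (pair i j) = pair (σ i) (σ j) := by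
  apply Subtype.ext
  funext l
  rw [P_apply]
  show (Pi.single i 1 + Pi.single j 1 : Fin n → ZMod 2) (σ.symm l) =
    (Pi.single (σ i) 1 + Pi.single (σ j) 1 : Fin n → ZMod 2) l
  simp only [Pi.add_apply, Pi.single_apply, Equiv.symm_apply_eq]

/-! ### the Gauss sum -/

/-- the sign character -/
def chi (a : ZMod 2) : ℤ := if a = 0 then 1 else -1

theorem sum_I_pow (n : ℕ) : ∑ w : Fin n → ZMod 2, Complex.I ^ wt w = (1 + Complex.I) ^ n := by
  have h : (∑ a : ZMod 2, Complex.I ^ a.val) = 1 + Complex.I := by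
    have : (Finset.univ : Finset (ZMod 2)) = {0, 1} := rfl
    rw [this, Finset.sum_pair (by decide)]
    simp [ZMod.val_one]
  rw [← h, Fintype.sum_pow]
  refine Finset.sum_congr rfl fun w _ => ?_
  rw [wt, Finset.prod_pow_eq_pow_sum]

theorem one_add_I_pow (k : ℕ) : (1 + Complex.I) ^ (4 * k + 4) = (((-4 : ℤ) ^ (k + 1) : ℤ) : ℂ) := by
  have h : (1 + Complex.I) ^ 4 = ((-4 : ℤ) : ℂ) := by
    have h2 : (1 + Complex.I) ^ 2 = 2 * Complex.I := by
      ring_nf
      rw [Complex.I_sq]
      ring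
    calc (1 + Complex.I) ^ 4 = ((1 + Complex.I) ^ 2) ^ 2 := by ring
      _ = (2 * Complex.I) ^ 2 := by rw [h2]
      _ = 4 * Complex.I ^ 2 := by ring
      _ = _ := by rw [Complex.I_sq]; push_cast; ring
  rw [show 4 * k + 4 = 4 * (k + 1) by ring, pow_mul, h]
  push_cast
  ring

theorem chi_halfWt {n : ℕ} (w : Fin n → ZMod 2) (hw : w ∈ E n) :
    (Complex.I ^ wt w).re = (chi (halfWt w) : ℝ) := by
  obtain ⟨j, hj⟩ := (even_wt w).1 hw
  rw [halfWt_eq, hj, pow_mul, Complex.I_sq, Nat.mul_div_cancel_left _ (by norm_num)]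
  rcases Nat.even_or_odd j with h | h
  · rw [h.neg_one_pow, chi, if_pos]
    · simp
    · rw [ZMod.natCast_eq_zero_iff]
      exact h.two_dvd
  · rw [h.neg_one_pow, chi, if_neg]
    · simp
    · rw [ZMod.natCast_eq_zero_iff]
      exact fun h' => (Nat.not_even_iff_odd.2 h) (even_iff_two_dvd.2 h')

theorem I_pow_re_odd {n : ℕ} (w : Fin n → ZMod 2) (hw : w ∉ E n) : (Complex.I ^ wt w).re = 0 := by
  rw [even_wt] at hw
  have : Odd (wt w) := by
    rw [← Nat.not_even_iff_odd, even_iff_two_dvd]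
    exact hw
  obtain ⟨j, hj⟩ := this
  rw [hj, pow_succ, pow_mul, Complex.I_sq]
  rcases Nat.even_or_odd j with h | h
  · rw [h.neg_one_pow]; simp
  · rw [h.neg_one_pow]; simp

open scoped Classical in
theorem sum_chi (k : ℕ) : ∑ w : E (4 * k + 4), chi (QE (4 * k + 4) w) = (-4) ^ (k + 1) := by
  have h1 := congrArg Complex.re (sum_I_pow (4 * k + 4))
  rw [one_add_I_pow, Complex.re_sum, Complex.intCast_re] at h1
  have h2 : ∑ w : Fin (4 * k + 4) → ZMod 2, (Complex.I ^ wt w).re =
      ∑ w : E (4 * k + 4), (chi (QE (4 * k + 4) w) : ℝ) := by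
    rw [← Finset.sum_filter_add_sum_filter_not Finset.univ (fun w => w ∈ E (4 * k + 4))]
    rw [Finset.sum_eq_zero (s := Finset.univ.filter fun w => ¬ w ∈ E (4 * k + 4))
      (fun w hw => I_pow_re_odd w (Finset.mem_filter.1 hw).2), add_zero]
    rw [Finset.sum_subtype (p := fun w => w ∈ E (4 * k + 4)) _ (by simp)]
    exact Finset.sum_congr rfl fun w _ => chi_halfWt w.1 w.2
  rw [h2] at h1
  exact_mod_cast h1

open scoped Classical in
theorem sum_chi_card {V : Type*} [Fintype V] (q : V → ZMod 2) :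
    ∑ v, chi (q v) = 2 * (Nat.card {v // q v = 0} : ℤ) - Fintype.card V := by
  have h1 : Nat.card {v // q v = 0} = (Finset.univ.filter fun v => q v = 0).card := by
    rw [Nat.card_eq_fintype_card, Fintype.card_subtype]
  have h2 : ∀ v, chi (q v) = 2 * (if q v = 0 then 1 else 0) - 1 := by
    intro v
    rw [chi]
    split <;> norm_num
  rw [Finset.sum_congr rfl fun v _ => h2 v, Finset.sum_sub_distrib, ← Finset.mul_sum, Finset.sum_boole, h1]
  simp

/-! ### the model -/

/-- A linear map from even weight vectors to a standard space with kernel the all-one line. -/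
theorem exists_C (k : ℕ) : ∃ (V : Submodule (ZMod 2) (E (4 * k + 4))) (p : E (4 * k + 4) →ₗ[ZMod 2] V),
    (∀ v : V, p v = v) ∧ (∀ w, w - (p w : E (4 * k + 4)) ∈ L k) ∧ (∀ w, w ∈ L k → p w = 0) := by
  obtain ⟨V, hV⟩ := Submodule.exists_isCompl (L k)
  refine ⟨V, V.projectionOnto (L k) hV.symm, ?_, ?_, ?_⟩
  · intro v
    exact Submodule.projectionOnto_apply_left hV.symm v
  · intro w
    have h : V.projectionOnto (L k) hV.symm (w - (V.projectionOnto (L k) hV.symm w : E (4 * k + 4))) = 0 := by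
      rw [map_sub, Submodule.projectionOnto_apply_left, sub_self]
    exact (Submodule.projectionOnto_apply_eq_zero_iff hV.symm).1 h
  · intro w hw
    exact (Submodule.projectionOnto_apply_eq_zero_iff hV.symm).2 hw

theorem finrank_E (n : ℕ) (hn : 1 ≤ n) : finrank (ZMod 2) (E n) = n - 1 := by
  obtain ⟨n, rfl⟩ : ∃ m, n = m + 1 := ⟨n - 1, by omega⟩
  let f : (Fin (n + 1) → ZMod 2) →ₗ[ZMod 2] ZMod 2 := ∑ i, LinearMap.proj i
  have hf : ∀ w, f w = ∑ i, w i := fun w => by
    simp [f, LinearMap.sum_apply]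
  have h1 : E (n + 1) = LinearMap.ker f := by
    ext w
    rw [mem_E, LinearMap.mem_ker, hf]
  have h2 : Function.Surjective f := by
    intro a
    refine ⟨Pi.single 0 a, ?_⟩
    rw [hf]
    simp
  have h3 := LinearMap.finrank_range_add_finrank_ker f
  rw [LinearMap.range_eq_top.2 h2, finrank_top, finrank_self, finrank_fin_fun] at h3
  rw [h1]
  omega

theorem one_ne (k : ℕ) : one k ≠ 0 := by
  intro h
  have := congrFun (congrArg Subtype.val h) 0
  exact absurd this (by show (1 : ZMod 2) ≠ 0; decide)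

theorem finrank_L (k : ℕ) : finrank (ZMod 2) (L k) = 1 := finrank_span_singleton (one_ne k)

open scoped Classical in
theorem exists_model (k : ℕ) : ∃ (V : Submodule (ZMod 2) (E (4 * k + 4))) (p : E (4 * k + 4) →ₗ[ZMod 2] V),
    (∀ v : V, p v = v) ∧ (∀ w, w - (p w : E (4 * k + 4)) ∈ L k) ∧ (∀ w, w ∈ L k → p w = 0) ∧
    finrank (ZMod 2) V = 2 * (2 * k + 1) ∧
    (QuadraticMap.polarBilin ((QE (4 * k + 4)).comp V.subtype)).Nondegenerate ∧
    ∑ w : E (4 * k + 4), chi (QE (4 * k + 4) w) = 2 * ∑ v : V, chi (QE (4 * k + 4) v) := by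
  classical
  obtain ⟨V, p, hp1, hp2, hp3⟩ := exists_C k
  have hsub : ∀ w, QE (4 * k + 4) w = QE (4 * k + 4) (p w) := by
    intro w
    have := QE_add_L (p w : E (4 * k + 4)) (w - (p w : E (4 * k + 4))) (hp2 w)
    rwa [add_sub_cancel] at this
  have hker : LinearMap.ker p = L k := by
    ext w
    rw [LinearMap.mem_ker]
    constructor
    · intro h
      have := hp2 w
      rwa [h, Submodule.coe_zero, sub_zero] at this
    · exact hp3 w
  have hsurj : Function.Surjective p := fun v => ⟨v, hp1 v⟩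
  have hdim : finrank (ZMod 2) V = 2 * (2 * k + 1) := by
    have h3 := LinearMap.finrank_range_add_finrank_ker p
    rw [LinearMap.range_eq_top.2 hsurj, finrank_top, hker, finrank_L, finrank_E _ (by omega)] at h3
    omega
  refine ⟨V, p, hp1, hp2, hp3, hdim, ?_, ?_⟩
  · have key : ∀ u : V, (∀ v : V, QuadraticMap.polarBilin ((QE (4 * k + 4)).comp V.subtype) u v = 0) → u = 0 := by
      intro u hu
      have h1 : (u : E (4 * k + 4)) ∈ L k := by
        apply mem_L_of_polar
        intro w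
        have h2 := hu (p w)
        have h3 : QuadraticMap.polarBilin ((QE (4 * k + 4)).comp V.subtype) u (p w) =
            QuadraticMap.polar (QE (4 * k + 4)) u (p w : E (4 * k + 4)) := rfl
        rw [h3] at h2
        rw [QuadraticMap.polar] at h2 ⊢
        have h4 : QE (4 * k + 4) ((u : E (4 * k + 4)) + w) =
            QE (4 * k + 4) ((u : E (4 * k + 4)) + (p w : E (4 * k + 4))) := by
          have := QE_add_L ((u : E (4 * k + 4)) + (p w : E (4 * k + 4))) (w - (p w : E (4 * k + 4))) (hp2 w)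
          rw [← this]
          congr 1
          abel
        rw [h4, hsub w]
        exact h2
      have h5 := hp3 _ h1
      rw [hp1] at h5
      exact h5
    refine ⟨key, ?_⟩
    intro u hu
    apply key
    intro v
    have := hu v
    rw [QuadraticMap.polarBilin_apply_apply, QuadraticMap.polar_comm]
    exact this
  · have h1 : ∑ w : E (4 * k + 4), chi (QE (4 * k + 4) w) =
        ∑ v : V, ∑ w ∈ Finset.univ.filter (fun w => p w = v), chi (QE (4 * k + 4) w) :=
      (Finset.sum_fiberwise Finset.univ p _).symm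
    rw [h1, Finset.mul_sum]
    refine Finset.sum_congr rfl fun v _ => ?_
    have h2 : (Finset.univ.filter (fun w => p w = v)) = {(v : E (4 * k + 4)), (v : E (4 * k + 4)) + one k} := by
      ext w
      simp only [Finset.mem_filter, Finset.mem_univ, true_and, Finset.mem_insert, Finset.mem_singleton]
      constructor
      · intro h
        have h3 := hp2 w
        rw [h, mem_L] at h3
        rcases h3 with h3 | h3
        · left
          exact sub_eq_zero.1 h3
        · right
          rw [← h3]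
          abel
      · rintro (rfl | rfl)
        · exact hp1 v
        · rw [map_add, hp1, hp3 _ ((mem_L _).2 (Or.inr rfl)), add_zero]
    rw [h2, Finset.sum_pair, QE_add_L _ _ ((mem_L _).2 (Or.inr rfl))]
    · ring
    · intro h
      exact one_ne k (by
        have := congrArg (fun t => t - (v : E (4 * k + 4))) h
        simpa using this.symm)

open scoped Classical in
theorem card_V {k : ℕ} (V : Submodule (ZMod 2) (E (4 * k + 4))) (h : finrank (ZMod 2) V = 2 * (2 * k + 1)) :
    Fintype.card V = 2 ^ (2 * (2 * k + 1)) := by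
  rw [Module.card_eq_pow_finrank (K := ZMod 2), h, ZMod.card]

end Cfsg.Agent.H171.SymF2
end

-- part: S2563
section
set_option autoImplicit false
open Cfsg

namespace Cfsg.Agent.S2563

open Module Matrix Cfsg.Agent.H171.SymF2 Cfsg.Agent.ClassicalGeometry.IsoTransfer

/-- the homomorphism attached to a model -/
theorem exists_hom {k : ℕ} (hk : 1 ≤ k) {ι : Type} [Fintype ι] [DecidableEq ι]
    (V : Submodule (ZMod 2) (E (4 * k + 4))) (p : E (4 * k + 4) →ₗ[ZMod 2] V)
    (hp1 : ∀ v : V, p v = v) (hp2 : ∀ w, w - (p w : E (4 * k + 4)) ∈ L k) (hp3 : ∀ w, w ∈ L k → p w = 0)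
    (Q : (ι → ZMod 2) → ZMod 2) (g : V ≃ₗ[ZMod 2] (ι → ZMod 2))
    (hg : ∀ v : V, QE (4 * k + 4) v = Q (g v)) :
    ∃ φ : Equiv.Perm (Fin (4 * k + 4)) →* ↥(Cfsg.isometryGroup (ZMod 2) Q), Function.Injective φ := by
  have hPp : ∀ (σ : Equiv.Perm (Fin (4 * k + 4))) (w : E (4 * k + 4)), p (P σ (p w : E (4 * k + 4))) = p (P σ w) := by
    intro σ w
    have h1 : P σ w = P σ (p w : E (4 * k + 4)) + (w - (p w : E (4 * k + 4))) := by
      rw [← P_L σ _ (hp2 w), ← map_add]
      congr 1
      abel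
    rw [h1, map_add, hp3 _ (hp2 w), add_zero]
  have hQp : ∀ w, QE (4 * k + 4) (p w : E (4 * k + 4)) = QE (4 * k + 4) w := by
    intro w
    have := QE_add_L (p w : E (4 * k + 4)) (w - (p w : E (4 * k + 4))) (hp2 w)
    rw [add_sub_cancel] at this
    exact this.symm
  let ρ : Equiv.Perm (Fin (4 * k + 4)) →* Module.End (ZMod 2) V :=
    { toFun := fun σ => p ∘ₗ P σ ∘ₗ V.subtype
      map_one' := by
        ext1 v
        exact hp1 v
      map_mul' := fun σ τ => by
        ext1 v
        show p (P (σ * τ) v) = p (P σ (p (P τ v) : E (4 * k + 4)))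
        rw [P_mul, hPp] }
  have hρ : ∀ σ (v : V), ρ σ v = p (P σ v) := fun σ v => rfl
  let M : Equiv.Perm (Fin (4 * k + 4)) →* Matrix ι ι (ZMod 2) :=
    ((LinearMap.toMatrixAlgEquiv' (R := ZMod 2) (n := ι)).toMonoidHom.comp
      (g.conjRingEquiv : Module.End (ZMod 2) V →* Module.End (ZMod 2) (ι → ZMod 2))).comp ρ
  have hM : ∀ σ (x : ι → ZMod 2), M σ *ᵥ x = g (ρ σ (g.symm x)) := by
    intro σ x
    have : M σ = LinearMap.toMatrixAlgEquiv' (R := ZMod 2) (n := ι) (g.conjRingEquiv (ρ σ)) := rfl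
    rw [this, ← Matrix.toLin'_apply]
    have h2 : Matrix.toLin' (LinearMap.toMatrixAlgEquiv' (R := ZMod 2) (n := ι) (g.conjRingEquiv (ρ σ))) =
      g.conjRingEquiv (ρ σ) := Matrix.toLin'_toMatrix' _
    rw [h2]
    rfl
  refine ⟨(M.toHomUnits).codRestrict (isometryGroup (ZMod 2) Q)
    (fun σ => mem_isometryGroup_iff.2 (fun u => ?_)), ?_⟩
  · show Q (M σ *ᵥ u) = Q u
    rw [hM, ← hg, hρ, hQp, QE_P, hg, LinearEquiv.apply_symm_apply]
  · rw [injective_iff_map_eq_one]
    intro σ hσ
    have h1 : M σ = 1 := congrArg (fun t : ↥(isometryGroup (ZMod 2) Q) =>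
      ((t : Matrix.GeneralLinearGroup ι (ZMod 2)) : Matrix ι ι (ZMod 2))) hσ
    have h2 : ∀ v : V, ρ σ v = v := by
      intro v
      have := hM σ (g v)
      rw [h1, one_mulVec, LinearEquiv.symm_apply_apply] at this
      exact (g.injective this).symm
    have h3 : ∀ w : E (4 * k + 4), P σ w - w ∈ L k := by
      intro w
      have h4 := h2 (p w)
      rw [hρ, hPp] at h4
      have h5 := hp2 (P σ w)
      rw [h4] at h5
      have h6 := Submodule.sub_mem _ h5 (hp2 w)
      have h7 : P σ w - w = P σ w - (p w : E (4 * k + 4)) - (w - (p w : E (4 * k + 4))) := by abel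
      rw [h7]
      exact h6
    -- two letters
    have h4 : ∀ i j : Fin (4 * k + 4), i ≠ j → (σ i = i ∨ σ i = j) := by
      intro i j hij
      by_contra hcon
      push Not at hcon
      have h5 := h3 (pair i j)
      rw [P_pair, mem_L] at h5
      -- find a letter outside `i, j, σ i, σ j`
      have hcard : ∃ l : Fin (4 * k + 4), l ∉ ({i, j, σ i, σ j} : Finset (Fin (4 * k + 4))) := by
        by_contra hall
        push Not at hall
        have h6 : (Finset.univ : Finset (Fin (4 * k + 4))) ⊆ {i, j, σ i, σ j} := fun l _ => hall l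
        have h7 := Finset.card_le_card h6
        have h8 : ({i, j, σ i, σ j} : Finset (Fin (4 * k + 4))).card ≤ 4 := Finset.card_le_four
        rw [Finset.card_univ, Fintype.card_fin] at h7
        omega
      obtain ⟨l, hl⟩ := hcard
      simp only [Finset.mem_insert, Finset.mem_singleton, not_or] at hl
      have hval : ∀ a b c : Fin (4 * k + 4), (pair a b : E (4 * k + 4)).1 c =
          (if c = a then 1 else 0) + (if c = b then 1 else 0) := by
        intro a b c
        show (Pi.single a 1 + Pi.single b 1 : Fin (4 * k + 4) → ZMod 2) c = _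
        simp only [Pi.add_apply, Pi.single_apply]
      rcases h5 with h5 | h5
      · -- equality
        have h6 := congrFun (congrArg Subtype.val (sub_eq_zero.1 h5)) (σ i)
        rw [hval, hval, if_pos rfl, if_neg (fun h => hij (σ.injective h)), if_neg hcon.1, if_neg hcon.2] at h6
        exact absurd h6 (by decide)
      · have h6 := congrFun (congrArg Subtype.val h5) l
        have h7 : ((pair (σ i) (σ j) : E (4 * k + 4)) - (pair i j : E (4 * k + 4))).1 l =
          (pair (σ i) (σ j) : E (4 * k + 4)).1 l - (pair i j : E (4 * k + 4)).1 l := rfl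
        rw [h7, hval, hval, if_neg hl.2.2.1, if_neg hl.2.2.2, if_neg hl.1, if_neg hl.2.1] at h6
        exact absurd h6 (by show (0 + 0 - (0 + 0) : ZMod 2) ≠ 1; decide)
    ext1 i
    rw [Equiv.Perm.one_apply]
    have hcard : ∃ j l : Fin (4 * k + 4), i ≠ j ∧ i ≠ l ∧ j ≠ l := by
      have h5 : 2 < (Finset.univ : Finset (Fin (4 * k + 4))).card := by
        rw [Finset.card_univ, Fintype.card_fin]; omega
      have h6 : 1 < (Finset.univ.erase i : Finset (Fin (4 * k + 4))).card := by
        rw [Finset.card_erase_of_mem (Finset.mem_univ i), Finset.card_univ, Fintype.card_fin]; omega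
      obtain ⟨j, hj, l, hl, hjl⟩ := Finset.one_lt_card.1 h6
      exact ⟨j, l, (Finset.ne_of_mem_erase hj).symm, (Finset.ne_of_mem_erase hl).symm, hjl⟩
    obtain ⟨j, l, hij, hil, hjl⟩ := hcard
    rcases h4 i j hij with h5 | h5
    · exact h5
    · rcases h4 i l hil with h6 | h6
      · exact h6
      · exact absurd (h5.symm.trans h6) hjl

/-- For k ≥ 1 the symmetric group of degree 4k + 4 embeds in a full orthogonal group in dimension 4k + 2 over the field of two elements: in the isometry group of the plus-type form Σ xᵢyᵢ when k is odd, and in that of the minus-type form Σ xᵢyᵢ + (z₁² + z₁z₂ + z₂²) when k is even (through its action on even partitions of a (4k+4)-set, with the form 'half the size of a part, modulo 2'). -/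
theorem result (k : ℕ) (hk : 1 ≤ k) :
    (Odd k → ∃ φ : Equiv.Perm (Fin (4 * k + 4)) →* ↥(Cfsg.isometryGroup (ZMod 2) (Cfsg.quadFormPlus (2 * k + 1) (ZMod 2))), Function.Injective φ) ∧
    (Even k → ∃ φ : Equiv.Perm (Fin (4 * k + 4)) →* ↥(Cfsg.isometryGroup (ZMod 2) (Cfsg.quadFormMinus (2 * k) (ZMod 2) 1 1)), Function.Injective φ) := by
  classical
  obtain ⟨V, p, hp1, hp2, hp3, hdim, hnd, hsum⟩ := exists_model k
  rw [sum_chi, sum_chi_card, card_V V hdim] at hsum
  have hcard : ∀ {ι : Type} [Fintype ι] [DecidableEq ι] (Q : (ι → ZMod 2) → ZMod 2)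
      (g : V ≃ₗ[ZMod 2] (ι → ZMod 2)), (∀ v : V, QE (4 * k + 4) v = Q (g v)) →
      Nat.card {v : V // QE (4 * k + 4) v = 0} = Nat.card {v : ι → ZMod 2 // Q v = 0} := by
    intro ι _ _ Q g hg
    exact Nat.card_congr (g.toEquiv.subtypeEquiv fun v => by rw [hg]; rfl)
  have hpow : ((2 ^ (2 * (2 * k + 1)) : ℕ) : ℤ) = 4 * (2 ^ (2 * k)) ^ 2 := by
    push_cast
    rw [← pow_mul, show 2 * (2 * k + 1) = 2 + 2 * k * 2 by ring, pow_add]; norm_num
  have hpow2 : (2 : ℤ) ^ (2 * k) = 4 ^ k := by rw [pow_mul]; norm_num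
  have hpos : (0 : ℤ) < 2 ^ (2 * k) := by positivity
  rcases H174.exists_std (by omega) hdim ((QE (4 * k + 4)).comp V.subtype) hnd with ⟨g, hg⟩ | ⟨ζ, g, hζ, hg⟩
  · have hc := hcard _ g hg
    have hz := Cfsg.Agent.S0289.result (F := ZMod 2) (q := 2) (ZMod.card 2) (2 * k + 1) (by omega)
    rw [← hc] at hz
    refine ⟨fun _ => exists_hom hk V p hp1 hp2 hp3 _ g hg, fun hev => ?_⟩
    exfalso
    have h1 : ((2 ^ (2 * (2 * k + 1) - 1) + 2 ^ (2 * k + 1) - 2 ^ (2 * k + 1 - 1) : ℕ) : ℤ) =
        2 * (2 ^ (2 * k)) ^ 2 + 2 ^ (2 * k) := by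
      rw [show 2 * (2 * k + 1) - 1 = 1 + 2 * k * 2 by omega, show 2 * k + 1 - 1 = 2 * k by omega, pow_add, pow_mul,
        pow_succ 2 (2 * k)]
      rw [Nat.cast_sub (by nlinarith [Nat.pow_pos (n := 2 * k) (show 0 < 2 by norm_num)])]
      push_cast
      ring
    rw [hz, h1, hpow, neg_pow, pow_succ, hev.neg_one_pow, pow_succ, ← hpow2] at hsum
    nlinarith
  · have hζ1 : ζ = 1 := by
      have : ∀ z : ZMod 2, (∀ t : ZMod 2, t ^ 2 + t + z ≠ 0) → z = 1 := by decide
      exact this ζ hζ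
    subst hζ1
    let g' : V ≃ₗ[ZMod 2] ((Fin (2 * k) ⊕ Fin (2 * k)) ⊕ Fin 2 → ZMod 2) := g
    have hg' : ∀ v : V, QE (4 * k + 4) v = Cfsg.quadFormMinus (2 * k) (ZMod 2) 1 1 (g' v) := hg
    have hc := hcard _ g' hg'
    have hz : Nat.card {v : (Fin (2 * k) ⊕ Fin (2 * k)) ⊕ Fin 2 → ZMod 2 //
        Cfsg.quadFormMinus (2 * k) (ZMod 2) 1 1 v = 0} = 2 ^ (2 * (2 * k + 1) - 1) + 2 ^ (2 * k + 1 - 1) - 2 ^ (2 * k + 1) :=
      Cfsg.Agent.S0290.result (F := ZMod 2) (q := 2) (ZMod.card 2) (2 * k + 1) (by omega) 1 1 (by decide)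
    rw [← hc] at hz
    refine ⟨fun hodd => ?_, fun _ => exists_hom hk V p hp1 hp2 hp3 _ g' hg'⟩
    exfalso
    have h1 : ((2 ^ (2 * (2 * k + 1) - 1) + 2 ^ (2 * k + 1 - 1) - 2 ^ (2 * k + 1) : ℕ) : ℤ) =
        2 * (2 ^ (2 * k)) ^ 2 - 2 ^ (2 * k) := by
      rw [show 2 * (2 * k + 1) - 1 = 1 + 2 * k * 2 by omega, show 2 * k + 1 - 1 = 2 * k by omega, pow_add, pow_mul,
        pow_succ 2 (2 * k)]
      rw [Nat.cast_sub (by nlinarith [Nat.pow_pos (n := 2 * k) (show 0 < 2 by norm_num)])]
      push_cast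
      ring
    rw [hz, h1, hpow, neg_pow, pow_succ, hodd.neg_one_pow, pow_succ, ← hpow2] at hsum
    nlinarith

end Cfsg.Agent.S2563
end
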