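import Cfsg.Agent.H899.J2Words
import Mathlib
import Cfsg.Agent.SporRec.G24Upper
import Cfsg.Statements.S5746
import Cfsg.Agent.SporRec.G24Match
import Cfsg.Agent.ChevStructure.FieldMap
set_option linter.all false

-- part: H899/Orb416
section
/-!
Certified orbit data on the 416 points: spanning trees of the orbits of some subgroups.
-/

set_option autoImplicit false

namespace Cfsg.Agent.H899.Orb416

open Cfsg.Agent.H899.Perm416

/-- a spanning forest: `ws` the words used as generators, packed tables of labels, parents, generator
indices and depths, and the list of roots -/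
structure Tree where
  ws : ℕ → List (Fin 6)
  lab : ℕ
  par : ℕ
  gn : ℕ
  dp : ℕ
  rt : ℕ → ℕ

/-- the label (`7` outside the domain) -/
def Tree.L (t : Tree) (p : ℕ) : ℕ := look t.lab p

/-- the check at a point -/
def Tree.okAt (t : Tree) (p : ℕ) : Bool :=
  Bool.or (Nat.beq (t.L p) 7) (Bool.or (Nat.beq p (t.rt (t.L p)))
    (Bool.and (Nat.beq (wk (t.ws (look t.gn p)) (look t.par p)) p)
      (Bool.and (Nat.blt (look t.dp (look t.par p)) (look t.dp p))
        (Bool.and (Nat.beq (t.L (look t.par p)) (t.L p)) (Nat.blt (look t.par p) 416)))))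

/-- all roots have the right label -/
def Tree.ok (t : Tree) : Bool := allQ t.okAt

theorem Tree.mem_iff (t : Tree) (ht : t.ok = true) (B : Set ℕ)
    (hB : ∀ i, ∀ p, p < 416 → (p ∈ B ↔ wk (t.ws i) p ∈ B)) :
    ∀ p, p < 416 → t.L p ≠ 7 → (p ∈ B ↔ t.rt (t.L p) ∈ B) := by
  have key : ∀ n p, look t.dp p = n → p < 416 → t.L p ≠ 7 → (p ∈ B ↔ t.rt (t.L p) ∈ B) := by
    intro n
    induction n using Nat.strong_induction_on with
    | _ n ih =>
      intro p hn hp h7
      have h := allQ_spec ht p hp
      unfold Tree.okAt at h
      simp only [Bool.or_eq_true, Bool.and_eq_true] at h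
      rcases h with h | h | ⟨h1, h2, h3, h4⟩
      · exact absurd (Nat.eq_of_beq_eq_true h) h7
      · rw [← Nat.eq_of_beq_eq_true h]
      · have h1 := Nat.eq_of_beq_eq_true h1
        have h3 := Nat.eq_of_beq_eq_true h3
        have h2' : look t.dp (look t.par p) < look t.dp p := Nat.le_of_ble_eq_true h2
        have h4' : look t.par p < 416 := Nat.le_of_ble_eq_true h4
        have := ih _ (hn ▸ h2') (look t.par p) rfl h4' (by rw [h3]; exact h7)
        rw [h3] at this
        rw [← this, hB (look t.gn p) _ h4', h1]
  intro p hp h7
  exact key _ p rfl hp h7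

/-- words -/
def wsA : ℕ → List (Fin 6) := fun
  | 0 => [0]
  | 1 => [1]
  | 2 => [2]
  | 3 => [3]
  | 4 => [4]
  | 5 => [5]
  | _ => []

/-- roots -/
def rtA : ℕ → ℕ := fun
  | 0 => 0
  | _ => 0

/-- the forest `A` -/
def tA : Tree where
  ws := wsA
  lab := 0x0
  par := 0xa89c2e45a70d7f306fbde5dc19eb01b71167301b92c59bb5d5b67b40a5708c05fdeaf354c6e1af8843319cd171c80f0763a28a1acc7c4622ed56b45224fee672b04b79cb2d84b87141dfefd59ad5f72f59c2a89acd748541b0d9a5d3e2d4b4bd128d47a35366ab8a10b69d158a4f53ad39c4e68f369b4d668fe69261311d1921db4e2904827ab97b44170a96130e409e8f42843098446ccb028b3362d1592c45a2f6a1c36182f73880381b180b856ee30a713ab97f19e3efb8fc3a1ef79825238ab7a3cdeaef7ac6a4ee529a504e8e14b9dcca46aa35b2e14baa4eea943aa9548d4835da8d779b4da4cd67335d8ed7e3edf4657c3ba4cec613b1cac14aa05aca37f2e5a6d45c33d9d4c9f531bafd572b4488f128452efc6a28d48a37f1a0bedf3abe2207a4e52d60af4b36d2c8e089f4208f0809824d845224fe7e15168f43a1e194f60e3f0381e7d3e1ecf4777dbe8ec8239174b85b4522cdc6b70a31166743144cc8432184c03b30310b8862d164a62a498d0a41309834703d1f1a8d84b251a4d23d231d4e84f358fc80a41f1a0783b448e4aa37198a41e12060a03e18158585c1a0a83826160e8744c25130743e2f038500a1b0d01816070282812040603c240f13034280b018241002028540808010040000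
  gn := 0x8140205028040205008080a01008140201028140a05008040a05028140205028040201008040205028140a00000140a05028140205028140201028140a05028140a01008040a05028000001008000002000140a05028040a050080c00030000408030100c08050181004040180802050180c0201018080600028000a030201402010280000010281406040201004010100c0803018080401010040602010080601010080604028100804020100800000140a050100406030080402010100804030100c0603008040201028140a050200c04050101404030281402020181406030100c06010080c04050100c0000028140a000281402050100c06040201008050280c00000081008040180800020100c0805020100602028100602018100801010000000008140201008080603028140a030201008020100c0405020040a00020140605018100803010040603000000201018100804020100603008040203000000201010080200018040403018080605008040605020100201020000402018100004010000003000100601008080403008040402018140a050200c08030100c04040180000010200806020281404010181006010100c0801028080403008000203008040402018000200000040202010040a00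
  dp := 0x6830180a0703c1c0d060341e0d0703c1a0c06838180907034160c068341c0d070341c0e068381a0c058301a0e06834180b0502c1a0b06834180d0602c140a05830160b06034180d070381e0e078381a0e078381c0d06038180d0703c1c0e0684020110803c1e0f05024200f080381a0d0884822100803c1c0d070381c0a048281a0c0783c1c0e058301e0e068381e0e05828120b0502c180f070341c0f080401e0b058281208048241409048200e0d070381a0e06830180d0602c180c05828180a058301a0e06830180b04028100904024140f0782c1a0e068381c0e05030180b060341c0d060341c0d07034180d07034180c068341a0c06830160c068341c0e068381a0e0783c1c0f0783c1e0d0602c140b0482c1a0e070381e0e068341c0e07034180d070381c0d0602c180905828140b05020140c0602c1409048281a0b06830180804820120a058301a0e068301a0d07034180b060341c0f070341a0c05828160c068381a0c06834180b0502410090602c10070381c120e070382010078381c0e078381c0f0783c200f070341a0c05828120803820120a0302010080381c1008030200e070381c10090401c1008038180c090401c0a07030180a050302414090401c0c05020140803030180a04018080200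
  rt := rtA

theorem okA : tA.ok = true := by decide +kernel

theorem cardA_0 : (Finset.univ.filter fun p : Fin 416 => tA.L p = 0).card = 416 := by
  decide +kernel

/-- words -/
def wsJ : ℕ → List (Fin 6) := fun
  | 0 => [0]
  | 1 => [1]
  | 2 => [2]
  | 3 => [3]
  | 4 => [4]
  | _ => []

/-- roots -/
def rtJ : ℕ → ℕ := fun
  | 0 => 0
  | 1 => 1
  | 2 => 52
  | _ => 0

/-- the forest `J` -/
def tJ : Tree where
  ws := wsJ
  lab := 0x10080402010080402010080402010080402010080402010080402010080402010080402010080402010080402010080402010080402010080402010080402010080402010080402010080402010080402010080402010080402008040201008040201008040201008040201008040201008040201008040201008040201008080402008040201008040201008040201008040201008040201008040201008040201008040201010040201008040201008040201008040201008040201008040201008040201008040201010040201008040201008080201008040201008080201008040201008040201008040201008040201008040201008040201008040201008040201008040201008040201008040202008040201008040201008040201008040201008040201008040201010080401008040201008040202008040201008040202008040201008040201008040201008040201008040201008040201008040201008040201008040201008040202010080202008040201008040201008040201008040201008040201008040201008040201008080402008040201008040201008040201008040201008040201008040201008040201008040201008040201008040201008040201008040201008040200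
  par := 0x96663158ca857ed96bbedfb3799cd6571167c8dbb12ebbb62e5d70c4636e366c361eab54c6dfefd8fbe63ead77c8646ed75ba5d72092a8dbed56bb75a5110bb459f399cb258ee35fc05febd5bad576b55dab602a953564b5c4daa5d3e2d4b4bc628d47a35366b00a10b69d158a4f53b339c4e68f369b4d668fe9a261331d19160ae56944827ab97531d70a96130e409e8f42843098446ccb178b3362d1592c45a2f6a1c36182f1b080381b180b856ee30c0632ff7f19e3efb8fc3a1ef79825238ab7a3cdeaef7ac6a4ee52a3a0442314b9dcce36a8d1b2e162374eea943a4d548d4835da8d779b4da4f067335d8ed66410c865643bd8cc3613b1cac14aa05acd53cae5a6d45c33d9d4c9f531bafd572b44891128452efc42a8d48a37f1a0be5e3abe2207a4e2a160af4b36d2c8e1a0d46a8f0809824d845224fe8015168c23a1e3e4f6353f0381e7d3e1ecf4777dbe8ec8239174b85b4522cdc6b70a31166743144cc8432184c03b30174b8862d164a6342b0d0a43609834703d1f1a8d84b251a4d23d231d4e84f358fc80a41f1a0783b448e4aa37198d46834060a03e18158585c1a0a83826160e8744c251485c3e2f038500a1b0d01816070302812040603c240f13034280b018241002028540808010040200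
  gn := 0x180c08020100408040181006030181002010181004030080c06020180c08040201008010080c04020181008030000006020181006030100c02010100806030100c06010180804030000006030080806040100c06020180c06030080c00030000808030100c08020181004040180802030180c02010180806000100000030201008040180000010100c06040201004010100c08030180804030100406020100806010100806040201008040201008000000806030100406030080402010100804030100c06030080402010200c08040200c04030101004030200802020181006030100c06010080c04020100c00000080400000100006030100c06040201008040200c00000081008040180800020100c08040201006020201006020181008040100000000080402010080806030181006030201008020100c04040200406000200006020181008030100406030000002010181008040201006030080402030000002010100802000180c04030180806020100406000201002010200004020181000040100000030001006010080804030080404020180400000200c08030100c04040180000010200806020080c04010181006010100c0801000080403008000203008040402018000200000040202010040000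
  dp := 0x181c1206020200e060401c0a08048180a06030140805038200604028141007030180e06028180e070401c1008038180e08048200e03018100c06028140804028180e07040241008038180e0a0482012080401c0c05020100403068381a0d0603c1e10078381c0e048201e0e07834180e08044200f078381a0c068341c09040080602070381a0d050341c0d060341c0d05024100a04828160e068301a0e0783c1c0a0502410070182012080401c0c0c06834180d0602c160c05828160b0502416090502c180d0602c160a02024100803820120f07004180d070381a0d04808160a058301a0c058301a0e06830160c06834180b060341c0d0602c140b060301a0e06834180d070381a0e070381c0c05828120304028180d070341c0d060301a0d06830160c068381a0c05828160800808040a0481c120b058281203040241a0a0603016020401c10090502c180d0602c180d06830160a058301a0e06830180b05024140b06034180b06030160a048200e01010040e0303018100d068341e0f070341a0d070341c0e070381e0e06830180b0502410070300802000281c0e07030180e070281c0c06030180e080381c0e07030140a08038180806030140804028201208038180a04018100602028140803010040000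
  rt := rtJ

theorem okJ : tJ.ok = true := by decide +kernel

theorem cardJ_0 : (Finset.univ.filter fun p : Fin 416 => tJ.L p = 0).card = 1 := by
  decide +kernel

theorem cardJ_1 : (Finset.univ.filter fun p : Fin 416 => tJ.L p = 1).card = 315 := by
  decide +kernel

theorem cardJ_2 : (Finset.univ.filter fun p : Fin 416 => tJ.L p = 2).card = 100 := by
  decide +kernel

/-- words -/
def wsL1 : ℕ → List (Fin 6) := fun
  | 0 => [1, 0, 1]
  | 1 => [0, 1, 3, 2]
  | 2 => [1, 4, 3, 2, 3, 4, 1]
  | _ => []

/-- roots -/
def rtL1 : ℕ → ℕ := fun
  | 0 => 52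
  | 1 => 53
  | 2 => 218
  | _ => 0

/-- the forest `L1` -/
def tL1 : Tree where
  ws := wsL1
  lab := 0x80802020080402020100402010100404010080404010080802010100402010100404010080802020080402010100402010100802010100402020080404010100404010080804020100802010100402020080404010100404020381c0e070381c0e070381c0e070381c0e070381c0e070381c0e070381c0e070381c0e070380402020381c0e070381c0e070381c0e070381c0e070381c0e070381c0e070381c0e070381c0e070101c0e070381c0e070381c0e070381c0e070381c0e070381c0e070381c0e070381c0e070081c0e070381c0e07038080e070381c0e07038080e070381c0e070381c0e070381c0e070381c0e070381c0e070381c0e070381c0e070381c0e070381c0e070381c0e070381c0e010381c0e070381c0e070381c0e070381c0e070381c0e070381c0e070080402070381c0e070381c0e010381c0e070381c0e010381c0e070381c0e070381c0e070381c0e070381c0e070381c0e070381c0e070381c0e070381c0e070381c0e01008040e010381c0e070381c0e070381c0e070381c0e070381c0e070381c0e070381c0e070380402000381c0e070381c0e070381c0e070381c0e070381c0e070381c0e070381c0e070381c0e070381c0e070381c0e070381c0e070381c0e070381c0e07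
  par := 0x9765ee361c06172d60aad5aac54aa95f1579c595ad888ba637196ba8e2c6b82c9e4b3194ad5b2a972b30d8b166b3daed59abf606ad2dc8e42ff69c05f5b4ebb15932390cadcf0753aae37115dac5eb1f62c166aa19ab4ab2a0e2000000000000000000000000000000000000000000000000000000000000000000000000004b7376f000000000000000000000000000000000000000000000000000000000000000000000000960000000000000000000000000000000000000000000000000000000000000000000000c400000000000000000036800000000000000036800000000000000000000000000000000000000000000000000000000000000000000000000000000000000000000000000000880000000000000000000000000000000000000000000000000000001b4b4ae000000000000000001540000000000000000910000000000000000000000000000000000000000000000000000000000000000000000000000000000000000542c0d80035000000000000000000000000000000000000000000000000000000000000000000d46a34000000000000000000000000000000000000000000000000000000000000000000000000000000000000000000000000000000000000000000000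
  gn := 0x8040201000040001010040002000080201008080201008080401008080402008040201008000401010080400000080402008040401000040001008040201008040200010040201008000401008040202008040200000040401000000000000000000000000000000000000000000000000000000000000000000000000000000201000000000000000000000000000000000000000000000000000000000000000000000000000000000000000000000000000000000000000000000000000000000000000000000000008000000000000000000080000000000000000000000000000000000000000000000000000000000000000000000000000000000000000000000000000000000000000000000000000000000000000000000000000000000000000000000000000000008080200000000000000000001000000000000000000000000000000000000000000000000000000000000000000000000000000000000000000000000000000000001000000000000000000000000000000000000000000000000000000000000000000000000000040000000000000000000000000000000000000000000000000000000000000000000000000000000000000000000000000000000000000000000000000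
  dp := 0x38140a07020080a04020100802020100a040280c0605020100c05020140206028140a030200c0807038080607038140c03020180806030140a02020140207030180c05028140c03020100c070380c0c060300c0603010180602000000000000000000000000000000000000000000000000000000000000000000000000000180a07000000000000000000000000000000000000000000000000000000000000000000000000040000000000000000000000000000000000000000000000000000000000000000000000030000000000000000000040000000000000000000000000000000000000000000000000000000000000000000000000000000000000000000000000000000000000000000000005000000000000000000000000000000000000000000000000000000010180800000000000000000004000000000000000005000000000000000000000000000000000000000000000000000000000000000000000000000000000000000002018080001000000000000000000000000000000000000000000000000000000000000000000040000000000000000000000000000000000000000000000000000000000000000000000000000000000000000000000000000000000000000000000000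
  rt := rtL1

theorem okL1 : tL1.ok = true := by decide +kernel

theorem cardL1_0 : (Finset.univ.filter fun p : Fin 416 => tL1.L p = 0).card = 1 := by
  decide +kernel

theorem cardL1_1 : (Finset.univ.filter fun p : Fin 416 => tL1.L p = 1).card = 63 := by
  decide +kernel

theorem cardL1_2 : (Finset.univ.filter fun p : Fin 416 => tL1.L p = 2).card = 36 := by
  decide +kernel

/-- words -/
def wsL2 : ℕ → List (Fin 6) := fun
  | 0 => [0]
  | 1 => [2]
  | 2 => [3]
  | 3 => [4]
  | 4 => [1, 0, 1, 0, 2, 1, 3, 2, 3, 1, 0, 1, 2, 0, 1]
  | _ => []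

/-- roots -/
def rtL2 : ℕ → ℕ := fun
  | 0 => 1
  | 1 => 2
  | 2 => 5
  | 3 => 9
  | 4 => 14
  | 5 => 24
  | _ => 0

/-- the forest `L2` -/
def tL2 : Tree where
  ws := wsL2
  lab := 0x381c0e070381c0e070381c0e070381c0e070381c0e070381c0e070381c0e070381c0e070381c0e070381c0e070381c0e070381c0e070381c0e070381c0e070381c0e070381c0e070381c0e070381c0e070381c0e070381c0e070180c06020100c06030180c04020180c0603018080402028140a050100804020100804020281c0e070100804020100804020100804020100804020100804030180c06030100804020180c06030380804020280c06020100804020100804020100804020100804020100804020100804020380804020201008020101c08040100804020201c08040201004020100804020100804020100804020100804020100808040201008020100804020100804020100804020100804070101004020100804020101008040200804020100804020101008020381c0e040200808040201008070201004040200808070201008040200804020100808040201008040201008010080402040201004020100804040201008040201008070381c02070200408010200402010080402040201008040080402010081008040201002010081c0e070081404050180c06020181008050100804020100804020100404020100802050100c06010201008040201002010080c0601010080401008040007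
  par := 0x8353e18b43cd02870e8bd366100a10b6810da02b6153383cbe753b9b3fe688e18b30c51d190000000944a55709754f2372b6130d993d8f42843098446e031782d0a2d4f92ae9a2d3a1c36182f00080381b180b856cc9a40e00ff13bfd86d27e3ecc8ca9b25238ab7a33deb1e783b55ced003a0442314b9dccd272001b26d81c86412b43801548d482f5d4d3690b1d0cf9f4a55f1c99b2d94c793315e8c3944f4dabf732f51ebb843a5752576b3d9cb39f2ce54af572b448001284648d19e25149337f229409f4398d64a85b98596ed5436d2c8e00000008f0809824d81f224fe0015224c26624278ba003f0381e7d3e1e576ba3c37cfa754f974b86f2c9bd5437361a43c46331fe3263313fdfc676c1748e755e964a60000000a40009835b63322124d8692514832473f11c8c473615470492827c907c1e144aa37198000000060c03e1804854141a0a83854180e87448051205c3e06038500a070e8181618038281203070a8260f070381002018241202028140a08010080200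
  gn := 0x200808030201008040200808010100c04040081008020201004020101004040200c08020180000000100808040080c08010180c08020080806020100404020201004040081004030080404030000c06030180c06020180806020200408030100408040200402020081004040100808010000806030180802040100002030200c06030100004020080c08010101008020201008040180802010100808020201008020200808020201004020200c06010100c06020080806000180c06030081004040101002020201008020181008030200404020000000020180c06010200802000181004020080408000100c06020080806030101008020180c06020200408040100808040081002010100c06030200808040200404000000004000180c08040100802040101008020200404030201008040101006040100802010100000000180406020201008030100004040180402040100802040100c0404020080600008040204010040802008000804010000000000040001008000000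
  dp := 0x20140606030140a05028100c050200c0a040280c0805018100a04028100a04020180a05018000000028140804028180a06030180c05028100804020140c05020100a05030180a060281006020000c06030100c0606028180a04018100c050301c0e07028140a04028140c05030140805000100803018100a05030000a050301c0c06018000804028140a06028100805020140a05028180e08038180a06028140a06028140805020140c06028140c05020140c050200c04000180c0e05030140c05028140a04018180c06030180c05030100a040000000040180c0605028100600010100c040201c0800010040403020180a060381c0604020100a050201408040281408040200c0e06028100a050281006040281006000000008000100c0803020140a050281008030100c0803028140a05020100804028140a040180000000100806010080804030100404010100804010100c06020100c0202010080600010080202008080402008000401010040001008040002008000000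
  rt := rtL2

theorem okL2 : tL2.ok = true := by decide +kernel

theorem cardL2_0 : (Finset.univ.filter fun p : Fin 416 => tL2.L p = 0).card = 1 := by
  decide +kernel

theorem cardL2_1 : (Finset.univ.filter fun p : Fin 416 => tL2.L p = 1).card = 32 := by
  decide +kernel

theorem cardL2_2 : (Finset.univ.filter fun p : Fin 416 => tL2.L p = 2).card = 160 := by
  decide +kernel

theorem cardL2_3 : (Finset.univ.filter fun p : Fin 416 => tL2.L p = 3).card = 32 := by
  decide +kernel

theorem cardL2_4 : (Finset.univ.filter fun p : Fin 416 => tL2.L p = 4).card = 80 := by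
  decide +kernel

theorem cardL2_5 : (Finset.univ.filter fun p : Fin 416 => tL2.L p = 5).card = 10 := by
  decide +kernel

end Cfsg.Agent.H899.Orb416
end

-- part: H899/BlockCrit
section
/-!
A block-size criterion for the maximality of a point stabiliser, and a homomorphism given by a subgroup of
a direct product.
-/

set_option autoImplicit false

namespace Cfsg.Agent.H899.BlockCrit

open MulAction

/-- the graph of a map on generators that extends to a homomorphism because the graph is small -/
theorem exists_hom {G K : Type*} [Group G] [Group K] {n : ℕ} (x : Fin n → G) (y : Fin n → K)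
    (hx : Subgroup.closure (Set.range x) = ⊤) (N : ℕ) (hN : N ≤ Nat.card G)
    (hfin : Finite (Subgroup.closure (Set.range fun i => (x i, y i))))
    (hcard : Nat.card (Subgroup.closure (Set.range fun i => (x i, y i))) ≤ N) :
    Finite G ∧ Nat.card G = N ∧ ∃ φ : G →* K, ∀ i, φ (x i) = y i := by
  set D := Subgroup.closure (Set.range fun i => (x i, y i)) with hD
  let f : D →* G := (MonoidHom.fst G K).comp D.subtype
  have hsurj : Function.Surjective f := by
    rw [← MonoidHom.range_eq_top]
    have h1 : f.range = D.map (MonoidHom.fst G K) := by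
      rw [MonoidHom.range_comp, Subgroup.range_subtype]
    rw [h1, hD, MonoidHom.map_closure, ← Set.range_comp]
    exact hx
  have hG : Finite G := Finite.of_surjective f hsurj
  have h2 : Nat.card G ≤ Nat.card D := Nat.card_le_card_of_surjective f hsurj
  have h3 : Nat.card G = N := le_antisymm (h2.trans hcard) hN
  have hbij : Function.Bijective f := by
    rw [Nat.bijective_iff_surjective_and_card]
    exact ⟨hsurj, le_antisymm (hcard.trans hN) h2⟩
  let e : D ≃* G := MulEquiv.ofBijective f hbij
  refine ⟨hG, h3, ((MonoidHom.snd G K).comp D.subtype).comp e.symm.toMonoidHom, fun i => ?_⟩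
  have hmem : (x i, y i) ∈ D := Subgroup.subset_closure ⟨i, rfl⟩
  have h4 : e ⟨(x i, y i), hmem⟩ = x i := rfl
  have h5 : e.symm (x i) = ⟨(x i, y i), hmem⟩ := (MulEquiv.symm_apply_eq e).2 h4.symm
  change (MonoidHom.snd G K) ((e.symm (x i) : D) : G × K) = y i
  rw [h5]
  rfl

section

variable {G Ω : Type*} [Group G] [Finite G] [MulAction G Ω]

omit [Finite G] in
/-- orbit counting inside a subgroup -/
theorem ncard_orbit_mul (H : Subgroup G) (β : Ω) :
    (orbit H β).ncard * Nat.card ↥(H ⊓ stabilizer G β) = Nat.card H := by
  have h1 : Nat.card ↥(H ⊓ stabilizer G β) = Nat.card (stabilizer H β) := by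
    have : stabilizer H β = (stabilizer G β).subgroupOf H := by
      ext k
      rfl
    rw [this, ← Subgroup.inf_subgroupOf_left]
    exact Nat.card_congr
      (Subgroup.subgroupOfEquivOfLe (inf_le_left : H ⊓ stabilizer G β ≤ H)).symm.toEquiv
  rw [h1, ← Nat.card_coe_set_eq]
  have := Nat.card_congr (MulAction.orbitProdStabilizerEquivGroup H β)
  rw [Nat.card_prod] at this
  exact this

/-- Criterion: if no set containing `β`, inside the `H`-orbit of `β`, invariant under `H_β`, has a size
properly dividing the size of the orbit, except `1`, then the stabilisers in `H` of the points of the orbit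
are maximal or equal to `H`. -/
theorem eq_or_eq (H : Subgroup G) (β : Ω)
    (hcrit : ∀ B : Set Ω, β ∈ B → B ⊆ orbit H β → (∀ k ∈ H, k • β = β → ∀ b ∈ B, k • b ∈ B) →
      B.ncard ∣ (orbit H β).ncard → B.ncard = 1 ∨ B.ncard = (orbit H β).ncard)
    (β' : Ω) (hβ' : β' ∈ orbit H β) (M : Subgroup G) (h1 : H ⊓ stabilizer G β' ≤ M) (h2 : M ≤ H) :
    M = H ⊓ stabilizer G β' ∨ M = H := by
  obtain ⟨h, hh⟩ := hβ'
  have hh : (h : G) • β = β' := hh
  have hhinv : (h : G)⁻¹ • β' = β := by rw [← hh, inv_smul_smul]
  set B : Set Ω := (fun b => (h : G)⁻¹ • b) '' orbit M β' with hB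
  have hBcard : B.ncard = (orbit M β').ncard :=
    Set.ncard_image_of_injective _ (MulAction.injective _)
  have hinf : M ⊓ stabilizer G β' = H ⊓ stabilizer G β' :=
    le_antisymm (inf_le_inf_right _ h2) (le_inf h1 inf_le_right)
  have e1 := ncard_orbit_mul M β'
  have e2 := ncard_orbit_mul H β'
  rw [hinf] at e1
  have horb : orbit H β' = orbit H β := MulAction.orbit_eq_iff.2 ⟨h, hh⟩
  rw [horb] at e2
  have hpos : 0 < Nat.card ↥(H ⊓ stabilizer G β') := Nat.card_pos
  have hdvd : B.ncard ∣ (orbit H β).ncard := by
    rw [hBcard]
    have h3 : Nat.card M ∣ Nat.card H := Subgroup.card_dvd_of_le h2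
    rw [← e1, ← e2] at h3
    exact Nat.dvd_of_mul_dvd_mul_right hpos h3
  have hβB : β ∈ B := ⟨β', mem_orbit_self β', hhinv⟩
  have hsub : B ⊆ orbit H β := by
    rintro _ ⟨_, ⟨m, rfl⟩, rfl⟩
    refine ⟨h⁻¹ * ⟨m, h2 m.2⟩ * h, ?_⟩
    change ((h : G)⁻¹ * (m : G) * (h : G)) • β = (h : G)⁻¹ • ((m : G) • β')
    rw [mul_smul, mul_smul, hh]
  have hclosed : ∀ k ∈ H, k • β = β → ∀ b ∈ B, k • b ∈ B := by
    rintro k hk hkβ _ ⟨_, ⟨m, rfl⟩, rfl⟩
    have hkm : (h : G) * k * (h : G)⁻¹ ∈ M := by
      apply h1
      refine Subgroup.mem_inf.2 ⟨H.mul_mem (H.mul_mem h.2 hk) (H.inv_mem h.2), ?_⟩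
      rw [mem_stabilizer_iff, mul_smul, mul_smul, hhinv, hkβ, hh]
    refine ⟨((h : G) * k * (h : G)⁻¹ * (m : G)) • β', ⟨⟨_, M.mul_mem hkm m.2⟩, rfl⟩, ?_⟩
    change (h : G)⁻¹ • (((h : G) * k * (h : G)⁻¹ * (m : G)) • β') = k • ((h : G)⁻¹ • ((m : G) • β'))
    simp only [← mul_smul]
    congr 1
    group
  rcases hcrit B hβB hsub hclosed hdvd with h3 | h3
  · left
    rw [hBcard] at h3
    rw [h3, one_mul] at e1
    exact (Subgroup.eq_of_le_of_card_ge h1 (by rw [e1])).symm
  · right
    rw [hBcard] at h3
    rw [h3, e2] at e1
    exact Subgroup.eq_of_le_of_card_ge h2 (by rw [e1])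

end

/-- from the two-alternative form to the coatom form -/
theorem isCoatom_subgroupOf {G : Type*} [Group G] (H K : Subgroup G) (hKH : K ≤ H) (hne : K ≠ H)
    (h : ∀ M : Subgroup G, K ≤ M → M ≤ H → M = K ∨ M = H) : IsCoatom (K.subgroupOf H) := by
  constructor
  · intro htop
    apply hne
    apply le_antisymm hKH
    exact Subgroup.subgroupOf_eq_top.1 htop
  · intro L hL
    have hKM : K ≤ L.map H.subtype := by
      have := Subgroup.map_mono (f := H.subtype) hL.le
      rwa [Subgroup.subgroupOf_map_subtype, inf_eq_left.2 hKH] at this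
    rcases h (L.map H.subtype) hKM (Subgroup.map_subtype_le L) with h1 | h1
    · exfalso
      apply hL.ne
      rw [← h1, Subgroup.subgroupOf, Subgroup.comap_map_eq_self_of_injective H.subtype_injective]
    · have h2 := congrArg (Subgroup.comap H.subtype) h1
      rw [Subgroup.comap_map_eq_self_of_injective H.subtype_injective] at h2
      rw [h2]
      exact Subgroup.subgroupOf_self H

end Cfsg.Agent.H899.BlockCrit
end

-- part: H899/G24Prim
section
/-!
A group of order 251596800 generated by six elements satisfying the relators `R6` has a maximal subgroup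
isomorphic to `J₂`, and its action on the cosets of it is extremely primitive.
-/

set_option autoImplicit false

namespace Cfsg.Agent.H899.G24Prim

open MulAction Cfsg.Agent.H899.Perm416 Cfsg.Agent.H899.Orb416 Cfsg.Agent.H899.J2Words
  Cfsg.Agent.H899.BlockCrit Cfsg.Agent.SporRec.G24Rel Cfsg.Agent.SporRec

/-- numbers of the points of a set -/
def nums (B : Set (Fin 416)) : Set ℕ := {n | ∃ h : n < 416, (⟨n, h⟩ : Fin 416) ∈ B}

theorem mem_nums (B : Set (Fin 416)) (p : Fin 416) : (p : ℕ) ∈ nums B ↔ p ∈ B :=
  ⟨fun ⟨_, h⟩ => h, fun h => ⟨p.isLt, h⟩⟩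

section

variable {G : Type*} [Group G] [MulAction G (Fin 416)] (x : Fin 6 → G)
  (hact : ∀ (i : Fin 6) (p : Fin 416), x i • p = P i p)

/-- the element of a word -/
def X (w : List (Fin 6)) : G := (w.map x).prod

include hact

theorem X_smul (w : List (Fin 6)) (p : Fin 416) : X x w • p = E w p := by
  induction w with
  | nil => simp [X, E]
  | cons k w ih =>
    have : X x (k :: w) = x k * X x w := by simp [X]
    rw [this, mul_smul, ih, hact, E_cons, Equiv.Perm.mul_apply]

theorem X_smul_val (w : List (Fin 6)) (p : Fin 416) : ((X x w • p : Fin 416) : ℕ) = wk w p := by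
  rw [X_smul x hact, E_apply]

theorem tree_iff (t : Tree) (ht : t.ok = true) (K : Subgroup G) (hK : ∀ i, X x (t.ws i) ∈ K)
    (B : Set (Fin 416)) (hB : ∀ k ∈ K, ∀ b ∈ B, k • b ∈ B) (p : Fin 416) (hp : t.L p ≠ 7) :
    p ∈ B ↔ t.rt (t.L p) ∈ nums B := by
  rw [← mem_nums]
  refine t.mem_iff ht (nums B) (fun i q hq => ?_) p p.isLt hp
  have h1 := X_smul_val x hact (t.ws i) ⟨q, hq⟩
  have e : (⟨q, hq⟩ : Fin 416) ∈ B ↔ X x (t.ws i) • (⟨q, hq⟩ : Fin 416) ∈ B := by
    constructor
    · exact hB _ (hK i) _
    · intro h
      have := hB _ (K.inv_mem (hK i)) _ h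
      rwa [inv_smul_smul] at this
  have e2 := (mem_nums B ⟨q, hq⟩).trans (e.trans (mem_nums B _).symm)
  rw [h1] at e2
  exact e2

end

/-- counting a union of label classes -/
theorem ncard_eq_sum (t : Tree) (r : ℕ) (B : Set (Fin 416)) (hr : ∀ p ∈ B, t.L p < r)
    (h : ∀ p : Fin 416, t.L p < r → (p ∈ B ↔ t.rt (t.L p) ∈ nums B)) [DecidablePred fun n => n ∈ nums B] :
    B.ncard = ∑ k ∈ Finset.range r,
      if t.rt k ∈ nums B then (Finset.univ.filter fun p : Fin 416 => t.L p = k).card else 0 := by
  classical
  have h1 : B.ncard = (Finset.univ.filter fun p : Fin 416 => p ∈ B).card := by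
    have h0 : B = ((Finset.univ.filter fun p : Fin 416 => p ∈ B : Finset (Fin 416)) : Set (Fin 416)) := by
      ext p
      rw [Finset.mem_coe, Finset.mem_filter]
      exact ⟨fun h => ⟨Finset.mem_univ _, h⟩, fun h => h.2⟩
    exact (congrArg Set.ncard h0).trans (Set.ncard_coe_finset _)
  rw [h1, Finset.card_eq_sum_card_fiberwise (f := fun p : Fin 416 => t.L p) (t := Finset.range r)]
  · refine Finset.sum_congr rfl fun k hk => ?_
    have hk := Finset.mem_range.1 hk
    split_ifs with hm
    · refine congrArg Finset.card ?_
      ext p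
      simp only [Finset.mem_filter, Finset.mem_univ, true_and]
      constructor
      · exact fun h => h.2
      · intro hp
        refine ⟨?_, hp⟩
        rw [h p (by rw [hp]; exact hk), hp]
        exact hm
    · rw [Finset.card_eq_zero]
      ext p
      simp only [Finset.mem_filter, Finset.mem_univ, true_and, Finset.notMem_empty, iff_false, not_and]
      intro hpB hp
      apply hm
      have := (h p (by rw [hp]; exact hk)).1 hpB
      rwa [hp] at this
  · intro p hp
    have hp := (Finset.mem_filter.1 (Finset.mem_coe.1 hp)).2
    exact Finset.mem_coe.2 (Finset.mem_range.2 (hr p hp))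

theorem LA_lt : ∀ p : Fin 416, tA.L p < 1 := by decide +kernel
theorem LJ_lt : ∀ p : Fin 416, tJ.L p < 3 := by decide +kernel
theorem LJ_inv : ∀ i : Fin 6, i < 5 → ∀ p : Fin 416, tJ.L (look (tab i) p) = tJ.L p := by
  decide +kernel
theorem L1_lt : ∀ p : Fin 416, tJ.L p = 2 → tL1.L p < 3 := by decide +kernel
theorem L1_back : ∀ p : Fin 416, tL1.L p < 3 → tJ.L p = 2 := by decide +kernel
theorem L2_lt : ∀ p : Fin 416, tJ.L p = 1 → tL2.L p < 6 := by decide +kernel
theorem L2_back : ∀ p : Fin 416, tL2.L p < 6 → tJ.L p = 1 := by decide +kernel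
theorem LJ_zero : ∀ p : Fin 416, tJ.L p = 0 → p = 0 := by decide +kernel


section

variable {G : Type*} [Group G] [Finite G] [MulAction G (Fin 416)] (x : Fin 6 → G)
  (hact : ∀ (i : Fin 6) (p : Fin 416), x i • p = P i p)

omit [Finite G] in
include hact in
theorem X_mem_stab (w : List (Fin 6)) (p : Fin 416) (h : wk w p = p) : X x w ∈ stabilizer G p := by
  rw [mem_stabilizer_iff]
  apply Fin.ext
  rw [X_smul_val x hact, h]

/-- the point stabiliser -/
def J (G : Type*) [Group G] [MulAction G (Fin 416)] : Subgroup G := stabilizer G (0 : Fin 416)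

omit [Finite G] in
include hact in
theorem orbit_univ : orbit G (0 : Fin 416) = Set.univ := by
  ext p
  simp only [Set.mem_univ, iff_true]
  have h := tree_iff x hact tA okA ⊤ (fun i => Subgroup.mem_top _) (orbit G (0 : Fin 416))
    (fun k _ b hb => by
      obtain ⟨g, rfl⟩ := hb
      exact ⟨k * g, mul_smul k g _⟩)
  have hL : tA.L p = 0 := by
    have := LA_lt p; omega
  have h0 : tA.L (0 : Fin 416) = 0 := by
    have := LA_lt 0; omega
  rw [h p (by rw [hL]; norm_num), hL]
  have := (h 0 (by rw [h0]; norm_num)).1 (mem_orbit_self _)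
  rwa [h0] at this

omit [Finite G] in
include hact in
theorem card_J (hcard : Nat.card G = 251596800) : Nat.card (J G) = 604800 := by
  have h1 := ncard_orbit_mul (⊤ : Subgroup G) (0 : Fin 416)
  have h2 : orbit (⊤ : Subgroup G) (0 : Fin 416) = orbit G (0 : Fin 416) := by
    ext p
    constructor
    · rintro ⟨g, rfl⟩; exact ⟨g, rfl⟩
    · rintro ⟨g, rfl⟩; exact ⟨⟨g, Subgroup.mem_top g⟩, rfl⟩
  rw [h2, orbit_univ x hact, Set.ncard_univ, Nat.card_eq_fintype_card, Fintype.card_fin, top_inf_eq,
    Subgroup.card_top, hcard] at h1
  change 416 * Nat.card (J G) = 251596800 at h1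
  omega

open Cfsg.Agent.SporadicRecognition Cfsg.Agent.SporadicRecognition.CosetCert
  Cfsg.Agent.SporadicRecognition.CosetCertHyp Cfsg.Agent.SporadicRecognition.CosetChain
  Cfsg.Agent.SporRec.G24Upper in
include hact in
theorem J_eq (hx : ∀ w ∈ R6, (w.map x).prod = 1) (hc : Subgroup.closure (Set.range x) = ⊤)
    (hcard : Nat.card G = 251596800) : J G = Subgroup.closure (x '' {i | i < 5}) := by
  have hle : Subgroup.closure (x '' {i | i < 5}) ≤ J G := by
    rw [Subgroup.closure_le]
    rintro _ ⟨i, hi, rfl⟩
    have h : ∀ i : Fin 6, i < 5 → wk [i] (0 : Fin 416) = (0 : Fin 416) := by decide +kernel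
    have h1 := X_mem_stab x hact [i] 0 (h i hi)
    have h2 : X x [i] = x i := by simp [X]
    rw [h2] at h1
    exact h1
  have hfin : Finite (Subgroup.closure (let6 x '' {n | n < 5})) := inferInstance
  have h1 := card_step SuzBData.C (let6 x) rels [[0],[1],[2],[3],[4]]
    (Subgroup.closure (let6 x '' {n | n < 5}))
    (fun n hn => ⟨hn, sq x hx n hn⟩)
    (fun r hr _ => rels_ev x hx r hr)
    (fun s hs _ => sub_letters (let6 x) 5 [[0],[1],[2],[3],[4]] (by decide) s hs)
    (by decide +kernel) SuzBAll.part hfin
  have e : let6 x '' {n | n < 6} = Set.range x := by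
    ext y
    constructor
    · rintro ⟨n, hn, rfl⟩
      exact ⟨⟨n, hn⟩, (let6_val x ⟨n, hn⟩).symm⟩
    · rintro ⟨i, rfl⟩
      exact ⟨i.val, i.isLt, let6_val x i⟩
  have e5 : let6 x '' {n | n < 5} = x '' {i | i < 5} := by
    ext y
    constructor
    · rintro ⟨n, hn, rfl⟩
      have hn' : n < 5 := hn
      have hn6 : n < 6 := by omega
      exact ⟨⟨n, hn6⟩, hn', (let6_val x ⟨n, hn6⟩).symm⟩
    · rintro ⟨i, hi, rfl⟩
      exact ⟨i.val, hi, let6_val x i⟩
  have h2 := h1.2
  change Nat.card (Subgroup.closure (let6 x '' {n | n < 6})) ≤ 416 * _ at h2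
  rw [e, e5, hc, Subgroup.card_top, hcard] at h2
  refine (Subgroup.eq_of_le_of_card_ge hle ?_).symm
  rw [card_J x hact hcard]
  omega


include hact in
/-- the restriction of the action to the point stabiliser is faithful, with image `Q` -/
theorem J_faithful (hx : ∀ w ∈ R6, (w.map x).prod = 1) (hc : Subgroup.closure (Set.range x) = ⊤)
    (hcard : Nat.card G = 251596800) :
    Function.Injective ((toPermHom G (Fin 416)).comp (J G).subtype) := by
  set f := (toPermHom G (Fin 416)).comp (J G).subtype with hf
  have hrange : f.range = Q := by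
    rw [hf, MonoidHom.range_comp, Subgroup.range_subtype, J_eq x hact hx hc hcard,
      MonoidHom.map_closure, Set.image_image]
    unfold Q
    congr 1
    apply Set.image_congr
    intro i _
    ext1 p
    exact hact i p
  have hfin : Finite (J G) := inferInstance
  have h1 : Function.Bijective f.rangeRestrict := by
    rw [Nat.bijective_iff_surjective_and_card]
    refine ⟨f.rangeRestrict_surjective, ?_⟩
    rw [card_J x hact hcard]
    rw [← card_Q, ← hrange]
  intro a b hab
  apply h1.1
  exact Subtype.ext hab

/-- an element of the stabiliser given by a word -/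
def jw (w : List (Fin 6)) (h : X x w ∈ J G) : J G := ⟨X x w, h⟩

include hact in
theorem isoJ2 (hx : ∀ w ∈ R6, (w.map x).prod = 1) (hc : Subgroup.closure (Set.range x) = ⊤)
    (hcard : Nat.card G = 251596800) : Cfsg.Spor.IsoJ2 (J G) := by
  have hw : ∀ w ∈ [wV, wX, wA, wZ, wY, wL], wk w (0 : Fin 416) = (0 : Fin 416) := by decide +kernel
  have mV : X x wV ∈ J G := X_mem_stab x hact wV 0 (hw _ (by simp))
  have mX : X x wX ∈ J G := X_mem_stab x hact wX 0 (hw _ (by simp))
  have mA : X x wA ∈ J G := X_mem_stab x hact wA 0 (hw _ (by simp))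
  have mZ : X x wZ ∈ J G := X_mem_stab x hact wZ 0 (hw _ (by simp))
  have mY : X x wY ∈ J G := X_mem_stab x hact wY 0 (hw _ (by simp))
  have mL : X x wL ∈ J G := X_mem_stab x hact wL 0 (hw _ (by simp))
  have key : ∀ w (h : X x w ∈ J G), ((toPermHom G (Fin 416)).comp (J G).subtype) (jw x w h) = E w := by
    intro w h
    ext1 p
    exact X_smul x hact w p
  have hinj := J_faithful x hact hx hc hcard
  have hrel : Cfsg.Agent.J2Type.Pres.Rels (jw x wV mV) (jw x wX mX) (jw x wA mA) (jw x wZ mZ)
      (jw x wY mY) (jw x wL mL) := by
    apply Cfsg.Agent.J2.HundredGens.rels_of_injective _ hinj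
    rw [key, key, key, key, key, key]
    exact rels_perm
  refine Cfsg.Agent.J2.HundredGens.iso_J2 Cfsg.Agent.S1619.result.2.2.2 (card_J x hact hcard) hrel ?_
  intro h
  apply z_ne
  rw [← key wZ mZ, h, map_one]


omit [Finite G] in
include hact in
theorem orbit_top : orbit (⊤ : Subgroup G) (0 : Fin 416) = Set.univ := by
  rw [← orbit_univ x hact]
  ext p
  constructor
  · rintro ⟨g, rfl⟩; exact ⟨g, rfl⟩
  · rintro ⟨g, rfl⟩; exact ⟨⟨g, Subgroup.mem_top g⟩, rfl⟩

omit [Finite G] in
include hact in
theorem crit_top (B : Set (Fin 416)) (h0 : (0 : Fin 416) ∈ B)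
    (hcl : ∀ k ∈ (⊤ : Subgroup G), k • (0 : Fin 416) = 0 → ∀ b ∈ B, k • b ∈ B)
    (hd : B.ncard ∣ (orbit (⊤ : Subgroup G) (0 : Fin 416)).ncard) :
    B.ncard = 1 ∨ B.ncard = (orbit (⊤ : Subgroup G) (0 : Fin 416)).ncard := by
  classical
  rw [orbit_top x hact, Set.ncard_univ, Nat.card_eq_fintype_card, Fintype.card_fin] at hd ⊢
  have hK : ∀ i, X x (tJ.ws i) ∈ J G := by
    intro i
    refine X_mem_stab x hact _ 0 ?_
    have : ∀ i < 5, wk (tJ.ws i) (0 : Fin 416) = (0 : Fin 416) := by decide +kernel
    by_cases hi : i < 5
    · exact this i hi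
    · have : tJ.ws i = [] := by
        match i, hi with
        | n + 5, _ => rfl
      rw [this]; rfl
  have h1 := ncard_eq_sum tJ 3 B (fun p _ => LJ_lt p) (fun p _ => tree_iff x hact tJ okJ (J G) hK B
    (fun k hk b hb => hcl k (Subgroup.mem_top k) hk b hb) p (by have := LJ_lt p; omega))
  simp only [Finset.sum_range_succ, Finset.sum_range_zero, zero_add, cardJ_0, cardJ_1, cardJ_2] at h1
  have hr : tJ.rt 0 ∈ nums B := (mem_nums B 0).2 h0
  rw [if_pos hr] at h1
  rw [h1] at hd ⊢
  split_ifs at hd ⊢ <;> revert hd <;> decide

include hact in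
theorem coatom_J (hcard : Nat.card G = 251596800) : IsCoatom (J G) := by
  constructor
  · intro h
    have h1 := card_J x hact hcard
    rw [h, Subgroup.card_top, hcard] at h1
    omega
  · intro M hM
    have h1 := eq_or_eq (⊤ : Subgroup G) (0 : Fin 416)
      (fun B hB _ hcl hd => crit_top x hact B hB hcl hd) 0 (mem_orbit_self _) M
      (by rw [top_inf_eq]; exact hM.le) le_top
    rcases h1 with h1 | h1
    · exfalso
      rw [top_inf_eq] at h1
      exact hM.ne h1.symm
    · exact h1

omit [Finite G] in
include hact in
theorem label_inv (hJ : J G = Subgroup.closure (x '' {i | i < 5})) (k : G) (hk : k ∈ J G)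
    (p : Fin 416) : tJ.L ((k • p : Fin 416) : ℕ) = tJ.L p := by
  rw [hJ] at hk
  induction hk using Subgroup.closure_induction generalizing p with
  | mem y hy =>
    obtain ⟨i, hi, rfl⟩ := hy
    rw [hact]
    exact LJ_inv i hi p
  | one => rw [one_smul]
  | mul a b _ _ ha hb => rw [mul_smul, ha, hb]
  | inv a _ ha =>
    have := ha (a⁻¹ • p)
    rw [smul_inv_smul] at this
    exact this.symm

include hact in
theorem orbit_J (hJ : J G = Subgroup.closure (x '' {i | i < 5})) (k : ℕ) (hk : k < 3) (r : Fin 416)
    (hr : tJ.rt k = r) (hrk : tJ.L r = k) : orbit (J G) r = {p : Fin 416 | tJ.L p = k} := by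
  have hK : ∀ i, X x (tJ.ws i) ∈ J G := by
    intro i
    refine X_mem_stab x hact _ 0 ?_
    have : ∀ i < 5, wk (tJ.ws i) (0 : Fin 416) = (0 : Fin 416) := by decide +kernel
    by_cases hi : i < 5
    · exact this i hi
    · have : tJ.ws i = [] := by
        match i, hi with
        | n + 5, _ => rfl
      rw [this]; rfl
  ext p
  constructor
  · rintro ⟨g, rfl⟩
    change tJ.L (((g : G) • r : Fin 416) : ℕ) = k
    rw [label_inv x hact hJ g g.2, hrk]
  · intro hp
    have hp : tJ.L p = k := hp
    rw [tree_iff x hact tJ okJ (J G) hK (orbit (J G) r) (fun k hk b hb => by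
      obtain ⟨g, rfl⟩ := hb
      exact ⟨⟨k, hk⟩ * g, mul_smul _ g _⟩) p (by omega), hp, hr, mem_nums]
    exact mem_orbit_self r

end

/-- size of a label class -/
theorem ncard_label (t : Tree) (k : ℕ) : {p : Fin 416 | t.L p = k}.ncard =
    (Finset.univ.filter fun p : Fin 416 => t.L p = k).card := by
  classical
  have h0 : {p : Fin 416 | t.L p = k} =
      ((Finset.univ.filter fun p : Fin 416 => t.L p = k : Finset (Fin 416)) : Set (Fin 416)) := by
    ext p
    rw [Finset.mem_coe, Finset.mem_filter]
    exact ⟨fun h => ⟨Finset.mem_univ _, h⟩, fun h => h.2⟩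
  exact (congrArg Set.ncard h0).trans (Set.ncard_coe_finset _)

section

variable {G : Type*} [Group G] [Finite G] [MulAction G (Fin 416)] (x : Fin 6 → G)
  (hact : ∀ (i : Fin 6) (p : Fin 416), x i • p = P i p)

include hact in
theorem crit_52 (hJ : J G = Subgroup.closure (x '' {i | i < 5})) (B : Set (Fin 416))
    (h0 : (52 : Fin 416) ∈ B) (hsub : B ⊆ orbit (J G) (52 : Fin 416))
    (hcl : ∀ k ∈ J G, k • (52 : Fin 416) = 52 → ∀ b ∈ B, k • b ∈ B)
    (hd : B.ncard ∣ (orbit (J G) (52 : Fin 416)).ncard) :
    B.ncard = 1 ∨ B.ncard = (orbit (J G) (52 : Fin 416)).ncard := by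
  classical
  have horb := orbit_J x hact hJ 2 (by norm_num) 52 rfl (by decide +kernel)
  rw [horb, ncard_label, cardJ_2] at hd ⊢
  rw [horb] at hsub
  have hK : ∀ i, X x (tL1.ws i) ∈ J G ⊓ stabilizer G (52 : Fin 416) := by
    intro i
    have : ∀ i < 3, wk (tL1.ws i) (0 : Fin 416) = (0 : Fin 416) ∧
      wk (tL1.ws i) (52 : Fin 416) = (52 : Fin 416) := by decide +kernel
    by_cases hi : i < 3
    · exact Subgroup.mem_inf.2 ⟨X_mem_stab x hact _ 0 (this i hi).1, X_mem_stab x hact _ 52 (this i hi).2⟩
    · have : tL1.ws i = [] := by
        match i, hi with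
        | n + 3, _ => rfl
      rw [this]
      exact Subgroup.one_mem _
  have h1 := ncard_eq_sum tL1 3 B (fun p hp => L1_lt p (hsub hp))
    (fun p hp => tree_iff x hact tL1 okL1 _ hK B
      (fun k hk b hb => hcl k (Subgroup.mem_inf.1 hk).1 (Subgroup.mem_inf.1 hk).2 b hb) p (by omega))
  simp only [Finset.sum_range_succ, Finset.sum_range_zero, zero_add, cardL1_0, cardL1_1, cardL1_2] at h1
  have hr : tL1.rt 0 ∈ nums B := (mem_nums B 52).2 h0
  rw [if_pos hr] at h1
  rw [h1] at hd ⊢
  split_ifs at hd ⊢ <;> revert hd <;> decide

include hact in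
theorem crit_1 (hJ : J G = Subgroup.closure (x '' {i | i < 5})) (B : Set (Fin 416))
    (h0 : (1 : Fin 416) ∈ B) (hsub : B ⊆ orbit (J G) (1 : Fin 416))
    (hcl : ∀ k ∈ J G, k • (1 : Fin 416) = 1 → ∀ b ∈ B, k • b ∈ B)
    (hd : B.ncard ∣ (orbit (J G) (1 : Fin 416)).ncard) :
    B.ncard = 1 ∨ B.ncard = (orbit (J G) (1 : Fin 416)).ncard := by
  classical
  have horb := orbit_J x hact hJ 1 (by norm_num) 1 rfl (by decide +kernel)
  rw [horb, ncard_label, cardJ_1] at hd ⊢
  rw [horb] at hsub
  have hK : ∀ i, X x (tL2.ws i) ∈ J G ⊓ stabilizer G (1 : Fin 416) := by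
    intro i
    have : ∀ i < 5, wk (tL2.ws i) (0 : Fin 416) = (0 : Fin 416) ∧
      wk (tL2.ws i) (1 : Fin 416) = (1 : Fin 416) := by decide +kernel
    by_cases hi : i < 5
    · exact Subgroup.mem_inf.2 ⟨X_mem_stab x hact _ 0 (this i hi).1, X_mem_stab x hact _ 1 (this i hi).2⟩
    · have : tL2.ws i = [] := by
        match i, hi with
        | n + 5, _ => rfl
      rw [this]
      exact Subgroup.one_mem _
  have h1 := ncard_eq_sum tL2 6 B (fun p hp => L2_lt p (hsub hp))
    (fun p hp => tree_iff x hact tL2 okL2 _ hK B
      (fun k hk b hb => hcl k (Subgroup.mem_inf.1 hk).1 (Subgroup.mem_inf.1 hk).2 b hb) p (by omega))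
  simp only [Finset.sum_range_succ, Finset.sum_range_zero, zero_add, cardL2_0, cardL2_1, cardL2_2,
    cardL2_3, cardL2_4, cardL2_5] at h1
  have hr : tL2.rt 0 ∈ nums B := (mem_nums B 1).2 h0
  rw [if_pos hr] at h1
  rw [h1] at hd ⊢
  split_ifs at hd ⊢ <;> revert hd <;> decide

include hact in
theorem coatom_two (hJ : J G = Subgroup.closure (x '' {i | i < 5})) (y : G) (hy : y ∉ J G) :
    IsCoatom ((J G ⊓ (J G).map (MulAut.conj y).toMonoidHom).subgroupOf (J G)) := by
  set β : Fin 416 := y • (0 : Fin 416) with hβ
  have hβ0 : β ≠ 0 := fun h => hy h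
  have e : J G ⊓ (J G).map (MulAut.conj y).toMonoidHom = J G ⊓ stabilizer G β := by
    congr 1
    ext g
    rw [Subgroup.mem_map, mem_stabilizer_iff]
    constructor
    · rintro ⟨h, hh, rfl⟩
      have hh : h • (0 : Fin 416) = 0 := hh
      change (y * h * y⁻¹) • β = β
      rw [hβ, mul_smul, mul_smul, inv_smul_smul, hh]
    · intro hg
      refine ⟨y⁻¹ * g * y, ?_, ?_⟩
      · change (y⁻¹ * g * y) • (0 : Fin 416) = 0
        rw [mul_smul, mul_smul, ← hβ, hg, hβ, inv_smul_smul]
      · change y * (y⁻¹ * g * y) * y⁻¹ = g
        group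
  rw [e]
  -- the orbit of `β`
  have hmain : ∀ (k : ℕ) (hk : k < 3) (r : Fin 416) (hr : tJ.rt k = r) (hrk : tJ.L r = k)
      (hcrit : ∀ B : Set (Fin 416), r ∈ B → B ⊆ orbit (J G) r →
        (∀ k ∈ J G, k • r = r → ∀ b ∈ B, k • b ∈ B) → B.ncard ∣ (orbit (J G) r).ncard →
        B.ncard = 1 ∨ B.ncard = (orbit (J G) r).ncard)
      (h1 : (orbit (J G) r).ncard ≠ 1) (hβk : tJ.L β = k),
      IsCoatom ((J G ⊓ stabilizer G β).subgroupOf (J G)) := by
    intro k hk r hr hrk hcrit h1 hβk
    have horb := orbit_J x hact hJ k hk r hr hrk
    have hβo : β ∈ orbit (J G) r := by rw [horb]; exact hβk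
    refine isCoatom_subgroupOf _ _ inf_le_left ?_ (fun M hM1 hM2 => ?_)
    · intro hEq
      have h2 := ncard_orbit_mul (J G) β
      rw [hEq, orbit_eq_iff.2 hβo] at h2
      apply h1
      have hpos : 0 < Nat.card (J G) := Nat.card_pos
      exact Nat.eq_of_mul_eq_mul_right hpos (by rw [h2, one_mul])
    · exact eq_or_eq (J G) r hcrit β hβo M hM1 hM2
  have hL := LJ_lt β
  have h3 : tJ.L β = 0 ∨ tJ.L β = 1 ∨ tJ.L β = 2 := by omega
  rcases h3 with h3 | h3 | h3
  · exact absurd (LJ_zero β h3) hβ0
  · refine hmain 1 (by norm_num) 1 rfl (by decide +kernel) (crit_1 x hact hJ) ?_ h3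
    rw [orbit_J x hact hJ 1 (by norm_num) 1 rfl (by decide +kernel), ncard_label, cardJ_1]
    norm_num
  · refine hmain 2 (by norm_num) 52 rfl (by decide +kernel) (crit_52 x hact hJ) ?_ h3
    rw [orbit_J x hact hJ 2 (by norm_num) 52 rfl (by decide +kernel), ncard_label, cardJ_2]
    norm_num

end

/-- the main result in abstract form -/
theorem main {G : Type*} [Group G] (x : Fin 6 → G) (hx : ∀ w ∈ R6, (w.map x).prod = 1)
    (hc : Subgroup.closure (Set.range x) = ⊤) (hcard : 251596800 ≤ Nat.card G) :
    ∃ H : Subgroup G, IsCoatom H ∧ Cfsg.Spor.IsoJ2 H ∧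
      ∀ y : G, y ∉ H → IsCoatom ((H ⊓ H.map (MulAut.conj y).toMonoidHom).subgroupOf H) := by
  obtain ⟨hfin, hle⟩ := G24Upper.card_closure_le (fun i => (x i, P i)) (fun w hw => by
    have key : ∀ w : List (Fin 6), (w.map fun i => (x i, P i)).prod =
        ((w.map x).prod, (w.map P).prod) := by
      intro w
      induction w with
      | nil => rfl
      | cons i w ih => rw [List.map_cons, List.prod_cons, ih]; rfl
    rw [key, hx w hw, P_rel w hw]; rfl)
  obtain ⟨hG, hcG, φ, hφ⟩ := exists_hom x P hc _ hcard hfin hle
  let _ : MulAction G (Fin 416) := MulAction.compHom (Fin 416) φ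
  have hact : ∀ (i : Fin 6) (p : Fin 416), x i • p = P i p := by
    intro i p
    change φ (x i) p = P i p
    rw [hφ]
  have hJ := J_eq x hact hx hc hcG
  exact ⟨J G, coatom_J x hact hcG, isoJ2 x hact hx hc hcG, fun y hy => coatom_two x hact hJ y hy⟩

end Cfsg.Agent.H899.G24Prim
end

-- part: S5746
section
set_option autoImplicit false
open Cfsg

namespace Cfsg.Agent.S5746

open Cfsg.Agent.SporRec Cfsg.Agent.SporRec.GF4 Cfsg.Agent.SporRec.G24Mat
  Cfsg.Agent.SporRec.G24Match Cfsg.Agent.SporRec.G24Rel

/-- the generators inside the group -/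
def Ag (i : Fin 6) : Gp := ⟨A i, A_mem i⟩

theorem closure_Ag : Subgroup.closure (Set.range Ag) = ⊤ := by
  have h := closure_A
  have h2 : (Subgroup.closure (Set.range Ag)).map Gp.subtype = Gp := by
    rw [MonoidHom.map_closure, ← Set.range_comp]
    exact h
  have h3 := congrArg (Subgroup.comap Gp.subtype) h2
  rw [Subgroup.comap_map_eq_self_of_injective Gp.subtype_injective] at h3
  rw [h3]
  exact Subgroup.subgroupOf_self Gp

theorem rel_Ag : ∀ w ∈ R6, (w.map Ag).prod = 1 := by
  intro w hw
  have h := A_rel w hw
  apply Subtype.ext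
  rw [← Subgroup.coe_subtype, map_list_prod, List.map_map]
  exact h

/-- The Chevalley group G₂(4) (over the field with 4 elements) has a maximal subgroup H isomorphic to the Hall–Janko group J₂ such that for every x outside H the intersection H ∩ xHx⁻¹ is a maximal subgroup of H; that is, the action of G₂(4) on the cosets of H is extremely primitive. -/
theorem result {F : Type*} [Field F] [Fintype F] (hF : Fintype.card F = 4) :
    ∃ H : Subgroup (Cfsg.Lie.chevG2.group F), IsCoatom H ∧ Cfsg.Spor.IsoJ2 H ∧
      ∀ x : Cfsg.Lie.chevG2.group F, x ∉ H → IsCoatom ((H ⊓ H.map (MulAut.conj x).toMonoidHom).subgroupOf H) := by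
  have hcard : Fintype.card F4 = Fintype.card F := by rw [hF]; exact F4.card_F4
  let e0 : F4 ≃+* F := FiniteField.ringEquivOfCardEq hcard
  let e : Gp ≃* Cfsg.Lie.chevG2.group F :=
    Cfsg.Agent.ChevStructure.FieldMap.groupEquivOfRingEquiv Cfsg.Lie.chevG2 e0
  refine Cfsg.Agent.H899.G24Prim.main (fun i => e (Ag i)) ?_ ?_ ?_
  · intro w hw
    have h := congrArg e (rel_Ag w hw)
    rw [map_list_prod, List.map_map, map_one] at h
    exact h
  · have h := congrArg (Subgroup.map e.toMonoidHom) closure_Ag
    rw [MonoidHom.map_closure, ← Set.range_comp, ← MonoidHom.range_eq_map,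
      MonoidHom.range_eq_top.2 e.surjective] at h
    exact h
  · rw [← Nat.card_congr e.toEquiv]
    exact card_Gp_ge

end Cfsg.Agent.S5746
end
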