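import Cfsg.Statements.S4040
import Cfsg.Agent.H504.MaxNil
set_option linter.all false

set_option autoImplicit false
open Cfsg

namespace Cfsg.Agent.S4040

/-- A finite group possessing a maximal subgroup that is nilpotent of odd order is solvable. -/
theorem result {G : Type*} [Group G] [Finite G]
    (M : Subgroup G) (hmax : IsCoatom M) (hnil : Group.IsNilpotent M) (hodd : Odd (Nat.card M)) :
    Group.IsSolvable G := by
  refine Cfsg.Agent.H504.MaxNil.isSolvable_of_coatom M hmax hnil ?_
  -- a `2`-element of a group of odd order is trivial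
  have key : ∀ a ∈ M, (∃ k : ℕ, a ^ 2 ^ k = 1) → a = 1 := by
    rintro a ha ⟨k, hk⟩
    have h1 : orderOf a ∣ 2 ^ k := orderOf_dvd_of_pow_eq_one hk
    have h2 : orderOf a ∣ Nat.card M := by
      rw [← Subgroup.orderOf_mk a ha]
      exact orderOf_dvd_natCard _
    have h3 : Nat.Coprime (Nat.card M) (2 ^ k) := (Nat.coprime_two_right.mpr hodd).pow_right k
    rw [← orderOf_eq_one_iff]
    exact Nat.eq_one_of_dvd_coprimes h3 h2 h1
  intro a ha b hb c hc ha2 hb2 hc2
  rw [key c hc hc2, mul_one, one_mul]

end Cfsg.Agent.S4040
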