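import Mathlib
import Cfsg.Agent.Nodes.RGDTypeA
import Cfsg.Agent.H95.OddNorm_mg
import Cfsg.Agent.OddOrderLocal.CyclicSub
import Cfsg.Agent.H94.Pronormal
import Cfsg.Agent.S0799
import Cfsg.Agent.S2431
import Cfsg.Agent.ClassicalGeometry.PSL2Solvable
import Cfsg.Agent.ClassicalGeometry.PSL2Basic
import Cfsg.Agent.LieClassical.SLGen
import Cfsg.Statements.S2225
set_option linter.all false

-- part: H95/EvenPSL
section
/-!
# Subgroups of `PSL_n(F)` of index prime to the characteristic are pronormal (helper95)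
-/

set_option autoImplicit false

namespace Cfsg.Agent.H95.EvenPSL

open Matrix Cfsg.Agent.ChevalleyStructure.CoxeterGeom Cfsg.Agent.Nodes.BNOf Cfsg.Agent.Nodes.RGDLib
  Cfsg.Agent.Nodes

theorem T_comm {ι F : Type*} [Field F] [DecidableEq ι] [Fintype ι] {a b : SpecialLinearGroup ι F}
    (ha : a ∈ RGDTypeA.T ι F) (hb : b ∈ RGDTypeA.T ι F) : a * b = b * a := by
  have ha' : ∀ i j, i ≠ j → (a : Matrix ι ι F) i j = 0 := fun i j hij => by
    by_contra h
    exact hij (ha i j h)
  have hb' : ∀ i j, i ≠ j → (b : Matrix ι ι F) i j = 0 := fun i j hij => by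
    by_contra h
    exact hij (hb i j h)
  have key : ∀ a b : SpecialLinearGroup ι F, (∀ i j, i ≠ j → (a : Matrix ι ι F) i j = 0) →
      (∀ i j, i ≠ j → (b : Matrix ι ι F) i j = 0) → ∀ i j,
      ((a : Matrix ι ι F) * (b : Matrix ι ι F)) i j = (a : Matrix ι ι F) i i * (b : Matrix ι ι F) i j := by
    intro a b ha' hb' i j
    rw [Matrix.mul_apply]
    exact Finset.sum_eq_single i (fun k _ hk => by rw [ha' i k hk.symm, zero_mul]) fun h => absurd (Finset.mem_univ i) h
  apply Subtype.ext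
  show (a : Matrix ι ι F) * (b : Matrix ι ι F) = (b : Matrix ι ι F) * (a : Matrix ι ι F)
  ext i j
  rw [key a b ha' hb', key b a hb' ha']
  by_cases hij : i = j
  · subst hij; exact mul_comm _ _
  · rw [ha' i j hij, hb' i j hij, mul_zero, mul_zero]

theorem isPronormal {F : Type*} [Field F] [Finite F] (n : ℕ) {p : ℕ} [Fact p.Prime] [CharP F p]
    (H : Subgroup (ProjectiveSpecialLinearGroup (Fin (n + 1)) F)) (hH : ¬ p ∣ H.index) : Cfsg.IsPronormal H := by
  have : Finite (Cfsg.Agent.LieRecognition.BNCox.cA n).Group :=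
    RootsA.finite_W (Cfsg.Agent.LieRecognition.BNCox.cA n).toCoxeterSystem (RootsA.isCartan n)
  have R := RGDTypeA.rgd_psl (F := F) (n := n) (p := p) (Cfsg.Agent.LieRecognition.BNCox.cA n).toCoxeterSystem
    (RootsA.isCartan n)
  have hG := RGDTypeA.G1_psl_eq_top (F := F) (n := n) (Cfsg.Agent.LieRecognition.BNCox.cA n).toCoxeterSystem
    (RootsA.isCartan n)
  refine EvenRGD.isPronormal R (eq_top_iff.2 ?_) ?_ H hH
  · rw [← hG]
    exact le_sup_right
  · rintro _ ⟨a, ha, rfl⟩ _ ⟨b, hb, rfl⟩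
    rw [← map_mul, ← map_mul, T_comm ha hb]

end Cfsg.Agent.H95.EvenPSL
end

-- part: H95/KleinSyl
section
/-!
# Sylow 2-subgroups of order four: generalities (helper95)

* `hom_trivial` : a group generated by elements of odd order has no homomorphism onto a nontrivial 2-group;
* `exists_hom` : a group with an abelian self-normalising Sylow 2-subgroup maps onto it;
* `dihedral_unique` : the overgroups, in a dihedral group, of a noncyclic subgroup are determined by their order.
-/

set_option autoImplicit false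

namespace Cfsg.Agent.H95.KleinSyl

open Subgroup

theorem hom_trivial {K Q : Type*} [Group K] [Group Q] (hQ : ∀ x : Q, ∃ k : ℕ, x ^ 2 ^ k = 1) (f : K →* Q) {s : Set K}
    (hs : closure s = ⊤) (hodd : ∀ x ∈ s, ∃ m : ℕ, Odd m ∧ x ^ m = 1) (x : K) : f x = 1 := by
  have h1 : closure s ≤ f.ker := by
    rw [closure_le]
    intro y hy
    rw [SetLike.mem_coe, MonoidHom.mem_ker]
    obtain ⟨m, hm, hym⟩ := hodd y hy
    obtain ⟨k, hk⟩ := hQ (f y)
    have h2 : (f y) ^ m = 1 := by rw [← map_pow, hym, map_one]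
    have h3 : Nat.Coprime m (2 ^ k) := Nat.Coprime.pow_right _ (Nat.coprime_two_right.2 hm)
    have h4 := orderOf_dvd_of_pow_eq_one h2
    have h5 := orderOf_dvd_of_pow_eq_one hk
    exact orderOf_eq_one_iff.1 (Nat.eq_one_of_dvd_coprimes h3 h4 h5)
  rw [hs] at h1
  exact h1 (mem_top x)

theorem exists_hom {G : Type*} [Group G] [Finite G] (P : Sylow 2 G) (hc : ∀ x ∈ P, ∀ y ∈ P, x * y = y * x)
    (hN : normalizer ((P : Subgroup G) : Set G) ≤ P) : ∃ f : G →* (P : Subgroup G), Function.Surjective f := by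
  have hP : normalizer ((P : Subgroup G) : Set G) ≤ centralizer ((P : Subgroup G) : Set G) := by
    intro x hx
    rw [mem_centralizer_iff]
    intro y hy
    exact hc y hy x (hN hx)
  refine ⟨MonoidHom.transferSylow P hP, ?_⟩
  have h1 := MonoidHom.ker_transferSylow_isComplement' P hP
  have h2 := h1.symm.index_eq_card
  rw [index_ker] at h2
  rw [← MonoidHom.range_eq_top]
  exact eq_top_of_card_eq _ h2

/-- the rotations -/
def rot (k : ℕ) : Subgroup (DihedralGroup k) := zpowers (DihedralGroup.r 1)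

theorem mem_rot {k : ℕ} {x : DihedralGroup k} : x ∈ rot k ↔ ∃ i, x = DihedralGroup.r i := by
  constructor
  · rintro ⟨j, rfl⟩
    exact ⟨j, DihedralGroup.r_one_zpow j⟩
  · rintro ⟨i, rfl⟩
    obtain ⟨j, rfl⟩ := ZMod.intCast_surjective i
    exact ⟨j, DihedralGroup.r_one_zpow j⟩

theorem eq_r_or_sr {k : ℕ} (x : DihedralGroup k) : (∃ i, x = DihedralGroup.r i) ∨ ∃ i, x = DihedralGroup.sr i := by
  cases x with
  | r i => exact Or.inl ⟨i, rfl⟩
  | sr i => exact Or.inr ⟨i, rfl⟩

theorem sr_not_mem_rot {k : ℕ} (i : ZMod k) : DihedralGroup.sr i ∉ rot k := by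
  intro h
  obtain ⟨j, hj⟩ := mem_rot.1 h
  cases hj

theorem index_rot (k : ℕ) : (rot k).index = 2 := by
  rw [index_eq_two_iff]
  refine ⟨DihedralGroup.sr 0, fun b => ?_⟩
  rcases eq_r_or_sr b with ⟨i, rfl⟩ | ⟨i, rfl⟩
  · rw [DihedralGroup.r_mul_sr]
    right
    exact ⟨mem_rot.2 ⟨i, rfl⟩, sr_not_mem_rot _⟩
  · rw [DihedralGroup.sr_mul_sr]
    left
    exact ⟨mem_rot.2 ⟨_, rfl⟩, sr_not_mem_rot _⟩

theorem card_inf_rot {k : ℕ} [Finite (DihedralGroup k)] {H : Subgroup (DihedralGroup k)} {i : ZMod k}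
    (hi : DihedralGroup.sr i ∈ H) : Nat.card (H ⊓ rot k : Subgroup (DihedralGroup k)) * 2 = Nat.card H := by
  have h1 : (rot k).relIndex H = 2 := by
    have h2 : (rot k).relIndex H ∣ 2 := by
      rw [← index_rot k]
      have : (rot k).Normal := normal_of_index_eq_two (index_rot k)
      exact relIndex_dvd_index_of_normal _ _
    rcases (Nat.dvd_prime Nat.prime_two).1 h2 with h3 | h3
    · rw [relIndex_eq_one] at h3
      exact absurd (h3 hi) (sr_not_mem_rot i)
    · exact h3
  have h4 : (H ⊓ rot k).relIndex H = 2 := by rw [inf_comm, inf_relIndex_right, h1]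
  have h5 := card_mul_index ((H ⊓ rot k).subgroupOf H)
  have h6 : Nat.card ((H ⊓ rot k).subgroupOf H) = Nat.card (H ⊓ rot k : Subgroup (DihedralGroup k)) :=
    Nat.card_congr (subgroupOfEquivOfLe inf_le_left).toEquiv
  rw [h6] at h5
  rw [← h4]
  exact h5

theorem dihedral_unique {k : ℕ} [Finite (DihedralGroup k)] {S H H' : Subgroup (DihedralGroup k)} (hS : ¬ IsCyclic S)
    (hH : S ≤ H) (hH' : S ≤ H') (hc : Nat.card H = Nat.card H') : H = H' := by
  have hrot : IsCyclic (rot k) := by unfold rot; infer_instance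
  -- a reflection in `S`
  obtain ⟨i, hi⟩ : ∃ i, DihedralGroup.sr i ∈ S := by
    by_contra hcon
    push Not at hcon
    apply hS
    have h1 : S ≤ rot k := by
      intro x hx
      rcases eq_r_or_sr x with ⟨j, rfl⟩ | ⟨j, rfl⟩
      · exact mem_rot.2 ⟨j, rfl⟩
      · exact absurd hx (hcon j)
    exact isCyclic_of_injective (inclusion h1) (inclusion_injective h1)
  have h1 := card_inf_rot (hH hi)
  have h2 := card_inf_rot (hH' hi)
  have h3 : H ⊓ rot k = H' ⊓ rot k := by
    refine OddOrderLocal.CyclicSub.eq_of_card_eq_of_le_cyclic hrot inf_le_right inf_le_right ?_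
    omega
  have key : ∀ A B : Subgroup (DihedralGroup k), DihedralGroup.sr i ∈ A → DihedralGroup.sr i ∈ B →
      A ⊓ rot k = B ⊓ rot k → A ≤ B := by
    intro A B hA hB hAB x hx
    rcases eq_r_or_sr x with ⟨j, rfl⟩ | ⟨j, rfl⟩
    · have : DihedralGroup.r j ∈ A ⊓ rot k := ⟨hx, mem_rot.2 ⟨j, rfl⟩⟩
      rw [hAB] at this
      exact this.1
    · have : DihedralGroup.sr j * DihedralGroup.sr i ∈ A ⊓ rot k :=
        ⟨mul_mem hx hA, by rw [DihedralGroup.sr_mul_sr]; exact mem_rot.2 ⟨_, rfl⟩⟩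
      rw [hAB] at this
      have h5 := mul_mem (show DihedralGroup.sr j * DihedralGroup.sr i ∈ B from this.1) (inv_mem hB)
      rwa [mul_inv_cancel_right] at h5
  exact le_antisymm (key H H' (hH hi) (hH' hi) h3) (key H' H (hH' hi) (hH hi) h3.symm)

theorem subgroup_unique {G : Type*} [Group G] [Finite G] {K S H H' : Subgroup G} {k : ℕ}
    (e : K ≃* DihedralGroup k) (hS : ¬ IsCyclic S) (hSH : S ≤ H) (hSH' : S ≤ H') (hH : H ≤ K) (hH' : H' ≤ K)
    (hc : Nat.card H = Nat.card H') : H = H' := by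
  have : Finite (DihedralGroup k) := Finite.of_equiv _ e.toEquiv
  have e1 : ∀ {A : Subgroup G} (_ : A ≤ K), Nat.card ((A.subgroupOf K).map e.toMonoidHom) = Nat.card A := by
    intro A hA
    rw [← Nat.card_congr ((A.subgroupOf K).equivMapOfInjective e.toMonoidHom e.injective).toEquiv]
    exact Nat.card_congr (subgroupOfEquivOfLe hA).toEquiv
  have h1 : ¬ IsCyclic ((S.subgroupOf K).map e.toMonoidHom) := by
    intro h
    apply hS
    have h2 : IsCyclic (S.subgroupOf K) :=
      isCyclic_of_injective ((S.subgroupOf K).equivMapOfInjective e.toMonoidHom e.injective).toMonoidHom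
        ((S.subgroupOf K).equivMapOfInjective e.toMonoidHom e.injective).injective
    exact isCyclic_of_injective (subgroupOfEquivOfLe (hSH.trans hH)).symm.toMonoidHom
      (subgroupOfEquivOfLe (hSH.trans hH)).symm.injective
  have h2 := dihedral_unique h1 (H := (H.subgroupOf K).map e.toMonoidHom) (H' := (H'.subgroupOf K).map e.toMonoidHom)
    (map_mono fun x hx => hSH hx) (map_mono fun x hx => hSH' hx) (by rw [e1 hH, e1 hH', hc])
  have h3 := map_injective e.injective h2
  have h4 := congrArg (fun A => A.map K.subtype) h3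
  simpa [subgroupOf_map_subtype, inf_eq_left.2 hH, inf_eq_left.2 hH'] using h4

/-- **Pronormality of the overgroups of a Sylow 2-subgroup of order four.** -/
theorem main {G : Type*} [Group G] [Finite G] (S : Sylow 2 G) (h4 : Nat.card S = 4)
    (hS : ¬ IsCyclic (S : Subgroup G)) (hN : Nat.card (normalizer ((S : Subgroup G) : Set G)) = 12)
    (hK : ∀ K : Subgroup G, (S : Subgroup G) ≤ K → IsCyclic K ∨ (∃ k, Nonempty (K ≃* DihedralGroup k)) ∨
      8 ∣ Nat.card K ∨ (∃ s : Set K, closure s = ⊤ ∧ ∀ x ∈ s, ∃ m : ℕ, Odd m ∧ x ^ m = 1))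
    (H : Subgroup G) (hSH : (S : Subgroup G) ≤ H) : Cfsg.IsPronormal H := by
  have h2p : Fact (Nat.Prime 2) := ⟨Nat.prime_two⟩
  refine H94.Pronormal.isPronormal_of_sylow S H hSH fun n hn => ?_
  obtain ⟨H', hH'⟩ : ∃ H' : Subgroup G, H' = H.map (MulAut.conj n).toMonoidHom := ⟨_, rfl⟩
  rw [← hH']
  have hSH' : (S : Subgroup G) ≤ H' := by
    intro x hx
    rw [hH']
    refine ⟨n⁻¹ * x * n, hSH ?_, by show n * (n⁻¹ * x * n) * n⁻¹ = x; group⟩
    have := (mem_normalizer_iff.1 (inv_mem hn) x).1 hx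
    rwa [inv_inv] at this
  have hcard : Nat.card H = Nat.card H' := by
    rw [hH']
    exact Nat.card_congr (H.equivMapOfInjective _ (MulAut.conj n).injective).toEquiv
  by_cases hnK : n ∈ H ⊔ H'
  · exact ⟨n, hnK, hH'⟩
  · -- `N_K(S) = S`
    obtain ⟨K, hKe⟩ : ∃ K : Subgroup G, K = H ⊔ H' := ⟨_, rfl⟩
    rw [← hKe] at hnK ⊢
    have hHK : H ≤ K := by rw [hKe]; exact le_sup_left
    have hH'K : H' ≤ K := by rw [hKe]; exact le_sup_right
    have hSK := hSH.trans hHK
    have hNK : normalizer ((S : Subgroup G) : Set G) ⊓ K ≤ S := by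
      have h1 : (S : Subgroup G) ≤ normalizer ((S : Subgroup G) : Set G) ⊓ K := le_inf le_normalizer hSK
      obtain ⟨N, hNe⟩ : ∃ N, N = normalizer ((S : Subgroup G) : Set G) := ⟨_, rfl⟩
      rw [← hNe] at h1 hn hN ⊢
      have h2 : Nat.card (N ⊓ K : Subgroup G) ∣ 12 := by rw [← hN]; exact card_dvd_of_le inf_le_left
      have h3 : 4 ∣ Nat.card (N ⊓ K : Subgroup G) := by rw [← h4]; exact card_dvd_of_le h1
      have h5 : Nat.card (N ⊓ K : Subgroup G) ≠ 12 := by
        intro h5
        apply hnK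
        have h6 : (N ⊓ K : Subgroup G) = N := eq_of_le_of_card_ge inf_le_left (by rw [h5, hN])
        have h7 : n ∈ N ⊓ K := by rw [h6]; exact hn
        exact h7.2
      have h6 : Nat.card (N ⊓ K : Subgroup G) = 4 := by
        obtain ⟨c, hc⟩ := h3
        rw [hc] at h2 h5 ⊢
        have h7 : c ∣ 3 := by
          have : 4 * c ∣ 4 * 3 := h2
          exact Nat.dvd_of_mul_dvd_mul_left (by norm_num) this
        rcases (Nat.dvd_prime Nat.prime_three).1 h7 with h8 | h8
        · rw [h8]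
        · exact absurd (by rw [h8]) h5
      exact (eq_of_le_of_card_ge h1 (by rw [h6]; exact h4.ge)).ge
    rcases hK K hSK with h | ⟨k, ⟨e⟩⟩ | h | ⟨s, hs, hodd⟩
    · exfalso
      apply hS
      exact isCyclic_of_injective (inclusion hSK) (inclusion_injective hSK)
    · refine ⟨1, one_mem _, ?_⟩
      rw [H94.Pronormal.map_conj_one]
      exact (subgroup_unique e hS hSH hSH' hHK hH'K hcard).symm
    · exfalso
      have h1 : 2 ^ 3 ∣ Nat.card S := S.pow_dvd_card_of_pow_dvd_card (h.trans (card_subgroup_dvd_card K))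
      rw [h4] at h1
      norm_num at h1
    · exfalso
      -- the Sylow subgroup of `K`
      obtain ⟨P, hP⟩ : ∃ P : Sylow 2 K, (P : Subgroup K) = (S : Subgroup G).subgroupOf K := ⟨S.subtype hSK, rfl⟩
      have h2 : ∀ x ∈ P, ∀ y ∈ P, x * y = y * x := by
        intro x hx y hy
        have hx' : (x : G) ∈ (S : Subgroup G) := by
          have : x ∈ (P : Subgroup K) := hx
          rw [hP] at this; exact this
        have hy' : (y : G) ∈ (S : Subgroup G) := by
          have : y ∈ (P : Subgroup K) := hy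
          rw [hP] at this; exact this
        have h3 : IsMulCommutative (S : Subgroup G) := by
          have : Nat.card (S : Subgroup G) = 2 ^ 2 := h4
          exact IsPGroup.isMulCommutative_of_card_eq_prime_sq this
        have h5 : (x : G) * y = y * x :=
          congrArg Subtype.val (h3.is_comm.comm (⟨x, hx'⟩ : (S : Subgroup G)) ⟨y, hy'⟩)
        exact Subtype.ext h5
      have h3 : normalizer ((P : Subgroup K) : Set K) ≤ P := by
        intro x hx
        rw [hP, mem_subgroupOf]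
        apply hNK
        refine ⟨?_, x.2⟩
        show (x : G) ∈ normalizer ((S : Subgroup G) : Set G)
        rw [mem_normalizer_iff]
        intro y
        have key : ∀ z : K, (z : G) ∈ (S : Subgroup G) ↔ (x * z * x⁻¹ : K).1 ∈ (S : Subgroup G) := by
          intro z
          have := mem_normalizer_iff.1 hx z
          rw [hP, mem_subgroupOf, mem_subgroupOf] at this
          exact this
        constructor
        · intro hy
          exact (key ⟨y, hSK hy⟩).1 hy
        · intro hy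
          have hyK : y ∈ K := by
            have := mul_mem (mul_mem (inv_mem x.2) (hSK hy)) x.2
            have e : (x : G)⁻¹ * ((x : G) * y * (x : G)⁻¹) * x = y := by group
            rwa [e] at this
          exact (key ⟨y, hyK⟩).2 hy
      obtain ⟨f, hf⟩ := exists_hom P h2 h3
      have h5 : ∀ x, f x = 1 := hom_trivial (fun x => P.isPGroup' x) f hs hodd
      have h6 : Nat.card (P : Subgroup K) = 4 := by
        rw [hP, ← h4]
        exact Nat.card_congr (subgroupOfEquivOfLe hSK).toEquiv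
      have h7 : Subsingleton (P : Subgroup K) := by
        refine ⟨fun a b => ?_⟩
        obtain ⟨x, rfl⟩ := hf a
        obtain ⟨y, rfl⟩ := hf b
        rw [h5, h5]
      rw [Nat.card_eq_one_iff_unique.2 ⟨h7, ⟨1⟩⟩] at h6
      norm_num at h6

end Cfsg.Agent.H95.KleinSyl
end

-- part: H95/PSLTwo
section
/-!
# Subgroups of odd index of `PSL_2(q)`, `q ≡ ±3 mod 8` (helper95)
-/

set_option autoImplicit false

namespace Cfsg.Agent.H95.PSLTwo

open Subgroup Matrix Cfsg.Agent.ClassicalGeometry.PSL2Basic Cfsg.Agent.ClassicalGeometry.PSL2Solvable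
  Cfsg.Agent.LieClassical

/-- groups generated by elements of odd order -/
def OddGen (K : Type*) [Group K] : Prop := ∃ s : Set K, closure s = ⊤ ∧ ∀ x ∈ s, ∃ m : ℕ, Odd m ∧ x ^ m = 1

theorem OddGen.map {K L : Type*} [Group K] [Group L] (h : OddGen K) (f : K →* L) (hf : Function.Surjective f) :
    OddGen L := by
  obtain ⟨s, hs, hodd⟩ := h
  refine ⟨f '' s, ?_, ?_⟩
  · rw [← MonoidHom.map_closure, hs, map_top_of_surjective f hf]
  · rintro _ ⟨x, hx, rfl⟩
    obtain ⟨m, hm, hxm⟩ := hodd x hx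
    exact ⟨m, hm, by rw [← map_pow, hxm, map_one]⟩

theorem oddGen_alt (n : ℕ) : OddGen (alternatingGroup (Fin n)) := by
  refine ⟨{x | (x : Equiv.Perm (Fin n)).IsThreeCycle}, ?_, ?_⟩
  · apply Subgroup.map_injective (alternatingGroup (Fin n)).subtype_injective
    rw [MonoidHom.map_closure, ← MonoidHom.range_eq_map, range_subtype]
    have h1 : (alternatingGroup (Fin n)).subtype '' {x | (x : Equiv.Perm (Fin n)).IsThreeCycle} =
        {σ : Equiv.Perm (Fin n) | σ.IsThreeCycle} := by
      ext σ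
      constructor
      · rintro ⟨x, hx, rfl⟩
        exact hx
      · intro hσ
        exact ⟨⟨σ, hσ.mem_alternatingGroup⟩, hσ, rfl⟩
    rw [h1]
    exact Equiv.Perm.closure_three_cycles_eq_alternating
  · intro x hx
    refine ⟨3, by decide, ?_⟩
    have h1 := Equiv.Perm.IsThreeCycle.orderOf hx
    apply Subtype.ext
    show (x : Equiv.Perm (Fin n)) ^ 3 = 1
    rw [← h1, pow_orderOf_eq_one]

theorem oddGen_psl {F : Type*} [Field F] [Fintype F] (hodd : Odd (Fintype.card F)) :
    OddGen (ProjectiveSpecialLinearGroup (Fin 2) F) := by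
  have h1 : OddGen (SpecialLinearGroup (Fin 2) F) := by
    refine ⟨SLGen.transvections (Fin 2) F, SLGen.closure_transvections, ?_⟩
    rintro _ ⟨i, j, hij, c, rfl⟩
    refine ⟨Fintype.card F, hodd, ?_⟩
    have key : ∀ n : ℕ, (SpecialLinearGroup.transvection hij c) ^ n =
        SpecialLinearGroup.transvection hij ((n : F) * c) := by
      intro n
      induction n with
      | zero =>
        apply Subtype.ext
        rw [pow_zero, Nat.cast_zero, zero_mul]
        show (1 : Matrix (Fin 2) (Fin 2) F) = Matrix.transvection i j 0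
        rw [Matrix.transvection_zero]
      | succ n ih =>
        rw [pow_succ, ih]
        apply Subtype.ext
        show Matrix.transvection i j ((n : F) * c) * Matrix.transvection i j c = Matrix.transvection i j _
        rw [Matrix.transvection_mul_transvection_same _ _ hij]
        congr 1
        push_cast
        ring
    rw [key, FiniteField.cast_card_eq_zero, zero_mul]
    apply Subtype.ext
    show Matrix.transvection i j (0 : F) = 1
    rw [Matrix.transvection_zero]
  exact h1.map (QuotientGroup.mk' _) (QuotientGroup.mk'_surjective _)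

/-- a noncyclic group of order four -/
theorem klein_elems {Q : Type*} [Group Q] (h4 : Nat.card Q = 4) (hc : ¬ IsCyclic Q) :
    (∀ x : Q, x * x = 1) ∧ ∃ a b : Q, a ≠ 1 ∧ b ≠ 1 ∧ a * b ≠ 1 := by
  have hfin : Finite Q := Nat.finite_of_card_ne_zero (by rw [h4]; norm_num)
  have h1 : ∀ x : Q, x * x = 1 := by
    intro x
    have h2 : orderOf x ∣ 2 ^ 2 := by
      have := orderOf_dvd_natCard x
      rw [h4] at this; exact this
    obtain ⟨k, hk, hk'⟩ := (Nat.dvd_prime_pow Nat.prime_two).1 h2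
    have h3 : k ≠ 2 := by
      rintro rfl
      exact hc (isCyclic_of_orderOf_eq_card x (by rw [hk', h4]; norm_num))
    have h5 : orderOf x ∣ 2 := by
      rw [hk']
      exact pow_dvd_pow 2 (show k ≤ 1 by omega) |>.trans (by norm_num)
    rw [← pow_two]
    exact orderOf_dvd_iff_pow_eq_one.1 h5
  refine ⟨h1, ?_⟩
  classical
  have := Fintype.ofFinite Q
  rw [Nat.card_eq_fintype_card] at h4
  obtain ⟨a, ha⟩ : ∃ a : Q, a ∉ ({1} : Finset Q) := by
    by_contra hcon
    push Not at hcon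
    have h5 : (Finset.univ : Finset Q) ⊆ {1} := fun x _ => hcon x
    have := Finset.card_le_card h5
    rw [Finset.card_univ, h4, Finset.card_singleton] at this
    omega
  obtain ⟨b, hb⟩ : ∃ b : Q, b ∉ ({1, a} : Finset Q) := by
    by_contra hcon
    push Not at hcon
    have h5 : (Finset.univ : Finset Q) ⊆ {1, a} := fun x _ => hcon x
    have := (Finset.card_le_card h5).trans Finset.card_le_two
    rw [Finset.card_univ, h4] at this
    omega
  rw [Finset.mem_singleton] at ha
  rw [Finset.mem_insert, Finset.mem_singleton, not_or] at hb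
  refine ⟨a, b, ha, hb.1, fun h => hb.2 ?_⟩
  have h6 : a * b = a * a := by rw [h, h1]
  exact mul_left_cancel h6

section

variable {F : Type*} [Field F]

local notation "SL2F" => SpecialLinearGroup (Fin 2) F

theorem ext4 {a b : SpecialLinearGroup (Fin 2) F} (h00 : a 0 0 = b 0 0) (h01 : a 0 1 = b 0 1) (h10 : a 1 0 = b 1 0)
    (h11 : a 1 1 = b 1 1) : a = b := by
  ext i j
  fin_cases i <;> fin_cases j
  · exact h00
  · exact h01
  · exact h10
  · exact h11

theorem mul4 (a b : SpecialLinearGroup (Fin 2) F) (i j : Fin 2) : (a * b) i j = a i 0 * b 0 j + a i 1 * b 1 j := by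
  show (a.1 * b.1) i j = _
  rw [Matrix.mul_apply, Fin.sum_univ_two]

theorem det4 (a : SpecialLinearGroup (Fin 2) F) : a 0 0 * a 1 1 - a 0 1 * a 1 0 = 1 := by
  have := a.2
  rw [Matrix.det_fin_two] at this
  exact this

/-- the entries of an upper triangular matrix which is an involution modulo `±1` -/
theorem borel_inv {a : SpecialLinearGroup (Fin 2) F} (ha : a 1 0 = 0)
    (haa : a * a ∈ center (SpecialLinearGroup (Fin 2) F)) (hac : a ∉ center (SpecialLinearGroup (Fin 2) F)) :
    a 0 0 * a 0 0 = -1 ∧ a 1 1 = -a 0 0 := by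
  have hd := det4 a
  rw [ha, mul_zero, sub_zero] at hd
  have e01 : (a * a) 0 1 = a 0 1 * (a 0 0 + a 1 1) := by rw [mul4]; ring
  have e00 : (a * a) 0 0 = a 0 0 * a 0 0 := by rw [mul4, ha]; ring
  have hne : a 0 0 ≠ 0 := by
    intro h
    rw [h, zero_mul] at hd
    exact zero_ne_one hd
  rw [mem_center_SL2_iff] at haa hac
  have h01 : (a * a) 0 1 = 0 := by
    rcases haa with h | h <;> rw [h]
    · simp
    · simp [SpecialLinearGroup.coe_neg]
  rw [e01] at h01
  have h00 : (a 0 0 - a 1 1) * (a 0 0 + a 1 1) = 0 ∧ (a 0 0 * a 0 0 = 1 ∨ a 0 0 * a 0 0 = -1) := by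
    have e11 : (a * a) 1 1 = a 1 1 * a 1 1 := by rw [mul4, ha]; ring
    rcases haa with h | h
    · rw [h] at e00 e11
      have e00' : a 0 0 * a 0 0 = 1 := by rw [← e00]; simp
      have e11' : a 1 1 * a 1 1 = 1 := by rw [← e11]; simp
      exact ⟨by linear_combination e00' - e11', Or.inl e00'⟩
    · rw [h] at e00 e11
      have e00' : a 0 0 * a 0 0 = -1 := by rw [← e00]; simp [SpecialLinearGroup.coe_neg]
      have e11' : a 1 1 * a 1 1 = -1 := by rw [← e11]; simp [SpecialLinearGroup.coe_neg]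
      exact ⟨by linear_combination e00' - e11', Or.inr e00'⟩
  rcases h00 with ⟨h3, h4⟩
  by_cases hs : a 0 0 + a 1 1 = 0
  · refine ⟨?_, by linear_combination hs⟩
    linear_combination (a 0 0) * hs - hd
  · exfalso
    have h5 : a 0 1 = 0 := (mul_eq_zero.1 h01).resolve_right hs
    have h6 : a 0 0 = a 1 1 := sub_eq_zero.1 ((mul_eq_zero.1 h3).resolve_right hs)
    rw [← h6] at hd
    apply hac
    have h7 : (a 0 0 - 1) * (a 0 0 + 1) = 0 := by linear_combination hd
    rcases mul_eq_zero.1 h7 with h8 | h8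
    · left
      have h9 : a 0 0 = 1 := sub_eq_zero.1 h8
      exact ext4 (by rw [h9]; simp) (by rw [h5]; simp) (by rw [ha]; simp) (by rw [← h6, h9]; simp)
    · right
      have h9 : a 0 0 = -1 := eq_neg_of_add_eq_zero_left h8
      exact ext4 (by rw [h9]; simp [SpecialLinearGroup.coe_neg]) (by rw [h5]; simp [SpecialLinearGroup.coe_neg])
        (by rw [ha]; simp [SpecialLinearGroup.coe_neg]) (by rw [← h6, h9]; simp [SpecialLinearGroup.coe_neg])

/-- **no four-group in the image of the Borel subgroup** -/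
theorem no_klein (h2 : (2 : F) ≠ 0) {a b : SpecialLinearGroup (Fin 2) F} (ha : a 1 0 = 0) (hb : b 1 0 = 0)
    (haa : a * a ∈ center (SpecialLinearGroup (Fin 2) F)) (hac : a ∉ center (SpecialLinearGroup (Fin 2) F))
    (hbb : b * b ∈ center (SpecialLinearGroup (Fin 2) F)) (hbc : b ∉ center (SpecialLinearGroup (Fin 2) F))
    (hab : a * b * (a * b) ∈ center (SpecialLinearGroup (Fin 2) F))
    (habc : a * b ∉ center (SpecialLinearGroup (Fin 2) F)) : False := by
  obtain ⟨ha1, ha2⟩ := borel_inv ha haa hac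
  obtain ⟨hb1, hb2⟩ := borel_inv hb hbb hbc
  have h10 : (a * b) 1 0 = 0 := by rw [mul4, ha, hb]; ring
  obtain ⟨hc1, hc2⟩ := borel_inv h10 hab habc
  have e00 : (a * b) 0 0 = a 0 0 * b 0 0 := by rw [mul4, hb]; ring
  rw [e00] at hc1
  have h3 : (1 : F) = -1 := by
    calc (1 : F) = (a 0 0 * a 0 0) * (b 0 0 * b 0 0) := by rw [ha1, hb1]; ring
      _ = (a 0 0 * b 0 0) * (a 0 0 * b 0 0) := by ring
      _ = -1 := hc1
  apply h2
  linear_combination h3

local notation "PSL2F" => ProjectiveSpecialLinearGroup (Fin 2) F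

variable [Fintype F]

theorem isCyclic_of_le_normalizer (h2 : (2 : F) ≠ 0) (p : ℕ) [Fact p.Prime] [CharP F p]
    (P : Sylow p (ProjectiveSpecialLinearGroup (Fin 2) F)) (Q : Subgroup (ProjectiveSpecialLinearGroup (Fin 2) F))
    (hQ : Q ≤ normalizer ((P : Subgroup (ProjectiveSpecialLinearGroup (Fin 2) F)) :
      Set (ProjectiveSpecialLinearGroup (Fin 2) F))) (h4 : Nat.card Q = 4) : IsCyclic Q := by
  by_contra hc
  obtain ⟨hsq, a, b, ha, hb, hab⟩ := klein_elems h4 hc
  obtain ⟨g, hg⟩ := exists_le_map_borel p P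
  have key : ∀ x : Q, ∃ y : SpecialLinearGroup (Fin 2) F, y 1 0 = 0 ∧
      g * (QuotientGroup.mk' (center (SpecialLinearGroup (Fin 2) F)) y) * g⁻¹ = x := by
    intro x
    obtain ⟨z, ⟨y, hy, rfl⟩, hz⟩ := hg (hQ x.2)
    exact ⟨y, mem_borel_iff.1 hy, hz⟩
  obtain ⟨a', ha0, ha'⟩ := key a
  obtain ⟨b', hb0, hb'⟩ := key b
  have hone : ∀ y : SpecialLinearGroup (Fin 2) F,
      g * (QuotientGroup.mk' (center (SpecialLinearGroup (Fin 2) F)) y) * g⁻¹ = 1 ↔
        y ∈ center (SpecialLinearGroup (Fin 2) F) := by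
    intro y
    rw [mul_inv_eq_one, mul_eq_left]
    exact QuotientGroup.eq_one_iff y
  have hmul : ∀ y z : SpecialLinearGroup (Fin 2) F,
      g * (QuotientGroup.mk' (center (SpecialLinearGroup (Fin 2) F)) (y * z)) * g⁻¹ =
      (g * (QuotientGroup.mk' (center (SpecialLinearGroup (Fin 2) F)) y) * g⁻¹) *
      (g * (QuotientGroup.mk' (center (SpecialLinearGroup (Fin 2) F)) z) * g⁻¹) := by
    intro y z
    rw [map_mul]; group
  have e : ∀ x : Q, x = 1 ↔ (x : ProjectiveSpecialLinearGroup (Fin 2) F) = 1 := fun x => by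
    rw [Subtype.ext_iff]; rfl
  refine no_klein h2 ha0 hb0 ?_ ?_ ?_ ?_ ?_ ?_
  · rw [← hone, hmul, ha']
    exact (e _).1 (hsq a)
  · rw [← hone, ha']
    exact fun h => ha ((e _).2 h)
  · rw [← hone, hmul, hb']
    exact (e _).1 (hsq b)
  · rw [← hone, hb']
    exact fun h => hb ((e _).2 h)
  · rw [← hone, hmul, hmul, ha', hb']
    exact (e _).1 (hsq (a * b))
  · rw [← hone, hmul, ha', hb']
    exact fun h => hab ((e _).2 h)

theorem card_arith {q : ℕ} (hq : q % 8 = 3 ∨ q % 8 = 5) : ∃ m, Odd m ∧ q * (q ^ 2 - 1) = 8 * m := by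
  have hq' : ∃ t, q = 8 * t + 3 ∨ q = 8 * t + 5 := ⟨q / 8, by omega⟩
  obtain ⟨t, ht | ht⟩ := hq'
  · refine ⟨q * (8 * t ^ 2 + 6 * t + 1), ?_, ?_⟩
    · refine Odd.mul (Nat.odd_iff.2 (by omega)) ?_
      exact ⟨4 * t ^ 2 + 3 * t, by ring⟩
    · have h1 : q ^ 2 - 1 = 8 * (8 * t ^ 2 + 6 * t + 1) := by
        have : q ^ 2 = 8 * (8 * t ^ 2 + 6 * t + 1) + 1 := by rw [ht]; ring
        omega
      rw [h1]; ring
  · refine ⟨q * (8 * t ^ 2 + 10 * t + 3), ?_, ?_⟩
    · refine Odd.mul (Nat.odd_iff.2 (by omega)) ?_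
      exact ⟨4 * t ^ 2 + 5 * t + 1, by ring⟩
    · have h1 : q ^ 2 - 1 = 8 * (8 * t ^ 2 + 10 * t + 3) := by
        have : q ^ 2 = 8 * (8 * t ^ 2 + 10 * t + 3) + 1 := by rw [ht]; ring
        omega
      rw [h1]; ring

omit [Field F] in
theorem odd_of (hq : Fintype.card F % 8 = 3 ∨ Fintype.card F % 8 = 5) : Odd (Fintype.card F) :=
  Nat.odd_iff.2 (by omega)

theorem card_psl (hq : Fintype.card F % 8 = 3 ∨ Fintype.card F % 8 = 5) :
    ∃ m, Odd m ∧ Nat.card (ProjectiveSpecialLinearGroup (Fin 2) F) = 4 * m := by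
  obtain ⟨m, hm, h⟩ := card_arith hq
  refine ⟨m, hm, ?_⟩
  have h1 := card_PSL2_odd F (odd_of hq)
  omega

theorem not_eight_dvd (hq : Fintype.card F % 8 = 3 ∨ Fintype.card F % 8 = 5) :
    ¬ 8 ∣ Nat.card (ProjectiveSpecialLinearGroup (Fin 2) F) := by
  obtain ⟨m, hm, h⟩ := card_psl hq
  rw [h]
  obtain ⟨k, rfl⟩ := hm
  omega

theorem card_syl (hq : Fintype.card F % 8 = 3 ∨ Fintype.card F % 8 = 5)
    (S : Sylow 2 (ProjectiveSpecialLinearGroup (Fin 2) F)) :
    Nat.card (S : Subgroup (ProjectiveSpecialLinearGroup (Fin 2) F)) = 4 := by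
  have h2p : Fact (Nat.Prime 2) := ⟨Nat.prime_two⟩
  obtain ⟨m, hm, h⟩ := card_psl hq
  have h4 : 2 ^ 2 ∣ Nat.card (S : Subgroup (ProjectiveSpecialLinearGroup (Fin 2) F)) :=
    S.pow_dvd_card_of_pow_dvd_card ⟨m, h⟩
  obtain ⟨k, hk⟩ := S.isPGroup'.exists_card_eq
  have hk2 : k < 3 := by
    by_contra hcon
    apply not_eight_dvd hq
    have h5 : 2 ^ 3 ∣ Nat.card (S : Subgroup (ProjectiveSpecialLinearGroup (Fin 2) F)) := by
      rw [hk]; exact pow_dvd_pow 2 (by omega)
    exact h5.trans (card_subgroup_dvd_card _)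
  have hk3 : 2 ≤ k := by
    rw [hk] at h4
    exact (Nat.pow_dvd_pow_iff_le_right (by norm_num)).1 h4
  have : k = 2 := by omega
  rw [hk, this]; norm_num

theorem not_cyclic (hq : Fintype.card F % 8 = 3 ∨ Fintype.card F % 8 = 5)
    (S : Sylow 2 (ProjectiveSpecialLinearGroup (Fin 2) F)) :
    ¬ IsCyclic (S : Subgroup (ProjectiveSpecialLinearGroup (Fin 2) F)) := by
  have h2p : Fact (Nat.Prime 2) := ⟨Nat.prime_two⟩
  intro hc
  have h4 := card_syl hq S
  have hfac : (Nat.card (ProjectiveSpecialLinearGroup (Fin 2) F)).minFac = 2 := by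
    rw [Nat.minFac_eq_two_iff]
    obtain ⟨m, hm, h⟩ := card_psl hq
    exact ⟨2 * m, by rw [h]; ring⟩
  have h1 := IsCyclic.normalizer_le_centralizer hfac hc
  have h2 := MonoidHom.ker_transferSylow_isComplement' S h1
  have h3 := h2.symm.index_eq_card
  rw [index_ker] at h3
  obtain ⟨s, hs, hodd⟩ := oddGen_psl (odd_of hq)
  have h5 : ∀ x, MonoidHom.transferSylow S h1 x = 1 :=
    KleinSyl.hom_trivial (fun x => S.isPGroup' x) _ hs hodd
  have h6 : (MonoidHom.transferSylow S h1).range = ⊥ := by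
    rw [eq_bot_iff]
    rintro _ ⟨x, rfl⟩
    rw [h5]; exact one_mem _
  rw [h6, card_bot, h4] at h3
  norm_num at h3

theorem card_normalizer (hq : Fintype.card F % 8 = 3 ∨ Fintype.card F % 8 = 5)
    (S : Sylow 2 (ProjectiveSpecialLinearGroup (Fin 2) F)) :
    Nat.card (normalizer ((S : Subgroup (ProjectiveSpecialLinearGroup (Fin 2) F)) :
      Set (ProjectiveSpecialLinearGroup (Fin 2) F))) = 12 := by
  have h2p : Fact (Nat.Prime 2) := ⟨Nat.prime_two⟩
  have hπ := QuotientGroup.mk'_surjective (center (SpecialLinearGroup (Fin 2) F))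
  have hZc : Nat.card (center (SpecialLinearGroup (Fin 2) F)) = 2 :=
    card_center_SL2_odd ((two_ne_zero_iff_odd F).2 (odd_of hq))
  -- the full preimage is a Sylow subgroup
  have hT : IsPGroup 2 ((S : Subgroup (ProjectiveSpecialLinearGroup (Fin 2) F)).comap
      (QuotientGroup.mk' (center (SpecialLinearGroup (Fin 2) F)))) := by
    refine IsPGroup.comap_of_ker_isPGroup S.isPGroup' _ ?_
    rw [QuotientGroup.ker_mk']
    exact IsPGroup.of_card (n := 1) (by rw [hZc, pow_one])
  have hidx : ¬ 2 ∣ ((S : Subgroup (ProjectiveSpecialLinearGroup (Fin 2) F)).comap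
      (QuotientGroup.mk' (center (SpecialLinearGroup (Fin 2) F)))).index := by
    rw [index_comap_of_surjective _ hπ]
    exact S.not_dvd_index
  have h1 := ((S2431.result (odd_of hq) (hT.toSylow hidx)).2.2 hq)
  have e : ((hT.toSylow hidx : Sylow 2 (SpecialLinearGroup (Fin 2) F)) : Subgroup (SpecialLinearGroup (Fin 2) F)) =
    (S : Subgroup (ProjectiveSpecialLinearGroup (Fin 2) F)).comap
      (QuotientGroup.mk' (center (SpecialLinearGroup (Fin 2) F))) := rfl
  rw [e, ← comap_normalizer_eq_of_surjective _ hπ] at h1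
  have h3 : ∀ A : Subgroup (ProjectiveSpecialLinearGroup (Fin 2) F),
      Nat.card (A.comap (QuotientGroup.mk' (center (SpecialLinearGroup (Fin 2) F)))) = 2 * Nat.card A := by
    intro A
    have h4 := card_mul_index (A.comap (QuotientGroup.mk' (center (SpecialLinearGroup (Fin 2) F))))
    rw [index_comap_of_surjective _ hπ, card_eq_card_quotient_mul_card_subgroup (center (SpecialLinearGroup (Fin 2) F)),
      hZc] at h4
    have h5 := card_mul_index A
    have h6 : 0 < A.index := Nat.pos_of_ne_zero index_ne_zero_of_finite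
    have h7 : Nat.card (A.comap (QuotientGroup.mk' (center (SpecialLinearGroup (Fin 2) F)))) * A.index =
        (2 * Nat.card A) * A.index := by
      rw [h4]
      have h8 : Nat.card (SpecialLinearGroup (Fin 2) F ⧸ center (SpecialLinearGroup (Fin 2) F)) =
        Nat.card A * A.index := h5.symm
      rw [h8]; ring
    exact Nat.eq_of_mul_eq_mul_right h6 h7
  have h4 : Nat.card ((hT.toSylow hidx : Sylow 2 (SpecialLinearGroup (Fin 2) F)) :
      Subgroup (SpecialLinearGroup (Fin 2) F)) = 2 * 4 := by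
    rw [e, h3, card_syl hq S]
  have h5 : 2 * Nat.card (normalizer ((S : Subgroup (ProjectiveSpecialLinearGroup (Fin 2) F)) :
      Set (ProjectiveSpecialLinearGroup (Fin 2) F))) = 3 * (2 * 4) := by
    rw [← h3, ← h4]
    exact h1
  omega

/-- **Pronormality, `q ≡ ±3 mod 8`.** -/
theorem isPronormal (hq : Fintype.card F % 8 = 3 ∨ Fintype.card F % 8 = 5)
    (H : Subgroup (ProjectiveSpecialLinearGroup (Fin 2) F)) (hH : ¬ 2 ∣ H.index) : Cfsg.IsPronormal H := by
  have h2p : Fact (Nat.Prime 2) := ⟨Nat.prime_two⟩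
  have hodd := odd_of hq
  have h2 : (2 : F) ≠ 0 := (two_ne_zero_iff_odd F).2 hodd
  obtain ⟨S, hS⟩ := H94.Pronormal.exists_sylow_le H hH
  have h4 := card_syl hq S
  have hnc := not_cyclic hq S
  refine KleinSyl.main S h4 hnc (card_normalizer hq S) (fun K hSK => ?_) H hS
  obtain ⟨p, hp⟩ := CharP.exists F
  have hpp : Fact p.Prime := ⟨CharP.char_is_prime F p⟩
  have hpow : ∀ (K' : Type) [Field K'] [Fintype K'] (m : ℕ), Fintype.card K' ^ m = Fintype.card F →
      Odd (Fintype.card K') := by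
    intro K' _ _ m hm
    rw [← hm] at hodd
    rcases Nat.eq_zero_or_pos m with rfl | h0
    · rw [pow_zero] at hm
      have := Fintype.one_lt_card (α := F)
      omega
    · rw [Nat.odd_pow_iff h0.ne'] at hodd
      exact hodd
  rcases S0799.result (F := F) rfl p K with
    ⟨k, -, ⟨hc, -⟩ | ⟨⟨e⟩⟩⟩ | ⟨P, K₁, hK₁, ⟨e⟩⟩ | ⟨⟨e⟩⟩ | ⟨⟨e⟩⟩ | ⟨⟨e⟩⟩ | ⟨K', _, _, m, hm, ⟨⟨e⟩⟩ | ⟨⟨e⟩⟩⟩
  · exact Or.inl hc
  · exact Or.inr (Or.inl ⟨k, ⟨e⟩⟩)
  · exfalso
    apply hnc
    -- the image of `S` in `K₁`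
    obtain ⟨f, hf⟩ : ∃ f : (S : Subgroup (ProjectiveSpecialLinearGroup (Fin 2) F)) →*
        ProjectiveSpecialLinearGroup (Fin 2) F, f = K₁.subtype.comp (e.toMonoidHom.comp (inclusion hSK)) := ⟨_, rfl⟩
    have hinj : Function.Injective f := by
      rw [hf]
      exact K₁.subtype_injective.comp (e.injective.comp (inclusion_injective hSK))
    have h5 : IsCyclic f.range := by
      refine isCyclic_of_le_normalizer h2 p P f.range ?_ ?_
      · refine le_trans ?_ hK₁
        rintro _ ⟨x, rfl⟩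
        rw [hf]
        exact (e (inclusion hSK x)).2
      · rw [← Nat.card_congr (MonoidHom.ofInjective hinj).toEquiv]
        exact h4
    exact isCyclic_of_injective (MonoidHom.ofInjective hinj).toMonoidHom (MonoidHom.ofInjective hinj).injective
  · exact Or.inr (Or.inr (Or.inr ((oddGen_alt 4).map e.symm.toMonoidHom e.symm.surjective)))
  · refine Or.inr (Or.inr (Or.inl ?_))
    rw [Nat.card_congr e.toEquiv, Nat.card_perm, Nat.card_eq_fintype_card, Fintype.card_fin]
    decide
  · exact Or.inr (Or.inr (Or.inr ((oddGen_alt 5).map e.symm.toMonoidHom e.symm.surjective)))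
  · exact Or.inr (Or.inr (Or.inr ((oddGen_psl (hpow K' m hm)).map e.symm.toMonoidHom e.symm.surjective)))
  · refine Or.inr (Or.inr (Or.inl ?_))
    rw [Nat.card_congr e.toEquiv, card_PGL2]
    apply Dvd.dvd.mul_left
    obtain ⟨t, ht⟩ := hpow K' m hm
    have h5 : Fintype.card K' ^ 2 - 1 = 4 * (t * (t + 1)) := by
      have : Fintype.card K' ^ 2 = 4 * (t * (t + 1)) + 1 := by rw [ht]; ring
      omega
    rw [h5]
    obtain ⟨u, hu⟩ := Nat.even_mul_succ_self t
    exact ⟨u, by rw [hu]; ring⟩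

end

end Cfsg.Agent.H95.PSLTwo
end

-- part: S2225
section
set_option autoImplicit false
open Cfsg

namespace Cfsg.Agent.S2225

open Matrix

theorem pow_one_case {F : Type*} [Field F] [Fintype F] (h2 : (2 : F) ≠ 0)
    (H : Subgroup (ProjectiveSpecialLinearGroup (Fin 2) F)) (hH : ¬ 2 ∣ H.index) : Cfsg.IsPronormal H := by
  have h2p : Fact (Nat.Prime 2) := ⟨Nat.prime_two⟩
  have hodd : Odd (Fintype.card F) := (ClassicalGeometry.PSL2Basic.two_ne_zero_iff_odd F).1 h2
  have hcases : (Fintype.card F % 8 = 3 ∨ Fintype.card F % 8 = 5) ∨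
      (Fintype.card F % 8 = 1 ∨ Fintype.card F % 8 = 7) := by
    have := Nat.odd_iff.1 hodd
    omega
  rcases hcases with hq | hq
  · exact H95.PSLTwo.isPronormal hq H hH
  · obtain ⟨S, hS⟩ := H94.Pronormal.exists_sylow_le H hH
    refine H94.Pronormal.isPronormal_of_selfNorm S H hS ?_
    obtain ⟨T⟩ : Nonempty (Sylow 2 (SpecialLinearGroup (Fin 2) F)) := inferInstance
    exact H95.SelfNorm.quot (T : Subgroup (SpecialLinearGroup (Fin 2) F)) T.isPGroup'
      ((S2431.result hodd T).2.1 hq).le S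

/-- Let F be a finite field and d = 2^w ≥ 2 a power of 2 such that PSL_d(F) is simple. Then every subgroup H of PSL_d(F) of odd index is pronormal: for every g, H and gHg⁻¹ are conjugate by an element of the subgroup they generate. -/
theorem result {F : Type*} [Field F] [Fintype F]
    (w : ℕ) (hw : 1 ≤ w) (hs : IsSimpleGroup (Matrix.ProjectiveSpecialLinearGroup (Fin (2 ^ w)) F))
    (H : Subgroup (Matrix.ProjectiveSpecialLinearGroup (Fin (2 ^ w)) F)) (hH : Odd H.index) : Cfsg.IsPronormal H := by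
  have h2p : Fact (Nat.Prime 2) := ⟨Nat.prime_two⟩
  have hH' : ¬ 2 ∣ H.index := by
    rw [← even_iff_two_dvd, Nat.not_even_iff_odd]; exact hH
  by_cases h2 : (2 : F) = 0
  · have hchar : CharP F 2 := CharTwo.of_one_ne_zero_of_two_eq_zero one_ne_zero h2
    have key : ∀ N n : ℕ, N = n + 1 → ∀ H : Subgroup (Matrix.ProjectiveSpecialLinearGroup (Fin N) F),
        ¬ 2 ∣ H.index → Cfsg.IsPronormal H := by
      rintro N n rfl H hH
      exact H95.EvenPSL.isPronormal n H hH
    have hpos : 0 < 2 ^ w := by positivity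
    exact key (2 ^ w) (2 ^ w - 1) (by omega) H hH'
  · rcases Nat.lt_or_ge w 2 with h1 | h1
    · have hw1 : w = 1 := by omega
      have key : ∀ N : ℕ, N = 2 → ∀ H : Subgroup (Matrix.ProjectiveSpecialLinearGroup (Fin N) F),
          ¬ 2 ∣ H.index → Cfsg.IsPronormal H := by
        rintro N rfl H hH
        exact pow_one_case h2 H hH
      exact key (2 ^ w) (by rw [hw1, pow_one]) H hH'
    · obtain ⟨S, hS⟩ := H94.Pronormal.exists_sylow_le H hH'
      exact H94.Pronormal.isPronormal_of_selfNorm S H hS (H95.OddNorm.selfNorm_PSL h2 h1 S)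

end Cfsg.Agent.S2225
end
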