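import Cfsg.Statements.S4112
set_option linter.all false

set_option autoImplicit false
open Cfsg

namespace Cfsg.Agent.S4112

open Subgroup

/-- A minimal supplement of a normal subgroup `N` of a finite group has order divisible only by the
primes dividing the index of `N`. -/
theorem exists_supplement {G : Type*} [Group G] [Finite G] (N : Subgroup G) [N.Normal] :
    ∃ H : Subgroup G, H ⊔ N = ⊤ ∧ ∀ p : ℕ, p.Prime → p ∣ Nat.card H → p ∣ N.index := by
  classical
  obtain ⟨H, hH, hmin⟩ := Set.exists_min_image {H : Subgroup G | H ⊔ N = ⊤}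
    (fun H : Subgroup G => Nat.card H) (Set.toFinite _) ⟨⊤, by simp⟩
  refine ⟨H, hH, ?_⟩
  intro p hp hpH
  have := Fact.mk hp
  by_contra hpN
  have hH' : H ⊔ N = ⊤ := hH
  set K : Subgroup H := N.subgroupOf H with hK
  have hKi : K.index = N.index := by
    have := relIndex_sup_right H N
    rw [hH', relIndex_top_right] at this
    exact this.symm
  -- minimality for subgroups of `H`
  have hmin' : ∀ L : Subgroup H, L ⊔ K = ⊤ → L = ⊤ := by
    intro L hL
    have hL' : (L.map H.subtype) ⊔ N = ⊤ := by
      rw [← top_le_iff, ← hH']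
      refine sup_le ?_ le_sup_right
      intro x hx
      have hx' : (⟨x, hx⟩ : H) ∈ L ⊔ K := by rw [hL]; trivial
      rw [← SetLike.mem_coe, mul_normal] at hx'
      obtain ⟨a, ha, b, hb, hab⟩ := hx'
      have : x = (a : G) * (b : G) := by
        have := congrArg Subtype.val hab
        simpa using this.symm
      rw [this]
      exact mul_mem_sup (mem_map_of_mem _ ha) (mem_subgroupOf.mp hb)
    have h1 : Nat.card H ≤ Nat.card (L.map H.subtype) := hmin _ hL'
    have h2 : L.map H.subtype = H := by
      refine Subgroup.eq_of_le_of_card_ge (Subgroup.map_subtype_le L) h1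
    have h3 : (L.map H.subtype).subgroupOf H = L := by
      rw [subgroupOf, comap_map_eq_self_of_injective H.subtype_injective]
    rw [← h3, h2, subgroupOf_self]
  let P : Sylow p H := default
  -- `P ≤ K`
  have hPK : (P : Subgroup H) ≤ K := by
    intro x hx
    obtain ⟨k, hk⟩ := P.2 ⟨x, hx⟩
    have hk' : x ^ p ^ k = 1 := by
      have := congrArg Subtype.val hk
      simpa using this
    have h1 : (QuotientGroup.mk' K x) ^ p ^ k = 1 := by
      rw [← map_pow, hk', map_one]
    have h2 : (QuotientGroup.mk' K x) ^ K.index = 1 := by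
      rw [Subgroup.index]
      exact pow_card_eq_one'
    have h3 : (p ^ k).Coprime K.index := by
      rw [hKi]
      exact Nat.Coprime.pow_left _ ((Nat.Prime.coprime_iff_not_dvd hp).mpr hpN)
    have h4 : QuotientGroup.mk' K x = 1 := by
      have := orderOf_dvd_of_pow_eq_one h1
      have h5 := orderOf_dvd_of_pow_eq_one h2
      have h6 := Nat.dvd_gcd this h5
      rw [h3] at h6
      exact orderOf_eq_one_iff.mp (Nat.dvd_one.mp h6)
    exact (QuotientGroup.eq_one_iff x).mp h4
  have hPn : normalizer ((P : Subgroup H) : Set H) = ⊤ := by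
    have h1 : normalizer (P : Set H) ⊔ K = ⊤ := P.normalizer_sup_eq_top' hPK
    have h2 := hmin' _ h1
    rw [← Sylow.coe_coe] at h2
    exact h2
  have : (P : Subgroup H).Normal := normalizer_eq_top_iff.mp hPn
  have hcop : Nat.Coprime (Nat.card (P : Subgroup H)) (P : Subgroup H).index := by
    have h1 := P.not_dvd_index
    obtain ⟨n, hn⟩ := (IsPGroup.iff_card).mp P.2
    rw [hn]
    exact Nat.Coprime.pow_left _ ((Nat.Prime.coprime_iff_not_dvd hp).mpr h1)
  obtain ⟨Q, hQ⟩ := Subgroup.exists_right_complement'_of_coprime hcop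
  have hQt : Q = ⊤ := by
    apply hmin'
    rw [← top_le_iff, ← hQ.sup_eq_top]
    exact sup_le (hPK.trans le_sup_right) le_sup_left
  have hPb : (P : Subgroup H) = ⊥ := by
    have := hQ.disjoint.eq_bot
    rwa [hQt, inf_top_eq] at this
  have h7 := P.not_dvd_index
  apply h7
  have h8 : (P : Subgroup H).index = Nat.card H := by rw [hPb, index_bot]
  rw [h8]
  exact hpH

/-- Let G be a finite group and M ≤ N non-trivial proper normal subgroups such that for every g outside N the conjugacy class of g is a union of cosets of M (equivalently gm is conjugate to g for every m ∈ M). Then (1) and (2) below are equivalent, and they imply (3): (1) every g outside N acts fixed-point-freely on M, that is C_G(x) ≤ N for every x ∈ M, x ≠ 1; (2) the index of N in G is coprime to the order of M; (3) there is a subgroup H of G with HN = G and H ∩ M = 1. -/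
theorem result {G : Type*} [Group G] [Finite G] (N M : Subgroup G) [N.Normal] [M.Normal] (hMN : M ≤ N) (hM1 : M ≠ ⊥) (hN2 : N ≠ ⊤)
    (hcam : ∀ g : G, g ∉ N → ∀ m ∈ M, ∃ x : G, x * g * x⁻¹ = g * m) :
    ((∀ x ∈ M, x ≠ 1 → Subgroup.centralizer ({x} : Set G) ≤ N) ↔ N.index.Coprime (Nat.card M)) ∧
    ((∀ x ∈ M, x ≠ 1 → Subgroup.centralizer ({x} : Set G) ≤ N) → ∃ H : Subgroup G, H ⊔ N = ⊤ ∧ H ⊓ M = ⊥) := by
  have h12 : (∀ x ∈ M, x ≠ 1 → Subgroup.centralizer ({x} : Set G) ≤ N) → N.index.Coprime (Nat.card M) := by
    intro hc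
    by_contra hcop
    obtain ⟨p, hp, hpN, hpM⟩ := Nat.Prime.not_coprime_iff_dvd.mp hcop
    have := Fact.mk hp
    let P : Sylow p G := default
    let _ : MulAction (P : Subgroup G) M :=
      MulAction.compHom M ((MulAut.conjNormal (H := M)).comp (P : Subgroup G).subtype)
    have hsmul : ∀ (g : (P : Subgroup G)) (m : M), ((g • m : M) : G) = (g : G) * m * (g : G)⁻¹ := by
      intro g m
      rfl
    obtain ⟨b, hb, hb1⟩ := P.2.exists_fixed_point_of_prime_dvd_card_of_fixed_point M hpM
      (a := (1 : M)) (by
        intro g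
        apply Subtype.ext
        rw [hsmul]; simp)
    have hPN : (P : Subgroup G) ≤ N := by
      refine le_trans ?_ (hc b b.2 (fun h => hb1 (Subtype.ext h.symm)))
      intro g hg
      rw [mem_centralizer_singleton_iff]
      have := congrArg Subtype.val (hb ⟨g, hg⟩)
      rw [hsmul] at this
      simp only at this
      calc g * (b : G) = (g * b * g⁻¹) * g := by group
        _ = b * g := by rw [this]
    exact P.not_dvd_index (hpN.trans (index_dvd_of_le hPN))
  refine ⟨⟨h12, ?_⟩, ?_⟩
  · intro hcop x hxM hx1 c hc
    rw [mem_centralizer_singleton_iff] at hc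
    by_contra hcN
    set m := Nat.card M with hm
    have hm0 : m ≠ 0 := Nat.card_pos.ne'
    have hn0 : orderOf c ≠ 0 := (orderOf_pos c).ne'
    -- c' = c ^ (m ^ n) has order coprime to m
    set k := m ^ orderOf c with hk
    set d := c ^ k with hd
    have hdc : (orderOf d).Coprime m := by
      rw [hd, orderOf_pow]
      by_contra hnc
      obtain ⟨p, hp, hp1, hp2⟩ := Nat.Prime.not_coprime_iff_dvd.mp hnc
      -- p ∣ n / gcd n k
      have h1 : p ^ (padicValNat p (orderOf c)) ∣ Nat.gcd (orderOf c) k := by
        apply Nat.dvd_gcd pow_padicValNat_dvd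
        have h2 : padicValNat p (orderOf c) ≤ orderOf c := by
          have h3 : p ^ padicValNat p (orderOf c) ≤ orderOf c :=
            Nat.le_of_dvd (orderOf_pos c) pow_padicValNat_dvd
          exact (Nat.lt_pow_self hp.one_lt).le.trans h3
        exact (pow_dvd_pow p h2).trans (pow_dvd_pow_of_dvd hp2 _)
      have h4 : p ^ (padicValNat p (orderOf c) + 1) ∣ orderOf c := by
        rw [pow_succ]
        have h5 : Nat.gcd (orderOf c) k * (orderOf c / Nat.gcd (orderOf c) k) = orderOf c :=
          Nat.mul_div_cancel' (Nat.gcd_dvd_left _ _)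
        rw [← h5]
        refine mul_dvd_mul ?_ hp1
        rw [h5]
        exact h1
      have := Fact.mk hp
      exact pow_succ_padicValNat_not_dvd hn0 h4
    have hdN : d ∉ N := by
      intro hdN
      apply hcN
      have h1 : (QuotientGroup.mk' N c) ^ k = 1 := by
        rw [← map_pow]
        exact (QuotientGroup.eq_one_iff _).mpr hdN
      have h2 : (QuotientGroup.mk' N c) ^ N.index = 1 := by
        rw [Subgroup.index]
        exact pow_card_eq_one'
      have h3 : k.Coprime N.index := Nat.Coprime.pow_left _ hcop.symm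
      have h4 : QuotientGroup.mk' N c = 1 := by
        have := orderOf_dvd_of_pow_eq_one h1
        have h5 := orderOf_dvd_of_pow_eq_one h2
        have h6 := Nat.dvd_gcd this h5
        rw [h3] at h6
        exact orderOf_eq_one_iff.mp (Nat.dvd_one.mp h6)
      exact (QuotientGroup.eq_one_iff c).mp h4
    have hdx : Commute d x := by
      have : Commute c x := hc
      exact this.pow_left k
    have hox : orderOf x ∣ m := by
      have := orderOf_dvd_natCard (⟨x, hxM⟩ : M)
      rwa [← orderOf_coe (⟨x, hxM⟩ : M)] at this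
    have hcopx : (orderOf d).Coprime (orderOf x) := Nat.Coprime.coprime_dvd_right hox hdc
    have h1 := hdx.orderOf_mul_eq_mul_orderOf_of_coprime hcopx
    obtain ⟨y, hy⟩ := hcam d hdN x hxM
    have h2 : orderOf (d * x) = orderOf d := by
      rw [← hy]
      have := (MulAut.conj y).orderOf_eq d
      simpa using this
    rw [h2] at h1
    have h3 : orderOf x = 1 := by
      have h4 := orderOf_pos d
      have : orderOf d * 1 = orderOf d * orderOf x := by rw [mul_one]; exact h1
      exact (Nat.eq_of_mul_eq_mul_left h4 this).symm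
    exact hx1 (orderOf_eq_one_iff.mp h3)
  · intro hc
    have hcop := h12 hc
    obtain ⟨H, hHN, hH⟩ := exists_supplement N
    refine ⟨H, hHN, ?_⟩
    have hcopHM : (Nat.card H).Coprime (Nat.card M) := by
      by_contra hnc
      obtain ⟨p, hp, hp1, hp2⟩ := Nat.Prime.not_coprime_iff_dvd.mp hnc
      exact Nat.Prime.not_coprime_iff_dvd.mpr ⟨p, hp, hH p hp hp1, hp2⟩ hcop
    exact (Subgroup.disjoint_of_coprime_natCard hcopHM).eq_bot

end Cfsg.Agent.S4112
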