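import Cfsg.Statements.S0608
import Cfsg.Agent.PLocal.ThompsonJ
import Cfsg.Agent.PLocal.StableClosure
import Cfsg.Agent.Lib.SylowNormalInf
set_option linter.all false

set_option autoImplicit false
open Cfsg
open scoped Pointwise

namespace Cfsg.Agent.S0608

open Cfsg.Agent.PLocal.ThompsonJ Cfsg.Agent.PLocal.StableClosure Cfsg.Agent.PLocal

theorem mem_map_conj {G : Type*} [Group G] {U : Subgroup G} {g x : G} :
    x ∈ U.map (MulAut.conj g).toMonoidHom ↔ ∃ u ∈ U, x = g * u * g⁻¹ := by
  constructor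
  · rintro ⟨u, hu, rfl⟩
    exact ⟨u, hu, rfl⟩
  · rintro ⟨u, hu, rfl⟩
    exact ⟨u, hu, rfl⟩

/-- `N_G(U) ≤ N_G(J(U))`. -/
theorem normalizer_le_normalizer_thompsonSubgroupOf {G : Type*} [Group G] [Finite G] (p : ℕ)
    (U : Subgroup G) : Subgroup.normalizer (U : Set G) ≤
      Subgroup.normalizer (thompsonSubgroupOf p U : Set G) := by
  intro n hn
  refine Subgroup.mem_normalizer_fintype fun y hy => ?_
  have h1 : U.map (MulAut.conj n).toMonoidHom = U := by
    ext x
    rw [mem_map_conj]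
    constructor
    · rintro ⟨u, hu, rfl⟩
      exact (Subgroup.mem_normalizer_iff.1 hn u).1 hu
    · intro hx
      refine ⟨n⁻¹ * x * n, ?_, by group⟩
      rw [Subgroup.mem_normalizer_iff.1 hn]
      have : n * (n⁻¹ * x * n) * n⁻¹ = x := by group
      rwa [this]
  have h2 := thompsonSubgroupOf_map_conj p n U
  rw [h1] at h2
  rw [h2]
  exact mem_map_conj.2 ⟨y, hy, rfl⟩

/-- With trivial p'-core, Thompson factorizability is equivalent to J(G) centralizing the subgroup generated by all Ω₁(Z(S)), S Sylow. -/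
theorem result {G : Type*} [Group G] [Finite G] {p : ℕ} [Fact p.Prime] (hO : Cfsg.pPrimeCore p G = ⊥) : Cfsg.IsThompsonFactorizable p G ↔ Cfsg.thompsonSubgroup p G ≤ Subgroup.centralizer ((⨆ S : Sylow p G, Cfsg.omegaOne p (((S : Subgroup G)) ⊓ Subgroup.centralizer ((S : Subgroup G) : Set G)) : Subgroup G) : Set G) := by
  set Z : Subgroup G → Subgroup G := fun U => omegaOne p (U ⊓ Subgroup.centralizer (U : Set G)) with hZdef
  have hZ : ∀ (U : Subgroup G) (g : G), Z (U.map (MulAut.conj g).toMonoidHom) =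
      (Z U).map (MulAut.conj g).toMonoidHom := by
    intro U g
    have hi : Function.Injective (MulAut.conj g).toMonoidHom := (MulAut.conj g).injective
    rw [hZdef]
    change omegaOne p _ = (omegaOne p _).map _
    rw [← inf_centralizer_map hi, omegaOne_map p hi]
  have hsmul : ∀ (g : G) (S : Sylow p G), ((g • S : Sylow p G) : Subgroup G) =
      (S : Subgroup G).map (MulAut.conj g).toMonoidHom := fun g S => rfl
  change _ ↔ thompsonSubgroup p G ≤
    Subgroup.centralizer ((⨆ S : Sylow p G, Z (S : Subgroup G) : Subgroup G) : Set G)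
  constructor
  · intro h
    rw [thompsonSubgroup_eq_iSup_sylow]
    refine iSup_le fun S => ?_
    rw [Subgroup.le_centralizer_iff]
    refine iSup_le fun T => ?_
    obtain ⟨g, hg⟩ := MulAction.exists_smul_eq G S T
    obtain ⟨x, hx, c, hc, n, hn, hgn⟩ := h S g⁻¹
    rw [hO, Subgroup.mem_bot] at hx
    rw [hx, one_mul] at hgn
    have hgg : g = n⁻¹ * c⁻¹ := by rw [← mul_inv_rev, ← hgn, inv_inv]
    rw [← hg, hsmul, hZ]
    intro z' hz'
    obtain ⟨z, hz, rfl⟩ := mem_map_conj.1 hz'
    rw [Subgroup.mem_centralizer_iff]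
    intro j hj
    have h1 : z * c = c * z := Subgroup.mem_centralizer_iff.1 hc z hz
    have h2 : n * j * n⁻¹ ∈ thompsonSubgroupOf p (S : Subgroup G) :=
      (Subgroup.mem_normalizer_iff.1 hn j).1 hj
    have h3 : (n * j * n⁻¹) * z = z * (n * j * n⁻¹) :=
      Subgroup.mem_centralizer_iff.1 ((omegaOne_le p _ hz).2) _ (thompsonSubgroupOf_le_self p _ h2)
    have h4 : g * z * g⁻¹ = n⁻¹ * z * n := by
      rw [hgg]
      calc n⁻¹ * c⁻¹ * z * (n⁻¹ * c⁻¹)⁻¹ = n⁻¹ * c⁻¹ * (z * c) * n := by group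
        _ = n⁻¹ * c⁻¹ * (c * z) * n := by rw [h1]
        _ = n⁻¹ * z * n := by group
    rw [h4]
    calc j * (n⁻¹ * z * n) = n⁻¹ * ((n * j * n⁻¹) * z) * n := by group
      _ = n⁻¹ * (z * (n * j * n⁻¹)) * n := by rw [h3]
      _ = n⁻¹ * z * n * j := by group
  · intro h S g
    set V : Subgroup G := ⨆ S : Sylow p G, Z (S : Subgroup G) with hV
    have hVn : V.Normal := by
      refine ⟨fun v hv g => ?_⟩
      have h1 : V ≤ V.comap (MulAut.conj g).toMonoidHom := by
        refine iSup_le fun S => ?_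
        rw [← Subgroup.map_le_iff_le_comap, ← hZ, ← hsmul]
        exact le_iSup (fun S : Sylow p G => Z (S : Subgroup G)) (g • S)
      exact h1 hv
    have hCn : (Subgroup.centralizer (V : Set G)).Normal := inferInstance
    have htop := Cfsg.Agent.Lib.SylowNormalInf.normalizer_inf_sup_eq_top S
      (Subgroup.centralizer (V : Set G))
    have hJ : thompsonSubgroupOf p ((S : Subgroup G) ⊓ Subgroup.centralizer (V : Set G)) =
        thompsonSubgroupOf p (S : Subgroup G) := by
      obtain ⟨B, hB, hBS⟩ := exists_max_le_sylow S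
      rw [thompsonSubgroupOf_eq_sSup hB hBS,
        thompsonSubgroupOf_eq_sSup hB (le_inf hBS ((le_thompsonSubgroup hB).trans h))]
      congr 1
      ext A
      exact ⟨fun hA => ⟨hA.1, hA.2.trans inf_le_left⟩,
        fun hA => ⟨hA.1, le_inf hA.2 ((le_thompsonSubgroup hA.1).trans h)⟩⟩
    have hg : g ∈ Subgroup.normalizer
        (((S : Subgroup G) ⊓ Subgroup.centralizer (V : Set G) : Subgroup G) : Set G) ⊔
        Subgroup.centralizer (V : Set G) := htop ▸ Subgroup.mem_top g
    rw [sup_comm] at hg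
    obtain ⟨c, hc, n, hn, rfl⟩ := Subgroup.mem_sup_of_normal_left.1 hg
    refine ⟨1, one_mem _, c, ?_, n, ?_, by rw [one_mul]⟩
    · refine Subgroup.centralizer_le ?_ hc
      exact le_iSup (fun S : Sylow p G => Z (S : Subgroup G)) S
    · have := normalizer_le_normalizer_thompsonSubgroupOf p _ hn
      rwa [hJ] at this

end Cfsg.Agent.S0608
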