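import Mathlib
import Cfsg.Statements.S2341
import Cfsg.Agent.H121.E6Inst_mg
import Cfsg.Agent.S0135
import Cfsg.Agent.S1066
import Cfsg.Agent.S1070
set_option linter.all false

-- part: H121/E6Num
section
/-!
# Arithmetic for `²E₆(q)`: `q (q⁶ - q³ + 1)(q⁴ + 1) - 1`, `- 2` do not divide the order
-/

set_option autoImplicit false

namespace Cfsg.Agent.H121.E6Num

theorem step {B F M c : ℤ} (u v : ℤ) (h : u * B + v * F = c) (hd : B ∣ F * M) : B ∣ c * M := by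
  have e : c * M = B * (u * M) + v * (F * M) := by rw [← h]; ring
  rw [e]
  exact dvd_add (Dvd.intro _ rfl) (hd.mul_left v)

theorem steps {B F c : ℤ} (u v : ℤ) (h : u * B + v * F = c) (n : ℕ) {M : ℤ} (hd : B ∣ F ^ n * M) : B ∣ c ^ n * M := by
  induction n generalizing M with
  | zero => simpa using hd
  | succ n ih =>
    have e1 : F ^ (n + 1) * M = F * (F ^ n * M) := by ring
    rw [e1] at hd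
    have h1 := step u v h hd
    have e2 : c * (F ^ n * M) = F ^ n * (c * M) := by ring
    rw [e2] at h1
    have h2 := ih h1
    have e3 : c ^ (n + 1) * M = c ^ n * (c * M) := by ring
    rw [e3]
    exact h2

theorem chain {B F c C F' R : ℤ} (u v : ℤ) (h : u * B + v * F = c) (n : ℕ) (hd : B ∣ F ^ n * (C * (F' * R))) :
    B ∣ F' * ((c ^ n * C) * R) := by
  have h1 := steps u v h n hd
  have e : F' * ((c ^ n * C) * R) = c ^ n * (C * (F' * R)) := by ring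
  rw [e]
  exact h1

theorem a_dvd {x : ℤ} (h : (x ^ 7 + x ^ 5 - x ^ 4 + x ^ 3 - x ^ 2 + x - 1) ∣ x ^ 36 * (1 * ((x - 1) ^ 4 * ((x + 1) ^ 6 * ((x ^ 2 + x + 1) ^ 2 * ((x ^ 2 + 1) ^ 2 * ((x ^ 2 - x + 1) ^ 3 * ((x ^ 4 + 1) ^ 1 * ((x ^ 4 - x ^ 3 + x ^ 2 - x + 1) ^ 1 * ((x ^ 6 - x ^ 3 + 1) ^ 1 * 1)))))))))) :
    (x ^ 7 + x ^ 5 - x ^ 4 + x ^ 3 - x ^ 2 + x - 1) ∣ 117649 := by
  have h1 := chain ((-1) * x ^ 0) ((1) * x ^ 0 + (-1) * x ^ 1 + (1) * x ^ 2 + (-1) * x ^ 3 + (1) * x ^ 4 + (1) * x ^ 6) (show ((-1) * x ^ 0) * (x ^ 7 + x ^ 5 - x ^ 4 + x ^ 3 - x ^ 2 + x - 1) + ((1) * x ^ 0 + (-1) * x ^ 1 + (1) * x ^ 2 + (-1) * x ^ 3 + (1) * x ^ 4 + (1) * x ^ 6) * x = 1 by ring) 36 h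
  have h2 := chain ((1) * x ^ 0) ((-2) * x ^ 0 + (-1) * x ^ 1 + (-2) * x ^ 2 + (-1) * x ^ 3 + (-2) * x ^ 4 + (-1) * x ^ 5 + (-1) * x ^ 6) (show ((1) * x ^ 0) * (x ^ 7 + x ^ 5 - x ^ 4 + x ^ 3 - x ^ 2 + x - 1) + ((-2) * x ^ 0 + (-1) * x ^ 1 + (-2) * x ^ 2 + (-1) * x ^ 3 + (-2) * x ^ 4 + (-1) * x ^ 5 + (-1) * x ^ 6) * (x - 1) = 1 by ring) 4 h1
  have h3 := chain ((-1) * x ^ 0) ((6) * x ^ 0 + (-5) * x ^ 1 + (4) * x ^ 2 + (-3) * x ^ 3 + (2) * x ^ 4 + (-1) * x ^ 5 + (1) * x ^ 6) (show ((-1) * x ^ 0) * (x ^ 7 + x ^ 5 - x ^ 4 + x ^ 3 - x ^ 2 + x - 1) + ((6) * x ^ 0 + (-5) * x ^ 1 + (4) * x ^ 2 + (-3) * x ^ 3 + (2) * x ^ 4 + (-1) * x ^ 5 + (1) * x ^ 6) * (x + 1) = 7 by ring) 6 h2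
  have h4 := chain ((-1) * x ^ 0 + (-1) * x ^ 1) ((1) * x ^ 6) (show ((-1) * x ^ 0 + (-1) * x ^ 1) * (x ^ 7 + x ^ 5 - x ^ 4 + x ^ 3 - x ^ 2 + x - 1) + ((1) * x ^ 6) * (x ^ 2 + x + 1) = 1 by ring) 2 h3
  have h5 := chain ((-1) * x ^ 0) ((1) * x ^ 1 + (-1) * x ^ 2 + (1) * x ^ 5) (show ((-1) * x ^ 0) * (x ^ 7 + x ^ 5 - x ^ 4 + x ^ 3 - x ^ 2 + x - 1) + ((1) * x ^ 1 + (-1) * x ^ 2 + (1) * x ^ 5) * (x ^ 2 + 1) = 1 by ring) 2 h4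
  have h6 := chain ((1) * x ^ 0 + (-1) * x ^ 1) ((2) * x ^ 0 + (-2) * x ^ 3 + (1) * x ^ 6) (show ((1) * x ^ 0 + (-1) * x ^ 1) * (x ^ 7 + x ^ 5 - x ^ 4 + x ^ 3 - x ^ 2 + x - 1) + ((2) * x ^ 0 + (-2) * x ^ 3 + (1) * x ^ 6) * (x ^ 2 - x + 1) = 1 by ring) 3 h5
  have h7 := chain ((1) * x ^ 2) ((1) * x ^ 0 + (1) * x ^ 2 + (-1) * x ^ 3 + (-1) * x ^ 5) (show ((1) * x ^ 2) * (x ^ 7 + x ^ 5 - x ^ 4 + x ^ 3 - x ^ 2 + x - 1) + ((1) * x ^ 0 + (1) * x ^ 2 + (-1) * x ^ 3 + (-1) * x ^ 5) * (x ^ 4 + 1) = 1 by ring) 1 h6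
  have h8 := chain ((-1) * x ^ 1 + (1) * x ^ 2) ((1) * x ^ 0 + (1) * x ^ 2 + (-1) * x ^ 5) (show ((-1) * x ^ 1 + (1) * x ^ 2) * (x ^ 7 + x ^ 5 - x ^ 4 + x ^ 3 - x ^ 2 + x - 1) + ((1) * x ^ 0 + (1) * x ^ 2 + (-1) * x ^ 5) * (x ^ 4 - x ^ 3 + x ^ 2 - x + 1) = 1 by ring) 1 h7
  have h9 := steps ((-1) * x ^ 0 + (1) * x ^ 2 + (-1) * x ^ 4) ((1) * x ^ 1 + (1) * x ^ 5) (show ((-1) * x ^ 0 + (1) * x ^ 2 + (-1) * x ^ 4) * (x ^ 7 + x ^ 5 - x ^ 4 + x ^ 3 - x ^ 2 + x - 1) + ((1) * x ^ 1 + (1) * x ^ 5) * (x ^ 6 - x ^ 3 + 1) = 1 by ring) 1 h8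
  norm_num at h9
  exact h9

theorem b_dvd {x : ℤ} (h : (x ^ 10 + x ^ 9 + x ^ 8 + x ^ 6 + x ^ 5 + 2 * x ^ 4 + x ^ 3 + x ^ 2 + x + 2) ∣ x ^ 36 * (1 * ((x - 1) ^ 3 * ((x + 1) ^ 6 * ((x ^ 2 + x + 1) ^ 2 * ((x ^ 2 + 1) ^ 2 * ((x ^ 2 - x + 1) ^ 3 * ((x ^ 4 + 1) ^ 1 * ((x ^ 4 - x ^ 3 + x ^ 2 - x + 1) ^ 1 * ((x ^ 4 - x ^ 2 + 1) ^ 1 * ((x ^ 6 - x ^ 3 + 1) ^ 1 * 1))))))))))) :
    (x ^ 10 + x ^ 9 + x ^ 8 + x ^ 6 + x ^ 5 + 2 * x ^ 4 + x ^ 3 + x ^ 2 + x + 2) ∣ 3081759181814101966848 := by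
  have h1 := chain ((1) * x ^ 0) ((-1) * x ^ 0 + (-1) * x ^ 1 + (-1) * x ^ 2 + (-2) * x ^ 3 + (-1) * x ^ 4 + (-1) * x ^ 5 + (-1) * x ^ 7 + (-1) * x ^ 8 + (-1) * x ^ 9) (show ((1) * x ^ 0) * (x ^ 10 + x ^ 9 + x ^ 8 + x ^ 6 + x ^ 5 + 2 * x ^ 4 + x ^ 3 + x ^ 2 + x + 2) + ((-1) * x ^ 0 + (-1) * x ^ 1 + (-1) * x ^ 2 + (-2) * x ^ 3 + (-1) * x ^ 4 + (-1) * x ^ 5 + (-1) * x ^ 7 + (-1) * x ^ 8 + (-1) * x ^ 9) * x = 2 by ring) 36 h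
  have h2 := chain ((1) * x ^ 0) ((-10) * x ^ 0 + (-9) * x ^ 1 + (-8) * x ^ 2 + (-7) * x ^ 3 + (-5) * x ^ 4 + (-4) * x ^ 5 + (-3) * x ^ 6 + (-3) * x ^ 7 + (-2) * x ^ 8 + (-1) * x ^ 9) (show ((1) * x ^ 0) * (x ^ 10 + x ^ 9 + x ^ 8 + x ^ 6 + x ^ 5 + 2 * x ^ 4 + x ^ 3 + x ^ 2 + x + 2) + ((-10) * x ^ 0 + (-9) * x ^ 1 + (-8) * x ^ 2 + (-7) * x ^ 3 + (-5) * x ^ 4 + (-4) * x ^ 5 + (-3) * x ^ 6 + (-3) * x ^ 7 + (-2) * x ^ 8 + (-1) * x ^ 9) * (x - 1) = 12 by ring) 3 h1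
  have h3 := chain ((1) * x ^ 0) ((2) * x ^ 0 + (-3) * x ^ 1 + (2) * x ^ 2 + (-3) * x ^ 3 + (1) * x ^ 4 + (-2) * x ^ 5 + (1) * x ^ 6 + (-1) * x ^ 7 + (-1) * x ^ 9) (show ((1) * x ^ 0) * (x ^ 10 + x ^ 9 + x ^ 8 + x ^ 6 + x ^ 5 + 2 * x ^ 4 + x ^ 3 + x ^ 2 + x + 2) + ((2) * x ^ 0 + (-3) * x ^ 1 + (2) * x ^ 2 + (-3) * x ^ 3 + (1) * x ^ 4 + (-2) * x ^ 5 + (1) * x ^ 6 + (-1) * x ^ 7 + (-1) * x ^ 9) * (x + 1) = 4 by ring) 6 h2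
  have h4 := chain ((1) * x ^ 0 + (-1) * x ^ 1) ((1) * x ^ 0 + (-1) * x ^ 2 + (1) * x ^ 3 + (-1) * x ^ 4 + (1) * x ^ 5 + (-1) * x ^ 8 + (1) * x ^ 9) (show ((1) * x ^ 0 + (-1) * x ^ 1) * (x ^ 10 + x ^ 9 + x ^ 8 + x ^ 6 + x ^ 5 + 2 * x ^ 4 + x ^ 3 + x ^ 2 + x + 2) + ((1) * x ^ 0 + (-1) * x ^ 2 + (1) * x ^ 3 + (-1) * x ^ 4 + (1) * x ^ 5 + (-1) * x ^ 8 + (1) * x ^ 9) * (x ^ 2 + x + 1) = 3 by ring) 2 h3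
  have h5 := chain ((1) * x ^ 0 + (-1) * x ^ 1) ((2) * x ^ 0 + (1) * x ^ 1 + (-2) * x ^ 2 + (-1) * x ^ 3 + (1) * x ^ 4 + (2) * x ^ 5 + (-1) * x ^ 6 + (-1) * x ^ 7 + (1) * x ^ 9) (show ((1) * x ^ 0 + (-1) * x ^ 1) * (x ^ 10 + x ^ 9 + x ^ 8 + x ^ 6 + x ^ 5 + 2 * x ^ 4 + x ^ 3 + x ^ 2 + x + 2) + ((2) * x ^ 0 + (1) * x ^ 1 + (-2) * x ^ 2 + (-1) * x ^ 3 + (1) * x ^ 4 + (2) * x ^ 5 + (-1) * x ^ 6 + (-1) * x ^ 7 + (1) * x ^ 9) * (x ^ 2 + 1) = 4 by ring) 2 h4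
  have h6 := chain ((-1) * x ^ 0 + (1) * x ^ 1) ((3) * x ^ 0 + (2) * x ^ 1 + (-1) * x ^ 2 + (-3) * x ^ 3 + (-1) * x ^ 4 + (1) * x ^ 5 + (2) * x ^ 6 + (-1) * x ^ 8 + (-1) * x ^ 9) (show ((-1) * x ^ 0 + (1) * x ^ 1) * (x ^ 10 + x ^ 9 + x ^ 8 + x ^ 6 + x ^ 5 + 2 * x ^ 4 + x ^ 3 + x ^ 2 + x + 2) + ((3) * x ^ 0 + (2) * x ^ 1 + (-1) * x ^ 2 + (-3) * x ^ 3 + (-1) * x ^ 4 + (1) * x ^ 5 + (2) * x ^ 6 + (-1) * x ^ 8 + (-1) * x ^ 9) * (x ^ 2 - x + 1) = 1 by ring) 3 h5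
  have h7 := chain ((1) * x ^ 0 + (-1) * x ^ 1) ((1) * x ^ 1 + (-1) * x ^ 4 + (1) * x ^ 7) (show ((1) * x ^ 0 + (-1) * x ^ 1) * (x ^ 10 + x ^ 9 + x ^ 8 + x ^ 6 + x ^ 5 + 2 * x ^ 4 + x ^ 3 + x ^ 2 + x + 2) + ((1) * x ^ 1 + (-1) * x ^ 4 + (1) * x ^ 7) * (x ^ 4 + 1) = 2 by ring) 1 h6
  have h8 := chain ((6) * x ^ 0 + (-3) * x ^ 1 + (-1) * x ^ 2 + (-1) * x ^ 3) ((-1) * x ^ 0 + (-1) * x ^ 1 + (-1) * x ^ 2 + (-1) * x ^ 3 + (-7) * x ^ 4 + (-4) * x ^ 5 + (3) * x ^ 6 + (7) * x ^ 7 + (3) * x ^ 8 + (1) * x ^ 9) (show ((6) * x ^ 0 + (-3) * x ^ 1 + (-1) * x ^ 2 + (-1) * x ^ 3) * (x ^ 10 + x ^ 9 + x ^ 8 + x ^ 6 + x ^ 5 + 2 * x ^ 4 + x ^ 3 + x ^ 2 + x + 2) + ((-1) * x ^ 0 + (-1) * x ^ 1 + (-1) * x ^ 2 + (-1) * x ^ 3 + (-7) * x ^ 4 + (-4) * x ^ 5 + (3) * x ^ 6 + (7) * x ^ 7 + (3) * x ^ 8 + (1) *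 x ^ 9) * (x ^ 4 - x ^ 3 + x ^ 2 - x + 1) = 11 by ring) 1 h7
  have h9 := chain ((1) * x ^ 0 + (-1) * x ^ 1) ((-1) * x ^ 0 + (1) * x ^ 1 + (-1) * x ^ 2 + (1) * x ^ 3 + (-1) * x ^ 4 + (1) * x ^ 5 + (1) * x ^ 7) (show ((1) * x ^ 0 + (-1) * x ^ 1) * (x ^ 10 + x ^ 9 + x ^ 8 + x ^ 6 + x ^ 5 + 2 * x ^ 4 + x ^ 3 + x ^ 2 + x + 2) + ((-1) * x ^ 0 + (1) * x ^ 1 + (-1) * x ^ 2 + (1) * x ^ 3 + (-1) * x ^ 4 + (1) * x ^ 5 + (1) * x ^ 7) * (x ^ 4 - x ^ 2 + 1) = 1 by ring) 1 h8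
  have h10 := steps ((1) * x ^ 0 + (-1) * x ^ 1) ((1) * x ^ 1 + (1) * x ^ 5) (show ((1) * x ^ 0 + (-1) * x ^ 1) * (x ^ 10 + x ^ 9 + x ^ 8 + x ^ 6 + x ^ 5 + 2 * x ^ 4 + x ^ 3 + x ^ 2 + x + 2) + ((1) * x ^ 1 + (1) * x ^ 5) * (x ^ 6 - x ^ 3 + 1) = 2 by ring) 1 h9
  norm_num at h10
  exact h10

/-- the order -/
def O (q : ℕ) : ℕ := q ^ 36 * (q ^ 2 - 1) * (q ^ 5 + 1) * (q ^ 6 - 1) * (q ^ 8 - 1) * (q ^ 9 + 1) * (q ^ 12 - 1)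

/-- the bound -/
def N (q : ℕ) : ℕ := q * (q ^ 6 - q ^ 3 + 1) * (q ^ 4 + 1)

theorem cast_O {q : ℕ} (hq : 1 < q) : ((O q : ℕ) : ℤ) = (q : ℤ) ^ 36 * (q ^ 2 - 1) * (q ^ 5 + 1) * (q ^ 6 - 1) *
    (q ^ 8 - 1) * (q ^ 9 + 1) * (q ^ 12 - 1) := by
  have h2 : 1 ≤ q ^ 2 := Nat.one_le_pow _ _ (by omega)
  have h6 : 1 ≤ q ^ 6 := Nat.one_le_pow _ _ (by omega)
  have h8 : 1 ≤ q ^ 8 := Nat.one_le_pow _ _ (by omega)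
  have h12 : 1 ≤ q ^ 12 := Nat.one_le_pow _ _ (by omega)
  unfold O
  push_cast [h2, h6, h8, h12]
  rfl

theorem cast_N {q : ℕ} (hq : 1 < q) : ((N q : ℕ) : ℤ) = (q : ℤ) * (q ^ 6 - q ^ 3 + 1) * (q ^ 4 + 1) := by
  have h : q ^ 3 ≤ q ^ 6 := Nat.pow_le_pow_right (by omega) (by norm_num)
  unfold N
  push_cast [h]
  rfl

/-- the factorisation of the order -/
theorem factor (x : ℤ) : x ^ 36 * (x ^ 2 - 1) * (x ^ 5 + 1) * (x ^ 6 - 1) * (x ^ 8 - 1) * (x ^ 9 + 1) * (x ^ 12 - 1) =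
    x ^ 36 * ((x - 1) * (x + 1)) * ((x + 1) * (x ^ 4 - x ^ 3 + x ^ 2 - x + 1)) *
      ((x - 1) * (x + 1) * (x ^ 2 + x + 1) * (x ^ 2 - x + 1)) * ((x - 1) * (x + 1) * (x ^ 2 + 1) * (x ^ 4 + 1)) *
      ((x + 1) * (x ^ 2 - x + 1) * (x ^ 6 - x ^ 3 + 1)) *
      ((x - 1) * (x + 1) * (x ^ 2 + x + 1) * (x ^ 2 + 1) * (x ^ 2 - x + 1) * (x ^ 4 - x ^ 2 + 1)) := by
  have e1 : x ^ 2 - 1 = (x - 1) * (x + 1) := by ring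
  have e2 : x ^ 5 + 1 = (x + 1) * (x ^ 4 - x ^ 3 + x ^ 2 - x + 1) := by ring
  have e3 : x ^ 6 - 1 = (x - 1) * (x + 1) * (x ^ 2 + x + 1) * (x ^ 2 - x + 1) := by ring
  have e4 : x ^ 8 - 1 = (x - 1) * (x + 1) * (x ^ 2 + 1) * (x ^ 4 + 1) := by ring
  have e5 : x ^ 9 + 1 = (x + 1) * (x ^ 2 - x + 1) * (x ^ 6 - x ^ 3 + 1) := by ring
  have e6 : x ^ 12 - 1 = (x - 1) * (x + 1) * (x ^ 2 + x + 1) * (x ^ 2 + 1) * (x ^ 2 - x + 1) * (x ^ 4 - x ^ 2 + 1) := by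
    ring
  rw [e1, e2, e3, e4, e5, e6]

theorem check_small : ∀ q ∈ List.range 151, 2 ≤ q → ¬ (N q - 2 ∣ O q) := by decide +kernel

theorem not_dvd_one {q k : ℕ} (hq : 1 < q) (hk : k + 1 = N q) (hd : k ∣ O q) : False := by
  have h1 := Int.natCast_dvd_natCast.2 hd
  rw [cast_O hq, factor] at h1
  have hk' : (k : ℤ) = ((q : ℤ) ^ 4 - q ^ 2 + 1) * (q ^ 7 + q ^ 5 - q ^ 4 + q ^ 3 - q ^ 2 + q - 1) := by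
    have h2 := cast_N hq
    rw [← hk] at h2
    push_cast at h2
    linear_combination h2
  have hq' : (2 : ℤ) ≤ q := by exact_mod_cast hq
  rw [hk'] at h1
  clear hk' hk hd
  generalize (q : ℤ) = x at *
  have hpos : (0 : ℤ) < x ^ 4 - x ^ 2 + 1 := by nlinarith [sq_nonneg (x ^ 2)]
  have h3 : (x ^ 7 + x ^ 5 - x ^ 4 + x ^ 3 - x ^ 2 + x - 1) ∣ x ^ 36 * (1 * ((x - 1) ^ 4 * ((x + 1) ^ 6 * ((x ^ 2 + x + 1) ^ 2 * ((x ^ 2 + 1) ^ 2 * ((x ^ 2 - x + 1) ^ 3 * ((x ^ 4 + 1) ^ 1 * ((x ^ 4 - x ^ 3 + x ^ 2 - x + 1) ^ 1 * ((x ^ 6 - x ^ 3 + 1) ^ 1 * 1))))))))) := by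
    refine Int.dvd_of_mul_dvd_mul_left (a := x ^ 4 - x ^ 2 + 1) hpos.ne' (h1.trans (dvd_of_eq ?_))
    generalize x - 1 = P1
    generalize x + 1 = P2
    generalize x ^ 4 - x ^ 3 + x ^ 2 - x + 1 = P10
    generalize x ^ 2 + x + 1 = P3
    generalize x ^ 2 - x + 1 = P6
    generalize x ^ 2 + 1 = P4
    generalize x ^ 4 + 1 = P8
    generalize x ^ 6 - x ^ 3 + 1 = P18
    generalize x ^ 4 - x ^ 2 + 1 = P12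
    ring
  have h4 := Int.le_of_dvd (by norm_num) (a_dvd h3)
  have h4' := a_dvd h3
  have h5 : x < 6 := by
    by_contra hx
    push Not at hx
    have h6 : (6 : ℤ) ^ 6 ≤ x ^ 6 := pow_le_pow_left₀ (by norm_num) hx 6
    have h7 : 0 ≤ x ^ 4 * (x - 1) := mul_nonneg (by positivity) (by linarith)
    have h8 : 0 ≤ x ^ 2 * (x - 1) := mul_nonneg (by positivity) (by linarith)
    nlinarith
  have h6 : x = 2 ∨ x = 3 ∨ x = 4 ∨ x = 5 := by omega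
  rcases h6 with rfl | rfl | rfl | rfl <;> norm_num at h4'

theorem not_dvd_two {q k : ℕ} (hq : 1 < q) (hk : k + 2 = N q) (hd : k ∣ O q) : False := by
  by_cases hq150 : q < 151
  · refine check_small q (List.mem_range.2 hq150) hq ?_
    rw [← hk, Nat.add_sub_cancel]
    exact hd
  push Not at hq150
  have h1 := Int.natCast_dvd_natCast.2 hd
  rw [cast_O hq, factor] at h1
  have hk' : (k : ℤ) = ((q : ℤ) - 1) *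
      (q ^ 10 + q ^ 9 + q ^ 8 + q ^ 6 + q ^ 5 + 2 * q ^ 4 + q ^ 3 + q ^ 2 + q + 2) := by
    have h2 := cast_N hq
    rw [← hk] at h2
    push_cast at h2
    linear_combination h2
  have hq' : (151 : ℤ) ≤ q := by exact_mod_cast hq150
  rw [hk'] at h1
  clear hk' hk hd
  generalize (q : ℤ) = x at *
  have hpos : (0 : ℤ) < x - 1 := by linarith
  have h3 : (x ^ 10 + x ^ 9 + x ^ 8 + x ^ 6 + x ^ 5 + 2 * x ^ 4 + x ^ 3 + x ^ 2 + x + 2) ∣ x ^ 36 * (1 * ((x - 1) ^ 3 * ((x + 1) ^ 6 * ((x ^ 2 + x + 1) ^ 2 * ((x ^ 2 + 1) ^ 2 * ((x ^ 2 - x + 1) ^ 3 * ((x ^ 4 + 1) ^ 1 * ((x ^ 4 - x ^ 3 + x ^ 2 - x + 1) ^ 1 * ((x ^ 4 - x ^ 2 + 1) ^ 1 * ((x ^ 6 - x ^ 3 + 1) ^ 1 * 1)))))))))) := by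
    refine Int.dvd_of_mul_dvd_mul_left (a := x - 1) hpos.ne' (h1.trans (dvd_of_eq ?_))
    generalize x - 1 = P1
    generalize x + 1 = P2
    generalize x ^ 4 - x ^ 3 + x ^ 2 - x + 1 = P10
    generalize x ^ 2 + x + 1 = P3
    generalize x ^ 2 - x + 1 = P6
    generalize x ^ 2 + 1 = P4
    generalize x ^ 4 + 1 = P8
    generalize x ^ 6 - x ^ 3 + 1 = P18
    generalize x ^ 4 - x ^ 2 + 1 = P12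
    ring
  have h4 := Int.le_of_dvd (by norm_num) (b_dvd h3)
  have h6 : (151 : ℤ) ^ 10 ≤ x ^ 10 := pow_le_pow_left₀ (by norm_num) hq' 10
  have h7 : 0 ≤ x ^ 9 + x ^ 8 + x ^ 6 + x ^ 5 + 2 * x ^ 4 + x ^ 3 + x ^ 2 + x + 2 := by positivity
  norm_num at h6
  linarith

end Cfsg.Agent.H121.E6Num
end

-- part: S2341
section
set_option autoImplicit false
open Cfsg

namespace Cfsg.Agent.S2341

/-- For the twisted group ²E₆(q), realised over the field with q² elements (q a prime power), every irreducible complex representation of degree at least 2 has degree at least q(q⁶ − q³ + 1)(q⁴ + 1). -/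
theorem result {K : Type*} [Field K] [Fintype K] (q : ℕ) (hq : IsPrimePow q) (hK : Fintype.card K = q ^ 2) :
    (∀ (k : ℕ) (ρ : Representation ℂ (Cfsg.Lie.twistedE6 K q) (Fin k → ℂ)), ρ.IsIrreducible → 2 ≤ k → q * (q ^ 6 - q ^ 3 + 1) * (q ^ 4 + 1) ≤ k) := by
  intro k ρ hρ hk
  have hs : IsSimpleGroup ↥(Cfsg.Lie.twistedE6 K q) := (Cfsg.Agent.S1070.result hq hK).1
  obtain ⟨φ, hφ, hqq⟩ := Cfsg.Agent.ChevalleyStructure.TwE6Basic.exists_frob hq hK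
  have hφφ : ∀ t, φ (φ t) = t := fun t => by rw [hφ, hφ, hqq]
  let σ : K ≃+* K := RingEquiv.ofBijective φ (Finite.injective_iff_bijective.1 φ.injective)
  have hσφ : ∀ x, σ x = φ x := fun x => rfl
  have hσ : ∀ x, σ x = x ^ q := fun x => hφ x
  have hinv : Cfsg.Agent.H121.Quad.Inv σ := ⟨fun x => hφφ x⟩
  have hK' : Nat.card K = q ^ 2 := by rw [Nat.card_eq_fintype_card, hK]
  have hne := Cfsg.Agent.H121.Quad.exists_ne hK' hσ hq.one_lt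
  have D := Cfsg.Agent.H121.E6I.f4 hφ hφφ hσφ hne
  have hx : (⟨Cfsg.Agent.H121.E6Eng.W (Cfsg.Agent.H121.E6R.wA (Cfsg.Agent.H121.F4.vx (σ := σ) (0 : Fin 3) 1)),
      Cfsg.Agent.H121.E6M.mem_wA hφ hφφ hσφ _⟩ : Cfsg.Lie.twistedE6 K q) ≠ 1 := by
    intro h1
    have h2 := congrArg Subtype.val h1
    have h3 : Cfsg.Agent.H121.E6Eng.W (Cfsg.Agent.H121.E6R.wA (Cfsg.Agent.H121.F4.vx (σ := σ) (0 : Fin 3) 1)) =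
        Cfsg.Agent.H121.E6Eng.W (Cfsg.Agent.H121.E6R.wA (0 : Cfsg.Agent.H121.Orth.VV (Fin 3) σ)) := by
      have h4 := Cfsg.Agent.H121.E6I.addA (0 : Cfsg.Agent.H121.Orth.VV (Fin 3) σ) 0
      rw [add_zero] at h4
      rw [mul_eq_left.1 h4.symm]
      exact h2
    have h5 := Cfsg.Agent.H121.E6M.injA h3
    have h6 := congrArg (fun a : Cfsg.Agent.H121.Orth.VV (Fin 3) σ => (a.1 0).1) h5
    simp [Cfsg.Agent.H121.F4.vx] at h6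
  have hne1 := Cfsg.Agent.H121.Chr.faithful ρ (Cfsg.Agent.H121.Chr.exists_ne_one ρ hρ hk) hx
  have hm := Cfsg.Agent.H121.F4.main ρ D hK' hσ hq.one_lt ⟨_, hne1⟩
  rw [Module.finrank_fin_fun] at hm
  have hd := Cfsg.Agent.S0135.result ρ
  rw [Module.finrank_fin_fun] at hd
  have hd2 : k ∣ Cfsg.Agent.H121.E6Num.O q := by
    rw [Cfsg.Agent.H121.E6Num.O, ← Cfsg.Agent.S1066.result hq hK]
    exact Dvd.dvd.mul_left hd _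
  by_contra hlt
  push Not at hlt
  have hN : Cfsg.Agent.H121.E6Num.N q = q * (q ^ 6 - q ^ 3 + 1) * (q ^ 4 + 1) := rfl
  rcases (by omega : k + 1 = Cfsg.Agent.H121.E6Num.N q ∨ k + 2 = Cfsg.Agent.H121.E6Num.N q) with h | h
  · exact Cfsg.Agent.H121.E6Num.not_dvd_one hq.one_lt h hd2
  · exact Cfsg.Agent.H121.E6Num.not_dvd_two hq.one_lt h hd2

end Cfsg.Agent.S2341
end
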