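import Mathlib
import Cfsg.Statements.S0703
set_option linter.all false

set_option autoImplicit false
open Cfsg

namespace Cfsg.Agent.S0703

/-- An abelian transitive minimal normal subgroup `M` of a permutation group on a finite set is self-centralising in the symmetric group, regular, elementary abelian, and is the unique minimal normal subgroup. -/
theorem result {α : Type*} [Finite α] (G : Subgroup (Equiv.Perm α)) (M : Subgroup G) [M.Normal] (hM : M ≠ ⊥) (hmin : ∀ L : Subgroup G, L.Normal → L ≤ M → L = ⊥ ∨ L = M) (hab : IsMulCommutative M) (htrans : MulAction.IsPretransitive M α) : Subgroup.centralizer ((M.map G.subtype : Subgroup (Equiv.Perm α)) : Set (Equiv.Perm α)) = M.map G.subtype ∧ (∀ a : α, MulAction.stabilizer M a = ⊥) ∧ (∃ p : ℕ, p.Prime ∧ ∀ m ∈ M, m ^ p = 1) ∧ ∀ L : Subgroup G, L.Normal → L ≠ ⊥ → (∀ L' : Subgroup G, L'.Normal → L' ≤ L → L' = ⊥ ∨ L' = L) → L = M := by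
  classical
  have hfin : Finite G := inferInstance
  -- commutativity
  have hcomm : ∀ x ∈ M, ∀ y ∈ M, x * y = y * x := by
    intro x hx y hy
    have := hab.is_comm.comm (⟨x, hx⟩ : M) ⟨y, hy⟩
    exact congrArg Subtype.val this
  -- transitivity
  have htr : ∀ a b : α, ∃ m ∈ M, (m : Equiv.Perm α) a = b := by
    intro a b
    obtain ⟨m, hm⟩ := MulAction.exists_smul_eq M a b
    exact ⟨m.1, m.2, hm⟩
  -- nonempty
  have hne : Nonempty α := by
    by_contra h
    rw [not_nonempty_iff] at h
    apply hM
    rw [Subgroup.eq_bot_iff_forall]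
    intro x _
    apply Subtype.ext
    exact Equiv.ext fun a => (h.false a).elim
  obtain ⟨a0⟩ := hne
  -- the centralizer
  have hcent : ∀ c : Equiv.Perm α, (∀ m ∈ M, (m : Equiv.Perm α) * c = c * (m : Equiv.Perm α)) →
      ∃ m ∈ M, (m : Equiv.Perm α) = c := by
    intro c hc
    obtain ⟨m, hm, hma⟩ := htr a0 (c a0)
    refine ⟨m, hm, ?_⟩
    ext x
    obtain ⟨n, hn, rfl⟩ := htr a0 x
    have e1 : (m : Equiv.Perm α) ((n : Equiv.Perm α) a0) = (n : Equiv.Perm α) ((m : Equiv.Perm α) a0) := by
      have := congrArg (fun g : G => (g : Equiv.Perm α) a0) (hcomm m hm n hn)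
      exact this
    have e2 : (n : Equiv.Perm α) (c a0) = c ((n : Equiv.Perm α) a0) := by
      have := congrArg (fun g : Equiv.Perm α => g a0) (hc n hn)
      exact this
    rw [e1, hma, e2]
  refine ⟨?_, ?_, ?_, ?_⟩
  · apply le_antisymm
    · intro c hc
      rw [Subgroup.mem_centralizer_iff] at hc
      obtain ⟨m, hm, rfl⟩ := hcent c (fun m hm => hc _ ⟨m, hm, rfl⟩)
      exact ⟨m, hm, rfl⟩
    · rintro _ ⟨m, hm, rfl⟩
      rw [Subgroup.mem_centralizer_iff]
      rintro _ ⟨n, hn, rfl⟩
      exact congrArg Subtype.val (hcomm n hn m hm)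
  · intro a
    rw [Subgroup.eq_bot_iff_forall]
    intro m hm
    have hma : ((m : G) : Equiv.Perm α) a = a := hm
    apply Subtype.ext
    apply Subtype.ext
    ext x
    obtain ⟨n, hn, rfl⟩ := htr a x
    have e1 : ((m : G) : Equiv.Perm α) ((n : Equiv.Perm α) a) = (n : Equiv.Perm α) (((m : G) : Equiv.Perm α) a) := by
      have := congrArg (fun g : G => (g : Equiv.Perm α) a) (hcomm m m.2 n hn)
      exact this
    rw [e1, hma]
    rfl
  · have hcard : Nat.card M ≠ 1 := by
      intro h
      exact hM (Subgroup.card_eq_one.mp h)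
    obtain ⟨p, hp, hpd⟩ := Nat.exists_prime_and_dvd hcard
    haveI := Fact.mk hp
    refine ⟨p, hp, ?_⟩
    let L : Subgroup G :=
      { carrier := {x | x ∈ M ∧ x ^ p = 1}
        one_mem' := ⟨one_mem _, one_pow _⟩
        mul_mem' := by
          rintro x y ⟨hx, hx'⟩ ⟨hy, hy'⟩
          refine ⟨mul_mem hx hy, ?_⟩
          rw [(show Commute x y from hcomm x hx y hy).mul_pow, hx', hy', one_mul]
        inv_mem' := by
          rintro x ⟨hx, hx'⟩
          refine ⟨inv_mem hx, ?_⟩
          rw [inv_pow, hx', inv_one] }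
    have hLn : L.Normal := by
      constructor
      rintro x ⟨hx, hx'⟩ g
      refine ⟨‹M.Normal›.conj_mem x hx g, ?_⟩
      rw [conj_pow, hx', mul_one, mul_inv_cancel]
    have hLM : L ≤ M := fun x hx => hx.1
    rcases hmin L hLn hLM with h | h
    · exfalso
      obtain ⟨x, hx⟩ := exists_prime_orderOf_dvd_card' (G := M) p hpd
      have hx1 : (x : G) ∈ L := by
        refine ⟨x.2, ?_⟩
        have := pow_orderOf_eq_one x
        rw [hx] at this
        exact congrArg Subtype.val this
      rw [h, Subgroup.mem_bot] at hx1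
      have hx2 : x = 1 := Subtype.ext hx1
      rw [hx2, orderOf_one] at hx
      exact hp.one_lt.ne hx
    · intro m hm
      rw [← h] at hm
      exact hm.2
  · intro L hLn hL hLmin
    have hn : (L ⊓ M).Normal := Subgroup.normal_inf_normal L M
    rcases hmin (L ⊓ M) hn inf_le_right with h | h
    · exfalso
      have hdis : Disjoint L M := disjoint_iff.mpr h
      have hc := Subgroup.commute_of_normal_of_disjoint L M hLn inferInstance hdis
      apply hL
      rw [eq_bot_iff, ← h]
      refine le_inf le_rfl ?_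
      intro l hl
      obtain ⟨m, hm, hml⟩ := hcent l (fun m hm => congrArg Subtype.val (hc l m hl hm).symm)
      have : m = l := Subtype.ext hml
      rwa [← this]
    · have hML : M ≤ L := inf_eq_right.mp h
      rcases hLmin M inferInstance hML with h' | h'
      · exact absurd h' hM
      · exact h'.symm

end Cfsg.Agent.S0703
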