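import Cfsg.Statements.S0704
import Mathlib
set_option linter.all false

set_option autoImplicit false
open Cfsg

namespace Cfsg.Agent.S0704

/-- distinct minimal normal subgroups intersect trivially -/
theorem inf_eq_bot_of_min {G : Type*} [Group G] (M N : Subgroup G) [M.Normal] [N.Normal]
    (hM : M ≠ ⊥) (hMmin : ∀ L : Subgroup G, L.Normal → L ≤ M → L = ⊥ ∨ L = M)
    (hNmin : ∀ L : Subgroup G, L.Normal → L ≤ N → L = ⊥ ∨ L = N) (hMN : M ≠ N) :
    M ⊓ N = ⊥ := by
  rcases hMmin (M ⊓ N) inferInstance inf_le_left with h | h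
  · exact h
  · exfalso
    have h1 : M ≤ N := inf_eq_left.mp h
    rcases hNmin M inferInstance h1 with h2 | h2
    · exact hM h2
    · exact hMN h2

theorem comm_of_inf {G : Type*} [Group G] (M N : Subgroup G) [M.Normal] [N.Normal]
    (h : M ⊓ N = ⊥) {m n : G} (hm : m ∈ M) (hn : n ∈ N) : m * n = n * m :=
  (Subgroup.commute_of_normal_of_disjoint M N inferInstance inferInstance
    (disjoint_iff.mpr h) m n hm hn).eq

/-- a permutation commuting with a transitive group and fixing a point is trivial -/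
theorem eq_one_of_fix {α : Type*} (T : Subgroup (Equiv.Perm α))
    (hT : ∀ a b : α, ∃ t ∈ T, t a = b) (c : Equiv.Perm α) (hc : ∀ t ∈ T, t * c = c * t)
    (a : α) (ha : c a = a) : c = 1 := by
  ext b
  obtain ⟨t, ht, rfl⟩ := hT a b
  have h1 := congrArg (fun f : Equiv.Perm α => f a) (hc t ht)
  simp only [Equiv.Perm.mul_apply] at h1
  rw [← h1, ha]; rfl

theorem trans_map {α : Type*} (G : Subgroup (Equiv.Perm α)) (M : Subgroup G)
    (hMt : MulAction.IsPretransitive M α) (a b : α) :
    ∃ t ∈ (M.map G.subtype : Subgroup (Equiv.Perm α)), t a = b := by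
  obtain ⟨m, hm⟩ := hMt.exists_smul_eq a b
  exact ⟨((m : G) : Equiv.Perm α), ⟨(m : G), m.2, rfl⟩, hm⟩

/-- Centralizer statement. -/
theorem centralizer_eq {α : Type*} [Nonempty α] (S T : Subgroup (Equiv.Perm α))
    (hS : ∀ a b : α, ∃ t ∈ S, t a = b)
    (hT : ∀ a b : α, ∃ t ∈ T, t a = b)
    (hST : ∀ s ∈ S, ∀ t ∈ T, s * t = t * s) :
    Subgroup.centralizer (S : Set (Equiv.Perm α)) = T := by
  apply le_antisymm
  · intro c hc
    rw [Subgroup.mem_centralizer_iff] at hc
    obtain ⟨a⟩ := ‹Nonempty α›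
    obtain ⟨t, ht, hta⟩ := hT a (c a)
    have h1 : t⁻¹ * c = 1 := by
      apply eq_one_of_fix S hS (t⁻¹ * c) _ a
      · rw [Equiv.Perm.mul_apply, ← hta]; simp
      · intro s hs
        have e1 := hc s hs
        have e2 := hST s hs t⁻¹ (inv_mem ht)
        calc s * (t⁻¹ * c) = (s * t⁻¹) * c := by group
          _ = t⁻¹ * (s * c) := by rw [e2]; group
          _ = t⁻¹ * c * s := by rw [e1]; group
    have h2 : c = t := by
      rw [inv_mul_eq_one] at h1; exact h1.symm
    rw [h2]; exact ht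
  · intro t ht
    rw [Subgroup.mem_centralizer_iff]
    intro s hs
    exact hST s hs t ht

theorem stab_eq_bot {α : Type*} (G : Subgroup (Equiv.Perm α)) (M N : Subgroup G)
    (hc : ∀ m ∈ M, ∀ n ∈ N, m * n = n * m) (hNt : MulAction.IsPretransitive N α) (a : α) :
    MulAction.stabilizer M a = ⊥ := by
  rw [eq_bot_iff]
  intro m hm
  rw [MulAction.mem_stabilizer_iff] at hm
  have h1 : ((m : G) : Equiv.Perm α) = 1 := by
    apply eq_one_of_fix (N.map G.subtype) (trans_map G N hNt) _ _ a hm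
    rintro t ⟨n, hn, rfl⟩
    have := hc m m.2 n hn
    have h2 := congrArg (fun x : G => (x : Equiv.Perm α)) this
    simpa using h2.symm
  rw [Subgroup.mem_bot]
  apply Subtype.ext
  apply Subtype.ext
  exact h1

theorem nonempty_iso {α : Type*} [Nonempty α] (G : Subgroup (Equiv.Perm α)) (M N : Subgroup G)
    (hc : ∀ m ∈ M, ∀ n ∈ N, m * n = n * m) (hMt : MulAction.IsPretransitive M α)
    (hNt : MulAction.IsPretransitive N α) : Nonempty (M ≃* N) := by
  obtain ⟨a⟩ := ‹Nonempty α›
  have hMs := stab_eq_bot G M N hc hNt a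
  have hNs := stab_eq_bot G N M (fun n hn m hm => (hc m hm n hn).symm) hMt a
  have hMinj : ∀ m m' : M, m • a = m' • a → m = m' := by
    intro m m' h
    have : m'⁻¹ * m ∈ MulAction.stabilizer M a := by
      rw [MulAction.mem_stabilizer_iff, mul_smul, h, inv_smul_smul]
    rw [hMs, Subgroup.mem_bot, inv_mul_eq_one] at this
    exact this.symm
  have hNinj : ∀ m m' : N, m • a = m' • a → m = m' := by
    intro m m' h
    have : m'⁻¹ * m ∈ MulAction.stabilizer N a := by
      rw [MulAction.mem_stabilizer_iff, mul_smul, h, inv_smul_smul]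
    rw [hNs, Subgroup.mem_bot, inv_mul_eq_one] at this
    exact this.symm
  have hex : ∀ m : M, ∃ n : N, n⁻¹ • a = m • a := by
    intro m
    obtain ⟨n, hn⟩ := hNt.exists_smul_eq a (m • a)
    exact ⟨n⁻¹, by simpa using hn⟩
  choose f hf using hex
  have hcomm : ∀ (m : M) (n : N) (x : α), m • (n • x) = n • (m • x) := by
    intro m n x
    have h1 := hc m m.2 n n.2
    have h2 : (m : G) • ((n : G) • x) = (n : G) • ((m : G) • x) := by
      rw [← mul_smul, h1, mul_smul]
    exact h2
  refine ⟨MulEquiv.ofBijective (MonoidHom.mk' f ?_) ⟨?_, ?_⟩⟩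
  · intro m1 m2
    have h : (f (m1 * m2))⁻¹ = (f m1 * f m2)⁻¹ := by
      apply hNinj
      rw [hf, mul_smul, ← hf m2, hcomm, ← hf m1, mul_inv_rev, mul_smul]
    exact inv_injective h
  · intro m1 m2 h
    apply hMinj
    rw [← hf m1, ← hf m2]
    have h' : f m1 = f m2 := h
    rw [h']
  · intro n
    obtain ⟨m, hm⟩ := hMt.exists_smul_eq a (n⁻¹ • a)
    refine ⟨m, ?_⟩
    have : (f m)⁻¹ = n⁻¹ := by
      apply hNinj
      rw [hf, hm]
    exact inv_injective this

/-- Two distinct transitive minimal normal subgroups `M`, `N` of a permutation group are regular, non-abelian, isomorphic, each other's centraliser in the symmetric group, and the only minimal normal subgroups. -/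
theorem result {α : Type*} (G : Subgroup (Equiv.Perm α)) (M N : Subgroup G) [M.Normal] [N.Normal] (hM : M ≠ ⊥) (hN : N ≠ ⊥) (hMmin : ∀ L : Subgroup G, L.Normal → L ≤ M → L = ⊥ ∨ L = M) (hNmin : ∀ L : Subgroup G, L.Normal → L ≤ N → L = ⊥ ∨ L = N) (hMN : M ≠ N) (hMt : MulAction.IsPretransitive M α) (hNt : MulAction.IsPretransitive N α) : (∀ a : α, MulAction.stabilizer M a = ⊥) ∧ (∀ a : α, MulAction.stabilizer N a = ⊥) ∧ ¬ IsMulCommutative M ∧ Nonempty (M ≃* N) ∧ Subgroup.centralizer ((M.map G.subtype : Subgroup (Equiv.Perm α)) : Set (Equiv.Perm α)) = N.map G.subtype ∧ Subgroup.centralizer ((N.map G.subtype : Subgroup (Equiv.Perm α)) : Set (Equiv.Perm α)) = M.map G.subtype ∧ ∀ L : Subgroup G, L.Normal → L ≠ ⊥ → (∀ L' : Subgroup G, L'.Normal → L' ≤ L → L' = ⊥ ∨ L' = L) → L = M ∨ L = N := by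
  have hbot : M ⊓ N = ⊥ := inf_eq_bot_of_min M N hM hMmin hNmin hMN
  have hc : ∀ m ∈ M, ∀ n ∈ N, m * n = n * m := fun m hm n hn => comm_of_inf M N hbot hm hn
  have hc' : ∀ n ∈ N, ∀ m ∈ M, n * m = m * n := fun n hn m hm => (hc m hm n hn).symm
  have hne : Nonempty α := by
    by_contra hne
    rw [not_nonempty_iff] at hne
    apply hM
    rw [eq_bot_iff]
    intro m _
    rw [Subgroup.mem_bot]
    apply Subtype.ext
    ext x
    exact isEmptyElim x
  have hcP : ∀ s ∈ (M.map G.subtype : Subgroup (Equiv.Perm α)),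
      ∀ t ∈ (N.map G.subtype : Subgroup (Equiv.Perm α)), s * t = t * s := by
    rintro s ⟨m, hm, rfl⟩ t ⟨n, hn, rfl⟩
    rw [← map_mul, ← map_mul, hc m hm n hn]
  have hcent1 := centralizer_eq _ _ (trans_map G M hMt) (trans_map G N hNt) hcP
  have hcent2 := centralizer_eq _ _ (trans_map G N hNt) (trans_map G M hMt)
    (fun s hs t ht => (hcP t ht s hs).symm)
  have hcG : ∀ x : G, (∀ m ∈ M, m * x = x * m) → x ∈ N := by
    intro x hx
    have h1 : (x : Equiv.Perm α) ∈ Subgroup.centralizer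
        ((M.map G.subtype : Subgroup (Equiv.Perm α)) : Set (Equiv.Perm α)) := by
      rw [Subgroup.mem_centralizer_iff]
      rintro _ ⟨m, hm, rfl⟩
      exact congrArg (fun y : G => (y : Equiv.Perm α)) (hx m hm)
    rw [hcent1] at h1
    obtain ⟨n, hn, hnx⟩ := h1
    have : n = x := Subtype.ext hnx
    rwa [← this]
  refine ⟨stab_eq_bot G M N hc hNt, stab_eq_bot G N M hc' hMt, ?_,
    nonempty_iso G M N hc hMt hNt, hcent1, hcent2, ?_⟩
  · intro hab
    apply hM
    rw [eq_bot_iff, ← hbot]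
    apply le_inf le_rfl
    intro x hx
    apply hcG
    intro m hm
    have := hab.is_comm.comm (⟨m, hm⟩ : M) ⟨x, hx⟩
    exact congrArg (fun y : M => (y : G)) this
  · intro L hL hLne hLmin
    by_contra hcon
    push Not at hcon
    haveI := hL
    have h1 : L ⊓ M = ⊥ := inf_eq_bot_of_min L M hLne hLmin hMmin hcon.1
    have h2 : L ⊓ N = ⊥ := inf_eq_bot_of_min L N hLne hLmin hNmin hcon.2
    apply hLne
    rw [eq_bot_iff, ← h2]
    apply le_inf le_rfl
    intro x hx
    apply hcG
    intro m hm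
    exact (comm_of_inf L M h1 hx hm).symm

end Cfsg.Agent.S0704
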