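-- Statement S2480: the number of conjugacy classes of `PSL_n(q)`.
import Mathlib
import Cfsg.Agent.H152.Tuple
import Cfsg.Agent.H151.SLBound
import Cfsg.Agent.S0280
import Cfsg.Statements.S2480
set_option linter.all false

-- part: H151/ScaleHp
section
/-! # The tuple `hp` of a scalar multiple (helper151)

`hp_smul : hp (a • T) j = (hp T j).scaleRoots a` for `a ≠ 0`; `hp_similar`: similar endomorphisms have the same tuple.
-/

set_option autoImplicit false

namespace Cfsg.Agent.H151.ScaleHp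

open Polynomial Cfsg.Agent.H152

universe u

variable {F : Type u} [Field F]

/-- substitution of `aX` for `X` -/
noncomputable def sub (a : F) (ha : a ≠ 0) : F[X] ≃ₐ[F] F[X] :=
  algEquivOfCompEqX (C a * X) (C a⁻¹ * X)
    (by rw [mul_comp, C_comp, X_comp, ← mul_assoc, ← C_mul, mul_inv_cancel₀ ha, C_1, one_mul])
    (by rw [mul_comp, C_comp, X_comp, ← mul_assoc, ← C_mul, inv_mul_cancel₀ ha, C_1, one_mul])

theorem sub_apply (a : F) (ha : a ≠ 0) (f : F[X]) : sub a ha f = f.comp (C a * X) := rfl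

theorem sub_symm_apply (a : F) (ha : a ≠ 0) (f : F[X]) : (sub a ha).symm f = f.comp (C a⁻¹ * X) := rfl

theorem coeff_comp_C_mul_X (f : F[X]) (a : F) (i : ℕ) : (f.comp (C a * X)).coeff i = f.coeff i * a ^ i := by
  rw [comp_C_mul_X_coeff]

theorem sub_scaleRoots (a : F) (ha : a ≠ 0) (f : F[X]) :
    sub a ha (f.scaleRoots a) = C (a ^ f.natDegree) * f := by
  ext i
  rw [sub_apply, coeff_comp_C_mul_X, coeff_scaleRoots, coeff_C_mul]
  by_cases hi : i ≤ f.natDegree
  · rw [mul_assoc, ← pow_add, Nat.sub_add_cancel hi, mul_comm]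
  · rw [coeff_eq_zero_of_natDegree_lt (by omega)]; ring

theorem irreducible_scaleRoots {a : F} (ha : a ≠ 0) {f : F[X]} (hf : Irreducible f) :
    Irreducible (f.scaleRoots a) := by
  rw [← MulEquiv.irreducible_iff (sub a ha), sub_scaleRoots]
  rw [irreducible_isUnit_mul]
  · exact hf
  · rw [isUnit_C]
    exact (pow_ne_zero _ ha).isUnit

theorem aeval_smul_end {V : Type*} [AddCommGroup V] [Module F V] (T : Module.End F V) (a : F) (ha : a ≠ 0) (f : F[X]) :
    aeval (a • T) f = aeval T (sub a ha f) := by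
  rw [sub_apply, aeval_comp]
  congr 2
  rw [map_mul, aeval_C, aeval_X, Algebra.smul_def]

theorem isDec_smul {V : Type*} [AddCommGroup V] [Module F V] {T : Module.End F V} {ι : Type*} [Fintype ι]
    {p : ι → F[X]} {e : ι → ℕ} {v : ι → V} (h : IsDec T p e v) {a : F} (ha : a ≠ 0) :
    IsDec (a • T) (fun i => (p i).scaleRoots a) e v := by
  refine ⟨fun i => (monic_scaleRoots_iff a).2 (h.monic i), fun i => irreducible_scaleRoots ha (h.irr i), h.pos, ?_, ?_⟩
  · intro m
    obtain ⟨f, hf⟩ := h.cyc.span m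
    refine ⟨fun i => (sub a ha).symm (f i), ?_⟩
    rw [hf]
    refine Finset.sum_congr rfl fun i _ => ?_
    rw [aeval_smul_end T a ha, AlgEquiv.apply_symm_apply]
  · intro f
    have h1 : ∑ i, aeval (a • T) (f i) (v i) = ∑ i, aeval T (sub a ha (f i)) (v i) :=
      Finset.sum_congr rfl fun i _ => by rw [aeval_smul_end T a ha]
    rw [h1, h.cyc.ind]
    refine forall_congr' fun i => ?_
    have h2 : (p i).scaleRoots a ^ e i ∣ f i ↔ sub a ha ((p i).scaleRoots a ^ e i) ∣ sub a ha (f i) :=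
      (map_dvd_iff (sub a ha)).symm
    change _ ↔ (p i).scaleRoots a ^ e i ∣ f i
    rw [h2, map_pow, sub_scaleRoots]
    apply Associated.dvd_iff_dvd_left
    apply Associated.pow_pow
    refine (associated_unit_mul_left (p i) _ ?_).symm
    rw [isUnit_C]
    exact (pow_ne_zero _ ha).isUnit

theorem scaleRoots_prod {ι : Type*} (s : Finset ι) (f : ι → F[X]) (a : F) :
    (∏ i ∈ s, f i).scaleRoots a = ∏ i ∈ s, (f i).scaleRoots a := by
  classical
  induction s using Finset.induction_on with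
  | empty => rw [Finset.prod_empty, Finset.prod_empty, one_scaleRoots]
  | insert i s hi ih =>
    rw [Finset.prod_insert hi, Finset.prod_insert hi, mul_scaleRoots_of_noZeroDivisors, ih]

theorem hp_smul {V : Type*} [AddCommGroup V] [Module F V] [FiniteDimensional F V] (T : Module.End F V) {a : F}
    (ha : a ≠ 0) (j : ℕ) : hp (a • T) j = (hp T j).scaleRoots a := by
  obtain ⟨d, p, e, v, hd, h1⟩ := hp_def T
  rw [h1, hp_eq (isDec_smul hd ha), scaleRoots_prod]

theorem aeval_similar {V V' : Type*} [AddCommGroup V] [Module F V] [AddCommGroup V'] [Module F V']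
    {T : Module.End F V} {T' : Module.End F V'} (E : V ≃ₗ[F] V') (hE : ∀ x, E (T x) = T' (E x)) (f : F[X]) (x : V) :
    E (aeval T f x) = aeval T' f (E x) := by
  induction f using Polynomial.induction_on' with
  | add f g hf hg => rw [map_add, map_add, LinearMap.add_apply, LinearMap.add_apply, map_add, hf, hg]
  | monomial n a =>
    have h : ∀ n (x : V), E ((T ^ n) x) = (T' ^ n) (E x) := by
      intro n
      induction n with
      | zero => intro x; simp
      | succ n ih => intro x; rw [pow_succ, pow_succ, Module.End.mul_apply, Module.End.mul_apply, ih, hE]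
    rw [aeval_monomial, aeval_monomial, Module.End.mul_apply, Module.End.mul_apply, Module.algebraMap_end_apply,
      Module.algebraMap_end_apply, map_smul, h]

theorem hp_similar {V V' : Type*} [AddCommGroup V] [Module F V] [FiniteDimensional F V]
    [AddCommGroup V'] [Module F V'] [FiniteDimensional F V'] {T : Module.End F V} {T' : Module.End F V'}
    (E : V ≃ₗ[F] V') (hE : ∀ x, E (T x) = T' (E x)) (j : ℕ) : hp T j = hp T' j := by
  apply hp_congr
  intro φ _ _ j
  refine LinearEquiv.finrank_eq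
    (LinearEquiv.ofSubmodules E _ _ (le_antisymm ?_ ?_))
  · rintro _ ⟨x, hx, rfl⟩
    rw [LinearMap.mem_ker]
    rw [SetLike.mem_coe, LinearMap.mem_ker] at hx
    have := aeval_similar E hE (φ ^ j) x
    rw [hx, map_zero] at this
    exact this.symm
  · intro y hy
    rw [LinearMap.mem_ker] at hy
    refine ⟨E.symm y, ?_, E.apply_symm_apply y⟩
    rw [SetLike.mem_coe, LinearMap.mem_ker]
    apply E.injective
    rw [aeval_similar E hE, LinearEquiv.apply_symm_apply, hy, map_zero]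

end Cfsg.Agent.H151.ScaleHp
end

-- part: H151/CenClass
section
/-! # Classes of a central quotient (helper151)

`|Z| k(G/Z)` is at most the sum over `z ∈ Z` of the number of classes `C` of `G` with `zC = C`, and at least `k(G)`; here `Z` is
the centre of `G`.
-/

set_option autoImplicit false

namespace Cfsg.Agent.H151.CenClass

variable {G : Type*} [Group G]

/-- multiplication of a class by a central element -/
def zact (z : Subgroup.center G) : ConjClasses G → ConjClasses G :=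
  Quotient.map (fun g => z.1 * g) (by
    intro a b h
    obtain ⟨c, hc⟩ := isConj_iff.1 h
    refine isConj_iff.2 ⟨c, ?_⟩
    rw [← hc, ← mul_assoc, Subgroup.mem_center_iff.1 z.2 c]
    group)

theorem zact_mk (z : Subgroup.center G) (g : G) : zact z (ConjClasses.mk g) = ConjClasses.mk (z.1 * g) := rfl

/-- the action of the centre on the set of classes -/
@[reducible] def centerAction (G : Type*) [Group G] : MulAction (Subgroup.center G) (ConjClasses G) where
  smul := zact
  one_smul c := by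
    obtain ⟨g, rfl⟩ := ConjClasses.mk_surjective c
    change zact 1 (ConjClasses.mk g) = _
    rw [zact_mk, OneMemClass.coe_one, one_mul]
  mul_smul z w c := by
    obtain ⟨g, rfl⟩ := ConjClasses.mk_surjective c
    change zact (z * w) (ConjClasses.mk g) = zact z (zact w (ConjClasses.mk g))
    rw [zact_mk, zact_mk, zact_mk, Subgroup.coe_mul, mul_assoc]

theorem card_mul_le [Finite G] [Fintype (Subgroup.center G)] :
    Nat.card (Subgroup.center G) * Nat.card (ConjClasses (G ⧸ Subgroup.center G)) ≤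
      ∑ z : Subgroup.center G, Nat.card {c : ConjClasses G // zact z c = c} := by
  classical
  let _ := centerAction G
  have := Fintype.ofFinite (ConjClasses G)
  have := Fintype.ofFinite (MulAction.orbitRel.Quotient (Subgroup.center G) (ConjClasses G))
  have h1 := MulAction.sum_card_fixedBy_eq_card_orbits_mul_card_group (Subgroup.center G) (ConjClasses G)
  have h2 : ∀ z : Subgroup.center G, Nat.card {c : ConjClasses G // zact z c = c} =
      Fintype.card (MulAction.fixedBy (ConjClasses G) z) := by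
    intro z
    rw [← Nat.card_eq_fintype_card]
    rfl
  rw [Finset.sum_congr rfl fun z _ => h2 z, h1, mul_comm, Nat.card_eq_fintype_card (α := Subgroup.center G)]
  refine Nat.mul_le_mul_right _ ?_
  rw [← Nat.card_eq_fintype_card]
  let f : MulAction.orbitRel.Quotient (Subgroup.center G) (ConjClasses G) → ConjClasses (G ⧸ Subgroup.center G) :=
    Quotient.lift (ConjClasses.map (QuotientGroup.mk' (Subgroup.center G))) (by
      intro a b hab
      obtain ⟨z, hz⟩ := hab
      obtain ⟨g, rfl⟩ := ConjClasses.mk_surjective b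
      rw [← hz]
      change ConjClasses.map _ (zact z (ConjClasses.mk g)) = _
      rw [zact_mk]
      change ConjClasses.mk (QuotientGroup.mk' _ (z.1 * g)) = ConjClasses.mk (QuotientGroup.mk' _ g)
      rw [map_mul]
      have : QuotientGroup.mk' (Subgroup.center G) z.1 = 1 := by
        rw [← MonoidHom.mem_ker, QuotientGroup.ker_mk']
        exact z.2
      rw [this, one_mul])
  apply Nat.card_le_card_of_surjective f
  intro c
  obtain ⟨g, rfl⟩ := ConjClasses.mk_surjective c
  obtain ⟨g, rfl⟩ := QuotientGroup.mk_surjective g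
  exact ⟨Quotient.mk _ (ConjClasses.mk g), rfl⟩

/-- a representative -/
noncomputable def rep (d : ConjClasses (G ⧸ Subgroup.center G)) : G :=
  Quotient.out (Quotient.out d : G ⧸ Subgroup.center G)

theorem mk_rep (d : ConjClasses (G ⧸ Subgroup.center G)) :
    ConjClasses.mk (QuotientGroup.mk (rep d) : G ⧸ Subgroup.center G) = d := by
  have h2 : (QuotientGroup.mk (rep d) : G ⧸ Subgroup.center G) = Quotient.out d := Quotient.out_eq _
  rw [h2]
  exact Quotient.out_eq d

theorem card_le_mul [Finite G] :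
    Nat.card (ConjClasses G) ≤ Nat.card (Subgroup.center G) * Nat.card (ConjClasses (G ⧸ Subgroup.center G)) := by
  classical
  have key : ∀ c : ConjClasses G, ∃ z : Subgroup.center G,
      c = ConjClasses.mk (z.1 * rep (ConjClasses.map (QuotientGroup.mk' (Subgroup.center G)) c)) := by
    intro c
    obtain ⟨g, rfl⟩ := ConjClasses.mk_surjective c
    set d := ConjClasses.map (QuotientGroup.mk' (Subgroup.center G)) (ConjClasses.mk g) with hd
    have h1 : ConjClasses.mk (QuotientGroup.mk (rep d) : G ⧸ Subgroup.center G) =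
        ConjClasses.mk (QuotientGroup.mk g : G ⧸ Subgroup.center G) := (mk_rep d).trans hd
    rw [ConjClasses.mk_eq_mk_iff_isConj, isConj_iff] at h1
    obtain ⟨x, hx⟩ := h1
    obtain ⟨x, rfl⟩ := QuotientGroup.mk_surjective x
    set h := rep d with hh
    have h3 : (QuotientGroup.mk (x * h * x⁻¹) : G ⧸ Subgroup.center G) = QuotientGroup.mk g := hx
    rw [QuotientGroup.eq] at h3
    refine ⟨⟨_, h3⟩, ?_⟩
    rw [ConjClasses.mk_eq_mk_iff_isConj]
    refine IsConj.symm (isConj_iff.2 ⟨x, ?_⟩)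
    have h4 := Subgroup.mem_center_iff.1 h3
    have h5 : x * ((x * h * x⁻¹)⁻¹ * g * h) * x⁻¹ = ((x * h * x⁻¹)⁻¹ * g) * (x * h * x⁻¹) := by
      have := h4 x
      calc x * ((x * h * x⁻¹)⁻¹ * g * h) * x⁻¹ = (x * ((x * h * x⁻¹)⁻¹ * g)) * h * x⁻¹ := by group
        _ = _ := by rw [this]; group
    rw [h5, ← h4]
    group
  choose z hz using key
  rw [← Nat.card_prod]
  refine Nat.card_le_card_of_injective
    (fun c => (z c, ConjClasses.map (QuotientGroup.mk' (Subgroup.center G)) c)) ?_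
  intro c c' hcc
  rw [Prod.mk.injEq] at hcc
  rw [hz c, hz c', hcc.1, hcc.2]

end Cfsg.Agent.H151.CenClass
end

-- part: H151/PSLClass
section
/-! # The number of classes of `PSL_n(q)` (helper151)

`(q - 1) d k(PSL_n(q)) ≤ ∑_{c ^ n = 1} ∑_{(a, b)} #{tuples in x^o(c) supported on the multiples of lcm(o(a), o(b))}`.
-/

set_option autoImplicit false

namespace Cfsg.Agent.H151.PSLC

open Polynomial Module Cfsg.Agent.H151.Cnt Cfsg.Agent.H151.GLC Cfsg.Agent.H151.SLC Cfsg.Agent.H151.ScaleHp Cfsg.Agent.H152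

universe u

variable {F : Type u} [Field F] {n : ℕ}

/-! ### The canonical tuple of a matrix -/

/-- the canonical tuple -/
noncomputable def hdat (A : Matrix (Fin n) (Fin n) F) : ℕ → F[X] := hp (Matrix.toLin' A)

theorem hdat_coeff_ne (A : Matrix (Fin n) (Fin n) F) (hA : A.det ≠ 0) (k : ℕ) : (hdat A k).coeff 0 ≠ 0 := by
  classical
  obtain ⟨d, p, e, v, hd, h1⟩ := hp_def (Matrix.toLin' A)
  rw [hdat, h1, coeff_zero_prod, Finset.prod_ne_zero_iff]
  intro i _ hi
  have h2 := hd.cyc.det_eq (fun i => (hd.monic i).pow _)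
  rw [LinearMap.det_toLin'] at h2
  apply hA
  rw [h2]
  apply Finset.prod_eq_zero (Finset.mem_univ i)
  rw [coeff_zero_eq_eval_zero, eval_pow, ← coeff_zero_eq_eval_zero, hi, zero_pow (hd.pos i).ne', mul_zero]

theorem hdat_mem_X (A : Matrix (Fin n) (Fin n) F) (hA : A.det ≠ 0) : hdat A ∈ X F n n := by
  have hfr : finrank F (Fin n → F) = n := by simp
  refine ⟨fun k => ⟨hp_monic _ k, hdat_coeff_ne A hA k⟩, ?_, ?_⟩
  · rintro k (rfl | hk)
    · exact hp_zero _
    · exact hp_of_lt _ (by rw [hfr]; exact hk)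
  · have := sum_hp (Matrix.toLin' A)
    rw [hfr] at this
    exact this

theorem det_eq_tdet' (A : Matrix (Fin n) (Fin n) F) : A.det = tdet n (hdat A) := by
  have hfr : finrank F (Fin n → F) = n := by simp
  have := det_hp (Matrix.toLin' A)
  rw [hfr, LinearMap.det_toLin'] at this
  exact this

theorem exists_conj_of_hdat_eq (A B : Matrix (Fin n) (Fin n) F) (h : hdat A = hdat B) :
    ∃ P : GL (Fin n) F, (P : Matrix (Fin n) (Fin n) F) * A = B * (P : Matrix (Fin n) (Fin n) F) := by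
  classical
  obtain ⟨ψ, hψ⟩ := exists_equiv_of_hp (Matrix.toLin' A) (Matrix.toLin' B) (fun k => congrFun h k)
  refine ⟨⟨LinearMap.toMatrix' ψ.toLinearMap, LinearMap.toMatrix' ψ.symm.toLinearMap, ?_, ?_⟩, ?_⟩
  · rw [← LinearMap.toMatrix'_comp]; simp
  · rw [← LinearMap.toMatrix'_comp]; simp
  · apply Matrix.toLin'.injective
    change Matrix.toLin' (LinearMap.toMatrix' ψ.toLinearMap * A) = Matrix.toLin' (B * LinearMap.toMatrix' ψ.toLinearMap)
    rw [Matrix.toLin'_mul, Matrix.toLin'_mul, Matrix.toLin'_toMatrix']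
    ext1 v
    ext i
    exact congrFun (hψ _) i

theorem hdat_eq_of_conj {A B P : Matrix (Fin n) (Fin n) F} (hP : IsUnit P) (h : P * A = B * P) : hdat A = hdat B := by
  funext j
  have hPd : IsUnit P.det := (Matrix.isUnit_iff_isUnit_det _).1 hP
  refine hp_similar (Matrix.toLinearEquiv' P hP.invertible) (fun x => ?_) j
  change Matrix.toLin' P (Matrix.toLin' A x) = Matrix.toLin' B (Matrix.toLin' P x)
  rw [← LinearMap.comp_apply, ← LinearMap.comp_apply, ← Matrix.toLin'_mul, ← Matrix.toLin'_mul, h]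

theorem hdat_smul (A : Matrix (Fin n) (Fin n) F) {a : F} (ha : a ≠ 0) (k : ℕ) :
    hdat (a • A) k = (hdat A k).scaleRoots a := by
  rw [hdat, map_smul]
  exact hp_smul _ ha k

theorem exists_comm_det' [Finite F] (A : Matrix (Fin n) (Fin n) F) (k : ℕ) (hk : hdat A k ≠ 1) (c : F) :
    ∃ Z : Matrix (Fin n) (Fin n) F, Z * A = A * Z ∧ Z.det = c ^ k := by
  classical
  obtain ⟨z, hz, hzd⟩ := exists_commute_det (Matrix.toLin' A) hk c
  refine ⟨LinearMap.toMatrix' z, ?_, ?_⟩
  · apply Matrix.toLin'.injective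
    rw [Matrix.toLin'_mul, Matrix.toLin'_mul, Matrix.toLin'_toMatrix']
    exact hz
  · rw [← LinearMap.det_toLin', Matrix.toLin'_toMatrix', hzd]

/-! ### Classes of `SL_n` fixed by a scalar -/

/-- the tuple is fixed by `c` -/
def Fx (c : F) (g : ℕ → F[X]) : Prop := ∀ k, (g k).scaleRoots c = g k

theorem hdat_out (A : Matrix.SpecialLinearGroup (Fin n) F) :
    hdat (Quotient.out (ConjClasses.mk A) : Matrix.SpecialLinearGroup (Fin n) F).1 = hdat A.1 := by
  have h : IsConj (Quotient.out (ConjClasses.mk A)) A := by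
    rw [← ConjClasses.mk_eq_mk_iff_isConj]
    exact Quotient.out_eq (ConjClasses.mk A)
  rw [isConj_iff] at h
  obtain ⟨c, hc⟩ := h
  have h2 : c * Quotient.out (ConjClasses.mk A) = A * c := mul_inv_eq_iff_eq_mul.1 hc
  have h3 : IsUnit c.1 := by
    rw [Matrix.isUnit_iff_isUnit_det]
    have : c.1.det = 1 := c.2
    rw [this]; exact isUnit_one
  exact hdat_eq_of_conj h3 (congrArg Subtype.val h2)

/-- the tuple of a class fixed by `z` -/
theorem fx_of_zact {z : Subgroup.center (Matrix.SpecialLinearGroup (Fin n) F)} {a : F} (ha : a ≠ 0)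
    (hz : z.1.1 = a • (1 : Matrix (Fin n) (Fin n) F)) {c : ConjClasses (Matrix.SpecialLinearGroup (Fin n) F)}
    (hc : CenClass.zact z c = c) : Fx a (hdat (Quotient.out c : Matrix.SpecialLinearGroup (Fin n) F).1) := by
  intro k
  set A : Matrix.SpecialLinearGroup (Fin n) F := Quotient.out c with hA
  have h1 : ConjClasses.mk A = c := Quotient.out_eq c
  have h2 : ConjClasses.mk (z.1 * A) = ConjClasses.mk A := by
    rw [← CenClass.zact_mk, h1, hc]
  rw [← hdat_smul _ ha]
  have h3 : (z.1 * A).1 = a • A.1 := by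
    change z.1.1 * A.1 = _
    rw [hz, Matrix.smul_mul, Matrix.one_mul]
  rw [← h3, ← hdat_out (z.1 * A), h2, hdat_out A]

theorem card_fibre_le' [Finite F] (g : ℕ → F[X]) :
    Nat.card {c : ConjClasses (Matrix.SpecialLinearGroup (Fin n) F) //
      hdat (Quotient.out c : Matrix.SpecialLinearGroup (Fin n) F).1 = g} ≤ tt g := by
  classical
  rcases isEmpty_or_nonempty {c : ConjClasses (Matrix.SpecialLinearGroup (Fin n) F) //
      hdat (Quotient.out c : Matrix.SpecialLinearGroup (Fin n) F).1 = g} with he | ⟨⟨c₀, hc₀⟩⟩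
  · rw [Nat.card_of_isEmpty]; exact Nat.zero_le _
  · set A₀ : Matrix.SpecialLinearGroup (Fin n) F := Quotient.out c₀ with hA₀
    let A' : GL (Fin n) F := Matrix.SpecialLinearGroup.toGL A₀
    have hA' : (A' : Matrix (Fin n) (Fin n) F) = A₀.1 := rfl
    let H : Subgroup Fˣ := (Subgroup.centralizer {A'}).map Matrix.GeneralLinearGroup.det
    have hdat : hdat A₀.1 = g := hc₀
    have hH : ∀ k ∈ {k : ℕ | g k ≠ 1}, ∀ x : Fˣ, x ^ k ∈ H := by
      intro k hk x
      obtain ⟨Z, hZ, hZd⟩ := exists_comm_det' A₀.1 k (by rw [hdat]; exact hk) x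
      have hZd0 : Z.det ≠ 0 := by rw [hZd]; exact pow_ne_zero _ x.ne_zero
      refine ⟨Matrix.GeneralLinearGroup.mkOfDetNeZero Z hZd0, ?_, ?_⟩
      · rw [SetLike.mem_coe, Subgroup.mem_centralizer_singleton_iff]
        exact Units.ext hZ
      · apply Units.ext
        exact hZd
    refine le_trans ?_ (card_quotient_le _ H hH)
    have key : ∀ c : {c : ConjClasses (Matrix.SpecialLinearGroup (Fin n) F) //
        PSLC.hdat (Quotient.out c : Matrix.SpecialLinearGroup (Fin n) F).1 = g},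
        ∃ P : GL (Fin n) F, P.1 * A₀.1 = (Quotient.out c.1 : Matrix.SpecialLinearGroup (Fin n) F).1 * P.1 := by
      rintro ⟨c, hc⟩
      apply exists_conj_of_hdat_eq
      exact hdat.trans hc.symm
    choose P hP using key
    refine Nat.card_le_card_of_injective (fun c => (QuotientGroup.mk (Matrix.GeneralLinearGroup.det (P c)) : Fˣ ⧸ H)) ?_
    intro c c' hcc
    rw [QuotientGroup.eq] at hcc
    obtain ⟨Z, hZ, hZd⟩ := hcc
    rw [SetLike.mem_coe, Subgroup.mem_centralizer_singleton_iff] at hZ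
    set Q : GL (Fin n) F := P c' * Z⁻¹ * (P c)⁻¹ with hQ
    let Ac : GL (Fin n) F := Matrix.SpecialLinearGroup.toGL (Quotient.out c.1)
    let Ac' : GL (Fin n) F := Matrix.SpecialLinearGroup.toGL (Quotient.out c'.1)
    have h1 : P c * A' = Ac * P c := Units.ext (hP c)
    have h2 : P c' * A' = Ac' * P c' := Units.ext (hP c')
    have hQA : Q * Ac = Ac' * Q := by
      have h3 : Ac = P c * A' * (P c)⁻¹ := by rw [h1]; group
      have h4 : Ac' = P c' * A' * (P c')⁻¹ := by rw [h2]; group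
      have h5 : Z⁻¹ * A' = A' * Z⁻¹ := by
        rw [inv_mul_eq_iff_eq_mul, ← mul_assoc, hZ, mul_assoc, mul_inv_cancel, mul_one]
      rw [hQ, h3, h4]
      calc P c' * Z⁻¹ * (P c)⁻¹ * (P c * A' * (P c)⁻¹) = P c' * (Z⁻¹ * A') * (P c)⁻¹ := by group
        _ = P c' * (A' * Z⁻¹) * (P c)⁻¹ := by rw [h5]
        _ = _ := by group
    have hQd : Matrix.GeneralLinearGroup.det Q = 1 := by
      rw [hQ, map_mul, map_mul, map_inv, map_inv, hZd]
      rw [mul_inv, inv_inv]
      have : ∀ a b : Fˣ, b * (a * b⁻¹) * a⁻¹ = 1 := by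
        intro a b
        rw [mul_comm a, ← mul_assoc, mul_inv_cancel, one_mul, mul_inv_cancel]
      exact this _ _
    have hQd' : Q.1.det = 1 := congrArg Units.val hQd
    apply Subtype.ext
    rw [← Quotient.out_eq c.1, ← Quotient.out_eq c'.1]
    apply Quotient.sound
    change IsConj (Quotient.out c.1) (Quotient.out c'.1)
    rw [isConj_iff]
    let Q' : Matrix.SpecialLinearGroup (Fin n) F := ⟨Q.1, hQd'⟩
    have h6 : Q' * Quotient.out c.1 = Quotient.out c'.1 * Q' := Subtype.ext (congrArg Units.val hQA)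
    exact ⟨Q', mul_inv_eq_iff_eq_mul.2 h6⟩

/-! ### Counting -/

theorem scaleRoots_eq_iff (f : F[X]) (c : F) :
    f.scaleRoots c = f ↔ ∀ i, f.coeff i * c ^ (f.natDegree - i) = f.coeff i := by
  rw [Polynomial.ext_iff]
  exact forall_congr' fun i => by rw [coeff_scaleRoots]

theorem fx_act (c : F) {g : ℕ → F[X]} (h : Fx c g) (I : Finset ℕ) (γ : ℕ → Fˣ) :
    Fx c (act I γ g) := by
  intro k
  have hk := (scaleRoots_eq_iff _ _).1 (h k)
  rw [scaleRoots_eq_iff]
  intro i
  rw [act_natDegree]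
  by_cases hkI : k ∈ I
  · rcases Nat.eq_zero_or_pos i with rfl | hi
    · rw [act_coeff hkI]
      have h0 := hk 0
      rw [mul_assoc, h0]
    · rw [act, if_pos hkI, coeff_add, coeff_C, if_neg hi.ne', add_zero]
      exact hk i
  · rw [act, if_neg hkI]
    exact hk i

theorem card_det_one_mul_le' [Finite F] (c : F) (I : Finset ℕ) :
    Nat.card {g : X F n n // Fx c g.1 ∧ supp n g.1 = I ∧ tdet n g.1 = 1} * Nat.card Fˣ ≤
      Nat.card {x : Fˣ // ∀ k ∈ I, x ^ k = 1} * Nat.card {g : X F n n // Fx c g.1 ∧ supp n g.1 = I} := by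
  classical
  let H := (phi F I).range
  have hH : ∀ k ∈ (I : Set ℕ), ∀ x : Fˣ, x ^ k ∈ H := by
    intro k hk x
    refine ⟨Pi.mulSingle k x, ?_⟩
    change ∏ j ∈ I, (Pi.mulSingle k x : ℕ → Fˣ) j ^ j = x ^ k
    rw [Finset.prod_eq_single k]
    · rw [Pi.mulSingle_eq_same]
    · intro j _ hj; rw [Pi.mulSingle_eq_of_ne hj, one_pow]
    · intro h; exact absurd hk h
  have h1 : Nat.card {g : X F n n // Fx c g.1 ∧ supp n g.1 = I ∧ tdet n g.1 = 1} * Nat.card H ≤
      Nat.card {g : X F n n // Fx c g.1 ∧ supp n g.1 = I} := by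
    rw [← Nat.card_prod]
    have hγ : ∀ h : H, ∃ γ : ℕ → Fˣ, phi F I γ = h.1 := fun h => h.2
    choose γ hγ using hγ
    refine Nat.card_le_card_of_injective
      (fun z => ⟨⟨act I (γ z.2) z.1.1.1, (act_mem (γ z.2) z.1.1.2 z.1.2.2.1).1⟩,
        fx_act c z.1.2.1 I (γ z.2),
        (act_mem (γ z.2) z.1.1.2 z.1.2.2.1).2⟩) ?_
    rintro ⟨g, h⟩ ⟨g', h'⟩ hgg
    have e1 : act I (γ h) g.1.1 = act I (γ h') g'.1.1 := congrArg (fun z => z.1.1) hgg
    have e2 : ∀ (g : {g : X F n n // Fx c g.1 ∧ supp n g.1 = I ∧ tdet n g.1 = 1}) (h : H),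
        tdet n (act I (γ h) g.1.1) = (h.1 : F) := by
      intro g h
      rw [tdet_act (γ h) g.2.2.1, g.2.2.2, mul_one]
      exact congrArg Units.val (hγ h)
    have e3 : h = h' := by
      apply Subtype.ext
      apply Units.ext
      rw [← e2 g h, ← e2 g' h', e1]
    subst e3
    have e4 := act_injective (γ h) e1
    refine Prod.ext (Subtype.ext (Subtype.ext e4)) rfl
  have h2 : Nat.card (Fˣ ⧸ H) ≤ Nat.card {x : Fˣ // ∀ k ∈ I, x ^ k = 1} := card_quotient_le (I : Set ℕ) H hH
  calc Nat.card {g : X F n n // Fx c g.1 ∧ supp n g.1 = I ∧ tdet n g.1 = 1} * Nat.card Fˣ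
      = (Nat.card {g : X F n n // Fx c g.1 ∧ supp n g.1 = I ∧ tdet n g.1 = 1} * Nat.card H) * Nat.card (Fˣ ⧸ H) := by
        rw [Subgroup.card_eq_card_quotient_mul_card_subgroup H]; ring
    _ ≤ Nat.card {g : X F n n // Fx c g.1 ∧ supp n g.1 = I} * Nat.card {x : Fˣ // ∀ k ∈ I, x ^ k = 1} :=
        Nat.mul_le_mul h1 h2
    _ = _ := mul_comm _ _

/-- the fixed tuples killed by `a` and `b` -/
noncomputable def cf (F : Type u) [Field F] (n : ℕ) (c : F) (p : Fˣ × Fˣ) : ℕ :=
  Nat.card {g : X F n n // Fx c g.1 ∧ ∀ k, g.1 k ≠ 1 → p.1 ^ k = 1 ∧ p.2 ^ k = 1}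

theorem sum_tt_sq' [Finite F] (c : F) [Fintype {g : X F n n // Fx c g.1}] [Fintype (Fˣ × Fˣ)] :
    ∑ g : {g : X F n n // Fx c g.1}, tt g.1.1 ^ 2 = ∑ p : Fˣ × Fˣ, cf F n c p := by
  classical
  have h1 : ∀ g : {g : X F n n // Fx c g.1}, tt g.1.1 ^ 2 =
      ∑ p : Fˣ × Fˣ, if (∀ k, g.1.1 k ≠ 1 → p.1 ^ k = 1 ∧ p.2 ^ k = 1) then 1 else 0 := by
    intro g
    rw [← Finset.card_filter, ← Fintype.card_subtype, ← Nat.card_eq_fintype_card, tt, pow_two, ← Nat.card_prod]
    refine Nat.card_congr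
      { toFun := fun z => ⟨(z.1.1, z.2.1), fun k hk => ⟨z.1.2 k hk, z.2.2 k hk⟩⟩
        invFun := fun z => (⟨z.1.1, fun k hk => (z.2 k hk).1⟩, ⟨z.1.2, fun k hk => (z.2 k hk).2⟩)
        left_inv := fun z => rfl
        right_inv := fun z => rfl }
  have h2 : ∀ p : Fˣ × Fˣ, cf F n c p =
      ∑ g : {g : X F n n // Fx c g.1}, if (∀ k, g.1.1 k ≠ 1 → p.1 ^ k = 1 ∧ p.2 ^ k = 1) then 1 else 0 := by
    intro p
    rw [← Finset.card_filter, ← Fintype.card_subtype, ← Nat.card_eq_fintype_card, cf]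
    exact Nat.card_congr
      { toFun := fun z => ⟨⟨z.1, z.2.1⟩, z.2.2⟩
        invFun := fun z => ⟨z.1.1, z.1.2, z.2⟩
        left_inv := fun z => rfl
        right_inv := fun z => rfl }
  simp_rw [h1, h2]
  exact Finset.sum_comm

/-- **The classes of `SL_n` fixed by the scalar `a`.** -/
theorem card_fixed_mul_le [Finite F] [Fintype (Fˣ × Fˣ)] (z : Subgroup.center (Matrix.SpecialLinearGroup (Fin n) F))
    {a : F} (ha : a ≠ 0) (hz : z.1.1 = a • (1 : Matrix (Fin n) (Fin n) F)) :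
    Nat.card {c : ConjClasses (Matrix.SpecialLinearGroup (Fin n) F) // CenClass.zact z c = c} * Nat.card Fˣ ≤
      ∑ p : Fˣ × Fˣ, cf F n a p := by
  classical
  have := Fintype.ofFinite (X F n n)
  have := Fintype.ofFinite {g : X F n n // Fx a g.1 ∧ tdet n g.1 = 1}
  have := Fintype.ofFinite {g : X F n n // Fx a g.1}
  set T : Finset ℕ → ℕ := fun I => Nat.card {x : Fˣ // ∀ k ∈ I, x ^ k = 1} with hT
  let Φ : {c : ConjClasses (Matrix.SpecialLinearGroup (Fin n) F) // CenClass.zact z c = c} →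
      {g : X F n n // Fx a g.1 ∧ tdet n g.1 = 1} := fun c =>
    ⟨⟨hdat (Quotient.out c.1 : Matrix.SpecialLinearGroup (Fin n) F).1, hdat_mem_X _ (by
      rw [(Quotient.out c.1 : Matrix.SpecialLinearGroup (Fin n) F).2]; exact one_ne_zero)⟩,
      fx_of_zact ha hz c.2, by
      rw [← det_eq_tdet']; exact (Quotient.out c.1 : Matrix.SpecialLinearGroup (Fin n) F).2⟩
  have h1 : Nat.card {c : ConjClasses (Matrix.SpecialLinearGroup (Fin n) F) // CenClass.zact z c = c} ≤
      ∑ g : {g : X F n n // Fx a g.1 ∧ tdet n g.1 = 1}, T (supp n g.1.1) := by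
    refine card_le_sum_fibres Φ _ fun g => ?_
    rw [hT]
    simp only
    rw [← tt_eq g.1.2]
    refine le_trans ?_ (card_fibre_le' (n := n) g.1.1)
    refine Nat.card_le_card_of_injective (fun c => ⟨c.1.1, congrArg (fun z => z.1.1) c.2⟩) ?_
    intro c c' hcc
    exact Subtype.ext (Subtype.ext (Subtype.mk.inj hcc))
  have h2 := sum_fibre (Y := {g : X F n n // Fx a g.1 ∧ tdet n g.1 = 1}) (Finset.range (n + 1)).powerset
    (fun g => supp n g.1.1) (fun g => supp_mem_powerset _) T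
  have h3 := sum_fibre (Y := {g : X F n n // Fx a g.1}) (Finset.range (n + 1)).powerset
    (fun g => supp n g.1.1) (fun g => supp_mem_powerset _) (fun I => T I ^ 2)
  rw [← sum_tt_sq' (F := F) (n := n) a]
  have h4 : ∑ g : {g : X F n n // Fx a g.1}, tt g.1.1 ^ 2 = ∑ g : {g : X F n n // Fx a g.1}, T (supp n g.1.1) ^ 2 :=
    Finset.sum_congr rfl fun g _ => by rw [tt_eq g.1.2]
  rw [h4, h3]
  refine (Nat.mul_le_mul_right _ h1).trans ?_
  rw [h2, Finset.sum_mul]
  refine Finset.sum_le_sum fun I _ => ?_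
  have h5 := card_det_one_mul_le' (F := F) (n := n) a I
  have h6 : Nat.card {g : {g : X F n n // Fx a g.1 ∧ tdet n g.1 = 1} // supp n g.1.1 = I} =
      Nat.card {g : X F n n // Fx a g.1 ∧ supp n g.1 = I ∧ tdet n g.1 = 1} :=
    Nat.card_congr
      { toFun := fun z => ⟨z.1.1, z.1.2.1, z.2, z.1.2.2⟩
        invFun := fun z => ⟨⟨z.1, z.2.1, z.2.2.2⟩, z.2.2.1⟩
        left_inv := fun z => rfl
        right_inv := fun z => rfl }
  have h7 : Nat.card {g : {g : X F n n // Fx a g.1} // supp n g.1.1 = I} =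
      Nat.card {g : X F n n // Fx a g.1 ∧ supp n g.1 = I} :=
    Nat.card_congr
      { toFun := fun z => ⟨z.1.1, z.1.2, z.2⟩
        invFun := fun z => ⟨⟨z.1, z.2.1⟩, z.2.2⟩
        left_inv := fun z => rfl
        right_inv := fun z => rfl }
  rw [h7]
  calc Nat.card {g : {g : X F n n // Fx a g.1 ∧ tdet n g.1 = 1} // supp n g.1.1 = I} * T I * Nat.card Fˣ
      = (Nat.card {g : X F n n // Fx a g.1 ∧ supp n g.1 = I ∧ tdet n g.1 = 1} * Nat.card Fˣ) * T I := by rw [h6]; ring
    _ ≤ (T I * Nat.card {g : X F n n // Fx a g.1 ∧ supp n g.1 = I}) * T I := Nat.mul_le_mul_right _ h5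
    _ = _ := by ring

end Cfsg.Agent.H151.PSLC
end

-- part: H151/PSLBound
section
/-! # Bounds for the number of classes of `PSL_n(q)` (helper151) -/

set_option autoImplicit false

namespace Cfsg.Agent.H151.PSLB

open Polynomial Cfsg.Agent.H151.Cnt Cfsg.Agent.H151.GLC Cfsg.Agent.H151.SLC Cfsg.Agent.H151.SLB Cfsg.Agent.H151.PSLC

universe u

variable {F : Type u} [Field F] {n : ℕ}

/-- the coefficients of a fixed tuple -/
theorem dvd_of_coeff_ne {u : Fˣ} {f : F[X]} (h0 : f.coeff 0 ≠ 0) (h : f.scaleRoots (u : F) = f) {i : ℕ}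
    (hi : f.coeff i ≠ 0) : orderOf u ∣ i := by
  rw [scaleRoots_eq_iff] at h
  have key : ∀ i, f.coeff i ≠ 0 → orderOf u ∣ f.natDegree - i := by
    intro i hi
    have h1 := h i
    rw [orderOf_dvd_iff_pow_eq_one]
    apply Units.ext
    rw [Units.val_pow_eq_pow_val, Units.val_one]
    exact mul_left_cancel₀ hi (h1.trans (mul_one _).symm)
  have h1 := key 0 h0
  have h2 := key i hi
  have h3 : i ≤ f.natDegree := le_natDegree_of_ne_zero hi
  rw [Nat.sub_zero] at h1
  exact (Nat.dvd_sub_iff_right h3 h1).1 h2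

theorem expand_contract_eq {u : Fˣ} (hu : orderOf u ≠ 0) {f : F[X]} (h0 : f.coeff 0 ≠ 0)
    (h : f.scaleRoots (u : F) = f) : expand F (orderOf u) (contract (orderOf u) f) = f := by
  ext i
  rw [coeff_expand (Nat.pos_of_ne_zero hu)]
  split_ifs with hi
  · rw [coeff_contract hu, Nat.div_mul_cancel hi]
  · by_contra hc
    exact hi (dvd_of_coeff_ne h0 h (fun h => hc h.symm))

theorem card_fx_le [Finite F] (u : Fˣ) (d : ℕ) :
    Nat.card {g : X F n n // Fx (u : F) g.1 ∧ ∀ k, g.1 k ≠ 1 → d ∣ k} ≤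
      if orderOf u ∣ n then
        Nat.card {g : X F (n / orderOf u) (n / orderOf u) // ∀ k, g.1 k ≠ 1 → d ∣ k} else 0 := by
  classical
  have hr : 0 < orderOf u := orderOf_pos u
  have hr0 : orderOf u ≠ 0 := hr.ne'
  have hexp : ∀ g : X F n n, Fx (u : F) g.1 → ∀ k, expand F (orderOf u) (contract (orderOf u) (g.1 k)) = g.1 k :=
    fun g hg k => expand_contract_eq hr0 (g.2.1 k).2 (hg k)
  have hdeg : ∀ g : X F n n, Fx (u : F) g.1 → ∀ k, (g.1 k).natDegree =
      (contract (orderOf u) (g.1 k)).natDegree * orderOf u := by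
    intro g hg k
    conv_lhs => rw [← hexp g hg k]
    rw [natDegree_expand]
  have hsum : ∀ g : X F n n, Fx (u : F) g.1 →
      (∑ k ∈ Finset.range (n + 1), k * (contract (orderOf u) (g.1 k)).natDegree) * orderOf u = n := by
    intro g hg
    rw [Finset.sum_mul]
    refine Eq.trans (Finset.sum_congr rfl fun k _ => ?_) g.2.2.2
    rw [hdeg g hg k, mul_assoc]
  split_ifs with hn
  · set m := n / orderOf u with hm
    have hnm : n = m * orderOf u := (Nat.div_mul_cancel hn).symm
    have hmn : m ≤ n := Nat.div_le_self _ _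
    have hsum' : ∀ g : X F n n, Fx (u : F) g.1 →
        ∑ k ∈ Finset.range (n + 1), k * (contract (orderOf u) (g.1 k)).natDegree = m := by
      intro g hg
      apply Nat.eq_of_mul_eq_mul_right hr
      rw [hsum g hg, ← hnm]
    have hmonic : ∀ g : X F n n, Fx (u : F) g.1 → ∀ k, (contract (orderOf u) (g.1 k)).Monic := by
      intro g hg k
      rw [← monic_expand_iff hr, hexp g hg k]
      exact (g.2.1 k).1
    have hone : ∀ g : X F n n, Fx (u : F) g.1 → ∀ k, g.1 k = 1 → contract (orderOf u) (g.1 k) = 1 := by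
      intro g hg k hk
      have h1 := hdeg g hg k
      rw [hk, natDegree_one] at h1
      have h2 : (contract (orderOf u) (g.1 k)).natDegree = 0 := by
        rw [hk]
        exact (Nat.mul_eq_zero.1 h1.symm).resolve_right hr0
      exact (hmonic g hg k).natDegree_eq_zero.1 h2
    have hbig : ∀ g : X F n n, Fx (u : F) g.1 → ∀ k, m < k → contract (orderOf u) (g.1 k) = 1 := by
      intro g hg k hk
      by_cases hkn : k ≤ n
      · have h1 := Finset.single_le_sum (f := fun k => k * (contract (orderOf u) (g.1 k)).natDegree)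
          (fun _ _ => Nat.zero_le _) (Finset.mem_range.2 (Nat.lt_succ_of_le hkn))
        rw [hsum' g hg] at h1
        have h2 : (contract (orderOf u) (g.1 k)).natDegree = 0 := by
          by_contra h
          have h3 : k * 1 ≤ k * (contract (orderOf u) (g.1 k)).natDegree :=
            Nat.mul_le_mul_left k (Nat.one_le_iff_ne_zero.2 h)
          omega
        exact (hmonic g hg k).natDegree_eq_zero.1 h2
      · exact hone g hg k (g.2.2.1 k (Or.inr (by omega)))
    refine Nat.card_le_card_of_injective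
      (fun g => ⟨⟨fun k => contract (orderOf u) (g.1.1 k), ?_, ?_, ?_⟩, ?_⟩) ?_
    · intro k
      refine ⟨hmonic g.1 g.2.1 k, ?_⟩
      rw [coeff_contract hr0, Nat.zero_mul]
      exact (g.1.2.1 k).2
    · rintro k (rfl | hk)
      · exact hone g.1 g.2.1 0 (g.1.2.2.1 0 (Or.inl rfl))
      · exact hbig g.1 g.2.1 k hk
    · refine Eq.trans ?_ (hsum' g.1 g.2.1)
      refine Finset.sum_subset ?_ ?_
      · intro k hk
        rw [Finset.mem_range] at hk ⊢
        omega
      · intro k _ hk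
        rw [Finset.mem_range, not_lt] at hk
        have h1 : (contract (orderOf u) (g.1.1 k)).natDegree = 0 := by
          rw [hbig g.1 g.2.1 k (by omega), natDegree_one]
        change k * (contract (orderOf u) (g.1.1 k)).natDegree = 0
        rw [h1, mul_zero]
    · intro k hk
      apply g.2.2 k
      intro h
      exact hk (hone g.1 g.2.1 k h)
    · intro g g' hgg
      apply Subtype.ext
      apply Subtype.ext
      funext k
      have h1 : contract (orderOf u) (g.1.1 k) = contract (orderOf u) (g'.1.1 k) :=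
        congrFun (Subtype.mk.inj (Subtype.mk.inj hgg)) k
      rw [← hexp g.1 g.2.1 k, ← hexp g'.1 g'.2.1 k, h1]
  · rw [Nat.le_zero, Nat.card_eq_zero]
    left
    refine ⟨fun g => hn ?_⟩
    rw [← hsum g.1 g.2.1]
    exact dvd_mul_left _ _

theorem cf_le [Fintype F] (u : Fˣ) (p : Fˣ × Fˣ) :
    cf F n (u : F) p ≤ if orderOf u * Nat.lcm (orderOf p.1) (orderOf p.2) ∣ n then
      K (Fintype.card F) (n / (orderOf u * Nat.lcm (orderOf p.1) (orderOf p.2)))
        (n / (orderOf u * Nat.lcm (orderOf p.1) (orderOf p.2))) else 0 := by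
  classical
  have hd : 0 < Nat.lcm (orderOf p.1) (orderOf p.2) :=
    Nat.lcm_pos (orderOf_pos p.1) (orderOf_pos p.2)
  have hr : 0 < orderOf u := orderOf_pos u
  have h1 : cf F n (u : F) p = Nat.card {g : X F n n // Fx (u : F) g.1 ∧ ∀ k, g.1 k ≠ 1 →
      Nat.lcm (orderOf p.1) (orderOf p.2) ∣ k} := by
    rw [cf]
    refine Nat.card_congr (Equiv.subtypeEquivRight fun g => ?_)
    refine and_congr_right fun _ => ?_
    refine forall_congr' fun k => ?_
    rw [Nat.lcm_dvd_iff, orderOf_dvd_iff_pow_eq_one, orderOf_dvd_iff_pow_eq_one]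
  rw [h1]
  refine (card_fx_le u _).trans ?_
  by_cases hn : orderOf u ∣ n
  · rw [if_pos hn]
    refine (card_dvd_le hd).trans ?_
    obtain ⟨m, rfl⟩ := hn
    rw [Nat.mul_div_cancel_left m hr, Nat.mul_div_mul_left _ _ hr]
    by_cases h : Nat.lcm (orderOf p.1) (orderOf p.2) ∣ m
    · rw [if_pos h, if_pos (Nat.mul_dvd_mul_left _ h)]
    · rw [if_neg h]; exact Nat.zero_le _
  · rw [if_neg hn]; exact Nat.zero_le _

theorem cf_le_cc [Fintype F] (u : Fˣ) (p : Fˣ × Fˣ) :
    cf F n (u : F) p ≤ if orderOf u ∣ n then cc F (n / orderOf u) p else 0 := by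
  classical
  have h1 : cf F n (u : F) p = Nat.card {g : X F n n // Fx (u : F) g.1 ∧ ∀ k, g.1 k ≠ 1 →
      Nat.lcm (orderOf p.1) (orderOf p.2) ∣ k} := by
    rw [cf]
    refine Nat.card_congr (Equiv.subtypeEquivRight fun g => ?_)
    refine and_congr_right fun _ => ?_
    refine forall_congr' fun k => ?_
    rw [Nat.lcm_dvd_iff, orderOf_dvd_iff_pow_eq_one, orderOf_dvd_iff_pow_eq_one]
  have h2 : ∀ m, cc F m p = Nat.card {g : X F m m // ∀ k, g.1 k ≠ 1 →
      Nat.lcm (orderOf p.1) (orderOf p.2) ∣ k} := by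
    intro m
    rw [cc]
    refine Nat.card_congr (Equiv.subtypeEquivRight fun g => ?_)
    refine forall_congr' fun k => ?_
    rw [Nat.lcm_dvd_iff, orderOf_dvd_iff_pow_eq_one, orderOf_dvd_iff_pow_eq_one]
  rw [h1, h2]
  exact card_fx_le u _

/-- **The sum over the centre.** -/
theorem card_psl_mul_le [Fintype F] [DecidableEq F] (hn : 1 ≤ n) :
    Nat.gcd n (Fintype.card F - 1) * Nat.card (ConjClasses (Matrix.ProjectiveSpecialLinearGroup (Fin n) F)) *
      (Fintype.card F - 1) ≤ ∑ u ∈ aa F n, ∑ p : Fˣ × Fˣ, cc F (n / orderOf u) p := by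
  classical
  have : Nonempty (Fin n) := ⟨⟨0, by omega⟩⟩
  have hU : Nat.card Fˣ = Fintype.card F - 1 := by rw [Nat.card_eq_fintype_card, Fintype.card_units]
  rw [← S0280.card_center_SL hn]
  have := Fintype.ofFinite (Subgroup.center (Matrix.SpecialLinearGroup (Fin n) F))
  have h1 := CenClass.card_mul_le (G := Matrix.SpecialLinearGroup (Fin n) F)
  refine (Nat.mul_le_mul_right _ h1).trans ?_
  have key : ∀ z : Subgroup.center (Matrix.SpecialLinearGroup (Fin n) F), ∃ u : Fˣ, u ^ n = 1 ∧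
      z.1.1 = (u : F) • (1 : Matrix (Fin n) (Fin n) F) := by
    intro z
    obtain ⟨r, hr, hz⟩ := Matrix.SpecialLinearGroup.mem_center_iff.1 z.2
    rw [Fintype.card_fin] at hr
    have hr0 : r ≠ 0 := by
      rintro rfl
      rw [zero_pow (by omega)] at hr
      exact zero_ne_one hr
    refine ⟨Units.mk0 r hr0, Units.ext ?_, ?_⟩
    · rw [Units.val_pow_eq_pow_val, Units.val_mk0, hr, Units.val_one]
    · rw [Units.val_mk0, ← hz, Matrix.scalar_apply, Matrix.smul_one_eq_diagonal]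
  choose u hu1 hu2 using key
  have hinj : Function.Injective u := by
    intro z z' h
    apply Subtype.ext
    apply Subtype.ext
    rw [hu2 z, hu2 z', h]
  rw [Finset.sum_mul]
  calc ∑ z, Nat.card {c : ConjClasses (Matrix.SpecialLinearGroup (Fin n) F) // CenClass.zact z c = c} *
        (Fintype.card F - 1)
      ≤ ∑ z, ∑ p : Fˣ × Fˣ, cc F (n / orderOf (u z)) p := by
        refine Finset.sum_le_sum fun z _ => ?_
        rw [← hU]
        refine (card_fixed_mul_le z (u z).ne_zero (hu2 z)).trans ?_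
        refine Finset.sum_le_sum fun p _ => ?_
        refine (cf_le_cc (u z) p).trans ?_
        rw [if_pos (orderOf_dvd_of_pow_eq_one (hu1 z))]
    _ = ∑ v ∈ Finset.univ.image u, ∑ p : Fˣ × Fˣ, cc F (n / orderOf v) p := by
        rw [Finset.sum_image (fun a _ b _ h => hinj h)]
    _ ≤ _ := by
        refine Finset.sum_le_sum_of_subset ?_
        intro v hv
        obtain ⟨z, -, rfl⟩ := Finset.mem_image.1 hv
        rw [aa, Finset.mem_filter]
        exact ⟨Finset.mem_univ _, hu1 z⟩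

/-! ### Bounds for the inner sums -/

theorem cc_eq_zero [Fintype F] [DecidableEq F] {m : ℕ} {p : Fˣ × Fˣ} (hp : p ∉ aa F m ×ˢ aa F m) : cc F m p = 0 := by
  have h := cc_le (n := m) p
  rw [mem_aa_prod] at hp
  rw [if_neg hp] at h
  omega

theorem cc_le_pow [Fintype F] {m : ℕ} (p : Fˣ × Fˣ) : cc F m p ≤ Fintype.card F ^ m := by
  have h := cc_le (n := m) p
  have hq : 1 ≤ Fintype.card F := Fintype.card_pos
  refine h.trans ?_
  split_ifs
  · exact (K_le _ hq _ _).trans (Nat.pow_le_pow_right hq (Nat.div_le_self _ _))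
  · exact Nat.zero_le _

theorem sum_cc_le [Fintype F] [DecidableEq F] (m : ℕ) :
    ∑ p : Fˣ × Fˣ, cc F m p ≤ (aa F m).card ^ 2 * Fintype.card F ^ m := by
  have h1 : ∑ p : Fˣ × Fˣ, cc F m p = ∑ p ∈ aa F m ×ˢ aa F m, cc F m p := by
    symm
    apply Finset.sum_subset (Finset.subset_univ _)
    intro p _ hp
    exact cc_eq_zero hp
  rw [h1, pow_two, ← Finset.card_product, ← smul_eq_mul, ← Finset.sum_const]
  exact Finset.sum_le_sum fun p _ => cc_le_pow p

theorem sum_cc_one_le [Fintype F] [DecidableEq F] : ∑ p : Fˣ × Fˣ, cc F 1 p ≤ Fintype.card F - 1 := by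
  have h1 : ∑ p : Fˣ × Fˣ, cc F 1 p = ∑ p ∈ ({1} : Finset (Fˣ × Fˣ)), cc F 1 p := by
    symm
    apply Finset.sum_subset (Finset.subset_univ _)
    intro p _ hp
    apply cc_eq_zero
    rw [mem_aa_prod, Nat.dvd_one, SLB.lcm_eq_one_iff]
    rwa [Finset.mem_singleton] at hp
  rw [h1, Finset.sum_singleton]
  exact cc_one_le.trans (K_one_one _).le

theorem sum_cc_add_one_le [Fintype F] [DecidableEq F] (hn : 1 ≤ n) :
    ∑ p : Fˣ × Fˣ, cc F n p + 1 ≤ Fintype.card F ^ n + ((aa F n).card ^ 2 - 1) * Fintype.card F ^ (n / 2) := by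
  have hq : 1 ≤ Fintype.card F := Fintype.card_pos
  have hmem : (1 : Fˣ × Fˣ) ∈ aa F n ×ˢ aa F n := by
    rw [mem_aa_prod, (lcm_eq_one_iff (F := F)).2 rfl]
    exact one_dvd n
  have h1 : ∑ p : Fˣ × Fˣ, cc F n p = ∑ p ∈ aa F n ×ˢ aa F n, cc F n p := by
    symm
    apply Finset.sum_subset (Finset.subset_univ _)
    intro p _ hp
    exact cc_eq_zero hp
  rw [h1, ← Finset.add_sum_erase _ _ hmem]
  have h0 : cc F n 1 + 1 ≤ Fintype.card F ^ n :=
    (Nat.add_le_add_right cc_one_le 1).trans (K_add_one_le _ hq hn)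
  have h2 : ∑ p ∈ (aa F n ×ˢ aa F n).erase 1, cc F n p ≤ ∑ p ∈ (aa F n ×ˢ aa F n).erase 1,
      Fintype.card F ^ (n / 2) := by
    refine Finset.sum_le_sum fun p hp => ?_
    have hp1 := (Finset.mem_erase.1 hp).1
    have h := cc_le (n := n) p
    have hd1 : Nat.lcm (orderOf p.1) (orderOf p.2) ≠ 1 := fun h => hp1 (lcm_eq_one_iff.1 h)
    have hd0 : 0 < Nat.lcm (orderOf p.1) (orderOf p.2) := Nat.lcm_pos (orderOf_pos p.1) (orderOf_pos p.2)
    refine h.trans ?_
    split_ifs with hd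
    · refine (K_le _ hq _ _).trans (Nat.pow_le_pow_right hq ?_)
      exact Nat.div_le_div_left (by omega) (by norm_num)
    · exact Nat.zero_le _
  rw [Finset.sum_const, smul_eq_mul, Finset.card_erase_of_mem hmem, Finset.card_product, ← pow_two] at h2
  omega

/-! ### The total -/

theorem one_mem_aa [Fintype F] [DecidableEq F] (m : ℕ) : (1 : Fˣ) ∈ aa F m := by
  rw [aa, Finset.mem_filter]; exact ⟨Finset.mem_univ _, one_pow _⟩

theorem orderOf_dvd_of_mem_aa [Fintype F] [DecidableEq F] {m : ℕ} {u : Fˣ} (hu : u ∈ aa F m) : orderOf u ∣ m := by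
  rw [aa, Finset.mem_filter] at hu
  exact orderOf_dvd_of_pow_eq_one hu.2

theorem total_prime_le [Fintype F] [DecidableEq F] (hn : n.Prime) :
    ∑ u ∈ aa F n, ∑ p : Fˣ × Fˣ, cc F (n / orderOf u) p ≤ K (Fintype.card F) n n +
      (((aa F n).card ^ 2 - 1) + ((aa F n).card - 1)) * (Fintype.card F - 1) := by
  rw [← Finset.add_sum_erase _ _ (one_mem_aa n), orderOf_one, Nat.div_one, Nat.add_mul, ← add_assoc]
  refine Nat.add_le_add (sum_prime_le hn) ?_
  refine (Finset.sum_le_sum (g := fun _ => Fintype.card F - 1) fun u hu => ?_).trans ?_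
  · have h1 := orderOf_dvd_of_mem_aa (Finset.mem_of_mem_erase hu)
    have h2 : orderOf u ≠ 1 := fun h => (Finset.mem_erase.1 hu).1 (orderOf_eq_one_iff.1 h)
    rw [((Nat.dvd_prime hn).1 h1).resolve_left h2, Nat.div_self hn.pos]
    exact sum_cc_one_le
  · rw [Finset.sum_const, smul_eq_mul, Finset.card_erase_of_mem (one_mem_aa n)]

theorem total_four_le [Fintype F] [DecidableEq F] :
    ∑ u ∈ aa F 4, ∑ p : Fˣ × Fˣ, cc F (4 / orderOf u) p ≤ K (Fintype.card F) 4 4 +
      ((aa F 2).card ^ 2 - 1) * (Fintype.card F ^ 2 - 1) + ((aa F 4).card ^ 2 - (aa F 2).card ^ 2) * (Fintype.card F - 1) +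
      ((aa F 2).card - 1) * ((Fintype.card F ^ 2 - 1) + ((aa F 2).card ^ 2 - 1) * (Fintype.card F - 1)) +
      ((aa F 4).card - (aa F 2).card) * (Fintype.card F - 1) := by
  have hq : 1 ≤ Fintype.card F := Fintype.card_pos
  have h24 : aa F 2 ⊆ aa F 4 := aa_mono (by norm_num)
  rw [← Finset.sum_sdiff h24, ← Finset.add_sum_erase (aa F 2) _ (one_mem_aa 2), orderOf_one, Nat.div_one, add_comm]
  refine Nat.add_le_add (Nat.add_le_add sum_four_le ?_) ?_
  · refine (Finset.sum_le_sum (g := fun _ => (Fintype.card F ^ 2 - 1) + ((aa F 2).card ^ 2 - 1) * (Fintype.card F - 1))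
      fun u hu => ?_).trans ?_
    · have h1 := orderOf_dvd_of_mem_aa (Finset.mem_of_mem_erase hu)
      have h2 : orderOf u ≠ 1 := fun h => (Finset.mem_erase.1 hu).1 (orderOf_eq_one_iff.1 h)
      rw [((Nat.dvd_prime Nat.prime_two).1 h1).resolve_left h2]
      have := sum_prime_le (F := F) Nat.prime_two
      rw [K_two_two _ hq] at this
      exact this
    · rw [Finset.sum_const, smul_eq_mul, Finset.card_erase_of_mem (one_mem_aa 2)]
  · refine (Finset.sum_le_sum (g := fun _ => Fintype.card F - 1) fun u hu => ?_).trans ?_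
    · rw [Finset.mem_sdiff] at hu
      have h1 := orderOf_dvd_of_mem_aa hu.1
      have h2 : ¬ orderOf u ∣ 2 := by
        intro h
        apply hu.2
        rw [aa, Finset.mem_filter]
        exact ⟨Finset.mem_univ _, orderOf_dvd_iff_pow_eq_one.1 h⟩
      have h3 : orderOf u = 4 := by
        have hle := Nat.le_of_dvd (by norm_num) h1
        interval_cases hl : orderOf u
        · simp at h1
        · norm_num at h2
        · norm_num at h2
        · norm_num at h1
        · rfl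
      rw [h3]
      exact sum_cc_one_le
    · rw [Finset.sum_const, smul_eq_mul, Finset.card_sdiff_of_subset h24]

theorem total_large_le [Fintype F] [DecidableEq F] (hn : 2 ≤ n) :
    ∑ u ∈ aa F n, ∑ p : Fˣ × Fˣ, cc F (n / orderOf u) p + 1 ≤ Fintype.card F ^ n +
      (((aa F n).card ^ 2 - 1) + ((aa F n).card - 1) * (min (n / 2) (Fintype.card F - 1)) ^ 2) *
        Fintype.card F ^ (n / 2) := by
  have hq : 1 ≤ Fintype.card F := Fintype.card_pos
  rw [← Finset.add_sum_erase _ _ (one_mem_aa n), orderOf_one, Nat.div_one]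
  have h1 := sum_cc_add_one_le (F := F) (n := n) (by omega)
  have h2 : ∑ u ∈ (aa F n).erase 1, ∑ p : Fˣ × Fˣ, cc F (n / orderOf u) p ≤
      ((aa F n).card - 1) * ((min (n / 2) (Fintype.card F - 1)) ^ 2 * Fintype.card F ^ (n / 2)) := by
    rw [← Finset.card_erase_of_mem (one_mem_aa (F := F) n), ← smul_eq_mul, ← Finset.sum_const]
    refine Finset.sum_le_sum fun u hu => ?_
    have h3 := orderOf_dvd_of_mem_aa (Finset.mem_of_mem_erase hu)
    have h4 : orderOf u ≠ 1 := fun h => (Finset.mem_erase.1 hu).1 (orderOf_eq_one_iff.1 h)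
    have h5 : 0 < orderOf u := orderOf_pos u
    have h6 : n / orderOf u ≤ n / 2 := Nat.div_le_div_left (by omega) (by norm_num)
    have h7 : 0 < n / orderOf u := Nat.div_pos (Nat.le_of_dvd (by omega) h3) h5
    refine (sum_cc_le _).trans ?_
    refine Nat.mul_le_mul (Nat.pow_le_pow_left (le_min ((card_aa_le h7).trans h6) (card_aa_le' _)) 2)
      (Nat.pow_le_pow_right hq h6)
  rw [Nat.add_mul, mul_assoc]
  omega

end Cfsg.Agent.H151.PSLB
end

-- part: S2480
section
set_option autoImplicit false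
open Cfsg

namespace Cfsg.Agent.S2480

open Cfsg.Agent.H151.GLC Cfsg.Agent.H151.Cnt Cfsg.Agent.H151.SLC Cfsg.Agent.H151.SLB Cfsg.Agent.H151.PSLB

theorem arith_two {q k a : ℕ} (hq : 2 ≤ q) (ha : 1 ≤ a) (ha2 : a ≤ 2)
    (h : k * (q - 1) ≤ (q ^ 2 - 1) + ((a ^ 2 - 1) + (a - 1)) * (q - 1)) : k ≤ q ^ 1 + 5 * q ^ 0 := by
  rw [pow_one, pow_zero]
  obtain ⟨t, rfl⟩ : ∃ t, q = t + 1 := ⟨q - 1, by omega⟩
  rw [Nat.add_sub_cancel] at h
  have h1 : (t + 1) ^ 2 - 1 = (t + 2) * t := by
    have : (t + 1) ^ 2 = (t + 2) * t + 1 := by ring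
    rw [this, Nat.add_sub_cancel]
  rw [h1, ← Nat.add_mul] at h
  have h3 := Nat.le_of_mul_le_mul_right h (by omega)
  have hb : a = 1 ∨ a = 2 := by omega
  rcases hb with rfl | rfl <;> norm_num at h3 <;> omega

theorem arith_three {q k a : ℕ} (hq : 2 ≤ q) (ha : 1 ≤ a) (ha2 : a ≤ 3) (haq : a ≤ q - 1)
    (h : k * (q - 1) ≤ (q - 1) * (q * (q + 1)) + ((a ^ 2 - 1) + (a - 1)) * (q - 1)) : k ≤ q ^ 2 + 5 * q ^ 1 := by
  rw [pow_one]
  obtain ⟨t, rfl⟩ : ∃ t, q = t + 1 := ⟨q - 1, by omega⟩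
  rw [Nat.add_sub_cancel] at h haq
  rw [mul_comm t, ← Nat.add_mul] at h
  have h3 := Nat.le_of_mul_le_mul_right h (by omega)
  have h4 : (t + 1) * (t + 1 + 1) = (t + 1) ^ 2 + (t + 1) := by ring
  rw [h4] at h3
  have hb : a = 1 ∨ a = 2 ∨ a = 3 := by omega
  rcases hb with rfl | rfl | rfl <;> norm_num at h3 <;> omega

theorem arith_four {q k a b K : ℕ} (hq : 2 ≤ q) (ha : 1 ≤ a) (ha2 : a ≤ 2) (haq : a ≤ q - 1) (hab : a ≤ b)
    (hb4 : b ≤ 4) (hbq : b ≤ q - 1) (hK : K + 1 ≤ q ^ 4)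
    (h : k * (q - 1) ≤ K + (a ^ 2 - 1) * (q ^ 2 - 1) + (b ^ 2 - a ^ 2) * (q - 1) +
      (a - 1) * ((q ^ 2 - 1) + (a ^ 2 - 1) * (q - 1)) + (b - a) * (q - 1)) : k ≤ q ^ 3 + 5 * q ^ 2 := by
  obtain ⟨t, rfl⟩ : ∃ t, q = t + 1 := ⟨q - 1, by omega⟩
  rw [Nat.add_sub_cancel] at h haq hbq
  have h1 : (t + 1) ^ 2 - 1 = (t + 2) * t := by
    have : (t + 1) ^ 2 = (t + 2) * t + 1 := by ring
    rw [this, Nat.add_sub_cancel]
  have hK' : K ≤ ((t + 2) * ((t + 1) ^ 2 + 1)) * t := by
    have : (t + 1) ^ 4 = ((t + 2) * ((t + 1) ^ 2 + 1)) * t + 1 := by ring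
    omega
  rw [h1] at h
  have h2 : k * t ≤ ((t + 2) * ((t + 1) ^ 2 + 1) + (a ^ 2 - 1) * (t + 2) + (b ^ 2 - a ^ 2) +
      (a - 1) * ((t + 2) + (a ^ 2 - 1)) + (b - a)) * t := by
    refine h.trans ?_
    calc K + (a ^ 2 - 1) * ((t + 2) * t) + (b ^ 2 - a ^ 2) * t +
          (a - 1) * ((t + 2) * t + (a ^ 2 - 1) * t) + (b - a) * t
        ≤ ((t + 2) * ((t + 1) ^ 2 + 1)) * t + (a ^ 2 - 1) * ((t + 2) * t) + (b ^ 2 - a ^ 2) * t +
          (a - 1) * ((t + 2) * t + (a ^ 2 - 1) * t) + (b - a) * t := by omega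
      _ = _ := by ring
  have h3 := Nat.le_of_mul_le_mul_right h2 (by omega)
  refine h3.trans ?_
  have h4 : (t + 1) ^ 3 + 5 * (t + 1) ^ 2 = (t + 2) * ((t + 1) ^ 2 + 1) + (4 * t ^ 2 + 7 * t + 2) := by ring
  rw [h4, add_assoc, add_assoc, add_assoc]
  apply Nat.add_le_add_left
  have ha' : a = 1 ∨ a = 2 := by omega
  have hb' : b = 1 ∨ b = 2 ∨ b = 3 ∨ b = 4 := by omega
  rcases ha' with rfl | rfl <;> rcases hb' with rfl | rfl | rfl | rfl <;> norm_num <;> first | omega | nlinarith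

theorem dd_le {q n A B : ℕ} (hq : 2 ≤ q) (hA1 : 1 ≤ A) (hA : A ≤ n) (hAq : A ≤ q - 1) (hB : B = min (n / 2) (q - 1))
    (hn : n = 5 ∨ n = 6) : ((A ^ 2 - 1) + (A - 1) * B ^ 2) + 5 * q ≤ 4 * q ^ 2 := by
  have hB3 : B ≤ 3 := by
    rw [hB]
    refine (min_le_left _ _).trans ?_
    omega
  have hBq : B ≤ q - 1 := by rw [hB]; exact min_le_right _ _
  have hA6 : A ≤ 6 := by omega
  clear hB hn hA
  by_cases h6 : 6 ≤ q
  · have h1 : A ^ 2 - 1 ≤ 35 := by
      have := Nat.pow_le_pow_left hA6 2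
      omega
    have h2 : (A - 1) * B ^ 2 ≤ 5 * 3 ^ 2 := Nat.mul_le_mul (by omega) (Nat.pow_le_pow_left hB3 2)
    nlinarith
  · push Not at h6
    interval_cases q <;> interval_cases A <;> interval_cases B <;> omega

theorem dd_le' {q A B : ℕ} (hq : 2 ≤ q) (hA1 : 1 ≤ A) (hAq : A ≤ q - 1) (hBq : B ≤ q - 1) :
    ((A ^ 2 - 1) + (A - 1) * B ^ 2) + 5 * q ^ 2 ≤ 4 * q ^ 3 := by
  obtain ⟨t, rfl⟩ : ∃ t, q = t + 2 := ⟨q - 2, by omega⟩
  have h0 : t + 2 - 1 = t + 1 := by omega
  rw [h0] at hAq hBq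
  have h1 : A ^ 2 - 1 ≤ (t + 1) ^ 2 := (Nat.sub_le _ _).trans (Nat.pow_le_pow_left hAq 2)
  have h2 : (A - 1) * B ^ 2 ≤ t * (t + 1) ^ 2 := Nat.mul_le_mul (by omega) (Nat.pow_le_pow_left hBq 2)
  calc ((A ^ 2 - 1) + (A - 1) * B ^ 2) + 5 * (t + 2) ^ 2 ≤ ((t + 1) ^ 2 + t * (t + 1) ^ 2) + 5 * (t + 2) ^ 2 := by
        omega
    _ ≤ 4 * (t + 2) ^ 3 := by nlinarith [sq_nonneg t]

theorem arith_large {q k n D : ℕ} (hq : 2 ≤ q) (hn : 5 ≤ n)
    (hD : (n = 5 ∨ n = 6) ∧ D + 5 * q ≤ 4 * q ^ 2 ∨ 7 ≤ n ∧ D + 5 * q ^ 2 ≤ 4 * q ^ 3)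
    (h : k * (q - 1) + 1 ≤ q ^ n + D * q ^ (n / 2)) : k ≤ q ^ (n - 1) + 5 * q ^ (n - 2) := by
  set Q := q ^ (n - 2) with hQ
  have e1 : q ^ n = q ^ 2 * Q := by rw [hQ, ← pow_add]; congr 1; omega
  have e2 : q ^ (n - 1) = q * Q := by rw [hQ, ← pow_succ']; congr 1; omega
  rw [e2]
  rw [e1] at h
  have h1 : D * q ^ (n / 2) + 5 * Q ≤ 4 * q * Q := by
    rcases hD with ⟨hn', hD⟩ | ⟨hn', hD⟩
    · have e3 : Q = q * q ^ (n / 2) := by
        rw [hQ, ← pow_succ']
        congr 1
        omega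
      rw [e3]
      calc D * q ^ (n / 2) + 5 * (q * q ^ (n / 2)) = (D + 5 * q) * q ^ (n / 2) := by ring
        _ ≤ (4 * q ^ 2) * q ^ (n / 2) := Nat.mul_le_mul_right _ hD
        _ = _ := by ring
    · obtain ⟨j, hj⟩ : ∃ j, n - 2 = n / 2 + 2 + j := ⟨n - 2 - (n / 2 + 2), by omega⟩
      have e3 : Q = q ^ j * (q ^ 2 * q ^ (n / 2)) := by
        rw [hQ, hj]; ring
      have h5 : D * q ^ (n / 2) ≤ q ^ j * (D * q ^ (n / 2)) := Nat.le_mul_of_pos_left _ (by positivity)
      calc D * q ^ (n / 2) + 5 * Q ≤ q ^ j * (D * q ^ (n / 2)) + 5 * Q := by omega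
        _ = q ^ j * ((D + 5 * q ^ 2) * q ^ (n / 2)) := by rw [e3]; ring
        _ ≤ q ^ j * ((4 * q ^ 3) * q ^ (n / 2)) := Nat.mul_le_mul_left _ (Nat.mul_le_mul_right _ hD)
        _ = _ := by rw [e3]; ring
  obtain ⟨t, rfl⟩ : ∃ t, q = t + 2 := ⟨q - 2, by omega⟩
  have h0 : t + 2 - 1 = t + 1 := by omega
  rw [h0] at h
  have h4 : k * (t + 1) ≤ ((t + 2) * Q + 5 * Q) * (t + 1) := by
    have h5 : ((t + 2) * Q + 5 * Q) * (t + 1) + 5 * Q = (t + 2) ^ 2 * Q + 4 * (t + 2) * Q := by ring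
    omega
  exact Nat.le_of_mul_le_mul_right h4 (by omega)

/-- The number of conjugacy classes of PSL(n,q): for F a finite field with q elements, n ≥ 2 and d = gcd(n, q − 1), the number k of conjugacy classes of PSL(n,F) satisfies q^(n−1) ≤ d·k ≤ q^(n−1) + 5q^(n−2). -/
theorem result {F : Type*} [Field F] [Fintype F] (n : ℕ) (hn : 2 ≤ n) :
    Fintype.card F ^ (n - 1) ≤ Nat.gcd n (Fintype.card F - 1) * Nat.card (ConjClasses (Matrix.ProjectiveSpecialLinearGroup (Fin n) F)) ∧
      Nat.gcd n (Fintype.card F - 1) * Nat.card (ConjClasses (Matrix.ProjectiveSpecialLinearGroup (Fin n) F)) ≤ Fintype.card F ^ (n - 1) + 5 * Fintype.card F ^ (n - 2) := by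
  classical
  have hq : 2 ≤ Fintype.card F := Fintype.one_lt_card
  have hmul := card_psl_mul_le (F := F) (n := n) (by omega)
  constructor
  · have h1 := H151.CenClass.card_le_mul (G := Matrix.SpecialLinearGroup (Fin n) F)
    rw [S0280.card_center_SL (by omega : 1 ≤ n)] at h1
    refine le_trans ?_ h1
    obtain ⟨m, rfl⟩ : ∃ m, n = m + 1 := ⟨n - 1, by omega⟩
    rw [Nat.add_sub_cancel]
    exact (pow_lt_card m (by omega)).le
  · by_cases hn5 : 5 ≤ n
    · have h2 := total_large_le (F := F) (n := n) (by omega)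
      refine arith_large (D := ((aa F n).card ^ 2 - 1) + ((aa F n).card - 1) *
        (min (n / 2) (Fintype.card F - 1)) ^ 2) hq hn5 ?_ ((Nat.add_le_add_right hmul 1).trans h2)
      by_cases hn7 : 7 ≤ n
      · right
        exact ⟨hn7, dd_le' hq (one_le_card_aa n) (card_aa_le' n) (min_le_right _ _)⟩
      · left
        have hn' : n = 5 ∨ n = 6 := by omega
        exact ⟨hn', dd_le hq (one_le_card_aa n) (card_aa_le (by omega)) (card_aa_le' n) rfl hn'⟩
    · have hn' : n = 2 ∨ n = 3 ∨ n = 4 := by omega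
      rcases hn' with rfl | rfl | rfl
      · have hs := total_prime_le (F := F) Nat.prime_two
        rw [K_two_two _ (by omega)] at hs
        exact arith_two hq (one_le_card_aa (F := F) 2) (card_aa_le (by norm_num)) (hmul.trans hs)
      · have hs := total_prime_le (F := F) Nat.prime_three
        rw [K_three_three _ (by omega)] at hs
        exact arith_three hq (one_le_card_aa (F := F) 3) (card_aa_le (by norm_num)) (card_aa_le' 3) (hmul.trans hs)
      · exact arith_four hq (one_le_card_aa (F := F) 2) (card_aa_le (by norm_num)) (card_aa_le' 2)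
          (Finset.card_le_card (aa_mono (F := F) (by norm_num : 2 ∣ 4))) (card_aa_le (by norm_num)) (card_aa_le' 4)
          (K_add_one_le _ (by omega) (by norm_num)) (hmul.trans total_four_le)

end Cfsg.Agent.S2480
end
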