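import Cfsg.Statements.S0569
import Mathlib
import Cfsg.Agent.SolvableStructure.CarterSystem
import Cfsg.Agent.Lib.SolvableNormalP
import Cfsg.Agent.S0005
import Cfsg.Agent.S0045
import Cfsg.Agent.S0543
set_option linter.all false

set_option autoImplicit false
open Cfsg

namespace Cfsg.Agent.S0569

open Subgroup
open scoped Pointwise

/-- Conjugates of nilpotent subgroups are nilpotent. -/
theorem isNilpotent_map_conj {G : Type*} [Group G] {C : Subgroup G} (hC : Group.IsNilpotent C) (g : G) :
    Group.IsNilpotent (C.map (MulAut.conj g).toMonoidHom : Subgroup G) := by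
  have e : C ≃* (C.map (MulAut.conj g).toMonoidHom : Subgroup G) :=
    C.equivMapOfInjective _ (MulAut.conj g).injective
  exact (Group.isNilpotent_congr e).mp hC

/-- Conjugates of self-normalizing subgroups are self-normalizing. -/
theorem normalizer_map_conj {G : Type*} [Group G] {C : Subgroup G}
    (hC : normalizer (C : Set G) = C) (g : G) :
    normalizer ((C.map (MulAut.conj g).toMonoidHom : Subgroup G) : Set G)
      = C.map (MulAut.conj g).toMonoidHom := by
  conv_rhs => rw [← hC]
  exact (map_normalizer_eq_of_bijective C (f := (MulAut.conj g).toMonoidHom)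
    (MulAut.conj g).bijective).symm

/-- If `C` is a Carter subgroup and `L` is a normal subgroup then `C L` is self-normalizing. -/
theorem normalizer_sup_le {G : Type*} [Group G] [Finite G] [Group.IsSolvable G] {C : Subgroup G}
    (hC : Cfsg.IsCarterSubgroup C) (L : Subgroup G) [L.Normal] :
    normalizer ((C ⊔ L : Subgroup G) : Set G) ≤ C ⊔ L := by
  intro g hg
  set H : Subgroup G := C ⊔ L with hH
  have hCH : C ≤ H := le_sup_left
  have hDH : C.map (MulAut.conj g).toMonoidHom ≤ H := by
    rw [mem_normalizer_iff_map_conj_eq] at hg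
    calc C.map (MulAut.conj g).toMonoidHom ≤ H.map (MulAut.conj g).toMonoidHom := map_mono hCH
      _ = H := hg
  set D : Subgroup G := C.map (MulAut.conj g).toMonoidHom with hD
  have hDn : Group.IsNilpotent D := isNilpotent_map_conj hC.1 g
  have hDs : normalizer (D : Set G) = D := normalizer_map_conj hC.2 g
  have hsub : ∀ E : Subgroup G, E ≤ H → Group.IsNilpotent E → normalizer (E : Set G) = E →
      Group.IsNilpotent (E.subgroupOf H) ∧
        normalizer ((E.subgroupOf H : Subgroup H) : Set H) = E.subgroupOf H := by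
    intro E hE hn hs
    refine ⟨(Group.isNilpotent_congr (subgroupOfEquivOfLe hE)).mpr hn, ?_⟩
    rw [← subgroupOf_normalizer_eq hE, hs]
  obtain ⟨hC1, hC2⟩ := hsub C hCH hC.1 hC.2
  obtain ⟨hD1, hD2⟩ := hsub D hDH hDn hDs
  obtain ⟨x, hx⟩ := (Cfsg.Agent.S0045.result (G := H)).2 _ _ hC1 hC2 hD1 hD2
  -- translate to `G`
  have hx' : C.map (MulAut.conj (x : G)).toMonoidHom = D := by
    have h1 : ((MulAut.conj x • C.subgroupOf H : Subgroup H)).map H.subtype = D := by
      rw [hx, map_subgroupOf_eq_of_le hDH]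
    rw [← h1]
    ext y
    constructor
    · rintro ⟨c, hc, rfl⟩
      refine ⟨MulAut.conj x ⟨c, hCH hc⟩, ?_, ?_⟩
      · exact Subgroup.smul_mem_pointwise_smul _ _ _ (by simpa [mem_subgroupOf] using hc)
      · simp
    · rintro ⟨z, hz, rfl⟩
      obtain ⟨c, hc, rfl⟩ := hz
      refine ⟨(c : G), ?_, ?_⟩
      · simpa [mem_subgroupOf] using hc
      · simp
  have hgx : (x : G)⁻¹ * g ∈ normalizer (C : Set G) := by
    rw [mem_normalizer_iff_map_conj_eq]
    have : C.map (MulAut.conj ((x : G)⁻¹ * g)).toMonoidHom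
        = (C.map (MulAut.conj g).toMonoidHom).map (MulAut.conj ((x : G)⁻¹)).toMonoidHom := by
      rw [map_map]; congr 1; ext; simp [mul_assoc]
    have h2 : C = (C.map (MulAut.conj (x : G)).toMonoidHom).map
        (MulAut.conj ((x : G)⁻¹)).toMonoidHom := by
      rw [map_map]
      have : (MulAut.conj ((x : G)⁻¹)).toMonoidHom.comp (MulAut.conj (x : G)).toMonoidHom
          = MonoidHom.id G := by
        ext; simp [mul_assoc]
      rw [this, map_id]
    change C.map (MulAut.conj ((x : G)⁻¹ * g)).toMonoidHom = C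
    rw [this]
    conv_rhs => rw [h2]
    rw [hx']
  rw [hC.2] at hgx
  have : g = (x : G) * ((x : G)⁻¹ * g) := by group
  rw [this]
  exact H.mul_mem x.2 (hCH hgx)

/-- If a complement system `K` reduces into the Carter subgroup `C` then its system normalizer
is contained in `C`. -/
theorem systemNormalizer_le_of_reduces {G : Type*} [Group G] [Finite G] [Group.IsSolvable G]
    {C : Subgroup G} (hC : Cfsg.IsCarterSubgroup C) {K : Nat.Primes → Subgroup G}
    (hK : Cfsg.IsComplementSystem K)
    (hred : ∀ p : Nat.Primes, ∃ l : ℕ, (K p ⊓ C).relIndex C = (p : ℕ) ^ l) :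
    Cfsg.systemNormalizer K ≤ C := by
  have key : ∀ (n : ℕ) (L : Subgroup G), L.Normal → L.index ≤ n →
      Cfsg.systemNormalizer K ≤ C ⊔ L := by
    intro n
    induction n with
    | zero =>
      intro L hL h0
      exact absurd (Nat.le_zero.mp h0) index_ne_zero_of_finite
    | succ n ih =>
      intro L hL hn
      by_cases hLtop : L = ⊤
      · rw [hLtop]; simp
      have : Nontrivial (G ⧸ L) := QuotientGroup.nontrivial_iff.mpr hLtop
      obtain ⟨p, N, hp, hNn, hNp, -, hN⟩ :=
        Cfsg.Agent.Lib.SolvableNormalP.exists_normal_pSubgroup (G ⧸ L)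
      have : Fact p.Prime := ⟨hp⟩
      set M : Subgroup G := N.comap (QuotientGroup.mk' L) with hM
      have hLM : L ≤ M := by
        intro x hx
        rw [hM, mem_comap, QuotientGroup.mk'_apply, (QuotientGroup.eq_one_iff x).mpr hx]
        exact one_mem _
      have hML : ∃ k, L.relIndex M = p ^ k := by
        obtain ⟨k, hk⟩ := IsPGroup.iff_card.mp hNp
        refine ⟨k, ?_⟩
        rw [← hk]
        have h1 : L = (⊥ : Subgroup (G ⧸ L)).comap (QuotientGroup.mk' L) := by
          rw [MonoidHom.comap_bot, QuotientGroup.ker_mk']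
        conv_lhs => rw [h1, hM]
        rw [relIndex_comap, map_comap_eq_self_of_surjective (QuotientGroup.mk'_surjective L),
          relIndex_bot_left]
      obtain ⟨k, hk⟩ := hML
      have hMidx : M.index ≤ n := by
        have h1 : L < M := by
          refine lt_of_le_of_ne hLM ?_
          intro h
          apply hN
          have h2 : L.relIndex M = 1 := by rw [← h]; exact relIndex_self L
          have h3 : Nat.card N = 1 := by
            have h4 : L = (⊥ : Subgroup (G ⧸ L)).comap (QuotientGroup.mk' L) := by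
              rw [MonoidHom.comap_bot, QuotientGroup.ker_mk']
            rw [← h2]
            conv_rhs => rw [h4, hM]
            rw [relIndex_comap, map_comap_eq_self_of_surjective (QuotientGroup.mk'_surjective L),
              relIndex_bot_left]
          exact card_eq_one.mp h3
        have := index_strictAnti h1
        omega
      have hDM := ih M inferInstance hMidx
      -- apply the step
      obtain ⟨l, hl⟩ := hred ⟨p, hp⟩
      have hidx := hK ⟨p, hp⟩
      have hcop : (Nat.card (K ⟨p, hp⟩)).Coprime p := by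
        have h1 : Nat.card (K ⟨p, hp⟩) = Nat.card G / p ^ (Nat.card G).factorization p := by
          have := (K ⟨p, hp⟩).card_mul_index
          rw [hidx] at this
          exact (Nat.div_eq_of_eq_mul_left (pow_pos hp.pos _) this.symm).symm
        rw [h1]
        exact ((Nat.coprime_ordCompl hp Nat.card_pos.ne')).symm
      have hQn : C ≤ normalizer ((K ⟨p, hp⟩ ⊓ C : Subgroup G) : Set G) := by
        rw [← normal_subgroupOf_iff_le_normalizer inf_le_right]
        refine Cfsg.Agent.SolvableStructure.CarterSystem.normal_of_coprime_index_of_nilpotent hC.1 _ ?_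
        have h1 : Nat.card ((K ⟨p, hp⟩ ⊓ C).subgroupOf C) = Nat.card (K ⟨p, hp⟩ ⊓ C : Subgroup G) :=
          Nat.card_congr (subgroupOfEquivOfLe inf_le_right).toEquiv
        have h2 : ((K ⟨p, hp⟩ ⊓ C).subgroupOf C).index = p ^ l := hl
        rw [h1, h2]
        exact Nat.Coprime.pow_right l (Nat.Coprime.coprime_dvd_left (card_dvd_of_le inf_le_left) hcop)
      exact Cfsg.Agent.SolvableStructure.CarterSystem.step (p := p) C (K ⟨p, hp⟩) _ L M hLM hk hl
        hcop hQn (normalizer_sup_le hC L) (iInf_le _ _) hDM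
  have := key (⊥ : Subgroup G).index ⊥ inferInstance le_rfl
  rwa [sup_bot_eq] at this

/-- Some complement system reduces into a given subgroup. -/
theorem exists_reducing {G : Type*} [Group G] [Finite G] [Group.IsSolvable G] (C : Subgroup G) :
    ∃ K : Nat.Primes → Subgroup G, Cfsg.IsComplementSystem K ∧
      ∀ p : Nat.Primes, ∃ l : ℕ, (K p ⊓ C).relIndex C = (p : ℕ) ^ l := by
  have h : ∀ p : Nat.Primes, ∃ K : Subgroup G, K.index = (p : ℕ) ^ (Nat.card G).factorization p ∧
      ∃ l : ℕ, (K ⊓ C).relIndex C = (p : ℕ) ^ l := by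
    intro p
    have hp : (p : ℕ).Prime := p.2
    have hsplit : ∀ n : ℕ, n ≠ 0 →
        n = (n / (p : ℕ) ^ n.factorization p) * (p : ℕ) ^ n.factorization p ∧
        (n / (p : ℕ) ^ n.factorization p).Coprime ((p : ℕ) ^ n.factorization p) := by
      intro n hn
      refine ⟨(Nat.div_mul_cancel (Nat.ordProj_dvd n p)).symm, ?_⟩
      exact Nat.Coprime.pow_right _ (Nat.coprime_ordCompl hp hn).symm
    obtain ⟨hC1, hC2⟩ := hsplit (Nat.card C) Nat.card_pos.ne'
    obtain ⟨hG1, hG2⟩ := hsplit (Nat.card G) Nat.card_pos.ne'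
    obtain ⟨Q, hQ, -⟩ := Cfsg.Agent.S0005.result (G := C) _ _ hC1 hC2 ⊥ (by simp)
    have hQcard : Nat.card (Q.map C.subtype) = Nat.card Q :=
      card_map_of_injective C.subtype_injective
    have hQcop : (Nat.card (Q.map C.subtype)).Coprime ((p : ℕ) ^ (Nat.card G).factorization p) := by
      rw [hQcard, hQ]
      exact Nat.Coprime.pow_right _ (Nat.coprime_ordCompl hp Nat.card_pos.ne').symm
    obtain ⟨K, hK, hQK⟩ := Cfsg.Agent.S0005.result (G := G) _ _ hG1 hG2 (Q.map C.subtype) hQcop
    refine ⟨K, ?_, ?_⟩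
    · have h1 := K.card_mul_index
      rw [hK] at h1
      have h2 : (0 : ℕ) < Nat.card G / (p : ℕ) ^ (Nat.card G).factorization p := by
        rw [← hK]; exact Nat.card_pos
      exact Nat.eq_of_mul_eq_mul_left h2 (h1.trans hG1)
    · have h1 : Q.map C.subtype ≤ K ⊓ C := le_inf hQK (map_subtype_le Q)
      have h2 : (K ⊓ C).relIndex C ∣ (Q.map C.subtype).relIndex C := relIndex_dvd_of_le_left _ h1
      have h3 : (Q.map C.subtype).relIndex C = (p : ℕ) ^ (Nat.card C).factorization p := by
        have h4 : (Q.map C.subtype).relIndex C = Q.index := by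
          rw [relIndex, subgroupOf, comap_map_eq_self_of_injective C.subtype_injective]
        rw [h4]
        have h5 := Q.card_mul_index
        rw [hQ] at h5
        have h6 : (0 : ℕ) < Nat.card C / (p : ℕ) ^ (Nat.card C).factorization p := by
          rw [← hQ]; exact Nat.card_pos
        exact Nat.eq_of_mul_eq_mul_left h6 (h5.trans hC1)
      rw [h3] at h2
      obtain ⟨l, -, hl⟩ := (Nat.dvd_prime_pow hp).mp h2
      exact ⟨l, hl⟩
  choose K hK1 hK2 using h
  exact ⟨K, hK1, hK2⟩

/-- In a finite solvable group: each nilpotent self-normalizing subgroup contains the system normalizer of some Hall complement system, and the system normalizer of any Hall complement system lies in some nilpotent self-normalizing subgroup. -/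
theorem result {G : Type*} [Group G] [Finite G] [Group.IsSolvable G] : (∀ C : Subgroup G, Cfsg.IsCarterSubgroup C → ∃ K : Nat.Primes → Subgroup G, Cfsg.IsComplementSystem K ∧ Cfsg.systemNormalizer K ≤ C) ∧ ∀ K : Nat.Primes → Subgroup G, Cfsg.IsComplementSystem K → ∃ C : Subgroup G, Cfsg.IsCarterSubgroup C ∧ Cfsg.systemNormalizer K ≤ C := by
  have hA : ∀ C : Subgroup G, Cfsg.IsCarterSubgroup C → ∃ K : Nat.Primes → Subgroup G,
      Cfsg.IsComplementSystem K ∧ Cfsg.systemNormalizer K ≤ C := by
    intro C hC
    obtain ⟨K, hK, hred⟩ := exists_reducing C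
    exact ⟨K, hK, systemNormalizer_le_of_reduces hC hK hred⟩
  refine ⟨hA, ?_⟩
  intro K hK
  obtain ⟨C, hCn, hCs⟩ := (Cfsg.Agent.S0045.result (G := G)).1
  obtain ⟨L, hL, hLC⟩ := hA C ⟨hCn, hCs⟩
  obtain ⟨g, hg⟩ := Cfsg.Agent.S0543.result L K hL hK
  refine ⟨C.map (MulAut.conj g).toMonoidHom,
    ⟨isNilpotent_map_conj hCn g, normalizer_map_conj hCs g⟩, ?_⟩
  -- `systemNormalizer K = g (systemNormalizer L) g⁻¹`
  intro x hx
  have hx' : g⁻¹ * x * g ∈ Cfsg.systemNormalizer L := by
    rw [Cfsg.systemNormalizer, mem_iInf] at hx ⊢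
    intro p
    have h1 := hx p
    rw [← hg p, mem_normalizer_iff] at h1
    rw [mem_normalizer_iff]
    intro h
    have h2 := h1 (g * h * g⁻¹)
    have h3 : ∀ y : G, y ∈ MulAut.conj g • L p ↔ g⁻¹ * y * g ∈ L p := by
      intro y
      rw [mem_pointwise_smul_iff_inv_smul_mem, MulAut.smul_def, ← map_inv, MulAut.conj_apply, inv_inv]
    rw [h3, h3] at h2
    simpa [mul_assoc] using h2
  refine ⟨g⁻¹ * x * g, hLC hx', ?_⟩
  simp [mul_assoc]

end Cfsg.Agent.S0569
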