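import Cfsg.Statements.S0649
set_option linter.all false
-- import your own Cfsg.Agent.* helpers here

set_option autoImplicit false
open Cfsg

namespace Cfsg.Agent.S0649

/-- In a finite `p`-group `S` with a normal subgroup `B` and any subgroup `N`, if `B` is not
contained in `N`, then some element of `B` outside `N` normalizes `N`. -/
theorem exists_mem_normalizer_notMem {S : Type*} [Group S] [Finite S] {p : ℕ} [Fact p.Prime]
    (hS : IsPGroup p S) (B N : Subgroup S) [B.Normal] (hBN : ¬ B ≤ N) :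
    ∃ b ∈ B, b ∈ Subgroup.normalizer (N : Set S) ∧ b ∉ N := by
  have hK : IsPGroup p ↥(B ⊔ N) := hS.to_subgroup _
  haveI : Group.IsNilpotent ↥(B ⊔ N) := hK.isNilpotent
  have hnc : NormalizerCondition ↥(B ⊔ N) := Group.normalizerCondition_of_isNilpotent
  have hNK : N ≤ B ⊔ N := le_sup_right
  have hlt : N.subgroupOf (B ⊔ N) < ⊤ := by
    rw [lt_top_iff_ne_top, Ne, Subgroup.subgroupOf_eq_top]
    intro h
    exact hBN (le_trans le_sup_left h)
  have h2 := hnc _ hlt
  obtain ⟨g, hg1, hg2⟩ := SetLike.exists_of_lt h2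
  rw [← Subgroup.subgroupOf_normalizer_eq hNK, Subgroup.mem_subgroupOf] at hg1
  rw [Subgroup.mem_subgroupOf] at hg2
  obtain ⟨b, hb, n, hn, hbn⟩ := Subgroup.mem_sup_of_normal_left.1 g.2
  have hbeq : b = (g : S) * n⁻¹ := by rw [← hbn]; group
  refine ⟨b, hb, ?_, ?_⟩
  · rw [hbeq]
    exact mul_mem hg1 (inv_mem (Subgroup.le_normalizer hn))
  · intro hbN
    exact hg2 (by rw [← hbn]; exact mul_mem hbN hn)

/-- In the Glauberman replacement situation, if B does not normalize A then some element of B normalizes N_S(A) without normalizing A. -/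
theorem result {S : Type*} [Group S] [Finite S] {p : ℕ} [Fact p.Prime] (hS : IsPGroup p S) (B : Subgroup S) [B.Normal] (hB2 : p = 2 → IsMulCommutative B) (A : Subgroup S) (hA : IsMulCommutative A) (hBA : ⁅B, B⁆ ≤ A) (hnot : ¬ B ≤ Subgroup.normalizer (A : Set S)) : ∃ b ∈ B, b ∈ Subgroup.normalizer ((Subgroup.normalizer (A : Set S)) : Set S) ∧ b ∉ Subgroup.normalizer (A : Set S) :=
  exists_mem_normalizer_notMem hS B _ hnot

end Cfsg.Agent.S0649
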