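import Mathlib.GroupTheory.Sylow
import Mathlib.GroupTheory.Commutator.Basic
import Mathlib.GroupTheory.Subgroup.Centralizer
import Mathlib.GroupTheory.IsSubnormal
import Mathlib.GroupTheory.Exponent
import Mathlib.Tactic
import Cfsg.Agent.Transfer.ClassTwo
import Cfsg.Statements.S0650
set_option linter.all false

-- part: PLocal/GlaubermanRepl
section
/-!
# Glauberman replacement, element level

`A` is an abelian subgroup, `B` a normal subgroup with `⁅B, B⁆ ≤ A`, `c ∈ B`, and `A` and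
`A' = c A c⁻¹` normalise each other.
-/

set_option autoImplicit false

open scoped commutatorElement

namespace Cfsg.Agent.PLocal.GlaubermanRepl

variable {G : Type*} [Group G]

/-- The conjugate `c A c⁻¹`. -/
def cj (A : Subgroup G) (c : G) : Subgroup G := A.map (MulAut.conj c).toMonoidHom

theorem cj_def (A : Subgroup G) (c : G) : cj A c = A.map (MulAut.conj c).toMonoidHom := rfl

theorem mem_cj {A : Subgroup G} {c x : G} : x ∈ cj A c ↔ c⁻¹ * x * c ∈ A := by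
  rw [cj_def, Subgroup.mem_map]
  constructor
  · rintro ⟨a, ha, rfl⟩
    have : c⁻¹ * ((MulAut.conj c).toMonoidHom a) * c = a := by
      simp [MulAut.conj_apply, mul_assoc]
    rw [this]
    exact ha
  · intro h
    refine ⟨_, h, ?_⟩
    simp [MulAut.conj_apply, mul_assoc]

theorem conj_mem_cj {A : Subgroup G} {c a : G} (ha : a ∈ A) : c * a * c⁻¹ ∈ cj A c := by
  rw [mem_cj]
  have : c⁻¹ * (c * a * c⁻¹) * c = a := by group
  rwa [this]

theorem exists_of_mem_cj {A : Subgroup G} {c x : G} (hx : x ∈ cj A c) :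
    ∃ a ∈ A, x = c * a * c⁻¹ := ⟨_, mem_cj.1 hx, by group⟩

variable {A B : Subgroup G} {c : G}

/-- elements of `A` commute, so do elements of `cj A c`. -/
theorem cj_comm (hA : ∀ a ∈ A, ∀ d ∈ A, a * d = d * a) :
    ∀ x ∈ cj A c, ∀ y ∈ cj A c, x * y = y * x := by
  intro x hx y hy
  obtain ⟨a, ha, rfl⟩ := exists_of_mem_cj hx
  obtain ⟨d, hd, rfl⟩ := exists_of_mem_cj hy
  calc c * a * c⁻¹ * (c * d * c⁻¹) = c * (a * d) * c⁻¹ := by group
    _ = c * (d * a) * c⁻¹ := by rw [hA a ha d hd]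
    _ = c * d * c⁻¹ * (c * a * c⁻¹) := by group

theorem derived_le_cj [B.Normal] (hBA : ⁅B, B⁆ ≤ A) : ⁅B, B⁆ ≤ cj A c := by
  intro x hx
  rw [mem_cj]
  apply hBA
  have h := (Subgroup.commutator_normal B B).conj_mem x hx c⁻¹
  rwa [inv_inv] at h

/-- elements of `A ⊓ cj A c` commute with elements of `A` -/
theorem Z_comm_left (hA : ∀ a ∈ A, ∀ d ∈ A, a * d = d * a) :
    ∀ z ∈ A ⊓ cj A c, ∀ a ∈ A, z * a = a * z := fun z hz a ha => hA z hz.1 a ha

theorem Z_comm_right (hA : ∀ a ∈ A, ∀ d ∈ A, a * d = d * a) :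
    ∀ z ∈ A ⊓ cj A c, ∀ a ∈ cj A c, z * a = a * z := fun z hz a ha => cj_comm hA z hz.2 a ha

/-- `c` normalises `A ⊓ cj A c`. -/
theorem conj_mem_Z [B.Normal] (hBA : ⁅B, B⁆ ≤ A) (hc : c ∈ B) {z : G} (hz : z ∈ A ⊓ cj A c) :
    c * z * c⁻¹ ∈ A ⊓ cj A c := by
  refine ⟨?_, conj_mem_cj hz.1⟩
  have hz1 : z ∈ A := hz.1
  have hz2 : z ∈ cj A c := hz.2
  rw [mem_cj] at hz2
  change c * z * c⁻¹ ∈ A
  -- `e = c⁻¹ z c ∈ A`, `x = e * (c e c⁻¹)⁻¹ = e z⁻¹`
  set e := c⁻¹ * z * c with he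
  have hx : e * z⁻¹ ∈ B := by
    have h1 : e * z⁻¹ = c⁻¹ * (z * c * z⁻¹) := by rw [he]; group
    rw [h1]
    exact mul_mem (inv_mem hc) (Subgroup.Normal.conj_mem inferInstance c hc z)
  have h2 : ⁅c, e * z⁻¹⁆ ∈ A := hBA (Subgroup.commutator_mem_commutator hc hx)
  have h3 : ⁅c, e * z⁻¹⁆ = z * (c * z⁻¹ * c⁻¹) * z * e⁻¹ := by
    rw [commutatorElement_def, he]; group
  rw [h3] at h2
  have h4 : (c * z * c⁻¹)⁻¹ ∈ A := by
    have h5 : (c * z * c⁻¹)⁻¹ = z⁻¹ * (z * (c * z⁻¹ * c⁻¹) * z * e⁻¹) * (e * z⁻¹) := by group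
    rw [h5]
    exact mul_mem (mul_mem (inv_mem hz1) h2) (mul_mem hz2 (inv_mem hz1))
  exact inv_mem_iff.1 h4

theorem comm_mem_Z (hN1 : A ≤ Subgroup.normalizer (cj A c : Set G))
    (hN2 : cj A c ≤ Subgroup.normalizer (A : Set G)) {a y : G} (ha : a ∈ A) (hy : y ∈ cj A c) :
    ⁅a, y⁆ ∈ A ⊓ cj A c := by
  have h1 : a * y * a⁻¹ ∈ cj A c := (hN1 ha y).1 hy
  have h2 : y * a⁻¹ * y⁻¹ ∈ A := (hN2 hy a⁻¹).1 (inv_mem ha)
  refine ⟨?_, ?_⟩
  · have h3 : ⁅a, y⁆ = a * (y * a⁻¹ * y⁻¹) := by rw [commutatorElement_def]; group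
    change ⁅a, y⁆ ∈ A
    rw [h3]
    exact mul_mem ha h2
  · change ⁅a, y⁆ ∈ cj A c
    rw [commutatorElement_def]
    exact mul_mem h1 (inv_mem hy)

/-- If `f = ⁅a', d⁆` is central then `⁅a a'⁻¹, d d'⁻¹⁆ = f⁻¹ ⁅d', a⁆`. -/
theorem claim_one {a d a' d' f f₂ : G} (had : a * d = d * a) (had' : a' * d' = d' * a')
    (hf : f = ⁅a', d⁆) (hf₂ : f₂ = ⁅d', a⁆) (h1 : f * a = a * f) (h1' : f * a' = a' * f)
    (h2 : f₂ * a = a * f₂) (h3 : f₂ * a' = a' * f₂) (h4 : f₂ * d' = d' * f₂)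
    (h5 : f₂ * d = d * f₂) :
    ⁅a * a'⁻¹, d * d'⁻¹⁆ = f₂ * f⁻¹ := by
  have e1 : a'⁻¹ * d = f⁻¹ * d * a'⁻¹ := by
    have e : a' * d = f * d * a' := by rw [hf, commutatorElement_def]; group
    have e' : f⁻¹ * a' = a' * f⁻¹ := by
      calc f⁻¹ * a' = f⁻¹ * (a' * f) * f⁻¹ := by group
        _ = f⁻¹ * (f * a') * f⁻¹ := by rw [h1']
        _ = a' * f⁻¹ := by group
    calc a'⁻¹ * d = a'⁻¹ * f⁻¹ * (f * d * a') * a'⁻¹ := by group
      _ = a'⁻¹ * f⁻¹ * (a' * d) * a'⁻¹ := by rw [e]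
      _ = a'⁻¹ * (f⁻¹ * a') * d * a'⁻¹ := by group
      _ = a'⁻¹ * (a' * f⁻¹) * d * a'⁻¹ := by rw [e']
      _ = f⁻¹ * d * a'⁻¹ := by group
  have e2 : a⁻¹ * d' = f₂ * d' * a⁻¹ := by
    have e : d' * a = f₂ * a * d' := by rw [hf₂, commutatorElement_def]; group
    calc a⁻¹ * d' = a⁻¹ * (d' * a) * a⁻¹ := by group
      _ = a⁻¹ * (f₂ * a * d') * a⁻¹ := by rw [e]
      _ = a⁻¹ * (a * f₂ * d') * a⁻¹ := by rw [h2]
      _ = f₂ * d' * a⁻¹ := by group
  have e3 : f⁻¹ * a = a * f⁻¹ := by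
    calc f⁻¹ * a = f⁻¹ * (a * f) * f⁻¹ := by group
      _ = f⁻¹ * (f * a) * f⁻¹ := by rw [h1]
      _ = a * f⁻¹ := by group
  have e4 : a'⁻¹ * d'⁻¹ * a' = d'⁻¹ := by
    calc a'⁻¹ * d'⁻¹ * a' = (d' * a')⁻¹ * a' := by group
      _ = (a' * d')⁻¹ * a' := by rw [had']
      _ = d'⁻¹ := by group
  calc ⁅a * a'⁻¹, d * d'⁻¹⁆ = a * (a'⁻¹ * d) * d'⁻¹ * a' * (a⁻¹ * d') * d⁻¹ := by
        rw [commutatorElement_def]; group
    _ = a * (f⁻¹ * d * a'⁻¹) * d'⁻¹ * a' * (f₂ * d' * a⁻¹) * d⁻¹ := by rw [e1, e2]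
    _ = a * f⁻¹ * d * (a'⁻¹ * d'⁻¹ * a') * f₂ * d' * a⁻¹ * d⁻¹ := by group
    _ = (a * f⁻¹) * d * d'⁻¹ * (f₂ * d') * a⁻¹ * d⁻¹ := by rw [e4]; group
    _ = (f⁻¹ * a) * d * d'⁻¹ * (d' * f₂) * a⁻¹ * d⁻¹ := by rw [e3, h4]
    _ = f⁻¹ * a * (d * f₂) * a⁻¹ * d⁻¹ := by group
    _ = f⁻¹ * (a * f₂) * d * a⁻¹ * d⁻¹ := by rw [← h5]; group
    _ = f⁻¹ * (f₂ * a) * d * a⁻¹ * d⁻¹ := by rw [h2]
    _ = f⁻¹ * f₂ * (a * d) * a⁻¹ * d⁻¹ := by group
    _ = f⁻¹ * f₂ * (d * a) * a⁻¹ * d⁻¹ := by rw [had]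
    _ = f⁻¹ * f₂ := by group
    _ = f₂ * f⁻¹ := by
      have e5 : f₂ * f = f * f₂ := by
        have e6 : f = a' * d * a'⁻¹ * d⁻¹ := by rw [hf, commutatorElement_def]
        have e7 : f₂ * a'⁻¹ = a'⁻¹ * f₂ := by
          calc f₂ * a'⁻¹ = a'⁻¹ * (a' * f₂) * a'⁻¹ := by group
            _ = a'⁻¹ * (f₂ * a') * a'⁻¹ := by rw [h3]
            _ = a'⁻¹ * f₂ := by group
        have e8 : f₂ * d⁻¹ = d⁻¹ * f₂ := by
          calc f₂ * d⁻¹ = d⁻¹ * (d * f₂) * d⁻¹ := by group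
            _ = d⁻¹ * (f₂ * d) * d⁻¹ := by rw [h5]
            _ = d⁻¹ * f₂ := by group
        rw [e6]
        calc f₂ * (a' * d * a'⁻¹ * d⁻¹) = (f₂ * a') * d * a'⁻¹ * d⁻¹ := by group
          _ = a' * (f₂ * d) * a'⁻¹ * d⁻¹ := by rw [h3]; group
          _ = a' * d * (f₂ * a'⁻¹) * d⁻¹ := by rw [h5]; group
          _ = a' * d * a'⁻¹ * (f₂ * d⁻¹) := by rw [e7]; group
          _ = a' * d * a'⁻¹ * d⁻¹ * f₂ := by rw [e8]; group
      calc f⁻¹ * f₂ = f⁻¹ * (f₂ * f) * f⁻¹ := by group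
        _ = f⁻¹ * (f * f₂) * f⁻¹ := by rw [e5]
        _ = f₂ * f⁻¹ := by group

/-- `c ⁅a', d⁆ c⁻¹ = ⁅d', a⁆`. -/
theorem claim_two [B.Normal] (hA : ∀ a ∈ A, ∀ d ∈ A, a * d = d * a) (hBA : ⁅B, B⁆ ≤ A)
    (hc : c ∈ B) (hN1 : A ≤ Subgroup.normalizer (cj A c : Set G))
    (hN2 : cj A c ≤ Subgroup.normalizer (A : Set G)) {a d : G} (ha : a ∈ A) (hd : d ∈ A) :
    c * ⁅c * a * c⁻¹, d⁆ * c⁻¹ = ⁅c * d * c⁻¹, a⁆ := by
  obtain ⟨a', ha'⟩ : ∃ a', a' = c * a * c⁻¹ := ⟨_, rfl⟩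
  obtain ⟨d', hd'⟩ : ∃ d', d' = c * d * c⁻¹ := ⟨_, rfl⟩
  obtain ⟨a'', ha''⟩ : ∃ a'', a'' = c * a' * c⁻¹ := ⟨_, rfl⟩
  have ha'm : a' ∈ cj A c := by rw [ha']; exact conj_mem_cj ha
  have hd'm : d' ∈ cj A c := by rw [hd']; exact conj_mem_cj hd
  have hxB : a * a'⁻¹ ∈ B := by
    have h1 : a * a'⁻¹ = (a * c * a⁻¹) * c⁻¹ := by rw [ha']; group
    rw [h1]
    exact mul_mem (Subgroup.Normal.conj_mem inferInstance c hc a) (inv_mem hc)
  obtain ⟨β, hβ⟩ : ∃ β, β = ⁅c, a * a'⁻¹⁆ := ⟨_, rfl⟩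
  have hβ1 : β ∈ ⁅B, B⁆ := by rw [hβ]; exact Subgroup.commutator_mem_commutator hc hxB
  have hβZ : β ∈ A ⊓ cj A c := ⟨hBA hβ1, derived_le_cj hBA hβ1⟩
  have hβa : β * a = a * β := Z_comm_left hA β hβZ a ha
  have hβd' : β * d' = d' * β := Z_comm_right hA β hβZ d' hd'm
  have hβa' : β * a' = a' * β := Z_comm_right hA β hβZ a' ha'm
  have hβ2 : β = a' * a''⁻¹ * a' * a⁻¹ := by
    rw [hβ, commutatorElement_def, ha'', ha']; group
  obtain ⟨f₂, hf₂⟩ : ∃ f₂, f₂ = ⁅d', a⁆ := ⟨_, rfl⟩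
  have hf₂Z : f₂ ∈ A ⊓ cj A c := by
    rw [hf₂, ← commutatorElement_inv]
    exact inv_mem (comm_mem_Z hN1 hN2 ha hd'm)
  have hf₂a : f₂ * a = a * f₂ := Z_comm_left hA f₂ hf₂Z a ha
  have hf₂a' : f₂ * a' = a' * f₂ := Z_comm_right hA f₂ hf₂Z a' ha'm
  have ha'd' : a' * d' = d' * a' := cj_comm hA a' ha'm d' hd'm
  have e1 : a'' = a' * a⁻¹ * β⁻¹ * a' := by rw [hβ2]; group
  have e2 : c * ⁅a', d⁆ * c⁻¹ = a'' * d' * a''⁻¹ * d'⁻¹ := by
    rw [commutatorElement_def, ha'', hd']; group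
  have e3 : a⁻¹ * d' = f₂ * d' * a⁻¹ := by
    have e : d' * a = f₂ * a * d' := by rw [hf₂, commutatorElement_def]; group
    calc a⁻¹ * d' = a⁻¹ * (d' * a) * a⁻¹ := by group
      _ = a⁻¹ * (f₂ * a * d') * a⁻¹ := by rw [e]
      _ = a⁻¹ * (a * f₂ * d') * a⁻¹ := by rw [hf₂a]
      _ = f₂ * d' * a⁻¹ := by group
  rw [← ha', ← hd', ← hf₂, e2, e1]
  calc a' * a⁻¹ * β⁻¹ * a' * d' * (a' * a⁻¹ * β⁻¹ * a')⁻¹ * d'⁻¹
      = a' * a⁻¹ * β⁻¹ * (a' * d') * a'⁻¹ * β * a * a'⁻¹ * d'⁻¹ := by group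
    _ = a' * a⁻¹ * β⁻¹ * (d' * a') * a'⁻¹ * β * a * a'⁻¹ * d'⁻¹ := by rw [ha'd']
    _ = a' * a⁻¹ * β⁻¹ * (d' * β) * a * a'⁻¹ * d'⁻¹ := by group
    _ = a' * a⁻¹ * β⁻¹ * (β * d') * a * a'⁻¹ * d'⁻¹ := by rw [hβd']
    _ = a' * (a⁻¹ * d') * a * a'⁻¹ * d'⁻¹ := by group
    _ = a' * (f₂ * d' * a⁻¹) * a * a'⁻¹ * d'⁻¹ := by rw [e3]
    _ = (a' * f₂) * d' * a'⁻¹ * d'⁻¹ := by group
    _ = (f₂ * a') * d' * a'⁻¹ * d'⁻¹ := by rw [hf₂a']
    _ = f₂ * (a' * d') * a'⁻¹ * d'⁻¹ := by group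
    _ = f₂ * (d' * a') * a'⁻¹ * d'⁻¹ := by rw [ha'd']
    _ = f₂ := by group

/-- An element of odd order inverted by an element of odd order is trivial. -/
theorem eq_one_of_inverted {c g : G} (hc : Odd (orderOf c)) (hg : Odd (orderOf g))
    (h : c * g * c⁻¹ = g⁻¹) : g = 1 := by
  have h1 : c * g = g⁻¹ * c := by rw [← h]; group
  have h2 : Commute (c ^ 2) g := by
    change c ^ 2 * g = g * c ^ 2
    have h3 : c * g⁻¹ = g * c := by
      calc c * g⁻¹ = (c * g * c⁻¹)⁻¹ * c := by group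
        _ = (g⁻¹)⁻¹ * c := by rw [h]
        _ = g * c := by group
    calc c ^ 2 * g = c * (c * g) := by rw [pow_two, mul_assoc]
      _ = (c * g⁻¹) * c := by rw [h1]; group
      _ = (g * c) * c := by rw [h3]
      _ = g * c ^ 2 := by rw [pow_two, mul_assoc]
  obtain ⟨k, hk⟩ := hc
  have h4 : Commute (c ^ (2 * k)) g := by rw [pow_mul]; exact h2.pow_left k
  have h5 : c ^ (2 * k) = c⁻¹ := by
    have h6 : c ^ (2 * k + 1) = 1 := by rw [← hk]; exact pow_orderOf_eq_one c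
    rw [pow_succ] at h6
    exact eq_inv_of_mul_eq_one_left h6
  rw [h5] at h4
  have h6 : g = g⁻¹ := by
    rw [← h]
    have h7 : c⁻¹ * g = g * c⁻¹ := h4
    calc g = c * (c⁻¹ * g) := by group
      _ = c * (g * c⁻¹) := by rw [h7]
      _ = c * g * c⁻¹ := by group
  have h7 : g ^ 2 = 1 := by
    rw [pow_two]
    nth_rewrite 1 [h6]
    group
  have h8 : orderOf g ∣ 2 := orderOf_dvd_of_pow_eq_one h7
  have h9 : orderOf g = 1 := by
    have h10 := (Nat.dvd_prime Nat.prime_two).1 h8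
    rcases h10 with h10 | h10
    · exact h10
    · rw [h10] at hg
      exact absurd hg (by decide)
  exact orderOf_eq_one_iff.1 h9

/-- The elements `⁅a, c⁆` commute (odd order). -/
theorem comm_gens [B.Normal] (hA : ∀ a ∈ A, ∀ d ∈ A, a * d = d * a) (hBA : ⁅B, B⁆ ≤ A)
    (hc : c ∈ B) (hN1 : A ≤ Subgroup.normalizer (cj A c : Set G))
    (hN2 : cj A c ≤ Subgroup.normalizer (A : Set G))
    (hodd : ∀ g : G, Odd (orderOf g)) {a d : G} (ha : a ∈ A) (hd : d ∈ A) :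
    ⁅a, c⁆ * ⁅d, c⁆ = ⁅d, c⁆ * ⁅a, c⁆ := by
  have e1 : ⁅a, c⁆ = a * (c * a * c⁻¹)⁻¹ := by rw [commutatorElement_def]; group
  have e2 : ⁅d, c⁆ = d * (c * d * c⁻¹)⁻¹ := by rw [commutatorElement_def]; group
  have hf₂Z : ⁅c * d * c⁻¹, a⁆ ∈ A ⊓ cj A c := by
    rw [← commutatorElement_inv]
    exact inv_mem (comm_mem_Z hN1 hN2 ha (conj_mem_cj hd))
  have hfZ : ⁅c * a * c⁻¹, d⁆ ∈ A ⊓ cj A c := by
    rw [← commutatorElement_inv]
    exact inv_mem (comm_mem_Z hN1 hN2 hd (conj_mem_cj ha))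
  have h := claim_one (a := a) (d := d) (a' := c * a * c⁻¹) (d' := c * d * c⁻¹) (hA a ha d hd)
    (cj_comm hA _ (conj_mem_cj ha) _ (conj_mem_cj hd)) rfl rfl
    (Z_comm_left hA _ hfZ a ha) (Z_comm_right hA _ hfZ _ (conj_mem_cj ha))
    (Z_comm_left hA _ hf₂Z a ha) (Z_comm_right hA _ hf₂Z _ (conj_mem_cj ha))
    (Z_comm_right hA _ hf₂Z _ (conj_mem_cj hd)) (Z_comm_left hA _ hf₂Z d hd)
  rw [← e1, ← e2] at h
  have h2 : ⁅⁅a, c⁆, ⁅d, c⁆⁆ = 1 := by
    rw [h]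
    apply eq_one_of_inverted (hodd c) (hodd _)
    have k1 := claim_two hA hBA hc hN1 hN2 ha hd
    have k2 := claim_two hA hBA hc hN1 hN2 hd ha
    calc c * (⁅c * d * c⁻¹, a⁆ * ⁅c * a * c⁻¹, d⁆⁻¹) * c⁻¹
        = (c * ⁅c * d * c⁻¹, a⁆ * c⁻¹) * (c * ⁅c * a * c⁻¹, d⁆ * c⁻¹)⁻¹ := by group
      _ = ⁅c * a * c⁻¹, d⁆ * ⁅c * d * c⁻¹, a⁆⁻¹ := by rw [k1, k2]
      _ = (⁅c * d * c⁻¹, a⁆ * ⁅c * a * c⁻¹, d⁆⁻¹)⁻¹ := by group
  exact commutatorElement_eq_one_iff_mul_comm.1 h2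

/-- The commutator subgroup `⟨⁅a, c⁆ : a ∈ A⟩`. -/
def dd (A : Subgroup G) (c : G) : Subgroup G := Subgroup.closure {g : G | ∃ a ∈ A, g = ⁅a, c⁆}

theorem dd_def (A : Subgroup G) (c : G) :
    dd A c = Subgroup.closure {g : G | ∃ a ∈ A, g = ⁅a, c⁆} := rfl

/-- The replacement `A* = (A ∩ A') ⟨⁅a, c⁆ : a ∈ A⟩`. -/
def star (A : Subgroup G) (c : G) : Subgroup G := (A ⊓ cj A c) ⊔ dd A c

theorem star_def (A : Subgroup G) (c : G) : star A c = (A ⊓ cj A c) ⊔ dd A c := rfl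

theorem comm_mem_dd {a : G} (ha : a ∈ A) : ⁅a, c⁆ ∈ dd A c :=
  Subgroup.subset_closure ⟨a, ha, rfl⟩

theorem comm_mem_star {a : G} (ha : a ∈ A) : ⁅a, c⁆ ∈ star A c :=
  Subgroup.mem_sup_right (comm_mem_dd ha)

theorem Z_le_star : A ⊓ cj A c ≤ star A c := le_sup_left

theorem dd_le (H : Subgroup G) (h : ∀ a ∈ A, ⁅a, c⁆ ∈ H) : dd A c ≤ H := by
  rw [dd_def, Subgroup.closure_le]
  rintro g ⟨a, ha, rfl⟩
  exact h a ha

theorem star_le (H : Subgroup G) (h1 : A ⊓ cj A c ≤ H) (h : ∀ a ∈ A, ⁅a, c⁆ ∈ H) :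
    star A c ≤ H := sup_le h1 (dd_le H h)

theorem comm_eq (a c : G) : ⁅a, c⁆ = a * (c * a * c⁻¹)⁻¹ := by
  rw [commutatorElement_def]; group

theorem star_le_sup : star A c ≤ A ⊔ cj A c := by
  apply star_le
  · exact inf_le_left.trans le_sup_left
  · intro a ha
    rw [comm_eq]
    exact mul_mem (Subgroup.mem_sup_left ha) (Subgroup.mem_sup_right (inv_mem (conj_mem_cj ha)))

theorem dd_le_B [B.Normal] (hc : c ∈ B) : dd A c ≤ B := by
  apply dd_le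
  intro a _
  rw [commutatorElement_def]
  exact mul_mem (Subgroup.Normal.conj_mem inferInstance c hc a) (inv_mem hc)

theorem derived_le_star [B.Normal] (hBA : ⁅B, B⁆ ≤ A) : ⁅B, B⁆ ≤ star A c :=
  (le_inf hBA (derived_le_cj hBA)).trans Z_le_star

theorem star_comm (hA : ∀ a ∈ A, ∀ d ∈ A, a * d = d * a)
    (hD : ∀ a ∈ A, ∀ d ∈ A, ⁅a, c⁆ * ⁅d, c⁆ = ⁅d, c⁆ * ⁅a, c⁆) :
    ∀ x ∈ star A c, ∀ y ∈ star A c, x * y = y * x := by
  have hZx : ∀ z ∈ A ⊓ cj A c, ∀ a ∈ A, z * ⁅a, c⁆ = ⁅a, c⁆ * z := by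
    intro z hz a ha
    have h1 : Commute z a := Z_comm_left hA z hz a ha
    have h2 : Commute z (c * a * c⁻¹) := Z_comm_right hA z hz _ (conj_mem_cj ha)
    rw [comm_eq]
    exact h1.mul_right h2.inv_right
  have key : star A c ≤ Subgroup.centralizer (star A c : Set G) := by
    have h1 : ∀ (H : Subgroup G), star A c ≤ H ↔ (A ⊓ cj A c ≤ H ∧ ∀ a ∈ A, ⁅a, c⁆ ∈ H) :=
      fun H => ⟨fun h => ⟨Z_le_star.trans h, fun a ha => h (comm_mem_star ha)⟩,
        fun h => star_le H h.1 h.2⟩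
    -- elements commuting with the generators commute with star
    have h2 : ∀ g : G, (∀ z ∈ A ⊓ cj A c, z * g = g * z) → (∀ a ∈ A, ⁅a, c⁆ * g = g * ⁅a, c⁆) →
        g ∈ Subgroup.centralizer (star A c : Set G) := by
      intro g hg1 hg2
      rw [Subgroup.mem_centralizer_iff]
      have h3 : star A c ≤ Subgroup.centralizer ({g} : Set G) := by
        rw [h1]
        constructor
        · intro z hz
          rw [Subgroup.mem_centralizer_singleton_iff]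
          exact hg1 z hz
        · intro a ha
          rw [Subgroup.mem_centralizer_singleton_iff]
          exact hg2 a ha
      intro x hx
      exact Subgroup.mem_centralizer_singleton_iff.1 (h3 hx)
    rw [h1]
    constructor
    · intro z hz
      apply h2
      · intro w hw
        exact Z_comm_left hA w hw z hz.1
      · intro a ha
        exact (hZx z hz a ha).symm
    · intro a ha
      apply h2
      · intro z hz
        exact hZx z hz a ha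
      · intro d hd
        exact hD d hd a ha
  intro x hx y hy
  exact (Subgroup.mem_centralizer_iff.1 (key hx) y hy).symm

/-- `A ∩ B ≤ A ∩ A'`. -/
theorem inf_le_Z [B.Normal] (hBA : ⁅B, B⁆ ≤ A) (hc : c ∈ B) : A ⊓ B ≤ A ⊓ cj A c := by
  intro x hx
  have hx1 : x ∈ A := hx.1
  have hx2 : x ∈ B := hx.2
  refine ⟨hx1, ?_⟩
  change x ∈ cj A c
  rw [mem_cj]
  have h1 : c⁻¹ * x * c = ⁅c⁻¹, x⁆ * x := by rw [commutatorElement_def]; group
  rw [h1]
  exact mul_mem (hBA (Subgroup.commutator_mem_commutator (inv_mem hc) hx2)) hx1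

/-- `c` normalises `star A c` -/
theorem c_conj_star [B.Normal] (hBA : ⁅B, B⁆ ≤ A) (hc : c ∈ B) :
    ∀ x ∈ star A c, c * x * c⁻¹ ∈ star A c := by
  have h : star A c ≤ (star A c).comap (MulAut.conj c).toMonoidHom := by
    apply star_le
    · intro z hz
      rw [Subgroup.mem_comap]
      change c * z * c⁻¹ ∈ star A c
      exact Z_le_star (conj_mem_Z hBA hc hz)
    · intro a ha
      rw [Subgroup.mem_comap]
      change c * ⁅a, c⁆ * c⁻¹ ∈ star A c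
      have h1 : c * ⁅a, c⁆ * c⁻¹ = ⁅c, ⁅a, c⁆⁆ * ⁅a, c⁆ := by
        rw [commutatorElement_def c ⁅a, c⁆]; group
      rw [h1]
      exact mul_mem (derived_le_star hBA (Subgroup.commutator_mem_commutator hc
        (dd_le_B hc (comm_mem_dd ha)))) (comm_mem_star ha)
  intro x hx
  exact h hx

/-- anything normalising `A`, `N`-conjugation: if `n` normalises `A` and `A'` then `n` normalises
`star A c`, provided `c⁻¹ * n * c * n⁻¹` normalises `A`. -/
theorem conj_star [B.Normal] (hBA : ⁅B, B⁆ ≤ A) (hc : c ∈ B) {n : G}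
    (hn : n ∈ Subgroup.normalizer (A : Set G)) (hn' : n ∈ Subgroup.normalizer (cj A c : Set G))
    (hm : ⁅c⁻¹, n⁆ ∈ Subgroup.normalizer (A : Set G)) :
    ∀ x ∈ star A c, n * x * n⁻¹ ∈ star A c := by
  have h : star A c ≤ (star A c).comap (MulAut.conj n).toMonoidHom := by
    apply star_le
    · intro z hz
      rw [Subgroup.mem_comap]
      change n * z * n⁻¹ ∈ star A c
      apply Z_le_star
      exact ⟨(hn z).1 hz.1, (hn' z).1 hz.2⟩
    · intro a ha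
      rw [Subgroup.mem_comap]
      change n * ⁅a, c⁆ * n⁻¹ ∈ star A c
      obtain ⟨e, he⟩ : ∃ e, e = n * a * n⁻¹ := ⟨_, rfl⟩
      obtain ⟨m, hmm⟩ : ∃ m, m = ⁅c⁻¹, n⁆ := ⟨_, rfl⟩
      have heA : e ∈ A := by rw [he]; exact (hn a).1 ha
      have hmB : m ∈ B := by
        rw [hmm, commutatorElement_def]
        have h1 : c⁻¹ * n * c⁻¹⁻¹ * n⁻¹ = c⁻¹ * (n * c * n⁻¹) := by group
        rw [h1]
        exact mul_mem (inv_mem hc) (Subgroup.Normal.conj_mem inferInstance c hc n)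
      rw [← hmm] at hm
      -- `n c n⁻¹ = c m`
      have h1 : n * ⁅a, c⁆ * n⁻¹ = ⁅e, c * m⁆ := by
        rw [hmm, he, commutatorElement_def, commutatorElement_def, commutatorElement_def]; group
      have h2 : ⁅e, c * m⁆ = ⁅e, c⁆ * (c * ⁅e, m⁆ * c⁻¹) := by
        rw [commutatorElement_def, commutatorElement_def, commutatorElement_def]; group
      rw [h1, h2]
      refine mul_mem (comm_mem_star heA) ?_
      apply Z_le_star
      apply conj_mem_Z hBA hc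
      apply inf_le_Z hBA hc
      have h3 : ⁅e, m⁆ = e * (m * e⁻¹ * m⁻¹) := by rw [commutatorElement_def]; group
      refine ⟨?_, ?_⟩
      · change ⁅e, m⁆ ∈ A
        rw [h3]
        exact mul_mem heA ((hm e⁻¹).1 (inv_mem heA))
      · change ⁅e, m⁆ ∈ B
        rw [commutatorElement_def]
        exact mul_mem (Subgroup.Normal.conj_mem inferInstance m hmB e) (inv_mem hmB)
  intro x hx
  exact h hx

/-- the multiplicativity of `a ↦ ⁅a, c⁆` modulo `Z` -/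
theorem comm_mul (hA : ∀ a ∈ A, ∀ d ∈ A, a * d = d * a)
    (hN1 : A ≤ Subgroup.normalizer (cj A c : Set G))
    (hN2 : cj A c ≤ Subgroup.normalizer (A : Set G)) {a d : G} (ha : a ∈ A) (hd : d ∈ A) :
    ∃ z ∈ A ⊓ cj A c, ⁅a * d, c⁆ = z * (⁅d, c⁆ * ⁅a, c⁆) := by
  refine ⟨⁅a, ⁅d, c⁆⁆, ?_, ?_⟩
  · have h1 : ⁅a, ⁅d, c⁆⁆ = d * ⁅a, (c * d * c⁻¹)⁻¹⁆ * d⁻¹ := by
      rw [comm_eq d c]
      obtain ⟨y, hy⟩ : ∃ y, y = (c * d * c⁻¹)⁻¹ := ⟨_, rfl⟩
      rw [← hy, commutatorElement_def, commutatorElement_def]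
      have h2 : a * d = d * a := hA a ha d hd
      calc a * (d * y) * a⁻¹ * (d * y)⁻¹ = (a * d) * y * a⁻¹ * (d * y)⁻¹ := by group
        _ = (d * a) * y * a⁻¹ * (d * y)⁻¹ := by rw [h2]
        _ = d * (a * y * a⁻¹ * y⁻¹) * d⁻¹ := by group
    have h3 : ⁅a, (c * d * c⁻¹)⁻¹⁆ ∈ A ⊓ cj A c :=
      comm_mem_Z hN1 hN2 ha (inv_mem (conj_mem_cj hd))
    have h4 := Z_comm_left hA _ h3 d hd
    rw [h1, ← h4]
    have h5 : ⁅a, (c * d * c⁻¹)⁻¹⁆ * d * d⁻¹ = ⁅a, (c * d * c⁻¹)⁻¹⁆ := by group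
    rw [h5]
    exact h3
  · rw [commutatorElement_def a ⁅d, c⁆, commutatorElement_def (a * d) c,
      commutatorElement_def d c, commutatorElement_def a c]
    group

theorem comm_mem_Z_iff [B.Normal] (hBA : ⁅B, B⁆ ≤ A) (hc : c ∈ B) {a : G} (ha : a ∈ A) :
    ⁅a, c⁆ ∈ A ⊓ cj A c ↔ a ∈ A ⊓ cj A c := by
  constructor
  · intro h
    refine ⟨ha, ?_⟩
    have h1 : ⁅a, c⁆ ∈ cj A c := h.2
    change a ∈ cj A c
    have h2 : a = ⁅a, c⁆ * (c * a * c⁻¹) := by rw [commutatorElement_def]; group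
    rw [h2]
    exact mul_mem h1 (conj_mem_cj ha)
  · intro h
    rw [comm_eq]
    exact mul_mem h (inv_mem (conj_mem_Z hBA hc h))

/-- The replacement has the same order. -/
theorem card_star [Finite G] [B.Normal] (hA : ∀ a ∈ A, ∀ d ∈ A, a * d = d * a)
    (hBA : ⁅B, B⁆ ≤ A) (hc : c ∈ B) (hN1 : A ≤ Subgroup.normalizer (cj A c : Set G))
    (hN2 : cj A c ≤ Subgroup.normalizer (A : Set G))
    (hS : ∀ x ∈ star A c, ∀ y ∈ star A c, x * y = y * x) :
    Nat.card (star A c) = Nat.card A := by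
  have hnorm : ((A ⊓ cj A c).subgroupOf (star A c)).Normal := by
    constructor
    intro n hn g
    rw [Subgroup.mem_subgroupOf] at hn ⊢
    have h1 : ((g * n * g⁻¹ : star A c) : G) = n := by
      push_cast
      rw [hS g g.2 n n.2]; group
    rw [h1]
    exact hn
  let φ : A →* (star A c) ⧸ ((A ⊓ cj A c).subgroupOf (star A c)) :=
    { toFun := fun a => QuotientGroup.mk ⟨⁅(a : G), c⁆, comm_mem_star a.2⟩
      map_one' := by
        rw [QuotientGroup.eq_one_iff, Subgroup.mem_subgroupOf]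
        change ⁅((1 : A) : G), c⁆ ∈ A ⊓ cj A c
        rw [Subgroup.coe_one, commutatorElement_one_left]
        exact one_mem _
      map_mul' := by
        intro a d
        rw [← QuotientGroup.mk_mul, QuotientGroup.eq, Subgroup.mem_subgroupOf]
        obtain ⟨z, hz, hzz⟩ := comm_mul (c := c) hA hN1 hN2 a.2 d.2
        change ⁅((a * d : A) : G), c⁆⁻¹ * (⁅(a : G), c⁆ * ⁅(d : G), c⁆) ∈ A ⊓ cj A c
        rw [Subgroup.coe_mul, hzz]
        have h1 := hS _ (comm_mem_star (c := c) a.2) _ (comm_mem_star (c := c) d.2)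
        rw [h1]
        have h2 := hS z (Z_le_star hz) _ (mul_mem (comm_mem_star (c := c) d.2)
          (comm_mem_star (c := c) a.2))
        rw [h2]
        have h3 : (⁅(d : G), c⁆ * ⁅(a : G), c⁆ * z)⁻¹ * (⁅(d : G), c⁆ * ⁅(a : G), c⁆) = z⁻¹ := by
          group
        rw [h3]
        exact inv_mem hz }
  have hsurj : Function.Surjective φ := by
    rw [← MonoidHom.range_eq_top]
    have h1 : star A c ≤ (φ.range.comap (QuotientGroup.mk'
        ((A ⊓ cj A c).subgroupOf (star A c)))).map (star A c).subtype := by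
      apply star_le
      · intro z hz
        refine ⟨⟨z, Z_le_star hz⟩, ?_, rfl⟩
        change QuotientGroup.mk' _ ⟨z, Z_le_star hz⟩ ∈ φ.range
        have h2 : QuotientGroup.mk' ((A ⊓ cj A c).subgroupOf (star A c)) ⟨z, Z_le_star hz⟩ = 1 := by
          rw [QuotientGroup.mk'_apply, QuotientGroup.eq_one_iff, Subgroup.mem_subgroupOf]
          exact hz
        rw [h2]
        exact one_mem _
      · intro a ha
        refine ⟨⟨⁅a, c⁆, comm_mem_star ha⟩, ?_, rfl⟩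
        change QuotientGroup.mk' _ ⟨⁅a, c⁆, comm_mem_star ha⟩ ∈ φ.range
        exact ⟨⟨a, ha⟩, rfl⟩
    rw [eq_top_iff]
    rintro q -
    obtain ⟨x, rfl⟩ := QuotientGroup.mk'_surjective _ q
    obtain ⟨y, hy, hyx⟩ := h1 x.2
    have : y = x := Subtype.ext hyx
    rw [← this]
    exact hy
  have hker : φ.ker = (A ⊓ cj A c).subgroupOf A := by
    ext a
    rw [MonoidHom.mem_ker, Subgroup.mem_subgroupOf]
    change QuotientGroup.mk (⟨⁅(a : G), c⁆, comm_mem_star a.2⟩ : star A c) = 1 ↔ _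
    rw [QuotientGroup.eq_one_iff, Subgroup.mem_subgroupOf]
    exact comm_mem_Z_iff hBA hc a.2
  have h1 : Nat.card ((star A c) ⧸ ((A ⊓ cj A c).subgroupOf (star A c))) =
      Nat.card (A ⧸ ((A ⊓ cj A c).subgroupOf A)) := by
    rw [← hker]
    exact (Nat.card_congr (QuotientGroup.quotientKerEquivOfSurjective φ hsurj).toEquiv).symm
  have h2 : Nat.card ((A ⊓ cj A c).subgroupOf (star A c)) = Nat.card ((A ⊓ cj A c).subgroupOf A) := by
    rw [Nat.card_congr (Subgroup.subgroupOfEquivOfLe (Z_le_star (A := A) (c := c))).toEquiv,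
      Nat.card_congr (Subgroup.subgroupOfEquivOfLe (inf_le_left : A ⊓ cj A c ≤ A)).toEquiv]
  rw [Subgroup.card_eq_card_quotient_mul_card_subgroup ((A ⊓ cj A c).subgroupOf (star A c)),
    Subgroup.card_eq_card_quotient_mul_card_subgroup ((A ⊓ cj A c).subgroupOf A), h1, h2]

/-- Exponents: if `a ^ e = 1` on `A`, `e` odd, then `x ^ e = 1` on `star A c`. -/
theorem pow_star (hA : ∀ a ∈ A, ∀ d ∈ A, a * d = d * a)
    (hN1 : A ≤ Subgroup.normalizer (cj A c : Set G))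
    (hN2 : cj A c ≤ Subgroup.normalizer (A : Set G))
    (hS : ∀ x ∈ star A c, ∀ y ∈ star A c, x * y = y * x) {e : ℕ} (he : Odd e)
    (hAe : ∀ a ∈ A, a ^ e = 1) : ∀ x ∈ star A c, x ^ e = 1 := by
  let K : Subgroup G :=
    { carrier := {x | x ∈ star A c ∧ x ^ e = 1}
      one_mem' := ⟨one_mem _, one_pow _⟩
      mul_mem' := by
        rintro x y ⟨hx, hx2⟩ ⟨hy, hy2⟩
        refine ⟨mul_mem hx hy, ?_⟩
        have h : Commute x y := hS x hx y hy
        rw [h.mul_pow, hx2, hy2, one_mul]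
      inv_mem' := by
        rintro x ⟨hx, hx2⟩
        refine ⟨inv_mem hx, ?_⟩
        rw [inv_pow, hx2, inv_one] }
  have hK : star A c ≤ K := by
    apply star_le
    · intro z hz
      exact ⟨Z_le_star hz, hAe z hz.1⟩
    · intro a ha
      refine ⟨comm_mem_star ha, ?_⟩
      rw [comm_eq]
      have hy : (c * a * c⁻¹)⁻¹ ∈ cj A c := inv_mem (conj_mem_cj ha)
      obtain ⟨y, hyy⟩ : ∃ y, y = (c * a * c⁻¹)⁻¹ := ⟨_, rfl⟩
      rw [← hyy] at hy ⊢
      have hye : y ^ e = 1 := by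
        rw [hyy, inv_pow, conj_pow, hAe a ha]; group
      have hz : ⁅y, a⁆ ∈ A ⊓ cj A c := by
        rw [← commutatorElement_inv]
        exact inv_mem (comm_mem_Z hN1 hN2 ha hy)
      have h1 : Commute a ⁅y, a⁆ := (Z_comm_left hA _ hz a ha).symm
      have h2 : Commute y ⁅y, a⁆ := (Z_comm_right hA _ hz y hy).symm
      rw [Cfsg.Agent.Transfer.ClassTwo.mul_pow_eq h1 h2 e, hAe a ha, hye, one_mul, one_mul]
      obtain ⟨k, hk⟩ := he
      have h3 : e.choose 2 = e * k := by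
        rw [Nat.choose_two_right, hk]
        have : (2 * k + 1) * (2 * k + 1 - 1) = 2 * ((2 * k + 1) * k) := by
          rw [Nat.add_sub_cancel]; ring
        rw [this, Nat.mul_div_cancel_left _ (by norm_num)]
      rw [h3, pow_mul, hAe _ hz.1, one_pow]
  intro x hx
  exact (hK hx).2

end Cfsg.Agent.PLocal.GlaubermanRepl
end

-- part: S0650
section
set_option autoImplicit false
open Cfsg

namespace Cfsg.Agent.S0650

open Cfsg.Agent.PLocal.GlaubermanRepl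

open scoped commutatorElement

theorem star_eq {S : Type*} [Group S] (A : Subgroup S) (b : S) :
    ((A ⊓ A.map (MulAut.conj (b⁻¹)).toMonoidHom) ⊔
      Subgroup.closure {g : S | ∃ a ∈ A, g = a * b⁻¹ * a⁻¹ * b}) = star A b⁻¹ := by
  have h : {g : S | ∃ a ∈ A, g = a * b⁻¹ * a⁻¹ * b} = {g : S | ∃ a ∈ A, g = ⁅a, b⁻¹⁆} := by
    ext g
    simp only [Set.mem_ofPred_eq, commutatorElement_def, inv_inv]
  rw [h, star_def, cj_def, dd_def]

theorem main {S : Type*} [Group S] [Finite S] {p : ℕ} [Fact p.Prime] (hS : IsPGroup p S)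
    (B : Subgroup S) [B.Normal] (hB2 : p = 2 → IsMulCommutative B) (A : Subgroup S)
    (hA : IsMulCommutative A) (hBA : ⁅B, B⁆ ≤ A) (b : S) (hb : b ∈ B)
    (hbN : b ∈ Subgroup.normalizer ((Subgroup.normalizer (A : Set S)) : Set S))
    (hbA : b ∉ Subgroup.normalizer (A : Set S)) :
    Nat.card ↥(star A b⁻¹) = Nat.card A ∧ IsMulCommutative ↥(star A b⁻¹) ∧
      ⁅B, B⁆ ≤ star A b⁻¹ ∧ A ⊓ B < star A b⁻¹ ⊓ B ∧ star A b⁻¹ ⊓ B < B ∧
      A ≤ Subgroup.normalizer (star A b⁻¹ : Set S) ∧ star A b⁻¹ ≤ Subgroup.normalizer (A : Set S) ∧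
      b ∈ Subgroup.normalizer (star A b⁻¹ : Set S) ∧
      Subgroup.normalizer (A : Set S) < Subgroup.normalizer (star A b⁻¹ : Set S) ∧
      (p ≠ 2 → Monoid.exponent ↥(star A b⁻¹) ∣ Monoid.exponent A) := by
  obtain ⟨c, hc⟩ : ∃ c, c = b⁻¹ := ⟨_, rfl⟩
  rw [← hc]
  have hcB : c ∈ B := by rw [hc]; exact inv_mem hb
  have hcN : c ∈ Subgroup.normalizer ((Subgroup.normalizer (A : Set S)) : Set S) := by
    rw [hc]; exact inv_mem hbN
  have hcA : c ∉ Subgroup.normalizer (A : Set S) := by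
    rw [hc]; exact fun h => hbA (inv_mem_iff.1 h)
  have hAc : ∀ a ∈ A, ∀ d ∈ A, a * d = d * a := by
    intro a ha d hd
    exact congrArg Subtype.val (hA.is_comm.comm (⟨a, ha⟩ : A) ⟨d, hd⟩)
  -- `N` normalises `cj A c`
  have hNcj : Subgroup.normalizer (A : Set S) ≤ Subgroup.normalizer (cj A c : Set S) := by
    intro n hn
    have h1 : c⁻¹ * n * c ∈ Subgroup.normalizer (A : Set S) := by
      have h := ((inv_mem hcN) n).1 hn
      rwa [inv_inv] at h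
    rw [Subgroup.mem_normalizer_iff]
    intro h
    rw [mem_cj, mem_cj]
    have h2 : c⁻¹ * (n * h * n⁻¹) * c = (c⁻¹ * n * c) * (c⁻¹ * h * c) * (c⁻¹ * n * c)⁻¹ := by
      group
    rw [h2]
    exact h1 _
  have hcjN : cj A c ≤ Subgroup.normalizer (A : Set S) := by
    intro x hx
    obtain ⟨a, ha, rfl⟩ := exists_of_mem_cj hx
    exact (hcN a).1 (Subgroup.le_normalizer ha)
  have hN1 : A ≤ Subgroup.normalizer (cj A c : Set S) := Subgroup.le_normalizer.trans hNcj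
  -- commuting generators
  have hgen : ∀ a ∈ A, ∀ d ∈ A, ⁅a, c⁆ * ⁅d, c⁆ = ⁅d, c⁆ * ⁅a, c⁆ := by
    intro a ha d hd
    by_cases hp : p = 2
    · have h1 := hB2 hp
      exact congrArg Subtype.val (h1.is_comm.comm
        (⟨⁅a, c⁆, dd_le_B hcB (comm_mem_dd ha)⟩ : B) ⟨⁅d, c⁆, dd_le_B hcB (comm_mem_dd hd)⟩)
    · apply comm_gens hAc hBA hcB hN1 hcjN _ ha hd
      intro g
      obtain ⟨k, hk⟩ := (IsPGroup.iff_orderOf.1 hS) g
      rw [hk]
      exact (Nat.Prime.odd_of_ne_two Fact.out hp).pow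
  have hstar := star_comm hAc hgen
  have hstarN : star A c ≤ Subgroup.normalizer (A : Set S) :=
    star_le_sup.trans (sup_le Subgroup.le_normalizer hcjN)
  have hcstar : c ∈ Subgroup.normalizer (star A c : Set S) := by
    have h1 : (star A c).map (MulAut.conj c).toMonoidHom = star A c := by
      apply Subgroup.eq_of_le_of_card_ge
      · rintro _ ⟨x, hx, rfl⟩
        exact c_conj_star hBA hcB x hx
      · rw [Nat.card_congr (Subgroup.equivMapOfInjective (star A c)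
          (MulAut.conj c).toMonoidHom (MulAut.conj c).injective).toEquiv]
    rw [Subgroup.mem_normalizer_iff]
    intro x
    constructor
    · exact fun hx => c_conj_star hBA hcB x hx
    · intro hx
      rw [← h1] at hx
      obtain ⟨y, hy, hyx⟩ := hx
      have : y = x := (MulAut.conj c).injective hyx
      rwa [← this]
  have hcnot : c ∉ star A c := fun h => hcA (hstarN h)
  have hNstar : Subgroup.normalizer (A : Set S) ≤ Subgroup.normalizer (star A c : Set S) := by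
    intro n hn
    have key : ∀ n ∈ Subgroup.normalizer (A : Set S), ∀ x ∈ star A c, n * x * n⁻¹ ∈ star A c := by
      intro n hn
      apply conj_star hBA hcB hn (hNcj hn)
      rw [commutatorElement_def]
      exact mul_mem (((inv_mem hcN) n).1 hn) (inv_mem hn)
    rw [Subgroup.mem_normalizer_iff]
    intro x
    constructor
    · exact key n hn x
    · intro h
      have h1 := key n⁻¹ (inv_mem hn) _ h
      have h2 : n⁻¹ * (n * x * n⁻¹) * n⁻¹⁻¹ = x := by group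
      rwa [h2] at h1
  refine ⟨card_star hAc hBA hcB hN1 hcjN hstar, ⟨⟨?_⟩⟩, derived_le_star hBA, ?_, ?_,
    Subgroup.le_normalizer.trans hNstar, hstarN, ?_, ?_, ?_⟩
  · rintro ⟨x, hx⟩ ⟨y, hy⟩
    exact Subtype.ext (hstar x hx y hy)
  · rw [lt_iff_le_not_ge]
    constructor
    · exact le_inf ((inf_le_Z hBA hcB).trans Z_le_star) inf_le_right
    · intro h
      apply hcA
      have h1 : dd A c ≤ A := by
        refine le_trans ?_ (h.trans inf_le_left)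
        exact le_inf le_sup_right (dd_le_B hcB)
      have h2 : (cj A c) = A := by
        apply Subgroup.eq_of_le_of_card_ge
        · intro x hx
          obtain ⟨a, ha, rfl⟩ := exists_of_mem_cj hx
          have h3 : c * a * c⁻¹ = ⁅a, c⁆⁻¹ * a := by rw [commutatorElement_def]; group
          rw [h3]
          exact mul_mem (inv_mem (h1 (comm_mem_dd ha))) ha
        · rw [cj_def, Nat.card_congr (Subgroup.equivMapOfInjective A
            (MulAut.conj c).toMonoidHom (MulAut.conj c).injective).toEquiv]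
      rw [Subgroup.mem_normalizer_iff]
      intro x
      constructor
      · intro hx
        rw [← h2]
        exact conj_mem_cj hx
      · intro hx
        have hx' : c * x * c⁻¹ ∈ A := hx
        rw [← h2, mem_cj] at hx'
        have h3 : c⁻¹ * (c * x * c⁻¹) * c = x := by group
        rwa [h3] at hx'
  · rw [lt_iff_le_not_ge]
    refine ⟨inf_le_right, fun h => hcnot ?_⟩
    exact (h hcB).1
  · have : b = c⁻¹ := by rw [hc, inv_inv]
    rw [this]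
    exact inv_mem hcstar
  · rw [lt_iff_le_not_ge]
    exact ⟨hNstar, fun h => hcA (h hcstar)⟩
  · intro hp
    apply Monoid.exponent_dvd_of_forall_pow_eq_one
    rintro ⟨x, hx⟩
    apply Subtype.ext
    have hexp : Odd (Monoid.exponent A) := by
      have hAp : IsPGroup p A := hS.to_subgroup A
      obtain ⟨n, hn⟩ := IsPGroup.iff_card.1 hAp
      have h1 : Monoid.exponent A ∣ p ^ n := by
        rw [← hn]; exact Group.exponent_dvd_nat_card
      obtain ⟨k, -, hk⟩ := (Nat.dvd_prime_pow Fact.out).1 h1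
      rw [hk]
      exact (Nat.Prime.odd_of_ne_two Fact.out hp).pow
    have h1 := pow_star hAc hN1 hcjN hstar hexp (fun a ha =>
      congrArg Subtype.val (Monoid.pow_exponent_eq_one (⟨a, ha⟩ : A))) x hx
    simpa using h1

/-- The Glauberman replacement Theorem: from an abelian A ⊇ [B, B] not normalized by the normal subgroup B and a suitable b ∈ B one gets the abelian subgroup A* = (A ∩ b⁻¹Ab)[A, b] of the same order, containing [B, B], meeting B strictly more than A does but not containing B, mutually normalizing with A, with strictly larger normalizer containing b, and (p odd) of no larger exponent. -/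
theorem result {S : Type*} [Group S] [Finite S] {p : ℕ} [Fact p.Prime] (hS : IsPGroup p S) (B : Subgroup S) [B.Normal] (hB2 : p = 2 → IsMulCommutative B) (A : Subgroup S) (hA : IsMulCommutative A) (hBA : ⁅B, B⁆ ≤ A) (hnot : ¬ B ≤ Subgroup.normalizer (A : Set S)) (b : S) (hb : b ∈ B) (hbN : b ∈ Subgroup.normalizer ((Subgroup.normalizer (A : Set S)) : Set S)) (hbA : b ∉ Subgroup.normalizer (A : Set S)) : Nat.card ↥((A ⊓ A.map (MulAut.conj (b⁻¹)).toMonoidHom) ⊔ Subgroup.closure {g : S | ∃ a ∈ A, g = a * b⁻¹ * a⁻¹ * b}) = Nat.card A ∧ IsMulCommutative ↥((A ⊓ A.map (MulAut.conj (b⁻¹)).toMonoidHom) ⊔ Subgroup.closure {g : S | ∃ a ∈ A, g = a * b⁻¹ * a⁻¹ * b}) ∧ ⁅B, B⁆ ≤ ((A ⊓ A.map (MulAut.conj (b⁻¹)).toMonoidHom) ⊔ Subgroup.closure {g : S | ∃ a ∈ A, g = a * b⁻¹ * a⁻¹ * b}) ∧ A ⊓ B < ((A ⊓ A.map (MulAut.conj (b⁻¹)).toMonoidHom) ⊔ Subgroup.closure {g : S | ∃ a ∈ A, g = a * b⁻¹ * a⁻¹ * b}) ⊓ B ∧ ((A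 ⊓ A.map (MulAut.conj (b⁻¹)).toMonoidHom) ⊔ Subgroup.closure {g : S | ∃ a ∈ A, g = a * b⁻¹ * a⁻¹ * b}) ⊓ B < B ∧ A ≤ Subgroup.normalizer (((A ⊓ A.map (MulAut.conj (b⁻¹)).toMonoidHom) ⊔ Subgroup.closure {g : S | ∃ a ∈ A, g = a * b⁻¹ * a⁻¹ * b} : Subgroup S) : Set S) ∧ ((A ⊓ A.map (MulAut.conj (b⁻¹)).toMonoidHom) ⊔ Subgroup.closure {g : S | ∃ a ∈ A, g = a * b⁻¹ * a⁻¹ * b}) ≤ Subgroup.normalizer (A : Set S) ∧ b ∈ Subgroup.normalizer (((A ⊓ A.map (MulAut.conj (b⁻¹)).toMonoidHom) ⊔ Subgroup.closure {g : S | ∃ a ∈ A, g = a * b⁻¹ * a⁻¹ * b} : Subgroup S) : Set S) ∧ Subgroup.normalizer (A : Set S) < Subgroup.normalizer (((A ⊓ A.map (MulAut.conj (b⁻¹)).toMonoidHom) ⊔ Subgroup.closure {g : S | ∃ a ∈ A, g = a * b⁻¹ * a⁻¹ * b} : Subgroup S) : Set S) ∧ (p ≠ 2 → Monoid.exponent ↥((A ⊓ A.map (MulAut.conj (b⁻¹)).toMonoidHom) ⊔ Subgroup.closure {g : S | ∃ a ∈ A, g = a * b⁻¹ * a⁻¹ * b}) ∣ Monoid.exponent A) :=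 by
  rw [star_eq]
  exact main hS B hB2 A hA hBA b hb hbN hbA

end Cfsg.Agent.S0650
end
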