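import Mathlib
import Cfsg.Agent.PermutationGroups.ZassIcos
import Cfsg.Statements.S0690
import Cfsg.Agent.PermutationGroups.ZassReduction
import Cfsg.Agent.PermutationGroups.ZassKlein
import Cfsg.Agent.PermutationGroups.ZassEnd
set_option linter.all false

-- part: PermutationGroups/ZassQuat
section
set_option autoImplicit false

/-!
# Quaternion frames in a noncommutative ring

`i, j` in a ring `E` with `i² = j² = -1`, `ji = -ij`.  Every element of `E` (2 invertible) is
uniquely `a + b i + c j + d ij` with `a, b, c, d` commuting with `i, j`.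
-/

namespace Cfsg.Agent.PermutationGroups.ZassQuat

variable {E : Type*} [Ring E]

/-- a quaternion frame in the ring `E` -/
structure QFrame (i j : E) : Prop where
  ii : i * i = -1
  jj : j * j = -1
  ji : j * i = -(i * j)

/-- `a` commutes with the frame -/
def Cen (i j a : E) : Prop := i * a = a * i ∧ j * a = a * j

/-- `a + b i + c j + d ij` -/
def ev (i j a b c d : E) : E := a + b * i + c * j + d * (i * j)

theorem ev_def (i j a b c d : E) : ev i j a b c d = a + b * i + c * j + d * (i * j) := rfl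

section cen
variable {i j a b : E}

theorem Cen.mk' (h1 : i * a = a * i) (h2 : j * a = a * j) : Cen i j a := ⟨h1, h2⟩

theorem Cen.add (ha : Cen i j a) (hb : Cen i j b) : Cen i j (a + b) :=
  ⟨by rw [mul_add, add_mul, ha.1, hb.1], by rw [mul_add, add_mul, ha.2, hb.2]⟩

theorem Cen.sub (ha : Cen i j a) (hb : Cen i j b) : Cen i j (a - b) :=
  ⟨by rw [mul_sub, sub_mul, ha.1, hb.1], by rw [mul_sub, sub_mul, ha.2, hb.2]⟩

theorem Cen.neg (ha : Cen i j a) : Cen i j (-a) :=
  ⟨by rw [mul_neg, neg_mul, ha.1], by rw [mul_neg, neg_mul, ha.2]⟩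

theorem Cen.mul (ha : Cen i j a) (hb : Cen i j b) : Cen i j (a * b) :=
  ⟨by rw [← mul_assoc, ha.1, mul_assoc, hb.1, mul_assoc],
   by rw [← mul_assoc, ha.2, mul_assoc, hb.2, mul_assoc]⟩

theorem Cen.zero : Cen i j 0 := ⟨by simp, by simp⟩

theorem Cen.one : Cen i j 1 := ⟨by simp, by simp⟩

theorem Cen.natCast (n : ℕ) : Cen i j (n : E) :=
  ⟨(Nat.cast_commute n i).eq.symm, (Nat.cast_commute n j).eq.symm⟩

theorem Cen.intCast (n : ℤ) : Cen i j (n : E) :=
  ⟨(Int.cast_commute n i).eq.symm, (Int.cast_commute n j).eq.symm⟩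

theorem Cen.ofNat (n : ℕ) [n.AtLeastTwo] : Cen i j (OfNat.ofNat n : E) := by
  rw [← Nat.cast_ofNat]
  exact Cen.natCast n

end cen

section frame
variable {i j : E} (h : QFrame i j)
include h

theorem ev_mul {a b c d a' b' c' d' : E}
    (ha : Cen i j a') (hb : Cen i j b') (hc : Cen i j c') (hd : Cen i j d') :
    ev i j a b c d * ev i j a' b' c' d' =
      ev i j (a * a' - b * b' - c * c' - d * d') (a * b' + b * a' + c * d' - d * c')
        (a * c' - b * d' + c * a' + d * b') (a * d' + b * c' - c * b' + d * a') := by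
  have hii := h.ii
  have hjj := h.jj
  have hji := h.ji
  -- move `i`, `j` to the right
  have m1 : ∀ x y : E, Cen i j y → x * i * y = x * y * i := fun x y hy => by
    rw [mul_assoc, hy.1, ← mul_assoc]
  have m2 : ∀ x y : E, Cen i j y → x * j * y = x * y * j := fun x y hy => by
    rw [mul_assoc, hy.2, ← mul_assoc]
  have m3 : ∀ x y : E, Cen i j y → x * (i * j) * y = x * y * (i * j) := fun x y hy => by
    rw [← mul_assoc, m2 _ _ hy, m1 _ _ hy, mul_assoc]
  have jij : j * (i * j) = i := by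
    rw [← mul_assoc, hji, neg_mul, mul_assoc, hjj, mul_neg, mul_one, neg_neg]
  have iji : i * j * i = j := by
    rw [mul_assoc, hji, mul_neg, ← mul_assoc, hii, neg_mul, one_mul, neg_neg]
  have iij : i * (i * j) = -j := by rw [← mul_assoc, hii, neg_mul, one_mul]
  have ijj : i * j * j = -i := by rw [mul_assoc, hjj, mul_neg, mul_one]
  have ijij : i * j * (i * j) = -1 := by rw [← mul_assoc, iji, hjj]
  unfold ev
  simp only [mul_add, add_mul]
  simp only [← mul_assoc (b * i), ← mul_assoc (c * j), ← mul_assoc (d * (i * j))]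
  simp only [m1 _ _ ha, m1 _ _ hb, m1 _ _ hc, m1 _ _ hd, m2 _ _ ha, m2 _ _ hb, m2 _ _ hc,
    m2 _ _ hd, m3 _ _ ha, m3 _ _ hb, m3 _ _ hc, m3 _ _ hd]
  simp only [mul_assoc (b * b'), mul_assoc (b * c'), mul_assoc (b * d'), mul_assoc (c * b'),
    mul_assoc (c * c'), mul_assoc (c * d'), mul_assoc (d * b'), mul_assoc (d * c'),
    mul_assoc (d * d'), hii, hjj, hji, jij, iji, iij, ijj, ijij]
  noncomm_ring

/-- the averaging operator -/
theorem avg_ev {a b c d : E} (ha : Cen i j a) (hb : Cen i j b) (hc : Cen i j c)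
    (hd : Cen i j d) :
    ev i j a b c d - i * ev i j a b c d * i - j * ev i j a b c d * j
      - (i * j) * ev i j a b c d * (i * j) = 4 * a := by
  have e1 : i = ev i j 0 1 0 0 := by simp [ev]
  have e2 : j = ev i j 0 0 1 0 := by simp [ev]
  have e3 : i * j = ev i j 0 0 0 1 := by simp [ev]
  have f1 : i * ev i j a b c d * i = ev i j 0 1 0 0 * ev i j a b c d * ev i j 0 1 0 0 := by
    rw [← e1]
  have f2 : j * ev i j a b c d * j = ev i j 0 0 1 0 * ev i j a b c d * ev i j 0 0 1 0 := by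
    rw [← e2]
  have f3 : (i * j) * ev i j a b c d * (i * j) =
      ev i j 0 0 0 1 * ev i j a b c d * ev i j 0 0 0 1 := by
    rw [← e3]
  rw [f1, f2, f3]
  rw [ev_mul h ha hb hc hd, ev_mul h ha hb hc hd, ev_mul h ha hb hc hd]
  rw [ev_mul h Cen.zero Cen.one Cen.zero Cen.zero, ev_mul h Cen.zero Cen.zero Cen.one Cen.zero,
    ev_mul h Cen.zero Cen.zero Cen.zero Cen.one]
  unfold ev
  noncomm_ring

theorem eq_zero_of_ev_eq_zero (h2 : IsUnit (2 : E)) {a b c d : E} (ha : Cen i j a)
    (hb : Cen i j b) (hc : Cen i j c) (hd : Cen i j d) (h0 : ev i j a b c d = 0) : a = 0 := by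
  have := avg_ev h ha hb hc hd
  rw [h0] at this
  simp only [mul_zero, zero_mul, sub_zero] at this
  have h4 : (4 : E) = 2 * 2 := by norm_num
  rw [h4, mul_assoc] at this
  have h1 : (2 : E) * a = 0 := (h2.mul_right_eq_zero).mp this.symm
  exact (h2.mul_right_eq_zero).mp h1

theorem ev_eq_zero (h2 : IsUnit (2 : E)) {a b c d : E} (ha : Cen i j a)
    (hb : Cen i j b) (hc : Cen i j c) (hd : Cen i j d) (h0 : ev i j a b c d = 0) :
    a = 0 ∧ b = 0 ∧ c = 0 ∧ d = 0 := by
  refine ⟨eq_zero_of_ev_eq_zero h h2 ha hb hc hd h0, ?_, ?_, ?_⟩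
  · have : ev i j a b c d * ev i j 0 (-1) 0 0 = 0 := by rw [h0, zero_mul]
    rw [ev_mul h Cen.zero (Cen.one.neg) Cen.zero Cen.zero] at this
    have hh := eq_zero_of_ev_eq_zero h h2 (by simpa using hb) (by simpa using ha.neg)
      (by simpa using hd.neg) (by simpa using hc) this
    simpa using hh
  · have : ev i j a b c d * ev i j 0 0 (-1) 0 = 0 := by rw [h0, zero_mul]
    rw [ev_mul h Cen.zero Cen.zero (Cen.one.neg) Cen.zero] at this
    have hh := eq_zero_of_ev_eq_zero h h2 (by simpa using hc) (by simpa using hd)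
      (by simpa using ha.neg) (by simpa using hb.neg) this
    simpa using hh
  · have : ev i j a b c d * ev i j 0 0 0 (-1) = 0 := by rw [h0, zero_mul]
    rw [ev_mul h Cen.zero Cen.zero Cen.zero (Cen.one.neg)] at this
    have hh := eq_zero_of_ev_eq_zero h h2 (by simpa using hd) (by simpa using hc.neg)
      (by simpa using hb) (by simpa using ha.neg) this
    simpa using hh

theorem ev_inj (h2 : IsUnit (2 : E)) {a b c d a' b' c' d' : E} (ha : Cen i j a)
    (hb : Cen i j b) (hc : Cen i j c) (hd : Cen i j d) (ha' : Cen i j a')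
    (hb' : Cen i j b') (hc' : Cen i j c') (hd' : Cen i j d')
    (h0 : ev i j a b c d = ev i j a' b' c' d') :
    a = a' ∧ b = b' ∧ c = c' ∧ d = d' := by
  have h1 : ev i j (a - a') (b - b') (c - c') (d - d') = 0 := by
    have : ev i j (a - a') (b - b') (c - c') (d - d') = ev i j a b c d - ev i j a' b' c' d' := by
      unfold ev; noncomm_ring
    rw [this, h0, sub_self]
  obtain ⟨h3, h4, h5, h6⟩ := ev_eq_zero h h2 (ha.sub ha') (hb.sub hb') (hc.sub hc') (hd.sub hd') h1
  exact ⟨sub_eq_zero.mp h3, sub_eq_zero.mp h4, sub_eq_zero.mp h5, sub_eq_zero.mp h6⟩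

theorem cen_avg (f : E) : Cen i j (f - i * f * i - j * f * j - (i * j) * f * (i * j)) := by
  have hii := h.ii
  have hjj := h.jj
  have hji := h.ji
  have hii' : ∀ x : E, i * (i * x) = -x := fun x => by rw [← mul_assoc, hii, neg_mul, one_mul]
  have hjj' : ∀ x : E, j * (j * x) = -x := fun x => by rw [← mul_assoc, hjj, neg_mul, one_mul]
  have hji' : ∀ x : E, j * (i * x) = -(i * (j * x)) := fun x => by
    rw [← mul_assoc, hji, neg_mul, mul_assoc]
  constructor <;>
  · simp only [mul_sub, sub_mul, mul_assoc, hii, hjj, hji, hii', hjj', hji', mul_neg, neg_mul,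
      mul_one, neg_neg]
    abel

theorem exists_ev (h2 : IsUnit (2 : E)) (f : E) : ∃ a b c d : E, Cen i j a ∧ Cen i j b ∧
    Cen i j c ∧ Cen i j d ∧ f = ev i j a b c d := by
  have hii := h.ii
  have hjj := h.jj
  have hji := h.ji
  have hii' : ∀ x : E, i * (i * x) = -x := fun x => by rw [← mul_assoc, hii, neg_mul, one_mul]
  have hjj' : ∀ x : E, j * (j * x) = -x := fun x => by rw [← mul_assoc, hjj, neg_mul, one_mul]
  have hji' : ∀ x : E, j * (i * x) = -(i * (j * x)) := fun x => by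
    rw [← mul_assoc, hji, neg_mul, mul_assoc]
  obtain ⟨u, hu⟩ := h2
  have hu1 : (↑(u⁻¹) : E) * 2 = 1 := by rw [← hu]; exact u.inv_mul
  have hcomm : ∀ x : E, (↑(u⁻¹) : E) * x = x * ↑(u⁻¹) := fun x => by
    have h1 : Commute (u : E) x := by
      rw [hu]
      exact Nat.cast_commute 2 x
    exact (h1.units_inv_left).eq
  set v : E := (↑(u⁻¹) : E) * ↑(u⁻¹) with hv
  have hvc : ∀ x : E, v * x = x * v := fun x => by
    rw [hv, mul_assoc, hcomm x, ← mul_assoc, hcomm x, mul_assoc]
  have hv4 : v * 4 = 1 := by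
    have : (4 : E) = 2 * 2 := by norm_num
    rw [hv, this, mul_assoc, ← mul_assoc _ (2 : E) 2, hu1, one_mul, hu1]
  have hvC : Cen i j v := ⟨(hvc i).symm, (hvc j).symm⟩
  refine ⟨v * (f - i * f * i - j * f * j - (i * j) * f * (i * j)),
    v * ((-(f * i)) - i * (-(f * i)) * i - j * (-(f * i)) * j - (i * j) * (-(f * i)) * (i * j)),
    v * ((-(f * j)) - i * (-(f * j)) * i - j * (-(f * j)) * j - (i * j) * (-(f * j)) * (i * j)),
    v * ((-(f * (i * j))) - i * (-(f * (i * j))) * i - j * (-(f * (i * j))) * j -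
      (i * j) * (-(f * (i * j))) * (i * j)),
    hvC.mul (cen_avg h _), hvC.mul (cen_avg h _), hvC.mul (cen_avg h _), hvC.mul (cen_avg h _), ?_⟩
  have key : 4 * f = ev i j (f - i * f * i - j * f * j - (i * j) * f * (i * j))
    ((-(f * i)) - i * (-(f * i)) * i - j * (-(f * i)) * j - (i * j) * (-(f * i)) * (i * j))
    ((-(f * j)) - i * (-(f * j)) * i - j * (-(f * j)) * j - (i * j) * (-(f * j)) * (i * j))
    ((-(f * (i * j))) - i * (-(f * (i * j))) * i - j * (-(f * (i * j))) * j -
      (i * j) * (-(f * (i * j))) * (i * j)) := by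
    unfold ev
    simp only [mul_sub, sub_mul, mul_assoc, hii, hjj, hji, hii', hjj', hji', mul_neg, neg_mul,
      mul_one, neg_neg]
    noncomm_ring
  calc f = v * (4 * f) := by rw [← mul_assoc, hv4, one_mul]
    _ = _ := by
      rw [key]
      unfold ev
      simp only [mul_add, mul_assoc]

end frame

end Cfsg.Agent.PermutationGroups.ZassQuat
end

-- part: PermutationGroups/ZassOrders
section
set_option autoImplicit false

/-!
# Freely acting groups of units: polynomial relations from orders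

`G` a group of units of a ring `E` such that `g - 1` is a unit for all `1 ≠ g ∈ G`.
-/

namespace Cfsg.Agent.PermutationGroups.ZassOrders

theorem n2 {E : Type*} [Ring E] : (2 : E) = 1 + 1 := by norm_num
theorem n3 {E : Type*} [Ring E] : (3 : E) = 1 + 1 + 1 := by norm_num
theorem n4 {E : Type*} [Ring E] : (4 : E) = 1 + 1 + 1 + 1 := by norm_num
theorem n5 {E : Type*} [Ring E] : (5 : E) = 1 + 1 + 1 + 1 + 1 := by norm_num
theorem n6 {E : Type*} [Ring E] : (6 : E) = 1 + 1 + 1 + 1 + 1 + 1 := by norm_num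
theorem n8 {E : Type*} [Ring E] : (8 : E) = (1 + 1) * (1 + 1 + 1 + 1) := by norm_num
theorem n10 {E : Type*} [Ring E] : (10 : E) = (1 + 1) * (1 + 1 + 1 + 1 + 1) := by norm_num
theorem n12 {E : Type*} [Ring E] : (12 : E) = (1 + 1) * (1 + 1 + 1 + 1 + 1 + 1) := by norm_num
theorem n16 {E : Type*} [Ring E] : (16 : E) = (1 + 1 + 1 + 1) * (1 + 1 + 1 + 1) := by norm_num
theorem n20 {E : Type*} [Ring E] : (20 : E) = (1 + 1 + 1 + 1) * (1 + 1 + 1 + 1 + 1) := by norm_num

/-- noncommutative ring identities, numerals included -/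
local macro "nc" : tactic =>
  `(tactic| ((try simp only [n2, n3, n4, n5, n6, n8, n10, n12, n16, n20]); noncomm_ring))

variable {E : Type*} [Ring E] {G : Subgroup Eˣ}

theorem pow_sub_one_isUnit (hfree : ∀ g ∈ G, g ≠ 1 → IsUnit ((g : E) - 1)) {g : Eˣ}
    (hg : g ∈ G) {n : ℕ} (h : g ^ n ≠ 1) : IsUnit ((g : E) ^ n - 1) := by
  have := hfree (g ^ n) (pow_mem hg n) h
  rwa [Units.val_pow_eq_pow_val] at this

theorem coe_pow_eq_one {g : Eˣ} {n : ℕ} (h : g ^ n = 1) : (g : E) ^ n = 1 := by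
  rw [← Units.val_pow_eq_pow_val, h, Units.val_one]

theorem pow_ne_one_of_order {g : Eˣ} {n m : ℕ} (h : orderOf g = n) (hm : ¬ n ∣ m) :
    g ^ m ≠ 1 := fun h1 => hm (h ▸ orderOf_dvd_of_pow_eq_one h1)

theorem poly_three (hfree : ∀ g ∈ G, g ≠ 1 → IsUnit ((g : E) - 1)) {g : Eˣ}
    (hg : g ∈ G) (h : orderOf g = 3) : (g : E) ^ 2 + g + 1 = 0 := by
  have h1 : g ^ 1 ≠ 1 := pow_ne_one_of_order h (by norm_num)
  have h2 := pow_sub_one_isUnit hfree hg h1
  have h3 : (g : E) ^ 3 = 1 := coe_pow_eq_one (h ▸ pow_orderOf_eq_one g)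
  rw [pow_one] at h2
  refine (h2.mul_right_eq_zero).mp ?_
  have : ((g : E) - 1) * ((g : E) ^ 2 + g + 1) = (g : E) ^ 3 - 1 := by nc
  rw [this, h3, sub_self]

theorem poly_four (hfree : ∀ g ∈ G, g ≠ 1 → IsUnit ((g : E) - 1)) {g : Eˣ}
    (hg : g ∈ G) (h : orderOf g = 4) : (g : E) ^ 2 + 1 = 0 := by
  have h1 : g ^ 2 ≠ 1 := pow_ne_one_of_order h (by norm_num)
  have h2 := pow_sub_one_isUnit hfree hg h1
  have h3 : (g : E) ^ 4 = 1 := coe_pow_eq_one (h ▸ pow_orderOf_eq_one g)
  refine (h2.mul_right_eq_zero).mp ?_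
  have : ((g : E) ^ 2 - 1) * ((g : E) ^ 2 + 1) = (g : E) ^ 4 - 1 := by nc
  rw [this, h3, sub_self]

theorem poly_six (hfree : ∀ g ∈ G, g ≠ 1 → IsUnit ((g : E) - 1)) {g : Eˣ}
    (hg : g ∈ G) (h : orderOf g = 6) : (g : E) ^ 2 - g + 1 = 0 := by
  have h1 : g ^ 2 ≠ 1 := pow_ne_one_of_order h (by norm_num)
  have h1' : g ^ 3 ≠ 1 := pow_ne_one_of_order h (by norm_num)
  have h2 := pow_sub_one_isUnit hfree hg h1
  have h2' := pow_sub_one_isUnit hfree hg h1'
  have h3 : (g : E) ^ 6 = 1 := coe_pow_eq_one (h ▸ pow_orderOf_eq_one g)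
  have h4 : (g : E) ^ 3 + 1 = 0 := by
    refine (h2'.mul_right_eq_zero).mp ?_
    have : ((g : E) ^ 3 - 1) * ((g : E) ^ 3 + 1) = (g : E) ^ 6 - 1 := by nc
    rw [this, h3, sub_self]
  refine (h2.mul_right_eq_zero).mp ?_
  have : ((g : E) ^ 2 - 1) * ((g : E) ^ 2 - g + 1) = ((g : E) - 1) * ((g : E) ^ 3 + 1) := by
    nc
  rw [this, h4, mul_zero]

theorem poly_ten (hfree : ∀ g ∈ G, g ≠ 1 → IsUnit ((g : E) - 1)) {g : Eˣ}
    (hg : g ∈ G) (h : orderOf g = 10) : (g : E) ^ 4 - g ^ 3 + g ^ 2 - g + 1 = 0 := by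
  have h1 : g ^ 2 ≠ 1 := pow_ne_one_of_order h (by norm_num)
  have h1' : g ^ 5 ≠ 1 := pow_ne_one_of_order h (by norm_num)
  have h2 := pow_sub_one_isUnit hfree hg h1
  have h2' := pow_sub_one_isUnit hfree hg h1'
  have h3 : (g : E) ^ 10 = 1 := coe_pow_eq_one (h ▸ pow_orderOf_eq_one g)
  have h4 : (g : E) ^ 5 + 1 = 0 := by
    refine (h2'.mul_right_eq_zero).mp ?_
    have : ((g : E) ^ 5 - 1) * ((g : E) ^ 5 + 1) = (g : E) ^ 10 - 1 := by nc
    rw [this, h3, sub_self]
  refine (h2.mul_right_eq_zero).mp ?_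
  have : ((g : E) ^ 2 - 1) * ((g : E) ^ 4 - g ^ 3 + g ^ 2 - g + 1) =
      ((g : E) - 1) * ((g : E) ^ 5 + 1) := by
    nc
  rw [this, h4, mul_zero]

/-- inverse of an element of order three -/
theorem inv_three {x : Eˣ} (hx : (x : E) ^ 2 + x + 1 = 0) : ((x⁻¹ : Eˣ) : E) = -(x : E) - 1 := by
  have h1 : (x : E) * (-(x : E) - 1) = 1 := by
    have : (x : E) * (-(x : E) - 1) = 1 - ((x : E) ^ 2 + x + 1) := by nc
    rw [this, hx, sub_zero]
  calc ((x⁻¹ : Eˣ) : E) = ((x⁻¹ : Eˣ) : E) * ((x : E) * (-(x : E) - 1)) := by rw [h1, mul_one]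
    _ = -(x : E) - 1 := by rw [← mul_assoc, Units.inv_mul, one_mul]

theorem sq_of_three {x : Eˣ} (hx : (x : E) ^ 2 + x + 1 = 0) :
    (2 * (x : E) + 1) * (2 * (x : E) + 1) = -3 := by
  have : (2 * (x : E) + 1) * (2 * (x : E) + 1) = 4 * ((x : E) ^ 2 + x + 1) - 3 := by nc
  rw [this, hx, mul_zero, zero_sub]

/-- the anticommutator in terms of the `trace` of `x w` -/
theorem anti_eq {x w : Eˣ} (hx : (x : E) ^ 2 + x + 1 = 0) (hw : (w : E) ^ 2 + w + 1 = 0) :
    (2 * (x : E) + 1) * (2 * (w : E) + 1) + (2 * (w : E) + 1) * (2 * (x : E) + 1) =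
      4 * (((x * w : Eˣ) : E) + (((x * w)⁻¹ : Eˣ) : E)) - 2 := by
  rw [mul_inv_rev, Units.val_mul, Units.val_mul, inv_three hx, inv_three hw]
  nc

/-- `x` and `w` commute if their anticommutator is `-6` -/
theorem eq_of_anti [Nontrivial E] (hfree : ∀ g ∈ G, g ≠ 1 → IsUnit ((g : E) - 1)) (h2 : IsUnit (2 : E))
    {x w : Eˣ} (hxG : x ∈ G) (hwG : w ∈ G)
    (hx : (x : E) ^ 2 + x + 1 = 0) (hw : (w : E) ^ 2 + w + 1 = 0)
    (hS : (2 * (x : E) + 1) * (2 * (w : E) + 1) + (2 * (w : E) + 1) * (2 * (x : E) + 1) = -6) :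
    x = w := by
  by_contra hne
  have h1 : x * w⁻¹ ≠ 1 := fun h => hne (mul_inv_eq_one.mp h)
  have hu := hfree _ (mul_mem hxG (inv_mem hwG)) h1
  rw [Units.val_mul, inv_three hw] at hu
  -- the element `x w⁻¹ - 1` squares to zero
  have hw' : (w : E) * w = -w - 1 := by
    have : (w : E) * w = ((w : E) ^ 2 + w + 1) - w - 1 := by nc
    rw [this, hw]; simp
  have hx' : (x : E) * x = -x - 1 := by
    have : (x : E) * x = ((x : E) ^ 2 + x + 1) - x - 1 := by nc
    rw [this, hx]; simp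
  have h4 : (4 : E) * ((x : E) * w + w * x + x + w + 2) = 0 := by
    have : (4 : E) * ((x : E) * w + w * x + x + w + 2) =
      ((2 * (x : E) + 1) * (2 * (w : E) + 1) + (2 * (w : E) + 1) * (2 * (x : E) + 1)) + 6 := by
      nc
    rw [this, hS]; simp
  have hu4 : IsUnit (4 : E) := by
    have : (4 : E) = 2 * 2 := by norm_num
    rw [this]; exact h2.mul h2
  have h5 : (x : E) * w + w * x + x + w + 2 = 0 := (hu4.mul_right_eq_zero).mp h4
  have h6 : (w : E) * x = -(x * w) - x - w - 2 := by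
    have : (w : E) * x = ((x : E) * w + w * x + x + w + 2) - x * w - x - w - 2 := by
      nc
    rw [this, h5]; nc
  have hsq : ((x : E) * (-w - 1) - 1) * ((x : E) * (-w - 1) - 1) = 0 := by
    have e1 : (w : E) * (x * w) = (w * x) * w := by rw [mul_assoc]
    have e2 : ((x : E) * (-w - 1) - 1) * ((x : E) * (-w - 1) - 1) =
      x * (w * x) * w + x * (w * x) + (x * x) * w + x * x + 2 * (x * w) + 2 * x + 1 := by
      nc
    rw [e2, h6, hx']
    have e3 : (x : E) * (-(x * w) - x - w - 2) * w + x * (-(x * w) - x - w - 2) +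
      (-x - 1) * w + (-x - 1) + 2 * (x * w) + 2 * x + 1 =
      -((x * x) * (w * w)) - (x * x) * w - x * (w * w) - 2 * (x * w) - (x * x) * w - x * x
       - x * w - 2 * x + (-x - 1) * w + (-x - 1) + 2 * (x * w) + 2 * x + 1 := by nc
    rw [e3, hx', hw']
    nc
  have h7 : (x : E) * (-w - 1) - 1 = 0 := (hu.mul_right_eq_zero).mp hsq
  rw [h7] at hu
  exact not_isUnit_zero hu

/-- the value of the anticommutator for two elements of order three -/
theorem anti_cases [Nontrivial E] (hfree : ∀ g ∈ G, g ≠ 1 → IsUnit ((g : E) - 1)) (h2 : IsUnit (2 : E))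
    {x w : Eˣ} (hxG : x ∈ G) (hwG : w ∈ G) (hx3 : orderOf x = 3) (hw3 : orderOf w = 3)
    (hord : orderOf (x * w) = 1 ∨ orderOf (x * w) = 3 ∨ orderOf (x * w) = 4 ∨
      orderOf (x * w) = 6 ∨ orderOf (x * w) = 10) {S : E}
    (hS : S = (2 * (x : E) + 1) * (2 * (w : E) + 1) + (2 * (w : E) + 1) * (2 * (x : E) + 1)) :
    (S = 6 ∧ w = x⁻¹) ∨ (S = -6 ∧ w = x) ∨ S = -2 ∨ S = 2 ∨ S * S = 20 := by
  have hx := poly_three hfree hxG hx3
  have hw := poly_three hfree hwG hw3
  have hgG : x * w ∈ G := mul_mem hxG hwG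
  have hA := anti_eq hx hw
  rw [← hS] at hA
  have hcancel : ((x * w : Eˣ) : E) * (((x * w)⁻¹ : Eˣ) : E) = 1 := Units.mul_inv _
  have hcancel' : (((x * w)⁻¹ : Eˣ) : E) * ((x * w : Eˣ) : E) = 1 := Units.inv_mul _
  rcases hord with h | h | h | h | h
  · left
    have h1 : x * w = 1 := orderOf_eq_one_iff.mp h
    refine ⟨?_, (eq_inv_of_mul_eq_one_right h1)⟩
    rw [hA, h1, inv_one, Units.val_one]
    norm_num
  · right; left
    have h3 := poly_three hfree hgG h
    have h4 := inv_three h3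
    have h5 : S = -6 := by
      rw [hA, h4]
      nc
    refine ⟨h5, ?_⟩
    exact (eq_of_anti hfree h2 hxG hwG hx hw (by rw [← hS, h5])).symm
  · right; right; left
    have h3 := poly_four hfree hgG h
    have h4 : (((x * w)⁻¹ : Eˣ) : E) = -((x * w : Eˣ) : E) := by
      have h5 : ((x * w : Eˣ) : E) * (-((x * w : Eˣ) : E)) = 1 := by
        have : ((x * w : Eˣ) : E) * (-((x * w : Eˣ) : E)) = 1 - (((x * w : Eˣ) : E) ^ 2 + 1) := by
          nc
        rw [this, h3, sub_zero]
      calc (((x * w)⁻¹ : Eˣ) : E) = (((x * w)⁻¹ : Eˣ) : E) *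
            (((x * w : Eˣ) : E) * (-((x * w : Eˣ) : E))) := by rw [h5, mul_one]
        _ = _ := by rw [← mul_assoc, hcancel', one_mul]
    rw [hA, h4]; nc
  · right; right; right; left
    have h3 := poly_six hfree hgG h
    have h4 : (((x * w)⁻¹ : Eˣ) : E) = 1 - ((x * w : Eˣ) : E) := by
      have h5 : ((x * w : Eˣ) : E) * (1 - ((x * w : Eˣ) : E)) = 1 := by
        have : ((x * w : Eˣ) : E) * (1 - ((x * w : Eˣ) : E)) =
          1 - (((x * w : Eˣ) : E) ^ 2 - ((x * w : Eˣ) : E) + 1) := by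
          nc
        rw [this, h3, sub_zero]
      calc (((x * w)⁻¹ : Eˣ) : E) = (((x * w)⁻¹ : Eˣ) : E) *
            (((x * w : Eˣ) : E) * (1 - ((x * w : Eˣ) : E))) := by rw [h5, mul_one]
        _ = _ := by rw [← mul_assoc, hcancel', one_mul]
    rw [hA, h4]; nc
  · right; right; right; right
    have h3 := poly_ten hfree hgG h
    rw [hA]
    generalize ((x * w : Eˣ) : E) = g at *
    generalize (((x * w)⁻¹ : Eˣ) : E) = v at *
    have hvv : v * v * (g ^ 4 - g ^ 3 + g ^ 2 - g + 1) = g * g - g + 1 - v + v * v := by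
      have e1 : v * v * (g ^ 4 - g ^ 3 + g ^ 2 - g + 1) =
        v * (v * g) * g * g * g - v * (v * g) * g * g + v * (v * g) * g - v * (v * g) + v * v := by
        nc
      rw [e1, hcancel', mul_one, hcancel', one_mul]
    rw [h3, mul_zero] at hvv
    have e2 : (4 * (g + v) - 2) * (4 * (g + v) - 2) =
      16 * (g * g - g + 1 - v + v * v) + 16 * (g * v) + 16 * (v * g) - 16 + 4 := by
      nc
    rw [e2, ← hvv, hcancel, hcancel']
    norm_num

end Cfsg.Agent.PermutationGroups.ZassOrders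
end

-- part: PermutationGroups/ZassFrame
section
set_option autoImplicit false

/-!
# Elements of order three relative to a quaternion frame
-/

namespace Cfsg.Agent.PermutationGroups.ZassFrame

open Cfsg.Agent.PermutationGroups.ZassQuat Cfsg.Agent.PermutationGroups.ZassOrders

/-- noncommutative ring identities, numerals included -/
local macro "nc" : tactic =>
  `(tactic| ((try simp only [n2, n3, n4, n5, n6, n8, n10, n12, n16, n20]); noncomm_ring))

variable {E : Type*} [Ring E]

theorem ev_add {i j a b c d a' b' c' d' : E} :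
    ev i j a b c d + ev i j a' b' c' d' = ev i j (a + a') (b + b') (c + c') (d + d') := by
  unfold ev; nc

theorem ev_neg {i j a b c d : E} : -ev i j a b c d = ev i j (-a) (-b) (-c) (-d) := by
  unfold ev; nc

theorem ev_scalar {i j a : E} : ev i j a 0 0 0 = a := by unfold ev; simp

section frame
variable {i j : E} (h : QFrame i j)
include h

theorem anti1 {z a b c : E} (hz : Cen i j z) (ha : Cen i j a) (hb : Cen i j b) (hc : Cen i j c) :
    ev i j 0 1 1 1 * ev i j z a b c + ev i j z a b c * ev i j 0 1 1 1 =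
      ev i j (-2 * (a + b + c)) (2 * z) (2 * z) (2 * z) := by
  rw [ev_mul h hz ha hb hc, ev_mul h Cen.zero Cen.one Cen.one Cen.one, ev_add]
  congr 1 <;> nc

theorem anti2 {z a b c : E} (hz : Cen i j z) (ha : Cen i j a) (hb : Cen i j b) (hc : Cen i j c) :
    ev i j 0 1 (-1) (-1) * ev i j z a b c + ev i j z a b c * ev i j 0 1 (-1) (-1) =
      ev i j (-2 * (a - b - c)) (2 * z) (-2 * z) (-2 * z) := by
  rw [ev_mul h hz ha hb hc, ev_mul h Cen.zero Cen.one Cen.one.neg Cen.one.neg, ev_add]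
  congr 1 <;> nc

theorem anti3 {z a b c : E} (hz : Cen i j z) (ha : Cen i j a) (hb : Cen i j b) (hc : Cen i j c) :
    ev i j 0 (-1) 1 (-1) * ev i j z a b c + ev i j z a b c * ev i j 0 (-1) 1 (-1) =
      ev i j (-2 * (-a + b - c)) (-2 * z) (2 * z) (-2 * z) := by
  rw [ev_mul h hz ha hb hc, ev_mul h Cen.zero Cen.one.neg Cen.one Cen.one.neg, ev_add]
  congr 1 <;> nc

theorem anti4 {z a b c : E} (hz : Cen i j z) (ha : Cen i j a) (hb : Cen i j b) (hc : Cen i j c) :
    ev i j 0 (-1) (-1) 1 * ev i j z a b c + ev i j z a b c * ev i j 0 (-1) (-1) 1 =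
      ev i j (-2 * (-a - b + c)) (-2 * z) (-2 * z) (2 * z) := by
  rw [ev_mul h hz ha hb hc, ev_mul h Cen.zero Cen.one.neg Cen.one.neg Cen.one, ev_add]
  congr 1 <;> nc

theorem conj_i {z a b c : E} (hz : Cen i j z) (ha : Cen i j a) (hb : Cen i j b) (hc : Cen i j c) :
    i * ev i j z a b c * (-i) = ev i j z a (-b) (-c) := by
  have e1 : i * ev i j z a b c * (-i) = ev i j 0 1 0 0 * ev i j z a b c * ev i j 0 (-1) 0 0 := by
    simp [ev]
  rw [e1, ev_mul h hz ha hb hc, ev_mul h Cen.zero Cen.one.neg Cen.zero Cen.zero]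
  congr 1 <;> nc

theorem conj_j {z a b c : E} (hz : Cen i j z) (ha : Cen i j a) (hb : Cen i j b) (hc : Cen i j c) :
    j * ev i j z a b c * (-j) = ev i j z (-a) b (-c) := by
  have e1 : j * ev i j z a b c * (-j) = ev i j 0 0 1 0 * ev i j z a b c * ev i j 0 0 (-1) 0 := by
    simp [ev]
  rw [e1, ev_mul h hz ha hb hc, ev_mul h Cen.zero Cen.zero Cen.one.neg Cen.zero]
  congr 1 <;> nc

/-- conjugation by `x = (-1 + i + j + k)/2` -/
theorem conj_x {z a b c : E} (hz : Cen i j z) (ha : Cen i j a) (hb : Cen i j b) (hc : Cen i j c) :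
    ev i j (-1) 1 1 1 * ev i j z a b c = ev i j z b c a * ev i j (-1) 1 1 1 := by
  rw [ev_mul h hz ha hb hc, ev_mul h Cen.one.neg Cen.one Cen.one Cen.one]
  congr 1 <;> nc

theorem sq_ev {z a b c : E} (hz : Cen i j z) (ha : Cen i j a) (hb : Cen i j b) (hc : Cen i j c) :
    ev i j z a b c * ev i j z a b c =
      ev i j (z * z - a * a - b * b - c * c) (z * a + a * z + (b * c - c * b))
        (z * b + b * z + (c * a - a * c)) (z * c + c * z + (a * b - b * a)) := by
  rw [ev_mul h hz ha hb hc]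
  congr 1 <;> nc

end frame

end Cfsg.Agent.PermutationGroups.ZassFrame
end

-- part: PermutationGroups/ZassClaim
section
set_option autoImplicit false

/-!
# Elements of order three relative to a quaternion frame: algebra
-/

namespace Cfsg.Agent.PermutationGroups.ZassClaim

open Cfsg.Agent.PermutationGroups.ZassQuat Cfsg.Agent.PermutationGroups.ZassOrders
  Cfsg.Agent.PermutationGroups.ZassFrame

/-- noncommutative ring identities, numerals included -/
local macro "nc" : tactic =>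
  `(tactic| ((try simp only [n2, n3, n4, n5, n6, n8, n10, n12, n16, n20]); noncomm_ring))

variable {E : Type*} [Ring E]

theorem cancel_two (h2 : IsUnit (2 : E)) {a : E} (h : 2 * a = 0) : a = 0 :=
  (h2.mul_right_eq_zero).mp h

theorem cancel_four (h2 : IsUnit (2 : E)) {a : E} (h : 4 * a = 0) : a = 0 := by
  apply cancel_two h2
  apply cancel_two h2
  linear_combination (norm := nc) h

section frame
variable {i j : E} (h : QFrame i j)
include h

theorem from_sq (h2 : IsUnit (2 : E)) {s z p q r : E} (hs : Cen i j s) (hz : Cen i j z)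
    (hp : p = 2 * z ∨ p = -2 * z) (hq : q = 2 * z ∨ q = -2 * z) (hr : r = 2 * z ∨ r = -2 * z)
    (hS : ev i j (-2 * s) p q r * ev i j (-2 * s) p q r = 20) :
    s * s - 3 * (z * z) = 5 ∧ s * z + z * s = 0 := by
  have c2 : Cen i j (2 : E) := Cen.ofNat 2
  have hpC : Cen i j p := by
    rcases hp with rfl | rfl
    · exact c2.mul hz
    · exact c2.neg.mul hz
  have hqC : Cen i j q := by
    rcases hq with rfl | rfl
    · exact c2.mul hz
    · exact c2.neg.mul hz
  have hrC : Cen i j r := by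
    rcases hr with rfl | rfl
    · exact c2.mul hz
    · exact c2.neg.mul hz
  have hsC : Cen i j (-2 * s) := c2.neg.mul hs
  rw [sq_ev h hsC hpC hqC hrC] at hS
  have h20 : (20 : E) = ev i j 20 0 0 0 := by unfold ev; simp
  rw [h20] at hS
  have hps : p * p = 4 * (z * z) := by rcases hp with rfl | rfl <;> nc
  have hqs : q * q = 4 * (z * z) := by rcases hq with rfl | rfl <;> nc
  have hrs : r * r = 4 * (z * z) := by rcases hr with rfl | rfl <;> nc
  have hqr : q * r - r * q = 0 := by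
    rcases hq with rfl | rfl <;> rcases hr with rfl | rfl <;> nc
  obtain ⟨e1, e2, -, -⟩ := ev_inj h h2
    (((hsC.mul hsC).sub (hpC.mul hpC)).sub (hqC.mul hqC) |>.sub (hrC.mul hrC))
    (((hsC.mul hpC).add (hpC.mul hsC)).add ((hqC.mul hrC).sub (hrC.mul hqC)))
    (((hsC.mul hqC).add (hqC.mul hsC)).add ((hrC.mul hpC).sub (hpC.mul hrC)))
    (((hsC.mul hrC).add (hrC.mul hsC)).add ((hpC.mul hqC).sub (hqC.mul hpC)))
    (Cen.ofNat 20) Cen.zero Cen.zero Cen.zero hS
  constructor
  · have : 4 * (s * s - 3 * (z * z) - 5) = 0 := by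
      linear_combination (norm := nc) e1 + hps + hqs + hrs
    have := cancel_four h2 this
    linear_combination (norm := nc) this
  · rw [hqr, add_zero] at e2
    apply cancel_four h2
    rcases hp with rfl | rfl
    · linear_combination (norm := nc) -e2
    · linear_combination (norm := nc) e2

/-- Case B of Claim 1: all four anticommutators square to 20. -/
theorem caseB (h2 : IsUnit (2 : E)) {z a b c : E} (hz : Cen i j z)
    (ha : Cen i j a) (hb : Cen i j b) (hc : Cen i j c)
    (hsq : ev i j z a b c * ev i j z a b c = -3)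
    (h1 : ev i j (-2 * (a + b + c)) (2 * z) (2 * z) (2 * z) *
      ev i j (-2 * (a + b + c)) (2 * z) (2 * z) (2 * z) = 20)
    (h2' : ev i j (-2 * (a - b - c)) (2 * z) (-2 * z) (-2 * z) *
      ev i j (-2 * (a - b - c)) (2 * z) (-2 * z) (-2 * z) = 20)
    (h3 : ev i j (-2 * (-a + b - c)) (-2 * z) (2 * z) (-2 * z) *
      ev i j (-2 * (-a + b - c)) (-2 * z) (2 * z) (-2 * z) = 20)
    (h4 : ev i j (-2 * (-a - b + c)) (-2 * z) (-2 * z) (2 * z) *
      ev i j (-2 * (-a - b + c)) (-2 * z) (-2 * z) (2 * z) = 20) :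
    z * z = -1 ∧ a * z + z * a = 0 ∧ b * z + z * b = 0 ∧ c * z + z * c = 0 ∧
    a * b = 0 ∧ b * a = 0 ∧ a * c = 0 ∧ c * a = 0 ∧ b * c = 0 ∧ c * b = 0 ∧
    a * a + b * b + c * c = 2 := by
  obtain ⟨q1, r1⟩ := from_sq h h2 ((ha.add hb).add hc) hz (Or.inl rfl) (Or.inl rfl) (Or.inl rfl) h1
  obtain ⟨q2, r2⟩ := from_sq h h2 ((ha.sub hb).sub hc) hz (Or.inl rfl) (Or.inr rfl) (Or.inr rfl) h2'
  obtain ⟨q3, r3⟩ := from_sq h h2 ((ha.neg.add hb).sub hc) hz (Or.inr rfl) (Or.inl rfl) (Or.inr rfl) h3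
  obtain ⟨q4, r4⟩ := from_sq h h2 ((ha.neg.sub hb).add hc) hz (Or.inr rfl) (Or.inr rfl) (Or.inl rfl) h4
  have haz : a * z + z * a = 0 := by
    apply cancel_two h2; linear_combination (norm := nc) r1 + r2
  have hbz : b * z + z * b = 0 := by
    apply cancel_two h2; linear_combination (norm := nc) r1 + r3
  have hcz : c * z + z * c = 0 := by
    apply cancel_two h2; linear_combination (norm := nc) r1 + r4
  -- anticommutation of the a, b, c
  have e12 : a * b + b * a + (a * c + c * a) = 0 := by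
    apply cancel_two h2; linear_combination (norm := nc) q1 - q2
  have e13 : a * b + b * a + (b * c + c * b) = 0 := by
    apply cancel_two h2; linear_combination (norm := nc) q1 - q3
  have e14 : a * c + c * a + (b * c + c * b) = 0 := by
    apply cancel_two h2; linear_combination (norm := nc) q1 - q4
  have ab : a * b + b * a = 0 := by
    apply cancel_two h2; linear_combination (norm := nc) e12 + e13 - e14
  have ac : a * c + c * a = 0 := by
    apply cancel_two h2; linear_combination (norm := nc) e12 - e13 + e14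
  have bc : b * c + c * b = 0 := by
    apply cancel_two h2; linear_combination (norm := nc) e13 + e14 - e12
  rw [sq_ev h hz ha hb hc] at hsq
  have h3' : (-3 : E) = ev i j (-3) 0 0 0 := by unfold ev; simp
  rw [h3'] at hsq
  obtain ⟨f1, f2, f3, f4⟩ := ev_inj h h2
    (((hz.mul hz).sub (ha.mul ha)).sub (hb.mul hb) |>.sub (hc.mul hc))
    (((hz.mul ha).add (ha.mul hz)).add ((hb.mul hc).sub (hc.mul hb)))
    (((hz.mul hb).add (hb.mul hz)).add ((hc.mul ha).sub (ha.mul hc)))
    (((hz.mul hc).add (hc.mul hz)).add ((ha.mul hb).sub (hb.mul ha)))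
    (Cen.ofNat 3).neg Cen.zero Cen.zero Cen.zero hsq
  have bc' : b * c = 0 := by
    apply cancel_two h2; linear_combination (norm := nc) f2 - haz + bc
  have cb' : c * b = 0 := by
    linear_combination (norm := nc) bc - bc'
  have ca' : c * a = 0 := by
    apply cancel_two h2; linear_combination (norm := nc) f3 - hbz + ac
  have ac' : a * c = 0 := by
    linear_combination (norm := nc) ac - ca'
  have ab' : a * b = 0 := by
    apply cancel_two h2; linear_combination (norm := nc) f4 - hcz + ab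
  have ba' : b * a = 0 := by
    linear_combination (norm := nc) ab - ab'
  have hsum : a * a + b * b + c * c = 5 + 3 * (z * z) := by
    linear_combination (norm := nc) q1 - ab - ac - bc
  have hzz : z * z = -1 := by
    have : 2 * (z * z + 1) = 0 := by
      linear_combination (norm := nc) -f1 - hsum
    have := cancel_two h2 this
    linear_combination (norm := nc) this
  refine ⟨hzz, haz, hbz, hcz, ab', ba', ac', ca', bc', cb', ?_⟩
  rw [hsum, hzz]; nc

end frame

/-- if `g² - t g + 1 = 0` and `P t² = P` then `P t = ± P` by freeness -/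
theorem scalar_of_sq {G : Subgroup Eˣ} (hfree : ∀ g ∈ G, g ≠ 1 → IsUnit ((g : E) - 1))
    (h2 : IsUnit (2 : E)) {g : Eˣ} (hg : g ∈ G) {t P : E}
    (hq : (g : E) * g - t * g + 1 = 0) (hP : P * t * t = P) : P * t = P ∨ P * t = -P := by
  have e1 : P * (t + 1) * ((g : E) ^ 3 + 1) = 0 := by
    linear_combination (norm := nc) P * (t + 1) * hq * ((g : E) + 1) + hP * g * (g + 1)
  have e2 : P * (t - 1) * ((g : E) ^ 3 - 1) = 0 := by
    linear_combination (norm := nc) P * (t - 1) * hq * ((g : E) - 1) + hP * g * (g - 1)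
  by_cases h3 : g ^ 3 = 1
  · right
    have h3' : (g : E) ^ 3 = 1 := coe_pow_eq_one h3
    rw [h3'] at e1
    have : 2 * (P * (t + 1)) = 0 := by
      linear_combination (norm := nc) e1
    have := cancel_two h2 this
    linear_combination (norm := nc) this
  · left
    have hu := pow_sub_one_isUnit hfree hg h3
    have := (hu.mul_left_eq_zero).mp e2
    linear_combination (norm := nc) this

/-- the running hypotheses -/
structure Ctx (G : Subgroup Eˣ) (i j x : Eˣ) : Prop where
  free : ∀ g ∈ G, g ≠ 1 → IsUnit ((g : E) - 1)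
  h2 : IsUnit (2 : E)
  h3 : IsUnit (3 : E)
  hi : i ∈ G
  hj : j ∈ G
  hx : x ∈ G
  frame : QFrame (i : E) (j : E)
  hxe : 2 * (x : E) + 1 = ev (i : E) (j : E) 0 1 1 1
  hord : ∀ y ∈ G, ∀ w ∈ G, orderOf y = 3 → orderOf w = 3 →
    (orderOf (y * w) = 1 ∨ orderOf (y * w) = 3 ∨ orderOf (y * w) = 4 ∨
      orderOf (y * w) = 6 ∨ orderOf (y * w) = 10)

section ctx
variable {G : Subgroup Eˣ} {i j x : Eˣ} (C : Ctx G i j x)
include C

theorem inv_i : ((i⁻¹ : Eˣ) : E) = -i := by
  have h1 : (i : E) * (-i) = 1 := by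
    rw [mul_neg, C.frame.ii, neg_neg]
  calc ((i⁻¹ : Eˣ) : E) = ((i⁻¹ : Eˣ) : E) * ((i : E) * (-i)) := by rw [h1, mul_one]
    _ = _ := by rw [← mul_assoc, Units.inv_mul, one_mul]

theorem inv_j : ((j⁻¹ : Eˣ) : E) = -j := by
  have h1 : (j : E) * (-j) = 1 := by
    rw [mul_neg, C.frame.jj, neg_neg]
  calc ((j⁻¹ : Eˣ) : E) = ((j⁻¹ : Eˣ) : E) * ((j : E) * (-j)) := by rw [h1, mul_one]
    _ = _ := by rw [← mul_assoc, Units.inv_mul, one_mul]

theorem conj_i_eq {w : Eˣ} {z a b c : E} (hz : Cen (i : E) j z) (ha : Cen (i : E) j a)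
    (hb : Cen (i : E) j b) (hc : Cen (i : E) j c)
    (hw : 2 * (w : E) + 1 = ev (i : E) j z a b c) :
    2 * ((i * w * i⁻¹ : Eˣ) : E) + 1 = ev (i : E) j z a (-b) (-c) := by
  rw [Units.val_mul, Units.val_mul, inv_i C, ← conj_i C.frame hz ha hb hc, ← hw]
  have h1 : (i : E) * (-i) = 1 := by
    rw [mul_neg, C.frame.ii, neg_neg]
  linear_combination (norm := nc) -h1

theorem conj_j_eq {w : Eˣ} {z a b c : E} (hz : Cen (i : E) j z) (ha : Cen (i : E) j a)
    (hb : Cen (i : E) j b) (hc : Cen (i : E) j c)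
    (hw : 2 * (w : E) + 1 = ev (i : E) j z a b c) :
    2 * ((j * w * j⁻¹ : Eˣ) : E) + 1 = ev (i : E) j z (-a) b (-c) := by
  rw [Units.val_mul, Units.val_mul, inv_j C, ← conj_j C.frame hz ha hb hc, ← hw]
  have h1 : (j : E) * (-j) = 1 := by
    rw [mul_neg, C.frame.jj, neg_neg]
  linear_combination (norm := nc) -h1

theorem conj_x_eq {w : Eˣ} {z a b c : E} (hz : Cen (i : E) j z) (ha : Cen (i : E) j a)
    (hb : Cen (i : E) j b) (hc : Cen (i : E) j c)
    (hw : 2 * (w : E) + 1 = ev (i : E) j z a b c) :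
    2 * ((x * w * x⁻¹ : Eˣ) : E) + 1 = ev (i : E) j z b c a := by
  have h1 := conj_x C.frame hz ha hb hc
  have h3 : ev (i : E) j (-1) 1 1 1 = 2 * x := by
    have := C.hxe
    have e : ev (i : E) j (-1) 1 1 1 = ev (i : E) j 0 1 1 1 - 1 := by unfold ev; nc
    rw [e, ← this]; nc
  rw [h3, ← hw] at h1
  have h4 : 2 * ((x : E) * (2 * w + 1) - ev (i : E) j z b c a * x) = 0 := by
    linear_combination (norm := nc) h1
  have h5 := cancel_two C.h2 h4
  have h6 : (x : E) * ((x⁻¹ : Eˣ) : E) = 1 := Units.mul_inv x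
  rw [Units.val_mul, Units.val_mul]
  linear_combination (norm := nc) h5 * ((x⁻¹ : Eˣ) : E) + (ev (i : E) j z b c a - 1) * h6

omit C in
theorem order_conj {g w : Eˣ} (hw : orderOf w = 3) : orderOf (g * w * g⁻¹) = 3 := by
  have : g * w * g⁻¹ = MulAut.conj g w := by simp
  rw [this, MulEquiv.orderOf_eq, hw]

theorem order_x [Nontrivial E] : orderOf x = 3 := by
  have h1 : x ^ 3 = 1 := by
    have h2 : (2 * (x : E) + 1) * (2 * (x : E) + 1) = -3 := by
      rw [C.hxe, sq_ev C.frame Cen.zero Cen.one Cen.one Cen.one]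
      unfold ev; nc
    have h3 : (4 : E) * ((x : E) ^ 2 + x + 1) = 0 := by
      linear_combination (norm := nc) h2
    have h4 := cancel_four C.h2 h3
    apply Units.ext
    rw [Units.val_pow_eq_pow_val, Units.val_one]
    linear_combination (norm := nc) ((x : E) - 1) * h4
  have h2 : x ≠ 1 := by
    rintro rfl
    have := C.hxe
    rw [Units.val_one] at this
    have h3 : (3 : E) = ev (i : E) j 3 0 0 0 := by unfold ev; simp
    have h4 : (2 * 1 + 1 : E) = 3 := by norm_num
    rw [h4, h3] at this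
    obtain ⟨-, e1, -⟩ := ev_inj C.frame C.h2 (Cen.ofNat 3) Cen.zero Cen.zero Cen.zero Cen.zero
      Cen.one Cen.one Cen.one this
    exact zero_ne_one e1
  exact orderOf_eq_prime h1 h2

/-- value of the anticommutator with `x` -/
theorem rel1 [Nontrivial E] {w : Eˣ} (hwG : w ∈ G) (hw3 : orderOf w = 3) {z a b c : E}
    (hz : Cen (i : E) j z) (ha : Cen (i : E) j a)
    (hb : Cen (i : E) j b) (hc : Cen (i : E) j c)
    (hw : 2 * (w : E) + 1 = ev (i : E) j z a b c) {S : E}
    (hS : S = ev (i : E) j (-2 * (a + b + c)) (2 * z) (2 * z) (2 * z)) :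
    (S = 6 ∧ w = x⁻¹) ∨ (S = -6 ∧ w = x) ∨ S = -2 ∨ S = 2 ∨ S * S = 20 := by
  refine anti_cases C.free C.h2 C.hx hwG (order_x C) hw3
    (C.hord x C.hx w hwG (order_x C) hw3) ?_
  rw [hS, hw, C.hxe, anti1 C.frame hz ha hb hc]

theorem rel2 [Nontrivial E] {w : Eˣ} (hwG : w ∈ G) (hw3 : orderOf w = 3) {z a b c : E}
    (hz : Cen (i : E) j z) (ha : Cen (i : E) j a)
    (hb : Cen (i : E) j b) (hc : Cen (i : E) j c)
    (hw : 2 * (w : E) + 1 = ev (i : E) j z a b c) {S : E}
    (hS : S = ev (i : E) j (-2 * (a - b - c)) (2 * z) (-2 * z) (-2 * z)) :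
    (S = 6 ∧ w = (i * x * i⁻¹)⁻¹) ∨ (S = -6 ∧ w = i * x * i⁻¹) ∨ S = -2 ∨ S = 2 ∨ S * S = 20 := by
  have h1 : i * x * i⁻¹ ∈ G := mul_mem (mul_mem C.hi C.hx) (inv_mem C.hi)
  have h2 : orderOf (i * x * i⁻¹) = 3 := order_conj (order_x C)
  refine anti_cases C.free C.h2 h1 hwG h2 hw3 (C.hord _ h1 w hwG h2 hw3) ?_
  rw [hS, hw, conj_i_eq C Cen.zero Cen.one Cen.one Cen.one C.hxe, anti2 C.frame hz ha hb hc]

theorem rel3 [Nontrivial E] {w : Eˣ} (hwG : w ∈ G) (hw3 : orderOf w = 3) {z a b c : E}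
    (hz : Cen (i : E) j z) (ha : Cen (i : E) j a)
    (hb : Cen (i : E) j b) (hc : Cen (i : E) j c)
    (hw : 2 * (w : E) + 1 = ev (i : E) j z a b c) {S : E}
    (hS : S = ev (i : E) j (-2 * (-a + b - c)) (-2 * z) (2 * z) (-2 * z)) :
    (S = 6 ∧ w = (j * x * j⁻¹)⁻¹) ∨ (S = -6 ∧ w = j * x * j⁻¹) ∨ S = -2 ∨ S = 2 ∨ S * S = 20 := by
  have h1 : j * x * j⁻¹ ∈ G := mul_mem (mul_mem C.hj C.hx) (inv_mem C.hj)
  have h2 : orderOf (j * x * j⁻¹) = 3 := order_conj (order_x C)
  refine anti_cases C.free C.h2 h1 hwG h2 hw3 (C.hord _ h1 w hwG h2 hw3) ?_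
  rw [hS, hw, conj_j_eq C Cen.zero Cen.one Cen.one Cen.one C.hxe, anti3 C.frame hz ha hb hc]

theorem rel4 [Nontrivial E] {w : Eˣ} (hwG : w ∈ G) (hw3 : orderOf w = 3) {z a b c : E}
    (hz : Cen (i : E) j z) (ha : Cen (i : E) j a)
    (hb : Cen (i : E) j b) (hc : Cen (i : E) j c)
    (hw : 2 * (w : E) + 1 = ev (i : E) j z a b c) {S : E}
    (hS : S = ev (i : E) j (-2 * (-a - b + c)) (-2 * z) (-2 * z) (2 * z)) :
    (S = 6 ∧ w = (i * (j * x * j⁻¹) * i⁻¹)⁻¹) ∨ (S = -6 ∧ w = i * (j * x * j⁻¹) * i⁻¹) ∨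
      S = -2 ∨ S = 2 ∨ S * S = 20 := by
  have h1 : i * (j * x * j⁻¹) * i⁻¹ ∈ G :=
    mul_mem (mul_mem C.hi (mul_mem (mul_mem C.hj C.hx) (inv_mem C.hj))) (inv_mem C.hi)
  have h2 : orderOf (i * (j * x * j⁻¹) * i⁻¹) = 3 := order_conj (order_conj (order_x C))
  refine anti_cases C.free C.h2 h1 hwG h2 hw3 (C.hord _ h1 w hwG h2 hw3) ?_
  have h3 := conj_j_eq C Cen.zero Cen.one Cen.one Cen.one C.hxe
  have h4 := conj_i_eq C Cen.zero Cen.one.neg Cen.one Cen.one.neg h3
  rw [neg_neg] at h4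
  rw [hS, hw, h4, anti4 C.frame hz ha hb hc]

/-- Claim 1: the `1`-component vanishes -/
theorem claim1 [Nontrivial E] {w : Eˣ} (hwG : w ∈ G) (hw3 : orderOf w = 3) {z a b c : E}
    (hz : Cen (i : E) j z) (ha : Cen (i : E) j a)
    (hb : Cen (i : E) j b) (hc : Cen (i : E) j c)
    (hw : 2 * (w : E) + 1 = ev (i : E) j z a b c) : z = 0 := by
  have C2 : Cen (i : E) j (2 : E) := Cen.ofNat 2
  -- scalar anticommutators force `z = 0`
  have key : ∀ {s p q r n : E}, Cen (i : E) j s → Cen (i : E) j p → Cen (i : E) j q →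
      Cen (i : E) j r → Cen (i : E) j n → (p = 2 * z ∨ p = -2 * z) →
      ev (i : E) j s p q r = n → z = 0 := by
    intro s p q r n hs hp hq hr hn hpz he
    rw [← ev_scalar (i := (i : E)) (j := (j : E)) (a := n)] at he
    obtain ⟨-, e, -⟩ := ev_inj C.frame C.h2 hs hp hq hr hn Cen.zero Cen.zero Cen.zero he
    rcases hpz with rfl | rfl
    · exact cancel_two C.h2 e
    · apply cancel_two C.h2
      linear_combination (norm := nc) -e
  have s1 := rel1 C hwG hw3 hz ha hb hc hw rfl
  have s2 := rel2 C hwG hw3 hz ha hb hc hw rfl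
  have s3 := rel3 C hwG hw3 hz ha hb hc hw rfl
  have s4 := rel4 C hwG hw3 hz ha hb hc hw rfl
  have z2 : Cen (i : E) j (2 * z) := C2.mul hz
  have zm2 : Cen (i : E) j (-2 * z) := C2.neg.mul hz
  have t1 : Cen (i : E) j (-2 * (a + b + c)) := C2.neg.mul ((ha.add hb).add hc)
  have t2 : Cen (i : E) j (-2 * (a - b - c)) := C2.neg.mul ((ha.sub hb).sub hc)
  have t3 : Cen (i : E) j (-2 * (-a + b - c)) := C2.neg.mul ((ha.neg.add hb).sub hc)
  have t4 : Cen (i : E) j (-2 * (-a - b + c)) := C2.neg.mul ((ha.neg.sub hb).add hc)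
  rcases s1 with ⟨s1, -⟩ | ⟨s1, -⟩ | s1 | s1 | s1
  · exact key t1 z2 z2 z2 (Cen.ofNat 6) (Or.inl rfl) s1
  · exact key t1 z2 z2 z2 (Cen.ofNat 6).neg (Or.inl rfl) s1
  · exact key t1 z2 z2 z2 (Cen.ofNat 2).neg (Or.inl rfl) s1
  · exact key t1 z2 z2 z2 (Cen.ofNat 2) (Or.inl rfl) s1
  rcases s2 with ⟨s2, -⟩ | ⟨s2, -⟩ | s2 | s2 | s2
  · exact key t2 z2 zm2 zm2 (Cen.ofNat 6) (Or.inl rfl) s2
  · exact key t2 z2 zm2 zm2 (Cen.ofNat 6).neg (Or.inl rfl) s2
  · exact key t2 z2 zm2 zm2 (Cen.ofNat 2).neg (Or.inl rfl) s2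
  · exact key t2 z2 zm2 zm2 (Cen.ofNat 2) (Or.inl rfl) s2
  rcases s3 with ⟨s3, -⟩ | ⟨s3, -⟩ | s3 | s3 | s3
  · exact key t3 zm2 z2 zm2 (Cen.ofNat 6) (Or.inr rfl) s3
  · exact key t3 zm2 z2 zm2 (Cen.ofNat 6).neg (Or.inr rfl) s3
  · exact key t3 zm2 z2 zm2 (Cen.ofNat 2).neg (Or.inr rfl) s3
  · exact key t3 zm2 z2 zm2 (Cen.ofNat 2) (Or.inr rfl) s3
  rcases s4 with ⟨s4, -⟩ | ⟨s4, -⟩ | s4 | s4 | s4
  · exact key t4 zm2 zm2 z2 (Cen.ofNat 6) (Or.inr rfl) s4
  · exact key t4 zm2 zm2 z2 (Cen.ofNat 6).neg (Or.inr rfl) s4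
  · exact key t4 zm2 zm2 z2 (Cen.ofNat 2).neg (Or.inr rfl) s4
  · exact key t4 zm2 zm2 z2 (Cen.ofNat 2) (Or.inr rfl) s4
  -- case B
  exfalso
  have hw' := poly_three C.free hwG hw3
  have hsq : ev (i : E) j z a b c * ev (i : E) j z a b c = -3 := by
    rw [← hw]; exact sq_of_three hw'
  obtain ⟨hzz, haz, hbz, hcz, hab, hba, hac, hca, hbc, hcb, hsum⟩ :=
    caseB C.frame C.h2 hz ha hb hc hsq s1 s2 s3 s4
  have hwinv := inv_three hw'
  -- the two `traces`
  have hii := C.frame.ii
  have hjj := C.frame.jj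
  have hji := C.frame.ji
  have tj : 2 * (-b + z * j) = (j : E) * ev (i : E) j z a b c + ev (i : E) j z a b c * j := by
    unfold ev
    have e1 := hz.2
    have e2 := ha.2
    have e3 := hb.2
    have e4 := hc.2
    have e5 : (j : E) * (c * ((i : E) * j)) = c * ((j : E) * (i * j)) := by
      rw [← mul_assoc, e4, mul_assoc]
    linear_combination (norm := nc) -e1 - e2 * i - e3 * j - e5 - a * hji - 2 * b * hjj
      - c * hji * j
  have ti : 2 * (-a + z * i) = (i : E) * ev (i : E) j z a b c + ev (i : E) j z a b c * i := by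
    unfold ev
    have e1 := hz.1
    have e2 := ha.1
    have e3 := hb.1
    have e4 := hc.1
    linear_combination (norm := nc) -e1 - e2 * i - e3 * j - e4 * ((i : E) * j) - 2 * a * hii
      - b * hji - c * i * hji
  -- the trace relation
  have rel : ∀ {u : Eˣ} {t : E}, u ∈ G → ((u⁻¹ : Eˣ) : E) = -u →
      2 * t = (u : E) * ev (i : E) j z a b c + ev (i : E) j z a b c * u →
      ((u * w : Eˣ) : E) * ((u * w : Eˣ) : E) - t * ((u * w : Eˣ) : E) + 1 = 0 := by
    intro u t hu hui ht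
    rw [← hw] at ht
    have ht' : t = ((u * w : Eˣ) : E) + (((u * w)⁻¹ : Eˣ) : E) := by
      have : 2 * (t - (((u * w : Eˣ) : E) + (((u * w)⁻¹ : Eˣ) : E))) = 0 := by
        rw [mul_inv_rev, Units.val_mul, Units.val_mul, hwinv, hui]
        linear_combination (norm := nc) ht
      have := cancel_two C.h2 this
      linear_combination (norm := nc) this
    have h1 : (((u * w)⁻¹ : Eˣ) : E) * ((u * w : Eˣ) : E) = 1 := Units.inv_mul _
    rw [ht']
    linear_combination (norm := nc) -h1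
  have relj := rel C.hj (inv_j C) tj
  have reli := rel C.hi (inv_i C) ti
  have cz0 : Cen (i : E) j (0 : E) := Cen.zero
  -- a = 0
  have haa : a * a = 0 := by
    have hP : a * a * (-b + z * j) * (-b + z * j) = a * a := by
      linear_combination (norm := nc) a * hab * b - a * hab * z * j - a * a * z * hb.2
        - a * a * hbz * j + a * hab * z * j + a * a * z * hz.2 * j + a * a * hzz * j * j
        - a * a * hjj
    have ha2 : a * a * (-b + z * j) = ev (i : E) j 0 0 (a * a * z) 0 := by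
      unfold ev
      linear_combination (norm := nc) -a * hab
    rcases scalar_of_sq C.free C.h2 (mul_mem C.hj hwG) relj hP with h1 | h1
    · rw [ha2] at h1
      replace h1 := h1.trans (ev_scalar (i := (i : E)) (j := (j : E)) (a := a * a)).symm
      obtain ⟨e, -⟩ := ev_inj C.frame C.h2 cz0 cz0 ((ha.mul ha).mul hz) cz0 (ha.mul ha) cz0 cz0 cz0 h1
      exact e.symm
    · rw [ha2] at h1
      replace h1 := h1.trans (ev_scalar (i := (i : E)) (j := (j : E)) (a := -(a * a))).symm
      obtain ⟨e, -⟩ := ev_inj C.frame C.h2 cz0 cz0 ((ha.mul ha).mul hz) cz0 (ha.mul ha).neg cz0 cz0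
        cz0 h1
      linear_combination (norm := nc) e
  have hbb : b * b = 0 := by
    have hP : b * b * (-a + z * i) * (-a + z * i) = b * b := by
      linear_combination (norm := nc) b * hba * a - b * hba * z * i - b * b * z * ha.1
        - b * b * haz * i + b * hba * z * i + b * b * z * hz.1 * i + b * b * hzz * i * i
        - b * b * hii
    have ha2 : b * b * (-a + z * i) = ev (i : E) j 0 (b * b * z) 0 0 := by
      unfold ev
      linear_combination (norm := nc) -b * hba
    rcases scalar_of_sq C.free C.h2 (mul_mem C.hi hwG) reli hP with h1 | h1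
    · rw [ha2] at h1
      replace h1 := h1.trans (ev_scalar (i := (i : E)) (j := (j : E)) (a := b * b)).symm
      obtain ⟨e, -⟩ := ev_inj C.frame C.h2 cz0 ((hb.mul hb).mul hz) cz0 cz0 (hb.mul hb) cz0 cz0 cz0 h1
      exact e.symm
    · rw [ha2] at h1
      replace h1 := h1.trans (ev_scalar (i := (i : E)) (j := (j : E)) (a := -(b * b))).symm
      obtain ⟨e, -⟩ := ev_inj C.frame C.h2 cz0 ((hb.mul hb).mul hz) cz0 cz0 (hb.mul hb).neg cz0 cz0
        cz0 h1
      linear_combination (norm := nc) e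
  have hcc : c * c = 0 := by
    have hP : c * c * (-a + z * i) * (-a + z * i) = c * c := by
      linear_combination (norm := nc) c * hca * a - c * hca * z * i - c * c * z * ha.1
        - c * c * haz * i + c * hca * z * i + c * c * z * hz.1 * i + c * c * hzz * i * i
        - c * c * hii
    have ha2 : c * c * (-a + z * i) = ev (i : E) j 0 (c * c * z) 0 0 := by
      unfold ev
      linear_combination (norm := nc) -c * hca
    rcases scalar_of_sq C.free C.h2 (mul_mem C.hi hwG) reli hP with h1 | h1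
    · rw [ha2] at h1
      replace h1 := h1.trans (ev_scalar (i := (i : E)) (j := (j : E)) (a := c * c)).symm
      obtain ⟨e, -⟩ := ev_inj C.frame C.h2 cz0 ((hc.mul hc).mul hz) cz0 cz0 (hc.mul hc) cz0 cz0 cz0 h1
      exact e.symm
    · rw [ha2] at h1
      replace h1 := h1.trans (ev_scalar (i := (i : E)) (j := (j : E)) (a := -(c * c))).symm
      obtain ⟨e, -⟩ := ev_inj C.frame C.h2 cz0 ((hc.mul hc).mul hz) cz0 cz0 (hc.mul hc).neg cz0 cz0
        cz0 h1
      linear_combination (norm := nc) e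
  rw [haa, hbb, hcc] at hsum
  have h0 : (2 : E) = 0 := by rw [← hsum]; simp
  have := C.h2
  rw [h0] at this
  exact not_isUnit_zero this

end ctx

end Cfsg.Agent.PermutationGroups.ZassClaim
end

-- part: PermutationGroups/ZassComm
section
set_option autoImplicit false

/-!
# The commutative part of the analysis of elements of order three
-/

namespace Cfsg.Agent.PermutationGroups.ZassComm

/-- the golden condition on two coordinates -/
def Gold {R : Type*} [Ring R] (u v : R) : Prop :=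
  (u * u = u + 1 ∧ (v = u - 1 ∨ v = 1 - u)) ∨ (u * u = 1 - u ∧ (v = -u - 1 ∨ v = 1 + u))

variable {R : Type*} [CommRing R] [Nontrivial R]

/-- coordinates `(0, b, c)` with `b + c = ±1` -/
theorem gold_of_sum (h2 : ∀ r : R, 2 * r = 0 → r = 0) {b c : R} (hs : b * b + c * c = 3)
    (h : b + c = 1 ∨ b + c = -1 ∨ b - c = 1 ∨ b - c = -1) : Gold b c := by
  rcases h with h | h | h | h
  · left
    have hc : c = 1 - b := by linear_combination h
    refine ⟨?_, Or.inr hc⟩
    subst hc
    have : 2 * (b * b - (b + 1)) = 0 := by linear_combination hs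
    linear_combination h2 _ this
  · right
    have hc : c = -b - 1 := by linear_combination h
    refine ⟨?_, Or.inl hc⟩
    subst hc
    have : 2 * (b * b - (1 - b)) = 0 := by linear_combination hs
    linear_combination h2 _ this
  · left
    have hc : c = b - 1 := by linear_combination -h
    refine ⟨?_, Or.inl hc⟩
    subst hc
    have : 2 * (b * b - (b + 1)) = 0 := by linear_combination hs
    linear_combination h2 _ this
  · right
    have hc : c = 1 + b := by linear_combination -h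
    refine ⟨?_, Or.inr hc⟩
    subst hc
    have : 2 * (b * b - (1 - b)) = 0 := by linear_combination hs
    linear_combination h2 _ this

/-- bad case: `a = ±1`, `b + c = 0` (or `b - c = 0`), with `σ² = 5`. -/
theorem bad (h2 : ∀ r : R, 2 * r = 0 → r = 0) {a b c : R} (hs : a * a + b * b + c * c = 3)
    (ha : a = 1 ∨ a = -1) (hbc : c = -b ∨ c = b)
    (h : (a + 2 * b) * (a + 2 * b) = 5 ∨ (a - 2 * b) * (a - 2 * b) = 5) : False := by
  have haa : a * a = 1 := by rcases ha with rfl | rfl <;> ring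
  have hcc : c * c = b * b := by rcases hbc with rfl | rfl <;> ring
  have hbb : b * b = 1 := by
    have : 2 * (b * b - 1) = 0 := by linear_combination hs - haa - hcc
    linear_combination h2 _ this
  have hab : a * b = 0 := by
    apply h2; apply h2
    rcases h with h | h
    · linear_combination h - haa - 4 * hbb
    · linear_combination -h + haa + 4 * hbb
  have : (1 : R) = 0 := by
    linear_combination -haa * (b * b) - hbb + hab * (a * b)
  exact one_ne_zero this

theorem classify (h2 : ∀ r : R, 2 * r = 0 → r = 0) {a b c : R} (hs : a * a + b * b + c * c = 3)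
    (h1 : a + b + c = 1 ∨ a + b + c = -1 ∨ (a + b + c) * (a + b + c) = 5)
    (h2' : a - b - c = 1 ∨ a - b - c = -1 ∨ (a - b - c) * (a - b - c) = 5)
    (h3 : -a + b - c = 1 ∨ -a + b - c = -1 ∨ (-a + b - c) * (-a + b - c) = 5)
    (h4 : -a - b + c = 1 ∨ -a - b + c = -1 ∨ (-a - b + c) * (-a - b + c) = 5) :
    (a = 0 ∧ Gold b c) ∨ (b = 0 ∧ Gold c a) ∨ (c = 0 ∧ Gold a b) := by
  have n8 : (8 : R) ≠ 0 := by
    intro h
    have e1 : (2 : R) * 4 = 0 := by linear_combination h
    have e2 : (2 : R) * 2 = 0 := by linear_combination h2 _ e1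
    have e3 : (2 : R) * 1 = 0 := by linear_combination h2 _ e2
    exact one_ne_zero (h2 _ e3)
  have n4 : (4 : R) ≠ 0 := by
    intro h
    exact n8 (by linear_combination 2 * h)
  have sq : ∀ {s : R}, (s = 1 ∨ s = -1) → s * s = 1 := by
    rintro s (rfl | rfl) <;> ring
  have tot : (a + b + c) * (a + b + c) + (a - b - c) * (a - b - c) +
      (-a + b - c) * (-a + b - c) + (-a - b + c) * (-a - b + c) = 12 := by
    linear_combination 4 * hs
  -- regroup
  rw [← or_assoc] at h1 h2' h3 h4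
  rcases h1 with h1 | h1 <;> rcases h2' with k2 | k2 <;> rcases h3 with k3 | k3 <;>
    rcases h4 with k4 | k4
  · -- all ±1
    exfalso; apply n8
    linear_combination -tot + sq h1 + sq k2 + sq k3 + sq k4
  · exfalso; apply n4
    linear_combination -tot + sq h1 + sq k2 + sq k3 + k4
  · exfalso; apply n4
    linear_combination -tot + sq h1 + sq k2 + k3 + sq k4
  · -- pair (1,2)
    rcases h1 with h1 | h1 <;> rcases k2 with k2 | k2
    · exfalso
      have ha : a = 1 := by
        have : 2 * (a - 1) = 0 := by linear_combination h1 + k2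
        linear_combination h2 _ this
      have hc : c = -b := by linear_combination h1 - ha
      refine bad h2 hs (Or.inl ha) (Or.inl hc) (Or.inr ?_)
      rw [hc] at k3
      linear_combination k3
    · left
      have ha : a = 0 := h2 _ (by linear_combination h1 + k2)
      refine ⟨ha, gold_of_sum h2 (by rw [ha] at hs; linear_combination hs) (Or.inl ?_)⟩
      linear_combination h1 - ha
    · left
      have ha : a = 0 := h2 _ (by linear_combination h1 + k2)
      refine ⟨ha, gold_of_sum h2 (by rw [ha] at hs; linear_combination hs) (Or.inr (Or.inl ?_))⟩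
      linear_combination h1 - ha
    · exfalso
      have ha : a = -1 := by
        have : 2 * (a + 1) = 0 := by linear_combination h1 + k2
        linear_combination h2 _ this
      have hc : c = -b := by linear_combination h1 - ha
      refine bad h2 hs (Or.inr ha) (Or.inl hc) (Or.inr ?_)
      rw [hc] at k3
      linear_combination k3
  · exfalso; apply n4
    linear_combination -tot + sq h1 + k2 + sq k3 + sq k4
  · -- pair (1,3)
    rcases h1 with h1 | h1 <;> rcases k3 with k3 | k3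
    · exfalso
      have hb : b = 1 := by
        have : 2 * (b - 1) = 0 := by linear_combination h1 + k3
        linear_combination h2 _ this
      have hc : a = -c := by linear_combination h1 - hb
      refine bad (a := b) (b := c) (c := a) h2 (by linear_combination hs) (Or.inl hb) (Or.inl hc)
        (Or.inl ?_)
      rw [hc] at k2
      linear_combination k2
    · right; left
      have hb : b = 0 := h2 _ (by linear_combination h1 + k3)
      refine ⟨hb, gold_of_sum h2 (by rw [hb] at hs; linear_combination hs) (Or.inl ?_)⟩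
      linear_combination h1 - hb
    · right; left
      have hb : b = 0 := h2 _ (by linear_combination h1 + k3)
      refine ⟨hb, gold_of_sum h2 (by rw [hb] at hs; linear_combination hs) (Or.inr (Or.inl ?_))⟩
      linear_combination h1 - hb
    · exfalso
      have hb : b = -1 := by
        have : 2 * (b + 1) = 0 := by linear_combination h1 + k3
        linear_combination h2 _ this
      have hc : a = -c := by linear_combination h1 - hb
      refine bad (a := b) (b := c) (c := a) h2 (by linear_combination hs) (Or.inr hb) (Or.inl hc)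
        (Or.inl ?_)
      rw [hc] at k2
      linear_combination k2
  · -- pair (1,4)
    rcases h1 with h1 | h1 <;> rcases k4 with k4 | k4
    · exfalso
      have hb : c = 1 := by
        have : 2 * (c - 1) = 0 := by linear_combination h1 + k4
        linear_combination h2 _ this
      have hc : b = -a := by linear_combination h1 - hb
      refine bad (a := c) (b := a) (c := b) h2 (by linear_combination hs) (Or.inl hb) (Or.inl hc)
        (Or.inr ?_)
      rw [hc] at k2
      linear_combination k2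
    · right; right
      have hb : c = 0 := h2 _ (by linear_combination h1 + k4)
      refine ⟨hb, gold_of_sum h2 (by rw [hb] at hs; linear_combination hs) (Or.inl ?_)⟩
      linear_combination h1 - hb
    · right; right
      have hb : c = 0 := h2 _ (by linear_combination h1 + k4)
      refine ⟨hb, gold_of_sum h2 (by rw [hb] at hs; linear_combination hs) (Or.inr (Or.inl ?_))⟩
      linear_combination h1 - hb
    · exfalso
      have hb : c = -1 := by
        have : 2 * (c + 1) = 0 := by linear_combination h1 + k4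
        linear_combination h2 _ this
      have hc : b = -a := by linear_combination h1 - hb
      refine bad (a := c) (b := a) (c := b) h2 (by linear_combination hs) (Or.inr hb) (Or.inl hc)
        (Or.inr ?_)
      rw [hc] at k2
      linear_combination k2
  · -- 1 only
    exfalso; apply n4
    linear_combination tot - sq h1 - k2 - k3 - k4
  · exfalso; apply n4
    linear_combination -tot + h1 + sq k2 + sq k3 + sq k4
  · -- pair (2,3): sum = -2c
    rcases k2 with k2 | k2 <;> rcases k3 with k3 | k3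
    · exfalso
      have hb : c = -1 := by
        have : 2 * (c + 1) = 0 := by linear_combination -k2 - k3
        linear_combination h2 _ this
      have hc : b = a := by linear_combination -k2 - hb
      refine bad (a := c) (b := a) (c := b) h2 (by linear_combination hs) (Or.inr hb) (Or.inr hc)
        (Or.inl ?_)
      rw [hc] at h1
      linear_combination h1
    · right; right
      have hb : c = 0 := h2 _ (by linear_combination -k2 - k3)
      refine ⟨hb, gold_of_sum h2 (by rw [hb] at hs; linear_combination hs)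
        (Or.inr (Or.inr (Or.inl ?_)))⟩
      linear_combination k2 + hb
    · right; right
      have hb : c = 0 := h2 _ (by linear_combination -k2 - k3)
      refine ⟨hb, gold_of_sum h2 (by rw [hb] at hs; linear_combination hs)
        (Or.inr (Or.inr (Or.inr ?_)))⟩
      linear_combination k2 + hb
    · exfalso
      have hb : c = 1 := by
        have : 2 * (c - 1) = 0 := by linear_combination -k2 - k3
        linear_combination h2 _ this
      have hc : b = a := by linear_combination -k2 - hb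
      refine bad (a := c) (b := a) (c := b) h2 (by linear_combination hs) (Or.inl hb) (Or.inr hc)
        (Or.inl ?_)
      rw [hc] at h1
      linear_combination h1
  · -- pair (2,4): sum = -2b
    rcases k2 with k2 | k2 <;> rcases k4 with k4 | k4
    · exfalso
      have hb : b = -1 := by
        have : 2 * (b + 1) = 0 := by linear_combination -k2 - k4
        linear_combination h2 _ this
      have hc : a = c := by linear_combination k2 + hb
      refine bad (a := b) (b := c) (c := a) h2 (by linear_combination hs) (Or.inr hb) (Or.inr hc)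
        (Or.inl ?_)
      rw [hc] at h1
      linear_combination h1
    · right; left
      have hb : b = 0 := h2 _ (by linear_combination -k2 - k4)
      refine ⟨hb, gold_of_sum h2 (by rw [hb] at hs; linear_combination hs)
        (Or.inr (Or.inr (Or.inr ?_)))⟩
      linear_combination -k2 - hb
    · right; left
      have hb : b = 0 := h2 _ (by linear_combination -k2 - k4)
      refine ⟨hb, gold_of_sum h2 (by rw [hb] at hs; linear_combination hs)
        (Or.inr (Or.inr (Or.inl ?_)))⟩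
      linear_combination -k2 - hb
    · exfalso
      have hb : b = 1 := by
        have : 2 * (b - 1) = 0 := by linear_combination -k2 - k4
        linear_combination h2 _ this
      have hc : a = c := by linear_combination k2 + hb
      refine bad (a := b) (b := c) (c := a) h2 (by linear_combination hs) (Or.inl hb) (Or.inr hc)
        (Or.inl ?_)
      rw [hc] at h1
      linear_combination h1
  · exfalso; apply n4
    linear_combination tot - h1 - sq k2 - k3 - k4
  · -- pair (3,4): sum = -2a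
    rcases k3 with k3 | k3 <;> rcases k4 with k4 | k4
    · exfalso
      have hb : a = -1 := by
        have : 2 * (a + 1) = 0 := by linear_combination -k3 - k4
        linear_combination h2 _ this
      have hc : c = b := by linear_combination -k3 - hb
      refine bad (a := a) (b := b) (c := c) h2 (by linear_combination hs) (Or.inr hb) (Or.inr hc)
        (Or.inl ?_)
      rw [hc] at h1
      linear_combination h1
    · left
      have hb : a = 0 := h2 _ (by linear_combination -k3 - k4)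
      refine ⟨hb, gold_of_sum h2 (by rw [hb] at hs; linear_combination hs)
        (Or.inr (Or.inr (Or.inl ?_)))⟩
      linear_combination k3 + hb
    · left
      have hb : a = 0 := h2 _ (by linear_combination -k3 - k4)
      refine ⟨hb, gold_of_sum h2 (by rw [hb] at hs; linear_combination hs)
        (Or.inr (Or.inr (Or.inr ?_)))⟩
      linear_combination k3 + hb
    · exfalso
      have hb : a = 1 := by
        have : 2 * (a - 1) = 0 := by linear_combination -k3 - k4
        linear_combination h2 _ this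
      have hc : c = b := by linear_combination -k3 - hb
      refine bad (a := a) (b := b) (c := c) h2 (by linear_combination hs) (Or.inl hb) (Or.inr hc)
        (Or.inl ?_)
      rw [hc] at h1
      linear_combination h1
  · exfalso; apply n4
    linear_combination tot - h1 - k2 - sq k3 - k4
  · exfalso; apply n4
    linear_combination tot - h1 - k2 - k3 - sq k4
  · exfalso; apply n8
    linear_combination tot - h1 - k2 - k3 - k4

end Cfsg.Agent.PermutationGroups.ZassComm
end

-- part: PermutationGroups/ZassNormal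
section
set_option autoImplicit false

/-!
# Normal form of the elements of order three outside `SL(2,3)`
-/

namespace Cfsg.Agent.PermutationGroups.ZassNormal

open Cfsg.Agent.PermutationGroups.ZassQuat Cfsg.Agent.PermutationGroups.ZassOrders
  Cfsg.Agent.PermutationGroups.ZassFrame Cfsg.Agent.PermutationGroups.ZassClaim
  Cfsg.Agent.PermutationGroups.ZassComm

/-- noncommutative ring identities, numerals included -/
local macro "nc" : tactic =>
  `(tactic| ((try simp only [n2, n3, n4, n5, n6, n8, n10, n12, n16, n20]); noncomm_ring))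

variable {E : Type*} [Ring E] [Nontrivial E]

theorem classify' (h2 : IsUnit (2 : E)) {a b c : E} (hab : a * b = b * a) (hac : a * c = c * a)
    (hbc : b * c = c * b) (hs : a * a + b * b + c * c = 3)
    (h1 : a + b + c = 1 ∨ a + b + c = -1 ∨ (a + b + c) * (a + b + c) = 5)
    (h2' : a - b - c = 1 ∨ a - b - c = -1 ∨ (a - b - c) * (a - b - c) = 5)
    (h3 : -a + b - c = 1 ∨ -a + b - c = -1 ∨ (-a + b - c) * (-a + b - c) = 5)
    (h4 : -a - b + c = 1 ∨ -a - b + c = -1 ∨ (-a - b + c) * (-a - b + c) = 5) :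
    (a = 0 ∧ Gold b c) ∨ (b = 0 ∧ Gold c a) ∨ (c = 0 ∧ Gold a b) := by
  have hcomm : ∀ x ∈ ({a, b, c} : Set E), ∀ y ∈ ({a, b, c} : Set E), x * y = y * x := by
    rintro x (rfl | rfl | rfl) y (rfl | rfl | rfl) <;>
      first | rfl | assumption | (symm; assumption)
  letI := Subring.closureCommRingOfComm hcomm
  have ha : a ∈ Subring.closure ({a, b, c} : Set E) := Subring.subset_closure (by simp)
  have hb : b ∈ Subring.closure ({a, b, c} : Set E) := Subring.subset_closure (by simp)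
  have hc : c ∈ Subring.closure ({a, b, c} : Set E) := Subring.subset_closure (by simp)
  have tr : ∀ {x y : Subring.closure ({a, b, c} : Set E)}, (x : E) = y → x = y :=
    fun {x y} h => Subtype.ext h
  have key := classify (R := Subring.closure ({a, b, c} : Set E)) (a := ⟨a, ha⟩) (b := ⟨b, hb⟩)
    (c := ⟨c, hc⟩) (fun r hr => tr (cancel_two h2 (congrArg Subtype.val hr)))
    (tr hs) (h1.imp tr (Or.imp tr tr)) (h2'.imp tr (Or.imp tr tr)) (h3.imp tr (Or.imp tr tr))
    (h4.imp tr (Or.imp tr tr))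
  have bk : ∀ {x y : Subring.closure ({a, b, c} : Set E)}, x = y → (x : E) = y :=
    fun {x y} h => congrArg Subtype.val h
  rcases key with ⟨k, g⟩ | ⟨k, g⟩ | ⟨k, g⟩
  · exact Or.inl ⟨bk k, g.imp (And.imp bk (Or.imp bk bk)) (And.imp bk (Or.imp bk bk))⟩
  · exact Or.inr (Or.inl ⟨bk k, g.imp (And.imp bk (Or.imp bk bk)) (And.imp bk (Or.imp bk bk))⟩)
  · exact Or.inr (Or.inr ⟨bk k, g.imp (And.imp bk (Or.imp bk bk)) (And.imp bk (Or.imp bk bk))⟩)

section ctx
variable {G : Subgroup Eˣ} {i j x : Eˣ} (C : Ctx G i j x)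
include C

/-- normal form of the coordinates of an element of order three -/
theorem claim2 {w : Eˣ} (hwG : w ∈ G) (hw3 : orderOf w = 3)
    (hwL : w ∉ Subgroup.closure ({i, j, x} : Set Eˣ)) {z a b c : E}
    (hz : Cen (i : E) j z) (ha : Cen (i : E) j a)
    (hb : Cen (i : E) j b) (hc : Cen (i : E) j c)
    (hw : 2 * (w : E) + 1 = ev (i : E) j z a b c) : z = 0 ∧
    ((a = 0 ∧ Gold b c) ∨ (b = 0 ∧ Gold c a) ∨ (c = 0 ∧ Gold a b)) := by
  have hz0 := claim1 C hwG hw3 hz ha hb hc hw
  subst hz0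
  refine ⟨rfl, ?_⟩
  have hiL : i ∈ Subgroup.closure ({i, j, x} : Set Eˣ) := Subgroup.subset_closure (by simp)
  have hjL : j ∈ Subgroup.closure ({i, j, x} : Set Eˣ) := Subgroup.subset_closure (by simp)
  have hxL : x ∈ Subgroup.closure ({i, j, x} : Set Eˣ) := Subgroup.subset_closure (by simp)
  have hw' := poly_three C.free hwG hw3
  have hsq : ev (i : E) j 0 a b c * ev (i : E) j 0 a b c = -3 := by
    rw [← hw]; exact sq_of_three hw'
  rw [sq_ev C.frame Cen.zero ha hb hc] at hsq
  have h3' : (-3 : E) = ev (i : E) j (-3) 0 0 0 := by unfold ev; simp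
  rw [h3'] at hsq
  obtain ⟨f1, f2, f3, f4⟩ := ev_inj C.frame C.h2
    (((hz.mul hz).sub (ha.mul ha)).sub (hb.mul hb) |>.sub (hc.mul hc))
    (((hz.mul ha).add (ha.mul hz)).add ((hb.mul hc).sub (hc.mul hb)))
    (((hz.mul hb).add (hb.mul hz)).add ((hc.mul ha).sub (ha.mul hc)))
    (((hz.mul hc).add (hc.mul hz)).add ((ha.mul hb).sub (hb.mul ha)))
    (Cen.ofNat 3).neg Cen.zero Cen.zero Cen.zero hsq
  have C2 : Cen (i : E) j (2 : E) := Cen.ofNat 2
  -- reading off the scalar relations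
  have read : ∀ {s : E} {P Q : Prop}, ¬ P → ¬ Q →
      (((-2 * s = 6 ∧ P) ∨ (-2 * s = -6 ∧ Q) ∨ -2 * s = -2 ∨ -2 * s = 2 ∨
        (-2 * s) * (-2 * s) = 20) → (s = 1 ∨ s = -1 ∨ s * s = 5)) := by
    intro s P Q hP hQ h
    rcases h with ⟨-, h⟩ | ⟨-, h⟩ | h | h | h
    · exact absurd h hP
    · exact absurd h hQ
    · left
      have : 2 * (s - 1) = 0 := by linear_combination (norm := nc) -h
      linear_combination (norm := nc) cancel_two C.h2 this
    · right; left
      have : 2 * (s + 1) = 0 := by linear_combination (norm := nc) -h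
      linear_combination (norm := nc) cancel_two C.h2 this
    · right; right
      have : 4 * (s * s - 5) = 0 := by linear_combination (norm := nc) h
      linear_combination (norm := nc) cancel_four C.h2 this
  have z2 : ∀ s : E, ev (i : E) j s (2 * 0) (2 * 0) (2 * 0) = s := by
    intro s; unfold ev; simp
  have z2' : ∀ s : E, ev (i : E) j s (2 * 0) (-2 * 0) (-2 * 0) = s := by
    intro s; unfold ev; simp
  have z2'' : ∀ s : E, ev (i : E) j s (-2 * 0) (2 * 0) (-2 * 0) = s := by
    intro s; unfold ev; simp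
  have z2''' : ∀ s : E, ev (i : E) j s (-2 * 0) (-2 * 0) (2 * 0) = s := by
    intro s; unfold ev; simp
  have hmem : ∀ {g : Eˣ}, g ∈ Subgroup.closure ({i, j, x} : Set Eˣ) → ¬ (w = g) := by
    rintro g hg rfl; exact hwL hg
  have e2 : i * x * i⁻¹ ∈ Subgroup.closure ({i, j, x} : Set Eˣ) :=
    mul_mem (mul_mem hiL hxL) (inv_mem hiL)
  have e3 : j * x * j⁻¹ ∈ Subgroup.closure ({i, j, x} : Set Eˣ) :=
    mul_mem (mul_mem hjL hxL) (inv_mem hjL)
  have e4 : i * (j * x * j⁻¹) * i⁻¹ ∈ Subgroup.closure ({i, j, x} : Set Eˣ) :=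
    mul_mem (mul_mem hiL e3) (inv_mem hiL)
  have s1 := rel1 C hwG hw3 hz ha hb hc hw rfl
  have s2 := rel2 C hwG hw3 hz ha hb hc hw rfl
  have s3 := rel3 C hwG hw3 hz ha hb hc hw rfl
  have s4 := rel4 C hwG hw3 hz ha hb hc hw rfl
  simp only [z2, z2', z2'', z2'''] at s1 s2 s3 s4
  refine classify' C.h2 ?_ ?_ ?_ ?_ (read (hmem (inv_mem hxL)) (hmem hxL) s1)
    (read (hmem (inv_mem e2)) (hmem e2) s2) (read (hmem (inv_mem e3)) (hmem e3) s3)
    (read (hmem (inv_mem e4)) (hmem e4) s4)
  · linear_combination (norm := nc) f4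
  · linear_combination (norm := nc) -f3
  · linear_combination (norm := nc) f2
  · linear_combination (norm := nc) -f1

end ctx

end Cfsg.Agent.PermutationGroups.ZassNormal
end

-- part: PermutationGroups/ZassUnique
section
set_option autoImplicit false

/-!
# Uniqueness of the golden parameter
-/

namespace Cfsg.Agent.PermutationGroups.ZassUnique

open Cfsg.Agent.PermutationGroups.ZassQuat Cfsg.Agent.PermutationGroups.ZassOrders
  Cfsg.Agent.PermutationGroups.ZassFrame Cfsg.Agent.PermutationGroups.ZassClaim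
  Cfsg.Agent.PermutationGroups.ZassComm Cfsg.Agent.PermutationGroups.ZassNormal

/-- noncommutative ring identities, numerals included -/
local macro "nc" : tactic =>
  `(tactic| ((try simp only [n2, n3, n4, n5, n6, n8, n10, n12, n16, n20]); noncomm_ring))

variable {E : Type*} [Ring E] [Nontrivial E]

section ctx
variable {G : Subgroup Eˣ} {i j x : Eˣ} (C : Ctx G i j x)
include C

/-- an element of order three outside `SL(2,3)` is conjugate to one in golden form -/
theorem exists_conj_golden {w : Eˣ} (hwG : w ∈ G) (hw3 : orderOf w = 3)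
    (hwL : w ∉ Subgroup.closure ({i, j, x} : Set Eˣ)) :
    ∃ g ∈ Subgroup.closure ({i, j, x} : Set Eˣ), ∃ φ : E, Cen (i : E) j φ ∧ φ * φ = φ + 1 ∧
      2 * ((g * w * g⁻¹ : Eˣ) : E) + 1 = ev (i : E) j 0 φ (φ - 1) 0 := by
  have hiL : i ∈ Subgroup.closure ({i, j, x} : Set Eˣ) := Subgroup.subset_closure (by simp)
  have hjL : j ∈ Subgroup.closure ({i, j, x} : Set Eˣ) := Subgroup.subset_closure (by simp)
  have hxL : x ∈ Subgroup.closure ({i, j, x} : Set Eˣ) := Subgroup.subset_closure (by simp)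
  obtain ⟨z, a, b, c, hz, ha, hb, hc, hw⟩ := exists_ev C.frame C.h2 (2 * (w : E) + 1)
  obtain ⟨rfl, h⟩ := claim2 C hwG hw3 hwL hz ha hb hc hw
  have c0 : Cen (i : E) j (0 : E) := Cen.zero
  have c1 : Cen (i : E) j (1 : E) := Cen.one
  -- the case of coordinates `(u, v, 0)`
  have key : ∀ (w' : Eˣ) (u v : E), Cen (i : E) j u → Cen (i : E) j v →
      2 * (w' : E) + 1 = ev (i : E) j 0 u v 0 → Gold u v →
      ∃ g ∈ Subgroup.closure ({i, j, x} : Set Eˣ), ∃ φ : E, Cen (i : E) j φ ∧ φ * φ = φ + 1 ∧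
      2 * ((g * w' * g⁻¹ : Eˣ) : E) + 1 = ev (i : E) j 0 φ (φ - 1) 0 := by
    intro w' u v hu hv hw' hG
    rcases hG with ⟨hu2, rfl | rfl⟩ | ⟨hu2, rfl | rfl⟩
    · refine ⟨1, one_mem _, u, hu, hu2, ?_⟩
      rw [one_mul, inv_one, mul_one, hw']
    · refine ⟨i, hiL, u, hu, hu2, ?_⟩
      rw [conj_i_eq C c0 hu hv c0 hw']
      congr 1 <;> first | nc | simp
    · refine ⟨j, hjL, -u, hu.neg, ?_, ?_⟩
      · linear_combination (norm := nc) hu2
      · rw [conj_j_eq C c0 hu hv c0 hw']
        congr 1 <;> first | nc | simp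
    · refine ⟨i * j, mul_mem hiL hjL, -u, hu.neg, ?_, ?_⟩
      · linear_combination (norm := nc) hu2
      · have h1 := conj_j_eq C c0 hu hv c0 hw'
        have h2 := conj_i_eq C c0 hu.neg hv c0.neg h1
        have h3 : i * j * w' * (i * j)⁻¹ = i * (j * w' * j⁻¹) * i⁻¹ := by group
        rw [h3, h2]
        congr 1 <;> first | nc | simp
  rcases h with ⟨rfl, hG⟩ | ⟨rfl, hG⟩ | ⟨rfl, hG⟩
  · have h1 := conj_x_eq C c0 c0 hb hc hw
    obtain ⟨g, hg, φ, hφ, hφ2, h2⟩ := key _ b c hb hc h1 hG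
    refine ⟨g * x, mul_mem hg hxL, φ, hφ, hφ2, ?_⟩
    have h3 : g * x * w * (g * x)⁻¹ = g * (x * w * x⁻¹) * g⁻¹ := by group
    rw [h3]
    exact h2
  · have h1 := conj_x_eq C c0 ha c0 hc hw
    have h1' := conj_x_eq C c0 c0 hc ha h1
    obtain ⟨g, hg, φ, hφ, hφ2, h2⟩ := key _ c a hc ha h1' hG
    refine ⟨g * (x * x), mul_mem hg (mul_mem hxL hxL), φ, hφ, hφ2, ?_⟩
    have h3 : g * (x * x) * w * (g * (x * x))⁻¹ = g * (x * (x * w * x⁻¹) * x⁻¹) * g⁻¹ := by group
    rw [h3]
    exact h2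
  · exact key w a b ha hb hw hG

/-- uniqueness of the golden parameter -/
theorem golden_unique {w w' : Eˣ} (hwG : w ∈ G) (hw3 : orderOf w = 3) (hwG' : w' ∈ G)
    (hw3' : orderOf w' = 3) {φ ρ : E} (hφ : Cen (i : E) j φ) (hρ : Cen (i : E) j ρ)
    (P : φ * φ = φ + 1) (Q : ρ * ρ = ρ + 1)
    (hw : 2 * (w : E) + 1 = ev (i : E) j 0 φ (φ - 1) 0)
    (hw' : 2 * (w' : E) + 1 = ev (i : E) j 0 ρ (ρ - 1) 0) : φ = ρ := by
  have c0 : Cen (i : E) j (0 : E) := Cen.zero
  have c1 : Cen (i : E) j (1 : E) := Cen.one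
  have hφ1 : Cen (i : E) j (φ - 1) := hφ.sub c1
  have hρ1 : Cen (i : E) j (ρ - 1) := hρ.sub c1
  set n : E := φ * ρ + ρ * φ - φ - ρ with hn
  set δ : E := φ * ρ - ρ * φ with hδ
  have hδC : Cen (i : E) j δ := (hφ.mul hρ).sub (hρ.mul hφ)
  have hnC : Cen (i : E) j n := (((hφ.mul hρ).add (hρ.mul hφ)).sub hφ).sub hρ
  have hδδ : δ * δ = n * n + n - 6 := by
    rw [hδ, hn]
    linear_combination (norm := nc) -(2 * φ * Q * φ + 2 * ρ * P * ρ + 3 * P + 3 * Q - φ * Q
      - Q * φ - ρ * P - P * ρ)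
  have h2 := C.h2
  -- no unit is zero
  have ne2 : (2 : E) ≠ 0 := fun h => not_isUnit_zero (h ▸ h2)
  have ne3 : (3 : E) ≠ 0 := fun h => not_isUnit_zero (h ▸ C.h3)
  have ne4 : (4 : E) ≠ 0 := fun h => ne2 (by
    have : 2 * (2 : E) = 0 := by linear_combination (norm := nc) h
    exact cancel_two h2 this)
  -- second pair
  have hw2 := conj_i_eq C c0 hφ hφ1 c0 hw
  have g2 : i * w * i⁻¹ ∈ G := mul_mem (mul_mem C.hi hwG) (inv_mem C.hi)
  have o2 : orderOf (i * w * i⁻¹) = 3 := order_conj hw3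
  have S2 := anti_cases C.free h2 g2 hwG' o2 hw3' (C.hord _ g2 _ hwG' o2 hw3')
    (S := ev (i : E) j (2 - 2 * φ - 2 * ρ) 0 0 (2 * δ)) (by
      rw [hw2, hw', ev_mul C.frame c0 hρ hρ1 c0, ev_mul C.frame c0 hφ hφ1.neg c0.neg, ev_add]
      rw [hδ]
      congr 1 <;> nc)
  have C2 : Cen (i : E) j (2 : E) := Cen.ofNat 2
  have cA : Cen (i : E) j (2 - 2 * φ - 2 * ρ) := (C2.sub (C2.mul hφ)).sub (C2.mul hρ)
  have cB : Cen (i : E) j (2 * δ) := C2.mul hδC
  -- scalar values are impossible
  have sc : ∀ {l : E} (m : E), Cen (i : E) j l → (l = m) →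
      ev (i : E) j (2 - 2 * φ - 2 * ρ) 0 0 (2 * δ) = l → (2 - 2 * φ - 2 * ρ = m ∧ δ = 0) := by
    rintro l m hl rfl h
    have h' := h.trans (ev_scalar (i := (i : E)) (j := (j : E)) (a := l)).symm
    obtain ⟨e1, -, -, e4⟩ := ev_inj C.frame h2 cA c0 c0 cB hl c0 c0 c0 h'
    exact ⟨e1, cancel_two h2 e4⟩
  have key2 : n * n = 4 ∨ φ = ρ := by
    have scal : ∀ l : E, (∀ y : E, l * y = y * l) → IsUnit l → 2 - 2 * φ - 2 * ρ = l →
        l * l - 20 = 0 := by
      intro l hl hu h
      -- ρ = 1 - l/2 - φ ; ρ² = ρ + 1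
      have h4 : 4 * (ρ * ρ - ρ - 1) = 0 := by rw [Q]; nc
      have hρ' : 2 * ρ = 2 - l - 2 * φ := by linear_combination (norm := nc) -h
      have e1 : (2 * ρ) * (2 * ρ) - 2 * (2 * ρ) - 4 = 0 := by
        linear_combination (norm := nc) h4
      rw [hρ'] at e1
      -- (2 - l - 2φ)² - 2(2 - l - 2φ) - 4 = l² + 4 l φ - 2 l  + 4(φ² - φ - 1)
      have e2 : l * (l + 4 * φ - 2) = 0 := by
        have := hl φ
        linear_combination (norm := nc) e1 - 4 * P + 2 * this
      have e3 : l + 4 * φ - 2 = 0 := (hu.mul_right_eq_zero).mp e2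
      have e4 : (l - 2) * (l - 2) = 16 * (φ + 1) := by
        have : l - 2 = -(4 * φ) := by linear_combination (norm := nc) e3
        rw [this]
        linear_combination (norm := nc) 16 * P
      have e5 : l * l - 4 * l + 4 = 16 * φ + 16 := by
        linear_combination (norm := nc) e4
      linear_combination (norm := nc) e5 + 4 * e3
    left
    rcases S2 with ⟨S2, -⟩ | ⟨S2, -⟩ | S2 | S2 | S2
    · exfalso
      obtain ⟨e1, -⟩ := sc 6 (Cen.ofNat 6) rfl S2
      have hu : IsUnit (6 : E) := by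
        have : (6 : E) = 2 * 3 := by norm_num
        rw [this]; exact h2.mul C.h3
      have e := scal 6 (fun y => (Nat.cast_commute 6 y).eq) hu e1
      apply ne4
      apply cancel_four h2
      linear_combination (norm := nc) e
    · exfalso
      obtain ⟨e1, -⟩ := sc (-6) (Cen.ofNat 6).neg rfl S2
      have hu : IsUnit (-6 : E) := by
        have : (-6 : E) = -(2 * 3) := by norm_num
        rw [this]; exact (h2.mul C.h3).neg
      have e := scal (-6) (fun y => by
        rw [neg_mul, mul_neg]; exact congrArg Neg.neg (Nat.cast_commute 6 y).eq) hu e1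
      apply ne4
      apply cancel_four h2
      linear_combination (norm := nc) e
    · exfalso
      obtain ⟨e1, -⟩ := sc (-2) (Cen.ofNat 2).neg rfl S2
      have e := scal (-2) (fun y => by
        rw [neg_mul, mul_neg]; exact congrArg Neg.neg (Nat.cast_commute 2 y).eq) h2.neg e1
      apply ne4
      apply cancel_four h2
      linear_combination (norm := nc) -e
    · exfalso
      obtain ⟨e1, -⟩ := sc 2 (Cen.ofNat 2) rfl S2
      have e := scal 2 (fun y => (Nat.cast_commute 2 y).eq) h2 e1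
      apply ne4
      apply cancel_four h2
      linear_combination (norm := nc) -e
    · rw [sq_ev C.frame cA c0 c0 cB] at S2
      have h20 : (20 : E) = ev (i : E) j 20 0 0 0 := by unfold ev; simp
      rw [h20] at S2
      obtain ⟨e1, -⟩ := ev_inj C.frame h2
        (((cA.mul cA).sub (c0.mul c0)).sub (c0.mul c0) |>.sub (cB.mul cB))
        (((cA.mul c0).add (c0.mul cA)).add ((c0.mul cB).sub (cB.mul c0)))
        (((cA.mul c0).add (c0.mul cA)).add ((cB.mul c0).sub (c0.mul cB)))
        (((cA.mul cB).add (cB.mul cA)).add ((c0.mul c0).sub (c0.mul c0)))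
        (Cen.ofNat 20) c0 c0 c0 S2
      -- S2² = 36 - 4 n²
      have e2 : 4 * (n * n - 4) = 0 := by
        have e3 : (2 - 2 * φ - 2 * ρ) * (2 - 2 * φ - 2 * ρ) = 12 + 4 * n := by
          rw [hn]
          linear_combination (norm := nc) 4 * P + 4 * Q
        linear_combination (norm := nc) -e1 + e3 - 4 * hδδ
      linear_combination (norm := nc) cancel_four h2 e2
  rcases key2 with hnn | h
  swap
  · exact h
  -- first pair
  have S1 := anti_cases C.free h2 hwG hwG' hw3 hw3' (C.hord _ hwG _ hwG' hw3 hw3')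
    (S := ev (i : E) j (-2 * n - 2) 0 0 0) (by
      rw [hw, hw', ev_mul C.frame c0 hρ hρ1 c0, ev_mul C.frame c0 hφ hφ1 c0, ev_add, hn]
      congr 1 <;> nc)
  rw [ev_scalar] at S1
  have hn2 : n = -2 ∨ φ = ρ := by
    rcases S1 with ⟨S1, -⟩ | ⟨S1, h⟩ | S1 | S1 | S1
    · exfalso
      have e1 : n = -4 := by
        have : 2 * (n + 4) = 0 := by linear_combination (norm := nc) -S1
        linear_combination (norm := nc) cancel_two h2 this
      rw [e1] at hnn
      apply ne3
      apply cancel_four h2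
      linear_combination (norm := nc) hnn
    · right
      rw [h, hw] at hw'
      exact (ev_inj C.frame h2 c0 hφ hφ1 c0 c0 hρ hρ1 c0 hw').2.1
    · exfalso
      have e1 : n = 0 := by
        have : 2 * n = 0 := by linear_combination (norm := nc) -S1
        exact cancel_two h2 this
      rw [e1] at hnn
      apply ne4
      linear_combination (norm := nc) -hnn
    · left
      have : 2 * (n + 2) = 0 := by linear_combination (norm := nc) -S1
      linear_combination (norm := nc) cancel_two h2 this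
    · exfalso
      have e1 : n = 0 := by
        have : 4 * (2 * n) = 0 := by linear_combination (norm := nc) S1 - 4 * hnn
        exact cancel_two h2 (cancel_four h2 this)
      rw [e1] at hnn
      apply ne4
      linear_combination (norm := nc) -hnn
  rcases hn2 with hn2 | h
  swap
  · exact h
  exfalso
  have hδ4 : δ * δ = -4 := by
    rw [hδδ, hn2]; nc
  have hδ0 : δ ≠ 0 := by
    intro h
    rw [h] at hδ4
    apply ne4
    linear_combination (norm := nc) hδ4
  -- third pair
  have hw3a := conj_x_eq C c0 hφ hφ1 c0 hw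
  have hw3b := conj_x_eq C c0 hφ1 c0 hφ hw3a
  have g3 : x * (x * w * x⁻¹) * x⁻¹ ∈ G :=
    mul_mem (mul_mem C.hx (mul_mem (mul_mem C.hx hwG) (inv_mem C.hx))) (inv_mem C.hx)
  have o3 : orderOf (x * (x * w * x⁻¹) * x⁻¹) = 3 := order_conj (order_conj hw3)
  have S3 := anti_cases C.free h2 g3 hwG' o3 hw3' (C.hord _ g3 _ hwG' o3 hw3')
    (S := ev (i : E) j (φ - ρ - n) (-δ) δ (-δ)) (by
      rw [hw3b, hw', ev_mul C.frame c0 hρ hρ1 c0, ev_mul C.frame c0 c0 hφ hφ1, ev_add, hδ, hn]
      congr 1 <;> nc)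
  have cD : Cen (i : E) j (φ - ρ - n) := (hφ.sub hρ).sub hnC
  have sc3 : ∀ {l : E}, Cen (i : E) j l →
      ev (i : E) j (φ - ρ - n) (-δ) δ (-δ) = l → False := by
    intro l hl h
    have h' := h.trans (ev_scalar (i := (i : E)) (j := (j : E)) (a := l)).symm
    obtain ⟨-, -, e3, -⟩ := ev_inj C.frame h2 cD hδC.neg hδC hδC.neg hl c0 c0 c0 h'
    exact hδ0 e3
  rcases S3 with ⟨S3, -⟩ | ⟨S3, -⟩ | S3 | S3 | S3
  · exact sc3 (Cen.ofNat 6) S3
  · exact sc3 (Cen.ofNat 6).neg S3
  · exact sc3 (Cen.ofNat 2).neg S3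
  · exact sc3 (Cen.ofNat 2) S3
  · rw [sq_ev C.frame cD hδC.neg hδC hδC.neg] at S3
    have h20 : (20 : E) = ev (i : E) j 20 0 0 0 := by unfold ev; simp
    rw [h20] at S3
    obtain ⟨-, -, e3, -⟩ := ev_inj C.frame h2
      (((cD.mul cD).sub (hδC.neg.mul hδC.neg)).sub (hδC.mul hδC) |>.sub (hδC.neg.mul hδC.neg))
      (((cD.mul hδC.neg).add (hδC.neg.mul cD)).add ((hδC.mul hδC.neg).sub (hδC.neg.mul hδC)))
      (((cD.mul hδC).add (hδC.mul cD)).add ((hδC.neg.mul hδC.neg).sub (hδC.neg.mul hδC.neg)))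
      (((cD.mul hδC.neg).add (hδC.neg.mul cD)).add ((hδC.neg.mul hδC).sub (hδC.mul hδC.neg)))
      (Cen.ofNat 20) c0 c0 c0 S3
    apply hδ0
    apply cancel_four h2
    rw [hn2] at e3
    have e4 : (φ - ρ) * δ + δ * (φ - ρ) = 0 := by
      rw [hδ]
      linear_combination (norm := nc) P * ρ - ρ * P + Q * φ - φ * Q
    linear_combination (norm := nc) e3 - e4

end ctx

end Cfsg.Agent.PermutationGroups.ZassUnique
end

-- part: PermutationGroups/ZassPair
section
set_option autoImplicit false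

/-!
# A quaternion frame from a pair of non-commuting elements of order three
-/

namespace Cfsg.Agent.PermutationGroups.ZassPair

open Cfsg.Agent.PermutationGroups.ZassQuat Cfsg.Agent.PermutationGroups.ZassOrders
  Cfsg.Agent.PermutationGroups.ZassFrame Cfsg.Agent.PermutationGroups.ZassClaim

/-- noncommutative ring identities, numerals included -/
local macro "nc" : tactic =>
  `(tactic| ((try simp only [n2, n3, n4, n5, n6, n8, n10, n12, n16, n20]); noncomm_ring))

variable {E : Type*} [Ring E] [Nontrivial E]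

/-- from two elements of order three generating a non-cyclic group one gets two whose product has
order four -/
theorem exists_pair {G : Subgroup Eˣ} (hfree : ∀ g ∈ G, g ≠ 1 → IsUnit ((g : E) - 1))
    (h2 : IsUnit (2 : E))
    (hord : ∀ y ∈ G, ∀ w ∈ G, orderOf y = 3 → orderOf w = 3 →
      (orderOf (y * w) = 1 ∨ orderOf (y * w) = 3 ∨ orderOf (y * w) = 4 ∨
        orderOf (y * w) = 6 ∨ orderOf (y * w) = 10))
    {x y : Eˣ} (hxG : x ∈ G) (hyG : y ∈ G) (hx3 : orderOf x = 3) (hy3 : orderOf y = 3)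
    (hne : y ≠ x) (hne' : y ≠ x⁻¹) :
    ∃ y' ∈ G, orderOf y' = 3 ∧ (x : E) * y' + y' * x + x + y' + 1 = 0 := by
  have hx := poly_three hfree hxG hx3
  have hy := poly_three hfree hyG hy3
  have hyi := inv_three hy
  have conv : ∀ v : E, (2 * (x : E) + 1) * (2 * v + 1) + (2 * v + 1) * (2 * (x : E) + 1) = -2 →
      (x : E) * v + v * x + x + v + 1 = 0 := by
    intro v hv
    apply cancel_four h2
    linear_combination (norm := nc) hv
  rcases anti_cases hfree h2 hxG hyG hx3 hy3 (hord x hxG y hyG hx3 hy3) rfl with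
    ⟨-, h⟩ | ⟨-, h⟩ | h | h | h
  · exact absurd h hne'
  · exact absurd h hne
  · exact ⟨y, hyG, hy3, conv y h⟩
  · refine ⟨y⁻¹, inv_mem hyG, by rw [orderOf_inv, hy3], conv _ ?_⟩
    rw [hyi]
    linear_combination (norm := nc) -h
  · refine ⟨y * x * y⁻¹, mul_mem (mul_mem hyG hxG) (inv_mem hyG), order_conj hx3, conv _ ?_⟩
    have he : (2 * (x : E) + 1) * (2 * (x : E) + 1) = -3 := sq_of_three hx
    have hf : (2 * (y : E) + 1) * (2 * (y : E) + 1) = -3 := sq_of_three hy
    rw [Units.val_mul, Units.val_mul, hyi]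
    have hyy : (y : E) * (-y - 1) = 1 := by linear_combination (norm := nc) -hy
    obtain ⟨e, hedef⟩ : ∃ e : E, e = 2 * (x : E) + 1 := ⟨_, rfl⟩
    obtain ⟨f, hfdef⟩ : ∃ f : E, f = 2 * (y : E) + 1 := ⟨_, rfl⟩
    rw [← hedef] at he h ⊢
    rw [← hfdef] at hf h
    -- the conjugate
    have hconj : 4 * (2 * ((y : E) * x * (-y - 1)) + 1) = -((f - 1) * e * (f + 1)) := by
      rw [hfdef, hedef]
      linear_combination (norm := nc) -4 * hyy
    apply sub_eq_zero.mp
    apply cancel_four h2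
    linear_combination (norm := nc) e * hconj + hconj * e - h + e * hf * e + f * he * f - he
      - 3 * hf + he * f - f * he

/-- the frame attached to a pair -/
theorem exists_ctx {G : Subgroup Eˣ} (hfree : ∀ g ∈ G, g ≠ 1 → IsUnit ((g : E) - 1))
    (h2 : IsUnit (2 : E)) (h3 : IsUnit (3 : E))
    (hord : ∀ y ∈ G, ∀ w ∈ G, orderOf y = 3 → orderOf w = 3 →
      (orderOf (y * w) = 1 ∨ orderOf (y * w) = 3 ∨ orderOf (y * w) = 4 ∨
        orderOf (y * w) = 6 ∨ orderOf (y * w) = 10))
    {x y : Eˣ} (hxG : x ∈ G) (hyG : y ∈ G) (hx3 : orderOf x = 3) (hy3 : orderOf y = 3)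
    (hT : (x : E) * y + y * x + x + y + 1 = 0) :
    ∃ i j : Eˣ, Ctx G i j x ∧
      Subgroup.closure ({i, j, x} : Set Eˣ) = Subgroup.closure ({x, y} : Set Eˣ) := by
  have hx := poly_three hfree hxG hx3
  have hy := poly_three hfree hyG hy3
  have hyx : (y : E) * x = -(x * y) - x - y - 1 := by linear_combination (norm := nc) hT
  have hxyx : (x : E) * y * x = y + 1 := by
    linear_combination (norm := nc) (x : E) * hT - hx * (y + 1)
  have hyxy : (y : E) * x * y = x + 1 := by
    linear_combination (norm := nc) hT * (y : E) - (x + 1) * hy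
  have hsq : ((x : E) * y) * (x * y) = -1 := by
    linear_combination (norm := nc) hxyx * y + hy
  have hsq' : ((y : E) * x) * (y * x) = -1 := by
    linear_combination (norm := nc) hyxy * x + hx
  have hi : (((x * y)⁻¹ : Eˣ) : E) = -((x : E) * y) := by
    have h1 : ((x * y : Eˣ) : E) * (-((x : E) * y)) = 1 := by
      rw [Units.val_mul]
      linear_combination (norm := nc) -hsq
    calc (((x * y)⁻¹ : Eˣ) : E) = (((x * y)⁻¹ : Eˣ) : E) *
          (((x * y : Eˣ) : E) * (-((x : E) * y))) := by rw [h1, mul_one]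
      _ = _ := by rw [← mul_assoc, Units.inv_mul, one_mul]
  have hj : (((y * x)⁻¹ : Eˣ) : E) = -((y : E) * x) := by
    have h1 : ((y * x : Eˣ) : E) * (-((y : E) * x)) = 1 := by
      rw [Units.val_mul]
      linear_combination (norm := nc) -hsq'
    calc (((y * x)⁻¹ : Eˣ) : E) = (((y * x)⁻¹ : Eˣ) : E) *
          (((y * x : Eˣ) : E) * (-((y : E) * x))) := by rw [h1, mul_one]
      _ = _ := by rw [← mul_assoc, Units.inv_mul, one_mul]
  refine ⟨(x * y)⁻¹, (y * x)⁻¹, ⟨hfree, h2, h3, inv_mem (mul_mem hxG hyG),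
    inv_mem (mul_mem hyG hxG), hxG, ⟨?_, ?_, ?_⟩, ?_, hord⟩, ?_⟩
  · rw [hi]; linear_combination (norm := nc) hsq
  · rw [hj]; linear_combination (norm := nc) hsq'
  · rw [hi, hj]
    linear_combination (norm := nc) (y : E) * hx * y + (x : E) * hy * x - hxyx - hyxy - hx - hy
  · rw [hi, hj]
    unfold ev
    linear_combination (norm := nc) hT - (x : E) * hy * x + hxyx + hx
  · apply le_antisymm
    · rw [Subgroup.closure_le]
      have hx' : x ∈ Subgroup.closure ({x, y} : Set Eˣ) := Subgroup.subset_closure (by simp)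
      have hy' : y ∈ Subgroup.closure ({x, y} : Set Eˣ) := Subgroup.subset_closure (by simp)
      rintro g (rfl | rfl | rfl)
      · exact inv_mem (mul_mem hx' hy')
      · exact inv_mem (mul_mem hy' hx')
      · exact hx'
    · rw [Subgroup.closure_le]
      have hi' : (x * y)⁻¹ ∈ Subgroup.closure ({(x * y)⁻¹, (y * x)⁻¹, x} : Set Eˣ) :=
        Subgroup.subset_closure (by simp)
      have hx' : x ∈ Subgroup.closure ({(x * y)⁻¹, (y * x)⁻¹, x} : Set Eˣ) :=
        Subgroup.subset_closure (by simp)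
      rintro g (rfl | rfl)
      · exact hx'
      · have h1 := mul_mem (inv_mem hx') (inv_mem hi')
        have e : x⁻¹ * ((x * g)⁻¹)⁻¹ = g := by group
        rw [e] at h1
        exact h1

end Cfsg.Agent.PermutationGroups.ZassPair
end

-- part: PermutationGroups/ZassTetra
section
/-!
The tetrahedral case of Zassenhaus' theorem: two elements `x`, `y` of order 3 of a ring with
`x y + (x y)⁻¹ = 0` generate a copy of `SL(2, 3)`.
-/

set_option autoImplicit false
set_option linter.unusedSimpArgs false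

namespace Cfsg.Agent.PermutationGroups.ZassTetra

open Matrix

/-- coordinates in `ℤ⁴` with respect to `1, x, y, x y`. -/
structure V4 where
  /-- coefficient of `1` -/
  a : ℤ
  /-- coefficient of `x` -/
  b : ℤ
  /-- coefficient of `y` -/
  c : ℤ
  /-- coefficient of `x y` -/
  d : ℤ
deriving DecidableEq

/-- right multiplication by `x` -/
def actX (v : V4) : V4 :=
  ⟨-v.b - v.c + v.d, v.a - v.b - v.c, v.d - v.c, -v.c⟩

/-- right multiplication by `y` -/
def actY (v : V4) : V4 :=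
  ⟨-v.c, -v.d, v.a - v.c, v.b - v.d⟩

/-- evaluation -/
def ev {E : Type*} [Ring E] (x y : E) (v : V4) : E :=
  v.a • (1 : E) + v.b • x + v.c • y + v.d • (x * y)

section ring

variable {E : Type*} [Ring E] (x y : E)

theorem ev_actX (hT : x * y + y * x + x + y + 1 = 0) (hx : x * x = -1 - x)
    (v : V4) : ev x y (actX v) = ev x y v * x := by
  have h3 : y * x = - 1 - x - y - x * y := by
    have : y * x = (x * y + y * x + x + y + 1) - 1 - x - y - x * y := by abel
    rw [this, hT]; abel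
  have h5 : x * y * x = 1 + y := by
    have e1 : x * y * x = x * (y * x) := mul_assoc _ _ _
    rw [e1, h3]
    have e2 : x * (- 1 - x - y - x * y) = - x - x * x - x * y - (x * x) * y := by
      noncomm_ring
    rw [e2, hx]
    noncomm_ring
  simp only [ev, actX, add_mul, smul_mul_assoc, one_mul]
  rw [hx, h3, h5]
  module

theorem ev_actY (hyy : y * y = -1 - y) (v : V4) : ev x y (actY v) = ev x y v * y := by
  have h3 : x * y * y = -x - x * y := by rw [mul_assoc, hyy]; noncomm_ring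
  simp only [ev, actY, add_mul, smul_mul_assoc, one_mul]
  rw [hyy, h3]
  module

end ring

/-- the table -/
def tabList : List V4 := [
   ⟨0,0,0,0⟩, ⟨0,0,0,0⟩, ⟨0,0,0,0⟩, ⟨0,0,0,0⟩, ⟨0,0,0,0⟩, ⟨0,0,0,0⟩, ⟨0,0,0,0⟩, ⟨0,0,0,0⟩, ⟨0,0,0,0⟩,
   ⟨0,0,0,0⟩, ⟨0,0,0,0⟩, ⟨0,0,0,0⟩, ⟨0,0,0,0⟩, ⟨0,0,0,0⟩, ⟨0,0,0,0⟩, ⟨0,0,0,-1⟩, ⟨0,-1,0,0⟩, ⟨0,1,0,1⟩,
   ⟨0,0,0,0⟩, ⟨0,0,0,0⟩, ⟨0,0,0,0⟩, ⟨0,0,0,1⟩, ⟨0,-1,0,-1⟩, ⟨0,1,0,0⟩, ⟨0,0,0,0⟩, ⟨0,0,0,0⟩, ⟨0,0,0,0⟩,
   ⟨0,0,0,0⟩, ⟨1,0,0,0⟩, ⟨0,0,0,0⟩, ⟨0,0,0,0⟩, ⟨0,0,1,1⟩, ⟨0,0,0,0⟩, ⟨0,0,0,0⟩, ⟨-1,0,-1,-1⟩, ⟨0,0,0,0⟩,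
   ⟨0,0,0,0⟩, ⟨0,0,1,0⟩, ⟨0,0,0,0⟩, ⟨0,0,0,0⟩, ⟨0,0,0,0⟩, ⟨-1,-1,-1,-1⟩, ⟨1,1,0,1⟩, ⟨0,0,0,0⟩, ⟨0,0,0,0⟩,
   ⟨0,0,0,0⟩, ⟨-1,0,-1,0⟩, ⟨0,0,0,0⟩, ⟨1,1,0,0⟩, ⟨0,0,0,0⟩, ⟨0,0,0,0⟩, ⟨0,0,0,0⟩, ⟨0,0,0,0⟩, ⟨0,-1,1,0⟩,
   ⟨0,0,0,0⟩, ⟨0,0,0,0⟩, ⟨-1,0,0,0⟩, ⟨0,0,0,0⟩, ⟨0,0,0,0⟩, ⟨1,0,1,1⟩, ⟨0,0,0,0⟩, ⟨0,0,0,0⟩, ⟨0,0,-1,-1⟩,
   ⟨0,0,0,0⟩, ⟨0,0,0,0⟩, ⟨1,0,1,0⟩, ⟨0,0,0,0⟩, ⟨0,1,-1,0⟩, ⟨0,0,0,0⟩, ⟨-1,-1,0,0⟩, ⟨0,0,0,0⟩, ⟨0,0,0,0⟩,
   ⟨0,0,0,0⟩, ⟨0,0,0,0⟩, ⟨0,0,-1,0⟩, ⟨-1,-1,0,-1⟩, ⟨0,0,0,0⟩, ⟨0,0,0,0⟩, ⟨0,0,0,0⟩, ⟨1,1,1,1⟩, ⟨0,0,0,0⟩]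

/-- the coordinates of the element of the tetrahedral group attached to a matrix -/
def cf (a b c d : ZMod 3) : V4 :=
  tabList.getD (a.val * 27 + b.val * 9 + c.val * 3 + d.val) ⟨0,0,0,0⟩

theorem cf_one : cf 1 0 0 1 = ⟨1,0,0,0⟩ := by decide +kernel

theorem cf_X : ∀ a b c d : ZMod 3, a * d - b * c = 1 →
    cf b (-a - b) d (-c - d) = actX (cf a b c d) := by decide +kernel

theorem cf_Y : ∀ a b c d : ZMod 3, a * d - b * c = 1 →
    cf a (a + b) c (c + d) = actY (cf a b c d) := by decide +kernel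

theorem cf_inv : ∀ a b c d : ZMod 3, a * d - b * c = 1 →
    (a = 1 ∧ b = 0 ∧ c = 0 ∧ d = 1) ∨
    ((cf a b c d).b + (cf d (-b) (-c) a).b = 0 ∧
    (cf a b c d).c + (cf d (-b) (-c) a).c = 0 ∧
    (cf a b c d).d + (cf d (-b) (-c) a).d = 0 ∧
    (cf a b c d).a + (cf d (-b) (-c) a).a ∈ [(0 : ℤ), 1, -1, -2]) := by
  decide +kernel

theorem fact3 : Fact (Nat.Prime 3) := ⟨by norm_num⟩

attribute [local instance] fact3

/-- the matrix with entries `a b c d` -/
def sl (a b c d : ZMod 3) (h : a * d - b * c = 1) : SpecialLinearGroup (Fin 2) (ZMod 3) :=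
  ⟨!![a, b; c, d], by rw [Matrix.det_fin_two_of]; exact h⟩

theorem sl00 (a b c d : ZMod 3) (h : a * d - b * c = 1) : sl a b c d h 0 0 = a := rfl
theorem sl01 (a b c d : ZMod 3) (h : a * d - b * c = 1) : sl a b c d h 0 1 = b := rfl
theorem sl10 (a b c d : ZMod 3) (h : a * d - b * c = 1) : sl a b c d h 1 0 = c := rfl
theorem sl11 (a b c d : ZMod 3) (h : a * d - b * c = 1) : sl a b c d h 1 1 = d := rfl

theorem mul_entry (s t : SpecialLinearGroup (Fin 2) (ZMod 3)) (i j : Fin 2) :
    (s * t) i j = s i 0 * t 0 j + s i 1 * t 1 j := by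
  have h := congrFun (congrFun (Matrix.SpecialLinearGroup.coe_mul s t) i) j
  rw [Matrix.mul_apply, Fin.sum_univ_two] at h
  exact h

theorem ext_entry (s t : SpecialLinearGroup (Fin 2) (ZMod 3)) (h1 : s 0 0 = t 0 0)
    (h2 : s 0 1 = t 0 1) (h3 : s 1 0 = t 1 0) (h4 : s 1 1 = t 1 1) : s = t := by
  ext a b
  fin_cases a <;> fin_cases b
  · exact h1
  · exact h2
  · exact h3
  · exact h4

theorem one00 : (1 : SpecialLinearGroup (Fin 2) (ZMod 3)) 0 0 = 1 := rfl
theorem one01 : (1 : SpecialLinearGroup (Fin 2) (ZMod 3)) 0 1 = 0 := rfl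
theorem one10 : (1 : SpecialLinearGroup (Fin 2) (ZMod 3)) 1 0 = 0 := rfl
theorem one11 : (1 : SpecialLinearGroup (Fin 2) (ZMod 3)) 1 1 = 1 := rfl

/-- the matrix corresponding to `x` -/
def X3 : SpecialLinearGroup (Fin 2) (ZMod 3) := sl 0 (-1) 1 (-1) (by decide)

/-- the matrix corresponding to `y` -/
def Y3 : SpecialLinearGroup (Fin 2) (ZMod 3) := sl 1 1 0 1 (by decide)

theorem det_eq (s : SpecialLinearGroup (Fin 2) (ZMod 3)) : s 0 0 * s 1 1 - s 0 1 * s 1 0 = 1 := by
  have := s.2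
  rw [Matrix.det_fin_two] at this
  exact this

/-- upper unipotent -/
def U3 (i : ZMod 3) : SpecialLinearGroup (Fin 2) (ZMod 3) := sl 1 i 0 1 (by ring)

/-- lower unipotent -/
def L3 (i : ZMod 3) : SpecialLinearGroup (Fin 2) (ZMod 3) := sl 1 0 i 1 (by ring)

theorem U3_add (i j : ZMod 3) : U3 (i + j) = U3 i * U3 j := by
  apply ext_entry <;> simp only [mul_entry, U3, sl00, sl01, sl10, sl11] <;> ring

theorem L3_add (i j : ZMod 3) : L3 (i + j) = L3 i * L3 j := by
  apply ext_entry <;> simp only [mul_entry, L3, sl00, sl01, sl10, sl11] <;> ring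

theorem U3_one : U3 1 = Y3 := rfl

theorem L3_one : L3 1 = Y3 * X3 * Y3 * Y3 := by
  apply ext_entry <;> simp only [mul_entry, L3, X3, Y3, sl00, sl01, sl10, sl11] <;> decide

theorem eq_ULU (s : SpecialLinearGroup (Fin 2) (ZMod 3)) (hc : s 1 0 ≠ 0) :
    s = U3 ((s 0 0 - 1) / s 1 0) * L3 (s 1 0) * U3 ((s 1 1 - 1) / s 1 0) := by
  have hd := det_eq s
  apply ext_entry <;> simp only [mul_entry, U3, L3, sl00, sl01, sl10, sl11]
  · field_simp
    ring
  · field_simp
    linear_combination (-1 : ZMod 3) * hd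
  · ring
  · field_simp
    ring

/-- a submonoid containing `X3` and `Y3` is everything -/
theorem mem_of_gens (M : Submonoid (SpecialLinearGroup (Fin 2) (ZMod 3))) (hX : X3 ∈ M)
    (hY : Y3 ∈ M) (s : SpecialLinearGroup (Fin 2) (ZMod 3)) : s ∈ M := by
  have hU1 : U3 1 ∈ M := by
    rw [U3_one]; exact hY
  have hL1 : L3 1 ∈ M := by
    rw [L3_one]
    exact M.mul_mem (M.mul_mem (M.mul_mem hY hX) hY) hY
  have hU0 : U3 0 = 1 := by
    apply ext_entry <;> simp only [U3, sl00, sl01, sl10, sl11, one00, one01, one10, one11]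
  have hL0 : L3 0 = 1 := by
    apply ext_entry <;> simp only [L3, sl00, sl01, sl10, sl11, one00, one01, one10, one11]
  have hUn : ∀ n : ℕ, U3 (n : ZMod 3) ∈ M := by
    intro n
    induction n with
    | zero => rw [Nat.cast_zero, hU0]; exact M.one_mem
    | succ k ih => rw [Nat.cast_succ, U3_add]; exact M.mul_mem ih hU1
  have hLn : ∀ n : ℕ, L3 (n : ZMod 3) ∈ M := by
    intro n
    induction n with
    | zero => rw [Nat.cast_zero, hL0]; exact M.one_mem
    | succ k ih => rw [Nat.cast_succ, L3_add]; exact M.mul_mem ih hL1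
  have hU : ∀ i : ZMod 3, U3 i ∈ M := by
    intro i
    have := hUn i.val
    rwa [ZMod.natCast_zmod_val] at this
  have hL : ∀ i : ZMod 3, L3 i ∈ M := by
    intro i
    have := hLn i.val
    rwa [ZMod.natCast_zmod_val] at this
  have key : ∀ t : SpecialLinearGroup (Fin 2) (ZMod 3), t 1 0 ≠ 0 → t ∈ M := by
    intro t ht
    rw [eq_ULU t ht]
    exact M.mul_mem (M.mul_mem (hU _) (hL _)) (hU _)
  by_cases hc : s 1 0 = 0
  · have h1 : (s * L3 (-1)) 1 0 ≠ 0 := by
      have hd := det_eq s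
      rw [hc, mul_zero, sub_zero] at hd
      have e : (s * L3 (-1)) 1 0 = - s 1 1 := by
        simp only [mul_entry, L3, sl00, sl10, hc]; ring
      rw [e]
      intro h0
      have : s 1 1 = 0 := neg_eq_zero.mp h0
      rw [this, mul_zero] at hd
      exact zero_ne_one hd
    have h2 : s = (s * L3 (-1)) * L3 1 := by
      rw [mul_assoc, ← L3_add, neg_add_cancel, hL0, mul_one]
    rw [h2]
    exact M.mul_mem (key _ h1) hL1
  · exact key s hc

/-- the coordinates of a matrix -/
def cs (s : SpecialLinearGroup (Fin 2) (ZMod 3)) : V4 := cf (s 0 0) (s 0 1) (s 1 0) (s 1 1)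

theorem cs_X (s : SpecialLinearGroup (Fin 2) (ZMod 3)) : cs (s * X3) = actX (cs s) := by
  have h := cf_X (s 0 0) (s 0 1) (s 1 0) (s 1 1) (det_eq s)
  have e1 : (s * X3) 0 0 = s 0 1 := by
    simp only [mul_entry, X3, sl00, sl01, sl10, sl11]; ring
  have e2 : (s * X3) 0 1 = - s 0 0 - s 0 1 := by
    simp only [mul_entry, X3, sl00, sl01, sl10, sl11]; ring
  have e3 : (s * X3) 1 0 = s 1 1 := by
    simp only [mul_entry, X3, sl00, sl01, sl10, sl11]; ring
  have e4 : (s * X3) 1 1 = - s 1 0 - s 1 1 := by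
    simp only [mul_entry, X3, sl00, sl01, sl10, sl11]; ring
  unfold cs
  rw [e1, e2, e3, e4]
  exact h

theorem cs_Y (s : SpecialLinearGroup (Fin 2) (ZMod 3)) : cs (s * Y3) = actY (cs s) := by
  have h := cf_Y (s 0 0) (s 0 1) (s 1 0) (s 1 1) (det_eq s)
  have e1 : (s * Y3) 0 0 = s 0 0 := by
    simp only [mul_entry, Y3, sl00, sl01, sl10, sl11]; ring
  have e2 : (s * Y3) 0 1 = s 0 0 + s 0 1 := by
    simp only [mul_entry, Y3, sl00, sl01, sl10, sl11]; ring
  have e3 : (s * Y3) 1 0 = s 1 0 := by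
    simp only [mul_entry, Y3, sl00, sl01, sl10, sl11]; ring
  have e4 : (s * Y3) 1 1 = s 1 0 + s 1 1 := by
    simp only [mul_entry, Y3, sl00, sl01, sl10, sl11]; ring
  unfold cs
  rw [e1, e2, e3, e4]
  exact h

theorem cs_one : cs 1 = ⟨1,0,0,0⟩ := cf_one

theorem tetrahedral {E : Type*} [Ring E] [Nontrivial E] (h2 : IsUnit (2:E)) (h3 : IsUnit (3:E))
    (x y : Eˣ) (hx : (x:E)^2 + x + 1 = 0) (hy : (y:E)^2 + y + 1 = 0)
    (hT : (x:E)*y + y*x + x + y + 1 = 0) :
    ∃ Ψ : Matrix.SpecialLinearGroup (Fin 2) (ZMod 3) →* Eˣ,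
      Function.Injective Ψ ∧ Ψ.range = Subgroup.closure {x, y} := by
  have hxx : (x:E) * x = -1 - x := by
    have : (x:E)^2 + x + 1 = 0 := hx
    rw [pow_two] at this
    have h : (x:E) * x = ((x:E) * x + x + 1) - 1 - x := by abel
    rw [h, this]; abel
  have hyy : (y:E) * y = -1 - y := by
    have : (y:E)^2 + y + 1 = 0 := hy
    rw [pow_two] at this
    have h : (y:E) * y = ((y:E) * y + y + 1) - 1 - y := by abel
    rw [h, this]; abel
  have hX := ev_actX (x:E) (y:E) hT hxx
  have hY := ev_actY (x:E) (y:E) hyy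
  set φ : SpecialLinearGroup (Fin 2) (ZMod 3) → E := fun s => ev (x:E) (y:E) (cs s) with hφ
  have φX : ∀ s, φ (s * X3) = φ s * x := by
    intro s; simp only [hφ]; rw [cs_X, hX]
  have φY : ∀ s, φ (s * Y3) = φ s * y := by
    intro s; simp only [hφ]; rw [cs_Y, hY]
  have φ1 : φ 1 = 1 := by
    simp only [hφ]; rw [cs_one]; simp [ev]
  have φX3 : φ X3 = x := by
    have := φX 1
    rwa [one_mul, φ1, one_mul] at this
  have φY3 : φ Y3 = y := by
    have := φY 1
    rwa [one_mul, φ1, one_mul] at this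
  let M : Submonoid (SpecialLinearGroup (Fin 2) (ZMod 3)) :=
    { carrier := {t | ∀ s, φ (s * t) = φ s * φ t}
      one_mem' := by intro s; rw [mul_one, φ1, mul_one]
      mul_mem' := by
        intro t u ht hu s
        rw [← mul_assoc, hu, ht, hu t, mul_assoc] }
  have hM : ∀ s, s ∈ M := fun s => mem_of_gens M (fun s => by rw [φX, φX3])
    (fun s => by rw [φY, φY3]) s
  let Ψ₀ : SpecialLinearGroup (Fin 2) (ZMod 3) →* E :=
    { toFun := φ
      map_one' := φ1
      map_mul' := fun s t => hM t s }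
  have hΨX : Ψ₀.toHomUnits X3 = x := Units.ext φX3
  have hΨY : Ψ₀.toHomUnits Y3 = y := Units.ext φY3
  refine ⟨Ψ₀.toHomUnits, ?_, ?_⟩
  · rw [injective_iff_map_eq_one]
    intro s hs
    have hs1 : φ s = 1 := congrArg Units.val hs
    have hs2 : φ s⁻¹ = 1 := by
      have : Ψ₀.toHomUnits s⁻¹ = 1 := by rw [map_inv, hs, inv_one]
      exact congrArg Units.val this
    have key := cf_inv (s 0 0) (s 0 1) (s 1 0) (s 1 1) (det_eq s)
    rcases key with ⟨k1, k2, k3, k4⟩ | ⟨k1, k2, k3, k7⟩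
    · exact ext_entry _ _ k1 k2 k3 k4
    · exfalso
      have hcs : cs s⁻¹ = cf (s 1 1) (-s 0 1) (-s 1 0) (s 0 0) := by
        have hd := det_eq s
        have h : s⁻¹ = sl (s 1 1) (-s 0 1) (-s 1 0) (s 0 0) (by linear_combination hd) := by
          apply inv_eq_of_mul_eq_one_right
          apply ext_entry <;>
            simp only [mul_entry, sl00, sl01, sl10, sl11, one00, one01, one10, one11]
          · linear_combination hd
          · ring
          · ring
          · linear_combination hd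
        rw [h]
        rfl
      have hsum : φ s + φ s⁻¹ = ((cs s).a + (cs s⁻¹).a) • (1 : E)
          + ((cs s).b + (cs s⁻¹).b) • (x:E)
          + ((cs s).c + (cs s⁻¹).c) • (y:E)
          + ((cs s).d + (cs s⁻¹).d) • ((x:E) * y) := by
        simp only [hφ, ev]
        module
      rw [hs1, hs2] at hsum
      have hcs0 : cs s = cf (s 0 0) (s 0 1) (s 1 0) (s 1 1) := rfl
      rw [hcs, hcs0, k1, k2, k3] at hsum
      simp only [zero_smul, add_zero] at hsum
      have unit_ne : ∀ e : E, IsUnit e → e ≠ 0 := fun e he => he.ne_zero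
      have h4 : (4 : E) ≠ 0 := by
        have : (4 : E) = 2 * 2 := by norm_num
        rw [this]
        exact (h2.mul h2).ne_zero
      have h2' := unit_ne _ h2
      have h3' := unit_ne _ h3
      simp only [List.mem_cons, List.not_mem_nil, or_false] at k7
      rcases k7 with k | k | k | k <;> rw [k] at hsum
      · have : (2 : E) = 0 := by
          have h : (1 : E) + 1 = 0 := by simpa using hsum
          rw [← h]; norm_num
        exact h2' this
      · have : (1 : E) = 0 := by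
          have h : (1 : E) + 1 = 1 := by simpa using hsum
          simpa using h
        exact one_ne_zero this
      · -- `2 = -1`
        have : (3 : E) = 0 := by
          have h : (1 : E) + 1 = -1 := by simpa using hsum
          have h' : (3 : E) = ((1 : E) + 1) + 1 := by norm_num
          rw [h', h]; simp
        exact h3' this
      · -- `2 = -2`
        have : (4 : E) = 0 := by
          have h : (1 : E) + 1 = -2 := by simpa using hsum
          have h' : (4 : E) = ((1 : E) + 1) + 2 := by norm_num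
          rw [h', h]; simp
        exact h4 this
  · have hcl : Subgroup.closure {X3, Y3} = (⊤ : Subgroup (SpecialLinearGroup (Fin 2) (ZMod 3))) := by
      rw [eq_top_iff]
      intro s _
      exact mem_of_gens (Subgroup.closure {X3, Y3}).toSubmonoid
        (Subgroup.subset_closure (by simp)) (Subgroup.subset_closure (by simp)) s
    rw [MonoidHom.range_eq_map, ← hcl, MonoidHom.map_closure, Set.image_pair, hΨX, hΨY]

end Cfsg.Agent.PermutationGroups.ZassTetra
end

-- part: PermutationGroups/ZassCore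
section
set_option autoImplicit false

/-!
# The subgroup generated by the elements of order three of a freely acting group
-/

namespace Cfsg.Agent.PermutationGroups.ZassCore

open Cfsg.Agent.PermutationGroups.ZassQuat Cfsg.Agent.PermutationGroups.ZassOrders
  Cfsg.Agent.PermutationGroups.ZassFrame Cfsg.Agent.PermutationGroups.ZassClaim
  Cfsg.Agent.PermutationGroups.ZassUnique Cfsg.Agent.PermutationGroups.ZassPair

/-- noncommutative ring identities, numerals included -/
local macro "nc" : tactic =>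
  `(tactic| ((try simp only [n2, n3, n4, n5, n6, n8, n10, n12, n16, n20]); noncomm_ring))

variable {E : Type*} [Ring E] [Nontrivial E]

section ctx
variable {G : Subgroup Eˣ} {i j x : Eˣ} (C : Ctx G i j x)
include C

theorem frame_mem {w : Eˣ} {φ : E} (hφ : Cen (i : E) j φ) (P : φ * φ = φ + 1)
    (hw : 2 * (w : E) + 1 = ev (i : E) j 0 φ (φ - 1) 0) (hw3 : (w : E) ^ 2 + w + 1 = 0) :
    w * x⁻¹ * w⁻¹ * x⁻¹ = i ∧ x⁻¹ * w * x⁻¹ * w⁻¹ = j := by
  have c0 : Cen (i : E) j (0 : E) := Cen.zero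
  have c1 : Cen (i : E) j (1 : E) := Cen.one
  have cm : Cen (i : E) j (φ - 1) := hφ.sub c1
  have cm' : Cen (i : E) j (1 - φ) := c1.sub hφ
  have F := C.frame
  have hx := C.hxe
  have hx3 : (x : E) ^ 2 + x + 1 = 0 := poly_three C.free C.hx (order_x C)
  have hxi := inv_three hx3
  have hwi := inv_three hw3
  have W : 2 * (w : E) = ev (i : E) j (-1) φ (φ - 1) 0 := by
    have : ev (i : E) j (-1) φ (φ - 1) 0 = ev (i : E) j 0 φ (φ - 1) 0 - 1 := by unfold ev; nc
    rw [this, ← hw]; nc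
  have W' : 2 * ((w⁻¹ : Eˣ) : E) = ev (i : E) j (-1) (-φ) (1 - φ) 0 := by
    have : ev (i : E) j (-1) (-φ) (1 - φ) 0 = -(ev (i : E) j 0 φ (φ - 1) 0) - 1 := by
      unfold ev; nc
    rw [this, ← hw, hwi]; nc
  have X' : 2 * ((x⁻¹ : Eˣ) : E) = ev (i : E) j (-1) (-1) (-1) (-1) := by
    have : ev (i : E) j (-1) (-1) (-1) (-1) = -(ev (i : E) j 0 1 1 1) - 1 := by
      unfold ev; nc
    rw [this, ← hx, hxi]; nc
  have A1 : (2 * (w : E)) * (2 * ((x⁻¹ : Eˣ) : E)) = 2 * ev (i : E) j φ (1 - φ) 1 0 := by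
    rw [W, X', ev_mul F c1.neg c1.neg c1.neg c1.neg]
    unfold ev; nc
  have A2 : (2 * ((w⁻¹ : Eˣ) : E)) * (2 * ((x⁻¹ : Eˣ) : E)) =
      2 * ev (i : E) j (1 - φ) φ 0 1 := by
    rw [W', X', ev_mul F c1.neg c1.neg c1.neg c1.neg]
    unfold ev; nc
  have B1 : (2 * ((x⁻¹ : Eˣ) : E)) * (2 * (w : E)) = 2 * ev (i : E) j φ 0 (1 - φ) 1 := by
    rw [W, X', ev_mul F c1.neg hφ cm c0]
    unfold ev; nc
  have B2 : (2 * ((x⁻¹ : Eˣ) : E)) * (2 * ((w⁻¹ : Eˣ) : E)) =
      2 * ev (i : E) j (1 - φ) 1 φ 0 := by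
    rw [W', X', ev_mul F c1.neg hφ.neg cm' c0]
    unfold ev; nc
  have M1 : ev (i : E) j φ (1 - φ) 1 0 * ev (i : E) j (1 - φ) φ 0 1 = 4 * i := by
    rw [ev_mul F cm' hφ c0 c1]
    unfold ev
    linear_combination (norm := nc) 2 * P * i
  have M2 : ev (i : E) j φ 0 (1 - φ) 1 * ev (i : E) j (1 - φ) 1 φ 0 = 4 * j := by
    rw [ev_mul F cm' c1 hφ c0]
    unfold ev
    linear_combination (norm := nc) 2 * P * j
  constructor
  · apply Units.ext
    rw [Units.val_mul, Units.val_mul, Units.val_mul]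
    apply sub_eq_zero.mp
    apply cancel_four C.h2
    apply cancel_four C.h2
    have : (2 * (w : E)) * (2 * ((x⁻¹ : Eˣ) : E)) * ((2 * ((w⁻¹ : Eˣ) : E)) *
      (2 * ((x⁻¹ : Eˣ) : E))) = 16 * i := by
      rw [A1, A2]
      linear_combination (norm := nc) 4 * M1
    linear_combination (norm := nc) this
  · apply Units.ext
    rw [Units.val_mul, Units.val_mul, Units.val_mul]
    apply sub_eq_zero.mp
    apply cancel_four C.h2
    apply cancel_four C.h2
    have : (2 * ((x⁻¹ : Eˣ) : E)) * (2 * (w : E)) * ((2 * ((x⁻¹ : Eˣ) : E)) *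
      (2 * ((w⁻¹ : Eˣ) : E))) = 16 * j := by
      rw [B1, B2]
      linear_combination (norm := nc) 4 * M2
    linear_combination (norm := nc) this

/-- the trace of `x w` for golden `w` -/
theorem trace_golden {w : Eˣ} {φ : E} (hφ : Cen (i : E) j φ)
    (hw : 2 * (w : E) + 1 = ev (i : E) j 0 φ (φ - 1) 0) :
    (x : E) * w + w * x + x + w + 1 = 1 - φ := by
  have c0 : Cen (i : E) j (0 : E) := Cen.zero
  have c1 : Cen (i : E) j (1 : E) := Cen.one
  have h1 := anti1 C.frame c0 hφ (hφ.sub c1) c0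
  rw [← C.hxe, ← hw] at h1
  have h2 : ev (i : E) j (-2 * (φ + (φ - 1) + 0)) (2 * 0) (2 * 0) (2 * 0) = 2 - 4 * φ := by
    unfold ev; nc
  rw [h2] at h1
  apply sub_eq_zero.mp
  apply cancel_four C.h2
  linear_combination (norm := nc) h1

/-- `x w` has order ten, so there is an element of order five -/
theorem exists_order_five {w : Eˣ} (hwG : w ∈ G) (hw3 : orderOf w = 3)
    (hT : ((x : E) * w + w * x + x + w + 1) * ((x : E) * w + w * x + x + w + 1) =
      ((x : E) * w + w * x + x + w + 1) + 1) : ∃ g ∈ G, orderOf g = 5 := by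
  have hx3 : (x : E) ^ 2 + x + 1 = 0 := poly_three C.free C.hx (order_x C)
  have hw := poly_three C.free hwG hw3
  have hxi := inv_three hx3
  have hwi := inv_three hw
  have hT' : (x : E) * w + w * x + x + w + 1 =
      ((x * w : Eˣ) : E) + (((x * w)⁻¹ : Eˣ) : E) := by
    rw [mul_inv_rev, Units.val_mul, Units.val_mul, hxi, hwi]
    nc
  rw [hT'] at hT
  have c1 : ((x * w : Eˣ) : E) * (((x * w)⁻¹ : Eˣ) : E) = 1 := Units.mul_inv _
  have c2 : (((x * w)⁻¹ : Eˣ) : E) * ((x * w : Eˣ) : E) = 1 := Units.inv_mul _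
  have h5 : ((x * w : Eˣ) : E) ^ 5 = -1 := by
    generalize ((x * w : Eˣ) : E) = g at *
    generalize (((x * w)⁻¹ : Eˣ) : E) = v at *
    -- g²(g + v)² = g²(g + v) + g²
    have e1 : g ^ 4 - g ^ 3 + g ^ 2 - g + 1 = 0 := by
      linear_combination (norm := nc) g * g * hT - g * g * (c1 + c2) - g * c1 * v - c1
        + g * c1
    linear_combination (norm := nc) (g + 1) * e1
  have h10 : (x * w) ^ 10 = 1 := by
    apply Units.ext
    rw [Units.val_pow_eq_pow_val, Units.val_one]
    linear_combination (norm := nc) (((x * w : Eˣ) : E) ^ 5 - 1) * h5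
  have : Fact (Nat.Prime 5) := ⟨by norm_num⟩
  refine ⟨(x * w) ^ 2, pow_mem (mul_mem C.hx hwG) 2, orderOf_eq_prime ?_ ?_⟩
  · rw [← pow_mul]; exact h10
  · intro h2
    have h2' : ((x * w : Eˣ) : E) ^ 2 = 1 := coe_pow_eq_one h2
    have hm : ((x * w : Eˣ) : E) = -1 := by
      linear_combination (norm := nc) h5 - (((x * w : Eˣ) : E) ^ 3 + ((x * w : Eˣ) : E)) * h2'
    have hw' : (w : E) = (x : E) + 1 := by
      have : (w : E) = ((x⁻¹ : Eˣ) : E) * ((x * w : Eˣ) : E) := by
        rw [← Units.val_mul, inv_mul_cancel_left]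
      rw [this, hm, hxi]; nc
    rw [hw'] at hw
    -- (x+1)² + (x+1) + 1 = x² + 3x + 3 = 2(x+1)
    have h3 : (2 : E) * (x + 1) = 0 := by
      linear_combination (norm := nc) hw - hx3
    have h4 := cancel_two C.h2 h3
    have h5 : (x : E) = -1 := by linear_combination (norm := nc) h4
    rw [h5] at hx3
    have : (1 : E) = 0 := by linear_combination (norm := nc) hx3
    exact one_ne_zero this

end ctx

/-- The core theorem: the subgroup generated by the elements of order three of a freely acting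
group of units is cyclic of order three (or trivial), `SL(2,3)` or `SL(2,5)`. -/
theorem core' (G : Subgroup Eˣ) (hfree : ∀ g ∈ G, g ≠ 1 → IsUnit ((g : E) - 1))
    (h2 : IsUnit (2 : E)) (h3 : IsUnit (3 : E)) (h5 : (∃ g ∈ G, orderOf g = 5) → IsUnit (5 : E))
    (hord : ∀ x ∈ G, ∀ y ∈ G, orderOf x = 3 → orderOf y = 3 →
      (orderOf (x * y) = 1 ∨ orderOf (x * y) = 3 ∨ orderOf (x * y) = 4 ∨
        orderOf (x * y) = 6 ∨ orderOf (x * y) = 10)) :
    (∀ x ∈ G, ∀ y ∈ G, orderOf x = 3 → orderOf y = 3 → y = x ∨ y = x⁻¹) ∨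
    Nonempty (Subgroup.closure {g : Eˣ | g ∈ G ∧ orderOf g = 3} ≃*
      Matrix.SpecialLinearGroup (Fin 2) (ZMod 3)) ∨
    Nonempty (Subgroup.closure {g : Eˣ | g ∈ G ∧ orderOf g = 3} ≃*
      Matrix.SpecialLinearGroup (Fin 2) (ZMod 5)) := by
  by_cases htriv : ∀ x ∈ G, ∀ y ∈ G, orderOf x = 3 → orderOf y = 3 → y = x ∨ y = x⁻¹
  · exact Or.inl htriv
  right
  push Not at htriv
  obtain ⟨x, hxG, y₀, hy₀G, hx3, hy₀3, hne, hne'⟩ := htriv
  obtain ⟨y, hyG, hy3, hT⟩ := exists_pair hfree h2 hord hxG hy₀G hx3 hy₀3 hne hne'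
  obtain ⟨i, j, C, hL⟩ := exists_ctx hfree h2 h3 hord hxG hyG hx3 hy3 hT
  have hx := poly_three hfree hxG hx3
  have hy := poly_three hfree hyG hy3
  have hcl : Subgroup.closure ({x, y} : Set Eˣ) ≤
      Subgroup.closure {g : Eˣ | g ∈ G ∧ orderOf g = 3} := by
    apply Subgroup.closure_mono
    rintro g (rfl | rfl)
    · exact ⟨hxG, hx3⟩
    · exact ⟨hyG, hy3⟩
  by_cases hall : ∀ w ∈ G, orderOf w = 3 → w ∈ Subgroup.closure ({i, j, x} : Set Eˣ)
  · left
    obtain ⟨Ψ, hinj, hrange⟩ := Cfsg.Agent.PermutationGroups.ZassTetra.tetrahedral h2 h3 x y hx hy hT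
    have e : Ψ.range = Subgroup.closure {g : Eˣ | g ∈ G ∧ orderOf g = 3} := by
      rw [hrange]
      apply le_antisymm hcl
      rw [Subgroup.closure_le, ← hL]
      rintro g ⟨hg, hg3⟩
      exact hall g hg hg3
    rw [← e]
    exact ⟨(MonoidHom.ofInjective hinj).symm⟩
  · right
    push Not at hall
    obtain ⟨w₀, hw₀G, hw₀3, hw₀L⟩ := hall
    obtain ⟨g₀, hg₀, φ, hφ, P, hw⟩ := exists_conj_golden C hw₀G hw₀3 hw₀L
    have hLG : Subgroup.closure ({i, j, x} : Set Eˣ) ≤ G := by
      rw [Subgroup.closure_le]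
      rintro g (rfl | rfl | rfl)
      · exact C.hi
      · exact C.hj
      · exact C.hx
    have hg₀G := hLG hg₀
    generalize hwdef : g₀ * w₀ * g₀⁻¹ = w at hw
    have hwG : w ∈ G := by
      rw [← hwdef]; exact mul_mem (mul_mem hg₀G hw₀G) (inv_mem hg₀G)
    have hw3 : orderOf w = 3 := by
      rw [← hwdef]; exact order_conj hw₀3
    have hwp := poly_three hfree hwG hw3
    have htr := trace_golden C hφ hw
    have hTT : ((x : E) * w + w * x + x + w + 1) * ((x : E) * w + w * x + x + w + 1) =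
      ((x : E) * w + w * x + x + w + 1) + 1 := by
      rw [htr]
      linear_combination (norm := nc) P
    have h5' := h5 (exists_order_five C hwG hw3 hTT)
    obtain ⟨Ψ, hinj, hrange⟩ := Cfsg.Agent.PermutationGroups.ZassIcos.icosahedral h2 h3 h5' x w
      hx hwp hTT
    obtain ⟨hi', hj'⟩ := frame_mem C hφ P hw hwp
    have hxH : x ∈ Subgroup.closure ({x, w} : Set Eˣ) := Subgroup.subset_closure (by simp)
    have hwH : w ∈ Subgroup.closure ({x, w} : Set Eˣ) := Subgroup.subset_closure (by simp)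
    have hLH : Subgroup.closure ({i, j, x} : Set Eˣ) ≤ Subgroup.closure ({x, w} : Set Eˣ) := by
      rw [Subgroup.closure_le]
      rintro g (rfl | rfl | rfl)
      · rw [← hi']
        exact mul_mem (mul_mem (mul_mem hwH (inv_mem hxH)) (inv_mem hwH)) (inv_mem hxH)
      · rw [← hj']
        exact mul_mem (mul_mem (mul_mem (inv_mem hxH) hwH) (inv_mem hxH)) (inv_mem hwH)
      · exact hxH
    have e : Ψ.range = Subgroup.closure {g : Eˣ | g ∈ G ∧ orderOf g = 3} := by
      rw [hrange]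
      apply le_antisymm
      · apply Subgroup.closure_mono
        rintro g (rfl | rfl)
        · exact ⟨hxG, hx3⟩
        · exact ⟨hwG, hw3⟩
      · rw [Subgroup.closure_le]
        rintro v ⟨hvG, hv3⟩
        by_cases hvL : v ∈ Subgroup.closure ({i, j, x} : Set Eˣ)
        · exact hLH hvL
        · obtain ⟨g, hg, ρ, hρ, Q, hv⟩ := exists_conj_golden C hvG hv3 hvL
          have hgG := hLG hg
          have hvG' : g * v * g⁻¹ ∈ G := mul_mem (mul_mem hgG hvG) (inv_mem hgG)
          have hφρ : φ = ρ := golden_unique C hwG hw3 hvG' (order_conj hv3) hφ hρ P Q hw hv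
          rw [← hφρ, ← hw] at hv
          have hvw : g * v * g⁻¹ = w := by
            apply Units.ext
            apply sub_eq_zero.mp
            apply cancel_two h2
            linear_combination (norm := nc) hv
          have : v = g⁻¹ * w * g := by rw [← hvw]; group
          rw [this]
          exact mul_mem (mul_mem (inv_mem (hLH hg)) hwH) (hLH hg)
    rw [← e]
    exact ⟨(MonoidHom.ofInjective hinj).symm⟩

/-- The core theorem, in the form used by `S0690`. -/
theorem core {E : Type*} [Ring E] [Nontrivial E] (G : Subgroup Eˣ) [Finite G]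
    (hfree : ∀ g ∈ G, g ≠ 1 → IsUnit ((g : E) - 1))
    (h2 : IsUnit (2 : E)) (h3 : IsUnit (3 : E)) (h5 : (∃ g ∈ G, orderOf g = 5) → IsUnit (5 : E))
    (_hneg : -1 ∈ G)
    (hord : ∀ x ∈ G, ∀ y ∈ G, orderOf x = 3 → orderOf y = 3 →
      (orderOf (x * y) = 1 ∨ orderOf (x * y) = 3 ∨ orderOf (x * y) = 4 ∨
        orderOf (x * y) = 6 ∨ orderOf (x * y) = 10)) :
    (∀ x ∈ G, ∀ y ∈ G, orderOf x = 3 → orderOf y = 3 → y = x ∨ y = x⁻¹) ∨
    Nonempty (Subgroup.closure {g : Eˣ | g ∈ G ∧ orderOf g = 3} ≃*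
      Matrix.SpecialLinearGroup (Fin 2) (ZMod 3)) ∨
    Nonempty (Subgroup.closure {g : Eˣ | g ∈ G ∧ orderOf g = 3} ≃*
      Matrix.SpecialLinearGroup (Fin 2) (ZMod 5)) :=
  core' G hfree h2 h3 h5 hord

end Cfsg.Agent.PermutationGroups.ZassCore
end

-- part: S0690
section
set_option autoImplicit false
open Cfsg

namespace Cfsg.Agent.S0690

/-- The subgroup generated by the elements of order 3, inside and outside. -/
theorem closure_equiv {U : Type*} [Group U] (H : Subgroup U) :
    Nonempty (Subgroup.closure {g : H | orderOf g = 3} ≃*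
      Subgroup.closure {g : U | g ∈ H ∧ orderOf g = 3}) := by
  have h1 : (Subgroup.closure {g : H | orderOf g = 3}).map H.subtype =
      Subgroup.closure {g : U | g ∈ H ∧ orderOf g = 3} := by
    rw [MonoidHom.map_closure]
    congr 1
    ext g
    constructor
    · rintro ⟨x, hx, rfl⟩
      refine ⟨x.2, ?_⟩
      change orderOf (x : U) = 3
      rw [Subgroup.orderOf_coe]
      exact hx
    · rintro ⟨hg, hg3⟩
      refine ⟨⟨g, hg⟩, ?_, rfl⟩
      change orderOf (⟨g, hg⟩ : H) = 3
      rw [Subgroup.orderOf_mk]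
      exact hg3
  rw [← h1]
  exact ⟨(Subgroup.closure {g : H | orderOf g = 3}).equivMapOfInjective H.subtype
    H.subtype_injective⟩

/-- Zassenhaus: a perfect non-trivial group of fixed-point-free automorphisms of a finite group is isomorphic to `SL(2,5)`. -/
theorem result {K : Type*} [Group K] [Finite K] (G : Subgroup (MulAut K)) (hfpf : ∀ φ ∈ G, φ ≠ 1 → ∀ k : K, φ k = k → k = 1) (hperf : commutator G = ⊤) (hne : G ≠ ⊥) : Nonempty (G ≃* Matrix.SpecialLinearGroup (Fin 2) (ZMod 5)) := by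
  obtain ⟨p, hp, V, hV1, hV2, hV3, hV4, H, ⟨e⟩, hfin, hnt, hperf', hfree, hunit, hneg, hS, hS2,
    h2, h3⟩ := Cfsg.Agent.PermutationGroups.ZassReduction.package G hfpf hperf hne
  haveI : Nontrivial (Module.End (ZMod p) V) := by
    refine ⟨⟨0, 1, fun h => ?_⟩⟩
    obtain ⟨v, hv⟩ := exists_ne (0 : V)
    exact hv (LinearMap.congr_fun h v).symm
  have hu2 : IsUnit (2 : Module.End (ZMod p) V) := by
    simpa using hunit 2 Nat.prime_two h2
  have hu3 : IsUnit (3 : Module.End (ZMod p) V) := by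
    simpa using hunit 3 Nat.prime_three h3
  have hu5 : (∃ g ∈ H, orderOf g = 5) → IsUnit (5 : Module.End (ZMod p) V) := by
    rintro ⟨g, hg, hg5⟩
    have h5 : 5 ∣ Nat.card H := by
      have h6 := orderOf_dvd_natCard (⟨g, hg⟩ : H)
      rwa [Subgroup.orderOf_mk, hg5] at h6
    simpa using hunit 5 Nat.prime_five h5
  have hord := fun x hx y hy hx3 hy3 =>
    Cfsg.Agent.PermutationGroups.ZassKlein.order_mul_mem H hfree x y hx hy hx3 hy3
  have hcore := Cfsg.Agent.PermutationGroups.ZassCore.core H hfree hu2 hu3 hu5 hneg hord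
  obtain ⟨ec⟩ := closure_equiv H
  have hodd : ∀ q : ℕ, q.Prime → q ≠ 2 → ∀ P : Sylow q H, IsCyclic P := by
    intro q hq hq2 P
    haveI : Fact q.Prime := ⟨hq⟩
    rcases hS q P with h | ⟨h, -⟩
    · exact h
    · exact absurd h hq2
  obtain ⟨f⟩ := Cfsg.Agent.PermutationGroups.ZassEnd.result (G := H) hperf' hodd hS2 h3 (by
    rcases hcore with hc | ⟨⟨f⟩⟩ | ⟨⟨f⟩⟩
    · left
      intro x y hx hy
      have h6 := hc x x.2 y y.2 (by rw [Subgroup.orderOf_coe, hx]) (by rw [Subgroup.orderOf_coe, hy])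
      rcases h6 with h6 | h6
      · exact Or.inl (Subtype.ext h6)
      · exact Or.inr (Subtype.ext h6)
    · exact Or.inr (Or.inl ⟨ec.trans f⟩)
    · exact Or.inr (Or.inr ⟨ec.trans f⟩))
  exact ⟨e.trans f⟩

end Cfsg.Agent.S0690
end
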