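import Cfsg.Agent.Lib.FieldFour
import Cfsg.Agent.H912.Core4
import Cfsg.Agent.H907.Schur
import Cfsg.Agent.S0277
import Cfsg.Prelude.Def_GeometricClasses
import Cfsg.Agent.H918.UWrap
import Cfsg.Statements.S5796
import Cfsg.Agent.S5663
set_option linter.all false

-- part: H912/SUFiveData
section
/-!
# A subgroup `11:5 < L` of `SU_5(2)`: explicit matrices over the field with four elements

`gm k` (`k = 0, …, 10`) are the powers of an element of order 11, `tau` normalises it, `inv` does not; all preserve the set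
`S` of 55 vectors, the diagonal matrix `dd` does not.
-/

set_option autoImplicit false

namespace Cfsg.Agent.H912.SUFive

open Cfsg.Agent.Lib.FieldFour

/-- Matrix from rows. -/
def mk (l : List (List F4)) : Matrix (Fin 5) (Fin 5) F4 := fun i j => (l.getD i.val []).getD j.val .o

/-- Powers of the element of order 11. -/
def gl : List (List (List F4)) := [
  [[.i, .o, .o, .o, .o], [.o, .i, .o, .o, .o], [.o, .o, .i, .o, .o], [.o, .o, .o, .i, .o], [.o, .o, .o, .o, .i]],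
  [[.o, .w, .o, .i, .v], [.w, .o, .o, .w, .i], [.o, .o, .i, .i, .v], [.i, .w, .i, .v, .i], [.v, .i, .v, .i, .i]],
  [[.o, .i, .v, .v, .o], [.i, .i, .i, .w, .w], [.v, .i, .w, .i, .i], [.v, .w, .i, .o, .o], [.o, .w, .i, .o, .i]],
  [[.i, .i, .o, .v, .o], [.i, .v, .w, .i, .i], [.o, .w, .o, .i, .w], [.v, .i, .i, .i, .v], [.o, .i, .w, .v, .o]],
  [[.i, .v, .v, .i, .i], [.v, .i, .o, .o, .i], [.v, .o, .o, .w, .i], [.i, .o, .w, .o, .w], [.i, .i, .i, .w, .v]],
  [[.v, .i, .i, .i, .w], [.i, .o, .v, .o, .w], [.i, .v, .i, .v, .i], [.i, .o, .v, .i, .o], [.w, .w, .i, .o, .o]],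
  [[.w, .i, .i, .i, .v], [.i, .o, .w, .o, .v], [.i, .w, .i, .w, .i], [.i, .o, .w, .i, .o], [.v, .v, .i, .o, .o]],
  [[.i, .w, .w, .i, .i], [.w, .i, .o, .o, .i], [.w, .o, .o, .v, .i], [.i, .o, .v, .o, .v], [.i, .i, .i, .v, .w]],
  [[.i, .i, .o, .w, .o], [.i, .w, .v, .i, .i], [.o, .v, .o, .i, .v], [.w, .i, .i, .i, .w], [.o, .i, .v, .w, .o]],
  [[.o, .i, .w, .w, .o], [.i, .i, .i, .v, .v], [.w, .i, .v, .i, .i], [.w, .v, .i, .o, .o], [.o, .v, .i, .o, .i]],
  [[.o, .v, .o, .i, .w], [.v, .o, .o, .v, .i], [.o, .o, .i, .i, .w], [.i, .v, .i, .w, .i], [.w, .i, .w, .i, .i]]]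

/-- The `k`-th power. -/
def gm (k : ℕ) : Matrix (Fin 5) (Fin 5) F4 := mk (gl.getD k [])

/-- Normalises the cyclic group of order 11. -/
def tau : Matrix (Fin 5) (Fin 5) F4 :=
  mk [[.o, .o, .o, .o, .i], [.o, .o, .i, .o, .o], [.i, .o, .o, .o, .o], [.o, .i, .o, .o, .o], [.o, .o, .o, .i, .o]]

/-- An involution. -/
def tt : Matrix (Fin 5) (Fin 5) F4 :=
  mk [[.i, .o, .o, .o, .o], [.o, .o, .o, .i, .o], [.o, .o, .o, .o, .i], [.o, .i, .o, .o, .o], [.o, .o, .i, .o, .o]]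

/-- A diagonal matrix of determinant one. -/
def dd : Matrix (Fin 5) (Fin 5) F4 :=
  mk [[.w, .o, .o, .o, .o], [.o, .v, .o, .o, .o], [.o, .o, .i, .o, .o], [.o, .o, .o, .i, .o], [.o, .o, .o, .o, .i]]

/-- The invariant set of 55 vectors, as lists. -/
def sl : List (List F4) := [[.o, .o, .i, .w, .w],
[.o, .o, .w, .i, .i],
[.o, .o, .v, .i, .w],
[.o, .o, .v, .w, .i],
[.o, .i, .i, .o, .w],
[.o, .i, .w, .o, .v],
[.o, .w, .i, .o, .v],
[.o, .w, .w, .o, .i],
[.o, .v, .o, .v, .v],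
[.o, .v, .v, .v, .o],
[.i, .o, .i, .w, .o],
[.i, .o, .w, .v, .o],
[.i, .i, .w, .v, .v],
[.i, .i, .v, .i, .v],
[.i, .i, .v, .v, .i],
[.i, .w, .o, .o, .i],
[.i, .w, .o, .w, .o],
[.i, .w, .i, .w, .v],
[.i, .w, .w, .v, .i],
[.i, .w, .v, .w, .i],
[.i, .v, .o, .o, .w],
[.i, .v, .i, .i, .v],
[.i, .v, .i, .w, .w],
[.i, .v, .w, .v, .w],
[.i, .v, .v, .i, .w],
[.w, .o, .i, .v, .o],
[.w, .o, .w, .i, .o],
[.w, .i, .o, .o, .w],
[.w, .i, .o, .i, .o],
[.w, .i, .i, .v, .w],
[.w, .i, .w, .i, .v],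
[.w, .i, .v, .i, .w],
[.w, .w, .i, .v, .v],
[.w, .w, .v, .w, .v],
[.w, .w, .v, .v, .w],
[.w, .v, .o, .o, .i],
[.w, .v, .i, .v, .i],
[.w, .v, .w, .i, .i],
[.w, .v, .w, .w, .v],
[.w, .v, .v, .w, .i],
[.v, .o, .o, .v, .v],
[.v, .o, .v, .o, .v],
[.v, .i, .o, .w, .o],
[.v, .i, .i, .w, .w],
[.v, .i, .i, .v, .i],
[.v, .i, .w, .w, .v],
[.v, .i, .v, .w, .i],
[.v, .w, .o, .i, .o],
[.v, .w, .i, .i, .v],
[.v, .w, .w, .i, .i],
[.v, .w, .w, .v, .w],
[.v, .w, .v, .i, .w],
[.v, .v, .i, .i, .i],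
[.v, .v, .w, .w, .w],
[.v, .v, .v, .o, .o]]

/-- Vector from a list. -/
def vk (l : List F4) : Fin 5 → F4 := fun i => l.getD i.val .o

/-- Entrywise square. -/
def sqm (M : Matrix (Fin 5) (Fin 5) F4) : Matrix (Fin 5) (Fin 5) F4 := fun i j => M i j * M i j

theorem gm_zero : gm 0 = 1 := by decide +kernel

theorem gm_succ : ∀ k : Fin 11, gm 1 * gm k.val = gm ((k.val + 1) % 11) := by decide +kernel

theorem gm_isom : (gm 1).transpose * sqm (gm 1) = 1 := by decide +kernel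

theorem tau_isom : tau.transpose * sqm tau = 1 := by decide +kernel

theorem tt_isom : tt.transpose * sqm tt = 1 := by decide +kernel

theorem dd_isom : dd.transpose * sqm dd = 1 := by decide +kernel

theorem det_gm : (gm 1).det = 1 := by decide +kernel

theorem det_tau : tau.det = 1 := by decide +kernel

theorem det_tt : tt.det = 1 := by decide +kernel

theorem det_dd : dd.det = 1 := by decide +kernel

theorem tau_gm : ∀ k : Fin 11, tau * gm k.val = gm ((4 * k.val) % 11) * tau := by decide +kernel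

theorem trace_gm : ∀ k : Fin 11, Matrix.trace (gm k.val) = Matrix.trace (gm 1) →
    ∃ j : Fin 5, (4 ^ j.val) % 11 = k.val := by decide +kernel

theorem tt_gm : ∀ k : Fin 11, tt * gm 1 ≠ gm k.val * tt := by decide +kernel

/-- The predicate of membership in the invariant set. -/
def InS (v : Fin 5 → F4) : Prop := ∃ l ∈ sl, v = vk l

instance instDecInS (v : Fin 5 → F4) : Decidable (InS v) := by unfold InS; infer_instance

theorem gm_S : ∀ l ∈ sl, InS ((gm 1).mulVec (vk l)) := by decide +kernel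

theorem tau_S : ∀ l ∈ sl, InS (tau.mulVec (vk l)) := by decide +kernel

theorem tt_S : ∀ l ∈ sl, InS (tt.mulVec (vk l)) := by decide +kernel

theorem dd_S : ¬ InS (dd.mulVec (vk [.o, .i, .i, .o, .w])) := by decide +kernel

theorem mem_sl : [F4.o, .i, .i, .o, .w] ∈ sl := by decide +kernel

end Cfsg.Agent.H912.SUFive
end

-- part: H912/SUFive
section
/-!
# The normaliser of a field of degree 5 is not maximal in `SU_5(2)`

It has order 55 and lies in a proper subgroup preserving a set of 55 vectors.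
-/

set_option autoImplicit false

namespace Cfsg.Agent.H912.SUFive

open Cfsg Cfsg.Geo Cfsg.Agent.Lib.FieldFour Cfsg.Agent.LieClassical.GUOrder
open scoped Matrix MatrixGroups

variable {F : Type*} [Field F] [Fintype F] (hF : Fintype.card F = 2 ^ 2)

/-- The embedding of the explicit field. -/
noncomputable def emb : F4 →+* F := ((equivOfCard (hF.trans (by norm_num))).symm : F4 →+* F)

/-- Transfer of matrices. -/
noncomputable def up : Matrix (Fin 5) (Fin 5) F4 →+* Matrix (Fin 5) (Fin 5) F := (emb hF).mapMatrix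

theorem emb_injective : Function.Injective (emb hF) := (emb hF).injective

theorem up_injective : Function.Injective (up hF) := by
  intro A B h
  ext i j
  exact emb_injective hF (congrFun (congrFun h i) j)

theorem up_isom {M : Matrix (Fin 5) (Fin 5) F4} (h : M.transpose * sqm M = 1) :
    ∀ u v : Fin 5 → F, hermForm 5 F 2 (up hF M *ᵥ u) (up hF M *ᵥ v) = hermForm 5 F 2 u v := by
  rw [mul_map_eq_one_iff hF]
  have h1 : (up hF M)ᵀ = up hF M.transpose := rfl
  have h2 : (up hF M).map (frob hF) = up hF (sqm M) := by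
    ext i j
    change frob hF (emb hF (M i j)) = emb hF (M i j * M i j)
    rw [frob_apply, map_mul, sq]
  rw [h1, h2, ← map_mul, h, map_one]

omit [Fintype F] in
theorem mem_SL {g : GL (Fin 5) F} (h : (g : Matrix (Fin 5) (Fin 5) F).det = 1) :
    g ∈ Geo.specialLinear (Fin 5) F := by
  rw [Geo.specialLinear, MonoidHom.mem_ker]
  apply Units.ext
  simpa using h

omit [Fintype F] in
theorem det_of_mem_SL {g : GL (Fin 5) F} (h : g ∈ Geo.specialLinear (Fin 5) F) :
    (g : Matrix (Fin 5) (Fin 5) F).det = 1 := by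
  rw [Geo.specialLinear, MonoidHom.mem_ker] at h
  have := congrArg Units.val h
  simpa using this

theorem exists_gl {M : Matrix (Fin 5) (Fin 5) F4} (h : M.transpose * sqm M = 1) (hd : M.det = 1) :
    ∃ g : GL (Fin 5) F, g ∈ Cfsg.GU 5 F 2 ⊓ Geo.specialLinear (Fin 5) F ∧
      (g : Matrix (Fin 5) (Fin 5) F) = up hF M := by
  refine ⟨(mkGU hF (up hF M) (up_isom hF h)).1, ⟨(mkGU hF (up hF M) (up_isom hF h)).2, ?_⟩, rfl⟩
  apply mem_SL
  rw [coe_mkGU]
  rw [up, ← RingHom.map_det, hd, map_one]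

/-- The stabiliser of a set of vectors. -/
def setStab (T : Set (Fin 5 → F)) : Subgroup (GL (Fin 5) F) where
  carrier := {g | ∀ v, v ∈ T ↔ (g : Matrix (Fin 5) (Fin 5) F) *ᵥ v ∈ T}
  mul_mem' {a b} ha hb := by
    intro v
    rw [hb v, ha, Matrix.mulVec_mulVec, Units.val_mul]
  one_mem' := by
    intro v
    simp
  inv_mem' {a} ha := by
    intro v
    have h := ha (((a⁻¹ : GL (Fin 5) F) : Matrix (Fin 5) (Fin 5) F) *ᵥ v)
    rw [Matrix.mulVec_mulVec, ← Units.val_mul, mul_inv_cancel, Units.val_one, Matrix.one_mulVec] at h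
    exact h.symm

theorem mem_setStab_of_forward {T : Set (Fin 5 → F)} {g : GL (Fin 5) F}
    (h : ∀ v ∈ T, (g : Matrix (Fin 5) (Fin 5) F) *ᵥ v ∈ T) : g ∈ setStab T := by
  have hinj : Function.Injective (fun v : Fin 5 → F => (g : Matrix (Fin 5) (Fin 5) F) *ᵥ v) := by
    intro v w hvw
    have h1 := congrArg (fun x => ((g⁻¹ : GL (Fin 5) F) : Matrix (Fin 5) (Fin 5) F) *ᵥ x) hvw
    simpa [Matrix.mulVec_mulVec, ← Units.val_mul] using h1
  have hfin : T.Finite := Set.toFinite T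
  have himg : (fun v : Fin 5 → F => (g : Matrix (Fin 5) (Fin 5) F) *ᵥ v) '' T = T := by
    apply Set.eq_of_subset_of_ncard_le
    · rintro _ ⟨v, hv, rfl⟩
      exact h v hv
    · rw [Set.ncard_image_of_injective _ hinj]
    · exact hfin
  intro v
  refine ⟨h v, fun hv => ?_⟩
  rw [← himg] at hv
  obtain ⟨w, hw, hwv⟩ := hv
  rwa [← hinj hwv]

/-- The invariant set over `F`. -/
def theSet : Set (Fin 5 → F) := {v | ∃ l ∈ sl, v = fun i => emb hF (vk l i)}

theorem up_mulVec (M : Matrix (Fin 5) (Fin 5) F4) (v : Fin 5 → F4) :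
    up hF M *ᵥ (fun i => emb hF (v i)) = fun i => emb hF ((M *ᵥ v) i) := by
  ext i
  simp only [Matrix.mulVec, dotProduct, map_sum, map_mul]
  rfl

theorem mem_setStab_of_data {M : Matrix (Fin 5) (Fin 5) F4} (hM : ∀ l ∈ sl, InS (M.mulVec (vk l)))
    {g : GL (Fin 5) F} (hg : (g : Matrix (Fin 5) (Fin 5) F) = up hF M) : g ∈ setStab (theSet hF) := by
  apply mem_setStab_of_forward
  rintro _ ⟨l, hl, rfl⟩
  obtain ⟨l', hl', h⟩ := hM l hl
  refine ⟨l', hl', ?_⟩
  rw [hg, up_mulVec, h]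

theorem not_mem_of_data {g : GL (Fin 5) F} (hg : (g : Matrix (Fin 5) (Fin 5) F) = up hF dd) :
    g ∉ setStab (theSet hF) := by
  intro h
  have h1 := (h (fun i => emb hF (vk [.o, .i, .i, .o, .w] i))).1 ⟨_, mem_sl, rfl⟩
  rw [hg, up_mulVec] at h1
  obtain ⟨l, hl, h2⟩ := h1
  apply dd_S
  refine ⟨l, hl, ?_⟩
  ext i
  exact emb_injective hF (congrFun h2 i)

/-! ### Adjoints -/

/-- The adjoint for the standard form. -/
noncomputable def hadj (M : Matrix (Fin 5) (Fin 5) F) : Matrix (Fin 5) (Fin 5) F := (M.map (frob hF))ᵀ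

theorem hadj_mul (A B : Matrix (Fin 5) (Fin 5) F) : hadj hF (A * B) = hadj hF B * hadj hF A := by
  unfold hadj
  rw [← Matrix.transpose_mul]
  congr 1
  ext i j
  simp only [Matrix.map_apply, Matrix.mul_apply, map_sum, map_mul]

theorem hadj_add (A B : Matrix (Fin 5) (Fin 5) F) : hadj hF (A + B) = hadj hF A + hadj hF B := by
  ext i j
  simp [hadj]

theorem hadj_one : hadj hF (1 : Matrix (Fin 5) (Fin 5) F) = 1 := by
  ext i j
  simp only [hadj, Matrix.transpose_apply, Matrix.map_apply, Matrix.one_apply]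
  by_cases h : i = j
  · subst h; simp
  · rw [if_neg h, if_neg (Ne.symm h), map_zero]

theorem hadj_zero : hadj hF (0 : Matrix (Fin 5) (Fin 5) F) = 0 := by
  ext i j
  simp [hadj]

theorem hadj_hadj (A : Matrix (Fin 5) (Fin 5) F) : hadj hF (hadj hF A) = A := by
  ext i j
  simp only [hadj, Matrix.transpose_apply, Matrix.map_apply, frob_frob]

theorem hadj_algebraMap (c : F) :
    hadj hF (algebraMap F (Matrix (Fin 5) (Fin 5) F) c) = algebraMap F _ (c ^ 2) := by
  rw [Algebra.algebraMap_eq_smul_one, Algebra.algebraMap_eq_smul_one]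
  ext i j
  simp only [hadj, Matrix.transpose_apply, Matrix.map_apply, Matrix.smul_apply, Matrix.one_apply, smul_eq_mul]
  by_cases h : i = j
  · subst h; simp [frob_apply]
  · rw [if_neg h, if_neg (Ne.symm h), mul_zero, mul_zero, map_zero]

theorem herm_hadj (A : Matrix (Fin 5) (Fin 5) F) (u v : Fin 5 → F) :
    hermForm 5 F 2 (A *ᵥ u) v = hermForm 5 F 2 u (hadj hF A *ᵥ v) := by
  have key2 : ∀ u v : Fin 5 → F, hermForm 5 F 2 u v = u ⬝ᵥ (fun i => frob hF (v i)) :=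
    fun u v => rfl
  have h1 : (fun i => frob hF ((hadj hF A *ᵥ v) i)) = Aᵀ *ᵥ (fun i => frob hF (v i)) := by
    ext i
    simp only [Matrix.mulVec, dotProduct, map_sum, map_mul, hadj, Matrix.transpose_apply, Matrix.map_apply,
      frob_frob]
  rw [key2, key2, h1, Matrix.dotProduct_mulVec, Matrix.vecMul_transpose]

theorem eq_hadj {A B : Matrix (Fin 5) (Fin 5) F}
    (h : ∀ u v, hermForm 5 F 2 (A *ᵥ u) v = hermForm 5 F 2 u (B *ᵥ v)) : B = hadj hF A := by
  have h1 : ∀ (i : Fin 5) (w : Fin 5 → F), hermForm 5 F 2 (Pi.single i 1) w = frob hF (w i) := by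
    intro i w
    change (Pi.single i 1 : Fin 5 → F) ⬝ᵥ (fun i => frob hF (w i)) = _
    rw [single_one_dotProduct]
  have h2 : ∀ v, B *ᵥ v = hadj hF A *ᵥ v := by
    intro v
    ext i
    have h3 := h (Pi.single i 1) v
    rw [herm_hadj hF, h1, h1] at h3
    exact ((frob hF).injective h3).symm
  ext i j
  have := congrFun (h2 (Pi.single j 1)) i
  simpa [Matrix.mulVec_single_one] using this

theorem isom_iff_hadj (A : Matrix (Fin 5) (Fin 5) F) :
    (∀ u v, hermForm 5 F 2 (A *ᵥ u) (A *ᵥ v) = hermForm 5 F 2 u v) ↔ hadj hF A * A = 1 := by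
  rw [mul_map_eq_one_iff hF]
  constructor
  · intro h
    have := congrArg Matrix.transpose h
    rw [Matrix.transpose_mul, Matrix.transpose_transpose, Matrix.transpose_one] at this
    exact this
  · intro h
    have := congrArg Matrix.transpose h
    rw [Matrix.transpose_mul, Matrix.transpose_one] at this
    rw [hadj, Matrix.transpose_transpose] at this
    exact this

/-! ### Field theory -/

section FieldTheory

variable {K : Type*} [Field K] [Algebra F K]

include hF in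
/-- Elements with `x ^ 4 = x` lie in `F`. -/
theorem exists_of_pow_four {x : K} (hx : x ^ 4 = x) : ∃ c : F, algebraMap F K c = x := by
  have h1 : (∏ a : F, (Polynomial.X - Polynomial.C a)) = (Polynomial.X : Polynomial F) ^ 4 - Polynomial.X := by
    have hc4 : Fintype.card F = 4 := by rw [hF]; norm_num
    have h2 : (Polynomial.X ^ 4 - Polynomial.X : Polynomial F).roots = Finset.univ.val := by
      rw [← hc4]; exact FiniteField.roots_X_pow_card_sub_X F
    have h3 : (Polynomial.X ^ 4 - Polynomial.X : Polynomial F).Monic :=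
      Polynomial.monic_X_pow_sub (n := 4) (by rw [Polynomial.degree_X]; norm_num)
    have h4 : (Polynomial.X ^ 4 - Polynomial.X : Polynomial F).natDegree = 4 :=
      FiniteField.X_pow_card_sub_X_natDegree_eq F (by norm_num)
    have h5 := Polynomial.prod_multiset_X_sub_C_of_monic_of_roots_card_eq h3
      (by rw [h2, h4, Finset.card_val, Finset.card_univ, hc4])
    rw [h2] at h5
    exact h5
  have h2 := congrArg (Polynomial.aeval x) h1
  rw [map_prod, map_sub, map_pow, Polynomial.aeval_X, hx, sub_self, Finset.prod_eq_zero_iff] at h2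
  obtain ⟨c, -, hc⟩ := h2
  refine ⟨c, ?_⟩
  rw [map_sub, Polynomial.aeval_X, Polynomial.aeval_C, sub_eq_zero] at hc
  exact hc.symm

include hF in
theorem charTwo : CharP K 2 := by
  have h1 : CharP F 2 := by
    obtain ⟨p, hp⟩ := CharP.exists F
    obtain ⟨n, hpp, hn⟩ := FiniteField.card F p
    have : p ∣ 2 ^ 2 := by
      rw [← hF, hn]; exact dvd_pow_self p n.2.ne'
    have := (Nat.prime_dvd_prime_iff_eq hpp Nat.prime_two).1 (hpp.dvd_of_dvd_pow this)
    rwa [← this]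
  exact charP_of_injective_algebraMap (algebraMap F K).injective 2

include hF in
theorem star_root (s : K →+* K) (hss : ∀ x, s (s x) = x)
    (hsc : ∀ c : F, s (algebraMap F K c) = algebraMap F K (c ^ 2)) {y : K} (hy : y ^ 11 = 1) (hy1 : y ≠ 1) :
    s y * y = 1 := by
  have hch := charTwo (K := K) hF
  have hprim : IsPrimitiveRoot y 11 := by
    have : Fact (Nat.Prime 11) := ⟨by norm_num⟩
    rw [← orderOf_eq_prime hy hy1]
    exact IsPrimitiveRoot.orderOf y
  have h1 : (s y) ^ 11 = 1 := by rw [← map_pow, hy, map_one]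
  obtain ⟨a, ha, hay⟩ := hprim.eq_pow_of_pow_eq_one h1
  have h2 : y ^ (a * a) = y ^ 1 := by
    rw [pow_mul, hay, ← map_pow, hay, hss, pow_one]
  have h3 : (a * a) % 11 = 1 % 11 := by
    rw [pow_eq_pow_mod (a * a) hy, pow_eq_pow_mod 1 hy] at h2
    exact hprim.pow_inj (Nat.mod_lt _ (by norm_num)) (by norm_num) h2
  have h4 : a = 1 ∨ a = 10 := by
    interval_cases a <;> simp at h3 ⊢
  rcases h4 with rfl | rfl
  · exfalso
    rw [pow_one] at hay
    have hsum : 1 + y + y ^ 2 + y ^ 3 + y ^ 4 + y ^ 5 + y ^ 6 + y ^ 7 + y ^ 8 + y ^ 9 + y ^ 10 = 0 := by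
      have h5 : (y - 1) * (1 + y + y ^ 2 + y ^ 3 + y ^ 4 + y ^ 5 + y ^ 6 + y ^ 7 + y ^ 8 + y ^ 9 + y ^ 10) = 0 := by
        linear_combination hy
      exact (mul_eq_zero.1 h5).resolve_left (sub_ne_zero.2 hy1)
    have h20 : (2 : K) = 0 := CharTwo.two_eq_zero
    set η : K := y + y ^ 3 + y ^ 4 + y ^ 5 + y ^ 9 with hη
    have hη2 : η ^ 2 = y ^ 2 + y ^ 6 + y ^ 8 + y ^ 10 + y ^ 7 := by
      rw [hη, CharTwo.add_sq, CharTwo.add_sq, CharTwo.add_sq, CharTwo.add_sq]
      linear_combination y ^ 7 * hy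
    have hη4 : η ^ 4 = η := by
      have : η ^ 4 = (η ^ 2) ^ 2 := by ring
      rw [this, hη2, CharTwo.add_sq, CharTwo.add_sq, CharTwo.add_sq, CharTwo.add_sq, hη]
      linear_combination (y + y ^ 5 + y ^ 9 + y ^ 3) * hy
    obtain ⟨c, hc⟩ := exists_of_pow_four hF hη4
    have h6 : s η = η := by
      rw [hη]
      simp only [map_add, map_pow, ← hay]
    rw [← hc, hsc] at h6
    have h7 : c ^ 2 = c := (algebraMap F K).injective h6
    have h8 : η ^ 2 + η + 1 = 0 := by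
      rw [hη2, hη]
      linear_combination hsum
    rw [← hc, ← map_pow, h7] at h8
    have h9 : algebraMap F K c + algebraMap F K c = 0 := CharTwo.add_self_eq_zero _
    rw [h9, zero_add] at h8
    exact one_ne_zero h8
  · rw [← hay, ← pow_succ, hy]

end FieldTheory

/-! ### Conjugacy -/

open Pointwise in
theorem exists_conj_of_order {G : Type*} [Group G] [Finite G] {p : ℕ} [Fact p.Prime] {a b : G}
    (ha : orderOf a = p) (hb : orderOf b = p) (hp : ¬ p ^ 2 ∣ Nat.card G) :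
    ∃ g : G, g⁻¹ * b * g ∈ Subgroup.zpowers a := by
  have hz : ∀ c : G, orderOf c = p → ∃ P : Sylow p G, (P : Subgroup G) = Subgroup.zpowers c := by
    intro c hc
    have h1 : Nat.card (Subgroup.zpowers c) = p := by rw [Nat.card_zpowers, hc]
    have h2 : IsPGroup p (Subgroup.zpowers c) := IsPGroup.of_card (n := 1) (by rw [h1, pow_one])
    obtain ⟨P, hP⟩ := h2.exists_le_sylow
    refine ⟨P, (Subgroup.eq_of_le_of_card_ge hP ?_).symm⟩
    rw [h1, P.card_eq_multiplicity]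
    have h3 : (Nat.card G).factorization p ≤ 1 := by
      by_contra h
      exact hp ((pow_dvd_pow p (by omega)).trans (Nat.ordProj_dvd _ _))
    calc p ^ (Nat.card G).factorization p ≤ p ^ 1 := Nat.pow_le_pow_right (Fact.out : p.Prime).pos h3
      _ = p := pow_one p
  obtain ⟨P, hP⟩ := hz a ha
  obtain ⟨Q, hQ⟩ := hz b hb
  obtain ⟨g, hg⟩ := MulAction.exists_smul_eq G P Q
  refine ⟨g, ?_⟩
  have h1 : b ∈ (g • P : Sylow p G) := by
    rw [hg]
    change b ∈ (Q : Subgroup G)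
    rw [hQ]
    exact Subgroup.mem_zpowers b
  rw [← hP]
  have h2 : b ∈ (MulAut.conj g • (P : Subgroup G)) := h1
  rw [Subgroup.mem_pointwise_smul_iff_inv_smul_mem] at h2
  simpa [MulAut.smul_def, ← map_inv] using h2

/-! ### The field of degree five -/

section Main

variable {K : Subalgebra F (Matrix (Fin 5) (Fin 5) F)} (hK : IsFieldSubalgebra 5 K)
  (hKa : IsAdjointClosedFor (hermForm 5 F 2) K)

include hKa in
theorem hadj_mem {k : Matrix (Fin 5) (Fin 5) F} (hk : k ∈ K) : hadj hF k ∈ K := by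
  obtain ⟨k', hk', h⟩ := hKa k hk
  rwa [← eq_hadj hF h]

/-- The adjoint on the field. -/
noncomputable def star : K →+* K where
  toFun x := ⟨hadj hF x, hadj_mem hF hKa x.2⟩
  map_one' := Subtype.ext (hadj_one hF)
  map_zero' := Subtype.ext (hadj_zero hF)
  map_add' x y := Subtype.ext (hadj_add hF x y)
  map_mul' x y := Subtype.ext (by
    change hadj hF ((x : Matrix (Fin 5) (Fin 5) F) * y) = hadj hF x * hadj hF y
    rw [hadj_mul]
    exact hK.comm _ (hadj_mem hF hKa y.2) _ (hadj_mem hF hKa x.2))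

include hK hKa in
theorem hadj_mul_self {y : Matrix (Fin 5) (Fin 5) F} (hyK : y ∈ K) (hy : y ^ 11 = 1) (hy1 : y ≠ 1) :
    hadj hF y * y = 1 := by
  let _ : Field K := (isField_of_fieldSub hK).toField
  have h := star_root hF (star hF hK hKa) (fun x => Subtype.ext (hadj_hadj hF x))
    (fun c => Subtype.ext (by
      change hadj hF (algebraMap F (Matrix (Fin 5) (Fin 5) F) c) = algebraMap F _ (c ^ 2)
      exact hadj_algebraMap hF c)) (y := ⟨y, hyK⟩) (Subtype.ext hy) (fun h => hy1 (congrArg Subtype.val h))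
  exact congrArg Subtype.val h

include hF hK in
theorem exists_order : ∃ y ∈ K, y ^ 11 = 1 ∧ y ≠ 1 := by
  let _ : Field K := (isField_of_fieldSub hK).toField
  have : Finite K := Subtype.finite
  have hc : Nat.card K = 1024 := by
    have := Module.natCard_eq_pow_finrank (K := F) (V := K)
    rw [this, hK.finrank_eq, Nat.card_eq_fintype_card, hF]
    norm_num
  have hu : Nat.card Kˣ = 1023 := by
    rw [Nat.card_units, hc]
  have : Fact (Nat.Prime 11) := ⟨by norm_num⟩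
  obtain ⟨x, hx⟩ := exists_prime_orderOf_dvd_card' (G := Kˣ) 11 (by rw [hu]; norm_num)
  refine ⟨((x : K) : Matrix (Fin 5) (Fin 5) F), (x : K).2, ?_, ?_⟩
  · have h1 : x ^ 11 = 1 := by rw [← hx]; exact pow_orderOf_eq_one x
    have h2 := congrArg (fun z : Kˣ => ((z : K) : Matrix (Fin 5) (Fin 5) F)) h1
    exact h2
  · intro h
    have h1 : x = 1 := Units.ext (Subtype.ext h)
    rw [h1, orderOf_one] at hx
    norm_num at hx

/-- The `k`-th power of the element of order 11. -/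
theorem up_gm {G0 : GL (Fin 5) F} (hG0 : (G0 : Matrix (Fin 5) (Fin 5) F) = up hF (gm 1)) :
    ∀ k : ℕ, ((G0 ^ k : GL (Fin 5) F) : Matrix (Fin 5) (Fin 5) F) = up hF (gm (k % 11)) := by
  intro k
  induction k with
  | zero => rw [pow_zero, Units.val_one, Nat.zero_mod, gm_zero, map_one]
  | succ k ih =>
    rw [pow_succ', Units.val_mul, hG0, ih, ← map_mul, gm_succ ⟨k % 11, Nat.mod_lt _ (by norm_num)⟩]
    congr 2
    simp [Nat.add_mod]

theorem G0_pow {G0 : GL (Fin 5) F} (hG0 : (G0 : Matrix (Fin 5) (Fin 5) F) = up hF (gm 1)) : G0 ^ 11 = 1 := by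
  apply Units.ext
  rw [up_gm hF hG0 11, Nat.mod_self, gm_zero, map_one, Units.val_one]

theorem gm_one_ne : gm 1 ≠ 1 := by decide +kernel

theorem G0_ne {G0 : GL (Fin 5) F} (hG0 : (G0 : Matrix (Fin 5) (Fin 5) F) = up hF (gm 1)) : G0 ≠ 1 := by
  rintro rfl
  rw [Units.val_one, ← map_one (up hF)] at hG0
  exact gm_one_ne (up_injective hF hG0).symm

theorem tau_comm {G0 T : GL (Fin 5) F} (hG0 : (G0 : Matrix (Fin 5) (Fin 5) F) = up hF (gm 1))
    (hT : (T : Matrix (Fin 5) (Fin 5) F) = up hF tau) (k : ℕ) : T * G0 ^ k = G0 ^ (4 * k) * T := by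
  apply Units.ext
  rw [Units.val_mul, Units.val_mul, up_gm hF hG0, up_gm hF hG0, hT, ← map_mul, ← map_mul,
    tau_gm ⟨k % 11, Nat.mod_lt _ (by norm_num)⟩]
  congr 3
  simp [Nat.mul_mod]

theorem tau_pow_comm {G0 T : GL (Fin 5) F} (hG0 : (G0 : Matrix (Fin 5) (Fin 5) F) = up hF (gm 1))
    (hT : (T : Matrix (Fin 5) (Fin 5) F) = up hF tau) (j : ℕ) : T ^ j * G0 = G0 ^ (4 ^ j) * T ^ j := by
  induction j with
  | zero => simp
  | succ j ih =>
    rw [pow_succ', mul_assoc, ih, ← mul_assoc, tau_comm hF hG0 hT, mul_assoc]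
    rw [pow_succ' 4 j]

omit [Fintype F] in
/-- An element of `K` of order dividing 11 is a power of a given one of order 11. -/
theorem eq_pow_of_mem {c x : GL (Fin 5) F} (hK : IsFieldSubalgebra 5 K)
    (hc : (c : Matrix (Fin 5) (Fin 5) F) ∈ K) (hc11 : c ^ 11 = 1) (hc1 : c ≠ 1)
    (hx : (x : Matrix (Fin 5) (Fin 5) F) ∈ K) (hx11 : x ^ 11 = 1) : ∃ k < 11, x = c ^ k := by
  let _ : Field K := (isField_of_fieldSub hK).toField
  have : Fact (Nat.Prime 11) := ⟨by norm_num⟩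
  have h1 : (⟨c, hc⟩ : K) ^ 11 = 1 := Subtype.ext (congrArg Units.val hc11)
  have h2 : (⟨c, hc⟩ : K) ≠ 1 := fun h => hc1 (Units.ext (congrArg Subtype.val h))
  have hprim : IsPrimitiveRoot (⟨c, hc⟩ : K) 11 := by
    rw [← orderOf_eq_prime h1 h2]
    exact IsPrimitiveRoot.orderOf _
  have h3 : (⟨x, hx⟩ : K) ^ 11 = 1 := Subtype.ext (congrArg Units.val hx11)
  obtain ⟨k, hk, hkx⟩ := hprim.eq_pow_of_pow_eq_one h3
  refine ⟨k, hk, ?_⟩
  apply Units.ext
  rw [Units.val_pow_eq_pow_val]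
  exact (congrArg Subtype.val hkx).symm

include hF in
/-- Nontrivial elements of order 11 are not scalar. -/
theorem not_scalar {c : GL (Fin 5) F} (hc11 : c ^ 11 = 1) (hc1 : c ≠ 1) :
    ¬ ∃ a : F, (c : Matrix (Fin 5) (Fin 5) F) = a • (1 : Matrix (Fin 5) (Fin 5) F) := by
  rintro ⟨a, ha⟩
  have h1 : ((c ^ 11 : GL (Fin 5) F) : Matrix (Fin 5) (Fin 5) F) = 1 := by rw [hc11, Units.val_one]
  rw [Units.val_pow_eq_pow_val, ha, smul_pow, one_pow] at h1
  have h2 : a ^ 11 = 1 := by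
    have := congrFun (congrFun h1 0) 0
    simpa using this
  have h3 : a ^ 4 = a := by
    have := FiniteField.pow_card a
    rwa [hF] at this
  have ha1 : a = 1 := by
    have h4 : a ^ 12 = a ^ 3 := by
      calc a ^ 12 = (a ^ 4) ^ 3 := by ring
        _ = a ^ 3 := by rw [h3]
    have h5 : a = a ^ 3 := by
      calc a = a * a ^ 11 := by rw [h2, mul_one]
        _ = a ^ 12 := by ring
        _ = a ^ 3 := h4
    have h6 : a ^ 2 = 1 := by
      have h0 : a ≠ 0 := by rintro rfl; norm_num at h2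
      have : a * (a ^ 2 - 1) = 0 := by linear_combination -h5
      exact sub_eq_zero.1 ((mul_eq_zero.1 this).resolve_left h0)
    calc a = a ^ 4 := h3.symm
      _ = (a ^ 2) ^ 2 := by ring
      _ = 1 := by rw [h6, one_pow]
  apply hc1
  apply Units.ext
  rw [ha, ha1, one_smul, Units.val_one]

include hK in
theorem isUnit_of_mem {x : Matrix (Fin 5) (Fin 5) F} (hx : x ∈ K) (h0 : x ≠ 0) : IsUnit x := by
  obtain ⟨y, hy, hxy⟩ := hK.inv x hx h0
  exact IsUnit.of_mul_eq_one y hxy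

include hF hK in
/-- The centraliser of an element of order 11. -/
theorem mem_adjoin_of_commute {c : GL (Fin 5) F} (hc : (c : Matrix (Fin 5) (Fin 5) F) ∈ K)
    (hc11 : c ^ 11 = 1) (hc1 : c ≠ 1) {M : Matrix (Fin 5) (Fin 5) F}
    (hM : M * (c : Matrix (Fin 5) (Fin 5) F) = c * M) :
    M ∈ Algebra.adjoin F {(c : Matrix (Fin 5) (Fin 5) F)} := by
  have hle : Algebra.adjoin F {(c : Matrix (Fin 5) (Fin 5) F)} ≤ K :=
    Algebra.adjoin_le (Set.singleton_subset_iff.2 hc)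
  refine Cfsg.Agent.H907.mem_of_commute (r := 5) (by norm_num) (Fintype.card_fin 5) _
    (fun x hx y hy => hK.comm x (hle hx) y (hle hy)) (fun x hx h0 => isUnit_of_mem hK (hle hx) h0)
    ⟨c, Algebra.subset_adjoin rfl, not_scalar hF hc11 hc1⟩ ?_
  intro x hx
  have h1 : x ∈ Subalgebra.centralizer F {M} := by
    refine (Algebra.adjoin_le (S := Subalgebra.centralizer F {M}) ?_) hx
    rw [Set.singleton_subset_iff]
    intro y hy
    rw [Set.mem_singleton_iff] at hy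
    subst hy
    exact hM
  exact h1 M rfl

include hK hKa in
/-- The adjoint is the 32nd power. -/
theorem hadj_eq_pow {c : GL (Fin 5) F} (hc : (c : Matrix (Fin 5) (Fin 5) F) ∈ K)
    (hc11 : c ^ 11 = 1) (hc1 : c ≠ 1) {M : Matrix (Fin 5) (Fin 5) F}
    (hM : M ∈ Algebra.adjoin F {(c : Matrix (Fin 5) (Fin 5) F)}) : hadj hF M = M ^ 32 := by
  have hle : Algebra.adjoin F {(c : Matrix (Fin 5) (Fin 5) F)} ≤ K :=
    Algebra.adjoin_le (Set.singleton_subset_iff.2 hc)
  induction hM using Algebra.adjoin_induction with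
  | mem x hx =>
    rw [Set.mem_singleton_iff] at hx
    subst hx
    have h1 : (c : Matrix (Fin 5) (Fin 5) F) ^ 11 = 1 := by
      rw [← Units.val_pow_eq_pow_val, hc11, Units.val_one]
    have h2 := hadj_mul_self hF hK hKa hc h1 (fun h => hc1 (Units.ext h))
    have h3 : (c : Matrix (Fin 5) (Fin 5) F) * (c : Matrix (Fin 5) (Fin 5) F) ^ 10 = 1 := by
      rw [← pow_succ', h1]
    have h4 : (c : Matrix (Fin 5) (Fin 5) F) ^ 32 = (c : Matrix (Fin 5) (Fin 5) F) ^ 10 := by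
      rw [pow_eq_pow_mod 32 h1]
    rw [h4]
    calc hadj hF (c : Matrix (Fin 5) (Fin 5) F)
        = hadj hF (c : Matrix (Fin 5) (Fin 5) F) * ((c : Matrix (Fin 5) (Fin 5) F) *
          (c : Matrix (Fin 5) (Fin 5) F) ^ 10) := by rw [h3, mul_one]
      _ = (c : Matrix (Fin 5) (Fin 5) F) ^ 10 := by rw [← mul_assoc, h2, one_mul]
  | algebraMap a =>
    rw [hadj_algebraMap, ← map_pow]
    congr 1
    have h3 : a ^ 4 = a := by
      have := FiniteField.pow_card a
      rwa [hF] at this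
    have h4 : a ^ 32 = ((a ^ 4) ^ 4) ^ 2 := by ring
    rw [h4, h3, h3]
  | add x y hx hy ihx ihy =>
    rw [hadj_add, ihx, ihy]
    let _ : Field K := (isField_of_fieldSub hK).toField
    have hch := charTwo (K := K) hF
    have := add_pow_char_pow (⟨x, hle hx⟩ : K) ⟨y, hle hy⟩ 2 5
    have h2 := congrArg Subtype.val this
    exact h2.symm
  | mul x y hx hy ihx ihy =>
    rw [hadj_mul, ihx, ihy]
    have hcomm : Commute x y := hK.comm x (hle hx) y (hle hy)
    rw [hcomm.mul_pow]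
    exact ((hcomm.pow_pow 32 32).eq).symm

include hF hK hKa in
/-- Elements of `SU` centralising an element of order 11 of the field are powers of it. -/
theorem mem_zpowers_of_commute {c m : GL (Fin 5) F} (hc : (c : Matrix (Fin 5) (Fin 5) F) ∈ K)
    (hc11 : c ^ 11 = 1) (hc1 : c ≠ 1) (hm : m ∈ Cfsg.GU 5 F 2 ⊓ Geo.specialLinear (Fin 5) F)
    (hM : m * c = c * m) : ∃ i : ℕ, m = c ^ i := by
  have hM' : (m : Matrix (Fin 5) (Fin 5) F) * (c : Matrix (Fin 5) (Fin 5) F) = c * m := by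
    rw [← Units.val_mul, hM, Units.val_mul]
  have hA := mem_adjoin_of_commute hF hK hc hc11 hc1 hM'
  have hle : Algebra.adjoin F {(c : Matrix (Fin 5) (Fin 5) F)} ≤ K :=
    Algebra.adjoin_le (Set.singleton_subset_iff.2 hc)
  have hmK : (m : Matrix (Fin 5) (Fin 5) F) ∈ K := hle hA
  have h1 := (isom_iff_hadj hF (m : Matrix (Fin 5) (Fin 5) F)).1 hm.1
  rw [hadj_eq_pow hF hK hKa hc hc11 hc1 hA, ← pow_succ] at h1
  have h33 : m ^ 33 = 1 := Units.ext (by rw [Units.val_pow_eq_pow_val, h1, Units.val_one])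
  obtain ⟨k, -, hk⟩ := eq_pow_of_mem (c := c) (x := m ^ 3) hK hc hc11 hc1
    (by rw [Units.val_pow_eq_pow_val]; exact K.pow_mem hmK 3) (by rw [← pow_mul]; exact h33)
  let _ : Field K := (isField_of_fieldSub hK).toField
  obtain ⟨a, ha⟩ := exists_of_pow_four (K := K) hF (x := (⟨m, hmK⟩ : K) ^ 11) (by
    apply Subtype.ext
    change ((m : Matrix (Fin 5) (Fin 5) F) ^ 11) ^ 4 = (m : Matrix (Fin 5) (Fin 5) F) ^ 11
    rw [← pow_mul, show 11 * 4 = 33 + 11 by norm_num, pow_add, h1, one_mul])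
  have ha' : algebraMap F (Matrix (Fin 5) (Fin 5) F) a = (m : Matrix (Fin 5) (Fin 5) F) ^ 11 :=
    congrArg Subtype.val ha
  have hdm := det_of_mem_SL hm.2
  have h5 : a ^ 5 = 1 := by
    have := congrArg Matrix.det ha'
    rw [Matrix.det_pow, hdm, one_pow, Algebra.algebraMap_eq_smul_one, Matrix.det_smul, Matrix.det_one,
      Fintype.card_fin, mul_one] at this
    exact this
  have h3 : a ^ 4 = a := by
    have := FiniteField.pow_card a
    rwa [hF] at this
  have ha1 : a = 1 := by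
    have h6 : a ^ 2 = 1 := by
      calc a ^ 2 = a * a := sq a
        _ = a ^ 4 * a := by rw [h3]
        _ = a ^ 5 := by ring
        _ = 1 := h5
    calc a = a ^ 4 := h3.symm
      _ = (a ^ 2) ^ 2 := by ring
      _ = 1 := by rw [h6, one_pow]
  have h11 : m ^ 11 = 1 := by
    apply Units.ext
    rw [Units.val_pow_eq_pow_val, ← ha', ha1, map_one, Units.val_one]
  refine ⟨4 * k, ?_⟩
  calc m = m ^ 12 := by rw [show 12 = 11 + 1 by norm_num, pow_succ, h11, one_mul]
    _ = (m ^ 3) ^ 4 := by rw [← pow_mul]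
    _ = c ^ (4 * k) := by rw [hk, ← pow_mul, mul_comm]

include hF in
theorem not_sq_dvd : ¬ 11 ^ 2 ∣ Nat.card (Cfsg.GU 5 F 2) := by
  rw [Cfsg.Agent.S0277.result hF]
  simp only [Finset.prod_range_succ, Finset.prod_range_zero]
  decide

include hF hK hKa in
/-- The normaliser of an adjoint-closed field of degree 5 is not maximal in `SU_5(2)`. -/
theorem not_maximal : ¬ IsMaximalIn (Cfsg.GU 5 F 2 ⊓ Geo.specialLinear (Fin 5) F)
    (subalgebraNormalizer K ⊓ (Cfsg.GU 5 F 2 ⊓ Geo.specialLinear (Fin 5) F)) := by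
  intro hmax
  have : Fact (Nat.Prime 11) := ⟨by norm_num⟩
  obtain ⟨G0, hG0, hG0m⟩ := exists_gl hF gm_isom det_gm
  obtain ⟨T, hT, hTm⟩ := exists_gl hF tau_isom det_tau
  obtain ⟨t, ht, htm⟩ := exists_gl hF tt_isom det_tt
  obtain ⟨D, hD, hDm⟩ := exists_gl hF dd_isom det_dd
  have hG11 := G0_pow hF hG0m
  have hG1 := G0_ne hF hG0m
  -- an element of order 11 of `K`
  obtain ⟨y, hyK, hy11, hy1⟩ := exists_order hF hK
  have hyh := hadj_mul_self hF hK hKa hyK hy11 hy1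
  have hyi := (isom_iff_hadj hF y).2 hyh
  set gy := mkGU hF y hyi with hgy
  have hgym : ((gy : GL (Fin 5) F) : Matrix (Fin 5) (Fin 5) F) = y := coe_mkGU hF y hyi
  have hfin : Finite (Cfsg.GU 5 F 2) := finite_GU 5
  have hoy : orderOf gy = 11 := by
    apply orderOf_eq_prime
    · apply Subtype.ext
      apply Units.ext
      rw [Subgroup.coe_pow, Units.val_pow_eq_pow_val, hgym, hy11]
      rfl
    · intro h
      apply hy1
      rw [← hgym, h]
      rfl
  have hoG : orderOf (⟨G0, hG0.1⟩ : Cfsg.GU 5 F 2) = 11 := by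
    apply orderOf_eq_prime
    · exact Subtype.ext hG11
    · intro h
      exact hG1 (congrArg Subtype.val h)
  obtain ⟨g, hg⟩ := exists_conj_of_order hoy hoG (not_sq_dvd hF)
  set c : GL (Fin 5) F := (g : GL (Fin 5) F)⁻¹ * G0 * g with hcdef
  have hcK : (c : Matrix (Fin 5) (Fin 5) F) ∈ K := by
    obtain ⟨n, hn⟩ := Submonoid.mem_powers_iff _ _ |>.1 (mem_powers_iff_mem_zpowers.2 hg)
    have h1 : ((gy ^ n : Cfsg.GU 5 F 2) : GL (Fin 5) F) = c := congrArg Subtype.val hn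
    rw [← h1, Subgroup.coe_pow, Units.val_pow_eq_pow_val, hgym]
    exact K.pow_mem hyK n
  have hconj : ∀ k : ℕ, c ^ k = (g : GL (Fin 5) F)⁻¹ * G0 ^ k * g := by
    intro k
    induction k with
    | zero => simp
    | succ k ih => rw [pow_succ, ih, hcdef, pow_succ]; group
  have hc11 : c ^ 11 = 1 := by rw [hconj, hG11]; group
  have hc1 : c ≠ 1 := by
    intro h
    apply hG1
    have h1 : G0 = (g : GL (Fin 5) F) * c * (g : GL (Fin 5) F)⁻¹ := by rw [hcdef]; group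
    rw [h1, h]; group
  -- conjugation of `SU`
  have hSU : ∀ (a : Cfsg.GU 5 F 2) (x : GL (Fin 5) F), x ∈ Cfsg.GU 5 F 2 ⊓ Geo.specialLinear (Fin 5) F →
      (a : GL (Fin 5) F) * x * (a : GL (Fin 5) F)⁻¹ ∈ Cfsg.GU 5 F 2 ⊓ Geo.specialLinear (Fin 5) F := by
    intro a x hx
    have h1 : x ∈ Geo.specialLinear (Fin 5) F := hx.2
    have h2 : (a : GL (Fin 5) F) * x * (a : GL (Fin 5) F)⁻¹ ∈ Geo.specialLinear (Fin 5) F := by
      rw [Geo.specialLinear, MonoidHom.mem_ker] at h1 ⊢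
      rw [map_mul, map_mul, h1, map_inv, mul_one, mul_inv_cancel]
    exact ⟨(Cfsg.GU 5 F 2).mul_mem ((Cfsg.GU 5 F 2).mul_mem a.2 hx.1) ((Cfsg.GU 5 F 2).inv_mem a.2), h2⟩
  have hSU' : ∀ x : GL (Fin 5) F, x ∈ Cfsg.GU 5 F 2 ⊓ Geo.specialLinear (Fin 5) F →
      (g : GL (Fin 5) F)⁻¹ * x * (g : GL (Fin 5) F) ∈ Cfsg.GU 5 F 2 ⊓ Geo.specialLinear (Fin 5) F := by
    intro x hx
    have := hSU g⁻¹ x hx
    simpa using this
  -- the overgroup
  set L : Subgroup (GL (Fin 5) F) := (setStab (theSet hF)).comap (MulAut.conj (g : GL (Fin 5) F)).toMonoidHom ⊓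
    (Cfsg.GU 5 F 2 ⊓ Geo.specialLinear (Fin 5) F) with hL
  have hmemL : ∀ x : GL (Fin 5) F, x ∈ L ↔ (g : GL (Fin 5) F) * x * (g : GL (Fin 5) F)⁻¹ ∈ setStab (theSet hF) ∧
      x ∈ Cfsg.GU 5 F 2 ⊓ Geo.specialLinear (Fin 5) F := by
    intro x
    rw [hL, Subgroup.mem_inf, Subgroup.mem_comap]
    rfl
  have hG0S : G0 ∈ setStab (theSet hF) := mem_setStab_of_data hF gm_S hG0m
  have hTS : T ∈ setStab (theSet hF) := mem_setStab_of_data hF tau_S hTm
  have htS : t ∈ setStab (theSet hF) := mem_setStab_of_data hF tt_S htm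
  -- normalising `K`
  have hnorm : ∀ n ∈ subalgebraNormalizer K, ∃ k < 11, n * c * n⁻¹ = c ^ k := by
    intro n hn
    apply eq_pow_of_mem hK hcK hc11 hc1
    · have := (hn (c : Matrix (Fin 5) (Fin 5) F)).1 hcK
      rw [Units.val_mul, Units.val_mul]
      exact this
    · have h1 : (n * c * n⁻¹) ^ 11 = n * c ^ 11 * n⁻¹ := by
        simp
      rw [h1, hc11]; group
  have hnorm' : ∀ n ∈ subalgebraNormalizer K, ∃ k < 11,
      ((g : GL (Fin 5) F) * n * (g : GL (Fin 5) F)⁻¹) * G0 =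
        G0 ^ k * ((g : GL (Fin 5) F) * n * (g : GL (Fin 5) F)⁻¹) := by
    intro n hn
    obtain ⟨k, hk, h⟩ := hnorm n hn
    refine ⟨k, hk, ?_⟩
    rw [hconj, hcdef] at h
    have h1 : G0 ^ k = (g : GL (Fin 5) F) * ((g : GL (Fin 5) F)⁻¹ * G0 ^ k * g) * (g : GL (Fin 5) F)⁻¹ := by group
    rw [h1, ← h]
    group
  have h1 : subalgebraNormalizer K ⊓ (Cfsg.GU 5 F 2 ⊓ Geo.specialLinear (Fin 5) F) ≤ L := by
    intro n hn
    rw [hmemL]
    refine ⟨?_, hn.2⟩
    obtain ⟨k, hk, h⟩ := hnorm' n hn.1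
    set n' := (g : GL (Fin 5) F) * n * (g : GL (Fin 5) F)⁻¹ with hn'
    have hn'SU : n' ∈ Cfsg.GU 5 F 2 ⊓ Geo.specialLinear (Fin 5) F := hSU g n hn.2
    have htr : Matrix.trace (up hF (gm k)) = Matrix.trace (up hF (gm 1)) := by
      have h2 : n' * G0 * n'⁻¹ = G0 ^ k := by rw [h]; group
      have h3 := congrArg (fun x : GL (Fin 5) F => Matrix.trace (x : Matrix (Fin 5) (Fin 5) F)) h2
      simp only [Units.val_mul] at h3
      rw [Matrix.trace_mul_comm, ← mul_assoc, ← Units.val_mul, inv_mul_cancel, Units.val_one, one_mul,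
        up_gm hF hG0m, hG0m, Nat.mod_eq_of_lt hk] at h3
      exact h3.symm
    have htr' : Matrix.trace (gm k) = Matrix.trace (gm 1) := by
      apply emb_injective hF
      have h2 : ∀ M : Matrix (Fin 5) (Fin 5) F4, emb hF (Matrix.trace M) = Matrix.trace (up hF M) := by
        intro M
        simp only [Matrix.trace, map_sum]
        rfl
      rw [h2, h2, htr]
    obtain ⟨j, hj⟩ := trace_gm ⟨k, hk⟩ htr'
    simp only at hj
    have hGk : G0 ^ k = G0 ^ (4 ^ j.val) := by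
      rw [pow_eq_pow_mod (4 ^ j.val) hG11, hj]
    have hTj := tau_pow_comm hF hG0m hTm j.val
    -- `m' = (T ^ j)⁻¹ n'` commutes with `G0`
    have hTjSU : T ^ j.val ∈ Cfsg.GU 5 F 2 ⊓ Geo.specialLinear (Fin 5) F := Subgroup.pow_mem _ hT _
    set m' := (T ^ j.val)⁻¹ * n' with hm'
    have hm'SU : m' ∈ Cfsg.GU 5 F 2 ⊓ Geo.specialLinear (Fin 5) F :=
      Subgroup.mul_mem _ (Subgroup.inv_mem _ hTjSU) hn'SU
    have hm'G : m' * G0 = G0 * m' := by
      rw [hm', mul_assoc, h, hGk]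
      have h4 : G0 ^ (4 ^ j.val) = T ^ j.val * G0 * (T ^ j.val)⁻¹ := by rw [hTj]; group
      rw [h4]; group
    have hmc : ((g : GL (Fin 5) F)⁻¹ * m' * g) * c = c * ((g : GL (Fin 5) F)⁻¹ * m' * g) := by
      rw [hcdef]
      calc ((g : GL (Fin 5) F)⁻¹ * m' * g) * ((g : GL (Fin 5) F)⁻¹ * G0 * g)
          = (g : GL (Fin 5) F)⁻¹ * (m' * G0) * g := by group
        _ = (g : GL (Fin 5) F)⁻¹ * (G0 * m') * g := by rw [hm'G]
        _ = _ := by group
    obtain ⟨i, hi⟩ := mem_zpowers_of_commute hF hK hKa hcK hc11 hc1 (hSU' m' hm'SU) hmc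
    have hmi : m' = G0 ^ i := by
      rw [hconj] at hi
      have h5 : m' = (g : GL (Fin 5) F) * ((g : GL (Fin 5) F)⁻¹ * m' * g) * (g : GL (Fin 5) F)⁻¹ := by group
      rw [h5, hi]; group
    have hn'eq : n' = T ^ j.val * G0 ^ i := by rw [← hmi, hm']; group
    rw [hn'eq]
    exact Subgroup.mul_mem _ (Subgroup.pow_mem _ hTS _) (Subgroup.pow_mem _ hG0S _)
  rcases hmax.2 L h1 inf_le_right with h2 | h2
  · have h3 : (g : GL (Fin 5) F)⁻¹ * t * g ∈ L := by
      rw [hmemL]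
      refine ⟨?_, hSU' t ht⟩
      have : (g : GL (Fin 5) F) * ((g : GL (Fin 5) F)⁻¹ * t * g) * (g : GL (Fin 5) F)⁻¹ = t := by group
      rw [this]
      exact htS
    rw [h2] at h3
    obtain ⟨k, hk, h4⟩ := hnorm' _ h3.1
    have h5 : (g : GL (Fin 5) F) * ((g : GL (Fin 5) F)⁻¹ * t * g) * (g : GL (Fin 5) F)⁻¹ = t := by group
    rw [h5] at h4
    have h6 := congrArg (fun x : GL (Fin 5) F => (x : Matrix (Fin 5) (Fin 5) F)) h4
    simp only [Units.val_mul] at h6
    rw [up_gm hF hG0m, hG0m, htm, Nat.mod_eq_of_lt hk, ← map_mul, ← map_mul] at h6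
    exact tt_gm ⟨k, hk⟩ (up_injective hF h6)
  · have h3 : (g : GL (Fin 5) F)⁻¹ * D * g ∈ L := by
      rw [h2]
      exact hSU' D hD
    have h4 := ((hmemL _).1 h3).1
    have h5 : (g : GL (Fin 5) F) * ((g : GL (Fin 5) F)⁻¹ * D * g) * (g : GL (Fin 5) F)⁻¹ = D := by group
    rw [h5] at h4
    exact not_mem_of_data hF hDm h4

end Main

end Cfsg.Agent.H912.SUFive
end

-- part: H912/SUFiveWrap
section
/-!
# Maximal subgroups of `SU_5(q)`: bookkeeping
-/

set_option autoImplicit false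

namespace Cfsg.Agent.H912

open Cfsg Cfsg.Agent.H918
open scoped Matrix MatrixGroups

/-- The minimal field containing the fifth roots of unity. -/
theorem five_minimal {F : Type*} [Field F] [Fintype F] {q p e : ℕ} (hF : Fintype.card F = q ^ 2)
    (h : Geo.IsMinimalFieldFor 5 p e F) :
    p.Prime ∧ CharP F p ∧ ((q = p ∧ p % 5 = 4) ∨ (q = p ^ 2 ∧ (p % 5 = 2 ∨ p % 5 = 3))) := by
  obtain ⟨hp, hch, hc, h5, hd⟩ := h
  refine ⟨hp, hch, ?_⟩
  have hp2 := hp.two_le
  have hq0 : q ≠ 0 := by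
    rintro rfl
    rw [hF] at hc
    have := pow_pos hp.pos e
    norm_num at hc
    omega
  -- `e` is even
  obtain ⟨m, hm⟩ : ∃ m, e = 2 * m := by
    rw [hF] at hc
    have h1 : (q ^ 2).factorization p = (p ^ e).factorization p := by rw [hc]
    rw [Nat.factorization_pow, hp.factorization_pow] at h1
    simp at h1
    exact ⟨_, h1.symm⟩
  have hqm : q = p ^ m := by
    rw [hF, hm, mul_comm, pow_mul] at hc
    exact Nat.pow_left_injective two_ne_zero hc
  have hm0 : m ≠ 0 := by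
    rintro rfl
    rw [pow_zero] at hqm
    subst hqm
    have : 1 < Fintype.card F := Fintype.one_lt_card
    omega
  -- `5 ∣ p ^ 4 - 1`
  have hmod : ∀ k, p ^ k % 5 = (p % 5) ^ k % 5 := fun k => Nat.pow_mod p k 5
  have hdvd : ∀ k, 5 ∣ p ^ k - 1 ↔ p ^ k % 5 = 1 := by
    intro k
    have := pow_pos hp.pos k
    omega
  have hp5 : p % 5 ≠ 0 := by
    intro h0
    have h1 := (hdvd e).1 h5
    rw [hmod, h0, zero_pow (by omega)] at h1
    omega
  have hlt : p % 5 < 5 := Nat.mod_lt _ (by norm_num)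
  have h1 : ¬ p % 5 = 1 := by
    intro h1
    exact hd 1 one_pos (by omega) ((hdvd 1).2 (by rw [hmod, h1]; norm_num))
  have hcase : p % 5 = 4 ∨ p % 5 = 2 ∨ p % 5 = 3 := by omega
  rcases hcase with h4 | h4
  · left
    have hm1 : m = 1 := by
      by_contra hne
      exact hd 2 two_pos (by omega) ((hdvd 2).2 (by rw [hmod, h4]; norm_num))
    rw [hm1, pow_one] at hqm
    exact ⟨hqm, h4⟩
  · right
    have hm2 : m ≤ 2 := by
      by_contra hne
      exact hd 4 (by norm_num) (by omega) ((hdvd 4).2 (by rcases h4 with h4 | h4 <;> rw [hmod, h4] <;> norm_num))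
    have hm1 : m ≠ 1 := by
      rintro rfl
      have h6 := (hdvd e).1 h5
      rw [hm, hmod] at h6
      rcases h4 with h4 | h4 <;> rw [h4] at h6 <;> norm_num at h6
    have : m = 2 := by omega
    rw [this] at hqm
    exact ⟨hqm, h4⟩

theorem five_ne_pow {k t : ℕ} (ht : 2 ≤ t) : k ^ t ≠ 5 := by
  intro h
  have hk : k ≤ 2 := by
    by_contra hk
    have h1 : 3 ^ t ≤ k ^ t := Nat.pow_le_pow_left (by omega) t
    have h2 : 3 ^ 2 ≤ 3 ^ t := Nat.pow_le_pow_right (by norm_num) ht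
    omega
  interval_cases k
  · rw [zero_pow (by omega)] at h
    omega
  · rw [one_pow] at h
    omega
  · have ht' : t = 2 ∨ 3 ≤ t := by omega
    rcases ht' with rfl | h1
    · omega
    · have : 2 ^ 3 ≤ 2 ^ t := Nat.pow_le_pow_right (by norm_num) h1
      omega

theorem su_five_cases {F : Type*} [Field F] [Fintype F] (q : ℕ) (hF : Fintype.card F = q ^ 2)
    (H : Subgroup (Matrix.GeneralLinearGroup (Fin 5) F))
    (hH : Cfsg.Geo.IsMaximalIn (Cfsg.GU 5 F q ⊓ Cfsg.Geo.specialLinear (Fin 5) F) H)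
    (h : (∃ M : Subgroup (Matrix.GeneralLinearGroup (Fin 5) F), Geo.InUnitaryClass 5 F q M ∧ H ≤ M) ∨
      Geo.InUnitaryResidualClass H) :
    (∃ W : Submodule F (Fin 5 → F), W ≠ ⊥ ∧ Cfsg.Geo.IsTotallySingularFor (Cfsg.hermForm 5 F q) W ∧ H = Cfsg.Geo.subspaceStabilizer W ⊓ (Cfsg.GU 5 F q ⊓ Cfsg.Geo.specialLinear (Fin 5) F)) ∨
    (∃ W : Submodule F (Fin 5 → F), W ≠ ⊥ ∧ Cfsg.Geo.IsNondegenerateOn (Cfsg.hermForm 5 F q) W ∧ 2 * Module.finrank F W < 5 ∧ H = Cfsg.Geo.subspaceStabilizer W ⊓ (Cfsg.GU 5 F q ⊓ Cfsg.Geo.specialLinear (Fin 5) F)) ∨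
    (∃ D : Fin 5 → Submodule F (Fin 5 → F), Cfsg.Geo.IsNondegenerateMDecomposition (Cfsg.hermForm 5 F q) 1 D ∧ H = Cfsg.Geo.decompositionStabilizer D ⊓ (Cfsg.GU 5 F q ⊓ Cfsg.Geo.specialLinear (Fin 5) F)) ∨
    (3 ≤ q ∧ ∃ K : Subalgebra F (Matrix (Fin 5) (Fin 5) F), Cfsg.Geo.IsFieldSubalgebra 5 K ∧ Cfsg.Geo.IsAdjointClosedFor (Cfsg.hermForm 5 F q) K ∧ H = Cfsg.Geo.subalgebraNormalizer K ⊓ (Cfsg.GU 5 F q ⊓ Cfsg.Geo.specialLinear (Fin 5) F)) ∨
    (∃ (F₀ : Subfield F) (r : ℕ) (P : Matrix.GeneralLinearGroup (Fin 5) F), r.Prime ∧ Odd r ∧ Fintype.card F = Nat.card F₀ ^ r ∧ Cfsg.Geo.IsFormRationalStructure (Cfsg.hermForm 5 F q) F₀ 1 P ∧ H = Cfsg.Geo.subfieldSubgroup F₀ P ⊓ (Cfsg.GU 5 F q ⊓ Cfsg.Geo.specialLinear (Fin 5) F)) ∨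
    (Odd q ∧ ∃ (F₀ : Subfield F) (P : Matrix.GeneralLinearGroup (Fin 5) F), Fintype.card F = Nat.card F₀ ^ 2 ∧ Cfsg.Geo.IsFormRationalStructure (Cfsg.hermForm 5 F q) F₀ 1 P ∧ H = Cfsg.Geo.subfieldSubgroup F₀ P ⊓ (Cfsg.GU 5 F q ⊓ Cfsg.Geo.specialLinear (Fin 5) F)) ∨
    (∃ (p : ℕ) (R : Subgroup (Matrix.GeneralLinearGroup (Fin 5) F)), p.Prime ∧ CharP F p ∧ ((q = p ∧ p % 5 = 4) ∨ (q = p ^ 2 ∧ (p % 5 = 2 ∨ p % 5 = 3))) ∧ Cfsg.Geo.IsSymplecticTypeGroup 5 R ∧ Cfsg.Geo.ActsAbsolutelyIrreducibly (Cfsg.Geo.matrixSet R) ∧ R ≤ Cfsg.Geo.similarityGroup (Cfsg.hermForm 5 F q) ∧ Nat.card R = 125 ∧ Nat.card (Subgroup.center R) = 5 ∧ H = Cfsg.Geo.subgroupNormalizer R ⊓ (Cfsg.GU 5 F q ⊓ Cfsg.Geo.specialLinear (Fin 5) F)) ∨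
    Cfsg.Geo.InUnitaryResidualClass H := by
  have h32 : ¬ (5 = 3 ∧ q = 2) := by omega
  have hq2 : 2 ≤ q := by
    have h1 : 1 < Fintype.card F := Fintype.one_lt_card
    by_contra hq
    have : q = 0 ∨ q = 1 := by omega
    rcases this with rfl | rfl <;> simp [hF] at h1
  have hq : q = 2 ∨ 3 ≤ q := by omega
  have h' := unitary_maximal_cases hF (by norm_num) h32 hH
    (fun k t e P hk ht hkt _ => five_ne_pow ht hkt) h
  rcases h' with h | h | ⟨t, k, D, htk, ht, hD, h⟩ | ⟨k, D, hk, -⟩ | h | h |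
    ⟨F₀, P, ζ, hev, -⟩ | ⟨r, R, p, e, k, hR, habs, hRs, hrp, hmin, hro, hz, hk1, hcR, hn8, h⟩ |
    ⟨R, p, k, hp, hqp, hp4, hR, habs, hRs, hz, hcR, hn8, h⟩ |
    ⟨r, K, hr, hro, hrn, hK, hKa, h⟩ | ⟨n₁, n₂, e, P, f₁, f₂, hnn, hn1, hlt, -⟩ |
    ⟨k, t, e, P, f₁, hkt, hk3, ht2, -⟩ | h
  · exact Or.inl h
  · exact Or.inr (Or.inl h)
  · have h1 : t ∣ 5 := ⟨k, htk.symm⟩
    have h2 : t = 5 := ((Nat.dvd_prime (by norm_num)).1 h1).resolve_left (by omega)
    subst h2
    have h3 : k = 1 := by omega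
    subst h3
    exact Or.inr (Or.inr (Or.inl ⟨D, hD, h⟩))
  · omega
  · iterate 4 right
    left
    exact h
  · obtain ⟨F₀, P, hq, h⟩ := h
    iterate 5 right
    left
    exact ⟨hq, F₀, P, h⟩
  · exact absurd hev (by decide)
  · have h1 : r ∣ 5 := by
      rw [hn8]; exact dvd_pow_self r (by omega)
    have h2 : r = 5 := ((Nat.dvd_prime (by norm_num)).1 h1).resolve_left hR.prime.one_lt.ne'
    subst h2
    have hk : k = 1 := by
      have : 5 ^ k = 5 ^ 1 := by rw [← hn8, pow_one]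
      exact Nat.pow_right_injective (by norm_num) this
    subst hk
    rw [hz] at hmin
    obtain ⟨hp, hch, hc⟩ := five_minimal hF hmin
    iterate 6 right
    left
    exact ⟨p, R, hp, hch, hc, hR, habs, hRs, by rw [hcR]; norm_num, hz, h⟩
  · exfalso
    have h1 : 5 = 2 ^ k := hn8
    rcases Nat.eq_zero_or_pos k with rfl | hk
    · norm_num at h1
    · have : 2 ∣ 5 := by rw [h1]; exact dvd_pow_self 2 (by omega)
      omega
  · have h2 : r = 5 := ((Nat.dvd_prime (by norm_num)).1 hrn).resolve_left hr.one_lt.ne'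
    subst h2
    rcases hq with hq | hq
    · subst hq
      exact absurd (h ▸ hH) (SUFive.not_maximal hF hK hKa)
    · iterate 3 right
      left
      exact ⟨hq, K, hK, hKa, h⟩
  · exfalso
    have h1 : n₁ ∣ 5 := ⟨n₂, hnn.symm⟩
    have h2 : n₁ = 5 := ((Nat.dvd_prime (by norm_num)).1 h1).resolve_left (by omega)
    subst h2
    omega
  · exact absurd hkt (five_ne_pow ht2)
  · iterate 7 right
    exact h

end Cfsg.Agent.H912
end

-- part: S5796
section
set_option autoImplicit false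
open Cfsg

namespace Cfsg.Agent.S5796

/-- Every maximal subgroup of SU_5(q) is of one of the listed geometric types or lies in the residual class. Let F be the field with q² elements (characteristic p), f the standard unitary form Σ u_i v_i^q on F^5, and H a maximal subgroup of SU_5(q) (inside GL_5(F)). Then H is the intersection with SU_5(q) of one of: the stabiliser of a non-zero totally isotropic subspace; the stabiliser of a non-degenerate 1-space or 2-space; the stabiliser of a decomposition into five mutually orthogonal non-degenerate 1-spaces; for q ≥ 3, the normaliser of an adjoint-closed degree-5 subfield of the matrix algebra; a subfield group of odd prime index whose F₀-structure carries f; for q odd, a subfield group of index 2 whose F₀-structure carries f; for q = p ≡ 4 mod 5 or q = p² with p ≡ 2, 3 mod 5, the normaliser of an absolutely irreducible 5-group of exponent 5, order 125 and centre of order 5 with all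 characteristic abelian subgroups cyclic inside the similarity group of f — or else H lies in the residual class of the unitary case. -/
theorem result {F : Type*} [Field F] [Fintype F] (q : ℕ) (hF : Fintype.card F = q ^ 2) (H : Subgroup (Matrix.GeneralLinearGroup (Fin 5) F)) (hH : Cfsg.Geo.IsMaximalIn (Cfsg.GU 5 F q ⊓ Cfsg.Geo.specialLinear (Fin 5) F) H) :
    (∃ W : Submodule F (Fin 5 → F), W ≠ ⊥ ∧ Cfsg.Geo.IsTotallySingularFor (Cfsg.hermForm 5 F q) W ∧ H = Cfsg.Geo.subspaceStabilizer W ⊓ (Cfsg.GU 5 F q ⊓ Cfsg.Geo.specialLinear (Fin 5) F)) ∨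
    (∃ W : Submodule F (Fin 5 → F), W ≠ ⊥ ∧ Cfsg.Geo.IsNondegenerateOn (Cfsg.hermForm 5 F q) W ∧ 2 * Module.finrank F W < 5 ∧ H = Cfsg.Geo.subspaceStabilizer W ⊓ (Cfsg.GU 5 F q ⊓ Cfsg.Geo.specialLinear (Fin 5) F)) ∨
    (∃ D : Fin 5 → Submodule F (Fin 5 → F), Cfsg.Geo.IsNondegenerateMDecomposition (Cfsg.hermForm 5 F q) 1 D ∧ H = Cfsg.Geo.decompositionStabilizer D ⊓ (Cfsg.GU 5 F q ⊓ Cfsg.Geo.specialLinear (Fin 5) F)) ∨
    (3 ≤ q ∧ ∃ K : Subalgebra F (Matrix (Fin 5) (Fin 5) F), Cfsg.Geo.IsFieldSubalgebra 5 K ∧ Cfsg.Geo.IsAdjointClosedFor (Cfsg.hermForm 5 F q) K ∧ H = Cfsg.Geo.subalgebraNormalizer K ⊓ (Cfsg.GU 5 F q ⊓ Cfsg.Geo.specialLinear (Fin 5) F)) ∨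
    (∃ (F₀ : Subfield F) (r : ℕ) (P : Matrix.GeneralLinearGroup (Fin 5) F), r.Prime ∧ Odd r ∧ Fintype.card F = Nat.card F₀ ^ r ∧ Cfsg.Geo.IsFormRationalStructure (Cfsg.hermForm 5 F q) F₀ 1 P ∧ H = Cfsg.Geo.subfieldSubgroup F₀ P ⊓ (Cfsg.GU 5 F q ⊓ Cfsg.Geo.specialLinear (Fin 5) F)) ∨
    (Odd q ∧ ∃ (F₀ : Subfield F) (P : Matrix.GeneralLinearGroup (Fin 5) F), Fintype.card F = Nat.card F₀ ^ 2 ∧ Cfsg.Geo.IsFormRationalStructure (Cfsg.hermForm 5 F q) F₀ 1 P ∧ H = Cfsg.Geo.subfieldSubgroup F₀ P ⊓ (Cfsg.GU 5 F q ⊓ Cfsg.Geo.specialLinear (Fin 5) F)) ∨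
    (∃ (p : ℕ) (R : Subgroup (Matrix.GeneralLinearGroup (Fin 5) F)), p.Prime ∧ CharP F p ∧ ((q = p ∧ p % 5 = 4) ∨ (q = p ^ 2 ∧ (p % 5 = 2 ∨ p % 5 = 3))) ∧ Cfsg.Geo.IsSymplecticTypeGroup 5 R ∧ Cfsg.Geo.ActsAbsolutelyIrreducibly (Cfsg.Geo.matrixSet R) ∧ R ≤ Cfsg.Geo.similarityGroup (Cfsg.hermForm 5 F q) ∧ Nat.card R = 125 ∧ Nat.card (Subgroup.center R) = 5 ∧ H = Cfsg.Geo.subgroupNormalizer R ⊓ (Cfsg.GU 5 F q ⊓ Cfsg.Geo.specialLinear (Fin 5) F)) ∨
    Cfsg.Geo.InUnitaryResidualClass H := by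
  exact Cfsg.Agent.H912.su_five_cases q hF H hH
    (Cfsg.Agent.S5663.result 5 q hF (by norm_num) (by omega) H hH.1.le
      (Cfsg.Agent.H918.sup_scalars_ne hF (by norm_num) (by omega) hH))

end Cfsg.Agent.S5796
end
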