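import Cfsg.Statements.S2371
import Cfsg.Agent.H129.UntwData
import Cfsg.Agent.H129.DataG2
import Cfsg.Agent.S1092
set_option linter.all false

set_option autoImplicit false
open Cfsg

namespace Cfsg.Agent.S2371

/-- The group G₂(q), q ≥ 3, contains a cyclic subgroup of order q² + q + 1 which is its own centralizer. -/
theorem result {F : Type*} [Field F] [Fintype F] (q : ℕ) (hF : Fintype.card F = q) (hq : 3 ≤ q) :
    ∃ H : Subgroup ↥(Cfsg.Lie.chevG2.group F), IsCyclic ↥H ∧ Nat.card ↥H = q ^ 2 + q + 1 ∧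
      Subgroup.centralizer (H : Set ↥(Cfsg.Lie.chevG2.group F)) = H := by
  have hp : Cfsg.Agent.Nodes.RGDChev.IsType Cfsg.Lie.chevG2 2 CoxeterMatrix.G₂ := by simp
  have hW : Nat.card CoxeterMatrix.G₂.Group = 12 :=
    Cfsg.Agent.S1092.result (⟨2, CoxeterMatrix.G₂⟩, 12) (by simp)
  have : Finite CoxeterMatrix.G₂.Group := Nat.finite_of_card_ne_zero (by rw [hW]; norm_num)
  -- a prime divisor different from 3
  have hex : ∃ r : ℕ, r.Prime ∧ r ∣ q ^ 2 + q + 1 ∧ r ≠ 3 := by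
    by_contra hcon
    push Not at hcon
    have h0 : q ^ 2 + q + 1 ≠ 0 := by omega
    have h1 : ∀ r : ℕ, r.Prime → r ∣ q ^ 2 + q + 1 → r = 3 := hcon
    have h2 := Nat.eq_prime_pow_of_unique_prime_dvd h0 (fun {d} hd hd' => h1 d hd hd')
    have h3 : 9 ≤ q ^ 2 := by nlinarith
    have h4 : 2 ≤ (q ^ 2 + q + 1).primeFactorsList.length := by
      by_contra h5
      have h6 : (q ^ 2 + q + 1).primeFactorsList.length ≤ 1 := by omega
      have h7 : 3 ^ (q ^ 2 + q + 1).primeFactorsList.length ≤ 3 ^ 1 := Nat.pow_le_pow_right (by norm_num) h6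
      omega
    have h5 : 9 ∣ q ^ 2 + q + 1 := by
      rw [h2]
      exact pow_dvd_pow 3 h4
    have h6 : (q ^ 2 + q + 1) % 9 ≠ 0 := by
      rw [Nat.add_mod, Nat.add_mod (q ^ 2), Nat.pow_mod]
      have : q % 9 < 9 := Nat.mod_lt _ (by norm_num)
      interval_cases (q % 9) <;> norm_num
    exact h6 (Nat.mod_eq_zero_of_dvd h5)
  obtain ⟨r, hr, hrN, hr3⟩ := hex
  have hN : ((q ^ 2 + q + 1 : ℕ) : ℤ) = 1 + (q : ℤ) + (q : ℤ) ^ 2 := by push_cast; ring
  have hrq : (r : ℤ) ∣ 1 + (q : ℤ) + (q : ℤ) ^ 2 := by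
    rw [← hN]; exact Int.natCast_dvd_natCast.2 hrN
  refine Cfsg.Agent.H129.UntwData.untw_data hp CoxeterMatrix.G₂.toCoxeterSystem (by norm_num) hF
    Cfsg.Agent.H129.TorusChar.invC_G2 one_ne_zero (fun a => ⟨a, pow_one a⟩) Cfsg.Agent.H129.DataG2.hA
    Cfsg.Agent.H129.DataG2.chainOK Cfsg.Agent.H129.DataG2.cycOK Cfsg.Agent.H129.DataG2.rootOK
    (N := q ^ 2 + q + 1) (r := r) ?_ ?_ hr ?_ hrN ?_
  · rw [Cfsg.Agent.H129.DataG2.fN_eq, hN]
  · exact Cfsg.Agent.H129.UntwData.coprime_of_eq (a := (q : ℤ) + 1) (by rw [hN]; ring)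
  · rw [hW]
    intro h
    have h2 : (12 : ℕ) = 2 ^ 2 * 3 := by norm_num
    rw [h2] at h
    rcases (Nat.Prime.dvd_mul hr).1 h with h | h
    · have h3 := (Nat.prime_dvd_prime_iff_eq hr Nat.prime_two).1 (hr.dvd_of_dvd_pow h)
      subst h3
      have h6 : (q ^ 2 + q + 1) % 2 ≠ 0 := by
        rw [Nat.add_mod, Nat.add_mod (q ^ 2), Nat.pow_mod]
        have : q % 2 < 2 := Nat.mod_lt _ (by norm_num)
        interval_cases (q % 2) <;> norm_num
      exact h6 (Nat.mod_eq_zero_of_dvd hrN)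
    · exact hr3 ((Nat.prime_dvd_prime_iff_eq hr Nat.prime_three).1 h)
  · intro s hs
    rcases Cfsg.Agent.H129.DataG2.dvd_of_G hrq s hs with h1 | h1
    · exact hr.one_lt.ne' (Nat.dvd_one.1 (by exact_mod_cast h1))
    · exact hr3 ((Nat.prime_dvd_prime_iff_eq hr Nat.prime_three).1 (by exact_mod_cast h1))

end Cfsg.Agent.S2371
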