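import Cfsg.Agent.KFacts.FiTTh.BasInv
import Cfsg.Prelude.Def_Transfer
import Cfsg.Statements.S2652
import Cfsg.Agent.KFacts.FiTTh.Has
import Cfsg.Agent.Prune
set_option linter.all false
open scoped Cfsg.Agent.FastGrp

-- part: H189/SheetSyl
section
/-!
# `Fi₂₃`: the unique normal elementary abelian subgroup of order `2¹¹` of a Sylow 2-subgroup

From `OddHalf.D8.Fi23.Sheet` (only the fields `sq`, `cardA`, `AS`, `uniq`) for one Sylow 2-subgroup the statement for
all of them.
-/

set_option autoImplicit false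

namespace Cfsg.Agent.H189.SheetSyl

open Subgroup
open scoped Pointwise

universe u

theorem card_smul' {K : Type u} [Group K] (f : MulAut K) (A : Subgroup K) :
    Nat.card (f • A : Subgroup K) = Nat.card A :=
  (Nat.card_congr (Subgroup.equivSMul f A).toEquiv).symm

theorem main {K : Type u} [Group K] [Finite K] {A : Subgroup K} {S : Sylow 2 K} {a : Fin 23 → K}
    (h : Cfsg.Agent.OddHalf.D8.Fi23.Sheet K A S a) (T : Sylow 2 K) :
    (∀ A : Subgroup K, A ≤ T → (A.subgroupOf T).Normal → Cfsg.IsElementaryAbelian 2 A →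
        Nat.card A ≤ 2 ^ 11) ∧
    ∃! A : Subgroup K, A ≤ T ∧ (A.subgroupOf T).Normal ∧ Cfsg.IsElementaryAbelian 2 A ∧
        Nat.card A = 2 ^ 11 := by
  obtain ⟨g, hg⟩ := MulAction.exists_smul_eq K S T
  have hT : (T : Subgroup K) = (MulAut.conj g) • (S : Subgroup K) := by
    rw [← hg]; rfl
  -- the unique candidate
  have key : ∀ B : Subgroup K, B ≤ T → (∀ x ∈ B, x * x = 1) → 2 ^ 11 ≤ Nat.card B →
      B = (MulAut.conj g) • A := by
    intro B hB hsq hc
    have h1 : (MulAut.conj g)⁻¹ • B = A := by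
      apply h.uniq
      · rw [hT] at hB
        exact Subgroup.subset_pointwise_smul_iff.1 hB |> fun h => h
      · intro x hx
        rw [Subgroup.mem_inv_pointwise_smul_iff] at hx
        have := hsq _ hx
        rw [MulAut.smul_def, ← map_mul] at this
        exact (MulAut.conj g).injective (by rw [this, map_one])
      · rw [card_smul']; exact hc
    rw [← h1, smul_inv_smul]
  have cA : Nat.card ((MulAut.conj g) • A : Subgroup K) = 2 ^ 11 := by
    rw [card_smul']; exact h.cardA
  have sqA : ∀ x ∈ ((MulAut.conj g) • A : Subgroup K), x * x = 1 := by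
    intro x hx
    obtain ⟨y, hy, rfl⟩ := (Subgroup.mem_smul_pointwise_iff_exists _ _ _).1 hx
    rw [MulAut.smul_def, ← map_mul, h.sq y hy, map_one]
  have leA : ((MulAut.conj g) • A : Subgroup K) ≤ T := by
    rw [hT]; exact Subgroup.pointwise_smul_le_pointwise_smul_iff.2 h.AS
  have elem : Cfsg.IsElementaryAbelian 2 ((MulAut.conj g) • A : Subgroup K) := by
    refine ⟨⟨⟨?_⟩⟩, ?_⟩
    · rintro ⟨x, hx⟩ ⟨y, hy⟩
      apply Subtype.ext
      change x * y = y * x
      have h1 := sqA _ hx
      have h2 := sqA _ hy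
      have h3 := sqA _ (mul_mem hx hy)
      have hx' : x⁻¹ = x := inv_eq_of_mul_eq_one_left h1
      have hy' : y⁻¹ = y := inv_eq_of_mul_eq_one_left h2
      have hxy : (x * y)⁻¹ = x * y := inv_eq_of_mul_eq_one_left h3
      rw [← hxy, mul_inv_rev, hx', hy']
    · intro x hx; rw [pow_two]; exact sqA x hx
  have toSq : ∀ B : Subgroup K, Cfsg.IsElementaryAbelian 2 B → ∀ x ∈ B, x * x = 1 := by
    intro B hB x hx
    rw [← pow_two]; exact hB.2 x hx
  refine ⟨?_, ?_⟩
  · intro B hB _ hE
    by_contra hlt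
    rw [not_le] at hlt
    have := key B hB (toSq B hE) hlt.le
    rw [this, cA] at hlt
    exact lt_irrefl _ hlt
  · refine ⟨(MulAut.conj g) • A, ⟨leA, ?_, elem, cA⟩, ?_⟩
    · refine ⟨?_⟩
      rintro ⟨n, hn⟩ hnA ⟨t, ht⟩
      rw [Subgroup.mem_subgroupOf] at hnA ⊢
      have h1 : (MulAut.conj t) • ((MulAut.conj g) • A : Subgroup K) = (MulAut.conj g) • A := by
        apply key
        · intro x hx
          obtain ⟨y, hy, rfl⟩ := (Subgroup.mem_smul_pointwise_iff_exists _ _ _).1 hx
          exact mul_mem (mul_mem ht (leA hy)) (inv_mem ht)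
        · intro x hx
          obtain ⟨y, hy, rfl⟩ := (Subgroup.mem_smul_pointwise_iff_exists _ _ _).1 hx
          rw [MulAut.smul_def, ← map_mul, sqA y hy, map_one]
        · rw [card_smul', cA]
      rw [← h1]
      exact Subgroup.smul_mem_pointwise_smul _ _ _ hnA
    · rintro B ⟨hB, _, hE, hc⟩
      exact key B hB (toSq B hE) hc.ge

end Cfsg.Agent.H189.SheetSyl
end

-- part: S2652
section
-- import your own Cfsg.Agent.* helpers here

set_option autoImplicit false
open Cfsg

namespace Cfsg.Agent.S2652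

/-- Let T be a Sylow 2-subgroup of the Fischer group Fi₂₃ (the finitely presented group `Spor.Fi23`; T has order 2¹⁸). Then every elementary abelian subgroup of Fi₂₃ contained in T and normal in T has order at most 2¹¹, and there is exactly one such subgroup of order 2¹¹. -/
theorem result
    (T : Sylow 2 Cfsg.Spor.Fi23) :
    (∀ A : Subgroup Cfsg.Spor.Fi23, A ≤ T → (A.subgroupOf T).Normal → Cfsg.IsElementaryAbelian 2 A →
        Nat.card A ≤ 2 ^ 11) ∧
    ∃! A : Subgroup Cfsg.Spor.Fi23, A ≤ T ∧ (A.subgroupOf T).Normal ∧ Cfsg.IsElementaryAbelian 2 A ∧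
        Nat.card A = 2 ^ 11 := by
  obtain ⟨S, hS⟩ := Cfsg.Agent.KFacts.FiTTh.Has.sheet
  exact Cfsg.Agent.H189.SheetSyl.main hS T

end Cfsg.Agent.S2652
end
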