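import Cfsg.Statements.S2572
import Cfsg.Agent.S2579
set_option linter.all false

set_option autoImplicit false
open Cfsg

namespace Cfsg.Agent.S2572

open Matrix Module

variable {F : Type*} [Field F]

/-- Centralizers of conjugate elements have equal orders. -/
theorem card_centralizer_of_mul {G : Type*} [Group G] {u v P : G} (h : u * P = P * v) :
    Nat.card ↥(Subgroup.centralizer ({u} : Set G)) = Nat.card ↥(Subgroup.centralizer ({v} : Set G)) := by
  have hu : u = P * v * P⁻¹ := by rw [← h, mul_assoc, mul_inv_cancel, mul_one]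
  subst hu
  apply Nat.card_congr
  exact
    { toFun := fun g => ⟨P⁻¹ * g.1 * P, by
        have hg := Subgroup.mem_centralizer_singleton_iff.1 g.2
        rw [Subgroup.mem_centralizer_singleton_iff]
        calc P⁻¹ * g.1 * P * v = P⁻¹ * (g.1 * (P * v * P⁻¹)) * P := by group
          _ = P⁻¹ * (P * v * P⁻¹ * g.1) * P := by rw [hg]
          _ = v * (P⁻¹ * g.1 * P) := by group⟩
      invFun := fun g => ⟨P * g.1 * P⁻¹, by
        have hg := Subgroup.mem_centralizer_singleton_iff.1 g.2
        rw [Subgroup.mem_centralizer_singleton_iff]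
        calc P * g.1 * P⁻¹ * (P * v * P⁻¹) = P * (g.1 * v) * P⁻¹ := by group
          _ = P * (v * g.1) * P⁻¹ := by rw [hg]
          _ = P * v * P⁻¹ * (P * g.1 * P⁻¹) := by group⟩
      left_inv := fun g => Subtype.ext (by group)
      right_inv := fun g => Subtype.ext (by group) }

/-- The shape of a matrix commuting with the elementary matrix `E₁₀`. -/
def Shape {k : ℕ} (g : Matrix (Fin (k + 2)) (Fin (k + 2)) F) : Prop :=
  g 0 0 = g 1 1 ∧ (∀ j, j ≠ 0 → g 0 j = 0) ∧ (∀ i, i ≠ 1 → g i 1 = 0)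

theorem shape_iff {k : ℕ} (g : Matrix (Fin (k + 2)) (Fin (k + 2)) F) :
    g * Matrix.vecMulVec (Pi.single 1 1) (Pi.single 0 1) = Matrix.vecMulVec (Pi.single 1 1) (Pi.single 0 1) * g ↔
      Shape g := by
  rw [Matrix.mul_vecMulVec, Matrix.vecMulVec_mul]
  have h1 : g *ᵥ Pi.single 1 1 = fun i => g i 1 := by
    rw [Matrix.mulVec_single_one]; rfl
  have h2 : (Pi.single 0 1 : Fin (k + 2) → F) ᵥ* g = fun j => g 0 j := by
    rw [Matrix.single_one_vecMul]; rfl
  rw [h1, h2]
  constructor
  · intro h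
    have h3 : ∀ i j, g i 1 * (Pi.single 0 1 : Fin (k + 2) → F) j = (Pi.single 1 1 : Fin (k + 2) → F) i * g 0 j := by
      intro i j
      have := congrFun (congrFun h i) j
      simpa only [Matrix.vecMulVec_apply] using this
    refine ⟨?_, ?_, ?_⟩
    · have := h3 1 0
      simp only [Pi.single_eq_same, mul_one, one_mul] at this
      exact this.symm
    · intro j hj
      have := h3 1 j
      rw [Pi.single_eq_of_ne hj, Pi.single_eq_same, mul_zero, one_mul] at this
      exact this.symm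
    · intro i hi
      have := h3 i 0
      rw [Pi.single_eq_of_ne hi, Pi.single_eq_same, zero_mul, mul_one] at this
      exact this
  · rintro ⟨h3, h4, h5⟩
    ext i j
    rw [Matrix.vecMulVec_apply, Matrix.vecMulVec_apply]
    by_cases hi : i = 1
    · subst hi
      rw [Pi.single_eq_same]
      by_cases hj : j = 0
      · subst hj; rw [Pi.single_eq_same, h3]; ring
      · rw [Pi.single_eq_of_ne hj, h4 j hj]; ring
    · rw [h5 i hi, Pi.single_eq_of_ne hi]; ring

theorem det_shape {k : ℕ} {g : Matrix (Fin (k + 2)) (Fin (k + 2)) F} (hg : Shape g) :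
    g.det = g 0 0 * (g 0 0 * (g.submatrix (fun i : Fin k => i.succ.succ) (fun i : Fin k => i.succ.succ)).det) := by
  obtain ⟨h3, h4, h5⟩ := hg
  rw [Matrix.det_succ_row_zero, Finset.sum_eq_single 0]
  · rw [Matrix.det_succ_column_zero, Finset.sum_eq_single 0]
    · simp only [Fin.val_zero, pow_zero, one_mul, Matrix.submatrix_apply, Fin.succAbove_zero, Fin.succ_zero_eq_one,
        Matrix.submatrix_submatrix]
      rw [← h3]
      rfl
    · intro i _ hi
      have h6 : (g.submatrix Fin.succ (Fin.succAbove 0)) i 0 = 0 := by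
        rw [Matrix.submatrix_apply, Fin.succAbove_zero, Fin.succ_zero_eq_one]
        apply h5
        intro h
        apply hi
        rw [← Fin.succ_zero_eq_one] at h
        exact Fin.succ_injective _ h
      rw [h6]; ring
    · intro h; exact absurd (Finset.mem_univ _) h
  · intro j _ hj
    rw [h4 j hj]; ring
  · intro h; exact absurd (Finset.mem_univ _) h

/-- The matrix with given data. -/
def mk {k : ℕ} (c : F) (x : F) (β γ : Fin k → F) (D : Matrix (Fin k) (Fin k) F) :
    Matrix (Fin (k + 2)) (Fin (k + 2)) F :=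
  Matrix.of (Fin.cons (Fin.cons c 0) (Fin.cons (Fin.cons x (Fin.cons c β))
    (fun i => Fin.cons (γ i) (Fin.cons 0 (D i)))))

theorem mk_shape {k : ℕ} (c : F) (x : F) (β γ : Fin k → F) (D : Matrix (Fin k) (Fin k) F) :
    Shape (mk c x β γ D) := by
  refine ⟨?_, ?_, ?_⟩
  · rfl
  · intro j hj
    obtain ⟨j', rfl⟩ := Fin.exists_succ_eq.2 hj
    rfl
  · intro i hi
    rcases Fin.eq_zero_or_eq_succ i with rfl | ⟨i', rfl⟩
    · rfl
    · rcases Fin.eq_zero_or_eq_succ i' with rfl | ⟨i'', rfl⟩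
      · exact absurd Fin.succ_zero_eq_one hi
      · rfl

theorem mk_eq {k : ℕ} {g : Matrix (Fin (k + 2)) (Fin (k + 2)) F} (hg : Shape g) :
    mk (g 0 0) (g 1 0) (fun j => g 1 j.succ.succ) (fun i => g i.succ.succ 0)
      (g.submatrix (fun i : Fin k => i.succ.succ) (fun i : Fin k => i.succ.succ)) = g := by
  obtain ⟨h3, h4, h5⟩ := hg
  ext i j
  rcases Fin.eq_zero_or_eq_succ i with rfl | ⟨i', rfl⟩
  · rcases Fin.eq_zero_or_eq_succ j with rfl | ⟨j', rfl⟩
    · rfl
    · rw [h4 _ (Fin.succ_ne_zero _)]; rfl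
  · rcases Fin.eq_zero_or_eq_succ i' with rfl | ⟨i'', rfl⟩
    · rcases Fin.eq_zero_or_eq_succ j with rfl | ⟨j', rfl⟩
      · rfl
      · rcases Fin.eq_zero_or_eq_succ j' with rfl | ⟨j'', rfl⟩
        · exact h3
        · rfl
    · rcases Fin.eq_zero_or_eq_succ j with rfl | ⟨j', rfl⟩
      · rfl
      · rcases Fin.eq_zero_or_eq_succ j' with rfl | ⟨j'', rfl⟩
        · symm
          apply h5
          intro h
          have h6 := congrArg Fin.val h
          simp at h6
        · rfl

theorem card_shape [Fintype F] {q : ℕ} (hF : Fintype.card F = q) {k : ℕ} :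
    Nat.card {g : GL (Fin (k + 2)) F // Shape (g : Matrix (Fin (k + 2)) (Fin (k + 2)) F)} =
      q ^ (2 * k + 1) * (q - 1) * Nat.card (GL (Fin k) F) := by
  classical
  let e : {g : GL (Fin (k + 2)) F // Shape (g : Matrix (Fin (k + 2)) (Fin (k + 2)) F)} ≃
      ({c : F // c ≠ 0} × F) × ((Fin k → F) × (Fin k → F)) × GL (Fin k) F :=
    { toFun := fun g =>
        have hd := det_shape g.2
        have h0 : g.1.1.det ≠ 0 := g.1.det.ne_zero
        ((⟨g.1.1 0 0, by
          intro h; apply h0; rw [hd, h, zero_mul]⟩, g.1.1 1 0),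
          (fun j => g.1.1 1 j.succ.succ, fun i => g.1.1 i.succ.succ 0),
          Matrix.GeneralLinearGroup.mkOfDetNeZero
            (g.1.1.submatrix (fun i : Fin k => i.succ.succ) (fun i : Fin k => i.succ.succ)) (by
              intro h; apply h0; rw [hd, h, mul_zero, mul_zero]))
      invFun := fun p => ⟨Matrix.GeneralLinearGroup.mkOfDetNeZero
          (mk p.1.1.1 p.1.2 p.2.1.1 p.2.1.2 p.2.2.1) (by
            rw [det_shape (mk_shape _ _ _ _ _)]
            have h1 : p.2.2.1.det ≠ 0 := p.2.2.det.ne_zero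
            exact mul_ne_zero p.1.1.2 (mul_ne_zero p.1.1.2 h1)), mk_shape _ _ _ _ _⟩
      left_inv := by
        rintro ⟨g, hg⟩
        apply Subtype.ext
        apply Units.ext
        exact mk_eq hg
      right_inv := by
        rintro ⟨⟨⟨c, hc⟩, x⟩, ⟨β, γ⟩, D⟩
        refine Prod.ext (Prod.ext ?_ rfl) (Prod.ext rfl ?_)
        · rfl
        · apply Units.ext
          rfl }
  rw [Nat.card_congr e, Nat.card_prod, Nat.card_prod, Nat.card_prod, Nat.card_prod]
  have h1 : Nat.card {c : F // c ≠ 0} = q - 1 := by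
    rw [Nat.card_eq_fintype_card, Fintype.card_subtype_compl, Fintype.card_subtype_eq, hF]
  have h2 : Nat.card F = q := by rw [Nat.card_eq_fintype_card, hF]
  have h3 : Nat.card (Fin k → F) = q ^ k := by
    rw [Nat.card_eq_fintype_card]; simp [hF]
  rw [h1, h2, h3, two_mul, pow_succ, pow_add]
  ring

theorem result {F : Type*} [Field F] [Fintype F] {q n : ℕ} (hF : Fintype.card F = q) (hn : 2 ≤ n) (t : GL (Fin n) F) (ht : Cfsg.IsTransvection (t : Matrix (Fin n) (Fin n) F)) : Nat.card ↥(Subgroup.centralizer ({t} : Set (GL (Fin n) F))) = q ^ (2 * n - 3) * (q - 1) * ∏ i : Fin (n - 2), (q ^ (n - 2) - q ^ (i : ℕ)) := by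
  classical
  obtain ⟨k, rfl⟩ : ∃ k, n = k + 2 := ⟨n - 2, by omega⟩
  obtain ⟨hr, hsq⟩ := ht
  obtain ⟨a, b, ha, hb, hab⟩ :=
    Cfsg.Agent.ClassicalGeometry.RankOne.exists_vecMulVec_of_rank_eq_one _ hr
  have hba : b ⬝ᵥ a = 0 := by
    rw [hab, Matrix.vecMulVec_mul_vecMulVec] at hsq
    obtain ⟨i, hi⟩ := Function.ne_iff.1 ha
    obtain ⟨j, hj⟩ := Function.ne_iff.1 hb
    have h1 := congrFun (congrFun hsq i) j
    simp only [Matrix.vecMulVec_apply, Matrix.zero_apply, Pi.smul_apply, smul_eq_mul] at h1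
    rcases mul_eq_zero.1 h1 with h | h
    · exact absurd h hi
    · rcases mul_eq_zero.1 h with h | h
      · exact h
      · exact absurd h hj
  obtain ⟨B, hB0, hB1, hBj⟩ := Cfsg.Agent.S2579.exists_basis ha hb hba
  let M : Matrix (Fin (k + 2)) (Fin (k + 2)) F := (Pi.basisFun F (Fin (k + 2))).toMatrix B
  have hMcol : ∀ j, M.col j = B j := by
    intro j; ext i
    simp [M, Module.Basis.toMatrix_apply]
  have hdet : M.det ≠ 0 := by
    have h1 : IsUnit M.det := Module.Basis.isUnit_det (Pi.basisFun F (Fin (k + 2))) B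
    exact h1.ne_zero
  obtain ⟨P, hP⟩ : ∃ P : GL (Fin (k + 2)) F, (P : Matrix (Fin (k + 2)) (Fin (k + 2)) F) = M :=
    ⟨Matrix.GeneralLinearGroup.mkOfDetNeZero M hdet, rfl⟩
  have hE : (1 + Matrix.vecMulVec (Pi.single 1 1) (Pi.single 0 1) : Matrix (Fin (k + 2)) (Fin (k + 2)) F).det ≠ 0 := by
    have h2 := congrArg Matrix.det (show (t : Matrix (Fin (k + 2)) (Fin (k + 2)) F) * M = M * (1 + Matrix.vecMulVec (Pi.single 1 1) (Pi.single 0 1)) from ?_)
    · rw [Matrix.det_mul, Matrix.det_mul] at h2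
      intro h0
      rw [h0, mul_zero] at h2
      rcases mul_eq_zero.1 h2 with h3 | h3
      · exact t.det.ne_zero h3
      · exact hdet h3
    · have ht' : (t : Matrix (Fin (k + 2)) (Fin (k + 2)) F) = 1 + Matrix.vecMulVec a b := by
        rw [← hab]; abel
      have h4 : b ᵥ* M = Pi.single 0 1 := by
        ext j
        show b ⬝ᵥ M.col j = _
        rw [hMcol]
        by_cases hj : j = 0
        · subst hj; rw [hB0, Pi.single_eq_same]
        · rw [hBj j hj, Pi.single_eq_of_ne hj]
      have h5 : M *ᵥ Pi.single 1 1 = a := by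
        rw [Matrix.mulVec_single_one, hMcol, hB1]
      rw [ht', add_mul, mul_add, one_mul, mul_one, Matrix.vecMulVec_mul, Matrix.mul_vecMulVec, h4, h5]
  have hconj : (t : Matrix (Fin (k + 2)) (Fin (k + 2)) F) * M = M * (1 + Matrix.vecMulVec (Pi.single 1 1) (Pi.single 0 1)) := by
    have ht' : (t : Matrix (Fin (k + 2)) (Fin (k + 2)) F) = 1 + Matrix.vecMulVec a b := by
      rw [← hab]; abel
    have h4 : b ᵥ* M = Pi.single 0 1 := by
      ext j
      show b ⬝ᵥ M.col j = _
      rw [hMcol]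
      by_cases hj : j = 0
      · subst hj; rw [hB0, Pi.single_eq_same]
      · rw [hBj j hj, Pi.single_eq_of_ne hj]
    have h5 : M *ᵥ Pi.single 1 1 = a := by
      rw [Matrix.mulVec_single_one, hMcol, hB1]
    rw [ht', add_mul, mul_add, one_mul, mul_one, Matrix.vecMulVec_mul, Matrix.mul_vecMulVec, h4, h5]
  obtain ⟨E, hEE⟩ : ∃ E : GL (Fin (k + 2)) F, (E : Matrix (Fin (k + 2)) (Fin (k + 2)) F) = 1 + Matrix.vecMulVec (Pi.single 1 1) (Pi.single 0 1) :=
    ⟨Matrix.GeneralLinearGroup.mkOfDetNeZero _ hE, rfl⟩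
  have htP : t * P = P * E := by
    apply Units.ext
    rw [Units.val_mul, Units.val_mul, hP, hEE, hconj]
  rw [card_centralizer_of_mul htP]
  have h6 : Nat.card ↥(Subgroup.centralizer ({E} : Set (GL (Fin (k + 2)) F))) =
      Nat.card {g : GL (Fin (k + 2)) F // Shape (g : Matrix (Fin (k + 2)) (Fin (k + 2)) F)} := by
    apply Nat.card_congr
    apply Equiv.subtypeEquivRight
    intro g
    rw [Subgroup.mem_centralizer_singleton_iff, ← shape_iff, Units.ext_iff, Units.val_mul, Units.val_mul, hEE,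
      mul_add, add_mul, mul_one, one_mul]
    exact add_right_inj _
  rw [h6, card_shape hF, Matrix.card_GL_field]
  have h7 : 2 * (k + 2) - 3 = 2 * k + 1 := by omega
  rw [h7, hF]
  rfl

end Cfsg.Agent.S2572
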