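import Mathlib
import Cfsg.Agent.H79.OrbitDual
import Cfsg.Agent.H75.Transfer
import Cfsg.Agent.LieClassical.QuadCount
import Cfsg.Statements.S2146
set_option linter.all false

-- part: H79/MinIdxOP2/Basic
section
/-!
# Siegel elements of a quadratic space of plus type over the field with two elements

`Op2 F V G`: `V` is a vector space over the field `F` with two elements with a quadratic form `Q`
(polar form `B`, nondegenerate), `G` a group of isometries generated by the elements `s e w`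
(`Q e = 0`, `B e w = 0`), transitive on the independent families of at most three vectors with
given values of `Q` and `B`.
-/

set_option autoImplicit false
set_option linter.unusedSectionVars false

namespace Cfsg.Agent.H79.MinIdxOP2

/-- Quadratic space over the field with two elements with a group of isometries. -/
structure Op2 (F V G : Type*) [Field F] [AddCommGroup V] [Module F V] [Group G]
    [DistribMulAction G V] where
  two : ∀ a : F, a = 0 ∨ a = 1
  Q : V → F
  B : V → V → F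
  Q_add : ∀ u v, Q (u + v) = Q u + Q v + B u v
  add_left : ∀ u v w, B (u + v) w = B u w + B v w
  symm : ∀ u v, B u v = B v u
  self : ∀ v, B v v = 0
  nd : ∀ v, (∀ w, B v w = 0) → v = 0
  invQ : ∀ (g : G) v, Q (g • v) = Q v
  s : V → V → G
  s_smul : ∀ {e w : V}, Q e = 0 → B e w = 0 → ∀ x : V,
    s e w • x = x + B e x • w + B w x • e + (Q w * B e x) • e
  ext : ∀ g h : G, (∀ x : V, g • x = h • x) → g = h
  gen : ∀ H : Subgroup G, (∀ e w, Q e = 0 → B e w = 0 → s e w ∈ H) → H = ⊤
  wit1 : ∀ e e' : V, e ≠ 0 → e' ≠ 0 → Q e = Q e' → ∃ g : G, g • e = e'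
  wit2 : ∀ e a e' a' : V, e ≠ 0 → a ≠ 0 → a ≠ e → e' ≠ 0 → a' ≠ 0 → a' ≠ e' →
    Q e = Q e' → Q a = Q a' → B e a = B e' a' → ∃ g : G, g • e = e' ∧ g • a = a'
  wit3 : ∀ e a b e' a' b' : V, e ≠ 0 → a ≠ 0 → a ≠ e → b ≠ 0 → b ≠ e → b ≠ a → b ≠ e + a →
    e' ≠ 0 → a' ≠ 0 → a' ≠ e' → b' ≠ 0 → b' ≠ e' → b' ≠ a' → b' ≠ e' + a' →
    Q e = Q e' → Q a = Q a' → Q b = Q b' → B e a = B e' a' → B e b = B e' b' → B a b = B a' b' →
    ∃ g : G, g • e = e' ∧ g • a = a' ∧ g • b = b'

namespace Op2

variable {F V G : Type*} [Field F] [AddCommGroup V] [Module F V] [Group G]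
    [DistribMulAction G V] (S : Op2 F V G)

theorem add_right (u v w : V) : S.B u (v + w) = S.B u v + S.B u w := by
  rw [S.symm, S.add_left, S.symm v, S.symm w]

include S in
theorem one_add_one : (1 : F) + 1 = 0 := by
  rcases S.two (1 + 1) with h | h
  · exact h
  · exact absurd (add_eq_left.1 h) one_ne_zero

include S in
theorem add_self (v : V) : v + v = 0 := by
  have h : (1 : F) • v + (1 : F) • v = 0 := by rw [← add_smul, S.one_add_one, zero_smul]
  rwa [one_smul] at h

include S in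
theorem add_selfF (a : F) : a + a = 0 := by
  rcases S.two a with rfl | rfl
  · exact add_zero 0
  · exact S.one_add_one

include S in
theorem add_add_self (v w : V) : v + (v + w) = w := by
  rw [← add_assoc, S.add_self, zero_add]

include S in
theorem add_add_self' (v w : V) : v + w + w = v := by
  rw [add_assoc, S.add_self, add_zero]

include S in
theorem neg_eq (v : V) : -v = v := by
  rw [neg_eq_iff_add_eq_zero]
  exact S.add_self v

include S in
theorem add_eq_zero {v w : V} : v + w = 0 ↔ v = w := by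
  constructor
  · intro h
    have := congrArg (fun z => z + w) h
    simpa [add_assoc, S.add_self] using this
  · rintro rfl
    exact S.add_self v

include S in
theorem add_eq_zeroF {v w : F} : v + w = 0 ↔ v = w := by
  constructor
  · intro h
    have := congrArg (fun z => z + w) h
    simpa [add_assoc, S.add_selfF] using this
  · rintro rfl
    exact S.add_selfF v

include S in
theorem add_eq_iff {u v w : V} : u + v = w ↔ u = v + w := by
  constructor
  · rintro rfl
    rw [add_comm u, S.add_add_self]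
  · rintro rfl
    rw [add_comm, S.add_add_self]

theorem zero_left (w : V) : S.B 0 w = 0 := by
  have := S.add_left 0 0 w
  rw [add_zero] at this
  exact left_eq_add.1 this

theorem zero_right (w : V) : S.B w 0 = 0 := by rw [S.symm, S.zero_left]

theorem Q_zero : S.Q 0 = 0 := by
  have := S.Q_add 0 0
  rw [add_zero, S.self, add_zero] at this
  exact left_eq_add.1 this

include S in
theorem ne_one {a : F} : a ≠ 1 ↔ a = 0 := by
  rcases S.two a with rfl | rfl
  · simp
  · simp

include S in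
theorem ne_zero {a : F} : a ≠ 0 ↔ a = 1 := by
  rcases S.two a with rfl | rfl
  · simp
  · simp

include S in
theorem smul_smul' (g : G) (a : F) (v : V) : g • (a • v) = a • (g • v) := by
  rcases S.two a with rfl | rfl
  · rw [zero_smul, zero_smul, smul_zero]
  · rw [one_smul, one_smul]

theorem smul_left (a : F) (u v : V) : S.B (a • u) v = a * S.B u v := by
  rcases S.two a with rfl | rfl
  · rw [zero_smul, S.zero_left, zero_mul]
  · rw [one_smul, one_mul]

theorem smul_right (a : F) (u v : V) : S.B u (a • v) = a * S.B u v := by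
  rw [S.symm, S.smul_left, S.symm]

theorem Q_smul (a : F) (u : V) : S.Q (a • u) = a * S.Q u := by
  rcases S.two a with rfl | rfl
  · rw [zero_smul, S.Q_zero, zero_mul]
  · rw [one_smul, one_mul]

theorem inv (g : G) (v w : V) : S.B (g • v) (g • w) = S.B v w := by
  have h1 := S.invQ g (v + w)
  rw [smul_add, S.Q_add, S.Q_add, S.invQ, S.invQ] at h1
  exact add_left_cancel h1

theorem inv_left (g : G) (v w : V) : S.B (g • v) w = S.B v (g⁻¹ • w) := by
  rw [← S.inv g v, smul_inv_smul]

theorem inv_right (g : G) (v w : V) : S.B v (g • w) = S.B (g⁻¹ • v) w := by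
  rw [← S.inv g _ w, smul_inv_smul]

include S in
theorem smul_ne_zero {g : G} {v : V} (hv : v ≠ 0) : g • v ≠ 0 := by
  intro h
  apply hv
  have := congrArg (fun z => g⁻¹ • z) h
  simpa using this

theorem s_conj (g : G) {e w : V} (he : S.Q e = 0) (hw : S.B e w = 0) :
    g * S.s e w * g⁻¹ = S.s (g • e) (g • w) := by
  apply S.ext
  intro x
  rw [mul_smul, mul_smul, S.s_smul he hw, S.s_smul (by rw [S.invQ, he]) (by rw [S.inv, hw]),
    smul_add, smul_add, smul_add, smul_inv_smul, S.smul_smul', S.smul_smul', S.smul_smul',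
    S.inv_left, S.inv_left, S.invQ]

theorem s_mul {e w w' : V} (he : S.Q e = 0) (hw : S.B e w = 0) (hw' : S.B e w' = 0) :
    S.s e w * S.s e w' = S.s e (w + w') := by
  have h1 : S.B e (w + w') = 0 := by rw [S.add_right, hw, hw', add_zero]
  have h2 : S.B w e = 0 := by rw [S.symm, hw]
  apply S.ext
  intro x
  rw [mul_smul, S.s_smul he hw, S.s_smul he hw', S.s_smul he h1]
  simp only [S.add_right, S.add_left, S.smul_right, S.self, hw', h2, mul_zero, add_zero, S.Q_add]
  rcases S.two (S.B e x) with h3 | h3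
  · simp only [h3, zero_smul, add_zero, mul_zero, add_smul, zero_mul]
    abel
  · simp only [h3, one_mul, mul_one, one_smul, add_smul]
    abel

theorem s_zero {e : V} (he : S.Q e = 0) : S.s e 0 = 1 := by
  have h := S.s_mul he (S.zero_right e) (S.zero_right e)
  rw [add_zero] at h
  exact mul_eq_left.1 h

theorem s_self {e : V} (he : S.Q e = 0) : S.s e e = 1 := by
  apply S.ext
  intro x
  rw [S.s_smul he (S.self e), he, zero_mul, zero_smul, add_zero, add_assoc, S.add_self, add_zero,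
    one_smul]

theorem s_sq {e w : V} (he : S.Q e = 0) (hw : S.B e w = 0) : S.s e w * S.s e w = 1 := by
  rw [S.s_mul he hw hw, S.add_self, S.s_zero he]

theorem s_inv {e w : V} (he : S.Q e = 0) (hw : S.B e w = 0) : (S.s e w)⁻¹ = S.s e w := by
  rw [inv_eq_iff_mul_eq_one, S.s_sq he hw]

theorem s_symm {e w : V} (he : S.Q e = 0) (hw' : S.Q w = 0) (hw : S.B e w = 0) :
    S.s e w = S.s w e := by
  apply S.ext
  intro x
  rw [S.s_smul he hw, S.s_smul hw' (by rw [S.symm, hw]), he, hw', zero_mul, zero_mul, zero_smul,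
    zero_smul, add_zero, add_zero, add_right_comm]

theorem s_add_self {e w : V} (he : S.Q e = 0) (hw : S.B e w = 0) : S.s e (w + e) = S.s e w := by
  rw [← S.s_mul he hw (S.self e), S.s_self he, mul_one]

theorem s_comm {e w w' : V} (he : S.Q e = 0) (hw : S.B e w = 0) (hw' : S.B e w' = 0) :
    S.s e w * S.s e w' = S.s e w' * S.s e w := by
  rw [S.s_mul he hw hw', S.s_mul he hw' hw, add_comm]

/-- A vector not in `{0, e}` is not orthogonal to `e`-perp. -/
theorem sep {e z : V} (hz : z ≠ 0) (hze : z ≠ e) : ∃ w, S.B e w = 0 ∧ S.B z w = 1 := by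
  have key : ∀ u : V, u ≠ 0 → ∃ w, S.B u w = 1 := by
    intro u hu
    by_contra hcon
    push Not at hcon
    exact hu (S.nd u fun w => S.ne_one.1 (hcon w))
  obtain ⟨y1, h1⟩ := key z hz
  rcases S.two (S.B e y1) with h2 | h2
  · exact ⟨y1, h2, h1⟩
  obtain ⟨y2, h3⟩ := key (z + e) (fun h => hze (S.add_eq_zero.1 h))
  rw [S.add_left] at h3
  rcases S.two (S.B e y2) with h4 | h4
  · rw [h4, add_zero] at h3
    exact ⟨y2, h4, h3⟩
  · rw [h4] at h3
    have h5 : S.B z y2 = 0 := by
      rcases S.two (S.B z y2) with h | h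
      · exact h
      · rw [h, S.one_add_one] at h3
        exact absurd h3 zero_ne_one
    exact ⟨y1 + y2, by rw [S.add_right, h2, h4, S.one_add_one],
      by rw [S.add_right, h1, h5, add_zero]⟩

/-! ### Counting vectors -/

section Count

variable [Fintype V]

open Classical in
/-- The number of vectors with a property. -/
noncomputable def cnt (P : V → Prop) : ℕ := (Finset.univ.filter P).card

theorem cnt_mono {P R : V → Prop} (h : ∀ v, P v → R v) : cnt P ≤ cnt R := by
  classical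
  unfold cnt
  apply Finset.card_le_card
  intro v hv
  rw [Finset.mem_filter] at hv ⊢
  exact ⟨hv.1, h v hv.2⟩

theorem cnt_congr {P R : V → Prop} (h : ∀ v, P v ↔ R v) : cnt P = cnt R :=
  le_antisymm (cnt_mono fun v => (h v).1) (cnt_mono fun v => (h v).2)

theorem cnt_split (P R : V → Prop) :
    cnt (fun v => P v ∧ R v) + cnt (fun v => P v ∧ ¬ R v) = cnt P := by
  classical
  have h := Finset.card_filter_add_card_filter_not (s := Finset.univ.filter P) R
  rw [Finset.filter_filter, Finset.filter_filter] at h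
  unfold cnt
  convert h

theorem cnt_true : cnt (fun _ : V => True) = Fintype.card V := by
  classical
  unfold cnt
  rw [Finset.filter_true, Finset.card_univ]

include S in
theorem cnt_shift {P R : V → Prop} (y : V) (h : ∀ v, P v → R (v + y))
    (h' : ∀ v, R v → P (v + y)) : cnt P = cnt R := by
  classical
  have key : ∀ P R : V → Prop, (∀ v, P v → R (v + y)) → cnt P ≤ cnt R := by
    intro P R h
    unfold cnt
    refine Finset.card_le_card_of_injOn (fun v => v + y) ?_ ?_
    · intro v hv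
      simp only [Finset.coe_filter, Finset.mem_univ, true_and, Set.mem_ofPred_eq] at hv ⊢
      exact h v hv
    · intro v _ w _ hvw
      exact add_right_cancel hvw
  exact le_antisymm (key P R h) (key R P h')

/-- Removing a few vectors. -/
theorem cnt_le_add (P : V → Prop) (T : Finset V) :
    cnt P ≤ cnt (fun v => P v ∧ v ∉ T) + T.card := by
  rw [← cnt_split P (fun v => v ∉ T)]
  apply Nat.add_le_add_left
  have h1 : cnt (fun v => P v ∧ ¬ v ∉ T) ≤ cnt (fun v => v ∈ T) :=
    cnt_mono fun v hv => not_not.1 hv.2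
  refine h1.trans (le_of_eq ?_)
  unfold cnt
  congr 1
  ext v
  simp

theorem cnt_Q (P : V → Prop) :
    cnt (fun v => P v ∧ S.Q v = 0) + cnt (fun v => P v ∧ S.Q v = 1) = cnt P := by
  rw [← cnt_split P (fun v => S.Q v = 0)]
  congr 1
  exact cnt_congr fun v => by rw [← S.ne_zero]

theorem cnt_B (P : V → Prop) (z : V) :
    cnt (fun v => P v ∧ S.B z v = 0) + cnt (fun v => P v ∧ S.B z v = 1) = cnt P := by
  rw [← cnt_split P (fun v => S.B z v = 0)]
  congr 1
  exact cnt_congr fun v => by rw [← S.ne_zero]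

variable {b : ℕ}

theorem cnt_perp (hV : Fintype.card V = 16 * b ^ 2) {e : V} (he : e ≠ 0) :
    cnt (fun v => S.B e v = 0) = 8 * b ^ 2 ∧ cnt (fun v => S.B e v = 1) = 8 * b ^ 2 := by
  obtain ⟨y, -, hy⟩ := S.sep (e := 0) he he
  have h1 : cnt (fun v => S.B e v = 0) = cnt (fun v => S.B e v = 1) := by
    refine S.cnt_shift y (fun v hv => ?_) (fun v hv => ?_)
    · rw [S.add_right, hv, hy, zero_add]
    · rw [S.add_right, hv, hy, S.one_add_one]
  have h2 := S.cnt_B (fun _ => True) e
  rw [cnt_true, hV] at h2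
  rw [cnt_congr (R := fun v => S.B e v = 0) (fun v => by simp),
    cnt_congr (P := fun v => True ∧ S.B e v = 1) (R := fun v => S.B e v = 1)
      (fun v => by simp)] at h2
  omega

theorem cnt_perp_one (hV : Fintype.card V = 16 * b ^ 2) {e : V} (he : e ≠ 0) (hQe : S.Q e = 0) :
    cnt (fun v => S.B e v = 1 ∧ S.Q v = 0) = 4 * b ^ 2 ∧
      cnt (fun v => S.B e v = 1 ∧ S.Q v = 1) = 4 * b ^ 2 := by
  have h1 : cnt (fun v => S.B e v = 1 ∧ S.Q v = 0) = cnt (fun v => S.B e v = 1 ∧ S.Q v = 1) := by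
    refine S.cnt_shift e (fun v hv => ?_) (fun v hv => ?_)
    · rw [S.add_right, S.self, add_zero, S.Q_add, hQe, hv.2, S.symm v e, hv.1, add_zero, zero_add]
      exact ⟨rfl, rfl⟩
    · rw [S.add_right, S.self, add_zero, S.Q_add, hQe, hv.2, S.symm v e, hv.1, add_zero,
        S.one_add_one]
      exact ⟨rfl, rfl⟩
  have h2 := S.cnt_Q (fun v => S.B e v = 1)
  rw [(S.cnt_perp hV he).2] at h2
  omega

theorem cnt_sing (hV : Fintype.card V = 16 * b ^ 2)
    (hQ : cnt (fun v => S.Q v = 0) = 8 * b ^ 2 + 2 * b) {e : V} (he : e ≠ 0) (hQe : S.Q e = 0) :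
    cnt (fun v => S.B e v = 0 ∧ S.Q v = 0) = 4 * b ^ 2 + 2 * b ∧
      cnt (fun v => S.B e v = 0 ∧ S.Q v = 1) = 4 * b ^ 2 - 2 * b := by
  have h1 := S.cnt_B (fun v => S.Q v = 0) e
  rw [hQ, cnt_congr (R := fun v => S.B e v = 0 ∧ S.Q v = 0) (fun v => and_comm),
    cnt_congr (P := fun v => S.Q v = 0 ∧ S.B e v = 1) (R := fun v => S.B e v = 1 ∧ S.Q v = 0)
      (fun v => and_comm), (S.cnt_perp_one hV he hQe).1] at h1
  have h2 := S.cnt_Q (fun v => S.B e v = 0)
  rw [(S.cnt_perp hV he).1] at h2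
  omega

theorem cnt_two (hV : Fintype.card V = 16 * b ^ 2) {e z : V} (he : e ≠ 0)
    (hz : z ≠ 0) (hze : z ≠ e) :
    cnt (fun v => S.B e v = 0 ∧ S.B z v = 0) = 4 * b ^ 2 ∧
      cnt (fun v => S.B e v = 0 ∧ S.B z v = 1) = 4 * b ^ 2 := by
  obtain ⟨y, hy0, hy⟩ := S.sep hz hze
  have h1 : cnt (fun v => S.B e v = 0 ∧ S.B z v = 0) =
      cnt (fun v => S.B e v = 0 ∧ S.B z v = 1) := by
    refine S.cnt_shift y (fun v hv => ?_) (fun v hv => ?_)
    · rw [S.add_right, S.add_right, hv.1, hv.2, hy, hy0, zero_add, zero_add]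
      exact ⟨rfl, rfl⟩
    · rw [S.add_right, S.add_right, hv.1, hv.2, hy, hy0, zero_add, S.one_add_one]
      exact ⟨rfl, rfl⟩
  have h2 := S.cnt_B (fun v => S.B e v = 0) z
  rw [(S.cnt_perp hV he).1] at h2
  omega

/-- `v` singular. -/
theorem cnt_hyp (hV : Fintype.card V = 16 * b ^ 2) {e v : V} (he : e ≠ 0)
    (hv : v ≠ 0) (hve : v ≠ e) (hQv : S.Q v = 0) (hev : S.B e v = 0) :
    cnt (fun w => S.B e w = 0 ∧ S.B v w = 1 ∧ S.Q w = 0) = 2 * b ^ 2 := by
  have h1 : cnt (fun w => (S.B e w = 0 ∧ S.B v w = 1) ∧ S.Q w = 0) =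
      cnt (fun w => (S.B e w = 0 ∧ S.B v w = 1) ∧ S.Q w = 1) := by
    refine S.cnt_shift v (fun w hw => ?_) (fun w hw => ?_)
    · rw [S.add_right, S.add_right, hw.1.1, hw.1.2, S.Q_add, hw.2, hQv, S.symm w v, hw.1.2,
        hev, S.self, add_zero, add_zero, zero_add]
      exact ⟨⟨rfl, rfl⟩, rfl⟩
    · rw [S.add_right, S.add_right, hw.1.1, hw.1.2, S.Q_add, hw.2, hQv, S.symm w v, hw.1.2,
        hev, S.self, add_zero, add_zero]
      exact ⟨⟨rfl, rfl⟩, S.one_add_one⟩
  have h2 := S.cnt_Q (fun w => S.B e w = 0 ∧ S.B v w = 1)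
  rw [(S.cnt_two hV he hv hve).2] at h2
  rw [cnt_congr (R := fun w => (S.B e w = 0 ∧ S.B v w = 1) ∧ S.Q w = 0) (fun v => and_assoc.symm)]
  omega

theorem cnt_ts (hV : Fintype.card V = 16 * b ^ 2)
    (hQ : cnt (fun v => S.Q v = 0) = 8 * b ^ 2 + 2 * b) {e v : V} (he : e ≠ 0) (hQe : S.Q e = 0)
    (hv : v ≠ 0) (hve : v ≠ e) (hQv : S.Q v = 0) (hev : S.B e v = 0) :
    cnt (fun w => S.B e w = 0 ∧ S.B v w = 0 ∧ S.Q w = 0) = 2 * b ^ 2 + 2 * b := by
  have h1 := S.cnt_hyp hV he hv hve hQv hev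
  have h2 := (S.cnt_sing hV hQ he hQe).1
  have h3 := S.cnt_B (fun w => S.B e w = 0 ∧ S.Q w = 0) v
  rw [h2, cnt_congr (R := fun w => S.B e w = 0 ∧ S.B v w = 0 ∧ S.Q w = 0)
      (fun w => by tauto),
    cnt_congr (P := fun w => (S.B e w = 0 ∧ S.Q w = 0) ∧ S.B v w = 1)
      (R := fun w => S.B e w = 0 ∧ S.B v w = 1 ∧ S.Q w = 0) (fun w => by tauto), h1] at h3
  omega

/-- `n` nonsingular. -/
theorem cnt_ns (hV : Fintype.card V = 16 * b ^ 2)
    (hQ : cnt (fun v => S.Q v = 0) = 8 * b ^ 2 + 2 * b) {e n : V} (he : e ≠ 0) (hQe : S.Q e = 0)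
    (hQn : S.Q n = 1) (hen : S.B e n = 0) :
    cnt (fun w => S.B e w = 0 ∧ S.B n w = 0 ∧ S.Q w = 0) = 2 * b ^ 2 ∧
      cnt (fun w => S.B e w = 0 ∧ S.B n w = 1 ∧ S.Q w = 1) = 2 * b ^ 2 - 2 * b := by
  have hn : n ≠ 0 := by
    rintro rfl
    rw [S.Q_zero] at hQn
    exact zero_ne_one hQn
  have hne : n ≠ e := by
    rintro rfl
    rw [hQe] at hQn
    exact zero_ne_one hQn
  have h1 : cnt (fun w => (S.B e w = 0 ∧ S.B n w = 0) ∧ S.Q w = 0) =
      cnt (fun w => (S.B e w = 0 ∧ S.B n w = 0) ∧ S.Q w = 1) := by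
    refine S.cnt_shift n (fun w hw => ?_) (fun w hw => ?_)
    · rw [S.add_right, S.add_right, hw.1.1, hw.1.2, S.Q_add, hw.2, hQn, S.symm w n, hw.1.2,
        hen, S.self, add_zero, add_zero, zero_add]
      exact ⟨⟨rfl, rfl⟩, rfl⟩
    · rw [S.add_right, S.add_right, hw.1.1, hw.1.2, S.Q_add, hw.2, hQn, S.symm w n, hw.1.2,
        hen, S.self, add_zero, add_zero, S.one_add_one]
      exact ⟨⟨rfl, rfl⟩, rfl⟩
  have h2 := S.cnt_Q (fun w => S.B e w = 0 ∧ S.B n w = 0)
  rw [(S.cnt_two hV he hn hne).1] at h2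
  have h3 := (S.cnt_sing hV hQ he hQe).2
  have h4 := S.cnt_B (fun w => S.B e w = 0 ∧ S.Q w = 1) n
  rw [h3, cnt_congr (R := fun w => (S.B e w = 0 ∧ S.B n w = 0) ∧ S.Q w = 1)
      (fun w => by tauto),
    cnt_congr (P := fun w => (S.B e w = 0 ∧ S.Q w = 1) ∧ S.B n w = 1)
      (R := fun w => S.B e w = 0 ∧ S.B n w = 1 ∧ S.Q w = 1) (fun w => by tauto)] at h4
  rw [cnt_congr (R := fun w => (S.B e w = 0 ∧ S.B n w = 0) ∧ S.Q w = 0) (fun v => and_assoc.symm)]
  omega

end Count

end Op2

end Cfsg.Agent.H79.MinIdxOP2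
end

-- part: H79/MinIdxOP2/Fam
section
/-!
# Invariant families of subspaces of `e`-perp
-/

set_option autoImplicit false
set_option linter.unusedSectionVars false

namespace Cfsg.Agent.H79.MinIdxOP2

open Cfsg.Agent.H79.OrbitDual

namespace Op2

variable {F V G : Type*} [Field F] [AddCommGroup V] [Module F V] [Group G]
    [DistribMulAction G V] (S : Op2 F V G)

include S in
theorem finite_F : Finite F := by
  refine Finite.of_surjective (fun i : Fin 2 => if i = 0 then (0 : F) else 1) ?_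
  intro a
  rcases S.two a with rfl | rfl
  · exact ⟨0, by simp⟩
  · exact ⟨1, by simp⟩

theorem cnt_eq [Fintype V] (P : V → Prop) [DecidablePred P] :
    cnt P = (Finset.univ.filter P).card := by
  unfold cnt
  congr

/-- The annihilator of a subgroup. -/
theorem card_perp [Finite V] (C : AddSubgroup V) :
    Nat.card {v // ∀ w ∈ C, S.B w v = 0} = C.index := by
  obtain ⟨χ, hχ⟩ : ∃ χ : AddChar F ℂ, χ 1 ≠ 1 := by
    have : Finite F := S.finite_F
    exact (AddChar.exists_apply_ne_zero (a := (1 : F))).2 one_ne_zero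
  have hχ' : ∀ a : F, χ a = 1 ↔ a = 0 := by
    intro a
    rcases S.two a with rfl | rfl
    · simp
    · simp [hχ]
  let φ : V → AddChar V ℂ := fun v =>
    { toFun := fun w => χ (S.B w v)
      map_zero_eq_one' := by
        change χ (S.B 0 v) = 1
        rw [S.zero_left, AddChar.map_zero_eq_one]
      map_add_eq_mul' := by
        intro a b
        change χ (S.B (a + b) v) = _
        rw [S.add_left, AddChar.map_add_eq_mul] }
  have h0 : Nat.card {v // ∀ a, φ v a = 1} = 1 := by
    rw [Nat.card_eq_one_iff_unique]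
    refine ⟨⟨fun a b => ?_⟩, ⟨⟨0, fun w => ?_⟩⟩⟩
    · have h1 : ∀ a : {v // ∀ a, φ v a = 1}, a.1 = 0 := by
        intro a
        refine S.nd a.1 fun w => ?_
        rw [S.symm]
        exact (hχ' _).1 (a.2 w)
      exact Subtype.ext ((h1 a).trans (h1 b).symm)
    · change χ (S.B w 0) = 1
      rw [S.zero_right, AddChar.map_zero_eq_one]
  have h1 := card_ann φ (fun v w a => by
    change χ (S.B a (v + w)) = _
    rw [S.add_right, AddChar.map_add_eq_mul]
    rfl) h0 (by rw [one_mul]) C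
  rw [one_mul] at h1
  rw [← h1]
  refine Nat.card_congr (Equiv.subtypeEquivRight fun v => ?_)
  refine forall_congr' fun w => forall_congr' fun _ => ?_
  exact (hχ' _).symm

/-- The annihilator of a subgroup, as a subgroup. -/
def perp (C : AddSubgroup V) : AddSubgroup V where
  carrier := {v | ∀ w ∈ C, S.B w v = 0}
  zero_mem' := fun w _ => S.zero_right w
  add_mem' := by
    intro a b ha hb w hw
    rw [S.add_right, ha w hw, hb w hw, add_zero]
  neg_mem' := by
    intro a ha w hw
    rw [S.neg_eq]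
    exact ha w hw

theorem mem_perp {C : AddSubgroup V} {v : V} : v ∈ S.perp C ↔ ∀ w ∈ C, S.B w v = 0 := Iff.rfl

theorem card_perp' [Finite V] (C : AddSubgroup V) : Nat.card (S.perp C) = C.index :=
  S.card_perp C

theorem perp_perp [Finite V] (C : AddSubgroup V) : S.perp (S.perp C) = C := by
  symm
  apply AddSubgroup.eq_of_le_of_card_ge
  · intro c hc v hv
    rw [S.symm]
    exact hv c hc
  · rw [S.card_perp']
    have h1 := C.card_mul_index
    have h2 := (S.perp C).card_mul_index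
    rw [S.card_perp'] at h2
    have h3 : 0 < C.index := Nat.pos_of_ne_zero AddSubgroup.index_ne_zero_of_finite
    rw [← h1, mul_comm] at h2
    exact (Nat.eq_of_mul_eq_mul_right h3 h2).le

/-- A totally singular subgroup is small. -/
theorem card_ts_le [Finite V] {b : ℕ} (hV : Nat.card V = 16 * b ^ 2) (C : AddSubgroup V)
    (hC : ∀ u ∈ C, ∀ w ∈ C, S.B u w = 0) : Nat.card C ≤ 4 * b := by
  have h1 : C ≤ S.perp C := fun c hc w hw => hC w hw c hc
  have h2 : Nat.card C ≤ Nat.card (S.perp C) := AddSubgroup.card_le_of_le h1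
  rw [S.card_perp'] at h2
  have h3 := C.card_mul_index
  rw [hV] at h3
  by_contra hcon
  push Not at hcon
  nlinarith

/-- A family of subspaces of `e`-perp containing `e`, invariant under the stabilizer of `e`. -/
structure Fam (e : V) (O : Type*) where
  U : O → V → Prop
  zero : ∀ o, U o 0
  e_mem : ∀ o, U o e
  add : ∀ o u w, U o u → U o w → U o (u + w)
  perp : ∀ o w, U o w → S.B e w = 0
  conj : ∀ g : G, g • e = e → ∃ π : O ≃ O, ∀ o w, U (π o) (g • w) ↔ U o w

namespace Fam

variable {S} {e : V} {O : Type*} (M : S.Fam e O)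

/-- The subgroup. -/
def Us (o : O) : AddSubgroup V where
  carrier := {w | M.U o w}
  zero_mem' := M.zero o
  add_mem' := fun ha hb => M.add o _ _ ha hb
  neg_mem' := by
    intro a ha
    rw [S.neg_eq]
    exact ha

theorem mem_Us {o : O} {w : V} : w ∈ M.Us o ↔ M.U o w := Iff.rfl

/-- The whole of `e`-perp. -/
def full (o : O) : Prop := ∀ w, S.B e w = 0 → M.U o w

theorem full_conj {g : G} {π : O ≃ O} (hπ : ∀ o w, M.U (π o) (g • w) ↔ M.U o w)
    (he : g • e = e) (o : O) : M.full (π o) ↔ M.full o := by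
  constructor
  · intro h w hw
    rw [← hπ]
    apply h
    have := S.inv g e w
    rw [he] at this
    rw [this, hw]
  · intro h w hw
    have h1 := hπ o (g⁻¹ • w)
    rw [smul_inv_smul] at h1
    rw [h1]
    apply h
    have := S.inv g e (g⁻¹ • w)
    rw [he, smul_inv_smul] at this
    rw [← this, hw]

/-- Transport of a nonfull member. -/
theorem cover {P : V → V → Prop} (hP : ∀ u w u' w', P u w → P u' w' →
    ∃ g : G, g • e = e ∧ g • u = u' ∧ g • w = w') {o₀ : O} (h0 : ¬ M.full o₀) {u₀ w₀ : V}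
    (hu₀ : M.U o₀ u₀) (hw₀ : M.U o₀ w₀) (hP₀ : P u₀ w₀) {u w : V} (h : P u w) :
    ∃ o, ¬ M.full o ∧ M.U o u ∧ M.U o w := by
  obtain ⟨g, hge, hgu, hgw⟩ := hP u₀ w₀ u w hP₀ h
  obtain ⟨π, hπ⟩ := M.conj g hge
  refine ⟨π o₀, ?_, ?_, ?_⟩
  · rw [M.full_conj hπ hge]
    exact h0
  · rw [← hgu, hπ]
    exact hu₀
  · rw [← hgw, hπ]
    exact hw₀

section Count

variable [Fintype V] [Fintype O]

open Classical in
/-- The number of members containing `w`. -/
noncomputable def kap (w : V) : ℕ := (Finset.univ.filter fun o => M.U o w).card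

theorem kap_conj {g : G} (hg : g • e = e) (w : V) : M.kap (g • w) = M.kap w := by
  classical
  obtain ⟨π, hπ⟩ := M.conj g hg
  unfold kap
  symm
  refine Finset.card_bij (fun o _ => π o) ?_ ?_ ?_
  · intro o ho
    simp only [Finset.mem_filter, Finset.mem_univ, true_and] at ho ⊢
    exact (hπ o w).2 ho
  · intro o _ o' _ h
    exact π.injective h
  · intro o ho
    simp only [Finset.mem_filter, Finset.mem_univ, true_and] at ho
    refine ⟨π.symm o, ?_, π.apply_symm_apply o⟩
    simp only [Finset.mem_filter, Finset.mem_univ, true_and]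
    rw [← hπ, π.apply_symm_apply]
    exact ho

/-- Double counting. -/
theorem sum_cnt (P : V → Prop) {c : ℕ} (hc : ∀ w, P w → c ≤ M.kap w) :
    c * cnt P ≤ ∑ o, cnt (fun w => M.U o w ∧ P w) := by
  classical
  have h1 : ∑ o, cnt (fun w => M.U o w ∧ P w) =
      ∑ w ∈ Finset.univ.filter P, M.kap w := by
    have h2 : ∀ o, cnt (fun w => M.U o w ∧ P w) =
        ∑ w ∈ Finset.univ.filter P, if M.U o w then 1 else 0 := by
      intro o
      rw [← Finset.card_filter, Finset.filter_filter, cnt_eq]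
      congr 1
      ext w
      simp only [Finset.mem_filter, Finset.mem_univ, true_and]
      exact and_comm
    have h3 : ∀ w, M.kap w = ∑ o, if M.U o w then 1 else 0 := by
      intro w
      rw [← Finset.card_filter]
      unfold kap
      congr 1
    rw [Finset.sum_congr rfl fun o _ => h2 o, Finset.sum_comm,
      Finset.sum_congr rfl fun w _ => (h3 w).symm]
  rw [h1]
  have h4 : c * cnt P = ∑ w ∈ Finset.univ.filter P, c := by
    rw [Finset.sum_const, smul_eq_mul, mul_comm, cnt_eq]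
  rw [h4]
  refine Finset.sum_le_sum fun w hw => hc w ?_
  simpa using hw

/-- Covering. -/
theorem cover_count {P : V → V → Prop} (hP : ∀ u w u' w', P u w → P u' w' →
    ∃ g : G, g • e = e ∧ g • u = u' ∧ g • w = w') {o₀ : O} (h0 : ¬ M.full o₀) {u₀ w₀ : V}
    (hu₀ : M.U o₀ u₀) (hw₀ : M.U o₀ w₀) (hP₀ : P u₀ w₀) (u : V) {m : ℕ}
    (hm : ∀ o, ¬ M.full o → M.U o u → cnt (fun w => M.U o w ∧ P u w) ≤ m) :
    cnt (P u) ≤ M.kap u * m := by
  classical
  have h1 : (Finset.univ.filter (P u)) ⊆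
      (Finset.univ.filter fun o => ¬ M.full o ∧ M.U o u).biUnion
        (fun o => Finset.univ.filter fun w => M.U o w ∧ P u w) := by
    intro w hw
    simp only [Finset.mem_filter, Finset.mem_univ, true_and] at hw
    obtain ⟨o, ho1, ho2, ho3⟩ := M.cover hP h0 hu₀ hw₀ hP₀ hw
    rw [Finset.mem_biUnion]
    refine ⟨o, ?_, ?_⟩
    · simp only [Finset.mem_filter, Finset.mem_univ, true_and]
      exact ⟨ho1, ho2⟩
    · simp only [Finset.mem_filter, Finset.mem_univ, true_and]
      exact ⟨ho3, hw⟩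
  have h2 := Finset.card_le_card h1
  have h3 := Finset.card_biUnion_le_card_mul
    (Finset.univ.filter fun o => ¬ M.full o ∧ M.U o u)
    (fun o => Finset.univ.filter fun w => M.U o w ∧ P u w) m (by
      intro o ho
      simp only [Finset.mem_filter, Finset.mem_univ, true_and] at ho
      rw [← cnt_eq]
      exact hm o ho.1 ho.2)
  have h4 : (Finset.univ.filter fun o => ¬ M.full o ∧ M.U o u).card ≤ M.kap u := by
    unfold kap
    apply Finset.card_le_card
    intro o ho
    simp only [Finset.mem_filter, Finset.mem_univ, true_and] at ho ⊢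
    exact ho.2
  calc cnt (P u) = (Finset.univ.filter (P u)).card := cnt_eq _
    _ ≤ _ := h2.trans (h3.trans (Nat.mul_le_mul_right _ h4))

theorem card_Us (o : O) : Nat.card (M.Us o) = cnt (M.U o) := by
  classical
  rw [Nat.card_eq_fintype_card, cnt_eq]
  change Fintype.card {w // w ∈ M.Us o} = _
  rw [Fintype.card_subtype]
  rfl

end Count

end Fam

end Op2

end Cfsg.Agent.H79.MinIdxOP2
end

-- part: H79/MinIdxOP2/Dich
section
/-!
# The dichotomy for invariant families of small total order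
-/

set_option autoImplicit false
set_option linter.unusedSectionVars false

namespace Cfsg.Agent.H79.MinIdxOP2

open Cfsg.Agent.H79.OrbitDual

namespace Op2

variable {F V G : Type*} [Field F] [AddCommGroup V] [Module F V] [Group G]
    [DistribMulAction G V] {S : Op2 F V G}

theorem imp_of_cnt_le [Fintype V] {P R : V → Prop} (h : ∀ v, P v → R v) (hc : cnt R ≤ cnt P) :
    ∀ v, R v → P v := by
  classical
  rw [cnt_eq, cnt_eq] at hc
  have h1 : Finset.univ.filter P = Finset.univ.filter R := by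
    refine Finset.eq_of_subset_of_card_le ?_ hc
    intro v hv
    simp only [Finset.mem_filter, Finset.mem_univ, true_and] at hv ⊢
    exact h v hv
  intro v hv
  have h2 : v ∈ Finset.univ.filter R := by simpa using hv
  rw [← h1] at h2
  simpa using h2

namespace Fam

variable {e : V} {O : Type*} {M : S.Fam e O} [Fintype V] [Fintype O]

/-- Numerical hypotheses. -/
structure Num (M : S.Fam e O) (b k : ℕ) : Prop where
  hb : b = 2 ^ k
  hk : 2 ≤ k
  hV : Fintype.card V = 16 * b ^ 2
  hQ : cnt (fun v => S.Q v = 0) = 8 * b ^ 2 + 2 * b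
  he : e ≠ 0
  hQe : S.Q e = 0
  hT : ∑ o, cnt (M.U o) + 4 * b < 16 * b ^ 2

namespace Num

variable {b k : ℕ} (N : M.Num b k)

include N

theorem b4 : 4 ≤ b := by
  rw [N.hb]
  calc 4 = 2 ^ 2 := by norm_num
    _ ≤ 2 ^ k := Nat.pow_le_pow_right (by norm_num) N.hk

theorem kap_eq {w w' : V} (hw : w ≠ 0) (hwe : w ≠ e) (hew : S.B e w = 0) (hw' : w' ≠ 0)
    (hwe' : w' ≠ e) (hew' : S.B e w' = 0) (hQ : S.Q w = S.Q w') : M.kap w = M.kap w' := by
  obtain ⟨g, h1, h2⟩ := S.wit2 e w e w' N.he hw hwe N.he hw' hwe' rfl hQ (by rw [hew, hew'])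
  rw [← h2, M.kap_conj h1]

theorem sum_le (P : V → Prop) {c : ℕ} (hc : ∀ w, P w → c ≤ M.kap w) :
    c * cnt P + 4 * b < 16 * b ^ 2 := by
  have h1 := M.sum_cnt P hc
  have h2 : ∑ o, cnt (fun w => M.U o w ∧ P w) ≤ ∑ o, cnt (M.U o) :=
    Finset.sum_le_sum fun o _ => cnt_mono fun w hw => hw.1
  have h3 := N.hT
  omega

theorem kap_sing {v : V} (hv : v ≠ 0) (hve : v ≠ e) (hev : S.B e v = 0) (hQv : S.Q v = 0) :
    M.kap v ≤ 3 := by
  classical
  by_contra hcon
  push Not at hcon
  have h1 := N.sum_le (fun w => (S.B e w = 0 ∧ S.Q w = 0) ∧ w ∉ ({0, e} : Finset V)) (c := 4)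
    (fun w hw => by
      simp only [Finset.mem_insert, Finset.mem_singleton, not_or] at hw
      rw [← N.kap_eq hv hve hev hw.2.1 hw.2.2 hw.1.1 (by rw [hQv, hw.1.2])]
      omega)
  have h2 := cnt_le_add (fun w => S.B e w = 0 ∧ S.Q w = 0) ({0, e} : Finset V)
  have h3 : ({0, e} : Finset V).card ≤ 2 := Finset.card_le_two
  rw [(S.cnt_sing N.hV N.hQ N.he N.hQe).1] at h2
  have h4 := N.b4
  nlinarith

theorem kap_ns {v : V} (hev : S.B e v = 0) (hQv : S.Q v = 1) : M.kap v ≤ 4 := by
  have key : ∀ w, S.Q w = 1 → w ≠ 0 ∧ w ≠ e := by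
    intro w hw
    constructor
    · rintro rfl
      rw [S.Q_zero] at hw
      exact zero_ne_one hw
    · rintro rfl
      rw [N.hQe] at hw
      exact zero_ne_one hw
  by_contra hcon
  push Not at hcon
  have h1 := N.sum_le (fun w => S.B e w = 0 ∧ S.Q w = 1) (c := 5)
    (fun w hw => by
      rw [← N.kap_eq (key v hQv).1 (key v hQv).2 hev (key w hw.2).1 (key w hw.2).2 hw.1
        (by rw [hQv, hw.2])]
      omega)
  rw [(S.cnt_sing N.hV N.hQ N.he N.hQe).2] at h1
  have h4 := N.b4
  have h5 : 2 * b ≤ 4 * b ^ 2 := by nlinarith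
  zify [h5] at h1
  nlinarith

theorem card_pow (o : O) : ∃ j, cnt (M.U o) = 2 ^ j := by
  rw [← M.card_Us]
  have h1 : Nat.card (M.Us o) ∣ Nat.card V := AddSubgroup.card_addSubgroup_dvd_card _
  have h2 : Nat.card V = 2 ^ (2 * k + 4) := by
    rw [Nat.card_eq_fintype_card, N.hV, N.hb]
    ring
  rw [h2] at h1
  obtain ⟨j, -, hj⟩ := (Nat.dvd_prime_pow Nat.prime_two).1 h1
  exact ⟨j, hj⟩

theorem half_or {o : O} (h : ¬ M.full o) : cnt (M.U o) = 4 * b ^ 2 ∨ cnt (M.U o) ≤ 2 * b ^ 2 := by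
  have h1 : cnt (M.U o) < 8 * b ^ 2 := by
    by_contra hcon
    push Not at hcon
    apply h
    intro w hw
    exact imp_of_cnt_le (P := M.U o) (R := fun w => S.B e w = 0) (M.perp o)
      (by rw [(S.cnt_perp N.hV N.he).1]; exact hcon) w hw
  obtain ⟨j, hj⟩ := N.card_pow o
  have h2 : b ^ 2 = 2 ^ (2 * k) := by rw [N.hb]; ring
  rw [hj, h2] at h1 ⊢
  have h3 : (8 : ℕ) * 2 ^ (2 * k) = 2 ^ (2 * k + 3) := by ring
  have h4 : (4 : ℕ) * 2 ^ (2 * k) = 2 ^ (2 * k + 2) := by ring
  have h5 : (2 : ℕ) * 2 ^ (2 * k) = 2 ^ (2 * k + 1) := by ring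
  rw [h3] at h1
  rw [h4, h5]
  have h6 : j < 2 * k + 3 := (Nat.pow_lt_pow_iff_right (by norm_num)).1 h1
  rcases Nat.lt_or_ge (2 * k + 1) j with h7 | h7
  · left
    congr 1
    omega
  · right
    exact Nat.pow_le_pow_right (by norm_num) h7

/-- No member is a hyperplane of `e`-perp. -/
theorem not_half {o : O} (h : ¬ M.full o) : cnt (M.U o) ≠ 4 * b ^ 2 := by
  classical
  intro ho
  have hb4 := N.b4
  -- the vector `z`
  have h1 : Nat.card (S.perp (M.Us o)) = 4 := by
    have h2 := (M.Us o).card_mul_index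
    rw [S.card_perp', ]
    rw [M.card_Us, ho, Nat.card_eq_fintype_card, N.hV] at h2
    nlinarith
  obtain ⟨z, hz, hz0, hze⟩ : ∃ z ∈ S.perp (M.Us o), z ≠ 0 ∧ z ≠ e := by
    by_contra hcon
    push Not at hcon
    have h2 : Nat.card (S.perp (M.Us o)) ≤ 2 := by
      have h3 : ((S.perp (M.Us o) : Set V)) ⊆ ((({0, e} : Finset V)) : Set V) := by
        intro v hv
        by_cases hv0 : v = 0
        · simp [hv0]
        · simp [hcon v hv hv0]
      have h4 := Set.ncard_le_ncard h3 (Finset.finite_toSet _)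
      rw [Set.ncard_coe_finset] at h4
      exact h4.trans Finset.card_le_two
    omega
  have hU : ∀ w, M.U o w ↔ (S.B e w = 0 ∧ S.B z w = 0) := by
    intro w
    constructor
    · intro hw
      exact ⟨M.perp o w hw, by rw [S.symm]; exact hz w hw⟩
    · exact imp_of_cnt_le (P := M.U o) (R := fun w => S.B e w = 0 ∧ S.B z w = 0)
        (fun w hw => ⟨M.perp o w hw, by rw [S.symm]; exact hz w hw⟩)
        (by rw [(S.cnt_two N.hV N.he hz0 hze).1, ho]) w
  have hez : S.B e z = 0 := hz e (M.e_mem o)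
  -- the class of `z`
  set T : Finset V := {0, e} with hT
  set C : Finset V := Finset.univ.filter
    (fun w => (S.B e w = 0 ∧ S.Q w = S.Q z) ∧ w ∉ T) with hC
  have hCc : 4 * b ^ 2 ≤ C.card + 2 * b := by
    have h2 := cnt_le_add (fun w => S.B e w = 0 ∧ S.Q w = S.Q z) T
    have h3 : T.card ≤ 2 := Finset.card_le_two
    have h5 : cnt (fun w => (S.B e w = 0 ∧ S.Q w = S.Q z) ∧ w ∉ T) = C.card := cnt_eq _
    rcases S.two (S.Q z) with h4 | h4
    · rw [h5, h4, (S.cnt_sing N.hV N.hQ N.he N.hQe).1] at h2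
      omega
    · have h6 : cnt (fun w => (S.B e w = 0 ∧ S.Q w = S.Q z) ∧ w ∉ T) =
          cnt (fun w => S.B e w = 0 ∧ S.Q w = 1) := by
        apply cnt_congr
        intro w
        rw [h4]
        refine ⟨fun h => h.1, fun h => ⟨h, ?_⟩⟩
        rw [hT, Finset.mem_insert, Finset.mem_singleton, not_or]
        constructor
        · rintro rfl
          rw [S.Q_zero] at h
          exact zero_ne_one h.2
        · rintro rfl
          rw [N.hQe] at h
          exact zero_ne_one h.2
      rw [← h5, h6, (S.cnt_sing N.hV N.hQ N.he N.hQe).2]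
      omega
  -- the members
  have hf : ∀ w : V, ∃ o' : O, w ∈ C → ∀ u, M.U o' u ↔ (S.B e u = 0 ∧ S.B w u = 0) := by
    intro w
    by_cases hw : w ∈ C
    · rw [hC] at hw
      simp only [Finset.mem_filter, Finset.mem_univ, true_and] at hw
      rw [hT, Finset.mem_insert, Finset.mem_singleton, not_or] at hw
      obtain ⟨g, hg1, hg2⟩ := S.wit2 e z e w N.he hz0 hze N.he hw.2.1 hw.2.2 rfl hw.1.2.symm
        (by rw [hez, hw.1.1])
      obtain ⟨π, hπ⟩ := M.conj g hg1
      refine ⟨π o, fun _ u => ?_⟩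
      have h2 := hπ o (g⁻¹ • u)
      rw [smul_inv_smul] at h2
      rw [h2, hU, ← S.inv_left, ← S.inv_left, hg1, hg2]
    · exact ⟨o, fun h => absurd h hw⟩
  choose f hf using hf
  have h2 : C.card ≤ 2 * (C.image f).card := by
    refine Finset.card_le_mul_card_image C 2 ?_
    intro o' ho'
    rw [Finset.mem_image] at ho'
    obtain ⟨w, hw, rfl⟩ := ho'
    have h3 : C.filter (fun x => f x = f w) ⊆ ({w, w + e} : Finset V) := by
      intro x hx
      rw [Finset.mem_filter] at hx
      rw [Finset.mem_insert, Finset.mem_singleton]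
      by_contra hcon
      rw [not_or] at hcon
      obtain ⟨y, hy1, hy2⟩ := S.sep (e := e) (z := x + w)
        (fun h => hcon.1 (S.add_eq_zero.1 h))
        (fun h => hcon.2 (S.add_eq_iff.1 h))
      have h4 := hf w hw y
      have h5 := hf x hx.1 y
      rw [hx.2, h4] at h5
      rw [S.add_left] at hy2
      simp only [hy1, true_and] at h5
      rcases S.two (S.B w y) with h6 | h6
      · rw [h5.1 h6, h6, add_zero] at hy2
        exact zero_ne_one hy2
      · rcases S.two (S.B x y) with h7 | h7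
        · rw [h5.2 h7] at h6
          exact zero_ne_one h6
        · rw [h6, h7, S.one_add_one] at hy2
          exact zero_ne_one hy2
    exact (Finset.card_le_card h3).trans Finset.card_le_two
  have h3 : (C.image f).card * (4 * b ^ 2) ≤ ∑ o', cnt (M.U o') := by
    rw [← smul_eq_mul, ← Finset.sum_const]
    refine (Finset.sum_le_sum fun o' ho' => ?_).trans
      (Finset.sum_le_sum_of_subset (Finset.subset_univ (C.image f)))
    rw [Finset.mem_image] at ho'
    obtain ⟨w, hw, rfl⟩ := ho'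
    have h4 := hf w hw
    rw [cnt_congr h4]
    rw [hC] at hw
    simp only [Finset.mem_filter, Finset.mem_univ, true_and] at hw
    rw [hT, Finset.mem_insert, Finset.mem_singleton, not_or] at hw
    exact (S.cnt_two N.hV N.he hw.2.1 hw.2.2).1.ge
  have h4 := N.hT
  have h5 : 4 ≤ (C.image f).card := by
    by_contra hcon
    push Not at hcon
    have h7 : C.card ≤ 6 := by omega
    nlinarith
  nlinarith

end Num

end Fam

end Op2

end Cfsg.Agent.H79.MinIdxOP2
end

-- part: H79/MinIdxOP2/Steps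
section
/-!
# The members of an invariant family of small total order
-/

set_option autoImplicit false
set_option linter.unusedSectionVars false

namespace Cfsg.Agent.H79.MinIdxOP2

open Cfsg.Agent.H79.OrbitDual

namespace Op2

variable {F V G : Type*} [Field F] [AddCommGroup V] [Module F V] [Group G]
    [DistribMulAction G V] {S : Op2 F V G}

theorem cnt_sub [Fintype V] {P : V → Prop} {T : Finset V} (hT : ∀ v ∈ T, P v) :
    cnt (fun v => P v ∧ v ∉ T) + T.card ≤ cnt P := by
  classical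
  rw [← cnt_split P (fun v => v ∉ T)]
  apply Nat.add_le_add_left
  rw [cnt_eq]
  apply Finset.card_le_card
  intro v hv
  simp only [Finset.mem_filter, Finset.mem_univ, true_and, not_not]
  exact ⟨hT v hv, hv⟩

theorem cnt_le_card [Fintype V] {P : V → Prop} {T : Finset V} (hT : ∀ v, P v → v ∈ T) :
    cnt P ≤ T.card := by
  classical
  rw [cnt_eq]
  apply Finset.card_le_card
  intro v hv
  exact hT v (by simpa using hv)

theorem cnt_eq_zero [Fintype V] {P : V → Prop} (h : ∀ v, ¬ P v) : cnt P = 0 := by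
  classical
  rw [cnt_eq, Finset.card_eq_zero, Finset.filter_eq_empty_iff]
  intro v _
  exact h v

include S in
theorem four_distinct [DecidableEq V] {e v : V} (he : e ≠ 0) (hv : v ≠ 0) (hve : v ≠ e) :
    ({0, e, v, e + v} : Finset V).card = 4 := by
  have h1 : e + v ≠ 0 := fun h => hve (S.add_eq_zero.1 h).symm
  have h2 : e ≠ e + v := fun h => hv (left_eq_add.1 h)
  have h3 : v ≠ e + v := fun h => he (right_eq_add.1 h)
  rw [Finset.card_insert_of_notMem, Finset.card_insert_of_notMem, Finset.card_insert_of_notMem,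
    Finset.card_singleton]
  · simpa using h3
  · simp only [Finset.mem_insert, Finset.mem_singleton, not_or]
    exact ⟨hve.symm, h2⟩
  · simp only [Finset.mem_insert, Finset.mem_singleton, not_or]
    exact ⟨he.symm, hv.symm, h1.symm⟩

namespace Fam

variable {e : V} {O : Type*} {M : S.Fam e O} [Fintype V] [Fintype O]

/-- Covering, with the sum of the contributions. -/
theorem cover_sum {P : V → V → Prop} (hP : ∀ u w u' w', P u w → P u' w' →
    ∃ g : G, g • e = e ∧ g • u = u' ∧ g • w = w') {o₀ : O} (h0 : ¬ M.full o₀) {u₀ w₀ : V}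
    (hu₀ : M.U o₀ u₀) (hw₀ : M.U o₀ w₀) (hP₀ : P u₀ w₀) (u : V) {m : ℕ}
    (hm : ∀ o, ¬ M.full o → M.U o u → cnt (fun w => M.U o w ∧ P u w) ≤ m) {o₁ : O}
    (h1 : ¬ M.full o₁) (h1u : M.U o₁ u) :
    cnt (P u) + m ≤ M.kap u * m + cnt (fun w => M.U o₁ w ∧ P u w) := by
  classical
  set s := Finset.univ.filter fun o => ¬ M.full o ∧ M.U o u with hs
  have h2 : (Finset.univ.filter (P u)) ⊆
      s.biUnion (fun o => Finset.univ.filter fun w => M.U o w ∧ P u w) := by
    intro w hw
    simp only [Finset.mem_filter, Finset.mem_univ, true_and] at hw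
    obtain ⟨o, ho1, ho2, ho3⟩ := M.cover hP h0 hu₀ hw₀ hP₀ hw
    rw [Finset.mem_biUnion]
    refine ⟨o, ?_, ?_⟩
    · rw [hs]
      simp only [Finset.mem_filter, Finset.mem_univ, true_and]
      exact ⟨ho1, ho2⟩
    · simp only [Finset.mem_filter, Finset.mem_univ, true_and]
      exact ⟨ho3, hw⟩
  have h3 := (Finset.card_le_card h2).trans Finset.card_biUnion_le
  have h4 : s.card ≤ M.kap u := by
    unfold kap
    apply Finset.card_le_card
    intro o ho
    rw [hs] at ho
    simp only [Finset.mem_filter, Finset.mem_univ, true_and] at ho ⊢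
    exact ho.2
  have h5 : o₁ ∈ s := by
    rw [hs]
    simp only [Finset.mem_filter, Finset.mem_univ, true_and]
    exact ⟨h1, h1u⟩
  rw [← Finset.add_sum_erase s _ h5, ← cnt_eq, ← cnt_eq] at h3
  have h6 : ∑ o ∈ s.erase o₁, (Finset.univ.filter fun w => M.U o w ∧ P u w).card ≤
      (s.erase o₁).card * m := by
    rw [← smul_eq_mul]
    refine Finset.sum_le_card_nsmul _ _ _ fun o ho => ?_
    have h7 := Finset.mem_of_mem_erase ho
    rw [hs] at h7
    simp only [Finset.mem_filter, Finset.mem_univ, true_and] at h7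
    rw [← cnt_eq]
    exact hm o h7.1 h7.2
  have h8 : (s.erase o₁).card + 1 = s.card := Finset.card_erase_add_one h5
  have h9 : (s.erase o₁).card * m + m ≤ M.kap u * m := by
    rw [← Nat.succ_mul]
    exact Nat.mul_le_mul_right _ (by omega)
  omega

namespace Num

variable {b k : ℕ} (N : M.Num b k)

include N

theorem quarter {o : O} {v : V} (hv : M.U o v) (hQv : S.Q v = 0) :
    4 * cnt (fun w => M.U o w ∧ S.B v w = 1 ∧ S.Q w = 0) ≤ cnt (M.U o) := by
  by_cases hne : ∃ w, M.U o w ∧ S.B v w = 1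
  · obtain ⟨w₀, hw₀, hvw₀⟩ := hne
    have h1 : cnt (fun w => (M.U o w ∧ S.B v w = 1) ∧ S.Q w = 0) =
        cnt (fun w => (M.U o w ∧ S.B v w = 1) ∧ S.Q w = 1) := by
      refine S.cnt_shift v (fun w hw => ?_) (fun w hw => ?_)
      · refine ⟨⟨M.add o _ _ hw.1.1 hv, ?_⟩, ?_⟩
        · rw [S.add_right, S.self, add_zero, hw.1.2]
        · rw [S.Q_add, hw.2, hQv, S.symm w v, hw.1.2, add_zero, zero_add]
      · refine ⟨⟨M.add o _ _ hw.1.1 hv, ?_⟩, ?_⟩
        · rw [S.add_right, S.self, add_zero, hw.1.2]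
        · rw [S.Q_add, hw.2, hQv, S.symm w v, hw.1.2, add_zero, S.one_add_one]
    have h2 := S.cnt_Q (fun w => M.U o w ∧ S.B v w = 1)
    have h3 : cnt (fun w => M.U o w ∧ S.B v w = 0) = cnt (fun w => M.U o w ∧ S.B v w = 1) := by
      refine S.cnt_shift w₀ (fun w hw => ?_) (fun w hw => ?_)
      · refine ⟨M.add o _ _ hw.1 hw₀, ?_⟩
        rw [S.add_right, hw.2, hvw₀, zero_add]
      · refine ⟨M.add o _ _ hw.1 hw₀, ?_⟩
        rw [S.add_right, hw.2, hvw₀, S.one_add_one]
    have h4 := S.cnt_B (M.U o) v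
    rw [cnt_congr (R := fun w => (M.U o w ∧ S.B v w = 1) ∧ S.Q w = 0) (fun w => and_assoc.symm)]
    omega
  · rw [cnt_eq_zero (P := fun w => M.U o w ∧ S.B v w = 1 ∧ S.Q w = 0)
      (fun w hw => hne ⟨w, hw.1, hw.2.1⟩)]
    omega

/-- A nonfull member containing the singular vector `v` is contained in `v`-perp. -/
theorem stepA {o : O} (h : ¬ M.full o) {v w : V} (hv : M.U o v) (hv0 : v ≠ 0) (hve : v ≠ e)
    (hQv : S.Q v = 0) (hw : M.U o w) : S.B v w = 0 := by
  by_contra hcon
  rw [← ne_eq, S.ne_zero] at hcon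
  obtain ⟨w', hw', hvw', hQw'⟩ : ∃ w', M.U o w' ∧ S.B v w' = 1 ∧ S.Q w' = 0 := by
    rcases S.two (S.Q w) with h1 | h1
    · exact ⟨w, hw, hcon, h1⟩
    · refine ⟨w + v, M.add o _ _ hw hv, ?_, ?_⟩
      · rw [S.add_right, S.self, add_zero, hcon]
      · rw [S.Q_add, h1, hQv, S.symm w v, hcon, add_zero, S.one_add_one]
  have hcov := M.cover_count
    (P := fun u w => (u ≠ 0 ∧ u ≠ e ∧ S.B e u = 0 ∧ S.Q u = 0) ∧
      (S.B e w = 0 ∧ S.B u w = 1 ∧ S.Q w = 0)) (by
      have key : ∀ u w : V, S.B e u = 0 → S.B u w = 1 → w ≠ 0 ∧ w ≠ e ∧ w ≠ u ∧ w ≠ e + u := by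
        intro u w h1 h2
        refine ⟨?_, ?_, ?_, ?_⟩
        · rintro rfl
          rw [S.zero_right] at h2
          exact zero_ne_one h2
        · rintro rfl
          rw [S.symm, h1] at h2
          exact zero_ne_one h2
        · rintro rfl
          rw [S.self] at h2
          exact zero_ne_one h2
        · rintro rfl
          rw [S.add_right, S.self, S.symm, h1, add_zero] at h2
          exact zero_ne_one h2
      rintro u w u' w' ⟨⟨h1, h2, h3, h4⟩, h5, h6, h7⟩ ⟨⟨h1', h2', h3', h4'⟩, h5', h6', h7'⟩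
      obtain ⟨k1, k2, k3, k4⟩ := key u w h3 h6
      obtain ⟨k1', k2', k3', k4'⟩ := key u' w' h3' h6'
      exact S.wit3 e u w e u' w' N.he h1 h2 k1 k2 k3 k4 N.he h1' h2' k1' k2' k3' k4' rfl
        (by rw [h4, h4']) (by rw [h7, h7']) (by rw [h3, h3']) (by rw [h5, h5'])
        (by rw [h6, h6']))
    h hv hw' ⟨⟨hv0, hve, M.perp o v hv, hQv⟩, M.perp o w' hw', hvw', hQw'⟩ v
    (m := b ^ 2 / 2) (by
      intro o' ho' hvo'
      have h1 := N.quarter hvo' hQv
      have h2 := (N.half_or ho').resolve_left (N.not_half ho')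
      have h3 : cnt (fun w => M.U o' w ∧ (v ≠ 0 ∧ v ≠ e ∧ S.B e v = 0 ∧ S.Q v = 0) ∧
          (S.B e w = 0 ∧ S.B v w = 1 ∧ S.Q w = 0)) ≤
          cnt (fun w => M.U o' w ∧ S.B v w = 1 ∧ S.Q w = 0) :=
        cnt_mono fun w hw => ⟨hw.1, hw.2.2.2.1, hw.2.2.2.2⟩
      omega)
  have h1 : cnt (fun w => S.B e w = 0 ∧ S.B v w = 1 ∧ S.Q w = 0) ≤
      cnt (fun w => (v ≠ 0 ∧ v ≠ e ∧ S.B e v = 0 ∧ S.Q v = 0) ∧
      (S.B e w = 0 ∧ S.B v w = 1 ∧ S.Q w = 0)) :=
    cnt_mono fun w hw => ⟨⟨hv0, hve, M.perp o v hv, hQv⟩, hw⟩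
  rw [S.cnt_hyp N.hV N.he hv0 hve hQv (M.perp o v hv)] at h1
  have h2 : M.kap v * (b ^ 2 / 2) ≤ 3 * (b ^ 2 / 2) :=
    Nat.mul_le_mul_right _ (N.kap_sing hv0 hve (M.perp o v hv) hQv)
  have h3 : 16 ≤ b ^ 2 := by nlinarith [N.b4]
  have h4 := h1.trans (hcov.trans h2)
  omega

theorem orth {o : O} (h : ¬ M.full o) {v w : V} (hv : M.U o v) (hQv : S.Q v = 0)
    (hw : M.U o w) : S.B v w = 0 := by
  by_cases hv0 : v = 0
  · rw [hv0, S.zero_left]
  by_cases hve : v = e
  · rw [hve]
    exact M.perp o w hw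
  exact N.stepA h hv hv0 hve hQv hw

theorem card_sing {o : O} (h : ¬ M.full o) : cnt (fun w => M.U o w ∧ S.Q w = 0) ≤ 4 * b := by
  classical
  let C : AddSubgroup V := {
    carrier := {w | M.U o w ∧ S.Q w = 0}
    zero_mem' := ⟨M.zero o, S.Q_zero⟩
    add_mem' := by
      rintro u w ⟨hu, hQu⟩ ⟨hw, hQw⟩
      exact ⟨M.add o _ _ hu hw, by rw [S.Q_add, hQu, hQw, N.orth h hu hQu hw, add_zero, add_zero]⟩
    neg_mem' := by
      intro u hu
      rw [S.neg_eq]
      exact hu }
  have h1 := S.card_ts_le (b := b) (by rw [Nat.card_eq_fintype_card, N.hV]) C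
    (fun u hu w hw => N.orth h hu.1 hu.2 hw.1)
  refine le_trans (le_of_eq ?_) h1
  rw [Nat.card_eq_fintype_card, cnt_eq]
  change _ = Fintype.card {w // w ∈ C}
  rw [Fintype.card_subtype]
  congr 1
  ext w
  simp only [Finset.mem_filter, Finset.mem_univ, true_and]
  exact Iff.rfl

/-- The relation used in step B. -/
def PB (S : Op2 F V G) (e u w : V) : Prop := (u ≠ 0 ∧ u ≠ e ∧ S.B e u = 0 ∧ S.Q u = 0) ∧
      (S.B e w = 0 ∧ S.B u w = 0 ∧ S.Q w = 0 ∧ w ≠ 0 ∧ w ≠ e ∧ w ≠ u ∧ w ≠ e + u)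

theorem PB_trans (u w u' w' : V) (h : PB S e u w) (h' : PB S e u' w') :
    ∃ g : G, g • e = e ∧ g • u = u' ∧ g • w = w' := by
  obtain ⟨⟨h1, h2, h3, h4⟩, h5, h6, h7, k1, k2, k3, k4⟩ := h
  obtain ⟨⟨h1', h2', h3', h4'⟩, h5', h6', h7', k1', k2', k3', k4'⟩ := h'
  exact S.wit3 e u w e u' w' N.he h1 h2 k1 k2 k3 k4 N.he h1' h2' k1' k2' k3' k4' rfl
    (by rw [h4, h4']) (by rw [h7, h7']) (by rw [h3, h3']) (by rw [h5, h5']) (by rw [h6, h6'])

theorem cnt_PB {v : V} (hv0 : v ≠ 0) (hve : v ≠ e) (hQv : S.Q v = 0) (hev : S.B e v = 0) :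
    2 * b ^ 2 + 2 * b ≤ cnt (PB S e v) + 4 := by
  classical
  have h2 := cnt_le_add (fun w => S.B e w = 0 ∧ S.B v w = 0 ∧ S.Q w = 0)
    ({0, e, v, e + v} : Finset V)
  rw [S.cnt_ts N.hV N.hQ N.he N.hQe hv0 hve hQv hev] at h2
  have h3 : cnt (fun w => (S.B e w = 0 ∧ S.B v w = 0 ∧ S.Q w = 0) ∧
      w ∉ ({0, e, v, e + v} : Finset V)) ≤ cnt (PB S e v) := by
    apply cnt_mono
    rintro w ⟨⟨h4, h5, h6⟩, h7⟩
    simp only [Finset.mem_insert, Finset.mem_singleton, not_or] at h7
    exact ⟨⟨hv0, hve, hev, hQv⟩, h4, h5, h6, h7.1, h7.2.1, h7.2.2.1, h7.2.2.2⟩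
  have h4 : ({0, e, v, e + v} : Finset V).card ≤ 4 := Finset.card_le_four
  omega

theorem cnt_U_PB {o : O} (h : ¬ M.full o) {v : V} (hv0 : v ≠ 0) (hve : v ≠ e)
    (hQv : S.Q v = 0) (hv : M.U o v) :
    cnt (fun w => M.U o w ∧ PB S e v w) + 4 ≤ cnt (fun w => M.U o w ∧ S.Q w = 0) := by
  classical
  have h1 := cnt_sub (P := fun w => M.U o w ∧ S.Q w = 0) (T := ({0, e, v, e + v} : Finset V)) (by
    intro w hw
    simp only [Finset.mem_insert, Finset.mem_singleton] at hw
    rcases hw with rfl | rfl | rfl | rfl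
    · exact ⟨M.zero o, S.Q_zero⟩
    · exact ⟨M.e_mem o, N.hQe⟩
    · exact ⟨hv, hQv⟩
    · exact ⟨M.add o _ _ (M.e_mem o) hv, by
        rw [S.Q_add, N.hQe, hQv, M.perp o v hv, add_zero, add_zero]⟩)
  rw [four_distinct (S := S) N.he hv0 hve] at h1
  have h2 : cnt (fun w => M.U o w ∧ PB S e v w) ≤
      cnt (fun w => (M.U o w ∧ S.Q w = 0) ∧ w ∉ ({0, e, v, e + v} : Finset V)) := by
    apply cnt_mono
    rintro w ⟨h3, -, h4, h5, h6, h7, h8, h9, h10⟩
    simp only [Finset.mem_insert, Finset.mem_singleton, not_or]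
    exact ⟨⟨h3, h6⟩, h7, h8, h9, h10⟩
  omega

/-- The singular vectors of a nonfull member. -/
theorem stepB {o : O} (h : ¬ M.full o) {v w : V} (hv : M.U o v) (hv0 : v ≠ 0) (hve : v ≠ e)
    (hQv : S.Q v = 0) (hw : M.U o w) (hw0 : w ≠ 0) (hwe : w ≠ e) (hQw : S.Q w = 0) :
    w = v ∨ w = e + v := by
  by_contra hcon
  rw [not_or] at hcon
  have hP0 : PB S e v w := ⟨⟨hv0, hve, M.perp o v hv, hQv⟩, M.perp o w hw,
    N.stepA h hv hv0 hve hQv hw, hQw, hw0, hwe, hcon.1, hcon.2⟩
  have hm : ∀ u, u ≠ 0 → u ≠ e → S.Q u = 0 → ∀ o, ¬ M.full o → M.U o u →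
      cnt (fun w => M.U o w ∧ PB S e u w) ≤ 4 * b - 4 := by
    intro u hu0 hue hQu o ho hu
    have h1 := N.cnt_U_PB ho hu0 hue hQu hu
    have h2 := N.card_sing ho
    omega
  have hb4 := N.b4
  have h1 := M.cover_count (P := PB S e) N.PB_trans h hv hw hP0 v (hm v hv0 hve hQv)
  have h2 := N.cnt_PB hv0 hve hQv (M.perp o v hv)
  have h3 := N.kap_sing hv0 hve (M.perp o v hv) hQv
  have hb : b = 4 := by
    by_contra hne
    have h4 : M.kap v * (4 * b - 4) ≤ 3 * (4 * b - 4) := Nat.mul_le_mul_right _ h3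
    have h5 : 2 * b ^ 2 + 2 * b + 8 ≤ 12 * b := by omega
    have h6 : 5 ≤ b := by omega
    nlinarith
  -- every nonfull member with a nontrivial singular vector has 16 singular vectors
  have h16 : ∀ o, ¬ M.full o → ∀ u, M.U o u → u ≠ 0 → u ≠ e → S.Q u = 0 →
      16 ≤ cnt (fun w => M.U o w ∧ S.Q w = 0) := by
    intro o' ho' u hu hu0 hue hQu
    have h4 := M.cover_sum (P := PB S e) N.PB_trans h hv hw hP0 u (hm u hu0 hue hQu) ho' hu
    have h5 := N.cnt_PB hu0 hue hQu (M.perp o' u hu)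
    have h6 := N.kap_sing hu0 hue (M.perp o' u hu) hQu
    have h7 := N.cnt_U_PB ho' hu0 hue hQu hu
    have h8 : M.kap u * (4 * b - 4) ≤ 3 * (4 * b - 4) := Nat.mul_le_mul_right _ h6
    rw [hb] at h4 h5 h8
    omega
  have hk3 : M.kap v = 3 := by
    rw [hb] at h1 h2
    omega
  classical
  -- double counting
  have h4 := M.sum_cnt (fun w => (S.B e w = 0 ∧ S.Q w = 0) ∧ w ∉ ({0, e} : Finset V)) (c := 3)
    (fun w hw => by
      simp only [Finset.mem_insert, Finset.mem_singleton, not_or] at hw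
      rw [← N.kap_eq hv0 hve (M.perp o v hv) hw.2.1 hw.2.2 hw.1.1 (by rw [hQv, hw.1.2])]
      omega)
  have h5 := cnt_le_add (fun w => S.B e w = 0 ∧ S.Q w = 0) ({0, e} : Finset V)
  have h6 : ({0, e} : Finset V).card ≤ 2 := Finset.card_le_two
  rw [(S.cnt_sing N.hV N.hQ N.he N.hQe).1, hb] at h5
  have h7 : ∀ o', 16 * cnt (fun w => M.U o' w ∧ ((S.B e w = 0 ∧ S.Q w = 0) ∧
      w ∉ ({0, e} : Finset V))) ≤ 14 * cnt (M.U o') := by
    intro o'
    by_cases hf : M.full o'
    · have h8 : cnt (M.U o') = 8 * b ^ 2 := by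
        rw [← (S.cnt_perp N.hV N.he).1]
        exact cnt_congr fun w => ⟨M.perp o' w, hf w⟩
      have h9 : cnt (fun w => M.U o' w ∧ ((S.B e w = 0 ∧ S.Q w = 0) ∧
          w ∉ ({0, e} : Finset V))) ≤ cnt (fun w => S.B e w = 0 ∧ S.Q w = 0) :=
        cnt_mono fun w hw => hw.2.1
      rw [(S.cnt_sing N.hV N.hQ N.he N.hQe).1, hb] at h9
      rw [h8, hb]
      omega
    · by_cases hne : ∃ u, M.U o' u ∧ u ≠ 0 ∧ u ≠ e ∧ S.Q u = 0
      · obtain ⟨u, hu, hu0, hue, hQu⟩ := hne
        have h8 := h16 o' hf u hu hu0 hue hQu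
        have h9 : cnt (fun w => M.U o' w ∧ S.Q w = 0) ≤ cnt (M.U o') := cnt_mono fun w hw => hw.1
        have h10 := N.card_sing hf
        have h11 := cnt_sub (P := fun w => M.U o' w ∧ S.Q w = 0) (T := ({0, e} : Finset V)) (by
          intro w hw
          simp only [Finset.mem_insert, Finset.mem_singleton] at hw
          rcases hw with rfl | rfl
          · exact ⟨M.zero o', S.Q_zero⟩
          · exact ⟨M.e_mem o', N.hQe⟩)
        have h12 : ({0, e} : Finset V).card = 2 := Finset.card_pair N.he.symm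
        have h13 : cnt (fun w => M.U o' w ∧ ((S.B e w = 0 ∧ S.Q w = 0) ∧
          w ∉ ({0, e} : Finset V))) ≤ cnt (fun w => (M.U o' w ∧ S.Q w = 0) ∧
            w ∉ ({0, e} : Finset V)) := cnt_mono fun w hw => ⟨⟨hw.1, hw.2.1.2⟩, hw.2.2⟩
        rw [hb] at h10
        omega
      · rw [cnt_eq_zero (P := fun w => M.U o' w ∧ ((S.B e w = 0 ∧ S.Q w = 0) ∧
          w ∉ ({0, e} : Finset V)))]
        · omega
        · rintro w ⟨h8, ⟨-, h9⟩, h10⟩
          simp only [Finset.mem_insert, Finset.mem_singleton, not_or] at h10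
          exact hne ⟨w, h8, h10.1, h10.2, h9⟩
  have h8 : 16 * ∑ o', cnt (fun w => M.U o' w ∧ ((S.B e w = 0 ∧ S.Q w = 0) ∧
      w ∉ ({0, e} : Finset V))) ≤ 14 * ∑ o', cnt (M.U o') := by
    rw [Finset.mul_sum, Finset.mul_sum]
    exact Finset.sum_le_sum fun o' _ => h7 o'
  have h9 := N.hT
  rw [hb] at h9
  omega

/-- No nonfull member has a nontrivial singular vector and a nonsingular vector. -/
theorem stepC {o : O} (h : ¬ M.full o) {n v : V} (hn : M.U o n) (hQn : S.Q n = 1)
    (hv : M.U o v) (hQv : S.Q v = 0) : v = 0 ∨ v = e := by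
  classical
  by_contra hcon
  rw [not_or] at hcon
  have hcov := M.cover_count
    (P := fun u w => (S.B e u = 0 ∧ S.Q u = 1) ∧
      (S.B e w = 0 ∧ S.B u w = 0 ∧ S.Q w = 0) ∧ w ∉ ({0, e} : Finset V)) (by
      have key : ∀ u w : V, S.B e u = 0 → S.Q u = 1 → S.Q w = 0 →
          u ≠ 0 ∧ u ≠ e ∧ w ≠ u ∧ w ≠ e + u := by
        intro u w h0 h1 h2
        refine ⟨?_, ?_, ?_, ?_⟩
        · rintro rfl
          rw [S.Q_zero] at h1
          exact zero_ne_one h1
        · rintro rfl
          rw [N.hQe] at h1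
          exact zero_ne_one h1
        · rintro rfl
          rw [h1] at h2
          exact one_ne_zero h2
        · rintro rfl
          rw [S.Q_add, N.hQe, h1, h0, add_zero, zero_add] at h2
          exact one_ne_zero h2
      rintro u w u' w' ⟨⟨h1, h2⟩, ⟨h3, h4, h5⟩, h6⟩ ⟨⟨h1', h2'⟩, ⟨h3', h4', h5'⟩, h6'⟩
      simp only [Finset.mem_insert, Finset.mem_singleton, not_or] at h6 h6'
      obtain ⟨k1, k2, k3, k4⟩ := key u w h1 h2 h5
      obtain ⟨k1', k2', k3', k4'⟩ := key u' w' h1' h2' h5'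
      exact S.wit3 e u w e u' w' N.he k1 k2 h6.1 h6.2 k3 k4 N.he k1' k2' h6'.1 h6'.2 k3' k4' rfl
        (by rw [h2, h2']) (by rw [h5, h5']) (by rw [h1, h1']) (by rw [h3, h3'])
        (by rw [h4, h4']))
    h hn hv ⟨⟨M.perp o n hn, hQn⟩, ⟨M.perp o v hv, by rw [S.symm]; exact N.orth h hv hQv hn, hQv⟩,
      by simpa only [Finset.mem_insert, Finset.mem_singleton, not_or] using hcon⟩ n
    (m := 2) (by
      intro o' ho' hno'
      by_cases hne : ∃ u, M.U o' u ∧ u ≠ 0 ∧ u ≠ e ∧ S.Q u = 0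
      · obtain ⟨u, hu, hu0, hue, hQu⟩ := hne
        refine (cnt_le_card (T := ({u, e + u} : Finset V)) ?_).trans Finset.card_le_two
        rintro w ⟨h8, -, ⟨-, -, h9⟩, h10⟩
        simp only [Finset.mem_insert, Finset.mem_singleton, not_or] at h10 ⊢
        exact N.stepB ho' hu hu0 hue hQu h8 h10.1 h10.2 h9
      · rw [cnt_eq_zero]
        · omega
        · rintro w ⟨h8, -, ⟨-, -, h9⟩, h10⟩
          simp only [Finset.mem_insert, Finset.mem_singleton, not_or] at h10
          exact hne ⟨w, h8, h10.1, h10.2, h9⟩)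
  have h1 := cnt_le_add (fun w => S.B e w = 0 ∧ S.B n w = 0 ∧ S.Q w = 0) ({0, e} : Finset V)
  rw [(S.cnt_ns N.hV N.hQ N.he N.hQe hQn (M.perp o n hn)).1] at h1
  have h2 : ({0, e} : Finset V).card ≤ 2 := Finset.card_le_two
  have h3 : cnt (fun w => (S.B e w = 0 ∧ S.B n w = 0 ∧ S.Q w = 0) ∧ w ∉ ({0, e} : Finset V)) ≤
      cnt (fun w => (S.B e n = 0 ∧ S.Q n = 1) ∧
      (S.B e w = 0 ∧ S.B n w = 0 ∧ S.Q w = 0) ∧ w ∉ ({0, e} : Finset V)) :=
    cnt_mono fun w hw => ⟨⟨M.perp o n hn, hQn⟩, hw⟩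
  have h4 := N.kap_ns (M.perp o n hn) hQn
  have h5 := N.b4
  have h6 : cnt (fun w => (S.B e n = 0 ∧ S.Q n = 1) ∧
      (S.B e w = 0 ∧ S.B n w = 0 ∧ S.Q w = 0) ∧ w ∉ ({0, e} : Finset V)) ≤ 8 := by
    refine hcov.trans ?_
    omega
  nlinarith

theorem stepD_zero {o : O} (h : ¬ M.full o) {n n' : V} (hn : M.U o n) (hQn : S.Q n = 1)
    (hn' : M.U o n') (hB : S.B n n' = 0) : n' = 0 ∨ n' = e ∨ n' = n ∨ n' = e + n := by
  rcases S.two (S.Q n') with hQ | hQ
  · rcases N.stepC h hn hQn hn' hQ with h1 | h1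
    · exact Or.inl h1
    · exact Or.inr (Or.inl h1)
  · have h1 := N.stepC h hn hQn (M.add o _ _ hn' hn)
      (by rw [S.Q_add, hQ, hQn, S.symm, hB, add_zero, S.one_add_one])
    rcases h1 with h1 | h1
    · exact Or.inr (Or.inr (Or.inl (S.add_eq_zero.1 h1)))
    · right; right; right
      rw [S.add_eq_iff.1 h1, add_comm]

/-- The nonsingular vectors of a nonfull member. -/
theorem stepD {o : O} (h : ¬ M.full o) {n n' : V} (hn : M.U o n) (hQn : S.Q n = 1)
    (hn' : M.U o n') : n' = 0 ∨ n' = e ∨ n' = n ∨ n' = e + n := by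
  classical
  rcases S.two (S.B n n') with hB | hB
  · exact N.stepD_zero h hn hQn hn' hB
  exfalso
  have hQn' : S.Q n' = 1 := by
    rcases S.two (S.Q n') with h1 | h1
    · have h2 := N.orth h hn' h1 hn
      rw [S.symm, hB] at h2
      exact absurd h2 one_ne_zero
    · exact h1
  have hcov := M.cover_count
    (P := fun u w => (S.B e u = 0 ∧ S.Q u = 1) ∧
      (S.B e w = 0 ∧ S.B u w = 1 ∧ S.Q w = 1)) (by
      have key : ∀ u w : V, S.B e u = 0 → S.Q u = 1 → S.Q w = 1 → S.B u w = 1 →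
          u ≠ 0 ∧ u ≠ e ∧ w ≠ 0 ∧ w ≠ e ∧ w ≠ u ∧ w ≠ e + u := by
        intro u w h0 h1 h2 h3
        refine ⟨?_, ?_, ?_, ?_, ?_, ?_⟩
        · rintro rfl
          rw [S.Q_zero] at h1
          exact zero_ne_one h1
        · rintro rfl
          rw [N.hQe] at h1
          exact zero_ne_one h1
        · rintro rfl
          rw [S.Q_zero] at h2
          exact zero_ne_one h2
        · rintro rfl
          rw [N.hQe] at h2
          exact zero_ne_one h2
        · rintro rfl
          rw [S.self] at h3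
          exact zero_ne_one h3
        · rintro rfl
          rw [S.add_right, S.self, S.symm, h0, add_zero] at h3
          exact zero_ne_one h3
      rintro u w u' w' ⟨⟨h1, h2⟩, ⟨h3, h4, h5⟩⟩ ⟨⟨h1', h2'⟩, ⟨h3', h4', h5'⟩⟩
      obtain ⟨k1, k2, k5, k6, k3, k4⟩ := key u w h1 h2 h5 h4
      obtain ⟨k1', k2', k5', k6', k3', k4'⟩ := key u' w' h1' h2' h5' h4'
      exact S.wit3 e u w e u' w' N.he k1 k2 k5 k6 k3 k4 N.he k1' k2' k5' k6' k3' k4' rfl
        (by rw [h2, h2']) (by rw [h5, h5']) (by rw [h1, h1']) (by rw [h3, h3'])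
        (by rw [h4, h4']))
    h hn hn' ⟨⟨M.perp o n hn, hQn⟩, ⟨M.perp o n' hn', hB, hQn'⟩⟩ n
    (m := 4) (by
      intro o' ho' hno'
      by_cases hne : ∃ u, M.U o' u ∧ S.B n u = 1
      · obtain ⟨u, hu, hnu⟩ := hne
        refine (cnt_le_card (T := ({u, e + u, n + u, e + n + u} : Finset V)) ?_).trans
          Finset.card_le_four
        rintro w ⟨h8, -, -, h9, -⟩
        simp only [Finset.mem_insert, Finset.mem_singleton]
        have h10 := N.stepD_zero ho' hno' hQn (M.add o' _ _ h8 hu)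
          (by rw [S.add_right, h9, hnu, S.one_add_one])
        rcases h10 with h10 | h10 | h10 | h10
        · exact Or.inl (S.add_eq_zero.1 h10)
        · exact Or.inr (Or.inl (by rw [S.add_eq_iff.1 h10, add_comm]))
        · exact Or.inr (Or.inr (Or.inl (by rw [S.add_eq_iff.1 h10, add_comm])))
        · exact Or.inr (Or.inr (Or.inr (by rw [S.add_eq_iff.1 h10, add_comm])))
      · rw [cnt_eq_zero]
        · omega
        · rintro w ⟨h8, -, -, h9, -⟩
          exact hne ⟨w, h8, h9⟩)
  have h1 : cnt (fun w => S.B e w = 0 ∧ S.B n w = 1 ∧ S.Q w = 1) ≤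
      cnt (fun w => (S.B e n = 0 ∧ S.Q n = 1) ∧ (S.B e w = 0 ∧ S.B n w = 1 ∧ S.Q w = 1)) :=
    cnt_mono fun w hw => ⟨⟨M.perp o n hn, hQn⟩, hw⟩
  rw [(S.cnt_ns N.hV N.hQ N.he N.hQe hQn (M.perp o n hn)).2] at h1
  have h4 := N.kap_ns (M.perp o n hn) hQn
  have h5 := N.b4
  have h6 : cnt (fun w => (S.B e n = 0 ∧ S.Q n = 1) ∧
      (S.B e w = 0 ∧ S.B n w = 1 ∧ S.Q w = 1)) ≤ 16 := by
    refine hcov.trans ?_
    omega
  have h7 : 2 * b ≤ 2 * b ^ 2 := by nlinarith
  have h8 := h1.trans h6
  zify [h7] at h8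
  nlinarith

/-- A nonfull member has order at most 4. -/
theorem small {o : O} (h : ¬ M.full o) {u w : V} (hu : M.U o u) (hu0 : u ≠ 0) (hue : u ≠ e)
    (hw : M.U o w) : w = 0 ∨ w = e ∨ w = u ∨ w = e + u := by
  rcases S.two (S.Q u) with hQu | hQu
  · rcases S.two (S.Q w) with hQw | hQw
    · by_cases hw0 : w = 0
      · exact Or.inl hw0
      by_cases hwe : w = e
      · exact Or.inr (Or.inl hwe)
      exact Or.inr (Or.inr (N.stepB h hu hu0 hue hQu hw hw0 hwe hQw))
    · rcases N.stepC h hw hQw hu hQu with h1 | h1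
      · exact absurd h1 hu0
      · exact absurd h1 hue
  · exact N.stepD h hu hQu hw

/-- There is at most one full member. -/
theorem full_unique {o o' : O} (h : M.full o) (h' : M.full o') : o = o' := by
  classical
  by_contra hne
  have h8 : ∀ o, M.full o → cnt (M.U o) = 8 * b ^ 2 := by
    intro o ho
    rw [← (S.cnt_perp N.hV N.he).1]
    exact cnt_congr fun w => ⟨M.perp o w, ho w⟩
  have h1 : ∑ x ∈ ({o, o'} : Finset O), cnt (M.U x) ≤ ∑ x, cnt (M.U x) :=
    Finset.sum_le_sum_of_subset (Finset.subset_univ _)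
  rw [Finset.sum_pair hne, h8 o h, h8 o' h'] at h1
  have h2 := N.hT
  omega

/-- If there is a full member then the nonfull members are trivial. -/
theorem trivial_of_full {o₀ : O} (h₀ : M.full o₀) {o : O} (h : ¬ M.full o) {w : V}
    (hw : M.U o w) : w = 0 ∨ w = e := by
  classical
  by_contra hcon
  rw [not_or] at hcon
  obtain ⟨hw0, hwe⟩ := hcon
  have hew := M.perp o w hw
  set T : Finset V := {0, e} with hT
  set C : Finset V := Finset.univ.filter
    (fun u => (S.B e u = 0 ∧ S.Q u = S.Q w) ∧ u ∉ T) with hC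
  have hCm : ∀ u, u ∈ C → S.B e u = 0 ∧ S.Q u = S.Q w ∧ u ≠ 0 ∧ u ≠ e := by
    intro u hu
    rw [hC] at hu
    simp only [Finset.mem_filter, Finset.mem_univ, true_and] at hu
    rw [hT, Finset.mem_insert, Finset.mem_singleton, not_or] at hu
    exact ⟨hu.1.1, hu.1.2, hu.2.1, hu.2.2⟩
  have hb4 := N.b4
  have hCc : 4 * b ^ 2 ≤ C.card + 2 * b := by
    have h2 := cnt_le_add (fun u => S.B e u = 0 ∧ S.Q u = S.Q w) T
    have h3 : T.card ≤ 2 := Finset.card_le_two
    have h5 : cnt (fun u => (S.B e u = 0 ∧ S.Q u = S.Q w) ∧ u ∉ T) = C.card := cnt_eq _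
    rcases S.two (S.Q w) with h4 | h4
    · rw [h5, h4, (S.cnt_sing N.hV N.hQ N.he N.hQe).1] at h2
      omega
    · have h6 : cnt (fun u => (S.B e u = 0 ∧ S.Q u = S.Q w) ∧ u ∉ T) =
          cnt (fun u => S.B e u = 0 ∧ S.Q u = 1) := by
        apply cnt_congr
        intro u
        rw [h4]
        refine ⟨fun h => h.1, fun h => ⟨h, ?_⟩⟩
        rw [hT, Finset.mem_insert, Finset.mem_singleton, not_or]
        constructor
        · rintro rfl
          rw [S.Q_zero] at h
          exact zero_ne_one h.2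
        · rintro rfl
          rw [N.hQe] at h
          exact zero_ne_one h.2
      rw [← h5, h6, (S.cnt_sing N.hV N.hQ N.he N.hQe).2]
      omega
  have hf : ∀ u : V, ∃ o' : O, u ∈ C → ¬ M.full o' ∧ M.U o' u := by
    intro u
    by_cases hu : u ∈ C
    · obtain ⟨h1, h2, h3, h4⟩ := hCm u hu
      obtain ⟨g, hg1, hg2⟩ := S.wit2 e w e u N.he hw0 hwe N.he h3 h4 rfl h2.symm
        (by rw [hew, h1])
      obtain ⟨π, hπ⟩ := M.conj g hg1
      refine ⟨π o, fun _ => ⟨?_, ?_⟩⟩
      · rw [M.full_conj hπ hg1]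
        exact h
      · rw [← hg2, hπ]
        exact hw
    · exact ⟨o, fun h => absurd h hu⟩
  choose f hf using hf
  have h2 : C.card ≤ 2 * (C.image f).card := by
    refine Finset.card_le_mul_card_image C 2 ?_
    intro o' ho'
    rw [Finset.mem_image] at ho'
    obtain ⟨u, hu, rfl⟩ := ho'
    have h3 : C.filter (fun x => f x = f u) ⊆ ({u, e + u} : Finset V) := by
      intro x hx
      rw [Finset.mem_filter] at hx
      rw [Finset.mem_insert, Finset.mem_singleton]
      obtain ⟨h1, h2, h3, h4⟩ := hCm u hu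
      obtain ⟨k1, k2, k3, k4⟩ := hCm x hx.1
      have h5 := hf u hu
      have h6 := (hf x hx.1).2
      rw [hx.2] at h6
      rcases N.small h5.1 h5.2 h3 h4 h6 with h7 | h7 | h7 | h7
      · exact absurd h7 k3
      · exact absurd h7 k4
      · exact Or.inl h7
      · exact Or.inr h7
    exact (Finset.card_le_card h3).trans Finset.card_le_two
  have h3 : 8 * b ^ 2 + (C.image f).card * 4 ≤ ∑ o', cnt (M.U o') := by
    have h4 : o₀ ∉ C.image f := by
      intro h5
      rw [Finset.mem_image] at h5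
      obtain ⟨u, hu, rfl⟩ := h5
      exact (hf u hu).1 h₀
    have h5 : ∑ x ∈ insert o₀ (C.image f), cnt (M.U x) ≤ ∑ x, cnt (M.U x) :=
      Finset.sum_le_sum_of_subset (Finset.subset_univ _)
    rw [Finset.sum_insert h4] at h5
    refine le_trans (Nat.add_le_add ?_ ?_) h5
    · rw [← (S.cnt_perp N.hV N.he).1]
      exact cnt_mono h₀
    · rw [← smul_eq_mul, ← Finset.sum_const]
      refine Finset.sum_le_sum fun o' ho' => ?_
      rw [Finset.mem_image] at ho'
      obtain ⟨u, hu, rfl⟩ := ho'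
      obtain ⟨h6, h7, h8, h9⟩ := hCm u hu
      rw [← four_distinct (S := S) N.he h8 h9, ← Nat.zero_add (Finset.card _)]
      refine le_trans (Nat.add_le_add_right (Nat.zero_le
        (cnt (fun v => M.U (f u) v ∧ v ∉ ({0, e, u, e + u} : Finset V)))) _) ?_
      apply cnt_sub
      intro v hv
      simp only [Finset.mem_insert, Finset.mem_singleton] at hv
      rcases hv with rfl | rfl | rfl | rfl
      · exact M.zero _
      · exact M.e_mem _
      · exact (hf _ hu).2
      · exact M.add _ _ _ (M.e_mem _) (hf _ hu).2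
  have h4 := N.hT
  omega

end Num

end Fam

end Op2

end Cfsg.Agent.H79.MinIdxOP2
end

-- part: H79/MinIdxOP2/Orbs
section
/-!
# The family of annihilators of the point stabilizers in the Siegel group of a singular vector
-/

set_option autoImplicit false
set_option linter.unusedSectionVars false

namespace Cfsg.Agent.H79.MinIdxOP2

open Cfsg.Agent.H79.OrbitDual

namespace Op2

variable {F V G : Type*} [Field F] [AddCommGroup V] [Module F V] [Group G]
    [DistribMulAction G V] (S : Op2 F V G) {X : Type*} [MulAction G X]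

/-- The vectors orthogonal to `e`. -/
def P (e : V) : AddSubgroup V where
  carrier := {w | S.B e w = 0}
  zero_mem' := S.zero_right e
  add_mem' := by
    intro a b ha hb
    change S.B e (a + b) = 0
    rw [S.add_right, show S.B e a = 0 from ha, show S.B e b = 0 from hb, add_zero]
  neg_mem' := by
    intro a ha
    rw [S.neg_eq]
    exact ha

theorem mem_P {e w : V} : w ∈ S.P e ↔ S.B e w = 0 := Iff.rfl

/-- The action of the Siegel group of `e`. -/
def D (X : Type*) [MulAction G X] {e : V} (he : S.Q e = 0) : Act G X (S.P e) where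
  T a := S.s e a.1
  map_add a b := (S.s_mul he a.2 b.2).symm

theorem D_T {e : V} (he : S.Q e = 0) (a : S.P e) : (S.D X he).T a = S.s e a.1 := rfl

/-- Orthogonality. -/
def kappa (e : V) (a : S.P e) (w : V) : Prop := S.B a.1 w = 0

/-- The stabilizer of `x` in the Siegel group of `e`. -/
def Fx {e : V} (he : S.Q e = 0) (x : X) : AddSubgroup V where
  carrier := {a | S.B e a = 0 ∧ S.s e a • x = x}
  zero_mem' := ⟨S.zero_right e, by rw [S.s_zero he, one_smul]⟩
  add_mem' := by
    rintro a b ⟨ha, ha'⟩ ⟨hb, hb'⟩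
    exact ⟨by rw [S.add_right, ha, hb, add_zero], by rw [← S.s_mul he ha hb, mul_smul, hb', ha']⟩
  neg_mem' := by
    intro a ha
    rw [S.neg_eq]
    exact ha

theorem mem_Fx {e : V} {he : S.Q e = 0} {x : X} {a : V} :
    a ∈ S.Fx he x ↔ S.B e a = 0 ∧ S.s e a • x = x := Iff.rfl

/-- The annihilator of the stabilizer. -/
abbrev Ann {e : V} (he : S.Q e = 0) (x : X) : AddSubgroup V := S.perp (S.Fx he x)

theorem mem_A_iff {e : V} (he : S.Q e = 0) (x : X) (w : V) :
    w ∈ (S.D X he).A (S.kappa e) x ↔ w ∈ S.Ann he x := by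
  constructor
  · intro h a ha
    exact h ⟨a, ha.1⟩ ha.2
  · intro h a ha
    exact h a.1 ⟨a.2, ha⟩

theorem e_mem_Ann {e : V} (he : S.Q e = 0) (x : X) : e ∈ S.Ann he x := by
  intro a ha
  rw [S.symm]
  exact ha.1

theorem self_mem_Fx {e : V} (he : S.Q e = 0) (x : X) : e ∈ S.Fx he x :=
  ⟨S.self e, by rw [S.s_self he, one_smul]⟩

theorem perp_of_mem_Ann {e : V} {he : S.Q e = 0} {x : X} {w : V} (hw : w ∈ S.Ann he x) :
    S.B e w = 0 := hw e (S.self_mem_Fx he x)

/-- Duality. -/
theorem mem_Fx_iff [Finite V] {e : V} {he : S.Q e = 0} {x : X} {a : V} :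
    a ∈ S.Fx he x ↔ ∀ w ∈ S.Ann he x, S.B w a = 0 := by
  rw [← S.mem_perp, S.perp_perp]

theorem smul_mem_Fx {e : V} (he : S.Q e = 0) (g : G) (hge : S.Q (g • e) = 0) (x : X) (a : V) :
    g • a ∈ S.Fx hge (g • x) ↔ a ∈ S.Fx he x := by
  rw [S.mem_Fx, S.mem_Fx, S.inv]
  refine and_congr_right fun ha => ?_
  rw [← S.s_conj g he ha, mul_smul, inv_smul_smul, mul_smul, smul_left_cancel_iff]

theorem smul_mem_Ann {e : V} (he : S.Q e = 0) (g : G) (hge : S.Q (g • e) = 0) (x : X) (w : V) :
    g • w ∈ S.Ann hge (g • x) ↔ w ∈ S.Ann he x := by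
  rw [S.mem_perp, S.mem_perp]
  constructor
  · intro h a ha
    rw [← S.inv g]
    exact h _ ((S.smul_mem_Fx he g hge x a).2 ha)
  · intro h a ha
    have h1 := S.smul_mem_Fx he g hge x (g⁻¹ • a)
    rw [smul_inv_smul] at h1
    rw [← h _ (h1.1 ha), ← S.inv g (g⁻¹ • a), smul_inv_smul]

/-- The permutation of the orbits. -/
def orbEquiv {e : V} (he : S.Q e = 0) (g : G) (hg : g • e = e) :
    (S.D X he).Orb ≃ (S.D X he).Orb where
  toFun := Quotient.map (fun x => g • x) (by
    rintro x y ⟨a, rfl⟩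
    refine ⟨⟨g • a.1, ?_⟩, ?_⟩
    · change S.B e (g • a.1) = 0
      have h1 := S.inv g e a.1
      rw [hg] at h1
      rw [h1]
      exact a.2
    · change S.s e (g • a.1) • g • x = g • S.s e a.1 • x
      have h1 := S.s_conj g he a.2
      rw [hg] at h1
      rw [← h1, mul_smul, inv_smul_smul, mul_smul])
  invFun := Quotient.map (fun x => g⁻¹ • x) (by
    have hg' : g⁻¹ • e = e := inv_smul_eq_iff.2 hg.symm
    rintro x y ⟨a, rfl⟩
    refine ⟨⟨g⁻¹ • a.1, ?_⟩, ?_⟩
    · change S.B e (g⁻¹ • a.1) = 0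
      have h1 := S.inv g⁻¹ e a.1
      rw [hg'] at h1
      rw [h1]
      exact a.2
    · change S.s e (g⁻¹ • a.1) • g⁻¹ • x = g⁻¹ • S.s e a.1 • x
      have h1 := S.s_conj g⁻¹ he a.2
      rw [hg'] at h1
      rw [← h1, mul_smul, inv_smul_smul, mul_smul])
  left_inv := by
    intro o
    induction o using Quotient.inductionOn with
    | h x => simp [Quotient.map_mk]
  right_inv := by
    intro o
    induction o using Quotient.inductionOn with
    | h x => simp [Quotient.map_mk]

theorem Ann_eq_of_rel {e : V} {he : S.Q e = 0} {x y : X} (h : (S.D X he).rel x y) (w : V) :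
    w ∈ S.Ann he x ↔ w ∈ S.Ann he y := by
  rw [← S.mem_A_iff, ← S.mem_A_iff, (S.D X he).A_eq_of_rel _ h]

theorem Ann_out {e : V} {he : S.Q e = 0} (x : X) (w : V) :
    w ∈ S.Ann he (Quotient.mk (S.D X he).rel x).out ↔ w ∈ S.Ann he x :=
  S.Ann_eq_of_rel (Quotient.mk_out x) w

/-- The family of the annihilators. -/
def fam (X : Type*) [MulAction G X] {e : V} (he : S.Q e = 0) : S.Fam e (S.D X he).Orb where
  U o w := w ∈ S.Ann he o.out
  zero o := (S.Ann he o.out).zero_mem
  e_mem o := S.e_mem_Ann he o.out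
  add o _ _ h h' := (S.Ann he o.out).add_mem h h'
  perp o w hw := S.perp_of_mem_Ann hw
  conj g hg := by
    refine ⟨S.orbEquiv he g hg, fun o w => ?_⟩
    induction o using Quotient.inductionOn with
    | h x =>
      have h1 : S.orbEquiv he g hg (Quotient.mk (S.D X he).rel x) =
        Quotient.mk (S.D X he).rel (g • x) := rfl
      rw [h1, S.Ann_out, S.Ann_out]
      have h2 := S.smul_mem_Ann he g (by rw [hg, he]) x w
      simp only [hg] at h2
      exact h2

theorem fam_U {e : V} (he : S.Q e = 0) (x : X) (w : V) :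
    (S.fam X he).U (Quotient.mk (S.D X he).rel x) w ↔ w ∈ S.Ann he x := S.Ann_out x w

section Count

variable [Fintype V]

theorem index_P {b : ℕ} (hb : 0 < b) (hV : Fintype.card V = 16 * b ^ 2) {e : V} (he : e ≠ 0) :
    (S.P e).index = 2 := by
  classical
  have h1 := (S.P e).card_mul_index
  have h2 : Nat.card (S.P e) = 8 * b ^ 2 := by
    rw [← (S.cnt_perp hV he).1, cnt_eq, Nat.card_eq_fintype_card]
    change Fintype.card {w // w ∈ S.P e} = _
    rw [Fintype.card_subtype]
    rfl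
  rw [h2, Nat.card_eq_fintype_card, hV] at h1
  have h3 : 0 < 8 * b ^ 2 := by positivity
  apply Nat.eq_of_mul_eq_mul_left h3
  rw [h1]
  ring

theorem card_kappa {b : ℕ} (hb : 0 < b) (hV : Fintype.card V = 16 * b ^ 2) {e : V} (he : e ≠ 0)
    (C : AddSubgroup (S.P e)) : Nat.card {w // ∀ a ∈ C, S.kappa e a w} = 2 * C.index := by
  have h1 := S.card_perp (C.map (S.P e).subtype)
  rw [AddSubgroup.index_map_subtype, S.index_P hb hV he] at h1
  rw [mul_comm, ← h1]
  refine Nat.card_congr (Equiv.subtypeEquivRight fun w => ?_)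
  constructor
  · rintro h _ ⟨a, ha, rfl⟩
    exact h a ha
  · intro h a ha
    exact h a.1 ⟨a, ha, rfl⟩

theorem sum_fam [Finite X] {b : ℕ} (hb : 0 < b) (hV : Fintype.card V = 16 * b ^ 2) {e : V}
    (he0 : e ≠ 0) (he : S.Q e = 0) [Fintype (S.D X he).Orb] :
    ∑ o, cnt ((S.fam X he).U o) = 2 * Nat.card X := by
  classical
  rw [(S.D X he).card_eq_sum_index, Finset.mul_sum]
  refine Finset.sum_congr rfl fun o _ => ?_
  rw [← (S.D X he).card_A (S.kappa e) (S.card_kappa hb hV he0), cnt_eq,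
    Nat.card_eq_fintype_card]
  change _ = Fintype.card {w // w ∈ (S.D X he).A (S.kappa e) o.out}
  rw [Fintype.card_subtype]
  congr 1
  ext w
  simp only [Finset.mem_filter, Finset.mem_univ, true_and]
  exact (S.mem_A_iff he _ w).symm

/-- Numerical hypotheses. -/
structure Hyp (X : Type*) (b k : ℕ) : Prop where
  hb : b = 2 ^ k
  hk : 2 ≤ k
  hV : Fintype.card V = 16 * b ^ 2
  hQ : cnt (fun v => S.Q v = 0) = 8 * b ^ 2 + 2 * b
  hX : 2 * Nat.card X + 4 * b < 16 * b ^ 2

variable {S} {b k : ℕ}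

theorem Hyp.num [Finite X] (N : S.Hyp X b k) {e : V} (he0 : e ≠ 0) (he : S.Q e = 0)
    [Fintype (S.D X he).Orb] : (S.fam X he).Num b k where
  hb := N.hb
  hk := N.hk
  hV := N.hV
  hQ := N.hQ
  he := he0
  hQe := he
  hT := by
    rw [S.sum_fam (by rw [N.hb]; positivity) N.hV he0 he]
    exact N.hX

theorem full_mk {e : V} (he : S.Q e = 0) (x : X) :
    (S.fam X he).full (Quotient.mk (S.D X he).rel x) ↔ ∀ w, S.B e w = 0 → w ∈ S.Ann he x :=
  forall_congr' fun w => imp_congr_right fun _ => S.fam_U he x w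

/-- The stabilizer of `x` is trivial. -/
theorem Hyp.small [Finite X] (N : S.Hyp X b k) {e : V} (he0 : e ≠ 0) (he : S.Q e = 0) (x : X)
    (hx : ¬ ∀ w, S.B e w = 0 → w ∈ S.Ann he x) {u w : V} (hu : u ∈ S.Ann he x) (hu0 : u ≠ 0)
    (hue : u ≠ e) (hw : w ∈ S.Ann he x) : w = 0 ∨ w = e ∨ w = u ∨ w = e + u := by
  have := Fintype.ofFinite (S.D X he).Orb
  have N' := N.num he0 he
  rw [← full_mk he x] at hx
  rw [← S.fam_U he x] at hu hw
  exact N'.small hx hu hu0 hue hw

theorem Hyp.rel_of_full [Finite X] (N : S.Hyp X b k) {e : V} (he0 : e ≠ 0) (he : S.Q e = 0)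
    {x y : X} (hx : ∀ w, S.B e w = 0 → w ∈ S.Ann he x)
    (hy : ∀ w, S.B e w = 0 → w ∈ S.Ann he y) : ∃ a, S.B e a = 0 ∧ S.s e a • x = y := by
  have := Fintype.ofFinite (S.D X he).Orb
  have N' := N.num he0 he
  rw [← full_mk he x] at hx
  rw [← full_mk he y] at hy
  have h1 : (S.D X he).rel x y := Quotient.exact (N'.full_unique hx hy)
  obtain ⟨a, ha⟩ := h1
  exact ⟨a.1, a.2, ha⟩

theorem Hyp.trivial_of_full [Finite X] (N : S.Hyp X b k) {e : V} (he0 : e ≠ 0) (he : S.Q e = 0)
    {x y : X} (hx : ∀ w, S.B e w = 0 → w ∈ S.Ann he x)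
    (hy : ¬ ∀ w, S.B e w = 0 → w ∈ S.Ann he y) {w : V} (hw : w ∈ S.Ann he y) :
    w = 0 ∨ w = e := by
  have := Fintype.ofFinite (S.D X he).Orb
  have N' := N.num he0 he
  rw [← full_mk he x] at hx
  rw [← full_mk he y] at hy
  rw [← S.fam_U he y] at hw
  exact N'.trivial_of_full hx hy hw

end Count

end Op2

end Cfsg.Agent.H79.MinIdxOP2
end

-- part: H79/MinIdxOP2/Final
section
/-!
# The minimal degree of the group of plus type over the field with two elements
-/

set_option autoImplicit false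
set_option linter.unusedSectionVars false

namespace Cfsg.Agent.H79.MinIdxOP2

open Cfsg.Agent.H79.OrbitDual

namespace Op2

variable {F V G : Type*} [Field F] [AddCommGroup V] [Module F V] [Group G]
    [DistribMulAction G V] (S : Op2 F V G) {X : Type*} [MulAction G X]

/-- A totally singular plane and two hyperbolic pairs. -/
structure Frame (e f p q r t : V) : Prop where
  Qe : S.Q e = 0
  Qf : S.Q f = 0
  Qp : S.Q p = 0
  Qq : S.Q q = 0
  Qr : S.Q r = 0
  Qt : S.Q t = 0
  ef : S.B e f = 0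
  ep : S.B e p = 0
  eq : S.B e q = 0
  er : S.B e r = 0
  et : S.B e t = 0
  fp : S.B f p = 0
  fq : S.B f q = 0
  fr : S.B f r = 0
  ft : S.B f t = 0
  pq : S.B p q = 1
  rt : S.B r t = 1
  pr : S.B p r = 0
  pt : S.B p t = 0
  qr : S.B q r = 0
  qt : S.B q t = 0
  e0 : e ≠ 0
  f0 : f ≠ 0
  fe : f ≠ e

variable {S}

/-- A singular vector nonorthogonal to a given nonsingular vector. -/
theorem Frame.exists_sing {e f p q r t : V} (R : S.Frame e f p q r t) {e' w : V} (he : e' ≠ 0)
    (hQe : S.Q e' = 0) (hw : S.B e' w = 0) (hQw : S.Q w = 1) :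
    ∃ v, S.Q v = 0 ∧ S.B e' v = 0 ∧ S.B v w = 1 := by
  have h0 : S.Q (p + q) = 1 := by rw [S.Q_add, R.Qp, R.Qq, R.pq, zero_add, zero_add]
  have key : ∀ u a : V, S.Q u = 1 → S.Q a = 0 → u ≠ 0 ∧ u ≠ a := by
    intro u a h1 h2
    constructor
    · rintro rfl
      rw [S.Q_zero] at h1
      exact zero_ne_one h1
    · rintro rfl
      rw [h2] at h1
      exact zero_ne_one h1
  obtain ⟨g, h1, h2⟩ := S.wit2 e (p + q) e' w R.e0 (key _ _ h0 R.Qe).1 (key _ _ h0 R.Qe).2 he
    (key _ _ hQw hQe).1 (key _ _ hQw hQe).2 (by rw [R.Qe, hQe]) (by rw [h0, hQw])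
    (by rw [S.add_right, R.ep, R.eq, hw, add_zero])
  refine ⟨g • p, by rw [S.invQ, R.Qp], by rw [← h1, S.inv, R.ep], ?_⟩
  rw [← h2, S.inv, S.add_right, S.self, R.pq, zero_add]

/-- A hyperbolic pair orthogonal to a totally singular plane. -/
theorem Frame.exists_opp {e f p q r t : V} (R : S.Frame e f p q r t) {e' f' : V} (he : e' ≠ 0)
    (hf : f' ≠ 0) (hfe : f' ≠ e') (hQe : S.Q e' = 0) (hQf : S.Q f' = 0) (hef : S.B e' f' = 0) :
    ∃ p' q', S.Q p' = 0 ∧ S.Q q' = 0 ∧ S.B p' q' = 1 ∧ S.B e' p' = 0 ∧ S.B e' q' = 0 ∧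
      S.B f' p' = 0 ∧ S.B f' q' = 0 := by
  obtain ⟨g, h1, h2⟩ := S.wit2 e f e' f' R.e0 R.f0 R.fe he hf hfe (by rw [R.Qe, hQe])
    (by rw [R.Qf, hQf]) (by rw [R.ef, hef])
  refine ⟨g • p, g • q, by rw [S.invQ, R.Qp], by rw [S.invQ, R.Qq], by rw [S.inv, R.pq], ?_, ?_,
    ?_, ?_⟩
  · rw [← h1, S.inv, R.ep]
  · rw [← h1, S.inv, R.eq]
  · rw [← h2, S.inv, R.fp]
  · rw [← h2, S.inv, R.fq]

/-- Two singular vectors have a common neighbour. -/
theorem Frame.exists_common {e f p q r t : V} (R : S.Frame e f p q r t) {e' f' : V} (he : e' ≠ 0)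
    (hf : f' ≠ 0) (hQe : S.Q e' = 0) (hQf : S.Q f' = 0) :
    ∃ v, v ≠ 0 ∧ v ≠ e' ∧ v ≠ f' ∧ S.Q v = 0 ∧ S.B e' v = 0 ∧ S.B v f' = 0 := by
  by_cases hfe : f' = e'
  · subst hfe
    obtain ⟨g, h1⟩ := S.wit1 e f' R.e0 hf (by rw [R.Qe, hQf])
    have h2 : g • f ≠ f' := by
      rw [← h1]
      intro h
      exact R.fe (MulAction.injective g h)
    exact ⟨g • f, S.smul_ne_zero R.f0, h2, h2, by rw [S.invQ, R.Qf],
      by rw [← h1, S.inv, R.ef], by rw [← h1, S.inv, S.symm, R.ef]⟩
  · rcases S.two (S.B e' f') with hef | hef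
    · obtain ⟨p', q', h1, h2, h3, h4, h5, h6, h7⟩ := R.exists_opp he hf hfe hQe hQf hef
      refine ⟨p', ?_, ?_, ?_, h1, h4, by rw [S.symm, h6]⟩
      · rintro rfl
        rw [S.zero_left] at h3
        exact zero_ne_one h3
      · rintro rfl
        rw [h5] at h3
        exact zero_ne_one h3
      · rintro rfl
        rw [h7] at h3
        exact zero_ne_one h3
    · have hp0 : p ≠ 0 := by
        rintro rfl
        have := R.pq
        rw [S.zero_left] at this
        exact zero_ne_one this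
      have hq0 : q ≠ 0 := by
        rintro rfl
        have := R.pq
        rw [S.zero_right] at this
        exact zero_ne_one this
      have hqp : q ≠ p := by
        rintro rfl
        have := R.pq
        rw [S.self] at this
        exact zero_ne_one this
      obtain ⟨g, h1, h2⟩ := S.wit2 p q e' f' hp0 hq0 hqp he hf hfe (by rw [R.Qp, hQe])
        (by rw [R.Qq, hQf]) (by rw [R.pq, hef])
      refine ⟨g • e, S.smul_ne_zero R.e0, ?_, ?_, by rw [S.invQ, R.Qe],
        by rw [← h1, S.inv, S.symm, R.ep], by rw [← h2, S.inv, R.eq]⟩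
      · rw [← h1]
        intro h
        have h3 : e = p := MulAction.injective g h
        have h4 := R.pq
        rw [← h3, R.eq] at h4
        exact zero_ne_one h4
      · rw [← h2]
        intro h
        have h3 : e = q := MulAction.injective g h
        have h4 := R.pq
        rw [← h3, S.symm, R.ep] at h4
        exact zero_ne_one h4

/-- A point fixed by the root elements is fixed by the group. -/
theorem Frame.stabilizer_eq_top {e f p q r t : V} (R : S.Frame e f p q r t) {x : X}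
    (h : ∀ e v, e ≠ 0 → v ≠ 0 → v ≠ e → S.Q e = 0 → S.Q v = 0 → S.B e v = 0 →
      S.s e v • x = x) : MulAction.stabilizer G x = ⊤ := by
  apply S.gen
  intro e' w hQe hw
  rw [MulAction.mem_stabilizer_iff]
  by_cases he : e' = 0
  · have h1 : S.s e' w = 1 := by
      apply S.ext
      intro y
      rw [S.s_smul hQe hw, he, S.zero_left, smul_zero, mul_zero, zero_smul, zero_smul, add_zero,
        add_zero, add_zero, one_smul]
    rw [h1, one_smul]
  have key : ∀ w, S.B e' w = 0 → S.Q w = 0 → S.s e' w • x = x := by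
    intro w hw hQw
    by_cases hw0 : w = 0
    · rw [hw0, S.s_zero hQe, one_smul]
    by_cases hwe : w = e'
    · rw [hwe, S.s_self hQe, one_smul]
    exact h e' w he hw0 hwe hQe hQw hw
  rcases S.two (S.Q w) with hQw | hQw
  · exact key w hw hQw
  · obtain ⟨v, h1, h2, h3⟩ := R.exists_sing he hQe hw hQw
    have h4 : S.B e' (v + w) = 0 := by rw [S.add_right, h2, hw, add_zero]
    have h5 : S.s e' w = S.s e' v * S.s e' (v + w) := by
      rw [S.s_mul hQe h2 h4, S.add_add_self]
    rw [h5, mul_smul, key (v + w) h4 (by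
      rw [S.Q_add, h1, hQw, h3, zero_add, S.one_add_one]), key v h2 h1]

section Main

variable [Fintype V] [Finite X] {b k : ℕ}

/-- The pair `(e, x)` is free. -/
def Free (S : Op2 F V G) (e : V) (x : X) : Prop := ∀ a, S.B e a = 0 → S.s e a • x = x → a = 0 ∨ a = e

theorem free_of_full {e : V} (he : S.Q e = 0) {x : X}
    (h : ∀ w, S.B e w = 0 → w ∈ S.Ann he x) : Free S e x := by
  intro a ha hax
  have h1 : a ∈ S.Fx he x := ⟨ha, hax⟩
  rw [S.mem_Fx_iff] at h1
  by_contra hcon
  rw [not_or] at hcon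
  obtain ⟨w, hw1, hw2⟩ := S.sep hcon.1 hcon.2
  have h2 := h1 w (h w hw1)
  rw [S.symm, hw2] at h2
  exact one_ne_zero h2

/-- The case without full members. -/
theorem Hyp.root_fix (N : S.Hyp X b k) {e₀ f₀ p₀ q₀ r₀ t₀ : V}
    (R : S.Frame e₀ f₀ p₀ q₀ r₀ t₀)
    (hα : ∀ e (he : S.Q e = 0) (x : X), e ≠ 0 → ¬ ∀ w, S.B e w = 0 → w ∈ S.Ann he x) {e v : V}
    (he0 : e ≠ 0) (hv0 : v ≠ 0) (hve : v ≠ e) (he : S.Q e = 0) (hv : S.Q v = 0)
    (hev : S.B e v = 0) (x : X) : S.s e v • x = x := by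
  by_contra hcon
  have key : ∀ e v (he0 : e ≠ 0) (hv0 : v ≠ 0) (hve : v ≠ e) (he : S.Q e = 0) (hv : S.Q v = 0)
      (hev : S.B e v = 0), S.s e v • x ≠ x →
      ∃ u, S.B u v = 1 ∧ ∀ a, S.B e a = 0 → S.B u a = 0 → S.s e a • x = x := by
    intro e v he0 hv0 hve he hv hev hne
    have h1 : v ∉ S.Fx he x := fun h => hne h.2
    rw [S.mem_Fx_iff] at h1
    push Not at h1
    obtain ⟨u, hu, huv⟩ := h1
    rw [S.ne_zero] at huv
    refine ⟨u, huv, fun a ha hua => ?_⟩
    have h2 : a ∈ S.Fx he x := by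
      rw [S.mem_Fx_iff]
      intro w hw
      rcases N.small he0 he x (hα e he x he0) hu (by
        rintro rfl
        rw [S.zero_left] at huv
        exact zero_ne_one huv) (by
        rintro rfl
        rw [hev] at huv
        exact zero_ne_one huv) hw with h | h | h | h
      · rw [h, S.zero_left]
      · rw [h, ha]
      · rw [h, hua]
      · rw [h, S.add_left, ha, hua, add_zero]
    exact h2.2
  have hve' : S.B v e = 0 := by rw [S.symm, hev]
  obtain ⟨u, hu, hu2⟩ := key e v he0 hv0 hve he hv hev hcon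
  obtain ⟨u', hu', hu2'⟩ := key v e hv0 he0 hve.symm hv he hve' (by
    rw [← S.s_symm he hv hev]
    exact hcon)
  obtain ⟨p, q, hQp, hQq, hpq, hep, heq, hvp, hvq⟩ := R.exists_opp he0 hv0 hve he hv hev
  have hpe : S.B p e = 0 := by rw [S.symm, hep]
  have hpv : S.B p v = 0 := by rw [S.symm, hvp]
  have hqe : S.B q e = 0 := by rw [S.symm, heq]
  set p' := p + S.B u p • v with hp'
  set q' := q + S.B u' q • e with hq'
  have h1 : S.B e p' = 0 := by rw [hp', S.add_right, S.smul_right, hep, hev, mul_zero, add_zero]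
  have h2 : S.B u p' = 0 := by
    rw [hp', S.add_right, S.smul_right, hu, mul_one, S.add_selfF]
  have h3 : S.B v q' = 0 := by rw [hq', S.add_right, S.smul_right, hvq, hve', mul_zero, add_zero]
  have h4 : S.B u' q' = 0 := by
    rw [hq', S.add_right, S.smul_right, hu', mul_one, S.add_selfF]
  have h5 : S.B e q' = 0 := by rw [hq', S.add_right, S.smul_right, heq, S.self, mul_zero, add_zero]
  have h6 : S.B p' v = 0 := by rw [hp', S.add_left, S.smul_left, hpv, S.self, mul_zero, add_zero]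
  have h7 : S.B p' q' = 1 := by
    rw [hp', S.add_left, S.smul_left, h3, mul_zero, add_zero, hq', S.add_right, S.smul_right, hpq,
      hpe, mul_zero, add_zero]
  have k1 := hu2 p' h1 h2
  have k2 := hu2' q' h3 h4
  have h8 := S.s_conj (S.s e p') hv h3
  rw [S.s_smul he h1, S.s_smul he h1 q', hev, h6, h5, h7] at h8
  simp only [mul_zero, zero_smul, add_zero, one_smul] at h8
  rw [← S.s_mul hv h3 hve'] at h8
  have h9 : S.s v e = (S.s v q')⁻¹ * (S.s e p' * S.s v q' * (S.s e p')⁻¹) := by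
    rw [h8]
    group
  apply hcon
  rw [S.s_symm he hv hev, h9, mul_smul, mul_smul, mul_smul, inv_smul_eq_iff.2 k1.symm, k2, k1,
    inv_smul_eq_iff.2 k2.symm]

/-- The case with full members: all pairs are free. -/
theorem Hyp.all_full (N : S.Hyp X b k) {e₀ f₀ p₀ q₀ r₀ t₀ : V} (R : S.Frame e₀ f₀ p₀ q₀ r₀ t₀)
    [MulAction.IsPretransitive G X] (hX : 1 < Nat.card X)
    {e₁ : V} {he₁ : S.Q e₁ = 0} {x₁ : X} (he₁0 : e₁ ≠ 0)
    (hβ : ∀ w, S.B e₁ w = 0 → w ∈ S.Ann he₁ x₁) (e : V) (he : S.Q e = 0) (he0 : e ≠ 0) (x : X) :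
    ∀ w, S.B e w = 0 → w ∈ S.Ann he x := by
  have hex : ∀ e (he : S.Q e = 0), e ≠ 0 → ∃ x : X, ∀ w, S.B e w = 0 → w ∈ S.Ann he x := by
    intro e he he0
    obtain ⟨g, hg⟩ := S.wit1 e₁ e he₁0 he0 (by rw [he₁, he])
    subst hg
    refine ⟨g • x₁, fun w hw => ?_⟩
    have h1 := S.smul_mem_Ann he₁ g he x₁ (g⁻¹ • w)
    rw [smul_inv_smul] at h1
    rw [h1]
    apply hβ
    rw [← S.inv g, smul_inv_smul, hw]
  -- trivial pairs
  have htriv : ∀ e (he : S.Q e = 0), e ≠ 0 → ∀ x : X, (¬ ∀ w, S.B e w = 0 → w ∈ S.Ann he x) →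
      ∀ a, S.B e a = 0 → S.s e a • x = x := by
    intro e he he0 x hx a ha
    obtain ⟨y, hy⟩ := hex e he he0
    have h1 : a ∈ S.Fx he x := by
      rw [S.mem_Fx_iff]
      intro w hw
      rcases N.trivial_of_full he0 he hy hx hw with h | h
      · rw [h, S.zero_left]
      · rw [h, ha]
    exact h1.2
  by_contra hcon
  have hstep : ∀ e v (he : S.Q e = 0) (hv : S.Q v = 0), e ≠ 0 → v ≠ 0 → v ≠ e → S.B e v = 0 →
      (¬ ∀ w, S.B e w = 0 → w ∈ S.Ann he x) → ¬ ∀ w, S.B v w = 0 → w ∈ S.Ann hv x := by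
    intro e v he hv he0 hv0 hve hev h hfull
    have h1 := htriv e he he0 x h v hev
    rw [S.s_symm he hv hev] at h1
    rcases free_of_full hv hfull e (by rw [S.symm, hev]) h1 with h2 | h2
    · exact he0 h2
    · exact hve h2.symm
  have hall : ∀ v (hv : S.Q v = 0), v ≠ 0 → ¬ ∀ w, S.B v w = 0 → w ∈ S.Ann hv x := by
    intro v hv hv0
    obtain ⟨u, hu0, hue, huv, hQu, heu, huv'⟩ := R.exists_common he0 hv0 he hv
    exact hstep u v hQu hv hu0 hv0 huv.symm huv' (hstep e u he hQu he0 hu0 hue heu hcon)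
  have h1 : MulAction.stabilizer G x = ⊤ := by
    apply R.stabilizer_eq_top
    intro e v he0 hv0 hve he hv hev
    exact htriv e he he0 x (hall e he he0) v hev
  have : Nontrivial X := Finite.one_lt_card_iff_nontrivial.1 hX
  obtain ⟨y, hy⟩ := exists_ne x
  obtain ⟨g, hg⟩ := MulAction.exists_smul_eq G x y
  have h2 : g ∈ MulAction.stabilizer G x := by rw [h1]; trivial
  exact hy (by rw [← hg]; exact h2)

end Main

end Op2

end Cfsg.Agent.H79.MinIdxOP2
end

-- part: H79/MinIdxOP2/Regular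
section
/-!
# The Siegel groups are not all regular
-/

set_option autoImplicit false
set_option linter.unusedSectionVars false

namespace Cfsg.Agent.H79.MinIdxOP2

open Cfsg.Agent.H79.OrbitDual

namespace Op2

variable {F V G : Type*} [Field F] [AddCommGroup V] [Module F V] [Group G]
    [DistribMulAction G V] (S : Op2 F V G) {X : Type*} [MulAction G X]

/-- All Siegel groups act regularly. -/
structure Reg (X : Type*) [MulAction G X] : Prop where
  free : ∀ e, S.Q e = 0 → e ≠ 0 → ∀ (x : X) a, S.B e a = 0 → S.s e a • x = x → a = 0 ∨ a = e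
  trans : ∀ e, S.Q e = 0 → e ≠ 0 → ∀ x y : X, ∃ a, S.B e a = 0 ∧ S.s e a • x = y

/-- A totally singular plane. -/
structure TS (e f : V) : Prop where
  he : S.Q e = 0
  hf : S.Q f = 0
  ef : S.B e f = 0
  e0 : e ≠ 0
  f0 : f ≠ 0
  fe : f ≠ e

/-- The relation. -/
structure K (e f : V) (x : X) (w v : V) : Prop where
  we : S.B e w = 0
  wf : S.B f w = 0
  ve : S.B e v = 0
  vf : S.B f v = 0
  fix : (S.s e v * S.s f w) • x = x

variable {S} {e f : V} {x : X}

theorem TS.fe' (T : S.TS e f) : S.B f e = 0 := by rw [S.symm, T.ef]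

theorem TS.s_e (T : S.TS e f) {w : V} (hew : S.B e w = 0) (hfw : S.B f w = 0) :
    S.s f w • e = e := by
  rw [S.s_smul T.hf hfw, T.fe', S.symm w e, hew, mul_zero, zero_smul, zero_smul,
    add_zero, add_zero, add_zero]

/-- Moving an element of the Siegel group of `f` across one of `e`. -/
theorem TS.move (T : S.TS e f) {w v : V} (hew : S.B e w = 0) (hfw : S.B f w = 0)
    (hev : S.B e v = 0) : S.s f w * S.s e v = S.s e (S.s f w • v) * S.s f w := by
  have h1 := S.s_conj (S.s f w) T.he hev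
  rw [T.s_e hew hfw] at h1
  rw [← h1]
  group

theorem TS.e_smul (T : S.TS e f) {w v : V} (hew : S.B e w = 0) (hfw : S.B f w = 0)
    (hev : S.B e v = 0) : S.B e (S.s f w • v) = 0 := by
  have h1 := S.inv (S.s f w) e v
  rw [T.s_e hew hfw] at h1
  rw [h1, hev]

theorem Reg.uniq (R : S.Reg X) (T : S.TS e f) {w v v' : V} (hv : S.B e v = 0)
    (hv' : S.B e v' = 0) (h : (S.s e v * S.s f w) • x = x) (h' : (S.s e v' * S.s f w) • x = x) :
    v' + v = 0 ∨ v' + v = e := by
  apply R.free e T.he T.e0 x _ (by rw [S.add_right, hv, hv', add_zero])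
  have h1 : S.s e (v' + v) = (S.s e v' * S.s f w) * (S.s e v * S.s f w)⁻¹ := by
    rw [← S.s_mul T.he hv' hv, _root_.mul_inv_rev, S.s_inv T.he hv]
    group
  rw [h1, mul_smul, inv_smul_eq_iff.2 h.symm, h']

/-- Existence. -/
theorem Reg.exists_K (R : S.Reg X) (T : S.TS e f) {w y : V} (hew : S.B e w = 0)
    (hfw : S.B f w = 0) (hey : S.B e y = 0) (hfy : S.B f y = 0) (hwy : S.B w y = 1) (x : X) :
    ∃ v, S.K e f x w v ∧ S.B w v = 0 := by
  obtain ⟨a, ha, hax⟩ := R.trans e T.he T.e0 (S.s f w • x) x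
  have h1 : (S.s e a * S.s f w) • x = x := by rw [mul_smul, hax]
  have h2 : (S.s e a * S.s f w) * (S.s e a * S.s f w) = S.s e (a + S.s f w • a) := by
    rw [← S.s_mul T.he ha (T.e_smul hew hfw ha), mul_assoc, ← mul_assoc (S.s f w), T.move hew hfw ha,
      mul_assoc, S.s_sq T.hf hfw, mul_one]
  have h3 := R.free e T.he T.e0 x _ (by rw [S.add_right, ha, T.e_smul hew hfw ha, add_zero])
    (show S.s e (a + S.s f w • a) • x = x by rw [← h2, mul_smul, h1, h1])
  rw [S.s_smul T.hf hfw, ← add_assoc, ← add_assoc, ← add_assoc, S.add_self, zero_add] at h3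
  have h4 : S.B f a = 0 := by
    rcases S.two (S.B f a) with h | h
    · exact h
    · exfalso
      rw [h, one_smul, mul_one] at h3
      have h5 : S.B (w + S.B w a • f + S.Q w • f) y = 1 := by
        rw [S.add_left, S.add_left, S.smul_left, S.smul_left, hfy, hwy, mul_zero, mul_zero,
          add_zero, add_zero]
      rcases h3 with h3 | h3
      · rw [h3, S.zero_left] at h5
        exact zero_ne_one h5
      · rw [h3, hey] at h5
        exact zero_ne_one h5
  rw [h4, mul_zero, zero_smul, zero_smul, zero_add, add_zero] at h3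
  refine ⟨a, ⟨hew, hfw, ha, h4, h1⟩, ?_⟩
  rcases S.two (S.B w a) with h | h
  · exact h
  · exfalso
    rw [h, one_smul] at h3
    rcases h3 with h3 | h3
    · exact T.f0 h3
    · exact T.fe h3

/-- Products. -/
theorem TS.K_add (T : S.TS e f) {w v z v' : V} (h : S.K e f x w v) (h' : S.K e f x z v') :
    S.K e f x (w + z) (v + v' + S.B w v' • f) := by
  have h1 : S.s f w • v' = v' + S.B w v' • f := by
    rw [S.s_smul T.hf h.wf, h'.vf, mul_zero, zero_smul, zero_smul, add_zero, add_zero]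
  have h2 : S.B e (v' + S.B w v' • f) = 0 := by
    rw [S.add_right, S.smul_right, h'.ve, T.ef, mul_zero, add_zero]
  refine ⟨by rw [S.add_right, h.we, h'.we, add_zero], by rw [S.add_right, h.wf, h'.wf, add_zero],
    ?_, ?_, ?_⟩
  · rw [S.add_right, S.add_right, S.smul_right, h.ve, h'.ve, T.ef, mul_zero, add_zero, add_zero]
  · rw [S.add_right, S.add_right, S.smul_right, h.vf, h'.vf, S.self, mul_zero, add_zero, add_zero]
  · have h3 : S.s e (v + v' + S.B w v' • f) * S.s f (w + z) =
        (S.s e v * S.s f w) * (S.s e v' * S.s f z) := by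
      rw [add_assoc, ← S.s_mul T.he h.ve h2, ← S.s_mul T.hf h.wf h'.wf, ← h1, mul_assoc, mul_assoc,
        ← mul_assoc (S.s f w) (S.s e v'), T.move h.we h.wf h'.ve, mul_assoc]
    rw [h3, mul_smul, h'.fix, h.fix]

/-- Symmetry. -/
theorem Reg.K_symm (R : S.Reg X) (T : S.TS e f) {w v z v' : V} (h : S.K e f x w v)
    (h' : S.K e f x z v') : S.B w v' = S.B z v := by
  have h1 := T.K_add h h'
  have h2 := T.K_add h' h
  rw [add_comm z w] at h2
  have h3 := R.uniq T h1.ve h2.ve h1.fix h2.fix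
  have h4 : v' + v + S.B z v • f + (v + v' + S.B w v' • f) = (S.B z v + S.B w v') • f := by
    rw [add_smul]
    have h5 := S.add_self (v + v')
    calc v' + v + S.B z v • f + (v + v' + S.B w v' • f)
        = (v + v' + (v + v')) + (S.B z v • f + S.B w v' • f) := by abel
      _ = _ := by rw [h5, zero_add]
  rw [h4] at h3
  rcases S.two (S.B z v + S.B w v') with h5 | h5
  · exact (S.add_eq_zeroF.1 h5).symm
  · rw [h5, one_smul] at h3
    rcases h3 with h3 | h3
    · exact absurd h3 T.f0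
    · exact absurd h3 T.fe

/-- Conjugation. -/
theorem TS.K_conj (T : S.TS e f) {g : G} (hge : g • e = e) (hgf : g • f = f) {u : V}
    (hu : S.B e u = 0) (hux : (S.s e u * g) • x = x) {w v : V} (h : S.K e f x w v) :
    ∃ c : F, S.B e (g • v + S.B f u • (g • w) + c • f) = 0 ∧
      (S.s e (g • v + S.B f u • (g • w) + c • f) * S.s f (g • w)) • x = x := by
  have h1 : S.B e (g • w) = 0 := by
    have := S.inv g e w
    rw [hge] at this
    rw [this, h.we]
  have h2 : S.B f (g • w) = 0 := by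
    have := S.inv g f w
    rw [hgf] at this
    rw [this, h.wf]
  have h3 : S.B e (g • v) = 0 := by
    have := S.inv g e v
    rw [hge] at this
    rw [this, h.ve]
  have h4 : S.B e (u + g • v) = 0 := by rw [S.add_right, hu, h3, add_zero]
  refine ⟨S.B (g • w) u + S.Q (g • w) * S.B f u, ?_, ?_⟩
  · rw [S.add_right, S.add_right, S.smul_right, S.smul_right, h3, h1, T.ef, mul_zero, mul_zero,
      add_zero, add_zero]
  · have h5 : g • v + S.B f u • (g • w) + (S.B (g • w) u + S.Q (g • w) * S.B f u) • f =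
        (u + g • v) + S.s f (g • w) • u := by
      rw [S.s_smul T.hf h2, add_smul]
      have h6 := S.add_self u
      calc g • v + S.B f u • (g • w) + (S.B (g • w) u • f + (S.Q (g • w) * S.B f u) • f)
          = (u + u) + (g • v + S.B f u • (g • w) + (S.B (g • w) u • f +
            (S.Q (g • w) * S.B f u) • f)) := by rw [h6, zero_add]
        _ = _ := by abel
    have h6 : S.s e ((u + g • v) + S.s f (g • w) • u) * S.s f (g • w) =
        (S.s e u * g) * (S.s e v * S.s f w) * (S.s e u * g)⁻¹ := by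
      rw [← S.s_mul T.he h4 (T.e_smul h1 h2 hu), mul_assoc (S.s e (u + g • v)), ← T.move h1 h2 hu,
        ← S.s_mul T.he hu h3, _root_.mul_inv_rev, S.s_inv T.he hu]
      have h7 := S.s_conj g T.he h.ve
      have h8 := S.s_conj g T.hf h.wf
      rw [hge] at h7
      rw [hgf] at h8
      rw [← h7, ← h8]
      group
    rw [h5, h6, mul_smul, mul_smul, inv_smul_eq_iff.2 hux.symm, h.fix, hux]

/-- The key formula. -/
theorem Reg.formula (R : S.Reg X) (T : S.TS e f) {p q r vp vq vr : V} (hp : S.Q p = 0)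
    (hr : S.Q r = 0) (hpq : S.B p q = 1) (hpr : S.B p r = 0) (hqr : S.B q r = 0)
    (h1 : S.K e f x p vp) (h1' : S.B p vp = 0) (h2 : S.K e f x q vq) (h3 : S.K e f x r vr) :
    ∃ c d : F, vr = S.B p vq • r + S.B r vq • p + S.B r vp • (q + r) + c • f + d • e := by
  have hpe : S.B p e = 0 := by rw [S.symm, h1.we]
  have hpf : S.B p f = 0 := by rw [S.symm, h1.wf]
  have hre : S.B r e = 0 := by rw [S.symm, h3.we]
  have hrf : S.B r f = 0 := by rw [S.symm, h3.wf]
  have hge : S.s p r • e = e := by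
    rw [S.s_smul hp hpr, hpe, hre, mul_zero, zero_smul, zero_smul, add_zero, add_zero,
      add_zero]
  have hgf : S.s p r • f = f := by
    rw [S.s_smul hp hpr, hpf, hrf, mul_zero, zero_smul, zero_smul, add_zero, add_zero,
      add_zero]
  have hgp : S.s p r • p = p := by
    rw [S.s_smul hp hpr, S.self, S.symm r p, hpr, mul_zero, zero_smul, zero_smul,
      add_zero, add_zero, add_zero]
  have hgq : S.s p r • q = q + r := by
    rw [S.s_smul hp hpr, hpq, S.symm r q, hqr, hr, zero_mul, zero_smul, one_smul,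
      add_zero, add_zero]
  have hg : ∀ v, S.s p r • v = v + S.B p v • r + S.B r v • p := by
    intro v
    rw [S.s_smul hp hpr, hr, zero_mul, zero_smul, add_zero]
  obtain ⟨u, hu, hux⟩ := R.trans e T.he T.e0 (S.s p r • x) x
  have hux' : (S.s e u * S.s p r) • x = x := by rw [mul_smul, hux]
  -- the value of `B f u`
  obtain ⟨c, hc1, hc2⟩ := T.K_conj hge hgf hu hux' h1
  rw [hgp] at hc1 hc2
  have h4 := R.uniq T h1.ve hc1 h1.fix hc2
  have h5 : S.B r vp + S.B f u = 0 := by
    have h6 : S.B (S.s p r • vp + S.B f u • p + c • f + vp) q = S.B r vp + S.B f u := by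
      rw [hg, h1', zero_smul, add_zero]
      simp only [S.add_left, S.smul_left, hpq, h2.wf, mul_zero, mul_one, add_zero]
      have := S.add_selfF (S.B vp q)
      linear_combination this
    rw [← h6]
    rcases h4 with h4 | h4
    · rw [h4, S.zero_left]
    · rw [h4, h2.we]
  have h5' : S.B f u = S.B r vp := (S.add_eq_zeroF.1 h5).symm
  -- the image of `q`
  obtain ⟨c', hc1', hc2'⟩ := T.K_conj hge hgf hu hux' h2
  rw [hgq] at hc1' hc2'
  have h6 := T.K_add h2 h3
  have h7 := R.uniq T h6.ve hc1' h6.fix hc2'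
  rw [hg, h5'] at h7
  have h8 : vq + S.B p vq • r + S.B r vq • p + S.B r vp • (q + r) + c' • f +
      (vq + vr + S.B q vr • f) = vr + (S.B p vq • r + S.B r vq • p + S.B r vp • (q + r) +
        (c' + S.B q vr) • f) := by
    rw [add_smul c']
    have := S.add_self vq
    calc vq + S.B p vq • r + S.B r vq • p + S.B r vp • (q + r) + c' • f +
      (vq + vr + S.B q vr • f) = (vq + vq) + (vr + (S.B p vq • r + S.B r vq • p +
        S.B r vp • (q + r) + (c' • f + S.B q vr • f))) := by abel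
      _ = _ := by rw [this, zero_add]
  rw [h8] at h7
  rcases h7 with h7 | h7
  · refine ⟨c' + S.B q vr, 0, ?_⟩
    rw [zero_smul, add_zero]
    exact S.add_eq_zero.1 h7
  · refine ⟨c' + S.B q vr, 1, ?_⟩
    rw [one_smul]
    exact S.add_eq_iff.1 h7

/-- The contradiction. -/
theorem Reg.false (R : S.Reg X) {p q r t : V} (A : S.Frame e f p q r t) (x : X) : False := by
  have T : S.TS e f := ⟨A.Qe, A.Qf, A.ef, A.e0, A.f0, A.fe⟩
  have hqp : S.B q p = 1 := by rw [S.symm, A.pq]
  have htr : S.B t r = 1 := by rw [S.symm, A.rt]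
  have hrp : S.B r p = 0 := by rw [S.symm, A.pr]
  have htp : S.B t p = 0 := by rw [S.symm, A.pt]
  have hrq : S.B r q = 0 := by rw [S.symm, A.qr]
  have htq : S.B t q = 0 := by rw [S.symm, A.qt]
  obtain ⟨vp, hp, hp'⟩ := R.exists_K T A.ep A.fp A.eq A.fq A.pq x
  obtain ⟨vq, hq, hq'⟩ := R.exists_K T A.eq A.fq A.ep A.fp hqp x
  obtain ⟨vr, hr, hr'⟩ := R.exists_K T A.er A.fr A.et A.ft A.rt x
  obtain ⟨vt, ht, ht'⟩ := R.exists_K T A.et A.ft A.er A.fr htr x
  -- `r`
  obtain ⟨c1, d1, h1⟩ := R.formula T A.Qp A.Qr A.pq A.pr A.qr hp hp' hq hr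
  obtain ⟨c2, d2, h2⟩ := R.formula T A.Qq A.Qr hqp A.qr A.pr hq hq' hp hr
  obtain ⟨c3, d3, h3⟩ := R.formula T A.Qp A.Qt A.pq A.pt A.qt hp hp' hq ht
  obtain ⟨c5, d5, h5⟩ := R.formula T A.Qr A.Qp A.rt hrp htp hr hr' ht hp
  obtain ⟨c6, d6, h6⟩ := R.formula T A.Qt A.Qp htr htp hrp ht ht' hr hp
  obtain ⟨c4, d4, h4⟩ := R.formula T A.Qq A.Qt hqp A.qt A.pt hq hq' hp ht
  have s1 := R.K_symm T hp hq
  have s2 := R.K_symm T hr ht
  have s3 := R.K_symm T hp hr
  have s4 := R.K_symm T hp ht
  have hte : S.B t e = 0 := by rw [S.symm, A.et]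
  have htf : S.B t f = 0 := by rw [S.symm, A.ft]
  have hre : S.B r e = 0 := by rw [S.symm, A.er]
  have hrf : S.B r f = 0 := by rw [S.symm, A.fr]
  have hqe : S.B q e = 0 := by rw [S.symm, A.eq]
  have hqf : S.B q f = 0 := by rw [S.symm, A.fq]
  have e1 : S.B t vr = S.B p vq + S.B r vp := by
    rw [h1]
    simp only [S.add_right, S.smul_right, htr, htp, htq, htf, hte, mul_zero, mul_one, add_zero,
      zero_add]
  have e2 : S.B t vr = S.B q vp + S.B r vq := by
    rw [h2]
    simp only [S.add_right, S.smul_right, htr, htp, htq, htf, hte, mul_zero, mul_one, add_zero,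
      zero_add]
  have e3 : S.B r vt = S.B p vq + S.B t vp := by
    rw [h3]
    simp only [S.add_right, S.smul_right, A.rt, hrp, hrq, hrf, hre, mul_zero, mul_one, add_zero,
      zero_add]
  have e4 : S.B r vt = S.B q vp + S.B t vq := by
    rw [h4]
    simp only [S.add_right, S.smul_right, A.rt, hrp, hrq, hrf, hre, mul_zero, mul_one, add_zero,
      zero_add]
  have e5 : S.B q vp = S.B r vt + S.B p vr := by
    rw [h5]
    simp only [S.add_right, S.smul_right, hqp, A.qr, A.qt, hqf, hqe, mul_zero, mul_one, add_zero,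
      zero_add]
  have e6 : S.B q vp = S.B t vr + S.B p vt := by
    rw [h6]
    simp only [S.add_right, S.smul_right, hqp, A.qr, A.qt, hqf, hqe, mul_zero, mul_one, add_zero,
      zero_add]
  -- all coefficients agree
  have f1 : S.B r vq = S.B r vp := by
    have : S.B p vq + S.B r vp = S.B p vq + S.B r vq := by rw [← e1, e2, s1]
    exact (add_left_cancel this).symm
  have f2 : S.B t vq = S.B t vp := by
    have : S.B p vq + S.B t vp = S.B p vq + S.B t vq := by rw [← e3, e4, s1]
    exact (add_left_cancel this).symm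
  have f3 : S.B t vp = S.B r vp := by
    have h7 : S.B t vr + S.B p vr = S.B t vr + S.B p vt := by
      rw [← e6, e5, s2]
    have h8 := add_left_cancel h7
    rw [← s4, ← s3, h8]
  set β := S.B r vp with hβ
  set γ := S.B p vq with hγ
  rw [f1] at h1
  rw [f2, f3] at h3
  -- the product
  have k := T.K_add hr ht
  have k1 : vr + vt = (γ + β) • (r + t) + (c1 + c3) • f + (d1 + d3) • e := by
    rw [h1, h3]
    have a1 := S.add_self (β • p)
    have a2 := S.add_self (β • q)
    calc γ • r + β • p + β • (q + r) + c1 • f + d1 • e +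
          (γ • t + β • p + β • (q + t) + c3 • f + d3 • e)
        = (γ + β) • (r + t) + (c1 + c3) • f + (d1 + d3) • e + (β • p + β • p) +
          (β • q + β • q) := by module
      _ = _ := by rw [a1, a2, add_zero, add_zero]
  have hw0 : S.B e (r + t) = 0 := k.we
  have hw1 : S.B f (r + t) = 0 := k.wf
  have hQw : S.Q (r + t) = 1 := by rw [S.Q_add, A.Qr, A.Qt, A.rt, zero_add, zero_add]
  -- the element
  obtain ⟨c, hc⟩ : ∃ c : F, (S.s e ((γ + β) • (r + t) + c • f) * S.s f (r + t)) • x = x := by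
    refine ⟨c1 + c3 + S.B r vt, ?_⟩
    have h7 : vr + vt + S.B r vt • f =
        ((γ + β) • (r + t) + (c1 + c3 + S.B r vt) • f) + (d1 + d3) • e := by
      rw [k1]
      module
    have h8 : S.B e ((γ + β) • (r + t) + (c1 + c3 + S.B r vt) • f) = 0 := by
      rw [S.add_right, S.smul_right, S.smul_right, hw0, T.ef, mul_zero, mul_zero, add_zero]
    have h9 : S.s e (vr + vt + S.B r vt • f) =
        S.s e ((γ + β) • (r + t) + (c1 + c3 + S.B r vt) • f) := by
      rw [h7]
      rcases S.two (d1 + d3) with h | h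
      · rw [h, zero_smul, add_zero]
      · rw [h, one_smul, S.s_add_self T.he h8]
    rw [← h9]
    exact k.fix
  rcases S.two (γ + β) with hd | hd
  · -- in the Siegel group of `f`
    rw [hd, zero_smul, zero_add] at hc
    have h7 : S.s e (c • f) * S.s f (r + t) = S.s f (c • e + (r + t)) := by
      have h8 : S.B f (c • e) = 0 := by rw [S.smul_right, T.fe', mul_zero]
      rw [← S.s_mul T.hf h8 hw1]
      congr 1
      rcases S.two c with h | h
      · rw [h, zero_smul, zero_smul, S.s_zero T.he, S.s_zero T.hf]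
      · rw [h, one_smul, one_smul, S.s_symm T.he T.hf T.ef]
    rw [h7] at hc
    have h8 := R.free f T.hf T.f0 x _ (by
      rw [S.add_right, S.smul_right, T.fe', hw1, mul_zero, add_zero]) hc
    have h9 : S.B t (c • e + (r + t)) = 1 := by
      rw [S.add_right, S.smul_right, S.add_right, hte, htr, S.self, mul_zero, zero_add, add_zero]
    rcases h8 with h8 | h8
    · rw [h8, S.zero_right] at h9
      exact zero_ne_one h9
    · rw [h8, htf] at h9
      exact zero_ne_one h9
  · -- in the Siegel group of `e + f`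
    rw [hd, one_smul] at hc
    have hef0 : e + f ≠ 0 := fun h => T.fe (S.add_eq_zero.1 h).symm
    have hQef : S.Q (e + f) = 0 := by rw [S.Q_add, T.he, T.hf, T.ef, add_zero, add_zero]
    have hB : S.B (e + f) (r + t + (c + 1) • f) = 0 := by
      rw [S.add_left, S.add_right, S.add_right _ _ (_ • f), S.smul_right, S.smul_right, hw0, hw1,
        T.ef, S.self, mul_zero, add_zero, add_zero]
    have hB' : S.B e (r + t + c • f) = 0 := by
      rw [S.add_right, S.smul_right, hw0, T.ef, mul_zero, add_zero]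
    have hQw' : ∀ a : F, S.Q (r + t + a • f) = 1 := by
      intro a
      rw [S.Q_add, S.Q_smul, S.smul_right, hQw, T.hf, S.symm (r + t) f, hw1, mul_zero, add_zero,
        add_zero]
    have h7 : S.s e (r + t + c • f) * S.s f (r + t) = S.s (e + f) (r + t + (c + 1) • f) := by
      apply S.ext
      intro y
      have hwe : S.B (r + t) e = 0 := by rw [S.symm, hw0]
      have hwf : S.B (r + t) f = 0 := by rw [S.symm, hw1]
      have hww : S.B (r + t) (r + t) = 0 := S.self _
      rw [mul_smul, S.s_smul T.hf hw1, S.s_smul T.he hB', S.s_smul hQef hB, hQw', hQw', hQw]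
      generalize hw : r + t = w at *
      simp only [S.add_right, S.add_left, S.smul_right, S.smul_left, S.self, T.ef, T.fe', hw0, hw1,
        hwe, hwf, mul_zero, add_zero, one_mul]
      have a1 := S.add_self ((S.B e y + c * S.B f y + S.B f y) • f)
      have a2 := S.add_self (S.B f y • e)
      symm
      refine Eq.trans (b := (y + S.B f y • w + S.B w y • f + S.B f y • f + S.B e y • (w + c • f) +
        (S.B w y + c * S.B f y) • e + S.B e y • e) +
        ((S.B e y + c * S.B f y + S.B f y) • f + (S.B e y + c * S.B f y + S.B f y) • f) +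
        (S.B f y • e + S.B f y • e)) ?_ ?_
      · module
      · rw [a1, a2, add_zero, add_zero]
    rw [h7] at hc
    have h8 := R.free (e + f) hQef hef0 x _ hB hc
    have h9 : S.B t (r + t + (c + 1) • f) = 1 := by
      rw [S.add_right, S.smul_right, S.add_right, htf, htr, S.self, mul_zero, add_zero, add_zero]
    rcases h8 with h8 | h8
    · rw [h8, S.zero_right] at h9
      exact zero_ne_one h9
    · rw [h8, S.add_right, hte, htf, add_zero] at h9
      exact zero_ne_one h9

end Op2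

end Cfsg.Agent.H79.MinIdxOP2
end

-- part: H79/MinIdxOP2/Concrete
section
/-!
# The group `E Q` of the plus type form over the field with two elements
-/

set_option autoImplicit false
set_option linter.unusedSectionVars false

namespace Cfsg.Agent.H79.MinIdxOP2

open QuadraticMap Cfsg.Agent.LieClassical.OrthCore Cfsg.Agent.LieClassical.OrthTrans
open Cfsg.Agent.LieClassical.OrthFinite Cfsg.Agent.LieClassical.OrthForms
open Cfsg.Agent.H75.OrthIdx

namespace Op2

variable {F V G : Type*} [Field F] [AddCommGroup V] [Module F V] [Group G]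
    [DistribMulAction G V] (S : Op2 F V G) {X : Type*} [MulAction G X]

/-- The minimal degree. -/
theorem le_card [Fintype V] [Finite X] [MulAction.IsPretransitive G X] {b k : ℕ} (hb : b = 2 ^ k)
    (hk : 2 ≤ k) (hV : Fintype.card V = 16 * b ^ 2)
    (hQ : cnt (fun v => S.Q v = 0) = 8 * b ^ 2 + 2 * b) {e f p q r t : V}
    (R : S.Frame e f p q r t) (hX : 1 < Nat.card X) : 8 * b ^ 2 ≤ Nat.card X + 2 * b := by
  by_contra hcon
  push Not at hcon
  have N : S.Hyp X b k := ⟨hb, hk, hV, hQ, by omega⟩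
  have hne : Nonempty X := (Nat.card_pos_iff.1 (by omega)).1
  by_cases hβ : ∃ (e₁ : V) (he₁ : S.Q e₁ = 0) (x₁ : X), e₁ ≠ 0 ∧
      ∀ w, S.B e₁ w = 0 → w ∈ S.Ann he₁ x₁
  · obtain ⟨e₁, he₁, x₁, he₁0, hβ⟩ := hβ
    have hfull := N.all_full R hX he₁0 hβ
    have hR : S.Reg X := {
      free := fun e he he0 x => free_of_full he (hfull e he he0 x)
      trans := fun e he he0 x y => N.rel_of_full he0 he (hfull e he he0 x) (hfull e he he0 y) }
    obtain ⟨x⟩ := hne
    exact hR.false R x
  · have hα : ∀ e (he : S.Q e = 0) (x : X), e ≠ 0 →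
        ¬ ∀ w, S.B e w = 0 → w ∈ S.Ann he x := by
      intro e he x he0 h
      exact hβ ⟨e, he, x, he0, h⟩
    obtain ⟨x⟩ := hne
    have h1 : MulAction.stabilizer G x = ⊤ := by
      apply R.stabilizer_eq_top
      intro e v he0 hv0 hve he hv hev
      exact N.root_fix R hα he0 hv0 hve he hv hev x
    have : Nontrivial X := Finite.one_lt_card_iff_nontrivial.1 hX
    obtain ⟨y, hy⟩ := exists_ne x
    obtain ⟨g, hg⟩ := MulAction.exists_smul_eq G x y
    have h2 : g ∈ MulAction.stabilizer G x := by rw [h1]; trivial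
    exact hy (by rw [← hg]; exact h2)

/-- The stabilizer of a nonsingular vector. -/
theorem index_ns [Fintype V] {n : V} (hn : S.Q n = 1) :
    (MulAction.stabilizer G n).index = cnt (fun v => S.Q v = 1) := by
  classical
  rw [MulAction.index_stabilizer, cnt_eq, ← Set.ncard_coe_finset]
  congr 1
  ext v
  simp only [Finset.coe_filter, Finset.mem_univ, true_and, Set.mem_ofPred_eq]
  have key : ∀ u : V, S.Q u = 1 → u ≠ 0 := by
    rintro u hu rfl
    rw [S.Q_zero] at hu
    exact zero_ne_one hu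
  constructor
  · rintro ⟨g, rfl⟩
    change S.Q (g • n) = 1
    rw [S.invQ, hn]
  · intro hv
    obtain ⟨g, hg⟩ := S.wit1 n v (key n hn) (key v hv) (by rw [hn, hv])
    exact ⟨g, hg⟩

end Op2

section Data

variable {F V : Type*} [Field F] [Finite F] [AddCommGroup V] [Module F V] [FiniteDimensional F V]
  {Q : QuadraticForm F V}

theorem li_one {e : V} (he : e ≠ 0) : LinearIndependent F ![e] := by
  rw [linearIndependent_unique_iff]
  exact he

theorem li_two (hF : ∀ a : F, a = 0 ∨ a = 1) {e a : V} (he : e ≠ 0) (ha : a ≠ 0) (hae : a ≠ e) :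
    LinearIndependent F ![e, a] := by
  rw [LinearIndependent.pair_iff]
  intro s t h
  rcases hF s with rfl | rfl <;> rcases hF t with rfl | rfl
  · exact ⟨rfl, rfl⟩
  · rw [zero_smul, one_smul, zero_add] at h
    exact absurd h ha
  · rw [zero_smul, one_smul, add_zero] at h
    exact absurd h he
  · exfalso
    rw [one_smul, one_smul] at h
    have h1 : (1 : F) + 1 = 0 := by
      rcases hF (1 + 1) with h | h
      · exact h
      · exact absurd (add_eq_left.1 h) one_ne_zero
    have h2 : e + e = 0 := by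
      have : ((1 : F) + 1) • e = 0 := by rw [h1, zero_smul]
      rwa [add_smul, one_smul] at this
    exact hae (add_left_cancel (h.trans h2.symm))

theorem li_three (hF : ∀ a : F, a = 0 ∨ a = 1) {e a b : V} (he : e ≠ 0) (ha : a ≠ 0)
    (hae : a ≠ e) (hb : b ≠ 0) (hbe : b ≠ e) (hba : b ≠ a) (hbea : b ≠ e + a) :
    LinearIndependent F ![b, e, a] := by
  refine linearIndependent_finCons.2 ⟨li_two hF he ha hae, ?_⟩
  rw [Matrix.range_cons, Matrix.range_cons, Matrix.range_empty, Set.union_empty,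
    Set.singleton_union, Submodule.mem_span_pair]
  rintro ⟨s, t, h⟩
  rcases hF s with rfl | rfl <;> rcases hF t with rfl | rfl
  · rw [zero_smul, zero_smul, add_zero] at h
    exact hb h.symm
  · rw [zero_smul, one_smul, zero_add] at h
    exact hba h.symm
  · rw [zero_smul, one_smul, add_zero] at h
    exact hbe h.symm
  · rw [one_smul, one_smul] at h
    exact hbea h.symm

theorem exists_map (hG : Good Q) (hd : 8 ≤ Module.finrank F V) {k : ℕ} (hk : k ≤ 3)
    (x y : Fin k → V) (hxi : LinearIndependent F x)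
    (hyi : LinearIndependent F y) (hQxy : ∀ i, Q (x i) = Q (y i))
    (hB : ∀ i j, polar Q (x i) (x j) = polar Q (y i) (y j)) :
    ∃ g : E Q, ∀ i, g • x i = y i := by
  obtain ⟨g, hg, h⟩ := exists_E_map hG x y hxi hyi hQxy hB (by
    intro c _
    have h1 : Module.finrank F (Submodule.span F (Set.range x)) ≤ 3 := by
      have := finrank_range_le_card (R := F) x
      rw [Set.finrank, Fintype.card_fin] at this
      omega
    obtain ⟨z, hz, hzc⟩ := exists_norm_perp hG.nondeg (Submodule.span F (Set.range x))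
      (Or.inl (by omega)) c
    exact ⟨z, hzc, fun i => hz _ (Submodule.subset_span ⟨i, rfl⟩)⟩)
  exact ⟨⟨g, hg⟩, h⟩

/-- The data. -/
noncomputable def opData (hF : ∀ a : F, a = 0 ∨ a = 1) (hG : Good Q)
    (hd : 8 ≤ Module.finrank F V) : Op2 F V (E Q) where
  two := hF
  Q := Q
  B := polar Q
  Q_add u v := by rw [polar]; ring
  add_left u v w := polar_add_left Q u v w
  symm u v := polar_comm _ _ _
  self v := by
    have h1 : (1 : F) + 1 = 0 := by
      rcases hF (1 + 1) with h | h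
      · exact h
      · exact absurd (add_eq_left.1 h) one_ne_zero
    rw [polar_self, two_nsmul]
    rcases hF (Q v) with h | h
    · rw [h, add_zero]
    · rw [h, h1]
  nd v h := hG.nondeg v h
  invQ g v := mem_O.1 (E_le_O g.2) v
  s e w := ⟨sg Q e w, sg_mem_E e w⟩
  s_smul {e w} he hw x := by
    have h1 : (1 : F) + 1 = 0 := by
      rcases hF (1 + 1) with h | h
      · exact h
      · exact absurd (add_eq_left.1 h) one_ne_zero
    have h2 : ∀ v : V, -v = v := by
      intro v
      rw [neg_eq_iff_add_eq_zero]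
      have : ((1 : F) + 1) • v = 0 := by rw [h1, zero_smul]
      rwa [add_smul, one_smul] at this
    change sg Q e w x = _
    rw [sg_apply he hw, sub_eq_add_neg, sub_eq_add_neg, h2, h2]
  ext g h H := Subtype.ext (LinearEquiv.ext H)
  gen H h := by
    have h1 : E Q ≤ H.map (E Q).subtype := by
      conv_lhs => rw [E]
      rw [Subgroup.closure_le]
      rintro _ ⟨g, v, hg, hv, rfl⟩
      rw [← sg_eq hg hv]
      exact ⟨⟨sg Q g v, sg_mem_E g v⟩, h g v hg hv, rfl⟩
    rw [eq_top_iff]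
    intro x _
    obtain ⟨y, hy, hyx⟩ := h1 x.2
    have : y = x := Subtype.ext hyx
    rw [← this]
    exact hy
  wit1 e e' he he' hQ := by
    obtain ⟨g, hg⟩ := exists_map hG hd (k := 1) (by omega) ![e] ![e'] (li_one he) (li_one he')
      (by intro i; fin_cases i; exact hQ) (by
        intro i j
        fin_cases i; fin_cases j
        change polar Q e e = polar Q e' e'
        rw [polar_self, polar_self, hQ])
    exact ⟨g, hg 0⟩
  wit2 e a e' a' he ha hae he' ha' hae' hQ1 hQ2 hB := by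
    obtain ⟨g, hg⟩ := exists_map hG hd (k := 2) (by omega) ![e, a] ![e', a']
      (li_two hF he ha hae) (li_two hF he' ha' hae')
      (by
        intro i
        fin_cases i
        · exact hQ1
        · exact hQ2) (by
        intro i j
        fin_cases i <;> fin_cases j
        · change polar Q e e = polar Q e' e'
          rw [polar_self, polar_self, hQ1]
        · exact hB
        · change polar Q a e = polar Q a' e'
          rw [polar_comm Q a, polar_comm Q a', hB]
        · change polar Q a a = polar Q a' a'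
          rw [polar_self, polar_self, hQ2])
    exact ⟨g, hg 0, hg 1⟩
  wit3 e a b e' a' b' he ha hae hb hbe hba hbea he' ha' hae' hb' hbe' hba' hbea' hQ1 hQ2 hQ3
      hB1 hB2 hB3 := by
    obtain ⟨g, hg⟩ := exists_map hG hd (k := 3) (by omega) ![b, e, a] ![b', e', a']
      (li_three hF he ha hae hb hbe hba hbea) (li_three hF he' ha' hae' hb' hbe' hba' hbea')
      (by
        intro i
        fin_cases i
        · exact hQ3
        · exact hQ1
        · exact hQ2) (by
        intro i j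
        fin_cases i <;> fin_cases j
        · change polar Q b b = polar Q b' b'
          rw [polar_self, polar_self, hQ3]
        · change polar Q b e = polar Q b' e'
          rw [polar_comm Q b, polar_comm Q b', hB2]
        · change polar Q b a = polar Q b' a'
          rw [polar_comm Q b, polar_comm Q b', hB3]
        · exact hB2
        · change polar Q e e = polar Q e' e'
          rw [polar_self, polar_self, hQ1]
        · exact hB1
        · exact hB3
        · change polar Q a e = polar Q a' e'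
          rw [polar_comm Q a, polar_comm Q a', hB1]
        · change polar Q a a = polar Q a' a'
          rw [polar_self, polar_self, hQ2])
    exact ⟨g, hg 1, hg 2, hg 0⟩

end Data

end Cfsg.Agent.H79.MinIdxOP2
end

-- part: H79/MinIdxOP2/Plus
section
/-!
# The plus type form
-/

set_option autoImplicit false
set_option linter.unusedSectionVars false

namespace Cfsg.Agent.H79.MinIdxOP2

open QuadraticMap Cfsg.Agent.LieClassical.OrthCore Cfsg.Agent.LieClassical.OrthTrans
open Cfsg.Agent.LieClassical.OrthFinite Cfsg.Agent.LieClassical.OrthForms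
open Cfsg.Agent.H75.OrthIdx

variable {F : Type*} [Field F] [Fintype F] {m : ℕ}

theorem finrank_plus : Module.finrank F (Fin m ⊕ Fin m → F) = 2 * m := by
  rw [Module.finrank_fintype_fun_eq_card, Fintype.card_sum, Fintype.card_fin, two_mul]

theorem good_plus (hm : 4 ≤ m) : Good (plusForm m F) :=
  good_of_finite (nondeg_plusForm m F) (by rw [finrank_plus]; omega)

/-- The frame of the plus type form. -/
theorem frame_plus (hF : ∀ a : F, a = 0 ∨ a = 1) (hm : 4 ≤ m) :
    (opData hF (good_plus (F := F) hm) (by rw [finrank_plus]; omega)).Frame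
      (Pi.single (Sum.inl ⟨0, by omega⟩) 1) (Pi.single (Sum.inl ⟨1, by omega⟩) 1)
      (Pi.single (Sum.inl ⟨2, by omega⟩) 1) (Pi.single (Sum.inr ⟨2, by omega⟩) 1)
      (Pi.single (Sum.inl ⟨3, by omega⟩) 1) (Pi.single (Sum.inr ⟨3, by omega⟩) 1) := by
  have hQl : ∀ i : Fin m, plusForm m F (Pi.single (Sum.inl i) 1) = 0 := by
    intro i
    rw [coe_plusForm, quadFormPlus_apply]
    simp
  have hQr : ∀ i : Fin m, plusForm m F (Pi.single (Sum.inr i) 1) = 0 := by
    intro i
    rw [coe_plusForm, quadFormPlus_apply]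
    simp
  have hll : ∀ i j : Fin m, polar (plusForm m F) (Pi.single (Sum.inl i) 1)
      (Pi.single (Sum.inl j) 1) = 0 := by
    intro i j
    rw [polar_plusForm]
    simp
  have hrr : ∀ i j : Fin m, polar (plusForm m F) (Pi.single (Sum.inr i) 1)
      (Pi.single (Sum.inr j) 1) = 0 := by
    intro i j
    rw [polar_plusForm]
    simp
  have hlr : ∀ i j : Fin m, polar (plusForm m F) (Pi.single (Sum.inl i) 1)
      (Pi.single (Sum.inr j) 1) = if i = j then 1 else 0 := by
    intro i j
    rw [polar_plusForm]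
    simp [Pi.single_apply, eq_comm]
  have hrl : ∀ i j : Fin m, polar (plusForm m F) (Pi.single (Sum.inr i) 1)
      (Pi.single (Sum.inl j) 1) = if j = i then 1 else 0 := by
    intro i j
    rw [polar_comm, hlr]
  constructor
  · exact hQl _
  · exact hQl _
  · exact hQl _
  · exact hQr _
  · exact hQl _
  · exact hQr _
  · exact hll _ _
  · exact hll _ _
  · exact (hlr _ _).trans (if_neg (by simp))
  · exact hll _ _
  · exact (hlr _ _).trans (if_neg (by simp))
  · exact hll _ _
  · exact (hlr _ _).trans (if_neg (by simp))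
  · exact hll _ _
  · exact (hlr _ _).trans (if_neg (by simp))
  · exact (hlr _ _).trans (if_pos rfl)
  · exact (hlr _ _).trans (if_pos rfl)
  · exact hll _ _
  · exact (hlr _ _).trans (if_neg (by simp))
  · exact (hrl _ _).trans (if_neg (by simp))
  · exact hrr _ _
  · intro h
    have := congrFun h (Sum.inl ⟨0, by omega⟩)
    simp at this
  · intro h
    have := congrFun h (Sum.inl ⟨1, by omega⟩)
    simp at this
  · intro h
    have := congrFun h (Sum.inl ⟨1, by omega⟩)
    simp at this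

theorem card_V {b k : ℕ} (hF : Fintype.card F = 2) (hb : b = 2 ^ k) (hk : m = k + 2) :
    Fintype.card (Fin m ⊕ Fin m → F) = 16 * b ^ 2 := by
  classical
  rw [Fintype.card_fun, hF, Fintype.card_sum, Fintype.card_fin, hb, hk]
  ring

theorem cnt_plus {b k : ℕ} (hF : Fintype.card F = 2) (hb : b = 2 ^ k) (hk : m = k + 2) :
    Op2.cnt (fun v => plusForm m F v = 0) = 8 * b ^ 2 + 2 * b := by
  classical
  have h := Cfsg.Agent.LieClassical.QuadCount.card_plus (F := F) m 0
  rw [if_pos rfl, hF, hk] at h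
  have h1 : Nat.card {v : Fin m ⊕ Fin m → F // Cfsg.quadFormPlus m F v = 0} =
      Op2.cnt (fun v => plusForm m F v = 0) := by
    rw [Op2.cnt_eq, Nat.card_eq_fintype_card, Fintype.card_subtype, coe_plusForm]
  subst hk
  rw [h1] at h
  have h2 : 2 ^ (2 * (k + 2)) = 16 * b ^ 2 := by rw [hb]; ring
  have h3 : 2 ^ (k + 2) = 4 * b := by rw [hb]; ring
  have h4 : 2 ^ (k + 2 + 1) = 8 * b := by rw [hb]; ring
  rw [h2, h3, h4] at h
  omega

end Cfsg.Agent.H79.MinIdxOP2
end

-- part: S2146
section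
set_option autoImplicit false
open Cfsg

namespace Cfsg.Agent.S2146

open Cfsg.Agent.H79.MinIdxOP2 Cfsg.Agent.LieClassical.OrthForms
open Cfsg.Agent.LieClassical.OrthCore Cfsg.Agent.LieClassical.OrthTrans
open Cfsg.Agent.H75.OrthIdx

/-- Minimal index of a proper subgroup of the even-dimensional orthogonal groups of plus type over the field with 2 elements: for m ≥ 4, every proper subgroup of Ω⁺_2m(2) (for the form Σ xᵢyᵢ) has index at least 2^(m−1)(2^m − 1), and that index is attained. -/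
theorem result {F : Type*} [Field F] [Fintype F] (hF : Fintype.card F = 2) (m : ℕ) (hm : 4 ≤ m) : (∀ H : Subgroup (Cfsg.POmega F (Cfsg.quadFormPlus m F)), H ≠ ⊤ → 2 ^ (m - 1) * (2 ^ m - 1) ≤ H.index) ∧ (∃ H : Subgroup (Cfsg.POmega F (Cfsg.quadFormPlus m F)), H.index = 2 ^ (m - 1) * (2 ^ m - 1)) := by
  classical
  have h01 : ∀ a : F, a = 0 ∨ a = 1 := by
    intro a
    by_contra hcon
    push Not at hcon
    have h1 : ({0, 1, a} : Finset F).card ≤ Fintype.card F := Finset.card_le_univ _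
    rw [Finset.card_insert_of_notMem, Finset.card_insert_of_notMem, Finset.card_singleton, hF] at h1
    · omega
    · simp [hcon.2.symm]
    · simp [hcon.1.symm]
  obtain ⟨k, hk⟩ : ∃ k, m = k + 2 := ⟨m - 2, by omega⟩
  set b := 2 ^ k with hb
  have hV := card_V (F := F) hF hb hk
  have hQ := cnt_plus (F := F) hF hb hk
  have hG : Good (plusForm m F) := good_plus hm
  have hd : 8 ≤ Module.finrank F (Fin m ⊕ Fin m → F) := by rw [finrank_plus]; omega
  have hb4 : 4 ≤ b := by
    rw [hb]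
    calc 4 = 2 ^ 2 := by norm_num
      _ ≤ 2 ^ k := Nat.pow_le_pow_right (by norm_num) (by omega)
  have hN : 2 ^ (m - 1) * (2 ^ m - 1) + 2 * b = 8 * b ^ 2 := by
    have h1 : 2 ^ (m - 1) = 2 * b := by rw [hb, hk, show k + 2 - 1 = k + 1 by omega]; ring
    have h2 : 2 ^ m = 4 * b := by rw [hb, hk]; ring
    rw [h1, h2, Nat.mul_sub, mul_one]
    have h3 : 2 * b ≤ 2 * b * (4 * b) := by nlinarith
    rw [Nat.sub_add_cancel h3]
    ring
  rw [← coe_plusForm]
  constructor
  · apply lower_transfer hG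
    intro H hH hne
    have h1 : H.relIndex (E (plusForm m F)) ≠ 1 := by
      rw [Ne, Subgroup.relIndex_eq_one]
      exact hne
    have h2 : H.relIndex (E (plusForm m F)) ≠ 0 := relIndex_ne _ _
    have : Finite (E (plusForm m F) ⧸ H.subgroupOf (E (plusForm m F))) :=
      Nat.finite_of_card_ne_zero h2
    have h3 := (opData h01 hG hd).le_card (X := E (plusForm m F) ⧸ H.subgroupOf (E (plusForm m F)))
      hb (by omega) hV hQ (frame_plus h01 hm) (by
        change 1 < (H.subgroupOf (E (plusForm m F))).index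
        change 1 < H.relIndex (E (plusForm m F))
        omega)
    change 8 * b ^ 2 ≤ H.relIndex (E (plusForm m F)) + 2 * b at h3
    omega
  · have R := frame_plus (F := F) h01 hm
    set S := opData h01 hG hd with hS
    obtain ⟨n, hn⟩ : ∃ n, S.Q n = 1 := by
      refine ⟨Pi.single (Sum.inl ⟨2, by omega⟩) 1 + Pi.single (Sum.inr ⟨2, by omega⟩) 1, ?_⟩
      rw [S.Q_add, R.Qp, R.Qq, R.pq, zero_add, zero_add]
    have h1 := S.index_ns hn
    have h2 : Op2.cnt (fun v => S.Q v = 0) + Op2.cnt (fun v => S.Q v = 1) = 16 * b ^ 2 := by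
      rw [← hV, ← Op2.cnt_true, ← S.cnt_Q (fun _ => True)]
      congr 1
      · exact Op2.cnt_congr fun v => by simp
      · exact Op2.cnt_congr fun v => by simp
    have h3 : Op2.cnt (fun v => S.Q v = 0) = 8 * b ^ 2 + 2 * b := hQ
    refine ⟨(MulAction.stabilizer (E (plusForm m F)) n).map (omHom hG), ?_⟩
    rw [Subgroup.index_map_eq _ (omHom_surjective hG), h1]
    · omega
    · rw [omHom_ker]
      intro z hz
      obtain ⟨c, hc⟩ := center_scalar hG hz
      rw [MulAction.mem_stabilizer_iff]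
      have hn0 : n ≠ 0 := by
        rintro rfl
        rw [S.Q_zero] at hn
        exact zero_ne_one hn
      change (z : (Fin m ⊕ Fin m → F) ≃ₗ[F] (Fin m ⊕ Fin m → F)) n = n
      rw [hc]
      rcases h01 c with h | h
      · exfalso
        have h4 := hc n
        rw [h, zero_smul] at h4
        exact hn0 ((map_eq_zero_iff _
          (z : (Fin m ⊕ Fin m → F) ≃ₗ[F] (Fin m ⊕ Fin m → F)).injective).1 h4)
      · rw [h, one_smul]

end Cfsg.Agent.S2146
end
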