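import Cfsg.Statements.S2298
import Cfsg.Agent.H670.GL2Data
set_option linter.all false

set_option autoImplicit false
open Cfsg

namespace Cfsg.Agent.S2298

open Cfsg.Agent.H670 Cfsg.Agent.H670.RankOne

theorem arith {q N N' : ℕ} (hq : 3 ≤ q) (h3 : N * 2 + (q - 1) = (q - 1) * (q - 1))
    (h4 : N' + N + (q - 1) = (q - 1) * (q - 1) + (q - 1)) :
    N = (q - 1) * (q - 2) / 2 ∧ N' = q * (q - 1) / 2 := by
  obtain ⟨m, rfl⟩ : ∃ m, q = m + 3 := ⟨q - 3, by omega⟩
  have e1 : m + 3 - 1 = m + 2 := by omega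
  have e2 : m + 3 - 2 = m + 1 := by omega
  rw [e1] at h3 h4 ⊢
  rw [e2]
  constructor
  · rw [eq_comm]
    apply Nat.div_eq_of_eq_mul_right two_pos
    nlinarith
  · rw [eq_comm]
    apply Nat.div_eq_of_eq_mul_right two_pos
    nlinarith

/-- Over a finite field F with q elements, every irreducible complex character of GL₂ has degree 1, q − 1, q or q + 1; and when q ≥ 3 (so that these four numbers are distinct) there are exactly q − 1 irreducible characters of degree 1, exactly q − 1 of degree q, exactly (q − 1)(q − 2)/2 of degree q + 1 and exactly q(q − 1)/2 of degree q − 1. -/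
theorem result {F : Type*} [Field F] [Fintype F] :
    (∀ χ : Matrix.GeneralLinearGroup (Fin 2) F → ℂ, Cfsg.IsIrrCharacter (Matrix.GeneralLinearGroup (Fin 2) F) χ →
      χ 1 = 1 ∨ χ 1 = (Fintype.card F : ℂ) - 1 ∨ χ 1 = (Fintype.card F : ℂ) ∨ χ 1 = (Fintype.card F : ℂ) + 1) ∧
    (3 ≤ Fintype.card F →
      Nat.card {χ : Cfsg.IrrCharacter (Matrix.GeneralLinearGroup (Fin 2) F) // (χ : Matrix.GeneralLinearGroup (Fin 2) F → ℂ) 1 = 1} = Fintype.card F - 1 ∧
      Nat.card {χ : Cfsg.IrrCharacter (Matrix.GeneralLinearGroup (Fin 2) F) // (χ : Matrix.GeneralLinearGroup (Fin 2) F → ℂ) 1 = (Fintype.card F : ℂ)} = Fintype.card F - 1 ∧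
      Nat.card {χ : Cfsg.IrrCharacter (Matrix.GeneralLinearGroup (Fin 2) F) // (χ : Matrix.GeneralLinearGroup (Fin 2) F → ℂ) 1 = (Fintype.card F : ℂ) + 1} = (Fintype.card F - 1) * (Fintype.card F - 2) / 2 ∧
      Nat.card {χ : Cfsg.IrrCharacter (Matrix.GeneralLinearGroup (Fin 2) F) // (χ : Matrix.GeneralLinearGroup (Fin 2) F → ℂ) 1 = (Fintype.card F : ℂ) - 1} = Fintype.card F * (Fintype.card F - 1) / 2) := by
  classical
  have : Fintype (Matrix.GeneralLinearGroup (Fin 2) F) := Fintype.ofFinite _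
  refine ⟨fun χ hχ => (GL2.data F).degree_cases_surj GL2.hasAnti GL2.a_surj hχ, fun hq => ?_⟩
  obtain ⟨h1, h2, h3, h4⟩ := (GL2.data F).card_degree_surj GL2.hasAnti GL2.a_surj hq _
    GL2.card_invariant
  rw [GL2.card_T] at h3 h4
  rw [GL2.card_ker_a] at h4
  obtain ⟨h5, h6⟩ := arith hq h3 h4
  exact ⟨h1, h2, h5, h6⟩

end Cfsg.Agent.S2298
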