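import Cfsg.Statements.S1044
import Cfsg.Agent.S1023
import Cfsg.Agent.S1025
import Cfsg.Agent.S1031
import Cfsg.Agent.S1036
import Cfsg.Agent.S1038
import Cfsg.Agent.ChevalleyStructure.MinParabolic
set_option linter.all false

set_option autoImplicit false
open Cfsg

namespace Cfsg.Agent.S1044

/-- For a fundamental root `p` the set `B ∪ B n_p B` is (the carrier of) a subgroup of the general linear group. -/
theorem result {F : Type*} [Field F] (D : Cfsg.Lie.ChevalleyDatum) (hD : D ∈ [Cfsg.Lie.chevG2, Cfsg.Lie.chevB2, Cfsg.Lie.chevD4, Cfsg.Lie.chevF4, Cfsg.Lie.chevE6, Cfsg.Lie.chevE7, Cfsg.Lie.chevE8]) (i : ℕ) (hi : i < D.rank) (n : GL D.Idx F)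
    (hn : (n : Matrix D.Idx D.Idx F) = D.nMat F (D.simple i) 1) :
    ∃ P : Subgroup (GL D.Idx F), (P : Set (GL D.Idx F)) =
      (D.borelSubgroup F : Set (GL D.Idx F)) ∪ DoubleCoset.doubleCoset n (D.borelSubgroup F : Set (GL D.Idx F)) (D.borelSubgroup F) := by
  have hf := ChevalleyStructure.SimpleComplement.simpleFacts D hD hi
  refine ChevalleyStructure.MinParabolic.main
    (fun r hr t₁ t₂ => S1023.result D hD r hr t₁ t₂)
    (fun r s hr hs h1 h2 t u => S1025.result D hD r s hr hs h1 h2 t u)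
    hf (S1036.result D hD).1 (fun t => ?_) (S1038.result D hD) n hn
  obtain ⟨η, -, h⟩ := S1031.result (F := F) D hD i (D.simple i) hi hf.pos.1
  refine ⟨(η : F) * t, ?_⟩
  have hr : D.reflectRoot i (D.simple i) = D.neg (D.simple i) := if_pos rfl
  have := h t
  rw [hr] at this
  exact this

end Cfsg.Agent.S1044
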