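import Mathlib
import Cfsg.Statements.S5060
import Cfsg.Agent.S0801
import Cfsg.Agent.H731.SL2Pair
set_option linter.all false

-- part: H732/GenericWord
section
set_option autoImplicit false

namespace Cfsg.Agent.H732

open Polynomial

section DD

variable {A : Type*} [CommRing A]

/-- first reduction step -/
noncomputable def stepY (n : ℕ) (P Y : A[X]) : A[X] := C (P.coeff n) * Y - C (Y.coeff (n + 1)) * (X * P)

/-- second reduction step -/
noncomputable def stepP (n : ℕ) (P Y : A[X]) : A[X] := C (Y.coeff n) * P - C (P.coeff n) * Y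

/-- The product of the leading coefficients met by the cross-multiplied reduction algorithm. -/
noncomputable def DD : ℕ → A[X] → A[X] → A
  | 0, _, _ => 1
  | n + 1, P, Y => P.coeff n * (stepY n P Y).coeff n * DD n (stepP n P (stepY n P Y)) (stepY n P Y)

theorem stepY_map {B : Type*} [CommRing B] (f : A →+* B) (n : ℕ) (P Y : A[X]) :
    stepY n (P.map f) (Y.map f) = (stepY n P Y).map f := by
  simp [stepY]

theorem stepP_map {B : Type*} [CommRing B] (f : A →+* B) (n : ℕ) (P Y : A[X]) :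
    stepP n (P.map f) (Y.map f) = (stepP n P Y).map f := by
  simp [stepP]

theorem DD_map {B : Type*} [CommRing B] (f : A →+* B) (n : ℕ) (P Y : A[X]) :
    DD n (P.map f) (Y.map f) = f (DD n P Y) := by
  induction n generalizing P Y with
  | zero => simp [DD]
  | succ n ih =>
    simp only [DD]
    rw [stepY_map, stepP_map, ih, coeff_map, coeff_map, map_mul, map_mul]

theorem DD_scale (n : ℕ) (P Y : A[X]) (s t : A) :
    ∃ i j : ℕ, DD n (C s * P) (C t * Y) = s ^ i * t ^ j * DD n P Y := by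
  induction n generalizing P Y s t with
  | zero => exact ⟨0, 0, by simp [DD]⟩
  | succ n ih =>
    have e1 : stepY n (C s * P) (C t * Y) = C (s * t) * stepY n P Y := by
      simp only [stepY, coeff_C_mul, map_mul]
      ring
    have e2 : stepP n (C s * P) (C (s * t) * stepY n P Y) = C (s ^ 2 * t) * stepP n P (stepY n P Y) := by
      rw [stepP, stepP, coeff_C_mul, coeff_C_mul]
      simp only [map_mul, map_pow]
      ring
    obtain ⟨i, j, hij⟩ := ih (stepP n P (stepY n P Y)) (stepY n P Y) (s ^ 2 * t) (s * t)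
    refine ⟨2 + 2 * i + j, 1 + i + j, ?_⟩
    simp only [DD]
    rw [e1, e2, hij]
    simp only [coeff_C_mul]
    ring

end DD

section field

variable {k : Type*} [Field k]

theorem DD_scale_ne {n : ℕ} {P Y : k[X]} {s t : k} (h : DD n (C s * P) (C t * Y) ≠ 0) : DD n P Y ≠ 0 := by
  obtain ⟨i, j, hij⟩ := DD_scale n P Y s t
  intro h0
  apply h
  rw [hij, h0, mul_zero]

theorem DD_scale_ne' {n : ℕ} {P Y : k[X]} {s t : k} (hs : s ≠ 0) (ht : t ≠ 0) (h : DD n P Y ≠ 0) :
    DD n (C s * P) (C t * Y) ≠ 0 := by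
  obtain ⟨i, j, hij⟩ := DD_scale n P Y s t
  rw [hij]
  exact mul_ne_zero (mul_ne_zero (pow_ne_zero _ hs) (pow_ne_zero _ ht)) h

/-- A generic pair is reduced to `(0, 1)`: invariants under the two kinds of moves. -/
theorem generic_mem {K : Type*} [Field K] [Algebra k K] (α : K) {R : K → K → Prop} (h0 : R 0 1)
    (hu : ∀ x₁ x₂ (c : k), R x₁ x₂ → R x₁ (x₂ + algebraMap k K c * x₁))
    (hl : ∀ x₁ x₂ (c : k), R x₁ x₂ → R (x₁ + algebraMap k K c * α * x₂) x₂) :
    ∀ (n : ℕ) (P Y : k[X]), (∀ j, n ≤ j → P.coeff j = 0) → (∀ j, n < j → Y.coeff j = 0) → Y.coeff 0 = 1 →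
      DD n P Y ≠ 0 → R (α * aeval α P) (aeval α Y) := by
  intro n
  induction n with
  | zero =>
    intro P Y hP hY hY0 _
    have e1 : P = 0 := by
      ext j; rw [hP j (Nat.zero_le j), coeff_zero]
    have e2 : Y = 1 := by
      ext j
      by_cases hj : j = 0
      · subst hj; rw [hY0]; simp
      · rw [hY j (Nat.pos_of_ne_zero hj), coeff_one]; simp [hj]
    rw [e1, e2]
    simpa using h0
  | succ n ih =>
    intro P Y hP hY hY0 hD
    simp only [DD] at hD
    have hp : P.coeff n ≠ 0 := fun h => hD (by rw [h]; ring)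
    obtain ⟨p, hpp⟩ : ∃ p, p = P.coeff n := ⟨_, rfl⟩
    obtain ⟨y, hyy⟩ : ∃ y, y = Y.coeff (n + 1) := ⟨_, rfl⟩
    obtain ⟨Yn, hYn⟩ : ∃ Yn, Yn = Y - C (y / p) * (X * P) := ⟨_, rfl⟩
    rw [← hpp] at hp
    have e1 : stepY n P Y = C p * Yn := by
      rw [stepY, ← hpp, ← hyy, hYn, mul_sub, ← mul_assoc (C p) (C (y / p)), ← C_mul, mul_div_cancel₀ _ hp]
    obtain ⟨y', hy'⟩ : ∃ y', y' = Yn.coeff n := ⟨_, rfl⟩
    have e2 : (stepY n P Y).coeff n = p * y' := by rw [e1, coeff_C_mul, hy']
    have hy'0 : y' ≠ 0 := by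
      intro h
      apply hD
      rw [e2, h]; ring
    obtain ⟨Pn, hPn⟩ : ∃ Pn, Pn = P - C (p / y') * Yn := ⟨_, rfl⟩
    have e3 : stepP n P (stepY n P Y) = C (p * y') * Pn := by
      have e31 : p * y' * (p / y') = p * p := by field_simp
      rw [stepP, e2, ← hpp, e1, hPn, mul_sub, ← mul_assoc (C (p * y')) (C (p / y')), ← C_mul, e31, C_mul, C_mul,
        mul_assoc (C p) (C p)]
    have hD' : DD n Pn Yn ≠ 0 := by
      have h1 : DD n (C (p * y') * Pn) (C p * Yn) ≠ 0 := by
        rw [← e3, ← e1]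
        exact right_ne_zero_of_mul hD
      exact DD_scale_ne h1
    have hXP : ∀ j, (X * P).coeff (j + 1) = P.coeff j := fun j => coeff_X_mul P j
    have hYnc : ∀ j, Yn.coeff (j + 1) = Y.coeff (j + 1) - (y / p) * P.coeff j := by
      intro j
      rw [hYn, coeff_sub, coeff_C_mul, hXP]
    have hYb : ∀ j, n < j → Yn.coeff j = 0 := by
      intro j hj
      obtain ⟨i, rfl⟩ := Nat.exists_eq_succ_of_ne_zero (Nat.ne_of_gt (lt_of_le_of_lt (Nat.zero_le n) hj))
      rw [Nat.succ_eq_add_one, hYnc]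
      rcases Nat.eq_or_lt_of_le (Nat.lt_succ_iff.1 hj) with h1 | h1
      · subst h1
        rw [← hyy, ← hpp, div_mul_cancel₀ _ hp, sub_self]
      · rw [hY (i + 1) (by omega), hP i (by omega), mul_zero, sub_zero]
    have hPb : ∀ j, n ≤ j → Pn.coeff j = 0 := by
      intro j hj
      rw [hPn, coeff_sub, coeff_C_mul]
      rcases Nat.eq_or_lt_of_le hj with h1 | h1
      · subst h1
        rw [← hpp, ← hy', div_mul_cancel₀ _ hy'0, sub_self]
      · rw [hP j (by omega), hYb j h1, mul_zero, sub_zero]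
    have hY0' : Yn.coeff 0 = 1 := by
      rw [hYn, coeff_sub, coeff_C_mul, hY0, coeff_X_mul_zero, mul_zero, sub_zero]
    have key := ih Pn Yn hPb hYb hY0' hD'
    -- undo the two moves
    have k1 := hl _ _ (p / y') key
    have k2 : α * aeval α Pn + algebraMap k K (p / y') * α * aeval α Yn = α * aeval α P := by
      have : P = Pn + C (p / y') * Yn := by rw [hPn]; ring
      conv_rhs => rw [this]
      rw [map_add, map_mul, aeval_C]; ring
    rw [k2] at k1
    have k3 := hu _ _ (y / p) k1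
    have k4 : aeval α Yn + algebraMap k K (y / p) * (α * aeval α P) = aeval α Y := by
      have : Y = Yn + C (y / p) * (X * P) := by rw [hYn]; ring
      conv_rhs => rw [this]
      rw [map_add, map_mul, map_mul, aeval_C, aeval_X]
    rwa [k4] at k3

/-- There is a generic pair. -/
theorem exists_generic (n : ℕ) : ∃ P Y : k[X], (∀ j, n ≤ j → P.coeff j = 0) ∧ (∀ j, n < j → Y.coeff j = 0) ∧
    Y.coeff 0 = 1 ∧ Y.coeff n ≠ 0 ∧ DD n P Y ≠ 0 := by
  induction n with
  | zero =>
    refine ⟨0, 1, fun j _ => coeff_zero j, ?_, ?_, ?_, ?_⟩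
    · intro j hj
      rw [coeff_one, if_neg (by omega)]
    · simp
    · simp
    · simp [DD]
  | succ n ih =>
    obtain ⟨P, Y, hP, hY, hY0, hYn, hD⟩ := ih
    obtain ⟨y, hy⟩ : ∃ y, y = Y.coeff n := ⟨_, rfl⟩
    rw [← hy] at hYn
    obtain ⟨P1, hP1⟩ : ∃ P1, P1 = P + Y := ⟨_, rfl⟩
    obtain ⟨Y1, hY1⟩ : ∃ Y1, Y1 = Y + X * P1 := ⟨_, rfl⟩
    have c1 : P1.coeff n = y := by rw [hP1, coeff_add, hP n le_rfl, zero_add, hy]
    have c2 : ∀ j, Y1.coeff (j + 1) = Y.coeff (j + 1) + P1.coeff j := by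
      intro j; rw [hY1, coeff_add, coeff_X_mul]
    have c3 : ∀ j, n < j → P1.coeff j = 0 := by
      intro j hj; rw [hP1, coeff_add, hP j hj.le, hY j hj, add_zero]
    have c4 : Y1.coeff (n + 1) = y := by rw [c2, hY (n + 1) (by omega), zero_add, c1]
    have e1 : stepY n P1 Y1 = C y * Y := by
      rw [stepY, c1, c4, hY1]; ring
    have e2 : stepP n P1 (C y * Y) = C (y * y) * P := by
      rw [stepP, c1, coeff_C_mul, ← hy, hP1, C_mul]; ring
    refine ⟨P1, Y1, fun j hj => c3 j (by omega), ?_, ?_, ?_, ?_⟩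
    · intro j hj
      obtain ⟨i, rfl⟩ := Nat.exists_eq_succ_of_ne_zero (Nat.ne_of_gt (lt_of_le_of_lt (Nat.zero_le _) hj))
      rw [Nat.succ_eq_add_one, c2, hY (i + 1) (by omega), c3 i (by omega), add_zero]
    · rw [hY1, coeff_add, coeff_X_mul_zero, hY0, add_zero]
    · rw [c4]; exact hYn
    · simp only [DD]
      rw [e1, e2, c1, coeff_C_mul, ← hy]
      exact mul_ne_zero (mul_ne_zero hYn (mul_ne_zero hYn hYn)) (DD_scale_ne' (mul_ne_zero hYn hYn) hYn hD)

/-- Along a line `DD` is a polynomial function. -/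
theorem DD_line (n : ℕ) (P Q Y Z : k[X]) : ∃ F : k[X], ∀ c : k, F.eval c = DD n (P + C c * Q) (Y + C c * Z) := by
  refine ⟨DD n (P.map C + C X * Q.map C) (Y.map C + C X * Z.map C), fun c => ?_⟩
  have h1 : ∀ P Q : k[X], (P.map C + C X * Q.map C : k[X][X]).map (evalRingHom c) = P + C c * Q := by
    intro P Q
    rw [Polynomial.map_add, Polynomial.map_mul, Polynomial.map_map, Polynomial.map_map, Polynomial.map_C]
    have : (evalRingHom c).comp (C : k →+* k[X]) = RingHom.id k := by
      ext x; simp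
    rw [this, Polynomial.map_id, Polynomial.map_id, coe_evalRingHom, eval_X]
  rw [← coe_evalRingHom, ← DD_map, h1, h1]

theorem exists_bounded {K : Type*} [Field K] [Algebra k K] {α : K} (hα : IsIntegral k α) {z : K}
    (hz : z ∈ IntermediateField.adjoin k ({α} : Set K)) :
    ∃ P : k[X], (∀ j, (minpoly k α).natDegree ≤ j → P.coeff j = 0) ∧ aeval α P = z := by
  have h1 : z ∈ (IntermediateField.adjoin k ({α} : Set K)).toSubalgebra := hz
  rw [IntermediateField.adjoin_simple_toSubalgebra_of_isAlgebraic hα.isAlgebraic,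
    Algebra.adjoin_singleton_eq_range_aeval] at h1
  obtain ⟨f, hf⟩ := h1
  refine ⟨f %ₘ minpoly k α, ?_, ?_⟩
  · intro j hj
    apply coeff_eq_zero_of_degree_lt
    refine lt_of_lt_of_le (degree_modByMonic_lt f (minpoly.monic hα)) ?_
    exact (degree_le_natDegree).trans (by exact_mod_cast hj)
  · rw [minpoly.aeval_modByMonic_minpoly]
    exact hf

/-- The main statement on generic words. -/
theorem exists_pair {K : Type*} [Field K] [Algebra k K] [Infinite k] {α : K} (hα : IsIntegral k α) (hα0 : α ≠ 0)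
    {R : K → K → Prop} (h0 : R 0 1)
    (hu : ∀ x₁ x₂ (c : k), R x₁ x₂ → R x₁ (x₂ + algebraMap k K c * x₁))
    (hl : ∀ x₁ x₂ (c : k), R x₁ x₂ → R (x₁ + algebraMap k K c * α * x₂) x₂)
    {y : K} (hy : y ∈ IntermediateField.adjoin k ({α} : Set K)) (hy0 : y ≠ 0) :
    ∃ x₁ x₂, R x₁ x₂ ∧ R (y * x₁) (y * x₂) := by
  set L := IntermediateField.adjoin k ({α} : Set K) with hL
  have hαL : α ∈ L := IntermediateField.mem_adjoin_simple_self k α
  set n := (minpoly k α).natDegree with hn
  obtain ⟨P0, Y0, hP0, hY0, hY00, -, hD0⟩ := exists_generic (k := k) n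
  have hPL : ∀ P : k[X], aeval α P ∈ L := by
    intro P
    have h1 : aeval α P ∈ Algebra.adjoin k {α} := Polynomial.aeval_mem_adjoin_singleton k α
    have h2 : Algebra.adjoin k ({α} : Set K) ≤ L.toSubalgebra := by
      rw [Algebra.adjoin_le_iff]
      rintro x rfl
      exact hαL
    exact h2 h1
  -- representation of an arbitrary pair
  have hrep : ∀ x₁ ∈ L, ∀ x₂ ∈ L, ∃ P Y : k[X], (∀ j, n ≤ j → P.coeff j = 0) ∧ (∀ j, n < j → Y.coeff j = 0) ∧
      Y.coeff 0 = 1 ∧ α * aeval α P = x₁ ∧ aeval α Y = x₂ := by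
    intro x₁ hx₁ x₂ hx₂
    obtain ⟨P, hP, hPx⟩ := exists_bounded hα (L.mul_mem (L.inv_mem hαL) hx₁)
    obtain ⟨Z, hZ, hZx⟩ := exists_bounded hα (L.mul_mem (L.inv_mem hαL) (L.sub_mem hx₂ L.one_mem))
    refine ⟨P, 1 + X * Z, hP, ?_, ?_, ?_, ?_⟩
    · intro j hj
      obtain ⟨i, rfl⟩ := Nat.exists_eq_succ_of_ne_zero (Nat.ne_of_gt (lt_of_le_of_lt (Nat.zero_le _) hj))
      rw [Nat.succ_eq_add_one, coeff_add, coeff_X_mul, hZ i (by omega), coeff_one, if_neg (by omega), add_zero]
    · rw [coeff_add, coeff_X_mul_zero]; simp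
    · rw [hPx, mul_inv_cancel_left₀ hα0]
    · rw [map_add, map_mul, aeval_X, hZx, mul_inv_cancel_left₀ hα0]; simp
  obtain ⟨P1, Y1, hP1, hY1, hY10, hP1x, hY1x⟩ := hrep (y⁻¹ * (α * aeval α P0))
    (L.mul_mem (L.inv_mem hy) (L.mul_mem hαL (hPL P0))) (y⁻¹ * aeval α Y0) (L.mul_mem (L.inv_mem hy) (hPL Y0))
  obtain ⟨P2, Y2, hP2, hY2, hY20, hP2x, hY2x⟩ := hrep (y * (α * aeval α P0))
    (L.mul_mem hy (L.mul_mem hαL (hPL P0))) (y * aeval α Y0) (L.mul_mem hy (hPL Y0))
  obtain ⟨F, hF⟩ := DD_line n P0 (P1 - P0) Y0 (Y1 - Y0)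
  obtain ⟨E, hE⟩ := DD_line n P2 (P0 - P2) Y2 (Y0 - Y2)
  have hF0 : F ≠ 0 := by
    rintro rfl
    have := hF 0
    rw [eval_zero, C_0, zero_mul, zero_mul, add_zero, add_zero] at this
    exact hD0 this.symm
  have hE0 : E ≠ 0 := by
    rintro rfl
    have := hE 1
    rw [eval_zero, C_1, one_mul, one_mul, add_sub_cancel, add_sub_cancel] at this
    exact hD0 this.symm
  have hEF : E * F ≠ 0 := mul_ne_zero hE0 hF0
  obtain ⟨c, hc⟩ : ∃ c : k, (E * F).eval c ≠ 0 := by
    by_contra hcon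
    push Not at hcon
    exact hEF (Polynomial.funext (fun c => by rw [hcon c, eval_zero]))
  rw [eval_mul] at hc
  have hcE : DD n (P2 + C c * (P0 - P2)) (Y2 + C c * (Y0 - Y2)) ≠ 0 := by
    rw [← hE]; exact left_ne_zero_of_mul hc
  have hcF : DD n (P0 + C c * (P1 - P0)) (Y0 + C c * (Y1 - Y0)) ≠ 0 := by
    rw [← hF]; exact right_ne_zero_of_mul hc
  have hbP : ∀ P Q : k[X], (∀ j, n ≤ j → P.coeff j = 0) → (∀ j, n ≤ j → Q.coeff j = 0) →
      ∀ j, n ≤ j → (P + C c * (Q - P)).coeff j = 0 := by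
    intro P Q hP hQ j hj
    rw [coeff_add, coeff_C_mul, coeff_sub, hP j hj, hQ j hj]; simp
  have hbY : ∀ P Q : k[X], (∀ j, n < j → P.coeff j = 0) → (∀ j, n < j → Q.coeff j = 0) →
      ∀ j, n < j → (P + C c * (Q - P)).coeff j = 0 := by
    intro P Q hP hQ j hj
    rw [coeff_add, coeff_C_mul, coeff_sub, hP j hj, hQ j hj]; simp
  have hb0 : ∀ P Q : k[X], P.coeff 0 = 1 → Q.coeff 0 = 1 → (P + C c * (Q - P)).coeff 0 = 1 := by
    intro P Q hP hQ
    rw [coeff_add, coeff_C_mul, coeff_sub, hP, hQ]; simp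
  have r1 := generic_mem α h0 hu hl n _ _ (hbP P0 P1 hP0 hP1) (hbY Y0 Y1 hY0 hY1) (hb0 Y0 Y1 hY00 hY10) hcF
  have r2 := generic_mem α h0 hu hl n _ _ (hbP P2 P0 hP2 hP0) (hbY Y2 Y0 hY2 hY0) (hb0 Y2 Y0 hY20 hY00) hcE
  refine ⟨_, _, r1, ?_⟩
  have f1 : y * (α * aeval α (P0 + C c * (P1 - P0))) = α * aeval α (P2 + C c * (P0 - P2)) := by
    simp only [map_add, map_mul, map_sub, aeval_C]
    have : α * aeval α P1 = y⁻¹ * (α * aeval α P0) := hP1x
    have h2 : α * aeval α P2 = y * (α * aeval α P0) := hP2x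
    have h3 : y * (α * aeval α P1) = α * aeval α P0 := by rw [this, mul_inv_cancel_left₀ hy0]
    linear_combination (algebraMap k K c) * h3 + (algebraMap k K c - 1) * h2
  have f2 : y * aeval α (Y0 + C c * (Y1 - Y0)) = aeval α (Y2 + C c * (Y0 - Y2)) := by
    simp only [map_add, map_mul, map_sub, aeval_C]
    have h3 : y * aeval α Y1 = aeval α Y0 := by rw [hY1x, mul_inv_cancel_left₀ hy0]
    linear_combination (algebraMap k K c) * h3 + (algebraMap k K c - 1) * hY2x
  rw [f1, f2]
  exact r2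

end field

end Cfsg.Agent.H732
end

-- part: S5060
section
set_option autoImplicit false
open Cfsg
open Cfsg.Agent.H731

namespace Cfsg.Agent.S5060

section aux

variable {K : Type*} [Field K]

/-- The automorphism of `SL₂(K)` given by conjugation with `(0 s; 1 0)`. -/
def psi (s : K) (hs : s ≠ 0) : Matrix.SpecialLinearGroup (Fin 2) K →* Matrix.SpecialLinearGroup (Fin 2) K where
  toFun g := ⟨!![(g : Matrix (Fin 2) (Fin 2) K) 1 1, s * (g : Matrix (Fin 2) (Fin 2) K) 1 0;
      s⁻¹ * (g : Matrix (Fin 2) (Fin 2) K) 0 1, (g : Matrix (Fin 2) (Fin 2) K) 0 0], by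
    rw [Matrix.det_fin_two_of]
    have := sl2_det g
    field_simp
    linear_combination this⟩
  map_one' := by
    apply sl2_ext
    · change ((1 : Matrix.SpecialLinearGroup (Fin 2) K) : Matrix (Fin 2) (Fin 2) K) 1 1 = _
      rw [one_11, one_00]
    · change s * ((1 : Matrix.SpecialLinearGroup (Fin 2) K) : Matrix (Fin 2) (Fin 2) K) 1 0 = _
      rw [one_10, one_01, mul_zero]
    · change s⁻¹ * ((1 : Matrix.SpecialLinearGroup (Fin 2) K) : Matrix (Fin 2) (Fin 2) K) 0 1 = _
      rw [one_01, one_10, mul_zero]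
    · change ((1 : Matrix.SpecialLinearGroup (Fin 2) K) : Matrix (Fin 2) (Fin 2) K) 0 0 = _
      rw [one_11, one_00]
  map_mul' g h := by
    apply sl2_ext
    · refine Eq.trans ?_ (sl2_mul _ _ 0 0).symm
      refine Eq.trans (sl2_mul g h 1 1) ?_
      change _ = (g : Matrix (Fin 2) (Fin 2) K) 1 1 * (h : Matrix (Fin 2) (Fin 2) K) 1 1 +
          s * (g : Matrix (Fin 2) (Fin 2) K) 1 0 * (s⁻¹ * (h : Matrix (Fin 2) (Fin 2) K) 0 1)
      field_simp; ring
    · refine Eq.trans ?_ (sl2_mul _ _ 0 1).symm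
      refine Eq.trans (congrArg (fun t => s * t) (sl2_mul g h 1 0)) ?_
      change _ = (g : Matrix (Fin 2) (Fin 2) K) 1 1 * (s * (h : Matrix (Fin 2) (Fin 2) K) 1 0) +
          s * (g : Matrix (Fin 2) (Fin 2) K) 1 0 * (h : Matrix (Fin 2) (Fin 2) K) 0 0
      ring
    · refine Eq.trans ?_ (sl2_mul _ _ 1 0).symm
      refine Eq.trans (congrArg (fun t => s⁻¹ * t) (sl2_mul g h 0 1)) ?_
      change _ = s⁻¹ * (g : Matrix (Fin 2) (Fin 2) K) 0 1 * (h : Matrix (Fin 2) (Fin 2) K) 1 1 +
          (g : Matrix (Fin 2) (Fin 2) K) 0 0 * (s⁻¹ * (h : Matrix (Fin 2) (Fin 2) K) 0 1)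
      ring
    · refine Eq.trans ?_ (sl2_mul _ _ 1 1).symm
      refine Eq.trans (sl2_mul g h 0 0) ?_
      change _ = s⁻¹ * (g : Matrix (Fin 2) (Fin 2) K) 0 1 * (s * (h : Matrix (Fin 2) (Fin 2) K) 1 0) +
          (g : Matrix (Fin 2) (Fin 2) K) 0 0 * (h : Matrix (Fin 2) (Fin 2) K) 0 0
      field_simp; ring

theorem psi_lo (s : K) (hs : s ≠ 0) (r : K) : psi s hs (lo K r) = up K (s * r) := by
  apply sl2_ext
  · rfl
  · rfl
  · change s⁻¹ * (0 : K) = 0; rw [mul_zero]
  · rfl

theorem psi_up (s : K) (hs : s ≠ 0) (r : K) : psi s hs (up K r) = lo K (s⁻¹ * r) := by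
  apply sl2_ext
  · rfl
  · change s * (0 : K) = 0; rw [mul_zero]
  · rfl
  · rfl

/-- conversion of `u(L)` into `l(L)`. -/
theorem w_conj_up (a r : K) (ha : a ≠ 0) :
    (up K (-a⁻¹) * lo K a * up K (-a⁻¹)) * up K r * (up K (-a⁻¹) * lo K a * up K (-a⁻¹))⁻¹ = lo K (-(a ^ 2 * r)) := by
  rw [mul_inv_eq_iff_eq_mul]
  apply sl2_ext <;> simp only [sl2_mul, lo_00, lo_01, lo_10, lo_11, up_00, up_01, up_10, up_11] <;>
    field_simp <;> ring

end aux

/-- Step 1: the upper unitriangular matrices with entries in `k(α)`. -/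
theorem up_mem_of_infinite {k K : Type*} [Field k] [Field K] [Algebra k K] [Infinite k] (hk2 : ringChar k ≠ 2)
    (α : K) (hα : IsAlgebraic k α) (hα0 : α ≠ 0) (H : Subgroup (Matrix.SpecialLinearGroup (Fin 2) K))
    (hu : ∀ c : k, up K (algebraMap k K c) ∈ H) (hl : ∀ c : k, lo K (algebraMap k K c * α) ∈ H) :
    ∀ z ∈ IntermediateField.adjoin k ({α} : Set K), up K z ∈ H := by
  set L := IntermediateField.adjoin k ({α} : Set K) with hL
  have h2 : (2 : K) ≠ 0 := by
    have h1 : (2 : k) ≠ 0 := Ring.two_ne_zero hk2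
    have := (map_ne_zero (algebraMap k K)).2 h1
    rwa [map_ofNat] at this
  -- diagonal type elements
  have key : ∀ y ∈ L, y ≠ 0 → ∃ t ∈ H, (t : Matrix (Fin 2) (Fin 2) K) 1 0 = 0 ∧
      (t : Matrix (Fin 2) (Fin 2) K) 1 1 = y := by
    intro y hy hy0
    obtain ⟨x₁, x₂, ⟨h, hh, h10, h11⟩, ⟨h', hh', h10', h11'⟩⟩ := H732.exists_pair (k := k) hα.isIntegral hα0
      (R := fun x₁ x₂ => ∃ h ∈ H, (h : Matrix (Fin 2) (Fin 2) K) 1 0 = x₁ ∧ (h : Matrix (Fin 2) (Fin 2) K) 1 1 = x₂)
      ⟨1, H.one_mem, one_10, one_11⟩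
      (by
        rintro x₁ x₂ c ⟨h, hh, h10, h11⟩
        refine ⟨h * up K (algebraMap k K c), H.mul_mem hh (hu c), ?_, ?_⟩
        · rw [sl2_mul, up_00, up_10, h10, h11]; ring
        · rw [sl2_mul, up_01, up_11, h10, h11]; ring)
      (by
        rintro x₁ x₂ c ⟨h, hh, h10, h11⟩
        refine ⟨h * lo K (algebraMap k K c * α), H.mul_mem hh (hl c), ?_, ?_⟩
        · rw [sl2_mul, lo_00, lo_10, h10, h11]; ring
        · rw [sl2_mul, lo_01, lo_11, h10, h11]; ring) hy hy0
    obtain ⟨t, ht⟩ : ∃ t, t = h' * h⁻¹ := ⟨_, rfl⟩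
    have hth : t * h = h' := by rw [ht, inv_mul_cancel_right]
    have htH : t ∈ H := ht ▸ H.mul_mem hh' (H.inv_mem hh)
    have e1 : (t : Matrix (Fin 2) (Fin 2) K) 1 0 * (h : Matrix (Fin 2) (Fin 2) K) 0 0 +
        (t : Matrix (Fin 2) (Fin 2) K) 1 1 * (h : Matrix (Fin 2) (Fin 2) K) 1 0 = y * x₁ := by
      rw [← sl2_mul, hth, h10']
    have e2 : (t : Matrix (Fin 2) (Fin 2) K) 1 0 * (h : Matrix (Fin 2) (Fin 2) K) 0 1 +
        (t : Matrix (Fin 2) (Fin 2) K) 1 1 * (h : Matrix (Fin 2) (Fin 2) K) 1 1 = y * x₂ := by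
      rw [← sl2_mul, hth, h11']
    have hdet := sl2_det h
    rw [h10, h11] at hdet
    rw [h10] at e1
    rw [h11] at e2
    refine ⟨t, htH, ?_, ?_⟩
    · linear_combination x₂ * e1 - x₁ * e2 - (t : Matrix (Fin 2) (Fin 2) K) 1 0 * hdet
    · linear_combination (h : Matrix (Fin 2) (Fin 2) K) 0 0 * e2 - (h : Matrix (Fin 2) (Fin 2) K) 0 1 * e1 +
        (y - (t : Matrix (Fin 2) (Fin 2) K) 1 1) * hdet
  have hsq : ∀ z ∈ L, up K (z ^ 2) ∈ H := by
    intro z hz
    by_cases hz0 : z = 0
    · rw [hz0, zero_pow two_ne_zero, up_zero]; exact H.one_mem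
    obtain ⟨t, htH, t10, t11⟩ := key z⁻¹ (L.inv_mem hz) (inv_ne_zero hz0)
    have hdet := sl2_det t
    rw [t10, t11, mul_zero, sub_zero] at hdet
    have t00 : (t : Matrix (Fin 2) (Fin 2) K) 0 0 = z := by
      field_simp at hdet
      linear_combination hdet
    have h1 : t * up K 1 * t⁻¹ = up K (z ^ 2) := by
      rw [mul_inv_eq_iff_eq_mul]
      apply sl2_ext <;> simp only [sl2_mul, up_00, up_01, up_10, up_11, t00, t10, t11] <;> field_simp <;> ring
    rw [← h1]
    have h3 := hu 1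
    rw [map_one] at h3
    exact H.mul_mem (H.mul_mem htH h3) (H.inv_mem htH)
  intro z hz
  have e : z = ((z + 1) / 2) ^ 2 + -((z - 1) / 2) ^ 2 := by field_simp; ring
  have hL2 : (2 : K) ∈ L := by
    have := L.add_mem L.one_mem L.one_mem
    rwa [one_add_one_eq_two] at this
  rw [e, up_add, up_neg]
  exact H.mul_mem (hsq _ (L.div_mem (L.add_mem hz L.one_mem) hL2))
    (H.inv_mem (hsq _ (L.div_mem (L.sub_mem hz L.one_mem) hL2)))

theorem up_mem_of_finite {k K : Type*} [Field k] [Field K] [Algebra k K] [Finite k] (hk2 : ringChar k ≠ 2)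
    (hk3 : Nat.card k ≠ 3)
    (α : K) (hα : IsAlgebraic k α) (hα0 : α ≠ 0) (H : Subgroup (Matrix.SpecialLinearGroup (Fin 2) K))
    (hu : ∀ c : k, up K (algebraMap k K c) ∈ H) (hl : ∀ c : k, lo K (algebraMap k K c * α) ∈ H) :
    ∀ z ∈ IntermediateField.adjoin k ({α} : Set K), up K z ∈ H := by
  classical
  set L := IntermediateField.adjoin k ({α} : Set K) with hL
  have h2k : (2 : k) ≠ 0 := Ring.two_ne_zero hk2
  have h2 : (2 : K) ≠ 0 := by
    have := (map_ne_zero (algebraMap k K)).2 h2k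
    rwa [map_ofNat] at this
  -- a good `d`
  have hd : ∃ d : k, d ≠ 0 ∧ (algebraMap k K d * α) ^ 2 ≠ -1 := by
    by_cases hα2 : α ^ 2 = -1
    · obtain ⟨d, hd0, hd1, hd2⟩ : ∃ d : k, d ≠ 0 ∧ d ≠ 1 ∧ d ≠ -1 := by
        by_contra hcon
        push Not at hcon
        apply hk3
        have huniv : (Set.univ : Set k) = {0, 1, -1} := by
          ext x
          simp only [Set.mem_univ, Set.mem_insert_iff, Set.mem_singleton_iff, true_iff]
          by_cases h1 : x = 0
          · exact Or.inl h1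
          · by_cases h2 : x = 1
            · exact Or.inr (Or.inl h2)
            · exact Or.inr (Or.inr (hcon x h1 h2))
        have h11 : (1 : k) ≠ -1 := by
          intro h
          apply h2k
          linear_combination h
        rw [← Set.ncard_univ, huniv, Set.ncard_eq_three]
        exact ⟨0, 1, -1, zero_ne_one, by simp, h11, rfl⟩
      refine ⟨d, hd0, ?_⟩
      intro h
      rw [mul_pow, hα2] at h
      have h3 : (algebraMap k K) (d ^ 2) = algebraMap k K 1 := by
        rw [map_pow, map_one]; linear_combination -h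
      have h4 := (algebraMap k K).injective h3
      have h5 : (d - 1) * (d + 1) = 0 := by linear_combination h4
      rcases mul_eq_zero.1 h5 with h6 | h6
      · exact hd1 (by linear_combination h6)
      · exact hd2 (by linear_combination h6)
    · exact ⟨1, one_ne_zero, by rw [map_one, one_mul]; exact hα2⟩
  obtain ⟨d, hd0, hdα⟩ := hd
  have hαL : α ∈ L := IntermediateField.mem_adjoin_simple_self k α
  have hdK : algebraMap k K d ≠ 0 := (map_ne_zero (algebraMap k K)).2 hd0
  obtain ⟨β, hβ⟩ : ∃ β, β = algebraMap k K d * α := ⟨_, rfl⟩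
  have hβL : β ∈ L := hβ ▸ L.mul_mem (L.algebraMap_mem d) hαL
  have hβ0 : β ≠ 0 := hβ ▸ mul_ne_zero hdK hα0
  -- the subfield generated by β
  let F : Subfield K := Subfield.closure {β}
  have hβF : β ∈ F := Subfield.subset_closure rfl
  have hFL : F ≤ L.toSubfield := by
    rw [Subfield.closure_le]
    rintro x rfl
    exact hβL
  have hfd : FiniteDimensional k L := IntermediateField.adjoin.finiteDimensional hα.isIntegral
  have hLfin : Finite L := Module.finite_of_finite k
  have hFfin : Finite F := by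
    have : Finite L.toSubfield := hLfin
    exact Finite.of_injective (Subfield.inclusion hFL) (Subfield.inclusion hFL).injective
  have hFt := Fintype.ofFinite F
  have hgen : Subfield.closure ({⟨β, hβF⟩} : Set F) = ⊤ := by
    rw [eq_top_iff]
    intro x _
    have h1 : (Subfield.closure ({⟨β, hβF⟩} : Set F)).map F.subtype = F := by
      rw [RingHom.map_field_closure]
      simp only [Set.image_singleton]
      rfl
    have h3 : (x : K) ∈ (Subfield.closure ({⟨β, hβF⟩} : Set F)).map F.subtype := by rw [h1]; exact x.2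
    obtain ⟨x', hx', hx''⟩ := h3
    have : x' = x := Subtype.ext hx''
    rwa [← this]
  have h2F : (2 : F) ≠ 0 := by
    intro h
    apply h2
    have h3 : F.subtype 2 = 0 := by rw [h, map_zero]
    rwa [map_ofNat] at h3
  have hD := S0801.result (F := F) h2F ⟨β, hβF⟩ (fun h => hβ0 (congrArg Subtype.val h)) hgen
  have htop : Subgroup.closure {g : Matrix.SpecialLinearGroup (Fin 2) F |
      (g : Matrix (Fin 2) (Fin 2) F) = !![1, 0; 1, 1] ∨ (g : Matrix (Fin 2) (Fin 2) F) = !![1, ⟨β, hβF⟩; 0, 1]} = ⊤ := by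
    rcases hD with h | h
    · exact h.1
    · exfalso
      have h3 := congrArg (fun x : F => (x : K)) h.2.1
      simp only [SubmonoidClass.mk_pow, NegMemClass.coe_neg, OneMemClass.coe_one] at h3
      exact hdα (hβ ▸ h3)
  -- images in SL₂(K)
  let ι : Matrix.SpecialLinearGroup (Fin 2) F →* Matrix.SpecialLinearGroup (Fin 2) K :=
    Matrix.SpecialLinearGroup.map F.subtype
  have hιlo : ∀ r : F, ι (lo F r) = lo K (r : K) := by
    intro r
    apply sl2_ext
    · change ((1 : F) : K) = 1; rfl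
    · change ((0 : F) : K) = 0; rfl
    · rfl
    · change ((1 : F) : K) = 1; rfl
  have hιup : ∀ r : F, ι (up F r) = up K (r : K) := by
    intro r
    apply sl2_ext
    · change ((1 : F) : K) = 1; rfl
    · rfl
    · change ((0 : F) : K) = 0; rfl
    · change ((1 : F) : K) = 1; rfl
  have hcr : ∀ c : k, c ≠ 0 → ∀ r : F, up K (algebraMap k K c * (r : K)) ∈ H := by
    intro c hc r
    have hcK : algebraMap k K c ≠ 0 := (map_ne_zero (algebraMap k K)).2 hc
    have hle : (⊤ : Subgroup (Matrix.SpecialLinearGroup (Fin 2) F)) ≤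
        H.comap ((psi (algebraMap k K c) hcK).comp ι) := by
      rw [← htop, Subgroup.closure_le]
      rintro g (hg | hg)
      · have hg' : g = lo F 1 := Subtype.ext hg
        rw [hg']
        change psi (algebraMap k K c) hcK (ι (lo F 1)) ∈ H
        rw [hιlo, psi_lo]
        change up K (algebraMap k K c * (1 : K)) ∈ H
        rw [mul_one]
        exact hu c
      · have hg' : g = up F ⟨β, hβF⟩ := Subtype.ext hg
        rw [hg']
        change psi (algebraMap k K c) hcK (ι (up F ⟨β, hβF⟩)) ∈ H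
        rw [hιup, psi_up]
        have h4 : (algebraMap k K c)⁻¹ * β = algebraMap k K (c⁻¹ * d) * α := by
          rw [hβ, map_mul, map_inv₀]; ring
        change lo K ((algebraMap k K c)⁻¹ * β) ∈ H
        rw [h4]
        exact hl _
    have h5 : lo F r ∈ H.comap ((psi (algebraMap k K c) hcK).comp ι) := hle (Subgroup.mem_top _)
    have h6 : psi (algebraMap k K c) hcK (ι (lo F r)) ∈ H := h5
    rwa [hιlo, psi_lo] at h6
  have hmono : ∀ (c : k) (i : ℕ), up K (algebraMap k K c * α ^ i) ∈ H := by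
    intro c i
    by_cases hc : c = 0
    · rw [hc, map_zero, zero_mul, up_zero]; exact H.one_mem
    have h4 := hcr (c * (d ^ i)⁻¹) (mul_ne_zero hc (inv_ne_zero (pow_ne_zero i hd0))) (⟨β, hβF⟩ ^ i)
    have h5 : algebraMap k K (c * (d ^ i)⁻¹) * (((⟨β, hβF⟩ : F) ^ i : F) : K) = algebraMap k K c * α ^ i := by
      rw [SubmonoidClass.coe_pow]
      change algebraMap k K (c * (d ^ i)⁻¹) * β ^ i = _
      rw [hβ, map_mul, map_inv₀, map_pow, mul_pow]
      have : (algebraMap k K d) ^ i ≠ 0 := pow_ne_zero i hdK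
      field_simp
    rwa [h5] at h4
  intro z hz
  obtain ⟨P, -, hP⟩ := H732.exists_bounded hα.isIntegral hz
  rw [← hP]
  clear hP
  induction P using Polynomial.induction_on' with
  | add p q hp hq =>
    rw [map_add, up_add]
    exact H.mul_mem hp hq
  | monomial i c =>
    rw [Polynomial.aeval_monomial]
    exact hmono c i

/-- Let k ⊆ K be fields with the characteristic of k not 2 and k not of order 3, and let α ∈ K be a non-zero element algebraic over k. Then the subgroup of SL₂(K) generated by the upper unitriangular matrices with entry c and the lower unitriangular matrices with entry cα, c ranging over k, is exactly the group of matrices of SL₂(K) with all entries in k(α). -/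
theorem result {k K : Type*} [Field k] [Field K] [Algebra k K] (hk2 : ringChar k ≠ 2) (hk3 : Nat.card k ≠ 3)
    (α : K) (hα : IsAlgebraic k α) (hα0 : α ≠ 0) :
    (Subgroup.closure ({g : Matrix.SpecialLinearGroup (Fin 2) K | ∃ c : k, (g : Matrix (Fin 2) (Fin 2) K) = !![1, algebraMap k K c; 0, 1]} ∪
        {g : Matrix.SpecialLinearGroup (Fin 2) K | ∃ c : k, (g : Matrix (Fin 2) (Fin 2) K) = !![1, 0; algebraMap k K c * α, 1]}) :
      Set (Matrix.SpecialLinearGroup (Fin 2) K)) =
    {g : Matrix.SpecialLinearGroup (Fin 2) K | ∀ i j : Fin 2, (g : Matrix (Fin 2) (Fin 2) K) i j ∈ IntermediateField.adjoin k ({α} : Set K)} := by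
  set L := IntermediateField.adjoin k ({α} : Set K) with hL
  set H := Subgroup.closure ({g : Matrix.SpecialLinearGroup (Fin 2) K | ∃ c : k, (g : Matrix (Fin 2) (Fin 2) K) = !![1, algebraMap k K c; 0, 1]} ∪
        {g : Matrix.SpecialLinearGroup (Fin 2) K | ∃ c : k, (g : Matrix (Fin 2) (Fin 2) K) = !![1, 0; algebraMap k K c * α, 1]}) with hH
  have hu : ∀ c : k, up K (algebraMap k K c) ∈ H := fun c => Subgroup.subset_closure (Or.inl ⟨c, rfl⟩)
  have hl : ∀ c : k, lo K (algebraMap k K c * α) ∈ H := fun c => Subgroup.subset_closure (Or.inr ⟨c, rfl⟩)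
  have hαL : α ∈ L := IntermediateField.mem_adjoin_simple_self k α
  have hup : ∀ z ∈ L, up K z ∈ H := by
    rcases finite_or_infinite k with hk | hk
    · exact up_mem_of_finite hk2 hk3 α hα hα0 H hu hl
    · exact up_mem_of_infinite hk2 α hα hα0 H hu hl
  have hlo : ∀ z ∈ L, lo K z ∈ H := by
    intro z hz
    have h1 := w_conj_up α (-(z / α ^ 2)) hα0
    have h2 : -(α ^ 2 * -(z / α ^ 2)) = z := by field_simp
    rw [h2] at h1
    rw [← h1]
    have hα1 : lo K α ∈ H := by
      have := hl 1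
      rwa [map_one, one_mul] at this
    have h3 : up K (-α⁻¹) ∈ H := hup _ (L.neg_mem (L.inv_mem hαL))
    have h4 := H.mul_mem (H.mul_mem h3 hα1) h3
    exact H.mul_mem (H.mul_mem h4 (hup _ (L.neg_mem (L.div_mem hz (pow_mem hαL 2))))) (H.inv_mem h4)
  ext g
  constructor
  · intro hg
    -- the subgroup of matrices with entries in L
    have hle : H ≤ { carrier := {g | ∀ i j : Fin 2, (g : Matrix (Fin 2) (Fin 2) K) i j ∈ L}
                     one_mem' := by
                       intro i j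
                       rw [Matrix.SpecialLinearGroup.coe_one, Matrix.one_apply]
                       split_ifs
                       · exact L.one_mem
                       · exact L.zero_mem
                     mul_mem' := by
                       intro a b ha hb i j
                       rw [sl2_mul]
                       exact L.add_mem (L.mul_mem (ha i 0) (hb 0 j)) (L.mul_mem (ha i 1) (hb 1 j))
                     inv_mem' := by
                       intro a ha i j
                       rw [Matrix.SpecialLinearGroup.coe_inv, Matrix.adjugate_fin_two]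
                       fin_cases i <;> fin_cases j
                       · exact ha 1 1
                       · exact L.neg_mem (ha 0 1)
                       · exact L.neg_mem (ha 1 0)
                       · exact ha 0 0 : Subgroup (Matrix.SpecialLinearGroup (Fin 2) K) } := by
      rw [hH, Subgroup.closure_le]
      rintro g (⟨c, hc⟩ | ⟨c, hc⟩)
      · intro i j
        rw [hc]
        fin_cases i <;> fin_cases j
        · exact L.one_mem
        · exact L.algebraMap_mem c
        · exact L.zero_mem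
        · exact L.one_mem
      · intro i j
        rw [hc]
        fin_cases i <;> fin_cases j
        · exact L.one_mem
        · exact L.zero_mem
        · exact L.mul_mem (L.algebraMap_mem c) hαL
        · exact L.one_mem
    exact hle hg
  · intro hg
    have hg' : ∀ i j : Fin 2, (g : Matrix (Fin 2) (Fin 2) K) i j ∈ L := hg
    have key : ∀ g : Matrix.SpecialLinearGroup (Fin 2) K, (∀ i j : Fin 2, (g : Matrix (Fin 2) (Fin 2) K) i j ∈ L) →
        (g : Matrix (Fin 2) (Fin 2) K) 1 0 ≠ 0 → g ∈ H := by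
      intro g hg hc
      rw [sl2_decomp g hc]
      exact H.mul_mem (H.mul_mem (hup _ (L.div_mem (L.sub_mem (hg 0 0) L.one_mem) (hg 1 0))) (hlo _ (hg 1 0)))
        (hup _ (L.div_mem (L.sub_mem (hg 1 1) L.one_mem) (hg 1 0)))
    change g ∈ H
    by_cases hc : (g : Matrix (Fin 2) (Fin 2) K) 1 0 = 0
    · have hdet := sl2_det g
      rw [hc, mul_zero, sub_zero] at hdet
      have hd : (g : Matrix (Fin 2) (Fin 2) K) 1 1 ≠ 0 := right_ne_zero_of_mul_eq_one hdet
      have h1 : g * lo K 1 ∈ H := by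
        apply key
        · intro i j
          rw [sl2_mul]
          fin_cases j
          · exact L.add_mem (L.mul_mem (hg' i 0) L.one_mem) (L.mul_mem (hg' i 1) L.one_mem)
          · exact L.add_mem (L.mul_mem (hg' i 0) L.zero_mem) (L.mul_mem (hg' i 1) L.one_mem)
        · rw [sl2_mul, lo_00, lo_10, hc]
          simpa using hd
      have h2 : g = (g * lo K 1) * (lo K 1)⁻¹ := by simp
      rw [h2]
      exact H.mul_mem h1 (H.inv_mem (hlo _ L.one_mem))
    · exact key g hg' hc

end Cfsg.Agent.S5060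
end
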