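import Mathlib
import Cfsg.Agent.H740.Fixed
import Cfsg.Agent.H731.QuadT2
import Cfsg.Statements.S5074
set_option linter.all false

-- part: H740/QPrime
section
/-!
# Quadratic elements all of whose products with minimal ones are nilpotent centralise these
-/

set_option autoImplicit false

namespace Cfsg.Agent.H740

open Cfsg

section QPrime

variable {k : Type*} [Field k] {M : Type*} [AddCommGroup M] [Module k M]
  {G : Subgroup (LinearMap.GeneralLinearGroup k M)}

/-- `y` is quadratic in `G` and all its products with minimal elements are nilpotent. -/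
def QP (G : Subgroup (LinearMap.GeneralLinearGroup k M)) (y : M →ₗ[k] M) : Prop :=
  QIn G y ∧ ∀ s : M →ₗ[k] M, IsMin G s → IsNilpotent (s * y)

lemma exists_scalar (hk2 : ringChar k ≠ 2) (hk3 : Nat.card k ≠ 3) :
    (2 : k) ≠ 0 ∧ ∃ c : k, c ≠ 0 ∧ c ^ 2 ≠ 1 := by
  have h2 : (2 : k) ≠ 0 := Ring.two_ne_zero hk2
  refine ⟨h2, ?_⟩
  by_contra hcon
  push Not at hcon
  apply hk3
  have hall : (Set.univ : Set k) = {0, 1, -1} := by
    ext c
    simp only [Set.mem_univ, Set.mem_insert_iff, Set.mem_singleton_iff, true_iff]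
    by_cases hc : c = 0
    · left; exact hc
    · right
      have := hcon c hc
      rcases mul_eq_zero.1 (show (c - 1) * (c + 1) = 0 by ring_nf; rw [this]; ring) with h | h
      · left; exact sub_eq_zero.1 h
      · right; exact eq_neg_of_add_eq_zero_left h
  have h10 : (1 : k) ≠ -1 := fun h => h2 (by rw [← one_add_one_eq_two]; nth_rw 1 [h]; simp)
  rw [← Set.ncard_univ, hall]
  exact Set.ncard_eq_three.2 ⟨0, 1, -1, zero_ne_one, (neg_ne_zero.2 one_ne_zero).symm, h10, rfl⟩

/-- The coefficient of `x` in a polynomial identity of degree `≤ 4`. -/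
lemma coeff_one {V : Type*} [AddCommGroup V] [Module k V] (hk2 : ringChar k ≠ 2)
    (hk3 : Nat.card k ≠ 3) {a₀ a₁ a₂ a₃ a₄ : V}
    (h : ∀ x : k, a₀ + x • a₁ + x ^ 2 • a₂ + x ^ 3 • a₃ + x ^ 4 • a₄ = 0) : a₁ = 0 := by
  obtain ⟨h2, c, hc0, hc1⟩ := exists_scalar hk2 hk3
  have hodd : ∀ x : k, x ≠ 0 → a₁ + x ^ 2 • a₃ = 0 := by
    intro x hx
    have e1 := h x
    have e2 := h (-x)
    have e3 : (2 * x) • (a₁ + x ^ 2 • a₃) = 0 := by
      have : (2 * x) • (a₁ + x ^ 2 • a₃) = (a₀ + x • a₁ + x ^ 2 • a₂ + x ^ 3 • a₃ + x ^ 4 • a₄) -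
          (a₀ + (-x) • a₁ + (-x) ^ 2 • a₂ + (-x) ^ 3 • a₃ + (-x) ^ 4 • a₄) := by
        module
      rw [this, e1, e2, sub_zero]
    exact (smul_eq_zero.1 e3).resolve_left (mul_ne_zero h2 hx)
  have e1 := hodd 1 one_ne_zero
  have e2 := hodd c hc0
  rw [one_pow, one_smul] at e1
  have e3 : (c ^ 2 - 1) • a₃ = 0 := by
    have : (c ^ 2 - 1) • a₃ = (a₁ + c ^ 2 • a₃) - (a₁ + a₃) := by module
    rw [this, e1, e2, sub_zero]
  have e4 : a₃ = 0 := (smul_eq_zero.1 e3).resolve_left (sub_ne_zero.2 hc1)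
  rw [e4, add_zero] at e1
  exact e1

/-- Conjugates of `s` under the `1 + x y`. -/
lemma isMin_twist {s y : M →ₗ[k] M} (hs : IsMin G s) (hy : QIn G y) (x : k) :
    IsMin G (s + x • (y * s - s * y) - x ^ 2 • (y * s * y)) := by
  have h := hs.conj (hy.mem x)
  rw [coe_oneAdd, coe_oneAdd_inv] at h
  have e : (1 + x • y) * s * (1 - x • y) = s + x • (y * s - s * y) - x ^ 2 • (y * s * y) := by
    simp only [mul_sub, add_mul, one_mul, mul_one, smul_mul_assoc, mul_smul_comm, mul_assoc]
    module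
  rwa [e] at h

lemma QP.sys [FiniteDimensional k M] (hk2 : ringChar k ≠ 2) {s y : M →ₗ[k] M} (hy : QP G y)
    (hs : IsMin G s) : s * y * s = 0 :=
  H731.T1 hk2 hs hy.1 (hy.2 s hs)

/-- Step (1). -/
lemma QP.step1 [FiniteDimensional k M] (hk2 : ringChar k ≠ 2) (hk3 : Nat.card k ≠ 3)
    {s t y : M →ₗ[k] M} (hy : QP G y) (hs : IsMin G s) (ht : IsMin G t) :
    t * y * s * t = t * s * y * t := by
  set ν := s * t - t * s with hν
  have key : ∀ x : k, t * y * t + x • (t * y * ν + ν * y * t) +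
      x ^ 2 • (ν * y * ν - t * y * (s * t * s) - (s * t * s) * y * t) +
      x ^ 3 • (-(ν * y * (s * t * s) + (s * t * s) * y * ν)) +
      x ^ 4 • ((s * t * s) * y * (s * t * s)) = 0 := by
    intro x
    have h1 := hy.sys hk2 (isMin_twist ht hs.1 x)
    rw [← hν] at h1
    rw [← h1]
    simp only [mul_sub, sub_mul, mul_add, add_mul, smul_mul_assoc, mul_smul_comm, mul_assoc]
    module
  have h2 := coeff_one hk2 hk3 key
  have h3 : t * y * t = 0 := hy.sys hk2 ht
  have e : t * y * ν + ν * y * t = t * y * s * t - t * s * y * t - (t * y * t) * s +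
      s * (t * y * t) := by
    rw [hν]; noncomm_ring
  rw [e, h3, zero_mul, mul_zero, sub_zero, add_zero, sub_eq_zero] at h2
  exact h2

/-- Step (2): `ysy = 0`, and `1 + c(ys - sy) ∈ G`. -/
lemma QP.step2 [FiniteDimensional k M] (hk2 : ringChar k ≠ 2) (hk3 : Nat.card k ≠ 3)
    (hG : IsIrreducibleFor G) {s y : M →ₗ[k] M} (hy : QP G y) (hs : IsMin G s) :
    y * s * y = 0 ∧ QIn G (y * s - s * y) := by
  obtain ⟨h2, -⟩ := exists_scalar hk2 hk3
  have hsys : s * y * s = 0 := hy.sys hk2 hs
  have hss : s * s = 0 := hs.sq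
  have hyy : y * y = 0 := hy.1.1
  -- `w_x = s_x - s`
  have hw : ∀ x : k, QIn G (x • (y * s - s * y) - x ^ 2 • (y * s * y)) := by
    intro x
    have h1 := (isMin_twist hs hy.1 x).1
    have h3 := h1.add hs.1.neg ?_ ?_
    · have e : s + x • (y * s - s * y) - x ^ 2 • (y * s * y) + -s =
          x • (y * s - s * y) - x ^ 2 • (y * s * y) := by abel
      rwa [e] at h3
    · have e : (s + x • (y * s - s * y) - x ^ 2 • (y * s * y)) * -s =
          -(s * s) - x • (y * (s * s)) + x • (s * y * s) + x ^ 2 • (y * (s * y * s)) := by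
        simp only [mul_neg, mul_sub, sub_mul, mul_add, add_mul, smul_mul_assoc, mul_smul_comm,
          mul_assoc]
        module
      rw [e, hss, hsys]; simp
    · have e : -s * (s + x • (y * s - s * y) - x ^ 2 • (y * s * y)) =
          -(s * s) - x • (s * y * s) + x • ((s * s) * y) + x ^ 2 • ((s * y * s) * y) := by
        simp only [neg_mul, mul_sub, sub_mul, mul_add, add_mul, smul_mul_assoc, mul_smul_comm,
          mul_assoc]
        module
      rw [e, hss, hsys]; simp
  -- all products vanish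
  have p1 : (y * s * y) * (y * s * y) = 0 := by
    have : (y * s * y) * (y * s * y) = y * s * (y * y) * s * y := by noncomm_ring
    rw [this, hyy]; simp
  have p2 : (y * s - s * y) * (y * s * y) = 0 := by
    have : (y * s - s * y) * (y * s * y) = y * (s * y * s) * y - s * (y * y) * s * y := by
      noncomm_ring
    rw [this, hyy, hsys]; simp
  have p3 : (y * s * y) * (y * s - s * y) = 0 := by
    have : (y * s * y) * (y * s - s * y) = y * s * (y * y) * s - y * (s * y * s) * y := by
      noncomm_ring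
    rw [this, hyy, hsys]; simp
  have p4 : (y * s - s * y) * (y * s - s * y) = 0 := by
    have : (y * s - s * y) * (y * s - s * y) =
        y * (s * y * s) - y * (s * s) * y - s * (y * y) * s + (s * y * s) * y := by
      noncomm_ring
    rw [this, hyy, hss, hsys]; simp
  have prod : ∀ a b c d : k, (a • (y * s - s * y) - b • (y * s * y)) *
      (c • (y * s - s * y) - d • (y * s * y)) = 0 := by
    intro a b c d
    rw [sub_mul, mul_sub, mul_sub, smul_mul_smul_comm, smul_mul_smul_comm, smul_mul_smul_comm,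
      smul_mul_smul_comm, p1, p2, p3, p4]
    simp
  have hκ : QIn G (y * s * y) := by
    have h1 := (hw 1).add (hw (-1)) (prod _ _ _ _) (prod _ _ _ _)
    have h3 := h1.smul (-(1 / 2))
    have e : (-(1 / 2) : k) • ((1 : k) • (y * s - s * y) - (1 : k) ^ 2 • (y * s * y) +
        ((-1 : k) • (y * s - s * y) - (-1 : k) ^ 2 • (y * s * y))) = y * s * y := by
      have : ((1 : k) • (y * s - s * y) - (1 : k) ^ 2 • (y * s * y) +
        ((-1 : k) • (y * s - s * y) - (-1 : k) ^ 2 • (y * s * y))) = (-2 : k) • (y * s * y) := by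
        module
      rw [this, smul_smul]
      have : (-(1 / 2) : k) * (-2) = 1 := by field_simp
      rw [this, one_smul]
    rwa [e] at h3
  have hν : QIn G (y * s - s * y) := by
    have h1 := (hw 1).add (hw (-1)).neg (by rw [mul_neg, prod, neg_zero])
      (by rw [neg_mul, prod, neg_zero])
    have h3 := h1.smul (1 / 2)
    have e : ((1 / 2) : k) • ((1 : k) • (y * s - s * y) - (1 : k) ^ 2 • (y * s * y) +
        -((-1 : k) • (y * s - s * y) - (-1 : k) ^ 2 • (y * s * y))) = y * s - s * y := by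
      have : ((1 : k) • (y * s - s * y) - (1 : k) ^ 2 • (y * s * y) +
        -((-1 : k) • (y * s - s * y) - (-1 : k) ^ 2 • (y * s * y))) =
          (2 : k) • (y * s - s * y) := by
        module
      rw [this, smul_smul]
      have : ((1 / 2) : k) * 2 = 1 := by field_simp
      rw [this, one_smul]
    rwa [e] at h3
  refine ⟨?_, hν⟩
  by_contra hne
  have hle : Module.finrank k (LinearMap.range (y * s * y)) ≤
      Module.finrank k (LinearMap.range s) := by
    have e1 : LinearMap.range (y * s * y) ≤ (LinearMap.range s).map y := by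
      rintro _ ⟨m, rfl⟩
      exact ⟨s (y m), ⟨y m, rfl⟩, rfl⟩
    exact (Submodule.finrank_mono e1).trans (Submodule.finrank_map_le y _)
  have hmin : IsMin G (y * s * y) := hs.of_finrank_le hκ hne hle
  have ht : ∀ t : M →ₗ[k] M, IsMin G t → t * (y * s * y) * t = 0 := by
    intro t ht
    have e0 := hy.step1 hk2 hk3 hs ht
    have e1 := hy.step1 hk2 hk3 (isMin_twist hs hy.1 1) ht
    rw [one_smul, one_pow, one_smul] at e1
    have e2 : t * y * (s + (y * s - s * y) - y * s * y) * t =
        t * y * s * t + t * (y * y) * s * t - t * (y * s * y) * t - t * (y * y) * s * y * t := by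
      noncomm_ring
    have e3 : t * (s + (y * s - s * y) - y * s * y) * y * t =
        t * s * y * t + t * (y * s * y) * t - t * s * (y * y) * t - t * y * s * (y * y) * t := by
      noncomm_ring
    rw [e2, e3, hyy, e0] at e1
    simp only [mul_zero, zero_mul, add_zero, sub_zero] at e1
    have e4 : (2 : k) • (t * (y * s * y) * t) = 0 := by
      have : (2 : k) • (t * (y * s * y) * t) = (t * s * y * t + t * (y * s * y) * t) -
        (t * s * y * t - t * (y * s * y) * t) := by module
      rw [this, e1, sub_self]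
    exact (smul_eq_zero.1 e4).resolve_left h2
  refine hne (eq_zero_of_family hG {κ | ∃ g ∈ G, κ = (g : M →ₗ[k] M) * (y * s * y) *
    ((g⁻¹ : LinearMap.GeneralLinearGroup k M) : M →ₗ[k] M)} ?_ ?_ ?_ _ ⟨1, G.one_mem, by simp⟩)
  · rintro _ ⟨g, hg, rfl⟩
    exact hκ.conj hg
  · rintro _ ⟨g, hg, rfl⟩ h hh
    refine ⟨h * g, G.mul_mem hh hg, ?_⟩
    rw [mul_inv_rev, Units.val_mul, Units.val_mul]
    simp only [mul_assoc]
  · rintro _ ⟨g, hg, rfl⟩ _ ⟨h, hh, rfl⟩
    have e1 := ht _ ((hmin.conj hg).conj (G.inv_mem hh))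
    rw [inv_inv] at e1
    set ν := (g : M →ₗ[k] M) * (y * s * y) *
      ((g⁻¹ : LinearMap.GeneralLinearGroup k M) : M →ₗ[k] M) with hνd
    have e2 : ν * ((h : M →ₗ[k] M) * (y * s * y) *
        ((h⁻¹ : LinearMap.GeneralLinearGroup k M) : M →ₗ[k] M)) * ν =
        (h : M →ₗ[k] M) * ((((h⁻¹ : LinearMap.GeneralLinearGroup k M) : M →ₗ[k] M) * ν *
          (h : M →ₗ[k] M)) * (y * s * y) *
          (((h⁻¹ : LinearMap.GeneralLinearGroup k M) : M →ₗ[k] M) * ν * (h : M →ₗ[k] M))) *
          ((h⁻¹ : LinearMap.GeneralLinearGroup k M) : M →ₗ[k] M) := by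
      have e3 : (h : M →ₗ[k] M) * ((((h⁻¹ : LinearMap.GeneralLinearGroup k M) : M →ₗ[k] M) * ν *
          (h : M →ₗ[k] M)) * (y * s * y) *
          (((h⁻¹ : LinearMap.GeneralLinearGroup k M) : M →ₗ[k] M) * ν * (h : M →ₗ[k] M))) *
          ((h⁻¹ : LinearMap.GeneralLinearGroup k M) : M →ₗ[k] M) =
          ((h : M →ₗ[k] M) * ((h⁻¹ : LinearMap.GeneralLinearGroup k M) : M →ₗ[k] M)) * ν *
          (h : M →ₗ[k] M) * (y * s * y) *
          ((h⁻¹ : LinearMap.GeneralLinearGroup k M) : M →ₗ[k] M) * ν *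
          ((h : M →ₗ[k] M) * ((h⁻¹ : LinearMap.GeneralLinearGroup k M) : M →ₗ[k] M)) := by
        simp only [mul_assoc]
      rw [e3, Units.mul_inv, one_mul, mul_one]
      simp only [mul_assoc]
    rw [e2, e1]; simp

lemma QP.conj {y : M →ₗ[k] M} (hy : QP G y) {g : LinearMap.GeneralLinearGroup k M} (hg : g ∈ G) :
    QP G ((g : M →ₗ[k] M) * y * ((g⁻¹ : LinearMap.GeneralLinearGroup k M) : M →ₗ[k] M)) := by
  refine ⟨hy.1.conj hg, fun s hs => ?_⟩
  obtain ⟨n, hn⟩ := hy.2 _ (hs.conj (G.inv_mem hg))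
  rw [inv_inv] at hn
  refine ⟨n, ?_⟩
  have e : s * ((g : M →ₗ[k] M) * y * ((g⁻¹ : LinearMap.GeneralLinearGroup k M) : M →ₗ[k] M)) =
      (g : M →ₗ[k] M) * ((((g⁻¹ : LinearMap.GeneralLinearGroup k M) : M →ₗ[k] M) * s *
        (g : M →ₗ[k] M)) * y) * ((g⁻¹ : LinearMap.GeneralLinearGroup k M) : M →ₗ[k] M) := by
    have : (g : M →ₗ[k] M) * ((((g⁻¹ : LinearMap.GeneralLinearGroup k M) : M →ₗ[k] M) * s *
        (g : M →ₗ[k] M)) * y) * ((g⁻¹ : LinearMap.GeneralLinearGroup k M) : M →ₗ[k] M) =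
        ((g : M →ₗ[k] M) * ((g⁻¹ : LinearMap.GeneralLinearGroup k M) : M →ₗ[k] M)) * s *
        (g : M →ₗ[k] M) * y * ((g⁻¹ : LinearMap.GeneralLinearGroup k M) : M →ₗ[k] M) := by
      simp only [mul_assoc]
    rw [this, Units.mul_inv, one_mul]
    simp only [mul_assoc]
  rw [e, Units.conj_pow, hn]
  simp

/-- Step (3): `ys - sy` is again in `QP`. -/
lemma QP.step3 [FiniteDimensional k M] (hk2 : ringChar k ≠ 2) (hk3 : Nat.card k ≠ 3)
    (hG : IsIrreducibleFor G) {s y : M →ₗ[k] M} (hy : QP G y) (hs : IsMin G s) :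
    QP G (y * s - s * y) := by
  refine ⟨(hy.step2 hk2 hk3 hG hs).2, fun t ht => ⟨2, ?_⟩⟩
  have h1 := hy.step1 hk2 hk3 hs ht
  have e : (t * (y * s - s * y)) ^ 2 = (t * y * s * t - t * s * y * t) * (y * s - s * y) := by
    rw [pow_two]; noncomm_ring
  rw [e, h1, sub_self, zero_mul]

/-- **`QP` elements commute with all minimal elements.** -/
theorem QP.commute [FiniteDimensional k M] (hk2 : ringChar k ≠ 2) (hk3 : Nat.card k ≠ 3)
    (hG : IsIrreducibleFor G) {s y : M →ₗ[k] M} (hy : QP G y) (hs : IsMin G s) :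
    s * y = y * s := by
  have key := eq_zero_of_family hG
    {ν | ∃ y s : M →ₗ[k] M, QP G y ∧ IsMin G s ∧ ν = y * s - s * y} ?_ ?_ ?_ _
    ⟨y, s, hy, hs, rfl⟩
  · exact (sub_eq_zero.1 key).symm
  · rintro _ ⟨y, s, hy, hs, rfl⟩
    exact (hy.step2 hk2 hk3 hG hs).2
  · rintro _ ⟨y, s, hy, hs, rfl⟩ g hg
    refine ⟨_, _, hy.conj hg, hs.conj hg, ?_⟩
    have e1 : ∀ a b : M →ₗ[k] M, (g : M →ₗ[k] M) * a *
        ((g⁻¹ : LinearMap.GeneralLinearGroup k M) : M →ₗ[k] M) * ((g : M →ₗ[k] M) * b *
        ((g⁻¹ : LinearMap.GeneralLinearGroup k M) : M →ₗ[k] M)) = (g : M →ₗ[k] M) * (a * b) *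
        ((g⁻¹ : LinearMap.GeneralLinearGroup k M) : M →ₗ[k] M) := by
      intro a b
      have : (g : M →ₗ[k] M) * a *
        ((g⁻¹ : LinearMap.GeneralLinearGroup k M) : M →ₗ[k] M) * ((g : M →ₗ[k] M) * b *
        ((g⁻¹ : LinearMap.GeneralLinearGroup k M) : M →ₗ[k] M)) = (g : M →ₗ[k] M) * a *
        (((g⁻¹ : LinearMap.GeneralLinearGroup k M) : M →ₗ[k] M) * (g : M →ₗ[k] M)) * b *
        ((g⁻¹ : LinearMap.GeneralLinearGroup k M) : M →ₗ[k] M) := by simp only [mul_assoc]
      rw [this, Units.inv_mul, mul_one]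
      simp only [mul_assoc]
    rw [e1, e1, mul_sub, sub_mul]
  · rintro _ ⟨y, s, hy, hs, rfl⟩ _ ⟨y', s', hy', hs', rfl⟩
    have hν := hy.step3 hk2 hk3 hG hs
    have h0 := (hy'.step2 hk2 hk3 hG hs').1
    have h1 := (hν.step2 hk2 hk3 hG hs').1
    have h2 := (hν.step2 hk2 hk3 hG (isMin_twist hs' hy'.1 1)).1
    rw [h0, smul_zero, sub_zero, one_smul, mul_add, add_mul, h1, zero_add] at h2
    exact h2

/-- The form used later. -/
theorem commute_of_forall_nilpotent [FiniteDimensional k M] (hk2 : ringChar k ≠ 2)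
    (hk3 : Nat.card k ≠ 3) (hG : IsIrreducibleFor G) {y : M →ₗ[k] M} (hy : QIn G y)
    (h : ∀ s : M →ₗ[k] M, IsMin G s → IsNilpotent (s * y)) :
    ∀ s : M →ₗ[k] M, IsMin G s → s * y = y * s :=
  fun _ hs => QP.commute hk2 hk3 hG ⟨hy, h⟩ hs

end QPrime

end Cfsg.Agent.H740
end

-- part: H740/Split
section
/-!
# Splitting quadratic elements into minimal ones; `G = G₀ C_G(G₀)`
-/

set_option autoImplicit false

namespace Cfsg.Agent.H740

open Cfsg

section Split

variable {k : Type*} [Field k] {M : Type*} [AddCommGroup M] [Module k M] [FiniteDimensional k M]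
  {G : Subgroup (LinearMap.GeneralLinearGroup k M)}

/-- The rank drops when a minimal summand is split off. -/
lemma finrank_lt_of_split {r r₁ r₀ s t : M →ₗ[k] M} (hr : r = r₁ + r₀) (h10 : r₁ * r₀ = 0)
    (h01 : r₀ * r₁ = 0) (hs0 : s * r₀ = 0) (h0s : r₀ * s = 0) (hr1 : r₁ ≠ 0)
    (hk : LinearMap.ker t = LinearMap.ker r₁) (hran : LinearMap.range t = LinearMap.range r₁)
    (htst : t * s * t = t) (htt : t * t = 0) :
    Module.finrank k (LinearMap.range r₀) < Module.finrank k (LinearMap.range r) := by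
  have ht0 : t * r₀ = 0 := by
    ext m
    have : r₀ m ∈ LinearMap.ker r₁ := by
      rw [LinearMap.mem_ker, ← Module.End.mul_apply, h10, LinearMap.zero_apply]
    rw [← hk, LinearMap.mem_ker] at this
    rw [Module.End.mul_apply, this, LinearMap.zero_apply]
  have h0t : r₀ * t = 0 := by
    ext m
    have : t m ∈ LinearMap.range r₁ := by rw [← hran]; exact ⟨m, rfl⟩
    obtain ⟨m', hm'⟩ := this
    rw [Module.End.mul_apply, ← hm', ← Module.End.mul_apply, h01, LinearMap.zero_apply,
      LinearMap.zero_apply]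
  -- `r₁ (1 - ts) = 0`
  have h1 : ∀ m, r₁ m = r₁ (t (s m)) + r₁ (s (t m)) := by
    intro m
    have hmem : m - t (s m) - s (t m) ∈ LinearMap.ker t := by
      rw [LinearMap.mem_ker, map_sub, map_sub]
      have e1 : t (t (s m)) = 0 := by
        rw [← Module.End.mul_apply, htt, LinearMap.zero_apply]
      have e2 : t (s (t m)) = t m := by
        have := LinearMap.congr_fun htst m
        simpa only [Module.End.mul_apply] using this
      rw [e1, e2]; simp
    rw [hk, LinearMap.mem_ker, map_sub, map_sub, sub_sub, sub_eq_zero] at hmem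
    exact hmem
  have hr1' : ∀ m, r₁ m = r (s (t m)) := by
    intro m
    have e1 : r₁ (t (s m)) = 0 := by
      have : t (s m) ∈ LinearMap.ker r₁ := by
        rw [← hk, LinearMap.mem_ker, ← Module.End.mul_apply, htt, LinearMap.zero_apply]
      exact this
    rw [h1 m, e1, zero_add, hr, LinearMap.add_apply]
    have e2 : r₀ (s (t m)) = 0 := by
      rw [← Module.End.mul_apply, h0s, LinearMap.zero_apply]
    rw [e2, add_zero]
  have hr0' : ∀ m, r₀ m = r (m - s (t m)) := by
    intro m
    rw [map_sub, ← hr1', hr, LinearMap.add_apply]; abel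
  have hle0 : LinearMap.range r₀ ≤ LinearMap.range r := by
    rintro _ ⟨m, rfl⟩
    exact ⟨_, (hr0' m).symm⟩
  have hle1 : LinearMap.range r₁ ≤ LinearMap.range r := by
    rintro _ ⟨m, rfl⟩
    exact ⟨_, (hr1' m).symm⟩
  have hdisj : LinearMap.range r₁ ⊓ LinearMap.range r₀ = ⊥ := by
    rw [eq_bot_iff]
    rintro x ⟨hx1, ⟨y, hy⟩⟩
    rw [← hran] at hx1
    obtain ⟨z, hz⟩ := hx1
    have e1 : s x = 0 := by
      rw [← hy, ← Module.End.mul_apply, hs0, LinearMap.zero_apply]
    have e2 : x = t (s x) := by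
      rw [← hz]
      have := LinearMap.congr_fun htst z
      simpa only [Module.End.mul_apply] using this.symm
    rw [Submodule.mem_bot, e2, e1, map_zero]
  have h2 := Submodule.finrank_sup_add_finrank_inf_eq (LinearMap.range r₁) (LinearMap.range r₀)
  rw [hdisj, finrank_bot, add_zero] at h2
  have h3 := Submodule.finrank_mono (sup_le hle1 hle0)
  have h4 : 0 < Module.finrank k (LinearMap.range r₁) := by
    rw [Module.finrank_pos_iff_exists_ne_zero]
    by_contra hno
    push Not at hno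
    apply hr1
    ext m
    have := hno ⟨r₁ m, ⟨m, rfl⟩⟩
    simpa using congrArg Subtype.val this
  omega

/-- An element commuting with all minimal elements centralises all root subgroups. -/
lemma mem_centralizer_of_commute {x : M →ₗ[k] M} (hx : QIn G x)
    (h : ∀ s : M →ₗ[k] M, IsMin G s → s * x = x * s) :
    oneAdd x hx.1 ∈ G ⊓ Subgroup.centralizer
      ((⨆ A ∈ quadraticRootSubgroups G, A : Subgroup (LinearMap.GeneralLinearGroup k M)) :
        Set (LinearMap.GeneralLinearGroup k M)) := by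
  refine Subgroup.mem_inf.2 ⟨hx.mem_one, Subgroup.mem_centralizer_iff.2 ?_⟩
  have hle : (⨆ A ∈ quadraticRootSubgroups G, A) ≤
      Subgroup.centralizer {oneAdd x hx.1} := by
    refine iSup₂_le ?_
    rintro _ ⟨σ, hσ, rfl⟩
    intro τ hτ
    rw [Subgroup.mem_centralizer_singleton_iff]
    by_cases h1 : τ = 1
    · rw [h1]; simp
    · have hmin := mem_minimalQuadraticElements_iff.1 (mem_minimal_of_mem hσ hτ h1)
      have h2 := h _ hmin
      apply Units.ext
      rw [Units.val_mul, Units.val_mul, coe_oneAdd, mul_add, mul_one, add_mul, one_mul]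
      rw [sub_mul, mul_sub, one_mul, mul_one, sub_left_inj] at h2
      rw [h2]
  intro τ hτ
  have := hle hτ
  rw [Subgroup.mem_centralizer_singleton_iff] at this
  exact this

/-- **Each quadratic element lies in `G₀ C_G(G₀)`.** -/
theorem mem_sup_centralizer (hk2 : ringChar k ≠ 2) (hk3 : Nat.card k ≠ 3)
    (hG : IsIrreducibleFor G) : ∀ (n : ℕ) (x : M →ₗ[k] M) (hx : QIn G x),
      Module.finrank k (LinearMap.range x) = n →
      oneAdd x hx.1 ∈ (⨆ A ∈ quadraticRootSubgroups G, A) ⊔ (G ⊓ Subgroup.centralizer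
        ((⨆ A ∈ quadraticRootSubgroups G, A : Subgroup (LinearMap.GeneralLinearGroup k M)) :
          Set (LinearMap.GeneralLinearGroup k M))) := by
  intro n
  induction n using Nat.strong_induction_on with
  | _ n ih =>
    intro x hx hn
    by_cases hnil : ∀ s : M →ₗ[k] M, IsMin G s → IsNilpotent (s * x)
    · exact Subgroup.mem_sup_right (mem_centralizer_of_commute hx
        (commute_of_forall_nilpotent hk2 hk3 hG hx hnil))
    · push Not at hnil
      obtain ⟨s, hs, hsx⟩ := hnil
      obtain ⟨r₁, r₀, t, hr, h10, h01, hs0, h0s, hr1, hr0, ht, hk, hran, hsts, htst⟩ :=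
        H731.T2 hk2 hk3 hs hx hsx
      have hlt := finrank_lt_of_split hr h10 h01 hs0 h0s hr1.ne_zero hk hran htst ht.sq
      rw [hn] at hlt
      have hprod : oneAdd x hx.1 = oneAdd r₁ hr1.1.1 * oneAdd r₀ hr0.1 := by
        apply Units.ext
        rw [Units.val_mul, coe_oneAdd, coe_oneAdd, coe_oneAdd, mul_add, mul_one, add_mul, one_mul,
          h10, hr]
        abel
      rw [hprod]
      refine Subgroup.mul_mem _ (Subgroup.mem_sup_left ?_) (ih _ hlt r₀ hr0 rfl)
      exact (le_iSup₂_of_le (f := fun A (_ : A ∈ quadraticRootSubgroups G) => A)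
        (sameActionSubgroup G (oneAdd r₁ hr1.1.1)) ⟨_, oneAdd_mem_minimal hr1, rfl⟩ le_rfl)
        (self_mem_sameActionSubgroup (oneAdd_mem_minimal hr1))

end Split

end Cfsg.Agent.H740
end

-- part: S5074
section
set_option autoImplicit false
universe u
open Cfsg

namespace Cfsg.Agent.S5074

/-- Let k be a field of characteristic not 2 with k not of order 3, M a finite-dimensional k-vector space and G ≤ GL(M) such that (G, M) is a quadratic pair (M irreducible for G, and G generated by its quadratically acting elements σ whose scalar family 1 + c(σ − 1), c ∈ k, lies in G). Write 𝒬_d for the quadratic elements of G of minimal commutator rank, E(σ) for the subgroup generated by the members of 𝒬_d with the same fixed space and commutator space as σ, and Σ for the set of these subgroups. Then G is the product of the subgroup G₀ generated by Σ with the centralizer of G₀ in G. -/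
theorem result {k : Type u} [Field k] (hk2 : ringChar k ≠ 2) (hk3 : Nat.card k ≠ 3)
    {M : Type u} [AddCommGroup M] [Module k M] [FiniteDimensional k M]
    {G : Subgroup (LinearMap.GeneralLinearGroup k M)} (hG : Cfsg.IsQuadraticPair G) :
    (⨆ A ∈ Cfsg.quadraticRootSubgroups G, A) ⊔
      (G ⊓ Subgroup.centralizer ((⨆ A ∈ Cfsg.quadraticRootSubgroups G, A : Subgroup (LinearMap.GeneralLinearGroup k M)) : Set (LinearMap.GeneralLinearGroup k M))) = G := by
  apply le_antisymm
  · refine sup_le (iSup₂_le ?_) inf_le_left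
    rintro _ ⟨σ, hσ, rfl⟩
    exact H740.sameActionSubgroup_le hσ
  · nth_rw 1 [← hG.2]
    rw [Subgroup.closure_le]
    intro x hx
    have hx' := H740.mem_quadraticElements_iff.1 hx
    have h1 := H740.mem_sup_centralizer hk2 hk3 hG.1 _ _ hx'.1 rfl
    have h2 : H740.oneAdd ((x : M →ₗ[k] M) - 1) hx'.1.1 = x := by
      apply Units.ext
      rw [H740.coe_oneAdd]; abel
    rw [h2] at h1
    exact h1

end Cfsg.Agent.S5074
end
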