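import Mathlib
import Cfsg.Agent.H740.Quad
import Cfsg.Agent.H731.RankOne
import Cfsg.Agent.H731.QuadT2
import Cfsg.Agent.H742.SubOf
import Cfsg.Agent.S5074
import Cfsg.Agent.S5069
import Cfsg.Agent.SignalizersComponents.Components
import Cfsg.Statements.S5063
set_option linter.all false

-- part: H740/Dichotomy
section
/-!
# Quadratic elements lie in a component or centralise all of them
-/

set_option autoImplicit false

universe u

namespace Cfsg.Agent.H740

open Cfsg

section Dich

variable {k : Type u} [Field k] {M : Type u} [AddCommGroup M] [Module k M] [FiniteDimensional k M]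
  {G : Subgroup (LinearMap.GeneralLinearGroup k M)}

/-- Data of the decomposition of `Σ(G)` into parts (from S5069). -/
structure Parts (G : Subgroup (LinearMap.GeneralLinearGroup k M)) (r : ℕ)
    (part : Fin r → Set (Subgroup (LinearMap.GeneralLinearGroup k M))) : Prop where
  union : (⋃ i, part i) = quadraticRootSubgroups G
  comm : ∀ i j, i ≠ j → ⁅(⨆ A ∈ part i, A), (⨆ A ∈ part j, A)⁆ = ⊥
  quasi : ∀ i, IsQuasisimple ↥(⨆ A ∈ part i, A)
  nonempty : ∀ i, (part i).Nonempty
  conj : ∀ i, ∀ A ∈ part i, ∀ B ∈ part i, ∃ g ∈ (⨆ A ∈ part i, A), B = conjBy A g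
  normal : ∀ i, ∀ g ∈ G, conjBy (⨆ A ∈ part i, A) g = ⨆ A ∈ part i, A

omit [FiniteDimensional k M] in
lemma Parts.le {r : ℕ} {part : Fin r → Set (Subgroup (LinearMap.GeneralLinearGroup k M))}
    (_ : Parts G r part) {i : Fin r} {A : Subgroup (LinearMap.GeneralLinearGroup k M)}
    (hA : A ∈ part i) : A ≤ ⨆ A ∈ part i, A := le_iSup₂_of_le A hA le_rfl

omit [FiniteDimensional k M] in
lemma Parts.mem {r : ℕ} {part : Fin r → Set (Subgroup (LinearMap.GeneralLinearGroup k M))}
    (hP : Parts G r part) {i : Fin r} {A : Subgroup (LinearMap.GeneralLinearGroup k M)}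
    (hA : A ∈ part i) : A ∈ quadraticRootSubgroups G := by
  rw [← hP.union]; exact Set.mem_iUnion.2 ⟨i, hA⟩

omit [FiniteDimensional k M] in
lemma Parts.exists {r : ℕ} {part : Fin r → Set (Subgroup (LinearMap.GeneralLinearGroup k M))}
    (hP : Parts G r part) {A : Subgroup (LinearMap.GeneralLinearGroup k M)}
    (hA : A ∈ quadraticRootSubgroups G) : ∃ i, A ∈ part i := by
  rw [← hP.union] at hA; exact Set.mem_iUnion.1 hA

lemma Parts.ne_bot {r : ℕ} {part : Fin r → Set (Subgroup (LinearMap.GeneralLinearGroup k M))}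
    (hP : Parts G r part) (i : Fin r) : (⨆ A ∈ part i, A) ≠ ⊥ := by
  intro h
  obtain ⟨A, hA⟩ := hP.nonempty i
  obtain ⟨σ, hσ, rfl⟩ := hP.mem hA
  have h1 : σ ∈ (⨆ A ∈ part i, A) := hP.le hA (self_mem_sameActionSubgroup hσ)
  rw [h, Subgroup.mem_bot] at h1
  have h2 := (mem_minimalQuadraticElements_iff.1 hσ).ne_zero
  rw [h1] at h2
  exact h2 (by simp)

/-- The parts exist. -/
theorem exists_parts (hk2 : ringChar k ≠ 2) (hk3 : Nat.card k ≠ 3) (hG : IsQuadraticPair G) :
    ∃ (r : ℕ) (part : Fin r → Set (Subgroup (LinearMap.GeneralLinearGroup k M))),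
      Parts G r part := by
  obtain ⟨r, part, h1, h2, h3, h4, h5⟩ := S5069.result hk2 hk3 hG
  have hG0 := S5074.result hk2 hk3 hG
  refine ⟨r, part, h1, h4, fun i => (h5 i).1, h3, ?_, ?_⟩
  · intro i A hA B hB
    obtain ⟨g, hg⟩ := (h5 i).2.1.2.2 _ ⟨A, hA, rfl⟩ _ ⟨B, hB, rfl⟩
    refine ⟨(g : LinearMap.GeneralLinearGroup k M), g.2, ?_⟩
    have hAle : A ≤ ⨆ A ∈ part i, A := le_iSup₂_of_le A hA le_rfl
    have hBle : B ≤ ⨆ A ∈ part i, A := le_iSup₂_of_le B hB le_rfl
    simp only at hg
    rw [H742.conjBy_subgroupOf] at hg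
    refine (H742.subgroupOf_inj_iff hBle ?_).1 hg
    have hc : conjBy (⨆ A ∈ part i, A) (g : LinearMap.GeneralLinearGroup k M) =
      ⨆ A ∈ part i, A := H731.conjBy_of_mem g.2
    exact ((H731.conjBy_le_conjBy).2 hAle).trans hc.le
  · intro i g hg
    have key : G ≤ Subgroup.normalizer
        ((⨆ A ∈ part i, A : Subgroup (LinearMap.GeneralLinearGroup k M)) : Set _) := by
      rw [← hG0]
      refine sup_le (iSup₂_le ?_) ?_
      · intro A hA
        rw [← h1] at hA
        obtain ⟨j, hj⟩ := Set.mem_iUnion.1 hA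
        have hAj : A ≤ ⨆ A ∈ part j, A := le_iSup₂_of_le A hj le_rfl
        by_cases hij : j = i
        · subst hij
          exact hAj.trans Subgroup.le_normalizer
        · refine H731.le_normalizer_of_conjBy fun a ha => ?_
          refine H731.conjBy_of_commute fun x hx => ?_
          exact (H731.commutator_eq_bot_iff_forall.1 (h4 j i hij)) a (hAj ha) x hx
      · intro c hc
        have hc2 := Subgroup.mem_centralizer_iff.1 hc.2
        rw [H731.mem_normalizer_iff_conjBy]
        refine H731.conjBy_of_commute fun x hx => ?_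
        refine (hc2 x ?_).symm
        refine (iSup₂_le ?_ : (⨆ A ∈ part i, A) ≤ ⨆ A ∈ quadraticRootSubgroups G, A) hx
        intro A hA
        refine le_iSup₂_of_le A ?_ le_rfl
        rw [← h1]; exact Set.mem_iUnion.2 ⟨i, hA⟩
    exact H731.mem_normalizer_iff_conjBy.1 (key hg)

/-- An element commuting with all minimal elements commutes with all `G_i`. -/
lemma commute_of_forall {y : M →ₗ[k] M} (hy : ∀ s : M →ₗ[k] M, IsMin G s → s * y = y * s)
    {r : ℕ} {part : Fin r → Set (Subgroup (LinearMap.GeneralLinearGroup k M))}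
    (hP : Parts G r part) (i : Fin r) : ∀ g ∈ (⨆ A ∈ part i, A),
      (g : M →ₗ[k] M) * y = y * (g : M →ₗ[k] M) := by
  intro g hg
  rw [iSup_subtype'] at hg
  refine Subgroup.iSup_induction _ (C := fun g : LinearMap.GeneralLinearGroup k M =>
    (g : M →ₗ[k] M) * y = y * (g : M →ₗ[k] M)) hg ?_ ?_ ?_
  · rintro ⟨A, hA⟩ a ha
    obtain ⟨σ, hσ, rfl⟩ := hP.mem hA
    by_cases h1 : a = 1
    · rw [h1]; simp
    · have := hy _ (mem_minimalQuadraticElements_iff.1 (mem_minimal_of_mem hσ ha h1))
      rw [sub_mul, mul_sub, one_mul, mul_one, sub_left_inj] at this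
      exact this
  · simp
  · intro a b ha hb
    rw [Units.val_mul, mul_assoc, hb, ← mul_assoc, ha, mul_assoc]

/-- If `r₁ ∈ G_i` is minimal, `r₁ r₀ = 0` and `r₀` commutes with `G_i`, then `r₀ = 0`. -/
lemma eq_zero_of_commute (hG : IsIrreducibleFor G)
    {r : ℕ} {part : Fin r → Set (Subgroup (LinearMap.GeneralLinearGroup k M))}
    (hP : Parts G r part) {i : Fin r} {r₁ r₀ : M →ₗ[k] M} (h1 : IsMin G r₁)
    (hi : sameActionSubgroup G (oneAdd r₁ h1.1.1) ∈ part i) (h10 : r₁ * r₀ = 0)
    (hc : ∀ g ∈ (⨆ A ∈ part i, A), (g : M →ₗ[k] M) * r₀ = r₀ * (g : M →ₗ[k] M)) : r₀ = 0 := by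
  ext m
  rw [LinearMap.zero_apply]
  refine eq_zero_of_fixed hG (hP.ne_bot i) ?_ ?_
  · intro g hg h hh
    have := hP.normal i g hg
    rw [← this]
    exact H731.conj_mem_conjBy hh g
  · have hfix : ∀ b : LinearMap.GeneralLinearGroup k M, ∀ m : M,
        b ∈ (⨆ A ∈ part i, A) → (b : M →ₗ[k] M) (r₀ m) = r₀ m := by
      intro b m hb
      rw [iSup_subtype'] at hb
      refine Subgroup.iSup_induction _ (C := fun b : LinearMap.GeneralLinearGroup k M =>
        (b : M →ₗ[k] M) (r₀ m) = r₀ m) hb ?_ ?_ ?_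
      · rintro ⟨B, hB⟩ b hb
        obtain ⟨g, hg, hBg⟩ := hP.conj i _ hi B hB
        have hb' : b ∈ B := hb
        rw [hBg, H731.mem_conjBy, mem_sameActionSubgroup_iff (oneAdd_mem_minimal h1)] at hb'
        have hker := hb'.2.1
        rw [coe_oneAdd, add_sub_cancel_left] at hker
        -- `b (r₀ m) = g ((g⁻¹ b g) (r₀ (g⁻¹ m)))`
        have hmem : r₀ (((g⁻¹ : LinearMap.GeneralLinearGroup k M) : M →ₗ[k] M) m) ∈
            LinearMap.ker r₁ := by
          rw [LinearMap.mem_ker, ← Module.End.mul_apply, h10, LinearMap.zero_apply]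
        have h3 := hker hmem
        rw [LinearMap.mem_ker, LinearMap.sub_apply, Module.End.one_apply, sub_eq_zero] at h3
        have hginv := hc g⁻¹ (Subgroup.inv_mem _ hg)
        have e1 : r₀ (((g⁻¹ : LinearMap.GeneralLinearGroup k M) : M →ₗ[k] M) m) =
            ((g⁻¹ : LinearMap.GeneralLinearGroup k M) : M →ₗ[k] M) (r₀ m) := by
          rw [← Module.End.mul_apply, ← hginv, Module.End.mul_apply]
        rw [e1] at h3
        have h4 := congrArg (fun x => (g : M →ₗ[k] M) x) h3
        rw [self_apply_inv] at h4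
        rw [Units.val_mul, Units.val_mul, Module.End.mul_apply, Module.End.mul_apply,
          self_apply_inv, self_apply_inv] at h4
        exact h4
      · rfl
      · intro a b ha hb
        rw [Units.val_mul, Module.End.mul_apply, hb, ha]
    intro h hh
    exact hfix h m hh

/-- **Every quadratic element lies in one of the `G_i` or commutes with all of them.** -/
theorem dichotomy (hk2 : ringChar k ≠ 2) (hk3 : Nat.card k ≠ 3) (hG : IsQuadraticPair G)
    {r : ℕ} {part : Fin r → Set (Subgroup (LinearMap.GeneralLinearGroup k M))}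
    (hP : Parts G r part) : ∀ (n : ℕ) (x : M →ₗ[k] M) (hx : QIn G x),
      Module.finrank k (LinearMap.range x) = n →
      (∃ i, oneAdd x hx.1 ∈ (⨆ A ∈ part i, A)) ∨
        (∀ s : M →ₗ[k] M, IsMin G s → s * x = x * s) := by
  intro n
  induction n using Nat.strong_induction_on with
  | _ n ih =>
    intro x hx hn
    by_cases hnil : ∀ s : M →ₗ[k] M, IsMin G s → IsNilpotent (s * x)
    · right
      exact commute_of_forall_nilpotent hk2 hk3 hG.1 hx hnil
    · push Not at hnil
      obtain ⟨s, hs, hsx⟩ := hnil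
      obtain ⟨r₁, r₀, t, hr, h10, h01, hs0, h0s, hr1, hr0, ht, hk, hran, hsts, htst⟩ :=
        H731.T2 hk2 hk3 hs hx hsx
      left
      obtain ⟨i, hi⟩ := hP.exists (⟨_, oneAdd_mem_minimal hr1, rfl⟩ :
        sameActionSubgroup G (oneAdd r₁ hr1.1.1) ∈ quadraticRootSubgroups G)
      have hmem1 : oneAdd r₁ hr1.1.1 ∈ (⨆ A ∈ part i, A) :=
        hP.le hi (self_mem_sameActionSubgroup (oneAdd_mem_minimal hr1))
      have hlt := finrank_lt_of_split hr h10 h01 hs0 h0s hr1.ne_zero hk hran htst ht.sq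
      rw [hn] at hlt
      have hprod : oneAdd x hx.1 = oneAdd r₁ hr1.1.1 * oneAdd r₀ hr0.1 := by
        apply Units.ext
        rw [Units.val_mul, coe_oneAdd, coe_oneAdd, coe_oneAdd, mul_add, mul_one, add_mul, one_mul,
          h10, hr]
        abel
      have hzero : r₀ = 0 → oneAdd x hx.1 = oneAdd r₁ hr1.1.1 := by
        intro h
        apply Units.ext
        rw [coe_oneAdd, coe_oneAdd, hr, h, add_zero]
      refine ⟨i, ?_⟩
      rcases ih _ hlt r₀ hr0 rfl with ⟨l, hl⟩ | hcomm
      · by_cases hli : l = i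
        · subst hli
          rw [hprod]
          exact Subgroup.mul_mem _ hmem1 hl
        · have h0 : r₀ = 0 := by
            refine eq_zero_of_commute hG.1 hP hr1 hi h10 fun g hg => ?_
            have h1 := (H731.commutator_eq_bot_iff_forall.1 (hP.comm l i hli)) _ hl g hg
            have h2 := congrArg Units.val h1
            rw [Units.val_mul, Units.val_mul, coe_oneAdd, add_mul, mul_add, one_mul, mul_one,
              add_right_inj] at h2
            exact h2.symm
          rw [hzero h0]; exact hmem1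
      · have h0 : r₀ = 0 :=
          eq_zero_of_commute hG.1 hP hr1 hi h10 (commute_of_forall hcomm hP i)
        rw [hzero h0]; exact hmem1

end Dich

end Cfsg.Agent.H740
end

-- part: H740/Restrict
section
/-!
# Restriction of a linear group to an invariant subspace
-/

set_option autoImplicit false

namespace Cfsg.Agent.H740

open Cfsg

section Restrict

variable {k : Type*} [Field k] {M : Type*} [AddCommGroup M] [Module k M]

/-- The stabiliser of a subspace. -/
def stab (S : Submodule k M) : Subgroup (LinearMap.GeneralLinearGroup k M) where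
  carrier := {g | (∀ w ∈ S, (g : M →ₗ[k] M) w ∈ S) ∧
    ∀ w ∈ S, ((g⁻¹ : LinearMap.GeneralLinearGroup k M) : M →ₗ[k] M) w ∈ S}
  one_mem' := ⟨fun w hw => hw, fun w hw => by simpa using hw⟩
  mul_mem' := by
    rintro a b ⟨ha, ha'⟩ ⟨hb, hb'⟩
    refine ⟨fun w hw => ?_, fun w hw => ?_⟩
    · rw [Units.val_mul, Module.End.mul_apply]; exact ha _ (hb _ hw)
    · rw [mul_inv_rev, Units.val_mul, Module.End.mul_apply]; exact hb' _ (ha' _ hw)
  inv_mem' := by
    rintro a ⟨ha, ha'⟩
    exact ⟨ha', by rw [inv_inv]; exact ha⟩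

lemma mem_stab {S : Submodule k M} {g : LinearMap.GeneralLinearGroup k M} :
    g ∈ stab S ↔ (∀ w ∈ S, (g : M →ₗ[k] M) w ∈ S) ∧
    ∀ w ∈ S, ((g⁻¹ : LinearMap.GeneralLinearGroup k M) : M →ₗ[k] M) w ∈ S := Iff.rfl

lemma le_stab {S : Submodule k M} {C : Subgroup (LinearMap.GeneralLinearGroup k M)}
    (h : ∀ g ∈ C, ∀ w ∈ S, (g : M →ₗ[k] M) w ∈ S) : C ≤ stab S :=
  fun g hg => ⟨h g hg, h g⁻¹ (C.inv_mem hg)⟩

variable {C : Subgroup (LinearMap.GeneralLinearGroup k M)} {W : Submodule k M}

/-- The restriction hom to endomorphisms. -/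
def resEnd (hW : C ≤ stab W) : ↥C →* (↥W →ₗ[k] ↥W) where
  toFun c := ((c : LinearMap.GeneralLinearGroup k M) : M →ₗ[k] M).restrict
    (fun w hw => (hW c.2).1 w hw)
  map_one' := by ext w; rfl
  map_mul' a b := by ext w; rfl

/-- **The restriction hom `C → GL(W)`.** -/
def res (hW : C ≤ stab W) : ↥C →* LinearMap.GeneralLinearGroup k ↥W := (resEnd hW).toHomUnits

lemma res_apply (hW : C ≤ stab W) (c : ↥C) (w : ↥W) :
    (((res hW c : LinearMap.GeneralLinearGroup k ↥W) : ↥W →ₗ[k] ↥W) w : M) =
      ((c : LinearMap.GeneralLinearGroup k M) : M →ₗ[k] M) w := rfl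

end Restrict

end Cfsg.Agent.H740
end

-- part: H740/Central
section
/-!
# Quadratic pairs: the group is a central product of quasisimple groups
-/

set_option autoImplicit false

universe u

namespace Cfsg.Agent.H740

open Cfsg

/-- The conclusion of S5063 with an arbitrary finite index type. -/
def CD {k : Type u} [Field k] {M : Type u} [AddCommGroup M] [Module k M]
    (G : Subgroup (LinearMap.GeneralLinearGroup k M)) : Prop :=
  ∃ (ι : Type) (_ : Finite ι) (Gi : ι → Subgroup (LinearMap.GeneralLinearGroup k M)),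
      (∀ i, Gi i ≤ G ∧ ∀ g ∈ G, conjBy (Gi i) g = Gi i) ∧ (∀ i j, i ≠ j → ⁅Gi i, Gi j⁆ = ⊥) ∧
      (⨆ i, Gi i) = G ∧
      (∀ i, IsQuasisimple ↥(Gi i) ∧ Subgroup.closure (quadraticElements G ∩
        (Gi i : Set (LinearMap.GeneralLinearGroup k M))) = Gi i) ∧
      quadraticElements G ⊆ ⋃ i, (Gi i : Set (LinearMap.GeneralLinearGroup k M))

section Step

variable {k : Type u} [Field k] {M : Type u} [AddCommGroup M] [Module k M] [FiniteDimensional k M]
  {G : Subgroup (LinearMap.GeneralLinearGroup k M)}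

/-- The quadratic elements commuting with all minimal ones. -/
def cX (G : Subgroup (LinearMap.GeneralLinearGroup k M)) :
    Set (LinearMap.GeneralLinearGroup k M) :=
  {x | x ∈ quadraticElements G ∧ ∀ s : M →ₗ[k] M, IsMin G s →
    s * ((x : M →ₗ[k] M) - 1) = ((x : M →ₗ[k] M) - 1) * s}

/-- The group generated by them. -/
def cG (G : Subgroup (LinearMap.GeneralLinearGroup k M)) :
    Subgroup (LinearMap.GeneralLinearGroup k M) := Subgroup.closure (cX G)

omit [FiniteDimensional k M] in
lemma cG_le : cG G ≤ G := by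
  rw [cG, Subgroup.closure_le]
  intro x hx
  exact hx.1.1

variable {r : ℕ} {part : Fin r → Set (Subgroup (LinearMap.GeneralLinearGroup k M))}

/-- `C` commutes with each `G_i`. -/
lemma cG_comm (hP : Parts G r part) (i : Fin r) : ∀ c ∈ cG G, ∀ g ∈ (⨆ A ∈ part i, A),
    c * g = g * c := by
  intro c hc g hg
  have : cG G ≤ Subgroup.centralizer
      ((⨆ A ∈ part i, A : Subgroup (LinearMap.GeneralLinearGroup k M)) : Set _) := by
    rw [cG, Subgroup.closure_le]
    intro x hx
    rw [SetLike.mem_coe, Subgroup.mem_centralizer_iff]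
    intro g hg
    have h1 := commute_of_forall hx.2 hP i g hg
    apply Units.ext
    rw [Units.val_mul, Units.val_mul]
    rw [mul_sub, sub_mul, mul_one, one_mul, sub_left_inj] at h1
    exact h1
  exact (Subgroup.mem_centralizer_iff.1 (this hc) g hg).symm

/-- The generation of `G`. -/
lemma le_sup_cG (hk2 : ringChar k ≠ 2) (hk3 : Nat.card k ≠ 3) (hG : IsQuadraticPair G)
    (hP : Parts G r part) {K : Subgroup (LinearMap.GeneralLinearGroup k M)}
    (h1 : ∀ i, (⨆ A ∈ part i, A) ≤ K) (h2 : cG G ≤ K) : G ≤ K := by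
  rw [← hG.2, Subgroup.closure_le]
  intro x hx
  have hx' := mem_quadraticElements_iff.1 hx
  rcases dichotomy hk2 hk3 hG hP _ _ hx'.1 rfl with ⟨i, hi⟩ | h
  · refine h1 i ?_
    have : oneAdd ((x : M →ₗ[k] M) - 1) hx'.1.1 = x := by
      apply Units.ext
      rw [coe_oneAdd]; abel
    rw [this] at hi
    exact hi
  · exact h2 (Subgroup.subset_closure ⟨hx, h⟩)

/-- Operators commuting with all `G_i` and vanishing on a nonzero `C`-invariant subspace vanish. -/
lemma eq_zero_of_restrict (hk2 : ringChar k ≠ 2) (hk3 : Nat.card k ≠ 3) (hG : IsQuadraticPair G)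
    (hP : Parts G r part) {W : Submodule k M} (hW : W ≠ ⊥)
    (hCW : cG G ≤ stab W) {y : M →ₗ[k] M}
    (hy : ∀ i, ∀ g ∈ (⨆ A ∈ part i, A), (g : M →ₗ[k] M) * y = y * (g : M →ₗ[k] M))
    (h0 : ∀ w ∈ W, y w = 0) : y = 0 := by
  -- the subspace of all m with `y (g m) = 0`... use the span of all `g w`, `g ∈ G_0`
  set G0 : Subgroup (LinearMap.GeneralLinearGroup k M) := ⨆ i, ⨆ A ∈ part i, A with hG0
  have hyG0 : ∀ g ∈ G0, (g : M →ₗ[k] M) * y = y * (g : M →ₗ[k] M) := by
    intro g hg
    rw [hG0] at hg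
    refine Subgroup.iSup_induction _ (C := fun g : LinearMap.GeneralLinearGroup k M =>
      (g : M →ₗ[k] M) * y = y * (g : M →ₗ[k] M)) hg hy (by simp) ?_
    intro a b ha hb
    rw [Units.val_mul, mul_assoc, hb, ← mul_assoc, ha, mul_assoc]
  have hCG0 : ∀ c ∈ cG G, ∀ g ∈ G0, c * g = g * c := by
    intro c hc g hg
    rw [hG0] at hg
    refine Subgroup.iSup_induction _ (C := fun g : LinearMap.GeneralLinearGroup k M =>
      c * g = g * c) hg (fun i g hg => cG_comm hP i c hc g hg) (by simp) ?_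
    intro a b ha hb
    rw [← mul_assoc, ha, mul_assoc, hb, mul_assoc]
  set S : Submodule k M := Submodule.span k {m | ∃ g ∈ G0, ∃ w ∈ W, m = (g : M →ₗ[k] M) w}
    with hS
  have hWS : W ≤ S := by
    intro w hw
    exact Submodule.subset_span ⟨1, G0.one_mem, w, hw, by simp⟩
  have hG0S : G0 ≤ stab S := by
    refine le_stab fun g hg w hw => ?_
    rw [hS] at hw
    refine Submodule.span_induction (p := fun w _ => (g : M →ₗ[k] M) w ∈ S) ?_ ?_ ?_ ?_ hw
    · rintro _ ⟨g', hg', w, hw, rfl⟩
      refine Submodule.subset_span ⟨g * g', G0.mul_mem hg hg', w, hw, ?_⟩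
      rw [Units.val_mul, Module.End.mul_apply]
    · rw [map_zero]; exact S.zero_mem
    · intro a b _ _ ha hb
      rw [map_add]; exact S.add_mem ha hb
    · intro c a _ ha
      rw [map_smul]; exact S.smul_mem c ha
  have hCS : cG G ≤ stab S := by
    refine le_stab fun g hg w hw => ?_
    rw [hS] at hw
    refine Submodule.span_induction (p := fun w _ => (g : M →ₗ[k] M) w ∈ S) ?_ ?_ ?_ ?_ hw
    · rintro _ ⟨g', hg', w, hw, rfl⟩
      refine Submodule.subset_span ⟨g', hg', (g : M →ₗ[k] M) w, (hCW hg).1 w hw, ?_⟩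
      rw [← Module.End.mul_apply, ← Units.val_mul, hCG0 g hg g' hg', Units.val_mul,
        Module.End.mul_apply]
    · rw [map_zero]; exact S.zero_mem
    · intro a b _ _ ha hb
      rw [map_add]; exact S.add_mem ha hb
    · intro c a _ ha
      rw [map_smul]; exact S.smul_mem c ha
  have hGS : G ≤ stab S := by
    refine le_sup_cG hk2 hk3 hG hP (fun i => ?_) hCS
    exact (le_iSup (fun i => ⨆ A ∈ part i, A) i).trans hG0S
  rcases hG.1.2 S (fun g hg w hw => (hGS hg).1 w hw) with h | h
  · exfalso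
    apply hW
    rw [eq_bot_iff, ← h]; exact hWS
  · ext m
    rw [LinearMap.zero_apply]
    have hm : m ∈ S := by rw [h]; trivial
    rw [hS] at hm
    refine Submodule.span_induction (p := fun w _ => y w = 0) ?_ ?_ ?_ ?_ hm
    · rintro _ ⟨g', hg', w, hw, rfl⟩
      rw [← Module.End.mul_apply, ← hyG0 g' hg', Module.End.mul_apply, h0 w hw, map_zero]
    · rw [map_zero]
    · intro a b _ _ ha hb
      rw [map_add, ha, hb, add_zero]
    · intro c a _ ha
      rw [map_smul, ha, smul_zero]

lemma cG_comm' (hP : Parts G r part) (i : Fin r) {c : LinearMap.GeneralLinearGroup k M}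
    (hc : c ∈ cG G) : ∀ g ∈ (⨆ A ∈ part i, A),
    (g : M →ₗ[k] M) * (c : M →ₗ[k] M) = (c : M →ₗ[k] M) * (g : M →ₗ[k] M) := by
  intro g hg
  rw [← Units.val_mul, ← Units.val_mul, cG_comm hP i c hc g hg]

omit [FiniteDimensional k M] in
lemma exists_isMin (h : (quadraticElements G).Nonempty) : ∃ N : M →ₗ[k] M, IsMin G N := by
  obtain ⟨σ0, hσ0⟩ := h
  obtain ⟨m, ⟨σ, hσ, hm⟩, hmin⟩ := (wellFounded_lt (α := ℕ)).has_min
    (commutatorRank '' quadraticElements G) ⟨_, σ0, hσ0, rfl⟩
  refine ⟨(σ : M →ₗ[k] M) - 1, mem_minimalQuadraticElements_iff.1 ⟨hσ, fun τ hτ => ?_⟩⟩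
  rw [hm]
  exact not_lt.1 (hmin _ ⟨τ, hτ, rfl⟩)

omit [FiniteDimensional k M] in
/-- Scalar multiples of members of `cX G` stay in `cG G`. -/
lemma smul_mem_cG {x : LinearMap.GeneralLinearGroup k M} (hx : x ∈ cX G) (c : k) :
    ∃ g ∈ cG G, (g : M →ₗ[k] M) = 1 + c • ((x : M →ₗ[k] M) - 1) := by
  have hx' := mem_quadraticElements_iff.1 hx.1
  refine ⟨oneAdd (c • ((x : M →ₗ[k] M) - 1)) (smul_sq hx'.1.1 c), ?_, rfl⟩
  by_cases h0 : c • ((x : M →ₗ[k] M) - 1) = 0
  · have : oneAdd (c • ((x : M →ₗ[k] M) - 1)) (smul_sq hx'.1.1 c) = 1 := by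
      apply Units.ext
      rw [coe_oneAdd, h0, add_zero, Units.val_one]
    rw [this]; exact Subgroup.one_mem _
  · refine Subgroup.subset_closure ⟨oneAdd_mem_quadraticElements (hx'.1.smul c) h0, ?_⟩
    intro s hs
    rw [coe_oneAdd, add_sub_cancel_left, mul_smul_comm, smul_mul_assoc, hx.2 s hs]

/-- **The induction step.** -/
theorem cd_step (hk2 : ringChar k ≠ 2) (hk3 : Nat.card k ≠ 3) (hG : IsQuadraticPair G)
    (ih : ∀ (W : Submodule k M) (G' : Subgroup (LinearMap.GeneralLinearGroup k ↥W)),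
      Module.finrank k ↥W < Module.finrank k M → IsQuadraticPair G' → CD G') : CD G := by
  by_cases hne : (quadraticElements G).Nonempty
  swap
  · rw [Set.not_nonempty_iff_eq_empty] at hne
    refine ⟨Empty, inferInstance, fun i => i.elim, fun i => i.elim, fun i => i.elim, ?_,
      fun i => i.elim, ?_⟩
    · rw [iSup_of_empty, ← hG.2, hne, Subgroup.closure_empty]
    · rw [hne]; exact Set.empty_subset _
  obtain ⟨N, hN⟩ := exists_isMin hne
  obtain ⟨r, part, hP⟩ := exists_parts hk2 hk3 hG
  -- minimal invariant subspace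
  obtain ⟨n, ⟨W, hW, hCW, hWn⟩, hmin⟩ := (wellFounded_lt (α := ℕ)).has_min
    {n | ∃ W : Submodule k M, W ≠ ⊥ ∧ cG G ≤ stab W ∧ Module.finrank k ↥W = n}
    ⟨_, ⊤, by
      obtain ⟨m, hm⟩ := hG.1.1
      intro h
      apply hm
      have : m ∈ (⊤ : Submodule k M) := trivial
      rw [h] at this
      exact (Submodule.mem_bot k).1 this, le_stab fun _ _ _ _ => trivial, rfl⟩
  have hWmin : ∀ W' : Submodule k M, W' ≠ ⊥ → cG G ≤ stab W' →
      Module.finrank k ↥W ≤ Module.finrank k ↥W' := by
    intro W' h1 h2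
    rw [hWn]
    exact not_lt.1 (hmin _ ⟨W', h1, h2, rfl⟩)
  clear hmin
  -- the dimension drops
  have hlt : Module.finrank k ↥W < Module.finrank k M := by
    have h1 : LinearMap.ker N ≠ ⊥ := by
      intro h
      apply hN.ne_zero
      ext m
      have : N m ∈ LinearMap.ker N := by
        rw [LinearMap.mem_ker, ← Module.End.mul_apply, hN.sq, LinearMap.zero_apply]
      rw [h] at this
      simpa using this
    have h2 : cG G ≤ stab (LinearMap.ker N) := by
      refine le_stab fun g hg w hw => ?_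
      rw [LinearMap.mem_ker] at hw ⊢
      obtain ⟨i, hi⟩ := hP.exists (⟨_, oneAdd_mem_minimal hN, rfl⟩ :
        sameActionSubgroup G (oneAdd N hN.1.1) ∈ quadraticRootSubgroups G)
      have h3 := cG_comm' hP i hg _ (hP.le hi (self_mem_sameActionSubgroup
        (oneAdd_mem_minimal hN)))
      rw [coe_oneAdd, add_mul, mul_add, one_mul, mul_one, add_right_inj] at h3
      rw [← Module.End.mul_apply, h3, Module.End.mul_apply, hw, map_zero]
    refine (hWmin _ h1 h2).trans_lt ?_
    refine Submodule.finrank_lt ?_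
    intro h
    apply hN.ne_zero
    exact LinearMap.ker_eq_top.1 h
  set C := cG G with hC
  set ρ := res hCW with hρ
  set G' : Subgroup (LinearMap.GeneralLinearGroup k ↥W) := ρ.range with hG'
  -- vanishing principle
  have hvan : ∀ y : M →ₗ[k] M,
      (∀ i, ∀ g ∈ (⨆ A ∈ part i, A), (g : M →ₗ[k] M) * y = y * (g : M →ₗ[k] M)) →
      (∀ w ∈ W, y w = 0) → y = 0 := fun y h1 h2 =>
    eq_zero_of_restrict hk2 hk3 hG hP hW hCW h1 h2
  have hinj : Function.Injective ρ := by
    intro a b hab
    apply Subtype.ext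
    apply Units.ext
    rw [← sub_eq_zero]
    refine hvan _ ?_ ?_
    · intro i g hg
      rw [mul_sub, sub_mul, cG_comm' hP i a.2 g hg, cG_comm' hP i b.2 g hg]
    · intro w hw
      have h1 := congrArg (fun x : LinearMap.GeneralLinearGroup k ↥W =>
        (((x : ↥W →ₗ[k] ↥W) ⟨w, hw⟩ : ↥W) : M)) hab
      simp only [hρ, res_apply] at h1
      rw [LinearMap.sub_apply, h1, sub_self]
  -- transfer of quadratic elements
  have hup : ∀ x : LinearMap.GeneralLinearGroup k M, ∀ hx : x ∈ cX G,
      ρ ⟨x, Subgroup.subset_closure hx⟩ ∈ quadraticElements G' := by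
    intro x hx
    have hx' := mem_quadraticElements_iff.1 hx.1
    have hap : ∀ w : ↥W, ((((ρ ⟨x, Subgroup.subset_closure hx⟩ :
        LinearMap.GeneralLinearGroup k ↥W) : ↥W →ₗ[k] ↥W) - 1) w : M) =
        ((x : M →ₗ[k] M) - 1) w := by
      intro w
      rw [LinearMap.sub_apply, AddSubgroupClass.coe_sub, res_apply]; rfl
    rw [mem_quadraticElements_iff]
    refine ⟨⟨?_, fun c => ?_⟩, ?_⟩
    · ext w
      rw [Module.End.mul_apply, hap, hap, ← Module.End.mul_apply, hx'.1.1]
      rfl
    · obtain ⟨g, hg, hgc⟩ := smul_mem_cG hx c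
      refine ⟨ρ ⟨g, hg⟩, ⟨_, rfl⟩, ?_⟩
      ext w
      rw [res_apply, hgc, LinearMap.add_apply, LinearMap.add_apply, LinearMap.smul_apply,
        LinearMap.smul_apply, Submodule.coe_add, Submodule.coe_smul, hap]
      rfl
    · intro h0
      apply hx'.2
      refine hvan _ ?_ ?_
      · intro i g hg
        exact commute_of_forall hx.2 hP i g hg
      · intro w hw
        have := hap ⟨w, hw⟩
        rw [h0] at this
        exact this.symm
  have hdown : ∀ x : LinearMap.GeneralLinearGroup k M, ∀ hx : x ∈ C,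
      ρ ⟨x, hx⟩ ∈ quadraticElements G' → x ∈ quadraticElements G := by
    intro x hx hq
    have hq' := mem_quadraticElements_iff.1 hq
    have hap : ∀ w : ↥W, ((((ρ ⟨x, hx⟩ :
        LinearMap.GeneralLinearGroup k ↥W) : ↥W →ₗ[k] ↥W) - 1) w : M) =
        ((x : M →ₗ[k] M) - 1) w := by
      intro w
      rw [LinearMap.sub_apply, AddSubgroupClass.coe_sub, res_apply]; rfl
    have hcomm : ∀ i, ∀ g ∈ (⨆ A ∈ part i, A),
        (g : M →ₗ[k] M) * ((x : M →ₗ[k] M) - 1) = ((x : M →ₗ[k] M) - 1) * (g : M →ₗ[k] M) := by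
      intro i g hg
      rw [mul_sub, sub_mul, cG_comm' hP i hx g hg, mul_one, one_mul]
    rw [mem_quadraticElements_iff]
    refine ⟨⟨?_, fun c => ?_⟩, ?_⟩
    · refine hvan _ ?_ ?_
      · intro i g hg
        rw [← mul_assoc, hcomm i g hg, mul_assoc, hcomm i g hg, mul_assoc]
      · intro w hw
        have h1 := LinearMap.congr_fun hq'.1.1 ⟨w, hw⟩
        have h2 := congrArg (fun v : ↥W => (v : M)) h1
        simp only [Module.End.mul_apply] at h2
        rw [hap, hap] at h2
        rw [Module.End.mul_apply]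
        exact h2
    · obtain ⟨_, ⟨⟨g, hg⟩, rfl⟩, hgc⟩ := hq'.1.2 c
      refine ⟨g, cG_le hg, ?_⟩
      rw [← sub_eq_zero]
      refine hvan _ ?_ ?_
      · intro i g' hg'
        rw [mul_sub, sub_mul, cG_comm' hP i hg g' hg', mul_add, add_mul, mul_one, one_mul,
          mul_smul_comm, smul_mul_assoc, hcomm i g' hg']
      · intro w hw
        have h1 := LinearMap.congr_fun hgc ⟨w, hw⟩
        have h2 := congrArg (fun v : ↥W => (v : M)) h1
        simp only [LinearMap.add_apply, LinearMap.smul_apply, Submodule.coe_add,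
          Submodule.coe_smul] at h2
        rw [hap, res_apply] at h2
        rw [LinearMap.sub_apply, LinearMap.add_apply, LinearMap.smul_apply, h2]
        exact sub_self _
    · intro h0
      apply hq'.2
      ext w
      rw [hap, h0]; rfl
  -- the restricted pair
  have hpair : IsQuadraticPair G' := by
    refine ⟨⟨?_, ?_⟩, ?_⟩
    · obtain ⟨w, hw, hw0⟩ := Submodule.exists_mem_ne_zero_of_ne_bot hW
      exact ⟨⟨w, hw⟩, fun h => hw0 (congrArg Subtype.val h)⟩
    · intro W' hW'
      by_cases h0 : W' = ⊥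
      · exact Or.inl h0
      · right
        have h1 : W'.map W.subtype ≠ ⊥ := by
          intro h
          apply h0
          rw [eq_bot_iff]
          intro w hw
          have h1 : W.subtype w ∈ W'.map W.subtype := ⟨w, hw, rfl⟩
          rw [h, Submodule.mem_bot] at h1
          rw [Submodule.mem_bot]
          exact Subtype.ext h1
        have h2 : C ≤ stab (W'.map W.subtype) := by
          refine le_stab fun g hg w hw => ?_
          obtain ⟨w', hw', rfl⟩ := hw
          refine ⟨((ρ ⟨g, hg⟩ : LinearMap.GeneralLinearGroup k ↥W) : ↥W →ₗ[k] ↥W) w',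
            hW' _ ⟨_, rfl⟩ w' hw', rfl⟩
        have h3 := hWmin _ h1 h2
        have h4 : Module.finrank k ↥(W'.map W.subtype) = Module.finrank k ↥W' :=
          (LinearEquiv.finrank_eq (Submodule.equivMapOfInjective _ W.subtype_injective _)).symm
        rw [h4] at h3
        exact Submodule.eq_top_of_finrank_eq (le_antisymm (Submodule.finrank_le _) h3)
    · apply le_antisymm
      · rw [Subgroup.closure_le]
        intro x hx
        exact hx.1
      · rintro _ ⟨⟨c, hc⟩, rfl⟩
        refine Subgroup.closure_induction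
          (p := fun c hc => ρ ⟨c, hc⟩ ∈ Subgroup.closure (quadraticElements G')) ?_ ?_ ?_ ?_ hc
        · intro x hx
          exact Subgroup.subset_closure (hup x hx)
        · have : ρ ⟨1, Subgroup.one_mem _⟩ = 1 := map_one ρ
          rw [this]; exact Subgroup.one_mem _
        · intro x y hx hy h1 h2
          have : ρ ⟨x * y, Subgroup.mul_mem _ hx hy⟩ = ρ ⟨x, hx⟩ * ρ ⟨y, hy⟩ :=
            map_mul ρ ⟨x, hx⟩ ⟨y, hy⟩
          rw [this]; exact Subgroup.mul_mem _ h1 h2
        · intro x hx h1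
          have : ρ ⟨x⁻¹, Subgroup.inv_mem _ hx⟩ = (ρ ⟨x, hx⟩)⁻¹ := map_inv ρ ⟨x, hx⟩
          rw [this]; exact Subgroup.inv_mem _ h1
  obtain ⟨ι', hι', Gi', h1, h2, h3, h4, h5⟩ := ih W G' hlt hpair
  -- pull back
  set K : ι' → Subgroup (LinearMap.GeneralLinearGroup k M) :=
    fun j => ((Gi' j).comap ρ).map C.subtype with hK
  have hmemK : ∀ j x, x ∈ K j ↔ ∃ hx : x ∈ C, ρ ⟨x, hx⟩ ∈ Gi' j := by
    intro j x
    constructor
    · rintro ⟨⟨y, hy⟩, hy', rfl⟩
      exact ⟨hy, hy'⟩
    · rintro ⟨hx, hx'⟩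
      exact ⟨⟨x, hx⟩, hx', rfl⟩
  have hKC : ∀ j, K j ≤ C := fun j x hx => ((hmemK j x).1 hx).1
  have hcXK : ∀ x ∈ cX G, ∃ j, x ∈ K j := by
    intro x hx
    obtain ⟨j, hj⟩ := Set.mem_iUnion.1 (h5 (hup x hx))
    exact ⟨j, (hmemK j x).2 ⟨Subgroup.subset_closure hx, hj⟩⟩
  have hGiG : ∀ i, (⨆ A ∈ part i, A) ≤ G := by
    intro i
    refine iSup₂_le fun A hA => ?_
    obtain ⟨σ, hσ, rfl⟩ := hP.mem hA
    exact sameActionSubgroup_le hσ
  refine ⟨Fin r ⊕ ι', inferInstance, Sum.elim (fun i => ⨆ A ∈ part i, A) K, ?_, ?_, ?_, ?_, ?_⟩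
  · rintro (i | j)
    · exact ⟨hGiG i, hP.normal i⟩
    · refine ⟨(hKC j).trans cG_le, ?_⟩
      intro g hg
      have key : G ≤ Subgroup.normalizer (K j : Set (LinearMap.GeneralLinearGroup k M)) := by
        refine le_sup_cG hk2 hk3 hG hP ?_ ?_
        · intro i
          refine H731.le_normalizer_of_conjBy fun a ha => ?_
          refine H731.conjBy_of_commute fun x hx => ?_
          exact (cG_comm hP i x (hKC j hx) a ha).symm
        · refine H731.le_normalizer_of_conjBy fun c hc => ?_
          have hle : ∀ c, c ∈ C → ∀ x ∈ K j, c * x * c⁻¹ ∈ K j := by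
            intro c hc x hx
            obtain ⟨hx1, hx2⟩ := (hmemK j x).1 hx
            refine (hmemK j _).2 ⟨C.mul_mem (C.mul_mem hc hx1) (C.inv_mem hc), ?_⟩
            have e : ρ ⟨c * x * c⁻¹, C.mul_mem (C.mul_mem hc hx1) (C.inv_mem hc)⟩ =
                ρ ⟨c, hc⟩ * ρ ⟨x, hx1⟩ * (ρ ⟨c, hc⟩)⁻¹ := by
              rw [← map_mul, ← map_inv, ← map_mul]; rfl
            rw [e, ← (h1 j).2 (ρ ⟨c, hc⟩) ⟨_, rfl⟩]
            exact H731.conj_mem_conjBy hx2 _
          apply le_antisymm
          · rintro _ ⟨x, hx, rfl⟩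
            exact hle c hc x hx
          · intro x hx
            rw [H731.mem_conjBy]
            have := hle c⁻¹ (C.inv_mem hc) x hx
            rwa [inv_inv] at this
      exact H731.mem_normalizer_iff_conjBy.1 (key hg)
  · rintro (i | i) (j | j) hij
    · exact hP.comm i j (fun h => hij (by rw [h]))
    · show ⁅(⨆ A ∈ part i, A), K j⁆ = ⊥
      rw [H731.commutator_eq_bot_iff_forall]
      intro a ha b hb
      exact (cG_comm hP i b (hKC j hb) a ha).symm
    · show ⁅K i, (⨆ A ∈ part j, A)⁆ = ⊥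
      rw [H731.commutator_eq_bot_iff_forall]
      intro a ha b hb
      exact cG_comm hP j a (hKC i ha) b hb
    · show ⁅K i, K j⁆ = ⊥
      rw [H731.commutator_eq_bot_iff_forall]
      intro a ha b hb
      obtain ⟨ha1, ha2⟩ := (hmemK i a).1 ha
      obtain ⟨hb1, hb2⟩ := (hmemK j b).1 hb
      have h6 := (H731.commutator_eq_bot_iff_forall.1
        (h2 i j (fun h => hij (by rw [h])))) _ ha2 _ hb2
      rw [← map_mul, ← map_mul] at h6
      exact congrArg Subtype.val (hinj h6)
  · apply le_antisymm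
    · refine iSup_le ?_
      rintro (i | j)
      · exact hGiG i
      · exact (hKC j).trans cG_le
    · refine le_sup_cG hk2 hk3 hG hP ?_ ?_
      · intro i
        exact le_iSup (Sum.elim (fun i => ⨆ A ∈ part i, A) K) (Sum.inl i)
      · rw [cG, Subgroup.closure_le]
        intro x hx
        obtain ⟨j, hj⟩ := hcXK x hx
        exact (le_iSup (Sum.elim (fun i => ⨆ A ∈ part i, A) K) (Sum.inr j)) hj
  · rintro (i | j)
    · refine ⟨hP.quasi i, ?_⟩
      apply le_antisymm
      · rw [Subgroup.closure_le]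
        exact Set.inter_subset_right
      · refine iSup₂_le fun A hA => ?_
        obtain ⟨σ, hσ, hAσ⟩ := hP.mem hA
        have hAle : A ≤ (⨆ A ∈ part i, A) := hP.le hA
        rw [hAσ] at hAle ⊢
        rw [sameActionSubgroup, Subgroup.closure_le]
        intro τ hτ
        refine Subgroup.subset_closure ⟨hτ.1.1, ?_⟩
        exact hAle (Subgroup.subset_closure hτ)
    · have hrange : (Gi' j) ≤ ρ.range := (h1 j).1
      constructor
      · have e1 : ↥((Gi' j).comap ρ) ≃* ↥(K j) :=
          ((Gi' j).comap ρ).equivMapOfInjective C.subtype C.subtype_injective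
        have e2 : ↥((Gi' j).comap ρ) ≃* ↥(((Gi' j).comap ρ).map ρ) :=
          ((Gi' j).comap ρ).equivMapOfInjective ρ hinj
        have e3 : ((Gi' j).comap ρ).map ρ = Gi' j := Subgroup.map_comap_eq_self hrange
        have e4 : ↥(Gi' j) ≃* ↥(K j) :=
          (MulEquiv.subgroupCongr e3.symm).trans (e2.symm.trans e1)
        exact SignalizersComponents.Components.isQuasisimple_of_mulEquiv e4 (h4 j).1
      · apply le_antisymm
        · rw [Subgroup.closure_le]
          exact Set.inter_subset_right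
        · intro x hx
          obtain ⟨hx1, hx2⟩ := (hmemK j x).1 hx
          have hle : Subgroup.closure (quadraticElements G' ∩
              (Gi' j : Set (LinearMap.GeneralLinearGroup k ↥W))) ≤
              ((Subgroup.closure (quadraticElements G ∩
                (K j : Set (LinearMap.GeneralLinearGroup k M)))).subgroupOf C).map ρ := by
            rw [Subgroup.closure_le]
            rintro y ⟨hy1, hy2⟩
            obtain ⟨⟨z, hz⟩, rfl⟩ := hrange hy2
            refine ⟨⟨z, hz⟩, ?_, rfl⟩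
            rw [SetLike.mem_coe, Subgroup.mem_subgroupOf]
            exact Subgroup.subset_closure ⟨hdown z hz hy1, (hmemK j z).2 ⟨hz, hy2⟩⟩
          rw [(h4 j).2] at hle
          obtain ⟨y, hy, hyx⟩ := hle hx2
          have := hinj hyx
          rw [SetLike.mem_coe, Subgroup.mem_subgroupOf, this] at hy
          exact hy
  · intro x hx
    have hx' := mem_quadraticElements_iff.1 hx
    rw [Set.mem_iUnion]
    rcases dichotomy hk2 hk3 hG hP _ _ hx'.1 rfl with ⟨i, hi⟩ | h
    · refine ⟨Sum.inl i, ?_⟩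
      have : oneAdd ((x : M →ₗ[k] M) - 1) hx'.1.1 = x := by
        apply Units.ext
        rw [coe_oneAdd]; abel
      rw [this] at hi
      exact hi
    · obtain ⟨j, hj⟩ := hcXK x ⟨hx, h⟩
      exact ⟨Sum.inr j, hj⟩

end Step

/-- **A quadratic pair is a central product of quasisimple groups.** -/
theorem cd_main {k : Type u} [Field k] (hk2 : ringChar k ≠ 2) (hk3 : Nat.card k ≠ 3) (n : ℕ) :
    ∀ (M : Type u) [AddCommGroup M] [Module k M] [FiniteDimensional k M]
      (G : Subgroup (LinearMap.GeneralLinearGroup k M)), IsQuadraticPair G →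
      Module.finrank k M = n → CD G := by
  induction n using Nat.strong_induction_on with
  | _ n ih =>
    intro M _ _ _ G hG hn
    refine cd_step hk2 hk3 hG fun W G' hlt hG' => ?_
    exact ih _ (hn ▸ hlt) ↥W G' hG' rfl

end Cfsg.Agent.H740
end

-- part: S5063
section
set_option autoImplicit false
universe u
open Cfsg

namespace Cfsg.Agent.S5063

/-- Let k be a field of characteristic not 2 with k not of order 3, M a finite-dimensional k-vector space and G ≤ GL(M) such that (G, M) is a quadratic pair (M irreducible for G, and G generated by its quadratically acting elements σ whose scalar family 1 + c(σ − 1), c ∈ k, lies in G). Write 𝒬_d for the quadratic elements of G of minimal commutator rank, E(σ) for the subgroup generated by the members of 𝒬_d with the same fixed space and commutator space as σ, and Σ for the set of these subgroups. Then G is a central product of finitely many quasisimple normal subgroups G₁, …, G_s (pairwise commuting and together generating G), each generated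 by the quadratic elements of G it contains, and every quadratic element of G lies in one of them. -/
theorem result {k : Type u} [Field k] (hk2 : ringChar k ≠ 2) (hk3 : Nat.card k ≠ 3)
    {M : Type u} [AddCommGroup M] [Module k M] [FiniteDimensional k M]
    {G : Subgroup (LinearMap.GeneralLinearGroup k M)} (hG : Cfsg.IsQuadraticPair G) :
    ∃ (s : ℕ) (Gi : Fin s → Subgroup (LinearMap.GeneralLinearGroup k M)),
      (∀ i, Gi i ≤ G ∧ ∀ g ∈ G, Cfsg.conjBy (Gi i) g = Gi i) ∧ (∀ i j, i ≠ j → ⁅Gi i, Gi j⁆ = ⊥) ∧ (⨆ i, Gi i) = G ∧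
      (∀ i, Cfsg.IsQuasisimple ↥(Gi i) ∧ Subgroup.closure (Cfsg.quadraticElements G ∩ (Gi i : Set (LinearMap.GeneralLinearGroup k M))) = Gi i) ∧
      Cfsg.quadraticElements G ⊆ ⋃ i, (Gi i : Set (LinearMap.GeneralLinearGroup k M)) := by
  obtain ⟨ι, hι, Gi, h1, h2, h3, h4, h5⟩ := H740.cd_main hk2 hk3 _ M G hG rfl
  haveI := Fintype.ofFinite ι
  let e := (Fintype.equivFin ι).symm
  refine ⟨Fintype.card ι, fun i => Gi (e i), fun i => h1 (e i), fun i j hij =>
    h2 _ _ (fun h => hij (e.injective h)), ?_, fun i => h4 (e i), ?_⟩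
  · rw [← h3]
    exact e.iSup_comp (g := Gi)
  · intro x hx
    obtain ⟨j, hj⟩ := Set.mem_iUnion.1 (h5 hx)
    refine Set.mem_iUnion.2 ⟨e.symm j, ?_⟩
    simpa using hj

end Cfsg.Agent.S5063
end
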