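import Cfsg.Statements.S5620
import Cfsg.Agent.SporadicStructure.M11InvPerms
import Cfsg.Agent.SporadicStructure.M24El
import Cfsg.Agent.S0372
set_option linter.all false

set_option autoImplicit false
open scoped Pointwise
open Cfsg

namespace Cfsg.Agent.S5620

open Cfsg.Agent.SporadicStructure.M11InvPerms
open Cfsg.Agent.SporadicA.GolayPerm Cfsg.Agent.SporadicA.GolayBase

theorem sq_eq : Cfsg.Spor.squareDodecad = dd := by
  unfold Cfsg.Spor.squareDodecad dd
  rw [qrWord_eq]

theorem dd_inv : ∀ p : GolayPt, Cfsg.projInvFun p ∈ dd ↔ p ∉ dd := by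
  decide +kernel

theorem smul_dd : Cfsg.projInv • Cfsg.Spor.squareDodecad = Finset.univ \ Cfsg.Spor.squareDodecad := by
  rw [sq_eq]
  ext p
  rw [← Finset.inv_smul_mem_iff, Finset.mem_sdiff]
  have h := dd_inv p
  constructor
  · intro h1
    exact ⟨Finset.mem_univ p, h.1 h1⟩
  · rintro ⟨-, h1⟩
    exact h.2 h1

theorem smul_compl (g : Equiv.Perm GolayPt) (s : Finset GolayPt) :
    g • (Finset.univ \ s) = Finset.univ \ (g • s) := by
  ext p
  rw [← Finset.inv_smul_mem_iff, Finset.mem_sdiff, Finset.mem_sdiff,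
    ← Finset.inv_smul_mem_iff (s := s)]
  simp only [Finset.mem_univ, true_and]

theorem conj_eq : MulAut.conj Cfsg.projInv • Cfsg.Spor.M11 =
    Cfsg.Spor.M12 ⊓ MulAction.stabilizer (Equiv.Perm Cfsg.GolayPt) (none : Cfsg.GolayPt) := by
  have hg : Cfsg.projInv ∈ Cfsg.M24 := Cfsg.Agent.S0372.result
  have h0 : Cfsg.projInv (some 0) = none := rfl
  ext x
  rw [Subgroup.mem_pointwise_smul_iff_inv_smul_mem, ← map_inv, MulAut.smul_def, MulAut.conj_apply,
    inv_inv]
  have h1 : Cfsg.projInv⁻¹ * x * Cfsg.projInv ∈ Cfsg.M24 ↔ x ∈ Cfsg.M24 := by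
    rw [Subgroup.mul_mem_cancel_right _ hg, Subgroup.mul_mem_cancel_left _ (inv_mem hg)]
  have h2 : Cfsg.projInv⁻¹ * x * Cfsg.projInv ∈
      MulAction.stabilizer (Equiv.Perm Cfsg.GolayPt) Cfsg.Spor.squareDodecad ↔
      x ∈ MulAction.stabilizer (Equiv.Perm Cfsg.GolayPt) Cfsg.Spor.squareDodecad := by
    rw [MulAction.mem_stabilizer_iff, MulAction.mem_stabilizer_iff, mul_smul, mul_smul,
      inv_smul_eq_iff, smul_dd, smul_compl]
    constructor
    · intro h
      have := congrArg (fun s => Finset.univ \ s) h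
      simpa using this
    · intro h
      rw [h]
  have h3 : Cfsg.projInv⁻¹ * x * Cfsg.projInv ∈
      MulAction.stabilizer (Equiv.Perm Cfsg.GolayPt) (some 0 : Cfsg.GolayPt) ↔
      x ∈ MulAction.stabilizer (Equiv.Perm Cfsg.GolayPt) (none : Cfsg.GolayPt) := by
    rw [MulAction.mem_stabilizer_iff, MulAction.mem_stabilizer_iff, mul_smul, mul_smul,
      inv_smul_eq_iff, Equiv.Perm.smul_def Cfsg.projInv, h0]
  unfold Cfsg.Spor.M11 Cfsg.Spor.M12
  rw [Subgroup.mem_inf, Subgroup.mem_inf, Subgroup.mem_inf, Subgroup.mem_inf, h1, h2, h3]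

/-- packed permutation in the stabiliser of the dodecad and of the extra point, without fixed
points on the dodecad -/
def P : ℕ := 982951705538888748694133235704565768

theorem okP : isPerm P = true := by decide +kernel

theorem autP : isAut P = true := by decide +kernel

/-- the permutation -/
noncomputable def e : Equiv.Perm GolayPt := permOf P okP

theorem e_mem : e ∈ M24 := permOf_mem_M24 okP autP

theorem e_dd : ∀ p ∈ dd, permFun P p ∈ dd := by decide +kernel

theorem e_fix : ∀ p ∈ dd, permFun P p ≠ p := by decide +kernel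

theorem e_none : permFun P none = none := by decide +kernel

theorem e_smul : e • Cfsg.Spor.squareDodecad = Cfsg.Spor.squareDodecad := by
  rw [sq_eq]
  apply Finset.eq_of_subset_of_card_le
  · intro p hp
    rw [← Finset.inv_smul_mem_iff] at hp
    have h := e_dd _ hp
    have h1 : permFun P (e⁻¹ • p) = p := by
      have : e (e⁻¹ • p) = p := by
        rw [← Equiv.Perm.smul_def, smul_inv_smul]
      rwa [e, permOf_apply] at this
    rwa [h1] at h
  · rw [Finset.card_smul_finset]

/-- Inside the stabiliser of the dodecad of squares (a Mathieu group of degree 12), the stabiliser of the residue 0 (a point of the dodecad) and the stabiliser of the extra point (a point outside the dodecad) are isomorphic but not conjugate; conjugation by a suitable element of the code's group that maps the dodecad of squares onto its complement carries the first onto the second. -/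
theorem result : Nonempty (↥(Cfsg.Spor.M12 ⊓ MulAction.stabilizer (Equiv.Perm Cfsg.GolayPt) (none : Cfsg.GolayPt)) ≃* ↥Cfsg.Spor.M11) ∧ (¬ ∃ k ∈ Cfsg.Spor.M12, MulAut.conj k • Cfsg.Spor.M11 = Cfsg.Spor.M12 ⊓ MulAction.stabilizer (Equiv.Perm Cfsg.GolayPt) (none : Cfsg.GolayPt)) ∧ ∃ g ∈ Cfsg.M24, g • Cfsg.Spor.squareDodecad = Finset.univ \ Cfsg.Spor.squareDodecad ∧ MulAut.conj g • Cfsg.Spor.M11 = Cfsg.Spor.M12 ⊓ MulAction.stabilizer (Equiv.Perm Cfsg.GolayPt) (none : Cfsg.GolayPt) := by
  refine ⟨?_, ?_, Cfsg.projInv, Cfsg.Agent.S0372.result, smul_dd, conj_eq⟩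
  · rw [← conj_eq]
    exact ⟨(Subgroup.equivSMul (MulAut.conj Cfsg.projInv) Cfsg.Spor.M11).symm⟩
  · rintro ⟨k, hk, hkM⟩
    have he : e ∈ Cfsg.Spor.M12 ⊓
        MulAction.stabilizer (Equiv.Perm Cfsg.GolayPt) (none : Cfsg.GolayPt) := by
      refine Subgroup.mem_inf.2 ⟨Subgroup.mem_inf.2 ⟨e_mem, ?_⟩, ?_⟩
      · rw [MulAction.mem_stabilizer_iff]
        exact e_smul
      · rw [MulAction.mem_stabilizer_iff, Equiv.Perm.smul_def, e, permOf_apply]
        exact e_none
    rw [← hkM, Subgroup.mem_pointwise_smul_iff_inv_smul_mem, ← map_inv, MulAut.smul_def,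
      MulAut.conj_apply, inv_inv] at he
    have h1 : k⁻¹ * e * k ∈ MulAction.stabilizer (Equiv.Perm Cfsg.GolayPt)
      (some 0 : Cfsg.GolayPt) := (Subgroup.mem_inf.1 he).2
    rw [MulAction.mem_stabilizer_iff, mul_smul, mul_smul, inv_smul_eq_iff] at h1
    have hk2 : k • Cfsg.Spor.squareDodecad = Cfsg.Spor.squareDodecad := (Subgroup.mem_inf.1 hk).2
    have hk0 : k • (some 0 : GolayPt) ∈ dd := by
      rw [← sq_eq, ← hk2]
      apply Finset.smul_mem_smul_finset
      rw [sq_eq]
      decide +kernel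
    apply e_fix _ hk0
    rw [Equiv.Perm.smul_def e, e, permOf_apply] at h1
    exact h1

end Cfsg.Agent.S5620
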