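import Cfsg.Statements.S5568
import Cfsg.Agent.H856.Bridge
import Cfsg.Agent.H857.Orbits
set_option linter.all false

set_option autoImplicit false
open Cfsg

namespace Cfsg.Agent.S5568

open scoped Pointwise
open Cfsg.Agent.J4Type Cfsg.Agent.H857.Orbits

/-- Let G be a finite non-abelian simple group of Janko-four type (an involution z whose centralizer H has an extraspecial largest normal 2-subgroup E of order 2^13 containing its centralizer in H, a normal subgroup N ≥ E of H with N/E of order 3 and H/N the automorphism group of M₂₂, and a subgroup P ≤ N of order 3 with C_E(P) = ⟨z⟩, N_H(P) ≠ C_H(P) and P ≤ C_H(P)′). Let V be an elementary abelian subgroup of G of order 2^11. Then under conjugation by the normalizer of V the non-identity elements of V fall into an orbit of length 1771 consisting of conjugates of z and an orbit of length 276 consisting of involutions t not conjugate to z, and for such t the centralizer of t in G lies in the normalizer of V. -/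
theorem result {G : Type*} [Group G] [Finite G] [IsSimpleGroup G] (hG : ¬ IsMulCommutative G) (z : G) (hJ : Cfsg.IsOfJankoFourTypeAt z) (V : Subgroup G) (hV : Cfsg.IsElementaryAbelian 2 V) (hcard : Nat.card ↥V = 2 ^ 11) :
    ∃ z' t : G, z' ∈ V ∧ t ∈ V ∧ t ≠ 1 ∧ IsConj z z' ∧ ¬ IsConj z t ∧
    Set.ncard {v : G | ∃ n ∈ Subgroup.normalizer (V : Set G), n * z' * n⁻¹ = v} = 1771 ∧
    Set.ncard {v : G | ∃ n ∈ Subgroup.normalizer (V : Set G), n * t * n⁻¹ = v} = 276 ∧
    Subgroup.centralizer ({t} : Set G) ≤ Subgroup.normalizer (V : Set G) := by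
  obtain ⟨P, h⟩ := hJ
  obtain ⟨Q, N, M, H, -, -⟩ := Cfsg.Agent.H856.ToHyp.exists_hyp h
  obtain ⟨C, -, hCz, -⟩ := Cfsg.Agent.H856.Bridge.exists_compl_of_hyp H
  have hVel : IsElem2 V :=
    ⟨fun a ha => by rw [← pow_two]; exact hV.2 a ha,
      fun a ha b hb => congrArg Subtype.val (hV.1.1.1 ⟨a, ha⟩ ⟨b, hb⟩)⟩
  obtain ⟨g, hg⟩ := Cfsg.Agent.H856.TwoEleven.exists_conj_E C.toHex hVel hcard.ge
  have hgV : V = MulAut.conj g⁻¹ • C.E hex0 := by
    rw [← hg, map_inv, inv_smul_smul]
  have hne : (none : GolayPt) ≠ some 0 := by decide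
  have hcE : C.ε {none, some 0} ∈ C.E hex0 :=
    C.ε_mem _ (by rw [Finset.card_pair hne]; decide)
  refine ⟨g⁻¹ * C.z * g⁻¹⁻¹, g⁻¹ * C.ε {none, some 0} * g⁻¹⁻¹, ?_, ?_, ?_, ?_, ?_, ?_, ?_, ?_⟩
  · rw [hgV, conj_mem_smul]
    exact C.z_mem_E hex0 HexMax.hex0_isHex
  · rw [hgV, conj_mem_smul]
    exact hcE
  · intro h1
    have h2 : C.ε {none, some 0} = 1 := by
      calc C.ε {none, some 0} = g * (g⁻¹ * C.ε {none, some 0} * g⁻¹⁻¹) * g⁻¹ := by group
        _ = 1 := by rw [h1]; group
    have h4 := (C.ε_ker {none, some 0} (by rw [Finset.card_pair hne]; decide)).1 h2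
    have h5 := Cfsg.Agent.SporadicA.GolayBase.card_of_mem_supports h4
    rw [Finset.card_pair hne] at h5
    omega
  · rw [← hCz]
    exact isConj_iff.2 ⟨g⁻¹, rfl⟩
  · rw [← hCz]
    intro h1
    apply C.duad_not_conj none (some 0) hne
    refine h1.trans (isConj_iff.2 ⟨g, ?_⟩)
    group
  · rw [hgV]
    exact (ncard_orb_smul _ _ _).trans (ncard_orb_z C.toFrame)
  · rw [hgV]
    refine (ncard_orb_smul (C.E hex0) g⁻¹ (C.ε {none, some 0})).trans ?_
    rw [orb_duad C.toFrame hne]
    exact ncard_duads C.toFrame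
  · intro c hc
    rw [hgV, mem_normalizer_smul]
    apply DuadCent.duad_cent C.toFrame hne
    rw [Subgroup.mem_centralizer_singleton_iff] at hc
    calc g⁻¹⁻¹ * c * g⁻¹ * C.ε {none, some 0}
        = g * (c * (g⁻¹ * C.ε {none, some 0} * g⁻¹⁻¹)) * g⁻¹ := by group
      _ = g * (g⁻¹ * C.ε {none, some 0} * g⁻¹⁻¹ * c) * g⁻¹ := by rw [hc]
      _ = _ := by group

end Cfsg.Agent.S5568
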