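import Cfsg.Agent.H856.JM.Comm_m3
import Cfsg.Agent.H854.Ore.J4Cent
import Cfsg.Agent.H2.UniqCUThree
import Cfsg.Agent.H393.SpTool
import Cfsg.Agent.S0283
import Cfsg.Agent.H68.JM.Vec_m3
import Cfsg.Agent.H994.TwoGen.Chain
import Cfsg.Agent.SporadicA.MathieuRecog
import Cfsg.Agent.J4.M24Hom
import Cfsg.Agent.H856.JM.A78_mg
import Cfsg.Agent.H994.TwoGen.M11
import Cfsg.Agent.ChevalleyStructure.SL2Hom
import Cfsg.Agent.H831.JM.Excl_mg
import Cfsg.Agent.H994.TwoGen.M22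
import Cfsg.Agent.H994.TwoGen.M12
import Cfsg.Statements.S5580
import Cfsg.Agent.H854.JM.Local
import Cfsg.Agent.H856.JM.AltRows_mg
import Cfsg.Agent.H878.JM.E2
import Cfsg.Agent.H831.JM.Cent_m3
import Cfsg.Agent.S5581
import Cfsg.Agent.S0000
import Cfsg.Agent.OrdDiv.Table
import Cfsg.Agent.FastGrp
import Cfsg.Agent.Prune
set_option linter.all false

section
prune_inst 0x7ffffdfbbff9fddeffff7e7ffefddffdbdfdffffffdffbcbfff8ebffafdf6b0effe5fbaf9fe858ff1ef6e2beb0f87b53fdffdeffee6bfc7ffffd5ff45ffbffdfffffbdac719ebcb41ffe6fff9bf07fce7f3fffffffffffffffffffffffffffbeffffffffffff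

-- part: H111/JM/U33_mg
section
prune_inst 0x2020000000000003000051000000000610000000060040000a00000000000000000000000000000000000000000040000000000000000000000000000600b000000000000000000000000000000000041000000000000
set_option linter.all false
open scoped Cfsg.Agent.FastGrp

-- part: H111/JM/PZ/Z00
section
/-!
# The pieces 0, 1 of the centralizer of `⟨y0, t1⟩` (generated, helper111, S5580)
-/

set_option autoImplicit false
set_option maxRecDepth 100000

namespace Cfsg.Agent.H111.JM.PZ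

open Cfsg.Agent.H111.JM.EngR Cfsg.Agent.H111.JM.ZD

open Cfsg.Agent.Lib Cfsg.Agent.Lib.F2Mat Cfsg.Agent.Lib.F2MatGroup Cfsg.Agent.H111.JM.Eng in
/-- `pchk` with a given product -/
noncomputable def pchkF (f : ℕ → ℕ → ℕ) (C : List ℕ) (test : ℕ → ℕ → Bool) (path prog keys : List ℕ) : Bool :=
  List.rec (motive := fun _ => List ℕ → Bool)
    (List.rec (motive := fun _ => List ℕ → List ℕ → Bool)
      (fun keys _ => List.rec true (fun _ _ _ => false) keys)
      (fun i _ ih keys stack => Nat.rec (motive := fun _ => Bool) (ih keys (tl stack))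
        (fun k _ => force (f (hd (F2Mat.one 112) stack) (get (F2Mat.one 112) C k)) fun M =>
          List.rec false (fun a keys' _ => cond (test a M) (ih keys' (M :: stack)) false) keys) i) prog keys)
    (fun k _ ih stack => force (f (hd (F2Mat.one 112) stack) (get (F2Mat.one 112) C k)) fun M => ih (M :: stack))
    path [F2Mat.one 112]

open Cfsg.Agent.Lib Cfsg.Agent.Lib.F2Mat in
/-- `cub` with a given product -/
noncomputable def cubF (v : ℕ → ℕ → ℕ) (M : ℕ) : Bool := Nat.beq (v (v (v v0 M) M) M) v0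

open Cfsg.Agent.Lib Cfsg.Agent.Lib.F2Mat in
/-- `six` with given products -/
noncomputable def sixF (v f : ℕ → ℕ → ℕ) (F M : ℕ) : Bool := force (f F M) fun A =>
  Nat.beq (v (v (v (v (v (v v1 A) A) A) A) A) A) v1

open Cfsg.Agent.H111.JM.Eng in
/-- `tz` with given products -/
noncomputable def tzF (v f : ℕ → ℕ → ℕ) (a M : ℕ) : Bool := cond (Nat.beq (key 1470 20 M) a)
  (cond (cubF v M) (cond (sixF v f mF0 M) false (cond (sixF v f mF1 M) false (cond (sixF v f mF2 M) false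
    (cond (sixF v f mF5 M) false (cond (sixF v f mF6 M) false (cond (sixF v f mF4 M) (Nat.beq M mz) true)))))) true) false

open Cfsg.Agent.Lib Cfsg.Agent.H111.JM.Eng in
/-- `th` with a given product -/
noncomputable def thF (v : ℕ → ℕ → ℕ) (a M : ℕ) : Bool :=
  cond (Nat.beq (key 3024 14 M) a) (cond (cubF v M) (Nat.beq M (F2Mat.one 112)) true) false

open Cfsg.Agent.H111.JM.Eng in
theorem tz_of {pa pg k : List ℕ} (h : pchkF Lib.F112.ml LG (tzF Lib.F112.vm Lib.F112.ml) pa pg k = true) : pchk 112 LG tz pa pg k = true := by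
  rw [← Lib.F112.vm_eq, ← Lib.F112.ml_eq] at h
  exact h

open Cfsg.Agent.H111.JM.Eng in
theorem th_of {pa pg k : List ℕ} (h : pchkF Lib.F112.ml LH (thF Lib.F112.vm) pa pg k = true) : pchk 112 LH th pa pg k = true := by
  rw [← Lib.F112.vm_eq, ← Lib.F112.ml_eq] at h
  exact h

theorem z0 : pchk 112 LG tz pa0 pg0 kz0 = true := tz_of (by decide +kernel)

theorem z1 : pchk 112 LG tz pa1 pg1 kz1 = true := tz_of (by decide +kernel)

theorem zh : pchk 112 LH th [] ph kh = true := th_of (by decide +kernel)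

end Cfsg.Agent.H111.JM.PZ
end

-- part: H111/JM/PZ/Z01
section
/-!
# The pieces 2, 3 of the centralizer of `⟨y0, t1⟩` (generated, helper111, S5580)
-/

set_option autoImplicit false
set_option maxRecDepth 100000

namespace Cfsg.Agent.H111.JM.PZ

open Cfsg.Agent.H111.JM.EngR Cfsg.Agent.H111.JM.ZD

theorem z2 : pchk 112 LG tz pa2 pg2 kz2 = true := tz_of (by decide +kernel)

theorem z3 : pchk 112 LG tz pa3 pg3 kz3 = true := tz_of (by decide +kernel)

end Cfsg.Agent.H111.JM.PZ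
end

-- part: H111/JM/PZ/Z02
section
/-!
# The pieces 4, 5 of the centralizer of `⟨y0, t1⟩` (generated, helper111, S5580)
-/

set_option autoImplicit false
set_option maxRecDepth 100000

namespace Cfsg.Agent.H111.JM.PZ

open Cfsg.Agent.H111.JM.EngR Cfsg.Agent.H111.JM.ZD

theorem z4 : pchk 112 LG tz pa4 pg4 kz4 = true := tz_of (by decide +kernel)

theorem z5 : pchk 112 LG tz pa5 pg5 kz5 = true := tz_of (by decide +kernel)

end Cfsg.Agent.H111.JM.PZ
end

-- part: H111/JM/PZ/Z03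
section
/-!
# The pieces 6, 7 of the centralizer of `⟨y0, t1⟩` (generated, helper111, S5580)
-/

set_option autoImplicit false
set_option maxRecDepth 100000

namespace Cfsg.Agent.H111.JM.PZ

open Cfsg.Agent.H111.JM.EngR Cfsg.Agent.H111.JM.ZD

theorem z6 : pchk 112 LG tz pa6 pg6 kz6 = true := tz_of (by decide +kernel)

theorem z7 : pchk 112 LG tz pa7 pg7 kz7 = true := tz_of (by decide +kernel)

end Cfsg.Agent.H111.JM.PZ
end

-- part: H111/JM/PZ/Z04
section
/-!
# The pieces 8, 9 of the centralizer of `⟨y0, t1⟩` (generated, helper111, S5580)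
-/

set_option autoImplicit false
set_option maxRecDepth 100000

namespace Cfsg.Agent.H111.JM.PZ

open Cfsg.Agent.H111.JM.EngR Cfsg.Agent.H111.JM.ZD

theorem z8 : pchk 112 LG tz pa8 pg8 kz8 = true := tz_of (by decide +kernel)

theorem z9 : pchk 112 LG tz pa9 pg9 kz9 = true := tz_of (by decide +kernel)

end Cfsg.Agent.H111.JM.PZ
end

-- part: H111/JM/PZ/Z05
section
/-!
# The pieces 10, 11 of the centralizer of `⟨y0, t1⟩` (generated, helper111, S5580)
-/

set_option autoImplicit false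
set_option maxRecDepth 100000

namespace Cfsg.Agent.H111.JM.PZ

open Cfsg.Agent.H111.JM.EngR Cfsg.Agent.H111.JM.ZD

theorem z10 : pchk 112 LG tz pa10 pg10 kz10 = true := tz_of (by decide +kernel)

theorem z11 : pchk 112 LG tz pa11 pg11 kz11 = true := tz_of (by decide +kernel)

end Cfsg.Agent.H111.JM.PZ
end

-- part: H111/JM/ZAll
section
/-!
# The elements of order 3 of the centralizers of `⟨y0, t_k⟩` (helper111, S5580)
-/

set_option autoImplicit false
set_option maxRecDepth 100000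

open Cfsg

namespace Cfsg.Agent.H111.JM.ZAll

open Cfsg.Agent.Lib Cfsg.Agent.Lib.F2Mat Cfsg.Agent.Lib.F2MatGroup
open Cfsg.Agent.J4.Rep112
open Cfsg.Agent.H858.VK
open Cfsg.Agent.H878.JM.Base (c1 c2 c3 t1 t2 t3 y0 y0_cube y0_ne c1_y0 c2_y0 c3_y0)
open Cfsg.Agent.H111.JM.Eng Cfsg.Agent.H111.JM.Env Cfsg.Agent.H111.JM.G0
open Cfsg.Agent.H111.JM.TList Cfsg.Agent.H111.JM.Sol Cfsg.Agent.H111.JM.Trip
open Cfsg.Agent.H111.JM.EngR Cfsg.Agent.H111.JM.ZD Cfsg.Agent.H111.JM.PZ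

/-- the group `Spor.J4` -/
local notation "𝒢" => Cfsg.Spor.J4

attribute [local irreducible] c1 c2 c3 t1 t2 t3 y0

/-- the centralizer of `y0` -/
noncomputable def NY : Subgroup 𝒢 := Subgroup.centralizer {y0}

theorem mem_NY {g : 𝒢} : g ∈ NY ↔ g * y0 = y0 * g := Subgroup.mem_centralizer_singleton_iff

theorem card_NY : Nat.card NY = 2661120 := by
  refine H854.Ore.cent_three (orderOf_eq_prime (hp := ⟨Nat.prime_three⟩) ?_ y0_ne)
  rw [pow_succ, pow_two, mul_assoc]; exact y0_cube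

/-! ### The orbits -/

theorem card_orbit_mul {G : Type*} [Group G] (N : Subgroup G) (u : G) :
    {v : G | ∃ n ∈ N, n * u * n⁻¹ = v}.ncard * Nat.card (N ⊓ Subgroup.centralizer {u} : Subgroup G) =
      Nat.card N := by
  let act : MulAction N G := MulAction.compHom G (MulAut.conj.comp N.subtype)
  have hs : ∀ n : N, n • u = (n : G) * u * (n : G)⁻¹ := fun n => rfl
  have h1 : {v : G | ∃ n ∈ N, n * u * n⁻¹ = v} = MulAction.orbit N u := by
    ext v
    constructor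
    · rintro ⟨n, hn, rfl⟩
      exact ⟨⟨n, hn⟩, rfl⟩
    · rintro ⟨n, rfl⟩
      exact ⟨n, n.2, rfl⟩
  have h2 : (N ⊓ Subgroup.centralizer {u} : Subgroup G) = (MulAction.stabilizer N u).map N.subtype := by
    ext x
    rw [Subgroup.mem_inf, Subgroup.mem_centralizer_singleton_iff, Subgroup.mem_map]
    constructor
    · rintro ⟨hx, hc⟩
      refine ⟨⟨x, hx⟩, ?_, rfl⟩
      rw [MulAction.mem_stabilizer_iff, hs]
      show x * u * x⁻¹ = u
      rw [hc, mul_inv_cancel_right]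
    · rintro ⟨n, hn, rfl⟩
      rw [MulAction.mem_stabilizer_iff, hs] at hn
      refine ⟨n.2, ?_⟩
      show (n : G) * u = u * n
      exact mul_inv_eq_iff_eq_mul.1 hn
  rw [h1, h2, Subgroup.card_map_of_injective N.subtype_injective, ← Nat.card_coe_set_eq,
    Nat.card_congr (MulAction.orbitEquivQuotientStabilizer N u)]
  exact (Subgroup.card_eq_card_quotient_mul_card_subgroup _).symm

theorem vis_length {G : Type*} [Group G] (C : List G) (w : List ℕ) (st : List G) :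
    (Eng.vis C w st).length = w.countP (fun i => i != 0) := by
  induction w generalizing st with
  | nil => rfl
  | cons i w ih =>
    rcases i with _ | k
    · rw [Eng.vis_zero, ih]
      rfl
    · rw [Eng.vis_succ, List.length_cons, ih, List.countP_cons]
      rfl

theorem length_flat (P : List Piece) : ((P.map (Piece.vis CJ TJ)).flatten).length =
    (P.map fun p => p.prog.countP (fun i => i != 0)).sum := by
  rw [List.length_flatten, List.map_map]
  congr 1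
  refine List.map_congr_left fun p _ => ?_
  exact vis_length _ _ _

/-- the elements of a piece are conjugate to the root under `NY` -/
theorem vis_conj {p : Piece} {k : ℕ} (hp : p.root = k) :
    ∀ t ∈ p.vis CJ TJ, t = 1 ∨ ∃ n ∈ NY, n * getG TJ k * n⁻¹ = t := by
  have key : ∀ c ∈ CJ, ∀ g : 𝒢, (g = 1 ∨ ∃ n ∈ NY, n * getG TJ k * n⁻¹ = g) →
      (c⁻¹ * g * c = 1 ∨ ∃ n ∈ NY, n * getG TJ k * n⁻¹ = c⁻¹ * g * c) := by
    intro c hc g hg
    have hcN : c ∈ NY := by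
      rw [mem_NY]
      simp only [CJ, List.mem_cons, List.not_mem_nil, or_false] at hc
      rcases hc with h | h | h
      · rw [h]; exact c1_y0
      · rw [h]; exact c2_y0
      · rw [h]; exact c3_y0
    rcases hg with hg | ⟨n, hn, hg⟩
    · left; rw [hg]; group
    · right
      refine ⟨c⁻¹ * n, NY.mul_mem (NY.inv_mem hcN) hn, ?_⟩
      rw [← hg]; group
  unfold Piece.vis
  rw [hp]
  refine Eng.vis_mem (P := fun g => g = 1 ∨ ∃ n ∈ NY, n * getG TJ k * n⁻¹ = g) (Or.inl rfl) key ?_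
  refine Eng.pstk_mem (P := fun g => g = 1 ∨ ∃ n ∈ NY, n * getG TJ k * n⁻¹ = g) (Or.inl rfl) key ?_
  intro g hg
  rw [List.mem_singleton] at hg
  exact Or.inr ⟨1, NY.one_mem, by rw [hg]; group⟩

theorem orbit_ge {P : List Piece} {k N : ℕ} (hP : P.Sublist PL) (hr : ∀ p ∈ P, p.root = k)
    (hN : (P.map fun p => p.prog.countP (fun i => i != 0)).sum = N) :
    N ≤ {v : 𝒢 | ∃ n ∈ NY, n * getG TJ k * n⁻¹ = v}.ncard := by
  classical
  have hsub : ((P.map (Piece.vis CJ TJ)).flatten).Sublist VL := (hP.map _).flatten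
  have hnd := nodup_VL.sublist hsub
  have h1 : (((P.map (Piece.vis CJ TJ)).flatten).toFinset : Set 𝒢) ⊆
      {v : 𝒢 | ∃ n ∈ NY, n * getG TJ k * n⁻¹ = v} := by
    intro x hx
    rw [List.coe_toFinset] at hx
    obtain ⟨l, hl, h1⟩ := List.mem_flatten.1 hx
    obtain ⟨p, hp, rfl⟩ := List.mem_map.1 hl
    exact (vis_conj (hr p hp) x h1).resolve_left (VL_ne (hsub.subset hx))
  have h3 := Set.ncard_le_ncard h1 (Set.toFinite _)
  rwa [Set.ncard_coe_finset, List.toFinset_card_of_nodup hnd, length_flat, hN] at h3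

theorem card_le {P : List Piece} {k N m : ℕ} (hP : P.Sublist PL) (hr : ∀ p ∈ P, p.root = k)
    (hN : (P.map fun p => p.prog.countP (fun i => i != 0)).sum = N) (hm : 2661120 < N * (m + 1)) :
    Nat.card (NY ⊓ Subgroup.centralizer {getG TJ k} : Subgroup 𝒢) ≤ m := by
  have h1 := orbit_ge hP hr hN
  have h2 := card_orbit_mul NY (getG TJ k)
  rw [card_NY] at h2
  by_contra h
  have h3 : m + 1 ≤ Nat.card (NY ⊓ Subgroup.centralizer {getG TJ k} : Subgroup 𝒢) := by omega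
  have h4 := Nat.mul_le_mul h1 h3
  omega

theorem card0 : Nat.card (NY ⊓ Subgroup.centralizer {getG TJ 0} : Subgroup 𝒢) ≤ 2688 :=
  card_le (P := PL.take 5) (N := 990) (List.take_sublist _ _) (by decide +kernel) (by decide +kernel) (by norm_num)

theorem card1 : Nat.card (NY ⊓ Subgroup.centralizer {getG TJ 1} : Subgroup 𝒢) ≤ 2688 :=
  card_le (P := (PL.drop 5).take 5) (N := 990) ((List.take_sublist _ _).trans (List.drop_sublist _ _))
    (by decide +kernel) (by decide +kernel) (by norm_num)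

theorem card2 : Nat.card (NY ⊓ Subgroup.centralizer {getG TJ 2} : Subgroup 𝒢) ≤ 320 :=
  card_le (P := PL.drop 10) (N := 8316) (List.drop_sublist _ _) (by decide +kernel) (by decide +kernel) (by norm_num)

end Cfsg.Agent.H111.JM.ZAll
end

-- part: H111/JM/ZList
section
/-!
# The elements of order 3 of the centralizers of `⟨y0, t_k⟩`, tests (helper111, S5580)
-/

set_option autoImplicit false
set_option maxRecDepth 100000

open Cfsg

namespace Cfsg.Agent.H111.JM.ZList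

open Cfsg.Agent.Lib Cfsg.Agent.Lib.F2Mat Cfsg.Agent.Lib.F2MatGroup
open Cfsg.Agent.J4.Rep112
open Cfsg.Agent.H858.VK
open Cfsg.Agent.H878.JM.Base (c1 c2 c3 t1 t2 t3 y0 y0_cube y0_ne c1_y0 c2_y0 c3_y0)
open Cfsg.Agent.H111.JM.Eng Cfsg.Agent.H111.JM.Env Cfsg.Agent.H111.JM.G0
open Cfsg.Agent.H111.JM.TList Cfsg.Agent.H111.JM.Sol Cfsg.Agent.H111.JM.Trip
open Cfsg.Agent.H111.JM.EngR Cfsg.Agent.H111.JM.ZD Cfsg.Agent.H111.JM.PZ Cfsg.Agent.H111.JM.ZAll

/-- the group `Spor.J4` -/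
local notation "𝒢" => Cfsg.Spor.J4

attribute [local irreducible] c1 c2 c3 t1 t2 t3 y0

/-! ### Soundness of the tests -/

theorem cub_of {z : 𝒢} {M : ℕ} (hM : Codes 112 (rho z) M) (h : z * z * z = 1) : cub M = true := by
  have e : rho z * rho z * rho z = 1 := by rw [← map_mul, ← map_mul, h, map_one]
  have h1 : vmul 112 (vmul 112 (vmul 112 v0 M) M) M = v0 := by
    refine toVec_inj (n := 112) (vmul_lt _ _) (by decide +kernel) ?_
    rw [codes_vmul hM, codes_vmul hM, codes_vmul hM, Matrix.vecMul_vecMul, Matrix.vecMul_vecMul,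
      ← Units.val_mul, ← Units.val_mul, ← mul_assoc, e, Units.val_one, Matrix.vecMul_one]
  unfold cub
  rw [h1]
  exact Nat.beq_refl _

theorem six_of {F z : 𝒢} {N M : ℕ} (hF : Codes 112 (rho F) N) (hM : Codes 112 (rho z) M)
    (h : (F * z) ^ 6 = 1) : six N M = true := by
  have hA : Codes 112 (rho (F * z)) (F2Mat.mul 112 N M) := by rw [map_mul]; exact hF.mul hM
  have e : rho (F * z) * (rho (F * z) * (rho (F * z) * (rho (F * z) * (rho (F * z) * rho (F * z))))) = 1 := by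
    rw [← map_mul, ← map_mul, ← map_mul, ← map_mul, ← map_mul, ← map_one rho, ← h]
    congr 1
    simp only [pow_succ, pow_zero, one_mul, mul_assoc]
  unfold six
  rw [force_eq]
  generalize F2Mat.mul 112 N M = A at hA
  have h1 : vmul 112 (vmul 112 (vmul 112 (vmul 112 (vmul 112 (vmul 112 v1 A) A) A) A) A) A = v1 := by
    refine toVec_inj (n := 112) (vmul_lt _ _) (by decide +kernel) ?_
    rw [codes_vmul hA, codes_vmul hA, codes_vmul hA, codes_vmul hA, codes_vmul hA, codes_vmul hA]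
    simp only [Matrix.vecMul_vecMul]
    rw [← Units.val_mul, ← Units.val_mul, ← Units.val_mul, ← Units.val_mul, ← Units.val_mul]
    simp only [mul_assoc] at e ⊢
    rw [e, Units.val_one, Matrix.vecMul_one]
  rw [h1]
  exact Nat.beq_refl _

theorem tz_bool {k c s0 s1 s2 s5 s6 s4 e : Bool}
    (h : cond k (cond c (cond s0 false (cond s1 false (cond s2 false (cond s5 false (cond s6 false
      (cond s4 e true)))))) true) false = true) :
    k = true ∧ (c = true → s0 = false ∧ s1 = false ∧ s2 = false ∧ s5 = false ∧ s6 = false ∧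
      (s4 = true → e = true)) := by
  cases k
  · exact absurd h Bool.false_ne_true
  refine ⟨rfl, fun hc => ?_⟩
  rw [hc] at h
  cases s0
  · cases s1
    · cases s2
      · cases s5
        · cases s6
          · refine ⟨rfl, rfl, rfl, rfl, rfl, fun h4 => ?_⟩
            rw [h4] at h
            exact h
          · exact absurd h Bool.false_ne_true
        · exact absurd h Bool.false_ne_true
      · exact absurd h Bool.false_ne_true
    · exact absurd h Bool.false_ne_true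
  · exact absurd h Bool.false_ne_true

theorem th_bool {k c e : Bool} (h : cond k (cond c e true) false = true) : k = true ∧ (c = true → e = true) := by
  revert h; cases k <;> cases c <;> cases e <;> decide

/-! ### The list for `t1` and `t2` -/

/-- the test of a pair -/
def RZ (z : 𝒢) (a : ℕ) : Prop := ∃ M, Codes 112 (rho z) M ∧ tz a M = true
/-- the test of a pair -/
def RH (z : 𝒢) (a : ℕ) : Prop := ∃ M, Codes 112 (rho z) M ∧ th a M = true

theorem RZ.key {z : 𝒢} {a : ℕ} (h : RZ z a) : HasKey 112 1470 20 (rho z) a := by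
  obtain ⟨M, h1, h2⟩ := h
  exact ⟨M, h1, Nat.eq_of_beq_eq_true (tz_bool h2).1⟩

theorem RH.key {z : 𝒢} {a : ℕ} (h : RH z a) : HasKey 112 3024 14 (rho z) a := by
  obtain ⟨M, h1, h2⟩ := h
  exact ⟨M, h1, Nat.eq_of_beq_eq_true (th_bool h2).1⟩

theorem fz {pa pg kz : List ℕ} (h : pchk 112 LG tz pa pg kz = true) : List.Forall₂ RZ (pvis GZ pa pg) kz := by
  have h1 := pchk_sound hG h
  rw [pvis_map, List.forall₂_map_left_iff] at h1
  exact h1

theorem fh {pa pg kz : List ℕ} (h : pchk 112 LH th pa pg kz = true) : List.Forall₂ RH (pvis GH pa pg) kz := by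
  have h1 := pchk_sound hH h
  rw [pvis_map, List.forall₂_map_left_iff] at h1
  exact h1

/-- the 2688 elements -/
noncomputable def ZL : List 𝒢 := [pvis GZ pa0 pg0, pvis GZ pa1 pg1, pvis GZ pa2 pg2, pvis GZ pa3 pg3,
  pvis GZ pa4 pg4, pvis GZ pa5 pg5, pvis GZ pa6 pg6, pvis GZ pa7 pg7, pvis GZ pa8 pg8, pvis GZ pa9 pg9,
  pvis GZ pa10 pg10, pvis GZ pa11 pg11].flatten
/-- the keys -/
def KZ : List (List ℕ) := [kz0, kz1, kz2, kz3, kz4, kz5, kz6, kz7, kz8, kz9, kz10, kz11]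

theorem forall_ZL : List.Forall₂ RZ ZL KZ.flatten :=
  forall₂_flatten (.cons (fz z0) (.cons (fz z1) (.cons (fz z2) (.cons (fz z3) (.cons (fz z4) (.cons (fz z5)
    (.cons (fz z6) (.cons (fz z7) (.cons (fz z8) (.cons (fz z9) (.cons (fz z10) (.cons (fz z11) .nil))))))))))))

theorem nodup_KZ : KZ.flatten.Nodup :=
  bs_sound 384 12
    0x8b26d00d59d23e0b99022510156800630061270eb42d00402820020617054d37d3023b93950ab4a900702231321205608400d7907eb3862b546702900b08414d36b5392f812800335497239b1aa6e64f764539c27800906a00c0011c04970001c9a334ea1022a301529d01607f26c0330534236c949b0ab0390080000df10d09887801700a58b23c8043a725e02778c02910363402f1275180c18430033c54f70152762bd0020e913b0c30a16010f800102d01415701a0182df0052281ab3ee61aa2961200b1070050020bd02e0200170001583c927057b2710b500113800609d16507246b4a045d47200230f08e10802b18421c27e00c07101000400a0670bd20909d0c500726510216141d1ea01602b05429401f09613a2070043460810080670040001c604e30b1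ff0143de3640ef36a3c701b1ee0b400201340019000431c38f03d2c70000000e400201011802656e0e502d00204617118a0be0090000526f900010228100406c05224b2640ba6fb02013200903800650809d1bf00000105309303938e0470000e839a01b00321714423500f00601b21000111321602200406900302001c0120060301603c60080050b31600310db02107c01d07104c22b01c0770d512203f03c0013ae0d419341001d04708f00108601f0010571d20b80690bf09212716800026b19d00026001b05c0382200000d01e322f0040020022041402d100a06702802501109f00003b00103401703105100139d04b0043ea1b213001540300019d22f02216d01800115711f4760023125312060960010d7000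
    _ (by decide +kernel)
theorem length_KZ : KZ.flatten.length = 2688 := by decide +kernel
theorem nodup_kh : kh.Nodup := bs_sound 1 14 0 _ (by decide +kernel)
theorem length_kh : kh.length = 320 := by decide +kernel

theorem nodup_ZL : ZL.Nodup :=
  nodup_of_keys (R := RZ) (fun _ _ _ h1 h2 => HasKey.unique (by norm_num) h1.key h2.key) forall_ZL nodup_KZ

theorem nodup_HL : (pvis GH [] ph).Nodup :=
  nodup_of_keys (R := RH) (fun _ _ _ h1 h2 => HasKey.unique (by norm_num) h1.key h2.key) (fh zh) nodup_kh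

theorem comm_w {w : List ℕ} {k : ℕ} (h : Nat.beq (evW 112 LM (w ++ [k])) (evW 112 LM ([k] ++ w)) = true) :
    evG L0 w * getG L0 k = getG L0 k * evG L0 w := by
  have h1 := eq_w h
  rwa [evG_append', evG_append', evG_cons, evG_nil, mul_one] at h1

theorem GZ_comm : ∀ c ∈ GZ, c * y0 = y0 * c ∧ c * t1 = t1 * c ∧ c * t2 = t2 * c := by
  intro c hc
  simp only [GZ, List.mem_cons, List.not_mem_nil, or_false] at hc
  rcases hc with h | h | h | h
  · rw [h]
    exact ⟨comm_w (w := gw0) (k := 9) (by decide +kernel), comm_w (w := gw0) (k := 14) (by decide +kernel),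
      comm_w (w := gw0) (k := 15) (by decide +kernel)⟩
  · rw [h]
    exact ⟨comm_w (w := gw1) (k := 9) (by decide +kernel), comm_w (w := gw1) (k := 14) (by decide +kernel),
      comm_w (w := gw1) (k := 15) (by decide +kernel)⟩
  · rw [h]
    exact ⟨comm_w (w := gw2) (k := 9) (by decide +kernel), comm_w (w := gw2) (k := 14) (by decide +kernel),
      comm_w (w := gw2) (k := 15) (by decide +kernel)⟩
  · rw [h]
    exact ⟨comm_w (w := gw3) (k := 9) (by decide +kernel), comm_w (w := gw3) (k := 14) (by decide +kernel),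
      comm_w (w := gw3) (k := 15) (by decide +kernel)⟩

theorem GH_comm : ∀ c ∈ GH, c * y0 = y0 * c ∧ c * t3 = t3 * c := by
  intro c hc
  simp only [GH, List.mem_cons, List.not_mem_nil, or_false] at hc
  rcases hc with h | h | h
  · rw [h]
    exact ⟨comm_w (w := hw0) (k := 9) (by decide +kernel), comm_w (w := hw0) (k := 16) (by decide +kernel)⟩
  · rw [h]
    exact ⟨comm_w (w := hw1) (k := 9) (by decide +kernel), comm_w (w := hw1) (k := 16) (by decide +kernel)⟩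
  · rw [h]
    exact ⟨comm_w (w := hw2) (k := 9) (by decide +kernel), comm_w (w := hw2) (k := 16) (by decide +kernel)⟩

/-- the subgroup of the elements centralizing `y0` and `t` -/
noncomputable def KT (t : 𝒢) : Subgroup 𝒢 := NY ⊓ Subgroup.centralizer {t}

theorem mem_KT {t z : 𝒢} : z ∈ KT t ↔ z * y0 = y0 * z ∧ z * t = t * z := by
  unfold KT
  rw [Subgroup.mem_inf, mem_NY, Subgroup.mem_centralizer_singleton_iff]

theorem ZL_mem {t : 𝒢} (ht : ∀ c ∈ GZ, c * t = t * c) : ∀ z ∈ ZL, z ∈ KT t := by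
  have hG : ∀ c ∈ GZ, c ∈ KT t := fun c hc => mem_KT.2 ⟨(GZ_comm c hc).1, ht c hc⟩
  intro z hz
  obtain ⟨l, hl, h1⟩ := List.mem_flatten.1 hz
  simp only [List.mem_cons, List.not_mem_nil, or_false] at hl
  rcases hl with h | h | h | h | h | h | h | h | h | h | h | h
  all_goals
    rw [h] at h1
    exact pvis_mem hG _ _ z h1

/-- the elements of `KT t1` and `KT t2` -/
theorem mem_ZL {t z : 𝒢} (ht : ∀ c ∈ GZ, c * t = t * c) (hc : Nat.card (KT t) ≤ 2688) (hz : z ∈ KT t) :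
    z ∈ ZL := by
  refine mem_of_card (P := fun z => z ∈ KT t) (ZL_mem ht) nodup_ZL ?_ hz
  rw [forall_ZL.length_eq, length_KZ]
  exact hc

theorem mem_HL {t z : 𝒢} (ht : ∀ c ∈ GH, c * t = t * c) (hc : Nat.card (KT t) ≤ 320) (hz : z ∈ KT t) :
    z ∈ pvis GH [] ph := by
  have hG : ∀ c ∈ GH, c ∈ KT t := fun c hc => mem_KT.2 ⟨(GH_comm c hc).1, ht c hc⟩
  refine mem_of_card (P := fun z => z ∈ KT t) (pvis_mem hG _ _) nodup_HL ?_ hz
  rw [(fh zh).length_eq, length_kh]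
  exact hc

theorem exists_key {α : Type*} {R : α → ℕ → Prop} {L : List α} {K : List ℕ} (h : List.Forall₂ R L K)
    {g : α} (hg : g ∈ L) : ∃ a, R g a := by
  induction h with
  | nil => exact absurd hg List.not_mem_nil
  | @cons c b L K h1 _ ih =>
    rcases List.mem_cons.1 hg with rfl | hg
    · exact ⟨b, h1⟩
    · exact ih hg

/-! ### The conclusion -/

theorem case12 {t z : 𝒢} (ht : ∀ c ∈ GZ, c * t = t * c) (hc : Nat.card (KT t) ≤ 2688)
    (h1 : z * y0 = y0 * z) (h2 : z * t = t * z) (h3 : z * z * z = 1) :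
    (Fm 0 * z) ^ 6 ≠ 1 ∧ (Fm 1 * z) ^ 6 ≠ 1 ∧ (Fm 2 * z) ^ 6 ≠ 1 ∧ (Fm 5 * z) ^ 6 ≠ 1 ∧ (Fm 6 * z) ^ 6 ≠ 1 ∧
      ((Fm 4 * z) ^ 6 = 1 → Codes 112 (rho z) mz) := by
  obtain ⟨a, M, hM, hR⟩ := exists_key forall_ZL (mem_ZL ht hc (mem_KT.2 ⟨h1, h2⟩))
  obtain ⟨s0, s1, s2, s5, s6, s4⟩ := (tz_bool hR).2 (cub_of hM h3)
  have key : ∀ {F : 𝒢} {N : ℕ}, Codes 112 (rho F) N → six N M = false → (F * z) ^ 6 ≠ 1 := by
    intro F N hF hs h
    rw [six_of hF hM h] at hs
    exact absurd hs (by decide)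
  refine ⟨key cF0 s0, key cF1 s1, key cF2 s2, key cF5 s5, key cF6 s6, fun h => ?_⟩
  rw [← Nat.eq_of_beq_eq_true (s4 (six_of cF4 hM h))]
  exact hM

theorem case3 {t z : 𝒢} (ht : ∀ c ∈ GH, c * t = t * c) (hc : Nat.card (KT t) ≤ 320)
    (h1 : z * y0 = y0 * z) (h2 : z * t = t * z) (h3 : z * z * z = 1) : z = 1 := by
  obtain ⟨a, M, hM, hR⟩ := exists_key (fh zh) (mem_HL ht hc (mem_KT.2 ⟨h1, h2⟩))
  have s := (th_bool hR).2 (cub_of hM h3)
  rw [Nat.eq_of_beq_eq_true s] at hM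
  exact rho_injective (Codes.eq hM (by rw [map_one]; exact Codes.one 112) (Nat.beq_refl _))

/-- **the extensions of the triples** -/
theorem zcase {m : ℕ} (hm : m < 8) {z : 𝒢} (h1 : z * y0 = y0 * z) (h2 : z * getG TJ (kr m) = getG TJ (kr m) * z)
    (h3 : z * z * z = 1) (hz : z ≠ 1) (h6 : (Fm m * z) ^ 6 = 1) : m = 4 ∧ Codes 112 (rho z) mz := by
  have a1 : ∀ c ∈ GZ, c * getG TJ 0 = getG TJ 0 * c := fun c hc => (GZ_comm c hc).2.1
  have a2 : ∀ c ∈ GZ, c * getG TJ 1 = getG TJ 1 * c := fun c hc => (GZ_comm c hc).2.2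
  have a3 : ∀ c ∈ GH, c * getG TJ 2 = getG TJ 2 * c := fun c hc => (GH_comm c hc).2
  interval_cases m
  · exact absurd h6 (case12 a1 card0 h1 h2 h3).1
  · exact absurd h6 (case12 a1 card0 h1 h2 h3).2.1
  · exact absurd h6 (case12 a2 card1 h1 h2 h3).2.2.1
  · exact absurd (case3 a3 card2 h1 h2 h3) hz
  · exact ⟨rfl, (case12 a1 card0 h1 h2 h3).2.2.2.2.2 h6⟩
  · exact absurd h6 (case12 a1 card0 h1 h2 h3).2.2.2.1
  · exact absurd h6 (case12 a2 card1 h1 h2 h3).2.2.2.2.1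
  · exact absurd (case3 a3 card2 h1 h2 h3) hz

end Cfsg.Agent.H111.JM.ZList
end

-- part: H111/JM/U33Gens
section
/-!
# Generators of `PSU₃(3)` (helper111, S5580)

`f, y, t` generate a subgroup `PSL₂(7)`, `z` is an element of order 3 commuting with `y` and `t`.
-/

set_option autoImplicit false

open Cfsg

namespace Cfsg.Agent.H111.JM.U33Gens

open Matrix
open Cfsg.Agent.H111.JM.Psl7 (Tri)
open Cfsg.Agent.Classification.RTwo.UThreeThree (K9 IsGood card_k9 psuEquiv)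

/-! ### A nonabelian 3-group -/

section three

variable {G : Type*} [Group G] [Finite G]

/-- two elements generating a nonabelian group of order 27 -/
theorem dvd27 {H : Subgroup G} {a b c : G} (ha : a ∈ H) (hb : b ∈ H) (hc : c ∈ H) (a3 : a ^ 3 = 1)
    (b3 : b ^ 3 = 1) (c3 : c ^ 3 = 1) (c1 : c ≠ 1) (ac : a * c = c * a) (bc : b * c = c * b)
    (hab : a * b = c * (b * a)) : 27 ∣ Nat.card H := by
  have hp : Fact (Nat.Prime 3) := ⟨Nat.prime_three⟩
  have hz : ∀ x : G, x ^ 3 = 1 → IsPGroup 3 (Subgroup.zpowers x) := by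
    rintro x hx ⟨g, hg⟩
    obtain ⟨k, rfl⟩ := Subgroup.mem_zpowers_iff.1 hg
    refine ⟨1, Subtype.ext ?_⟩
    show (x ^ k) ^ 3 ^ 1 = 1
    rw [pow_one, ← zpow_natCast, ← _root_.zpow_mul, mul_comm, _root_.zpow_mul, zpow_natCast, hx, _root_.one_zpow]
  have h1 : IsPGroup 3 (Subgroup.zpowers a ⊔ Subgroup.zpowers c : Subgroup G) := by
    refine IsPGroup.to_sup_of_normal_right' (hz a a3) (hz c c3) ?_
    rw [Subgroup.zpowers_le, Subgroup.mem_normalizer_iff]
    intro h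
    have key : ∀ x ∈ Subgroup.zpowers c, a * x * a⁻¹ = x := by
      intro x hx
      obtain ⟨k, rfl⟩ := Subgroup.mem_zpowers_iff.1 hx
      have : Commute a (c ^ k) := (show Commute a c from ac).zpow_right k
      rw [this.eq, mul_inv_cancel_right]
    constructor
    · intro hh; rw [key h hh]; exact hh
    · intro hh
      have h2 := key _ hh
      have h3 : a * h * a⁻¹ = h := by
        have h4 : a * (a * h * a⁻¹) * a⁻¹ = a * h * a⁻¹ := h2
        have h5 : a⁻¹ * (a * (a * h * a⁻¹) * a⁻¹) * a = a⁻¹ * (a * h * a⁻¹) * a := by rw [h4]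
        have h6 : a⁻¹ * (a * (a * h * a⁻¹) * a⁻¹) * a = a * h * a⁻¹ := by group
        have h7 : a⁻¹ * (a * h * a⁻¹) * a = h := by group
        rw [h6, h7] at h5
        exact h5
      rw [h3] at hh; exact hh
  set Q : Subgroup G := Subgroup.zpowers a ⊔ Subgroup.zpowers c with hQ
  have haQ : a ∈ Q := Subgroup.mem_sup_left (Subgroup.mem_zpowers a)
  have hcQ : c ∈ Q := Subgroup.mem_sup_right (Subgroup.mem_zpowers c)
  have hba : b * a * b⁻¹ = c⁻¹ * a := by
    rw [mul_inv_eq_iff_eq_mul, mul_assoc, hab, inv_mul_cancel_left]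
  have hbc : b * c * b⁻¹ = c := by rw [bc, mul_inv_cancel_right]
  have h2 : Subgroup.zpowers b ≤ Subgroup.normalizer (Q : Set G) := by
    rw [Subgroup.zpowers_le]
    have h3 : Q.map (MulAut.conj b).toMonoidHom ≤ Q := by
      rw [hQ, Subgroup.map_sup, MonoidHom.map_zpowers, MonoidHom.map_zpowers]
      refine sup_le ?_ ?_
      · rw [Subgroup.zpowers_le]
        show b * a * b⁻¹ ∈ Q
        rw [hba]
        exact Q.mul_mem (Q.inv_mem hcQ) haQ
      · rw [Subgroup.zpowers_le]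
        show b * c * b⁻¹ ∈ Q
        rw [hbc]
        exact hcQ
    have h4 : Q.map (MulAut.conj b).toMonoidHom = Q := by
      refine Subgroup.eq_of_le_of_card_ge h3 ?_
      exact (Nat.card_congr (Q.equivMapOfInjective (MulAut.conj b).toMonoidHom
        (MulAut.conj b).injective).toEquiv).le
    rw [Subgroup.mem_normalizer_iff]
    intro h
    constructor
    · intro hh
      exact h3 (Subgroup.mem_map_of_mem _ hh)
    · intro hh
      rw [← h4] at hh
      obtain ⟨x, hx, hx'⟩ := Subgroup.mem_map.1 hh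
      have : x = h := (MulAut.conj b).injective hx'
      rwa [← this]
  have h3 : IsPGroup 3 (Subgroup.zpowers b ⊔ Q : Subgroup G) := IsPGroup.to_sup_of_normal_right' (hz b b3) h1 h2
  set P : Subgroup G := Subgroup.zpowers b ⊔ Q with hP
  have hPH : P ≤ H := by
    rw [hP, hQ]
    refine sup_le (Subgroup.zpowers_le.2 hb) (sup_le (Subgroup.zpowers_le.2 ha) (Subgroup.zpowers_le.2 hc))
  obtain ⟨k, hk⟩ := IsPGroup.iff_card.1 h3
  have h4 : 3 ≤ k := by
    by_contra h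
    have haP : a ∈ P := Subgroup.mem_sup_right haQ
    have hbP : b ∈ P := Subgroup.mem_sup_left (Subgroup.mem_zpowers b)
    have comm : ∀ x y : P, x * y = y * x := by
      have hk' : k = 0 ∨ k = 1 ∨ k = 2 := by omega
      rcases hk' with rfl | rfl | rfl
      · rw [pow_zero, Nat.card_eq_one_iff_unique] at hk
        intro x y
        exact hk.1.elim _ _
      · have := isCyclic_of_prime_card (p := 3) (by rw [hk, pow_one])
        intro x y
        obtain ⟨g, hg⟩ := this.exists_generator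
        obtain ⟨i, rfl⟩ := Subgroup.mem_zpowers_iff.1 (hg x)
        obtain ⟨j, rfl⟩ := Subgroup.mem_zpowers_iff.1 (hg y)
        rw [← _root_.zpow_add, ← _root_.zpow_add, add_comm]
      · exact (IsPGroup.isMulCommutative_of_card_eq_prime_sq hk).1.1
    have h5 := congrArg Subtype.val (comm ⟨a, haP⟩ ⟨b, hbP⟩)
    have h6 : a * b = b * a := h5
    rw [h6] at hab
    exact c1 (mul_right_cancel (b := b * a) (by rw [← hab, one_mul]))
  have h5 : 27 ∣ Nat.card P := by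
    rw [hk]
    exact pow_dvd_pow 3 h4
  exact h5.trans (Subgroup.card_dvd_of_le hPH)

end three

/-! ### The matrices -/

/-- `f` -/
def mF : Matrix (Fin 3) (Fin 3) K9 :=
  !![⟨0, 0⟩, ⟨0, 0⟩, ⟨1, 0⟩; ⟨1, 1⟩, ⟨1, 1⟩, ⟨0, 0⟩; ⟨2, 1⟩, ⟨1, 2⟩, ⟨0, 0⟩]
/-- `y` -/
def mY : Matrix (Fin 3) (Fin 3) K9 :=
  !![⟨2, 0⟩, ⟨1, 2⟩, ⟨0, 2⟩; ⟨0, 2⟩, ⟨2, 2⟩, ⟨1, 0⟩; ⟨2, 2⟩, ⟨0, 0⟩, ⟨2, 1⟩]
/-- `t` -/
def mT : Matrix (Fin 3) (Fin 3) K9 :=
  !![⟨1, 0⟩, ⟨2, 1⟩, ⟨0, 1⟩; ⟨2, 2⟩, ⟨0, 0⟩, ⟨2, 1⟩; ⟨0, 2⟩, ⟨2, 2⟩, ⟨1, 0⟩]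
/-- `z` -/
def mZ : Matrix (Fin 3) (Fin 3) K9 :=
  !![⟨1, 1⟩, ⟨0, 2⟩, ⟨0, 1⟩; ⟨0, 2⟩, ⟨1, 1⟩, ⟨0, 2⟩; ⟨0, 1⟩, ⟨0, 2⟩, ⟨1, 1⟩]

theorem gF : IsGood mF := by decide +kernel
theorem gY : IsGood mY := by decide +kernel
theorem gT : IsGood mT := by decide +kernel
theorem gZ : IsGood mZ := by decide +kernel

/-- the group -/
abbrev UU := Cfsg.SU 3 K9 3

/-- the matrix of an element -/
def mt (x : UU) : Matrix (Fin 3) (Fin 3) K9 := (x : Matrix.SpecialLinearGroup (Fin 3) K9)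

theorem mt_mul (x y : UU) : mt (x * y) = mt x * mt y := rfl
theorem mt_one : mt 1 = 1 := rfl
theorem mt_inj {x y : UU} (h : mt x = mt y) : x = y := Subtype.ext (Subtype.ext h)
theorem mt_pow (x : UU) (n : ℕ) : mt (x ^ n) = mt x ^ n := by
  induction n with
  | zero => rw [pow_zero, pow_zero, mt_one]
  | succ n ih => rw [pow_succ, pow_succ, mt_mul, ih]

/-- `f` -/
def F : UU := gF.su
/-- `y` -/
def Y : UU := gY.su
/-- `t` -/
def T : UU := gT.su
/-- `z` -/
def Z : UU := gZ.su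

theorem mtF : mt F = mF := rfl
theorem mtY : mt Y = mY := rfl
theorem mtT : mt T = mT := rfl
theorem mtZ : mt Z = mZ := rfl

theorem ne_of {x y : UU} {i j : Fin 3} (h : mt x i j ≠ mt y i j) : x ≠ y := fun e => h (by rw [e])

theorem F7 : F ^ 7 = 1 := by
  apply mt_inj
  rw [mt_pow, mtF, mt_one]
  simp only [pow_succ, pow_zero, one_mul]
  decide +kernel

theorem Y3 : Y ^ 3 = 1 := by
  apply mt_inj
  rw [mt_pow, mtY, mt_one]
  simp only [pow_succ, pow_zero, one_mul]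
  decide +kernel

theorem Z3 : Z ^ 3 = 1 := by
  apply mt_inj
  rw [mt_pow, mtZ, mt_one]
  simp only [pow_succ, pow_zero, one_mul]
  decide +kernel

theorem TT' : T * T = 1 := by
  apply mt_inj
  rw [mt_mul, mtT, mt_one]
  decide +kernel

theorem F1 : F ≠ 1 := by
  apply ne_of (i := 0) (j := 0)
  rw [mtF, mt_one]
  decide +kernel

theorem Y1 : Y ≠ 1 := by
  apply ne_of (i := 0) (j := 0)
  rw [mtY, mt_one]
  decide +kernel

theorem Z1 : Z ≠ 1 := by
  apply ne_of (i := 0) (j := 0)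
  rw [mtZ, mt_one]
  decide +kernel

theorem tri : Tri F Y T where
  f1 := F1
  f7 := F7
  yf := by
    rw [mul_inv_eq_iff_eq_mul]
    apply mt_inj
    rw [mt_mul, mt_mul, mt_pow, mtF, mtY, pow_two]
    decide +kernel
  y1 := Y1
  y3 := Y3
  tt := TT'
  ty := by
    rw [mul_inv_eq_iff_eq_mul, eq_inv_mul_iff_mul_eq]
    apply mt_inj
    rw [mt_mul, mt_mul, mtT, mtY]
    decide +kernel
  ft := by
    apply mt_inj
    simp only [mt_mul, mtF, mtT, mt_one]
    decide +kernel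

theorem ZY : Z * Y = Y * Z := by
  apply mt_inj
  rw [mt_mul, mt_mul, mtZ, mtY]
  decide +kernel

theorem ZT : Z * T = T * Z := by
  apply mt_inj
  rw [mt_mul, mt_mul, mtZ, mtT]
  decide +kernel

theorem FZ6 : (F * Z) ^ 6 = 1 := by
  apply mt_inj
  rw [mt_pow, mt_mul, mtF, mtZ, mt_one]
  simp only [pow_succ, pow_zero, one_mul]
  decide +kernel

/-! ### Generation -/

/-- an element of order 8 -/
theorem ord8 : orderOf (F ^ 6 * Z) = 8 := by
  have hp : Fact (Nat.Prime 2) := ⟨Nat.prime_two⟩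
  have h : orderOf (F ^ 6 * Z) = 2 ^ (2 + 1) := by
    apply orderOf_eq_prime_pow
    · intro h
      have h1 := congrArg mt h
      rw [mt_pow, mt_mul, mt_pow, mtF, mtZ, mt_one] at h1
      simp only [pow_succ, pow_zero, one_mul] at h1
      exact absurd h1 (by decide +kernel)
    · apply mt_inj
      rw [mt_pow, mt_mul, mt_pow, mtF, mtZ, mt_one]
      simp only [pow_succ, pow_zero, one_mul]
      decide +kernel
  rw [h]; norm_num

/-- the elements of the nonabelian 3-group -/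
def A : UU := F ^ 6 * Y ^ 2
/-- the elements of the nonabelian 3-group -/
def B : UU := Y ^ 2 * F * Z ^ 2 * F * Z ^ 2
/-- the elements of the nonabelian 3-group -/
def C : UU := A * B * A ^ 2 * B ^ 2

/-- packed `A` -/
def mA : Matrix (Fin 3) (Fin 3) K9 := mF * mF * mF * mF * mF * mF * (mY * mY)
/-- packed `B` -/
def mB : Matrix (Fin 3) (Fin 3) K9 := mY * mY * mF * (mZ * mZ) * mF * (mZ * mZ)
/-- packed `C` -/
def mC : Matrix (Fin 3) (Fin 3) K9 := mA * mB * (mA * mA) * (mB * mB)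

theorem mtA : mt A = mA := by
  unfold A mA
  rw [mt_mul, mt_pow, mt_pow, mtF, mtY]
  simp only [pow_succ, pow_zero, one_mul]
theorem mtB : mt B = mB := by
  unfold B mB
  simp only [mt_mul, mtF, mtY, mtZ, pow_succ, pow_zero, one_mul]
theorem mtC : mt C = mC := by
  unfold C mC
  simp only [mt_mul, mtA, mtB, pow_succ, pow_zero, one_mul]

theorem A3 : A ^ 3 = 1 := by
  apply mt_inj
  rw [mt_pow, mtA, mt_one]
  simp only [pow_succ, pow_zero, one_mul]
  decide +kernel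
theorem B3 : B ^ 3 = 1 := by
  apply mt_inj
  rw [mt_pow, mtB, mt_one]
  simp only [pow_succ, pow_zero, one_mul]
  decide +kernel
theorem C3 : C ^ 3 = 1 := by
  apply mt_inj
  rw [mt_pow, mtC, mt_one]
  simp only [pow_succ, pow_zero, one_mul]
  decide +kernel
theorem AC : A * C = C * A := by
  apply mt_inj
  rw [mt_mul, mt_mul, mtA, mtC]
  decide +kernel
theorem BC : B * C = C * B := by
  apply mt_inj
  rw [mt_mul, mt_mul, mtB, mtC]
  decide +kernel
theorem AB : A * B = C * (B * A) := by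
  apply mt_inj
  rw [mt_mul, mt_mul, mt_mul, mtA, mtB, mtC]
  decide +kernel
theorem AB' : A * B ≠ B * A := by
  intro h
  have h1 := congrArg mt h
  rw [mt_mul, mt_mul, mtA, mtB] at h1
  exact absurd h1 (by decide +kernel)

theorem C1 : C ≠ 1 := by
  intro h
  have h1 := AB
  rw [h, one_mul] at h1
  exact AB' h1

theorem card_UU : Nat.card UU = 6048 := Cfsg.Agent.H2.UniqCUThree.card_su

theorem simple_UU : IsSimpleGroup UU := by
  have hs : IsSimpleGroup (Cfsg.PSU 3 K9 3) :=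
    S0283.result (F := K9) (q := 3) (by rw [card_k9]; norm_num) 3 le_rfl (by norm_num)
  exact (MulEquiv.isSimpleGroup_congr (psuEquiv card_k9)).1 hs

/-- **generation** -/
theorem gens : Subgroup.closure {F, Y, T, Z} = ⊤ := by
  have hfin : Finite UU := Nat.finite_of_card_ne_zero (by rw [card_UU]; norm_num)
  have hs := simple_UU
  set H : Subgroup UU := Subgroup.closure {F, Y, T, Z} with hH
  have hF : F ∈ H := Subgroup.subset_closure (by simp)
  have hY : Y ∈ H := Subgroup.subset_closure (by simp)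
  have hZ : Z ∈ H := Subgroup.subset_closure (by simp)
  have h7 : 7 ∣ Nat.card H := by
    have h1 : orderOf (⟨F, hF⟩ : H) = 7 := by
      have hp : Fact (Nat.Prime 7) := ⟨by norm_num⟩
      exact orderOf_eq_prime (Subtype.ext F7) (fun h => F1 (congrArg Subtype.val h))
    rw [← h1]; exact orderOf_dvd_natCard _
  have h8 : 8 ∣ Nat.card H := by
    have hw : F ^ 6 * Z ∈ H := H.mul_mem (H.pow_mem hF 6) hZ
    have h1 : orderOf (⟨F ^ 6 * Z, hw⟩ : H) = 8 := by rw [Subgroup.orderOf_mk]; exact ord8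
    rw [← h1]; exact orderOf_dvd_natCard _
  have hA : A ∈ H := H.mul_mem (H.pow_mem hF 6) (H.pow_mem hY 2)
  have hB : B ∈ H := H.mul_mem (H.mul_mem (H.mul_mem (H.mul_mem (H.pow_mem hY 2) hF) (H.pow_mem hZ 2)) hF)
    (H.pow_mem hZ 2)
  have hC : C ∈ H := H.mul_mem (H.mul_mem (H.mul_mem hA hB) (H.pow_mem hA 2)) (H.pow_mem hB 2)
  have h27 : 27 ∣ Nat.card H := dvd27 hA hB hC A3 B3 C3 C1 AC BC AB
  have h1512 : 1512 ∣ Nat.card H := by
    have h1 : 7 * 8 ∣ Nat.card H := Nat.Coprime.mul_dvd_of_dvd_of_dvd (by norm_num) h7 h8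
    exact Nat.Coprime.mul_dvd_of_dvd_of_dvd (m := 7 * 8) (n := 27) (by norm_num) h1 h27
  by_contra hne
  have h1 := Cfsg.Agent.H393.Sp.card_dvd_factorial hne
  have h2 := H.card_mul_index
  rw [card_UU] at h1 h2
  obtain ⟨k, hk⟩ := h1512
  rw [hk] at h2
  have h3 : k * H.index = 4 := by
    have : 1512 * (k * H.index) = 1512 * 4 := by rw [← mul_assoc, h2]
    exact Nat.eq_of_mul_eq_mul_left (by norm_num) this
  have h4 : H.index ≤ 4 := Nat.le_of_dvd (by norm_num) (Dvd.intro_left k h3)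
  have h5 := Nat.le_of_dvd (Nat.factorial_pos _) h1
  have h6 : H.index.factorial ≤ (4 : ℕ).factorial := Nat.factorial_le h4
  have h7 : (4 : ℕ).factorial = 24 := rfl
  omega

/-- **generators of a group isomorphic to `PSU₃(3)`** -/
theorem exists_gens {S : Type*} [Group S] {F' : Type*} [Field F'] [Fintype F'] (h : Fintype.card F' = 9)
    (e : S ≃* Cfsg.PSU 3 F' 3) : ∃ f y t z : S, Tri f y t ∧ z ^ 3 = 1 ∧ z ≠ 1 ∧ z * y = y * z ∧ z * t = t * z ∧
      (f * z) ^ 6 = 1 ∧ Subgroup.closure {f, y, t, z} = ⊤ := by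
  have hcard : Fintype.card F' = Fintype.card K9 := by rw [h, card_k9]
  let e1 : Cfsg.PSU 3 F' 3 ≃* UU := (psuEquiv h).trans
    (LieClassical.FieldTransfer.suCongr 3 3 (FiniteField.ringEquivOfCardEq hcard))
  let E : UU ≃* S := (e.trans e1).symm
  refine ⟨E F, E Y, E T, E Z, tri.map E.toMonoidHom E.injective, ?_, ?_, ?_, ?_, ?_, ?_⟩
  · rw [← map_pow, Z3, map_one]
  · rw [Ne, map_eq_one_iff E E.injective]; exact Z1
  · rw [← map_mul, ZY, map_mul]
  · rw [← map_mul, ZT, map_mul]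
  · rw [← map_mul, ← map_pow, FZ6, map_one]
  · have h8 : Subgroup.closure {E F, E Y, E T, E Z} = (Subgroup.closure {F, Y, T, Z}).map E.toMonoidHom := by
      rw [MonoidHom.map_closure, Set.image_insert_eq, Set.image_insert_eq, Set.image_insert_eq, Set.image_singleton]
      rfl
    rw [h8, gens, Subgroup.map_top_of_surjective _ E.surjective]

end Cfsg.Agent.H111.JM.U33Gens
end

-- part: H111/JM/U33
section
/-!
# The maximal subgroups of `J4` with socle `PSU₃(3)` are conjugate (helper111, S5580)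
-/

set_option autoImplicit false
set_option maxRecDepth 100000

open Cfsg

namespace Cfsg.Agent.H111.JM.U33

open Cfsg.Agent.Lib Cfsg.Agent.Lib.F2Mat Cfsg.Agent.Lib.F2MatGroup
open Cfsg.Agent.J4.Rep112
open Cfsg.Agent.H858.VK
open Cfsg.Agent.H878.JM.Base (c1 c2 c3 t1 t2 t3 y0)
open Cfsg.Agent.H860.JM Cfsg.Agent.H856.JM
open Cfsg.Agent.H111.JM.Eng Cfsg.Agent.H111.JM.Env Cfsg.Agent.H111.JM.EnvF Cfsg.Agent.H111.JM.G0
open Cfsg.Agent.H111.JM.Sol Cfsg.Agent.H111.JM.Psl7 Cfsg.Agent.H111.JM.Trip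
open Cfsg.Agent.H111.JM.ZD (mz)

/-- the group `Spor.J4` -/
local notation "𝒢" => Cfsg.Spor.J4

attribute [local irreducible] c1 c2 c3 t1 t2 t3 y0

/-- the generators of a subgroup isomorphic to `PSU₃(3)` -/
theorem gens_sub {G : Type*} [Group G] {S : Subgroup G} {F : Type*} [Field F] [Fintype F]
    (hF : Fintype.card F = 9) (e : Nonempty (S ≃* Cfsg.PSU 3 F 3)) :
    ∃ f y t z : G, Tri f y t ∧ z ^ 3 = 1 ∧ z ≠ 1 ∧ z * y = y * z ∧ z * t = t * z ∧ (f * z) ^ 6 = 1 ∧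
      S = Subgroup.closure {f, y, t, z} := by
  obtain ⟨e⟩ := e
  obtain ⟨f, y, t, z, h1, h2, h3, h4, h5, h6, h7⟩ := U33Gens.exists_gens hF e
  refine ⟨f, y, t, z, h1.map S.subtype S.subtype_injective, congrArg Subtype.val h2,
    fun h => h3 (Subtype.ext h), congrArg Subtype.val h4, congrArg Subtype.val h5, congrArg Subtype.val h6, ?_⟩
  have h8 := congrArg (Subgroup.map S.subtype) h7
  rw [MonoidHom.map_closure, ← MonoidHom.range_eq_map, Subgroup.range_subtype] at h8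
  refine h8.symm.trans (congrArg Subgroup.closure ?_)
  ext x
  simp [eq_comm]

theorem closure_congr {G : Type*} [Group G] {f F y t z Z : G} (h : f = F ∨ f = F⁻¹) (h' : z = Z ∨ z = Z⁻¹) :
    Subgroup.closure {f, y, t, z} = Subgroup.closure {F, y, t, Z} := by
  have key : ∀ a b c d : G, (a = b ∨ a = b⁻¹) → (c = d ∨ c = d⁻¹) →
      Subgroup.closure {a, y, t, c} ≤ Subgroup.closure {b, y, t, d} := by
    intro a b c d hab hcd
    rw [Subgroup.closure_le]
    intro g hg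
    simp only [Set.mem_insert_iff, Set.mem_singleton_iff] at hg
    have hb : b ∈ Subgroup.closure {b, y, t, d} := Subgroup.subset_closure (by simp)
    have hd : d ∈ Subgroup.closure {b, y, t, d} := Subgroup.subset_closure (by simp)
    rcases hg with hg | hg | hg | hg
    · rw [hg]
      rcases hab with hab | hab
      · rw [hab]; exact hb
      · rw [hab]; exact Subgroup.inv_mem _ hb
    · rw [hg]; exact Subgroup.subset_closure (by simp)
    · rw [hg]; exact Subgroup.subset_closure (by simp)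
    · rw [hg]
      rcases hcd with hcd | hcd
      · rw [hcd]; exact hd
      · rw [hcd]; exact Subgroup.inv_mem _ hd
  have sw : ∀ {a b : G}, (a = b ∨ a = b⁻¹) → (b = a ∨ b = a⁻¹) := by
    intro a b h
    rcases h with h | h
    · exact Or.inl h.symm
    · right; rw [h, inv_inv]
  exact le_antisymm (key _ _ _ _ h h') (key _ _ _ _ (sw h) (sw h'))

theorem cj_closure {G : Type*} [Group G] (g f y t z : G) :
    cj g (Subgroup.closure {f, y, t, z}) =
      Subgroup.closure {g * f * g⁻¹, g * y * g⁻¹, g * t * g⁻¹, g * z * g⁻¹} := by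
  unfold cj
  rw [MonoidHom.map_closure]
  congr 1
  ext x
  simp only [Set.mem_image, Set.mem_insert_iff, Set.mem_singleton_iff]
  constructor
  · rintro ⟨a, rfl | rfl | rfl | rfl, rfl⟩
    · exact Or.inl rfl
    · exact Or.inr (Or.inl rfl)
    · exact Or.inr (Or.inr (Or.inl rfl))
    · exact Or.inr (Or.inr (Or.inr rfl))
  · rintro (rfl | rfl | rfl | rfl)
    · exact ⟨f, Or.inl rfl, rfl⟩
    · exact ⟨y, Or.inr (Or.inl rfl), rfl⟩
    · exact ⟨t, Or.inr (Or.inr (Or.inl rfl)), rfl⟩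
    · exact ⟨z, Or.inr (Or.inr (Or.inr rfl)), rfl⟩

theorem conj_comm {G : Type*} [Group G] (g : G) {a b : G} (h : a * b = b * a) :
    g * a * g⁻¹ * (g * b * g⁻¹) = g * b * g⁻¹ * (g * a * g⁻¹) := by
  calc g * a * g⁻¹ * (g * b * g⁻¹) = g * (a * b) * g⁻¹ := by group
    _ = g * (b * a) * g⁻¹ := by rw [h]
    _ = g * b * g⁻¹ * (g * a * g⁻¹) := by group

theorem comm_inv {G : Type*} [Group G] {a b : G} (h : a * b = b * a) : a⁻¹ * b = b * a⁻¹ :=
  (Commute.inv_left (show Commute a b from h)).eq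

theorem six_inv {G : Type*} [Group G] {a z : G} (h : (a⁻¹ * z) ^ 6 = 1) : (a * z⁻¹) ^ 6 = 1 := by
  have h1 : ((a⁻¹ * z)⁻¹) ^ 6 = 1 := by rw [inv_pow, h, inv_one]
  have h2 : (a⁻¹ * z)⁻¹ = z⁻¹ * a := by rw [mul_inv_rev, inv_inv]
  have h3 : a * z⁻¹ = z * (z⁻¹ * a) * z⁻¹ := by group
  rw [h3, conj_pow, ← h2, h1, mul_one, mul_inv_cancel]

/-- **the subgroups isomorphic to `PSU₃(3)` are conjugate** -/
theorem socle_conj [Finite 𝒢] (H : Hyp) {S : Subgroup 𝒢} {F : Type*} [Field F] [Fintype F]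
    (hF : Fintype.card F = 9) (e : Nonempty (S ≃* Cfsg.PSU 3 F 3)) :
    ∃ g x : 𝒢, Codes 112 (rho x) mz ∧ cj g S = Subgroup.closure {Fm 4, y0, getG TJ (kr 4), x} := by
  obtain ⟨f, y, t, z, hT, z3, z1, zy, zt, fz, hS⟩ := gens_sub hF e
  obtain ⟨g, m, hm, h1, h2, h3⟩ := trip H hT
  have hS' : cj g S = Subgroup.closure {g * f * g⁻¹, y0, getG TJ (kr m), g * z * g⁻¹} := by
    rw [hS, cj_closure, h1, h2]
  have a1 : g * z * g⁻¹ * y0 = y0 * (g * z * g⁻¹) := by rw [← h1]; exact conj_comm g zy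
  have a2 : g * z * g⁻¹ * getG TJ (kr m) = getG TJ (kr m) * (g * z * g⁻¹) := by rw [← h2]; exact conj_comm g zt
  have a3 : (g * z * g⁻¹) ^ 3 = 1 := by rw [conj_pow, z3, mul_one, mul_inv_cancel]
  have a4 : g * z * g⁻¹ ≠ 1 := by
    intro h
    apply z1
    have : z = g⁻¹ * (g * z * g⁻¹) * g := by group
    rw [this, h]; group
  have a6 : (g * f * g⁻¹ * (g * z * g⁻¹)) ^ 6 = 1 := by
    have : g * f * g⁻¹ * (g * z * g⁻¹) = g * (f * z) * g⁻¹ := by group
    rw [this, conj_pow, fz, mul_one, mul_inv_cancel]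
  generalize g * z * g⁻¹ = x at hS' a1 a2 a3 a4 a6
  have cube : ∀ {x : 𝒢}, x ^ 3 = 1 → x * x * x = 1 := by
    intro x hx
    rw [← hx, pow_succ, pow_two]
  rcases h3 with h3 | h3
  · rw [h3] at a6 hS'
    obtain ⟨rfl, h4⟩ := ZList.zcase hm a1 a2 (cube a3) a4 a6
    exact ⟨g, x, h4, hS'⟩
  · rw [h3] at a6 hS'
    obtain ⟨rfl, h4⟩ := ZList.zcase hm (comm_inv a1) (comm_inv a2)
      (cube (by rw [inv_pow, a3, inv_one])) (fun h => a4 (inv_eq_one.1 h)) (six_inv a6)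
    refine ⟨g, x⁻¹, h4, ?_⟩
    rw [hS']
    exact closure_congr (Or.inr rfl) (Or.inr (inv_inv x).symm)

theorem norm_eq (hs : IsSimpleGroup 𝒢) {M S : Subgroup 𝒢} (h : NL M S) :
    Subgroup.normalizer (S : Set 𝒢) = M := by
  rcases h.coatom.le_iff.1 h.norm with h1 | h1
  · exfalso
    have hn : S.Normal := Subgroup.normalizer_eq_top_iff.1 h1
    rcases hn.eq_bot_or_eq_top with h2 | h2
    · have h3 := h.simple.toNontrivial
      rw [h2] at h3
      exact not_subsingleton (⊥ : Subgroup 𝒢) inferInstance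
    · exact h.coatom.1 (top_le_iff.1 (h2 ▸ h.le))
  · exact h1

theorem cj_inv {G : Type*} [Group G] (g : G) (P : Subgroup G) : cj g⁻¹ (cj g P) = P := by
  rw [cj_cj, inv_mul_cancel, cj_eq_iff]
  exact Subgroup.one_mem _

/-- **the maximal subgroups of `J4` with socle `PSU₃(3)` are conjugate** -/
theorem one_U33' (hs : IsSimpleGroup 𝒢) (H : Hyp) {F : Type} [Field F] [Fintype F]
    (hF : Fintype.card F = 9) : OneCl (Cfsg.PSU 3 F 3) := by
  intro M S M' S' h h' he he'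
  obtain ⟨g, x, hx, hg⟩ := socle_conj H hF he
  obtain ⟨g', x', hx', hg'⟩ := socle_conj H hF he'
  have hxx : x = x' := rho_injective (Codes.eq hx hx' (Nat.beq_refl _))
  refine ⟨g'⁻¹ * g, ?_⟩
  have h1 : S' = cj (g'⁻¹ * g) S := by
    rw [← cj_cj, hg, hxx, ← hg', cj_inv]
  rw [← norm_eq hs h, ← norm_eq hs h', ← normalizer_cj, ← h1]

end Cfsg.Agent.H111.JM.U33
end

-- part: H814/JM/M23M24
section
/-!
# Systems of generators of `M₂₃` and `M₂₄` containing a Frobenius group of order 55 (S5580, block 11:5)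
-/

set_option autoImplicit false

namespace Cfsg.Agent.H814.JM.M23M24

open Cfsg Cfsg.Agent.H831.JM Cfsg.Agent.H994.TwoGen Cfsg.Agent.H994.TwoGen.Chain
open Cfsg.Agent.J4.M24Hom (fn perm_ext)

/-- table of `u` -/
def tab_u : List ℕ := [0, 22, 15, 1, 13, 12, 9, 11, 19, 17, 8, 16, 20, 14, 21, 6, 10, 3, 7, 4, 2, 18, 5, 23]
/-- table of `u⁻¹` -/
def tab_ui : List ℕ := [0, 3, 20, 17, 19, 22, 15, 18, 10, 6, 16, 7, 5, 4, 13, 2, 11, 9, 21, 8, 12, 14, 1, 23]

/-- table of `f` -/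
def tab_f : List ℕ := [0, 1, 20, 9, 14, 15, 3, 11, 16, 5, 18, 8, 17, 7, 10, 6, 13, 2, 21, 19, 22, 4, 12, 23]
/-- table of `f⁻¹` -/
def tab_fi : List ℕ := [0, 1, 17, 6, 21, 9, 15, 13, 11, 3, 14, 7, 22, 16, 4, 5, 8, 12, 10, 19, 2, 18, 20, 23]

/-- table of `t` -/
def tab_t : List ℕ := [0, 1, 17, 5, 10, 3, 15, 13, 8, 9, 4, 16, 20, 7, 14, 6, 11, 2, 21, 19, 12, 18, 22, 23]
/-- table of `t⁻¹` -/
def tab_ti : List ℕ := [0, 1, 17, 5, 10, 3, 15, 13, 8, 9, 4, 16, 20, 7, 14, 6, 11, 2, 21, 19, 12, 18, 22, 23]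

/-- table of `a` -/
def tab_a : List ℕ := [1, 19, 2, 4, 11, 10, 21, 6, 9, 14, 16, 3, 12, 15, 8, 18, 5, 17, 13, 0, 20, 7, 22, 23]
/-- table of `a⁻¹` -/
def tab_ai : List ℕ := [19, 0, 2, 11, 3, 16, 7, 21, 14, 8, 5, 4, 12, 18, 9, 13, 10, 17, 15, 1, 20, 6, 22, 23]

/-- table of `b` -/
def tab_b : List ℕ := [0, 19, 6, 4, 20, 10, 21, 7, 8, 14, 12, 11, 5, 13, 22, 18, 16, 15, 17, 23, 3, 2, 9, 1]
/-- table of `b⁻¹` -/
def tab_bi : List ℕ := [0, 23, 21, 20, 3, 12, 2, 7, 8, 22, 5, 11, 10, 13, 9, 17, 16, 18, 15, 1, 4, 6, 14, 19]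

/-- the permutation `u` -/
def u : Equiv.Perm GolayPt where
  toFun := fn tab_u
  invFun := fn tab_ui
  left_inv := by decide +kernel
  right_inv := by decide +kernel

theorem u_mem24 : u ∈ M24 :=
  SporadicA.GolayWalk.mem_M24_of_table u tab_u rfl (by decide +kernel) (by decide +kernel)

/-- the permutation `f` -/
def f : Equiv.Perm GolayPt where
  toFun := fn tab_f
  invFun := fn tab_fi
  left_inv := by decide +kernel
  right_inv := by decide +kernel

theorem f_mem24 : f ∈ M24 :=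
  SporadicA.GolayWalk.mem_M24_of_table f tab_f rfl (by decide +kernel) (by decide +kernel)

/-- the permutation `t` -/
def t : Equiv.Perm GolayPt where
  toFun := fn tab_t
  invFun := fn tab_ti
  left_inv := by decide +kernel
  right_inv := by decide +kernel

theorem t_mem24 : t ∈ M24 :=
  SporadicA.GolayWalk.mem_M24_of_table t tab_t rfl (by decide +kernel) (by decide +kernel)

/-- the permutation `a` -/
def a : Equiv.Perm GolayPt where
  toFun := fn tab_a
  invFun := fn tab_ai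
  left_inv := by decide +kernel
  right_inv := by decide +kernel

theorem a_mem24 : a ∈ M24 :=
  SporadicA.GolayWalk.mem_M24_of_table a tab_a rfl (by decide +kernel) (by decide +kernel)

/-- the permutation `b` -/
def b : Equiv.Perm GolayPt where
  toFun := fn tab_b
  invFun := fn tab_bi
  left_inv := by decide +kernel
  right_inv := by decide +kernel

theorem b_mem24 : b ∈ M24 :=
  SporadicA.GolayWalk.mem_M24_of_table b tab_b rfl (by decide +kernel) (by decide +kernel)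

theorem u_mem : u ∈ Spor.M23 := (SporadicA.MathieuRecog.mem_M23_iff _).2 ⟨u_mem24, by decide +kernel⟩

theorem f_mem : f ∈ Spor.M23 := (SporadicA.MathieuRecog.mem_M23_iff _).2 ⟨f_mem24, by decide +kernel⟩

theorem t_mem : t ∈ Spor.M23 := (SporadicA.MathieuRecog.mem_M23_iff _).2 ⟨t_mem24, by decide +kernel⟩

theorem a_mem : a ∈ Spor.M23 := (SporadicA.MathieuRecog.mem_M23_iff _).2 ⟨a_mem24, by decide +kernel⟩

theorem u11 : u ^ 11 = 1 := by apply perm_ext; decide +kernel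
theorem u1 : u ≠ 1 := fun h => absurd (congrArg (fun g : Equiv.Perm GolayPt => g (some 1)) h) (by decide +kernel)
theorem f5 : f ^ 5 = 1 := by apply perm_ext; decide +kernel
theorem fu : f * u * f⁻¹ = u ^ 3 := by apply perm_ext; decide +kernel
theorem t2 : t * t = 1 := by apply perm_ext; decide +kernel
theorem tf : t * f * t⁻¹ = f⁻¹ := by apply perm_ext; decide +kernel
theorem ut : (u * t) ^ 3 = 1 := by apply perm_ext; decide +kernel
theorem af : a * f = f * a := by apply perm_ext; decide +kernel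
theorem at' : a * t = t * a := by apply perm_ext; decide +kernel
theorem a1 : a ≠ 1 := fun h => absurd (congrArg (fun g : Equiv.Perm GolayPt => g (some 1)) h) (by decide +kernel)
theorem a3 : a ^ 3 = 1 := by apply perm_ext; decide +kernel
theorem ua : (u * a) ^ 11 = 1 := by apply perm_ext; decide +kernel
theorem bf : b * f = f * b := by apply perm_ext; decide +kernel
theorem bt : b * t = t * b := by apply perm_ext; decide +kernel
theorem b1 : b ≠ 1 := fun h => absurd (congrArg (fun g : Equiv.Perm GolayPt => g (some 1)) h) (by decide +kernel)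
theorem b3 : b ^ 3 = 1 := by apply perm_ext; decide +kernel
theorem ub : (u * b) ^ 11 = 1 := by apply perm_ext; decide +kernel

/-- the stabiliser chain of `M₂₃` -/
def chain23 : List (GolayPt × List (List ℕ)) :=
  [(some 0, [[], [1], [3], [2, 1], [0, 3], [2, 3], [0, 1], [0, 0, 1], [1, 2, 3], [1, 2, 1], [0, 0, 3], [3, 2, 3],
     [3, 2, 1], [2, 2, 1], [1, 2, 2, 1], [1, 0, 0, 3], [3, 0, 0, 1], [0, 0, 0, 1], [3, 0, 0, 3], [2, 3, 0, 0, 1],
     [0, 1, 2, 2, 1], [1, 1, 0, 0, 3], [0, 0, 0, 0, 1]]),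
    (some 1, [[], [2], [0], [0, 0], [2, 2], [2, 2, 2], [0, 0, 0], [2, 2, 2, 2], [0, 0, 0, 0], [1, 1, 1, 2, 2], [3,
     2, 1, 0, 1], [2, 2, 2, 2, 2], [1, 1, 2, 1, 0, 1], [0, 3, 2, 1, 0, 1], [3, 2, 1, 0, 1, 2], [2, 3, 2, 1, 0, 1],
     [3, 2, 3, 0, 1, 0], [1, 2, 1, 0, 0, 1], [3, 2, 1, 0, 1, 0, 0], [3, 0, 3, 0, 1, 0, 3], [2, 1, 2, 1, 0, 0, 1],
     [2, 1, 1, 2, 1, 0, 1]]),
    (some 2, [[], [1, 1, 1], [2, 1, 1, 1, 0], [0, 1, 1, 1, 0, 0], [2, 3, 2, 3, 0, 1], [2, 2, 1, 1, 1, 2], [0, 3, 2,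
     2, 3, 0, 3], [1, 2, 1, 0, 0, 1, 2], [2, 1, 1, 2, 3, 0, 1], [1, 2, 3, 3, 2, 3, 3, 2], [2, 2, 3, 0, 1, 1, 0, 3],
     [2, 1, 0, 0, 1, 2, 1, 2], [0, 1, 2, 2, 2, 3, 2, 3], [1, 0, 0, 1, 2, 1, 0, 0], [0, 3, 0, 1, 1, 0, 3, 0], [1, 0,
     0, 1, 2, 3, 3, 2], [0, 3, 0, 3, 2, 2, 1, 1, 0], [1, 1, 1, 2, 3, 2, 3, 0, 1], [1, 2, 2, 2, 1, 1, 2, 3, 0], [2,
     2, 2, 2, 2, 1, 1, 1, 2, 2], [0, 0, 3, 0, 0, 0, 1, 2, 3, 2]]),
    (some 3, [[], [1, 0, 1, 1, 1, 2, 3], [1, 1, 2, 1, 0, 3, 3, 0], [2, 1, 1, 2, 3, 0, 3, 3], [1, 0, 0, 0, 3, 2, 3,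
     3, 0], [2, 1, 1, 0, 1, 2, 2, 2, 3], [0, 0, 3, 2, 3, 3, 0, 3, 3, 2], [3, 2, 2, 1, 2, 1, 1, 0, 0, 1], [3, 3, 2,
     1, 0, 0, 3, 3, 0, 0], [3, 3, 2, 3, 0, 3, 0, 1, 0, 1], [0, 1, 1, 2, 1, 1, 0, 1, 2, 2], [3, 2, 2, 3, 3, 0, 3, 0,
     0, 1], [0, 3, 0, 3, 3, 2, 2, 1, 2, 1, 0], [1, 2, 2, 2, 3, 2, 1, 2, 3, 0, 1], [0, 1, 0, 0, 3, 2, 2, 1, 2, 3,
     3], [1, 0, 0, 3, 3, 0, 0, 3, 3, 0, 0], [2, 1, 1, 0, 3, 3, 2, 3, 2, 1, 0], [2, 2, 2, 2, 3, 0, 1, 1, 0, 3, 2],
     [2, 3, 3, 3, 2, 3, 0, 3, 2, 2, 3], [0, 1, 2, 2, 1, 2, 3, 2, 1, 1, 2, 1]]),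
    (some 4, [[], [1, 2, 2, 2, 3, 3, 3, 0, 0, 0, 3], [3, 0, 0, 3, 2, 3, 3, 0, 0, 3, 0, 0], [2, 2, 1, 2, 2, 1, 1, 0,
     1, 2, 2, 1], [3, 3, 2, 2, 3, 3, 3, 2, 2, 3, 2, 1, 0], [2, 3, 0, 1, 0, 0, 1, 1, 1, 0, 0, 1, 1], [2, 2, 3, 3, 0,
     0, 0, 0, 3, 0, 0, 3, 3], [3, 2, 2, 2, 3, 3, 0, 0, 1, 2, 3, 0, 3, 0], [3, 0, 0, 3, 0, 0, 0, 0, 1, 1, 2, 3, 0,
     3], [3, 2, 2, 2, 2, 3, 3, 0, 3, 0, 0, 0, 0, 1], [2, 1, 2, 3, 3, 3, 0, 0, 3, 0, 0, 3, 3, 2], [2, 2, 3, 2, 3, 3,
     2, 2, 2, 1, 0, 3, 0, 3], [2, 2, 3, 3, 0, 1, 0, 0, 3, 0, 1, 0, 1, 0, 3], [3, 3, 2, 3, 2, 1, 2, 1, 2, 2, 3, 2,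
     1, 0, 1], [2, 2, 2, 1, 0, 1, 2, 1, 1, 2, 2, 2, 1, 2, 1], [2, 1, 2, 3, 3, 0, 3, 3, 2, 1, 2, 2, 2, 1, 1, 2]]),
    (some 5, [[], [2, 1, 2, 1, 2, 3, 3, 0, 0, 3, 3, 0, 1], [3, 2, 1, 1, 2, 2, 1, 1, 0, 3, 0, 3, 0]])]

theorem chain23_ok : ok u (t * a) [] chain23 = true := by decide +kernel

theorem size_chain23 : size chain23 = 10200960 := by decide +kernel

theorem closure23 : Subgroup.closure ({u, t * a} : Set (Equiv.Perm GolayPt)) = Spor.M23 :=
  Chain.closure_eq u_mem (mul_mem t_mem a_mem) chain23 chain23_ok (by rw [size_chain23, SporadicA.MathieuRecog.card_M23])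

/-- the stabiliser chain of `M₂₄` -/
def chain24 : List (GolayPt × List (List ℕ)) :=
  [(some 0, [[], [2], [0], [3, 2], [0, 0], [1, 0], [3, 0], [1, 2], [1, 0, 0], [2, 1, 0], [0, 0, 0], [2, 3, 2], [2,
     3, 0], [3, 0, 0], [0, 1, 0], [0, 3, 0, 0], [2, 2, 3, 0], [3, 3, 0, 0], [1, 1, 0, 0], [1, 2, 1, 0], [3, 0, 1,
     0], [0, 1, 0, 0], [0, 0, 0, 0], [0, 0, 0, 0, 0]]),
    (some 1, [[], [1], [3], [2, 1, 2, 2], [0, 0, 3, 0], [0, 0, 3, 0, 1], [0, 0, 1, 1, 0], [2, 1, 1, 1, 0], [2, 1,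
     2, 2, 3], [0, 1, 1, 1, 2], [0, 3, 0, 1, 2], [2, 1, 2, 2, 1], [3, 0, 0, 3, 0], [0, 0, 3, 0, 3], [0, 3, 0, 1, 2,
     1], [0, 1, 2, 1, 0, 0], [1, 0, 0, 3, 0, 1], [0, 3, 2, 3, 3, 2], [1, 0, 0, 3, 0, 3], [0, 1, 1, 2, 1, 2], [3, 0,
     0, 3, 0, 3], [3, 3, 0, 0, 3, 0], [1, 0, 0, 1, 1, 0]]),
    (some 2, [[], [1, 1, 1], [0, 3, 0, 0, 1, 2, 3], [1, 0, 3, 2, 2, 1, 2], [3, 2, 1, 1, 1, 0, 1], [1, 0, 1, 1, 1,
     2, 3], [1, 0, 3, 0, 3, 3, 2], [0, 1, 1, 2, 1, 2, 3], [0, 1, 1, 2, 3, 3, 2, 3], [0, 1, 1, 2, 1, 2, 1, 1], [2,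
     3, 0, 3, 3, 2, 1, 0], [1, 0, 1, 1, 0, 3, 3, 2], [1, 1, 2, 1, 1, 1, 0, 1], [3, 2, 1, 1, 1, 0, 3, 3], [0, 3, 0,
     0, 3, 3, 2, 3], [3, 0, 3, 0, 1, 0, 3, 0, 3], [2, 2, 1, 2, 1, 2, 2, 2, 3], [1, 0, 0, 3, 2, 3, 0, 3, 2], [3, 3,
     0, 1, 1, 0, 3, 3, 2], [3, 2, 2, 3, 0, 3, 0, 1, 1, 0], [3, 0, 0, 3, 2, 3, 0, 3, 2, 1], [2, 2, 3, 3, 0, 0, 0, 1,
     1, 2]]),
    (some 3, [[], [1, 2, 1, 1, 1, 0, 3], [3, 0, 0, 3, 3, 3, 2, 2], [3, 3, 0, 1, 1, 1, 2, 1, 1], [0, 1, 2, 2, 3, 2,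
     3, 0, 3, 0], [2, 3, 3, 2, 2, 1, 0, 0, 3, 0], [1, 2, 3, 0, 3, 3, 2, 1, 0, 3], [3, 2, 3, 0, 0, 3, 0, 1, 0, 1],
     [3, 2, 3, 2, 1, 2, 2, 1, 0, 1], [2, 1, 2, 3, 0, 0, 1, 2, 3, 3], [2, 1, 2, 1, 0, 1, 0, 0, 3, 2], [1, 2, 1, 1,
     0, 3, 3, 2, 1, 0, 3], [1, 2, 3, 0, 1, 1, 2, 3, 3, 0, 3], [1, 0, 3, 2, 2, 3, 2, 1, 0, 0, 3], [0, 0, 3, 0, 1, 0,
     3, 0, 1, 2, 3], [1, 0, 1, 0, 3, 0, 0, 3, 2, 1, 1], [3, 2, 3, 3, 3, 0, 0, 1, 1, 1, 2, 1], [0, 3, 0, 0, 0, 0, 0,
     1, 0, 3, 0, 1], [3, 2, 3, 3, 0, 0, 1, 1, 0, 1, 0, 1], [3, 0, 0, 3, 2, 2, 3, 0, 0, 1, 2, 2], [2, 1, 2, 3, 2, 2,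
     2, 3, 3, 0, 1, 1, 0]]),
    (some 4, [[], [3, 0, 3, 0, 3, 3, 0, 3, 0, 3], [1, 2, 1, 2, 1, 1, 2, 1, 2, 1], [3, 2, 3, 0, 3, 2, 3, 3, 0, 3, 0,
     0, 1], [3, 2, 3, 3, 2, 1, 1, 1, 0, 1, 1, 0, 1], [3, 0, 3, 3, 0, 3, 0, 0, 1, 2, 3, 3, 2], [3, 2, 2, 1, 2, 1, 1,
     0, 1, 2, 1, 0, 1], [3, 3, 0, 0, 3, 3, 2, 2, 3, 2, 2, 3, 0, 0], [1, 0, 3, 0, 3, 2, 3, 2, 2, 1, 2, 1, 1, 0], [3,
     2, 2, 2, 2, 1, 2, 3, 0, 0, 1, 0, 1, 2], [1, 0, 3, 3, 0, 3, 0, 0, 3, 3, 2, 2, 1, 2], [0, 0, 3, 3, 2, 3, 3, 2,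
     1, 2, 2, 2, 2, 3, 3], [3, 2, 3, 0, 0, 1, 0, 0, 3, 0, 3, 3, 2, 3, 0], [1, 2, 3, 0, 3, 2, 1, 2, 3, 2, 3, 3, 0,
     0, 3], [0, 1, 1, 2, 3, 0, 1, 1, 0, 0, 3, 2, 2, 1, 1], [1, 2, 2, 1, 1, 0, 1, 0, 3, 0, 1, 2, 1, 0, 3], [3, 2, 3,
     2, 3, 3, 2, 1, 0, 1, 2, 1, 0, 1, 1, 1], [1, 1, 0, 3, 2, 2, 1, 1, 1, 0, 0, 3, 3, 2, 3, 3], [3, 3, 3, 2, 3, 0,
     3, 2, 3, 0, 1, 1, 0, 1, 0, 1], [0, 1, 2, 1, 0, 0, 0, 3, 2, 2, 2, 1, 1, 2, 1, 0, 0]]),
    (some 5, [[], [3, 0, 3, 3, 2, 2, 2, 3, 0, 3, 3, 2, 2, 2], [1, 0, 3, 0, 3, 2, 1, 0, 3, 3, 2, 2, 1, 1], [3, 2, 2,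
     1, 2, 2, 1, 0, 0, 1, 1, 0, 0, 1], [3, 3, 2, 2, 3, 2, 2, 3, 2, 2, 1, 1, 0, 1, 0], [3, 2, 1, 2, 2, 3, 2, 3, 3,
     0, 0, 0, 3, 2, 1, 0], [0, 1, 1, 2, 1, 1, 2, 2, 2, 3, 3, 0, 3, 3, 0, 0], [0, 1, 2, 1, 0, 1, 0, 1, 2, 2, 2, 3,
     0, 0, 3, 3, 2], [2, 2, 2, 1, 0, 0, 0, 3, 2, 2, 3, 2, 2, 2, 3, 0, 0], [1, 0, 1, 1, 0, 3, 3, 2, 3, 2, 1, 1, 2,
     2, 2, 3, 0, 3, 0], [1, 2, 3, 3, 3, 0, 0, 3, 2, 3, 0, 3, 3, 2, 1, 0, 1, 2, 3], [1, 2, 1, 2, 2, 3, 2, 2, 1, 1,
     1, 0, 3, 3, 0, 3, 2, 2, 2, 1], [3, 3, 0, 3, 0, 3, 3, 3, 3, 3, 2, 3, 2, 3, 2, 2, 2, 1, 1, 2], [3, 0, 3, 0, 3,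
     3, 0, 3, 2, 3, 0, 3, 3, 0, 0, 1, 0, 3, 0, 1], [0, 0, 1, 1, 1, 2, 2, 3, 3, 3, 2, 3, 0, 3, 2, 2, 3, 0, 3, 0, 0],
     [3, 3, 0, 3, 3, 3, 2, 3, 3, 0, 3, 2, 2, 1, 1, 0, 1, 0, 0, 3, 2]]),
    (some 6, [[], [0, 1, 2, 2, 3, 2, 3, 0, 3, 3, 2, 2, 3, 3, 2, 1, 0, 0, 1, 2, 3], [1, 0, 3, 0, 3, 3, 2, 2, 3, 3,
     3, 0, 0, 3, 2, 1, 1, 2, 3, 0, 0, 0, 3, 2]])]

theorem chain24_ok : ok (u * a) (t * b) [] chain24 = true := by decide +kernel

theorem size_chain24 : size chain24 = 244823040 := by decide +kernel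

theorem closure24 : Subgroup.closure ({u * a, t * b} : Set (Equiv.Perm GolayPt)) = M24 :=
  Chain.closure_eq (mul_mem u_mem24 a_mem24) (mul_mem t_mem24 b_mem24) chain24 chain24_ok
    (by rw [size_chain24, SporadicA.M24Trans.card_M24])

theorem gen_of {G : Type*} [Group G] {K : Subgroup G} {S : Set K} {x y : G}
    (h : Subgroup.closure ({x, y} : Set G) = K) (hx : x ∈ (Subgroup.closure S).map K.subtype)
    (hy : y ∈ (Subgroup.closure S).map K.subtype) : Subgroup.closure S = ⊤ := by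
  have h1 : Subgroup.closure ({x, y} : Set G) ≤ (Subgroup.closure S).map K.subtype := by
    rw [Subgroup.closure_le]
    rintro z (rfl | rfl)
    · exact hx
    · exact hy
  rw [eq_top_iff]
  intro z _
  obtain ⟨w, hw, e⟩ := h1 (h.symm ▸ z.2 : (z : G) ∈ Subgroup.closure ({x, y} : Set G))
  obtain rfl : w = z := Subtype.ext e
  exact hw

theorem tup_M23 : Tup (⟨u, u_mem⟩ : Spor.M23) ⟨f, f_mem⟩ ⟨t, t_mem⟩ ∅ {⟨a, a_mem⟩} where
  u11 := Subtype.ext u11
  u1 := fun h => u1 (congrArg Subtype.val h)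
  f5 := Subtype.ext f5
  fu := Subtype.ext fu
  t2 := Subtype.ext t2
  tf := Subtype.ext tf
  ut := Subtype.ext ut
  hv := fun v hv => absurd hv (Set.notMem_empty v)
  hx := by
    rintro _ rfl
    exact ⟨Subtype.ext af, Subtype.ext at', fun h => a1 (congrArg Subtype.val h), Or.inr (Subtype.ext a3),
      Subtype.ext ua⟩
  gen := by
    apply gen_of closure23
    · exact ⟨⟨u, u_mem⟩, Subgroup.subset_closure (by simp), rfl⟩
    · exact ⟨⟨t, t_mem⟩ * ⟨a, a_mem⟩, mul_mem (Subgroup.subset_closure (by simp)) (Subgroup.subset_closure (by simp)), rfl⟩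

theorem tup_M24 : Tup (⟨u, u_mem24⟩ : M24) ⟨f, f_mem24⟩ ⟨t, t_mem24⟩ ∅ {⟨a, a_mem24⟩, ⟨b, b_mem24⟩} where
  u11 := Subtype.ext u11
  u1 := fun h => u1 (congrArg Subtype.val h)
  f5 := Subtype.ext f5
  fu := Subtype.ext fu
  t2 := Subtype.ext t2
  tf := Subtype.ext tf
  ut := Subtype.ext ut
  hv := fun v hv => absurd hv (Set.notMem_empty v)
  hx := by
    rintro _ (rfl | rfl)
    · exact ⟨Subtype.ext af, Subtype.ext at', fun h => a1 (congrArg Subtype.val h), Or.inr (Subtype.ext a3),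
        Subtype.ext ua⟩
    · exact ⟨Subtype.ext bf, Subtype.ext bt, fun h => b1 (congrArg Subtype.val h), Or.inr (Subtype.ext b3),
        Subtype.ext ub⟩
  gen := by
    apply gen_of closure24
    · exact ⟨⟨u, u_mem24⟩ * ⟨a, a_mem24⟩, mul_mem (Subgroup.subset_closure (by simp)) (Subgroup.subset_closure (by simp)), rfl⟩
    · exact ⟨⟨t, t_mem24⟩ * ⟨b, b_mem24⟩, mul_mem (Subgroup.subset_closure (by simp)) (Subgroup.subset_closure (by simp)), rfl⟩

end Cfsg.Agent.H814.JM.M23M24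
end

private theorem dce_d36f9fb4a4a1 : _root_.True := by
  try have : _root_.True := by simp only [_root_.Cfsg.Agent.H111.JM.ZD.GH.eq_1]
  try have : _root_.True := by simp only [_root_.Cfsg.Agent.H111.JM.ZD.GZ.eq_1]
  exact _root_.True.intro
end

-- part: S5580
section
prune_inst 0x4400400000000018001020000400200000020040000000400502004800002005000138600410000000400008002002000010402000000a00080000000000000000061000a000000000000000000000000000000000000000000000000000000000000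
set_option linter.all false
open scoped Cfsg.Agent.FastGrp

-- part: H111/JM/HypF
section
/-!
# The hypotheses `Hyp` (helper111, S5580)
-/

set_option autoImplicit false

open Cfsg

namespace Cfsg.Agent.H111.JM.HypF

open Cfsg.Agent.J4.Rep112
open Cfsg.Agent.H858 Cfsg.Agent.H858.VK
open Cfsg.Agent.H858.Loc7 (S7_eq')
open Cfsg.Agent.H858.Norm57 (S7)
open Cfsg.Agent.H868.JM (f1 f2 seven_three seven_std pow_three_cent)
open Cfsg.Agent.H878.JM.Base (y0)

/-- the group `Spor.J4` -/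
local notation "𝒢" => Cfsg.Spor.J4

theorem order_seven {G : Type*} [Group G] {f : G} (h1 : f ≠ 1) (h7 : f ^ 7 = 1) : orderOf f = 7 :=
  orderOf_eq_prime (hp := ⟨by norm_num⟩) h7 h1

theorem nor {f g : 𝒢} (h1 : f ≠ 1) (h7 : f ^ 7 = 1) (hg : g * f * g⁻¹ ∈ Subgroup.zpowers f) :
    g ^ 3 * f * (g ^ 3)⁻¹ = f := by
  obtain ⟨k, hk⟩ := seven_std (order_seven h1 h7)
  have hz : Subgroup.zpowers (k * f * k⁻¹) = S7 := by
    rw [S7_eq']
    rcases hk with hk | hk
    · rw [hk]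
    · rw [hk, Subgroup.zpowers_inv]
  -- the conjugate of `g`
  have hn : k * g * k⁻¹ ∈ Subgroup.normalizer (S7 : Set 𝒢) := by
    obtain ⟨j, hj⟩ := Subgroup.mem_zpowers_iff.1 hg
    obtain ⟨i, hi⟩ := (Submonoid.mem_powers_iff _ _).1
      (mem_powers_iff_mem_zpowers.2 (Subgroup.mem_zpowers_iff.2 ⟨j, hj⟩ : g * f * g⁻¹ ∈ Subgroup.zpowers f))
    rw [← hz]
    refine NormC.mem_normalizer_zpowers (k := i) ?_
    rw [conj_pow, hi]
    group
  have h3 := pow_three_cent hn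
  rw [Subgroup.mem_centralizer_iff] at h3
  have h4 : k * f * k⁻¹ ∈ S7 := by rw [← hz]; exact Subgroup.mem_zpowers _
  have h5 := h3 _ h4
  rw [conj_pow] at h5
  have h6 : f * g ^ 3 = g ^ 3 * f := by
    have e := congrArg (fun x => k⁻¹ * x * k) h5
    calc f * g ^ 3 = k⁻¹ * (k * f * k⁻¹ * (k * g ^ 3 * k⁻¹)) * k := by group
      _ = k⁻¹ * (k * g ^ 3 * k⁻¹ * (k * f * k⁻¹)) * k := e
      _ = g ^ 3 * f := by group
  rw [← h6, mul_inv_cancel_right]

/-- **the hypotheses** -/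
theorem hyp : Trip.Hyp where
  card := Cfsg.Agent.H820.JM.card_TY
  base := by
    intro f y h1 h7 _ y3 hy
    obtain ⟨g, h2, h3⟩ := seven_three (order_seven h1 h7) y3 hy
    rw [EnvF.y0_eq] at h2
    exact ⟨g, h2, h3⟩
  nor := fun _ _ h1 h7 hg => nor h1 h7 hg

end Cfsg.Agent.H111.JM.HypF
end

-- part: H111/JM/Rows
section
/-!
# The rows `PSL₂(7)` and `PSU₃(3)` of the maximal subgroups of `J4` (helper111, S5580)
-/

set_option autoImplicit false

open Cfsg

namespace Cfsg.Agent.H111.JM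

open Cfsg.Agent.H860.JM

/-- **no maximal subgroup of `J4` has socle `PSL₂(7)`** -/
theorem excl_L27 {F : Type} [Field F] [Fintype F] (h : Fintype.card F = 7) :
    Excl (Matrix.ProjectiveSpecialLinearGroup (Fin 2) F) := L27.excl_L27' HypF.hyp h

/-- **the maximal subgroups of `J4` with socle `PSU₃(3)` are conjugate** -/
theorem one_U33 {F : Type} [Field F] [Fintype F] (h : Fintype.card F = 9) : OneCl (Cfsg.PSU 3 F 3) :=
  U33.one_U33' Cfsg.Agent.H820.JM.simpleJ4 HypF.hyp h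

end Cfsg.Agent.H111.JM
end

-- part: H814/JM/M11
section
/-!
# A system of generators of `M₁₁` containing a Frobenius group of order 55 (S5580, block 11:5)
-/

set_option autoImplicit false

namespace Cfsg.Agent.H814.JM.M11

open Cfsg Cfsg.Agent.H831.JM Cfsg.Agent.H994.TwoGen Cfsg.Agent.H994.TwoGen.Chain
open Cfsg.Agent.J4.M24Hom (fn perm_ext)

/-- table of `u` -/
def tab_u : List ℕ := [0, 6, 16, 8, 9, 5, 4, 17, 2, 18, 14, 23, 3, 1, 15, 21, 13, 10, 12, 11, 7, 22, 19, 20]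
/-- table of `u⁻¹` -/
def tab_ui : List ℕ := [0, 13, 8, 12, 6, 5, 1, 20, 3, 4, 17, 19, 18, 16, 10, 14, 2, 7, 9, 22, 23, 15, 21, 11]

/-- table of `f` -/
def tab_f : List ℕ := [0, 18, 3, 1, 13, 5, 8, 20, 9, 4, 21, 17, 2, 6, 11, 7, 16, 10, 12, 23, 19, 14, 22, 15]
/-- table of `f⁻¹` -/
def tab_fi : List ℕ := [0, 3, 12, 2, 9, 5, 13, 15, 6, 8, 17, 14, 18, 4, 21, 23, 16, 11, 1, 20, 7, 10, 22, 19]

/-- table of `t` -/
def tab_t : List ℕ := [0, 18, 2, 12, 9, 5, 6, 15, 13, 4, 17, 21, 3, 8, 14, 7, 16, 10, 1, 19, 23, 11, 22, 20]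
/-- table of `t⁻¹` -/
def tab_ti : List ℕ := [0, 18, 2, 12, 9, 5, 6, 15, 13, 4, 17, 21, 3, 8, 14, 7, 16, 10, 1, 19, 23, 11, 22, 20]

/-- table of `v` -/
def tab_v : List ℕ := [0, 12, 2, 1, 8, 22, 6, 11, 9, 13, 23, 15, 18, 4, 19, 21, 16, 20, 3, 14, 10, 7, 5, 17]
/-- table of `v⁻¹` -/
def tab_vi : List ℕ := [0, 3, 2, 18, 13, 22, 6, 21, 4, 8, 20, 7, 1, 9, 19, 11, 16, 23, 12, 14, 17, 15, 5, 10]

/-- the permutation `u` -/
def u : Equiv.Perm GolayPt where
  toFun := fn tab_u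
  invFun := fn tab_ui
  left_inv := by decide +kernel
  right_inv := by decide +kernel

theorem u_mem24 : u ∈ M24 :=
  SporadicA.GolayWalk.mem_M24_of_table u tab_u rfl (by decide +kernel) (by decide +kernel)

open Cfsg.Agent.SporadicStructure.M11InvPerms Cfsg.Agent.MTwelveType.SylowModel in
theorem u_dd : ∀ p ∈ dd, u p ∈ dd := by decide +kernel

theorem u_mem12 : u ∈ Spor.M12 := MTwelveType.SylowModel.mem_M12 u_mem24 u_dd

theorem u_mem : u ∈ Spor.M11 := by
  refine Subgroup.mem_inf.2 ⟨u_mem12, ?_⟩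
  rw [MulAction.mem_stabilizer_iff]
  show u (some 0) = some 0
  decide +kernel

/-- the permutation `f` -/
def f : Equiv.Perm GolayPt where
  toFun := fn tab_f
  invFun := fn tab_fi
  left_inv := by decide +kernel
  right_inv := by decide +kernel

theorem f_mem24 : f ∈ M24 :=
  SporadicA.GolayWalk.mem_M24_of_table f tab_f rfl (by decide +kernel) (by decide +kernel)

open Cfsg.Agent.SporadicStructure.M11InvPerms Cfsg.Agent.MTwelveType.SylowModel in
theorem f_dd : ∀ p ∈ dd, f p ∈ dd := by decide +kernel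

theorem f_mem12 : f ∈ Spor.M12 := MTwelveType.SylowModel.mem_M12 f_mem24 f_dd

theorem f_mem : f ∈ Spor.M11 := by
  refine Subgroup.mem_inf.2 ⟨f_mem12, ?_⟩
  rw [MulAction.mem_stabilizer_iff]
  show f (some 0) = some 0
  decide +kernel

/-- the permutation `t` -/
def t : Equiv.Perm GolayPt where
  toFun := fn tab_t
  invFun := fn tab_ti
  left_inv := by decide +kernel
  right_inv := by decide +kernel

theorem t_mem24 : t ∈ M24 :=
  SporadicA.GolayWalk.mem_M24_of_table t tab_t rfl (by decide +kernel) (by decide +kernel)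

open Cfsg.Agent.SporadicStructure.M11InvPerms Cfsg.Agent.MTwelveType.SylowModel in
theorem t_dd : ∀ p ∈ dd, t p ∈ dd := by decide +kernel

theorem t_mem12 : t ∈ Spor.M12 := MTwelveType.SylowModel.mem_M12 t_mem24 t_dd

theorem t_mem : t ∈ Spor.M11 := by
  refine Subgroup.mem_inf.2 ⟨t_mem12, ?_⟩
  rw [MulAction.mem_stabilizer_iff]
  show t (some 0) = some 0
  decide +kernel

/-- the permutation `v` -/
def v : Equiv.Perm GolayPt where
  toFun := fn tab_v
  invFun := fn tab_vi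
  left_inv := by decide +kernel
  right_inv := by decide +kernel

theorem v_mem24 : v ∈ M24 :=
  SporadicA.GolayWalk.mem_M24_of_table v tab_v rfl (by decide +kernel) (by decide +kernel)

open Cfsg.Agent.SporadicStructure.M11InvPerms Cfsg.Agent.MTwelveType.SylowModel in
theorem v_dd : ∀ p ∈ dd, v p ∈ dd := by decide +kernel

theorem v_mem12 : v ∈ Spor.M12 := MTwelveType.SylowModel.mem_M12 v_mem24 v_dd

theorem v_mem : v ∈ Spor.M11 := by
  refine Subgroup.mem_inf.2 ⟨v_mem12, ?_⟩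
  rw [MulAction.mem_stabilizer_iff]
  show v (some 0) = some 0
  decide +kernel

theorem u11 : u ^ 11 = 1 := by apply perm_ext; decide +kernel
theorem u1 : u ≠ 1 := fun h => absurd (congrArg (fun g : Equiv.Perm GolayPt => g (some 1)) h) (by decide +kernel)
theorem f5 : f ^ 5 = 1 := by apply perm_ext; decide +kernel
theorem fu : f * u * f⁻¹ = u ^ 3 := by apply perm_ext; decide +kernel
theorem t2 : t * t = 1 := by apply perm_ext; decide +kernel
theorem tf : t * f * t⁻¹ = f⁻¹ := by apply perm_ext; decide +kernel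
theorem ut : (u * t) ^ 3 = 1 := by apply perm_ext; decide +kernel
theorem vf : v * f * v⁻¹ = f ^ 2 := by apply perm_ext; decide +kernel
theorem vv : v * v = t := by apply perm_ext; decide +kernel
theorem uv8 : (u * v) ^ 8 = 1 := by apply perm_ext; decide +kernel

/-- the stabiliser chain of `M₁₁` -/
def chain11 : List (GolayPt × List (List ℕ)) :=
  [(some 1, [[], [3], [0], [1], [2], [0, 0], [0, 3], [3, 2], [2, 2], [1, 1], [2, 2, 2]]),
    (some 2, [[], [3, 2, 3], [1, 0, 1], [2, 2, 1, 2], [3, 3, 2, 1], [0, 3, 0, 0], [0, 1, 0, 0, 0], [0, 1, 0, 1, 2],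
     [3, 0, 3, 0, 1], [3, 3, 2, 2, 3]]),
    (some 3, [[], [2, 1, 0], [2, 3, 0], [2, 1, 1, 0], [1, 0, 3, 0, 3, 2], [3, 2, 2, 1, 1, 2], [0, 1, 2, 1, 2, 3],
     [0, 1, 1, 0, 0, 1], [1, 0, 1, 0, 3, 2, 3, 2]]),
    (some 4, [[], [1, 2, 2, 1, 2, 3, 2, 2], [0, 0, 0, 1, 0, 1, 1, 2], [0, 0, 1, 0, 3, 0, 0, 3], [0, 3, 3, 2, 3, 2,
     2, 2], [2, 2, 2, 3, 3, 0, 0, 3, 2, 3], [1, 0, 1, 2, 2, 1, 1, 0, 0, 0], [2, 1, 2, 3, 2, 3, 2, 1, 2, 2]])]

theorem chain11_ok : ok u v [] chain11 = true := by decide +kernel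

theorem size_chain11 : size chain11 = 7920 := by decide +kernel

theorem closure11 : Subgroup.closure ({u, v} : Set (Equiv.Perm GolayPt)) = Spor.M11 :=
  Chain.closure_eq u_mem v_mem chain11 chain11_ok (by rw [size_chain11, H994.TwoGen.M11.card_M11])

theorem tup_M11 : Tup (⟨u, u_mem⟩ : Spor.M11) ⟨f, f_mem⟩ ⟨t, t_mem⟩ {⟨v, v_mem⟩} ∅ where
  u11 := Subtype.ext u11
  u1 := fun h => u1 (congrArg Subtype.val h)
  f5 := Subtype.ext f5
  fu := Subtype.ext fu
  t2 := Subtype.ext t2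
  tf := Subtype.ext tf
  ut := Subtype.ext ut
  hv := by
    rintro _ rfl
    exact ⟨Subtype.ext vf, Subtype.ext vv, Subtype.ext uv8⟩
  hx := fun v hv => absurd hv (Set.notMem_empty v)
  gen := by
    apply M23M24.gen_of closure11
    · exact ⟨⟨u, u_mem⟩, Subgroup.subset_closure (by simp), rfl⟩
    · exact ⟨⟨v, v_mem⟩, Subgroup.subset_closure (by simp), rfl⟩

end Cfsg.Agent.H814.JM.M11
end

-- part: H814/JM/L211
section
/-!
# A system of generators of `L₂(11)` containing a Frobenius group of order 55 (S5580, block 11:5)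
-/

set_option autoImplicit false

namespace Cfsg.Agent.H814.JM.L211

open Cfsg Cfsg.Agent.H831.JM Matrix
open Cfsg.Agent.ChevalleyStructure.SL2Hom (up lo mem_closure_SL2)

variable {F : Type} [Field F] [Fintype F]

theorem charP (hF : Fintype.card F = 11) : CharP F 11 := by
  have : Fact (Nat.Prime 11) := ⟨by norm_num⟩
  exact charP_of_card_eq_prime hF

theorem e11 (hF : Fintype.card F = 11) : (11 : F) = 0 := by
  have := charP hF
  exact_mod_cast CharP.cast_eq_zero F 11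

theorem exists_nat (hF : Fintype.card F = 11) (c : F) : ∃ n : ℕ, (n : F) = c := by
  have := charP hF
  have h : Fact (Nat.Prime 11) := ⟨by norm_num⟩
  have hb : Function.Bijective (ZMod.castHom (dvd_refl 11) F) := by
    rw [Fintype.bijective_iff_injective_and_card]
    exact ⟨(ZMod.castHom (dvd_refl 11) F).injective, by rw [ZMod.card, hF]⟩
  obtain ⟨z, hz⟩ := hb.2 c
  refine ⟨z.val, ?_⟩
  rw [← hz, ZMod.castHom_apply, ZMod.cast_eq_val]

/-- the diagonal element -/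
def dg (hF : Fintype.card F = 11) : _root_.Matrix.SpecialLinearGroup (Fin 2) F := ⟨!![5, 0; 0, 9], by
  rw [det_fin_two_of]
  linear_combination 4 * e11 hF⟩

/-- the monomial element -/
def wm (F : Type) [Field F] : _root_.Matrix.SpecialLinearGroup (Fin 2) F := ⟨!![0, 1; -1, 0], by simp⟩

theorem up_add (a b : F) : up (a + b) = up a * up b := by
  apply Subtype.ext
  show !![1, a + b; 0, 1] = !![1, a; 0, 1] * !![1, b; 0, 1]
  rw [mul_fin_two]
  ext i j
  (revert i j; simp [add_comm, _root_.Fin.forall_fin_succ])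

theorem up_zero : up (0 : F) = 1 := by
  apply Subtype.ext
  show !![1, 0; 0, 1] = (1 : Matrix (Fin 2) (Fin 2) F)
  exact one_fin_two.symm

theorem up_nat (n : ℕ) : up (n : F) = up 1 ^ n := by
  induction n with
  | zero => rw [Nat.cast_zero, up_zero, pow_zero]
  | succ n ih => rw [Nat.cast_succ, up_add, ih, pow_succ]

theorem dg_up (hF : Fintype.card F = 11) : dg hF * up 1 = up 3 * dg hF := by
  apply Subtype.ext
  show !![5, 0; 0, 9] * !![1, 1; 0, 1] = !![1, 3; 0, 1] * !![5, 0; 0, (9 : F)]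
  rw [mul_fin_two, mul_fin_two]
  ext i j
  (revert i j; simp only [_root_.Fin.forall_fin_succ, _root_.mul_one, _root_.MulZeroClass.mul_zero, _root_.add_zero, _root_.zero_add, _root_.Matrix.of_apply, _root_.Matrix.cons_val', _root_.Matrix.cons_val_fin_one, _root_.one_mul, _root_.MulZeroClass.zero_mul, Fin.isValue, _root_.Matrix.cons_val_zero, _root_.Matrix.cons_val_succ, _root_.forall_const, _root_.implies_true, _root_.and_true, _root_.true_and]) <;> (repeat' with_reducible apply And.intro)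
  linear_combination (-2) * e11 hF

theorem wm_lo (a : F) : wm F * up a = lo (-a) * wm F := by
  apply Subtype.ext
  show !![0, 1; -1, 0] * !![1, a; 0, 1] = !![1, 0; -a, 1] * !![0, 1; -1, (0 : F)]
  rw [mul_fin_two, mul_fin_two]
  ext i j
  (revert i j; simp [_root_.Fin.forall_fin_succ])

theorem dg_pow (hF : Fintype.card F = 11) : dg hF ^ 5 = 1 := by
  have h2 : dg hF * dg hF = ⟨!![3, 0; 0, 4], by rw [det_fin_two_of]; linear_combination e11 hF⟩ := by
    apply Subtype.ext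
    show !![5, 0; 0, 9] * !![5, 0; 0, (9 : F)] = !![3, 0; 0, 4]
    rw [mul_fin_two]
    ext i j
    (revert i j; simp only [_root_.Fin.forall_fin_succ, _root_.MulZeroClass.mul_zero, _root_.add_zero, _root_.MulZeroClass.zero_mul, _root_.zero_add, _root_.Matrix.of_apply, _root_.Matrix.cons_val', _root_.Matrix.cons_val_fin_one, Fin.isValue, _root_.Matrix.cons_val_zero, _root_.Matrix.cons_val_succ, _root_.forall_const, _root_.and_true, _root_.true_and]) <;> (repeat' with_reducible apply And.intro)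
    · linear_combination 2 * e11 hF
    · linear_combination 7 * e11 hF
  have h5 : dg hF ^ 5 = dg hF * dg hF * (dg hF * dg hF) * dg hF := by simp only [pow_succ, pow_zero, one_mul, mul_assoc]
  rw [h5, h2]
  apply Subtype.ext
  show !![3, 0; 0, 4] * !![3, 0; 0, 4] * !![5, 0; 0, (9 : F)] = 1
  rw [mul_fin_two, mul_fin_two, one_fin_two]
  ext i j
  (revert i j; simp only [_root_.Fin.forall_fin_succ, _root_.MulZeroClass.mul_zero, _root_.add_zero, _root_.MulZeroClass.zero_mul, _root_.zero_add, _root_.Matrix.of_apply, _root_.Matrix.cons_val', _root_.Matrix.cons_val_fin_one, Fin.isValue, _root_.Matrix.cons_val_zero, _root_.Matrix.cons_val_succ, _root_.forall_const, _root_.and_true, _root_.true_and]) <;> (repeat' with_reducible apply And.intro)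
  · linear_combination 4 * e11 hF
  · linear_combination 13 * e11 hF

theorem wm_dg (hF : Fintype.card F = 11) : dg hF * wm F * dg hF = wm F := by
  apply Subtype.ext
  show !![5, 0; 0, 9] * !![0, 1; -1, 0] * !![5, 0; 0, (9 : F)] = !![0, 1; -1, 0]
  rw [mul_fin_two, mul_fin_two]
  ext i j
  (revert i j; simp only [_root_.Fin.forall_fin_succ, _root_.MulZeroClass.mul_zero, _root_.mul_neg, _root_.mul_one, _root_.neg_zero, _root_.add_zero, _root_.MulZeroClass.zero_mul, _root_.zero_add, _root_.neg_mul, _root_.Matrix.of_apply, _root_.Matrix.cons_val', _root_.Matrix.cons_val_fin_one, Fin.isValue, _root_.Matrix.cons_val_zero, _root_.Matrix.cons_val_succ, _root_.forall_const, _root_.neg_inj, _root_.and_true, _root_.true_and]) <;> (repeat' with_reducible apply And.intro)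
  · linear_combination 4 * e11 hF
  · linear_combination 4 * e11 hF

theorem wm_sq : wm F * wm F ∈ Subgroup.center (_root_.Matrix.SpecialLinearGroup (Fin 2) F) := by
  rw [Matrix.SpecialLinearGroup.mem_center_iff]
  refine ⟨-1, by simp only [_root_.Fintype.card_fin, _root_.even_two, _root_.Even.neg_pow, _root_.one_pow], ?_⟩
  show scalar (Fin 2) (-1 : F) = !![0, 1; -1, 0] * !![0, 1; -1, 0]
  rw [mul_fin_two]
  ext i j
  (revert i j; simp only [_root_.Fin.forall_fin_succ, _root_.Matrix.scalar_apply, _root_.MulZeroClass.mul_zero, _root_.mul_neg, _root_.mul_one, _root_.zero_add, _root_.add_zero, _root_.neg_zero, _root_.Matrix.of_apply, _root_.Matrix.cons_val', _root_.Matrix.cons_val_fin_one, Fin.isValue, _root_.Matrix.cons_val_zero, _root_.Matrix.cons_val_succ, _root_.Fin.succ_zero_eq_one, _root_.IsEmpty.forall_iff, _root_.and_true, _root_.Matrix.diagonal_apply_eq, _root_.ne_eq, _root_.zero_ne_one, _root_.not_false_eq_true,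 _root_.Matrix.diagonal_apply_ne, _root_.and_self, _root_.Fin.succ_ne_zero, _root_.true_and])

theorem up_wm : (up 1 * wm F) ^ 3 = 1 := by
  have h3 : (up 1 * wm F) ^ 3 = up 1 * wm F * (up 1 * wm F) * (up 1 * wm F) := by
    simp only [pow_succ, pow_zero, one_mul]
  rw [h3]
  apply Subtype.ext
  show !![1, 1; 0, 1] * !![0, 1; -1, 0] * (!![1, 1; 0, 1] * !![0, 1; -1, 0]) *
    (!![1, 1; 0, 1] * !![0, 1; -1, (0 : F)]) = 1
  simp only [mul_fin_two, one_fin_two]
  ext i j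
  (revert i j; simp [_root_.Fin.forall_fin_succ])

theorem up_notMem : up (1 : F) ∉ Subgroup.center (_root_.Matrix.SpecialLinearGroup (Fin 2) F) := by
  rw [Matrix.SpecialLinearGroup.mem_center_iff]
  rintro ⟨r, -, h⟩
  have h1 := congrFun (congrFun h 0) 1
  have h2 : (scalar (Fin 2) r : Matrix (Fin 2) (Fin 2) F) 0 1 = 0 := by simp
  rw [h2] at h1
  have h3 : ((up (1 : F) : _root_.Matrix.SpecialLinearGroup (Fin 2) F) : Matrix (Fin 2) (Fin 2) F) 0 1 = 1 := rfl
  rw [h3] at h1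
  exact zero_ne_one h1

/-- the projection -/
abbrev pr (F : Type) [Field F] : _root_.Matrix.SpecialLinearGroup (Fin 2) F →* ProjectiveSpecialLinearGroup (Fin 2) F :=
  QuotientGroup.mk' (Subgroup.center (_root_.Matrix.SpecialLinearGroup (Fin 2) F))

theorem tup_L211 (hF : Fintype.card F = 11) :
    Tup (pr F (up 1)) (pr F (dg hF)) (pr F (wm F)) ∅ ∅ where
  u11 := by
    rw [← map_pow, ← up_nat]
    have : ((11 : ℕ) : F) = 0 := by exact_mod_cast e11 hF
    rw [this, up_zero, map_one]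
  u1 := by
    intro h
    exact up_notMem ((QuotientGroup.eq_one_iff _).1 h)
  f5 := by rw [← map_pow, dg_pow, map_one]
  fu := by
    rw [← map_mul, dg_up, ← map_pow, ← up_nat, map_mul, mul_assoc, mul_inv_cancel, mul_one]
    norm_num
  t2 := by
    rw [← map_mul]
    exact (QuotientGroup.eq_one_iff _).2 wm_sq
  tf := by
    have h := wm_dg hF
    have h1 : wm F * dg hF = (dg hF)⁻¹ * wm F := by
      rw [eq_inv_mul_iff_mul_eq, ← mul_assoc]; exact h
    rw [← map_mul, h1, map_mul, mul_assoc, mul_inv_cancel, mul_one, map_inv]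
  ut := by rw [← map_mul, ← map_pow, up_wm, map_one]
  hv := fun v hv => absurd hv (Set.notMem_empty v)
  hx := fun v hv => absurd hv (Set.notMem_empty v)
  gen := by
    rw [Set.union_empty, Set.union_empty, eq_top_iff]
    intro x _
    obtain ⟨A, rfl⟩ := QuotientGroup.mk'_surjective _ x
    set K := Subgroup.closure ({pr F (up 1), pr F (dg hF), pr F (wm F)} : Set (ProjectiveSpecialLinearGroup (Fin 2) F))
      with hK
    have hu : ∀ c : F, pr F (up c) ∈ K := by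
      intro c
      obtain ⟨n, rfl⟩ := exists_nat hF c
      rw [up_nat, map_pow]
      exact pow_mem (Subgroup.subset_closure (by simp)) n
    have hw : pr F (wm F) ∈ K := Subgroup.subset_closure (by simp)
    have hl : ∀ c : F, pr F (lo c) ∈ K := by
      intro c
      have h1 : lo c = wm F * up (-c) * (wm F)⁻¹ := by
        rw [wm_lo, neg_neg, mul_assoc, mul_inv_cancel, mul_one]
      rw [h1, map_mul, map_mul, map_inv]
      exact mul_mem (mul_mem hw (hu _)) (inv_mem hw)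
    have h2 : Subgroup.closure (Set.range (up (F := F)) ∪ Set.range (lo (F := F))) ≤ K.comap (pr F) := by
      rw [Subgroup.closure_le]
      rintro _ (⟨a, rfl⟩ | ⟨a, rfl⟩)
      · exact hu a
      · exact hl a
    exact h2 (mem_closure_SL2 A)

end Cfsg.Agent.H814.JM.L211
end

-- part: H814/JM/Rows
section
/-!
# `M₁₁` and `L₂(11)` do not occur in `J₄` (S5580)
-/

set_option autoImplicit false

namespace Cfsg.Agent.H814.JM

open Cfsg Cfsg.Agent.H831.JM

theorem excl_M11 : Cfsg.Agent.H860.JM.Excl Spor.M11 := excl_of_tup M11.tup_M11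

theorem excl_L211 {F : Type} [Field F] [Fintype F] (hF : Fintype.card F = 11) :
    Cfsg.Agent.H860.JM.Excl (Matrix.ProjectiveSpecialLinearGroup (Fin 2) F) :=
  excl_of_tup (L211.tup_L211 hF)

end Cfsg.Agent.H814.JM
end

-- part: H831/JM/M22
section
/-!
# Maximal subgroups of `J4` with socle the Mathieu group `M22` form one class (helper831)
-/

set_option autoImplicit false

open Cfsg

namespace Cfsg.Agent.H831.JM.MTT

open Cfsg.Agent.J4.M24Hom (fn)

/-- table of `pu` -/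
def tu : List ℕ := [0, 22, 15, 1, 13, 12, 9, 11, 19, 17, 8, 16, 20, 14, 21, 6, 10, 3, 7, 4, 2, 18, 5, 23]
/-- table of `pu⁻¹` -/
def tui : List ℕ := [0, 3, 20, 17, 19, 22, 15, 18, 10, 6, 16, 7, 5, 4, 13, 2, 11, 9, 21, 8, 12, 14, 1, 23]
/-- table of `pf` -/
def tf : List ℕ := [0, 1, 20, 9, 14, 15, 3, 11, 16, 5, 18, 8, 17, 7, 10, 6, 13, 2, 21, 19, 22, 4, 12, 23]
/-- table of `pf⁻¹` -/
def tfi : List ℕ := [0, 1, 17, 6, 21, 9, 15, 13, 11, 3, 14, 7, 22, 16, 4, 5, 8, 12, 10, 19, 2, 18, 20, 23]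
/-- table of `pv` -/
def tv : List ℕ := [0, 19, 12, 21, 6, 18, 10, 16, 8, 14, 15, 7, 17, 11, 9, 4, 13, 20, 3, 1, 2, 5, 22, 23]
/-- table of `pv⁻¹` -/
def tvi : List ℕ := [0, 19, 20, 18, 15, 21, 4, 11, 8, 14, 6, 13, 2, 16, 9, 10, 7, 12, 5, 1, 17, 3, 22, 23]

/-- the permutation `pu` -/
def pu : Equiv.Perm GolayPt where
  toFun := fn tu
  invFun := fn tui
  left_inv := by decide +kernel
  right_inv := by decide +kernel

theorem pu_mem24 : pu ∈ M24 :=
  SporadicA.GolayWalk.mem_M24_of_table pu tu rfl (by decide +kernel) (by decide +kernel)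

theorem pu_mem : pu ∈ Spor.M22 :=
  (SporadicA.MathieuRecog.mem_M22_iff _).2 ⟨pu_mem24, by decide +kernel, by decide +kernel⟩

/-- the permutation `pf` -/
def pf : Equiv.Perm GolayPt where
  toFun := fn tf
  invFun := fn tfi
  left_inv := by decide +kernel
  right_inv := by decide +kernel

theorem pf_mem24 : pf ∈ M24 :=
  SporadicA.GolayWalk.mem_M24_of_table pf tf rfl (by decide +kernel) (by decide +kernel)

theorem pf_mem : pf ∈ Spor.M22 :=
  (SporadicA.MathieuRecog.mem_M22_iff _).2 ⟨pf_mem24, by decide +kernel, by decide +kernel⟩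

/-- the permutation `pv` -/
def pv : Equiv.Perm GolayPt where
  toFun := fn tv
  invFun := fn tvi
  left_inv := by decide +kernel
  right_inv := by decide +kernel

theorem pv_mem24 : pv ∈ M24 :=
  SporadicA.GolayWalk.mem_M24_of_table pv tv rfl (by decide +kernel) (by decide +kernel)

theorem pv_mem : pv ∈ Spor.M22 :=
  (SporadicA.MathieuRecog.mem_M22_iff _).2 ⟨pv_mem24, by decide +kernel, by decide +kernel⟩

theorem X_eq : H994.TwoGen.M22.X = pu * pv * pu⁻¹ * pf⁻¹ * pv⁻¹ * pu⁻¹ * pv⁻¹ * pu * pv * pf⁻¹ * pu :=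
  Equiv.ext (by decide +kernel)

theorem Y_eq : H994.TwoGen.M22.Y = pv * pu⁻¹ * pv * pu⁻¹ * pf * pv * pu⁻¹ * pv * pu⁻¹ * pf :=
  Equiv.ext (by decide +kernel)

theorem rel_u : pu ^ 11 = 1 := Equiv.ext (by decide +kernel)
theorem rel_u1 : pu ≠ 1 := fun h => absurd (DFunLike.congr_fun h (some 1)) (by decide +kernel)
theorem rel_f : pf ^ 5 = 1 := Equiv.ext (by decide +kernel)
theorem rel_fu : pf * pu * pf⁻¹ = pu ^ 3 := Equiv.ext (by decide +kernel)
theorem rel_t : pv * pv * (pv * pv) = 1 := Equiv.ext (by decide +kernel)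
theorem rel_tf : pv * pv * pf * (pv * pv)⁻¹ = pf⁻¹ := Equiv.ext (by decide +kernel)
theorem rel_ut : (pu * (pv * pv)) ^ 3 = 1 := Equiv.ext (by decide +kernel)
theorem rel_vf : pv * pf * pv⁻¹ = pf ^ 2 := Equiv.ext (by decide +kernel)
theorem rel_uv : (pu * pv) ^ 7 = 1 := Equiv.ext (by decide +kernel)

/-- the elements of the group -/
def mu : Spor.M22 := ⟨pu, pu_mem⟩
/-- the elements of the group -/
def mf : Spor.M22 := ⟨pf, pf_mem⟩
/-- the elements of the group -/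
def mv : Spor.M22 := ⟨pv, pv_mem⟩

theorem X_in {K : Subgroup (Equiv.Perm GolayPt)} (hu : pu ∈ K) (hf : pf ∈ K) (hv : pv ∈ K) :
    H994.TwoGen.M22.X ∈ K := by
  rw [X_eq]
  exact (mul_mem (mul_mem (mul_mem (mul_mem (mul_mem (mul_mem (mul_mem (mul_mem (mul_mem (mul_mem hu hv) (inv_mem hu)) (inv_mem hf)) (inv_mem hv)) (inv_mem hu)) (inv_mem hv)) hu) hv) (inv_mem hf)) hu)

theorem Y_in {K : Subgroup (Equiv.Perm GolayPt)} (hu : pu ∈ K) (hf : pf ∈ K) (hv : pv ∈ K) :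
    H994.TwoGen.M22.Y ∈ K := by
  rw [Y_eq]
  exact (mul_mem (mul_mem (mul_mem (mul_mem (mul_mem (mul_mem (mul_mem (mul_mem (mul_mem hv (inv_mem hu)) hv) (inv_mem hu)) hf) hv) (inv_mem hu)) hv) (inv_mem hu)) hf)

theorem gen3 : Subgroup.closure ({mu, mf, mv} : Set Spor.M22) = ⊤ := by
  rw [eq_top_iff]
  have h1 : Spor.M22 ≤ (Subgroup.closure ({mu, mf, mv} : Set Spor.M22)).map Spor.M22.subtype := by
    rw [MonoidHom.map_closure]
    conv_lhs => rw [← H994.TwoGen.M22.closure_eq]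
    have hu : pu ∈ Subgroup.closure (Spor.M22.subtype '' {mu, mf, mv}) :=
      Subgroup.subset_closure ⟨mu, Or.inl rfl, rfl⟩
    have hf : pf ∈ Subgroup.closure (Spor.M22.subtype '' {mu, mf, mv}) :=
      Subgroup.subset_closure ⟨mf, Or.inr (Or.inl rfl), rfl⟩
    have hv : pv ∈ Subgroup.closure (Spor.M22.subtype '' {mu, mf, mv}) :=
      Subgroup.subset_closure ⟨mv, Or.inr (Or.inr rfl), rfl⟩
    rw [Subgroup.closure_le]
    rintro x (rfl | rfl)
    · exact X_in hu hf hv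
    · exact Y_in hu hf hv
  rintro ⟨x, hx⟩ -
  obtain ⟨y, hy, h2⟩ := h1 hx
  have h3 : y = ⟨x, hx⟩ := Subtype.ext h2
  rw [← h3]; exact hy

/-- the system of generators of `M22` -/
theorem tup : Ex.TupW mu mf (mv * mv) {mv} ∅ where
  u11 := Subtype.ext rel_u
  u1 := fun h => rel_u1 (congrArg Subtype.val h)
  f5 := Subtype.ext rel_f
  fu := Subtype.ext rel_fu
  t2 := Subtype.ext rel_t
  tf := Subtype.ext rel_tf
  ut := Subtype.ext rel_ut
  hv := by
    rintro v rfl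
    exact ⟨Subtype.ext rel_vf, rfl, Or.inl (Subtype.ext rel_uv)⟩
  hx := fun x hx => absurd hx (Set.notMem_empty x)
  gen := by
    rw [eq_top_iff, ← gen3]
    apply Subgroup.closure_mono
    rintro x (rfl | rfl | rfl)
    · left; left; left; rfl
    · left; left; right; left; rfl
    · left; right; rfl

end Cfsg.Agent.H831.JM.MTT

namespace Cfsg.Agent.H831.JM.MTT

open Cfsg.Agent.H858 Cfsg.Agent.H858.VK Cfsg.Agent.H858.Data Cfsg.Agent.H858.Elem
open Cfsg.Agent.H831.JM.Env Cfsg.Agent.H831.JM.Pair Cfsg.Agent.H831.JM.Ex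
open Cfsg.Agent.H860.JM (NL cj cj_cj mem_cj cj_eq_iff centralizer_cj normalizer_cj)

local notation "𝒢" => Cfsg.Spor.J4

/-- up to conjugacy the socle is one explicit subgroup -/
theorem socle_conj {M S : Subgroup 𝒢} (hM : NL M S) (he : Nonempty (S ≃* Spor.M22)) :
    ∃ g : 𝒢, cj g S = Subgroup.closure {uB, f, e 0} := by
  obtain ⟨e'⟩ := he
  set φ : Spor.M22 →* 𝒢 := S.subtype.comp e'.symm.toMonoidHom with hφ
  have hr : φ.range = S := by
    rw [hφ, MonoidHom.range_comp, MonoidHom.range_eq_top_of_surjective _ e'.symm.surjective, ← MonoidHom.range_eq_map,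
      Subgroup.range_subtype]
  obtain ⟨g, hu, hf, v, hv, hgv⟩ := dich tup hM φ (S.subtype_injective.comp e'.symm.injective) hr
  obtain rfl : v = mv := hv
  refine ⟨g, ?_⟩
  have h1 : cj g S = ((⊤ : Subgroup Spor.M22).map φ).map (MulAut.conj g).toMonoidHom := by
    rw [← MonoidHom.range_eq_map, hr, cj]
  rw [h1, Subgroup.map_map, ← gen3, MonoidHom.map_closure]
  congr 1
  rw [← hu, ← hf, ← hgv, Set.image_insert_eq, Set.image_insert_eq, Set.image_singleton]
  rfl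

theorem norm_eq {M S : Subgroup 𝒢} (h : NL M S) : Subgroup.normalizer (S : Set 𝒢) = M := by
  rcases h.coatom.le_iff.1 h.norm with h1 | h1
  · exfalso
    have hs : IsSimpleGroup 𝒢 := isJ4.1
    have hn : S.Normal := Subgroup.normalizer_eq_top_iff.1 h1
    rcases hn.eq_bot_or_eq_top with h2 | h2
    · have h3 := h.simple.toNontrivial
      rw [h2] at h3
      exact not_subsingleton (⊥ : Subgroup 𝒢) inferInstance
    · exact h.coatom.1 (top_le_iff.1 (h2 ▸ h.le))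
  · exact h1

end Cfsg.Agent.H831.JM.MTT

namespace Cfsg.Agent.H831.JM

open Cfsg.Agent.H831.JM.Ex Cfsg.Agent.H831.JM.MTT
open Cfsg.Agent.H860.JM (NL cj cj_cj mem_cj cj_eq_iff centralizer_cj normalizer_cj)

/-- **the maximal subgroups of `J4` with socle `M22` are conjugate** -/
theorem one_M22 : Cfsg.Agent.H860.JM.OneCl Spor.M22 := by
  intro M S M' S' h h' he he'
  obtain ⟨g, hg⟩ := socle_conj h he
  obtain ⟨g', hg'⟩ := socle_conj h' he'
  refine ⟨g'⁻¹ * g, ?_⟩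
  have h1 : S' = cj (g'⁻¹ * g) S := by
    rw [← cj_cj, hg, ← hg', cj_inv]
  rw [← norm_eq h, ← norm_eq h', ← normalizer_cj, ← h1]

end Cfsg.Agent.H831.JM
end

-- part: H831/JM/M12
section
/-!
# Generators of `M12` containing a Frobenius group of order 55 (helper831)
-/

set_option autoImplicit false

open Cfsg

namespace Cfsg.Agent.H831.JM.M12

open Cfsg.Agent.J4.M24Hom (fn)

/-- table of `pu` -/
def tu : List ℕ := [0, 6, 16, 8, 9, 5, 4, 17, 2, 18, 14, 23, 3, 1, 15, 21, 13, 10, 12, 11, 7, 22, 19, 20]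
/-- table of `pu⁻¹` -/
def tui : List ℕ := [0, 13, 8, 12, 6, 5, 1, 20, 3, 4, 17, 19, 18, 16, 10, 14, 2, 7, 9, 22, 23, 15, 21, 11]
/-- table of `pf` -/
def tf : List ℕ := [0, 18, 3, 1, 13, 5, 8, 20, 9, 4, 21, 17, 2, 6, 11, 7, 16, 10, 12, 23, 19, 14, 22, 15]
/-- table of `pf⁻¹` -/
def tfi : List ℕ := [0, 3, 12, 2, 9, 5, 13, 15, 6, 8, 17, 14, 18, 4, 21, 23, 16, 11, 1, 20, 7, 10, 22, 19]
/-- table of `pt` -/
def tt : List ℕ := [0, 18, 2, 12, 9, 5, 6, 15, 13, 4, 17, 21, 3, 8, 14, 7, 16, 10, 1, 19, 23, 11, 22, 20]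
/-- table of `pt⁻¹` -/
def tti : List ℕ := [0, 18, 2, 12, 9, 5, 6, 15, 13, 4, 17, 21, 3, 8, 14, 7, 16, 10, 1, 19, 23, 11, 22, 20]
/-- table of `pz` -/
def tz : List ℕ := [16, 9, 6, 8, 18, 22, 2, 10, 3, 1, 7, 23, 13, 12, 19, 17, 0, 15, 4, 14, 21, 20, 5, 11]
/-- table of `pz⁻¹` -/
def tzi : List ℕ := [16, 9, 6, 8, 18, 22, 2, 10, 3, 1, 7, 23, 13, 12, 19, 17, 0, 15, 4, 14, 21, 20, 5, 11]

/-- the permutation `pu` -/
def pu : Equiv.Perm GolayPt where
  toFun := fn tu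
  invFun := fn tui
  left_inv := by decide +kernel
  right_inv := by decide +kernel

theorem pu_mem24 : pu ∈ M24 :=
  SporadicA.GolayWalk.mem_M24_of_table pu tu rfl (by decide +kernel) (by decide +kernel)

open Cfsg.Agent.SporadicStructure.M11InvPerms Cfsg.Agent.MTwelveType.SylowModel in
theorem pu_dd : ∀ p ∈ dd, pu p ∈ dd := by decide +kernel

theorem pu_mem : pu ∈ Spor.M12 := MTwelveType.SylowModel.mem_M12 pu_mem24 pu_dd

/-- the permutation `pf` -/
def pf : Equiv.Perm GolayPt where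
  toFun := fn tf
  invFun := fn tfi
  left_inv := by decide +kernel
  right_inv := by decide +kernel

theorem pf_mem24 : pf ∈ M24 :=
  SporadicA.GolayWalk.mem_M24_of_table pf tf rfl (by decide +kernel) (by decide +kernel)

open Cfsg.Agent.SporadicStructure.M11InvPerms Cfsg.Agent.MTwelveType.SylowModel in
theorem pf_dd : ∀ p ∈ dd, pf p ∈ dd := by decide +kernel

theorem pf_mem : pf ∈ Spor.M12 := MTwelveType.SylowModel.mem_M12 pf_mem24 pf_dd

/-- the permutation `pt` -/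
def pt : Equiv.Perm GolayPt where
  toFun := fn tt
  invFun := fn tti
  left_inv := by decide +kernel
  right_inv := by decide +kernel

theorem pt_mem24 : pt ∈ M24 :=
  SporadicA.GolayWalk.mem_M24_of_table pt tt rfl (by decide +kernel) (by decide +kernel)

open Cfsg.Agent.SporadicStructure.M11InvPerms Cfsg.Agent.MTwelveType.SylowModel in
theorem pt_dd : ∀ p ∈ dd, pt p ∈ dd := by decide +kernel

theorem pt_mem : pt ∈ Spor.M12 := MTwelveType.SylowModel.mem_M12 pt_mem24 pt_dd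

/-- the permutation `pz` -/
def pz : Equiv.Perm GolayPt where
  toFun := fn tz
  invFun := fn tzi
  left_inv := by decide +kernel
  right_inv := by decide +kernel

theorem pz_mem24 : pz ∈ M24 :=
  SporadicA.GolayWalk.mem_M24_of_table pz tz rfl (by decide +kernel) (by decide +kernel)

open Cfsg.Agent.SporadicStructure.M11InvPerms Cfsg.Agent.MTwelveType.SylowModel in
theorem pz_dd : ∀ p ∈ dd, pz p ∈ dd := by decide +kernel

theorem pz_mem : pz ∈ Spor.M12 := MTwelveType.SylowModel.mem_M12 pz_mem24 pz_dd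

theorem X_eq : H994.TwoGen.M12.X = pt * pu⁻¹ * pz * pu * pu * pz * pu * pz * pu * pt :=
  Equiv.ext (by decide +kernel)

theorem Y_eq : H994.TwoGen.M12.Y = pu * pu * pz * pu * pu * pt * pu⁻¹ * pu⁻¹ * pu⁻¹ * pt * pz * pu * pz * pu :=
  Equiv.ext (by decide +kernel)

theorem X_in {K : Subgroup (Equiv.Perm GolayPt)} (hu : pu ∈ K) (ht : pt ∈ K) (hz : pz ∈ K) :
    H994.TwoGen.M12.X ∈ K := by
  rw [X_eq]
  exact (mul_mem (mul_mem (mul_mem (mul_mem (mul_mem (mul_mem (mul_mem (mul_mem (mul_mem ht (inv_mem hu)) hz) hu) hu) hz) hu) hz) hu) ht)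

theorem Y_in {K : Subgroup (Equiv.Perm GolayPt)} (hu : pu ∈ K) (ht : pt ∈ K) (hz : pz ∈ K) :
    H994.TwoGen.M12.Y ∈ K := by
  rw [Y_eq]
  exact (mul_mem (mul_mem (mul_mem (mul_mem (mul_mem (mul_mem (mul_mem (mul_mem (mul_mem (mul_mem (mul_mem (mul_mem (mul_mem hu hu) hz) hu) hu) ht) (inv_mem hu)) (inv_mem hu)) (inv_mem hu)) ht) hz) hu) hz) hu)

theorem rel_u : pu ^ 11 = 1 := Equiv.ext (by decide +kernel)
theorem rel_u1 : pu ≠ 1 := fun h => absurd (DFunLike.congr_fun h (some 1)) (by decide +kernel)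
theorem rel_f : pf ^ 5 = 1 := Equiv.ext (by decide +kernel)
theorem rel_fu : pf * pu * pf⁻¹ = pu ^ 3 := Equiv.ext (by decide +kernel)
theorem rel_t : pt * pt = 1 := Equiv.ext (by decide +kernel)
theorem rel_tf : pt * pf * pt⁻¹ = pf⁻¹ := Equiv.ext (by decide +kernel)
theorem rel_ut : (pu * pt) ^ 3 = 1 := Equiv.ext (by decide +kernel)
theorem rel_zf : pz * pf = pf * pz := Equiv.ext (by decide +kernel)
theorem rel_zt : pz * pt = pt * pz := Equiv.ext (by decide +kernel)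
theorem rel_z1 : pz ≠ 1 := fun h => absurd (DFunLike.congr_fun h (some 1)) (by decide +kernel)
theorem rel_z : pz ^ 2 = 1 := Equiv.ext (by decide +kernel)
theorem rel_uz : (pu * pz) ^ 11 = 1 := Equiv.ext (by decide +kernel)

/-- the elements of the group -/
def mu : Spor.M12 := ⟨pu, pu_mem⟩
/-- the elements of the group -/
def mf : Spor.M12 := ⟨pf, pf_mem⟩
/-- the elements of the group -/
def mt : Spor.M12 := ⟨pt, pt_mem⟩
/-- the elements of the group -/
def mz : Spor.M12 := ⟨pz, pz_mem⟩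

theorem gen3 : Subgroup.closure ({mu, mt, mz} : Set Spor.M12) = ⊤ := by
  rw [eq_top_iff]
  have h1 : Spor.M12 ≤ (Subgroup.closure ({mu, mt, mz} : Set Spor.M12)).map Spor.M12.subtype := by
    rw [MonoidHom.map_closure]
    conv_lhs => rw [← H994.TwoGen.M12.closure_eq]
    have hu : pu ∈ Subgroup.closure (Spor.M12.subtype '' {mu, mt, mz}) :=
      Subgroup.subset_closure ⟨mu, Or.inl rfl, rfl⟩
    have ht : pt ∈ Subgroup.closure (Spor.M12.subtype '' {mu, mt, mz}) :=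
      Subgroup.subset_closure ⟨mt, Or.inr (Or.inl rfl), rfl⟩
    have hz : pz ∈ Subgroup.closure (Spor.M12.subtype '' {mu, mt, mz}) :=
      Subgroup.subset_closure ⟨mz, Or.inr (Or.inr rfl), rfl⟩
    rw [Subgroup.closure_le]
    rintro x (rfl | rfl)
    · exact X_in hu ht hz
    · exact Y_in hu ht hz
  rintro ⟨x, hx⟩ -
  obtain ⟨y, hy, h2⟩ := h1 hx
  have h3 : y = ⟨x, hx⟩ := Subtype.ext h2
  rw [← h3]; exact hy

end Cfsg.Agent.H831.JM.M12

namespace Cfsg.Agent.H831.JM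

open Cfsg.Agent.H831.JM.M12

/-- the system of generators of `M12` -/
theorem tup_M12 : Tup (X := Spor.M12) mu mf _root_.Cfsg.Agent.H831.JM.M12.mt ∅ {mz} where
  u11 := Subtype.ext rel_u
  u1 := fun h => rel_u1 (congrArg Subtype.val h)
  f5 := Subtype.ext rel_f
  fu := Subtype.ext rel_fu
  t2 := Subtype.ext rel_t
  tf := Subtype.ext rel_tf
  ut := Subtype.ext rel_ut
  hv := fun x hx => absurd hx (Set.notMem_empty x)
  hx := by
    rintro x rfl
    exact ⟨Subtype.ext rel_zf, Subtype.ext rel_zt, fun h => rel_z1 (congrArg Subtype.val h),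
      Or.inl (Subtype.ext rel_z), Subtype.ext rel_uz⟩
  gen := by
    rw [eq_top_iff, ← gen3]
    apply Subgroup.closure_mono
    rintro x (rfl | rfl | rfl)
    · left; left; left; rfl
    · left; left; right; right; rfl
    · right; rfl

end Cfsg.Agent.H831.JM
end

-- part: H831/JM/RowsM
section
/-!
# No maximal subgroup of `J4` has socle `M12`, `M23` or `M24` (helper831)
-/

set_option autoImplicit false

namespace Cfsg.Agent.H831.JM

open Cfsg

theorem excl_M12 : Cfsg.Agent.H860.JM.Excl Spor.M12 := excl_of_tup tup_M12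

theorem excl_M23 : Cfsg.Agent.H860.JM.Excl Spor.M23 := excl_of_tup Cfsg.Agent.H814.JM.M23M24.tup_M23

theorem excl_M24 : Cfsg.Agent.H860.JM.Excl M24 := excl_of_tup Cfsg.Agent.H814.JM.M23M24.tup_M24

end Cfsg.Agent.H831.JM
end

-- part: S5580
section
/-!
# S5580: the maximal subgroups of the fourth Janko group (final assembly: helper854)

Plan: helper860. Parts I and II: helper854, helper866. Rows of Part III: helper856, helper878 (alternating groups),
helper111 (`L_2(7)`, `U_3(3)`), helper814 (`L_2(11)`, `M_11`, `M_23`, `M_24`), helper868, helper820 (`L_3(4)`), helper382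
(`L_5(2)`), helper831 (`M_12`, `M_22`), helper265 (`L_2(23)`), helper763 (`L_2(32)`), helper179 (`U_3(11)`).
-/

set_option autoImplicit false
open Cfsg

namespace Cfsg.Agent.S5580

/-- all the rows of Part III -/
theorem rows : Cfsg.Agent.H854.JM.Rows where
  a5 := Cfsg.Agent.H856.JM.AltRows.excl_A5 Cfsg.Agent.H878.JM.E2.e2
  a6 := Cfsg.Agent.H856.JM.AltRows.excl_A6 Cfsg.Agent.H878.JM.E2.e2
  a7 := Cfsg.Agent.H856.JM.AltRows.excl_A7 Cfsg.Agent.H878.JM.E2.e2
  a8 := Cfsg.Agent.H856.JM.AltRows.excl_A8 Cfsg.Agent.H878.JM.E2.e2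
  l27 := fun h => Cfsg.Agent.H111.JM.excl_L27 h
  l211 := fun h => Cfsg.Agent.H814.JM.excl_L211 h
  l34 := fun h => Cfsg.Agent.H868.JM.L34.excl Cfsg.Agent.H820.JM.card_TY h
  l52 := fun h => Cfsg.Agent.H382.JM.L52.excl_L52 h
  m11 := Cfsg.Agent.H814.JM.excl_M11
  m12 := Cfsg.Agent.H831.JM.excl_M12
  m23 := Cfsg.Agent.H831.JM.excl_M23
  m24 := Cfsg.Agent.H831.JM.excl_M24
  m22 := Cfsg.Agent.H831.JM.one_M22
  l223 := fun h => Cfsg.Agent.H265.JM.L223.one_L223 h
  l232 := fun h => Cfsg.Agent.H763.JM.one_L232 Cfsg.Agent.H854.JM.facts h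
  u33 := fun h => Cfsg.Agent.H111.JM.one_U33 h
  u311 := fun h => Cfsg.Agent.H179.JM.UEleven.one_U311 h

/-- Let G be a finite non-abelian simple group of Janko-four type (Janko's involution-centralizer conditions; such a group is the fourth Janko group). Then G has exactly 13 conjugacy classes of maximal subgroups: there are 13 pairwise non-conjugate maximal subgroups such that every maximal subgroup is conjugate to one of them. -/
theorem result {G : Type*} [Group G] [Finite G] [IsSimpleGroup G] (hG : ¬ IsMulCommutative G) (hJ : Cfsg.IsOfJankoFourType G) :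
    ∃ S : Finset (Subgroup G), S.card = 13 ∧ (∀ M ∈ S, IsCoatom M) ∧
      (∀ M₁ ∈ S, ∀ M₂ ∈ S, ∀ g : G, M₂ = M₁.map (MulAut.conj g).toMonoidHom → M₁ = M₂) ∧
      ∀ M : Subgroup G, IsCoatom M → ∃ M₀ ∈ S, ∃ g : G, M = M₀.map (MulAut.conj g).toMonoidHom := by
  have := Cfsg.Agent.H854.JM.simple_J
  exact Cfsg.Agent.H854.JM.stmt_of
    (Cfsg.Agent.H854.JM.thirteen' rows Cfsg.Agent.OrdDiv.table
      (fun X _ _ _ => Cfsg.Agent.S0000.result)
      (Cfsg.Agent.S5581.result Cfsg.Agent.H854.JM.noncomm_J Cfsg.Agent.H854.JM.janko)) hJ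

end Cfsg.Agent.S5580
end

private theorem dce_2399ad9e14ad : _root_.True := by
  try have : _root_.True := by simp only [_root_.Cfsg.Agent.H814.JM.L211.dg.congr_simp]
  exact _root_.True.intro
end
end
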