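import Cfsg.Agent.H908.FrameFive
import Cfsg.Agent.H918.UProperTwo
import Cfsg.Agent.ClassicalGeometry.HermOrtho
import Cfsg.Agent.H930.SpInSU
import Cfsg.Agent.H918.UWrap
import Cfsg.Agent.H930.UnitaryTwo
import Cfsg.Statements.S5784
import Cfsg.Agent.S5663
set_option linter.all false

-- part: H908/SUFrame
section
/-!
# Orthonormal frames of a unitary space; the frame stabiliser in `SU_4(3)`
-/

set_option autoImplicit false
set_option linter.style.haveILetI false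

namespace Cfsg.Agent.H908

open Cfsg Cfsg.Geo Matrix Cfsg.Agent.H918 Cfsg.Agent.LieClassical.HermBasic

variable {F : Type*} [Field F] [Fintype F] {n q : ℕ}

/-- Nondegenerate in the sense of the classes implies the left-radical is zero. -/
theorem nondeg_left {f : (Fin n → F) → (Fin n → F) → F} {W : Submodule F (Fin n → F)}
    (hW : IsNondegenerateOn f W) : ∀ u ∈ W, (∀ v ∈ W, f u v = 0) → u = 0 := by
  intro u hu h
  by_contra h0
  obtain ⟨-, x, hx, hx'⟩ := hW u hu h0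
  exact hx' (h x hx)

/-- An orthogonal frame of nondegenerate lines: a unitary matrix `P` with `P e_i ∈ D_i`, and elements of the frame
stabiliser are monomial in these coordinates. -/
theorem exists_unitary_frame (hF : Fintype.card F = q ^ 2) {D : Fin n → Submodule F (Fin n → F)}
    (hD : IsNondegenerateMDecomposition (hermForm n F q) 1 D) :
    ∃ P ∈ GU n F q, (∀ i, D i = Submodule.span F {(P : Matrix (Fin n) (Fin n) F) *ᵥ Pi.single i 1}) ∧
      ∀ g ∈ decompositionStabilizer D, ∃ (σ : Equiv.Perm (Fin n)) (c : Fin n → F),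
      ((P⁻¹ * g * P : GL (Fin n) F) : Matrix (Fin n) (Fin n) F) = Pauli.mono σ c := by
  have h1 : ∀ i, ∃ b : Fin n → F, b ∈ D i ∧ hermForm n F q b b = 1 := by
    intro i
    obtain ⟨b, hb, hb'⟩ := ClassicalGeometry.HermOrtho.exists_orthonormal hF (D i)
      (nondeg_left (hD.nondegenerate i)) (hD.decomp.finrank_eq i)
    exact ⟨b 0, hb 0, by rw [hb']; simp⟩
  choose b hb hb1 using h1
  have hbo : ∀ i j, hermForm n F q (b i) (b j) = if i = j then 1 else 0 := by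
    intro i j
    split_ifs with h
    · rw [h]; exact hb1 j
    · exact hD.orthogonal i j h _ (hb i) _ (hb j)
  obtain ⟨P, hP, hPb⟩ := ClassicalGeometry.HermOrtho.exists_GU_of_orthonormal hF hbo
  have hPe : ∀ i, (P : Matrix (Fin n) (Fin n) F) *ᵥ Pi.single i 1 = b i := by
    intro i
    rw [hPb, Finset.sum_eq_single i]
    · simp
    · intro j _ hj
      rw [Pi.single_eq_of_ne hj, zero_smul]
    · simp
  have hspan : ∀ i, D i = Submodule.span F {(P : Matrix (Fin n) (Fin n) F) *ᵥ Pi.single i 1} := by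
    intro i
    rw [hPe]
    symm
    apply Submodule.eq_of_le_of_finrank_eq
    · rw [Submodule.span_singleton_le_iff_mem]
      exact hb i
    · rw [finrank_span_singleton, hD.decomp.finrank_eq]
      intro h0
      have := hb1 i
      rw [h0, herm_zero_left] at this
      exact zero_ne_one this
  refine ⟨P, hP, hspan, ?_⟩
  rintro g ⟨σ, hσ⟩
  have h2 : ∀ j, ∃ c : F, (g : Matrix (Fin n) (Fin n) F) *ᵥ ((P : Matrix (Fin n) (Fin n) F) *ᵥ Pi.single j 1) =
      c • ((P : Matrix (Fin n) (Fin n) F) *ᵥ Pi.single (σ j) 1) := by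
    intro j
    have h3 : (g : Matrix (Fin n) (Fin n) F) *ᵥ ((P : Matrix (Fin n) (Fin n) F) *ᵥ Pi.single j 1) ∈ D (σ j) := by
      rw [← hσ]
      exact ⟨_, by rw [SetLike.mem_coe, hspan j]; exact Submodule.mem_span_singleton_self _, rfl⟩
    rw [hspan (σ j), Submodule.mem_span_singleton] at h3
    obtain ⟨c, hc⟩ := h3
    exact ⟨c, hc.symm⟩
  choose c hc using h2
  refine ⟨σ, c, ?_⟩
  apply Matrix.ext_of_mulVec_single
  intro j
  rw [Pauli.mono_mulVec_single]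
  have h4 : P⁻¹ * g * P = P⁻¹ * (g * P) := by rw [mul_assoc]
  rw [h4, Units.val_mul, Units.val_mul, ← Matrix.mulVec_mulVec, ← Matrix.mulVec_mulVec, hc,
    Matrix.mulVec_smul, Matrix.mulVec_mulVec, ← Units.val_mul, inv_mul_cancel, Units.val_one,
    Matrix.one_mulVec, ← Pi.single_smul, smul_eq_mul, mul_one]

/-- Entries of a monomial unitary matrix have norm one. -/
theorem norm_one_of_mono (hF : Fintype.card F = q ^ 2) {g : GL (Fin n) F} (hg : g ∈ GU n F q)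
    {σ : Equiv.Perm (Fin n)} {c : Fin n → F} (h : (g : Matrix (Fin n) (Fin n) F) = Pauli.mono σ c)
    (j : Fin n) : c j ^ (q + 1) = 1 := by
  have h1 := hg (Pi.single j 1) (Pi.single j 1)
  change hermForm n F q ((g : Matrix (Fin n) (Fin n) F) *ᵥ (Pi.single j 1))
    ((g : Matrix (Fin n) (Fin n) F) *ᵥ (Pi.single j 1)) = _ at h1
  rw [h, Pauli.mono_mulVec_single, herm_single_left, herm_single_left, Pi.single_eq_same,
    Pi.single_eq_same, one_pow, mul_one] at h1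
  rw [pow_succ', h1]

/-- A monomial matrix with entries of norm one is unitary. -/
theorem mono_mem_GU (hF : Fintype.card F = q ^ 2) {g : GL (Fin n) F}
    {σ : Equiv.Perm (Fin n)} {c : Fin n → F} (h : (g : Matrix (Fin n) (Fin n) F) = Pauli.mono σ c)
    (hc : ∀ j, c j ^ (q + 1) = 1) : g ∈ GU n F q := by
  intro u v
  change hermForm n F q ((g : Matrix (Fin n) (Fin n) F) *ᵥ u)
    ((g : Matrix (Fin n) (Fin n) F) *ᵥ v) = _
  have key : ∀ (u : Fin n → F) (i : Fin n), ((g : Matrix (Fin n) (Fin n) F) *ᵥ u) (σ i) = c i * u i := by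
    intro u i
    rw [h, Matrix.mulVec, dotProduct, Finset.sum_eq_single i]
    · rw [Pauli.mono_pos _ _ rfl]
    · intro j _ hj
      rw [Pauli.mono_neg _ _ (fun h => hj (σ.injective h).symm), zero_mul]
    · simp
  rw [herm_def, herm_def, ← Equiv.sum_comp σ]
  apply Finset.sum_congr rfl
  intro i _
  rw [key, key, mul_pow]
  have := hc i
  rw [pow_succ'] at this
  linear_combination (u i * v i ^ q) * this

theorem su_frame_three (hF : Fintype.card F = 3 ^ 2) {D : Fin 4 → Submodule F (Fin 4 → F)}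
    (hD : IsNondegenerateMDecomposition (hermForm 4 F 3) 1 D) :
    ∃ R : Subgroup (GL (Fin 4) F), IsSymplecticTypeGroup 2 R ∧ ActsAbsolutelyIrreducibly (matrixSet R) ∧
      R ≤ similarityGroup (hermForm 4 F 3) ∧ Nat.card R = 64 ∧ Nat.card (Subgroup.center R) = 4 ∧
      decompositionStabilizer D ⊓ SUg 4 F 3 ≤ subgroupNormalizer R := by
  have hp3 : Nat.Prime 3 := by norm_num
  haveI : Fact (Nat.Prime 3) := ⟨hp3⟩
  have hchar : CharP F 3 := charP_of_card_eq_prime_pow hF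
  have h2 : (2 : F) ≠ 0 := by
    intro h
    have : ((2 : ℕ) : F) = 0 := by exact_mod_cast h
    rw [CharP.cast_eq_zero_iff F 3] at this
    norm_num at this
  obtain ⟨i, hi⟩ : ∃ i : F, i ^ 2 = -1 := by
    have h := (FiniteField.isSquare_neg_one_iff (F := F)).2 (by rw [hF]; norm_num)
    obtain ⟨i, hi⟩ := h
    exact ⟨i, by rw [hi, pow_two]⟩
  obtain ⟨P, hP, -, hmono⟩ := exists_unitary_frame hF hD
  refine ⟨cj P (Pauli.RR F), symplecticType_cj (Pauli.isSymplecticType h2 hi) P,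
    absIrred_cj (Pauli.absIrred h2) P, ?_, by rw [card_cj, Pauli.card_RR h2 hi],
    by rw [card_center_cj, Pauli.card_center h2 hi], ?_⟩
  · intro x hx
    rw [mem_cj] at hx
    obtain ⟨a, c, hxa, hc⟩ := hx
    have h1 : P⁻¹ * x * P ∈ GU 4 F 3 := mono_mem_GU hF hxa hc.1
    have h3 : x ∈ GU 4 F 3 := by
      have : x = P * (P⁻¹ * x * P) * P⁻¹ := by simp [mul_assoc]
      rw [this]
      exact mul_mem (mul_mem hP h1) (inv_mem hP)
    exact ⟨1, fun u v => by rw [Units.val_one, one_mul]; exact h3 u v⟩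
  · rintro g ⟨hg, hgU, hgs⟩
    apply normalizer_cj
    have hmain : ∀ g : GL (Fin 4) F, g ∈ decompositionStabilizer D → g ∈ GU 4 F 3 →
        g ∈ specialLinear (Fin 4) F →
        ∀ x ∈ Pauli.RR F, (P⁻¹ * g * P) * x * (P⁻¹ * g * P)⁻¹ ∈ Pauli.RR F := by
      intro g hg hgU hgs x hx
      obtain ⟨σ, c, hc⟩ := hmono g hg
      have hU : P⁻¹ * g * P ∈ GU 4 F 3 := mul_mem (mul_mem (inv_mem hP) hgU) hP
      refine Pauli.conj_mem_RR hc (fun j => norm_one_of_mono hF hU hc j) ?_ hx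
      have hdet : ((P⁻¹ * g * P : GL (Fin 4) F) : Matrix (Fin 4) (Fin 4) F).det = 1 := by
        rw [Units.val_mul, Units.val_mul, Matrix.det_mul, Matrix.det_mul, (H908.mem_sl_iff g).1 hgs, mul_one,
          ← Matrix.det_mul, ← Units.val_mul, inv_mul_cancel, Units.val_one, Matrix.det_one]
      rw [hc, Pauli.det_mono] at hdet
      rcases Int.units_eq_one_or (Equiv.Perm.sign σ) with h | h
      · rw [h] at hdet
        have : (∏ j, c j) = 1 := by simpa using hdet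
        rw [this, one_pow]
      · rw [h] at hdet
        have : (∏ j, c j) = -1 := by
          have : -(∏ j, c j) = 1 := by simpa using hdet
          rw [← this, neg_neg]
        rw [this]; ring
    apply Pauli.mem_normalizer_of (hmain g hg hgU hgs)
    intro x hx
    have h1 := hmain g⁻¹ (inv_mem hg) (inv_mem hgU) (inv_mem hgs) x hx
    have e : P⁻¹ * g⁻¹ * P * x * (P⁻¹ * g⁻¹ * P)⁻¹ = (P⁻¹ * g * P)⁻¹ * x * (P⁻¹ * g * P) := by
      simp only [_root_.mul_inv_rev, inv_inv, mul_assoc]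
    rwa [e] at h1

end Cfsg.Agent.H908
end

-- part: H908/SUPlanes
section
/-!
# Pairs of totally isotropic planes, `q ≤ 3`: the stabiliser in `SU_4(q)` is contained in a subfield group of
symplectic type
-/

set_option autoImplicit false
set_option linter.style.haveILetI false

namespace Cfsg.Agent.H908

open Cfsg Cfsg.Geo Matrix Cfsg.Agent.H918 Cfsg.Agent.LieClassical.HermBasic Cfsg.Agent.H930
open Cfsg.Agent.H873.Sub

variable {F : Type*} [Field F]

/-- The antidiagonal Hermitian form. -/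
def antiForm (q : ℕ) (u v : Fin 4 → F) : F := u 0 * v 3 ^ q + u 1 * v 2 ^ q + u 2 * v 1 ^ q + u 3 * v 0 ^ q

/-- The semilinear map `τ` with `antiForm u (τ v) = detForm u v`. -/
def tau (q : ℕ) (v : Fin 4 → F) : Fin 4 → F := ![-(v 2) ^ q, (v 3) ^ q, -(v 0) ^ q, (v 1) ^ q]

/-- The subfield of fixed points of `x ↦ x ^ q`. -/
def fixQ [Fintype F] {q : ℕ} (hF : Fintype.card F = q ^ 2) : Subfield F where
  carrier := {x | x ^ q = x}
  mul_mem' := by
    intro a b ha hb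
    rw [Set.mem_ofPred_eq] at ha hb ⊢
    rw [mul_pow, ha, hb]
  one_mem' := by rw [Set.mem_ofPred_eq, one_pow]
  add_mem' := by
    intro a b ha hb
    rw [Set.mem_ofPred_eq] at ha hb ⊢
    rw [LieClassical.HermBasic.add_pow_q hF, ha, hb]
  zero_mem' := by rw [Set.mem_ofPred_eq, zero_pow_q hF]
  neg_mem' := by
    intro a ha
    rw [Set.mem_ofPred_eq] at ha ⊢
    rw [neg_pow_q hF, ha]
  inv_mem' := by
    intro a ha
    rw [Set.mem_ofPred_eq] at ha ⊢
    rw [inv_pow, ha]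

theorem mem_fixQ [Fintype F] {q : ℕ} (hF : Fintype.card F = q ^ 2) {x : F} : x ∈ fixQ hF ↔ x ^ q = x := Iff.rfl

theorem card_fixQ [Fintype F] {q : ℕ} (hF : Fintype.card F = q ^ 2) : Nat.card (fixQ hF) = q := card_fixed hF

theorem antiForm_tau [Fintype F] {q : ℕ} (hF : Fintype.card F = q ^ 2) (u v : Fin 4 → F) :
    antiForm q u (tau q v) = detForm u v := by
  simp only [antiForm, tau, detForm, Matrix.cons_val_zero, Matrix.cons_val_one, Matrix.cons_val]
  rw [pow_q_pow_q hF, pow_q_pow_q hF, neg_pow_q hF, neg_pow_q hF, pow_q_pow_q hF, pow_q_pow_q hF]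
  ring

/-- Block matrices of determinant one preserving the antidiagonal form, `q ≤ 3`. -/
theorem detForm_anti [Fintype F] {q : ℕ} (hF : Fintype.card F = q ^ 2) (hq : q ≤ 3)
    {A : Matrix (Fin 4) (Fin 4) F} (hdet : A.det = 1)
    (hiso : ∀ u v, antiForm q (A *ᵥ u) (A *ᵥ v) = antiForm q u v) (σ : Equiv.Perm (Fin 2))
    (hA : ∀ k l : Fin 4, ((finProdFinEquiv (m := 2) (n := 2)).symm k).1 ≠
      σ ((finProdFinEquiv (m := 2) (n := 2)).symm l).1 → A k l = 0) :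
    ∃ c : F, (c = 1 ∨ c = -1) ∧ ∀ u v, detForm (A *ᵥ u) (A *ᵥ v) = c * detForm u v := by
  have hmv : ∀ (u : Fin 4 → F) (i : Fin 4), (A *ᵥ u) i = A i 0 * u 0 + A i 1 * u 1 + A i 2 * u 2 +
      A i 3 * u 3 := by
    intro u i
    rw [Matrix.mulVec, dotProduct, Fin.sum_univ_four]
  have hq0 : q ≠ 0 := (q_pos hF).ne'
  have h03 := hiso (Pi.single 0 1) (Pi.single 3 1)
  have h02 := hiso (Pi.single 0 1) (Pi.single 2 1)
  have h12 := hiso (Pi.single 1 1) (Pi.single 2 1)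
  have h13 := hiso (Pi.single 1 1) (Pi.single 3 1)
  simp only [antiForm, Matrix.mulVec_single_one, Matrix.col_apply] at h03 h02 h12 h13
  simp [hq0] at h03 h02 h12 h13
  rw [det_four] at hdet
  -- the common conclusion
  have fin' : ∀ x y : F, x * y = 1 → x * y ^ q = 1 → ∃ c : F, (c = 1 ∨ c = -1) ∧ c = x ∧ c = y := by
    intro x y hxy hxy'
    have hx : x ≠ 0 := by rintro rfl; rw [zero_mul] at hxy; exact zero_ne_one hxy
    have hy0 : y ≠ 0 := by rintro rfl; rw [mul_zero] at hxy; exact zero_ne_one hxy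
    have hy : y ^ q = y := mul_left_cancel₀ hx (by rw [hxy, hxy'])
    have hq2 := two_le hF
    have hy2 : y = 1 ∨ y = -1 := by
      have : q = 2 ∨ q = 3 := by omega
      rcases this with rfl | rfl
      · left
        apply mul_left_cancel₀ hy0
        rw [← pow_two, hy, mul_one]
      · have h1 : y ^ 2 = 1 := by
          apply mul_left_cancel₀ hy0
          rw [← pow_succ', hy, mul_one]
        exact mul_self_eq_one_iff.1 (by rw [← pow_two, h1])
    refine ⟨y, hy2, ?_, rfl⟩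
    rcases hy2 with h | h
    · rw [h, mul_one] at hxy; rw [h, hxy]
    · rw [h] at hxy ⊢
      linear_combination hxy
  rcases perm_two σ with ⟨h0, h1⟩ | ⟨h0, h1⟩
  · have z02 : A 0 2 = 0 := hA 0 2 (by change (0 : Fin 2) ≠ σ 1; rw [h1]; decide)
    have z03 : A 0 3 = 0 := hA 0 3 (by change (0 : Fin 2) ≠ σ 1; rw [h1]; decide)
    have z12 : A 1 2 = 0 := hA 1 2 (by change (0 : Fin 2) ≠ σ 1; rw [h1]; decide)
    have z13 : A 1 3 = 0 := hA 1 3 (by change (0 : Fin 2) ≠ σ 1; rw [h1]; decide)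
    have z20 : A 2 0 = 0 := hA 2 0 (by change (1 : Fin 2) ≠ σ 0; rw [h0]; decide)
    have z21 : A 2 1 = 0 := hA 2 1 (by change (1 : Fin 2) ≠ σ 0; rw [h0]; decide)
    have z30 : A 3 0 = 0 := hA 3 0 (by change (1 : Fin 2) ≠ σ 0; rw [h0]; decide)
    have z31 : A 3 1 = 0 := hA 3 1 (by change (1 : Fin 2) ≠ σ 0; rw [h0]; decide)
    have hd : (A 0 0 * A 1 1 - A 0 1 * A 1 0) * (A 2 2 * A 3 3 - A 2 3 * A 3 2) = 1 := by
      rw [← hdet, z02, z03, z12, z13]
      ring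
    have hd' : (A 0 0 * A 1 1 - A 0 1 * A 1 0) * (A 2 2 * A 3 3 - A 2 3 * A 3 2) ^ q = 1 := by
      rw [LieClassical.HermBasic.sub_pow_q hF, mul_pow, mul_pow]
      simp [z02, z03, z12, z13, z20, z21, z30, z31, hq0] at h03 h02 h12 h13
      linear_combination (A 1 1 * A 2 2 ^ q + A 0 1 * A 3 2 ^ q) * h03 - (A 1 1 * A 2 3 ^ q + A 0 1 * A 3 3 ^ q) * h02 + h12
    obtain ⟨c, hc, hc1, hc2⟩ := fin' _ _ hd hd'
    refine ⟨c, hc, fun u v => ?_⟩
    unfold detForm
    simp only [hmv, z02, z03, z12, z13, z20, z21, z30, z31]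
    linear_combination (-(u 0 * v 1 - u 1 * v 0)) * hc1 + (-(u 2 * v 3 - u 3 * v 2)) * hc2
  · have z00 : A 0 0 = 0 := hA 0 0 (by change (0 : Fin 2) ≠ σ 0; rw [h0]; decide)
    have z01 : A 0 1 = 0 := hA 0 1 (by change (0 : Fin 2) ≠ σ 0; rw [h0]; decide)
    have z10 : A 1 0 = 0 := hA 1 0 (by change (0 : Fin 2) ≠ σ 0; rw [h0]; decide)
    have z11 : A 1 1 = 0 := hA 1 1 (by change (0 : Fin 2) ≠ σ 0; rw [h0]; decide)
    have z22 : A 2 2 = 0 := hA 2 2 (by change (1 : Fin 2) ≠ σ 1; rw [h1]; decide)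
    have z23 : A 2 3 = 0 := hA 2 3 (by change (1 : Fin 2) ≠ σ 1; rw [h1]; decide)
    have z32 : A 3 2 = 0 := hA 3 2 (by change (1 : Fin 2) ≠ σ 1; rw [h1]; decide)
    have z33 : A 3 3 = 0 := hA 3 3 (by change (1 : Fin 2) ≠ σ 1; rw [h1]; decide)
    have hd : (A 2 0 * A 3 1 - A 2 1 * A 3 0) * (A 0 2 * A 1 3 - A 0 3 * A 1 2) = 1 := by
      rw [← hdet, z00, z01, z10, z11]
      ring
    have hd' : (A 2 0 * A 3 1 - A 2 1 * A 3 0) * (A 0 2 * A 1 3 - A 0 3 * A 1 2) ^ q = 1 := by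
      rw [LieClassical.HermBasic.sub_pow_q hF, mul_pow, mul_pow]
      simp [z00, z01, z10, z11, z22, z23, z32, z33, hq0] at h03 h02 h12 h13
      linear_combination (A 2 1 * A 1 2 ^ q + A 3 1 * A 0 2 ^ q) * h03 - (A 2 1 * A 1 3 ^ q + A 3 1 * A 0 3 ^ q) * h02 + h12
    obtain ⟨c, hc, hc1, hc2⟩ := fin' _ _ hd hd'
    refine ⟨c, hc, fun u v => ?_⟩
    unfold detForm
    simp only [hmv, z00, z01, z10, z11, z22, z23, z32, z33]
    linear_combination (-(u 0 * v 1 - u 1 * v 0)) * hc1 + (-(u 2 * v 3 - u 3 * v 2)) * hc2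

/-- The frame of a pair of complementary totally isotropic planes. -/
theorem exists_anti_frame [Fintype F] {q : ℕ} (hF : Fintype.card F = q ^ 2)
    {D : Fin 2 → Submodule F (Fin 4 → F)} (hD : IsMDecomposition 2 D)
    (hs : ∀ i, IsTotallySingularFor (hermForm 4 F q) (D i)) :
    ∃ Q : GL (Fin 4) F, (∀ u v, hermForm 4 F q ((Q : Matrix (Fin 4) (Fin 4) F) *ᵥ u)
      ((Q : Matrix (Fin 4) (Fin 4) F) *ᵥ v) = antiForm q u v) ∧
      (Q : Matrix (Fin 4) (Fin 4) F) *ᵥ Pi.single 0 1 ∈ D 0 ∧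
      (Q : Matrix (Fin 4) (Fin 4) F) *ᵥ Pi.single 1 1 ∈ D 0 ∧
      (Q : Matrix (Fin 4) (Fin 4) F) *ᵥ Pi.single 2 1 ∈ D 1 ∧
      (Q : Matrix (Fin 4) (Fin 4) F) *ᵥ Pi.single 3 1 ∈ D 1 := by
  have htop : D 0 ⊔ D 1 = ⊤ := by
    have := hD.iSup_eq_top
    rw [eq_top_iff, ← this, iSup_le_iff]
    intro i
    fin_cases i
    · exact le_sup_left
    · exact le_sup_right
  let e := Module.finBasisOfFinrankEq F (D 0) (hD.finrank_eq 0)
  have he : ∀ x ∈ D 0, ∃ a b : F, x = a • (e 0 : Fin 4 → F) + b • (e 1 : Fin 4 → F) := by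
    intro x hx
    have h := e.sum_repr ⟨x, hx⟩
    rw [Fin.sum_univ_two] at h
    refine ⟨_, _, (congrArg Subtype.val h).symm⟩
  -- the pairing
  let Φ : D 1 →ₗ[F] (Fin 2 → F) :=
    { toFun := fun v => ![hermForm 4 F q (v : Fin 4 → F) (e 0), hermForm 4 F q (v : Fin 4 → F) (e 1)]
      map_add' := fun v w => by
        ext i; fin_cases i <;> simp [herm_add_left]
      map_smul' := fun c v => by
        ext i; fin_cases i <;> simp [herm_smul_left] }
  have hinj : Function.Injective Φ := by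
    rw [← LinearMap.ker_eq_bot, LinearMap.ker_eq_bot']
    intro v hv
    have h0 : hermForm 4 F q (v : Fin 4 → F) (e 0) = 0 := congrFun hv 0
    have h1 : hermForm 4 F q (v : Fin 4 → F) (e 1) = 0 := congrFun hv 1
    apply Subtype.ext
    apply herm_nondeg hF
    intro x
    have hx : x ∈ D 0 ⊔ D 1 := by rw [htop]; exact Submodule.mem_top
    obtain ⟨y, hy, z, hz, rfl⟩ := Submodule.mem_sup.1 hx
    obtain ⟨a, b, rfl⟩ := he y hy
    rw [herm_add_right hF, herm_add_right hF, herm_smul_right, herm_smul_right, h0, h1,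
      hs 1 _ v.2 _ hz]
    simp
  have hsurj : Function.Surjective Φ := by
    apply (LinearMap.injective_iff_surjective_of_finrank_eq_finrank _).1 hinj
    rw [hD.finrank_eq 1]
    simp
  obtain ⟨v3, hv3⟩ := hsurj ![1, 0]
  obtain ⟨v2, hv2⟩ := hsurj ![0, 1]
  have h30 : hermForm 4 F q (v3 : Fin 4 → F) (e 0) = 1 := congrFun hv3 0
  have h31 : hermForm 4 F q (v3 : Fin 4 → F) (e 1) = 0 := congrFun hv3 1
  have h20 : hermForm 4 F q (v2 : Fin 4 → F) (e 0) = 0 := congrFun hv2 0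
  have h21 : hermForm 4 F q (v2 : Fin 4 → F) (e 1) = 1 := congrFun hv2 1
  have h03 : hermForm 4 F q (e 0 : Fin 4 → F) v3 = 1 := by rw [herm_swap hF, h30, one_pow]
  have h13 : hermForm 4 F q (e 1 : Fin 4 → F) v3 = 0 := by rw [herm_swap hF, h31, zero_pow_q hF]
  have h02 : hermForm 4 F q (e 0 : Fin 4 → F) v2 = 0 := by rw [herm_swap hF, h20, zero_pow_q hF]
  have h12 : hermForm 4 F q (e 1 : Fin 4 → F) v2 = 1 := by rw [herm_swap hF, h21, one_pow]
  have s0 : ∀ i j, hermForm 4 F q (e i : Fin 4 → F) (e j) = 0 := fun i j => hs 0 _ (e i).2 _ (e j).2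
  have s1 : ∀ x y : D 1, hermForm 4 F q (x : Fin 4 → F) y = 0 := fun x y => hs 1 _ x.2 _ y.2
  let b : Fin 4 → (Fin 4 → F) := ![e 0, e 1, v2, v3]
  let M : Matrix (Fin 4) (Fin 4) F := Matrix.of fun i j => b j i
  have hM : ∀ x : Fin 4 → F, M *ᵥ x = x 0 • (e 0 : Fin 4 → F) + x 1 • (e 1 : Fin 4 → F) +
      x 2 • (v2 : Fin 4 → F) + x 3 • (v3 : Fin 4 → F) := by
    intro x
    ext i
    simp only [Matrix.mulVec, dotProduct, Fin.sum_univ_four, M, b, Matrix.of_apply,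
      Matrix.cons_val_zero, Matrix.cons_val_one, Matrix.cons_val, Pi.add_apply, Pi.smul_apply, smul_eq_mul]
    ring
  have hform : ∀ u v, hermForm 4 F q (M *ᵥ u) (M *ᵥ v) = antiForm q u v := by
    intro u v
    rw [hM, hM]
    simp only [herm_add_left, herm_add_right hF, herm_smul_left, herm_smul_right, s0, s1, h30, h31, h20, h21,
      h03, h13, h02, h12, antiForm]
    ring
  have hunit : IsUnit M := by
    rw [← Matrix.mulVec_injective_iff_isUnit]
    intro x y hxy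
    have h1 : M *ᵥ (x - y) = 0 := by
      rw [Matrix.mulVec_sub]
      exact sub_eq_zero.2 hxy
    have h2 : ∀ v, antiForm q (x - y) v = 0 := by
      intro v
      rw [← hform, h1, herm_zero_left]
    have hq0 : q ≠ 0 := (q_pos hF).ne'
    have a0 := h2 (Pi.single 3 1)
    have a1 := h2 (Pi.single 2 1)
    have a2 := h2 (Pi.single 1 1)
    have a3 := h2 (Pi.single 0 1)
    simp [antiForm, hq0] at a0 a1 a2 a3
    funext i
    fin_cases i
    · exact sub_eq_zero.1 a0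
    · exact sub_eq_zero.1 a1
    · exact sub_eq_zero.1 a2
    · exact sub_eq_zero.1 a3
  obtain ⟨Q, hQ⟩ := hunit
  refine ⟨Q, ?_, ?_, ?_, ?_, ?_⟩
  · intro u v
    rw [hQ, hform]
  · rw [hQ, hM]; simp
  · rw [hQ, hM]; simp
  · rw [hQ, hM]; simp
  · rw [hQ, hM]; simp

/-- The matrix whose columns span the fixed points of `tau` over the fixed field. -/
def fixMat (q : ℕ) (η : F) : Matrix (Fin 4) (Fin 4) F :=
  !![1, η, 0, 0; 0, 0, 1, η; -1, -η ^ q, 0, 0; 0, 0, 1, η ^ q]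

theorem fixMat_mulVec (q : ℕ) (η : F) (u : Fin 4 → F) : fixMat q η *ᵥ u =
    ![u 0 + η * u 1, u 2 + η * u 3, -(u 0 + η ^ q * u 1), u 2 + η ^ q * u 3] := by
  ext i
  (fin_cases i <;> simp [fixMat, Matrix.mulVec, dotProduct, Fin.sum_univ_four]); ring

theorem fixMat_det {q : ℕ} {η : F} (hη : η ^ q ≠ η) : (fixMat q η).det ≠ 0 := by
  have h : (fixMat q η).det = (η ^ q - η) ^ 2 := by
    rw [det_four]
    simp [fixMat]
    ring
  rw [h]
  exact pow_ne_zero 2 (sub_ne_zero.2 hη)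

theorem tau_fixMat [Fintype F] {q : ℕ} (hF : Fintype.card F = q ^ 2) {η : F} {u : Fin 4 → F}
    (hu : ∀ i, u i ^ q = u i) : tau q (fixMat q η *ᵥ u) = fixMat q η *ᵥ u := by
  rw [fixMat_mulVec]
  ext i
  fin_cases i
  · simp [tau, neg_pow_q hF, LieClassical.HermBasic.add_pow_q hF, mul_pow, hu, pow_q_pow_q hF]
  · simp [tau, neg_pow_q hF, LieClassical.HermBasic.add_pow_q hF, mul_pow, hu, pow_q_pow_q hF]
  · simp [tau, neg_pow_q hF, LieClassical.HermBasic.add_pow_q hF, mul_pow, hu, pow_q_pow_q hF]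
  · simp [tau, neg_pow_q hF, LieClassical.HermBasic.add_pow_q hF, mul_pow, hu, pow_q_pow_q hF]

theorem exists_of_tau [Fintype F] {q : ℕ} (hF : Fintype.card F = q ^ 2) {η : F} (hη : η ^ q ≠ η)
    {v : Fin 4 → F} (hv : tau q v = v) : ∃ w : Fin 4 → F, (∀ i, w i ∈ fixQ hF) ∧ v = fixMat q η *ᵥ w := by
  have hc : Fintype.card F = Nat.card (fixQ hF) ^ 2 := by rw [card_fixQ, hF]
  obtain ⟨a, b, hab⟩ := SpInSU.exists_decomp hF hc hη (v 0)
  obtain ⟨c, d, hcd⟩ := SpInSU.exists_decomp hF hc hη (v 1)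
  have ha : (a : F) ^ q = a := a.2
  have hb : (b : F) ^ q = b := b.2
  have hc' : (c : F) ^ q = c := c.2
  have hd : (d : F) ^ q = d := d.2
  have h2 : v 2 = -(v 0) ^ q := (congrFun hv 2).symm
  have h3 : v 3 = (v 1) ^ q := (congrFun hv 3).symm
  refine ⟨![a, b, c, d], ?_, ?_⟩
  · intro i
    fin_cases i
    · exact a.2
    · exact b.2
    · exact c.2
    · exact d.2
  · rw [fixMat_mulVec]
    ext i
    fin_cases i
    · simpa using hab
    · simpa using hcd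
    · have : v 2 = -((a : F) + η ^ q * b) := by
        rw [h2, hab, LieClassical.HermBasic.add_pow_q hF, mul_pow, ha, hb]
      simpa using this
    · have : v 3 = (c : F) + η ^ q * d := by
        rw [h3, hcd, LieClassical.HermBasic.add_pow_q hF, mul_pow, hc', hd]
      simpa using this

/-- The antidiagonal form is nondegenerate. -/
theorem antiForm_nondeg [Fintype F] {q : ℕ} (hF : Fintype.card F = q ^ 2) {x y : Fin 4 → F}
    (h : ∀ u, antiForm q u x = antiForm q u y) : x = y := by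
  have a0 := h (Pi.single 3 1)
  have a1 := h (Pi.single 2 1)
  have a2 := h (Pi.single 1 1)
  have a3 := h (Pi.single 0 1)
  simp [antiForm] at a0 a1 a2 a3
  funext i
  fin_cases i
  · exact (pow_q_inj hF).1 a0
  · exact (pow_q_inj hF).1 a1
  · exact (pow_q_inj hF).1 a2
  · exact (pow_q_inj hF).1 a3

theorem rev_block : ∀ (i : Fin 2) (k : Fin 4), ((finProdFinEquiv (m := 2) (n := 2)).symm k).1 ≠ i →
    ((finProdFinEquiv (m := 2) (n := 2)).symm (Fin.rev k)).1 = i := by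
  decide

/-- `q ≤ 3`: the stabiliser in `SU_4(q)` of a complementary pair of totally isotropic planes lies in a subfield
group of symplectic type. -/
theorem su_planes_small [Fintype F] {q : ℕ} (hF : Fintype.card F = q ^ 2) (hq : q ≤ 3)
    {D : Fin 2 → Submodule F (Fin 4 → F)} (hD : IsMDecomposition 2 D)
    (hs : ∀ i, IsTotallySingularFor (hermForm 4 F q) (D i)) :
    ∃ (F₀ : Subfield F) (P : GL (Fin 4) F) (ζ : F), Fintype.card F = Nat.card F₀ ^ 2 ∧ ζ ≠ 0 ∧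
      ζ + ζ ^ q = 0 ∧ IsFormRationalStructure (hermForm 4 F q) F₀ ζ P ∧
      (∀ u : Fin 4 → F, (∀ i, u i ∈ F₀) → (hermForm 4 F q) ((P : Matrix (Fin 4) (Fin 4) F) *ᵥ u)
        ((P : Matrix (Fin 4) (Fin 4) F) *ᵥ u) = 0) ∧
      decompositionStabilizer D ⊓ SUg 4 F q ≤ subfieldSubgroup F₀ P := by
  obtain ⟨Q, hQf, hQ0, hQ1, hQ2, hQ3⟩ := exists_anti_frame hF hD hs
  obtain ⟨η, hη⟩ := exists_not_fixed hF
  obtain ⟨ζ, hζ0, hζ⟩ := exists_trace_zero_ne hF
  let P0 : GL (Fin 4) F := Matrix.GeneralLinearGroup.mkOfDetNeZero (fixMat q η) (fixMat_det hη)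
  have hP0 : (P0 : Matrix (Fin 4) (Fin 4) F) = fixMat q η := rfl
  have hform : ∀ u v : Fin 4 → F, (∀ i, v i ∈ fixQ hF) →
      hermForm 4 F q (((Q * P0 : GL (Fin 4) F) : Matrix (Fin 4) (Fin 4) F) *ᵥ u)
        (((Q * P0 : GL (Fin 4) F) : Matrix (Fin 4) (Fin 4) F) *ᵥ v) =
      detForm (fixMat q η *ᵥ u) (fixMat q η *ᵥ v) := by
    intro u v hv
    rw [Units.val_mul, ← Matrix.mulVec_mulVec, ← Matrix.mulVec_mulVec, hQf, hP0, ← antiForm_tau hF,
      tau_fixMat hF hv]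
  have hnorm : ∀ k : Fin 4, ∀ x : Fin 4 → F, hermForm 4 F q ((Q : Matrix (Fin 4) (Fin 4) F) *ᵥ x)
      ((Q : Matrix (Fin 4) (Fin 4) F) *ᵥ Pi.single k 1) = x (Fin.rev k) := by
    intro k x
    rw [hQf]
    have hq0 : q ≠ 0 := (q_pos hF).ne'
    fin_cases k <;> simp [antiForm, hq0]
  refine ⟨fixQ hF, Q * P0, ζ, by rw [card_fixQ, hF], hζ0, hζ, ?_, ?_, ?_⟩
  · intro u v hu hv
    rw [hform u v hv, mem_fixQ, fixMat_mulVec, fixMat_mulVec]
    have e : ∀ a b c d a' b' c' d' : F, detForm ![a, b, c, d] ![a', b', c', d'] =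
        a * b' - b * a' + (c * d' - d * c') := fun _ _ _ _ _ _ _ _ => rfl
    rw [e]
    have hu' : ∀ i, u i ^ q = u i := hu
    have hv' : ∀ i, v i ^ q = v i := hv
    have hζ' : ζ ^ q = - ζ := by linear_combination hζ
    rw [mul_pow, hζ', LieClassical.HermBasic.add_pow_q hF, LieClassical.HermBasic.sub_pow_q hF, LieClassical.HermBasic.sub_pow_q hF, mul_pow, mul_pow, mul_pow, mul_pow, neg_pow_q hF, neg_pow_q hF,
      LieClassical.HermBasic.add_pow_q hF, LieClassical.HermBasic.add_pow_q hF, LieClassical.HermBasic.add_pow_q hF, LieClassical.HermBasic.add_pow_q hF,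
      LieClassical.HermBasic.add_pow_q hF, LieClassical.HermBasic.add_pow_q hF, LieClassical.HermBasic.add_pow_q hF, LieClassical.HermBasic.add_pow_q hF]
    simp only [mul_pow, hu', hv', pow_q_pow_q hF]
    ring
  · intro u hu
    rw [hform u u hu]
    unfold detForm
    ring
  · rintro g ⟨⟨σ, hσ⟩, hgU, hgs⟩
    -- the matrix in the frame
    have hgQ : ∀ x : Fin 4 → F, (Q : Matrix (Fin 4) (Fin 4) F) *ᵥ
        (((Q⁻¹ * g * Q : GL (Fin 4) F) : Matrix (Fin 4) (Fin 4) F) *ᵥ x) =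
        (g : Matrix (Fin 4) (Fin 4) F) *ᵥ ((Q : Matrix (Fin 4) (Fin 4) F) *ᵥ x) := by
      intro x
      rw [Matrix.mulVec_mulVec, Matrix.mulVec_mulVec, ← Units.val_mul, ← Units.val_mul]
      congr 2
      simp [mul_assoc]
    have hAiso : ∀ u v, antiForm q (((Q⁻¹ * g * Q : GL (Fin 4) F) : Matrix (Fin 4) (Fin 4) F) *ᵥ u)
        (((Q⁻¹ * g * Q : GL (Fin 4) F) : Matrix (Fin 4) (Fin 4) F) *ᵥ v) = antiForm q u v := by
      intro u v
      rw [← hQf, hgQ, hgQ]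
      rw [show hermForm 4 F q ((g : Matrix (Fin 4) (Fin 4) F) *ᵥ ((Q : Matrix (Fin 4) (Fin 4) F) *ᵥ u))
        ((g : Matrix (Fin 4) (Fin 4) F) *ᵥ ((Q : Matrix (Fin 4) (Fin 4) F) *ᵥ v)) =
        hermForm 4 F q ((Q : Matrix (Fin 4) (Fin 4) F) *ᵥ u) ((Q : Matrix (Fin 4) (Fin 4) F) *ᵥ v) from
        hgU _ _, hQf]
    have hdet : ((Q⁻¹ * g * Q : GL (Fin 4) F) : Matrix (Fin 4) (Fin 4) F).det = 1 := by
      rw [Units.val_mul, Units.val_mul, Matrix.det_mul, Matrix.det_mul, (H908.mem_sl_iff g).1 hgs, mul_one,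
        ← Matrix.det_mul, ← Units.val_mul, inv_mul_cancel, Units.val_one, Matrix.det_one]
    have hblk : ∀ l : Fin 4, (Q : Matrix (Fin 4) (Fin 4) F) *ᵥ Pi.single l 1 ∈
        D ((finProdFinEquiv (m := 2) (n := 2)).symm l).1 := by
      intro l
      fin_cases l
      · exact hQ0
      · exact hQ1
      · exact hQ2
      · exact hQ3
    have hzero : ∀ (i : Fin 2) (w : Fin 4 → F), (Q : Matrix (Fin 4) (Fin 4) F) *ᵥ w ∈ D i →
        ∀ k : Fin 4, ((finProdFinEquiv (m := 2) (n := 2)).symm k).1 ≠ i → w k = 0 := by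
      intro i w hw k hk
      have h1 : ((finProdFinEquiv (m := 2) (n := 2)).symm (Fin.rev k)).1 = i := rev_block i k hk
      have h2 := hnorm (Fin.rev k) w
      rw [Fin.rev_rev] at h2
      rw [← h2]
      apply hs i _ hw
      rw [← h1]
      exact hblk _
    have hA : ∀ k l : Fin 4, ((finProdFinEquiv (m := 2) (n := 2)).symm k).1 ≠
        σ ((finProdFinEquiv (m := 2) (n := 2)).symm l).1 →
        ((Q⁻¹ * g * Q : GL (Fin 4) F) : Matrix (Fin 4) (Fin 4) F) k l = 0 := by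
      intro k l hkl
      have h1 : (Q : Matrix (Fin 4) (Fin 4) F) *ᵥ
        (((Q⁻¹ * g * Q : GL (Fin 4) F) : Matrix (Fin 4) (Fin 4) F) *ᵥ Pi.single l 1) ∈
          D (σ ((finProdFinEquiv (m := 2) (n := 2)).symm l).1) := by
        rw [hgQ, ← hσ]
        exact ⟨_, hblk l, rfl⟩
      have h2 := hzero _ _ h1 k hkl
      rwa [Matrix.mulVec_single_one] at h2
    obtain ⟨c, hc, hcf⟩ := detForm_anti hF hq hdet hAiso σ hA
    set A := Q⁻¹ * g * Q with hAdef
    have hcq : c ^ q = c := by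
      rcases hc with h | h
      · rw [h, one_pow]
      · rw [h, neg_pow_q hF, one_pow]
    -- `τ A v = c A v` for fixed `v`
    have htau : ∀ v : Fin 4 → F, tau q v = v → tau q ((A : Matrix (Fin 4) (Fin 4) F) *ᵥ v) =
        c • ((A : Matrix (Fin 4) (Fin 4) F) *ᵥ v) := by
      intro v hv
      apply antiForm_nondeg hF
      intro x
      obtain ⟨y, rfl⟩ : ∃ y, x = (A : Matrix (Fin 4) (Fin 4) F) *ᵥ y :=
        ⟨((A⁻¹ : GL (Fin 4) F) : Matrix (Fin 4) (Fin 4) F) *ᵥ x, by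
          rw [Matrix.mulVec_mulVec, ← Units.val_mul, mul_inv_cancel, Units.val_one, Matrix.one_mulVec]⟩
      rw [antiForm_tau hF, hcf, ← antiForm_tau hF, hv, ← hAiso y v]
      simp only [antiForm, Pi.smul_apply, smul_eq_mul, mul_pow, hcq]
      ring
    apply mem_subfieldSubgroup_of_lines (by simp)
    intro u
    have hfix := tau_fixMat hF (η := η) (u := cv (fixQ hF) u) (fun i => (u i).2)
    have hsm : ∃ l : F, tau q (l • ((A : Matrix (Fin 4) (Fin 4) F) *ᵥ (fixMat q η *ᵥ cv (fixQ hF) u))) =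
        l • ((A : Matrix (Fin 4) (Fin 4) F) *ᵥ (fixMat q η *ᵥ cv (fixQ hF) u)) ∧ l ≠ 0 := by
      have hsmul : ∀ (l : F) (w : Fin 4 → F), tau q (l • w) = l ^ q • tau q w := by
        intro l w
        ext i
        fin_cases i <;> simp [tau, mul_pow]
      rcases hc with h | h
      · refine ⟨1, ?_, one_ne_zero⟩
        rw [one_smul, htau _ hfix, h, one_smul]
      · refine ⟨ζ, ?_, hζ0⟩
        rw [hsmul, htau _ hfix, h, smul_smul]
        congr 1
        linear_combination -hζ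
    obtain ⟨l, hl, hl0⟩ := hsm
    obtain ⟨w, hw, hw'⟩ := exists_of_tau hF hη hl
    refine ⟨l⁻¹, fun i => ⟨w i, hw i⟩, ?_⟩
    have e : cv (fixQ hF) (fun i => ⟨w i, hw i⟩) = w := rfl
    rw [rv, rv, e, Units.val_mul, ← Matrix.mulVec_mulVec, ← Matrix.mulVec_mulVec, hP0, ← hw',
      Matrix.mulVec_smul, smul_smul, inv_mul_cancel₀ hl0, one_smul, hgQ]

end Cfsg.Agent.H908
end

-- part: H908/SUFourCases
section
/-!
# Maximal subgroups of `SU_4(q)`: the reduction to the general theorem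

From "a maximal subgroup of `SU_4(q)` is in a member of `InUnitaryClass` or in the residual class" to the list of
statement S5784.
-/

set_option autoImplicit false

namespace Cfsg.Agent.H908

open Cfsg Cfsg.Agent.H918
open scoped Matrix MatrixGroups

theorem four_eq_pow {k t : ℕ} (ht : 2 ≤ t) (hk : 3 ≤ k) : k ^ t ≠ 4 := by
  intro h
  have h1 : 3 ^ t ≤ k ^ t := Nat.pow_le_pow_left hk t
  have h2 : 3 ^ 2 ≤ 3 ^ t := Nat.pow_le_pow_right (by norm_num) ht
  omega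

theorem su4_cases {F : Type*} [Field F] [Fintype F] (q : ℕ) (hF : Fintype.card F = q ^ 2) (H : Subgroup (Matrix.GeneralLinearGroup (Fin 4) F)) (hH : Cfsg.Geo.IsMaximalIn (Cfsg.GU 4 F q ⊓ Cfsg.Geo.specialLinear (Fin 4) F) H)
    (h : (∃ M : Subgroup (Matrix.GeneralLinearGroup (Fin 4) F), Geo.InUnitaryClass 4 F q M ∧ H ≤ M) ∨
      Geo.InUnitaryResidualClass H) :
    (∃ W : Submodule F (Fin 4 → F), W ≠ ⊥ ∧ Cfsg.Geo.IsTotallySingularFor (Cfsg.hermForm 4 F q) W ∧ H = Cfsg.Geo.subspaceStabilizer W ⊓ (Cfsg.GU 4 F q ⊓ Cfsg.Geo.specialLinear (Fin 4) F)) ∨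
    (∃ W : Submodule F (Fin 4 → F), W ≠ ⊥ ∧ Cfsg.Geo.IsNondegenerateOn (Cfsg.hermForm 4 F q) W ∧ 2 * Module.finrank F W < 4 ∧ H = Cfsg.Geo.subspaceStabilizer W ⊓ (Cfsg.GU 4 F q ⊓ Cfsg.Geo.specialLinear (Fin 4) F)) ∨
    (q ≠ 3 ∧ ∃ D : Fin 4 → Submodule F (Fin 4 → F), Cfsg.Geo.IsNondegenerateMDecomposition (Cfsg.hermForm 4 F q) 1 D ∧ H = Cfsg.Geo.decompositionStabilizer D ⊓ (Cfsg.GU 4 F q ⊓ Cfsg.Geo.specialLinear (Fin 4) F)) ∨
    (3 ≤ q ∧ ∃ D : Fin 2 → Submodule F (Fin 4 → F), Cfsg.Geo.IsNondegenerateMDecomposition (Cfsg.hermForm 4 F q) 2 D ∧ H = Cfsg.Geo.decompositionStabilizer D ⊓ (Cfsg.GU 4 F q ⊓ Cfsg.Geo.specialLinear (Fin 4) F)) ∨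
    (4 ≤ q ∧ ∃ D : Fin 2 → Submodule F (Fin 4 → F), Cfsg.Geo.IsMDecomposition 2 D ∧ (∀ i, Cfsg.Geo.IsTotallySingularFor (Cfsg.hermForm 4 F q) (D i)) ∧ H = Cfsg.Geo.decompositionStabilizer D ⊓ (Cfsg.GU 4 F q ⊓ Cfsg.Geo.specialLinear (Fin 4) F)) ∨
    (∃ (F₀ : Subfield F) (r : ℕ) (P : Matrix.GeneralLinearGroup (Fin 4) F), r.Prime ∧ Odd r ∧ Fintype.card F = Nat.card F₀ ^ r ∧ Cfsg.Geo.IsFormRationalStructure (Cfsg.hermForm 4 F q) F₀ 1 P ∧ H = Cfsg.Geo.subfieldSubgroup F₀ P ⊓ (Cfsg.GU 4 F q ⊓ Cfsg.Geo.specialLinear (Fin 4) F)) ∨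
    (∃ (F₀ : Subfield F) (P : Matrix.GeneralLinearGroup (Fin 4) F) (ζ : F), Fintype.card F = Nat.card F₀ ^ 2 ∧ ζ ≠ 0 ∧ ζ + ζ ^ q = 0 ∧ Cfsg.Geo.IsFormRationalStructure (Cfsg.hermForm 4 F q) F₀ ζ P ∧ (∀ u : Fin 4 → F, (∀ i, u i ∈ F₀) → (Cfsg.hermForm 4 F q) (Matrix.mulVec (P : Matrix (Fin 4) (Fin 4) F) u) (Matrix.mulVec (P : Matrix (Fin 4) (Fin 4) F) u) = 0) ∧ H = Cfsg.Geo.subfieldSubgroup F₀ P ⊓ (Cfsg.GU 4 F q ⊓ Cfsg.Geo.specialLinear (Fin 4) F)) ∨
    (Odd q ∧ ∃ (F₀ : Subfield F) (P : Matrix.GeneralLinearGroup (Fin 4) F), Fintype.card F = Nat.card F₀ ^ 2 ∧ Cfsg.Geo.IsFormRationalStructure (Cfsg.hermForm 4 F q) F₀ 1 P ∧ H = Cfsg.Geo.subfieldSubgroup F₀ P ⊓ (Cfsg.GU 4 F q ⊓ Cfsg.Geo.specialLinear (Fin 4) F)) ∨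
    (∃ (p : ℕ) (R : Subgroup (Matrix.GeneralLinearGroup (Fin 4) F)), p.Prime ∧ q = p ∧ p % 4 = 3 ∧ Cfsg.Geo.IsSymplecticTypeGroup 2 R ∧ Cfsg.Geo.ActsAbsolutelyIrreducibly (Cfsg.Geo.matrixSet R) ∧ R ≤ Cfsg.Geo.similarityGroup (Cfsg.hermForm 4 F q) ∧ Nat.card R = 64 ∧ Nat.card (Subgroup.center R) = 4 ∧ H = Cfsg.Geo.subgroupNormalizer R ⊓ (Cfsg.GU 4 F q ⊓ Cfsg.Geo.specialLinear (Fin 4) F)) ∨
    Cfsg.Geo.InUnitaryResidualClass H := by
  have h32 : ¬ (4 = 3 ∧ q = 2) := by omega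
  have hq2 : 2 ≤ q := Cfsg.Agent.LieClassical.HermBasic.two_le hF
  have hHG : ∀ g ∈ H, ∀ u v, hermForm 4 F q ((g : Matrix (Fin 4) (Fin 4) F) *ᵥ u)
      ((g : Matrix (Fin 4) (Fin 4) F) *ᵥ v) = hermForm 4 F q u v := fun g hg => (hH.1.le hg).1
  rcases unitary_maximal_cases hF (by norm_num) h32 hH
    (fun k t e P hk ht hkt => absurd hkt (four_eq_pow ht hk)) h with
    h | h | ⟨t, k, D, htk, ht, hD, h⟩ | ⟨k, D, hk, hD, hs, h⟩ | h | ⟨F₀, P, hq', h⟩ |
    ⟨F₀, P, ζ, -, h⟩ | ⟨r, R, p, e, k, hR, -, -, -, -, hro, -, hk1, -, hn, -⟩ |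
    ⟨R, p, k, hp, hqp, hp4, hR, habs, hRs, hz, hcR, hn, h⟩ | ⟨r, K, hr, hro, hrn, hK, hKa, h⟩ |
    ⟨n₁, n₂, e, P, f₁, f₂, hn, h2, hlt, hf₁, hf₂, hf, h⟩ |
    ⟨k, t, e, P, f₁, hkt, hk, ht, -⟩ | h
  · exact Or.inl h
  · exact Or.inr (Or.inl h)
  · -- nondegenerate decompositions
    have hcases : (t = 2 ∧ k = 2) ∨ (t = 4 ∧ k = 1) := by
      have ht4 : t ∣ 4 := ⟨k, htk.symm⟩
      have hts : t ≤ 4 := Nat.le_of_dvd (by norm_num) ht4
      interval_cases t <;> omega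
    have hmain : (∃ D : Fin 4 → Submodule F (Fin 4 → F),
        Geo.IsNondegenerateMDecomposition (hermForm 4 F q) 1 D ∧
        H = Geo.decompositionStabilizer D ⊓ SUg 4 F q) ∨
        (3 ≤ q ∧ ∃ D : Fin 2 → Submodule F (Fin 4 → F),
        Geo.IsNondegenerateMDecomposition (hermForm 4 F q) 2 D ∧
        H = Geo.decompositionStabilizer D ⊓ SUg 4 F q) := by
      rcases hcases with ⟨rfl, rfl⟩ | ⟨rfl, rfl⟩
      · by_cases hq3 : 3 ≤ q
        · exact Or.inr ⟨hq3, D, hD, h⟩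
        · obtain rfl : q = 2 := by omega
          obtain ⟨E, hE, hE'⟩ := Cfsg.Agent.H930.exists_refinement hF
            (Cfsg.Agent.H930.hermForm_isUnitaryFormPow hF 4) hD
          refine Or.inl ⟨E, hE, eq_inf_of_maximal hH (fun g hg => hE' g (hHG g hg) ?_)
            (SUg_not_le_decompositionStabilizer hF (by norm_num) h32 hE.decomp)⟩
          rw [h] at hg
          exact hg.1
      · exact Or.inl ⟨D, hD, h⟩
    rcases hmain with ⟨D, hD, h⟩ | hmain
    · by_cases hq3 : q = 3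
      · subst hq3
        obtain ⟨R, hR, habs, hRs, hcR, hz, hle⟩ := su_frame_three hF hD
        iterate 8 right
        left
        have hsolv : Group.IsSolvable R := by
          have : Fact (Nat.Prime 2) := ⟨Nat.prime_two⟩
          have := hR.pGroup.isNilpotent
          infer_instance
        have hns : ¬ R ≤ Geo.scalars (Fin 4) F :=
          not_le_scalars_of_irreducible (by simp) habs.1
        exact ⟨3, R, by norm_num, rfl, by norm_num, hR, habs, hRs, hcR, hz,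
          eq_inf_of_maximal hH (h.le.trans hle) (SUg_not_le_subgroupNormalizer hF (by norm_num) h32 hRs hsolv hns)⟩
      · iterate 2 right
        exact Or.inl ⟨hq3, D, hD, h⟩
    · iterate 3 right
      exact Or.inl hmain
  · obtain rfl : k = 2 := by omega
    by_cases hq4 : 4 ≤ q
    · iterate 4 right
      exact Or.inl ⟨hq4, D, hD, hs, h⟩
    · obtain ⟨F₀, P, ζ, hc, hζ0, hζ, hf, hf', hle⟩ := su_planes_small hF (by omega) hD hs
      iterate 6 right
      left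
      exact ⟨F₀, P, ζ, hc, hζ0, hζ, hf, hf', eq_inf_of_maximal hH (h.le.trans hle)
        (SUg_not_le_subfieldSubgroup hF (by norm_num) h32 (subfield_ne_top_of_card hF le_rfl hc) P)⟩
  · iterate 5 right
    exact Or.inl h
  · iterate 7 right
    exact Or.inl ⟨hq', F₀, P, h⟩
  · iterate 6 right
    exact Or.inl ⟨F₀, P, ζ, h⟩
  · exfalso
    have h1 : r ∣ 4 := by
      have : r ∣ r ^ k := dvd_pow_self r (by omega)
      rwa [← hn] at this
    have h2 := (Nat.prime_dvd_prime_iff_eq hR.prime Nat.prime_two).1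
      (hR.prime.dvd_of_dvd_pow (show r ∣ 2 ^ 2 by norm_num; exact h1))
    subst h2
    revert hro
    decide
  · iterate 8 right
    left
    have hk2 : k = 2 := by
      have : 2 ^ 2 = 2 ^ k := by rw [← hn]; norm_num
      exact (Nat.pow_right_injective le_rfl this).symm
    subst hk2
    exact ⟨p, R, hp, hqp, hp4, hR, habs, hRs, by rw [hcR]; norm_num, hz, h⟩
  · exfalso
    have h2 := (Nat.prime_dvd_prime_iff_eq hr Nat.prime_two).1
      (hr.dvd_of_dvd_pow (show r ∣ 2 ^ 2 by norm_num; exact hrn))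
    subst h2
    revert hro
    decide
  · exfalso
    have h1 : n₁ < 2 ∨ 2 < n₁ ∨ n₁ = 2 := by omega
    rcases h1 with h1 | h1 | h1
    · omega
    · have : 3 * 4 ≤ n₁ * n₂ := Nat.mul_le_mul (by omega) (by omega)
      omega
    · subst h1
      omega
  · exact absurd hkt (four_eq_pow ht hk)
  · iterate 9 right
    exact h

end Cfsg.Agent.H908
end

-- part: S5784
section
set_option autoImplicit false
open Cfsg

namespace Cfsg.Agent.S5784

/-- Every maximal subgroup of SU_4(q) is of one of the listed geometric types or lies in the residual class. Let F be the field with q² elements, f the standard unitary form Σ u_i v_i^q on F^4, and H a maximal subgroup of SU_4(q) (inside GL_4(F)). Then H is the intersection with SU_4(q) of one of: the stabiliser of a non-zero subspace on which f vanishes; the stabiliser of a non-degenerate 1-space; for q ≠ 3, the stabiliser of a decomposition into four mutually orthogonal non-degenerate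 1-spaces; for q ≥ 3, of a decomposition into two orthogonal non-degenerate 2-spaces; for q ≥ 4, of a decomposition into two totally isotropic 2-spaces; a subfield group of odd prime index whose F₀-structure carries f; a subfield group of index 2 whose F₀-structure carries ζ f, vanishing on pairs (u, u), for some non-zero ζ with ζ + ζ^q = 0; for q odd, a subfield group of index 2 whose F₀-structure carries f; for q = p ≡ 3 mod 4 prime, the normaliser of an absolutely irreducible symplectic-type 2-group of exponent 4, order 64 and centre of order 4 inside the similarity group of f — or else H lies in the residual class of the unitary case. -/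
theorem result {F : Type*} [Field F] [Fintype F] (q : ℕ) (hF : Fintype.card F = q ^ 2) (H : Subgroup (Matrix.GeneralLinearGroup (Fin 4) F)) (hH : Cfsg.Geo.IsMaximalIn (Cfsg.GU 4 F q ⊓ Cfsg.Geo.specialLinear (Fin 4) F) H) :
    (∃ W : Submodule F (Fin 4 → F), W ≠ ⊥ ∧ Cfsg.Geo.IsTotallySingularFor (Cfsg.hermForm 4 F q) W ∧ H = Cfsg.Geo.subspaceStabilizer W ⊓ (Cfsg.GU 4 F q ⊓ Cfsg.Geo.specialLinear (Fin 4) F)) ∨
    (∃ W : Submodule F (Fin 4 → F), W ≠ ⊥ ∧ Cfsg.Geo.IsNondegenerateOn (Cfsg.hermForm 4 F q) W ∧ 2 * Module.finrank F W < 4 ∧ H = Cfsg.Geo.subspaceStabilizer W ⊓ (Cfsg.GU 4 F q ⊓ Cfsg.Geo.specialLinear (Fin 4) F)) ∨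
    (q ≠ 3 ∧ ∃ D : Fin 4 → Submodule F (Fin 4 → F), Cfsg.Geo.IsNondegenerateMDecomposition (Cfsg.hermForm 4 F q) 1 D ∧ H = Cfsg.Geo.decompositionStabilizer D ⊓ (Cfsg.GU 4 F q ⊓ Cfsg.Geo.specialLinear (Fin 4) F)) ∨
    (3 ≤ q ∧ ∃ D : Fin 2 → Submodule F (Fin 4 → F), Cfsg.Geo.IsNondegenerateMDecomposition (Cfsg.hermForm 4 F q) 2 D ∧ H = Cfsg.Geo.decompositionStabilizer D ⊓ (Cfsg.GU 4 F q ⊓ Cfsg.Geo.specialLinear (Fin 4) F)) ∨
    (4 ≤ q ∧ ∃ D : Fin 2 → Submodule F (Fin 4 → F), Cfsg.Geo.IsMDecomposition 2 D ∧ (∀ i, Cfsg.Geo.IsTotallySingularFor (Cfsg.hermForm 4 F q) (D i)) ∧ H = Cfsg.Geo.decompositionStabilizer D ⊓ (Cfsg.GU 4 F q ⊓ Cfsg.Geo.specialLinear (Fin 4) F)) ∨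
    (∃ (F₀ : Subfield F) (r : ℕ) (P : Matrix.GeneralLinearGroup (Fin 4) F), r.Prime ∧ Odd r ∧ Fintype.card F = Nat.card F₀ ^ r ∧ Cfsg.Geo.IsFormRationalStructure (Cfsg.hermForm 4 F q) F₀ 1 P ∧ H = Cfsg.Geo.subfieldSubgroup F₀ P ⊓ (Cfsg.GU 4 F q ⊓ Cfsg.Geo.specialLinear (Fin 4) F)) ∨
    (∃ (F₀ : Subfield F) (P : Matrix.GeneralLinearGroup (Fin 4) F) (ζ : F), Fintype.card F = Nat.card F₀ ^ 2 ∧ ζ ≠ 0 ∧ ζ + ζ ^ q = 0 ∧ Cfsg.Geo.IsFormRationalStructure (Cfsg.hermForm 4 F q) F₀ ζ P ∧ (∀ u : Fin 4 → F, (∀ i, u i ∈ F₀) → (Cfsg.hermForm 4 F q) (Matrix.mulVec (P : Matrix (Fin 4) (Fin 4) F) u) (Matrix.mulVec (P : Matrix (Fin 4) (Fin 4) F) u) = 0) ∧ H = Cfsg.Geo.subfieldSubgroup F₀ P ⊓ (Cfsg.GU 4 F q ⊓ Cfsg.Geo.specialLinear (Fin 4) F)) ∨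
    (Odd q ∧ ∃ (F₀ : Subfield F) (P : Matrix.GeneralLinearGroup (Fin 4) F), Fintype.card F = Nat.card F₀ ^ 2 ∧ Cfsg.Geo.IsFormRationalStructure (Cfsg.hermForm 4 F q) F₀ 1 P ∧ H = Cfsg.Geo.subfieldSubgroup F₀ P ⊓ (Cfsg.GU 4 F q ⊓ Cfsg.Geo.specialLinear (Fin 4) F)) ∨
    (∃ (p : ℕ) (R : Subgroup (Matrix.GeneralLinearGroup (Fin 4) F)), p.Prime ∧ q = p ∧ p % 4 = 3 ∧ Cfsg.Geo.IsSymplecticTypeGroup 2 R ∧ Cfsg.Geo.ActsAbsolutelyIrreducibly (Cfsg.Geo.matrixSet R) ∧ R ≤ Cfsg.Geo.similarityGroup (Cfsg.hermForm 4 F q) ∧ Nat.card R = 64 ∧ Nat.card (Subgroup.center R) = 4 ∧ H = Cfsg.Geo.subgroupNormalizer R ⊓ (Cfsg.GU 4 F q ⊓ Cfsg.Geo.specialLinear (Fin 4) F)) ∨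
    Cfsg.Geo.InUnitaryResidualClass H := by
  have h32 : ¬ (4 = 3 ∧ q = 2) := by omega
  exact Cfsg.Agent.H908.su4_cases q hF H hH (Cfsg.Agent.S5663.result 4 q hF (by norm_num) h32 H hH.1.le
    (Cfsg.Agent.H918.sup_scalars_ne hF (by norm_num) h32 hH))

end Cfsg.Agent.S5784
end
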