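import Mathlib
import Cfsg.Agent.H918.UWrap
import Cfsg.Statements.S5811
import Cfsg.Agent.S5663
set_option linter.all false

-- part: H916/SUSeven
section
/-!
# The maximal subgroups of `SU_7(q)` from membership in a geometric class or the residual class
-/

set_option autoImplicit false

namespace Cfsg.Agent.H916

open Cfsg Cfsg.Agent.LieClassical.HermBasic Cfsg.Agent.H918
open scoped Matrix MatrixGroups

/-- `7 ∣ p ^ d - 1` in terms of the residue of `p`. -/
theorem seven_dvd_iff {p d : ℕ} (hp : 1 ≤ p) : 7 ∣ p ^ d - 1 ↔ (p % 7) ^ d % 7 = 1 := by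
  have h1 : 1 ≤ p ^ d := Nat.one_le_pow _ _ hp
  rw [← Nat.modEq_iff_dvd' h1, Nat.ModEq, Nat.pow_mod p d 7]
  constructor
  · intro h; rw [← h]
  · intro h; rw [h]

/-- The minimal fields for `7` with a square number of elements. -/
theorem seven_arith {p e q : ℕ} (hp : p.Prime) (hc : q ^ 2 = p ^ e) (h7 : 7 ∣ p ^ e - 1)
    (he : 0 < e) (hd : ∀ d : ℕ, 0 < d → d < e → ¬ 7 ∣ p ^ d - 1) :
    (q = p ∧ p % 7 = 6) ∨ (q = p ^ 3 ∧ (p % 7 = 3 ∨ p % 7 = 5)) := by
  have hp1 : 1 ≤ p := hp.one_lt.le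
  -- `q` is a power of `p`
  obtain ⟨j, -, hj⟩ : ∃ j ≤ e, q = p ^ j := by
    have : q ∣ p ^ e := by rw [← hc]; exact dvd_pow_self q two_ne_zero
    exact (Nat.dvd_prime_pow hp).1 this
  have hej : e = 2 * j := by
    rw [hj, ← pow_mul] at hc
    have := Nat.pow_right_injective hp.two_le hc
    omega
  rw [seven_dvd_iff hp1] at h7
  have hlt : p % 7 < 7 := Nat.mod_lt _ (by norm_num)
  have h0 : p % 7 ≠ 0 := by
    intro h0
    rw [h0, zero_pow he.ne'] at h7
    omega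
  have he6 : e ≤ 6 := by
    by_contra hcon
    push Not at hcon
    refine hd 6 (by norm_num) hcon ?_
    rw [seven_dvd_iff hp1]
    generalize p % 7 = a at *
    interval_cases a <;> first | rfl | omega
  have hj3 : j ≤ 3 := by omega
  have hd1 : 1 < e → (p % 7) ^ 1 % 7 ≠ 1 := fun h => by
    have := hd 1 one_pos h
    rwa [seven_dvd_iff hp1] at this
  have hd2 : 2 < e → (p % 7) ^ 2 % 7 ≠ 1 := fun h => by
    have := hd 2 (by norm_num) h
    rwa [seven_dvd_iff hp1] at this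
  have hd3 : 3 < e → (p % 7) ^ 3 % 7 ≠ 1 := fun h => by
    have := hd 3 (by norm_num) h
    rwa [seven_dvd_iff hp1] at this
  have hq1 : j = 1 → q = p := fun h => by rw [hj, h, pow_one]
  have hq3 : j = 3 → q = p ^ 3 := fun h => by rw [hj, h]
  clear hj hc hd
  subst hej
  generalize p % 7 = a at *
  have hj0 : 0 < j := by omega
  interval_cases j
  · left
    refine ⟨hq1 rfl, ?_⟩
    have := hd1 (by norm_num)
    interval_cases a <;> simp_all
  · exfalso
    have := hd1 (by norm_num)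
    have := hd2 (by norm_num)
    interval_cases a <;> simp_all
  · right
    refine ⟨hq3 rfl, ?_⟩
    have := hd1 (by norm_num)
    have := hd2 (by norm_num)
    have := hd3 (by norm_num)
    interval_cases a <;> simp_all

/-- The list for `SU_7(q)`, given that `H` is in a member of a class or in the residual class. -/
theorem su7_cases {F : Type*} [Field F] [Fintype F] (q : ℕ) (hF : Fintype.card F = q ^ 2)
    (H : Subgroup (Matrix.GeneralLinearGroup (Fin 7) F))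
    (hH : Cfsg.Geo.IsMaximalIn (Cfsg.GU 7 F q ⊓ Cfsg.Geo.specialLinear (Fin 7) F) H)
    (h : (∃ M : Subgroup (Matrix.GeneralLinearGroup (Fin 7) F), Geo.InUnitaryClass 7 F q M ∧ H ≤ M) ∨
      Geo.InUnitaryResidualClass H) :
    (∃ W : Submodule F (Fin 7 → F), W ≠ ⊥ ∧ Cfsg.Geo.IsTotallySingularFor (Cfsg.hermForm 7 F q) W ∧ H = Cfsg.Geo.subspaceStabilizer W ⊓ (Cfsg.GU 7 F q ⊓ Cfsg.Geo.specialLinear (Fin 7) F)) ∨
    (∃ W : Submodule F (Fin 7 → F), W ≠ ⊥ ∧ Cfsg.Geo.IsNondegenerateOn (Cfsg.hermForm 7 F q) W ∧ 2 * Module.finrank F W < 7 ∧ H = Cfsg.Geo.subspaceStabilizer W ⊓ (Cfsg.GU 7 F q ⊓ Cfsg.Geo.specialLinear (Fin 7) F)) ∨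
    (∃ D : Fin 7 → Submodule F (Fin 7 → F), Cfsg.Geo.IsNondegenerateMDecomposition (Cfsg.hermForm 7 F q) 1 D ∧ H = Cfsg.Geo.decompositionStabilizer D ⊓ (Cfsg.GU 7 F q ⊓ Cfsg.Geo.specialLinear (Fin 7) F)) ∨
    (∃ K : Subalgebra F (Matrix (Fin 7) (Fin 7) F), Cfsg.Geo.IsFieldSubalgebra 7 K ∧ Cfsg.Geo.IsAdjointClosedFor (Cfsg.hermForm 7 F q) K ∧ H = Cfsg.Geo.subalgebraNormalizer K ⊓ (Cfsg.GU 7 F q ⊓ Cfsg.Geo.specialLinear (Fin 7) F)) ∨
    (∃ (F₀ : Subfield F) (r : ℕ) (P : Matrix.GeneralLinearGroup (Fin 7) F), r.Prime ∧ Odd r ∧ Fintype.card F = Nat.card F₀ ^ r ∧ Cfsg.Geo.IsFormRationalStructure (Cfsg.hermForm 7 F q) F₀ 1 P ∧ H = Cfsg.Geo.subfieldSubgroup F₀ P ⊓ (Cfsg.GU 7 F q ⊓ Cfsg.Geo.specialLinear (Fin 7) F)) ∨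
    (Odd q ∧ ∃ (F₀ : Subfield F) (P : Matrix.GeneralLinearGroup (Fin 7) F), Fintype.card F = Nat.card F₀ ^ 2 ∧ Cfsg.Geo.IsFormRationalStructure (Cfsg.hermForm 7 F q) F₀ 1 P ∧ H = Cfsg.Geo.subfieldSubgroup F₀ P ⊓ (Cfsg.GU 7 F q ⊓ Cfsg.Geo.specialLinear (Fin 7) F)) ∨
    (∃ (p : ℕ) (R : Subgroup (Matrix.GeneralLinearGroup (Fin 7) F)), p.Prime ∧ CharP F p ∧ ((q = p ∧ p % 7 = 6) ∨ (q = p ^ 3 ∧ (p % 7 = 3 ∨ p % 7 = 5))) ∧ Cfsg.Geo.IsSymplecticTypeGroup 7 R ∧ Cfsg.Geo.ActsAbsolutelyIrreducibly (Cfsg.Geo.matrixSet R) ∧ R ≤ Cfsg.Geo.similarityGroup (Cfsg.hermForm 7 F q) ∧ Nat.card R = 343 ∧ Nat.card (Subgroup.center R) = 7 ∧ H = Cfsg.Geo.subgroupNormalizer R ⊓ (Cfsg.GU 7 F q ⊓ Cfsg.Geo.specialLinear (Fin 7) F)) ∨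
    Cfsg.Geo.InUnitaryResidualClass H := by
  have hn : 3 ≤ 7 := by norm_num
  have h32 : ¬ ((7 : ℕ) = 3 ∧ q = 2) := by norm_num
  have hprime : Nat.Prime 7 := by norm_num
  rcases unitary_maximal_cases hF hn h32 hH (by
      intro k t e P hk ht hkt _
      exfalso
      have h1 : t < 3 := by
        by_contra hcon
        push Not at hcon
        have : 3 ^ 3 ≤ k ^ t := (Nat.pow_le_pow_left hk 3).trans (Nat.pow_le_pow_right (by omega) hcon)
        omega
      have h2 : t = 2 := by omega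
      subst h2
      have : 3 ^ 2 ≤ k ^ 2 := Nat.pow_le_pow_left hk 2
      omega) h with
    h | h | ⟨t, k, D, htk, ht, hD, h⟩ | ⟨k, D, hk, hD, hs, h⟩ | h | h | ⟨F₀, P, ζ, he, h⟩ |
    ⟨r, R, p, e, k, hR, habs, hRs, hrp, hmin, hro, hz, hk, hcR, hn7, h⟩ |
    ⟨R, p, k, hp, hqp, hp4, hR, habs, hRs, hz, hcR, hn7, h⟩ | ⟨r, K, hr, hro, hrn, hK, hKf, h⟩ |
    ⟨n₁, n₂, e, P, f₁, f₂, hnn, h2, hlt, hf₁, hf₂, hf, h⟩ | ⟨k, t, -, -, -, hkt, hk, ht, -⟩ | h
  · exact Or.inl h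
  · exact Or.inr (Or.inl h)
  · -- non-degenerate decompositions
    have hkpos := hD.decomp.pos
    have h1 : t ∣ 7 := ⟨k, htk.symm⟩
    have h2 : t = 7 := ((Nat.dvd_prime hprime).1 h1).resolve_left (by omega)
    have h3 : k = 1 := by subst h2; omega
    subst h2 h3
    exact Or.inr (Or.inr (Or.inl ⟨D, hD, h⟩))
  · omega
  · iterate 4 right
    left
    exact h
  · obtain ⟨F₀, P, hq, h⟩ := h
    iterate 5 right
    left
    exact ⟨hq, F₀, P, h⟩
  · exact absurd he (by decide)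
  · -- the symplectic-type groups
    have hr : r = 7 := by
      have h1 : r ∣ 7 := by rw [hn7]; exact dvd_pow_self r (by omega)
      exact ((Nat.dvd_prime hprime).1 h1).resolve_left hR.prime.one_lt.ne'
    subst hr
    have hk1 : k = 1 := by
      have : 7 ^ k = 7 ^ 1 := by rw [← hn7]; norm_num
      exact Nat.pow_right_injective (by norm_num) this
    subst hk1
    obtain ⟨hp, hchar, hcF, h7, hd⟩ := hmin
    rw [hz] at h7 hd
    have he : 0 < e := by
      rcases Nat.eq_zero_or_pos e with h0 | h0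
      · exfalso
        rw [h0, pow_zero] at hcF
        exact absurd hcF Fintype.one_lt_card.ne'
      · exact h0
    iterate 6 right
    left
    exact ⟨p, R, hp, hchar, seven_arith hp (hF ▸ hcF) h7 he hd, hR, habs, hRs, by rw [hcR]; norm_num, hz, h⟩
  · -- no power of two
    exfalso
    rcases Nat.eq_zero_or_pos k with h0 | h0
    · subst h0; omega
    · have h1 : 2 ∣ 7 := by rw [hn7]; exact dvd_pow_self 2 (by omega)
      omega
  · have hr7 : r = 7 := ((Nat.dvd_prime hprime).1 hrn).resolve_left hr.one_lt.ne'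
    subst hr7
    iterate 3 right
    left
    exact ⟨K, hK, hKf, h⟩
  · exfalso
    have h1 : n₁ ∣ 7 := ⟨n₂, hnn.symm⟩
    rcases (Nat.dvd_prime hprime).1 h1 with h1 | h1
    · omega
    · subst h1
      have : n₂ = 1 := by omega
      omega
  · exfalso
    have h1 : t < 3 := by
      by_contra hcon
      push Not at hcon
      have : 3 ^ 3 ≤ k ^ t := (Nat.pow_le_pow_left hk 3).trans (Nat.pow_le_pow_right (by omega) hcon)
      omega
    have h2 : t = 2 := by omega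
    subst h2
    have : 3 ^ 2 ≤ k ^ 2 := Nat.pow_le_pow_left hk 2
    omega
  · iterate 7 right
    exact h

end Cfsg.Agent.H916
end

-- part: S5811
section
set_option autoImplicit false
open Cfsg

namespace Cfsg.Agent.S5811

/-- Every maximal subgroup of SU_7(q) is of one of the listed geometric types or lies in the residual class. Let F be the field with q² elements (characteristic p), f the standard unitary form Σ u_i v_i^q on F^7, and H a maximal subgroup of SU_7(q) (inside GL_7(F)). Then H is the intersection with SU_7(q) of one of: the stabiliser of a non-zero totally isotropic subspace; the stabiliser of a non-degenerate 1-, 2- or 3-space; the stabiliser of a decomposition into seven mutually orthogonal non-degenerate 1-spaces; the normaliser of an adjoint-closed degree-7 subfield of the matrix algebra; a subfield group of odd prime index whose F₀-structure carries f; for q odd, a subfield group of index 2 whose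 F₀-structure carries f; for q = p prime with p ≡ 6 mod 7, or q = p³ with p ≡ 3 or 5 mod 7, the normaliser of an absolutely irreducible 7-group R of exponent 7, order 343 and centre of order 7, all of whose characteristic abelian subgroups are cyclic, contained in the similarity group of f — or else H lies in the residual class of the unitary case (modulo scalars H is almost simple, with absolutely irreducible perfect socle preimage realisable over no proper subfield and fixing no non-degenerate quadratic or symplectic form). -/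
theorem result {F : Type*} [Field F] [Fintype F] (q : ℕ) (hF : Fintype.card F = q ^ 2) (H : Subgroup (Matrix.GeneralLinearGroup (Fin 7) F)) (hH : Cfsg.Geo.IsMaximalIn (Cfsg.GU 7 F q ⊓ Cfsg.Geo.specialLinear (Fin 7) F) H) :
    (∃ W : Submodule F (Fin 7 → F), W ≠ ⊥ ∧ Cfsg.Geo.IsTotallySingularFor (Cfsg.hermForm 7 F q) W ∧ H = Cfsg.Geo.subspaceStabilizer W ⊓ (Cfsg.GU 7 F q ⊓ Cfsg.Geo.specialLinear (Fin 7) F)) ∨
    (∃ W : Submodule F (Fin 7 → F), W ≠ ⊥ ∧ Cfsg.Geo.IsNondegenerateOn (Cfsg.hermForm 7 F q) W ∧ 2 * Module.finrank F W < 7 ∧ H = Cfsg.Geo.subspaceStabilizer W ⊓ (Cfsg.GU 7 F q ⊓ Cfsg.Geo.specialLinear (Fin 7) F)) ∨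
    (∃ D : Fin 7 → Submodule F (Fin 7 → F), Cfsg.Geo.IsNondegenerateMDecomposition (Cfsg.hermForm 7 F q) 1 D ∧ H = Cfsg.Geo.decompositionStabilizer D ⊓ (Cfsg.GU 7 F q ⊓ Cfsg.Geo.specialLinear (Fin 7) F)) ∨
    (∃ K : Subalgebra F (Matrix (Fin 7) (Fin 7) F), Cfsg.Geo.IsFieldSubalgebra 7 K ∧ Cfsg.Geo.IsAdjointClosedFor (Cfsg.hermForm 7 F q) K ∧ H = Cfsg.Geo.subalgebraNormalizer K ⊓ (Cfsg.GU 7 F q ⊓ Cfsg.Geo.specialLinear (Fin 7) F)) ∨
    (∃ (F₀ : Subfield F) (r : ℕ) (P : Matrix.GeneralLinearGroup (Fin 7) F), r.Prime ∧ Odd r ∧ Fintype.card F = Nat.card F₀ ^ r ∧ Cfsg.Geo.IsFormRationalStructure (Cfsg.hermForm 7 F q) F₀ 1 P ∧ H = Cfsg.Geo.subfieldSubgroup F₀ P ⊓ (Cfsg.GU 7 F q ⊓ Cfsg.Geo.specialLinear (Fin 7) F)) ∨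
    (Odd q ∧ ∃ (F₀ : Subfield F) (P : Matrix.GeneralLinearGroup (Fin 7) F), Fintype.card F = Nat.card F₀ ^ 2 ∧ Cfsg.Geo.IsFormRationalStructure (Cfsg.hermForm 7 F q) F₀ 1 P ∧ H = Cfsg.Geo.subfieldSubgroup F₀ P ⊓ (Cfsg.GU 7 F q ⊓ Cfsg.Geo.specialLinear (Fin 7) F)) ∨
    (∃ (p : ℕ) (R : Subgroup (Matrix.GeneralLinearGroup (Fin 7) F)), p.Prime ∧ CharP F p ∧ ((q = p ∧ p % 7 = 6) ∨ (q = p ^ 3 ∧ (p % 7 = 3 ∨ p % 7 = 5))) ∧ Cfsg.Geo.IsSymplecticTypeGroup 7 R ∧ Cfsg.Geo.ActsAbsolutelyIrreducibly (Cfsg.Geo.matrixSet R) ∧ R ≤ Cfsg.Geo.similarityGroup (Cfsg.hermForm 7 F q) ∧ Nat.card R = 343 ∧ Nat.card (Subgroup.center R) = 7 ∧ H = Cfsg.Geo.subgroupNormalizer R ⊓ (Cfsg.GU 7 F q ⊓ Cfsg.Geo.specialLinear (Fin 7) F)) ∨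
    Cfsg.Geo.InUnitaryResidualClass H :=
  Cfsg.Agent.H916.su7_cases q hF H hH (Cfsg.Agent.S5663.result 7 q hF (by norm_num) (by norm_num) H hH.1.le
    (Cfsg.Agent.H918.sup_scalars_ne hF (by norm_num) (by norm_num) hH))

end Cfsg.Agent.S5811
end
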