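import Cfsg.Statements.S5835
import Cfsg.Agent.H922.OddMax
import Cfsg.Agent.H922.OddForm
set_option linter.all false

set_option autoImplicit false
open Cfsg

namespace Cfsg.Agent.S5835

/-- Every maximal subgroup of Ω_9(q), q odd, is of one of the listed geometric types or lies in the residual class. Let F be a finite field of odd order q, Q the standard quadratic form x₀² + Σ x_i y_i on F^9 (coordinates Unit ⊕ (Fin 4 ⊕ Fin 4)), Ω the commutator subgroup of its isometry group, and H a maximal subgroup of Ω (inside GL_9(F)). Then H is the intersection with Ω of one of: the stabiliser of a non-zero totally singular subspace; the stabiliser of a non-zero non-degenerate subspace of even dimension (not a plus-type plane when q = 3); for q prime, the stabiliser of a decomposition into nine pairwise orthogonal, pairwise isometric non-degenerate 1-spaces; for q ≥ 5, the stabiliser of a decomposition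 into three pairwise orthogonal, pairwise isometric non-degenerate 3-spaces; the normaliser of a degree-3 subfield of the matrix algebra, self-adjoint for the polar form; a subfield group (|F| = |F₀|^r, r prime) whose F₀-structure carries Q; for q ≥ 5, the stabiliser of a tensor decomposition of the polar form as a tensor square of a symmetric form on F^3 — or else H lies in the residual class of the orthogonal case (modulo scalars H is almost simple, with absolutely irreducible perfect socle preimage realisable over no proper subfield and fixing no non-degenerate unitary form). -/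
theorem result {F : Type*} [Field F] [Fintype F] (hodd : Odd (Fintype.card F)) (H : Subgroup (Matrix.GeneralLinearGroup (Unit ⊕ (Fin 4 ⊕ Fin 4)) F)) (hH : Cfsg.Geo.IsMaximalIn (Cfsg.Geo.omegaGL (Cfsg.quadFormOdd 4 F)) H) :
    (∃ W : Submodule F (Unit ⊕ (Fin 4 ⊕ Fin 4) → F), W ≠ ⊥ ∧ Cfsg.Geo.IsTotallySingularQuad (Cfsg.quadFormOdd 4 F) W ∧ H = Cfsg.Geo.subspaceStabilizer W ⊓ Cfsg.Geo.omegaGL (Cfsg.quadFormOdd 4 F)) ∨
    (∃ W : Submodule F (Unit ⊕ (Fin 4 ⊕ Fin 4) → F), W ≠ ⊥ ∧ Even (Module.finrank F W) ∧ Cfsg.Geo.IsNondegenerateOn (QuadraticMap.polar (Cfsg.quadFormOdd 4 F)) W ∧ ¬ (Fintype.card F = 3 ∧ Module.finrank F W = 2 ∧ Cfsg.Geo.IsPlusTypeOn (Cfsg.quadFormOdd 4 F) W) ∧ H = Cfsg.Geo.subspaceStabilizer W ⊓ Cfsg.Geo.omegaGL (Cfsg.quadFormOdd 4 F)) ∨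
    ((Fintype.card F).Prime ∧ ∃ D : Fin 9 → Submodule F (Unit ⊕ (Fin 4 ⊕ Fin 4) → F), Cfsg.Geo.IsOrthogonalMDecomposition (Cfsg.quadFormOdd 4 F) 1 D ∧ H = Cfsg.Geo.decompositionStabilizer D ⊓ Cfsg.Geo.omegaGL (Cfsg.quadFormOdd 4 F)) ∨
    (5 ≤ Fintype.card F ∧ ∃ D : Fin 3 → Submodule F (Unit ⊕ (Fin 4 ⊕ Fin 4) → F), Cfsg.Geo.IsOrthogonalMDecomposition (Cfsg.quadFormOdd 4 F) 3 D ∧ H = Cfsg.Geo.decompositionStabilizer D ⊓ Cfsg.Geo.omegaGL (Cfsg.quadFormOdd 4 F)) ∨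
    (∃ K : Subalgebra F (Matrix (Unit ⊕ (Fin 4 ⊕ Fin 4)) (Unit ⊕ (Fin 4 ⊕ Fin 4)) F), Cfsg.Geo.IsFieldSubalgebra 3 K ∧ Cfsg.Geo.IsSelfAdjointFor (QuadraticMap.polar (Cfsg.quadFormOdd 4 F)) K ∧ H = Cfsg.Geo.subalgebraNormalizer K ⊓ Cfsg.Geo.omegaGL (Cfsg.quadFormOdd 4 F)) ∨
    (∃ (F₀ : Subfield F) (r : ℕ) (P : Matrix.GeneralLinearGroup (Unit ⊕ (Fin 4 ⊕ Fin 4)) F), r.Prime ∧ Fintype.card F = Nat.card F₀ ^ r ∧ Cfsg.Geo.IsQuadFormRationalStructure (Cfsg.quadFormOdd 4 F) F₀ P ∧ H = Cfsg.Geo.subfieldSubgroup F₀ P ⊓ Cfsg.Geo.omegaGL (Cfsg.quadFormOdd 4 F)) ∨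
    (5 ≤ Fintype.card F ∧ ∃ (e : (Unit ⊕ (Fin 4 ⊕ Fin 4)) ≃ (Fin 2 → Fin 3)) (P : Matrix.GeneralLinearGroup (Unit ⊕ (Fin 4 ⊕ Fin 4)) F) (f₁ : (Fin 3 → F) → (Fin 3 → F) → F), Cfsg.Geo.IsSymmetricForm f₁ ∧ Cfsg.Geo.IsTensorPowerFormStructure id (QuadraticMap.polar (Cfsg.quadFormOdd 4 F)) f₁ e P ∧ H = Cfsg.Geo.tensorWreathSubgroup 3 2 e P ⊓ Cfsg.Geo.omegaGL (Cfsg.quadFormOdd 4 F)) ∨
    Cfsg.Geo.InOrthogonalResidualClass H := by
  have h2 := Cfsg.Agent.H922.two_ne_zero_of_odd_card hodd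
  have hcard : Fintype.card (Unit ⊕ (Fin 4 ⊕ Fin 4)) = 9 := Cfsg.Agent.H922.card_unit_sum 4
  have hQ := Cfsg.Agent.H922.isNondegenerateQuadraticForm_quadFormOdd (F := F) 4 h2
  have h5 : Fintype.card F ≠ 3 → 5 ≤ Fintype.card F := by
    intro h
    have h1 : 1 < Fintype.card F := Fintype.one_lt_card
    obtain ⟨j, hj⟩ := hodd
    omega
  have hmax := Cfsg.Agent.H922.odd_maximal_cases hQ h2 (by rw [hcard]; decide) (by rw [hcard]; decide)
    (Cfsg.Agent.H922.gram_quadFormOdd_mem 4) hH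
  rw [hcard] at hmax
  rcases hmax with
    ⟨W, hW0, hW, hHW⟩ | ⟨W, hW0, hev, hW, hpl, hHW⟩ | ⟨D, hp, hD, hHD⟩ |
    ⟨t, k, D, hm, ht, htk, h33, hD, hHD⟩ |
    ⟨r, K, hr, hrd, hrn, hK, hsa, hHK⟩ |
    ⟨n₁, n₂, e, P, f₁, f₂, h3, hlt, hc, hf₁, hf₂, hP, hHP⟩ |
    ⟨F₁, r, P, hF₁, hr, hc, hP, hHP⟩ |
    ⟨k, t, e, P, f₁, hk, ht, hkt, h33, hf₁, hP, hHP⟩ | hS
  · exact Or.inl ⟨W, hW0, hW, hHW⟩
  · exact Or.inr (Or.inl ⟨W, hW0, hev, hW, hpl, hHW⟩)
  · exact Or.inr (Or.inr (Or.inl ⟨hp, D, hD, hHD⟩))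
  · have hk9 : k ≤ 4 := by
      have : 2 * k ≤ t * k := Nat.mul_le_mul_right k ht
      omega
    have ht9 : t ≤ 4 := by
      have : t * 2 ≤ t * k := Nat.mul_le_mul_left t hm
      omega
    have h3 : k = 3 ∧ t = 3 := by
      interval_cases k <;> interval_cases t <;> simp_all
    obtain ⟨rfl, rfl⟩ := h3
    exact Or.inr (Or.inr (Or.inr (Or.inl ⟨h5 fun h => h33 ⟨h, rfl⟩, D, hD, hHD⟩)))
  · have h3 : r = 3 := by
      have h9 : r ∣ 3 ^ 2 := hrd
      exact (Nat.prime_dvd_prime_iff_eq hr Nat.prime_three).1 (hr.dvd_of_dvd_pow h9)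
    subst h3
    exact Or.inr (Or.inr (Or.inr (Or.inr (Or.inl ⟨K, hK, hsa, hHK⟩))))
  · exfalso
    have : 3 * 4 ≤ n₁ * n₂ := Nat.mul_le_mul h3 (by omega)
    omega
  · exact Or.inr (Or.inr (Or.inr (Or.inr (Or.inr (Or.inl ⟨F₁, r, P, hr, hc, hP, hHP⟩)))))
  · have ht2 : t = 2 := by
      by_contra hne
      have h3 : 3 ≤ t := by omega
      have h4 : 3 ^ 3 ≤ k ^ t := (Nat.pow_le_pow_left hk 3).trans (Nat.pow_le_pow_right (by omega) h3)
      omega
    subst ht2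
    have hk3 : k = 3 := by
      have : k * k = 3 * 3 := by rw [← pow_two, hkt]
      exact Nat.mul_self_inj.1 this
    subst hk3
    exact Or.inr (Or.inr (Or.inr (Or.inr (Or.inr (Or.inr (Or.inl ⟨h5 fun h => h33 ⟨h, rfl⟩,
      e, P, f₁, hf₁, hP, hHP⟩))))))
  · exact Or.inr (Or.inr (Or.inr (Or.inr (Or.inr (Or.inr (Or.inr hS))))))

end Cfsg.Agent.S5835
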