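import Cfsg.Agent.H6.M11.Stage11
import Cfsg.Agent.H879.Nine.Ctx_m3
import Cfsg.Agent.H614.AMod.Main
import Cfsg.Agent.H882.Del.Stein
import Cfsg.Agent.H879.Nine.RowPSL
import Cfsg.Agent.H937.T2Rep_m3
import Cfsg.Agent.H916.SpSixK_mg
import Cfsg.Agent.H912.CrossList_m3
import Cfsg.Agent.H875.SteinDef
import Cfsg.Agent.H114.TyTwo_m3
import Cfsg.Agent.H882.Del.M11Grp
import Cfsg.Agent.H936.List12c
import Cfsg.Agent.H933.JOneTen
import Cfsg.Agent.H95.JT.Core
import Cfsg.Agent.H921.SporMore_m3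
import Cfsg.Agent.H921.SporCore
import Cfsg.Agent.H921.SporSuz
import Cfsg.Agent.H4.JT.Two
import Cfsg.Agent.H933.O10.Base_m3
import Cfsg.Agent.H937.T2Nine
import Cfsg.Agent.H464.L2Num_m3
import Cfsg.Agent.H36.U52.Main
import Cfsg.Agent.H916.T8
import Cfsg.Agent.H814.SzEightCore
import Cfsg.Agent.H392.TD.Main
import Cfsg.Agent.H905.Sp4Final
import Cfsg.Agent.H925.U52Form
import Cfsg.Agent.H876.D3.Main5_m3
import Cfsg.Agent.H922.OmKill
import Cfsg.Agent.H927.G2Main
import Cfsg.Agent.H141.ReeK.Main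
import Cfsg.Agent.H175.LD.Core33
import Cfsg.Agent.H936.U33All
import Cfsg.Statements.S5836
import Cfsg.Agent.S0000
import Cfsg.Agent.FastGrp
import Cfsg.Agent.Prune
set_option linter.all false

section
prune_inst 0x7ffdefffbbf87bffdfff7e7faededffdf9bb3fffe6dff9cbffe0e1ff2b9ffb02cbe56bad8fea10fe1ed6e21c10f87b53ffffeeffe26bdc7ffffd5ff41ffbffdffdf7b50871de8cbe1fbc0ff703f0778e7f3fffffffffffffffffffffffffffbeffbfffffffff

-- part: H879/Nine/MECert
section
set_option linter.all false
open scoped Cfsg.Agent.FastGrp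

/-!
# Words in the Mathieu groups of degrees 11 and 12 (helper879)

Letters as in `H6.M11` and `9, 10` in the group of degree 12. `certA`, `certB` : `(A, B, ε, L)` means
`A = B y^ε L₁ L₂ ⋯` with `Lᵢ ∈ {e₁, e₂, y², s y}`.
-/

set_option autoImplicit false
set_option maxRecDepth 100000

namespace Cfsg.Agent.H879.Nine.ME

open Cfsg Cfsg.Agent.H6.M11 Cfsg.Agent.CoThreeStd.MTwelve

/-- words of the letters in the generators of the group of degree 12 -/
def W' : ℕ → List ℕ
  | 9 => [0,1,5,1,2,1,4,5,0,1]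
  | 10 => [0,4,5,2,1,5,3,2,1]
  | n => W n

/-- certificates -/
def certA : List (List ℕ × List ℕ × Bool × List (List ℕ)) := [
  ([2,2,4,4], [4,4], false, [[3,2]]), ([3,2,4,4], [4,4], false, [[3,2],[2,2],[2,2],[2,2]]),
  ([2,2,4,4,4,4], [4,4,4,4], false, [[3,2],[2,2],[2,2],[2,2]]), ([3,2,4,4,4,4], [4,4,4,4], false, [[2,2]]),
  ([4,4,4,4,4,4], [], false, []), ([2,4,4], [4,4,4,4], true, [[2,2],[2,2],[2,2]]),
  ([2,4,4,4,4], [4,4], true, [[3,2],[2,2],[2,2],[2,2]]), ([4,4,7], [4,4], false, [[0],[0],[1],[2,2],[2,2]]),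
  ([1,7], [], false, [[0],[0],[1],[1],[2,2],[2,2]]), ([5,4,1,7], [1,7,4,4], false, [[0],[0],[1],[2,2]]),
  ([5,4,1,7,4,4], [4,4,7,4,4], true, [[2,2],[2,2]]), ([5,0,3,6,5], [1,2,6,5], true, [[0],[0],[1],[3,2],[2,2]]),
  ([2,7,6,5], [1,2,6,5], false, [[0],[1],[2,2],[2,2]]),
  ([2,7,6,5,4,4], [5,1,2,6,5], false, [[1],[2,2],[2,2],[2,2]]),
  ([2,7,6,5,4,4,4,4], [1,4,2], true, [[0],[1],[1],[3,2],[2,2],[2,2]]),
  ([1,8,6,5], [1,2,6,5], false, [[0],[1],[1],[3,2],[2,2]]),
  ([1,8,6,5,4,4], [5,1,4,2], false, [[0],[1],[1],[3,2],[2,2],[2,2],[2,2]]),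
  ([1,8,6,5,4,4,4,4], [6,1,4], true, [[1],[1],[3,2],[2,2],[2,2]]), ([1,2,6,5], [1,2,6,5], false, []),
  ([1,2,6,5,4,4], [5,6,1,4], false, [[0],[0],[2,2]]), ([1,2,6,5,4,4,4,4], [0,4,2], true, [[0],[0],[1],[3,2]]),
  ([2,4,0,6], [1,2,6,5], false, [[1],[1],[3,2],[2,2],[2,2],[2,2]]), ([2,4,0,6,4,4], [5,0,4,2], false, [[0],[1]]),
  ([2,4,0,6,4,4,4,4], [2,6,5], true, [[1],[1],[3,2],[2,2],[2,2]]),
  ([4,0,4,4], [1,2,6,5], false, [[0],[0],[3,2],[2,2],[2,2]]),
  ([4,0,4,4,4,4], [5,2,6,5], false, [[2,2],[2,2],[2,2]]),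
  ([4,0,4,4,4,4,4,4], [4,2], true, [[1],[2,2],[2,2],[2,2]]),
  ([1,7,4,2], [1,2,6,5], false, [[0],[0],[1],[1],[3,2],[2,2]]), ([1,7,4,2,4,4], [5,4,2], false, [[0]]),
  ([1,7,4,2,4,4,4,4], [], true, [[0],[0],[3,2],[2,2]]), ([1,7,4,8], [1,2,6,5], false, [[0],[0],[1],[2,2]]),
  ([1,7,4,8,4,4], [5], false, [[0],[1],[1],[2,2],[2,2],[2,2]]),
  ([1,7,4,8,4,4,4,4], [0,1,4,2], true, [[1],[1],[3,2],[2,2],[2,2],[2,2]]),
  ([2,8,4,8], [1,2,6,5], false, [[0],[3,2],[2,2],[2,2]]),
  ([2,8,4,8,4,4], [5,0,1,4,2], false, [[0],[0],[1],[1],[3,2],[2,2],[2,2]]),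
  ([2,8,4,8,4,4,4,4], [3,6,5], true, [[1],[2,2]]), ([0,6,3,8,5], [1,2,6,5], false, [[1],[2,2]]),
  ([0,6,3,8,5,4,4], [5,3,6,5], false, [[0],[0]]),
  ([0,6,3,8,5,4,4,4,4], [0,3,6,5], true, [[0],[1],[1],[3,2],[2,2]]), ([8], [], true, [[0],[1],[1],[3,2]]),
  ([1,1], [], false, [[1],[1]]), ([1,1,4,4], [8,1,2,6,5], false, [[0],[0],[1],[1],[2,2],[2,2],[2,2]]),
  ([1,1,4,4,4,4], [3,6,5], true, [[0],[0],[2,2],[2,2],[2,2]]), ([7], [], false, [[0],[0],[1],[2,2],[2,2]]),
  ([7,4,4], [8,1,4,2], false, [[3,2],[2,2],[2,2]]),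
  ([7,4,4,4,4], [2,6,5], true, [[0],[0],[3,2],[2,2],[2,2],[2,2]]), ([], [], false, []),
  ([4,4], [8,6,1,4], false, [[0],[0],[1],[1],[2,2]]), ([4,4,4,4], [4,2], true, [[2,2],[2,2],[2,2]]),
  ([0], [], false, [[0]]), ([0,4,4], [8,0,4,2], false, [[3,2]]), ([0,4,4,4,4], [0,4,2], true, [[2,2],[2,2],[2,2]]),
  ([1], [], false, [[1]]), ([1,4,4], [8,2,6,5], false, [[0],[0],[1],[1],[2,2],[2,2],[2,2]]),
  ([1,4,4,4,4], [1,4,2], true, [[2,2],[2,2],[2,2]]), ([0,0], [], false, [[0],[0]]),
  ([0,0,4,4], [8,4,2], false, [[3,2]]), ([0,0,4,4,4,4], [6,1,4], true, [[0],[0],[3,2],[2,2],[2,2],[2,2]]),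
  ([0,1], [], false, [[0],[1]]), ([0,1,4,4], [8,0,1,4,2], false, [[3,2]]),
  ([0,1,4,4,4,4], [0,1,4,2], true, [[2,2],[2,2],[2,2]]), ([1,7], [], false, [[0],[0],[1],[1],[2,2],[2,2]]),
  ([1,7,4,4], [8,3,6,5], false, [[0],[0],[1],[1],[3,2],[2,2],[2,2]]),
  ([1,7,4,4,4,4], [1,2,6,5], true, [[0],[0],[3,2],[2,2],[2,2],[2,2]]), ([0,1,1], [], false, [[0],[1],[1]]),
  ([0,1,1,4,4], [8,0,3,6,5], false, [[0],[0],[1],[1],[3,2]]),
  ([0,1,1,4,4,4,4], [0,3,6,5], true, [[0],[0],[2,2],[2,2],[2,2]]),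
  ([0,1,2,6,5], [3,6,5], false, [[0],[1],[1],[3,2],[2,2]]), ([0,1,4,2], [0,1,4,2], false, []),
  ([0,6,1,4], [4,2], false, [[0],[3,2],[2,2],[2,2],[2,2]]),
  ([0,0,4,2], [6,1,4], false, [[0],[0],[1],[1],[3,2],[2,2]]), ([0,2,6,5], [1,4,2], false, [[0],[0],[3,2],[2,2]]),
  ([0,4,2], [0,4,2], false, []), ([0], [], false, [[0]]),
  ([0,0,1,4,2], [2,6,5], false, [[0],[0],[1],[1],[3,2],[2,2],[2,2],[2,2]]), ([0,3,6,5], [0,3,6,5], false, []),
  ([0,0,3,6,5], [1,2,6,5], false, [[1],[1],[3,2],[2,2],[2,2],[2,2]])]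

/-- certificates for the group of degree 12 -/
def certB : List (List ℕ × List ℕ × Bool × List (List ℕ)) := [
  ([0,9], [9], false, [[0],[1]]), ([1,9], [9], false, [[1],[1]]), ([9,2,9,2,9,2], [], false, []),
  ([9,9], [], false, []), ([9,4,4,4,4], [4,4,4,4,2,9,2], false, [[3,2],[2,2],[2,2],[2,2]]),
  ([10,4,4], [9,4,4], false, [[0],[1],[2,2],[2,2],[2,2]]), ([10,10,10], [], false, [])]

/-- `v_d = g_d u` -/
def gw : ℕ → List ℕ
  | 1 => [1,2,6,5]
  | 2 => [1,4,2]
  | 3 => [6,1,4]
  | 4 => [0,4,2]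
  | 5 => [2,6,5]
  | 6 => [4,2]
  | 8 => [0,1,4,2]
  | 9 => [3,6,5]
  | 10 => [0,3,6,5]
  | _ => []

/-- words for `x` -/
def hx : ℕ → List ℕ
  | 2 => [2,7,6,5]
  | 3 => [1,8,6,5]
  | 4 => [1,2,6,5]
  | 5 => [2,4,0,6]
  | 6 => [4,0,4,4]
  | 7 => [1,7,4,2]
  | 8 => [1,7,4,8]
  | 9 => [2,8,4,8]
  | 10 => [0,6,3,8,5]
  | _ => []

/-- words for `t` -/
def ht : ℕ → List ℕ
  | 1 => [1,1]
  | 2 => [7]
  | 4 => [0]
  | 5 => [1]
  | 6 => [0,0]
  | 8 => [0,1]
  | 9 => [1,7]
  | 10 => [0,1,1]
  | _ => []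

/-- the permutation of `t` -/
def tp : ℕ → ℕ
  | 0 => 7
  | 1 => 9
  | 2 => 5
  | 3 => 6
  | 4 => 4
  | 5 => 2
  | 6 => 3
  | 7 => 0
  | 8 => 8
  | 9 => 1
  | 10 => 10
  | n => n

/-- the permutation of `e₁` -/
def ep : ℕ → ℕ
  | 0 => 0
  | 1 => 9
  | 2 => 8
  | 3 => 6
  | 4 => 3
  | 5 => 2
  | 6 => 4
  | 7 => 7
  | 8 => 5
  | 9 => 10
  | 10 => 1
  | n => n

/-- right-hand side of a certificate -/
def rhs (r : List ℕ × Bool × List (List ℕ)) : List ℕ := r.1 ++ ((if r.2.1 then [2] else []) ++ r.2.2.flatten)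

/-- the letters in the group of degree 12 -/
def vM (i : ℕ) : Spor.M12 := wd (W' i)

theorem ev_vM (w : List ℕ) : ev vM w = wd (w.flatMap W') := by
  induction w with
  | nil => rfl
  | cons i w ih => rw [ev_cons, ih, List.flatMap_cons, wd_append]; rfl

private def ltT : ℕ := 0x5141615130c1110170e02010a0709080b030f0d0004120600000000000000000a1615110e0c1410071308120b17090d0f000504010203060000000000000000170e0b14130407060a160d03150f0108111005120c020900000000000000000014160b1713010a10070e08031511040d0f0605090c02120000000000000000000e160b1513060f0c07140809170504120a01110310020d00000000000000000005160b0714010a08111504020f17100c0e03130912060d000000000000000000170a16110e120f061407030c0b1510021309050d040108000000000000000000170a1513140c07060e0f0d120b160902111005030408010000000000000000000a1716110e040506130b08020715090c14100f0d12010300000000000000000014071513170c0a10161108090b0e12020f060503010d040000000000000000001707051413080e10160a010215110d040f060b120c030900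

private noncomputable def ltS (b i x : ℕ) : ℕ :=
  Bool.rec x (Nat.land (Nat.shiftRight ltT (Nat.add (Nat.shiftLeft i 8) (Nat.shiftLeft x 3))) 255) (Nat.ble i b)

private noncomputable def ltA (b : ℕ) (w : List ℕ) (x : ℕ) : ℕ := List.rec x (fun i _ ih => ltS b i ih) w

private theorem ltS_eq (i x : ℕ) (hx : x < 24) : ltS 8 i x = act (W i) x := by
  rcases Nat.lt_or_ge i 9 with hi | hi
  · have h : ∀ i < 9, ∀ x < 24, ltS 8 i x = act (W i) x := by decide +kernel
    exact h i hi x hx
  · obtain ⟨k, rfl⟩ := Nat.exists_eq_add_of_le hi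
    rw [Nat.add_comm]
    rfl

private theorem ltS_eq' (i x : ℕ) (hx : x < 24) : ltS 10 i x = act (W' i) x := by
  rcases Nat.lt_or_ge i 11 with hi | hi
  · have h : ∀ i < 11, ∀ x < 24, ltS 10 i x = act (W' i) x := by decide +kernel
    exact h i hi x hx
  · obtain ⟨k, rfl⟩ := Nat.exists_eq_add_of_le hi
    rw [Nat.add_comm]
    rfl

private theorem act_app (u w : List ℕ) (x : ℕ) : act (u ++ w) x = act u (act w x) := by
  induction u with
  | nil => rfl
  | cons i u ih => exact congrArg (fun y => (ptab i >>> (5 * y)) % 32) ih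

private theorem ltA_eq {b : ℕ} {U : ℕ → List ℕ} (hU : ∀ i x, x < 24 → ltS b i x = act (U i) x) (w : List ℕ) (x : ℕ)
    (hx : x < 24) : ltA b w x = act (w.flatMap U) x := by
  induction w with
  | nil => rfl
  | cons i w ih =>
    rw [List.flatMap_cons, act_app, ← hU i _ (act_spec _ x hx).2, ← ih]
    rfl

private noncomputable def ltE (b : ℕ) (u w : List ℕ) : Bool :=
  Nat.rec true (fun x ih => Bool.rec false ih (Nat.beq (ltA b u x) (ltA b w x))) 24

private theorem ltE_aux (f : ℕ → Bool) (n : ℕ) :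
    (Nat.rec true (fun x ih => Bool.rec false ih (f x)) n : Bool) = allB f n := by
  induction n with
  | zero => rfl
  | succ n ih =>
    show (Bool.rec false (Nat.rec true (fun x ih => Bool.rec false ih (f x)) n) (f n) : Bool) = (f n && allB f n)
    rw [ih]
    cases f n <;> rfl

private theorem ltE_spec {b : ℕ} {U : ℕ → List ℕ} (hU : ∀ i x, x < 24 → ltS b i x = act (U i) x) {u w : List ℕ}
    (h : ltE b u w = true) : wd (u.flatMap U) = wd (w.flatMap U) := by
  have h0 : allB (fun x => Nat.beq (ltA b u x) (ltA b w x)) 24 = true := (ltE_aux _ 24).symm.trans h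
  refine Subtype.ext (Equiv.ext fun z => ?_)
  have h2 := Nat.eq_of_beq_eq_true (allB_spec _ _ h0 (SporadicStructure.M11InvPerms.enc z) (enc_lt z))
  rw [ltA_eq hU _ _ (enc_lt z), ltA_eq hU _ _ (enc_lt z), ← (act_spec _ _ (enc_lt z)).1,
    ← (act_spec _ _ (enc_lt z)).1, dec_enc] at h2
  rw [← dec_enc ((wd _).1 z), h2, dec_enc]

theorem sat_M : Sat vM := by
  have h : (relL.all fun r => ltE 10 r.1 r.2) = true := by decide +kernel
  intro r hr
  rw [ev_vM, ev_vM]
  exact ltE_spec ltS_eq' (List.all_eq_true.1 h r hr)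

/-- the certificates hold -/
def Cert {G : Type*} [Group G] (v : ℕ → G) (L : List (List ℕ × List ℕ × Bool × List (List ℕ))) : Prop :=
  ∀ r ∈ L, ev v r.1 = ev v (rhs r.2)

section

variable {G : Type*} [Group G] {v : ℕ → G} {L : List (List ℕ × List ℕ × Bool × List (List ℕ))}

theorem Cert.map {H : Type*} [Group H] (h : Cert v L) (f : G →* H) : Cert (fun i => f (v i)) L := by
  intro r hr
  rw [← map_ev, ← map_ev, h r hr]

theorem Cert.of_injective {H : Type*} [Group H] {f : G →* H} (hf : Function.Injective f)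
    (h : Cert (fun i => f (v i)) L) : Cert v L := by
  intro r hr
  apply hf
  rw [map_ev, map_ev]
  exact h r hr

end

theorem certA_M : Cert vM certA := by
  have h : (certA.all fun r => ltE 10 r.1 (rhs r.2)) = true := by decide +kernel
  intro r hr
  rw [ev_vM, ev_vM]
  exact ltE_spec ltS_eq' (List.all_eq_true.1 h r hr)

theorem certB_M : Cert vM certB := by
  have h : (certB.all fun r => ltE 10 r.1 (rhs r.2)) = true := by decide +kernel
  intro r hr
  rw [ev_vM, ev_vM]
  exact ltE_spec ltS_eq' (List.all_eq_true.1 h r hr)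

theorem certA_H : Cert vH certA := by
  have h : (certA.all fun r => ltE 8 r.1 (rhs r.2)) = true := by decide +kernel
  intro r hr
  rw [ev_vH, ev_vH]
  exact ltE_spec ltS_eq (List.all_eq_true.1 h r hr)

theorem certA_11 : Cert v11 certA :=
  Cert.of_injective (f := Subgroup.inclusion M11_le) (Subgroup.inclusion_injective _) certA_H

/-- words of the elements of `E` -/
def wE : ℕ → List ℕ
  | 0 => []
  | 1 => [0]
  | 2 => [0, 0]
  | 3 => [1]
  | 4 => [0, 1]
  | 5 => [0, 0, 1]
  | 6 => [1, 1]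
  | 7 => [0, 1, 1]
  | 8 => [0, 0, 1, 1]
  | _ => []

theorem wE_injective : Function.Injective (fun i : Fin 9 => ev v11 (wE i)) := by
  intro i j hij
  have h1 : ev vH (wE i) = ev vH (wE j) := by
    have h2 := congrArg (Subgroup.inclusion M11_le) hij
    simp only [map_ev] at h2
    exact h2
  rw [ev_vH, ev_vH] at h1
  have h3 : ∀ i j : Fin 9, act ((wE i).flatMap W) 3 = act ((wE j).flatMap W) 3 → i = j := by decide +kernel
  apply h3
  have h4 := (act_spec ((wE i).flatMap W) 3 (by norm_num)).1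
  have h5 := (act_spec ((wE j).flatMap W) 3 (by norm_num)).1
  rw [← h4, ← h5, h1]

theorem vM_ne {i : ℕ} (h3 : act (W' i) 3 ≠ 3) : vM i ≠ 1 := by
  intro h
  have h1 : wd (W' i) = wd [] := h
  apply h3
  have h4 := (act_spec (W' i) 3 (by norm_num)).1
  rw [h1, (act_spec [] 3 (by norm_num)).1] at h4
  exact h4.symm

theorem vM_five_ne : vM 5 ≠ 1 := vM_ne (by decide +kernel)

theorem vM_zero_ne : vM 0 ≠ 1 := vM_ne (by decide +kernel)

/-! ### applying the certificates -/

open Module LinearMap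

variable {G : Type*} [Group G] {v : ℕ → G} {k : Type*} [Field k] {V : Type*} [AddCommGroup V] [Module k V]
  {R : G →* End k V} {u : V}

/-- the vector `u` -/
structure Fx (v : ℕ → G) (R : G →* End k V) (u : V) : Prop where
  e₁ : op v R [0] u = u
  e₂ : op v R [1] u = u
  y : op v R [2] u = -u
  s : op v R [3] u = -u

theorem Fx.yy (h : Fx v R u) : op v R [2, 2] u = u := by
  rw [op_cons, Module.End.mul_apply, h.y, map_neg, h.y, neg_neg]

theorem Fx.sy (h : Fx v R u) : op v R [3, 2] u = u := by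
  rw [op_cons, Module.End.mul_apply, h.y, map_neg, h.s, neg_neg]

/-- good blocks -/
def okB (b : List ℕ) : Bool := b == [0] || b == [1] || b == [2, 2] || b == [3, 2]

theorem Fx.block (h : Fx v R u) {b : List ℕ} (hb : okB b = true) : op v R b u = u := by
  simp only [okB, Bool.or_eq_true, beq_iff_eq] at hb
  rcases hb with ((rfl | rfl) | rfl) | rfl
  · exact h.e₁
  · exact h.e₂
  · exact h.yy
  · exact h.sy

theorem Fx.blocks (h : Fx v R u) {L : List (List ℕ)} (hL : L.all okB = true) : op v R L.flatten u = u := by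
  induction L with
  | nil => rw [List.flatten_nil, op_nil]; rfl
  | cons b L ih =>
    rw [List.all_cons, Bool.and_eq_true] at hL
    rw [List.flatten_cons, op_append, Module.End.mul_apply, ih hL.2, h.block hL.1]

/-- look up -/
def has (L : List (List ℕ × List ℕ × Bool × List (List ℕ))) (A B : List ℕ) (n : Bool) : Bool :=
  L.any fun r => r.1 == A && (r.2.1 == B && (r.2.2.1 == n && r.2.2.2.all okB))

theorem Fx.app (h : Fx v R u) {L : List (List ℕ × List ℕ × Bool × List (List ℕ))} (hL : Cert v L) {A B : List ℕ}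
    {n : Bool} (hr : has L A B n = true) : op v R A u = if n then -op v R B u else op v R B u := by
  obtain ⟨⟨A', B', n', bl⟩, hmem, hx⟩ := List.any_eq_true.1 hr
  simp only [Bool.and_eq_true, beq_iff_eq] at hx
  obtain ⟨rfl, rfl, rfl, hbl⟩ := hx
  have h1 : op v R A' = op v R (rhs (B', n', bl)) := by
    unfold op
    rw [hL _ hmem]
  rw [h1, rhs, op_append, op_append, Module.End.mul_apply, Module.End.mul_apply, h.blocks hbl]
  cases n'
  · simp only [Bool.false_eq_true, if_false]
    rw [op_nil]; rfl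
  · simp only [if_true]
    rw [h.y, map_neg]

theorem Fx.pos (h : Fx v R u) {L : List (List ℕ × List ℕ × Bool × List (List ℕ))} (hL : Cert v L) {A B : List ℕ}
    (hr : has L A B false = true) : op v R A u = op v R B u := h.app hL hr

theorem Fx.neg (h : Fx v R u) {L : List (List ℕ × List ℕ × Bool × List (List ℕ))} (hL : Cert v L) {A B : List ℕ}
    (hr : has L A B true = true) : op v R A u = -op v R B u := h.app hL hr

end Cfsg.Agent.H879.Nine.ME

private theorem dce_a1762e2ad61e : _root_.True := by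
  try have : _root_.True := by simp only [_root_.Cfsg.Agent.H879.Nine.ME.okB.eq_1]
  try have : _root_.True := by simp only [_root_.Cfsg.Agent.H879.Nine.ME.rhs.eq_1]
  exact _root_.True.intro
end

-- part: H879/Nine/Asm
section
set_option linter.all false
open scoped Cfsg.Agent.FastGrp

-- part: H879/Nine/RowAlt
section
/-!
# The alternating groups of degree at least 8 in `Ω₉(q)` (helper879)

`alt_row` : `A₁₀` over the prime field, `p ≠ 5, 11`, or `A₁₁`, `|F| = 11`.
-/

set_option autoImplicit false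
set_option linter.unusedSectionVars false

namespace Cfsg.Agent.H879.Nine

open Matrix Equiv Equiv.Perm Cfsg Cfsg.Geo Cfsg.Agent.H915.LD Cfsg.Agent.LieClassical.OrthCore
open Cfsg.Agent.H882.Del Cfsg.Agent.H964.AltMod

universe u

/-- a cycle of length 9 -/
def c9 : Perm (Fin 10) where
  toFun i := ![1, 2, 3, 4, 5, 6, 7, 8, 0, 9] i
  invFun i := ![8, 0, 1, 2, 3, 4, 5, 6, 7, 9] i
  left_inv := by decide
  right_inv := by decide

theorem c9_pow : c9 ^ 9 = 1 := by decide

theorem c9_even : c9 ∈ alternatingGroup (Fin 10) := by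
  rw [mem_alternatingGroup]
  have h := congrArg sign c9_pow
  rw [map_pow, map_one] at h
  rcases Int.units_eq_one_or (sign c9) with h1 | h1
  · exact h1
  · rw [h1] at h
    exact absurd h (by decide)

theorem c9_orbit (j : Fin 10) (hj : j ≠ 9) : ∃ n : ℕ, (c9 ^ n) 0 = j := by
  have h : ∀ j : Fin 10, j ≠ 9 → ∃ n : Fin 9, (c9 ^ (n : ℕ)) 0 = j := by decide
  obtain ⟨n, hn⟩ := h j hj
  exact ⟨n, hn⟩

/-- a 3-group of permutations containing the 9-cycle fixes the last point -/
theorem fix_last (S : Subgroup (Perm (Fin 10))) (hS : IsPGroup 3 S) (hc : c9 ∈ S) {g : Perm (Fin 10)} (hg : g ∈ S) :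
    g 9 = 9 := by
  have h3 : Fact (Nat.Prime 3) := ⟨Nat.prime_three⟩
  by_contra h
  have horb : ∀ j : Fin 10, j ≠ 9 → j ∈ MulAction.orbit S (0 : Fin 10) := by
    intro j hj
    obtain ⟨n, hn⟩ := c9_orbit j hj
    exact ⟨⟨c9 ^ n, pow_mem hc n⟩, hn⟩
  have hall : ∀ j : Fin 10, j ∈ MulAction.orbit S (0 : Fin 10) := by
    intro j
    by_cases hj : j = 9
    · subst hj
      have h1 := horb (g 9) h
      rw [MulAction.mem_orbit_symm] at h1 ⊢
      obtain ⟨⟨k, hk⟩, hk2⟩ := h1
      refine ⟨⟨k * g, mul_mem hk hg⟩, ?_⟩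
      exact hk2
    · exact horb j hj
  obtain ⟨n, hn⟩ := hS.card_orbit (0 : Fin 10)
  have h10 : Nat.card (MulAction.orbit S (0 : Fin 10)) = 10 := by
    have : MulAction.orbit S (0 : Fin 10) = Set.univ := Set.eq_univ_of_forall hall
    rw [this, Nat.card_congr (Equiv.Set.univ _), Nat.card_eq_fintype_card, Fintype.card_fin]
  rw [h10] at hn
  rcases Nat.lt_or_ge n 3 with h1 | h1
  · interval_cases n <;> omega
  · have : 3 ^ 3 ≤ 3 ^ n := Nat.pow_le_pow_right (by norm_num) h1
    omega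

section

variable {ι : Type} [Fintype ι] [DecidableEq ι] {F : Type u} [Field F] [Fintype F] {p : ℕ}
  {Q : QuadraticForm F (ι → F)} {H P : Subgroup (GL ι F)}

/-- `A₁₀`, `p = 11` -/
theorem a10_eleven (c : Ctx 11 Q H P) (φ : P ≃* alternatingGroup (Fin 10)) {w : Fin 10 → Fin 10 → (ι → F)}
    (N : NatM (H964.AltMod.rep φ) w) : False := by
  have hp := Fact.mk c.prime
  have hch := c.charP
  have h3f : Fact (Nat.Prime 3) := ⟨Nat.prime_three⟩
  have hnat : ∀ {a : ℕ}, a < 11 → a ≠ 0 → (a : F) ≠ 0 := by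
    intro a ha h0 h
    rw [CharP.cast_eq_zero_iff F 11] at h
    exact h0 (Nat.eq_zero_of_dvd_of_lt h ha)
  have h3 : (3 : F) ≠ 0 := by exact_mod_cast hnat (a := 3) (by norm_num) (by norm_num)
  have h10 : (Fintype.card (Fin 10) : F) ≠ 0 := by
    rw [Fintype.card_fin]
    exact hnat (by norm_num) (by norm_num)
  have hS : Sys F (NatM.vec w) := N.sys_of_ne (by decide) h10
  set v := NatM.vec w with hv
  have hact : ∀ (g : P) (i : Fin 10), ((g : GL ι F) : Matrix ι ι F) *ᵥ v i = v (((φ g : alternatingGroup (Fin 10)) : Perm (Fin 10)) i) := by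
    intro g i
    rw [← H964.AltMod.rep_apply' φ]
    exact N.act_vec (φ g) i
  -- the point stabiliser
  let K : Subgroup P := (MulAction.stabilizer (alternatingGroup (Fin 10)) (9 : Fin 10)).comap φ.toMonoidHom
  have hK : ∀ g : P, g ∈ K ↔ (φ g : alternatingGroup (Fin 10)) • (9 : Fin 10) = 9 := fun g => Iff.rfl
  have hKi : K.index = Fintype.card ι + 1 := by
    rw [c.nine]
    have h1 : K.index = (MulAction.stabilizer (alternatingGroup (Fin 10)) (9 : Fin 10)).index :=
      Subgroup.index_comap_of_surjective _ φ.surjective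
    rw [h1, MulAction.index_stabilizer]
    have h2 : MulAction.orbit (alternatingGroup (Fin 10)) (9 : Fin 10) = Set.univ := by
      apply Set.eq_univ_of_forall
      intro j
      obtain ⟨i', hi'⟩ : ∃ i : Fin 10, i ≠ 9 := ⟨0, by decide⟩
      obtain ⟨j', hj'⟩ : ∃ i : Fin 10, j ≠ i := ⟨if j = 0 then 1 else 0, by split_ifs with h <;> simp [h]⟩
      obtain ⟨g, hg, -⟩ := exists_g (α := Fin 10) (by decide) hi'.symm hj'
      exact ⟨g, hg⟩
    rw [h2, Set.ncard_univ, Nat.card_eq_fintype_card, Fintype.card_fin]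
  have hfix : ∀ k ∈ K, ((k : GL ι F) : Matrix ι ι F) *ᵥ v 9 = v 9 := by
    intro k hk
    rw [hact]
    exact congrArg v ((hK k).1 hk)
  have hdc : ∀ g ∉ K, ∀ g' ∉ K, ∃ k ∈ K, ∃ k' ∈ K, g' = k * g * k' := by
    intro g hg g' hg'
    rw [hK] at hg hg'
    obtain ⟨k, hk1, hk2⟩ := exists_g (α := Fin 10) (by decide) (Ne.symm hg) (Ne.symm hg')
    refine ⟨φ.symm k, ?_, (φ.symm k * g)⁻¹ * g', ?_, by group⟩
    · rw [hK, φ.apply_symm_apply]; exact hk1
    · rw [hK, map_mul, map_inv, map_mul, φ.apply_symm_apply, mul_smul, inv_smul_eq_iff, mul_smul]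
      exact hk2.symm
  -- a Sylow 3-subgroup
  let x : P := φ.symm ⟨c9, c9_even⟩
  have hx9 : x ^ 9 = 1 := by
    apply φ.injective
    rw [map_pow, φ.apply_symm_apply, map_one]
    exact Subtype.ext c9_pow
  have hzp : IsPGroup 3 (Subgroup.zpowers x) := by
    rintro ⟨_, n, rfl⟩
    refine ⟨2, Subtype.ext ?_⟩
    show ((x ^ n) ^ (3 ^ 2) : P) = 1
    rw [← zpow_natCast, ← _root_.zpow_mul, mul_comm, _root_.zpow_mul, zpow_natCast, show (3 : ℕ) ^ 2 = 9 by norm_num,
      hx9, _root_.one_zpow]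
  obtain ⟨U, hU⟩ := hzp.exists_le_sylow
  have hxU : x ∈ U := hU (Subgroup.mem_zpowers x)
  let ψ : P →* Perm (Fin 10) := (alternatingGroup (Fin 10)).subtype.comp φ.toMonoidHom
  have hψx : ψ x = c9 := by
    show ((φ (φ.symm ⟨c9, c9_even⟩) : alternatingGroup (Fin 10)) : Perm (Fin 10)) = c9
    rw [φ.apply_symm_apply]
  have hUfix : ∀ u ∈ U, ((u : GL ι F) : Matrix ι ι F) *ᵥ v 9 = v 9 := by
    intro u hu
    rw [hact]
    exact congrArg v (fix_last (((U : Subgroup P).map ψ :)) (U.2.map ψ) (hψx ▸ ⟨x, hxU, rfl⟩) ⟨u, hu, rfl⟩)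
  have huniq : ∀ y : ι → F, (∀ u ∈ U, ((u : GL ι F) : Matrix ι ι F) *ᵥ y = y) → ∃ d : F, y = d • v 9 := by
    intro y hy
    have hyx := hy x hxU
    have hspan : y ∈ Submodule.span F (Set.range v) := by rw [hS.span]; trivial
    obtain ⟨a, ha⟩ := (Submodule.mem_span_range_iff_exists_fun F).1 hspan
    have hmv : ∀ b : Fin 10 → F, ((x : GL ι F) : Matrix ι ι F) *ᵥ (∑ i, b i • v i) = ∑ i, b (c9⁻¹ i) • v i := by
      intro b
      rw [← Matrix.mulVecLin_apply, map_sum, ← Equiv.sum_comp c9 (fun i => b (c9⁻¹ i) • v i)]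
      refine Finset.sum_congr rfl fun i _ => ?_
      rw [map_smul, Matrix.mulVecLin_apply, hact]
      have e1 : c9⁻¹ (c9 i) = i := c9.symm_apply_apply i
      rw [e1]
      congr 1
      show v (ψ x i) = v (c9 i)
      rw [hψx]
    have h1 : ∑ i, (a (c9⁻¹ i) - a i) • v i = 0 := by
      simp only [sub_smul, Finset.sum_sub_distrib]
      rw [← hmv a, ha, hyx, sub_self]
    have h2 := hS.rel h1
    have h3 : ∀ i, a (c9⁻¹ i) = a i := by
      intro i
      have := h2 i 9
      have e9 : c9⁻¹ (9 : Fin 10) = 9 := by decide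
      rw [e9, sub_self] at this
      exact sub_eq_zero.1 this
    have h4 : ∀ n : ℕ, a ((c9 ^ n) 0) = a 0 := by
      intro n
      induction n with
      | zero => rfl
      | succ n ih =>
        rw [← ih, ← h3 ((c9 ^ (n + 1)) 0), pow_succ']
        congr 1
        exact c9.symm_apply_apply _
    have h5 : ∀ i : Fin 10, i ≠ 9 → a i = a 0 := by
      intro i hi
      obtain ⟨n, hn⟩ := c9_orbit i hi
      rw [← hn, h4]
    refine ⟨a 9 - a 0, ?_⟩
    have h6 : ∑ i, a i • v i = ∑ i, a 0 • v i + (a 9 - a 0) • v 9 := by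
      have h7 : ∀ i, a i • v i = a 0 • v i + (if i = 9 then (a 9 - a 0) • v 9 else 0) := by
        intro i
        split_ifs with hi
        · subst hi
          rw [← add_smul, add_sub_cancel]
        · rw [h5 i hi, add_zero]
      rw [Finset.sum_congr rfl fun i _ => h7 i, Finset.sum_add_distrib, Finset.sum_ite_eq' Finset.univ (9 : Fin 10),
        if_pos (Finset.mem_univ _)]
    rw [← ha, h6, ← Finset.smul_sum, hS.sum, smul_zero, zero_add]
  have hl := lines_of_sylow (H := H) U hUfix huniq c.res.normal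
  obtain ⟨-, -, h⟩ := mat_main c.two c.nd (by rw [c.nine]; norm_num) c.max c.res hKi (hS.ne_zero 9) hfix hdc hl (m := 10)
    (by rw [c.nine])
  apply h h3
  have : ((11 : ℕ) : F) = 0 := CharP.cast_eq_zero F 11
  rw [← this]
  norm_num

/-- **The alternating groups of degree at least 8.** -/
theorem alt_row (c : Ctx p Q H P) {m : ℕ} (hm : 8 ≤ m) (e : Soc P ≃* alternatingGroup (Fin m)) :
    (m = 10 ∧ Fintype.card F = p ∧ p ≠ 5 ∧ p ≠ 11) ∨ (m = 11 ∧ Fintype.card F = 11) := by
  have hp := Fact.mk c.prime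
  have hch := c.charP
  have h9 := c.nine
  rcases H614.AMod.Main.alt_cases c.core p e hm (by omega) (fun h => c.ne_two h.2) with h | h | h
  · have hcard := c.core.card_eq p (h.fr c.core hm p)
    rcases h.dim c.core hm p with ⟨h1, h2⟩ | ⟨h1, h2⟩
    · left
      obtain rfl : m = 10 := by omega
      refine ⟨rfl, hcard, ?_, ?_⟩
      · rintro rfl
        exact h1 (by norm_num)
      · rintro rfl
        obtain ⟨φ, -, w, hw⟩ := h.nat
        exact a10_eleven c φ hw
    · right
      obtain rfl : m = 11 := by omega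
      have h3 : p = 11 := (Nat.prime_dvd_prime_iff_eq c.prime (by norm_num)).1 h1
      exact ⟨rfl, by rw [hcard, h3]⟩
  · have := h.n8
    omega
  · omega

end

end Cfsg.Agent.H879.Nine
end

-- part: H879/Nine/RowsQ
section
/-!
# `Ω₉(q)`: short rows (helper879)

`A₅`, `L₂(7)`, `L₂(11)`, `L₂(13)`, `Sp₆(2)`, `U₄(3)`.
-/

set_option autoImplicit false
set_option linter.unusedSectionVars false

namespace Cfsg.Agent.H879.Nine

open Matrix Cfsg Cfsg.Geo Cfsg.Agent.H915.LD Cfsg.Agent.LieClassical.OrthCore Cfsg.Agent.H936.List12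
  Cfsg.Agent.H912.Bd Cfsg.Agent.H912.Five

universe u v

variable {F : Type u} [Field F] [Fintype F] {P : Subgroup (GL (Fin 9) F)}

/-- `Sp₆(2)` -/
theorem row_sp62 (hC : Core P) (h2 : (2 : F) ≠ 0) (h : IsS 3 2 (Soc P)) : False := by
  classical
  obtain ⟨K, iF, iT, hK, ⟨e⟩⟩ := h
  have h1 : ∀ x : K, x = 0 ∨ x = 1 := by
    intro x
    by_contra hx
    push Not at hx
    have : ({0, 1, x} : Finset K).card ≤ Fintype.card K := Finset.card_le_univ _
    rw [Finset.card_insert_of_notMem, Finset.card_insert_of_notMem, Finset.card_singleton, hK] at this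
    · omega
    · simp only [Finset.mem_singleton]; exact fun h => hx.2 h.symm
    · simp only [Finset.mem_insert, Finset.mem_singleton, not_or]; exact ⟨zero_ne_one, fun h => hx.1 h.symm⟩
  have := H916.SpSix.spSix_dim h1 hC e h2 (by decide)
  rw [Fintype.card_fin] at this
  omega

/-- `U₄(3)` -/
theorem row_u43 {p : ℕ} [hp : Fact p.Prime] [CharP F p] (hp3 : p ≠ 3) (hb : (scalars (Fin 9) F).subgroupOf P = ⊥)
    (h : IsU 4 3 (Soc P)) : False := by
  obtain ⟨K, iF, iT, hK, ⟨e⟩⟩ := h
  have h3 : CharP K 3 := charP_of_dvd Nat.prime_three (by rw [hK]; norm_num)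
  have h3F : ((3 : ℕ) : F) ≠ 0 := cast_ne (p := p) Nat.prime_three (fun h => hp3 h.symm)
  have h1 : PR F 9 3 (Soc P) := PR.of_scalars P (MulEquiv.refl _) (by rw [hb]; simp)
  have := H175.BdSU.bd_psu (F := F) Nat.prime_three hK (by norm_num) h3F e 9 h1
  omega

/-- `L₂(q)`, cross characteristic: `q = 8, 17, 19` -/
theorem row_l2 {p : ℕ} [hp : Fact p.Prime] [CharP F p] (hC : Core P) {q : ℕ}
    (hq : q ∈ ({7, 8, 11, 13, 17, 19, 23, 25} : Finset ℕ)) (hpq : ¬ p ∣ q) (h : IsL 2 q (Soc P)) :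
    q = 8 ∨ q = 17 ∨ q = 19 := by
  obtain ⟨K, iF, iT, hK, ⟨e⟩⟩ := h
  have h5 : 5 ≤ Fintype.card K := by
    rw [hK]
    revert hq
    simp only [Finset.mem_insert, Finset.mem_singleton]
    omega
  have h9 : Fintype.card K ≠ 9 := by
    rw [hK]
    revert hq
    simp only [Finset.mem_insert, Finset.mem_singleton]
    omega
  have h1 := H464.Sl2.l2_degrees p hC h5 h9 (by rw [hK]; exact hpq) e (by decide)
  rw [hK, Fintype.card_fin] at h1
  rcases h1 with ⟨h1, h2⟩ | ⟨h1, h2⟩ | ⟨h1, h2⟩ | ⟨h1, h2⟩ | ⟨h1, h2⟩ | ⟨h1, h2⟩ | ⟨h1, h2⟩ | ⟨h1, h2⟩ | ⟨h1, h2⟩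
  · exact absurd h2 (by decide)
  · exact absurd h2 (by decide)
  · exact Or.inl h1
  · exact absurd h2 (by decide)
  · exact absurd h2 (by decide)
  · exact Or.inr (Or.inl h1)
  · exact Or.inr (Or.inr h1)
  · exact absurd h2 (by decide)
  · exact absurd h2 (by decide)

/-- `A₅` -/
theorem row_a5 {p : ℕ} [hp : Fact p.Prime] [CharP F p] (hC : Core P) (hL : ¬ p = 5)
    (e : Soc P ≃* alternatingGroup (Fin 5)) : False := by
  have := H937.T2.a5_dims p hC e hL
  rw [Fintype.card_fin] at this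
  exact absurd this (by decide)

end Cfsg.Agent.H879.Nine
end

-- part: H879/Nine/MECore
section
/-!
# The Mathieu group of degree 11 in dimension 9, characteristic 11: the vector `u` (helper879)
-/

set_option autoImplicit false
set_option maxRecDepth 100000

namespace Cfsg.Agent.H879.Nine.ME

open Cfsg Cfsg.Agent.H6.M11 Module LinearMap

theorem nat_eq {k : Type*} [Field k] [CharP k 11] {a b : ℕ} (ha : a < 11) (hb : b < 11) (h : (a : k) = b) : a = b :=
  CharP.natCast_injOn_Iio k 11 ha hb h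

theorem two_ne (k : Type*) [Field k] [CharP k 11] : (2 : k) ≠ 0 := by
  intro h
  have : ((2 : ℕ) : k) = ((0 : ℕ) : k) := by rw [Nat.cast_ofNat, h, Nat.cast_zero]
  exact absurd (nat_eq (by norm_num) (by norm_num) this) (by norm_num)

variable {G : Type*} [Group G] {v : ℕ → G} {k : Type*} [Field k] {V : Type*} [AddCommGroup V] [Module k V]
  {R : G →* End k V} {u : V}

/-- `τ u ≠ u` -/
theorem Fx.tau_ne (h : Fx v R u) (hL : Cert v certA) (h2 : (2 : k) ≠ 0) (hu : u ≠ 0) : op v R [4, 4] u ≠ u := by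
  intro ht
  have k1 : op v R [4, 4, 7] u = u := (h.pos hL (B := [4, 4]) (by decide +kernel)).trans ht
  have k2 : op v R [1, 7] u = u := (h.pos hL (B := []) (by decide +kernel)).trans (by rw [op_nil]; rfl)
  have k3 : op v R [5, 4, 1, 7] u = u := by
    rw [h.pos hL (B := [1, 7, 4, 4]) (by decide +kernel), show ([1, 7, 4, 4] : List ℕ) = [1, 7] ++ [4, 4] from rfl,
      op_append, Module.End.mul_apply, ht, k2]
  have k3t := h.neg hL (A := [5, 4, 1, 7, 4, 4]) (B := [4, 4, 7, 4, 4]) (by decide +kernel)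
  rw [show ([5, 4, 1, 7, 4, 4] : List ℕ) = [5, 4, 1, 7] ++ [4, 4] from rfl,
    show ([4, 4, 7, 4, 4] : List ℕ) = [4, 4, 7] ++ [4, 4] from rfl, op_append, op_append, Module.End.mul_apply,
    Module.End.mul_apply, ht, k3, k1] at k3t
  apply hu
  have h5 : (2 : k) • u = 0 := by rw [two_smul]; nth_rewrite 1 [k3t]; rw [neg_add_cancel]
  exact (smul_eq_zero.1 h5).resolve_left h2

/-- if `u, τ u, τ² u` are dependent then their sum is zero -/
theorem Fx.sum_zero (h : Fx v R u) (hL : Cert v certA) (h2 : (2 : k) ≠ 0) (hu : u ≠ 0) {α β γ : k}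
    (hne : ¬ (α = 0 ∧ β = 0 ∧ γ = 0))
    (hr : α • u + β • op v R [4, 4] u + γ • op v R [4, 4, 4, 4] u = 0) :
    u + op v R [4, 4] u + op v R [4, 4, 4, 4] u = 0 := by
  set a1 := op v R [4, 4] u with ha1
  set a2 := op v R [4, 4, 4, 4] u with ha2
  have t1 : op v R [4, 4] a1 = a2 := by
    rw [ha1, ha2, ← Module.End.mul_apply, ← op_append]; rfl
  have t2 : op v R [4, 4] a2 = u := by
    rw [ha2, ← Module.End.mul_apply, ← op_append]
    exact (h.pos hL (A := [4, 4, 4, 4, 4, 4]) (B := []) (by decide +kernel)).trans (by rw [op_nil]; rfl)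
  have y1 : op v R [2] a1 = -a2 := by
    rw [ha1, ← Module.End.mul_apply, ← op_append]
    exact h.neg hL (A := [2, 4, 4]) (B := [4, 4, 4, 4]) (by decide +kernel)
  have y2 : op v R [2] a2 = -a1 := by
    rw [ha2, ← Module.End.mul_apply, ← op_append]
    exact h.neg hL (A := [2, 4, 4, 4, 4]) (B := [4, 4]) (by decide +kernel)
  have r2 : α • u + β • a2 + γ • a1 = 0 := by
    have := congrArg (fun x => -(op v R [2] x)) hr
    simp only [map_add, map_smul, h.y, y1, y2, map_zero, neg_zero, neg_add, smul_neg, neg_neg] at this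
    exact this
  have r1' : α • a1 + β • a2 + γ • u = 0 := by
    have := congrArg (fun x => op v R [4, 4] x) hr
    simp only [map_add, map_smul, ← ha1, t1, t2, map_zero] at this
    exact this
  have r2' : α • a2 + β • a1 + γ • u = 0 := by
    have := congrArg (fun x => -(op v R [2] x)) r1'
    simp only [map_add, map_smul, h.y, y1, y2, map_zero, neg_zero, neg_add, smul_neg, neg_neg] at this
    exact this
  have hne12 : a1 ≠ a2 := by
    intro h12
    apply h.tau_ne hL h2 hu
    have h3 : op v R [4, 4] a1 = op v R [4, 4] a2 := by rw [h12]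
    rw [t1, t2] at h3
    rw [← ha1, h12, h3]
  have e1 : (β - γ) • (a1 - a2) = 0 := by
    have : (α • u + β • a1 + γ • a2) - (α • u + β • a2 + γ • a1) = 0 := by rw [hr, r2, sub_zero]
    rw [← this]; module
  have e2 : (α - β) • (a1 - a2) = 0 := by
    have : (α • a1 + β • a2 + γ • u) - (α • a2 + β • a1 + γ • u) = 0 := by rw [r1', r2', sub_zero]
    rw [← this]; module
  have hd : a1 - a2 ≠ 0 := sub_ne_zero.2 hne12
  have f1 : β = γ := sub_eq_zero.1 ((smul_eq_zero.1 e1).resolve_right hd)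
  have f2 : α = β := sub_eq_zero.1 ((smul_eq_zero.1 e2).resolve_right hd)
  subst f2
  subst f1
  have hα : α ≠ 0 := fun h0 => hne ⟨h0, h0, h0⟩
  rw [← smul_add, ← smul_add] at hr
  exact (smul_eq_zero.1 hr).resolve_left hα

variable [FiniteDimensional k V] {ω : k}

/-- **The vector `u`.** -/
theorem exists_u [CharP k 11] (h : Sat v) (hL : Cert v certA) (hω : IsPrimitiveRoot ω 3) (hE : op v R [0] ≠ 1)
    (hV : finrank k V = 9) :
    ∃ u : V, u ≠ 0 ∧ Fx v R u ∧ (∀ w ∈ Wt v R 1 1, ∃ c : k, w = c • u) ∧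
      u + op v R [4, 4] u + op v R [4, 4, 4, 4] u = 0 := by
  have h2 : (2 : k) ≠ 0 := two_ne k
  have h3 : (3 : k) ≠ 0 := three_ne hω
  obtain ⟨f, a, α, β, ε, hε, -, hd, hCp, -, hα, hβ, hαβ, ht3, -, hβε, -⟩ := h.basic (R := R) hω h2 hE (by omega)
  have hf : f = 1 := by omega
  have ha : a = 0 := by omega
  subst hf
  subst ha
  have hβ1 : β = 1 := by
    rcases Nat.eq_zero_or_pos β with h0 | h0
    · exfalso
      rw [h0] at hβε
      push_cast at hβε
      exact eps_ne hε (by linear_combination -hβε)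
    · omega
  subst hβ1
  have hW := h.wt_zero (R := R) hω hE (by omega)
  have hW1 : finrank k (Wt v R 1 1) = 1 := by omega
  have hle : Cp v R ⊓ End.eigenspace (op v R [3]) (-1) ≤ Wt v R 1 1 := inf_le_left.trans inf_le_left
  have heq : Cp v R ⊓ End.eigenspace (op v R [3]) (-1) = Wt v R 1 1 :=
    Submodule.eq_of_le_of_finrank_eq hle (by rw [hβ, hW1])
  obtain ⟨⟨u, hu⟩, hu0, huniq⟩ := finrank_eq_one_iff'.1 hW1
  have hu0' : u ≠ 0 := fun h0 => hu0 (Subtype.ext h0)
  have huniq' : ∀ w ∈ Wt v R 1 1, ∃ c : k, w = c • u := by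
    intro w hw
    obtain ⟨c, hc⟩ := huniq ⟨w, hw⟩
    exact ⟨c, (congrArg Subtype.val hc).symm⟩
  have hu' := hu
  rw [mem_Wt, one_smul] at hu'
  have hs : op v R [3] u = -u := by
    have h4 : u ∈ Cp v R ⊓ End.eigenspace (op v R [3]) (-1) := by rw [heq]; exact hu
    have := (Submodule.mem_inf.1 h4).2
    rwa [End.mem_eigenspace_iff, neg_one_smul] at this
  obtain ⟨c, hc⟩ := huniq' (op v R [2] u) (by
    have := h.y_mem hu
    simpa only [one_pow, one_mul] using this)
  have hc0 : c ≠ 0 := by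
    rintro rfl
    rw [zero_smul] at hc
    exact hu0' (op_injective v R [2] (by rw [hc, map_zero]))
  -- traces on the fixed space of `E`
  have htE : ∀ (w : List ℕ) (d : k), op v R w u = d • u → tE v R w = d := by
    intro w d hd
    have h4 : op v R w * pE v R = d • pE v R := by
      ext x
      rw [Module.End.mul_apply, LinearMap.smul_apply]
      obtain ⟨e, he⟩ := huniq' _ ((h.isProj_pE (R := R) hω).map_mem x)
      rw [he, map_smul, hd, smul_comm]
    rw [tE, h4, map_smul, trace_isProj (h.isProj_pE hω), hW1, Nat.cast_one, smul_eq_mul, mul_one]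
  have e1 : tE v R [2, 2] = c * c := htE _ _ (by
    rw [op_cons, Module.End.mul_apply, hc, map_smul, hc, smul_smul])
  have e2 : tE v R [3, 2] = -c := htE _ _ (by
    rw [op_cons, Module.End.mul_apply, hc, map_smul, hs, smul_neg, neg_smul])
  have e3 : c = -1 := by
    have h4 := h.tE_q (R := R) h3
    have h5 := h.tE_yy (R := R) h3
    rw [e2] at h4
    rw [e1] at h5
    have h6 : c * (c + 1) = 0 := by linear_combination h5 - h4
    have := (mul_eq_zero.1 h6).resolve_left hc0
    linear_combination this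
  subst e3
  have hy : op v R [2] u = -u := by rw [hc, neg_one_smul]
  have hFx : Fx v R u := ⟨hu'.1, hu'.2, hy, hs⟩
  refine ⟨u, hu0', hFx, huniq', ?_⟩
  have t4 : tw v R [2, 2] = 1 := by
    rw [← h.tE_yy (R := R) h3, e1]; ring
  have t2 : tw v R [3] = 1 := by rw [ht3]; push_cast; ring
  -- the fixed space of `Q8`
  set Y := op v R [2, 2] with hY
  set q := op v R [3, 2] with hq
  have hYq : Y * q = q * (Y * (Y * Y)) := by
    rw [hY, hq, ← op_append, ← op_append, ← op_append, ← op_append]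
    exact h.op_eq (by decide +kernel)
  have hqq : q * q = Y * Y := by
    rw [hY, hq, ← op_append, ← op_append]
    exact h.op_eq (by decide +kernel)
  have hY4 : Y ^ 4 = 1 := by
    have h8 : op v R [2, 2, 2, 2, 2, 2, 2, 2] = 1 := by
      rw [← op_nil v R]
      exact h.op_eq (by decide +kernel)
    rw [← h8, hY, pow_succ, pow_succ, pow_succ, pow_one, ← op_append, ← op_append, ← op_append]
    rfl
  have h4k : ((4 : ℕ) : k) ≠ 0 := by
    intro h0
    have : ((4 : ℕ) : k) = ((0 : ℕ) : k) := by rw [h0, Nat.cast_zero]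
    exact absurd (nat_eq (by norm_num) (by norm_num) this) (by norm_num)
  let T : Submodule k V := fix Y ⊓ fix q
  let Pi : End k V := (2 : k)⁻¹ • ((1 + q) * av 4 Y)
  have hPi : IsProj T Pi := by
    refine ⟨fun x => ?_, fun x hx => ?_⟩
    · have hw : Y (av 4 Y x) = av 4 Y x := av_apply_mem hY4 x
      have hx : Pi x = (2 : k)⁻¹ • (av 4 Y x + q (av 4 Y x)) := rfl
      rw [hx]
      refine Submodule.smul_mem _ _ (Submodule.mem_inf.2 ⟨mem_fix.2 ?_, mem_fix.2 ?_⟩)
      · rw [map_add, ← Module.End.mul_apply Y q, hYq]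
        simp only [Module.End.mul_apply, hw]
      · rw [map_add, ← Module.End.mul_apply q q, hqq]
        simp only [Module.End.mul_apply, hw]
        rw [add_comm]
    · obtain ⟨hx1, hx2⟩ := Submodule.mem_inf.1 hx
      rw [mem_fix] at hx1 hx2
      show (2 : k)⁻¹ • (av 4 Y x + q (av 4 Y x)) = x
      rw [av_apply_of_fix h4k hx1, hx2, half_add h2]
  have htr : 8 * LinearMap.trace k V Pi = 16 := by
    have h8 : Pi = (2 : k)⁻¹ • ((4 : k)⁻¹ • (op v R [] + op v R [2, 2] + op v R [2, 2, 2, 2] + op v R [2, 2, 2, 2, 2, 2] +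
        (op v R [3, 2] + op v R [3, 2, 2, 2] + op v R [3, 2, 2, 2, 2, 2] + op v R [3, 2, 2, 2, 2, 2, 2, 2]))) := by
      have p2 : op v R [2, 2, 2, 2] = Y ^ 2 := by rw [pow_two, hY, ← op_append]; rfl
      have p3 : op v R [2, 2, 2, 2, 2, 2] = Y ^ 3 := by rw [pow_succ, ← p2, hY, ← op_append]; rfl
      have p4 : op v R [3, 2, 2, 2] = q * Y := by rw [hY, hq, ← op_append]; rfl
      have p5 : op v R [3, 2, 2, 2, 2, 2] = q * Y ^ 2 := by rw [← p2, hq, ← op_append]; rfl
      have p6 : op v R [3, 2, 2, 2, 2, 2, 2, 2] = q * Y ^ 3 := by rw [← p3, hq, ← op_append]; rfl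
      rw [p2, p3, p4, p5, p6, op_nil]
      show (2 : k)⁻¹ • ((1 + q) * (((4 : ℕ) : k)⁻¹ • ∑ i ∈ Finset.range 4, Y ^ i)) = _
      rw [Finset.sum_range_succ, Finset.sum_range_succ, Finset.sum_range_succ, Finset.sum_range_one, mul_smul_comm]
      push_cast
      congr 2
      simp only [pow_zero, pow_one, add_mul, one_mul, mul_add, mul_one]
      try abel
    have h9 := congrArg (LinearMap.trace k V) h8
    simp only [map_smul, map_add, smul_eq_mul] at h9
    change LinearMap.trace k V Pi = (2 : k)⁻¹ * ((4 : k)⁻¹ * (tw v R [] + tw v R [2, 2] + tw v R [2, 2, 2, 2] +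
      tw v R [2, 2, 2, 2, 2, 2] + (tw v R [3, 2] + tw v R [3, 2, 2, 2] + tw v R [3, 2, 2, 2, 2, 2] +
      tw v R [3, 2, 2, 2, 2, 2, 2, 2]))) at h9
    rw [h.t_2222, h.t_222222, h.t_32, h.t_3222, h.t_322222, h.t_32222222, t4, t2, tw_nil, hV] at h9
    have h4k' : (4 : k) ≠ 0 := by exact_mod_cast h4k
    rw [h9]
    push_cast
    field_simp
    norm_num
  rw [trace_isProj hPi] at htr
  have hT : finrank k T = 2 := by
    have h8 : (8 : k) ≠ 0 := by
      intro h0
      have : ((8 : ℕ) : k) = ((0 : ℕ) : k) := by push_cast; exact h0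
      exact absurd (nat_eq (by norm_num) (by norm_num) this) (by norm_num)
    have h9 : (finrank k T : k) = ((2 : ℕ) : k) := by
      apply mul_left_cancel₀ h8
      rw [htr]; push_cast; norm_num
    have h10 := Submodule.finrank_le T
    exact nat_eq (by omega) (by norm_num) h9
  -- the three vectors
  have m0 : u ∈ T := Submodule.mem_inf.2 ⟨mem_fix.2 hFx.yy, mem_fix.2 hFx.sy⟩
  have m1 : op v R [4, 4] u ∈ T := by
    refine Submodule.mem_inf.2 ⟨mem_fix.2 ?_, mem_fix.2 ?_⟩
    · rw [hY, ← Module.End.mul_apply, ← op_append]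
      exact hFx.pos hL (A := [2, 2, 4, 4]) (B := [4, 4]) (by decide +kernel)
    · rw [hq, ← Module.End.mul_apply, ← op_append]
      exact hFx.pos hL (A := [3, 2, 4, 4]) (B := [4, 4]) (by decide +kernel)
  have m2 : op v R [4, 4, 4, 4] u ∈ T := by
    refine Submodule.mem_inf.2 ⟨mem_fix.2 ?_, mem_fix.2 ?_⟩
    · rw [hY, ← Module.End.mul_apply, ← op_append]
      exact hFx.pos hL (A := [2, 2, 4, 4, 4, 4]) (B := [4, 4, 4, 4]) (by decide +kernel)
    · rw [hq, ← Module.End.mul_apply, ← op_append]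
      exact hFx.pos hL (A := [3, 2, 4, 4, 4, 4]) (B := [4, 4, 4, 4]) (by decide +kernel)
  have hdep : ¬ LinearIndependent k (![⟨u, m0⟩, ⟨_, m1⟩, ⟨_, m2⟩] : Fin 3 → T) := by
    intro hli
    have := hli.fintype_card_le_finrank
    rw [hT, Fintype.card_fin] at this
    omega
  obtain ⟨g, hg, i, hi⟩ := Fintype.not_linearIndependent_iff.1 hdep
  rw [Fin.sum_univ_three] at hg
  have hg' := congrArg Subtype.val hg
  refine hFx.sum_zero hL h2 hu0' (α := g 0) (β := g 1) (γ := g 2) ?_ hg'
  rintro ⟨h0, h1, h2'⟩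
  fin_cases i
  · exact hi h0
  · exact hi h1
  · exact hi h2'

/-- the Mathieu group of degree 12 has no module of dimension 9 in characteristic 11 -/
theorem no_twelve [CharP k 11] (h : Sat v) (hL : Cert v certA) (hB : Cert v certB) (hω : IsPrimitiveRoot ω 3)
    (hE : op v R [0] ≠ 1) (hV : finrank k V = 9) : False := by
  have h2 : (2 : k) ≠ 0 := two_ne k
  obtain ⟨u, hu0, hu, huniq, hsum⟩ := exists_u (R := R) h hL hω hE hV
  have hz : op v R [9] u ∈ Wt v R 1 1 := by
    rw [mem_Wt, one_smul, ← Module.End.mul_apply, ← Module.End.mul_apply, ← op_append, ← op_append]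
    exact ⟨hu.pos hB (A := [0, 9]) (B := [9]) (by decide +kernel), hu.pos hB (A := [1, 9]) (B := [9]) (by decide +kernel)⟩
  obtain ⟨c, hc⟩ := huniq _ hz
  have hinj : ∀ {a b : k}, a • u = b • u → a = b := by
    intro a b hab
    rw [← sub_eq_zero, ← sub_smul] at hab
    exact sub_eq_zero.1 ((smul_eq_zero.1 hab).resolve_right hu0)
  have c2 : c * c = 1 := by
    have h1 := hu.pos hB (A := [9, 9]) (B := []) (by decide +kernel)
    rw [op_cons, Module.End.mul_apply, hc, map_smul, hc, smul_smul, op_nil, Module.End.one_apply] at h1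
    exact hinj (h1.trans (one_smul k u).symm)
  have c3 : -(c * c * c) = 1 := by
    have h1 := hu.pos hB (A := [9, 2, 9, 2, 9, 2]) (B := []) (by decide +kernel)
    rw [op_cons v R 9 [2, 9, 2, 9, 2], op_cons v R 2 [9, 2, 9, 2], op_cons v R 9 [2, 9, 2], op_cons v R 2 [9, 2],
      op_cons v R 9 [2]] at h1
    simp only [Module.End.mul_apply, hu.y, map_neg, hc, map_smul, op_nil, Module.End.one_apply] at h1
    have h3 : (-(c * c * c)) • u = -(c • -(c • -(c • u))) := by module
    exact hinj ((h3.trans h1).trans (one_smul k u).symm)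
  have hc1 : c = -1 := by linear_combination (-c) * c2 - c3
  subst hc1
  have z0 : op v R [9] u = -u := by rw [hc, neg_one_smul]
  have z2 : op v R [9] (op v R [4, 4, 4, 4] u) = -op v R [4, 4, 4, 4] u := by
    rw [← Module.End.mul_apply, ← op_append]
    have h1 := hu.pos hB (A := [9, 4, 4, 4, 4]) (B := [4, 4, 4, 4, 2, 9, 2]) (by decide +kernel)
    rw [show ([9] : List ℕ) ++ [4, 4, 4, 4] = [9, 4, 4, 4, 4] from rfl, h1,
      show ([4, 4, 4, 4, 2, 9, 2] : List ℕ) = [4, 4, 4, 4] ++ ([2] ++ ([9] ++ [2])) from rfl, op_append, op_append,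
      op_append, Module.End.mul_apply, Module.End.mul_apply, Module.End.mul_apply, hu.y, map_neg, z0, neg_neg, hu.y,
      map_neg]
  have z1 : op v R [9] (op v R [4, 4] u) = -op v R [4, 4] u := by
    have h1 := congrArg (op v R [9]) hsum
    rw [map_add, map_add, z0, z2, map_zero] at h1
    have h3 : op v R [9] (op v R [4, 4] u) = u + op v R [4, 4, 4, 4] u := by
      rw [← sub_eq_zero, ← h1]; abel
    rw [h3, ← sub_eq_zero, ← hsum]; abel
  have m1 : op v R [10] (op v R [4, 4] u) = -op v R [4, 4] u := by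
    rw [← z1, ← Module.End.mul_apply, ← Module.End.mul_apply, ← op_append, ← op_append]
    exact hu.pos hB (A := [10, 4, 4]) (B := [9, 4, 4]) (by decide +kernel)
  have m3 : op v R [10, 10, 10] = 1 := by
    have h1 := hB ([10, 10, 10], [], false, []) (by decide +kernel)
    rw [← op_nil v R]
    unfold op
    rw [h1]
    rfl
  have h5 := congrArg (fun f : End k V => f (op v R [4, 4] u)) m3
  simp only [op_cons v R 10 [10, 10], op_cons v R 10 [10], Module.End.mul_apply, m1, map_neg, neg_neg,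
    Module.End.one_apply] at h5
  apply hu0
  apply op_injective v R [4, 4]
  rw [map_zero]
  have h6 : (2 : k) • op v R [4, 4] u = 0 := by rw [two_smul]; nth_rewrite 1 [← h5]; rw [neg_add_cancel]
  exact (smul_eq_zero.1 h6).resolve_left h2

end Cfsg.Agent.H879.Nine.ME
end

-- part: H879/Nine/MERoots
section
/-!
# Subgroups of the stabiliser of the roots (helper879)

`kill_roots` : `H` maximal in `E Q`, `H ≤ stabR Q v`, `P` a normal subgroup of `H`, smaller than the alternating group,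
containing a non-trivial element of `altG`: impossible.
-/

set_option autoImplicit false
set_option linter.unusedSectionVars false

namespace Cfsg.Agent.H879.Nine.ME

open QuadraticMap hiding proj
open Cfsg.Agent.LieClassical.OrthCore Cfsg.Agent.LieClassical.OrthTrans Cfsg.Agent.LieClassical.OrthFinite
open Cfsg.Agent.H882.Ten Cfsg.Agent.H882.Del

variable {F : Type*} [Field F] {V : Type*} [AddCommGroup V] [Module F V]
variable {ι : Type*} [Fintype ι] [DecidableEq ι] {v : ι → V} {Q : QuadraticForm F V} {a : F}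
variable [Finite F] (S : Sys F v) (hg : Gr Q v a) (h2 : (2 : F) ≠ 0) (hG : Good Q)

include S hg h2

theorem SG_le_stabR : SG F v ≤ stabR Q v := fun _ hg' =>
  mem_stabR_of (SG_le_O S hg h2 hg') (fun _ hx => SG_map_rts hg' hx) (fun _ hx => SG_map_rts (inv_mem hg') hx)

include hG

theorem kill_roots (h3 : (3 : F) ≠ 0) (h6 : 6 ≤ Fintype.card ι) {H P : Subgroup (V ≃ₗ[F] V)}
    (hH : Cfsg.Geo.IsMaximalIn (E Q) H) (hHR : H ≤ stabR Q v) (hn : ∀ h ∈ H, ∀ x ∈ P, h * x * h⁻¹ ∈ P)
    [Finite P] (hc : Nat.card P < Nat.card (alternatingGroup ι)) {g : V ≃ₗ[F] V} (hgP : g ∈ P) (hg1 : g ≠ 1)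
    (hgA : g ∈ altG S) : False := by
  have hK : stabR Q v ⊓ E Q = H := by
    rcases hH.2 (stabR Q v ⊓ E Q) (le_inf hHR hH.1.le) inf_le_right with h | h
    · exact h
    · exact absurd (inf_eq_right.1 h) (not_E_le_stabR S h2 hG h3 h6)
  have hAH : altG S ≤ H := by
    rw [← hK]
    exact le_inf ((altG_le_SG S).trans (SG_le_stabR S hg h2)) (altG_le_E S hg h2 hG (by omega))
  let f : alternatingGroup ι →* (V ≃ₗ[F] V) := S.perm.comp (alternatingGroup ι).subtype
  have hf : ∀ σ, f σ ∈ altG S := fun σ => ⟨σ, σ.2, rfl⟩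
  have hN : (P.comap f).Normal := by
    constructor
    intro n hn' g
    rw [Subgroup.mem_comap, map_mul, map_mul, map_inv]
    exact hn _ (hAH (hf g)) _ hn'
  have hs : IsSimpleGroup (alternatingGroup ι) :=
    alternatingGroup.isSimpleGroup (by rw [Nat.card_eq_fintype_card]; omega)
  have hinj : Function.Injective f :=
    (S.perm_injective (by omega)).comp Subtype.val_injective
  rcases hs.eq_bot_or_eq_top_of_normal _ hN with h | h
  · obtain ⟨σ, hσ, rfl⟩ := hgA
    have h1 : (⟨σ, hσ⟩ : alternatingGroup ι) ∈ P.comap f := hgP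
    rw [h, Subgroup.mem_bot] at h1
    have h3 : σ = 1 := congrArg Subtype.val h1
    exact hg1 (by rw [h3]; exact map_one _)
  · have h1 : ∀ σ : alternatingGroup ι, f σ ∈ P := by
      intro σ
      have : σ ∈ P.comap f := by rw [h]; trivial
      exact this
    have h4 := Nat.card_le_card_of_injective (fun σ => (⟨f σ, h1 σ⟩ : P)) (fun σ τ h => hinj (congrArg Subtype.val h))
    omega

end Cfsg.Agent.H879.Nine.ME
end

-- part: H879/Nine/MEVec
section
/-!
# The vectors `w_d` (helper879)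
-/

set_option autoImplicit false
set_option maxRecDepth 100000

namespace Cfsg.Agent.H879.Nine.ME

open Cfsg Cfsg.Agent.H6.M11 Cfsg.Agent.H882.Del Module LinearMap QuadraticMap

variable {G : Type*} [Group G] {v : ℕ → G} {k : Type*} [Field k] {V : Type*} [AddCommGroup V] [Module k V]
  {R : G →* End k V} {u : V}

variable (v R u) in
/-- the vectors -/
noncomputable def wv (d : ℕ) : V := if d = 0 then 0 else op v R (gw d) u

theorem wv_zero : wv v R u 0 = 0 := if_pos rfl

theorem wv_ne {d : ℕ} (hd : d ≠ 0) : wv v R u d = op v R (gw d) u := if_neg hd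

theorem wv_seven : wv v R u 7 = u := by
  rw [wv_ne (by norm_num)]
  show op v R [] u = u
  rw [op_nil]; rfl

theorem Fx.rel (hsum : u + op v R [4, 4] u + op v R [4, 4, 4, 4] u = 0)
    {h : List ℕ} {A B C : V} (h1 : op v R h u = A) (h2 : op v R (h ++ [4, 4]) u = B)
    (h3 : op v R (h ++ [4, 4, 4, 4]) u = -C) : B = C - A := by
  have h4 := congrArg (op v R h) hsum
  rw [map_add, map_add, map_zero, ← Module.End.mul_apply, ← Module.End.mul_apply, ← op_append, ← op_append, h1, h2,
    h3] at h4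
  rw [← sub_eq_zero, ← h4]; abel

theorem Fx.x_step (hu : Fx v R u) (hL : Cert v certA) (hsum : u + op v R [4, 4] u + op v R [4, 4, 4, 4] u = 0)
    {e : ℕ} (d : ℕ) (hd : d ≠ 0) (he : e ≠ 0)
    (h1 : has certA (hx e) (gw 1) false = true) (h2 : has certA (hx e ++ [4, 4]) ([5] ++ gw d) false = true)
    (h3 : has certA (hx e ++ [4, 4, 4, 4]) (gw e) true = true) :
    op v R [5] (wv v R u d) = wv v R u e - wv v R u 1 := by
  rw [wv_ne hd, wv_ne he, wv_ne one_ne_zero, ← Module.End.mul_apply, ← op_append]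
  exact Fx.rel hsum (hu.pos hL h1) (hu.pos hL h2) (hu.neg hL h3)

theorem Fx.t_step (hu : Fx v R u) (hL : Cert v certA) (hsum : u + op v R [4, 4] u + op v R [4, 4, 4, 4] u = 0)
    {e : ℕ} (d : ℕ) (hd : d ≠ 0) (he : e ≠ 0)
    (h1 : has certA (ht d) (gw 7) false = true) (h2 : has certA (ht d ++ [4, 4]) ([8] ++ gw d) false = true)
    (h3 : has certA (ht d ++ [4, 4, 4, 4]) (gw e) true = true) :
    op v R [8] (wv v R u d) = wv v R u e - wv v R u 7 := by
  rw [wv_ne hd, wv_ne he, wv_ne (show (7 : ℕ) ≠ 0 by norm_num), ← Module.End.mul_apply, ← op_append]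
  exact Fx.rel hsum (hu.pos hL h1) (hu.pos hL h2) (hu.neg hL h3)

theorem Fx.x_w (hu : Fx v R u) (hL : Cert v certA) (hsum : u + op v R [4, 4] u + op v R [4, 4, 4, 4] u = 0)
    {d : ℕ} (hd : d < 11) : op v R [5] (wv v R u d) = wv v R u ((d + 1) % 11) - wv v R u 1 := by
  interval_cases d
  · show op v R [5] (wv v R u 0) = wv v R u 1 - wv v R u 1
    rw [wv_zero, map_zero, sub_self]
  · exact hu.x_step hL hsum 1 (by norm_num) (by norm_num) (by decide +kernel) (by decide +kernel) (by decide +kernel)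
  · exact hu.x_step hL hsum 2 (by norm_num) (by norm_num) (by decide +kernel) (by decide +kernel) (by decide +kernel)
  · exact hu.x_step hL hsum 3 (by norm_num) (by norm_num) (by decide +kernel) (by decide +kernel) (by decide +kernel)
  · exact hu.x_step hL hsum 4 (by norm_num) (by norm_num) (by decide +kernel) (by decide +kernel) (by decide +kernel)
  · exact hu.x_step hL hsum 5 (by norm_num) (by norm_num) (by decide +kernel) (by decide +kernel) (by decide +kernel)
  · exact hu.x_step hL hsum 6 (by norm_num) (by norm_num) (by decide +kernel) (by decide +kernel) (by decide +kernel)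
  · exact hu.x_step hL hsum 7 (by norm_num) (by norm_num) (by decide +kernel) (by decide +kernel) (by decide +kernel)
  · exact hu.x_step hL hsum 8 (by norm_num) (by norm_num) (by decide +kernel) (by decide +kernel) (by decide +kernel)
  · exact hu.x_step hL hsum 9 (by norm_num) (by norm_num) (by decide +kernel) (by decide +kernel) (by decide +kernel)
  · show op v R [5] (wv v R u 10) = wv v R u 0 - wv v R u 1
    rw [wv_zero, zero_sub, wv_ne (show (10 : ℕ) ≠ 0 by norm_num), wv_ne one_ne_zero, ← Module.End.mul_apply,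
      ← op_append]
    exact hu.neg hL (by decide +kernel)

theorem Fx.t_w (hu : Fx v R u) (hL : Cert v certA) (hsum : u + op v R [4, 4] u + op v R [4, 4, 4, 4] u = 0)
    {d : ℕ} (hd : d < 11) : op v R [8] (wv v R u d) = wv v R u (tp d) - wv v R u 7 := by
  interval_cases d
  · show op v R [8] (wv v R u 0) = wv v R u 7 - wv v R u 7
    rw [wv_zero, map_zero, sub_self]
  · exact hu.t_step hL hsum 1 (by norm_num) (by decide) (by decide +kernel) (by decide +kernel) (by decide +kernel)
  · exact hu.t_step hL hsum 2 (by norm_num) (by decide) (by decide +kernel) (by decide +kernel) (by decide +kernel)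
  · exact hu.t_step hL hsum 3 (by norm_num) (by decide) (by decide +kernel) (by decide +kernel) (by decide +kernel)
  · exact hu.t_step hL hsum 4 (by norm_num) (by decide) (by decide +kernel) (by decide +kernel) (by decide +kernel)
  · exact hu.t_step hL hsum 5 (by norm_num) (by decide) (by decide +kernel) (by decide +kernel) (by decide +kernel)
  · exact hu.t_step hL hsum 6 (by norm_num) (by decide) (by decide +kernel) (by decide +kernel) (by decide +kernel)
  · show op v R [8] (wv v R u 7) = wv v R u 0 - wv v R u 7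
    rw [wv_zero, zero_sub, wv_ne (show (7 : ℕ) ≠ 0 by norm_num), ← Module.End.mul_apply, ← op_append]
    exact hu.neg hL (by decide +kernel)
  · exact hu.t_step hL hsum 8 (by norm_num) (by decide) (by decide +kernel) (by decide +kernel) (by decide +kernel)
  · exact hu.t_step hL hsum 9 (by norm_num) (by decide) (by decide +kernel) (by decide +kernel) (by decide +kernel)
  · exact hu.t_step hL hsum 10 (by norm_num) (by decide) (by decide +kernel) (by decide +kernel) (by decide +kernel)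

theorem Fx.e_w (hu : Fx v R u) (hL : Cert v certA) {d : ℕ} (hd : d < 11) :
    op v R [0] (wv v R u d) = wv v R u (ep d) := by
  have h : ∀ e : ℕ, d ≠ 0 → e ≠ 0 → has certA ([0] ++ gw d) (gw e) false = true →
      op v R [0] (wv v R u d) = wv v R u e := by
    intro e hd he hh
    rw [wv_ne hd, wv_ne he, ← Module.End.mul_apply, ← op_append]
    exact hu.pos hL hh
  interval_cases d
  · show op v R [0] (wv v R u 0) = wv v R u 0
    rw [wv_zero, map_zero]
  · exact h 9 (by norm_num) (by norm_num) (by decide +kernel)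
  · exact h 8 (by norm_num) (by norm_num) (by decide +kernel)
  · exact h 6 (by norm_num) (by norm_num) (by decide +kernel)
  · exact h 3 (by norm_num) (by norm_num) (by decide +kernel)
  · exact h 2 (by norm_num) (by norm_num) (by decide +kernel)
  · exact h 4 (by norm_num) (by norm_num) (by decide +kernel)
  · exact h 7 (by norm_num) (by norm_num) (by decide +kernel)
  · exact h 5 (by norm_num) (by norm_num) (by decide +kernel)
  · exact h 10 (by norm_num) (by norm_num) (by decide +kernel)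
  · exact h 1 (by norm_num) (by norm_num) (by decide +kernel)

/-- powers of `x` -/
theorem Fx.x_pow (hu : Fx v R u) (hL : Cert v certA) (hsum : u + op v R [4, 4] u + op v R [4, 4, 4, 4] u = 0)
    (n d : ℕ) (hd : d < 11) :
    op v R (List.replicate n 5) (wv v R u d) = wv v R u ((d + n) % 11) - wv v R u (n % 11) := by
  induction n with
  | zero =>
    rw [List.replicate_zero, op_nil, Nat.add_zero, Nat.mod_eq_of_lt hd, Nat.zero_mod, wv_zero, sub_zero]
    rfl
  | succ n ih =>
    rw [List.replicate_succ, op_cons, Module.End.mul_apply, ih, map_sub, hu.x_w hL hsum (Nat.mod_lt _ (by norm_num)),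
      hu.x_w hL hsum (Nat.mod_lt _ (by norm_num)), sub_sub_sub_cancel_right, Nat.mod_add_mod, Nat.mod_add_mod,
      Nat.add_assoc]

/-! ### the roots -/

variable (v R u) in
/-- the system -/
noncomputable def vv (i : Fin 10) : V := wv v R u (i.1 + 1)

theorem mem_rts {x : V} (hy : x ∈ rts k (vv v R u)) : ∃ i j : ℕ, i < 11 ∧ j < 11 ∧ i ≠ j ∧
    x = wv v R u i - wv v R u j := by
  rcases hy with ⟨i, ε, hε, rfl⟩ | ⟨i, j, hij, rfl⟩
  · have hi := i.2
    rcases hε with rfl | rfl
    · exact ⟨i.1 + 1, 0, by omega, by norm_num, by omega, by rw [wv_zero, sub_zero, one_smul]; rfl⟩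
    · exact ⟨0, i.1 + 1, by norm_num, by omega, by omega, by rw [wv_zero, zero_sub, neg_one_smul]; rfl⟩
  · have hi := i.2
    have hj := j.2
    exact ⟨i.1 + 1, j.1 + 1, by omega, by omega, fun h => hij (Fin.ext (by omega)), rfl⟩

theorem rts_of {i j : ℕ} (hi : i < 11) (hj : j < 11) (hij : i ≠ j) :
    wv v R u i - wv v R u j ∈ rts k (vv v R u) := by
  rcases Nat.eq_zero_or_pos i with rfl | hi0
  · refine Or.inl ⟨⟨j - 1, by omega⟩, -1, Or.inr rfl, ?_⟩
    rw [wv_zero, zero_sub, neg_one_smul, vv]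
    show _ = -wv v R u (j - 1 + 1)
    rw [Nat.sub_add_cancel (by omega)]
  · rcases Nat.eq_zero_or_pos j with rfl | hj0
    · refine Or.inl ⟨⟨i - 1, by omega⟩, 1, Or.inl rfl, ?_⟩
      rw [wv_zero, sub_zero, one_smul, vv]
      show _ = wv v R u (i - 1 + 1)
      rw [Nat.sub_add_cancel (by omega)]
    · refine Or.inr ⟨⟨i - 1, by omega⟩, ⟨j - 1, by omega⟩, fun h => hij ?_, ?_⟩
      · have := congrArg Fin.val h
        simp only at this
        omega
      · show _ = wv v R u (i - 1 + 1) - wv v R u (j - 1 + 1)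
        rw [Nat.sub_add_cancel (by omega), Nat.sub_add_cancel (by omega)]

theorem tp_lt {d : ℕ} (hd : d < 11) : tp d < 11 := by
  have h : ∀ d : Fin 11, tp d < 11 := by decide
  exact h ⟨d, hd⟩

theorem tp_ne {d e : ℕ} (hd : d < 11) (he : e < 11) (h : d ≠ e) : tp d ≠ tp e := by
  have h' : ∀ d e : Fin 11, (d : ℕ) ≠ e → tp d ≠ tp e := by decide +kernel
  exact h' ⟨d, hd⟩ ⟨e, he⟩ h

theorem Fx.rts_x (hu : Fx v R u) (hL : Cert v certA) (hsum : u + op v R [4, 4] u + op v R [4, 4, 4, 4] u = 0) {x : V}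
    (hy : x ∈ rts k (vv v R u)) : op v R [5] x ∈ rts k (vv v R u) := by
  obtain ⟨i, j, hi, hj, hij, rfl⟩ := mem_rts hy
  rw [map_sub, hu.x_w hL hsum hi, hu.x_w hL hsum hj, sub_sub_sub_cancel_right]
  exact rts_of (Nat.mod_lt _ (by norm_num)) (Nat.mod_lt _ (by norm_num)) (by omega)

theorem Fx.rts_t (hu : Fx v R u) (hL : Cert v certA) (hsum : u + op v R [4, 4] u + op v R [4, 4, 4, 4] u = 0) {x : V}
    (hy : x ∈ rts k (vv v R u)) : op v R [8] x ∈ rts k (vv v R u) := by
  obtain ⟨i, j, hi, hj, hij, rfl⟩ := mem_rts hy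
  rw [map_sub, hu.t_w hL hsum hi, hu.t_w hL hsum hj, sub_sub_sub_cancel_right]
  exact rts_of (tp_lt hi) (tp_lt hj) (tp_ne hi hj hij)

/-- every root is conjugate to `u` -/
theorem Fx.root_eq (hu : Fx v R u) (hL : Cert v certA) (hsum : u + op v R [4, 4] u + op v R [4, 4, 4, 4] u = 0) {x : V}
    (hy : x ∈ rts k (vv v R u)) : ∃ w, x = op v R w u := by
  obtain ⟨i, j, hi, hj, hij, rfl⟩ := mem_rts hy
  have hd : (i + (11 - j)) % 11 < 11 := Nat.mod_lt _ (by norm_num)
  have hd0 : (i + (11 - j)) % 11 ≠ 0 := by omega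
  refine ⟨List.replicate j 5 ++ gw ((i + (11 - j)) % 11), ?_⟩
  rw [op_append, Module.End.mul_apply, ← wv_ne hd0, hu.x_pow hL hsum _ _ hd, Nat.mod_eq_of_lt hj]
  congr 2
  omega

theorem u_mem_rts : u ∈ rts k (vv v R u) := Or.inl ⟨6, 1, Or.inl rfl, by
  rw [one_smul]
  exact (wv_seven (v := v) (R := R)).symm⟩

/-! ### the system -/

theorem Fx.sys [FiniteDimensional k V] (hV : finrank k V = 9) (hu : Fx v R u) (hL : Cert v certA)
    (hsum : u + op v R [4, 4] u + op v R [4, 4, 4, 4] u = 0)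
    (h11 : (11 : k) = 0) (hu0 : u ≠ 0) (hfix : ∀ s : V, op v R [5] s = s → op v R [8] s = s → s = 0)
    (hirr : ∀ S : Submodule k V, (∀ x ∈ S, op v R [5] x ∈ S) → (∀ x ∈ S, op v R [8] x ∈ S) → S = ⊥ ∨ S = ⊤) :
    Sys k (vv v R u) := by
  have hmem : ∀ d, d < 11 → wv v R u d ∈ Submodule.span k (Set.range (vv v R u)) := by
    intro d hd
    rcases Nat.eq_zero_or_pos d with rfl | h0
    · rw [wv_zero]; exact Submodule.zero_mem _
    · refine Submodule.subset_span ⟨⟨d - 1, by omega⟩, ?_⟩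
      show wv v R u (d - 1 + 1) = _
      rw [Nat.sub_add_cancel (by omega)]
  refine ⟨?_, by rw [hV]; rfl, by omega, ?_⟩
  · have s1 : ∀ x ∈ Submodule.span k (Set.range (vv v R u)), op v R [5] x ∈ Submodule.span k (Set.range (vv v R u)) := by
      intro x hx
      induction hx using Submodule.span_induction with
      | mem x hx =>
        obtain ⟨i, rfl⟩ := hx
        show op v R [5] (wv v R u (i.1 + 1)) ∈ _
        rw [hu.x_w hL hsum (by omega)]
        exact Submodule.sub_mem _ (hmem _ (Nat.mod_lt _ (by norm_num))) (hmem _ (by norm_num))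
      | zero => rw [map_zero]; exact Submodule.zero_mem _
      | add x y _ _ hx hy => rw [map_add]; exact Submodule.add_mem _ hx hy
      | smul a x _ hx => rw [map_smul]; exact Submodule.smul_mem _ _ hx
    have s2 : ∀ x ∈ Submodule.span k (Set.range (vv v R u)), op v R [8] x ∈ Submodule.span k (Set.range (vv v R u)) := by
      intro x hx
      induction hx using Submodule.span_induction with
      | mem x hx =>
        obtain ⟨i, rfl⟩ := hx
        show op v R [8] (wv v R u (i.1 + 1)) ∈ _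
        rw [hu.t_w hL hsum (by omega)]
        exact Submodule.sub_mem _ (hmem _ (tp_lt (by omega))) (hmem _ (by norm_num))
      | zero => rw [map_zero]; exact Submodule.zero_mem _
      | add x y _ _ hx hy => rw [map_add]; exact Submodule.add_mem _ hx hy
      | smul a x _ hx => rw [map_smul]; exact Submodule.smul_mem _ _ hx
    rcases hirr _ s1 s2 with h | h
    · exfalso
      apply hu0
      have h1 := hmem 7 (by norm_num)
      rwa [h, Submodule.mem_bot, wv_seven] at h1
    · exact h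
  · have hs : ∑ i, vv v R u i = wv v R u 1 + wv v R u 2 + wv v R u 3 + wv v R u 4 + wv v R u 5 + wv v R u 6 +
        wv v R u 7 + wv v R u 8 + wv v R u 9 + wv v R u 10 := by
      show ∑ i : Fin 10, wv v R u (i.1 + 1) = _
      rw [Fin.sum_univ_eq_sum_range (fun i => wv v R u (i + 1)) 10]
      simp only [Finset.sum_range_succ, Finset.sum_range_zero, zero_add]
      try norm_num
    rw [hs]
    have hX : ∀ d, d < 11 → op v R [5] (wv v R u d) = wv v R u ((d + 1) % 11) - wv v R u 1 :=
      fun d hd => hu.x_w hL hsum hd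
    have hT : ∀ d, d < 11 → op v R [8] (wv v R u d) = wv v R u (tp d) - wv v R u 7 :=
      fun d hd => hu.t_w hL hsum hd
    apply hfix
    · simp only [map_add]
      rw [hX 1 (by norm_num), hX 2 (by norm_num), hX 3 (by norm_num), hX 4 (by norm_num), hX 5 (by norm_num),
        hX 6 (by norm_num), hX 7 (by norm_num), hX 8 (by norm_num), hX 9 (by norm_num), hX 10 (by norm_num)]
      norm_num only
      rw [wv_zero, ← sub_eq_zero]
      have h0 : (11 : k) • wv v R u 1 = 0 := by rw [h11, zero_smul]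
      rw [← neg_eq_zero]
      refine Eq.trans ?_ h0
      module
    · simp only [map_add]
      rw [hT 1 (by norm_num), hT 2 (by norm_num), hT 3 (by norm_num), hT 4 (by norm_num), hT 5 (by norm_num),
        hT 6 (by norm_num), hT 7 (by norm_num), hT 8 (by norm_num), hT 9 (by norm_num), hT 10 (by norm_num)]
      simp only [tp]
      rw [wv_zero, ← sub_eq_zero]
      have h0 : (11 : k) • wv v R u 7 = 0 := by rw [h11, zero_smul]
      rw [← neg_eq_zero]
      refine Eq.trans ?_ h0
      module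

variable {Q : QuadraticForm k V}

theorem Fx.q_w (hQ : ∀ g x, Q (R g x) = Q x) {d : ℕ} (hd : d ≠ 0) : Q (wv v R u d) = Q u := by
  rw [wv_ne hd]
  exact hQ _ _

theorem polar_inv (hQ : ∀ g x, Q (R g x) = Q x) (w : List ℕ) (x y : V) :
    QuadraticMap.polar Q (op v R w x) (op v R w y) = QuadraticMap.polar Q x y := by
  unfold QuadraticMap.polar
  rw [← map_add]
  unfold op
  rw [hQ, hQ, hQ]

theorem Fx.gr (hu : Fx v R u) (hL : Cert v certA)
    (hsum : u + op v R [4, 4] u + op v R [4, 4, 4, 4] u = 0) (hQ : ∀ g x, Q (R g x) = Q x) :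
    Gr Q (vv v R u) (Q u) := by
  have h1 : ∀ e, 2 ≤ e → e ≤ 10 → QuadraticMap.polar Q (wv v R u e) (wv v R u 1) = Q u := by
    intro e he he'
    have h := hu.x_w hL hsum (d := e - 1) (by omega)
    rw [show (e - 1 + 1) % 11 = e by omega] at h
    have h3 : Q (wv v R u e - wv v R u 1) = Q u := by
      rw [← h]
      unfold op
      rw [hQ, Fx.q_w hQ (by omega)]
    rw [sub_eq_add_neg, QuadraticMap.map_add Q, QuadraticMap.map_neg, QuadraticMap.polar_neg_right,
      Fx.q_w hQ (by omega), Fx.q_w hQ one_ne_zero] at h3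
    linear_combination -h3
  have h11' : QuadraticMap.polar Q (wv v R u 1) (wv v R u 1) = 2 * Q u := by
    rw [QuadraticMap.polar_self, Fx.q_w hQ one_ne_zero, two_smul, two_mul]
  have h4 : ∀ i, 1 ≤ i → ∀ j, i < j → j ≤ 10 → QuadraticMap.polar Q (wv v R u i) (wv v R u j) = Q u := by
    intro i hi
    induction i, hi using Nat.le_induction with
    | base =>
      intro j hj hj'
      rw [QuadraticMap.polar_comm]
      exact h1 j (by omega) hj'
    | succ i hi ih =>
      intro j hj hj'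
      have h5 := ih (j - 1) (by omega) (by omega)
      rw [← polar_inv hQ [5] (wv v R u i) (wv v R u (j - 1)), hu.x_w hL hsum (by omega), hu.x_w hL hsum (by omega),
        show (i + 1) % 11 = i + 1 by omega, show (j - 1 + 1) % 11 = j by omega, QuadraticMap.polar_sub_left,
        QuadraticMap.polar_sub_right, QuadraticMap.polar_sub_right, h11', h1 (i + 1) (by omega) (by omega),
        QuadraticMap.polar_comm Q (wv v R u 1) (wv v R u j), h1 j (by omega) hj'] at h5
      linear_combination h5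
  intro i j hij
  have hi := i.2
  have hj := j.2
  have hne : i.1 ≠ j.1 := fun h => hij (Fin.ext h)
  show QuadraticMap.polar Q (wv v R u (i.1 + 1)) (wv v R u (j.1 + 1)) = Q u
  rcases Nat.lt_or_gt_of_ne hne with h | h
  · exact h4 _ (by omega) _ (by omega) (by omega)
  · rw [QuadraticMap.polar_comm]
    exact h4 _ (by omega) _ (by omega) (by omega)

end Cfsg.Agent.H879.Nine.ME
end

-- part: H879/Nine/MEleven
section
/-!
# The Mathieu group of degree 11 in `Ω₉(q)` (helper879)

* `dvd_eleven` : `M₁₁`, `M₁₂` in dimension at most 9 with real traces: `p = 11`;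
* `m11_kill` : `M₁₁` is not maximal in `Ω₉(q)`, `p = 11` (it is contained in `A₁₁`).
-/

set_option autoImplicit false
set_option linter.unusedSectionVars false
set_option maxRecDepth 100000

namespace Cfsg.Agent.H879.Nine.ME

open Matrix Module Cfsg Cfsg.Geo Cfsg.Agent.H915.LD Cfsg.Agent.H6.M11
open QuadraticMap hiding proj
open Cfsg.Agent.LieClassical.OrthCore Cfsg.Agent.LieClassical.OrthTrans Cfsg.Agent.LieClassical.OrthFinite

universe u

variable {ι : Type} [Fintype ι] [DecidableEq ι] {F : Type u} [Field F] {P : Subgroup (GL ι F)}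

/-! ### letters in `P` -/

theorem rep_self (g : P) (x : ι → F) : rep P F g x = ((g : GL ι F) : Matrix ι ι F) *ᵥ x := by
  rw [rep_apply, Matrix.toLin'_apply]
  congr 1

/-- extension of scalars of a vector -/
def jv (K : Type*) [Field K] [Algebra F K] (x : ι → F) : ι → K := fun i => algebraMap F K (x i)

variable {K : Type*} [Field K] [Algebra F K]

theorem jv_injective : Function.Injective (jv (ι := ι) (F := F) K) := by
  intro x y h
  funext i
  exact (algebraMap F K).injective (congrFun h i)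

theorem jv_zero : jv (ι := ι) (F := F) K 0 = 0 := by
  funext i
  exact map_zero _

theorem jv_neg (x : ι → F) : jv K (-x) = -jv K x := by
  funext i
  exact map_neg _ _

theorem jv_add (x y : ι → F) : jv K (x + y) = jv K x + jv K y := by
  funext i
  exact map_add _ _ _

theorem rep_jv (g : P) (x : ι → F) : rep P K g (jv K x) = jv K (rep P F g x) := by
  rw [rep_self, rep_apply, Matrix.toLin'_apply]
  funext i
  show _ = algebraMap F K ((((g : GL ι F) : Matrix ι ι F) *ᵥ x) i)
  simp only [Matrix.mulVec, dotProduct, Matrix.map_apply, map_sum, map_mul, jv]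

theorem op_jv (v : ℕ → P) (w : List ℕ) (x : ι → F) : op v (rep P K) w (jv K x) = jv K (op v (rep P F) w x) :=
  rep_jv _ _

/-- the element of order 11 in dimension at most 9 with real traces -/
theorem dvd_eleven [Finite F] (p : ℕ) [hp : Fact p.Prime] [CharP F p] {v : ℕ → P} (hv : Sat v) (h5 : v 5 ≠ 1)
    (hsd : SD P) (hn : Fintype.card ι ≤ 9) : p = 11 := by
  by_contra h11
  have hck : CharP (AlgebraicClosure F) p := charP_of_injective_algebraMap (algebraMap F _).injective p
  obtain ⟨ζ, hζ⟩ := exists_root (AlgebraicClosure F) 11 (cast_ne _ hp.out (by norm_num) h11)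
  obtain ⟨m, a, b, ha, hb, hm, hd, t1, t10⟩ := hv.eigen (R := rep P (AlgebraicClosure F)) hζ
  rw [Module.finrank_fintype_fun_eq_card] at hd
  -- real traces
  have hinv : (ev v [5])⁻¹ = ev v [5, 5, 5, 5, 5, 5, 5, 5, 5, 5] := by
    rw [inv_eq_iff_mul_eq_one, ← ev_append, ← ev_nil v]
    exact hv.base (by decide +kernel)
  have hreal : tw v (rep P (AlgebraicClosure F)) [5, 5, 5, 5, 5, 5, 5, 5, 5, 5] =
      tw v (rep P (AlgebraicClosure F)) [5] := by
    rw [tw_rep, tw_rep, ← hinv]
    congr 1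
    exact hsd _ (ev v [5]).2
  have hab : (a : AlgebraicClosure F) = b := by
    rw [t1, t10] at hreal
    set S := ζ + ζ ^ 3 + ζ ^ 4 + ζ ^ 5 + ζ ^ 9 with hS
    set S' := ζ ^ 2 + ζ ^ 6 + ζ ^ 7 + ζ ^ 8 + ζ ^ 10 with hS'
    have hz := H6.M11.sum_zero hζ
    have h0 := hζ.pow_eq_one
    have e1 : ((a : AlgebraicClosure F) - b) * (S - S') = 0 := by linear_combination -hreal
    refine sub_eq_zero.1 ((mul_eq_zero.1 e1).resolve_right ?_)
    intro h1
    have h2 : S + S' = -1 := by linear_combination hz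
    have h11k : (11 : AlgebraicClosure F) ≠ 0 := by
      have := (hζ.neZero').out
      simpa only [_root_.ne_eq, _root_.Nat.cast_ofNat] using this
    have q : ∀ m : ℕ, ζ ^ m = ζ ^ (m % 11) := fun m => pow_eq_pow_mod m h0
    have h3 : S * S' = 3 := by
      rw [hS, hS']
      linear_combination (5 + 2 * ζ + 2 * ζ ^ 2 + ζ ^ 3 + 2 * ζ ^ 4 + ζ ^ 5 + ζ ^ 6 + ζ ^ 8) * h0 + 2 * hz
    apply h11k
    have h4 : (S - S') ^ 2 = -11 := by
      have : (S - S') ^ 2 = (S + S') ^ 2 - 4 * (S * S') := by ring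
      rw [this, h2, h3]; norm_num
    rw [h1] at h4
    linear_combination h4
  have hab2 : a + b ≤ 1 := by omega
  have hab3 : a = 0 ∧ b = 0 := by
    rcases Nat.eq_zero_or_pos a with h0 | h0
    · rcases Nat.eq_zero_or_pos b with h1 | h1
      · exact ⟨h0, h1⟩
      · exfalso
        obtain rfl : b = 1 := by omega
        rw [h0, Nat.cast_zero, Nat.cast_one] at hab
        exact zero_ne_one hab
    · exfalso
      obtain rfl : a = 1 := by omega
      obtain rfl : b = 0 := by omega
      rw [Nat.cast_zero, Nat.cast_one] at hab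
      exact one_ne_zero hab
  have htop : End.eigenspace (op v (rep P (AlgebraicClosure F)) [5]) 1 = ⊤ := by
    apply Submodule.eq_top_of_finrank_eq
    rw [hm, Module.finrank_fintype_fun_eq_card]
    omega
  apply h5
  have h6 : op v (rep P (AlgebraicClosure F)) [5] = 1 := by
    refine LinearMap.ext fun x => ?_
    have : x ∈ End.eigenspace (op v (rep P (AlgebraicClosure F)) [5]) 1 := by rw [htop]; trivial
    rw [End.mem_eigenspace_iff, one_smul] at this
    exact this
  have h7 := rep_eq_one _ h6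
  rwa [ev_cons, ev_nil, mul_one] at h7

/-! ### the vector over `F` -/

theorem exists_uF [Finite F] [CharP F 11] (h9 : Fintype.card ι = 9) {v : ℕ → P} (hv : Sat v) (hL : Cert v certA)
    (h0 : v 0 ≠ 1) :
    ∃ u : ι → F, u ≠ 0 ∧ Fx v (rep P F) u ∧ u + op v (rep P F) [4, 4] u + op v (rep P F) [4, 4, 4, 4] u = 0 ∧
      ∀ w : ι → F, rep P F (v 0) w = w → rep P F (v 1) w = w → ∃ c : F, w = c • u := by
  have hck : CharP (AlgebraicClosure F) 11 := charP_of_injective_algebraMap (algebraMap F _).injective 11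
  obtain ⟨ω, hω⟩ := exists_root (AlgebraicClosure F) 3 (cast_ne _ (by norm_num : Nat.Prime 11) Nat.prime_three (by norm_num))
  have e1 : ∀ (K : Type u) [Field K] [Algebra F K] (i : ℕ), op v (rep P K) [i] = rep P K (v i) := by
    intro K _ _ i
    rw [op, ev_cons, ev_nil, mul_one]
  obtain ⟨u', hu0', hu', huniq, hsum⟩ := exists_u (R := rep P (AlgebraicClosure F)) hv hL hω (by
    rw [e1]
    intro h
    exact h0 (rep_eq_one _ h)) (by rw [Module.finrank_fintype_fun_eq_card, h9])
  obtain ⟨u, hu0, hfix⟩ := H879.TL.exists_fixed ({((v 0 : P) : GL ι F), ((v 1 : P) : GL ι F)} : Set (GL ι F)) hu0' (by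
    intro g hg
    rcases hg with rfl | hg
    · have := hu'.e₁
      rw [e1] at this
      exact this
    · rw [Set.mem_singleton_iff] at hg
      subst hg
      have := hu'.e₂
      rw [e1] at this
      exact this)
  have f0 : rep P F (v 0) u = u := by rw [rep_self]; exact hfix _ (Or.inl rfl)
  have f1 : rep P F (v 1) u = u := by rw [rep_self]; exact hfix _ (Or.inr rfl)
  have hW : ∀ w : ι → F, rep P F (v 0) w = w → rep P F (v 1) w = w →
      jv (AlgebraicClosure F) w ∈ Wt v (rep P (AlgebraicClosure F)) 1 1 := by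
    intro w h1 h2
    rw [mem_Wt, one_smul, op_jv, op_jv, e1, e1, h1, h2]
    exact ⟨rfl, rfl⟩
  obtain ⟨c, hc⟩ := huniq _ (hW u f0 f1)
  have hc0 : c ≠ 0 := by
    rintro rfl
    rw [zero_smul] at hc
    exact hu0 (jv_injective (hc.trans jv_zero.symm))
  refine ⟨u, hu0, ⟨by rw [e1]; exact f0, by rw [e1]; exact f1, ?_, ?_⟩, ?_, ?_⟩
  · apply jv_injective (K := AlgebraicClosure F)
    rw [← op_jv, jv_neg, hc, map_smul, hu'.y, smul_neg]
  · apply jv_injective (K := AlgebraicClosure F)
    rw [← op_jv, jv_neg, hc, map_smul, hu'.s, smul_neg]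
  · apply jv_injective (K := AlgebraicClosure F)
    rw [jv_add, jv_add, ← op_jv, ← op_jv, jv_zero, hc, map_smul, map_smul, ← smul_add, ← smul_add, hsum, smul_zero]
  · intro w h1 h2
    obtain ⟨d, hd⟩ := huniq _ (hW w h1 h2)
    obtain ⟨i, hi⟩ : ∃ i, u i ≠ 0 := by
      by_contra hno
      push Not at hno
      exact hu0 (funext hno)
    refine ⟨w i / u i, ?_⟩
    have h3 : ∀ j, algebraMap F (AlgebraicClosure F) (w j) * c = d * algebraMap F (AlgebraicClosure F) (u j) := by
      intro j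
      have a1 := congrFun hd j
      have a2 := congrFun hc j
      simp only [jv, Pi.smul_apply, smul_eq_mul] at a1 a2
      rw [a1, a2]; ring
    funext j
    apply (algebraMap F (AlgebraicClosure F)).injective
    rw [Pi.smul_apply, smul_eq_mul, map_mul, map_div₀]
    have hi' : algebraMap F (AlgebraicClosure F) (u i) ≠ 0 := by
      rw [Ne, map_eq_zero]; exact hi
    have a1 := h3 i
    have a2 := h3 j
    field_simp
    apply mul_right_cancel₀ hc0
    linear_combination (algebraMap F (AlgebraicClosure F) (u i)) * a2 - (algebraMap F (AlgebraicClosure F) (u j)) * a1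

/-! ### the Sylow subgroup of order 9 -/

theorem sylow_nine [Finite F] {v : ℕ → P} (hv : Sat v) (hinj : Function.Injective fun i : Fin 9 => ev v (wE i))
    (hcard : Nat.card P = 7920) : ∃ U : Sylow 3 P, (v 0 ∈ U ∧ v 1 ∈ U) ∧
      ∀ (K : Subgroup P), v 0 ∈ K → v 1 ∈ K → (U : Subgroup P) ≤ K := by
  have h3 : Fact (Nat.Prime 3) := ⟨Nat.prime_three⟩
  let E : Subgroup P := Subgroup.zpowers (v 0) ⊔ Subgroup.zpowers (v 1)
  have c0 : (v 0) ^ 3 = 1 := by
    have := hv.base (a := [0, 0, 0]) (b := []) (by decide +kernel)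
    rw [ev_cons, ev_cons, ev_cons, ev_nil] at this
    rw [pow_succ, pow_two, mul_assoc, ← this, mul_one]
  have c1 : (v 1) ^ 3 = 1 := by
    have := hv.base (a := [1, 1, 1]) (b := []) (by decide +kernel)
    rw [ev_cons, ev_cons, ev_cons, ev_nil] at this
    rw [pow_succ, pow_two, mul_assoc, ← this, mul_one]
  have c01 : v 0 * v 1 = v 1 * v 0 := by
    have := hv.base (a := [0, 1]) (b := [1, 0]) (by decide +kernel)
    rwa [ev_cons, ev_cons, ev_cons, ev_cons, ev_nil, mul_one, mul_one] at this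
  have hp : ∀ x : P, x ^ 3 = 1 → IsPGroup 3 (Subgroup.zpowers x) := by
    rintro x hx ⟨_, n, rfl⟩
    refine ⟨1, Subtype.ext ?_⟩
    show ((x ^ n) ^ (3 ^ 1) : P) = 1
    rw [pow_one, ← zpow_natCast, ← _root_.zpow_mul, mul_comm, _root_.zpow_mul, zpow_natCast, hx, _root_.one_zpow]
  have hE : IsPGroup 3 E := by
    refine IsPGroup.to_sup_of_normal_right' (hp _ c0) (hp _ c1) ?_
    rw [Subgroup.zpowers_le]
    refine Subgroup.mem_normalizer_iff.2 fun h => ?_
    have hcomm : ∀ h ∈ Subgroup.zpowers (v 1), v 0 * h * (v 0)⁻¹ = h := by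
      rintro _ ⟨n, rfl⟩
      have : Commute (v 0) ((v 1) ^ n) := (show Commute (v 0) (v 1) from c01).zpow_right n
      rw [this.eq, mul_inv_cancel_right]
    have hcomm' : ∀ h ∈ Subgroup.zpowers (v 1), (v 0)⁻¹ * h * (v 0) = h := by
      rintro _ ⟨n, rfl⟩
      have : Commute (v 0) ((v 1) ^ n) := (show Commute (v 0) (v 1) from c01).zpow_right n
      rw [mul_assoc, ← this.eq, inv_mul_cancel_left]
    constructor
    · intro hh
      rw [hcomm h hh]; exact hh
    · intro hh
      have := hcomm' _ hh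
      have e : (v 0)⁻¹ * (v 0 * h * (v 0)⁻¹) * v 0 = h := by group
      rw [e] at this
      rw [this]; exact hh
  have m0 : v 0 ∈ E := (le_sup_left : Subgroup.zpowers (v 0) ≤ E) (Subgroup.mem_zpowers _)
  have m1 : v 1 ∈ E := (le_sup_right : Subgroup.zpowers (v 1) ≤ E) (Subgroup.mem_zpowers _)
  have hfin : Finite P := inferInstance
  have hmem : ∀ w : List ℕ, (∀ i ∈ w, i = 0 ∨ i = 1) → ev v w ∈ E := by
    intro w hw
    induction w with
    | nil => rw [ev_nil]; exact one_mem _
    | cons i w ih =>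
      rw [ev_cons]
      refine mul_mem ?_ (ih fun j hj => hw j (List.mem_cons_of_mem _ hj))
      rcases hw i List.mem_cons_self with rfl | rfl
      · exact m0
      · exact m1
  have h9 : 9 ≤ Nat.card E := by
    have h := Nat.card_le_card_of_injective (fun i : Fin 9 => (⟨ev v (wE i), hmem _ (by
      have : ∀ i : Fin 9, ∀ j ∈ wE i, j = 0 ∨ j = 1 := by decide
      exact this i)⟩ : E)) (fun i j h => hinj (congrArg Subtype.val h))
    rwa [Nat.card_eq_fintype_card, Fintype.card_fin] at h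
  obtain ⟨n, hn⟩ := IsPGroup.iff_card.1 hE
  have hn2 : 2 ≤ n := by
    by_contra hc
    have : n = 0 ∨ n = 1 := by omega
    rcases this with rfl | rfl
    · omega
    · omega
  have hidx : ¬ 3 ∣ E.index := by
    rintro ⟨k, hk⟩
    have h1 := E.card_mul_index
    rw [hcard, hn, hk] at h1
    obtain ⟨m, rfl⟩ := Nat.exists_eq_add_of_le hn2
    have h27 : 27 ∣ 7920 := ⟨3 ^ m * k, by rw [← h1, pow_add]; ring⟩
    revert h27
    decide
  refine ⟨hE.toSylow hidx, ⟨m0, m1⟩, fun K h0 h1 => ?_⟩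
  show E ≤ K
  exact sup_le ((Subgroup.zpowers_le).2 h0) ((Subgroup.zpowers_le).2 h1)

/-! ### the kill -/

/-- the permutation of `e₁` on the system -/
def σe : Equiv.Perm (Fin 10) where
  toFun i := ![8, 7, 5, 2, 1, 3, 6, 4, 9, 0] i
  invFun i := ![9, 4, 3, 5, 7, 2, 6, 1, 0, 8] i
  left_inv := by decide
  right_inv := by decide

theorem σe_cube : σe ^ 3 = 1 := by decide

theorem σe_even : σe ∈ alternatingGroup (Fin 10) := by
  rw [Equiv.Perm.mem_alternatingGroup]
  have h := congrArg Equiv.Perm.sign σe_cube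
  rw [map_pow, map_one] at h
  rcases Int.units_eq_one_or (Equiv.Perm.sign σe) with h1 | h1
  · exact h1
  · rw [h1] at h
    exact absurd h (by decide)

theorem ep_σe (i : Fin 10) : ep (i.1 + 1) = (σe i).1 + 1 := by
  revert i
  decide

/-- **`M₁₁` is not maximal in `Ω₉(q)`, `q` a power of 11.** -/
theorem m11_kill [Fintype F] {Q : QuadraticForm F (ι → F)} {H : Subgroup (GL ι F)} (c : Ctx 11 Q H P)
    (hM : Spor.IsoM11 (Soc P)) : False := by
  have hp : Fact (Nat.Prime 11) := ⟨c.prime⟩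
  have hch := c.charP
  have hC := c.core
  obtain ⟨e0⟩ := hM
  let e : P ≃* Spor.M11 := c.soc.trans e0
  let v : ℕ → P := fun i => e.symm (v11 i)
  have hv : Sat v := sat_11.map e.symm.toMonoidHom
  have hL : Cert v certA := certA_11.map e.symm.toMonoidHom
  have hev : ∀ w, ev v w = e.symm (ev v11 w) := fun w => (map_ev v11 e.symm.toMonoidHom w).symm
  have hv0 : v 0 ≠ 1 := by
    intro h0
    apply v11_zero_ne
    have := congrArg e h0
    rwa [MulEquiv.apply_symm_apply, map_one] at this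
  have hinj : Function.Injective fun i : Fin 9 => ev v (wE i) := by
    intro i j hij
    simp only [hev] at hij
    exact wE_injective (e.symm.injective hij)
  have hcard : Nat.card P = 7920 := by
    rw [Nat.card_congr e.toEquiv]
    exact H882.Grp.card11
  have hgen : Subgroup.closure ({v 5, v 8} : Set P) = ⊤ := by
    have h1 : (Subgroup.closure ({v11 5, v11 8} : Set Spor.M11)).map e.symm.toMonoidHom =
        Subgroup.closure ({v 5, v 8} : Set P) := by
      rw [MonoidHom.map_closure, Set.image_pair]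
      rfl
    rw [← h1, closure_11, ← MonoidHom.range_eq_map]
    exact MonoidHom.range_eq_top.2 e.symm.surjective
  obtain ⟨u, hu0, hu, hsum, huniq⟩ := exists_uF c.nine hv hL hv0
  have hop : ∀ i, op v (rep P F) [i] = rep P F (v i) := by
    intro i
    rw [op, ev_cons, ev_nil, mul_one]
  have hfinP : Finite P := c.finite_P
  -- induction over the generators
  have hind : ∀ (M : P → Prop), M 1 → (∀ g, M g → M (v 5 * g)) → (∀ g, M g → M (v 8 * g)) → ∀ g, M g := by
    intro M h1 h5 h8 g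
    have hg : g ∈ Submonoid.closure ({v 5, v 8} : Set P) := by
      rw [← Subgroup.closure_toSubmonoid_of_finite, hgen]
      trivial
    induction hg using Submonoid.closure_induction_left with
    | one => exact h1
    | mul_left x hx y _ ih =>
      rcases hx with rfl | hx
      · exact h5 _ ih
      · rw [Set.mem_singleton_iff] at hx
        subst hx
        exact h8 _ ih
  have hmul : ∀ (g h : P) (x : ι → F), rep P F (g * h) x = rep P F g (rep P F h x) := by
    intro g h x
    rw [map_mul]; rfl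
  have hQ : ∀ (g : P) (x : ι → F), Q (rep P F g x) = Q x := by
    intro g x
    rw [rep_self]
    exact isometry_of_mem (c.max.1.le (c.res.le g.2)) x
  have hfin : finrank F (ι → F) = 9 := by rw [Module.finrank_fintype_fun_eq_card, c.nine]
  have h11 : (11 : F) = 0 := by
    have := CharP.cast_eq_zero F 11
    exact_mod_cast this
  have h3 : (3 : F) ≠ 0 := by
    intro h
    have : ((3 : ℕ) : F) = ((0 : ℕ) : F) := by rw [Nat.cast_ofNat, h, Nat.cast_zero]
    exact absurd (nat_eq (by norm_num) (by norm_num) this) (by norm_num)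
  have hS : H882.Del.Sys F (vv v (rep P F) u) := by
    refine hu.sys hfin hL hsum h11 hu0 ?_ ?_
    · intro s h5 h8
      rw [hop] at h5 h8
      by_contra hs
      refine H879.TL.no_fixed_vector hC hs fun g hg => ?_
      rw [← rep_self (P := P) ⟨g, hg⟩]
      refine hind (fun g => rep P F g s = s) ?_ ?_ ?_ _
      · rw [map_one]; rfl
      · intro g h
        rw [hmul, h, h5]
      · intro g h
        rw [hmul, h, h8]
    · intro S h5 h8
      rw [hop] at h5 h8
      refine invariant F hC S ?_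
      refine hind (fun g => ∀ x ∈ S, rep P F g x ∈ S) ?_ ?_ ?_
      · intro x hx
        rw [map_one]; exact hx
      · intro g h x hx
        rw [hmul]; exact h5 _ (h x hx)
      · intro g h x hx
        rw [hmul]; exact h8 _ (h x hx)
  have hG : Good Q := H883.Bridge.good_of_card c.nd (by rw [c.nine]; norm_num)
  have hgr := Fx.gr hu hL hsum hQ
  have ha : Q u ≠ 0 := H882.Del.a_ne hS hgr c.nd
  -- the roots
  have hroot : ∀ g : P, rep P F g u ∈ H882.Del.rts F (vv v (rep P F) u) := by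
    refine hind (fun g => rep P F g u ∈ H882.Del.rts F (vv v (rep P F) u)) ?_ ?_ ?_
    · rw [map_one]; exact u_mem_rts
    · intro g h
      rw [hmul, ← hop]; exact hu.rts_x hL hsum h
    · intro g h
      rw [hmul, ← hop]; exact hu.rts_t hL hsum h
  -- the lines
  obtain ⟨U, ⟨hU0, hU1⟩, hUK⟩ := sylow_nine hv hinj hcard
  have h3f : Fact (Nat.Prime 3) := ⟨Nat.prime_three⟩
  have hUfix : ∀ x ∈ U, ((x : GL ι F) : Matrix ι ι F) *ᵥ u = u := by
    intro x hx
    have h1 : (U : Subgroup P) ≤ H637.JW.stab (rep P F) u := hUK _ (by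
      rw [H637.JW.mem_stab, ← hop]; exact hu.e₁) (by
      rw [H637.JW.mem_stab, ← hop]; exact hu.e₂)
    have h2 := h1 hx
    rw [H637.JW.mem_stab, rep_self] at h2
    exact h2
  have hl := H882.Del.lines_of_sylow (H := H) U hUfix (fun w hw => huniq w (by
    rw [rep_self]; exact hw _ hU0) (by rw [rep_self]; exact hw _ hU1)) c.res.normal
  have hHroot : ∀ h ∈ H, ∀ x ∈ H882.Del.rts F (vv v (rep P F) u),
      (h : Matrix ι ι F) *ᵥ x ∈ H882.Del.rts F (vv v (rep P F) u) := by
    intro h hh x hx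
    obtain ⟨w, rfl⟩ := hu.root_eq hL hsum hx
    have e1 : (h : Matrix ι ι F) *ᵥ (op v (rep P F) w u) =
        ((h * ((ev v w : P) : GL ι F) : GL ι F) : Matrix ι ι F) *ᵥ u := by
      rw [H882.Del.mulVec_mul]
      congr 1
    obtain ⟨g, hg, d, hd⟩ := hl (h * ((ev v w : P) : GL ι F)) (mul_mem hh (c.res.le (ev v w).2))
    rw [e1, hd]
    have e2 : (g : Matrix ι ι F) *ᵥ u = rep P F ⟨g, hg⟩ u := (rep_self (P := P) ⟨g, hg⟩ u).symm
    rw [e2]
    refine H882.Del.rts_smul (hroot _) ?_
    have e3 : Q (((h * ((ev v w : P) : GL ι F) : GL ι F) : Matrix ι ι F) *ᵥ u) = Q u :=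
      isometry_of_mem (c.max.1.le (mul_mem hh (c.res.le (ev v w).2))) u
    rw [hd, e2, QuadraticMap.map_smul, hQ, smul_eq_mul] at e3
    have e4 : (d - 1) * (d + 1) = 0 := by
      apply mul_right_cancel₀ ha
      linear_combination e3
    rcases mul_eq_zero.1 e4 with h | h
    · left; linear_combination h
    · right; linear_combination h
  -- translation to linear equivalences
  let E0 := glEquiv ι F
  have hap : ∀ (g : GL ι F) (v : ι → F), E0 g v = (g : Matrix ι ι F) *ᵥ v := fun g v => glEquiv_apply g v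
  let P' : Subgroup ((ι → F) ≃ₗ[F] (ι → F)) := P.map E0.toMonoidHom
  let H' : Subgroup ((ι → F) ≃ₗ[F] (ι → F)) := H.map E0.toMonoidHom
  have hH' : IsMaximalIn (E Q) H' := by
    have h := (Cfsg.Agent.H883.Bridge.isMaximalIn_map_iff E0 (omegaGL (Q : (ι → F) → F)) H).2 c.max
    rwa [Cfsg.Agent.H883.Bridge.map_omegaGL_eq_E hG] at h
  have hfP' : Finite P' := Finite.of_equiv _ (E0.subgroupMap P).toEquiv
  have hcP : Nat.card P' = 7920 := by
    rw [← hcard]
    exact (Nat.card_congr (E0.subgroupMap P).toEquiv).symm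
  have hcA : Nat.card P' < Nat.card (alternatingGroup (Fin 10)) := by
    rw [hcP]
    have h3 := two_mul_nat_card_alternatingGroup (α := Fin 10)
    rw [Nat.card_perm, Nat.card_eq_fintype_card (α := Fin 10), Fintype.card_fin] at h3
    have : Nat.factorial 10 = 3628800 := by decide
    omega
  refine kill_roots hS hgr c.two hG h3 (by decide) hH' ?_ ?_ hcA (g := E0 (v 0 : P)) ⟨_, (v 0).2, rfl⟩ ?_ ?_
  · rintro _ ⟨h, hh, rfl⟩
    refine H882.Del.mem_stabR_of (E_le_O (hH'.1.le ⟨h, hh, rfl⟩)) ?_ ?_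
    · intro x hx
      show E0 h x ∈ _
      rw [hap]
      exact hHroot h hh x hx
    · intro x hx
      have e1 : (E0.toMonoidHom h)⁻¹ = E0 h⁻¹ := (map_inv E0 h).symm
      rw [e1, hap]
      exact hHroot _ (inv_mem hh) x hx
  · rintro _ ⟨h, hh, rfl⟩ _ ⟨x, hx, rfl⟩
    refine ⟨h * x * h⁻¹, c.res.normal h hh x hx, ?_⟩
    simp only [_root_.MulEquiv.toMonoidHom_eq_coe, _root_.MonoidHom.coe_coe, _root_.map_mul, _root_.map_inv]
  · intro h1
    apply hv0
    apply Subtype.ext
    exact E0.injective (h1.trans (map_one E0).symm)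
  · refine ⟨σe, σe_even, ?_⟩
    refine hS.ext' fun i => ?_
    rw [hS.perm_apply, hap, ← rep_self, ← hop]
    show wv v (rep P F) u ((σe i).1 + 1) = op v (rep P F) [0] (wv v (rep P F) u (i.1 + 1))
    rw [hu.e_w hL (by omega), ep_σe]

/-! ### the rows -/

theorem v11_five_ne : v11 5 ≠ 1 := by
  intro h
  have h1 := orders_11.2.2.2
  rw [ev_cons, ev_nil, mul_one, h, orderOf_one] at h1
  omega

/-- `M₁₁` in dimension at most 9: `p = 11` -/
theorem m11_eleven [Finite F] (p : ℕ) [Fact p.Prime] [CharP F p] (hC : Core P) (hsd : SD P)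
    (hn : Fintype.card ι ≤ 9) (hM : Spor.IsoM11 (Soc P)) : p = 11 := by
  obtain ⟨e, -⟩ := exists_letters hC hM
  refine dvd_eleven p (v := fun i => e.symm (v11 i)) (sat_11.map e.symm.toMonoidHom) ?_ hsd hn
  intro h0
  apply v11_five_ne
  have := congrArg e h0
  rwa [MulEquiv.apply_symm_apply, map_one] at this

/-- `M₁₂` in dimension 9: never (real traces, no scalars) -/
theorem m12_nine [Finite F] (p : ℕ) [hp : Fact p.Prime] [CharP F p] (hbot : (scalars ι F).subgroupOf P = ⊥)
    (hsd : SD P) (hn : Fintype.card ι = 9) (hM : Spor.IsoM12 (Soc P)) : False := by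
  obtain ⟨e0⟩ := hM
  let e : P ≃* Spor.M12 := (H879.TL.socEquiv hbot).trans e0
  let v : ℕ → P := fun i => e.symm (vM i)
  have hv : Sat v := sat_M.map e.symm.toMonoidHom
  have hL : Cert v certA := certA_M.map e.symm.toMonoidHom
  have hB : Cert v certB := certB_M.map e.symm.toMonoidHom
  have hne : ∀ i, vM i ≠ 1 → v i ≠ 1 := by
    intro i hi h0
    apply hi
    have := congrArg e h0
    rwa [MulEquiv.apply_symm_apply, map_one] at this
  obtain rfl : p = 11 := dvd_eleven p hv (hne 5 vM_five_ne) hsd (by omega)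
  have hck : CharP (AlgebraicClosure F) 11 := charP_of_injective_algebraMap (algebraMap F _).injective 11
  obtain ⟨ω, hω⟩ := exists_root (AlgebraicClosure F) 3 (cast_ne _ hp.out Nat.prime_three (by norm_num))
  refine no_twelve (R := rep P (AlgebraicClosure F)) hv hL hB hω ?_ (by
    rw [Module.finrank_fintype_fun_eq_card, hn])
  intro h
  have h1 := rep_eq_one _ h
  rw [ev_cons, ev_nil, mul_one] at h1
  exact hne 0 vM_zero_ne h1

end Cfsg.Agent.H879.Nine.ME
end

-- part: H879/Nine/RowSpor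
section
/-!
# `Ω₉(q)`: sporadic groups (helper879)
-/

set_option autoImplicit false
set_option linter.unusedSectionVars false

namespace Cfsg.Agent.H879.Nine

open Matrix Cfsg Cfsg.Geo Cfsg.Agent.H915.LD Cfsg.Agent.H936.List12 Cfsg.Agent.H921.Spor

universe u v

variable {F : Type u} [Field F] [Finite F] {P : Subgroup (GL (Fin 9) F)}

theorem pr_two (hC : Core P) {T : Type v} [Group T] (e : Soc P ≃* T) : H912.Bd.PR F 9 2 T :=
  hC.pr e (core_coprime hC Nat.prime_two (by rw [Fintype.card_fin]; decide))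

/-- **Sporadic groups in dimension nine, characteristic odd, self-dual.** -/
theorem row_spor (p : ℕ) [hp : Fact p.Prime] [CharP F p] (hC : Core P) (h2 : (2 : F) ≠ 0) (hsd : SD P)
    (hbot : (scalars (Fin 9) F).subgroupOf P = ⊥) (h : SporC (Soc P)) : p = 11 ∧ Cfsg.Spor.IsoM11 (Soc P) := by
  have h2' : ((2 : ℕ) : F) ≠ 0 := by exact_mod_cast h2
  rcases h with h | h | h | h | h | h | h | h | h
  · exact ⟨ME.m11_eleven p hC hsd (by simp) h, h⟩
  · exact (ME.m12_nine p hbot hsd (by simp) h).elim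
  · obtain ⟨e⟩ := h
    have := M24.M22_two.bd Nat.prime_two h2' 9 (pr_two hC e)
    omega
  · obtain ⟨e⟩ := h
    have := M24.M23_two.bd Nat.prime_two h2' 9 (pr_two hC e)
    omega
  · obtain ⟨e⟩ := h
    have := M24.M24_two.bd Nat.prime_two h2' 9 (pr_two hC e)
    omega
  · exact (H933.JOneTen.j1_false' hC h (by simp) (by simp)).elim
  · obtain ⟨e⟩ := h
    have := J2.J2_two.bd Nat.prime_two h2' 9 (pr_two hC e)
    omega
  · have := H95.JT.j3 p hC h (by simp)
    exfalso
    apply h2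
    have h3 : ((p : ℕ) : F) = 0 := CharP.cast_eq_zero F p
    rw [this.1] at h3
    exact_mod_cast h3
  · obtain ⟨e⟩ := h
    have := Suz.Suz_two.bd Nat.prime_two h2' 9 (pr_two hC e)
    omega

end Cfsg.Agent.H879.Nine
end

-- part: H879/Nine/A7Nine
section
/-!
# `A₇` has no orthogonal irreducible representation of dimension `9`, characteristic `≠ 2, 7` (helper879)

`L₂(7) = ⟨c, y, t⟩ < A₇` with `c` of order seven. The fixed space of `c` has dimension three; Scott's lemma and the
four-group `⟨z, b⟩ ≤ L₂(7)` show that the four-group has no fixed vector. A vector `w` fixed by `c` is then fixed by `y`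
and `w + N t w`, `N = ∑ c ^ i`, is fixed by `L₂(7)`, so it is zero; this gives `4 w = 0`.
-/

set_option autoImplicit false
set_option linter.unusedSectionVars false
set_option maxRecDepth 10000
set_option maxHeartbeats 1000000

namespace Cfsg.Agent.H879.Nine.A7

open Module Equiv Cfsg.Agent.H637.JW Cfsg.Agent.H882.Dim Cfsg.Agent.H882.Sc Cfsg.Agent.H923.Ten.A7
  Cfsg.Agent.H882.Sc.A7

/-- the seven-cycle `(0 1 2 4 6 3 5)` -/
def kc : A := e2 0 1 1 2 * e2 2 4 4 6 * e2 6 3 3 5
/-- `(1 2 6)(3 4 5)` -/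
def ky : A := e2 1 2 2 6 * e2 3 4 4 5
/-- `(2 6)(3 5)` -/
def kt : A := e2 2 6 3 5

variable {K : Type*} [Field K] {V : Type*} [AddCommGroup V] [Module K V] [FiniteDimensional K V]
  {σ : A →* Module.End K V}

/-- the sum over `⟨c⟩` -/
def N (σ : A →* Module.End K V) (v : V) : V :=
  v + σ kc v + σ (kc ^ 2) v + σ (kc ^ 3) v + σ (kc ^ 4) v + σ (kc ^ 5) v + σ (kc ^ 6) v

theorem N_c (v : V) : N σ (σ kc v) = N σ v := by
  unfold N
  rw [← mul_apply', ← mul_apply', ← mul_apply', ← mul_apply', ← mul_apply', ← mul_apply',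
    ← pow_succ, ← pow_succ, ← pow_succ, ← pow_succ, ← pow_succ, show kc * kc = kc ^ 2 from (pow_two kc).symm,
    show kc ^ (6 + 1) = 1 by decide +kernel, act_one]
  abel

theorem N_pow (k : ℕ) (v : V) : N σ (σ (kc ^ k) v) = N σ v := by
  induction k generalizing v with
  | zero => rw [pow_zero, act_one]
  | succ n ih => rw [pow_succ, mul_apply', ih, N_c]

theorem c_N (v : V) : σ kc (N σ v) = N σ v := by
  unfold N
  rw [map_add, map_add, map_add, map_add, map_add, map_add,
    ← mul_apply', ← mul_apply', ← mul_apply', ← mul_apply', ← mul_apply', ← mul_apply',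
    ← pow_succ', ← pow_succ', ← pow_succ', ← pow_succ', ← pow_succ', show kc * kc = kc ^ 2 from (pow_two kc).symm,
    show kc ^ (6 + 1) = 1 by decide +kernel, act_one]
  abel

theorem N_add (v w : V) : N σ (v + w) = N σ v + N σ w := by
  unfold N
  simp only [map_add]
  abel

theorem N_zero : N σ (0 : V) = 0 := by
  unfold N
  simp only [map_zero, add_zero]

theorem y_N (v : V) : σ ky (N σ v) = N σ (σ ky v) := by
  have h : ∀ k l : ℕ, ky * kc ^ k = kc ^ l * ky → σ ky (σ (kc ^ k) v) = σ (kc ^ l) (σ ky v) := by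
    intro k l h
    rw [← mul_apply', h, mul_apply']
  unfold N
  rw [map_add, map_add, map_add, map_add, map_add, map_add, h 2 4 (by decide +kernel), h 3 6 (by decide +kernel),
    h 4 1 (by decide +kernel), h 5 3 (by decide +kernel), h 6 5 (by decide +kernel), pow_one,
    show σ ky (σ kc v) = σ (kc ^ 2) (σ ky v) by
      rw [← mul_apply', ← mul_apply', show ky * kc = kc ^ 2 * ky by decide +kernel]]
  abel

/-- **The argument in `L₂(7)`.** -/
theorem no_fix (h2 : (2 : K) ≠ 0) (h7 : (7 : K) ≠ 0) (hV : ∀ v : V, σ z v = v → σ b1 v = v → v = 0) {w : V}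
    (hw : σ kc w = w) : w = 0 := by
  have hpow : ∀ (v : V), σ kc v = v → ∀ k : ℕ, σ (kc ^ k) v = v := by
    intro v hv k
    induction k with
    | zero => rw [pow_zero, act_one]
    | succ n ih => rw [pow_succ, mul_apply', hv, ih]
  -- the four-group
  have four : ∀ v : V, v + σ z v + σ b1 v + σ (z * b1) v = 0 := by
    intro v
    apply hV
    · rw [map_add, map_add, map_add, ← mul_apply', ← mul_apply', ← mul_apply', show z * z = 1 by decide +kernel,
        show z * (z * b1) = b1 by decide +kernel, act_one]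
      abel
    · rw [map_add, map_add, map_add, ← mul_apply', ← mul_apply', ← mul_apply', show b1 * b1 = 1 by decide +kernel,
        show b1 * (z * b1) = z by decide +kernel, show b1 * z = z * b1 by decide +kernel, act_one]
      abel
  have star : ∀ v : V, σ kc v = v → (7 : K) • v + N σ (σ kt v) + N σ (σ kt (σ ky v)) + N σ (σ kt (σ (ky * ky) v)) = 0 := by
    intro v hv
    have h1 := four v
    have hz : σ z v = σ (kc ^ 6) (σ kt (σ (ky * ky) v)) := by
      conv_rhs => rw [← hv]
      rw [← mul_apply', ← mul_apply', ← mul_apply', show kc ^ 6 * kt * (ky * ky) * kc = z by decide +kernel]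
    have hb : σ b1 v = σ (kc ^ 4) (σ kt (σ ky v)) := by
      conv_rhs => rw [← hpow v hv 3]
      rw [← mul_apply', ← mul_apply', ← mul_apply', show kc ^ 4 * kt * ky * kc ^ 3 = b1 by decide +kernel]
    have hzb : σ (z * b1) v = σ (kc ^ 3) (σ kt v) := by
      conv_rhs => rw [← hpow v hv 4]
      rw [← mul_apply', ← mul_apply', show kc ^ 3 * kt * kc ^ 4 = z * b1 by decide +kernel]
    rw [hz, hb, hzb] at h1
    have h3 := congrArg (N σ) h1
    rw [N_add, N_add, N_add, N_pow, N_pow, N_pow, N_zero] at h3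
    have h4 : N σ v = (7 : K) • v := by
      unfold N
      rw [hv, hpow v hv, hpow v hv, hpow v hv, hpow v hv, hpow v hv]
      module
    rw [h4] at h3
    rw [← h3]
    abel
  -- `y` acts trivially on the fixed space of `c`
  have hyc : ∀ v : V, σ kc v = v → σ kc (σ ky v) = σ ky v := by
    intro v hv
    rw [← mul_apply', show kc * ky = ky * kc ^ 4 by decide +kernel, mul_apply', hpow v hv]
  have hyyy : ∀ v : V, σ (ky * ky) (σ ky v) = v := by
    intro v
    rw [← mul_apply', show ky * ky * ky = 1 by decide +kernel, act_one]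
  have hyw : σ ky w = w := by
    have h1 := star w hw
    have h3 := star (σ ky w) (hyc w hw)
    rw [hyyy, show σ ky (σ ky w) = σ (ky * ky) w from (mul_apply' _ _ _).symm] at h3
    have h4 : (7 : K) • (σ ky w - w) = 0 := by
      rw [smul_sub]
      have : (7 : K) • σ ky w - (7 : K) • w = ((7 : K) • σ ky w + N σ (σ kt (σ ky w)) + N σ (σ kt (σ (ky * ky) w)) +
        N σ (σ kt w)) - ((7 : K) • w + N σ (σ kt w) + N σ (σ kt (σ ky w)) + N σ (σ kt (σ (ky * ky) w))) := by abel
      rw [this, h3, h1, sub_zero]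
    exact sub_eq_zero.1 ((smul_eq_zero.1 h4).resolve_left h7)
  have hyyw : σ (ky * ky) w = w := by rw [mul_apply', hyw, hyw]
  have h73 := star w hw
  rw [hyw, hyyw] at h73
  -- the fixed vector
  have hs : w + N σ (σ kt w) = 0 := by
    set s := w + N σ (σ kt w) with hs
    have sc : σ kc s = s := by rw [hs, map_add, hw, c_N]
    have sy : σ ky s = s := by
      rw [hs, map_add, hyw, y_N, ← mul_apply', show ky * kt = kt * (ky * ky) by decide +kernel, mul_apply', hyyw]
    have st : σ kt s = s := by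
      have h : ∀ (k a : ℕ) (g : A), kt * kc ^ k * kt = kc ^ a * (kt * g) → σ g w = w →
          σ kt (σ (kc ^ k) (σ kt w)) = σ (kc ^ a) (σ kt w) := by
        intro k a g h1 h3
        rw [← mul_apply', ← mul_apply', h1, mul_apply', mul_apply', h3]
      have hg0 : ∀ k, σ (kc ^ k) w = w := hpow w hw
      have hg1 : ∀ k, σ (ky * kc ^ k) w = w := fun k => by rw [mul_apply', hg0, hyw]
      have hg2 : ∀ k, σ (ky * ky * kc ^ k) w = w := fun k => by rw [mul_apply', hg0, hyyw]
      have e1 := h 1 3 (ky * kc ^ 3) (by decide +kernel) (hg1 3)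
      rw [pow_one] at e1
      rw [hs]
      unfold N
      rw [map_add, map_add, map_add, map_add, map_add, map_add, map_add, e1,
        h 2 5 (kc ^ 5) (by decide +kernel) (hg0 5), h 3 1 (ky * ky * kc ^ 1) (by decide +kernel) (hg2 1),
        h 4 6 (ky * ky * kc ^ 6) (by decide +kernel) (hg2 6), h 5 2 (kc ^ 2) (by decide +kernel) (hg0 2),
        h 6 4 (ky * kc ^ 4) (by decide +kernel) (hg1 4), ← mul_apply' kt kt, show kt * kt = 1 by decide +kernel,
        act_one, pow_one]
      abel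
    have spow : ∀ k : ℕ, σ (kc ^ k) s = s := hpow s sc
    apply hV
    · rw [show z = kc ^ 6 * (kt * (ky * (ky * kc))) by decide +kernel, mul_apply', mul_apply', mul_apply', mul_apply',
        sc, sy, sy, st, spow]
    · rw [show b1 = kc ^ 4 * (kt * (ky * kc ^ 3)) by decide +kernel, mul_apply', mul_apply', mul_apply',
        spow, sy, st, spow]
  have h4 : (2 : K) • (2 : K) • w = 0 := by
    have : (2 : K) • (2 : K) • w = ((7 : K) • w + N σ (σ kt w) + N σ (σ kt w) + N σ (σ kt w)) -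
        (3 : K) • (w + N σ (σ kt w)) := by module
    rw [this, h73, hs, smul_zero, sub_zero]
  exact (smul_eq_zero.1 ((smul_eq_zero.1 h4).resolve_left h2)).resolve_left h2

/-- **`A₇` in dimension `9`, characteristic `≠ 7`.** -/
theorem nine [IsAlgClosed K] (h2 : (2 : K) ≠ 0) (h7 : (7 : K) ≠ 0) (hI : Irr σ) {B : V →ₗ[K] V →ₗ[K] K}
    (hB : Form σ B) (hV : finrank K V = 9) : False := by
  have : Fact (Nat.Prime 7) := ⟨by norm_num⟩
  have : IsSimpleGroup A := alternatingGroup.isSimpleGroup (by simp)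
  have k1 := klein (σ := σ) h2 (a := z) (b := b1) (by decide +kernel) (by decide +kernel) (by decide +kernel) rfl
    (fix_conj (k := y1) (by decide +kernel)) (fix_conj (k := y1 * y1) (by decide +kernel))
  rw [hV] at k1
  have h7' : ((7 : ℕ) : K) ≠ 0 := by exact_mod_cast h7
  obtain ⟨m, hm⟩ := eig hB (c := c) (y := yc) (r := 7) (k := 2) h7' (by decide +kernel) (by decide +kernel) res7
  obtain ⟨m', hm'⟩ := eig hB (c := z * c) (y := yzc) (r := 7) (k := 2) h7' (by decide +kernel) (by decide +kernel)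
    res7
  obtain ⟨m'', hm''⟩ := eig hB (c := kc) (y := ky) (r := 7) (k := 2) h7' (by decide +kernel) (by decide +kernel) res7
  have l1 := hI.fix_lt (g := c) (by decide +kernel)
  have l2 := hI.fix_lt (g := z * c) (by decide +kernel)
  have l3 := hI.fix_lt (g := kc) (by decide +kernel)
  have s1 := hI.scott gen_zc
  have h0 : finrank K (_root_.Cfsg.Agent.H637.JW.Fix σ z ⊓ _root_.Cfsg.Agent.H637.JW.Fix σ b1 : Submodule K V) = 0 := by omega
  have hbot := Submodule.finrank_eq_zero.1 h0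
  have h3 : _root_.Cfsg.Agent.H637.JW.Fix σ kc = ⊥ := by
    rw [eq_bot_iff]
    intro w hw
    rw [Submodule.mem_bot]
    refine no_fix h2 h7 (fun v hz hb => ?_) (mem_Fix.1 hw)
    have : v ∈ (_root_.Cfsg.Agent.H637.JW.Fix σ z ⊓ _root_.Cfsg.Agent.H637.JW.Fix σ b1 : Submodule K V) := ⟨mem_Fix.2 hz, mem_Fix.2 hb⟩
    rw [hbot] at this
    exact (Submodule.mem_bot K).1 this
  rw [h3, finrank_bot] at hm''
  omega

end Cfsg.Agent.H879.Nine.A7
end

-- part: H879/Nine/A7Seven
section
/-!
# `A₇` has no orthogonal irreducible representation of dimension `9`, characteristic `7` (helper879)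
-/

set_option autoImplicit false
set_option linter.unusedSectionVars false
set_option maxRecDepth 10000
set_option maxHeartbeats 1000000

namespace Cfsg.Agent.H879.Nine.A7

open Module Equiv Cfsg.Agent.H637.JW Cfsg.Agent.H882.Dim Cfsg.Agent.H882.Sc

section general

variable {K : Type*} [Field K] {V : Type*} [AddCommGroup V] [Module K V] [FiniteDimensional K V]
  {G : Type*} [Group G] {σ : G →* Module.End K V}

/-- the subspace of dimension at most `dim V^y` -/
theorem le_y (h2 : (2 : K) ≠ 0) {a b y : G} (haa : a * a = 1) (hbb : b * b = 1) (hab : a * b = b * a)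
    (hyy : y * y * y = 1) (hya : y * a = b * y) (hyb : y * b = a * b * y) :
    finrank K (_root_.Cfsg.Agent.H637.JW.Fix σ a ⊓ An σ b : Submodule K V) ≤ finrank K (Fix σ y) := by
  have hya' : ∀ v, σ y (σ a v) = σ b (σ y v) := fun v => by rw [← mul_apply', hya, mul_apply']
  have hyb' : ∀ v, σ y (σ b v) = σ a (σ b (σ y v)) := fun v => by
    rw [← mul_apply', hyb, mul_apply', mul_apply']
  have hab' : ∀ v, σ a (σ b v) = σ b (σ a v) := fun v => by rw [← mul_apply', hab, mul_apply']
  have haa' : ∀ v, σ a (σ a v) = v := fun v => by rw [← mul_apply', haa, act_one]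
  have hbb' : ∀ v, σ b (σ b v) = v := fun v => by rw [← mul_apply', hbb, act_one]
  refine le_of_inj (1 + σ y + σ y * σ y) _ _ (fun v _ => ?_) (fun v hv h0 => ?_)
  · rw [mem_Fix, LinearMap.add_apply, LinearMap.add_apply, Module.End.one_apply, Module.End.mul_apply, map_add, map_add,
      show σ y (σ y (σ y v)) = v by rw [← mul_apply', ← mul_apply', hyy, act_one]]
    abel
  · rw [LinearMap.add_apply, LinearMap.add_apply, Module.End.one_apply, Module.End.mul_apply] at h0
    have h1 := mem_Fix.1 hv.1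
    have h3 := mem_An.1 hv.2
    -- the action of `b` and `a` on `y v`
    have h4 : σ b (σ y v) = σ y v := by rw [← hya', h1]
    have h5 : σ a (σ y v) = -σ y v := by
      have := hyb' v
      rw [h4, h3, map_neg] at this
      exact this.symm
    have h6 : σ b (σ y (σ y v)) = -σ y (σ y v) := by rw [← hya', h5, map_neg]
    have h7 : σ a (σ y (σ y v)) = -σ y (σ y v) := by
      have := hyb' (σ y v)
      rw [h4, h6, map_neg] at this
      rw [← neg_eq_iff_eq_neg]
      exact this.symm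
    have h8 := congrArg (σ a) h0
    rw [map_add, map_add, map_zero, h1, h5, h7] at h8
    have h9 : (2 : K) • v = 0 := by
      have : (2 : K) • v = (v + σ y v + σ y (σ y v)) + (v + -σ y v + -σ y (σ y v)) := by module
      rw [this, h0, h8, add_zero]
    exact (smul_eq_zero.1 h9).resolve_left h2

/-- the four-group on an invariant subspace -/
theorem three_k (h2 : (2 : K) ≠ 0) {a b y : G} (haa : a * a = 1) (hbb : b * b = 1) (hab : a * b = b * a)
    (hya : y * a = b * y) (hyb : y * b = a * b * y) (U : Submodule K V) (ha : ∀ v ∈ U, σ a v ∈ U)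
    (hb : ∀ v ∈ U, σ b v ∈ U) (hy : ∀ v ∈ U, σ y v ∈ U) :
    ∃ k, finrank K U = finrank K (U ⊓ _root_.Cfsg.Agent.H637.JW.Fix σ a ⊓ _root_.Cfsg.Agent.H637.JW.Fix σ b : Submodule K V) + 3 * k := by
  have hya' : ∀ v, σ y (σ a v) = σ b (σ y v) := fun v => by rw [← mul_apply', hya, mul_apply']
  have hyb' : ∀ v, σ y (σ b v) = σ a (σ b (σ y v)) := fun v => by
    rw [← mul_apply', hyb, mul_apply', mul_apply']
  have hab' : ∀ v, σ a (σ b v) = σ b (σ a v) := fun v => by rw [← mul_apply', hab, mul_apply']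
  have haa' : ∀ v, σ a (σ a v) = v := fun v => by rw [← mul_apply', haa, act_one]
  have hbb' : ∀ v, σ b (σ b v) = v := fun v => by rw [← mul_apply', hbb, act_one]
  have s1 := split_two (σ := σ) h2 haa U ha
  have s2 := split_two (σ := σ) h2 hbb (U ⊓ _root_.Cfsg.Agent.H637.JW.Fix σ a) (fun v hv => ⟨hb v hv.1, by
    have := mem_Fix.1 hv.2
    change _ ∈ _root_.Cfsg.Agent.H637.JW.Fix σ a
    rw [mem_Fix, hab', this]⟩)
  have s3 := split_two (σ := σ) h2 hbb (U ⊓ An σ a) (fun v hv => ⟨hb v hv.1, by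
    have := mem_An.1 hv.2
    change _ ∈ An σ a
    rw [mem_An, hab', this, map_neg]⟩)
  have l1 : finrank K (U ⊓ _root_.Cfsg.Agent.H637.JW.Fix σ a ⊓ An σ b : Submodule K V) ≤ finrank K (U ⊓ An σ a ⊓ _root_.Cfsg.Agent.H637.JW.Fix σ b : Submodule K V) := by
    refine finrank_le_of_map (σ := σ) y fun v hv => ?_
    have h1 := mem_Fix.1 hv.1.2
    have h3 := mem_An.1 hv.2
    have h4 : σ b (σ y v) = σ y v := by rw [← hya', h1]
    refine ⟨⟨hy v hv.1.1, ?_⟩, mem_Fix.2 h4⟩
    change _ ∈ An σ a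
    have := hyb' v
    rw [h4, h3, map_neg] at this
    exact mem_An.2 this.symm
  have l2 : finrank K (U ⊓ An σ a ⊓ _root_.Cfsg.Agent.H637.JW.Fix σ b : Submodule K V) ≤ finrank K (U ⊓ An σ a ⊓ An σ b : Submodule K V) := by
    refine finrank_le_of_map (σ := σ) y fun v hv => ?_
    have h1 := mem_An.1 hv.1.2
    have h3 := mem_Fix.1 hv.2
    have h4 : σ b (σ y v) = -σ y v := by rw [← hya', h1, map_neg]
    refine ⟨⟨hy v hv.1.1, ?_⟩, mem_An.2 h4⟩
    change _ ∈ An σ a
    have := hyb' v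
    rw [h4, h3, map_neg] at this
    rw [mem_An, ← neg_eq_iff_eq_neg]
    exact this.symm
  have l3 : finrank K (U ⊓ An σ a ⊓ An σ b : Submodule K V) ≤ finrank K (U ⊓ _root_.Cfsg.Agent.H637.JW.Fix σ a ⊓ An σ b : Submodule K V) := by
    refine finrank_le_of_map (σ := σ) y fun v hv => ?_
    have h1 := mem_An.1 hv.1.2
    have h3 := mem_An.1 hv.2
    have h4 : σ b (σ y v) = -σ y v := by rw [← hya', h1, map_neg]
    refine ⟨⟨hy v hv.1.1, ?_⟩, mem_An.2 h4⟩
    change _ ∈ _root_.Cfsg.Agent.H637.JW.Fix σ a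
    have := hyb' v
    rw [h4, h3, map_neg, map_neg] at this
    exact mem_Fix.2 (neg_injective this.symm)
  exact ⟨finrank K (U ⊓ _root_.Cfsg.Agent.H637.JW.Fix σ a ⊓ An σ b : Submodule K V), by omega⟩

/-- the fixed vectors of the element `s` of order three commuting with the four-group `⟨a, b⟩` are fixed by `⟨a, b⟩` -/
theorem fix_four (h2 : (2 : K) ≠ 0) (h3 : (3 : K) ≠ 0) {a b y s t : G} (haa : a * a = 1) (hbb : b * b = 1)
    (hab : a * b = b * a) (hya : y * a = b * y) (hyb : y * b = a * b * y) (hs : s * s * s = 1) (hsa : a * s = s * a)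
    (hsb : b * s = s * b) (hsy : y * s = s * y) (htt : t * t = 1) (hts : t * s = s * s * t) (hta : t * a = a * t)
    (htb : t * b = a * b * t) (hX : finrank K (_root_.Cfsg.Agent.H637.JW.Fix σ a ⊓ _root_.Cfsg.Agent.H637.JW.Fix σ b : Submodule K V) = 3) (hU : finrank K (Fix σ s) = 3)
    {v : V} (hv : σ s v = v) : σ a v = v ∧ σ b v = v := by
  obtain ⟨k, hk⟩ := three_k (σ := σ) h2 haa hbb hab hya hyb (_root_.Cfsg.Agent.H637.JW.Fix σ s) (fun v hv => fix_le_of_comm hsa hv)
    (fun v hv => fix_le_of_comm hsb hv) (fun v hv => fix_le_of_comm hsy hv)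
  set X : Submodule K V := _root_.Cfsg.Agent.H637.JW.Fix σ a ⊓ _root_.Cfsg.Agent.H637.JW.Fix σ b with hXd
  have e0 : _root_.Cfsg.Agent.H637.JW.Fix σ s ⊓ _root_.Cfsg.Agent.H637.JW.Fix σ a ⊓ _root_.Cfsg.Agent.H637.JW.Fix σ b = X ⊓ _root_.Cfsg.Agent.H637.JW.Fix σ s := by
    rw [hXd, inf_assoc, inf_comm]
  have Xs : ∀ v ∈ X, σ s v ∈ X := fun v hv => ⟨fix_le_of_comm hsa.symm hv.1, fix_le_of_comm hsb.symm hv.2⟩
  have Xt : ∀ v ∈ X, σ t v ∈ X := by
    intro v hv
    refine ⟨fix_le_of_comm hta hv.1, ?_⟩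
    change _ ∈ _root_.Cfsg.Agent.H637.JW.Fix σ b
    have h1 := mem_Fix.1 hv.1
    have h4 := mem_Fix.1 hv.2
    have h5 : b * t = t * (a * b) := by
      have h6 : t * (a * b) = a * (a * b * t) := by rw [← mul_assoc, hta, mul_assoc, htb]
      rw [h6, ← mul_assoc, ← mul_assoc, haa, one_mul]
    rw [mem_Fix, ← mul_apply', h5, mul_apply', mul_apply', h4, h1]
  have s1 := split_three (σ := σ) h3 hs X (fun v hv => X.add_mem (X.add_mem hv (Xs v hv)) (Xs _ (Xs v hv)))
  have s2 := half_three (σ := σ) h2 h3 htt hts hs (X ⊓ Om σ s) (fun v hv => ⟨Xt v hv.1, om_of_inv hs hts hv.2⟩)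
    (fun v hv => ⟨Xs v hv.1, om_self hv.2⟩) (fun v hv => hv.2)
  rw [hX] at s1
  rw [hU, e0] at hk
  have h4 : finrank K (X ⊓ _root_.Cfsg.Agent.H637.JW.Fix σ s : Submodule K V) = 3 := by omega
  have h5 : X ⊓ _root_.Cfsg.Agent.H637.JW.Fix σ s = _root_.Cfsg.Agent.H637.JW.Fix σ s := Submodule.eq_of_le_of_finrank_eq inf_le_right (by rw [h4, hU])
  have h6 : v ∈ X ⊓ _root_.Cfsg.Agent.H637.JW.Fix σ s := by rw [h5]; exact mem_Fix.2 hv
  exact ⟨mem_Fix.1 h6.1.1, mem_Fix.1 h6.1.2⟩

end general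

open Cfsg.Agent.H923.Ten.A7 (A e2 c2 c3 c4 c5 c6 top_of_c)
open Cfsg.Agent.H882.Sc.A7

variable {K : Type*} [Field K] {V : Type*} [AddCommGroup V] [Module K V] [FiniteDimensional K V]
  {σ : A →* Module.End K V}

/-- involutions with product `d` -/
def t5 : A := e2 1 4 5 6
def t5' : A := e2 4 5 6 3
/-- the four-group on `{0, 1, 2, 6}` -/
def va : A := e2 0 1 2 6
def vb : A := e2 0 2 1 6
/-- the four-group on `{3, 4, 5, 6}` -/
def wa : A := e2 3 4 5 6
def wb : A := e2 3 5 4 6

/-- **`A₇` in dimension `9`, characteristic `7`.** -/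
theorem seven [IsAlgClosed K] (h7 : (7 : K) = 0) (hI : Irr σ) {B : V →ₗ[K] V →ₗ[K] K}
    (hB : Form σ B) (hV : finrank K V = 9) : False := by
  have : Fact (Nat.Prime 7) := ⟨by norm_num⟩
  have : IsSimpleGroup A := alternatingGroup.isSimpleGroup (by simp)
  have hch : CharP K 7 := charP_of_zero (by norm_num) (by exact_mod_cast h7)
  have : Fact (Nat.Prime 5) := ⟨by norm_num⟩
  have h2 : (2 : K) ≠ 0 := by
    intro h0
    have : (1 : K) = 0 := by
      have : (1 : K) = 7 - 2 * 3 := by norm_num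
      rw [this, h7, h0, zero_mul, sub_zero]
    exact one_ne_zero this
  have h3 : (3 : K) ≠ 0 := by
    intro h0
    have : (1 : K) = 0 := by
      have : (1 : K) = 7 - 2 * 3 := by norm_num
      rw [this, h7, h0, mul_zero, sub_zero]
    exact one_ne_zero this
  have h5 : ((5 : ℕ) : K) ≠ 0 := by
    intro h0
    have h0' : (5 : K) = 0 := by exact_mod_cast h0
    have : (1 : K) = 0 := by
      have : (1 : K) = 3 * 5 - 2 * 7 := by norm_num
      rw [this, h7, h0', mul_zero, mul_zero, sub_zero]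
    exact one_ne_zero this
  have k1 := klein (σ := σ) h2 (a := z) (b := b1) (by decide +kernel) (by decide +kernel) (by decide +kernel) rfl
    (fix_conj (k := y1) (by decide +kernel)) (fix_conj (k := y1 * y1) (by decide +kernel))
  rw [hV] at k1
  obtain ⟨m, hm⟩ := eig hB (c := d) (y := yd) (r := 5) (k := 2) h5 (by decide +kernel) (by decide +kernel) res5
  obtain ⟨m', hm'⟩ := eig hB (c := x * w) (y := yxw) (r := 5) (k := 2) h5 (by decide +kernel) (by decide +kernel)
    res5
  have l1 := hI.fix_lt (g := d) (by decide +kernel)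
  have l2 := hI.fix_lt (g := x * w) (by decide +kernel)
  have l3 := hI.fix_lt (g := z) (by decide +kernel)
  have l4 := hI.fix_lt (g := p1) (by decide +kernel)
  have c1 := le_of_char (σ := σ) (p := 7) (c := z * d) (by decide +kernel)
  have s1 := hI.scott gen_zd
  have s2 := hI.scott gen_xw
  obtain ⟨n1, hn1⟩ := even_of_inv (σ := σ) h2 h3 (a := t1) (y := p1) (by decide +kernel) (by decide +kernel)
    (by decide +kernel)
  obtain ⟨n2, hn2⟩ := even_of_inv (σ := σ) h2 h3 (a := t2) (y := x) (by decide +kernel) (by decide +kernel)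
    (by decide +kernel)
  have e9 := nine' (σ := σ) h3 (x := p1) (y := p2) (by decide +kernel) (by decide +kernel) (by decide +kernel)
  have q1 : finrank K (Fix σ p2) = finrank K (Fix σ p1) := fix_conj (k := e2 0 3 1 4 * e2 4 2 2 5) (by decide +kernel)
  have q2 : finrank K (Fix σ (p1 * p2)) = finrank K (Fix σ x) := by
    rw [show p1 * p2 = x by decide +kernel]
  have q3 : finrank K (Fix σ (p1 * p1 * p2)) = finrank K (Fix σ x) :=
    fix_conj (k := e2 0 3 1 4 * e2 4 2 2 5) (by decide +kernel)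
  have q6 : finrank K (Fix σ w) = finrank K (Fix σ x) := fix_conj (k := e2 1 3 3 4 * e2 4 6 6 2) (by decide +kernel)
  have hcase : finrank K (Fix σ z) = 3 ∨ finrank K (Fix σ z) = 5 := by (clear * - hV k1 hm c1 s1; omega)
  rcases hcase with hz | hz
  · -- the involution has trace `-3`
    have hd : finrank K (Fix σ d) = 1 := by (clear * - hV hm c1 s1 hz; omega)
    have r1 : finrank K (Fix σ t5) = finrank K (Fix σ z) := fix_conj (k := e2 0 1 1 4 * e2 2 5 3 6) (by decide +kernel)
    have r2 : finrank K (Fix σ t5') = finrank K (Fix σ z) := fix_conj (k := e2 0 3 3 5 * e2 1 6 2 4) (by decide +kernel)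
    have u1 := split_two (σ := σ) h2 (a := t5) (by decide +kernel) (⊤ : Submodule K V) (fun _ _ => trivial)
    have u2 := split_two (σ := σ) h2 (a := t5') (by decide +kernel) (⊤ : Submodule K V) (fun _ _ => trivial)
    rw [top_inf_eq, top_inf_eq, finrank_top] at u1 u2
    have u3 := Submodule.finrank_sup_add_finrank_inf_eq (An σ t5) (An σ t5' : Submodule K V)
    have u4 : finrank K (An σ t5 ⊔ An σ t5' : Submodule K V) ≤ finrank K V := Submodule.finrank_le _
    have u5 : finrank K (An σ t5 ⊓ An σ t5' : Submodule K V) ≤ finrank K (Fix σ d) := by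
      refine Submodule.finrank_mono fun v hv => ?_
      have g1 := mem_An.1 hv.1
      have g2 := mem_An.1 hv.2
      rw [mem_Fix, show d = t5 * t5' by decide +kernel, mul_apply', g2, map_neg, g1, neg_neg]
    (clear * - hV hz hd r1 r2 u1 u2 u3 u4 u5; omega)
  · -- the involution has trace `1`
    have hX : finrank K (_root_.Cfsg.Agent.H637.JW.Fix σ z ⊓ _root_.Cfsg.Agent.H637.JW.Fix σ b1 : Submodule K V) = 3 := by (clear * - k1 hz; omega)
    have s3 := split_two (σ := σ) h2 (a := b1) (by decide +kernel) (_root_.Cfsg.Agent.H637.JW.Fix σ z) (fun v hv => fix_le_of_comm (by decide +kernel) hv)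
    have g1 := le_y (σ := σ) h2 (a := z) (b := b1) (y := e2 1 2 2 3 * e2 4 5 5 6) (by decide +kernel) (by decide +kernel)
      (by decide +kernel) (by decide +kernel) (by decide +kernel) (by decide +kernel)
    have g2 : finrank K (Fix σ (e2 1 2 2 3 * e2 4 5 5 6 : A)) = finrank K (Fix σ x) :=
      fix_conj (k := e2 0 3 3 6) (by decide +kernel)
    have hx : finrank K (Fix σ x) = 3 := by (clear * - hV k1 s2 hn2 q6 hz s3 g1 g2; omega)
    have hp : finrank K (Fix σ p1) = 3 ∧ finrank K (_root_.Cfsg.Agent.H637.JW.Fix σ p1 ⊓ _root_.Cfsg.Agent.H637.JW.Fix σ p2 : Submodule K V) = 1 := by (clear * - hV l4 hn1 e9 q1 q2 q3 hx; omega)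
    have hX1 : finrank K (_root_.Cfsg.Agent.H637.JW.Fix σ va ⊓ _root_.Cfsg.Agent.H637.JW.Fix σ vb : Submodule K V) = 3 := by
      have := klein (σ := σ) h2 (a := va) (b := vb) (by decide +kernel) (by decide +kernel) (by decide +kernel)
        (f := (finrank K (Fix σ z) :)) (fix_conj (k := e2 3 6 6 4) (by decide +kernel))
        (fix_conj (k := e2 1 2 3 6) (by decide +kernel)) (fix_conj (k := e2 1 6 6 3) (by decide +kernel))
      (clear * - hV hz this; omega)
    have hX2 : finrank K (_root_.Cfsg.Agent.H637.JW.Fix σ wa ⊓ _root_.Cfsg.Agent.H637.JW.Fix σ wb : Submodule K V) = 3 := by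
      have := klein (σ := σ) h2 (a := wa) (b := wb) (by decide +kernel) (by decide +kernel) (by decide +kernel)
        (f := (finrank K (Fix σ z) :)) (fix_conj (k := e2 0 3 3 6 * e2 1 4 2 5) (by decide +kernel))
        (fix_conj (k := e2 0 3 3 6 * e2 1 5 2 4) (by decide +kernel))
        (fix_conj (k := e2 0 3 3 5 * e2 1 6 2 4) (by decide +kernel))
      (clear * - hV hz this; omega)
    obtain ⟨v, hv, hv0⟩ : ∃ v ∈ (_root_.Cfsg.Agent.H637.JW.Fix σ p1 ⊓ _root_.Cfsg.Agent.H637.JW.Fix σ p2 : Submodule K V), v ≠ 0 := by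
      apply Submodule.exists_mem_ne_zero_of_ne_bot
      intro h0
      have := hp.2
      rw [h0, finrank_bot] at this
      omega
    have f1 := mem_Fix.1 hv.1
    have f2 := mem_Fix.1 hv.2
    have f3 := fix_four (σ := σ) h2 h3 (a := va) (b := vb) (y := e2 1 2 2 6) (s := p2) (t := e2 0 1 3 4)
      (by decide +kernel) (by decide +kernel) (by decide +kernel) (by decide +kernel) (by decide +kernel)
      (by decide +kernel) (by decide +kernel) (by decide +kernel) (by decide +kernel) (by decide +kernel)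
      (by decide +kernel) (by decide +kernel) (by decide +kernel) hX1 (by (clear * - hV l4 hn1 e9 q1 q2 q3 hx; omega)) f2
    have f4 := fix_four (σ := σ) h2 h3 (a := wa) (b := wb) (y := e2 4 5 5 6) (s := p1) (t := e2 3 4 0 1)
      (by decide +kernel) (by decide +kernel) (by decide +kernel) (by decide +kernel) (by decide +kernel)
      (by decide +kernel) (by decide +kernel) (by decide +kernel) (by decide +kernel) (by decide +kernel)
      (by decide +kernel) (by decide +kernel) (by decide +kernel) hX2 (by (clear * - hV l4 hn1 e9 q1 q2 q3 hx; omega)) f1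
    apply hv0
    refine hI.no_fixed_gen (S := {c2, c3, c4, c5, c6}) (top_of_c _ (Subgroup.subset_closure (by simp))
      (Subgroup.subset_closure (by simp)) (Subgroup.subset_closure (by simp)) (Subgroup.subset_closure (by simp))
      (Subgroup.subset_closure (by simp))) fun g hg => ?_
    have k6 : σ c6 v = v := by
      rw [show c6 = p1 * p1 * vb by decide +kernel]
      simp only [mul_apply', f1, f3.2]
    rcases hg with rfl | rfl | rfl | rfl | rfl
    · exact f1
    · rw [show c3 = wa * wb * c6 * (wa * wb) by decide +kernel]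
      simp only [mul_apply', k6, f4.1, f4.2]
    · rw [show c4 = wb * c6 * wb by decide +kernel]
      simp only [mul_apply', k6, f4.2]
    · rw [show c5 = wa * c6 * wa by decide +kernel]
      simp only [mul_apply', k6, f4.1]
    · exact k6

section core

open Matrix Cfsg Cfsg.Geo Cfsg.Agent.H915.LD

variable {F : Type*} [Field F] {ι : Type} [Fintype ι] [DecidableEq ι] {P : Subgroup (GL ι F)}

/-- **`A₇` in orthogonal groups of dimension `9`.** -/
theorem a7_nine (hC : Core P) (h2 : (2 : F) ≠ 0) (hQ : FixQ P) (hn : Fintype.card ι = 9)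
    (e : Soc P ≃* alternatingGroup (Fin 7)) : False := by
  have hbot := H879.TL.scalars_bot_of_odd hC hQ (by rw [hn]; decide)
  let e' := (H879.TL.socEquiv hbot).trans e
  obtain ⟨B, hB⟩ := form_of_fixQ h2 hQ e'
  by_cases h7 : (7 : AlgebraicClosure F) = 0
  · exact seven h7 (irr_of_core hC e') hB (H879.TL.finrank_clo.trans hn)
  · exact nine (H879.TL.two_ne_clo h2) h7 (irr_of_core hC e') hB (H879.TL.finrank_clo.trans hn)

end core

end Cfsg.Agent.H879.Nine.A7
end

-- part: H879/Nine/Asm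
section
/-!
# `Ω₉(q)`: assembly (helper879)

`main`, `final` : the statement S5836, given the classification.
-/

set_option autoImplicit false
set_option linter.unusedSectionVars false

namespace Cfsg.Agent.H879.Nine

open Matrix Cfsg Cfsg.Geo Cfsg.Agent.H915.LD Cfsg.Agent.LieClassical.OrthCore Cfsg.Agent.H936.List12
  Cfsg.Agent.H912.Bd Cfsg.Agent.H912.Five

universe u v

/-- the conclusion of S5836 -/
def Concl {ι : Type} [Fintype ι] [DecidableEq ι] {F : Type u} [Field F] [Fintype F] (p : ℕ)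
    (P : Subgroup (GL ι F)) : Prop :=
  ((∃ (K : Type) (_ : Field K) (_ : Fintype K), Fintype.card K = 8 ∧
      Nonempty (Soc P ≃* Matrix.ProjectiveSpecialLinearGroup (Fin 2) K)) ∧
    ((Fintype.card F = p ∧ (p % 7 = 1 ∨ p % 7 = 6)) ∨
      (Fintype.card F = p ^ 3 ∧ (p % 7 = 2 ∨ p % 7 = 5 ∨ p % 7 = 3 ∨ p % 7 = 4)))) ∨
  (Nonempty (Soc P ≃* Matrix.ProjectiveSpecialLinearGroup (Fin 2) (ZMod 17)) ∧
    ((Fintype.card F = p ∧ (p % 17 = 1 ∨ p % 17 = 16 ∨ p % 17 = 2 ∨ p % 17 = 15 ∨ p % 17 = 4 ∨ p % 17 = 13 ∨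
      p % 17 = 8 ∨ p % 17 = 9)) ∨
     (Fintype.card F = p ^ 2 ∧ (p % 17 = 3 ∨ p % 17 = 14 ∨ p % 17 = 5 ∨ p % 17 = 12 ∨ p % 17 = 6 ∨ p % 17 = 11 ∨
      p % 17 = 7 ∨ p % 17 = 10)))) ∨
  (Nonempty (Soc P ≃* alternatingGroup (Fin 10)) ∧ Fintype.card F = p ∧ p ≠ 5 ∧ p ≠ 11) ∨
  (Nonempty (Soc P ≃* alternatingGroup (Fin 11)) ∧ Fintype.card F = 11) ∨
  (Nonempty (Soc P ≃* Matrix.ProjectiveSpecialLinearGroup (Fin 2) F) ∧ 11 ≤ p) ∨
  ((∃ (K : Type) (_ : Field K) (_ : Fintype K), Fintype.card K = Fintype.card F ^ 2 ∧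
      Nonempty (Soc P ≃* Matrix.ProjectiveSpecialLinearGroup (Fin 2) K)) ∧ Fintype.card F ≠ 3)

/-- the socle is an orthogonal group (odd characteristic) -/
def IsOrth (T : Type u) [Group T] : Prop :=
  IsPOmegaOdd T ∨
    (∃ (K : Type) (_ : Field K) (_ : Fintype K) (k : ℕ), 4 ≤ k ∧ Odd (Fintype.card K) ∧
      Nonempty (T ≃* Cfsg.POmega K (quadFormPlus k K))) ∨
    ∃ (K : Type) (_ : Field K) (_ : Fintype K) (k : ℕ) (a b : K), 4 ≤ k ∧ Odd (Fintype.card K) ∧
      (∀ z₁ z₂ : K, z₁ ^ 2 + a * z₁ * z₂ + b * z₂ ^ 2 = 0 → z₁ = 0 ∧ z₂ = 0) ∧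
      Nonempty (T ≃* Cfsg.POmega K (quadFormMinus (k - 1) K a b))

section

variable {ι : Type} [Fintype ι] [DecidableEq ι] {F : Type u} [Field F] [Fintype F] {p : ℕ}
  {Q : QuadraticForm F (ι → F)} {H P : Subgroup (GL ι F)}

theorem main (c : Ctx p Q H P) (hO : IsOrth (Soc P) → False) (hk : Known.{u}) : Concl p P := by
  have hp := Fact.mk c.prime
  have hch := c.charP
  obtain ⟨P', h, ht⟩ := c.types hk
  obtain ⟨s⟩ := h.iso
  have hnine := c.nine
  have h9 : Fintype.card (Fin 9) = 9 := Fintype.card_fin 9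
  have two_odd : ∀ (K : Type) [Field K] [Fintype K] [CharP K p], Odd (Fintype.card K) := by
    intro K _ _ _
    obtain ⟨k, -, hk⟩ := FiniteField.card K p
    rw [hk]
    exact (hp.out.odd_of_ne_two c.ne_two).pow
  have l2 : ∀ (E : Type) [Field E] [Fintype E] [CharP E p], (Soc P ≃* ProjectiveSpecialLinearGroup (Fin 2) E) →
      Concl p P := by
    intro E _ _ _ e
    rcases H875.Stein.omega_nine p c.two c.ndf hnine c.max c.res e with h1 | ⟨h1, h2⟩
    · exact Or.inr (Or.inr (Or.inr (Or.inr (Or.inl h1))))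
    · exact Or.inr (Or.inr (Or.inr (Or.inr (Or.inr ⟨⟨E, inferInstance, inferInstance, h1, ⟨e⟩⟩, h2⟩))))
  rcases ht with (ht | ht | ht | ht | ht) | ht
  · -- alternating groups
    obtain ⟨m, h5, h14, -, -, h14', ⟨e⟩⟩ := ht
    have e' := s.trans e
    rcases (show m = 5 ∨ m = 6 ∨ m = 7 ∨ 8 ≤ m by omega) with rfl | rfl | rfl | hm8
    · by_cases hp5 : p = 5
      · subst hp5
        obtain ⟨f⟩ := Cfsg.Agent.S0253.result (F := ZMod 5) (ZMod.card 5)
        exact l2 (ZMod 5) (e'.trans f.symm)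
      · exact (row_a5 h.core hp5 e).elim
    · exact (H937.T2.a6_nine p c.two c.nd hnine c.max c.res e').elim
    · exact (A7.a7_nine h.core c.two h.fixQ h9 e).elim
    · rcases alt_row c hm8 e' with ⟨rfl, h1⟩ | ⟨rfl, h1⟩
      · exact Or.inr (Or.inr (Or.inl ⟨⟨e'⟩, h1⟩))
      · exact Or.inr (Or.inr (Or.inr (Or.inl ⟨⟨e'⟩, h1⟩)))
  · -- classical groups, cross characteristic
    rcases ht with ⟨q, hq, hpq, -, ht⟩ | ⟨h3, -, ht⟩ | ⟨h3, -, ht⟩ | ⟨-, h1, -⟩ | ⟨-, h3, -, ht⟩ | ⟨-, -, ht⟩ |
      ⟨-, h1, -⟩ | ⟨-, -, ht⟩ | ⟨-, -, ht⟩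
    · rcases row_l2 h.core hq hpq ht with rfl | rfl | rfl
      · obtain ⟨K, iK, iKf, hK, ⟨e⟩⟩ := ht
        obtain ⟨-, -, h1⟩ := H464.Sl2.l2_8_9 p h.core hK c.ne_two e h9
        refine Or.inl ⟨⟨K, iK, iKf, hK, ⟨s.trans e⟩⟩, ?_⟩
        rcases h1 with h1 | ⟨h1, h4⟩
        · exact Or.inl h1
        · exact Or.inr ⟨h1, by omega⟩
      · obtain ⟨K, iK, iKf, hK, ⟨e⟩⟩ := ht
        have : Fact (Nat.Prime 17) := ⟨by norm_num⟩
        obtain ⟨e2⟩ := H363.PslCard.psl_of_card (n := Fin 2) (F := K) (F' := ZMod 17) (by rw [hK, ZMod.card])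
        have e3 := (s.trans e).trans e2
        obtain ⟨-, -, h1⟩ := H464.Sl2.l2_17_9 p h.core hK (fun h => hpq (by rw [h])) e h9
        refine Or.inr (Or.inl ⟨⟨e3⟩, ?_⟩)
        rcases h1 with ⟨h1, h4⟩ | ⟨h1, h4⟩
        · exact Or.inl ⟨h1, by omega⟩
        · exact Or.inr ⟨h1, by (clear * - h4; omega)⟩
      · obtain ⟨K, iK, iKf, hK, ⟨e⟩⟩ := ht
        obtain ⟨-, h1, -⟩ := H464.Sl2.l2_19_9 p h.core hK (fun h => hpq (by rw [h])) e h9
        exact absurd h.sd h1
    · obtain ⟨K, iK, iKf, hK, ⟨e⟩⟩ := ht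
      have := (H175.L33.l33 h.core p h3 hK e (by omega)).2.2.2
      omega
    · obtain ⟨K, iK, iKf, hK, ⟨e⟩⟩ := ht
      have := (H659.U3.u33_stage h.core p c.ne_two h3 (by omega) hK e).2
      omega
    · omega
    · obtain ⟨K, iK, iKf, hK, ⟨e⟩⟩ := ht
      have := H659.Sp4.u42_stage' h.core p c.ne_two h3 (by omega) hK e
      omega
    · obtain ⟨K, iK, iKf, hK, ⟨e⟩⟩ := ht
      have := H36.U52.t6 h.core p c.ne_two (by omega) hK e
      omega
    · omega
    · exact (row_sp62 h.core c.two ht).elim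
    · obtain ⟨K, iK, iKf, hK, ⟨e⟩⟩ := ht
      have := (H916.T8.om hK h.core p e c.two (by omega)).1
      omega
  · -- exceptional multipliers
    rcases ht with ⟨-, h1, -⟩ | ⟨h3, -, ht⟩
    · omega
    · exact (row_u43 h3 h.bot ht).elim
  · obtain ⟨-, -, ht⟩ := ht
    have := (H814.Sz8.core_sz8 h.core c.two (by omega) ht).1
    omega
  · -- sporadic groups
    obtain ⟨h11, ⟨e⟩⟩ := row_spor p h.core c.two h.sd h.bot ht
    subst h11
    exact (ME.m11_kill c ⟨s.trans e⟩).elim
  · -- defining characteristic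
    rcases ht with ht | ht | ht | ⟨h2, -⟩ | ⟨h3, ht⟩ | ht | ht | ht | ht | ht | ⟨-, h2, -⟩
    · obtain ⟨K, iK, iKf, iKp, l, hl, hl4, ⟨e⟩⟩ := ht
      rcases (show l = 1 ∨ l = 2 ∨ 3 ≤ l by omega) with rfl | rfl | hl3
      · exact l2 K (s.trans e)
      · have := (H911.Ad.sd_psl3 p h.core h.sd e (by omega)).2.2.1
        omega
      · exact (own_psl (p := p) h.core h.fixQ (by omega) e).elim
    · obtain ⟨K, iK, iKf, iKp, m, hm, hm2, -, ⟨e⟩⟩ := ht
      by_cases h3 : m = 2
      · subst h3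
        have hK3 : 3 ≤ Nat.card K := by
          rw [Nat.card_eq_fintype_card]
          have h1 := two_odd K
          have h4 := Fintype.one_lt_card (α := K)
          rcases h1 with ⟨k, hk⟩
          omega
        have := (H905.Sp4.core_psp4 p h.core hK3 e (by omega)).2.2
        omega
      · have := TL.kill_psp h.core c.two h.bot (by omega) (two_odd K) e
        rw [Fintype.card_fin] at this
        omega
    · obtain ⟨K, iK, iKf, iKp, N, q, hK, hN, hN2, hN3, ⟨e⟩⟩ := ht
      rcases (show N = 3 ∨ N = 4 ∨ 5 ≤ N by omega) with rfl | rfl | hN5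
      · have hq3 : 3 ≤ q := by
          have h1 := two_odd K
          rw [hK] at h1
          have h4 : Odd q := by
            by_contra hq
            rw [Nat.not_odd_iff_even] at hq
            have h6 : Even (q ^ 2) := (Nat.even_pow.2 ⟨hq, by norm_num⟩)
            exact (Nat.not_odd_iff_even.2 h6) h1
          have h5 := Fintype.one_lt_card (α := K)
          rw [hK] at h5
          rcases h4 with ⟨k, hk⟩
          rcases Nat.eq_zero_or_pos k with h6 | h6
          · subst h6
            subst hk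
            norm_num at h5
          · omega
        have := H929.U3.core_psu3_sd p h.core hq3 hK e (by omega) h.sd
        omega
      · have := H876.D3.core_psu_four p K (by omega) hK h.core e
        omega
      · exact (own_psu (p := p) (by norm_num) h.core h.sd hN5 hK e).elim
    · exact absurd h2 c.ne_two
    · subst h3
      obtain ⟨K, iK, iKf, m, hm, hK, ⟨e⟩⟩ := ht
      exact (H141.ReeK.ree_false h.core hm hK e (by omega) (by omega)).elim
    · obtain ⟨K, iK, iKf, iKp, m, hm, hm2, -, ⟨e⟩⟩ := ht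
      exact (hO (Or.inl ⟨K, iK, iKf, m, hm, two_odd K, ⟨s.trans e⟩⟩)).elim
    · obtain ⟨K, iK, iKf, iKp, m, hm, hm2, ⟨e⟩⟩ := ht
      exact (hO (Or.inr (Or.inl ⟨K, iK, iKf, m, hm, two_odd K, ⟨s.trans e⟩⟩))).elim
    · obtain ⟨K, iK, iKf, iKp, m, a, b, hm, hm2, hab, ⟨e⟩⟩ := ht
      exact (hO (Or.inr (Or.inr ⟨K, iK, iKf, m, a, b, hm, two_odd K, hab, ⟨s.trans e⟩⟩))).elim
    · obtain ⟨-, K, iK, iKf, iKp, -, ⟨e⟩⟩ := ht
      have hK3 : 3 ≤ Nat.card K := by
        rw [Nat.card_eq_fintype_card]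
        have h1 := two_odd K
        have h4 := Fintype.one_lt_card (α := K)
        rcases h1 with ⟨k, hk⟩
        omega
      have := (H927.G2.core_g2 p h.core hK3 e (by omega)).2.2.2.2
      omega
    · obtain ⟨-, K, iK, iKf, iKp, q, hq, hK, ⟨e⟩⟩ := ht
      have := (H392.TD.d4_small p h.core hq hK e (by omega)).1
      omega
    · exact absurd h2 c.ne_two

end

/-- **S5836 from the classification.** -/
theorem final (hk : Known.{u}) {F : Type u} [Field F] [Fintype F]
    (hodd : Odd (Fintype.card F)) (H : Subgroup (GL (Unit ⊕ (Fin 4 ⊕ Fin 4)) F))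
    (hH : IsMaximalIn (omegaGL (quadFormOdd 4 F)) H) (hS : InOrthogonalResidualClass H) :
    ∃ (P : Subgroup (GL (Unit ⊕ (Fin 4 ⊕ Fin 4)) F)) (p : ℕ), IsResidualCore H P ∧ p.Prime ∧ CharP F p ∧
      Concl p P := by
  obtain ⟨P, hP, -⟩ := hS
  obtain ⟨p, hch⟩ := CharP.exists F
  have hp : p.Prime := CharP.char_is_prime F p
  have h2 : (2 : F) ≠ 0 := by
    intro h0
    have h1 : ((2 : ℕ) : F) = 0 := by exact_mod_cast h0
    rw [CharP.cast_eq_zero_iff F p] at h1
    obtain rfl : p = 2 := (Nat.prime_dvd_prime_iff_eq hp Nat.prime_two).1 h1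
    have := Fact.mk hp
    obtain ⟨k, -, hk⟩ := FiniteField.card F 2
    rw [hk, Nat.odd_iff] at hodd
    have : 2 ∣ 2 ^ (k : ℕ) := dvd_pow_self 2 k.ne_zero
    omega
  have hO : IsOrth (Soc P) → False := fun hT =>
    H922.OmGL.not_pomega hodd (m := 4) (by norm_num) hH.1 hP.le (core_of_residual hP) hT
  obtain ⟨Q, hQ, hQn⟩ := H883.Bridge.exists_quadraticForm (H883.Bridge.isNondegenerateQuadraticForm_odd hodd 4)
  rw [← hQ] at hH
  have c : Ctx p Q H P := ⟨hp, hch, h2, by simp, hQn, hH, hP⟩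
  exact ⟨P, p, hP, hp, hch, main c hO hk⟩

end Cfsg.Agent.H879.Nine
end

private theorem dce_d89a16a62287 : _root_.True := by
  try have : _root_.True := by simp only [_root_.Cfsg.Agent.H879.Nine.ME.jv.eq_1]
  try have : _root_.True := by simp only [_root_.Cfsg.Agent.H879.Nine.ME.tp.eq_9]
  try have : _root_.True := by simp only [_root_.Cfsg.Agent.H879.Nine.ME.tp.eq_7]
  try have : _root_.True := by simp only [_root_.Cfsg.Agent.H879.Nine.ME.tp.eq_3]
  try have : _root_.True := by simp only [_root_.Cfsg.Agent.H879.Nine.ME.tp.eq_5]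
  try have : _root_.True := by simp only [_root_.Cfsg.Agent.H879.Nine.ME.vv.eq_1]
  try have : _root_.True := by simp only [_root_.Cfsg.Agent.H879.Nine.ME.tp.eq_12]
  try have : _root_.True := by simp only [_root_.Cfsg.Agent.H879.Nine.ME.tp.eq_10]
  try have : _root_.True := by simp only [_root_.Cfsg.Agent.H879.Nine.ME.tp.eq_1]
  try have : _root_.True := by simp only [_root_.Cfsg.Agent.H879.Nine.ME.tp.eq_2]
  try have : _root_.True := by simp only [_root_.Cfsg.Agent.H879.Nine.ME.tp.eq_11]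
  try have : _root_.True := by simp only [_root_.Cfsg.Agent.H879.Nine.ME.tp.eq_6]
  try have : _root_.True := by simp only [_root_.Cfsg.Agent.H879.Nine.ME.tp.eq_4]
  try have : _root_.True := by simp only [_root_.Cfsg.Agent.H879.Nine.ME.tp.eq_8]
  exact _root_.True.intro
end
end

-- part: S5836
section
set_option linter.all false

set_option autoImplicit false
open Cfsg

namespace Cfsg.Agent.S5836

/-- The maximal subgroups of Ω_9(q), q odd, in the residual class. Let F be a finite field of odd order q and characteristic p, Q the standard quadratic form x₀² + Σ x_i y_i on F^9, Ω the commutator subgroup of its isometry group, and H a maximal subgroup of Ω lying in the residual class of the orthogonal case. Then the perfect socle preimage P of H satisfies one of: P modulo scalars is isomorphic to PSL_2(8), with q = p ≡ ±1 mod 7 or q = p³ with p ≡ ±2 or ±3 mod 7; or to PSL_2(17), with q = p ≡ ±1, ±2, ±4 or ±8 mod 17 or q = p² with p ≡ ±3, ±5, ±6 or ±7 mod 17; or to A_10,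 with q = p prime, p ≠ 5 and p ≠ 11; or to A_11, with q = 11; or to PSL_2(F) itself, with p ≥ 11; or to PSL_2 over the field with q² elements, with q ≠ 3. -/
theorem result {F : Type*} [Field F] [Fintype F] (hodd : Odd (Fintype.card F)) (H : Subgroup (Matrix.GeneralLinearGroup (Unit ⊕ (Fin 4 ⊕ Fin 4)) F)) (hH : Cfsg.Geo.IsMaximalIn (Cfsg.Geo.omegaGL (Cfsg.quadFormOdd 4 F)) H) (hS : Cfsg.Geo.InOrthogonalResidualClass H) :
    ∃ (P : Subgroup (Matrix.GeneralLinearGroup (Unit ⊕ (Fin 4 ⊕ Fin 4)) F)) (p : ℕ), Cfsg.Geo.IsResidualCore H P ∧ p.Prime ∧ CharP F p ∧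
    (((∃ (K : Type) (_ : Field K) (_ : Fintype K), Fintype.card K = 8 ∧ Nonempty ((P ⧸ (Cfsg.Geo.scalars (Unit ⊕ (Fin 4 ⊕ Fin 4)) F).subgroupOf P) ≃* Matrix.ProjectiveSpecialLinearGroup (Fin 2) K)) ∧ ((Fintype.card F = p ∧ (p % 7 = 1 ∨ p % 7 = 6)) ∨ (Fintype.card F = p ^ 3 ∧ (p % 7 = 2 ∨ p % 7 = 5 ∨ p % 7 = 3 ∨ p % 7 = 4)))) ∨
     (Nonempty ((P ⧸ (Cfsg.Geo.scalars (Unit ⊕ (Fin 4 ⊕ Fin 4)) F).subgroupOf P) ≃* Matrix.ProjectiveSpecialLinearGroup (Fin 2) (ZMod 17)) ∧ ((Fintype.card F = p ∧ (p % 17 = 1 ∨ p % 17 = 16 ∨ p % 17 = 2 ∨ p % 17 = 15 ∨ p % 17 = 4 ∨ p % 17 = 13 ∨ p % 17 = 8 ∨ p % 17 = 9)) ∨ (Fintype.card F = p ^ 2 ∧ (p % 17 = 3 ∨ p % 17 = 14 ∨ p % 17 = 5 ∨ p % 17 = 12 ∨ p % 17 = 6 ∨ p % 17 = 11 ∨ p % 17 = 7 ∨ p % 17 = 10)))) ∨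
     (Nonempty ((P ⧸ (Cfsg.Geo.scalars (Unit ⊕ (Fin 4 ⊕ Fin 4)) F).subgroupOf P) ≃* alternatingGroup (Fin 10)) ∧ Fintype.card F = p ∧ p ≠ 5 ∧ p ≠ 11) ∨
     (Nonempty ((P ⧸ (Cfsg.Geo.scalars (Unit ⊕ (Fin 4 ⊕ Fin 4)) F).subgroupOf P) ≃* alternatingGroup (Fin 11)) ∧ Fintype.card F = 11) ∨
     (Nonempty ((P ⧸ (Cfsg.Geo.scalars (Unit ⊕ (Fin 4 ⊕ Fin 4)) F).subgroupOf P) ≃* Matrix.ProjectiveSpecialLinearGroup (Fin 2) F) ∧ 11 ≤ p) ∨
     ((∃ (K : Type) (_ : Field K) (_ : Fintype K), Fintype.card K = Fintype.card F ^ 2 ∧ Nonempty ((P ⧸ (Cfsg.Geo.scalars (Unit ⊕ (Fin 4 ⊕ Fin 4)) F).subgroupOf P) ≃* Matrix.ProjectiveSpecialLinearGroup (Fin 2) K)) ∧ Fintype.card F ≠ 3)) := by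
  have hk : Cfsg.Agent.H879.Nine.Known := fun T _ _ hs => Cfsg.Agent.S0000.result
  exact Cfsg.Agent.H879.Nine.final hk hodd H hH hS

end Cfsg.Agent.S5836
end
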