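import Cfsg.Statements.S2585
import Cfsg.Agent.ClassicalGeometry.SympBasic
set_option linter.all false

set_option autoImplicit false
open Cfsg

namespace Cfsg.Agent.S2585

open Cfsg.Agent.ClassicalGeometry.SympBasic Matrix

/-- The form `Σ x_i y_i`. -/
noncomputable def plusQ (m : ℕ) (F : Type*) [Field F] : QuadraticForm F (Fin m ⊕ Fin m → F) :=
  ∑ i : Fin m, QuadraticMap.linMulLin (LinearMap.proj (Sum.inl i)) (LinearMap.proj (Sum.inr i))

theorem plusQ_apply (m : ℕ) (F : Type*) [Field F] (v : Fin m ⊕ Fin m → F) :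
    plusQ m F v = ∑ i : Fin m, v (Sum.inl i) * v (Sum.inr i) := by
  simp [plusQ, QuadraticMap.sum_apply]

theorem polar_plusQ {m : ℕ} {F : Type*} [Field F] [CharP F 2] (u v : Fin m ⊕ Fin m → F) :
    QuadraticMap.polar (plusQ m F) u v = sympForm m F u v := by
  rw [sympForm_eq_sum, QuadraticMap.polar, plusQ_apply, plusQ_apply, plusQ_apply,
    ← Finset.sum_sub_distrib, ← Finset.sum_sub_distrib]
  refine Finset.sum_congr rfl fun i _ => ?_
  simp only [Pi.add_apply, CharTwo.sub_eq_add]
  have h2 : (2 : F) = 0 := CharTwo.two_eq_zero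
  linear_combination (u (Sum.inl i) * u (Sum.inr i) + v (Sum.inl i) * v (Sum.inr i)) * h2

/-- Over a finite field of characteristic two every element of the symplectic group is orthogonal for a suitable quadratic form: for each A in Sp_2m(F) there is a quadratic form Q on F^(2m) whose polar form is the alternating form defining Sp_2m(F) (so Q is non-degenerate) and which A preserves. Equivalently, for m ≥ 1, Sp_2m(F) is the union of the conjugates of its two orthogonal subgroups O⁺_2m(F) and O⁻_2m(F). -/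
theorem result {F : Type*} [Field F] [Fintype F] [CharP F 2] {m : ℕ} (A : Matrix.symplecticGroup (Fin m) F) : ∃ Q : QuadraticForm F (Fin m ⊕ Fin m → F), (∀ u v : Fin m ⊕ Fin m → F, QuadraticMap.polar ⇑Q u v = Cfsg.sympForm m F u v) ∧ ∀ v : Fin m ⊕ Fin m → F, Q ((A : Matrix (Fin m ⊕ Fin m) (Fin m ⊕ Fin m) F).mulVec v) = Q v := by
  classical
  have h2 : (2 : F) = 0 := CharTwo.two_eq_zero
  set Q₀ := plusQ m F with hQ₀
  set a : Matrix (Fin m ⊕ Fin m) (Fin m ⊕ Fin m) F := (A : Matrix (Fin m ⊕ Fin m) (Fin m ⊕ Fin m) F)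
    with ha
  have hadd : ∀ u v, Q₀ (u + v) = Q₀ u + Q₀ v + sympForm m F u v := by
    intro u v
    rw [← polar_plusQ u v, QuadraticMap.polar]; ring
  have hsmul : ∀ (c : F) v, Q₀ (c • v) = c * c * Q₀ v := fun c v => QuadraticMap.map_smul Q₀ c v
  -- the square root
  have hsq : ∀ x : F, ∃ y : F, y ^ 2 = x := fun x => by
    obtain ⟨y, hy⟩ := FiniteField.isSquare_of_char_two (F := F) (ringChar.eq F 2 ▸ rfl) x
    exact ⟨y, by rw [hy, sq]⟩
  choose s hs using hsq
  have hsinj : ∀ x y : F, x ^ 2 = y ^ 2 → x = y := fun x y h => by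
    have : (x - y) ^ 2 = 0 := by
      linear_combination h + (y ^ 2 - x * y) * h2
    exact sub_eq_zero.mp (pow_eq_zero_iff (two_ne_zero) |>.mp this)
  let lam : (Fin m ⊕ Fin m → F) →ₗ[F] F :=
    { toFun := fun v => s (Q₀ (a *ᵥ v) - Q₀ v)
      map_add' := fun u v => hsinj _ _ (by
        rw [hs, mulVec_add, hadd, hadd, sympForm_mulVec A.2]
        have e1 := hs (Q₀ (a *ᵥ u) - Q₀ u)
        have e2 := hs (Q₀ (a *ᵥ v) - Q₀ v)
        linear_combination (-1 : F) * e1 - e2 -
          s (Q₀ (a *ᵥ u) - Q₀ u) * s (Q₀ (a *ᵥ v) - Q₀ v) * h2)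
      map_smul' := fun c v => hsinj _ _ (by
        rw [hs, mulVec_smul, hsmul, hsmul, RingHom.id_apply, smul_eq_mul, mul_pow, hs]
        ring) }
  have hlam : ∀ v, lam v ^ 2 = Q₀ (a *ᵥ v) - Q₀ v := fun v => hs _
  -- `lam` vanishes on the kernel of `A - 1`
  let T : (Fin m ⊕ Fin m → F) →ₗ[F] (Fin m ⊕ Fin m → F) := Matrix.mulVecLin a - LinearMap.id
  have hT : ∀ v, T v = a *ᵥ v - v := fun v => rfl
  have hmem : lam ∈ LinearMap.range T.dualMap := by
    rw [LinearMap.range_dualMap_eq_dualAnnihilator_ker, Submodule.mem_dualAnnihilator]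
    intro w hw
    have h1 : a *ᵥ w = w := by
      have := LinearMap.mem_ker.mp hw
      rw [hT] at this
      exact sub_eq_zero.mp this
    have h3 : lam w ^ 2 = 0 := by rw [hlam, h1, sub_self]
    exact pow_eq_zero_iff (two_ne_zero) |>.mp h3
  obtain ⟨μ, hμ⟩ := hmem
  have hμ' : ∀ v, μ (a *ᵥ v) = μ v + lam v := by
    intro v
    rw [← hμ, LinearMap.dualMap_apply, hT, map_sub]; ring
  refine ⟨Q₀ + QuadraticMap.linMulLin μ μ, ?_, ?_⟩
  · intro u v
    rw [← polar_plusQ u v, QuadraticMap.polar, QuadraticMap.polar]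
    simp only [QuadraticMap.add_apply, QuadraticMap.linMulLin_apply, map_add]
    linear_combination μ u * μ v * h2
  · intro v
    simp only [QuadraticMap.add_apply, QuadraticMap.linMulLin_apply]
    rw [hμ']
    have := hlam v
    linear_combination (-1 : F) * this + (lam v ^ 2 + μ v * lam v) * h2

end Cfsg.Agent.S2585
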