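import Cfsg.Statements.S2779
import Cfsg.Agent.H569.NatSL2
set_option linter.all false

set_option autoImplicit false
open Cfsg

namespace Cfsg.Agent.S2779

open Subgroup Cfsg.Agent.H569.NatSL2

/-- Let L act on the elementary abelian p-group V (inside a finite group, by conjugation, faithfully) as SL₂(F) on its natural module, F a field with p^n elements, and let S be a Sylow p-subgroup of L. Then [V, S, S] = 1; |V| = p^(2n) and |C_V(S)| = p^n; and for every nonidentity s ∈ S and every v ∈ V outside C_V(S): C_V(s) = C_V(S) = [V, S] = [V, s] = the subgroup generated by the commutators [v, t], t ∈ S. -/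
theorem result {G : Type*} [Group G] [Finite G] {p : ℕ} [Fact p.Prime] {F : Type*} [Field F] [Fintype F] (n : ℕ) (hF : Fintype.card F = p ^ n) (V L : Subgroup G) (hnat : Cfsg.IsNaturalSL2Module F V L) (hf : L ⊓ Subgroup.centralizer (V : Set G) = ⊥) (S : Sylow p ↥L) (T : Subgroup G) (hT : T = ((S : Subgroup ↥L).map L.subtype)) : ⁅⁅V, T⁆, T⁆ = ⊥ ∧ Nat.card V = p ^ (2 * n) ∧ Nat.card ↥(V ⊓ Subgroup.centralizer ((T : Subgroup G) : Set G)) = p ^ n ∧ ∀ s ∈ T, s ≠ 1 → (V ⊓ Subgroup.centralizer ({s} : Set G)) = (V ⊓ Subgroup.centralizer ((T : Subgroup G) : Set G)) ∧ ⁅V, T⁆ = (V ⊓ Subgroup.centralizer ((T : Subgroup G) : Set G)) ∧ ⁅V, Subgroup.zpowers s⁆ = (V ⊓ Subgroup.centralizer ((T : Subgroup G) : Set G)) ∧ ∀ v ∈ V, v ∉ Subgroup.centralizer (T : Set G) → Subgroup.closure {x : G | ∃ t ∈ T, x = v * t * v⁻¹ * t⁻¹} = (V ⊓ Subgroup.centralizer ((T : Subgroup G) : Set G)) := by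
  obtain ⟨c⟩ := exists_coord hF hnat hf S hT
  have hFc : Nat.card F = p ^ n := by rw [Nat.card_eq_fintype_card, hF]
  refine ⟨?_, ?_, ?_, ?_⟩
  · rw [eq_bot_iff]
    refine (commutator_mono c.commutator_le le_rfl).trans ?_
    rw [Subgroup.commutator_le]
    intro x hx t ht
    have h1 := mem_centralizer_iff.mp hx.2 t ht
    rw [mem_bot, commutatorElement_def, ← h1]; group
  · rw [c.card_V, hFc, ← pow_mul, mul_comm]
  · rw [c.card_fixed, hFc]
  · intro s hs hs1
    have h1 : V ⊓ centralizer (T : Set G) ≤ ⁅V, zpowers s⁆ := by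
      intro w hw
      obtain ⟨v, hv, rfl⟩ := c.exists_commutator' hs hs1 hw.1 hw.2
      rw [← commutatorElement_def]
      exact commutator_mem_commutator hv (mem_zpowers s)
    have h2 : ⁅V, zpowers s⁆ ≤ ⁅V, T⁆ := commutator_mono le_rfl (by rwa [zpowers_le])
    refine ⟨c.fixed_single hs hs1, ?_, ?_, ?_⟩
    · exact le_antisymm c.commutator_le (h1.trans h2)
    · exact le_antisymm (h2.trans c.commutator_le) h1
    · intro v hv hvT
      rw [c.mem_fixed hv] at hvT
      apply le_antisymm
      · rw [closure_le]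
        rintro _ ⟨t, ht, rfl⟩
        apply c.commutator_le
        rw [← commutatorElement_def]
        exact commutator_mem_commutator hv ht
      · intro w hw
        apply Subgroup.subset_closure
        exact c.exists_commutator hv hvT hw.1 hw.2

end Cfsg.Agent.S2779
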