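import Mathlib
import Cfsg.Agent.PermutationGroups.SharplyTwoTransitive
import Cfsg.Agent.PermutationGroups.SharpThreeEvenMain
import Cfsg.Statements.S0730
set_option linter.all false

-- part: PermutationGroups/SharpThreeOddGroup
section
/-!
# Two lemmas for sharply 3-transitive groups of degree `p ^ f + 1`, `p` and `f` odd

* `exists_ne_zero_of_conj`: an odd-dimensional version of "no element is inverted".
* `comm_of_involution`: a finite group with an involutory automorphism fixing only `1` and the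
  unique involution `z`, `z` outside the commutator subgroup, and no elements conjugate to their
  inverse except those with trivial square, is commutative.
-/

set_option autoImplicit false

namespace Cfsg.Agent.PermutationGroups.SharpThreeOddGroup

open Module

/-- If `x` conjugates `n` to `n'` and `n'` to `n` in odd dimension, characteristic not 2, then `n`
and `n'` agree on some non-zero vector. -/
theorem exists_ne_zero_of_conj {F V : Type*} [Field F] [AddCommGroup V] [Module F V]
    [FiniteDimensional F V] (h2 : (2 : F) ≠ 0) (hodd : Odd (finrank F V)) (x n n' : V →ₗ[F] V)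
    (hx : LinearMap.det x ≠ 0) (h1 : x * n = n' * x) (h1' : x * n' = n * x) :
    ∃ v : V, v ≠ 0 ∧ n v = n' v := by
  have h3 : x * (n - n') = -((n - n') * x) := by
    rw [mul_sub, sub_mul, h1, h1']
    abel
  have h4 : LinearMap.det x * LinearMap.det (n - n') =
      -(LinearMap.det (n - n') * LinearMap.det x) := by
    rw [← map_mul, h3, ← map_mul]
    have h5 : -((n - n') * x) = (-1 : F) • ((n - n') * x) := by
      rw [neg_one_smul]
    rw [h5, LinearMap.det_smul, hodd.neg_one_pow, neg_one_mul]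
  have h5 : LinearMap.det (n - n') = 0 := by
    have h6 : 2 * (LinearMap.det x * LinearMap.det (n - n')) = 0 := by
      rw [two_mul]
      nth_rewrite 1 [h4]
      ring
    rcases mul_eq_zero.1 h6 with h | h
    · exact absurd h h2
    · rcases mul_eq_zero.1 h with h | h
      · exact absurd h hx
      · exact h
  have h6 := LinearMap.bot_lt_ker_of_det_eq_zero h5
  obtain ⟨v, hv, hv0⟩ := (Submodule.ne_bot_iff _).1 h6.ne'
  refine ⟨v, hv0, ?_⟩
  rw [LinearMap.mem_ker, LinearMap.sub_apply, sub_eq_zero] at hv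
  exact hv

/-- See the module docstring. -/
theorem comm_of_involution {H : Type*} [Group H] [Finite H] (σ : H ≃* H)
    (hσ : ∀ h, σ (σ h) = h) (z : H) (hfix : ∀ h, σ h = h → h = 1 ∨ h = z)
    (hinvol : ∀ h : H, h * h = 1 → h = 1 ∨ h = z) (hz' : z ∉ commutator H)
    (hreal : ∀ x n : H, x * n * x⁻¹ = n⁻¹ → n * n = 1) (a b : H) : a * b = b * a := by
  classical
  have := Fintype.ofFinite H
  have hM1 : ∀ n ∈ commutator H, n * n = 1 → n = 1 := by
    intro n hn hnn
    rcases hinvol n hnn with h | h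
    · exact h
    · rw [h] at hn
      exact absurd hn hz'
  have hMσ : ∀ n ∈ commutator H, σ n ∈ commutator H := by
    intro n hn
    have h1 : (commutator H).map σ.toMonoidHom = commutator H :=
      Subgroup.characteristic_iff_map_eq.1 inferInstance σ
    rw [← h1]
    exact ⟨n, hn, rfl⟩
  have hMfix : ∀ n ∈ commutator H, σ n = n → n = 1 := by
    intro n hn hnn
    rcases hfix n hnn with h | h
    · exact h
    · rw [h] at hn
      exact absurd hn hz'
  -- `σ` inverts the commutator subgroup
  have hinv : ∀ n ∈ commutator H, σ n = n⁻¹ := by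
    let f : commutator H → commutator H := fun n =>
      ⟨(n : H)⁻¹ * σ n, mul_mem (inv_mem n.2) (hMσ n n.2)⟩
    have hf : Function.Injective f := by
      intro n k hnk
      have h1 : (n : H)⁻¹ * σ n = (k : H)⁻¹ * σ k := congrArg Subtype.val hnk
      have h2 : (k : H) * (n : H)⁻¹ = σ (k * (n : H)⁻¹) := by
        rw [map_mul, map_inv]
        rw [eq_mul_inv_iff_mul_eq, mul_assoc, h1, mul_inv_cancel_left]
      have h3 := hMfix _ (mul_mem k.2 (inv_mem n.2)) h2.symm
      rw [mul_inv_eq_one] at h3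
      exact Subtype.ext h3.symm
    have hf' := Finite.surjective_of_injective hf
    intro n hn
    obtain ⟨k, hk⟩ := hf' ⟨n, hn⟩
    have h1 : (k : H)⁻¹ * σ k = n := congrArg Subtype.val hk
    rw [← h1, map_mul, map_inv, hσ, mul_inv_rev, inv_inv]
  have hMab : ∀ n ∈ commutator H, ∀ k ∈ commutator H, n * k = k * n := by
    intro n hn k hk
    have h1 := hinv _ (mul_mem hn hk)
    rw [map_mul, hinv n hn, hinv k hk, ← mul_inv_rev] at h1
    exact (inv_injective h1).symm
  -- the elements `h⁻¹ * σ h` centralise it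
  have hcent : ∀ h : H, ∀ n ∈ commutator H, (h⁻¹ * σ h) * n = n * (h⁻¹ * σ h) := by
    intro h n hn
    have hn' : n⁻¹ ∈ commutator H := inv_mem hn
    have h1 := hinv (h * n⁻¹ * h⁻¹) (Subgroup.Normal.conj_mem inferInstance _ hn' h)
    rw [map_mul, map_mul, hinv _ hn', inv_inv, map_inv] at h1
    have h2 : (h * n⁻¹ * h⁻¹)⁻¹ = h * n * h⁻¹ := by group
    rw [h2] at h1
    calc (h⁻¹ * σ h) * n = h⁻¹ * (σ h * n * (σ h)⁻¹) * σ h := by group
      _ = h⁻¹ * (h * n * h⁻¹) * σ h := by rw [h1]
      _ = n * (h⁻¹ * σ h) := by group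
  set A : Subgroup H := Subgroup.closure (Set.range (fun h : H => h⁻¹ * σ h)) with hA
  have hAcent : ∀ x ∈ A, ∀ n ∈ commutator H, x * n = n * x := by
    intro x hx n hn
    induction hx using Subgroup.closure_induction with
    | mem x hx => obtain ⟨h, rfl⟩ := hx; exact hcent h n hn
    | one => rw [one_mul, mul_one]
    | mul x y _ _ hx hy => rw [mul_assoc, hy, ← mul_assoc, hx, mul_assoc]
    | inv x _ hx => rw [inv_mul_eq_iff_eq_mul, ← mul_assoc, hx, mul_inv_cancel_right]
  -- `A` has index at most two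
  have hsq : ∀ x : H, x * x ∈ A := by
    have hcard : Fintype.card H ≤ 2 * Nat.card A := by
      have h1 := Finset.card_le_mul_card_image (f := fun h : H => h⁻¹ * σ h)
        (Finset.univ : Finset H) 2 (by
          intro a ha
          obtain ⟨h, -, rfl⟩ := Finset.mem_image.1 ha
          have h2 : (Finset.univ.filter (fun k : H => k⁻¹ * σ k = h⁻¹ * σ h)) ⊆ {h, z * h} := by
            intro k hk
            rw [Finset.mem_filter] at hk
            have h3 : σ (k * h⁻¹) = k * h⁻¹ := by
              rw [map_mul, map_inv, mul_inv_eq_iff_eq_mul, mul_assoc, ← hk.2, mul_inv_cancel_left]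
            rw [Finset.mem_insert, Finset.mem_singleton]
            rcases hfix _ h3 with h4 | h4
            · left
              exact mul_inv_eq_one.1 h4
            · right
              exact mul_inv_eq_iff_eq_mul.1 h4
          exact (Finset.card_le_card h2).trans Finset.card_le_two)
      rw [Finset.card_univ] at h1
      refine h1.trans (Nat.mul_le_mul_left 2 ?_)
      rw [Nat.card_eq_fintype_card, Fintype.card_subtype]
      apply Finset.card_le_card
      intro x hx
      obtain ⟨h, -, rfl⟩ := Finset.mem_image.1 hx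
      rw [Finset.mem_filter]
      exact ⟨Finset.mem_univ _, Subgroup.subset_closure ⟨h, rfl⟩⟩
    have hidx : A.index = 1 ∨ A.index = 2 := by
      have h1 := A.index_mul_card
      have h2 : A.index ≠ 0 := Subgroup.index_ne_zero_of_finite
      have h3 : 0 < Nat.card A := Nat.card_pos
      rw [Nat.card_eq_fintype_card (α := H)] at h1
      rw [← h1] at hcard
      have h4 := Nat.le_of_mul_le_mul_right hcard h3
      omega
    intro x
    rcases hidx with h | h
    · rw [Subgroup.index_eq_one] at h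
      rw [h]
      exact Subgroup.mem_top _
    · exact Subgroup.mul_self_mem_of_index_two h x
  -- the commutator subgroup is central
  have hMc : ∀ n ∈ commutator H, ∀ x : H, x * n = n * x := by
    intro n hn x
    have hm : x * n * x⁻¹ * n⁻¹ ∈ commutator H :=
      mul_mem (Subgroup.Normal.conj_mem inferInstance _ hn x) (inv_mem hn)
    have hxn : x * n * x⁻¹ ∈ commutator H := Subgroup.Normal.conj_mem inferInstance _ hn x
    have h1 : x * (x * n * x⁻¹ * n⁻¹) * x⁻¹ = (x * n * x⁻¹ * n⁻¹)⁻¹ := by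
      have h2 : (x * x) * n = n * (x * x) := hAcent _ (hsq x) n hn
      have h3 : x * (x * n * x⁻¹ * n⁻¹) * x⁻¹ = ((x * x) * n) * (x * x)⁻¹ * (x * n * x⁻¹)⁻¹ := by
        group
      rw [h3, h2, mul_inv_cancel_right, mul_inv_rev _ n⁻¹, inv_inv]
    have h2 := hM1 _ hm (hreal x _ h1)
    rw [mul_inv_eq_one, mul_inv_eq_iff_eq_mul] at h2
    exact h2
  -- commutators of elements
  have hcom : ∀ x y : H, x * y * x⁻¹ * y⁻¹ ∈ commutator H := fun x y =>
    Subgroup.commutator_mem_commutator (Subgroup.mem_top x) (Subgroup.mem_top y)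
  -- if `x * x` commutes with `y` then `x` commutes with `y`
  have hroot : ∀ x y : H, (x * x) * y = y * (x * x) → x * y = y * x := by
    intro x y hxy
    set c := x * y * x⁻¹ * y⁻¹ with hc
    have hcM : c ∈ commutator H := hcom x y
    have h1 : x * y = c * y * x := by rw [hc]; group
    have h2 : c * c = 1 := by
      have h3 : x * x * y = c * c * (y * (x * x)) := by
        calc x * x * y = x * (x * y) := by group
          _ = (x * c) * y * x := by rw [h1]; group
          _ = c * (x * y) * x := by rw [hMc c hcM x]; group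
          _ = c * c * (y * (x * x)) := by rw [h1]; group
      rw [hxy] at h3
      exact (mul_eq_right.1 h3.symm)
    have h3 := hM1 c hcM h2
    rw [h1, h3, one_mul]
  -- the generators of `A` commute
  have hDcomm : ∀ h k : H, (h⁻¹ * σ h) * (k⁻¹ * σ k) = (k⁻¹ * σ k) * (h⁻¹ * σ h) := by
    intro h k
    set x := h⁻¹ * σ h with hx
    set y := k⁻¹ * σ k with hy
    have hσx : σ x = x⁻¹ := by rw [hx, map_mul, map_inv, hσ, mul_inv_rev, inv_inv]
    have hσy : σ y = y⁻¹ := by rw [hy, map_mul, map_inv, hσ, mul_inv_rev, inv_inv]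
    set c := x * y * x⁻¹ * y⁻¹ with hc
    have hcM : c ∈ commutator H := hcom x y
    have h1 : x * y = c * (y * x) := by rw [hc]; group
    have h2 : σ c = c := by
      have h3 : σ c = x⁻¹ * y⁻¹ * (x * y) := by
        rw [hc, map_mul, map_mul, map_mul, map_inv, map_inv, hσx, hσy]; group
      rw [h3, h1]
      calc x⁻¹ * y⁻¹ * (c * (y * x)) = x⁻¹ * (y⁻¹ * c) * y * x := by group
        _ = x⁻¹ * (c * y⁻¹) * y * x := by rw [hMc c hcM y⁻¹]
        _ = (x⁻¹ * c) * x := by group
        _ = c := by rw [hMc c hcM x⁻¹]; group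
    have h3 : c * c = 1 := by
      have h4 := hinv c hcM
      rw [h2] at h4
      exact mul_eq_one_iff_eq_inv.2 h4
    rw [h1, hM1 c hcM h3, one_mul]
  have hAab : ∀ x ∈ A, ∀ y ∈ A, x * y = y * x := by
    have h1 : ∀ k : H, ∀ x ∈ A, x * (k⁻¹ * σ k) = (k⁻¹ * σ k) * x := by
      intro k x hx
      induction hx using Subgroup.closure_induction with
      | mem x hx => obtain ⟨h, rfl⟩ := hx; exact hDcomm h k
      | one => rw [one_mul, mul_one]
      | mul x y _ _ hx hy => rw [mul_assoc, hy, ← mul_assoc, hx, mul_assoc]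
      | inv x _ hx => rw [inv_mul_eq_iff_eq_mul, ← mul_assoc, hx, mul_inv_cancel_right]
    intro x hx y hy
    induction hy using Subgroup.closure_induction with
    | mem y hy => obtain ⟨k, rfl⟩ := hy; exact h1 k x hx
    | one => rw [one_mul, mul_one]
    | mul y z _ _ hy hz => rw [← mul_assoc, hy, mul_assoc, hz, ← mul_assoc]
    | inv y _ hy => rw [mul_inv_eq_iff_eq_mul, mul_assoc, hy, inv_mul_cancel_left]
  -- `A` is central
  have hAc : ∀ x ∈ A, ∀ y : H, y * x = x * y := by
    intro x hx y
    exact hroot y x (hAab _ (hsq y) x hx)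
  exact hroot a b (hAc _ (hsq a) b).symm

end Cfsg.Agent.PermutationGroups.SharpThreeOddGroup
end

-- part: PermutationGroups/SharpTwoOdd
section
/-!
# Sharply 2-transitive groups of degree `p ^ f` with `p` and `f` odd: facts on point stabilisers
-/

set_option autoImplicit false

namespace Cfsg.Agent.PermutationGroups.SharpTwoOdd

open Module MulAction

universe u

theorem exists_rep_aux' {T V : Type u} [Group T] [AddCommGroup V] (p f : ℕ) [Fact p.Prime]
    [Module (ZMod p) V] (hcard : Nat.card V = p ^ f) (c : T → (V →+ V))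
    (hc1 : ∀ x, c 1 x = x) (hc : ∀ s t x, c (s * t) x = c s (c t x)) :
    ∃ (_ : FiniteDimensional (ZMod p) V)
      (ρ : T →* Module.End (ZMod p) V), finrank (ZMod p) V = f ∧
      ∀ (t : T) (n : V), ρ t n = c t n := by
  classical
  have hfin : Finite V := Nat.finite_of_card_ne_zero (by
    rw [hcard]; exact pow_ne_zero _ (Fact.out : p.Prime).ne_zero)
  have hfd : FiniteDimensional (ZMod p) V := Module.Finite.of_finite
  let φ : T → Module.End (ZMod p) V := fun t => AddMonoidHom.toZModLinearMap p (c t)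
  have hφ : ∀ t : T, ∀ x : V, φ t x = c t x := fun t x => rfl
  have hφ1 : φ 1 = 1 := by
    refine LinearMap.ext fun x => ?_
    rw [hφ, hc1]
    rfl
  have hφ2 : ∀ s t, φ (s * t) = (φ s) * (φ t) := by
    intro s t
    refine LinearMap.ext fun x => ?_
    rw [Module.End.mul_apply, hφ, hφ, hφ, hc]
  let ρ : T →* Module.End (ZMod p) V :=
    { toFun := φ
      map_one' := hφ1
      map_mul' := hφ2 }
  refine ⟨hfd, ρ, ?_, ?_⟩
  · have h1 : Nat.card V = Nat.card (ZMod p) ^ finrank (ZMod p) V :=
      Module.natCard_eq_pow_finrank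
    rw [hcard, Nat.card_zmod] at h1
    exact (Nat.pow_right_injective (Fact.out : p.Prime).two_le h1).symm
  · intro t n
    rfl

theorem exists_rep_aux {T A : Type u} [Group T] [CommGroup A] (p f : ℕ) [Fact p.Prime]
    (hexp : ∀ x : A, x ^ p = 1) (hcard : Nat.card A = p ^ f) (c : T → (A →* A))
    (hc1 : ∀ x, c 1 x = x) (hc : ∀ s t x, c (s * t) x = c s (c t x)) :
    ∃ (V : Type u) (_ : AddCommGroup V) (_ : Module (ZMod p) V) (_ : FiniteDimensional (ZMod p) V)
      (ρ : T →* Module.End (ZMod p) V) (e : A ≃ V), finrank (ZMod p) V = f ∧ e 1 = 0 ∧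
      ∀ (t : T) (n : A), ρ t (e n) = e (c t n) := by
  have i2 : Module (ZMod p) (Additive A) := AddCommGroup.zmodModule (n := p) (by
    intro x
    apply Additive.toMul.injective
    change (Additive.toMul x) ^ p = 1
    exact hexp _)
  have h2 : Nat.card (Additive A) = Nat.card A := Nat.card_congr Additive.toMul
  obtain ⟨i3, ρ, h3, h4⟩ := exists_rep_aux' (T := T) (V := Additive A) p f (h2.trans hcard)
    (fun t => MonoidHom.toAdditive (c t)) hc1 hc
  exact ⟨Additive A, inferInstance, i2, i3, ρ, Additive.ofMul, h3, rfl, fun t n => h4 t n⟩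

/-- The conjugation representation of a group on an elementary abelian normal subgroup. -/
theorem exists_rep {T : Type u} [Group T] (N : Subgroup T) [N.Normal] (p f : ℕ) [Fact p.Prime]
    (hNc : ∀ x ∈ N, ∀ y ∈ N, x * y = y * x) (hexp : ∀ x ∈ N, x ^ p = 1)
    (hcard : Nat.card N = p ^ f) :
    ∃ (V : Type u) (_ : AddCommGroup V) (_ : Module (ZMod p) V) (_ : FiniteDimensional (ZMod p) V)
      (ρ : T →* Module.End (ZMod p) V) (e : N ≃ V), finrank (ZMod p) V = f ∧ e 1 = 0 ∧
      ∀ (t : T) (n : N), ρ t (e n) = e ⟨t * n * t⁻¹, Subgroup.Normal.conj_mem ‹_› _ n.2 t⟩ := by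
  let _ : CommGroup N :=
    { N.toGroup with
      mul_comm := fun x y => Subtype.ext (hNc x x.2 y y.2) }
  obtain ⟨V, i1, i2, i3, ρ, e, h1, h2, h3⟩ := exists_rep_aux (T := T) (A := N) p f
    (fun x => Subtype.ext (hexp _ x.2)) hcard
    (fun t => { toFun := fun n => ⟨t * n * t⁻¹, Subgroup.Normal.conj_mem ‹_› _ n.2 t⟩
                map_one' := Subtype.ext (by
                  change t * 1 * t⁻¹ = 1
                  group)
                map_mul' := fun a b => Subtype.ext (by
                  change t * (a * b) * t⁻¹ = t * a * t⁻¹ * (t * b * t⁻¹)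
                  group) })
    (fun x => Subtype.ext (by
      change (1 : T) * x * 1⁻¹ = x
      group))
    (fun s t x => Subtype.ext (by
      change (s * t : T) * x * (s * t)⁻¹ = s * (t * x * t⁻¹) * s⁻¹
      group))
  exact ⟨V, i1, i2, i3, ρ, e, h1, h2, h3⟩

/-- A group acting freely on an elementary abelian group of order `p ^ f`, `p` and `f` odd. -/
theorem free_facts {T : Type u} [Group T] (N : Subgroup T) [N.Normal] (p f : ℕ) [Fact p.Prime]
    (hp2 : p ≠ 2) (hf : Odd f)
    (hNc : ∀ x ∈ N, ∀ y ∈ N, x * y = y * x) (hexp : ∀ x ∈ N, x ^ p = 1)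
    (hcard : Nat.card N = p ^ f) (H : Subgroup T)
    (hfree : ∀ h ∈ H, ∀ n ∈ N, n ≠ 1 → h * n * h⁻¹ = n → h = 1) :
    (∀ x n : H, x * n * x⁻¹ = n⁻¹ → n * n = 1) ∧
    (∀ a b : H, a * a = 1 → b * b = 1 → a ≠ 1 → b ≠ 1 → a = b) ∧
    (∀ z : H, z * z = 1 → z ≠ 1 → z ∉ commutator H) := by
  obtain ⟨V, i1, i2, i3, ρ, e, hfr, he1, he⟩ := exists_rep N p f hNc hexp hcard
  have hp : p.Prime := Fact.out
  have h2p : (2 : ZMod p) ≠ 0 := by
    intro h
    have h1 : ((2 : ℕ) : ZMod p) = 0 := by exact_mod_cast h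
    rw [ZMod.natCast_eq_zero_iff] at h1
    exact hp2 ((Nat.prime_dvd_prime_iff_eq hp Nat.prime_two).1 h1)
  have hfix : ∀ h ∈ H, ∀ v : V, v ≠ 0 → ρ h v = v → h = 1 := by
    intro h hh v hv hhv
    obtain ⟨n, rfl⟩ := e.surjective v
    rw [he] at hhv
    have h1 := congrArg Subtype.val (e.injective hhv)
    refine hfree h hh n n.2 ?_ h1
    intro hn
    apply hv
    rw [← he1]
    congr 1
    exact Subtype.ext hn
  have hneg : ∀ a ∈ H, a * a = 1 → a ≠ 1 → ∀ v : V, ρ a v = -v := by
    intro a ha haa ha1 v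
    have h1 : ρ a (v + ρ a v) = v + ρ a v := by
      rw [map_add, ← Module.End.mul_apply, ← map_mul, haa, map_one, Module.End.one_apply, add_comm]
    by_contra hcon
    apply ha1
    refine hfix a ha (v + ρ a v) ?_ h1
    intro h2
    exact hcon (eq_neg_of_add_eq_zero_right h2)
  have hdet : ∀ a : T, LinearMap.det (ρ a) ≠ 0 := by
    intro a
    have h1 : IsUnit (LinearMap.det (ρ a)) := ((Group.isUnit a).map ρ).map LinearMap.det
    exact h1.ne_zero
  refine ⟨?_, ?_, ?_⟩
  · intro x n hxn
    have h1 : (x : T) * (n : T) * (x : T)⁻¹ = (n : T)⁻¹ := congrArg Subtype.val hxn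
    have h2 : (x : T) * n = (n : T)⁻¹ * x := by
      rw [← h1]
      group
    have h3 : (x : T) * (n : T)⁻¹ = n * x := by
      have h5 : ((x : T) * (n : T) * (x : T)⁻¹)⁻¹ = n := by rw [h1, inv_inv]
      calc (x : T) * (n : T)⁻¹ = ((x : T) * (n : T) * (x : T)⁻¹)⁻¹ * x := by group
        _ = n * x := by rw [h5]
    obtain ⟨v, hv, hnv⟩ := SharpThreeOddGroup.exists_ne_zero_of_conj h2p (by rw [hfr]; exact hf)
      (ρ x) (ρ n) (ρ (n : T)⁻¹) (hdet x) (by rw [← map_mul, ← map_mul, h2])
      (by rw [← map_mul, ← map_mul, h3])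
    have h4 : ρ ((n : T) * n) v = v := by
      rw [map_mul, Module.End.mul_apply, hnv, ← Module.End.mul_apply, ← map_mul, mul_inv_cancel,
        map_one, Module.End.one_apply]
    exact Subtype.ext (hfix _ (mul_mem n.2 n.2) v hv h4)
  · intro a b haa hbb ha hb
    have h1 : ∀ v : V, ρ ((a : T) * b) v = v := by
      intro v
      rw [map_mul, Module.End.mul_apply, hneg b b.2 (congrArg Subtype.val hbb)
        (fun h => hb (Subtype.ext h)), map_neg, hneg a a.2 (congrArg Subtype.val haa)
        (fun h => ha (Subtype.ext h)), neg_neg]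
    have hpos : 0 < finrank (ZMod p) V := by rw [hfr]; exact hf.pos
    have hnt : Nontrivial V := Module.nontrivial_of_finrank_pos hpos
    obtain ⟨v, hv⟩ := exists_ne (0 : V)
    have h2 := hfix _ (mul_mem a.2 b.2) v hv (h1 v)
    have h3 : a * b = 1 := Subtype.ext h2
    have h4 := eq_inv_of_mul_eq_one_left h3
    rw [h4]
    exact (eq_inv_of_mul_eq_one_left hbb).symm
  · intro z hzz hz hzc
    let δ : H →* (ZMod p)ˣ := (LinearMap.det.comp (ρ.comp H.subtype)).toHomUnits
    have h1 : z ∈ δ.ker := Abelianization.commutator_subset_ker δ hzc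
    have h2 : LinearMap.det (ρ (z : T)) = 1 := congrArg Units.val (MonoidHom.mem_ker.1 h1)
    have h3 : ρ (z : T) = (-1 : ZMod p) • LinearMap.id := by
      refine LinearMap.ext fun v => ?_
      rw [hneg z z.2 (congrArg Subtype.val hzz) (fun h => hz (Subtype.ext h)), LinearMap.smul_apply,
        neg_one_smul, LinearMap.id_apply]
    rw [h3, LinearMap.det_smul, LinearMap.det_id, mul_one, hfr, hf.neg_one_pow] at h2
    apply h2p
    calc (2 : ZMod p) = 1 + 1 := one_add_one_eq_two.symm
      _ = -1 + 1 := by rw [h2]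
      _ = 0 := by ring

end Cfsg.Agent.PermutationGroups.SharpTwoOdd
end

-- part: PermutationGroups/SharpThreeOddField
section
/-!
# The swapping involution of a sharply 3-transitive group is inversion
-/

set_option autoImplicit false

namespace Cfsg.Agent.PermutationGroups.SharpThreeOddField

/-- A multiplicative involution `τ` of a field of characteristic not two with fixed points `1`, `-1`
only, satisfying `τ (1 + τ y) = 1 - τ (1 + y)`, is inversion. -/
theorem eq_inv {K : Type*} [Field K] (h2 : (2 : K) ≠ 0) (τ : K → K)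
    (hτ0 : ∀ y, y ≠ 0 → τ y ≠ 0) (hττ : ∀ y, y ≠ 0 → τ (τ y) = y)
    (hmul : ∀ x y, x ≠ 0 → y ≠ 0 → τ (x * y) = τ x * τ y)
    (hfix : ∀ y, y ≠ 0 → τ y = y → y = 1 ∨ y = -1) (hneg : τ (-1) = -1)
    (hrel : ∀ y, y ≠ 0 → y ≠ -1 → τ (1 + τ y) = 1 - τ (1 + y)) (y : K) (hy : y ≠ 0) :
    τ y = y⁻¹ := by
  have h1 : τ 1 = 1 := by
    have h := hmul 1 1 one_ne_zero one_ne_zero
    rw [mul_one] at h
    have h3 : τ 1 * (τ 1 - 1) = 0 := by rw [mul_sub, ← h, mul_one, sub_self]
    rcases mul_eq_zero.1 h3 with h4 | h4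
    · exact absurd h4 (hτ0 1 one_ne_zero)
    · exact sub_eq_zero.1 h4
  have hinv : ∀ x, x ≠ 0 → τ x⁻¹ = (τ x)⁻¹ := by
    intro x hx
    have h := hmul x x⁻¹ hx (inv_ne_zero hx)
    rw [mul_inv_cancel₀ hx, h1] at h
    exact eq_inv_of_mul_eq_one_right h.symm
  have hχ : ∀ x, x ≠ 0 → x * τ x = 1 ∨ x * τ x = -1 := by
    intro x hx
    refine hfix _ (mul_ne_zero hx (hτ0 x hx)) ?_
    rw [hmul _ _ hx (hτ0 x hx), hττ x hx, mul_comm]
  have hχneg : ∀ x, x ≠ 0 → x * τ x = 1 → (-x) * τ (-x) = 1 := by
    intro x hx h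
    have h3 : τ (-x) = - τ x := by
      have h4 := hmul (-1) x (by simp) hx
      rw [neg_one_mul, hneg, neg_one_mul] at h4
      exact h4
    rw [h3, neg_mul_neg, h]
  have hP : ∀ x, x ≠ 0 → x ≠ -1 → x * τ x = 1 → (1 + x) * τ (1 + x) = 1 := by
    intro x hx hx1 h
    have h3 : 1 + x ≠ 0 := by
      intro h4
      apply hx1
      linear_combination h4
    have h4 : τ x = x⁻¹ := eq_inv_of_mul_eq_one_right h
    have h5 := hrel x hx hx1
    have h6 : 1 + τ x = (1 + x) * x⁻¹ := by
      rw [h4]
      field_simp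
      ring
    rw [h6, hmul _ _ h3 (inv_ne_zero hx), hinv x hx, h4, inv_inv] at h5
    linear_combination h5
  have hP' : ∀ x, x ≠ 0 → x ≠ 1 → x * τ x = 1 → (x - 1) * τ (x - 1) = 1 := by
    intro x hx hx1 h
    have h3 := hP (-x) (neg_ne_zero.2 hx) (by simpa using hx1) (hχneg x hx h)
    have h4 : 1 + -x ≠ 0 := by
      intro h4
      apply hx1
      linear_combination -h4
    have h5 := hχneg _ h4 h3
    have h6 : -(1 + -x) = x - 1 := by ring
    rwa [h6] at h5
  rcases hχ y hy with h | h
  · exact eq_inv_of_mul_eq_one_right h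
  exfalso
  have hne : (1 : K) ≠ -1 := by
    intro h3
    apply h2
    linear_combination h3
  have hy1 : 1 + y ≠ 0 := by
    intro h3
    have h4 : y = -1 := by linear_combination h3
    rw [h4, hneg] at h
    apply hne
    linear_combination h
  have h3 : (1 + y) * τ (1 + y) = -1 := by
    rcases hχ (1 + y) hy1 with h3 | h3
    · exfalso
      have h4 := hP' (1 + y) hy1 (by simpa using hy) h3
      rw [add_sub_cancel_left] at h4
      exact hne (h4.symm.trans h)
    · exact h3
  have h4 : ((1 + y) * y⁻¹) * τ ((1 + y) * y⁻¹) = 1 := by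
    rw [hmul _ _ hy1 (inv_ne_zero hy), hinv y hy]
    have h5 : (1 + y) * y⁻¹ * (τ (1 + y) * (τ y)⁻¹) = ((1 + y) * τ (1 + y)) * (y * τ y)⁻¹ := by
      rw [mul_inv]
      ring
    rw [h5, h3, h]
    norm_num
  have h5 : (1 + y) * y⁻¹ ≠ 1 := by
    intro h5
    rw [mul_inv_eq_one₀ hy] at h5
    apply one_ne_zero (α := K)
    linear_combination h5
  have h6 := hP' _ (mul_ne_zero hy1 (inv_ne_zero hy)) h5 h4
  have h7 : (1 + y) * y⁻¹ - 1 = y⁻¹ := by
    field_simp
    ring
  rw [h7, hinv y hy, ← mul_inv, h, inv_neg, inv_one] at h6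
  exact hne h6.symm

end Cfsg.Agent.PermutationGroups.SharpThreeOddField
end

-- part: PermutationGroups/SharpThreeOddMain
section
/-!
# Sharply 3-transitive groups of degree `p ^ f + 1`, `p` and `f` odd
-/

set_option autoImplicit false

namespace Cfsg.Agent.PermutationGroups.SharpThreeOddMain

open Equiv

universe u

/-- Sharply 2-transitive groups of degree `p ^ f`, `p` and `f` odd. -/
theorem two_facts {K : Type u} [Finite K] [Nontrivial K] (p f : ℕ) [Fact p.Prime]
    (hp2 : p ≠ 2) (hf : Odd f) (hK : Nat.card K = p ^ f)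
    (T : Subgroup (Perm K))
    (hT2 : ∀ a b a' b' : K, a ≠ b → a' ≠ b' → ∃ g ∈ T, g a = a' ∧ g b = b')
    (hTs : ∀ g ∈ T, ∀ a b : K, a ≠ b → g a = a → g b = b → g = 1) (o : K) :
    ∃ N : Subgroup (Perm K), N ≤ T ∧ (∀ x ∈ N, ∀ y ∈ N, x * y = y * x) ∧
      (∀ x, ∃ a ∈ N, a o = x) ∧ (∀ g ∈ T, ∀ a ∈ N, g * a * g⁻¹ ∈ N) ∧
      (∀ x n : MulAction.stabilizer T o, x * n * x⁻¹ = n⁻¹ → n * n = 1) ∧
      (∀ a b : MulAction.stabilizer T o, a * a = 1 → b * b = 1 → a ≠ 1 → b ≠ 1 → a = b) ∧
      (∀ z : MulAction.stabilizer T o, z * z = 1 → z ≠ 1 →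
        z ∉ commutator (MulAction.stabilizer T o)) := by
  have hsm : ∀ (g : T) (x : K), g • x = (g : Perm K) x := fun g x => rfl
  have hU : ∀ (g : T) (a b : K), a ≠ b → g • a = a → g • b = b → g = 1 := by
    intro g a b hab ha hb
    exact Subtype.ext (hTs g g.2 a b hab ha hb)
  obtain ⟨N, hNn, hNmem, hNc, hNt, hNcard, hNconj⟩ :=
    SharplyTwoTransitive.exists_regular_normal (G := T) (α := K)
      (by
        intro a b c d hab hcd
        obtain ⟨g, hg, h1, h2⟩ := hT2 a b c d hab hcd
        exact ⟨⟨g, hg⟩, h1, h2⟩) hU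
  have hp : p.Prime := Fact.out
  have hexp : ∀ x ∈ N, x ^ p = 1 := by
    have hfin : Finite N := Nat.finite_of_card_ne_zero (by
      rw [hNcard, hK]; exact pow_ne_zero _ hp.ne_zero)
    have hdvd : p ∣ Nat.card N := by
      rw [hNcard, hK]
      exact dvd_pow_self p hf.pos.ne'
    obtain ⟨x₀, hx₀⟩ := exists_prime_orderOf_dvd_card' p hdvd
    have hx1 : (x₀ : T) ^ p = 1 := by
      have h := pow_orderOf_eq_one x₀
      rw [hx₀] at h
      exact congrArg Subtype.val h
    have hx2 : (x₀ : T) ≠ 1 := by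
      intro h
      have h3 : x₀ = 1 := Subtype.ext h
      rw [h3, orderOf_one] at hx₀
      exact hp.one_lt.ne hx₀
    intro x hx
    by_cases hx3 : x = 1
    · rw [hx3, one_pow]
    · obtain ⟨g, hg⟩ := hNconj x₀ x₀.2 x hx hx2 hx3
      rw [← hg, conj_pow, hx1, mul_one, mul_inv_cancel]
  have hfree : ∀ h ∈ MulAction.stabilizer T o, ∀ n ∈ N, n ≠ 1 → h * n * h⁻¹ = n → h = 1 := by
    intro h hh n hn hn1 hc
    rw [MulAction.mem_stabilizer_iff] at hh
    have h1 : n • o ≠ o := by
      rcases (hNmem n).1 hn with h2 | h2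
      · exact absurd h2 hn1
      · exact h2 o
    refine hU h o (n • o) h1.symm hh ?_
    have h2 : h * n = n * h := by
      rw [mul_inv_eq_iff_eq_mul] at hc
      exact hc
    rw [← mul_smul, h2, mul_smul, hh]
  obtain ⟨hA, hB, hC⟩ := SharpTwoOdd.free_facts N p f hp2 hf hNc hexp (hNcard.trans hK)
    (MulAction.stabilizer T o) hfree
  refine ⟨N.map T.subtype, ?_, ?_, ?_, ?_, hA, hB, hC⟩
  · rintro _ ⟨x, _, rfl⟩
    exact x.2
  · rintro _ ⟨x, hx, rfl⟩ _ ⟨y, hy, rfl⟩
    rw [← map_mul, hNc x hx y hy, map_mul]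
  · intro x
    obtain ⟨a, ha, hax⟩ := hNt o x
    exact ⟨_, ⟨a, ha, rfl⟩, hax⟩
  · rintro g hg _ ⟨a, ha, rfl⟩
    exact ⟨⟨g, hg⟩ * a * ⟨g, hg⟩⁻¹, hNn.conj_mem a ha _, rfl⟩

/-- The structure of a sharply 3-transitive group of degree `p ^ f + 1`, `p` and `f` odd. -/
theorem core1 {K : Type u} [Fintype K] [Nontrivial K] (p f : ℕ) [Fact p.Prime]
    (hp2 : p ≠ 2) (hf : Odd f) (hK : Nat.card K = p ^ f)
    (G : Subgroup (Perm (Option K)))
    (h3 : ∀ a b c a' b' c' : Option K, a ≠ b → a ≠ c → b ≠ c → a' ≠ b' → a' ≠ c' → b' ≠ c' →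
      ∃ g ∈ G, g a = a' ∧ g b = b' ∧ g c = c')
    (hs : ∀ g ∈ G, ∀ a b c : Option K, a ≠ b → a ≠ c → b ≠ c → g a = a → g b = b → g c = c → g = 1) :
    ∃ F : Field K, (∀ b : K, ∃ g ∈ G, g none = none ∧ ∀ y : K, g (some y) = some (F.add b y)) ∧
      (∀ a : K, a ≠ F.zero → ∃ g ∈ G, g none = none ∧ ∀ y : K, g (some y) = some (F.mul a y)) ∧
      (∃ g ∈ G, g none = some F.zero ∧ g (some F.zero) = none ∧
        ∀ y : K, y ≠ F.zero → g (some y) = some (F.inv y)) := by
  classical
  obtain ⟨o, e, hoe'⟩ := exists_pair_ne K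
  have he : e ≠ o := hoe'.symm
  have hno : (none : Option K) ≠ some o := by simp
  have hne : (none : Option K) ≠ some e := by simp
  have hoe : (some o : Option K) ≠ some e := fun h => he (Option.some.inj h).symm
  -- The stabiliser as a group of permutations of `K`
  let T : Subgroup (Perm K) :=
    { carrier := {p | (Equiv.optionCongr p : Perm (Option K)) ∈ G}
      mul_mem' := by
        intro p q hp hq
        show Equiv.optionCongr (p * q) ∈ G
        rw [SharpThreeEvenMain.optionCongr_mul']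
        exact G.mul_mem hp hq
      one_mem' := by
        show Equiv.optionCongr (1 : Perm K) ∈ G
        rw [Equiv.optionCongr_one]
        exact G.one_mem
      inv_mem' := by
        intro p hp
        have : (Equiv.optionCongr p⁻¹ : Perm (Option K)) = (Equiv.optionCongr p : Perm (Option K))⁻¹ := by
          apply eq_inv_of_mul_eq_one_left
          rw [← SharpThreeEvenMain.optionCongr_mul', inv_mul_cancel, Equiv.optionCongr_one]
        show (Equiv.optionCongr p⁻¹ : Perm (Option K)) ∈ G
        rw [this]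
        exact G.inv_mem hp }
  have hTmem : ∀ p : Perm K, p ∈ T ↔ (Equiv.optionCongr p : Perm (Option K)) ∈ G := fun p => Iff.rfl
  have hlift : ∀ g ∈ G, g none = none → ∃ p ∈ T, (Equiv.optionCongr p : Perm (Option K)) = g := by
    intro g hg h
    have h1 := map_equiv_removeNone g
    rw [h, Equiv.swap_self] at h1
    have h2 : ((Equiv.refl (Option K) : Perm (Option K)) * g) = g := rfl
    rw [h2] at h1
    exact ⟨removeNone g, by rw [hTmem, h1]; exact hg, h1⟩
  have hT2 : ∀ a b a' b' : K, a ≠ b → a' ≠ b' → ∃ g ∈ T, g a = a' ∧ g b = b' := by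
    intro a b a' b' hab hab'
    obtain ⟨g, hg, h1, h2, h4⟩ := h3 none (some a) (some b) none (some a') (some b') (by simp)
      (by simp) (by simpa using hab) (by simp) (by simp) (by simpa using hab')
    obtain ⟨p, hp, hpg⟩ := hlift g hg h1
    refine ⟨p, hp, ?_, ?_⟩
    · rw [← hpg] at h2
      exact Option.some.inj h2
    · rw [← hpg] at h4
      exact Option.some.inj h4
  have hTs : ∀ g ∈ T, ∀ a b : K, a ≠ b → g a = a → g b = b → g = 1 := by
    intro g hg a b hab ha hb
    have h1 := hs _ hg none (some a) (some b) (by simp) (by simp) (by simpa using hab) rfl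
      (congrArg some ha) (congrArg some hb)
    rw [← Equiv.optionCongr_one] at h1
    exact Equiv.optionCongr_injective h1
  obtain ⟨N, hNT, hNc, hNt, hTN, hA, hB, hC⟩ := two_facts p f hp2 hf hK T hT2 hTs o
  -- the swapping involution
  obtain ⟨t, htG, ht1, ht2, ht3⟩ := h3 none (some o) (some e) (some o) none (some e) hno hne hoe
    hno.symm hoe hne
  have htt : t * t = 1 := by
    apply hs _ (G.mul_mem htG htG) _ _ _ hno hne hoe
    · rw [Perm.mul_apply, ht1, ht2]
    · rw [Perm.mul_apply, ht2, ht1]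
    · rw [Perm.mul_apply, ht3, ht3]
  have htt' : ∀ x, t (t x) = x := by
    intro x
    rw [← Perm.mul_apply, htt, Perm.one_apply]
  have htne : t ≠ 1 := by
    intro h
    rw [h] at ht1
    exact hno ht1
  -- the two fixed points of `t`
  obtain ⟨e', he'e, hte'⟩ : ∃ e' : K, e' ≠ e ∧ t (some e') = some e' := by
    have hpar := SharpEven.card_fixed_mod_two t htt
    have hodd : Odd (Fintype.card K) := by
      rw [← Nat.card_eq_fintype_card, hK]
      exact ((Fact.out : p.Prime).odd_of_ne_two hp2).pow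
    have h6 : Fintype.card (Option K) % 2 = 0 := by
      rw [Fintype.card_option]
      rcases hodd with ⟨k, hk⟩
      omega
    rw [h6] at hpar
    have h7 : 1 < (Finset.univ.filter (fun y => t y = y)).card := by
      have h8 : 0 < (Finset.univ.filter (fun y => t y = y)).card :=
        Finset.card_pos.2 ⟨some e, by simp [ht3]⟩
      omega
    obtain ⟨x, hx, hxe⟩ := Finset.exists_mem_ne h7 (some e)
    rw [Finset.mem_filter] at hx
    cases x with
    | none =>
      rw [ht1] at hx
      exact absurd hx.2 (by simp)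
    | some x =>
      exact ⟨x, fun h => hxe (by rw [h]), hx.2⟩
  have htfix : ∀ x : Option K, t x = x → x = some e ∨ x = some e' := by
    intro x hx
    by_contra hcon
    push Not at hcon
    apply htne
    exact hs t htG x (some e) (some e') hcon.1 hcon.2 (by simpa using he'e.symm) hx ht3 hte'
  have he'o : e' ≠ o := by
    intro h
    rw [h, ht2] at hte'
    exact absurd hte' (by simp)
  -- the automorphism `σ` of the two point stabiliser
  have hσex : ∀ h : MulAction.stabilizer T o, ∃ k : MulAction.stabilizer T o,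
      (Equiv.optionCongr ((k : T) : Perm K) : Perm (Option K)) =
        t * Equiv.optionCongr ((h : T) : Perm K) * t := by
    intro h
    have hh0 : ((h : T) : Perm K) o = o := h.2
    obtain ⟨q, hq, hqq⟩ := hlift (t * Equiv.optionCongr ((h : T) : Perm K) * t)
      (G.mul_mem (G.mul_mem htG (h : T).2) htG) (by
        rw [Perm.mul_apply, Perm.mul_apply, ht1]
        change t (some (((h : T) : Perm K) o)) = none
        rw [hh0, ht2])
    refine ⟨⟨⟨q, hq⟩, ?_⟩, hqq⟩
    rw [MulAction.mem_stabilizer_iff]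
    change q o = o
    have h4 : (Equiv.optionCongr q : Perm (Option K)) (some o) = some o := by
      rw [hqq, Perm.mul_apply, Perm.mul_apply, ht2]
      change t none = some o
      exact ht1
    exact Option.some.inj h4
  choose σ hσ using hσex
  have hinj : ∀ a b : MulAction.stabilizer T o,
      (Equiv.optionCongr ((a : T) : Perm K) : Perm (Option K)) =
        Equiv.optionCongr ((b : T) : Perm K) → a = b := by
    intro a b hab
    exact Subtype.ext (Subtype.ext (Equiv.optionCongr_injective hab))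
  have hσσ : ∀ h, σ (σ h) = h := by
    intro h
    apply hinj
    rw [hσ, hσ]
    have : t * (t * Equiv.optionCongr ((h : T) : Perm K) * t) * t =
      (t * t) * Equiv.optionCongr ((h : T) : Perm K) * (t * t) := by group
    rw [this, htt, one_mul, mul_one]
  have hσmul : ∀ a b, σ (a * b) = σ a * σ b := by
    intro a b
    apply hinj
    rw [hσ]
    change t * Equiv.optionCongr (((a : T) : Perm K) * ((b : T) : Perm K)) * t =
      Equiv.optionCongr (((σ a : T) : Perm K) * ((σ b : T) : Perm K))
    rw [SharpThreeEvenMain.optionCongr_mul', SharpThreeEvenMain.optionCongr_mul', hσ, hσ]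
    have : t * Equiv.optionCongr ((a : T) : Perm K) * t * (t * Equiv.optionCongr ((b : T) : Perm K) * t) =
      t * Equiv.optionCongr ((a : T) : Perm K) * (t * t) * Equiv.optionCongr ((b : T) : Perm K) * t := by
      group
    rw [this, htt, mul_one]
    group
  let σ' : MulAction.stabilizer T o ≃* MulAction.stabilizer T o :=
    { toFun := σ
      invFun := σ
      left_inv := hσσ
      right_inv := hσσ
      map_mul' := hσmul }
  -- `σ h e = t (h e)`
  have hσe : ∀ (h : MulAction.stabilizer T o) (x y : K), t (some x) = some y →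
      some (((σ h : T) : Perm K) y) = t (some (((h : T) : Perm K) x)) := by
    intro h x y hxy
    have h4 : (Equiv.optionCongr ((σ h : T) : Perm K) : Perm (Option K)) (some y) =
      t (some (((h : T) : Perm K) x)) := by
      rw [hσ, Perm.mul_apply, Perm.mul_apply, ← hxy, htt']
      rfl
    exact h4
  have hH1 : ∀ h : MulAction.stabilizer T o, ((h : T) : Perm K) e = e → h = 1 := by
    intro h hh
    exact Subtype.ext (Subtype.ext (hTs _ (h : T).2 o e hoe' h.2 hh))
  have hHu : ∀ h k : MulAction.stabilizer T o, ((h : T) : Perm K) e = ((k : T) : Perm K) e →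
      h = k := by
    intro h k hhk
    have h4 := hH1 (k⁻¹ * h) (by
      change ((k : T) : Perm K)⁻¹ (((h : T) : Perm K) e) = e
      rw [hhk]
      exact Equiv.symm_apply_apply _ _)
    exact (inv_mul_eq_one.1 h4).symm
  have hHt' : ∀ x, x ≠ o → ∃ h : MulAction.stabilizer T o, ((h : T) : Perm K) e = x := by
    intro x hx
    obtain ⟨g, hg, h1, h2⟩ := hT2 o e o x hoe' (Ne.symm hx)
    exact ⟨⟨⟨g, hg⟩, h1⟩, h2⟩
  obtain ⟨z, hz⟩ := hHt' e' he'o
  have hz1 : z ≠ 1 := by
    intro h
    rw [h] at hz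
    exact he'e hz.symm
  have hfix : ∀ h, σ' h = h → h = 1 ∨ h = z := by
    intro h hh
    have h4 := hσe h e e ht3
    have h5 : σ h = h := hh
    rw [h5] at h4
    rcases htfix _ h4.symm with h6 | h6
    · exact Or.inl (hH1 h (Option.some.inj h6))
    · exact Or.inr (hHu h z (by rw [hz, Option.some.inj h6]))
  have hσz : σ' z = z := by
    apply hHu
    have h4 := hσe z e e ht3
    rw [hz, hte'] at h4
    rw [hz]
    exact Option.some.inj h4
  have hzz : z * z = 1 := by
    rcases hfix (z * z) (by rw [map_mul, hσz]) with h4 | h4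
    · exact h4
    · exact absurd (mul_eq_left.1 h4) hz1
  have hinvol : ∀ h : MulAction.stabilizer T o, h * h = 1 → h = 1 ∨ h = z := by
    intro h hh
    by_cases h4 : h = 1
    · exact Or.inl h4
    · exact Or.inr (hB h z hh hzz h4 hz1)
  have hcomm := SharpThreeOddGroup.comm_of_involution σ' hσσ z hfix hinvol (hC z hzz hz1) hA
  let H : Subgroup (Perm K) := T ⊓ MulAction.stabilizer (Perm K) o
  have hHT : ∀ h ∈ H, h ∈ T := fun h hh => hh.1
  have hH0 : ∀ h ∈ H, h o = o := fun h hh => hh.2
  have hHt : ∀ x, x ≠ o → ∃ h ∈ H, h e = x := by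
    intro x hx
    obtain ⟨g, hg, h1, h2⟩ := hT2 o e o x he.symm (Ne.symm hx)
    exact ⟨g, ⟨hg, h1⟩, h2⟩
  have hHc : ∀ a ∈ H, ∀ b ∈ H, a * b = b * a := by
    intro a ha b hb
    have h1 := hcomm ⟨⟨a, ha.1⟩, ha.2⟩ ⟨⟨b, hb.1⟩, hb.2⟩
    exact congrArg (fun x : MulAction.stabilizer T o => ((x : T) : Perm K)) h1
  obtain ⟨F, hF1, hF2, hF0, hFe⟩ := FieldOfAffine.exists_field N H o e he.symm hNc hNt hHc hH0 hHt
    (fun h hh a ha => hTN h (hHT h hh) a ha)
  have htnone : ∀ y : K, y ≠ o → ∃ w : K, w ≠ o ∧ t (some y) = some w := by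
    intro y hy
    rcases hw : t (some y) with _ | w
    · exfalso
      have h4 := htt' (some y)
      rw [hw, ht1] at h4
      exact hy (Option.some.inj h4).symm
    · refine ⟨w, ?_, rfl⟩
      intro hwo
      have h4 := htt' (some y)
      rw [hw, hwo, ht2] at h4
      exact absurd h4 (by simp)
  have hinv : ∀ y : K, y ≠ o → t (some y) = some (F.inv y) := by
    let _ := F
    have e0 : (0 : K) = o := hF0
    have e1 : (1 : K) = e := hFe
    have hH2 : ∀ (h : MulAction.stabilizer T o) (y : K),
        ((h : T) : Perm K) y = ((h : T) : Perm K) e * y := fun h y => hF2 _ ⟨(h : T).2, h.2⟩ y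
    have hN2 : ∀ a ∈ N, ∀ y, a y = a o + y := hF1
    let τ : K → K := fun y => (t (some y)).getD o
    have hτ : ∀ y, y ≠ 0 → t (some y) = some (τ y) ∧ τ y ≠ 0 := by
      intro y hy
      obtain ⟨w, hw1, hw2⟩ := htnone y (by rwa [e0] at hy)
      have h4 : τ y = w := by
        change (t (some y)).getD o = w
        rw [hw2]
        rfl
      rw [h4]
      exact ⟨hw2, by rwa [e0]⟩
    have hττ : ∀ y, y ≠ 0 → τ (τ y) = y := by
      intro y hy
      have h4 := (hτ _ (hτ y hy).2).1
      rw [← (hτ y hy).1, htt'] at h4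
      exact (Option.some.inj h4).symm
    have he'1 : e' = -1 := by
      have h4 : ((z : T) : Perm K) (((z : T) : Perm K) e) = e := by
        have h5 := congrArg (fun x : MulAction.stabilizer T o => ((x : T) : Perm K) e) hzz
        exact h5
      rw [hz, hH2, hz, ← e1] at h4
      rcases mul_self_eq_one_iff.1 h4 with h5 | h5
      · exact absurd (h5.trans e1) he'e
      · exact h5
    have h2 : (2 : K) ≠ 0 := by
      intro h4
      apply he'e
      rw [he'1, ← e1]
      linear_combination -h4
    have hmul : ∀ x y, x ≠ 0 → y ≠ 0 → τ (x * y) = τ x * τ y := by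
      intro x y hx hy
      obtain ⟨h, hh⟩ := hHt' x (by rwa [e0] at hx)
      have h4 := hσe h e e ht3
      rw [hh, (hτ x hx).1] at h4
      have h5 := hσe h y (τ y) (hτ y hy).1
      rw [hH2 h, hh, (hτ _ (mul_ne_zero hx hy)).1, hH2 (σ h), Option.some.inj h4] at h5
      exact (Option.some.inj h5).symm
    have hfix' : ∀ y, y ≠ 0 → τ y = y → y = 1 ∨ y = -1 := by
      intro y hy hy2
      have h4 := (hτ y hy).1
      rw [hy2] at h4
      rcases htfix _ h4 with h5 | h5
      · exact Or.inl ((Option.some.inj h5).trans e1.symm)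
      · exact Or.inr ((Option.some.inj h5).trans he'1)
    have hneg : τ (-1) = -1 := by
      have h4 := (hτ (-1) (by simp)).1
      rw [← he'1, hte', he'1] at h4
      exact (Option.some.inj h4).symm
    have hrel : ∀ y, y ≠ 0 → y ≠ -1 → τ (1 + τ y) = 1 - τ (1 + y) := by
      intro y hy hy1
      obtain ⟨a, haN, hao⟩ := hNt e
      have ha : ∀ y, a y = 1 + y := by
        intro y
        rw [hN2 a haN, hao, e1]
      let A : Perm (Option K) := Equiv.optionCongr a
      let Z : Perm (Option K) := Equiv.optionCongr ((z : T) : Perm K)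
      have hAG : A ∈ G := hNT haN
      have hZG : Z ∈ G := (z : T).2
      have hA1 : ∀ y : K, A (some y) = some (1 + y) := fun y => congrArg some (ha y)
      have hA0 : A none = none := rfl
      have hZ1 : ∀ y : K, Z (some y) = some (-y) := by
        intro y
        change some (((z : T) : Perm K) y) = _
        rw [hH2, hz, he'1, neg_one_mul]
      have hZ0 : Z none = none := rfl
      have ht2' : t (some 0) = none := by rw [e0]; exact ht2
      have ht1' : t none = some 0 := by rw [e0]; exact ht1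
      have ht3' : t (some 1) = some 1 := by rw [e1]; exact ht3
      have hte'' : t (some (-1)) = some (-1) := by rw [← he'1]; exact hte'
      have hkey : t * A * t = A * Z * t * A := by
        have h4 : (t * A * t)⁻¹ * (A * Z * t * A) = 1 := by
          refine hs _ (G.mul_mem (G.inv_mem (G.mul_mem (G.mul_mem htG hAG) htG))
            (G.mul_mem (G.mul_mem (G.mul_mem hAG hZG) htG) hAG)) none (some 0) (some (-1))
            (by simp) (by simp) (by simp) ?_ ?_ ?_
          · rw [Perm.mul_apply, Perm.inv_eq_iff_eq]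
            simp only [Perm.mul_apply, hA0, ht1', hZ1, hA1, neg_zero, add_zero, ht3']
          · rw [Perm.mul_apply, Perm.inv_eq_iff_eq]
            simp only [Perm.mul_apply, hA0, ht1', ht2', hZ1, hA1, add_zero, ht3', add_neg_cancel]
          · rw [Perm.mul_apply, Perm.inv_eq_iff_eq]
            simp only [Perm.mul_apply, hA0, ht2', hZ0, hA1, hte'', add_neg_cancel]
        exact inv_mul_eq_one.1 h4
      have h5 := congrArg (fun g : Perm (Option K) => g (some y)) hkey
      have hy3 : 1 + y ≠ 0 := by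
        intro h6
        apply hy1
        linear_combination h6
      have hy4 : 1 + τ y ≠ 0 := by
        intro h6
        apply hy1
        have h7 : τ y = -1 := by linear_combination h6
        have h8 := hττ y hy
        rw [h7, hneg] at h8
        exact h8.symm
      simp only [Perm.mul_apply, (hτ y hy).1, hA1, (hτ _ hy3).1, (hτ _ hy4).1, hZ1] at h5
      rw [Option.some.inj h5, sub_eq_add_neg]
    intro y hy
    have hy0 : y ≠ 0 := by rwa [e0]
    have h4 := SharpThreeOddField.eq_inv h2 τ (fun y hy => (hτ y hy).2) hττ hmul hfix' hneg hrel y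
      hy0
    rw [(hτ y hy0).1, h4]
  refine ⟨F, ?_, ?_, ?_⟩
  · intro b
    obtain ⟨a, ha, hab⟩ := hNt b
    refine ⟨Equiv.optionCongr a, hNT ha, rfl, ?_⟩
    intro y
    show some (a y) = _
    rw [hF1 a ha y, hab]
  · intro a ha0
    rw [hF0] at ha0
    obtain ⟨h, hh, hha⟩ := hHt a ha0
    refine ⟨Equiv.optionCongr h, hHT h hh, rfl, ?_⟩
    intro y
    show some (h y) = _
    rw [hF2 h hh y, hha]
  · rw [hF0]
    exact ⟨t, htG, ht1, ht2, hinv⟩

/-- Transport of an elementary sharply 3-transitive group to `Option (Fin (p ^ f))` and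
conclusion. -/
theorem main {α : Type*} [Fintype α] {p f : ℕ} (hp : p.Prime) (hp2 : p ≠ 2) (hf : Odd f)
    (hα : Fintype.card α = p ^ f + 1) (G : Subgroup (Perm α))
    (h3 : ∀ a b c a' b' c' : α, a ≠ b → a ≠ c → b ≠ c → a' ≠ b' → a' ≠ c' → b' ≠ c' →
      ∃ g ∈ G, g a = a' ∧ g b = b' ∧ g c = c')
    (hs : ∀ g ∈ G, ∀ a b c : α, a ≠ b → a ≠ c → b ≠ c → g a = a → g b = b → g c = c → g = 1) :
    ∃ (F : Type) (_ : Field F) (_ : Fintype F), Fintype.card F = p ^ f ∧
      Nonempty (G ≃* Matrix.ProjGenLinGroup (Fin 2) F) := by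
  classical
  have : Fact p.Prime := ⟨hp⟩
  have hcard : Fintype.card α = Fintype.card (Option (Fin (p ^ f))) := by
    rw [hα, Fintype.card_option, Fintype.card_fin]
  let ε : α ≃ Option (Fin (p ^ f)) := Fintype.equivOfCardEq hcard
  let E : Perm α ≃* Perm (Option (Fin (p ^ f))) := ε.permCongrHom
  have hE : ∀ (g : Perm α) (x : α), E g (ε x) = ε (g x) := by
    intro g x
    show ε (g (ε.symm (ε x))) = ε (g x)
    rw [ε.symm_apply_apply]
  let G' : Subgroup (Perm (Option (Fin (p ^ f)))) := G.map E.toMonoidHom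
  have h3' : ∀ a b c a' b' c' : Option (Fin (p ^ f)), a ≠ b → a ≠ c → b ≠ c → a' ≠ b' → a' ≠ c' → b' ≠ c' →
      ∃ g ∈ G', g a = a' ∧ g b = b' ∧ g c = c' := by
    intro a b c a' b' c' h1 h2 h3a h4 h5 h6
    obtain ⟨g, hg, hga, hgb, hgc⟩ := h3 (ε.symm a) (ε.symm b) (ε.symm c) (ε.symm a') (ε.symm b')
      (ε.symm c') (ε.symm.injective.ne h1) (ε.symm.injective.ne h2) (ε.symm.injective.ne h3a)
      (ε.symm.injective.ne h4) (ε.symm.injective.ne h5) (ε.symm.injective.ne h6)
    refine ⟨E g, ⟨g, hg, rfl⟩, ?_, ?_, ?_⟩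
    · have := hE g (ε.symm a)
      rwa [hga, ε.apply_symm_apply, ε.apply_symm_apply] at this
    · have := hE g (ε.symm b)
      rwa [hgb, ε.apply_symm_apply, ε.apply_symm_apply] at this
    · have := hE g (ε.symm c)
      rwa [hgc, ε.apply_symm_apply, ε.apply_symm_apply] at this
  have hs' : ∀ g ∈ G', ∀ a b c : Option (Fin (p ^ f)), a ≠ b → a ≠ c → b ≠ c →
      g a = a → g b = b → g c = c → g = 1 := by
    rintro _ ⟨g, hg, rfl⟩ a b c h1 h2 h3a ha hb hc
    have key : ∀ x : Option (Fin (p ^ f)), E.toMonoidHom g x = x → g (ε.symm x) = ε.symm x := by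
      intro x hx
      have h4 := hE g (ε.symm x)
      rw [ε.apply_symm_apply] at h4
      have h5 : E g x = x := hx
      rw [h5] at h4
      exact (ε.symm_apply_eq.2 h4).symm
    have h7 := hs g hg _ _ _ (ε.symm.injective.ne h1) (ε.symm.injective.ne h2)
      (ε.symm.injective.ne h3a) (key a ha) (key b hb) (key c hc)
    rw [h7, map_one]
  have hlt : 1 < p ^ f := Nat.one_lt_pow hf.pos.ne' hp.one_lt
  have : Nontrivial (Fin (p ^ f)) := Fin.nontrivial_iff_two_le.2 hlt
  obtain ⟨F, hN, hH, ht⟩ := core1 p f hp2 hf (Nat.card_fin _) G' h3' hs'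
  refine ⟨Fin (p ^ f), F, inferInstance, Fintype.card_fin _, ?_⟩
  let _ := F
  have hcore := SharpThreeEven.core2 (K := Fin (p ^ f)) G' h3' hs' hN hH ht
  obtain ⟨e2⟩ := hcore
  have e1 : G ≃* G' := E.subgroupMap G
  exact ⟨e1.trans e2⟩

end Cfsg.Agent.PermutationGroups.SharpThreeOddMain
end

-- part: S0730
section
-- import your own Cfsg.Agent.* helpers here

set_option autoImplicit false
open Cfsg

namespace Cfsg.Agent.S0730

/-- A sharply triply transitive group of degree `p^f + 1`, `p` an odd prime and `f` odd, is isomorphic to the projective general linear group of degree 2 over the field with `p^f` elements (for even `f` there is a second, twisted, group). -/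
theorem result {α : Type*} [Fintype α] [DecidableEq α] {p f : ℕ} (hp : p.Prime) (hp2 : p ≠ 2) (hfo : Odd f) (hα : Fintype.card α = p ^ f + 1) (G : Subgroup (Equiv.Perm α)) (h3 : MulAction.IsMultiplyPretransitive G α 3) (hsharp : ∀ x : Fin 3 ↪ α, MulAction.stabilizer G x = ⊥) : ∃ (F : Type) (_ : Field F) (_ : Fintype F), Fintype.card F = p ^ f ∧ Nonempty (G ≃* Matrix.ProjGenLinGroup (Fin 2) F) := by
  have key : ∀ a b c : α, a ≠ b → a ≠ c → b ≠ c → ∃ x : Fin 3 ↪ α, x 0 = a ∧ x 1 = b ∧ x 2 = c := by
    intro a b c hab hac hbc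
    refine ⟨⟨![a, b, c], ?_⟩, rfl, rfl, rfl⟩
    intro i j hij
    fin_cases i <;> fin_cases j <;> simp_all
  apply Cfsg.Agent.PermutationGroups.SharpThreeOddMain.main hp hp2 hfo hα G
  · intro a b c a' b' c' h1 h2 h3' h4 h5 h6
    obtain ⟨x, hx0, hx1, hx2⟩ := key a b c h1 h2 h3'
    obtain ⟨y, hy0, hy1, hy2⟩ := key a' b' c' h4 h5 h6
    obtain ⟨g, hg⟩ := h3.exists_smul_eq x y
    refine ⟨g, g.2, ?_, ?_, ?_⟩
    · rw [← hx0, ← hy0, ← hg]; rfl
    · rw [← hx1, ← hy1, ← hg]; rfl
    · rw [← hx2, ← hy2, ← hg]; rfl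
  · intro g hg a b c h1 h2 h3' ha hb hc
    obtain ⟨x, hx0, hx1, hx2⟩ := key a b c h1 h2 h3'
    have hmem : (⟨g, hg⟩ : G) ∈ MulAction.stabilizer G x := by
      rw [MulAction.mem_stabilizer_iff]
      ext i
      have hi : ∀ i : Fin 3, g (x i) = x i := by
        intro i
        fin_cases i
        · show g (x 0) = x 0
          rw [hx0, ha]
        · show g (x 1) = x 1
          rw [hx1, hb]
        · show g (x 2) = x 2
          rw [hx2, hc]
      exact hi i
    rw [hsharp x, Subgroup.mem_bot] at hmem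
    exact congrArg Subtype.val hmem

end Cfsg.Agent.S0730
end
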