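import Cfsg.Statements.S0564
import Mathlib
import Cfsg.Agent.S0560
import Cfsg.Agent.S0563
import Cfsg.Agent.S0566
import Cfsg.Agent.Lib.SubnormalJoin
set_option linter.all false

set_option autoImplicit false
open Cfsg
open Pointwise

universe u

namespace Cfsg.Agent.S0564

open Cfsg.Agent.SolvableStructure.WielandtReduce

/-- The normal closure of `P` is contained in a proper normal subgroup of `PK` if `P` is
normalized by `A` and `G = AK`. -/
theorem step {G : Type*} [Group G] (A K P U : Subgroup G) [K.Normal] (hAK : A ⊔ K = ⊤)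
    (hP : ∀ a ∈ A, ∀ x ∈ P, a * x * a⁻¹ ∈ P) (hU : P ⊔ K = U) (V : Subgroup U)
    [hVn : V.Normal] (hV : V ≠ ⊤) (hle : P.subgroupOf U ≤ V) :
    ∃ X : Subgroup G, X.Normal ∧ P ≤ X ∧ ¬ (K ≤ X) := by
  refine ⟨Subgroup.normalClosure (P : Set G), inferInstance, Subgroup.subset_normalClosure, ?_⟩
  have hPU : P ≤ U := hU ▸ le_sup_left
  have hKU : K ≤ U := hU ▸ le_sup_right
  have hXV : Subgroup.normalClosure (P : Set G) ≤ V.map U.subtype := by
    rw [Subgroup.normalClosure, Subgroup.closure_le]
    intro w hw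
    obtain ⟨x, hx, hxw⟩ := Group.mem_conjugatesOfSet_iff.mp hw
    obtain ⟨g, hg⟩ := isConj_iff.mp hxw
    have hgm : g ∈ K ⊔ A := by rw [sup_comm, hAK]; exact Subgroup.mem_top g
    obtain ⟨k, hk, a, ha, rfl⟩ := Subgroup.mem_sup_of_normal_left.mp hgm
    have hy : a * x * a⁻¹ ∈ P := hP a ha x hx
    have hyV : (⟨a * x * a⁻¹, hPU hy⟩ : U) ∈ V := hle (Subgroup.mem_subgroupOf.mpr hy)
    have hyk := hVn.conj_mem _ hyV ⟨k, hKU hk⟩
    refine ⟨_, hyk, ?_⟩
    rw [← hg]
    simp [mul_assoc]
  intro hKX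
  apply hV
  rw [eq_top_iff]
  rintro ⟨u, hu⟩ -
  have hUX : U ≤ Subgroup.normalClosure (P : Set G) := by
    rw [← hU]
    exact sup_le Subgroup.subset_normalClosure hKX
  obtain ⟨v, hv, hvu⟩ := hXV (hUX hu)
  have : v = ⟨u, hu⟩ := Subtype.ext hvu
  rwa [← this]

/-- A normal subgroup with solvable quotient, meeting `K` trivially, forces `K` solvable. -/
theorem solvable_of_inf_eq_bot {G : Type*} [Group G] (K X : Subgroup G) [X.Normal]
    (h : K ⊓ X = ⊥) (hs : Group.IsSolvable (G ⧸ X)) : Group.IsSolvable K := by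
  refine Group.isSolvable_of_isSolvable_injective (f := (QuotientGroup.mk' X).comp K.subtype) ?_
  rw [← MonoidHom.ker_eq_bot_iff, eq_bot_iff]
  rintro ⟨k, hk⟩ hkX
  have hkX' : k ∈ X := by
    rw [MonoidHom.mem_ker, MonoidHom.comp_apply] at hkX
    exact (QuotientGroup.eq_one_iff k).mp hkX
  have : k ∈ K ⊓ X := ⟨hk, hkX'⟩
  rw [h, Subgroup.mem_bot] at this
  rw [Subgroup.mem_bot]
  exact Subtype.ext this

theorem main (n : ℕ) : ∀ (G : Type u) [Group G] [Finite G] (A B : Subgroup G),
    Nat.card G = n → Group.IsNilpotent A → Group.IsNilpotent B →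
    (∀ g : G, ∃ a ∈ A, ∃ b ∈ B, g = a * b) → Group.IsSolvable G := by
  induction n using Nat.strong_induction_on with
  | _ n ih =>
  intro G _ _ A B hn hA hB hAB
  by_cases hcop : (Nat.card A).Coprime (Nat.card B)
  · exact (Cfsg.Agent.S0563.result A B hA hB hcop hAB).1
  by_contra hns
  have hnt : Nontrivial G := by
    by_contra h
    rw [not_nontrivial_iff_subsingleton] at h
    exact hns inferInstance
  -- quotients are solvable
  have hquot : ∀ N : Subgroup G, ∀ _ : N.Normal, N ≠ ⊥ → Group.IsSolvable (G ⧸ N) := by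
    intro N _ hN
    have hlt : Nat.card (G ⧸ N) < n := by
      have e : Nat.card (G ⧸ N) * Nat.card N = n := by
        rw [← hn]; exact (Subgroup.card_eq_card_quotient_mul_card_subgroup N).symm
      have h1 : 1 < Nat.card N := (Subgroup.one_lt_card_iff_ne_bot N).2 hN
      have h2 : 0 < Nat.card (G ⧸ N) := Nat.card_pos
      nlinarith
    refine ih (Nat.card (G ⧸ N)) hlt (G ⧸ N) (A.map (QuotientGroup.mk' N))
      (B.map (QuotientGroup.mk' N)) rfl (map_nilpotent _ A hA) (map_nilpotent _ B hB) ?_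
    intro x
    obtain ⟨g, rfl⟩ := QuotientGroup.mk'_surjective N x
    obtain ⟨a, ha, b, hb, hg⟩ := hAB g
    exact ⟨_, Subgroup.mem_map_of_mem _ ha, _, Subgroup.mem_map_of_mem _ hb, by
      rw [hg, map_mul]⟩
  -- proper subgroups containing `A` or `B` are solvable
  have hsub : ∀ H : Subgroup G, (A ≤ H ∨ B ≤ H) → H ≠ ⊤ → Group.IsSolvable H := by
    intro H hH hHt
    have hlt : Nat.card H < n := by
      rw [← hn]
      exact lt_of_le_of_ne (Nat.card_le_card_of_injective H.subtype H.subtype_injective)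
        (fun h => hHt (Subgroup.eq_top_of_card_eq H h))
    refine ih (Nat.card H) hlt H (A.subgroupOf H) (B.subgroupOf H) rfl
      (nilpotent_subgroupOf A H hA) (nilpotent_subgroupOf B H hB) ?_
    intro g
    obtain ⟨a, ha, b, hb, hg⟩ := hAB (g : G)
    have hab : a ∈ H ∧ b ∈ H := by
      rcases hH with h | h
      · refine ⟨h ha, ?_⟩
        have : b = a⁻¹ * (g : G) := by rw [hg]; group
        rw [this]; exact H.mul_mem (H.inv_mem (h ha)) g.2
      · refine ⟨?_, h hb⟩
        have : a = (g : G) * b⁻¹ := by rw [hg]; group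
        rw [this]; exact H.mul_mem g.2 (H.inv_mem (h hb))
    exact ⟨⟨a, hab.1⟩, ha, ⟨b, hab.2⟩, hb, Subtype.ext hg⟩
  obtain ⟨K, hKn, hKne, hKmin⟩ := Cfsg.Agent.Lib.SubnormalJoin.exists_minimal_normal G
  have hKns : ¬ Group.IsSolvable K := fun h =>
    hns ((Group.isSolvable_iff_subgroup_quotient K).2 ⟨h, hquot K hKn hKne⟩)
  have hsup : ∀ C : Subgroup G, (C = A ∨ C = B) → C ⊔ K = ⊤ := by
    intro C hC
    by_contra h
    have h1 : Group.IsSolvable (C ⊔ K : Subgroup G) := by
      apply hsub _ _ h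
      rcases hC with rfl | rfl
      · exact Or.inl le_sup_left
      · exact Or.inr le_sup_left
    exact hKns (Group.isSolvable_of_isSolvable_injective
      (Subgroup.inclusion_injective (le_sup_right : K ≤ C ⊔ K)))
  have hAK := hsup A (Or.inl rfl)
  have hBK := hsup B (Or.inr rfl)
  -- no normal subgroup `X ≠ ⊥` avoids `K`
  have hX : ∀ X : Subgroup G, X.Normal → X ≠ ⊥ → K ≤ X := by
    intro X hXn hXne
    by_contra hle
    have h1 : K ⊓ X = ⊥ := by
      by_contra hb
      rcases hKmin (K ⊓ X) inferInstance inf_le_left with h | h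
      · exact hb h
      · exact hle (h ▸ inf_le_right)
    exact hKns (solvable_of_inf_eq_bot K X h1 (hquot X hXn hXne))
  obtain ⟨p, hp, hpA, hpB⟩ := Nat.Prime.not_coprime_iff_dvd.mp hcop
  have : Fact p.Prime := ⟨hp⟩
  obtain ⟨P, Q, R, hR⟩ := Cfsg.Agent.S0560.result A B hAB p
  set Ap : Subgroup G := (P : Subgroup A).map A.subtype with hAp
  set Bp : Subgroup G := (Q : Subgroup B).map B.subtype with hBp
  have hApA : Ap ≤ A := Subgroup.map_subtype_le _
  have hBpB : Bp ≤ B := Subgroup.map_subtype_le _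
  have hne : ∀ (C : Subgroup G) (S : Sylow p C), p ∣ Nat.card C →
      (S : Subgroup C).map C.subtype ≠ ⊥ := by
    intro C S hd h
    rw [Subgroup.map_eq_bot_iff_of_injective _ C.subtype_injective] at h
    have := S.dvd_card_of_dvd_card hd
    rw [h, Subgroup.card_bot] at this
    exact hp.one_lt.ne' (Nat.dvd_one.mp this)
  have hApne : Ap ≠ ⊥ := hne A P hpA
  have hBpne : Bp ≠ ⊥ := hne B Q hpB
  have hnorm : ∀ (C : Subgroup G) (_ : Group.IsNilpotent C) (S : Sylow p C), ∀ a ∈ C,
      ∀ x ∈ (S : Subgroup C).map C.subtype, a * x * a⁻¹ ∈ (S : Subgroup C).map C.subtype := by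
    intro C hC S a ha x hx
    obtain ⟨y, hy, rfl⟩ := hx
    have hSn : (S : Subgroup C).Normal := inferInstance
    exact ⟨_, hSn.conj_mem y hy ⟨a, ha⟩, rfl⟩
  have hApn := hnorm A hA P
  have hBpn := hnorm B hB Q
  -- images modulo `K`
  set π := QuotientGroup.mk' K with hπ
  have hπs : ∀ C : Subgroup G, C ⊔ K = ⊤ → Function.Surjective (π.comp C.subtype) := by
    intro C hC x
    obtain ⟨g, rfl⟩ := QuotientGroup.mk'_surjective K x
    have hg : g ∈ C ⊔ K := by rw [hC]; exact Subgroup.mem_top g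
    obtain ⟨c, hc, k, hk, rfl⟩ := Subgroup.mem_sup_of_normal_right.mp hg
    refine ⟨⟨c, hc⟩, ?_⟩
    rw [MonoidHom.comp_apply, map_mul]
    have : π k = 1 := (QuotientGroup.eq_one_iff k).mpr hk
    rw [this, mul_one]
    rfl
  have hnilq : Group.IsNilpotent (G ⧸ K) := by
    have := hA
    exact Group.nilpotent_of_surjective _ (hπs A hAK)
  have hmapeq : Ap.map π = Bp.map π := by
    have h1 : (P.mapSurjective (hπs A hAK) : Subgroup (G ⧸ K)) = Ap.map π := by
      rw [Sylow.coe_mapSurjective, hAp, Subgroup.map_map]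
    have h2 : (Q.mapSurjective (hπs B hBK) : Subgroup (G ⧸ K)) = Bp.map π := by
      rw [Sylow.coe_mapSurjective, hBp, Subgroup.map_map]
    have hun : Subsingleton (Sylow p (G ⧸ K)) := by
      have : (P.mapSurjective (hπs A hAK) : Subgroup (G ⧸ K)).Normal := inferInstance
      exact (Sylow.unique_of_normal (P.mapSurjective (hπs A hAK)) this).instSubsingleton
    rw [← h1, ← h2, Subsingleton.elim (P.mapSurjective (hπs A hAK)) (Q.mapSurjective (hπs B hBK))]
  set U : Subgroup G := Ap ⊔ K with hU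
  have hBU : Bp ⊔ K = U := by
    have h1 : (Ap.map π).comap π = Ap ⊔ K := by
      rw [Subgroup.comap_map_eq, hπ, QuotientGroup.ker_mk']
    have h2 : (Bp.map π).comap π = Bp ⊔ K := by
      rw [Subgroup.comap_map_eq, hπ, QuotientGroup.ker_mk']
    rw [hU, ← h1, ← h2, hmapeq]
  have hApU : Ap ≤ U := le_sup_left
  have hBpU : Bp ≤ U := hBU ▸ le_sup_left
  have hKU : K ≤ U := le_sup_right
  -- Kegel's lemma in `U`
  obtain ⟨V, hVn, hVt, hV⟩ := Cfsg.Agent.S0566.result (G := U) (Ap.subgroupOf U) (Bp.subgroupOf U)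
    (by
      intro h
      apply hApne
      rw [Subgroup.subgroupOf_eq_bot, disjoint_iff, inf_eq_left.mpr hApU] at h
      exact h)
    (by
      intro h
      apply hBpne
      rw [Subgroup.subgroupOf_eq_bot, disjoint_iff, inf_eq_left.mpr hBpU] at h
      exact h)
    (by
      intro x
      obtain ⟨a, ha, b, hb, hx⟩ := hAB (x : G)
      refine ⟨(MulAut.conj a • (R : Subgroup G)).subgroupOf U, ?_, ?_⟩
      · intro htop
        have hUR : U ≤ MulAut.conj a • (R : Subgroup G) := Subgroup.subgroupOf_eq_top.mp htop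
        have hpK : IsPGroup p K := by
          have h1 : IsPGroup p (MulAut.conj a • (R : Subgroup G) : Subgroup G) := (MulAut.conj a • R).2
          exact h1.to_le (hKU.trans hUR)
        have := hpK.isNilpotent
        exact hKns inferInstance
      · have hconjB : MulAut.conj (x : G) • Bp = MulAut.conj a • Bp := by
          have : MulAut.conj b • Bp = Bp := by
            apply le_antisymm
            · rintro _ ⟨y, hy, rfl⟩
              exact hBpn b hb y hy
            · intro y hy
              rw [Subgroup.mem_pointwise_smul_iff_inv_smul_mem, ← map_inv]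
              exact hBpn b⁻¹ (B.inv_mem hb) y hy
          rw [hx, map_mul, mul_smul, this]
        have hconjA : MulAut.conj a • Ap = Ap := by
          apply le_antisymm
          · rintro _ ⟨y, hy, rfl⟩
            exact hApn a ha y hy
          · intro y hy
            rw [Subgroup.mem_pointwise_smul_iff_inv_smul_mem, ← map_inv]
            exact hApn a⁻¹ (A.inv_mem ha) y hy
        have hset : ((MulAut.conj a • (R : Subgroup G) : Subgroup G) : Set G) =
            (Ap : Set G) * ((MulAut.conj (x : G) • Bp : Subgroup G) : Set G) := by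
          rw [hconjB]
          conv_rhs => rw [← hconjA]
          rw [Subgroup.coe_pointwise_smul, Subgroup.coe_pointwise_smul,
            Subgroup.coe_pointwise_smul, hR, smul_mul']
        have hsub2 : ∀ u : G, u ∈ U → (u ∈ (MulAut.conj (x : G) • Bp : Subgroup G) ↔
            ∃ h : u ∈ U, (⟨u, h⟩ : U) ∈ (MulAut.conj x • (Bp.subgroupOf U) : Subgroup U)) := by
          intro u hu
          constructor
          · rintro ⟨y, hy, hyu⟩
            refine ⟨hu, ⟨⟨y, hBpU hy⟩, Subgroup.mem_subgroupOf.mpr hy, Subtype.ext hyu⟩⟩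
          · rintro ⟨_, ⟨y, hy, hyu⟩⟩
            exact ⟨y, Subgroup.mem_subgroupOf.mp hy, congrArg Subtype.val hyu⟩
        ext u
        constructor
        · intro hu
          have h1 : (u : G) ∈ ((MulAut.conj a • (R : Subgroup G) : Subgroup G) : Set G) :=
            Subgroup.mem_subgroupOf.mp hu
          rw [hset] at h1
          obtain ⟨y, hy, z, hz, hyz⟩ := Set.mem_mul.mp h1
          have hyU : y ∈ U := hApU hy
          have hzU : z ∈ U := by
            have : z = y⁻¹ * (u : G) := by rw [← hyz]; group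
            rw [this]; exact U.mul_mem (U.inv_mem hyU) u.2
          obtain ⟨_, hz'⟩ := (hsub2 z hzU).mp hz
          exact Set.mem_mul.mpr ⟨⟨y, hyU⟩, Subgroup.mem_subgroupOf.mpr hy, ⟨z, hzU⟩, hz',
            Subtype.ext hyz⟩
        · intro hu
          obtain ⟨y, hy, z, hz, hyz⟩ := Set.mem_mul.mp hu
          refine Subgroup.mem_subgroupOf.mpr ?_
          change (u : G) ∈ ((MulAut.conj a • (R : Subgroup G) : Subgroup G) : Set G)
          rw [hset]
          exact Set.mem_mul.mpr ⟨y, Subgroup.mem_subgroupOf.mp hy, z,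
            (hsub2 z z.2).mpr ⟨z.2, hz⟩, congrArg Subtype.val hyz⟩)
  rcases hV with hV | hV
  · obtain ⟨X, hXn, hXA, hXK⟩ := step A K Ap U hAK hApn rfl V hVt hV
    exact hXK (hX X hXn (fun h => hApne (le_bot_iff.mp (h ▸ hXA))))
  · obtain ⟨X, hXn, hXB, hXK⟩ := step B K Bp U hBK hBpn hBU V hVt hV
    exact hXK (hX X hXn (fun h => hBpne (le_bot_iff.mp (h ▸ hXB))))

/-- The Kegel–Wielandt Theorem: a finite group G = AB with A and B nilpotent subgroups is solvable. -/
theorem result {G : Type*} [Group G] [Finite G] (A B : Subgroup G) (hA : Group.IsNilpotent A) (hB : Group.IsNilpotent B) (hAB : ∀ g : G, ∃ a ∈ A, ∃ b ∈ B, g = a * b) : Group.IsSolvable G :=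
  main (Nat.card G) G A B rfl hA hB hAB

end Cfsg.Agent.S0564
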