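import Cfsg.Statements.S0900
import Cfsg.Agent.Characters.Core
import Cfsg.Agent.Characters.Clifford
set_option linter.all false

set_option autoImplicit false
open Cfsg

namespace Cfsg.Agent.S0900

open Cfsg.Agent.Characters.Core Cfsg.Agent.Characters.Clifford
open scoped ComplexConjugate

section aux

variable {G : Type*} [Group G]

theorem card_mul_classInner_re {H : Type*} [Group H] [Fintype H] (f : H → ℂ) :
    (Nat.card H : ℝ) * (classInner f f).re = ∑ x : H, Complex.normSq (f x) := by
  unfold classInner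
  have h0 : (Nat.card H : ℝ) ≠ 0 := by exact_mod_cast Nat.card_pos.ne'
  have h1 : ∑ x : H, f x * conj (f x) = ((∑ x : H, Complex.normSq (f x) : ℝ) : ℂ) := by
    push_cast
    exact Finset.sum_congr rfl fun x _ => Complex.mul_conj _
  rw [h1]
  have h2 : ((Nat.card H : ℂ)⁻¹ * ((∑ x : H, Complex.normSq (f x) : ℝ) : ℂ)) =
    (((Nat.card H : ℝ)⁻¹ * (∑ x : H, Complex.normSq (f x)) : ℝ) : ℂ) := by push_cast; rfl
  rw [h2, Complex.ofReal_re, ← mul_assoc, mul_inv_cancel₀ h0, one_mul]

theorem extendByZero_coe (N : Subgroup G) (ϑ : N → ℂ) (n : N) :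
    extendByZero N ϑ (n : G) = ϑ n := by
  unfold extendByZero
  exact Function.Injective.extend_apply Subtype.val_injective ϑ 0 n

/-- the induced function vanishes off a normal subgroup. -/
theorem indFun_of_not_mem [Fintype G] (N : Subgroup G) [hN : N.Normal] (ϑ : N → ℂ) {g : G}
    (hg : g ∉ N) : indFun N ϑ g = 0 := by
  unfold indFun
  rw [Finset.sum_eq_zero, mul_zero]
  intro x _
  unfold extendByZero
  rw [Function.extend_apply']
  · rfl
  · rintro ⟨n, hn⟩
    apply hg
    have h1 : x⁻¹ * g * x ∈ N := hn ▸ n.2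
    have := hN.conj_mem _ h1 x
    simpa [mul_assoc] using this

/-- the induced function of an invariant function. -/
theorem indFun_coe [Fintype G] (N : Subgroup G) [hN : N.Normal] (ϑ : N → ℂ)
    (hinv : ∀ (g : G) (n : N), ϑ ⟨g * n * g⁻¹, hN.conj_mem (n : G) n.2 g⟩ = ϑ n) (n : N) :
    indFun N ϑ n = (N.index : ℂ) * ϑ n := by
  unfold indFun
  have h1 : ∀ x : G, extendByZero N ϑ (x⁻¹ * n * x) = ϑ n := by
    intro x
    have h2 := hinv x⁻¹ n
    have h3 : x⁻¹ * (n : G) * x = ((⟨x⁻¹ * n * x⁻¹⁻¹, hN.conj_mem (n : G) n.2 x⁻¹⟩ : N) : G) := by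
      simp
    rw [h3, extendByZero_coe, h2]
  rw [Finset.sum_congr rfl (fun x _ => h1 x), Finset.sum_const, Finset.card_univ, nsmul_eq_mul,
    ← Nat.card_eq_fintype_card, ← N.card_mul_index]
  push_cast
  have : (Nat.card N : ℂ) ≠ 0 := by exact_mod_cast Nat.card_pos.ne'
  field_simp

theorem isClassFunction_indFun [Fintype G] (N : Subgroup G) (ϑ : N → ℂ) :
    IsClassFunction G (indFun N ϑ) := by
  intro g h
  unfold indFun
  congr 1
  refine Fintype.sum_equiv (Equiv.mulLeft h⁻¹) _ _ (fun x => ?_)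
  congr 1
  simp only [Equiv.coe_mulLeft]
  group

open scoped Classical in
/-- splitting of the norm over `N` and its complement -/
theorem norm_split [Fintype G] (N : Subgroup G) [Fintype N] (χ : G → ℂ) :
    (Nat.card G : ℝ) * (classInner χ χ).re =
      (Nat.card N : ℝ) * (classInner (fun n : N => χ n) (fun n : N => χ n)).re +
        ∑ g : G with g ∉ N, Complex.normSq (χ g) := by
  rw [card_mul_classInner_re, card_mul_classInner_re,
    ← Finset.sum_filter_add_sum_filter_not Finset.univ (fun g => g ∈ N)]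
  congr 1
  exact (Finset.sum_subtype _ (by simp) _)

/-- vanishing off `N` in terms of the norm of the restriction. -/
theorem vanish_iff [Fintype G] (N : Subgroup G) [Fintype N] (χ : G → ℂ)
    (hχ : classInner χ χ = 1) :
    (∀ g : G, g ∉ N → χ g = 0) ↔
      (classInner (fun n : N => χ n) (fun n : N => χ n)).re = (N.index : ℝ) := by
  classical
  have h := norm_split N χ
  have hcN : (Nat.card N : ℝ) ≠ 0 := by exact_mod_cast Nat.card_pos.ne'
  rw [hχ, Complex.one_re, mul_one, ← N.card_mul_index] at h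
  push_cast at h
  constructor
  · intro h0
    rw [Finset.sum_eq_zero, add_zero] at h
    · exact (mul_left_cancel₀ hcN h).symm
    · intro g hg
      rw [h0 g (by simpa using hg)]
      simp
  · intro h0 g hg
    rw [h0] at h
    have h1 : ∑ g : G with g ∉ N, Complex.normSq (χ g) = 0 := by linarith
    rw [Finset.sum_eq_zero_iff_of_nonneg (fun _ _ => Complex.normSq_nonneg _)] at h1
    exact Complex.normSq_eq_zero.1 (h1 g (by simpa using hg))

/-- an invariant constituent is the only one. -/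
theorem restrict_eq_smul [Fintype G] (N : Subgroup G) [hN : N.Normal] [Fintype N] (χ : G → ℂ)
    (hχ : IsIrrCharacter G χ) (ϑ : N → ℂ) (hϑ : IsIrrCharacter N ϑ)
    (hcon : classInner (fun n : N => χ n) ϑ ≠ 0)
    (hinv : ∀ (g : G) (n : N), ϑ ⟨g * n * g⁻¹, hN.conj_mem (n : G) n.2 g⟩ = ϑ n) :
    ∃ e : ℕ, (fun n : N => χ n) = (e : ℂ) • ϑ := by
  classical
  have := finite_irr (G := N)
  have := Fintype.ofFinite (IrrCharacter N)
  have hres : IsCharacter N (fun n : N => χ n) := isCharacter_restrict N (isIrr_isCharacter hχ)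
  obtain ⟨e, he⟩ := classInner_isNat hres (isIrr_isCharacter hϑ)
  refine ⟨e, ?_⟩
  conv_lhs => rw [classFunction_eq_sum (isCharacter_isClassFunction hres)]
  rw [Finset.sum_eq_single (⟨ϑ, hϑ⟩ : IrrCharacter N)]
  · simp only [he]
  · intro ψ _ hψ
    have : classInner (fun n : N => χ n) (ψ : N → ℂ) = 0 := by
      by_contra hne
      obtain ⟨g, hg⟩ := exists_conj_of_constituents N hχ hϑ ψ.2 hcon hne
      apply hψ
      apply Subtype.ext
      rw [hg]
      funext n
      exact hinv g n
    rw [this, zero_smul]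
  · intro h
    exact absurd (Finset.mem_univ _) h

end aux

/-- Let N be a normal subgroup of the finite group G, χ an irreducible character of G and ϑ an irreducible character of N having nonzero inner product with the restriction of χ. Consider: (a) the restriction of χ to N is e • ϑ for a natural number e with e ^ 2 equal to the index of N; (b) χ vanishes outside N and ϑ is invariant under conjugation by G; (c) ϑ is invariant and every irreducible character of G having nonzero inner product with the function induced from ϑ equals χ. Then (a) ↔ (b) and (a) ↔ (c). -/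
theorem result {G : Type*} [Group G] [Fintype G] (N : Subgroup G) [hN : N.Normal] [Fintype N] (χ : G → ℂ) (hχ : Cfsg.IsIrrCharacter G χ) (ϑ : N → ℂ) (hϑ : Cfsg.IsIrrCharacter N ϑ) (hcon : Cfsg.classInner (fun n : N => χ n) ϑ ≠ 0) : ((∃ e : ℕ, (fun n : N => χ n) = (e : ℂ) • ϑ ∧ e ^ 2 = N.index) ↔ ((∀ g : G, g ∉ N → χ g = 0) ∧ ∀ (g : G) (n : N), ϑ ⟨g * n * g⁻¹, hN.conj_mem (n : G) n.2 g⟩ = ϑ n)) ∧ ((∃ e : ℕ, (fun n : N => χ n) = (e : ℂ) • ϑ ∧ e ^ 2 = N.index) ↔ (∀ (g : G) (n : N), ϑ ⟨g * n * g⁻¹, hN.conj_mem (n : G) n.2 g⟩ = ϑ n ∧ ∀ ψ : G → ℂ, Cfsg.IsIrrCharacter G ψ → Cfsg.classInner (Cfsg.indFun N ϑ) ψ ≠ 0 → ψ = χ)) := by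
  classical
  have hclass := isIrr_isClassFunction hχ
  have hnorm := classInner_irr_self hχ
  -- norm of `e • ϑ`
  have hnorme : ∀ e : ℕ, (fun n : N => χ n) = (e : ℂ) • ϑ →
      (classInner (fun n : N => χ n) (fun n : N => χ n)).re = (e : ℝ) ^ 2 := by
    intro e he
    rw [he, classInner_smul_left, classInner_smul_right, classInner_irr_self hϑ]
    simp [pow_two]
  -- (a) → (b)
  have hab : (∃ e : ℕ, (fun n : N => χ n) = (e : ℂ) • ϑ ∧ e ^ 2 = N.index) →
      ((∀ g : G, g ∉ N → χ g = 0) ∧
        ∀ (g : G) (n : N), ϑ ⟨g * n * g⁻¹, hN.conj_mem (n : G) n.2 g⟩ = ϑ n) := by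
    rintro ⟨e, he, he2⟩
    constructor
    · rw [vanish_iff N χ hnorm, hnorme e he, ← he2]
      push_cast
      rfl
    · intro g n
      have he0 : (e : ℂ) ≠ 0 := by
        intro h0
        apply hcon
        rw [he, h0, zero_smul]
        exact classInner_zero_left ϑ
      have h1 := congrFun he n
      have h2 := congrFun he ⟨g * n * g⁻¹, hN.conj_mem (n : G) n.2 g⟩
      simp only [Pi.smul_apply, smul_eq_mul] at h1 h2
      have h3 : χ (g * n * g⁻¹) = χ n := hclass n g
      rw [h1, h2] at h3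
      exact mul_left_cancel₀ he0 h3
  -- (b) → (a)
  have hba : ((∀ g : G, g ∉ N → χ g = 0) ∧
        ∀ (g : G) (n : N), ϑ ⟨g * n * g⁻¹, hN.conj_mem (n : G) n.2 g⟩ = ϑ n) →
      (∃ e : ℕ, (fun n : N => χ n) = (e : ℂ) • ϑ ∧ e ^ 2 = N.index) := by
    rintro ⟨h0, hinv⟩
    obtain ⟨e, he⟩ := restrict_eq_smul N χ hχ ϑ hϑ hcon hinv
    refine ⟨e, he, ?_⟩
    rw [vanish_iff N χ hnorm, hnorme e he] at h0
    exact_mod_cast h0
  refine ⟨⟨hab, hba⟩, ?_, ?_⟩
  · -- (a) → (c)
    intro ha
    obtain ⟨e, he, he2⟩ := ha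
    obtain ⟨hvan, hinv⟩ := hab ⟨e, he, he2⟩
    intro g n
    refine ⟨hinv g n, fun ψ hψ hψ0 => ?_⟩
    have hind : indFun N ϑ = (e : ℂ) • χ := by
      funext g
      by_cases hg : g ∈ N
      · have h1 := congrFun he ⟨g, hg⟩
        simp only [Pi.smul_apply, smul_eq_mul] at h1 ⊢
        have h2 := indFun_coe N ϑ hinv ⟨g, hg⟩
        simp only at h2
        rw [h2, h1, ← he2]
        push_cast
        ring
      · rw [indFun_of_not_mem N ϑ hg, Pi.smul_apply, hvan g hg, smul_zero]
    by_contra hne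
    apply hψ0
    rw [hind, classInner_smul_left, classInner_irr_ne hχ hψ (fun h => hne h.symm), mul_zero]
  · -- (c) → (a)
    intro hc
    have hinv : ∀ (g : G) (n : N), ϑ ⟨g * n * g⁻¹, hN.conj_mem (n : G) n.2 g⟩ = ϑ n :=
      fun g n => (hc g n).1
    have huniq := (hc 1 1).2
    apply hba
    refine ⟨?_, hinv⟩
    have := finite_irr (G := G)
    have := Fintype.ofFinite (IrrCharacter G)
    have hexp : indFun N ϑ = classInner (indFun N ϑ) χ • χ := by
      conv_lhs => rw [classFunction_eq_sum (isClassFunction_indFun N ϑ)]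
      rw [Finset.sum_eq_single (⟨χ, hχ⟩ : IrrCharacter G)]
      · intro ψ _ hψ
        have : classInner (indFun N ϑ) (ψ : G → ℂ) = 0 := by
          by_contra hne
          exact hψ (Subtype.ext (huniq ψ ψ.2 hne))
        rw [this, zero_smul]
      · intro h
        exact absurd (Finset.mem_univ _) h
    have hne : classInner (indFun N ϑ) χ ≠ 0 := by
      intro h0
      rw [h0, zero_smul] at hexp
      have h1 := indFun_coe N ϑ hinv 1
      rw [hexp] at h1
      obtain ⟨m, hm, hm1⟩ := isIrr_apply_one hϑ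
      rw [hm1] at h1
      have h2 : (N.index : ℂ) ≠ 0 := by exact_mod_cast Subgroup.index_ne_zero_of_finite
      have h3 : (m : ℂ) ≠ 0 := by exact_mod_cast hm.ne'
      simp only [Pi.zero_apply] at h1
      exact (mul_ne_zero h2 h3) h1.symm
    intro g hg
    have h1 := congrFun hexp g
    rw [indFun_of_not_mem N ϑ hg, Pi.smul_apply, smul_eq_mul] at h1
    rcases mul_eq_zero.1 h1.symm with h | h
    · exact absurd h hne
    · exact h

end Cfsg.Agent.S0900
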