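import Cfsg.Statements.S0220
import Mathlib.GroupTheory.Nilpotent
import Mathlib.GroupTheory.SpecificGroups.Cyclic
import Cfsg.Agent.S0219
set_option linter.all false

set_option autoImplicit false
open Cfsg

namespace Cfsg.Agent.S0220

/-- A finite cyclic group has at most one involution. -/
theorem unique_involution {A : Type*} [Group A] [Finite A] [IsCyclic A] {a b : A}
    (ha : orderOf a = 2) (hb : orderOf b = 2) : a = b := by
  classical
  have := Fintype.ofFinite A
  have h2 : 2 ∣ Fintype.card A := by
    rw [← ha, ← Nat.card_eq_fintype_card]; exact orderOf_dvd_natCard a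
  have h := IsCyclic.card_orderOf_eq_totient (α := A) h2
  have h1 : Finset.card {c : A | orderOf c = 2} = 1 := by rw [h]; rfl
  rw [Finset.card_eq_one] at h1
  obtain ⟨c, hc⟩ := h1
  have ha' : a ∈ ({c : A | orderOf c = 2} : Finset A) := by simpa using ha
  have hb' : b ∈ ({c : A | orderOf c = 2} : Finset A) := by simpa using hb
  rw [hc, Finset.mem_singleton] at ha' hb'
  rw [ha', hb']

/-- If a Sylow 2-subgroup of the centralizer of an involution `x` is cyclic, then it is a Sylow
2-subgroup of the group. -/
theorem exists_cyclic_sylow {G : Type*} [Group G] [Finite G] (x : G) (hx : orderOf x = 2)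
    (C : Subgroup G) (hC : C = Subgroup.centralizer ({x} : Set G))
    (S : Sylow 2 C) (hS : IsCyclic (S : Subgroup C)) :
    ∃ T : Sylow 2 G, (T : Subgroup G) = (S : Subgroup C).map C.subtype := by
  set S' : Subgroup G := (S : Subgroup C).map C.subtype with hS'
  have hSp : IsPGroup 2 S' := S.isPGroup'.map _
  obtain ⟨T, hT⟩ := hSp.exists_le_sylow
  refine ⟨T, ?_⟩
  -- `S' = T ⊓ C`
  have hTC : ∀ g ∈ T, g ∈ C → g ∈ S' := by
    intro g hgT hgC
    have hp : IsPGroup 2 ((T : Subgroup G).comap C.subtype) := T.isPGroup'.comap_subtype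
    have hle : (S : Subgroup C) ≤ (T : Subgroup G).comap C.subtype := by
      intro c hc
      exact hT ⟨c, hc, rfl⟩
    have heq := S.is_maximal' hp hle
    have hmem : (⟨g, hgC⟩ : C) ∈ (T : Subgroup G).comap C.subtype := hgT
    rw [heq] at hmem
    exact ⟨⟨g, hgC⟩, hmem, rfl⟩
  -- `x ∈ S'`
  have hxC : x ∈ C := by
    rw [hC, Subgroup.mem_centralizer_singleton_iff]
  have hxS : x ∈ S' := by
    have hc : (⟨x, hxC⟩ : C) ∈ (S : Subgroup C) := by
      have hp : IsPGroup 2 (Subgroup.zpowers (⟨x, hxC⟩ : C)) := by
        refine IsPGroup.of_card (n := 1) ?_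
        rw [Nat.card_zpowers, Subgroup.orderOf_mk, hx, pow_one]
      have hn : (Subgroup.zpowers (⟨x, hxC⟩ : C)).Normal := by
        refine ⟨?_⟩
        rintro _ ⟨k, rfl⟩ g
        refine ⟨k, ?_⟩
        have hg : (⟨x, hxC⟩ : C) * g = g * ⟨x, hxC⟩ := by
          apply Subtype.ext
          have hgC : (g : G) ∈ Subgroup.centralizer ({x} : Set G) := hC ▸ g.2
          exact (Subgroup.mem_centralizer_singleton_iff.1 hgC).symm
        have hg' : Commute g (⟨x, hxC⟩ : C) := hg.symm
        have := (hg'.zpow_right k).eq
        change (⟨x, hxC⟩ : C) ^ k = g * (⟨x, hxC⟩ : C) ^ k * g⁻¹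
        rw [this, mul_assoc, mul_inv_cancel, mul_one]
      exact hp.le_sylow_of_normal S (Subgroup.mem_zpowers _)
    exact ⟨_, hc, rfl⟩
  have hcyc : IsCyclic S' := by
    have e := (S : Subgroup C).equivMapOfInjective C.subtype C.subtype_injective
    exact isCyclic_of_surjective e e.surjective
  -- normalizer condition in `T`
  have hT2 : IsPGroup 2 T := T.isPGroup'
  have hnil : Group.IsNilpotent T := hT2.isNilpotent
  have hnc : NormalizerCondition T := Group.normalizerCondition_of_isNilpotent
  have key : (S'.subgroupOf (T : Subgroup G)) = ⊤ := by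
    rw [normalizerCondition_iff_only_full_group_self_normalizing] at hnc
    apply hnc
    apply le_antisymm _ Subgroup.le_normalizer
    intro g hg
    rw [Subgroup.mem_subgroupOf]
    apply hTC _ g.2
    have hxT : x ∈ (T : Subgroup G) := hT hxS
    have h1 : (⟨x, hxT⟩ : T) ∈ S'.subgroupOf (T : Subgroup G) := by
      rw [Subgroup.mem_subgroupOf]; exact hxS
    have h2 := (Subgroup.mem_normalizer_iff.1 hg _).1 h1
    rw [Subgroup.mem_subgroupOf] at h2
    have h3 : (g : G) * x * (g : G)⁻¹ ∈ S' := h2
    have h4 : orderOf ((g : G) * x * (g : G)⁻¹) = 2 :=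
      (orderOf_injective (MulAut.conj (g : G)).toMonoidHom (MulAut.conj (g : G)).injective x).trans
        hx
    have h5 : (⟨_, h3⟩ : S') = ⟨x, hxS⟩ := by
      apply unique_involution
      · rw [Subgroup.orderOf_mk]; exact h4
      · rw [Subgroup.orderOf_mk]; exact hx
    have h6 : (g : G) * x * (g : G)⁻¹ = x := congrArg Subtype.val h5
    rw [hC, Subgroup.mem_centralizer_singleton_iff]
    exact mul_inv_eq_iff_eq_mul.1 h6
  rw [Subgroup.subgroupOf_eq_top] at key
  exact le_antisymm key hT

/-- If x is an involution of a finite group G and a Sylow 2-subgroup of the centralizer of x is cyclic, then G has a subgroup of index 2; in particular G is not simple unless it has order 2. -/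
theorem result {G : Type*} [Group G] [Finite G] (x : G) (hx : orderOf x = 2) (S : Sylow 2 ↥(Subgroup.centralizer ({x} : Set G))) (hS : IsCyclic (S : Subgroup ↥(Subgroup.centralizer ({x} : Set G)))) : ∃ H : Subgroup G, H.index = 2 := by
  obtain ⟨T, hT⟩ := exists_cyclic_sylow x hx _ rfl S hS
  have heven : Even (Nat.card G) := by
    rw [even_iff_two_dvd, ← hx]; exact orderOf_dvd_natCard x
  refine Cfsg.Agent.S0219.result heven T ?_
  rw [hT]
  have e := (S : Subgroup (Subgroup.centralizer ({x} : Set G))).equivMapOfInjective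
    (Subgroup.centralizer ({x} : Set G)).subtype (Subgroup.subtype_injective _)
  exact isCyclic_of_surjective e e.surjective

end Cfsg.Agent.S0220
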