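import Cfsg.Statements.S2446
import Cfsg.Agent.H98.Ore.Main
import Cfsg.Agent.H950.UHerm
set_option linter.all false

set_option autoImplicit false
open Cfsg

namespace Cfsg.Agent.S2446

/-- In the special unitary group SU(n,q), n ≥ 3, realised over the field F with q² elements as the determinant-one isometries of the standard Hermitian form, and with (n,q) ≠ (3,2), every element is a commutator a·b·a⁻¹·b⁻¹ of two elements of SU(n,q). -/
theorem result {F : Type*} [Field F] [Fintype F] (n q : ℕ) (hn : 3 ≤ n) (hF : Fintype.card F = q ^ 2) (hex : ¬ (n = 3 ∧ q = 2)) :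
    ∀ g : Cfsg.SU n F q, ∃ a b : Cfsg.SU n F q, g = a * b * a⁻¹ * b⁻¹ := by
  intro g
  have hB : Cfsg.Agent.H98.Ore.HS q (Cfsg.Agent.H950.cj hF) (Cfsg.hermForm n F q) :=
    ⟨hF, Cfsg.Agent.H950.cj_apply hF, Cfsg.Agent.H950.frm_herm hF n,
      fun u hu => Cfsg.Agent.LieClassical.HermBasic.herm_nondeg hF hu⟩
  have hfr : Module.finrank F (Fin n → F) = n := Module.finrank_fin_fun F
  have hdet : ∀ x : Matrix.SpecialLinearGroup (Fin n) F,
      LinearMap.det (Matrix.toLin' (x : Matrix (Fin n) (Fin n) F)) = 1 := by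
    intro x
    rw [LinearMap.det_toLin']
    exact x.2
  obtain ⟨z, h, hz, hh, hzd, hhd, heq⟩ := Cfsg.Agent.H98.Ore.comm_all hB (by rw [hfr]; exact hn)
    (by rw [hfr]; exact hex) (Cfsg.Agent.H950.isom_of_SU g.2) (hdet g.1)
  have hmk : ∀ x : Module.End F (Fin n → F), Cfsg.Agent.H951.Isom (Cfsg.hermForm n F q) x → LinearMap.det x = 1 →
      ∃ y : Cfsg.SU n F q, Matrix.toLin' ((y : Matrix.SpecialLinearGroup (Fin n) F) : Matrix (Fin n) (Fin n) F) = x := by
    intro x hx hxd
    let y₀ : Matrix.SpecialLinearGroup (Fin n) F := ⟨LinearMap.toMatrix' x, by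
      rw [LinearMap.det_toMatrix', hxd]⟩
    have h1 : Matrix.toLin' (y₀ : Matrix (Fin n) (Fin n) F) = x := Matrix.toLin'_toMatrix' x
    exact ⟨⟨y₀, Cfsg.Agent.H950.mem_SU_of_isom (by rw [h1]; exact hx)⟩, h1⟩
  obtain ⟨a, ha⟩ := hmk h hh hhd
  obtain ⟨b, hb⟩ := hmk z hz hzd
  refine ⟨a, b, ?_⟩
  have hmul : g * (b * a) = a * b := by
    apply Subtype.ext
    apply Subtype.ext
    apply Matrix.toLin'.injective
    have e1 : ∀ x y : Cfsg.SU n F q, Matrix.toLin' (((x * y : Cfsg.SU n F q) : Matrix.SpecialLinearGroup (Fin n) F) :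
        Matrix (Fin n) (Fin n) F) = Matrix.toLin' ((x : Matrix.SpecialLinearGroup (Fin n) F) : Matrix (Fin n) (Fin n) F) *
          Matrix.toLin' ((y : Matrix.SpecialLinearGroup (Fin n) F) : Matrix (Fin n) (Fin n) F) := by
      intro x y
      rw [Module.End.mul_eq_comp, ← Matrix.toLin'_mul]
      rfl
    have e2 := e1 g (b * a)
    have e3 := e1 b a
    have e4 := e1 a b
    refine e2.trans (Eq.trans ?_ e4.symm)
    rw [e3, ha, hb]
    exact heq
  calc g = g * (b * a) * (b * a)⁻¹ := by group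
    _ = a * b * (b * a)⁻¹ := by rw [hmul]
    _ = a * b * a⁻¹ * b⁻¹ := by group

end Cfsg.Agent.S2446
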