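import Cfsg.Statements.S4871
import Cfsg.Agent.H692.RealOver
import Cfsg.Agent.H692.Cliff
import Cfsg.Agent.Characters.Linear
set_option linter.all false

set_option autoImplicit false
open Cfsg

namespace Cfsg.Agent.S4871

open Cfsg.Agent.Characters.Core Cfsg.Agent.Characters.Clifford Cfsg.Agent.H692.SqRoot
open Cfsg.Agent.H692.RealOver
open scoped ComplexConjugate

/-- The number of irreducible constituents of the restriction is at most the degree. -/
theorem card_le_degree {G : Type*} [Group G] [Fintype G] (P : Subgroup G) [Fintype P] {χ : G → ℂ}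
    (hχ : IsIrrCharacter G χ) (F : Finset (IrrCharacter P))
    (hF : ∀ ψ ∈ F, classInner (fun x : P => χ x) (ψ : P → ℂ) ≠ 0) : F.card ≤ charDegree χ := by
  classical
  have hfin : Finite (IrrCharacter P) := finite_irr
  have hft : Fintype (IrrCharacter P) := Fintype.ofFinite _
  obtain ⟨c, hc1, hc2⟩ := Cfsg.Agent.CharDeep.CliffordCorr.exists_nat_coeffs
    (isCharacter_restrict P (isIrr_isCharacter hχ))
  have h1 := congrFun hc1 1
  simp only [Finset.sum_apply, Pi.smul_apply, smul_eq_mul, OneMemClass.coe_one] at h1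
  rw [(charDegree_spec hχ).1] at h1
  have h2 : (charDegree χ : ℂ) =
      ((∑ ψ : IrrCharacter P, c ψ * charDegree (ψ : P → ℂ) : ℕ) : ℂ) := by
    rw [h1]
    push_cast
    refine Finset.sum_congr rfl fun ψ _ => ?_
    rw [(charDegree_spec ψ.2).1]
  have h3 : charDegree χ = ∑ ψ : IrrCharacter P, c ψ * charDegree (ψ : P → ℂ) := by
    exact_mod_cast h2
  rw [h3, Finset.card_eq_sum_ones]
  refine (Finset.sum_le_sum fun ψ hψ => ?_).trans
    (Finset.sum_le_sum_of_subset (Finset.subset_univ F))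
  have h4 := hF ψ hψ
  rw [hc2] at h4
  have h5 : c ψ ≠ 0 := by exact_mod_cast h4
  exact Nat.succ_le_of_lt (Nat.mul_pos (Nat.pos_of_ne_zero h5) (charDegree_spec ψ.2).2)

/-- Let G be a finite group that is the semidirect product of a normal elementary abelian subgroup N of odd order by a non-trivial 2-subgroup P, with N the unique minimal normal subgroup of G. Consider the strongly real irreducible complex characters of G (Frobenius–Schur indicator +1) whose degree is 1 or even. Then their average degree is at least 4/3: four times their number is at most three times the sum of their degrees. -/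
theorem result {G : Type*} [Group G] [Finite G] (N P : Subgroup G) (hN : N.Normal) (q : ℕ) [Fact q.Prime] (hq : q ≠ 2) (hNel : Cfsg.IsElementaryAbelian q N) (hP : IsPGroup 2 ↥P) (hP1 : P ≠ ⊥) (hdisj : N ⊓ P = ⊥) (hprod : N ⊔ P = ⊤) (hmin : N ≠ ⊥ ∧ ∀ M : Subgroup G, M.Normal → M ≠ ⊥ → N ≤ M) : 4 * Nat.card {χ : Cfsg.IrrCharacter G // (Cfsg.charDegree (χ : G → ℂ) = 1 ∨ 2 ∣ Cfsg.charDegree (χ : G → ℂ)) ∧ (Nat.card G : ℂ)⁻¹ * ∑ᶠ g : G, (χ : G → ℂ) (g * g) = 1} ≤ 3 * (∑ᶠ χ : {χ : Cfsg.IrrCharacter G // (Cfsg.charDegree (χ : G → ℂ) = 1 ∨ 2 ∣ Cfsg.charDegree (χ : G → ℂ)) ∧ (Nat.card G : ℂ)⁻¹ * ∑ᶠ g : G, (χ : G → ℂ) (g * g) = 1}, Cfsg.charDegree (χ.1 : G → ℂ)) := by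
  classical
  have hG := Fintype.ofFinite G
  have hNf := Fintype.ofFinite N
  have hPf := Fintype.ofFinite P
  have hq1 : q.Prime := Fact.out
  obtain ⟨hNc, hNq⟩ := hNel
  have hcommN : ∀ a ∈ N, ∀ b ∈ N, a * b = b * a := fun a ha b hb => by
    have := hNc.is_comm.comm (⟨a, ha⟩ : N) ⟨b, hb⟩
    exact congrArg Subtype.val this
  -- `N` has odd order
  have hNp : IsPGroup q N := fun x => ⟨1, by
    ext
    rw [pow_one]
    exact hNq x x.2⟩
  obtain ⟨k, hk⟩ := hNp.exists_card_eq
  have hoddN : Odd (Nat.card N) := by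
    rw [hk]
    exact (hq1.odd_of_ne_two hq).pow
  have hmul : ∀ g : G, ∃ n ∈ N, ∃ x ∈ P, n * x = g := fun g =>
    Subgroup.mem_sup_of_normal_left.1 (by rw [hprod]; trivial)
  -- `P` is a Sylow subgroup
  have hcompl : Subgroup.IsComplement' N P := by
    refine Subgroup.isComplement'_of_disjoint_and_mul_eq_univ (disjoint_iff.2 hdisj) ?_
    rw [← Subgroup.normal_mul, hprod]
    rfl
  have hPidx : P.index = Nat.card N := hcompl.index_eq_card
  have hNidx : N.index = Nat.card P := hcompl.symm.index_eq_card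
  have h2P : ¬ 2 ∣ P.index := by
    rw [hPidx]
    exact fun h => (Nat.not_even_iff_odd.2 hoddN) (even_iff_two_dvd.2 h)
  let S : Sylow 2 G := hP.toSylow h2P
  have hS : (S : Subgroup G) = P := rfl
  -- a central involution of `P`
  have hPnt : Nontrivial P := (Subgroup.nontrivial_iff_ne_bot P).2 hP1
  have hcent : Nontrivial (Subgroup.center P) := hP.center_nontrivial
  obtain ⟨j, hj⟩ := (hP.to_subgroup (Subgroup.center P)).exists_card_eq
  have h2c : 2 ∣ Nat.card (Subgroup.center P) := by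
    rw [hj]
    refine dvd_pow_self 2 ?_
    rintro rfl
    rw [pow_zero] at hj
    exact (Finite.one_lt_card_iff_nontrivial.2 hcent).ne' hj
  obtain ⟨z0, hz0⟩ := exists_prime_orderOf_dvd_card' 2 h2c
  set z : G := ((z0 : P) : G) with hz
  have hzo : orderOf z = 2 := by
    rw [hz, Subgroup.orderOf_coe, Subgroup.orderOf_coe, hz0]
  have hzP : z ∈ P := (z0 : P).2
  have hzc : ∀ x ∈ P, x * z = z * x := by
    intro x hx
    have := Subgroup.mem_center_iff.1 z0.2 ⟨x, hx⟩
    exact congrArg Subtype.val this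
  have hzz : z * z = 1 := by
    rw [← sq, ← hzo, pow_orderOf_eq_one]
  have hz1 : z ≠ 1 := by
    intro h
    rw [h, orderOf_one] at hzo
    norm_num at hzo
  -- `z` inverts `N`
  have hCbot : ∀ n ∈ N, z * n = n * z → n = 1 := by
    set C : Subgroup G := N ⊓ Subgroup.centralizer ({z} : Set G) with hC
    have hCn : C.Normal := by
      refine ⟨fun c hc g => ?_⟩
      obtain ⟨hcN, hcz⟩ := hc
      have hcz' : c * z = z * c := Subgroup.mem_centralizer_singleton_iff.1 hcz
      obtain ⟨n, hn, x, hx, rfl⟩ := hmul g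
      refine ⟨hN.conj_mem c hcN _, ?_⟩
      have hxc : x * c * x⁻¹ ∈ N := hN.conj_mem c hcN x
      have e1 : n * x * c * (n * x)⁻¹ = x * c * x⁻¹ := by
        have : n * x * c * (n * x)⁻¹ = n * (x * c * x⁻¹) * n⁻¹ := by group
        rw [this, hcommN n hn _ hxc, mul_inv_cancel_right]
      rw [e1]
      show x * c * x⁻¹ ∈ Subgroup.centralizer ({z} : Set G)
      rw [Subgroup.mem_centralizer_singleton_iff]
      have h1 := hzc x hx
      have h2 := hzc x⁻¹ (P.inv_mem hx)
      calc x * c * x⁻¹ * z = x * c * (x⁻¹ * z) := by group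
        _ = x * (c * z) * x⁻¹ := by rw [h2]; group
        _ = (x * z) * c * x⁻¹ := by rw [hcz']; group
        _ = z * (x * c * x⁻¹) := by rw [h1]; group
    intro n hn hnz
    by_contra hne
    have hCne : C ≠ ⊥ := by
      intro h
      have : n ∈ C := ⟨hn, Subgroup.mem_centralizer_singleton_iff.2 hnz.symm⟩
      rw [h, Subgroup.mem_bot] at this
      exact hne this
    have hNC := hmin.2 C hCn hCne
    -- `z` is central
    have hzcen : z ∈ Subgroup.center G := by
      rw [Subgroup.mem_center_iff]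
      intro g
      obtain ⟨m, hm, x, hx, rfl⟩ := hmul g
      have h1 : m * z = z * m := Subgroup.mem_centralizer_singleton_iff.1 (hNC hm).2
      rw [mul_assoc, hzc x hx, ← mul_assoc, h1, mul_assoc]
    have hzn : (Subgroup.zpowers z).Normal := by
      refine ⟨fun c hc g => ?_⟩
      obtain ⟨i, rfl⟩ := Subgroup.mem_zpowers_iff.1 hc
      have : z ^ i ∈ Subgroup.center G := Subgroup.zpow_mem _ hzcen i
      rw [(Subgroup.mem_center_iff.1 this g), mul_inv_cancel_right]
      exact hc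
    have hle := hmin.2 (Subgroup.zpowers z) hzn (by
      rw [Ne, Subgroup.zpowers_eq_bot]; exact hz1)
    have hdvd : Nat.card N ∣ 2 := by
      have := Subgroup.card_dvd_of_le hle
      rwa [Nat.card_zpowers, hzo] at this
    have hcard1 : Nat.card N = 1 := by
      rcases (Nat.dvd_prime Nat.prime_two).1 hdvd with h | h
      · exact h
      · rw [h] at hoddN
        exact absurd hoddN (by decide)
    exact hmin.1 (Subgroup.card_eq_one.1 hcard1)
  have hzinv : ∀ n ∈ N, z * n * z⁻¹ = n⁻¹ := by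
    intro n hn
    have hzi : z⁻¹ = z := inv_eq_of_mul_eq_one_left hzz
    have hzn : z * n * z⁻¹ ∈ N := hN.conj_mem n hn z
    have h1 : n * (z * n * z⁻¹) = 1 := by
      refine hCbot _ (N.mul_mem hn hzn) ?_
      rw [hzi] at hzn ⊢
      have h2 := hcommN _ hn _ hzn
      calc z * (n * (z * n * z)) = (z * n * z) * (n * z) := by group
        _ = ((z * n * z) * n) * z := by group
        _ = (n * (z * n * z)) * z := by rw [h2]
    exact (inv_eq_of_mul_eq_one_right h1).symm
  -- a nontrivial linear character of `N`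
  have hNnt : ∃ n0 : N, n0 ≠ 1 := by
    by_contra hcon
    push Not at hcon
    apply hmin.1
    rw [Subgroup.eq_bot_iff_forall]
    intro x hx
    exact congrArg Subtype.val (hcon ⟨x, hx⟩)
  obtain ⟨n0, hn0⟩ := hNnt
  obtain ⟨f, hf⟩ : ∃ f : N →* ℂˣ, f n0 ≠ 1 := by
    let _ : CommGroup N := { (inferInstance : Group N) with
      mul_comm := hNc.is_comm.comm }
    have : HasEnoughRootsOfUnity ℂ (Monoid.exponent N) := by
      have : NeZero ((Monoid.exponent N : ℕ) : ℂ) := by
        refine ⟨?_⟩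
        exact_mod_cast Monoid.exponent_ne_zero_of_finite
      infer_instance
    exact CommGroup.exists_apply_ne_one_of_hasEnoughRootsOfUnity N ℂ hn0
  set φ : N → ℂ := fun n => (f n : ℂ) with hφ
  have hφi : IsIrrCharacter N φ := Cfsg.Agent.Characters.Linear.isIrrCharacter_hom f
  have hφdeg : charDegree φ = 1 := charDegree_eq_of (by simp [hφ])
  have hdef : 2 ^ (Nat.card N).factorization 2 ∣ charDegree φ := by
    rw [Nat.factorization_eq_zero_of_not_dvd (fun h => (Nat.not_even_iff_odd.2 hoddN)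
      (even_iff_two_dvd.2 h)), pow_zero]
    exact one_dvd _
  have hφz : ∀ n : N, φ (MulAut.conjNormal z n) = conj (φ n) := by
    intro n
    have h1 : (MulAut.conjNormal z n : N) = n⁻¹ := by
      ext
      rw [MulAut.conjNormal_apply, hzinv n n.2]
      rfl
    rw [h1, isCharacter_apply_inv (isIrr_isCharacter hφi)]
  let hSfin : Fintype (S : Subgroup G) := hPf
  obtain ⟨χ, hχr, hχ1, ⟨e, heo, he⟩, ⟨a, hao, ha⟩⟩ := exists_real_over N S hφi hdef ⟨z, hφz⟩
  have he0 : e ≠ 0 := by
    rintro rfl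
    exact (Nat.not_odd_zero) heo
  have ha0 : a ≠ 0 := by
    rintro rfl
    exact (Nat.not_odd_zero) hao
  -- the degree of `χ` is even
  obtain ⟨hdeg, -⟩ := Cfsg.Agent.H692.Cliff.degree_formula_nat N hφi χ.2 he0 he
  have hTne : (Cfsg.Agent.H692.Cliff.stab N φ) ≠ ⊤ := by
    intro h
    have hzT : z ∈ Cfsg.Agent.H692.Cliff.stab N φ := by rw [h]; trivial
    have h1 : φ (MulAut.conjNormal z n0) = φ n0 := Cfsg.Agent.H692.Cliff.mem_stab'.1 hzT n0
    have h2 : (MulAut.conjNormal z n0 : N) = n0⁻¹ := by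
      ext
      rw [MulAut.conjNormal_apply, hzinv n0 n0.2]
      rfl
    rw [h2] at h1
    have h3 : f n0⁻¹ = f n0 := Units.ext h1
    have h4 : (f n0) ^ 2 = 1 := by
      rw [map_inv] at h3
      rw [sq]
      nth_rewrite 1 [← h3]
      exact inv_mul_cancel _
    have h5 : (f n0) ^ (Nat.card N) = 1 := by
      rw [← map_pow, pow_card_eq_one', map_one]
    apply hf
    have h6 : orderOf (f n0) ∣ 2 := orderOf_dvd_of_pow_eq_one h4
    have h7 : orderOf (f n0) ∣ Nat.card N := orderOf_dvd_of_pow_eq_one h5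
    have h8 : orderOf (f n0) ∣ 1 := by
      rw [← (Nat.coprime_two_left.2 hoddN : Nat.gcd 2 (Nat.card N) = 1)]
      exact Nat.dvd_gcd h6 h7
    exact orderOf_eq_one_iff.1 (Nat.dvd_one.1 h8)
  have heven : 2 ∣ charDegree (χ : G → ℂ) := by
    have hNT : N ≤ Cfsg.Agent.H692.Cliff.stab N φ :=
      Cfsg.Agent.H692.Cliff.le_stab (isIrr_isClassFunction hφi)
    have h1 : (Cfsg.Agent.H692.Cliff.stab N φ).index ∣ N.index := Subgroup.index_dvd_of_le hNT
    obtain ⟨i, hi⟩ := hP.exists_card_eq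
    rw [hNidx, hi] at h1
    obtain ⟨m, _, hm⟩ := (Nat.dvd_prime_pow Nat.prime_two).1 h1
    have hm0 : m ≠ 0 := by
      rintro rfl
      rw [pow_zero] at hm
      exact hTne (Subgroup.index_eq_one.1 hm)
    rw [hdeg, hm, mul_assoc]
    exact (dvd_pow_self 2 hm0).trans (Dvd.intro _ rfl)
  -- notation for the condition
  have hnu : ∀ ψ : IrrCharacter G, (Nat.card G : ℂ)⁻¹ * ∑ᶠ g : G, (ψ : G → ℂ) (g * g) =
      nu (ψ : G → ℂ) := fun ψ => by
    rw [finsum_eq_sum_of_fintype]
    rfl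
  have hfin : Finite (IrrCharacter G) := finite_irr
  have hft : Fintype (IrrCharacter G) := Fintype.ofFinite _
  set X1 : Finset (IrrCharacter G) := Finset.univ.filter
    (fun ψ => charDegree (ψ : G → ℂ) = 1 ∧ nu (ψ : G → ℂ) = 1) with hX1
  set E : Finset (IrrCharacter G) := Finset.univ.filter
    (fun ψ => 2 ∣ charDegree (ψ : G → ℂ) ∧ nu (ψ : G → ℂ) = 1) with hE
  -- structure of the members of `X1`
  have hlin : ∀ μ ∈ X1, ∃ l : G →* ℂˣ, (μ : G → ℂ) = (fun g => (l g : ℂ)) ∧
      (∀ g, (l g : ℂ) * (l g : ℂ) = 1) ∧ ∀ n ∈ N, l n = 1 := by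
    intro μ hμ
    obtain ⟨-, hμ1, hμ2⟩ := Finset.mem_filter.1 hμ
    obtain ⟨l, hl⟩ := Cfsg.Agent.Characters.Linear.exists_hom_of_isIrrCharacter μ.2 (by
      rw [(charDegree_spec μ.2).1, hμ1, Nat.cast_one])
    have hreal : ∀ g, ((μ : G → ℂ) g).im = 0 := by
      rcases nu_spec μ.2 with h | h
      · rw [hμ2] at h
        exact absurd h.1 one_ne_zero
      · exact h.2
    have hsq : ∀ g, (l g : ℂ) * (l g : ℂ) = 1 := by
      intro g
      have h1 : ‖(l g : ℂ)‖ = 1 := Cfsg.Agent.Characters.Linear.norm_hom_apply l g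
      have h2 : conj (l g : ℂ) = (l g : ℂ) := by
        apply Complex.conj_eq_iff_im.2
        have := hreal g
        rwa [hl] at this
      have h3 := Complex.mul_conj (l g : ℂ)
      rw [h2, Complex.normSq_eq_norm_sq, h1] at h3
      rw [h3]
      norm_num
    refine ⟨l, hl, hsq, fun n hn => ?_⟩
    have h4 : (l n) ^ 2 = 1 := by
      apply Units.ext
      rw [sq]
      push_cast
      exact hsq n
    have h5 : (l n) ^ (Nat.card N) = 1 := by
      rw [← map_pow]
      have : n ^ Nat.card N = 1 := by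
        have := pow_card_eq_one' (x := (⟨n, hn⟩ : N))
        exact congrArg Subtype.val this
      rw [this, map_one]
    have h8 : orderOf (l n) ∣ 1 := by
      rw [← (Nat.coprime_two_left.2 hoddN : Nat.gcd 2 (Nat.card N) = 1)]
      exact Nat.dvd_gcd (orderOf_dvd_of_pow_eq_one h4) (orderOf_dvd_of_pow_eq_one h5)
    exact orderOf_eq_one_iff.1 (Nat.dvd_one.1 h8)
  -- multiplication with `χ`
  have hprodirr : ∀ μ ∈ X1, IsIrrCharacter G ((μ : G → ℂ) * (χ : G → ℂ)) := by
    intro μ hμ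
    obtain ⟨l, hl, hsq, -⟩ := hlin μ hμ
    rw [isIrr_iff_classInner_self (isCharacter_mul (isIrr_isCharacter μ.2)
      (isIrr_isCharacter χ.2))]
    rw [← classInner_irr_self χ.2]
    unfold classInner
    congr 1
    refine Finset.sum_congr rfl fun g _ => ?_
    simp only [Pi.mul_apply, map_mul, hl]
    have h1 : conj (l g : ℂ) = (l g : ℂ) := by
      have h2 : (l g : ℂ) = 1 ∨ (l g : ℂ) = -1 := mul_self_eq_one_iff.1 (hsq g)
      rcases h2 with h2 | h2 <;> rw [h2] <;> simp
    rw [h1]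
    linear_combination ((χ : G → ℂ) g * conj ((χ : G → ℂ) g)) * hsq g
  let F : IrrCharacter G → IrrCharacter G := fun μ =>
    if h : μ ∈ X1 then ⟨_, hprodirr μ h⟩ else χ
  have hF : ∀ μ ∈ X1, (F μ : G → ℂ) = (μ : G → ℂ) * (χ : G → ℂ) := by
    intro μ hμ
    simp only [F, dif_pos hμ]
  have hFE : ∀ μ ∈ X1, F μ ∈ E := by
    intro μ hμ
    obtain ⟨l, hl, hsq, -⟩ := hlin μ hμ
    refine Finset.mem_filter.2 ⟨Finset.mem_univ _, ?_, ?_⟩
    · have h1 : charDegree (F μ : G → ℂ) = charDegree (χ : G → ℂ) := by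
        apply charDegree_eq_of
        rw [hF μ hμ, Pi.mul_apply, hl, ← (charDegree_spec χ.2).1]
        simp
      rw [h1]
      exact heven
    · rw [hF μ hμ, ← hχ1]
      unfold nu
      congr 1
      refine Finset.sum_congr rfl fun s _ => ?_
      rw [Pi.mul_apply, hl]
      simp only [map_mul, Units.val_mul]
      rw [hsq s, one_mul]
  -- the fibres
  have hfib : ∀ ψ ∈ E, (X1.filter (fun μ => F μ = ψ)).card ≤ charDegree (ψ : G → ℂ) := by
    intro ψ _
    -- restriction to `P`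
    let R : IrrCharacter G → IrrCharacter P := fun μ =>
      if h : μ ∈ X1 then ⟨fun x : P => (μ : G → ℂ) x, by
        obtain ⟨l, hl, -, -⟩ := hlin μ h
        rw [hl]
        exact Cfsg.Agent.Characters.Linear.isIrrCharacter_hom (l.comp P.subtype)⟩
      else ⟨1, isIrr_one⟩
    have hR : ∀ μ ∈ X1, (R μ : P → ℂ) = fun x : P => (μ : G → ℂ) x := by
      intro μ hμ
      simp only [R, dif_pos hμ]
    have hinj : Set.InjOn R (X1.filter (fun μ => F μ = ψ)) := by
      intro μ hμ μ' hμ' h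
      have h1 : μ ∈ X1 := (Finset.mem_filter.1 hμ).1
      have h2 : μ' ∈ X1 := (Finset.mem_filter.1 hμ').1
      have h3 := congrArg Subtype.val h
      rw [hR μ h1, hR μ' h2] at h3
      obtain ⟨l, hl, -, hlN⟩ := hlin μ h1
      obtain ⟨l', hl', -, hlN'⟩ := hlin μ' h2
      apply Subtype.ext
      rw [hl, hl'] at h3 ⊢
      funext g
      obtain ⟨n, hn, x, hx, rfl⟩ := hmul g
      have h4 := congrFun h3 ⟨x, hx⟩
      simp only at h4
      rw [map_mul, map_mul, hlN n hn, hlN' n hn, one_mul, one_mul]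
      exact h4
    rw [← Finset.card_image_of_injOn hinj]
    refine card_le_degree P ψ.2 _ ?_
    intro η hη
    obtain ⟨μ, hμ, rfl⟩ := Finset.mem_image.1 hη
    obtain ⟨h1, h2⟩ := Finset.mem_filter.1 hμ
    obtain ⟨l, hl, hsq, -⟩ := hlin μ h1
    rw [hR μ h1, ← h2, hF μ h1]
    have h3 : classInner (fun x : P => ((μ : G → ℂ) * (χ : G → ℂ)) x)
        (fun x : P => (μ : G → ℂ) x) = a := by
      rw [← ha]
      have : classInner (fun x : P => ((μ : G → ℂ) * (χ : G → ℂ)) x)
          (fun x : P => (μ : G → ℂ) x) =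
          classInner (fun x : P => (χ : G → ℂ) x) (fun _ => (1 : ℂ)) := by
        unfold classInner
        congr 1
        refine Finset.sum_congr rfl fun x _ => ?_
        show ((μ : G → ℂ) * (χ : G → ℂ)) (x : G) * conj ((μ : G → ℂ) (x : G)) =
          (χ : G → ℂ) (x : G) * conj 1
        rw [Pi.mul_apply, hl, map_one, mul_one]
        have h4 : conj (l (x : G) : ℂ) = (l (x : G) : ℂ) := by
          rcases mul_self_eq_one_iff.1 (hsq (x : G)) with h2 | h2 <;> rw [h2] <;> simp
        rw [h4]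
        linear_combination ((χ : G → ℂ) x) * hsq (x : G)
      rw [this]
      rfl
    rw [h3]
    exact_mod_cast ha0
  have hX1E : X1.card ≤ ∑ ψ ∈ E, charDegree (ψ : G → ℂ) := by
    rw [Finset.card_eq_sum_card_fiberwise hFE]
    exact Finset.sum_le_sum hfib
  have hEE : 2 * E.card ≤ ∑ ψ ∈ E, charDegree (ψ : G → ℂ) := by
    rw [mul_comm, ← smul_eq_mul, ← Finset.sum_const]
    refine Finset.sum_le_sum fun ψ hψ => ?_
    obtain ⟨-, h1, -⟩ := Finset.mem_filter.1 hψ
    exact Nat.le_of_dvd (charDegree_spec ψ.2).2 h1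
  have hdisjXE : Disjoint X1 E := by
    rw [Finset.disjoint_left]
    intro ψ h1 h2
    obtain ⟨-, h3, -⟩ := Finset.mem_filter.1 h1
    obtain ⟨-, h4, -⟩ := Finset.mem_filter.1 h2
    rw [h3] at h4
    norm_num at h4
  have hset : ∀ ψ : IrrCharacter G, ((charDegree (ψ : G → ℂ) = 1 ∨ 2 ∣ charDegree (ψ : G → ℂ)) ∧
      (Nat.card G : ℂ)⁻¹ * ∑ᶠ g : G, (ψ : G → ℂ) (g * g) = 1) ↔ ψ ∈ X1 ∪ E := by
    intro ψ
    rw [hnu]
    simp only [hX1, hE, Finset.mem_union, Finset.mem_filter, Finset.mem_univ, true_and]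
    tauto
  have hcard : Nat.card {ψ : IrrCharacter G // (charDegree (ψ : G → ℂ) = 1 ∨
      2 ∣ charDegree (ψ : G → ℂ)) ∧ (Nat.card G : ℂ)⁻¹ * ∑ᶠ g : G, (ψ : G → ℂ) (g * g) = 1} =
      X1.card + E.card := by
    rw [← Finset.card_union_of_disjoint hdisjXE, Nat.card_congr (Equiv.subtypeEquivRight hset)]
    exact Nat.card_eq_fintype_card.trans (Fintype.card_coe (X1 ∪ E))
  have hsum : ∑ᶠ ψ : {ψ : IrrCharacter G // (charDegree (ψ : G → ℂ) = 1 ∨
      2 ∣ charDegree (ψ : G → ℂ)) ∧ (Nat.card G : ℂ)⁻¹ * ∑ᶠ g : G, (ψ : G → ℂ) (g * g) = 1},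
      charDegree (ψ.1 : G → ℂ) =
      ∑ ψ ∈ X1, charDegree (ψ : G → ℂ) + ∑ ψ ∈ E, charDegree (ψ : G → ℂ) := by
    rw [finsum_eq_sum_of_fintype, ← Finset.sum_union hdisjXE]
    rw [← Finset.sum_subtype (X1 ∪ E) (fun ψ => (hset ψ).symm)
      (fun ψ : IrrCharacter G => charDegree (ψ : G → ℂ))]
  have hX1s : ∑ ψ ∈ X1, charDegree (ψ : G → ℂ) = X1.card := by
    rw [Finset.card_eq_sum_ones]
    refine Finset.sum_congr rfl fun ψ hψ => ?_
    exact (Finset.mem_filter.1 hψ).2.1
  rw [hcard, hsum, hX1s]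
  omega

end Cfsg.Agent.S4871
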