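import Cfsg.Statements.S4730
import Cfsg.Agent.Blocks.Basic
import Cfsg.Agent.Blocks.Local
import Cfsg.Agent.Blocks.DefectCard
import Cfsg.Agent.S0138
import Cfsg.Agent.S0139
import Cfsg.Agent.S0142
set_option linter.all false

set_option autoImplicit false
open Cfsg

namespace Cfsg.Agent.S4730

open Cfsg.Agent.Blocks.Local

/-- Burnside: a faithful irreducible character of `p`-power degree of a group with trivial centre
vanishes at the non-identity elements of the centre of a Sylow `p`-subgroup. -/
theorem vanish {G : Type*} [Group G] [Finite G] (p : ℕ) [Fact p.Prime]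
    (hZ : Subgroup.center G = ⊥) (P : Sylow p G) (χ : G → ℂ) (hχ : IsIrrCharacter G χ)
    (hfaith : ∀ g : G, χ g = χ 1 → g = 1) (n : ℕ) (hdeg : charDegree χ = p ^ n)
    (z : G) (hzP : (P : Subgroup G) ≤ Subgroup.centralizer ({z} : Set G)) (hz1 : z ≠ 1) :
    χ z = 0 ∧ ¬ p ∣ (Subgroup.centralizer ({z} : Set G)).index := by
  have hp : p.Prime := Fact.out
  have hind : ¬ p ∣ (Subgroup.centralizer ({z} : Set G)).index := fun h =>
    P.not_dvd_index (h.trans (Subgroup.index_dvd_of_le hzP))
  refine ⟨?_, hind⟩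
  obtain ⟨m, ρ, hρ, rfl⟩ := hχ
  have hd := Cfsg.Agent.Blocks.Basic.irr_one_eq_charDegree (χ := ρ.character) ⟨m, ρ, hρ, rfl⟩
  have h1 : ρ.character 1 = (Module.finrank ℂ (Fin m → ℂ) : ℂ) := Representation.char_one ρ
  have hfin : Module.finrank ℂ (Fin m → ℂ) = p ^ n := by
    rw [h1, hdeg] at hd
    exact_mod_cast hd
  have hcop : Nat.Coprime (Module.finrank ℂ (Fin m → ℂ))
      (Subgroup.centralizer ({z} : Set G)).index := by
    rw [hfin]
    exact Nat.Coprime.pow_left n ((Nat.Prime.coprime_iff_not_dvd hp).2 hind)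
  rcases Cfsg.Agent.S0142.result ρ z hcop with h | h
  · exact h
  · exfalso
    obtain ⟨ω, hω⟩ := (Cfsg.Agent.S0138.result ρ z).1 h
    apply hz1
    have hzc : z ∈ Subgroup.center G := by
      rw [Subgroup.mem_center_iff]
      intro g
      have hcomm : ρ (g * z) = ρ (z * g) := by
        rw [map_mul, map_mul, hω]
        ext v
        simp
      have h2 : ρ ((z * g)⁻¹ * (g * z)) = LinearMap.id := by
        rw [map_mul, hcomm, ← map_mul, inv_mul_cancel, map_one]
        rfl
      have h3 := (Cfsg.Agent.S0139.result ρ ((z * g)⁻¹ * (g * z))).2 h2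
      have h4 := hfaith _ (h3.trans h1.symm)
      exact (inv_mul_eq_one.1 h4).symm
    rw [hZ, Subgroup.mem_bot] at hzc
    exact hzc

/-- Let p be a prime, M a maximal ideal of the algebraic integers containing p, and G a finite group with trivial centre, Sylow p-subgroup P of order p^a and centre Z(P) of order p^b. If χ is a faithful irreducible character of G whose degree is a power of p, then the p-block of χ has defect at most a − b; in particular, if P is abelian then χ lies in a block of defect zero. -/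
theorem result {G : Type*} [Group G] [Finite G] (p : ℕ) [Fact p.Prime] (M : Ideal Cfsg.AlgInt) (hM : Cfsg.IsPModular p M) (hZ : Subgroup.center G = ⊥) (P : Sylow p G) (a b : ℕ) (ha : Nat.card P = p ^ a) (hb : Nat.card (Subgroup.center ↥(P : Subgroup G)) = p ^ b) (χ : Cfsg.IrrCharacter G) (hfaith : ∀ g : G, (χ : G → ℂ) g = (χ : G → ℂ) 1 → g = 1) (n : ℕ) (hdeg : Cfsg.charDegree (χ : G → ℂ) = p ^ n) : Cfsg.blockDefect p (Cfsg.blockOf M (χ : G → ℂ)) ≤ a - b ∧ (IsMulCommutative ↥(P : Subgroup G) → Cfsg.blockDefect p (Cfsg.blockOf M (χ : G → ℂ)) = 0) := by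
  classical
  have hMp : M.IsPrime := hM.2.1.isPrime
  have hp : p.Prime := Fact.out
  -- the centre of `P`
  set Z : Subgroup P := Subgroup.center ↥(P : Subgroup G) with hZdef
  have hzP : ∀ z : Z, (P : Subgroup G) ≤ Subgroup.centralizer ({((z : P) : G)} : Set G) := by
    intro z x hx
    rw [Subgroup.mem_centralizer_singleton_iff]
    have := (Subgroup.mem_center_iff.1 z.2) ⟨x, hx⟩
    exact congrArg Subtype.val this
  have hkey : ∀ ψ ∈ blockOf M (χ : G → ℂ), b ≤ (charDegree (ψ : G → ℂ)).factorization p := by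
    intro ψ hψ
    have hψ1 := Cfsg.Agent.Blocks.Basic.irr_one_eq_charDegree ψ.2
    have hψpos := Cfsg.Agent.Blocks.Basic.charDegree_pos ψ.2
    have hψ0 := Cfsg.Agent.Blocks.Basic.irr_one_ne_zero ψ.2
    -- the value at a nonidentity element of `Z`
    have hval : ∀ z : Z, z ≠ 1 → MemLocalIdeal M ((ψ : G → ℂ) ((z : P) : G) / (ψ : G → ℂ) 1) := by
      intro z hz
      have hz1 : ((z : P) : G) ≠ 1 := by
        intro h
        apply hz
        ext
        exact h
      obtain ⟨hv, hind⟩ := vanish p hZ P (χ : G → ℂ) χ.2 hfaith n hdeg ((z : P) : G) (hzP z) hz1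
      have h1 : centralChar (χ : G → ℂ) ((z : P) : G) = 0 := by
        rw [Cfsg.Agent.Blocks.Basic.centralChar_def, hv]
        simp
      have h2 := hψ ((z : P) : G)
      rw [h1, zero_sub, memLocalIdeal_neg_iff, Cfsg.Agent.Blocks.Basic.centralChar_def,
        mul_div_assoc] at h2
      have h3 := memLocalIdeal_mul_left (memLocalRing_inv_natCast hM hind) h2
      rwa [inv_mul_cancel_left₀] at h3
      exact_mod_cast Subgroup.index_ne_zero_of_finite
    -- the average over `Z`
    obtain ⟨k, hk⟩ : ∃ k : ℕ, ∑ᶠ z : Z, (ψ : G → ℂ) ((z : P) : G) = (Nat.card Z : ℂ) * k := by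
      obtain ⟨m, ρ, hρ, hρχ⟩ := ψ.2
      have := Fintype.ofFinite Z
      let σ : Representation ℂ Z (Fin m → ℂ) :=
        (ρ.comp (P : Subgroup G).subtype).comp Z.subtype
      have : Invertible (Nat.card Z : ℂ) := invertibleOfNonzero (by
        exact_mod_cast Nat.card_pos.ne')
      have h1 := Representation.card_inv_mul_sum_char_eq_finrank σ
      refine ⟨Module.finrank ℂ σ.invariants, ?_⟩
      have hP : (Nat.card Z : ℂ) ≠ 0 := by exact_mod_cast Nat.card_pos.ne'
      rw [← h1, mul_inv_cancel_left₀ hP, finsum_eq_sum_of_fintype]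
      refine Finset.sum_congr rfl fun z _ => ?_
      rw [← hρχ]
      rfl
    by_contra hlt
    push Not at hlt
    have := Fintype.ofFinite Z
    rw [finsum_eq_sum_of_fintype, ← Finset.add_sum_erase _ _ (Finset.mem_univ (1 : Z))] at hk
    set u : ℂ := ∑ z ∈ Finset.univ.erase (1 : Z), (ψ : G → ℂ) ((z : P) : G) / (ψ : G → ℂ) 1
      with hu
    have huI : MemLocalIdeal M u := by
      refine memLocalIdeal_sum fun z hz => hval z ?_
      exact Finset.ne_of_mem_erase hz
    have hcard : Nat.card Z = p ^ b := hb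
    have h1 : (ψ : G → ℂ) 1 * (1 + u) = (Nat.card Z : ℂ) * k := by
      rw [← hk, mul_add, mul_one, hu, Finset.mul_sum]
      congr 1
      refine Finset.sum_congr rfl fun z _ => ?_
      field_simp
    have h2 : MemLocalIdeal M ((Nat.card Z : ℂ) / (charDegree (ψ : G → ℂ) : ℂ)) := by
      apply Cfsg.Agent.Blocks.DefectCard.memLocalIdeal_natDiv hM hψpos.ne'
      rw [hcard, hp.factorization_pow]
      simpa using hlt
    have h3 : 1 + u = (Nat.card Z : ℂ) / (charDegree (ψ : G → ℂ) : ℂ) * k := by
      rw [← hψ1, div_mul_eq_mul_div, eq_div_iff hψ0, mul_comm, h1]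
    have h4 : MemLocalIdeal M (1 + u) := by
      rw [h3]
      exact memLocalIdeal_mul_right h2 (memLocalRing_natCast k)
    have h5 := memLocalIdeal_sub h4 huI
    rw [add_sub_cancel_right] at h5
    exact not_memLocalIdeal_one h5
  have hG : (Nat.card G).factorization p = a := by
    have h := Sylow.card_eq_multiplicity P
    rw [ha] at h
    exact (Nat.pow_right_injective hp.two_le h).symm
  have hmain : blockDefect p (blockOf M (χ : G → ℂ)) ≤ a - b := by
    rw [Cfsg.Agent.Blocks.Basic.blockDefect_def, hG]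
    apply Nat.sub_le_sub_left
    apply le_csInf
    · exact ⟨_, χ, Cfsg.Agent.Blocks.Basic.mem_blockOf_self χ, rfl⟩
    · rintro _ ⟨ψ, hψ, rfl⟩
      exact hkey ψ hψ
  refine ⟨hmain, fun hab => ?_⟩
  have hc : Z = ⊤ := by
    rw [hZdef, eq_top_iff]
    intro x _
    rw [Subgroup.mem_center_iff]
    intro g
    exact hab.is_comm.comm g x
  have hab' : a = b := by
    have h := hb
    have h1 : Nat.card Z = p ^ b := hb
    rw [hc] at h1
    have h2 : Nat.card (⊤ : Subgroup P) = Nat.card P := Nat.card_congr Subgroup.topEquiv.toEquiv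
    rw [h2, ha] at h1
    exact Nat.pow_right_injective hp.two_le h1
  omega

end Cfsg.Agent.S4730
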