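import Cfsg.Statements.S5872
import Cfsg.Agent.H114.O12.Final
import Cfsg.Agent.S0000
set_option linter.all false

set_option autoImplicit false
open Cfsg

namespace Cfsg.Agent.S5872

/-- The maximal subgroups of Ω_12^+(q) in the residual class. Let F be a finite field with q elements and characteristic p, Q a non-degenerate quadratic form on F^12 of plus type, Ω the commutator subgroup of its isometry group, and H a maximal subgroup of Ω lying in the residual class of the orthogonal case. Then the perfect socle preimage P of H satisfies one of: P modulo scalars is isomorphic to PSL_2(11), with q = p ≡ ±1, ±16, ±19, ±24 or ±26 mod 55; or to PSL_2(13), with q = p ≡ ±1 mod 7 and p ≡ ±1, ±3 or ±4 mod 13, or q = p³ with p ≡ ±3, ±4, ±9, ±10, ±12, ±16, ±17, ±23, ±25, ±30, ±38 or ±40 mod 91; or to PSL_3(3), with q = p ≡ ±1, ±3 or ±4 mod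 13, p ≠ 3, p ≡ ±1 mod 12 and the polynomial x⁴ − 10x² + 13 having four roots in F; or to the Mathieu group M_12, with q = p ≡ ±1 mod 24; or to A_13, with q = p ≡ ±1, ±3 or ±4 mod 13. (One further class each with socle PSL_3(3) and M_12 is never maximal in Ω_12^+(q) itself.) -/
theorem result {F : Type*} [Field F] [Fintype F] (Q : (Fin 12 → F) → F) (hQ : Cfsg.Geo.IsNondegenerateQuadraticForm Q) (hplus : Cfsg.Geo.IsPlusTypeOn Q ⊤) (H : Subgroup (Matrix.GeneralLinearGroup (Fin 12) F)) (hH : Cfsg.Geo.IsMaximalIn (Cfsg.Geo.omegaGL Q) H) (hS : Cfsg.Geo.InOrthogonalResidualClass H) :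
    ∃ (P : Subgroup (Matrix.GeneralLinearGroup (Fin 12) F)) (p : ℕ), Cfsg.Geo.IsResidualCore H P ∧ p.Prime ∧ CharP F p ∧
    ((Nonempty ((P ⧸ (Cfsg.Geo.scalars (Fin 12) F).subgroupOf P) ≃* Matrix.ProjectiveSpecialLinearGroup (Fin 2) (ZMod 11)) ∧ Fintype.card F = p ∧ (p % 55 = 1 ∨ p % 55 = 54 ∨ p % 55 = 16 ∨ p % 55 = 39 ∨ p % 55 = 19 ∨ p % 55 = 36 ∨ p % 55 = 24 ∨ p % 55 = 31 ∨ p % 55 = 26 ∨ p % 55 = 29)) ∨
     (Nonempty ((P ⧸ (Cfsg.Geo.scalars (Fin 12) F).subgroupOf P) ≃* Matrix.ProjectiveSpecialLinearGroup (Fin 2) (ZMod 13)) ∧ ((Fintype.card F = p ∧ (p % 7 = 1 ∨ p % 7 = 6) ∧ (p % 13 = 1 ∨ p % 13 = 12 ∨ p % 13 = 3 ∨ p % 13 = 10 ∨ p % 13 = 4 ∨ p % 13 = 9)) ∨ (Fintype.card F = p ^ 3 ∧ (p % 91 = 3 ∨ p % 91 = 88 ∨ p % 91 = 4 ∨ p % 91 = 87 ∨ p % 91 = 9 ∨ p % 91 = 82 ∨ p % 91 = 10 ∨ p % 91 = 81 ∨ p % 91 = 12 ∨ p % 91 = 79 ∨ p % 91 = 16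 ∨ p % 91 = 75 ∨ p % 91 = 17 ∨ p % 91 = 74 ∨ p % 91 = 23 ∨ p % 91 = 68 ∨ p % 91 = 25 ∨ p % 91 = 66 ∨ p % 91 = 30 ∨ p % 91 = 61 ∨ p % 91 = 38 ∨ p % 91 = 53 ∨ p % 91 = 40 ∨ p % 91 = 51)))) ∨
     (Nonempty ((P ⧸ (Cfsg.Geo.scalars (Fin 12) F).subgroupOf P) ≃* Matrix.ProjectiveSpecialLinearGroup (Fin 3) (ZMod 3)) ∧ Fintype.card F = p ∧ p ≠ 3 ∧ (p % 13 = 1 ∨ p % 13 = 12 ∨ p % 13 = 3 ∨ p % 13 = 10 ∨ p % 13 = 4 ∨ p % 13 = 9) ∧ (p % 12 = 1 ∨ p % 12 = 11) ∧ (∃ s : Finset F, s.card = 4 ∧ ∀ x ∈ s, x ^ 4 - 10 * x ^ 2 + 13 = 0)) ∨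
     (Cfsg.Spor.IsoM12 (P ⧸ (Cfsg.Geo.scalars (Fin 12) F).subgroupOf P) ∧ Fintype.card F = p ∧ (p % 24 = 1 ∨ p % 24 = 23)) ∨
     (Nonempty ((P ⧸ (Cfsg.Geo.scalars (Fin 12) F).subgroupOf P) ≃* alternatingGroup (Fin 13)) ∧ Fintype.card F = p ∧ (p % 13 = 1 ∨ p % 13 = 12 ∨ p % 13 = 3 ∨ p % 13 = 10 ∨ p % 13 = 4 ∨ p % 13 = 9))) := by
  obtain ⟨P, p, hc, hp, hch, h⟩ := Cfsg.Agent.H114.O12.final (fun T => Cfsg.Agent.S0000.result) hQ hH hS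
  exact ⟨P, p, hc, hp, hch, h.1 hplus⟩

end Cfsg.Agent.S5872
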