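import Cfsg.Agent.ChevalleyStructure.GraphSymm
import Cfsg.Agent.ChevalleyStructure.WordCheck
import Cfsg.Agent.ChevStructure.FieldMap
import Cfsg.Prelude.Def_LieTwisted
import Cfsg.Statements.S1103
import Cfsg.Agent.S1034
import Cfsg.Agent.S1039
import Cfsg.Agent.ChevalleyStructure.CoxeterF4E6
import Cfsg.Agent.ChevalleyStructure.XUnit
set_option linter.all false

-- part: ChevalleyStructure/TwE6Sigma
section
/-!
The automorphism `σ = (graph) ∘ (field)` of the general linear group containing E₆(K), and the fact that the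
twisted group ²E₆(q) consists of fixed points of `σ`.
-/

set_option autoImplicit false

namespace Cfsg.Agent.ChevalleyStructure.TwE6Sigma

open Cfsg.Lie
open Cfsg.Agent.ChevalleyStructure.SignedSymm Cfsg.Agent.ChevalleyStructure.GraphSymm

/-- The field of order `q ^ 2` has the automorphism `t ↦ t ^ q`, of order at most two. -/
theorem exists_frob {K : Type*} [Field K] [Fintype K] {q : ℕ} (hq : IsPrimePow q)
    (hK : Fintype.card K = q ^ 2) :
    ∃ f : K →+* K, (∀ t, f t = t ^ q) ∧ ∀ t : K, f (f t) = t := by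
  obtain ⟨p, k, hp, hk, rfl⟩ := (isPrimePow_nat_iff q).1 hq
  obtain ⟨p', hp'⟩ := CharP.exists K
  have := hp'
  obtain ⟨n, hp'p, hn⟩ := FiniteField.card K p'
  have hpp : p = p' := by
    have h1 : p ∣ p' ^ (n : ℕ) := by
      rw [← hn, hK, ← pow_mul]
      exact dvd_pow_self p (by positivity)
    exact (Nat.prime_dvd_prime_iff_eq hp hp'p).1 (hp.dvd_of_dvd_pow h1)
  subst hpp
  have : Fact p.Prime := ⟨hp⟩
  refine ⟨iterateFrobenius K p k, fun t => iterateFrobenius_def p k t, fun t => ?_⟩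
  rw [iterateFrobenius_def, iterateFrobenius_def, ← pow_mul, ← sq, ← hK]
  exact FiniteField.pow_card t

section Sig

variable {K : Type*} [Field K] (f : K →+* K)

/-- `σ` on matrices. -/
def sig (g : Matrix chevE6.Idx chevE6.Idx K) : Matrix chevE6.Idx chevE6.Idx K :=
  symmE6.mat K * g.map f * symmE6.matInv K

theorem sig_mul (a b : Matrix chevE6.Idx chevE6.Idx K) : sig f (a * b) = sig f a * sig f b := by
  unfold sig
  rw [Matrix.map_mul]
  calc symmE6.mat K * (a.map f * b.map f) * symmE6.matInv K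
      = symmE6.mat K * a.map f * 1 * b.map f * symmE6.matInv K := by
        rw [mul_one]; simp only [mul_assoc]
    _ = _ := by
        rw [← symmE6.matInv_mul_mat K]; simp only [mul_assoc]

theorem sig_one : sig f 1 = 1 := by
  unfold sig
  rw [Matrix.map_one f (map_zero f) (map_one f), mul_one, symmE6.mat_mul_matInv K]

/-- The permutation of the root indices. -/
def rhoN (r : ℕ) : ℕ := tablesE6.rho.getD r 0

/-- The signs. -/
def epsN (r : ℕ) : ℤ := tablesE6.eps.getD r 0

theorem sig_x (r : ℕ) (hr : r < chevE6.nroots) (t : K) :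
    sig f (chevE6.x K r t) = chevE6.x K (rhoN r) ((epsN r : K) * f t) := by
  unfold sig
  rw [Cfsg.Agent.ChevStructure.FieldMap.x_map]
  exact symmE6.mat_conj_x K ⟨r, hr⟩ (f t)

/-- The image of a word. -/
def sigWord (w : List (ℕ × K)) : List (ℕ × K) := w.map fun p => (rhoN p.1, (epsN p.1 : K) * f p.2)

theorem sig_wordMat (w : List (ℕ × K)) (hw : ∀ p ∈ w, p.1 < chevE6.nroots) :
    sig f (chevE6.wordMat K w) = chevE6.wordMat K (sigWord f w) := by
  induction w with
  | nil => exact sig_one f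
  | cons p w ih =>
    have e1 : chevE6.wordMat K (p :: w) = chevE6.x K p.1 p.2 * chevE6.wordMat K w := by
      simp [ChevalleyDatum.wordMat]
    have e2 : chevE6.wordMat K (sigWord f (p :: w)) =
        chevE6.x K (rhoN p.1) ((epsN p.1 : K) * f p.2) * chevE6.wordMat K (sigWord f w) := by
      simp [ChevalleyDatum.wordMat, sigWord]
    rw [e1, e2, sig_mul, sig_x f p.1 (hw p (by simp)), ih fun p' hp' => hw p' (by simp [hp'])]

/-- `σ` on the general linear group. -/
def sigma : GL chevE6.Idx K →* GL chevE6.Idx K :=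
  (MulAut.conj (symmE6.P K)).toMonoidHom.comp (Units.map (RingHom.mapMatrix f).toMonoidHom)

theorem coe_sigma (g : GL chevE6.Idx K) :
    ((sigma f g : GL chevE6.Idx K) : Matrix chevE6.Idx chevE6.Idx K) = sig f g := rfl

theorem sigma_eq_self_of_word {w : List (ℕ × K)} (hw : ∀ p ∈ w, p.1 < chevE6.nroots)
    (h : chevE6.wordMat K (sigWord f w) = chevE6.wordMat K w) (g : GL chevE6.Idx K)
    (hg : (g : Matrix chevE6.Idx chevE6.Idx K) = chevE6.wordMat K w) : sigma f g = g := by
  apply Units.ext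
  rw [coe_sigma, hg, sig_wordMat f w hw, h]

end Sig

/-! ### Commuting root elements -/

open Cfsg.Agent.ChevalleyStructure.WordCheck in
/-- `x_r(a)` and `x_s(b)` commute if the check passes. -/
theorem comm_of_check (K : Type*) [Field K] (r s : ℕ)
    (h : check chevE6 0 0 2 (xw [(r, .var 0), (s, .var 1)]) (xw [(s, .var 1), (r, .var 0)]) = true) (a b : K) :
    chevE6.x K r a * chevE6.x K s b = chevE6.x K s b * chevE6.x K r a := by
  have h1 := wordMat_eq_of_check (F := K) chevE6 (fun i => if i = 0 then a else b) 0 0 2 _ _ h (by simp)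
    (by intro i hi; exact absurd hi (Nat.not_lt_zero i))
  simpa [wval, PExpr.denote, ChevalleyDatum.wordMat] using h1

set_option maxRecDepth 100000 in
open Cfsg.Agent.ChevalleyStructure.WordCheck in
theorem check_pairs : ([(56, 36), (15, 35), (42, 37), (29, 34), (56, 35), (15, 36), (42, 34), (29, 37)] : List (ℕ × ℕ)).all
    (fun p => check chevE6 0 0 2 (xw [(p.1, .var 0), (p.2, .var 1)]) (xw [(p.2, .var 1), (p.1, .var 0)])) = true := by
  decide +kernel

/-- The root elements of `±p₁` commute with those of `±p₆`, and those of `±p₃` with those of `±p₅`. -/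
theorem comm (K : Type*) [Field K] (p : ℕ × ℕ)
    (hp : p ∈ ([(56, 36), (15, 35), (42, 37), (29, 34), (56, 35), (15, 36), (42, 34), (29, 37)] : List (ℕ × ℕ)))
    (a b : K) : chevE6.x K p.1 a * chevE6.x K p.2 b = chevE6.x K p.2 b * chevE6.x K p.1 a :=
  comm_of_check K p.1 p.2 (List.all_eq_true.1 check_pairs p hp) a b

/-! ### The twisted group is fixed -/

/-- ²E₆(q) is fixed by `σ`. -/
theorem sigma_fix {K : Type*} [Field K] {q : ℕ} (f : K →+* K) (hf : ∀ t, f t = t ^ q) (hff : ∀ t, f (f t) = t)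
    (g : GL chevE6.Idx K) (hg : g ∈ twistedE6 K q) : sigma f g = g := by
  have hle : twistedE6 K q ≤ (sigma f).eqLocus (MonoidHom.id _) := by
    unfold twistedE6 ChevalleyDatum.genSubgroup
    rw [Subgroup.closure_le]
    rintro g ⟨w, hw, hg⟩
    show sigma f g = g
    rcases hw with ⟨t, ht, r, hr, rfl⟩ | ⟨t, rs, hrs, rfl⟩
    · have hft : f t = t := by rw [hf, ht]
      have hr' : r < chevE6.nroots ∧ rhoN r = r ∧ epsN r = 1 := by
        simp only [List.mem_cons, List.not_mem_nil, or_false] at hr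
        rcases hr with rfl | rfl | rfl | rfl <;> decide +kernel
      refine sigma_eq_self_of_word f (w := [(r, t)]) ?_ ?_ g hg
      · intro p hp
        rw [List.mem_singleton] at hp
        subst hp
        exact hr'.1
      · simp only [sigWord, List.map_cons, List.map_nil, hr'.2.1, hr'.2.2, hft, Int.cast_one, one_mul]
    · have hff' : f (t ^ q) = t := by rw [← hf, hff]
      have hft : f t = t ^ q := hf t
      have hr' : (rs.1 < chevE6.nroots ∧ rhoN rs.1 = rs.2 ∧ epsN rs.1 = 1) ∧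
          (rs.2 < chevE6.nroots ∧ rhoN rs.2 = rs.1 ∧ epsN rs.2 = 1) ∧
          rs ∈ ([(56, 36), (15, 35), (42, 37), (29, 34), (56, 35), (15, 36), (42, 34), (29, 37)] : List (ℕ × ℕ)) := by
        simp only [List.mem_cons, List.not_mem_nil, or_false] at hrs
        rcases hrs with rfl | rfl | rfl | rfl <;> decide +kernel
      refine sigma_eq_self_of_word f (w := [(rs.1, t), (rs.2, t ^ q)]) ?_ ?_ g hg
      · intro p hp
        simp only [List.mem_cons, List.not_mem_nil, or_false] at hp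
        rcases hp with rfl | rfl
        · exact hr'.1.1
        · exact hr'.2.1.1
      · simp only [sigWord, List.map_cons, List.map_nil, hr'.1.2.1, hr'.1.2.2, hr'.2.1.2.1, hr'.2.1.2.2,
          hff', hft, Int.cast_one, one_mul, ChevalleyDatum.wordMat, List.prod_cons, List.prod_nil, mul_one]
        exact (comm K rs hr'.2.2 _ _).symm
  exact hle hg

end Cfsg.Agent.ChevalleyStructure.TwE6Sigma
end

-- part: S1103
section
set_option autoImplicit false
open Cfsg

namespace Cfsg.Agent.S1103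

open Cfsg.Lie
open Cfsg.Agent.ChevalleyStructure.TwE6Sigma Cfsg.Agent.ChevalleyStructure.CoxeterF4E6
open Cfsg.Agent.ChevalleyStructure.XUnit Cfsg.Agent.ChevalleyStructure.Unitriangular

/-- The table check for E₆. -/
theorem ocE6 : orderCheck chevE6 = true := orderCheck_E6

/-- Simple node `i` of E₆ and its image under the symmetry. -/
theorem simple_facts : ∀ i : Fin 6,
    (chevE6.simple i < chevE6.nroots ∧ chevE6.neg (chevE6.simple i) < chevE6.nroots) ∧
    (rhoN (chevE6.simple i) = chevE6.simple (r i) ∧ epsN (chevE6.simple i) = 1) ∧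
    (rhoN (chevE6.neg (chevE6.simple i)) = chevE6.neg (chevE6.simple (r i)) ∧
      epsN (chevE6.neg (chevE6.simple i)) = 1) := by
  decide +kernel

variable {K : Type*} [Field K]

theorem sigWord_nWord (f : K →+* K) (i : Fin 6) (t : K) :
    sigWord f (chevE6.nWord (chevE6.simple i) t) = chevE6.nWord (chevE6.simple (r i)) (f t) := by
  obtain ⟨_, ⟨h1, h2⟩, h3, h4⟩ := simple_facts i
  simp only [sigWord, ChevalleyDatum.nWord, List.map_cons, List.map_nil, h1, h2, h3, h4, Int.cast_one, one_mul,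
    map_neg, map_inv₀]

theorem nWord_lt (i : Fin 6) (t : K) : ∀ p ∈ chevE6.nWord (chevE6.simple i) t, p.1 < chevE6.nroots := by
  obtain ⟨⟨h1, h2⟩, _⟩ := simple_facts i
  intro p hp
  simp only [ChevalleyDatum.nWord, List.mem_cons, List.not_mem_nil, or_false] at hp
  rcases hp with rfl | rfl | rfl
  · exact h1
  · exact h2
  · exact h1

theorem hWord_lt (i : Fin 6) (t : K) : ∀ p ∈ chevE6.hWord (chevE6.simple i) t, p.1 < chevE6.nroots := by
  intro p hp
  rw [ChevalleyDatum.hWord, List.mem_append] at hp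
  rcases hp with hp | hp
  · exact nWord_lt i t p hp
  · exact nWord_lt i (-1) p hp

theorem sigWord_hWord (f : K →+* K) (i : Fin 6) (t : K) :
    sigWord f (chevE6.hWord (chevE6.simple i) t) = chevE6.hWord (chevE6.simple (r i)) (f t) := by
  have h : sigWord f (chevE6.hWord (chevE6.simple i) t) =
      sigWord f (chevE6.nWord (chevE6.simple i) t) ++ sigWord f (chevE6.nWord (chevE6.simple i) (-1)) := by
    simp only [sigWord, ChevalleyDatum.hWord, List.map_append]
  rw [h, sigWord_nWord, sigWord_nWord, map_neg, map_one]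
  rfl

/-- `σ(n_{p_i}) = n_{ρ p_i}`. -/
theorem sigma_nU (f : K →+* K) (i : Fin 6) :
    sigma f (nU ocE6 (chevE6.simple i) 1) = nU ocE6 (chevE6.simple (r i)) 1 := by
  apply Units.ext
  rw [coe_sigma, coe_nU, coe_nU]
  have h := sig_wordMat f (chevE6.nWord (chevE6.simple i) 1) (nWord_lt i 1)
  rw [sigWord_nWord, map_one] at h
  exact h

/-- `σ(h_{p_i}(c)) = h_{ρ p_i}(f c)`. -/
theorem sigma_hU (f : K →+* K) (i : Fin 6) (c : K) :
    sigma f (hU ocE6 (chevE6.simple i) c) = hU ocE6 (chevE6.simple (r i)) (f c) := by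
  apply Units.ext
  rw [coe_sigma, coe_hU, coe_hU]
  have h := sig_wordMat f (chevE6.hWord (chevE6.simple i) c) (hWord_lt i c)
  rw [sigWord_hWord] at h
  exact h

/-- `σ` preserves `H`. -/
theorem sigma_mem_H (f : K →+* K) (g : GL chevE6.Idx K) (hg : g ∈ chevE6.diagonalSubgroup K) :
    sigma f g ∈ chevE6.diagonalSubgroup K := by
  obtain ⟨c, hc, hgc⟩ := Cfsg.Agent.S1034.result (F := K) chevE6 (by simp) g hg
  -- `g` is the product of the `h_{p_i}(c_i)`
  have key : ∀ n : ℕ, n ≤ 6 → ∃ g' : GL chevE6.Idx K, (g' : Matrix chevE6.Idx chevE6.Idx K) =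
      chevE6.wordMat K ((List.range n).flatMap fun i => chevE6.hWord (chevE6.simple i) (c i)) ∧
      sigma f g' ∈ chevE6.diagonalSubgroup K := by
    intro n
    induction n with
    | zero =>
      intro _
      refine ⟨1, ?_, ?_⟩
      · simp [ChevalleyDatum.wordMat]
      · rw [map_one]; exact one_mem _
    | succ n ih =>
      intro hn
      obtain ⟨g', hg', hs⟩ := ih (by omega)
      have hi : n < 6 := by omega
      refine ⟨g' * hU ocE6 (chevE6.simple n) (c n), ?_, ?_⟩
      · rw [List.range_succ, List.flatMap_append, wordMat_append, Units.val_mul, hg', coe_hU]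
        congr 1
      · rw [map_mul]
        refine mul_mem hs ?_
        have h1 := sigma_hU f ⟨n, hi⟩ (c n)
        have h2 : sigma f (hU ocE6 (chevE6.simple n) (c n)) = hU ocE6 (chevE6.simple (r ⟨n, hi⟩)) (f (c n)) := h1
        rw [h2]
        exact hU_mem_diagonal ocE6 (simple_facts (r ⟨n, hi⟩)).1.1
          ((map_ne_zero f).2 (hc n (by exact hi)))
  obtain ⟨g', hg', hs⟩ := key 6 le_rfl
  have : g = g' := Units.ext (hgc.trans hg'.symm)
  rw [this]
  exact hs

/-! ### The monomial subgroup -/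

/-- The product of the `n_{p_i}` along a word. -/
noncomputable def nw (K : Type*) [Field K] (ω : List (Fin 6)) : GL chevE6.Idx K :=
  (ω.map fun i => nU ocE6 (chevE6.simple i) (1 : K)).prod

theorem nw_cons (i : Fin 6) (ω : List (Fin 6)) : nw K (i :: ω) = nU ocE6 (chevE6.simple i) 1 * nw K ω := by
  simp [nw]

theorem nw_mem (ω : List (Fin 6)) : nw K ω ∈ chevE6.monomialSubgroup K := by
  induction ω with
  | nil => exact one_mem _
  | cons i ω ih =>
    rw [nw_cons]
    exact mul_mem (nU_one_mem_monomial ocE6 (simple_facts i).1.1) ih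

theorem sigma_nw (f : K →+* K) (ω : List (Fin 6)) : sigma f (nw K ω) = nw K (ω.map r) := by
  induction ω with
  | nil => exact map_one _
  | cons i ω ih => rw [nw_cons, map_mul, ih, sigma_nU, List.map_cons, nw_cons]

theorem rho_wordProd (ω : List (Fin 6)) : rho (cs6.wordProd ω) = cs6.wordProd (ω.map r) := by
  induction ω with
  | nil => simp
  | cons i ω ih => rw [CoxeterSystem.wordProd_cons, map_mul, ih, rho_simple, List.map_cons,
      CoxeterSystem.wordProd_cons]

section Phi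

variable (φ : ↥(chevE6.monomialSubgroup K) →* CoxeterMatrix.E₆.Group)
  (hker : φ.ker = (chevE6.diagonalSubgroup K).subgroupOf (chevE6.monomialSubgroup K))
  (hφ : ∀ (i : Fin 6) (g : ↥(chevE6.monomialSubgroup K)),
    ((g : GL chevE6.Idx K) : Matrix chevE6.Idx chevE6.Idx K) = chevE6.nMat K (chevE6.simple i) 1 →
      φ g = CoxeterMatrix.E₆.simple i)

include hφ in
theorem phi_nw (ω : List (Fin 6)) : φ ⟨nw K ω, nw_mem ω⟩ = cs6.wordProd ω := by
  induction ω with
  | nil => exact map_one φ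
  | cons i ω ih =>
    have e : (⟨nw K (i :: ω), nw_mem (i :: ω)⟩ : ↥(chevE6.monomialSubgroup K)) =
        ⟨nU ocE6 (chevE6.simple i) 1, nU_one_mem_monomial ocE6 (simple_facts i).1.1⟩ * ⟨nw K ω, nw_mem ω⟩ :=
      Subtype.ext (nw_cons i ω)
    rw [e, map_mul, ih, hφ i _ (coe_nU ocE6 _ _), CoxeterSystem.wordProd_cons]
    rfl

include hker in
theorem phi_eq_one_iff (g : ↥(chevE6.monomialSubgroup K)) :
    φ g = 1 ↔ (g : GL chevE6.Idx K) ∈ chevE6.diagonalSubgroup K := by
  rw [← MonoidHom.mem_ker, hker, Subgroup.mem_subgroupOf]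

theorem H_le_N : chevE6.diagonalSubgroup K ≤ chevE6.monomialSubgroup K := le_sup_left

include hker hφ in
/-- `σ` preserves `N` and induces the diagram automorphism on the Weyl group. -/
theorem phi_sigma (f : K →+* K) (g : ↥(chevE6.monomialSubgroup K)) :
    ∃ hs : sigma f g ∈ chevE6.monomialSubgroup K, φ ⟨sigma f g, hs⟩ = rho (φ g) := by
  obtain ⟨ω, hω⟩ := cs6.wordProd_surjective (φ g)
  -- `g = h * n_ω`
  have h1 : φ (g * ⟨nw K ω, nw_mem ω⟩⁻¹) = 1 := by
    rw [map_mul, map_inv, phi_nw φ hφ, hω, mul_inv_cancel]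
  rw [phi_eq_one_iff φ hker] at h1
  have h2 : ((g * ⟨nw K ω, nw_mem ω⟩⁻¹ : ↥(chevE6.monomialSubgroup K)) : GL chevE6.Idx K) =
      (g : GL chevE6.Idx K) * (nw K ω)⁻¹ := rfl
  rw [h2] at h1
  have h3 := sigma_mem_H f _ h1
  have h4 : sigma f (g : GL chevE6.Idx K) =
      sigma f ((g : GL chevE6.Idx K) * (nw K ω)⁻¹) * nw K (ω.map r) := by
    rw [← sigma_nw f, ← map_mul, inv_mul_cancel_right]
  have h5 : sigma f (g : GL chevE6.Idx K) ∈ chevE6.monomialSubgroup K := by
    rw [h4]
    exact mul_mem (H_le_N h3) (nw_mem _)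
  refine ⟨h5, ?_⟩
  have h6 : (⟨sigma f (g : GL chevE6.Idx K), h5⟩ : ↥(chevE6.monomialSubgroup K)) =
      ⟨_, H_le_N h3⟩ * ⟨nw K (ω.map r), nw_mem _⟩ := Subtype.ext h4
  rw [h6, map_mul, phi_nw φ hφ, (phi_eq_one_iff φ hker _).2 h3, one_mul, ← hω, rho_wordProd]

end Phi

/-! ### Elements of the twisted group -/

section Twisted

theorem xU_commute (p : ℕ × ℕ)
    (hp : p ∈ ([(56, 36), (15, 35), (42, 37), (29, 34), (56, 35), (15, 36), (42, 34), (29, 37)] : List (ℕ × ℕ)))
    (a b : K) : Commute (xU ocE6 p.1 a) (xU ocE6 p.2 b) := by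
  apply Units.ext
  exact comm K p hp a b

theorem mem_single {q : ℕ} (hq : ∀ c : K, c = 1 ∨ c = -1 → c ^ q = c) (i : ℕ)
    (hi : i ∈ [e6p2, e6m2, e6p4, e6m4]) (c : K) (hc : c = 1 ∨ c = -1) : xU ocE6 i c ∈ twistedE6 K q := by
  apply Subgroup.subset_closure
  refine ⟨[(i, c)], Or.inl ⟨c, hq c hc, i, hi, rfl⟩, ?_⟩
  simp [ChevalleyDatum.wordMat, coe_xU]

theorem mem_pair {q : ℕ} (hq : ∀ c : K, c = 1 ∨ c = -1 → c ^ q = c) (p : ℕ × ℕ)
    (hp : p ∈ [(e6p1, e6p6), (e6m1, e6m6), (e6p3, e6p5), (e6m3, e6m5)]) (c : K) (hc : c = 1 ∨ c = -1) :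
    xU ocE6 p.1 c * xU ocE6 p.2 c ∈ twistedE6 K q := by
  apply Subgroup.subset_closure
  refine ⟨[(p.1, c), (p.2, c ^ q)], Or.inr ⟨c, p, hp, rfl⟩, ?_⟩
  rw [hq c hc]
  simp [ChevalleyDatum.wordMat, coe_xU]

theorem nU_mem_single {q : ℕ} (hq : ∀ c : K, c = 1 ∨ c = -1 → c ^ q = c) (i : ℕ)
    (hi : i ∈ [e6p2, e6p4]) : nU ocE6 i (1 : K) ∈ twistedE6 K q := by
  have h : i ∈ [e6p2, e6m2, e6p4, e6m4] ∧ chevE6.neg i ∈ [e6p2, e6m2, e6p4, e6m4] := by
    simp only [List.mem_cons, List.not_mem_nil, or_false] at hi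
    rcases hi with rfl | rfl <;> decide +kernel
  rw [nU, inv_one]
  exact mul_mem (mul_mem (mem_single hq _ h.1 _ (Or.inl rfl)) (mem_single hq _ h.2 _ (Or.inr rfl)))
    (mem_single hq _ h.1 _ (Or.inl rfl))

theorem nU_mul_mem {q : ℕ} (hq : ∀ c : K, c = 1 ∨ c = -1 → c ^ q = c) (p : ℕ × ℕ)
    (hp : p ∈ [(e6p1, e6p6), (e6p3, e6p5)]) : nU ocE6 p.1 (1 : K) * nU ocE6 p.2 1 ∈ twistedE6 K q := by
  have h : p ∈ [(e6p1, e6p6), (e6m1, e6m6), (e6p3, e6p5), (e6m3, e6m5)] ∧
      (chevE6.neg p.1, chevE6.neg p.2) ∈ [(e6p1, e6p6), (e6m1, e6m6), (e6p3, e6p5), (e6m3, e6m5)] ∧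
      p ∈ ([(56, 36), (15, 35), (42, 37), (29, 34), (56, 35), (15, 36), (42, 34), (29, 37)] : List (ℕ × ℕ)) ∧
      (chevE6.neg p.1, p.2) ∈ ([(56, 36), (15, 35), (42, 37), (29, 34), (56, 35), (15, 36), (42, 34), (29, 37)] : List (ℕ × ℕ)) ∧
      (p.1, chevE6.neg p.2) ∈ ([(56, 36), (15, 35), (42, 37), (29, 34), (56, 35), (15, 36), (42, 34), (29, 37)] : List (ℕ × ℕ)) := by
    simp only [List.mem_cons, List.not_mem_nil, or_false] at hp
    rcases hp with rfl | rfl <;> decide +kernel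
  obtain ⟨h1, h2, h3, h4, h5⟩ := h
  have c1 : Commute (xU ocE6 p.1 (1 : K)) (xU ocE6 p.2 1) := xU_commute p h3 1 1
  have c2 : Commute (xU ocE6 (chevE6.neg p.1) (-1 : K)) (xU ocE6 p.2 1) := xU_commute _ h4 (-1) 1
  have c3 : Commute (xU ocE6 p.1 (1 : K)) (xU ocE6 (chevE6.neg p.2) (-1)) := xU_commute _ h5 1 (-1)
  have e : nU ocE6 p.1 (1 : K) * nU ocE6 p.2 1 =
      (xU ocE6 p.1 1 * xU ocE6 p.2 1) *
      (xU ocE6 (chevE6.neg p.1) (-1) * xU ocE6 (chevE6.neg p.2) (-1)) *
      (xU ocE6 p.1 1 * xU ocE6 p.2 1) := by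
    rw [nU, nU, inv_one]
    generalize xU ocE6 p.1 (1 : K) = a at *
    generalize xU ocE6 p.2 (1 : K) = b at *
    generalize xU ocE6 (chevE6.neg p.1) (-1 : K) = a' at *
    generalize xU ocE6 (chevE6.neg p.2) (-1 : K) = b' at *
    calc a * a' * a * (b * b' * b) = a * a' * (a * b) * b' * b := by simp only [mul_assoc]
      _ = a * (a' * b) * (a * b') * b := by rw [c1.eq]; simp only [mul_assoc]
      _ = a * b * a' * b' * a * b := by rw [c2.eq, c3.eq]; simp only [mul_assoc]
      _ = _ := by simp only [mul_assoc]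
  rw [e]
  exact mul_mem (mul_mem (mem_pair hq p h1 1 (Or.inl rfl)) (mem_pair hq _ h2 (-1) (Or.inr rfl)))
    (mem_pair hq p h1 1 (Or.inl rfl))

/-- The words `gen i` are represented in `N¹`. -/
theorem nw_gen_mem {q : ℕ} (hq : ∀ c : K, c = 1 ∨ c = -1 → c ^ q = c) (i : Fin 4) :
    nw K (gen i) ∈ twistedE6 K q := by
  have hi : i = 0 ∨ i = 1 ∨ i = 2 ∨ i = 3 := by fin_cases i <;> simp
  rcases hi with rfl | rfl | rfl | rfl
  · have e : nw K (gen 0) = nU ocE6 e6p2 (1 : K) := by
      show (List.map _ [1]).prod = _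
      simp only [List.map_cons, List.map_nil, List.prod_cons, List.prod_nil, mul_one]
      rfl
    rw [e]
    exact nU_mem_single hq _ (by simp)
  · have e : nw K (gen 1) = nU ocE6 e6p4 (1 : K) := by
      show (List.map _ [3]).prod = _
      simp only [List.map_cons, List.map_nil, List.prod_cons, List.prod_nil, mul_one]
      rfl
    rw [e]
    exact nU_mem_single hq _ (by simp)
  · have e : nw K (gen 2) = nU ocE6 e6p3 (1 : K) * nU ocE6 e6p5 (1 : K) := by
      show (List.map _ [2, 4]).prod = _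
      simp only [List.map_cons, List.map_nil, List.prod_cons, List.prod_nil, mul_one]
      rfl
    rw [e]
    exact nU_mul_mem hq (e6p3, e6p5) (by simp)
  · have e : nw K (gen 3) = nU ocE6 e6p1 (1 : K) * nU ocE6 e6p6 (1 : K) := by
      show (List.map _ [0, 5]).prod = _
      simp only [List.map_cons, List.map_nil, List.prod_cons, List.prod_nil, mul_one]
      rfl
    rw [e]
    exact nU_mul_mem hq (e6p1, e6p6) (by simp)

end Twisted

/-- `N¹/H¹ ≅ W¹`: a surjective homomorphism from `N¹ = G¹ ∩ N` onto the Coxeter group of type F₄ with kernel `H¹`. -/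
theorem result {K : Type*} [Field K] [Fintype K] {q : ℕ} (hq : IsPrimePow q) (hK : Fintype.card K = q ^ 2) :
    ∃ φ : ↥(Cfsg.Lie.chevE6.monomialSubgroup K ⊓ Cfsg.Lie.twistedE6 K q) →* (CoxeterMatrix.F₄).Group, Function.Surjective φ ∧
      φ.ker = (Cfsg.Lie.chevE6.diagonalSubgroup K ⊓ Cfsg.Lie.twistedE6 K q).subgroupOf (Cfsg.Lie.chevE6.monomialSubgroup K ⊓ Cfsg.Lie.twistedE6 K q) := by
  obtain ⟨f, hf, hff⟩ := exists_frob hq hK
  obtain ⟨φ, hsurj, hker, hφ⟩ := Cfsg.Agent.S1039.result (F := K)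
    (Cfsg.Lie.chevE6, ⟨6, CoxeterMatrix.E₆⟩) (by simp)
  have hq1 : ∀ c : K, c = 1 ∨ c = -1 → c ^ q = c := by
    rintro c (rfl | rfl)
    · exact one_pow q
    · rw [← hf, map_neg, map_one]
  -- the restriction to `N¹`
  let ι : ↥(chevE6.monomialSubgroup K ⊓ twistedE6 K q) →* ↥(chevE6.monomialSubgroup K) :=
    Subgroup.inclusion inf_le_left
  let φ₁ : ↥(chevE6.monomialSubgroup K ⊓ twistedE6 K q) →* CoxeterMatrix.E₆.Group := φ.comp ι
  have hmem : ∀ g, φ₁ g ∈ psi.range := by
    intro g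
    apply mem_range_of_fixed
    obtain ⟨hs, h⟩ := phi_sigma φ hker hφ f (ι g)
    have h1 : sigma f (g : GL chevE6.Idx K) = g := sigma_fix f hf hff _ g.2.2
    have h2 : (⟨sigma f ((ι g : ↥(chevE6.monomialSubgroup K)) : GL chevE6.Idx K), hs⟩ :
        ↥(chevE6.monomialSubgroup K)) = ι g := Subtype.ext h1
    rw [h2] at h
    exact h.symm
  let e : CoxeterMatrix.F₄.Group ≃* psi.range := MonoidHom.ofInjective psi_injective
  let φ₂ : ↥(chevE6.monomialSubgroup K ⊓ twistedE6 K q) →* psi.range := φ₁.codRestrict psi.range hmem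
  refine ⟨e.symm.toMonoidHom.comp φ₂, ?_, ?_⟩
  · -- surjectivity
    have hr : (e.symm.toMonoidHom.comp φ₂).range = ⊤ := by
      rw [eq_top_iff, ← cs4.subgroup_closure_range_simple, Subgroup.closure_le]
      rintro _ ⟨i, rfl⟩
      refine ⟨⟨nw K (gen i), nw_mem _, nw_gen_mem hq1 i⟩, ?_⟩
      show e.symm (φ₂ _) = cs4.simple i
      rw [MulEquiv.symm_apply_eq]
      apply Subtype.ext
      show φ ⟨nw K (gen i), nw_mem _⟩ = psi (CoxeterMatrix.F₄.simple i)
      rw [psi_simple]
      exact phi_nw φ hφ (gen i)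
    exact MonoidHom.range_eq_top.1 hr
  · ext g
    rw [MonoidHom.mem_ker, Subgroup.mem_subgroupOf]
    have h1 : (e.symm.toMonoidHom.comp φ₂) g = 1 ↔ φ (ι g) = 1 := by
      show e.symm (φ₂ g) = 1 ↔ _
      rw [MulEquiv.map_eq_one_iff]
      exact Subtype.ext_iff
    rw [h1, phi_eq_one_iff φ hker]
    exact ⟨fun h => ⟨h, g.2.2⟩, fun h => h.1⟩

end Cfsg.Agent.S1103
end
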