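import Mathlib
import Cfsg.Agent.S0804
import Cfsg.Agent.ClassicalGeometry.PSL2Basic
import Cfsg.Statements.S2543
import Cfsg.Agent.TwoFusion.SLTwoFacts
set_option linter.all false

-- part: H163/AltFive
section
set_option autoImplicit false

namespace Cfsg.Agent.H163.AltFive

abbrev A5 := alternatingGroup (Fin 5)

def x1 : A5 := ⟨Equiv.swap 0 1 * Equiv.swap 2 3, by rw [Equiv.Perm.mem_alternatingGroup]; decide⟩
def y1 : A5 := ⟨Equiv.swap 0 2 * Equiv.swap 2 4, by rw [Equiv.Perm.mem_alternatingGroup]; decide⟩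
def y2 : A5 := ⟨Equiv.swap 0 3 * Equiv.swap 3 4, by rw [Equiv.Perm.mem_alternatingGroup]; decide⟩

theorem y1_facts : x1 ^ 2 = 1 ∧ x1 ≠ 1 ∧ y1 ^ 3 = 1 ∧ y1 ≠ 1 ∧ (x1 * y1) ^ 5 = 1 ∧ x1 * y1 ≠ 1 := by
  decide +kernel

theorem y2_facts : y2 ^ 3 = 1 ∧ y2 ≠ 1 ∧ (x1 * y2) ^ 5 = 1 ∧ x1 * y2 ≠ 1 := by
  decide +kernel

theorem conj_y2 : ∃ g : A5, g * (x1 * y2) * g⁻¹ = (x1 * y1) ^ 2 := by
  decide +kernel

theorem conj_inv : ∀ a : A5, a ^ 2 = 1 → a ≠ 1 → ∃ g : A5, g * a * g⁻¹ = x1 := by
  decide +kernel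

theorem conj_pair : ∀ b : A5, b ^ 3 = 1 → b ≠ 1 → (x1 * b) ^ 5 = 1 → 
      ∃ g : A5, g * x1 * g⁻¹ = x1 ∧ (g * b * g⁻¹ = y1 ∨ g * b * g⁻¹ = y2) := by
  decide +kernel


theorem card_A5 : Nat.card A5 = 60 := by
  rw [nat_card_alternatingGroup]
  simp
  decide

theorem closure_eq_top {a b : A5} (ha2 : a ^ 2 = 1) (ha : a ≠ 1) (hb3 : b ^ 3 = 1) (hb : b ≠ 1)
    (hab5 : (a * b) ^ 5 = 1) (hab : a * b ≠ 1) : Subgroup.closure {a, b} = ⊤ := by
  set H := Subgroup.closure {a, b} with hH
  have haH : a ∈ H := Subgroup.subset_closure (by simp)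
  have hbH : b ∈ H := Subgroup.subset_closure (by simp)
  have o2 : orderOf a = 2 := orderOf_eq_prime ha2 ha
  have o3 : orderOf b = 3 := orderOf_eq_prime hb3 hb
  have o5 : orderOf (a * b) = 5 := by
    have : Fact (Nat.Prime 5) := ⟨by norm_num⟩
    exact orderOf_eq_prime hab5 hab
  have d2 : 2 ∣ Nat.card H := by rw [← o2]; exact Subgroup.orderOf_dvd_natCard H haH
  have d3 : 3 ∣ Nat.card H := by rw [← o3]; exact Subgroup.orderOf_dvd_natCard H hbH
  have d5 : 5 ∣ Nat.card H := by
    have := Subgroup.orderOf_dvd_natCard H (H.mul_mem haH hbH)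
    rwa [o5] at this
  have hm := H.card_mul_index
  rw [card_A5] at hm
  have h30 : 30 ∣ Nat.card H := by omega
  obtain ⟨k, hk⟩ := h30
  rw [hk] at hm
  have hki : k * H.index = 2 := by
    have : 30 * (k * H.index) = 30 * 2 := by rw [← mul_assoc, hm]
    exact Nat.eq_of_mul_eq_mul_left (by norm_num) this
  have hi : H.index = 1 ∨ H.index = 2 := by
    have : H.index ∣ 2 := ⟨k, by rw [mul_comm]; exact hki.symm⟩
    exact (Nat.dvd_prime Nat.prime_two).1 this
  rcases hi with hi | hi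
  · exact Subgroup.index_eq_one.1 hi
  · exfalso
    have hn : H.Normal := Subgroup.normal_of_index_eq_two hi
    have hs : IsSimpleGroup A5 := alternatingGroup.isSimpleGroup (by simp)
    rcases hs.eq_bot_or_eq_top_of_normal H hn with h | h
    · rw [h] at haH
      exact ha (Subgroup.mem_bot.1 haH)
    · rw [h, Subgroup.index_top] at hi
      exact absurd hi (by norm_num)

end Cfsg.Agent.H163.AltFive
end

-- part: H163/TwoClasses
section
set_option autoImplicit false
open scoped Pointwise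

namespace Cfsg.Agent.H163.TwoClasses

variable {G : Type*} [Group G]

theorem conj_smul_eq_iff {H : Subgroup G} {g : G} : MulAut.conj g • H = H ↔ g ∈ Subgroup.normalizer (H : Set G) := by
  constructor
  · intro h
    rw [Subgroup.mem_normalizer_iff]
    intro x
    constructor
    · intro hx
      rw [← h]
      exact ⟨x, hx, rfl⟩
    · intro hx
      rw [← h] at hx
      obtain ⟨y, hy, hy1⟩ := hx
      have : y = x := by
        have h2 : g * y * g⁻¹ = g * x * g⁻¹ := hy1
        simpa using h2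
      rwa [← this]
  · intro h
    ext x
    rw [Subgroup.mem_normalizer_iff] at h
    constructor
    · rintro ⟨y, hy, rfl⟩
      exact (h y).1 hy
    · intro hx
      refine ⟨g⁻¹ * x * g, ?_, ?_⟩
      · have h2 := (h (g⁻¹ * x * g)).2 (by
          have : g * (g⁻¹ * x * g) * g⁻¹ = x := by group
          rw [this]; exact hx)
        exact h2
      · show g * (g⁻¹ * x * g) * g⁻¹ = x
        group

/-- the orbit map from the cosets of `H` to the conjugates of `H` -/
def orb (H : Subgroup G) : G ⧸ H → Subgroup G :=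
  Quotient.lift (fun g => MulAut.conj g • H) (by
    intro a b hab
    have hab := QuotientGroup.leftRel_apply.1 hab
    show MulAut.conj a • H = MulAut.conj b • H
    rw [show b = a * (a⁻¹ * b) by group, map_mul, mul_smul]
    congr 1
    exact (conj_smul_eq_iff.2 (Subgroup.le_normalizer hab)).symm)

theorem orb_mk (H : Subgroup G) (g : G) : orb H (QuotientGroup.mk g) = MulAut.conj g • H := rfl

theorem orb_injective {H : Subgroup G} (hH : Subgroup.normalizer (H : Set G) = H) :
    Function.Injective (orb H) := by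
  intro a b hab
  obtain ⟨a, rfl⟩ := QuotientGroup.mk_surjective a
  obtain ⟨b, rfl⟩ := QuotientGroup.mk_surjective b
  rw [orb_mk, orb_mk] at hab
  rw [QuotientGroup.eq]
  rw [← hH]
  apply conj_smul_eq_iff.1
  rw [map_mul, mul_smul, ← hab, ← mul_smul, ← map_mul]
  simp

theorem card_two_classes [Finite G] (P : Subgroup G → Prop) {H K : Subgroup G}
    (hH : Subgroup.normalizer (H : Set G) = H) (hK : Subgroup.normalizer (K : Set G) = K)
    (hne : ∀ g : G, MulAut.conj g • H ≠ K)
    (hall : ∀ L, P L ↔ ∃ g : G, MulAut.conj g • L = H ∨ MulAut.conj g • L = K) :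
    Nat.card {L : Subgroup G // P L} = H.index + K.index := by
  have hinv : ∀ (g : G) (L M : Subgroup G), MulAut.conj g • L = M ↔ MulAut.conj g⁻¹ • M = L := by
    intro g L M
    constructor
    · rintro rfl
      rw [← mul_smul, ← map_mul]; simp
    · rintro rfl
      rw [← mul_smul, ← map_mul]; simp
  let f : (G ⧸ H) ⊕ (G ⧸ K) → {L : Subgroup G // P L} := fun x =>
    ⟨Sum.elim (orb H) (orb K) x, by
      rw [hall]
      rcases x with x | x
      · obtain ⟨a, rfl⟩ := QuotientGroup.mk_surjective x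
        refine ⟨a⁻¹, Or.inl ?_⟩
        rw [Sum.elim_inl, orb_mk, ← mul_smul, ← map_mul]; simp
      · obtain ⟨a, rfl⟩ := QuotientGroup.mk_surjective x
        refine ⟨a⁻¹, Or.inr ?_⟩
        rw [Sum.elim_inr, orb_mk, ← mul_smul, ← map_mul]; simp⟩
  have hf : Function.Bijective f := by
    constructor
    · rintro (a | a) (b | b) hab
      · have h1 : orb H a = orb H b := congrArg Subtype.val hab
        rw [orb_injective hH h1]
      · exfalso
        have h1 : orb H a = orb K b := congrArg Subtype.val hab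
        obtain ⟨a, rfl⟩ := QuotientGroup.mk_surjective a
        obtain ⟨b, rfl⟩ := QuotientGroup.mk_surjective b
        rw [orb_mk, orb_mk] at h1
        apply hne (b⁻¹ * a)
        rw [map_mul, mul_smul, h1, ← mul_smul, ← map_mul]
        simp
      · exfalso
        have h1 : orb K a = orb H b := congrArg Subtype.val hab
        obtain ⟨a, rfl⟩ := QuotientGroup.mk_surjective a
        obtain ⟨b, rfl⟩ := QuotientGroup.mk_surjective b
        rw [orb_mk, orb_mk] at h1
        apply hne (a⁻¹ * b)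
        rw [map_mul, mul_smul, ← h1, ← mul_smul, ← map_mul]
        simp
      · have h1 : orb K a = orb K b := congrArg Subtype.val hab
        rw [orb_injective hK h1]
    · rintro ⟨L, hL⟩
      obtain ⟨g, h | h⟩ := (hall L).1 hL
      · refine ⟨Sum.inl (QuotientGroup.mk g⁻¹), ?_⟩
        apply Subtype.ext
        show MulAut.conj g⁻¹ • H = L
        exact (hinv _ _ _).1 h
      · refine ⟨Sum.inr (QuotientGroup.mk g⁻¹), ?_⟩
        apply Subtype.ext
        show MulAut.conj g⁻¹ • K = L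
        exact (hinv _ _ _).1 h
  rw [← Nat.card_eq_of_bijective f hf, Nat.card_sum]
  rfl

end Cfsg.Agent.H163.TwoClasses
end

-- part: H163/PSLEleven
section
set_option autoImplicit false

namespace Cfsg.Agent.H163.PSLEleven

open Matrix

variable {F : Type*} [Field F] [Fintype F]

theorem eleven (hF : Fintype.card F = 11) : (11 : F) = 0 := by
  have := FiniteField.cast_card_eq_zero F
  rw [hF] at this
  exact_mod_cast this

theorem two_ne (hF : Fintype.card F = 11) : (2 : F) ≠ 0 := by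
  intro h
  have h1 := eleven hF
  exact one_ne_zero (α := F) (by linear_combination h1 - 5 * h)

theorem sq_or (hF : Fintype.card F = 11) {x : F} (hx : x ≠ 0) : ∃ s : F, s ≠ 0 ∧ (s ^ 2 = x ∨ s ^ 2 = -x) := by
  have h1 : x ^ 10 = 1 := by
    have := FiniteField.pow_card_sub_one_eq_one x hx
    rwa [hF] at this
  have h2 : (x ^ 5 - 1) * (x ^ 5 + 1) = 0 := by linear_combination h1
  refine ⟨x ^ 3, pow_ne_zero _ hx, ?_⟩
  rcases mul_eq_zero.1 h2 with h | h
  · left; linear_combination x * h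
  · right; linear_combination x * h

theorem neg_one_ns (hF : Fintype.card F = 11) (s : F) : s ^ 2 ≠ -1 := by
  intro h
  have hs : s ≠ 0 := by
    rintro rfl
    exact one_ne_zero (α := F) (by linear_combination h)
  have h1 : s ^ 10 = 1 := by
    have := FiniteField.pow_card_sub_one_eq_one s hs
    rwa [hF] at this
  have h2 : s ^ 10 = -1 := by
    calc s ^ 10 = (s ^ 2) ^ 5 := by ring
      _ = -1 := by rw [h]; ring
  exact two_ne hF (by linear_combination h2 - h1)


omit [Fintype F] in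
theorem exists_eigen {m11 m12 m21 m22 : F} (h : m11 * m22 - m12 * m21 = 0) :
    ∃ x y : F, (x ≠ 0 ∨ y ≠ 0) ∧ m11 * x + m12 * y = 0 ∧ m21 * x + m22 * y = 0 := by
  by_cases h1 : m11 = 0
  · by_cases h2 : m12 = 0
    · by_cases h3 : m21 = 0
      · refine ⟨1, 0, Or.inl one_ne_zero, ?_, ?_⟩
        · rw [h1]; ring
        · rw [h3]; ring
      · exact ⟨m22, -m21, Or.inr (neg_ne_zero.2 h3), by rw [h1, h2]; ring, by ring⟩
    · exact ⟨-m12, m11, Or.inl (neg_ne_zero.2 h2), by ring, by linear_combination h⟩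
  · exact ⟨-m12, m11, Or.inr h1, by ring, by linear_combination h⟩

theorem canonical_aux (hF : Fintype.card F = 11) {a b c d p q r s : F}
    (hA : a + d = 0) (hdA : a * d - b * c = 1) (hB : p + s = -1) (hdB : p * s - q * r = 1)
    (hAB : (a * p + b * r) + (c * q + d * s) = 7) :
    ∃ x y z w : F, x * w - y * z = 1 ∧
      ((!![a, b; c, d] * !![x, y; z, w] = !![x, y; z, w] * !![0, -1; 1, 0] ∧
        !![p, q; r, s] * !![x, y; z, w] = !![x, y; z, w] * !![0, 4; -3, -1]) ∨
      (!![a, b; c, d] * !![x, y; z, w] = !![x, y; z, w] * !![0, 1; -1, 0] ∧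
        !![p, q; r, s] * !![x, y; z, w] = !![x, y; z, w] * !![0, -4; 3, -1])) := by
  have h11 := eleven hF
  have hd0 : d = -a := by linear_combination hA
  have hs0 : s = -1 - p := by linear_combination hB
  subst hd0 hs0
  obtain ⟨x, y, hxy, h1, h2⟩ := exists_eigen (m11 := a * p + b * r - 3) (m12 := a * q + b * (-1 - p))
    (m21 := c * p + -a * r) (m22 := c * q + -a * (-1 - p) - 3) (by
      have e1 : (a * p + b * r) * (c * q + -a * (-1 - p)) - (a * q + b * (-1 - p)) * (c * p + -a * r) =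
          (a * -a - b * c) * (p * (-1 - p) - q * r) := by ring
      have e2 : (a * p + b * r - 3) * (c * q + -a * (-1 - p) - 3) - (a * q + b * (-1 - p)) * (c * p + -a * r) = 
         (a * -a - b * c) * (p * (-1 - p) - q * r) - 3 * ((a * p + b * r) + (c * q + -a * (-1 - p))) + 9 := by ring
      rw [e2, hdA, hdB, hAB]
      linear_combination -h11)
  -- w = A v
  set z := a * x + b * y with hz
  set w := c * x + -a * y with hw
  have hAz : a * z + b * w = -x := by rw [hz, hw]; linear_combination -x * hdA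
  have hAw : c * z + -a * w = -y := by rw [hz, hw]; linear_combination -y * hdA
  have hBx : p * x + q * y = -3 * z := by
    rw [hz]
    linear_combination (-a) * h1 + (-b) * h2 + (-(p * x + q * y)) * hdA
  have hBy : r * x + (-1 - p) * y = -3 * w := by
    rw [hw]
    linear_combination (-c) * h1 + (a) * h2 + (-(r * x + (-1 - p) * y)) * hdA
  have hBz : p * z + q * w = 4 * x - z := by
    linear_combination (4 * p) * hBx + (4 * q) * hBy - (p * z + q * w + z) * h11 + 4 * x * hdB + 4 * hBx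
  have hBw : r * z + (-1 - p) * w = 4 * y - w := by
    linear_combination (4 * r) * hBx + (4 * (-1 - p)) * hBy - (r * z + (-1 - p) * w + w) * h11 + 4 * y * hdB + 4 * hBy
  have hdet : x * w - z * y ≠ 0 := by
    intro h0
    -- v and w dependent: w = λ v
    have key : ∀ l : F, z = l * x → w = l * y → False := by
      intro l hl1 hl2
      have e1 : l ^ 2 * x = -x := by
        have : a * (l * x) + b * (l * y) = -x := by rw [← hl1, ← hl2]; exact hAz
        linear_combination this + l * hz - l * hl1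
      have e2 : l ^ 2 * y = -y := by
        have : c * (l * x) + -a * (l * y) = -y := by rw [← hl1, ← hl2]; exact hAw
        linear_combination this + l * hw - l * hl2
      rcases hxy with hx | hy
      · exact neg_one_ns hF l (mul_right_cancel₀ hx (by linear_combination e1))
      · exact neg_one_ns hF l (mul_right_cancel₀ hy (by linear_combination e2))
    by_cases hx : x = 0
    · have hy : y ≠ 0 := by tauto
      have hz0 : z = 0 := by
        have : z * y = 0 := by linear_combination w * hx - h0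
        exact (mul_eq_zero.1 this).resolve_right hy
      exact key (w / y) (by rw [hz0, hx]; ring) (by field_simp)
    · exact key (z / x) (by field_simp) (by field_simp; linear_combination h0)
  obtain ⟨t, ht, ht1⟩ := sq_or hF hdet
  rcases ht1 with ht1 | ht1
  · refine ⟨x / t, z / t, y / t, w / t, by field_simp; linear_combination -ht1, Or.inl ⟨?_, ?_⟩⟩
    · ext i j
      fin_cases i <;> fin_cases j <;> simp
      · rw [hz]; ring
      · linear_combination hAz / t
      · rw [hw]; ring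
      · linear_combination hAw / t
    · ext i j
      fin_cases i <;> fin_cases j <;> simp
      · linear_combination hBx / t
      · linear_combination hBz / t
      · linear_combination hBy / t
      · linear_combination hBw / t
  · refine ⟨-x / t, z / t, -y / t, w / t, by field_simp; linear_combination -ht1, Or.inr ⟨?_, ?_⟩⟩
    · ext i j
      fin_cases i <;> fin_cases j <;> simp
      · rw [hz]; ring
      · linear_combination hAz / t
      · rw [hw]; ring
      · linear_combination hAw / t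
    · ext i j
      fin_cases i <;> fin_cases j <;> simp
      · linear_combination -hBx / t
      · linear_combination hBz / t
      · linear_combination -hBy / t
      · linear_combination hBw / t


abbrev PSL (F : Type*) [Field F] := Matrix.ProjectiveSpecialLinearGroup (Fin 2) F

def pr (F : Type*) [Field F] : Matrix.SpecialLinearGroup (Fin 2) F →* PSL F := QuotientGroup.mk' _

omit [Fintype F] in
theorem pr_surj : Function.Surjective (pr F) := QuotientGroup.mk'_surjective _

omit [Fintype F] in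
theorem pr_eq_one_iff {A : Matrix.SpecialLinearGroup (Fin 2) F} : pr F A = 1 ↔ A = 1 ∨ A = -1 := by
  rw [← ClassicalGeometry.PSL2Basic.mem_center_SL2_iff]
  exact QuotientGroup.eq_one_iff A

omit [Fintype F] in
theorem pr_eq_iff {A B : Matrix.SpecialLinearGroup (Fin 2) F} : pr F A = pr F B ↔ A = B ∨ A = -B := by
  have h : pr F A = pr F B ↔ pr F (A * B⁻¹) = 1 := by
    rw [map_mul, map_inv, mul_inv_eq_one]
  rw [h, pr_eq_one_iff]
  constructor
  · rintro (h | h)
    · left; exact mul_inv_eq_one.1 h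
    · right; rw [← neg_one_mul, ← h]; group
  · rintro (h | h)
    · left; rw [h]; group
    · right; rw [h]; simp

omit [Fintype F] in
theorem pr_neg (A : Matrix.SpecialLinearGroup (Fin 2) F) : pr F (-A) = pr F A := pr_eq_iff.2 (Or.inr rfl)

omit [Fintype F] in
theorem pr_eq_one_of_smul {A : Matrix.SpecialLinearGroup (Fin 2) F} {s r : F} (hs : s ≠ 0)
    (h : s • (A : Matrix (Fin 2) (Fin 2) F) = r • (1 : Matrix (Fin 2) (Fin 2) F)) : pr F A = 1 := by
  have hA : (A : Matrix (Fin 2) (Fin 2) F) = (s⁻¹ * r) • (1 : Matrix (Fin 2) (Fin 2) F) := by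
    rw [mul_smul, ← h, smul_smul, inv_mul_cancel₀ hs, one_smul]
  have hcen : A ∈ Subgroup.center (Matrix.SpecialLinearGroup (Fin 2) F) := by
    rw [Subgroup.mem_center_iff]
    intro B
    apply Subtype.ext
    rw [Matrix.SpecialLinearGroup.coe_mul, Matrix.SpecialLinearGroup.coe_mul, hA]
    simp
  exact pr_eq_one_iff.2 (ClassicalGeometry.PSL2Basic.mem_center_SL2_iff.1 hcen)

abbrev tr (A : Matrix.SpecialLinearGroup (Fin 2) F) : F := (A : Matrix (Fin 2) (Fin 2) F).trace

omit [Fintype F] in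
theorem tr_neg (A : Matrix.SpecialLinearGroup (Fin 2) F) : tr (-A) = - tr A := by
  rw [tr, Matrix.SpecialLinearGroup.coe_neg, trace_neg]

omit [Fintype F] in
theorem tr_conj (A B : Matrix.SpecialLinearGroup (Fin 2) F) : tr (A * B * A⁻¹) = tr B := by
  rw [tr, Matrix.SpecialLinearGroup.coe_mul, Matrix.trace_mul_comm, ← Matrix.SpecialLinearGroup.coe_mul]
  simp

omit [Fintype F] in
theorem tr_sq (A : Matrix.SpecialLinearGroup (Fin 2) F) : tr (A ^ 2) = tr A ^ 2 - 2 := by
  have h1 := ClassicalGeometry.PSL2Basic.sl2_mul_self A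
  rw [tr, pow_two, Matrix.SpecialLinearGroup.coe_mul, h1, trace_sub, trace_smul, trace_one]
  simp
  ring

omit [Fintype F] in
theorem exists_lift_two {a : PSL F} (h2 : a ^ 2 = 1) (h1 : a ≠ 1) :
    ∃ A : Matrix.SpecialLinearGroup (Fin 2) F, pr F A = a ∧ tr A = 0 := by
  obtain ⟨A, rfl⟩ := pr_surj a
  refine ⟨A, rfl, ?_⟩
  by_contra h0
  apply h1
  have h := ClassicalGeometry.PSL2Basic.sl2_mul_self A
  rw [← Matrix.SpecialLinearGroup.coe_mul, ← pow_two] at h
  rw [← map_pow] at h2
  rcases pr_eq_one_iff.1 h2 with h3 | h3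
  · rw [h3, Matrix.SpecialLinearGroup.coe_one, eq_sub_iff_add_eq] at h
    refine pr_eq_one_of_smul h0 (r := 2) ?_
    rw [tr, ← h, two_smul]
  · rw [h3, Matrix.SpecialLinearGroup.coe_neg, Matrix.SpecialLinearGroup.coe_one, eq_sub_iff_add_eq] at h
    refine pr_eq_one_of_smul h0 (r := 0) ?_
    rw [tr, ← h]
    simp

theorem exists_lift_three (hF : Fintype.card F = 11) {b : PSL F} (h3 : b ^ 3 = 1) (h1 : b ≠ 1) :
    ∃ B : Matrix.SpecialLinearGroup (Fin 2) F, pr F B = b ∧ tr B = -1 := by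
  obtain ⟨B, hB, hB1⟩ : ∃ B : Matrix.SpecialLinearGroup (Fin 2) F, pr F B = b ∧ B ^ 3 = 1 := by
    obtain ⟨B, rfl⟩ := pr_surj b
    rw [← map_pow] at h3
    rcases pr_eq_one_iff.1 h3 with h | h
    · exact ⟨B, rfl, h⟩
    · refine ⟨-B, pr_neg B, ?_⟩
      rw [Odd.neg_pow (by decide), h, neg_neg]
  refine ⟨B, hB, ?_⟩
  by_contra h0
  apply h1
  rw [← hB]
  have h := ClassicalGeometry.PSL2Basic.sl2_mul_self B
  have h4 : (1 : Matrix (Fin 2) (Fin 2) F) = (tr B ^ 2 - 1) • (B : Matrix (Fin 2) (Fin 2) F) - (tr B) • 1 := by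
    calc (1 : Matrix (Fin 2) (Fin 2) F) = (B : Matrix (Fin 2) (Fin 2) F) * B * B := by
          rw [← Matrix.SpecialLinearGroup.coe_mul, ← Matrix.SpecialLinearGroup.coe_mul, ← Matrix.SpecialLinearGroup.coe_one, ← hB1, pow_succ, pow_two]
      _ = _ := by
          rw [h, sub_mul, smul_mul_assoc, h, one_mul, smul_sub, smul_smul]
          module
  by_cases h5 : tr B ^ 2 - 1 = 0
  · have h6 : (tr B - 1) * (tr B + 1) = 0 := by linear_combination h5
    rcases mul_eq_zero.1 h6 with h7 | h7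
    · exfalso
      rw [h5, zero_smul, zero_sub] at h4
      have h8 := congrFun (congrFun h4 0) 0
      simp at h8
      exact two_ne hF (by linear_combination h8 - h7)
    · exact absurd (by linear_combination h7) h0
  · refine pr_eq_one_of_smul h5 (r := 1 + tr B) ?_
    rw [add_smul, one_smul]
    exact (eq_sub_iff_add_eq.1 h4).symm

theorem lift_five (hF : Fintype.card F = 11) {C : Matrix.SpecialLinearGroup (Fin 2) F} (h5 : pr F C ^ 5 = 1) (h1 : pr F C ≠ 1) :
    (tr C = 7 ∨ tr C = 3) ∨ (tr (-C) = 7 ∨ tr (-C) = 3) := by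
  have h11 := eleven hF
  rw [← map_pow] at h5
  have h := S0804.pow_five_eq C
  have h0 : tr C ^ 4 - 3 * tr C ^ 2 + 1 = 0 := by
    by_contra h0
    apply h1
    rcases pr_eq_one_iff.1 h5 with h3 | h3
    · rw [h3, Matrix.SpecialLinearGroup.coe_one, eq_sub_iff_add_eq] at h
      refine pr_eq_one_of_smul h0 (r := 1 + (tr C ^ 3 - 2 * tr C)) ?_
      exact h.symm.trans (by module)
    · rw [h3, Matrix.SpecialLinearGroup.coe_neg, Matrix.SpecialLinearGroup.coe_one, eq_sub_iff_add_eq] at h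
      refine pr_eq_one_of_smul h0 (r := -1 + (tr C ^ 3 - 2 * tr C)) ?_
      exact h.symm.trans (by module)
  have h6 : ((tr C - 7) * (tr C - 3)) * ((tr C + 7) * (tr C + 3)) = 0 := by
    linear_combination h0 + (-5 * tr C ^ 2 + 40) * h11
  rcases mul_eq_zero.1 h6 with h7 | h7
  · left
    rcases mul_eq_zero.1 h7 with h8 | h8
    · left; linear_combination h8
    · right; linear_combination h8
  · right
    rw [tr_neg]
    rcases mul_eq_zero.1 h7 with h8 | h8
    · left; linear_combination -h8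
    · right; linear_combination -h8

def IsType (t : F) (a b : PSL F) : Prop :=
  ∃ A B : Matrix.SpecialLinearGroup (Fin 2) F, pr F A = a ∧ pr F B = b ∧ tr A = 0 ∧ tr B = -1 ∧ tr (A * B) = t

/-- every (2,3,5)-pair has type 7 or 3 -/
theorem type_or (hF : Fintype.card F = 11) {a b : PSL F} (ha2 : a ^ 2 = 1) (ha : a ≠ 1)
    (hb3 : b ^ 3 = 1) (hb : b ≠ 1) (hab5 : (a * b) ^ 5 = 1) (hab : a * b ≠ 1) :
    IsType 7 a b ∨ IsType 3 a b := by
  obtain ⟨A, rfl, hA⟩ := exists_lift_two ha2 ha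
  obtain ⟨B, rfl, hB⟩ := exists_lift_three hF hb3 hb
  rw [← map_mul] at hab5 hab
  rcases lift_five hF hab5 hab with (h | h) | (h | h)
  · exact Or.inl ⟨A, B, rfl, rfl, hA, hB, h⟩
  · exact Or.inr ⟨A, B, rfl, rfl, hA, hB, h⟩
  · refine Or.inl ⟨-A, B, pr_neg A, rfl, ?_, hB, ?_⟩
    · rw [tr_neg, hA, neg_zero]
    · rw [neg_mul]; exact h
  · refine Or.inr ⟨-A, B, pr_neg A, rfl, ?_, hB, ?_⟩
    · rw [tr_neg, hA, neg_zero]
    · rw [neg_mul]; exact h

omit [Fintype F] in
theorem IsType.conj {t : F} {a b : PSL F} (h : IsType t a b) (g : PSL F) :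
    IsType t (g * a * g⁻¹) (g * b * g⁻¹) := by
  obtain ⟨A, B, rfl, rfl, hA, hB, hAB⟩ := h
  obtain ⟨X, rfl⟩ := pr_surj g
  refine ⟨X * A * X⁻¹, X * B * X⁻¹, by simp, by simp, ?_, ?_, ?_⟩
  · rw [tr_conj, hA]
  · rw [tr_conj, hB]
  · rw [show X * A * X⁻¹ * (X * B * X⁻¹) = X * (A * B) * X⁻¹ by group, tr_conj, hAB]

omit [Fintype F] in
theorem tr_of_type {t : F} {a b : PSL F} (h : IsType t a b) {C : Matrix.SpecialLinearGroup (Fin 2) F} (hC : pr F C = a * b) :
    tr C = t ∨ tr C = -t := by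
  obtain ⟨A, B, rfl, rfl, hA, hB, hAB⟩ := h
  rw [← map_mul] at hC
  rcases pr_eq_iff.1 hC with h | h
  · left; rw [h, hAB]
  · right; rw [h, tr_neg, hAB]

omit [Fintype F] in
theorem type_swap {t s : F} {a b c d : PSL F} (h : IsType t a b) (h' : IsType s c d)
    (hc : ∃ g : PSL F, g * (c * d) * g⁻¹ = (a * b) ^ 2) : t ^ 2 - 2 = s ∨ t ^ 2 - 2 = -s := by
  obtain ⟨g, hg⟩ := hc
  obtain ⟨A, B, rfl, rfl, hA, hB, hAB⟩ := h
  obtain ⟨X, rfl⟩ := pr_surj g
  obtain ⟨C, D, rfl, rfl, hC, hD, hCD⟩ := h'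
  have h1 : pr F (X * (C * D) * X⁻¹) = pr F ((A * B) ^ 2) := by
    rw [map_pow, map_mul, map_mul, map_mul, map_mul, map_inv]; exact hg
  rw [← hAB, ← hCD, ← tr_sq, ← tr_conj X (C * D)]
  rcases pr_eq_iff.1 h1 with h2 | h2
  · left; rw [h2]
  · right; rw [h2, tr_neg, neg_neg]

theorem not_both_seven (hF : Fintype.card F = 11) {a b c d : PSL F} (h : IsType 7 a b) (h' : IsType 7 c d)
    (hc : ∃ g : PSL F, g * (c * d) * g⁻¹ = (a * b) ^ 2) : False := by
  have h11 := eleven hF
  have h2 := two_ne hF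
  rcases type_swap h h' hc with h3 | h3
  · exact h2 (by
      have h4 : (2 : F) * 2 = 0 := by linear_combination 4 * h11 - h3
      exact (mul_self_eq_zero.1 h4))
  · exact one_ne_zero (α := F) (by linear_combination 5 * h11 - h3)

theorem not_both_three (hF : Fintype.card F = 11) {a b c d : PSL F} (h : IsType 3 a b) (h' : IsType 3 c d)
    (hc : ∃ g : PSL F, g * (c * d) * g⁻¹ = (a * b) ^ 2) : False := by
  have h11 := eleven hF
  have h2 := two_ne hF
  rcases type_swap h h' hc with h3 | h3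
  · exact h2 (by
      have h4 : (2 : F) * 2 = 0 := by linear_combination h3
      exact (mul_self_eq_zero.1 h4))
  · exact one_ne_zero (α := F) (by linear_combination h11 - h3)


def A0 (F : Type*) [Field F] : Matrix.SpecialLinearGroup (Fin 2) F := ⟨!![0, -1; 1, 0], by simp [Matrix.det_fin_two]⟩
def A0' (F : Type*) [Field F] : Matrix.SpecialLinearGroup (Fin 2) F := ⟨!![0, 1; -1, 0], by simp [Matrix.det_fin_two]⟩

def B0 (hF : Fintype.card F = 11) : Matrix.SpecialLinearGroup (Fin 2) F :=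
  ⟨!![0, 4; -3, -1], by have := eleven hF; simp [Matrix.det_fin_two]; linear_combination this⟩
def B0' (hF : Fintype.card F = 11) : Matrix.SpecialLinearGroup (Fin 2) F :=
  ⟨!![0, -4; 3, -1], by have := eleven hF; simp [Matrix.det_fin_two]; linear_combination this⟩

/-- canonical form of a pair with traces 0, -1, 7 -/
theorem canonical (hF : Fintype.card F = 11) {A B : Matrix.SpecialLinearGroup (Fin 2) F}
    (hA : tr A = 0) (hB : tr B = -1) (hAB : tr (A * B) = 7) :
    ∃ h : Matrix.SpecialLinearGroup (Fin 2) F,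
      (A * h = h * A0 F ∧ B * h = h * B0 hF) ∨ (A * h = h * A0' F ∧ B * h = h * B0' hF) := by
  have hdA : A.1 0 0 * A.1 1 1 - A.1 0 1 * A.1 1 0 = 1 := by rw [← det_fin_two]; exact A.2
  have hdB : B.1 0 0 * B.1 1 1 - B.1 0 1 * B.1 1 0 = 1 := by rw [← det_fin_two]; exact B.2
  have hA' : A.1 0 0 + A.1 1 1 = 0 := by rw [← hA, tr, trace_fin_two]
  have hB' : B.1 0 0 + B.1 1 1 = -1 := by rw [← hB, tr, trace_fin_two]
  have hAB' : (A.1 0 0 * B.1 0 0 + A.1 0 1 * B.1 1 0) + (A.1 1 0 * B.1 0 1 + A.1 1 1 * B.1 1 1) = 7 := by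
    rw [← hAB, tr, trace_fin_two, Matrix.SpecialLinearGroup.coe_mul, mul_apply, mul_apply, Fin.sum_univ_two,
      Fin.sum_univ_two]
  have hA3 : A.1 = !![A.1 0 0, A.1 0 1; A.1 1 0, A.1 1 1] := by
    ext i j; fin_cases i <;> fin_cases j <;> rfl
  have hB3 : B.1 = !![B.1 0 0, B.1 0 1; B.1 1 0, B.1 1 1] := by
    ext i j; fin_cases i <;> fin_cases j <;> rfl
  obtain ⟨x, y, z, w, hd, h⟩ := canonical_aux hF hA' hdA hB' hdB hAB'
  rw [← hA3, ← hB3] at h
  refine ⟨⟨!![x, y; z, w], by rw [det_fin_two]; simpa using hd⟩, ?_⟩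
  rcases h with ⟨h1, h2⟩ | ⟨h1, h2⟩
  · left
    exact ⟨Subtype.ext h1, Subtype.ext h2⟩
  · right
    exact ⟨Subtype.ext h1, Subtype.ext h2⟩

def a0 (F : Type*) [Field F] : PSL F := pr F (A0 F)
def a0' (F : Type*) [Field F] : PSL F := pr F (A0' F)
def b0 (hF : Fintype.card F = 11) : PSL F := pr F (B0 hF)
def b0' (hF : Fintype.card F = 11) : PSL F := pr F (B0' hF)

theorem canonical_psl (hF : Fintype.card F = 11) {a b : PSL F} (h : IsType 7 a b) :
    ∃ g : PSL F, (g * a * g⁻¹ = a0 F ∧ g * b * g⁻¹ = b0 hF) ∨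
      (g * a * g⁻¹ = a0' F ∧ g * b * g⁻¹ = b0' hF) := by
  obtain ⟨A, B, rfl, rfl, hA, hB, hAB⟩ := h
  obtain ⟨h, ⟨h1, h2⟩ | ⟨h1, h2⟩⟩ := canonical hF hA hB hAB
  · refine ⟨pr F h⁻¹, Or.inl ⟨?_, ?_⟩⟩
    · rw [a0, ← map_inv, ← map_mul, ← map_mul, mul_assoc, inv_inv, h1]; congr 1; group
    · rw [b0, ← map_inv, ← map_mul, ← map_mul, mul_assoc, inv_inv, h2]; congr 1; group
  · refine ⟨pr F h⁻¹, Or.inr ⟨?_, ?_⟩⟩
    · rw [a0', ← map_inv, ← map_mul, ← map_mul, mul_assoc, inv_inv, h1]; congr 1; group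
    · rw [b0', ← map_inv, ← map_mul, ← map_mul, mul_assoc, inv_inv, h2]; congr 1; group

omit [Fintype F] in
theorem tr_mul (A B : Matrix.SpecialLinearGroup (Fin 2) F) :
    tr (A * B) = (A.1 0 0 * B.1 0 0 + A.1 0 1 * B.1 1 0) + (A.1 1 0 * B.1 0 1 + A.1 1 1 * B.1 1 1) := by
  rw [tr, trace_fin_two, Matrix.SpecialLinearGroup.coe_mul, mul_apply, mul_apply, Fin.sum_univ_two,
      Fin.sum_univ_two]

theorem type_a0 (hF : Fintype.card F = 11) : IsType 7 (a0 F) (b0 hF) := by
  refine ⟨A0 F, B0 hF, rfl, rfl, ?_, ?_, ?_⟩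
  · simp [tr, A0, trace_fin_two]
  · simp [tr, B0, trace_fin_two]
  · rw [tr_mul]
    simp [A0, B0]
    norm_num

theorem type_a0' (hF : Fintype.card F = 11) : IsType 7 (a0' F) (b0' hF) := by
  refine ⟨A0' F, B0' hF, rfl, rfl, ?_, ?_, ?_⟩
  · simp [tr, A0', trace_fin_two]
  · simp [tr, B0', trace_fin_two]
  · rw [tr_mul]
    simp [A0', B0']
    norm_num

/-- the two canonical pairs are not conjugate -/
theorem not_conj (hF : Fintype.card F = 11) (g : PSL F) (h1 : g * a0 F * g⁻¹ = a0' F)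
    (h2 : g * b0 hF * g⁻¹ = b0' hF) : False := by
  have h11 := eleven hF
  obtain ⟨X, rfl⟩ := pr_surj g
  have h1' : pr F (X * A0 F * X⁻¹) = pr F (A0' F) := by
    rw [map_mul, map_mul, map_inv]; exact h1
  have h2' : pr F (X * B0 hF * X⁻¹) = pr F (B0' hF) := by
    rw [map_mul, map_mul, map_inv]; exact h2
  have hBt : X * B0 hF * X⁻¹ = B0' hF := by
    rcases pr_eq_iff.1 h2' with h | h
    · exact h
    · exfalso
      have h3 := congrArg tr h
      rw [tr_conj, tr_neg] at h3
      simp only [tr, B0, B0', trace_fin_two] at h3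
      simp at h3
      exact two_ne hF (by linear_combination -h3)
  have hAt : X * A0 F * X⁻¹ = A0' F := by
    rcases pr_eq_iff.1 h1' with h | h
    · exact h
    · exfalso
      have h4 : tr (A0 F * B0 hF) = tr (-(A0' F * B0' hF)) := by
        have h5 : -(A0' F * B0' hF) = X * (A0 F * B0 hF) * X⁻¹ := by
          rw [← neg_mul, ← h, ← hBt]; group
        rw [h5, tr_conj]
      rw [tr_neg, tr_mul, tr_mul] at h4
      simp only [A0, B0, A0', B0'] at h4
      simp at h4
      have h5 : (14 : F) = 0 := by linear_combination h4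
      exact two_ne hF (by linear_combination 4 * h11 - 3 * h5)
  have e1 : X * A0 F = A0' F * X := by rw [← hAt]; group
  have e2 : X * B0 hF = B0' hF * X := by rw [← hBt]; group
  have e1' : (X : Matrix (Fin 2) (Fin 2) F) * !![0, -1; 1, 0] = !![0, 1; -1, 0] * (X : Matrix (Fin 2) (Fin 2) F) :=
    congrArg Subtype.val e1
  have e2' : (X : Matrix (Fin 2) (Fin 2) F) * !![0, 4; -3, -1] = !![0, -4; 3, -1] * (X : Matrix (Fin 2) (Fin 2) F) :=
    congrArg Subtype.val e2
  have hdX : (X : Matrix (Fin 2) (Fin 2) F) 0 0 * (X : Matrix (Fin 2) (Fin 2) F) 1 1 -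
      (X : Matrix (Fin 2) (Fin 2) F) 0 1 * (X : Matrix (Fin 2) (Fin 2) F) 1 0 = 1 := by
    rw [← det_fin_two]; exact X.2
  generalize (X : Matrix (Fin 2) (Fin 2) F) = M at e1' e2' hdX
  have f1 := congrFun (congrFun e1' 0) 0
  have f2 := congrFun (congrFun e1' 0) 1
  have f3 := congrFun (congrFun e2' 0) 0
  simp [mul_apply, Fin.sum_univ_two] at f1 f2 f3
  have g1 : M 0 1 = 0 := by linear_combination 4 * f1 - f3
  exact neg_one_ns hF (M 0 0) (by linear_combination -hdX - M 0 0 * f2 + (-M 1 0) * g1)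


omit [Fintype F] in
theorem tr_of_pr_one {A : Matrix.SpecialLinearGroup (Fin 2) F} (h : pr F A = 1) : tr A = 2 ∨ tr A = -2 := by
  rcases pr_eq_one_iff.1 h with h | h
  · left; rw [h, tr, Matrix.SpecialLinearGroup.coe_one, trace_one]; simp
  · right; rw [h, tr_neg, tr, Matrix.SpecialLinearGroup.coe_one, trace_one]; simp

theorem props_of_type (hF : Fintype.card F = 11) {a b : PSL F} (h : IsType 7 a b) :
    a ^ 2 = 1 ∧ a ≠ 1 ∧ b ^ 3 = 1 ∧ b ≠ 1 ∧ (a * b) ^ 5 = 1 ∧ a * b ≠ 1 := by
  have h11 := eleven hF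
  have h2 := two_ne hF
  obtain ⟨A, B, rfl, rfl, hA, hB, hAB⟩ := h
  refine ⟨?_, ?_, ?_, ?_, ?_, ?_⟩
  · rw [← map_pow, ClassicalGeometry.PSL2Basic.sl2_sq_of_trace_zero hA, pr_neg, map_one]
  · intro h
    rcases tr_of_pr_one h with h | h
    · exact h2 (by linear_combination hA - h)
    · exact h2 (by linear_combination h - hA)
  · rw [← map_pow, ClassicalGeometry.PSL2Basic.sl2_cube_of_trace_neg_one hB, map_one]
  · intro h
    rcases tr_of_pr_one h with h | h
    · exact h2 (by linear_combination 4 * h11 + 14 * h - 14 * hB)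
    · exact one_ne_zero (α := F) (by linear_combination h - hB)
  · rw [← map_mul, ← map_pow]
    have h5 : (A * B) ^ 5 = 1 := by
      apply Subtype.ext
      have h := S0804.pow_five_eq (A * B)
      rw [show ((A * B : Matrix.SpecialLinearGroup (Fin 2) F) : Matrix (Fin 2) (Fin 2) F).trace = 7 from hAB] at h
      rw [h, show (7 : F) ^ 4 - 3 * 7 ^ 2 + 1 = 0 by linear_combination 205 * h11,
        show (7 : F) ^ 3 - 2 * 7 = -1 by linear_combination 30 * h11]
      simp
    rw [h5, map_one]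
  · intro h
    rw [← map_mul] at h
    rcases tr_of_pr_one h with h | h
    · exact one_ne_zero (α := F) (by linear_combination h11 + 2 * hAB - 2 * h)
    · exact one_ne_zero (α := F) (by linear_combination 5 * h11 - 6 * h + 6 * hAB)

open AltFive in
theorem five_structure (hF : Fintype.card F = 11) (f : A5 →* PSL F) (hf : Function.Injective f) :
    ∃ y : A5, (y = y1 ∨ y = y2) ∧ IsType 7 (f x1) (f y) ∧
      ∀ a b : A5, IsType 7 (f a) (f b) → ∃ g : A5, g * a * g⁻¹ = x1 ∧ g * b * g⁻¹ = y := by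
  have hx : (f x1) ^ 2 = 1 := by rw [← map_pow, y1_facts.1, map_one]
  have hx1 : f x1 ≠ 1 := by
    rw [Ne, map_eq_one_iff f hf]; exact y1_facts.2.1
  have hT1 : IsType 7 (f x1) (f y1) ∨ IsType 3 (f x1) (f y1) := by
    apply type_or hF hx hx1
    · rw [← map_pow, y1_facts.2.2.1, map_one]
    · rw [Ne, map_eq_one_iff f hf]; exact y1_facts.2.2.2.1
    · rw [← map_mul, ← map_pow, y1_facts.2.2.2.2.1, map_one]
    · rw [← map_mul, Ne, map_eq_one_iff f hf]; exact y1_facts.2.2.2.2.2
  have hT2 : IsType 7 (f x1) (f y2) ∨ IsType 3 (f x1) (f y2) := by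
    apply type_or hF hx hx1
    · rw [← map_pow, y2_facts.1, map_one]
    · rw [Ne, map_eq_one_iff f hf]; exact y2_facts.2.1
    · rw [← map_mul, ← map_pow, y2_facts.2.2.1, map_one]
    · rw [← map_mul, Ne, map_eq_one_iff f hf]; exact y2_facts.2.2.2
  have hc : ∃ g : PSL F, g * (f x1 * f y2) * g⁻¹ = (f x1 * f y1) ^ 2 := by
    obtain ⟨g, hg⟩ := conj_y2
    refine ⟨f g, ?_⟩
    rw [← map_mul, ← map_mul, ← map_mul, ← map_inv, ← map_mul, ← map_pow, hg]
  have main : ∀ a b : A5, IsType 7 (f a) (f b) → ∃ g : A5, g * a * g⁻¹ = x1 ∧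
      ((g * b * g⁻¹ = y1 ∧ IsType 7 (f x1) (f y1)) ∨ (g * b * g⁻¹ = y2 ∧ IsType 7 (f x1) (f y2))) := by
    intro a b hab
    obtain ⟨p1, p2, p3, p4, p5, p6⟩ := props_of_type hF hab
    have q1 : a ^ 2 = 1 := hf (by rw [map_pow, p1, map_one])
    have q2 : a ≠ 1 := by rintro rfl; exact p2 (map_one f)
    have q3 : b ^ 3 = 1 := hf (by rw [map_pow, p3, map_one])
    have q4 : b ≠ 1 := by rintro rfl; exact p4 (map_one f)
    have q5 : (a * b) ^ 5 = 1 := hf (by rw [map_pow, map_mul, p5, map_one])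
    obtain ⟨g, hg⟩ := conj_inv a q1 q2
    obtain ⟨h, hh, hh1⟩ := conj_pair (g * b * g⁻¹) (by rw [conj_pow, q3]; group)
      (by intro h0; apply q4; have : b = g⁻¹ * (g * b * g⁻¹) * g := by group
          rw [this, h0]; group)
      (by rw [← hg, show g * a * g⁻¹ * (g * b * g⁻¹) = g * (a * b) * g⁻¹ by group, conj_pow, q5]; group)
    have e1 : (h * g) * a * (h * g)⁻¹ = x1 := by
      rw [← hh, ← hg]; group
    have e2 : (h * g) * b * (h * g)⁻¹ = h * (g * b * g⁻¹) * h⁻¹ := by group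
    refine ⟨h * g, e1, ?_⟩
    have hty := hab.conj (f (h * g))
    rw [← map_mul, ← map_mul, ← map_inv, ← map_mul, ← map_mul, e1, e2] at hty
    rcases hh1 with hh1 | hh1
    · left
      rw [hh1] at hty
      exact ⟨e2.trans hh1, hty⟩
    · right
      rw [hh1] at hty
      exact ⟨e2.trans hh1, hty⟩
  rcases hT1 with h7 | h3
  · refine ⟨y1, Or.inl rfl, h7, fun a b hab => ?_⟩
    obtain ⟨g, hg, ⟨h1, _⟩ | ⟨h1, h2⟩⟩ := main a b hab
    · exact ⟨g, hg, h1⟩
    · exact absurd (not_both_seven hF h7 h2 hc) id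
  · rcases hT2 with h7' | h3'
    · refine ⟨y2, Or.inr rfl, h7', fun a b hab => ?_⟩
      obtain ⟨g, hg, ⟨_, h2⟩ | ⟨h1, _⟩⟩ := main a b hab
      · exact absurd (not_both_seven hF h2 h7' hc) id
      · exact ⟨g, hg, h1⟩
    · exact absurd (not_both_three hF h3 h3' hc) id

end Cfsg.Agent.H163.PSLEleven
end

-- part: S2543
section
set_option autoImplicit false
open scoped Pointwise
open Cfsg

namespace Cfsg.Agent.S2543

open H163.PSLEleven H163.AltFive H163.TwoClasses

section

variable {F : Type*} [Field F] [Fintype F]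

theorem card_psl (hF : Fintype.card F = 11) : Nat.card (PSL F) = 660 := by
  have h := ClassicalGeometry.PSL2Basic.card_PSL2_odd (F := F) (by rw [hF]; decide)
  rw [hF] at h
  have h' : Nat.card (PSL F) * 2 = 11 * (11 ^ 2 - 1) := h
  omega

/-- conjugation of a closure of a pair -/
theorem conj_closure {G : Type*} [Group G] (g a b : G) :
    MulAut.conj g • Subgroup.closure {a, b} = Subgroup.closure {g * a * g⁻¹, g * b * g⁻¹} := by
  show Subgroup.map (MulAut.conj g).toMonoidHom _ = _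
  rw [MonoidHom.map_closure, Set.image_pair]
  rfl

/-- structure of an `A_5`-subgroup -/
theorem sub_structure (hF : Fintype.card F = 11) {L : Subgroup (PSL F)} (e : L ≃* A5) :
    ∃ a b : PSL F, Subgroup.closure {a, b} = L ∧ IsType 7 a b ∧
      ∀ c d : PSL F, c ∈ L → d ∈ L → IsType 7 c d → ∃ g : PSL F, g * c * g⁻¹ = a ∧ g * d * g⁻¹ = b := by
  let f : A5 →* PSL F := L.subtype.comp e.symm.toMonoidHom
  have hf : Function.Injective f := fun x y h => e.symm.injective (Subtype.ext h)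
  have hfe : ∀ (c : PSL F) (hc : c ∈ L), f (e ⟨c, hc⟩) = c := by
    intro c hc
    show ((e.symm (e ⟨c, hc⟩) : L) : PSL F) = c
    rw [e.symm_apply_apply]
  obtain ⟨y, hy, hty, huniq⟩ := five_structure hF f hf
  have htop : Subgroup.closure {x1, y} = ⊤ := by
    rcases hy with rfl | rfl
    · obtain ⟨p1, p2, p3, p4, p5, p6⟩ := y1_facts
      exact closure_eq_top p1 p2 p3 p4 p5 p6
    · obtain ⟨p3, p4, p5, p6⟩ := y2_facts
      exact closure_eq_top y1_facts.1 y1_facts.2.1 p3 p4 p5 p6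
  refine ⟨f x1, f y, ?_, hty, ?_⟩
  · have h1 : Subgroup.map f (Subgroup.closure {x1, y}) = Subgroup.closure {f x1, f y} := by
      rw [MonoidHom.map_closure, Set.image_pair]
    rw [← h1, htop, ← MonoidHom.range_eq_map]
    ext c
    constructor
    · rintro ⟨z, rfl⟩
      exact (e.symm z).2
    · intro hc
      exact ⟨e ⟨c, hc⟩, hfe c hc⟩
  · intro c d hc hd hcd
    obtain ⟨g, hg1, hg2⟩ := huniq (e ⟨c, hc⟩) (e ⟨d, hd⟩) (by rw [hfe, hfe]; exact hcd)
    refine ⟨f g, ?_, ?_⟩
    · rw [← hg1, map_mul, map_mul, map_inv, hfe]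
    · rw [← hg2, map_mul, map_mul, map_inv, hfe]

/-- the diagonal automorphism -/
def deltaSL (F : Type*) [Field F] : Matrix.SpecialLinearGroup (Fin 2) F ≃* Matrix.SpecialLinearGroup (Fin 2) F where
  toFun A := ⟨!![A 0 0, -A 0 1; -A 1 0, A 1 1], by
    have := A.2
    rw [Matrix.det_fin_two] at this
    rw [Matrix.det_fin_two]
    simp only [Matrix.of_apply, Matrix.cons_val', Matrix.cons_val_zero, Matrix.cons_val_one,
      Matrix.cons_val_fin_one]
    linear_combination this⟩
  invFun A := ⟨!![A 0 0, -A 0 1; -A 1 0, A 1 1], by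
    have := A.2
    rw [Matrix.det_fin_two] at this
    rw [Matrix.det_fin_two]
    simp only [Matrix.of_apply, Matrix.cons_val', Matrix.cons_val_zero, Matrix.cons_val_one,
      Matrix.cons_val_fin_one]
    linear_combination this⟩
  left_inv A := by
    ext i j
    fin_cases i <;> fin_cases j <;> simp
  right_inv A := by
    ext i j
    fin_cases i <;> fin_cases j <;> simp
  map_mul' A B := by
    apply Subtype.ext
    show !![(A.1 * B.1) 0 0, -(A.1 * B.1) 0 1; -(A.1 * B.1) 1 0, (A.1 * B.1) 1 1] =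
      !![A.1 0 0, -A.1 0 1; -A.1 1 0, A.1 1 1] * !![B.1 0 0, -B.1 0 1; -B.1 1 0, B.1 1 1]
    rw [Matrix.mul_fin_two]
    simp only [Matrix.mul_apply, Fin.sum_univ_two]
    ext i j
    fin_cases i <;> fin_cases j <;> simp <;> ring

omit [Fintype F] in
theorem delta_eq {A B : Matrix.SpecialLinearGroup (Fin 2) F} (h1 : A.1 0 0 = B.1 0 0) (h2 : -A.1 0 1 = B.1 0 1)
    (h3 : -A.1 1 0 = B.1 1 0) (h4 : A.1 1 1 = B.1 1 1) : deltaSL F A = B := by
  apply Subtype.ext
  show !![A.1 0 0, -A.1 0 1; -A.1 1 0, A.1 1 1] = B.1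
  ext i j
  fin_cases i <;> fin_cases j
  · exact h1
  · exact h2
  · exact h3
  · exact h4

theorem delta_exists (hF : Fintype.card F = 11) : ∃ δ : PSL F ≃* PSL F,
    δ (a0 F) = a0' F ∧ δ (b0 hF) = b0' hF ∧ δ (a0' F) = a0 F ∧ δ (b0' hF) = b0 hF := by
  let δ : PSL F ≃* PSL F := QuotientGroup.congr _ _ (deltaSL F) (by
    exact Subgroup.characteristic_iff_map_eq.1 inferInstance (deltaSL F))
  have hδ : ∀ A, δ (pr F A) = pr F (deltaSL F A) := fun A => rfl
  refine ⟨δ, ?_, ?_, ?_, ?_⟩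
  · rw [a0, hδ, delta_eq (B := A0' F)]
    · rfl
    all_goals simp [A0, A0']
  · rw [b0, hδ, delta_eq (B := B0' hF)]
    · rfl
    all_goals simp [B0, B0']
  · rw [a0', hδ, delta_eq (B := A0 F)]
    · rfl
    all_goals simp [A0, A0']
  · rw [b0', hδ, delta_eq (B := B0 hF)]
    · rfl
    all_goals simp [B0, B0']

end

/-- Let F be a field with 11 elements. PSL_2(F) has exactly 22 subgroups isomorphic to the alternating group A_5, and they form two conjugacy classes: there are two such subgroups that are not conjugate, and every such subgroup is conjugate to one of these two. -/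
theorem result {F : Type*} [Field F] [Fintype F] (hF : Fintype.card F = 11) : Nat.card {H : Subgroup (Matrix.ProjectiveSpecialLinearGroup (Fin 2) F) // Nonempty (H ≃* alternatingGroup (Fin 5))} = 22 ∧ ∃ H K : Subgroup (Matrix.ProjectiveSpecialLinearGroup (Fin 2) F), Nonempty (H ≃* alternatingGroup (Fin 5)) ∧ Nonempty (K ≃* alternatingGroup (Fin 5)) ∧ (∀ g : Matrix.ProjectiveSpecialLinearGroup (Fin 2) F, MulAut.conj g • H ≠ K) ∧ ∀ L : Subgroup (Matrix.ProjectiveSpecialLinearGroup (Fin 2) F), Nonempty (L ≃* alternatingGroup (Fin 5)) → ∃ g : Matrix.ProjectiveSpecialLinearGroup (Fin 2) F, MulAut.conj g • L = H ∨ MulAut.conj g • L = K := by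
  classical
  obtain ⟨L₀, ⟨e₀⟩⟩ := (S0804.result hF).2 (by norm_num)
  have hsimple : IsSimpleGroup (PSL F) := TwoFusion.SLTwoFacts.isSimpleGroup_psl (by omega)
  obtain ⟨δ, d1, d2, d3, d4⟩ := delta_exists hF
  set H : Subgroup (PSL F) := Subgroup.closure {a0 F, b0 hF} with hH
  set K : Subgroup (PSL F) := Subgroup.closure {a0' F, b0' hF} with hK
  have hδH : H.map δ.toMonoidHom = K := by
    rw [hH, MonoidHom.map_closure, Set.image_pair]
    show Subgroup.closure {δ (a0 F), δ (b0 hF)} = _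
    rw [d1, d2]
  have hδK : K.map δ.toMonoidHom = H := by
    rw [hK, MonoidHom.map_closure, Set.image_pair]
    show Subgroup.closure {δ (a0' F), δ (b0' hF)} = _
    rw [d3, d4]
  have eHK : Nonempty (H ≃* K) := ⟨(δ.subgroupMap H).trans (MulEquiv.subgroupCongr hδH)⟩
  -- every A5-subgroup is conjugate to one of H, K
  have hall : ∀ L : Subgroup (PSL F), Nonempty (L ≃* A5) →
      ∃ g : PSL F, MulAut.conj g • L = H ∨ MulAut.conj g • L = K := by
    rintro L ⟨e⟩
    obtain ⟨a, b, hab, hty, -⟩ := sub_structure hF e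
    obtain ⟨g, ⟨h1, h2⟩ | ⟨h1, h2⟩⟩ := canonical_psl hF hty
    · exact ⟨g, Or.inl (by rw [← hab, conj_closure, h1, h2])⟩
    · exact ⟨g, Or.inr (by rw [← hab, conj_closure, h1, h2])⟩
  have econj : ∀ (g : PSL F) (L : Subgroup (PSL F)), Nonempty (L ≃* (MulAut.conj g • L : Subgroup (PSL F))) :=
    fun g L => ⟨(MulAut.conj g).subgroupMap L⟩
  have hHK : Nonempty (H ≃* A5) ∧ Nonempty (K ≃* A5) := by
    obtain ⟨g, h | h⟩ := hall L₀ ⟨e₀⟩
    · obtain ⟨e1⟩ := econj g L₀
      obtain ⟨e2⟩ := eHK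
      rw [h] at e1
      exact ⟨⟨e1.symm.trans e₀⟩, ⟨(e2.symm.trans e1.symm).trans e₀⟩⟩
    · obtain ⟨e1⟩ := econj g L₀
      obtain ⟨e2⟩ := eHK
      rw [h] at e1
      exact ⟨⟨(e2.trans e1.symm).trans e₀⟩, ⟨e1.symm.trans e₀⟩⟩
  obtain ⟨⟨eH⟩, ⟨eK⟩⟩ := hHK
  have hne : ∀ g : PSL F, MulAut.conj g • H ≠ K := by
    intro g hg
    obtain ⟨a, b, hab, hty, hu⟩ := sub_structure hF eK
    have hK1 : a0' F ∈ K := Subgroup.subset_closure (by simp)
    have hK2 : b0' hF ∈ K := Subgroup.subset_closure (by simp)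
    have hG1 : g * a0 F * g⁻¹ ∈ K := by
      rw [← hg, hH, conj_closure]
      exact Subgroup.subset_closure (by simp)
    have hG2 : g * b0 hF * g⁻¹ ∈ K := by
      rw [← hg, hH, conj_closure]
      exact Subgroup.subset_closure (by simp)
    obtain ⟨x, hx1, hx2⟩ := hu _ _ hK1 hK2 (type_a0' hF)
    obtain ⟨y, hy1, hy2⟩ := hu _ _ hG1 hG2 ((type_a0 hF).conj g)
    apply not_conj hF (x⁻¹ * y * g)
    · have : x⁻¹ * y * g * a0 F * (x⁻¹ * y * g)⁻¹ = x⁻¹ * (y * (g * a0 F * g⁻¹) * y⁻¹) * x := by group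
      rw [this, hy1, ← hx1]; group
    · have : x⁻¹ * y * g * b0 hF * (x⁻¹ * y * g)⁻¹ = x⁻¹ * (y * (g * b0 hF * g⁻¹) * y⁻¹) * x := by group
      rw [this, hy2, ← hx2]; group
  have hcard : ∀ {L : Subgroup (PSL F)}, (L ≃* A5) → L.index = 11 := by
    intro L e
    have h1 := L.card_mul_index
    rw [Nat.card_congr e.toEquiv, card_A5, card_psl hF] at h1
    omega
  have hnorm : ∀ {L : Subgroup (PSL F)}, (L ≃* A5) → Subgroup.normalizer (L : Set (PSL F)) = L := by
    intro L e
    have h1 := Subgroup.relIndex_mul_index (Subgroup.le_normalizer (H := L))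
    rw [hcard e] at h1
    have h2 : (Subgroup.normalizer (L : Set (PSL F))).index ∣ 11 := ⟨_, by rw [mul_comm]; exact h1.symm⟩
    rcases (Nat.dvd_prime (by norm_num)).1 h2 with h | h
    · exfalso
      have hn : L.Normal := by
        rw [← Subgroup.normalizer_eq_top_iff]
        exact Subgroup.index_eq_one.1 h
      have hc := hcard e
      have hcA := Nat.card_congr e.toEquiv
      rcases hsimple.eq_bot_or_eq_top_of_normal L hn with h3 | h3
      · rw [h3, card_A5] at hcA
        simp at hcA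
      · rw [h3, Subgroup.index_top] at hc
        exact absurd hc (by norm_num)
    · rw [h] at h1
      have h3 : L.relIndex (Subgroup.normalizer (L : Set (PSL F))) = 1 := by omega
      exact le_antisymm (Subgroup.relIndex_eq_one.1 h3) Subgroup.le_normalizer
  refine ⟨?_, H, K, ⟨eH⟩, ⟨eK⟩, hne, hall⟩
  rw [card_two_classes (fun L : Subgroup (PSL F) => Nonempty (L ≃* A5)) (hnorm eH) (hnorm eK) hne
    (fun L => ⟨hall L, ?_⟩), hcard eH, hcard eK]
  rintro ⟨g, h | h⟩
  · obtain ⟨e1⟩ := econj g L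
    rw [h] at e1
    exact ⟨e1.trans eH⟩
  · obtain ⟨e1⟩ := econj g L
    rw [h] at e1
    exact ⟨e1.trans eK⟩

end Cfsg.Agent.S2543
end
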