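import Mathlib
import Cfsg.Agent.H411.JordanSets
import Cfsg.Agent.H411.SteinerCount
import Cfsg.Agent.S0711
import Cfsg.Statements.S3620
set_option linter.all false

-- part: H411/JordanPrim
section
/-!
# A primitive group with a Jordan set of size less than half the degree contains the alternating group
-/

set_option autoImplicit false

namespace Cfsg.Agent.H411.JordanPrim

open MulAction Cfsg.Agent.H411.JordanSets
open scoped Pointwise

variable {G Ω : Type*} [Group G] [MulAction G Ω] [Fintype Ω] [DecidableEq Ω]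

theorem range_multiplyPretransitive {k : ℕ} (h : IsMultiplyPretransitive G Ω k) :
    IsMultiplyPretransitive (MulAction.toPermHom G Ω).range Ω k := by
  refine ⟨fun x y => ?_⟩
  obtain ⟨g, hg⟩ := h.exists_smul_eq x y
  refine ⟨⟨MulAction.toPermHom G Ω g, g, rfl⟩, ?_⟩
  rw [← hg]
  rfl

/-- the bound coming from Jordan's theorem S0711 -/
theorem card_ge {k : ℕ} (hk : 2 ≤ k) (hkn : k ≤ Fintype.card Ω)
    (h : IsMultiplyPretransitive G Ω k) (hA : ¬ alternatingGroup Ω ≤ (MulAction.toPermHom G Ω).range)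
    (Γ : Finset Ω) (hΓ : 2 ≤ Γ.card) (hJ : IsJ G (Γ : Set Ω)) : 2 * k - 2 ≤ Γ.card := by
  rcases Nat.lt_or_ge k 3 with h3 | h3
  · omega
  by_contra hlt
  push Not at hlt
  obtain ⟨a, ha, b, hb, hab⟩ := Finset.one_lt_card.mp hΓ
  obtain ⟨g, hg, hgab⟩ := hJ a (by simpa using ha) b (by simpa using hb)
  apply hA
  refine (Cfsg.Agent.S0711.result (MulAction.toPermHom G Ω).range h3 hkn
    (range_multiplyPretransitive h) (MulAction.toPermHom G Ω g) ⟨g, rfl⟩ ?_ ?_).2
  · intro h1
    have : (MulAction.toPermHom G Ω g) a = a := by rw [h1]; rfl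
    rw [MulAction.toPermHom_apply, MulAction.toPerm_apply, hgab] at this
    exact hab this.symm
  · refine lt_of_le_of_lt (Finset.card_le_card ?_) hlt
    intro x hx
    rw [Equiv.Perm.mem_support, MulAction.toPermHom_apply, MulAction.toPerm_apply] at hx
    by_contra hxΓ
    exact hx (hg x (by simpa using hxΓ))

/-- moving `k`-sets -/
theorem exists_move {k : ℕ} (h : IsMultiplyPretransitive G Ω k) (R R' : Finset Ω)
    (hR : R.card = k) (hR' : R'.card = k) : ∃ g : G, g • R = R' := by
  let e : Fin k ↪ Ω := (R.equivFinOfCardEq hR).symm.toEmbedding.trans (Function.Embedding.subtype _)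
  let e' : Fin k ↪ Ω := (R'.equivFinOfCardEq hR').symm.toEmbedding.trans (Function.Embedding.subtype _)
  obtain ⟨g, hg⟩ := h.exists_smul_eq e e'
  refine ⟨g, ?_⟩
  apply Finset.eq_of_subset_of_card_le
  · intro x hx
    rw [Finset.mem_smul_finset] at hx
    obtain ⟨y, hy, rfl⟩ := hx
    have h1 : e (R.equivFinOfCardEq hR ⟨y, hy⟩) = y := by
      simp [e]
    have h2 : g • e (R.equivFinOfCardEq hR ⟨y, hy⟩) = e' (R.equivFinOfCardEq hR ⟨y, hy⟩) := by
      rw [← hg]; rfl
    rw [h1] at h2
    rw [h2]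
    simp [e']
  · rw [Finset.card_smul_finset, hR, hR']

/-- extension of transitivity -/
theorem multiplyPretransitive_succ {k : ℕ} (h : IsMultiplyPretransitive G Ω k) (F : Finset Ω)
    (hF : F.card = k) (hJ : IsJ G ((Fᶜ : Finset Ω) : Set Ω)) :
    IsMultiplyPretransitive G Ω (k + 1) := by
  let e : Fin k ↪ Ω := (F.equivFinOfCardEq hF).symm.toEmbedding.trans (Function.Embedding.subtype _)
  have he : ∀ y ∈ F, ∃ i, e i = y := fun y hy => ⟨F.equivFinOfCardEq hF ⟨y, hy⟩, by simp [e]⟩
  have key : ∀ x : Fin (k + 1) ↪ Ω, ∃ g : G, (∀ i : Fin k, g • x i.castSucc = e i) ∧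
      g • x (Fin.last k) ∉ F := by
    intro x
    obtain ⟨g, hg⟩ := h.exists_smul_eq ((Fin.castSuccEmb).trans x) e
    have h1 : ∀ i : Fin k, g • x i.castSucc = e i := fun i => by rw [← hg]; rfl
    refine ⟨g, h1, fun hx => ?_⟩
    obtain ⟨i, hi⟩ := he _ hx
    rw [← h1 i] at hi
    have := x.injective (smul_left_cancel g hi)
    exact absurd this (Fin.castSucc_lt_last i).ne
  refine ⟨fun x y => ?_⟩
  obtain ⟨g₁, h1, h1'⟩ := key x
  obtain ⟨g₂, h2, h2'⟩ := key y
  obtain ⟨g, hg, hgx⟩ := hJ (g₁ • x (Fin.last k)) (by simpa using h1') (g₂ • y (Fin.last k))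
    (by simpa using h2')
  refine ⟨g₂⁻¹ * g * g₁, ?_⟩
  ext i
  change (g₂⁻¹ * g * g₁) • x i = y i
  rw [mul_smul, mul_smul, inv_smul_eq_iff]
  induction i using Fin.lastCases with
  | last => exact hgx
  | cast i =>
    rw [h1, h2]
    apply hg
    simp [e]

/-- **Marggraff's theorem for Jordan sets.** A primitive group with a Jordan set `Γ`,
`2 ≤ |Γ| < n/2`, induces the alternating group. -/
theorem alternating_le_of_isJ (hprim : IsPreprimitive G Ω) (Γ : Finset Ω) (hΓ : 2 ≤ Γ.card)
    (h2 : 2 * Γ.card < Fintype.card Ω) (hJ : IsJ G (Γ : Set Ω)) :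
    alternatingGroup Ω ≤ (MulAction.toPermHom G Ω).range := by
  classical
  by_contra hA
  have hcc : Γ.card + (Γᶜ).card = Fintype.card Ω := Finset.card_add_card_compl Γ
  -- 2-transitivity
  have h2t : IsMultiplyPretransitive G Ω 2 := by
    obtain ⟨n, hn⟩ : ∃ n, (Γᶜ).card = n + 1 := ⟨(Γᶜ).card - 1, by omega⟩
    refine hprim.is_two_pretransitive (s := ((Γ : Set Ω))ᶜ) (n := n) ?_ ?_ ?_
    · rw [← Finset.coe_compl, Set.ncard_coe_finset, hn]
    · rw [Nat.card_eq_fintype_card]; omega
    · exact isPretransitive_of_isJ hJ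
  -- the largest transitivity
  set k := Nat.findGreatest (fun k => IsMultiplyPretransitive G Ω k) (Fintype.card Ω) with hkdef
  have hk2 : 2 ≤ k := Nat.le_findGreatest (P := fun k => IsMultiplyPretransitive G Ω k)
    (by omega) h2t
  have hkt : IsMultiplyPretransitive G Ω k :=
    Nat.findGreatest_spec (P := fun k => IsMultiplyPretransitive G Ω k) (m := 2) (by omega) h2t
  have hkn : k ≤ Fintype.card Ω := Nat.findGreatest_le _
  have hkΓ : 2 * k - 2 ≤ Γ.card := card_ge hk2 hkn hkt hA Γ hΓ hJ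
  have hkmax : ¬ IsMultiplyPretransitive G Ω (k + 1) :=
    Nat.findGreatest_is_greatest (P := fun k => IsMultiplyPretransitive G Ω k)
      (n := Fintype.card Ω) (Nat.lt_succ_self _) (by omega)
  -- the largest Jordan set missing at least `k` points
  obtain ⟨J₀, hJ₀m, hJ₀max⟩ := Finset.exists_max_image
    (Finset.univ.filter fun J : Finset Ω => IsJ G (J : Set Ω) ∧ 2 ≤ J.card ∧ k ≤ (Jᶜ).card)
    Finset.card ⟨Γ, by simp only [Finset.mem_filter, Finset.mem_univ, true_and]
                       exact ⟨hJ, hΓ, by omega⟩⟩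
  simp only [Finset.mem_filter, Finset.mem_univ, true_and] at hJ₀m hJ₀max
  obtain ⟨hJ₀, hJ₀2, hJ₀k⟩ := hJ₀m
  have hcJ : J₀.card + (J₀ᶜ).card = Fintype.card Ω := Finset.card_add_card_compl J₀
  -- translates
  have htr : ∀ g : G, IsJ G ((g • J₀ : Finset Ω) : Set Ω) := fun g => by
    rw [Finset.coe_smul_finset]; exact hJ₀.smul g
  -- union of overlapping Jordan sets missing at least `k` points
  have hun : ∀ A B : Finset Ω, IsJ G (A : Set Ω) → IsJ G (B : Set Ω) → (A ∩ B).Nonempty →
      2 ≤ A.card → k ≤ ((A ∪ B)ᶜ).card → (A ∪ B).card ≤ J₀.card := by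
    intro A B hA' hB hAB hA2 hk
    apply hJ₀max
    refine ⟨?_, hA2.trans (Finset.card_le_card Finset.subset_union_left), hk⟩
    rw [Finset.coe_union]
    refine hA'.union hB ?_
    rw [← Finset.coe_inter]
    exact_mod_cast hAB
  -- an overlapping translate
  have hbig : Fintype.card Ω + 2 ≤ 2 * J₀.card + k := by
    have hnb : ¬ IsBlock G (J₀ : Set Ω) := by
      intro hb
      rcases hprim.isTrivialBlock_of_isBlock hb with h | h
      · have h1 : J₀.card ≤ 1 := Finset.card_le_one.mpr fun a ha b hb => h (by simpa using ha) (by simpa using hb)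
        omega
      · have h1 : J₀ = Finset.univ := by
          rw [← Finset.coe_univ] at h
          exact_mod_cast h
        rw [h1, Finset.compl_univ, Finset.card_empty] at hJ₀k
        omega
    rw [isBlock_iff_smul_eq_or_disjoint] at hnb
    push Not at hnb
    obtain ⟨g, hg1, hg2⟩ := hnb
    have hne : g • J₀ ≠ J₀ := fun h => hg1 (by rw [← Finset.coe_smul_finset, h])
    have hint : (J₀ ∩ g • J₀).Nonempty := by
      rw [← Finset.coe_smul_finset, Finset.disjoint_coe, Finset.disjoint_iff_inter_eq_empty] at hg2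
      rw [Finset.inter_comm]
      exact Finset.nonempty_iff_ne_empty.mpr hg2
    have hlt : J₀.card < (J₀ ∪ g • J₀).card := by
      apply Finset.card_lt_card
      refine Finset.ssubset_iff_subset_ne.mpr ⟨Finset.subset_union_left, fun h => hne ?_⟩
      have h' : g • J₀ ⊆ J₀ := by
        calc g • J₀ ⊆ J₀ ∪ g • J₀ := Finset.subset_union_right
          _ = J₀ := h.symm
      exact Finset.eq_of_subset_of_card_le h' (by rw [Finset.card_smul_finset])
    have hnk : ¬ k ≤ ((J₀ ∪ g • J₀)ᶜ).card := fun hk => by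
      have := hun J₀ (g • J₀) hJ₀ (htr g) hint hJ₀2 hk
      omega
    have h3 := Finset.card_union_add_card_inter J₀ (g • J₀)
    rw [Finset.card_smul_finset] at h3
    have h4 : (J₀ ∪ g • J₀).card + ((J₀ ∪ g • J₀)ᶜ).card = Fintype.card Ω :=
      Finset.card_add_card_compl _
    have h5 := Finset.card_pos.mpr hint
    omega
  -- the size of the flats
  have hf : k + 1 ≤ (J₀ᶜ).card := by
    rcases Nat.lt_or_ge k (J₀ᶜ).card with h | h
    · exact h
    · exfalso
      apply hkmax
      refine multiplyPretransitive_succ hkt (J₀ᶜ) (le_antisymm h hJ₀k) ?_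
      rw [compl_compl]
      exact hJ₀
  -- two translates with large common complement are equal
  have huniq' : ∀ g g' : G, k ≤ ((g • J₀ ∪ g' • J₀)ᶜ).card → g • J₀ = g' • J₀ := by
    intro g g' hk
    by_contra hne
    by_cases hint : (g • J₀ ∩ g' • J₀).Nonempty
    · have h3 := hun _ _ (htr g) (htr g') hint (by rw [Finset.card_smul_finset]; exact hJ₀2) hk
      apply hne
      have h4 : g • J₀ = g • J₀ ∪ g' • J₀ := by
        apply Finset.eq_of_subset_of_card_le Finset.subset_union_left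
        rw [Finset.card_smul_finset]; exact h3
      have h5 : g' • J₀ ⊆ g • J₀ := by
        calc g' • J₀ ⊆ g • J₀ ∪ g' • J₀ := Finset.subset_union_right
          _ = g • J₀ := h4.symm
      exact (Finset.eq_of_subset_of_card_le h5 (by
        rw [Finset.card_smul_finset, Finset.card_smul_finset])).symm
    · rw [Finset.not_nonempty_iff_eq_empty] at hint
      have h3 := Finset.card_union_add_card_inter (g • J₀) (g' • J₀)
      rw [hint, Finset.card_empty, Finset.card_smul_finset, Finset.card_smul_finset] at h3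
      have h4 : (g • J₀ ∪ g' • J₀).card + ((g • J₀ ∪ g' • J₀)ᶜ).card = Fintype.card Ω :=
        Finset.card_add_card_compl _
      omega
  -- the Steiner system
  set 𝓟 : Finset (Finset Ω) := Finset.univ.filter fun P => ∃ g : G, P = (g • J₀)ᶜ with h𝓟def
  have hmem : ∀ P, P ∈ 𝓟 ↔ ∃ g : G, P = (g • J₀)ᶜ := fun P => by simp [h𝓟def]
  have h𝓟c : ∀ P ∈ 𝓟, P.card = (J₀ᶜ).card := by
    intro P hP
    obtain ⟨g, rfl⟩ := (hmem P).mp hP
    rw [Finset.card_compl, Finset.card_smul_finset, Finset.card_compl]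
  have hex : ∀ R : Finset Ω, R.card = k → ∃ P ∈ 𝓟, R ⊆ P := by
    intro R hR
    obtain ⟨F', hF', hF'c⟩ := Finset.exists_subset_card_eq (s := J₀ᶜ) (n := k) hJ₀k
    obtain ⟨g, hg⟩ := exists_move hkt F' R hF'c hR
    refine ⟨(g • J₀)ᶜ, (hmem _).mpr ⟨g, rfl⟩, ?_⟩
    intro x hx
    rw [← hg, Finset.mem_smul_finset] at hx
    obtain ⟨y, hy, rfl⟩ := hx
    have := hF' hy
    rw [Finset.mem_compl] at this ⊢
    rwa [Finset.smul_mem_smul_finset_iff]
  have huniq : ∀ R : Finset Ω, R.card = k → ∀ P ∈ 𝓟, ∀ P' ∈ 𝓟, R ⊆ P → R ⊆ P' → P = P' := by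
    intro R hR P hP P' hP' hRP hRP'
    obtain ⟨g, rfl⟩ := (hmem P).mp hP
    obtain ⟨g', rfl⟩ := (hmem P').mp hP'
    rw [huniq' g g']
    rw [← hR, Finset.compl_union]
    exact Finset.card_le_card (Finset.subset_inter hRP hRP')
  have huniqge : ∀ R : Finset Ω, k ≤ R.card → ∀ P ∈ 𝓟, ∀ P' ∈ 𝓟, R ⊆ P → R ⊆ P' → P = P' := by
    intro R hR P hP P' hP' hRP hRP'
    obtain ⟨R', hR', hR'c⟩ := Finset.exists_subset_card_eq hR
    exact huniq R' hR'c P hP P' hP' (hR'.trans hRP) (hR'.trans hRP')
  have hsmul : ∀ (g : G) P, P ∈ 𝓟 → g • P ∈ 𝓟 := by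
    intro g P hP
    obtain ⟨g', rfl⟩ := (hmem P).mp hP
    rw [hmem]
    refine ⟨g * g', ?_⟩
    ext x
    rw [← Finset.inv_smul_mem_iff, Finset.mem_compl, Finset.mem_compl, mul_smul,
      ← Finset.inv_smul_mem_iff (a := g)]
  have hsub : ∀ P ∈ 𝓟, k ≤ (P ∩ Γᶜ).card → P ⊆ Γᶜ := by
    intro P hP hPk
    obtain ⟨g, hPg⟩ := (hmem P).mp hP
    by_cases hint : (g • J₀ ∩ Γ).Nonempty
    · have h3 := hun (g • J₀) Γ (htr g) hJ hint (by rw [Finset.card_smul_finset]; exact hJ₀2)
        (by rw [Finset.compl_union, ← hPg]; exact hPk)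
      have h4 : g • J₀ = g • J₀ ∪ Γ := by
        apply Finset.eq_of_subset_of_card_le Finset.subset_union_left
        rw [Finset.card_smul_finset]; exact h3
      rw [hPg, Finset.compl_subset_compl, h4]
      exact Finset.subset_union_right
    · exfalso
      rw [Finset.not_nonempty_iff_eq_empty] at hint
      have hΓP : Γ ⊆ P := by
        intro x hx
        rw [hPg, Finset.mem_compl]
        intro hx'
        have : x ∈ g • J₀ ∩ Γ := Finset.mem_inter.mpr ⟨hx', hx⟩
        rw [hint] at this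
        exact absurd this (Finset.notMem_empty x)
      have hδ : ∃ δ, δ ∉ P := by
        by_contra hall
        push Not at hall
        have h3 : P = Finset.univ := Finset.eq_univ_iff_forall.mpr hall
        have h4 := h𝓟c P hP
        rw [h3, Finset.card_univ] at h4
        omega
      obtain ⟨δ, hδP⟩ := hδ
      have hδΓ : δ ∉ Γ := fun h => hδP (hΓP h)
      obtain ⟨R', hR', hR'c⟩ := Finset.exists_subset_card_eq (s := P ∩ Γᶜ) (n := k - 2) (by omega)
      obtain ⟨γ, hγ, γ₁, hγ₁, hne⟩ := Finset.one_lt_card.mp hΓ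
      have hR'Γ : ∀ x ∈ R', x ∉ Γ := fun x hx => by
        have := hR' hx
        rw [Finset.mem_inter, Finset.mem_compl] at this
        exact this.2
      have hR'P : ∀ x ∈ R', x ∈ P := fun x hx => (Finset.mem_inter.mp (hR' hx)).1
      have hδR' : δ ∉ R' := fun h => hδP (hR'P δ h)
      have hcard : (insert γ (insert δ R')).card = k := by
        rw [Finset.card_insert_of_notMem, Finset.card_insert_of_notMem hδR', hR'c]
        · omega
        · rw [Finset.mem_insert, not_or]
          exact ⟨fun h => hδΓ (h ▸ hγ), fun h => hR'Γ γ h hγ⟩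
      obtain ⟨P', hP', hRP'⟩ := hex _ hcard
      have hγP' : γ ∈ P' := hRP' (Finset.mem_insert_self _ _)
      have hδP' : δ ∈ P' := hRP' (Finset.mem_insert_of_mem (Finset.mem_insert_self _ _))
      have hR'P' : R' ⊆ P' := fun x hx =>
        hRP' (Finset.mem_insert_of_mem (Finset.mem_insert_of_mem hx))
      -- a second point of `Γ`
      have hsec : ∃ γ' ∈ P', γ' ∈ Γ ∧ γ' ≠ γ := by
        by_contra hno
        push Not at hno
        have h3 : P' \ {γ} ⊆ Γᶜ := by
          intro x hx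
          rw [Finset.mem_sdiff, Finset.mem_singleton] at hx
          rw [Finset.mem_compl]
          exact fun hxΓ => hx.2 (hno x hx.1 hxΓ)
        have h4 : (P' \ {γ}).card + 1 = (J₀ᶜ).card := by
          rw [Finset.card_sdiff_of_subset (Finset.singleton_subset_iff.mpr hγP'),
            Finset.card_singleton, h𝓟c P' hP']
          omega
        obtain ⟨κ, hκ, hκγ⟩ := hJ γ (by simpa using hγ) γ₁ (by simpa using hγ₁)
        have h5 : P' = κ • P' := by
          apply huniqge (P' \ {γ}) (by omega) P' hP' _ (hsmul κ P' hP') Finset.sdiff_subset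
          intro x hx
          have hxΓ := h3 hx
          rw [Finset.mem_compl] at hxΓ
          have h6 := hκ x (by simpa using hxΓ)
          rw [← h6]
          exact Finset.smul_mem_smul_finset (Finset.sdiff_subset hx)
        have h6 : γ₁ ∈ P' := by
          rw [h5, ← hκγ]
          exact Finset.smul_mem_smul_finset hγP'
        exact hne (hno γ₁ h6 hγ₁).symm
      obtain ⟨γ', hγ'P', hγ'Γ, hγ'γ⟩ := hsec
      have hcard2 : (insert γ (insert γ' R')).card = k := by
        rw [Finset.card_insert_of_notMem, Finset.card_insert_of_notMem, hR'c]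
        · omega
        · exact fun h => hR'Γ γ' h hγ'Γ
        · rw [Finset.mem_insert, not_or]
          exact ⟨hγ'γ.symm, fun h => hR'Γ γ h hγ⟩
      have h7 : P = P' := by
        apply huniq _ hcard2 P hP P' hP'
        · intro x hx
          rcases Finset.mem_insert.mp hx with rfl | hx
          · exact hΓP hγ
          · rcases Finset.mem_insert.mp hx with rfl | hx
            · exact hΓP hγ'Γ
            · exact hR'P x hx
        · intro x hx
          rcases Finset.mem_insert.mp hx with rfl | hx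
          · exact hγP'
          · rcases Finset.mem_insert.mp hx with rfl | hx
            · exact hγ'P'
            · exact hR'P' hx
      exact hδP (h7 ▸ hδP')
  exact SteinerCount.steiner_main (Γᶜ) k (J₀ᶜ).card hk2 hf 𝓟 h𝓟c hex huniq hsub
    (by rw [compl_compl]; exact hkΓ) (by rw [compl_compl]; omega)

end Cfsg.Agent.H411.JordanPrim
end

-- part: H411/JordanQuasi
section
/-!
# A quasiprimitive group with a Jordan set of size less than half the degree is primitive
-/

set_option autoImplicit false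

namespace Cfsg.Agent.H411.JordanQuasi

open MulAction Cfsg.Agent.H411.JordanSets Equiv.Perm
open scoped Pointwise

section three

variable {S : Type*} [Fintype S] [DecidableEq S]

/-- An even permutation fixing `a` and moving the rest of `Γ` outside `Γ`. -/
theorem exists_alt (Γ : Finset S) (h2 : 2 * Γ.card < Fintype.card S) (hΓ : 2 ≤ Γ.card) (a : S)
    (ha : a ∈ Γ) : ∃ u : Equiv.Perm S, u ∈ alternatingGroup S ∧ u a = a ∧
      ∀ c ∈ Γ, c ≠ a → u c ∉ Γ := by
  have hcc : Γ.card + (Γᶜ).card = Fintype.card S := Finset.card_add_card_compl Γ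
  obtain ⟨ν, hν⟩ : ∃ ν, Γ.card = ν + 1 := ⟨Γ.card - 1, by omega⟩
  have h1 : (Γ.erase a).card = ν := by rw [Finset.card_erase_of_mem ha, hν]; rfl
  obtain ⟨T, hT, hTc⟩ := Finset.exists_subset_card_eq (s := Γᶜ) (n := ν) (by omega)
  let e₁ : Fin ν ↪ S := ((Γ.erase a).equivFinOfCardEq h1).symm.toEmbedding.trans
    (Function.Embedding.subtype _)
  let e₂ : Fin ν ↪ S := (T.equivFinOfCardEq hTc).symm.toEmbedding.trans
    (Function.Embedding.subtype _)
  have he₁ : ∀ i, e₁ i ∈ Γ.erase a := fun i => by simp [e₁, -Finset.mem_erase]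
  have he₂ : ∀ i, e₂ i ∈ T := fun i => by simp [e₂]
  have hmt := alternatingGroup.isMultiplyPretransitive S
  have hmt' : IsMultiplyPretransitive (alternatingGroup S) S (ν + 1) :=
    isMultiplyPretransitive_of_le (n := Nat.card S - 2)
      (by rw [Nat.card_eq_fintype_card]; omega) (Nat.sub_le _ _)
  let f₁ : Fin (ν + 1) ↪ S := ⟨Fin.cons a e₁, Fin.cons_injective_iff.mpr ⟨by
    rintro ⟨i, hi⟩
    have := he₁ i
    rw [hi] at this
    exact absurd rfl (Finset.mem_erase.mp this).1, e₁.injective⟩⟩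
  let f₂ : Fin (ν + 1) ↪ S := ⟨Fin.cons a e₂, Fin.cons_injective_iff.mpr ⟨by
    rintro ⟨i, hi⟩
    have := hT (he₂ i)
    rw [hi, Finset.mem_compl] at this
    exact this ha, e₂.injective⟩⟩
  obtain ⟨⟨u, hu⟩, hu'⟩ := hmt'.exists_smul_eq f₁ f₂
  refine ⟨u, hu, ?_, ?_⟩
  · have := DFunLike.congr_fun hu' 0
    exact this
  · intro c hc hca
    have hc' : c ∈ Γ.erase a := Finset.mem_erase.mpr ⟨hca, hc⟩
    set i := (Γ.erase a).equivFinOfCardEq h1 ⟨c, hc'⟩ with hi
    have h3 : e₁ i = c := by simp [e₁, hi]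
    have h4 := DFunLike.congr_fun hu' i.succ
    have h5 : f₁ i.succ = c := by
      change Fin.cons (α := fun _ => S) a e₁ i.succ = c
      rw [Fin.cons_succ, h3]
    have h6 : f₂ i.succ = e₂ i := by
      change Fin.cons (α := fun _ => S) a e₂ i.succ = _
      rw [Fin.cons_succ]
    have h7 : u (f₁ i.succ) = f₂ i.succ := h4
    rw [h5, h6] at h7
    rw [h7, ← Finset.mem_compl]
    exact hT (he₂ i)

end three

section cover

variable {G Ω S : Type*} [Group G] [MulAction G Ω] [MulAction G S] [Fintype S] [DecidableEq S]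

/-- Existence of an element inducing a 3-cycle downstairs and fixing all the points above the fixed
points of that 3-cycle. -/
theorem exists_three (π : Ω → S) (hπ : ∀ (g : G) ω, π (g • ω) = g • π ω)
    (hA : alternatingGroup S ≤ (MulAction.toPermHom G S).range)
    (Γ : Finset S) (h2 : 2 * Γ.card < Fintype.card S) (hΓ : 2 ≤ Γ.card)
    (x : G) (hx : ∀ ω, π ω ∉ Γ → x • ω = ω) (hx' : ∀ s, s ∉ Γ → x • s = s)
    (a : S) (ha : x • a ≠ a) :
    ∃ c : G, IsThreeCycle (MulAction.toPermHom G S c) ∧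
      ∀ ω, MulAction.toPermHom G S c (π ω) = π ω → c • ω = ω := by
  have haΓ : a ∈ Γ := by
    by_contra h
    exact ha (hx' a h)
  obtain ⟨u, hu, hua, hu'⟩ := exists_alt Γ h2 hΓ a haΓ
  obtain ⟨h, rfl⟩ := hA hu
  simp only [MulAction.toPermHom_apply, MulAction.toPerm_apply] at hua hu'
  -- the elements preserve the sets
  have hxΓ : ∀ s, s ∈ Γ → x • s ∈ Γ := by
    intro s hs
    by_contra hns
    have h1 := hx' _ hns
    exact hns ((smul_left_cancel x h1).symm ▸ hs)
  have hxi' : ∀ s, s ∉ Γ → x⁻¹ • s = s := fun s hs => by rw [inv_smul_eq_iff, hx' s hs]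
  have hxi : ∀ ω, π ω ∉ Γ → x⁻¹ • ω = ω := fun s hs => by rw [inv_smul_eq_iff, hx s hs]
  have hxiΓ : ∀ s, s ∈ Γ → x⁻¹ • s ∈ Γ := by
    intro s hs
    by_contra hns
    have h1 := hx' _ hns
    rw [smul_inv_smul] at h1
    exact hns (h1 ▸ hs)
  set y := h * x * h⁻¹ with hy
  -- the second Jordan set
  have hin : ∀ s, s ∈ Γ → h⁻¹ • s ∈ Γ → s = a := by
    intro s hs hs'
    by_contra hne
    have h1 : h⁻¹ • s ≠ a := fun h' => hne (by rw [← hua, ← h', smul_inv_smul])
    have h2 := hu' _ hs' h1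
    rw [smul_inv_smul] at h2
    exact h2 hs
  have hyS : ∀ s, h⁻¹ • s ∉ Γ → y • s = s := fun s hs => by
    rw [hy, mul_smul, mul_smul, hx' _ hs, smul_inv_smul]
  have hyiS : ∀ s, h⁻¹ • s ∉ Γ → y⁻¹ • s = s := fun s hs => by
    rw [inv_smul_eq_iff, hyS s hs]
  have hyΩ : ∀ ω, h⁻¹ • π ω ∉ Γ → y • ω = ω := fun ω hs => by
    rw [hy, mul_smul, mul_smul, hx _ (by rwa [hπ]), smul_inv_smul]
  have hyiΩ : ∀ ω, h⁻¹ • π ω ∉ Γ → y⁻¹ • ω = ω := fun ω hs => by
    rw [inv_smul_eq_iff, hyΩ ω hs]
  have hyim : ∀ s, h⁻¹ • s ∈ Γ → h⁻¹ • (y⁻¹ • s) ∈ Γ := by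
    intro s hs
    have : h⁻¹ • (y⁻¹ • s) = x⁻¹ • (h⁻¹ • s) := by
      rw [hy, ← mul_smul, ← mul_smul]
      congr 1
      group
    rw [this]
    exact hxiΓ _ hs
  have hya : y • a ≠ a := by
    intro h1
    apply ha
    rw [hy, mul_smul, mul_smul, inv_smul_eq_iff.mpr hua.symm] at h1
    have h3 : h • (x • a) = h • a := by rw [h1, hua]
    exact smul_left_cancel h h3
  have hhia : h⁻¹ • a = a := inv_smul_eq_iff.mpr hua.symm
  -- location of the three points
  have hxa : x • a ∈ Γ := hxΓ a haΓ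
  have hxan : h⁻¹ • (x • a) ∉ Γ := fun h1 => ha (hin _ hxa h1)
  have hyaΓ : h⁻¹ • (y • a) ∈ Γ := by
    rw [hy, mul_smul, mul_smul, inv_smul_smul, hhia]
    exact hxa
  have hyan : y • a ∉ Γ := fun h1 => hya (hin _ h1 hyaΓ)
  set c := x * y * x⁻¹ * y⁻¹ with hc
  have hcΩ : ∀ ω, π ω ≠ a → π ω ≠ x • a → π ω ≠ y • a → c • ω = ω := by
    intro ω h1 h2 h3
    have hcw : c • ω = x • (y • (x⁻¹ • (y⁻¹ • ω))) := by
      rw [hc, mul_smul, mul_smul, mul_smul]
    rw [hcw]
    by_cases hω : h⁻¹ • π ω ∈ Γ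
    · have hωΓ : π ω ∉ Γ := fun h' => h1 (hin _ h' hω)
      have h4 : π (y⁻¹ • ω) ∉ Γ := by
        rw [hπ]
        intro h'
        have h5 := hin _ h' (hyim _ hω)
        exact h3 (by rw [← h5, smul_inv_smul])
      rw [hxi _ h4, smul_inv_smul, hx _ hωΓ]
    · rw [hyiΩ _ hω]
      have h4 : h⁻¹ • π (x⁻¹ • ω) ∉ Γ := by
        rw [hπ]
        by_cases hωΓ : π ω ∈ Γ
        · intro h'
          have h5 := hin _ (hxiΓ _ hωΓ) h'
          exact h2 (by rw [← h5, smul_inv_smul])
        · rw [hxi' _ hωΓ]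
          exact hω
      rw [hyΩ _ h4, smul_inv_smul]
  have hcS : ∀ s, s ≠ a → s ≠ x • a → s ≠ y • a → c • s = s := by
    intro s h1 h2 h3
    have hcw : c • s = x • (y • (x⁻¹ • (y⁻¹ • s))) := by
      rw [hc, mul_smul, mul_smul, mul_smul]
    rw [hcw]
    by_cases hω : h⁻¹ • s ∈ Γ
    · have hωΓ : s ∉ Γ := fun h' => h1 (hin _ h' hω)
      have h4 : y⁻¹ • s ∉ Γ := by
        intro h'
        have h5 := hin _ h' (hyim _ hω)
        exact h3 (by rw [← h5, smul_inv_smul])
      rw [hxi' _ h4, smul_inv_smul, hx' _ hωΓ]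
    · rw [hyiS _ hω]
      have h4 : h⁻¹ • (x⁻¹ • s) ∉ Γ := by
        by_cases hωΓ : s ∈ Γ
        · intro h'
          have h5 := hin _ (hxiΓ _ hωΓ) h'
          exact h2 (by rw [← h5, smul_inv_smul])
        · rw [hxi' _ hωΓ]
          exact hω
      rw [hyS _ h4, smul_inv_smul]
  -- the action on the three points
  have hc1 : c • (x • a) = y • a := by
    have hcw : c • (x • a) = x • (y • (x⁻¹ • (y⁻¹ • (x • a)))) := by
      rw [hc, mul_smul, mul_smul, mul_smul]
    rw [hcw, hyiS _ hxan, inv_smul_smul, hx' _ hyan]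
  have hc2 : c • (y • a) = a := by
    have hcw : c • (y • a) = x • (y • (x⁻¹ • (y⁻¹ • (y • a)))) := by
      rw [hc, mul_smul, mul_smul, mul_smul]
    rw [hcw, inv_smul_smul]
    have h4 : h⁻¹ • (x⁻¹ • a) ∉ Γ := by
      intro h'
      have h5 := hin _ (hxiΓ _ haΓ) h'
      rw [inv_smul_eq_iff] at h5
      exact ha h5.symm
    rw [hyS _ h4, smul_inv_smul]
  have hc3 : c • a = x • a := by
    have hcw : c • a = x • (y • (x⁻¹ • (y⁻¹ • a))) := by
      rw [hc, mul_smul, mul_smul, mul_smul]
    have h4 : y⁻¹ • a ∉ Γ := by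
      intro h'
      have h5 := hin _ h' (hyim _ (by rw [hhia]; exact haΓ))
      rw [inv_smul_eq_iff] at h5
      exact hya h5.symm
    rw [hcw, hxi' _ h4, smul_inv_smul]
  have hxy : x • a ≠ y • a := fun h' => hyan (h' ▸ hxa)
  refine ⟨c, ?_, ?_⟩
  · rw [← card_support_eq_three_iff]
    have hs : (MulAction.toPermHom G S c).support = {a, x • a, y • a} := by
      ext s
      rw [mem_support, MulAction.toPermHom_apply, MulAction.toPerm_apply]
      simp only [Finset.mem_insert, Finset.mem_singleton]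
      constructor
      · intro h1
        by_contra h2
        push Not at h2
        exact h1 (hcS s h2.1 h2.2.1 h2.2.2)
      · rintro (rfl | rfl | rfl)
        · rw [hc3]; exact ha
        · rw [hc1]; exact hxy.symm
        · rw [hc2]; exact hya.symm
    rw [hs, Finset.card_eq_three]
    exact ⟨a, x • a, y • a, ha.symm, hya.symm, hxy, rfl⟩
  · intro ω hω
    rw [MulAction.toPermHom_apply, MulAction.toPerm_apply] at hω
    apply hcΩ
    · intro h'; rw [h', hc3] at hω; exact ha hω
    · intro h'; rw [h', hc1] at hω; exact hxy hω.symm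
    · intro h'; rw [h', hc2] at hω; exact hya hω.symm

/-- The covering `π` is injective. -/
theorem injective_of_quasi (π : Ω → S) (hπ : ∀ (g : G) ω, π (g • ω) = g • π ω)
    (hf : ∀ g : G, (∀ s : S, g • s = s) → g = 1)
    (hqp : ∀ N : Subgroup G, N.Normal → N ≠ ⊥ → MulAction.IsPretransitive ↥N Ω)
    (hA : alternatingGroup S ≤ (MulAction.toPermHom G S).range)
    (Γ : Finset S) (h2 : 2 * Γ.card < Fintype.card S) (hΓ : 2 ≤ Γ.card)
    (x : G) (hx : ∀ ω, π ω ∉ Γ → x • ω = ω) (hx' : ∀ s, s ∉ Γ → x • s = s)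
    (a : S) (ha : x • a ≠ a) : Function.Injective π := by
  classical
  obtain ⟨c, hc3, hcf⟩ := exists_three π hπ hA Γ h2 hΓ x hx hx' a ha
  have hinj : Function.Injective (MulAction.toPermHom G S) := by
    rw [injective_iff_map_eq_one]
    intro g hg
    apply hf
    intro s
    have := DFunLike.congr_fun hg s
    simpa using this
  have h5 : 5 ≤ Nat.card S := by rw [Nat.card_eq_fintype_card]; omega
  -- every element inducing a 3-cycle
  have h3 : ∀ g : G, IsThreeCycle (MulAction.toPermHom G S g) →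
      ∀ ω, MulAction.toPermHom G S g (π ω) = π ω → g • ω = ω := by
    intro g hg ω hω
    have hcon := alternatingGroup.isThreeCycle_isConj h5
      (σ := ⟨_, hc3.mem_alternatingGroup⟩) (τ := ⟨_, hg.mem_alternatingGroup⟩) hc3 hg
    rw [isConj_iff] at hcon
    obtain ⟨⟨u, hu⟩, hu'⟩ := hcon
    obtain ⟨h, rfl⟩ := hA hu
    have h6 : MulAction.toPermHom G S h * MulAction.toPermHom G S c * (MulAction.toPermHom G S h)⁻¹ =
        MulAction.toPermHom G S g := congrArg Subtype.val hu'
    rw [← map_inv, ← map_mul, ← map_mul] at h6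
    have h7 := hinj h6
    have h8 : c • (h⁻¹ • ω) = h⁻¹ • ω := by
      apply hcf
      rw [hπ]
      rw [← h7] at hω
      simp only [MulAction.toPermHom_apply, MulAction.toPerm_apply, mul_smul] at hω ⊢
      rw [← eq_inv_smul_iff] at hω
      exact hω
    rw [← h7, mul_smul, mul_smul, h8, smul_inv_smul]
  -- even permutations fixing a point
  have h4 : ∀ (β : S) (σ : Equiv.Perm {s // s ≠ β}), σ ∈ alternatingGroup {s // s ≠ β} →
      ∀ g : G, MulAction.toPermHom G S g = ofSubtype σ → ∀ ω, π ω = β → g • ω = ω := by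
    intro β σ hσ
    rw [← closure_three_cycles_eq_alternating] at hσ
    induction hσ using Subgroup.closure_induction with
    | mem τ hτ =>
      intro g hg ω hω
      have hτ' : IsThreeCycle τ := hτ
      apply h3 g
      · rw [hg, IsThreeCycle, cycleType_ofSubtype]
        exact hτ'
      · rw [hg, hω]
        exact ofSubtype_apply_of_not_mem τ (by simp)
    | one =>
      intro g hg ω _
      rw [map_one] at hg
      have := hinj (hg.trans (map_one _).symm)
      rw [this, one_smul]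
    | mul σ τ hσ hτ ih1 ih2 =>
      intro g hg ω hω
      have hσ' : ofSubtype σ ∈ alternatingGroup S := by
        rw [closure_three_cycles_eq_alternating] at hσ
        rw [mem_alternatingGroup] at hσ ⊢
        rw [sign_ofSubtype, hσ]
      have hτ' : ofSubtype τ ∈ alternatingGroup S := by
        rw [closure_three_cycles_eq_alternating] at hτ
        rw [mem_alternatingGroup] at hτ ⊢
        rw [sign_ofSubtype, hτ]
      obtain ⟨g₁, hg₁⟩ := hA hσ'
      obtain ⟨g₂, hg₂⟩ := hA hτ'
      have : g = g₁ * g₂ := by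
        apply hinj
        rw [hg, map_mul, map_mul, hg₁, hg₂]
      rw [this, mul_smul, ih2 g₂ hg₂ ω hω, ih1 g₁ hg₁ ω hω]
    | inv σ hσ ih =>
      intro g hg ω hω
      have : g⁻¹ • ω = ω := ih g⁻¹ (by rw [map_inv, hg, map_inv, inv_inv]) ω hω
      rw [← this, smul_inv_smul, this]
  -- the normal subgroup
  let N : Subgroup G := (alternatingGroup S).comap (MulAction.toPermHom G S)
  have hN : N.Normal := inferInstance
  have hcN : c ∈ N := hc3.mem_alternatingGroup
  have hN1 : N ≠ ⊥ := by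
    intro h
    rw [h, Subgroup.mem_bot] at hcN
    rw [hcN, map_one] at hc3
    have := hc3.card_support
    simp at this
  have hNt := hqp N hN hN1
  intro ω ω' hωω'
  obtain ⟨⟨n, hn⟩, hnω⟩ := hNt.exists_smul_eq ω ω'
  have hnω' : n • ω = ω' := hnω
  have hnβ : MulAction.toPermHom G S n (π ω) = π ω := by
    rw [MulAction.toPermHom_apply, MulAction.toPerm_apply, ← hπ, hnω', hωω']
  have hp : ∀ s, s ≠ π ω ↔ MulAction.toPermHom G S n s ≠ π ω := by
    intro s
    constructor
    · intro h1 h2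
      exact h1 ((MulAction.toPermHom G S n).injective (h2.trans hnβ.symm))
    · rintro h1 rfl
      exact h1 hnβ
  have h8 : n • ω = ω := by
    refine h4 (π ω) ((MulAction.toPermHom G S n).subtypePerm fun s => (hp s).symm) ?_ n ?_ ω rfl
    · rw [mem_alternatingGroup, sign_subtypePerm]
      · exact hn
      · intro s hs hs'
        exact hs (hs' ▸ hnβ)
    · rw [ofSubtype_subtypePerm]
      intro s hs hs'
      exact hs (hs' ▸ hnβ)
  rw [← hnω', h8]

end cover

end Cfsg.Agent.H411.JordanQuasi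
end

-- part: H411/JordanFinal
section
/-!
# Quasiprimitive groups with a Jordan set of size less than half the degree
-/

set_option autoImplicit false

namespace Cfsg.Agent.H411.JordanFinal

open MulAction Cfsg.Agent.H411.JordanSets Equiv.Perm
open scoped Pointwise

variable {G Ω : Type*} [Group G] [MulAction G Ω]

/-- A maximal block system: an equivariant map onto the cosets of a maximal subgroup containing a
point stabilizer. -/
theorem exists_map [IsPretransitive G Ω] (ω₀ : Ω) (M : Subgroup G) (hM : stabilizer G ω₀ ≤ M) :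
    ∃ π : Ω → G ⧸ M, (∀ (g : G) ω, π (g • ω) = g • π ω) ∧ π ω₀ = ((1 : G) : G ⧸ M) := by
  choose c hc using fun ω => exists_smul_eq G ω₀ ω
  have key : ∀ (g g' : G), g • ω₀ = g' • ω₀ → (g : G ⧸ M) = (g' : G ⧸ M) := by
    intro g g' h
    rw [QuotientGroup.eq]
    apply hM
    rw [mem_stabilizer_iff, mul_smul, inv_smul_eq_iff, h]
  refine ⟨fun ω => (c ω : G ⧸ M), fun g ω => ?_, ?_⟩
  · change ((c (g • ω) : G) : G ⧸ M) = ((g * c ω : G) : G ⧸ M)
    apply key
    rw [hc, mul_smul, hc]
  · apply key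
    rw [hc, one_smul]

theorem main [Finite G] [FaithfulSMul G Ω] [Fintype Ω] [DecidableEq Ω]
    (hqp : ∀ N : Subgroup G, N.Normal → N ≠ ⊥ → MulAction.IsPretransitive ↥N Ω)
    (Γ : Finset Ω) (hΓ1 : 2 ≤ Γ.card) (hΓ2 : 2 * Γ.card < Fintype.card Ω)
    (hJ : IsJ G (Γ : Set Ω)) : alternatingGroup Ω ≤ (MulAction.toPermHom G Ω).range := by
  classical
  obtain ⟨a, ha, b, hb, hab⟩ := Finset.one_lt_card.mp hΓ1
  obtain ⟨k₀, hk₀, hk₀a⟩ := hJ a (by simpa using ha) b (by simpa using hb)
  have hk₀' : ∀ z, z ∉ Γ → k₀ • z = z := fun z hz => hk₀ z (by simpa using hz)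
  have hk₀1 : k₀ ≠ 1 := by
    rintro rfl
    exact hab (by simpa using hk₀a)
  have hGtop : (⊤ : Subgroup G) ≠ ⊥ := fun h => by
    have : k₀ ∈ (⊥ : Subgroup G) := h ▸ Subgroup.mem_top _
    exact hk₀1 (Subgroup.mem_bot.mp this)
  have hGt : IsPretransitive G Ω := by
    have := hqp ⊤ inferInstance hGtop
    refine ⟨fun x y => ?_⟩
    obtain ⟨g, hg⟩ := this.exists_smul_eq x y
    exact ⟨g, hg⟩
  have : Nontrivial Ω := ⟨a, b, hab⟩
  have hst : stabilizer G a ≠ ⊤ := by
    intro h
    have : k₀ ∈ stabilizer G a := h ▸ Subgroup.mem_top _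
    rw [mem_stabilizer_iff, hk₀a] at this
    exact hab this.symm
  obtain ⟨M, hMc, hMs⟩ := (eq_top_or_exists_le_coatom (stabilizer G a)).resolve_left hst
  obtain ⟨π, hπ, hπa⟩ := exists_map a M hMs
  -- if `π` is injective then the group is primitive
  suffices hinj : Function.Injective π by
    have hMeq : stabilizer G a = M := by
      apply le_antisymm hMs
      intro m hm
      rw [mem_stabilizer_iff]
      apply hinj
      rw [hπ, hπa]
      change ((m * 1 : G) : G ⧸ M) = _
      rw [mul_one]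
      exact (QuotientGroup.eq.mpr (by simpa using hm)).symm
    have hprim : IsPreprimitive G Ω := by
      rw [← isCoatom_stabilizer_iff_preprimitive G a, hMeq]
      exact hMc
    exact JordanPrim.alternating_le_of_isJ hprim Γ hΓ1 hΓ2 hJ
  haveI : Fintype (G ⧸ M) := Fintype.ofFinite _
  -- faithfulness
  have hf : ∀ g : G, (∀ s : G ⧸ M, g • s = s) → g = 1 := by
    have hker : (MulAction.toPermHom G (G ⧸ M)).ker = ⊥ := by
      by_contra hne
      have hNt := hqp _ inferInstance hne
      apply hMc.1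
      rw [Subgroup.eq_top_iff']
      intro g
      obtain ⟨⟨n, hn⟩, hna⟩ := hNt.exists_smul_eq a (g • a)
      have hna' : n • a = g • a := hna
      have h1 : n • π a = π a := by
        rw [MonoidHom.mem_ker] at hn
        have := DFunLike.congr_fun hn (π a)
        simpa using this
      have h2 : g • π a = π a := by rw [← hπ, ← hna', hπ, h1]
      rw [hπa] at h2
      have h3 : ((g * 1 : G) : G ⧸ M) = ((1 : G) : G ⧸ M) := h2
      rw [mul_one, eq_comm, QuotientGroup.eq] at h3
      simpa using h3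
    intro g hg
    have : g ∈ (MulAction.toPermHom G (G ⧸ M)).ker := by
      rw [MonoidHom.mem_ker]
      ext s
      simpa using hg s
    rwa [hker, Subgroup.mem_bot] at this
  have hsurj : Function.Surjective π := by
    intro s
    obtain ⟨g, rfl⟩ := QuotientGroup.mk_surjective s
    refine ⟨g • a, ?_⟩
    rw [hπ, hπa]
    change ((g * 1 : G) : G ⧸ M) = _
    rw [mul_one]
  -- saturation
  have hsat : ∀ ω ∈ Γ, ∀ ω', π ω' = π ω → ω' ∈ Γ := by
    intro ω hω ω' hωω'
    by_contra hω'
    have h1 : ∀ y ∈ Γ, π y = π ω := by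
      intro y hy
      obtain ⟨κ, hκ, hκy⟩ := hJ ω (by simpa using hω) y (by simpa using hy)
      rw [← hκy, hπ, ← hωω', ← hπ, hκ ω' (by simpa using hω')]
    apply hk₀1
    apply hf
    intro s
    by_cases hs : ∃ y, y ∉ Γ ∧ π y = s
    · obtain ⟨y, hy, rfl⟩ := hs
      rw [← hπ, hk₀' y hy]
    · push Not at hs
      obtain ⟨y, rfl⟩ := hsurj s
      have hy : y ∈ Γ := by
        by_contra hy
        exact hs y hy rfl
      exact absurd (hωω'.trans (h1 y hy).symm) (hs ω' hω')
  set Γ' : Finset (G ⧸ M) := Γ.image π with hΓ'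
  have hmem : ∀ ω, π ω ∈ Γ' ↔ ω ∈ Γ := by
    intro ω
    rw [hΓ', Finset.mem_image]
    constructor
    · rintro ⟨y, hy, hyω⟩
      exact hsat y hy ω hyω.symm
    · exact fun h => ⟨ω, h, rfl⟩
  have hJ' : IsJ G (Γ' : Set (G ⧸ M)) := by
    intro x hx y hy
    obtain ⟨x, rfl⟩ := hsurj x
    obtain ⟨y, rfl⟩ := hsurj y
    rw [Finset.mem_coe, hmem] at hx hy
    obtain ⟨κ, hκ, hκy⟩ := hJ x (by simpa using hx) y (by simpa using hy)
    refine ⟨κ, fun z hz => ?_, ?_⟩
    · obtain ⟨z, rfl⟩ := hsurj z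
      rw [Finset.mem_coe, hmem] at hz
      rw [← hπ, hκ z (by simpa using hz)]
    · rw [← hπ, hκy]
  have hk₀S : ∀ s, s ∉ Γ' → k₀ • s = s := by
    intro s hs
    obtain ⟨z, rfl⟩ := hsurj s
    rw [hmem] at hs
    rw [← hπ, hk₀' z hs]
  -- `k₀` moves a point of `S`
  have hmv : ∃ s : G ⧸ M, k₀ • s ≠ s := by
    by_contra h
    push Not at h
    exact hk₀1 (hf k₀ h)
  obtain ⟨s₀, hs₀⟩ := hmv
  have hs₀Γ : s₀ ∈ Γ' := by
    by_contra h
    exact hs₀ (hk₀S s₀ h)
  have hks₀Γ : k₀ • s₀ ∈ Γ' := by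
    by_contra h
    have := hk₀S _ h
    exact hs₀ (smul_left_cancel k₀ this)
  have hΓ'2 : 2 ≤ Γ'.card := Finset.one_lt_card.mpr ⟨_, hs₀Γ, _, hks₀Γ, hs₀.symm⟩
  -- fibres
  have hfib : ∀ s : G ⧸ M, (Finset.univ.filter fun ω => π ω = s).card =
      (Finset.univ.filter fun ω => π ω = π a).card := by
    intro s
    obtain ⟨y, rfl⟩ := hsurj s
    obtain ⟨g, rfl⟩ := exists_smul_eq G a y
    refine Finset.card_nbij' (fun ω => g⁻¹ • ω) (fun ω => g • ω) ?_ ?_ ?_ ?_
    · intro ω hω
      simp only [Finset.coe_filter, Finset.mem_univ, true_and, Set.mem_ofPred_eq] at hω ⊢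
      rw [hπ, hω, hπ, inv_smul_smul]
    · intro ω hω
      simp only [Finset.coe_filter, Finset.mem_univ, true_and, Set.mem_ofPred_eq] at hω ⊢
      rw [hπ, hω, hπ]
    · intro ω _
      simp
    · intro ω _
      simp
  set f := (Finset.univ.filter fun ω => π ω = π a).card with hfdef
  have hcΩ : Fintype.card Ω = Fintype.card (G ⧸ M) * f := by
    rw [← Finset.card_univ (α := Ω), Finset.card_eq_sum_card_fiberwise (f := π)
      (t := (Finset.univ : Finset (G ⧸ M))) (fun _ _ => by simp)]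
    rw [Finset.sum_congr rfl (fun s _ => hfib s), Finset.sum_const, Finset.card_univ, smul_eq_mul]
  have hcΓ : Γ.card = Γ'.card * f := by
    rw [Finset.card_eq_sum_card_fiberwise (f := π) (s := Γ)
      (t := Γ') (fun x hx => by simpa using (hmem x).mpr (by simpa using hx))]
    have : ∀ s ∈ Γ', (Γ.filter fun ω => π ω = s).card = f := by
      intro s hs
      rw [← hfib s]
      congr 1
      ext ω
      simp only [Finset.mem_filter, Finset.mem_univ, true_and, and_iff_right_iff_imp]
      rintro rfl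
      exact (hmem ω).mp hs
    rw [Finset.sum_congr rfl this, Finset.sum_const, smul_eq_mul]
  have hΓ'lt : 2 * Γ'.card < Fintype.card (G ⧸ M) := by
    rw [hcΩ, hcΓ, ← mul_assoc] at hΓ2
    exact lt_of_mul_lt_mul_right hΓ2 (Nat.zero_le _)
  -- primitivity on the quotient
  have : Nontrivial (G ⧸ M) := ⟨s₀, k₀ • s₀, hs₀.symm⟩
  have hprim : IsPreprimitive G (G ⧸ M) := by
    rw [← isCoatom_stabilizer_iff_preprimitive G ((1 : G) : G ⧸ M), stabilizer_quotient]
    exact hMc
  have hA := JordanPrim.alternating_le_of_isJ hprim Γ' hΓ'2 hΓ'lt hJ'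
  exact JordanQuasi.injective_of_quasi π hπ hf hqp hA Γ' hΓ'lt hΓ'2 k₀
    (fun ω hω => hk₀' ω (fun h => hω ((hmem ω).mpr h))) hk₀S s₀ hs₀

end Cfsg.Agent.H411.JordanFinal
end

-- part: S3620
section
set_option autoImplicit false
open Cfsg

namespace Cfsg.Agent.S3620

/-- Let G act faithfully on a finite set in such a way that every non-trivial normal subgroup of G is transitive (G is quasiprimitive). Let Γ be a subset with more than one point and fewer than half of the points, such that the pointwise stabilizer of the complement of Γ acts transitively on Γ. Then G induces every even permutation of the set (G is the alternating or the symmetric group). -/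
theorem result {G Ω : Type*} [Group G] [Finite G] [MulAction G Ω] [FaithfulSMul G Ω] [Fintype Ω] [DecidableEq Ω]
    (hqp : ∀ N : Subgroup G, N.Normal → N ≠ ⊥ → MulAction.IsPretransitive ↥N Ω)
    (Γ : Set Ω) (hΓ1 : 1 < Γ.ncard) (hΓ2 : 2 * Γ.ncard < Fintype.card Ω)
    (hJ : MulAction.IsPretransitive ↥(fixingSubgroup G Γᶜ) ↥(SubMulAction.ofFixingSubgroup G Γᶜ)) :
    ∀ σ : Equiv.Perm Ω, Equiv.Perm.sign σ = 1 → ∃ x : G, (MulAction.toPerm x : Equiv.Perm Ω) = σ := by
  classical
  have h := H411.JordanSets.isJ_of_isPretransitive hJ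
  have hc : ((Γ.toFinset : Finset Ω) : Set Ω) = Γ := Set.coe_toFinset Γ
  have hn : Γ.toFinset.card = Γ.ncard := by
    rw [← Set.ncard_coe_finset, hc]
  have hA := H411.JordanFinal.main hqp Γ.toFinset (by omega) (by omega) (by rwa [hc])
  intro σ hσ
  obtain ⟨x, hx⟩ := hA (Equiv.Perm.mem_alternatingGroup.mpr hσ)
  exact ⟨x, hx⟩

end Cfsg.Agent.S3620
end
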