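import Cfsg.Statements.S0498
import Cfsg.Agent.SmallSimple.PSL2Recog
set_option linter.all false

set_option autoImplicit false
open Cfsg

namespace Cfsg.Agent.S0498

theorem card_sylow_ne_one {G : Type*} [Group G] [Finite G] [IsSimpleGroup G] (p : ℕ) [Fact p.Prime]
    (hdvd : p ∣ Nat.card G) (hne : ∀ n, Nat.card G ≠ p ^ n) : Nat.card (Sylow p G) ≠ 1 := by
  intro h1
  obtain ⟨P⟩ : Nonempty (Sylow p G) := inferInstance
  have hN : P.Normal := by
    rw [Sylow.card_eq_index_normalizer P, Subgroup.index_eq_one] at h1
    exact Subgroup.normalizer_eq_top_iff.1 h1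
  rcases hN.eq_bot_or_eq_top with h | h
  · exact P.ne_bot_of_dvd_card hdvd h
  · obtain ⟨n, hn⟩ := P.isPGroup'.exists_card_eq
    apply hne n
    rw [← hn, h, Subgroup.card_top]

theorem card_sylow_dvd {G : Type*} [Group G] [Finite G] (p : ℕ) [Fact p.Prime] (m : ℕ)
    (hG : Nat.card G = p * m) (hm : ¬ p ∣ m) : Nat.card (Sylow p G) ∣ m := by
  obtain ⟨P⟩ : Nonempty (Sylow p G) := inferInstance
  have h1 := P.card_dvd_index
  have h2 : Nat.card P = p := by
    rw [P.card_eq_multiplicity, hG, Nat.factorization_mul (Fact.out : p.Prime).ne_zero (by rintro rfl; exact hm (dvd_zero _)),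
      Finsupp.add_apply, (Fact.out : p.Prime).factorization_self, Nat.factorization_eq_zero_of_not_dvd hm, add_zero, pow_one]
  have h3 := (P : Subgroup G).card_mul_index
  rw [h2, hG] at h3
  rwa [Nat.eq_of_mul_eq_mul_left (Fact.out : p.Prime).pos h3] at h1

/-- A simple group of order 660, respectively 1092, is isomorphic to the projective special linear group of dimension 2
over the field with 11, respectively 13, elements. -/
theorem result {G : Type*} [Group G] [Finite G] [IsSimpleGroup G] (p : ℕ)
    (hp : p = 11 ∨ p = 13) (h : 2 * Nat.card G = p * (p ^ 2 - 1)) {F : Type*} [Field F] [Fintype F]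
    (hF : Fintype.card F = p) : Nonempty (G ≃* Matrix.ProjectiveSpecialLinearGroup (Fin 2) F) := by
  have hpp : p.Prime := by rcases hp with rfl | rfl <;> norm_num
  have : Fact p.Prime := ⟨hpp⟩
  have hsyl : Nat.card (Sylow p G) = p + 1 := by
    have hmod := card_sylow_modEq_one p G
    have hne := card_sylow_ne_one (G := G) p
    rcases hp with rfl | rfl
    · have hG : Nat.card G = 11 * 60 := by omega
      have h1 := card_sylow_dvd 11 60 hG (by norm_num)
      have h2 : Nat.card (Sylow 11 G) ≤ 60 := Nat.le_of_dvd (by norm_num) h1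
      have h3 : Nat.card (Sylow 11 G) ≠ 1 := by
        apply hne (hG ▸ Dvd.intro _ rfl)
        intro n hn
        have : 2 ∣ 11 ^ n := by rw [← hn, hG]; norm_num
        have := Nat.prime_two.dvd_of_dvd_pow this
        omega
      unfold Nat.ModEq at hmod
      generalize Nat.card (Sylow 11 G) = n at *
      interval_cases n <;> omega
    · have hG : Nat.card G = 13 * 84 := by omega
      have h1 := card_sylow_dvd 13 84 hG (by norm_num)
      have h2 : Nat.card (Sylow 13 G) ≤ 84 := Nat.le_of_dvd (by norm_num) h1
      have h3 : Nat.card (Sylow 13 G) ≠ 1 := by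
        apply hne (hG ▸ Dvd.intro _ rfl)
        intro n hn
        have : 2 ∣ 13 ^ n := by rw [← hn, hG]; norm_num
        have := Nat.prime_two.dvd_of_dvd_pow this
        omega
      unfold Nat.ModEq at hmod
      generalize Nat.card (Sylow 13 G) = n at *
      interval_cases n <;> omega
  refine SmallSimple.PSL2Recog.psl2_of_simple_card (by rcases hp with rfl | rfl <;> norm_num) ?_ hsyl hF
  rcases hp with rfl | rfl <;> omega

end Cfsg.Agent.S0498
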