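import Mathlib
import Cfsg.Statements.S0974
import Cfsg.Agent.SmallSimple.Parity
import Cfsg.Agent.SmallSimple.SylowCount
set_option linter.all false

-- part: SmallSimple/TwoGroup64
section
/-!
Involutions in the derived subgroup of a small 2-group.

* `mem_center_of_card_sixteen`: in a group of order 16, `t ∈ S'` with `t ^ 2 = 1` is central.
* `index_centralizer_le_four`: in a group of order 64, such a `t` has at most 4 conjugates.
-/

set_option autoImplicit false

namespace Cfsg.Agent.SmallSimple.TwoGroup64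

open Subgroup
open scoped commutatorElement

/-- A subgroup of order `p` in the centre of a nontrivial finite `p`-group. -/
theorem exists_le_center_card {p : ℕ} [hp : Fact p.Prime] {S : Type*} [Group S] [Finite S]
    (hS : IsPGroup p S) (hnt : Nontrivial S) : ∃ Z : Subgroup S, Z ≤ center S ∧ Nat.card Z = p := by
  have h1 : Nontrivial (center S) := hS.center_nontrivial
  have h2 : p ∣ Nat.card (center S) := by
    have h3 : IsPGroup p (center S) := hS.to_subgroup _
    obtain ⟨n, hn⟩ := h3.exists_card_eq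
    have h4 : n ≠ 0 := by
      rintro rfl
      rw [pow_zero] at hn
      have := Finite.one_lt_card_iff_nontrivial.mpr h1
      omega
    rw [hn]
    exact dvd_pow_self p h4
  obtain ⟨z, hz⟩ := exists_prime_orderOf_dvd_card' p h2
  refine ⟨zpowers (z : S), ?_, ?_⟩
  · rw [zpowers_le]; exact z.2
  · rw [Nat.card_zpowers, orderOf_coe, hz]

/-- The order of the preimage of a subgroup of a quotient. -/
theorem card_comap_mk {S : Type*} [Group S] [Finite S] (Z : Subgroup S) [Z.Normal]
    (W : Subgroup (S ⧸ Z)) :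
    Nat.card (W.comap (QuotientGroup.mk' Z)) = Nat.card W * Nat.card Z := by
  have h1 : (W.comap (QuotientGroup.mk' Z)).index = W.index :=
    Subgroup.index_comap_of_surjective W (QuotientGroup.mk'_surjective Z)
  have h2 := (W.comap (QuotientGroup.mk' Z)).card_mul_index
  have h3 := W.card_mul_index
  have h4 : Nat.card S = Nat.card (S ⧸ Z) * Nat.card Z := card_eq_card_quotient_mul_card_subgroup Z
  rw [h1] at h2
  have h5 : 0 < W.index := Nat.pos_of_ne_zero index_ne_zero_of_finite
  apply Nat.eq_of_mul_eq_mul_right h5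
  rw [h2, h4, ← h3]
  ring

theorem card_quotient_of_card {S : Type*} [Group S] [Finite S] (Z : Subgroup S) [Z.Normal]
    {a b : ℕ} (h : Nat.card S = a * b) (hZ : Nat.card Z = b) (hb : 0 < b) :
    Nat.card (S ⧸ Z) = a := by
  have h4 : Nat.card S = Nat.card (S ⧸ Z) * Nat.card Z := card_eq_card_quotient_mul_card_subgroup Z
  rw [h, hZ] at h4
  exact (Nat.eq_of_mul_eq_mul_right hb h4).symm

theorem normal_of_le_center' {S : Type*} [Group S] {Z : Subgroup S} (h : Z ≤ center S) :
    Z.Normal := by
  refine ⟨fun n hn g => ?_⟩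
  have : g * n * g⁻¹ = n := by
    rw [(mem_center_iff.mp (h hn)) g]; group
  rwa [this]

/-- All squares central implies the derived subgroup is central. -/
theorem commutator_le_center_of_sq {S : Type*} [Group S] (h : ∀ s : S, s ^ 2 ∈ center S) :
    _root_.commutator S ≤ center S := by
  rw [commutator_def, Subgroup.commutator_le]
  intro a _ b _
  have h1 : ⁅a, b⁆ = (a * b) ^ 2 * (b⁻¹ * (a ^ 2)⁻¹) * b⁻¹ := by
    rw [commutatorElement_def, sq, sq]
    group
  have h2 := mem_center_iff.mp (inv_mem (h a)) b⁻¹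
  rw [h2, mul_assoc, mul_assoc] at h1
  rw [h1]
  have h3 : b⁻¹ * b⁻¹ = (b⁻¹) ^ 2 := (sq _).symm
  rw [h3]
  exact mul_mem (h _) (mul_mem (inv_mem (h _)) (h _))

/-- A subgroup of order 2 has at most one element `≠ 1`. -/
theorem eq_of_card_two {S : Type*} [Group S] {Z : Subgroup S} (hZ : Nat.card Z = 2) {x y : S}
    (hx : x ∈ Z) (hy : y ∈ Z) (hx1 : x ≠ 1) (hy1 : y ≠ 1) : x = y := by
  obtain ⟨w, _, hw⟩ := (Nat.card_eq_two_iff' (1 : Z)).mp hZ
  have h1 := hw ⟨x, hx⟩ (fun h => hx1 (congrArg Subtype.val h))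
  have h2 := hw ⟨y, hy⟩ (fun h => hy1 (congrArg Subtype.val h))
  exact congrArg Subtype.val (h1.trans h2.symm)

theorem mul_pow_of_comm {S : Type*} [Group S] {a b : S} (h : a * b = b * a) :
    (a * b) ^ 2 = a ^ 2 * b ^ 2 :=
  Commute.mul_pow h 2

/-- In a group of order 16, `t ∈ S'` with `t ^ 2 = 1` is central. -/
theorem mem_center_of_card_sixteen {S : Type*} [Group S] [Finite S] (hS : Nat.card S = 16)
    (t : S) (ht : t ∈ _root_.commutator S) (ht2 : t ^ 2 = 1) : t ∈ center S := by
  classical
  have h2 : Fact (Nat.Prime 2) := ⟨Nat.prime_two⟩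
  have hSp : IsPGroup 2 S := IsPGroup.of_card (n := 4) (by rw [hS]; norm_num)
  have hnt : Nontrivial S := Finite.one_lt_card_iff_nontrivial.mp (by rw [hS]; norm_num)
  obtain ⟨Z, hZc, hZ⟩ := exists_le_center_card hSp hnt
  have hZn : Z.Normal := normal_of_le_center' hZc
  have hQ : Nat.card (S ⧸ Z) = 8 := card_quotient_of_card Z (by rw [hS]) hZ (by norm_num)
  have hQp : IsPGroup 2 (S ⧸ Z) := IsPGroup.of_card (n := 3) (by rw [hQ]; norm_num)
  have hQnt : Nontrivial (S ⧸ Z) := Finite.one_lt_card_iff_nontrivial.mp (by rw [hQ]; norm_num)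
  obtain ⟨W, hWc, hW⟩ := exists_le_center_card hQp hQnt
  have hWn : W.Normal := normal_of_le_center' hWc
  set N : Subgroup S := W.comap (QuotientGroup.mk' Z) with hN
  have hNcard : Nat.card N = 4 := by rw [hN, card_comap_mk, hW, hZ]
  have hNn : N.Normal := hWn.comap _
  -- the quotient by N is commutative
  have hSN : Nat.card (S ⧸ N) = 4 := card_quotient_of_card N (by rw [hS]) hNcard (by norm_num)
  have hcomm : ∀ a b : S, a * b * a⁻¹ * b⁻¹ ∈ N := by
    have h4 : IsMulCommutative (S ⧸ N) :=
      IsPGroup.isMulCommutative_of_card_eq_prime_sq (p := 2) (by rw [hSN]; norm_num)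
    intro a b
    rw [← QuotientGroup.eq_one_iff]
    have h5 : (a : S ⧸ N) * (b : S ⧸ N) = (b : S ⧸ N) * (a : S ⧸ N) := h4.is_comm.comm _ _
    rw [QuotientGroup.mk_mul, QuotientGroup.mk_mul, QuotientGroup.mk_mul, h5,
      QuotientGroup.mk_inv, QuotientGroup.mk_inv]
    group
  have hcommN : _root_.commutator S ≤ N := by
    rw [commutator_def, Subgroup.commutator_le]
    intro a _ b _
    exact hcomm a b
  have htN : t ∈ N := hcommN ht
  by_contra htc
  have htZ : t ∉ Z := fun h => htc (hZc h)
  have htZ1 : (t : S ⧸ Z) ≠ 1 := fun h => htZ ((QuotientGroup.eq_one_iff t).mp h)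
  have htW : (t : S ⧸ Z) ∈ W := htN
  -- elements of N: in Z or in tZ
  have hNel : ∀ n ∈ N, n ∈ Z ∨ t⁻¹ * n ∈ Z := by
    intro n hn
    by_cases h1 : n ∈ Z
    · exact Or.inl h1
    · right
      have h3 : (n : S ⧸ Z) ≠ 1 := fun h => h1 ((QuotientGroup.eq_one_iff n).mp h)
      have h4 : (t : S ⧸ Z) = (n : S ⧸ Z) := eq_of_card_two hW htW hn htZ1 h3
      exact QuotientGroup.eq.mp h4
  have hZsq : ∀ z ∈ Z, z ^ 2 = 1 := by
    intro z hz
    have h3 : (⟨z, hz⟩ : Z) ^ Nat.card Z = 1 := pow_card_eq_one'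
    rw [hZ] at h3
    exact congrArg Subtype.val h3
  have hNsq : ∀ n ∈ N, n ^ 2 = 1 := by
    intro n hn
    rcases hNel n hn with h | h
    · exact hZsq n h
    · have h3 := hZsq _ h
      have h4 := mem_center_iff.mp (hZc h) t
      have h5 : n = t * (t⁻¹ * n) := by group
      rw [h5, mul_pow_of_comm h4, ht2, h3, one_mul]
  -- the centralizer of t
  set C : Subgroup S := centralizer {t} with hC
  have hCmem : ∀ x, x ∈ C ↔ x * t = t * x := by
    intro x
    rw [hC, mem_centralizer_singleton_iff]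
  have hCN : ∀ n ∈ N, ∀ c ∈ C, n * c = c * n := by
    intro n hn c hc
    rcases hNel n hn with h | h
    · exact (mem_center_iff.mp (hZc h) c).symm
    · have h4 := mem_center_iff.mp (hZc h) c
      have h5 : n = t * (t⁻¹ * n) := by group
      have h6 := (hCmem c).mp hc
      rw [h5, mul_assoc, ← h4, ← mul_assoc, ← h6, mul_assoc]
  have hxt : ∀ x, x ∉ C → x * t * x⁻¹ * t⁻¹ ∈ Z ∧ x * t * x⁻¹ * t⁻¹ ≠ 1 := by
    intro x hx
    constructor
    · have h3 := mem_center_iff.mp (hWc htW) (x : S ⧸ Z)
      rw [← QuotientGroup.eq_one_iff, QuotientGroup.mk_mul, QuotientGroup.mk_mul,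
        QuotientGroup.mk_mul, h3, QuotientGroup.mk_inv, QuotientGroup.mk_inv]
      group
    · intro h
      apply hx
      rw [hCmem]
      have h3 : x * t * x⁻¹ = t := mul_inv_eq_one.mp h
      exact mul_inv_eq_iff_eq_mul.mp h3
  have hCidx : ∀ x y, x ∉ C → y ∉ C → x⁻¹ * y ∈ C := by
    intro x y hx hy
    obtain ⟨hx1, hx2⟩ := hxt x hx
    obtain ⟨hy1, hy2⟩ := hxt y hy
    have h3 : x * t * x⁻¹ * t⁻¹ = y * t * y⁻¹ * t⁻¹ := eq_of_card_two hZ hx1 hy1 hx2 hy2
    have h4 : x * t * x⁻¹ = y * t * y⁻¹ := mul_right_cancel h3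
    rw [hCmem]
    have h5 : x⁻¹ * y * t = x⁻¹ * (y * t * y⁻¹) * y := by group
    rw [h5, ← h4]; group
  have hCne : C ≠ ⊤ := by
    intro h
    apply htc
    rw [mem_center_iff]
    intro g
    exact (hCmem g).mp (h ▸ mem_top g)
  have hCidx2 : C.index = 2 := by
    rw [index_eq_two_iff]
    obtain ⟨a, ha⟩ : ∃ a, a ∉ C := by
      by_contra hcon
      push Not at hcon
      exact hCne (eq_top_iff.mpr fun x _ => hcon x)
    refine ⟨a⁻¹, fun b => ?_⟩
    by_cases hb : b ∈ C
    · right
      refine ⟨hb, fun h => ha ?_⟩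
      have h3 : a⁻¹ ∈ C := by
        have h4 := mul_mem (inv_mem hb) h
        rwa [inv_mul_cancel_left] at h4
      exact inv_inv a ▸ inv_mem h3
    · left
      refine ⟨?_, hb⟩
      have hb' : b⁻¹ ∉ C := fun h => hb (inv_inv b ▸ inv_mem h)
      have h3 := hCidx _ _ hb' (fun h => ha (inv_inv a ▸ inv_mem h))
      rwa [inv_inv] at h3
  have hCcard : Nat.card C = 8 := by
    have h3 := C.card_mul_index
    rw [hCidx2, hS] at h3
    omega
  have hNC : N ≤ C := by
    intro n hn
    rw [hCmem]
    have htC : t ∈ C := by rw [hCmem]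
    exact hCN n hn t htC
  have hNrel : (N.subgroupOf C).index = 2 := by
    have h3 := (N.subgroupOf C).card_mul_index
    have h4 : Nat.card (N.subgroupOf C) = 4 := by
      rw [← hNcard]
      exact Nat.card_congr (Subgroup.subgroupOfEquivOfLe hNC).toEquiv
    rw [h4, hCcard] at h3
    omega
  have hCcomm : ∀ a ∈ C, ∀ b ∈ C, a * b = b * a := by
    intro a ha b hb
    by_cases haN : a ∈ N
    · exact hCN a haN b hb
    by_cases hbN : b ∈ N
    · exact (hCN b hbN a ha).symm
    have h3 := (mul_mem_iff_of_index_two hNrel (a := ⟨a⁻¹, inv_mem ha⟩) (b := ⟨b, hb⟩)).mpr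
      (by
        constructor
        · intro h
          exact absurd (inv_inv a ▸ inv_mem (mem_subgroupOf.mp h) : a ∈ N) haN
        · intro h
          exact absurd (mem_subgroupOf.mp h : b ∈ N) hbN)
    have h4 : a⁻¹ * b ∈ N := mem_subgroupOf.mp h3
    have h5 := hCN _ h4 a ha
    have h6 : b = a * (a⁻¹ * b) := by group
    have h7 : b * a = a * ((a⁻¹ * b) * a) := by group
    rw [h7, h5]; group
  -- all squares are central
  apply htc
  refine commutator_le_center_of_sq (fun s => ?_) ht
  rw [mem_center_iff]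
  have hsqC : ∀ s, s ∉ C → s ^ 2 ∈ C := by
    intro s hs
    have hs' : s⁻¹ ∉ C := fun h => hs (inv_inv s ▸ inv_mem h)
    have h3 := hCidx _ _ hs' hs
    rwa [inv_inv, ← sq] at h3
  intro y
  by_cases hs : s ∈ C
  · -- s ∈ C
    have h3 : y * s * y⁻¹ * s⁻¹ ∈ N := hcomm y s
    have h4 := hCN _ h3 s hs
    have h5 : y * s * y⁻¹ = (y * s * y⁻¹ * s⁻¹) * s := by group
    have h6 : (y * s * y⁻¹) ^ 2 = s ^ 2 := by
      rw [h5, mul_pow_of_comm h4, hNsq _ h3, one_mul]
    have h7 : (y * s * y⁻¹) ^ 2 = y * s ^ 2 * y⁻¹ := conj_pow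
    rw [h7] at h6
    exact mul_inv_eq_iff_eq_mul.mp h6
  · have h3 := hsqC s hs
    by_cases hy : y ∈ C
    · exact hCcomm y hy _ h3
    · have h4 := hCidx s y hs hy
      have h5 := hCcomm _ h4 _ h3
      calc y * s ^ 2 = s * ((s⁻¹ * y) * s ^ 2) := by group
        _ = s * (s ^ 2 * (s⁻¹ * y)) := by rw [h5]
        _ = s ^ 2 * y := by group

/-- In a group of order 64, an element `t ∈ S'` with `t ^ 2 = 1` has a centralizer of index at
most 4. -/
theorem index_centralizer_le_four {S : Type*} [Group S] [Finite S] (hS : Nat.card S = 64)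
    (t : S) (ht : t ∈ _root_.commutator S) (ht2 : t ^ 2 = 1) :
    (centralizer ({t} : Set S)).index ≤ 4 := by
  classical
  have h2 : Fact (Nat.Prime 2) := ⟨Nat.prime_two⟩
  have hSp : IsPGroup 2 S := IsPGroup.of_card (n := 6) (by rw [hS]; norm_num)
  have hnt : Nontrivial S := Finite.one_lt_card_iff_nontrivial.mp (by rw [hS]; norm_num)
  obtain ⟨Z, hZc, hZ⟩ := exists_le_center_card hSp hnt
  have hZn : Z.Normal := normal_of_le_center' hZc
  have hQ : Nat.card (S ⧸ Z) = 32 := card_quotient_of_card Z (by rw [hS]) hZ (by norm_num)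
  have hQp : IsPGroup 2 (S ⧸ Z) := IsPGroup.of_card (n := 5) (by rw [hQ]; norm_num)
  have hQnt : Nontrivial (S ⧸ Z) := Finite.one_lt_card_iff_nontrivial.mp (by rw [hQ]; norm_num)
  obtain ⟨W, hWc, hW⟩ := exists_le_center_card hQp hQnt
  have hWn : W.Normal := normal_of_le_center' hWc
  set N : Subgroup S := W.comap (QuotientGroup.mk' Z) with hN
  have hNcard : Nat.card N = 4 := by rw [hN, card_comap_mk, hW, hZ]
  have hNn : N.Normal := hWn.comap _
  have hSN : Nat.card (S ⧸ N) = 16 := card_quotient_of_card N (by rw [hS]) hNcard (by norm_num)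
  have htN : (t : S ⧸ N) ∈ _root_.commutator (S ⧸ N) := by
    have h3 : (_root_.commutator S).map (QuotientGroup.mk' N) ≤ _root_.commutator (S ⧸ N) := by
      rw [commutator_def, commutator_def, map_commutator]
      exact commutator_mono le_top le_top
    exact h3 (mem_map_of_mem _ ht)
  have hcen := mem_center_of_card_sixteen hSN (t : S ⧸ N) htN (by
    rw [← QuotientGroup.mk_pow, ht2, QuotientGroup.mk_one])
  have hmem : ∀ x : S, x * t * x⁻¹ * t⁻¹ ∈ N := by
    intro x
    have h3 := mem_center_iff.mp hcen (x : S ⧸ N)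
    rw [← QuotientGroup.eq_one_iff, QuotientGroup.mk_mul, QuotientGroup.mk_mul,
      QuotientGroup.mk_mul, h3, QuotientGroup.mk_inv, QuotientGroup.mk_inv]
    group
  rw [← hNcard, index_eq_card]
  refine Nat.card_le_card_of_injective
    (fun q : S ⧸ centralizer ({t} : Set S) => (⟨_, hmem q.out⟩ : N)) ?_
  intro q q' hqq
  have h3 : q.out * t * q.out⁻¹ * t⁻¹ = q'.out * t * q'.out⁻¹ * t⁻¹ := congrArg Subtype.val hqq
  have h4 := mul_right_cancel h3
  rw [← QuotientGroup.out_eq' q, ← QuotientGroup.out_eq' q', QuotientGroup.eq,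
    mem_centralizer_singleton_iff]
  have h5 : q.out⁻¹ * q'.out * t = q.out⁻¹ * (q'.out * t * q'.out⁻¹) * q'.out := by group
  rw [h5, ← h4]; group

end Cfsg.Agent.SmallSimple.TwoGroup64
end

-- part: S0974
section
set_option autoImplicit false
open Cfsg

namespace Cfsg.Agent.S0974

open Subgroup Cfsg.Agent.SmallSimple

/-- the order of a Sylow subgroup from the exact power of `p` -/
theorem card_sylow_eq {G : Type*} [Group G] [Finite G] {p k : ℕ} [hp : Fact p.Prime]
    (P : Sylow p G) (h1 : p ^ k ∣ Nat.card G) (h2 : ¬ p ^ (k + 1) ∣ Nat.card G) :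
    Nat.card P = p ^ k := by
  rw [P.card_eq_multiplicity]
  have h3 := (hp.out.pow_dvd_iff_le_factorization Nat.card_pos.ne').1 h1
  have h4 : ¬ k + 1 ≤ (Nat.card G).factorization p := fun h =>
    h2 ((hp.out.pow_dvd_iff_le_factorization Nat.card_pos.ne').2 h)
  have : (Nat.card G).factorization p = k := by omega
  rw [this]

/-- If `P` has prime order `p` and a nonidentity element `x` of `P` lies in `H`, then `P ≤ H`. -/
theorem le_of_prime_card {G : Type*} [Group G] {P H : Subgroup G} {p : ℕ} (hp : p.Prime)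
    (hP : Nat.card P = p) {x : G} (hx : x ∈ P) (hx1 : x ≠ 1) (hxH : x ∈ H) : P ≤ H := by
  have hfin : Finite P := Nat.finite_of_card_ne_zero (by rw [hP]; exact hp.ne_zero)
  have h1 : zpowers x ≤ P := by rw [zpowers_le]; exact hx
  have h2 : Nat.card (zpowers x) ∣ p := hP ▸ card_dvd_of_le h1
  have h3 : Nat.card (zpowers x) ≠ 1 := by
    rw [Nat.card_zpowers, Ne, orderOf_eq_one_iff]
    exact hx1
  have h4 : Nat.card (zpowers x) = p := ((Nat.dvd_prime hp).mp h2).resolve_left h3
  have h5 : zpowers x = P := eq_of_le_of_card_ge h1 (by rw [h4, hP])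
  rw [← h5, zpowers_le]
  exact hxH

/-- No finite simple group has order 3648 = 2^6 * 3 * 19. -/
theorem result {G : Type*} [Group G] [Finite G] [IsSimpleGroup G] : Nat.card G ≠ 3648 := by
  intro hG
  classical
  have hnc : ¬ ∀ a b : G, a * b = b * a := by
    intro h
    let _ : CommGroup G := { (inferInstance : Group G) with mul_comm := h }
    have h1 : (Nat.card G).Prime := IsSimpleGroup.prime_card
    rw [hG] at h1
    revert h1; norm_num
  have h19 : Fact (Nat.Prime 19) := ⟨by norm_num⟩
  have h2 : Fact (Nat.Prime 2) := ⟨Nat.prime_two⟩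
  -- Sylow 19-subgroups
  obtain ⟨P⟩ : Nonempty (Sylow 19 G) := inferInstance
  have hPcard : Nat.card P = 19 := by
    have := card_sylow_eq (k := 1) P (by rw [hG]; norm_num) (by rw [hG]; norm_num)
    rw [this]; norm_num
  have hPidx : (P : Subgroup G).index = 192 := by
    have h3 := (P : Subgroup G).card_mul_index
    rw [hPcard, hG] at h3
    omega
  have hn19 : Nat.card (Sylow 19 G) = 96 := by
    have h3 : Nat.card (Sylow 19 G) ≡ 1 [MOD 19] := card_sylow_modEq_one 19 G
    have h4 : Nat.card (Sylow 19 G) ∣ 192 := hPidx ▸ P.card_dvd_index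
    have h5 : Nat.card (Sylow 19 G) ≠ 1 :=
      SylowCount.card_sylow_ne_one (by rw [hG]; norm_num) (by rw [hG]; norm_num)
    generalize Nat.card (Sylow 19 G) = n at h3 h4 h5
    have h6 : n ∈ Nat.divisors 192 := Nat.mem_divisors.mpr ⟨h4, by norm_num⟩
    have h7 : ∀ m ∈ Nat.divisors 192, m % 19 = 1 % 19 → m ≠ 1 → m = 96 := by decide +kernel
    exact h7 n h6 h3 h5
  set NP : Subgroup G := normalizer (P : Set G) with hNP
  have hNPcard : Nat.card NP = 38 := by
    have h3 := NP.card_mul_index
    rw [← P.card_eq_index_normalizer, hn19, hG] at h3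
    omega
  have hPN : (P : Subgroup G) ≤ NP := le_normalizer
  -- an involution normalizing P
  obtain ⟨t', ht'⟩ := exists_prime_orderOf_dvd_card' (G := NP) 2 (by rw [hNPcard]; norm_num)
  obtain ⟨t, htN⟩ := t'
  have hto : orderOf t = 2 := by
    rw [← ht']
    exact (orderOf_mk t htN).symm
  have ht2 : t ^ 2 = 1 := by rw [← hto]; exact pow_orderOf_eq_one t
  have htP : ∀ p ∈ (P : Subgroup G), t * p * t⁻¹ ∈ (P : Subgroup G) := by
    intro p hp
    exact (mem_normalizer_iff.mp htN p).mp hp
  have htC : ∀ p ∈ (P : Subgroup G), t * p = p * t → p = 1 := by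
    intro p hp hpt
    by_contra hp1
    have h3 : (P : Subgroup G) ≤ centralizer {t} := by
      refine le_of_prime_card h19.out hPcard hp hp1 ?_
      rw [mem_centralizer_singleton_iff]
      exact hpt.symm
    have h4 : t ∈ centralizer (P : Set G) := by
      rw [mem_centralizer_iff]
      intro x hx
      exact mem_centralizer_singleton_iff.mp (h3 hx)
    have h5 : (P : Subgroup G) ≤ centralizer (P : Set G) := by
      have hcyc : IsCyclic P := isCyclic_of_prime_card hPcard
      intro x hx
      rw [mem_centralizer_iff]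
      intro y hy
      have := hcyc.isMulCommutative.is_comm.comm (⟨y, hy⟩ : P) ⟨x, hx⟩
      exact congrArg Subtype.val this
    have h6 : NP ≤ centralizer (P : Set G) := by
      have h7 : 19 ∣ Nat.card (NP ⊓ centralizer (P : Set G) : Subgroup G) := by
        have := card_dvd_of_le (le_inf hPN h5)
        rwa [hPcard] at this
      have h8 : 2 ∣ Nat.card (NP ⊓ centralizer (P : Set G) : Subgroup G) := by
        have h9 : zpowers t ≤ NP ⊓ centralizer (P : Set G) := by
          rw [zpowers_le]; exact ⟨htN, h4⟩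
        have := card_dvd_of_le h9
        rwa [Nat.card_zpowers, hto] at this
      have h9 : 38 ∣ Nat.card (NP ⊓ centralizer (P : Set G) : Subgroup G) := by
        have := Nat.Coprime.mul_dvd_of_dvd_of_dvd (by norm_num) h7 h8
        exact this
      have h10 : NP ⊓ centralizer (P : Set G) = NP := by
        refine eq_of_le_of_card_ge inf_le_left ?_
        rw [hNPcard]
        exact Nat.le_of_dvd Nat.card_pos h9
      rw [← h10]
      exact inf_le_right
    have h7 := Burnside.card_eq_of_normalizer_le_centralizer (by rw [hG]; norm_num) P h6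
    rw [hG] at h7
    omega
  -- Sylow 2-subgroups
  have hn2 : Nat.card (Sylow 2 G) = 19 ∨ Nat.card (Sylow 2 G) = 57 := by
    obtain ⟨Q⟩ : Nonempty (Sylow 2 G) := inferInstance
    have hQcard : Nat.card Q = 64 := by
      have := card_sylow_eq (k := 6) Q (by rw [hG]; norm_num) (by rw [hG]; norm_num)
      rw [this]; norm_num
    have hQidx : (Q : Subgroup G).index = 57 := by
      have h3 := (Q : Subgroup G).card_mul_index
      rw [hQcard, hG] at h3
      omega
    have h4 : Nat.card (Sylow 2 G) ∣ 57 := hQidx ▸ Q.card_dvd_index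
    have h5 : Nat.card (Sylow 2 G) ≠ 1 :=
      SylowCount.card_sylow_ne_one (by rw [hG]; norm_num) (by rw [hG]; norm_num)
    have h5' : Nat.card (Sylow 2 G) ≠ 3 := by
      intro h
      have := SylowCount.card_dvd_factorial_card_sylow (G := G) (p := 2)
        (by rw [hG]; norm_num) (by rw [hG]; norm_num)
      rw [hG, h] at this
      revert this; decide
    generalize Nat.card (Sylow 2 G) = n at h4 h5 h5'
    have h6 : n ∈ Nat.divisors 57 := Nat.mem_divisors.mpr ⟨h4, by norm_num⟩
    have h7 : ∀ m ∈ Nat.divisors 57, m ≠ 1 → m ≠ 3 → m = 19 ∨ m = 57 := by decide +kernel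
    exact h7 n h6 h5 h5'
  have hcardN2 : ∀ Q : Sylow 2 G, Nat.card (normalizer (Q : Set G)) * Nat.card (Sylow 2 G) = 3648 := by
    intro Q
    have h3 := (normalizer (Q : Set G)).card_mul_index
    rwa [← Q.card_eq_index_normalizer, hG] at h3
  have hfree : ∀ Q : Sylow 2 G, ∀ p ∈ (P : Subgroup G), p • Q = Q → p = 1 := by
    intro Q p hp hpQ
    by_contra hp1
    have h3 : p ∈ normalizer (Q : Set G) := Sylow.smul_eq_iff_mem_normalizer.mp hpQ
    have h4 : (P : Subgroup G) ≤ normalizer (Q : Set G) :=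
      le_of_prime_card h19.out hPcard hp hp1 h3
    have h5 := card_dvd_of_le h4
    rw [hPcard] at h5
    have h6 := hcardN2 Q
    rcases hn2 with h | h
    · rw [h] at h6
      have : Nat.card (normalizer (Q : Set G)) = 192 := by omega
      rw [this] at h5
      revert h5; decide
    · rw [h] at h6
      have : Nat.card (normalizer (Q : Set G)) = 64 := by omega
      rw [this] at h5
      revert h5; decide
  have hfix2 : 19 * Nat.card {x : Sylow 2 G // t • x = x} ≤ Nat.card (Sylow 2 G) := by
    have h3 := Parity.card_mul_card_fixed_le (X := Sylow 2 G) (P : Subgroup G) t htP htC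
    have h4 : Nat.card {x : Sylow 2 G // t • x = x ∧ ∀ p ∈ (P : Subgroup G), p • x = x → p = 1} =
        Nat.card {x : Sylow 2 G // t • x = x} :=
      Nat.card_congr (Equiv.subtypeEquivRight fun x => ⟨fun h => h.1, fun h => ⟨h, hfree x⟩⟩)
    have h5 : Nat.card {x : Sylow 2 G // ∀ p ∈ (P : Subgroup G), p • x = x → p = 1} =
        Nat.card (Sylow 2 G) :=
      Nat.card_congr (Equiv.subtypeUnivEquiv hfree)
    rw [h4, h5, hPcard] at h3
    exact h3
  obtain ⟨k, hk⟩ := Parity.card_modEq_four (G := G) (X := Sylow 2 G) (by rw [hG]; norm_num) t ht2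
  have hn57 : Nat.card (Sylow 2 G) = 57 := by
    rcases hn2 with h | h
    · exfalso; omega
    · exact h
  have hfix1 : Nat.card {x : Sylow 2 G // t • x = x} = 1 := by omega
  obtain ⟨hsub, ⟨Q, htQ⟩⟩ := Nat.card_eq_one_iff_unique.mp hfix1
  have hQcard : Nat.card Q = 64 := by
    have := card_sylow_eq (k := 6) Q (by rw [hG]; norm_num) (by rw [hG]; norm_num)
    rw [this]; norm_num
  have hNQ : normalizer (Q : Set G) = (Q : Subgroup G) := by
    symm
    refine eq_of_le_of_card_ge le_normalizer ?_
    have := hcardN2 Q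
    rw [hn57] at this
    rw [hQcard]
    omega
  have htQ' : t ∈ (Q : Subgroup G) := by
    rw [← hNQ]
    exact Sylow.smul_eq_iff_mem_normalizer.mp htQ
  have huniq : ∀ g : G, g⁻¹ * t * g ∈ (Q : Subgroup G) → g ∈ (Q : Subgroup G) := by
    intro g hg
    have h3 : t • (g • Q) = g • Q := by
      have h4 : (g⁻¹ * t * g) • Q = Q := by
        rw [Sylow.smul_eq_iff_mem_normalizer]
        exact le_normalizer hg
      rw [mul_smul, mul_smul, inv_smul_eq_iff] at h4
      exact h4
    have h4 : (⟨g • Q, h3⟩ : {x : Sylow 2 G // t • x = x}) = ⟨Q, htQ⟩ := Subsingleton.elim _ _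
    have h5 : g • Q = Q := congrArg Subtype.val h4
    rw [← hNQ]
    exact Sylow.smul_eq_iff_mem_normalizer.mp h5
  have hcomm := Parity.mem_commutator_of_unique_fixed hnc (Q : Subgroup G) t ht2 htQ' huniq
  have hidx := TwoGroup64.index_centralizer_le_four (S := (Q : Subgroup G)) hQcard
    ⟨t, htQ'⟩ hcomm (Subtype.ext ht2)
  have hge : 16 ≤ Nat.card (centralizer ({t} : Set G)) := by
    have h3 := (centralizer ({⟨t, htQ'⟩} : Set (Q : Subgroup G))).card_mul_index
    rw [hQcard] at h3
    have h4 : 16 ≤ Nat.card (centralizer ({⟨t, htQ'⟩} : Set (Q : Subgroup G))) := by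
      by_contra hlt
      push Not at hlt
      have : Nat.card (centralizer ({⟨t, htQ'⟩} : Set (Q : Subgroup G))) *
        (centralizer ({⟨t, htQ'⟩} : Set (Q : Subgroup G))).index ≤ 15 * 4 :=
        Nat.mul_le_mul (by omega) hidx
      omega
    refine h4.trans ?_
    refine Nat.card_le_card_of_injective
      (fun c : centralizer ({⟨t, htQ'⟩} : Set (Q : Subgroup G)) =>
        (⟨((c : (Q : Subgroup G)) : G), ?_⟩ : centralizer ({t} : Set G))) ?_
    · rw [mem_centralizer_singleton_iff]
      exact congrArg Subtype.val (mem_centralizer_singleton_iff.mp c.2)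
    · intro a b hab
      apply Subtype.ext
      apply Subtype.ext
      exact congrArg (fun z : centralizer ({t} : Set G) => (z : G)) hab
  -- the action on the Sylow 19-subgroups
  have hfree19 : ∀ x : Sylow 19 G, x ≠ P ↔ ∀ p ∈ (P : Subgroup G), p • x = x → p = 1 := by
    intro x
    constructor
    · intro hx p hp hpx
      by_contra hp1
      apply hx
      have h3 : (P : Subgroup G) ≤ normalizer (x : Set G) :=
        le_of_prime_card h19.out hPcard hp hp1 (Sylow.smul_eq_iff_mem_normalizer.mp hpx)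
      have h4 : x ∈ MulAction.fixedPoints (P : Subgroup G) (Sylow 19 G) :=
        (Subgroup.sylow_mem_fixedPoints_iff (P : Subgroup G)).mpr h3
      have h5 := (P.isPGroup'.sylow_mem_fixedPoints_iff).mp h4
      exact Sylow.ext (P.3 x.2 h5)
    · rintro h rfl
      have h3 : (x : Subgroup G) ≠ ⊥ := by
        intro hb
        have h4 : Nat.card (x : Subgroup G) = 19 := hPcard
        rw [hb, card_bot] at h4
        omega
      have h4 : Nontrivial (x : Subgroup G) := (nontrivial_iff_ne_bot _).mpr h3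
      obtain ⟨⟨p, hp⟩, hp1⟩ := exists_ne (1 : (x : Subgroup G))
      exact hp1 (Subtype.ext (h p hp (Sylow.smul_eq_iff_mem_normalizer.mpr (le_normalizer hp))))
  have hcompl : Nat.card {x : Sylow 19 G // x ≠ P} = 95 := by
    have h3 : Nat.card (Sylow 19 G) = Nat.card {x : Sylow 19 G // x = P} +
        Nat.card {x : Sylow 19 G // x ≠ P} := by
      rw [← Nat.card_sum]
      exact Nat.card_congr (Equiv.sumCompl (fun x : Sylow 19 G => x = P)).symm
    have h4 : Nat.card {x : Sylow 19 G // x = P} = 1 := by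
      rw [Nat.card_eq_one_iff_unique]
      exact ⟨⟨fun a b => Subtype.ext (a.2.trans b.2.symm)⟩, ⟨⟨P, rfl⟩⟩⟩
    omega
  have htPP : t • P = P := Sylow.smul_eq_iff_mem_normalizer.mpr htN
  have hfix19 : Nat.card {x : Sylow 19 G // t • x = x} ≤ 6 := by
    have h3 := Parity.card_mul_card_fixed_le (X := Sylow 19 G) (P : Subgroup G) t htP htC
    have h4 : Nat.card {x : Sylow 19 G // ∀ p ∈ (P : Subgroup G), p • x = x → p = 1} = 95 := by
      rw [← hcompl]
      exact Nat.card_congr (Equiv.subtypeEquivRight fun x => (hfree19 x).symm)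
    rw [h4, hPcard] at h3
    have h5 : Nat.card {x : Sylow 19 G // t • x = x} =
        Nat.card {y : {x : Sylow 19 G // t • x = x} // (y : Sylow 19 G) = P} +
        Nat.card {y : {x : Sylow 19 G // t • x = x} // ¬ (y : Sylow 19 G) = P} := by
      rw [← Nat.card_sum]
      exact Nat.card_congr (Equiv.sumCompl
        (fun y : {x : Sylow 19 G // t • x = x} => (y : Sylow 19 G) = P)).symm
    have h6 : Nat.card {y : {x : Sylow 19 G // t • x = x} // (y : Sylow 19 G) = P} = 1 := by
      rw [Nat.card_eq_one_iff_unique]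
      exact ⟨⟨fun a b => Subtype.ext (Subtype.ext (a.2.trans b.2.symm))⟩, ⟨⟨⟨P, htPP⟩, rfl⟩⟩⟩
    have h7 : Nat.card {y : {x : Sylow 19 G // t • x = x} // ¬ (y : Sylow 19 G) = P} ≤
        Nat.card {x : Sylow 19 G // t • x = x ∧ ∀ p ∈ (P : Subgroup G), p • x = x → p = 1} := by
      refine Nat.card_le_card_of_injective
        (fun y => ⟨((y : {x : Sylow 19 G // t • x = x}) : Sylow 19 G), y.1.2,
          (hfree19 _).mp y.2⟩) ?_
      intro a b hab
      apply Subtype.ext
      apply Subtype.ext
      exact congrArg (fun z : {x : Sylow 19 G //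
        t • x = x ∧ ∀ p ∈ (P : Subgroup G), p • x = x → p = 1} => (z : Sylow 19 G)) hab
    omega
  -- the centralizer of t acts on the fixed points
  set C : Subgroup G := centralizer {t} with hC
  have hCN : Nat.card (C ⊓ NP : Subgroup G) ≤ 2 := by
    have h3 : Nat.card (C ⊓ NP : Subgroup G) ∣ 38 := hNPcard ▸ card_dvd_of_le inf_le_right
    have h4 : ¬ 19 ∣ Nat.card (C ⊓ NP : Subgroup G) := by
      intro h
      obtain ⟨x, hx⟩ := exists_prime_orderOf_dvd_card' (G := (C ⊓ NP : Subgroup G)) 19 h
      have hxo : orderOf (x : G) = 19 := by rw [orderOf_coe, hx]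
      have hxC : (x : G) ∈ C := x.2.1
      have hxN : (x : G) ∈ NP := x.2.2
      have hxP : (x : G) ∈ (P : Subgroup G) := by
        have h5 : IsPGroup 19 (zpowers (x : G)) := by
          apply IsPGroup.of_card (n := 1)
          rw [Nat.card_zpowers, hxo, pow_one]
        have h6 := h5.inf_normalizer_sylow P
        have h7 : (x : G) ∈ zpowers (x : G) ⊓ normalizer (P : Set G) :=
          ⟨mem_zpowers _, hxN⟩
        rw [h6] at h7
        exact h7.2
      have h5 := htC x hxP (mem_centralizer_singleton_iff.mp hxC).symm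
      rw [h5, orderOf_one] at hxo
      omega
    generalize Nat.card (C ⊓ NP : Subgroup G) = n at h3 h4
    have h6 : n ∈ Nat.divisors 38 := Nat.mem_divisors.mpr ⟨h3, by norm_num⟩
    have h7 : ∀ m ∈ Nat.divisors 38, ¬ 19 ∣ m → m ≤ 2 := by decide +kernel
    exact h7 n h6 h4
  have hle : Nat.card C ≤ 12 := by
    have h3 : Nat.card (MulAction.orbit C P) * Nat.card (MulAction.stabilizer C P) =
        Nat.card C := by
      rw [← Nat.card_prod]
      exact Nat.card_congr (MulAction.orbitProdStabilizerEquivGroup C P)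
    have h4 : Nat.card (MulAction.orbit C P) ≤ 6 := by
      refine le_trans ?_ hfix19
      refine Nat.card_le_card_of_injective
        (fun y => ⟨(y : Sylow 19 G), ?_⟩) ?_
      · obtain ⟨⟨c, hc⟩, hcy⟩ := y.2
        have h5 : c • P = (y : Sylow 19 G) := hcy
        have h6 : c * t = t * c := mem_centralizer_singleton_iff.mp hc
        rw [← h5, ← mul_smul, ← h6, mul_smul, htPP]
      · intro a b hab
        apply Subtype.ext
        exact congrArg (fun z : {x : Sylow 19 G // t • x = x} => (z : Sylow 19 G)) hab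
    have h5 : Nat.card (MulAction.stabilizer C P) ≤ 2 := by
      refine le_trans ?_ hCN
      refine Nat.card_le_card_of_injective
        (fun c => (⟨((c : C) : G), c.1.2, ?_⟩ : (C ⊓ NP : Subgroup G))) ?_
      · exact Sylow.smul_eq_iff_mem_normalizer.mp c.2
      · intro a b hab
        apply Subtype.ext
        apply Subtype.ext
        exact congrArg (fun z : (C ⊓ NP : Subgroup G) => (z : G)) hab
    rw [← h3]
    exact (Nat.mul_le_mul h4 h5).trans (by norm_num)
  omega

end Cfsg.Agent.S0974
end
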