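import Mathlib
import Cfsg.Agent.SmallSimple.Parity
import Cfsg.Agent.SmallSimple.SylowCount
import Cfsg.Agent.SmallSimple.SylowInter
import Cfsg.Statements.S0977
set_option linter.all false

-- part: SmallSimple/Order4320A
section
set_option autoImplicit false

namespace Cfsg.Agent.SmallSimple.Order4320A

open MulAction Subgroup
open scoped Pointwise

variable {G X : Type*} [Group G] [MulAction G X]

/-- A `p`-group (`p = 2, 3`) permuting three points: the pointwise stabilizer has index at most `p`. -/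
theorem card_le_mul_card_fixing [Finite G] {p : ℕ} [Fact p.Prime] (hp : p = 2 ∨ p = 3)
    (T : Subgroup G) (hT : IsPGroup p T) 
    (B : Set X) (hBf : B.Finite) (hB : B.ncard ≤ 3) (hinv : ∀ t ∈ T, ∀ b ∈ B, t • b ∈ B) :
    Nat.card T ≤ p * Nat.card (T ⊓ fixingSubgroup G B : Subgroup G) := by
  let act : MulAction T B :=
    { smul := fun t b => ⟨(t : G) • (b : X), hinv t t.2 b b.2⟩
      one_smul := fun b => Subtype.ext (one_smul G (b : X))
      mul_smul := fun s t b => Subtype.ext (mul_smul (s : G) (t : G) (b : X)) }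
  have hBfin : Finite B := hBf
  let φ : T →* Equiv.Perm B := MulAction.toPermHom T B
  have h1 : Nat.card T = Nat.card φ.range * Nat.card φ.ker := by
    rw [Subgroup.card_eq_card_quotient_mul_card_subgroup φ.ker]
    rw [Nat.card_congr (QuotientGroup.quotientKerEquivRange φ).toEquiv]
  have h2 : Nat.card φ.range ∣ 6 := by
    have h3 : Nat.card (Equiv.Perm B) ∣ 6 := by
      rw [Nat.card_perm]
      have : Nat.card B ≤ 3 := hB
      exact Nat.factorial_dvd_factorial this
    exact (Subgroup.card_subgroup_dvd_card _).trans h3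
  have h3 : IsPGroup p φ.range := hT.of_surjective φ.rangeRestrict φ.rangeRestrict_surjective
  obtain ⟨n, hn⟩ := h3.exists_card_eq
  have h4 : Nat.card φ.range ≤ p := by
    rw [hn] at h2 ⊢
    rcases Nat.lt_or_ge n 2 with hn2 | hn2
    · calc p ^ n ≤ p ^ 1 := Nat.pow_le_pow_right (by rcases hp with rfl | rfl <;> norm_num) (by omega)
        _ = p := pow_one p
    · exfalso
      have h5 : p ^ 2 ∣ 6 := (pow_dvd_pow p hn2).trans h2
      rcases hp with rfl | rfl <;> revert h5 <;> decide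
  have h5 : Nat.card φ.ker = Nat.card (T ⊓ fixingSubgroup G B : Subgroup G) := by
    have h6 : φ.ker.map T.subtype = (T ⊓ fixingSubgroup G B : Subgroup G) := by
      ext g
      constructor
      · rintro ⟨t, ht, rfl⟩
        refine Subgroup.mem_inf.2 ⟨t.2, ?_⟩
        rw [mem_fixingSubgroup_iff]
        intro y hy
        have h7 : φ t = 1 := ht
        have h8 := congrArg (fun σ : Equiv.Perm B => ((σ ⟨y, hy⟩ : B) : X)) h7
        exact h8
      · intro hg'
        obtain ⟨hgT, hg⟩ := Subgroup.mem_inf.1 hg'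
        refine ⟨⟨g, hgT⟩, ?_, rfl⟩
        rw [mem_fixingSubgroup_iff] at hg
        show φ ⟨g, hgT⟩ = 1
        ext b
        exact hg b b.2
    rw [← h6]
    exact Nat.card_congr (Subgroup.equivMapOfInjective _ _ T.subtype_injective).toEquiv
  rw [h1, h5]
  exact Nat.mul_le_mul_right _ h4

/-- Number of conjugates under `K`. -/
theorem card_le_ncard_mul [Finite G] (K : Subgroup G) (w : G) (S : Set G)
    (hS : ∀ k ∈ K, k * w * k⁻¹ ∈ S) :
    Nat.card K ≤ S.ncard * Nat.card (K ⊓ centralizer {w} : Subgroup G) := by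
  let act : MulAction K G :=
    { smul := fun k g => (k : G) * g * (k : G)⁻¹
      one_smul := fun g => by
        show ((1 : K) : G) * g * ((1 : K) : G)⁻¹ = g
        simp
      mul_smul := fun a b g => by
        show ((a * b : K) : G) * g * ((a * b : K) : G)⁻¹ = (a : G) * ((b : G) * g * (b : G)⁻¹) * (a : G)⁻¹
        rw [Subgroup.coe_mul, mul_inv_rev]
        group }
  have h1 := Nat.card_congr (MulAction.orbitProdStabilizerEquivGroup K w)
  rw [Nat.card_prod] at h1
  have h2 : Nat.card (orbit K w) ≤ S.ncard := by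
    rw [← Nat.card_coe_set_eq]
    apply Nat.card_le_card_of_injective (Set.inclusion (s := orbit K w) (t := S) ?_)
    · exact Set.inclusion_injective _
    · rintro _ ⟨k, rfl⟩
      exact hS k k.2
  have h3 : Nat.card (stabilizer K w) = Nat.card (K ⊓ centralizer {w} : Subgroup G) := by
    have h6 : (stabilizer K w).map K.subtype = (K ⊓ centralizer {w} : Subgroup G) := by
      ext g
      constructor
      · rintro ⟨t, ht, rfl⟩
        refine Subgroup.mem_inf.2 ⟨t.2, ?_⟩
        have h7 : (t : G) * w * (t : G)⁻¹ = w := ht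
        rw [mem_centralizer_singleton_iff]
        show (t : G) * w = w * t
        exact mul_inv_eq_iff_eq_mul.mp h7
      · intro hg'
        obtain ⟨hgT, hg⟩ := Subgroup.mem_inf.1 hg'
        refine ⟨⟨g, hgT⟩, ?_, rfl⟩
        rw [mem_centralizer_singleton_iff] at hg
        show g * w * g⁻¹ = w
        rw [hg]; group
    rw [← h6]
    exact Nat.card_congr (Subgroup.equivMapOfInjective _ _ K.subtype_injective).toEquiv
  rw [← h1, h3]
  exact Nat.mul_le_mul_right _ h2


/-- An involution of a simple group cannot fix 7 of 10 points. -/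
theorem eq_one_of_seven_fixed [Finite G] [IsSimpleGroup G] (hG2 : 2 < Nat.card G) [Finite X]
    [FaithfulSMul G X] (hX : Nat.card X = 10) (t : G) (ht : t ^ 2 = 1) (F : Set X)
    (hF : 7 ≤ F.ncard) (hfix : ∀ x ∈ F, t • x = x) : t = 1 := by
  obtain ⟨k, hk⟩ := Parity.card_modEq_four hG2 (X := X) t ht
  have h1 : F.ncard ≤ Nat.card {x : X // t • x = x} := by
    rw [← Nat.card_coe_set_eq]
    apply Nat.card_le_card_of_injective (fun x : F => (⟨x.1, hfix x.1 x.2⟩ : {x : X // t • x = x}))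
    intro a b hab
    have hab' := congrArg Subtype.val hab
    exact Subtype.ext hab'
  have h2 : Nat.card {x : X // t • x = x} = Nat.card X := by omega
  have h3 : ∀ x : X, t • x = x := by
    intro x
    by_contra hx
    have h4 : Nat.card {x : X // t • x = x} < Nat.card X := by
      exact Finite.card_subtype_lt (x := x) hx
    omega
  apply FaithfulSMul.eq_of_smul_eq_smul (α := X)
  intro x
  rw [h3, one_smul]

/-- No normal subgroup `W` of a group `T` of order 16 in a point stabilizer with all orbits of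
length 3 on the other 9 points. -/
theorem no_orbits_three [Finite G] [IsSimpleGroup G] [Finite X] [FaithfulSMul G X]
    (hX : Nat.card X = 10) (hG2 : 2 < Nat.card G)
    (T W : Subgroup G) (hT : Nat.card T = 16) (x₀ : X)
    (hTx : ∀ t ∈ T, t • x₀ = x₀) (hWx : ∀ w ∈ W, w • x₀ = x₀)
    (hTW : ∀ t ∈ T, ∀ w ∈ W, t * w * t⁻¹ ∈ W)
    (horb : ∀ x : X, x ≠ x₀ → (orbit W x).ncard = 3) : False := by
  have : Fact (Nat.Prime 2) := ⟨Nat.prime_two⟩
  have hTorb : ∀ t ∈ T, ∀ x : X, t • orbit W x = orbit W (t • x) := by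
    intro t ht x
    ext y
    constructor
    · rintro ⟨_, ⟨w, rfl⟩, rfl⟩
      refine ⟨⟨t * w * t⁻¹, hTW t ht w w.2⟩, ?_⟩
      show (t * w * t⁻¹) • t • x = t • (w : G) • x
      rw [smul_smul, smul_smul]; group
    · rintro ⟨w, rfl⟩
      refine ⟨(t⁻¹ * w * t) • x, ⟨⟨t⁻¹ * w * t, ?_⟩, rfl⟩, ?_⟩
      · have := hTW t⁻¹ (T.inv_mem ht) w w.2
        rwa [inv_inv] at this
      · show t • (t⁻¹ * w * t) • x = (w : G) • t • x
        rw [smul_smul, smul_smul]; group
  -- `x₀` is not in other orbits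
  have hx₀ : ∀ x : X, x ≠ x₀ → x₀ ∉ orbit W x := by
    rintro x hx ⟨w, hw⟩
    apply hx
    have h1 : x = (w⁻¹ : W) • x₀ := by rw [← hw]; simp
    rw [h1]
    exact hWx _ (w⁻¹).2
  have hdisj : ∀ x y : X, y ∉ orbit W x → Disjoint (orbit W x) (orbit W y) := by
    intro x y hy
    rw [Set.disjoint_left]
    intro z hz1 hz2
    apply hy
    rw [← orbit_eq_iff.2 hz1, orbit_eq_iff.2 hz2]
    exact mem_orbit_self y
  obtain ⟨x₁, hx₁⟩ : ∃ x₁ : X, x₁ ∉ ({x₀} : Set X) := by
    by_contra hcon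
    push Not at hcon
    have h1 : (Set.univ : Set X) ⊆ {x₀} := fun x _ => hcon x
    have h2 := Set.ncard_le_ncard h1
    rw [Set.ncard_univ, hX, Set.ncard_singleton] at h2
    omega
  have hx₁' : x₁ ≠ x₀ := hx₁
  have c1 := horb x₁ hx₁'
  have hd1 : Disjoint ({x₀} : Set X) (orbit W x₁) := by
    rw [Set.disjoint_singleton_left]; exact hx₀ x₁ hx₁'
  have hc1 : ({x₀} ∪ orbit W x₁ : Set X).ncard = 4 := by
    rw [Set.ncard_union_eq hd1, c1, Set.ncard_singleton]
  obtain ⟨x₂, hx₂⟩ : ∃ x₂ : X, x₂ ∉ ({x₀} ∪ orbit W x₁ : Set X) := by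
    by_contra hcon
    push Not at hcon
    have h1 : (Set.univ : Set X) ⊆ ({x₀} ∪ orbit W x₁ : Set X) := fun x _ => hcon x
    have h2 := Set.ncard_le_ncard h1
    rw [Set.ncard_univ, hX, hc1] at h2
    omega
  have hx₂' : x₂ ≠ x₀ := fun h => hx₂ (Or.inl h)
  have c2 := horb x₂ hx₂'
  have hd2 : Disjoint ({x₀} ∪ orbit W x₁ : Set X) (orbit W x₂) := by
    rw [Set.disjoint_union_left, Set.disjoint_singleton_left]
    exact ⟨hx₀ x₂ hx₂', hdisj x₁ x₂ (fun h => hx₂ (Or.inr h))⟩
  have hc2 : ({x₀} ∪ orbit W x₁ ∪ orbit W x₂ : Set X).ncard = 7 := by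
    rw [Set.ncard_union_eq hd2, c2, hc1]
  obtain ⟨x₃, hx₃⟩ : ∃ x₃ : X, x₃ ∉ ({x₀} ∪ orbit W x₁ ∪ orbit W x₂ : Set X) := by
    by_contra hcon
    push Not at hcon
    have h1 : (Set.univ : Set X) ⊆ ({x₀} ∪ orbit W x₁ ∪ orbit W x₂ : Set X) := fun x _ => hcon x
    have h2 := Set.ncard_le_ncard h1
    rw [Set.ncard_univ, hX, hc2] at h2
    omega
  have hx₃' : x₃ ≠ x₀ := fun h => hx₃ (Or.inl (Or.inl h))
  have c3 := horb x₃ hx₃'
  have hd3 : Disjoint ({x₀} ∪ orbit W x₁ ∪ orbit W x₂ : Set X) (orbit W x₃) := by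
    rw [Set.disjoint_union_left, Set.disjoint_union_left, Set.disjoint_singleton_left]
    exact ⟨⟨hx₀ x₃ hx₃', hdisj x₁ x₃ (fun h => hx₃ (Or.inl (Or.inr h)))⟩,
      hdisj x₂ x₃ (fun h => hx₃ (Or.inr h))⟩
  have hc3 : ({x₀} ∪ orbit W x₁ ∪ orbit W x₂ ∪ orbit W x₃ : Set X).ncard = 10 := by
    rw [Set.ncard_union_eq hd3, c3, hc2]
  have huniv : ({x₀} ∪ orbit W x₁ ∪ orbit W x₂ ∪ orbit W x₃ : Set X) = Set.univ := by
    apply Set.eq_of_subset_of_ncard_le (Set.subset_univ _)
    rw [Set.ncard_univ, hX, hc3]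
  have hcases : ∀ x : X, x ≠ x₀ → orbit W x ∈ ({orbit W x₁, orbit W x₂, orbit W x₃} : Set (Set X)) := by
    intro x hx
    have h1 : x ∈ ({x₀} ∪ orbit W x₁ ∪ orbit W x₂ ∪ orbit W x₃ : Set X) := by
      rw [huniv]; exact Set.mem_univ x
    rcases h1 with ((h1 | h1) | h1) | h1
    · exact absurd h1 hx
    · left; exact orbit_eq_iff.2 h1
    · right; left; exact orbit_eq_iff.2 h1
    · right; right; exact orbit_eq_iff.2 h1
  have hTgrp : IsPGroup 2 T := IsPGroup.of_card (n := 4) (by rw [hT]; norm_num)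
  have hfixne : ∀ t ∈ T, ∀ x : X, x ≠ x₀ → t • x ≠ x₀ := by
    intro t ht x hx h
    apply hx
    have h1 : t • x = t • x₀ := by rw [h, hTx t ht]
    exact smul_left_cancel t h1
  set 𝓑 : Set (Set X) := {orbit W x₁, orbit W x₂, orbit W x₃} with h𝓑
  have h𝓑c : 𝓑.ncard ≤ 3 := by
    have h1 := Set.ncard_insert_le (orbit W x₁) {orbit W x₂, orbit W x₃}
    have h2 := Set.ncard_insert_le (orbit W x₂) {orbit W x₃}
    rw [Set.ncard_singleton] at h2
    rw [h𝓑]
    exact h1.trans (Nat.succ_le_succ h2)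
  have h𝓑inv : ∀ t ∈ T, ∀ B ∈ 𝓑, t • B ∈ 𝓑 := by
    intro t ht B hB
    rcases hB with rfl | rfl | rfl
    · rw [hTorb t ht]; exact hcases _ (hfixne t ht _ hx₁')
    · rw [hTorb t ht]; exact hcases _ (hfixne t ht _ hx₂')
    · rw [hTorb t ht]; exact hcases _ (hfixne t ht _ hx₃')
  have k1 := card_le_mul_card_fixing (p := 2) (Or.inl rfl) T hTgrp 𝓑 (Set.toFinite _) h𝓑c h𝓑inv
  set T1 : Subgroup G := T ⊓ fixingSubgroup G 𝓑 with hT1
  have hinv1 : ∀ t ∈ T1, ∀ B ∈ 𝓑, ∀ b ∈ B, t • b ∈ B := by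
    intro t ht B hB b hb
    have h1 : t • B = B := (mem_fixingSubgroup_iff G).1 (Subgroup.mem_inf.1 ht).2 B hB
    rw [← h1]
    exact Set.smul_mem_smul_set hb
  have k2 := card_le_mul_card_fixing (p := 2) (Or.inl rfl) T1 (hTgrp.to_le inf_le_left)
    (orbit W x₁) (Set.toFinite _) (le_of_eq c1) (fun t ht b hb => hinv1 t ht _ (Or.inl rfl) b hb)
  set T2 : Subgroup G := T1 ⊓ fixingSubgroup G (orbit W x₁) with hT2
  have k3 := card_le_mul_card_fixing (p := 2) (Or.inl rfl) T2
    (hTgrp.to_le (inf_le_left.trans inf_le_left))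
    (orbit W x₂) (Set.toFinite _) (le_of_eq c2)
    (fun t ht b hb => hinv1 t (Subgroup.mem_inf.1 ht).1 _ (Or.inr (Or.inl rfl)) b hb)
  set T3 : Subgroup G := T2 ⊓ fixingSubgroup G (orbit W x₂) with hT3
  have hT3grp : IsPGroup 2 T3 := hTgrp.to_le (inf_le_left.trans (inf_le_left.trans inf_le_left))
  have hT3card : 2 ≤ Nat.card T3 := by omega
  have hdvd : 2 ∣ Nat.card T3 := by
    rcases hT3grp.card_eq_or_dvd with h | h
    · omega
    · exact h
  obtain ⟨t, ht⟩ := exists_prime_orderOf_dvd_card' 2 hdvd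
  have ht2 : (t : G) ^ 2 = 1 := by
    rw [← Subgroup.coe_pow, ← ht, pow_orderOf_eq_one]; rfl
  obtain ⟨m3', m4⟩ := Subgroup.mem_inf.1 t.2
  obtain ⟨m2', m3⟩ := Subgroup.mem_inf.1 m3'
  obtain ⟨m1, m2⟩ := Subgroup.mem_inf.1 m2'
  have hone := eq_one_of_seven_fixed hG2 hX (t : G) ht2 ({x₀} ∪ orbit W x₁ ∪ orbit W x₂ : Set X)
    (by rw [hc2]) (by
      rintro x ((hx | hx) | hx)
      · rw [Set.mem_singleton_iff] at hx
        rw [hx]; exact hTx _ m1
      · exact (mem_fixingSubgroup_iff G).1 m3 x hx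
      · exact (mem_fixingSubgroup_iff G).1 m4 x hx)
  have : t = 1 := Subtype.ext hone
  rw [this, orderOf_one] at ht
  omega

/-- No abelian normal subgroup regular on the other nine points, if a two-point stabilizer has
order 48. -/
theorem no_regular_nine [Finite G] [IsSimpleGroup G] [Finite X] [FaithfulSMul G X]
    (hX : Nat.card X = 10) (hG2 : 2 < Nat.card G)
    (K W : Subgroup G) (hK : Nat.card K = 48) (x₀ x₁ : X) (hne : x₁ ≠ x₀)
    (hK0 : ∀ t ∈ K, t • x₀ = x₀) (hK1 : ∀ t ∈ K, t • x₁ = x₁) (hWx : ∀ w ∈ W, w • x₀ = x₀)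
    (hKW : ∀ t ∈ K, ∀ w ∈ W, t * w * t⁻¹ ∈ W) (hWcomm : ∀ a ∈ W, ∀ b ∈ W, a * b = b * a)
    (htrans : ∀ x : X, x ≠ x₀ → ∃ w ∈ W, w • x₁ = x) : False := by
  have : Fact (Nat.Prime 2) := ⟨Nat.prime_two⟩
  have hfix : ∀ w ∈ W, w • x₁ = x₁ → w = 1 := by
    intro w hw h
    apply FaithfulSMul.eq_of_smul_eq_smul (α := X)
    intro x
    rw [one_smul]
    by_cases hx : x = x₀
    · rw [hx, hWx w hw]
    · obtain ⟨v, hv, rfl⟩ := htrans x hx
      rw [smul_smul, hWcomm w hw v hv, mul_smul, h]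
  have hinj : ∀ a ∈ W, ∀ b ∈ W, a • x₁ = b • x₁ → a = b := by
    intro a ha b hb hab
    have h1 : (b⁻¹ * a) • x₁ = x₁ := by rw [mul_smul, hab, inv_smul_smul]
    have h2 := hfix _ (W.mul_mem (W.inv_mem hb) ha) h1
    rw [inv_mul_eq_one] at h2
    exact h2.symm
  have hne' : ∀ w ∈ W, w • x₁ ≠ x₀ := by
    intro w hw h
    apply hne
    have h1 : w • x₁ = w • x₀ := by rw [h, hWx w hw]
    exact smul_left_cancel w h1
  have himg : (fun w : G => w • x₁) '' (W : Set G) = ({x₀} : Set X)ᶜ := by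
    ext x
    constructor
    · rintro ⟨w, hw, rfl⟩
      exact hne' w hw
    · intro hx
      obtain ⟨w, hw, h⟩ := htrans x hx
      exact ⟨w, hw, h⟩
  have hW9 : Nat.card W = 9 := by
    have h1 : ((fun w : G => w • x₁) '' (W : Set G)).ncard = (W : Set G).ncard :=
      Set.InjOn.ncard_image (fun a ha b hb hab => hinj a ha b hb hab)
    have h2 := Set.ncard_add_ncard_compl ({x₀} : Set X)
    rw [himg] at h1
    rw [Set.ncard_singleton, hX, h1] at h2
    have h3 : (W : Set G).ncard = Nat.card W := rfl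
    omega
  obtain ⟨w₁, hw₁, hw₁ne⟩ : ∃ w₁ ∈ W, w₁ ≠ 1 := by
    by_contra hcon
    push Not at hcon
    have : W = ⊥ := by
      rw [Subgroup.eq_bot_iff_forall]; exact hcon
    rw [this, Subgroup.card_bot] at hW9
    omega
  have hcard := card_le_ncard_mul K w₁ ((W : Set G) \ {1}) (by
    intro k hk
    refine ⟨hKW k hk w₁ hw₁, ?_⟩
    rw [Set.mem_singleton_iff]
    intro h
    apply hw₁ne
    have h1 : w₁ = k⁻¹ * (k * w₁ * k⁻¹) * k := by group
    rw [h1, h]; group)
  have hS : ((W : Set G) \ {1}).ncard = 8 := by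
    rw [Set.ncard_sdiff_singleton_of_mem W.one_mem]
    have h3 : (W : Set G).ncard = Nat.card W := rfl
    omega
  rw [hS, hK] at hcard
  set C : Subgroup G := K ⊓ centralizer {w₁} with hC
  have hCd : Nat.card C ∣ 48 := by
    rw [← hK]; exact Subgroup.card_dvd_of_le inf_le_left
  have hC2 : 2 ∣ Nat.card C := by
    by_contra hodd
    have hcop : Nat.Coprime (Nat.card C) 16 := by
      rw [show (16 : ℕ) = 2 ^ 4 by norm_num]
      apply Nat.Coprime.pow_right
      rw [Nat.coprime_comm, Nat.Prime.coprime_iff_not_dvd Nat.prime_two]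
      exact hodd
    have h3 : Nat.card C ∣ 3 := by
      apply hcop.dvd_of_dvd_mul_left
      exact hCd
    have := Nat.le_of_dvd (by norm_num) h3
    omega
  obtain ⟨t, ht⟩ := exists_prime_orderOf_dvd_card' 2 hC2
  have ht2 : (t : G) ^ 2 = 1 := by
    rw [← Subgroup.coe_pow, ← ht, pow_orderOf_eq_one]; rfl
  obtain ⟨htK, htc⟩ := Subgroup.mem_inf.1 t.2
  rw [mem_centralizer_singleton_iff] at htc
  have htne : (t : G) ≠ 1 := by
    intro h
    have : t = 1 := Subtype.ext h
    rw [this, orderOf_one] at ht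
    omega
  have hsm : ∀ w ∈ W, (t : G) • w • x₁ = w • x₁ ↔ t * w = w * (t : G) := by
    intro w hw
    have h1 : (t : G) • w • x₁ = (t * w * (t : G)⁻¹) • x₁ := by
      rw [mul_smul, mul_smul]
      congr 2
      rw [eq_inv_smul_iff]
      exact hK1 _ htK
    rw [h1]
    constructor
    · intro h
      have := hinj _ (hKW _ htK w hw) w hw h
      exact mul_inv_eq_iff_eq_mul.mp this
    · intro h
      rw [h]; simp
  set D : Subgroup G := W ⊓ centralizer {(t : G)} with hD
  have hDW : Nat.card D ∣ 9 := by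
    rw [← hW9]; exact Subgroup.card_dvd_of_le inf_le_left
  have hw₁D : w₁ ∈ D := by
    refine Subgroup.mem_inf.2 ⟨hw₁, ?_⟩
    rw [mem_centralizer_singleton_iff]
    exact htc.symm
  have hD1 : Nat.card D ≠ 1 := by
    intro h
    rw [Subgroup.card_eq_one] at h
    rw [h, Subgroup.mem_bot] at hw₁D
    exact hw₁ne hw₁D
  have hD9 : Nat.card D ≠ 9 := by
    intro h
    have h1 : D = W := by
      apply Subgroup.eq_of_le_of_card_ge inf_le_left
      rw [h, hW9]
    apply htne
    apply FaithfulSMul.eq_of_smul_eq_smul (α := X)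
    intro x
    rw [one_smul]
    by_cases hx : x = x₀
    · rw [hx, hK0 _ htK]
    · obtain ⟨v, hv, rfl⟩ := htrans x hx
      rw [hsm v hv]
      rw [← h1] at hv
      exact ((mem_centralizer_singleton_iff).1 (Subgroup.mem_inf.1 hv).2).symm
  have hD3 : Nat.card D = 3 := by
    have h1 : Nat.card D ≤ 9 := Nat.le_of_dvd (by norm_num) hDW
    have h0 : 0 < Nat.card D := Nat.card_pos
    interval_cases h : Nat.card D <;> first | rfl | (exfalso; revert hDW; decide) | omega
  have hFix : {x : X | (t : G) • x = x} = {x₀} ∪ (fun w : G => w • x₁) '' (D : Set G) := by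
    ext x
    constructor
    · intro hx
      by_cases hx0 : x = x₀
      · left; exact hx0
      · right
        obtain ⟨v, hv, rfl⟩ := htrans x hx0
        refine ⟨v, Subgroup.mem_inf.2 ⟨hv, ?_⟩, rfl⟩
        rw [mem_centralizer_singleton_iff]
        exact ((hsm v hv).1 hx).symm
    · rintro (hx | ⟨v, hv, rfl⟩)
      · rw [Set.mem_singleton_iff] at hx
        rw [hx]; exact hK0 _ htK
      · have hv' := Subgroup.mem_inf.1 hv
        exact (hsm v hv'.1).2 ((mem_centralizer_singleton_iff).1 hv'.2).symm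
  have hFc : Nat.card {x : X // (t : G) • x = x} = 4 := by
    have h1 : Nat.card {x : X // (t : G) • x = x} = ({x : X | (t : G) • x = x}).ncard := rfl
    rw [h1, hFix, Set.ncard_union_eq, Set.ncard_singleton, Set.InjOn.ncard_image]
    · have h3 : (D : Set G).ncard = Nat.card D := rfl
      omega
    · exact fun a ha b hb hab => hinj a (Subgroup.mem_inf.1 ha).1 b (Subgroup.mem_inf.1 hb).1 hab
    · rw [Set.disjoint_singleton_left]
      rintro ⟨v, hv, h⟩
      exact hne' v (Subgroup.mem_inf.1 hv).1 h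
  obtain ⟨k, hk⟩ := Parity.card_modEq_four hG2 (X := X) (t : G) ht2
  omega

/-- Orbits of a 3-group: size different from 1 is at least 3. -/
theorem orbit_ncard_of_move [Finite G] [Finite X] (P : Subgroup G) (hP : IsPGroup 3 P) (x : X) (a : G)
    (ha : a ∈ P) (hax : a • x ≠ x) : 3 ≤ (orbit P x).ncard := by
  have : Fact (Nat.Prime 3) := ⟨Nat.prime_three⟩
  obtain ⟨n, hn⟩ := hP.card_orbit x
  rw [← Nat.card_coe_set_eq, hn]
  rcases Nat.eq_zero_or_pos n with h0 | h0
  · exfalso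
    rw [h0, pow_zero, Nat.card_eq_one_iff_unique] at hn
    obtain ⟨hs, -⟩ := hn
    apply hax
    have h1 : (⟨(⟨a, ha⟩ : P) • x, mem_orbit x _⟩ : orbit P x) = ⟨x, mem_orbit_self x⟩ :=
      Subsingleton.elim _ _
    exact congrArg Subtype.val h1
  · calc 3 = 3 ^ 1 := by norm_num
      _ ≤ 3 ^ n := Nat.pow_le_pow_right (by norm_num) h0

/-- Use of Jordan's theorem on 3-cycles. -/
theorem no_small_orbits [Finite G] [Finite X] [FaithfulSMul G X]
    [hprim : IsPreprimitive G X] (hX : Nat.card X = 10) (hG : Nat.card G = 4320)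
    (P : Subgroup G) (hP : Nat.card P = 27) (x₀ : X) (hx₀ : ∀ a ∈ P, a • x₀ = x₀)
    (hsmall : ∀ x : X, (orbit P x).ncard ≤ 3) : False := by
  classical
  have := Fintype.ofFinite X
  have : Fact (Nat.Prime 3) := ⟨Nat.prime_three⟩
  have hPgrp : IsPGroup 3 P := IsPGroup.of_card (n := 3) (by rw [hP]; norm_num)
  have hmove : ∀ Q : Subgroup G, 1 < Nat.card Q → ∃ a ∈ Q, ∃ x : X, a • x ≠ x := by
    intro Q hQ
    by_contra hcon
    push Not at hcon
    have h1 : Q = ⊥ := by
      rw [Subgroup.eq_bot_iff_forall]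
      intro a ha
      apply FaithfulSMul.eq_of_smul_eq_smul (α := X)
      intro x
      rw [hcon a ha, one_smul]
    rw [h1, Subgroup.card_bot] at hQ
    omega
  have hinv : ∀ x : X, ∀ t ∈ P, ∀ b ∈ orbit P x, t • b ∈ orbit P x := by
    rintro x t ht _ ⟨a, rfl⟩
    exact ⟨⟨t, ht⟩ * a, mul_smul _ _ _⟩
  obtain ⟨a₁, ha₁, x₁, hx₁⟩ := hmove P (by omega)
  have c1 : (orbit P x₁).ncard = 3 :=
    le_antisymm (hsmall x₁) (orbit_ncard_of_move P hPgrp x₁ a₁ ha₁ hx₁)
  have k1 := card_le_mul_card_fixing (p := 3) (Or.inr rfl) P hPgrp (orbit P x₁) (Set.toFinite _)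
    (le_of_eq c1) (hinv x₁)
  set P1 : Subgroup G := P ⊓ fixingSubgroup G (orbit P x₁) with hP1
  obtain ⟨a₂, ha₂, x₂, hx₂⟩ := hmove P1 (by omega)
  have c2 : (orbit P x₂).ncard = 3 :=
    le_antisymm (hsmall x₂) (orbit_ncard_of_move P hPgrp x₂ a₂ (Subgroup.mem_inf.1 ha₂).1 hx₂)
  have k2 := card_le_mul_card_fixing (p := 3) (Or.inr rfl) P1 (hPgrp.to_le inf_le_left)
    (orbit P x₂) (Set.toFinite _) (le_of_eq c2)
    (fun t ht b hb => hinv x₂ t (Subgroup.mem_inf.1 ht).1 b hb)
  set P2 : Subgroup G := P1 ⊓ fixingSubgroup G (orbit P x₂) with hP2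
  obtain ⟨a₃, ha₃, x₃, hx₃⟩ := hmove P2 (by omega)
  obtain ⟨m3', m3⟩ := Subgroup.mem_inf.1 ha₃
  obtain ⟨m1, m2⟩ := Subgroup.mem_inf.1 m3'
  rw [mem_fixingSubgroup_iff] at m2 m3
  have hx2n : x₂ ∉ orbit P x₁ := by
    intro h
    exact hx₂ ((mem_fixingSubgroup_iff G).1 (Subgroup.mem_inf.1 ha₂).2 x₂ h)
  have hdisj : Disjoint (orbit P x₁) (orbit P x₂) := by
    rw [Set.disjoint_left]
    intro z hz1 hz2
    apply hx2n
    rw [← orbit_eq_iff.2 hz1, orbit_eq_iff.2 hz2]
    exact mem_orbit_self x₂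
  have hx₀' : ∀ x : X, (orbit P x).ncard = 3 → x₀ ∉ orbit P x := by
    intro x hx h
    rw [← orbit_eq_iff.2 h] at hx
    have h1 : orbit P x₀ = {x₀} := by
      ext y
      constructor
      · rintro ⟨a, rfl⟩
        exact hx₀ a a.2
      · rintro rfl
        exact mem_orbit_self _
    rw [h1, Set.ncard_singleton] at hx
    omega
  have hF : ({x₀} ∪ orbit P x₁ ∪ orbit P x₂ : Set X).ncard = 7 := by
    rw [Set.ncard_union_eq, Set.ncard_union_eq, Set.ncard_singleton, c1, c2]
    · rw [Set.disjoint_singleton_left]; exact hx₀' x₁ c1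
    · rw [Set.disjoint_union_left, Set.disjoint_singleton_left]
      exact ⟨hx₀' x₂ c2, hdisj⟩
  set σ : Equiv.Perm X := MulAction.toPermHom G X a₃ with hσ
  have hσne : σ ≠ 1 := by
    intro h
    apply hx₃
    have := congrArg (fun τ : Equiv.Perm X => τ x₃) h
    exact this
  have hσs : σ.support.card ≤ 3 := by
    have h1 : (σ.support : Set X) ⊆ ({x₀} ∪ orbit P x₁ ∪ orbit P x₂ : Set X)ᶜ := by
      intro x hx
      rw [Finset.mem_coe, Equiv.Perm.mem_support] at hx
      intro hx'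
      apply hx
      show a₃ • x = x
      rcases hx' with (h | h) | h
      · rw [Set.mem_singleton_iff] at h; rw [h]; exact hx₀ _ m1
      · exact m2 x h
      · exact m3 x h
    have h2 := Set.ncard_le_ncard h1
    have h3 := Set.ncard_add_ncard_compl ({x₀} ∪ orbit P x₁ ∪ orbit P x₂ : Set X)
    rw [Set.ncard_coe_finset] at h2
    omega
  have hσ27 : σ ^ 27 = 1 := by
    rw [hσ, ← map_pow]
    have : a₃ ^ 27 = 1 := by
      have h1 : (⟨a₃, m1⟩ : P) ^ Nat.card P = 1 := pow_card_eq_one'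
      rw [hP] at h1
      exact congrArg Subtype.val h1
    rw [this, map_one]
  have h3 : σ.IsThreeCycle := by
    rw [← card_support_eq_three_iff]
    have h0 : σ.support.card ≠ 0 := by
      rw [Ne, Finset.card_eq_zero, Equiv.Perm.support_eq_empty_iff]
      exact hσne
    have h1 := Equiv.Perm.card_support_ne_one σ
    have h2 : σ.support.card ≠ 2 := by
      rw [Ne, Equiv.Perm.card_support_eq_two]
      intro hsw
      have h4 := hsw.orderOf
      have h5 := orderOf_dvd_of_pow_eq_one hσ27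
      rw [h4] at h5
      omega
    omega
  have hprim' : IsPreprimitive (MulAction.toPermHom G X).range X := by
    let f : X →ₑ[(MulAction.toPermHom G X).rangeRestrict] X := ⟨id, fun g x => rfl⟩
    exact IsPreprimitive.of_surjective (f := f) Function.surjective_id
  have hA := Equiv.Perm.alternatingGroup_le_of_isPreprimitive_of_isThreeCycle_mem hprim' h3
    ⟨a₃, rfl⟩
  have hA' := Subgroup.card_le_of_le hA
  have hnt : Nontrivial X := by
    rw [← Fintype.one_lt_card_iff_nontrivial, ← Nat.card_eq_fintype_card, hX]; omega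
  have h4 := two_mul_nat_card_alternatingGroup (α := X)
  rw [Nat.card_perm, hX] at h4
  have h5 : Nat.card (MulAction.toPermHom G X).range ≤ 4320 := by
    rw [← hG]
    exact Nat.card_le_card_of_surjective _ (MulAction.toPermHom G X).rangeRestrict_surjective
  have h6 : (10 : ℕ).factorial = 3628800 := by decide
  omega

/-- Orbits of a nontrivial normal 3-subgroup of a group transitive on the other 9 points. -/
theorem orbits_three_or_nine [Finite G] [Finite X] [FaithfulSMul G X]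
    (hX : Nat.card X = 10) (H W : Subgroup G) (x₀ : X)
    (htrans : ∀ x y : X, x ≠ x₀ → y ≠ x₀ → ∃ h ∈ H, h • x = y)
    (hWx : ∀ w ∈ W, w • x₀ = x₀) (hWp : IsPGroup 3 W) (hW : W ≠ ⊥)
    (hHW : ∀ h ∈ H, ∀ w ∈ W, h * w * h⁻¹ ∈ W) :
    (∀ x : X, x ≠ x₀ → (orbit W x).ncard = 3) ∨
      (∀ x y : X, x ≠ x₀ → y ≠ x₀ → ∃ w ∈ W, w • x = y) := by
  have : Fact (Nat.Prime 3) := ⟨Nat.prime_three⟩
  have hHorb : ∀ t ∈ H, ∀ x : X, t • orbit W x = orbit W (t • x) := by
    intro t ht x
    ext y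
    constructor
    · rintro ⟨_, ⟨w, rfl⟩, rfl⟩
      refine ⟨⟨t * w * t⁻¹, hHW t ht w w.2⟩, ?_⟩
      show (t * w * t⁻¹) • t • x = t • (w : G) • x
      rw [smul_smul, smul_smul]; group
    · rintro ⟨w, rfl⟩
      refine ⟨(t⁻¹ * w * t) • x, ⟨⟨t⁻¹ * w * t, ?_⟩, rfl⟩, ?_⟩
      · have := hHW t⁻¹ (H.inv_mem ht) w w.2
        rwa [inv_inv] at this
      · show t • (t⁻¹ * w * t) • x = (w : G) • t • x
        rw [smul_smul, smul_smul]; group
  have hsize : ∀ x y : X, x ≠ x₀ → y ≠ x₀ → (orbit W x).ncard = (orbit W y).ncard := by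
    intro x y hx hy
    obtain ⟨h, hh, rfl⟩ := htrans x y hx hy
    rw [← hHorb h hh, Set.ncard_smul_set]
  have hcompl : ({x₀} : Set X)ᶜ.ncard = 9 := by
    have h2 := Set.ncard_add_ncard_compl ({x₀} : Set X)
    rw [Set.ncard_singleton, hX] at h2
    omega
  have hsub : ∀ x : X, x ≠ x₀ → orbit W x ⊆ ({x₀} : Set X)ᶜ := by
    rintro x hx _ ⟨w, rfl⟩ h
    apply hx
    have h1 : (w : G) • x = (w : G) • x₀ := by
      rw [hWx w w.2]; exact h
    exact smul_left_cancel _ h1
  by_cases h3 : ∀ x : X, x ≠ x₀ → (orbit W x).ncard = 3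
  · exact Or.inl h3
  · right
    push Not at h3
    obtain ⟨x₁, hx₁, h3⟩ := h3
    obtain ⟨n, hn⟩ := hWp.card_orbit x₁
    rw [Nat.card_coe_set_eq] at hn
    have hle : (orbit W x₁).ncard ≤ 9 := by
      rw [← hcompl]; exact Set.ncard_le_ncard (hsub x₁ hx₁)
    have hn0 : n ≠ 0 := by
      rintro rfl
      apply hW
      rw [Subgroup.eq_bot_iff_forall]
      intro w hw
      apply FaithfulSMul.eq_of_smul_eq_smul (α := X)
      intro x
      rw [one_smul]
      by_cases hx : x = x₀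
      · rw [hx, hWx w hw]
      · by_contra hmove
        have h4 := orbit_ncard_of_move W hWp x w hw hmove
        rw [hsize x x₁ hx hx₁, hn] at h4
        norm_num at h4
    have hn1 : n ≠ 1 := by
      rintro rfl
      apply h3
      rw [hn]; norm_num
    have hn2 : n = 2 := by
      rw [hn] at hle
      by_contra hne
      have h5 : 3 ^ 3 ≤ 3 ^ n := Nat.pow_le_pow_right (by norm_num) (by omega)
      omega
    have horb9 : (orbit W x₁).ncard = 9 := by rw [hn, hn2]; norm_num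
    intro x y hx hy
    have h6 : orbit W x = ({x₀} : Set X)ᶜ := by
      apply Set.eq_of_subset_of_ncard_le (hsub x hx)
      rw [hcompl, hsize x x₁ hx hx₁, horb9]
    have h7 : y ∈ orbit W x := by rw [h6]; exact hy
    obtain ⟨w, hw⟩ := h7
    exact ⟨w, w.2, hw⟩

/-- Existence of subgroups of prime power order inside a subgroup. -/
theorem exists_le_card_eq [Finite G] (H : Subgroup G) (p n : ℕ) [Fact p.Prime]
    (h : p ^ n ∣ Nat.card H) : ∃ P : Subgroup G, P ≤ H ∧ Nat.card P = p ^ n := by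
  obtain ⟨K, hK⟩ := Sylow.exists_subgroup_card_pow_prime p h
  refine ⟨K.map H.subtype, Subgroup.map_subtype_le K, ?_⟩
  rw [← hK]
  exact (Nat.card_congr (Subgroup.equivMapOfInjective _ _ H.subtype_injective).toEquiv).symm

/-- A simple group of order 4320 acting faithfully and primitively on 10 points: no subgroup of
order 432 fixing a point normalizes a nontrivial 3-subgroup contained in it. -/
theorem no_ten_points [Finite G] [IsSimpleGroup G] [Finite X] [FaithfulSMul G X]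
    [hprim : IsPreprimitive G X] (hG : Nat.card G = 4320) (hX : Nat.card X = 10) (x₀ : X)
    (H W : Subgroup G) (hH : Nat.card H = 432) (hHx : ∀ h ∈ H, h • x₀ = x₀)
    (hW : W ≠ ⊥) (hWp : IsPGroup 3 W) (hWH : W ≤ H)
    (hHW : ∀ h ∈ H, ∀ w ∈ W, h * w * h⁻¹ ∈ W) : False := by
  have : Fact (Nat.Prime 3) := ⟨Nat.prime_three⟩
  have : Fact (Nat.Prime 2) := ⟨Nat.prime_two⟩
  have hG2 : 2 < Nat.card G := by omega
  have hnt : Nontrivial X := by
    rw [← Finite.one_lt_card_iff_nontrivial, hX]; omega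
  obtain ⟨P, hPH, hP⟩ := exists_le_card_eq H 3 3 (by rw [hH]; norm_num)
  obtain ⟨T, hTH, hT⟩ := exists_le_card_eq H 2 4 (by rw [hH]; norm_num)
  have hPgrp : IsPGroup 3 P := IsPGroup.of_card hP
  have hPx : ∀ h ∈ P, h • x₀ = x₀ := fun h hh => hHx h (hPH hh)
  -- transitivity of `P`
  have hPtrans : ∀ x y : X, x ≠ x₀ → y ≠ x₀ → ∃ h ∈ P, h • x = y := by
    by_contra hcon
    apply no_small_orbits hX hG P (by rw [hP]; norm_num) x₀ hPx
    intro x
    by_contra hlt
    push Not at hlt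
    apply hcon
    have hxx₀ : x ≠ x₀ := by
      intro hxx
      rw [hxx] at hlt
      have h1 : orbit P x₀ = {x₀} := by
        ext y
        constructor
        · rintro ⟨a, rfl⟩
          exact hPx a a.2
        · rintro rfl
          exact mem_orbit_self _
      rw [h1, Set.ncard_singleton] at hlt
      omega
    have hcompl : ({x₀} : Set (X))ᶜ.ncard = 9 := by
      have h2 := Set.ncard_add_ncard_compl ({x₀} : Set (X))
      rw [Set.ncard_singleton, hX] at h2
      omega
    have hsub : orbit P x ⊆ ({x₀} : Set (X))ᶜ := by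
      rintro _ ⟨w, rfl⟩ h
      apply hxx₀
      have h1 : (w : G) • x = (w : G) • x₀ := by
        rw [hPx w w.2]; exact h
      exact smul_left_cancel _ h1
    obtain ⟨n, hn⟩ := hPgrp.card_orbit x
    rw [Nat.card_coe_set_eq] at hn
    have hn2 : 2 ≤ n := by
      by_contra hn2
      have : 3 ^ n ≤ 3 ^ 1 := Nat.pow_le_pow_right (by norm_num) (by omega)
      omega
    have h9 : 3 ^ 2 ≤ 3 ^ n := Nat.pow_le_pow_right (by norm_num) hn2
    have horb : orbit P x = ({x₀} : Set (X))ᶜ := by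
      apply Set.eq_of_subset_of_ncard_le hsub
      omega
    have hmem : ∀ y : X, y ≠ x₀ → ∃ h ∈ P, h • x = y := by
      intro y hy
      have : y ∈ orbit P x := by rw [horb]; exact hy
      obtain ⟨w, hw⟩ := this
      exact ⟨w, w.2, hw⟩
    intro y z hy hz
    obtain ⟨a, ha, rfl⟩ := hmem y hy
    obtain ⟨b, hb, rfl⟩ := hmem z hz
    refine ⟨b * a⁻¹, P.mul_mem hb (P.inv_mem ha), ?_⟩
    rw [mul_smul, inv_smul_smul]
  have hHtrans : ∀ x y : X, x ≠ x₀ → y ≠ x₀ → ∃ h ∈ H, h • x = y := by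
    intro x y hx hy
    obtain ⟨h, hh, e⟩ := hPtrans x y hx hy
    exact ⟨h, hPH hh, e⟩
  rcases orbits_three_or_nine hX H W x₀ hHtrans (fun w hw => hHx w (hWH hw)) hWp hW hHW with h3 | h9
  · exact no_orbits_three hX hG2 T W (by rw [hT]; norm_num) x₀ (fun t ht => hHx t (hTH ht))
      (fun w hw => hHx w (hWH hw)) (fun t ht => hHW t (hTH ht)) h3
  · -- replace `W` by its centre
    set Z : Subgroup G := (center W).map W.subtype with hZ
    have hZW : Z ≤ W := Subgroup.map_subtype_le _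
    have hWnt : Nontrivial W := by
      rwa [Subgroup.nontrivial_iff_ne_bot]
    have hcnt : Nontrivial (center W) := hWp.center_nontrivial
    have hZne : Z ≠ ⊥ := by
      intro h
      rw [hZ, Subgroup.map_eq_bot_iff_of_injective _ W.subtype_injective] at h
      exact (Subgroup.nontrivial_iff_ne_bot _).1 hcnt h
    have hZmem : ∀ z, z ∈ Z ↔ z ∈ W ∧ ∀ w ∈ W, w * z = z * w := by
      intro z
      constructor
      · rintro ⟨y, hy, rfl⟩
        refine ⟨y.2, fun w hw => ?_⟩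
        have := Subgroup.mem_center_iff.1 hy ⟨w, hw⟩
        exact congrArg Subtype.val this
      · rintro ⟨hzW, hz⟩
        refine ⟨⟨z, hzW⟩, ?_, rfl⟩
        rw [SetLike.mem_coe, Subgroup.mem_center_iff]
        rintro ⟨w, hw⟩
        exact Subtype.ext (hz w hw)
    have hHZ : ∀ h ∈ H, ∀ z ∈ Z, h * z * h⁻¹ ∈ Z := by
      intro h hh z hz
      rw [hZmem] at hz ⊢
      refine ⟨hHW h hh z hz.1, fun w hw => ?_⟩
      have h1 := hz.2 (h⁻¹ * w * h) (by
        have := hHW h⁻¹ (H.inv_mem hh) w hw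
        rwa [inv_inv] at this)
      calc w * (h * z * h⁻¹) = h * ((h⁻¹ * w * h) * z) * h⁻¹ := by group
        _ = h * (z * (h⁻¹ * w * h)) * h⁻¹ := by rw [h1]
        _ = h * z * h⁻¹ * w := by group
    have hZp : IsPGroup 3 Z := hWp.to_le hZW
    have hZx : ∀ w ∈ Z, w • x₀ = x₀ := fun w hw => hHx w (hWH (hZW hw))
    rcases orbits_three_or_nine hX H Z x₀ hHtrans hZx hZp hZne hHZ with h3 | h9'
    · exact no_orbits_three hX hG2 T Z (by rw [hT]; norm_num) x₀ (fun t ht => hHx t (hTH ht))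
        hZx (fun t ht => hHZ t (hTH ht)) h3
    · obtain ⟨x₁, hx₁⟩ := exists_ne x₀
      have horbH : orbit H x₁ = ({x₀} : Set (X))ᶜ := by
        ext y
        constructor
        · rintro ⟨h, rfl⟩ h1
          apply hx₁
          have h2 : (h : G) • x₁ = (h : G) • x₀ := by
            rw [hHx h h.2]; exact h1
          exact smul_left_cancel _ h2
        · intro hy
          obtain ⟨h, hh, e⟩ := hHtrans x₁ y hx₁ hy
          exact ⟨⟨h, hh⟩, e⟩
      have hcompl : ({x₀} : Set (X))ᶜ.ncard = 9 := by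
        have h2 := Set.ncard_add_ncard_compl ({x₀} : Set (X))
        rw [Set.ncard_singleton, hX] at h2
        omega
      set K : Subgroup G := H ⊓ stabilizer G x₁ with hK
      have hKc : Nat.card K = 48 := by
        have h1 := Nat.card_congr (MulAction.orbitProdStabilizerEquivGroup H x₁)
        rw [Nat.card_prod, horbH, Nat.card_coe_set_eq, hcompl, hH] at h1
        have h2 : Nat.card (stabilizer H x₁) = Nat.card K := by
          have h6 : (stabilizer H x₁).map H.subtype = K := by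
            ext g
            constructor
            · rintro ⟨t, ht, rfl⟩
              exact Subgroup.mem_inf.2 ⟨t.2, ht⟩
            · intro hg'
              obtain ⟨hgT, hg⟩ := Subgroup.mem_inf.1 hg'
              exact ⟨⟨g, hgT⟩, hg, rfl⟩
          rw [← h6]
          exact Nat.card_congr (Subgroup.equivMapOfInjective _ _ H.subtype_injective).toEquiv
        omega
      exact no_regular_nine hX hG2 K Z hKc x₀ x₁ hx₁
        (fun t ht => hHx t (Subgroup.mem_inf.1 ht).1) (fun t ht => (Subgroup.mem_inf.1 ht).2)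
        hZx (fun t ht => hHZ t (Subgroup.mem_inf.1 ht).1)
        (fun a ha b hb => ((hZmem b).1 hb).2 a (hZW ha))
        (fun x hx => h9' x₁ x hx₁ hx)

/-- In a simple group of order 4320, no subgroup of order 432 normalizes a nontrivial 3-subgroup
contained in it. -/
theorem no_index_ten {G : Type*} [Group G] [Finite G] [IsSimpleGroup G] (hG : Nat.card G = 4320)
    (H W : Subgroup G) (hH : Nat.card H = 432) (hW : W ≠ ⊥) (hWp : IsPGroup 3 W) (hWH : W ≤ H)
    (hHW : ∀ h ∈ H, ∀ w ∈ W, h * w * h⁻¹ ∈ W) : False := by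
  have : Fact (Nat.Prime 3) := ⟨Nat.prime_three⟩
  have : Fact (Nat.Prime 2) := ⟨Nat.prime_two⟩
  have hG2 : 2 < Nat.card G := by omega
  have hindex : H.index = 10 := by
    have := H.card_mul_index
    rw [hG, hH] at this
    omega
  have hX : Nat.card (G ⧸ H) = 10 := hindex
  have hHtop : H ≠ ⊤ := by
    rintro rfl
    rw [Subgroup.index_top] at hindex
    omega
  have hker : (MulAction.toPermHom G (G ⧸ H)).ker = ⊥ := by
    rw [← Subgroup.normalCore_eq_ker]
    rcases (inferInstance : H.normalCore.Normal).eq_bot_or_eq_top with h | h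
    · exact h
    · exfalso
      apply hHtop
      rw [eq_top_iff, ← h]
      exact Subgroup.normalCore_le H
  have hfaith : FaithfulSMul G (G ⧸ H) := by
    refine ⟨fun {a b} hab => ?_⟩
    apply (MonoidHom.ker_eq_bot_iff _).1 hker
    ext x
    exact hab x
  set x₀ : G ⧸ H := ((1 : G) : G ⧸ H) with hx₀
  have hstab : stabilizer G x₀ = H := stabilizer_quotient H
  have hnt : Nontrivial (G ⧸ H) := by
    rw [← Finite.one_lt_card_iff_nontrivial, hX]; omega
  have hcoatom : IsCoatom H := by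
    refine ⟨hHtop, fun K hK => ?_⟩
    by_contra hKtop
    have h1 := SylowCount.card_dvd_factorial_index K hKtop
    have h2 : K.index ∣ 10 := by rw [← hindex]; exact Subgroup.index_dvd_of_le hK.le
    have h3 : K.index ≠ 10 := by
      intro h3
      have h4 : Nat.card K = 432 := by
        have := K.card_mul_index
        rw [hG, h3] at this
        omega
      exact hK.ne (Subgroup.eq_of_le_of_card_ge hK.le (by omega))
    have h5 : K.index ≤ 5 := by
      obtain ⟨c, hc⟩ := h2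
      have hc1 : c ≠ 1 := by rintro rfl; omega
      have hc0 : c ≠ 0 := by rintro rfl; omega
      have : 2 ≤ c := by omega
      nlinarith
    have h6 : K.index.factorial ∣ (5 : ℕ).factorial := Nat.factorial_dvd_factorial h5
    have h7 := h1.trans h6
    rw [hG] at h7
    revert h7
    decide
  have hprim : IsPreprimitive G (G ⧸ H) := by
    rw [← isCoatom_stabilizer_iff_preprimitive G x₀, hstab]
    exact hcoatom
  have hHx : ∀ h ∈ H, h • x₀ = x₀ := by
    intro h hh
    rw [← hstab] at hh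
    exact hh
  exact no_ten_points hG hX x₀ H W hH hHx hW hWp hWH hHW

end Cfsg.Agent.SmallSimple.Order4320A
end

-- part: SmallSimple/Order4320B
section
set_option autoImplicit false

namespace Cfsg.Agent.SmallSimple.Order4320B

open MulAction Subgroup
open scoped Pointwise

variable {G : Type*} [Group G]

/-- The subgroups of order 27 contained in `X`. -/
def syl (X : Subgroup G) : Set (Subgroup G) := {Q | Nat.card Q = 27 ∧ Q ≤ X}

theorem mem_syl {X Q : Subgroup G} : Q ∈ syl X ↔ Nat.card Q = 27 ∧ Q ≤ X := Iff.rfl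

theorem syl_mono {X Y : Subgroup G} (h : X ≤ Y) : syl X ⊆ syl Y :=
  fun _ hQ => ⟨hQ.1, hQ.2.trans h⟩

/-- `|X|` is 27 times a number prime to 3. -/
theorem card_sylow_of [Finite G] (X : Subgroup G) (h27 : 27 ∣ Nat.card X) (h81 : ¬ 81 ∣ Nat.card X)
    (Q : Sylow 3 X) : Nat.card Q = 27 := by
  have : Fact (Nat.Prime 3) := ⟨Nat.prime_three⟩
  have h1 : 3 ^ 3 ∣ Nat.card Q := Q.pow_dvd_card_of_pow_dvd_card (by norm_num; exact h27)
  obtain ⟨n, hn⟩ := Q.isPGroup'.exists_card_eq
  have h2 : Nat.card Q ∣ Nat.card X := Subgroup.card_subgroup_dvd_card _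
  rw [hn] at h1 h2 ⊢
  have h3 : 3 ≤ n := (Nat.pow_dvd_pow_iff_le_right (by norm_num)).1 h1
  have h4 : n < 4 := by
    by_contra h4
    apply h81
    have h5 : 3 ^ 4 ∣ 3 ^ n := pow_dvd_pow 3 (by omega)
    have := h5.trans h2
    norm_num at this
    exact this
  have : n = 3 := by omega
  rw [this]; norm_num

/-- Sylow 3-subgroups of `X` as subgroups of `G`. -/
theorem exists_sylow_eq [Finite G] (X : Subgroup G) (h81 : ¬ 81 ∣ Nat.card X) (Q : Subgroup G)
    (hQ : Q ∈ syl X) : ∃ Q' : Sylow 3 X, (Q' : Subgroup X) = Q.subgroupOf X := by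
  have : Fact (Nat.Prime 3) := ⟨Nat.prime_three⟩
  have hc : Nat.card (Q.subgroupOf X) = 27 := by
    rw [Nat.card_congr (Subgroup.subgroupOfEquivOfLe hQ.2).toEquiv, hQ.1]
  have h27 : 27 ∣ Nat.card X := by
    rw [← hQ.1]; exact Subgroup.card_dvd_of_le hQ.2
  obtain ⟨Q', hQ'⟩ := (IsPGroup.of_card (p := 3) (n := 3) (by rw [hc]; norm_num) :
    IsPGroup 3 (Q.subgroupOf X)).exists_le_sylow
  refine ⟨Q', ?_⟩
  symm
  apply Subgroup.eq_of_le_of_card_ge hQ'
  rw [hc]
  exact (card_sylow_of X h27 h81 Q').le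

theorem ncard_syl [Finite G] (X : Subgroup G) (h27 : 27 ∣ Nat.card X) (h81 : ¬ 81 ∣ Nat.card X) :
    (syl X).ncard = Nat.card (Sylow 3 X) := by
  have : Fact (Nat.Prime 3) := ⟨Nat.prime_three⟩
  symm
  rw [← Nat.card_coe_set_eq]
  refine Nat.card_congr (Equiv.ofBijective (fun Q : Sylow 3 X =>
    (⟨(Q : Subgroup X).map X.subtype, ?_, Subgroup.map_subtype_le _⟩ : syl X)) ⟨?_, ?_⟩)
  · rw [← Nat.card_congr (Subgroup.equivMapOfInjective _ _ X.subtype_injective).toEquiv]
    exact card_sylow_of X h27 h81 Q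
  · intro P Q hPQ
    have h1 : (P : Subgroup X).map X.subtype = (Q : Subgroup X).map X.subtype :=
      congrArg Subtype.val hPQ
    exact Sylow.ext (Subgroup.map_injective X.subtype_injective h1)
  · rintro ⟨Q, hQ⟩
    obtain ⟨Q', hQ'⟩ := exists_sylow_eq X h81 Q hQ
    refine ⟨Q', Subtype.ext ?_⟩
    show (Q' : Subgroup X).map X.subtype = Q
    rw [hQ', Subgroup.subgroupOf_map_subtype, inf_eq_left.2 hQ.2]

theorem syl_modEq [Finite G] (X : Subgroup G) (h27 : 27 ∣ Nat.card X) (h81 : ¬ 81 ∣ Nat.card X) :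
    (syl X).ncard % 3 = 1 := by
  have : Fact (Nat.Prime 3) := ⟨Nat.prime_three⟩
  rw [ncard_syl X h27 h81]
  exact card_sylow_modEq_one 3 X

theorem syl_mul [Finite G] (X : Subgroup G) (h81 : ¬ 81 ∣ Nat.card X) (Q : Subgroup G)
    (hQ : Q ∈ syl X) :
    (syl X).ncard * Nat.card (X ⊓ normalizer (Q : Set G) : Subgroup G) = Nat.card X := by
  have : Fact (Nat.Prime 3) := ⟨Nat.prime_three⟩
  have h27 : 27 ∣ Nat.card X := by
    rw [← hQ.1]; exact Subgroup.card_dvd_of_le hQ.2
  obtain ⟨Q', hQ'⟩ := exists_sylow_eq X h81 Q hQ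
  rw [ncard_syl X h27 h81, Q'.card_eq_index_normalizer]
  have h1 : normalizer (Q' : Set X) = (normalizer (Q : Set G)).subgroupOf X := by
    rw [Subgroup.subgroupOf_normalizer_eq hQ.2, ← hQ']
    rfl
  rw [h1]
  have h2 : Nat.card (X ⊓ normalizer (Q : Set G) : Subgroup G) =
      Nat.card ((normalizer (Q : Set G)).subgroupOf X) := by
    rw [← Subgroup.inf_subgroupOf_left, Nat.card_congr (Subgroup.subgroupOfEquivOfLe inf_le_left).toEquiv]
  rw [h2, mul_comm]
  exact Subgroup.card_mul_index _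

theorem syl_conj [Finite G] (X : Subgroup G) (h81 : ¬ 81 ∣ Nat.card X) (P Q : Subgroup G)
    (hP : P ∈ syl X) (hQ : Q ∈ syl X) :
    ∃ x ∈ X, Q = P.map (MulAut.conj x).toMonoidHom := by
  have : Fact (Nat.Prime 3) := ⟨Nat.prime_three⟩
  obtain ⟨P', hP'⟩ := exists_sylow_eq X h81 P hP
  obtain ⟨Q', hQ'⟩ := exists_sylow_eq X h81 Q hQ
  obtain ⟨x, hx⟩ := exists_smul_eq X P' Q'
  refine ⟨x, x.2, ?_⟩
  have h1 : (Q' : Subgroup X) = (P' : Subgroup X).map (MulAut.conj x).toMonoidHom := by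
    rw [← hx]; rfl
  rw [hQ', hP'] at h1
  have h2 := congrArg (Subgroup.map X.subtype) h1
  rw [Subgroup.subgroupOf_map_subtype, inf_eq_left.2 hQ.2, Subgroup.map_map] at h2
  rw [h2]
  have h3 : X.subtype.comp (MulAut.conj x).toMonoidHom =
      (MulAut.conj (x : G)).toMonoidHom.comp X.subtype := by
    ext y; simp
  rw [h3, ← Subgroup.map_map, Subgroup.subgroupOf_map_subtype, inf_eq_left.2 hP.2]

theorem le_normalizer_of_card [Finite G] (D P : Subgroup G) (hD : Nat.card D = 9)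
    (hP : Nat.card P = 27) (hDP : D ≤ P) : P ≤ normalizer (D : Set G) := by
  rw [← Subgroup.normal_subgroupOf_iff_le_normalizer hDP]
  apply Subgroup.normal_of_index_eq_minFac_card
  have h1 : Nat.card (D.subgroupOf P) = 9 := by
    rw [Nat.card_congr (Subgroup.subgroupOfEquivOfLe hDP).toEquiv, hD]
  have h2 := (D.subgroupOf P).card_mul_index
  rw [h1, hP] at h2
  rw [hP]
  have h3 : Nat.minFac 27 = 3 := by norm_num
  rw [h3]
  omega

theorem le_of_mem_syl_normalizer [Finite G] (h81 : ¬ 81 ∣ Nat.card G) (W Q : Subgroup G)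
    (hW : IsPGroup 3 W) (hQ : Q ∈ syl (normalizer (W : Set G))) : W ≤ Q := by
  have : Fact (Nat.Prime 3) := ⟨Nat.prime_three⟩
  have hQp : IsPGroup 3 Q := IsPGroup.of_card (n := 3) (by rw [hQ.1]; norm_num)
  have h1 : IsPGroup 3 (W ⊔ Q : Subgroup G) := hW.to_sup_of_normal_left' hQp hQ.2
  obtain ⟨n, hn⟩ := h1.exists_card_eq
  have h2 : Nat.card (W ⊔ Q : Subgroup G) ∣ Nat.card G := Subgroup.card_subgroup_dvd_card _
  have h3 : Nat.card (W ⊔ Q : Subgroup G) ≤ 27 := by
    rw [hn] at h2 ⊢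
    have h4 : n < 4 := by
      by_contra h4
      apply h81
      have h5 : 3 ^ 4 ∣ 3 ^ n := pow_dvd_pow 3 (by omega)
      have := h5.trans h2
      norm_num at this
      exact this
    calc 3 ^ n ≤ 3 ^ 3 := Nat.pow_le_pow_right (by norm_num) (by omega)
      _ = 27 := by norm_num
  have h4 : Q = W ⊔ Q := by
    apply Subgroup.eq_of_le_of_card_ge le_sup_right
    rw [hQ.1]; exact h3
  rw [h4]; exact le_sup_left

/-- A subgroup of order 270 has only one subgroup of order 27. -/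
theorem ncard_syl_of_card_270 [Finite G] (X : Subgroup G) (hX : Nat.card X = 270) :
    (syl X).ncard = 1 := by
  have h3 : Fact (Nat.Prime 3) := ⟨Nat.prime_three⟩
  have h2 : Fact (Nat.Prime 2) := ⟨Nat.prime_two⟩
  let S : Sylow 2 X := default
  have hS : Nat.card S = 2 := by
    have h1 : 2 ^ 1 ∣ Nat.card S := S.pow_dvd_card_of_pow_dvd_card (by rw [hX]; norm_num)
    obtain ⟨n, hn⟩ := S.isPGroup'.exists_card_eq
    have h2 : Nat.card S ∣ Nat.card X := Subgroup.card_subgroup_dvd_card _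
    rw [hX] at h2
    rw [hn] at h1 h2 ⊢
    have h3 : 1 ≤ n := (Nat.pow_dvd_pow_iff_le_right (by norm_num)).1 h1
    have h4 : n < 2 := by
      by_contra h4
      have h5 : 2 ^ 2 ∣ 2 ^ n := pow_dvd_pow 2 (by omega)
      have := h5.trans h2
      norm_num at this
    have : n = 1 := by omega
    rw [this]; norm_num
  have hcyc : IsCyclic S := isCyclic_of_prime_card (p := 2) hS
  have hcompl := IsCyclic.isComplement' (G := X) (p := 2) (by rw [hX]; norm_num) hcyc
  set K := (MonoidHom.transferSylow S (hcyc.normalizer_le_centralizer (by rw [hX]; norm_num))).ker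
    with hK
  have hKi : K.index = 2 := by
    rw [hcompl.symm.index_eq_card, hS]
  have hKc : Nat.card K = 135 := by
    have := K.card_mul_index
    rw [hKi, hX] at this
    omega
  set K' : Subgroup G := K.map X.subtype with hK'
  have hK'c : Nat.card K' = 135 := by
    rw [← hKc]
    exact (Nat.card_congr (Subgroup.equivMapOfInjective _ _ X.subtype_injective).toEquiv).symm
  have hsyl : syl X = syl K' := by
    apply Set.Subset.antisymm
    · rintro Q ⟨hQ1, hQ2⟩
      refine ⟨hQ1, fun q hq => ?_⟩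
      have hq27 : q ^ 27 = 1 := by
        have h1 : (⟨q, hq⟩ : Q) ^ Nat.card Q = 1 := pow_card_eq_one'
        rw [hQ1] at h1
        exact congrArg Subtype.val h1
      have hqX : q ∈ X := hQ2 hq
      refine ⟨⟨q, hqX⟩, ?_, rfl⟩
      have h1 : ((⟨q, hqX⟩ : X) ^ 14) ^ 2 = ⟨q, hqX⟩ := by
        apply Subtype.ext
        simp only [Subgroup.coe_pow]
        rw [← pow_mul]
        calc q ^ (14 * 2) = q ^ 27 * q := by rw [← pow_succ]
          _ = q := by rw [hq27, one_mul]
      rw [← h1]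
      exact Subgroup.sq_mem_of_index_two hKi _
    · exact syl_mono (Subgroup.map_subtype_le K)
  obtain ⟨Q, hQ⟩ : (syl K').Nonempty := by
    rw [← Set.ncard_pos, ncard_syl K' (by rw [hK'c]; norm_num) (by rw [hK'c]; norm_num)]
    exact Nat.card_pos
  have h1 := syl_mul K' (by rw [hK'c]; norm_num) Q hQ
  have h5 := syl_modEq K' (by rw [hK'c]; norm_num) (by rw [hK'c]; norm_num)
  have h6 : 27 ∣ Nat.card (K' ⊓ normalizer (Q : Set G) : Subgroup G) := by
    rw [← hQ.1]
    exact Subgroup.card_dvd_of_le (le_inf hQ.2 Subgroup.le_normalizer)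
  obtain ⟨c, hc⟩ := h6
  rw [hsyl]
  rw [hc, hK'c] at h1
  have h7 : (syl K').ncard * c = 5 := by
    have : 27 * ((syl K').ncard * c) = 27 * 5 := by rw [← mul_assoc, mul_comm 27, mul_assoc, h1]
    omega
  have h8 : (syl K').ncard ∣ 5 := ⟨c, h7.symm⟩
  rcases (Nat.dvd_prime Nat.prime_five).1 h8 with h | h
  · exact h
  · omega

/-- Key local fact in a simple group of order 4320. -/
theorem four [Finite G] [IsSimpleGroup G] (hG : Nat.card G = 4320) (W : Subgroup G) (hW : W ≠ ⊥)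
    (hWp : IsPGroup 3 W) (P Q : Subgroup G) (hP : P ∈ syl (normalizer (W : Set G)))
    (hQ : Q ∈ syl (normalizer (W : Set G))) (hPQ : P ≠ Q) :
    (syl (normalizer (W : Set G))).ncard = 4 ∧
      (Nat.card (normalizer (W : Set G)) = 108 ∨ Nat.card (normalizer (W : Set G)) = 216) := by
  have h3 : Fact (Nat.Prime 3) := ⟨Nat.prime_three⟩
  set N := normalizer (W : Set G) with hN
  have hNG : Nat.card N ∣ 4320 := by rw [← hG]; exact Subgroup.card_subgroup_dvd_card _
  have h81 : ¬ 81 ∣ Nat.card N := by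
    intro h
    have := h.trans hNG
    norm_num at this
  have h27 : 27 ∣ Nat.card N := by
    rw [← hP.1]; exact Subgroup.card_dvd_of_le hP.2
  have hNtop : N ≠ ⊤ := by
    intro h
    rw [hN, Subgroup.normalizer_eq_top_iff] at h
    rcases h.eq_bot_or_eq_top with h | h
    · exact hW h
    · obtain ⟨n, hn⟩ := hWp.exists_card_eq
      rw [h, Subgroup.card_top, hG] at hn
      have h5 : 5 ∣ 3 ^ n := ⟨864, by rw [← hn]⟩
      have := (Nat.Prime.dvd_of_dvd_pow Nat.prime_five h5)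
      omega
  obtain ⟨m, hm⟩ := h27
  have hmdvd : m ∣ 160 := by
    obtain ⟨c, hc⟩ := hNG
    refine ⟨c, ?_⟩
    rw [hm] at hc
    have : 27 * 160 = 27 * (m * c) := by rw [← mul_assoc, ← hc]
    omega
  have hindex : N.index * m = 160 := by
    have h := N.card_mul_index
    rw [hG, hm] at h
    have : 27 * (N.index * m) = 27 * 160 := by
      rw [mul_comm N.index m, ← mul_assoc, h]
    omega
  have hi : 9 ≤ N.index := by
    by_contra hlt
    push Not at hlt
    have h1 := SylowCount.card_dvd_factorial_index N hNtop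
    have h2 : N.index.factorial ∣ (8 : ℕ).factorial := Nat.factorial_dvd_factorial (by omega)
    have h4 := h1.trans h2
    rw [hG] at h4
    revert h4
    decide
  have hm17 : m ≤ 17 := by nlinarith
  have hmod := syl_modEq N ⟨m, hm⟩ h81
  have hmul := syl_mul N h81 P hP
  obtain ⟨c, hc⟩ : 27 ∣ Nat.card (N ⊓ normalizer (P : Set G) : Subgroup G) := by
    rw [← hP.1]
    exact Subgroup.card_dvd_of_le (le_inf hP.2 Subgroup.le_normalizer)
  have hsc : (syl N).ncard * c = m := by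
    rw [hc, hm] at hmul
    have : 27 * ((syl N).ncard * c) = 27 * m := by rw [← mul_assoc, mul_comm 27, mul_assoc, hmul]
    omega
  have h2 : 2 ≤ (syl N).ncard := by
    have h5 : 1 < (syl N).ncard := by
      rw [Set.one_lt_ncard (Set.toFinite _)]
      exact ⟨P, hP, Q, hQ, hPQ⟩
    exact h5
  have h16 : m ≠ 16 := by
    rintro rfl
    refine Order4320A.no_index_ten hG N W (by rw [hm]) hW hWp Subgroup.le_normalizer ?_
    intro h hh w hw
    exact (Subgroup.mem_normalizer_iff.1 hh w).1 hw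
  have h10 : m ≠ 10 := by
    rintro rfl
    have := ncard_syl_of_card_270 N (by rw [hm])
    omega
  have hs : (syl N).ncard ∣ m := ⟨c, hsc.symm⟩
  have hm0 : 0 < m := by
    rcases Nat.eq_zero_or_pos m with h | h
    · rw [h] at hindex; omega
    · exact h
  have hsle := Nat.le_of_dvd hm0 hs
  rw [hm]
  set s := (syl N).ncard with hsdef
  clear_value s
  clear hNG hsdef hmul hc hNtop hi hindex hm
  interval_cases m <;> first | (exfalso; revert hmdvd; decide) | skip
  all_goals (interval_cases s <;> first | (exfalso; revert hs; decide) | omega)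

/-- A group of order 5 normalizing a group of order 27 centralizes it. -/
theorem centralize_of_card_five [Finite G] (R P : Subgroup G) (hR : Nat.card R = 5)
    (hP : Nat.card P = 27) (hRP : R ≤ normalizer (P : Set G)) :
    ∀ r ∈ R, ∀ a ∈ P, r * a = a * r := by
  have h5 : Fact (Nat.Prime 5) := ⟨Nat.prime_five⟩
  let act : MulAction R P :=
    { smul := fun r a => ⟨(r : G) * a * (r : G)⁻¹, (Subgroup.mem_normalizer_iff.1 (hRP r.2) a).1 a.2⟩
      one_smul := fun a => by
        apply Subtype.ext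
        show ((1 : R) : G) * a * ((1 : R) : G)⁻¹ = a
        simp
      mul_smul := fun r s a => by
        apply Subtype.ext
        show ((r * s : R) : G) * a * ((r * s : R) : G)⁻¹ =
          (r : G) * ((s : G) * a * (s : G)⁻¹) * (r : G)⁻¹
        rw [Subgroup.coe_mul, mul_inv_rev]
        group }
  have hRp : IsPGroup 5 R := IsPGroup.of_card (n := 1) (by rw [hR]; norm_num)
  have h1 := hRp.card_modEq_card_fixedPoints P
  set F : Subgroup G := P ⊓ centralizer (R : Set G) with hF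
  have h2 : Nat.card (fixedPoints R P) = Nat.card F := by
    refine Nat.card_congr (Equiv.ofBijective (fun a : fixedPoints R P =>
      (⟨(a : P), ?_⟩ : F)) ⟨?_, ?_⟩)
    · refine Subgroup.mem_inf.2 ⟨(a : P).2, ?_⟩
      rw [Subgroup.mem_centralizer_iff]
      intro r hr
      have h3 : (⟨r, hr⟩ : R) • (a : P) = (a : P) := a.2 ⟨r, hr⟩
      have h4 : r * ((a : P) : G) * r⁻¹ = ((a : P) : G) := congrArg Subtype.val h3
      exact mul_inv_eq_iff_eq_mul.mp h4
    · intro a b hab
      have h3 := congrArg Subtype.val hab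
      exact Subtype.ext (Subtype.ext h3)
    · rintro ⟨a, ha⟩
      obtain ⟨haP, hac⟩ := Subgroup.mem_inf.1 ha
      refine ⟨⟨⟨a, haP⟩, fun r => ?_⟩, rfl⟩
      apply Subtype.ext
      show (r : G) * a * (r : G)⁻¹ = a
      rw [Subgroup.mem_centralizer_iff] at hac
      rw [hac r r.2]; group
  rw [h2, hP] at h1
  have h3 : Nat.card F ∣ 27 := by
    rw [← hP]; exact Subgroup.card_dvd_of_le inf_le_left
  have h4 : Nat.card F ≤ 27 := Nat.le_of_dvd (by norm_num) h3
  have h6 : Nat.card F = 27 := by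
    have h7 : Nat.card F % 5 = 2 := by
      have : 27 % 5 = Nat.card F % 5 := h1
      omega
    set c := Nat.card F with hc
    clear_value c
    interval_cases c <;> first | rfl | (exfalso; revert h3; decide) | omega
  have h8 : F = P := by
    apply Subgroup.eq_of_le_of_card_ge inf_le_left
    rw [hP, h6]
  intro r hr a ha
  rw [← h8] at ha
  exact (Subgroup.mem_centralizer_iff.1 (Subgroup.mem_inf.1 ha).2) r hr

/-- Numbers: the number `n` of Sylow 3-subgroups is 16, 40 or 160. -/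
theorem ncard_syl_top [Finite G] [IsSimpleGroup G] (hG : Nat.card G = 4320) :
    (syl (⊤ : Subgroup G)).ncard = 16 ∨ (syl (⊤ : Subgroup G)).ncard = 40 ∨
      (syl (⊤ : Subgroup G)).ncard = 160 := by
  have h3 : Fact (Nat.Prime 3) := ⟨Nat.prime_three⟩
  have hT : Nat.card (⊤ : Subgroup G) = 4320 := by rw [Subgroup.card_top, hG]
  have h81 : ¬ 81 ∣ Nat.card (⊤ : Subgroup G) := by rw [hT]; norm_num
  have h27 : 27 ∣ Nat.card (⊤ : Subgroup G) := by rw [hT]; norm_num
  obtain ⟨P, hP⟩ : (syl (⊤ : Subgroup G)).Nonempty := by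
    rw [← Set.ncard_pos, ncard_syl _ h27 h81]
    exact Nat.card_pos
  have hmod := syl_modEq _ h27 h81
  have hmul := syl_mul _ h81 P hP
  rw [hT, top_inf_eq] at hmul
  set s := (syl (⊤ : Subgroup G)).ncard with hs
  obtain ⟨c, hc⟩ : 27 ∣ Nat.card (normalizer (P : Set G)) := by
    rw [← hP.1]
    exact Subgroup.card_dvd_of_le Subgroup.le_normalizer
  have hsc : s * c = 160 := by
    rw [hc] at hmul
    have : 27 * (s * c) = 27 * 160 := by rw [← mul_assoc, mul_comm 27, mul_assoc, hmul]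
    omega
  have hPp : IsPGroup 3 P := IsPGroup.of_card (n := 3) (by rw [hP.1]; norm_num)
  have hPbot : P ≠ ⊥ := by
    rintro rfl
    have := hP.1
    rw [Subgroup.card_bot] at this
    omega
  have hNtop : normalizer (P : Set G) ≠ ⊤ := by
    intro h
    rw [Subgroup.normalizer_eq_top_iff] at h
    rcases h.eq_bot_or_eq_top with h | h
    · exact hPbot h
    · have := hP.1
      rw [h, Subgroup.card_top, hG] at this
      omega
  have hidx : (normalizer (P : Set G)).index = s := by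
    have h := (normalizer (P : Set G)).card_mul_index
    rw [hG] at h
    have hpos : 0 < Nat.card (normalizer (P : Set G)) := Nat.card_pos
    apply Nat.eq_of_mul_eq_mul_left hpos
    rw [h, mul_comm, hmul]
  have hi : 9 ≤ s := by
    by_contra hlt
    push Not at hlt
    have h1 := SylowCount.card_dvd_factorial_index _ hNtop
    have h2 : (normalizer (P : Set G)).index.factorial ∣ (8 : ℕ).factorial :=
      Nat.factorial_dvd_factorial (by omega)
    have h4 := h1.trans h2
    rw [hG] at h4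
    revert h4
    decide
  have h10 : s ≠ 10 := by
    intro h
    rw [h] at hmul
    refine Order4320A.no_index_ten hG (normalizer (P : Set G)) P (by omega) hPbot hPp
      Subgroup.le_normalizer ?_
    intro h hh w hw
    exact (Subgroup.mem_normalizer_iff.1 hh w).1 hw
  have hsd : s ∣ 160 := ⟨c, hsc.symm⟩
  have hsle : s ≤ 160 := Nat.le_of_dvd (by norm_num) hsd
  clear_value s
  clear hs hmul hidx hsc
  interval_cases s <;> first | (exfalso; revert hsd; decide) | omega

theorem ncard_syl_top_eq [Finite G] (hG : Nat.card G = 4320) :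
    (syl (⊤ : Subgroup G)).ncard = Nat.card (Sylow 3 G) := by
  have h3 : Fact (Nat.Prime 3) := ⟨Nat.prime_three⟩
  have hT : Nat.card (⊤ : Subgroup G) = 4320 := by rw [Subgroup.card_top, hG]
  symm
  rw [← Nat.card_coe_set_eq]
  refine Nat.card_congr (Equiv.ofBijective (fun Q : Sylow 3 G =>
    (⟨(Q : Subgroup G), ?_, le_top⟩ : syl ⊤)) ⟨?_, ?_⟩)
  · rw [Sylow.card_eq_multiplicity, hG]
    have : (4320 : ℕ).factorization 3 = 3 := by
      rw [Nat.factorization_def _ Nat.prime_three]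
      have h1 : (4320 : ℕ) = 3 ^ 3 * 160 := by norm_num
      rw [h1, padicValNat.mul (by norm_num) (by norm_num), padicValNat.prime_pow,
        padicValNat.eq_zero_of_not_dvd (by norm_num)]
    rw [this]; norm_num
  · intro P Q hPQ
    exact Sylow.ext (congrArg Subtype.val hPQ)
  · rintro ⟨Q, hQ⟩
    obtain ⟨Q', hQ'⟩ := (IsPGroup.of_card (p := 3) (n := 3) (by rw [hQ.1]; norm_num) :
      IsPGroup 3 Q).exists_le_sylow
    refine ⟨Q', Subtype.ext ?_⟩
    show (Q' : Subgroup G) = Q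
    symm
    apply Subgroup.eq_of_le_of_card_ge hQ'
    rw [hQ.1, Sylow.card_eq_multiplicity, hG]
    have : (4320 : ℕ).factorization 3 = 3 := by
      rw [Nat.factorization_def _ Nat.prime_three]
      have h1 : (4320 : ℕ) = 3 ^ 3 * 160 := by norm_num
      rw [h1, padicValNat.mul (by norm_num) (by norm_num), padicValNat.prime_pow,
        padicValNat.eq_zero_of_not_dvd (by norm_num)]
    rw [this]; norm_num

end Cfsg.Agent.SmallSimple.Order4320B
end

-- part: SmallSimple/Order4320C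
section
set_option autoImplicit false

namespace Cfsg.Agent.SmallSimple.Order4320C

open MulAction Subgroup
open scoped Pointwise
open Order4320B

variable {G : Type*} [Group G]

theorem indep {z e : G} (hz3 : z ^ 3 = 1) (he3 : e ^ 3 = 1) (hz : z ≠ 1) (he : e ∉ zpowers z)
    (i j : ℕ) (h : z ^ i * e ^ j = 1) : 3 ∣ i ∧ 3 ∣ j := by
  have h1 : e ^ j = (z ^ i)⁻¹ := by
    rw [eq_inv_iff_mul_eq_one]
    rw [mul_eq_one_iff_eq_inv] at h
    rw [h]; simp
  have h2 : e ^ j ∈ zpowers z := by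
    rw [h1]; exact inv_mem (pow_mem (mem_zpowers z) i)
  have hj : 3 ∣ j := by
    by_contra hj
    apply he
    have h3 : j % 3 = 1 ∨ j % 3 = 2 := by omega
    rcases h3 with h3 | h3
    · have h4 : e ^ j = e := by
        conv_lhs => rw [← Nat.div_add_mod j 3, h3, pow_add, pow_mul, he3, one_pow, one_mul, pow_one]
      rwa [h4] at h2
    · have h4 : (e ^ j) ^ 2 = e := by
        rw [← pow_mul]
        have h5 : j * 2 = 3 * (j / 3 * 2 + 1) + 1 := by omega
        rw [h5, pow_add, pow_mul, he3, one_pow, one_mul, pow_one]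
      rw [← h4]; exact pow_mem h2 2
  refine ⟨?_, hj⟩
  obtain ⟨k, rfl⟩ := hj
  rw [pow_mul, he3, one_pow, mul_one] at h
  have h3 : orderOf z = 3 := orderOf_eq_prime hz3 hz
  rw [← h3]
  exact orderOf_dvd_of_pow_eq_one h

theorem span_nine [Finite G] (D : Subgroup G) (hD : Nat.card D = 9) {z e : G} (hzD : z ∈ D)
    (heD : e ∈ D) (hz3 : z ^ 3 = 1) (he3 : e ^ 3 = 1) (hz : z ≠ 1) (he : e ∉ zpowers z)
    (hcomm : z * e = e * z) : ∀ d ∈ D, ∃ i < 3, ∃ j < 3, d = z ^ i * e ^ j := by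
  let f : Fin 3 × Fin 3 → D := fun x => ⟨z ^ (x.1 : ℕ) * e ^ (x.2 : ℕ),
    D.mul_mem (D.pow_mem hzD _) (D.pow_mem heD _)⟩
  have hc : Commute z e := hcomm
  have hf : Function.Injective f := by
    rintro ⟨a, b⟩ ⟨c, d⟩ h
    have h1 : z ^ (a : ℕ) * e ^ (b : ℕ) = z ^ (c : ℕ) * e ^ (d : ℕ) := congrArg Subtype.val h
    have ha := a.2
    have hb := b.2
    have hc' := c.2
    have hd := d.2
    have h2 : z ^ ((a : ℕ) + (3 - (c : ℕ))) * e ^ ((b : ℕ) + (3 - (d : ℕ))) = 1 := by
      have h3 : z ^ ((a : ℕ) + (3 - (c : ℕ))) * e ^ ((b : ℕ) + (3 - (d : ℕ))) =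
          (z ^ (a : ℕ) * e ^ (b : ℕ)) * (z ^ (3 - (c : ℕ)) * e ^ (3 - (d : ℕ))) := by
        rw [pow_add, pow_add]
        rw [mul_assoc, ← mul_assoc (z ^ (3 - (c : ℕ)))]
        rw [(hc.pow_pow (3 - (c : ℕ)) (b : ℕ)).eq]
        simp only [mul_assoc]
      rw [h3, h1]
      have h4 : (z ^ (c : ℕ) * e ^ (d : ℕ)) * (z ^ (3 - (c : ℕ)) * e ^ (3 - (d : ℕ))) =
          (z ^ (c : ℕ) * z ^ (3 - (c : ℕ))) * (e ^ (d : ℕ) * e ^ (3 - (d : ℕ))) := by
        rw [mul_assoc, ← mul_assoc (e ^ (d : ℕ)), ← (hc.pow_pow (3 - (c : ℕ)) (d : ℕ)).eq]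
        simp only [mul_assoc]
      rw [h4, ← pow_add, ← pow_add, Nat.add_sub_cancel' hc'.le, Nat.add_sub_cancel' hd.le, hz3, he3,
        one_mul]
    obtain ⟨h5, h6⟩ := indep hz3 he3 hz he _ _ h2
    apply Prod.ext
    · apply Fin.ext; show (a : ℕ) = c; omega
    · apply Fin.ext; show (b : ℕ) = d; omega
  have hf' : Function.Surjective f := by
    have : Fintype D := Fintype.ofFinite _
    have h9 : Fintype.card (Fin 3 × Fin 3) = Fintype.card D := by
      rw [← Nat.card_eq_fintype_card (α := D), hD]; rfl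
    exact ((Fintype.bijective_iff_injective_and_card f).2 ⟨hf, h9⟩).2
  intro d hd
  obtain ⟨⟨i, j⟩, hij⟩ := hf' ⟨d, hd⟩
  exact ⟨i, i.2, j, j.2, (congrArg Subtype.val hij).symm⟩

theorem alg_q {z e q : G} (hz3 : z ^ 3 = 1) (he3 : e ^ 3 = 1) (hz : z ≠ 1) (he : e ∉ zpowers z)
    (hcomm : z * e = e * z) (a b : ℕ) (ha : a < 3) (hb : b < 3) (hqz : q * z * q⁻¹ = e)
    (hqe : q * e * q⁻¹ = z ^ a * e ^ b) (hq3 : q ^ 3 * z * (q ^ 3)⁻¹ = z) : a = 2 ∧ b = 2 := by
  have hc : Commute z e := hcomm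
  have h1 : MulAut.conj q z = e := hqz
  have h2 : MulAut.conj q e = z ^ a * e ^ b := hqe
  have h3 : MulAut.conj q (MulAut.conj q (MulAut.conj q z)) = z := by
    rw [← MulAut.mul_apply, ← MulAut.mul_apply, ← map_mul, ← map_mul]
    rw [show q * q * q = q ^ 3 by rw [pow_succ, pow_two]]
    exact hq3
  rw [h1, h2, map_mul, map_pow, map_pow, h1, h2, (hc.pow_pow a b).mul_pow, ← pow_mul, ← pow_mul,
    ← mul_assoc, ← (hc.pow_pow (a * b) a).eq, mul_assoc, ← pow_add] at h3
  have h4 : z ^ (a * b + 2) * e ^ (a + b * b) = 1 := by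
    have : z ^ (a * b + 2) * e ^ (a + b * b) = z ^ 2 * (z ^ (a * b) * e ^ (a + b * b)) := by
      rw [← mul_assoc, ← pow_add, add_comm 2]
    rw [this, h3, ← pow_succ, hz3]
  obtain ⟨h5, h6⟩ := indep hz3 he3 hz he _ _ h4
  interval_cases a <;> interval_cases b <;> omega

theorem alg_p {z e p : G} (hz3 : z ^ 3 = 1) (he3 : e ^ 3 = 1) (hz : z ≠ 1) (he : e ∉ zpowers z)
    (hcomm : z * e = e * z) (c d : ℕ) (hd : d < 3) (hpz : p * z * p⁻¹ = z)
    (hpe : p * e * p⁻¹ = z ^ c * e ^ d) (hp3 : p ^ 3 * e * (p ^ 3)⁻¹ = e) : d = 1 := by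
  have hc : Commute z e := hcomm
  have h1 : MulAut.conj p z = z := hpz
  have h2 : MulAut.conj p e = z ^ c * e ^ d := hpe
  have h3 : MulAut.conj p (MulAut.conj p (MulAut.conj p e)) = e := by
    rw [← MulAut.mul_apply, ← MulAut.mul_apply, ← map_mul, ← map_mul]
    rw [show p * p * p = p ^ 3 by rw [pow_succ, pow_two]]
    exact hp3
  have h4 : MulAut.conj p (MulAut.conj p e) = z ^ (c + c * d) * e ^ (d * d) := by
    rw [h2, map_mul, map_pow, map_pow, h1, h2, (hc.pow_pow c d).mul_pow, ← pow_mul, ← pow_mul,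
      ← mul_assoc, ← pow_add]
  have h5 : MulAut.conj p (MulAut.conj p (MulAut.conj p e)) =
      z ^ (c + c * d + c * (d * d)) * e ^ (d * (d * d)) := by
    rw [h4, map_mul, map_pow, map_pow, h1, h2, (hc.pow_pow c d).mul_pow, ← pow_mul, ← pow_mul,
      ← mul_assoc, ← pow_add]
  rw [h3] at h5
  have h6 : z ^ (c + c * d + c * (d * d)) * e ^ (d * (d * d) + 2) = 1 := by
    rw [pow_add e, ← mul_assoc, ← h5, ← pow_succ', he3]
  obtain ⟨h7, h8⟩ := indep hz3 he3 hz he _ _ h6
  interval_cases d <;> omega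

theorem alg_j {z e p q : G} (hz3 : z ^ 3 = 1) (he3 : e ^ 3 = 1) (hcomm : z * e = e * z)
    (hqz : q * z * q⁻¹ = e) (hqe : q * e * q⁻¹ = z ^ 2 * e ^ 2)
    (hpz : p * z * p⁻¹ = z) (hpe : p * e * p⁻¹ = z * e) :
    (p * q * (p * q)) * z * (p * q * (p * q))⁻¹ = z⁻¹ ∧
      (p * q * (p * q)) * e * (p * q * (p * q))⁻¹ = e⁻¹ := by
  have hc : Commute z e := hcomm
  have h1 : MulAut.conj q z = e := hqz
  have h2 : MulAut.conj q e = z ^ 2 * e ^ 2 := hqe
  have h3 : MulAut.conj p z = z := hpz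
  have h4 : MulAut.conj p e = z * e := hpe
  have hpow : ∀ n, (z * e) ^ n = z ^ n * e ^ n := fun n => hc.mul_pow n
  have k1 : MulAut.conj (p * q) z = z * e := by
    rw [map_mul, MulAut.mul_apply, h1, h4]
  have k2 : MulAut.conj (p * q) e = z * e ^ 2 := by
    rw [map_mul, MulAut.mul_apply, h2, map_mul, map_pow, map_pow, h3, h4, hpow, ← mul_assoc,
      ← pow_add]
    rw [show 2 + 2 = 3 + 1 by norm_num, pow_succ, hz3, one_mul]
  have k3 : MulAut.conj (p * q * (p * q)) z = z⁻¹ := by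
    rw [map_mul, MulAut.mul_apply, k1, map_mul, k1, k2]
    have : z * e * (z * e ^ 2) = z ^ 2 * e ^ 3 := by
      calc z * e * (z * e ^ 2) = z * (e * z) * e ^ 2 := by simp only [mul_assoc]
        _ = z * (z * e) * e ^ 2 := by rw [hcomm]
        _ = z ^ 2 * e ^ 3 := by simp only [pow_succ, pow_zero, one_mul, mul_assoc]
    rw [this, he3, mul_one, eq_inv_iff_mul_eq_one, ← pow_succ, hz3]
  have k4 : MulAut.conj (p * q * (p * q)) e = e⁻¹ := by
    rw [map_mul, MulAut.mul_apply, k2, map_mul, map_pow, k1, k2]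
    have hc2 : Commute z (e ^ 2) := hc.pow_right 2
    rw [hc2.mul_pow, ← pow_mul]
    have : z * e * (z ^ 2 * e ^ (2 * 2)) = z ^ 3 * e ^ 5 := by
      calc z * e * (z ^ 2 * e ^ (2 * 2)) = z * (e * z ^ 2) * e ^ 4 := by simp only [mul_assoc]
        _ = z * (z ^ 2 * e) * e ^ 4 := by rw [(hc.pow_left 2).eq]
        _ = z ^ 3 * e ^ 5 := by simp only [pow_succ, pow_zero, one_mul, mul_assoc]
    rw [this, hz3, one_mul, eq_inv_iff_mul_eq_one, ← pow_succ, show 5 + 1 = 3 * 2 by norm_num,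
      pow_mul, he3, one_pow]
  exact ⟨k3, k4⟩

theorem pow_three_mem [Finite G] (D P : Subgroup G) (hD : Nat.card D = 9)
    (hP : Nat.card P = 27) (hDP : D ≤ P) (a : G) (ha : a ∈ P) : a ^ 3 ∈ D := by
  have hn : (D.subgroupOf P).Normal :=
    (Subgroup.normal_subgroupOf_iff_le_normalizer hDP).2 (le_normalizer_of_card D P hD hP hDP)
  have h1 : Nat.card (D.subgroupOf P) = 9 := by
    rw [Nat.card_congr (Subgroup.subgroupOfEquivOfLe hDP).toEquiv, hD]
  have h2 := (D.subgroupOf P).card_mul_index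
  rw [h1, hP] at h2
  have h3 : (D.subgroupOf P).index = 3 := by omega
  have h4 := (D.subgroupOf P).pow_index_mem ⟨a, ha⟩
  rw [h3] at h4
  exact h4

/-- Existence of an element inverting `D`. -/
theorem exists_inverting [Finite G] (D P P' Z : Subgroup G) (hD : Nat.card D = 9)
    (hP : Nat.card P = 27) (hP' : Nat.card P' = 27) (hDP : D ≤ P) (hDP' : D ≤ P')
    (hZ : Nat.card Z = 3) (hZD : Z ≤ D) (hZP : ∀ a ∈ P, ∀ z ∈ Z, a * z = z * a)
    (hP'Z : ¬ P' ≤ normalizer (Z : Set G)) (hPD : ∃ a ∈ P, ∃ d ∈ D, a * d ≠ d * a) :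
    ∃ j ∈ (P ⊔ P' : Subgroup G), ∀ d ∈ D, j * d * j⁻¹ = d⁻¹ := by
  have h3 : Fact (Nat.Prime 3) := ⟨Nat.prime_three⟩
  have hDcomm : ∀ a ∈ D, ∀ b ∈ D, a * b = b * a := by
    intro a ha b hb
    have h4 : IsMulCommutative D :=
      IsPGroup.isMulCommutative_of_card_eq_prime_sq (p := 3) (by rw [hD]; norm_num)
    exact congrArg Subtype.val (h4.is_comm.comm ⟨a, ha⟩ ⟨b, hb⟩)
  obtain ⟨q, hqP', hqZ⟩ : ∃ q ∈ P', q ∉ normalizer (Z : Set G) := by
    by_contra hcon
    push Not at hcon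
    exact hP'Z hcon
  -- a generator of `Z`
  obtain ⟨z, hzZ, hz1⟩ : ∃ z ∈ Z, z ≠ 1 := by
    by_contra hcon
    push Not at hcon
    have : Z = ⊥ := by
      rw [Subgroup.eq_bot_iff_forall]; exact hcon
    rw [this, Subgroup.card_bot] at hZ
    omega
  have hz3 : z ^ 3 = 1 := by
    have h1 : (⟨z, hzZ⟩ : Z) ^ Nat.card Z = 1 := pow_card_eq_one'
    rw [hZ] at h1
    exact congrArg Subtype.val h1
  have hzo : orderOf z = 3 := orderOf_eq_prime hz3 hz1
  have hZz : zpowers z = Z := by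
    apply Subgroup.eq_of_le_of_card_ge
    · rw [zpowers_le]; exact hzZ
    · rw [hZ, Nat.card_zpowers, hzo]
  have hP'N := le_normalizer_of_card D P' hD hP' hDP'
  have hPN := le_normalizer_of_card D P hD hP hDP
  set e := q * z * q⁻¹ with he
  have heD : e ∈ D := (Subgroup.mem_normalizer_iff.1 (hP'N hqP') z).1 (hZD hzZ)
  have he3 : e ^ 3 = 1 := by
    rw [he, conj_pow, hz3]; simp
  have heZ : e ∉ zpowers z := by
    intro h
    apply hqZ
    rw [hZz] at h
    have hle : Z.map (MulAut.conj q).toMonoidHom ≤ Z := by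
      rw [← hZz, MonoidHom.map_zpowers, zpowers_le, hZz]
      exact h
    rw [Subgroup.mem_normalizer_iff_map_conj_eq]
    apply Subgroup.eq_of_le_of_card_ge hle
    exact (Nat.card_congr (Subgroup.equivMapOfInjective _ _
      (MulAut.conj q).injective).toEquiv).le
  have hcomm : z * e = e * z := hDcomm z (hZD hzZ) e heD
  have hspan := span_nine D hD (hZD hzZ) heD hz3 he3 hz1 heZ hcomm
  -- `q` acts as a 3-cycle
  have hq3 : q ^ 3 * z * (q ^ 3)⁻¹ = z := by
    rw [hDcomm _ (pow_three_mem D P' hD hP' hDP' q hqP') z (hZD hzZ)]; group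
  obtain ⟨a, ha, b, hb, hqe⟩ := hspan (q * e * q⁻¹)
    ((Subgroup.mem_normalizer_iff.1 (hP'N hqP') e).1 heD)
  obtain ⟨rfl, rfl⟩ := alg_q hz3 he3 hz1 heZ hcomm a b ha hb rfl hqe hq3
  -- `p`
  obtain ⟨p, hpP, d, hdD, hpd⟩ := hPD
  have hpz : p * z * p⁻¹ = z := by rw [hZP p hpP z hzZ]; group
  have hp3 : p ^ 3 * e * (p ^ 3)⁻¹ = e := by
    rw [hDcomm _ (pow_three_mem D P hD hP hDP p hpP) e heD]; group
  obtain ⟨c, hc, d', hd', hpe⟩ := hspan (p * e * p⁻¹)
    ((Subgroup.mem_normalizer_iff.1 (hPN hpP) e).1 heD)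
  have hd1 := alg_p hz3 he3 hz1 heZ hcomm c d' hd' hpz hpe hp3
  subst hd1
  rw [pow_one] at hpe
  have hc0 : c ≠ 0 := by
    rintro rfl
    rw [pow_zero, one_mul] at hpe
    apply hpd
    obtain ⟨i, -, j, -, rfl⟩ := hspan d hdD
    have c1 : Commute p z := hZP p hpP z hzZ
    have c2 : Commute p e := mul_inv_eq_iff_eq_mul.mp hpe
    exact ((c1.pow_right i).mul_right (c2.pow_right j)).eq
  obtain ⟨p', hp'P, hp'z, hp'e⟩ : ∃ p' ∈ P, p' * z * p'⁻¹ = z ∧ p' * e * p'⁻¹ = z * e := by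
    have hc12 : c = 1 ∨ c = 2 := by omega
    rcases hc12 with rfl | rfl
    · exact ⟨p, hpP, hpz, by rw [hpe, pow_one]⟩
    · refine ⟨p⁻¹, P.inv_mem hpP, ?_, ?_⟩
      · have c1 : Commute p z := hZP p hpP z hzZ
        rw [c1.inv_left.eq]; group
      · have c1 : Commute p z := hZP p hpP z hzZ
        have h5 : e = z ^ 2 * (p⁻¹ * e * p) := by
          calc e = p⁻¹ * (p * e * p⁻¹) * p := by group
            _ = p⁻¹ * (z ^ 2 * e) * p := by rw [hpe]
            _ = (p⁻¹ * z ^ 2) * e * p := by simp only [mul_assoc]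
            _ = (z ^ 2 * p⁻¹) * e * p := by rw [((c1.inv_left).pow_right 2).eq]
            _ = z ^ 2 * (p⁻¹ * e * p) := by simp only [mul_assoc]
        rw [inv_inv]
        calc p⁻¹ * e * p = z ^ 3 * (p⁻¹ * e * p) := by rw [hz3, one_mul]
          _ = z * (z ^ 2 * (p⁻¹ * e * p)) := by rw [pow_succ' z 2, mul_assoc]
          _ = z * e := by rw [← h5]
  obtain ⟨k1, k2⟩ := alg_j hz3 he3 hcomm rfl hqe hp'z hp'e
  refine ⟨p' * q * (p' * q), ?_, ?_⟩
  · have hp'' : p' ∈ (P ⊔ P' : Subgroup G) := (le_sup_left : P ≤ P ⊔ P') hp'P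
    have hq'' : q ∈ (P ⊔ P' : Subgroup G) := (le_sup_right : P' ≤ P ⊔ P') hqP'
    exact mul_mem (mul_mem hp'' hq'') (mul_mem hp'' hq'')
  · intro d hd
    obtain ⟨i, -, j, -, rfl⟩ := hspan d hd
    set g := p' * q * (p' * q) with hg
    have h1 : MulAut.conj g z = z⁻¹ := k1
    have h2 : MulAut.conj g e = e⁻¹ := k2
    show MulAut.conj g (z ^ i * e ^ j) = _
    have hcc : Commute z e := hcomm
    rw [map_mul, map_pow, map_pow, h1, h2, inv_pow, inv_pow, ← mul_inv_rev, (hcc.pow_pow i j).eq]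

theorem comm_of_card_nine [Finite G] (D : Subgroup G) (hD : Nat.card D = 9) :
    ∀ a ∈ D, ∀ b ∈ D, a * b = b * a := by
  have h3 : Fact (Nat.Prime 3) := ⟨Nat.prime_three⟩
  intro a ha b hb
  have h4 : IsMulCommutative D :=
    IsPGroup.isMulCommutative_of_card_eq_prime_sq (p := 3) (by rw [hD]; norm_num)
  exact congrArg Subtype.val (h4.is_comm.comm ⟨a, ha⟩ ⟨b, hb⟩)

theorem sup_eq_of_ne [Finite G] (D₁ D₂ P : Subgroup G) (hD₁ : Nat.card D₁ = 9)
    (hD₂ : Nat.card D₂ = 9) (hP : Nat.card P = 27) (h₁ : D₁ ≤ P) (h₂ : D₂ ≤ P) (hne : D₁ ≠ D₂) :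
    D₁ ⊔ D₂ = P := by
  apply Subgroup.eq_of_le_of_card_ge (sup_le h₁ h₂)
  rw [hP]
  have h3 : 9 ∣ Nat.card (D₁ ⊔ D₂ : Subgroup G) := by
    rw [← hD₁]; exact Subgroup.card_dvd_of_le le_sup_left
  have h4 : Nat.card (D₁ ⊔ D₂ : Subgroup G) ∣ 27 := by
    rw [← hP]; exact Subgroup.card_dvd_of_le (sup_le h₁ h₂)
  have h5 : Nat.card (D₁ ⊔ D₂ : Subgroup G) ≠ 9 := by
    intro h5
    apply hne
    have h6 : D₁ = D₁ ⊔ D₂ := Subgroup.eq_of_le_of_card_ge le_sup_left (by rw [h5, hD₁])
    have h7 : D₂ = D₁ ⊔ D₂ := Subgroup.eq_of_le_of_card_ge le_sup_right (by rw [h5, hD₂])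
    exact h6.trans h7.symm
  have h6 := Nat.le_of_dvd (by norm_num) h4
  set c := Nat.card (D₁ ⊔ D₂ : Subgroup G) with hc
  clear_value c
  have h0 : 0 < c := by
    rcases Nat.eq_zero_or_pos c with h | h
    · rw [h] at h4; norm_num at h4
    · exact h
  interval_cases c <;> omega

theorem card_inf_eq [Finite G] (D₁ D₂ P : Subgroup G) (hD₁ : Nat.card D₁ = 9)
    (hD₂ : Nat.card D₂ = 9) (hP : Nat.card P = 27) (h₁ : D₁ ≤ P) (h₂ : D₂ ≤ P) (hne : D₁ ≠ D₂) :
    Nat.card (D₁ ⊓ D₂ : Subgroup G) = 3 := by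
  have h4 : Nat.card (D₁ ⊓ D₂ : Subgroup G) ∣ 9 := by
    rw [← hD₁]; exact Subgroup.card_dvd_of_le inf_le_left
  have h5 : Nat.card (D₁ ⊓ D₂ : Subgroup G) ≠ 9 := by
    intro h5
    apply hne
    have h6 : D₁ ⊓ D₂ = D₁ := Subgroup.eq_of_le_of_card_ge inf_le_left (by rw [h5, hD₁])
    have h7 : D₁ ⊓ D₂ = D₂ := Subgroup.eq_of_le_of_card_ge inf_le_right (by rw [h5, hD₂])
    exact h6.symm.trans h7
  have h6 : Nat.card (D₁ ⊓ D₂ : Subgroup G) ≠ 1 := by
    intro h6
    have hdisj : Disjoint D₁ D₂ := by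
      rw [disjoint_iff, ← Subgroup.card_eq_one]; exact h6
    have hinj := Subgroup.mul_injective_of_disjoint hdisj
    have h7 : Nat.card (D₁ × D₂) ≤ Nat.card P := by
      apply Nat.card_le_card_of_injective
        (fun x : D₁ × D₂ => (⟨(x.1 : G) * x.2, P.mul_mem (h₁ x.1.2) (h₂ x.2.2)⟩ : P))
      intro x y hxy
      exact hinj (congrArg Subtype.val hxy)
    rw [Nat.card_prod, hD₁, hD₂, hP] at h7
    omega
  have h7 := Nat.le_of_dvd (by norm_num) h4
  set c := Nat.card (D₁ ⊓ D₂ : Subgroup G) with hc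
  clear_value c
  interval_cases c <;> omega

theorem not81 (hG : Nat.card G = 4320) (X : Subgroup G) : ¬ 81 ∣ Nat.card X := by
  intro h
  have h1 : Nat.card X ∣ 4320 := by rw [← hG]; exact Subgroup.card_subgroup_dvd_card _
  have := h.trans h1
  norm_num at this

theorem odd_pow {x : G} (h : x ^ 27 = 1) : (x ^ 2) ^ 14 = x := by
  rw [← pow_mul, show 2 * 14 = 27 + 1 by norm_num, pow_succ, h, one_mul]

theorem odd_pow9 {x : G} (h : x ^ 9 = 1) : (x ^ 2) ^ 5 = x := by
  rw [← pow_mul, show 2 * 5 = 9 + 1 by norm_num, pow_succ, h, one_mul]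

section main

variable [Finite G] [IsSimpleGroup G]

theorem not_270 (hG : Nat.card G = 4320) (P D R : Subgroup G) (hP : Nat.card P = 27)
    (hD : Nat.card D = 9) (hDP : D ≤ P) (hR : R ∈ syl (normalizer (D : Set G))) (hRP : R ≠ P) :
    Nat.card (normalizer (P : Set G)) ≠ 270 := by
  intro h270
  have h5 : Fact (Nat.Prime 5) := ⟨Nat.prime_five⟩
  obtain ⟨S, hSN, hS⟩ := Order4320A.exists_le_card_eq (normalizer (P : Set G)) 5 1
    (by rw [h270]; norm_num)
  rw [pow_one] at hS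
  have hcomm := centralize_of_card_five S P hS hP hSN
  have hDp : IsPGroup 3 D := IsPGroup.of_card (n := 2) (by rw [hD]; norm_num)
  have hDbot : D ≠ ⊥ := by
    rintro rfl
    rw [Subgroup.card_bot] at hD
    omega
  have hPN : P ≤ normalizer (D : Set G) := le_normalizer_of_card D P hD hP hDP
  have hPs : P ∈ syl (normalizer (D : Set G)) := ⟨hP, hPN⟩
  obtain ⟨-, hN⟩ := four hG D hDbot hDp R P hR hPs hRP
  have hSC : S ≤ centralizer (D : Set G) := by
    intro s hs
    rw [Subgroup.mem_centralizer_iff]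
    intro d hd
    exact (hcomm s hs d (hDP hd)).symm
  have h1 : 5 ∣ Nat.card (normalizer (D : Set G)) := by
    rw [← hS]
    exact Subgroup.card_dvd_of_le (hSC.trans (Subgroup.centralizer_le_normalizer _))
  omega

/-- Two different intersections: one of them is of the second type. -/
theorem two_inter (hG : Nat.card G = 4320) (P D₁ D₂ R₁ R₂ : Subgroup G) (hP : Nat.card P = 27)
    (hD₁ : Nat.card D₁ = 9) (hD₂ : Nat.card D₂ = 9) (h₁ : D₁ ≤ P) (h₂ : D₂ ≤ P) (hne : D₁ ≠ D₂)
    (hR₁ : R₁ ∈ syl (normalizer (D₁ : Set G))) (hR₂ : R₂ ∈ syl (normalizer (D₂ : Set G)))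
    (hPR₁ : R₁ ≠ P) (hPR₂ : R₂ ≠ P) :
    (∃ P' ∈ syl (normalizer (D₁ : Set G)), ¬ P' ≤ normalizer ((D₁ ⊓ D₂ : Subgroup G) : Set G)) ∨
      (∃ P' ∈ syl (normalizer (D₂ : Set G)),
        ¬ P' ≤ normalizer ((D₁ ⊓ D₂ : Subgroup G) : Set G)) := by
  have h3 : Fact (Nat.Prime 3) := ⟨Nat.prime_three⟩
  by_contra hcon
  push Not at hcon
  obtain ⟨hc1, hc2⟩ := hcon
  have hbot : ∀ D : Subgroup G, Nat.card D = 9 → D ≠ ⊥ := by
    rintro D hD rfl
    rw [Subgroup.card_bot] at hD
    omega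
  have hpg : ∀ D : Subgroup G, Nat.card D = 9 → IsPGroup 3 D := fun D hD =>
    IsPGroup.of_card (n := 2) (by rw [hD]; norm_num)
  have hPD₁ : P ∈ syl (normalizer (D₁ : Set G)) := ⟨hP, le_normalizer_of_card D₁ P hD₁ hP h₁⟩
  have hPD₂ : P ∈ syl (normalizer (D₂ : Set G)) := ⟨hP, le_normalizer_of_card D₂ P hD₂ hP h₂⟩
  set Z : Subgroup G := D₁ ⊓ D₂ with hZ
  have hZc : Nat.card Z = 3 := card_inf_eq D₁ D₂ P hD₁ hD₂ hP h₁ h₂ hne
  have hZbot : Z ≠ ⊥ := by
    intro h
    rw [h, Subgroup.card_bot] at hZc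
    omega
  have hZp : IsPGroup 3 Z := IsPGroup.of_card (n := 1) (by rw [hZc]; norm_num)
  have hs1 : syl (normalizer (D₁ : Set G)) ⊆ syl (normalizer (Z : Set G)) :=
    fun Q hQ => ⟨hQ.1, hc1 Q hQ⟩
  have hs2 : syl (normalizer (D₂ : Set G)) ⊆ syl (normalizer (Z : Set G)) :=
    fun Q hQ => ⟨hQ.1, hc2 Q hQ⟩
  have n1 := (four hG D₁ (hbot D₁ hD₁) (hpg D₁ hD₁) R₁ P hR₁ hPD₁ hPR₁).1
  have n2 := (four hG D₂ (hbot D₂ hD₂) (hpg D₂ hD₂) R₂ P hR₂ hPD₂ hPR₂).1
  have nZ := (four hG Z hZbot hZp R₁ P (hs1 hR₁) (hs1 hPD₁) hPR₁).1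
  have e1 : syl (normalizer (D₁ : Set G)) = syl (normalizer (Z : Set G)) :=
    Set.eq_of_subset_of_ncard_le hs1 (by rw [n1, nZ])
  have e2 : syl (normalizer (D₂ : Set G)) = syl (normalizer (Z : Set G)) :=
    Set.eq_of_subset_of_ncard_le hs2 (by rw [n2, nZ])
  have hR₁2 : R₁ ∈ syl (normalizer (D₂ : Set G)) := by rw [e2, ← e1]; exact hR₁
  have h81 : ¬ 81 ∣ Nat.card G := by rw [hG]; norm_num
  have l1 := le_of_mem_syl_normalizer h81 D₁ R₁ (hpg D₁ hD₁) hR₁
  have l2 := le_of_mem_syl_normalizer h81 D₂ R₁ (hpg D₂ hD₂) hR₁2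
  apply hPR₁
  symm
  rw [← sup_eq_of_ne D₁ D₂ P hD₁ hD₂ hP h₁ h₂ hne]
  exact sup_eq_of_ne D₁ D₂ R₁ hD₁ hD₂ hR₁.1 l1 l2 hne

theorem typeB_false (hG : Nat.card G = 4320) (P D Z P' : Subgroup G) (hP : Nat.card P = 27)
    (hD : Nat.card D = 9) (hDP : D ≤ P) (hZ : Nat.card Z = 3) (hZD : Z ≤ D)
    (hZP : ∀ a ∈ P, ∀ z ∈ Z, a * z = z * a) (hP' : P' ∈ syl (normalizer (D : Set G)))
    (hP'Z : ¬ P' ≤ normalizer (Z : Set G)) : False := by
  have h3 : Fact (Nat.Prime 3) := ⟨Nat.prime_three⟩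
  have h2 : Fact (Nat.Prime 2) := ⟨Nat.prime_two⟩
  have h81 : ¬ 81 ∣ Nat.card G := by rw [hG]; norm_num
  have hDp : IsPGroup 3 D := IsPGroup.of_card (n := 2) (by rw [hD]; norm_num)
  have hDbot : D ≠ ⊥ := by
    rintro rfl
    rw [Subgroup.card_bot] at hD
    omega
  have hPN : P ≤ normalizer (D : Set G) := le_normalizer_of_card D P hD hP hDP
  have hPs : P ∈ syl (normalizer (D : Set G)) := ⟨hP, hPN⟩
  have hPZ : P ≤ normalizer (Z : Set G) := by
    intro a ha
    rw [Subgroup.mem_normalizer_iff]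
    intro x
    constructor
    · intro hx
      rw [hZP a ha x hx]; simpa using hx
    · intro hx
      have h4 := hZP a ha _ hx
      have h5 : x = a * x * a⁻¹ := by
        have h6 : a * (a * x * a⁻¹) * a⁻¹ = a * x * a⁻¹ := by rw [h4]; group
        have h7 : a⁻¹ * (a * (a * x * a⁻¹) * a⁻¹) * a = a⁻¹ * (a * x * a⁻¹) * a := by rw [h6]
        have h8 : a⁻¹ * (a * (a * x * a⁻¹) * a⁻¹) * a = a * x * a⁻¹ := by group
        have h9 : a⁻¹ * (a * x * a⁻¹) * a = x := by group
        rw [h8, h9] at h7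
        exact h7.symm
      rw [h5]; exact hx
  have hPP' : P' ≠ P := by
    rintro rfl
    exact hP'Z hPZ
  obtain ⟨n4, hN⟩ := four hG D hDbot hDp P' P hP' hPs hPP'
  set N := normalizer (D : Set G) with hNdef
  have hDP' : D ≤ P' := le_of_mem_syl_normalizer h81 D P' hDp hP'
  -- `P` does not centralize `D`
  have hPD : ∃ a ∈ P, ∃ d ∈ D, a * d ≠ d * a := by
    by_contra hcon
    push Not at hcon
    obtain ⟨x, hxN, hx⟩ := syl_conj N (not81 hG N) P P' hPs hP'
    apply hP'Z
    rw [hx]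
    rintro _ ⟨a, ha, rfl⟩
    show x * a * x⁻¹ ∈ _
    rw [Subgroup.mem_normalizer_iff]
    have hcent : ∀ d ∈ D, (x * a * x⁻¹) * d * (x * a * x⁻¹)⁻¹ = d := by
      intro d hd
      have hd' : x⁻¹ * d * x ∈ D := by
        have := (Subgroup.mem_normalizer_iff.1 (N.inv_mem hxN) d).1 hd
        rwa [inv_inv] at this
      have := hcon a ha _ hd'
      calc (x * a * x⁻¹) * d * (x * a * x⁻¹)⁻¹ = x * (a * (x⁻¹ * d * x)) * a⁻¹ * x⁻¹ := by group
        _ = x * ((x⁻¹ * d * x) * a) * a⁻¹ * x⁻¹ := by rw [this]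
        _ = d := by group
    have hinvmem : ∀ d ∈ D, (x * a * x⁻¹)⁻¹ * d * (x * a * x⁻¹) = d := by
      intro d hd
      have h4 := hcent d hd
      calc (x * a * x⁻¹)⁻¹ * d * (x * a * x⁻¹)
          = (x * a * x⁻¹)⁻¹ * ((x * a * x⁻¹) * d * (x * a * x⁻¹)⁻¹) * (x * a * x⁻¹) := by rw [h4]
        _ = d := by group
    intro y
    constructor
    · intro hy
      rw [hcent y (hZD hy)]; exact hy
    · intro hy
      have h4 := hinvmem _ (hZD hy)
      have h5 : (x * a * x⁻¹)⁻¹ * ((x * a * x⁻¹) * y * (x * a * x⁻¹)⁻¹) * (x * a * x⁻¹) = y := by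
        group
      rw [h5] at h4
      rw [h4]; exact hy
  obtain ⟨j, hj, hjD⟩ := exists_inverting D P P' Z hD hP hP'.1 hDP hDP' hZ hZD hZP hP'Z hPD
  have hjN : j ∈ N := (sup_le hPN hP'.2) hj
  set C := centralizer (D : Set G) with hC
  have hCN : C ≤ N := Subgroup.centralizer_le_normalizer _
  have hCZ : C ≤ normalizer (Z : Set G) := by
    intro c hc
    have h4 : c ∈ centralizer (Z : Set G) := by
      rw [Subgroup.mem_centralizer_iff] at hc ⊢
      intro z hz
      exact hc z (hZD hz)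
    exact Subgroup.centralizer_le_normalizer _ h4
  set X : Subgroup G := P ⊔ C with hX
  have hXN : X ≤ N := sup_le hPN hCN
  have hXZ : X ≤ normalizer (Z : Set G) := sup_le hPZ hCZ
  have hP'X : P' ∉ syl X := fun h => hP'Z (h.2.trans hXZ)
  have hPX : P ∈ syl X := ⟨hP, le_sup_left⟩
  have hXlt : (syl X).ncard < 4 := by
    rw [← n4]
    exact Set.ncard_lt_ncard ⟨syl_mono hXN, fun h => hP'X (h hP')⟩ (Set.toFinite _)
  have hX1 : (syl X).ncard = 1 := by
    have h4 := syl_modEq X (by rw [← hP]; exact Subgroup.card_dvd_of_le le_sup_left) (not81 hG X)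
    omega
  have hXu : ∀ Q ∈ syl X, Q = P := by
    intro Q hQ
    obtain ⟨R, hR⟩ := Set.ncard_eq_one.1 hX1
    rw [hR] at hQ hPX
    rw [Set.mem_singleton_iff] at hQ hPX
    rw [hQ, hPX]
  -- commutators with `j`
  have hjinv : ∀ d ∈ D, j⁻¹ * d * j = d⁻¹ := by
    intro d hd
    have h4 := hjD d⁻¹ (D.inv_mem hd)
    rw [inv_inv] at h4
    calc j⁻¹ * d * j = j⁻¹ * (j * d⁻¹ * j⁻¹) * j := by rw [h4]
      _ = d⁻¹ := by group
  have hcommC : ∀ a ∈ P, j * a * j⁻¹ * a⁻¹ ∈ C := by
    intro a ha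
    rw [hC, Subgroup.mem_centralizer_iff]
    intro d hd
    have had : a⁻¹ * d * a ∈ D := by
      have := (Subgroup.mem_normalizer_iff.1 (hPN (P.inv_mem ha)) d).1 hd
      rwa [inv_inv] at this
    have h4 := hjinv _ had
    have h5 := hjD d⁻¹ (D.inv_mem hd)
    rw [inv_inv] at h5
    -- `(j a j⁻¹ a⁻¹) d (j a j⁻¹ a⁻¹)⁻¹ = d`
    have h6 : (j * a * j⁻¹ * a⁻¹) * d * (j * a * j⁻¹ * a⁻¹)⁻¹ = d := by
      calc (j * a * j⁻¹ * a⁻¹) * d * (j * a * j⁻¹ * a⁻¹)⁻¹
          = j * a * (j⁻¹ * (a⁻¹ * d * a) * j) * a⁻¹ * j⁻¹ := by group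
        _ = j * a * (a⁻¹ * d * a)⁻¹ * a⁻¹ * j⁻¹ := by rw [hjinv _ had]
        _ = j * d⁻¹ * j⁻¹ := by group
        _ = d := h5
    exact (mul_inv_eq_iff_eq_mul.mp h6).symm
  have hjP : j ∈ normalizer (P : Set G) := by
    rw [Subgroup.mem_normalizer_iff_map_conj_eq]
    apply hXu
    refine ⟨?_, ?_⟩
    · rw [← hP]
      exact (Nat.card_congr (Subgroup.equivMapOfInjective _ _
        (MulAut.conj j).injective).toEquiv).symm
    · rintro _ ⟨a, ha, rfl⟩
      show j * a * j⁻¹ ∈ X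
      have h4 : j * a * j⁻¹ = (j * a * j⁻¹ * a⁻¹) * a := by group
      rw [h4]
      exact X.mul_mem ((le_sup_right : C ≤ X) (hcommC a ha)) ((le_sup_left : P ≤ X) ha)
  have hjPn : j ∉ P := by
    intro hjP
    have hj27 : j ^ 27 = 1 := by
      have h1 : (⟨j, hjP⟩ : P) ^ Nat.card P = 1 := pow_card_eq_one'
      rw [hP] at h1
      exact congrArg Subtype.val h1
    apply hDbot
    rw [Subgroup.eq_bot_iff_forall]
    intro d hd
    have hj2 : Commute (j ^ 2) d := by
      have h4 : j * (j * d * j⁻¹) * j⁻¹ = d := by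
        rw [hjD d hd, hjD _ (D.inv_mem hd), inv_inv]
      show j ^ 2 * d = d * j ^ 2
      calc j ^ 2 * d = (j * (j * d * j⁻¹) * j⁻¹) * (j * j) := by rw [pow_two]; group
        _ = d * j ^ 2 := by rw [h4, pow_two]
    have hj1 : Commute j d := by
      have := hj2.pow_left 14
      rwa [odd_pow hj27] at this
    have h5 := hjD d hd
    rw [hj1.eq] at h5
    have h6 : d = d⁻¹ := by
      calc d = d * j * j⁻¹ := by group
        _ = d⁻¹ := h5
    have h7 : d ^ 2 = 1 := by
      rw [pow_two]; nth_rewrite 2 [h6]; group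
    have hd9 : d ^ 9 = 1 := by
      have h1 : (⟨d, hd⟩ : D) ^ Nat.card D = 1 := pow_card_eq_one'
      rw [hD] at h1
      exact congrArg Subtype.val h1
    rw [← odd_pow9 hd9, h7, one_pow]
  -- the number of Sylow 3-subgroups is 40
  have hT : Nat.card (⊤ : Subgroup G) = 4320 := by rw [Subgroup.card_top, hG]
  have hmul := syl_mul (⊤ : Subgroup G) (not81 hG ⊤) P ⟨hP, le_top⟩
  rw [hT, top_inf_eq] at hmul
  have hNPgt : 27 < Nat.card (normalizer (P : Set G)) := by
    rw [← hP]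
    by_contra hle
    push Not at hle
    have h4 := Subgroup.eq_of_le_of_card_ge Subgroup.le_normalizer hle
    exact hjPn (by rw [h4]; exact hjP)
  have hmulN := syl_mul N (not81 hG N) P hPs
  rw [n4] at hmulN
  have h54 : Nat.card (N ⊓ normalizer (P : Set G) : Subgroup G) ≤ 54 := by omega
  have hNP108 : Nat.card (normalizer (P : Set G)) = 108 := by
    have h270 := not_270 hG P D P' hP hD hDP hP' hPP'
    rcases ncard_syl_top hG with h | h | h
    · rw [h] at hmul; omega
    · rw [h] at hmul; omega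
    · rw [h] at hmul; omega
  obtain ⟨g, hgP, hgN⟩ : ∃ g ∈ normalizer (P : Set G), g ∉ N := by
    by_contra hcon
    push Not at hcon
    have h4 : normalizer (P : Set G) ≤ N ⊓ normalizer (P : Set G) := le_inf hcon le_rfl
    have h5 := Subgroup.card_le_of_le h4
    omega
  set D' : Subgroup G := D.map (MulAut.conj g).toMonoidHom with hD'
  have hD'c : Nat.card D' = 9 := by
    rw [← hD]
    exact (Nat.card_congr (Subgroup.equivMapOfInjective _ _
        (MulAut.conj g).injective).toEquiv).symm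
  have hD'P : D' ≤ P := by
    rintro _ ⟨d, hd, rfl⟩
    exact (Subgroup.mem_normalizer_iff.1 hgP d).1 (hDP hd)
  have hD'ne : D' ≠ D := by
    intro h
    apply hgN
    rw [hNdef, Subgroup.mem_normalizer_iff_map_conj_eq]
    exact h
  have hPN' : P ≤ normalizer (D' : Set G) := le_normalizer_of_card D' P hD'c hP hD'P
  -- commutators modulo `D`
  have hCPD : ∀ a ∈ P, a ∈ C → a ∈ D := by
    have h4 : P ⊓ C = D := by
      have h5 : D ≤ P ⊓ C := by
        apply le_inf hDP
        intro d hd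
        rw [hC, Subgroup.mem_centralizer_iff]
        intro d' hd'
        exact comm_of_card_nine D hD d' hd' d hd
      by_contra hne
      have hne' : P ⊓ C ≠ P := by
        intro h6
        obtain ⟨a, ha, d, hd, had⟩ := hPD
        apply had
        rw [← h6] at ha
        exact ((Subgroup.mem_centralizer_iff.1 (Subgroup.mem_inf.1 ha).2) d hd).symm
      have h6 : Nat.card (P ⊓ C : Subgroup G) ∣ 27 := by
        rw [← hP]; exact Subgroup.card_dvd_of_le inf_le_left
      have h7 : 9 ∣ Nat.card (P ⊓ C : Subgroup G) := by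
        rw [← hD]; exact Subgroup.card_dvd_of_le h5
      have h8 : Nat.card (P ⊓ C : Subgroup G) ≠ 9 := by
        intro h8
        exact hne (Subgroup.eq_of_le_of_card_ge h5 (by rw [h8, hD])).symm
      have h9 : Nat.card (P ⊓ C : Subgroup G) ≠ 27 := by
        intro h9
        exact hne' (Subgroup.eq_of_le_of_card_ge inf_le_left (by rw [h9, hP]))
      have h10 := Nat.le_of_dvd (by norm_num) h6
      obtain ⟨k, hk⟩ := h7
      obtain ⟨l, hl⟩ := h6
      have hk3 : k ≤ 3 := by omega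
      interval_cases k
      · rw [hk] at hl; omega
      · omega
      · rw [hk] at hl; omega
      · omega
    intro a ha hac
    rw [← h4]
    exact Subgroup.mem_inf.2 ⟨ha, hac⟩
  have hjD1 : ∀ b ∈ P, j * b * j⁻¹ * b⁻¹ ∈ D := by
    intro b hb
    apply hCPD _ _ (hcommC b hb)
    exact P.mul_mem ((Subgroup.mem_normalizer_iff.1 hjP b).1 hb) (P.inv_mem hb)
  -- `N(P)/P` is abelian
  have hp₀ : g * j * g⁻¹ * j⁻¹ ∈ P := by
    set M := normalizer (P : Set G) with hM
    have hn : (P.subgroupOf M).Normal := Subgroup.normal_in_normalizer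
    have h4 : Nat.card (P.subgroupOf M) = 27 := by
      rw [Nat.card_congr (Subgroup.subgroupOfEquivOfLe Subgroup.le_normalizer).toEquiv, hP]
    have h5 := (P.subgroupOf M).card_mul_index
    rw [h4, hNP108] at h5
    have h6 : Nat.card (M ⧸ P.subgroupOf M) = 2 ^ 2 := by
      show (P.subgroupOf M).index = 4
      omega
    have h7 : IsMulCommutative (M ⧸ P.subgroupOf M) :=
      IsPGroup.isMulCommutative_of_card_eq_prime_sq h6
    have h8 := h7.is_comm.comm (QuotientGroup.mk' (P.subgroupOf M) ⟨g, hgP⟩)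
      (QuotientGroup.mk' (P.subgroupOf M) ⟨j, hjP⟩)
    have h9 : QuotientGroup.mk' (P.subgroupOf M)
        ((⟨g, hgP⟩ : M) * ⟨j, hjP⟩ * (⟨g, hgP⟩ : M)⁻¹ * (⟨j, hjP⟩ : M)⁻¹) = 1 := by
      rw [map_mul, map_mul, map_mul, map_inv, map_inv, h8]
      group
    have h10 := (QuotientGroup.eq_one_iff _).1 h9
    exact h10
  set p₀ := g * j * g⁻¹ * j⁻¹ with hp₀def
  have hj' : g * j * g⁻¹ = p₀ * j := by rw [hp₀def]; group
  have hclaim1 : ∀ a ∈ P, (p₀ * j) * a * (p₀ * j)⁻¹ * a⁻¹ ∈ D' := by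
    intro a ha
    have hb : g⁻¹ * a * g ∈ P := by
      have := (Subgroup.mem_normalizer_iff.1 ((normalizer (P : Set G)).inv_mem hgP) a).1 ha
      rwa [inv_inv] at this
    refine ⟨_, hjD1 _ hb, ?_⟩
    show g * (j * (g⁻¹ * a * g) * j⁻¹ * (g⁻¹ * a * g)⁻¹) * g⁻¹ = _
    rw [← hj']
    group
  have hclaim2 : ∀ a ∈ P, ∀ b ∈ P, a * b * a⁻¹ * b⁻¹ ∈ D' := by
    intro a ha b hb
    have hn : (D'.subgroupOf P).Normal :=
      (Subgroup.normal_subgroupOf_iff_le_normalizer hD'P).2 hPN'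
    have h4 : Nat.card (D'.subgroupOf P) = 9 := by
      rw [Nat.card_congr (Subgroup.subgroupOfEquivOfLe hD'P).toEquiv, hD'c]
    have h5 := (D'.subgroupOf P).card_mul_index
    rw [h4, hP] at h5
    have h6 : Nat.card (P ⧸ D'.subgroupOf P) = 3 := by
      show (D'.subgroupOf P).index = 3
      omega
    have hcyc : IsCyclic (P ⧸ D'.subgroupOf P) := isCyclic_of_prime_card h6
    have h8 : ∀ x y : P ⧸ D'.subgroupOf P, x * y = y * x := by
      intro x y
      obtain ⟨c, hc⟩ := hcyc.exists_generator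
      obtain ⟨i, hi⟩ := Subgroup.mem_zpowers_iff.1 (hc x)
      obtain ⟨k, hk⟩ := Subgroup.mem_zpowers_iff.1 (hc y)
      rw [← hi, ← hk, ← zpow_add, ← zpow_add, add_comm]
    have h9 : QuotientGroup.mk' (D'.subgroupOf P)
        ((⟨a, ha⟩ : P) * ⟨b, hb⟩ * (⟨a, ha⟩ : P)⁻¹ * (⟨b, hb⟩ : P)⁻¹) = 1 := by
      rw [map_mul, map_mul, map_mul, map_inv, map_inv, h8 (QuotientGroup.mk' _ ⟨a, ha⟩)]
      group
    have h10 := (QuotientGroup.eq_one_iff _).1 h9
    exact h10
  apply hD'ne
  symm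
  apply Subgroup.eq_of_le_of_card_ge
  · intro d hd
    have hdP := hDP hd
    have h4 := hclaim1 d hdP
    have h5 : (p₀ * j) * d * (p₀ * j)⁻¹ * d⁻¹ = p₀ * d⁻¹ * p₀⁻¹ * d⁻¹ := by
      calc (p₀ * j) * d * (p₀ * j)⁻¹ * d⁻¹ = p₀ * (j * d * j⁻¹) * p₀⁻¹ * d⁻¹ := by group
        _ = p₀ * d⁻¹ * p₀⁻¹ * d⁻¹ := by rw [hjD d hd]
    rw [h5] at h4
    have h6 := hclaim2 p₀ hp₀ d⁻¹ (P.inv_mem hdP)
    rw [inv_inv] at h6
    have h7 : d ^ 2 ∈ D' := by
      have h8 : d ^ 2 = (p₀ * d⁻¹ * p₀⁻¹ * d⁻¹)⁻¹ * (p₀ * d⁻¹ * p₀⁻¹ * d) := by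
        rw [pow_two]; group
      rw [h8]
      exact D'.mul_mem (D'.inv_mem h4) h6
    have hd9 : d ^ 9 = 1 := by
      have h1 : (⟨d, hd⟩ : D) ^ Nat.card D = 1 := pow_card_eq_one'
      rw [hD] at h1
      exact congrArg Subtype.val h1
    rw [← odd_pow9 hd9]
    exact D'.pow_mem h7 5
  · rw [hD, hD'c]

end main

/-- An invariant subset all of whose orbits have length divisible by `m`. -/
theorem dvd_ncard_of_invariant {H α : Type*} [Group H] [MulAction H α] [Finite α] (m : ℕ) :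
    ∀ (n : ℕ) (S : Set α), S.ncard = n → (∀ h : H, ∀ b ∈ S, h • b ∈ S) →
      (∀ b ∈ S, m ∣ Nat.card (orbit H b)) → m ∣ S.ncard := by
  intro n
  induction n using Nat.strong_induction_on with
  | _ n ih =>
    intro S hn hinv horb
    rcases S.eq_empty_or_nonempty with h | ⟨b, hb⟩
    · rw [h, Set.ncard_empty]; exact dvd_zero m
    · have hsub : orbit H b ⊆ S := by
        rintro _ ⟨h, rfl⟩
        exact hinv h b hb
      have h1 : (S \ orbit H b).ncard + (orbit H b).ncard = S.ncard :=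
        Set.ncard_sdiff_add_ncard_of_subset hsub
      have h2 : 0 < (orbit H b).ncard := by
        rw [Set.ncard_pos]
        exact ⟨b, mem_orbit_self b⟩
      rw [← h1]
      apply dvd_add
      · apply ih (S \ orbit H b).ncard (by omega) _ rfl
        · intro h c hc
          refine ⟨hinv h c hc.1, fun h3 => hc.2 ?_⟩
          rw [← orbit_eq_iff] at h3 ⊢
          rw [← h3]; exact (orbit_smul h c).symm
        · intro c hc
          exact horb c hc.1
      · rw [← Nat.card_coe_set_eq]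
        exact horb b hb

section final

variable [Finite G] [IsSimpleGroup G]

/-- Two distinct intersections lead to a contradiction. -/
theorem two_false (hG : Nat.card G = 4320) (P D₁ D₂ R₁ R₂ : Subgroup G) (hP : Nat.card P = 27)
    (hD₁ : Nat.card D₁ = 9) (hD₂ : Nat.card D₂ = 9) (h₁ : D₁ ≤ P) (h₂ : D₂ ≤ P) (hne : D₁ ≠ D₂)
    (hR₁ : R₁ ∈ syl (normalizer (D₁ : Set G))) (hR₂ : R₂ ∈ syl (normalizer (D₂ : Set G)))
    (hPR₁ : R₁ ≠ P) (hPR₂ : R₂ ≠ P) : False := by
  have hZc := card_inf_eq D₁ D₂ P hD₁ hD₂ hP h₁ h₂ hne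
  have hZP : ∀ a ∈ P, ∀ z ∈ D₁ ⊓ D₂, a * z = z * a := by
    have h4 : P ≤ centralizer ((D₁ ⊓ D₂ : Subgroup G) : Set G) := by
      rw [← sup_eq_of_ne D₁ D₂ P hD₁ hD₂ hP h₁ h₂ hne]
      apply sup_le
      · intro a ha
        rw [Subgroup.mem_centralizer_iff]
        intro z hz
        exact comm_of_card_nine D₁ hD₁ z (Subgroup.mem_inf.1 hz).1 a ha
      · intro a ha
        rw [Subgroup.mem_centralizer_iff]
        intro z hz
        exact comm_of_card_nine D₂ hD₂ z (Subgroup.mem_inf.1 hz).2 a ha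
    intro a ha z hz
    exact ((Subgroup.mem_centralizer_iff.1 (h4 ha)) z hz).symm
  rcases two_inter hG P D₁ D₂ R₁ R₂ hP hD₁ hD₂ h₁ h₂ hne hR₁ hR₂ hPR₁ hPR₂ with
    ⟨P', hP', hn⟩ | ⟨P', hP', hn⟩
  · exact typeB_false hG P D₁ (D₁ ⊓ D₂) P' hP hD₁ h₁ hZc inf_le_left hZP hP' hn
  · exact typeB_false hG P D₂ (D₁ ⊓ D₂) P' hP hD₂ h₂ hZc inf_le_right hZP hP' hn

theorem main (hG : Nat.card G = 4320) : False := by
  have h3 : Fact (Nat.Prime 3) := ⟨Nat.prime_three⟩
  have hT : Nat.card (⊤ : Subgroup G) = 4320 := by rw [Subgroup.card_top, hG]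
  have h81 : ¬ 81 ∣ Nat.card G := by rw [hG]; norm_num
  -- Sylow subgroups
  have hfac : (4320 : ℕ).factorization 3 = 3 := by
    rw [Nat.factorization_def _ Nat.prime_three]
    have h1 : (4320 : ℕ) = 3 ^ 3 * 160 := by norm_num
    rw [h1, padicValNat.mul (by norm_num) (by norm_num), padicValNat.prime_pow,
      padicValNat.eq_zero_of_not_dvd (by norm_num)]
  have hScard : ∀ S : Sylow 3 G, Nat.card (S : Subgroup G) = 27 := by
    intro S
    rw [Sylow.card_eq_multiplicity, hG, hfac]; norm_num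
  let S : Sylow 3 G := default
  set P : Subgroup G := (S : Subgroup G) with hPS
  have hP : Nat.card P = 27 := hScard S
  have hn := ncard_syl_top hG
  rw [ncard_syl_top_eq hG] at hn
  have hmul := syl_mul (⊤ : Subgroup G) (not81 hG ⊤) P ⟨hP, le_top⟩
  rw [hT, top_inf_eq, ncard_syl_top_eq hG] at hmul
  obtain ⟨R, hRne, hR9⟩ := SylowInter.exists_ne_pow_dvd_card_inf 3 2 3 (by
    intro h
    have h4 : Nat.card (Sylow 3 G) % 9 = 1 := h
    rcases hn with h | h | h <;> rw [h] at h4 <;> omega) S (by rw [← hPS, hP]; norm_num)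
  have hinf : ∀ Q : Sylow 3 G, Q ≠ S → 9 ∣ Nat.card (P ⊓ (Q : Subgroup G) : Subgroup G) →
      Nat.card (P ⊓ (Q : Subgroup G) : Subgroup G) = 9 := by
    intro Q hQ h9
    have h27 : Nat.card (P ⊓ (Q : Subgroup G) : Subgroup G) ∣ 27 := by
      rw [← hP]; exact Subgroup.card_dvd_of_le inf_le_left
    have hne : Nat.card (P ⊓ (Q : Subgroup G) : Subgroup G) ≠ 27 := by
      intro h
      apply hQ
      apply Sylow.ext
      have h1 : P ⊓ (Q : Subgroup G) = P := Subgroup.eq_of_le_of_card_ge inf_le_left (by rw [h, hP])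
      have h2 : P ⊓ (Q : Subgroup G) = Q :=
        Subgroup.eq_of_le_of_card_ge inf_le_right (by rw [h, hScard Q])
      exact h2.symm.trans h1
    have hle := Nat.le_of_dvd (by norm_num) h27
    obtain ⟨k, hk⟩ := h9
    obtain ⟨l, hl⟩ := h27
    have hk3 : k ≤ 3 := by omega
    interval_cases k
    · rw [hk] at hl; omega
    · omega
    · rw [hk] at hl; omega
    · omega
  have hR9' : Nat.card (P ⊓ (R : Subgroup G) : Subgroup G) = 9 :=
    hinf R (Ne.symm hRne) (by simpa using hR9)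
  set D : Subgroup G := P ⊓ (R : Subgroup G) with hD
  have hDP : D ≤ P := inf_le_left
  have hRN : (R : Subgroup G) ∈ syl (normalizer (D : Set G)) :=
    ⟨hScard R, le_normalizer_of_card D R hR9' (hScard R) inf_le_right⟩
  have hPN : P ∈ syl (normalizer (D : Set G)) :=
    ⟨hP, le_normalizer_of_card D P hR9' hP inf_le_left⟩
  have hRP : (R : Subgroup G) ≠ P := by
    intro h
    exact hRne (Sylow.ext h.symm)
  have hDp : IsPGroup 3 D := IsPGroup.of_card (n := 2) (by rw [hR9']; norm_num)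
  have hDbot : D ≠ ⊥ := by
    intro h
    rw [h, Subgroup.card_bot] at hR9'
    omega
  obtain ⟨n4, hN⟩ := four hG D hDbot hDp R P hRN hPN hRP
  have h270 := not_270 hG P D R hP hR9' hDP hRN hRP
  rcases hn with h | h | h
  · rw [h] at hmul; omega
  · -- 40
    rw [h] at hmul
    have hmulN := syl_mul (normalizer (D : Set G)) (not81 hG _) P hPN
    rw [n4] at hmulN
    obtain ⟨g, hgP, hgN⟩ : ∃ g ∈ normalizer (P : Set G), g ∉ normalizer (D : Set G) := by
      by_contra hcon
      push Not at hcon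
      have h4 : normalizer (P : Set G) ≤ normalizer (D : Set G) ⊓ normalizer (P : Set G) :=
        le_inf hcon le_rfl
      have h5 := Subgroup.card_le_of_le h4
      omega
    have hconj : ∀ K : Subgroup G, Nat.card (K.map (MulAut.conj g).toMonoidHom) = Nat.card K := by
      intro K
      exact (Nat.card_congr (Subgroup.equivMapOfInjective _ _
          (MulAut.conj g).injective).toEquiv).symm
    have hPg : P.map (MulAut.conj g).toMonoidHom = P :=
      Subgroup.mem_normalizer_iff_map_conj_eq.1 hgP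
    have hD2P : D.map (MulAut.conj g).toMonoidHom ≤ P := by
      rw [← hPg]; exact Subgroup.map_mono hDP
    have hD2R : D.map (MulAut.conj g).toMonoidHom ≤ (R : Subgroup G).map (MulAut.conj g).toMonoidHom :=
      Subgroup.map_mono inf_le_right
    refine two_false hG P D (D.map (MulAut.conj g).toMonoidHom) R
      ((R : Subgroup G).map (MulAut.conj g).toMonoidHom) hP hR9' (by rw [hconj, hR9']) hDP hD2P ?_ hRN
      ⟨by rw [hconj, hScard R], le_normalizer_of_card _ _ (by rw [hconj, hR9'])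
        (by rw [hconj, hScard R]) hD2R⟩ hRP ?_
    · intro h5
      apply hgN
      rw [Subgroup.mem_normalizer_iff_map_conj_eq]
      exact h5.symm
    · intro h5
      apply hRP
      rw [← hPg] at h5
      exact Subgroup.map_injective (MulAut.conj g).injective h5
  · -- 160
    set U : Set (Sylow 3 G) := {Q | 9 ∣ Nat.card (orbit (S : Subgroup G) Q)} with hU
    have hUdvd : 9 ∣ U.ncard := by
      apply dvd_ncard_of_invariant (H := (S : Subgroup G)) 9 _ U rfl
      · intro x Q hQ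
        show 9 ∣ Nat.card (orbit (S : Subgroup G) (x • Q))
        rw [orbit_smul]; exact hQ
      · intro Q hQ; exact hQ
    have hsum := Set.ncard_add_ncard_compl U
    rw [h] at hsum
    have hgt : (syl (normalizer (D : Set G))).ncard < Uᶜ.ncard := by
      rw [n4]; omega
    obtain ⟨Q, hQU, hQ⟩ : ∃ Q ∈ Uᶜ, (Q : Subgroup G) ∉ syl (normalizer (D : Set G)) := by
      by_contra hcon
      push Not at hcon
      have h5 : Uᶜ.ncard ≤ (syl (normalizer (D : Set G))).ncard := by
        apply Set.ncard_le_ncard_of_injOn (fun Q : Sylow 3 G => (Q : Subgroup G)) hcon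
        intro a _ b _ hab
        exact Sylow.ext hab
      omega
    have hQS : Q ≠ S := by
      rintro rfl
      exact hQ hPN
    have hQ9 : 9 ∣ Nat.card (P ⊓ (Q : Subgroup G) : Subgroup G) := by
      have h5 : ¬ 9 ∣ Nat.card (orbit (S : Subgroup G) Q) := hQU
      rw [SylowInter.card_orbit_sylow] at h5
      have h6 := ((Q : Subgroup G).subgroupOf (S : Subgroup G)).card_mul_index
      have h7 : Nat.card ((Q : Subgroup G).subgroupOf (S : Subgroup G)) =
          Nat.card (P ⊓ (Q : Subgroup G) : Subgroup G) := by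
        rw [← Subgroup.inf_subgroupOf_left]
        exact Nat.card_congr (Subgroup.subgroupOfEquivOfLe inf_le_left).toEquiv
      rw [h7] at h6
      have h8 : Nat.card (P ⊓ (Q : Subgroup G) : Subgroup G) ∣ 3 ^ 3 := by
        rw [show (3 : ℕ) ^ 3 = 27 by norm_num, ← hP]; exact Subgroup.card_dvd_of_le inf_le_left
      obtain ⟨k, hk, hk'⟩ := (Nat.dvd_prime_pow Nat.prime_three).1 h8
      have hS27 : Nat.card (S : Subgroup G) = 27 := hP
      rw [hk', hS27] at h6
      rw [hk']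
      interval_cases k
      · exfalso; apply h5
        rw [show ((Q : Subgroup G).subgroupOf (S : Subgroup G)).index = 27 by omega]
        norm_num
      · exfalso; apply h5
        rw [show ((Q : Subgroup G).subgroupOf (S : Subgroup G)).index = 9 by omega]
      · norm_num
      · norm_num
    have hQ9' := hinf Q hQS hQ9
    have hQP : (Q : Subgroup G) ≠ P := fun h => hQS (Sylow.ext h)
    refine two_false hG P D (P ⊓ (Q : Subgroup G)) R Q hP hR9' hQ9' hDP inf_le_left ?_ hRN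
      ⟨hScard Q, le_normalizer_of_card _ _ hQ9' (hScard Q) inf_le_right⟩ hRP hQP
    intro h5
    apply hQ
    rw [h5]
    exact ⟨hScard Q, le_normalizer_of_card _ _ hQ9' (hScard Q) inf_le_right⟩

end final

end Cfsg.Agent.SmallSimple.Order4320C
end

-- part: S0977
section
set_option autoImplicit false
open Cfsg

namespace Cfsg.Agent.S0977

/-- No finite simple group has order 4320 = 2^5 * 3^3 * 5. -/
theorem result {G : Type*} [Group G] [Finite G] [IsSimpleGroup G] : Nat.card G ≠ 4320 := by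
  intro h
  exact Cfsg.Agent.SmallSimple.Order4320C.main h

end Cfsg.Agent.S0977
end
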