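import Cfsg.Agent.SmallSimple.Order5040
import Mathlib
import Cfsg.Statements.S0978
set_option linter.all false

-- part: SmallSimple/Order5040B
section
set_option autoImplicit false
namespace Cfsg.Agent.SmallSimple.Order5040B

open Subgroup MulAction
open Cfsg.Agent.SmallSimple.SylowPrime Cfsg.Agent.SmallSimple.SylowPrimeCount
open Cfsg.Agent.SmallSimple.FixCount Cfsg.Agent.SmallSimple.PrimeSylowAut
open Cfsg.Agent.SmallSimple.Order5040

variable {G : Type*} [Group G] [Finite G] [IsSimpleGroup G]

theorem n7_eq (hG : Nat.card G = 5040) : Nat.card (Sylow 7 G) = 120 := by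
  rcases n7_mem hG with h | h | h | h
  · exact absurd h (n7_ne_8 hG)
  · exact absurd h (n7_ne_15 hG)
  · exact absurd h (n7_ne_36 hG)
  · exact h

theorem card_normalizer7 (hG : Nat.card G = 5040) (P : Sylow 7 G) :
    Nat.card (normalizer (P : Set G)) = 42 := by
  have := fact7
  have := card_normalizer_mul P (n7_eq hG) hG
  omega

/-- No element of order 5 commutes with an element of order 7. -/
theorem not_comm_5_7 (hG : Nat.card G = 5040) {u v : G} (hu : orderOf u = 5)
    (hv : orderOf v = 7) : u * v ≠ v * u := by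
  have := fact7
  intro huv
  obtain ⟨Q, hQ⟩ := exists_sylow_eq_zpowers (card_sylow7 hG) hv
  have hv1 : v ≠ 1 := by rintro rfl; rw [orderOf_one] at hv; norm_num at hv
  have h1 : u ∈ centralizer ((Q : Subgroup G) : Set G) :=
    mem_centralizer_of_commute (by norm_num) (card_sylow7 hG Q) (by
      rw [hQ]; exact mem_zpowers v) hv1 huv
  have h2 := centralizer_le_normalizer' (Q : Subgroup G) h1
  have h3 : orderOf u ∣ Nat.card (normalizer (Q : Set G)) := by
    rw [← Subgroup.orderOf_mk u h2]; exact orderOf_dvd_natCard _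
  rw [hu, card_normalizer7 hG Q] at h3
  norm_num at h3

/-- `7` does not divide the order of the centralizer of a Sylow 5-subgroup -/
theorem not_seven_dvd_centralizer5 (hG : Nat.card G = 5040) (P : Sylow 5 G) :
    ¬ 7 ∣ Nat.card (centralizer (P : Set G)) := by
  have := fact7
  have := fact5
  intro h
  obtain ⟨⟨v, hvC⟩, hv⟩ := exists_prime_orderOf_dvd_card' 7 h
  rw [Subgroup.orderOf_mk] at hv
  have h5 : 5 ∣ Nat.card P := by rw [card_sylow5 hG P]
  obtain ⟨⟨u, huP⟩, hu⟩ := exists_prime_orderOf_dvd_card' 5 h5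
  rw [Subgroup.orderOf_mk] at hu
  exact not_comm_5_7 hG hu hv (mem_centralizer_iff.1 hvC u huP)

theorem n5_ne_36 (hG : Nat.card G = 5040) : Nat.card (Sylow 5 G) ≠ 36 := by
  have := fact5
  intro hn
  let P : Sylow 5 G := default
  have hN := card_normalizer_mul P hn hG
  obtain ⟨e, he1, he2, he3⟩ := automizer (by rw [hG]; norm_num) P (card_sylow5 hG P)
  have he4 : e ≤ 4 := Nat.le_of_dvd (by norm_num) he1
  have h7 := not_seven_dvd_centralizer5 hG P
  rw [he3] at hN
  norm_num at he1
  interval_cases e <;> omega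

theorem n5_ne_16 (hG : Nat.card G = 5040) : Nat.card (Sylow 5 G) ≠ 16 := by
  have := fact5
  intro hn
  let P : Sylow 5 G := default
  have hN := card_normalizer_mul P hn hG
  obtain ⟨e, he1, he2, he3⟩ := automizer (by rw [hG]; norm_num) P (card_sylow5 hG P)
  have he4 : e ≤ 4 := Nat.le_of_dvd (by norm_num) he1
  rw [he3] at hN
  norm_num at he1
  interval_cases e <;> omega

theorem n5_ne_336 (hG : Nat.card G = 5040) : Nat.card (Sylow 5 G) ≠ 336 := by
  have := fact5
  intro hn
  let P : Sylow 5 G := default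
  have hN := card_normalizer_mul P hn hG
  obtain ⟨e, he1, he2, he3⟩ := automizer (by rw [hG]; norm_num) P (card_sylow5 hG P)
  have he4 : e ≤ 4 := Nat.le_of_dvd (by norm_num) he1
  rw [he3] at hN
  norm_num at he1
  interval_cases e <;> omega

theorem n5_ne_6 (hG : Nat.card G = 5040) : Nat.card (Sylow 5 G) ≠ 6 := by
  have := fact5
  intro hn
  have h := SylowCount.card_dvd_factorial_card_sylow (G := G) (p := 5) (by rw [hG]; norm_num)
    (by rw [hG]; norm_num)
  rw [hn, hG] at h
  revert h
  decide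

omit [Finite G] [IsSimpleGroup G] in
/-- A Sylow subgroup contained in the normalizer of another one is equal to it. -/
theorem sylow_eq_of_le_normalizer {p : ℕ} [Fact p.Prime] (P Q : Sylow p G)
    (h : (P : Subgroup G) ≤ normalizer (Q : Set G)) : P = Q := by
  have h1 : (P : Subgroup G) ⊓ normalizer (Q : Set G) = (P : Subgroup G) ⊓ (Q : Subgroup G) :=
    IsPGroup.inf_normalizer_sylow P.2 Q
  have h2 : (P : Subgroup G) ≤ Q := by
    intro x hx
    have h3 : x ∈ (P : Subgroup G) ⊓ normalizer (Q : Set G) := ⟨hx, h hx⟩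
    rw [h1] at h3
    exact h3.2
  exact Sylow.ext (P.3 Q.2 h2).symm

theorem n5_ne_56 (hG : Nat.card G = 5040) : Nat.card (Sylow 5 G) ≠ 56 := by
  have := fact5
  have := fact3
  intro hn
  let P : Sylow 5 G := default
  have hN := card_normalizer_mul P hn hG
  obtain ⟨e, he1, he2, he3⟩ := automizer (by rw [hG]; norm_num) P (card_sylow5 hG P)
  have he4 : e ≤ 4 := Nat.le_of_dvd (by norm_num) he1
  have hC : Nat.card (centralizer (P : Set G)) = 45 := by
    rw [he3] at hN
    norm_num at he1
    interval_cases e <;> omega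
  -- a Sylow 3-subgroup centralizing `P`
  obtain ⟨Q0⟩ : Nonempty (Sylow 3 (centralizer (P : Set G))) := inferInstance
  have hQ0 : Nat.card Q0 = 9 :=
    SylowPrimeInvol.card_sylow_of_card_eq Q0 (k := 2) (m := 5) (by rw [hC]; norm_num) (by norm_num)
  have hQ0p : IsPGroup 3 ((Q0 : Subgroup (centralizer (P : Set G))).map
      (centralizer (P : Set G)).subtype) := Q0.2.map _
  obtain ⟨Q, hQ⟩ := hQ0p.exists_le_sylow
  have hQeq : (Q : Subgroup G) = (Q0 : Subgroup (centralizer (P : Set G))).map
      (centralizer (P : Set G)).subtype := by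
    symm
    apply Subgroup.eq_of_le_of_card_ge hQ
    have h1 : Nat.card ((Q0 : Subgroup (centralizer (P : Set G))).map
      (centralizer (P : Set G)).subtype) = 9 := by
      rw [← hQ0]
      exact Nat.card_congr ((Q0 : Subgroup (centralizer (P : Set G))).equivMapOfInjective _
        (Subgroup.subtype_injective _)).symm.toEquiv
    rw [h1]
    exact (card_sylow3 hG Q).le
  have hQC : (Q : Subgroup G) ≤ centralizer (P : Set G) := by
    rw [hQeq]
    rintro _ ⟨x, _, rfl⟩
    exact x.2
  have hPC : (P : Subgroup G) ≤ centralizer ((Q : Subgroup G) : Set G) := by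
    intro x hx
    rw [mem_centralizer_iff]
    intro y hy
    exact (mem_centralizer_iff.1 (hQC hy) x hx).symm
  -- `C(P) ≤ N(Q)`
  have hCN : centralizer (P : Set G) ≤ normalizer (Q : Set G) := by
    set D := centralizer (P : Set G) ⊓ normalizer (Q : Set G) with hD
    have h9 : 9 ∣ Nat.card D := by
      have h1 : (Q : Subgroup G) ≤ D := le_inf hQC le_normalizer
      have h2 := card_dvd_of_le h1
      rwa [card_sylow3 hG Q] at h2
    have h5 : 5 ∣ Nat.card D := by
      have h1 : (P : Subgroup G) ≤ D := by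
        refine le_inf ?_ (hPC.trans (centralizer_le_normalizer' _))
        intro x hx
        rw [mem_centralizer_iff]
        intro y hy
        have hcyc : IsCyclic P := isCyclic_of_prime_card (card_sylow5 hG P)
        exact congrArg Subtype.val (hcyc.isMulCommutative.is_comm.comm (⟨y, hy⟩ : P) ⟨x, hx⟩)
      have h2 := card_dvd_of_le h1
      rwa [card_sylow5 hG P] at h2
    have h45 : 45 ∣ Nat.card D := by
      have : Nat.Coprime 9 5 := by norm_num
      exact this.mul_dvd_of_dvd_of_dvd h9 h5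
    have h1 : D = centralizer (P : Set G) := by
      apply Subgroup.eq_of_le_of_card_ge inf_le_left
      rw [hC]
      exact Nat.le_of_dvd Nat.card_pos h45
    rw [← h1]
    exact inf_le_right
  -- `N(P) ≤ N(Q)`
  have hNN : normalizer (P : Set G) ≤ normalizer (Q : Set G) := by
    intro x hx
    rw [← Sylow.smul_eq_iff_mem_normalizer]
    apply sylow_eq_of_le_normalizer
    refine le_trans ?_ hCN
    intro y hy
    have h1 : x⁻¹ * y * x ∈ (Q : Subgroup G) := by
      obtain ⟨w, hw, hwy⟩ := hy
      have h3 : x * w * x⁻¹ = y := hwy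
      have h4 : x⁻¹ * y * x = w := by rw [← h3]; group
      rw [h4]; exact hw
    have h4 := hQC h1
    rw [mem_centralizer_iff] at h4 ⊢
    intro w hw
    have h5 := h4 (x⁻¹ * w * x) (by
      have h9 := (mem_normalizer_iff.1 (inv_mem hx) w).1 hw
      rw [inv_inv] at h9
      exact h9)
    have h6 : x * (x⁻¹ * w * x * (x⁻¹ * y * x)) * x⁻¹ = x * (x⁻¹ * y * x * (x⁻¹ * w * x)) * x⁻¹ := by
      rw [h5]
    have h7 : x * (x⁻¹ * w * x * (x⁻¹ * y * x)) * x⁻¹ = w * y := by group
    have h8 : x * (x⁻¹ * y * x * (x⁻¹ * w * x)) * x⁻¹ = y * w := by group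
    rw [h7, h8] at h6
    exact h6
  obtain ⟨n, hn1, hn2⟩ := card_eq_mul_modEq_one P (normalizer (Q : Set G))
    (le_normalizer.trans hNN)
  have h1 : normalizer (Q : Set G) ⊓ normalizer (P : Set G) = normalizer (P : Set G) :=
    inf_eq_right.2 hNN
  rw [h1, he3, hC] at hn2
  have h2 := SylowPrimeInvol.card_normalizer_mul Q
  have he : e = 2 := by
    rw [he3, hC] at hN
    omega
  have h3 := card_sylow_modEq_one 3 G
  have h4 : Nat.card (Sylow 3 G) ≠ 1 :=
    SylowPrimeInvol.card_sylow_ne_one (G := G) (p := 3) (k := 2) (m := 560) (by rw [hG]; norm_num)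
    (by norm_num) (by norm_num) (by norm_num)
  rw [hn2, hG, he] at h2
  have h5 : n * Nat.card (Sylow 3 G) = 56 := by
    have : 45 * 2 * n * Nat.card (Sylow 3 G) = 90 * (n * Nat.card (Sylow 3 G)) := by ring
    omega
  generalize Nat.card (Sylow 3 G) = m at *
  unfold Nat.ModEq at hn1 h3
  have h6 : n ∣ 56 := ⟨m, h5.symm⟩
  have h7 : n ≤ 56 := Nat.le_of_dvd (by norm_num) h6
  interval_cases n <;> omega

end Cfsg.Agent.SmallSimple.Order5040B
end

-- part: SmallSimple/Order5040C
section
set_option autoImplicit false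
namespace Cfsg.Agent.SmallSimple.Order5040C

open Subgroup MulAction
open Cfsg.Agent.SmallSimple.SylowPrime Cfsg.Agent.SmallSimple.SylowPrimeCount
open Cfsg.Agent.SmallSimple.FixCount Cfsg.Agent.SmallSimple.PrimeSylowAut
open Cfsg.Agent.SmallSimple.Order5040 Cfsg.Agent.SmallSimple.Order5040B

variable {G : Type*} [Group G] [Finite G] [IsSimpleGroup G]

/-- If `u` (with `u ≠ 1`, `u ^ 2 = 1`) centralizes `P` and has no other conjugate in `N(P)`, and
`|C(u)| = 336`, contradiction. -/
theorem aux_336 (hG : Nat.card G = 5040) (P : Sylow 7 G) {u : G} (huC : u ∈ centralizer (P : Set G))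
    (hu2 : u ^ 2 = 1) (hu1 : u ≠ 1) (hu : ∀ h, IsConj u h → h ∈ normalizer (P : Set G) → h = u)
    (hC : Nat.card (centralizer {u}) = 336) : False := by
  have := fact7
  have hidx : Nat.card (G ⧸ (centralizer {u})) = 15 := by
    have h1 := (centralizer {u}).card_mul_index
    rw [hC, hG] at h1
    have h2 : (centralizer {u}).index = Nat.card (G ⧸ (centralizer {u})) := rfl
    omega
  have h7 : 7 ∣ Nat.card P := by rw [card_sylow7 hG P]
  obtain ⟨⟨v, hvP⟩, hv⟩ := exists_prime_orderOf_dvd_card' 7 h7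
  rw [Subgroup.orderOf_mk] at hv
  have hv1 : v ≠ 1 := by rintro rfl; rw [orderOf_one] at hv; norm_num at hv
  have huv : v * u = u * v := mem_centralizer_iff.1 huC v hvP
  have h1 := card_fixedBy_modEq_inter (X := G ⧸ (centralizer {u})) (q := 7)
    (by rw [← hv]; exact pow_orderOf_eq_one v) huv
  have h2 : Nat.card {x : G ⧸ (centralizer {u}) // u • x = x ∧ v • x = x} = 1 := by
    rw [Nat.card_eq_one_iff_unique]
    have key : ∀ x : G ⧸ (centralizer {u}), v • x = x → x = QuotientGroup.mk 1 := by
      intro x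
      obtain ⟨g, rfl⟩ := QuotientGroup.mk_surjective x
      intro hx
      have h3 := (mk_mem_fixedBy_iff (centralizer {u}) v g).1 hx
      rw [mem_centralizer_singleton_iff] at h3
      have h4 : g * u * g⁻¹ * v = v * (g * u * g⁻¹) := by
        calc g * u * g⁻¹ * v = g * (u * (g⁻¹ * v * g)) * g⁻¹ := by group
          _ = g * ((g⁻¹ * v * g) * u) * g⁻¹ := by rw [h3]
          _ = v * (g * u * g⁻¹) := by group
      have h5 : g * u * g⁻¹ ∈ centralizer ((P : Subgroup G) : Set G) :=
        mem_centralizer_of_commute (by norm_num) (card_sylow7 hG P) hvP hv1 h4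
      have h6 : g * u * g⁻¹ = u :=
        hu _ (isConj_iff.2 ⟨g, rfl⟩) (centralizer_le_normalizer' (P : Subgroup G) h5)
      rw [QuotientGroup.eq, mul_one, mem_centralizer_singleton_iff]
      have h7 : g * u = u * g := mul_inv_eq_iff_eq_mul.1 h6
      calc g⁻¹ * u = g⁻¹ * (u * g) * g⁻¹ := by group
        _ = g⁻¹ * (g * u) * g⁻¹ := by rw [h7]
        _ = u * g⁻¹ := by group
    have hone : u • (QuotientGroup.mk 1 : G ⧸ (centralizer {u})) = QuotientGroup.mk 1 := by
      apply (mk_mem_fixedBy_iff (centralizer {u}) u 1).2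
      rw [mem_centralizer_singleton_iff]; group
    have hone' : v • (QuotientGroup.mk 1 : G ⧸ (centralizer {u})) = QuotientGroup.mk 1 := by
      apply (mk_mem_fixedBy_iff (centralizer {u}) v 1).2
      rw [mem_centralizer_singleton_iff]; simpa using huv
    refine ⟨⟨?_⟩, ⟨⟨QuotientGroup.mk 1, hone, hone'⟩⟩⟩
    rintro ⟨a, ha⟩ ⟨b, hb⟩
    apply Subtype.ext
    show a = b
    rw [key a ha.2, key b hb.2]
  rw [h2] at h1
  obtain ⟨k, h3⟩ := parity hG (X := G ⧸ (centralizer {u})) (t := u) hu2
  have h4 := FixCount.card_fixedBy_lt (X := G ⧸ (centralizer {u})) (by rw [hidx]; norm_num) hu1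
  rw [hidx] at h3 h4
  unfold Nat.ModEq at h1
  omega

theorem card_centralizer7_ne_14 (hG : Nat.card G = 5040) (P : Sylow 7 G) :
    Nat.card (centralizer (P : Set G)) ≠ 14 := by
  have := fact7
  have := fact2
  intro hC
  have hN := card_normalizer7 hG P
  have hn := n7_eq hG
  have hPle : (P : Subgroup G) ≤ centralizer (P : Set G) := by
    intro x hx
    rw [mem_centralizer_iff]
    intro y hy
    have hcyc : IsCyclic P := isCyclic_of_prime_card (card_sylow7 hG P)
    exact congrArg Subtype.val (hcyc.isMulCommutative.is_comm.comm (⟨y, hy⟩ : P) ⟨x, hx⟩)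
  have h2 : 2 ∣ Nat.card (centralizer (P : Set G)) := by rw [hC]; norm_num
  obtain ⟨⟨u, huC⟩, hu⟩ := exists_prime_orderOf_dvd_card' 2 h2
  have hu' : orderOf u = 2 := by rw [← hu, Subgroup.orderOf_mk]
  have hu2 : u ^ 2 = 1 := by rw [← hu']; exact pow_orderOf_eq_one u
  have hu1 : u ≠ 1 := by rintro rfl; rw [orderOf_one] at hu'; norm_num at hu'
  -- involutions of `N(P)` lie in `C(P)`
  have hNC : ∀ h ∈ normalizer (P : Set G), h ^ 2 = 1 → h ∈ centralizer (P : Set G) := by
    intro h hh h2
    have hnorm : ((centralizer (P : Set G)).subgroupOf (normalizer (P : Set G))).Normal :=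
      inferInstance
    have hidx : ((centralizer (P : Set G)).subgroupOf (normalizer (P : Set G))).index = 3 := by
      have h3 := card_mul_index ((centralizer (P : Set G)).subgroupOf (normalizer (P : Set G)))
      have h4 : Nat.card ((centralizer (P : Set G)).subgroupOf (normalizer (P : Set G))) = 14 := by
        rw [← hC]
        exact Nat.card_congr
          (subgroupOfEquivOfLe (centralizer_le_normalizer' (P : Subgroup G))).toEquiv
      have h5 : Nat.card (normalizer (P : Set G)) = 42 := hN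
      rw [h4, h5] at h3
      omega
    have h3 := Subgroup.pow_index_mem
      ((centralizer (P : Set G)).subgroupOf (normalizer (P : Set G))) ⟨h, hh⟩
    rw [hidx, mem_subgroupOf] at h3
    have h4 : h ^ 3 ∈ centralizer (P : Set G) := h3
    have h5 : h ^ 3 = h := by rw [pow_succ, h2, one_mul]
    rwa [h5] at h4
  -- uniqueness of the involution in `C(P)`
  have huniq : ∀ h ∈ centralizer (P : Set G), h ^ 2 = 1 → h ≠ 1 → h = u := by
    intro h hh hh2 hh1
    have hidx : ((P : Subgroup G).subgroupOf (centralizer (P : Set G))).index = 2 := by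
      have h3 := card_mul_index ((P : Subgroup G).subgroupOf (centralizer (P : Set G)))
      have h4 : Nat.card ((P : Subgroup G).subgroupOf (centralizer (P : Set G))) = 7 :=
        (Nat.card_congr (subgroupOfEquivOfLe hPle).toEquiv).trans (card_sylow7 hG P)
      rw [h4, hC] at h3
      omega
    have hnotP : ∀ x : G, x ^ 2 = 1 → x ∈ (P : Subgroup G) → x = 1 := by
      intro x hx hxP
      have h3 : orderOf x ∣ 7 := by
        have h8 := card_sylow7 hG P
        have h9 := orderOf_dvd_natCard (⟨x, hxP⟩ : (P : Subgroup G))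
        rw [Subgroup.orderOf_mk] at h9
        exact h9.trans (dvd_of_eq h8)
      have h4 : orderOf x ∣ 2 := orderOf_dvd_of_pow_eq_one hx
      have h5 : orderOf x ∣ 1 := by
        have := Nat.dvd_gcd h3 h4
        norm_num at this ⊢
        exact this
      exact orderOf_eq_one_iff.1 (Nat.dvd_one.1 h5)
    have h3 : (⟨h, hh⟩ * ⟨u, huC⟩ : centralizer (P : Set G)) ∈
        (P : Subgroup G).subgroupOf (centralizer (P : Set G)) := by
      rw [Subgroup.mul_mem_iff_of_index_two hidx, mem_subgroupOf, mem_subgroupOf]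
      constructor
      · intro h4
        exact absurd (hnotP h hh2 h4) hh1
      · intro h4
        exact absurd (hnotP u hu2 h4) hu1
    rw [mem_subgroupOf] at h3
    have h4 : h * u ∈ (P : Subgroup G) := h3
    have h5 : (h * u) ^ 2 = 1 := by
      have h6 : (h * u) * u = u * (h * u) := mem_centralizer_iff.1 huC _ h4
      have h7 : h * u = u * h := by
        have : (h * u) * u = (u * h) * u := by rw [h6, mul_assoc]
        exact mul_right_cancel this
      rw [(show Commute h u from h7).mul_pow, hh2, hu2, one_mul]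
    have h6 := hnotP _ h5 h4
    have h7 : h = u⁻¹ := eq_inv_of_mul_eq_one_left h6
    rw [h7, inv_eq_iff_mul_eq_one, ← pow_two, hu2]
  have hJ : ∀ h, IsConj u h → h ∈ normalizer (P : Set G) → h = u := by
    intro h hc hh
    have h9 : h ^ 2 = 1 := by
      obtain ⟨c, hc⟩ := isConj_iff.1 hc
      rw [← hc, conj_pow, hu2]; group
    have h10 : h ≠ 1 := by
      rintro rfl
      exact hu1 (isConj_one_left.1 hc)
    exact huniq h (hNC h hh h9) h9 h10
  have hJ1 : Nat.card {h : G // IsConj u h ∧ h ∈ normalizer (P : Set G)} = 1 := by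
    rw [Nat.card_eq_one_iff_unique]
    refine ⟨⟨?_⟩, ⟨⟨u, IsConj.refl u, centralizer_le_normalizer' (P : Subgroup G) huC⟩⟩⟩
    rintro ⟨a, ha⟩ ⟨b, hb⟩
    apply Subtype.ext
    show a = b
    rw [hJ a ha.1 ha.2, hJ b hb.1 hb.2]
  have hcount := card_fixedBy_sylow P u
  rw [hJ1, hN, one_mul] at hcount
  have h6 := card_fixedBy_modEq_one P huC
  obtain ⟨k, h7⟩ := parity hG (X := Sylow 7 G) (t := u) hu2
  have h8 : Nat.card (fixedBy (Sylow 7 G) u) < Nat.card (Sylow 7 G) :=
    SylowPrimeCount.card_fixedBy_lt (by rw [hn]; norm_num) hu1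
  rw [hn] at h7 h8
  have h9 := card_subgroup_dvd_card (centralizer {u})
  rw [← hcount, hG] at h9
  have h10 : Nat.card (fixedBy (Sylow 7 G) u) = 8 := by
    generalize Nat.card (fixedBy (Sylow 7 G) u) = f at *
    unfold Nat.ModEq at h6
    have h11 : ∀ f < 120, (f % 7 = 1 % 7 ∧ f % 4 = 0 ∧ f * 42 ∣ 5040) → f = 8 := by
      decide +kernel
    exact h11 f h8 ⟨h6, by omega, h9⟩
  rw [h10] at hcount
  exact aux_336 hG P huC hu2 hu1 hJ (by omega)

end Cfsg.Agent.SmallSimple.Order5040C
end

-- part: SmallSimple/Order5040D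
section
set_option autoImplicit false
namespace Cfsg.Agent.SmallSimple.Order5040D

open Subgroup MulAction
open Cfsg.Agent.SmallSimple.SylowPrime Cfsg.Agent.SmallSimple.SylowPrimeCount
open Cfsg.Agent.SmallSimple.FixCount Cfsg.Agent.SmallSimple.PrimeSylowAut
open Cfsg.Agent.SmallSimple.Order5040 Cfsg.Agent.SmallSimple.Order5040B

variable {G : Type*} [Group G] [Finite G] [IsSimpleGroup G]

/-- The element `w` of order divisible by 6 in `N(P)`. -/
theorem exists_six_dvd_orderOf (hG : Nat.card G = 5040) (P : Sylow 7 G)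
    (hC : Nat.card (centralizer (P : Set G)) = 7) :
    ∃ w ∈ normalizer (P : Set G), 6 ∣ orderOf w := by
  have := fact7
  obtain ⟨w, hw, hgen⟩ := exists_generator_mod_centralizer (p := 7) (by norm_num)
    (card_sylow7 hG P) (normalizer (P : Set G)) le_rfl
  refine ⟨w, hw, ?_⟩
  set N := normalizer (P : Set G) with hNdef
  set C := (centralizer (P : Set G)).subgroupOf N with hCdef
  have hnorm : C.Normal := inferInstance
  have hidx : C.index = 6 := by
    have h3 := card_mul_index C
    have h4 : Nat.card C = 7 := by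
      rw [← hC]
      exact Nat.card_congr
        (subgroupOfEquivOfLe (centralizer_le_normalizer' (P : Subgroup G))).toEquiv
    have h5 : Nat.card N = 42 := card_normalizer7 hG P
    rw [h4, h5] at h3
    omega
  have h1 : ∀ x : N ⧸ C, x ∈ zpowers (QuotientGroup.mk (⟨w, hw⟩ : N) : N ⧸ C) := by
    intro x
    obtain ⟨x, rfl⟩ := QuotientGroup.mk_surjective x
    obtain ⟨n, hn⟩ := hgen x.1 x.2
    rw [mem_zpowers_iff]
    refine ⟨-(n : ℤ), ?_⟩
    have h2 : x * (⟨w, hw⟩ : N) ^ n ∈ C := hn
    have h3 : (QuotientGroup.mk (x * (⟨w, hw⟩ : N) ^ n) : N ⧸ C) = 1 :=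
      (QuotientGroup.eq_one_iff _).2 h2
    rw [QuotientGroup.mk_mul, QuotientGroup.mk_pow] at h3
    rw [zpow_neg, zpow_natCast]
    exact (eq_inv_of_mul_eq_one_left h3).symm
  have h2 : orderOf (QuotientGroup.mk (⟨w, hw⟩ : N) : N ⧸ C) = 6 := by
    rw [← Nat.card_zpowers]
    have h3 : zpowers (QuotientGroup.mk (⟨w, hw⟩ : N) : N ⧸ C) = ⊤ := by
      rw [eq_top_iff]; intro x _; exact h1 x
    rw [h3, card_top]
    exact hidx
  have h3 : orderOf (QuotientGroup.mk' C (⟨w, hw⟩ : N)) ∣ orderOf (⟨w, hw⟩ : N) :=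
    orderOf_map_dvd _ _
  rw [Subgroup.orderOf_mk] at h3
  have h4 : orderOf (QuotientGroup.mk' C (⟨w, hw⟩ : N)) = 6 := h2
  rw [h4] at h3
  exact h3

/-- The involution `t` and the element `y` of order 3 of `N(P)`. -/
theorem exists_t_y (hG : Nat.card G = 5040) (P : Sylow 7 G)
    (hC : Nat.card (centralizer (P : Set G)) = 7) :
    ∃ t y : G, t ∈ normalizer (P : Set G) ∧ t ∉ centralizer (P : Set G) ∧ t ^ 2 = 1 ∧ t ≠ 1 ∧
      orderOf y = 3 ∧ y * t = t * y ∧ ¬ 5 ∣ Nat.card (centralizer {t}) := by
  have := fact7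
  have := fact5
  obtain ⟨w, hw, h6⟩ := exists_six_dvd_orderOf hG P hC
  have hw0 : orderOf w ≠ 0 := (orderOf_pos w).ne'
  have ht : orderOf (w ^ (orderOf w / 2)) = 2 :=
    orderOf_pow_orderOf_div hw0 (Dvd.dvd.trans (by norm_num) h6)
  have hy : orderOf (w ^ (orderOf w / 3)) = 3 :=
    orderOf_pow_orderOf_div hw0 (Dvd.dvd.trans (by norm_num) h6)
  set t := w ^ (orderOf w / 2) with htdef
  have ht2 : t ^ 2 = 1 := by rw [← ht]; exact pow_orderOf_eq_one t
  have ht1 : t ≠ 1 := by intro h; rw [h, orderOf_one] at ht; norm_num at ht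
  have htN : t ∈ normalizer (P : Set G) := pow_mem hw _
  have htC : t ∉ centralizer (P : Set G) := by
    intro h
    have h1 := orderOf_dvd_natCard (⟨t, h⟩ : centralizer (P : Set G))
    rw [Subgroup.orderOf_mk, ht, hC] at h1
    norm_num at h1
  refine ⟨t, w ^ (orderOf w / 3), htN, htC, ht2, ht1, hy, ?_, ?_⟩
  · exact (Commute.refl w).pow_pow _ _
  · intro h5
    have h1 := mul_card_fixedBy_le P (card_sylow7 hG P) htN htC
    obtain ⟨k, h2⟩ := parity hG (X := Sylow 7 G) (t := t) ht2
    have h3 := card_fixedBy_sylow P t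
    have h4 : P ∈ fixedBy (Sylow 7 G) t := Sylow.smul_eq_iff_mem_normalizer.2 htN
    have h5' : 0 < Nat.card (fixedBy (Sylow 7 G) t) := by
      have : Nonempty (fixedBy (Sylow 7 G) t) := ⟨⟨P, h4⟩⟩
      exact Nat.card_pos
    have h6 : 5 ∣ Nat.card (fixedBy (Sylow 7 G) t) * 42 := by
      rw [← card_normalizer7 hG P, h3]
      exact Dvd.dvd.mul_left h5 _
    have h7 : 5 ∣ Nat.card (fixedBy (Sylow 7 G) t) := by
      rcases (Nat.Prime.dvd_mul (by norm_num)).1 h6 with h | h
      · exact h
      · norm_num at h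
    rw [n7_eq hG] at h1 h2
    omega

theorem aux_240 (hG : Nat.card G = 5040)
    (h7 : ∀ P : Sylow 7 G, Nat.card (centralizer (P : Set G)) = 7)
    (P : Sylow 5 G) (h5 : Nat.card (normalizer (P : Set G)) = 40) {z : G}
    (hz : normalizer (P : Set G) ≤ centralizer {z})
    (hcz : Nat.card (centralizer {z}) = 240) : False := by
  have := fact7
  have := fact5
  have := fact3
  have := fact2
  set H := centralizer {z} with hH
  have hidx : Nat.card (G ⧸ H) = 21 := by
    have h1 := H.card_mul_index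
    rw [hcz, hG] at h1
    have h2 : H.index = Nat.card (G ⧸ H) := rfl
    omega
  obtain ⟨P7⟩ : Nonempty (Sylow 7 G) := inferInstance
  obtain ⟨t, y, htN, htC, ht2, ht1, hy, hyt, h5t⟩ := exists_t_y hG P7 (h7 P7)
  -- elements of order 7 have no fixed points
  have hfree : ∀ x : G ⧸ H, ∀ p ∈ (P7 : Subgroup G), p • x = x → p = 1 := by
    intro x p hp hpx
    obtain ⟨g, rfl⟩ := QuotientGroup.mk_surjective x
    have h1 : g⁻¹ * p * g ∈ H := (mk_mem_fixedBy_iff H p g).1 hpx
    by_contra hp1
    have h2 : orderOf p = 7 := by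
      have h8 := card_sylow7 hG P7
      have h9 := orderOf_dvd_natCard (⟨p, hp⟩ : (P7 : Subgroup G))
      rw [Subgroup.orderOf_mk] at h9
      have h10 := h9.trans (dvd_of_eq h8)
      rcases (Nat.dvd_prime (by norm_num)).1 h10 with h | h
      · exact absurd (orderOf_eq_one_iff.1 h) hp1
      · exact h
    have h3 : orderOf (g⁻¹ * p * g) = 7 := by
      rw [← h2]
      have := orderOf_injective (MulAut.conj g⁻¹).toMonoidHom (MulAut.conj g⁻¹).injective p
      simpa using this
    have h4 : orderOf (g⁻¹ * p * g) ∣ Nat.card H := by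
      rw [← Subgroup.orderOf_mk _ h1]; exact orderOf_dvd_natCard _
    rw [h3, hcz] at h4
    norm_num at h4
  have hfix : Nat.card (fixedBy (G ⧸ H) t) = 1 := by
    have h1 := Parity.card_mul_card_fixed_le (X := G ⧸ H) (P7 : Subgroup G) t
      (fun p hp => (mem_normalizer_iff.1 htN p).1 hp) (by
        intro p hp hc
        by_contra hp1
        exact htC (mem_centralizer_of_commute (by norm_num) (card_sylow7 hG P7) hp hp1 hc))
    have h2 : Nat.card {x : G ⧸ H // ∀ p ∈ (P7 : Subgroup G), p • x = x → p = 1} = 21 := by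
      rw [← hidx]
      exact Nat.card_congr (Equiv.subtypeUnivEquiv hfree)
    have h3 : Nat.card {x : G ⧸ H // t • x = x ∧ ∀ p ∈ (P7 : Subgroup G), p • x = x → p = 1} =
        Nat.card (fixedBy (G ⧸ H) t) := by
      refine Nat.card_congr (Equiv.subtypeEquivRight fun x => ?_)
      exact ⟨fun h => h.1, fun h => ⟨h, hfree x⟩⟩
    have h4 : Nat.card (P7 : Subgroup G) = 7 := card_sylow7 hG P7
    rw [h2, h3, h4] at h1
    obtain ⟨k, h5⟩ := parity hG (X := G ⧸ H) (t := t) ht2
    rw [hidx] at h5
    omega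
  -- the unique fixed coset
  obtain ⟨hss, ⟨x0, hx0⟩⟩ := Nat.card_eq_one_iff_unique.1 hfix
  obtain ⟨a, rfl⟩ := QuotientGroup.mk_surjective x0
  have ha : a⁻¹ * t * a ∈ H := (mk_mem_fixedBy_iff H t a).1 hx0
  have huniq : ∀ g : G, g⁻¹ * (a⁻¹ * t * a) * g ∈ H → g ∈ H := by
    intro g hg
    have h1 : (QuotientGroup.mk (a * g) : G ⧸ H) ∈ fixedBy (G ⧸ H) t := by
      rw [mk_mem_fixedBy_iff]
      have h2 : (a * g)⁻¹ * t * (a * g) = g⁻¹ * (a⁻¹ * t * a) * g := by group
      rw [h2]; exact hg
    have h2 := congrArg Subtype.val (hss.elim ⟨_, h1⟩ ⟨_, hx0⟩)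
    have h3 : (QuotientGroup.mk (a * g) : G ⧸ H) = QuotientGroup.mk a := h2
    rw [eq_comm, QuotientGroup.eq] at h3
    simpa using h3
  set t₁ := a⁻¹ * t * a with ht₁
  set y₁ := a⁻¹ * y * a with hy₁
  have ht₁2 : t₁ ^ 2 = 1 := by
    have : t₁ ^ 2 = a⁻¹ * t ^ 2 * a := by rw [ht₁, pow_two, pow_two]; group
    rw [this, ht2]; group
  have hyt₁ : y₁ * t₁ = t₁ * y₁ := by
    calc y₁ * t₁ = a⁻¹ * (y * t) * a := by rw [ht₁, hy₁]; group
      _ = a⁻¹ * (t * y) * a := by rw [hyt]
      _ = t₁ * y₁ := by rw [ht₁, hy₁]; group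
  have hy₁H : y₁ ∈ H := by
    apply huniq
    have : y₁⁻¹ * t₁ * y₁ = t₁ := by
      rw [mul_assoc, ← hyt₁, inv_mul_cancel_left]
    rw [this]; exact ha
  have hy₁o : orderOf y₁ = 3 := by
    rw [← hy]
    have := orderOf_injective (MulAut.conj a⁻¹).toMonoidHom (MulAut.conj a⁻¹).injective y
    simpa [hy₁] using this
  have h5t₁ : ¬ 5 ∣ Nat.card (centralizer {t₁}) := by
    intro h
    obtain ⟨⟨x, hxC⟩, hx⟩ := exists_prime_orderOf_dvd_card' 5 h
    rw [Subgroup.orderOf_mk] at hx
    apply h5t
    rw [mem_centralizer_singleton_iff] at hxC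
    have h1 : a * x * a⁻¹ ∈ centralizer {t} := by
      rw [mem_centralizer_singleton_iff]
      calc a * x * a⁻¹ * t = a * (x * t₁) * a⁻¹ := by rw [ht₁]; group
        _ = a * (t₁ * x) * a⁻¹ := by rw [hxC]
        _ = t * (a * x * a⁻¹) := by rw [ht₁]; group
    have h2 : orderOf (a * x * a⁻¹) = 5 := by
      rw [← hx]
      have := orderOf_injective (MulAut.conj a).toMonoidHom (MulAut.conj a).injective x
      simpa using this
    rw [← h2, ← Subgroup.orderOf_mk _ h1]
    exact orderOf_dvd_natCard _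
  have hPH : (P : Subgroup G) ≤ H := le_normalizer.trans hz
  set L := (normalizer (P : Set G)).subgroupOf H with hL
  have hLcard : Nat.card L = 40 := by
    rw [← h5]
    exact Nat.card_congr (subgroupOfEquivOfLe hz).toEquiv
  have hYcard : Nat.card (H ⧸ L) = 6 := by
    have h1 := L.card_mul_index
    rw [hcz, hLcard] at h1
    have h2 : L.index = Nat.card (H ⧸ L) := rfl
    omega
  set tH : H := ⟨t₁, ha⟩ with htH
  set yH : H := ⟨y₁, hy₁H⟩ with hyH
  have hyF : ∀ x : H ⧸ L, yH • x ≠ x := by
    intro x hx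
    obtain ⟨h, rfl⟩ := QuotientGroup.mk_surjective x
    have h1 : h⁻¹ * yH * h ∈ L := (mk_mem_fixedBy_iff L yH h).1 hx
    have h2 : orderOf (h⁻¹ * yH * h) = 3 := by
      have h3 := orderOf_injective (MulAut.conj h⁻¹).toMonoidHom (MulAut.conj h⁻¹).injective yH
      have h4 : orderOf yH = 3 := by rw [hyH, Subgroup.orderOf_mk, hy₁o]
      rw [h4] at h3
      simpa using h3
    have h3 : orderOf (h⁻¹ * yH * h) ∣ Nat.card L := by
      rw [← Subgroup.orderOf_mk _ h1]; exact orderOf_dvd_natCard _
    rw [h2, hLcard] at h3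
    norm_num at h3
  have hF3 : 3 ∣ Nat.card (fixedBy (H ⧸ L) tH) := by
    have h1 := card_fixedBy_modEq_inter (X := H ⧸ L) (q := 3) (u := tH) (v := yH)
      (by
        apply Subtype.ext
        show y₁ ^ 3 = 1
        rw [← hy₁o]; exact pow_orderOf_eq_one y₁)
      (by
        apply Subtype.ext
        exact hyt₁)
    have h2 : Nat.card {x : H ⧸ L // tH • x = x ∧ yH • x = x} = 0 := by
      rw [Nat.card_eq_zero]
      left
      constructor
      rintro ⟨x, hx⟩
      exact hyF x hx.2
    rw [h2] at h1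
    exact (Nat.modEq_zero_iff_dvd).1 h1
  have htH2 : tH ^ 2 = 1 := Subtype.ext ht₁2
  have hF2 := card_fixedBy_modEq (X := H ⧸ L) (q := 2) htH2
  have hFle : Nat.card (fixedBy (H ⧸ L) tH) ≤ 6 := by
    rw [← hYcard]; exact Finite.card_subtype_le _
  rw [hYcard] at hF2
  have hF : Nat.card (fixedBy (H ⧸ L) tH) = 0 ∨ Nat.card (fixedBy (H ⧸ L) tH) = 6 := by
    unfold Nat.ModEq at hF2
    omega
  rcases hF with hF | hF
  · -- odd permutation
    classical
    have : Fintype (H ⧸ L) := Fintype.ofFinite _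
    let φ : H →* ℤˣ := Equiv.Perm.sign.comp (MulAction.toPermHom H (H ⧸ L))
    have h1 : φ tH ≠ 1 := by
      intro h
      have h2 : (MulAction.toPermHom H (H ⧸ L) tH) ^ 2 = 1 := by rw [← map_pow, htH2, map_one]
      obtain ⟨k, h3⟩ := Parity.card_modEq_four_of_sign _ h2 h
      have h4 : Nat.card {x : H ⧸ L // (MulAction.toPermHom H (H ⧸ L) tH) x = x} =
        Nat.card (fixedBy (H ⧸ L) tH) := rfl
      rw [h4, hF, hYcard] at h3
      omega
    have hnc : ¬ ∀ a b : G, a * b = b * a := by
      intro h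
      apply Embed.not_comm_of_card_not_prime (G := G) (by rw [hG]; norm_num)
      exact ⟨⟨h⟩⟩
    have h2 := Parity.mem_commutator_of_unique_fixed hnc H t₁ ht₁2 ha huniq
    exact h1 (Abelianization.commutator_subset_ker φ h2)
  · -- trivial action
    have hall : ∀ h : H, h⁻¹ * tH * h ∈ L := by
      intro h
      have h1 : (fixedBy (H ⧸ L) tH) = Set.univ := by
        apply Set.eq_of_subset_of_ncard_le (Set.subset_univ _) _ (Set.toFinite _)
        rw [Set.ncard_univ, hYcard]
        exact hF.ge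
      have h2 : (QuotientGroup.mk h : H ⧸ L) ∈ fixedBy (H ⧸ L) tH := h1 ▸ Set.mem_univ _
      exact (mk_mem_fixedBy_iff L tH h).1 h2
    apply h5t₁
    -- `P ≤ C(t₁)`
    have hPC : (P : Subgroup G) ≤ centralizer {t₁} := by
      intro x hx
      rw [mem_centralizer_singleton_iff]
      by_contra hne
      set b := x * t₁ * x⁻¹ * t₁⁻¹ with hb
      have hb1 : b ≠ 1 := by
        intro h
        apply hne
        rw [hb] at h
        have h1 := mul_inv_eq_one.1 h
        exact mul_inv_eq_iff_eq_mul.1 h1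
      have ht₁N : t₁ ∈ normalizer (P : Set G) := by
        have := hall 1
        rw [mem_subgroupOf] at this
        simpa using this
      have hbP : b ∈ (P : Subgroup G) := by
        have h1 : t₁ * x⁻¹ * t₁⁻¹ ∈ (P : Subgroup G) :=
          (mem_normalizer_iff.1 ht₁N x⁻¹).1 (inv_mem hx)
        have h2 : b = x * (t₁ * x⁻¹ * t₁⁻¹) := by rw [hb]; group
        rw [h2]
        exact mul_mem hx h1
      have hbo : orderOf b = 5 := by
        have h8 := card_sylow5 hG P
        have h9 := orderOf_dvd_natCard (⟨b, hbP⟩ : (P : Subgroup G))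
        rw [Subgroup.orderOf_mk] at h9
        have h10 := h9.trans (dvd_of_eq h8)
        rcases (Nat.dvd_prime (by norm_num)).1 h10 with h | h
        · exact absurd (orderOf_eq_one_iff.1 h) hb1
        · exact h
      have hbR : ∀ h ∈ H, h * b * h⁻¹ ∈ normalizer (P : Set G) := by
        intro h hh
        have h1 := hall (⟨h, hh⟩ * ⟨x, hPH hx⟩)⁻¹
        have h2 := hall (⟨h, hh⟩)⁻¹
        rw [mem_subgroupOf] at h1 h2
        have h3 : h * x * t₁ * x⁻¹ * h⁻¹ ∈ normalizer (P : Set G) := by
          simpa [mul_assoc] using h1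
        have h4 : h * t₁ * h⁻¹ ∈ normalizer (P : Set G) := by
          simpa [mul_assoc] using h2
        have h5 : h * b * h⁻¹ = (h * x * t₁ * x⁻¹ * h⁻¹) * (h * t₁ * h⁻¹)⁻¹ := by
          rw [hb]; group
        rw [h5]
        exact mul_mem h3 (inv_mem h4)
      have hHN : H ≤ normalizer (P : Set G) := by
        intro h hh
        have h1 : orderOf (h * b * h⁻¹) = 5 := by
          rw [← hbo]
          have := orderOf_injective (MulAut.conj h).toMonoidHom (MulAut.conj h).injective b
          simpa using this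
        have h2 : h * b * h⁻¹ ∈ P := mem_of_mem_normalizer_sylow h1 (hbR h hh)
        have h3 : (h • P : Sylow 5 G) = P := by
          apply sylow_eq_of_le_normalizer
          rintro x' ⟨w, hw, hwx⟩
          have hwx' : h * w * h⁻¹ = x' := hwx
          obtain ⟨k, rfl⟩ := mem_zpowers_iff.1
            (mem_zpowers_of_card_prime (by norm_num) (card_sylow5 hG P) hbP hb1 hw)
          apply le_normalizer
          rw [← hwx', ← conj_zpow]
          exact zpow_mem h2 k
        exact Sylow.smul_eq_iff_mem_normalizer.1 h3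
      have h1 := card_dvd_of_le hHN
      rw [hcz, h5] at h1
      norm_num at h1
    have h1 := card_dvd_of_le hPC
    have h2 : Nat.card (P : Subgroup G) = 5 := card_sylow5 hG P
    rwa [h2] at h1

/-- Every involution centralized by `N(P)` has centralizer of order 40. -/
theorem card_centralizer_eq_40 (hG : Nat.card G = 5040)
    (h7 : ∀ P : Sylow 7 G, Nat.card (centralizer (P : Set G)) = 7)
    (P : Sylow 5 G) (h5 : Nat.card (normalizer (P : Set G)) = 40) {z : G}
    (hz : normalizer (P : Set G) ≤ centralizer {z}) (hz2 : z ^ 2 = 1) (hz1 : z ≠ 1) :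
    Nat.card (centralizer {z}) = 40 := by
  have := fact7
  have := fact5
  obtain ⟨m, hm1, hm2⟩ := card_eq_mul_modEq_one P (centralizer {z}) (le_normalizer.trans hz)
  rw [inf_eq_right.2 hz, h5] at hm2
  have hm3 := card_subgroup_dvd_card (centralizer {z})
  rw [hm2, hG] at hm3
  have hm4 : m ∣ 126 := by
    have : (5040 : ℕ) = 40 * 126 := by norm_num
    rw [this] at hm3
    exact Nat.dvd_of_mul_dvd_mul_left (by norm_num) hm3
  have hm7 : ¬ 7 ∣ m := by
    intro h
    have h1 : 7 ∣ Nat.card (centralizer {z}) := by rw [hm2]; exact Dvd.dvd.mul_left h 40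
    obtain ⟨⟨v, hvC⟩, hv⟩ := exists_prime_orderOf_dvd_card' 7 h1
    rw [Subgroup.orderOf_mk] at hv
    have hv1 : v ≠ 1 := by rintro rfl; rw [orderOf_one] at hv; norm_num at hv
    obtain ⟨Q, hQ⟩ := exists_sylow_eq_zpowers (card_sylow7 hG) hv
    rw [mem_centralizer_singleton_iff] at hvC
    have h2 : z ∈ centralizer ((Q : Subgroup G) : Set G) :=
      mem_centralizer_of_commute (by norm_num) (card_sylow7 hG Q) (by
        rw [hQ]; exact mem_zpowers v) hv1 hvC.symm
    have h3 := orderOf_dvd_natCard (⟨z, h2⟩ : centralizer ((Q : Subgroup G) : Set G))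
    rw [Subgroup.orderOf_mk] at h3
    replace h3 := h3.trans (dvd_of_eq (h7 Q))
    have h4 : orderOf z ∣ 2 := orderOf_dvd_of_pow_eq_one hz2
    have h5 : orderOf z ∣ 1 := by
      have := Nat.dvd_gcd h3 h4
      norm_num at this ⊢
      exact this
    exact hz1 (orderOf_eq_one_iff.1 (Nat.dvd_one.1 h5))
  have hm : m = 1 ∨ m = 6 := by
    have h1 : ∀ m < 127, (m ∣ 126 ∧ m % 5 = 1 % 5 ∧ ¬ 7 ∣ m) → (m = 1 ∨ m = 6) := by
      decide +kernel
    exact h1 m (Nat.lt_succ_of_le (Nat.le_of_dvd (by norm_num) hm4)) ⟨hm4, hm1, hm7⟩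
  rcases hm with rfl | rfl
  · exact hm2
  · exact (aux_240 hG h7 P h5 hz hm2).elim

end Cfsg.Agent.SmallSimple.Order5040D
end

-- part: SmallSimple/TwoGroup16
section
/-!
A lemma on groups of order 16 used for the simple groups of order 5040.
-/

set_option autoImplicit false

namespace Cfsg.Agent.SmallSimple.TwoGroup16

open Subgroup

/-- The quaternion subgroup. -/
theorem quaternion_case {T : Type*} [Group T] (hT : Nat.card T = 16) (z s g : T)
    (hz2 : z * z = 1) (hsz : s * z = z * s) (hgs : g * s = s * g)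
    (hs4 : s * s * (s * s) = 1) (hc1 : s * s ≠ 1) (hg2 : g * g = s * s)
    (hgz : g * z = s * s * z * g) :
    ∃ M : Subgroup T, M.index = 2 ∧ z ∉ M ∧ ∀ m ∈ M, m ^ 2 = 1 → m = 1 ∨ m = s * s := by
  have hfin : Finite T := Nat.finite_of_card_ne_zero (by omega)
  obtain ⟨a, ha⟩ : ∃ a, a = z * s := ⟨_, rfl⟩
  have ha2 : a * a = s * s := by
    calc a * a = z * (s * z) * s := by rw [ha]; group
      _ = z * z * s * s := by rw [hsz]; group
      _ = s * s := by rw [hz2]; group
  have ha4 : a ^ 4 = 1 := by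
    calc a ^ 4 = (a * a) * (a * a) := by simp only [pow_succ, pow_zero, one_mul, mul_assoc]
      _ = 1 := by rw [ha2, hs4]
  have hga : g * a = a ^ 3 * g := by
    calc g * a = (g * z) * s := by rw [ha]; group
      _ = s * s * z * (g * s) := by rw [hgz]; group
      _ = s * s * (z * s) * g := by rw [hgs]; group
      _ = (a * a) * a * g := by rw [ha2, ha]
      _ = a ^ 3 * g := by simp only [pow_succ, pow_zero, one_mul, mul_assoc]
  have hgak : ∀ k : ℕ, g * a ^ k = a ^ (3 * k) * g := by
    intro k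
    induction k with
    | zero => simp
    | succ k ih =>
      rw [pow_succ, ← mul_assoc, ih, mul_assoc, hga, ← mul_assoc, ← pow_add]
      rfl
  have hg2' : g * g = a ^ 2 := by rw [hg2, ← ha2, sq]
  let M : Subgroup T :=
    { carrier := {x | ∃ i : ℕ, x = a ^ i ∨ x = a ^ i * g}
      one_mem' := ⟨0, Or.inl (by simp)⟩
      mul_mem' := by
        rintro x y ⟨i, hi⟩ ⟨k, hk⟩
        rcases hi with rfl | rfl <;> rcases hk with rfl | rfl
        · exact ⟨i + k, Or.inl (by rw [pow_add])⟩
        · exact ⟨i + k, Or.inr (by rw [pow_add, mul_assoc])⟩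
        · refine ⟨i + 3 * k, Or.inr ?_⟩
          rw [mul_assoc, hgak, ← mul_assoc, pow_add]
        · refine ⟨i + 3 * k + 2, Or.inl ?_⟩
          calc a ^ i * g * (a ^ k * g) = a ^ i * (g * a ^ k) * g := by group
            _ = a ^ i * a ^ (3 * k) * (g * g) := by rw [hgak]; group
            _ = a ^ (i + 3 * k + 2) := by rw [hg2', ← pow_add, ← pow_add]
      inv_mem' := by
        rintro x ⟨i, hi⟩
        rcases hi with rfl | rfl
        · refine ⟨3 * i, Or.inl ?_⟩
          rw [inv_eq_iff_mul_eq_one, ← pow_add]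
          have : i + 3 * i = 4 * i := by ring
          rw [this, pow_mul, ha4, one_pow]
        · refine ⟨i + 2, Or.inr ?_⟩
          rw [inv_eq_iff_mul_eq_one]
          calc a ^ i * g * (a ^ (i + 2) * g) = a ^ i * (g * a ^ (i + 2)) * g := by group
            _ = a ^ i * a ^ (3 * (i + 2)) * (g * g) := by rw [hgak]; group
            _ = (a ^ 4) ^ (i + 2) := by
              rw [hg2', ← pow_add, ← pow_add, ← pow_mul]; congr 1; ring
            _ = 1 := by rw [ha4, one_pow] }
  have hzg : g * z ≠ z * g := by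
    intro h
    rw [h] at hgz
    have h1 : z = s * s * z := mul_right_cancel hgz
    exact hc1 (mul_eq_right.1 h1.symm)
  have hord : orderOf a = 4 := by
    have h4 : ¬ orderOf a ∣ 2 ^ 1 := by
      intro h
      have := orderOf_dvd_iff_pow_eq_one.1 h
      rw [pow_one, sq, ha2] at this
      exact hc1 this
    exact orderOf_eq_prime_pow (p := 2) (n := 1) (by
      intro h; exact h4 (orderOf_dvd_of_pow_eq_one h)) (by norm_num [ha4])
  have hza : ∀ i : ℕ, z ≠ a ^ i := by
    intro i hi
    -- `z` would be a power of `a`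
    have h1 : z * a = a * z := by rw [hi, ← pow_succ, ← pow_succ']
    have h2 : a ^ (2 * i) = 1 := by rw [two_mul, pow_add, ← hi, hz2]
    have h5 : 4 ∣ 2 * i := by rw [← hord]; exact orderOf_dvd_of_pow_eq_one h2
    obtain ⟨j, hj⟩ : 2 ∣ i := by omega
    apply hzg
    rw [hi, hj, pow_mul, sq, ha2]
    have hcomm : Commute g (s * s) := by
      have : Commute g s := hgs
      exact this.mul_right this
    exact (hcomm.pow_right j).eq
  have hag : ∀ i : ℕ, a ^ i * g * (a ^ i * g) = s * s := by
    intro i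
    calc a ^ i * g * (a ^ i * g) = a ^ i * (g * a ^ i) * g := by group
      _ = a ^ i * a ^ (3 * i) * (g * g) := by rw [hgak]; group
      _ = (a ^ 4) ^ i * (g * g) := by
        rw [← pow_add, ← pow_mul]; congr 2; ring
      _ = s * s := by rw [ha4, one_pow, one_mul, hg2]
  have hzM : z ∉ M := by
    rintro ⟨i, hi | hi⟩
    · exact hza i hi
    · have h1 := hag i
      rw [← hi, hz2] at h1
      exact hc1 h1.symm
  have hcent : ∀ i : ℕ, a ^ i ≠ g := by
    intro i hi
    apply hzg
    rw [← hi]
    have h1 : Commute a z := by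
      rw [ha]
      exact Commute.mul_left (Commute.refl z) hsz
    exact (h1.pow_left i).eq
  refine ⟨M, ?_, hzM, ?_⟩
  · -- the index
    have hle : zpowers a ≤ M := by
      rw [zpowers_le]
      exact ⟨1, Or.inl (by simp)⟩
    have hgM : g ∈ M := ⟨0, Or.inr (by simp)⟩
    have hga' : g ∉ zpowers a := by
      intro h
      obtain ⟨i, hi⟩ := (mem_powers_iff_mem_zpowers.2 h)
      exact hcent i hi
    have hlt : zpowers a < M := lt_of_le_of_ne hle (fun h => hga' (h ▸ hgM))
    have h1 : 4 ∣ Nat.card M := by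
      have := card_dvd_of_le hle
      rwa [Nat.card_zpowers, hord] at this
    have h2 : Nat.card M ≠ 4 := by
      intro h
      apply hlt.ne
      apply Subgroup.eq_of_le_of_card_ge hle
      rw [h, Nat.card_zpowers, hord]
    have h3 : Nat.card M ∣ 16 := hT ▸ card_subgroup_dvd_card M
    have h4 : Nat.card M ≠ 16 := by
      intro h
      apply hzM
      have : M = ⊤ := eq_top_of_card_eq M (by rw [h, hT])
      rw [this]
      exact mem_top z
    have h5 := M.card_mul_index
    rw [hT] at h5
    have h6 : Nat.card M ≤ 16 := Nat.le_of_dvd (by norm_num) h3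
    have h7 : Nat.card M = 8 := by
      generalize Nat.card M = m at *
      interval_cases m <;> omega
    rw [h7] at h5
    omega
  · rintro m ⟨i, rfl | rfl⟩ hm
    · -- a power of a
      rw [← pow_mul] at hm
      have h5 : 4 ∣ i * 2 := by rw [← hord]; exact orderOf_dvd_of_pow_eq_one hm
      obtain ⟨j, hj⟩ : 2 ∣ i := by omega
      rw [hj, pow_mul, sq, ha2]
      have h6 : (s * s) ^ 2 = 1 := by rw [sq, hs4]
      rcases Nat.even_or_odd' j with ⟨k, hk | hk⟩
      · left
        rw [hk, pow_mul, h6, one_pow]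
      · right
        rw [hk, pow_add, pow_mul, h6, one_pow, one_mul, pow_one]
    · exfalso
      rw [sq, hag] at hm
      exact hc1 hm

theorem exists_index_two {T : Type*} [Group T] (hT : Nat.card T = 16) (K : Subgroup T) (z : T)
    (hz1 : z ≠ 1) (hz2 : z ^ 2 = 1) (hzK : z ∈ K) (hKS : K ≤ Subgroup.centralizer {z})
    (hS : Nat.card (Subgroup.centralizer {z}) = 8) (hKZ : K ⊓ Subgroup.center T = ⊥)
    (hcyc : ∃ s ∈ Subgroup.centralizer {z}, ∀ x ∈ Subgroup.centralizer {z},
      ∃ n : ℕ, x * s ^ n ∈ K) :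
    ∃ M : Subgroup T, M.index = 2 ∧ z ∉ M ∧ ∃ c ∈ Subgroup.center T,
      ∀ m ∈ M, m ^ 2 = 1 → m = 1 ∨ m = c := by
  have hfin : Finite T := Nat.finite_of_card_ne_zero (by omega)
  have hp : Fact (Nat.Prime 2) := ⟨Nat.prime_two⟩
  set S := Subgroup.centralizer {z} with hSdef
  have hzz : z * z = 1 := by rw [← sq, hz2]
  have hmemS : ∀ x, x ∈ S ↔ x * z = z * x := fun x => mem_centralizer_singleton_iff
  have hTp : IsPGroup 2 T := IsPGroup.of_card (n := 4) (by rw [hT]; norm_num)
  have hzS : z ∈ S := (hmemS z).2 rfl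
  have hzZ : z ∉ center T := by
    intro h
    have : z ∈ K ⊓ center T := ⟨hzK, h⟩
    rw [hKZ] at this
    exact hz1 (mem_bot.1 this)
  -- a central involution
  have hTnt : Nontrivial T := Finite.one_lt_card_iff_nontrivial.1 (by rw [hT]; norm_num)
  have hcnt : Nontrivial (center T) := hTp.center_nontrivial
  obtain ⟨c0, hc0⟩ : ∃ c0 : center T, orderOf c0 = 2 := by
    have : 2 ∣ Nat.card (center T) := by
      rcases (hTp.to_subgroup (center T)).card_eq_or_dvd with h | h
      · exact absurd h (Finite.one_lt_card_iff_nontrivial.2 hcnt).ne'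
      · exact h
    exact exists_prime_orderOf_dvd_card' 2 this
  have hc0S : (c0 : T) ∈ S := (hmemS _).2 ((mem_center_iff.1 c0.2 z).symm)
  have hc0z : (c0 : T) ≠ z := fun h => hzZ (h ▸ c0.2)
  have hc01 : (c0 : T) ≠ 1 := by
    intro h
    have h1 : c0 = 1 := Subtype.ext h
    rw [h1, orderOf_one] at hc0
    omega
  -- S is abelian
  have hScomm : ∀ x ∈ S, ∀ y ∈ S, x * y = y * x := by
    have h1 : 4 ∣ Nat.card (center S) := by
      have h2 : Nat.card (center S) ∣ 8 := hS ▸ card_subgroup_dvd_card _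
      have h3 : 2 < Nat.card (center S) := by
        have hzc : (⟨z, hzS⟩ : S) ∈ center S := by
          rw [mem_center_iff]
          intro g
          exact Subtype.ext ((hmemS g).1 g.2)
        have hcc : (⟨c0, hc0S⟩ : S) ∈ center S := by
          rw [mem_center_iff]
          intro g
          exact Subtype.ext (mem_center_iff.1 c0.2 g)
        have := Fintype.ofFinite (center S)
        rw [Nat.card_eq_fintype_card, Fintype.two_lt_card_iff]
        refine ⟨1, ⟨_, hzc⟩, ⟨_, hcc⟩, ?_, ?_, ?_⟩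
        · intro h
          exact hz1 (congrArg (fun x : center S => ((x : S) : T)) h).symm
        · intro h
          exact hc01 (congrArg (fun x : center S => ((x : S) : T)) h).symm
        · intro h
          exact hc0z (congrArg (fun x : center S => ((x : S) : T)) h).symm
      have h4 : Nat.card (center S) ≤ 8 := Nat.le_of_dvd (by norm_num) h2
      generalize Nat.card (center S) = m at *
      interval_cases m <;> omega
    have h5 : Nat.card (S ⧸ center S) ∣ 2 := by
      have h6 := (center S).card_eq_card_quotient_mul_card_subgroup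
      rw [hS] at h6
      obtain ⟨k, hk⟩ := h1
      rw [hk] at h6
      have : 2 = Nat.card (S ⧸ center S) * k := by nlinarith
      exact ⟨k, this⟩
    have hcyc' : IsCyclic (S ⧸ center S) := by
      rcases (Nat.dvd_prime Nat.prime_two).1 h5 with h | h
      · have : Subsingleton (S ⧸ center S) := (Nat.card_eq_one_iff_unique.1 h).1
        infer_instance
      · exact isCyclic_of_prime_card h
    intro x hx y hy
    have := (MonoidHom.isMulCommutative_of_isCyclic_of_ker_le_center (QuotientGroup.mk' (center S))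
      (by rw [QuotientGroup.ker_mk'])).is_comm.comm (⟨x, hx⟩ : S) ⟨y, hy⟩
    exact congrArg Subtype.val this
  -- index two
  have hSidx : S.index = 2 := by
    have := S.card_mul_index
    rw [hS, hT] at this
    omega
  obtain ⟨g, hgS⟩ : ∃ g, g ∉ S := by
    by_contra hcon
    push Not at hcon
    have : S = ⊤ := eq_top_iff.2 (fun x _ => hcon x)
    rw [this, index_top] at hSidx
    omega
  have hmulS : ∀ x y, x * y ∈ S ↔ (x ∈ S ↔ y ∈ S) := fun x y =>
    mul_mem_iff_of_index_two hSidx
  have hggS : g * g ∈ S := (hmulS g g).2 Iff.rfl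
  have hconjS : ∀ x, x ∈ S → g * x * g⁻¹ ∈ S := by
    intro x hx
    rw [hmulS, hmulS, inv_mem_iff]
    tauto
  -- criterion for centrality
  have hcentral : ∀ x, x ∈ S → g * x = x * g → x ∈ center T := by
    intro x hx hgx
    rw [mem_center_iff]
    intro y
    by_cases hy : y ∈ S
    · exact hScomm y hy x hx
    · have h1 : g⁻¹ * y ∈ S := by
        rw [hmulS, inv_mem_iff]
        tauto
      have h2 := hScomm _ h1 x hx
      calc y * x = g * (g⁻¹ * y * x) := by group
        _ = g * x * g⁻¹ * y := by rw [h2]; group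
        _ = x * y := by rw [hgx]; group
  have hZK : ∀ x ∈ K, x ∈ center T → x = 1 := by
    intro x h1 h2
    have : x ∈ K ⊓ center T := ⟨h1, h2⟩
    rw [hKZ] at this
    exact mem_bot.1 this
  -- g-conjugation twice is trivial on S
  have hgg : ∀ x ∈ S, g * (g * x * g⁻¹) * g⁻¹ = x := by
    intro x hx
    calc g * (g * x * g⁻¹) * g⁻¹ = (g * g * x) * (g * g)⁻¹ := by group
      _ = x := by rw [hScomm _ hggS x hx]; group
  have hA : ∀ l ∈ K, g * l * g⁻¹ ∈ K → l = 1 := by
    intro l hl hgl
    by_contra hne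
    obtain ⟨k, hk⟩ := (IsPGroup.iff_orderOf.1 hTp) l
    have hk0 : k ≠ 0 := by
      rintro rfl
      rw [pow_zero, orderOf_eq_one_iff] at hk
      exact hne hk
    obtain ⟨j, rfl⟩ : ∃ j, k = j + 1 := ⟨k - 1, by omega⟩
    set l' := l ^ (2 ^ j) with hl'
    have h1 : l' ≠ 1 := by
      intro h
      have h2 := orderOf_dvd_of_pow_eq_one h
      rw [hk, pow_succ] at h2
      have := Nat.le_of_dvd (by positivity) h2
      have h3 : 0 < 2 ^ j := by positivity
      omega
    have h2 : l' * l' = 1 := by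
      rw [hl', ← pow_add, ← two_mul, mul_comm, ← pow_succ, ← hk, pow_orderOf_eq_one]
    have h3 : l' ∈ K := K.pow_mem hl _
    have h4 : g * l' * g⁻¹ ∈ K := by
      have : g * l' * g⁻¹ = (g * l * g⁻¹) ^ (2 ^ j) := by rw [conj_pow]
      rw [this]
      exact K.pow_mem hgl _
    have h5 : l' * (g * l' * g⁻¹) = 1 := by
      apply hZK _ (K.mul_mem h3 h4)
      apply hcentral _ (S.mul_mem (hKS h3) (hKS h4))
      have h6 := hgg l' (hKS h3)
      have h7 := hScomm _ (hKS h3) _ (hKS h4)
      calc g * (l' * (g * l' * g⁻¹)) = (g * l' * g⁻¹) * (g * (g * l' * g⁻¹) * g⁻¹) * g := by group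
        _ = l' * (g * l' * g⁻¹) * g := by rw [h6, h7]
    apply h1
    apply hZK _ h3
    apply hcentral _ (hKS h3)
    have h6 : g * l' * g⁻¹ = l' := by
      have h7 : l'⁻¹ = g * l' * g⁻¹ := inv_eq_of_mul_eq_one_right h5
      have h8 : l'⁻¹ = l' := inv_eq_of_mul_eq_one_right h2
      rw [← h7, h8]
    exact mul_inv_eq_iff_eq_mul.1 h6
  have hKcard : Nat.card K = 2 := by
    have h1 : Nat.card (K × K) ≤ Nat.card S := by
      refine Nat.card_le_card_of_injective
        (fun x : K × K => (⟨x.1 * (g * x.2 * g⁻¹),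
          S.mul_mem (hKS x.1.2) (hconjS _ (hKS x.2.2))⟩ : S)) ?_
      rintro ⟨⟨k, hk⟩, ⟨l, hl⟩⟩ ⟨⟨k', hk'⟩, ⟨l', hl'⟩⟩ h
      have h2 : k * (g * l * g⁻¹) = k' * (g * l' * g⁻¹) := congrArg Subtype.val h
      have h3 : g * (l' * l⁻¹) * g⁻¹ = k'⁻¹ * k := by
        calc g * (l' * l⁻¹) * g⁻¹ = k'⁻¹ * (k' * (g * l' * g⁻¹)) * (g * l * g⁻¹)⁻¹ := by group
          _ = k'⁻¹ * k := by rw [← h2]; group
      have h4 := hA (l' * l⁻¹) (K.mul_mem hl' (K.inv_mem hl))
        (by rw [h3]; exact K.mul_mem (K.inv_mem hk') hk)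
      have h5 : l' = l := mul_inv_eq_one.1 h4
      subst h5
      have h6 : k = k' := mul_right_cancel h2
      subst h6
      rfl
    rw [Nat.card_prod, hS] at h1
    have h2 : Nat.card K ≤ 2 := by nlinarith
    have h3 : Nat.card K ≠ 1 := by
      intro h
      have h4 := eq_bot_of_card_eq K h
      rw [h4] at hzK
      exact hz1 (mem_bot.1 hzK)
    have h4 : 0 < Nat.card K := Nat.card_pos
    omega
  have hKz : ∀ k ∈ K, k = 1 ∨ k = z := by
    intro k hk
    by_contra hcon
    push Not at hcon
    have := Fintype.ofFinite K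
    have h1 : 2 < Fintype.card K := by
      rw [Fintype.two_lt_card_iff]
      refine ⟨1, ⟨z, hzK⟩, ⟨k, hk⟩, ?_, ?_, ?_⟩
      · intro h; exact hz1 (congrArg Subtype.val h).symm
      · intro h; exact hcon.1 (congrArg Subtype.val h).symm
      · intro h; exact hcon.2 (congrArg Subtype.val h).symm
    rw [← Nat.card_eq_fintype_card, hKcard] at h1
    omega
  obtain ⟨s, hsS, hs⟩ := hcyc
  have hsz : s * z = z * s := (hmemS s).1 hsS
  -- every element of S is s^n or z s^n
  have hform : ∀ x ∈ S, ∃ n : ℕ, x = s ^ n ∨ x = z * s ^ n := by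
    intro x hx
    obtain ⟨n, hn⟩ := hs x hx
    have hord : 0 < orderOf s := orderOf_pos s
    -- inverse of s ^ n as a power
    have h1 : (s ^ n)⁻¹ = s ^ (n * (orderOf s - 1)) := by
      rw [inv_eq_iff_mul_eq_one, ← pow_add]
      have : n + n * (orderOf s - 1) = orderOf s * n := by
        obtain ⟨m, hm⟩ : ∃ m, orderOf s = m + 1 := ⟨orderOf s - 1, by omega⟩
        rw [hm]; simp; ring
      rw [this, pow_mul, pow_orderOf_eq_one, one_pow]
    refine ⟨n * (orderOf s - 1), ?_⟩
    rw [← h1]
    rcases hKz _ hn with h | h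
    · left; exact eq_inv_of_mul_eq_one_left h
    · right; exact eq_mul_inv_of_mul_eq h
  have hs4 : s ^ 4 = 1 := by
    by_contra h4
    have h1 : orderOf s ∣ 8 := by
      have := S.orderOf_dvd_natCard hsS
      rwa [hS] at this
    have hord : orderOf s = 8 := by
      have h3 : orderOf s ∣ 2 ^ 3 := h1
      obtain ⟨k, hk, hk2⟩ := (Nat.dvd_prime_pow Nat.prime_two).1 h3
      have : ¬ orderOf s ∣ 4 := fun h => h4 (orderOf_dvd_iff_pow_eq_one.1 h)
      interval_cases k
      · rw [hk2] at this; exact absurd (by norm_num) this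
      · rw [hk2] at this; exact absurd (by norm_num) this
      · rw [hk2] at this; exact absurd (by norm_num) this
      · rw [hk2]; norm_num
    have h2 : zpowers s = S := by
      apply Subgroup.eq_of_le_of_card_ge (zpowers_le.2 hsS)
      rw [hS, Nat.card_zpowers, hord]
    have h3 : ∀ x ∈ S, x ≠ 1 → x * x = 1 → x = s ^ 4 := by
      intro x hx hx1 hxx
      rw [← h2] at hx
      obtain ⟨i, rfl⟩ := mem_powers_iff_mem_zpowers.2 hx
      have h5 : s ^ (2 * i) = 1 := by rw [two_mul, pow_add]; exact hxx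
      have h6 : 8 ∣ 2 * i := by rw [← hord]; exact orderOf_dvd_of_pow_eq_one h5
      obtain ⟨j, hj⟩ : 4 ∣ i := by omega
      have h8 : (s ^ 4) ^ 2 = 1 := by
        rw [← pow_mul]
        exact orderOf_dvd_iff_pow_eq_one.1 (by rw [hord])
      rcases Nat.even_or_odd' j with ⟨k, hk | hk⟩
      · exfalso
        apply hx1
        show s ^ i = 1
        rw [hj, pow_mul, hk, pow_mul, h8, one_pow]
      · show s ^ i = s ^ 4
        rw [hj, pow_mul, hk, pow_add, pow_mul, h8, one_pow, one_mul, pow_one]
    apply hc0z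
    have h5 : (c0 : T) * c0 = 1 := by
      have : c0 * c0 = 1 := by rw [← sq, ← hc0, pow_orderOf_eq_one]
      exact congrArg Subtype.val this
    rw [h3 z hzS hz1 hzz, h3 _ hc0S hc01 h5]
  have hs2 : s * s ≠ 1 := by
    intro h2
    have h3 : Nat.card S ≤ Nat.card (Bool × Bool) := by
      refine Nat.card_le_card_of_surjective
        (fun b : Bool × Bool => (⟨(if b.1 then z else 1) * (if b.2 then s else 1), by
          refine S.mul_mem ?_ ?_
          · split_ifs
            · exact hzS
            · exact S.one_mem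
          · split_ifs
            · exact hsS
            · exact S.one_mem⟩ : S)) ?_
      rintro ⟨x, hx⟩
      obtain ⟨n, hn⟩ := hform x hx
      have h4 : s ^ n = 1 ∨ s ^ n = s := by
        rcases Nat.even_or_odd' n with ⟨k, hk | hk⟩
        · left; rw [hk, pow_mul, sq, h2, one_pow]
        · right; rw [hk, pow_add, pow_mul, sq, h2, one_pow, one_mul, pow_one]
      rcases hn with rfl | rfl <;> rcases h4 with h4 | h4
      · exact ⟨(false, false), Subtype.ext (by simp [h4])⟩
      · exact ⟨(false, true), Subtype.ext (by simp [h4])⟩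
      · exact ⟨(true, false), Subtype.ext (by simp [h4])⟩
      · exact ⟨(true, true), Subtype.ext (by simp [h4])⟩
    rw [hS, Nat.card_prod, Nat.card_eq_fintype_card, Fintype.card_bool] at h3
    omega
  obtain ⟨c, hc⟩ : ∃ c, c = s * s := ⟨_, rfl⟩
  have hc1 : c ≠ 1 := by rw [hc]; exact hs2
  have hcc : c * c = 1 := by
    rw [hc, ← hs4]; simp only [pow_succ, pow_zero, one_mul, mul_assoc]
  have hcS : c ∈ S := by rw [hc]; exact S.mul_mem hsS hsS
  have hcpow : ∀ n : ℕ, c ^ n = 1 ∨ c ^ n = c := by
    intro n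
    rcases Nat.even_or_odd' n with ⟨k, hk | hk⟩
    · left; rw [hk, pow_mul, sq, hcc, one_pow]
    · right; rw [hk, pow_add, pow_mul, sq, hcc, one_pow, one_mul, pow_one]
  have hspow2 : ∀ n : ℕ, s ^ n * s ^ n = c ^ n := by
    intro n
    rw [hc, ← sq s, ← pow_mul, ← pow_add]; congr 1; ring
  have hzpow : ∀ n : ℕ, z * s ^ n * (z * s ^ n) = c ^ n := by
    intro n
    have h1 : s ^ n * z = z * s ^ n := (show Commute s z from hsz).pow_left n
    calc z * s ^ n * (z * s ^ n) = z * (s ^ n * z) * s ^ n := by group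
      _ = (z * z) * (s ^ n * s ^ n) := by rw [h1]; group
      _ = c ^ n := by rw [hzz, one_mul, hspow2]
  have hsq : ∀ x ∈ S, x * x = 1 ∨ x * x = c := by
    intro x hx
    obtain ⟨n, rfl | rfl⟩ := hform x hx
    · rw [hspow2]; exact hcpow n
    · rw [hzpow]; exact hcpow n
  have hgc : g * c = c * g := by
    have h1 := hsq _ (hconjS s hsS)
    have h2 : g * s * g⁻¹ * (g * s * g⁻¹) = g * c * g⁻¹ := by rw [hc]; group
    rw [h2] at h1
    rcases h1 with h1 | h1
    · exfalso
      apply hc1
      have : c = g⁻¹ * (g * c * g⁻¹) * g := by group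
      rw [this, h1]; group
    · exact mul_inv_eq_iff_eq_mul.1 h1
  have hcZ : c ∈ center T := hcentral c hcS hgc
  have heven : ∀ n : ℕ, c ^ n = 1 → ∃ k, n = 2 * k := by
    intro n hn
    rcases Nat.even_or_odd' n with ⟨k, hk | hk⟩
    · exact ⟨k, hk⟩
    · exfalso
      rw [hk, pow_add, pow_mul, sq, hcc, one_pow, one_mul, pow_one] at hn
      exact hc1 hn
  have hinv : ∀ x ∈ S, x * x = 1 → x = 1 ∨ x = c ∨ x = z ∨ x = z * c := by
    intro x hx hxx
    obtain ⟨n, rfl | rfl⟩ := hform x hx
    · rw [hspow2] at hxx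
      obtain ⟨k, rfl⟩ := heven n hxx
      have : s ^ (2 * k) = c ^ k := by rw [pow_mul, sq, ← hc]
      rw [this]
      rcases hcpow k with h | h
      · left; exact h
      · right; left; exact h
    · rw [hzpow] at hxx
      obtain ⟨k, rfl⟩ := heven n hxx
      have : s ^ (2 * k) = c ^ k := by rw [pow_mul, sq, ← hc]
      rw [this]
      rcases hcpow k with h | h
      · right; right; left; rw [h, mul_one]
      · right; right; right; rw [h]
  have hgzS := hconjS z hzS
  have hgzne : g * z * g⁻¹ ≠ z := by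
    intro h
    exact hgS ((hmemS g).2 (mul_inv_eq_iff_eq_mul.1 h))
  have hgz' : g * z * g⁻¹ = z * c := by
    have h1 : g * z * g⁻¹ * (g * z * g⁻¹) = 1 := by
      calc g * z * g⁻¹ * (g * z * g⁻¹) = g * (z * z) * g⁻¹ := by group
        _ = 1 := by rw [hzz]; group
    rcases hinv _ hgzS h1 with h | h | h | h
    · exfalso
      apply hz1
      have : z = g⁻¹ * (g * z * g⁻¹) * g := by group
      rw [this, h]; group
    · exfalso
      have h2 : z = c := by
        have h3 : z = g⁻¹ * (g * z * g⁻¹) * g := by group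
        rw [h3, h]
        calc g⁻¹ * c * g = g⁻¹ * (c * g) := by group
          _ = c := by rw [← hgc]; group
      exact hzZ (h2 ▸ hcZ)
    · exact absurd h hgzne
    · exact h
  have hgz : g * z = c * z * g := by
    rw [mul_inv_eq_iff_eq_mul.1 hgz']
    rw [hScomm z hzS c hcS]
  have hgnz : g * z ≠ z * g := fun h => hgzne (mul_inv_eq_iff_eq_mul.2 h)
  -- the adjusted s
  obtain ⟨s', hs'S, hs'c, hgs', hform'⟩ : ∃ s' ∈ S, s' * s' = c ∧ g * s' = s' * g ∧
      ∀ x ∈ S, ∃ n : ℕ, x = s' ^ n ∨ x = z * s' ^ n := by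
    have hyS := hconjS s hsS
    have hyy : g * s * g⁻¹ * (g * s * g⁻¹) = c := by
      calc g * s * g⁻¹ * (g * s * g⁻¹) = g * c * g⁻¹ := by rw [hc]; group
        _ = c := by rw [hgc]; group
    obtain ⟨n, hn⟩ := hform _ hyS
    have hnodd : ∃ k, n = 2 * k + 1 := by
      have h1 : c ^ n = c := by
        rcases hn with hn | hn
        · rw [hn, hspow2] at hyy; exact hyy
        · rw [hn, hzpow] at hyy; exact hyy
      rcases Nat.even_or_odd' n with ⟨k, hk | hk⟩
      · exfalso
        rw [hk, pow_mul, sq, hcc, one_pow] at h1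
        exact hc1 h1.symm
      · exact ⟨k, hk⟩
    obtain ⟨k, rfl⟩ := hnodd
    have hsk : s ^ (2 * k + 1) = s ∨ s ^ (2 * k + 1) = c * s := by
      rw [pow_add, pow_mul, sq, ← hc, pow_one]
      rcases hcpow k with h | h
      · left; rw [h, one_mul]
      · right; rw [h]
    rcases hn with hn | hn
    · rcases hsk with h | h
      · refine ⟨s, hsS, hc.symm, ?_, hform⟩
        rw [h] at hn
        exact mul_inv_eq_iff_eq_mul.1 hn
      · rw [h] at hn
        refine ⟨z * s, S.mul_mem hzS hsS, ?_, ?_, ?_⟩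
        · have := hzpow 1
          rwa [pow_one, pow_one] at this
        · have h1 : g * (z * s) * g⁻¹ = z * s := by
            calc g * (z * s) * g⁻¹ = (g * z * g⁻¹) * (g * s * g⁻¹) := by group
              _ = z * (c * c) * s := by rw [hgz', hn]; group
              _ = z * s := by rw [hcc]; group
          exact mul_inv_eq_iff_eq_mul.1 h1
        · intro x hx
          have hzs : ∀ n : ℕ, (z * s) ^ n = s ^ n ∨ (z * s) ^ n = z * s ^ n := by
            intro n
            have h2 : Commute z s := hsz.symm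
            rw [h2.mul_pow]
            rcases Nat.even_or_odd' n with ⟨j, hj | hj⟩
            · left
              have : z ^ n = 1 := by rw [hj, pow_mul, hz2, one_pow]
              rw [this, one_mul]
            · right
              have : z ^ n = z := by rw [hj, pow_add, pow_mul, hz2, one_pow, one_mul, pow_one]
              rw [this]
          obtain ⟨n, hn' | hn'⟩ := hform x hx
          · refine ⟨n, ?_⟩
            rcases hzs n with h3 | h3
            · left; rw [h3, hn']
            · right; rw [h3, hn', ← mul_assoc, hzz, one_mul]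
          · refine ⟨n, ?_⟩
            rcases hzs n with h3 | h3
            · right; rw [h3, hn']
            · left; rw [h3, hn']
    · exfalso
      -- g * s * g⁻¹ = z * s or z * c * s
      have h1 := hgg s hsS
      have h2 : ∀ w, (w = s ∨ w = c * s) → g * s * g⁻¹ = z * w → False := by
        intro w hw hgw
        rw [hgw] at h1
        have h3 : g * (z * w) * g⁻¹ = (g * z * g⁻¹) * (g * w * g⁻¹) := by group
        rw [h3, hgz'] at h1
        have h4 : g * w * g⁻¹ = z * w * (w * s⁻¹) := by
          rcases hw with rfl | rfl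
          · rw [hgw]; group
          · have h5 : g * (c * s) * g⁻¹ = c * (g * s * g⁻¹) := by
              calc g * (c * s) * g⁻¹ = (g * c) * s * g⁻¹ := by group
                _ = c * (g * s * g⁻¹) := by rw [hgc]; group
            rw [h5, hgw, hScomm c hcS _ (S.mul_mem hzS (S.mul_mem hcS hsS))]
            group
        rw [h4] at h1
        -- z c z w w s⁻¹ = s
        have h6 : w * w = c := by
          rcases hw with rfl | rfl
          · exact hc.symm
          · calc c * s * (c * s) = c * (s * c) * s := by group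
              _ = c * c * (s * s) := by rw [hScomm s hsS c hcS]; group
              _ = c := by rw [hcc, one_mul, ← hc]
        have h7 : z * c * (z * w * (w * s⁻¹)) = s⁻¹ := by
          calc z * c * (z * w * (w * s⁻¹)) = z * (c * z) * (w * w) * s⁻¹ := by group
            _ = (z * z) * (c * c) * s⁻¹ := by
              rw [h6, hScomm c hcS z hzS]; group
            _ = s⁻¹ := by rw [hzz, hcc]; group
        rw [h7] at h1
        exact hs2 (inv_eq_iff_mul_eq_one.1 h1)
      rcases hsk with h | h
      · exact h2 s (Or.inl rfl) (by rw [hn, h])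
      · exact h2 (c * s) (Or.inr rfl) (by rw [hn, h])
  have hs'z : s' * z = z * s' := (hmemS s').1 hs'S
  have hs'4 : s' * s' * (s' * s') = 1 := by rw [hs'c, hcc]
  -- the square of g
  obtain ⟨n, hn⟩ : ∃ n : ℕ, g * g = s' ^ n := by
    obtain ⟨n, hn | hn⟩ := hform' _ hggS
    · exact ⟨n, hn⟩
    · exfalso
      apply hgnz
      have h1 : Commute g (g * g) := (Commute.refl g).mul_right (Commute.refl g)
      have h2 : Commute g (s' ^ n) := (show Commute g s' from hgs').pow_right n
      have h3 : z = (g * g) * (s' ^ n)⁻¹ := by rw [hn]; group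
      have h4 : Commute g z := by
        rw [h3]
        exact h1.mul_right h2.inv_right
      exact h4.eq
  have hs'pow : ∀ k : ℕ, s' ^ (2 * k) = c ^ k := by
    intro k
    rw [pow_mul, sq, hs'c]
  rcases Nat.even_or_odd' n with ⟨k, hk | hk⟩
  · rw [hk, hs'pow] at hn
    rcases hcpow k with h | h
    · -- g² = 1
      rw [h] at hn
      obtain ⟨M, hM1, hM2, hM3⟩ := quaternion_case hT z s' (g * s') hzz hs'z
        (by rw [mul_assoc, ← mul_assoc s', ← hgs']; group) hs'4 (by rw [hs'c]; exact hc1)
        (by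
          calc g * s' * (g * s') = g * (s' * g) * s' := by group
            _ = (g * g) * (s' * s') := by rw [← hgs']; group
            _ = s' * s' := by rw [hn, one_mul])
        (by
          calc g * s' * z = g * (s' * z) := by group
            _ = (g * z) * s' := by rw [hs'z]; group
            _ = s' * s' * z * (g * s') := by rw [hgz, hs'c]; group)
      rw [hs'c] at hM3
      exact ⟨M, hM1, hM2, c, hcZ, hM3⟩
    · rw [h] at hn
      obtain ⟨M, hM1, hM2, hM3⟩ := quaternion_case hT z s' g hzz hs'z hgs' hs'4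
        (by rw [hs'c]; exact hc1) (by rw [hn, hs'c]) (by rw [hgz, hs'c])
      rw [hs'c] at hM3
      exact ⟨M, hM1, hM2, c, hcZ, hM3⟩
  · -- g has order 8
    have hg4 : g ^ 4 = c := by
      have h1 : g ^ 4 = (g * g) * (g * g) := by
        simp only [pow_succ, pow_zero, one_mul, mul_assoc]
      rw [h1, hn, ← pow_add, ← two_mul, hs'pow, hk, pow_add, pow_mul, sq, hcc, one_pow, one_mul,
        pow_one]
    have hord : orderOf g = 8 := by
      have := orderOf_eq_prime_pow (x := g) (p := 2) (n := 2)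
        (by norm_num [hg4]; exact hc1) (by
          have h1 : g ^ (2 ^ (2 + 1)) = (g ^ 4) ^ 2 := by rw [← pow_mul]; norm_num
          rw [h1, hg4, sq, hcc])
      rw [this]; norm_num
    refine ⟨zpowers g, ?_, ?_, c, hcZ, ?_⟩
    · have h1 := (zpowers g).card_mul_index
      rw [Nat.card_zpowers, hord, hT] at h1
      omega
    · intro h
      obtain ⟨i, hi⟩ := mem_powers_iff_mem_zpowers.2 h
      apply hgnz
      have h1 : g ^ i = z := hi
      rw [← h1, ← pow_succ, ← pow_succ']
    · intro m hm hm2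
      obtain ⟨i, rfl⟩ := mem_powers_iff_mem_zpowers.2 hm
      have h1 : (g ^ i) ^ 2 = 1 := hm2
      rw [← pow_mul] at h1
      have h2 : 8 ∣ i * 2 := by rw [← hord]; exact orderOf_dvd_of_pow_eq_one h1
      obtain ⟨j, hj⟩ : 4 ∣ i := by omega
      show g ^ i = 1 ∨ g ^ i = c
      rw [hj, pow_mul, hg4]
      exact hcpow j

end Cfsg.Agent.SmallSimple.TwoGroup16
end

-- part: SmallSimple/Order5040E
section
set_option autoImplicit false
namespace Cfsg.Agent.SmallSimple.Order5040E

open Subgroup MulAction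
open Cfsg.Agent.SmallSimple.SylowPrime Cfsg.Agent.SmallSimple.SylowPrimeCount
open Cfsg.Agent.SmallSimple.FixCount Cfsg.Agent.SmallSimple.PrimeSylowAut
open Cfsg.Agent.SmallSimple.Order5040 Cfsg.Agent.SmallSimple.Order5040B
open Cfsg.Agent.SmallSimple.Order5040D

variable {G : Type*} [Group G] [Finite G] [IsSimpleGroup G]

theorem final (hG : Nat.card G = 5040)
    (h7 : ∀ P : Sylow 7 G, Nat.card (centralizer (P : Set G)) = 7)
    (P : Sylow 5 G) (h5 : Nat.card (normalizer (P : Set G)) = 40) : False := by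
  have := fact5
  have := fact2
  have hrel : (centralizer ((P : Subgroup G) : Set G)).relIndex
      (normalizer ((P : Subgroup G) : Set G)) < 2 ^ 3 := by
    have h1 := relIndex_dvd_pred (p := 5) (by norm_num) (card_sylow5 hG P)
    exact lt_of_le_of_lt (Nat.le_of_dvd (by norm_num) h1) (by norm_num)
  obtain ⟨z, hzC, hzo, hz⟩ := SylowPrimeInvol.exists_central_involution (p := 5) (a := 3)
    (by norm_num) (by norm_num) (card_sylow5 hG P) (h5.trans (by norm_num)) hrel
  have hz2 : z ^ 2 = 1 := by rw [← hzo]; exact pow_orderOf_eq_one z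
  have hz1 : z ≠ 1 := by rintro rfl; rw [orderOf_one] at hzo; norm_num at hzo
  have hcz : Nat.card (centralizer {z}) = 40 := card_centralizer_eq_40 hG h7 P h5 hz hz2 hz1
  have hNeq : normalizer (P : Set G) = centralizer {z} :=
    Subgroup.eq_of_le_of_card_ge hz (by rw [hcz, h5])
  -- Sylow 2-subgroups
  set N := normalizer (P : Set G) with hN
  obtain ⟨S0⟩ : Nonempty (Sylow 2 N) := inferInstance
  have hS0 : Nat.card S0 = 8 :=
    SylowPrimeInvol.card_sylow_of_card_eq S0 (k := 3) (m := 5) (by rw [h5]; norm_num) (by norm_num)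
  set S : Subgroup G := (S0 : Subgroup N).map N.subtype with hS
  have hScard : Nat.card S = 8 := by
    rw [← hS0]
    exact Nat.card_congr ((S0 : Subgroup N).equivMapOfInjective _
      (Subgroup.subtype_injective _)).symm.toEquiv
  have hSN : S ≤ N := by
    rintro _ ⟨x, _, rfl⟩
    exact x.2
  have hSp : IsPGroup 2 S := S0.2.map _
  obtain ⟨T, hT⟩ := hSp.exists_le_sylow
  have hTcard : Nat.card T = 16 := card_sylow2 hG T
  have hzN : z ∈ N := by
    rw [hNeq, mem_centralizer_singleton_iff]
  -- `T ⊓ N = S`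
  have hTN : (T : Subgroup G) ⊓ N = S := by
    symm
    apply Subgroup.eq_of_le_of_card_ge (le_inf hT hSN)
    have h1 : IsPGroup 2 ((T : Subgroup G) ⊓ N : Subgroup G) := T.2.to_le inf_le_left
    obtain ⟨n, hn⟩ := h1.exists_card_eq
    have h2 := card_dvd_of_le (inf_le_right : (T : Subgroup G) ⊓ N ≤ N)
    rw [hn] at h2 ⊢
    have h3 : Nat.card N = 40 := h5
    rw [h3] at h2
    rw [hScard]
    have h4 : n ≤ 3 := by
      by_contra hlt
      have h5 : 2 ^ 4 ∣ 2 ^ n := pow_dvd_pow 2 (by omega)
      have h6 := h5.trans h2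
      norm_num at h6
    calc 2 ^ n ≤ 2 ^ 3 := Nat.pow_le_pow_right (by norm_num) h4
      _ = 8 := by norm_num
  -- `z ∈ T`
  have hzT : z ∈ (T : Subgroup G) := by
    have h1 : (⟨z, hzN⟩ : N) ∈ (S0 : Subgroup N) := by
      have h2 : IsPGroup 2 (zpowers (⟨z, hzN⟩ : N)) :=
        IsPGroup.of_card (n := 1) (by rw [Nat.card_zpowers, Subgroup.orderOf_mk, hzo, pow_one])
      have h3 := h2.inf_normalizer_sylow S0
      have h4 : (⟨z, hzN⟩ : N) ∈ zpowers (⟨z, hzN⟩ : N) ⊓ normalizer (S0 : Set N) := by
        refine ⟨mem_zpowers _, ?_⟩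
        apply centralizer_le_normalizer'
        rw [mem_centralizer_iff]
        rintro ⟨x, hx⟩ _
        apply Subtype.ext
        have h5 := hx
        rw [hNeq, mem_centralizer_singleton_iff] at h5
        exact h5
      rw [h3] at h4
      exact h4.2
    exact hT ⟨⟨z, hzN⟩, h1, rfl⟩
  set zT : T := ⟨z, hzT⟩ with hzTdef
  set K : Subgroup T := (centralizer (P : Set G)).subgroupOf T with hK
  have hCT : ∀ x : T, x ∈ centralizer {zT} ↔ (x : G) ∈ N := by
    intro x
    rw [hNeq, mem_centralizer_singleton_iff, mem_centralizer_singleton_iff, Subtype.ext_iff]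
    rfl
  have hcard8 : Nat.card (centralizer {zT}) = 8 := by
    rw [← hScard, ← hTN]
    refine Nat.card_congr
      { toFun := fun x => ⟨x.1.1, x.1.2, (hCT x.1).1 x.2⟩
        invFun := fun x => ⟨⟨x.1, x.2.1⟩, (hCT _).2 x.2.2⟩
        left_inv := fun x => rfl
        right_inv := fun x => rfl }
  have hCN : centralizer (P : Set G) ≤ N := centralizer_le_normalizer' (P : Subgroup G)
  have hKZ : K ⊓ center T = ⊥ := by
    by_contra hne
    have hT2 : IsPGroup 2 (K ⊓ center T : Subgroup T) := T.2.to_subgroup _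
    have hdvd : 2 ∣ Nat.card (K ⊓ center T : Subgroup T) := by
      obtain ⟨n, hn0, hn⟩ := hT2.nontrivial_iff_card.1
        ((Subgroup.nontrivial_iff_ne_bot (K ⊓ center T)).2 hne)
      rw [hn]
      exact dvd_pow_self 2 hn0.ne'
    obtain ⟨⟨x, hxKc⟩, hx⟩ := exists_prime_orderOf_dvd_card' 2 hdvd
    rw [Subgroup.orderOf_mk, ← Subgroup.orderOf_coe] at hx
    obtain ⟨hxK, hxc⟩ := mem_inf.1 hxKc
    have hxC : (x : G) ∈ centralizer (P : Set G) := hxK
    have hTx : (T : Subgroup G) ≤ centralizer {(x : G)} := by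
      intro w hw
      rw [mem_centralizer_singleton_iff]
      exact congrArg Subtype.val ((mem_center_iff.1 hxc) ⟨w, hw⟩)
    have hNx : N ≤ centralizer {(x : G)} := by
      set D := N ⊓ centralizer {(x : G)} with hD
      have h8 : 8 ∣ Nat.card D := by
        rw [← hScard]
        exact card_dvd_of_le (le_inf hSN (hT.trans hTx))
      have h5' : 5 ∣ Nat.card D := by
        have h1 : (P : Subgroup G) ≤ D := by
          refine le_inf le_normalizer ?_
          intro w hw
          rw [mem_centralizer_singleton_iff]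
          exact mem_centralizer_iff.1 hxC w hw
        have h2 : Nat.card (P : Subgroup G) = 5 := card_sylow5 hG P
        rw [← h2]
        exact card_dvd_of_le h1
      have h40 : 40 ∣ Nat.card D := by
        have : Nat.Coprime 8 5 := by norm_num
        exact this.mul_dvd_of_dvd_of_dvd h8 h5'
      have h1 : D = N := by
        apply Subgroup.eq_of_le_of_card_ge inf_le_left
        have h3 : Nat.card N = 40 := h5
        rw [h3]
        exact Nat.le_of_dvd Nat.card_pos h40
      rw [← h1]
      exact inf_le_right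
    have hx2 : (x : G) ^ 2 = 1 := by
      have h9 := pow_orderOf_eq_one (x : G)
      rwa [hx] at h9
    have hx1 : (x : G) ≠ 1 := by intro h; rw [h, orderOf_one] at hx; norm_num at hx
    have h1 := card_centralizer_eq_40 hG h7 P h5 hNx hx2 hx1
    have h2 := card_dvd_of_le hTx
    have h3 : Nat.card (T : Subgroup G) = 16 := hTcard
    rw [h1, h3] at h2
    norm_num at h2
  have hcyc : ∃ s ∈ centralizer {zT}, ∀ x ∈ centralizer {zT}, ∃ n : ℕ, x * s ^ n ∈ K := by
    obtain ⟨s, hs, hgen⟩ := exists_generator_mod_centralizer (p := 5) (by norm_num)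
      (card_sylow5 hG P) ((T : Subgroup G) ⊓ N) inf_le_right
    refine ⟨⟨s, hs.1⟩, (hCT _).2 hs.2, fun x hx => ?_⟩
    obtain ⟨n, hn⟩ := hgen x ⟨x.2, (hCT x).1 hx⟩
    exact ⟨n, hn⟩
  obtain ⟨M, hM, hzM, c, hc, hMc⟩ := TwoGroup16.exists_index_two hTcard K zT
    (fun h => hz1 (congrArg Subtype.val h)) (Subtype.ext hz2) hzC
    (fun x hx => (hCT x).2 (hCN hx)) hcard8 hKZ hcyc
  -- final contradiction
  set M' : Subgroup G := M.map (T : Subgroup G).subtype with hM'
  have hMcard : Nat.card M = 8 := by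
    have h1 := M.card_mul_index
    rw [hM, hTcard] at h1
    omega
  have hM'card : Nat.card M' = 8 := by
    rw [← hMcard]
    exact Nat.card_congr (M.equivMapOfInjective _ (Subgroup.subtype_injective _)).symm.toEquiv
  have hidx : Nat.card (G ⧸ M') = 630 := by
    have h1 := M'.card_mul_index
    rw [hM'card, hG] at h1
    have h2 : M'.index = Nat.card (G ⧸ M') := rfl
    omega
  obtain ⟨k, hk⟩ := parity hG (X := G ⧸ M') (t := z) hz2
  have hfix : Nat.card (fixedBy (G ⧸ M') z) = 0 := by
    rw [Nat.card_eq_zero]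
    left
    constructor
    rintro ⟨x, hx⟩
    obtain ⟨g, rfl⟩ := QuotientGroup.mk_surjective x
    obtain ⟨m, hm, hmz⟩ := (mk_mem_fixedBy_iff M' z g).1 hx
    have hmz' : (m : G) = g⁻¹ * z * g := hmz
    have hm2 : m ^ 2 = 1 := by
      apply Subtype.ext
      show (m : G) ^ 2 = 1
      have : (m : G) ^ 2 = g⁻¹ * z ^ 2 * g := by rw [hmz', pow_two, pow_two]; group
      rw [this, hz2]; group
    rcases hMc m hm hm2 with h | h
    · apply hz1
      rw [h] at hmz'
      have h1 : z = g * (g⁻¹ * z * g) * g⁻¹ := by group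
      rw [h1, ← hmz']
      show g * 1 * g⁻¹ = 1
      group
    · -- `T^(g⁻¹) ≤ C(z)`
      have h1 : (T : Subgroup G).map (MulAut.conj g).toMonoidHom ≤ centralizer {z} := by
        rintro _ ⟨x, hx, rfl⟩
        rw [mem_centralizer_singleton_iff]
        have h2 : x * (m : G) = (m : G) * x := by
          have h3 := (mem_center_iff.1 hc) ⟨x, hx⟩
          rw [h]
          exact congrArg Subtype.val h3
        have h3 : (MulAut.conj g).toMonoidHom x = g * x * g⁻¹ := rfl
        rw [h3]
        calc g * x * g⁻¹ * z = g * (x * (g⁻¹ * z * g)) * g⁻¹ := by group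
          _ = g * ((g⁻¹ * z * g) * x) * g⁻¹ := by rw [← hmz', h2]
          _ = z * (g * x * g⁻¹) := by group
      have h2 := card_dvd_of_le h1
      have h3 : Nat.card ((T : Subgroup G).map (MulAut.conj g).toMonoidHom) = 16 := by
        rw [← hTcard]
        exact Nat.card_congr ((T : Subgroup G).equivMapOfInjective _
          (MulAut.conj g).injective).symm.toEquiv
      rw [h3, hcz] at h2
      norm_num at h2
  rw [hidx, hfix] at hk
  omega

end Cfsg.Agent.SmallSimple.Order5040E
end

-- part: SmallSimple/Order5040N5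
section
/-!
A simple group of order 5040 does not have exactly 21 Sylow 5-subgroups (assuming that the
normalizer of a Sylow 7-subgroup has order 42).
-/

set_option autoImplicit false

namespace Cfsg.Agent.SmallSimple.Order5040N5

open Subgroup MulAction
open Cfsg.Agent.SmallSimple.SylowPrime Cfsg.Agent.SmallSimple.SylowPrimeCount
open Cfsg.Agent.SmallSimple.FixCount Cfsg.Agent.SmallSimple.PrimeSylowAut
open Cfsg.Agent.SmallSimple.Order5040

variable {G : Type*} [Group G] [Finite G]

theorem pow_pred_mem_centralizer {p : ℕ} (hp : p.Prime) {P : Subgroup G}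
    (hP : Nat.card P = p) {x : G} (hx : x ∈ normalizer (P : Set G)) :
    x ^ (p - 1) ∈ centralizer (P : Set G) := by
  have := Fact.mk hp
  have hcyc : IsCyclic P := isCyclic_of_prime_card hP
  have h1 : Nat.card (MulAut P) = p - 1 := by
    rw [hcyc.card_mulAut, hP, Nat.totient_prime hp]
  have h2 : (P.normalizerMonoidHom ⟨x, hx⟩) ^ (p - 1) = 1 := by
    rw [← h1]; exact pow_card_eq_one'
  rw [← map_pow] at h2
  have h3 : (⟨x, hx⟩ : normalizer (P : Set G)) ^ (p - 1) ∈ P.normalizerMonoidHom.ker := h2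
  rw [normalizerMonoidHom_ker] at h3
  exact h3

/-- An element of order 3 normalizing a Sylow 5-subgroup centralizes it. -/
theorem mem_centralizer5 (hG : Nat.card G = 5040) (Q : Sylow 5 G) {y : G} (hy : y ^ 3 = 1)
    (hyQ : y • Q = Q) : y ∈ centralizer (Q : Set G) := by
  have h1 := pow_pred_mem_centralizer (p := 5) (by norm_num) (card_sylow5 hG Q)
    (Sylow.smul_eq_iff_mem_normalizer.1 hyQ)
  have h2 : y ^ (5 - 1) = y := by
    show y ^ 4 = y
    rw [pow_succ, hy, one_mul]
  rw [h2] at h1
  exact h1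

/-- A Sylow 7-subgroup acts freely on the Sylow 5-subgroups if their normalizer has order prime
to 7. -/
theorem free7 (hG : Nat.card G = 5040) {n : ℕ} (hn : Nat.card (Sylow 5 G) = n)
    (hn7 : 7 ∣ n) (P : Sylow 7 G) (Q : Sylow 5 G) (v : G) (hv : v ∈ P)
    (hvQ : v • Q = Q) : v = 1 := by
  have := fact5
  have h1 := card_normalizer_mul Q hn hG
  have h2 : v ∈ normalizer (Q : Set G) := Sylow.smul_eq_iff_mem_normalizer.1 hvQ
  have h3 : orderOf v ∣ Nat.card (normalizer (Q : Set G)) := by
    have := orderOf_dvd_natCard (⟨v, h2⟩ : normalizer (Q : Set G))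
    rwa [Subgroup.orderOf_mk] at this
  have h4 : orderOf v ∣ 7 := by
    have := orderOf_dvd_natCard (⟨v, hv⟩ : (P : Subgroup G))
    have hc := card_sylow7 hG P
    rw [Subgroup.orderOf_mk] at this
    rw [← hc]
    exact this
  rcases (Nat.dvd_prime (by norm_num)).1 h4 with h5 | h5
  · exact orderOf_eq_one_iff.1 h5
  · exfalso
    rw [h5] at h3
    have h6 : 7 * 7 ∣ Nat.card (normalizer (Q : Set G)) * n := Nat.mul_dvd_mul h3 hn7
    rw [h1] at h6
    norm_num at h6

/-- If `y` of order 3 centralizes the Sylow 7-subgroup `P` and normalizes no Sylow 5-subgroup, we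
have a contradiction. -/
theorem false_of_mem_centralizer7 (hG : Nat.card G = 5040) (P : Sylow 7 G)
    (hN : Nat.card (normalizer (P : Set G)) = 42) {y : G} (hy : orderOf y = 3)
    (hyC : y ∈ centralizer (P : Set G)) (hfix : ∀ Q : Sylow 5 G, y • Q ≠ Q) : False := by
  have := fact7
  have := fact5
  have := fact3
  have hy3 : y ^ 3 = 1 := by rw [← hy]; exact pow_orderOf_eq_one y
  -- `P ≤ C(y)`
  have hPC : (P : Subgroup G) ≤ centralizer {y} := by
    intro v hv
    rw [mem_centralizer_singleton_iff]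
    exact (mem_centralizer_iff.1 hyC v hv)
  obtain ⟨n, hn1, hn2⟩ := card_eq_mul_modEq_one P (centralizer {y}) hPC
  set m := Nat.card (centralizer {y} ⊓ normalizer (P : Set G) : Subgroup G) with hm
  have hm42 : m ∣ 42 := by
    rw [← hN]; exact card_dvd_of_le inf_le_right
  have h7m : 7 ∣ m := by
    have h1 : (P : Subgroup G) ≤ centralizer {y} ⊓ normalizer (P : Set G) :=
      le_inf hPC le_normalizer
    have h2 := card_dvd_of_le h1
    have hc : Nat.card (P : Subgroup G) = 7 := card_sylow7 hG P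
    rwa [hc] at h2
  have h3m : 3 ∣ m := by
    have h1 : y ∈ centralizer {y} ⊓ normalizer (P : Set G) :=
      ⟨mem_centralizer_singleton_iff.2 rfl, centralizer_le_normalizer' (P : Subgroup G) hyC⟩
    have h2 := orderOf_dvd_natCard (⟨y, h1⟩ : (centralizer {y} ⊓ normalizer (P : Set G) : Subgroup G))
    rwa [Subgroup.orderOf_mk, hy] at h2
  -- `9 ∣ |C(y)|`
  have h9 : 9 ∣ Nat.card (centralizer {y} : Subgroup G) := by
    have h1 : IsPGroup 3 (zpowers y) :=
      IsPGroup.of_card (n := 1) (by rw [Nat.card_zpowers, hy, pow_one])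
    obtain ⟨S, hS⟩ := h1.exists_le_sylow
    have hcS : Nat.card (S : Subgroup G) = 9 := card_sylow3 hG S
    have hcomm : ∀ a b : S, a * b = b * a :=
      (IsPGroup.isMulCommutative_of_card_eq_prime_sq (p := 3) (by
        show Nat.card (S : Subgroup G) = 3 ^ 2
        rw [hcS]; norm_num)).is_comm.comm
    have hle : (S : Subgroup G) ≤ centralizer {y} := by
      intro x hx
      rw [mem_centralizer_singleton_iff]
      exact congrArg Subtype.val (hcomm ⟨x, hx⟩ ⟨y, hS (mem_zpowers y)⟩)
    rw [← hcS]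
    exact card_dvd_of_le hle
  -- `5 ∤ |C(y)|`
  have h5 : ¬ 5 ∣ Nat.card (centralizer {y} : Subgroup G) := by
    intro h
    obtain ⟨⟨x, hxC⟩, hx⟩ := exists_prime_orderOf_dvd_card' 5 h
    rw [Subgroup.orderOf_mk] at hx
    obtain ⟨Q, hQ⟩ := exists_sylow_eq_zpowers (card_sylow5 hG) hx
    apply hfix Q
    rw [Sylow.smul_eq_iff_mem_normalizer]
    apply centralizer_le_normalizer'
    show y ∈ centralizer ((Q : Subgroup G) : Set G)
    rw [hQ, mem_centralizer_iff]
    intro w hw
    obtain ⟨k, rfl⟩ := mem_zpowers_iff.1 hw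
    rw [mem_centralizer_singleton_iff] at hxC
    exact ((show Commute x y from hxC).zpow_left k).eq
  have hdvd : Nat.card (centralizer {y} : Subgroup G) ∣ 5 * 1008 := by
    have := card_subgroup_dvd_card (centralizer {y} : Subgroup G)
    rwa [hG] at this
  have hdvd2 : Nat.card (centralizer {y} : Subgroup G) ∣ 1008 := by
    have hco : Nat.Coprime (Nat.card (centralizer {y} : Subgroup G)) 5 := by
      rw [Nat.coprime_comm]
      exact (Nat.Prime.coprime_iff_not_dvd (by norm_num)).2 h5
    exact hco.dvd_of_dvd_mul_left hdvd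
  rw [hn2] at h9 hdvd2
  have hm2 : m = 21 ∨ m = 42 := by
    have h21 : 21 ∣ m := (Nat.Coprime.mul_dvd_of_dvd_of_dvd (by norm_num) h7m h3m : 7 * 3 ∣ m)
    have hle : m ≤ 42 := Nat.le_of_dvd (by norm_num) hm42
    have hpos : 0 < m := Nat.card_pos
    omega
  have hn3 : 3 ∣ n := by
    rcases hm2 with h | h <;> rw [h] at h9 <;> omega
  have hn48 : n ∣ 48 := by
    rcases hm2 with h | h
    · rw [h] at hdvd2
      exact Nat.dvd_of_mul_dvd_mul_left (k := 21) (by norm_num) hdvd2
    · rw [h] at hdvd2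
      have : 42 * n ∣ 42 * 24 := hdvd2
      exact (Nat.dvd_of_mul_dvd_mul_left (k := 42) (by norm_num) this).trans (by norm_num)
  have hnle : n ≤ 48 := Nat.le_of_dvd (by norm_num) hn48
  unfold Nat.ModEq at hn1
  have key : ∀ n < 49, n ∣ 48 → 3 ∣ n → n % 7 = 1 % 7 → False := by decide
  exact key n (by omega) hn48 hn3 hn1

/-- Elements of `C(P)`, `P` a Sylow 7-subgroup: the number of normalized Sylow 5-subgroups is
divisible by 7 in case `P` acts freely. -/
theorem seven_dvd_card_fixedBy (hG : Nat.card G = 5040) {n : ℕ} (hn : Nat.card (Sylow 5 G) = n)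
    (hn7 : 7 ∣ n) (P : Sylow 7 G) {u : G} (hu : u ∈ centralizer (P : Set G)) :
    7 ∣ Nat.card (fixedBy (Sylow 5 G) u) := by
  have := fact7
  obtain ⟨v, hv⟩ := exists_prime_orderOf_dvd_card' (G := (P : Subgroup G)) 7 (by
    rw [card_sylow7 hG P])
  obtain ⟨v, hvP⟩ := v
  rw [Subgroup.orderOf_mk] at hv
  have h1 := card_fixedBy_modEq_inter (X := Sylow 5 G) (u := u) (v := v) (q := 7)
    (by rw [← hv]; exact pow_orderOf_eq_one v) (mem_centralizer_iff.1 hu v hvP)
  have h2 : IsEmpty {x : Sylow 5 G // u • x = x ∧ v • x = x} := by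
    constructor
    rintro ⟨Q, hQ1, hQ2⟩
    have h3 := free7 hG hn hn7 P Q v hvP hQ2
    rw [h3, orderOf_one] at hv
    norm_num at hv
  have h3 : Nat.card {x : Sylow 5 G // u • x = x ∧ v • x = x} = 0 := Nat.card_of_isEmpty
  rw [h3] at h1
  exact (Nat.modEq_zero_iff_dvd).1 h1

/-- Elements of `N(P) ∖ C(P)`. -/
theorem seven_mul_card_fixedBy_le (hG : Nat.card G = 5040) {n : ℕ}
    (hn : Nat.card (Sylow 5 G) = n)
    (hn7 : 7 ∣ n) (P : Sylow 7 G) {u : G} (huN : u ∈ normalizer (P : Set G))
    (hu : u ∉ centralizer (P : Set G)) :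
    7 * Nat.card (fixedBy (Sylow 5 G) u) ≤ n := by
  have := fact7
  have h1 := Parity.card_mul_card_fixed_le (X := Sylow 5 G) (P : Subgroup G) u
    (fun p hp => (mem_normalizer_iff.1 huN p).1 hp) (by
      intro p hp hc
      by_contra hp1
      exact hu (mem_centralizer_of_commute (by norm_num) (card_sylow7 hG P) hp hp1 hc))
  have h2 : Nat.card {x : Sylow 5 G // ∀ p ∈ (P : Subgroup G), p • x = x → p = 1} =
      Nat.card (Sylow 5 G) := by
    refine Nat.card_congr (Equiv.subtypeUnivEquiv ?_)
    intro Q p hp hpQ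
    exact free7 hG hn hn7 P Q p hp hpQ
  have h3 : Nat.card {x : Sylow 5 G // u • x = x ∧ ∀ p ∈ (P : Subgroup G), p • x = x → p = 1} =
      Nat.card (fixedBy (Sylow 5 G) u) := by
    refine Nat.card_congr (Equiv.subtypeEquivRight ?_)
    intro Q
    constructor
    · rintro ⟨h, _⟩; exact h
    · intro h
      exact ⟨h, fun p hp hpQ => free7 hG hn hn7 P Q p hp hpQ⟩
  rw [h2, h3, hn] at h1
  have hc : Nat.card (P : Subgroup G) = 7 := card_sylow7 hG P
  rwa [hc] at h1

theorem card_fixedBy_lt_sylow5 [IsSimpleGroup G] {n : ℕ} (hn : Nat.card (Sylow 5 G) = n)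
    (h1n : 1 < n) {u : G} (hu : u ≠ 1) : Nat.card (fixedBy (Sylow 5 G) u) < n := by
  have := fact5
  rw [← hn]
  exact SylowPrimeCount.card_fixedBy_lt (by rw [hn]; omega) hu

/-- An element of order 3 normalizes no Sylow 5-subgroup or exactly 6 of them, if `n_5 = 21`. -/
theorem card_fixedBy_three [IsSimpleGroup G] (hG : Nat.card G = 5040)
    (hn : Nat.card (Sylow 5 G) = 21) {y : G} (hy : orderOf y = 3) {Q : Sylow 5 G}
    (hQ : y • Q = Q) : Nat.card (fixedBy (Sylow 5 G) y) = 6 := by
  have := fact5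
  have := fact3
  have hy3 : y ^ 3 = 1 := by rw [← hy]; exact pow_orderOf_eq_one y
  have h1 := card_fixedBy_modEq_one Q (mem_centralizer5 hG Q hy3 hQ)
  have h2 : Nat.card (Sylow 5 G) ≡ Nat.card (fixedBy (Sylow 5 G) y) [MOD 3] :=
    card_fixedBy_modEq hy3
  have h3 := card_fixedBy_lt_sylow5 hn (by norm_num) (u := y) (by
    rintro rfl; rw [orderOf_one] at hy; norm_num at hy)
  rw [hn] at h2
  unfold Nat.ModEq at h1 h2
  omega

/-- Elements of order 3 normalizing a Sylow 7-subgroup normalize no Sylow 5-subgroup. -/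
theorem smul_ne_of_three [IsSimpleGroup G] (hG : Nat.card G = 5040)
    (hn : Nat.card (Sylow 5 G) = 21) (P : Sylow 7 G) {y : G} (hy : orderOf y = 3)
    (hyN : y ∈ normalizer (P : Set G)) (Q : Sylow 5 G) : y • Q ≠ Q := by
  intro hQ
  have h6 := card_fixedBy_three hG hn hy hQ
  by_cases hyC : y ∈ centralizer (P : Set G)
  · have h7 := seven_dvd_card_fixedBy hG hn (by norm_num) P hyC
    rw [h6] at h7
    norm_num at h7
  · have h7 := seven_mul_card_fixedBy_le hG hn (by norm_num) P hyN hyC
    rw [h6] at h7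
    norm_num at h7

/-- In a simple group of order 5040 with `|N(P_7)| = 42` we have `n_5 ≠ 21`. -/
theorem n5_ne_21 [IsSimpleGroup G] (hG : Nat.card G = 5040)
    (hN7 : ∀ P : Sylow 7 G, Nat.card (normalizer (P : Set G)) = 42) :
    Nat.card (Sylow 5 G) ≠ 21 := by
  have := fact7
  have := fact5
  have := fact3
  have := fact2
  intro hn
  let P : Sylow 7 G := default
  have hN := hN7 P
  have hP7 : Nat.card (P : Subgroup G) = 7 := card_sylow7 hG P
  -- no element of order 3 in `C(P)`
  have h3 : ¬ 3 ∣ Nat.card (centralizer (P : Set G)) := by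
    intro h
    obtain ⟨⟨y, hyC⟩, hy⟩ := exists_prime_orderOf_dvd_card' 3 h
    rw [Subgroup.orderOf_mk] at hy
    exact false_of_mem_centralizer7 hG P hN hy hyC
      (smul_ne_of_three hG hn P hy (centralizer_le_normalizer' (P : Subgroup G) hyC))
  -- no element of order 2 in `C(P)`
  have h2 : ¬ 2 ∣ Nat.card (centralizer (P : Set G)) := by
    intro h
    obtain ⟨⟨u, huC⟩, hu⟩ := exists_prime_orderOf_dvd_card' 2 h
    rw [Subgroup.orderOf_mk] at hu
    have hu2 : u ^ 2 = 1 := by rw [← hu]; exact pow_orderOf_eq_one u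
    have h7 := seven_dvd_card_fixedBy hG hn (by norm_num) P huC
    obtain ⟨k, hk⟩ := parity hG (X := Sylow 5 G) hu2
    have hlt := card_fixedBy_lt_sylow5 hn (by norm_num) (u := u) (by
      rintro rfl; rw [orderOf_one] at hu; norm_num at hu)
    rw [hn] at hk
    omega
  -- `|C(P)| = 7`
  have hC7 : Nat.card (centralizer (P : Set G)) = 7 := by
    have h4 : Nat.card (centralizer (P : Set G)) ∣ 42 := by
      rw [← hN]; exact card_dvd_of_le (centralizer_le_normalizer' (P : Subgroup G))
    have h5 : (P : Subgroup G) ≤ centralizer (P : Set G) := by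
      intro v hv
      have hcyc : IsCyclic (P : Subgroup G) := isCyclic_of_prime_card hP7
      rw [mem_centralizer_iff]
      intro w hw
      have h6 : IsMulCommutative (P : Subgroup G) := IsCyclic.isMulCommutative
      exact congrArg Subtype.val (h6.is_comm.comm (⟨w, hw⟩ : (P : Subgroup G)) ⟨v, hv⟩)
    have h6 := card_dvd_of_le h5
    rw [hP7] at h6
    obtain ⟨c, hc⟩ := h6
    rw [hc] at h4 h3 h2
    have h7 : c ∣ 6 := Nat.dvd_of_mul_dvd_mul_left (k := 7) (by norm_num) (by simpa using h4)
    have hcle : c ≤ 6 := Nat.le_of_dvd (by norm_num) h7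
    rw [hc]
    interval_cases c <;> omega
  -- an element of order 6 in `N(P)`
  let f : normalizer (P : Set G) →* MulAut (P : Subgroup G) := (P : Subgroup G).normalizerMonoidHom
  have hcyc : IsCyclic (P : Subgroup G) := isCyclic_of_prime_card hP7
  have hAc : IsCyclic (MulAut (P : Subgroup G)) := isCyclic_mulAut (by norm_num : Nat.Prime 7) hP7
  have hA : Nat.card (MulAut (P : Subgroup G)) = 6 := by
    rw [hcyc.card_mulAut, hP7, Nat.totient_prime (by norm_num)]
  have hker : Nat.card f.ker = 7 := by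
    have h1 : f.ker = (centralizer (P : Set G)).subgroupOf (normalizer (P : Set G)) :=
      normalizerMonoidHom_ker (P : Subgroup G)
    rw [h1]
    exact (Nat.card_congr (subgroupOfEquivOfLe
      (centralizer_le_normalizer' (P : Subgroup G))).toEquiv).trans hC7
  have hsurj : Function.Surjective f := by
    rw [← MonoidHom.range_eq_top]
    apply eq_top_of_card_eq
    rw [hA]
    have h1 := f.ker.card_mul_index
    rw [index_ker, hker, hN] at h1
    omega
  obtain ⟨g, hg⟩ := IsCyclic.exists_ofOrder_eq_natCard (α := MulAut (P : Subgroup G))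
  rw [hA] at hg
  obtain ⟨s, rfl⟩ := hsurj g
  have hs6 : 6 ∣ orderOf s := by
    rw [← hg]; exact orderOf_map_dvd f s
  obtain ⟨k, hk⟩ := hs6
  have hspos : 0 < orderOf s := orderOf_pos s
  have hk0 : k ≠ 0 := by rintro rfl; omega
  have hu : orderOf (s ^ (3 * k)) = 2 := by
    rw [orderOf_pow_of_dvd (by omega) (by rw [hk]; exact ⟨2, by ring⟩), hk]
    rw [show 6 * k = 2 * (3 * k) by ring]
    exact Nat.mul_div_cancel _ (by omega)
  have hy : orderOf (s ^ (2 * k)) = 3 := by
    rw [orderOf_pow_of_dvd (by omega) (by rw [hk]; exact ⟨3, by ring⟩), hk]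
    rw [show 6 * k = 3 * (2 * k) by ring]
    exact Nat.mul_div_cancel _ (by omega)
  have huy : (s : G) ^ (3 * k) * (s : G) ^ (2 * k) = (s : G) ^ (2 * k) * (s : G) ^ (3 * k) := by
    rw [← pow_add, ← pow_add, add_comm]
  rw [← Subgroup.orderOf_coe, coe_pow] at hu hy
  set u := (s : G) ^ (3 * k) with hudef
  set y := (s : G) ^ (2 * k) with hydef
  have huN : u ∈ normalizer (P : Set G) := pow_mem s.2 _
  have hyN : y ∈ normalizer (P : Set G) := pow_mem s.2 _
  have hu2 : u ^ 2 = 1 := by rw [← hu]; exact pow_orderOf_eq_one u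
  have huC : u ∉ centralizer (P : Set G) := by
    intro h
    apply h2
    have := orderOf_dvd_natCard (⟨u, h⟩ : centralizer (P : Set G))
    rwa [Subgroup.orderOf_mk, hu] at this
  have h7 := seven_mul_card_fixedBy_le hG hn (by norm_num) P huN huC
  obtain ⟨j, hj⟩ := parity hG (X := Sylow 5 G) hu2
  rw [hn] at hj
  have hone : Nat.card (fixedBy (Sylow 5 G) u) = 1 := by omega
  obtain ⟨hss, ⟨Q⟩⟩ := Nat.card_eq_one_iff_unique.1 hone
  have hQ : u • (Q : Sylow 5 G) = Q := Q.2
  have hyQ : u • (y • (Q : Sylow 5 G)) = y • (Q : Sylow 5 G) := by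
    rw [← mul_smul, huy, mul_smul, hQ]
  have h8 : (⟨y • (Q : Sylow 5 G), hyQ⟩ : fixedBy (Sylow 5 G) u) = Q := Subsingleton.elim _ _
  exact smul_ne_of_three hG hn P hy hyN Q (congrArg Subtype.val h8)

end Cfsg.Agent.SmallSimple.Order5040N5
end

-- part: S0978
section
set_option autoImplicit false
open Cfsg

namespace Cfsg.Agent.S0978

open Subgroup
open Cfsg.Agent.SmallSimple.Order5040 Cfsg.Agent.SmallSimple.Order5040B
open Cfsg.Agent.SmallSimple.Order5040C Cfsg.Agent.SmallSimple.Order5040E

/-- No finite simple group has order 5040 = 2^4 * 3^2 * 5 * 7. -/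
theorem result {G : Type*} [Group G] [Finite G] [IsSimpleGroup G] : Nat.card G ≠ 5040 := by
  intro hG
  have := fact7
  have := fact5
  have := fact3
  have hn5 : Nat.card (Sylow 5 G) = 126 := by
    rcases n5_mem hG with h | h | h | h | h | h | h
    · exact absurd h (n5_ne_6 hG)
    · exact absurd h (n5_ne_16 hG)
    · exact absurd h (Cfsg.Agent.SmallSimple.Order5040N5.n5_ne_21 hG (card_normalizer7 hG))
    · exact absurd h (n5_ne_36 hG)
    · exact absurd h (n5_ne_56 hG)
    · exact h
    · exact absurd h (n5_ne_336 hG)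
  have h40 : ∀ P : Sylow 5 G, Nat.card (normalizer (P : Set G)) = 40 := by
    intro P
    have := card_normalizer_mul P hn5 hG
    omega
  have h7 : ∀ P : Sylow 7 G, Nat.card (centralizer (P : Set G)) = 7 := by
    intro P
    have hN := card_normalizer7 hG P
    obtain ⟨e, he1, he2, he3⟩ := automizer (by rw [hG]; norm_num) P (card_sylow7 hG P)
    have he4 : e ≤ 6 := Nat.le_of_dvd (by norm_num) he1
    have h14 := card_centralizer7_ne_14 hG P
    have h21 : Nat.card (centralizer (P : Set G)) ≠ 21 := by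
      intro h
      have h3 : 3 ∣ Nat.card (centralizer (P : Set G)) := by rw [h]; norm_num
      obtain ⟨⟨y, hyC⟩, hy⟩ := exists_prime_orderOf_dvd_card' 3 h3
      rw [Subgroup.orderOf_mk] at hy
      refine Cfsg.Agent.SmallSimple.Order5040N5.false_of_mem_centralizer7 hG P hN hy hyC ?_
      intro Q hQ
      have h4 := Sylow.smul_eq_iff_mem_normalizer.1 hQ
      have h5 := orderOf_dvd_natCard (⟨y, h4⟩ : normalizer ((Q : Subgroup G) : Set G))
      rw [Subgroup.orderOf_mk, hy] at h5
      have h6 := h5.trans (dvd_of_eq (h40 Q))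
      norm_num at h6
    rw [he3] at hN
    norm_num at he1
    interval_cases e <;> omega
  obtain ⟨P⟩ : Nonempty (Sylow 5 G) := inferInstance
  exact final hG h7 P (h40 P)

end Cfsg.Agent.S0978
end
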