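import Mathlib
import Cfsg.Prelude.Def_Characters
import Cfsg.Agent.Characters.Core
import Cfsg.Agent.Characters.Linear
import Cfsg.Agent.S0146
import Cfsg.Agent.S0148
import Cfsg.Agent.SmallSimple.DihedralNormChar
import Cfsg.Agent.Characters.Brauer
import Cfsg.Agent.S0198
import Cfsg.Agent.SmallSimple.SelfCentSum
import Cfsg.Agent.S0134
import Cfsg.Statements.S0979
import Cfsg.Agent.SmallSimple.SylowCount
import Cfsg.Agent.SmallSimple.Burnside
import Cfsg.Agent.SmallSimple.SylowPrimeCount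
set_option linter.all false

-- part: SmallSimple/PrimeCoherence
section
/-!
# Induction from a self-centralizing subgroup of prime order

`P ≤ G` of prime order `p` with `C_G(P) = P`.  For a nontrivial linear character `μ` of `P` put
`Θ_μ = Ind_P^G (1 - μ)`.  We compute all inner products `⟨Θ_μ, Θ_ν⟩`:
`e + 1` if `μ = ν` and `e` if `μ`, `ν` are not conjugate under `N = N_G(P)`, `|N| = e p`.
-/

set_option autoImplicit false

namespace Cfsg.Agent.SmallSimple.PrimeCoherence

open Subgroup Cfsg Cfsg.Agent.Characters.Core Cfsg.Agent.SmallSimple.DihedralNormGroup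
open Cfsg.Agent.SmallSimple.DihedralNormChar
open scoped ComplexConjugate

universe u

variable {G : Type u} [Group G] {p : ℕ} {P : Subgroup G}

/-- Conjugation by an element of the normalizer. -/
def cj (n : normalizer (P : Set G)) : P →* P where
  toFun x := ⟨(n : G)⁻¹ * x * n, by
    have h := (mem_normalizer_iff.1 (inv_mem n.2) (x : G)).1 x.2
    rwa [inv_inv] at h⟩
  map_one' := by apply Subtype.ext; simp
  map_mul' x y := by apply Subtype.ext; simp [mul_assoc]

theorem coe_cj (n : normalizer (P : Set G)) (x : P) : ((cj n x : P) : G) = (n : G)⁻¹ * x * n := rfl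

theorem cj_one (x : P) : cj (1 : normalizer (P : Set G)) x = x := by
  apply Subtype.ext; simp [coe_cj]

theorem cj_mul (n m : normalizer (P : Set G)) (x : P) : cj (n * m) x = cj m (cj n x) := by
  apply Subtype.ext; simp [coe_cj, mul_assoc]

/-- The normalizer acts on the linear characters of `P`. -/
def conjHom (n : normalizer (P : Set G)) (μ : P →* ℂˣ) : P →* ℂˣ := μ.comp (cj n)

theorem conjHom_apply (n : normalizer (P : Set G)) (μ : P →* ℂˣ) (x : P) :
    conjHom n μ x = μ (cj n x) := rfl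

theorem conjHom_one (μ : P →* ℂˣ) : conjHom (1 : normalizer (P : Set G)) μ = μ := by
  ext x; rw [conjHom_apply, cj_one]

theorem conjHom_mul (n m : normalizer (P : Set G)) (μ : P →* ℂˣ) :
    conjHom (n * m) μ = conjHom n (conjHom m μ) := by
  ext x; rw [conjHom_apply, conjHom_apply, conjHom_apply, cj_mul]

theorem conjHom_ne_one {n : normalizer (P : Set G)} {μ : P →* ℂˣ} (h : μ ≠ 1) :
    conjHom n μ ≠ 1 := by
  intro h1
  apply h
  have : μ = conjHom n⁻¹ (conjHom n μ) := by
    rw [← conjHom_mul, inv_mul_cancel, conjHom_one]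
  rw [this, h1]
  ext x; rfl

/-- the action of the normalizer on the nontrivial linear characters of `P` -/
@[reducible] def act : MulAction (normalizer (P : Set G)) {μ : P →* ℂˣ // μ ≠ 1} where
  smul n μ := ⟨conjHom n μ.1, conjHom_ne_one μ.2⟩
  one_smul μ := Subtype.ext (conjHom_one μ.1)
  mul_smul n m μ := Subtype.ext (conjHom_mul n m μ.1)

section ind

variable [Fintype G]

/-- The induced function on `P` is an average over the normalizer. -/
theorem ind_apply (hp : p.Prime) (hP : Nat.card P = p) (β : P → ℂ) (hβ : β 1 = 0)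
    [Fintype (normalizer (P : Set G))] (g : P) :
    indFun P β (g : G) = (p : ℂ)⁻¹ * ∑ n : normalizer (P : Set G), β (cj n g) := by
  classical
  rw [indFun_apply, hP]
  congr 1
  by_cases hg : g = 1
  · subst hg
    rw [Finset.sum_eq_zero, Finset.sum_eq_zero]
    · intro n _; rw [map_one, hβ]
    · intro x _
      have h1 : x⁻¹ * ((1 : P) : G) * x = 1 := by simp
      rw [h1, extendByZero_of_mem _ _ (one_mem P)]
      exact hβ
  · have hg' : (g : G) ≠ 1 := fun h => hg (Subtype.ext h)
    have hz : ∀ x : G, x ∉ normalizer (P : Set G) → extendByZero P β (x⁻¹ * g * x) = 0 := by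
      intro x hx
      apply extendByZero_of_notMem
      intro hmem
      apply hx
      have := mem_normalizer_of_conj_mem hp hP (x := x⁻¹) g.2 hg' (by rwa [inv_inv])
      exact inv_inv x ▸ inv_mem this
    rw [← Finset.sum_subset (Finset.subset_univ (Finset.univ.filter
      (fun x : G => x ∈ normalizer (P : Set G))))]
    · rw [← Finset.sum_subtype_eq_sum_filter]
      refine Finset.sum_congr (by ext; simp) fun n _ => ?_
      have hmem : (n : G)⁻¹ * g * n ∈ P := (cj n g).2
      rw [extendByZero_of_mem _ _ hmem]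
      rfl
    · intro x _ hx
      apply hz
      simpa using hx

omit [Fintype G] in
/-- inner product of the base functions -/
theorem inner_base [Fintype P] (μ ν : P →* ℂˣ) (hμ : μ ≠ 1) (hν : ν ≠ 1) :
    classInner (baseFun μ) (baseFun ν) = 1 + if μ = ν then 1 else 0 := by
  classical
  have h1 : ∀ μ : P →* ℂˣ, baseFun μ = (1 : P → ℂ) - fun x => (μ x : ℂ) := by
    intro μ; funext x; rfl
  have hne : ∀ μ : P →* ℂˣ, μ ≠ 1 → (1 : P → ℂ) ≠ fun x => (μ x : ℂ) := by
    intro μ hμ h
    apply hμ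
    ext x
    have := congrFun h x
    simp only [Pi.one_apply] at this
    rw [← this]; rfl
  have hi := Cfsg.Agent.Characters.Linear.isIrrCharacter_hom (G := P)
  rw [h1, h1, classInner_sub_left, classInner_sub_right, classInner_sub_right,
    classInner_irr_self isIrr_one, classInner_irr_ne isIrr_one (hi ν) (hne ν hν),
    classInner_irr_ne (hi μ) isIrr_one (hne μ hμ).symm, classInner_irr (hi μ) (hi ν)]
  have h2 : ((fun x : P => (μ x : ℂ)) = fun x => (ν x : ℂ)) ↔ μ = ν := by
    constructor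
    · intro h
      ext x
      exact congrFun h x
    · rintro rfl; rfl
  simp only [h2]
  ring

/-- inner products of the induced functions -/
theorem inner_ind (hp : p.Prime) (hP : Nat.card P = p) {e : ℕ}
    (hN : Nat.card (normalizer (P : Set G)) = e * p)
    (μ ν : P →* ℂˣ) (hμ : μ ≠ 1) (hν : ν ≠ 1) :
    classInner (indFun P (baseFun μ)) (indFun P (baseFun ν)) =
      e + (Nat.card {n : normalizer (P : Set G) // μ = conjHom n ν} : ℂ) / p := by
  classical
  have hpC : (p : ℂ) ≠ 0 := Nat.cast_ne_zero.2 hp.ne_zero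
  have := Fintype.ofFinite P
  have := Fintype.ofFinite (normalizer (P : Set G))
  have hcf : IsClassFunction G (indFun P (baseFun ν)) := by
    obtain ⟨χ, ψ, h1, h2, h3⟩ := isGeneralizedCharacter_ind ν
    rw [h3]
    intro g h
    rw [Pi.sub_apply, Pi.sub_apply, isCharacter_isClassFunction h1, isCharacter_isClassFunction h2]
  rw [Cfsg.Agent.S0146.result P (baseFun μ) _ hcf]
  have h1 : (fun h : P => indFun P (baseFun ν) (h : G)) =
      (p : ℂ)⁻¹ • ∑ n : normalizer (P : Set G), baseFun (conjHom n ν) := by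
    funext x
    rw [ind_apply hp hP (baseFun ν) (baseFun_one ν) x, Pi.smul_apply, Finset.sum_apply,
      smul_eq_mul]
    rfl
  rw [h1, classInner_smul_right, classInner_sum_right, map_inv₀, Complex.conj_natCast]
  rw [Finset.sum_congr rfl fun n _ => inner_base μ (conjHom n ν) hμ (conjHom_ne_one hν),
    Finset.sum_add_distrib, Finset.sum_const, Finset.card_univ, ← Nat.card_eq_fintype_card, hN,
    Finset.sum_boole, Nat.card_eq_fintype_card, Fintype.card_subtype]
  rw [nsmul_eq_mul, mul_one]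
  push_cast
  field_simp

end ind

/-- a nontrivial linear character of a group of prime order is faithful -/
theorem faithful_of_ne_one (hp : p.Prime) (hP : Nat.card P = p) {μ : P →* ℂˣ} (hμ : μ ≠ 1)
    {x : P} (hx : μ x = 1) : x = 1 := by
  by_contra hx1
  apply hμ
  have hx' : (x : G) ≠ 1 := fun h => hx1 (Subtype.ext h)
  ext y
  have hy : (y : G) ∈ zpowers (x : G) := by
    rw [zpowers_eq_of_mem hp hP x.2 hx']; exact y.2
  obtain ⟨k, hk⟩ := mem_zpowers_iff.1 hy
  have hk' : x ^ k = y := Subtype.ext (by rw [← hk]; simp)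
  rw [← hk', map_zpow, hx, one_zpow]
  rfl

/-- The stabilizer of a nontrivial linear character is `P`. -/
theorem conjHom_eq_iff (hp : p.Prime) (hP : Nat.card P = p)
    (hC : centralizer (P : Set G) = P) {μ : P →* ℂˣ} (hμ : μ ≠ 1)
    (n : normalizer (P : Set G)) : μ = conjHom n μ ↔ (n : G) ∈ P := by
  constructor
  · intro h
    have hnt : Nontrivial P := by
      have : Finite P := Nat.finite_of_card_ne_zero (by rw [hP]; exact hp.ne_zero)
      rw [← Finite.one_lt_card_iff_nontrivial, hP]; exact hp.one_lt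
    obtain ⟨y, hy⟩ := exists_ne (1 : P)
    have h1 : μ y = μ (cj n y) := by
      conv_lhs => rw [h]
      rfl
    have h2 : μ (y * (cj n y)⁻¹) = 1 := by rw [map_mul, map_inv, h1, mul_inv_cancel]
    have h3 := faithful_of_ne_one hp hP hμ h2
    have h4 : y = cj n y := mul_inv_eq_one.1 h3
    have h5 : (y : G) = (n : G)⁻¹ * y * n := congrArg Subtype.val h4
    have h6 : (n : G) * y = y * n := by
      conv_lhs => rw [h5]
      group
    have h7 := mem_centralizer_of_comm hp hP y.2 (fun h => hy (Subtype.ext h)) h6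
    rwa [hC] at h7
  · intro hn
    ext x
    rw [conjHom_apply]
    congr 2
    apply Subtype.ext
    rw [coe_cj]
    rw [mul_assoc, comm_of_mem hp hP x.2 hn]
    group

theorem card_stab (hp : p.Prime) (hP : Nat.card P = p)
    (hC : centralizer (P : Set G) = P) {μ : P →* ℂˣ} (hμ : μ ≠ 1) :
    Nat.card {n : normalizer (P : Set G) // μ = conjHom n μ} = p := by
  have hle : P ≤ normalizer (P : Set G) := le_normalizer
  rw [← hP]
  refine Nat.card_congr ?_
  refine (Equiv.subtypeEquivRight (conjHom_eq_iff hp hP hC hμ)).trans ?_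
  exact (Equiv.subtypeSubtypeEquivSubtype (fun {x} hx => hle hx))

/-- number of linear characters -/
theorem card_hom (hp : p.Prime) (hP : Nat.card P = p) : Nat.card (P →* ℂˣ) = p := by
  have hfin : Finite P := Nat.finite_of_card_ne_zero (by rw [hP]; exact hp.ne_zero)
  rw [Cfsg.Agent.Characters.Linear.card_hom_eq_index_commutator]
  have h : _root_.commutator P = ⊥ := by
    rw [commutator_def, Subgroup.commutator_eq_bot_iff_le_centralizer]
    intro x _
    rw [mem_centralizer_iff]
    intro y _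
    exact Subtype.ext (comm_of_mem hp hP y.2 x.2)
  rw [h, index_bot, hP]

/-- Each orbit of `N` on the nontrivial linear characters has `e` elements. -/
theorem card_conj (hp : p.Prime) (hP : Nat.card P = p)
    (hC : centralizer (P : Set G) = P) {e : ℕ} (hN : Nat.card (normalizer (P : Set G)) = e * p)
    [Finite (normalizer (P : Set G))] {μ : P →* ℂˣ} (hμ : μ ≠ 1) :
    Nat.card {ν : P →* ℂˣ // ∃ n, ν = conjHom n μ} = e := by
  let _ := act (P := P)
  have h1 := Nat.card_congr (MulAction.orbitProdStabilizerEquivGroup (normalizer (P : Set G))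
    (⟨μ, hμ⟩ : {μ : P →* ℂˣ // μ ≠ 1}))
  rw [Nat.card_prod, hN] at h1
  have h2 : Nat.card (MulAction.stabilizer (normalizer (P : Set G))
      (⟨μ, hμ⟩ : {μ : P →* ℂˣ // μ ≠ 1})) = p := by
    rw [← card_stab hp hP hC hμ]
    refine Nat.card_congr (Equiv.subtypeEquivRight fun n => ?_)
    rw [MulAction.mem_stabilizer_iff]
    constructor
    · intro h
      exact (congrArg Subtype.val h).symm
    · intro h
      exact Subtype.ext h.symm
  rw [h2] at h1
  have h3 := Nat.eq_of_mul_eq_mul_right hp.pos h1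
  rw [← h3]
  refine Nat.card_congr ⟨fun ν => ⟨⟨ν.1, ?_⟩, ?_⟩, fun ν => ⟨ν.1.1, ?_⟩, fun ν => rfl,
    fun ν => rfl⟩
  · obtain ⟨n, hn⟩ := ν.2
    rw [hn]; exact conjHom_ne_one hμ
  · obtain ⟨n, hn⟩ := ν.2
    exact ⟨n, Subtype.ext hn.symm⟩
  · obtain ⟨n, hn⟩ := ν.2
    exact ⟨n, (congrArg Subtype.val hn).symm⟩

/-- Representatives of the orbits of `N` on the nontrivial linear characters of `P`. -/
theorem exists_reps (hp : p.Prime) (hP : Nat.card P = p)
    (hC : centralizer (P : Set G) = P) {e t : ℕ}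
    (hN : Nat.card (normalizer (P : Set G)) = e * p) (ht : e * t = p - 1)
    [Finite (normalizer (P : Set G))] :
    ∃ r : Fin t → (P →* ℂˣ), (∀ i, r i ≠ 1) ∧
      (∀ i j n, i ≠ j → r i ≠ conjHom n (r j)) ∧
      ∀ μ : P →* ℂˣ, μ ≠ 1 → ∃ i n, μ = conjHom n (r i) := by
  classical
  let _ := act (P := P)
  have hepos : 0 < e := by
    rcases Nat.eq_zero_or_pos e with h | h
    · rw [h, zero_mul] at hN
      have := Nat.card_pos (α := normalizer (P : Set G))
      omega
    · exact h
  have hfinH : Finite (P →* ℂˣ) :=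
    Nat.finite_of_card_ne_zero (by rw [card_hom hp hP]; exact hp.ne_zero)
  have := Fintype.ofFinite (P →* ℂˣ)
  let Λ := {μ : P →* ℂˣ // μ ≠ 1}
  let Ω := MulAction.orbitRel.Quotient (normalizer (P : Set G)) Λ
  have hΛ : Nat.card Λ = p - 1 := by
    have h1 := Nat.card_congr (Equiv.sumCompl (fun μ : P →* ℂˣ => μ = 1))
    rw [Nat.card_sum, card_hom hp hP] at h1
    have h2 : Nat.card {μ : P →* ℂˣ // μ = 1} = 1 := by
      rw [Nat.card_eq_one_iff_unique]
      exact ⟨⟨fun a b => Subtype.ext (a.2.trans b.2.symm)⟩, ⟨⟨1, rfl⟩⟩⟩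
    rw [h2] at h1
    have h3 : Nat.card {μ : P →* ℂˣ // ¬ μ = 1} = p - 1 := by omega
    exact h3
  have hΩ : Finite Ω := Quotient.finite _
  have := Fintype.ofFinite Ω
  have hcard : Nat.card Λ = Nat.card Ω * e := by
    rw [Nat.card_congr (MulAction.selfEquivSigmaOrbits (normalizer (P : Set G)) Λ),
      Nat.card_sigma]
    rw [Finset.sum_congr rfl (g := fun _ => e)]
    · rw [Finset.sum_const, Finset.card_univ, ← Nat.card_eq_fintype_card, smul_eq_mul]
    · intro ω _
      rw [← card_conj hp hP hC hN ω.out.2]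
      refine Nat.card_congr ⟨fun ν => ⟨ν.1.1, ?_⟩, fun ν => ⟨⟨ν.1, ?_⟩, ?_⟩, fun ν => rfl,
        fun ν => rfl⟩
      · obtain ⟨n, hn⟩ := ν.2
        exact ⟨n, (congrArg Subtype.val hn).symm⟩
      · obtain ⟨n, hn⟩ := ν.2
        rw [hn]; exact conjHom_ne_one ω.out.2
      · obtain ⟨n, hn⟩ := ν.2
        exact ⟨n, Subtype.ext hn.symm⟩
  have hΩt : Nat.card Ω = t := by
    rw [hΛ, ← ht, mul_comm e t] at hcard
    exact (Nat.eq_of_mul_eq_mul_right hepos hcard).symm
  have eq := Finite.equivFinOfCardEq hΩt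
  refine ⟨fun i => (eq.symm i).out.1, fun i => (eq.symm i).out.2, ?_, ?_⟩
  · intro i j n hij h
    apply hij
    apply eq.symm.injective
    rw [← Quotient.out_eq (eq.symm i), ← Quotient.out_eq (eq.symm j)]
    exact Quotient.sound ⟨n, Subtype.ext h.symm⟩
  · intro μ hμ
    refine ⟨eq (Quotient.mk _ ⟨μ, hμ⟩), ?_⟩
    show ∃ n, μ = conjHom n (eq.symm (eq (Quotient.mk _ ⟨μ, hμ⟩))).out.1
    rw [eq.symm_apply_apply]
    have h1 := Quotient.exact (Quotient.out_eq (Quotient.mk (MulAction.orbitRel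
      (normalizer (P : Set G)) Λ) ⟨μ, hμ⟩))
    obtain ⟨n, hn⟩ := (MulAction.orbitRel (normalizer (P : Set G)) Λ).symm h1
    exact ⟨n, (congrArg Subtype.val hn).symm⟩

end Cfsg.Agent.SmallSimple.PrimeCoherence
end

-- part: SmallSimple/PrimeCoherenceMain
section
/-!
# Exceptional characters for a self-centralizing subgroup of prime order

`P ≤ G` of prime order `p`, `C_G(P) = P`, `|N_G(P)| = e p`, `t = (p - 1) / e ≥ e + 2`.
There are `t` exceptional irreducible characters, all of the same degree `f ≡ d e (mod p)`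
(`d = ±1`), the other irreducible characters `χ` take a rational integral value `c χ` on `P \ {1}`
with `∑ (c χ)^2 = e`, and `∑ c χ • χ = d • θ` on the elements not conjugate into `P \ {1}` for
every exceptional `θ`.
-/

set_option autoImplicit false

namespace Cfsg.Agent.SmallSimple.PrimeCoherenceMain

open Subgroup Cfsg Cfsg.Agent.Characters.Core Cfsg.Agent.SmallSimple.DihedralNormGroup
open Cfsg.Agent.SmallSimple.DihedralNormChar Cfsg.Agent.SmallSimple.PrimeCoherence
open scoped ComplexConjugate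

universe u

/-- Fourier inversion on a finite commutative group. -/
theorem fourier {P : Type u} [Group P] [Fintype P] [Fintype (P →* ℂˣ)]
    (hP : ∀ a b : P, a * b = b * a) (φ : P → ℂ) (x : P) :
    φ x = ∑ μ : P →* ℂˣ, classInner φ (fun y => (μ y : ℂ)) * (μ x : ℂ) := by
  classical
  have := finite_irr (G := P)
  have := Fintype.ofFinite (IrrCharacter P)
  have hφ : IsClassFunction P φ := by
    intro g h
    rw [hP h g, mul_inv_cancel_right]
  conv_lhs => rw [classFunction_eq_sum hφ]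
  rw [Finset.sum_apply]
  let E : (P →* ℂˣ) ≃ IrrCharacter P :=
    (Cfsg.Agent.Characters.Linear.linearEquiv P).trans
      (Equiv.subtypeUnivEquiv fun χ => SelfCentSum.irr_apply_one_of_comm hP χ.2)
  rw [← E.sum_comp]
  rfl

theorem sum_hom {P : Type u} [Group P] [Fintype P] [Fintype (P →* ℂˣ)]
    (hP : ∀ a b : P, a * b = b * a) [DecidableEq P] (x : P) :
    ∑ μ : P →* ℂˣ, (μ x : ℂ) = if x = 1 then (Nat.card P : ℂ) else 0 := by
  have h := fourier hP (fun y => if y = 1 then (Nat.card P : ℂ) else 0) x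
  refine Eq.trans ?_ h.symm
  refine Finset.sum_congr rfl fun μ _ => ?_
  rw [classInner_def]
  simp only [ite_mul, zero_mul, Finset.sum_ite_eq', Finset.mem_univ, if_true, map_one,
    Units.val_one, mul_one]
  rw [inv_mul_cancel₀ card_ne_zero_complex, one_mul]

variable {G : Type u} [Group G] {p : ℕ} {P : Subgroup G}

/-- inner product of `Θ_μ` with a character -/
theorem inner_ind_char [Fintype G] [Fintype P] (μ : P →* ℂˣ) {χ : G → ℂ}
    (hχ : IsClassFunction G χ) :
    classInner (indFun P (baseFun μ)) χ =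
      classInner (1 : P → ℂ) (fun x : P => χ x) - classInner (fun x => (μ x : ℂ)) (fun x : P => χ x) := by
  rw [Cfsg.Agent.S0146.result P (baseFun μ) χ hχ, ← classInner_sub_left]
  rfl

/-- `Θ_μ` depends only on the `N`-orbit of `μ`. -/
theorem ind_conjHom [Fintype G] (μ : P →* ℂˣ)
    (n : normalizer (P : Set G)) :
    indFun P (baseFun (conjHom n μ)) = indFun P (baseFun μ) := by
  classical
  have := Fintype.ofFinite P
  have := Fintype.ofFinite (normalizer (P : Set G))
  have hcf : ∀ ν : P →* ℂˣ, IsClassFunction G (indFun P (baseFun ν)) := by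
    intro ν
    obtain ⟨χ, ψ, h1, h2, h3⟩ := isGeneralizedCharacter_ind ν
    rw [h3]
    intro g h
    rw [Pi.sub_apply, Pi.sub_apply, isCharacter_isClassFunction h1, isCharacter_isClassFunction h2]
  apply classFunction_ext (hcf _) (hcf _)
  intro χ hχ
  rw [Cfsg.Agent.S0146.result P _ χ (isIrr_isClassFunction hχ),
    Cfsg.Agent.S0146.result P _ χ (isIrr_isClassFunction hχ)]
  rw [classInner_def, classInner_def]
  congr 1
  have hbij : Function.Bijective (cj n) := by
    constructor
    · intro x y hxy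
      have h := congrArg (cj n⁻¹) hxy
      rwa [← cj_mul, ← cj_mul, mul_inv_cancel, cj_one, cj_one] at h
    · intro y
      refine ⟨cj n⁻¹ y, ?_⟩
      rw [← cj_mul, inv_mul_cancel, cj_one]
  refine Fintype.sum_bijective (cj n) hbij _ _ fun x => ?_
  have h1 : χ (cj n x : P) = χ x := by
    rw [coe_cj]
    have := isIrr_isClassFunction hχ (x : G) (n : G)⁻¹
    rwa [inv_inv] at this
  rw [h1]
  rfl

theorem gram [Fintype G] (hp : p.Prime) (hP : Nat.card P = p)
    (hC : centralizer (P : Set G) = P) {e t : ℕ}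
    (hN : Nat.card (normalizer (P : Set G)) = e * p)
    (r : Fin t → (P →* ℂˣ)) (hr1 : ∀ i, r i ≠ 1) (hr2 : ∀ i j n, i ≠ j → r i ≠ conjHom n (r j))
    (i j : Fin t) :
    classInner (indFun P (baseFun (r i))) (indFun P (baseFun (r j))) =
      (e : ℂ) + if i = j then 1 else 0 := by
  have hpC : (p : ℂ) ≠ 0 := Nat.cast_ne_zero.2 hp.ne_zero
  rw [inner_ind hp hP hN _ _ (hr1 i) (hr1 j)]
  split_ifs with h
  · subst h
    rw [card_stab hp hP hC (hr1 i), div_self hpC]
  · have : IsEmpty {n : normalizer (P : Set G) // r i = conjHom n (r j)} :=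
      ⟨fun n => hr2 i j n.1 h n.2⟩
    rw [Nat.card_of_isEmpty, Nat.cast_zero, zero_div]

theorem core [Fintype G] [Fintype (IrrCharacter G)] (hp : p.Prime) (hP : Nat.card P = p)
    (hC : centralizer (P : Set G) = P) {e t : ℕ}
    (hN : Nat.card (normalizer (P : Set G)) = e * p) (het : e + 2 ≤ t)
    (r : Fin t → (P →* ℂˣ)) (hr1 : ∀ i, r i ≠ 1) (hr2 : ∀ i j n, i ≠ j → r i ≠ conjHom n (r j)) :
    ∃ (ε : ℤ) (θ : Fin t → IrrCharacter G) (c : IrrCharacter G → ℤ),
      (ε = 1 ∨ ε = -1) ∧ Function.Injective θ ∧ (∀ i, c (θ i) = 0) ∧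
      (∀ χ : IrrCharacter G, (χ : G → ℂ) = 1 → c χ = 1) ∧
      ∑ χ, (c χ) ^ 2 = e ∧
      ∀ i, indFun P (baseFun (r i)) = ∑ χ : IrrCharacter G, (c χ) • (χ : G → ℂ) + ε • (θ i : G → ℂ) := by
  classical
  have hgen : ∀ i, IsGeneralizedCharacter G (indFun P (baseFun (r i))) :=
    fun i => isGeneralizedCharacter_ind (r i)
  have hgram := gram hp hP hC hN r hr1 hr2
  have htpos : 0 < t := by omega
  let i₀ : Fin t := ⟨0, htpos⟩
  obtain ⟨ε, hε, μ, hμ, hμinj, hτ⟩ := Cfsg.Agent.S0198.result t i₀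
    (fun i => indFun P (baseFun (r i)) - indFun P (baseFun (r i₀)))
    (sub_self _)
    (fun i => Cfsg.Agent.Characters.Brauer.isGeneralizedCharacter_sub (hgen i) (hgen i₀))
    (fun i => by rw [Pi.sub_apply, ind_one, ind_one, sub_self])
    (by
      intro i j hi hj
      rw [classInner_sub_left, classInner_sub_right, classInner_sub_right, hgram, hgram, hgram,
        hgram, if_neg hi, if_neg (Ne.symm hj), if_pos rfl]
      split_ifs <;> ring)
  obtain ⟨ε', hε', hεε⟩ : ∃ ε' : ℤ, (ε' = 1 ∨ ε' = -1) ∧ ε = (ε' : ℂ) := by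
    rcases hε with h | h
    · exact ⟨1, Or.inl rfl, by rw [h]; norm_num⟩
    · exact ⟨-1, Or.inr rfl, by rw [h]; norm_num⟩
  have hε2 : ε' ^ 2 = 1 := by rcases hε' with h | h <;> rw [h] <;> norm_num
  let θ : Fin t → IrrCharacter G := fun i => ⟨μ i, hμ i⟩
  have hθinj : Function.Injective θ := fun i j h => hμinj (congrArg Subtype.val h)
  choose m hm using fun i => isGeneralizedCharacter_iff.1 (hgen i)
  have hmi : ∀ i (χ : IrrCharacter G),
      classInner (indFun P (baseFun (r i))) (χ : G → ℂ) = (m i χ : ℂ) := by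
    intro i χ
    have h := classInner_sum_zsmul_irr (m i) χ
    rw [← hm i] at h
    exact h
  have hk : ∀ i χ, m i χ = m i₀ χ +
      ε' * ((if θ i = χ then 1 else 0) - (if θ i₀ = χ then 1 else 0)) := by
    intro i χ
    have h : classInner (indFun P (baseFun (r i)) - indFun P (baseFun (r i₀))) (χ : G → ℂ) =
        classInner (ε • (μ i - μ i₀)) (χ : G → ℂ) := by rw [← hτ i]
    rw [classInner_sub_left, hmi, hmi, classInner_smul_left, classInner_sub_left,
      classInner_irr (hμ i) χ.2, classInner_irr (hμ i₀) χ.2, hεε] at h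
    have e1 : (μ i = (χ : G → ℂ)) ↔ θ i = χ := by
      constructor
      · intro h; exact Subtype.ext h
      · rintro rfl; rfl
    have e2 : (μ i₀ = (χ : G → ℂ)) ↔ θ i₀ = χ := by
      constructor
      · intro h; exact Subtype.ext h
      · rintro rfl; rfl
    simp only [e1, e2] at h
    have h' : (m i χ : ℂ) = ((m i₀ χ +
      ε' * ((if θ i = χ then 1 else 0) - (if θ i₀ = χ then 1 else 0)) : ℤ) : ℂ) := by
      push_cast
      linear_combination h
    exact_mod_cast h'
  have hnorm : ∀ i, ∑ χ, (m i χ) ^ 2 = (e : ℤ) + 1 := by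
    intro i
    have h := classInner_sum_smul_sum_smul (fun ψ : IrrCharacter G => (m i ψ : ℂ))
      (fun ψ => (m i ψ : ℂ))
    simp only [Int.cast_smul_eq_zsmul] at h
    rw [← hm i, hgram, if_pos rfl] at h
    simp only [map_intCast, ← pow_two] at h
    exact_mod_cast h.symm
  -- the principal character
  let ψ₀ : IrrCharacter G := ⟨1, isIrr_one⟩
  have hm1 : ∀ i, m i ψ₀ = 1 := by
    intro i
    have h := hmi i ψ₀
    have h' : classInner (indFun P (baseFun (r i))) 1 = (m i ψ₀ : ℂ) := h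
    rw [classInner_ind_one hp hP (r i) (fun x hx => faithful_of_ne_one hp hP (hr1 i) hx)] at h'
    exact_mod_cast h'.symm
  have hψ₀ : ∀ i, θ i ≠ ψ₀ := by
    have h0 : θ i₀ ≠ ψ₀ := by
      intro h
      let i₁ : Fin t := ⟨1, by omega⟩
      have hne : i₁ ≠ i₀ := by
        intro h; exact absurd (congrArg Fin.val h) (by norm_num [i₁, i₀])
      have h1 := hk i₁ ψ₀
      rw [hm1, hm1, if_pos h] at h1
      split_ifs at h1 with h2
      · exact hne (hθinj (h2.trans h.symm))
      · rcases hε' with h3 | h3 <;> rw [h3] at h1 <;> norm_num at h1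
    intro i h
    have h1 := hk i ψ₀
    rw [hm1, hm1, if_pos h, if_neg h0] at h1
    rcases hε' with h3 | h3 <;> rw [h3] at h1 <;> norm_num at h1
  -- values of `m i₀` at the exceptional characters
  have hval : ∀ i, i ≠ i₀ → m i₀ (θ i) = m i₀ (θ i₀) - ε' := by
    intro i hi
    have hne : θ i ≠ θ i₀ := fun h => hi (hθinj h)
    have h1 := hnorm i
    have h2 : ∑ χ, (m i χ) ^ 2 = ∑ χ, (m i₀ χ) ^ 2 +
        2 * ε' * (m i₀ (θ i) - m i₀ (θ i₀)) + 2 := by
      have h3 : ∀ χ, (m i χ) ^ 2 = (m i₀ χ) ^ 2 +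
          2 * ε' * ((if θ i = χ then m i₀ χ else 0) - (if θ i₀ = χ then m i₀ χ else 0)) +
          ((if θ i = χ then 1 else 0) + (if θ i₀ = χ then 1 else 0)) := by
        intro χ
        rw [hk i χ]
        by_cases h4 : θ i = χ
        · have h5 : θ i₀ ≠ χ := fun h => hne (h4.trans h.symm)
          simp only [if_pos h4, if_neg h5]
          ring_nf
          rw [hε2]; ring
        · by_cases h5 : θ i₀ = χ
          · simp only [if_neg h4, if_pos h5]
            ring_nf
            rw [hε2]; ring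
          · simp only [if_neg h4, if_neg h5]
            ring
      rw [Finset.sum_congr rfl fun χ _ => h3 χ, Finset.sum_add_distrib, Finset.sum_add_distrib,
        Finset.sum_add_distrib, ← Finset.mul_sum, Finset.sum_sub_distrib]
      simp only [Finset.sum_ite_eq, Finset.mem_univ, if_true]
      ring
    rw [h1, hnorm i₀] at h2
    have h3 : ε' * (m i₀ (θ i) - m i₀ (θ i₀)) = -1 := by linarith
    rcases hε' with h4 | h4 <;> rw [h4] at h3 ⊢ <;> linarith
  have hb : m i₀ (θ i₀) - ε' = 0 := by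
    by_contra hb
    have hsub : insert ψ₀ ((Finset.univ.erase i₀).image θ) ⊆ Finset.univ := Finset.subset_univ _
    have h1 : ∑ χ ∈ insert ψ₀ ((Finset.univ.erase i₀).image θ), (m i₀ χ) ^ 2 ≤
        ∑ χ, (m i₀ χ) ^ 2 :=
      Finset.sum_le_sum_of_subset_of_nonneg hsub (fun _ _ _ => sq_nonneg _)
    rw [Finset.sum_insert, hm1, Finset.sum_image (fun i _ j _ h => hθinj h), hnorm] at h1
    · have h2 : ∑ i ∈ Finset.univ.erase i₀, (1 : ℤ) ≤
          ∑ i ∈ Finset.univ.erase i₀, (m i₀ (θ i)) ^ 2 := by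
        refine Finset.sum_le_sum fun i hi => ?_
        rw [hval i (Finset.ne_of_mem_erase hi)]
        have : 0 < (m i₀ (θ i₀) - ε') ^ 2 := by positivity
        omega
      rw [Finset.sum_const, Finset.card_erase_of_mem (Finset.mem_univ _), Finset.card_univ,
        Fintype.card_fin, nsmul_eq_mul, mul_one] at h2
      have h3 : ((t - 1 : ℕ) : ℤ) = (t : ℤ) - 1 := by omega
      rw [h3] at h2
      have h4 : ((e : ℤ) + 2) ≤ t := by exact_mod_cast het
      rw [one_pow] at h1
      linarith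
    · intro h
      obtain ⟨i, _, hi⟩ := Finset.mem_image.1 h
      exact hψ₀ i hi
  -- the nonexceptional part
  refine ⟨ε', θ, fun χ => m i₀ χ - ε' * (if θ i₀ = χ then 1 else 0), hε', hθinj, ?_, ?_, ?_, ?_⟩
  · intro i
    by_cases hi : i = i₀
    · subst hi
      simp only [if_true]
      linarith
    · have hne : θ i₀ ≠ θ i := fun h => hi (hθinj h.symm)
      simp only [if_neg hne]
      rw [hval i hi, hb]; ring
  · intro χ hχ
    have h : χ = ψ₀ := Subtype.ext hχ
    subst h
    simp only [if_neg (hψ₀ i₀), hm1]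
    ring
  · have h1 := hnorm i₀
    have h2 : ∀ χ, (m i₀ χ) ^ 2 = (m i₀ χ - ε' * (if θ i₀ = χ then 1 else 0)) ^ 2 +
        (if θ i₀ = χ then 1 else 0) := by
      intro χ
      by_cases h3 : θ i₀ = χ
      · subst h3
        simp only [if_true]
        have h4 : m i₀ (θ i₀) = ε' := by linarith
        rw [h4]
        ring_nf
        exact hε2
      · simp only [if_neg h3]; ring
    rw [Finset.sum_congr rfl fun χ _ => h2 χ, Finset.sum_add_distrib] at h1
    simp only [Finset.sum_ite_eq, Finset.mem_univ, if_true] at h1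
    linarith
  · intro i
    rw [hm i]
    have h1 : ∑ χ : IrrCharacter G, ((m i₀ χ - ε' * (if θ i₀ = χ then 1 else 0) : ℤ)) •
        (χ : G → ℂ) + ε' • (θ i : G → ℂ) = ∑ χ : IrrCharacter G,
        ((m i₀ χ - ε' * (if θ i₀ = χ then 1 else 0) : ℤ) • (χ : G → ℂ) +
          (ε' * (if θ i = χ then 1 else 0)) • (χ : G → ℂ)) := by
      rw [Finset.sum_add_distrib]
      congr 1
      rw [Finset.sum_eq_single (θ i)]
      · simp
      · intro χ _ hχ
        rw [if_neg (Ne.symm hχ), mul_zero, zero_smul]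
      · intro h; exact absurd (Finset.mem_univ _) h
    rw [h1]
    refine Finset.sum_congr rfl fun χ _ => ?_
    rw [← add_smul, hk i χ]
    congr 1
    ring

/-- real-valuedness of the inner product of two characters -/
theorem inner_comm_of_char {H : Type u} [Group H] [Fintype H] {χ ψ : H → ℂ}
    (hχ : IsCharacter H χ) (hψ : IsCharacter H ψ) : classInner χ ψ = classInner ψ χ := by
  obtain ⟨n, hn⟩ := classInner_isNat hχ hψ
  rw [← classInner_conj_symm ψ χ, ← classInner_conj_symm χ ψ, hn, Complex.conj_natCast,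
    Complex.conj_natCast]

/-- **Main theorem** (Brauer, Brauer–Suzuki): exceptional characters for a self-centralizing
subgroup of prime order with `t = (p - 1) / e ≥ e + 2`. -/
theorem main [Fintype G] [Fintype (IrrCharacter G)] (hp : p.Prime) (hP : Nat.card P = p)
    (hC : centralizer (P : Set G) = P) {e t : ℕ}
    (hN : Nat.card (normalizer (P : Set G)) = e * p) (ht : e * t = p - 1) (het : e + 2 ≤ t) :
    ∃ (d : ℤ) (X : Finset (IrrCharacter G)) (c : IrrCharacter G → ℤ) (f : ℕ),
      (d = 1 ∨ d = -1) ∧ X.card = t ∧ (∀ θ ∈ X, (θ : G → ℂ) 1 = f) ∧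
      ((f : ℤ) ≡ d * e [ZMOD p]) ∧
      (∀ χ ∉ X, ∀ n : ℕ, (χ : G → ℂ) 1 = n → (n : ℤ) ≡ c χ [ZMOD p]) ∧
      (∀ χ ∉ X, ∀ x ∈ P, x ≠ 1 → (χ : G → ℂ) x = c χ) ∧
      (∀ χ ∈ X, c χ = 0) ∧
      (∀ χ : IrrCharacter G, (χ : G → ℂ) = 1 → χ ∉ X ∧ c χ = 1) ∧
      ∑ χ, (c χ) ^ 2 = e ∧
      (∀ θ ∈ X, ∀ g : G, (∀ x : G, x⁻¹ * g * x ∈ P → x⁻¹ * g * x = 1) →
        ∑ χ : IrrCharacter G, (c χ : ℂ) * (χ : G → ℂ) g = d * (θ : G → ℂ) g) := by
  classical
  have := Fintype.ofFinite P
  have hcommP : ∀ a b : P, a * b = b * a := fun a b => Subtype.ext (comm_of_mem hp hP a.2 b.2)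
  have hfinH : Finite (P →* ℂˣ) :=
    Nat.finite_of_card_ne_zero (by rw [card_hom hp hP]; exact hp.ne_zero)
  have := Fintype.ofFinite (P →* ℂˣ)
  obtain ⟨r, hr1, hr2, hr3⟩ := exists_reps hp hP hC hN ht
  obtain ⟨ε, θ, c, hε, hθ, hcθ, hc1, hc2, hΘ⟩ := core hp hP hC hN het r hr1 hr2
  have hi := Cfsg.Agent.Characters.Linear.isCharacter_hom (G := P)
  have hres : ∀ χ : IrrCharacter G, IsCharacter P (fun x : P => (χ : G → ℂ) x) :=
    fun χ => isCharacter_comp P.subtype (isIrr_isCharacter χ.2)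
  -- coordinates of `Θ`
  have hcoord : ∀ i (χ : IrrCharacter G), classInner (indFun P (baseFun (r i))) (χ : G → ℂ) =
      c χ + ε * (if θ i = χ then 1 else 0) := by
    intro i χ
    have e1 : ((θ i : G → ℂ) = (χ : G → ℂ)) ↔ θ i = χ :=
      ⟨fun h => Subtype.ext h, fun h => by rw [h]⟩
    rw [hΘ i, classInner_add_left, classInner_sum_zsmul_irr, ← Int.cast_smul_eq_zsmul ℂ,
      classInner_smul_left, classInner_irr (θ i).2 χ.2]
    simp only [e1]
  -- multiplicity of a linear character in the restriction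
  have hmult : ∀ (χ : IrrCharacter G) (z : ℕ),
      classInner (1 : P → ℂ) (fun x : P => (χ : G → ℂ) x) = z → ∀ (i : Fin t) (μ : P →* ℂˣ),
      (∃ n, μ = conjHom n (r i)) → classInner (fun x : P => (χ : G → ℂ) x) (fun x => (μ x : ℂ)) =
        z - (c χ + ε * (if θ i = χ then 1 else 0)) := by
    rintro χ z hz i μ ⟨n, hn⟩
    have h1 := hcoord i χ
    rw [← ind_conjHom (r i) n, ← hn, inner_ind_char μ (isIrr_isClassFunction χ.2), hz] at h1
    rw [inner_comm_of_char (hres χ) (hi μ)]
    linear_combination -h1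
  have hone : ∀ (χ : IrrCharacter G), ∃ z : ℕ,
      classInner (1 : P → ℂ) (fun x : P => (χ : G → ℂ) x) = z := fun χ =>
    classInner_isNat isCharacter_one (hres χ)
  have hmult1 : ∀ (χ : IrrCharacter G) (z : ℕ),
      classInner (1 : P → ℂ) (fun x : P => (χ : G → ℂ) x) = z →
      classInner (fun x : P => (χ : G → ℂ) x) (fun x => (((1 : P →* ℂˣ) x : ℂˣ) : ℂ)) = z := by
    intro χ z hz
    rw [inner_comm_of_char (hres χ) (hi 1), ← hz]
    rfl
  -- values of the nonexceptional characters on `P`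
  have hval : ∀ χ : IrrCharacter G, (∀ i, θ i ≠ χ) → ∀ z : ℕ,
      classInner (1 : P → ℂ) (fun x : P => (χ : G → ℂ) x) = z → ∀ x : P,
      (χ : G → ℂ) x = (z - c χ) * (if x = 1 then (p : ℂ) else 0) + c χ := by
    intro χ hχ z hz x
    have h1 : (χ : G → ℂ) x = ∑ μ : P →* ℂˣ, classInner (fun x : P => (χ : G → ℂ) x)
        (fun y => (μ y : ℂ)) * (μ x : ℂ) := fourier hcommP (fun x : P => (χ : G → ℂ) x) x
    have h2 : ∀ μ : P →* ℂˣ, classInner (fun x : P => (χ : G → ℂ) x)
        (fun y => (μ y : ℂ)) * (μ x : ℂ) = (z - c χ) * (μ x : ℂ) +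
          (if μ = 1 then (c χ : ℂ) else 0) := by
      intro μ
      by_cases hμ : μ = 1
      · subst hμ
        rw [hmult1 χ z hz, if_pos rfl]
        simp
      · obtain ⟨i, n, hn⟩ := hr3 μ hμ
        rw [hmult χ z hz i μ ⟨n, hn⟩, if_neg (hχ i), if_neg hμ]
        ring
    rw [h1, Finset.sum_congr rfl fun μ _ => h2 μ, Finset.sum_add_distrib, ← Finset.mul_sum,
      sum_hom hcommP, Finset.sum_ite_eq', if_pos (Finset.mem_univ _), hP]
  have hX : ∀ χ : IrrCharacter G, χ ∉ Finset.univ.image θ ↔ ∀ i, θ i ≠ χ := by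
    intro χ
    simp
  have htpos : 0 < t := by omega
  obtain ⟨f, _, hf⟩ := isIrr_apply_one (θ ⟨0, htpos⟩).2
  have hεC : (ε : ℂ) * ε = 1 := by
    rcases hε with h | h <;> rw [h] <;> norm_num
  have hrel : ∀ i, ∀ g : G, (∀ x : G, x⁻¹ * g * x ∈ P → x⁻¹ * g * x = 1) →
        ∑ χ : IrrCharacter G, (c χ : ℂ) * (χ : G → ℂ) g = (-ε : ℂ) * (θ i : G → ℂ) g := by
    intro i g hg
    have h1 := ind_eq_zero (r i) hg
    rw [hΘ i, Pi.add_apply, Finset.sum_apply, Pi.smul_apply] at h1
    simp only [Pi.smul_apply, zsmul_eq_mul] at h1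
    linear_combination h1
  have hdeg : ∀ i, (θ i : G → ℂ) 1 = f := by
    intro i
    have h1 := hrel i 1 (fun x _ => by group)
    have h2 := hrel ⟨0, htpos⟩ 1 (fun x _ => by group)
    rw [h1, hf] at h2
    linear_combination (-ε : ℂ) * h2 - ((θ i : G → ℂ) 1 - f) * hεC
  refine ⟨-ε, Finset.univ.image θ, c, f, ?_, ?_, ?_, ?_, ?_, ?_, ?_, ?_, hc2, ?_⟩
  · rcases hε with h | h <;> rw [h] <;> norm_num
  · rw [Finset.card_image_of_injective _ hθ, Finset.card_univ, Fintype.card_fin]
  · intro θ' hθ'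
    obtain ⟨i, _, rfl⟩ := Finset.mem_image.1 hθ'
    exact hdeg i
  · -- congruence for the exceptional degree
    set χ := θ ⟨0, htpos⟩ with hχdef
    obtain ⟨z, hz⟩ := hone χ
    have h1 : (χ : G → ℂ) ((1 : P) : G) = ∑ μ : P →* ℂˣ, classInner (fun x : P => (χ : G → ℂ) x)
        (fun y => (μ y : ℂ)) * (μ (1 : P) : ℂ) := fourier hcommP (fun x : P => (χ : G → ℂ) x) 1
    have h2 : ∀ μ : P →* ℂˣ, classInner (fun x : P => (χ : G → ℂ) x)
        (fun y => (μ y : ℂ)) * (μ (1 : P) : ℂ) = z -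
          (if ∃ n, μ = conjHom n (r ⟨0, htpos⟩) then (ε : ℂ) else 0) := by
      intro μ
      rw [map_one, Units.val_one, mul_one]
      by_cases hμ : μ = 1
      · subst hμ
        rw [hmult1 χ z hz, if_neg, sub_zero]
        rintro ⟨n, hn⟩
        exact conjHom_ne_one (hr1 _) hn.symm
      · obtain ⟨i, n, hn⟩ := hr3 μ hμ
        rw [hmult χ z hz i μ ⟨n, hn⟩, hχdef, hcθ]
        by_cases hi0 : i = ⟨0, htpos⟩
        · subst hi0
          rw [if_pos rfl, if_pos ⟨n, hn⟩]
          push_cast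
          ring
        · rw [if_neg (fun h => hi0 (hθ h)), if_neg]
          · push_cast
            ring
          · rintro ⟨n', hn'⟩
            apply hr2 i ⟨0, htpos⟩ (n⁻¹ * n') hi0
            rw [conjHom_mul, ← hn', hn, ← conjHom_mul, inv_mul_cancel, conjHom_one]
    rw [Finset.sum_congr rfl fun μ _ => h2 μ, Finset.sum_sub_distrib, Finset.sum_const,
      Finset.card_univ, ← Nat.card_eq_fintype_card, card_hom hp hP, Subgroup.coe_one, hf,
      ← Finset.sum_filter, Finset.sum_const, ← Fintype.card_subtype,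
      ← Nat.card_eq_fintype_card, card_conj hp hP hC hN (hr1 _)] at h1
    have h3 : (f : ℤ) = p * z - e * ε := by
      have : ((f : ℤ) : ℂ) = ((p * z - e * ε : ℤ) : ℂ) := by
        push_cast
        rw [h1, nsmul_eq_mul, nsmul_eq_mul]
      exact_mod_cast this
    rw [Int.modEq_iff_dvd, h3]
    exact ⟨-z, by ring⟩
  · intro χ hχ n hn
    obtain ⟨z, hz⟩ := hone χ
    have h1 := hval χ ((hX χ).1 hχ) z hz 1
    rw [if_pos rfl, Subgroup.coe_one, hn] at h1
    have h3 : (n : ℤ) = (z - c χ) * p + c χ := by exact_mod_cast h1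
    rw [Int.modEq_iff_dvd, h3]
    exact ⟨c χ - z, by ring⟩
  · intro χ hχ x hx hx1
    obtain ⟨z, hz⟩ := hone χ
    have h1 := hval χ ((hX χ).1 hχ) z hz ⟨x, hx⟩
    rw [if_neg (fun h => hx1 (congrArg Subtype.val h)), mul_zero, zero_add] at h1
    exact h1
  · intro χ hχ
    obtain ⟨i, _, rfl⟩ := Finset.mem_image.1 hχ
    exact hcθ i
  · intro χ hχ
    refine ⟨?_, hc1 χ hχ⟩
    rw [hX]
    intro i h
    have h1 := hc1 χ hχ
    rw [← h, hcθ] at h1
    exact absurd h1 (by norm_num)
  · intro θ' hθ' g hg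
    obtain ⟨i, _, rfl⟩ := Finset.mem_image.1 hθ'
    rw [hrel i g hg]
    push_cast
    rfl

end Cfsg.Agent.SmallSimple.PrimeCoherenceMain
end

-- part: SmallSimple/PrimeCoherenceArith
section
/-!
# Arithmetic of the exceptional characters for a self-centralizing Sylow subgroup of prime order

`G` simple, `P ≤ G` of prime order `p`, `C_G(P) = P`, `|N_G(P)| = e p`, `e t = p - 1`,
`t ≥ e + 2`: consequences of `PrimeCoherenceMain.main` about degrees only.
-/

set_option autoImplicit false

namespace Cfsg.Agent.SmallSimple.PrimeCoherenceArith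

open Subgroup Cfsg Cfsg.Agent.Characters.Core

universe u

/-- the degree of an irreducible character as a natural number dividing `|G|` -/
theorem exists_degree {G : Type u} [Group G] [Finite G] {χ : G → ℂ} (hχ : IsIrrCharacter G χ) :
    ∃ n : ℕ, χ 1 = n ∧ n ∣ Nat.card G := by
  obtain ⟨m, ρ, hρ, rfl⟩ := hχ
  have h5 := Cfsg.Agent.S0135.result ρ
  refine ⟨_, ?_, h5⟩
  rw [Representation.char_one]

/-- the degree function -/
theorem exists_degree_fun {G : Type u} [Group G] [Finite G] [Fintype (IrrCharacter G)] :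
    ∃ n : IrrCharacter G → ℕ, (∀ χ : IrrCharacter G, (χ : G → ℂ) 1 = n χ) ∧
      (∀ χ, n χ ∣ Nat.card G) ∧ ∑ χ, n χ ^ 2 = Nat.card G := by
  choose n hn hn' using fun χ : IrrCharacter G => exists_degree χ.2
  refine ⟨n, hn, hn', ?_⟩
  have h := Cfsg.Agent.S0134.result (G := G)
  rw [finsum_eq_sum_of_fintype] at h
  have h2 : ((∑ χ, n χ ^ 2 : ℕ) : ℂ) = Nat.card G := by
    rw [← h]
    push_cast
    exact Finset.sum_congr rfl fun χ _ => by rw [hn χ]
  exact_mod_cast h2

/-- Degrees of the characters in the principal block of a simple group with a self-centralizing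
subgroup of prime order `p` and inertial index `e`, `e t = p - 1`, `t ≥ e + 2`. -/
theorem degrees {G : Type u} [Group G] [Finite G] [IsSimpleGroup G]
    (hG : ¬ (Nat.card G).Prime) {p : ℕ} {P : Subgroup G} (hp : p.Prime) (hP : Nat.card P = p)
    (hC : centralizer (P : Set G) = P) {e t : ℕ}
    (hN : Nat.card (normalizer (P : Set G)) = e * p) (ht : e * t = p - 1) (het : e + 2 ≤ t) :
    ∃ (d : ℤ) (f : ℕ) (s : Finset (IrrCharacter G)) (c : IrrCharacter G → ℤ)
      (n : IrrCharacter G → ℕ),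
      (d = 1 ∨ d = -1) ∧ f ∣ Nat.card G ∧ ((f : ℤ) ≡ d * e [ZMOD p]) ∧
      (∀ χ ∈ s, c χ ≠ 0) ∧ (∀ χ ∈ s, 2 ≤ n χ) ∧
      (∀ χ ∈ s, n χ ∣ Nat.card G) ∧ (∀ χ ∈ s, (n χ : ℤ) ≡ c χ [ZMOD p]) ∧
      ∑ χ ∈ s, (c χ) ^ 2 + 1 = e ∧ 1 + ∑ χ ∈ s, c χ * n χ = d * f ∧
      t * f ^ 2 + 1 + ∑ χ ∈ s, (n χ) ^ 2 ≤ Nat.card G := by
  classical
  have := Fintype.ofFinite G
  have := finite_irr (G := G)
  have := Fintype.ofFinite (IrrCharacter G)
  obtain ⟨n, hn1, hn2, hn3⟩ := exists_degree_fun (G := G)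
  obtain ⟨d, X, c, f, hd, hX, hf, hfe, hc1, -, hcX, hcone, hsum, hrel⟩ :=
    PrimeCoherenceMain.main hp hP hC hN ht het
  let one : IrrCharacter G := ⟨1, isIrr_one⟩
  have hone1 : one ∉ X := (hcone one rfl).1
  have hone2 : c one = 1 := (hcone one rfl).2
  have hnone : n one = 1 := by
    have h1 : (one : G → ℂ) 1 = (n one : ℂ) := hn1 one
    have h2 : (one : G → ℂ) 1 = 1 := rfl
    rw [h2] at h1
    exact_mod_cast h1.symm
  have hXf : ∀ θ ∈ X, n θ = f := by
    intro θ hθ
    have h1 := hf θ hθ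
    rw [hn1 θ] at h1
    exact_mod_cast h1
  have htpos : 0 < t := by omega
  obtain ⟨θ, hθ⟩ : X.Nonempty := Finset.card_pos.mp (by omega)
  let s : Finset (IrrCharacter G) := Finset.univ.filter fun χ => χ ≠ one ∧ c χ ≠ 0
  have hs : ∀ χ, χ ∈ s ↔ χ ≠ one ∧ c χ ≠ 0 := fun χ => by simp [s]
  have hsX : ∀ χ ∈ s, χ ∉ X := fun χ h1 h2 => ((hs χ).1 h1).2 (hcX χ h2)
  have hsplit : ∀ F : IrrCharacter G → ℤ, (∀ χ, c χ = 0 → F χ = 0) →
      ∑ χ, F χ = F one + ∑ χ ∈ s, F χ := by
    intro F hF
    rw [← Finset.add_sum_erase _ _ (Finset.mem_univ one)]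
    congr 1
    symm
    apply Finset.sum_subset
    · intro χ h1
      rw [Finset.mem_erase]
      exact ⟨((hs χ).1 h1).1, Finset.mem_univ _⟩
    · intro χ h1 h2
      apply hF
      by_contra h3
      exact h2 ((hs χ).2 ⟨(Finset.mem_erase.1 h1).1, h3⟩)
  refine ⟨d, f, s, c, n, hd, ?_, hfe, fun χ h => ((hs χ).1 h).2, ?_, fun χ _ => hn2 χ,
    fun χ h => hc1 χ (hsX χ h) (n χ) (hn1 χ), ?_, ?_, ?_⟩
  · rw [← hXf θ hθ]
    exact hn2 θ
  · intro χ h
    by_contra hlt
    have hpos : 0 < n χ := Nat.pos_of_dvd_of_pos (hn2 χ) Nat.card_pos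
    have h1 : n χ = 1 := by omega
    have h2 : (χ : G → ℂ) 1 = 1 := by rw [hn1 χ, h1, Nat.cast_one]
    have h3 := SelfCentSum.eq_one_of_apply_one hG χ.2 h2
    exact ((hs χ).1 h).1 (Subtype.ext h3)
  · have h1 := hsplit (fun χ => c χ ^ 2) (fun χ h => by simp [h])
    rw [hsum] at h1
    simp only [hone2] at h1
    rw [h1]; ring
  · have h1 := hrel θ hθ 1 (fun x _ => by simp)
    have h2 : ((∑ χ, c χ * (n χ : ℤ) : ℤ) : ℂ) = ((d * f : ℤ) : ℂ) := by
      push_cast
      rw [hf θ hθ] at h1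
      rw [← h1]
      exact Finset.sum_congr rfl fun χ _ => by rw [hn1 χ]
    have h3 : (∑ χ, c χ * (n χ : ℤ) : ℤ) = d * f := by exact_mod_cast h2
    rw [← h3, hsplit (fun χ => c χ * (n χ : ℤ)) (fun χ h => by simp [h])]
    simp only [hone2, hnone]
    norm_num
  · rw [← hn3]
    have hdisj : Disjoint X ({one} ∪ s) := by
      rw [Finset.disjoint_right]
      intro χ h1
      rw [Finset.mem_union, Finset.mem_singleton] at h1
      rcases h1 with h1 | h1
      · rw [h1]; exact hone1
      · exact hsX χ h1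
    have hdisj2 : Disjoint ({one} : Finset (IrrCharacter G)) s := by
      rw [Finset.disjoint_singleton_left]
      intro h1
      exact ((hs one).1 h1).1 rfl
    calc t * f ^ 2 + 1 + ∑ χ ∈ s, (n χ) ^ 2
        = ∑ χ ∈ X, (n χ) ^ 2 + (∑ χ ∈ {one}, (n χ) ^ 2 + ∑ χ ∈ s, (n χ) ^ 2) := by
          have h1 : ∑ χ ∈ X, (n χ) ^ 2 = t * f ^ 2 := by
            rw [Finset.sum_congr rfl fun χ hχ => by rw [hXf χ hχ], Finset.sum_const, hX,
              smul_eq_mul]
          rw [Finset.sum_singleton, hnone, h1]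
          ring
      _ = ∑ χ ∈ X ∪ ({one} ∪ s), (n χ) ^ 2 := by
          rw [Finset.sum_union hdisj, Finset.sum_union hdisj2]
      _ ≤ ∑ χ, (n χ) ^ 2 :=
          Finset.sum_le_sum_of_subset (Finset.subset_univ _)

end Cfsg.Agent.SmallSimple.PrimeCoherenceArith
end

-- part: S0979
section
set_option autoImplicit false
open Cfsg

namespace Cfsg.Agent.S0979

open Subgroup Cfsg.Agent.SmallSimple

/-- the order of a Sylow subgroup from the exact power of `p` -/
theorem card_sylow_eq {G : Type*} [Group G] [Finite G] {p k : ℕ} [hp : Fact p.Prime]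
    (P : Sylow p G) (h1 : p ^ k ∣ Nat.card G) (h2 : ¬ p ^ (k + 1) ∣ Nat.card G) :
    Nat.card P = p ^ k := by
  rw [P.card_eq_multiplicity]
  have h3 := (hp.out.pow_dvd_iff_le_factorization Nat.card_pos.ne').1 h1
  have h4 : ¬ k + 1 ≤ (Nat.card G).factorization p := fun h =>
    h2 ((hp.out.pow_dvd_iff_le_factorization Nat.card_pos.ne').2 h)
  have : (Nat.card G).factorization p = k := by omega
  rw [this]

/-- If `|N_G(P)| = q p` with `q` prime, `P` of prime order `p` and `G` simple of order different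
from `p`, then `P` is self-centralizing. -/
theorem centralizer_eq {G : Type*} [Group G] [Finite G] [IsSimpleGroup G] {p q : ℕ}
    [hp : Fact p.Prime] (hq : q.Prime) (P : Sylow p G) (hdvd : p ∣ Nat.card G)
    (hP : Nat.card P = p) (hGp : Nat.card G ≠ p)
    (hN : Nat.card (normalizer (P : Set G)) = q * p) :
    centralizer ((P : Subgroup G) : Set G) = (P : Subgroup G) := by
  have hPC : (P : Subgroup G) ≤ centralizer ((P : Subgroup G) : Set G) := by
    have hcyc : IsCyclic P := isCyclic_of_prime_card hP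
    intro x hx
    rw [mem_centralizer_iff]
    intro y hy
    have := hcyc.isMulCommutative.is_comm.comm (⟨y, hy⟩ : P) ⟨x, hx⟩
    exact congrArg Subtype.val this
  have hCN : centralizer ((P : Subgroup G) : Set G) ≤ normalizer (P : Set G) :=
    SylowPrimeCount.centralizer_le_normalizer' (P : Subgroup G)
  obtain ⟨a, ha⟩ := card_dvd_of_le hPC
  obtain ⟨b, hb⟩ := card_dvd_of_le hCN
  rw [hP] at ha
  rw [hN, ha] at hb
  have hab : q = a * b := by
    have h1 : p * q = p * (a * b) := by rw [mul_comm p q, hb]; ring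
    exact Nat.eq_of_mul_eq_mul_left hp.out.pos h1
  rcases (Nat.dvd_prime hq).mp ⟨b, hab⟩ with h1 | h1
  · symm
    refine eq_of_le_of_card_ge hPC ?_
    rw [ha, h1, mul_one]
    exact hP.ge
  · exfalso
    have h2 : centralizer ((P : Subgroup G) : Set G) = normalizer (P : Set G) := by
      refine eq_of_le_of_card_ge hCN ?_
      rw [ha, h1, hN, mul_comm]
    have h7 := Burnside.card_eq_of_normalizer_le_centralizer hdvd P (le_of_eq h2.symm)
    exact hGp h7

/-- No finite simple group has order 5472 = 2^5 * 3^2 * 19. -/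
theorem result {G : Type*} [Group G] [Finite G] [IsSimpleGroup G] : Nat.card G ≠ 5472 := by
  intro hG
  classical
  have h19 : Fact (Nat.Prime 19) := ⟨by norm_num⟩
  -- Sylow 19-subgroups
  obtain ⟨P⟩ : Nonempty (Sylow 19 G) := inferInstance
  have hPcard : Nat.card P = 19 := by
    have := card_sylow_eq (k := 1) P (by rw [hG]; norm_num) (by rw [hG]; norm_num)
    rw [this]; norm_num
  have hPidx : (P : Subgroup G).index = 288 := by
    have h3 := (P : Subgroup G).card_mul_index
    rw [hPcard, hG] at h3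
    omega
  have hn19 : Nat.card (Sylow 19 G) = 96 := by
    have h3 : Nat.card (Sylow 19 G) ≡ 1 [MOD 19] := card_sylow_modEq_one 19 G
    have h4 : Nat.card (Sylow 19 G) ∣ 288 := hPidx ▸ P.card_dvd_index
    have h5 : Nat.card (Sylow 19 G) ≠ 1 :=
      SylowCount.card_sylow_ne_one (by rw [hG]; norm_num) (by rw [hG]; norm_num)
    generalize Nat.card (Sylow 19 G) = n at h3 h4 h5
    have h6 : n ∈ Nat.divisors 288 := Nat.mem_divisors.mpr ⟨h4, by norm_num⟩
    have h7 : ∀ m ∈ Nat.divisors 288, m % 19 = 1 % 19 → m ≠ 1 → m = 96 := by decide +kernel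
    exact h7 n h6 h3 h5
  have hNPcard : Nat.card (normalizer (P : Set G)) = 3 * 19 := by
    have h3 := (normalizer (P : Set G)).card_mul_index
    rw [← P.card_eq_index_normalizer, hn19, hG] at h3
    omega
  have hC := centralizer_eq (q := 3) (by norm_num) P (by rw [hG]; norm_num) hPcard
    (by rw [hG]; norm_num) hNPcard
  obtain ⟨d, f, s, c, n, hd, hf, hfe, hc0, hn2, hndvd, hnc, hcc, hrel, hsq⟩ :=
    PrimeCoherenceArith.degrees (by rw [hG]; norm_num) (p := 19) (e := 3) (t := 6) h19.out hPcard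
      hC hNPcard (by norm_num) (by norm_num)
  -- `c χ = ±1` for `χ ∈ s`
  have hc1 : ∀ χ ∈ s, c χ = 1 ∨ c χ = -1 := by
    intro χ hχ
    have h1 : c χ ^ 2 ≤ ∑ χ ∈ s, c χ ^ 2 :=
      Finset.single_le_sum (f := fun χ => c χ ^ 2) (fun _ _ => sq_nonneg _) hχ
    have h2 : c χ ^ 2 ≤ 2 := by push_cast at hcc; linarith
    have h3 := hc0 χ hχ
    have h4 : c χ ≤ 1 := by nlinarith
    have h5 : -1 ≤ c χ := by nlinarith
    omega
  -- hence `c χ = -1` and the degree is `18`
  have hdeg : ∀ χ ∈ s, c χ * n χ = -18 * c χ ^ 2 := by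
    intro χ hχ
    have h1 : n χ ^ 2 < 5472 := by
      have h2 : n χ ^ 2 ≤ ∑ χ ∈ s, n χ ^ 2 :=
        Finset.single_le_sum (f := fun χ => n χ ^ 2) (fun _ _ => Nat.zero_le _) hχ
      rw [hG] at hsq
      omega
    have h2 := hn2 χ hχ
    have h3 := hndvd χ hχ
    have h4 := hnc χ hχ
    rw [hG] at h3
    have h5 : ∀ m ∈ Nat.divisors 5472, 2 ≤ m → m ^ 2 < 5472 → (m % 19 ≠ 1 ∧ (m % 19 = 18 → m = 18)) := by
      decide +kernel
    have h6 := h5 (n χ) (Nat.mem_divisors.mpr ⟨h3, by norm_num⟩) h2 h1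
    rcases hc1 χ hχ with h7 | h7
    · exfalso
      rw [h7] at h4
      apply h6.1
      unfold Int.ModEq at h4
      push_cast at h4
      omega
    · rw [h7] at h4 ⊢
      have h8 : n χ % 19 = 18 := by
        unfold Int.ModEq at h4
        push_cast at h4
        omega
      rw [h6.2 h8]
      norm_num
  rw [Finset.sum_congr rfl hdeg, ← Finset.mul_sum] at hrel
  have h1 : ∑ χ ∈ s, c χ ^ 2 = 2 := by push_cast at hcc; linarith
  rw [h1] at hrel
  have h2 : f = 35 := by
    rcases hd with hd | hd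
    · rw [hd] at hrel; omega
    · rw [hd] at hrel; omega
  rw [h2, hG] at hf
  revert hf
  norm_num

end Cfsg.Agent.S0979
end
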