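import Cfsg.Agent.SmallSimple.Sieve
import Mathlib
import Cfsg.Agent.SmallSimple.FiveSq
import Cfsg.Agent.SmallSimple.RelSylow
import Cfsg.Agent.SmallSimple.SylowMaxInter
import Cfsg.Agent.SmallSimple.PrimeOrderData
import Cfsg.Agent.SmallSimple.PrimeIndex
import Cfsg.Agent.SmallSimple.PSqQR
import Cfsg.Agent.SmallSimple.PrimeLocal
import Cfsg.Agent.SmallSimple.ElementCount
import Cfsg.Agent.SmallSimple.InvolFour
import Cfsg.Agent.SmallSimple.OrdersA
import Cfsg.Statements.S0983
import Cfsg.Agent.SmallSimple.Order3960_mg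
import Cfsg.Agent.S0144
import Cfsg.Agent.S0974
import Cfsg.Agent.S0975
import Cfsg.Agent.S0976
import Cfsg.Agent.S0977
import Cfsg.Agent.S0978
import Cfsg.Agent.S0979
import Cfsg.Agent.S0980
set_option linter.all false

-- part: SmallSimple/SieveRange
section
/-!
# Orders of non-abelian simple groups between 3641 and 6232 surviving the sieve
-/

set_option autoImplicit false

namespace Cfsg.Agent.SmallSimple.SieveRange

open Cfsg.Agent.SmallSimple.Sieve

theorem check1 : ((List.range 1300).all fun i => autoDead (3641 + i) ||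
    [3648, 3696, 3744, 3780, 3960, 4032, 4080, 4200, 4320, 4400, 4536, 4620, 4680, 4800,
      4928].any (Nat.beq (3641 + i))) = true := by
  decide +kernel

theorem check2 : ((List.range 1292).all fun i => autoDead (4941 + i) ||
    [4960, 5040, 5104, 5148, 5184, 5376, 5400, 5460, 5472, 5600, 5616, 5724, 5760, 5880,
      5940, 6048, 6072].any (Nat.beq (4941 + i))) = true := by
  decide +kernel

/-- The orders surviving the sieve. -/
theorem survivors {G : Type*} [Group G] [Finite G] [IsSimpleGroup G] (hG : ¬ IsMulCommutative G)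
    (h1 : 3640 < Nat.card G) (h2 : Nat.card G ≤ 6232) :
    Nat.card G ∈ [3648, 3696, 3744, 3780, 3960, 4032, 4080, 4200, 4320, 4400, 4536, 4620, 4680,
      4800, 4928] ∨
    Nat.card G ∈ [4960, 5040, 5104, 5148, 5184, 5376, 5400, 5460, 5472, 5600, 5616, 5724, 5760,
      5880, 5940, 6048, 6072] := by
  by_cases h : Nat.card G ≤ 4940
  · exact Or.inl (mem_of_range hG 3641 1300 _ check1 (by omega) (by omega) (by omega))
  · exact Or.inr (mem_of_range hG 4941 1292 _ check2 (by omega) (by omega) (by omega))

end Cfsg.Agent.SmallSimple.SieveRange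
end

-- part: SmallSimple/Order4200
section
set_option autoImplicit false

namespace Cfsg.Agent.SmallSimple.Order4200

open Subgroup Cfsg.Agent.SmallSimple.FiveSq

/-- There is no simple group of order 4200. -/
theorem not_simple_4200 {G : Type*} [Group G] [Finite G] [IsSimpleGroup G] (h : Nat.card G = 4200) : False := by
  have hG : ¬ IsMulCommutative G := Embed.not_comm_of_card_not_prime (by rw [h]; norm_num)
  have hm : Nat.card G = 168 * 5 ^ 2 := by rw [h]; norm_num
  have hmod : ¬ Nat.card (Sylow 5 G) ≡ 1 [MOD 5 ^ 2] := by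
    have h1 : Nat.card (Sylow 5 G) ∣ 168 := PSqQR.card_sylow_dvd_of_card_eq hm (by norm_num)
    have h3 := Embed.five_le_card_sylow hG (p := 5) (by rw [h]; norm_num)
    have h5 : ∀ n ∈ Nat.divisors 168, 5 ≤ n → ¬ n ≡ 1 [MOD 5 ^ 2] := by decide
    exact h5 _ (Nat.mem_divisors.2 ⟨h1, by norm_num⟩) h3
  obtain ⟨R, hPR, hD5, hPC, hRC, hC⟩ := exists_config hG (by rw [h]; norm_num) hm (by norm_num)
    (by decide) hmod (default : Sylow 5 G)
  set P : Sylow 5 G := default with hP
  set C : Subgroup G := centralizer (((P : Subgroup G) ⊓ R : Subgroup G) : Set G) with hCdef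
  have h1 := C.card_mul_index
  rw [hC, h] at h1
  have hCtop : C ≠ ⊤ := by
    intro htop
    rw [htop, Subgroup.card_top, h] at hC
    omega
  have h15 := IndexJordan.three_mul_le_index hG (by rw [h]; norm_num) 5 (le_refl 5) (by rw [h]; norm_num) _ hCtop
  omega

end Cfsg.Agent.SmallSimple.Order4200
end

-- part: SmallSimple/Order4800
section
set_option autoImplicit false

namespace Cfsg.Agent.SmallSimple.Order4800

open Subgroup Cfsg.Agent.SmallSimple.FiveSq

/-- There is no simple group of order 4800. -/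
theorem not_simple_4800 {G : Type*} [Group G] [Finite G] [IsSimpleGroup G] (h : Nat.card G = 4800) : False := by
  have hG : ¬ IsMulCommutative G := Embed.not_comm_of_card_not_prime (by rw [h]; norm_num)
  have hm : Nat.card G = 192 * 5 ^ 2 := by rw [h]; norm_num
  have hcard : ∀ Q : Sylow 5 G, Nat.card Q = 5 ^ 2 := fun Q => PSqQR.card_sylow_of_card_eq hm (by norm_num) Q
  have hcomm : ∀ Q : Sylow 5 G, IsMulCommutative Q := fun Q =>
    IsPGroup.isMulCommutative_of_card_eq_prime_sq (hcard Q)
  -- number of Sylow 5-subgroups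
  have hn : Nat.card (Sylow 5 G) = 16 ∨ Nat.card (Sylow 5 G) = 96 := by
    have h1 : Nat.card (Sylow 5 G) ∣ 192 := PSqQR.card_sylow_dvd_of_card_eq hm (by norm_num)
    have h2 := card_sylow_modEq_one 5 G
    have h3 := Embed.five_le_card_sylow hG (p := 5) (by rw [h]; norm_num)
    have h4 := Embed.two_mul_card_dvd_factorial_card_sylow hG (p := 5) (by rw [h]; norm_num)
    have h5 : ∀ n ∈ Nat.divisors 192, n % 5 = 1 → 5 ≤ n → n = 6 ∨ n = 16 ∨ n = 96 := by decide
    rcases h5 _ (Nat.mem_divisors.2 ⟨h1, by norm_num⟩) h2 h3 with h6 | h6 | h6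
    · exfalso
      rw [h6, h] at h4
      have : Nat.factorial 6 = 720 := rfl
      rw [this] at h4
      omega
    · exact Or.inl h6
    · exact Or.inr h6
  have hmod : ¬ Nat.card (Sylow 5 G) ≡ 1 [MOD 5 ^ 2] := by
    rcases hn with hn | hn <;> rw [hn] <;> decide
  obtain ⟨R, hPR, hD5, hPC, hRC, hC⟩ := exists_config hG (by rw [h]; norm_num) hm (by norm_num)
    (by decide) hmod (default : Sylow 5 G)
  set P : Sylow 5 G := default with hP
  set D : Subgroup G := (P : Subgroup G) ⊓ R with hD
  set C : Subgroup G := centralizer (D : Set G) with hCdef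
  have h50 := card_normalizer_inf hPR hC hPC hRC P hPC
  have hNP := Subgroup.card_mul_index (normalizer ((P : Subgroup G) : Set G))
  have hidxP : ∀ Q : Sylow 5 G, Nat.card (Sylow 5 G) = (normalizer ((Q : Subgroup G) : Set G)).index :=
    fun Q => Q.card_eq_index_normalizer
  rw [← hidxP P, h] at hNP
  rcases hn with hn | hn
  · -- 16 Sylow subgroups
    have hCN : C ≤ normalizer (D : Set G) := Subgroup.centralizer_le_normalizer _
    have hNtop : normalizer (D : Set G) ≠ ⊤ := by
      intro htop
      have hDn : D.Normal := normalizer_eq_top_iff.1 htop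
      rcases IsSimpleGroup.eq_bot_or_eq_top_of_normal D hDn with h1 | h1
      · rw [h1, Subgroup.card_bot] at hD5; omega
      · rw [h1, Subgroup.card_top, h] at hD5; omega
    have h15 := IndexJordan.three_mul_le_index hG (by rw [h]; norm_num) 5 (le_refl 5) (by rw [h]; norm_num) _ hNtop
    have hCi : C.index = 16 := by
      have := C.card_mul_index
      rw [hC, h] at this; omega
    have hNi : (normalizer (D : Set G)).index = 16 := by
      have h1 := Subgroup.index_dvd_of_le hCN
      rw [hCi] at h1
      have h2 := Nat.le_of_dvd (by norm_num) h1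
      have h3 : (normalizer (D : Set G)).index = 15 ∨ (normalizer (D : Set G)).index = 16 := by omega
      rcases h3 with h3 | h3
      · rw [h3] at h1; exact absurd h1 (by norm_num)
      · exact h3
    have hNC : normalizer (D : Set G) = C := by
      symm
      apply Subgroup.eq_of_le_of_card_ge hCN
      have := (normalizer (D : Set G)).card_mul_index
      rw [hNi, h] at this
      rw [hC]; omega
    set S0 : Subgroup G := normalizer ((R : Subgroup G) : Set G) ⊓ normalizer ((P : Subgroup G) : Set G) with hS0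
    have hS0C : S0 ≤ C := by
      rw [← hNC]
      intro x hx
      obtain ⟨hxR, hxP⟩ := Subgroup.mem_inf.1 hx
      rw [mem_normalizer_iff] at hxR hxP ⊢
      intro g
      show g ∈ D ↔ x * g * x⁻¹ ∈ D
      rw [hD, Subgroup.mem_inf, Subgroup.mem_inf]
      exact and_congr (hxP g) (hxR g)
    have hS050 : Nat.card S0 ∣ 50 := by
      rw [← h50]
      exact Subgroup.card_dvd_of_le (le_inf inf_le_right hS0C)
    have hS025 := not_dvd_card_inf_normalizer hcard hPR.symm
    have hS010 : Nat.card S0 ≤ 10 := by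
      have : ∀ n ∈ Nat.divisors 50, ¬ 5 ^ 2 ∣ n → n ≤ 10 := by decide
      exact this _ (Nat.mem_divisors.2 ⟨hS050, by norm_num⟩) hS025
    have hrel := card_inf_mul_relIndex (normalizer ((R : Subgroup G) : Set G)) (normalizer ((P : Subgroup G) : Set G))
    have hrel2 : (normalizer ((R : Subgroup G) : Set G)).relIndex (normalizer ((P : Subgroup G) : Set G)) ≤ 16 := by
      rw [← hn, hidxP R, ← Subgroup.relIndex_top_right]
      apply Subgroup.relIndex_le_of_le_right le_top
      rw [Subgroup.relIndex_top_right]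
      exact Subgroup.index_ne_zero_of_finite
    rw [hn] at hNP
    have h300 : Nat.card (normalizer ((P : Subgroup G) : Set G)) = 300 := by omega
    rw [h300] at hrel
    have : Nat.card S0 * (normalizer ((R : Subgroup G) : Set G)).relIndex (normalizer ((P : Subgroup G) : Set G)) ≤ 10 * 16 :=
      Nat.mul_le_mul hS010 hrel2
    have hrel' : Nat.card S0 * (normalizer ((R : Subgroup G) : Set G)).relIndex (normalizer ((P : Subgroup G) : Set G)) = 300 := hrel
    omega
  · -- 96 Sylow subgroups
    rw [hn] at hNP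
    have hN50 : Nat.card (normalizer ((P : Subgroup G) : Set G)) = 50 := by omega
    have hNPC : normalizer ((P : Subgroup G) : Set G) ≤ C := by
      have : normalizer ((P : Subgroup G) : Set G) ⊓ C = normalizer ((P : Subgroup G) : Set G) :=
        Subgroup.eq_of_le_of_card_ge inf_le_left (by rw [hN50, h50])
      rw [← this]; exact inf_le_right
    have hDne : ∃ d ∈ D, d ≠ 1 := by
      by_contra hcon
      push Not at hcon
      have : D = ⊥ := (Subgroup.eq_bot_iff_forall D).2 hcon
      rw [this, Subgroup.card_bot] at hD5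
      omega
    obtain ⟨d, hd, hd1⟩ := hDne
    apply hd1
    have := hcomm P
    apply eq_one_of_normalizer_le hG P (Subgroup.mem_inf.1 hd).1
    intro n hn'
    have h1 := hNPC hn'
    rw [hCdef, mem_centralizer_iff] at h1
    exact (h1 d hd).symm

end Cfsg.Agent.SmallSimple.Order4800
end

-- part: SmallSimple/Order4928
section
/-!
# There is no simple group of order 4928
-/

set_option autoImplicit false
set_option linter.unusedSectionVars false

namespace Cfsg.Agent.SmallSimple.Order4928

open Subgroup Cfsg.Agent.SmallSimple.PrimeLocal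

/-- There are distinct Sylow `p`-subgroups whose intersection has maximal order. -/
theorem exists_max {G : Type*} [Group G] [Finite G] {p : ℕ} [Fact p.Prime] (P Q : Sylow p G)
    (hPQ : P ≠ Q) : ∃ P₀ Q₀ : Sylow p G, P₀ ≠ Q₀ ∧
      (∀ P' Q' : Sylow p G, P' ≠ Q' → Nat.card ↥((P' : Subgroup G) ⊓ (Q' : Subgroup G)) ≤
        Nat.card ↥((P₀ : Subgroup G) ⊓ (Q₀ : Subgroup G))) := by
  have : Finite {x : Sylow p G × Sylow p G // x.1 ≠ x.2} := Subtype.finite
  have : Nonempty {x : Sylow p G × Sylow p G // x.1 ≠ x.2} := ⟨⟨(P, Q), hPQ⟩⟩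
  obtain ⟨x, hx⟩ := Finite.exists_max (fun x : {x : Sylow p G × Sylow p G // x.1 ≠ x.2} =>
    Nat.card ↥((x.1.1 : Subgroup G) ⊓ (x.1.2 : Subgroup G)))
  exact ⟨x.1.1, x.1.2, x.2, fun P' Q' h => hx ⟨(P', Q'), h⟩⟩

theorem not_simple_4928 {G : Type*} [Group G] [Finite G] [IsSimpleGroup G]
    (h : Nat.card G = 4928) : False := by
  classical
  have hG : ¬ IsMulCommutative G := Embed.not_comm_of_card_not_prime (by rw [h]; norm_num)
  have f2 : Fact (Nat.Prime 2) := ⟨by norm_num⟩
  have f11 : Fact (Nat.Prime 11) := ⟨by norm_num⟩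
  -- `p = 11`
  have k11 : ∀ P : Sylow 11 G, Nat.card P = 11 ∧ Nat.card (normalizer (P : Set G)) = 88 ∧
      ∃ K, IsLocal 11 P 2 K ∧ Nat.card K = 4 := by
    intro P
    have hP : Nat.card P = 11 := card_of_not_sq_dvd (by rw [h]; norm_num) (by rw [h]; norm_num) P
    have hn1 := SylowPrimeInvol.card_sylow_dvd_of_card_eq P (k := 1) (m := 448)
      (by rw [h]; norm_num) (by norm_num)
    have hn2 := card_sylow_modEq_one 11 G
    obtain ⟨e, K, hL⟩ := exists_local hG (p := 11) (by rw [h]; norm_num) (by rw [h]; norm_num) P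
    have hc : ∀ n ∈ Nat.divisors 448, n % 11 = 1 → n = 1 ∨ n = 56 := by decide +kernel
    have hcard := hL.card_eq
    rw [h] at hcard
    have he := hL.dvd_pred
    have he1 := hL.one_lt
    have he10 : e ≤ 10 := Nat.le_of_dvd (by norm_num) he
    have he2 : e = 2 ∨ e = 5 ∨ e = 10 := by interval_cases e <;> simp_all
    rcases hc _ (Nat.mem_divisors.2 ⟨hn1, by norm_num⟩) hn2 with h1 | h1
    · have := Embed.five_le_card_sylow hG (p := 11) (by rw [h]; norm_num)
      omega
    · rw [h1] at hcard
      have h2 : e = 2 ∧ Nat.card K = 4 := by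
        rcases he2 with h2 | h2 | h2 <;> rw [h2] at hcard <;> omega
      obtain ⟨h2, h3⟩ := h2
      subst h2
      refine ⟨hP, ?_, K, hL, h3⟩
      rw [hL.card_normalizer, h3]
  -- no proper subgroup of index `7, 11, 14, 22`
  have i22 : ∀ H : Subgroup G, H.index ≠ 22 := by
    intro H hH
    obtain ⟨hP, _, K, hK, hK4⟩ := k11 default
    have hHtop : H ≠ ⊤ := by
      rintro rfl
      rw [Subgroup.index_top] at hH; omega
    have hHc : Nat.card H = 224 := by
      have := H.card_mul_index
      rw [hH, h] at this; omega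
    have := hK.dvd_of_index hG (by norm_num) hP H hHtop (by rw [hHc]; norm_num)
      (m := 22) (o := 2) hH (by norm_num)
    rw [hK4] at this
    simp [Nat.factorial] at this
  have i11 : ∀ H : Subgroup G, H.index ≠ 11 := by
    intro H hH
    obtain ⟨hP, _, K, hK, hK4⟩ := k11 default
    have hHtop : H ≠ ⊤ := by
      rintro rfl
      rw [Subgroup.index_top] at hH; omega
    have := hK.dvd_of_index_succ hG (by norm_num) hP H hHtop (Or.inl hH)
    rw [hK4] at this
    norm_num at this
  have i7 : ∀ H : Subgroup G, H.index ≠ 7 := by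
    intro H hH
    have hHtop : H ≠ ⊤ := by
      rintro rfl
      rw [Subgroup.index_top] at hH; omega
    have := Embed.two_mul_card_dvd_factorial_index hG H hHtop
    rw [hH, h] at this
    have h7 : Nat.factorial 7 = 5040 := rfl
    rw [h7] at this
    norm_num at this
  have i14 : ∀ H : Subgroup G, H.index ≠ 14 := by
    intro H hH
    have hHc : Nat.card H = 352 := by
      have := H.card_mul_index
      rw [hH, h] at this; omega
    obtain ⟨z, hz⟩ := exists_prime_orderOf_dvd_card' (G := H) 11 (by rw [hHc]; norm_num)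
    have hz' : orderOf (z : G) = 11 := by rw [orderOf_coe, hz]
    obtain ⟨P, hP⟩ := PrimeOrderData.exists_sylow_eq (p := 11) (m := 448) (by rw [h]) (by norm_num)
      (z : G) hz'
    have hPH : (P : Subgroup G) ≤ H := by
      rw [hP, zpowers_le]; exact z.2
    have h3 := RelSylow.relIndex_modEq_one P H hPH
    have h4 := RelSylow.relIndex_mul_card_inf (normalizer ((P : Subgroup G) : Set G)) H
    have h5 : (P : Subgroup G) ≤ (H ⊓ normalizer ((P : Subgroup G) : Set G) : Subgroup G) :=
      le_inf hPH le_normalizer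
    have h6 := Subgroup.card_dvd_of_le h5
    have h7 : Nat.card (P : Subgroup G) = 11 := (k11 P).1
    rw [h7] at h6
    obtain ⟨y, hy⟩ := h6
    rw [hy, hHc] at h4
    have h8 : (normalizer ((P : Subgroup G) : Set G)).relIndex H ∣ 32 := ⟨y, by
      have : (normalizer ((P : Subgroup G) : Set G)).relIndex H * (11 * y) =
        11 * ((normalizer ((P : Subgroup G) : Set G)).relIndex H * y) := by ring
      omega⟩
    have h9 : ∀ n ∈ Nat.divisors 32, n % 11 = 1 → n = 1 := by decide +kernel
    have h10 := h9 _ (Nat.mem_divisors.2 ⟨h8, by norm_num⟩) h3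
    have h11 := Subgroup.card_dvd_of_le (relIndex_eq_one.1 h10)
    have h12 : Nat.card (normalizer (P : Set G)) = 88 := (k11 P).2.1
    rw [hHc] at h11
    have h13 : (352 : ℕ) ∣ 88 := h12 ▸ h11
    norm_num at h13
  -- Sylow 2-subgroups
  have hS : ∀ P : Sylow 2 G, Nat.card P = 2 ^ 6 := fun P =>
    SylowPrimeInvol.card_sylow_of_card_eq P (k := 6) (m := 77) (by rw [h]; norm_num) (by norm_num)
  have hmod : ¬ Nat.card (Sylow 2 G) ≡ 1 [MOD 2 ^ 3] := by
    intro hmod
    have hn1 := SylowPrimeInvol.card_sylow_dvd_of_card_eq (default : Sylow 2 G) (k := 6) (m := 77)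
      (by rw [h]; norm_num) (by norm_num)
    have hc : ∀ n ∈ Nat.divisors 77, n % 8 = 1 → n = 1 := by decide +kernel
    have h1 := hc _ (Nat.mem_divisors.2 ⟨hn1, by norm_num⟩) hmod
    have := Embed.five_le_card_sylow hG (p := 2) (by rw [h]; norm_num)
    omega
  obtain ⟨Q₁, hQ₁, hdvd⟩ := SylowInter.exists_ne_pow_dvd_card_inf 2 3 6 hmod (default : Sylow 2 G)
    (hS _)
  obtain ⟨P, Q, hPQ, hmax⟩ := exists_max (default : Sylow 2 G) Q₁ hQ₁
  have hge : 16 ≤ Nat.card ↥((P : Subgroup G) ⊓ (Q : Subgroup G)) := by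
    refine le_trans ?_ (hmax _ _ hQ₁)
    exact Nat.le_of_dvd Nat.card_pos (by simpa using hdvd)
  have hmain := (SylowMaxInter.main P Q hPQ hmax).1
  have hlt := SylowMaxInter.card_lt_card_inf_normalizer P Q hPQ
  set D : Subgroup G := (P : Subgroup G) ⊓ (Q : Subgroup G) with hD
  set N : Subgroup G := normalizer (D : Set G) with hN
  -- `32 ∣ |N|`
  have h32 : 32 ∣ Nat.card N := by
    have h1 : Nat.card ((P : Subgroup G) ⊓ N : Subgroup G) ∣ 2 ^ 6 := by
      rw [← hS P]
      exact Subgroup.card_dvd_of_le inf_le_left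
    obtain ⟨j, hj, hj'⟩ := (Nat.dvd_prime_pow Nat.prime_two).1 h1
    have h2 : 5 ≤ j := by
      by_contra hcon
      have h3 : 2 ^ j ≤ 2 ^ 4 := Nat.pow_le_pow_right (by norm_num) (by omega)
      rw [← hj'] at h3
      have : (2 : ℕ) ^ 4 = 16 := by norm_num
      omega
    have h3 : 2 ^ 5 ∣ Nat.card ((P : Subgroup G) ⊓ N : Subgroup G) := by
      rw [hj']; exact Nat.pow_dvd_pow 2 h2
    exact (by simpa using h3 : 32 ∣ Nat.card ((P : Subgroup G) ⊓ N : Subgroup G)).trans
      (Subgroup.card_dvd_of_le inf_le_right)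
  have hNtop : N ≠ ⊤ := by
    intro htop
    have hn : D.Normal := normalizer_eq_top_iff.1 htop
    rcases hn.eq_bot_or_eq_top with h1 | h1
    · rw [h1, Subgroup.card_bot] at hge
      omega
    · have hPtop : (P : Subgroup G) = ⊤ := top_le_iff.1 (h1 ▸ inf_le_left)
      have h2 : Nat.card (P : Subgroup G) = 2 ^ 6 := hS P
      rw [hPtop, Subgroup.card_top, h] at h2
      norm_num at h2
  have h5 := Embed.five_le_index hG N hNtop
  have hmul := N.card_mul_index
  obtain ⟨t, ht⟩ := h32
  rw [h, ht] at hmul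
  have ht' : N.index ∣ 154 := ⟨t, by
    have : 32 * t * N.index = 32 * (N.index * t) := by ring
    omega⟩
  have hc : ∀ n ∈ Nat.divisors 154, 5 ≤ n → n = 7 ∨ n = 11 ∨ n = 14 ∨ n = 22 ∨ n = 77 ∨ n = 154 := by
    decide +kernel
  have h2grp : ∀ k, Nat.card N = 2 ^ k → False := by
    intro k hk
    have h1 : IsPGroup 2 N := IsPGroup.of_card hk
    have h2 : Subsingleton (Sylow 2 N) := by
      refine ⟨fun S T => ?_⟩
      have h3 : ∀ S : Sylow 2 N, (S : Subgroup N) = ⊤ := by
        intro S
        symm
        exact S.3 (h1.to_subgroup ⊤) le_top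
      exact Sylow.ext ((h3 S).trans (h3 T).symm)
    have h3 : Nat.card (Sylow 2 N) ≤ 1 := Finite.card_le_one_iff_subsingleton.2 h2
    have h4 : 1 < Nat.card (Sylow 2 N) := hmain
    omega
  rcases hc _ (Nat.mem_divisors.2 ⟨ht', by norm_num⟩) h5 with h6 | h6 | h6 | h6 | h6 | h6
  · exact i7 _ h6
  · exact i11 _ h6
  · exact i14 _ h6
  · exact i22 _ h6
  · rw [h6] at hmul
    exact h2grp 6 (by rw [ht]; omega)
  · rw [h6] at hmul
    exact h2grp 5 (by rw [ht]; omega)

end Cfsg.Agent.SmallSimple.Order4928
end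

-- part: SmallSimple/Order4960
section
set_option autoImplicit false

namespace Cfsg.Agent.SmallSimple.Order4960

open Subgroup Cfsg.Agent.SmallSimple.SylowCount

theorem dvd_aux (n : ℕ) (h : n ∣ 155) : n = 1 ∨ n = 5 ∨ n = 31 ∨ n = 155 := by
  have key : ∀ n ∈ Nat.divisors 155, n = 1 ∨ n = 5 ∨ n = 31 ∨ n = 155 := by decide +kernel
  exact key n (Nat.mem_divisors.2 ⟨h, by norm_num⟩)

/-- There is no simple group of order 4960 = 2^5 * 5 * 31. -/
theorem not_simple_4960 {G : Type*} [Group G] [Finite G] [IsSimpleGroup G]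
    (h : Nat.card G = 4960) : False := by
  have hp : Fact (Nat.Prime 2) := ⟨Nat.prime_two⟩
  have hG' : Nat.card G = 155 * 2 ^ 5 := by rw [h]; norm_num
  have hnp : ¬ (Nat.card G).Prime := by rw [h]; norm_num
  have hdvd : 2 ∣ Nat.card G := by rw [h]; norm_num
  have hne : Nat.card G ≠ 2 := by rw [h]; norm_num
  -- a subgroup of index 31 gives a contradiction
  have h31 : ∀ H : Subgroup G, H.index ≠ 31 := by
    intro H hH
    have h1 := PrimeIndex.mul_pred_dvd_card hnp H (by rw [hH]; norm_num)
    rw [hH, h] at h1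
    revert h1
    decide
  have h5 : ∀ H : Subgroup G, H ≠ ⊤ → H.index ≠ 5 := by
    intro H hH hH5
    have h1 := card_dvd_factorial_index H hH
    rw [hH5, h] at h1
    revert h1
    decide
  have hn := Cfsg.Agent.SmallSimple.PSqQR.card_sylow_dvd_of_card_eq hG' (by norm_num)
  have hn1 := card_sylow_ne_one hdvd hne
  obtain ⟨R⟩ : Nonempty (Sylow 2 G) := inferInstance
  rcases dvd_aux _ hn with h1 | h1 | h1 | h1
  · exact hn1 h1
  · have h2 := R.card_eq_index_normalizer
    rw [h1] at h2
    refine h5 _ ?_ h2.symm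
    intro h3
    rw [h3, index_top] at h2
    omega
  · have h2 := R.card_eq_index_normalizer
    rw [h1] at h2
    exact h31 _ h2.symm
  · have hmod : ¬ Nat.card (Sylow 2 G) ≡ 1 [MOD 2 ^ 2] := by
      rw [h1]; decide
    obtain ⟨P, Q, -, -, -, hNtop, -, m, hm1, -, hm2⟩ :=
      PrimeIndex.exists_subgroup_of_not_modEq (by rw [h]; norm_num) hmod
    rw [Cfsg.Agent.SmallSimple.PSqQR.index_sylow_of_card_eq hG' (by norm_num) P] at hm2
    set N := normalizer ((P ⊓ Q : Subgroup G) : Set G) with hN
    rcases dvd_aux _ (dvd_trans (Dvd.intro_left _ rfl) hm2) with h2 | h2 | h2 | h2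
    · exact hNtop (index_eq_one.1 h2)
    · exact h5 _ hNtop h2
    · exact h31 _ h2
    · rw [h2] at hm2
      have := Nat.le_of_dvd (by norm_num) hm2
      omega

end Cfsg.Agent.SmallSimple.Order4960
end

-- part: SmallSimple/Order5148
section
set_option autoImplicit false

namespace Cfsg.Agent.SmallSimple.Order5148

open Subgroup Cfsg.Agent.SmallSimple.PrimeLocal

theorem exists_mem_of_dvd_lcm {p : ℕ} (hp : p.Prime) (s : Multiset ℕ) (h : p ∣ s.lcm) : ∃ n ∈ s, p ∣ n := by
  induction s using Multiset.induction_on with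
  | empty =>
    rw [Multiset.lcm_zero] at h
    exact absurd (Nat.dvd_one.1 h) hp.ne_one
  | cons a s ih =>
    rw [Multiset.lcm_cons] at h
    have h1 : p ∣ a * s.lcm := h.trans (Nat.lcm_dvd_mul a s.lcm)
    rcases hp.dvd_mul.1 h1 with h2 | h2
    · exact ⟨a, Multiset.mem_cons_self a s, h2⟩
    · obtain ⟨n, hn, hpn⟩ := ih h2
      exact ⟨n, Multiset.mem_cons_of_mem hn, hpn⟩

/-- A permutation whose order is divisible by two distinct primes `p` and `q` moves at least
`min (p + q) (p q)` points. -/
theorem le_card_of_dvd_orderOf {α : Type*} [Fintype α] [DecidableEq α] (σ : Equiv.Perm α) {p q : ℕ}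
    (hp : p.Prime) (hq : q.Prime) (hpq : p ≠ q) (h1 : p ∣ orderOf σ) (h2 : q ∣ orderOf σ) :
    p + q ≤ Fintype.card α ∨ p * q ≤ Fintype.card α := by
  rw [← Equiv.Perm.lcm_cycleType] at h1 h2
  obtain ⟨n, hn, hpn⟩ := exists_mem_of_dvd_lcm hp _ h1
  obtain ⟨m, hm, hqm⟩ := exists_mem_of_dvd_lcm hq _ h2
  have hsum : σ.cycleType.sum ≤ Fintype.card α := by
    rw [Equiv.Perm.sum_cycleType]
    exact Finset.card_le_univ _
  have hn2 := Equiv.Perm.two_le_of_mem_cycleType hn
  have hm2 := Equiv.Perm.two_le_of_mem_cycleType hm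
  by_cases hnm : n = m
  · subst hnm
    right
    have h3 : p * q ∣ n := Nat.Coprime.mul_dvd_of_dvd_of_dvd ((Nat.coprime_primes hp hq).2 hpq) hpn hqm
    exact (Nat.le_of_dvd (by omega) h3).trans ((Multiset.single_le_sum (fun _ _ => Nat.zero_le _) n hn).trans hsum)
  · left
    have h3 : p ≤ n := Nat.le_of_dvd (by omega) hpn
    have h4 : q ≤ m := Nat.le_of_dvd (by omega) hqm
    obtain ⟨t, ht⟩ := Multiset.exists_cons_of_mem hn
    rw [ht] at hm hsum
    have h5 : m ∈ t := (Multiset.mem_cons.1 hm).resolve_left (fun h => hnm h.symm)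
    rw [Multiset.sum_cons] at hsum
    have h6 := Multiset.single_le_sum (fun _ _ => Nat.zero_le _) m h5
    omega

/-- There is no simple group of order 5148. -/
theorem not_simple_5148 {G : Type*} [Group G] [Finite G] [IsSimpleGroup G] (h : Nat.card G = 5148) : False := by
  classical
  have hG : ¬ IsMulCommutative G := Embed.not_comm_of_card_not_prime (by rw [h]; norm_num)
  have hp : Fact (Nat.Prime 11) := ⟨by norm_num⟩
  have hm : Nat.card G = 468 * 11 ^ 1 := by rw [h]; norm_num
  have hm3 : Nat.card G = 572 * 3 ^ 2 := by rw [h]; norm_num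
  let P : Sylow 11 G := default
  have hP : Nat.card P = 11 := card_of_not_sq_dvd (by rw [h]; norm_num) (by rw [h]; norm_num) P
  obtain ⟨e, K, hL⟩ := exists_local hG (p := 11) (by rw [h]; norm_num) (by rw [h]; norm_num) P
  have hcard := hL.card_eq
  have hn : Nat.card (Sylow 11 G) = 12 ∨ Nat.card (Sylow 11 G) = 78 := by
    have h1 : Nat.card (Sylow 11 G) ∣ 468 := PSqQR.card_sylow_dvd_of_card_eq hm (by norm_num)
    have h2 := card_sylow_modEq_one 11 G
    have h3 := Embed.five_le_card_sylow hG (p := 11) (by rw [h]; norm_num)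
    have h5 : ∀ n ∈ Nat.divisors 468, n % 11 = 1 → 5 ≤ n → n = 12 ∨ n = 78 := by decide +kernel
    exact h5 _ (Nat.mem_divisors.2 ⟨h1, by norm_num⟩) h2 h3
  have hek : Nat.card K = 3 := by
    rcases hn with hn | hn
    · exfalso
      have h1 := hL.dvd_of_card_sylow_succ hG (by norm_num) hP hn
      rw [hn, h] at hcard
      have h2 : e * Nat.card K = 39 := by
        have : 12 * (11 * e * Nat.card K) = 132 * (e * Nat.card K) := by ring
        omega
      rw [h2] at h1
      exact absurd h1 (by norm_num)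
    · rw [hn, h] at hcard
      have h2 : e * Nat.card K = 6 := by
        have : 78 * (11 * e * Nat.card K) = 858 * (e * Nat.card K) := by ring
        omega
      have h3 := hL.one_lt
      have h4 : e ∣ 10 := hL.dvd_pred
      have h5 : e ∣ 6 := Dvd.intro _ h2
      have h6 : e ∣ 2 := by
        have := Nat.dvd_gcd h4 h5
        norm_num at this
        exact this
      have h7 : e = 2 := by
        have := Nat.le_of_dvd (by norm_num) h6
        omega
      rw [h7] at h2
      omega
  have hp3 : Fact (Nat.Prime 3) := ⟨by norm_num⟩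
  -- the centralizer of K
  set H : Subgroup G := centralizer (K : Set G) with hH
  have hPH : (P : Subgroup G) ≤ H := by
    intro y hy
    rw [hH, mem_centralizer_iff]
    intro x hx
    exact hL.comm x hx y hy
  have hKH : K ≤ H := by
    intro y hy
    rw [hH, mem_centralizer_iff]
    intro x hx
    exact comm_of_card_prime (by norm_num) K hek x hx y hy
  have h11 : 11 ∣ Nat.card H := by
    have := Subgroup.card_dvd_of_le hPH
    rwa [show Nat.card (P : Subgroup G) = 11 from hP] at this
  have h9 : 9 ∣ Nat.card H := by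
    have hKp : IsPGroup 3 K := IsPGroup.of_card (n := 1) (by rw [hek]; norm_num)
    obtain ⟨S, hS⟩ := hKp.exists_le_sylow
    have hSc : Nat.card S = 3 ^ 2 := PSqQR.card_sylow_of_card_eq hm3 (by norm_num) S
    have hScomm : IsMulCommutative S := IsPGroup.isMulCommutative_of_card_eq_prime_sq hSc
    have hSH : (S : Subgroup G) ≤ H := by
      intro y hy
      rw [hH, mem_centralizer_iff]
      intro x hx
      exact congrArg Subtype.val (hScomm.is_comm.comm (⟨x, hS hx⟩ : S) ⟨y, hy⟩)
    have := Subgroup.card_dvd_of_le hSH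
    rwa [show Nat.card (S : Subgroup G) = 9 from hSc] at this
  -- Sylow normalizer in H
  have hNdvd : Nat.card (normalizer ((P : Subgroup G) : Set G) ⊓ H : Subgroup G) ∣ 66 := by
    have h1 := Subgroup.card_dvd_of_le (inf_le_left : normalizer ((P : Subgroup G) : Set G) ⊓ H ≤ _)
    have h2 := hL.card_normalizer
    have h3 : Nat.card (normalizer ((P : Subgroup G) : Set G)) = 11 * e * Nat.card K := h2
    rw [h3] at h1
    have he2 : e = 2 := by
      have h4 : e ∣ 10 := hL.dvd_pred
      have h5 := hL.one_lt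
      rw [hek, h] at hcard
      rcases hn with hn | hn
      · rw [hn] at hcard
        have : e = 13 := by omega
        rw [this] at h4
        exact absurd h4 (by norm_num)
      · rw [hn] at hcard
        omega
    rw [he2, hek] at h1
    exact h1
  have hN33 : 33 ∣ Nat.card (normalizer ((P : Subgroup G) : Set G) ⊓ H : Subgroup G) := by
    have h1 : (P : Subgroup G) ≤ normalizer ((P : Subgroup G) : Set G) ⊓ H :=
      le_inf Subgroup.le_normalizer hPH
    have h2 : K ≤ normalizer ((P : Subgroup G) : Set G) ⊓ H :=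
      le_inf (hL.le_centralizer.trans (Subgroup.centralizer_le_normalizer _)) hKH
    have h3 := Subgroup.card_dvd_of_le h1
    have h4 := Subgroup.card_dvd_of_le h2
    rw [show Nat.card (P : Subgroup G) = 11 from hP] at h3
    rw [hek] at h4
    exact (by norm_num : Nat.Coprime 11 3).mul_dvd_of_dvd_of_dvd h3 h4
  have hr := card_sylow_modEq_one 11 H
  have hrN : Nat.card (Sylow 11 H) * Nat.card (normalizer ((P : Subgroup G) : Set G) ⊓ H : Subgroup G) = Nat.card H := by
    rw [(P.subtype hPH).card_eq_index_normalizer]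
    have h5 : normalizer (((P.subtype hPH : Sylow 11 H) : Subgroup H) : Set H) =
        (normalizer ((P : Subgroup G) : Set G)).subgroupOf H := by
      rw [subgroupOf_normalizer_eq hPH]; rfl
    rw [← Subgroup.subgroupOf_map_subtype, ← h5]
    have h6 := Subgroup.card_mul_index (normalizer (((P.subtype hPH : Sylow 11 H) : Subgroup H) : Set H))
    have h8 := Nat.card_congr ((normalizer (((P.subtype hPH : Sylow 11 H) : Subgroup H) : Set H)).equivMapOfInjective
      H.subtype H.subtype_injective).toEquiv
    rw [← h8, mul_comm]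
    exact h6
  have hHdvd : Nat.card H ∣ 5148 := by rw [← h]; exact H.card_subgroup_dvd_card
  have hHcard : Nat.card H = 396 ∨ Nat.card H = 2574 ∨ Nat.card H = 5148 := by
    have key : ∀ n ∈ Nat.divisors 5148, 9 ∣ n → ∀ y ∈ Nat.divisors 66, 33 ∣ y → y ∣ n → (n / y) % 11 = 1 →
      n = 396 ∨ n = 2574 ∨ n = 5148 := by decide +kernel
    refine key _ (Nat.mem_divisors.2 ⟨hHdvd, by norm_num⟩) h9 _ (Nat.mem_divisors.2 ⟨hNdvd, by norm_num⟩) hN33 ?_ ?_
    · exact Dvd.intro_left _ hrN
    · rw [← hrN, Nat.mul_div_cancel _ Nat.card_pos]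
      exact hr
  have hKbot : K ≠ ⊥ := by
    intro h1
    rw [h1, Subgroup.card_bot] at hek
    omega
  have hHtop : H ≠ ⊤ := by
    intro htop
    have hKn : K.Normal := by
      refine ⟨fun x hx g => ?_⟩
      have h1 : g ∈ H := htop ▸ Subgroup.mem_top g
      rw [hH, mem_centralizer_iff] at h1
      rw [← h1 x hx, mul_inv_cancel_right]
      exact hx
    rcases IsSimpleGroup.eq_bot_or_eq_top_of_normal K hKn with h1 | h1
    · exact hKbot h1
    · rw [h1, Subgroup.card_top, h] at hek
      omega
  have hidx5 := Embed.five_le_index hG H hHtop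
  have hHidx := H.card_mul_index
  have h13 : H.index = 13 := by
    rw [h] at hHidx
    rcases hHcard with h1 | h1 | h1 <;> rw [h1] at hHidx <;> omega
  -- an element of order 33 acting on 13 points
  obtain ⟨x, hx⟩ : ∃ x : G, x ∈ (P : Subgroup G) ∧ orderOf x = 11 := by
    obtain ⟨x, hx⟩ := exists_prime_orderOf_dvd_card' (G := P) 11 (by rw [hP])
    exact ⟨x, x.2, by rw [Subgroup.orderOf_coe, hx]⟩
  obtain ⟨d, hd⟩ : ∃ x : G, x ∈ K ∧ orderOf x = 3 := by
    obtain ⟨x, hx⟩ := exists_prime_orderOf_dvd_card' (G := K) 3 (by rw [hek])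
    exact ⟨x, x.2, by rw [Subgroup.orderOf_coe, hx]⟩
  have hcomm : Commute d x := hL.comm d hd.1 x hx.1
  have hord : orderOf (d * x) = 33 := by
    rw [hcomm.orderOf_mul_eq_mul_orderOf_of_coprime (by rw [hx.2, hd.2]; norm_num), hx.2, hd.2]
  have : Fintype (G ⧸ H) := Fintype.ofFinite _
  have hinj : Function.Injective (MulAction.toPermHom G (G ⧸ H)) := by
    rw [injective_iff_map_eq_one]
    intro g hg
    apply faithful_quotient H hHtop g
    intro ω
    have := congrArg (fun σ : Equiv.Perm (G ⧸ H) => σ ω) hg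
    exact this
  have hord' : orderOf (MulAction.toPermHom G (G ⧸ H) (d * x)) = 33 := by
    rw [orderOf_injective _ hinj, hord]
  have hc := le_card_of_dvd_orderOf (MulAction.toPermHom G (G ⧸ H) (d * x)) (p := 11) (q := 3)
    (by norm_num) (by norm_num) (by norm_num) (by rw [hord']; norm_num) (by rw [hord']; norm_num)
  have hcc : Fintype.card (G ⧸ H) = 13 := by
    rw [← Nat.card_eq_fintype_card, ← h13]; rfl
  rw [hcc] at hc
  omega

end Cfsg.Agent.SmallSimple.Order5148
end

-- part: SmallSimple/Order5400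
section
set_option autoImplicit false

namespace Cfsg.Agent.SmallSimple.Order5400

open Subgroup Cfsg.Agent.SmallSimple.FiveSq MulAction

/-- There is no simple group of order 5400. -/
theorem not_simple_5400 {G : Type*} [Group G] [Finite G] [IsSimpleGroup G] (h : Nat.card G = 5400) : False := by
  classical
  have hG : ¬ IsMulCommutative G := Embed.not_comm_of_card_not_prime (by rw [h]; norm_num)
  have hm : Nat.card G = 216 * 5 ^ 2 := by rw [h]; norm_num
  have hcard : ∀ Q : Sylow 5 G, Nat.card Q = 5 ^ 2 := fun Q => PSqQR.card_sylow_of_card_eq hm (by norm_num) Q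
  have hcomm : ∀ Q : Sylow 5 G, IsMulCommutative Q := fun Q =>
    IsPGroup.isMulCommutative_of_card_eq_prime_sq (hcard Q)
  have hidxP : ∀ Q : Sylow 5 G, Nat.card (Sylow 5 G) = (normalizer ((Q : Subgroup G) : Set G)).index :=
    fun Q => Q.card_eq_index_normalizer
  -- number of Sylow 5-subgroups
  have hn : Nat.card (Sylow 5 G) = 36 := by
    have h1 : Nat.card (Sylow 5 G) ∣ 216 := PSqQR.card_sylow_dvd_of_card_eq hm (by norm_num)
    have h2 := card_sylow_modEq_one 5 G
    have h3 := Embed.five_le_card_sylow hG (p := 5) (by rw [h]; norm_num)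
    have h4 := Embed.two_mul_card_dvd_factorial_card_sylow hG (p := 5) (by rw [h]; norm_num)
    have h5 : ∀ n ∈ Nat.divisors 216, n % 5 = 1 → 5 ≤ n → n = 6 ∨ n = 36 ∨ n = 216 := by decide
    rcases h5 _ (Nat.mem_divisors.2 ⟨h1, by norm_num⟩) h2 h3 with h6 | h6 | h6
    · exfalso
      rw [h6, h] at h4
      have : Nat.factorial 6 = 720 := rfl
      rw [this] at h4
      omega
    · exact h6
    · exfalso
      let P : Sylow 5 G := default
      have h7 := hidxP P
      rw [h6] at h7
      have h8 := (normalizer ((P : Subgroup G) : Set G)).card_mul_index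
      rw [← h7, h] at h8
      have h9 : normalizer ((P : Subgroup G) : Set G) = P := by
        symm
        apply Subgroup.eq_of_le_of_card_ge le_normalizer
        rw [hcard P]; omega
      have hPne : ∃ z ∈ P, z ≠ 1 := by
        by_contra hcon
        push Not at hcon
        have h10 : (P : Subgroup G) = ⊥ := (Subgroup.eq_bot_iff_forall _).2 hcon
        have h11 := hcard P
        rw [h10, Subgroup.card_bot] at h11
        omega
      obtain ⟨z, hz, hz1⟩ := hPne
      apply hz1
      have := hcomm P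
      apply eq_one_of_normalizer_le hG P hz
      intro n hn'
      rw [h9] at hn'
      exact congrArg Subtype.val ((hcomm P).is_comm.comm ⟨n, hn'⟩ ⟨z, hz⟩)
  obtain ⟨R, hPR, hD5, hPC, hRC, hC⟩ := exists_config hG (by rw [h]; norm_num) hm (by norm_num)
    (by decide) (by rw [hn]; decide) (default : Sylow 5 G)
  set P : Sylow 5 G := default with hP
  set D : Subgroup G := (P : Subgroup G) ⊓ R with hD
  set C : Subgroup G := centralizer (D : Set G) with hCdef
  have hCi : C.index = 18 := by
    have := C.card_mul_index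
    rw [hC, h] at this; omega
  -- `C` is maximal
  have hCmax : IsCoatom C := by
    refine ⟨?_, fun K hK => ?_⟩
    · intro htop
      rw [htop, Subgroup.index_top] at hCi
      omega
    · by_contra hKt
      have h15 := IndexJordan.three_mul_le_index hG (by rw [h]; norm_num) 5 (le_refl 5) (by rw [h]; norm_num) _ hKt
      have h1 := Subgroup.index_dvd_of_le hK.le
      rw [hCi] at h1
      have h2 : ∀ n ∈ Nat.divisors 18, 3 * 5 ≤ n → n = 18 := by decide
      have h3 := h2 _ (Nat.mem_divisors.2 ⟨h1, by norm_num⟩) h15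
      apply hK.ne
      apply Subgroup.eq_of_le_of_card_ge hK.le
      have h4 := K.card_mul_index
      rw [h3, h] at h4
      rw [hC]; omega
  have hCnotnormal : ¬ C.Normal := by
    intro hn'
    rcases IsSimpleGroup.eq_bot_or_eq_top_of_normal C hn' with h1 | h1
    · rw [h1, Subgroup.card_bot] at hC; omega
    · exact hCmax.1 h1
  have hCN : normalizer (C : Set G) = C := by
    by_contra hne
    have h1 : C < normalizer (C : Set G) := lt_of_le_of_ne le_normalizer (Ne.symm hne)
    exact hCnotnormal (normalizer_eq_top_iff.1 (hCmax.2 _ h1))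
  let X := G ⧸ C
  have hX : Nat.card X = 18 := hCi
  have : Fintype X := Fintype.ofFinite X
  have hXf : Fintype.card X = 18 := by rw [← hX, Nat.card_eq_fintype_card]
  let x0 : X := ((1 : G) : G ⧸ C)
  -- a point fixed by all of `C` is the base point
  have hfixC : ∀ x : X, (∀ c ∈ C, c • x = x) → x = x0 := by
    intro x
    induction x using QuotientGroup.induction_on with
    | H g =>
      intro hg
      have h1 : ∀ c ∈ C, g⁻¹ * c * g ∈ C := by
        intro c hc
        have h2 := hg c hc
        have h3 : ((c * g : G) : G ⧸ C) = (g : G ⧸ C) := h2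
        rw [QuotientGroup.eq] at h3
        have h4 := inv_mem h3
        have h5 : ((c * g)⁻¹ * g)⁻¹ = g⁻¹ * c * g := by group
        rwa [h5] at h4
      have h2 : g⁻¹ ∈ normalizer (C : Set G) := by
        apply mem_normalizer_fintype
        intro n hn'
        rw [inv_inv]
        exact h1 n hn'
      rw [hCN] at h2
      exact (QuotientGroup.eq.2 (by simpa using h2 : g⁻¹ * 1 ∈ C))
  -- two distinct Sylow subgroups of `C` have only the base point as common fixed point
  have hfix2 : ∀ Q Q' : Sylow 5 G, Q ≠ Q' → (Q : Subgroup G) ≤ C → (Q' : Subgroup G) ≤ C →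
      ∀ x : X, (∀ q ∈ Q, q • x = x) → (∀ q ∈ Q', q • x = x) → x = x0 := by
    intro Q Q' hQQ hQ hQ' x hx hx'
    apply hfixC
    let I : Subgroup G := C ⊓ stabilizer G x
    have hQI : (Q : Subgroup G) ≤ I := le_inf hQ (fun q hq => hx q hq)
    have hQI' : (Q' : Subgroup G) ≤ I := le_inf hQ' (fun q hq => hx' q hq)
    have h150 := card_ne_150 hQQ hQI hQI'
    have hs1 := card_sylow_ne_one_of_le hQQ hQI hQI'
    obtain ⟨t, ht⟩ : 5 ^ 2 ∣ Nat.card I := by
      rw [← hcard Q]; exact Subgroup.card_dvd_of_le hQI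
    have ht12 : t ∣ 12 := by
      have h1 : Nat.card I ∣ 300 := by rw [← hC]; exact Subgroup.card_dvd_of_le inf_le_left
      rw [ht] at h1
      exact (Nat.mul_dvd_mul_iff_left (by norm_num : 0 < 5 ^ 2)).1 h1
    have ht5 : ¬ 5 ∣ t := fun h5 => absurd (h5.trans ht12) (by norm_num)
    have ht0 : t ≠ 0 := by rintro rfl; exact ht5 (dvd_zero 5)
    have hs2 : Nat.card (Sylow 5 I) ∣ t :=
      PSqQR.card_sylow_dvd_of_card_eq (k := 2) (by rw [ht, mul_comm]) ht5
    have hs3 := card_sylow_modEq_one 5 I
    have h6 : ∀ t ∈ Nat.divisors 12, (∃ s ∈ Nat.divisors t, s % 5 = 1 ∧ s ≠ 1) → t = 6 ∨ t = 12 := by decide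
    have hI : Nat.card I = 300 := by
      rcases h6 t (Nat.mem_divisors.2 ⟨ht12, by norm_num⟩) ⟨_, Nat.mem_divisors.2 ⟨hs2, ht0⟩, hs3, hs1⟩ with h7 | h7
      · exfalso
        apply h150
        rw [ht, h7]; norm_num
      · rw [ht, h7]; norm_num
    have hIC : I = C := Subgroup.eq_of_le_of_card_ge inf_le_left (by rw [hC, hI])
    intro c hc
    have : c ∈ I := hIC ▸ hc
    exact (Subgroup.mem_inf.1 this).2
  -- Sylow subgroups of `C`
  have hn6 : Nat.card (Sylow 5 C) = 6 := by
    have h1 : Nat.card (Sylow 5 C) ≠ 1 := card_sylow_ne_one_of_le hPR hPC hRC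
    have h2 : Nat.card (Sylow 5 C) ∣ 12 :=
      PSqQR.card_sylow_dvd_of_card_eq (k := 2) (by rw [hC]; norm_num) (by norm_num)
    have h3 := card_sylow_modEq_one 5 C
    have : ∀ n ∈ Nat.divisors 12, n % 5 = 1 → n ≠ 1 → n = 6 := by decide
    exact this _ (Nat.mem_divisors.2 ⟨h2, by norm_num⟩) h3 h1
  have : Fintype (Sylow 5 C) := Fintype.ofFinite _
  -- lifting Sylow subgroups of `C` to Sylow subgroups of `G`
  have hlift : ∀ Q : Sylow 5 C, ∃ Q' : Sylow 5 G, (Q' : Subgroup G) = (Q : Subgroup C).map C.subtype := by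
    intro Q
    have h1 : Nat.card Q = 5 ^ 2 := PSqQR.card_sylow_of_card_eq (m := 12) (by rw [hC]; norm_num) (by norm_num) Q
    have h2 : Nat.card ((Q : Subgroup C).map C.subtype) = 5 ^ 2 := by
      rw [← h1]
      exact (Nat.card_congr ((Q : Subgroup C).equivMapOfInjective _ C.subtype_injective).toEquiv).symm
    have h3 : (Nat.card G).factorization 5 = 2 := by
      have h4 := P.card_eq_multiplicity
      rw [hcard P] at h4
      exact (Nat.pow_right_injective (by norm_num : 2 ≤ 5) h4).symm
    exact ⟨Sylow.ofCard _ (by rw [h3]; exact h2), rfl⟩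
  choose L hL using hlift
  have hLC : ∀ Q, (L Q : Subgroup G) ≤ C := fun Q => by rw [hL]; exact Subgroup.map_subtype_le _
  have hLinj : Function.Injective L := by
    intro Q Q' hQQ
    have h1 : (Q : Subgroup C).map C.subtype = (Q' : Subgroup C).map C.subtype := by
      rw [← hL, ← hL, hQQ]
    exact Sylow.ext (Subgroup.map_injective C.subtype_injective h1)
  let A : Sylow 5 C → Finset X := fun Q => Finset.univ.filter (fun x => x ≠ x0 ∧ ∀ q ∈ L Q, q • x = x)
  have hA2 : ∀ Q, 2 ≤ (A Q).card := by
    intro Q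
    have h1 := (L Q).isPGroup'.card_modEq_card_fixedPoints X
    rw [hX] at h1
    have h2 : (A Q) = (Finset.univ.filter (fun x : X => ∀ q ∈ L Q, q • x = x)).erase x0 := by
      ext x
      simp [A]
    have h3 : Nat.card (fixedPoints (L Q) X) = (Finset.univ.filter (fun x : X => ∀ q ∈ L Q, q • x = x)).card := by
      rw [← Set.ncard_coe_finset, ← Nat.card_coe_set_eq]
      apply Nat.card_congr
      apply Equiv.setCongr
      ext x
      simp only [mem_fixedPoints, Finset.coe_filter, Finset.mem_univ, true_and, Set.mem_ofPred_eq]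
      exact ⟨fun hx q hq => hx ⟨q, hq⟩, fun hx q => hx q.1 q.2⟩
    have h4 : x0 ∈ Finset.univ.filter (fun x : X => ∀ q ∈ L Q, q • x = x) := by
      rw [Finset.mem_filter]
      refine ⟨Finset.mem_univ _, fun q hq => ?_⟩
      show ((q * 1 : G) : G ⧸ C) = ((1 : G) : G ⧸ C)
      rw [QuotientGroup.eq]
      simpa using hLC Q hq
    rw [h2, Finset.card_erase_of_mem h4, ← h3]
    rw [Nat.ModEq] at h1
    omega
  have hdisj : ∀ Q ∈ (Finset.univ : Finset (Sylow 5 C)), ∀ Q' ∈ (Finset.univ : Finset (Sylow 5 C)), Q ≠ Q' →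
      Disjoint (A Q) (A Q') := by
    intro Q _ Q' _ hQQ
    rw [Finset.disjoint_left]
    intro x hx hx'
    simp only [A, Finset.mem_filter, Finset.mem_univ, true_and] at hx hx'
    exact hx.1 (hfix2 (L Q) (L Q') (fun e => hQQ (hLinj e)) (hLC Q) (hLC Q') x hx.2 hx'.2)
  have hcardA : 12 ≤ ((Finset.univ : Finset (Sylow 5 C)).biUnion A).card := by
    rw [Finset.card_biUnion hdisj]
    calc 12 = ∑ _Q : Sylow 5 C, 2 := by
          rw [Finset.sum_const, Finset.card_univ, ← Nat.card_eq_fintype_card, hn6]; rfl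
      _ ≤ _ := Finset.sum_le_sum (fun Q _ => hA2 Q)
  -- an element of `D`
  have hDne : ∃ d ∈ D, d ≠ 1 := by
    by_contra hcon
    push Not at hcon
    have : D = ⊥ := (Subgroup.eq_bot_iff_forall D).2 hcon
    rw [this, Subgroup.card_bot] at hD5
    omega
  obtain ⟨d, hd, hd1⟩ := hDne
  have hd5 : orderOf d = 5 := by
    have h1 : orderOf d ∣ 5 := by
      have := orderOf_dvd_natCard (⟨d, hd⟩ : D)
      rwa [hD5, Subgroup.orderOf_mk] at this
    rcases (Nat.dvd_prime (by norm_num)).1 h1 with h2 | h2
    · exact absurd (orderOf_eq_one_iff.1 h2) hd1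
    · exact h2
  let f : G →* Equiv.Perm X := toPermHom G X
  have hf : Function.Injective f := IndexJordan.toPermHom_injective hCmax.1
  have hprim : IsPreprimitive G X := IndexJordan.isPreprimitive_quotient hCmax
  have hprim' : IsPreprimitive f.range X := IndexJordan.isPreprimitive_range G X
  -- `D ≤ L Q` for every `Q`, as `D` is central in `C`
  have hDL : ∀ Q : Sylow 5 C, d ∈ L Q := by
    intro Q
    have hDp : IsPGroup 5 D := IsPGroup.of_card (n := 1) (by rw [hD5, pow_one])
    have h1 : D ⊓ normalizer ((L Q : Subgroup G) : Set G) = D ⊓ (L Q : Subgroup G) :=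
      hDp.inf_normalizer_sylow (L Q)
    have h2 : D ≤ normalizer ((L Q : Subgroup G) : Set G) := by
      refine le_trans ?_ (Subgroup.centralizer_le_normalizer _)
      intro x hx
      rw [mem_centralizer_iff]
      intro y hy
      have h3 : y ∈ C := hLC Q hy
      rw [hCdef, mem_centralizer_iff] at h3
      exact (h3 x hx).symm
    have h3 : d ∈ D ⊓ normalizer ((L Q : Subgroup G) : Set G) := Subgroup.mem_inf.2 ⟨hd, h2 hd⟩
    rw [h1] at h3
    exact (Subgroup.mem_inf.1 h3).2
  have hfixd : 13 ≤ (Finset.univ.filter (fun x : X => d • x = x)).card := by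
    have h1 : insert x0 ((Finset.univ : Finset (Sylow 5 C)).biUnion A) ⊆
        Finset.univ.filter (fun x : X => d • x = x) := by
      intro x hx
      rw [Finset.mem_filter]
      refine ⟨Finset.mem_univ _, ?_⟩
      rw [Finset.mem_insert] at hx
      rcases hx with rfl | hx
      · show ((d * 1 : G) : G ⧸ C) = ((1 : G) : G ⧸ C)
        rw [QuotientGroup.eq]
        have hdC : d ∈ C := hPC (Subgroup.mem_inf.1 hd).1
        simpa using hdC
      · rw [Finset.mem_biUnion] at hx
        obtain ⟨Q, _, hx⟩ := hx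
        simp only [A, Finset.mem_filter, Finset.mem_univ, true_and] at hx
        exact hx.2 d (hDL Q)
    have h2 := Finset.card_le_card h1
    rw [Finset.card_insert_of_notMem] at h2
    · omega
    · intro hx
      rw [Finset.mem_biUnion] at hx
      obtain ⟨Q, _, hx⟩ := hx
      simp only [A, Finset.mem_filter, Finset.mem_univ, true_and] at hx
      exact hx.1 rfl
  have hsupp : (f d).support.card ≤ 5 := by
    have h1 : (f d).support = (Finset.univ.filter (fun x : X => d • x = x))ᶜ := by
      ext x
      simp [f]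
    rw [h1, Finset.card_compl, hXf]
    omega
  have hfd5 : orderOf (f d) = 5 := by rw [orderOf_injective f hf, hd5]
  have hcyc : (f d).IsCycle := Equiv.Perm.isCycle_of_prime_order (by rw [hfd5]; norm_num) (by rw [hfd5]; omega)
  have hsupp5 : (f d).support.card = 5 := by rw [← hcyc.orderOf, hfd5]
  have hJ := Cfsg.Agent.S0713.result f.range hprim' (p := 5) (by norm_num) (by rw [hXf]; norm_num)
    (by rw [hXf]; norm_num) hcyc hsupp5 ⟨d, rfl⟩
  have hcardle := Subgroup.card_le_of_le hJ
  have h4 : Nat.card f.range = Nat.card G := (Nat.card_congr (MonoidHom.ofInjective hf).toEquiv).symm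
  rw [h4, h] at hcardle
  have : Nontrivial X := by
    rw [← Fintype.one_lt_card_iff_nontrivial, hXf]; omega
  have h5 : 2 * Nat.card (alternatingGroup X) = Nat.card (Equiv.Perm X) := two_mul_nat_card_alternatingGroup
  rw [Nat.card_perm, hX] at h5
  have h6 : Nat.factorial 8 ≤ Nat.factorial 18 := Nat.factorial_le (by norm_num)
  have h7 : Nat.factorial 8 = 40320 := by decide
  omega

end Cfsg.Agent.SmallSimple.Order5400
end

-- part: SmallSimple/Order5460
section
/-!
# There is no simple group of order 5460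
-/

set_option autoImplicit false
set_option linter.unusedSectionVars false

namespace Cfsg.Agent.SmallSimple.Order5460

open Subgroup Cfsg.Agent.SmallSimple.PrimeLocal

variable {G : Type*} [Group G] [Finite G]

/-- `n_p` divides `m` and is `1` mod `p`. -/
theorem card_sylow_mem {p m : ℕ} [hp : Fact p.Prime] (h : Nat.card G = p * m) (hm : ¬ p ∣ m)
    (P : Sylow p G) :
    Nat.card P = p ∧ Nat.card (Sylow p G) ∣ m ∧ Nat.card (Sylow p G) % p = 1 := by
  have h1 : Nat.card G = m * p ^ 1 := by rw [h, pow_one, mul_comm]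
  refine ⟨?_, ?_, ?_⟩
  · have := SylowPrimeInvol.card_sylow_of_card_eq P (k := 1) (m := m) (by rw [h, pow_one]) hm
    rwa [pow_one] at this
  · exact SylowPrimeInvol.card_sylow_dvd_of_card_eq P (k := 1) (m := m) (by rw [h, pow_one]) hm
  · have := card_sylow_modEq_one p G
    rw [Nat.ModEq, Nat.mod_eq_of_lt hp.out.one_lt] at this
    exact this

theorem not_simple_5460 {G : Type*} [Group G] [Finite G] [IsSimpleGroup G]
    (h : Nat.card G = 5460) : False := by
  classical
  have hG : ¬ IsMulCommutative G := Embed.not_comm_of_card_not_prime (by rw [h]; norm_num)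
  have f2 : Fact (Nat.Prime 2) := ⟨by norm_num⟩
  have f5 : Fact (Nat.Prime 5) := ⟨by norm_num⟩
  have f7 : Fact (Nat.Prime 7) := ⟨by norm_num⟩
  have f13 : Fact (Nat.Prime 13) := ⟨by norm_num⟩
  -- p = 13
  have k13 : ∀ P : Sylow 13 G, Nat.card (Sylow 13 G) = 105 ∧
      ∃ K, IsLocal 13 P 2 K ∧ Nat.card K = 2 := by
    intro P
    obtain ⟨hP, hn1, hn2⟩ := card_sylow_mem (p := 13) (m := 420) (by rw [h]) (by norm_num) P
    obtain ⟨e, K, hL⟩ := exists_local hG (p := 13) (by rw [h]; norm_num) (by rw [h]; norm_num) P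
    have hc : ∀ n ∈ Nat.divisors 420, n % 13 = 1 → n = 1 ∨ n = 14 ∨ n = 105 := by decide +kernel
    have hcard := hL.card_eq
    rw [h] at hcard
    have he := hL.dvd_pred
    have he1 := hL.one_lt
    rcases hc _ (Nat.mem_divisors.2 ⟨hn1, by norm_num⟩) hn2 with h1 | h1 | h1
    · exact absurd h1 (by
        have := Embed.five_le_card_sylow hG (p := 13) (by rw [h]; norm_num)
        omega)
    · exfalso
      have h2 := hL.dvd_of_card_sylow_succ hG (by norm_num) hP (by rw [h1])
      rw [h1] at hcard
      have h3 : e * Nat.card K = 30 := by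
        have : 14 * (13 * e * Nat.card K) = 182 * (e * Nat.card K) := by ring
        omega
      rw [h3] at h2
      norm_num at h2
    · refine ⟨h1, ?_⟩
      rw [h1] at hcard
      have h3 : e * Nat.card K = 4 := by
        have : 105 * (13 * e * Nat.card K) = 1365 * (e * Nat.card K) := by ring
        omega
      have h4 : e ∣ 4 := ⟨_, h3.symm⟩
      have h5 : e ≤ 4 := Nat.le_of_dvd (by norm_num) h4
      have h6 : e = 2 ∨ e = 4 := by interval_cases e <;> simp_all
      rcases h6 with h6 | h6
      · subst h6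
        exact ⟨K, hL, by omega⟩
      · exfalso
        have h7 : Nat.card K = 1 := by rw [h6] at h3; omega
        apply SieveTools.IsLocal.not_odd hG hP hL (by rw [h6]; norm_num)
        rw [h1, h7]; norm_num
  have hP13 : ∀ P : Sylow 13 G, Nat.card P = 13 := fun P =>
    (card_sylow_mem (p := 13) (m := 420) (by rw [h]) (by norm_num) P).1
  -- subgroups of index 26 and 6
  have hno26 : ∀ H : Subgroup G, H.index ≠ 26 := by
    intro H hH
    obtain ⟨K, hK, hK2⟩ := (k13 default).2
    have hHtop : H ≠ ⊤ := by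
      rintro rfl
      rw [Subgroup.index_top] at hH; omega
    have hHc : Nat.card H = 210 := by
      have := H.card_mul_index
      rw [hH, h] at this; omega
    have := hK.dvd_of_index hG (by norm_num) (hP13 _) H hHtop (by rw [hHc]; norm_num)
      (m := 26) (o := 2) hH (by norm_num)
    rw [hK2] at this
    simp [Nat.factorial] at this
  -- p = 5
  have k5 : ∀ P : Sylow 5 G, (Nat.card (Sylow 5 G) = 91 ∧
      ∃ K, IsLocal 5 P 2 K ∧ Nat.card K = 6) ∨ (Nat.card (Sylow 5 G) = 546 ∧
      ∃ K, IsLocal 5 P 2 K ∧ Nat.card K = 1) := by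
    intro P
    obtain ⟨hP, hn1, hn2⟩ := card_sylow_mem (p := 5) (m := 1092) (by rw [h]) (by norm_num) P
    obtain ⟨e, K, hL⟩ := exists_local hG (p := 5) (by rw [h]; norm_num) (by rw [h]; norm_num) P
    have hc : ∀ n ∈ Nat.divisors 1092, n % 5 = 1 → n = 1 ∨ n = 6 ∨ n = 21 ∨ n = 26 ∨ n = 91 ∨
      n = 156 ∨ n = 546 := by decide +kernel
    have hcard := hL.card_eq
    rw [h] at hcard
    have he := hL.dvd_pred
    have he1 := hL.one_lt
    have he4 : e ≤ 4 := Nat.le_of_dvd (by norm_num) he
    have he2 : e = 2 ∨ e = 4 := by interval_cases e <;> simp_all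
    obtain ⟨o, ho1, ho2⟩ := hL.card_sylow hG (by norm_num) hP
    rcases hc _ (Nat.mem_divisors.2 ⟨hn1, by norm_num⟩) hn2 with h1 | h1 | h1 | h1 | h1 | h1 | h1
    · have := Embed.five_le_card_sylow hG (p := 5) (by rw [h]; norm_num)
      omega
    · exfalso
      have h2 := hL.dvd_of_card_sylow_succ hG (by norm_num) hP (by rw [h1])
      rw [h1] at hcard
      have h3 : e * Nat.card K = 182 := by
        have : 6 * (5 * e * Nat.card K) = 30 * (e * Nat.card K) := by ring
        omega
      rw [h3] at h2
      norm_num at h2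
    · exfalso
      rw [h1] at hcard ho1
      have ho : o = 4 := by omega
      rw [ho] at ho2
      rcases he2 with h2 | h2 <;> rw [h2] at hcard
      · have h3 : Nat.card K = 26 := by omega
        rw [h3] at ho2
        simp [Nat.factorial] at ho2
      · have h3 : Nat.card K = 13 := by omega
        rw [h3] at ho2
        simp [Nat.factorial] at ho2
    · exfalso
      rw [h1] at hcard ho1
      have ho : o = 5 := by omega
      rw [ho] at ho2
      rcases he2 with h2 | h2 <;> rw [h2] at hcard
      · have h3 : Nat.card K = 21 := by omega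
        rw [h3] at ho2
        simp [Nat.factorial] at ho2
      · omega
    · left
      refine ⟨h1, ?_⟩
      rw [h1] at hcard
      rcases he2 with h2 | h2
      · subst h2
        exact ⟨K, hL, by omega⟩
      · exfalso
        have h7 : Nat.card K = 3 := by rw [h2] at hcard; omega
        apply SieveTools.IsLocal.not_odd hG hP hL (by rw [h2]; norm_num)
        rw [h1, h7]; norm_num
    · exfalso
      rw [h1] at hcard
      rcases he2 with h2 | h2 <;> rw [h2] at hcard <;> omega
    · right
      refine ⟨h1, ?_⟩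
      rw [h1] at hcard
      rcases he2 with h2 | h2
      · subst h2
        exact ⟨K, hL, by omega⟩
      · rw [h2] at hcard
        omega
  have hP5 : ∀ P : Sylow 5 G, Nat.card P = 5 := fun P =>
    (card_sylow_mem (p := 5) (m := 1092) (by rw [h]) (by norm_num) P).1
  -- p = 7
  have k7 : ∀ P : Sylow 7 G, Nat.card (Sylow 7 G) = 260 ∧
      ∃ K, IsLocal 7 P 3 K ∧ Nat.card K = 1 := by
    intro P
    obtain ⟨hP, hn1, hn2⟩ := card_sylow_mem (p := 7) (m := 780) (by rw [h]) (by norm_num) P
    obtain ⟨e, K, hL⟩ := exists_local hG (p := 7) (by rw [h]; norm_num) (by rw [h]; norm_num) P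
    have hc : ∀ n ∈ Nat.divisors 780, n % 7 = 1 → n = 1 ∨ n = 15 ∨ n = 78 ∨ n = 260 := by
      decide +kernel
    have hcard := hL.card_eq
    rw [h] at hcard
    have he := hL.dvd_pred
    have he1 := hL.one_lt
    have he6 : e ≤ 6 := Nat.le_of_dvd (by norm_num) he
    have he2 : e = 2 ∨ e = 3 ∨ e = 6 := by interval_cases e <;> simp_all
    obtain ⟨o, ho1, ho2⟩ := hL.card_sylow hG (by norm_num) hP
    rcases hc _ (Nat.mem_divisors.2 ⟨hn1, by norm_num⟩) hn2 with h1 | h1 | h1 | h1
    · have := Embed.five_le_card_sylow hG (p := 7) (by rw [h]; norm_num)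
      omega
    · exfalso
      rw [h1] at hcard ho1
      have ho : o = 2 := by omega
      rw [ho] at ho2
      rcases he2 with h2 | h2 | h2 <;> rw [h2] at hcard
      · have h3 : Nat.card K = 26 := by omega
        rw [h3] at ho2
        simp [Nat.factorial] at ho2
      · omega
      · omega
    · exfalso
      rw [h1] at hcard
      have h3 : e = 2 ∧ Nat.card K = 5 := by
        rcases he2 with h2 | h2 | h2 <;> rw [h2] at hcard <;> omega
      -- `K` is a Sylow `5`-subgroup
      let Q : Sylow 5 G := Sylow.ofCard K (by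
        have h4 := (default : Sylow 5 G).card_eq_multiplicity
        rw [hP5] at h4
        rw [h3.2, ← h4])
      have hQ : (Q : Subgroup G) = K := rfl
      have h4 := hL.normalizer_le
      have h5 : (normalizer (Q : Set G)).index ∣ (normalizer (P : Set G)).index :=
        Subgroup.index_dvd_of_le h4
      rw [← P.card_eq_index_normalizer, ← Q.card_eq_index_normalizer, h1] at h5
      rcases k5 Q with ⟨h6, _⟩ | ⟨h6, _⟩ <;> rw [h6] at h5 <;> norm_num at h5
    · refine ⟨h1, ?_⟩
      rw [h1] at hcard
      rcases he2 with h2 | h2 | h2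
      · rw [h2] at hcard; omega
      · subst h2
        exact ⟨K, hL, by omega⟩
      · rw [h2] at hcard; omega
  have hP7 : ∀ P : Sylow 7 G, Nat.card P = 7 := fun P =>
    (card_sylow_mem (p := 7) (m := 780) (by rw [h]) (by norm_num) P).1
  -- the centralizer of an involution has order 52
  obtain ⟨u, hu, huC⟩ : ∃ u : G, orderOf u = 2 ∧ Nat.card (centralizer ({u} : Set G)) = 52 := by
    let P : Sylow 13 G := default
    obtain ⟨h1, K, hK, hK2⟩ := k13 P
    obtain ⟨u, hu⟩ := exists_prime_orderOf_dvd_card' (G := K) 2 (by rw [hK2])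
    have hu' : orderOf (u : G) = 2 := by rw [orderOf_coe, hu]
    refine ⟨u, hu', ?_⟩
    set C := centralizer ({(u : G)} : Set G) with hC
    have hKu : K = zpowers (u : G) := by
      symm
      apply Subgroup.eq_of_le_of_card_ge
      · rw [zpowers_le]; exact u.2
      · rw [hK2, Nat.card_zpowers, hu']
    have hNC : normalizer (P : Set G) ≤ C := by
      intro n hn
      have h2 := hK.normalizer_le hn
      rw [hC, mem_centralizer_singleton_iff]
      have h3 : n * u * n⁻¹ ∈ K := (mem_normalizer_iff.1 h2 _).1 u.2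
      have h4 : n * u * n⁻¹ ≠ 1 := by
        intro h4
        have h5 : (u : G) = n⁻¹ * (n * u * n⁻¹) * n := by group
        rw [h4] at h5
        have h6 : (u : G) = 1 := by rw [h5]; group
        rw [h6, orderOf_one] at hu'
        omega
      have h5 : ∀ y ∈ K, y ≠ 1 → y = u := by
        intro y hy hy1
        have h6 : Nat.card K = 2 := hK2
        have h7 : (⟨y, hy⟩ : K) ≠ 1 := fun h => hy1 (congrArg Subtype.val h)
        have h8 : u ≠ 1 := by
          rintro rfl
          rw [orderOf_one] at hu; omega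
        have h9 := (Nat.card_eq_two_iff' (1 : K)).1 hK2
        have : (⟨y, hy⟩ : K) = u := h9.unique h7 h8
        exact congrArg Subtype.val this
      have h6 := h5 _ h3 h4
      calc n * u = (n * u * n⁻¹) * n := by group
        _ = u * n := by rw [h6]
    have hPC : (P : Subgroup G) ≤ C := le_trans le_normalizer hNC
    have h2 := RelSylow.card_sylow_eq_relIndex P C hPC
    have h3 := RelSylow.relIndex_modEq_one P C hPC
    have h4 := RelSylow.relIndex_mul_card_inf (normalizer ((P : Subgroup G) : Set G)) C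
    have h5 : (C ⊓ normalizer ((P : Subgroup G) : Set G) : Subgroup G) =
      normalizer ((P : Subgroup G) : Set G) := inf_eq_right.2 hNC
    have h6 : Nat.card (normalizer ((P : Subgroup G) : Set G)) = 52 := by
      have := hK.card_normalizer
      rw [hK2] at this
      exact this
    rw [h5, h6] at h4
    have h7 : Nat.card C ∣ 5460 := h ▸ Subgroup.card_subgroup_dvd_card C
    rw [← h4] at h7
    have h8 : (normalizer ((P : Subgroup G) : Set G)).relIndex C ∣ 105 := by
      have : (5460 : ℕ) = 105 * 52 := by norm_num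
      rw [this] at h7
      exact Nat.dvd_of_mul_dvd_mul_right (by norm_num) h7
    have h9 : ∀ n ∈ Nat.divisors 105, n % 13 = 1 → n = 1 ∨ n = 105 := by decide +kernel
    rcases h9 _ (Nat.mem_divisors.2 ⟨h8, by norm_num⟩) h3 with h10 | h10
    · rw [h10] at h4
      rw [← h4]
    · exfalso
      rw [h10] at h4
      have h11 : C = ⊤ := by
        apply Subgroup.eq_top_of_card_eq
        rw [← h4, h]
      have h12 : (u : G) ∈ center G := by
        rw [mem_center_iff]
        intro g
        have : g ∈ C := h11 ▸ Subgroup.mem_top g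
        rw [hC, mem_centralizer_singleton_iff] at this
        exact this
      rcases (inferInstance : (center G).Normal).eq_bot_or_eq_top with h13 | h13
      · rw [h13, Subgroup.mem_bot] at h12
        rw [h12, orderOf_one] at hu'
        omega
      · apply hG
        exact ⟨⟨fun a b => ((mem_center_iff.1 (h13 ▸ Subgroup.mem_top a : a ∈ center G)) b).symm⟩⟩
  have hinv : ∀ v : G, orderOf v = 2 → Nat.card (centralizer ({v} : Set G)) = 52 := by
    intro v hv
    obtain ⟨g, hg⟩ := InvolFour.isConj hG (by rw [h]; norm_num) hu hv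
    rw [← hg, InvolFour.card_centralizer_conj, huC]
  -- hence `n_5 = 546`
  have k5' : ∀ P : Sylow 5 G, Nat.card (Sylow 5 G) = 546 ∧
      ∃ K, IsLocal 5 P 2 K ∧ Nat.card K = 1 := by
    intro P
    rcases k5 P with ⟨h1, K, hK, hK6⟩ | h1
    · exfalso
      obtain ⟨v, hv⟩ := exists_prime_orderOf_dvd_card' (G := K) 2 (by rw [hK6]; norm_num)
      have hv' : orderOf (v : G) = 2 := by rw [orderOf_coe, hv]
      have h2 : (P : Subgroup G) ≤ centralizer ({(v : G)} : Set G) := by
        intro y hy
        rw [mem_centralizer_singleton_iff]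
        exact (hK.comm _ v.2 y hy).symm
      have h3 := Subgroup.card_dvd_of_le h2
      rw [hinv _ hv', hP5 P] at h3
      norm_num at h3
    · exact h1
  -- counting elements
  have c13 := ElementCount.card_le (G := G) (p := 13) (c := 2) hP13 (fun P => by
    obtain ⟨_, K, hK, hK2⟩ := k13 P
    rw [hK.card_centralizer, hK2])
  have c7 := ElementCount.card_le (G := G) (p := 7) (c := 1) hP7 (fun P => by
    obtain ⟨_, K, hK, hK2⟩ := k7 P
    rw [hK.card_centralizer, hK2])
  have c5 := ElementCount.card_le (G := G) (p := 5) (c := 1) hP5 (fun P => by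
    obtain ⟨_, K, hK, hK2⟩ := k5' P
    rw [hK.card_centralizer, hK2])
  rw [(k13 default).1] at c13
  rw [(k7 default).1] at c7
  rw [(k5' default).1] at c5
  have := ElementCount.three_le G 2 (13 * 2) 1 (7 * 1) 1 (5 * 1) (by norm_num) (by norm_num)
    (by norm_num)
  omega

end Cfsg.Agent.SmallSimple.Order5460
end

-- part: SmallSimple/Order5724
section
set_option autoImplicit false

namespace Cfsg.Agent.SmallSimple.Order5724

open Subgroup Cfsg.Agent.SmallSimple.SylowCount

theorem dvd_aux (n : ℕ) (h : n ∣ 212) :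
    n = 1 ∨ n = 2 ∨ n = 4 ∨ n = 53 ∨ n = 106 ∨ n = 212 := by
  have key : ∀ n ∈ Nat.divisors 212, n = 1 ∨ n = 2 ∨ n = 4 ∨ n = 53 ∨ n = 106 ∨ n = 212 := by
    decide +kernel
  exact key n (Nat.mem_divisors.2 ⟨h, by norm_num⟩)

/-- There is no simple group of order 5724 = 2^2 * 3^3 * 53. -/
theorem not_simple_5724 {G : Type*} [Group G] [Finite G] [IsSimpleGroup G]
    (h : Nat.card G = 5724) : False := by
  have hp : Fact (Nat.Prime 3) := ⟨Nat.prime_three⟩
  have hG' : Nat.card G = 212 * 3 ^ 3 := by rw [h]; norm_num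
  have hnp : ¬ (Nat.card G).Prime := by rw [h]; norm_num
  have hdvd : 3 ∣ Nat.card G := by rw [h]; norm_num
  have hne : Nat.card G ≠ 3 := by rw [h]; norm_num
  -- a subgroup of index 53 gives a contradiction
  have h53 : ∀ H : Subgroup G, H.index ≠ 53 := by
    intro H hH
    have h1 := PrimeIndex.mul_pred_dvd_card hnp H (by rw [hH]; norm_num)
    rw [hH, h] at h1
    revert h1
    decide
  have h4 : ∀ H : Subgroup G, H ≠ ⊤ → ¬ H.index ≤ 4 := by
    intro H hH hH4
    have h1 := (card_dvd_factorial_index H hH).trans (Nat.factorial_dvd_factorial hH4)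
    rw [h] at h1
    revert h1
    decide
  have hn := Cfsg.Agent.SmallSimple.PSqQR.card_sylow_dvd_of_card_eq hG' (by norm_num)
  have hn1 := card_sylow_ne_one hdvd hne
  have hn3 := card_sylow_modEq_one 3 G
  obtain ⟨R⟩ : Nonempty (Sylow 3 G) := inferInstance
  have hmod : ¬ Nat.card (Sylow 3 G) ≡ 1 [MOD 3 ^ 2] := by
    rcases dvd_aux _ hn with h1 | h1 | h1 | h1 | h1 | h1
    · exact absurd h1 hn1
    · rw [h1]; decide
    · rw [h1]; decide
    · rw [h1]; decide
    · rw [h1]; decide
    · rw [h1]; decide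
  obtain ⟨P, Q, -, -, -, hNtop, -, m, hm1, hm3, hm2⟩ :=
    PrimeIndex.exists_subgroup_of_not_modEq (by rw [h]; norm_num) hmod
  rw [Cfsg.Agent.SmallSimple.PSqQR.index_sylow_of_card_eq hG' (by norm_num) P] at hm2
  set N := normalizer ((P ⊓ Q : Subgroup G) : Set G) with hN
  have hidx := h4 N hNtop
  have h53' := h53 N
  generalize N.index = n at *
  have hm : m = 4 ∨ m = 106 := by
    rcases dvd_aux _ (dvd_trans (Dvd.intro _ rfl) hm2) with h1 | h1 | h1 | h1 | h1 | h1
    · omega
    · rw [h1] at hm3; exact absurd hm3 (by decide)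
    · exact Or.inl h1
    · rw [h1] at hm3; exact absurd hm3 (by decide)
    · exact Or.inr h1
    · rw [h1] at hm3; exact absurd hm3 (by decide)
  have hn5 : n ∣ 212 := dvd_trans (Dvd.intro_left _ rfl) hm2
  have hle := Nat.le_of_dvd (by norm_num) hm2
  rcases dvd_aux _ hn5 with h1 | h1 | h1 | h1 | h1 | h1 <;> rcases hm with rfl | rfl <;> omega

end Cfsg.Agent.SmallSimple.Order5724
end

-- part: SmallSimple/Order5940
section
/-!
# There is no simple group of order 5940
-/

set_option autoImplicit false
set_option linter.unusedSectionVars false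

namespace Cfsg.Agent.SmallSimple.Order5940

open Subgroup Cfsg.Agent.SmallSimple.PrimeLocal Cfsg.Agent.SmallSimple.Sieve
  Cfsg.Agent.SmallSimple.LocalData Cfsg.Agent.SmallSimple.OrdersA

variable {G : Type*} [Group G] [Finite G]

/-- If `q ∣ k_p`, `q^2 ∤ k_p` and a group of order `k_p` has only one Sylow `q`-subgroup for
numerical reasons, then `N(P)` normalizes a subgroup `L ≤ C(P)` of order `q`. -/
theorem exists_normalized {p e k q : ℕ} (h : Data G p e k) (P : Sylow p G) (hq : q.Prime)
    (hqk : q ∣ k) (hqk2 : ¬ q ^ 2 ∣ k) (huniq : ∀ r, r ∣ k / q → r % q = 1 → r = 1) :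
    ∃ L : Subgroup G, Nat.card L = q ∧ L ≤ centralizer (P : Set G) ∧
      normalizer (P : Set G) ≤ normalizer (L : Set G) := by
  have : Fact p.Prime := ⟨h.prime⟩
  have hq : Fact q.Prime := ⟨hq⟩
  obtain ⟨K, hK, rfl⟩ := h.loc P
  let R : Sylow q K := default
  have hRc : Nat.card R = q := card_of_not_sq_dvd hqk hqk2 R
  have hRc' : Nat.card (R : Subgroup K) = q := hRc
  have h1 : Nat.card (Sylow q K) ∣ Nat.card K / q := by
    have h3 := R.card_dvd_index
    have h4 := (R : Subgroup K).card_mul_index
    rw [hRc'] at h4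
    rwa [← h4, Nat.mul_div_cancel_left _ hq.out.pos]
  have h2 : Nat.card (Sylow q K) = 1 := by
    apply huniq _ h1
    exact mod_eq_one_of_modEq hq.out.one_lt (card_sylow_modEq_one q K)
  have hsub : Subsingleton (Sylow q K) := (Nat.card_eq_one_iff_unique.1 h2).1
  have hchar : (R : Subgroup K).Characteristic := R.characteristic_of_subsingleton
  refine ⟨(R : Subgroup K).map K.subtype, ?_, ?_, ?_⟩
  · rw [Nat.card_congr ((R : Subgroup K).equivMapOfInjective _ K.subtype_injective).symm.toEquiv]
    exact hRc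
  · rintro x ⟨y, _, rfl⟩
    exact hK.le_centralizer y.2
  · refine hK.normalizer_le.trans ?_
    intro g hg
    rw [mem_normalizer_iff]
    have key : ∀ g ∈ normalizer (K : Set G), ∀ x, x ∈ (R : Subgroup K).map K.subtype →
        g * x * g⁻¹ ∈ (R : Subgroup K).map K.subtype := by
      rintro g hg x ⟨y, hy, rfl⟩
      let φ : MulAut K := K.normalizerMonoidHom ⟨g, hg⟩
      have h4 : φ y ∈ (R : Subgroup K) := by
        have h5 := hchar.fixed φ
        have h6 : y ∈ (R : Subgroup K).comap φ.toMonoidHom := by rw [h5]; exact hy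
        exact h6
      exact ⟨φ y, h4, rfl⟩
    intro x
    constructor
    · exact key g hg x
    · intro h4
      have := key g⁻¹ (inv_mem hg) _ h4
      simpa [mul_assoc] using this

/-- Normalizers of non-Sylow `q`-subgroups grow. -/
theorem sq_dvd_card_normalizer {q : ℕ} (hq : q.Prime) (L : Subgroup G) (hL : Nat.card L = q)
    (h2 : q ^ 2 ∣ Nat.card G) : q ^ 2 ∣ Nat.card (normalizer (L : Set G)) := by
  have : Fact q.Prime := ⟨hq⟩
  obtain ⟨Q, hQ⟩ := IsPGroup.exists_le_sylow (IsPGroup.of_card (n := 1) (by rw [hL, pow_one]) :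
    IsPGroup q L)
  have h3 : q ^ 2 ∣ Nat.card (Q : Subgroup G) := by
    change q ^ 2 ∣ Nat.card Q
    rw [Q.card_eq_multiplicity]
    exact pow_dvd_pow _ ((hq.pow_dvd_iff_le_factorization Nat.card_pos.ne').1 h2)
  have h4 : L < (Q : Subgroup G) := by
    refine lt_of_le_of_ne hQ ?_
    intro heq
    rw [← heq, hL] at h3
    have := Nat.le_of_dvd hq.pos h3
    have := hq.one_lt
    nlinarith
  have h5 := SylowMaxInter.lt_inf_normalizer Q.isPGroup' h4
  have h6 : IsPGroup q ((Q : Subgroup G) ⊓ normalizer (L : Set G) : Subgroup G) :=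
    Q.isPGroup'.to_le inf_le_left
  obtain ⟨j, hj⟩ := h6.exists_card_eq
  have h7 : 2 ≤ j := by
    by_contra hcon
    have h8 := Subgroup.card_le_of_le h5.le
    have h9 : Nat.card L ≠ Nat.card ((Q : Subgroup G) ⊓ normalizer (L : Set G) : Subgroup G) :=
      fun h => h5.ne (Subgroup.eq_of_le_of_card_ge h5.le h.ge)
    have h10 : j = 0 ∨ j = 1 := by omega
    rcases h10 with rfl | rfl
    · rw [hj, hL, pow_zero] at h8
      have := hq.one_lt
      omega
    · rw [hj, hL, pow_one] at h9
      exact h9 rfl
  have h8 : q ^ 2 ∣ Nat.card ((Q : Subgroup G) ⊓ normalizer (L : Set G) : Subgroup G) := by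
    rw [hj]
    exact pow_dvd_pow _ h7
  exact h8.trans (Subgroup.card_dvd_of_le inf_le_right)

theorem not_simple_5940 [IsSimpleGroup G] (h : Nat.card G = 5940) : False := by
  have hG := not_comm h (by norm_num)
  obtain ⟨d, e, k, h1, h2, h3⟩ := data_cases h hG 11 (by norm_num) (by norm_num) (by norm_num)
    (by norm_num) [(45, 2, 6)] (by decide +kernel)
  simp only [List.mem_cons, Prod.mk.injEq, List.mem_nil_iff, or_false] at h3
  obtain ⟨rfl, rfl, rfl⟩ := h3
  obtain ⟨L, hL1, _, hL3⟩ := exists_normalized h1 default (q := 3) (by norm_num) (by norm_num)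
    (by norm_num) (by
      intro r hr hr3
      have : r ≤ 2 := Nat.le_of_dvd (by norm_num) hr
      omega)
  obtain ⟨r, hr1, hr2⟩ := h1.subgroup_count_of_le _ default hL3
  have h4 := sq_dvd_card_normalizer (by norm_num) L hL1 (by rw [h]; norm_num)
  have h5 := (normalizer (L : Set G)).card_subgroup_dvd_card
  rw [h, hr1] at h5
  have h6 : r ∣ 45 := by
    have : 11 * 2 * 6 * r ∣ 11 * 2 * 6 * 45 := h5
    exact Nat.dvd_of_mul_dvd_mul_left (by norm_num) this
  have h7 : r ≤ 45 := Nat.le_of_dvd (by norm_num) h6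
  rw [hr1] at h4
  have h8 : r = 45 := by
    interval_cases r <;> first | rfl | omega
  subst h8
  have h9 : normalizer (L : Set G) = ⊤ := Subgroup.eq_top_of_card_eq _ (by rw [hr1, h])
  have hn : L.Normal := normalizer_eq_top_iff.1 h9
  rcases hn.eq_bot_or_eq_top with h10 | h10
  · rw [h10, Subgroup.card_bot] at hL1
    omega
  · rw [h10, Subgroup.card_top, h] at hL1
    omega

end Cfsg.Agent.SmallSimple.Order5940
end

-- part: S0983
section
set_option autoImplicit false
open Cfsg

namespace Cfsg.Agent.S0983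

/-- A non-abelian finite simple group of order greater than 3640 and at most 6232 has order 4080, 5616, 6048 or 6072. -/
theorem result {G : Type*} [Group G] [Finite G] [IsSimpleGroup G] (hG : ¬ IsMulCommutative G) (h1 : 3640 < Nat.card G) (h2 : Nat.card G ≤ 6232) : Nat.card G = 4080 ∨ Nat.card G = 5616 ∨ Nat.card G = 6048 ∨ Nat.card G = 6072 := by
  have h5184 : Nat.card G ≠ 5184 := by
    intro h
    have hs : Group.IsSolvable G := Cfsg.Agent.S0144.result 2 3 6 4 Nat.prime_two Nat.prime_three
      (by rw [h]; norm_num)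
    apply hG
    exact ⟨⟨IsSimpleGroup.comm_iff_isSolvable.mpr hs⟩⟩
  rcases Cfsg.Agent.SmallSimple.SieveRange.survivors hG h1 h2 with h | h
  · simp only [List.mem_cons, List.mem_nil_iff, or_false] at h
    rcases h with h | h | h | h | h | h | h | h | h | h | h | h | h | h | h
    · exact absurd h Cfsg.Agent.S0974.result
    · exact (Cfsg.Agent.SmallSimple.OrdersA.not_simple_3696 h).elim
    · exact absurd h Cfsg.Agent.S0975.result
    · exact (Cfsg.Agent.SmallSimple.OrdersA.not_simple_3780 h).elim
    · exact (Cfsg.Agent.SmallSimple.Order3960.not_simple_3960 h).elim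
    · exact absurd h Cfsg.Agent.S0976.result
    · exact Or.inl h
    · exact (Cfsg.Agent.SmallSimple.Order4200.not_simple_4200 h).elim
    · exact absurd h Cfsg.Agent.S0977.result
    · exact (Cfsg.Agent.SmallSimple.OrdersA.not_simple_4400 h).elim
    · exact (Cfsg.Agent.SmallSimple.Order4536.not_simple_4536 h).elim
    · exact (Cfsg.Agent.SmallSimple.OrdersA.not_simple_4620 h).elim
    · exact (Cfsg.Agent.SmallSimple.Order4680.not_simple_4680 h).elim
    · exact (Cfsg.Agent.SmallSimple.Order4800.not_simple_4800 h).elim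
    · exact (Cfsg.Agent.SmallSimple.Order4928.not_simple_4928 h).elim
  · simp only [List.mem_cons, List.mem_nil_iff, or_false] at h
    rcases h with h | h | h | h | h | h | h | h | h | h | h | h | h | h | h | h | h
    · exact (Cfsg.Agent.SmallSimple.Order4960.not_simple_4960 h).elim
    · exact absurd h Cfsg.Agent.S0978.result
    · exact (Cfsg.Agent.SmallSimple.OrdersA.not_simple_5104 h).elim
    · exact (Cfsg.Agent.SmallSimple.Order5148.not_simple_5148 h).elim
    · exact absurd h h5184
    · exact (Cfsg.Agent.SmallSimple.OrdersA.not_simple_5376 h).elim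
    · exact (Cfsg.Agent.SmallSimple.Order5400.not_simple_5400 h).elim
    · exact (Cfsg.Agent.SmallSimple.Order5460.not_simple_5460 h).elim
    · exact absurd h Cfsg.Agent.S0979.result
    · exact (Cfsg.Agent.SmallSimple.OrdersA.not_simple_5600 h).elim
    · exact Or.inr (Or.inl h)
    · exact (Cfsg.Agent.SmallSimple.Order5724.not_simple_5724 h).elim
    · exact absurd h Cfsg.Agent.S0980.result
    · exact (Cfsg.Agent.SmallSimple.OrdersA.not_simple_5880 h).elim
    · exact (Cfsg.Agent.SmallSimple.Order5940.not_simple_5940 h).elim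
    · exact Or.inr (Or.inr (Or.inl h))
    · exact Or.inr (Or.inr (Or.inr h))

end Cfsg.Agent.S0983
end
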