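import Cfsg.Statements.S0995
import Cfsg.Agent.SmallSimple.SelfCentPrime
set_option linter.all false

set_option autoImplicit false
open Cfsg

namespace Cfsg.Agent.S0995

open Cfsg.Agent.SmallSimple.SelfCentPrime in
/-- Let G be a finite perfect group containing an element z of prime order p whose centralizer is the cyclic group it generates. Let t be the number of conjugacy classes of elements of order p. Then t divides p - 1, the number of Sylow p-subgroups has the form 1 + n * p, and |G| * t = (p - 1) * p * (1 + n * p). -/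
theorem result {G : Type*} [Group G] [Finite G] (hperf : commutator G = ⊤) (p : ℕ) [Fact p.Prime] (z : G) (hz : orderOf z = p) (hC : Subgroup.centralizer ({z} : Set G) = Subgroup.zpowers z) : ∃ n t : ℕ, t = Nat.card {c : ConjClasses G // ∃ g : G, ConjClasses.mk g = c ∧ orderOf g = p} ∧ t ∣ p - 1 ∧ Nat.card (Sylow p G) = 1 + n * p ∧ Nat.card G * t = (p - 1) * p * (1 + n * p) := by
  have hp := (Fact.out : p.Prime)
  have hmod := card_sylow_modEq_one p G
  have hpos : 0 < Nat.card (Sylow p G) := Nat.card_pos
  have h1 : 1 % p = 1 := Nat.mod_eq_of_lt hp.one_lt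
  unfold Nat.ModEq at hmod
  rw [h1] at hmod
  have hn : Nat.card (Sylow p G) = 1 + (Nat.card (Sylow p G) / p) * p := by
    have := Nat.mod_add_div (Nat.card (Sylow p G)) p
    rw [hmod] at this
    rw [Nat.mul_comm (Nat.card (Sylow p G) / p) p]
    exact this.symm
  have hmain := card_classes_mul hz hC
  refine ⟨Nat.card (Sylow p G) / p, _, rfl, ?_, hn, ?_⟩
  · obtain ⟨P, hP⟩ := exists_sylow_eq_zpowers hz hC
    have hidx : Nat.card (Sylow p G) = (Subgroup.normalizer ((P : Subgroup G) : Set G)).index :=
      P.card_eq_index_normalizer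
    have hcard := (Subgroup.normalizer ((P : Subgroup G) : Set G)).card_mul_index
    rw [← hidx] at hcard
    have hdvd : Nat.card (P : Subgroup G) ∣ Nat.card (Subgroup.normalizer ((P : Subgroup G) : Set G)) :=
      Subgroup.card_dvd_of_le Subgroup.le_normalizer
    rw [card_sylow_eq hz hC P] at hdvd
    obtain ⟨e, he⟩ := hdvd
    rw [he] at hcard
    rw [← hcard] at hmain
    refine ⟨e, ?_⟩
    have h2 : (p * Nat.card (Sylow p G)) * (Nat.card {c : ConjClasses G // ∃ g : G, ConjClasses.mk g = c ∧ orderOf g = p} * e) = (p * Nat.card (Sylow p G)) * (p - 1) := by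
      linarith [hmain]
    exact (Nat.eq_of_mul_eq_mul_left (Nat.mul_pos hp.pos hpos) h2).symm
  · rw [hmain, ← hn]
    ring

end Cfsg.Agent.S0995
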