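import Mathlib
import Cfsg.Prelude.Def_Characters
import Cfsg.Agent.Characters.Core
import Cfsg.Agent.SmallSimple.BrauerTypesSetup_mg
import Cfsg.Agent.SmallSimple.BrauerTypesBasic
import Cfsg.Agent.Characters.Linear
import Cfsg.Agent.SmallSimple.SylowGeometryInv_mg
import Cfsg.Statements.S0996
import Cfsg.Agent.SmallSimple.TheoremBCor
set_option linter.all false

-- part: SmallSimple/BrauerTypesMain
section
/-!
The characters half of Brauer's theorem S0996, main part.
-/

set_option autoImplicit false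
set_option linter.unusedSectionVars false
open Cfsg
open scoped ComplexConjugate

namespace Cfsg.Agent.SmallSimple.BrauerTypesMain

open Cfsg.Agent.Characters.Core Cfsg.Agent.SmallSimple.BrauerTypesBasic
  Cfsg.Agent.SmallSimple.BrauerTypesArith Cfsg.Agent.SmallSimple.BrauerTypes

universe u

variable {G : Type u} [Group G] [Finite G] {p n e t : ℕ} {P N : Subgroup G} [Fintype P] [Fintype N]

section sets
variable (D : BData p P e t)

open scoped Classical in
/-- nonexceptional, positive, nontrivial -/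
noncomputable def setA : Finset (IrrCharacter G) :=
  (D.NE.erase (triv G)).filter (fun χ => D.ε χ = 1)

open scoped Classical in
/-- nonexceptional, negative -/
noncomputable def setB : Finset (IrrCharacter G) :=
  (D.NE.erase (triv G)).filter (fun χ => ¬ D.ε χ = 1)

open scoped Classical in
/-- characters vanishing on `P` minus `1` -/
noncomputable def setR [Fintype (IrrCharacter G)] : Finset (IrrCharacter G) :=
  (D.NE ∪ D.X)ᶜ

theorem sum_NE {M : Type*} [AddCommMonoid M] (f : IrrCharacter G → M) :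
    ∑ χ ∈ D.NE, f χ = f (triv G) + (∑ χ ∈ setA D, f χ + ∑ χ ∈ setB D, f χ) := by
  classical
  rw [← Finset.add_sum_erase _ _ D.one_mem.1]
  congr 1
  exact (Finset.sum_filter_add_sum_filter_not _ _ _).symm

theorem sum_all {M : Type*} [AddCommMonoid M] [Fintype (IrrCharacter G)]
    (f : IrrCharacter G → M) :
    ∑ χ, f χ = f (triv G) + (∑ χ ∈ setA D, f χ + ∑ χ ∈ setB D, f χ) + ∑ χ ∈ D.X, f χ +
      ∑ χ ∈ setR D, f χ := by
  classical
  rw [← Finset.sum_add_sum_compl (D.NE ∪ D.X), Finset.sum_union D.disj, sum_NE]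
  rfl

end sets

variable (H : Hyp p n e t P N) (D : BData p P e t)
include H D

theorem card_AB : (setA D).card + (setB D).card + 1 = e := by
  have h := sum_NE D (fun _ => 1)
  simp only [Finset.sum_const, smul_eq_mul, mul_one] at h
  rw [D.card_NE] at h
  omega

theorem mem_A {χ : IrrCharacter G} (h : χ ∈ setA D) : deg χ = 1 + n * p ∧ mult P χ = n + 1 := by
  classical
  simp only [setA, Finset.mem_filter, Finset.mem_erase] at h
  rcases NE_pos H D h.1.2 h.2 with h1 | h1
  · exact absurd h1.1 h.1.1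
  · exact h1

theorem mem_B {χ : IrrCharacter G} (h : χ ∈ setB D) :
    deg χ = p - 1 ∧ mult P χ = 0 ∧ D.ε χ = -1 := by
  classical
  simp only [setB, Finset.mem_filter, Finset.mem_erase] at h
  have hε : D.ε χ = -1 := (D.ε_eq χ h.1.2).resolve_left h.2
  exact ⟨(NE_neg H D h.1.2 hε).1, (NE_neg H D h.1.2 hε).2, hε⟩

theorem eps_A {χ : IrrCharacter G} (h : χ ∈ setA D) : D.ε χ = 1 := by
  classical
  simp only [setA, Finset.mem_filter] at h
  exact h.2

theorem mem_R [Fintype (IrrCharacter G)] {χ : IrrCharacter G} (h : χ ∈ setR D) :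
    p * mult P χ = deg χ := by
  classical
  simp only [setR, Finset.mem_compl, Finset.mem_union, not_or] at h
  exact m0_rest H D h.1 h.2

theorem exists_X : ∃ Θ, Θ ∈ D.X := by
  have h := t_pos H D
  rw [← D.card_X] at h
  exact Finset.card_pos.mp h

theorem p_cast : ((p - 1 : ℕ) : ℤ) = p - 1 := by
  have := H.prime.two_le
  push_cast [Nat.cast_sub (show 1 ≤ p by omega)]
  ring

/-- the relation on degrees -/
theorem relation {Θ : IrrCharacter G} (hΘ : Θ ∈ D.X) :
    (1 : ℤ) + (setA D).card * (1 + n * p) - (setB D).card * (p - 1) = D.d * deg Θ := by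
  have h1 := D.rel Θ hΘ 1 (by
    rw [orderOf_one]
    intro h
    have := Nat.le_of_dvd (by norm_num) h
    have := H.prime.two_le
    omega)
  simp only [deg_spec] at h1
  have h2 : ∑ χ ∈ D.NE, D.ε χ * (deg χ : ℤ) = D.d * deg Θ := by
    exact_mod_cast h1
  rw [sum_NE, deg_triv, D.one_mem.2] at h2
  have hA : ∑ χ ∈ setA D, D.ε χ * (deg χ : ℤ) = (setA D).card * (1 + n * p) := by
    rw [Finset.sum_congr rfl (g := fun _ => ((1 : ℤ) + n * p))]
    · rw [Finset.sum_const, nsmul_eq_mul]
    · intro χ hχ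
      rw [eps_A H D hχ, (mem_A H D hχ).1]; push_cast; ring
  have hB : ∑ χ ∈ setB D, D.ε χ * (deg χ : ℤ) = - ((setB D).card * (p - 1)) := by
    rw [Finset.sum_congr rfl (g := fun _ => (-((p : ℤ) - 1)))]
    · rw [Finset.sum_const, nsmul_eq_mul]; ring
    · intro χ hχ
      rw [(mem_B H D hχ).2.2, (mem_B H D hχ).1, p_cast H D]; ring
  rw [hA, hB] at h2
  push_cast at h2
  linarith

theorem sum_squares [Fintype (IrrCharacter G)] {c : ℕ} (hc : ∀ Θ ∈ D.X, deg Θ = c) :
    (1 : ℤ) + (setA D).card * (1 + n * p) ^ 2 + (setB D).card * (p - 1) ^ 2 + t * c ^ 2 +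
      p ^ 2 * (∑ χ ∈ setR D, (mult P χ) ^ 2 : ℕ) = p * e * (1 + n * p) := by
  have h1 := sum_deg_sq (G := G)
  rw [H.cardG, sum_all D] at h1
  have hA : ∑ χ ∈ setA D, deg χ ^ 2 = (setA D).card * (1 + n * p) ^ 2 := by
    rw [Finset.sum_congr rfl (g := fun _ => (1 + n * p) ^ 2)]
    · rw [Finset.sum_const, smul_eq_mul]
    · intro χ hχ
      rw [(mem_A H D hχ).1]
  have hB : ∑ χ ∈ setB D, deg χ ^ 2 = (setB D).card * (p - 1) ^ 2 := by
    rw [Finset.sum_congr rfl (g := fun _ => (p - 1) ^ 2)]
    · rw [Finset.sum_const, smul_eq_mul]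
    · intro χ hχ
      rw [(mem_B H D hχ).1]
  have hX : ∑ χ ∈ D.X, deg χ ^ 2 = t * c ^ 2 := by
    rw [Finset.sum_congr rfl (g := fun _ => c ^ 2)]
    · rw [Finset.sum_const, smul_eq_mul, D.card_X]
    · intro χ hχ
      rw [hc χ hχ]
  have hR : ∑ χ ∈ setR D, deg χ ^ 2 = p ^ 2 * (∑ χ ∈ setR D, (mult P χ) ^ 2 : ℕ) := by
    rw [Finset.mul_sum]
    refine Finset.sum_congr rfl fun χ hχ => ?_
    rw [← mem_R H D hχ]; ring
  rw [hA, hB, hX, hR, deg_triv] at h1
  have h2 : ((1 ^ 2 + ((setA D).card * (1 + n * p) ^ 2 + (setB D).card * (p - 1) ^ 2) + t * c ^ 2 +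
      p ^ 2 * (∑ χ ∈ setR D, (mult P χ) ^ 2) : ℕ) : ℤ) = ((p * e * (1 + n * p) : ℕ) : ℤ) := by
    exact_mod_cast h1
  push_cast at h2
  rw [p_cast H D] at h2
  push_cast
  linarith

/-- The structure of the degrees: cases. -/
theorem cases [Fintype (IrrCharacter G)] :
    (∑ χ ∈ setR D, (mult P χ) ^ 2 = n) ∧
    ((D.d = 1 ∧ ((setA D).card : ℤ) * (n + 1) = e - 1) ∨
     (D.d = -1 ∧ (∃ k : ℕ, k * t = n + 1) ∧
        ((n : ℤ) + 1) * (t * (setA D).card + 1) = t * (e - 1))) := by
  obtain ⟨Θ, hΘ⟩ := exists_X H D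
  have hrel := relation H D hΘ
  have hAB : ((setA D).card : ℤ) + (setB D).card + 1 = e := by exact_mod_cast card_AB H D
  have hp : (2 : ℤ) ≤ p := by exact_mod_cast H.prime.two_le
  have het : (e : ℤ) * t = p - 1 := by
    rw [← p_cast H D, ← H.het]; push_cast; ring
  have ht : (1 : ℤ) ≤ t := by exact_mod_cast t_pos H D
  rcases D.d_eq with hd | hd
  · have hc : ∀ Θ ∈ D.X, deg Θ = e := fun Θ hΘ => (X_pos H D hd hΘ).1
    rw [hd, hc Θ hΘ, one_mul] at hrel
    have h1 := case_two hp hAB hrel
    have h2 := case_two_sum hp hAB het h1 (sum_squares H D hc)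
    refine ⟨by exact_mod_cast h2, Or.inl ⟨hd, h1⟩⟩
  · have hc : ∀ Θ' ∈ D.X, deg Θ' = deg Θ := by
      intro Θ' hΘ'
      have h1 := (X_neg H D hd hΘ').1
      have h2 := (X_neg H D hd hΘ).1
      exact Nat.eq_of_mul_eq_mul_right (t_pos H D) (h1.trans h2.symm)
    have hct : (deg Θ : ℤ) * t = 1 + n * p := by exact_mod_cast (X_neg H D hd hΘ).1
    rw [hd, neg_one_mul] at hrel
    have h1 := case_one hp hAB het hct hrel
    have h2 := case_one_sum hp ht hAB het hct h1 (sum_squares H D hc)
    refine ⟨by exact_mod_cast h2, Or.inr ⟨hd, ⟨mult P Θ, (X_neg H D hd hΘ).2⟩, h1⟩⟩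

/-! ### The permutation character -/

omit [Fintype P] in
theorem index_N : N.index = 1 + n * p := by
  have h := N.card_mul_index
  rw [H.cardN, H.cardG] at h
  have hp := H.prime.pos
  have he := H.he
  exact Nat.eq_of_mul_eq_mul_left (Nat.mul_pos hp (by omega)) h

theorem perm_P [Fintype G] {y : G} (hy : y ∈ P) (hy1 : y ≠ 1) : perm N y = 1 := by
  classical
  have h := perm_apply N y
  have hf : (Finset.univ.filter (fun x : G => x⁻¹ * y * x ∈ N)) =
      Finset.univ.filter (fun x : G => x ∈ N) := by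
    ext x
    simp only [Finset.mem_filter, Finset.mem_univ, true_and]
    constructor
    · exact H.ti y hy hy1 x
    · intro hx
      exact N.mul_mem (N.mul_mem (N.inv_mem hx) (H.le hy)) hx
  have hcard : (Finset.univ.filter (fun x : G => x ∈ N)).card = Nat.card N := by
    rw [Nat.card_eq_fintype_card, Fintype.card_subtype]
  rw [hf, hcard] at h
  have h2 : (Nat.card N : ℂ) * perm N y = Nat.card N * 1 := by rw [mul_one]; exact h
  exact mul_left_cancel₀ (card_ne N) h2

/-- The coefficients of the permutation character. -/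
theorem perm_coeffs [Fintype G] [Fintype (IrrCharacter G)] {c : IrrCharacter G → ℕ}
    (hc : perm N = ∑ χ : IrrCharacter G, c χ • (χ : G → ℂ)) : ∑ χ, c χ ^ 2 = n + 1 := by
  classical
  have hle : ∀ χ, c χ ≤ mult P χ := by
    intro χ
    rw [perm_coeff N hc χ]
    exact mult_mono H.le χ
  have htriv : c (triv G) = 1 := by rw [perm_coeff N hc, mult_triv]
  have hp2 := H.prime.two_le
  -- first equation
  have h1 : ∑ χ, c χ * mult P χ = n + 1 := by
    have h := sum_comb P hc
    rw [sum_const_off (c := 1) H.cardP (fun x hx hx1 => perm_P H D hx hx1), perm_one,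
      index_N H D, H.cardP] at h
    have h2 : ((p * (n + 1) : ℕ) : ℂ) = ((p * ∑ χ, c χ * mult P χ : ℕ) : ℂ) := by
      rw [Nat.cast_mul p (∑ χ, c χ * mult P χ), ← h]; push_cast; ring
    have h3 : p * (n + 1) = p * ∑ χ, c χ * mult P χ := by exact_mod_cast h2
    exact (Nat.eq_of_mul_eq_mul_left (by omega) h3).symm
  have h2 : ∑ χ, c χ * deg χ = 1 + n * p := by
    have h := one_comb hc
    rw [perm_one, index_N H D] at h
    exact_mod_cast h.symm
  rw [sum_all D, htriv, mult_triv] at h1
  rw [sum_all D, htriv, deg_triv] at h2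
  have hA1 : ∑ χ ∈ setA D, c χ * mult P χ = (∑ χ ∈ setA D, c χ) * (n + 1) := by
    rw [Finset.sum_mul]
    exact Finset.sum_congr rfl fun χ hχ => by rw [(mem_A H D hχ).2]
  have hA2 : ∑ χ ∈ setA D, c χ * deg χ = (∑ χ ∈ setA D, c χ) * (1 + n * p) := by
    rw [Finset.sum_mul]
    exact Finset.sum_congr rfl fun χ hχ => by rw [(mem_A H D hχ).1]
  have hB0 : ∀ χ ∈ setB D, c χ = 0 := by
    intro χ hχ
    have := hle χ
    rw [(mem_B H D hχ).2.1] at this
    omega
  have hB1 : ∑ χ ∈ setB D, c χ * mult P χ = 0 :=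
    Finset.sum_eq_zero fun χ hχ => by rw [hB0 χ hχ, zero_mul]
  have hB2 : ∑ χ ∈ setB D, c χ * deg χ = 0 :=
    Finset.sum_eq_zero fun χ hχ => by rw [hB0 χ hχ, zero_mul]
  have hR2 : ∑ χ ∈ setR D, c χ * deg χ = p * ∑ χ ∈ setR D, c χ * mult P χ := by
    rw [Finset.mul_sum]
    exact Finset.sum_congr rfl fun χ hχ => by rw [← mem_R H D hχ]; ring
  have hX : (p : ℤ) * (∑ χ ∈ D.X, c χ * mult P χ : ℕ) - (∑ χ ∈ D.X, c χ * deg χ : ℕ) =
      - (D.d * e * (∑ χ ∈ D.X, c χ : ℕ)) := by
    push_cast
    rw [Finset.mul_sum, Finset.mul_sum, ← Finset.sum_sub_distrib, ← Finset.sum_neg_distrib]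
    refine Finset.sum_congr rfl fun χ hχ => ?_
    have := m0_X H D hχ
    linear_combination (c χ : ℤ) * this
  rw [hA1, hB1] at h1
  rw [hA2, hB2, hR2] at h2
  -- combine
  have hkey : ((p : ℤ) - 1) * (∑ χ ∈ setA D, c χ : ℕ) =
      D.d * e * (∑ χ ∈ D.X, c χ : ℕ) := by
    have h1' : ((1 * 1 + ((∑ χ ∈ setA D, c χ) * (n + 1) + 0) + ∑ χ ∈ D.X, c χ * mult P χ +
        ∑ χ ∈ setR D, c χ * mult P χ : ℕ) : ℤ) = ((n + 1 : ℕ) : ℤ) := by exact_mod_cast h1
    have h2' : ((1 * 1 + ((∑ χ ∈ setA D, c χ) * (1 + n * p) + 0) + ∑ χ ∈ D.X, c χ * deg χ +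
        p * ∑ χ ∈ setR D, c χ * mult P χ : ℕ) : ℤ) = ((1 + n * p : ℕ) : ℤ) := by exact_mod_cast h2
    push_cast at h1' h2' hX ⊢
    linear_combination (p : ℤ) * h1' - h2' - hX
  have hX0 : ∑ χ ∈ D.X, c χ = 0 := by
    rcases D.d_eq with hd | hd
    · refine Finset.sum_eq_zero fun χ hχ => ?_
      have := hle χ
      rw [(X_pos H D hd hχ).2] at this
      omega
    · rw [hd] at hkey
      by_contra hne
      have h3 : (1 : ℤ) ≤ (∑ χ ∈ D.X, c χ : ℕ) := by
        have : 1 ≤ ∑ χ ∈ D.X, c χ := Nat.one_le_iff_ne_zero.mpr hne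
        exact_mod_cast this
      have h4 : (0 : ℤ) ≤ (∑ χ ∈ setA D, c χ : ℕ) := by positivity
      have h5 : (2 : ℤ) ≤ p := by exact_mod_cast hp2
      have h6 : (2 : ℤ) ≤ e := by exact_mod_cast H.he
      have h7 : 0 ≤ ((p : ℤ) - 1) * (∑ χ ∈ setA D, c χ : ℕ) := mul_nonneg (by linarith) h4
      nlinarith
  have hA0 : ∑ χ ∈ setA D, c χ = 0 := by
    rw [hX0] at hkey
    simp only [Nat.cast_zero, mul_zero] at hkey
    have h5 : (2 : ℤ) ≤ p := by exact_mod_cast hp2
    have := (mul_eq_zero.mp hkey).resolve_left (by linarith)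
    exact_mod_cast this
  have hX0' : ∀ χ ∈ D.X, c χ = 0 := Finset.sum_eq_zero_iff.mp hX0
  have hA0' : ∀ χ ∈ setA D, c χ = 0 := Finset.sum_eq_zero_iff.mp hA0
  have hR : ∑ χ ∈ setR D, c χ * mult P χ = n := by
    have hXX : ∑ χ ∈ D.X, c χ * mult P χ = 0 :=
      Finset.sum_eq_zero fun χ hχ => by rw [hX0' χ hχ, zero_mul]
    rw [hA0, hXX] at h1
    omega
  have hsq := (cases H D).1
  have heq : ∀ χ ∈ setR D, c χ * mult P χ = mult P χ ^ 2 := by
    refine (Finset.sum_eq_sum_iff_of_le ?_).mp (hR.trans hsq.symm)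
    intro χ _
    rw [sq]
    exact Nat.mul_le_mul_right _ (hle χ)
  have hceq : ∀ χ ∈ setR D, c χ ^ 2 = mult P χ ^ 2 := by
    intro χ hχ
    have hpos : 0 < mult P χ := by
      rcases Nat.eq_zero_or_pos (mult P χ) with h | h
      · have h3 := mem_R H D hχ
        have h4 := deg_pos χ
        rw [h] at h3
        omega
      · exact h
    have h3 := heq χ hχ
    rw [sq] at h3
    rw [Nat.eq_of_mul_eq_mul_right hpos h3]
  rw [sum_all D, htriv]
  have e1 : ∑ χ ∈ setA D, c χ ^ 2 = 0 :=
    Finset.sum_eq_zero fun χ hχ => by rw [hA0' χ hχ]; rfl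
  have e2 : ∑ χ ∈ setB D, c χ ^ 2 = 0 :=
    Finset.sum_eq_zero fun χ hχ => by rw [hB0 χ hχ]; rfl
  have e3 : ∑ χ ∈ D.X, c χ ^ 2 = 0 :=
    Finset.sum_eq_zero fun χ hχ => by rw [hX0' χ hχ]; rfl
  have e4 : ∑ χ ∈ setR D, c χ ^ 2 = n := by
    rw [← hsq]
    exact Finset.sum_congr rfl hceq
  rw [e1, e2, e3, e4]
  omega

open scoped Classical in
/-- sizes of the intersections `N ∩ N^x` -/
theorem inter_le {x : G} (hx : x ∉ N) :
    (Finset.univ.filter (fun g : N => x⁻¹ * (g : G) * x ∈ N)).card ≤ e := by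
  let K : Subgroup N := (N.comap (MulAut.conj x⁻¹).toMonoidHom).subgroupOf N
  have hK : ∀ g : N, g ∈ K ↔ x⁻¹ * (g : G) * x ∈ N := by
    intro g
    simp [K, Subgroup.mem_subgroupOf, Subgroup.mem_comap]
  have hcard : (Finset.univ.filter (fun g : N => x⁻¹ * (g : G) * x ∈ N)).card = Nat.card K := by
    rw [← Fintype.card_subtype, ← Nat.card_eq_fintype_card]
    exact Nat.card_congr (Equiv.subtypeEquivRight fun g => (hK g).symm)
  rw [hcard]
  have hdvd : Nat.card K ∣ p * e := by
    rw [← H.cardN]; exact Subgroup.card_subgroup_dvd_card K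
  have hnd : ¬ p ∣ Nat.card K := by
    intro h
    have := Fact.mk H.prime
    obtain ⟨g, hg⟩ := exists_prime_orderOf_dvd_card' p h
    have hg1 : orderOf ((g : N) : G) = p := by
      rw [Subgroup.orderOf_coe, Subgroup.orderOf_coe, hg]
    have hgP := H.memP _ (g : N).2 hg1
    have hgne : ((g : N) : G) ≠ 1 := by
      intro h1
      rw [h1, orderOf_one] at hg1
      exact H.prime.one_lt.ne hg1
    exact hx (H.ti _ hgP hgne x ((hK g.1).mp g.2))
  have h1 : Nat.card K ∣ e :=
    Nat.Coprime.dvd_of_dvd_mul_left ((Nat.Prime.coprime_iff_not_dvd H.prime).mpr hnd).symm hdvd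
  have he := H.he
  exact Nat.le_of_dvd (by omega) h1

open scoped Classical in
theorem inter_eq {x : G} (hx : x ∉ N) :
    (Finset.univ.filter (fun g : N => x⁻¹ * (g : G) * x ∈ N)).card = e := by
  have := Fintype.ofFinite G
  have := finite_irr (G := G)
  have := Fintype.ofFinite (IrrCharacter G)
  obtain ⟨c, hc⟩ := isCharacter_iff.1 (perm_isCharacter N)
  have h1 := perm_coeffs H D hc
  have h2 := perm_norm N
  rw [norm_comb hc, h1] at h2
  have h3 : Nat.card N ^ 2 * (n + 1) =
      ∑ x : G, (Finset.univ.filter (fun g : N => x⁻¹ * (g : G) * x ∈ N)).card := by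
    exact_mod_cast h2
  rw [← Finset.sum_filter_add_sum_filter_not Finset.univ (fun x : G => x ∈ N)] at h3
  have h4 : ∑ x with x ∈ N, (Finset.univ.filter (fun g : N => x⁻¹ * (g : G) * x ∈ N)).card =
      Nat.card N * Nat.card N := by
    have : ∀ x ∈ Finset.univ.filter (fun x : G => x ∈ N),
        (Finset.univ.filter (fun g : N => x⁻¹ * (g : G) * x ∈ N)).card = Nat.card N := by
      intro x hx
      rw [Finset.mem_filter] at hx
      rw [Finset.filter_true_of_mem, Finset.card_univ, Nat.card_eq_fintype_card]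
      intro g _
      exact N.mul_mem (N.mul_mem (N.inv_mem hx.2) g.2) hx.2
    rw [Finset.sum_congr rfl this, Finset.sum_const, smul_eq_mul]
    congr 1
    rw [Nat.card_eq_fintype_card, Fintype.card_subtype]
  rw [h4] at h3
  have hnot : (Finset.univ.filter (fun x : G => ¬ x ∈ N)).card = Nat.card N * (n * p) := by
    have h5 := Finset.card_filter_add_card_filter_not (s := (Finset.univ : Finset G)) (fun x : G => x ∈ N)
    have h6 : (Finset.univ.filter (fun x : G => x ∈ N)).card = Nat.card N := by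
      rw [Nat.card_eq_fintype_card, Fintype.card_subtype]
    rw [h6, Finset.card_univ, ← Nat.card_eq_fintype_card, H.cardG, ← H.cardN] at h5
    have : Nat.card N * (1 + n * p) = Nat.card N + Nat.card N * (n * p) := by ring
    omega
  have hsum : ∑ x with ¬ x ∈ N, (Finset.univ.filter (fun g : N => x⁻¹ * (g : G) * x ∈ N)).card =
      ∑ x : G with ¬ x ∈ N, e := by
    rw [Finset.sum_const, smul_eq_mul, hnot]
    have e1 : Nat.card N ^ 2 * (n + 1) = Nat.card N * Nat.card N + Nat.card N * Nat.card N * n := by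
      ring
    have e2 : Nat.card N * (n * p) * e = Nat.card N * Nat.card N * n := by
      conv_rhs => rw [mul_assoc, H.cardN]
      rw [H.cardN]; ring
    omega
  have := (Finset.sum_eq_sum_iff_of_le (fun x hx => inter_le H D (Finset.mem_filter.mp hx).2)).mp
    hsum x (by simp [hx])
  exact this

end Cfsg.Agent.SmallSimple.BrauerTypesMain
end

-- part: SmallSimple/BrauerTypesProd
section
/-!
The characters half of Brauer's theorem S0996: the product of an exceptional character of degree
`e` with its complex conjugate.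
-/

set_option autoImplicit false
set_option linter.unusedSectionVars false
open Cfsg
open scoped ComplexConjugate

namespace Cfsg.Agent.SmallSimple.BrauerTypesProd

open Cfsg.Agent.Characters.Core Cfsg.Agent.SmallSimple.BrauerTypesBasic
  Cfsg.Agent.SmallSimple.BrauerTypesArith Cfsg.Agent.SmallSimple.BrauerTypes
  Cfsg.Agent.SmallSimple.BrauerTypesMain

universe u

variable {G : Type u} [Group G] [Finite G] {p n e t : ℕ} {P N : Subgroup G} [Fintype P] [Fintype N]

/-- `∑ l(x) conj l'(x)` -/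
theorem sum_linear_mul (l l' : P →* ℂˣ) :
    ∑ x : P, (l x : ℂ) * conj (l' x : ℂ) = if l = l' then (Nat.card P : ℂ) else 0 := by
  classical
  have hconj : ∀ x : P, conj (l' x : ℂ) = ((l'⁻¹ x : ℂˣ) : ℂ) := by
    intro x
    rw [MonoidHom.inv_apply, Units.val_inv_eq_inv_val]
    have h := Cfsg.Agent.Characters.Linear.norm_hom_apply l' x
    rw [Complex.inv_eq_conj h]
  have h1 : ∀ x : P, (l x : ℂ) * conj (l' x : ℂ) = (((l * l'⁻¹) x : ℂˣ) : ℂ) := by
    intro x
    rw [hconj x, MonoidHom.mul_apply, Units.val_mul]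
  rw [Finset.sum_congr rfl fun x _ => h1 x]
  split_ifs with h
  · subst h
    simp [Nat.card_eq_fintype_card]
  · apply sum_linear
    intro h2
    apply h
    exact mul_inv_eq_one.mp h2

variable (H : Hyp p n e t P N) (D : BData p P e t)
include H D

theorem case_two_final (hd : D.d = 1) (ht : 2 ≤ t) : n = 1 ∧ t = 2 := by
  classical
  have := Fintype.ofFinite G
  have := finite_irr (G := G)
  have := Fintype.ofFinite (IrrCharacter G)
  obtain ⟨Θ, hΘ⟩ := exists_X H D
  have hdeg := (X_pos H D hd hΘ).1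
  set ψ : G → ℂ := fun g => (Θ : G → ℂ) g * conj ((Θ : G → ℂ) g) with hψ
  have hψc : IsCharacter G ψ :=
    isCharacter_mul (isIrr_isCharacter Θ.2) (isCharacter_conj (isIrr_isCharacter Θ.2))
  obtain ⟨c, hc⟩ := isCharacter_iff.1 hψc
  -- multiplicity of the trivial character
  have hc1 : c (triv G) = 1 := by
    have h1 := coeff_triv hc
    have h2 : classInner ψ 1 = 1 := by
      rw [← classInner_irr_self Θ.2, classInner_def, classInner_def]
      congr 1
      refine Finset.sum_congr rfl fun g _ => ?_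
      simp [hψ]
    rw [h2] at h1
    exact_mod_cast h1.symm
  -- value at one
  have hdegsum : ∑ χ, c χ * deg χ = e ^ 2 := by
    have h1 := one_comb hc
    have h2 : ψ 1 = ((e ^ 2 : ℕ) : ℂ) := by
      simp only [hψ]
      rw [deg_spec, hdeg, Complex.conj_natCast]
      push_cast; ring
    rw [h2] at h1
    exact_mod_cast h1.symm
  -- fixed points of P
  have hval : ∀ x : P, (Θ : G → ℂ) x = ∑ l ∈ D.S Θ, (l x : ℂ) := by
    intro x
    by_cases hx : x = 1
    · subst hx
      rw [OneMemClass.coe_one, deg_spec, hdeg]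
      simp only [map_one, Units.val_one, Finset.sum_const, nsmul_eq_mul, mul_one]
      rw [D.card_S Θ hΘ]
    · rw [D.val_X Θ hΘ x hx, hd]
      simp
  have hfix : ∑ x : P, ψ x = (Nat.card P : ℂ) * (e : ℕ) := by
    have h1 : ∀ x : P, ψ x = ∑ l ∈ D.S Θ, ∑ l' ∈ D.S Θ, (l x : ℂ) * conj (l' x : ℂ) := by
      intro x
      simp only [hψ]
      rw [hval x, map_sum, Finset.sum_mul_sum]
    rw [Finset.sum_congr rfl fun x _ => h1 x, Finset.sum_comm]
    have h2 : ∀ l ∈ D.S Θ, ∑ x : P, ∑ l' ∈ D.S Θ, (l x : ℂ) * conj (l' x : ℂ) =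
        (Nat.card P : ℂ) := by
      intro l hl
      rw [Finset.sum_comm]
      rw [Finset.sum_congr rfl fun l' _ => sum_linear_mul l l']
      rw [Finset.sum_ite_eq, if_pos hl]
    rw [Finset.sum_congr rfl h2, Finset.sum_const, nsmul_eq_mul, D.card_S Θ hΘ]
    ring
  have hmult : ∑ χ, c χ * mult P χ = e := by
    have h1 := sum_comb P hc
    rw [hfix] at h1
    have h2 := mul_left_cancel₀ (card_ne P) h1
    exact_mod_cast h2.symm
  rw [sum_all D, hc1, mult_triv] at hmult
  rw [sum_all D, hc1, deg_triv] at hdegsum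
  have hA1 : ∑ χ ∈ setA D, c χ * mult P χ = (∑ χ ∈ setA D, c χ) * (n + 1) := by
    rw [Finset.sum_mul]
    exact Finset.sum_congr rfl fun χ hχ => by rw [(mem_A H D hχ).2]
  have hA2 : ∑ χ ∈ setA D, c χ * deg χ = (∑ χ ∈ setA D, c χ) * (1 + n * p) := by
    rw [Finset.sum_mul]
    exact Finset.sum_congr rfl fun χ hχ => by rw [(mem_A H D hχ).1]
  have hB1 : ∑ χ ∈ setB D, c χ * mult P χ = 0 :=
    Finset.sum_eq_zero fun χ hχ => by rw [(mem_B H D hχ).2.1, mul_zero]
  have hX1 : ∑ χ ∈ D.X, c χ * mult P χ = 0 :=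
    Finset.sum_eq_zero fun χ hχ => by rw [(X_pos H D hd hχ).2, mul_zero]
  have hR2 : ∑ χ ∈ setR D, c χ * deg χ = p * ∑ χ ∈ setR D, c χ * mult P χ := by
    rw [Finset.mul_sum]
    exact Finset.sum_congr rfl fun χ hχ => by rw [← mem_R H D hχ]; ring
  rw [hA1, hB1, hX1] at hmult
  rw [hA2, hR2] at hdegsum
  set M := ∑ χ ∈ setA D, c χ
  set F := ∑ χ ∈ setR D, c χ * mult P χ
  have hn1 : (1 : ℤ) ≤ n := by exact_mod_cast H.n_pos
  have he : (2 : ℤ) ≤ e := by exact_mod_cast H.he
  have ht' : (2 : ℤ) ≤ t := by exact_mod_cast ht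
  have het : (e : ℤ) * t = p - 1 := by
    rw [← p_cast H D, ← H.het]; push_cast; ring
  have h1 : (e : ℤ) - 1 = (n + 1) * M + F := by
    have : ((1 * 1 + (M * (n + 1) + 0) + 0 + F : ℕ) : ℤ) = e := by exact_mod_cast hmult
    push_cast at this
    linarith
  have h2 : (1 : ℤ) + M * (1 + n * p) + p * F ≤ e ^ 2 := by
    have h3 : 1 * 1 + M * (1 + n * p) + p * F ≤ e ^ 2 := by
      rw [← hdegsum]
      omega
    have h4 : ((1 * 1 + M * (1 + n * p) + p * F : ℕ) : ℤ) ≤ ((e ^ 2 : ℕ) : ℤ) := by
      exact_mod_cast h3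
    push_cast at h4
    linarith
  have := c_three hn1 he ht' het (by positivity) (by positivity) h1 h2
  exact ⟨by exact_mod_cast this.1, by exact_mod_cast this.2⟩

end Cfsg.Agent.SmallSimple.BrauerTypesProd
end

-- part: SmallSimple/BrauerTypesFinal
section
/-!
Brauer's theorem S0996 from the character data `BData`.
-/

set_option autoImplicit false
set_option linter.unusedSectionVars false
open Cfsg

namespace Cfsg.Agent.SmallSimple.BrauerTypesFinal

open Subgroup Cfsg.Agent.SmallSimple.SelfCentPrime Cfsg.Agent.SmallSimple.BrauerTypes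
  Cfsg.Agent.SmallSimple.BrauerTypesSetup Cfsg.Agent.SmallSimple.BrauerTypesMain
  Cfsg.Agent.SmallSimple.BrauerTypesProd
  Cfsg.Agent.SmallSimple.SylowGeometry Cfsg.Agent.SmallSimple.SylowGeometryInv
  Cfsg.Agent.Characters.Core

universe u
variable {G : Type u} [Group G] [Finite G] {p : ℕ} [hp : Fact p.Prime] {z : G}

theorem geom {n e t : ℕ} (P : Sylow p G) (hcP : Nat.card P = p)
    (hcent : centralizer (P : Set G) = P) (hnS : n * p + 1 = Nat.card (Sylow p G))
    (H : Hyp p n e t (P : Subgroup G) (normalizer (P : Set G)))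
    (D : BData p (P : Subgroup G) e t) : Geom p e n G := by
  classical
  have := Fintype.ofFinite (P : Subgroup G)
  have := Fintype.ofFinite (normalizer (P : Set G))
  refine geom_of_card_inf P hcP hcent (by rw [H.cardN, mul_comm]) hnS ?_
  intro Q hQ
  obtain ⟨x, hx⟩ := MulAction.exists_smul_eq G P Q
  have hxN : x ∉ normalizer (P : Set G) := by
    intro h
    exact hQ (by rw [← hx, Sylow.smul_eq_iff_mem_normalizer.2 h])
  have h1 := inter_eq H D hxN
  rw [← h1, ← Fintype.card_subtype, ← Nat.card_eq_fintype_card]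
  have hmem : ∀ g : G, g ∈ normalizer (Q : Set G) ↔ x⁻¹ * g * x ∈ normalizer (P : Set G) := by
    intro g
    rw [← Sylow.smul_eq_iff_mem_normalizer, ← Sylow.smul_eq_iff_mem_normalizer, ← hx, mul_smul,
      mul_smul, inv_smul_eq_iff]
  refine Nat.card_congr
    { toFun := fun g => ⟨⟨g.1, g.2.1⟩, (hmem g.1).1 g.2.2⟩
      invFun := fun g => ⟨g.1.1, g.1.2, (hmem g.1.1).2 g.2⟩
      left_inv := fun g => rfl
      right_inv := fun g => rfl }

/-- The end of Brauer's theorem from the types. -/
theorem final {n e t : ℕ} (hperf : commutator G = ⊤) (hz : orderOf z = p)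
    (hC : centralizer ({z} : Set G) = zpowers z) (P : Sylow p G) (hcP : Nat.card P = p)
    (hcent : centralizer (P : Set G) = P) (hnS : n * p + 1 = Nat.card (Sylow p G))
    (H : Hyp p n e t (P : Subgroup G) (normalizer (P : Set G)))
    (D : BData p (P : Subgroup G) e t) :
    (∃ (F : Type) (_ : Field F) (_ : Fintype F), Fintype.card F = p ∧ 3 < p ∧
      Nonempty (G ≃* Matrix.ProjectiveSpecialLinearGroup (Fin 2) F)) ∨
    (∃ (m : ℕ) (F : Type) (_ : Field F) (_ : Fintype F), Fintype.card F = 2 ^ m ∧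
      p = 2 ^ m + 1 ∧ 3 < p ∧ Nonempty (G ≃* Matrix.ProjectiveSpecialLinearGroup (Fin 2) F)) := by
  classical
  have := Fintype.ofFinite (P : Subgroup G)
  have := Fintype.ofFinite (normalizer (P : Set G))
  have := Fintype.ofFinite G
  have := finite_irr (G := G)
  have := Fintype.ofFinite (IrrCharacter G)
  have hGeom := geom P hcP hcent hnS H D
  have hcases := (cases H D).2
  have he := H.he
  have hn := H.n_pos
  have het := H.het
  have ht := t_pos H D
  have hp2 := H.prime.two_le
  have hcG := H.cardG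
  have key : ∀ {x : ℕ}, n + 1 < p → n + 1 ∣ e * t := by
    intro x hlt
    have h1 := hGeom.succ_dvd_pred (by omega) (by omega) (by
      intro h
      have := Nat.le_of_dvd (by omega) h
      omega)
    rw [het]
    exact h1
  have hlast : (n = 1 ∧ t = 2) ∨ (e = 2 ∧ n + 1 = t) := by
    rcases hcases with ⟨hd, hx⟩ | ⟨hd, ⟨k, hk⟩, hx⟩
    · left
      have hx' : (setA D).card * (n + 1) + 1 = e := by
        have : ((setA D).card * (n + 1) + 1 : ℤ) = e := by linarith
        exact_mod_cast this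
      have hpos : 0 < (setA D).card := by
        rcases Nat.eq_zero_or_pos (setA D).card with h | h
        · rw [h] at hx'; omega
        · exact h
      have hle : n + 1 ≤ (setA D).card * (n + 1) := Nat.le_mul_of_pos_left _ hpos
      have het2 : e ≤ e * t := Nat.le_mul_of_pos_right _ ht
      have h1 : n + 1 ∣ e * t := key (x := 0) (by omega)
      have hcop : Nat.Coprime (n + 1) e := by
        rw [← hx']
        have h2 : Nat.gcd (n + 1) ((setA D).card * (n + 1) + 1) ∣ 1 := by
          have h3 := Nat.gcd_dvd_left (n + 1) ((setA D).card * (n + 1) + 1)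
          have h4 := Nat.gcd_dvd_right (n + 1) ((setA D).card * (n + 1) + 1)
          exact (Nat.dvd_add_right (Dvd.dvd.mul_left h3 _)).1 h4
        exact Nat.dvd_one.1 h2
      have h2 : n + 1 ∣ t := hcop.dvd_of_dvd_mul_left h1
      have h3 := Nat.le_of_dvd ht h2
      exact case_two_final H D hd (by omega)
    · have hx' : k * (t * (setA D).card + 1) + 1 = e := by
        have h1 : (k * (t * (setA D).card + 1) + 1 : ℤ) = e := by
          have hk' : (k : ℤ) * t = n + 1 := by exact_mod_cast hk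
          rw [← hk'] at hx
          have ht' : (t : ℤ) ≠ 0 := by exact_mod_cast (by omega : t ≠ 0)
          apply mul_left_cancel₀ ht'
          linear_combination hx
        exact_mod_cast h1
      have hk1 : 0 < k := by
        rcases Nat.eq_zero_or_pos k with h | h
        · rw [h] at hk; omega
        · exact h
      have hke : k + 1 ≤ e := by
        have : k ≤ k * (t * (setA D).card + 1) := Nat.le_mul_of_pos_right _ (by omega)
        omega
      have hlt : n + 1 < p := by
        rw [← hk]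
        have h2 : (k + 1) * t ≤ e * t := Nat.mul_le_mul_right t hke
        have h3 : (k + 1) * t = k * t + t := by ring
        omega
      have h1 : k * t ∣ e * t := by
        rw [hk]
        exact key (x := 0) hlt
      have h2 : k ∣ e := Nat.dvd_of_mul_dvd_mul_right ht h1
      have h3 : k ∣ 1 := by
        rw [← hx'] at h2
        exact (Nat.dvd_add_right (dvd_mul_right _ _)).1 h2
      have hk' : k = 1 := Nat.dvd_one.1 h3
      rw [hk', one_mul] at hk hx'
      have hodd : 2 ∣ e * t := by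
        rw [het]
        have hpne : p ≠ 2 := by
          intro h
          rw [h] at het
          have h4 : e ∣ 1 := Dvd.intro t het
          have := Nat.le_of_dvd (by norm_num) h4
          omega
        have := (H.prime.odd_of_ne_two hpne)
        obtain ⟨j, hj⟩ := this
        exact ⟨j, by omega⟩
      have heven : 2 ∣ e := by
        rcases (Nat.Prime.dvd_mul Nat.prime_two).1 hodd with h | h
        · exact h
        · rw [← hx']
          exact (Nat.dvd_add_right (Dvd.dvd.mul_right h _)).2 (dvd_refl 2)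
      rcases (even_and_eq_two_or hGeom heven (by omega) hk.symm het).2 with h | h
      · left
        exact ⟨by omega, h⟩
      · right
        exact ⟨h, hk.symm⟩
  clear hcases key
  rcases hlast with ⟨h1, h2⟩ | ⟨h1, h2⟩
  · left
    subst h1 h2
    have hp1 : p = 2 * e + 1 := by omega
    refine ⟨ZMod p, inferInstance, inferInstance, ZMod.card p, by omega, ?_⟩
    refine PSL2Perfect.psl2_of_perfect_card (by omega) hperf hz hC ?_ (by rw [← hnS, one_mul])
      (ZMod.card p)
    rw [hcG, one_mul, ← het]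
    ring
  · right
    subst h1
    obtain ⟨⟨i, hi⟩, hcen, hconj⟩ := elementary_of_eq_two hGeom (by omega) (by rw [h2, het])
    have hp3 : p = 2 * n + 3 := by omega
    have hsq : ∀ c ∈ centralizer ({i} : Set G), c ^ 2 = 1 := by
      intro c hc
      rw [sq]
      exact (hcen i hi).2 c hc
    refine BrauerEnd.psl_of_e_eq_two (by omega) ?_ z hz hC i hi (hcen i hi).1 hsq ?_
    · rw [hcG]
      have e1 : p - 1 = 2 * n + 2 := by omega
      have e2 : p - 2 = 2 * n + 1 := by omega
      rw [e1, e2, hp3]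
      ring
    · intro c hc hc1
      obtain ⟨g, hg⟩ := hconj i c hi (by
        exact orderOf_eq_prime (hsq c hc) hc1)
      exact isConj_iff.2 ⟨g, hg⟩

end Cfsg.Agent.SmallSimple.BrauerTypesFinal
end

-- part: S0996
section
set_option autoImplicit false
open Cfsg

namespace Cfsg.Agent.S0996

open Cfsg.Agent.SmallSimple.BrauerTypes Cfsg.Agent.SmallSimple.BrauerTypesBasic
  Cfsg.Agent.SmallSimple.BrauerTypesSetup Cfsg.Agent.SmallSimple.BrauerTypesFinal in
/-- Let G be a finite perfect group containing an element z of prime order p whose centralizer is the cyclic group it generates, and suppose the number 1 + n * p of Sylow p-subgroups satisfies n < (p + 3) / 2. Then p > 3 and G is isomorphic to the projective special linear group of dimension 2 over the field with p elements, or p - 1 is a power of 2 and G is isomorphic to that group over the field with p - 1 elements. -/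
theorem result {G : Type*} [Group G] [Finite G] (hperf : commutator G = ⊤) (p : ℕ) [Fact p.Prime] (z : G) (hz : orderOf z = p) (hC : Subgroup.centralizer ({z} : Set G) = Subgroup.zpowers z) (hn : 2 * Nat.card (Sylow p G) < (p + 1) * (p + 2)) : (∃ (F : Type) (_ : Field F) (_ : Fintype F), Fintype.card F = p ∧ 3 < p ∧ Nonempty (G ≃* Matrix.ProjectiveSpecialLinearGroup (Fin 2) F)) ∨ (∃ (m : ℕ) (F : Type) (_ : Field F) (_ : Fintype F), Fintype.card F = 2 ^ m ∧ p = 2 ^ m + 1 ∧ 3 < p ∧ Nonempty (G ≃* Matrix.ProjectiveSpecialLinearGroup (Fin 2) F)) := by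
  obtain ⟨P, n, e, t, -, hcP, hcent, he, hnS, hp2, H⟩ := setup hperf hz hC hn
  obtain ⟨NE, X, ε, d, S, h1, h2, h3, h4, h5, ⟨χ₁, h6, h6', h6''⟩, h7, h8, -, h9, h10⟩ :=
    Cfsg.Agent.SmallSimple.TheoremBCor.theoremB_selfCent p hp2 P hcP hcent e t he H.het
  have htriv : χ₁ = triv G := Subtype.ext h6'
  rw [htriv] at h6 h6''
  exact final hperf hz hC P hcP hcent hnS H
    { NE := NE, X := X, ε := ε, d := d, S := S, disj := h1, card_NE := h2, card_X := h3,
      ε_eq := h4, d_eq := h5, one_mem := ⟨h6, h6''⟩, val_NE := h7,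
      card_S := fun Θ hΘ => (h8 Θ hΘ).1
      one_notMem_S := fun Θ hΘ => (h8 Θ hΘ).2.1
      val_X := fun Θ hΘ => (h8 Θ hΘ).2.2
      rel := h9
      val_rest := fun χ hχ hχ' => (h10 χ hχ hχ').1 }

end Cfsg.Agent.S0996
end
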