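import Mathlib
import Cfsg.Agent.SmallSimple.Simple504C
import Cfsg.Statements.S1011
set_option linter.all false

-- part: SmallSimple/Simple504D
section
/-!
A simple group of order 504 is isomorphic to `PSL(2, 8)`.
-/

set_option autoImplicit false

namespace Cfsg.Agent.SmallSimple.Simple504D

open Subgroup MulAction Cfsg.Agent.SmallSimple.PSqQR Cfsg.Agent.SmallSimple.BurnsideNC
open Cfsg.Agent.SmallSimple.Simple504 Cfsg.Agent.SmallSimple.ClassDvd
open Cfsg.Agent.SmallSimple.Simple504B Cfsg.Agent.SmallSimple.Simple504C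

/-- An involution normalizing but not centralizing `⟨d⟩`, `d` of order 7, inverts `d`. -/
theorem inverts {G : Type*} [Group G] {d t : G} (hd : orderOf d = 7) (ht : t * t = 1)
    (hm : t * d * t⁻¹ ∈ zpowers d) (hc : t * d ≠ d * t) : t * d * t⁻¹ = d⁻¹ := by
  classical
  have hfin : IsOfFinOrder d := orderOf_pos_iff.1 (by rw [hd]; norm_num)
  obtain ⟨k, hk⟩ := (hfin.mem_zpowers_iff_mem_range_orderOf).1 hm |> Finset.mem_image.1
  obtain ⟨hk1, hk2⟩ := hk
  rw [Finset.mem_range, hd] at hk1
  have htt : t⁻¹ = t := inv_eq_of_mul_eq_one_left ht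
  have h1 : d ^ (k * k) = d := by
    rw [pow_mul]
    have e1 : (d ^ k) ^ k = (t * d * t⁻¹) ^ k := by rw [hk2]
    rw [e1, conj_pow, hk2, htt]
    calc t * (t * d * t) * t = (t * t) * d * (t * t) := by group
      _ = d := by rw [ht, one_mul, mul_one]
  have h7 : d ^ 7 = 1 := by rw [← hd, pow_orderOf_eq_one]
  have hne1 : d ^ 0 ≠ d := by
    intro hh
    rw [pow_zero] at hh
    rw [← hh, orderOf_one] at hd
    norm_num at hd
  have hpow : d ^ (k * k % 7) = d ^ 1 := by
    rw [← hd, pow_mod_orderOf, h1, pow_one]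
  have hmod : k * k % 7 = 1 := by
    have m1 : k * k % 7 ∈ Set.Iio (orderOf d) := by
      rw [Set.mem_Iio, hd]; exact Nat.mod_lt _ (by norm_num)
    have m2 : 1 ∈ Set.Iio (orderOf d) := by rw [Set.mem_Iio, hd]; norm_num
    exact pow_injOn_Iio_orderOf m1 m2 hpow
  have hk6 : k = 1 ∨ k = 6 := by
    interval_cases k <;> omega
  rcases hk6 with rfl | rfl
  · exfalso
    apply hc
    rw [pow_one] at hk2
    exact mul_inv_eq_iff_eq_mul.1 hk2.symm
  · rw [← hk2]
    rw [eq_inv_iff_mul_eq_one, ← pow_succ]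
    exact h7

/-- **A simple group of order 504 is isomorphic to `PSL(2, 8)`.** -/
theorem iso {G : Type*} [Group G] [Finite G] [IsSimpleGroup G] (h : Nat.card G = 504)
    {F : Type*} [Field F] [Fintype F] (hF : Fintype.card F = 8) :
    Nonempty (G ≃* Matrix.ProjectiveSpecialLinearGroup (Fin 2) F) := by
  have f2 : Fact (Nat.Prime 2) := ⟨by norm_num⟩
  have f7 : Fact (Nat.Prime 7) := ⟨by norm_num⟩
  obtain ⟨S, t₀, ht₀S, ht₀1, hC⟩ := exists_sylow_centralizer h
  have hN := card_normalizer_two h S t₀ ht₀S ht₀1 hC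
  have hS8 := card_sylow_two_eq h S
  obtain ⟨⟨d, hdN⟩, hd'⟩ := exists_prime_orderOf_dvd_card' (G := normalizer ((S : Subgroup G) : Set G)) 7
    (by rw [hN]; norm_num)
  have hd : orderOf d = 7 := (Subgroup.orderOf_mk d hdN).symm.trans hd'
  have hd7 : d ^ 7 = 1 := by rw [← hd, pow_orderOf_eq_one]
  -- elements of S commute with no element of order 7
  have horder2 : ∀ s ∈ (S : Subgroup G), s ≠ 1 → orderOf s = 2 := by
    intro s hs hs1
    exact orderOf_eq_prime (by rw [pow_two]; exact mul_self_of_mem h S hs) hs1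
  have hdS : ∀ (k : ℕ) (s : G), s ∈ (S : Subgroup G) → d ^ k * s * (d ^ k)⁻¹ ∈ (S : Subgroup G) := by
    intro k s hs
    exact (mem_normalizer_iff.1 (Subgroup.pow_mem _ hdN k) s).1 hs
  -- transitivity of the powers of d
  have hdtrans : ∀ s ∈ (S : Subgroup G), s ≠ 1 → ∀ s' ∈ (S : Subgroup G), s' ≠ 1 →
      ∃ k : ℕ, d ^ k * s * (d ^ k)⁻¹ = s' := by
    intro s hs hs1 s' hs' hs1'
    let f : Fin 7 → {x : (S : Subgroup G) // x ≠ 1} := fun k =>
      ⟨⟨d ^ (k : ℕ) * s * (d ^ (k : ℕ))⁻¹, hdS k s hs⟩, by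
        intro hh
        have h1 : d ^ (k : ℕ) * s * (d ^ (k : ℕ))⁻¹ = 1 := congrArg Subtype.val hh
        rw [conj_eq_one_iff] at h1
        exact hs1 h1⟩
    have hinj : Function.Injective f := by
      intro i j hij
      have h1 : d ^ (i : ℕ) * s * (d ^ (i : ℕ))⁻¹ = d ^ (j : ℕ) * s * (d ^ (j : ℕ))⁻¹ :=
        congrArg (fun z : {x : (S : Subgroup G) // x ≠ 1} => ((z : (S : Subgroup G)) : G)) hij
      by_contra hne
      set y := (d ^ (j : ℕ))⁻¹ * d ^ (i : ℕ) with hy
      have hy1 : y ≠ 1 := by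
        intro h2
        rw [hy, inv_mul_eq_one] at h2
        have m1 : (j : ℕ) ∈ Set.Iio (orderOf d) := by rw [Set.mem_Iio, hd]; exact j.2
        have m2 : (i : ℕ) ∈ Set.Iio (orderOf d) := by rw [Set.mem_Iio, hd]; exact i.2
        have h3 := pow_injOn_Iio_orderOf m1 m2 h2
        exact hne (Fin.ext h3.symm)
      have hy7 : orderOf y = 7 := by
        have hyd : y ∈ zpowers d := mul_mem (inv_mem (pow_mem (mem_zpowers d) _)) (pow_mem (mem_zpowers d) _)
        apply orderOf_eq_prime _ hy1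
        have := Subgroup.orderOf_dvd_natCard _ hyd
        rw [Nat.card_zpowers, hd] at this
        exact orderOf_dvd_iff_pow_eq_one.1 this
      have hcomm : Commute y s := by
        show y * s = s * y
        rw [hy]
        calc (d ^ (j : ℕ))⁻¹ * d ^ (i : ℕ) * s
            = (d ^ (j : ℕ))⁻¹ * (d ^ (i : ℕ) * s * (d ^ (i : ℕ))⁻¹) * d ^ (i : ℕ) := by group
          _ = (d ^ (j : ℕ))⁻¹ * (d ^ (j : ℕ) * s * (d ^ (j : ℕ))⁻¹) * d ^ (i : ℕ) := by rw [h1]
          _ = s * ((d ^ (j : ℕ))⁻¹ * d ^ (i : ℕ)) := by group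
      have := orderOf_dvd_seven h hy7 hcomm
      rw [horder2 s hs hs1] at this
      norm_num at this
    have hcard7 : Nat.card {x : (S : Subgroup G) // x ≠ 1} = 7 := by
      classical
      have h5 : Nat.card {x : (S : Subgroup G) // x ≠ 1} + 1 = Nat.card (S : Subgroup G) := by
        rw [← Finite.card_option]
        exact Nat.card_congr (Equiv.optionSubtypeNe _)
      rw [hS8] at h5
      omega
    have hbij : Function.Bijective f := by
      rw [Nat.bijective_iff_injective_and_card]
      exact ⟨hinj, by rw [hcard7, Nat.card_eq_fintype_card, Fintype.card_fin]⟩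
    obtain ⟨k, hk⟩ := hbij.2 ⟨⟨s', hs'⟩, fun hh => hs1' (congrArg Subtype.val hh)⟩
    exact ⟨k, congrArg (fun z : {x : (S : Subgroup G) // x ≠ 1} => ((z : (S : Subgroup G)) : G)) hk⟩
  -- centralizers of involutions of S
  have hCs : ∀ s ∈ (S : Subgroup G), s ≠ 1 → centralizer ({s} : Set G) = (S : Subgroup G) := by
    intro s hs hs1
    symm
    obtain ⟨k, hk⟩ := hdtrans t₀ ht₀S ht₀1 s hs hs1
    apply Subgroup.eq_of_le_of_card_ge
    · intro x hx
      rw [mem_centralizer_singleton]
      exact comm_of_mem h S hs hx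
    · rw [card_centralizer_conj (isConj_iff.2 ⟨d ^ k, hk⟩ : IsConj t₀ s).symm, hC]
  -- the involution t
  obtain ⟨P, hP⟩ := exists_sylow_seven_eq h hd
  obtain ⟨t, ht, htN⟩ := exists_involution h P
  have htt : t * t = 1 := by
    rw [← pow_two, ← ht, pow_orderOf_eq_one]
  have htd : t * d * t⁻¹ = d⁻¹ := by
    apply inverts hd htt
    · rw [← hP]
      refine (mem_normalizer_iff.1 htN d).1 ?_
      rw [hP]
      exact mem_zpowers d
    · intro hh
      have := orderOf_dvd_seven h hd (show Commute d t from hh.symm)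
      rw [ht] at this
      norm_num at this
  have htS : t ∉ normalizer ((S : Subgroup G) : Set G) := by
    intro hh
    have hpg : IsPGroup 2 (zpowers t) :=
      IsPGroup.of_card (n := 1) (by rw [Nat.card_zpowers, ht, pow_one])
    have h1 := hpg.inf_normalizer_sylow S
    have h2 : t ∈ zpowers t ⊓ normalizer (S : Set G) := ⟨mem_zpowers t, hh⟩
    rw [h1] at h2
    have htS' : t ∈ (S : Subgroup G) := h2.2
    have h3 := hdS 1 t htS'
    rw [pow_one] at h3
    have h4 : d * t * d⁻¹ = t * (d⁻¹ * d⁻¹) := by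
      have h5 : d * t = t * d⁻¹ := by
        rw [← htd, ← mul_assoc, ← mul_assoc, htt, one_mul]
        rw [inv_eq_of_mul_eq_one_left htt]
      rw [h5, mul_assoc]
    rw [h4] at h3
    have h6 : d⁻¹ * d⁻¹ ∈ (S : Subgroup G) := (Subgroup.mul_mem_cancel_left _ htS').1 h3
    have h7 : (d⁻¹ * d⁻¹) * (d⁻¹ * d⁻¹) = 1 := mul_self_of_mem h S h6
    have h9 : d ^ 4 = 1 := by
      have h10 : d ^ 4 = ((d⁻¹ * d⁻¹) * (d⁻¹ * d⁻¹))⁻¹ := by group
      rw [h10, h7, inv_one]
    have h11 := orderOf_dvd_of_pow_eq_one h9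
    rw [hd] at h11
    norm_num at h11
  -- faithfulness
  have hn2 : Nat.card (Sylow 2 G) = 9 := by
    have h1 := card_sylow_mul_card_normalizer S
    have h2 : Nat.card (Sylow 2 G) * Nat.card (normalizer ((S : Subgroup G) : Set G)) = 504 := by
      rw [← h]; exact h1
    rw [hN] at h2
    omega
  have hfaith : FaithfulSMul G (Sylow 2 G) := by
    refine ⟨?_⟩
    intro g g' hgg
    by_contra hne
    obtain ⟨Q, hQ⟩ := SylowPrimeCount.exists_smul_ne (G := G) (p := 2) (by rw [hn2]; norm_num)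
      (u := g'⁻¹ * g) (by intro hh; rw [inv_mul_eq_one] at hh; exact hne hh.symm)
    apply hQ
    rw [mul_smul, hgg Q, inv_smul_smul]
  have _ : CharP F 2 := by
    obtain ⟨p, hp, n, hpp, hpn⟩ := FiniteField.card' F
    rw [hF] at hpn
    have h1 : p ∣ 2 ^ 3 := by
      have h2 : (2 : ℕ) ^ 3 = p ^ (n : ℕ) := by rw [← hpn]; norm_num
      rw [h2]
      exact dvd_pow_self p n.ne_zero
    have h3 : p = 2 := (Nat.prime_dvd_prime_iff_eq hpp Nat.prime_two).1 (hpp.dvd_of_dvd_pow h1)
    rw [← h3]
    exact hp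
  have hinS : ∀ (s : G) (Q : Sylow 2 G), orderOf s = 2 → s • Q = Q → s ∈ (Q : Subgroup G) := by
    intro s Q hs hsQ
    have hpg : IsPGroup 2 (zpowers s) :=
      IsPGroup.of_card (n := 1) (by rw [Nat.card_zpowers, hs, pow_one])
    have h1 := hpg.inf_normalizer_sylow Q
    have h2 : s ∈ zpowers s ⊓ normalizer (Q : Set G) :=
      ⟨mem_zpowers s, Sylow.smul_eq_iff_mem_normalizer.1 hsQ⟩
    rw [h1] at h2
    exact h2.2
  have hfree : ∀ s ∈ (S : Subgroup G), s • t • S = t • S → s = 1 := by
    intro s hs hsS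
    by_contra hs1
    have h1 := hinS s (t • S) (horder2 s hs hs1) hsS
    have h2 : ((t • S : Sylow 2 G) : Subgroup G) ≤ centralizer ({s} : Set G) := by
      intro x hx
      rw [mem_centralizer_singleton]
      exact comm_of_mem h (t • S) h1 hx
    rw [hCs s hs hs1] at h2
    have h3 : t • S = S := by
      apply Sylow.ext
      apply Subgroup.eq_of_le_of_card_ge h2
      rw [hS8, card_sylow_two_eq h]
    exact htS (Sylow.smul_eq_iff_mem_normalizer.1 h3)
  have hSS : ∀ s ∈ (S : Subgroup G), s • S = S := by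
    intro s hs
    rw [Sylow.smul_eq_iff_mem_normalizer]
    exact le_normalizer hs
  have htS' : t • S ≠ S := fun hh => htS (Sylow.smul_eq_iff_mem_normalizer.1 hh)
  refine PSL2EvenRecog.psl2_even_of_perm (Ω := Sylow 2 G) (S : Subgroup G)
    (fun s hs => mul_self_of_mem h S hs) (by rw [hS8, Nat.card_eq_fintype_card, hF]) S d t hSS
    htS' ?_ hfree (fun s hs => by have := hdS 1 s hs; rwa [pow_one] at this) hdtrans ?_ htt htd ?_
  · -- transitivity by counting
    intro Q hQ
    have hne : ∀ s ∈ (S : Subgroup G), s • t • S ≠ S := by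
      intro s hs hh
      apply htS'
      have : s • t • S = s • S := by rw [hh, hSS s hs]
      exact smul_left_cancel s this
    let f : ↥(S : Subgroup G) → {Q : Sylow 2 G // Q ≠ S} := fun s => ⟨(s : G) • t • S, hne s s.2⟩
    have hinj : Function.Injective f := by
      intro a b hab
      have h1 : (a : G) • t • S = (b : G) • t • S := congrArg Subtype.val hab
      have h2 : ((b : G)⁻¹ * a) • t • S = t • S := by
        rw [mul_smul, h1, inv_smul_smul]
      have h3 := hfree _ (mul_mem (inv_mem b.2) a.2) h2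
      rw [inv_mul_eq_one] at h3
      exact Subtype.ext h3.symm
    have hcard : Nat.card {Q : Sylow 2 G // Q ≠ S} = 8 := by
      classical
      have h5 : Nat.card {Q : Sylow 2 G // Q ≠ S} + 1 = Nat.card (Sylow 2 G) := by
        rw [← Finite.card_option]
        exact Nat.card_congr (Equiv.optionSubtypeNe _)
      rw [hn2] at h5
      omega
    have hbij : Function.Bijective f := by
      rw [Nat.bijective_iff_injective_and_card]
      exact ⟨hinj, by rw [hcard, hS8]⟩
    obtain ⟨s, hs⟩ := hbij.2 ⟨Q, hQ⟩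
    exact ⟨s, s.2, congrArg Subtype.val hs⟩
  · rw [Sylow.smul_eq_iff_mem_normalizer]
    exact hdN
  · rw [h, Nat.card_eq_fintype_card, hF]
    norm_num

end Cfsg.Agent.SmallSimple.Simple504D
end

-- part: S1011
section
set_option autoImplicit false
open Cfsg

namespace Cfsg.Agent.S1011

/-- A simple group of order 504 is isomorphic to the projective special linear group of dimension 2 over the field with 8 elements. -/
theorem result {G : Type*} [Group G] [Finite G] [IsSimpleGroup G] (h : Nat.card G = 504) {F : Type*} [Field F] [Fintype F] (hF : Fintype.card F = 8) : Nonempty (G ≃* Matrix.ProjectiveSpecialLinearGroup (Fin 2) F) := by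
  exact Cfsg.Agent.SmallSimple.Simple504D.iso h hF

end Cfsg.Agent.S1011
end
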