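import Cfsg.Statements.S1016
import Cfsg.Agent.S1019
import Cfsg.Agent.SmallSimple.BurnsideNC
import Cfsg.Agent.SmallSimple.Parity
import Cfsg.Agent.SmallSimple.SylowPrime
set_option linter.all false

set_option autoImplicit false
open Cfsg

namespace Cfsg.Agent.S1016

open Subgroup Cfsg.Agent.SmallSimple.SylowCount

/-- Elements of `5`-power order of `N(P)` lie in `P`. -/
theorem mem_of_order {G : Type*} [Group G] {p : ℕ} [hp : Fact p.Prime] (P : Sylow p G)
    {y : G} {n : ℕ} (hy : y ^ (p ^ n) = 1) (hyN : y ∈ normalizer (P : Set G)) : y ∈ P := by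
  have h1 : IsPGroup p (zpowers y) := by
    have h2 : orderOf y ∣ p ^ n := orderOf_dvd_of_pow_eq_one hy
    obtain ⟨k, hk, hk2⟩ := (Nat.dvd_prime_pow hp.out).1 h2
    exact IsPGroup.of_card (n := k) (by rw [Nat.card_zpowers, hk2])
  have h2 := h1.inf_normalizer_sylow P
  have h3 : y ∈ zpowers y ⊓ normalizer (P : Set G) := ⟨mem_zpowers y, hyN⟩
  rw [h2] at h3
  exact h3.2

/-- Sylow subgroups of order `p` with a common nonidentity element are equal. -/
theorem eq_of_mem {G : Type*} [Group G] {p : ℕ} [hp : Fact p.Prime] {P Q : Sylow p G}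
    (hP : Nat.card P = p) (hQ : Nat.card Q = p) {x : G} (hx1 : x ≠ 1) (hxP : x ∈ P) (hxQ : x ∈ Q) :
    P = Q := by
  apply Sylow.ext
  apply le_antisymm
  · intro y hy
    have := Cfsg.Agent.SmallSimple.SylowPrime.mem_zpowers_of_card_prime hp.out hP hxP hx1 hy
    exact (zpowers_le.2 hxQ) this
  · intro y hy
    have := Cfsg.Agent.SmallSimple.SylowPrime.mem_zpowers_of_card_prime hp.out hQ hxQ hx1 hy
    exact (zpowers_le.2 hxP) this

/-- In a simple group with more than one Sylow subgroup the conjugation action on the Sylow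
subgroups is faithful. -/
theorem eq_one_of_smul_sylow {G : Type*} [Group G] [Finite G] [IsSimpleGroup G] {p : ℕ}
    [hp : Fact p.Prime] (hn : Nat.card (Sylow p G) ≠ 1) {x : G}
    (hx : ∀ Q : Sylow p G, x • Q = Q) : x = 1 := by
  have hker : (MulAction.toPermHom G (Sylow p G)).ker = ⊥ := by
    rcases (inferInstance : (MulAction.toPermHom G (Sylow p G)).ker.Normal).eq_bot_or_eq_top
      with h | h
    · exact h
    · exfalso
      apply hn
      have hall : ∀ (g : G) (Q : Sylow p G), g • Q = Q := by
        intro g Q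
        have h1 : g ∈ (MulAction.toPermHom G (Sylow p G)).ker := by rw [h]; exact mem_top g
        have h2 := congrArg (fun f : Equiv.Perm (Sylow p G) => f Q) (MonoidHom.mem_ker.1 h1)
        exact h2
      have : Subsingleton (Sylow p G) := ⟨fun a b => by
        obtain ⟨g, hg⟩ := MulAction.exists_smul_eq G a b
        rw [← hg, hall]⟩
      obtain ⟨P⟩ : Nonempty (Sylow p G) := inferInstance
      exact Nat.card_of_subsingleton P
  have h1 : x ∈ (MulAction.toPermHom G (Sylow p G)).ker := by
    rw [MonoidHom.mem_ker]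
    ext1 Q
    exact hx Q
  rw [hker] at h1
  exact mem_bot.1 h1

/-- The case of 16 Sylow 5-subgroups. -/
theorem aux16 {G : Type*} [Group G] [Finite G] [IsSimpleGroup G] [hp : Fact (Nat.Prime 5)]
    (hP : ∀ P : Sylow 5 G, Nat.card P = 5) (P : Sylow 5 G)
    (hC : Nat.card (centralizer (P : Set G)) = 45)
    (h16 : Nat.card (Sylow 5 G) = 16) : False := by
  classical
  set C := centralizer (P : Set G) with hCdef
  -- another Sylow subgroup
  obtain ⟨Q, hQ⟩ : ∃ Q : Sylow 5 G, Q ≠ P := by
    by_contra hcon
    push Not at hcon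
    have : Subsingleton (Sylow 5 G) := ⟨fun a b => (hcon a).trans (hcon b).symm⟩
    have := Nat.card_of_subsingleton (α := Sylow 5 G) P
    omega
  have hNQ : (normalizer (Q : Set G)).index = 16 := by
    rw [← h16, Q.card_eq_index_normalizer]
  have hrel : (normalizer (Q : Set G)).relIndex C ≤ 16 := by
    rw [← hNQ, ← relIndex_top_right]
    exact relIndex_le_of_le_right le_top (by rw [relIndex_top_right, hNQ]; norm_num)
  have hmul : Nat.card (C ⊓ normalizer (Q : Set G) : Subgroup G) *
      (normalizer (Q : Set G)).relIndex C = 45 := by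
    rw [← hC, ← (card_mul_index ((normalizer (Q : Set G)).subgroupOf C))]
    congr 1
    rw [← Subgroup.inf_subgroupOf_left]
    exact (Nat.card_congr (Subgroup.subgroupOfEquivOfLe inf_le_left).toEquiv).symm
  set D : Subgroup G := C ⊓ normalizer (Q : Set G) with hD
  have h5 : ¬ 5 ∣ Nat.card D := by
    intro h
    obtain ⟨x, hx⟩ := exists_prime_orderOf_dvd_card' 5 h
    have hx5 : orderOf (x : G) = 5 := (Subgroup.orderOf_coe x).trans hx
    have hxC : (x : G) ∈ C := (mem_inf.1 x.2).1
    have hxN : (x : G) ∈ normalizer (Q : Set G) := (mem_inf.1 x.2).2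
    have h1 : (x : G) ∈ P := Cfsg.Agent.SmallSimple.SylowPrime.mem_of_mem_normalizer_sylow hx5
      (centralizer_le_normalizer _ hxC)
    have h2 : (x : G) ∈ Q := Cfsg.Agent.SmallSimple.SylowPrime.mem_of_mem_normalizer_sylow hx5 hxN
    apply hQ
    refine eq_of_mem (hP Q) (hP P) (x := (x : G)) ?_ h2 h1
    intro h3
    rw [h3, orderOf_one] at hx5
    omega
  have h3 : 3 ∣ Nat.card D := by
    have h6 : Nat.card D ∣ 45 := ⟨_, hmul.symm⟩
    have h7 : Nat.card D ≠ 1 := by
      intro h
      rw [h] at hmul
      omega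
    have h8 : Nat.card D ≤ 45 := Nat.le_of_dvd (by norm_num) h6
    generalize Nat.card D = d at *
    interval_cases d <;> omega
  obtain ⟨τ, hτ⟩ := @exists_prime_orderOf_dvd_card' _ _ _ 3 ⟨by norm_num⟩ h3
  have hτ3 : orderOf (τ : G) = 3 := by rw [← hτ]; exact Subgroup.orderOf_coe τ
  have hτC : (τ : G) ∈ C := (mem_inf.1 τ.2).1
  have hτN : (τ : G) ∈ normalizer (Q : Set G) := (mem_inf.1 τ.2).2
  -- the fixed points of τ
  set F : Set (Sylow 5 G) := {R | (τ : G) • R = R} with hF
  have hmod3 : Nat.card (Sylow 5 G) ≡ Nat.card F [MOD 3] := by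
    have : Fact (Nat.Prime 3) := ⟨by norm_num⟩
    have h1 : IsPGroup 3 (zpowers (τ : G)) :=
      IsPGroup.of_card (n := 1) (by rw [Nat.card_zpowers, hτ3, pow_one])
    have h2 := h1.card_modEq_card_fixedPoints (Sylow 5 G)
    have h4 : MulAction.fixedPoints (zpowers (τ : G)) (Sylow 5 G) = F := by
      ext R
      rw [MulAction.mem_fixedPoints]
      constructor
      · intro h
        exact h ⟨τ, mem_zpowers _⟩
      · rintro h ⟨g, hg⟩
        have h6 : (τ : G) ∈ MulAction.stabilizer G R := h
        exact (zpowers_le.2 h6) hg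
    rwa [h4] at h2
  have hmod5 : Nat.card F ≡ 1 [MOD 5] := by
    let act : MulAction (P : Subgroup G) F :=
      { smul := fun g R => ⟨(g : G) • R.1, by
          have h1 : (τ : G) * g = g * τ := (mem_centralizer_iff.1 hτC g g.2).symm
          have h2 : (τ : G) • R.1 = R.1 := R.2
          show (τ : G) • (g : G) • R.1 = (g : G) • R.1
          rw [← mul_smul, h1, mul_smul, h2]⟩
        one_smul := fun R => Subtype.ext (one_smul G R.1)
        mul_smul := fun g h R => Subtype.ext (mul_smul (g : G) (h : G) R.1) }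
    have h1 := P.isPGroup'.card_modEq_card_fixedPoints F
    have hPF : P ∈ F := by
      show (τ : G) • P = P
      rw [Sylow.smul_eq_iff_mem_normalizer]
      exact centralizer_le_normalizer _ hτC
    have h2 : Nat.card (MulAction.fixedPoints (P : Subgroup G) F) = 1 := by
      rw [Nat.card_eq_one_iff_unique]
      refine ⟨⟨?_⟩, ⟨⟨⟨P, hPF⟩, ?_⟩⟩⟩
      · have key : ∀ R : MulAction.fixedPoints (P : Subgroup G) F, R.1.1 = P := by
          rintro ⟨⟨R, hR⟩, hR2⟩
          show R = P
          obtain ⟨x, hx⟩ := exists_prime_orderOf_dvd_card' 5 (G := (P : Subgroup G))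
            (by rw [hP P])
          have hx5 : orderOf (x : G) = 5 := (Subgroup.orderOf_coe x).trans hx
          have h3 : (x : G) • R = R := congrArg Subtype.val (hR2 x)
          rw [Sylow.smul_eq_iff_mem_normalizer] at h3
          have h4 := Cfsg.Agent.SmallSimple.SylowPrime.mem_of_mem_normalizer_sylow hx5 h3
          refine eq_of_mem (hP R) (hP P) (x := (x : G)) ?_ h4 x.2
          intro h3
          rw [h3, orderOf_one] at hx5
          omega
        intro a b
        exact Subtype.ext (Subtype.ext ((key a).trans (key b).symm))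
      · intro g
        apply Subtype.ext
        show (g : G) • P = P
        rw [Sylow.smul_eq_iff_mem_normalizer]
        exact le_normalizer g.2
    rwa [h2] at h1
  have hPF : P ∈ F := by
    show (τ : G) • P = P
    rw [Sylow.smul_eq_iff_mem_normalizer]
    exact centralizer_le_normalizer _ hτC
  have hQF : Q ∈ F := by
    show (τ : G) • Q = Q
    rw [Sylow.smul_eq_iff_mem_normalizer]
    exact hτN
  have hF1 : Nat.card F ≠ 1 := by
    intro h
    rw [Nat.card_eq_one_iff_unique] at h
    have := h.1.elim ⟨P, hPF⟩ ⟨Q, hQF⟩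
    exact hQ (congrArg Subtype.val this).symm
  have hFle : Nat.card F ≤ 16 := by
    rw [← h16]
    exact Nat.card_le_card_of_injective _ Subtype.val_injective
  have hF16 : Nat.card F = 16 := by
    rw [h16] at hmod3
    generalize Nat.card F = f at *
    unfold Nat.ModEq at *
    interval_cases f <;> omega
  have hFtop : F = Set.univ := by
    rw [Set.eq_univ_iff_ncard, h16, ← hF16]
    rfl
  have h1 : (τ : G) = 1 := by
    refine eq_one_of_smul_sylow (p := 5) (by rw [h16]; norm_num) ?_
    intro R
    have : R ∈ F := by rw [hFtop]; trivial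
    exact this
  rw [h1, orderOf_one] at hτ3
  omega

/-- A nontrivial normal subgroup of a finite `p`-group contains a central element of order `p`. -/
theorem exists_central_of_normal {S : Type*} [Group S] [Finite S] {p : ℕ} [hp : Fact p.Prime]
    (hS : IsPGroup p S) (K : Subgroup S) [hK : K.Normal] (hK1 : K ≠ ⊥) :
    ∃ t : S, t ∈ K ∧ t ∈ center S ∧ orderOf t = p := by
  have hpK : p ∣ Nat.card K := by
    rcases (hS.to_subgroup K).card_eq_or_dvd with h | h
    · exact absurd (eq_bot_of_card_eq K h) hK1
    · exact h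
  let act : MulAction S K :=
    { smul := fun g k => ⟨g * k * g⁻¹, hK.conj_mem k k.2 g⟩
      one_smul := fun k => Subtype.ext (by show (1 : S) * k * 1⁻¹ = k; simp)
      mul_smul := fun g h k => Subtype.ext (by
        show (g * h) * (k : S) * (g * h)⁻¹ = g * (h * k * h⁻¹) * g⁻¹
        group) }
  obtain ⟨b, hb, hb1⟩ := hS.exists_fixed_point_of_prime_dvd_card_of_fixed_point K hpK
    (a := (1 : K)) (fun g => Subtype.ext (by show g * 1 * g⁻¹ = 1; simp))
  have hbc : (b : S) ∈ center S := by
    rw [mem_center_iff]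
    intro g
    have h1 : g * (b : S) * g⁻¹ = b := congrArg Subtype.val (hb g)
    exact mul_inv_eq_iff_eq_mul.1 h1
  have hb2 : (b : S) ≠ 1 := fun h => hb1 (Subtype.ext h.symm)
  -- take a power of order `p`
  obtain ⟨k, hk⟩ := (IsPGroup.iff_orderOf.1 hS) (b : S)
  have hk0 : k ≠ 0 := by
    rintro rfl
    rw [pow_zero, orderOf_eq_one_iff] at hk
    exact hb2 hk
  refine ⟨(b : S) ^ (p ^ (k - 1)), K.pow_mem b.2 _, (center S).pow_mem hbc _, ?_⟩
  have h3 : p ^ k = p ^ (k - 1) * p := by
    rw [← pow_succ]
    congr 1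
    omega
  rw [orderOf_pow' _ (pow_ne_zero _ hp.out.ne_zero), hk]
  rw [Nat.gcd_eq_right (by rw [h3]; exact Dvd.intro _ rfl), h3,
    Nat.mul_div_cancel_left _ (pow_pos hp.out.pos _)]

theorem units_unique (n : ℕ) (hn : n = 5) : ∀ u v : (ZMod n)ˣ,
    u ^ 2 = 1 → v ^ 2 = 1 → u ≠ 1 → v ≠ 1 → u = v := by
  subst hn
  decide

/-- In an automorphism group of a group of order 5 the automorphisms of order 2 coincide. -/
theorem mulAut_unique {P : Type*} [Group P] [Finite P] (hP : Nat.card P = 5) (a b : MulAut P)
    (ha : a ^ 2 = 1) (hb : b ^ 2 = 1) (ha1 : a ≠ 1) (hb1 : b ≠ 1) : a = b := by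
  have hp : Fact (Nat.Prime 5) := ⟨by norm_num⟩
  have hc : IsCyclic P := isCyclic_of_prime_card hP
  have e : MulAut P ≃* (ZMod (Nat.card P))ˣ := IsCyclic.mulAutMulEquiv P
  apply e.injective
  apply units_unique _ hP
  · rw [← map_pow, ha, map_one]
  · rw [← map_pow, hb, map_one]
  · intro h
    exact ha1 (e.injective (h.trans (map_one e).symm))
  · intro h
    exact hb1 (e.injective (h.trans (map_one e).symm))

theorem card_conj_eq_index {G : Type*} [Group G] [Finite G] (t : G) :
    Nat.card {g : G // IsConj t g} = (centralizer ({t} : Set G)).index := by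
  let f : G ⧸ centralizer ({t} : Set G) → {g : G // IsConj t g} :=
    Quotient.lift (fun g : G => (⟨g * t * g⁻¹, isConj_iff.2 ⟨g, rfl⟩⟩ : {g : G // IsConj t g}))
      (by
        intro a b hab
        have h1 : a⁻¹ * b ∈ centralizer ({t} : Set G) := QuotientGroup.leftRel_apply.1 hab
        rw [mem_centralizer_singleton_iff] at h1
        apply Subtype.ext
        show a * t * a⁻¹ = b * t * b⁻¹
        have h2 : a * t * a⁻¹ = a * ((a⁻¹ * b) * t * (a⁻¹ * b)⁻¹) * a⁻¹ := by
          rw [h1]; group
        rw [h2]; group)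
  refine (Nat.card_congr (Equiv.ofBijective f ⟨?_, ?_⟩)).symm
  · intro a b
    refine Quotient.inductionOn₂ a b ?_
    intro a b hab
    have h1 : a * t * a⁻¹ = b * t * b⁻¹ := congrArg Subtype.val hab
    apply Quotient.sound
    apply QuotientGroup.leftRel_apply.2
    rw [mem_centralizer_singleton_iff]
    have h2 : a⁻¹ * b * t = a⁻¹ * (b * t * b⁻¹) * b := by group
    rw [h2, ← h1]; group
  · rintro ⟨g, hg⟩
    obtain ⟨c, hc⟩ := isConj_iff.1 hg
    exact ⟨(c : G ⧸ centralizer ({t} : Set G)), Subtype.ext hc⟩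

/-- The case of 36 Sylow 5-subgroups. -/
theorem aux36 {G : Type*} [Group G] [Finite G] [IsSimpleGroup G] [hp : Fact (Nat.Prime 5)]
    (hG : Nat.card G = 1440)
    (hP : ∀ P : Sylow 5 G, Nat.card P = 5) (P : Sylow 5 G)
    (hC : Nat.card (centralizer (P : Set G)) = 10 ∨ Nat.card (centralizer (P : Set G)) = 20)
    (h36 : Nat.card (Sylow 5 G) = 36) : False := by
  classical
  set C := centralizer (P : Set G) with hCdef
  set N := normalizer (P : Set G) with hNdef
  have hCN : C ≤ N := centralizer_le_normalizer _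
  have hPN : (P : Subgroup G) ≤ N := le_normalizer
  have hPC : (P : Subgroup G) ≤ C := by
    intro x hx
    rw [hCdef, mem_centralizer_iff]
    intro y hy
    have hcyc : IsCyclic (P : Subgroup G) := isCyclic_of_prime_card (hP P)
    exact congrArg Subtype.val (hcyc.isMulCommutative.is_comm.comm (⟨y, hy⟩ : (P : Subgroup G))
      ⟨x, hx⟩)
  have hNidx : N.index = 36 := by rw [← h36, P.card_eq_index_normalizer]
  have hN : Nat.card N = 40 := by
    have := N.card_mul_index
    rw [hNidx, hG] at this
    omega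
  -- a subgroup of order 8 of N
  have h2 : Fact (Nat.Prime 2) := ⟨Nat.prime_two⟩
  obtain ⟨S0, hS0⟩ := Sylow.exists_subgroup_card_pow_prime (G := N) 2 (n := 3) (by rw [hN]; norm_num)
  -- t central in S0, centralizing P
  obtain ⟨t, htC, ht2, htN⟩ : ∃ t : G, t ∈ C ∧ orderOf t = 2 ∧ ∀ g ∈ N, g * t = t * g := by
    have hK : (C.subgroupOf N).subgroupOf S0 ≠ ⊥ := by
      intro h
      have h3 : ((C.subgroupOf N).subgroupOf S0).index ≤ (C.subgroupOf N).index := by
        show (C.subgroupOf N).relIndex S0 ≤ (C.subgroupOf N).index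
        rw [← relIndex_top_right]
        exact relIndex_le_of_le_right le_top index_ne_zero_of_finite
      rw [h, index_bot, hS0] at h3
      have h4 := (C.subgroupOf N).card_mul_index
      rw [hN, Nat.card_congr (subgroupOfEquivOfLe hCN).toEquiv] at h4
      rcases hC with hC | hC
      · rw [hC] at h4
        omega
      · rw [hC] at h4
        omega
    have hnorm : (C.subgroupOf N).Normal := inferInstance
    have hnorm2 : ((C.subgroupOf N).subgroupOf S0).Normal := hnorm.comap _
    obtain ⟨t0, ht0K, ht0c, ht02⟩ := exists_central_of_normal (S := S0) (p := 2)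
      (IsPGroup.of_card hS0) _ hK
    have ht0K' : (t0 : N) ∈ C.subgroupOf N := ht0K
    refine ⟨((t0 : N) : G), ht0K', ?_, ?_⟩
    · rw [Subgroup.orderOf_coe, Subgroup.orderOf_coe, ht02]
    · -- the centralizer of t0 in N
      have hT : centralizer ({(t0 : N)} : Set N) = ⊤ := by
        apply eq_top_of_card_eq
        apply Nat.dvd_antisymm (card_subgroup_dvd_card _)
        rw [hN]
        have h8 : 8 ∣ Nat.card (centralizer ({(t0 : N)} : Set N)) := by
          have : S0 ≤ centralizer ({(t0 : N)} : Set N) := by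
            intro s hs
            rw [mem_centralizer_singleton_iff]
            exact congrArg Subtype.val ((mem_center_iff.1 ht0c) ⟨s, hs⟩)
          have h := card_dvd_of_le this
          rwa [hS0] at h
        have h5 : 5 ∣ Nat.card (centralizer ({(t0 : N)} : Set N)) := by
          have : (P : Subgroup G).subgroupOf N ≤ centralizer ({(t0 : N)} : Set N) := by
            intro s hs
            rw [mem_centralizer_singleton_iff]
            apply Subtype.ext
            exact (mem_centralizer_iff.1 ht0K') s hs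
          have h := card_dvd_of_le this
          rwa [Nat.card_congr (subgroupOfEquivOfLe hPN).toEquiv, hP P] at h
        exact Nat.Coprime.mul_dvd_of_dvd_of_dvd (by norm_num : Nat.Coprime 8 5) h8 h5
      intro g hg
      have h3 : (⟨g, hg⟩ : N) ∈ centralizer ({(t0 : N)} : Set N) := by rw [hT]; exact mem_top _
      rw [mem_centralizer_singleton_iff] at h3
      exact congrArg Subtype.val h3
  have ht2' : t ^ 2 = 1 := by rw [← ht2, pow_orderOf_eq_one]
  have ht1 : t ≠ 1 := by
    rintro rfl
    rw [orderOf_one] at ht2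
    omega
  -- the centralizer of t is N
  have hcentN : centralizer ({t} : Set G) = N := by
    set H := centralizer ({t} : Set G) with hH
    have hNH : N ≤ H := by
      intro g hg
      rw [hH, mem_centralizer_singleton_iff]
      exact htN g hg
    have hHtop : H ≠ ⊤ := by
      intro h
      have htc : t ∈ center G := by
        rw [mem_center_iff]
        intro g
        have : g ∈ H := by rw [h]; exact mem_top g
        exact mem_centralizer_singleton_iff.1 this
      rcases (inferInstance : (center G).Normal).eq_bot_or_eq_top with h1 | h1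
      · rw [h1] at htc
        exact ht1 (mem_bot.1 htc)
      · have h3 : N = ⊤ := by
          rw [eq_top_iff]
          intro g _
          apply hCN
          rw [hCdef, mem_centralizer_iff]
          intro y _
          have : g ∈ center G := by rw [h1]; exact mem_top g
          exact (mem_center_iff.1 this y)
        rw [h3, index_top] at hNidx
        omega
    have h7 : 7 < H.index := by
      by_contra hcon
      have h3 := (card_dvd_factorial_index H hHtop).trans
        (Nat.factorial_dvd_factorial (not_lt.1 hcon))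
      rw [hG] at h3
      revert h3
      decide
    have hPH : (P : Subgroup G) ≤ H := hPN.trans hNH
    have hm := card_sylow_modEq_one 5 H
    rw [(P.subtype hPH).card_eq_index_normalizer] at hm
    have h9 : normalizer ((P.subtype hPH : Sylow 5 H) : Set H) = N.subgroupOf H :=
      (subgroupOf_normalizer_eq hPH).symm
    rw [h9] at hm
    have hmul : N.relIndex H * H.index = 36 := by rw [relIndex_mul_index hNH, hNidx]
    have hm' : N.relIndex H ≡ 1 [MOD 5] := hm
    have h1 : N.relIndex H = 1 := by
      have h3 : N.relIndex H ≤ 4 := by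
        by_contra hcon
        push Not at hcon
        nlinarith
      unfold Nat.ModEq at hm'
      omega
    exact le_antisymm (relIndex_eq_one.1 h1) hNH
  have hconj : ∀ g : G, g⁻¹ * t * g ∈ C → g ∈ N := by
    intro g hg
    have h1 : ∀ x ∈ P, g * x * g⁻¹ ∈ P := by
      intro x hx
      apply mem_of_order (p := 5) (n := 1)
      · have h4 : orderOf x ∣ 5 :=
          ((P : Subgroup G).orderOf_dvd_natCard hx).trans (dvd_of_eq (hP P))
        have h5 : x ^ 5 = 1 := orderOf_dvd_iff_pow_eq_one.1 h4
        rw [pow_one, conj_pow, h5]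
        simp
      · show g * x * g⁻¹ ∈ N
        rw [← hcentN, mem_centralizer_singleton_iff]
        have h3 : x * (g⁻¹ * t * g) = (g⁻¹ * t * g) * x := (mem_centralizer_iff.1 hg) x hx
        calc g * x * g⁻¹ * t = g * (x * (g⁻¹ * t * g)) * g⁻¹ := by group
          _ = g * ((g⁻¹ * t * g) * x) * g⁻¹ := by rw [h3]
          _ = t * (g * x * g⁻¹) := by group
    rw [hNdef, ← Sylow.smul_eq_iff_mem_normalizer]
    apply Sylow.ext
    refine Subgroup.eq_of_le_of_card_ge ?_ ?_
    · rintro y ⟨x, hx, rfl⟩
      exact h1 x hx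
    · rw [hP (g • P), hP P]
  -- count
  have hct : Nat.card {g : G // IsConj t g} = 36 := by
    rw [card_conj_eq_index, hcentN, hNidx]
  have hctC : Nat.card {g : G // IsConj t g ∧ g ∈ C} = 1 := by
    rw [Nat.card_eq_one_iff_unique]
    refine ⟨⟨?_⟩, ⟨⟨t, IsConj.refl t, htC⟩⟩⟩
    have key : ∀ a : {g : G // IsConj t g ∧ g ∈ C}, a.1 = t := by
      rintro ⟨a, ha1, ha2⟩
      obtain ⟨c, rfl⟩ := isConj_iff.1 ha1
      have h3 := hconj c⁻¹ (by rw [inv_inv]; exact ha2)
      have h4 := htN c (by simpa using N.inv_mem h3)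
      show c * t * c⁻¹ = t
      rw [h4]; group
    intro a b
    exact Subtype.ext ((key a).trans (key b).symm)
  have h2lt : 2 < Nat.card G := by rw [hG]; norm_num
  rcases hC with hC | hC
  · -- `|C| = 10`
    have h3 := Cfsg.Agent.S1019.result N t (hCN htC)
    rw [hct, hNidx] at h3
    obtain ⟨k, hk⟩ := Cfsg.Agent.SmallSimple.Parity.card_modEq_four (X := G ⧸ N) h2lt t ht2'
    have h4 : Nat.card (G ⧸ N) = 36 := hNidx
    rw [h4] at hk
    have h5 : Nat.card (MulAction.fixedBy (G ⧸ N) t) = Nat.card {x : G ⧸ N // t • x = x} := rfl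
    rw [h5] at h3
    -- action of P on the conjugates of t in N
    have h6 : Nat.card {g : G // IsConj t g ∧ g ∈ N} ≡ 1 [MOD 5] := by
      let act : MulAction (P : Subgroup G) {g : G // IsConj t g ∧ g ∈ N} :=
        { smul := fun x g => ⟨(x : G) * g.1 * (x : G)⁻¹, g.2.1.trans (isConj_iff.2 ⟨x, rfl⟩),
            N.mul_mem (N.mul_mem (hPN x.2) g.2.2) (N.inv_mem (hPN x.2))⟩
          one_smul := fun g => Subtype.ext (by
            show (1 : G) * g.1 * (1 : G)⁻¹ = g.1
            simp)
          mul_smul := fun x y g => Subtype.ext (by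
            show ((x : G) * (y : G)) * g.1 * ((x : G) * (y : G))⁻¹ =
              (x : G) * ((y : G) * g.1 * (y : G)⁻¹) * (x : G)⁻¹
            group) }
      have h7 := P.isPGroup'.card_modEq_card_fixedPoints {g : G // IsConj t g ∧ g ∈ N}
      have h8 : Nat.card (MulAction.fixedPoints (P : Subgroup G) {g : G // IsConj t g ∧ g ∈ N})
          = Nat.card {g : G // IsConj t g ∧ g ∈ C} := by
        refine Nat.card_congr
          { toFun := fun a => ⟨a.1.1, a.1.2.1, ?_⟩
            invFun := fun a => ⟨⟨a.1, a.2.1, hCN a.2.2⟩, ?_⟩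
            left_inv := fun a => rfl
            right_inv := fun a => rfl }
        · rw [hCdef, mem_centralizer_iff]
          intro x hx
          have h9 : x * a.1.1 * x⁻¹ = a.1.1 := congrArg Subtype.val (a.2 ⟨x, hx⟩)
          exact mul_inv_eq_iff_eq_mul.1 h9
        · intro x
          apply Subtype.ext
          show (x : G) * a.1 * (x : G)⁻¹ = a.1
          rw [mul_inv_eq_iff_eq_mul]
          exact (mem_centralizer_iff.1 a.2.2) x x.2
      rwa [h8, hctC] at h7
    -- upper bound
    have h7 : Nat.card {g : G // IsConj t g ∧ g ∈ N} ≤ 11 := by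
      by_cases hu : ∃ u : {g : G // IsConj t g ∧ g ∈ N}, u.1 ∉ C
      · obtain ⟨u, huC⟩ := hu
        have hker := (P : Subgroup G).normalizerMonoidHom_ker
        set φ := (P : Subgroup G).normalizerMonoidHom with hφ
        have hsq : ∀ g : {g : G // IsConj t g ∧ g ∈ N}, (⟨g.1, g.2.2⟩ : N) ^ 2 = 1 := by
          rintro ⟨g, hg1, hg2⟩
          obtain ⟨c, rfl⟩ := isConj_iff.1 hg1
          apply Subtype.ext
          show (c * t * c⁻¹) ^ 2 = 1
          rw [conj_pow, ht2']
          simp
        have hφ1 : ∀ g : {g : G // IsConj t g ∧ g ∈ N}, g.1 ∉ C → φ ⟨g.1, g.2.2⟩ ≠ 1 := by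
          intro g hg h
          have h8 : (⟨g.1, g.2.2⟩ : N) ∈ φ.ker := h
          rw [hker] at h8
          exact hg h8
        have hφ2 : ∀ g : {g : G // IsConj t g ∧ g ∈ N}, φ ⟨g.1, g.2.2⟩ ^ 2 = 1 := by
          intro g
          rw [← map_pow, hsq, map_one]
        have hmem : ∀ g : {g : G // IsConj t g ∧ g ∈ N}, g.1 ∉ C → g.1 * u.1⁻¹ ∈ C := by
          intro g hg
          have h8 := mulAut_unique (hP P) _ _ (hφ2 g) (hφ2 u) (hφ1 g hg) (hφ1 u huC)
          have h9 : (⟨g.1, g.2.2⟩ * (⟨u.1, u.2.2⟩)⁻¹ : N) ∈ φ.ker := by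
            rw [MonoidHom.mem_ker, map_mul, map_inv, h8, mul_inv_cancel]
          rw [hker] at h9
          exact h9
        have h8 : Nat.card (Option C) = 11 := by
          rw [Finite.card_option, hC]
        rw [← h8]
        refine Nat.card_le_card_of_injective
          (fun g : {g : G // IsConj t g ∧ g ∈ N} =>
            if h : g.1 ∈ C then (none : Option C) else some ⟨g.1 * u.1⁻¹, hmem g h⟩) ?_
        intro a b hab
        have hsub : Subsingleton {g : G // IsConj t g ∧ g ∈ C} :=
          (Nat.card_eq_one_iff_unique.1 hctC).1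
        by_cases ha : a.1 ∈ C
        · by_cases hb : b.1 ∈ C
          · have h10 := hsub.elim ⟨a.1, a.2.1, ha⟩ ⟨b.1, b.2.1, hb⟩
            exact Subtype.ext (Subtype.mk.inj h10)
          · simp [ha, hb] at hab
        · by_cases hb : b.1 ∈ C
          · simp [ha, hb] at hab
          · simp only [ha, hb, dif_neg, not_false_eq_true, Option.some.injEq, Subtype.mk.injEq]
              at hab
            exact Subtype.ext (mul_right_cancel hab)
      · push Not at hu
        have : Nat.card {g : G // IsConj t g ∧ g ∈ N} ≤ Nat.card {g : G // IsConj t g ∧ g ∈ C} :=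
          Nat.card_le_card_of_injective (fun a => ⟨a.1, a.2.1, hu a⟩)
            (fun a b hab => Subtype.ext (Subtype.mk.inj hab))
        omega
    have h8 : Nat.card {x : G ⧸ N // t • x = x} = Nat.card {g : G // IsConj t g ∧ g ∈ N} := by
      omega
    rw [h8] at hk
    unfold Nat.ModEq at h6
    omega
  · -- `|C| = 20`
    have hCidx : C.index = 72 := by
      have := C.card_mul_index
      rw [hC, hG] at this
      omega
    have h3 := Cfsg.Agent.S1019.result C t htC
    rw [hct, hCidx, hctC] at h3
    obtain ⟨k, hk⟩ := Cfsg.Agent.SmallSimple.Parity.card_modEq_four (X := G ⧸ C) h2lt t ht2'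
    have h4 : Nat.card (G ⧸ C) = 72 := hCidx
    rw [h4] at hk
    have h5 : Nat.card (MulAction.fixedBy (G ⧸ C) t) = Nat.card {x : G ⧸ C // t • x = x} := rfl
    rw [h5] at h3
    omega

theorem divisors_aux (n : ℕ) (h : n ∣ 288) (h2 : n % 5 = 1 % 5) (h3 : n ≠ 1) :
    n = 6 ∨ n = 16 ∨ n = 36 ∨ n = 96 := by
  have key : ∀ n ∈ Nat.divisors 288, n % 5 = 1 → n ≠ 1 →
    n = 6 ∨ n = 16 ∨ n = 36 ∨ n = 96 := by decide +kernel
  exact key n (Nat.mem_divisors.2 ⟨h, by norm_num⟩) (by omega) h3

/-- No finite simple group has order 1440 = 2^5 * 3^2 * 5. -/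
theorem result {G : Type*} [Group G] [Finite G] [IsSimpleGroup G] : Nat.card G ≠ 1440 := by
  intro hG
  have hp : Fact (Nat.Prime 5) := ⟨by norm_num⟩
  have hdvd : 5 ∣ Nat.card G := by rw [hG]; norm_num
  have hne : Nat.card G ≠ 5 := by rw [hG]; norm_num
  have hG' : Nat.card G = 288 * 5 ^ 1 := by rw [hG]; norm_num
  have hP : ∀ P : Sylow 5 G, Nat.card P = 5 := fun P =>
    Cfsg.Agent.SmallSimple.PSqQR.card_sylow_of_card_eq hG' (by norm_num) P
  have h1 := Cfsg.Agent.SmallSimple.PSqQR.card_sylow_dvd_of_card_eq hG' (by norm_num)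
  have h2 := card_sylow_modEq_one 5 G
  have h3 := card_sylow_ne_one hdvd hne
  have h4 := card_dvd_factorial_card_sylow hdvd hne
  obtain ⟨P⟩ : Nonempty (Sylow 5 G) := inferInstance
  obtain ⟨e, he1, he2, -, he3, he4, -⟩ :=
    Cfsg.Agent.SmallSimple.BurnsideNC.exists_automizer_of_card_eq_prime hne P (hP P)
  have h16 := aux16 hP P
  have h36 := aux36 hG hP P
  rw [hG] at h4 he4
  have hle : Nat.card (Sylow 5 G) ≤ 288 := Nat.le_of_dvd (by norm_num) h1
  have hele : e ≤ 4 := Nat.le_of_dvd (by norm_num) he1
  generalize Nat.card (Sylow 5 G) = n at *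
  generalize Nat.card (centralizer (P : Set G)) = c at *
  generalize Nat.card (normalizer (P : Set G)) = m at *
  have h6 : n = 6 ∨ n = 16 ∨ n = 36 ∨ n = 96 := divisors_aux n h1 h2 h3
  rcases h6 with rfl | rfl | rfl | rfl
  · revert h4
    decide
  · have hm : m = 90 := by omega
    subst hm
    have : c = 45 := by
      interval_cases e <;> omega
    exact h16 this rfl
  · have hm : m = 40 := by omega
    subst hm
    have : c = 10 ∨ c = 20 := by
      interval_cases e <;> omega
    exact h36 this rfl
  · have hm : m = 15 := by omega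
    subst hm
    interval_cases e <;> omega

end Cfsg.Agent.S1016
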