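import Cfsg.Statements.S1017
import Cfsg.Agent.SmallSimple.SylowPrimeInvol
import Cfsg.Agent.SmallSimple.Burnside
set_option linter.all false

set_option autoImplicit false
open Cfsg

namespace Cfsg.Agent.S1017

open Subgroup MulAction
open Cfsg.Agent.SmallSimple.SylowPrime Cfsg.Agent.SmallSimple.SylowPrimeCount
  Cfsg.Agent.SmallSimple.SylowPrimeInvol

theorem divisors_aux : ∀ n ∈ Nat.divisors 288, n % 7 = 1 → n = 1 ∨ n = 8 ∨ n = 36 ∨ n = 288 := by
  decide +kernel

/-- No finite simple group has order 2016 = 2^5 * 3^2 * 7. -/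
theorem result {G : Type*} [Group G] [Finite G] [IsSimpleGroup G] : Nat.card G ≠ 2016 := by
  intro hG
  have h7 : Fact (Nat.Prime 7) := ⟨by norm_num⟩
  have h2 : Fact (Nat.Prime 2) := ⟨by norm_num⟩
  obtain ⟨P⟩ : Nonempty (Sylow 7 G) := inferInstance
  have hG' : Nat.card G = 7 ^ 1 * 288 := by rw [hG]; norm_num
  have hm : ¬ 7 ∣ 288 := by norm_num
  have hP : Nat.card (P : Subgroup G) = 7 := by
    rw [card_sylow_of_card_eq P hG' hm, pow_one]
  have hdvd := card_sylow_dvd_of_card_eq P hG' hm
  have hmod := card_sylow_modEq_one 7 G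
  have hne1 : Nat.card (Sylow 7 G) ≠ 1 := card_sylow_ne_one hG' hm one_ne_zero (by norm_num)
  have hmul := card_normalizer_mul P
  have hND : Nat.card (normalizer (P : Set G)) ∣ 6 * Nat.card (centralizer (P : Set G)) :=
    card_normalizer_dvd h7.out hP (centralizer_le_normalizer' (P : Subgroup G))
  rcases divisors_aux _ (Nat.mem_divisors.2 ⟨hdvd, by norm_num⟩) hmod with h | h | h | h
  · exact hne1 h
  · -- eight Sylow 7-subgroups
    rw [h, hG] at hmul
    have hN : Nat.card (normalizer (P : Set G)) = 252 := by omega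
    have hC : 2 ∣ Nat.card (centralizer (P : Set G)) := by
      rw [hN] at hND
      obtain ⟨k, hk⟩ := hND
      omega
    obtain ⟨w, hw⟩ := exists_prime_orderOf_dvd_card' 2 hC
    have hu : orderOf (w : G) = 2 := by rw [Subgroup.orderOf_coe, hw]
    have hu1 : (w : G) ≠ 1 := by
      intro h1
      rw [h1, orderOf_one] at hu
      omega
    have h1 := card_fixedBy_modEq_one P w.2
    have h3 := card_fixedBy_modEq_two (X := Sylow 7 G) hu
    have h4 := card_fixedBy_lt hne1 hu1
    rw [h] at h3 h4
    unfold Nat.ModEq at h1 h3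
    omega
  · -- thirty-six Sylow 7-subgroups
    rw [h, hG] at hmul
    have hN : Nat.card (normalizer (P : Set G)) = 56 := by omega
    have hrel := relIndex_dvd_pred h7.out hP
    have hrel2 : (centralizer (P : Set G)).relIndex (normalizer (P : Set G)) ∣ 56 := by
      rw [← hN]
      exact relIndex_dvd_card _ _
    have hrel3 : (centralizer (P : Set G)).relIndex (normalizer (P : Set G)) ≤ 2 :=
      Nat.le_of_dvd (by norm_num) (by
        have := Nat.dvd_gcd hrel hrel2
        exact this)
    obtain ⟨u, huC, hu, huN⟩ := exists_central_involution (a := 3) h7.out (by norm_num) hP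
      (hN.trans (by norm_num)) (lt_of_le_of_lt hrel3 (by norm_num))
    have hu1 : u ≠ 1 := by
      rintro rfl
      rw [orderOf_one] at hu
      omega
    have h1 := card_fixedBy_modEq_one P huC
    have h3 := card_fixedBy_modEq_two (X := Sylow 7 G) hu
    have h4 := card_fixedBy_lt hne1 hu1
    rw [h] at h3 h4
    unfold Nat.ModEq at h1 h3
    have h5 := card_centralizer_eq P hP huN (by rw [h]; omega)
    have h6 : Nat.card (centralizer {u}) ∣ 2016 := by rw [← hG]; exact card_subgroup_dvd_card _
    rw [h5, hN] at h6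
    have h7 : Nat.card (fixedBy (Sylow 7 G) u) = 8 ∨ Nat.card (fixedBy (Sylow 7 G) u) = 22 := by
      omega
    rcases h7 with h7 | h7 <;> rw [h7] at h6 <;> revert h6 <;> norm_num
  · -- 288 Sylow 7-subgroups
    rw [h, hG] at hmul
    have hN : Nat.card (normalizer (P : Set G)) = 7 := by omega
    have hNP : (P : Subgroup G) = normalizer (P : Set G) :=
      Subgroup.eq_of_le_of_card_ge le_normalizer (by rw [hN]; exact hP.ge)
    have hcomm : normalizer (P : Set G) ≤ centralizer (P : Set G) := by
      rw [← hNP]
      have : IsCyclic (P : Subgroup G) := isCyclic_of_prime_card hP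
      have : IsMulCommutative (P : Subgroup G) := inferInstance
      exact Subgroup.le_centralizer (P : Subgroup G)
    have := SmallSimple.Burnside.card_eq_of_normalizer_le_centralizer (by rw [hG]; norm_num) P hcomm
    omega

end Cfsg.Agent.S1017
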