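import Cfsg.Agent.H491.ProjLift
import Cfsg.Statements.S3974
set_option linter.all false

-- part: H491/CoverUnique
section
/-!
# Uniqueness of Schur covers over the group
-/

set_option autoImplicit false

namespace Cfsg.Agent.H491.CoverUnique

open scoped commutatorElement

universe u v

/-- Commutators lift along surjections. -/
theorem exists_commutator_lift {D Γ : Type*} [Group D] [Group Γ] (f : D →* Γ)
    (hf : Function.Surjective f) (c : Γ) (hc : c ∈ commutator Γ) :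
    ∃ d ∈ commutator D, f d = c := by
  have h3 : (commutator D).map f = commutator Γ := by
    rw [commutator_def, commutator_def, Subgroup.map_commutator,
      Subgroup.map_top_of_surjective f hf]
  rw [← h3] at hc
  exact hc

section coprime

variable {Q : Type u} [Group Q] {A : Type v} [CommGroup A]

/-- In the coprime case the fibre product of two covers contains a common cover. -/
theorem exists_equiv_of_coprime (hA : Cfsg.HasSchurMultiplier Q A)
    (hcop : Nat.Coprime (Nat.card (Abelianization Q)) (Nat.card A))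
    (Γ₁ Γ₂ : Type u) [Group Γ₁] [Finite Γ₁] [Group Γ₂] [Finite Γ₂] (σ₁ : Γ₁ →* Q) (σ₂ : Γ₂ →* Q)
    (h₁ : Cfsg.IsStemExtension σ₁) (h₂ : Cfsg.IsStemExtension σ₂)
    (e₁ : σ₁.ker ≃* A) (e₂ : σ₂.ker ≃* A) : ∃ e : Γ₁ ≃* Γ₂, σ₂.comp e.toMonoidHom = σ₁ := by
  let D : Subgroup (Γ₁ × Γ₂) :=
    (σ₁.comp (MonoidHom.fst _ _)).eqLocus (σ₂.comp (MonoidHom.snd _ _))
  have hD : ∀ x : Γ₁ × Γ₂, x ∈ D ↔ σ₁ x.1 = σ₂ x.2 := fun x => Iff.rfl
  let p₁ : D →* Γ₁ := (MonoidHom.fst _ _).comp D.subtype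
  let p₂ : D →* Γ₂ := (MonoidHom.snd _ _).comp D.subtype
  have hp₁ : Function.Surjective p₁ := by
    intro g
    obtain ⟨h, hh⟩ := h₂.1 (σ₁ g)
    exact ⟨⟨(g, h), hh.symm⟩, rfl⟩
  have hp₂ : Function.Surjective p₂ := by
    intro g
    obtain ⟨h, hh⟩ := h₁.1 (σ₂ g)
    exact ⟨⟨(h, g), hh⟩, rfl⟩
  let τ : D →* Q := σ₁.comp p₁
  have hτ₂ : ∀ d, τ d = σ₂ (p₂ d) := fun d => d.2
  have hτ : Function.Surjective τ := h₁.1.comp hp₁
  have hker : ∀ d : D, d ∈ τ.ker → p₁ d ∈ σ₁.ker ∧ p₂ d ∈ σ₂.ker := fun d hd =>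
    ⟨hd, (hτ₂ d).symm.trans hd⟩
  have hZ : τ.ker ≤ Subgroup.center D := by
    intro d hd
    obtain ⟨k1, k2⟩ := hker d hd
    rw [Subgroup.mem_center_iff]
    intro g
    exact Subtype.ext (Prod.ext (Subgroup.mem_center_iff.1 (h₁.2.1 k1) g.1.1)
      (Subgroup.mem_center_iff.1 (h₂.2.1 k2) g.1.2))
  have hcard : Nat.card τ.ker = Nat.card A * Nat.card A := by
    have e : τ.ker ≃ σ₁.ker × σ₂.ker :=
      { toFun := fun d => (⟨p₁ d.1, (hker d.1 d.2).1⟩, ⟨p₂ d.1, (hker d.1 d.2).2⟩)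
        invFun := fun x => ⟨⟨(x.1.1, x.2.1), by
          rw [hD, (MonoidHom.mem_ker).1 x.1.2, (MonoidHom.mem_ker).1 x.2.2]⟩, x.1.2⟩
        left_inv := fun d => rfl
        right_inv := fun x => rfl }
    rw [Nat.card_congr e, Nat.card_prod, Nat.card_congr e₁.toEquiv, Nat.card_congr e₂.toEquiv]
  obtain ⟨C, hC, hCm⟩ := StemCore.exists_of_coprime τ hτ hZ
    (by rw [hcard]; exact Nat.Coprime.mul_right hcop hcop)
  have hle : Nat.card (τ.comp C.subtype).ker ≤ Nat.card A := by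
    obtain ⟨π, hπ⟩ := hA.2 C (τ.comp C.subtype) hC
    have : Finite A := Finite.of_equiv _ e₁.toEquiv
    exact Nat.card_le_card_of_surjective π hπ
  have hbij : ∀ {Γ : Type u} [Group Γ] [Finite Γ] (σ : Γ →* Q) (p : D →* Γ),
      Cfsg.IsStemExtension σ → Nonempty (σ.ker ≃* A) → (∀ d, τ d = σ (p d)) →
      Function.Surjective p → Function.Bijective (p.comp C.subtype) := by
    intro Γ _ _ σ p hσ hσA hτp hp
    have hs : Function.Surjective (p.comp C.subtype) := by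
      have hk : ∀ k ∈ σ.ker, ∃ c : C, p c.1 = k := by
        intro k hk
        obtain ⟨d, hd, hdk⟩ := exists_commutator_lift p hp k (hσ.2.2 hk)
        have h1 : τ d = 1 := by rw [hτp, hdk]; exact hk
        exact ⟨⟨d, ((hCm d).2 ⟨h1, hd⟩).1⟩, hdk⟩
      intro g
      obtain ⟨c, hc⟩ := hC.1 (σ g)
      have hc' : τ c.1 = σ g := hc
      obtain ⟨c', hc'⟩ := hk ((p c.1)⁻¹ * g) (by
        rw [MonoidHom.mem_ker, map_mul, map_inv, ← hτp, hc', inv_mul_cancel])
      refine ⟨c * c', ?_⟩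
      show p (c.1 * c'.1) = g
      rw [map_mul, hc', mul_inv_cancel_left]
    refine (Nat.bijective_iff_surjective_and_card _).2 ⟨hs, ?_⟩
    have hc1 : Nat.card C = Nat.card (τ.comp C.subtype).ker * Nat.card Q := by
      rw [← Subgroup.card_mul_index (τ.comp C.subtype).ker, Subgroup.index_ker,
        MonoidHom.range_eq_top.2 hC.1, Subgroup.card_top]
    have hc2 : Nat.card Γ = Nat.card A * Nat.card Q := by
      rw [← Subgroup.card_mul_index σ.ker, Subgroup.index_ker,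
        MonoidHom.range_eq_top.2 hσ.1, Subgroup.card_top, Nat.card_congr hσA.some.toEquiv]
    apply le_antisymm
    · rw [hc1, hc2]
      exact Nat.mul_le_mul_right _ hle
    · exact Nat.card_le_card_of_surjective _ hs
  let f₁ : C ≃* Γ₁ := MulEquiv.ofBijective _ (hbij σ₁ p₁ h₁ ⟨e₁⟩ (fun _ => rfl) hp₁)
  let f₂ : C ≃* Γ₂ := MulEquiv.ofBijective _ (hbij σ₂ p₂ h₂ ⟨e₂⟩ hτ₂ hp₂)
  refine ⟨f₁.symm.trans f₂, ?_⟩
  ext g
  obtain ⟨c, rfl⟩ := f₁.surjective g
  show σ₂ (f₂ (f₁.symm (f₁ c))) = σ₁ (f₁ c)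
  rw [MulEquiv.symm_apply_apply]
  exact (hτ₂ c.1).symm

end coprime

section twist

variable {Γ Q : Type u} [Group Γ] [Group Q] (σ : Γ →* Q) {n : ℕ}
  (χ : Q →* Multiplicative (ZMod n)) (k₀ : Γ)

/-- Reduction modulo `n`. -/
def red (n : ℕ) : Multiplicative ℤ →* Multiplicative (ZMod n) :=
  AddMonoidHom.toMultiplicative (Int.castAddHom (ZMod n))

/-- The pullback of `Γ` and `ℤ` over `ℤ/n`. -/
def DD : Subgroup (Γ × Multiplicative ℤ) :=
  ((χ.comp σ).comp (MonoidHom.fst _ _)).eqLocus ((red n).comp (MonoidHom.snd _ _))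

theorem mem_DD (x : Γ × Multiplicative ℤ) : x ∈ DD σ χ ↔ χ (σ x.1) = red n x.2 := Iff.rfl

theorem red_eq_one (j : Multiplicative ℤ) : red n j = 1 ↔ (n : ℤ) ∣ Multiplicative.toAdd j := by
  rw [← ZMod.intCast_zmod_eq_zero_iff_dvd]
  exact Iff.rfl

/-- The element `(k₀, n)`. -/
def tt (hk : σ k₀ = 1) : DD σ χ :=
  ⟨(k₀, Multiplicative.ofAdd (n : ℤ)), by
    rw [mem_DD, hk, map_one, eq_comm, red_eq_one]
    exact dvd_rfl⟩

/-- **Twisting.** Let `σ : Γ →* Q` be a finite stem extension, `χ` a homomorphism of `Q` onto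
`ℤ/n` and `q₀` an element with `χ q₀ = 1` whose `n`-th power is a product of commutators. For `k₀`
in the kernel of `σ` there is a stem extension with isomorphic kernel which is not isomorphic to
`Γ` over `Q` unless `k₀` is an `n`-th power in the kernel. -/
theorem exists_twist [Finite Γ] (hσ : Cfsg.IsStemExtension σ) (hn : n ≠ 0) (hk₀ : σ k₀ = 1)
    (q₀ : Q) (hq₀ : χ q₀ = Multiplicative.ofAdd 1) (hqn : q₀ ^ n ∈ commutator Q) :
    ∃ (Γ' : Type u) (_ : Group Γ') (_ : Finite Γ') (σ' : Γ' →* Q), Cfsg.IsStemExtension σ' ∧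
      Nonempty (σ.ker ≃* σ'.ker) ∧
      ∀ e : Γ ≃* Γ', σ'.comp e.toMonoidHom = σ → ∃ k, σ k = 1 ∧ k ^ n = k₀ := by
  have : Finite Q := Finite.of_surjective σ hσ.1
  have : NeZero n := ⟨hn⟩
  have hcen : ∀ k, σ k = 1 → ∀ g : Γ, g * k = k * g := fun k hk =>
    Subgroup.mem_center_iff.1 (hσ.2.1 hk)
  let t : DD σ χ := tt σ χ k₀ hk₀
  have ht : t ∈ Subgroup.center (DD σ χ) := by
    rw [Subgroup.mem_center_iff]
    intro g
    exact Subtype.ext (Prod.ext (hcen k₀ hk₀ g.1.1) (mul_comm _ _))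
  let N : Subgroup (DD σ χ) := Subgroup.zpowers t
  have hNc : N ≤ Subgroup.center (DD σ χ) := (Subgroup.zpowers_le).2 ht
  have hNn : N.Normal := ⟨fun x hx g => by
    rw [Subgroup.mem_center_iff.1 (hNc hx) g, mul_inv_cancel_right]
    exact hx⟩
  let p : DD σ χ →* Γ := (MonoidHom.fst _ _).comp (DD σ χ).subtype
  let s : DD σ χ →* Multiplicative ℤ := (MonoidHom.snd _ _).comp (DD σ χ).subtype
  have hp : Function.Surjective p := by
    intro g
    obtain ⟨j, hj⟩ := ZMod.intCast_surjective (Multiplicative.toAdd (χ (σ g)))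
    exact ⟨⟨(g, Multiplicative.ofAdd j), hj.symm⟩, rfl⟩
  have hNσ : N ≤ (σ.comp p).ker := by
    refine (Subgroup.zpowers_le).2 ?_
    exact hk₀
  let σ' : (DD σ χ ⧸ N) →* Q := QuotientGroup.lift N (σ.comp p) hNσ
  have hσ' : ∀ d : DD σ χ, σ' (QuotientGroup.mk' N d) = σ (p d) := fun d => rfl
  have hσ's : Function.Surjective σ' := by
    intro q
    obtain ⟨g, rfl⟩ := hσ.1 q
    obtain ⟨d, rfl⟩ := hp g
    exact ⟨QuotientGroup.mk' N d, rfl⟩
  -- the elements `(k, 0)`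
  let ι : σ.ker →* DD σ χ :=
    { toFun := fun k => ⟨(k, 1), by
        rw [mem_DD, (MonoidHom.mem_ker).1 k.2, map_one, map_one]⟩
      map_one' := rfl
      map_mul' := fun a b => Subtype.ext (Prod.ext rfl (mul_one _).symm) }
  have hιc : ∀ k : σ.ker, ι k ∈ commutator (DD σ χ) := by
    intro k
    obtain ⟨d, hd, hdk⟩ := exists_commutator_lift p hp k (hσ.2.2 k.2)
    have h1 : s d = 1 := Abelianization.commutator_subset_ker s hd
    have h2 : ι k = d := Subtype.ext (Prod.ext hdk.symm h1.symm)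
    rw [h2]; exact hd
  have hNmem : ∀ (g : Γ) (j : Multiplicative ℤ) (h : (g, j) ∈ DD σ χ),
      (⟨(g, j), h⟩ : DD σ χ) ∈ N ↔ ∃ i : ℤ, k₀ ^ i = g ∧ (n : ℤ) * i = Multiplicative.toAdd j := by
    intro g j h
    rw [Subgroup.mem_zpowers_iff]
    refine exists_congr fun i => ?_
    rw [Subtype.ext_iff, Prod.ext_iff]
    refine and_congr Iff.rfl ?_
    have h1 : ((t ^ i : DD σ χ) : Γ × Multiplicative ℤ).2 =
        Multiplicative.ofAdd ((n : ℤ) * i) := by
      rw [SubgroupClass.coe_zpow, Prod.pow_snd]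
      show (Multiplicative.ofAdd (n : ℤ)) ^ i = _
      rw [← ofAdd_zsmul, smul_eq_mul, mul_comm]
    rw [h1]
    exact Iff.rfl
  let f : σ.ker →* σ'.ker :=
    ((QuotientGroup.mk' N).comp ι).codRestrict σ'.ker (fun k => k.2)
  have hf : Function.Bijective f := by
    constructor
    · rw [injective_iff_map_eq_one]
      intro k hk
      have h1 : ι k ∈ N := (QuotientGroup.eq_one_iff _).1 (congrArg Subtype.val hk)
      obtain ⟨i, hi, hi0⟩ := (hNmem k 1 _).1 h1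
      have h2 : i = 0 := by
        have h3 : (n : ℤ) * i = 0 := hi0
        rcases mul_eq_zero.1 h3 with h4 | h4
        · exact absurd (Int.natCast_eq_zero.1 h4) hn
        · exact h4
      subst h2
      rw [zpow_zero] at hi
      exact Subtype.ext hi.symm
    · rintro ⟨x, hx⟩
      obtain ⟨⟨⟨g, j⟩, hd⟩, rfl⟩ := QuotientGroup.mk'_surjective N x
      have hg : σ g = 1 := hx
      have hj : (n : ℤ) ∣ Multiplicative.toAdd j := by
        rw [← red_eq_one, ← (mem_DD σ χ _).1 hd]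
        show χ (σ g) = 1
        rw [hg, map_one]
      obtain ⟨m, hm⟩ := hj
      refine ⟨⟨g * (k₀ ^ m)⁻¹, ?_⟩, ?_⟩
      · rw [MonoidHom.mem_ker, map_mul, map_inv, map_zpow, hk₀, hg, one_zpow, inv_one, mul_one]
      · apply Subtype.ext
        refine (QuotientGroup.eq).2 ?_
        refine (hNmem _ _ _).2 ⟨m, ?_, ?_⟩
        · show k₀ ^ m = (g * (k₀ ^ m)⁻¹)⁻¹ * g
          group
        · show (n : ℤ) * m = Multiplicative.toAdd ((1 : Multiplicative ℤ)⁻¹ * j)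
          rw [inv_one, one_mul, hm]
  have hσ'k : ∀ x, σ' x = 1 → ∃ k : σ.ker, x = QuotientGroup.mk' N (ι k) := by
    intro x hx
    obtain ⟨k, hk⟩ := hf.2 ⟨x, hx⟩
    exact ⟨k, (congrArg Subtype.val hk).symm⟩
  have hιcen : ∀ k : σ.ker, ∀ d : DD σ χ, d * ι k = ι k * d := fun k d =>
    Subtype.ext (Prod.ext (hcen k k.2 d.1.1) (mul_comm _ _))
  have hstem : Cfsg.IsStemExtension σ' := by
    refine ⟨hσ's, ?_, ?_⟩
    · intro x hx
      obtain ⟨k, rfl⟩ := hσ'k x hx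
      rw [Subgroup.mem_center_iff]
      intro y
      obtain ⟨d, rfl⟩ := QuotientGroup.mk'_surjective N y
      rw [← map_mul, ← map_mul, hιcen]
    · intro x hx
      obtain ⟨k, rfl⟩ := hσ'k x hx
      have h3 : (commutator (DD σ χ)).map (QuotientGroup.mk' N) ≤ commutator (DD σ χ ⧸ N) := by
        rw [commutator_def, commutator_def, Subgroup.map_commutator]
        exact Subgroup.commutator_mono le_top le_top
      exact h3 ⟨ι k, hιc k, rfl⟩
  have hfin : Finite (DD σ χ ⧸ N) := by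
    have : Finite σ'.ker := Finite.of_equiv _ (Equiv.ofBijective _ hf)
    apply Nat.finite_of_card_ne_zero
    rw [← Subgroup.card_mul_index σ'.ker, Subgroup.index_ker]
    exact mul_ne_zero Nat.card_pos.ne' Nat.card_pos.ne'
  refine ⟨DD σ χ ⧸ N, inferInstance, hfin, σ', hstem, ⟨MulEquiv.ofBijective f hf⟩, ?_⟩
  intro e he
  have he' : ∀ g, σ' (e g) = σ g := fun g => DFunLike.congr_fun he g
  -- `e` and the projection agree on commutators
  have hagree : ∀ d ∈ commutator (DD σ χ), QuotientGroup.mk' N d = e (p d) := by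
    intro d hd
    refine ProjLift.eq_of_mod_center (QuotientGroup.mk' N) (e.toMonoidHom.comp p) ?_ d hd
    intro g
    apply hstem.2.1
    rw [MonoidHom.mem_ker, map_mul, map_inv]
    show (σ' (e (p g)))⁻¹ * σ' (QuotientGroup.mk' N g) = 1
    rw [he', hσ', inv_mul_cancel]
  obtain ⟨g₀, rfl⟩ := hσ.1 q₀
  have hd₀ : (g₀, Multiplicative.ofAdd (1 : ℤ)) ∈ DD σ χ := by
    rw [mem_DD]
    show χ (σ g₀) = _
    rw [hq₀]
    show _ = Multiplicative.ofAdd (((1 : ℤ)) : ZMod n)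
    rw [Int.cast_one]
  -- `g₀ ^ n` is a product of commutators
  have hgn : g₀ ^ n ∈ commutator Γ := by
    obtain ⟨c, hc, hcq⟩ := exists_commutator_lift σ hσ.1 _ hqn
    have h1 : c⁻¹ * g₀ ^ n ∈ σ.ker := by
      rw [MonoidHom.mem_ker, map_mul, map_inv, hcq, map_pow, inv_mul_cancel]
    have h2 := mul_mem hc (hσ.2.2 h1)
    rwa [mul_inv_cancel_left] at h2
  obtain ⟨c, hc, hcg⟩ := exists_commutator_lift p hp _ hgn
  have hcs : s c = 1 := Abelianization.commutator_subset_ker s hc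
  obtain ⟨k, hk⟩ := hσ'k ((QuotientGroup.mk' N ⟨_, hd₀⟩)⁻¹ * e g₀) (by
    rw [map_mul, map_inv, hσ', he']
    exact inv_mul_cancel _)
  have h1 : e g₀ = QuotientGroup.mk' N (⟨_, hd₀⟩ * ι k) := by
    rw [map_mul, ← hk, mul_inv_cancel_left]
  have h2 : QuotientGroup.mk' N c = QuotientGroup.mk' N ((⟨_, hd₀⟩ * ι k) ^ n) := by
    rw [hagree c hc, hcg, map_pow, h1, ← map_pow]
  have h3 := (QuotientGroup.eq).1 h2
  have h4 : (⟨_, hd₀⟩ * ι k) ^ n = (⟨_, hd₀⟩ : DD σ χ) ^ n * (ι k) ^ n :=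
    (show Commute _ _ from hιcen k _).mul_pow n
  have h5 : (c⁻¹ * (⟨_, hd₀⟩ * ι k) ^ n : DD σ χ) =
      ⟨((k : Γ) ^ n, Multiplicative.ofAdd (n : ℤ)), by
        rw [mem_DD]
        show χ (σ ((k : Γ) ^ n)) = red n (Multiplicative.ofAdd (n : ℤ))
        rw [map_pow, (MonoidHom.mem_ker).1 k.2, one_pow, map_one, eq_comm, red_eq_one]
        exact dvd_rfl⟩ := by
    rw [h4]
    apply Subtype.ext
    apply Prod.ext
    · show (p c)⁻¹ * (g₀ ^ n * (k : Γ) ^ n) = (k : Γ) ^ n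
      rw [hcg, inv_mul_cancel_left]
    · show (s c)⁻¹ * ((Multiplicative.ofAdd (1 : ℤ)) ^ n * (1 : Multiplicative ℤ) ^ n) = _
      rw [hcs, inv_one, one_mul, one_pow, mul_one, ← ofAdd_nsmul, nsmul_eq_mul, mul_one]
  have h6 : (c⁻¹ * (⟨_, hd₀⟩ * ι k) ^ n : DD σ χ) ∈ N := h3
  rw [h5, hNmem] at h6
  obtain ⟨i, hi, hin⟩ := h6
  have h7 : i = 1 := by
    have h8 : (n : ℤ) * i = (n : ℤ) * 1 := by rw [mul_one]; exact hin
    exact mul_left_cancel₀ (by exact_mod_cast hn) h8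
  rw [h7, zpow_one] at hi
  exact ⟨k, k.2, hi.symm⟩

end twist

end Cfsg.Agent.H491.CoverUnique
end

-- part: S3974
section
set_option autoImplicit false
universe u v
open Cfsg

namespace Cfsg.Agent.S3974

/-- A finite abelian group of order divisible by `p` maps onto `ℤ/n` with `p ∣ n`, with a lift of
`1` of order dividing `n`. -/
theorem exists_char {L : Type*} [CommGroup L] [Finite L] {p : ℕ} (hp : p.Prime)
    (hpL : p ∣ Nat.card L) : ∃ (n : ℕ) (χ : L →* Multiplicative (ZMod n)) (l : L),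
      n ≠ 0 ∧ p ∣ n ∧ χ l = Multiplicative.ofAdd 1 ∧ l ^ n = 1 := by
  classical
  obtain ⟨ι, _, n, hn, ⟨e⟩⟩ := CommGroup.equiv_prod_multiplicative_zmod_of_finite L
  have h1 : Nat.card L = ∏ i, n i := by
    rw [Nat.card_congr e.toEquiv, Nat.card_pi]
    exact Finset.prod_congr rfl fun i _ => Nat.card_zmod (n i)
  rw [h1, hp.prime.dvd_finsetProd_iff] at hpL
  obtain ⟨i, -, hi⟩ := hpL
  refine ⟨n i, (Pi.evalMonoidHom (fun i => Multiplicative (ZMod (n i))) i).comp e.toMonoidHom,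
    e.symm (Pi.mulSingle i (Multiplicative.ofAdd 1)), by have := hn i; omega, hi, ?_, ?_⟩
  · show (e (e.symm (Pi.mulSingle i (Multiplicative.ofAdd 1)))) i = _
    rw [MulEquiv.apply_symm_apply, Pi.mulSingle_eq_same]
  · rw [← map_pow, ← Pi.mulSingle_pow, ← ofAdd_nsmul, nsmul_eq_mul, mul_one, ZMod.natCast_self,
      ofAdd_zero, Pi.mulSingle_one, map_one]

/-- In a finite group of order divisible by `p`, some element is not an `n`-th power if
`p ∣ n`. -/
theorem exists_not_pow {K : Type*} [Group K] [Finite K] {p n : ℕ}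
    (hp : p.Prime) (hpK : p ∣ Nat.card K) (hpn : p ∣ n) : ∃ k₀ : K, ∀ k : K, k ^ n ≠ k₀ := by
  by_contra hcon
  push Not at hcon
  have : Fact p.Prime := ⟨hp⟩
  have hs : Function.Surjective (fun k : K => k ^ n) := fun k₀ => hcon k₀
  have hi : Function.Injective (fun k : K => k ^ n) := Finite.injective_iff_surjective.2 hs
  obtain ⟨x, hx⟩ := exists_prime_orderOf_dvd_card' p hpK
  have h1 : x ^ n = 1 := by
    obtain ⟨m, rfl⟩ := hpn
    rw [pow_mul, ← hx, pow_orderOf_eq_one, one_pow]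
  have h2 : x = 1 := hi (by show x ^ n = 1 ^ n; rw [h1, one_pow])
  rw [h2, orderOf_one] at hx
  exact hp.one_lt.ne hx

theorem coprime_of_unique {Q : Type u} [Group Q] [Finite Q] {A : Type v} [CommGroup A]
    (hA : Cfsg.HasSchurMultiplier Q A)
    (huniq : ∀ (Γ₁ Γ₂ : Type u) [Group Γ₁] [Finite Γ₁] [Group Γ₂] [Finite Γ₂] (σ₁ : Γ₁ →* Q)
      (σ₂ : Γ₂ →* Q), Cfsg.IsStemExtension σ₁ → Cfsg.IsStemExtension σ₂ →
      Nonempty (σ₁.ker ≃* A) → Nonempty (σ₂.ker ≃* A) →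
      ∃ e : Γ₁ ≃* Γ₂, σ₂.comp e.toMonoidHom = σ₁) :
    Nat.Coprime (Nat.card (Abelianization Q)) (Nat.card A) := by
  by_contra hcop
  obtain ⟨p, hp, hpL, hpA⟩ := Nat.Prime.not_coprime_iff_dvd.1 hcop
  obtain ⟨Γ, _, _, σ, hσ, ⟨e₁⟩⟩ := hA.1
  obtain ⟨n, χ, l, hn, hpn, hχ, hl⟩ := exists_char hp hpL
  obtain ⟨q₀, rfl⟩ := QuotientGroup.mk_surjective l
  obtain ⟨k₀, hk₀⟩ := exists_not_pow (K := σ.ker) hp
    (by rw [Nat.card_congr e₁.toEquiv]; exact hpA) hpn
  obtain ⟨Γ', _, _, σ', hσ', ⟨e₂⟩, he⟩ := Cfsg.Agent.H491.CoverUnique.exists_twist σ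
    (χ.comp Abelianization.of) (k₀ : Γ) hσ hn k₀.2 q₀ hχ
    (by
      rw [← Abelianization.ker_of, MonoidHom.mem_ker, map_pow]
      exact hl)
  obtain ⟨e, he'⟩ := huniq Γ Γ' σ σ' hσ hσ' ⟨e₁⟩ ⟨e₂.symm.trans e₁⟩
  obtain ⟨k, hk, hkn⟩ := he e he'
  exact hk₀ ⟨k, hk⟩ (Subtype.ext hkn)


/-- Let `Q` be a finite group with Schur multiplier `A`. Any two Schur covering groups of `Q` (finite stem extensions `σ₁ : Γ₁ →* Q`, `σ₂ : Γ₂ →* Q` with kernels isomorphic to `A`, `Γ₁, Γ₂` in the universe of `Q`) are isomorphic over `Q` — there is a group isomorphism `e : Γ₁ ≃* Γ₂` with `σ₂ ∘ e = σ₁` — if and only if the order of the commutator quotient of `Q` is coprime to the order of `A`. In particular a finite perfect group has a unique Schur covering group up to isomorphism over it. -/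
theorem result {Q : Type u} [Group Q] [Finite Q] {A : Type v} [CommGroup A] (hA : Cfsg.HasSchurMultiplier Q A) : (∀ (Γ₁ Γ₂ : Type u) [Group Γ₁] [Finite Γ₁] [Group Γ₂] [Finite Γ₂] (σ₁ : Γ₁ →* Q) (σ₂ : Γ₂ →* Q), Cfsg.IsStemExtension σ₁ → Cfsg.IsStemExtension σ₂ → Nonempty (σ₁.ker ≃* A) → Nonempty (σ₂.ker ≃* A) → ∃ e : Γ₁ ≃* Γ₂, σ₂.comp e.toMonoidHom = σ₁) ↔ Nat.Coprime (Nat.card (Abelianization Q)) (Nat.card A) := by
  constructor
  · intro huniq
    exact coprime_of_unique hA huniq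
  · intro hcop Γ₁ Γ₂ _ _ _ _ σ₁ σ₂ h₁ h₂ e₁ e₂
    exact Cfsg.Agent.H491.CoverUnique.exists_equiv_of_coprime hA hcop Γ₁ Γ₂ σ₁ σ₂ h₁ h₂
      e₁.some e₂.some

end Cfsg.Agent.S3974
end
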