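import Cfsg.Statements.S3895
import Cfsg.Agent.S0071
set_option linter.all false

set_option autoImplicit false
open Cfsg
open scoped Pointwise

namespace Cfsg.Agent.S3895

/-- Fixed points of an odd order element normalizing and not centralizing a 2-subgroup: index at least 4. -/
theorem four_mul_card_fixed_le {G : Type*} [Group G] [Finite G] {Q : Subgroup G} (hQ : IsPGroup 2 Q)
    {h : G} (hn : h ∈ Subgroup.normalizer (Q : Set G)) (hodd : Nat.Coprime (orderOf h) 2)
    (hc : h ∉ Subgroup.centralizer (Q : Set G)) :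
    4 * Nat.card ↥(Q ⊓ Subgroup.centralizer ({h} : Set G)) ≤ Nat.card ↥Q := by
  set F : Subgroup G := Q ⊓ Subgroup.centralizer ({h} : Set G) with hF
  have hFQ : F ≤ Q := inf_le_left
  have hmul : F.relIndex Q * Nat.card ↥F = Nat.card ↥Q := by
    have h1 := Subgroup.relIndex_mul_relIndex (⊥ : Subgroup G) F Q bot_le hFQ
    rw [Subgroup.relIndex_bot_left, Subgroup.relIndex_bot_left] at h1
    rw [mul_comm]
    exact h1
  have hpos : 0 < Nat.card ↥F := Nat.card_pos
  obtain ⟨k, hk⟩ := IsPGroup.iff_card.1 hQ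
  have hdvd : F.relIndex Q ∣ 2 ^ k := by
    rw [← hk, ← hmul]; exact Dvd.intro _ rfl
  obtain ⟨j, -, hj⟩ := (Nat.dvd_prime_pow Nat.prime_two).1 hdvd
  have hmemc : ∀ x, x ∈ F ↔ x ∈ Q ∧ h * x = x * h := by
    intro x
    rw [hF, Subgroup.mem_inf, Subgroup.mem_centralizer_singleton_iff]
    constructor
    · rintro ⟨h1, h2⟩; exact ⟨h1, by first | exact h2 | exact h2.symm⟩
    · rintro ⟨h1, h2⟩; exact ⟨h1, by first | exact h2 | exact h2.symm⟩
  -- the relative index is neither 1 nor 2
  have h1 : j ≠ 0 := by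
    rintro rfl
    rw [pow_zero, Subgroup.relIndex_eq_one] at hj
    apply hc
    rw [Subgroup.mem_centralizer_iff]
    intro x hx
    exact ((hmemc x).1 (hj hx)).2.symm
  have h2 : j ≠ 1 := by
    rintro rfl
    rw [pow_one] at hj
    -- `F` has index two in `Q`
    have hnQ : ∀ x ∈ Q, h * x * h⁻¹ ∈ Q := fun x hx => (Subgroup.mem_normalizer_iff.1 hn x).1 hx
    apply h1
    have : ∀ x ∈ Q, x ∈ F := by
      intro x hx
      by_contra hxF
      -- x⁻¹ * (h x h⁻¹) ∈ F
      have hy : h * x * h⁻¹ ∉ F := by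
        intro hy
        apply hxF
        rw [hmemc] at hy ⊢
        refine ⟨hx, ?_⟩
        have e := hy.2
        have e2 : h⁻¹ * (h * (h * x * h⁻¹)) * h = h⁻¹ * ((h * x * h⁻¹) * h) * h := by rw [e]
        have e3 : h⁻¹ * (h * (h * x * h⁻¹)) * h = h * x := by group
        have e4 : h⁻¹ * ((h * x * h⁻¹) * h) * h = x * h := by group
        rw [e3, e4] at e2
        exact e2
      have hidx : (F.subgroupOf Q).index = 2 := hj
      have hmem := Subgroup.mul_mem_iff_of_index_two hidx (a := (⟨x, hx⟩ : Q)⁻¹)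
        (b := ⟨h * x * h⁻¹, hnQ x hx⟩)
      have hf : (x⁻¹ * (h * x * h⁻¹)) ∈ F := by
        have := hmem.2 (by
          constructor
          · intro hh
            exact absurd (Subgroup.mem_subgroupOf.1 (inv_mem_iff.1 hh)) hxF
          · intro hh
            exact absurd (Subgroup.mem_subgroupOf.1 hh) hy)
        exact Subgroup.mem_subgroupOf.1 this
      set f := x⁻¹ * (h * x * h⁻¹) with hfdef
      have hfc : h * f = f * h := ((hmemc f).1 hf).2
      have hfQ : f ∈ Q := ((hmemc f).1 hf).1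
      have hconj : h * x * h⁻¹ = x * f := by rw [hfdef]; group
      have hpow : ∀ n : ℕ, h ^ n * x * (h ^ n)⁻¹ = x * f ^ n := by
        intro n
        induction n with
        | zero => simp
        | succ n ih =>
          have hcf : Commute h (f ^ n) := Commute.pow_right hfc n
          calc h ^ (n + 1) * x * (h ^ (n + 1))⁻¹ = h * (h ^ n * x * (h ^ n)⁻¹) * h⁻¹ := by
                rw [pow_succ']; group
            _ = h * (x * f ^ n) * h⁻¹ := by rw [ih]
            _ = (h * x * h⁻¹) * (h * f ^ n * h⁻¹) := by group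
            _ = (x * f) * f ^ n := by rw [hconj, hcf.eq, mul_inv_cancel_right]
            _ = x * f ^ (n + 1) := by rw [pow_succ', mul_assoc]
      have hf1 : f ^ orderOf h = 1 := by
        have := hpow (orderOf h)
        rw [pow_orderOf_eq_one, one_mul, inv_one, mul_one] at this
        exact (left_eq_mul.1 this)
      obtain ⟨m, hm⟩ := hQ ⟨f, hfQ⟩
      have hf2 : f ^ 2 ^ m = 1 := congrArg Subtype.val hm
      have hcop : Nat.Coprime (orderOf h) (2 ^ m) := Nat.Coprime.pow_right m hodd
      have hf0 : f = 1 := by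
        have hd := Nat.dvd_gcd (orderOf_dvd_of_pow_eq_one hf1) (orderOf_dvd_of_pow_eq_one hf2)
        rw [Nat.coprime_iff_gcd_eq_one.1 hcop] at hd
        exact orderOf_eq_one_iff.1 (Nat.dvd_one.1 hd)
      apply hxF
      rw [hmemc]
      refine ⟨hx, ?_⟩
      rw [hf0, mul_one] at hconj
      calc h * x = (h * x * h⁻¹) * h := by group
        _ = x * h := by rw [hconj]
    have h3 : F.relIndex Q = 1 := Subgroup.relIndex_eq_one.2 this
    rw [hj] at h3
    exact absurd h3 (by norm_num)
  have h4 : 4 ≤ F.relIndex Q := by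
    rw [hj]
    have : 2 ≤ j := by omega
    calc 4 = 2 ^ 2 := by norm_num
      _ ≤ 2 ^ j := Nat.pow_le_pow_right (by norm_num) this
  calc 4 * Nat.card ↥F ≤ F.relIndex Q * Nat.card ↥F := Nat.mul_le_mul_right _ h4
    _ = Nat.card ↥Q := hmul

/-- The counting argument. -/
theorem count {G : Type*} [Group G] [Finite G] (P : Sylow 2 G) {Q : Subgroup G}
    (hQP : Q ≤ (P : Subgroup G)) (hZ : ∀ z ∈ (P : Subgroup G), (∀ y ∈ (P : Subgroup G), y * z = z * y) → z ∈ Q)
    {h : G} (hn : h ∈ Subgroup.normalizer (Q : Set G)) (hodd : Nat.Coprime (orderOf h) 2)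
    (hc : h ∉ Subgroup.centralizer (Q : Set G)) :
    2 * Nat.card {c : ConjClasses G // ∀ x ∈ c.carrier, ∃ k : ℕ, orderOf x = 2 ^ k} ≤
      Nat.card ↥(P : Subgroup G) := by
  classical
  have : Fintype G := Fintype.ofFinite G
  have : Fact (Nat.Prime 2) := ⟨Nat.prime_two⟩
  let s : Finset G := Finset.univ.filter (· ∈ (P : Subgroup G))
  let sB : Finset G := Finset.univ.filter (· ∈ Q)
  let sA : Finset G := Finset.univ.filter (· ∈ Q ⊓ Subgroup.centralizer ({h} : Set G))
  let f : G → ConjClasses G := fun x => ConjClasses.mk x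
  have hs : s.card = Nat.card ↥(P : Subgroup G) := by
    rw [Nat.card_eq_fintype_card, Fintype.card_subtype]
  have hsB : sB.card = Nat.card ↥Q := by
    rw [Nat.card_eq_fintype_card, Fintype.card_subtype]
  have hsA : sA.card = Nat.card ↥(Q ⊓ Subgroup.centralizer ({h} : Set G)) := by
    rw [Nat.card_eq_fintype_card, Fintype.card_subtype]
  have hAB : 4 * sA.card ≤ sB.card := by
    rw [hsA, hsB]
    exact four_mul_card_fixed_le (P.isPGroup'.to_le hQP) hn hodd hc
  have hsub1 : sA ⊆ sB := by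
    intro x hx
    simp only [sA, sB, Finset.mem_filter, Finset.mem_univ, true_and, Subgroup.mem_inf] at hx ⊢
    exact hx.1
  have hsub2 : sB ⊆ s := by
    intro x hx
    simp only [s, sB, Finset.mem_filter, Finset.mem_univ, true_and] at hx ⊢
    exact hQP hx
  have hfc : ∀ g x : G, f (g * x * g⁻¹) = f x := by
    intro g x
    exact (ConjClasses.mk_eq_mk_iff_isConj.2 (isConj_iff.2 ⟨g, rfl⟩)).symm
  -- the 2-classes are images of elements of `P`
  have hC : Nat.card {c : ConjClasses G // ∀ x ∈ c.carrier, ∃ k : ℕ, orderOf x = 2 ^ k} ≤ (s.image f).card := by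
    rw [Nat.card_eq_fintype_card, Fintype.card_subtype]
    apply Finset.card_le_card
    intro c hc'
    simp only [Finset.mem_filter, Finset.mem_univ, true_and] at hc'
    obtain ⟨x, rfl⟩ := ConjClasses.exists_rep c
    obtain ⟨k, hk⟩ := hc' x ConjClasses.mem_carrier_mk
    have hp : IsPGroup 2 (Subgroup.zpowers x) := by
      apply IsPGroup.of_card (n := k)
      rw [Nat.card_zpowers, hk]
    obtain ⟨R, hR⟩ := hp.exists_le_sylow
    obtain ⟨g, hg⟩ := MulAction.exists_smul_eq G R P
    refine Finset.mem_image.2 ⟨g * x * g⁻¹, ?_, hfc g x⟩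
    simp only [s, Finset.mem_filter, Finset.mem_univ, true_and]
    rw [← hg]
    have hxR : x ∈ (R : Subgroup G) := hR (Subgroup.mem_zpowers x)
    have : MulAut.conj g x ∈ MulAut.conj g • (R : Subgroup G) := Subgroup.smul_mem_pointwise_smul _ _ _ hxR
    rw [MulAut.conj_apply] at this
    exact this
  have e1 : (sA.image f).card ≤ sA.card := Finset.card_image_le
  have e2 : 3 * (sB.image f \ sA.image f).card ≤ (sB \ sA).card := by
    have key : ∀ b ∈ (sB.image f \ sA.image f), 3 ≤ ((sB.filter (fun x => f x ∉ sA.image f)).filter (fun x => f x = b)).card := by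
      intro b hb
      obtain ⟨hb1, hb2⟩ := Finset.mem_sdiff.1 hb
      obtain ⟨x, hx, rfl⟩ := Finset.mem_image.1 hb1
      have hxQ : x ∈ Q := by simpa [sB] using hx
      have hnx : ¬ (h * x = x * h) := by
        intro hcomm
        apply hb2
        refine Finset.mem_image_of_mem _ ?_
        simp only [sA, Finset.mem_filter, Finset.mem_univ, true_and, Subgroup.mem_inf,
          Subgroup.mem_centralizer_singleton_iff]
        exact ⟨hxQ, by first | exact hcomm | exact hcomm.symm⟩
      have hQ1 : ∀ y ∈ Q, h * y * h⁻¹ ∈ Q := fun y hy => (Subgroup.mem_normalizer_iff.1 hn y).1 hy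
      set x1 := h * x * h⁻¹ with hx1
      set x2 := h * x1 * h⁻¹ with hx2
      have hx1Q : x1 ∈ Q := hQ1 x hxQ
      have hx2Q : x2 ∈ Q := hQ1 x1 hx1Q
      have hf1 : f x1 = f x := hfc h x
      have hf2 : f x2 = f x := (hfc h x1).trans hf1
      have hne1 : x ≠ x1 := by
        intro e
        apply hnx
        calc h * x = x1 * h := by rw [hx1]; group
          _ = x * h := by rw [← e]
      have hne2 : x1 ≠ x2 := by
        intro e
        apply hne1
        rw [hx2] at e
        have : h⁻¹ * x1 * h = h⁻¹ * (h * x1 * h⁻¹) * h := by rw [← e]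
        calc x = h⁻¹ * x1 * h := by rw [hx1]; group
          _ = h⁻¹ * (h * x1 * h⁻¹) * h := this
          _ = x1 := by group
      have hne3 : x ≠ x2 := by
        intro e
        apply hnx
        have hc2 : Commute (h ^ 2) x := by
          change h ^ 2 * x = x * h ^ 2
          calc h ^ 2 * x = x2 * h ^ 2 := by rw [hx2, hx1, pow_two]; group
            _ = x * h ^ 2 := by rw [← e]
        -- h is a power of h ^ 2
        obtain ⟨m, hm⟩ : ∃ m : ℕ, (h ^ 2) ^ m = h := by
          obtain ⟨m, hm⟩ := exists_pow_eq_self_of_coprime (n := 2) (x := h) hodd.symm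
          exact ⟨m, hm⟩
        have := hc2.pow_left m
        rw [hm] at this
        exact this
      have hsub : ({x, x1, x2} : Finset G) ⊆ ((sB.filter (fun x => f x ∉ sA.image f)).filter (fun y => f y = f x)) := by
        intro y hy
        simp only [Finset.mem_insert, Finset.mem_singleton] at hy
        have hyQ : y ∈ Q := by rcases hy with rfl | rfl | rfl <;> assumption
        have hyf : f y = f x := by rcases hy with rfl | rfl | rfl <;> first | rfl | assumption
        simp only [Finset.mem_filter, sB, Finset.mem_univ, true_and]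
        refine ⟨⟨hyQ, ?_⟩, hyf⟩
        rw [hyf]; exact hb2
      calc 3 = ({x, x1, x2} : Finset G).card := by
            rw [Finset.card_eq_three.2 ⟨x, x1, x2, hne1, hne3, hne2, rfl⟩]
        _ ≤ _ := Finset.card_le_card hsub
    have h1 := Finset.mul_card_image_le_card_of_maps_to (f := f)
      (s := sB.filter (fun x => f x ∉ sA.image f)) (t := sB.image f \ sA.image f)
      (fun a ha => Finset.mem_sdiff.2 ⟨Finset.mem_image_of_mem _ (Finset.mem_filter.1 ha).1,
        (Finset.mem_filter.1 ha).2⟩) 3 key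
    refine h1.trans (Finset.card_le_card ?_)
    intro y hy
    obtain ⟨hy1, hy2⟩ := Finset.mem_filter.1 hy
    exact Finset.mem_sdiff.2 ⟨hy1, fun hyA => hy2 (Finset.mem_image_of_mem _ hyA)⟩
  have e3 : 2 * (s.image f \ sB.image f).card ≤ (s \ sB).card := by
    have key : ∀ b ∈ (s.image f \ sB.image f), 2 ≤ ((s.filter (fun x => f x ∉ sB.image f)).filter (fun x => f x = b)).card := by
      intro b hb
      obtain ⟨hb1, hb2⟩ := Finset.mem_sdiff.1 hb
      obtain ⟨x, hx, rfl⟩ := Finset.mem_image.1 hb1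
      have hxP : x ∈ (P : Subgroup G) := by simpa [s] using hx
      have hxQ : x ∉ Q := by
        intro hxQ
        apply hb2
        refine Finset.mem_image_of_mem _ ?_
        simpa [sB] using hxQ
      have hex : ∃ y ∈ (P : Subgroup G), y * x ≠ x * y := by
        by_contra hcon
        push Not at hcon
        exact hxQ (hZ x hxP hcon)
      obtain ⟨y, hy, hyx⟩ := hex
      have hyP : y * x * y⁻¹ ∈ (P : Subgroup G) := mul_mem (mul_mem hy hxP) (inv_mem hy)
      have hne : x ≠ y * x * y⁻¹ := by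
        intro e
        apply hyx
        calc y * x = (y * x * y⁻¹) * y := by group
          _ = x * y := by rw [← e]
      have hsub : ({x, y * x * y⁻¹} : Finset G) ⊆ ((s.filter (fun x => f x ∉ sB.image f)).filter (fun y => f y = f x)) := by
        intro w hw
        simp only [Finset.mem_insert, Finset.mem_singleton] at hw
        have hwP : w ∈ (P : Subgroup G) := by rcases hw with rfl | rfl <;> assumption
        have hwf : f w = f x := by
          rcases hw with rfl | rfl
          · rfl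
          · exact hfc y x
        simp only [Finset.mem_filter, s, Finset.mem_univ, true_and]
        refine ⟨⟨hwP, ?_⟩, hwf⟩
        rw [hwf]; exact hb2
      calc 2 = ({x, y * x * y⁻¹} : Finset G).card := (Finset.card_pair hne).symm
        _ ≤ _ := Finset.card_le_card hsub
    have h1 := Finset.mul_card_image_le_card_of_maps_to (f := f)
      (s := s.filter (fun x => f x ∉ sB.image f)) (t := s.image f \ sB.image f)
      (fun a ha => Finset.mem_sdiff.2 ⟨Finset.mem_image_of_mem _ (Finset.mem_filter.1 ha).1,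
        (Finset.mem_filter.1 ha).2⟩) 2 key
    refine h1.trans (Finset.card_le_card ?_)
    intro y hy
    obtain ⟨hy1, hy2⟩ := Finset.mem_filter.1 hy
    exact Finset.mem_sdiff.2 ⟨hy1, fun hyA => hy2 (Finset.mem_image_of_mem _ hyA)⟩
  have i1 : sA.image f ⊆ sB.image f := Finset.image_subset_image hsub1
  have i2 : sB.image f ⊆ s.image f := Finset.image_subset_image hsub2
  have c1 := Finset.card_sdiff_add_card_eq_card i1
  have c2 := Finset.card_sdiff_add_card_eq_card i2
  have c3 := Finset.card_sdiff_add_card_eq_card hsub1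
  have c4 := Finset.card_sdiff_add_card_eq_card hsub2
  rw [← hs]
  omega

/-- From Frobenius' criterion to a pair as in the counting argument. -/
theorem exists_pair {G : Type*} [Group G] [Finite G] {Q : Subgroup G} (hQ : IsPGroup 2 Q) {g : G}
    (hg : g ∈ Subgroup.normalizer (Q : Set G)) (hodd : Nat.Coprime (orderOf g) 2)
    (hc : g ∉ Subgroup.centralizer (Q : Set G)) :
    ∃ (P : Sylow 2 G) (Q₁ : Subgroup G) (h : G), Q₁ ≤ (P : Subgroup G) ∧
      (∀ z ∈ (P : Subgroup G), (∀ y ∈ (P : Subgroup G), y * z = z * y) → z ∈ Q₁) ∧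
      h ∈ Subgroup.normalizer (Q₁ : Set G) ∧ Nat.Coprime (orderOf h) 2 ∧
      h ∉ Subgroup.centralizer (Q₁ : Set G) := by
  classical
  have : Fact (Nat.Prime 2) := ⟨Nat.prime_two⟩
  set C : Subgroup G := Subgroup.centralizer (Q : Set G) with hCdef
  -- a Sylow 2-subgroup of `C`
  obtain ⟨R⟩ : Nonempty (Sylow 2 ↥C) := inferInstance
  set R' : Subgroup G := (R : Subgroup ↥C).map C.subtype with hR'
  have hR'C : R' ≤ C := Subgroup.map_subtype_le _
  have hR'p : IsPGroup 2 R' := R.isPGroup'.map _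
  have hCg : ∀ x ∈ C, g * x * g⁻¹ ∈ C := by
    intro x hx
    rw [hCdef, Subgroup.mem_centralizer_iff] at hx ⊢
    intro q hq
    have h1 : g⁻¹ * q * g ∈ Q := by
      have := (Subgroup.mem_normalizer_iff.1 (inv_mem hg) q).1 hq
      simpa using this
    have h2 := hx _ h1
    calc q * (g * x * g⁻¹) = g * ((g⁻¹ * q * g) * x) * g⁻¹ := by group
      _ = g * (x * (g⁻¹ * q * g)) * g⁻¹ := by rw [h2]
      _ = (g * x * g⁻¹) * q := by group
  -- the maximality of `R'`
  have hmax : ∀ T : Subgroup G, IsPGroup 2 T → T ≤ C → R' ≤ T → T = R' := by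
    intro T hT hTC hRT
    have h1 : IsPGroup 2 (T.subgroupOf C) := hT.comap_subtype
    have h2 : (R : Subgroup ↥C) ≤ T.subgroupOf C := by
      intro x hx
      exact Subgroup.mem_subgroupOf.2 (hRT (Subgroup.mem_map.2 ⟨x, hx, rfl⟩))
    have h3 := R.is_maximal' h1 h2
    have h4 : (T.subgroupOf C).map C.subtype = T := Subgroup.map_subgroupOf_eq_of_le hTC
    rw [← h4, h3]
  -- conj by g
  set T : Subgroup G := R'.map (MulAut.conj g).toMonoidHom with hTdef
  have hTC : T ≤ C := by
    rintro _ ⟨x, hx, rfl⟩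
    exact hCg x (hR'C hx)
  have hTp : IsPGroup 2 T := hR'p.map _
  have hcardT : Nat.card ↥T = Nat.card ↥R' :=
    Nat.card_congr (R'.equivMapOfInjective _ (MulAut.conj g).injective).toEquiv.symm
  have hcardR : Nat.card ↥R' = Nat.card ↥(R : Subgroup ↥C) :=
    Nat.card_congr ((R : Subgroup ↥C).equivMapOfInjective _ C.subtype_injective).toEquiv.symm
  obtain ⟨R2, hR2⟩ := (hTp.comap_subtype (K := C)).exists_le_sylow
  have hR2eq : T.subgroupOf C = (R2 : Subgroup ↥C) := by
    refine Subgroup.eq_of_le_of_card_ge hR2 ?_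
    change Nat.card ↥(R2 : Subgroup ↥C) ≤ Nat.card ↥(T.subgroupOf C)
    have e1 : Nat.card ↥(R2 : Subgroup ↥C) = Nat.card ↥(R : Subgroup ↥C) := by
      rw [R2.card_eq_multiplicity, R.card_eq_multiplicity]
    have e2 : Nat.card ↥(T.subgroupOf C) = Nat.card ↥T :=
      Nat.card_congr (Subgroup.subgroupOfEquivOfLe hTC).toEquiv
    rw [e1, e2, hcardT, hcardR]
  obtain ⟨c, hc2⟩ := MulAction.exists_smul_eq ↥C R2 R
  -- h0 = c * g normalizes R'
  have hT2 : ∀ x ∈ R', ((c : G) * g) * x * ((c : G) * g)⁻¹ ∈ R' := by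
    intro x hx
    have h1 : g * x * g⁻¹ ∈ T := Subgroup.mem_map.2 ⟨x, hx, rfl⟩
    have h2 : (⟨g * x * g⁻¹, hTC h1⟩ : ↥C) ∈ (R2 : Subgroup ↥C) := by
      rw [← hR2eq]; exact Subgroup.mem_subgroupOf.2 h1
    have h3 : MulAut.conj c ⟨g * x * g⁻¹, hTC h1⟩ ∈ MulAut.conj c • (R2 : Subgroup ↥C) :=
      Subgroup.smul_mem_pointwise_smul _ _ _ h2
    have h4 : MulAut.conj c ⟨g * x * g⁻¹, hTC h1⟩ ∈ (R : Subgroup ↥C) := by
      rw [← hc2]; exact h3
    have h5 := Subgroup.mem_map_of_mem C.subtype h4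
    rw [← hR'] at h5
    have h6 : C.subtype (MulAut.conj c ⟨g * x * g⁻¹, hTC h1⟩) = ((c : G) * g) * x * ((c : G) * g)⁻¹ := by
      simp only [MulAut.conj_apply, Subgroup.coe_subtype, Subgroup.coe_mul, Subgroup.coe_inv]
      group
    rw [h6] at h5
    exact h5
  set h0 : G := (c : G) * g with hh0
  have hcC : (c : G) ∈ C := c.2
  have hact : ∀ q ∈ Q, h0 * q * h0⁻¹ = g * q * g⁻¹ := by
    intro q hq
    have hq' : g * q * g⁻¹ ∈ Q := (Subgroup.mem_normalizer_iff.1 hg q).1 hq
    have := Subgroup.mem_centralizer_iff.1 hcC _ hq'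
    calc h0 * q * h0⁻¹ = (c : G) * (g * q * g⁻¹) * (c : G)⁻¹ := by rw [hh0]; group
      _ = ((g * q * g⁻¹) * (c : G)) * (c : G)⁻¹ := by rw [this]
      _ = g * q * g⁻¹ := by group
  have hactn : ∀ n : ℕ, ∀ q ∈ Q, h0 ^ n * q * (h0 ^ n)⁻¹ = g ^ n * q * (g ^ n)⁻¹ := by
    intro n
    induction n with
    | zero => intro q hq; simp
    | succ n ih =>
      intro q hq
      have hq' : g ^ n * q * (g ^ n)⁻¹ ∈ Q := (Subgroup.mem_normalizer_iff.1 (pow_mem hg n) q).1 hq
      calc h0 ^ (n + 1) * q * (h0 ^ (n + 1))⁻¹ = h0 * (h0 ^ n * q * (h0 ^ n)⁻¹) * h0⁻¹ := by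
            rw [pow_succ']; group
        _ = h0 * (g ^ n * q * (g ^ n)⁻¹) * h0⁻¹ := by rw [ih q hq]
        _ = g * (g ^ n * q * (g ^ n)⁻¹) * g⁻¹ := hact _ hq'
        _ = g ^ (n + 1) * q * (g ^ (n + 1))⁻¹ := by rw [pow_succ']; group
  -- the odd part of h0
  obtain ⟨a, m, hm, ham⟩ := Nat.exists_eq_two_pow_mul_odd (n := orderOf h0) (orderOf_pos h0).ne'
  set h : G := h0 ^ (2 ^ a) with hhdef
  have hord : orderOf h = m := by
    rw [hhdef, orderOf_pow, ham]
    have : Nat.gcd (2 ^ a * m) (2 ^ a) = 2 ^ a := Nat.gcd_mul_right_left _ _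
    rw [this]
    exact Nat.mul_div_cancel_left _ (by positivity)
  have hoddh : Nat.Coprime (orderOf h) 2 := by
    rw [hord]; exact hm.coprime_two_right
  have hnotc : ¬ ∀ q ∈ Q, h * q = q * h := by
    intro hall
    apply hc
    rw [hCdef, Subgroup.mem_centralizer_iff]
    intro q hq
    have h1 := hactn (2 ^ a) q hq
    have h2 : h0 ^ (2 ^ a) * q * (h0 ^ (2 ^ a))⁻¹ = q := by
      rw [mul_inv_eq_iff_eq_mul]; exact hall q hq
    rw [h2] at h1
    have h3 : Commute (g ^ (2 ^ a)) q := by
      change g ^ (2 ^ a) * q = q * g ^ (2 ^ a)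
      rw [eq_comm, mul_inv_eq_iff_eq_mul] at h1
      exact h1
    obtain ⟨k, hk⟩ := exists_pow_eq_self_of_coprime (n := 2 ^ a) (x := g)
      (Nat.Coprime.pow_left a hodd.symm)
    have h4 := h3.pow_left k
    rw [hk] at h4
    exact h4.eq.symm
  -- the subgroup Q₁ = R' ⊔ Q
  have hR'N : R' ≤ Subgroup.normalizer (Q : Set G) :=
    hR'C.trans (Subgroup.centralizer_le_normalizer _)
  have hQ1p : IsPGroup 2 ↥(R' ⊔ Q : Subgroup G) := hR'p.to_sup_of_normal_right' hQ hR'N
  obtain ⟨P, hP⟩ := hQ1p.exists_le_sylow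
  have hnormR' : h0 ∈ Subgroup.normalizer (R' : Set G) := by
    have hle : R'.map (MulAut.conj h0).toMonoidHom ≤ R' := by
      rintro _ ⟨x, hx, rfl⟩
      exact hT2 x hx
    have hcard : Nat.card ↥(R'.map (MulAut.conj h0).toMonoidHom) = Nat.card ↥R' :=
      Nat.card_congr (R'.equivMapOfInjective _ (MulAut.conj h0).injective).toEquiv.symm
    have heq : R'.map (MulAut.conj h0).toMonoidHom = R' :=
      Subgroup.eq_of_le_of_card_ge hle hcard.ge
    rw [Subgroup.mem_normalizer_iff]
    intro x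
    constructor
    · intro hx; exact hT2 x hx
    · intro hx
      rw [← heq] at hx
      obtain ⟨y, hy, hy2⟩ := hx
      have : y = x := by
        have h5 : h0 * y * h0⁻¹ = h0 * x * h0⁻¹ := hy2
        exact mul_left_cancel (mul_right_cancel h5)
      rw [← this]; exact hy
  have hgN : h0 ∈ Subgroup.normalizer (Q : Set G) :=
    mul_mem (Subgroup.centralizer_le_normalizer _ hcC) hg
  refine ⟨P, R' ⊔ Q, h, hP, ?_, ?_, hoddh, ?_⟩
  · intro z hz hzc
    have hzQ : z ∈ C := by
      rw [hCdef, Subgroup.mem_centralizer_iff]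
      intro q hq
      exact hzc q (hP (Subgroup.mem_sup_right hq))
    have hzp : IsPGroup 2 ↥(Subgroup.zpowers z) := P.isPGroup'.to_le (by
      rw [Subgroup.zpowers_le]; exact hz)
    have hRz : R' ≤ Subgroup.normalizer ((Subgroup.zpowers z : Subgroup G) : Set G) := by
      intro r hr
      apply Subgroup.centralizer_le_normalizer
      rw [Subgroup.mem_centralizer_iff]
      rintro _ ⟨k, rfl⟩
      have hrz : Commute r z := hzc r (hP (Subgroup.mem_sup_left hr))
      exact (hrz.zpow_right k).eq.symm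
    have hsup : IsPGroup 2 ↥(R' ⊔ Subgroup.zpowers z : Subgroup G) :=
      hR'p.to_sup_of_normal_right' hzp hRz
    have := hmax _ hsup (sup_le hR'C (by rw [Subgroup.zpowers_le]; exact hzQ)) le_sup_left
    have hzR : z ∈ R' := by
      rw [← this]
      exact Subgroup.mem_sup_right (Subgroup.mem_zpowers z)
    exact Subgroup.mem_sup_left hzR
  · apply pow_mem
    have hmap : (R' ⊔ Q).map (MulAut.conj h0).toMonoidHom = R' ⊔ Q := by
      rw [Subgroup.map_sup]
      congr 1
      · ext x
        constructor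
        · rintro ⟨y, hy, rfl⟩
          exact (Subgroup.mem_normalizer_iff.1 hnormR' y).1 hy
        · intro hx
          refine ⟨h0⁻¹ * x * h0, ?_, ?_⟩
          · have := (Subgroup.mem_normalizer_iff.1 (inv_mem hnormR') x).1 hx
            simpa using this
          · change h0 * (h0⁻¹ * x * h0) * h0⁻¹ = x
            group
      · ext x
        constructor
        · rintro ⟨y, hy, rfl⟩
          exact (Subgroup.mem_normalizer_iff.1 hgN y).1 hy
        · intro hx
          refine ⟨h0⁻¹ * x * h0, ?_, ?_⟩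
          · have := (Subgroup.mem_normalizer_iff.1 (inv_mem hgN) x).1 hx
            simpa using this
          · change h0 * (h0⁻¹ * x * h0) * h0⁻¹ = x
            group
    rw [Subgroup.mem_normalizer_iff]
    intro x
    constructor
    · intro hx
      rw [← SetLike.mem_coe, ← hmap]
      exact ⟨x, hx, rfl⟩
    · intro hx
      rw [← SetLike.mem_coe, ← hmap] at hx
      obtain ⟨y, hy, hy2⟩ := hx
      have : y = x := by
        have h5 : h0 * y * h0⁻¹ = h0 * x * h0⁻¹ := hy2
        exact mul_left_cancel (mul_right_cancel h5)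
      rw [← this]; exact hy
  · intro hcent
    apply hnotc
    intro q hq
    exact (Subgroup.mem_centralizer_iff.1 hcent q (Subgroup.mem_sup_right hq)).symm

/-- Let G be a finite group with Sylow 2-subgroup P, and write k₂(G) for the number of conjugacy classes of G consisting of 2-elements (elements of 2-power order, the identity included). Then k₂(G) > |P|/2 if and only if G has a normal 2-complement and P has more than |P|/2 conjugacy classes. -/
theorem result {G : Type*} [Group G] [Finite G] (P : Sylow 2 G) :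
    Nat.card ↥(P : Subgroup G) < 2 * Nat.card {c : ConjClasses G // ∀ x ∈ c.carrier, ∃ k : ℕ, orderOf x = 2 ^ k} ↔
      Cfsg.HasNormalPComplement 2 G ∧ Nat.card ↥(P : Subgroup G) < 2 * Nat.card (ConjClasses ↥(P : Subgroup G)) := by
  classical
  have : Fact (Nat.Prime 2) := ⟨Nat.prime_two⟩
  have : Fintype G := Fintype.ofFinite G
  -- the map from classes of `P`
  have hord : ∀ x : ↥(P : Subgroup G), ∃ k : ℕ, orderOf (x : G) = 2 ^ k := by
    intro x
    obtain ⟨k, hk⟩ := IsPGroup.iff_orderOf.1 P.isPGroup' x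
    exact ⟨k, by rw [Subgroup.orderOf_coe]; exact hk⟩
  have hcl : ∀ x : ↥(P : Subgroup G), ∀ y ∈ (ConjClasses.mk (x : G)).carrier, ∃ k : ℕ, orderOf y = 2 ^ k := by
    intro x y hy
    rw [ConjClasses.mem_carrier_iff_mk_eq, ConjClasses.mk_eq_mk_iff_isConj] at hy
    obtain ⟨g, hg⟩ := isConj_iff.1 hy.symm
    obtain ⟨k, hk⟩ := hord x
    refine ⟨k, ?_⟩
    rw [← hg, ← hk]
    exact orderOf_injective (MulAut.conj g).toMonoidHom (MulAut.conj g).injective (x : G)
  let φ : ConjClasses ↥(P : Subgroup G) →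
      {c : ConjClasses G // ∀ x ∈ c.carrier, ∃ k : ℕ, orderOf x = 2 ^ k} :=
    Quotient.lift (fun x => ⟨ConjClasses.mk (x : G), hcl x⟩) (by
      intro a b hab
      apply Subtype.ext
      change ConjClasses.mk (a : G) = ConjClasses.mk (b : G)
      rw [ConjClasses.mk_eq_mk_iff_isConj]
      obtain ⟨c, hc⟩ := isConj_iff.1 (show IsConj a b from hab)
      exact isConj_iff.2 ⟨(c : G), congrArg Subtype.val hc⟩)
  have hsurj : Function.Surjective φ := by
    rintro ⟨c, hc⟩
    obtain ⟨x, rfl⟩ := ConjClasses.exists_rep c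
    obtain ⟨k, hk⟩ := hc x ConjClasses.mem_carrier_mk
    have hp : IsPGroup 2 (Subgroup.zpowers x) := by
      apply IsPGroup.of_card (n := k)
      rw [Nat.card_zpowers, hk]
    obtain ⟨R, hR⟩ := hp.exists_le_sylow
    obtain ⟨g, hg⟩ := MulAction.exists_smul_eq G R P
    have hxR : x ∈ (R : Subgroup G) := hR (Subgroup.mem_zpowers x)
    have h1 : MulAut.conj g x ∈ MulAut.conj g • (R : Subgroup G) := Subgroup.smul_mem_pointwise_smul _ _ _ hxR
    have h2 : g * x * g⁻¹ ∈ (P : Subgroup G) := by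
      rw [← hg]; exact h1
    refine ⟨ConjClasses.mk ⟨g * x * g⁻¹, h2⟩, ?_⟩
    apply Subtype.ext
    change ConjClasses.mk (g * x * g⁻¹) = ConjClasses.mk x
    exact (ConjClasses.mk_eq_mk_iff_isConj.2 (isConj_iff.2 ⟨g, rfl⟩)).symm
  have hle : Nat.card {c : ConjClasses G // ∀ x ∈ c.carrier, ∃ k : ℕ, orderOf x = 2 ^ k} ≤
      Nat.card (ConjClasses ↥(P : Subgroup G)) := Nat.card_le_card_of_surjective φ hsurj
  constructor
  · intro hlt
    refine ⟨?_, lt_of_lt_of_le hlt (Nat.mul_le_mul_left 2 hle)⟩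
    by_contra hnot
    have hnot2 : ¬ ∃ N : Subgroup G, N.Normal ∧ N.IsComplement' (P : Subgroup G) := by
      rintro ⟨N, h1, h2⟩
      exact hnot ⟨P, N, h1, h2⟩
    rw [Cfsg.Agent.S0071.result P] at hnot2
    push Not at hnot2
    obtain ⟨Q, hQP, g, hg, hodd, hgc⟩ := hnot2
    obtain ⟨P', Q₁, h, k1, k2, k3, k4, k5⟩ := exists_pair (P.isPGroup'.to_le hQP) hg hodd hgc
    have := count P' k1 k2 k3 k4 k5
    have e : Nat.card ↥(P' : Subgroup G) = Nat.card ↥(P : Subgroup G) := by
      rw [P'.card_eq_multiplicity, P.card_eq_multiplicity]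
    rw [e] at this
    omega
  · rintro ⟨⟨P₀, N, hN, hcomp⟩, hlt⟩
    refine lt_of_lt_of_le hlt (Nat.mul_le_mul_left 2 ?_)
    -- N is a complement of P too
    obtain ⟨g, hg⟩ := MulAction.exists_smul_eq G P₀ P
    -- N is disjoint from P and N ⊔ P = ⊤
    have hcompP : ∀ x : G, ∃ n ∈ N, ∃ y ∈ (P : Subgroup G), x = n * y := by
      intro x
      obtain ⟨⟨n, y⟩, hny⟩ := hcomp.2 (g⁻¹ * x * g)
      have hny' : (n : G) * (y : G) = g⁻¹ * x * g := hny
      refine ⟨g * n * g⁻¹, hN.conj_mem _ n.2 g, g * y * g⁻¹, ?_, ?_⟩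
      · rw [← hg]
        have : MulAut.conj g (y : G) ∈ MulAut.conj g • (P₀ : Subgroup G) :=
          Subgroup.smul_mem_pointwise_smul _ _ _ y.2
        exact this
      · calc x = g * (g⁻¹ * x * g) * g⁻¹ := by group
          _ = g * ((n : G) * (y : G)) * g⁻¹ := by rw [hny']
          _ = (g * n * g⁻¹) * (g * y * g⁻¹) := by group
    have hdisj : ∀ x ∈ N, x ∈ (P : Subgroup G) → x = 1 := by
      intro x hxN hxP
      have h1 : g⁻¹ * x * g ∈ (P₀ : Subgroup G) := by
        rw [← hg] at hxP
        have h2 : x ∈ MulAut.conj g • (P₀ : Subgroup G) := hxP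
        rw [Subgroup.mem_pointwise_smul_iff_inv_smul_mem] at h2
        simpa using h2
      have h2 : g⁻¹ * x * g ∈ N := by
        have := hN.conj_mem x hxN g⁻¹
        simpa using this
      have h3 := (Subgroup.disjoint_def.1 hcomp.disjoint) h2 h1
      have : x = g * (g⁻¹ * x * g) * g⁻¹ := by group
      rw [this, h3]; group
    apply Nat.card_le_card_of_injective φ
    intro a b hab
    obtain ⟨x, rfl⟩ := ConjClasses.exists_rep a
    obtain ⟨y, rfl⟩ := ConjClasses.exists_rep b
    have h1 : ConjClasses.mk (x : G) = ConjClasses.mk (y : G) := congrArg Subtype.val hab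
    rw [ConjClasses.mk_eq_mk_iff_isConj] at h1
    obtain ⟨w, hw⟩ := isConj_iff.1 h1
    obtain ⟨n, hn, v, hv, rfl⟩ := hcompP w
    rw [ConjClasses.mk_eq_mk_iff_isConj, isConj_iff]
    refine ⟨⟨v, hv⟩, ?_⟩
    apply Subtype.ext
    change v * (x : G) * v⁻¹ = (y : G)
    set x' := v * (x : G) * v⁻¹ with hx'
    have hx'P : x' ∈ (P : Subgroup G) := mul_mem (mul_mem hv x.2) (inv_mem hv)
    have hy : n * x' * n⁻¹ = (y : G) := by rw [← hw, hx']; group
    have h2 : (y : G) * x'⁻¹ ∈ N := by
      rw [← hy]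
      have : n * x' * n⁻¹ * x'⁻¹ = n * (x' * n⁻¹ * x'⁻¹) := by group
      rw [this]
      exact mul_mem hn (hN.conj_mem _ (inv_mem hn) x')
    have h3 := hdisj _ h2 (mul_mem y.2 (inv_mem hx'P))
    rw [mul_inv_eq_one] at h3
    exact h3.symm

end Cfsg.Agent.S3895
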