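import Cfsg.Statements.S3949
set_option linter.all false

set_option autoImplicit false
open Cfsg

namespace Cfsg.Agent.S3949

/-- Let G be a finite group and α an automorphism of G of order 2 such that the elements g·α(g)⁻¹ generate G. Let j be a positive integer such that 2^j divides the order of no element inverted by α. Then the set of values of the j-th iterate of the map c ↦ c·α(c)⁻¹ is exactly the set of elements of odd order inverted by α. -/
theorem result {G : Type*} [Group G] [Finite G] (α : MulAut G) (hα : orderOf α = 2) (hG : Subgroup.closure (Set.range (fun c : G => c * (α c)⁻¹)) = ⊤)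
    (j : ℕ) (hj : ∀ g : G, α g = g⁻¹ → ¬ 2 ^ j ∣ orderOf g) :
    Set.range ((fun c : G => c * (α c)⁻¹)^[j]) = {g : G | Odd (orderOf g) ∧ α g = g⁻¹} := by
  have hα2 : ∀ x : G, α (α x) = x := by
    intro x
    have h1 : α ^ 2 = 1 := by rw [← hα]; exact pow_orderOf_eq_one α
    have h2 := DFunLike.congr_fun h1 x
    rw [pow_two] at h2
    exact h2
  set f : G → G := fun c : G => c * (α c)⁻¹ with hf
  have hinv : ∀ c : G, α (f c) = (f c)⁻¹ := by
    intro c
    simp only [hf, map_mul, map_inv, hα2, mul_inv_rev, inv_inv]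
  have hpow : ∀ c : G, α c = c⁻¹ → ∀ n : ℕ, f^[n] c = c ^ (2 ^ n) := by
    intro c hc n
    induction n with
    | zero => simp
    | succ n ih =>
      rw [Function.iterate_succ_apply', ih]
      simp only [hf, map_pow, hc]
      rw [inv_pow, inv_inv, ← pow_add]
      congr 1
      rw [pow_succ]; omega
  obtain ⟨k, rfl⟩ : ∃ k, j = k + 1 := by
    rcases j with _ | k
    · exact absurd (one_dvd (orderOf (1 : G))) (by simpa using hj 1 (by simp))
    · exact ⟨k, rfl⟩
  ext g
  constructor
  · rintro ⟨c, rfl⟩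
    rw [Function.iterate_succ_apply, hpow (f c) (hinv c)]
    refine ⟨?_, by rw [map_pow, hinv, inv_pow]⟩
    by_contra hodd
    rw [Nat.not_odd_iff_even, even_iff_two_dvd] at hodd
    apply hj (f c) (hinv c)
    have h0 : orderOf (f c) ≠ 0 := (orderOf_pos _).ne'
    rw [orderOf_pow' (f c) (pow_ne_zero k two_ne_zero)] at hodd
    have h1 : (orderOf (f c)).gcd (2 ^ k) = 2 ^ k := by
      obtain ⟨i, hik, hi⟩ := (Nat.dvd_prime_pow Nat.prime_two).1 (Nat.gcd_dvd_right (orderOf (f c)) (2 ^ k))
      rcases hik.eq_or_lt with rfl | hlt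
      · exact hi
      · exfalso
        rw [hi] at hodd
        have h2 : 2 ^ (i + 1) ∣ orderOf (f c) := by
          obtain ⟨m, hm⟩ := hodd
          have h3 : 2 ^ i ∣ orderOf (f c) := hi ▸ Nat.gcd_dvd_left _ _
          exact ⟨m, by rw [← Nat.div_mul_cancel h3, hm]; ring⟩
        have h3 : 2 ^ (i + 1) ∣ (orderOf (f c)).gcd (2 ^ k) := Nat.dvd_gcd h2 (pow_dvd_pow 2 hlt)
        rw [hi] at h3
        have := (Nat.pow_dvd_pow_iff_le_right (by norm_num : 1 < 2)).1 h3
        omega
    rw [h1] at hodd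
    obtain ⟨m, hm⟩ := hodd
    have h3 : 2 ^ k ∣ orderOf (f c) := h1 ▸ Nat.gcd_dvd_left _ _
    exact ⟨m, by rw [← Nat.div_mul_cancel h3, hm]; ring⟩
  · rintro ⟨hodd, hg⟩
    have hcop : Nat.Coprime (orderOf g) (2 ^ (k + 1)) := by
      apply Nat.Coprime.pow_right
      exact (Nat.coprime_two_right (n := orderOf g)).2 hodd
    obtain ⟨m, hm⟩ := exists_pow_eq_self_of_coprime hcop.symm
    refine ⟨g ^ m, ?_⟩
    rw [hpow (g ^ m) (by rw [map_pow, hg, inv_pow]), ← pow_mul, mul_comm, pow_mul]
    exact hm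

end Cfsg.Agent.S3949
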