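import Cfsg.Agent.PermutationGroups.HalfTransGalois
import Cfsg.Agent.S0735
import Cfsg.Prelude.Def_Perm
import Cfsg.Statements.S0737
import Cfsg.Agent.S0205
import Cfsg.Agent.Prune
set_option linter.all false
prune_inst 0x7f00000000000000000000000000000000000000000000000000000000000000000000000000000000000000000000000000000000000000000000000000000000000000000000000000000000000000003fffffffffffffffffffffffffffbeffbdffffffff
open scoped Cfsg.Agent.FastGrp

-- part: PermutationGroups/KantorSolvable
section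
/-!
# Kantor's theorem on 2-homogeneous groups, for solvable groups
-/

set_option autoImplicit false

namespace Cfsg.Agent.PermutationGroups.KantorSolvable

open Cfsg.Agent.PermutationGroups.HalfTransGalois

/-- A nontrivial finite solvable group has a nontrivial elementary abelian normal subgroup. -/
theorem exists_elementary {G : Type*} [Group G] [Finite G] [Nontrivial G]
    (hsol : Group.IsSolvable G) :
    ∃ (p : ℕ) (N : Subgroup G), p.Prime ∧ N.Normal ∧ N ≠ ⊥ ∧ (∀ x ∈ N, ∀ y ∈ N, x * y = y * x) ∧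
      ∀ x ∈ N, x ^ p = 1 := by
  classical
  obtain ⟨N, ⟨hNn, hNb⟩, hmin⟩ : ∃ N : Subgroup G,
      (N.Normal ∧ N ≠ ⊥) ∧ ∀ N' : Subgroup G, N'.Normal → N' ≠ ⊥ → N' ≤ N → N' = N := by
    have hfin : ({N : Subgroup G | N.Normal ∧ N ≠ ⊥}).Finite := Set.toFinite _
    obtain ⟨N, hN⟩ := hfin.exists_minimal ⟨⊤, inferInstance, top_ne_bot⟩
    exact ⟨N, hN.1, fun N' h1 h2 h3 => le_antisymm h3 (hN.2 ⟨h1, h2⟩ h3)⟩
  have hNc : ∀ x ∈ N, ∀ y ∈ N, x * y = y * x := by
    have h1 : ⁅N, N⁆ < N := Group.IsSolvable.commutator_lt_of_ne_bot hNb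
    have h2 : ⁅N, N⁆ = ⊥ := by
      by_contra h3
      have h4 : ⁅N, N⁆.Normal := inferInstance
      exact h1.ne (hmin _ h4 h3 h1.le)
    intro x hx y hy
    have h3 := Subgroup.commutator_mem_commutator hx hy
    rw [h2, Subgroup.mem_bot] at h3
    exact commutatorElement_eq_one_iff_mul_comm.mp h3
  obtain ⟨r, hr, hrN⟩ := Nat.exists_prime_and_dvd (n := Nat.card N)
    (fun h => hNb (Subgroup.card_eq_one.mp h))
  have hrFact : Fact r.Prime := ⟨hr⟩
  refine ⟨r, N, hr, hNn, hNb, hNc, ?_⟩
  let D : Subgroup G :=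
    { carrier := {x | x ∈ N ∧ x ^ r = 1}
      one_mem' := ⟨N.one_mem, one_pow r⟩
      mul_mem' := by
        rintro x y ⟨hx, hxr⟩ ⟨hy, hyr⟩
        refine ⟨N.mul_mem hx hy, ?_⟩
        have : Commute x y := hNc x hx y hy
        rw [this.mul_pow, hxr, hyr, one_mul]
      inv_mem' := by
        rintro x ⟨hx, hxr⟩
        exact ⟨N.inv_mem hx, by rw [inv_pow, hxr, inv_one]⟩ }
  have hDn : D.Normal := ⟨by
    rintro x ⟨hx, hxr⟩ g
    exact ⟨hNn.conj_mem x hx g, by rw [conj_pow, hxr]; simp⟩⟩
  have hDb : D ≠ ⊥ := by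
    intro hb
    obtain ⟨z, hz⟩ := exists_prime_orderOf_dvd_card' r hrN
    have h1 : (z : G) ∈ D := by
      refine ⟨z.2, ?_⟩
      have := pow_orderOf_eq_one z
      rw [hz] at this
      exact congrArg Subtype.val this
    rw [hb, Subgroup.mem_bot] at h1
    have h2 : z = 1 := Subtype.ext h1
    rw [h2, orderOf_one] at hz
    exact hr.one_lt.ne hz
  have hDB : D = N := hmin D hDn hDb (fun x hx => hx.1)
  intro x hx
  rw [← hDB] at hx
  exact hx.2

/-- Kantor's theorem when there is an abelian regular normal subgroup and the point stabiliser is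
solvable. -/
theorem kantor_affine {α : Type*} [Fintype α] [DecidableEq α] (G : Subgroup (Equiv.Perm α))
    (h2 : MulAction.IsPretransitive G (Set.powersetCard α 2)) (hodd : Odd (Nat.card G))
    (N : Subgroup G) (hNn : N.Normal) (hNb : N ≠ ⊥)
    (hNc : ∀ x ∈ N, ∀ y ∈ N, x * y = y * x) {p : ℕ} (hp : p.Prime) (hNp : ∀ x ∈ N, x ^ p = 1)
    (hNt : MulAction.IsPretransitive N α) (a : α)
    (hsol : Group.IsSolvable (MulAction.stabilizer G a)) :
    ∃ (p f : ℕ) (_ : Fact p.Prime), p ≠ 2 ∧ Fintype.card α = p ^ f ∧ p ^ f % 4 = 3 ∧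
      ∃ e : α ≃ GaloisField p f,
        (∀ g : G, e.symm.trans (((g : Equiv.Perm α)).trans e) ∈
          Cfsg.semiaffineGroup (GaloisField p f)) ∧
        ∀ b : GaloisField p f, ∃ g : G, ∀ x : α, e ((g : Equiv.Perm α) x) = e x + b := by
  classical
  have hpF : Fact p.Prime := ⟨hp⟩
  -- `N` is regular
  have hreg : ∀ n ∈ N, ∀ x : α, n • x = x → n = 1 := by
    intro n hn x hx
    apply Subtype.ext
    apply Equiv.ext
    intro y
    obtain ⟨m, hm⟩ := hNt.exists_smul_eq x y
    have hm' : (m : G) • x = y := hm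
    change n • y = y
    rw [← hm', smul_smul, hNc n hn m m.2, mul_smul, hx]
  have hinj : Function.Injective (fun n : N => (n : G) • a) := by
    intro n m hnm
    have h1 : ((m : G)⁻¹ * n) • a = a := by
      rw [mul_smul, inv_smul_eq_iff]; exact hnm
    have h3 := hreg _ (N.mul_mem (N.inv_mem m.2) n.2) a h1
    rw [inv_mul_eq_one] at h3
    exact Subtype.ext h3.symm
  have hsurj : Function.Surjective (fun n : N => (n : G) • a) := fun x => hNt.exists_smul_eq a x
  let eN : N ≃ α := Equiv.ofBijective (fun n : N => (n : G) • a) ⟨hinj, hsurj⟩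
  have heN : ∀ n : N, eN n = (n : G) • a := fun n => rfl
  let : CommGroup N := { (inferInstance : Group N) with
    mul_comm := fun x y => Subtype.ext (hNc x.1 x.2 y.1 y.2) }
  let H := MulAction.stabilizer G a
  let conjN : G →* MulAut N := MulAut.conjNormal
  have hconjN : ∀ (g : G) (n : N), ((conjN g n : N) : G) = g * n * g⁻¹ :=
    fun g n => MulAut.conjNormal_apply g n
  let act : DistribMulAction H (Additive N) :=
    { smul := fun h v => Additive.ofMul (conjN (h : G) v.toMul)
      one_smul := fun v => by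
        change Additive.ofMul (conjN ((1 : H) : G) v.toMul) = v
        rw [OneMemClass.coe_one, map_one]; rfl
      mul_smul := fun h k v => by
        change Additive.ofMul (conjN ((h * k : H) : G) v.toMul) =
          Additive.ofMul (conjN (h : G) (conjN (k : G) v.toMul))
        rw [Subgroup.coe_mul, map_mul]; rfl
      smul_zero := fun h => by
        change Additive.ofMul (conjN (h : G) 1) = 0
        rw [map_one]; rfl
      smul_add := fun h v w => by
        change Additive.ofMul (conjN (h : G) (v.toMul * w.toMul)) =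
          Additive.ofMul (conjN (h : G) v.toMul * conjN (h : G) w.toMul)
        rw [map_mul] }
  have hact : ∀ (h : H) (n : N), h • Additive.ofMul n = Additive.ofMul (conjN (h : G) n) :=
    fun h n => rfl
  have hsm : ∀ (h : H) (n : N), ((conjN (h : G) n : N) : G) • a = (h : G) • ((n : G) • a) := by
    intro h n
    rw [hconjN, mul_smul, mul_smul]
    have h1 : ((h : G))⁻¹ • a = a := by rw [inv_smul_eq_iff]; exact h.2.symm
    rw [h1]
  have hV : Nontrivial (Additive N) := by
    obtain ⟨n, hn⟩ := Subgroup.ne_bot_iff_exists_ne_one.mp hNb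
    exact ⟨⟨Additive.ofMul n, 0, fun h => hn h⟩⟩
  have hfaith : FaithfulSMul H (Additive N) := ⟨by
    intro h k hhk
    apply Subtype.ext
    apply Subtype.ext
    apply Equiv.ext
    intro x
    obtain ⟨n, hn⟩ := hsurj x
    have hn' : (n : G) • a = x := hn
    have h1 : conjN (h : G) n = conjN (k : G) n := hhk (Additive.ofMul n)
    change (h : G) • x = (k : G) • x
    rw [← hn', ← hsm h n, ← hsm k n, h1]⟩
  have hoddH : Odd (Nat.card H) := hodd.of_dvd_nat (Subgroup.card_subgroup_dvd_card H)
  have hpV : ∀ v : Additive N, p • v = 0 := by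
    intro v
    have h1 : (v.toMul : G) ^ p = 1 := hNp _ v.toMul.2
    exact Subtype.ext h1
  have hT : ∀ v w : Additive N, v ≠ 0 → w ≠ 0 → ∃ h : H, h • v = w ∨ h • v = -w := by
    intro v w hv hw
    have hv' : (v.toMul : G) • a ≠ a := fun h => hv (Subtype.ext (hreg _ v.toMul.2 a h))
    have hw' : (w.toMul : G) • a ≠ a := fun h => hw (Subtype.ext (hreg _ w.toMul.2 a h))
    obtain ⟨g, hg | hg⟩ := S0735.move_pair G h2 a ((v.toMul : G) • a) a ((w.toMul : G) • a)
      hv'.symm hw'.symm
    · refine ⟨⟨g, hg.1⟩, Or.inl ?_⟩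
      have h1 : conjN g v.toMul = w.toMul := by
        apply hinj
        change ((conjN g v.toMul : N) : G) • a = (w.toMul : G) • a
        have := hsm ⟨g, hg.1⟩ v.toMul
        rw [this]
        exact hg.2
      exact h1
    · -- `h = w⁻¹ g`
      have h3 : ((w.toMul : G)⁻¹ * g) • a = a := by
        rw [mul_smul, inv_smul_eq_iff]; exact hg.1
      refine ⟨⟨(w.toMul : G)⁻¹ * g, h3⟩, Or.inr ?_⟩
      have h1 : conjN ((w.toMul : G)⁻¹ * g) v.toMul = (w.toMul)⁻¹ := by
        apply hinj
        change ((conjN ((w.toMul : G)⁻¹ * g) v.toMul : N) : G) • a = (((w.toMul)⁻¹ : N) : G) • a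
        have := hsm ⟨(w.toMul : G)⁻¹ * g, h3⟩ v.toMul
        rw [this]
        change ((w.toMul : G)⁻¹ * g) • (v.toMul : G) • a = ((w.toMul : G))⁻¹ • a
        rw [mul_smul, hg.2]
      exact h1
  obtain ⟨f, θ, hcard, hθ⟩ := exists_galois (H := H) p hpV hsol hoddH hT
  have hp2 : p ≠ 2 := by
    rintro rfl
    obtain ⟨n, hn⟩ := Subgroup.ne_bot_iff_exists_ne_one.mp hNb
    have h1 : orderOf (n : G) ∣ 2 := orderOf_dvd_of_pow_eq_one (hNp n n.2)
    rcases (Nat.dvd_prime Nat.prime_two).mp h1 with h3 | h3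
    · rw [orderOf_eq_one_iff] at h3
      exact hn (Subtype.ext h3)
    · have h4 : 2 ∣ Nat.card G := h3 ▸ orderOf_dvd_natCard (n : G)
      exact (Nat.not_even_iff_odd.mpr hodd) (even_iff_two_dvd.mpr h4)
  have hmod := card_mod_four (H := H) p hp2 hpV hoddH hT
  have hcardα : Fintype.card α = p ^ f := by
    rw [← hcard, ← Nat.card_eq_fintype_card]
    exact (Nat.card_congr eN).symm
  let e : α ≃ GaloisField p f := (eN.symm.trans Additive.ofMul).trans θ.toEquiv
  have he : ∀ n : N, e ((n : G) • a) = θ (Additive.ofMul n) := by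
    intro n
    change θ (Additive.ofMul (eN.symm (eN n))) = _
    rw [Equiv.symm_apply_apply]
  refine ⟨p, f, hpF, hp2, hcardα, ?_, e, ?_, ?_⟩
  · rw [← hcard]; exact hmod
  · intro g
    obtain ⟨n, hn⟩ := hsurj (g • a)
    have hn' : (n : G) • a = g • a := hn
    have h1 : ((n : G)⁻¹ * g) • a = a := by
      rw [mul_smul, inv_smul_eq_iff]; exact hn'.symm
    obtain ⟨c, φ, hcφ⟩ := hθ ⟨(n : G)⁻¹ * g, h1⟩
    refine ⟨c, θ (Additive.ofMul n), φ, ?_⟩
    intro x
    obtain ⟨y, rfl⟩ := e.surjective x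
    obtain ⟨m, hm⟩ := hsurj y
    have hm' : (m : G) • a = y := hm
    change e (g • (e.symm (e y))) = _
    rw [Equiv.symm_apply_apply, ← hm', he]
    have h3 : g • (m : G) • a = ((n * conjN ((n : G)⁻¹ * g) m : N) : G) • a := by
      rw [Subgroup.coe_mul, mul_smul]
      have h5 : ((conjN ((n : G)⁻¹ * g) m : N) : G) • a = ((n : G)⁻¹ * g) • (m : G) • a :=
        hsm ⟨(n : G)⁻¹ * g, h1⟩ m
      rw [h5, mul_smul, smul_inv_smul]
    rw [h3, he]
    have h4 : Additive.ofMul (n * conjN ((n : G)⁻¹ * g) m) =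
        Additive.ofMul n + (⟨(n : G)⁻¹ * g, h1⟩ : H) • Additive.ofMul m := rfl
    rw [h4, map_add, hcφ, add_comm]
  · intro b
    obtain ⟨v, hv⟩ := θ.surjective b
    refine ⟨(v.toMul : G), ?_⟩
    intro x
    obtain ⟨m, hm⟩ := hsurj x
    have hm' : (m : G) • a = x := hm
    change e ((v.toMul : G) • x) = _
    rw [← hm', he]
    have h3 : (v.toMul : G) • (m : G) • a = ((m * v.toMul : N) : G) • a := by
      rw [smul_smul, Subgroup.coe_mul, hNc _ v.toMul.2 _ m.2]
    rw [h3, he]
    have h4 : Additive.ofMul (m * v.toMul) = Additive.ofMul m + v := rfl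
    rw [h4, map_add, hv]

/-- A nontrivial 2-homogeneous group that is not 2-transitive has degree at least three. -/
theorem three_le_card {α : Type*} [Fintype α] [DecidableEq α] (G : Subgroup (Equiv.Perm α))
    (hne : G ≠ ⊥) (hn2 : ¬ MulAction.IsMultiplyPretransitive G α 2) : 3 ≤ Fintype.card α := by
  by_contra hcon
  obtain ⟨g, hg⟩ := Subgroup.ne_bot_iff_exists_ne_one.mp hne
  obtain ⟨x, hx⟩ : ∃ x : α, (g : Equiv.Perm α) x ≠ x := by
    by_contra h
    push Not at h
    exact hg (Subtype.ext (Equiv.ext h))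
  have hall : ∀ z : α, z = x ∨ z = (g : Equiv.Perm α) x := by
    intro z
    by_contra hz
    push Not at hz
    have h1 : ({z, x, (g : Equiv.Perm α) x} : Finset α).card = 3 := by
      rw [Finset.card_insert_of_notMem, Finset.card_pair (Ne.symm hx)]
      simp only [Finset.mem_insert, Finset.mem_singleton, not_or]
      exact hz
    have h2 := Finset.card_le_univ ({z, x, (g : Equiv.Perm α) x} : Finset α)
    omega
  apply hn2
  rw [MulAction.is_two_pretransitive_iff]
  have hgg : (g : Equiv.Perm α) ((g : Equiv.Perm α) x) = x := by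
    rcases hall ((g : Equiv.Perm α) ((g : Equiv.Perm α) x)) with h | h
    · exact h
    · exact absurd ((g : Equiv.Perm α).injective h) hx
  intro c d c' d' hcd hcd'
  rcases hall c with rfl | rfl <;> rcases hall d with rfl | rfl <;>
    rcases hall c' with rfl | rfl <;> rcases hall d' with rfl | rfl
  all_goals first
    | exact absurd rfl hcd
    | exact absurd rfl hcd'
    | exact ⟨1, one_smul _ _, one_smul _ _⟩
    | exact ⟨g, rfl, hgg⟩
    | exact ⟨g, hgg, rfl⟩

/-- Kantor's theorem for solvable groups. -/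
theorem kantor_of_solvable {α : Type*} [Fintype α] [DecidableEq α] (G : Subgroup (Equiv.Perm α))
    (hne : G ≠ ⊥) (h2 : MulAction.IsPretransitive G (Set.powersetCard α 2))
    (hn2 : ¬ MulAction.IsMultiplyPretransitive G α 2)
    (hsol : Odd (Nat.card G) → Group.IsSolvable G) :
    Odd (Nat.card G) ∧ ∃ (p f : ℕ) (_ : Fact p.Prime), p ≠ 2 ∧ Fintype.card α = p ^ f ∧
      p ^ f % 4 = 3 ∧ ∃ e : α ≃ GaloisField p f,
        (∀ g : G, e.symm.trans (((g : Equiv.Perm α)).trans e) ∈
          Cfsg.semiaffineGroup (GaloisField p f)) ∧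
        ∀ b : GaloisField p f, ∃ g : G, ∀ x : α, e ((g : Equiv.Perm α) x) = e x + b := by
  classical
  have hα := three_le_card G hne hn2
  obtain ⟨heven, hprim⟩ := S0735.result G h2 hα
  have hodd : Odd (Nat.card G) := by
    rw [← Nat.not_even_iff_odd]
    exact fun h => hn2 (heven h)
  have hprim' : MulAction.IsPreprimitive G α := hprim hne
  refine ⟨hodd, ?_⟩
  have hs := hsol hodd
  have hnt : Nontrivial G := (Subgroup.nontrivial_iff_ne_bot G).mpr hne
  obtain ⟨p, N, hp, hNn, hNb, hNc, hNp⟩ := exists_elementary hs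
  obtain ⟨n, hn⟩ := Subgroup.ne_bot_iff_exists_ne_one.mp hNb
  have hNt : MulAction.IsPretransitive N α := by
    apply MulAction.IsQuasiPreprimitive.isPretransitive_of_normal (G := G)
    intro h
    apply hn
    apply Subtype.ext
    apply Subtype.ext
    apply Equiv.ext
    intro x
    have hx : x ∈ MulAction.fixedPoints N α := by rw [h]; trivial
    exact hx n
  have hne' : Nonempty α := by
    rw [← Fintype.card_pos_iff]; omega
  obtain ⟨a⟩ := hne'
  exact kantor_affine G h2 hodd N hNn hNb hNc hp hNp hNt a inferInstance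

end Cfsg.Agent.PermutationGroups.KantorSolvable
end

-- part: S0737
section
set_option autoImplicit false
open Cfsg

namespace Cfsg.Agent.S0737

/-- A non-trivial 2-homogeneous permutation group that is not doubly transitive has odd order and degree `p^f ≡ 3 (mod 4)`, and is permutation-isomorphic to a group of semi-affine transformations `x ↦ a φ(x) + b` of the field with `p^f` elements containing all translations. -/
theorem result {α : Type*} [Fintype α] [DecidableEq α] (G : Subgroup (Equiv.Perm α)) (hne : G ≠ ⊥) (h2 : MulAction.IsPretransitive G (Set.powersetCard α 2)) (hn2 : ¬ MulAction.IsMultiplyPretransitive G α 2) : Odd (Nat.card G) ∧ ∃ (p f : ℕ) (_ : Fact p.Prime), p ≠ 2 ∧ Fintype.card α = p ^ f ∧ p ^ f % 4 = 3 ∧ ∃ e : α ≃ GaloisField p f, (∀ g : G, e.symm.trans (((g : Equiv.Perm α)).trans e) ∈ Cfsg.semiaffineGroup (GaloisField p f)) ∧ ∀ b : GaloisField p f, ∃ g : G, ∀ x : α, e ((g : Equiv.Perm α) x) = e x + b :=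
  PermutationGroups.KantorSolvable.kantor_of_solvable G hne h2 hn2
    (fun hodd => Cfsg.Agent.S0205.result hodd)

end Cfsg.Agent.S0737
end
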