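import Mathlib
import Cfsg.Agent.H449.Lcs
import Cfsg.Agent.PLocal.CyclicAbelianization
import Cfsg.Agent.Transfer.MaximalClass
import Cfsg.Agent.S4209
import Cfsg.Agent.H544.Regular
import Cfsg.Statements.S3806
import Cfsg.Agent.H583.SecRank
set_option linter.all false

-- part: H454/MaxClass
section
/-!
# p-groups of maximal class: the lower central series

`L S i = γ_{i+1}(S)`.  For `S` of order `p ^ n`, `3 ≤ n`, and class `n - 1`:
* `card_L` : `|γ_{i+1}(S)| = p ^ (n - 1 - i)` for `1 ≤ i ≤ n - 1`;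
* `eq_zpowers_sup` : `γ_{i+1} = ⟨w⟩ γ_{i+2}` for `w ∈ γ_{i+1} \ γ_{i+2}`;
* `commutator_L_self_le` : `[γ_{i+1}, γ_{i+1}] ≤ γ_{2i+3}`.
-/

set_option autoImplicit false

namespace Cfsg.Agent.H454.MaxClass

open Subgroup
open scoped commutatorElement

/-- `L S i = γ_{i+1}(S)`. -/
abbrev L (S : Type*) [Group S] (i : ℕ) : Subgroup S := (⊤ : Subgroup S).lowerCentralSeries i

theorem L_anti (S : Type*) [Group S] {i j : ℕ} (h : i ≤ j) : L S j ≤ L S i :=
  (⊤ : Subgroup S).lowerCentralSeries_antitone h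

theorem comm_mem {S : Type*} [Group S] {i : ℕ} {x : S} (hx : x ∈ L S i) (y : S) :
    ⁅x, y⁆ ∈ L S (i + 1) := by
  rw [L, Subgroup.lowerCentralSeries_succ]
  exact commutator_mem_commutator hx (mem_top y)

theorem comm_mem' {S : Type*} [Group S] {i j : ℕ} {x y : S} (hx : x ∈ L S i) (hy : y ∈ L S j) :
    ⁅x, y⁆ ∈ L S (i + j + 1) :=
  H449.commutator_lcs_le ⊤ i j (commutator_mem_commutator hx hy)

section

variable {S : Type*} [Group S] [Finite S] {p : ℕ} [hp : Fact p.Prime] {n : ℕ}

theorem L_eq_bot (hc : Nat.card S = p ^ n) (hcl : Group.nilpotencyClass S = n - 1) {i : ℕ}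
    (hi : n - 1 ≤ i) : L S i = ⊥ := by
  have hS : IsPGroup p S := IsPGroup.of_card hc
  have : Group.IsNilpotent S := hS.isNilpotent
  rw [L, Subgroup.lowerCentralSeries_eq_bot_iff_nilpotencyClass_le]
  omega

theorem L_ne_bot (hc : Nat.card S = p ^ n) (hcl : Group.nilpotencyClass S = n - 1) {i : ℕ}
    (hi : i < n - 1) : L S i ≠ ⊥ := by
  have hS : IsPGroup p S := IsPGroup.of_card hc
  have : Group.IsNilpotent S := hS.isNilpotent
  rw [L, Ne, Subgroup.lowerCentralSeries_eq_bot_iff_nilpotencyClass_le]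
  omega

theorem L_lt (hc : Nat.card S = p ^ n) (hcl : Group.nilpotencyClass S = n - 1) {i : ℕ}
    (hi : i < n - 1) : L S (i + 1) < L S i := by
  refine lt_of_le_of_ne (L_anti S (Nat.le_succ i)) ?_
  intro h
  have h1 : ∀ k, L S (i + k) = L S i := by
    intro k
    induction k with
    | zero => rfl
    | succ k ih =>
      have ih' : (⊤ : Subgroup S).lowerCentralSeries (i + k) =
        (⊤ : Subgroup S).lowerCentralSeries i := ih
      rw [← add_assoc, L, Subgroup.lowerCentralSeries_succ, ih',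
        ← Subgroup.lowerCentralSeries_succ]
      exact h
  have h2 := h1 (n - 1 - i)
  rw [show i + (n - 1 - i) = n - 1 by omega, L_eq_bot hc hcl le_rfl] at h2
  exact L_ne_bot hc hcl hi h2.symm

theorem prime_dvd (hc : Nat.card S = p ^ n) (hcl : Group.nilpotencyClass S = n - 1) {i : ℕ}
    (hi : i < n - 1) : p ∣ (L S (i + 1)).relIndex (L S i) := by
  have hS : IsPGroup p S := IsPGroup.of_card hc
  exact PLocal.Uniserial.prime_dvd_relIndex_of_lt (hS.to_subgroup _) (L_lt hc hcl hi)

theorem index_commutator (hc : Nat.card S = p ^ n) (hcl : Group.nilpotencyClass S = n - 1)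
    (hn : 3 ≤ n) : p ^ 2 ∣ (L S 1).index := by
  have hS : IsPGroup p S := IsPGroup.of_card hc
  have hnil : Group.IsNilpotent S := hS.isNilpotent
  have h1 : ¬ IsCyclic (S ⧸ _root_.commutator S) := by
    intro h
    have h2 := PLocal.CyclicAbelianization.commutator_eq_bot_of_isCyclic_quotient hnil h
    rw [← top_lowerCentralSeries_one] at h2
    exact L_ne_bot hc hcl (show 1 < n - 1 by omega) h2
  rw [L, top_lowerCentralSeries_one]
  obtain ⟨k, hk⟩ := hS.index (_root_.commutator S)
  rw [hk]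
  apply pow_dvd_pow
  by_contra hlt
  apply h1
  have hcard : Nat.card (S ⧸ _root_.commutator S) = p ^ k := hk
  have hk' : k = 0 ∨ k = 1 := by omega
  rcases hk' with rfl | rfl
  · rw [pow_zero] at hcard
    have := (Nat.card_eq_one_iff_unique.mp hcard).1
    infer_instance
  · rw [pow_one] at hcard
    exact isCyclic_of_prime_card hcard

theorem card_L (hc : Nat.card S = p ^ n) (hcl : Group.nilpotencyClass S = n - 1)
    (hn : 3 ≤ n) {i : ℕ} (hi : 1 ≤ i) (hin : i ≤ n - 1) : Nat.card (L S i) = p ^ (n - 1 - i) := by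
  have hpp : p.Prime := hp.out
  apply Nat.dvd_antisymm
  · -- upper bound
    induction i, hi using Nat.le_induction with
    | base =>
      obtain ⟨a, ha⟩ := index_commutator hc hcl hn
      have h1 := (L S 1).card_mul_index
      rw [ha, hc, show n = (n - 1 - 1) + 2 by omega, pow_add] at h1
      have h2 : p ^ 2 * (Nat.card (L S 1) * a) = p ^ 2 * p ^ (n - 1 - 1) := by
        rw [mul_comm (p ^ 2) (p ^ (n - 1 - 1)), ← h1]; ring
      have h3 := Nat.eq_of_mul_eq_mul_left (pow_pos hpp.pos 2) h2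
      exact Dvd.intro a h3
    | succ i hi ih =>
      obtain ⟨a, ha⟩ := prime_dvd hc hcl (show i < n - 1 by omega)
      have h1 := PLocal.Uniserial.card_mul_relIndex (L_anti S (Nat.le_succ i))
      have h2 := ih (by omega)
      rw [← h1, ha, show n - 1 - i = (n - 1 - (i + 1)) + 1 by omega, pow_succ] at h2
      have h3 : p * (Nat.card (L S (i + 1)) * a) ∣ p * p ^ (n - 1 - (i + 1)) := by
        refine (Eq.dvd ?_).trans (h2.trans (Eq.dvd (mul_comm _ _)))
        ring
      exact (Dvd.intro a rfl).trans (Nat.dvd_of_mul_dvd_mul_left hpp.pos h3)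
  · -- lower bound
    have key : ∀ j, j ≤ n - 1 → p ^ j ∣ Nat.card (L S (n - 1 - j)) := by
      intro j
      induction j with
      | zero => intro _; simp
      | succ j ih =>
        intro hj
        have h1 := PLocal.Uniserial.card_mul_relIndex
          (L_anti S (show n - 1 - (j + 1) ≤ n - 1 - (j + 1) + 1 by omega))
        have h2 := prime_dvd hc hcl (show n - 1 - (j + 1) < n - 1 by omega)
        rw [← h1, pow_succ]
        refine mul_dvd_mul ?_ h2
        rw [show n - 1 - (j + 1) + 1 = n - 1 - j by omega]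
        exact ih (by omega)
    have := key (n - 1 - i) (by omega)
    rwa [show n - 1 - (n - 1 - i) = i by omega] at this

theorem index_L (hc : Nat.card S = p ^ n) (hcl : Group.nilpotencyClass S = n - 1)
    (hn : 3 ≤ n) {i : ℕ} (hi : 1 ≤ i) (hin : i ≤ n - 1) : (L S i).index = p ^ (i + 1) := by
  have h1 := (L S i).card_mul_index
  rw [card_L hc hcl hn hi hin, hc, show n = (n - 1 - i) + (i + 1) by omega, pow_add] at h1
  simp only [show (n - 1 - i) + (i + 1) - 1 - i = n - 1 - i by omega] at h1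
  exact Nat.eq_of_mul_eq_mul_left (pow_pos hp.out.pos _) h1

theorem relIndex_L (hc : Nat.card S = p ^ n) (hcl : Group.nilpotencyClass S = n - 1)
    (hn : 3 ≤ n) {i : ℕ} (hi : 1 ≤ i) (hin : i < n - 1) :
    (L S (i + 1)).relIndex (L S i) = p := by
  have h1 := PLocal.Uniserial.card_mul_relIndex (L_anti S (Nat.le_succ i))
  rw [card_L hc hcl hn hi (by omega), card_L hc hcl hn (by omega) (by omega),
    show n - 1 - i = (n - 1 - (i + 1)) + 1 by omega, pow_succ] at h1
  exact Nat.eq_of_mul_eq_mul_left (pow_pos hp.out.pos _) h1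

/-- `γ_{i+1} = ⟨w⟩ γ_{i+2}` for `w ∈ γ_{i+1} \ γ_{i+2}`. -/
theorem exists_eq_zpow_mul (hc : Nat.card S = p ^ n) (hcl : Group.nilpotencyClass S = n - 1)
    (hn : 3 ≤ n) {i : ℕ} (hi : 1 ≤ i) (hin : i < n - 1) {w : S} (hw : w ∈ L S i)
    (hw' : w ∉ L S (i + 1)) {x : S} (hx : x ∈ L S i) :
    ∃ a : ℤ, ∃ l ∈ L S (i + 1), x = w ^ a * l := by
  have hnorm : (L S (i + 1)).Normal := inferInstance
  set K : Subgroup S := zpowers w ⊔ L S (i + 1) with hK
  have hKL : K ≤ L S i := sup_le (by rwa [zpowers_le]) (L_anti S (Nat.le_succ i))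
  have h1 := relIndex_mul_relIndex (L S (i + 1)) K (L S i) le_sup_right hKL
  rw [relIndex_L hc hcl hn hi hin] at h1
  have h2 : (L S (i + 1)).relIndex K ≠ 1 := by
    rw [Ne, relIndex_eq_one]
    intro h
    exact hw' (h (mem_sup_left (mem_zpowers w)))
  have h3 : K.relIndex (L S i) = 1 := by
    rcases (Nat.dvd_prime hp.out).mp (Dvd.intro _ h1) with h | h
    · exact absurd h h2
    · rw [h] at h1
      exact Nat.eq_of_mul_eq_mul_left hp.out.pos (by rw [h1, mul_one])
  rw [relIndex_eq_one] at h3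
  have h4 := h3 hx
  rw [hK, mem_sup_of_normal_right] at h4
  obtain ⟨y, hy, l, hl, rfl⟩ := h4
  obtain ⟨a, rfl⟩ := mem_zpowers_iff.mp hy
  exact ⟨a, l, hl, rfl⟩

/-- `[γ_{i+1}, γ_{i+1}] ≤ γ_{2i+3}`. -/
theorem comm_mem_self (hc : Nat.card S = p ^ n) (hcl : Group.nilpotencyClass S = n - 1)
    (hn : 3 ≤ n) {i : ℕ} (hi : 1 ≤ i) {x y : S} (hx : x ∈ L S i) (hy : y ∈ L S i) :
    ⁅x, y⁆ ∈ L S (2 * i + 2) := by
  by_cases hin : i < n - 1
  · obtain ⟨w, hw, hw'⟩ := SetLike.exists_of_lt (L_lt hc hcl hin)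
    obtain ⟨a, l, hl, rfl⟩ := exists_eq_zpow_mul hc hcl hn hi hin hw hw' hx
    obtain ⟨b, m, hm, rfl⟩ := exists_eq_zpow_mul hc hcl hn hi hin hw hw' hy
    have hN : (L S (2 * i + 2)).Normal := inferInstance
    have hwa : w ^ a ∈ L S i := (L S i).zpow_mem hw a
    have hwb : w ^ b ∈ L S i := (L S i).zpow_mem hw b
    -- identity
    have e1 : ⁅w ^ a * l, w ^ b * m⁆ = (w ^ a * ⁅l, w ^ b * m⁆ * (w ^ a)⁻¹) *
        (⁅w ^ a, w ^ b⁆ * (w ^ b * ⁅w ^ a, m⁆ * (w ^ b)⁻¹)) := by
      simp only [commutatorElement_def]; group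
    have e2 : ⁅w ^ a, w ^ b⁆ = 1 := by
      rw [commutatorElement_eq_one_iff_mul_comm]
      exact (Commute.refl w).zpow_zpow a b
    have h1 : ⁅l, w ^ b * m⁆ ∈ L S (2 * i + 2) := by
      have := comm_mem' hl ((L S i).mul_mem hwb (L_anti S (Nat.le_succ i) hm))
      rwa [show i + 1 + i + 1 = 2 * i + 2 by ring] at this
    have h2 : ⁅w ^ a, m⁆ ∈ L S (2 * i + 2) := by
      have := comm_mem' hwa hm
      rwa [show i + (i + 1) + 1 = 2 * i + 2 by ring] at this
    rw [e1, e2, one_mul]
    exact (L S (2 * i + 2)).mul_mem (hN.conj_mem _ h1 _) (hN.conj_mem _ h2 _)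
  · have h1 : L S i = ⊥ := L_eq_bot hc hcl (by omega)
    rw [h1, mem_bot] at hx
    rw [hx, commutatorElement_one_left]
    exact one_mem _

/-- The last nontrivial term is the centre. -/
theorem L_eq_center (hc : Nat.card S = p ^ n) (hcl : Group.nilpotencyClass S = n - 1)
    (hn : 3 ≤ n) : L S (n - 2) = center S := by
  apply eq_of_le_of_card_ge
  · intro x hx
    rw [mem_center_iff]
    intro y
    have h1 := comm_mem hx y
    rw [show n - 2 + 1 = n - 1 by omega, L_eq_bot hc hcl le_rfl, mem_bot,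
      commutatorElement_eq_one_iff_mul_comm] at h1
    exact h1.symm
  · rw [Transfer.MaximalClass.card_center_of_maxClass hn hc hcl,
      card_L hc hcl hn (by omega) (by omega), show n - 1 - (n - 2) = 1 by omega, pow_one]

/-- Every `p`-th power lies in the commutator subgroup. -/
theorem pow_mem_L_one (hc : Nat.card S = p ^ n) (hcl : Group.nilpotencyClass S = n - 1)
    (hn : 3 ≤ n) (x : S) : x ^ p ∈ L S 1 := by
  have hS : IsPGroup p S := IsPGroup.of_card hc
  have hnil : Group.IsNilpotent S := hS.isNilpotent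
  have hi := index_L hc hcl hn (le_refl 1) (by omega)
  have hN : (L S 1).Normal := inferInstance
  have h1 : ¬ IsCyclic (S ⧸ L S 1) := by
    intro h
    have h2 := PLocal.CyclicAbelianization.commutator_eq_bot_of_isCyclic_quotient hnil h
    exact L_ne_bot hc hcl (show 1 < n - 1 by omega) h2
  have hcq : Nat.card (S ⧸ L S 1) = p ^ 2 := hi
  set a : S ⧸ L S 1 := QuotientGroup.mk x with ha
  have h2 : orderOf a ∣ p ^ 2 := by rw [← hcq]; exact orderOf_dvd_natCard a
  obtain ⟨j, hj2, hj⟩ := (Nat.dvd_prime_pow hp.out).mp h2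
  have hj1 : j ≤ 1 := by
    by_contra h
    have : j = 2 := by omega
    apply h1
    exact isCyclic_of_orderOf_eq_card a (by rw [hj, this, hcq])
  have h3 : a ^ p = 1 := by
    rw [← orderOf_dvd_iff_pow_eq_one, hj]
    exact (pow_dvd_pow p hj1).trans (by rw [pow_one])
  rw [ha, ← QuotientGroup.mk_pow, QuotientGroup.eq_one_iff] at h3
  exact h3

end

end Cfsg.Agent.H454.MaxClass
end

-- part: H454/MaxClassExp
section
/-!
# p-groups of maximal class: elements of order `p`

For `S` of order `p ^ n`, `3 ≤ n`, and class `n - 1`: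
* `twoStep S i` : the two-step centralizer `C_S(γ_{i+1}/γ_{i+3})`;
* `pow_mem_center` : if `n ≤ p + 1` then `x ^ p ∈ Z(S)` for all `x`;
* `exp_L` : if `n ≤ 2 p` then `γ_{i+1}(S)` has exponent `p` for `1 ≤ i`, `n ≤ i + p`.
-/

set_option autoImplicit false

namespace Cfsg.Agent.H454.MaxClass

open Subgroup
open scoped commutatorElement

/-- The two-step centralizer `C_S(γ_{i+1}/γ_{i+3})`. -/
def twoStep (S : Type*) [Group S] (i : ℕ) : Subgroup S where
  carrier := {s | ∀ y ∈ L S i, ⁅y, s⁆ ∈ L S (i + 2)}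
  one_mem' := by
    intro y _
    rw [commutatorElement_one_right]
    exact one_mem _
  mul_mem' := by
    intro s t hs ht y hy
    have e : ⁅y, s * t⁆ = ⁅y, s⁆ * (s * ⁅y, t⁆ * s⁻¹) := by
      simp only [commutatorElement_def]; group
    have hN : (L S (i + 2)).Normal := inferInstance
    rw [e]
    exact mul_mem (hs y hy) (hN.conj_mem _ (ht y hy) s)
  inv_mem' := by
    intro s hs y hy
    have e : ⁅y, s⁻¹⁆ = s⁻¹ * ⁅y, s⁆⁻¹ * (s⁻¹)⁻¹ := by
      simp only [commutatorElement_def]; group
    have hN : (L S (i + 2)).Normal := inferInstance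
    rw [e]
    exact hN.conj_mem _ (inv_mem (hs y hy)) _

theorem mem_twoStep {S : Type*} [Group S] {i : ℕ} {s : S} :
    s ∈ twoStep S i ↔ ∀ y ∈ L S i, ⁅y, s⁆ ∈ L S (i + 2) := Iff.rfl

/-- A subgroup of class less than `p` is regular. -/
theorem regular_of_lcs {S : Type*} [Group S] [Finite S] {p : ℕ} [Fact p.Prime] (hS : IsPGroup p S)
    (H : Subgroup S) (h : H.lowerCentralSeries (p - 1) = ⊥) : Cfsg.IsRegularPGroup p H := by
  refine S4209.result (hS.to_subgroup H) ?_
  rw [← top_subtype_lowerCentralSeries] at h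
  exact (Subgroup.map_eq_bot_iff_of_injective _ H.subtype_injective).mp h

section

variable {S : Type*} [Group S] [Finite S] {p : ℕ} [hp : Fact p.Prime] {n : ℕ}

theorem twoStep_ne_top (hc : Nat.card S = p ^ n) (hcl : Group.nilpotencyClass S = n - 1)
    {i : ℕ} (hi : i + 1 < n - 1) : twoStep S i ≠ ⊤ := by
  intro h
  have h1 : L S (i + 1) ≤ L S (i + 2) := by
    have : L S (i + 1) = ⁅L S i, (⊤ : Subgroup S)⁆ := rfl
    rw [this, commutator_le]
    intro y hy s _
    have hs : s ∈ twoStep S i := by rw [h]; trivial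
    exact hs y hy
  exact absurd h1 (not_le_of_gt (L_lt hc hcl hi))

/-- A uniform element has its `p`-th power in the centre. -/
theorem pow_mem_center_of_uniform (hc : Nat.card S = p ^ n)
    (hcl : Group.nilpotencyClass S = n - 1) (hn : 3 ≤ n) {s : S}
    (hs : ∀ i, 1 ≤ i → i + 1 < n - 1 → s ∉ twoStep S i) : s ^ p ∈ center S := by
  rw [← L_eq_center hc hcl hn]
  have key : ∀ j, 1 ≤ j → j ≤ n - 2 → s ^ p ∈ L S j := by
    intro j hj
    induction j, hj using Nat.le_induction with
    | base => intro _; exact pow_mem_L_one hc hcl hn s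
    | succ j hj ih =>
      intro hjn
      have h1 := ih (by omega)
      by_contra h2
      apply hs j hj (by omega)
      intro y hy
      obtain ⟨a, l, hl, rfl⟩ := exists_eq_zpow_mul hc hcl hn hj (by omega) h1 h2 hy
      have hN : (L S (j + 2)).Normal := inferInstance
      have e1 : ⁅(s ^ p) ^ a * l, s⁆ = ((s ^ p) ^ a * ⁅l, s⁆ * ((s ^ p) ^ a)⁻¹) *
          ⁅(s ^ p) ^ a, s⁆ := by
        simp only [commutatorElement_def]; group
      have e2 : ⁅(s ^ p) ^ a, s⁆ = 1 := by
        rw [commutatorElement_eq_one_iff_mul_comm]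
        exact ((Commute.refl s).pow_left p).zpow_left a
      rw [e1, e2, mul_one]
      exact hN.conj_mem _ (comm_mem hl s) _
  exact key (n - 2) (by omega) le_rfl

open Pointwise in
theorem pow_mem_center (hc : Nat.card S = p ^ n)
    (hcl : Group.nilpotencyClass S = n - 1) (hn : 3 ≤ n) (hnp : n ≤ p + 1) (x : S) :
    x ^ p ∈ center S := by
  have hS : IsPGroup p S := IsPGroup.of_card hc
  have hnil : Group.IsNilpotent S := hS.isNilpotent
  have hreg : Cfsg.IsRegularPGroup p (S ⧸ center S) := by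
    refine S4209.result (hS.to_quotient _) ?_
    rw [Subgroup.lowerCentralSeries_eq_bot_iff_nilpotencyClass_le,
      Transfer.MaximalClass.nilpotencyClass_quotient_center_of_maxClass hcl]
    omega
  obtain ⟨Om, -, hOm⟩ := H544.Regular.exists_omega hreg 1
  set W : Subgroup S := Om.comap (QuotientGroup.mk' (center S)) with hW
  have hmem : ∀ s : S, s ∈ W ↔ s ^ p ∈ center S := by
    intro s
    have h1 : s ∈ W ↔ (QuotientGroup.mk' (center S) s) ∈ (Om : Set (S ⧸ center S)) := Iff.rfl
    rw [h1, hOm]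
    change (QuotientGroup.mk' (center S) s) ^ p ^ 1 = 1 ↔ _
    rw [pow_one, ← map_pow]
    exact QuotientGroup.eq_one_iff _
  rw [← hmem]
  by_contra hx
  have hWt : W ≠ ⊤ := by
    intro h; apply hx; rw [h]; trivial
  let H : ℕ → Subgroup S := fun i => if i = 0 then W else twoStep S i
  have hindex : ∀ i ∈ Finset.range (n - 2), p ≤ (H i).index := by
    intro i hi
    rw [Finset.mem_range] at hi
    have hne : H i ≠ ⊤ := by
      by_cases h0 : i = 0
      · simp only [H, h0, if_true]; exact hWt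
      · simp only [H, h0, if_false]
        exact twoStep_ne_top hc hcl (by omega)
    obtain ⟨k, hk⟩ := hS.index (H i)
    rw [hk]
    have hk0 : k ≠ 0 := by
      rintro rfl
      rw [pow_zero, index_eq_one] at hk
      exact hne hk
    calc p = p ^ 1 := (pow_one p).symm
      _ ≤ p ^ k := Nat.pow_le_pow_right hp.out.pos (by omega)
  have hcov : ⋃ i ∈ Finset.range (n - 2), (1 : S) • (H i : Set S) = Set.univ := by
    rw [Set.eq_univ_iff_forall]
    intro s
    simp only [one_smul, Set.mem_iUnion]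
    by_cases hs : ∃ i, 1 ≤ i ∧ i + 1 < n - 1 ∧ s ∈ twoStep S i
    · obtain ⟨i, hi1, hi2, hi3⟩ := hs
      refine ⟨i, Finset.mem_range.mpr (by omega), ?_⟩
      have h0 : i ≠ 0 := by omega
      simp only [H, h0, if_false]
      exact hi3
    · push Not at hs
      refine ⟨0, Finset.mem_range.mpr (by omega), ?_⟩
      simp only [H, if_true]
      exact (hmem s).mpr (pow_mem_center_of_uniform hc hcl hn hs)
  obtain ⟨i, hi, -, hle⟩ := Subgroup.exists_index_le_card_of_leftCoset_cover hcov
  have := hindex i hi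
  rw [Finset.card_range] at hle
  omega

theorem comm_pow_eq_one (hc : Nat.card S = p ^ n)
    (hcl : Group.nilpotencyClass S = n - 1) (hn : 3 ≤ n) (hnp : n ≤ p + 1) (x y : S) :
    ⁅x, y⁆ ^ p = 1 ∧ (L S 1).lowerCentralSeries (p - 1) = ⊥ := by
  have hS : IsPGroup p S := IsPGroup.of_card hc
  have hN1 : (L S 1).Normal := inferInstance
  have hN2 : (L S 2).Normal := inferInstance
  set H : Subgroup S := zpowers x ⊔ L S 1 with hH
  have hlcs : ∀ j, 1 ≤ j → H.lowerCentralSeries j ≤ L S (j + 1) := by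
    intro j hj
    induction j, hj using Nat.le_induction with
    | base =>
      rw [Subgroup.lowerCentralSeries_succ, Subgroup.lowerCentralSeries_zero, commutator_le]
      intro u hu v hv
      rw [hH, mem_sup_of_normal_right] at hu hv
      obtain ⟨u', hu', l, hl, rfl⟩ := hu
      obtain ⟨v', hv', m, hm, rfl⟩ := hv
      obtain ⟨a, rfl⟩ := mem_zpowers_iff.mp hu'
      obtain ⟨b, rfl⟩ := mem_zpowers_iff.mp hv'
      have e1 : ⁅x ^ a * l, x ^ b * m⁆ = (x ^ a * ⁅l, x ^ b * m⁆ * (x ^ a)⁻¹) *
          (⁅x ^ a, x ^ b⁆ * (x ^ b * ⁅x ^ a, m⁆ * (x ^ b)⁻¹)) := by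
        simp only [commutatorElement_def]; group
      have e2 : ⁅x ^ a, x ^ b⁆ = 1 := by
        rw [commutatorElement_eq_one_iff_mul_comm]
        exact (Commute.refl x).zpow_zpow a b
      rw [e1, e2, one_mul]
      refine mul_mem (hN2.conj_mem _ (comm_mem hl _) _) (hN2.conj_mem _ ?_ _)
      have : ⁅m, x ^ a⁆⁻¹ ∈ L S 2 := inv_mem (comm_mem hm _)
      rwa [commutatorElement_inv] at this
    | succ j hj ih =>
      rw [Subgroup.lowerCentralSeries_succ]
      exact commutator_mono ih le_top
  have hp2 := hp.out.two_le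
  have hHp : H.lowerCentralSeries (p - 1) = ⊥ := by
    rw [eq_bot_iff]
    have h1 := hlcs (p - 1) (by omega)
    rwa [show p - 1 + 1 = p by omega, L_eq_bot hc hcl (by omega)] at h1
  refine ⟨?_, ?_⟩
  · have hreg := regular_of_lcs hS H hHp
    have hx : x ∈ H := mem_sup_left (mem_zpowers x)
    have hy : y * x * y⁻¹ ∈ H := by
      have e : y * x * y⁻¹ = ⁅y, x⁆ * x := by rw [commutatorElement_def]; group
      rw [e]
      refine mul_mem (mem_sup_right ?_) hx
      have : ⁅y, x⁆ ∈ L S (0 + 1) := comm_mem (mem_top y) x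
      exact this
    have h1 := (H544.Regular.pow_eq_iff hreg (⟨x, hx⟩ : H) ⟨y * x * y⁻¹, hy⟩ 1).mp (by
      apply Subtype.ext
      change x ^ p ^ 1 = (y * x * y⁻¹) ^ p ^ 1
      rw [pow_one, conj_pow]
      have := mem_center_iff.mp (pow_mem_center hc hcl hn hnp x) y
      rw [this, mul_inv_cancel_right])
    have h2 : (x * (y * x * y⁻¹)⁻¹) ^ p ^ 1 = 1 := congrArg Subtype.val h1
    rw [pow_one] at h2
    have e : ⁅x, y⁆ = x * (y * x * y⁻¹)⁻¹ := by rw [commutatorElement_def]; group
    rw [e, h2]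
  · rw [eq_bot_iff, ← hHp]
    exact Subgroup.lowerCentralSeries_mono _ le_sup_right

/-- If `n ≤ p + 1` then the commutator subgroup has exponent `p`. -/
theorem exp_L_one (hc : Nat.card S = p ^ n)
    (hcl : Group.nilpotencyClass S = n - 1) (hn : 3 ≤ n) (hnp : n ≤ p + 1) :
    ∀ x ∈ L S 1, x ^ p = 1 := by
  have hS : IsPGroup p S := IsPGroup.of_card hc
  have hreg := regular_of_lcs hS (L S 1) (comm_pow_eq_one hc hcl hn hnp 1 1).2
  have key : ∀ x ∈ L S 1, x ∈ L S 1 ∧ x ^ p = 1 := by
    intro x hx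
    have hx' : x ∈ closure {g | ∃ g₁ ∈ (⊤ : Subgroup S), ∃ g₂ ∈ (⊤ : Subgroup S), ⁅g₁, g₂⁆ = g} :=
      hx
    induction hx' using Subgroup.closure_induction with
    | mem y hy =>
      obtain ⟨a, ha, b, hb, rfl⟩ := hy
      exact ⟨comm_mem (i := 0) ha b, (comm_pow_eq_one hc hcl hn hnp a b).1⟩
    | one => exact ⟨one_mem _, one_pow _⟩
    | mul a b ha hb iha ihb =>
      obtain ⟨h1, h2⟩ := iha ha
      obtain ⟨h3, h4⟩ := ihb hb
      refine ⟨mul_mem h1 h3, ?_⟩
      have := H544.Regular.mul_pow_eq_one hreg (a := ⟨a, h1⟩) (b := ⟨b, h3⟩) 1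
        (Subtype.ext (by rw [pow_one]; exact h2)) (Subtype.ext (by rw [pow_one]; exact h4))
      rw [pow_one] at this
      exact congrArg Subtype.val this
    | inv a ha iha =>
      obtain ⟨h1, h2⟩ := iha ha
      exact ⟨inv_mem h1, by rw [inv_pow, h2, inv_one]⟩
  exact fun x hx => (key x hx).2

end

/-- If `n ≤ 2 p` then `γ_{i+1}(S)` has exponent `p` for `1 ≤ i`, `n ≤ i + p`. -/
theorem exp_L {p : ℕ} [hp : Fact p.Prime] (n : ℕ) : ∀ (S : Type*) [Group S] [Finite S],
    Nat.card S = p ^ n → Group.nilpotencyClass S = n - 1 → 3 ≤ n → n ≤ 2 * p →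
    ∀ i, 1 ≤ i → n ≤ i + p → ∀ x ∈ L S i, x ^ p = 1 := by
  induction n with
  | zero => intro S _ _ _ _ h; omega
  | succ n ih =>
    intro S _ _ hc hcl hn hnp i hi hin x hx
    have hp2 := hp.out.two_le
    by_cases hsmall : n + 1 ≤ p + 1
    · exact exp_L_one hc hcl hn hsmall x (L_anti S hi hx)
    · have hS : IsPGroup p S := IsPGroup.of_card hc
      have hnil : Group.IsNilpotent S := hS.isNilpotent
      have hi2 : 2 ≤ i := by omega
      have hcQ : Nat.card (S ⧸ center S) = p ^ n := by
        have := Transfer.MaximalClass.card_quotient_center_of_maxClass hn hc hcl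
        simpa using this
      have hclQ : Group.nilpotencyClass (S ⧸ center S) = n - 1 := by
        have := Transfer.MaximalClass.nilpotencyClass_quotient_center_of_maxClass hcl
        simpa using this
      have h1 : ∀ y ∈ L S (i - 1), y ^ p ∈ center S := by
        intro y hy
        have h2 : QuotientGroup.mk' (center S) y ∈ L (S ⧸ center S) (i - 1) := by
          have h3 : (L S (i - 1)).map (QuotientGroup.mk' (center S)) ≤
              L (S ⧸ center S) (i - 1) := by
            rw [L, map_lowerCentralSeries]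
            exact Subgroup.lowerCentralSeries_mono _ le_top
          exact h3 (mem_map_of_mem _ hy)
        have h4 := ih (S ⧸ center S) hcQ hclQ (by omega) (by omega) (i - 1) (by omega) (by omega)
          _ h2
        rw [← map_pow] at h4
        exact (QuotientGroup.eq_one_iff _).mp h4
      have hlcs : ∀ j, (L S 1).lowerCentralSeries j ≤ L S (2 * j + 1) := by
        intro j
        induction j with
        | zero => exact le_rfl
        | succ j ih' =>
          rw [Subgroup.lowerCentralSeries_succ]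
          refine (commutator_mono ih' le_rfl).trans ?_
          have := H449.commutator_lcs_le (⊤ : Subgroup S) (2 * j + 1) 1
          rwa [show 2 * j + 1 + 1 + 1 = 2 * (j + 1) + 1 by ring] at this
      have hreg := regular_of_lcs hS (L S 1) (by
        rw [eq_bot_iff]
        refine (hlcs (p - 1)).trans ?_
        rw [L_eq_bot hc hcl (show n + 1 - 1 ≤ 2 * (p - 1) + 1 by omega)])
      have key : ∀ x ∈ L S i, x ∈ L S i ∧ x ^ p = 1 := by
        intro x hx
        have hie : i = (i - 1) + 1 := by omega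
        have hLi : L S i = ⁅L S (i - 1), (⊤ : Subgroup S)⁆ := by
          conv_lhs => rw [hie]
          rfl
        have hx' : x ∈ closure {g | ∃ g₁ ∈ L S (i - 1), ∃ g₂ ∈ (⊤ : Subgroup S),
            ⁅g₁, g₂⁆ = g} := by
          rw [hLi] at hx; exact hx
        induction hx' using Subgroup.closure_induction with
        | mem y hy =>
          obtain ⟨a, ha, b, hb, rfl⟩ := hy
          refine ⟨hx, ?_⟩
          have ha1 : a ∈ L S 1 := L_anti S (by omega) ha
          have hN1 : (L S 1).Normal := inferInstance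
          have hb1 : b * a * b⁻¹ ∈ L S 1 := hN1.conj_mem _ ha1 b
          have h5 := (H544.Regular.pow_eq_iff hreg (⟨a, ha1⟩ : L S 1) ⟨b * a * b⁻¹, hb1⟩ 1).mp (by
            apply Subtype.ext
            change a ^ p ^ 1 = (b * a * b⁻¹) ^ p ^ 1
            rw [pow_one, conj_pow]
            have := mem_center_iff.mp (h1 a ha) b
            rw [this, mul_inv_cancel_right])
          have h6 : (a * (b * a * b⁻¹)⁻¹) ^ p ^ 1 = 1 := congrArg Subtype.val h5
          rw [pow_one] at h6
          have e : ⁅a, b⁆ = a * (b * a * b⁻¹)⁻¹ := by rw [commutatorElement_def]; group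
          rw [e, h6]
        | one => exact ⟨one_mem _, one_pow _⟩
        | mul a b ha hb iha ihb =>
          have ha' : a ∈ L S i := by rw [hLi]; exact ha
          have hb' : b ∈ L S i := by rw [hLi]; exact hb
          obtain ⟨h1, h2⟩ := iha ha'
          obtain ⟨h3, h4⟩ := ihb hb'
          refine ⟨mul_mem h1 h3, ?_⟩
          have := H544.Regular.mul_pow_eq_one hreg (a := ⟨a, L_anti S hi h1⟩)
            (b := ⟨b, L_anti S hi h3⟩) 1
            (Subtype.ext (by rw [pow_one]; exact h2)) (Subtype.ext (by rw [pow_one]; exact h4))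
          rw [pow_one] at this
          exact congrArg Subtype.val this
        | inv a ha iha =>
          have ha' : a ∈ L S i := by rw [hLi]; exact ha
          obtain ⟨h1, h2⟩ := iha ha'
          exact ⟨inv_mem h1, by rw [inv_pow, h2, inv_one]⟩
      exact (key x hx).2

end Cfsg.Agent.H454.MaxClass
end

-- part: S3806
section
set_option autoImplicit false
open Cfsg

namespace Cfsg.Agent.S3806

/-- Let p be a prime and S a finite p-group of order pⁿ (n ≥ 2) of maximal nilpotency class n − 1 whose sectional p-rank is exactly k (every section has p-rank at most k, and some section has p-rank k). If p ≥ k + 2 then the order of S is at most p^(2k). -/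
theorem result {S : Type*} [Group S] [Finite S] (p : ℕ) [Fact p.Prime] (hS : IsPGroup p S) [Group.IsNilpotent S]
    (n : ℕ) (hn : 2 ≤ n) (hcard : Nat.card S = p ^ n) (hmax : Group.nilpotencyClass S = n - 1)
    (k : ℕ) (hk : 1 ≤ k) (hsr : Cfsg.SectionalPRankLE p k S ∧ ¬ Cfsg.SectionalPRankLE p (k - 1) S)
    (hpk : k + 2 ≤ p) : Nat.card S ≤ p ^ (2 * k) := by
  have hpp : p.Prime := Fact.out
  have hp2 := hpp.two_le
  by_contra hlt
  rw [not_le, hcard] at hlt
  have hnk : 2 * k < n := (Nat.pow_lt_pow_iff_right hpp.one_lt).mp hlt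
  have hn3 : 3 ≤ n := by omega
  by_cases hk1 : k = 1
  · subst hk1
    have hN : (H454.MaxClass.L S 1).Normal := inferInstance
    have h1 := H583.SecRank.index_le hsr.1 (H454.MaxClass.L S 1) (fun a b => by
      have h0 := H454.MaxClass.comm_mem (i := 0) (Subgroup.mem_top a) b
      rwa [commutatorElement_def] at h0) (fun a => H454.MaxClass.pow_mem_L_one hcard hmax hn3 a)
    rw [H454.MaxClass.index_L hcard hmax hn3 le_rfl (by omega)] at h1
    have := (Nat.pow_le_pow_iff_right hpp.one_lt).mp h1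
    omega
  · have hk2 : 2 ≤ k := by omega
    have hN : (H454.MaxClass.L S (2 * k)).Normal := inferInstance
    have hcQ : Nat.card (S ⧸ H454.MaxClass.L S (2 * k)) = p ^ (2 * k + 1) :=
      H454.MaxClass.index_L hcard hmax hn3 (by omega) (by omega)
    have hQ : IsPGroup p (S ⧸ H454.MaxClass.L S (2 * k)) := IsPGroup.of_card hcQ
    have hnilQ : Group.IsNilpotent (S ⧸ H454.MaxClass.L S (2 * k)) := hQ.isNilpotent
    have hmap : ∀ i, H454.MaxClass.L (S ⧸ H454.MaxClass.L S (2 * k)) i =
        (H454.MaxClass.L S i).map (QuotientGroup.mk' (H454.MaxClass.L S (2 * k))) := by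
      intro i
      rw [Subgroup.map_lowerCentralSeries, Subgroup.map_top_of_surjective _
        (QuotientGroup.mk'_surjective _)]
    have hbot : ∀ i, H454.MaxClass.L (S ⧸ H454.MaxClass.L S (2 * k)) i = ⊥ ↔
        H454.MaxClass.L S i ≤ H454.MaxClass.L S (2 * k) := by
      intro i
      rw [hmap, Subgroup.map_eq_bot_iff, QuotientGroup.ker_mk']
    have hclQ : Group.nilpotencyClass (S ⧸ H454.MaxClass.L S (2 * k)) = (2 * k + 1) - 1 := by
      apply le_antisymm
      · rw [← Subgroup.lowerCentralSeries_eq_bot_iff_nilpotencyClass_le]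
        exact (hbot _).mpr le_rfl
      · by_contra h
        rw [not_le] at h
        have h1 : Group.nilpotencyClass (S ⧸ H454.MaxClass.L S (2 * k)) ≤ 2 * k - 1 := by omega
        rw [← Subgroup.lowerCentralSeries_eq_bot_iff_nilpotencyClass_le] at h1
        have h2 := (hbot _).mp h1
        have h3 := H454.MaxClass.L_lt hcard hmax (show 2 * k - 1 < n - 1 by omega)
        rw [show 2 * k - 1 + 1 = 2 * k by omega] at h3
        exact absurd h2 (not_le_of_gt h3)
    have hsQ := H583.SecRank.pRankLE (H583.SecRank.sectional_quotient hsr.1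
      (H454.MaxClass.L S (2 * k)))
    have hcomm : IsMulCommutative
        ↥(H454.MaxClass.L (S ⧸ H454.MaxClass.L S (2 * k)) (k - 1)) := by
      refine ⟨⟨fun a b => ?_⟩⟩
      have h1 := H454.MaxClass.comm_mem_self hcQ hclQ (by omega) (show 1 ≤ k - 1 by omega)
        a.2 b.2
      rw [show 2 * (k - 1) + 2 = 2 * k by omega,
        H454.MaxClass.L_eq_bot hcQ hclQ (by omega), Subgroup.mem_bot,
        commutatorElement_eq_one_iff_mul_comm] at h1
      exact Subtype.ext h1
    have h1 := hsQ _ hcomm (H454.MaxClass.exp_L (2 * k + 1) _ hcQ hclQ (by omega) (by omega)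
      (k - 1) (by omega) (by omega))
    rw [H454.MaxClass.card_L hcQ hclQ (by omega) (by omega) (by omega)] at h1
    have := (Nat.pow_le_pow_iff_right hpp.one_lt).mp h1
    omega

end Cfsg.Agent.S3806
end
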