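import Cfsg.Statements.S4034
import Cfsg.Agent.S0143
import Cfsg.Agent.S0003
import Cfsg.Agent.S0581
import Cfsg.Agent.Lib.Cores
import Cfsg.Agent.PLocal.HallHigmanPrime
import Cfsg.Agent.Lib.BitNetSimple
set_option linter.all false

set_option autoImplicit false
open Cfsg

namespace Cfsg.Agent.S4034

open Subgroup
open scoped Pointwise

/-- All `p`-regular classes have `p`-power size. -/
def PP (p : ℕ) (G : Type*) [Group G] : Prop :=
  ∀ x : G, (orderOf x).Coprime p → ∃ k : ℕ, (centralizer ({x} : Set G)).index = p ^ k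

theorem ncard_class {G : Type*} [Group G] [Finite G] (x : G) :
    (ConjClasses.mk x).carrier.ncard = (centralizer ({x} : Set G)).index := by
  symm
  rw [Subgroup.centralizer_eq_comap_stabilizer, ← ConjAct.orbit_eq_carrier_conjClasses,
    ← MulAction.index_stabilizer]
  exact Subgroup.index_comap_of_surjective _ (MulEquiv.surjective _)

theorem PP.subgroup {p : ℕ} (hp : p.Prime) {G : Type*} [Group G] [Finite G] (h : PP p G)
    (N : Subgroup G) [N.Normal] : PP p N := by
  intro x hx
  obtain ⟨k, hk⟩ := h x (by rwa [Subgroup.orderOf_coe])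
  have h1 : (centralizer ({(x : G)} : Set G)).relIndex N ∣ p ^ k :=
    hk ▸ Cfsg.Agent.Lib.BitNetSimple.card_orbit_dvd_of_normal N _
  have h2 : centralizer ({x} : Set N) = (centralizer ({(x : G)} : Set G)).subgroupOf N := by
    ext y
    simp only [mem_centralizer_singleton_iff, mem_subgroupOf, Subtype.ext_iff, coe_mul]
  obtain ⟨j, -, hj⟩ := (Nat.dvd_prime_pow hp).mp h1
  exact ⟨j, by rw [h2]; exact hj⟩

theorem exists_lift {p : ℕ} (hp : p.Prime) {G : Type*} [Group G] [Finite G] (N : Subgroup G)
    [N.Normal] (y : G ⧸ N) (hy : (orderOf y).Coprime p) :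
    ∃ x : G, (orderOf x).Coprime p ∧ (x : G ⧸ N) = y := by
  obtain ⟨x0, rfl⟩ := QuotientGroup.mk_surjective y
  set a := (orderOf x0).factorization p with ha
  have hcop : (orderOf ((x0 : G ⧸ N))).Coprime (p ^ a) := Nat.Coprime.pow_right a hy
  obtain ⟨m, hm⟩ := exists_pow_eq_self_of_coprime hcop.symm
  refine ⟨(x0 ^ p ^ a) ^ m, ?_, ?_⟩
  · have h1 : orderOf ((x0 ^ p ^ a) ^ m) ∣ orderOf (x0 ^ p ^ a) := orderOf_pow_dvd m
    apply Nat.Coprime.coprime_dvd_left h1
    have h2 : orderOf (x0 ^ p ^ a) = orderOf x0 / p ^ a := by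
      apply orderOf_pow_of_dvd (pow_ne_zero _ hp.ne_zero)
      exact Nat.ordProj_dvd _ _
    rw [h2]
    exact (Nat.coprime_ordCompl hp (orderOf_pos x0).ne').symm
  · rw [QuotientGroup.mk_pow, QuotientGroup.mk_pow, hm]

theorem PP.quotient {p : ℕ} (hp : p.Prime) {G : Type*} [Group G] [Finite G] (h : PP p G)
    (N : Subgroup G) [N.Normal] : PP p (G ⧸ N) := by
  intro y hy
  obtain ⟨x, hx, rfl⟩ := exists_lift hp N y hy
  obtain ⟨k, hk⟩ := h x hx
  have h1 : (centralizer ({x} : Set G)).map (QuotientGroup.mk' N) ≤ centralizer ({(x : G ⧸ N)} : Set (G ⧸ N)) := by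
    rintro _ ⟨z, hz, rfl⟩
    rw [SetLike.mem_coe, mem_centralizer_singleton_iff] at hz
    rw [mem_centralizer_singleton_iff]
    show (z : G ⧸ N) * x = x * z
    rw [← QuotientGroup.mk_mul, hz, QuotientGroup.mk_mul]
  have h2 : (centralizer ({(x : G ⧸ N)} : Set (G ⧸ N))).index ∣ p ^ k := by
    rw [← hk]
    refine (Subgroup.index_dvd_of_le h1).trans ?_
    exact Subgroup.index_map_dvd _ (QuotientGroup.mk'_surjective N)
  obtain ⟨j, -, hj⟩ := (Nat.dvd_prime_pow hp).mp h2
  exact ⟨j, hj⟩

theorem PP.solvable {p : ℕ} (hp : p.Prime) : ∀ (n : ℕ) {G : Type*} [Group G] [Finite G],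
    Nat.card G = n → PP p G → Group.IsSolvable G := by
  intro n
  induction n using Nat.strong_induction_on with
  | _ n ih =>
    intro G _ _ hn h
    by_cases hN : ∃ N : Subgroup G, N.Normal ∧ N ≠ ⊥ ∧ N ≠ ⊤
    · obtain ⟨N, hNn, hN1, hN2⟩ := hN
      have hlt1 : Nat.card N < n := by
        rw [← hn]
        exact lt_of_le_of_ne (Subgroup.card_le_card_group N) (fun h => hN2 (Subgroup.eq_top_of_card_eq N h))
      have hlt2 : Nat.card (G ⧸ N) < n := by
        rw [← hn, ← Subgroup.index_eq_card]
        have h1 := N.card_mul_index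
        have h2 : 1 < Nat.card N := (Subgroup.one_lt_card_iff_ne_bot N).mpr hN1
        have h3 : 0 < N.index := Nat.pos_of_ne_zero N.index_ne_zero_of_finite
        nlinarith
      have s1 := ih _ hlt1 rfl (h.subgroup hp N)
      have s2 := ih _ hlt2 rfl (h.quotient hp N)
      exact (Group.isSolvable_iff_subgroup_quotient N).mpr ⟨s1, s2⟩
    · push Not at hN
      by_cases hG : Subsingleton G
      · infer_instance
      · rw [not_subsingleton_iff_nontrivial] at hG
        have : IsSimpleGroup G := ⟨fun N hNn => by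
          by_cases h1 : N = ⊥
          · exact Or.inl h1
          · exact Or.inr (hN N hNn h1)⟩
        by_cases hx : ∃ x : G, x ≠ 1 ∧ (orderOf x).Coprime p
        · obtain ⟨x, hx1, hx2⟩ := hx
          obtain ⟨k, hk⟩ := h x hx2
          have h1 := Cfsg.Agent.S0143.result p k hp x hx1 hk
          have : Fact (Nat.card G).Prime := ⟨h1⟩
          have : IsCyclic G := isCyclic_of_prime_card (p := Nat.card G) rfl
          exact Group.isSolvable_of_comm (fun a b => IsCyclic.isMulCommutative.is_comm.comm a b)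
        · push Not at hx
          have : Fact p.Prime := ⟨hp⟩
          have h1 : IsPGroup p G := by
            intro g
            set a := (orderOf g).factorization p with ha
            refine ⟨a, ?_⟩
            by_contra hne
            apply hx _ hne
            have h2 : orderOf (g ^ p ^ a) = orderOf g / p ^ a := by
              apply orderOf_pow_of_dvd (pow_ne_zero _ hp.ne_zero)
              exact Nat.ordProj_dvd _ _
            rw [h2]
            exact (Nat.coprime_ordCompl hp (orderOf_pos g).ne').symm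
          have := h1.isNilpotent
          infer_instance

/-- In a `p`-solvable group with `O_p = 1` and all `p`-regular classes of `p`-power size the
`p`-regular elements commute. -/
theorem PP.comm {p : ℕ} [Fact p.Prime] {G : Type*} [Group G] [Finite G] (h : PP p G)
    (hs : Cfsg.IsPSolvable p G) (h1 : Cfsg.pCore p G = ⊥) {x y : G}
    (hx : (orderOf x).Coprime p) (hy : (orderOf y).Coprime p) : x * y = y * x := by
  have hp : p.Prime := Fact.out
  have hQn : (Cfsg.pPrimeCore p G).Normal := Cfsg.Agent.Lib.Cores.pPrimeCore_normal p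
  have hQ : (Nat.card (Cfsg.pPrimeCore p G)).Coprime p :=
    Cfsg.Agent.Lib.Cores.pPrimeCore_coprime p
  have key : ∀ z : G, (orderOf z).Coprime p →
      Cfsg.pPrimeCore p G ≤ centralizer ({z} : Set G) := by
    intro z hz
    obtain ⟨k, hk⟩ := h z hz
    have h2 : (centralizer ({z} : Set G)).relIndex (Cfsg.pPrimeCore p G) ∣ p ^ k :=
      hk ▸ Cfsg.Agent.Lib.BitNetSimple.card_orbit_dvd_of_normal _ _
    have h3 : (centralizer ({z} : Set G)).relIndex (Cfsg.pPrimeCore p G) ∣
        Nat.card (Cfsg.pPrimeCore p G) := Subgroup.index_dvd_card _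
    have h4 := Nat.dvd_gcd h3 h2
    rw [Nat.Coprime.pow_right k hQ, Nat.dvd_one] at h4
    exact Subgroup.relIndex_eq_one.mp h4
  have hmem : ∀ z : G, (orderOf z).Coprime p → z ∈ Cfsg.pPrimeCore p G := by
    intro z hz
    apply Cfsg.Agent.PLocal.HallHigmanPrime.centralizer_pPrimeCore_le_of_pSolvable p hs h1
    rw [mem_centralizer_iff]
    intro g hg
    exact (mem_centralizer_singleton_iff.mp (key z hz hg))
  exact (mem_centralizer_singleton_iff.mp (key y hy (hmem x hx)))

/-- Let G be a finite group and p a prime. Every conjugacy class of p-regular elements of G (elements of order prime to p) has p-power size if and only if G has an abelian p-complement, i.e. an abelian subgroup of order prime to p and p-power index. -/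
theorem result {G : Type*} [Group G] [Finite G] {p : ℕ} (hp : p.Prime) :
    (∀ x : G, (orderOf x).Coprime p → ∃ k : ℕ, (ConjClasses.mk x).carrier.ncard = p ^ k) ↔
    (∃ H : Subgroup G, IsMulCommutative H ∧ ¬ p ∣ Nat.card H ∧ ∃ k : ℕ, H.index = p ^ k) := by
  have : Fact p.Prime := ⟨hp⟩
  constructor
  · intro h
    have hPP : PP p G := fun x hx => by
      obtain ⟨k, hk⟩ := h x hx
      exact ⟨k, by rw [← ncard_class, hk]⟩
    have hsol : Group.IsSolvable G := hPP.solvable hp _ rfl
    have hcard : Nat.card G ≠ 0 := Nat.card_pos.ne'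
    set m := Nat.card G / p ^ (Nat.card G).factorization p with hm
    have hmn : Nat.card G = m * p ^ (Nat.card G).factorization p :=
      (Nat.div_mul_cancel (Nat.ordProj_dvd _ _)).symm
    have hcop : m.Coprime p := (Nat.coprime_ordCompl hp hcard).symm
    obtain ⟨H, hH⟩ := Cfsg.Agent.S0003.result m _ hmn (hcop.pow_right _)
    have hHp : ¬ p ∣ Nat.card H := by
      rw [hH]
      exact fun hd => hp.one_lt.ne' (Nat.dvd_one.mp (hcop ▸ Nat.dvd_gcd hd dvd_rfl))
    refine ⟨H, ?_, hHp, (Nat.card G).factorization p, ?_⟩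
    · refine ⟨⟨?_⟩⟩
      rintro ⟨a, ha⟩ ⟨b, hb⟩
      have ho : ∀ z ∈ H, (orderOf z).Coprime p := by
        intro z hz
        apply Nat.Coprime.coprime_dvd_left (Subgroup.orderOf_dvd_natCard H hz)
        rw [hH]; exact hcop
      have hcn : (Cfsg.pCore p G).Normal := Cfsg.Agent.Lib.Cores.pCore_normal p
      have hcomm : (a : G ⧸ Cfsg.pCore p G) * b = b * a := by
        apply (hPP.quotient hp (Cfsg.pCore p G)).comm
          (Cfsg.Agent.Lib.PSolvable.IsPSolvable_of_solvable p)
          (Cfsg.Agent.Lib.Cores.pCore_quotient_pCore p)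
        · exact Nat.Coprime.coprime_dvd_left (orderOf_map_dvd (QuotientGroup.mk' _) a) (ho a ha)
        · exact Nat.Coprime.coprime_dvd_left (orderOf_map_dvd (QuotientGroup.mk' _) b) (ho b hb)
      have h1 : (b * a)⁻¹ * (a * b) ∈ Cfsg.pCore p G := by
        rw [← QuotientGroup.eq, QuotientGroup.mk_mul, QuotientGroup.mk_mul]
        exact hcomm.symm
      have h2 : (b * a)⁻¹ * (a * b) ∈ H :=
        H.mul_mem (H.inv_mem (H.mul_mem hb ha)) (H.mul_mem ha hb)
      obtain ⟨k, hk⟩ := Cfsg.Agent.Lib.Cores.pCore_isPGroup (G := G) p ⟨_, h1⟩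
      have h3 : orderOf ((b * a)⁻¹ * (a * b)) ∣ p ^ k :=
        orderOf_dvd_of_pow_eq_one (congrArg Subtype.val hk)
      have h4 : orderOf ((b * a)⁻¹ * (a * b)) = 1 := by
        have h5 := Nat.dvd_gcd dvd_rfl h3
        rw [Nat.Coprime.pow_right k (ho _ h2)] at h5
        exact Nat.dvd_one.mp h5
      rw [orderOf_eq_one_iff, inv_mul_eq_one] at h4
      exact Subtype.ext h4.symm
    · have h1 := H.card_mul_index
      rw [hH, hmn] at h1
      have hm0 : 0 < m := Nat.pos_of_ne_zero (fun h0 => hcard (by rw [hmn, h0, zero_mul]))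
      have h2 := Nat.eq_of_mul_eq_mul_left hm0 h1
      exact h2
  · rintro ⟨H, hHc, hHp, k, hk⟩ x hx
    rw [ncard_class]
    have hcop : (Nat.card H).Coprime H.index := by
      rw [hk]
      exact (((Nat.Prime.coprime_iff_not_dvd hp).mpr hHp).symm).pow_right k
    have hnil : Group.IsNilpotent H := by
      let _ : CommGroup H := { (inferInstance : Group H) with mul_comm := hHc.is_comm.comm }
      infer_instance
    obtain ⟨g, hg⟩ := Cfsg.Agent.S0581.result H (zpowers x) hnil hcop (by
      intro r hr hrx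
      rw [Nat.card_zpowers] at hrx
      have h1 : r ∣ Nat.card G := hrx.trans (orderOf_dvd_natCard x)
      rw [← H.card_mul_index, hk] at h1
      rcases (Nat.Prime.dvd_mul hr).mp h1 with h2 | h2
      · exact h2
      · exfalso
        have h3 := (Nat.prime_dvd_prime_iff_eq hr hp).mp (hr.dvd_of_dvd_pow h2)
        rw [h3] at hrx
        exact hp.one_lt.ne' (Nat.dvd_one.mp (hx ▸ Nat.dvd_gcd hrx dvd_rfl)))
    have h1 : MulAut.conj g • H ≤ centralizer ({x} : Set G) := by
      have hx' : x ∈ MulAut.conj g • H := hg (mem_zpowers x)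
      intro y hy
      rw [Subgroup.mem_pointwise_smul_iff_inv_smul_mem] at hx' hy
      rw [mem_centralizer_singleton_iff]
      have h2 := congrArg Subtype.val (hHc.is_comm.comm ⟨_, hy⟩ ⟨_, hx'⟩)
      simp only [Subgroup.coe_mul] at h2
      rw [← smul_mul', ← smul_mul'] at h2
      exact smul_left_cancel _ h2
    have h2 : (centralizer ({x} : Set G)).index ∣ p ^ k := by
      rw [← hk]
      have h3 : (MulAut.conj g • H).index = H.index := Subgroup.index_map_of_bijective (MulAut.conj g).bijective H
      rw [← h3]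
      exact Subgroup.index_dvd_of_le h1
    obtain ⟨j, -, hj⟩ := (Nat.dvd_prime_pow hp).mp h2
    exact ⟨j, hj⟩

end Cfsg.Agent.S4034
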