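import Cfsg.Statements.S4035
import Cfsg.Agent.H503.Basic
set_option linter.all false

set_option autoImplicit false
open Cfsg

namespace Cfsg.Agent.S4035

open Subgroup Cfsg.Agent.H503
open scoped Pointwise

/-- Let G be a finite group and p a prime such that p divides the size of no conjugacy class of p-regular elements (elements of order prime to p). Then G is the internal direct product of a Sylow p-subgroup P and a normal subgroup H of order prime to p: P is normal, P ⊓ H = 1 and PH = G. -/
theorem result {G : Type*} [Group G] [Finite G] {p : ℕ} [Fact p.Prime]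
    (h : ∀ x : G, (orderOf x).Coprime p → ¬ p ∣ (ConjClasses.mk x).carrier.ncard) (P : Sylow p G) :
    (P : Subgroup G).Normal ∧ ∃ H : Subgroup G, H.Normal ∧ ¬ p ∣ Nat.card H ∧
      (P : Subgroup G) ⊓ H = ⊥ ∧ (P : Subgroup G) ⊔ H = ⊤ := by
  have hp : p.Prime := Fact.out
  -- every element lies in a conjugate of `P C(P)`
  have hcov : (P : Subgroup G) ⊔ centralizer ((P : Subgroup G) : Set G) = ⊤ := by
    by_contra hne
    obtain ⟨g, hg⟩ := Cfsg.Agent.H395.Jordan.exists_not_conj_mem hne
    obtain ⟨a, b, ha, hb, hab, ⟨k, hk⟩, hbp⟩ :=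
      Cfsg.Agent.OddOrderLocal.CNBasic.exists_mul_parts hp g
    have hcomm : Commute a b := by
      obtain ⟨i, rfl⟩ := ha
      obtain ⟨j, rfl⟩ := hb
      exact (Commute.refl g).zpow_zpow i j
    have hidx : ¬ p ∣ (centralizer ({b} : Set G)).index := by
      rw [← ncard_class]
      exact h b hbp
    have hza : IsPGroup p (zpowers a) := by
      apply IsPGroup.of_card_dvd_pow (n := k)
      rw [Nat.card_zpowers]
      exact orderOf_dvd_of_pow_eq_one hk
    have hzle : zpowers a ≤ centralizer ({b} : Set G) := by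
      rw [zpowers_le, mem_centralizer_singleton_iff]
      exact hcomm
    obtain ⟨T, hT1, hT2⟩ := exists_sylow_le _ hidx _ hza hzle
    obtain ⟨c, hc⟩ := MulAction.exists_smul_eq G P T
    apply hg c
    have hcT : ∀ t ∈ (T : Subgroup G), c⁻¹ * t * c ∈ (P : Subgroup G) := by
      intro t ht
      rw [← hc, Sylow.coe_subgroup_smul, Subgroup.mem_pointwise_smul_iff_inv_smul_mem] at ht
      simpa [MulAut.smul_def, MulAut.inv_apply, MulAut.conj_symm_apply] using ht
    have hcT' : ∀ t ∈ (P : Subgroup G), c * t * c⁻¹ ∈ (T : Subgroup G) := by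
      intro t ht
      rw [← hc, Sylow.coe_subgroup_smul, Subgroup.mem_pointwise_smul_iff_inv_smul_mem]
      simpa [MulAut.smul_def, MulAut.inv_apply, MulAut.conj_symm_apply, mul_assoc] using ht
    have h1 : c⁻¹ * a * c ∈ (P : Subgroup G) := hcT a (hT1 (mem_zpowers a))
    have h2 : c⁻¹ * b * c ∈ centralizer ((P : Subgroup G) : Set G) := by
      rw [mem_centralizer_iff]
      intro t ht
      have h3 := hT2 (hcT' t ht)
      rw [mem_centralizer_singleton_iff] at h3
      calc t * (c⁻¹ * b * c) = c⁻¹ * ((c * t * c⁻¹) * b) * c := by group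
        _ = c⁻¹ * (b * (c * t * c⁻¹)) * c := by rw [h3]
        _ = c⁻¹ * b * c * t := by group
    have h3 : c⁻¹ * g * c = (c⁻¹ * a * c) * (c⁻¹ * b * c) := by rw [← hab]; group
    rw [h3]
    exact mul_mem (mem_sup_left h1) (mem_sup_right h2)
  have hnormal : (P : Subgroup G).Normal := by
    rw [← normalizer_eq_top_iff, eq_top_iff, ← hcov]
    exact sup_le le_normalizer (Subgroup.centralizer_le_normalizer _)
  refine ⟨hnormal, ?_⟩
  have hcop : Nat.Coprime (Nat.card (P : Subgroup G)) (P : Subgroup G).index := P.card_coprime_index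
  obtain ⟨H, hH⟩ := exists_right_complement'_of_coprime hcop
  have hHp : ¬ p ∣ Nat.card H := by
    rw [← hH.symm.index_eq_card]
    exact P.not_dvd_index
  -- `H` centralises `P`
  have hcent : H ≤ centralizer ((P : Subgroup G) : Set G) := by
    intro x hx
    have hxp : (orderOf x).Coprime p := by
      rw [Nat.coprime_comm, hp.coprime_iff_not_dvd]
      intro hd
      apply hHp
      have : orderOf (⟨x, hx⟩ : H) ∣ Nat.card H := orderOf_dvd_natCard _
      rw [Subgroup.orderOf_mk] at this
      exact hd.trans this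
    have hidx : ¬ p ∣ (centralizer ({x} : Set G)).index := by
      rw [← ncard_class]
      exact h x hxp
    obtain ⟨T, -, hT2⟩ := exists_sylow_le _ hidx ⊥ IsPGroup.of_bot bot_le
    have hTP : (T : Subgroup G) = P := by
      obtain ⟨c, hc⟩ := MulAction.exists_smul_eq G P T
      rw [← hc, Sylow.coe_subgroup_smul]
      exact Subgroup.Normal.conj_smul_eq_self c _
    rw [mem_centralizer_iff]
    intro t ht
    have := hT2 (hTP ▸ ht)
    rw [mem_centralizer_singleton_iff] at this
    exact this
  refine ⟨H, ?_, hHp, hH.disjoint.eq_bot, ?_⟩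
  · rw [← normalizer_eq_top_iff, eq_top_iff, ← hH.sup_eq_top]
    refine sup_le ?_ le_normalizer
    refine le_trans ?_ (Subgroup.centralizer_le_normalizer _)
    rwa [← Subgroup.le_centralizer_iff]
  · exact hH.sup_eq_top

end Cfsg.Agent.S4035
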