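import Mathlib
import Cfsg.Statements.S2277
import Cfsg.Agent.H351.HalfTransConf
import Cfsg.Agent.Lib.CoprimeCommutator
import Cfsg.Agent.S0126
import Cfsg.Agent.PLocal.ComplementReduction
set_option linter.all false

-- part: H106/FixNorm
section
set_option autoImplicit false

/-!
# Fixed points and norms of commuting automorphisms of exponent `p` of an abelian `p'`-group
-/

namespace Cfsg.Agent.H106.FixNorm

open Finset

variable {V : Type*} [CommGroup V] {p : ℕ}

/-- the fixed points of an automorphism -/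
def Fx (a : MulAut V) : Subgroup V where
  carrier := {v | a v = v}
  one_mem' := map_one a
  mul_mem' := by
    intro x y hx hy
    simp only [Set.mem_ofPred_eq] at hx hy ⊢
    rw [map_mul, hx, hy]
  inv_mem' := by
    intro x hx
    simp only [Set.mem_ofPred_eq] at hx ⊢
    rw [map_inv, hx]

theorem mem_Fx {a : MulAut V} {v : V} : v ∈ Fx a ↔ a v = v := Iff.rfl

/-- the norm map -/
noncomputable def nm (p : ℕ) (a : MulAut V) : V →* V where
  toFun v := ∏ j ∈ range p, (a ^ j) v
  map_one' := by simp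
  map_mul' x y := by simp [Finset.prod_mul_distrib]

theorem nm_apply (a : MulAut V) (v : V) : nm p a v = ∏ j ∈ range p, (a ^ j) v := rfl

theorem nm_fixed {a : MulAut V} (ha : a ^ p = 1) (v : V) : a (nm p a v) = nm p a v := by
  rw [nm_apply, map_prod]
  have h1 : ∀ j, a ((a ^ j) v) = (a ^ (j + 1)) v := fun j => by rw [pow_succ', MulAut.mul_apply]
  simp only [h1]
  have h2 := Finset.prod_range_succ (fun j => (a ^ j) v) p
  have h3 := Finset.prod_range_succ' (fun j => (a ^ j) v) p
  rw [h2] at h3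
  rw [ha, pow_zero] at h3
  exact (mul_right_cancel h3).symm

theorem pow_apply_of_fixed {a : MulAut V} {v : V} (h : a v = v) (j : ℕ) : (a ^ j) v = v := by
  induction j with
  | zero => simp
  | succ n ih => rw [pow_succ, MulAut.mul_apply, h, ih]

theorem nm_of_fixed {a : MulAut V} {v : V} (h : a v = v) : nm p a v = v ^ p := by
  rw [nm_apply, Finset.prod_congr rfl (fun j _ => pow_apply_of_fixed h j)]
  simp

theorem nm_conj {a b c : MulAut V} (h : c * a = b * c) (v : V) : nm p b (c v) = c (nm p a v) := by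
  rw [nm_apply, nm_apply, map_prod]
  refine Finset.prod_congr rfl fun j hj => ?_
  have h1 : c * a ^ j = b ^ j * c := by
    clear hj
    induction j with
    | zero => simp
    | succ n ih => rw [pow_succ, ← mul_assoc, ih, mul_assoc, h, ← mul_assoc, ← pow_succ]
  rw [← MulAut.mul_apply, ← MulAut.mul_apply, h1]

theorem eq_one_of_pow {x : V} [Finite V] (hcop : (Nat.card V).Coprime p) (h : x ^ p = 1) : x = 1 := by
  have h1 : orderOf x ∣ p := orderOf_dvd_of_pow_eq_one h
  have h2 : orderOf x ∣ Nat.card V := orderOf_dvd_natCard x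
  have h3 : orderOf x ∣ 1 := by
    rw [← hcop]
    exact Nat.dvd_gcd h2 h1
  exact orderOf_eq_one_iff.1 (Nat.dvd_one.1 h3)

/-- if a power `z ^ j` with `j` prime to the exponent `p` fixes `v` then so does `z` -/
theorem fixed_of_pow {z : MulAut V} (hz : z ^ p = 1) {j : ℕ} (hj : Nat.Coprime j p) {v : V}
    (h : (z ^ j) v = v) : z v = v := by
  obtain ⟨m, hm⟩ : ∃ m : ℕ, (z ^ j) ^ m = z := by
    have h1 : (orderOf z).Coprime j := by
      exact (Nat.Coprime.coprime_dvd_left (orderOf_dvd_of_pow_eq_one hz) hj.symm)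
    exact exists_pow_eq_self_of_coprime h1.symm
  rw [← hm]
  exact pow_apply_of_fixed h m

variable {e z : MulAut V}

theorem pow_mul_pow (hez : e * z = z * e) (i j : ℕ) : (e * z ^ i) ^ j = e ^ j * (z ^ j) ^ i := by
  have h : Commute e (z ^ i) := Commute.pow_right hez i
  rw [h.mul_pow, ← pow_mul, ← pow_mul, mul_comm]

theorem pow_eq_one (he : e ^ p = 1) (hz : z ^ p = 1) (hez : e * z = z * e) (i : ℕ) :
    (e * z ^ i) ^ p = 1 := by
  rw [pow_mul_pow hez, he, hz, one_pow, one_mul]

/-- the product of the norms to the fixed points of the `e z ^ i` is the `p`-th power -/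
theorem prod_nm [Finite V] [hp : Fact p.Prime] (hz : z ^ p = 1)
    (hez : e * z = z * e) (hzf : ∀ v, z v = v → v = 1) (v : V) :
    ∏ i ∈ range p, nm p (e * z ^ i) v = v ^ p := by
  simp only [nm_apply]
  rw [Finset.prod_comm]
  have h0 : ∀ j ∈ range p, j ≠ 0 → ∏ i ∈ range p, ((e * z ^ i) ^ j) v = 1 := by
    intro j hj hj0
    have hj' : j < p := Finset.mem_range.1 hj
    have hcop : Nat.Coprime j p :=
      (Nat.coprime_of_lt_prime hj0 hj' hp.out).symm
    have h1 : ∀ i, ((e * z ^ i) ^ j) v = (e ^ j) (((z ^ j) ^ i) v) := fun i => by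
      rw [pow_mul_pow hez, MulAut.mul_apply]
    simp only [h1]
    rw [← map_prod, ← nm_apply]
    have h2 : (z ^ j) (nm p (z ^ j) v) = nm p (z ^ j) v :=
      nm_fixed (by rw [← pow_mul, mul_comm, pow_mul, hz, one_pow]) v
    rw [hzf _ (fixed_of_pow hz hcop h2), map_one]
  rw [Finset.prod_eq_single_of_mem 0 (Finset.mem_range.2 hp.out.pos) h0]
  simp

/-- the fixed points of different `e z ^ i` meet trivially -/
theorem eq_one_of_two [hp : Fact p.Prime] (hz : z ^ p = 1)
    (hzf : ∀ v, z v = v → v = 1) {i j : ℕ} (hi : i < j) (hj : j < p) {v : V}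
    (h1 : (e * z ^ i) v = v) (h2 : (e * z ^ j) v = v) : v = 1 := by
  apply hzf
  have hcop : Nat.Coprime (j - i) p :=
    (Nat.coprime_of_lt_prime (by omega) (by omega) hp.out).symm
  apply fixed_of_pow hz hcop
  have h3 : e * z ^ j = (e * z ^ i) * z ^ (j - i) := by
    rw [mul_assoc, ← pow_add]
    congr 2
    omega
  rw [h3, MulAut.mul_apply] at h2
  exact (e * z ^ i).injective (h2.trans h1.symm)

theorem nm_eq_one [hp : Fact p.Prime] (he : e ^ p = 1) (hz : z ^ p = 1) (hez : e * z = z * e)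
    (hzf : ∀ v, z v = v → v = 1) {i j : ℕ} (hij : i ≠ j) (hi : i < p) (hj : j < p) {v : V}
    (h : (e * z ^ i) v = v) : nm p (e * z ^ j) v = 1 := by
  have hc : (e * z ^ i) * (e * z ^ j) = (e * z ^ j) * (e * z ^ i) := by
    have h1 : Commute e (z ^ i) := Commute.pow_right hez i
    have h2 : Commute e (z ^ j) := Commute.pow_right hez j
    have h3 : Commute (z ^ i) (z ^ j) := (Commute.refl z).pow_pow i j
    exact ((Commute.refl e).mul_right h2).mul_left ((h1.symm).mul_right h3)
  have h1 : (e * z ^ j) (nm p (e * z ^ j) v) = nm p (e * z ^ j) v :=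
    nm_fixed (pow_eq_one he hz hez j) v
  have h2 : (e * z ^ i) (nm p (e * z ^ j) v) = nm p (e * z ^ j) v := by
    rw [← nm_conj hc, h]
  rcases lt_or_gt_of_ne hij with hlt | hlt
  · exact eq_one_of_two hz hzf hlt hj h2 h1
  · exact eq_one_of_two hz hzf hlt hi h1 h2

/-- An automorphism that permutes the `e z ^ i` transitively has few fixed points. -/
theorem card_Fx_le [Finite V] [hp : Fact p.Prime] (hcop : (Nat.card V).Coprime p)
    (he : e ^ p = 1) (hz : z ^ p = 1) (hez : e * z = z * e)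
    (hzf : ∀ v, z v = v → v = 1) {c : MulAut V} (hcz : c * z = z * c) {k : ℕ} (hk : Nat.Coprime k p)
    (hce : c * e = e * z ^ k * c) (i : ℕ) : Nat.card (Fx c) ≤ Nat.card (Fx (e * z ^ i)) := by
  let f : Fx c → Fx (e * z ^ i) := fun v => ⟨nm p (e * z ^ i) v, nm_fixed (pow_eq_one he hz hez i) _⟩
  have hinj : Function.Injective f := by
    intro x y hxy
    have h1 : nm p (e * z ^ i) ((x : V) / y) = 1 := by
      rw [map_div, div_eq_one]
      exact congrArg Subtype.val hxy
    have hv : c ((x : V) / y) = (x : V) / y := by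
      rw [map_div]
      have hx : c (x : V) = x := x.2
      have hy : c (y : V) = y := y.2
      rw [hx, hy]
    suffices h2 : ∀ v : V, nm p (e * z ^ i) v = 1 → c v = v → v = 1 from
      Subtype.ext (div_eq_one.1 (h2 _ h1 hv))
    · clear h1 hv
      intro v h1 hv
      have hstep : ∀ m : ℕ, nm p (e * z ^ (i + m * k)) v = 1 := by
        intro m
        induction m with
        | zero => simpa using h1
        | succ m ih =>
          have h3 : c * (e * z ^ (i + m * k)) = (e * z ^ (i + (m + 1) * k)) * c := by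
            have h4 : c * z ^ (i + m * k) = z ^ (i + m * k) * c := by
              exact (Commute.pow_right hcz _)
            rw [← mul_assoc, hce, mul_assoc, h4, ← mul_assoc, mul_assoc e, ← pow_add]
            congr 3
            ring
          have h5 := nm_conj (p := p) h3 v
          rw [hv, ih, map_one] at h5
          exact h5
      have hall : ∀ j : ℕ, nm p (e * z ^ j) v = 1 := by
        intro j
        obtain ⟨m, hm⟩ : ∃ m : ℕ, i + m * k ≡ j [MOD p] := by
          have hk' : Nat.Coprime p k := hk.symm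
          have : NeZero p := ⟨hp.out.ne_zero⟩
          refine ⟨(((j : ZMod p) - i) * (k : ZMod p)⁻¹).val, ?_⟩
          rw [← ZMod.natCast_eq_natCast_iff]
          push_cast
          rw [ZMod.natCast_val, ZMod.cast_id', id_eq, mul_assoc, mul_comm (k : ZMod p)⁻¹,
            ZMod.coe_mul_inv_eq_one k hk, mul_one]
          ring
        have h6 : z ^ j = z ^ (i + m * k) := by
          have h7 : i + m * k ≡ j [MOD orderOf z] :=
            hm.of_dvd (orderOf_dvd_of_pow_eq_one hz)
          exact (pow_eq_pow_iff_modEq.2 h7).symm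
        rw [h6]
        exact hstep m
      have h8 := prod_nm (p := p) hz hez hzf v
      rw [Finset.prod_congr rfl (fun j _ => hall j)] at h8
      simp only [prod_const_one] at h8
      exact eq_one_of_pow hcop h8.symm
  exact Nat.card_le_card_of_injective f hinj

/-- Three of the fixed point groups are independent. -/
theorem card_three [Finite V] [hp : Fact p.Prime] (hp3 : 3 ≤ p) (hcop : (Nat.card V).Coprime p)
    (he : e ^ p = 1) (hz : z ^ p = 1) (hez : e * z = z * e)
    (hzf : ∀ v, z v = v → v = 1) :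
    Nat.card (Fx (e * z ^ 0)) * Nat.card (Fx (e * z ^ 1)) * Nat.card (Fx (e * z ^ 2)) ≤
      Nat.card V := by
  rw [← Nat.card_prod, ← Nat.card_prod]
  let f : (Fx (e * z ^ 0) × Fx (e * z ^ 1)) × Fx (e * z ^ 2) → V :=
    fun x => (x.1.1 : V) * x.1.2 * x.2
  refine Nat.card_le_card_of_injective f ?_
  rintro ⟨⟨x0, x1⟩, x2⟩ ⟨⟨y0, y1⟩, y2⟩ hxy
  have hxy' : (x0 : V) * x1 * x2 = y0 * y1 * y2 := hxy
  have key : ∀ i, i < 3 → ∀ j, j < 3 → i ≠ j → ∀ v : V, (e * z ^ i) v = v → nm p (e * z ^ j) v = 1 :=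
    fun i hi j hj hij v hv => nm_eq_one he hz hez hzf hij (by omega) (by omega) hv
  have hself : ∀ i, ∀ x y : Fx (e * z ^ i), nm p (e * z ^ i) (x : V) = nm p (e * z ^ i) (y : V) →
      x = y := by
    intro i x y h
    rw [nm_of_fixed x.2, nm_of_fixed y.2] at h
    have h1 : ((x : V) / y) ^ p = 1 := by rw [div_pow, h, div_self']
    exact Subtype.ext (div_eq_one.1 (eq_one_of_pow hcop h1))
  have h0 : x0 = y0 := by
    apply hself
    have h := congrArg (nm p (e * z ^ 0)) hxy'
    rw [map_mul, map_mul, map_mul, map_mul, key 1 (by omega) 0 (by omega) (by omega) _ x1.2,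
      key 2 (by omega) 0 (by omega) (by omega) _ x2.2,
      key 1 (by omega) 0 (by omega) (by omega) _ y1.2,
      key 2 (by omega) 0 (by omega) (by omega) _ y2.2, mul_one, mul_one, mul_one, mul_one] at h
    exact h
  have h1 : x1 = y1 := by
    apply hself
    have h := congrArg (nm p (e * z ^ 1)) hxy'
    rw [map_mul, map_mul, map_mul, map_mul, key 0 (by omega) 1 (by omega) (by omega) _ x0.2,
      key 2 (by omega) 1 (by omega) (by omega) _ x2.2,
      key 0 (by omega) 1 (by omega) (by omega) _ y0.2,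
      key 2 (by omega) 1 (by omega) (by omega) _ y2.2, mul_one, mul_one, one_mul, one_mul] at h
    exact h
  have h2 : x2 = y2 := by
    apply hself
    have h := congrArg (nm p (e * z ^ 2)) hxy'
    rw [map_mul, map_mul, map_mul, map_mul, key 0 (by omega) 2 (by omega) (by omega) _ x0.2,
      key 1 (by omega) 2 (by omega) (by omega) _ x1.2,
      key 0 (by omega) 2 (by omega) (by omega) _ y0.2,
      key 1 (by omega) 2 (by omega) (by omega) _ y1.2] at h
    simp only [one_mul] at h
    exact h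
  rw [h0, h1, h2]

/-- The final contradiction. -/
theorem subsingleton [Finite V] [hp : Fact p.Prime] (hp3 : 3 ≤ p) (hcop : (Nat.card V).Coprime p)
    (he : e ^ p = 1) (hz : z ^ p = 1) (hez : e * z = z * e)
    (hzf : ∀ v, z v = v → v = 1) {c d : MulAut V} (hcz : c * z = z * c) (hdz : d * z = z * d)
    {k l : ℕ} (hk : Nat.Coprime k p) (hl : Nat.Coprime l p)
    (hce : c * e = e * z ^ k * c) (hde : d * e = e * z ^ l * d)
    (hf : ∀ v : V, ∃ x y : V, c x = x ∧ d y = y ∧ v = x * y) (v : V) : v = 1 := by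
  have hle : Nat.card V ≤ Nat.card (Fx c) * Nat.card (Fx d) := by
    rw [← Nat.card_prod]
    refine Nat.card_le_card_of_surjective (fun x : Fx c × Fx d => (x.1 : V) * x.2) ?_
    intro v
    obtain ⟨x, y, hx, hy, hv⟩ := hf v
    exact ⟨(⟨x, hx⟩, ⟨y, hy⟩), hv.symm⟩
  have hc : ∀ i, Nat.card (Fx c) ≤ Nat.card (Fx (e * z ^ i)) :=
    card_Fx_le hcop he hz hez hzf hcz hk hce
  have hd : ∀ i, Nat.card (Fx d) ≤ Nat.card (Fx (e * z ^ i)) :=
    card_Fx_le hcop he hz hez hzf hdz hl hde
  have h3 := card_three hp3 hcop he hz hez hzf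
  have hV0 : 0 < Nat.card V := Nat.card_pos
  have h2 : Nat.card (Fx (e * z ^ 2)) ≤ 1 := by
    by_contra hcon
    push Not at hcon
    have h4 : Nat.card V * 2 ≤ Nat.card V := by
      calc Nat.card V * 2 ≤ (Nat.card (Fx c) * Nat.card (Fx d)) * Nat.card (Fx (e * z ^ 2)) :=
            Nat.mul_le_mul hle hcon
        _ ≤ (Nat.card (Fx (e * z ^ 0)) * Nat.card (Fx (e * z ^ 1))) * Nat.card (Fx (e * z ^ 2)) :=
            Nat.mul_le_mul_right _ (Nat.mul_le_mul (hc 0) (hd 1))
        _ ≤ Nat.card V := h3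
    omega
  have h5 : Nat.card V ≤ 1 * 1 := hle.trans (Nat.mul_le_mul ((hc 2).trans h2) ((hd 2).trans h2))
  have h6 : Nat.card V = 1 := by omega
  exact (Nat.card_eq_one_iff_unique.1 h6).1.elim _ _

end Cfsg.Agent.H106.FixNorm
end

-- part: S2277
section
set_option autoImplicit false
open Cfsg

namespace Cfsg.Agent.S2277

open Cfsg.Agent.H106.FixNorm

/-- Coprime irreducible action of a `p`-group of automorphisms of an abelian group. -/
theorem irr_case {V : Type*} [CommGroup V] [Finite V] {p : ℕ} [hp : Fact p.Prime] (hp3 : 3 ≤ p)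
    (hcop : (Nat.card V).Coprime p) (P : Subgroup (MulAut V)) (hP : IsPGroup p P)
    (hirr : ∀ W : Subgroup V, (∀ a ∈ P, ∀ w ∈ W, a w ∈ W) → W = ⊥ ∨ W = ⊤)
    (C D : Set (MulAut V)) (hC : Subgroup.closure C = P) (hD : Subgroup.closure D = P)
    (h : ∀ c ∈ C, ∀ d ∈ D, ∀ v : V, ∃ x y : V, c x = x ∧ d y = y ∧ v = x * y) : P = ⊥ := by
  classical
  by_contra hPne
  have hCP : C ⊆ P := hC ▸ Subgroup.subset_closure
  have hDP : D ⊆ P := hD ▸ Subgroup.subset_closure
  have hnt : ¬ ∀ v : V, v = 1 := by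
    intro hv
    apply hPne
    rw [eq_bot_iff]
    intro a _
    rw [Subgroup.mem_bot]
    ext v
    rw [hv v]
    simp
  -- fixed points of a central element
  have hcent : ∀ z ∈ P, (∀ a ∈ P, a * z = z * a) → z ≠ 1 → ∀ v, z v = v → v = 1 := by
    intro z hz hzc hz1 v hv
    rcases hirr (Fx z) (fun a ha w hw => by
      rw [mem_Fx] at hw ⊢
      rw [← MulAut.mul_apply, ← hzc a ha, MulAut.mul_apply, hw]) with h1 | h1
    · have h2 : v ∈ Fx z := hv
      rw [h1, Subgroup.mem_bot] at h2
      exact h2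
    · exfalso
      apply hz1
      ext w
      have h2 : w ∈ Fx z := h1 ▸ Subgroup.mem_top w
      rw [mem_Fx] at h2
      rw [h2]
      simp
  by_cases hcyc : IsCyclic P
  · -- cyclic case
    have hcomm : ∀ a ∈ P, ∀ b ∈ P, a * b = b * a := by
      intro a ha b hb
      obtain ⟨g, hg⟩ := hcyc.exists_generator
      obtain ⟨i, hi⟩ := hg ⟨a, ha⟩
      obtain ⟨j, hj⟩ := hg ⟨b, hb⟩
      have h1 : (⟨a, ha⟩ : P) * ⟨b, hb⟩ = ⟨b, hb⟩ * ⟨a, ha⟩ := by
        rw [← hi, ← hj]
        exact (Commute.refl g).zpow_zpow i j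
      exact congrArg Subtype.val h1
    have hexC : ∀ C : Set (MulAut V), Subgroup.closure C = P → ∃ c ∈ C, c ≠ 1 := by
      intro C hC
      by_contra hcon
      push Not at hcon
      apply hPne
      rw [← hC, Subgroup.closure_eq_bot_iff]
      intro c hc
      exact hcon c hc
    obtain ⟨c, hc, hc1⟩ := hexC C hC
    obtain ⟨d, hd, hd1⟩ := hexC D hD
    apply hnt
    intro v
    obtain ⟨x, y, hx, hy, hv⟩ := h c hc d hd v
    rw [hv, hcent c (hCP hc) (fun a ha => hcomm a ha c (hCP hc)) hc1 x hx,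
      hcent d (hDP hd) (fun a ha => hcomm a ha d (hDP hd)) hd1 y hy, one_mul]
  · obtain ⟨A, hAn, hAel, hAc⟩ := Cfsg.Agent.S0126.result (R := P) (by omega) hP hcyc
    have hAnc : ¬ IsCyclic A := by
      intro hAcyc
      obtain ⟨a, ha⟩ := hAcyc.exists_generator
      have h1 : orderOf a = Nat.card A := orderOf_eq_card_of_forall_mem_zpowers ha
      have h2 : a ^ p = 1 := by
        apply Subtype.ext
        have := hAel.2 a a.2
        simpa using this
      have h3 : orderOf a ∣ p := orderOf_dvd_of_pow_eq_one h2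
      rw [h1, hAc] at h3
      have h4 := Nat.le_of_dvd hp.out.pos h3
      have h5 := hp.out.two_le
      nlinarith
    obtain ⟨z, b, hzc, hzo, hbp, hbz, hbc⟩ :=
      Cfsg.Agent.H351.HT.exists_config hP A hAel.1 hAnc
    have hz1 : z ≠ 1 := by
      intro h1
      rw [h1, orderOf_one] at hzo
      exact hp.out.one_lt.ne hzo
    have hzp : (z : MulAut V) ^ p = 1 := by
      have h1 : z ^ p = 1 := hzo ▸ pow_orderOf_eq_one z
      exact_mod_cast congrArg Subtype.val h1
    have hbp' : (b : MulAut V) ^ p = 1 := by exact_mod_cast congrArg Subtype.val hbp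
    have hzc' : ∀ a ∈ P, a * (z : MulAut V) = z * a := fun a ha =>
      congrArg Subtype.val (hzc ⟨a, ha⟩)
    have hzf : ∀ v, (z : MulAut V) v = v → v = 1 :=
      hcent z z.2 hzc' (fun h1 => hz1 (Subtype.ext h1))
    have hbz' : (b : MulAut V) * z = z * b := hzc' b b.2
    by_cases hbcen : ∀ a ∈ P, a * (b : MulAut V) = b * a
    · -- `b` central: every `b z ^ i` is fixed point free
      apply hnt
      intro v
      have h1 := prod_nm (p := p) hzp hbz' hzf v
      have h2 : ∀ i ∈ Finset.range p, nm p ((b : MulAut V) * (z : MulAut V) ^ i) v = 1 := by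
        intro i _
        apply hcent ((b : MulAut V) * (z : MulAut V) ^ i) (P.mul_mem b.2 (P.pow_mem z.2 i))
        · intro a ha
          rw [← mul_assoc, hbcen a ha, mul_assoc, mul_assoc]
          congr 1
          exact (Commute.pow_right (hzc' a ha) i)
        · intro h3
          apply hbz
          have h4 : b * z ^ i = 1 := Subtype.ext (by exact_mod_cast h3)
          rw [eq_inv_of_mul_eq_one_left h4]
          exact inv_mem (pow_mem (Subgroup.mem_zpowers z) i)
        · exact nm_fixed (pow_eq_one hbp' hzp hbz' i) v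
      rw [Finset.prod_congr rfl h2, Finset.prod_const_one] at h1
      exact eq_one_of_pow hcop h1.symm
    · -- elements of `C` and `D` not commuting with `b`
      have hexC : ∀ C : Set (MulAut V), Subgroup.closure C = P →
          ∃ c ∈ C, ∃ k : ℕ, Nat.Coprime k p ∧ c * (b : MulAut V) = b * z ^ k * c := by
        intro C hC
        have h1 : ∃ c ∈ C, ¬ c * (b : MulAut V) = b * c := by
          by_contra hcon
          push Not at hcon
          apply hbcen
          intro a ha
          have h2 : Subgroup.closure C ≤ Subgroup.centralizer {(b : MulAut V)} := by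
            rw [Subgroup.closure_le]
            intro c hc
            rw [SetLike.mem_coe, Subgroup.mem_centralizer_singleton_iff]
            exact (hcon c hc)
          have h3 := h2 (hC.symm ▸ ha)
          rw [Subgroup.mem_centralizer_singleton_iff] at h3
          exact h3
        obtain ⟨c, hc, hcb⟩ := h1
        have hcP : c ∈ P := hC ▸ Subgroup.subset_closure hc
        obtain ⟨k, hk⟩ := hbc ⟨c, hcP⟩
        have hk' : c * (b : MulAut V) = b * z ^ k * c := by
          have h2 := congrArg Subtype.val hk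
          simp only [Subgroup.coe_mul, Subgroup.coe_inv, Subgroup.coe_pow] at h2
          rw [← h2]
          group
        refine ⟨c, hc, k, ?_, hk'⟩
        rw [Nat.coprime_comm, Nat.Prime.coprime_iff_not_dvd hp.out]
        rintro ⟨m, rfl⟩
        apply hcb
        rw [hk', pow_mul, hzp, one_pow, mul_one]
      obtain ⟨c, hc, k, hk, hce⟩ := hexC C hC
      obtain ⟨d, hd, l, hl, hde⟩ := hexC D hD
      exact hnt (subsingleton hp3 hcop hbp' hzp hbz' hzf (hzc' c (hCP hc)) (hzc' d (hDP hd)) hk hl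
        hce hde (h c hc d hd))

section Reduction

open scoped commutatorElement

variable {G : Type*} [Group G] [Finite G] {p : ℕ} [hp : Fact p.Prime]

/-- If a conjugate of `c ∈ P` by `x ∈ N` and `d ∈ P` generate a `p`-group, then `x` is a product of
elements of `N` centralizing `d` and `c`. -/
theorem factor {P N : Subgroup G} (hP : IsPGroup p P)
    (hPN : P ≤ Subgroup.normalizer (N : Set G)) (hN : (Nat.card N).Coprime p) {c d x : G}
    (hc : c ∈ P) (hd : d ∈ P) (hx : x ∈ N)
    (h : IsPGroup p (Subgroup.closure ({x * c * x⁻¹, d} : Set G))) :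
    ∃ y ∈ N, ∃ w ∈ N, y * c = c * y ∧ w * d = d * w ∧ x = w * y := by
  classical
  have hconj : ∀ a ∈ P, ∀ n ∈ N, a * n * a⁻¹ ∈ N := fun a ha n hn =>
    (Subgroup.mem_normalizer_iff.mp (hPN ha) n).mp hn
  have hdisj : ∀ g, g ∈ P → g ∈ N → g = 1 := by
    intro g hgP hgN
    have h1 : orderOf g ∣ Nat.card N := Subgroup.orderOf_dvd_natCard N hgN
    obtain ⟨k, hk⟩ := (IsPGroup.iff_orderOf.1 hP) ⟨g, hgP⟩
    rw [Subgroup.orderOf_mk] at hk
    rw [hk] at h1
    have h2 : p ^ k = 1 := by
      have h3 : (p ^ k).Coprime (Nat.card N) := (Nat.Coprime.pow_right k hN).symm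
      exact Nat.Coprime.eq_one_of_dvd h3 h1
    rw [h2, orderOf_eq_one_iff] at hk
    exact hk
  set Q := Subgroup.closure ({x * c * x⁻¹, d} : Set G) with hQ
  -- the cosets of `P` in `N P`
  have hQX : ∀ q ∈ Q, ∀ n ∈ N, ∃ n' ∈ N, ((n' : G) : G ⧸ P) = ((q * n : G) : G ⧸ P) := by
    have hgen : ∀ q : G, (∃ n ∈ N, ∃ a ∈ P, q = n * a) → ∀ n ∈ N, ∃ n' ∈ N,
        ((n' : G) : G ⧸ P) = ((q * n : G) : G ⧸ P) := by
      rintro _ ⟨m, hm, a, ha, rfl⟩ n hn
      refine ⟨m * (a * n * a⁻¹), N.mul_mem hm (hconj a ha n hn), ?_⟩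
      rw [QuotientGroup.eq]
      have h1 : (m * (a * n * a⁻¹))⁻¹ * (m * a * n) = a := by group
      rw [h1]
      exact ha
    intro q hq
    apply hgen
    let K : Subgroup G :=
      { carrier := {g | ∃ n ∈ N, ∃ a ∈ P, g = n * a}
        one_mem' := ⟨1, N.one_mem, 1, P.one_mem, by simp⟩
        mul_mem' := by
          rintro _ _ ⟨n, hn, a, ha, rfl⟩ ⟨m, hm, b, hb, rfl⟩
          exact ⟨n * (a * m * a⁻¹), N.mul_mem hn (hconj a ha m hm), a * b, P.mul_mem ha hb, by group⟩
        inv_mem' := by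
          rintro _ ⟨n, hn, a, ha, rfl⟩
          refine ⟨a⁻¹ * n⁻¹ * a, ?_, a⁻¹, P.inv_mem ha, by group⟩
          have := hconj a⁻¹ (P.inv_mem ha) n⁻¹ (N.inv_mem hn)
          rwa [inv_inv] at this }
    have hQK : Q ≤ K := by
      rw [hQ, Subgroup.closure_le]
      rintro g (rfl | hg)
      · refine ⟨x * (c * x⁻¹ * c⁻¹), N.mul_mem hx (hconj c hc _ (N.inv_mem hx)), c, hc, by group⟩
      · rw [Set.mem_singleton_iff] at hg
        rw [hg]
        exact ⟨1, N.one_mem, d, hd, by simp⟩
    exact hQK hq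
  let X : SubMulAction Q (G ⧸ P) :=
    { carrier := (fun n : G => (n : G ⧸ P)) '' (N : Set G)
      smul_mem' := by
        rintro q _ ⟨n, hn, rfl⟩
        obtain ⟨n', hn', h1⟩ := hQX q q.2 n hn
        exact ⟨n', hn', h1⟩ }
  have hXcard : Nat.card X = Nat.card N := by
    have h1 : Set.InjOn (fun n : G => (n : G ⧸ P)) (N : Set G) := by
      intro n hn m hm hnm
      have h2 : n⁻¹ * m ∈ P := QuotientGroup.eq.1 hnm
      have h3 := hdisj _ h2 (N.mul_mem (N.inv_mem hn) hm)
      exact (eq_of_inv_mul_eq_one h3)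
    exact Nat.card_image_of_injOn h1
  obtain ⟨⟨_, n, hn, rfl⟩, hfix⟩ := h.nonempty_fixed_point_of_prime_not_dvd_card X (by
    rw [hXcard]
    intro hd
    exact hp.out.one_lt.ne' (Nat.dvd_one.mp (hN ▸ Nat.dvd_gcd hd (dvd_refl p))))
  have hfix' : ∀ q ∈ Q, n⁻¹ * q * n ∈ P := by
    intro q hq
    have h1 := congrArg Subtype.val (hfix ⟨q, hq⟩)
    have h2 : ((q * n : G) : G ⧸ P) = ((n : G) : G ⧸ P) := h1
    have h3 := QuotientGroup.eq.1 h2.symm
    rwa [← mul_assoc] at h3
  have hd1 : n⁻¹ * d * n = d := by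
    have h1 := hfix' d (Subgroup.subset_closure (by simp))
    have h2 : n⁻¹ * d * n * d⁻¹ ∈ N := by
      have h3 : n⁻¹ * d * n * d⁻¹ = n⁻¹ * (d * n * d⁻¹) := by group
      rw [h3]
      exact N.mul_mem (N.inv_mem hn) (hconj d hd n hn)
    have h4 := hdisj _ (P.mul_mem h1 (P.inv_mem hd)) h2
    exact mul_inv_eq_one.1 h4
  have hy : n⁻¹ * x ∈ N := N.mul_mem (N.inv_mem hn) hx
  have hc1 : (n⁻¹ * x) * c * (n⁻¹ * x)⁻¹ = c := by
    have h1 := hfix' (x * c * x⁻¹) (Subgroup.subset_closure (by simp))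
    have h1' : (n⁻¹ * x) * c * (n⁻¹ * x)⁻¹ ∈ P := by
      have h3 : (n⁻¹ * x) * c * (n⁻¹ * x)⁻¹ = n⁻¹ * (x * c * x⁻¹) * n := by group
      rw [h3]
      exact h1
    have h2 : (n⁻¹ * x) * c * (n⁻¹ * x)⁻¹ * c⁻¹ ∈ N := by
      have h3 : (n⁻¹ * x) * c * (n⁻¹ * x)⁻¹ * c⁻¹ = (n⁻¹ * x) * (c * (n⁻¹ * x)⁻¹ * c⁻¹) := by group
      rw [h3]
      exact N.mul_mem hy (hconj c hc _ (N.inv_mem hy))
    have h4 := hdisj _ (P.mul_mem h1' (P.inv_mem hc)) h2
    exact mul_inv_eq_one.1 h4
  refine ⟨n⁻¹ * x, hy, n, hn, mul_inv_eq_iff_eq_mul.1 hc1, ?_, by group⟩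
  rw [mul_assoc] at hd1
  exact (inv_mul_eq_iff_eq_mul.1 hd1).symm

/-- the action of `P` on the section `N / X` -/
noncomputable def secHom (N X P : Subgroup G) [(X.subgroupOf N).Normal]
    (hPN : P ≤ Subgroup.normalizer (N : Set G)) (hPX : P ≤ Subgroup.normalizer (X : Set G)) :
    P →* MulAut (N ⧸ X.subgroupOf N) where
  toFun m := QuotientGroup.congr (X.subgroupOf N) (X.subgroupOf N)
    (N.normalizerMonoidHom ⟨(m : G), hPN m.2⟩) (by
      ext a
      constructor
      · rintro ⟨b, hb, rfl⟩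
        rw [SetLike.mem_coe, Subgroup.mem_subgroupOf] at hb
        rw [Subgroup.mem_subgroupOf]
        exact (Subgroup.mem_normalizer_iff.1 (hPX m.2) _).1 hb
      · intro ha
        rw [Subgroup.mem_subgroupOf] at ha
        have h1 : (m : G)⁻¹ * a * m ∈ N := by
          have := (Subgroup.mem_normalizer_iff.1 (inv_mem (hPN m.2)) (a : G)).1 a.2
          rwa [inv_inv] at this
        have h2 : (m : G)⁻¹ * a * m ∈ X := by
          have := (Subgroup.mem_normalizer_iff.1 (inv_mem (hPX m.2)) (a : G)).1 ha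
          rwa [inv_inv] at this
        refine ⟨⟨(m : G)⁻¹ * a * m, h1⟩, Subgroup.mem_subgroupOf.2 h2, ?_⟩
        apply Subtype.ext
        change (m : G) * ((m : G)⁻¹ * a * m) * (m : G)⁻¹ = a
        group)
  map_one' := by
    ext q
    obtain ⟨a, rfl⟩ := QuotientGroup.mk_surjective q
    change QuotientGroup.mk _ = QuotientGroup.mk _
    congr 1
    apply Subtype.ext
    change (1 : G) * a * (1 : G)⁻¹ = a
    group
  map_mul' := by
    intro m k
    ext q
    obtain ⟨a, rfl⟩ := QuotientGroup.mk_surjective q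
    change QuotientGroup.mk _ = QuotientGroup.mk _
    congr 1
    apply Subtype.ext
    change ((m : G) * k) * a * ((m : G) * k)⁻¹ = (m : G) * (k * a * (k : G)⁻¹) * (m : G)⁻¹
    group

omit [Finite G] in
theorem secHom_apply {N X P : Subgroup G} [(X.subgroupOf N).Normal]
    (hPN : P ≤ Subgroup.normalizer (N : Set G)) (hPX : P ≤ Subgroup.normalizer (X : Set G))
    (m : P) {a : G} (ha : a ∈ N) :
    ∃ hm : (m : G) * a * (m : G)⁻¹ ∈ N, secHom N X P hPN hPX m (QuotientGroup.mk (⟨a, ha⟩ : N)) =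
      QuotientGroup.mk (⟨(m : G) * a * (m : G)⁻¹, hm⟩ : N) :=
  ⟨(Subgroup.mem_normalizer_iff.1 (hPN m.2) a).1 ha, rfl⟩

omit [Finite G] in
theorem mk_eq_mk {N X : Subgroup G} [(X.subgroupOf N).Normal] {a b : G} (ha : a ∈ N) (hb : b ∈ N) :
    (QuotientGroup.mk (⟨a, ha⟩ : N) : ↥N ⧸ X.subgroupOf N) = QuotientGroup.mk (⟨b, hb⟩ : N) ↔
      a * b⁻¹ ∈ X := by
  rw [QuotientGroup.eq_iff_div_mem, Subgroup.mem_subgroupOf, div_eq_mul_inv]
  rfl

/-- The section case. -/
theorem section_case (hp3 : 3 ≤ p) {P N X : Subgroup G} (hP : IsPGroup p P)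
    (hPN : P ≤ Subgroup.normalizer (N : Set G)) (hPX : P ≤ Subgroup.normalizer (X : Set G))
    (hXN : X ≤ N) (hNN : ⁅N, N⁆ ≤ X) (hN : (Nat.card N).Coprime p)
    (hirr : ∀ W : Subgroup G, X ≤ W → W ≤ N → P ≤ Subgroup.normalizer (W : Set G) → W = X ∨ W = N)
    {C D : Set G} (hC : Subgroup.closure C = P) (hD : Subgroup.closure D = P)
    (h : ∀ x ∈ N, ∀ c ∈ C, ∀ d ∈ D, IsPGroup p (Subgroup.closure ({x * c * x⁻¹, d} : Set G))) :
    ⁅N, P⁆ ≤ X := by
  classical
  have hCP : C ⊆ P := hC ▸ Subgroup.subset_closure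
  have hDP : D ⊆ P := hD ▸ Subgroup.subset_closure
  have hcomm : ∀ a ∈ N, ∀ b ∈ N, ⁅a, b⁆ ∈ X := fun a ha b hb =>
    hNN (Subgroup.commutator_mem_commutator ha hb)
  have hXn : (X.subgroupOf N).Normal := by
    refine ⟨fun x hx g => ?_⟩
    rw [Subgroup.mem_subgroupOf] at hx ⊢
    have h1 : ((g * x * g⁻¹ : N) : G) = ⁅(g : G), (x : G)⁆ * x := by
      rw [commutatorElement_def]
      push_cast
      group
    rw [h1]
    exact X.mul_mem (hcomm g g.2 x x.2) hx
  let instV : CommGroup (N ⧸ X.subgroupOf N) :=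
    { (inferInstance : Group (N ⧸ X.subgroupOf N)) with
      mul_comm := by
        rintro ⟨a⟩ ⟨b⟩
        change QuotientGroup.mk (a * b) = QuotientGroup.mk (b * a)
        have h1 := hcomm a a.2 b b.2
        refine (mk_eq_mk (a * b).2 (b * a).2).2 ?_
        have h2 : ((a * b : N) : G) * ((b * a : N) : G)⁻¹ = ⁅(a : G), (b : G)⁆ := by
          rw [commutatorElement_def]
          push_cast
          group
        rw [h2]
        exact h1 }
  have hcop : (Nat.card (N ⧸ X.subgroupOf N)).Coprime p := by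
    have h1 : Nat.card (N ⧸ X.subgroupOf N) ∣ Nat.card N := Subgroup.card_quotient_dvd_card _
    exact Nat.Coprime.coprime_dvd_left h1 hN
  let φ := secHom N X P hPN hPX
  have hφP : IsPGroup p φ.range := hP.of_surjective φ.rangeRestrict φ.rangeRestrict_surjective
  have hφ : φ.range = ⊥ := by
    have hclos : ∀ C : Set G, Subgroup.closure C = P →
        Subgroup.closure (φ '' (P.subtype ⁻¹' C)) = φ.range := by
      intro C hC
      have hCP : C ⊆ P := hC ▸ Subgroup.subset_closure
      rw [← MonoidHom.map_closure, MonoidHom.range_eq_map]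
      congr 1
      apply Subgroup.map_injective P.subtype_injective
      rw [MonoidHom.map_closure, Set.image_preimage_eq_inter_range]
      have h1 : C ∩ Set.range P.subtype = C := by
        apply Set.inter_eq_left.2
        intro c hc
        exact ⟨⟨c, hCP hc⟩, rfl⟩
      rw [h1, hC, ← MonoidHom.range_eq_map, Subgroup.range_subtype]
    have hfixV : ∀ (c : P) (y : G) (hy : y ∈ N), y * c = c * y →
        φ c (QuotientGroup.mk ⟨y, hy⟩) = QuotientGroup.mk ⟨y, hy⟩ := by
      intro c y hy hyc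
      obtain ⟨hm, h2⟩ := secHom_apply hPN hPX c hy
      change secHom N X P hPN hPX c (QuotientGroup.mk (⟨y, hy⟩ : N)) = _
      rw [h2]
      congr 1
      apply Subtype.ext
      change (c : G) * y * (c : G)⁻¹ = y
      rw [← hyc]
      group
    refine irr_case hp3 hcop φ.range hφP ?_ (φ '' (P.subtype ⁻¹' C)) (φ '' (P.subtype ⁻¹' D))
      (hclos C hC) (hclos D hD) ?_
    · intro W hW
      let W' : Subgroup G := (W.comap (QuotientGroup.mk' (X.subgroupOf N))).map N.subtype
      have hW' : ∀ g : G, ∀ hg : g ∈ N, g ∈ W' ↔ (QuotientGroup.mk (⟨g, hg⟩ : N)) ∈ W := by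
        intro g hg
        constructor
        · rintro ⟨n, hn, hng⟩
          have : n = ⟨g, hg⟩ := Subtype.ext hng
          rw [← this]
          exact hn
        · intro h1
          exact ⟨⟨g, hg⟩, h1, rfl⟩
      have hW'N : W' ≤ N := by
        rintro _ ⟨n, -, rfl⟩
        exact n.2
      have h1 := hirr W' ?_ hW'N ?_
      · rcases h1 with h1 | h1
        · left
          rw [eq_bot_iff]
          intro q hv
          obtain ⟨v, rfl⟩ := QuotientGroup.mk_surjective q
          have h2 : (v : G) ∈ W' := (hW' v v.2).2 hv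
          rw [h1] at h2
          rw [Subgroup.mem_bot]
          exact (QuotientGroup.eq_one_iff v).2 h2
        · right
          rw [eq_top_iff]
          intro q _
          obtain ⟨v, rfl⟩ := QuotientGroup.mk_surjective q
          have h2 : (v : G) ∈ W' := by rw [h1]; exact v.2
          exact (hW' v v.2).1 h2
      · intro x hx
        rw [hW' x (hXN hx)]
        have h2 : (QuotientGroup.mk (⟨x, hXN hx⟩ : N) : N ⧸ X.subgroupOf N) = 1 :=
          (QuotientGroup.eq_one_iff _).2 hx
        rw [h2]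
        exact W.one_mem
      · intro a ha
        have hle : ∀ a ∈ P, ∀ w ∈ W', a * w * a⁻¹ ∈ W' := by
          intro a ha w hw
          have hwN := hW'N hw
          rw [hW' w hwN] at hw
          obtain ⟨hm, h2⟩ := secHom_apply hPN hPX ⟨a, ha⟩ hwN
          rw [hW' _ hm, ← h2]
          exact hW _ ⟨⟨a, ha⟩, rfl⟩ _ hw
        rw [Subgroup.mem_normalizer_iff]
        intro w
        constructor
        · exact hle a ha w
        · intro hw
          have h3 := hle a⁻¹ (P.inv_mem ha) _ hw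
          have h4 : a⁻¹ * (a * w * a⁻¹) * a⁻¹⁻¹ = w := by group
          rwa [h4] at h3
    · rintro _ ⟨c, hc, rfl⟩ _ ⟨d, hd, rfl⟩ ⟨v⟩
      obtain ⟨y, hy, w, hw, hyc, hwd, hv⟩ := factor hP hPN hN c.2 d.2 v.2
        (h v v.2 c hc d hd)
      refine ⟨QuotientGroup.mk ⟨y, hy⟩, QuotientGroup.mk ⟨w, hw⟩, hfixV c y hy hyc,
        hfixV d w hw hwd, ?_⟩
      rw [mul_comm]
      change QuotientGroup.mk v = QuotientGroup.mk (⟨w, hw⟩ * ⟨y, hy⟩)
      congr 1
      exact Subtype.ext hv
  rw [Subgroup.commutator_le]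
  intro n hn a ha
  have h1 : φ ⟨a, ha⟩ = 1 := by
    have : φ ⟨a, ha⟩ ∈ φ.range := ⟨_, rfl⟩
    rwa [hφ, Subgroup.mem_bot] at this
  obtain ⟨hm, h2⟩ := secHom_apply hPN hPX ⟨a, ha⟩ hn
  have h3 : secHom N X P hPN hPX ⟨a, ha⟩ (QuotientGroup.mk (⟨n, hn⟩ : N)) = QuotientGroup.mk (⟨n, hn⟩ : N) := by
    change φ ⟨a, ha⟩ (QuotientGroup.mk (⟨n, hn⟩ : N)) = QuotientGroup.mk (⟨n, hn⟩ : N)
    rw [h1]
    rfl
  rw [h3, mk_eq_mk] at h2
  have h4 : n * (a * n * a⁻¹)⁻¹ = ⁅n, a⁆ := by
    rw [commutatorElement_def]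
    group
  rw [← h4]
  exact h2

/-- Solvable `p'`-groups. -/
theorem solvable_case (hp3 : 3 ≤ p) {P : Subgroup G} (hP : IsPGroup p P)
    {C D : Set G} (hC : Subgroup.closure C = P) (hD : Subgroup.closure D = P) (n : ℕ) :
    ∀ N : Subgroup G, Nat.card N ≤ n → Group.IsSolvable N → P ≤ Subgroup.normalizer (N : Set G) →
      (Nat.card N).Coprime p →
      (∀ x ∈ N, ∀ c ∈ C, ∀ d ∈ D, IsPGroup p (Subgroup.closure ({x * c * x⁻¹, d} : Set G))) →
      ⁅N, P⁆ = ⊥ := by
  classical
  induction n with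
  | zero =>
    intro N hn
    have : 0 < Nat.card N := Nat.card_pos
    omega
  | succ n ih =>
    intro N hn hsol hPN hN h
    by_cases hN1 : N = ⊥
    · rw [hN1, Subgroup.commutator_bot_left]
    have hNN : ⁅N, N⁆ < N := by
      refine lt_of_le_of_ne (Subgroup.commutator_le_self N) ?_
      intro h1
      have hnt : Nontrivial N := (Subgroup.nontrivial_iff_ne_bot N).2 hN1
      have h2 : commutator N < ⊤ := Group.IsSolvable.commutator_lt_top_of_nontrivial N
      apply h2.ne
      apply Subgroup.map_injective N.subtype_injective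
      rw [commutator_def, Subgroup.map_commutator, ← MonoidHom.range_eq_map, Subgroup.range_subtype, h1]
    have hPNN : P ≤ Subgroup.normalizer ((⁅N, N⁆ : Subgroup G) : Set G) := by
      intro a ha
      rw [Subgroup.mem_normalizer_iff_map_conj_eq]
      rw [Subgroup.map_commutator]
      have h1 := hPN ha
      rw [Subgroup.mem_normalizer_iff_map_conj_eq] at h1
      rw [h1]
    obtain ⟨X, hX⟩ : ∃ X : Subgroup G, Maximal (fun X : Subgroup G => ⁅N, N⁆ ≤ X ∧ X < N ∧
        P ≤ Subgroup.normalizer (X : Set G)) X := by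
      have hfin : {X : Subgroup G | ⁅N, N⁆ ≤ X ∧ X < N ∧
        P ≤ Subgroup.normalizer (X : Set G)}.Finite := Set.toFinite _
      obtain ⟨X, hX⟩ := hfin.exists_maximal ⟨⁅N, N⁆, le_rfl, hNN, hPNN⟩
      exact ⟨X, hX⟩
    have h1 : ⁅N, P⁆ ≤ X := by
      refine section_case hp3 hP hPN hX.prop.2.2 hX.prop.2.1.le hX.prop.1 hN ?_ hC hD h
      intro W hXW hWN hPW
      by_cases hW : W = N
      · right; exact hW
      · left
        exact le_antisymm (hX.2 ⟨hX.prop.1.trans hXW, lt_of_le_of_ne hWN hW, hPW⟩ hXW) hXW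
    have h2 : ⁅X, P⁆ = ⊥ := by
      refine ih X ?_ ?_ hX.prop.2.2 ?_ (fun x hx => h x (hX.prop.2.1.le hx))
      · have h3 : Nat.card X < Nat.card N :=
          Set.Finite.card_lt_card (Set.toFinite (N : Set G)) hX.prop.2.1
        omega
      · exact Group.isSolvable_of_isSolvable_injective (Subgroup.inclusion_injective hX.prop.2.1.le)
      · exact Nat.Coprime.coprime_dvd_left (Subgroup.card_dvd_of_le hX.prop.2.1.le) hN
    have hcop : (Nat.card P).Coprime (Nat.card N) := by
      obtain ⟨k, hk⟩ := hP.exists_card_eq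
      rw [hk]
      exact (Nat.Coprime.pow_right k hN).symm
    have h3 := Cfsg.Agent.Lib.CoprimeCommutator.commutator_commutator_eq P N hPN hcop
    rw [← h3, eq_bot_iff, ← h2]
    exact Subgroup.commutator_mono h1 le_rfl

end Reduction

/-- Let p ≥ 3 be prime and G a finite group with a Sylow p-subgroup P and a normal p-complement N (N normal, of order prime to p, with NP = G). Suppose P is generated by a subset C and also by a subset D, and that ⟨x c x⁻¹, d⟩ is a p-group for all x ∈ N, c ∈ C, d ∈ D. Then P centralizes N, so that G = N × P. -/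
theorem result {G : Type*} [Group G] [Finite G] (p : ℕ) [Fact p.Prime] (hp3 : 3 ≤ p) (P : Sylow p G)
    (N : Subgroup G) [N.Normal] (hN : (Nat.card N).Coprime p) (hNP : N ⊔ (P : Subgroup G) = ⊤)
    (C D : Set G) (hC : Subgroup.closure C = (P : Subgroup G)) (hD : Subgroup.closure D = (P : Subgroup G))
    (h : ∀ x ∈ N, ∀ c ∈ C, ∀ d ∈ D, IsPGroup p ↥(Subgroup.closure ({x * c * x⁻¹, d} : Set G))) :
    ⁅(P : Subgroup G), N⁆ = ⊥ := by
  classical
  have hP : IsPGroup p (P : Subgroup G) := P.isPGroup'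
  let Z : Subgroup G := Subgroup.centralizer ((P : Subgroup G) : Set G)
  have hZ : N ≤ Z := by
    rw [← Subgroup.relIndex_eq_one]
    by_contra hne
    obtain ⟨r, hr, hrd⟩ := Nat.exists_prime_and_dvd hne
    have : Fact r.Prime := ⟨hr⟩
    obtain ⟨Q, hQ⟩ := Cfsg.Agent.PLocal.ComplementReduction.exists_invariant_sylow (p := p) (q := r)
      N (P : Subgroup G) hN hP
    have hQp : IsPGroup r ((Q : Subgroup N).map N.subtype) := Q.isPGroup'.map N.subtype
    have hsol : Group.IsSolvable ((Q : Subgroup N).map N.subtype) := by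
      have := hQp.isNilpotent
      infer_instance
    have hle : (Q : Subgroup N).map N.subtype ≤ N := Subgroup.map_subtype_le _
    have h1 := solvable_case hp3 hP hC hD _ ((Q : Subgroup N).map N.subtype) le_rfl hsol hQ
      (Nat.Coprime.coprime_dvd_left (Subgroup.card_dvd_of_le hle) hN) (fun x hx => h x (hle hx))
    rw [Subgroup.commutator_eq_bot_iff_le_centralizer] at h1
    have h2 : (Q : Subgroup N) ≤ Z.subgroupOf N := by
      intro x hx
      exact h1 (Subgroup.mem_map_of_mem _ hx)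
    have h3 := Subgroup.index_dvd_of_le h2
    exact Q.not_dvd_index (hrd.trans h3)
  rw [Subgroup.commutator_comm, Subgroup.commutator_eq_bot_iff_le_centralizer]
  exact hZ

end Cfsg.Agent.S2277
end
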