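import Mathlib
import Cfsg.Agent.H152.SUClass
import Cfsg.Statements.S2481
import Cfsg.Agent.S2386
set_option linter.all false

-- part: H152/SUNum
section
/-!
# Bounds for the numbers `K (w (q + 1) q) r N`
-/

set_option autoImplicit false

namespace Cfsg.Agent.H152.Model

open Finset

theorem geom_le {t : ℝ} (h0 : 0 ≤ t) (h1 : t < 1) (M : ℕ) : ∑ i ∈ range M, t ^ i ≤ 1 / (1 - t) := by
  rw [le_div_iff₀ (by linarith), mul_comm]
  have := mul_neg_geom_sum t M
  rw [this]
  have : 0 ≤ t ^ M := pow_nonneg h0 M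
  linarith

/-- The generating function of the letters. -/
theorem sum_w_le (m q : ℕ) {x : ℝ} (hx : 0 ≤ x) (hqx : (q : ℝ) * x < 1) (M : ℕ) :
    ∑ a ∈ range (M + 1), (w m q a : ℝ) * x ^ a ≤ 1 + m * x / (1 - q * x) := by
  rw [sum_range_succ']
  have h1 : ∀ a : ℕ, (w m q (a + 1) : ℝ) * x ^ (a + 1) = (m * x) * ((q : ℝ) * x) ^ a := by
    intro a
    rw [w, if_neg (Nat.succ_ne_zero a), Nat.add_sub_cancel]
    push_cast
    ring
  rw [sum_congr rfl fun a _ => h1 a, ← mul_sum]
  have h2 : (w m q 0 : ℝ) * x ^ 0 = 1 := by rw [w, if_pos rfl]; simp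
  rw [h2, add_comm, mul_div_assoc]
  have h3 := geom_le (mul_nonneg (Nat.cast_nonneg q) hx) hqx M
  have h4 : (m * x) * ∑ i ∈ range M, ((q : ℝ) * x) ^ i ≤ (m * x) * (1 / (1 - q * x)) :=
    mul_le_mul_of_nonneg_left h3 (mul_nonneg (Nat.cast_nonneg m) hx)
  have h5 : (m : ℝ) * x * (1 / (1 - q * x)) = m * (x / (1 - q * x)) := by ring
  linarith

/-- One more letter. -/
theorem K_succ_le {m q r : ℕ} (hq : 2 ≤ q) (hr : 1 ≤ r) {B : ℝ} (hB : 0 ≤ B)
    (h : ∀ N, (K (w m q) r N : ℝ) ≤ B * (q : ℝ) ^ N) (N : ℕ) :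
    (K (w m q) (r + 1) N : ℝ) ≤
      B * (1 + m * ((q : ℝ)⁻¹ ^ (r + 1)) / (1 - (q : ℝ)⁻¹ ^ r)) * (q : ℝ) ^ N := by
  have hq0 : (0 : ℝ) < q := by exact_mod_cast (by omega : 0 < q)
  have hq1 : (1 : ℝ) < q := by exact_mod_cast (by omega : 1 < q)
  obtain ⟨x, hx⟩ : ∃ x : ℝ, x = (q : ℝ)⁻¹ ^ (r + 1) := ⟨_, rfl⟩
  have hx0 : 0 ≤ x := by rw [hx]; positivity
  have hqx : (q : ℝ) * x = (q : ℝ)⁻¹ ^ r := by
    rw [hx, pow_succ]
    field_simp
  have hqx1 : (q : ℝ) * x < 1 := by
    rw [hqx]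
    exact pow_lt_one₀ (by positivity) (inv_lt_one_of_one_lt₀ hq1) (by omega)
  rw [K]
  push_cast
  have h1 : ∀ a ∈ range (N / (r + 1) + 1), (w m q a : ℝ) * (K (w m q) r (N - a * (r + 1)) : ℝ) ≤
      (B * (q : ℝ) ^ N) * ((w m q a : ℝ) * x ^ a) := by
    intro a ha
    have ha' : a * (r + 1) ≤ N := by
      have := Nat.lt_succ_iff.mp (mem_range.mp ha)
      exact (Nat.le_div_iff_mul_le (Nat.succ_pos r)).mp this
    have h2 : (q : ℝ) ^ (N - a * (r + 1)) = (q : ℝ) ^ N * x ^ a := by
      rw [hx, ← pow_mul, inv_pow, mul_comm (r + 1) a, ← div_eq_mul_inv, eq_div_iff (by positivity),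
        ← pow_add]
      congr 1
      omega
    calc (w m q a : ℝ) * (K (w m q) r (N - a * (r + 1)) : ℝ)
        ≤ (w m q a : ℝ) * (B * (q : ℝ) ^ (N - a * (r + 1))) :=
          mul_le_mul_of_nonneg_left (h _) (Nat.cast_nonneg _)
      _ = _ := by rw [h2]; ring
  refine (sum_le_sum h1).trans ?_
  rw [← mul_sum]
  have h3 := sum_w_le m q hx0 hqx1 (N / (r + 1))
  have h4 : (B * (q : ℝ) ^ N) * ∑ a ∈ range (N / (r + 1) + 1), (w m q a : ℝ) * x ^ a ≤
      (B * (q : ℝ) ^ N) * (1 + m * x / (1 - q * x)) :=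
    mul_le_mul_of_nonneg_left h3 (by positivity)
  refine h4.trans (le_of_eq ?_)
  rw [hqx, hx]
  ring

theorem K_one (v : ℕ → ℕ) (N : ℕ) : K v 1 N = v N := by
  rw [K, Nat.div_one, sum_eq_single N]
  · rw [K, zero_add, mul_one, Nat.sub_self, if_pos rfl, mul_one]
  · intro a ha hne
    have := Nat.lt_succ_iff.mp (mem_range.mp ha)
    rw [K, if_neg (by omega), mul_zero]
  · intro h
    exact absurd (mem_range.mpr (Nat.lt_succ_self N)) h

theorem K_one_le (m q : ℕ) (hq : 1 ≤ q) (hm : q ≤ m) (N : ℕ) :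
    (K (w m q) 1 N : ℝ) ≤ (m / q) * (q : ℝ) ^ N := by
  have hq0 : (0 : ℝ) < q := by exact_mod_cast (by omega : 0 < q)
  rw [K_one, w]
  split_ifs with h
  · subst h
    rw [pow_zero, mul_one, Nat.cast_one, le_div_iff₀ hq0, one_mul]
    exact_mod_cast hm
  · obtain ⟨N, rfl⟩ := Nat.exists_eq_succ_of_ne_zero h
    rw [Nat.succ_eq_add_one, Nat.add_sub_cancel, pow_succ]
    push_cast
    apply le_of_eq
    field_simp

/-- The inductive inequality. -/
theorem step_ineq {q y : ℝ} (hq : 2 ≤ q) (hy1 : y < 1) :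
    (1 - (q + 1) / (q - 1) * y) * (1 + (q + 1) * (y / q) / (1 - y)) ≤
      1 - (q + 1) / (q - 1) * (y / q) := by
  have h1 : 0 < q - 1 := by linarith
  have h2 : 0 < 1 - y := by linarith
  have h3 : (1 + (q + 1) * (y / q) / (1 - y)) = (1 + y / q) / (1 - y) := by
    field_simp
    ring
  rw [h3, ← mul_div_assoc, div_le_iff₀ h2]
  have h4 : (1 - (q + 1) / (q - 1) * (y / q)) * (1 - y) - (1 - (q + 1) / (q - 1) * y) * (1 + y / q) =
      2 * ((q + 1) / (q - 1)) * y ^ 2 / q := by
    field_simp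
    ring
  have h5 : 0 ≤ 2 * ((q + 1) / (q - 1)) * y ^ 2 / q := by positivity
  linarith

theorem K_le_of_base {q r₀ : ℕ} (hq : 2 ≤ q) (hr₀ : 1 ≤ r₀) {B : ℝ} (hB : 0 ≤ B)
    (hc : 0 ≤ 1 - ((q : ℝ) + 1) / (q - 1) * (q : ℝ)⁻¹ ^ r₀)
    (h : ∀ N, (K (w (q + 1) q) r₀ N : ℝ) ≤
      B * (1 - ((q : ℝ) + 1) / (q - 1) * (q : ℝ)⁻¹ ^ r₀) * (q : ℝ) ^ N) (r : ℕ) (hr : r₀ ≤ r) (N : ℕ) :
    (K (w (q + 1) q) r N : ℝ) ≤
      B * (1 - ((q : ℝ) + 1) / (q - 1) * (q : ℝ)⁻¹ ^ r) * (q : ℝ) ^ N := by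
  have hq0 : (0 : ℝ) < q := by exact_mod_cast (by omega : 0 < q)
  have hq1 : (1 : ℝ) < q := by exact_mod_cast (by omega : 1 < q)
  have hq2 : (2 : ℝ) ≤ q := by exact_mod_cast hq
  have hmono : ∀ r, r₀ ≤ r → 0 ≤ 1 - ((q : ℝ) + 1) / (q - 1) * (q : ℝ)⁻¹ ^ r := by
    intro r hr
    have h1 : (q : ℝ)⁻¹ ^ r ≤ (q : ℝ)⁻¹ ^ r₀ :=
      pow_le_pow_of_le_one (by positivity) (inv_le_one_of_one_le₀ hq1.le) hr
    have h2 : 0 ≤ ((q : ℝ) + 1) / (q - 1) := div_nonneg (by linarith) (by linarith)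
    have h3 := mul_le_mul_of_nonneg_left h1 h2
    linarith
  induction r, hr using Nat.le_induction generalizing N with
  | base => exact h N
  | succ r hr ih =>
    have h1 := K_succ_le (m := q + 1) hq (by omega : 1 ≤ r) (mul_nonneg hB (hmono r hr)) ih N
    refine h1.trans ?_
    apply mul_le_mul_of_nonneg_right _ (by positivity)
    have h2 := step_ineq hq2 (y := (q : ℝ)⁻¹ ^ r)
      (pow_lt_one₀ (by positivity) (inv_lt_one_of_one_lt₀ hq1) (by omega))
    have h3 : (q : ℝ)⁻¹ ^ (r + 1) = (q : ℝ)⁻¹ ^ r / q := by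
      rw [pow_succ, div_eq_mul_inv]
    rw [h3]
    push_cast
    rw [mul_assoc]
    exact mul_le_mul_of_nonneg_left h2 hB

/-- `K ≤ 4 q ^ N` for `q ≥ 3`. -/
theorem K_le_four {q : ℕ} (hq : 3 ≤ q) (r : ℕ) (hr : 1 ≤ r) (N : ℕ) :
    (K (w (q + 1) q) r N : ℝ) ≤ 4 * (q : ℝ) ^ N := by
  have hq0 : (0 : ℝ) < q := by exact_mod_cast (by omega : 0 < q)
  have hq3 : (3 : ℝ) ≤ q := by exact_mod_cast hq
  have hD : 0 < (q : ℝ) ^ 2 - 2 * q - 1 := by nlinarith
  have hB : ((q : ℝ) ^ 2 - 1) / (q ^ 2 - 2 * q - 1) ≤ 4 := by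
    rw [div_le_iff₀ hD]
    nlinarith
  have hB0 : 0 ≤ ((q : ℝ) ^ 2 - 1) / (q ^ 2 - 2 * q - 1) := div_nonneg (by nlinarith) hD.le
  have hc : 1 - ((q : ℝ) + 1) / (q - 1) * (q : ℝ)⁻¹ ^ 1 = (q ^ 2 - 2 * q - 1) / (q * (q - 1)) := by
    have : (q : ℝ) - 1 ≠ 0 := by linarith
    field_simp
    ring
  have hc0 : 0 ≤ (q ^ 2 - 2 * q - 1) / (q * ((q : ℝ) - 1)) := by
    apply div_nonneg hD.le
    apply mul_nonneg hq0.le
    linarith
  have h := K_le_of_base (q := q) (r₀ := 1) (by omega) le_rfl hB0 (by rw [hc]; exact hc0) (by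
    intro N
    have h1 := K_one_le (q + 1) q (by omega) (by omega) N
    refine h1.trans (le_of_eq ?_)
    rw [hc]
    push_cast
    have : (q : ℝ) - 1 ≠ 0 := by linarith
    have hD' := hD.ne'
    congr 1
    generalize (q : ℝ) ^ 2 - 2 * q - 1 = D at hD'
    field_simp
    ring) r hr N
  refine h.trans ?_
  apply mul_le_mul_of_nonneg_right _ (by positivity)
  have h2 : 0 ≤ ((q : ℝ) + 1) / (q - 1) * (q : ℝ)⁻¹ ^ r := by
    apply mul_nonneg (div_nonneg (by linarith) (by linarith)) (by positivity)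
  have h3 : ((q : ℝ) ^ 2 - 1) / (q ^ 2 - 2 * q - 1) * (1 - ((q : ℝ) + 1) / (q - 1) * (q : ℝ)⁻¹ ^ r) ≤
      ((q : ℝ) ^ 2 - 1) / (q ^ 2 - 2 * q - 1) * 1 := mul_le_mul_of_nonneg_left (by linarith) hB0
  linarith

/-- One step for `q = 2`, with rational bounds. -/
theorem K_two_step {r : ℕ} (hr : 1 ≤ r) {B B' : ℝ} (hB : 0 ≤ B)
    (h : ∀ N, (K (w 3 2) r N : ℝ) ≤ B * (2 : ℝ) ^ N)
    (hB' : B * (1 + 3 * ((2 : ℝ)⁻¹ ^ (r + 1)) / (1 - (2 : ℝ)⁻¹ ^ r)) ≤ B') (N : ℕ) :
    (K (w 3 2) (r + 1) N : ℝ) ≤ B' * (2 : ℝ) ^ N := by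
  have h1 := K_succ_le (m := 3) (q := 2) le_rfl hr hB (by exact_mod_cast h) N
  push_cast at h1
  exact h1.trans (mul_le_mul_of_nonneg_right hB' (by positivity))

/-- `K ≤ 8.26 * 2 ^ N` for `q = 2`. -/
theorem K_le_two (r : ℕ) (hr : 1 ≤ r) (N : ℕ) :
    (K (w 3 2) r N : ℝ) ≤ 8.26 * (2 : ℝ) ^ N := by
  have k1 : ∀ N, (K (w 3 2) 1 N : ℝ) ≤ 1.5 * (2 : ℝ) ^ N := by
    intro N
    have := K_one_le 3 2 (by norm_num) (by norm_num) N
    push_cast at this
    linarith
  have k2 := K_two_step le_rfl (B' := 3.75) (by norm_num) k1 (by norm_num)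
  have k3 := K_two_step (by norm_num) (B' := 5.625) (by norm_num) k2 (by norm_num)
  have k4 := K_two_step (by norm_num) (B' := 6.8304) (by norm_num) k3 (by norm_num)
  have k5 := K_two_step (by norm_num) (B' := 7.51345) (by norm_num) k4 (by norm_num)
  have k6 := K_two_step (by norm_num) (B' := 7.8771) (by norm_num) k5 (by norm_num)
  have k7 := K_two_step (by norm_num) (B' := 8.06466) (by norm_num) k6 (by norm_num)
  have k8 := K_two_step (by norm_num) (B' := 8.15992) (by norm_num) k7 (by norm_num)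
  rcases lt_or_ge r 8 with hr8 | hr8
  · have h2 : (0 : ℝ) < (2 : ℝ) ^ N := by positivity
    interval_cases r
    · have := k1 N; linarith
    · have := k2 N; linarith
    · have := k3 N; linarith
    · have := k4 N; linarith
    · have := k5 N; linarith
    · have := k6 N; linarith
    · have := k7 N; linarith
  · have h := K_le_of_base (q := 2) (r₀ := 8) le_rfl (by norm_num) (B := 8.26) (by norm_num)
      (by norm_num) (by
        intro N
        refine (k8 N).trans ?_
        push_cast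
        apply mul_le_mul_of_nonneg_right _ (by positivity)
        norm_num) r hr8 N
    push_cast at h
    refine h.trans ?_
    apply mul_le_mul_of_nonneg_right _ (by positivity)
    have : (0 : ℝ) ≤ (2 : ℝ)⁻¹ ^ r := by positivity
    norm_num

end Cfsg.Agent.H152.Model
end

-- part: S2481
section
set_option autoImplicit false
open Cfsg

namespace Cfsg.Agent.S2481

open Cfsg.Agent.H152 Finset

theorem card_roots {K : Type*} [Field K] [Fintype K] {q : ℕ} (hK : Fintype.card K = q ^ 2) (hq : 2 ≤ q) :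
    Nat.card (rootsOfUnity (q + 1) K) = q + 1 := by
  classical
  obtain ⟨g, hg⟩ := IsCyclic.exists_generator (α := Kˣ)
  have h1 : orderOf g = (q + 1) * (q - 1) := by
    rw [orderOf_eq_card_of_forall_mem_zpowers hg, Nat.card_eq_fintype_card, Fintype.card_units, hK]
    obtain ⟨t, rfl⟩ : ∃ t, q = t + 1 := ⟨q - 1, by omega⟩
    rw [Nat.add_sub_cancel]
    have : (t + 1) ^ 2 = (t + 1 + 1) * t + 1 := by ring
    omega
  have h2 : orderOf (g ^ (q - 1)) = q + 1 := by
    rw [orderOf_pow' g (by omega), h1, Nat.gcd_eq_right (Nat.dvd_mul_left _ _)]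
    exact Nat.mul_div_cancel _ (by omega)
  have h3 : IsPrimitiveRoot (g ^ (q - 1)) (q + 1) := by
    have := IsPrimitiveRoot.orderOf (g ^ (q - 1))
    rwa [h2] at this
  have h4 : IsPrimitiveRoot ((g ^ (q - 1) : Kˣ) : K) (q + 1) := IsPrimitiveRoot.coe_units_iff.mpr h3
  exact h4.card_rootsOfUnity

/-- The sum over the pairs. -/
theorem sum_le {C : Type*} [CommGroup C] [Fintype C] [IsCyclic C] {n : ℕ} (hn : 1 ≤ n) (f : ℕ → ℝ)
    {B : ℝ} (hfB : ∀ d, 2 ≤ d → d ∣ n → d ∣ Fintype.card C → f (n / d) ≤ B) (hB : 0 ≤ B) :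
    ∃ T : ℕ, 1 ≤ T ∧ T ≤ n ∧ T ≤ Fintype.card C ∧
      ∑ p : C × C, (if Nat.lcm (orderOf p.1) (orderOf p.2) ∣ n then
        f (n / Nat.lcm (orderOf p.1) (orderOf p.2)) else 0) ≤ f n + ((T : ℝ) ^ 2 - 1) * B := by
  classical
  let S : Finset C := Finset.univ.filter fun a => a ^ n = 1
  have h1S : (1 : C) ∈ S := by simp [S]
  refine ⟨S.card, Finset.card_pos.mpr ⟨1, h1S⟩, IsCyclic.card_pow_eq_one_le hn, Finset.card_le_univ _, ?_⟩
  rw [← Finset.add_sum_erase _ _ (Finset.mem_univ (1 : C × C))]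
  have e1 : Nat.lcm (orderOf (1 : C × C).1) (orderOf (1 : C × C).2) = 1 := by simp
  rw [e1, if_pos (one_dvd n), Nat.div_one]
  have hcard : ((S ×ˢ S).erase (1 : C × C)).card = S.card ^ 2 - 1 := by
    rw [Finset.card_erase_of_mem (Finset.mem_product.mpr ⟨h1S, h1S⟩), Finset.card_product, sq]
  have hpos : 1 ≤ S.card ^ 2 := Nat.one_le_pow _ _ (Finset.card_pos.mpr ⟨1, h1S⟩)
  have h2 : ∑ p ∈ Finset.univ.erase (1 : C × C), (if Nat.lcm (orderOf p.1) (orderOf p.2) ∣ n then
        f (n / Nat.lcm (orderOf p.1) (orderOf p.2)) else 0) ≤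
      ∑ p ∈ (S ×ˢ S).erase (1 : C × C), B := by
    rw [← Finset.sum_filter]
    have hsub : (Finset.univ.erase (1 : C × C)).filter
        (fun p => Nat.lcm (orderOf p.1) (orderOf p.2) ∣ n) ⊆ (S ×ˢ S).erase (1 : C × C) := by
      intro p hp
      rw [Finset.mem_filter, Finset.mem_erase] at hp
      rw [Finset.mem_erase, Finset.mem_product]
      refine ⟨hp.1.1, ?_, ?_⟩
      · simp only [S, Finset.mem_filter, Finset.mem_univ, true_and]
        exact orderOf_dvd_iff_pow_eq_one.mp ((Nat.dvd_lcm_left _ _).trans hp.2)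
      · simp only [S, Finset.mem_filter, Finset.mem_univ, true_and]
        exact orderOf_dvd_iff_pow_eq_one.mp ((Nat.dvd_lcm_right _ _).trans hp.2)
    refine (Finset.sum_le_sum fun p hp => ?_).trans
      (Finset.sum_le_sum_of_subset_of_nonneg hsub fun _ _ _ => hB)
    rw [Finset.mem_filter, Finset.mem_erase] at hp
    refine hfB _ ?_ hp.2 (Nat.lcm_dvd (orderOf_dvd_card) (orderOf_dvd_card))
    have hd : 0 < Nat.lcm (orderOf p.1) (orderOf p.2) :=
      Nat.lcm_pos (orderOf_pos p.1) (orderOf_pos p.2)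
    by_contra hlt
    have h1 : Nat.lcm (orderOf p.1) (orderOf p.2) = 1 := by omega
    apply hp.1.1
    have h3 := Nat.dvd_lcm_left (orderOf p.1) (orderOf p.2)
    have h4 := Nat.dvd_lcm_right (orderOf p.1) (orderOf p.2)
    rw [h1, Nat.dvd_one, orderOf_eq_one_iff] at h3 h4
    exact Prod.ext h3 h4
  rw [Finset.sum_const, hcard, nsmul_eq_mul, Nat.cast_sub hpos] at h2
  push_cast at h2
  linarith

/-- The number of conjugacy classes of SU(n,q): for n ≥ 2, q a prime power and F the field with q² elements, the number k of conjugacy classes of SU(n,q) (the determinant-one isometries of the standard Hermitian form on F^n) satisfies q^(n−1) ≤ k ≤ 8.26·q^(n−1). -/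
theorem result {F : Type*} [Field F] [Fintype F] (n q : ℕ) (hn : 2 ≤ n) (hF : Fintype.card F = q ^ 2) :
    q ^ (n - 1) ≤ Nat.card (ConjClasses (Cfsg.SU n F q)) ∧ 100 * Nat.card (ConjClasses (Cfsg.SU n F q)) ≤ 826 * q ^ (n - 1) := by
  classical
  have hq : 2 ≤ q := Cfsg.Agent.ClassicalGeometry.GUBasic.two_le hF
  constructor
  · obtain ⟨p, hp⟩ := CharP.exists F
    have := Fact.mk (CharP.char_is_prime F p)
    have h1 := Cfsg.Agent.S2386.result hF p n (by omega)
    rw [← h1]
    exact Nat.card_le_card_of_injective (fun c => c.1) Subtype.val_injective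
  · have hq0 : (0 : ℝ) < q := by exact_mod_cast (by omega : 0 < q)
    have hcard := card_roots hF hq
    have h1 := card_classes_mul_le hF n
    rw [hcard] at h1
    have hcard' : Fintype.card (rootsOfUnity (q + 1) F) = q + 1 := by
      rw [← Nat.card_eq_fintype_card, hcard]
    obtain ⟨m, rfl⟩ : ∃ m, n = m + 1 := ⟨n - 1, by omega⟩
    rw [Nat.add_sub_cancel]
    -- the real inequality
    suffices h : (Nat.card (ConjClasses (Cfsg.SU (m + 1) F q)) : ℝ) * (q + 1) ≤
        8.26 * (q : ℝ) ^ m * (q + 1) by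
      have h2 := le_of_mul_le_mul_right h (by linarith)
      have h3 : (100 : ℝ) * (Nat.card (ConjClasses (Cfsg.SU (m + 1) F q)) : ℝ) ≤ 826 * (q : ℝ) ^ m := by
        linarith
      exact_mod_cast h3
    have h2 : (Nat.card (ConjClasses (Cfsg.SU (m + 1) F q)) : ℝ) * (q + 1) ≤
        ∑ p : rootsOfUnity (q + 1) F × rootsOfUnity (q + 1) F,
        (if Nat.lcm (orderOf p.1) (orderOf p.2) ∣ m + 1 then
          (Model.K (Model.w (q + 1) q)
            ((m + 1) / Nat.lcm (orderOf p.1) (orderOf p.2))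
            ((m + 1) / Nat.lcm (orderOf p.1) (orderOf p.2)) : ℝ)
        else 0) := by
      exact_mod_cast h1
    refine h2.trans ?_
    rcases Nat.lt_or_ge q 3 with hq3 | hq3
    · -- `q = 2`
      have hq2 : q = 2 := by omega
      subst hq2
      by_cases h3 : 3 ∣ m + 1
      · by_cases hm : m + 1 = 3
        · obtain ⟨T, hT1, hT2, hT3, hT⟩ := sum_le (C := rootsOfUnity (2 + 1) F) (n := m + 1) (by omega)
            (fun k => (Model.K (Model.w (2 + 1) 2) k k : ℝ)) (B := 3) (by
              intro d hd hdn hdC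
              rw [hm] at hdn ⊢
              have hd3 : d = 3 := by
                rcases (Nat.dvd_prime Nat.prime_three).mp hdn with h | h
                · omega
                · exact h
              rw [hd3]
              have : Model.K (Model.w (2 + 1) 2) (3 / 3) (3 / 3) = 3 := by
                decide
              rw [this]
              norm_num) (by norm_num)
          refine hT.trans ?_
          have hm' : m = 2 := by omega
          subst hm'
          have : Model.K (Model.w (2 + 1) 2) (2 + 1) (2 + 1) = 24 := by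
            decide
          rw [this]
          have hT4 : (T : ℝ) ≤ 3 := by exact_mod_cast hT2
          have hT5 : (1 : ℝ) ≤ T := by exact_mod_cast hT1
          push_cast
          nlinarith
        · have hm6 : 6 ≤ m + 1 := by omega
          obtain ⟨T, hT1, hT2, hT3, hT⟩ := sum_le (C := rootsOfUnity (2 + 1) F) (n := m + 1) (by omega)
            (fun k => (Model.K (Model.w (2 + 1) 2) k k : ℝ)) 
            (B := 8.26 * (2 : ℝ) ^ (m - 3)) (by
              intro d hd hdn hdC
              have hd0 : 0 < d := by omega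
              have h4 : 1 ≤ (m + 1) / d := Nat.div_pos (Nat.le_of_dvd (by omega) hdn) hd0
              refine (Model.K_le_two _ h4 _).trans ?_
              apply mul_le_mul_of_nonneg_left _ (by norm_num)
              apply pow_le_pow_right₀ (by norm_num)
              -- `(m + 1) / d ≤ m - 3`
              rw [hcard'] at hdC
              have hd3 : d = 3 := by
                rcases (Nat.dvd_prime Nat.prime_three).mp hdC with h | h
                · omega
                · exact h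
              rw [hd3]
              omega) (by positivity)
          refine hT.trans ?_
          have h4 := Model.K_le_two (m + 1) (by omega) (m + 1)
          rw [hcard'] at hT3
          have hT4 : (T : ℝ) ≤ 3 := by exact_mod_cast hT3
          have hT5 : (1 : ℝ) ≤ T := by exact_mod_cast hT1
          have h6 : (T : ℝ) ^ 2 - 1 ≤ 8 := by nlinarith
          have h7 : (2 : ℝ) ^ m = 8 * (2 : ℝ) ^ (m - 3) := by
            have : m = (m - 3) + 3 := by omega
            conv_lhs => rw [this]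
            rw [pow_add]
            ring
          have h8 : (0 : ℝ) < (2 : ℝ) ^ (m - 3) := by positivity
          have h9 : ((T : ℝ) ^ 2 - 1) * (8.26 * (2 : ℝ) ^ (m - 3)) ≤ 8 * (8.26 * (2 : ℝ) ^ (m - 3)) :=
            mul_le_mul_of_nonneg_right h6 (by positivity)
          rw [pow_succ, h7] at h4
          push_cast
          rw [h7]
          linarith
      · -- no nontrivial pairs
        have h5 : ∀ p : rootsOfUnity (2 + 1) F × rootsOfUnity (2 + 1) F, p ≠ 1 →
            ¬ Nat.lcm (orderOf p.1) (orderOf p.2) ∣ m + 1 := by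
          intro p hp hdvd
          have ho : ∀ x : rootsOfUnity (2 + 1) F, orderOf x ∣ m + 1 → x = 1 := by
            intro x hx
            have h6 : orderOf x ∣ 3 := by
              have := orderOf_dvd_natCard x
              rwa [hcard] at this
            rcases (Nat.dvd_prime Nat.prime_three).mp h6 with h | h
            · exact orderOf_eq_one_iff.mp h
            · rw [h] at hx; exact absurd hx h3
          apply hp
          exact Prod.ext (ho _ ((Nat.dvd_lcm_left _ _).trans hdvd)) (ho _ ((Nat.dvd_lcm_right _ _).trans hdvd))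
        rw [Finset.sum_eq_single (1 : rootsOfUnity (2 + 1) F × rootsOfUnity (2 + 1) F)
          (fun p _ hp => if_neg (h5 p hp)) (fun h => absurd (Finset.mem_univ _) h)]
        have e1 : Nat.lcm (orderOf (1 : rootsOfUnity (2 + 1) F × rootsOfUnity (2 + 1) F).1)
            (orderOf (1 : rootsOfUnity (2 + 1) F × rootsOfUnity (2 + 1) F).2) = 1 := by simp
        rw [e1, if_pos (one_dvd _), Nat.div_one]
        have h4 := Model.K_le_two (m + 1) (by omega) (m + 1)
        have h8 : (0 : ℝ) < (2 : ℝ) ^ m := by positivity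
        rw [pow_succ] at h4
        push_cast at h4 ⊢
        linarith
    · -- `q ≥ 3`
      obtain ⟨T, hT1, hT2, hT3, hT⟩ := sum_le (C := rootsOfUnity (q + 1) F) (n := m + 1) (by omega)
        (fun k => (Model.K (Model.w (q + 1) q) k k : ℝ)) 
        (B := 4 * (q : ℝ) ^ ((m + 1) / 2)) (by
          intro d hd hdn _
          have hd0 : 0 < d := by omega
          have h4 : 1 ≤ (m + 1) / d := Nat.div_pos (Nat.le_of_dvd (by omega) hdn) hd0
          refine (Model.K_le_four hq3 _ h4 _).trans ?_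
          apply mul_le_mul_of_nonneg_left _ (by norm_num)
          apply pow_le_pow_right₀ (by exact_mod_cast (by omega : 1 ≤ q))
          exact Nat.div_le_div_left hd (by norm_num)) (by positivity)
      refine hT.trans ?_
      rw [hcard'] at hT3
      have h4 := Model.K_le_four hq3 (m + 1) (by omega) (m + 1)
      -- the key inequality
      have hq3' : (3 : ℝ) ≤ q := by exact_mod_cast hq3
      have hT5 : (1 : ℝ) ≤ T := by exact_mod_cast hT1
      have key : ((T : ℝ) ^ 2 - 1) * (q : ℝ) ^ ((m + 1) / 2) ≤ (q ^ 2 + 2 * q) * (q : ℝ) ^ (m - 1) := by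
        rcases Nat.lt_or_ge m 3 with hm3 | hm3
        · interval_cases m
          · omega
          · have hT4 : (T : ℝ) ≤ 2 := by exact_mod_cast hT2
            have h6 : (T : ℝ) ^ 2 - 1 ≤ 3 := by nlinarith
            have h7 := mul_le_mul_of_nonneg_right h6 hq0.le
            norm_num
            nlinarith
          · have hT4 : (T : ℝ) ≤ 3 := by exact_mod_cast hT2
            have h6 : (T : ℝ) ^ 2 - 1 ≤ 8 := by nlinarith
            have h7 := mul_le_mul_of_nonneg_right h6 hq0.le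
            norm_num
            nlinarith
        · have hT4 : (T : ℝ) ≤ q + 1 := by exact_mod_cast hT3
          have h6 : (T : ℝ) ^ 2 - 1 ≤ q ^ 2 + 2 * q := by nlinarith
          have h7 : (q : ℝ) ^ ((m + 1) / 2) ≤ (q : ℝ) ^ (m - 1) := by
            apply pow_le_pow_right₀ (by linarith)
            omega
          exact mul_le_mul h6 h7 (by positivity) (by positivity)
      have h8 : (q : ℝ) ^ m = q * (q : ℝ) ^ (m - 1) := by
        have : m = (m - 1) + 1 := by omega
        conv_lhs => rw [this]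
        rw [pow_succ]
        ring
      have h9 : (0 : ℝ) < (q : ℝ) ^ (m - 1) := by positivity
      rw [pow_succ, h8] at h4
      rw [h8]
      have h10 : (0 : ℝ) ≤ (q : ℝ) * (q : ℝ) ^ (m - 1) * (q + 1) := by positivity
      nlinarith

end Cfsg.Agent.S2481
end
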