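import Mathlib
import Cfsg.Agent.H194.NilFormD
import Cfsg.Agent.H194.Cayley
import Cfsg.Agent.ClassicalGeometry.SymmNormalForm
import Cfsg.Agent.H169.OddGlue
import Cfsg.Agent.H171.Typ
import Cfsg.Agent.H193.InvForm
import Cfsg.Statements.S2482
import Cfsg.Agent.H169.SpLower
set_option linter.all false

-- part: H159/SkUnip
section
/-!
# Unipotent isometries of alternating forms over finite fields of odd characteristic

`HasU B g m s` : `g` has `m i` Jordan blocks of size `i`, and `s i` tells whether the discriminant of the Gram block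
of (even) size `i` is a nonsquare (the symplectic version of `H169/OddUnip.lean`).
-/

set_option autoImplicit false

namespace Cfsg.Agent.H159.SkUnip

open Module Cfsg.Agent.H194.NilForm Cfsg.Agent.H194.Cayley Matrix

universe u
variable {F : Type*} [Field F] {V : Type u} [AddCommGroup V] [Module F V]

theorem sc (h2 : (2 : F) ≠ 0) : Sc (RingHom.id F) (-1) (-1) (2⁻¹ : F) where
  invol := fun _ => rfl
  eps := by simp
  eta := by simp
  tau := by
    rw [RingHom.id_apply, ← two_mul, mul_inv_cancel₀ h2]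

theorem isUnit_two (h2 : (2 : F) ≠ 0) : IsUnit (2 : Module.End F V) := by
  rw [← map_ofNat (algebraMap F (Module.End F V)) 2]
  exact (IsUnit.mk0 _ h2).map _

/-- the pair of a skew map -/
theorem pair (B : V →ₗ[F] V →ₗ[F] F) (hsym : ∀ u v, B u v = - B v u) (hnd : ∀ u, (∀ v, B u v = 0) → u = 0)
    {N : Module.End F V} (hN : ∀ x y, B (N x) y = - B x (N y)) :
    Pair (RingHom.id F) (-1) (-1) (fun u v => B u v) N where
  add_left := fun x x' y => by rw [map_add, LinearMap.add_apply]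
  smul_left := fun c x y => by rw [map_smul, LinearMap.smul_apply, smul_eq_mul]
  symm := fun x y => by rw [hsym, RingHom.id_apply, neg_one_mul]
  adj := fun x y => by rw [hN]; ring
  nondeg := hnd

/-- the type of a unipotent isometry -/
def HasU (B : V →ₗ[F] V →ₗ[F] F) (g : Module.End F V) (m : ℕ → ℕ) (s : ℕ → Bool) : Prop :=
  ∃ N : Module.End F V, Cay g N ∧ ∃ (ι : Type) (_ : Fintype ι) (_ : DecidableEq ι) (ℓ : ι → ℕ) (S : Matrix ι ι F)
    (x : ι → V), IsNB (fun u v => B u v) N ℓ S x ∧ (∀ i, Fintype.card {a // ℓ a = i} = m i) ∧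
    ∀ i, (s i = true ↔ (Even i ∧ ¬ IsSquare (S.toSquareBlock ℓ i).det))

theorem gram_symm {f : V → V → F} {N : V →ₗ[F] V}
    (h : Pair (RingHom.id F) (-1) (-1) f N) {ι : Type*} [Fintype ι] [DecidableEq ι]
    {ℓ : ι → ℕ} {S : Matrix ι ι F} {x : ι → V} (hx : IsNB f N ℓ S x) (a b : ι) :
    S b a = ((-1 : F) ^ (ℓ a)) * S a b := by
  by_cases hab : ℓ a = ℓ b
  · obtain ⟨k, hk⟩ : ∃ k, k + 1 = ℓ a := ⟨ℓ a - 1, by have := hx.pos a; omega⟩
    have h1 := hx.form b a k
    have h3 := hx.form a b k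
    rw [if_pos hk] at h1
    rw [if_pos (hk.trans hab)] at h3
    rw [← h1, ← h3, h.symm_pow, RingHom.id_apply, RingHom.id_apply, ← hk, pow_succ]
    ring
  · rw [hx.blk a b hab, hx.blk b a (Ne.symm hab), mul_zero]

theorem block_symm {f : V → V → F} {N : V →ₗ[F] V}
    (h : Pair (RingHom.id F) (-1) (-1) f N) {ι : Type*} [Fintype ι] [DecidableEq ι]
    {ℓ : ι → ℕ} {S : Matrix ι ι F} {x : ι → V} (hx : IsNB f N ℓ S x) (i : ℕ) :
    (S.toSquareBlock ℓ i)ᵀ = ((-1 : F) ^ i) • S.toSquareBlock ℓ i := by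
  ext a b
  rw [Matrix.transpose_apply, Matrix.smul_apply]
  simp only [Matrix.toSquareBlock_def, Matrix.of_apply, smul_eq_mul]
  have := gram_symm h hx a b
  rwa [a.2] at this

/-- every unipotent isometry has a type -/
theorem exists_hasU [Finite F] (h2 : (2 : F) ≠ 0) [FiniteDimensional F V] (B : V →ₗ[F] V →ₗ[F] F)
    (hsym : ∀ u v, B u v = - B v u) (hnd : ∀ u, (∀ v, B u v = 0) → u = 0) (g : Module.End F V)
    (hg : ∀ u v, B (g u) (g v) = B u v) {p : ℕ} (hp : (g - 1) ^ p = 0) :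
    ∃ (m : ℕ → ℕ) (s : ℕ → Bool), HasU B g m s ∧ m 0 = 0 ∧ (∀ i, Odd i → Even (m i)) ∧
      (∀ i, s i = true → Even i ∧ 0 < m i) ∧ (∀ i, finrank F V < i → m i = 0) ∧
      ∑ i ∈ Finset.range (finrank F V + 1), i * m i = finrank F V := by
  classical
  obtain ⟨N, hc, hN⟩ := exists_cay (isUnit_two h2) hp
  have hskew := skew_of_isometry (f := fun u v => B u v) h2 (fun x x' y => by rw [map_add, LinearMap.add_apply])
    (fun x y y' => by rw [map_add]) hg hc
  have hP := pair B hsym hnd hskew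
  obtain ⟨ι, _, _, ℓ, S, x, hx, hℓ⟩ := exists_nb (sc h2) p hP hN
  have hη : (-1 : F) ≠ 0 := by simp
  have hrank : finrank F V = ∑ a, ℓ a := hx.finrank_eq hP hη
  have hle : ∀ a, ℓ a ≤ finrank F V := by
    intro a
    rw [hrank]
    exact Finset.single_le_sum (fun b _ => Nat.zero_le _) (Finset.mem_univ a)
  refine ⟨fun i => Fintype.card {a // ℓ a = i},
    fun i => decide (Even i ∧ ¬ IsSquare (S.toSquareBlock ℓ i).det),
    ⟨N, hc, ι, inferInstance, inferInstance, ℓ, S, x, hx, fun i => rfl, fun i => by simp⟩, ?_, ?_, ?_, ?_, ?_⟩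
  · exact Fintype.card_eq_zero_iff.2 ⟨fun a => (hx.pos a).ne' a.2⟩
  · intro i hi
    have h3 := block_symm hP hx i
    rw [hi.neg_one_pow, neg_one_smul] at h3
    obtain ⟨k, hk⟩ := even_card_of_alt h2 h3 (hx.block_isUnit i)
    change Even (Fintype.card {a // ℓ a = i})
    rw [hk]
    exact even_two_mul k
  · intro i hi
    simp only [decide_eq_true_eq] at hi
    refine ⟨hi.1, ?_⟩
    by_contra h0
    have h1 := Fintype.card_eq_zero_iff.1 (Nat.eq_zero_of_not_pos h0)
    apply hi.2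
    rw [Matrix.det_isEmpty]
    exact ⟨1, by ring⟩
  · intro i hi
    exact Fintype.card_eq_zero_iff.2 ⟨fun a => by have := hle a.1; rw [a.2] at this; omega⟩
  · rw [hrank]
    have h4 : ∀ i, i * Fintype.card {a // ℓ a = i} = ∑ a ∈ Finset.univ.filter (fun a => ℓ a = i), ℓ a := by
      intro i
      rw [Finset.sum_congr rfl (fun a ha => (Finset.mem_filter.1 ha).2), Finset.sum_const, Fintype.card_subtype,
        smul_eq_mul, mul_comm]
    rw [Finset.sum_congr rfl (fun i _ => h4 i)]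
    exact Finset.sum_fiberwise_of_maps_to (s := Finset.univ) (t := Finset.range ((∑ a, ℓ a) + 1)) (g := ℓ)
      (fun a _ => Finset.mem_range.2 (by have := hle a; rw [hrank] at this; omega)) ℓ

theorem exists_sq_mul [Finite F] {a b : F} (ha : a ≠ 0) (h : IsSquare a ↔ IsSquare b) :
    ∃ s : F, b = s ^ 2 * a := by
  by_cases hsa : IsSquare a
  · obtain ⟨t, ht⟩ := h.1 hsa
    obtain ⟨r, hr⟩ := hsa
    have hr0 : r ≠ 0 := fun h0 => ha (by rw [hr, h0, mul_zero])
    exact ⟨t / r, by rw [hr, ht]; field_simp⟩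
  · have hsb : ¬ IsSquare b := fun hb => hsa (h.2 hb)
    obtain ⟨r, hr⟩ := Cfsg.Agent.ClassicalGeometry.SymmNormalForm.isSquare_div_of_not hsa hsb
    refine ⟨r / a, ?_⟩
    field_simp
    linear_combination hr

/-- **Unipotent isometries of the same type are equivalent.** -/
theorem HasU.exists_isometry [Finite F] (h2 : (2 : F) ≠ 0) {V' : Type*} [AddCommGroup V'] [Module F V']
    {B : V →ₗ[F] V →ₗ[F] F} {B' : V' →ₗ[F] V' →ₗ[F] F}
    (hsym : ∀ u v, B u v = - B v u) (hnd : ∀ u, (∀ v, B u v = 0) → u = 0)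
    (hsym' : ∀ u v, B' u v = - B' v u) (hnd' : ∀ u, (∀ v, B' u v = 0) → u = 0)
    {g : Module.End F V} {g' : Module.End F V'} (hg : ∀ u v, B (g u) (g v) = B u v)
    (hg' : ∀ u v, B' (g' u) (g' v) = B' u v) {m : ℕ → ℕ} {s : ℕ → Bool} (H : HasU B g m s) (H' : HasU B' g' m s) :
    ∃ e : V ≃ₗ[F] V', (∀ u v, B' (e u) (e v) = B u v) ∧ ∀ v, e (g v) = g' (e v) := by
  obtain ⟨N, hc, ι, _, _, ℓ, S, x, hx, hm, hs⟩ := H
  obtain ⟨N', hc', ι', _, _, ℓ', S', x', hx', hm', hs'⟩ := H'
  have hP := pair B hsym hnd (skew_of_isometry (f := fun u v => B u v) h2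
    (fun x x' y => by rw [map_add, LinearMap.add_apply]) (fun x y y' => by rw [map_add]) hg hc)
  have hP' := pair B' hsym' hnd' (skew_of_isometry (f := fun u v => B' u v) h2
    (fun x x' y => by rw [map_add, LinearMap.add_apply]) (fun x y y' => by rw [map_add]) hg' hc')
  have hη : (-1 : F) ≠ 0 := by simp
  have hcard : ∀ i, Fintype.card {a // ℓ a = i} = Fintype.card {a // ℓ' a = i} := by
    intro i; rw [hm, hm']
  obtain ⟨e, he, heN⟩ := exists_isometry_of_blocks hP hP' hη hx hx' (by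
    intro i hi
    have h3 := block_symm hP hx i
    have h3' := block_symm hP' hx' i
    rcases Nat.even_or_odd i with hev | hodd
    swap
    · rw [hodd.neg_one_pow, neg_one_smul] at h3 h3'
      exact cg_alt h2 h3 h3' (hx.block_isUnit i) (hx'.block_isUnit i) (hcard i)
    · rw [hev.neg_one_pow, one_smul] at h3 h3'
      have hiff : IsSquare (S.toSquareBlock ℓ i).det ↔ IsSquare (S'.toSquareBlock ℓ' i).det := by
        have h5 := (hs i).symm.trans (hs' i)
        constructor
        · intro h6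
          by_contra h7
          exact (h5.2 ⟨hev, h7⟩).2 h6
        · intro h6
          by_contra h7
          exact (h5.1 ⟨hev, h7⟩).2 h6
      obtain ⟨c, hc⟩ := exists_sq_mul (F := F) (a := (S.toSquareBlock ℓ i).det) (b := (S'.toSquareBlock ℓ' i).det)
          ((Matrix.isUnit_iff_isUnit_det _).1 (hx.block_isUnit i)).ne_zero hiff
      exact cg_symm h2 h3 h3' (hx.block_isUnit i) (hx'.block_isUnit i) (hcard i) hc)
  refine ⟨e, he, ?_⟩
  have hsurj : ∀ v : V, ∃ w, w - N w = v := by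
    intro v
    refine ⟨(2 : F)⁻¹ • (g + 1) v, ?_⟩
    have h1 := congrArg (fun T : Module.End F V => T v) hc.mul_add
    have h3 : (g + 1) v - N ((g + 1) v) = (2 : F) • v := by
      have h4 : ((2 : Module.End F V)) v = (2 : F) • v := by
        rw [← one_add_one_eq_two, ← one_add_one_eq_two, LinearMap.add_apply, Module.End.one_apply, add_smul, one_smul]
      rw [← h4]
      exact h1
    rw [map_smul, ← smul_sub, h3, smul_smul, inv_mul_cancel₀ h2, one_smul]
  intro v
  obtain ⟨w, rfl⟩ := hsurj v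
  have h5 : g (w - N w) = w + N w := congrArg (fun T : Module.End F V => T w) hc.mul
  have h6 : g' (e w - N' (e w)) = e w + N' (e w) := congrArg (fun T : Module.End F V' => T (e w)) hc'.mul
  rw [h5, map_add, map_sub, heN, h6]

end Cfsg.Agent.H159.SkUnip
end

-- part: H159/SDat
section
/-!
# Combinatorial data of conjugacy classes of symplectic groups in odd characteristic

`SDat F` : for an isometry `g` of a nondegenerate alternating space over the finite field `F` of odd
characteristic: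
* `f j` : (product of the irreducible polynomials `≠ X ∓ 1` occurring with exponent exactly `j`), a palindromic
  polynomial without root `±1`;
* `a e j` : number of Jordan blocks of size `j` for the eigenvalue `1` (`e = true`) or `-1` (`e = false`);
* `s e j` : sign (square class of the discriminant of the Gram block) for `j` even.
`Ok N D` : `D` is a normal form of total dimension `N`.
-/

set_option autoImplicit false

namespace Cfsg.Agent.H159

open Polynomial

/-- the data -/
structure SDat (F : Type*) [Field F] where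
  /-- the part without eigenvalues `±1` -/
  f : ℕ → F[X]
  /-- number of Jordan blocks of size `j` for the eigenvalue `1` (`true`), `-1` (`false`) -/
  a : Bool → ℕ → ℕ
  /-- signs -/
  s : Bool → ℕ → Bool

/-- normal forms of dimension `N` -/
structure SDat.Ok {F : Type*} [Field F] (N : ℕ) (D : SDat F) : Prop where
  monic : ∀ j, (D.f j).Monic
  pal : ∀ j, (D.f j).reverse = D.f j
  one : ∀ j, (D.f j).eval 1 ≠ 0
  neg_one : ∀ j, (D.f j).eval (-1) ≠ 0
  even : ∀ j, Even (D.f j).natDegree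
  zero : D.f 0 = 1 ∧ ∀ e, D.a e 0 = 0
  big : ∀ j, N < j → D.f j = 1 ∧ ∀ e, D.a e j = 0
  a_even : ∀ e j, Odd j → Even (D.a e j)
  s_imp : ∀ e j, D.s e j = true → Even j ∧ 0 < D.a e j
  size : ∑ j ∈ Finset.range (N + 1), j * ((D.f j).natDegree + D.a true j + D.a false j) = N

end Cfsg.Agent.H159
end

-- part: H159/SkGlue
section
/-!
# Orthogonal decomposition of an isometry of an alternating form (odd characteristic)

The symplectic version of `H169/OddGlue.lean`.
-/

set_option autoImplicit false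

namespace Cfsg.Agent.H159.SkGlue

open Module Cfsg.Agent.H159.SkUnip Polynomial
open Cfsg.Agent.H169.OddGlue (res coe_res bres bres_apply coe_pow coe_pow_neg sum_extend OSum)

section Basic

variable {F : Type*} [Field F] {V : Type*} [AddCommGroup V] [Module F V] {V' : Type*} [AddCommGroup V'] [Module F V']

variable {B : V →ₗ[F] V →ₗ[F] F} {g : V ≃ₗ[F] V} {U W : Submodule F V}
  {B' : V' →ₗ[F] V' →ₗ[F] F} {g' : V' ≃ₗ[F] V'} {U' W' : Submodule F V'}

theorem swap (hs : ∀ u v, B u v = - B v u) (h : OSum B g U W) : OSum B g W U where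
  compl := h.compl.symm
  orth := fun u hu w hw => by rw [hs, h.orth w hw u hu, neg_zero]
  invU := h.invW
  invW := h.invU

/-- gluing isometries -/
theorem glue [FiniteDimensional F V] [FiniteDimensional F V'] (hs : ∀ u v, B u v = - B v u)
    (hs' : ∀ u v, B' u v = - B' v u) (h : OSum B g U W) (h' : OSum B' g' U' W')
    (e₁ : U ≃ₗ[F] U') (he₁ : ∀ u v, bres B' U' (e₁ u) (e₁ v) = bres B U u v)
    (hg₁ : ∀ u, e₁ (res g U h.invU u) = res g' U' h'.invU (e₁ u))
    (e₂ : W ≃ₗ[F] W') (he₂ : ∀ u v, bres B' W' (e₂ u) (e₂ v) = bres B W u v)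
    (hg₂ : ∀ u, e₂ (res g W h.invW u) = res g' W' h'.invW (e₂ u)) :
    ∃ e : V ≃ₗ[F] V', (∀ u v, B' (e u) (e v) = B u v) ∧ ∀ v, e (g v) = g' (e v) := by
  let e : V ≃ₗ[F] V' := (Submodule.prodEquivOfIsCompl U W h.compl).symm ≪≫ₗ (e₁.prodCongr e₂) ≪≫ₗ
    Submodule.prodEquivOfIsCompl U' W' h'.compl
  have he : ∀ (u : U) (w : W), e ((u : V) + w) = (e₁ u : V') + e₂ w := by
    intro u w
    have h1 : (Submodule.prodEquivOfIsCompl U W h.compl).symm ((u : V) + w) = (u, w) := by
      rw [LinearEquiv.symm_apply_eq]; rfl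
    change Submodule.prodEquivOfIsCompl U' W' h'.compl ((e₁.prodCongr e₂)
      ((Submodule.prodEquivOfIsCompl U W h.compl).symm ((u : V) + w))) = _
    rw [h1]; rfl
  refine ⟨e, ?_, ?_⟩
  · intro x y
    obtain ⟨a, ha, b, hb, rfl⟩ := h.exists_add x
    obtain ⟨c, hc, d, hd, rfl⟩ := h.exists_add y
    have h1 := he ⟨a, ha⟩ ⟨b, hb⟩
    have h2 := he ⟨c, hc⟩ ⟨d, hd⟩
    simp only at h1 h2
    rw [h1, h2]
    simp only [map_add, LinearMap.add_apply]
    have h3 := he₁ ⟨a, ha⟩ ⟨c, hc⟩
    have h4 := he₂ ⟨b, hb⟩ ⟨d, hd⟩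
    simp only [bres_apply] at h3 h4
    rw [h3, h4, h.orth a ha d hd, hs b c, h.orth c hc b hb, h'.orth _ (e₁ ⟨a, ha⟩).2 _ (e₂ ⟨d, hd⟩).2,
      hs' (e₂ ⟨b, hb⟩ : V') (e₁ ⟨c, hc⟩ : V'), h'.orth _ (e₁ ⟨c, hc⟩).2 _ (e₂ ⟨b, hb⟩).2]
  · intro x
    obtain ⟨a, ha, b, hb, rfl⟩ := h.exists_add x
    have h1 := he ⟨a, ha⟩ ⟨b, hb⟩
    have h2 := he ⟨g a, h.invU a ha⟩ ⟨g b, h.invW b hb⟩
    simp only at h1 h2
    rw [map_add, h1, h2, map_add]
    have h3 := congrArg Subtype.val (hg₁ ⟨a, ha⟩)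
    have h4 := congrArg Subtype.val (hg₂ ⟨b, hb⟩)
    rw [coe_res] at h3 h4
    rw [← h3, ← h4]
    rfl

/-- the eigenvalue `c = ± 1` splits off orthogonally -/
theorem exists_osum [FiniteDimensional F V] (B : V →ₗ[F] V →ₗ[F] F) (hs : ∀ u v, B u v = - B v u) (g : V ≃ₗ[F] V)
    (hg : ∀ u v, B (g u) (g v) = B u v) (c : F) (hc : c * c = 1) :
    ∃ U W : Submodule F V, OSum B g U W ∧ (∃ p : ℕ, ∀ u ∈ U, ((g.toLinearMap - c • (1 : Module.End F V)) ^ p) u = 0) ∧
      ∀ w ∈ W, g w = c • w → w = 0 := by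
  let T : Module.End F V := g.toLinearMap - c • (1 : Module.End F V)
  obtain ⟨n, h0, hn⟩ := ((Filter.eventually_ge_atTop 1).and T.eventually_isCompl_ker_pow_range_pow).exists
  have hT : ∀ v, T v = g v - c • v := fun v => rfl
  have hcomm : Commute g.toLinearMap T := by
    apply Commute.sub_right (Commute.refl _)
    exact (Commute.one_right _).smul_right c
  have hcomm' : ∀ (p : ℕ) (v : V), (T ^ p) (g v) = g ((T ^ p) v) := by
    intro p v
    have h1 := congrArg (fun S : Module.End F V => S v) ((hcomm.pow_right p).eq)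
    exact h1.symm
  have hadj : ∀ (p : ℕ) (x y : V), B ((T ^ p) x) ((g.toLinearMap ^ p : Module.End F V) y) = (-c) ^ p * B x ((T ^ p) y) := by
    intro p
    induction p with
    | zero => intro x y; simp
    | succ p ih =>
      intro x y
      have h1 : ∀ a b : V, B (T a) (g b) = -c * B a (T b) := by
        intro a b
        rw [hT, hT, map_sub, LinearMap.sub_apply, map_smul, LinearMap.smul_apply, hg, map_sub, map_smul, smul_eq_mul,
          smul_eq_mul]
        linear_combination (- B a b) * hc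
      have e1 : (T ^ (p + 1)) x = T ((T ^ p) x) := by rw [pow_succ', Module.End.mul_apply]
      have e2 : (g.toLinearMap ^ (p + 1) : Module.End F V) y = g ((g.toLinearMap ^ p : Module.End F V) y) := by
        rw [pow_succ', Module.End.mul_apply]; rfl
      have e3 : (T ^ (p + 1)) y = (T ^ p) (T y) := by rw [pow_succ, Module.End.mul_apply]
      have h2 : T ((g.toLinearMap ^ p : Module.End F V) y) = (g.toLinearMap ^ p : Module.End F V) (T y) := by
        have h3 := congrArg (fun S : Module.End F V => S y) ((hcomm.pow_left p).eq)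
        exact h3.symm
      rw [e1, e2, e3, h1, h2, ih, pow_succ]
      ring
  have hinv : ∀ u ∈ LinearMap.ker (T ^ n), g u ∈ LinearMap.ker (T ^ n) := by
    intro u hu
    rw [LinearMap.mem_ker] at hu ⊢
    rw [hcomm', hu, map_zero]
  have hsurj : ∀ p : ℕ, ∀ u ∈ LinearMap.ker (T ^ n), ∃ v ∈ LinearMap.ker (T ^ n),
      (g.toLinearMap ^ p : Module.End F V) v = u := by
    intro p
    induction p with
    | zero => intro u hu; exact ⟨u, hu, by simp⟩
    | succ p ih =>
      intro u hu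
      obtain ⟨w, hw⟩ := (res g (LinearMap.ker (T ^ n)) hinv).surjective ⟨u, hu⟩
      obtain ⟨v, hv, hvw⟩ := ih w w.2
      refine ⟨v, hv, ?_⟩
      rw [pow_succ', Module.End.mul_apply, hvw]
      exact congrArg Subtype.val hw
  refine ⟨LinearMap.ker (T ^ n), LinearMap.range (T ^ n), ⟨hn, ?_, hinv, ?_⟩, ⟨n, fun u hu => hu⟩, ?_⟩
  · rintro u hu _ ⟨x, rfl⟩
    obtain ⟨v, hv, rfl⟩ := hsurj n u hu
    rw [hs, hadj, LinearMap.mem_ker.1 hv, map_zero, mul_zero, neg_zero]
  · rintro _ ⟨v, rfl⟩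
    exact ⟨g v, hcomm' n v⟩
  · intro w hw hgw
    have h1 : T w = 0 := by rw [hT, hgw, sub_self]
    have h2 : w ∈ LinearMap.ker (T ^ n) := by
      rw [LinearMap.mem_ker, show n = (n - 1) + 1 by omega, pow_succ, Module.End.mul_apply, h1, map_zero]
    exact Submodule.disjoint_def.1 hn.disjoint w h2 hw

end Basic


section Types

open Cfsg.Agent.H171 (typ)

variable {F : Type*} [Field F] {V : Type*} [AddCommGroup V] [Module F V] [FiniteDimensional F V]
  {V' : Type*} [AddCommGroup V'] [Module F V'] [FiniteDimensional F V']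

/-- the type, no eigenvalue `1` -/
def HasM (B : V →ₗ[F] V →ₗ[F] F) (g : V ≃ₗ[F] V) (m : ℕ → ℕ) (s : ℕ → Bool) (f : ℕ → F[X]) : Prop :=
  ∃ (U W : Submodule F V) (h : OSum B g U W),
    HasU (bres B U) (-(res g U h.invU).toLinearMap) m s ∧ (∀ w ∈ W, g (g w) = w → w = 0) ∧
      ∀ j, typ (res g W h.invW).toLinearMap j = f j

/-- the type of an isometry -/
def HasO (B : V →ₗ[F] V →ₗ[F] F) (g : V ≃ₗ[F] V) (D : SDat F) : Prop :=
  ∃ (U W : Submodule F V) (h : OSum B g U W),
    HasU (bres B U) (res g U h.invU).toLinearMap (D.a true) (D.s true) ∧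
      HasM (bres B W) (res g W h.invW) (D.a false) (D.s false) D.f

variable {B : V →ₗ[F] V →ₗ[F] F} {g : V ≃ₗ[F] V} {B' : V' →ₗ[F] V' →ₗ[F] F} {g' : V' ≃ₗ[F] V'}

theorem HasM.exists_isometry [Finite F] (h2 : (2 : F) ≠ 0) (hsym : ∀ u v, B u v = - B v u)
    (hnd : ∀ u, (∀ v, B u v = 0) → u = 0) (hsym' : ∀ u v, B' u v = - B' v u)
    (hnd' : ∀ u, (∀ v, B' u v = 0) → u = 0) (hg : ∀ u v, B (g u) (g v) = B u v)
    (hg' : ∀ u v, B' (g' u) (g' v) = B' u v) {m : ℕ → ℕ} {s : ℕ → Bool} {f : ℕ → F[X]}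
    (H : HasM B g m s f) (H' : HasM B' g' m s f) :
    ∃ e : V ≃ₗ[F] V', (∀ u v, B' (e u) (e v) = B u v) ∧ ∀ v, e (g v) = g' (e v) := by
  obtain ⟨U, W, h, hU, hW, hf⟩ := H
  obtain ⟨U', W', h', hU', hW', hf'⟩ := H'
  obtain ⟨e₁, he₁, hg₁⟩ := hU.exists_isometry h2 (B := bres B U) (B' := bres B' U')
    (fun u v => hsym u v) (h.nondeg hnd) (fun u v => hsym' u v) (h'.nondeg hnd')
    (fun u v => by
      rw [LinearMap.neg_apply, LinearMap.neg_apply, map_neg, map_neg, LinearMap.neg_apply, neg_neg]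
      exact hg u v)
    (fun u v => by
      rw [LinearMap.neg_apply, LinearMap.neg_apply, map_neg, map_neg, LinearMap.neg_apply, neg_neg]
      exact hg' u v) hU'
  obtain ⟨x, hx⟩ := Cfsg.Agent.H171.exists_equiv_of_typ_eq (T := (res g W h.invW).toLinearMap)
    (U := (res g' W' h'.invW).toLinearMap) (fun j => by rw [hf, hf'])
  obtain ⟨e₂, hg₂, he₂⟩ := Cfsg.Agent.H193.InvForm.exists_isometry (bres B W) (bres B' W') (-1)
    ((swap hsym h).nondeg hnd) ((swap hsym' h').nondeg hnd') (fun u v => by rw [neg_one_mul]; exact hsym v u)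
    (fun u v => by rw [neg_one_mul]; exact hsym' v u) (res g W h.invW) (res g' W' h'.invW) (fun u v => hg u v)
    (fun u v => hg' u v) (fun v hv => Subtype.ext (hW v v.2 (congrArg Subtype.val hv))) x hx
  refine glue hsym hsym' h h' e₁ he₁ (fun u => ?_) e₂ he₂ hg₂
  have h3 := hg₁ u
  rw [LinearMap.neg_apply, LinearMap.neg_apply, map_neg, neg_inj] at h3
  exact h3

/-- **Isometries of the same type are equivalent.** -/
theorem HasO.exists_isometry [Finite F] (h2 : (2 : F) ≠ 0) (hsym : ∀ u v, B u v = - B v u)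
    (hnd : ∀ u, (∀ v, B u v = 0) → u = 0) (hsym' : ∀ u v, B' u v = - B' v u)
    (hnd' : ∀ u, (∀ v, B' u v = 0) → u = 0) (hg : ∀ u v, B (g u) (g v) = B u v)
    (hg' : ∀ u v, B' (g' u) (g' v) = B' u v) {D : SDat F} (H : HasO B g D) (H' : HasO B' g' D) :
    ∃ e : V ≃ₗ[F] V', (∀ u v, B' (e u) (e v) = B u v) ∧ ∀ v, e (g v) = g' (e v) := by
  obtain ⟨U, W, h, hU, hW⟩ := H
  obtain ⟨U', W', h', hU', hW'⟩ := H'
  obtain ⟨e₁, he₁, hg₁⟩ := hU.exists_isometry h2 (B := bres B U) (B' := bres B' U')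
    (fun u v => hsym u v) (h.nondeg hnd) (fun u v => hsym' u v) (h'.nondeg hnd')
    (fun u v => hg u v) (fun u v => hg' u v) hU'
  obtain ⟨e₂, he₂, hg₂⟩ := hW.exists_isometry h2 (B := bres B W) (B' := bres B' W') (fun u v => hsym u v) ((swap hsym h).nondeg hnd)
    (fun u v => hsym' u v) ((swap hsym' h').nondeg hnd') (fun u v => hg u v) (fun u v => hg' u v) hW'
  exact glue hsym hsym' h h' e₁ he₁ hg₁ e₂ he₂ hg₂


end Types

section Exists

open Cfsg.Agent.H171 (typ typ_pal typ_even typ_eval_ne typ_zero typ_big sum_typ)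

universe u

variable {F : Type*} [Field F] {V : Type u} [AddCommGroup V] [Module F V] [FiniteDimensional F V]
  {B : V →ₗ[F] V →ₗ[F] F} {g : V ≃ₗ[F] V}

theorem exists_hasM [Finite F] (h2 : (2 : F) ≠ 0) (hsym : ∀ u v, B u v = - B v u)
    (hnd : ∀ u, (∀ v, B u v = 0) → u = 0) (hg : ∀ u v, B (g u) (g v) = B u v) (h1 : ∀ v, g v = v → v = 0) :
    ∃ (m : ℕ → ℕ) (s : ℕ → Bool) (f : ℕ → F[X]), HasM B g m s f ∧ m 0 = 0 ∧ (∀ i, Odd i → Even (m i)) ∧
      (∀ i, s i = true → Even i ∧ 0 < m i) ∧ (∀ i, finrank F V < i → m i = 0 ∧ f i = 1) ∧ f 0 = 1 ∧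
      (∀ j, (f j).Monic ∧ (f j).reverse = f j ∧ (f j).eval 1 ≠ 0 ∧ (f j).eval (-1) ≠ 0 ∧ Even (f j).natDegree) ∧
      ∀ n, finrank F V ≤ n → ∑ j ∈ Finset.range (n + 1), j * ((f j).natDegree + m j) = finrank F V := by
  obtain ⟨U, W, h, ⟨p, hp⟩, hW⟩ := exists_osum B hsym g hg (-1) (by ring)
  have hU : ∀ u v, bres B U ((-(res g U h.invU).toLinearMap) u) ((-(res g U h.invU).toLinearMap) v) = bres B U u v := by
    intro u v
    rw [LinearMap.neg_apply, LinearMap.neg_apply, map_neg, map_neg, LinearMap.neg_apply, neg_neg]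
    exact hg u v
  have hW1 : ∀ w : W, res g W h.invW w = w → w = 0 := fun w hw => Subtype.ext (h1 w (congrArg Subtype.val hw))
  have hW2 : ∀ w : W, res g W h.invW w = -w → w = 0 := fun w hw =>
    Subtype.ext (hW w w.2 (by rw [neg_one_smul]; exact congrArg Subtype.val hw))
  obtain ⟨m, s, H, h3, h4, h5, h6, h7⟩ := exists_hasU h2 (bres B U) (fun u v => hsym u v) (h.nondeg hnd)
    (-(res g U h.invU).toLinearMap) hU (p := p) (by
      apply LinearMap.ext
      intro u
      apply Subtype.ext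
      rw [coe_pow_neg, hp u u.2, smul_zero]
      rfl)
  have hr := h.finrank
  refine ⟨m, s, fun j => typ (res g W h.invW).toLinearMap j, ⟨U, W, h, H, ?_, fun j => rfl⟩, h3, h4, h5, ?_,
    typ_zero _, ?_, ?_⟩
  · intro w hw hgg
    have h8 : g w - w = 0 := by
      apply hW _ (W.sub_mem (h.invW w hw) hw)
      rw [map_sub, hgg, neg_one_smul]
      abel
    exact h1 w (sub_eq_zero.1 h8)
  · intro i hi
    exact ⟨h6 i (by omega), typ_big _ (by omega)⟩
  · intro j
    have h8 := typ_pal (bres B W) ((swap hsym h).nondeg hnd) (res g W h.invW) (fun u v => hg u v) hW1 j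
    refine ⟨h8.1, h8.2, ?_, ?_, ?_⟩
    · exact typ_eval_ne (fun v hv => hW1 v (by rw [one_smul] at hv; exact hv)) j
    · exact typ_eval_ne (fun v hv => hW2 v (by rw [neg_one_smul] at hv; exact hv)) j
    · exact typ_even (bres B W) ((swap hsym h).nondeg hnd) (res g W h.invW) (fun u v => hg u v) hW1 hW2 j
  · intro n hn
    have h8 := sum_extend (n := n) h6 (by omega) h7
    have h9 := sum_typ (res g W h.invW).toLinearMap (n := n) (by omega)
    simp only [mul_add, Finset.sum_add_distrib]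
    rw [h8, h9]
    omega

/-- **Every isometry has a type.** -/
theorem exists_hasO [Finite F] (h2 : (2 : F) ≠ 0) (hsym : ∀ u v, B u v = - B v u)
    (hnd : ∀ u, (∀ v, B u v = 0) → u = 0) (hg : ∀ u v, B (g u) (g v) = B u v) {N : ℕ} (hN : finrank F V = N) :
    ∃ D : SDat F, D.Ok N ∧ HasO B g D := by
  obtain ⟨U, W, h, ⟨p, hp⟩, hW⟩ := exists_osum B hsym g hg 1 (by ring)
  have hr := h.finrank
  obtain ⟨m, s, H, h3, h4, h5, h6, h7⟩ := exists_hasU h2 (bres B U) (fun u v => hsym u v) (h.nondeg hnd)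
    (res g U h.invU).toLinearMap (fun u v => hg u v) (p := p) (by
      have h8 : ((res g U h.invU).toLinearMap - 1 : Module.End F U) =
          ((res g U h.invU).toLinearMap - (1 : F) • (1 : Module.End F U)) := by
        rw [one_smul]
      rw [h8]
      ext u
      rw [Cfsg.Agent.H169.OddGlue.coe_pow, hp u u.2]
      rfl)
  obtain ⟨m', s', f, H', k1, k2, k3, k4, k5, k6, k7⟩ := exists_hasM h2 (B := bres B W) (g := res g W h.invW)
    (fun u v => hsym u v) ((swap hsym h).nondeg hnd) (fun u v => hg u v)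
    (fun w hw => Subtype.ext (hW w w.2 (by rw [one_smul]; exact congrArg Subtype.val hw)))
  refine ⟨⟨f, fun e => if e = true then m else m', fun e => if e = true then s else s'⟩,
    ⟨fun j => (k6 j).1, fun j => (k6 j).2.1, fun j => (k6 j).2.2.1, fun j => (k6 j).2.2.2.1, fun j => (k6 j).2.2.2.2,
    ⟨k5, ?_⟩, ?_, ?_, ?_, ?_⟩, ?_⟩
  · rintro (_ | _)
    · exact k1
    · exact h3
  · intro j hj
    refine ⟨(k4 j (by omega)).2, ?_⟩
    rintro (_ | _)
    · exact (k4 j (by omega)).1
    · exact h6 j (by omega)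
  · rintro (_ | _) j hj
    · exact k2 j hj
    · exact h4 j hj
  · rintro (_ | _) j hj
    · exact k3 j hj
    · exact h5 j hj
  · have h8 := sum_extend (n := N) h6 (by omega) h7
    have h9 := k7 N (by omega)
    have h10 : ∀ j, j * ((f j).natDegree + m j + m' j) = j * ((f j).natDegree + m' j) + j * m j := by
      intro j; ring
    change ∑ j ∈ Finset.range (N + 1), j * ((f j).natDegree + m j + m' j) = N
    simp only [h10, Finset.sum_add_distrib]
    rw [h8, h9]
    omega
  · exact ⟨U, W, h, H, H'⟩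

end Exists

end Cfsg.Agent.H159.SkGlue
end

-- part: H151/SpCount
section
/-! # Counting the data of the classes of `Sp_2n(q)`, `q` odd (helper151)

The data are the pairs `(f, T)` of a tuple `(f_k)` of monic palindromic polynomials of even degree and a tuple `(T_k)` of subsets
of `Fin 4` with `∑ k (deg f_k / 2 + |T_k|) = n`.  `card_data_le`: their number is at most `(54/5) q^n` for `q ≥ 3`.
-/

set_option autoImplicit false

namespace Cfsg.Agent.H151.SpCount

open Polynomial Finset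

/-! ### Palindromic polynomials -/

variable (F : Type*) [Field F]

/-- monic palindromic polynomials of degree `2 * m` -/
def Pal (m : ℕ) : Set F[X] :=
  {f | f.Monic ∧ f.natDegree = 2 * m ∧ ∀ i, i ≤ 2 * m → f.coeff i = f.coeff (2 * m - i)}

variable {F}

/-- the coefficients `1, ..., m` -/
def pcoord (m : ℕ) (f : Pal F m) : Fin m → F := fun i => f.1.coeff (i + 1)

theorem pcoord_injective (m : ℕ) : Function.Injective (pcoord (F := F) m) := by
  rintro ⟨f, hf1, hf2, hf3⟩ ⟨g, hg1, hg2, hg3⟩ h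
  apply Subtype.ext
  have hlow : ∀ i, i ≤ m → f.coeff i = g.coeff i := by
    intro i hi
    rcases Nat.eq_zero_or_pos i with rfl | hi0
    · rw [hf3 0 (Nat.zero_le _), hg3 0 (Nat.zero_le _), Nat.sub_zero]
      have e1 : f.coeff (2 * m) = 1 := by rw [← hf2]; exact hf1
      have e2 : g.coeff (2 * m) = 1 := by rw [← hg2]; exact hg1
      rw [e1, e2]
    · have := congrFun h ⟨i - 1, by omega⟩
      simp only [pcoord] at this
      rwa [Nat.sub_add_cancel hi0] at this
  ext i
  change f.coeff i = g.coeff i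
  by_cases hi : i ≤ m
  · exact hlow i hi
  · by_cases hi2 : i ≤ 2 * m
    · rw [hf3 i hi2, hg3 i hi2]
      exact hlow _ (by omega)
    · rw [coeff_eq_zero_of_natDegree_lt (by omega), coeff_eq_zero_of_natDegree_lt (by omega)]

instance finite_Pal [Finite F] (m : ℕ) : Finite (Pal F m) := Finite.of_injective _ (pcoord_injective m)

theorem card_Pal_le [Fintype F] (m : ℕ) : Nat.card (Pal F m) ≤ Fintype.card F ^ m := by
  classical
  have := Nat.card_le_card_of_injective _ (pcoord_injective (F := F) m)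
  rwa [Nat.card_fun, Nat.card_fin, Nat.card_eq_fintype_card (α := F)] at this

/-! ### Tuples of palindromic polynomials -/

/-- number of tuples -/
def t (q : ℕ) : ℕ → ℕ → ℕ
  | 0, N => if N = 0 then 1 else 0
  | r + 1, N => ∑ a ∈ range (N / (r + 1) + 1), q ^ a * t q r (N - a * (r + 1))

variable (F)

/-- tuples `(g_1, ..., g_r)` of palindromic polynomials with `∑ k (deg g_k) / 2 = N` -/
def Y (r N : ℕ) : Set (ℕ → F[X]) :=
  {g | (∀ k, ∃ m, g k ∈ Pal F m) ∧ (∀ k, k = 0 ∨ r < k → g k = 1) ∧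
    ∑ k ∈ range (r + 1), k * ((g k).natDegree / 2) = N}

variable {F}

theorem mem_Pal_half {f : F[X]} (h : ∃ m, f ∈ Pal F m) : f ∈ Pal F (f.natDegree / 2) := by
  obtain ⟨m, hm⟩ := h
  have : f.natDegree / 2 = m := by rw [hm.2.1]; omega
  rwa [this]

theorem one_mem_Pal : (1 : F[X]) ∈ Pal F 0 := by
  refine ⟨monic_one, natDegree_one, fun i hi => ?_⟩
  have : i = 0 := by omega
  subst this
  rfl

/-- splitting off the last polynomial -/
noncomputable def split (r N : ℕ) (g : Y F (r + 1) N) :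
    Σ a : Fin (N / (r + 1) + 1), Pal F a × Y F r (N - a * (r + 1)) :=
  have h1 : (g.1 (r + 1)).natDegree / 2 * (r + 1) ≤ N := by
    have h := g.2.2.2
    rw [sum_range_succ, mul_comm (r + 1)] at h
    omega
  ⟨⟨(g.1 (r + 1)).natDegree / 2, Nat.lt_succ_of_le ((Nat.le_div_iff_mul_le (Nat.succ_pos r)).2 h1)⟩,
    ⟨g.1 (r + 1), mem_Pal_half (g.2.1 (r + 1))⟩,
    ⟨Function.update g.1 (r + 1) 1, by
      refine ⟨fun k => ?_, fun k hk => ?_, ?_⟩
      · rcases eq_or_ne k (r + 1) with rfl | hk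
        · rw [Function.update_self]; exact ⟨0, one_mem_Pal⟩
        · rw [Function.update_of_ne hk]; exact g.2.1 k
      · rcases eq_or_ne k (r + 1) with rfl | hk'
        · rw [Function.update_self]
        · rw [Function.update_of_ne hk']; exact g.2.2.1 k (by omega)
      · have h := g.2.2.2
        rw [sum_range_succ] at h
        have h2 : ∑ k ∈ range (r + 1), k * ((Function.update g.1 (r + 1) 1 k).natDegree / 2) =
            ∑ k ∈ range (r + 1), k * ((g.1 k).natDegree / 2) := by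
          refine sum_congr rfl fun k hk => ?_
          rw [Function.update_of_ne]
          have := mem_range.1 hk
          omega
        rw [h2]
        simp only
        rw [mul_comm ((g.1 (r + 1)).natDegree / 2)]
        omega⟩⟩

theorem split_injective (r N : ℕ) : Function.Injective (split (F := F) r N) := by
  have key : ∀ g : Y F (r + 1) N, g.1 = Function.update (split r N g).2.2.1 (r + 1) (split r N g).2.1.1 := by
    intro g
    funext k
    rcases eq_or_ne k (r + 1) with rfl | hk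
    · rw [Function.update_self]; rfl
    · rw [Function.update_of_ne hk]
      change g.1 k = Function.update g.1 (r + 1) 1 k
      rw [Function.update_of_ne hk]
  intro g h hgh
  apply Subtype.ext
  rw [key g, key h, hgh]

theorem Y_zero_subset (N : ℕ) : Y F 0 N ⊆ {fun _ => 1} := by
  rintro g ⟨-, h, -⟩
  rw [Set.mem_singleton_iff]
  funext k
  exact h k (by omega)

theorem Y_zero_empty {N : ℕ} (hN : N ≠ 0) : Y F 0 N = ∅ := by
  rw [Set.eq_empty_iff_forall_notMem]
  rintro g ⟨-, -, h⟩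
  simp at h
  exact hN h.symm

instance finite_Y [Finite F] (r : ℕ) : ∀ N : ℕ, Finite (Y F r N) := by
  induction r with
  | zero => intro N; exact ((Set.finite_singleton _).subset (Y_zero_subset N)).to_subtype
  | succ r ih =>
    intro N
    have := ih
    exact Finite.of_injective _ (split_injective r N)

theorem card_Y_le [Fintype F] (r : ℕ) : ∀ N : ℕ, Nat.card (Y F r N) ≤ t (Fintype.card F) r N := by
  classical
  induction r with
  | zero =>
    intro N
    rw [t]
    split_ifs with h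
    · have : Nat.card (Y F 0 N) ≤ Nat.card ({fun _ => 1} : Set (ℕ → F[X])) :=
        Nat.card_le_card_of_injective (Set.inclusion (Y_zero_subset N)) (Set.inclusion_injective _)
      simpa using this
    · rw [Y_zero_empty h]; simp
  | succ r ih =>
    intro N
    refine (Nat.card_le_card_of_injective _ (split_injective r N)).trans ?_
    rw [Nat.card_sigma, t, ← Fin.sum_univ_eq_sum_range (fun a => Fintype.card F ^ a * t (Fintype.card F) r (N - a * (r + 1)))]
    refine sum_le_sum fun a _ => ?_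
    rw [Nat.card_prod]
    exact Nat.mul_le_mul (card_Pal_le _) (ih _)

/-! ### Analytic bounds -/

theorem geom_le {y : ℝ} (h0 : 0 ≤ y) (h1 : y < 1) (n : ℕ) : ∑ i ∈ range n, y ^ i ≤ 1 / (1 - y) := by
  rw [le_div_iff₀ (by linarith)]
  have := geom_sum_mul_neg y n
  rw [this]
  have : 0 ≤ y ^ n := pow_nonneg h0 n
  linarith

/-- the product `∏_{1 ≤ j < r} 1 / (1 - q^(-j))` -/
noncomputable def cst (x : ℝ) (r : ℕ) : ℝ := ∏ j ∈ range r, 1 / (1 - x ^ (j + 1))

theorem cst_pos {x : ℝ} (h0 : 0 ≤ x) (h1 : x < 1) (r : ℕ) : 0 < cst x r := by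
  refine prod_pos fun j _ => ?_
  have : x ^ (j + 1) < 1 := pow_lt_one₀ h0 h1 (by omega)
  exact div_pos one_pos (by linarith)

theorem one_le_factor {x : ℝ} (h0 : 0 ≤ x) (h1 : x < 1) (j : ℕ) : 1 ≤ 1 / (1 - x ^ (j + 1)) := by
  have h2 : x ^ (j + 1) < 1 := pow_lt_one₀ h0 h1 (by omega)
  have h3 : 0 ≤ x ^ (j + 1) := pow_nonneg h0 _
  rw [le_div_iff₀ (by linarith)]
  linarith

theorem t_le {q : ℕ} (hq : 2 ≤ q) (r : ℕ) : ∀ N : ℕ, (t q (r + 1) N : ℝ) ≤ cst (1 / q) r * (q : ℝ) ^ N := by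
  have hq0 : (0 : ℝ) < q := by positivity
  have hq2 : (2 : ℝ) ≤ q := by exact_mod_cast hq
  have hx0 : (0 : ℝ) ≤ 1 / q := by positivity
  have hx1 : (1 / q : ℝ) < 1 := by rw [div_lt_one hq0]; linarith
  induction r with
  | zero =>
    intro N
    rw [cst, range_zero, prod_empty, one_mul]
    have h1 : t q (0 + 1) N = q ^ N := by
      rw [t]
      simp only [zero_add, Nat.div_one, mul_one]
      rw [sum_eq_single N]
      · simp [t]
      · intro b hb hbN
        rw [mem_range] at hb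
        rw [t, if_neg (by omega), mul_zero]
      · intro h; exact absurd (mem_range.2 (by omega)) h
    rw [h1]
    push_cast
    exact le_rfl
  | succ r ih =>
    intro N
    rw [t]
    push_cast
    have h1 : ∀ a ∈ range (N / (r + 1 + 1) + 1),
        (q : ℝ) ^ a * (t q (r + 1) (N - a * (r + 1 + 1)) : ℝ) ≤
          cst (1 / q) r * (q : ℝ) ^ N * ((1 / q : ℝ) ^ (r + 1)) ^ a := by
      intro a ha
      rw [mem_range] at ha
      have h2 : a * (r + 1 + 1) ≤ N := by
        have := Nat.le_of_lt_succ ha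
        exact (Nat.le_div_iff_mul_le (by omega)).1 this
      calc (q : ℝ) ^ a * (t q (r + 1) (N - a * (r + 1 + 1)) : ℝ)
          ≤ (q : ℝ) ^ a * (cst (1 / q) r * (q : ℝ) ^ (N - a * (r + 1 + 1))) := by
            exact mul_le_mul_of_nonneg_left (ih _) (by positivity)
        _ = _ := by
            have h3 : (q : ℝ) ^ N = (q : ℝ) ^ (N - a * (r + 1 + 1)) * (q : ℝ) ^ (a * (r + 1 + 1)) := by
              rw [← pow_add, Nat.sub_add_cancel h2]
            have h4 : (q : ℝ) ^ (a * (r + 1 + 1)) * ((1 / q : ℝ) ^ (r + 1)) ^ a = (q : ℝ) ^ a := by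
              rw [← pow_mul, one_div, inv_pow, mul_comm a, add_mul (r + 1) 1, pow_add, one_mul, mul_comm (_ ^ ((r + 1) * a)),
                mul_assoc, mul_inv_cancel₀ (by positivity), mul_one]
            rw [h3, ← h4]
            ring
    refine (sum_le_sum h1).trans ?_
    rw [← mul_sum]
    have h5 : (1 / q : ℝ) ^ (r + 1) < 1 := pow_lt_one₀ hx0 hx1 (by omega)
    have h6 := geom_le (pow_nonneg hx0 (r + 1)) h5 (N / (r + 1 + 1) + 1)
    have h7 : cst (1 / q) (r + 1) = cst (1 / q) r * (1 / (1 - (1 / q : ℝ) ^ (r + 1))) := by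
      rw [cst, prod_range_succ, ← cst]
    rw [h7]
    calc cst (1 / q) r * (q : ℝ) ^ N * ∑ i ∈ range (N / (r + 1 + 1) + 1), ((1 / q : ℝ) ^ (r + 1)) ^ i
        ≤ cst (1 / q) r * (q : ℝ) ^ N * (1 / (1 - (1 / q : ℝ) ^ (r + 1))) := by
          refine mul_le_mul_of_nonneg_left h6 ?_
          exact mul_nonneg (cst_pos hx0 hx1 r).le (by positivity)
      _ = _ := by ring

theorem cst_mono {x : ℝ} (h0 : 0 ≤ x) (h1 : x < 1) (r : ℕ) : cst x r ≤ cst x (r + 1) := by
  have h7 : cst x (r + 1) = cst x r * (1 / (1 - x ^ (r + 1))) := by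
    rw [cst, prod_range_succ, ← cst]
  rw [h7]
  exact le_mul_of_one_le_right (cst_pos h0 h1 r).le (one_le_factor h0 h1 r)

theorem t_le' {q : ℕ} (hq : 2 ≤ q) (r : ℕ) (N : ℕ) : (t q r N : ℝ) ≤ cst (1 / q) r * (q : ℝ) ^ N := by
  have hq0 : (0 : ℝ) < q := by positivity
  have hq2 : (2 : ℝ) ≤ q := by exact_mod_cast hq
  have hx0 : (0 : ℝ) ≤ 1 / q := by positivity
  have hx1 : (1 / q : ℝ) < 1 := by rw [div_lt_one hq0]; linarith
  rcases r with _ | r
  · rw [cst, range_zero, prod_empty, one_mul, t]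
    split_ifs with h
    · rw [h, pow_zero]; exact_mod_cast le_rfl
    · push_cast; positivity
  · exact (t_le hq r N).trans (mul_le_mul_of_nonneg_right (cst_mono hx0 hx1 r) (by positivity))

/-- the product `∏_{1 ≤ j ≤ n} (1 + x^j)^4 / (1 - x^j)` -/
noncomputable def pp (x : ℝ) (n : ℕ) : ℝ := ∏ j ∈ range n, ((1 + x ^ (j + 1)) ^ 4 * (1 / (1 - x ^ (j + 1))))

theorem pp_pos {x : ℝ} (h0 : 0 ≤ x) (h1 : x < 1) (r : ℕ) : 0 < pp x r := by
  refine prod_pos fun j _ => ?_
  have h2 : x ^ (j + 1) < 1 := pow_lt_one₀ h0 h1 (by omega)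
  have h3 : 0 ≤ x ^ (j + 1) := pow_nonneg h0 _
  exact mul_pos (by positivity) (div_pos one_pos (by linarith))

theorem pp_mono {x : ℝ} (h0 : 0 ≤ x) (h1 : x < 1) (r : ℕ) : pp x r ≤ pp x (r + 1) := by
  have h7 : pp x (r + 1) = pp x r * ((1 + x ^ (r + 1)) ^ 4 * (1 / (1 - x ^ (r + 1)))) := by
    rw [pp, prod_range_succ, ← pp]
  rw [h7]
  refine le_mul_of_one_le_right (pp_pos h0 h1 r).le ?_
  have h3 : 0 ≤ x ^ (r + 1) := pow_nonneg h0 _
  exact one_le_mul_of_one_le_of_one_le (one_le_pow₀ (by linarith)) (one_le_factor h0 h1 r)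

theorem pp_le_of_le {x y : ℝ} (h0 : 0 ≤ x) (hxy : x ≤ y) (hy : y < 1) (n : ℕ) : pp x n ≤ pp y n := by
  refine prod_le_prod (fun j _ => ?_) fun j _ => ?_
  · have h2 : x ^ (j + 1) < 1 := pow_lt_one₀ h0 (hxy.trans_lt hy) (by omega)
    have h3 : 0 ≤ x ^ (j + 1) := pow_nonneg h0 _
    exact mul_nonneg (by positivity) (div_pos one_pos (by linarith)).le
  · have h2 : y ^ (j + 1) < 1 := pow_lt_one₀ (h0.trans hxy) hy (by omega)
    have h3 : 0 ≤ x ^ (j + 1) := pow_nonneg h0 _
    have h4 : x ^ (j + 1) ≤ y ^ (j + 1) := pow_le_pow_left₀ h0 hxy _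
    refine mul_le_mul (pow_le_pow_left₀ (by linarith) (by linarith) 4) ?_ (div_pos one_pos (by linarith)).le
      (by positivity)
    exact one_div_le_one_div_of_le (by linarith) (by linarith)

theorem pp_third_five : pp (1 / 3) 5 ≤ 54 / 5 * (1 - 3 * (1 / 3) ^ 5) := by
  rw [pp]
  simp only [prod_range_succ, range_zero, prod_empty]
  norm_num

theorem pp_third_ge (n : ℕ) : pp (1 / 3) (n + 5) ≤ 54 / 5 * (1 - 3 * (1 / 3) ^ (n + 5)) := by
  induction n with
  | zero => exact pp_third_five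
  | succ n ih =>
    have h7 : pp (1 / 3) (n + 1 + 5) = pp (1 / 3) (n + 5) * ((1 + (1 / 3) ^ (n + 5 + 1)) ^ 4 *
        (1 / (1 - (1 / 3) ^ (n + 5 + 1)))) := by
      rw [show n + 1 + 5 = n + 5 + 1 by ring, pp, prod_range_succ, ← pp]
    rw [h7]
    set y : ℝ := (1 / 3) ^ (n + 5 + 1) with hy
    have h8 : ((1 : ℝ) / 3) ^ (n + 5) = 3 * y := by rw [hy, pow_succ]; ring
    rw [h8] at ih
    have hy0 : 0 ≤ y := by rw [hy]; positivity
    have hy1 : y ≤ 1 / 729 := by
      rw [hy]
      have : ((1 : ℝ) / 3) ^ (n + 5 + 1) ≤ (1 / 3) ^ 6 :=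
        pow_le_pow_of_le_one (by norm_num) (by norm_num) (by omega)
      refine this.trans (by norm_num)
    have h10 : (1 - 3 * (3 * y)) * (1 + y) ^ 4 ≤ (1 - 3 * y) * (1 - y) := by
      nlinarith [pow_nonneg hy0 2, pow_nonneg hy0 3, pow_nonneg hy0 4, pow_nonneg hy0 5]
    have h11 : 0 < 1 - y := by linarith
    have h12 : 0 ≤ (1 + y) ^ 4 * (1 / (1 - y)) := by positivity
    calc pp (1 / 3) (n + 5) * ((1 + y) ^ 4 * (1 / (1 - y)))
        ≤ 54 / 5 * (1 - 3 * (3 * y)) * ((1 + y) ^ 4 * (1 / (1 - y))) := mul_le_mul_of_nonneg_right ih h12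
      _ = 54 / 5 * ((1 - 3 * (3 * y)) * (1 + y) ^ 4) / (1 - y) := by ring
      _ ≤ 54 / 5 * ((1 - 3 * y) * (1 - y)) / (1 - y) := by
          apply div_le_div_of_nonneg_right _ h11.le
          linarith
      _ = _ := by field_simp

theorem pp_third_le (n : ℕ) : pp (1 / 3) n ≤ 54 / 5 := by
  have h1 : pp (1 / 3) n ≤ pp (1 / 3) (n + 5) := by
    have h : ∀ k, pp (1 / 3) n ≤ pp (1 / 3) (n + k) := by
      intro k
      induction k with
      | zero => exact le_rfl
      | succ k ih => exact ih.trans (pp_mono (by norm_num) (by norm_num) (n + k))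
    exact h 5
  refine (h1.trans (pp_third_ge n)).trans ?_
  have : (0 : ℝ) ≤ (1 / 3) ^ (n + 5) := by positivity
  linarith

/-! ### The data -/

variable (F)

/-- the weight of a tuple of subsets -/
def wt (n : ℕ) (T : Fin n → Finset (Fin 4)) : ℕ := ∑ i, (i + 1) * (T i).card

/-- **the data of a class** -/
def Data (n : ℕ) : Set ((ℕ → F[X]) × (Fin n → Finset (Fin 4))) :=
  {z | (∀ k, ∃ m, z.1 k ∈ Pal F m) ∧ (∀ k, k = 0 ∨ n < k → z.1 k = 1) ∧
    ∑ k ∈ range (n + 1), k * ((z.1 k).natDegree / 2) + wt n z.2 = n}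

variable {F}

theorem sum_wt (x : ℝ) (n : ℕ) : ∑ T : Fin n → Finset (Fin 4), x ^ wt n T = ∏ j ∈ range n, (1 + x ^ (j + 1)) ^ 4 := by
  classical
  have h1 : ∀ j : ℕ, (1 + x ^ (j + 1)) ^ 4 = ∑ S : Finset (Fin 4), x ^ ((j + 1) * S.card) := by
    intro j
    rw [add_comm, ← Fin.sum_pow_mul_eq_add_pow]
    refine sum_congr rfl fun S _ => ?_
    rw [one_pow, mul_one, pow_mul]
  rw [← Fin.prod_univ_eq_prod_range (fun j => (1 + x ^ (j + 1)) ^ 4)]
  simp_rw [h1]
  rw [Finset.prod_univ_sum]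
  rw [Fintype.piFinset_univ]
  refine sum_congr rfl fun T _ => ?_
  rw [wt, prod_pow_eq_pow_sum]

/-- the data as a sigma type -/
def toSigma (n : ℕ) (z : Data F n) : Σ T : {T : Fin n → Finset (Fin 4) // wt n T ≤ n}, Y F n (n - wt n T.1) :=
  ⟨⟨z.1.2, by have := z.2.2.2; omega⟩, ⟨z.1.1, z.2.1, z.2.2.1, by have := z.2.2.2; simp only; omega⟩⟩

theorem toSigma_injective (n : ℕ) : Function.Injective (toSigma (F := F) n) := by
  intro z z' h
  have h1 : z.1.2 = z'.1.2 := congrArg (fun w => w.1.1) h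
  have h2 : z.1.1 = z'.1.1 := congrArg (fun w : (Σ T : {T : Fin n → Finset (Fin 4) // wt n T ≤ n}, Y F n (n - wt n T.1)) =>
    w.2.1) h
  exact Subtype.ext (Prod.ext h2 h1)

instance finite_Data [Finite F] (n : ℕ) : Finite (Data F n) := Finite.of_injective _ (toSigma_injective n)

/-- **The number of data.** -/
theorem card_data_le [Fintype F] (hF : 3 ≤ Fintype.card F) (n : ℕ) :
    5 * Nat.card (Data F n) ≤ 54 * Fintype.card F ^ n := by
  classical
  set q := Fintype.card F with hq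
  have hq0 : (0 : ℝ) < q := by positivity
  have hq3 : (3 : ℝ) ≤ q := by exact_mod_cast hF
  have hx0 : (0 : ℝ) ≤ 1 / q := by positivity
  have hx1 : (1 / q : ℝ) < 1 := by rw [div_lt_one hq0]; linarith
  have hx3 : (1 / q : ℝ) ≤ 1 / 3 := one_div_le_one_div_of_le (by norm_num) hq3
  have h1 : Nat.card (Data F n) ≤ ∑ T : {T : Fin n → Finset (Fin 4) // wt n T ≤ n}, t q n (n - wt n T.1) := by
    refine (Nat.card_le_card_of_injective _ (toSigma_injective n)).trans ?_
    rw [Nat.card_sigma]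
    exact sum_le_sum fun T _ => card_Y_le n _
  have h2 : (Nat.card (Data F n) : ℝ) ≤ q ^ n * pp (1 / q) n := by
    calc (Nat.card (Data F n) : ℝ)
        ≤ ∑ T : {T : Fin n → Finset (Fin 4) // wt n T ≤ n}, (t q n (n - wt n T.1) : ℝ) := by exact_mod_cast h1
      _ ≤ ∑ T : {T : Fin n → Finset (Fin 4) // wt n T ≤ n}, cst (1 / q) n * q ^ n * (1 / q : ℝ) ^ (wt n T.1) := by
          refine sum_le_sum fun T _ => ?_
          refine (t_le' (by omega) n _).trans (le_of_eq ?_)
          have h3 : (q : ℝ) ^ n = (q : ℝ) ^ (n - wt n T.1) * (q : ℝ) ^ (wt n T.1) := by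
            rw [← pow_add, Nat.sub_add_cancel T.2]
          rw [h3, one_div, inv_pow, mul_assoc, mul_assoc, mul_inv_cancel₀ (by positivity), mul_one]
      _ = ∑ T ∈ univ.filter (fun T : Fin n → Finset (Fin 4) => wt n T ≤ n), cst (1 / q) n * q ^ n * (1 / q : ℝ) ^ (wt n T) := by
          rw [← sum_subtype_eq_sum_filter]
          simp
      _ ≤ ∑ T : Fin n → Finset (Fin 4), cst (1 / q) n * q ^ n * (1 / q : ℝ) ^ (wt n T) := by
          refine sum_le_sum_of_subset_of_nonneg (filter_subset _ _) fun T _ _ => ?_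
          exact mul_nonneg (mul_nonneg (cst_pos hx0 hx1 n).le (by positivity)) (by positivity)
      _ = q ^ n * pp (1 / q) n := by
          rw [← mul_sum, sum_wt, pp, prod_mul_distrib, cst]
          ring
  have h3 : (Nat.card (Data F n) : ℝ) ≤ q ^ n * (54 / 5) := by
    refine h2.trans (mul_le_mul_of_nonneg_left ?_ (by positivity))
    exact (pp_le_of_le hx0 hx3 (by norm_num) n).trans (pp_third_le n)
  have h4 : (5 * Nat.card (Data F n) : ℝ) ≤ 54 * q ^ n := by linarith
  exact_mod_cast h4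

end Cfsg.Agent.H151.SpCount
end

-- part: H159/SpData
section
/-!
The normal forms `SDat` of isometries of alternating forms (odd characteristic) are encoded by the
data counted in `H151/SpCount.lean`.
-/

set_option autoImplicit false

namespace Cfsg.Agent.H159

open Polynomial

variable {F : Type*} [Field F]

/-- half of the even part of the multiplicity -/
def SDat.b (D : SDat F) (e : Bool) (j : ℕ) : ℕ :=
  D.a e j / 2 - (if Even (D.a e j) ∧ D.s e j = true then 1 else 0)

/-- the rest of the multiplicity -/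
def SDat.r (D : SDat F) (e : Bool) (j : ℕ) : ℕ :=
  (if D.s e j = true then 1 else 0) + (if (Even (D.a e j) ↔ D.s e j = true) then 1 else 0)

theorem SDat.Ok.mult {N : ℕ} {D : SDat F} (h : D.Ok N) (e : Bool) (j : ℕ) :
    2 * D.b e j + D.r e j = D.a e j := by
  unfold SDat.b SDat.r
  have h1 := h.s_imp e j
  rcases Nat.even_or_odd (D.a e j) with he | ho
  · obtain ⟨k, hk⟩ := he
    cases hs : D.s e j
    · simp [hk]
      omega
    · obtain ⟨-, h2⟩ := h1 hs
      simp [hk]
      omega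
  · have hne : ¬ Even (D.a e j) := Nat.not_even_iff_odd.2 ho
    obtain ⟨k, hk⟩ := ho
    cases hs : D.s e j
    · simp [hne]; omega
    · simp [hne]; omega

theorem SDat.Ok.r_odd {N : ℕ} {D : SDat F} (h : D.Ok N) (e : Bool) {j : ℕ} (hj : Odd j) :
    D.r e j = 0 ∧ D.s e j = false := by
  have h1 : D.s e j = false := by
    cases hs : D.s e j
    · rfl
    · exact absurd (h.s_imp e j hs).1 (Nat.not_even_iff_odd.2 hj)
  refine ⟨?_, h1⟩
  unfold SDat.r
  have h2 := h.a_even e j hj
  simp [h1, h2]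

theorem SDat.Ok.r_zero {N : ℕ} {D : SDat F} (h : D.Ok N) (e : Bool) {j : ℕ} (hj : D.a e j = 0) :
    D.b e j = 0 ∧ D.s e j = false := by
  have h1 : D.s e j = false := by
    cases hs : D.s e j
    · rfl
    · have := (h.s_imp e j hs).2
      omega
  refine ⟨?_, h1⟩
  unfold SDat.b
  simp [hj]

/-- the polynomial -/
noncomputable def SDat.g (D : SDat F) (j : ℕ) : F[X] :=
  D.f j * (X - C 1) ^ (2 * D.b true j) * (X - C (-1)) ^ (2 * D.b false j)

/-- the indicator of the subset -/
def SDat.tb (D : SDat F) (j : ℕ) : Fin 4 → Bool :=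
  ![D.s true j, decide (Even (D.a true j)) == D.s true j, D.s false j,
    decide (Even (D.a false j)) == D.s false j]

/-- the subset -/
def SDat.t (D : SDat F) (j : ℕ) : Finset (Fin 4) :=
  Finset.univ.filter fun k => D.tb j k = true

theorem beq_iff (P : Prop) [Decidable P] (s : Bool) :
    ((decide P == s) = true) ↔ (P ↔ s = true) := by
  by_cases h : P <;> cases s <;> simp [h]

theorem SDat.card_t (D : SDat F) (j : ℕ) : (D.t j).card = D.r true j + D.r false j := by
  unfold SDat.t SDat.r SDat.tb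
  rw [Finset.card_filter, Fin.sum_univ_four]
  simp only [Matrix.cons_val, beq_iff]
  rw [add_assoc, add_assoc, ← add_assoc]
  congr

theorem SDat.t_inj {D D' : SDat F} {j : ℕ} (h : D.t j = D'.t j) (e : Bool) :
    D.s e j = D'.s e j ∧ (Even (D.a e j) ↔ Even (D'.a e j)) := by
  have h1 : ∀ k, (D.tb j k = true ↔ D'.tb j k = true) := by
    intro k
    have h2 : k ∈ D.t j ↔ k ∈ D'.t j := by rw [h]
    simpa [SDat.t] using h2
  have h0 := h1 0
  have h2 := h1 1
  have h3 := h1 2
  have h4 := h1 3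
  simp only [SDat.tb, Matrix.cons_val] at h0 h2 h3 h4
  cases e
  · have h5 : D.s false j = D'.s false j := Bool.eq_iff_iff.2 h3
    refine ⟨h5, ?_⟩
    rw [← h5, beq_iff, beq_iff] at h4
    by_cases hp : Even (D.a false j) <;> by_cases hp' : Even (D'.a false j) <;>
      cases hs : D.s false j <;> simp [hp, hp', hs] at h4 ⊢
  · have h5 : D.s true j = D'.s true j := Bool.eq_iff_iff.2 h0
    refine ⟨h5, ?_⟩
    rw [← h5, beq_iff, beq_iff] at h2
    by_cases hp : Even (D.a true j) <;> by_cases hp' : Even (D'.a true j) <;>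
      cases hs : D.s true j <;> simp [hp, hp', hs] at h2 ⊢

theorem reverse_factor (c : F) (hc : c * c = 1) (k : ℕ) :
    ((X - C c) ^ (2 * k) : F[X]).reverse = (X - C c) ^ (2 * k) := by
  have h1 : ((X - C c) ^ 2 : F[X]).reverse = (X - C c) ^ 2 := by
    rw [sq, reverse_mul_of_domain]
    have h2 : (X - C c : F[X]).reverse = - C c * (X - C c) := by
      have h3 : (X - C c : F[X]).natDegree = 1 := natDegree_X_sub_C c
      unfold reverse
      rw [h3, reflect_sub, reflect_C]
      have h4 : reflect 1 (X : F[X]) = 1 := by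
        have := reflect_monomial (R := F) 1 1
        rw [pow_one] at this
        rw [this, revAt_le le_rfl, Nat.sub_self, pow_zero]
      rw [h4, pow_one, mul_sub, neg_mul, neg_mul, ← C_mul, hc, C_1]
      ring
    rw [h2]
    have : (-C c * (X - C c)) * (-C c * (X - C c)) = C (c * c) * ((X - C c) * (X - C c)) := by
      rw [C_mul]; ring
    rw [this, hc, C_1, one_mul]
  induction k with
  | zero => rw [mul_zero, pow_zero, ← C_1, reverse_C]
  | succ k ih => rw [mul_add, pow_add, reverse_mul_of_domain, ih, mul_one, h1]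

theorem SDat.Ok.g_monic {N : ℕ} {D : SDat F} (h : D.Ok N) (j : ℕ) : (D.g j).Monic :=
  ((h.monic j).mul ((monic_X_sub_C 1).pow _)).mul ((monic_X_sub_C (-1)).pow _)

theorem SDat.Ok.g_reverse {N : ℕ} {D : SDat F} (h : D.Ok N) (j : ℕ) : (D.g j).reverse = D.g j := by
  unfold SDat.g
  rw [reverse_mul_of_domain, reverse_mul_of_domain, h.pal, reverse_factor 1 (by ring),
    reverse_factor (-1) (by ring)]

theorem SDat.Ok.g_natDegree {N : ℕ} {D : SDat F} (h : D.Ok N) (j : ℕ) :
    (D.g j).natDegree = (D.f j).natDegree + 2 * D.b true j + 2 * D.b false j := by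
  unfold SDat.g
  rw [((h.monic j).mul ((monic_X_sub_C (1 : F)).pow _)).natDegree_mul ((monic_X_sub_C (-1 : F)).pow _),
    (h.monic j).natDegree_mul ((monic_X_sub_C (1 : F)).pow _), (monic_X_sub_C (1 : F)).natDegree_pow,
    (monic_X_sub_C (-1 : F)).natDegree_pow, natDegree_X_sub_C, natDegree_X_sub_C, mul_one, mul_one]

theorem SDat.Ok.g_even {N : ℕ} {D : SDat F} (h : D.Ok N) (j : ℕ) : Even (D.g j).natDegree := by
  rw [h.g_natDegree]
  exact ((h.even j).add (even_two_mul _)).add (even_two_mul _)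

theorem SDat.Ok.g_pal {N : ℕ} {D : SDat F} (h : D.Ok N) (j : ℕ) :
    ∃ m, D.g j ∈ Cfsg.Agent.H151.SpCount.Pal F m := by
  obtain ⟨m, hm⟩ := h.g_even j
  refine ⟨m, h.g_monic j, by omega, ?_⟩
  intro i hi
  have h1 := coeff_reverse (D.g j) i
  rw [h.g_reverse, revAt_le (by omega)] at h1
  rw [h1]
  congr 1
  omega

/-- the total degree of block size `j` -/
theorem SDat.Ok.g_add {N : ℕ} {D : SDat F} (h : D.Ok N) (j : ℕ) :
    (D.g j).natDegree + (D.r true j + D.r false j) = (D.f j).natDegree + D.a true j + D.a false j := by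
  rw [h.g_natDegree, ← h.mult true j, ← h.mult false j]
  ring

theorem sum_even_terms (φ : ℕ → ℕ) (n : ℕ) (h0 : φ 0 = 0) (h : ∀ j, Odd j → φ j = 0) :
    ∑ j ∈ Finset.range (2 * n + 1), φ j = ∑ i ∈ Finset.range n, φ (2 * (i + 1)) := by
  induction n with
  | zero => simp [h0]
  | succ n ih =>
    rw [show 2 * (n + 1) + 1 = 2 * n + 1 + 1 + 1 by ring, Finset.sum_range_succ, Finset.sum_range_succ,
      ih, Finset.sum_range_succ, h (2 * n + 1) ⟨n, rfl⟩, add_zero]
    rfl

theorem SDat.Ok.g_big {n : ℕ} {D : SDat F} (h : D.Ok (2 * n)) {j : ℕ} (hj : n < j) : D.g j = 1 := by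
  have h1 : (D.g j).natDegree = 0 := by
    by_cases hj2 : 2 * n < j
    · obtain ⟨h2, h3⟩ := h.big j hj2
      have h4 := h.g_add j
      rw [h2, h3, h3, natDegree_one] at h4
      omega
    · have h2 : j * ((D.f j).natDegree + D.a true j + D.a false j) ≤ 2 * n := by
        rw [← h.size]
        exact Finset.single_le_sum (f := fun j => j * ((D.f j).natDegree + D.a true j + D.a false j))
          (fun _ _ => Nat.zero_le _) (Finset.mem_range.2 (by omega))
      rw [← h.g_add j, mul_add] at h2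
      obtain ⟨m, hm⟩ := h.g_even j
      rcases Nat.eq_zero_or_pos m with rfl | hm0
      · rw [hm]
      · exfalso
        have h3 : j * 2 ≤ j * (D.g j).natDegree := Nat.mul_le_mul_left j (by omega)
        omega
  exact (h.g_monic j).natDegree_eq_zero.1 h1

theorem SDat.Ok.g_zero {n : ℕ} {D : SDat F} (h : D.Ok (2 * n)) : D.g 0 = 1 := by
  obtain ⟨h2, h3⟩ := h.zero
  have h4 := h.g_add 0
  rw [h2, h3, h3, natDegree_one] at h4
  exact (h.g_monic 0).natDegree_eq_zero.1 (by omega)

/-- the encoding -/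
noncomputable def SDat.enc (n : ℕ) (D : SDat F) : (ℕ → F[X]) × (Fin n → Finset (Fin 4)) :=
  (D.g, fun i => D.t (2 * (i + 1)))

theorem SDat.Ok.enc_mem {n : ℕ} {D : SDat F} (h : D.Ok (2 * n)) :
    D.enc n ∈ Cfsg.Agent.H151.SpCount.Data F n := by
  refine ⟨h.g_pal, ?_, ?_⟩
  · rintro k (rfl | hk)
    · exact h.g_zero
    · exact h.g_big hk
  · have h1 := h.size
    have h2 : ∀ j ∈ Finset.range (2 * n + 1), j * ((D.f j).natDegree + D.a true j + D.a false j) =
        j * (D.g j).natDegree + j * (D.r true j + D.r false j) := by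
      intro j _
      rw [← h.g_add j, mul_add]
    rw [Finset.sum_congr rfl h2, Finset.sum_add_distrib] at h1
    have h3 : ∑ j ∈ Finset.range (2 * n + 1), j * (D.g j).natDegree =
        2 * ∑ j ∈ Finset.range (n + 1), j * ((D.g j).natDegree / 2) := by
      rw [Finset.mul_sum, ← Finset.sum_subset (Finset.range_mono (show n + 1 ≤ 2 * n + 1 by omega))]
      · refine Finset.sum_congr rfl fun j _ => ?_
        obtain ⟨m, hm⟩ := h.g_even j
        rw [hm, show (m + m) / 2 = m by omega]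
        ring
      · intro j _ hj
        rw [h.g_big (by rw [Finset.mem_range] at hj; omega), natDegree_one, mul_zero]
    have h4 : ∑ j ∈ Finset.range (2 * n + 1), j * (D.r true j + D.r false j) =
        2 * Cfsg.Agent.H151.SpCount.wt n (fun i => D.t (2 * ((i : ℕ) + 1))) := by
      rw [sum_even_terms _ n (by rw [zero_mul]) (fun j hj => by
        rw [(h.r_odd true hj).1, (h.r_odd false hj).1, add_zero, mul_zero])]
      unfold Cfsg.Agent.H151.SpCount.wt
      rw [Finset.mul_sum, Finset.sum_range]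
      refine Finset.sum_congr rfl fun i _ => ?_
      rw [SDat.card_t]
      ring
    rw [h3, h4] at h1
    show ∑ k ∈ Finset.range (n + 1), k * ((D.g k).natDegree / 2) +
      Cfsg.Agent.H151.SpCount.wt n (fun i => D.t (2 * ((i : ℕ) + 1))) = n
    omega

theorem factor_inj (h2 : (2 : F) ≠ 0) {f f' : F[X]} {b c b' c' : ℕ} (h1 : f.eval 1 ≠ 0)
    (h1' : f'.eval 1 ≠ 0) (hm1 : f.eval (-1) ≠ 0) (hm1' : f'.eval (-1) ≠ 0)
    (h : f * (X - C 1) ^ (2 * b) * (X - C (-1)) ^ (2 * c) =
      f' * (X - C 1) ^ (2 * b') * (X - C (-1)) ^ (2 * c')) : f = f' ∧ b = b' ∧ c = c' := by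
  have hne : (1 : F) ≠ -1 := fun h => h2 (by
    have : (1 : F) + 1 = 0 := by nth_rewrite 2 [h]; ring
    rw [← one_add_one_eq_two]; exact this)
  have hf0 : f ≠ 0 := by rintro rfl; simp at h1
  have hf0' : f' ≠ 0 := by rintro rfl; simp at h1'
  have key : ∀ (f : F[X]) (b c : ℕ), f ≠ 0 → f.eval 1 ≠ 0 → 
      (f * (X - C (1 : F)) ^ (2 * b) * (X - C (-1)) ^ (2 * c)).rootMultiplicity 1 = 2 * b := by
    intro f b c hf0 h1
    have hX1 : (X - C (1 : F)) ^ (2 * b) ≠ 0 := pow_ne_zero _ (X_sub_C_ne_zero _)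
    have hX2 : (X - C (-1 : F)) ^ (2 * c) ≠ 0 := pow_ne_zero _ (X_sub_C_ne_zero _)
    rw [rootMultiplicity_mul (mul_ne_zero (mul_ne_zero hf0 hX1) hX2),
      rootMultiplicity_mul (mul_ne_zero hf0 hX1), rootMultiplicity_X_sub_C_pow,
      rootMultiplicity_eq_zero h1, rootMultiplicity_eq_zero, zero_add, add_zero]
    rw [IsRoot.def, eval_pow, eval_sub, eval_X, eval_C]
    exact pow_ne_zero _ (sub_ne_zero.2 hne)
  have hb : b = b' := by
    have h3 := congrArg (rootMultiplicity (1 : F)) h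
    rw [key f b c hf0 h1, key f' b' c' hf0' h1'] at h3
    omega
  subst hb
  have h4 : f * (X - C (-1)) ^ (2 * c) = f' * (X - C (-1)) ^ (2 * c') := by
    have hX1 : (X - C (1 : F)) ^ (2 * b) ≠ 0 := pow_ne_zero _ (X_sub_C_ne_zero _)
    apply mul_right_cancel₀ hX1
    linear_combination h
  have hc : c = c' := by
    have h3 := congrArg (rootMultiplicity (-1 : F)) h4
    have key2 : ∀ (f : F[X]) (c : ℕ), f ≠ 0 → f.eval (-1) ≠ 0 → 
        (f * (X - C (-1 : F)) ^ (2 * c)).rootMultiplicity (-1) = 2 * c := by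
      intro f c hf0 h1
      have hX2 : (X - C (-1 : F)) ^ (2 * c) ≠ 0 := pow_ne_zero _ (X_sub_C_ne_zero _)
      rw [rootMultiplicity_mul (mul_ne_zero hf0 hX2), rootMultiplicity_X_sub_C_pow,
        rootMultiplicity_eq_zero h1, zero_add]
    rw [key2 f c hf0 hm1, key2 f' c' hf0' hm1'] at h3
    omega
  subst hc
  exact ⟨mul_right_cancel₀ (pow_ne_zero _ (X_sub_C_ne_zero _)) h4, rfl, rfl⟩

theorem SDat.ext' {D D' : SDat F} (hf : D.f = D'.f) (ha : D.a = D'.a) (hs : D.s = D'.s) : D = D' := by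
  cases D; cases D'
  simp only at hf ha hs
  rw [hf, ha, hs]

theorem SDat.enc_inj (h2 : (2 : F) ≠ 0) {n : ℕ} {D D' : SDat F} (h : D.Ok (2 * n))
    (h' : D'.Ok (2 * n)) (he : D.enc n = D'.enc n) : D = D' := by
  have hg : ∀ j, D.g j = D'.g j := fun j => congrFun (congrArg Prod.fst he) j
  have ht : ∀ i : Fin n, D.t (2 * (i + 1)) = D'.t (2 * (i + 1)) := fun i =>
    congrFun (congrArg Prod.snd he) i
  have hfac : ∀ j, D.f j = D'.f j ∧ D.b true j = D'.b true j ∧ D.b false j = D'.b false j := fun j =>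
    factor_inj h2 (h.one j) (h'.one j) (h.neg_one j) (h'.neg_one j) (hg j)
  have hb : ∀ e j, D.b e j = D'.b e j := by
    intro e j
    cases e
    · exact (hfac j).2.2
    · exact (hfac j).2.1
  have hsa : ∀ e j, D.s e j = D'.s e j ∧ D.a e j = D'.a e j := by
    intro e j
    rcases Nat.even_or_odd j with hj | hj
    · by_cases hj0 : j = 0 ∨ 2 * n < j
      · have h3 : D.a e j = 0 ∧ D'.a e j = 0 := by
          rcases hj0 with rfl | hj0
          · exact ⟨h.zero.2 e, h'.zero.2 e⟩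
          · exact ⟨(h.big j hj0).2 e, (h'.big j hj0).2 e⟩
        rw [(h.r_zero e h3.1).2, (h'.r_zero e h3.2).2, h3.1, h3.2]
        exact ⟨rfl, rfl⟩
      · push Not at hj0
        obtain ⟨k, hk⟩ := hj
        obtain ⟨i, rfl⟩ : ∃ i, k = i + 1 := ⟨k - 1, by omega⟩
        have h3 := ht ⟨i, by omega⟩
        simp only at h3
        rw [show 2 * (i + 1) = j by omega] at h3
        obtain ⟨h4, h5⟩ := SDat.t_inj h3 e
        refine ⟨h4, ?_⟩
        rw [← h.mult e j, ← h'.mult e j, hb e j]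
        unfold SDat.r
        rw [h4]
        simp only [h5]
    · rw [(h.r_odd e hj).2, (h'.r_odd e hj).2, ← h.mult e j, ← h'.mult e j, (h.r_odd e hj).1,
        (h'.r_odd e hj).1, hb e j]
      exact ⟨rfl, rfl⟩
  exact SDat.ext' (funext fun j => (hfac j).1) (funext fun e => funext fun j => (hsa e j).2)
    (funext fun e => funext fun j => (hsa e j).1)

end Cfsg.Agent.H159
end

-- part: H159/SpClassCount
section
/-!
# The number of conjugacy classes of `Sp_{2n}(q)`, `q` odd: upper bound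
-/

set_option autoImplicit false

namespace Cfsg.Agent.H159.SpClassCount

open Module Matrix Cfsg.Agent.H159.SkGlue

variable {F : Type*} [Field F] {n : ℕ}

/-- the symplectic form -/
noncomputable def bf (F : Type*) [Field F] (n : ℕ) :
    (Fin n ⊕ Fin n → F) →ₗ[F] (Fin n ⊕ Fin n → F) →ₗ[F] F := Matrix.toBilin' (Matrix.J (Fin n) F)

theorem bf_apply (u v : Fin n ⊕ Fin n → F) : bf F n u v = u ⬝ᵥ (Matrix.J (Fin n) F *ᵥ v) :=
  Matrix.toBilin'_apply' _ _ _

theorem bf_symm (u v : Fin n ⊕ Fin n → F) : bf F n u v = - bf F n v u := by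
  rw [bf_apply, bf_apply, dotProduct_comm, dotProduct_mulVec v, ← mulVec_transpose,
    Matrix.J_transpose, Matrix.neg_mulVec, _root_.neg_dotProduct, neg_neg]

theorem bf_nondeg (u : Fin n ⊕ Fin n → F) (h : ∀ v, bf F n u v = 0) : u = 0 :=
  (Cfsg.Agent.H194.NilForm.nondeg_of_isUnit
    ((Matrix.isUnit_iff_isUnit_det _).2 (Matrix.isUnit_det_J (Fin n) F))).1 u h

/-- the linear automorphism -/
noncomputable def lin (A : Matrix.symplecticGroup (Fin n) F) :
    (Fin n ⊕ Fin n → F) ≃ₗ[F] (Fin n ⊕ Fin n → F) :=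
  Matrix.toLin'OfInv (M' := (A : Matrix _ _ F))
    (M := ((A⁻¹ : Matrix.symplecticGroup (Fin n) F) : Matrix _ _ F))
    (by rw [← Submonoid.coe_mul, inv_mul_cancel]; rfl)
    (by rw [← Submonoid.coe_mul, mul_inv_cancel]; rfl)

theorem lin_apply (A : Matrix.symplecticGroup (Fin n) F) (v : Fin n ⊕ Fin n → F) :
    lin A v = (A : Matrix _ _ F) *ᵥ v := Matrix.toLin'_apply _ v

theorem bf_iso (A : Matrix.symplecticGroup (Fin n) F) (u v : Fin n ⊕ Fin n → F) :
    bf F n (lin A u) (lin A v) = bf F n u v := by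
  rw [bf_apply, bf_apply, lin_apply, lin_apply, Matrix.mulVec_mulVec, ← Matrix.vecMul_transpose,
    ← Matrix.dotProduct_mulVec, Matrix.mulVec_mulVec, ← Matrix.mul_assoc,
    SymplecticGroup.mem_iff'.1 A.2]

theorem isConj_of_iso (A B : Matrix.symplecticGroup (Fin n) F)
    (z : (Fin n ⊕ Fin n → F) ≃ₗ[F] (Fin n ⊕ Fin n → F))
    (hz : ∀ u v, bf F n (z u) (z v) = bf F n u v) (hz' : ∀ v, z (lin A v) = lin B (z v)) :
    IsConj A B := by
  have hZ : ∀ v, (LinearMap.toMatrix' z.toLinearMap).mulVec v = z v :=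
    fun v => LinearMap.toMatrix'_mulVec z.toLinearMap v
  have hmem : LinearMap.toMatrix' z.toLinearMap ∈ Matrix.symplecticGroup (Fin n) F := by
    rw [SymplecticGroup.mem_iff']
    apply Matrix.toBilin'.injective
    refine LinearMap.ext fun x => LinearMap.ext fun y => ?_
    have h1 := hz x y
    rw [bf_apply, bf_apply, ← hZ, ← hZ] at h1
    rw [Matrix.toBilin'_apply', Matrix.toBilin'_apply', ← h1]
    generalize LinearMap.toMatrix' z.toLinearMap = A
    rw [← Matrix.vecMul_transpose A x, ← Matrix.dotProduct_mulVec, Matrix.mulVec_mulVec,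
      Matrix.mulVec_mulVec, Matrix.mul_assoc]
  rw [_root_.isConj_iff]
  refine ⟨⟨_, hmem⟩, ?_⟩
  rw [mul_inv_eq_iff_eq_mul]
  apply Subtype.ext
  show LinearMap.toMatrix' z.toLinearMap * (A : Matrix _ _ F) =
    (B : Matrix _ _ F) * LinearMap.toMatrix' z.toLinearMap
  apply Matrix.toLin'.injective
  apply LinearMap.ext
  intro v
  rw [Matrix.toLin'_apply, Matrix.toLin'_apply, ← Matrix.mulVec_mulVec, ← Matrix.mulVec_mulVec, hZ, hZ,
    ← lin_apply, ← lin_apply]
  exact hz' v

/-- **The upper bound for the class number.** -/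
theorem card_le [Fintype F] (h2 : (2 : F) ≠ 0) :
    Nat.card (ConjClasses (Matrix.symplecticGroup (Fin n) F)) ≤
      Nat.card (Cfsg.Agent.H151.SpCount.Data F n) := by
  classical
  have hrank : finrank F (Fin n ⊕ Fin n → F) = 2 * n := by
    rw [finrank_fintype_fun_eq_card]; simp; ring
  have h1 : ∀ A : Matrix.symplecticGroup (Fin n) F, ∃ D : SDat F, D.Ok (2 * n) ∧
      HasO (bf F n) (lin A) D := fun A =>
    exists_hasO h2 bf_symm bf_nondeg (bf_iso A) hrank
  choose D hD hA using h1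
  refine Nat.card_le_card_of_injective
    (fun c : ConjClasses (Matrix.symplecticGroup (Fin n) F) =>
      (⟨_, (hD c.exists_rep.choose).enc_mem⟩ : Cfsg.Agent.H151.SpCount.Data F n)) ?_
  intro c c' hcc
  have h4 : D c.exists_rep.choose = D c'.exists_rep.choose :=
    SDat.enc_inj h2 (hD _) (hD _) (congrArg Subtype.val hcc)
  have h5 := hA c.exists_rep.choose
  have h6 := hA c'.exists_rep.choose
  rw [← h4] at h6
  obtain ⟨z, hz, hz'⟩ := h5.exists_isometry h2 bf_symm bf_nondeg bf_symm bf_nondeg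
    (bf_iso _) (bf_iso _) h6
  have h7 := isConj_of_iso _ _ z hz hz'
  rw [← c.exists_rep.choose_spec, ← c'.exists_rep.choose_spec]
  exact ConjClasses.mk_eq_mk_iff_isConj.2 h7

end Cfsg.Agent.H159.SpClassCount
end

-- part: S2482
section
set_option autoImplicit false
open Cfsg

namespace Cfsg.Agent.S2482

/-- The number of conjugacy classes of Sp(2n,q), q odd: for F a finite field of odd order q and n ≥ 1, the number k of conjugacy classes of Sp(2n,F) satisfies q^n ≤ k ≤ 10.8·q^n. -/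
theorem result {F : Type*} [Field F] [Fintype F] (hodd : Odd (Fintype.card F)) (n : ℕ) (hn : 1 ≤ n) :
    Fintype.card F ^ n ≤ Nat.card (ConjClasses (Matrix.symplecticGroup (Fin n) F)) ∧ 5 * Nat.card (ConjClasses (Matrix.symplecticGroup (Fin n) F)) ≤ 54 * Fintype.card F ^ n := by
  have h3 : 3 ≤ Fintype.card F := by
    have h1 : 1 < Fintype.card F := Fintype.one_lt_card
    obtain ⟨k, hk⟩ := hodd
    omega
  have h2 : (2 : F) ≠ 0 := by
    intro h
    obtain ⟨p, hp⟩ := CharP.exists F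
    have hpf := CharP.char_is_prime F p
    have h4 : p ∣ 2 := (CharP.cast_eq_zero_iff F p 2).1 (by exact_mod_cast h)
    have h5 : p = 2 := (Nat.prime_dvd_prime_iff_eq hpf Nat.prime_two).1 h4
    subst h5
    obtain ⟨k, -, hk⟩ := FiniteField.card F 2
    rw [hk] at hodd
    exact absurd hodd (Nat.not_odd_iff_even.2 ((Nat.even_pow.2 ⟨even_two, k.pos.ne'⟩)))
  refine ⟨?_, ?_⟩
  · exact Cfsg.Agent.H169.SpLower.card_pow_le n
  · exact (Nat.mul_le_mul_left 5 (Cfsg.Agent.H159.SpClassCount.card_le h2)).trans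
      (Cfsg.Agent.H151.SpCount.card_data_le h3 n)

end Cfsg.Agent.S2482
end
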