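import Cfsg.Statements.S0577
import Mathlib
import Cfsg.Agent.Lib.FrattiniBasic
import Cfsg.Agent.SolvableStructure.AbelianSocle
set_option linter.all false
-- import your own Cfsg.Agent.* helpers here

set_option autoImplicit false
open Cfsg

namespace Cfsg.Agent.S0577

/-- In a nilpotent group, elements of coprime orders commute. -/
theorem commute_of_coprime_orderOf {H : Type*} [Group H] [Group.IsNilpotent H] :
    ∀ a b : H, (orderOf a).Coprime (orderOf b) → Commute a b := by
  refine Group.nilpotent_center_quotient_ind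
    (P := fun (K : Type _) [Group K] [Group.IsNilpotent K] =>
      ∀ a b : K, (orderOf a).Coprime (orderOf b) → Commute a b) H ?_ ?_
  · intro K _ _ a b _
    exact Subsingleton.elim _ _
  · intro K _ _ ih a b hab
    have h1 : Commute (QuotientGroup.mk' (Subgroup.center K) a)
        (QuotientGroup.mk' (Subgroup.center K) b) := by
      apply ih
      exact Nat.Coprime.coprime_dvd_left (orderOf_map_dvd _ a)
        (Nat.Coprime.coprime_dvd_right (orderOf_map_dvd _ b) hab)
    set c : K := a * b * a⁻¹ * b⁻¹ with hc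
    have hcz : c ∈ Subgroup.center K := by
      rw [← QuotientGroup.ker_mk' (Subgroup.center K), MonoidHom.mem_ker, hc]
      rw [map_mul, map_mul, map_mul, h1.eq, map_inv, map_inv]
      group
    have hcc : ∀ g : K, Commute c g := fun g => ((Subgroup.mem_center_iff.1 hcz) g).symm
    have hab1 : a * b * a⁻¹ = c * b := by rw [hc]; group
    have hc1 : c ^ orderOf b = 1 := by
      have h2 : (a * b * a⁻¹) ^ orderOf b = 1 := by
        rw [conj_pow, pow_orderOf_eq_one]; group
      rw [hab1, (hcc b).mul_pow, pow_orderOf_eq_one, mul_one] at h2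
      exact h2
    have hba1 : b * a⁻¹ * b⁻¹ = a⁻¹ * c := by rw [hc]; group
    have hc2 : c ^ orderOf a = 1 := by
      have h2 : (b * a⁻¹ * b⁻¹) ^ orderOf a = 1 := by
        rw [conj_pow, inv_pow, pow_orderOf_eq_one]; group
      rw [hba1, ((hcc a⁻¹).symm).mul_pow, inv_pow, pow_orderOf_eq_one, inv_one, one_mul] at h2
      exact h2
    have hcone : c = 1 := by
      have h3 : orderOf c ∣ 1 := by
        rw [← hab]
        exact Nat.dvd_gcd (orderOf_dvd_of_pow_eq_one hc2) (orderOf_dvd_of_pow_eq_one hc1)
      rwa [Nat.dvd_one, orderOf_eq_one_iff] at h3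
    rw [hcone, one_mul] at hab1
    exact mul_inv_eq_iff_eq_mul.1 hab1

/-- Let G be a finite minimal non-nilpotent group and Q a normal Sylow q-subgroup of G, and let D be the commutator subgroup of Q regarded in G (a normal subgroup). Then G modulo D is non-abelian and all its proper subgroups are abelian. -/
theorem result {G : Type*} [Group G] [Finite G] (hG : Cfsg.IsMinimalNonNilpotent G) (q : ℕ) [Fact q.Prime] (hq : q ∣ Nat.card G) (Q : Sylow q G) (hQ : (Q : Subgroup G).Normal) (D : Subgroup G) [D.Normal] (hD : D = (commutator ↥(Q : Subgroup G)).map (Q : Subgroup G).subtype) : ¬ IsMulCommutative (G ⧸ D) ∧ ∀ K : Subgroup (G ⧸ D), K ≠ ⊤ → IsMulCommutative K := by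
  obtain ⟨hnn, hprop⟩ := hG
  have hQnil : Group.IsNilpotent (Q : Subgroup G) := Q.2.isNilpotent
  have hDQ : D = ⁅(Q : Subgroup G), (Q : Subgroup G)⁆ := by
    rw [hD, Subgroup.map_subtype_commutator]
  refine ⟨?_, ?_⟩
  · -- `G ⧸ D` is not commutative, since `D ≤ Φ(G)`
    intro hcomm
    apply hnn
    have hDF : D ≤ frattini G := by
      rw [hDQ]
      exact SolvableStructure.AbelianSocle.commutator_le_frattini (Q : Subgroup G)
    have hnilq : Group.IsNilpotent (G ⧸ D) := by
      let _ : CommGroup (G ⧸ D) := { mul_comm := hcomm.is_comm.comm }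
      infer_instance
    have h1 : Group.IsNilpotent ((⊤ : Subgroup G).map (QuotientGroup.mk' D)) := by
      infer_instance
    have h2 := Lib.FrattiniBasic.isNilpotent_of_map_isNilpotent (⊤ : Subgroup G) D hDF h1
    exact (Group.isNilpotent_congr Subgroup.topEquiv).mp h2
  · -- the complement of `Q` is cyclic
    have hcop : (Nat.card (Q : Subgroup G)).Coprime (Q : Subgroup G).index :=
      Q.card_coprime_index
    obtain ⟨P, hP⟩ := Subgroup.exists_right_complement'_of_coprime hcop
    have hPcop : (Nat.card P).Coprime (Nat.card (Q : Subgroup G)) := by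
      rw [← hP.symm.index_eq_card]
      exact hcop.symm
    have hQne : (Q : Subgroup G) ≠ ⊥ := by
      intro h
      have h1 := Q.not_dvd_index
      rw [h, Subgroup.index_bot] at h1
      exact h1 hq
    have hPtop : P ≠ ⊤ := by
      intro h
      apply hQne
      have h1 := hP.disjoint
      rw [h] at h1
      exact disjoint_top.1 h1
    have hPnil : Group.IsNilpotent P := hprop P hPtop
    have hx : ∃ x : G, (Q : Subgroup G) ⊔ Subgroup.zpowers x = ⊤ := by
      by_contra hno
      push Not at hno
      have hcent : ∀ x ∈ P, ∀ y ∈ (Q : Subgroup G), Commute x y := by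
        intro x hx y hy
        have hnil := hprop _ (hno x)
        have hxm : x ∈ (Q : Subgroup G) ⊔ Subgroup.zpowers x :=
          (le_sup_right : Subgroup.zpowers x ≤ _) (Subgroup.mem_zpowers x)
        have hym : y ∈ (Q : Subgroup G) ⊔ Subgroup.zpowers x :=
          (le_sup_left : (Q : Subgroup G) ≤ _) hy
        have h1 := commute_of_coprime_orderOf
          (⟨x, hxm⟩ : ↥((Q : Subgroup G) ⊔ Subgroup.zpowers x)) ⟨y, hym⟩ (by
            rw [Subgroup.orderOf_mk, Subgroup.orderOf_mk]
            exact Nat.Coprime.coprime_dvd_left (Subgroup.orderOf_dvd_natCard P hx)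
              (Nat.Coprime.coprime_dvd_right (Subgroup.orderOf_dvd_natCard _ hy) hPcop))
        exact congrArg Subtype.val h1
      apply hnn
      let f : P × (Q : Subgroup G) →* G :=
        MonoidHom.noncommCoprod P.subtype (Q : Subgroup G).subtype
          (fun x y => hcent x x.2 y y.2)
      refine Group.nilpotent_of_surjective f ?_
      intro g
      have hg : g ∈ P ⊔ (Q : Subgroup G) := by rw [hP.symm.sup_eq_top]; trivial
      rw [Subgroup.mem_sup_of_normal_right] at hg
      obtain ⟨x, hx, y, hy, rfl⟩ := hg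
      exact ⟨(⟨x, hx⟩, ⟨y, hy⟩), rfl⟩
    obtain ⟨x, hx⟩ := hx
    have hcommQ : commutator G ≤ (Q : Subgroup G) :=
      hQ.commutator_le_of_self_sup_commutative_eq_top hx inferInstance
    intro K hK
    set H : Subgroup G := K.comap (QuotientGroup.mk' D) with hH
    have hHt : H ≠ ⊤ := by
      intro h
      apply hK
      rw [← Subgroup.map_comap_eq_self_of_surjective (QuotientGroup.mk'_surjective D) K, ← hH, h]
      exact Subgroup.map_top_of_surjective _ (QuotientGroup.mk'_surjective D)
    have hHnil : Group.IsNilpotent H := hprop H hHt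
    have hcopH : (Nat.card ((Q : Subgroup G).subgroupOf H)).Coprime
        ((Q : Subgroup G).subgroupOf H).index := by
      refine Nat.Coprime.coprime_dvd_left ?_ (Nat.Coprime.coprime_dvd_right ?_ hcop)
      · exact Subgroup.card_comap_dvd_of_injective _ _ H.subtype_injective
      · exact Subgroup.relIndex_dvd_index_of_normal _ _
    obtain ⟨R, hR⟩ := Subgroup.exists_right_complement'_of_coprime hcopH
    have hRcop : (Nat.card ((Q : Subgroup G).subgroupOf H)).Coprime (Nat.card R) := by
      rw [← hR.symm.index_eq_card]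
      exact hcopH
    have hQR : ∀ y ∈ (Q : Subgroup G).subgroupOf H, ∀ r ∈ R, Commute y r := by
      intro y hy r hr
      apply commute_of_coprime_orderOf
      exact Nat.Coprime.coprime_dvd_left (Subgroup.orderOf_dvd_natCard _ hy)
              (Nat.Coprime.coprime_dvd_right (Subgroup.orderOf_dvd_natCard _ hr) hRcop)
    have hRR : ∀ r ∈ R, ∀ s ∈ R, Commute r s := by
      intro r hr s hs
      have h1 : r * s * r⁻¹ * s⁻¹ ∈ R :=
        R.mul_mem (R.mul_mem (R.mul_mem hr hs) (R.inv_mem hr)) (R.inv_mem hs)
      have h2 : r * s * r⁻¹ * s⁻¹ ∈ (Q : Subgroup G).subgroupOf H := by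
        rw [Subgroup.mem_subgroupOf]
        apply hcommQ
        exact Subgroup.commutator_mem_commutator (Subgroup.mem_top (r : G))
          (Subgroup.mem_top (s : G))
      have h3 : r * s * r⁻¹ * s⁻¹ = 1 := by
        have := (Subgroup.disjoint_def.1 hR.disjoint) h2 h1
        exact this
      exact mul_inv_eq_iff_eq_mul.1 (mul_inv_eq_one.1 h3)
    set π : H →* G ⧸ D := (QuotientGroup.mk' D).comp H.subtype with hπ
    have hQQ : ∀ y ∈ (Q : Subgroup G).subgroupOf H, ∀ z ∈ (Q : Subgroup G).subgroupOf H,
        Commute (π y) (π z) := by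
      intro y hy z hz
      have h1 : (y : G) * z * (y : G)⁻¹ * (z : G)⁻¹ ∈ D := by
        rw [hDQ]
        exact Subgroup.commutator_mem_commutator hy hz
      have h2 : π y * π z * (π y)⁻¹ * (π z)⁻¹ = 1 := by
        have := (QuotientGroup.eq_one_iff (N := D) ((y : G) * z * (y : G)⁻¹ * (z : G)⁻¹)).2 h1
        exact this
      exact mul_inv_eq_iff_eq_mul.1 (mul_inv_eq_one.1 h2)
    refine ⟨⟨?_⟩⟩
    rintro ⟨k, hk⟩ ⟨l, hl⟩
    obtain ⟨a, rfl⟩ := QuotientGroup.mk'_surjective D k
    obtain ⟨b, rfl⟩ := QuotientGroup.mk'_surjective D l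
    have ha : (⟨a, hk⟩ : H) ∈ (Q : Subgroup G).subgroupOf H ⊔ R := by
      rw [hR.sup_eq_top]; trivial
    have hb : (⟨b, hl⟩ : H) ∈ (Q : Subgroup G).subgroupOf H ⊔ R := by
      rw [hR.sup_eq_top]; trivial
    rw [Subgroup.mem_sup_of_normal_left] at ha hb
    obtain ⟨y, hy, r, hr, hyr⟩ := ha
    obtain ⟨z, hz, s, hs, hzs⟩ := hb
    have h1 : Commute (π (y * r)) (π (z * s)) := by
      rw [map_mul, map_mul]
      exact ((hQQ y hy z hz).mul_right ((hQR y hy s hs).map π)).mul_left
        ((((hQR z hz r hr).map π).symm).mul_right ((hRR r hr s hs).map π))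
    rw [hyr, hzs] at h1
    exact Subtype.ext h1

end Cfsg.Agent.S0577
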