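import Cfsg.Statements.S4521
import Cfsg.Agent.Blocks.Over
import Cfsg.Agent.Blocks.PRegular
import Cfsg.Agent.S0943
set_option linter.all false

set_option autoImplicit false
open Cfsg

namespace Cfsg.Agent.S4521

open Cfsg.Agent.Blocks.Local Cfsg.Agent.Blocks.Basic

section Group

variable {G : Type*} [Group G] {U V : Subgroup G}

theorem normal_of_comm (hcomm : ∀ u ∈ U, ∀ v ∈ V, u * v = v * u) (hgen : U ⊔ V = ⊤) :
    U.Normal := by
  rw [← Subgroup.normalizer_eq_top_iff, eq_top_iff, ← hgen, sup_le_iff]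
  refine ⟨Subgroup.le_normalizer, fun v hv => ?_⟩
  rw [Subgroup.mem_normalizer_iff]
  intro h
  constructor
  · intro hh
    have : v * h * v⁻¹ = h := by rw [← hcomm h hh v hv]; group
    rwa [this]
  · intro hh
    have h1 := hcomm _ hh v hv
    have : h = v * h * v⁻¹ := by
      have h2 : v * h * v⁻¹ * v = v * (v * h * v⁻¹) := h1
      have h3 : v * h = v * (v * h * v⁻¹) := by
        rw [← h2]; group
      exact mul_left_cancel h3
    rwa [this]

theorem exists_mul (hcomm : ∀ u ∈ U, ∀ v ∈ V, u * v = v * u) (hgen : U ⊔ V = ⊤) (g : G) :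
    ∃ u ∈ U, ∃ v ∈ V, u * v = g := by
  have := normal_of_comm hcomm hgen
  have hg : g ∈ U ⊔ V := by rw [hgen]; trivial
  exact Subgroup.mem_sup_of_normal_left.1 hg

/-- The index of a subgroup `H` containing `V` is its relative index in `U`. -/
theorem relIndex_eq (hcomm : ∀ u ∈ U, ∀ v ∈ V, u * v = v * u) (hgen : U ⊔ V = ⊤)
    (H : Subgroup G) (hH : V ≤ H) : H.relIndex U = H.index := by
  rw [Subgroup.relIndex, Subgroup.index, Subgroup.index]
  refine Nat.card_eq_of_bijective
    (Quotient.map' (fun u : U => (u : G)) ?_ : U ⧸ H.subgroupOf U → G ⧸ H) ⟨?_, ?_⟩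
  · intro a b hab
    rw [QuotientGroup.leftRel_apply] at hab ⊢
    exact hab
  · intro a b
    induction a using Quotient.inductionOn'
    induction b using Quotient.inductionOn'
    intro h
    simp only [Quotient.map'_mk''] at h
    rw [Quotient.eq'', QuotientGroup.leftRel_apply] at h ⊢
    exact h
  · intro x
    induction x using Quotient.inductionOn'
    rename_i g
    obtain ⟨u, hu, v, hv, rfl⟩ := exists_mul hcomm hgen g
    refine ⟨Quotient.mk'' ⟨u, hu⟩, ?_⟩
    simp only [Quotient.map'_mk'']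
    rw [Quotient.eq'', QuotientGroup.leftRel_apply]
    have : u⁻¹ * (u * v) = v := by group
    rw [this]
    exact hH hv

theorem index_inf (hcomm : ∀ u ∈ U, ∀ v ∈ V, u * v = v * u) (hgen : U ⊔ V = ⊤)
    (H K : Subgroup G) (hH : V ≤ H) (hK : U ≤ K) : (H ⊓ K).index = H.index * K.index := by
  have hcomm' : ∀ v ∈ V, ∀ u ∈ U, v * u = u * v := fun v hv u hu => (hcomm u hu v hv).symm
  have hgen' : V ⊔ U = ⊤ := by rw [sup_comm]; exact hgen
  rw [← Subgroup.relIndex_mul_index (inf_le_right : H ⊓ K ≤ K), Subgroup.inf_relIndex_right]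
  congr 1
  rw [Subgroup.relIndex, Subgroup.index, Subgroup.index]
  refine Nat.card_eq_of_bijective
    (Quotient.map' (fun u : K => (u : G)) ?_ : K ⧸ H.subgroupOf K → G ⧸ H) ⟨?_, ?_⟩
  · intro a b hab
    rw [QuotientGroup.leftRel_apply] at hab ⊢
    exact hab
  · intro a b
    induction a using Quotient.inductionOn'
    induction b using Quotient.inductionOn'
    intro h
    simp only [Quotient.map'_mk''] at h
    rw [Quotient.eq'', QuotientGroup.leftRel_apply] at h ⊢
    exact h
  · intro x
    induction x using Quotient.inductionOn'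
    rename_i g
    obtain ⟨u, hu, v, hv, rfl⟩ := exists_mul hcomm hgen g
    refine ⟨Quotient.mk'' ⟨u, hK hu⟩, ?_⟩
    simp only [Quotient.map'_mk'']
    rw [Quotient.eq'', QuotientGroup.leftRel_apply]
    have : u⁻¹ * (u * v) = v := by group
    rw [this]
    exact hH hv

/-- An exponent that fixes `p`-regular elements and makes all elements `p`-regular. -/
theorem exists_exponent {G : Type*} [Group G] [Finite G] (p : ℕ) [Fact p.Prime] (g : G) :
    ∃ n : ℕ, (IsPRegular p g → g ^ n = g) ∧ ∀ u : G, IsPRegular p (u ^ n) := by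
  obtain ⟨a, r, hr, hG⟩ := Nat.exists_eq_pow_mul_and_not_dvd (Nat.card_pos (α := G)).ne' p
    (Fact.out : p.Prime).ne_one
  have hcop : Nat.Coprime (p ^ a) r :=
    Nat.Coprime.pow_left a ((Nat.Prime.coprime_iff_not_dvd Fact.out).2 hr)
  obtain ⟨n, hn1, hn2⟩ := Nat.chineseRemainder hcop 0 1
  refine ⟨n, fun hg => ?_, fun u hu => ?_⟩
  · have h1 : orderOf g ∣ r := by
      have h2 : orderOf g ∣ p ^ a * r := hG ▸ orderOf_dvd_natCard g
      exact (Nat.Coprime.pow_right a
        ((Nat.Prime.coprime_iff_not_dvd Fact.out).2 hg).symm).dvd_of_dvd_mul_left h2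
    have h3 : n ≡ 1 [MOD orderOf g] := hn2.of_dvd h1
    have h4 := pow_eq_pow_iff_modEq.2 h3
    simpa using h4
  · have h1 : (u ^ n) ^ r = 1 := by
      obtain ⟨m, hm⟩ := (Nat.modEq_zero_iff_dvd.1 hn1)
      rw [hm, ← pow_mul]
      have : p ^ a * m * r = Nat.card G * m := by rw [hG]; ring
      rw [this, pow_mul, pow_card_eq_one', one_pow]
    exact hr (hu.trans (orderOf_dvd_of_pow_eq_one h1))

end Group

/-- The central character of `χ` on the factor `U`. -/
theorem centralChar_factor {G : Type*} [Group G] [Finite G] {U V : Subgroup G} [Fintype U]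
    (hcomm : ∀ u ∈ U, ∀ v ∈ V, u * v = v * u) (hgen : U ⊔ V = ⊤) (χ : IrrCharacter G)
    (ψ : IrrCharacter U)
    (h : classInner (fun u : U => (χ : G → ℂ) u) (ψ : U → ℂ) ≠ 0) (u : U) :
    centralChar (χ : G → ℂ) (u : G) = centralChar (ψ : U → ℂ) u := by
  classical
  have := normal_of_comm hcomm hgen
  rw [Cfsg.Agent.Blocks.Over.centralChar_eq_of_over U χ.2 ψ.2 h u]
  rw [inducedCentralChar_def, finsum_mem_eq_finite_toFinset_sum _ (Set.toFinite _)]
  refine Cfsg.Agent.Blocks.InvSum.sum_class_eq_centralChar (irr_isClassFunction ψ.2) u _ ?_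
  intro y
  rw [Set.Finite.mem_toFinset, Set.mem_ofPred_eq]
  constructor
  · intro hc
    obtain ⟨g, hg⟩ := isConj_iff.1 hc
    obtain ⟨a, ha, b, hb, rfl⟩ := exists_mul hcomm hgen g
    refine isConj_iff.2 ⟨⟨a, ha⟩, Subtype.ext ?_⟩
    show a * (u : G) * a⁻¹ = y
    rw [← hg]
    have h1 := hcomm u u.2 b hb
    have h2 : a * b * u * (a * b)⁻¹ = a * (b * u) * b⁻¹ * a⁻¹ := by group
    rw [h2, ← h1]
    group
  · intro hc
    obtain ⟨g, hg⟩ := isConj_iff.1 hc
    exact isConj_iff.2 ⟨(g : G), by rw [← hg]; rfl⟩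

/-- Let the finite group G be generated by subgroups U₁ and U₂ that commute elementwise and whose intersection is a p-group, and let M be a maximal ideal of the algebraic integers containing the prime p. If the irreducible character χ of G has the irreducible constituents ψ₁ on U₁ and ψ₂ on U₂, then χ lies in the principal block of G if and only if ψ₁ and ψ₂ lie in the principal blocks of U₁ and U₂. -/
theorem result {G : Type*} [Group G] [Fintype G] (p : ℕ) [Fact p.Prime] (M : Ideal Cfsg.AlgInt) (hM : Cfsg.IsPModular p M) (U₁ U₂ : Subgroup G) [Fintype U₁] [Fintype U₂] (hcomm : ∀ u ∈ U₁, ∀ v ∈ U₂, u * v = v * u) (hgen : U₁ ⊔ U₂ = ⊤) (hZ : IsPGroup p ↥(U₁ ⊓ U₂)) (χ : Cfsg.IrrCharacter G) (ψ₁ : Cfsg.IrrCharacter U₁) (ψ₂ : Cfsg.IrrCharacter U₂) (h₁ : Cfsg.classInner (fun u : U₁ => (χ : G → ℂ) u) (ψ₁ : U₁ → ℂ) ≠ 0) (h₂ : Cfsg.classInner (fun u : U₂ => (χ : G → ℂ) u) (ψ₂ : U₂ → ℂ) ≠ 0) : χ ∈ Cfsg.principalBlock M G ↔ (ψ₁ ∈ Cfsg.principalBlock M U₁ ∧ ψ₂ ∈ Cfsg.principalBlock M U₂) := by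
  classical
  have hprime := isPrime_of_isPModular hM
  have hcomm' : ∀ v ∈ U₂, ∀ u ∈ U₁, v * u = u * v := fun v hv u hu => (hcomm u hu v hv).symm
  have hgen' : U₂ ⊔ U₁ = ⊤ := by rw [sup_comm]; exact hgen
  have e₁ := centralChar_factor hcomm hgen χ ψ₁ h₁
  have e₂ := centralChar_factor hcomm' hgen' χ ψ₂ h₂
  -- centralizers
  have c₁ : ∀ u : U₁, (Subgroup.centralizer ({(u : G)} : Set G)).index =
      (Subgroup.centralizer ({u} : Set U₁)).index := by
    intro u
    rw [← relIndex_eq hcomm hgen]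
    · rw [Subgroup.relIndex]
      congr 1
      ext x
      rw [Subgroup.mem_subgroupOf, Subgroup.mem_centralizer_singleton_iff,
        Subgroup.mem_centralizer_singleton_iff, Subtype.ext_iff]
      rfl
    · intro v hv
      rw [Subgroup.mem_centralizer_singleton_iff]
      exact (hcomm u u.2 v hv).symm
  have c₂ : ∀ u : U₂, (Subgroup.centralizer ({(u : G)} : Set G)).index =
      (Subgroup.centralizer ({u} : Set U₂)).index := by
    intro u
    rw [← relIndex_eq hcomm' hgen']
    · rw [Subgroup.relIndex]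
      congr 1
      ext x
      rw [Subgroup.mem_subgroupOf, Subgroup.mem_centralizer_singleton_iff,
        Subgroup.mem_centralizer_singleton_iff, Subtype.ext_iff]
      rfl
    · intro v hv
      rw [Subgroup.mem_centralizer_singleton_iff]
      exact (hcomm' u u.2 v hv).symm
  have one₁ : ∀ u : U₁, centralChar (fun _ : G => (1 : ℂ)) (u : G) =
      centralChar (fun _ : U₁ => (1 : ℂ)) u := by
    intro u
    rw [centralChar_def, centralChar_def, c₁ u]
  have one₂ : ∀ u : U₂, centralChar (fun _ : G => (1 : ℂ)) (u : G) =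
      centralChar (fun _ : U₂ => (1 : ℂ)) u := by
    intro u
    rw [centralChar_def, centralChar_def, c₂ u]
  constructor
  · intro h
    refine ⟨fun u => ?_, fun u => ?_⟩
    · have := h (u : G)
      rwa [e₁, one₁] at this
    · have := h (u : G)
      rwa [e₂, one₂] at this
  · rintro ⟨hb₁, hb₂⟩
    show SameBlock M (fun _ : G => (1 : ℂ)) (χ : G → ℂ)
    refine Cfsg.Agent.Blocks.PRegular.sameBlock_of_isPRegular hM isIrrCharacter_one χ.2 ?_
    intro g hg
    -- write `g` as a product of `p`-regular elements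
    obtain ⟨u, hu, v, hv, huv, hur, hvr⟩ : ∃ u ∈ U₁, ∃ v ∈ U₂, u * v = g ∧
        IsPRegular p u ∧ IsPRegular p v := by
      obtain ⟨u, hu, v, hv, huv⟩ := exists_mul hcomm hgen g
      obtain ⟨n, hn1, hn2⟩ := exists_exponent p g
      refine ⟨u ^ n, U₁.pow_mem hu n, v ^ n, U₂.pow_mem hv n, ?_, hn2 u, hn2 v⟩
      rw [← (show Commute u v from hcomm u hu v hv).mul_pow, huv]
      exact hn1 hg
    have hcomm0 : u * v = v * u := hcomm u hu v hv
    have hcent : Subgroup.centralizer ({g} : Set G) =
        Subgroup.centralizer ({u} : Set G) ⊓ Subgroup.centralizer ({v} : Set G) := by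
      ext x
      rw [Subgroup.mem_inf, Subgroup.mem_centralizer_singleton_iff,
        Subgroup.mem_centralizer_singleton_iff, Subgroup.mem_centralizer_singleton_iff, ← huv]
      constructor
      · intro hx
        obtain ⟨a, ha, b, hb, rfl⟩ := exists_mul hcomm hgen x
        have hab : a * b = b * a := hcomm a ha b hb
        have hav : a * v = v * a := hcomm a ha v hv
        have hub : u * b = b * u := hcomm u hu b hb
        -- `a * u * a⁻¹ = u * z`
        have hz : u⁻¹ * (a * u * a⁻¹) = v * (b * v * b⁻¹)⁻¹ := by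
          have h1 : a * b * (u * v) * (a * b)⁻¹ = (a * u * a⁻¹) * (b * v * b⁻¹) := by
            have h2 : a * b * (u * v) * (a * b)⁻¹ = a * (b * u) * v * b⁻¹ * a⁻¹ := by group
            have h3 : a * u * a⁻¹ * (b * v * b⁻¹) = a * u * (a⁻¹ * (b * v * b⁻¹)) := by group
            have h4 : a⁻¹ * (b * v * b⁻¹) = b * v * b⁻¹ * a⁻¹ :=
              hcomm _ (U₁.inv_mem ha) _ (U₂.mul_mem (U₂.mul_mem hb hv) (U₂.inv_mem hb))
            rw [h2, ← hub, h3, h4]
            group
          have h5 : a * b * (u * v) * (a * b)⁻¹ = u * v := by rw [hx]; group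
          rw [h1] at h5
          have h6 : a * u * a⁻¹ = u * v * (b * v * b⁻¹)⁻¹ := by rw [← h5]; group
          rw [h6]; group
        set z := u⁻¹ * (a * u * a⁻¹) with hzdef
        have hz1 : z ∈ U₁ := U₁.mul_mem (U₁.inv_mem hu)
          (U₁.mul_mem (U₁.mul_mem ha hu) (U₁.inv_mem ha))
        have hz2 : z ∈ U₂ := by
          rw [hz]
          exact U₂.mul_mem hv (U₂.inv_mem (U₂.mul_mem (U₂.mul_mem hb hv) (U₂.inv_mem hb)))
        have hz3 : z = 1 := by
          obtain ⟨k, hk⟩ := hZ ⟨z, hz1, hz2⟩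
          have hk' : z ^ p ^ k = 1 := by
            have := congrArg (Subtype.val) hk
            simpa using this
          have h7 : (u * z) ^ orderOf u = 1 := by
            have h8 : u * z = a * u * a⁻¹ := by rw [hzdef]; group
            rw [h8, conj_pow, pow_orderOf_eq_one]
            group
          rw [(show Commute u z from hcomm u hu z hz2).mul_pow, pow_orderOf_eq_one, one_mul] at h7
          have h9 : orderOf z ∣ p ^ k := orderOf_dvd_of_pow_eq_one hk'
          have h10 : orderOf z ∣ orderOf u := orderOf_dvd_of_pow_eq_one h7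
          have h11 : Nat.Coprime (p ^ k) (orderOf u) :=
            Nat.Coprime.pow_left k ((Nat.Prime.coprime_iff_not_dvd Fact.out).2 hur)
          have h12 := Nat.dvd_gcd h9 h10
          rwa [h11, Nat.dvd_one, orderOf_eq_one_iff] at h12
        have h13 : a * u = u * a := by
          have : a * u * a⁻¹ = u := by
            have := hz3
            rw [hzdef, inv_mul_eq_one] at this
            exact this.symm
          calc a * u = a * u * a⁻¹ * a := by group
            _ = u * a := by rw [this]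
        have h14 : b * v = v * b := by
          have : b * v * b⁻¹ = v := by
            have := hz.symm.trans hz3
            rw [mul_inv_eq_one] at this
            exact this.symm
          calc b * v = b * v * b⁻¹ * b := by group
            _ = v * b := by rw [this]
        constructor
        · calc a * b * u = a * (b * u) := by group
            _ = a * u * b := by rw [← hub]; group
            _ = u * (a * b) := by rw [h13]; group
        · calc a * b * v = a * (b * v) := by group
            _ = (a * v) * b := by rw [h14]; group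
            _ = v * (a * b) := by rw [hav]; group
      · rintro ⟨h1, h2⟩
        calc x * (u * v) = (x * u) * v := by group
          _ = u * (x * v) := by rw [h1]; group
          _ = u * v * x := by rw [h2]; group
    have hindex : (Subgroup.centralizer ({g} : Set G)).index =
        (Subgroup.centralizer ({u} : Set G)).index * (Subgroup.centralizer ({v} : Set G)).index := by
      rw [hcent]
      apply index_inf hcomm hgen
      · intro w hw
        rw [Subgroup.mem_centralizer_singleton_iff]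
        exact (hcomm u hu w hw).symm
      · intro w hw
        rw [Subgroup.mem_centralizer_singleton_iff]
        exact hcomm w hw v hv
    have hmul : (χ : G → ℂ) u * (χ : G → ℂ) v = (χ : G → ℂ) 1 * (χ : G → ℂ) (u * v) := by
      apply Cfsg.Agent.S0943.result
      intro x y hx hy
      obtain ⟨a, ha⟩ := isConj_iff.1 hx
      obtain ⟨b, hb⟩ := isConj_iff.1 hy
      obtain ⟨a₁, ha₁, a₂, ha₂, rfl⟩ := exists_mul hcomm hgen a
      obtain ⟨b₁, hb₁, b₂, hb₂, rfl⟩ := exists_mul hcomm hgen b
      have hx' : x = a₁ * u * a₁⁻¹ := by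
        rw [← ha]
        have h1 : a₁ * a₂ * u * (a₁ * a₂)⁻¹ = a₁ * (a₂ * u) * a₂⁻¹ * a₁⁻¹ := by group
        rw [h1, ← hcomm u hu a₂ ha₂]
        group
      have hy' : y = b₂ * v * b₂⁻¹ := by
        rw [← hb]
        have h2 : b₁ * (b₂ * v * b₂⁻¹) = b₂ * v * b₂⁻¹ * b₁ :=
          hcomm _ hb₁ _ (U₂.mul_mem (U₂.mul_mem hb₂ hv) (U₂.inv_mem hb₂))
        have h1 : b₁ * b₂ * v * (b₁ * b₂)⁻¹ = b₁ * (b₂ * v * b₂⁻¹) * b₁⁻¹ := by group
        rw [h1, h2]
        group
      have hxy : x * y = (a₁ * b₂) * (u * v) * (a₁ * b₂)⁻¹ := by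
        have h3 : a₁⁻¹ * (b₂ * v * b₂⁻¹) = b₂ * v * b₂⁻¹ * a₁⁻¹ :=
          hcomm _ (U₁.inv_mem ha₁) _ (U₂.mul_mem (U₂.mul_mem hb₂ hv) (U₂.inv_mem hb₂))
        have h4 : (a₁ * b₂) * (u * v) * (a₁ * b₂)⁻¹ = a₁ * (b₂ * u) * v * b₂⁻¹ * a₁⁻¹ := by group
        have h5 : a₁ * u * a₁⁻¹ * (b₂ * v * b₂⁻¹) = a₁ * u * (a₁⁻¹ * (b₂ * v * b₂⁻¹)) := by group
        rw [hx', hy', h4, ← hcomm u hu b₂ hb₂, h5, h3]
        group
      rw [hxy]
      exact irr_conj χ.2 _ _
    have hχ1 : (χ : G → ℂ) 1 ≠ 0 := irr_one_ne_zero χ.2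
    have hprod : centralChar (χ : G → ℂ) g = centralChar (χ : G → ℂ) u * centralChar (χ : G → ℂ) v := by
      rw [centralChar_def, centralChar_def, centralChar_def, hindex, ← huv]
      push_cast
      field_simp
      linear_combination (-((Subgroup.centralizer ({u} : Set G)).index : ℂ) *
        ((Subgroup.centralizer ({v} : Set G)).index : ℂ)) * hmul
    have hprod1 : centralChar (fun _ : G => (1 : ℂ)) g =
        centralChar (fun _ : G => (1 : ℂ)) u * centralChar (fun _ : G => (1 : ℂ)) v := by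
      rw [centralChar_def, centralChar_def, centralChar_def, hindex]
      push_cast
      ring
    rw [hprod, hprod1]
    have k₁ := hb₁ ⟨u, hu⟩
    have k₂ := hb₂ ⟨v, hv⟩
    rw [← e₁, ← one₁] at k₁
    rw [← e₂, ← one₂] at k₂
    exact memLocalIdeal_mul_sub_mul
      (memLocalRing_of_isIntegral (Cfsg.Agent.Blocks.ConvCentral.isIntegral_centralChar
        isIrrCharacter_one u))
      (memLocalRing_of_isIntegral (Cfsg.Agent.Blocks.ConvCentral.isIntegral_centralChar χ.2 v))
      k₁ k₂

end Cfsg.Agent.S4521
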