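import Cfsg.Statements.S4624
import Cfsg.Agent.H636.SympWreath
import Cfsg.Agent.LieClassical.SympCount
import Cfsg.Agent.LieClassical.SmallIso
import Cfsg.Agent.S0261
set_option linter.all false

set_option autoImplicit false
open Cfsg

namespace Cfsg.Agent.S4624

open Cfsg.Agent.H636.ElemAb Cfsg.Agent.H636.SymSylow Matrix
open scoped commutatorElement

/-- Squares in generalized quaternion groups of order at least 8 are in the derived subgroup. -/
theorem quaternion_sq (k : ℕ) (hk : 1 ≤ k) (x : QuaternionGroup (2 ^ k)) :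
    x ^ 2 ∈ commutator (QuaternionGroup (2 ^ k)) := by
  have h1 : ∀ i : ZMod (2 * 2 ^ k), (QuaternionGroup.a (2 * i) : QuaternionGroup (2 ^ k)) ∈
      commutator (QuaternionGroup (2 ^ k)) := by
    intro i
    have h2 : ⁅(QuaternionGroup.xa 0 : QuaternionGroup (2 ^ k)), QuaternionGroup.a (-i)⁆ ∈
        commutator (QuaternionGroup (2 ^ k)) :=
      Subgroup.commutator_mem_commutator (Subgroup.mem_top _) (Subgroup.mem_top _)
    have h3 : ⁅(QuaternionGroup.xa 0 : QuaternionGroup (2 ^ k)), QuaternionGroup.a (-i)⁆ =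
        QuaternionGroup.a (2 * i) := by
      rw [commutatorElement_def, mul_inv_eq_iff_eq_mul, mul_inv_eq_iff_eq_mul]
      simp only [QuaternionGroup.xa_mul_a, QuaternionGroup.a_mul_a, QuaternionGroup.a_mul_xa]
      congr 1
      ring
    rwa [h3] at h2
  rcases x with i | i
  · have h4 : (QuaternionGroup.a i : QuaternionGroup (2 ^ k)) ^ 2 = QuaternionGroup.a (2 * i) := by
      rw [sq, QuaternionGroup.a_mul_a, ← two_mul]
    rw [h4]
    exact h1 i
  · rw [QuaternionGroup.xa_sq]
    obtain ⟨m, rfl⟩ : ∃ m, k = m + 1 := ⟨k - 1, by omega⟩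
    have h5 : (((2 ^ (m + 1) : ℕ)) : ZMod (2 * 2 ^ (m + 1))) = 2 * (2 ^ m : ℕ) := by
      push_cast
      ring
    rw [h5]
    exact h1 _

/-- The `2`-part of `q ^ (2 m) - 1`. -/
theorem val_pow (q m : ℕ) (hq : Odd q) (hq1 : 1 < q) (hm : m ≠ 0) :
    padicValNat 2 (q ^ (2 * m) - 1) = padicValNat 2 (q ^ 2 - 1) + padicValNat 2 m := by
  have hq2 : ¬ 2 ∣ q := by
    intro h
    exact (Nat.not_even_iff_odd.2 hq) (even_iff_two_dvd.2 h)
  have h1 := padicValNat.pow_two_sub_one hq1 hq2 (n := 2 * m) (by omega) (by simp)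
  have h2 := padicValNat.pow_two_sub_one hq1 hq2 (n := 2) (by omega) (by simp)
  rw [padicValNat.mul (by norm_num) hm] at h1
  have h3 : padicValNat 2 2 = 1 := padicValNat_self
  omega

/-- Let F be a finite field of odd order and n ≥ 1. A Sylow 2-subgroup P of the symplectic group Sp_{2n}(F) has P/P' elementary abelian: the square of every element of P lies in the derived subgroup of P. -/
theorem result {F : Type*} [Field F] [Fintype F] (hF : Odd (Fintype.card F)) (n : ℕ) (hn : 1 ≤ n) (P : Sylow 2 (Matrix.symplecticGroup (Fin n) F)) :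
    ∀ x : (P : Subgroup (Matrix.symplecticGroup (Fin n) F)), x ^ 2 ∈ commutator (P : Subgroup (Matrix.symplecticGroup (Fin n) F)) := by
  obtain ⟨Q⟩ : Nonempty (Sylow 2 (SpecialLinearGroup (Fin 2) F)) := inferInstance
  obtain ⟨H⟩ : Nonempty (Sylow 2 (Equiv.Perm (Fin n))) := inferInstance
  have hq1 : 1 < Fintype.card F := Fintype.one_lt_card
  have hq0 : Fintype.card F ≠ 0 := by omega
  have hq2 : ¬ 2 ∣ Fintype.card F := by
    intro h
    exact (Nat.not_even_iff_odd.2 hF) (even_iff_two_dvd.2 h)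
  have hpw : ∀ m : ℕ, m ≠ 0 → Fintype.card F ^ m - 1 ≠ 0 := by
    intro m hm
    have := Nat.one_lt_pow hm hq1
    omega
  have hval0 : ∀ m : ℕ, padicValNat 2 (Fintype.card F ^ m) = 0 := by
    intro m
    rw [padicValNat.eq_zero_iff]
    right; right
    intro h
    exact hq2 (Nat.Prime.dvd_of_dvd_pow Nat.prime_two h)
  have hQc : Nat.card Q = 2 ^ (padicValNat 2 (Fintype.card F ^ 2 - 1)) := by
    rw [Q.card_eq_multiplicity, Cfsg.Agent.LieClassical.SmallIso.card_sl_two,
      Nat.factorization_def _ Nat.prime_two, padicValNat.mul hq0 (hpw 2 (by norm_num))]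
    have := hval0 1
    rw [pow_one] at this
    rw [this, zero_add]
  have hHc : Nat.card H = 2 ^ (padicValNat 2 n.factorial) := by
    rw [H.card_eq_multiplicity, Nat.card_eq_fintype_card, Fintype.card_perm, Fintype.card_fin,
      Nat.factorization_def _ Nat.prime_two]
  have hcard : Nat.card (Cfsg.Agent.H636.SympWreath.wr (Q : Subgroup (SpecialLinearGroup (Fin 2) F))
      (H : Subgroup (Equiv.Perm (Fin n)))) =
      2 ^ (Nat.card (Matrix.symplecticGroup (Fin n) F)).factorization 2 := by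
    rw [Cfsg.Agent.H636.SympWreath.card_wr, hQc, hHc, ← pow_mul, ← pow_add,
      Cfsg.Agent.LieClassical.SympCount.card_symplecticGroup, Nat.factorization_def _ Nat.prime_two]
    congr 1
    rw [padicValNat.mul (pow_ne_zero _ hq0) (Finset.prod_ne_zero_iff.2 fun i _ => hpw _ (by omega)),
      hval0, zero_add]
    clear hHc H P hn
    induction n with
    | zero => simp
    | succ n ih =>
      rw [Finset.prod_range_succ, padicValNat.mul
        (Finset.prod_ne_zero_iff.2 fun i _ => hpw _ (by omega)) (hpw _ (by omega)), ← ih,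
        val_pow _ _ hF hq1 (by omega), Nat.factorial_succ, padicValNat.mul (by omega)
        (Nat.factorial_ne_zero n)]
      ring
  set R : Sylow 2 (Matrix.symplecticGroup (Fin n) F) := Sylow.ofCard _ hcard with hR
  refine sylow_congr R P ?_
  obtain ⟨k, hk, ⟨e⟩⟩ := Cfsg.Agent.S0261.result hF Q
  have hQ2 : ∀ x : (Q : Subgroup (SpecialLinearGroup (Fin 2) F)), x ^ 2 ∈
      commutator (Q : Subgroup (SpecialLinearGroup (Fin 2) F)) :=
    congr e.symm (quaternion_sq k hk)
  have hQ3 : ∀ x ∈ (Q : Subgroup (SpecialLinearGroup (Fin 2) F)), x ^ 2 ∈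
      ⁅(Q : Subgroup (SpecialLinearGroup (Fin 2) F)), (Q : Subgroup (SpecialLinearGroup (Fin 2) F))⁆ := by
    intro x hx
    have h1 : (commutator (Q : Subgroup (SpecialLinearGroup (Fin 2) F))).map
        (Q : Subgroup (SpecialLinearGroup (Fin 2) F)).subtype =
        ⁅(Q : Subgroup (SpecialLinearGroup (Fin 2) F)), (Q : Subgroup (SpecialLinearGroup (Fin 2) F))⁆ := by
      rw [commutator_def, Subgroup.map_commutator, ← MonoidHom.range_eq_map, Subgroup.range_subtype]
    rw [← h1]
    exact ⟨_, hQ2 ⟨x, hx⟩, rfl⟩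
  exact Cfsg.Agent.H636.SympWreath.pow_mem_wr 2 hQ3 (gen_sylow n H)

end Cfsg.Agent.S4624
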