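import Cfsg.Agent.H596.Degree
import Cfsg.Agent.CharactersDeep.CosetAverage
import Cfsg.Agent.CharactersDeep.AbelianQuotient
import Cfsg.Agent.CharactersDeep.FeitLinear
import Cfsg.Agent.S0886
import Cfsg.Agent.S4455
import Cfsg.Statements.S4454
set_option linter.all false

-- part: H596/FrobRam
section
/-!
# Characters of a group `U` with cyclic quotient `U / N` and norm `(e² + n - 1) / n`

The arithmetic behind the congruence `e ≡ ± 1` for fully ramified sections with a cyclic group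
acting without fixed points.
-/

set_option autoImplicit false

namespace Cfsg.Agent.H596.FrobRam

open scoped ComplexConjugate
open Cfsg Cfsg.Agent.Characters.Core
open Cfsg.Agent.Blocks.Basic (charDegree_of_eq irr_one_eq_charDegree charDegree_pos)

/-- Integers `a i` (at most `n` of them) with `n ∑ a i ^ 2 - (∑ a i) ^ 2 = n - 1` have sum congruent
to `± 1` modulo `n`. -/
theorem comb {ι : Type*} (S : Finset ι) (a : ι → ℤ) (n : ℕ) (hn : 2 ≤ n) (hS : S.card ≤ n)
    (h : (n : ℤ) * ∑ i ∈ S, a i ^ 2 = (∑ i ∈ S, a i) ^ 2 + n - 1) :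
    (n : ℤ) ∣ (∑ i ∈ S, a i) - 1 ∨ (n : ℤ) ∣ (∑ i ∈ S, a i) + 1 := by
  obtain ⟨e, he⟩ : ∃ e, e = ∑ i ∈ S, a i := ⟨_, rfl⟩
  rw [← he] at h ⊢
  have hn0 : (0 : ℤ) < n := by exact_mod_cast (by omega : 0 < n)
  -- choose the shift
  obtain ⟨c, hc⟩ : ∃ c : ℤ, 2 * |e - n * c| ≤ n := by
    have h1 := Int.emod_nonneg e hn0.ne'
    have h2 := Int.emod_lt_of_pos e hn0
    have h3 := Int.emod_add_mul_ediv e n
    by_cases h4 : 2 * (e % n) ≤ n
    · refine ⟨e / n, ?_⟩
      rw [show e - n * (e / n) = e % n by linarith, abs_of_nonneg h1]; exact h4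
    · refine ⟨e / n + 1, ?_⟩
      rw [show e - n * (e / n + 1) = e % n - n by linarith, abs_of_nonpos (by linarith)]
      linarith
  set s := e - n * c with hs
  set B := ∑ i ∈ S, (a i - c) ^ 2 + ((n : ℤ) - S.card) * c ^ 2 with hB
  have hsq : ∑ i ∈ S, (a i - c) ^ 2 = ∑ i ∈ S, a i ^ 2 - 2 * c * e + S.card * c ^ 2 := by
    rw [he, Finset.mul_sum, ← Finset.sum_sub_distrib]
    have : (S.card : ℤ) * c ^ 2 = ∑ i ∈ S, c ^ 2 := by rw [Finset.sum_const, nsmul_eq_mul]
    rw [this, ← Finset.sum_add_distrib]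
    exact Finset.sum_congr rfl fun i _ => by ring
  have hnB : (n : ℤ) * B = s ^ 2 + n - 1 := by
    rw [hB, hsq]
    have : (n : ℤ) * (∑ i ∈ S, a i ^ 2 - 2 * c * e + S.card * c ^ 2 + (n - S.card) * c ^ 2) =
      n * ∑ i ∈ S, a i ^ 2 - 2 * n * c * e + n ^ 2 * c ^ 2 := by ring
    rw [this, h, hs]; ring
  have hsB : |s| ≤ B := by
    have h1 : s = ∑ i ∈ S, (a i - c) - ((n : ℤ) - S.card) * c := by
      rw [Finset.sum_sub_distrib, Finset.sum_const, nsmul_eq_mul, ← he, hs]; ring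
    have hsqabs : ∀ z : ℤ, |z| ≤ z ^ 2 := by
      intro z
      rw [← sq_abs]
      rcases eq_or_ne z 0 with rfl | hz
      · simp
      · have := Int.one_le_abs hz
        nlinarith
    have hcard : (0 : ℤ) ≤ (n : ℤ) - S.card := by
      have : (S.card : ℤ) ≤ n := by exact_mod_cast hS
      linarith
    rw [h1, hB]
    calc |∑ i ∈ S, (a i - c) - ((n : ℤ) - S.card) * c|
        ≤ |∑ i ∈ S, (a i - c)| + |((n : ℤ) - S.card) * c| := abs_sub _ _
      _ ≤ ∑ i ∈ S, |a i - c| + ((n : ℤ) - S.card) * |c| := by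
          rw [abs_mul, abs_of_nonneg hcard]
          exact add_le_add_left (Finset.abs_sum_le_sum_abs _ _) _
      _ ≤ _ := by
          refine add_le_add (Finset.sum_le_sum fun i _ => hsqabs _) ?_
          exact mul_le_mul_of_nonneg_left (hsqabs c) hcard
  have habs : 0 ≤ |s| := abs_nonneg s
  have hsq2 : s ^ 2 = |s| ^ 2 := (sq_abs s).symm
  have hle1 : |s| ≤ 1 := by
    by_contra hcon
    push Not at hcon
    have h1 : (n : ℤ) * |s| ≤ n * B := mul_le_mul_of_nonneg_left hsB hn0.le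
    rw [hnB, hsq2] at h1
    nlinarith
  have hs0 : s ≠ 0 := by
    intro h0
    rw [h0] at hnB
    have : (n : ℤ) ∣ 1 := ⟨1 - B, by linarith⟩
    have := Int.le_of_dvd one_pos this
    have : (2 : ℤ) ≤ n := by exact_mod_cast hn
    linarith
  have hs1 : s = 1 ∨ s = -1 := by
    have h1 := Int.one_le_abs hs0
    have h2 : |s| = 1 := le_antisymm hle1 h1
    exact abs_eq (by norm_num : (0 : ℤ) ≤ 1) |>.1 h2
  rcases hs1 with h1 | h1
  · left
    exact ⟨c, by linarith⟩
  · right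
    exact ⟨c, by linarith⟩

/-- Characters of `U` with `U / N` cyclic and `θ ∈ Irr(N)` invariant: a character `ξ` with
`ξ_N = e θ` and norm `(e² + n - 1) / n`, `n = |U : N|`, has `e ≡ ± 1` modulo `n`. -/
theorem congr_of_norm {U : Type*} [Group U] [Fintype U] (N : Subgroup U) [hN : N.Normal]
    [Fintype N] (hcyc : IsCyclic (U ⧸ N)) (hn : 2 ≤ N.index) (θ : N → ℂ) (hθ : IsIrrCharacter N θ)
    (hinv : ∀ (g : U) (n : N), θ ⟨g * n * g⁻¹, hN.conj_mem (n : U) n.2 g⟩ = θ n)
    (ξ : U → ℂ) (hξ : IsCharacter U ξ) (e : ℕ) (hres : ∀ n : N, ξ n = e * θ n)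
    (hnorm : (N.index : ℂ) * classInner ξ ξ = e ^ 2 + N.index - 1) :
    (N.index : ℤ) ∣ (e : ℤ) - 1 ∨ (N.index : ℤ) ∣ (e : ℤ) + 1 := by
  classical
  have := finite_irr (G := U)
  have := Fintype.ofFinite (IrrCharacter U)
  obtain ⟨θ', hθ', hext⟩ := S0886.result N hcyc θ hθ hinv
  have hθN : (fun n : N => θ' n) = θ := funext hext
  -- commutative quotient
  have hab : ∀ x y : U, x * y * x⁻¹ * y⁻¹ ∈ N := by
    intro x y
    rw [← QuotientGroup.eq_one_iff]
    show (x : U ⧸ N) * y * (x : U ⧸ N)⁻¹ * (y : U ⧸ N)⁻¹ = 1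
    let _ := IsCyclic.commGroup (α := U ⧸ N)
    have h1 : (x : U ⧸ N) * y = y * x := mul_comm _ _
    rw [h1]; group
  obtain ⟨Λ, hΛ, hΛc, -, -⟩ := CharactersDeep.AbelianQuotient.exists_linear_dual N hab
  -- characters of `U` over `θ`
  have hover : ∀ ζ : IrrCharacter U, classInner (fun n : N => (ζ : U → ℂ) n) θ ≠ 0 →
      ∃ l ∈ Λ, (ζ : U → ℂ) = fun g => θ' g * (l g : ℂ) := by
    intro ζ hζ
    obtain ⟨η, hη, hηN, hηeq⟩ := CharactersDeep.CosetAverage.exists_irr_mul N θ' hθ'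
      (by rw [hθN]; exact hθ) ζ.1 ζ.2 (by rw [hθN]; exact hζ)
    -- `η` is linear
    have hη1 : η 1 = 1 := CharactersDeep.FeitLinear.apply_one_eq_one N hab hη fun k hk => by
      have := hηN ⟨k, hk⟩ 1
      rwa [mul_one] at this
    obtain ⟨l, hl⟩ := Characters.Linear.exists_hom_of_isIrrCharacter hη hη1
    refine ⟨l, ?_, ?_⟩
    · rw [hΛ]
      intro n hn
      have h1 := hηN ⟨n, hn⟩ 1
      rw [mul_one, hl] at h1
      ext
      rw [show ((l n : ℂˣ) : ℂ) = ((l 1 : ℂˣ) : ℂ) from h1, map_one]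
    · rw [hηeq, hl]; rfl
  have hθ'1 : θ' 1 = θ 1 := hext 1
  have hθ1 : θ 1 ≠ 0 := isIrr_apply_one_ne_zero hθ
  -- coefficients of `ξ`
  obtain ⟨c, hc, hc'⟩ := CharDeep.CliffordCorr.exists_nat_coeffs hξ
  have hcover : ∀ ζ : IrrCharacter U, c ζ ≠ 0 → classInner (fun n : N => (ζ : U → ℂ) n) θ ≠ 0 := by
    intro ζ hζ h0
    -- `ξ_N = e θ`, and `ζ_N` is a constituent of `ξ_N`
    have hζN : IsCharacter N (fun n : N => (ζ : U → ℂ) n) :=
      Characters.Clifford.isCharacter_restrict N (isIrr_isCharacter ζ.2)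
    obtain ⟨φ, hφ, hφ'⟩ := S4455.exists_constituent hζN (isIrr_apply_one_ne_zero ζ.2)
    have h1 : classInner (fun n : N => ξ n) φ ≠ 0 := by
      have h2 : (fun n : N => ξ n) = ∑ η : IrrCharacter U, (c η : ℂ) • (fun n : N => (η : U → ℂ) n) := by
        funext n
        rw [hc, Finset.sum_apply, Finset.sum_apply]
        rfl
      rw [h2, classInner_sum_left]
      have h3 : ∀ η : IrrCharacter U, ∃ k : ℕ, classInner (fun n : N => (η : U → ℂ) n) φ = k :=
        fun η => classInner_isNat (Characters.Clifford.isCharacter_restrict N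
          (isIrr_isCharacter η.2)) (isIrr_isCharacter hφ)
      choose k hk using h3
      have h4 : ∑ η : IrrCharacter U, classInner ((c η : ℂ) • (fun n : N => (η : U → ℂ) n)) φ =
          ((∑ η : IrrCharacter U, c η * k η : ℕ) : ℂ) := by
        push_cast
        refine Finset.sum_congr rfl fun η _ => ?_
        rw [classInner_smul_left, hk]
      rw [h4, Nat.cast_ne_zero]
      intro h5
      have h6 := (Finset.sum_eq_zero_iff.1 h5) ζ (Finset.mem_univ _)
      rcases Nat.mul_eq_zero.1 h6 with h7 | h7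
      · exact hζ h7
      · apply hφ'
        rw [hk, h7, Nat.cast_zero]
    have h2 : (fun n : N => ξ n) = (e : ℂ) • θ := funext hres
    rw [h2, classInner_smul_left] at h1
    have h3 : θ = φ := by
      by_contra hne
      apply h1
      rw [classInner_irr_ne hθ hφ hne, mul_zero]
    exact hφ' (h3 ▸ h0)
  let S : Finset (IrrCharacter U) := Finset.univ.filter fun ζ => c ζ ≠ 0
  have hSlin : ∀ ζ ∈ S, ∃ l ∈ Λ, (ζ : U → ℂ) = fun g => θ' g * (l g : ℂ) := fun ζ hζ =>
    hover ζ (hcover ζ (Finset.mem_filter.1 hζ).2)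
  have hScard : S.card ≤ N.index := by
    rw [← hΛc]
    choose! f hf hf' using hSlin
    refine Finset.card_le_card_of_injOn f hf ?_
    intro ζ hζ ζ' hζ' h
    apply Subtype.ext
    rw [hf' ζ hζ, hf' ζ' hζ', h]
  have hSdeg : ∀ ζ ∈ S, (ζ : U → ℂ) 1 = θ 1 := by
    intro ζ hζ
    obtain ⟨l, -, hl⟩ := hSlin ζ hζ
    rw [hl]
    show θ' 1 * (l 1 : ℂ) = θ 1
    rw [map_one, Units.val_one, mul_one, hθ'1]
  have hsum : ∑ ζ ∈ S, c ζ = e := by
    have h1 : ξ 1 = e * θ 1 := hres 1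
    have h2 : ξ 1 = (∑ ζ ∈ S, (c ζ : ℂ)) * θ 1 := by
      rw [hc, Finset.sum_apply, Finset.sum_mul, ← Finset.sum_filter_ne_zero]
      rw [← Finset.sum_filter_ne_zero (s := S)]
      refine Finset.sum_congr ?_ fun ζ hζ => ?_
      · ext ζ
        simp only [Finset.mem_filter, Finset.mem_univ, true_and, S, Pi.smul_apply, smul_eq_mul,
          ne_eq, mul_eq_zero, Nat.cast_eq_zero, not_or, isIrr_apply_one_ne_zero ζ.2, hθ1,
          not_false_eq_true, and_true, and_self]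
      · have h3 : ζ ∈ S := by
          rw [Finset.mem_filter] at hζ
          refine Finset.mem_filter.2 ⟨Finset.mem_univ _, fun h0 => hζ.2 ?_⟩
          rw [h0]; simp
        rw [Pi.smul_apply, smul_eq_mul, hSdeg ζ h3]
    rw [h1] at h2
    have h3 := mul_right_cancel₀ hθ1 h2
    exact_mod_cast h3.symm
  have hsq : ((∑ ζ ∈ S, c ζ ^ 2 : ℕ) : ℂ) = classInner ξ ξ := by
    have h1 : classInner ξ ξ = ∑ ζ : IrrCharacter U, (c ζ : ℂ) * conj (c ζ : ℂ) := by
      conv_lhs => rw [hc]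
      exact classInner_sum_smul_sum_smul _ _
    rw [h1]
    push_cast
    rw [Finset.sum_filter]
    refine Finset.sum_congr rfl fun ζ _ => ?_
    split_ifs with h
    · rw [Complex.conj_natCast, sq]
    · rw [not_not] at h
      rw [h]; simp
  rw [← hsq] at hnorm
  have hnorm' : (N.index : ℤ) * ∑ ζ ∈ S, (c ζ : ℤ) ^ 2 = (e : ℤ) ^ 2 + N.index - 1 := by
    have h1 : (((N.index : ℤ) * ∑ ζ ∈ S, (c ζ : ℤ) ^ 2 : ℤ) : ℂ) =
        (((e : ℤ) ^ 2 + N.index - 1 : ℤ) : ℂ) := by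
      push_cast
      push_cast at hnorm
      exact hnorm
    exact_mod_cast h1
  have hsum' : ∑ ζ ∈ S, (c ζ : ℤ) = e := by exact_mod_cast hsum
  have := comb S (fun ζ => (c ζ : ℤ)) N.index hn hScard (by rw [hnorm', hsum'])
  rwa [hsum'] at this

end Cfsg.Agent.H596.FrobRam
end

-- part: S4454
section
set_option autoImplicit false
open Cfsg

namespace Cfsg.Agent.S4454

open scoped ComplexConjugate
open Cfsg.Agent.Characters.Core
open Cfsg.Agent.CharactersDeep.NormalInd (indFun_coe indFun_of_invariant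
  classInner_indFun_of_invariant)

/-- Sums of functions on a quotient. -/
theorem sum_comp_mk {A : Type*} [Group A] [Fintype A] (B : Subgroup A) [B.Normal]
    [Fintype (A ⧸ B)] (h : A ⧸ B → ℂ) :
    ∑ a : A, h (a : A ⧸ B) = (Nat.card B : ℂ) * ∑ q : A ⧸ B, h q := by
  classical
  rw [← Finset.sum_fiberwise (s := Finset.univ) (g := fun a : A => (a : A ⧸ B)), Finset.mul_sum]
  refine Finset.sum_congr rfl fun q _ => ?_
  have h1 : ∀ a ∈ Finset.univ.filter (fun a : A => (a : A ⧸ B) = q), h (a : A ⧸ B) = h q := by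
    intro a ha
    rw [(Finset.mem_filter.1 ha).2]
  rw [Finset.sum_congr rfl h1, Finset.sum_const, nsmul_eq_mul]
  congr 2
  obtain ⟨a0, rfl⟩ := QuotientGroup.mk_surjective q
  rw [← Nat.card_eq_finsetCard]
  refine Nat.card_congr ⟨fun x => ⟨a0⁻¹ * x.1, ?_⟩, fun b => ⟨a0 * b.1, ?_⟩, fun x => ?_,
    fun b => ?_⟩
  · have := x.2
    simp only [Finset.mem_filter, Finset.mem_univ, true_and] at this
    exact QuotientGroup.eq.1 this.symm
  · simp only [Finset.mem_filter, Finset.mem_univ, true_and]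
    rw [QuotientGroup.eq, mul_inv_rev, inv_mul_cancel_right]
    exact B.inv_mem b.2
  · apply Subtype.ext
    show a0 * (a0⁻¹ * x.1) = x.1
    group
  · apply Subtype.ext
    show a0⁻¹ * (a0 * b.1) = b.1
    group

/-- Conjugation by `G` permutes the cosets of `N` in `G x` transitively when `x` has no fixed
points on `G / N`. -/
theorem sum_coset {Γ : Type*} [Group Γ] [Fintype Γ] (G N : Subgroup Γ) [hG : G.Normal]
    [hN : N.Normal] [Fintype G] [Fintype N] (hNG : N ≤ G) (x : Γ)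
    (hx : ∀ g : Γ, g ∈ G → x * g * x⁻¹ * g⁻¹ ∈ N → g ∈ N) (f : Γ → ℂ)
    (hf : ∀ g y : Γ, f (g * y * g⁻¹) = f y) :
    (Nat.card N : ℂ) * ∑ g : G, f (g * x) = (Nat.card G : ℂ) * ∑ n : N, f (n * x) := by
  classical
  let F : Γ → ℂ := fun y => ∑ n : N, f (n * y)
  have hFN : ∀ (n : N) (y : Γ), F (n * y) = F y := by
    intro n y
    refine Fintype.sum_equiv (Equiv.mulRight n) _ _ fun m => ?_
    show f (m * (n * y)) = f ((m * n : N) * y)
    rw [Subgroup.coe_mul, mul_assoc]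
  have hFc : ∀ g y : Γ, F (g * y * g⁻¹) = F y := by
    intro g y
    refine Fintype.sum_equiv (MulAut.conjNormal g⁻¹ : MulAut N).toEquiv _ _ fun m => ?_
    show f (m * (g * y * g⁻¹)) = f ((MulAut.conjNormal g⁻¹ m : N) * y)
    rw [MulAut.conjNormal_apply, ← hf g (g⁻¹ * m * g⁻¹⁻¹ * y)]
    congr 1
    group
  let B : Subgroup G := N.subgroupOf G
  have hBn : B.Normal := hN.subgroupOf G
  have := Fintype.ofFinite (G ⧸ B)
  -- `F (g x)` as a function on the quotient
  let h : G ⧸ B → ℂ := fun q => F ((Quotient.out q : G) * x)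
  have hh : ∀ g : G, h (g : G ⧸ B) = F (g * x) := by
    intro g
    have h1 : ((Quotient.out (g : G ⧸ B) : G) : G ⧸ B) = g := Quotient.out_eq _
    have h2 : (Quotient.out (g : G ⧸ B) : G) * g⁻¹ ∈ B := by
      rw [← QuotientGroup.eq_one_iff]
      show ((Quotient.out (g : G ⧸ B) : G) : G ⧸ B) * (g : G ⧸ B)⁻¹ = 1
      rw [h1, mul_inv_cancel]
    have h3 := hFN ⟨_, Subgroup.mem_subgroupOf.1 h2⟩ (g * x)
    show F _ = _
    rw [← h3]
    congr 1
    rw [Subgroup.coe_mul, Subgroup.coe_inv]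
    group
  -- the map `g ↦ g⁻¹ (x g x⁻¹)`
  let c : G → G := fun g => g⁻¹ * MulAut.conjNormal x g
  have hcF : ∀ g : G, F (c g * x) = F x := by
    intro g
    have h1 : ((c g : G) : Γ) * x = (g : Γ)⁻¹ * x * (g : Γ)⁻¹⁻¹ := by
      show ((g⁻¹ * MulAut.conjNormal x g : G) : Γ) * x = _
      rw [Subgroup.coe_mul, MulAut.conjNormal_apply, Subgroup.coe_inv]
      group
    rw [h1, hFc]
  let cb : G ⧸ B → G ⧸ B := fun q => ((c (Quotient.out q) : G) : G ⧸ B)
  have hcb : ∀ g : G, cb (g : G ⧸ B) = (c g : G ⧸ B) := by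
    intro g
    have h1 : ((Quotient.out (g : G ⧸ B) : G) : G ⧸ B) = g := Quotient.out_eq _
    rw [QuotientGroup.eq] at h1
    have h1' : (Quotient.out (g : G ⧸ B) : G)⁻¹ * g ∈ B := h1
    obtain ⟨b, hb⟩ : ∃ b : G, b = (Quotient.out (g : G ⧸ B) : G)⁻¹ * g := ⟨_, rfl⟩
    rw [← hb] at h1'
    have hg : g = Quotient.out (g : G ⧸ B) * b := by rw [hb]; group
    set o : G := Quotient.out (g : G ⧸ B) with ho
    show ((c o : G) : G ⧸ B) = (c g : G ⧸ B)
    have hconj : MulAut.conjNormal x b ∈ B := by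
      rw [Subgroup.mem_subgroupOf, MulAut.conjNormal_apply]
      exact hN.conj_mem _ (Subgroup.mem_subgroupOf.1 h1') x
    have h2 : c g = b⁻¹ * (c o * MulAut.conjNormal x b) := by
      show g⁻¹ * MulAut.conjNormal x g = b⁻¹ * (o⁻¹ * MulAut.conjNormal x o * MulAut.conjNormal x b)
      conv_lhs => rw [hg]
      rw [map_mul]
      group
    rw [h2]
    have h3 : ((b : G) : G ⧸ B) = 1 := (QuotientGroup.eq_one_iff b).2 h1'
    have h4 : ((MulAut.conjNormal x b : G) : G ⧸ B) = 1 := (QuotientGroup.eq_one_iff _).2 hconj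
    show _ = (b : G ⧸ B)⁻¹ * ((c o : G ⧸ B) * ((MulAut.conjNormal x b : G) : G ⧸ B))
    rw [h3, h4, inv_one, one_mul, mul_one]
  have hinj : Function.Injective cb := by
    intro q r hqr
    obtain ⟨g, rfl⟩ := QuotientGroup.mk_surjective q
    obtain ⟨k, rfl⟩ := QuotientGroup.mk_surjective r
    have h0 : cb (g : G ⧸ B) = cb (k : G ⧸ B) := hqr
    rw [hcb, hcb, QuotientGroup.eq, Subgroup.mem_subgroupOf] at h0
    -- c g⁻¹ c k ∈ N
    have h1 : ((c g)⁻¹ * c k : G) = (MulAut.conjNormal x g)⁻¹ * (g * k⁻¹) * MulAut.conjNormal x k := by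
      show (g⁻¹ * MulAut.conjNormal x g)⁻¹ * (k⁻¹ * MulAut.conjNormal x k) = _
      group
    rw [h1] at h0
    have h2 : x * (g * (k : Γ)⁻¹)⁻¹ * x⁻¹ * ((g * (k : Γ)⁻¹)⁻¹)⁻¹ ∈ N := by
      have h3 := hN.conj_mem _ h0 ((MulAut.conjNormal x k : G) : Γ)
      convert h3 using 1
      simp only [Subgroup.coe_mul, Subgroup.coe_inv, MulAut.conjNormal_apply]
      group
    have h3 := hx (g * (k : Γ)⁻¹)⁻¹ (G.inv_mem (G.mul_mem g.2 (G.inv_mem k.2))) h2
    show (g : G ⧸ B) = (k : G ⧸ B)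
    have h4 : ((g * k⁻¹ : G) : G ⧸ B) = 1 := by
      rw [QuotientGroup.eq_one_iff, Subgroup.mem_subgroupOf]
      have := N.inv_mem h3
      rw [inv_inv] at this
      exact this
    have h5 : (g : G ⧸ B) * (k : G ⧸ B)⁻¹ = 1 := h4
    exact mul_inv_eq_one.1 h5
  have hbij : Function.Bijective cb := Finite.injective_iff_bijective.1 hinj
  have e1 : ∑ g : G, F (g * x) = ∑ g : G, F (c g * x) := by
    have h1 : ∑ g : G, F (g * x) = ∑ g : G, h (g : G ⧸ B) :=
      Finset.sum_congr rfl fun g _ => (hh g).symm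
    have h2 : ∑ g : G, F (c g * x) = ∑ g : G, (h ∘ cb) (g : G ⧸ B) :=
      Finset.sum_congr rfl fun g _ => by rw [Function.comp_apply, hcb, hh]
    rw [h1, h2, sum_comp_mk, sum_comp_mk]
    congr 1
    exact (Function.Bijective.sum_comp hbij h).symm
  have e2 : ∑ g : G, F (c g * x) = (Nat.card G : ℂ) * F x := by
    rw [Finset.sum_congr rfl (fun g _ => hcF g), Finset.sum_const, nsmul_eq_mul,
      Finset.card_univ, Nat.card_eq_fintype_card]
  have e3 : ∑ g : G, F (g * x) = (Nat.card N : ℂ) * ∑ g : G, f (g * x) := by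
    show ∑ g : G, ∑ n : N, f (n * (g * x)) = _
    rw [Finset.sum_comm]
    have h1 : ∀ n : N, ∑ g : G, f (n * (g * x)) = ∑ g : G, f (g * x) := by
      intro n
      refine Fintype.sum_equiv (Equiv.mulLeft (⟨n, hNG n.2⟩ : G)) _ _ fun g => ?_
      show f (n * (g * x)) = f (((⟨n, hNG n.2⟩ * g : G) : Γ) * x)
      rw [Subgroup.coe_mul, mul_assoc]
    rw [Finset.sum_congr rfl (fun n _ => h1 n), Finset.sum_const, nsmul_eq_mul,
      Finset.card_univ, Nat.card_eq_fintype_card]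
  rw [← e3, e1, e2]

/-- Let N ≤ G be normal subgroups of the finite group Γ with Γ/G cyclic and Γ/N a Frobenius group with kernel G/N: G ≠ Γ, N ≠ G, and no element of Γ outside G fixes a non-identity coset of N in G under conjugation. Let ϑ be an irreducible character of N invariant under conjugation by Γ and suppose ϑ is fully ramified in G: the character of G induced from ϑ equals e·χ for an irreducible character χ of G and a natural number e. Then the index of G in Γ divides e − 1 or e + 1. -/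
theorem result {Γ : Type*} [Group Γ] [Fintype Γ] (G N : Subgroup Γ) [hG : G.Normal] [hN : N.Normal] [Fintype G] [Fintype N] (hNG : N ≤ G) (hGlt : G ≠ ⊤) (hNlt : N ≠ G) (hcyc : IsCyclic (Γ ⧸ G)) (hfrob : ∀ x : Γ, x ∉ G → ∀ g : Γ, g ∈ G → x * g * x⁻¹ * g⁻¹ ∈ N → g ∈ N) (θ : Cfsg.IrrCharacter N) (hinv : ∀ (x : Γ) (n : N), (θ : N → ℂ) ⟨x * n * x⁻¹, hN.conj_mem n n.2 x⟩ = (θ : N → ℂ) n) (χ : Cfsg.IrrCharacter G) (e : ℕ) (hram : Cfsg.indFun (N.subgroupOf G) (fun n : N.subgroupOf G => (θ : N → ℂ) ⟨(n : G), n.2⟩) = fun g => (e : ℂ) * (χ : G → ℂ) g) : (G.index : ℤ) ∣ (e : ℤ) - 1 ∨ (G.index : ℤ) ∣ (e : ℤ) + 1 := by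
  classical
  -- `θ` as a character of `N.subgroupOf G`
  set B : Subgroup G := N.subgroupOf G with hB
  have hBn : B.Normal := hN.subgroupOf G
  set θB : B → ℂ := fun n : B => (θ : N → ℂ) ⟨(n : G), n.2⟩ with hθB
  have := Fintype.ofFinite B
  have hθBirr : IsIrrCharacter B θB := by
    let φ : B →* N :=
      { toFun := fun n => ⟨(n : G), n.2⟩
        map_one' := rfl
        map_mul' := fun _ _ => rfl }
    exact isIrr_comp φ (fun n => ⟨⟨⟨n, hNG n.2⟩, n.2⟩, rfl⟩) θ.2
  have hθBinv : ∀ (g : G) (n : B), θB ⟨g * n * g⁻¹, hBn.conj_mem (n : G) n.2 g⟩ = θB n :=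
    fun g n => hinv g ⟨(n : G), n.2⟩
  have hee : (e : ℂ) ^ 2 = B.index := by
    have h1 := classInner_indFun_of_invariant B θB θB hθBinv
    rw [hram] at h1
    have h2 : (fun g => (e : ℂ) * (χ : G → ℂ) g) = (e : ℂ) • (χ : G → ℂ) := rfl
    rw [h2, classInner_smul_left, classInner_smul_right, classInner_irr_self χ.2,
      classInner_irr_self hθBirr, Complex.conj_natCast, mul_one, mul_one] at h1
    rw [sq]; exact h1
  have he0 : (e : ℂ) ≠ 0 := by
    intro h
    rw [h] at hee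
    have : (B.index : ℂ) ≠ 0 := Nat.cast_ne_zero.2 Subgroup.index_ne_zero_of_finite
    exact this (by rw [← hee]; ring)
  have hχN : ∀ (g : G) (hg : (g : Γ) ∈ N), (χ : G → ℂ) g = e * (θ : N → ℂ) ⟨g, hg⟩ := by
    intro g hg
    have h1 := indFun_of_invariant B θB hθBinv ⟨g, hg⟩
    rw [hram] at h1
    have h2 : (e : ℂ) * (χ : G → ℂ) g = B.index * (θ : N → ℂ) ⟨g, hg⟩ := h1
    rw [← hee] at h2
    apply mul_left_cancel₀ he0
    rw [h2]; ring
  have hχ0 : ∀ g : G, (g : Γ) ∉ N → (χ : G → ℂ) g = 0 := by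
    intro g hg
    have h1 := CharactersDeep.NormalInd.indFun_of_not_mem B θB (g := g) hg
    rw [hram] at h1
    exact (mul_eq_zero.1 h1).resolve_left he0
  have hχinv : ∀ (x : Γ) (g : G), (χ : G → ℂ) ⟨x * g * x⁻¹, hG.conj_mem g g.2 x⟩ =
      (χ : G → ℂ) g := by
    intro x g
    by_cases hg : (g : Γ) ∈ N
    · rw [hχN g hg, hχN _ (hN.conj_mem _ hg x), hinv x ⟨g, hg⟩]
    · rw [hχ0 g hg, hχ0]
      intro h
      apply hg
      have := hN.conj_mem _ h x⁻¹
      rwa [show x⁻¹ * (x * (g : Γ) * x⁻¹) * x⁻¹⁻¹ = g by group] at this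
  obtain ⟨χ', hχ', hext⟩ := S0886.result G hcyc χ.1 χ.2 hχinv
  have hχ'N : ∀ n : N, χ' n = e * (θ : N → ℂ) n := by
    intro n
    have h1 : χ' n = (χ : G → ℂ) ⟨n, hNG n.2⟩ := hext ⟨n, hNG n.2⟩
    exact h1.trans (hχN ⟨n, hNG n.2⟩ n.2)
  -- the function `|χ'|²`
  set f : Γ → ℂ := fun y => χ' y * conj (χ' y) with hf
  have hfc : ∀ g y : Γ, f (g * y * g⁻¹) = f y := by
    intro g y
    show χ' _ * conj (χ' _) = _
    rw [isIrr_isClassFunction hχ' y g]
  have hsumN : ∀ x : Γ, x ∉ G → ∑ n : N, f (n * x) = Nat.card N := by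
    intro x hx
    have h1 := sum_coset G N hNG x (hfrob x hx) f hfc
    have h2 := CharactersDeep.CosetAverage.cosetAverage_self G χ' hχ'
      (by rw [show (fun n : G => χ' n) = (χ : G → ℂ) from funext hext]; exact χ.2) x
    have h3 : ∑ g : G, f (g * x) = Nat.card G := by
      have h4 : (Nat.card G : ℂ) ≠ 0 := Nat.cast_ne_zero.2 Nat.card_pos.ne'
      have h5 : (Nat.card G : ℂ) * ((Nat.card G : ℂ)⁻¹ * ∑ g : G, f (g * x)) = Nat.card G := by
        rw [show (Nat.card G : ℂ)⁻¹ * ∑ g : G, f (g * x) = 1 from h2, mul_one]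
      rwa [mul_inv_cancel_left₀ h4] at h5
    rw [h3, mul_comm] at h1
    have h4 : (Nat.card G : ℂ) ≠ 0 := Nat.cast_ne_zero.2 Nat.card_pos.ne'
    exact (mul_left_cancel₀ h4 h1).symm
  have hsumN1 : ∑ n : N, f n = e ^ 2 * Nat.card N := by
    have h1 : ∀ n : N, f n = e ^ 2 * ((θ : N → ℂ) n * conj ((θ : N → ℂ) n)) := by
      intro n
      show χ' n * conj (χ' n) = _
      rw [hχ'N, map_mul, Complex.conj_natCast]; ring
    rw [Finset.sum_congr rfl (fun n _ => h1 n), ← Finset.mul_sum]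
    have h2 := classInner_irr_self θ.2
    rw [classInner_def] at h2
    have h4 : (Nat.card N : ℂ) ≠ 0 := Nat.cast_ne_zero.2 Nat.card_pos.ne'
    have h5 := congrArg (fun z => (Nat.card N : ℂ) * z) h2
    simp only [mul_inv_cancel_left₀ h4, mul_one] at h5
    rw [h5]
  -- the cyclic supplement
  obtain ⟨q0, hq0⟩ := hcyc.exists_generator
  obtain ⟨x0, rfl⟩ := QuotientGroup.mk_surjective q0
  have hord : orderOf (x0 : Γ ⧸ G) = G.index := orderOf_eq_card_of_forall_mem_zpowers hq0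
  have hx0 : x0 ∉ G := by
    intro h
    apply hGlt
    rw [← Subgroup.index_eq_one, ← hord, (QuotientGroup.eq_one_iff x0).2 h, orderOf_one]
  have hx0N : x0 ^ G.index ∈ N := by
    refine hfrob x0 hx0 _ (Subgroup.pow_index_mem G x0) ?_
    have : x0 * x0 ^ G.index * x0⁻¹ * (x0 ^ G.index)⁻¹ = 1 := by
      rw [← pow_succ', pow_succ, mul_inv_cancel_right, mul_inv_cancel]
    rw [this]; exact N.one_mem
  have hpow : ∀ i : ℤ, x0 ^ i ∈ G → x0 ^ i ∈ N := by
    intro i hi
    have h1 : (x0 : Γ ⧸ G) ^ i = 1 := by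
      rw [← QuotientGroup.mk_zpow]; exact (QuotientGroup.eq_one_iff _).2 hi
    rw [← orderOf_dvd_iff_zpow_eq_one, hord] at h1
    obtain ⟨j, rfl⟩ := h1
    rw [zpow_mul, zpow_natCast]
    exact N.zpow_mem hx0N j
  let U : Subgroup Γ := N ⊔ Subgroup.zpowers x0
  have := Fintype.ofFinite U
  let φ : U →* Γ ⧸ G := (QuotientGroup.mk' G).comp U.subtype
  have hφs : Function.Surjective φ := by
    intro q
    obtain ⟨i, hi⟩ := Subgroup.mem_zpowers_iff.1 (hq0 q)
    refine ⟨⟨x0 ^ i, (le_sup_right : _ ≤ U) ⟨i, rfl⟩⟩, ?_⟩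
    rw [← hi]; rfl
  have hkerG : ∀ u : U, u ∈ φ.ker ↔ (u : Γ) ∈ G := fun u =>
    QuotientGroup.eq_one_iff (u : Γ)
  have hkerN : ∀ u : U, u ∈ φ.ker ↔ (u : Γ) ∈ N := by
    intro u
    rw [hkerG]
    refine ⟨fun hu => ?_, fun hu => hNG hu⟩
    obtain ⟨n, hn, y, hy, hny⟩ := Subgroup.mem_sup_of_normal_left.1 u.2
    obtain ⟨i, rfl⟩ := Subgroup.mem_zpowers_iff.1 hy
    rw [← hny] at hu ⊢
    refine N.mul_mem hn (hpow i ?_)
    exact (Subgroup.mul_mem_cancel_left G (hNG hn)).1 hu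
  have hidx : φ.ker.index = G.index := by
    rw [Subgroup.index_ker, MonoidHom.range_eq_top.2 hφs]
    exact Nat.card_congr Subgroup.topEquiv.toEquiv
  have hcycU : IsCyclic (U ⧸ φ.ker) :=
    isCyclic_of_injective (QuotientGroup.kerLift φ) (QuotientGroup.kerLift_injective φ)
  have hidx2 : 2 ≤ φ.ker.index := by
    rw [hidx]
    have h1 : G.index ≠ 0 := Subgroup.index_ne_zero_of_finite
    have h2 : G.index ≠ 1 := fun h => hGlt (Subgroup.index_eq_one.1 h)
    omega
  have := Fintype.ofFinite φ.ker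
  let ι : φ.ker ≃ N :=
    { toFun := fun n => ⟨((n : U) : Γ), (hkerN n.1).1 n.2⟩
      invFun := fun n => ⟨⟨n, (le_sup_left : N ≤ U) n.2⟩, (hkerN _).2 n.2⟩
      left_inv := fun _ => rfl
      right_inv := fun _ => rfl }
  have hιirr : IsIrrCharacter φ.ker (fun n => (θ : N → ℂ) (ι n)) := by
    let ι' : φ.ker →* N :=
      { toFun := ι
        map_one' := rfl
        map_mul' := fun _ _ => rfl }
    exact isIrr_comp ι' ι.surjective θ.2
  have hcardker : Nat.card φ.ker = Nat.card N := Nat.card_congr ι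
  have hkey := H596.FrobRam.congr_of_norm φ.ker hcycU hidx2 (fun n => (θ : N → ℂ) (ι n)) hιirr
    (fun g n => hinv (g : Γ) (ι n)) (fun u : U => χ' u)
    (Characters.Clifford.isCharacter_restrict U (isIrr_isCharacter hχ')) e
    (fun n => hχ'N (ι n)) ?_
  · rwa [hidx] at hkey
  -- the norm
  have hcU : (Nat.card U : ℂ) ≠ 0 := Nat.cast_ne_zero.2 Nat.card_pos.ne'
  have hcN : (Nat.card N : ℂ) ≠ 0 := Nat.cast_ne_zero.2 Nat.card_pos.ne'
  have hUN : (Nat.card N : ℂ) * φ.ker.index = Nat.card U := by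
    rw [← hcardker]
    exact_mod_cast Subgroup.card_mul_index φ.ker
  have hS : (Nat.card N : ℂ) * ∑ u : U, f u =
      Nat.card N * (e ^ 2 * Nat.card N + (Nat.card U - Nat.card N)) := by
    have h1 : ∑ u : U, ∑ n : N, f (n * u) = (Nat.card N : ℂ) * ∑ u : U, f u := by
      rw [Finset.sum_comm]
      have h2 : ∀ n : N, ∑ u : U, f (n * u) = ∑ u : U, f u := by
        intro n
        refine Fintype.sum_equiv (Equiv.mulLeft (⟨n, (le_sup_left : N ≤ U) n.2⟩ : U)) _ _
          fun u => ?_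
        rfl
      rw [Finset.sum_congr rfl (fun n _ => h2 n), Finset.sum_const, nsmul_eq_mul,
        Finset.card_univ, Nat.card_eq_fintype_card]
    have h2 : ∀ u : U, ∑ n : N, f (n * u) =
        if u ∈ φ.ker then (e : ℂ) ^ 2 * Nat.card N else (Nat.card N : ℂ) := by
      intro u
      split_ifs with hu
      · have hu' := (hkerN u).1 hu
        rw [← hsumN1]
        exact Fintype.sum_equiv (Equiv.mulRight (⟨u, hu'⟩ : N)) _ _ fun n => rfl
      · exact hsumN u fun h => hu ((hkerG u).2 h)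
    rw [← h1, Finset.sum_congr rfl (fun u _ => h2 u), Finset.sum_ite, Finset.sum_const,
      Finset.sum_const, nsmul_eq_mul, nsmul_eq_mul]
    have h3 : ((Finset.univ.filter (fun u : U => u ∈ φ.ker)).card : ℂ) = Nat.card N := by
      rw [← hcardker, ← Nat.card_eq_finsetCard]
      congr 1
      exact Nat.card_congr (Equiv.subtypeEquivRight fun u => by simp)
    have h4 : ((Finset.univ.filter (fun u : U => ¬ u ∈ φ.ker)).card : ℂ) =
        Nat.card U - Nat.card N := by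
      have h5 := Finset.card_filter_add_card_filter_not (s := (Finset.univ : Finset U))
        (p := fun u : U => u ∈ φ.ker)
      rw [Finset.card_univ, ← Nat.card_eq_fintype_card] at h5
      rw [← h5]
      push_cast
      rw [h3]; ring
    rw [h3, h4]; ring
  have hS' : ∑ u : U, f u = e ^ 2 * Nat.card N + (Nat.card U - Nat.card N) :=
    mul_left_cancel₀ hcN hS
  rw [classInner_def]
  have h6 : ∑ g : U, (fun u : U => χ' u) g * conj ((fun u : U => χ' u) g) = ∑ u : U, f u := rfl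
  rw [h6, hS', ← hUN]
  have h7 : (φ.ker.index : ℂ) ≠ 0 := Nat.cast_ne_zero.2 (by omega)
  field_simp
  ring

end Cfsg.Agent.S4454
end
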