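import Cfsg.Statements.S4639
import Cfsg.Agent.H639.Small3
set_option linter.all false

set_option autoImplicit false
open Cfsg

namespace Cfsg.Agent.S4639

/-- Let B be a block of the finite group G relative to a maximal ideal M of the algebraic integers containing the prime p, with a nontrivial commutative defect group P. Let c be a block of C_G(P) inducing B, T the stabilizer of c in N_G(P) and e the index of C_G(P) in T. Suppose that T/C_G(P) is commutative (all commutators of elements of T lie in C_G(P)) and acts freely on the non-identity elements of P (an element of T fixing a non-identity element of P under conjugation lies in C_G(P)). Then B has at most e + (#P − 1)/e irreducible characters and p-regular rank at most e; equality holds in the first bound exactly when it holds in the second; and both equalities hold when e ≤ 3. -/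
theorem result {G : Type*} [Group G] [Finite G] (p : ℕ) [Fact p.Prime] (M : Ideal Cfsg.AlgInt) (hM : Cfsg.IsPModular p M) (B : Set (Cfsg.IrrCharacter G)) (hB : Cfsg.IsPBlock M B) (P : Subgroup G) (hPD : Cfsg.IsDefectGroup p M B P) (hP1 : P ≠ ⊥) (hPab : ∀ x ∈ P, ∀ y ∈ P, x * y = y * x) (c : Set (Cfsg.IrrCharacter (Subgroup.centralizer (P : Set G)))) (hc : Cfsg.IsInducedBlock M (Subgroup.centralizer (P : Set G)) c B) (T : Subgroup G) (hT : ∀ g : G, g ∈ T ↔ (g ∈ Subgroup.normalizer (P : Set G) ∧ Cfsg.StabilizesBlock (Subgroup.centralizer (P : Set G)) c g)) (e : ℕ) (he : (Subgroup.centralizer (P : Set G)).relIndex T = e) (hEab : ∀ g ∈ T, ∀ h ∈ T, g * h * g⁻¹ * h⁻¹ ∈ Subgroup.centralizer (P : Set G)) (hfree : ∀ g ∈ T, ∀ x ∈ P, x ≠ 1 → g * x * g⁻¹ = x → g ∈ Subgroup.centralizer (P : Set G)) : Nat.card B ≤ e + (Nat.card P - 1) / e ∧ Cfsg.blockRank p B ≤ e ∧ (Nat.card B = e + (Nat.card P - 1) / e ↔ Cfsg.blockRank p B = e) ∧ (e ≤ 3 → Nat.card B = e + (Nat.card P - 1) / e ∧ Cfsg.blockRank p B = e) := by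
  classical
  have := Fintype.ofFinite G
  have := Cfsg.Agent.H639.isPrime_of hM
  obtain ⟨c', ζ, hF⟩ := Cfsg.Agent.H639.exists_full hM hPD hP1 hPab hc
    (fun g hg hg' => hfree g ((hT g).2 ⟨hg, hg'⟩))
  have h4 := Cfsg.Agent.H639.card_inQ hF.hs
  rw [Cfsg.Agent.H639.stabT_eq hM hc.1 hT] at h4
  change _ = (Subgroup.centralizer (P : Set G)).relIndex T at h4
  rw [he] at h4
  have h5 := hF.card_Orb
  rw [h4] at h5
  change e * _ + 1 = Nat.card P at h5
  have he0 : 0 < e := by
    rw [← h4]
    exact Cfsg.Agent.H639.Full.card_inQ_pos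
  have h6 : (Nat.card P - 1) / e = Nat.card (Cfsg.Agent.H639.Orb (⟨P, c⟩ : Cfsg.BrauerPairIdx G)) := by
    rw [← h5, Nat.add_sub_cancel, Nat.mul_div_cancel_left _ he0]
  have h7 := hF.card_le
  have h8 := hF.blockRank_le
  have h9 := hF.card_eq_iff
  rw [h4] at h7 h8 h9
  rw [h6]
  refine ⟨h7, h8, h9, fun he3 => ?_⟩
  have h10 := Cfsg.Agent.H639.Full.card_eq_of_le_three hF (by rw [h4]; exact he3)
  rw [h4] at h10
  exact ⟨h10, h9.1 h10⟩

end Cfsg.Agent.S4639
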