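import Cfsg.Statements.S4552
import Cfsg.Agent.S4639
import Cfsg.Agent.S4437
import Cfsg.Agent.S0973
import Cfsg.Agent.H644.Maximal
import Cfsg.Agent.Blocks.Homocyclic
set_option linter.all false

set_option autoImplicit false
open Cfsg

namespace Cfsg.Agent.S4552

open Cfsg.Agent.Blocks.Homocyclic

/-- an element normalizing `P`, some odd power of which centralizes `P`, and which centralizes a
nontrivial element of `P`, centralizes `P` (homocyclic rank two). -/
theorem conj_eq_of_conj_eq {G : Type*} [Group G] [Finite G] (P : Subgroup G) (hP : IsPGroup 2 P)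
    (hcomm : ∀ x ∈ P, ∀ y ∈ P, x * y = y * x)
    (h3 : Set.ncard {x : G | x ∈ P ∧ orderOf x = 2} ≤ 3)
    (x : G) (hx : ∀ y ∈ P, x * y * x⁻¹ ∈ P) (k : ℕ) (hk : Odd k)
    (hxk : ∀ y ∈ P, x ^ k * y = y * x ^ k) (z : G) (hz : z ∈ P) (hz1 : z ≠ 1)
    (hxz : x * z * x⁻¹ = z) : ∀ y ∈ P, x * y * x⁻¹ = y := by
  have hord : ∃ j, orderOf z = 2 ^ (j + 1) := by
    obtain ⟨n, hn⟩ := hP ⟨z, hz⟩
    have hn' : z ^ (2 ^ n) = 1 := by simpa using congrArg Subtype.val hn
    obtain ⟨j, hj, hj'⟩ := (Nat.dvd_prime_pow Nat.prime_two).1 (orderOf_dvd_of_pow_eq_one hn')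
    cases j with
    | zero => exact absurd (orderOf_eq_one_iff.1 (by simpa using hj')) hz1
    | succ j => exact ⟨j, hj'⟩
  obtain ⟨j, hj⟩ := hord
  have hz2 : orderOf (z ^ (2 ^ j)) = 2 := by
    rw [orderOf_pow, hj, Nat.gcd_eq_right (pow_dvd_pow 2 (Nat.le_succ j)), pow_succ]
    exact Nat.mul_div_cancel_left _ (by positivity)
  have hxz' : x * z ^ (2 ^ j) * x⁻¹ = z ^ (2 ^ j) := by
    have h1 : Commute x z := by
      change x * z = z * x
      rwa [mul_inv_eq_iff_eq_mul] at hxz
    have : Commute x (z ^ (2 ^ j)) := h1.pow_right _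
    rw [this.eq, mul_inv_cancel_right]
  exact commute_of_odd P hP hcomm h3 x hx k hk hxk _ (P.pow_mem hz _) hz2 hxz'

/-- Let B be a 2-block of the finite group G (relative to a maximal ideal M of the algebraic integers containing 2) whose defect group D is the direct product of two cyclic groups of the same order 2 ^ m, m ≥ 2. Then either B has 2-regular rank one and exactly 4 ^ m irreducible characters, or B has 2-regular rank three and exactly (4 ^ m + 8) / 3 irreducible characters. -/
theorem result {G : Type*} [Group G] [Finite G] (M : Ideal Cfsg.AlgInt) (hM : Cfsg.IsPModular 2 M) (B : Set (Cfsg.IrrCharacter G)) (hB : Cfsg.IsPBlock M B) (D : Subgroup G) (hD : Cfsg.IsDefectGroup 2 M B D) (m : ℕ) (hm : 2 ≤ m) (hiso : Nonempty (D ≃* Multiplicative (ZMod (2 ^ m) × ZMod (2 ^ m)))) : (Cfsg.blockRank 2 B = 1 ∧ Nat.card B = 4 ^ m) ∨ (Cfsg.blockRank 2 B = 3 ∧ 3 * Nat.card B = 4 ^ m + 8) := by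
  classical
  have : Fact (Nat.Prime 2) := ⟨Nat.prime_two⟩
  have : M.IsPrime := hM.2.1.isPrime
  obtain ⟨φ⟩ := hiso
  have hcomm : ∀ x ∈ D, ∀ y ∈ D, x * y = y * x := by
    intro x hx y hy
    have : (⟨x, hx⟩ : D) * ⟨y, hy⟩ = ⟨y, hy⟩ * ⟨x, hx⟩ := by
      apply φ.injective
      rw [map_mul, map_mul, mul_comm]
    exact congrArg Subtype.val this
  have hcard : Nat.card D = 4 ^ m := by
    rw [Nat.card_congr φ.toEquiv, Nat.card_congr Multiplicative.toAdd, Nat.card_prod,
      Nat.card_zmod, ← mul_pow]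
    norm_num
  have hDp : IsPGroup 2 D := IsPGroup.of_card (n := 2 * m) (by rw [hcard, pow_mul]; norm_num)
  have hD1 : D ≠ ⊥ := by
    rintro rfl
    rw [Subgroup.card_bot] at hcard
    have : 1 < 4 ^ m := Nat.one_lt_pow (by omega) (by norm_num)
    omega
  have h3 : Set.ncard {x : G | x ∈ D ∧ orderOf x = 2} ≤ 3 := ncard_involutions_subgroup_le D m φ
  have hDC : D ≤ Subgroup.centralizer (D : Set G) := by
    intro x hx
    rw [Subgroup.mem_centralizer_iff]
    intro y hy
    exact hcomm y hy x hx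
  have hL : D ⊔ Subgroup.centralizer (D : Set G) = Subgroup.centralizer (D : Set G) :=
    sup_eq_right.2 hDC
  have key : ∀ L : Subgroup G, L = D ⊔ Subgroup.centralizer (D : Set G) →
      ∃ b : Set (IrrCharacter L), IsDefectGroup 2 M b (D.subgroupOf L) ∧
        IsInducedBlock M L b B := by
    rintro L rfl
    exact (S0973.result 2 M hM B hB D hD).1
  obtain ⟨c, hcD, hc⟩ := key _ hL.symm
  obtain ⟨T, hTdef⟩ : ∃ T : Subgroup G, T = H644.pairStab M D c := ⟨_, rfl⟩
  have hT : ∀ g : G, g ∈ T ↔ (g ∈ Subgroup.normalizer (D : Set G) ∧ StabilizesBlock (Subgroup.centralizer (D : Set G)) c g) :=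
    fun g => hTdef ▸ H644.mem_pairStab_iff_stabilizesBlock hM hc.1
  have hCT : Subgroup.centralizer (D : Set G) ≤ T := hTdef ▸ H644.centralizer_le_pairStab D c
  have hDT : D ≤ T := hTdef ▸ H644.le_pairStab D c
  have hnorm : ∀ g ∈ T, ∀ y ∈ D, g * y * g⁻¹ ∈ D := fun g hg y hy =>
    (Subgroup.mem_normalizer_iff.1 ((hT g).1 hg).1 y).1 hy
  -- the inertial index is odd
  have hodd : Odd ((Subgroup.centralizer (D : Set G)).relIndex T) := by
    let _ := Fintype.ofFinite G
    let _ := Fintype.ofFinite (Subgroup.centralizer (D : Set G))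
    have h1 := (S4437.result 2 M hM D hDp (Subgroup.centralizer (D : Set G)) hL.symm c hc.1 hcD B hc T (by
      intro g
      rw [hT g]
      refine and_congr_right fun hg => ?_
      constructor
      · rintro ⟨hgC, h⟩ θ hθ θ' hθ'
        obtain ⟨χ', hχ', h1⟩ := h θ hθ
        have : θ' = χ' := by
          apply Subtype.ext
          funext k
          have hk : g⁻¹ * (k : G) * g ∈ Subgroup.centralizer (D : Set G) := by
            have := (Subgroup.mem_normalizer_iff.1 (Subgroup.inv_mem _ hgC) (k : G)).1 k.2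
            simpa using this
          have e1 : (k : G) = g * ((⟨g⁻¹ * (k : G) * g, hk⟩ : Subgroup.centralizer (D : Set G)) : G) * g⁻¹ := by
            simp only; group
          exact (hθ' _ _ e1).trans (h1 _ _ e1).symm
        rw [this]
        exact hχ'
      · intro h
        have hgC : g ∈ Subgroup.normalizer ((Subgroup.centralizer (D : Set G) : Subgroup G) : Set G) := H644.mem_normalizer_centralizer hg
        refine ⟨hgC, fun χ hχ => ?_⟩
        have hh := H644.mem_iff_conj_mem_of_mem_normalizer hgC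
        refine ⟨H644.irrMap (H644.cjE g _ _ hh) χ, h χ hχ _ ?_, ?_⟩
        · intro k k' hk
          have : k' = H644.cjE g _ _ hh k := by
            apply Subtype.ext
            rw [H644.coe_cjE, hk]
          rw [this, H644.irrMap_apply_map]
        · intro k k' hk
          have : k' = H644.cjE g _ _ hh k := by
            apply Subtype.ext
            rw [H644.coe_cjE, hk]
          rw [this, H644.irrMap_apply_map])).1 hD
    rw [← Nat.not_even_iff_odd, even_iff_two_dvd]
    exact h1
  have hCnorm : ((Subgroup.centralizer (D : Set G)).subgroupOf T).Normal := by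
    refine ⟨fun x hx t => ?_⟩
    rw [Subgroup.mem_subgroupOf] at hx ⊢
    exact (Subgroup.mem_normalizer_iff.1
      (H644.mem_normalizer_centralizer ((hT t).1 t.2).1) _).1 hx
  have hpow : ∀ g ∈ T, g ^ ((Subgroup.centralizer (D : Set G)).relIndex T) ∈ Subgroup.centralizer (D : Set G) := by
    intro g hg
    have := Subgroup.pow_index_mem ((Subgroup.centralizer (D : Set G)).subgroupOf T) ⟨g, hg⟩
    exact this
  have hfree : ∀ g ∈ T, ∀ x ∈ D, x ≠ 1 → g * x * g⁻¹ = x → g ∈ Subgroup.centralizer (D : Set G) := by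
    intro g hg x hx hx1 hgx
    have h5 := conj_eq_of_conj_eq D hDp hcomm h3 g (hnorm g hg) _ hodd
      (fun y hy => ((Subgroup.mem_centralizer_iff.1 (hpow g hg)) y hy).symm) x hx hx1 hgx
    rw [Subgroup.mem_centralizer_iff]
    intro y hy
    have := h5 y hy
    rw [mul_inv_eq_iff_eq_mul] at this
    exact this.symm
  -- the inertial index is one or three
  obtain ⟨z, hzD, hz2⟩ : ∃ z ∈ D, orderOf z = 2 := by
    have hdvd : 2 ∣ Nat.card D := by
      rw [hcard]
      exact dvd_pow (by norm_num) (by omega)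
    obtain ⟨z, hz⟩ := exists_prime_orderOf_dvd_card' 2 hdvd
    exact ⟨z, z.2, by rw [Subgroup.orderOf_coe, hz]⟩
  have hz1 : z ≠ 1 := by
    rintro rfl
    simp at hz2
  have hle : (Subgroup.centralizer (D : Set G)).relIndex T ≤ 3 := by
    let _ : MulAction T G := MulAction.compHom G ((MulAut.conj (G := G)).comp T.subtype)
    have hsmul : ∀ (x : T) (g : G), x • g = (x : G) * g * (x : G)⁻¹ := fun x g => rfl
    have h1 := MulAction.index_stabilizer T z
    have h2 : MulAction.orbit T z ⊆ {x : G | x ∈ D ∧ orderOf x = 2} := by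
      rintro _ ⟨x, rfl⟩
      refine ⟨hnorm x x.2 z hzD, ?_⟩
      rw [← hz2]
      exact (MulAut.conj (x : G)).orderOf_eq z
    have h4 : MulAction.stabilizer T z = (Subgroup.centralizer (D : Set G)).subgroupOf T := by
      ext x
      rw [MulAction.mem_stabilizer_iff, hsmul, Subgroup.mem_subgroupOf]
      constructor
      · intro h
        exact hfree x x.2 z hzD hz1 h
      · intro h
        have := Subgroup.mem_centralizer_iff.1 h z hzD
        rw [← this, mul_inv_cancel_right]
    have h5 : (Subgroup.centralizer (D : Set G)).relIndex T = (MulAction.orbit T z).ncard := by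
      rw [← h1, h4]
      rfl
    rw [h5]
    exact (Set.ncard_le_ncard h2 (Set.toFinite _)).trans h3
  have he : (Subgroup.centralizer (D : Set G)).relIndex T = 1 ∨ (Subgroup.centralizer (D : Set G)).relIndex T = 3 := by
    obtain ⟨r, hr⟩ := hodd
    omega
  have hEab : ∀ g ∈ T, ∀ h ∈ T, g * h * g⁻¹ * h⁻¹ ∈ Subgroup.centralizer (D : Set G) := by
    intro g hg h hh
    rcases he with he | he
    · have hTC : T ≤ Subgroup.centralizer (D : Set G) := Subgroup.relIndex_eq_one.1 he
      exact (Subgroup.centralizer (D : Set G)).mul_mem ((Subgroup.centralizer (D : Set G)).mul_mem ((Subgroup.centralizer (D : Set G)).mul_mem (hTC hg) (hTC hh)) ((Subgroup.centralizer (D : Set G)).inv_mem (hTC hg)))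
        ((Subgroup.centralizer (D : Set G)).inv_mem (hTC hh))
    · have hc3 : Nat.card (T ⧸ (Subgroup.centralizer (D : Set G)).subgroupOf T) = 3 := he
      have : Fact (Nat.Prime 3) := ⟨Nat.prime_three⟩
      have : IsCyclic (T ⧸ (Subgroup.centralizer (D : Set G)).subgroupOf T) := isCyclic_of_prime_card hc3
      have h7 : ∀ a b : T ⧸ (Subgroup.centralizer (D : Set G)).subgroupOf T, a * b = b * a := fun a b =>
        (IsCyclic.isMulCommutative (α := T ⧸ (Subgroup.centralizer (D : Set G)).subgroupOf T)).is_comm.comm a b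
      have h8 : ((⟨g, hg⟩ * ⟨h, hh⟩ * ⟨g, hg⟩⁻¹ * ⟨h, hh⟩⁻¹ : T) : T ⧸ (Subgroup.centralizer (D : Set G)).subgroupOf T) = 1 := by
        rw [QuotientGroup.mk_mul, QuotientGroup.mk_mul, QuotientGroup.mk_mul,
          QuotientGroup.mk_inv, QuotientGroup.mk_inv,
          h7 (QuotientGroup.mk ⟨g, hg⟩) (QuotientGroup.mk ⟨h, hh⟩)]
        group
      rw [QuotientGroup.eq_one_iff, Subgroup.mem_subgroupOf] at h8
      exact h8
  obtain ⟨-, -, -, hfin⟩ := S4639.result 2 M hM B hB D hD hD1 hcomm c hc T hT ((Subgroup.centralizer (D : Set G)).relIndex T) rfl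
    hEab hfree
  obtain ⟨hk, hl⟩ := hfin hle
  have h4 : 1 ≤ 4 ^ m := Nat.one_le_pow _ _ (by norm_num)
  rcases he with he | he
  · left
    rw [he] at hk hl
    refine ⟨hl, ?_⟩
    rw [hk, hcard, Nat.div_one]
    omega
  · right
    rw [he] at hk hl
    refine ⟨hl, ?_⟩
    have hdvd : 3 ∣ 4 ^ m - 1 := by
      have := Nat.sub_dvd_pow_sub_pow 4 1 m
      simpa using this
    rw [hk, hcard]
    omega

end Cfsg.Agent.S4552
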