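import Cfsg.Statements.S5192
import Cfsg.Agent.H767.FusTransfer
set_option linter.all false

set_option autoImplicit false
open Cfsg

namespace Cfsg.Agent.S5192

open Cfsg.FusionSystem Cfsg.Agent.H802 Cfsg.Agent.H767.Biset Cfsg.Agent.H767.Transfer Cfsg.Agent.H767.FusTransfer

/-- For an element of order two, normalizing the generated subgroup is centralizing the element. -/
theorem mem_normalizer_zpowers {G : Type*} [Group G] {j : G} (hj : orderOf j = 2) (w : G) :
    w ∈ Subgroup.normalizer (Subgroup.zpowers j : Set G) ↔ w * j = j * w := by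
  rw [Subgroup.mem_normalizer_iff]
  constructor
  · intro h
    have h1 := (h j).1 (Subgroup.mem_zpowers j)
    rw [Subgroup.mem_zpowers_iff] at h1
    obtain ⟨k, hk⟩ := h1
    have h2 : j ^ 2 = 1 := by rw [← hj]; exact pow_orderOf_eq_one j
    rcases Int.even_or_odd' k with ⟨l, hl | hl⟩
    · exfalso
      have h3 : j ^ k = 1 := by
        rw [hl, zpow_mul]
        have : j ^ (2 : ℤ) = 1 := by exact_mod_cast h2
        rw [this, one_zpow]
      rw [h3] at hk
      have h4 : j = 1 := by
        have h5 : w⁻¹ * (w * j * w⁻¹) * w = 1 := by rw [← hk]; group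
        have h6 : w⁻¹ * (w * j * w⁻¹) * w = j := by group
        rw [← h6, h5]
      rw [h4, orderOf_one] at hj
      omega
    · have h3 : j ^ k = j := by
        rw [hl, zpow_add, zpow_mul, zpow_one]
        have : j ^ (2 : ℤ) = 1 := by exact_mod_cast h2
        rw [this, one_zpow, one_mul]
      rw [h3] at hk
      rw [eq_mul_inv_iff_mul_eq] at hk
      exact hk.symm
  · intro h x
    have h1 : ∀ (k : ℤ), w * j ^ k * w⁻¹ = j ^ k := by
      intro k
      have h2 : w * j * w⁻¹ = j := by rw [h]; group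
      rw [← conj_zpow, h2]
    constructor
    · rintro ⟨k, rfl⟩
      exact ⟨k, (h1 k).symm⟩
    · rintro ⟨k, hk⟩
      refine ⟨k, ?_⟩
      simp only at hk ⊢
      have h2 := h1 k
      rw [hk] at h2
      have h3 : w⁻¹ * (w * (w * x * w⁻¹) * w⁻¹) * w = w⁻¹ * (w * x * w⁻¹) * w := by rw [h2]
      have h4 : w * x * w⁻¹ = x := by
        have h5 : w⁻¹ * (w * (w * x * w⁻¹) * w⁻¹) * w = w * x * w⁻¹ := by group
        have h6 : w⁻¹ * (w * x * w⁻¹) * w = x := by group
        rw [h5, h6] at h3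
        exact h3
      rw [hk, h4]

/-- A Thompson-type transfer for saturated fusion systems. Let F be a saturated fusion system on a finite 2-group S, T a subgroup of S of index 2, and i an involution of S such that every fully normalized F-conjugate of i lies in S but outside T. Then i does not lie in the hyperfocal subgroup of F (the Sylow group of the 2-residual subsystem). -/
theorem result {Ω : Type*} [Group Ω] [Finite Ω] {S : Subgroup Ω}
    (hS : IsPGroup 2 ↥S) (F : Cfsg.FusionSystem S) (hF : F.IsSaturated 2)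
    (T : Subgroup Ω) (hTS : T ≤ S) (hT : T.relIndex S = 2)
    (i : Ω) (hi : i ∈ S) (hi2 : orderOf i = 2)
    (h : ∀ j : Ω, F.IsConjElt i j → F.IsFullyNormalized (Subgroup.zpowers j) → j ∉ T) :
    i ∉ F.hyperfocalSubgroup 2 := by
  classical
  have : Finite S := inferInstance
  -- the sign character
  have hidx : (T.subgroupOf S).index = 2 := hT
  let θ : S →* ℤˣ := MonoidHom.mk' (fun x => if x ∈ T.subgroupOf S then 1 else -1) (by
    intro a b
    have h1 := Subgroup.mul_mem_iff_of_index_two hidx (a := a) (b := b)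
    by_cases ha : a ∈ T.subgroupOf S <;> by_cases hb : b ∈ T.subgroupOf S
    · have : a * b ∈ T.subgroupOf S := h1.2 (iff_of_true ha hb)
      simp [this, ha, hb]
    · have : a * b ∉ T.subgroupOf S := fun hh => hb ((h1.1 hh).1 ha)
      simp [this, ha, hb]
    · have : a * b ∉ T.subgroupOf S := fun hh => ha ((h1.1 hh).2 hb)
      simp [this, ha, hb]
    · have : a * b ∈ T.subgroupOf S := h1.2 (iff_of_false ha hb)
      simp [this, ha, hb])
  have hθ : ∀ x : S, x ∉ T.subgroupOf S → θ x = -1 := fun x hx => by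
    show (if x ∈ T.subgroupOf S then (1 : ℤˣ) else -1) = -1
    rw [if_neg hx]
  -- a fully normalized conjugate
  have hzS : Subgroup.zpowers i ≤ S := by
    rw [Subgroup.zpowers_le]
    exact hi
  obtain ⟨Q, hQc, hQn⟩ := exists_isFullyNormalized (p := 2) hS hF hzS
  obtain ⟨φ₀, hφ₀, hφ₀r⟩ := hQc
  set i₀ : Ω := φ₀ ⟨i, Subgroup.mem_zpowers i⟩ with hi₀
  have hQz : Q = Subgroup.zpowers i₀ := by
    rw [← hφ₀r]
    ext y
    constructor
    · rintro ⟨⟨_, k, rfl⟩, rfl⟩
      refine ⟨k, ?_⟩
      show i₀ ^ k = _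
      rw [hi₀, ← map_zpow]
      rfl
    · rintro ⟨k, rfl⟩
      refine ⟨⟨i, Subgroup.mem_zpowers i⟩ ^ k, ?_⟩
      rw [map_zpow]
  have hi₀S : i₀ ∈ S := hom_apply_mem hφ₀ _
  have hconj0 : F.IsConjElt i i₀ := ⟨φ₀, hφ₀, rfl⟩
  have hord : orderOf i₀ = 2 := by
    rw [hi₀, orderOf_injective φ₀ (F.injective_of_mem hφ₀), ← hi2]
    exact (Subgroup.orderOf_mk i _)
  -- the transfer
  obtain ⟨X, _, _, m, hX, hs, hm, hpm⟩ := exists_char_biset hS hF
  obtain ⟨f, hf⟩ := exists_isSec (G := S) (X := X) θ (fun r x h => gen_free hX r x h)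
  have hii : (⟨i₀, hi₀S⟩ : S) * ⟨i₀, hi₀S⟩ = 1 := by
    apply Subtype.ext
    show i₀ * i₀ = 1
    rw [← pow_two, ← hord, pow_orderOf_eq_one]
  have key : tr hf ⟨i₀, hi₀S⟩ = -1 := by
    refine tr_involution hS hX hf hm hpm ⟨i₀, hi₀S⟩ hii ?_
    intro P φ hφ hiP hw
    set j : Ω := φ ⟨i₀, hiP⟩ with hj
    have hle : Subgroup.zpowers i₀ ≤ P := by
      rw [Subgroup.zpowers_le]
      exact hiP
    have hjord : orderOf j = 2 := by
      rw [hj, orderOf_injective φ (F.injective_of_mem hφ), ← hord]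
      exact Subgroup.orderOf_mk i₀ _
    -- i is conjugate to j
    have hconj1 : F.IsConjElt i j := by
      obtain ⟨χ, hχ, hχe⟩ := exists_comp hφ₀ hφ (fun x => by
        have h1 : φ₀ x ∈ Q := hφ₀r.le ⟨x, rfl⟩
        rw [hQz] at h1
        exact hle h1)
      exact ⟨χ, hχ, hχe _⟩
    -- zpowers j is conjugate to zpowers i₀
    have hconj2 : F.IsConj (Subgroup.zpowers i₀) (Subgroup.zpowers j) := by
      refine ⟨φ.comp (Subgroup.inclusion hle), restrict_mem hφ hle, ?_⟩
      ext y
      constructor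
      · rintro ⟨⟨_, k, rfl⟩, rfl⟩
        refine ⟨k, ?_⟩
        show j ^ k = _
        rw [hj, ← map_zpow]
        rfl
      · rintro ⟨k, rfl⟩
        refine ⟨⟨i₀, Subgroup.mem_zpowers i₀⟩ ^ k, ?_⟩
        rw [map_zpow]
        rfl
    have hjS : Subgroup.zpowers j ≤ S := isConj_le_right hconj2
    -- j is fully normalized
    have hcard : Nat.card (normalizerIn S (Subgroup.zpowers i₀)) ≤ Nat.card (normalizerIn S (Subgroup.zpowers j)) := by
      have hmem : ∀ w : normalizerIn S (Subgroup.zpowers i₀), (w : Ω) ∈ P := by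
        intro w
        have h1 := (mem_normalizer_zpowers hord (w : Ω)).1 w.2.2
        exact hw ⟨w, w.2.1⟩ (Subtype.ext h1)
      have hmem2 : ∀ w : normalizerIn S (Subgroup.zpowers i₀), φ ⟨w, hmem w⟩ ∈ normalizerIn S (Subgroup.zpowers j) := by
        intro w
        refine ⟨hom_apply_mem hφ _, ?_⟩
        show φ ⟨w, hmem w⟩ ∈ Subgroup.normalizer (Subgroup.zpowers j : Set Ω)
        rw [mem_normalizer_zpowers hjord, hj, ← map_mul, ← map_mul]
        congr 1
        apply Subtype.ext
        exact (mem_normalizer_zpowers hord (w : Ω)).1 w.2.2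
      have : Finite (normalizerIn S (Subgroup.zpowers j)) := inferInstance
      refine Nat.card_le_card_of_injective (fun w => (⟨φ ⟨w, hmem w⟩, hmem2 w⟩ : normalizerIn S (Subgroup.zpowers j))) ?_
      intro w w' hww
      have h1 : φ ⟨w, hmem w⟩ = φ ⟨w', hmem w'⟩ := congrArg Subtype.val hww
      have h2 := F.injective_of_mem hφ h1
      exact Subtype.ext (Subtype.mk.inj h2)
    have hjn : F.IsFullyNormalized (Subgroup.zpowers j) := by
      refine ⟨hjS, fun R hR => ?_⟩
      rw [hQz] at hQn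
      exact (hQn.2 R (isConj_trans hconj2 hR)).trans hcard
    refine hθ _ ?_
    rw [Subgroup.mem_subgroupOf]
    exact h j hconj1 hjn
  -- conclusion
  intro hmem
  have h1 := focal_le (F := F) (tr hf) (fun P φ hφ x => tr_stable hX hs hf hφ x) (hyperfocal_le_focal F 2 hmem)
  obtain ⟨y, hy, hyi⟩ := h1
  have hy' : y = ⟨i, hi⟩ := Subtype.ext hyi
  have h2 : tr hf ⟨i, hi⟩ = 1 := by rw [← hy']; exact hy
  have h3 := tr_stable hX hs hf hφ₀ ⟨i, Subgroup.mem_zpowers i⟩
  have h4 : tr hf ⟨i₀, hi₀S⟩ = tr hf ⟨i, hi⟩ := h3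
  rw [key, h2] at h4
  exact absurd h4 (by decide)

end Cfsg.Agent.S5192
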