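import Cfsg.Statements.S1564
import Cfsg.Agent.S0366
import Cfsg.Agent.SporadicStructure.SetStabMax
set_option linter.all false

set_option autoImplicit false
open scoped Pointwise
open Cfsg

namespace Cfsg.Agent.S1564

/-- The stabiliser of a set of three points (setwise) is a maximal proper subgroup of the group of the length-24 code. -/
theorem result (s : Finset Cfsg.GolayPt) (hs : s.card = 3) : IsCoatom (MulAction.stabilizer Cfsg.M24 s) := by
  have hc : Fintype.card Cfsg.GolayPt = 24 := by
    rw [Fintype.card_option, ZMod.card]
  exact Cfsg.Agent.SporadicStructure.SetStabMax.isCoatom_stabilizer (G := Cfsg.M24) (n := 5) (k := 3)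
    Cfsg.Agent.S0366.result (by omega) (by omega) (by omega) (by omega) (by omega) s hs

end Cfsg.Agent.S1564
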