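import Cfsg.Agent.Nodes.WittAll
import Cfsg.Agent.Nodes.WittU
import Cfsg.Agent.Nodes.WittInst
import Cfsg.Agent.OddHalf.DblR.MinusTor
import Cfsg.Agent.H636.LieTwoSz
import Cfsg.Agent.Nodes.RGDTypeA
import Cfsg.Agent.Nodes.RGDChev
import Cfsg.Agent.Nodes.RGDTwNode
import Cfsg.Agent.Nodes.RGDTwE6
import Cfsg.Agent.Nodes.RGDTwD4
import Cfsg.Statements.S4625
import Cfsg.Agent.Prune
set_option linter.all false

-- part: H636/LieTwoWitt
section
prune_inst 0x7f00000000000000000000000000000000000000000000000000000000000000000000000000000000000000000000000000000000000000000000000000000000000000000000000000000000000000003fffffffffffffffffffffffffffbeffbdffffffff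
set_option linter.all false
open scoped Cfsg.Agent.FastGrp

/-!
# Classical groups with a Witt frame in characteristic 2

The Sylow 2-subgroups of `PSp_2m(q)`, `PSU_n(q)` (`n ≥ 3`), `PΩ±_2m(q)`, `q` even, have elementary abelian
abelianization.  The root groups of type I have exponent 2; for the group `Adm` of pairs `(w, c)` which parametrises
the root groups of type II, `p * p` is trivial if `σ = 1` and the commutator `⁅p, smul a p⁆` if `a + σ a = 1`.
-/

set_option autoImplicit false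
set_option linter.unusedSectionVars false

namespace Cfsg.Agent.H636.LieTwoWitt

open Cfsg CoxeterSystem Cfsg.Agent.ChevalleyStructure.CoxeterGeom Cfsg.Agent.Tits.Roots Cfsg.Agent.Nodes.TypeC
open Cfsg.Agent.Nodes.Comb Cfsg.Agent.Nodes.Reps Cfsg.Agent.Nodes.WittRoot Cfsg.Agent.Nodes.BNOf
open Cfsg.Agent.Nodes Cfsg.Agent.Nodes.WittAll Cfsg.Agent.Nodes.WittU
open Cfsg.Agent.TitsThree Cfsg.Agent.TitsThree.Siegel Cfsg.Agent.TitsThree.SiegelGen Cfsg.Agent.TitsThree.WittFrame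
  Cfsg.Agent.TitsThree.WBridge Cfsg.Agent.TitsThree.WittWeyl Cfsg.Agent.TitsThree.FrameCN
open Cfsg.Agent.H636.RgdAb
open scoped commutatorElement

section gen

variable {F : Type*} [Field F] {V : Type*} [AddCommGroup V] [Module F V] {H : HForm F V} {n : ℕ}
  {Fr : Frame H (Fin n)}

/-- A non-trivial involution of a field of characteristic 2 has an element of trace one. -/
theorem exists_trace_one [CharP F 2] (hσ : ¬ ∀ t, H.σ t = t) : ∃ a : F, a - H.σ a = 1 := by
  push Not at hσ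
  obtain ⟨a, ha⟩ := hσ
  have hd : a - H.σ a ≠ 0 := fun h => ha (sub_eq_zero.1 h).symm
  refine ⟨a / (a - H.σ a), ?_⟩
  have h1 : H.σ (a - H.σ a) = a - H.σ a := by
    rw [map_sub, H.σσ, ← neg_sub, CharTwo.neg_eq]
  rw [map_div₀, h1, ← sub_div, div_self hd]

/-- **Squares in the group of admissible pairs.** -/
theorem adm_sq [CharP F 2] (p : Fr.Adm) : p * p = 1 ∨ ∃ q : Fr.Adm, p * p = ⁅p, q⁆ := by
  have hw : p.w + p.w = 0 := by
    rw [← two_smul F, CharTwo.two_eq_zero, zero_smul]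
  by_cases hσ : ∀ t, H.σ t = t
  · left
    have hε : H.ε = 1 := by
      have h1 := H.ε_mul
      rw [hσ] at h1
      have h2 : (H.ε - 1) * (H.ε - 1) = 0 := by
        linear_combination h1 - (H.ε - 1) * (CharTwo.two_eq_zero (R := F))
      exact sub_eq_zero.1 (mul_self_eq_zero.1 h2)
    have hh : H.h p.w p.w = 0 := by
      have h1 := p.herm
      rw [hε, hσ, one_mul, CharTwo.add_self_eq_zero] at h1
      exact neg_eq_zero.1 h1.symm
    ext
    · rw [Frame.Adm.mul_w, Frame.Adm.one_w, hw]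
    · rw [Frame.Adm.mul_c, Frame.Adm.one_c, hh, CharTwo.add_self_eq_zero, mul_zero, sub_zero]
  · right
    obtain ⟨a, ha⟩ := exists_trace_one hσ
    refine ⟨Frame.Adm.smul a p, ?_⟩
    rw [commutatorElement_def, eq_mul_inv_iff_mul_eq, eq_mul_inv_iff_mul_eq]
    ext
    · simp only [Frame.Adm.mul_w, Frame.Adm.smul_w]
      rw [hw, zero_add, add_comm]
    · have hw2 : p.w + p.w + a • p.w = a • p.w := by rw [hw, zero_add]
      have hz : H.h (a • p.w) (p.w + p.w) = 0 := by rw [hw, H.zero_right]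
      simp only [Frame.Adm.mul_c, Frame.Adm.mul_w, Frame.Adm.smul_w, Frame.Adm.smul_c]
      rw [hw2, hz, H.smul_left, H.smul_right]
      have h1 : a = 1 + H.σ a := by rw [← ha]; ring
      have h2 := CharTwo.two_eq_zero (R := F)
      linear_combination (H.ε⁻¹ * H.h p.w p.w) * h1 + p.c * h2

/-- **Root groups of a Witt frame.** -/
theorem sq_mem_PG [CharP F 2] {a b : Fin n × Bool} (hab : Ok a b) {x : V ≃ₗ[F] V} (hx : x ∈ PG Fr a b) :
    x ^ 2 = 1 ∨ ∃ y ∈ PG Fr a b, x ^ 2 = ⁅x, y⁆ := by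
  rcases hab with hab | rfl
  · rw [PG_ne Fr hab] at hx
    obtain ⟨t, rfl⟩ := hx
    left
    rw [pow_two, ← Fr.X_add, CharTwo.add_self_eq_zero, Fr.X_zero]
  · rw [PG_self] at hx ⊢
    obtain ⟨p, rfl⟩ := hx
    rcases adm_sq p with h | ⟨q, h⟩
    · left
      rw [pow_two, ← Fr.Z_mul, h, Fr.Z_one]
    · right
      refine ⟨Fr.Z a q, ⟨q, rfl⟩, ?_⟩
      rw [pow_two, ← Fr.Z_mul, h, commutatorElement_def, commutatorElement_def, Fr.Z_mul, Fr.Z_mul, Fr.Z_mul,
        Fr.Z_inv, Fr.Z_inv]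

variable {K : Type*} [Group K] (M : Model Fr K)

/-- **the Sylow 2-subgroups of a model over a Witt frame** -/
theorem sylEl_model [Finite V] [Finite K] [CharP F 2] (hA : AmbT Fr 2 M.I) (hn : 0 < n) {p0 : Fr.Adm}
    (hp0 : p0.c ≠ 0) : SylEl K := by
  have : Fact (Nat.Prime 2) := ⟨Nat.prime_two⟩
  have hfin : Finite (CoxeterMatrix.B n).Group := finite_W (CoxeterMatrix.B n).toCoxeterSystem
  have R := rgdC_model M hA hp0 (CoxeterMatrix.B n).toCoxeterSystem
  refine fun S => sq_mem_of_rgd R (WittModel.G1_eq_top M hn _) (fun i x hx => ?_) S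
  obtain ⟨g, hg, hgr, rfl⟩ := (WittModel.mem_X M).1 hx
  rw [WittRGD.rg_sr] at hgr
  rw [← map_pow]
  rcases sq_mem_PG (TypeC.ok_nx i) hgr with h | ⟨y, hy, h⟩
  · have h1 : (⟨g, hg⟩ : ↥M.I) ^ 2 = 1 := Subtype.ext h
    rw [h1, map_one]
    exact Subgroup.one_mem _
  · have hyr : y ∈ rg Fr (sr i) := by
      rw [WittRGD.rg_sr]
      exact hy
    have hyI : y ∈ M.I := hA.rg_le _ hyr
    have h1 : (⟨g, hg⟩ : ↥M.I) ^ 2 = ⁅(⟨g, hg⟩ : ↥M.I), ⟨y, hyI⟩⁆ := Subtype.ext h
    rw [h1, map_commutatorElement]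
    exact Subgroup.commutator_mem_commutator hx (WittModel.mem_X_of M hyI hyr)

end gen

/-! ### unitary groups -/

section Unitary

open Cfsg.Agent.TitsThree.KSideU Cfsg.Agent.TitsThree.KSideUDesc

variable {F : Type*} [Field F] [Fintype F] {q N : ℕ} (hF : Fintype.card F = q ^ 2)

include hF in
theorem sylEl_PSU (hN : 3 ≤ N) [CharP F 2] : SylEl (PSU N F q) := by
  have : Fact (Nat.Prime 2) := ⟨Nat.prime_two⟩
  obtain ⟨m, hm⟩ : ∃ m, N = 2 * m ∨ N = 2 * m + 1 := ⟨N / 2, by omega⟩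
  obtain ⟨W, -⟩ := exists_wframe hF hm
  obtain ⟨p0, hp0, -⟩ := exists_adm hF W
  have hA : AmbT (toFrame W) 2 (KInstU.model hF (by omega : 3 ≤ N) W).I := AmbT.of_amb (amb_U hF W) 2
  exact sylEl_model (KInstU.model hF (by omega) W) hA (by omega) hp0

end Unitary

/-! ### symplectic groups -/

section Symplectic

open SpIdent SpGen

theorem sylEl_PSp {F : Type*} [Field F] [Finite F] [CharP F 2] {m : ℕ} (hm : 1 ≤ m) : SylEl (PSp m F) := by
  have : Fact (Nat.Prime 2) := ⟨Nat.prime_two⟩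
  have hA : AmbT (frame m F) 2 (KInstSp.model m F).I := AmbT.of_amb amb_Sp 2
  exact sylEl_model (KInstSp.model m F) hA (by omega) (p0 := SpIdent.adm 1) one_ne_zero

end Symplectic

/-! ### orthogonal groups of minus type -/

section Minus

open Cfsg.Agent.LieClassical.OrthForms Cfsg.Agent.TitsThree.KSideO Cfsg.Agent.KFacts.SpecMinus
  Cfsg.Agent.OddHalf.DblR.MinusTor

theorem sylEl_POmegaMinus {F : Type*} [Field F] [Finite F] [CharP F 2] (a b : F)
    (hab : ∀ z₁ z₂ : F, z₁ ^ 2 + a * z₁ * z₂ + b * z₂ ^ 2 = 0 → z₁ = 0 ∧ z₂ = 0) {m : ℕ} (hm : 2 ≤ m) :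
    SylEl (Cfsg.POmega F (Cfsg.quadFormMinus m F a b)) := by
  have : Fact (Nat.Prime 2) := ⟨Nat.prime_two⟩
  have h2 : (2 : F) = 0 := CharTwo.two_eq_zero
  rw [← coe_minusForm]
  have hA := ambT_minus h2 hm a b hab
  obtain ⟨p0, hp0⟩ := adm_minus m a b hab
  exact sylEl_model (modelMinus hm a b hab) hA (by omega) hp0

end Minus

/-! ### orthogonal groups of plus type -/

section Plus

open QuadraticMap
open Cfsg.Agent.LieClassical Cfsg.Agent.LieClassical.OrthCore Cfsg.Agent.LieClassical.OrthTrans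
open Cfsg.Agent.LieClassical.OrthSimple Cfsg.Agent.LieClassical.OrthFinite Cfsg.Agent.LieClassical.OrthForms
open Cfsg.Agent.TitsThree.KSideO
open Cfsg.Agent.Nodes.WittInst

theorem sylEl_POmegaPlus_aux {F : Type} [Field F] [Finite F] [CharP F 2] {m : ℕ} (hm : 1 ≤ m) :
    SylEl (Cfsg.POmega F (Cfsg.quadFormPlus (m + 2) F)) := by
  have : Fact (Nat.Prime 2) := ⟨Nat.prime_two⟩
  rw [← coe_plusForm]
  have hG : Good (plusForm (m + 2) F) := by
    apply good_of_finite (nondeg_plusForm (m + 2) F)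
    rw [Module.finrank_fintype_fun_eq_card, Fintype.card_sum, Fintype.card_fin]
    omega
  have hW : Finite (TypeD.M m).Group := TypeD.finite_W (TypeD.M m).toCoxeterSystem
  set W := wplus (m + 2) F with hWd
  have hfin : Finite (((Fin (m + 2)) ⊕ (Fin (m + 2)) → F) ≃ₗ[F] ((Fin (m + 2)) ⊕ (Fin (m + 2)) → F)) :=
    Finite.of_injective (fun g : ((Fin (m + 2)) ⊕ (Fin (m + 2)) → F) ≃ₗ[F] ((Fin (m + 2)) ⊕ (Fin (m + 2)) → F) =>
      (g : ((Fin (m + 2)) ⊕ (Fin (m + 2)) → F) → ((Fin (m + 2)) ⊕ (Fin (m + 2)) → F))) DFunLike.coe_injective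
  have R := rgdD_model W hG (amb_plus _) (adm_plus _) (p := 2) (TypeD.M m).toCoxeterSystem
  refine fun S => sq_mem_of_rgd' R (G1D_eq_top W (toPOmega hG) (toPOmega_surjective hG) (adm_plus _) _)
    (fun i x hx => ?_) S
  obtain ⟨g, hg, rfl⟩ := hx
  have h1 : (g : ((Fin (m + 2)) ⊕ (Fin (m + 2)) → F) ≃ₗ[F] ((Fin (m + 2)) ⊕ (Fin (m + 2)) → F)) ∈
    WittRGDD.rg (toFrame W) (sr i) := hg
  rw [WittRGDD.rg_sr] at h1
  obtain ⟨a, ha⟩ := h1
  rw [← map_mul]
  have h2 : g * g = 1 := by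
    apply Subtype.ext
    rw [Subgroup.coe_mul, ha, ← (toFrame W).X_add, CharTwo.add_self_eq_zero, (toFrame W).X_zero]
    rfl
  rw [h2, map_one]

theorem sylEl_POmegaPlus {F : Type} [Field F] [Finite F] [CharP F 2] {m : ℕ} (hm : 3 ≤ m) :
    SylEl (Cfsg.POmega F (Cfsg.quadFormPlus m F)) := by
  obtain ⟨m, rfl⟩ : ∃ k, m = k + 2 := ⟨m - 2, by omega⟩
  exact sylEl_POmegaPlus_aux (by omega)

end Plus

end Cfsg.Agent.H636.LieTwoWitt
end

-- part: S4625
section
set_option linter.all false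
open scoped Cfsg.Agent.FastGrp

-- part: H636/LieTwoPsl
section
/-!
# `PSL_n(q)`, `q` even: the Sylow 2-subgroups have elementary abelian abelianization
-/

set_option autoImplicit false
set_option linter.unusedSectionVars false

namespace Cfsg.Agent.H636.LieTwoPsl

open Matrix CoxeterSystem Cfsg.Agent.ChevalleyStructure.CoxeterGeom Cfsg.Agent.Tits.Roots
open Cfsg.Agent.Nodes.Reps Cfsg.Agent.Nodes.BNOf Cfsg.Agent.Nodes.RGDLib Cfsg.Agent.Nodes.RootsA
open Cfsg.Agent.LieRecognition.BNCox (cA)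
open Cfsg.Agent.LieClassical.SLGen
open Cfsg.Agent.TitsThree.KSideA (tv tv_of_ne tv_add tv_zero tv_neg tv_comm tv_commute diag2n_eq)
open Cfsg.Agent.Nodes.RGDTypeA Cfsg.Agent.H636.RgdAb

theorem sylEl_psl_succ {F : Type*} [Field F] [Finite F] [CharP F 2] (n : ℕ) :
    SylEl (ProjectiveSpecialLinearGroup (Fin (n + 1)) F) := by
  have : Fact (Nat.Prime 2) := ⟨Nat.prime_two⟩
  have hW : Finite (cA n).Group := finite_W (cA n).toCoxeterSystem (isCartan n)
  have R := rgd_psl (F := F) (p := 2) (cA n).toCoxeterSystem (isCartan n)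
  refine fun S => sq_mem_of_rgd' R (G1_psl_eq_top _ _) (fun i x hx => ?_) S
  obtain ⟨y, hy, rfl⟩ := hx
  have hy' : y ∈ X F (sr i) := hy
  rw [X_sr] at hy'
  obtain ⟨t, rfl⟩ := hy'
  rw [← map_mul, ← tv_add, CharTwo.add_self_eq_zero, tv_zero, map_one]

/-- `PSL_n(q)`, `q` even -/
theorem sylEl_psl {F : Type*} [Field F] [Finite F] [CharP F 2] {n : ℕ} (hn : 1 ≤ n) :
    SylEl (ProjectiveSpecialLinearGroup (Fin n) F) := by
  obtain ⟨m, rfl⟩ : ∃ m, n = m + 1 := ⟨n - 1, by omega⟩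
  exact sylEl_psl_succ m

end Cfsg.Agent.H636.LieTwoPsl
end

-- part: H636/LieTwoChev
section
/-!
# Chevalley groups in characteristic 2: the Sylow 2-subgroups have elementary abelian abelianization
-/

set_option autoImplicit false
set_option linter.unusedSectionVars false

namespace Cfsg.Agent.H636.LieTwoChev

open CoxeterSystem Cfsg.Agent.ChevalleyStructure.CoxeterGeom Cfsg.Agent.Tits.Roots Cfsg.Agent.Tits.Core
  Cfsg.Agent.Tits.RootComb Cfsg.Agent.Nodes.Comb Cfsg.Agent.Nodes.Reps Cfsg.Agent.Nodes.BNOf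
  Cfsg.Agent.Nodes.RGDChev
open Cfsg.Lie Cfsg.Agent.ChevalleyStructure Cfsg.Agent.ChevalleyStructure.Elts
  Cfsg.Agent.ChevalleyStructure.NPerm Cfsg.Agent.ChevalleyStructure.CoxeterGeomTypes
open Cfsg.Agent.H636.RgdAb

universe u

section Chev

variable {D : ChevalleyDatum} {l : ℕ} {M : CoxeterMatrix (Fin l)} (hp : IsType D l M) {K : Type u} [Field K]

include hp in
theorem sylEl_chev [Finite K] [CharP K 2] : SylEl ↥(D.group K) := by
  have : Fact (Nat.Prime 2) := ⟨Nat.prime_two⟩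
  have hW : Finite M.Group := finite_W hp M.toCoxeterSystem
  refine fun S => sq_mem_of_rgd' (rgd hp M.toCoxeterSystem 2) (G1_eq_top hp M.toCoxeterSystem) (fun i x hx => ?_) S
  have hi := simple_lt hp.inList (lt_rank hp i)
  rw [← vec_simple hp i, Subgroup.mem_subgroupOf, XV_vec hp K hi, mem_rootSubgroup_iff hp.inList] at hx
  obtain ⟨a, ha⟩ := hx
  apply Subtype.ext
  rw [Subgroup.coe_mul, ha, xG_add, CharTwo.add_self_eq_zero, xG_zero]
  rfl

end Chev

variable (K : Type u) [Field K] [Finite K] [CharP K 2]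

theorem sylEl_G2 : SylEl ↥(chevG2.group K) :=
  sylEl_chev (l := 2) (M := CoxeterMatrix.G₂) (by simp [IsType, typeList])

theorem sylEl_F4 : SylEl ↥(chevF4.group K) :=
  sylEl_chev (l := 4) (M := CoxeterMatrix.F₄) (by simp [IsType, typeList])

theorem sylEl_E6 : SylEl ↥(chevE6.group K) :=
  sylEl_chev (l := 6) (M := CoxeterMatrix.E₆) (by simp [IsType, typeList])

theorem sylEl_E7 : SylEl ↥(chevE7.group K) :=
  sylEl_chev (l := 7) (M := CoxeterMatrix.E₇) (by simp [IsType, typeList])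

theorem sylEl_E8 : SylEl ↥(chevE8.group K) :=
  sylEl_chev (l := 8) (M := CoxeterMatrix.E₈) (by simp [IsType, typeList])

end Cfsg.Agent.H636.LieTwoChev
end

-- part: H636/LieTwoTw
section
/-!
# `²E₆(q)`, `³D₄(q)`, `q` even: the Sylow 2-subgroups have elementary abelian abelianization
-/

set_option autoImplicit false
set_option linter.unusedSectionVars false

namespace Cfsg.Agent.H636.LieTwoTw

open CoxeterSystem Cfsg.Agent.ChevalleyStructure.CoxeterGeom Cfsg.Agent.Tits.Roots Cfsg.Agent.Tits.Core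
  Cfsg.Agent.Nodes.Reps Cfsg.Agent.Nodes.BNOf Cfsg.Agent.Nodes.RGDFoldSL Cfsg.Agent.Nodes.RGDFold
open Cfsg.Lie Cfsg.Agent.ChevalleyStructure Cfsg.Agent.ChevalleyStructure.CoxeterGeomTypes Cfsg.Agent.Nodes.RGDChev
open Cfsg.Agent.ChevalleyStructure.SL2Hom (up lo)
open Cfsg.Agent.H636.RgdAb

universe u

theorem up_sq {F : Type*} [Field F] [CharP F 2] (a : F) :
    (up a : Matrix.SpecialLinearGroup (Fin 2) F) * up a = 1 := by
  apply Subtype.ext
  change (!![1, a; 0, 1] * !![1, a; 0, 1] : Matrix (Fin 2) (Fin 2) F) = 1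
  rw [Matrix.mul_fin_two]
  ext i j
  fin_cases i <;> fin_cases j <;> simp [CharTwo.add_self_eq_zero]

section twE6

open Cfsg.Agent.Nodes.RGDTwE6 Cfsg.Agent.Nodes.RGDTwNode.E6

variable {K : Type u} [Field K] [Fintype K] [CharP K 2] {q : ℕ}

/-- **`²E₆(q)`** -/
theorem sylEl_twE6 (hq : IsPrimePow q) (hK : Fintype.card K = q ^ 2) : SylEl ↥(twistedE6 K q) := by
  have hp2 : Fact (Nat.Prime 2) := ⟨Nat.prime_two⟩
  obtain ⟨φ, hφ, hqq⟩ := TwE6Basic.exists_frob hq hK
  have hW : Finite CoxeterMatrix.F₄.Group :=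
    Cfsg.Agent.Nodes.RGDFold.finite_W (hp := hp) CoxeterMatrix.F₄.toCoxeterSystem isCartan foldData
  refine fun S => sq_mem_of_rgd' (rgd CoxeterMatrix.F₄.toCoxeterSystem hφ hqq 2)
    (G1_eq_top CoxeterMatrix.F₄.toCoxeterSystem hφ hqq) (fun i x hx => ?_) S
  have hf : ∀ s ∈ rep i :: rest i, ∀ t : K, ((TwistedE6Sigma.eps s : ℤ) : K) * φ t = φ t := by
    intro s hs t
    rw [eps_one i s hs, Int.cast_one, one_mul]
  obtain ⟨a, rfl⟩ := (mem_X_iff (foldGrp hφ hqq) (nodeOK i) hf x).1 hx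
  have hc : CharP (Fx φ ((rest i).length + 1)) 2 :=
    (RingHom.charP_iff (Fx φ ((rest i).length + 1)).subtype (Fx φ ((rest i).length + 1)).subtype_injective 2).2
      inferInstance
  rw [← map_mul, up_sq, map_one]

end twE6

section twD4

open Cfsg.Agent.Nodes.RGDTwNode.D4

variable {K : Type u} [Field K] [Fintype K] [CharP K 2] {q : ℕ}

/-- **`³D₄(q)`** -/
theorem sylEl_twD4 (hq : IsPrimePow q) (hK : Fintype.card K = q ^ 3) : SylEl ↥(twistedD4 K q) := by
  have hp2 : Fact (Nat.Prime 2) := ⟨Nat.prime_two⟩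
  obtain ⟨φ, hφ⟩ := D4Fixed.exists_frob hq hK
  have hle := D4Fixed.twisted_le_fix hK hφ
  have hW : Finite CoxeterMatrix.G₂.Group :=
    Cfsg.Agent.Nodes.RGDFold.finite_W (hp := Nodes.RGDTwD4.hp) CoxeterMatrix.G₂.toCoxeterSystem
      Nodes.RGDTwD4.isCartan Nodes.RGDTwD4.foldData
  refine fun S => sq_mem_of_rgd' (Nodes.RGDTwD4.rgd CoxeterMatrix.G₂.toCoxeterSystem hK hφ 2)
    (Nodes.RGDTwD4.G1_eq_top CoxeterMatrix.G₂.toCoxeterSystem hK hφ) (fun i x hx => ?_) S
  have hf : ∀ s ∈ rep i :: rest i, ∀ t : K, ((Nodes.RGDTwD4.eps s : ℤ) : K) * φ t = φ t := by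
    intro s hs t
    rw [eps_one i s hs, Int.cast_one, one_mul]
  obtain ⟨a, rfl⟩ := (mem_X_iff (Nodes.RGDTwD4.foldGrp hφ hle) (nodeOK i) hf x).1 hx
  have hc : CharP (Fx φ ((rest i).length + 1)) 2 :=
    (RingHom.charP_iff (Fx φ ((rest i).length + 1)).subtype (Fx φ ((rest i).length + 1)).subtype_injective 2).2
      inferInstance
  rw [← map_mul, up_sq, map_one]

end twD4

end Cfsg.Agent.H636.LieTwoTw
end

-- part: S4625
section
set_option autoImplicit false
open Cfsg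

namespace Cfsg.Agent.S4625

open Cfsg.Agent.H636.RgdAb Cfsg.Agent.H636.LieTwoPsl Cfsg.Agent.H636.LieTwoChev Cfsg.Agent.H636.LieTwoWitt
  Cfsg.Agent.H636.LieTwoTw Cfsg.Agent.H636.LieTwoSz

/-- The Sylow 2-subgroups of the groups of Lie type in characteristic 2. -/
theorem sylEl {Y : Type*} [Group Y] [Finite Y] (hY : Cfsg.IsLieTypeChar 2 Y) : SylEl Y := by
  rcases hY with h | h | h | h | h | h | h | h | h | h | h
  · obtain ⟨F, _, _, _, n, hn, -, ⟨e⟩⟩ := h
    have : Finite (Matrix.ProjectiveSpecialLinearGroup (Fin n) F) := Finite.of_equiv Y e.toEquiv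
    exact (sylEl_psl (F := F) (n := n) (by omega)).of_equiv e
  · obtain ⟨F, _, _, _, m, hm, -, ⟨e⟩⟩ := h
    have : Finite (PSp m F) := Finite.of_equiv Y e.toEquiv
    exact (sylEl_PSp (F := F) (m := m) (by omega)).of_equiv e
  · obtain ⟨F, _, _, _, n, q, hF, hn, -, ⟨e⟩⟩ := h
    have : Finite (PSU n F q) := Finite.of_equiv Y e.toEquiv
    exact (sylEl_PSU hF hn).of_equiv e
  · exfalso
    obtain ⟨F, _, _, _, m, -, hodd, -⟩ := h
    have : Fact (Nat.Prime 2) := ⟨Nat.prime_two⟩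
    obtain ⟨k, -, hk⟩ := FiniteField.card F 2
    rw [hk] at hodd
    exact absurd hodd (by rw [Nat.not_odd_iff_even]; exact (even_two).pow_of_ne_zero k.ne_zero)
  · obtain ⟨F, _, _, _, m, hm, ⟨e⟩⟩ := h
    have : Finite (POmega F (quadFormPlus m F)) := Finite.of_equiv Y e.toEquiv
    exact (sylEl_POmegaPlus (F := F) (show 3 ≤ m by omega)).of_equiv e
  · obtain ⟨F, _, _, _, m, a, b, hm, hab, ⟨e⟩⟩ := h
    have : Finite (POmega F (quadFormMinus (m - 1) F a b)) := Finite.of_equiv Y e.toEquiv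
    exact (sylEl_POmegaMinus a b hab (by omega)).of_equiv e
  · obtain ⟨F, _, _, _, h⟩ := h
    rcases h with ⟨-, ⟨e⟩⟩ | ⟨⟨e⟩⟩ | ⟨⟨e⟩⟩ | ⟨⟨e⟩⟩ | ⟨⟨e⟩⟩
    · have : Finite (Lie.chevG2.group F) := Finite.of_equiv Y e.toEquiv
      exact (sylEl_G2 F).of_equiv e
    · have : Finite (Lie.chevF4.group F) := Finite.of_equiv Y e.toEquiv
      exact (sylEl_F4 F).of_equiv e
    · have : Finite (Lie.chevE6.group F) := Finite.of_equiv Y e.toEquiv
      exact (sylEl_E6 F).of_equiv e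
    · have : Finite (Lie.chevE7.group F) := Finite.of_equiv Y e.toEquiv
      exact (sylEl_E7 F).of_equiv e
    · have : Finite (Lie.chevE8.group F) := Finite.of_equiv Y e.toEquiv
      exact (sylEl_E8 F).of_equiv e
  · obtain ⟨K, _, _, _, q, hq, h⟩ := h
    rcases h with ⟨hK, ⟨e⟩⟩ | ⟨hK, ⟨e⟩⟩
    · have : Finite (Lie.twistedE6 K q) := Finite.of_equiv Y e.toEquiv
      exact (sylEl_twE6 hq hK).of_equiv e
    · have : Finite (Lie.twistedD4 K q) := Finite.of_equiv Y e.toEquiv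
      exact (sylEl_twD4 hq hK).of_equiv e
  · exact sylEl_sz h.2
  · exact sylEl_twoFFour h.2
  · exact absurd h.1 (by norm_num)

/-- Let G be a finite simple group of Lie type in characteristic 2, not counting the Tits group ²F₄(2)′. Then a Sylow 2-subgroup P of G has P/P' elementary abelian: the square of every element of P lies in the derived subgroup of P. -/
theorem result {G : Type*} [Group G] [Finite G] [IsSimpleGroup G] (hG : Cfsg.IsLieTypeChar 2 G) (P : Sylow 2 G) :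
    ∀ x : (P : Subgroup G), x ^ 2 ∈ commutator (P : Subgroup G) :=
  sylEl hG P

end Cfsg.Agent.S4625
end
end
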