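import Cfsg.Statements.S1896
import Cfsg.Agent.TwoFusion.FpfAbelian
import Cfsg.Agent.TwoFusion.CyclicAut
import Cfsg.Agent.SmallSimple.OrderEight
import Cfsg.Agent.Lib.FrattiniPGroup
import Cfsg.Agent.OddOrderLocal.MetacyclicCoprime
set_option linter.all false

set_option autoImplicit false
open Cfsg

namespace Cfsg.Agent.S1896

open Subgroup
open scoped commutatorElement
open Cfsg.Agent.TwoFusion.FpfPowBasic (FpfPow)

variable {X : Type*} [Group X]

/-- **Lemma A.** A coset of an invariant subgroup which is mapped to itself contains a fixed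
point. -/
theorem exists_fixed [Finite X] (hX : IsPGroup 2 X) {r : ℕ} [hr : Fact r.Prime] (hr2 : r ≠ 2)
    {α : MulAut X} (hα : α ^ r = 1) {N : Subgroup X} (hN : ∀ n ∈ N, α n ∈ N) {x : X}
    (hx : x⁻¹ * α x ∈ N) : ∃ n ∈ N, α (x * n) = x * n := by
  let S : Set X := {y | x⁻¹ * y ∈ N}
  have hS : ∀ y ∈ S, α y ∈ S := by
    intro y hy
    change x⁻¹ * α y ∈ N
    have h1 : x⁻¹ * α y = (x⁻¹ * α x) * α (x⁻¹ * y) := by
      rw [map_mul, map_inv]; group
    rw [h1]
    exact mul_mem hx (hN _ hy)
  have hSz : ∀ β ∈ zpowers α, ∀ y ∈ S, β y ∈ S := by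
    intro β hβ
    have hfin : IsOfFinOrder α := isOfFinOrder_iff_pow_eq_one.2 ⟨r, hr.out.pos, hα⟩
    obtain ⟨k, rfl⟩ := (hfin.mem_powers_iff_mem_zpowers.2 hβ)
    induction k with
    | zero => intro y hy; simpa using hy
    | succ k ih =>
      intro y hy
      have h2 : (α ^ (k + 1)) y = α ((α ^ k) y) := by rw [pow_succ', MulAut.mul_apply]
      change (α ^ (k + 1)) y ∈ S
      rw [h2]
      exact hS _ (ih ⟨k, rfl⟩ y hy)
  let act : MulAction (zpowers α) S :=
    { smul := fun β y => ⟨(β : MulAut X) y, hSz β β.2 y y.2⟩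
      one_smul := fun y => Subtype.ext rfl
      mul_smul := fun β γ y => Subtype.ext rfl }
  have hP : IsPGroup r (zpowers α) := by
    rintro ⟨β, k, rfl⟩
    refine ⟨1, Subtype.ext ?_⟩
    change (α ^ k) ^ r ^ 1 = 1
    rw [pow_one, ← zpow_natCast, ← zpow_mul, mul_comm, zpow_mul, zpow_natCast, hα, one_zpow]
  have hcard : Nat.card S = Nat.card N := by
    refine Nat.card_congr
      { toFun := fun y => ⟨x⁻¹ * y, y.2⟩
        invFun := fun n => ⟨x * n, by
          change x⁻¹ * (x * (n : X)) ∈ N
          rw [inv_mul_cancel_left]; exact n.2⟩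
        left_inv := fun y => Subtype.ext (by simp)
        right_inv := fun n => Subtype.ext (by simp) }
  have hndvd : ¬ r ∣ Nat.card S := by
    rw [hcard]
    obtain ⟨k, hk⟩ := IsPGroup.iff_card.1 (hX.to_subgroup N)
    rw [hk]
    intro hd
    exact hr2 ((Nat.prime_dvd_prime_iff_eq hr.out Nat.prime_two).1 (hr.out.dvd_of_dvd_pow hd))
  obtain ⟨y, hy⟩ := hP.nonempty_fixed_point_of_prime_not_dvd_card S hndvd
  have h3 := congrArg Subtype.val (hy ⟨α, mem_zpowers α⟩)
  refine ⟨x⁻¹ * y, y.2, ?_⟩
  rw [mul_inv_cancel_left]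
  exact h3

/-- a metacyclic group modulo a normal subgroup containing the squares -/
theorem index_le_four [Finite X] (hm : Cfsg.IsMetacyclic X) (M : Subgroup X) [M.Normal]
    (hM : ∀ x : X, x ^ 2 ∈ M) : M.index ≤ 4 := by
  obtain ⟨N, hN, hNc, hQc⟩ := hm
  obtain ⟨⟨a, haN⟩, ha⟩ := hNc.exists_generator
  obtain ⟨b', hb'⟩ := hQc.exists_generator
  obtain ⟨b, rfl⟩ := QuotientGroup.mk_surjective b'
  -- squares vanish in `X ⧸ M`
  have hsq : ∀ v : X ⧸ M, v * v = 1 := by
    intro v
    obtain ⟨x, rfl⟩ := QuotientGroup.mk_surjective v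
    have := hM x
    rw [pow_two] at this
    exact (QuotientGroup.eq_one_iff _).2 this
  have hz : ∀ (v : X ⧸ M) (i : ℤ), v ^ i = 1 ∨ v ^ i = v := by
    intro v i
    rcases Int.even_or_odd' i with ⟨j, rfl | rfl⟩
    · left; rw [zpow_mul, zpow_two, hsq, one_zpow]
    · right; rw [zpow_add, zpow_mul, zpow_two, hsq, one_zpow, one_mul, zpow_one]
  let f : Bool × Bool → X ⧸ M := fun p =>
    (if p.1 then (QuotientGroup.mk b : X ⧸ M) else 1) * (if p.2 then (QuotientGroup.mk a : X ⧸ M) else 1)
  have hf : Function.Surjective f := by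
    intro v
    obtain ⟨x, rfl⟩ := QuotientGroup.mk_surjective v
    obtain ⟨i, hi⟩ := hb' (QuotientGroup.mk x)
    have h1 : (b ^ i)⁻¹ * x ∈ N := by
      rw [← QuotientGroup.eq]
      exact hi
    obtain ⟨j, hj⟩ := ha ⟨_, h1⟩
    have h2 : a ^ j = (b ^ i)⁻¹ * x := congrArg Subtype.val hj
    have h3 : x = b ^ i * a ^ j := by rw [h2]; group
    have h4 : (QuotientGroup.mk x : X ⧸ M) = (QuotientGroup.mk b : X ⧸ M) ^ i * (QuotientGroup.mk a : X ⧸ M) ^ j := by
      rw [h3]; rfl
    rcases hz (QuotientGroup.mk b) i with e1 | e1 <;> rcases hz (QuotientGroup.mk a) j with e2 | e2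
    · exact ⟨(false, false), by rw [h4, e1, e2]; rfl⟩
    · exact ⟨(false, true), by rw [h4, e1, e2]; rfl⟩
    · exact ⟨(true, false), by rw [h4, e1, e2]; rfl⟩
    · exact ⟨(true, true), by rw [h4, e1, e2]; rfl⟩
  have h5 := Nat.card_le_card_of_surjective f hf
  have h6 : Nat.card (Bool × Bool) = 4 := by simp
  rw [h6] at h5
  exact h5

/-- **Lemma B.** -/
theorem mem_frattini_of_fixed [Finite X] (hX : IsPGroup 2 X) (hm : Cfsg.IsMetacyclic X) {r : ℕ}
    [hr : Fact r.Prime] (hr2 : r ≠ 2) {α : MulAut X} (hα : α ^ r = 1) (hα1 : α ≠ 1) {x : X}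
    (hx : x⁻¹ * α x ∈ frattini X) : x ∈ frattini X := by
  by_contra hxn
  have hchar : ∀ n ∈ frattini X, α n ∈ frattini X := by
    intro n hn
    have h1 := (Subgroup.characteristic_iff_le_comap.1 (inferInstance : (frattini X).Characteristic)) α
    exact h1 hn
  obtain ⟨n, hn, hfix⟩ := exists_fixed hX hr2 hα hchar hx
  set y := x * n with hy
  have hyn : y ∉ frattini X := fun h => hxn (by
    have := mul_mem h (inv_mem hn)
    rwa [hy, mul_inv_cancel_right] at this)
  -- the subgroup of fixed points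
  let F : Subgroup X := (α.toMonoidHom).eqLocus (MonoidHom.id X)
  have hF : ∀ z, z ∈ F ↔ α z = z := fun z => Iff.rfl
  have hFtop : F ≠ ⊤ := by
    intro h
    apply hα1
    ext z
    have : z ∈ F := by rw [h]; exact mem_top z
    exact this
  have hyF : y ∈ F := hfix
  set K := zpowers y ⊔ frattini X with hK
  have hKα : ∀ k ∈ K, α k ∈ K := by
    intro k hk
    have h1 : K ≤ K.comap α.toMonoidHom := by
      rw [hK, sup_le_iff]
      constructor
      · rw [zpowers_le, mem_comap]
        change α y ∈ _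
        rw [(hF y).1 hyF]
        exact mem_sup_left (mem_zpowers y)
      · intro n hn
        rw [mem_comap]
        exact mem_sup_right (hchar n hn)
    exact h1 hk
  have hΦK : frattini X ≤ K := le_sup_right
  have hindΦ : (frattini X).index ≤ 4 := index_le_four hm _ (fun x =>
    Cfsg.Agent.Lib.FrattiniPGroup.pow_mem_frattini hX x)
  have hrel : 2 ≤ (frattini X).relIndex K := by
    by_contra h
    have h1 : (frattini X).relIndex K ≠ 0 := Subgroup.index_ne_zero_of_finite
    have h2 : (frattini X).relIndex K = 1 := by omega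
    rw [Subgroup.relIndex_eq_one] at h2
    exact hyn (h2 (mem_sup_left (mem_zpowers y)))
  have hmul := Subgroup.relIndex_mul_index hΦK
  have hKi : K.index ≤ 2 := by
    by_contra h
    have : 2 * 3 ≤ (frattini X).relIndex K * K.index := Nat.mul_le_mul hrel (by omega)
    omega
  have hgen : ∀ L : Subgroup X, L ⊔ frattini X = ⊤ → L = ⊤ := fun L hL =>
    frattini_nongenerating hL
  have hK0 : K.index ≠ 0 := Subgroup.index_ne_zero_of_finite
  have hK1 : K.index ≠ 1 := by
    intro h
    rw [Subgroup.index_eq_one] at h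
    have h1 := hgen _ h
    apply hFtop
    rw [eq_top_iff, ← h1, zpowers_le]
    exact hyF
  have hK2 : K.index = 2 := by omega
  obtain ⟨w, hw⟩ : ∃ w, w ∉ K := by
    by_contra hcon
    push Not at hcon
    exact hK1 (Subgroup.index_eq_one.2 (eq_top_iff.2 fun z _ => hcon z))
  have hαw : α w ∉ K := by
    intro h
    apply hw
    -- iterate
    have hfin : IsOfFinOrder α := isOfFinOrder_iff_pow_eq_one.2 ⟨r, hr.out.pos, hα⟩
    have h2 : ∀ k : ℕ, ∀ z ∈ K, (α ^ k) z ∈ K := by
      intro k
      induction k with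
      | zero => intro z hz; simpa using hz
      | succ k ih =>
        intro z hz
        rw [pow_succ', MulAut.mul_apply]
        exact hKα _ (ih z hz)
    have h3 := h2 (r - 1) _ h
    have h4 : (α ^ (r - 1)) (α w) = w := by
      rw [← MulAut.mul_apply, ← pow_succ, Nat.sub_add_cancel hr.out.one_le, hα, MulAut.one_apply]
    rwa [h4] at h3
  have hww : w⁻¹ * α w ∈ K := by
    rw [Subgroup.mul_mem_iff_of_index_two hK2, inv_mem_iff]
    exact iff_of_false hw hαw
  obtain ⟨k, hk, hkfix⟩ := exists_fixed hX hr2 hα hKα hww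
  have hwk : w * k ∉ K := fun h => hw (by
    have := mul_mem h (inv_mem hk)
    rwa [mul_inv_cancel_right] at this)
  -- `F ⊔ Φ` is everything
  apply hFtop
  apply hgen
  have hKF : K ≤ F ⊔ frattini X := by
    rw [hK, sup_le_iff, zpowers_le]
    exact ⟨mem_sup_left hyF, le_sup_right⟩
  have hi : (F ⊔ frattini X).index ∣ 2 := by
    rw [← hK2]; exact Subgroup.index_dvd_of_le hKF
  rcases (Nat.dvd_prime Nat.prime_two).1 hi with h1 | h1
  · exact Subgroup.index_eq_one.1 h1
  · exfalso
    have h2 : K = F ⊔ frattini X := by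
      have h3 := Subgroup.relIndex_mul_index hKF
      rw [h1, hK2] at h3
      have h4 : K.relIndex (F ⊔ frattini X) = 1 := by omega
      exact le_antisymm hKF (Subgroup.relIndex_eq_one.1 h4)
    apply hwk
    rw [h2]
    exact mem_sup_left hkfix

/-- **Lemma C.** The elements `x⁻¹ α(x)` cover everything modulo the Frattini subgroup. -/
theorem exists_mod_frattini [Finite X] (hX : IsPGroup 2 X) (hm : Cfsg.IsMetacyclic X) {r : ℕ}
    [hr : Fact r.Prime] (hr2 : r ≠ 2) {α : MulAut X} (hα : α ^ r = 1) (hα1 : α ≠ 1) (y : X) :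
    ∃ x, y⁻¹ * (x⁻¹ * α x) ∈ frattini X := by
  have hcomm : ∀ u v : X ⧸ frattini X, u * v = v * u := by
    intro u v
    obtain ⟨u, rfl⟩ := QuotientGroup.mk_surjective u
    obtain ⟨v, rfl⟩ := QuotientGroup.mk_surjective v
    have h := Cfsg.Agent.Lib.FrattiniPGroup.commutator_mem_frattini hX u v
    rw [← QuotientGroup.eq_one_iff] at h
    rw [← commutatorElement_eq_one_iff_mul_comm]
    exact h
  have hchar : frattini X ≤ (frattini X).comap (α : X →* X) :=
    (Subgroup.characteristic_iff_le_comap.1 (inferInstance : (frattini X).Characteristic)) α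
  let A : X ⧸ frattini X →* X ⧸ frattini X :=
    QuotientGroup.map (frattini X) (frattini X) (α : X →* X) hchar
  let g : X ⧸ frattini X → X ⧸ frattini X := fun v => v⁻¹ * A v
  have hg : Function.Injective g := by
    intro u v huv
    obtain ⟨u, rfl⟩ := QuotientGroup.mk_surjective u
    obtain ⟨v, rfl⟩ := QuotientGroup.mk_surjective v
    have h1 : (QuotientGroup.mk (u * v⁻¹) : X ⧸ frattini X)⁻¹ * A (QuotientGroup.mk (u * v⁻¹)) = 1 := by
      have h2 : (QuotientGroup.mk u : X ⧸ frattini X)⁻¹ * A (QuotientGroup.mk u) =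
        (QuotientGroup.mk v : X ⧸ frattini X)⁻¹ * A (QuotientGroup.mk v) := huv
      rw [QuotientGroup.mk_mul, QuotientGroup.mk_inv, map_mul, map_inv, mul_inv_rev, inv_inv]
      generalize (QuotientGroup.mk u : X ⧸ frattini X) = u' at h2 ⊢
      generalize (QuotientGroup.mk v : X ⧸ frattini X) = v' at h2 ⊢
      generalize A u' = a at h2 ⊢
      generalize A v' = b at h2 ⊢
      have h3 : a = u' * (v'⁻¹ * b) := by rw [← h2, mul_inv_cancel_left]
      rw [h3]
      calc v' * u'⁻¹ * (u' * (v'⁻¹ * b) * b⁻¹) = v' * v'⁻¹ := by group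
        _ = 1 := mul_inv_cancel v'
    have h2 : (u * v⁻¹)⁻¹ * α (u * v⁻¹) ∈ frattini X := by
      rw [← QuotientGroup.eq_one_iff]
      exact h1
    have h3 := mem_frattini_of_fixed hX hm hr2 hα hα1 h2
    rw [← QuotientGroup.eq_one_iff, QuotientGroup.mk_mul, QuotientGroup.mk_inv,
      mul_inv_eq_one] at h3
    exact h3
  have hs := Finite.surjective_of_injective hg
  obtain ⟨x, hx⟩ := hs (QuotientGroup.mk y)
  obtain ⟨x, rfl⟩ := QuotientGroup.mk_surjective x
  refine ⟨x, ?_⟩
  rw [← QuotientGroup.eq]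
  exact hx.symm

/-- A subgroup containing all `x⁻¹ α(x)` is everything. -/
theorem eq_top_of_forall [Finite X] (hX : IsPGroup 2 X) (hm : Cfsg.IsMetacyclic X) {r : ℕ}
    [hr : Fact r.Prime] (hr2 : r ≠ 2) {α : MulAut X} (hα : α ^ r = 1) (hα1 : α ≠ 1)
    (L : Subgroup X) (hL : ∀ x, x⁻¹ * α x ∈ L) : L = ⊤ := by
  apply frattini_nongenerating
  rw [eq_top_iff]
  intro y _
  obtain ⟨x, hx⟩ := exists_mod_frattini hX hm hr2 hα hα1 y
  have h1 : y = (x⁻¹ * α x) * (y⁻¹ * (x⁻¹ * α x))⁻¹ := by group
  rw [h1]
  exact mul_mem (mem_sup_left (hL x)) (mem_sup_right (inv_mem hx))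

/-- **Lemma T.** A fixed-point-free endomorphism with `A^r = 1`, `r` odd, of a group of order at
most four. -/
theorem three_cycle {V : Type*} [Group V] [Finite V] (hV : Nat.card V ≤ 4) {A : V →* V} {r : ℕ}
    (hr : Odd r) (hA : ∀ v, A^[r] v = v) (hfpf : ∀ v, A v = v → v = 1) {v : V} (hv : v ≠ 1) :
    A (A (A v)) = v ∧ ∀ w, w = 1 ∨ w = v ∨ w = A v ∨ w = A (A v) := by
  have hinj : Function.Injective A := by
    intro x y hxy
    obtain ⟨k, hk⟩ := hr
    have h1 := hA x
    have h2 := hA y
    rw [hk, Function.iterate_add_apply, Function.iterate_one] at h1 h2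
    rw [← h1, ← h2, hxy]
  have h1 : A v ≠ 1 := fun h => hv (hinj (by rw [h, map_one]))
  have h2 : A (A v) ≠ 1 := fun h => h1 (hinj (by rw [h, map_one]))
  have h3 : A v ≠ v := fun h => hv (hfpf v h)
  have h4 : A (A v) ≠ A v := fun h => h3 (hinj h)
  have h5 : A (A v) ≠ v := by
    intro h
    apply h3
    obtain ⟨k, hk⟩ := hr
    have h6 := hA v
    have h7 : ∀ j : ℕ, A^[2 * j] v = v := by
      intro j
      induction j with
      | zero => rfl
      | succ j ih =>
        rw [Nat.mul_succ, Function.iterate_add_apply]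
        change A^[2 * j] (A (A v)) = v
        rw [h, ih]
    have h8 : A^[2 * k + 1] v = A (A^[2 * k] v) := Function.iterate_succ_apply' A (2 * k) v
    rw [hk, h8, h7] at h6
    exact h6
  classical
  have hall : ∀ w, w = 1 ∨ w = v ∨ w = A v ∨ w = A (A v) := by
    have := Fintype.ofFinite V
    let S : Finset V := {1, v, A v, A (A v)}
    have hS : S.card = 4 := by
      simp only [S]
      rw [Finset.card_insert_of_notMem, Finset.card_insert_of_notMem,
        Finset.card_insert_of_notMem, Finset.card_singleton]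
      all_goals simp only [Finset.mem_insert, Finset.mem_singleton, not_or]
      · exact h4.symm
      · exact ⟨h3.symm, h5.symm⟩
      · exact ⟨hv.symm, h1.symm, h2.symm⟩
    have hS' : S = Finset.univ := by
      apply Finset.eq_univ_of_card
      rw [hS]
      apply le_antisymm
      · rw [← hS]; exact Finset.card_le_univ S
      · rw [← Nat.card_eq_fintype_card]; exact hV
    intro w
    have : w ∈ S := by rw [hS']; exact Finset.mem_univ w
    simpa [S] using this
  refine ⟨?_, hall⟩
  rcases hall (A (A (A v))) with h | h | h | h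
  · exact absurd (hinj (h.trans (map_one A).symm)) h2
  · exact h
  · exact absurd (hinj h) h5
  · exact absurd (hinj h) h4

/-- iterates of the map induced on a quotient -/
theorem iterate_map {D : Subgroup X} [D.Normal] {α : MulAut X} (hD : D ≤ D.comap (α : X →* X))
    (k : ℕ) (x : X) :
    (QuotientGroup.map D D (α : X →* X) hD)^[k] (QuotientGroup.mk x) =
      QuotientGroup.mk ((α ^ k) x) := by
  induction k with
  | zero => rfl
  | succ k ih =>
    rw [Function.iterate_succ_apply', ih, pow_succ', MulAut.mul_apply]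
    rfl

/-- The automorphism has order 3. -/
theorem cube_eq_one [Finite X] (hX : IsPGroup 2 X) (hm : Cfsg.IsMetacyclic X) {r : ℕ}
    [hr : Fact r.Prime] (hr2 : r ≠ 2) {α : MulAut X} (hα : α ^ r = 1) (hα1 : α ≠ 1) :
    α ^ 3 = 1 := by
  by_contra h3
  have hodd : Odd r := hr.out.odd_of_ne_two hr2
  have hα3 : (α ^ 3) ^ r = 1 := by rw [← pow_mul, mul_comm, pow_mul, hα, one_pow]
  have hchar : frattini X ≤ (frattini X).comap (α : X →* X) :=
    (Subgroup.characteristic_iff_le_comap.1 (inferInstance : (frattini X).Characteristic)) α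
  have hcard : Nat.card (X ⧸ frattini X) ≤ 4 := index_le_four hm _ (fun x =>
    Cfsg.Agent.Lib.FrattiniPGroup.pow_mem_frattini hX x)
  have htop : frattini X = ⊤ := by
    rw [eq_top_iff]
    intro x _
    apply mem_frattini_of_fixed hX hm hr2 hα3 h3
    by_cases hx : (QuotientGroup.mk x : X ⧸ frattini X) = 1
    · have hx' : x ∈ frattini X := (QuotientGroup.eq_one_iff x).1 hx
      refine mul_mem (inv_mem hx') ?_
      exact (Subgroup.characteristic_iff_le_comap.1
        (inferInstance : (frattini X).Characteristic)) (α ^ 3) hx'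
    · have h1 := (three_cycle hcard (A := QuotientGroup.map (frattini X) (frattini X) (α : X →* X)
        hchar) hodd (by
          intro v
          obtain ⟨y, rfl⟩ := QuotientGroup.mk_surjective v
          rw [iterate_map hchar, hα]
          rfl) (by
          intro v hv
          obtain ⟨y, rfl⟩ := QuotientGroup.mk_surjective v
          have h2 : y⁻¹ * α y ∈ frattini X := by
            rw [← QuotientGroup.eq]
            exact hv.symm
          exact (QuotientGroup.eq_one_iff y).2 (mem_frattini_of_fixed hX hm hr2 hα hα1 h2)) hx).1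
      have h2 := iterate_map hchar 3 x
      rw [← QuotientGroup.eq]
      rw [← h2]
      exact h1.symm
  -- then `X` is trivial
  apply hα1
  have h4 : (⊥ : Subgroup X) = ⊤ := frattini_nongenerating (by rw [htop]; exact sup_top_eq _)
  ext z
  have h5 : z ∈ (⊥ : Subgroup X) := by rw [h4]; exact mem_top z
  rw [Subgroup.mem_bot.1 h5, map_one, map_one]

/-- An automorphism of odd order of a cyclic 2-group is trivial. -/
theorem eq_one_of_cyclic {C : Type*} [Group C] [Finite C] [IsCyclic C] (hC : IsPGroup 2 C) {r : ℕ}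
    (hr : Odd r) {β : MulAut C} (hβ : β ^ r = 1) : β = 1 := by
  obtain ⟨k, hk⟩ := IsPGroup.iff_card.1 hC
  have h1 := Cfsg.Agent.TwoFusion.CyclicAut.isPGroup_mulAut k hk
  obtain ⟨j, hj⟩ := h1 β
  have h2 : orderOf β ∣ r := orderOf_dvd_of_pow_eq_one hβ
  have h3 : orderOf β ∣ 2 ^ j := orderOf_dvd_of_pow_eq_one hj
  have h4 : (2 ^ j).Coprime r := Nat.Coprime.pow_left j (Nat.coprime_two_left.2 hr)
  have h5 : orderOf β ∣ 1 := by
    rw [← h4]
    exact Nat.dvd_gcd h3 h2
  exact orderOf_eq_one_iff.1 (Nat.dvd_one.1 h5)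

/-- The derived subgroup of a metacyclic group is cyclic. -/
theorem isCyclic_commutator (hm : Cfsg.IsMetacyclic X) : IsCyclic (commutator X) := by
  obtain ⟨N, hN, hNc, hQc⟩ := hm
  have h1 : commutator X ≤ N := by
    rw [commutator_def, Subgroup.commutator_le]
    intro x _ y _
    rw [← QuotientGroup.eq_one_iff]
    have h2 : (QuotientGroup.mk x : X ⧸ N) * QuotientGroup.mk y =
        QuotientGroup.mk y * QuotientGroup.mk x :=
      (IsCyclic.commGroup (α := X ⧸ N)).mul_comm _ _
    exact commutatorElement_eq_one_iff_mul_comm.2 h2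
  exact isCyclic_of_injective (Subgroup.inclusion h1) (Subgroup.inclusion_injective h1)

section Main

variable [Finite X] (hX : IsPGroup 2 X) (hm : Cfsg.IsMetacyclic X) {r : ℕ}
    [hr : Fact r.Prime] (hr2 : r ≠ 2) {α : MulAut X} (hα : α ^ r = 1) (hα1 : α ≠ 1)

include hX hm hr2 hα hα1

/-- The automorphism fixes the derived subgroup pointwise. -/
theorem fix_commutator {c : X} (hc : c ∈ commutator X) : α c = c := by
  have := isCyclic_commutator hm
  have hodd : Odd r := hr.out.odd_of_ne_two hr2
  have h1 : MulAut.characteristic (commutator X) α = 1 := by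
    apply eq_one_of_cyclic (hX.to_subgroup _) hodd
    rw [← map_pow, hα, map_one]
  have h2 := congrArg (fun β : MulAut (commutator X) => ((β ⟨c, hc⟩ : commutator X) : X)) h1
  simpa using h2

/-- The derived subgroup is central. -/
theorem commutator_le_center : commutator X ≤ center X := by
  intro c hc
  have h1 : centralizer ({c} : Set X) = ⊤ := by
    apply eq_top_of_forall hX hm hr2 hα hα1
    intro x
    rw [mem_centralizer_singleton_iff]
    have h2 : x * c * x⁻¹ ∈ commutator X := (inferInstance : (commutator X).Normal).conj_mem c hc x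
    have h3 := fix_commutator hX hm hr2 hα hα1 h2
    have h4 := fix_commutator hX hm hr2 hα hα1 hc
    rw [map_mul, map_mul, map_inv, h4] at h3
    -- `α x * c * (α x)⁻¹ = x * c * x⁻¹`
    have h5 : x⁻¹ * α x * c = x⁻¹ * (α x * c * (α x)⁻¹) * α x := by group
    rw [h5, h3]
    group
  rw [mem_center_iff]
  intro g
  have h2 : g ∈ centralizer ({c} : Set X) := by rw [h1]; exact mem_top g
  exact mem_centralizer_singleton_iff.1 h2

/-- The automorphism acts without fixed points on `X / X'`. -/
theorem mem_commutator_of_fixed {x : X} (hx : x⁻¹ * α x ∈ commutator X) : x ∈ commutator X := by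
  set D := commutator X with hD
  have hcomm : ∀ u v : X ⧸ D, u * v = v * u := by
    intro u v
    obtain ⟨u, rfl⟩ := QuotientGroup.mk_surjective u
    obtain ⟨v, rfl⟩ := QuotientGroup.mk_surjective v
    have h : ⁅u, v⁆ ∈ D := by
      rw [hD, commutator_def]
      exact Subgroup.commutator_mem_commutator (mem_top u) (mem_top v)
    rw [← QuotientGroup.eq_one_iff] at h
    rw [← commutatorElement_eq_one_iff_mul_comm]
    exact h
  let φ : X →* X ⧸ D :=
    { toFun := fun x => QuotientGroup.mk (x⁻¹ * α x)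
      map_one' := by simp
      map_mul' := by
        intro x y
        rw [← QuotientGroup.mk_mul, mul_inv_rev, map_mul]
        have h1 : (QuotientGroup.mk (y⁻¹ * x⁻¹ * (α x * α y)) : X ⧸ D) =
          (QuotientGroup.mk y)⁻¹ * (QuotientGroup.mk (x⁻¹ * α x)) * QuotientGroup.mk (α y) := by
          rw [← QuotientGroup.mk_inv, ← QuotientGroup.mk_mul, ← QuotientGroup.mk_mul]
          congr 1
          group
        rw [h1, hcomm (QuotientGroup.mk y)⁻¹, mul_assoc, QuotientGroup.mk_mul,
          QuotientGroup.mk_mul]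
        rfl }
  have hrange : φ.range = ⊤ := by
    have h1 : φ.range.comap (QuotientGroup.mk' D) = ⊤ := by
      apply eq_top_of_forall hX hm hr2 hα hα1
      intro y
      exact ⟨y, rfl⟩
    rw [eq_top_iff]
    intro v _
    obtain ⟨y, rfl⟩ := QuotientGroup.mk_surjective v
    have h2 : y ∈ φ.range.comap (QuotientGroup.mk' D) := by rw [h1]; exact mem_top y
    exact h2
  have hker : φ.ker.index = D.index := by
    rw [Subgroup.index_ker, hrange, Nat.card_congr Subgroup.topEquiv.toEquiv]
    rfl
  have hDk : D ≤ φ.ker := by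
    intro d hd
    rw [MonoidHom.mem_ker]
    change (QuotientGroup.mk (d⁻¹ * α d) : X ⧸ D) = 1
    rw [fix_commutator hX hm hr2 hα hα1 hd, inv_mul_cancel]
    rfl
  have h3 : D.relIndex φ.ker = 1 := by
    have h4 := Subgroup.relIndex_mul_index hDk
    rw [hker] at h4
    have h5 : 0 < D.index := Nat.pos_of_ne_zero Subgroup.index_ne_zero_of_finite
    exact Nat.eq_of_mul_eq_mul_right h5 (by rw [h4, one_mul])
  apply Subgroup.relIndex_eq_one.1 h3
  rw [MonoidHom.mem_ker]
  exact (QuotientGroup.eq_one_iff _).2 hx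

/-- `X / X'` is homocyclic. -/
theorem exists_equiv : ∃ n : ℕ,
    Nonempty (X ⧸ commutator X ≃* Multiplicative (ZMod (2 ^ n) × ZMod (2 ^ n))) := by
  have hchar : commutator X ≤ (commutator X).comap (α : X →* X) :=
    (Subgroup.characteristic_iff_le_comap.1 (inferInstance : (commutator X).Characteristic)) α
  have hα3 := cube_eq_one hX hm hr2 hα hα1
  let e : X ⧸ commutator X ≃* Abelianization X := MulEquiv.refl _
  let A : Abelianization X →* Abelianization X :=
    QuotientGroup.map (commutator X) (commutator X) (α : X →* X) hchar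
  have hA : FpfPow A 1 := by
    constructor
    · intro v
      obtain ⟨y, rfl⟩ := QuotientGroup.mk_surjective v
      have h1 := iterate_map hchar (3 ^ 1) y
      rw [pow_one, hα3] at h1
      rw [pow_one]
      exact h1
    · intro v hv
      obtain ⟨y, rfl⟩ := QuotientGroup.mk_surjective v
      have h2 : y⁻¹ * α y ∈ commutator X := by
        rw [← QuotientGroup.eq]
        exact hv.symm
      exact (QuotientGroup.eq_one_iff y).2 (mem_commutator_of_fixed hX hm hr2 hα hα1 h2)
  have hp : IsPGroup 2 (Abelianization X) := hX.to_quotient (commutator X)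
  have hcard : Nat.card {x : Abelianization X // x ^ 2 = 1} ≤ 4 := by
    let f : Abelianization X →* Abelianization X := powMonoidHom 2
    have h1 : Nat.card f.ker ≤ 4 := by
      have h2 := f.ker.card_mul_index
      have h3 := f.range.card_mul_index
      have h4 : f.range.index ≤ 4 := by
        have hmq : Cfsg.IsMetacyclic (Abelianization X) :=
          Cfsg.Agent.OddOrderLocal.Metacyclic.isMetacyclic_of_surjective
            (QuotientGroup.mk' (commutator X)) (QuotientGroup.mk'_surjective _) hm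
        exact index_le_four hmq f.range (fun x => ⟨x, rfl⟩)
      rw [Subgroup.index_ker] at h2
      have h5 : 0 < Nat.card f.range := Nat.card_pos
      have h6 : Nat.card f.ker = f.range.index := by
        apply Nat.eq_of_mul_eq_mul_left h5
        rw [h3, mul_comm, h2]
      rw [h6]
      exact h4
    exact h1
  exact Cfsg.Agent.TwoFusion.FpfAbelian.exists_mulEquiv hp hA hcard

/-- All elements outside `X'` have the same square, if `X / X'` has order four. -/
theorem sq_eq_sq (hcard : Nat.card (X ⧸ commutator X) = 4) (hD : ∀ d ∈ commutator X, d ^ 2 = 1)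
    (hsq : ∀ x : X, x ^ 2 ∈ commutator X)
    {x y : X} (hx : x ∉ commutator X) (hy : y ∉ commutator X) : x ^ 2 = y ^ 2 := by
  have hchar : commutator X ≤ (commutator X).comap (α : X →* X) :=
    (Subgroup.characteristic_iff_le_comap.1 (inferInstance : (commutator X).Characteristic)) α
  have hodd : Odd r := hr.out.odd_of_ne_two hr2
  let A : X ⧸ commutator X →* X ⧸ commutator X :=
    QuotientGroup.map (commutator X) (commutator X) (α : X →* X) hchar
  have hx1 : (QuotientGroup.mk x : X ⧸ commutator X) ≠ 1 := fun h =>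
    hx ((QuotientGroup.eq_one_iff x).1 h)
  have h := (three_cycle hcard.le (A := A) hodd (by
      intro v
      obtain ⟨y, rfl⟩ := QuotientGroup.mk_surjective v
      rw [iterate_map hchar, hα]
      rfl) (by
      intro v hv
      obtain ⟨y, rfl⟩ := QuotientGroup.mk_surjective v
      have h2 : y⁻¹ * α y ∈ commutator X := by
        rw [← QuotientGroup.eq]
        exact hv.symm
      exact (QuotientGroup.eq_one_iff y).2 (mem_commutator_of_fixed hX hm hr2 hα hα1 h2)) hx1).2
      (QuotientGroup.mk y)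
  have key : ∀ z : X, z ^ 2 = x ^ 2 → (QuotientGroup.mk y : X ⧸ commutator X) = QuotientGroup.mk z →
      x ^ 2 = y ^ 2 := by
    intro z hz hyz
    have h1 : z⁻¹ * y ∈ commutator X := by
      rw [← QuotientGroup.eq]; exact hyz.symm
    have h2 : z⁻¹ * y ∈ center X := commutator_le_center hX hm hr2 hα hα1 h1
    have h3 : y = z * (z⁻¹ * y) := by group
    have h4 : Commute z (z⁻¹ * y) := mem_center_iff.1 h2 z
    rw [h3, h4.mul_pow, hD _ h1, mul_one, hz]
  have hα2 : (α x) ^ 2 = x ^ 2 := by
    rw [← map_pow]; exact fix_commutator hX hm hr2 hα hα1 (hsq x)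
  rcases h with h | h | h | h
  · exact absurd ((QuotientGroup.eq_one_iff y).1 h) hy
  · exact key x rfl h
  · exact key (α x) hα2 h
  · refine key (α (α x)) ?_ h
    rw [← map_pow, hα2]
    exact fix_commutator hX hm hr2 hα hα1 (hsq x)

/-- The non-abelian case. -/
theorem quaternion (hna : commutator X ≠ ⊥) : Nonempty (X ≃* QuaternionGroup 2) := by
  set D := commutator X with hDdef
  have hZ : D ≤ center X := commutator_le_center hX hm hr2 hα hα1
  have hDc : IsCyclic D := isCyclic_commutator hm
  obtain ⟨n, ⟨e⟩⟩ := exists_equiv hX hm hr2 hα hα1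
  have hcardQ : D.index = 4 ^ n := by
    have h1 : D.index = Nat.card (X ⧸ D) := rfl
    rw [h1, Nat.card_congr e.toEquiv]
    have h2 : Nat.card (Multiplicative (ZMod (2 ^ n) × ZMod (2 ^ n))) =
        Nat.card (ZMod (2 ^ n) × ZMod (2 ^ n)) := rfl
    rw [h2, Nat.card_prod, Nat.card_zmod, ← mul_pow]
    norm_num
  have hpow : ∀ x : X, x ^ 2 ^ n ∈ D := by
    intro x
    rw [← QuotientGroup.eq_one_iff]
    apply e.injective
    rw [map_one, QuotientGroup.mk_pow, map_pow]
    apply Multiplicative.toAdd.injective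
    rw [toAdd_pow, toAdd_one]
    have h0 : (2 : ZMod (2 ^ n)) ^ n = 0 := by exact_mod_cast ZMod.natCast_self (2 ^ n)
    ext
    · simp [h0]
    · simp [h0]
  have hcomD : ∀ x y : X, ⁅x, y⁆ ∈ D := by
    intro x y
    rw [hDdef, _root_.commutator_def]
    exact Subgroup.commutator_mem_commutator (mem_top x) (mem_top y)
  have hcen : ∀ d ∈ D, ∀ x : X, Commute x d := fun d hd x => mem_center_iff.1 (hZ hd) x
  -- `n ≤ 1`
  have hn1 : n ≤ 1 := by
    by_contra hn
    push Not at hn
    let Z₀ : Subgroup X :=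
      { carrier := {z | ∃ d ∈ D, d ^ 2 = z}
        mul_mem' := by
          rintro _ _ ⟨d, hd, rfl⟩ ⟨d', hd', rfl⟩
          exact ⟨d * d', mul_mem hd hd', (hcen d' hd' d).mul_pow 2⟩
        one_mem' := ⟨1, one_mem _, one_pow _⟩
        inv_mem' := by
          rintro _ ⟨d, hd, rfl⟩
          exact ⟨d⁻¹, inv_mem hd, inv_pow d 2⟩ }
    have hZ₀D : Z₀ ≤ D := by
      rintro _ ⟨d, hd, rfl⟩
      exact pow_mem hd 2
    have hZ₀n : Z₀.Normal := by
      refine ⟨fun z hz g => ?_⟩
      rw [(hcen z (hZ₀D hz) g).eq, mul_inv_cancel_right]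
      exact hz
    have hodd2 : Even ((2 ^ n).choose 2) := by
      rw [Nat.choose_two_right]
      obtain ⟨m, rfl⟩ : ∃ m, n = m + 2 := ⟨n - 2, by omega⟩
      have h1 : 2 ^ (m + 2) * (2 ^ (m + 2) - 1) / 2 = 2 * (2 ^ m * (2 ^ (m + 2) - 1)) := by
        have h2 : 2 ^ (m + 2) * (2 ^ (m + 2) - 1) = 2 * (2 * (2 ^ m * (2 ^ (m + 2) - 1))) := by
          generalize 2 ^ (m + 2) - 1 = t
          rw [pow_add]; ring
        rw [h2, Nat.mul_div_cancel_left _ (by norm_num)]
      rw [h1]
      exact even_two_mul _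
    obtain ⟨t, ht⟩ := hodd2
    let f : X →* X ⧸ Z₀ :=
      { toFun := fun x => QuotientGroup.mk (x ^ 2 ^ n)
        map_one' := by simp
        map_mul' := by
          intro x y
          rw [Cfsg.Agent.OddOrderLocal.MetacyclicCoprime.mul_pow_of_commute_commutator
            (hcen _ (hcomD y x) x) (hcen _ (hcomD y x) y), QuotientGroup.mk_mul,
            QuotientGroup.mk_mul]
          have h1 : (QuotientGroup.mk (⁅y, x⁆ ^ (2 ^ n).choose 2) : X ⧸ Z₀) = 1 := by
            rw [QuotientGroup.eq_one_iff]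
            refine ⟨⁅y, x⁆ ^ t, pow_mem (hcomD y x) t, ?_⟩
            rw [← pow_mul, ht, mul_two]
          rw [h1, mul_one] }
    have hker : f.ker = ⊤ := by
      apply eq_top_of_forall hX hm hr2 hα hα1
      intro x
      rw [MonoidHom.mem_ker, map_mul, map_inv, inv_mul_eq_one]
      change (QuotientGroup.mk (x ^ 2 ^ n) : X ⧸ Z₀) = QuotientGroup.mk ((α x) ^ 2 ^ n)
      rw [← map_pow, fix_commutator hX hm hr2 hα hα1 (hpow x)]
    have hmem : ∀ x : X, x ^ 2 ^ n ∈ Z₀ := by
      intro x
      have h1 : x ∈ f.ker := by rw [hker]; exact mem_top x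
      exact (QuotientGroup.eq_one_iff _).1 h1
    -- order of `X / Z₀`
    have hle : Z₀.index ≤ 2 ^ n * 2 ^ n := by
      obtain ⟨N, hN, hNc, hQc⟩ := Cfsg.Agent.OddOrderLocal.Metacyclic.isMetacyclic_of_surjective
            (QuotientGroup.mk' Z₀) (QuotientGroup.mk'_surjective _) hm
      have hexp : ∀ v : X ⧸ Z₀, v ^ 2 ^ n = 1 := by
        intro v
        obtain ⟨x, rfl⟩ := QuotientGroup.mk_surjective v
        rw [← QuotientGroup.mk_pow]
        exact (QuotientGroup.eq_one_iff _).2 (hmem x)
      have hpos : 0 < 2 ^ n := by positivity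
      have h1 : Nat.card N ≤ 2 ^ n := by
        obtain ⟨g, hg⟩ := hNc.exists_generator
        rw [← orderOf_eq_card_of_forall_mem_zpowers hg]
        apply orderOf_le_of_pow_eq_one hpos
        exact Subtype.ext (hexp _)
      have h2 : N.index ≤ 2 ^ n := by
        obtain ⟨g, hg⟩ := hQc.exists_generator
        have h3 : N.index = Nat.card ((X ⧸ Z₀) ⧸ N) := rfl
        rw [h3, ← orderOf_eq_card_of_forall_mem_zpowers hg]
        apply orderOf_le_of_pow_eq_one hpos
        obtain ⟨v, rfl⟩ := QuotientGroup.mk_surjective g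
        rw [← QuotientGroup.mk_pow, hexp, QuotientGroup.mk_one]
      have h3 : Z₀.index = Nat.card N * N.index := by
        rw [N.card_mul_index]; rfl
      rw [h3]
      exact Nat.mul_le_mul h1 h2
    obtain ⟨⟨c, hcD⟩, hc⟩ := hDc.exists_generator
    have hcZ : c ∉ Z₀ := by
      rintro ⟨d, hd, hdc⟩
      obtain ⟨j, hj⟩ := hc ⟨d, hd⟩
      have hj' : c ^ j = d := congrArg Subtype.val hj
      have h1 : c ^ (2 * j - 1) = 1 := by
        rw [zpow_sub, zpow_one, mul_comm 2 j, zpow_mul, hj', zpow_two, ← pow_two, hdc,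
          mul_inv_cancel]
      obtain ⟨k, hk⟩ := hX c
      have h2 : c = 1 := by
        have h3 : (orderOf c : ℤ) ∣ 2 * j - 1 := orderOf_dvd_iff_zpow_eq_one.2 h1
        have h4 : orderOf c ∣ 2 ^ k := orderOf_dvd_of_pow_eq_one hk
        obtain ⟨i, -, hi⟩ := (Nat.dvd_prime_pow Nat.prime_two).1 h4
        rcases Nat.eq_zero_or_pos i with h0 | h0
        · rw [h0, pow_zero] at hi
          exact orderOf_eq_one_iff.1 hi
        · exfalso
          have h5 : (2 : ℤ) ∣ 2 * j - 1 := by
            refine dvd_trans ?_ h3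
            rw [hi]
            exact_mod_cast dvd_pow_self 2 h0.ne'
          omega
      apply hna
      rw [eq_bot_iff]
      intro d hd
      obtain ⟨j, hj⟩ := hc ⟨d, hd⟩
      have hj' : c ^ j = d := congrArg Subtype.val hj
      rw [← hj', h2, one_zpow]
      exact one_mem _
    have hmul := Subgroup.relIndex_mul_index hZ₀D
    have h2 : 2 ≤ Z₀.relIndex D := by
      by_contra h
      have h1 : Z₀.relIndex D ≠ 0 := Subgroup.index_ne_zero_of_finite
      have h2 : Z₀.relIndex D = 1 := by omega
      rw [Subgroup.relIndex_eq_one] at h2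
      exact hcZ (h2 hcD)
    have h4 : 2 ^ n * 2 ^ n = 4 ^ n := by rw [← mul_pow]; norm_num
    rw [h4, ← hmul, hcardQ] at hle
    have h5 : 0 < 4 ^ n := by positivity
    have h6 : 2 * 4 ^ n ≤ Z₀.relIndex D * 4 ^ n := Nat.mul_le_mul_right _ h2
    omega
  have hn0 : n ≠ 0 := by
    rintro rfl
    rw [pow_zero, Subgroup.index_eq_one] at hcardQ
    apply hna
    rw [eq_bot_iff, hDdef, _root_.commutator_def, Subgroup.commutator_le]
    intro x _ y _
    have h1 : y ∈ center X := hZ (by rw [hcardQ]; exact mem_top y)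
    rw [Subgroup.mem_bot, commutatorElement_eq_one_iff_mul_comm]
    exact mem_center_iff.1 h1 x
  have hn : n = 1 := by omega
  subst hn
  rw [pow_one] at hcardQ
  have hsq : ∀ x : X, x ^ 2 ∈ D := by
    intro x
    have := hpow x
    rwa [pow_one] at this
  have hD2 : ∀ d ∈ D, d ^ 2 = 1 := by
    let W : Subgroup X :=
      { carrier := {z | z ∈ center X ∧ z ^ 2 = 1}
        mul_mem' := by
          rintro a b ⟨ha, ha'⟩ ⟨hb, hb'⟩
          refine ⟨mul_mem ha hb, ?_⟩
          have h1 : Commute a b := mem_center_iff.1 hb a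
          rw [h1.mul_pow, ha', hb', one_mul]
        one_mem' := ⟨one_mem _, one_pow _⟩
        inv_mem' := by
          rintro a ⟨ha, ha'⟩
          exact ⟨inv_mem ha, by rw [inv_pow, ha', inv_one]⟩ }
    have hDW : D ≤ W := by
      rw [hDdef, _root_.commutator_def, Subgroup.commutator_le]
      intro x _ y _
      refine ⟨hZ (hcomD x y), ?_⟩
      rw [← Cfsg.Agent.OddOrderLocal.MetacyclicCoprime.commutator_pow_left (hcen _ (hcomD x y) x),
        commutatorElement_eq_one_iff_mul_comm]
      exact (hcen _ (hsq x) y).symm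
    intro d hd
    exact (hDW hd).2
  have hcardD : Nat.card D = 2 := by
    obtain ⟨c, hc⟩ := hDc.exists_generator
    have h1 : Nat.card D ≤ 2 := by
      rw [← orderOf_eq_card_of_forall_mem_zpowers hc]
      apply orderOf_le_of_pow_eq_one (by norm_num)
      exact Subtype.ext (hD2 c c.2)
    have h2 : Nat.card D ≠ 1 := fun h => hna (Subgroup.card_eq_one.1 h)
    have h3 : 0 < Nat.card D := Nat.card_pos
    omega
  have hcard : Nat.card X = 8 := by
    rw [← D.card_mul_index, hcardD, hcardQ]
  have hnc : ¬ IsMulCommutative X := by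
    intro h
    apply hna
    rw [eq_bot_iff, hDdef, _root_.commutator_def, Subgroup.commutator_le]
    intro x _ y _
    rw [Subgroup.mem_bot, commutatorElement_eq_one_iff_mul_comm]
    exact h.is_comm.comm x y
  rcases Cfsg.Agent.SmallSimple.OrderEight.dihedral_or_quaternion_of_card_eight hcard hnc with
    hd8 | hq
  · exfalso
    obtain ⟨f⟩ := hd8
    have hx : f.symm (DihedralGroup.r 1) ∉ D := by
      intro h
      have h1 := mem_center_iff.1 (hZ h) (f.symm (DihedralGroup.sr 0))
      rw [← map_mul, ← map_mul] at h1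
      have h2 := f.symm.injective h1
      revert h2
      decide
    have hy : f.symm (DihedralGroup.sr 0) ∉ D := by
      intro h
      have h1 := mem_center_iff.1 (hZ h) (f.symm (DihedralGroup.r 1))
      rw [← map_mul, ← map_mul] at h1
      have h2 := f.symm.injective h1
      revert h2
      decide
    have h3 := sq_eq_sq hX hm hr2 hα hα1 hcardQ hD2 hsq hx hy
    rw [← map_pow, ← map_pow] at h3
    have h4 := f.symm.injective h3
    revert h4
    decide
  · exact hq

end Main

/-- A finite metacyclic 2-group whose automorphism group is not a 2-group is isomorphic to the quaternion group of order 8 or to a homocyclic abelian group Z_{2^n} × Z_{2^n}. -/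
theorem result {X : Type*} [Group X] [Finite X] (hX : IsPGroup 2 X)
    (hm : Cfsg.IsMetacyclic X) (hA : ¬ IsPGroup 2 (MulAut X)) :
    Nonempty (X ≃* QuaternionGroup 2) ∨
      ∃ n : ℕ, Nonempty (X ≃* Multiplicative (ZMod (2 ^ n)) × Multiplicative (ZMod (2 ^ n))) := by
  -- an automorphism of odd prime order
  obtain ⟨r, hrp, hr2, hrd⟩ : ∃ r : ℕ, r.Prime ∧ r ≠ 2 ∧ r ∣ Nat.card (MulAut X) := by
    by_contra hcon
    push Not at hcon
    apply hA
    rw [IsPGroup.iff_card]
    refine ⟨_, Nat.eq_prime_pow_of_unique_prime_dvd Nat.card_pos.ne' ?_⟩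
    intro d hd hdd
    by_contra h
    exact hcon d hd h hdd
  have := Fact.mk hrp
  obtain ⟨α, hα⟩ := exists_prime_orderOf_dvd_card' r hrd
  have hα1 : α ≠ 1 := by
    rintro rfl
    rw [orderOf_one] at hα
    exact hrp.ne_one hα.symm
  have hαr : α ^ r = 1 := by rw [← hα, pow_orderOf_eq_one]
  by_cases hD : commutator X = ⊥
  · right
    obtain ⟨n, ⟨e⟩⟩ := exists_equiv hX hm hr2 hαr hα1
    refine ⟨n, ⟨?_⟩⟩
    exact (QuotientGroup.quotientBot.symm.trans
      (QuotientGroup.quotientMulEquivOfEq hD.symm)).trans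
      (e.trans (MulEquiv.prodMultiplicative _ _))
  · left
    exact quaternion hX hm hr2 hαr hα1 hD

end Cfsg.Agent.S1896
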