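import Cfsg.Agent.H802.FusEss
import Cfsg.Agent.H772.MetaTwoA
import Cfsg.Prelude.Def_OddOrderLocal
import Cfsg.Agent.OddOrderLocal.Metacyclic
import Cfsg.Agent.S1896
import Cfsg.Agent.Lib.NormalAbelian
import Cfsg.Statements.S5212
set_option linter.all false

-- part: H772/EssTools
section
/-!
# Essential subgroups: normal `p`-subgroups of the automizer are inner (helper772)
-/

set_option autoImplicit false

namespace Cfsg.Agent.H772

open Cfsg Cfsg.FusionSystem Cfsg.Agent.H802

variable {Ω : Type*} [Group Ω] {S : Subgroup Ω}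

/-- For an essential subgroup `Q` and `g ∈ N_S(Q)` outside `Q`, some `α ∈ Aut_F(Q)` does not conjugate `c_g` into
`Aut_S(Q)`. -/
theorem exists_not_conj_of_isEssential {p : ℕ} [Fact p.Prime] [Finite S] (hS : IsPGroup p S)
    {F : FusionSystem S} (hF : F.IsSaturated p) {Q : Subgroup Ω} (hQ : F.IsEssential p Q)
    {g : Ω} (hg : g ∈ S) (hgQ : g ∉ Q) {β : MulAut Q} (hβ : ∀ x : Q, ((β x : Q) : Ω) = g * x * g⁻¹) :
    ∃ α ∈ F.autGroup Q, α * β * α⁻¹ ∉ autInducedBy S Q := by
  obtain ⟨D, hDA, hDne, hD⟩ := exists_proper_of_isEssential hS hF hQ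
  have hQr := isReceptive_of_isFullyNormalized hS hF hQ.2.1
  by_contra hcon
  push Not at hcon
  exact hDne (le_antisymm hDA fun α hα => hD α hα (extends_of_conj_mem hQr hα hg hgQ hβ (hcon α hα)))

/-- A normal `p`-subgroup of `Aut_F(Q)`, `Q` fully automized, lies in `Aut_S(Q)`. -/
theorem le_autInducedBy_of_normal {p : ℕ} [Fact p.Prime] [Finite S]
    {F : FusionSystem S} {Q : Subgroup Ω} (hQ : F.IsFullyAutomized p Q)
    (N : Subgroup (MulAut Q)) (hN : N ≤ F.autGroup Q) (hNp : IsPGroup p N)
    (hNn : ∀ α ∈ F.autGroup Q, ∀ β ∈ N, α * β * α⁻¹ ∈ N) : N ≤ autInducedBy S Q := by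
  have hQS := hQ.1
  have hfinQ : Finite Q := finite_of_le hQS
  set A := F.autGroup Q with hA
  obtain ⟨R, hR⟩ : ∃ R : Sylow p A, (R : Subgroup A) = (autInducedBy S Q).subgroupOf A := hQ.2
  have hN' : IsPGroup p (N.subgroupOf A) := hNp.comap_subtype
  obtain ⟨P, hP⟩ := hN'.exists_le_sylow
  obtain ⟨a, ha⟩ := MulAction.exists_smul_eq A P R
  intro β hβ
  have h1 : (a⁻¹ * (⟨β, hN hβ⟩ : A) * a) ∈ N.subgroupOf A := by
    rw [Subgroup.mem_subgroupOf]
    have := hNn (a⁻¹ : A) (a⁻¹).2 β hβ
    rwa [Subgroup.coe_inv, inv_inv] at this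
  have h2 : (⟨β, hN hβ⟩ : A) ∈ (R : Subgroup A) := by
    rw [← ha, Sylow.coe_subgroup_smul]
    refine ⟨_, hP h1, ?_⟩
    show a * (a⁻¹ * (⟨β, hN hβ⟩ : A) * a) * a⁻¹ = _
    group
  rw [hR] at h2
  exact Subgroup.mem_subgroupOf.1 h2

/-- **Normal `p`-subgroups of `Aut_F(Q)`, `Q` essential, are inner.** -/
theorem le_inn_of_isEssential {p : ℕ} [Fact p.Prime] [Finite S] (hS : IsPGroup p S)
    {F : FusionSystem S} (hF : F.IsSaturated p) {Q : Subgroup Ω} (hQ : F.IsEssential p Q)
    (N : Subgroup (MulAut Q)) (hN : N ≤ F.autGroup Q) (hNp : IsPGroup p N)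
    (hNn : ∀ α ∈ F.autGroup Q, ∀ β ∈ N, α * β * α⁻¹ ∈ N) : N ≤ Inn Q := by
  have hle := le_autInducedBy_of_normal (isFullyAutomized_of_isFullyNormalized hS hF hQ.2.1) N hN hNp
    hNn
  intro β hβ
  obtain ⟨g, hg, hgβ⟩ := (mem_autInducedBy_iff S Q β).1 (hle hβ)
  by_cases hgQ : g ∈ Q
  · exact ⟨⟨g, hgQ⟩, MulEquiv.ext fun y => Subtype.ext (hgβ y).symm⟩
  · exfalso
    obtain ⟨α, hα, hnot⟩ := exists_not_conj_of_isEssential hS hF hQ hg hgQ hgβ
    exact hnot (hle (hNn α hα β hβ))

/-- A fully normalized subgroup whose automizer is a `p`-group has `Aut_F(Q) = Aut_S(Q)`. -/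
theorem autGroup_le_of_isPGroup {p : ℕ} [Fact p.Prime] [Finite S]
    {F : FusionSystem S} {Q : Subgroup Ω} (hQ : F.IsFullyAutomized p Q)
    (h : IsPGroup p (F.autGroup Q)) : F.autGroup Q ≤ autInducedBy S Q :=
  le_autInducedBy_of_normal hQ _ le_rfl h
    (fun _ hα _ hβ => mul_mem (mul_mem hα hβ) (inv_mem hα))

end Cfsg.Agent.H772
end

-- part: H772/MetaTwoB
section
/-!
# 2-groups with a centric quaternion subgroup (helper772)
-/

set_option autoImplicit false

namespace Cfsg.Agent.H772

open Subgroup QuaternionGroup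
open scoped commutatorElement

/-- A finite 2-group with a subgroup `Q` isomorphic to `Q₈` and `C(Q) ≤ Q` is dihedral, quasi-dihedral or
quaternion. -/
theorem cases_of_quaternion {S : Type*} [Group S] [Finite S] (hS : IsPGroup 2 S)
    (Q : Subgroup S) (e : Q ≃* QuaternionGroup 2) (hC : centralizer (Q : Set S) ≤ Q) :
    (∃ n : ℕ, Nonempty (S ≃* DihedralGroup n)) ∨ Cfsg.IsQuasiDihedral S ∨
      (∃ n : ℕ, Nonempty (S ≃* QuaternionGroup n)) := by
  classical
  have hcardQ : Nat.card Q = 8 := by
    rw [Nat.card_congr e.toEquiv, Nat.card_eq_fintype_card]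
    decide
  obtain ⟨f, hf⟩ : ∃ f : QuaternionGroup 2 →* S, ∀ w, f w = (e.symm w : S) :=
    ⟨Q.subtype.comp e.symm.toMonoidHom, fun w => rfl⟩
  have hfQ : ∀ w, f w ∈ Q := fun w => by rw [hf]; exact (e.symm w).2
  have hfs : ∀ q ∈ Q, ∃ w, f w = q := fun q hq => ⟨e ⟨q, hq⟩, by rw [hf, e.symm_apply_apply]⟩
  have hfi : Function.Injective f := by
    intro v w h
    rw [hf, hf] at h
    exact e.symm.injective (Subtype.ext h)
  set z : S := f (a 2) with hz
  have hz1 : z ≠ 1 := by
    intro h
    rw [hz, ← map_one f] at h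
    exact absurd (hfi h) (by decide)
  have hz2 : z ^ 2 = 1 := by
    rw [hz, ← map_pow, ← map_one f]
    congr 1
  -- the centre
  have hcen : ∀ c ∈ center S, c = 1 ∨ c = z := by
    intro c hc
    have hcQ : c ∈ Q := hC (mem_centralizer_iff.2 fun q _ => (mem_center_iff.1 hc q))
    obtain ⟨w, rfl⟩ := hfs c hcQ
    have h1 : w * a 1 = a 1 * w := by
      apply hfi
      rw [map_mul, map_mul]
      exact (mem_center_iff.1 hc _).symm
    have h2 : w * xa 0 = xa 0 * w := by
      apply hfi
      rw [map_mul, map_mul]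
      exact (mem_center_iff.1 hc _).symm
    have h3 : ∀ w : QuaternionGroup 2, w * a 1 = a 1 * w → w * xa 0 = xa 0 * w →
        w = 1 ∨ w = a 2 := by decide
    have h3 := h3 w h1 h2
    rcases h3 with rfl | rfl
    · left; exact map_one f
    · right; rfl
  have hnt : Nontrivial S := ⟨⟨z, 1, hz1⟩⟩
  have hzc : z ∈ center S := by
    have := hS.center_nontrivial
    obtain ⟨c, hc⟩ := exists_ne (1 : center S)
    rcases hcen c c.2 with h | h
    · exact absurd (Subtype.ext h) hc
    · rw [← h]; exact c.2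
  set Z : Subgroup S := center S with hZ
  have hZz : ∀ c, c ∈ Z ↔ c = 1 ∨ c = z := by
    intro c
    refine ⟨hcen c, ?_⟩
    rintro (rfl | rfl)
    · exact one_mem _
    · exact hzc
  have hZcomm : Z ≤ commutator S := by
    intro c hc
    rcases hcen c hc with rfl | rfl
    · exact one_mem _
    · have h1 : z = ⁅f (a 1), f (xa 0)⁆ := by
        rw [hz, ← map_commutatorElement]
        congr 1
      rw [h1]
      exact Subgroup.commutator_mem_commutator (mem_top _) (mem_top _)
  have hZQ : Z ≤ Q := by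
    intro c hc
    rcases hcen c hc with rfl | rfl
    · exact one_mem _
    · exact hfQ _
  have hZcard : Nat.card Z = 2 := by
    have h1 : Z = zpowers z := by
      refine le_antisymm ?_ (zpowers_le.2 hzc)
      intro c hc
      rcases hcen c hc with rfl | rfl
      · exact one_mem _
      · exact mem_zpowers _
    rw [h1, Nat.card_zpowers]
    exact orderOf_eq_prime hz2 hz1
  -- the four-group in the quotient
  set V : Subgroup (S ⧸ Z) := Q.map (QuotientGroup.mk' Z) with hV
  have hVcard : Nat.card V = 4 := by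
    have h1 : V.index = Q.index := by
      rw [hV, Subgroup.index_map, QuotientGroup.ker_mk', sup_eq_left.2 hZQ,
        MonoidHom.range_eq_top.2 (QuotientGroup.mk'_surjective Z), Subgroup.index_top, mul_one]
    have h2 := Subgroup.card_mul_index V
    have h3 := Subgroup.card_mul_index Q
    have h4 := Subgroup.card_mul_index Z
    have h5 : Z.index = Nat.card (S ⧸ Z) := rfl
    have h6 : 0 < Q.index := Nat.pos_of_ne_zero Subgroup.index_ne_zero_of_finite
    rw [h1] at h2
    rw [h5, ← h2, hZcard, ← h3, hcardQ] at h4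
    have h7 : (2 * Nat.card V) * Q.index = 8 * Q.index := by rw [mul_assoc]; exact h4
    have := Nat.eq_of_mul_eq_mul_right h6 h7
    omega
  have hVC : centralizer (V : Set (S ⧸ Z)) ≤ V := by
    intro g hg
    obtain ⟨g, rfl⟩ := QuotientGroup.mk'_surjective Z g
    have h1 : ∀ w, g * f w * g⁻¹ = f w ∨ g * f w * g⁻¹ = f w * z := by
      intro w
      have h2 := mem_centralizer_iff.1 hg (QuotientGroup.mk' Z (f w)) ⟨f w, hfQ w, rfl⟩
      rw [← map_mul, ← map_mul, QuotientGroup.mk'_apply, QuotientGroup.mk'_apply,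
        QuotientGroup.eq, hZz] at h2
      rcases h2 with h2 | h2
      · left
        rw [inv_mul_eq_one] at h2
        rw [← h2]; group
      · right
        rw [inv_mul_eq_iff_eq_mul] at h2
        have h4 : g⁻¹ * z = z * g⁻¹ := mem_center_iff.1 hzc g⁻¹
        rw [h2, mul_assoc (f w * g), ← h4]
        group
    -- an element of `Q` acting on `Q` like `g`
    have h3 : ∃ r : QuaternionGroup 2, g * f (a 1) * g⁻¹ = f (r * a 1 * r⁻¹) ∧
        g * f (xa 0) * g⁻¹ = f (r * xa 0 * r⁻¹) := by
      rcases h1 (a 1) with h2 | h2 <;> rcases h1 (xa 0) with h3 | h3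
      · exact ⟨1, by rw [h2]; congr 1, by rw [h3]; congr 1⟩
      · refine ⟨a 1, by rw [h2]; congr 1, ?_⟩
        rw [h3, hz, ← map_mul]; congr 1
      · refine ⟨xa 0, ?_, by rw [h3]; congr 1⟩
        rw [h2, hz, ← map_mul]; congr 1
      · refine ⟨a 1 * xa 0, ?_, ?_⟩
        · rw [h2, hz, ← map_mul]; congr 1
        · rw [h3, hz, ← map_mul]; congr 1
    obtain ⟨r, hr1, hr2⟩ := h3
    refine ⟨g, ?_, rfl⟩
    have h4 : (f r)⁻¹ * g ∈ Q := by
      refine hC (mem_centralizer_iff.2 ?_)
      have h6 : ∀ w : QuaternionGroup 2, g * f w * g⁻¹ = f (r * w * r⁻¹) →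
          w ∈ (centralizer ({(f r)⁻¹ * g} : Set S)).comap f := by
        intro w hw
        rw [mem_comap, mem_centralizer_singleton_iff]
        rw [map_mul, map_mul, map_inv] at hw
        have h7 : g * f w = f r * f w * (f r)⁻¹ * g := by rw [← hw]; group
        rw [mul_assoc ((f r)⁻¹), h7]
        group
      have h8 : ∀ w : QuaternionGroup 2, ∃ i j : Fin 4, w = (a 1) ^ (i : ℕ) * (xa 0) ^ (j : ℕ) := by
        decide
      have h5 : ∀ w : QuaternionGroup 2, f w * ((f r)⁻¹ * g) = (f r)⁻¹ * g * f w := by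
        intro w
        obtain ⟨i, j, hij⟩ := h8 w
        have h9 : w ∈ (centralizer ({(f r)⁻¹ * g} : Set S)).comap f := by
          rw [hij]
          exact mul_mem (pow_mem (h6 _ hr1) _) (pow_mem (h6 _ hr2) _)
        rwa [mem_comap, mem_centralizer_singleton_iff] at h9
      intro q hq
      obtain ⟨w, rfl⟩ := hfs q hq
      exact h5 w
    have h6 := Q.mul_mem (hfQ r) h4
    rwa [mul_inv_cancel_left] at h6
  obtain ⟨x, hx, hxV⟩ := exists_centralizer_eq_of_card_four (hS.to_quotient Z) V hVcard hVC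
  refine cases_of_index_le hS ?_ (index_commutator_le Z hZcomm x 4 (by rw [hxV, hVcard]))
  intro h
  have h1 := h (f (a 1)) (f (xa 0))
  rw [← map_mul, ← map_mul] at h1
  exact absurd (hfi h1) (by decide)

end Cfsg.Agent.H772
end

-- part: H772/MetaTwoC
section
/-!
# A metacyclic 2-group has no centric homocyclic subgroup of index 2 with small fixed points (helper772)
-/

set_option autoImplicit false

namespace Cfsg.Agent.H772

open Subgroup

/-- A cyclic group has at most one element of order 2. -/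
theorem eq_of_orderOf_two {T : Type*} [Group T] [Finite T] (K : Subgroup T) [IsCyclic K] {u w : T}
    (hu : u ∈ K) (hw : w ∈ K) (hu2 : orderOf u = 2) (hw2 : orderOf w = 2) : u = w := by
  classical
  have := Fintype.ofFinite K
  by_contra hne
  have h1 := IsCyclic.card_pow_eq_one_le (α := K) (n := 2) (by norm_num)
  have h2 : ({1, ⟨u, hu⟩, ⟨w, hw⟩} : Finset K) ⊆ Finset.univ.filter (fun a : K => a ^ 2 = 1) := by
    intro x hx
    simp only [Finset.mem_insert, Finset.mem_singleton] at hx
    simp only [Finset.mem_filter, Finset.mem_univ, true_and]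
    rcases hx with rfl | rfl | rfl
    · exact one_pow _
    · apply Subtype.ext
      change u ^ 2 = 1
      rw [← hu2, pow_orderOf_eq_one]
    · apply Subtype.ext
      change w ^ 2 = 1
      rw [← hw2, pow_orderOf_eq_one]
  have h3 := (Finset.card_le_card h2).trans h1
  have hu1 : u ≠ 1 := by
    rintro rfl
    rw [orderOf_one] at hu2
    norm_num at hu2
  have hw1 : w ≠ 1 := by
    rintro rfl
    rw [orderOf_one] at hw2
    norm_num at hw2
  rw [Finset.card_insert_of_notMem, Finset.card_insert_of_notMem, Finset.card_singleton] at h3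
  · norm_num at h3
  · simp only [Finset.mem_singleton]
    intro h
    exact hne (congrArg Subtype.val h)
  · simp only [Finset.mem_insert, Finset.mem_singleton, not_or]
    exact ⟨fun h => hu1 (congrArg Subtype.val h).symm, fun h => hw1 (congrArg Subtype.val h).symm⟩

theorem no_homocyclic {T : Type*} [Group T] [Finite T] (hm : Cfsg.IsMetacyclic T) (Q : Subgroup T)
    (hQi : Q.index = 2) (hab : ∀ a ∈ Q, ∀ b ∈ Q, a * b = b * a) (n : ℕ) (hn : 2 ≤ n)
    (hcard : Nat.card Q = 2 ^ n * 2 ^ n) (hexp : ∀ q ∈ Q, q ^ (2 ^ n) = 1)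
    (hC : ∀ h, h ∉ Q → Nat.card (Q ⊓ centralizer ({h} : Set T) : Subgroup T) ≤ 2 ^ n) : False := by
  classical
  obtain ⟨K, hK, hKc, hTc⟩ := hm
  have hQn : Q.Normal := Subgroup.normal_of_index_eq_two hQi
  obtain ⟨⟨a, haK⟩, ha⟩ := hKc.exists_generator
  have hKa : K = zpowers a := by
    refine le_antisymm (fun k hk => ?_) (zpowers_le.2 haK)
    obtain ⟨i, hi⟩ := ha ⟨k, hk⟩
    exact ⟨i, congrArg Subtype.val hi⟩
  have h2n : 0 < 2 ^ n := by positivity
  have h4n : 4 ≤ 2 ^ n := by
    calc 4 = 2 ^ 2 := by norm_num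
      _ ≤ 2 ^ n := Nat.pow_le_pow_right (by norm_num) hn
  by_cases haQ : a ∈ Q
  · -- `K ≤ Q`
    have hKQ : K ≤ Q := by rw [hKa]; exact zpowers_le.2 haQ
    obtain ⟨hbar, hh⟩ := hTc.exists_generator
    obtain ⟨h, rfl⟩ := QuotientGroup.mk_surjective hbar
    have hhT : ∀ t : T, ∃ j : ℤ, (h ^ j)⁻¹ * t ∈ K := by
      intro t
      obtain ⟨j, hj⟩ := hh (QuotientGroup.mk t)
      have h1 : (QuotientGroup.mk (h ^ j) : T ⧸ K) = QuotientGroup.mk t := hj
      exact ⟨j, QuotientGroup.eq.1 h1⟩
    have hhQ : h ∉ Q := by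
      intro hhQ
      have : Q = ⊤ := by
        rw [eq_top_iff]
        intro t _
        obtain ⟨j, hj⟩ := hhT t
        have := Q.mul_mem (Q.zpow_mem hhQ j) (hKQ hj)
        rwa [mul_inv_cancel_left] at this
      rw [this, Subgroup.index_top] at hQi
      norm_num at hQi
    have hsq : h ^ 2 ∈ Q := by
      have := Subgroup.sq_mem_of_index_two hQi h
      exact this
    set D : Subgroup T := zpowers (h ^ 2) with hD
    have hDQ : D ≤ Q := zpowers_le.2 hsq
    have hQDK : Q = K ⊔ D := by
      refine le_antisymm (fun q hq => ?_) (sup_le hKQ hDQ)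
      obtain ⟨j, hj⟩ := hhT q
      have hjQ : h ^ j ∈ Q := by
        have := Q.mul_mem hq (Q.inv_mem (hKQ hj))
        have h2 : q * ((h ^ j)⁻¹ * q)⁻¹ = h ^ j := by group
        rwa [h2] at this
      have hje : Even j := by
        by_contra hodd
        rw [Int.not_even_iff_odd] at hodd
        obtain ⟨i, hi⟩ := hodd
        apply hhQ
        have h3 : h = ((h ^ 2) ^ i)⁻¹ * h ^ j := by
          have h6 : h ^ j = (h ^ 2) ^ i * h := by
            rw [hi, zpow_add, zpow_mul, zpow_one]
            norm_cast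
          rw [h6, inv_mul_cancel_left]
        rw [h3]
        exact Q.mul_mem (Q.inv_mem (Q.zpow_mem hsq i)) hjQ
      obtain ⟨i, hi⟩ := hje
      have h4 : h ^ j = (h ^ 2) ^ i := by
        rw [hi, ← two_mul, zpow_mul]
        norm_cast
      have h5 : q = (h ^ j) * ((h ^ j)⁻¹ * q) := by group
      rw [h5]
      refine mul_mem ((le_sup_right : D ≤ _) ?_) ((le_sup_left : K ≤ _) hj)
      rw [h4]
      exact zpow_mem (mem_zpowers _) i
    -- cardinalities
    have hDC : D ≤ Q ⊓ centralizer ({h} : Set T) := by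
      refine le_inf hDQ (zpowers_le.2 ?_)
      rw [mem_centralizer_singleton_iff]
      rw [← pow_succ, ← pow_succ']
    have hDcard : Nat.card D ≤ 2 ^ n := (Nat.card_mono (Set.toFinite _) hDC).trans (hC h hhQ)
    have hKcard : Nat.card K ≤ 2 ^ n := by
      rw [hKa, Nat.card_zpowers]
      exact Nat.le_of_dvd h2n (orderOf_dvd_of_pow_eq_one (hexp a haQ))
    have e1 : Nat.card (K ⊓ D : Subgroup T) * K.relIndex D = Nat.card D := by
      have := Subgroup.relIndex_mul_relIndex ⊥ (K ⊓ D) D bot_le inf_le_right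
      rwa [Subgroup.relIndex_bot_left, Subgroup.relIndex_bot_left, Subgroup.inf_relIndex_right]
        at this
    have e2 : Nat.card K * K.relIndex Q = Nat.card Q := by
      have := Subgroup.relIndex_mul_relIndex ⊥ K Q bot_le hKQ
      rwa [Subgroup.relIndex_bot_left, Subgroup.relIndex_bot_left] at this
    have e3 : K.relIndex Q = K.relIndex D := by
      rw [hQDK, sup_comm, Subgroup.relIndex_sup_right]
    have e4 : Nat.card Q * Nat.card (K ⊓ D : Subgroup T) = Nat.card K * Nat.card D := by
      rw [← e1, ← e2, e3]; ring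
    have e5 : 0 < Nat.card (K ⊓ D : Subgroup T) := Nat.card_pos
    have e6 : Nat.card (K ⊓ D : Subgroup T) = 1 := by
      have h6 : Nat.card K * Nat.card D ≤ 2 ^ n * 2 ^ n := Nat.mul_le_mul hKcard hDcard
      rw [← e4, hcard] at h6
      have h7 : 0 < 2 ^ n * 2 ^ n := by positivity
      nlinarith
    have e7 : Nat.card K * Nat.card D = 2 ^ n * 2 ^ n := by rw [← e4, e6, hcard, mul_one]
    have e8 : Nat.card D = 2 ^ n := by nlinarith
    have e9 : Nat.card K = 2 ^ n := by nlinarith
    have hKD : K ⊓ D = ⊥ := Subgroup.card_eq_one.1 e6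
    have hDeq : D = Q ⊓ centralizer ({h} : Set T) :=
      Subgroup.eq_of_le_of_card_ge hDC (by rw [e8]; exact hC h hhQ)
    -- the involution of `K`
    have hoa : orderOf a = 2 ^ n := by rw [← Nat.card_zpowers, ← hKa, e9]
    set w : T := a ^ (2 ^ (n - 1)) with hw
    have h2n' : 2 ^ n = 2 ^ (n - 1) * 2 := by rw [← pow_succ]; congr 1; omega
    have hwo : orderOf w = 2 := by
      rw [hw, orderOf_pow, hoa, h2n', Nat.gcd_mul_right_left]
      exact Nat.mul_div_cancel_left _ (by positivity)
    have hwK : w ∈ K := K.pow_mem haK _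
    have hwc : h * w * h⁻¹ = w := by
      have h8 : h * w * h⁻¹ ∈ K := hK.conj_mem w hwK h
      have h9 : orderOf (h * w * h⁻¹) = 2 := by
        rw [← hwo]
        exact orderOf_injective (MulAut.conj h).toMonoidHom (MulAut.conj h).injective w
      exact eq_of_orderOf_two K h8 hwK h9 hwo
    have hwD : w ∈ D := by
      rw [hDeq]
      refine ⟨hKQ hwK, ?_⟩
      change w ∈ centralizer ({h} : Set T)
      rw [mem_centralizer_singleton_iff]
      calc w * h = h * w * h⁻¹ * h := by rw [hwc]
        _ = h * w := by group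
    have hw1 : w ∈ K ⊓ D := ⟨hwK, hwD⟩
    rw [hKD, mem_bot] at hw1
    rw [hw1, orderOf_one] at hwo
    norm_num at hwo
  · -- `a` outside `Q`
    have hsq : a * a ∈ Q := Subgroup.mul_self_mem_of_index_two hQi a
    let δ : Q →* T :=
      { toFun := fun q => (q : T)⁻¹ * (a * q * a⁻¹)
        map_one' := by simp
        map_mul' := by
          intro q r
          have h1 : a * (q : T) * a⁻¹ ∈ Q := hQn.conj_mem _ q.2 a
          have h2 : (r : T)⁻¹ * (a * (q : T) * a⁻¹) = (a * (q : T) * a⁻¹) * (r : T)⁻¹ :=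
            hab _ (Q.inv_mem r.2) _ h1
          have h3 : (r : T)⁻¹ * (q : T)⁻¹ = (q : T)⁻¹ * (r : T)⁻¹ :=
            hab _ (Q.inv_mem r.2) _ (Q.inv_mem q.2)
          calc ((q * r : Q) : T)⁻¹ * (a * ((q * r : Q) : T) * a⁻¹)
              = ((r : T)⁻¹ * (q : T)⁻¹) * ((a * q * a⁻¹) * (a * r * a⁻¹)) := by
                push_cast; group
            _ = (q : T)⁻¹ * ((r : T)⁻¹ * (a * q * a⁻¹)) * (a * r * a⁻¹) := by
                rw [h3]; group
            _ = (q : T)⁻¹ * ((a * q * a⁻¹) * (r : T)⁻¹) * (a * r * a⁻¹) := by rw [h2]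
            _ = (q : T)⁻¹ * (a * q * a⁻¹) * ((r : T)⁻¹ * (a * r * a⁻¹)) := by group }
    have hδ : ∀ q : Q, δ q = (q : T)⁻¹ * (a * q * a⁻¹) := fun q => rfl
    have hδK : δ.range ≤ K := by
      rintro _ ⟨q, rfl⟩
      have h1 : δ q = ((q : T)⁻¹ * a * (q : T)⁻¹⁻¹) * a⁻¹ := by rw [hδ]; group
      rw [h1]
      exact K.mul_mem (hK.conj_mem a haK _) (K.inv_mem haK)
    have hKcomm : ∀ x ∈ K, a * x * a⁻¹ = x := by
      intro x hx
      rw [hKa] at hx
      obtain ⟨i, rfl⟩ := hx
      change a * a ^ i * a⁻¹ = a ^ i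
      group
    have hδ2 : ∀ q : Q, δ q ^ 2 = 1 := by
      intro q
      have h1 : a * δ q * a⁻¹ = δ q := hKcomm _ (hδK ⟨q, rfl⟩)
      have h2 : a * δ q * a⁻¹ = (δ q)⁻¹ := by
        rw [hδ]
        have h3 : (a * a) * (q : T) = (q : T) * (a * a) := hab _ hsq _ q.2
        have h4 : a * (a * (q : T) * a⁻¹) * a⁻¹ = q := by
          calc a * (a * (q : T) * a⁻¹) * a⁻¹ = ((a * a) * (q : T)) * (a * a)⁻¹ := by group
            _ = q := by rw [h3]; group
        calc a * ((q : T)⁻¹ * (a * q * a⁻¹)) * a⁻¹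
            = (a * (q : T) * a⁻¹)⁻¹ * (a * (a * (q : T) * a⁻¹) * a⁻¹) := by group
          _ = (a * (q : T) * a⁻¹)⁻¹ * q := by rw [h4]
          _ = ((q : T)⁻¹ * (a * q * a⁻¹))⁻¹ := by group
      rw [pow_two]
      nth_rewrite 1 [← h1]
      rw [h2, inv_mul_cancel]
    have hRcard : Nat.card δ.range ≤ 2 := by
      have hRcyc : IsCyclic δ.range := by
        have : IsCyclic K := hKc
        exact isCyclic_of_injective (Subgroup.inclusion hδK) (Subgroup.inclusion_injective hδK)
      obtain ⟨g, hg⟩ := hRcyc.exists_generator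
      rw [← orderOf_eq_card_of_forall_mem_zpowers hg]
      refine Nat.le_of_dvd (by norm_num) (orderOf_dvd_of_pow_eq_one ?_)
      obtain ⟨q, hq⟩ := g.2
      apply Subtype.ext
      change (g : T) ^ 2 = 1
      rw [← hq]
      exact hδ2 q
    have hker : Nat.card δ.ker ≤ 2 ^ n := by
      refine le_trans ?_ (hC a haQ)
      refine Nat.card_le_card_of_injective
        (fun q : δ.ker => (⟨(q : Q), (q : Q).2, ?_⟩ : (Q ⊓ centralizer ({a} : Set T) : Subgroup T)))
        ?_
      · have h1 : δ (q : Q) = 1 := q.2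
        rw [hδ, inv_mul_eq_one] at h1
        change ((q : Q) : T) ∈ centralizer ({a} : Set T)
        rw [mem_centralizer_singleton_iff]
        nth_rewrite 1 [h1]
        group
      · intro q r h
        have h1 := congrArg Subtype.val h
        exact Subtype.ext (Subtype.ext h1)
    have hc := Subgroup.card_mul_index δ.ker
    rw [Subgroup.index_ker, hcard] at hc
    have h5 : Nat.card δ.ker * Nat.card δ.range ≤ 2 ^ n * 2 := Nat.mul_le_mul hker hRcard
    rw [hc] at h5
    nlinarith

end Cfsg.Agent.H772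
end

-- part: H772/EssAbelTwo
section
/-!
# Abelian essential subgroups of metacyclic 2-groups (helper772)
-/

set_option autoImplicit false

namespace Cfsg.Agent.H772

open Cfsg Cfsg.FusionSystem Cfsg.Agent.H802

variable {Ω : Type*} [Group Ω] {S : Subgroup Ω}

/-- An automorphism of odd order of a finite abelian 2-group fixing all involutions is trivial. -/
theorem eq_one_of_fix_involutions {Q : Type*} [Group Q] [Finite Q] (hQ : IsPGroup 2 Q)
    (hab : ∀ a b : Q, a * b = b * a) (α : MulAut Q) (m : ℕ) (hm : Odd m) (hα : α ^ m = 1)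
    (hfix : ∀ v : Q, v ^ 2 = 1 → α v = v) : α = 1 := by
  have key : ∀ k : ℕ, ∀ q : Q, q ^ 2 ^ k = 1 → α q = q := by
    intro k
    induction k with
    | zero =>
      intro q hq
      rw [pow_zero, pow_one] at hq
      rw [hq, map_one]
    | succ k ih =>
      intro q hq
      have h1 : α (q ^ 2) = q ^ 2 := by
        apply ih
        rw [← pow_mul, ← pow_succ', hq]
      obtain ⟨v, hv⟩ : ∃ v : Q, v = α q * q⁻¹ := ⟨_, rfl⟩
      have hcomm : Commute (α q) q⁻¹ := hab _ _
      have hv2 : v ^ 2 = 1 := by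
        rw [hv, hcomm.mul_pow, ← map_pow, h1, inv_pow, mul_inv_cancel]
      have hαv : α v = v := hfix v hv2
      have hαq : α q = v * q := by rw [hv]; group
      have hpow : ∀ j : ℕ, (α ^ j) q = v ^ j * q := by
        intro j
        induction j with
        | zero => simp
        | succ j ihj =>
          rw [pow_succ', MulAut.mul_apply, ihj, map_mul, map_pow, hαv, hαq, pow_succ', ← mul_assoc,
            mul_assoc, mul_assoc, ← mul_assoc, ← pow_succ, pow_succ']
          group
      have h2 := hpow m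
      rw [hα, MulAut.one_apply] at h2
      have hvm : v ^ m = 1 := by
        have := h2.symm
        rwa [mul_eq_right] at this
      have hv1 : v = 1 := by
        obtain ⟨i, rfl⟩ := hm
        rw [pow_add, pow_mul, hv2, one_pow, one_mul, pow_one] at hvm
        exact hvm
      rw [hαq, hv1, one_mul]
  ext q
  obtain ⟨k, hk⟩ := hQ q
  exact key k q hk

/-- The automorphisms in `A` fixing all involutions of an abelian 2-group form a 2-group. -/
def fixInv {Q : Subgroup Ω} (A : Subgroup (MulAut Q)) : Subgroup (MulAut Q) where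
  carrier := {α | α ∈ A ∧ ∀ v : Q, v ^ 2 = 1 → α v = v}
  one_mem' := ⟨one_mem _, fun _ _ => rfl⟩
  mul_mem' := by
    rintro α β ⟨hα, hα'⟩ ⟨hβ, hβ'⟩
    refine ⟨mul_mem hα hβ, fun v hv => ?_⟩
    rw [MulAut.mul_apply, hβ' v hv, hα' v hv]
  inv_mem' := by
    rintro α ⟨hα, hα'⟩
    refine ⟨inv_mem hα, fun v hv => ?_⟩
    have h1 := hα' v hv
    have h2 : α⁻¹ (α v) = v := α.symm_apply_apply v
    rwa [h1] at h2

theorem isPGroup_fixInv {Q : Subgroup Ω} [Finite Q] (hQ : IsPGroup 2 Q)
    (hab : ∀ a b : Q, a * b = b * a) (A : Subgroup (MulAut Q)) : IsPGroup 2 (fixInv A) := by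
  rintro ⟨α, hα⟩
  have hfin : 0 < orderOf α := orderOf_pos α
  obtain ⟨k, m, hm, hkm⟩ := Nat.exists_eq_two_pow_mul_odd hfin.ne'
  refine ⟨k, Subtype.ext ?_⟩
  change α ^ 2 ^ k = 1
  refine eq_one_of_fix_involutions hQ hab _ m hm ?_ ((fixInv A).pow_mem hα _).2
  rw [← pow_mul, ← hkm, pow_orderOf_eq_one]

/-- In an essential abelian subgroup of a 2-group, an element of `Aut_F(Q)` fixing all involutions is
trivial. -/
theorem eq_one_of_isEssential [Finite S] (hS : IsPGroup 2 S)
    {F : FusionSystem S} (hF : F.IsSaturated 2) {Q : Subgroup Ω} (hQ : F.IsEssential 2 Q)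
    (hab : ∀ a b : Q, a * b = b * a) {α : MulAut Q} (hα : α ∈ F.autGroup Q)
    (hfix : ∀ v : Q, v ^ 2 = 1 → α v = v) : α = 1 := by
  have hQS := hQ.2.1.1
  have hfinQ : Finite Q := finite_of_le hQS
  have hQp : IsPGroup 2 Q := hS.to_le hQS
  have h1 := le_inn_of_isEssential hS hF hQ (fixInv (F.autGroup Q)) (fun _ h => h.1)
    (isPGroup_fixInv hQp hab _) (fun α hα β hβ => ⟨mul_mem (mul_mem hα hβ.1) (inv_mem hα), ?_⟩)
    (⟨hα, hfix⟩ : α ∈ fixInv (F.autGroup Q))
  · obtain ⟨q, rfl⟩ := h1
    ext x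
    change ((q * x * q⁻¹ : Q) : Ω) = x
    rw [hab q x, mul_inv_cancel_right]
  · intro v hv
    rw [MulAut.mul_apply, MulAut.mul_apply]
    have h2 : (α⁻¹ v) ^ 2 = 1 := by rw [← map_pow, hv, map_one]
    rw [hβ.2 _ h2]
    exact α.apply_symm_apply v

theorem essential_homocyclic_false [Finite S] (hS : IsPGroup 2 S)
    {F : FusionSystem S} (hF : F.IsSaturated 2) (hm : Cfsg.IsMetacyclic S) {Q : Subgroup Ω}
    (hQ : F.IsEssential 2 Q) (hab : ∀ a b : Q, a * b = b * a) (n : ℕ) (hn : 2 ≤ n)
    (hcard : Nat.card Q = 2 ^ n * 2 ^ n) (hexp : ∀ q : Q, q ^ 2 ^ n = 1) : False := by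
  classical
  have hQS := hQ.2.1.1
  have hfinQ : Finite Q := finite_of_le hQS
  have hQp : IsPGroup 2 Q := hS.to_le hQS
  have hC : centralizerIn S Q ≤ Q := hQ.1.2 Q (isConj_refl F hQS)
  have hne := ne_of_isEssential hS hF hQ
  set T := normalizerIn S Q with hT
  have hQT : Q ≤ T := le_normalizerIn hQS
  have hTS : T ≤ S := inf_le_left
  have hfinT : Finite T := finite_of_le hTS
  have hTp : IsPGroup 2 T := hS.to_le hTS
  have hnil : Group.IsNilpotent T := hTp.isNilpotent
  have hQab : ∀ a ∈ Q, ∀ b ∈ Q, a * b = b * a := fun a ha b hb =>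
    congrArg Subtype.val (hab ⟨a, ha⟩ ⟨b, hb⟩)
  have hconjQ : ∀ g ∈ T, ∀ q ∈ Q, g * q * g⁻¹ ∈ Q := fun g hg q hq =>
    (Subgroup.mem_normalizer_iff.1 hg.2 q).1 hq
  -- elements of `T` fixing all involutions of `Q` lie in `Q`
  have hfixQ : ∀ g ∈ T, (∀ v ∈ Q, v ^ 2 = 1 → g * v * g⁻¹ = v) → g ∈ Q := by
    intro g hg hv
    obtain ⟨β, hβ⟩ := exists_conjAut hg.2
    have hβA : β ∈ F.autGroup Q :=
      autInducedBy_le_autGroup F hQS (conj_mem_autInducedBy hg.1 hβ)
    have h1 : β = 1 := by
      refine eq_one_of_isEssential hS hF hQ hab hβA fun v hv2 => ?_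
      apply Subtype.ext
      rw [hβ]
      exact hv v v.2 (by simpa using congrArg Subtype.val hv2)
    apply hC
    refine ⟨hg.1, Subgroup.mem_centralizer_iff.2 fun x hx => ?_⟩
    have h2 := hβ ⟨x, hx⟩
    rw [h1] at h2
    change x = g * x * g⁻¹ at h2
    calc x * g = g * x * g⁻¹ * g := by rw [← h2]
      _ = g * x := by group
  -- the subgroup of involutions
  set V : Subgroup Q :=
    { carrier := {v | v ^ 2 = 1}
      one_mem' := one_pow _
      mul_mem' := by
        intro a b ha hb
        change (a * b) ^ 2 = 1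
        rw [(show Commute a b from hab a b).mul_pow]
        rw [show a ^ 2 = 1 from ha, show b ^ 2 = 1 from hb, one_mul]
      inv_mem' := by
        intro a ha
        change a⁻¹ ^ 2 = 1
        rw [inv_pow, show a ^ 2 = 1 from ha, inv_one] } with hV
  have hVmem : ∀ v : Q, v ∈ V ↔ v ^ 2 = 1 := fun v => Iff.rfl
  have hmQ : Cfsg.IsMetacyclic Q := OddOrderLocal.Metacyclic.isMetacyclic_of_le hm hQS
  have hVcard : Nat.card V ≤ 4 := by
    have hmV : Cfsg.IsMetacyclic V :=
      OddOrderLocal.Metacyclic.isMetacyclic_of_injective V.subtype V.subtype_injective hmQ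
    have h1 := S1896.index_le_four hmV ⊥ (fun x => by
      rw [Subgroup.mem_bot]; exact Subtype.ext ((hVmem _).1 x.2))
    rwa [Subgroup.index_bot] at h1
  -- a central involution `z`
  obtain ⟨z, hzQ, hz2, hz1, hzT⟩ : ∃ z ∈ Q, z ^ 2 = 1 ∧ z ≠ 1 ∧ ∀ g ∈ T, g * z * g⁻¹ = z := by
    set W : Subgroup Ω := V.map Q.subtype with hW
    have hWmem : ∀ w : Ω, w ∈ W ↔ w ∈ Q ∧ w ^ 2 = 1 := by
      intro w
      constructor
      · rintro ⟨v, hv, rfl⟩
        exact ⟨v.2, congrArg Subtype.val hv⟩
      · rintro ⟨hw, hw2⟩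
        exact ⟨⟨w, hw⟩, Subtype.ext hw2, rfl⟩
    have hWn : (W.subgroupOf T).Normal := by
      refine ⟨fun w hw g => ?_⟩
      rw [Subgroup.mem_subgroupOf, hWmem] at hw ⊢
      refine ⟨hconjQ g g.2 _ hw.1, ?_⟩
      have h1 : ((g * w * g⁻¹ : T) : Ω) ^ 2 = g * (w : Ω) ^ 2 * (g : Ω)⁻¹ := by
        push_cast
        rw [pow_two, pow_two]
        group
      rw [h1, hw.2]
      group
    have hWne : W.subgroupOf T ≠ ⊥ := by
      have h2 : (2 : ℕ) ∣ Nat.card Q := by
        rw [hcard]
        exact Dvd.dvd.mul_right (dvd_pow_self 2 (by omega)) _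
      obtain ⟨v, hv⟩ := exists_prime_orderOf_dvd_card' 2 h2
      intro h0
      have h3 : (⟨(v : Ω), hQT v.2⟩ : T) ∈ W.subgroupOf T := by
        rw [Subgroup.mem_subgroupOf, hWmem]
        refine ⟨v.2, ?_⟩
        have : v ^ 2 = 1 := by rw [← hv, pow_orderOf_eq_one]
        exact congrArg Subtype.val this
      rw [h0, Subgroup.mem_bot] at h3
      have h4 : (v : Ω) = 1 := congrArg Subtype.val h3
      have h5 : v = 1 := Subtype.ext h4
      rw [h5, orderOf_one] at hv
      norm_num at hv
    have h1 := Cfsg.Agent.Lib.NormalAbelian.normal_inf_center_ne_bot (W.subgroupOf T) hWne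
    obtain ⟨⟨w, hw⟩, hw1⟩ := Subgroup.ne_bot_iff_exists_ne_one.1 h1
    have hw' := (hWmem w).1 (Subgroup.mem_subgroupOf.1 hw.1)
    refine ⟨w, hw'.1, hw'.2, ?_, fun g hg => ?_⟩
    · intro h2
      apply hw1
      apply Subtype.ext
      exact Subtype.ext h2
    · have h2 : g * (w : Ω) = w * g := congrArg Subtype.val (Subgroup.mem_center_iff.1 hw.2 ⟨g, hg⟩)
      rw [h2, mul_inv_cancel_right]
  -- `T ≠ Q`
  obtain ⟨t, htT, htQ⟩ : ∃ t ∈ T, t ∉ Q := by
    by_contra hcon
    push Not at hcon
    have h1 := card_lt_card_normalizerIn hS hQS hne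
    have h2 : normalizerIn S Q = Q := le_antisymm hcon (le_normalizerIn hQS)
    rw [h2] at h1
    exact lt_irrefl _ h1
  -- another involution
  obtain ⟨x, hxQ, hx2, hx1, hxz⟩ : ∃ x ∈ Q, x ^ 2 = 1 ∧ x ≠ 1 ∧ x ≠ z := by
    by_contra hcon
    push Not at hcon
    apply htQ
    refine hfixQ t htT fun v hv hv2 => ?_
    by_cases hv1 : v = 1
    · rw [hv1]; group
    · rw [hcon v hv hv2 hv1]
      exact hzT t htT
  have hVcases : ∀ v ∈ Q, v ^ 2 = 1 → v = 1 ∨ v = z ∨ v = x ∨ v = z * x := by
    intro v hv hv2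
    by_contra hcon
    push Not at hcon
    obtain ⟨c1, c2, c3, c4⟩ := hcon
    have hzx1 : z * x ≠ 1 := by
      intro h
      apply hxz
      have : x = z⁻¹ := (eq_inv_of_mul_eq_one_right h)
      rw [this, inv_eq_iff_mul_eq_one, ← pow_two, hz2]
    have hzxz : z * x ≠ z := by
      intro h
      exact hx1 (by simpa using h)
    have hzxx : z * x ≠ x := by
      intro h
      exact hz1 (by simpa using h)
    have h1 : ({1, z, x, z * x, v} : Finset Ω).card = 5 := by
      rw [Finset.card_insert_of_notMem, Finset.card_insert_of_notMem,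
        Finset.card_insert_of_notMem, Finset.card_insert_of_notMem, Finset.card_singleton]
      · simp only [Finset.mem_singleton]; exact Ne.symm c4
      · simp only [Finset.mem_insert, Finset.mem_singleton, not_or]
        exact ⟨Ne.symm hzxx, Ne.symm c3⟩
      · simp only [Finset.mem_insert, Finset.mem_singleton, not_or]
        exact ⟨Ne.symm hxz, Ne.symm hzxz, Ne.symm c2⟩
      · simp only [Finset.mem_insert, Finset.mem_singleton, not_or]
        exact ⟨Ne.symm hz1, Ne.symm hx1, Ne.symm hzx1, Ne.symm c1⟩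
    have hzx2 : (z * x) ^ 2 = 1 := by
      rw [(show Commute z x from hQab z hzQ x hxQ).mul_pow, hz2, hx2, one_mul]
    have h2 : (({1, z, x, z * x, v} : Finset Ω) : Set Ω) ⊆ (V.map Q.subtype : Subgroup Ω) := by
      intro w hw
      simp only [Finset.coe_insert, Finset.coe_singleton, Set.mem_insert_iff,
        Set.mem_singleton_iff] at hw
      have h3 : w ∈ Q ∧ w ^ 2 = 1 := by
        rcases hw with rfl | rfl | rfl | rfl | rfl
        · exact ⟨one_mem _, one_pow _⟩
        · exact ⟨hzQ, hz2⟩
        · exact ⟨hxQ, hx2⟩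
        · exact ⟨mul_mem hzQ hxQ, hzx2⟩
        · exact ⟨hv, hv2⟩
      exact ⟨⟨w, h3.1⟩, Subtype.ext h3.2, rfl⟩
    have hfinW : Finite (V.map Q.subtype : Subgroup Ω) :=
      finite_of_le ((Subgroup.map_subtype_le V).trans hQS)
    have h3 := Set.ncard_le_ncard h2 (Set.toFinite _)
    rw [Set.ncard_coe_finset, h1] at h3
    have h4 : Set.ncard ((V.map Q.subtype : Subgroup Ω) : Set Ω) = Nat.card V := by
      rw [← Nat.card_coe_set_eq]
      exact (Nat.card_congr (V.equivMapOfInjective Q.subtype Q.subtype_injective).toEquiv).symm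
    rw [h4] at h3
    omega
  -- elements of `T` outside `Q` interchange `x` and `z x`
  have hswap : ∀ g ∈ T, g ∉ Q → g * x * g⁻¹ = z * x := by
    intro g hg hgQ
    have h1 := hconjQ g hg x hxQ
    have h2 : (g * x * g⁻¹) ^ 2 = 1 := by
      have : (g * x * g⁻¹) ^ 2 = g * x ^ 2 * g⁻¹ := by rw [pow_two, pow_two]; group
      rw [this, hx2]; group
    rcases hVcases _ h1 h2 with h | h | h | h
    · exfalso
      apply hx1
      have : x = g⁻¹ * (g * x * g⁻¹) * g := by group
      rw [this, h]; group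
    · exfalso
      apply hxz
      have h3 : g * x * g⁻¹ = g * z * g⁻¹ := by rw [h, hzT g hg]
      exact mul_left_cancel (mul_right_cancel h3)
    · exfalso
      apply hgQ
      refine hfixQ g hg fun v hv hv2 => ?_
      rcases hVcases v hv hv2 with rfl | rfl | rfl | rfl
      · group
      · exact hzT g hg
      · exact h
      · have : g * (z * x) * g⁻¹ = (g * z * g⁻¹) * (g * x * g⁻¹) := by group
        rw [this, hzT g hg, h]
    · exact h
  -- `|T : Q| = 2`
  have hindex : (Q.subgroupOf T).index = 2 := by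
    rw [Subgroup.index_eq_two_iff]
    refine ⟨⟨t, htT⟩, fun b => ?_⟩
    rw [Subgroup.mem_subgroupOf, Subgroup.mem_subgroupOf]
    by_cases hb : (b : Ω) ∈ Q
    · right
      refine ⟨hb, fun h => htQ ?_⟩
      have : t = (b : Ω)⁻¹ * ((b * ⟨t, htT⟩ : T) : Ω) := by push_cast; group
      rw [this]
      exact mul_mem (inv_mem hb) h
    · left
      refine ⟨?_, hb⟩
      refine hfixQ _ (T.mul_mem b.2 htT) fun v hv hv2 => ?_
      have e1 : ∀ u : Ω, ((b * ⟨t, htT⟩ : T) : Ω) * u * ((b * ⟨t, htT⟩ : T) : Ω)⁻¹ =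
          (b : Ω) * (t * u * t⁻¹) * (b : Ω)⁻¹ := by
        intro u; push_cast; group
      have e2 : ((b * ⟨t, htT⟩ : T) : Ω) * x * ((b * ⟨t, htT⟩ : T) : Ω)⁻¹ = x := by
        rw [e1, hswap t htT htQ]
        have : (b : Ω) * (z * x) * (b : Ω)⁻¹ = (b * z * (b : Ω)⁻¹) * (b * x * (b : Ω)⁻¹) := by group
        rw [this, hzT b b.2, hswap b b.2 hb, ← mul_assoc, ← pow_two, hz2, one_mul]
      have e3 : ((b * ⟨t, htT⟩ : T) : Ω) * z * ((b * ⟨t, htT⟩ : T) : Ω)⁻¹ = z :=
        hzT _ (T.mul_mem b.2 htT)
      rcases hVcases v hv hv2 with rfl | rfl | rfl | rfl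
      · group
      · exact e3
      · exact e2
      · have : ((b * ⟨t, htT⟩ : T) : Ω) * (z * x) * ((b * ⟨t, htT⟩ : T) : Ω)⁻¹ =
            (((b * ⟨t, htT⟩ : T) : Ω) * z * ((b * ⟨t, htT⟩ : T) : Ω)⁻¹) *
            (((b * ⟨t, htT⟩ : T) : Ω) * x * ((b * ⟨t, htT⟩ : T) : Ω)⁻¹) := by group
        rw [this, e2, e3]
  -- fixed points
  have hfixed : ∀ h ∈ T, h ∉ Q →
      Nat.card (Q ⊓ Subgroup.centralizer ({h} : Set Ω) : Subgroup Ω) ≤ 2 ^ n := by
    intro h hhT hhQ
    obtain ⟨β, hβ⟩ := exists_conjAut hhT.2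
    obtain ⟨α, hα, hnot⟩ := exists_not_conj_of_isEssential hS hF hQ hhT.1 hhQ hβ
    have hβA : β ∈ F.autGroup Q :=
      autInducedBy_le_autGroup F hQS (conj_mem_autInducedBy hhT.1 hβ)
    set zQ : Q := ⟨z, hzQ⟩ with hzQdef
    set xQ : Q := ⟨x, hxQ⟩ with hxQdef
    have hzQ2 : zQ ^ 2 = 1 := Subtype.ext hz2
    have hxQ2 : xQ ^ 2 = 1 := Subtype.ext hx2
    have hβz : β zQ = zQ := Subtype.ext (by rw [hβ]; exact hzT h hhT)
    have hβx : β xQ = zQ * xQ := Subtype.ext (by rw [hβ]; exact hswap h hhT hhQ)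
    have hVQ : ∀ v : Q, v ^ 2 = 1 → v = 1 ∨ v = zQ ∨ v = xQ ∨ v = zQ * xQ := by
      intro v hv
      rcases hVcases v v.2 (congrArg Subtype.val hv) with h | h | h | h
      · left; exact Subtype.ext h
      · right; left; exact Subtype.ext h
      · right; right; left; exact Subtype.ext h
      · right; right; right; exact Subtype.ext h
    set γ : MulAut Q := α * β * α⁻¹ with hγ
    have hγA : γ ∈ F.autGroup Q := mul_mem (mul_mem hα hβA) (inv_mem hα)
    have hαinv : ∀ q : Q, α (α⁻¹ q) = q := fun q => α.apply_symm_apply q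
    have hinvα : ∀ q : Q, α⁻¹ (α q) = q := fun q => α.symm_apply_apply q
    have hαz : α zQ ≠ zQ := by
      intro hαz
      apply hnot
      have hγz : γ zQ = zQ := by
        have h1 : α⁻¹ zQ = zQ := by rw [← hαz, hinvα, hαz]
        rw [hγ, MulAut.mul_apply, MulAut.mul_apply, h1, hβz, hαz]
      have hγx : γ xQ = zQ * xQ := by
        have h2 : (γ xQ) ^ 2 = 1 := by rw [← map_pow, hxQ2, map_one]
        rcases hVQ _ h2 with h | h | h | h
        · exfalso
          apply hx1
          have : xQ = 1 := γ.injective (by rw [h, map_one])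
          exact congrArg Subtype.val this
        · exfalso
          apply hxz
          have : xQ = zQ := γ.injective (by rw [h, hγz])
          exact congrArg Subtype.val this
        · exfalso
          have h3 : γ = 1 := by
            refine eq_one_of_isEssential hS hF hQ hab hγA fun v hv => ?_
            rcases hVQ v hv with rfl | rfl | rfl | rfl
            · exact map_one _
            · exact hγz
            · exact h
            · rw [map_mul, hγz, h]
          have h4 : β = 1 := by
            have : β = α⁻¹ * γ * α := by rw [hγ]; group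
            rw [this, h3]; group
          rw [h4] at hβx
          have h5 : zQ = 1 := by
            have h6 : xQ = zQ * xQ := hβx
            exact (mul_eq_right.1 h6.symm)
          exact hz1 (congrArg Subtype.val h5)
        · exact h
      have h3 : β⁻¹ * γ = 1 := by
        refine eq_one_of_isEssential hS hF hQ hab (mul_mem (inv_mem hβA) hγA) fun v hv => ?_
        have h4 : γ v = β v := by
          rcases hVQ v hv with rfl | rfl | rfl | rfl
          · rw [map_one, map_one]
          · rw [hγz, hβz]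
          · rw [hγx, hβx]
          · rw [map_mul, map_mul, hγz, hγx, hβz, hβx]
        rw [MulAut.mul_apply, h4]
        exact β.symm_apply_apply v
      have h5 : γ = β := by
        have : γ = β * (β⁻¹ * γ) := by group
        rw [this, h3, mul_one]
      rw [h5]
      exact conj_mem_autInducedBy hhT.1 hβ
    -- the fixed point subgroups
    set C : Subgroup Q :=
      { carrier := {q | β q = q}
        one_mem' := map_one β
        mul_mem' := by
          intro a b ha hb
          change β (a * b) = a * b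
          rw [map_mul, show β a = a from ha, show β b = b from hb]
        inv_mem' := by
          intro a ha
          change β a⁻¹ = a⁻¹
          rw [map_inv, show β a = a from ha] } with hCdef
    have hdisj : Disjoint C (C.map α.toMonoidHom) := by
      rw [disjoint_iff]
      by_contra hne'
      obtain ⟨⟨q, hq1, hq2⟩, hq⟩ := Subgroup.ne_bot_iff_exists_ne_one.1 hne'
      have hqne : q ≠ 1 := fun h => hq (Subtype.ext h)
      -- an involution in the group generated by `q`
      obtain ⟨k, hk⟩ := (IsPGroup.iff_orderOf.1 hQp) q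
      have hk0 : k ≠ 0 := by
        rintro rfl
        rw [pow_zero, orderOf_eq_one_iff] at hk
        exact hqne hk
      set v : Q := q ^ 2 ^ (k - 1) with hv
      have hvo : orderOf v = 2 := by
        have h2 : 2 ^ k = 2 ^ (k - 1) * 2 := by rw [← pow_succ]; congr 1; omega
        rw [hv, orderOf_pow, hk, h2, Nat.gcd_mul_right_left]
        exact Nat.mul_div_cancel_left _ (by positivity)
      have hv2 : v ^ 2 = 1 := by rw [← hvo, pow_orderOf_eq_one]
      have hv1 : v ≠ 1 := by
        intro h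
        rw [h, orderOf_one] at hvo
        norm_num at hvo
      have hvfix : ∀ u : Q, u ^ 2 = 1 → u ≠ 1 → β u = u → u = zQ := by
        intro u hu2 hu1 hu
        rcases hVQ u hu2 with h | h | h | h
        · exact absurd h hu1
        · exact h
        · exfalso
          rw [h, hβx] at hu
          exact hz1 (congrArg Subtype.val (mul_eq_right.1 hu))
        · exfalso
          rw [h, map_mul, hβz, hβx] at hu
          have h6 := mul_left_cancel hu
          exact hz1 (congrArg Subtype.val (mul_eq_right.1 h6))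
      have hvC : β v = v := (C.pow_mem hq1 _ : q ^ 2 ^ (k - 1) ∈ C)
      have hvz := hvfix v hv2 hv1 hvC
      obtain ⟨u, hu, huv⟩ := ((C.map α.toMonoidHom).pow_mem hq2 (2 ^ (k - 1)))
      have huv' : α u = v := huv
      have hu2 : u ^ 2 = 1 := by
        apply α.injective
        rw [map_pow, huv', hv2, map_one]
      have hu1 : u ≠ 1 := by
        rintro rfl
        rw [map_one] at huv'
        exact hv1 huv'.symm
      have huz := hvfix u hu2 hu1 hu
      apply hαz
      rw [← huz, huv', hvz, huz]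
    have hcards : Nat.card C * Nat.card C ≤ Nat.card Q := by
      have h1 := Subgroup.mul_injective_of_disjoint hdisj
      have h2 := Nat.card_le_card_of_injective _ h1
      rw [Nat.card_prod] at h2
      have h3 : Nat.card (C.map α.toMonoidHom) = Nat.card C :=
        (Nat.card_congr (C.equivMapOfInjective α.toMonoidHom α.injective).toEquiv).symm
      rwa [h3] at h2
    have hCle : Nat.card C ≤ 2 ^ n := by
      rw [hcard] at hcards
      exact Nat.mul_self_le_mul_self_iff.1 hcards
    refine le_trans ?_ hCle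
    have hfinC : Finite C := inferInstance
    refine Nat.card_le_card_of_injective
      (fun q : (Q ⊓ Subgroup.centralizer ({h} : Set Ω) : Subgroup Ω) =>
        (⟨⟨q, q.2.1⟩, ?_⟩ : C)) ?_
    · change β ⟨q, q.2.1⟩ = ⟨q, q.2.1⟩
      apply Subtype.ext
      rw [hβ]
      have h1 : (q : Ω) * h = h * q := Subgroup.mem_centralizer_singleton_iff.1 q.2.2
      change h * (q : Ω) * h⁻¹ = q
      rw [← h1, mul_inv_cancel_right]
    · intro a b hab'
      have h1 := congrArg Subtype.val (congrArg Subtype.val hab')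
      exact Subtype.ext h1
  -- conclusion
  have hmT : Cfsg.IsMetacyclic T := OddOrderLocal.Metacyclic.isMetacyclic_of_le hm hTS
  refine no_homocyclic hmT (Q.subgroupOf T) hindex ?_ n hn ?_ ?_ ?_
  · intro a ha b hb
    exact Subtype.ext (hQab a ha b hb)
  · rw [Nat.card_congr (Subgroup.subgroupOfEquivOfLe hQT).toEquiv, hcard]
  · intro q hq
    apply Subtype.ext
    have := congrArg Subtype.val (hexp ⟨q, hq⟩)
    simpa using this
  · intro h hhQ
    refine le_trans ?_ (hfixed h h.2 hhQ)
    have hfin1 : Finite (Q ⊓ Subgroup.centralizer ({(h : Ω)} : Set Ω) : Subgroup Ω) :=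
      finite_of_le (inf_le_left.trans hQS)
    refine Nat.card_le_card_of_injective
      (fun q : (Q.subgroupOf T ⊓ Subgroup.centralizer ({h} : Set T) : Subgroup T) =>
        (⟨(q : T), q.2.1, ?_⟩ : (Q ⊓ Subgroup.centralizer ({(h : Ω)} : Set Ω) : Subgroup Ω))) ?_
    · have h1 : (q : T) * h = h * q := Subgroup.mem_centralizer_singleton_iff.1 q.2.2
      exact Subgroup.mem_centralizer_singleton_iff.2 (congrArg Subtype.val h1)
    · intro a b hab'
      have h1 := congrArg Subtype.val hab'
      exact Subtype.ext (Subtype.ext h1)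

end Cfsg.Agent.H772
end

-- part: S5212
section
set_option autoImplicit false
open Cfsg

namespace Cfsg.Agent.S5212

open Cfsg.FusionSystem Cfsg.Agent.H802 Cfsg.Agent.H772

/-- Let S be a finite metacyclic 2-group that is not homocyclic abelian (a direct product of cyclic groups of one common order), not dihedral, not semidihedral and not generalized quaternion. Then every saturated fusion system over S is the inner fusion system of S. -/
theorem result {Ω : Type*} [Group Ω] {S : Subgroup Ω} [Finite S] (hS : IsPGroup 2 S) (F : Cfsg.FusionSystem S) (hF : F.IsSaturated 2) (hm : Cfsg.IsMetacyclic ↥S) (hh : ¬ ∃ n k : ℕ, Nonempty (↥S ≃* Multiplicative (Fin k → ZMod (2 ^ n)))) (hd : ¬ ∃ m : ℕ, Nonempty (↥S ≃* DihedralGroup m)) (hq : ¬ ∃ m : ℕ, Nonempty (↥S ≃* QuaternionGroup m)) (hsd : ¬ Cfsg.IsQuasiDihedral ↥S) : ∀ P : Subgroup Ω, F.Hom P = (Cfsg.innerFusionSystem S).Hom P := by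
  classical
  -- products of two cyclic groups as functions
  have hpair : ∀ n : ℕ, Nonempty (Multiplicative (ZMod (2 ^ n)) × Multiplicative (ZMod (2 ^ n)) ≃*
      Multiplicative (Fin 2 → ZMod (2 ^ n))) := by
    intro n
    refine ⟨?_⟩
    exact (MulEquiv.prodMultiplicative _ _).symm.trans
      (AddEquiv.toMultiplicative (LinearEquiv.finTwoArrow ℤ (ZMod (2 ^ n))).symm.toAddEquiv)
  -- a fully automized subgroup whose automorphism group is a 2-group
  have hinner : ∀ Q : Subgroup Ω, Q ≤ S → autInducedBy S Q ≤ (innerFusionSystem S).autGroup Q :=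
    fun Q hQ => autInducedBy_le_autGroup _ hQ
  intro P
  refine Set.Subset.antisymm ?_ ?_
  swap
  · rintro φ ⟨hP, g, hg, h⟩
    have : φ = conjHom P g := MonoidHom.ext h
    rw [this]
    exact F.conj_mem hP hg
  refine le_of_essential hS hF (innerFusionSystem S) ?_ ?_ P
  · -- automorphisms of `S`
    have hA : IsPGroup 2 (MulAut S) := by
      by_contra hA
      rcases S1896.result hS hm hA with h | ⟨n, ⟨e⟩⟩
      · exact hq ⟨2, h⟩
      · obtain ⟨e'⟩ := hpair n
        exact hh ⟨n, 2, ⟨e.trans e'⟩⟩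
    have hfa : F.IsFullyAutomized 2 S := by
      obtain ⟨Q, hQ1, hQ2, hQ3⟩ := hF S le_rfl
      have : Q = S := eq_of_le_card_eq hQ2.1 (isConj_card_eq hQ1).symm
      rwa [this] at hQ2
    exact (autGroup_le_of_isPGroup hfa (hA.to_subgroup _)).trans (hinner S le_rfl)
  · intro Q hQ _
    have hQS := hQ.2.1.1
    have hfinQ : Finite Q := finite_of_le hQS
    have hQp : IsPGroup 2 Q := hS.to_le hQS
    have hC : centralizerIn S Q ≤ Q := hQ.1.2 Q (isConj_refl F hQS)
    have hne := ne_of_isEssential hS hF hQ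
    have hmQ : Cfsg.IsMetacyclic Q := OddOrderLocal.Metacyclic.isMetacyclic_of_le hm hQS
    have hfa := isFullyAutomized_of_isFullyNormalized hS hF hQ.2.1
    have hCS : Subgroup.centralizer ((Q.subgroupOf S : Subgroup S) : Set S) ≤ Q.subgroupOf S := by
      intro g hg
      rw [Subgroup.mem_subgroupOf]
      apply hC
      refine ⟨g.2, Subgroup.mem_centralizer_iff.2 fun x hx => ?_⟩
      have := Subgroup.mem_centralizer_iff.1 hg ⟨x, hQS hx⟩ (Subgroup.mem_subgroupOf.2 hx)
      exact congrArg Subtype.val this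
    by_cases hA : IsPGroup 2 (MulAut Q)
    · exact (autGroup_le_of_isPGroup hfa (hA.to_subgroup _)).trans (hinner Q hQS)
    · exfalso
      rcases S1896.result hQp hmQ hA with ⟨⟨e⟩⟩ | ⟨n, ⟨e⟩⟩
      · -- quaternion
        rcases cases_of_quaternion hS (Q.subgroupOf S)
          ((Subgroup.subgroupOfEquivOfLe hQS).trans e) hCS with h | h | h
        · exact hd h
        · exact hsd h
        · exact hq h
      · have hab : ∀ a b : Q, a * b = b * a := by
          intro a b
          apply e.injective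
          rw [map_mul, map_mul, mul_comm]
        have h2n : 0 < 2 ^ n := by positivity
        have hNZ : NeZero (2 ^ n) := ⟨h2n.ne'⟩
        have hcard : Nat.card Q = 2 ^ n * 2 ^ n := by
          rw [Nat.card_congr e.toEquiv, Nat.card_prod]
          have : Nat.card (Multiplicative (ZMod (2 ^ n))) = 2 ^ n := by
            rw [Nat.card_congr Multiplicative.toAdd, Nat.card_zmod]
          rw [this]
        have hexp : ∀ q : Q, q ^ 2 ^ n = 1 := by
          intro q
          apply e.injective
          rw [map_pow, map_one]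
          have h1 : ∀ s : Multiplicative (ZMod (2 ^ n)), s ^ 2 ^ n = 1 := by
            intro s
            apply Multiplicative.toAdd.injective
            rw [toAdd_pow, toAdd_one, nsmul_eq_mul, ZMod.natCast_self, zero_mul]
          exact Prod.ext (h1 _) (h1 _)
        rcases Nat.lt_or_ge n 2 with hn | hn
        · interval_cases n
          · -- trivial
            apply hA
            have hc1 : Nat.card Q = 1 := by simpa using hcard
            have : Subsingleton Q := (Nat.card_eq_one_iff_unique.1 hc1).1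
            have : Subsingleton (MulAut Q) := ⟨fun a b => by ext x; exact congrArg _ (Subsingleton.elim _ _)⟩
            exact IsPGroup.of_subsingleton _ _
          · have hc4 : Nat.card (Q.subgroupOf S) = 4 := by
              rw [Nat.card_congr (Subgroup.subgroupOfEquivOfLe hQS).toEquiv, hcard]
              norm_num
            have hV2 : ∀ v ∈ Q.subgroupOf S, v ^ 2 = 1 := by
              intro v hv
              apply Subtype.ext
              have := congrArg Subtype.val (hexp ⟨v, hv⟩)
              simpa using this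
            rcases cases_of_four hS (Q.subgroupOf S) hc4 hV2 hCS with h | h | h
            · exact hd h
            · exact hsd h
            · apply hne
              apply eq_of_le_card_eq hQS
              rw [h, hcard]
              norm_num
        · exact essential_homocyclic_false hS hF hm hQ hab n hn hcard hexp

end Cfsg.Agent.S5212
end
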