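import Cfsg.Statements.S4813
import Cfsg.Agent.H681.DegStruct
import Cfsg.Agent.H681.SimpleChar
import Cfsg.Agent.Blocks.ExistsModular
import Cfsg.Agent.Characters.SchurBound
import Cfsg.Agent.S0907
import Cfsg.Agent.S0914
import Cfsg.Agent.S0960
set_option linter.all false

set_option autoImplicit false
open Cfsg

namespace Cfsg.Agent.S4813

open Cfsg.Agent.Characters.Core Cfsg.Agent.H681.DegBasic Cfsg.Agent.H681.DegStruct
open Cfsg.Agent.H681.SimpleChar

/-- Character values are algebraic integers. -/
theorem isIntegral_value {G : Type*} [Group G] [Finite G] {χ : G → ℂ} (hχ : IsIrrCharacter G χ)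
    (g : G) : IsIntegral ℤ (χ g) := by
  obtain ⟨n, ρ, -, rfl⟩ := hχ
  exact Cfsg.Agent.Characters.Values.character_isIntegral ρ g

/-- A nonabelian finite simple group has an irreducible character whose degree is neither one nor
a prime. -/
theorem false_of_simple {S : Type*} [Group S] [Finite S] [IsSimpleGroup S]
    (hna : ¬ ∀ a b : S, a * b = b * a) (h : ∀ d ∈ Cfsg.charDegrees S, d = 1 ∨ d.Prime) :
    False := by
  classical
  -- a nonlinear degree
  obtain ⟨d0, hd0, hd01⟩ : ∃ d ∈ charDegrees S, d ≠ 1 := by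
    by_contra hcon
    push Not at hcon
    apply hna
    refine S0187.result.2 fun χ => ?_
    obtain ⟨m, hm, hm'⟩ := isIrr_apply_one χ.2
    rw [hm', hcon m (mem_charDegrees.2 ⟨χ, χ.2, hm'⟩), Nat.cast_one]
  -- the largest degree
  have hfin : (charDegrees S).Finite :=
    (Set.finite_Iic (Nat.card S)).subset fun d hd => Nat.le_of_dvd Nat.card_pos (dvd_card hd)
  obtain ⟨p, hpmem, hpmax⟩ := hfin.exists_maximal ⟨d0, hd0⟩
  have hmax : ∀ d ∈ charDegrees S, d ≤ p := fun d hd => by
    rcases le_total d p with h1 | h1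
    · exact h1
    · exact hpmax hd h1
  have hp1 : p ≠ 1 := by
    intro h1
    have h2 := hmax d0 hd0
    have h3 := pos_of_mem hd0
    omega
  have hp : p.Prime := (h p hpmem).resolve_left hp1
  have hpf := Fact.mk hp
  have h2 : 2 ∉ charDegrees S := degree_ne_two hna
  have hodd : ∀ d ∈ charDegrees S, Odd d := by
    intro d hd
    rcases h d hd with rfl | h1
    · exact odd_one
    · rcases h1.eq_two_or_odd' with rfl | h3
      · exact absurd hd h2
      · exact h3
  have hpodd := hodd p hpmem
  have hpne2 : p ≠ 2 := fun h' => h2 (h' ▸ hpmem)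
  obtain ⟨M, hM⟩ := Cfsg.Agent.Blocks.ExistsModular.exists_isPModular hp
  have hMmax : M.IsMaximal := hM.2.1
  have hMprime : M.IsPrime := hMmax.isPrime
  let P : Sylow p S := default
  have hPcard : Nat.card P = p := card_sylow_of_degree hna hp hpmem P
  obtain ⟨-, hblock⟩ := Cfsg.Agent.S0960.result p M hM hpne2 P hPcard _ rfl
  set e := (Subgroup.centralizer ((P : Subgroup S) : Set S)).relIndex
    (Subgroup.normalizer ((P : Subgroup S) : Set S)) with he
  let one : IrrCharacter S := ⟨1, isIrr_one⟩
  have hone : one ∈ principalBlock M S := Cfsg.Agent.Blocks.Basic.mem_blockOf_self one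
  -- degrees in the principal block
  have hdeg : ∀ χ ∈ principalBlock M S, χ ≠ one → ∃ q : ℕ, q.Prime ∧ Odd q ∧ q < p ∧
      (χ : S → ℂ) 1 = q ∧ ((q : ℤ) ≡ e [ZMOD p] ∨ (q : ℤ) ≡ -e [ZMOD p]) := by
    intro χ hχ hχ1
    obtain ⟨q, hq0, hq⟩ := isIrr_apply_one χ.2
    have hqmem : q ∈ charDegrees S := mem_charDegrees.2 ⟨χ, χ.2, hq⟩
    have hq1 : q ≠ 1 := by
      rintro rfl
      apply hχ1
      apply Subtype.ext
      exact eq_one_of_degree_one hna χ.2 (by rw [hq, Nat.cast_one])
    have hqp : q.Prime := (h q hqmem).resolve_left hq1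
    have hqodd := hodd q hqmem
    have hcd : charDegree (χ : S → ℂ) = q := Cfsg.Agent.Blocks.Basic.charDegree_of_eq hq
    have hqlt : q < p := by
      refine lt_of_le_of_ne (hmax q hqmem) ?_
      rintro rfl
      -- defect zero
      have hdz : blockOf M (χ : S → ℂ) = {χ} := by
        refine (Cfsg.Agent.S0914.result q M hM χ).1 ?_
        rw [hcd]
        have h3 := P.not_dvd_index
        have h4 : Nat.card S / q = (P : Subgroup S).index := by
          have h5 := (P : Subgroup S).card_mul_index
          rw [show Nat.card (P : Subgroup S) = q from hPcard] at h5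
          rw [← h5, Nat.mul_div_cancel_left _ hqp.pos]
        rw [h4]
        exact h3
      have h3 : one ∈ blockOf M (χ : S → ℂ) :=
        Cfsg.Agent.Blocks.Basic.sameBlock_symm hχ
      rw [hdz] at h3
      exact hχ1 (Set.mem_singleton_iff.1 h3).symm
    refine ⟨q, hqp, hqodd, hqlt, hq, ?_⟩
    have h3 := hblock χ hχ
    rw [hcd] at h3
    rcases h3 with h3 | h3 | h3 | h3
    · exfalso
      have h4 : (p : ℤ) ∣ 1 - q := h3.dvd
      have h5 : (p : ℤ) ∣ (q : ℤ) - 1 := by
        have := (dvd_neg (α := ℤ)).2 h4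
        rwa [neg_sub] at this
      have h6 := hqp.one_lt
      have h7 := Int.le_of_dvd (by omega) h5
      omega
    · exfalso
      have h4 : (p : ℤ) ∣ -1 - q := h3.dvd
      have h5 : (p : ℤ) ∣ (q : ℤ) + 1 := by
        have := (dvd_neg (α := ℤ)).2 h4
        have h6 : -(-1 - (q : ℤ)) = q + 1 := by ring
        rwa [h6] at this
      have h7 := Int.le_of_dvd (by omega) h5
      have h8 : q + 1 = p := by omega
      obtain ⟨a, ha⟩ := hqodd
      obtain ⟨b, hb⟩ := hpodd
      omega
    · exact Or.inl h3
    · exact Or.inr h3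
  -- all nonprincipal members of the block have the same degree
  have hsame : ∀ q q' : ℕ, Odd q → Odd q' → q < p → q' < p →
      ((q : ℤ) ≡ e [ZMOD p] ∨ (q : ℤ) ≡ -e [ZMOD p]) →
      ((q' : ℤ) ≡ e [ZMOD p] ∨ (q' : ℤ) ≡ -e [ZMOD p]) → q = q' := by
    intro q q' hq hq' hlt hlt' hc hc'
    have hcong : (q : ℤ) ≡ q' [ZMOD p] ∨ (q : ℤ) ≡ -q' [ZMOD p] := by
      rcases hc with hc | hc <;> rcases hc' with hc' | hc'
      · exact Or.inl (hc.trans hc'.symm)
      · right
        have h3 := hc'.neg
        rw [neg_neg] at h3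
        exact hc.trans h3.symm
      · right
        exact hc.trans hc'.neg.symm
      · exact Or.inl (hc.trans hc'.symm)
    rcases hcong with hcong | hcong
    · have h3 : (q : ℤ) % p = q' % p := hcong
      rw [Int.emod_eq_of_lt (by omega) (by omega), Int.emod_eq_of_lt (by omega) (by omega)] at h3
      exact_mod_cast h3
    · exfalso
      have h4 : (p : ℤ) ∣ -q' - q := hcong.dvd
      have h5 : (p : ℤ) ∣ (q : ℤ) + q' := by
        have := (dvd_neg (α := ℤ)).2 h4
        have h6 : -(-(q' : ℤ) - (q : ℤ)) = q + q' := by ring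
        rwa [h6] at this
      obtain ⟨k, hk⟩ := h5
      obtain ⟨a, ha⟩ := hq
      obtain ⟨b, hb⟩ := hq'
      obtain ⟨c, hc'⟩ := hpodd
      have hk1 : k < 2 := by
        by_contra hcon
        have : (p : ℤ) * 2 ≤ p * k := by
          apply mul_le_mul_of_nonneg_left <;> omega
        omega
      have hk0 : 0 < k := by
        by_contra hcon
        have : (p : ℤ) * k ≤ 0 := by
          apply mul_nonpos_of_nonneg_of_nonpos <;> omega
        omega
      have hk' : k = 1 := by omega
      subst hk'
      omega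
  -- orthogonality
  have hdvd := dvd_card hpmem
  obtain ⟨z, hz⟩ := exists_prime_orderOf_dvd_card' (G := S) p hdvd
  have horth := Cfsg.Agent.S0907.result p M hM (principalBlock M S)
    ⟨one, rfl⟩ 1 z (by rw [orderOf_one]; exact fun h' => hp1 (Nat.dvd_one.1 h'))
    (by rw [hz])
  have := finite_irr (G := S)
  have := Fintype.ofFinite (IrrCharacter S)
  rw [finsum_mem_eq_sum_of_inter_support_eq (t := Finset.univ.filter (· ∈ principalBlock M S)) _ (by
    ext x; simp)] at horth
  rw [← Finset.add_sum_erase _ _ (show one ∈ Finset.univ.filter (· ∈ principalBlock M S) by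
    simpa using hone)] at horth
  have hone' : (one : S → ℂ) 1 * (starRingEnd ℂ) ((one : S → ℂ) z) = 1 := by
    simp [one]
  rw [hone'] at horth
  -- the common degree
  obtain ⟨d, hd2, hdd⟩ : ∃ d : ℕ, 2 ≤ d ∧ ∀ χ ∈ principalBlock M S, χ ≠ one →
      (χ : S → ℂ) 1 = d := by
    by_cases hex : ∃ χ ∈ principalBlock M S, χ ≠ one
    · obtain ⟨χ0, hχ0, hχ01⟩ := hex
      obtain ⟨q, hqp, hqo, hql, hq, hqc⟩ := hdeg χ0 hχ0 hχ01
      refine ⟨q, hqp.two_le, fun χ hχ hχ1 => ?_⟩
      obtain ⟨q', hqp', hqo', hql', hq', hqc'⟩ := hdeg χ hχ hχ1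
      rw [hq', hsame q q' hqo hqo' hql hql' hqc hqc']
    · push Not at hex
      exact ⟨2, le_rfl, fun χ hχ hχ1 => absurd (hex χ hχ) hχ1⟩
  have hsum : ∑ χ ∈ (Finset.univ.filter (· ∈ principalBlock M S)).erase one,
      (χ : S → ℂ) 1 * (starRingEnd ℂ) ((χ : S → ℂ) z) =
      d * ∑ χ ∈ (Finset.univ.filter (· ∈ principalBlock M S)).erase one,
        (χ : S → ℂ) z⁻¹ := by
    rw [Finset.mul_sum]
    refine Finset.sum_congr rfl fun χ hχ => ?_
    rw [Finset.mem_erase, Finset.mem_filter] at hχ
    rw [hdd χ hχ.2.2 hχ.1, isCharacter_apply_inv (isIrr_isCharacter χ.2)]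
  rw [hsum] at horth
  set α := ∑ χ ∈ (Finset.univ.filter (· ∈ principalBlock M S)).erase one, (χ : S → ℂ) z⁻¹ with hα
  have hint : IsIntegral ℤ α := IsIntegral.sum _ fun χ _ => isIntegral_value χ.2 _
  have hdne : (d : ℂ) ≠ 0 := by
    have : d ≠ 0 := by omega
    exact_mod_cast this
  have hαeq : α = ((-1 / d : ℚ) : ℂ) := by
    push_cast
    rw [eq_div_iff hdne]
    linear_combination horth
  obtain ⟨a, ha⟩ := Cfsg.Agent.Characters.SchurBound.exists_int_of_rat hint hαeq
  rw [ha] at horth
  have h3 : (1 : ℤ) + d * a = 0 := by exact_mod_cast horth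
  have h4 : (d : ℤ) ∣ 1 := ⟨-a, by linarith⟩
  have h5 := Int.le_of_dvd (by norm_num) h4
  omega

universe u

/-- Groups whose nonlinear irreducible characters have prime degree are solvable. -/
theorem solvable_aux (n : ℕ) : ∀ (G : Type u) [Group G] [Finite G], Nat.card G = n →
    (∀ d ∈ Cfsg.charDegrees G, d = 1 ∨ d.Prime) → Group.IsSolvable G := by
  induction n using Nat.strong_induction_on with
  | _ n ih =>
  intro G _ _ hn h
  classical
  by_cases hcomm : ∀ a b : G, a * b = b * a
  · exact Group.isSolvable_of_comm hcomm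
  · by_cases hsim : ∃ N : Subgroup G, N.Normal ∧ N ≠ ⊥ ∧ N ≠ ⊤
    · obtain ⟨N, hNn, hN1, hN2⟩ := hsim
      have := Fintype.ofFinite G
      have := Fintype.ofFinite N
      have hlt : Nat.card N < n := by
        rw [← hn]
        have h1 := N.card_mul_index
        have h2 : N.index ≠ 1 := fun h' => hN2 (Subgroup.index_eq_one.1 h')
        have h3 : 0 < Nat.card N := Nat.card_pos
        have h4 : 0 < N.index := Nat.pos_of_ne_zero Subgroup.index_ne_zero_of_finite
        rw [← h1]
        exact (Nat.lt_mul_iff_one_lt_right h3).2 (by omega)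
      have hlt2 : Nat.card (G ⧸ N) < n := by
        rw [← hn]
        have h1 := N.card_mul_index
        have h2 : Nat.card N ≠ 1 := fun h' => hN1 (Subgroup.card_eq_one.1 h')
        have h3 : 0 < Nat.card N := Nat.card_pos
        have h4 : 0 < N.index := Nat.pos_of_ne_zero Subgroup.index_ne_zero_of_finite
        change N.index < Nat.card G
        rw [← h1]
        exact (Nat.lt_mul_iff_one_lt_left h4).2 (by omega)
      have hsN : Group.IsSolvable N := by
        refine ih _ hlt N rfl ?_
        intro d hd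
        obtain ⟨θ, hθ, hθd⟩ := mem_charDegrees.1 hd
        obtain ⟨χ, hχ, hne⟩ := Cfsg.Agent.CharDeep.PowerDegrees.exists_irr_over N hθ
        obtain ⟨m, hm, hm'⟩ := isIrr_apply_one hχ
        have hdm := (S0887.result N χ hχ θ hθ hne m d hm' hθd).1
        rcases h m (mem_charDegrees.2 ⟨χ, hχ, hm'⟩) with h1 | h1
        · left
          rw [h1] at hdm
          exact Nat.dvd_one.1 hdm
        · rcases h1.eq_one_or_self_of_dvd d hdm with h2 | h2
          · exact Or.inl h2
          · exact Or.inr (h2 ▸ h1)
      have hsQ : Group.IsSolvable (G ⧸ N) := by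
        refine ih _ hlt2 (G ⧸ N) rfl ?_
        intro d hd
        exact h d (charDegrees_comp (QuotientGroup.mk' N) (QuotientGroup.mk'_surjective N) hd)
      exact Group.isSolvable_of_ker_le_range N.subtype (QuotientGroup.mk' N) (by simp)
    · exfalso
      push Not at hsim
      have hnt : Nontrivial G := by
        by_contra hcon
        rw [not_nontrivial_iff_subsingleton] at hcon
        exact hcomm fun a b => Subsingleton.elim _ _
      have : IsSimpleGroup G := ⟨fun N hN => by
        by_cases hb : N = ⊥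
        · exact Or.inl hb
        · exact Or.inr (hsim N hN hb)⟩
      exact false_of_simple hcomm h

/-- If every irreducible complex character of the finite group G of degree greater than one has prime degree, then G has at most three distinct irreducible character degrees. -/
theorem result {G : Type*} [Group G] [Finite G] (hprime : ∀ d ∈ Cfsg.charDegrees G, d = 1 ∨ d.Prime) : Nat.card ↥(Cfsg.charDegrees G) ≤ 3 := by
  classical
  have hsol : Group.IsSolvable G := solvable_aux _ G rfl hprime
  obtain ⟨p, f, hsub⟩ : ∃ p f : ℕ, charDegrees G ⊆ ({1, f, p} : Finset ℕ) := by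
    by_cases hG : commutator G = ⊥
    · refine ⟨1, 1, fun n hn => ?_⟩
      obtain ⟨χ, hχ, hχn⟩ := mem_charDegrees.1 hn
      have hcomm : ∀ a b : G, a * b = b * a := by
        rw [commutator_eq_bot_iff_center_eq_top, Subgroup.eq_top_iff'] at hG
        intro a b
        exact (Subgroup.mem_center_iff.1 (hG b) a)
      have h1 := Cfsg.Agent.S0187.result.1 hcomm ⟨χ, hχ⟩
      change χ 1 = 1 at h1
      rw [hχn] at h1
      have h2 : n = 1 := by exact_mod_cast h1
      simp [h2]
    · obtain ⟨p, f, hp, hf, h⟩ := exists_prime_degree hG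
      have hfG : f ∈ charDegrees G := by
        obtain ⟨d, hd, -, hd2⟩ := h 1 one_mem
        rw [Nat.dvd_one.1 hd] at hd2
        rcases hd2 with h2 | h2
        · exact absurd (Nat.dvd_one.1 h2) hp.one_lt.ne'
        · rwa [mul_one] at h2
      have hfp : f.Prime := (hprime f hfG).resolve_left hf.ne'
      refine ⟨p, f, fun n hn => ?_⟩
      simp only [Finset.coe_insert, Finset.coe_singleton, Set.mem_insert_iff,
        Set.mem_singleton_iff]
      rcases hprime n hn with h1 | hnp
      · exact Or.inl h1
      · right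
        obtain ⟨d, hd1, hd2, hd3⟩ := h n hn
        rcases hnp.eq_one_or_self_of_dvd d hd1 with h2 | h2
        · left
          rw [h2, mul_one] at hd2
          exact (Nat.prime_dvd_prime_iff_eq hnp hfp).1 hd2
        · subst h2
          rcases hd3 with h3 | h3
          · exact Or.inr ((Nat.prime_dvd_prime_iff_eq hp hnp).1 h3).symm
          · exfalso
            rcases hprime _ h3 with h4 | h4
            · have := hnp.one_lt
              have h5 := Nat.eq_one_of_mul_eq_one_right h4
              omega
            · exact Nat.not_prime_mul hfp.one_lt.ne' hnp.one_lt.ne' h4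
  have h1 : Nat.card ↥(Cfsg.charDegrees G) ≤ ({1, f, p} : Finset ℕ).card := by
    rw [Nat.card_coe_set_eq, ← Set.ncard_coe_finset]
    exact Set.ncard_le_ncard hsub (Finset.finite_toSet _)
  exact h1.trans (Finset.card_le_three)

end Cfsg.Agent.S4813
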