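import Mathlib
import Cfsg.Agent.H169.OddCount_mg
import Cfsg.Agent.ClassicalGeometry.OmegaIndex
import Cfsg.Agent.ClassicalGeometry.Universal
import Cfsg.Agent.LieClassical.QuadForms
import Cfsg.Agent.H171.Palin
import Cfsg.Agent.H174.CNEvenLower
import Cfsg.Agent.H174.ClassIndex
import Cfsg.Agent.S0838
import Cfsg.Agent.S0788
import Cfsg.Agent.LieClassical.OmegaReindex
import Cfsg.Statements.S2560
set_option linter.all false

-- part: H170/OddUpper
section
/-!
# Counting classes of `O(2n+1,q)`, `q` odd, with restrictions on the data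

* `HasO.exists_pair` : two Jordan blocks of size one for the eigenvalue `± 1` give an orthogonal anisotropic pair of
  eigenvectors;
* `two_card_odd_le` : twice the number of classes with restricted data is at most the number of restricted data.
-/

set_option autoImplicit false

namespace Cfsg.Agent.H170.OddUpper

open Module Matrix Cfsg.Agent.H169 Cfsg.Agent.H169.OddUnip Cfsg.Agent.H169.OddGlue Cfsg.Agent.H169.OddCount
  Cfsg.Agent.H194.NilForm Cfsg.Agent.H194.Cayley

section Pair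

/-- an orthogonal anisotropic pair for a symmetric invertible matrix of size `≥ 2` -/
theorem exists_pair_matrix {F : Type*} [Field F] (h2 : (2 : F) ≠ 0) {κ : Type*} [Fintype κ] [DecidableEq κ]
    (S : Matrix κ κ F) (hS : Sᵀ = S) (hu : IsUnit S) (hκ : 2 ≤ Fintype.card κ) :
    ∃ c d : κ → F, c ⬝ᵥ (S *ᵥ d) = 0 ∧ c ⬝ᵥ (S *ᵥ c) ≠ 0 ∧ d ⬝ᵥ (S *ᵥ d) ≠ 0 := by
  let _inv : Invertible (2 : F) := invertibleOfNonzero h2
  have hsym : LinearMap.IsSymm (Matrix.toBilin' S) := by
    constructor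
    intro x y
    rw [RingHom.id_apply, Matrix.toBilin'_apply', Matrix.toBilin'_apply', dotProduct_comm, dotProduct_mulVec y,
      ← mulVec_transpose, hS]
  obtain ⟨v, hv⟩ := LinearMap.BilinForm.exists_orthogonal_basis (B := Matrix.toBilin' S) hsym
  have hsep : ∀ u, (∀ w, Matrix.toBilin' S u w = 0) → u = 0 := fun u h =>
    (Cfsg.Agent.H194.NilForm.nondeg_of_isUnit hu).1 u h
  have hne := hv.not_isOrtho_basis_self_of_separatingLeft hsep
  have hr : finrank F (κ → F) = Fintype.card κ := finrank_fintype_fun_eq_card F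
  have e : ∀ c d : κ → F, c ⬝ᵥ (S *ᵥ d) = Matrix.toBilin' S c d := fun c d => (Matrix.toBilin'_apply' _ _ _).symm
  refine ⟨v ⟨0, by omega⟩, v ⟨1, by omega⟩, ?_, ?_, ?_⟩
  · rw [e]
    exact hv (by
      intro h
      have := congrArg Fin.val h
      simp at this)
  · rw [e]
    exact hne _
  · rw [e]
    exact hne _

variable {F : Type*} [Field F] {V : Type*} [AddCommGroup V] [Module F V]

theorem fix_of_cay {g N : Module.End F V} (h : Cay g N) {v : V} (hv : N v = 0) : g v = v := by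
  have h1 := congrArg (fun T : Module.End F V => T v) h.eq_sub
  simp only [Module.End.mul_apply, hv, map_zero, LinearMap.sub_apply, Module.End.one_apply] at h1
  exact (sub_eq_zero.1 h1.symm)

theorem HasU.exists_pair (h2 : (2 : F) ≠ 0) {B : V →ₗ[F] V →ₗ[F] F} (hsym : ∀ u v, B u v = B v u)
    (hnd : ∀ u, (∀ v, B u v = 0) → u = 0)
    {g : Module.End F V} (hg : ∀ u v, B (g u) (g v) = B u v) {m : ℕ → ℕ} {s : ℕ → Bool} (H : HasU B g m s)
    (hm : 2 ≤ m 1) : ∃ u v, g u = u ∧ g v = v ∧ B u v = 0 ∧ B u u ≠ 0 ∧ B v v ≠ 0 := by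
  obtain ⟨N, hc, ι, _, _, ℓ, S, x, hx, hℓ, -⟩ := H
  have hskew := skew_of_isometry (f := fun u v => B u v) h2 (fun x x' y => by rw [map_add, LinearMap.add_apply])
    (fun x y y' => by rw [map_add]) hg hc
  have hP := pair B hsym hnd hskew
  have hS := block_symm hP hx 1
  rw [show (-1 : F) ^ (1 + 1) = 1 by ring, one_smul] at hS
  obtain ⟨c, d, h1, h3, h4⟩ := exists_pair_matrix h2 (S.toSquareBlock ℓ 1) hS (hx.block_isUnit 1) (by rw [hℓ]; exact hm)
  let φ : ({a // ℓ a = 1} → F) →ₗ[F] V := ∑ a : {a // ℓ a = 1}, (LinearMap.proj a).smulRight (x a.1)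
  have hφ : ∀ c, φ c = ∑ a : {a // ℓ a = 1}, c a • x a.1 := fun c => by simp [φ]
  have hN : ∀ c, N (φ c) = 0 := fun c => by
    rw [hφ, map_sum]
    refine Finset.sum_eq_zero fun a _ => ?_
    rw [map_smul]
    have h5 := hx.pow a.1
    rw [a.2, pow_one] at h5
    rw [h5, smul_zero]
  have hB : ∀ c d, B (φ c) (φ d) = c ⬝ᵥ (S.toSquareBlock ℓ 1 *ᵥ d) := fun c d => by
    rw [hφ c, map_sum, LinearMap.sum_apply]
    simp only [dotProduct, mulVec]
    refine Finset.sum_congr rfl fun a _ => ?_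
    rw [map_smul, LinearMap.smul_apply, smul_eq_mul, hφ d, map_sum]
    congr 1
    refine Finset.sum_congr rfl fun b _ => ?_
    rw [map_smul, smul_eq_mul, mul_comm]
    congr 1
    have h5 := hx.form a.1 b.1 0
    rw [if_pos (by rw [b.2]), pow_zero] at h5
    exact h5
  refine ⟨φ c, φ d, fix_of_cay hc (hN c), fix_of_cay hc (hN d), ?_, ?_, ?_⟩
  · rw [hB, h1]
  · rw [hB]
    exact h3
  · rw [hB]
    exact h4

variable [FiniteDimensional F V]

/-- two blocks of size one give an orthogonal anisotropic pair of eigenvectors -/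
theorem HasO.exists_pair (h2 : (2 : F) ≠ 0) {B : V →ₗ[F] V →ₗ[F] F} (hsym : ∀ u v, B u v = B v u)
    (hnd : ∀ u, (∀ v, B u v = 0) → u = 0) {g : V ≃ₗ[F] V} (hg : ∀ u v, B (g u) (g v) = B u v) {D : ODat F}
    (H : HasO B g D) (hm : 2 ≤ D.a true 1 ∨ 2 ≤ D.a false 1) :
    ∃ (ε : F) (u v : V), (ε = 1 ∨ ε = -1) ∧ g u = ε • u ∧ g v = ε • v ∧ B u v = 0 ∧ B u u ≠ 0 ∧ B v v ≠ 0 := by
  obtain ⟨U, W, h, hU, U', W', h', hU', -, -⟩ := H
  rcases hm with hm | hm
  · obtain ⟨u, v, h3, h4, h5, h6, h7⟩ := HasU.exists_pair h2 (B := bres B U) (fun u v => hsym u v) (h.nondeg hnd)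
      (fun u v => hg u v) hU hm
    refine ⟨1, u, v, Or.inl rfl, ?_, ?_, h5, h6, h7⟩
    · rw [one_smul]
      exact congrArg Subtype.val h3
    · rw [one_smul]
      exact congrArg Subtype.val h4
  · obtain ⟨u, v, h3, h4, h5, h6, h7⟩ := HasU.exists_pair h2 (B := bres (bres B W) U') (fun u v => hsym u v)
      (h'.nondeg ((h.swap hsym).nondeg hnd))
      (fun u v => by
        rw [LinearMap.neg_apply, LinearMap.neg_apply, map_neg, map_neg, LinearMap.neg_apply, neg_neg]
        exact hg u v) hU' hm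
    refine ⟨-1, u.1, v.1, Or.inr rfl, ?_, ?_, h5, h6, h7⟩
    · have h8 : -(g (u.1 : V)) = (u.1 : V) := congrArg (fun x : U' => ((x : W) : V)) h3
      rw [neg_one_smul]
      exact neg_eq_iff_eq_neg.1 h8
    · have h8 : -(g (v.1 : V)) = (v.1 : V) := congrArg (fun x : U' => ((x : W) : V)) h4
      rw [neg_one_smul]
      exact neg_eq_iff_eq_neg.1 h8

end Pair

section Count

variable {F : Type*} [Field F] {ι : Type} [Fintype ι] [DecidableEq ι]

theorem not_free {N : ℕ} (hN : Odd N) {D : ODat F} (h : D.Ok N) : ¬ D.Free := by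
  intro hf
  apply Nat.not_even_iff_odd.2 hN
  rw [← h.size]
  apply Finset.even_sum
  intro j _
  rcases Nat.even_or_odd j with hj | hj
  · exact hj.mul_right _
  · rw [hf true j hj, hf false j hj, add_zero, add_zero]
    exact (h.even j).mul_left _

/-- **Twice the number of classes with restricted data.** -/
theorem two_card_odd_le [Fintype F] (h2 : (2 : F) ≠ 0) {N : ℕ} (hN : Odd N) (hι : Fintype.card ι = N)
    (G₀ : Matrix ι ι F) (hs : G₀ᵀ = G₀) (hu : G₀.det ≠ 0) (Q : (ι → F) → F) (hQ : ∀ v, 2 * Q v = v ⬝ᵥ (G₀ *ᵥ v))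
    [Finite {D : ODat F // D.Ok N}] (K : (Bool → ℕ → ℕ) → Prop) (C : Set (ConjClasses (Cfsg.isometryGroup F Q)))
    (hC : ∀ c ∈ C, ∃ A : Cfsg.isometryGroup F Q, ConjClasses.mk A = c ∧
      ∀ D : ODat F, HasO (bf G₀) (lin (A : GL ι F)) D → K D.a) :
    2 * Nat.card C ≤ Nat.card {D : ODat F // D.Ok N ∧ K D.a} := by
  classical
  have hrank : finrank F (ι → F) = N := by rw [finrank_fintype_fun_eq_card, hι]
  have hfin : Finite {D : ODat F // D.Ok N ∧ K D.a} :=
    Finite.of_injective (fun D => (⟨D.1, D.2.1⟩ : {D : ODat F // D.Ok N})) fun D D' h =>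
      Subtype.ext (congrArg (fun x : {D : ODat F // D.Ok N} => x.1) h)
  let R : {D : ODat F // D.Ok N ∧ K D.a} → Prop := fun D =>
    ∃ A : Cfsg.isometryGroup F Q, HasO (bf G₀) (lin (A : GL ι F)) D.1
  have h1 : ∀ A : Cfsg.isometryGroup F Q, ∃ D : ODat F, D.Ok N ∧ HasO (bf G₀) (lin (A : GL ι F)) D := fun A =>
    exists_hasO h2 (bf_symm hs) (bf_nondeg hu) (bf_iso h2 hs hQ A) hrank
  choose D hD hA using h1
  have h3 : Nat.card C ≤ Nat.card {x // R x} := by
    refine Nat.card_le_card_of_injective (fun c : C =>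
      (⟨⟨D (hC c.1 c.2).choose, hD _, (hC c.1 c.2).choose_spec.2 _ (hA _)⟩, ⟨_, hA _⟩⟩ : {x // R x})) ?_
    intro c c' hcc
    have h4 : D (hC c.1 c.2).choose = D (hC c'.1 c'.2).choose := congrArg (fun x => x.1.1) hcc
    have h5 := hA (hC c.1 c.2).choose
    have h6 := hA (hC c'.1 c'.2).choose
    rw [← h4] at h6
    obtain ⟨z, hz, hz'⟩ := h5.exists_isometry h2 (bf_symm hs) (bf_nondeg hu) (bf_symm hs) (bf_nondeg hu)
      (bf_iso h2 hs hQ _) (bf_iso h2 hs hQ _) h6
    have h7 := isConj_of_iso h2 hQ _ _ z hz hz'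
    apply Subtype.ext
    rw [← (hC c.1 c.2).choose_spec.1, ← (hC c'.1 c'.2).choose_spec.1]
    exact ConjClasses.mk_eq_mk_iff_isConj.2 h7
  have h4 := card_count R (fun _ => False)
    (fun x => ⟨flip x.1, flip_ok x.2.1 (not_free hN x.2.1), x.2.2⟩) (by
      intro x _
      exact ⟨Subtype.ext (flip_flip _), not_false⟩) (by
      rintro x ⟨A, hxA⟩ _ ⟨A', hxA'⟩
      have h5 := hxA.qd_mul h2 (bf_symm hs) (bf_nondeg hu) (bf_symm hs) (bf_nondeg hu) (bf_iso h2 hs hQ _)
        (bf_iso h2 hs hQ _) hxA' rfl rfl (d := N) hrank.le hrank.le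
      rw [sgn_flip x.2.1 (not_free hN x.2.1), ← sq, OddUnip.qd, quadraticChar_sq_one] at h5
      · norm_num at h5
      · exact (LinearMap.BilinForm.nondegenerate_iff_det_ne_zero _).1 (nondegenerate_of (bf_symm hs) (bf_nondeg hu)))
  have h5 : Nat.card {x : {D : ODat F // D.Ok N ∧ K D.a} // (fun _ => False) x} = 0 := by simp
  rw [h5] at h4
  omega

end Count

section Gram

open Cfsg.Agent.H169.OddForms

/-- Gram matrix of the form in odd dimension -/
def gramOdd (n : ℕ) (F : Type*) [Field F] : Matrix (Unit ⊕ (Fin n ⊕ Fin n)) (Unit ⊕ (Fin n ⊕ Fin n)) F :=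
  fromBlocks 2 0 0 (gramPlus n F)

variable {F : Type*} [Field F]

theorem gramOdd_symm (n : ℕ) : (gramOdd n F)ᵀ = gramOdd n F := by
  rw [gramOdd, fromBlocks_transpose, gramPlus_symm]
  congr 1

theorem gramOdd_det (h2 : (2 : F) ≠ 0) (n : ℕ) : (gramOdd n F).det ≠ 0 := by
  rw [gramOdd, det_fromBlocks_zero₁₂]
  refine mul_ne_zero ?_ (gramPlus_det n)
  rw [det_unique]
  exact h2

theorem gramOdd_form (n : ℕ) (v : Unit ⊕ (Fin n ⊕ Fin n) → F) :
    2 * Cfsg.quadFormOdd n F v = v ⬝ᵥ (gramOdd n F *ᵥ v) := by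
  obtain ⟨x, y, rfl⟩ : ∃ (x : Unit → F) (y : Fin n ⊕ Fin n → F), v = Sum.elim x y :=
    ⟨fun i => v (.inl i), fun i => v (.inr i), by ext i; cases i <;> rfl⟩
  have h1 := gramPlus_form n y
  rw [gramOdd, fromBlocks_mulVec]
  simp only [Sum.elim_comp_inl, Sum.elim_comp_inr, zero_mulVec, zero_add, add_zero, Cfsg.quadFormOdd,
    Sum.elim_inl, Sum.elim_inr, sumElim_dotProduct_sumElim]
  rw [← h1, Cfsg.quadFormPlus]
  simp only [dotProduct, mulVec, Finset.univ_unique, Finset.sum_singleton]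
  have h3 : (2 : Matrix Unit Unit F) default default = 2 := rfl
  rw [h3]
  show 2 * (x () ^ 2 + _) = x () * (2 * x ()) + _
  ring

end Gram

end Cfsg.Agent.H170.OddUpper
end

-- part: H171/ClassSplit
section
/-!
# Class numbers of subgroups of index two

`two_card_eq`: if `H` has index two in `G` then `2 k(H) = k(G) + 3 s`, `s` the number of classes of `G` consisting of
elements whose centralizer lies in `H`.
-/

set_option autoImplicit false

namespace Cfsg.Agent.H171

open scoped Classical in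
/-- the commuting pairs whose first member lies in given classes -/
theorem card_good_pairs {G : Type*} [Group G] [Finite G] (good : ConjClasses G → Prop) :
    Nat.card {p : G × G // good (ConjClasses.mk p.1) ∧ Commute p.1 p.2} =
      Nat.card {c : ConjClasses G // good c} * Nat.card G := by
  have e1 : {p : G × G // good (ConjClasses.mk p.1) ∧ Commute p.1 p.2} ≃
      Σ c : {c : ConjClasses G // good c}, {p : G × G // ConjClasses.mk p.1 = c.1 ∧ Commute p.1 p.2} :=
    { toFun := fun p => ⟨⟨ConjClasses.mk p.1.1, p.2.1⟩, ⟨p.1, rfl, p.2.2⟩⟩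
      invFun := fun q => ⟨q.2.1, by rw [q.2.2.1]; exact q.1.2, q.2.2.2⟩
      left_inv := fun p => rfl
      right_inv := by
        rintro ⟨⟨c, hc⟩, ⟨p, hp1, hp2⟩⟩
        simp only at hp1
        subst hp1
        rfl }
  have e2 : ∀ c : {c : ConjClasses G // good c},
      Nat.card {p : G × G // ConjClasses.mk p.1 = c.1 ∧ Commute p.1 p.2} = Nat.card G := by
    rintro ⟨c, hc⟩
    obtain ⟨x₀, rfl⟩ := ConjClasses.mk_surjective c
    let t : G → G := fun x => if h : ∃ g, g * x₀ * g⁻¹ = x then h.choose else 1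
    have ht : ∀ x, ConjClasses.mk x = ConjClasses.mk x₀ → t x * x₀ * (t x)⁻¹ = x := by
      intro x hx
      have h : ∃ g, g * x₀ * g⁻¹ = x := by
        have h1 := (ConjClasses.mk_eq_mk_iff_isConj.1 hx).symm
        exact isConj_iff.1 h1
      show (if h : ∃ g, g * x₀ * g⁻¹ = x then h.choose else 1) * x₀ *
        (if h : ∃ g, g * x₀ * g⁻¹ = x then h.choose else 1)⁻¹ = x
      rw [dif_pos h]
      exact h.choose_spec
    have hg : ∀ g : G, ConjClasses.mk (g * x₀ * g⁻¹) = ConjClasses.mk x₀ := fun g =>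
      ConjClasses.mk_eq_mk_iff_isConj.2 (isConj_iff.2 ⟨g, rfl⟩).symm
    have key : ∀ (x y : G), Commute x y → ConjClasses.mk x = ConjClasses.mk x₀ →
        (y * t x) * x₀ * (y * t x)⁻¹ = x := by
      intro x y hxy hx
      rw [mul_inv_rev]
      calc y * t x * x₀ * ((t x)⁻¹ * y⁻¹) = y * (t x * x₀ * (t x)⁻¹) * y⁻¹ := by group
        _ = y * x * y⁻¹ := by rw [ht x hx]
        _ = x := by rw [← hxy.eq, mul_inv_cancel_right]
    refine Nat.card_congr
      { toFun := fun p => p.1.2 * t p.1.1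
        invFun := fun g => ⟨(g * x₀ * g⁻¹, g * (t (g * x₀ * g⁻¹))⁻¹), hg g, ?_⟩
        left_inv := ?_
        right_inv := ?_ }
    · show (g * x₀ * g⁻¹) * (g * (t (g * x₀ * g⁻¹))⁻¹) = (g * (t (g * x₀ * g⁻¹))⁻¹) * (g * x₀ * g⁻¹)
      have h1 := ht (g * x₀ * g⁻¹) (hg g)
      calc (g * x₀ * g⁻¹) * (g * (t (g * x₀ * g⁻¹))⁻¹) = g * x₀ * (t (g * x₀ * g⁻¹))⁻¹ := by group
        _ = g * (t (g * x₀ * g⁻¹))⁻¹ * (t (g * x₀ * g⁻¹) * x₀ * (t (g * x₀ * g⁻¹))⁻¹) := by group
        _ = _ := by rw [h1]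
    · rintro ⟨⟨x, y⟩, hx, hxy⟩
      apply Subtype.ext
      simp only at hx hxy ⊢
      rw [key x y hxy hx, mul_inv_cancel_right]
    · intro g
      simp only
      rw [inv_mul_cancel_right]
  have hfin : Finite {c : ConjClasses G // good c} := inferInstance
  have := Fintype.ofFinite {c : ConjClasses G // good c}
  rw [Nat.card_congr e1, Nat.card_sigma, Finset.sum_congr rfl (fun c _ => e2 c), Finset.sum_const, smul_eq_mul,
    Finset.card_univ, Nat.card_eq_fintype_card (α := {c : ConjClasses G // good c})]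

open scoped Classical in
/-- **Class number of a subgroup of index two.** -/
theorem two_card_eq {G : Type*} [Group G] [Finite G] (H : Subgroup G) (hH : H.index = 2) :
    2 * Nat.card (ConjClasses H) = Nat.card (ConjClasses G) +
      3 * Nat.card {c : ConjClasses G // ∀ x, ConjClasses.mk x = c → Subgroup.centralizer {x} ≤ H} := by
  have hmul : ∀ a b : G, a * b ∈ H ↔ (a ∈ H ↔ b ∈ H) := fun a b => Subgroup.mul_mem_iff_of_index_two hH
  have hcardG : Nat.card G = Nat.card H * 2 := by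
    rw [← hH]
    exact (Subgroup.card_mul_index H).symm
  -- all pairs
  have hG := card_good_pairs (G := G) (fun _ => True)
  have hG' : Nat.card {c : ConjClasses G // True} = Nat.card (ConjClasses G) :=
    Nat.card_congr (Equiv.subtypeUnivEquiv fun _ => trivial)
  rw [hG'] at hG
  have hHp := card_good_pairs (G := H) (fun _ => True)
  have hH' : Nat.card {c : ConjClasses H // True} = Nat.card (ConjClasses H) :=
    Nat.card_congr (Equiv.subtypeUnivEquiv fun _ => trivial)
  rw [hH'] at hHp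
  have hs := card_good_pairs (G := G) (fun c => ∀ x, ConjClasses.mk x = c → Subgroup.centralizer {x} ≤ H)
  set s := Nat.card {c : ConjClasses G // ∀ x, ConjClasses.mk x = c → Subgroup.centralizer {x} ≤ H}
  -- the four parts
  let HH := {p : G × G // p.1 ∈ H ∧ p.2 ∈ H ∧ Commute p.1 p.2}
  let HN := {p : G × G // p.1 ∈ H ∧ p.2 ∉ H ∧ Commute p.1 p.2}
  let NH := {p : G × G // p.1 ∉ H ∧ p.2 ∈ H ∧ Commute p.1 p.2}
  let NN := {p : G × G // p.1 ∉ H ∧ p.2 ∉ H ∧ Commute p.1 p.2}
  have e1 : {p : G × G // True ∧ Commute p.1 p.2} ≃ (HH ⊕ HN) ⊕ (NH ⊕ NN) :=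
    { toFun := fun p =>
        if h1 : p.1.1 ∈ H then
          if h2 : p.1.2 ∈ H then Sum.inl (Sum.inl ⟨p.1, h1, h2, p.2.2⟩) else Sum.inl (Sum.inr ⟨p.1, h1, h2, p.2.2⟩)
        else
          if h2 : p.1.2 ∈ H then Sum.inr (Sum.inl ⟨p.1, h1, h2, p.2.2⟩) else Sum.inr (Sum.inr ⟨p.1, h1, h2, p.2.2⟩)
      invFun := Sum.elim (Sum.elim (fun p => ⟨p.1, trivial, p.2.2.2⟩) (fun p => ⟨p.1, trivial, p.2.2.2⟩))
        (Sum.elim (fun p => ⟨p.1, trivial, p.2.2.2⟩) (fun p => ⟨p.1, trivial, p.2.2.2⟩))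
      left_inv := by
        rintro ⟨p, hp⟩
        by_cases h1 : p.1 ∈ H <;> by_cases h2 : p.2 ∈ H <;> simp [h1, h2]
      right_inv := by
        rintro ((p | p) | (p | p)) <;> simp [p.2.1, p.2.2.1] }
  have e2 : {p : H × H // True ∧ Commute p.1 p.2} ≃ HH :=
    { toFun := fun p => ⟨(p.1.1, p.1.2), p.1.1.2, p.1.2.2, congrArg Subtype.val p.2.2.eq⟩
      invFun := fun p => ⟨(⟨p.1.1, p.2.1⟩, ⟨p.1.2, p.2.2.1⟩), trivial, Subtype.ext p.2.2.2.eq⟩
      left_inv := fun p => rfl
      right_inv := fun p => rfl }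
  have e3 : NH ≃ HN :=
    { toFun := fun p => ⟨(p.1.2, p.1.1), p.2.2.1, p.2.1, p.2.2.2.symm⟩
      invFun := fun p => ⟨(p.1.2, p.1.1), p.2.2.1, p.2.1, p.2.2.2.symm⟩
      left_inv := fun p => rfl
      right_inv := fun p => rfl }
  have e4 : NN ≃ HN :=
    { toFun := fun p => ⟨(p.1.1 * p.1.2, p.1.2), (hmul _ _).2 ⟨fun h => absurd h p.2.1, fun h => absurd h p.2.2.1⟩,
        p.2.2.1, p.2.2.2.mul_left (Commute.refl _)⟩
      invFun := fun p => ⟨(p.1.1 * p.1.2⁻¹, p.1.2), fun h => p.2.2.1 (H.inv_mem_iff.1 (((hmul _ _).1 h).1 p.2.1)),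
        p.2.2.1, p.2.2.2.mul_left ((Commute.refl _).inv_left)⟩
      left_inv := fun p => by
        apply Subtype.ext
        simp
      right_inv := fun p => by
        apply Subtype.ext
        simp }
  -- pairs with centralizer inside `H`
  let GG := {p : G × G // (∀ x, ConjClasses.mk x = ConjClasses.mk p.1 → Subgroup.centralizer {x} ≤ H) ∧
    Commute p.1 p.2}
  have hconj : ∀ x g : G, Subgroup.centralizer {x} ≤ H → Subgroup.centralizer {g * x * g⁻¹} ≤ H := by
    intro x g hx y hy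
    have hnorm : H.Normal := Subgroup.normal_of_index_eq_two hH
    have h1 : g⁻¹ * y * g ∈ Subgroup.centralizer {x} := by
      rw [Subgroup.mem_centralizer_singleton_iff] at hy ⊢
      have h2 : y * (g * x * g⁻¹) = (g * x * g⁻¹) * y := hy
      calc g⁻¹ * y * g * x = g⁻¹ * (y * (g * x * g⁻¹)) * g := by group
        _ = g⁻¹ * ((g * x * g⁻¹) * y) * g := by rw [h2]
        _ = x * (g⁻¹ * y * g) := by group
    have h3 := hnorm.conj_mem _ (hx h1) g
    rwa [show g * (g⁻¹ * y * g) * g⁻¹ = y by group] at h3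
  have hiff : ∀ x₀ : G, (∀ x, ConjClasses.mk x = ConjClasses.mk x₀ → Subgroup.centralizer {x} ≤ H) ↔
      Subgroup.centralizer {x₀} ≤ H := by
    intro x₀
    constructor
    · intro h
      exact h x₀ rfl
    · intro h x hx
      obtain ⟨g, rfl⟩ := isConj_iff.1 (ConjClasses.mk_eq_mk_iff_isConj.1 hx).symm
      exact hconj x₀ g h
  -- for `x` in `H` with centralizer not inside `H` choose `u x` in the centralizer outside `H`
  let u : G → G := fun x => if h : ∃ y, Commute x y ∧ y ∉ H then h.choose else 1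
  have hu : ∀ x, ¬ Subgroup.centralizer {x} ≤ H → Commute x (u x) ∧ u x ∉ H := by
    intro x hx
    have h : ∃ y, Commute x y ∧ y ∉ H := by
      rw [SetLike.not_le_iff_exists] at hx
      obtain ⟨y, hy1, hy2⟩ := hx
      rw [Subgroup.mem_centralizer_singleton_iff] at hy1
      exact ⟨y, hy1.symm, hy2⟩
    show Commute x (if h : ∃ y, Commute x y ∧ y ∉ H then h.choose else 1) ∧
      (if h : ∃ y, Commute x y ∧ y ∉ H then h.choose else 1) ∉ H
    rw [dif_pos h]
    exact h.choose_spec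
  have hcen : ∀ x : G, Subgroup.centralizer {x} ≤ H → ∀ y, Commute x y → y ∈ H := by
    intro x hx y hy
    apply hx
    rw [Subgroup.mem_centralizer_singleton_iff]
    exact hy.symm
  have e5 : HH ≃ HN ⊕ GG :=
    { toFun := fun p =>
        if h : Subgroup.centralizer {p.1.1} ≤ H then Sum.inr ⟨p.1, (hiff _).2 h, p.2.2.2⟩
        else Sum.inl ⟨(p.1.1, p.1.2 * u p.1.1), p.2.1,
          fun hh => (hu _ h).2 (((hmul _ _).1 hh).1 p.2.2.1), p.2.2.2.mul_right (hu _ h).1⟩
      invFun := Sum.elim (fun p => ⟨(p.1.1, p.1.2 * (u p.1.1)⁻¹), p.2.1, by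
          have hn : ¬ Subgroup.centralizer {p.1.1} ≤ H := fun h => p.2.2.1 (hcen _ h _ p.2.2.2)
          have h1 := hu _ hn
          exact ⟨(hmul _ _).2 ⟨fun h => absurd h p.2.2.1, fun h => absurd (H.inv_mem_iff.1 h) h1.2⟩,
            p.2.2.2.mul_right h1.1.inv_right⟩⟩)
        (fun p => ⟨p.1, hcen _ ((hiff _).1 p.2.1) _ (Commute.refl _), hcen _ ((hiff _).1 p.2.1) _ p.2.2, p.2.2⟩)
      left_inv := by
        rintro ⟨p, hp⟩
        by_cases h : Subgroup.centralizer {p.1} ≤ H
        · simp [h]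
        · simp [h]
      right_inv := by
        rintro (p | p)
        · have hn : ¬ Subgroup.centralizer {p.1.1} ≤ H := fun h => p.2.2.1 (hcen _ h _ p.2.2.2)
          simp [hn]
        · have h : Subgroup.centralizer {p.1.1} ≤ H := (hiff _).1 p.2.1
          simp [h] }
  have c1 := Nat.card_congr e1
  rw [Nat.card_sum, Nat.card_sum, Nat.card_sum, Nat.card_congr e3, Nat.card_congr e4] at c1
  have c2 := Nat.card_congr e2
  have c5 := Nat.card_congr e5
  rw [Nat.card_sum] at c5
  have c6 : Nat.card GG = s * Nat.card G := hs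
  rw [c6] at c5
  rw [c1] at hG
  rw [c2] at hHp
  have hpos : 0 < Nat.card H := Nat.card_pos
  rw [hcardG] at hG c5
  have h7 : (2 * Nat.card (ConjClasses H)) * (Nat.card H * 2) =
      (Nat.card (ConjClasses G) + 3 * s) * (Nat.card H * 2) := by
    rw [add_mul, ← hG]
    have h8 : Nat.card HH = Nat.card (ConjClasses H) * Nat.card H := hHp
    nlinarith
  exact Nat.eq_of_mul_eq_mul_right (by omega) h7

end Cfsg.Agent.H171
end

-- part: H171/OmegaSplit
section
/-!
# The class number of `Ω(Q)`, odd dimension, odd characteristic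

* `four_card_eq` : `4 k(Ω) = k(O) + 3 s`, `s` = number of classes of `O` consisting of elements `x` with
  `C_O(x) ≤ Ω ∪ -Ω`;
* `Splits Q x` : there are `v, w` with `Q v Q w` a non-square (nonzero) and `x v = ± v`, `x w = ± w`;
* `four_card_le` : `4 k(Ω) ≤ k(O) + 3 s'`, `s'` = number of classes of non-split elements;
* `splits_of_pair` : two orthogonal nonsingular vectors in the same eigenspace for `± 1` ⇒ split.
-/

set_option autoImplicit false

namespace Cfsg.Agent.H171.OmegaSplit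

open Matrix QuadraticMap Cfsg.Agent.H171
open Cfsg.Agent.ClassicalGeometry.Reflection Cfsg.Agent.ClassicalGeometry.SpinorSign
open Cfsg.Agent.ClassicalGeometry.OmegaIndex

universe u

variable {ι : Type} [Fintype ι] [DecidableEq ι] {F : Type u} [Field F]

/-- The isometry `-1`. -/
def ng (Q : QuadraticForm F (ι → F)) : isometryGroup F (⇑Q) :=
  ⟨-1, (mem_isometryGroup_iff _ _).2 fun v => by
    rw [Units.val_neg, Units.val_one, neg_mulVec, one_mulVec, QuadraticMap.map_neg]⟩

theorem ng_mulVec (Q : QuadraticForm F (ι → F)) (v : ι → F) :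
    (((ng Q : GL ι F)) : Matrix ι ι F) *ᵥ v = -v := by
  change ((-1 : GL ι F) : Matrix ι ι F) *ᵥ v = -v
  rw [Units.val_neg, Units.val_one, neg_mulVec, one_mulVec]

theorem ng_comm (Q : QuadraticForm F (ι → F)) (g : isometryGroup F (⇑Q)) : ng Q * g = g * ng Q := by
  apply isometryGroup_ext
  intro x
  rw [coe_mul_mulVec, coe_mul_mulVec, ng_mulVec, ng_mulVec, mulVec_neg]

theorem ng_mul_ng (Q : QuadraticForm F (ι → F)) : ng Q * ng Q = 1 := by
  apply isometryGroup_ext
  intro x
  rw [coe_mul_mulVec, ng_mulVec, ng_mulVec, neg_neg]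
  change x = ((1 : GL ι F) : Matrix ι ι F) *ᵥ x
  rw [Units.val_one, one_mulVec]

theorem det_ng (Q : QuadraticForm F (ι → F)) (hodd : Odd (Fintype.card ι)) :
    ((ng Q : GL ι F) : Matrix ι ι F).det = -1 := by
  change ((-1 : GL ι F) : Matrix ι ι F).det = -1
  rw [Units.val_neg, Units.val_one, Matrix.det_neg, Matrix.det_one, mul_one, hodd.neg_one_pow]

theorem det_mul' (Q : QuadraticForm F (ι → F)) (g h : isometryGroup F (⇑Q)) :
    (((g * h : isometryGroup F (⇑Q)) : GL ι F) : Matrix ι ι F).det =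
      ((g : GL ι F) : Matrix ι ι F).det * ((h : GL ι F) : Matrix ι ι F).det := by
  rw [← Matrix.det_mul]
  rfl

/-- the subgroup `Ω ∪ -Ω` -/
def omPM (Q : QuadraticForm F (ι → F)) : Subgroup (isometryGroup F (⇑Q)) where
  carrier := {g | g ∈ Cfsg.Omega F (⇑Q) ∨ ng Q * g ∈ Cfsg.Omega F (⇑Q)}
  one_mem' := Or.inl (one_mem _)
  mul_mem' := by
    rintro g h (hg | hg) (hh | hh)
    · exact Or.inl (mul_mem hg hh)
    · right
      rw [← mul_assoc, ng_comm, mul_assoc]
      exact mul_mem hg hh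
    · right
      rw [← mul_assoc]
      exact mul_mem hg hh
    · left
      have h1 := mul_mem hg hh
      rwa [ng_comm Q g, mul_assoc, ← mul_assoc (ng Q), ng_mul_ng, one_mul] at h1
  inv_mem' := by
    rintro g (hg | hg)
    · exact Or.inl (inv_mem hg)
    · right
      have h1 := inv_mem hg
      have h2 : (ng Q)⁻¹ = ng Q := inv_eq_of_mul_eq_one_left (ng_mul_ng Q)
      rwa [_root_.mul_inv_rev, h2, ← ng_comm] at h1

theorem mem_omPM {Q : QuadraticForm F (ι → F)} {g : isometryGroup F (⇑Q)} :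
    g ∈ omPM Q ↔ g ∈ Cfsg.Omega F (⇑Q) ∨ ng Q * g ∈ Cfsg.Omega F (⇑Q) := Iff.rfl

theorem omega_le (Q : QuadraticForm F (ι → F)) : Cfsg.Omega F (⇑Q) ≤ omPM Q := fun _ h => Or.inl h

theorem one_ne_neg_one (h2 : (2 : F) ≠ 0) : (-1 : F) ≠ 1 := by
  intro h
  apply h2
  have h3 : (1 : F) + 1 = 0 := by
    nth_rw 1 [← h]
    ring
  rwa [one_add_one_eq_two] at h3

variable [Finite F]

theorem ng_notMem (h2 : (2 : F) ≠ 0) (Q : QuadraticForm F (ι → F)) (hQ : (polarBilin Q).Nondegenerate)
    (hodd : Odd (Fintype.card ι)) (hn : 2 ≤ Fintype.card ι) : ng Q ∉ Cfsg.Omega F (⇑Q) := by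
  intro h
  have h1 := ((mem_Omega_iff h2 Q hQ hn one_ne_zero (ng Q)).1 h).1
  rw [det_ng Q hodd] at h1
  exact one_ne_neg_one h2 h1

/-- `Ω` has index two in `Ω ∪ -Ω` -/
theorem index_sub (h2 : (2 : F) ≠ 0) (Q : QuadraticForm F (ι → F)) (hQ : (polarBilin Q).Nondegenerate)
    (hodd : Odd (Fintype.card ι)) (hn : 2 ≤ Fintype.card ι) :
    ((Cfsg.Omega F (⇑Q)).subgroupOf (omPM Q)).index = 2 := by
  have hng := ng_notMem h2 Q hQ hodd hn
  have hngK : ng Q ∈ omPM Q := Or.inr (by rw [ng_mul_ng]; exact one_mem _)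
  rw [Subgroup.index_eq_two_iff]
  refine ⟨⟨ng Q, hngK⟩, ?_⟩
  rintro ⟨b, hb⟩
  rw [Subgroup.mem_subgroupOf, Subgroup.mem_subgroupOf]
  show Xor (b * ng Q ∈ Cfsg.Omega F (⇑Q)) (b ∈ Cfsg.Omega F (⇑Q))
  by_cases hb1 : b ∈ Cfsg.Omega F (⇑Q)
  · right
    refine ⟨hb1, fun h => hng ?_⟩
    have h3 := mul_mem (inv_mem hb1) h
    rwa [inv_mul_cancel_left] at h3
  · left
    refine ⟨?_, hb1⟩
    rw [← ng_comm]
    exact hb.resolve_left hb1

theorem index_omPM (h2 : (2 : F) ≠ 0) (Q : QuadraticForm F (ι → F)) (hQ : (polarBilin Q).Nondegenerate)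
    (hodd : Odd (Fintype.card ι)) (hn : 2 ≤ Fintype.card ι) : (omPM Q).index = 2 := by
  have h1 := Subgroup.relIndex_mul_index (omega_le Q)
  have h3 : (Cfsg.Omega F (⇑Q)).relIndex (omPM Q) = 2 := index_sub h2 Q hQ hodd hn
  rw [h3, index_Omega h2 hn Q hQ] at h1
  omega

/-- **The class number of `Ω` in odd dimension.** -/
theorem four_card_eq (h2 : (2 : F) ≠ 0) (Q : QuadraticForm F (ι → F)) (hQ : (polarBilin Q).Nondegenerate)
    (hodd : Odd (Fintype.card ι)) (hn : 2 ≤ Fintype.card ι) :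
    4 * Nat.card (ConjClasses (Cfsg.Omega F (⇑Q))) = Nat.card (ConjClasses (isometryGroup F (⇑Q))) +
      3 * Nat.card {c : ConjClasses (isometryGroup F (⇑Q)) //
        ∀ x, ConjClasses.mk x = c → Subgroup.centralizer {x} ≤ omPM Q} := by
  classical
  have hfin : Finite (isometryGroup F (⇑Q)) := inferInstance
  have h1 := two_card_eq (omPM Q) (index_omPM h2 Q hQ hodd hn)
  have h3 := two_card_eq ((Cfsg.Omega F (⇑Q)).subgroupOf (omPM Q)) (index_sub h2 Q hQ hodd hn)
  have hng := ng_notMem h2 Q hQ hodd hn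
  have hngK : ng Q ∈ omPM Q := Or.inr (by rw [ng_mul_ng]; exact one_mem _)
  have hempty : IsEmpty {c : ConjClasses (omPM Q) // ∀ x, ConjClasses.mk x = c →
      Subgroup.centralizer {x} ≤ (Cfsg.Omega F (⇑Q)).subgroupOf (omPM Q)} := by
    constructor
    rintro ⟨c, hc⟩
    obtain ⟨x, rfl⟩ := ConjClasses.mk_surjective c
    have h4 := hc x rfl
    have h5 : (⟨ng Q, hngK⟩ : omPM Q) ∈ Subgroup.centralizer {x} := by
      rw [Subgroup.mem_centralizer_singleton_iff]
      apply Subtype.ext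
      exact ng_comm Q x.1
    have h6 := h4 h5
    rw [Subgroup.mem_subgroupOf] at h6
    exact hng h6
  rw [@Nat.card_of_isEmpty _ hempty, mul_zero, add_zero] at h3
  have e : ((Cfsg.Omega F (⇑Q)).subgroupOf (omPM Q)) ≃* Cfsg.Omega F (⇑Q) :=
    Subgroup.subgroupOfEquivOfLe (omega_le Q)
  have h7 : Nat.card (ConjClasses ((Cfsg.Omega F (⇑Q)).subgroupOf (omPM Q))) =
      Nat.card (ConjClasses (Cfsg.Omega F (⇑Q))) := by
    refine Nat.card_congr
      { toFun := ConjClasses.map e.toMonoidHom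
        invFun := ConjClasses.map e.symm.toMonoidHom
        left_inv := ?_
        right_inv := ?_ }
    · intro c
      obtain ⟨x, rfl⟩ := ConjClasses.mk_surjective c
      show ConjClasses.mk (e.symm (e x)) = _
      rw [e.symm_apply_apply]
    · intro c
      obtain ⟨x, rfl⟩ := ConjClasses.mk_surjective c
      show ConjClasses.mk (e (e.symm x)) = _
      rw [e.apply_symm_apply]
  rw [h7] at h3
  omega

/-- the elements commuting with a product of two reflections outside `Ω ∪ -Ω` -/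
def Splits (Q : QuadraticForm F (ι → F)) (x : isometryGroup F (⇑Q)) : Prop :=
  ∃ v w : ι → F, Q v ≠ 0 ∧ Q w ≠ 0 ∧ ¬ IsSquare (Q v * Q w) ∧
    ((((x : GL ι F)) : Matrix ι ι F) *ᵥ v = v ∨ (((x : GL ι F)) : Matrix ι ι F) *ᵥ v = -v) ∧
    ((((x : GL ι F)) : Matrix ι ι F) *ᵥ w = w ∨ (((x : GL ι F)) : Matrix ι ι F) *ᵥ w = -w)

omit [Finite F] in
theorem refl_comm {Q : QuadraticForm F (ι → F)} (x : isometryGroup F (⇑Q)) {v : ι → F} (hv : Q v ≠ 0)
    (h : (((x : GL ι F)) : Matrix ι ι F) *ᵥ v = v ∨ (((x : GL ι F)) : Matrix ι ι F) *ᵥ v = -v) :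
    x * reflIso Q v hv = reflIso Q v hv * x := by
  have h1 : Q ((((x : GL ι F)) : Matrix ι ι F) *ᵥ v) ≠ 0 := by
    rw [(mem_isometryGroup_iff _ _).1 x.2]
    exact hv
  have h3 := conj_reflIso Q v hv x h1
  have h4 : reflIso Q ((((x : GL ι F)) : Matrix ι ι F) *ᵥ v) h1 = reflIso Q v hv := by
    rcases h with h | h
    · exact reflIso_congr Q h1 hv h
    · have h5 : Q ((-1 : F) • v) ≠ 0 := by rwa [neg_one_smul, QuadraticMap.map_neg]
      rw [reflIso_congr Q h1 h5 (by rw [h, neg_one_smul]), reflIso_smul Q hv h5]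
  rw [h4] at h3
  exact mul_inv_eq_iff_eq_mul.1 h3

theorem Splits.not_le {Q : QuadraticForm F (ι → F)} {x : isometryGroup F (⇑Q)} (hx : Splits Q x) (h2 : (2 : F) ≠ 0)
    (hQ : (polarBilin Q).Nondegenerate) (hodd : Odd (Fintype.card ι)) (hn : 2 ≤ Fintype.card ι) :
    ¬ Subgroup.centralizer {x} ≤ omPM Q := by
  classical
  obtain ⟨v, w, hv, hw, hvw, hxv, hxw⟩ := hx
  intro hle
  have h1 : reflIso Q v hv * reflIso Q w hw ∈ Subgroup.centralizer {x} := by
    rw [Subgroup.mem_centralizer_singleton_iff, mul_assoc, ← refl_comm x hw hxw, ← mul_assoc, ← refl_comm x hv hxv,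
      mul_assoc]
  have hdet : (((reflIso Q v hv * reflIso Q w hw : isometryGroup F (⇑Q)) : GL ι F) : Matrix ι ι F).det = 1 := by
    rw [det_mul', det_reflIso, det_reflIso]
    ring
  rcases hle h1 with h3 | h3
  · have h4 := ((mem_Omega_iff h2 Q hQ hn one_ne_zero _).1 h3).2
    rw [map_mul, spinorSign_reflIso h2 Q one_ne_zero v hv, spinorSign_reflIso h2 Q one_ne_zero w hw, one_mul,
      one_mul] at h4
    by_cases hs : IsSquare (Q v)
    · by_cases hs' : IsSquare (Q w)
      · exact hvw (hs.mul hs')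
      · rw [if_pos hs, if_neg hs', mul_one] at h4
        exact absurd h4 (by decide)
    · by_cases hs' : IsSquare (Q w)
      · rw [if_neg hs, if_pos hs', one_mul] at h4
        exact absurd h4 (by decide)
      · exact hvw (Cfsg.Agent.ClassicalGeometry.Universal.isSquare_mul_of_not h2 hs hs')
  · have h4 := ((mem_Omega_iff h2 Q hQ hn one_ne_zero _).1 h3).1
    rw [det_mul', hdet, det_ng Q hodd, mul_one] at h4
    exact one_ne_neg_one h2 h4

/-- **Upper bound for the class number of `Ω` in odd dimension.** -/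
theorem four_card_le (h2 : (2 : F) ≠ 0) (Q : QuadraticForm F (ι → F)) (hQ : (polarBilin Q).Nondegenerate)
    (hodd : Odd (Fintype.card ι)) (hn : 2 ≤ Fintype.card ι) :
    4 * Nat.card (ConjClasses (Cfsg.Omega F (⇑Q))) ≤ Nat.card (ConjClasses (isometryGroup F (⇑Q))) +
      3 * Nat.card {c : ConjClasses (isometryGroup F (⇑Q)) // ∀ x, ConjClasses.mk x = c → ¬ Splits Q x} := by
  rw [four_card_eq h2 Q hQ hodd hn]
  apply Nat.add_le_add_left
  apply Nat.mul_le_mul_left
  have hfin : Finite (isometryGroup F (⇑Q)) := inferInstance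
  refine Nat.card_le_card_of_injective
    (fun c => (⟨c.1, fun x hx hs => hs.not_le h2 hQ hodd hn (c.2 x hx)⟩ :
      {c : ConjClasses (isometryGroup F (⇑Q)) // ∀ x, ConjClasses.mk x = c → ¬ Splits Q x})) ?_
  intro c d hcd
  exact Subtype.ext (congrArg (fun z => z.1) hcd)

open Cfsg.Agent.ClassicalGeometry.Universal in
/-- two orthogonal nonsingular vectors in the same eigenspace for `± 1` ⇒ split -/
theorem splits_of_pair (h2 : (2 : F) ≠ 0) {Q : QuadraticForm F (ι → F)} {x : isometryGroup F (⇑Q)} {v w : ι → F}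
    (hv : Q v ≠ 0) (hw : Q w ≠ 0) (hvw : polar Q v w = 0) {e : F} (he : e = 1 ∨ e = -1)
    (hxv : (((x : GL ι F)) : Matrix ι ι F) *ᵥ v = e • v) (hxw : (((x : GL ι F)) : Matrix ι ι F) *ᵥ w = e • w) :
    Splits Q x := by
  obtain ⟨a, ha⟩ := FiniteField.exists_nonsquare (ringChar_ne_two h2)
  obtain ⟨α, β, h⟩ := exists_sq_add_sq h2 hv hw (Q v * a)
  have ha0 : a ≠ 0 := by
    rintro rfl
    exact ha IsSquare.zero
  have hQ : Q (α • v + β • w) = Q v * a := by
    rw [QuadraticMap.map_add Q, QuadraticMap.map_smul, QuadraticMap.map_smul, QuadraticMap.polar_smul_left,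
      QuadraticMap.polar_smul_right, hvw, smul_zero, smul_zero, add_zero, ← h]
    simp only [smul_eq_mul]
    ring
  have key : ∀ u : ι → F, (((x : GL ι F)) : Matrix ι ι F) *ᵥ u = e • u →
      (((x : GL ι F)) : Matrix ι ι F) *ᵥ u = u ∨ (((x : GL ι F)) : Matrix ι ι F) *ᵥ u = -u := by
    intro u hu
    rcases he with rfl | rfl
    · left
      rw [hu, one_smul]
    · right
      rw [hu, neg_one_smul]
  refine ⟨v, α • v + β • w, hv, by rw [hQ]; exact mul_ne_zero hv ha0, ?_, key v hxv, key _ ?_⟩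
  · rw [hQ, ← mul_assoc]
    rintro ⟨r, hr⟩
    apply ha
    refine ⟨r / Q v, ?_⟩
    field_simp
    rw [pow_two, pow_two, ← hr]
    ring
  · rw [mulVec_add, mulVec_smul, mulVec_smul, hxv, hxw, smul_add, smul_comm α e, smul_comm β e]

end Cfsg.Agent.H171.OmegaSplit
end

-- part: H170/OmegaUpper
section
/-!
# Upper bound for the class number of `Ω(2n+1,q)`, `q` odd
-/

set_option autoImplicit false

namespace Cfsg.Agent.H170.OmegaUpper

open Module Matrix QuadraticMap Cfsg.Agent.H169 Cfsg.Agent.H169.OddGlue Cfsg.Agent.H169.OddCount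
  Cfsg.Agent.H170.OddUpper Cfsg.Agent.LieClassical.QuadForms Cfsg.Agent.H171.OmegaSplit

variable {F : Type*} [Field F]

theorem oddForm_nd (h2 : (2 : F) ≠ 0) (n : ℕ) : (polarBilin (oddForm n F)).Nondegenerate := by
  have hs : ∀ u, (∀ v, polar (oddForm n F) u v = 0) → u = 0 := by
    intro u hu
    refine oddForm_nondeg n u ?_ hu
    have h1 := hu u
    rw [polar_self] at h1
    rw [nsmul_eq_mul] at h1
    push_cast at h1
    exact (mul_eq_zero.1 h1).resolve_left h2
  exact ⟨hs, fun u hu => hs u fun v => by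
    rw [polar_comm]
    exact hu v⟩

/-- **`8 k(Ω) ≤ A + 3 B`.** -/
theorem eight_card_le [Fintype F] (h2 : (2 : F) ≠ 0) (n : ℕ) (hn : 1 ≤ n) :
    8 * Nat.card (ConjClasses (Cfsg.Omega F (Cfsg.quadFormOdd n F))) ≤
      Nat.card {D : ODat F // D.Ok (2 * n + 1)} +
      3 * Nat.card {D : ODat F // D.Ok (2 * n + 1) ∧ D.a true 1 ≤ 1 ∧ D.a false 1 ≤ 1} := by
  classical
  have hfin : Finite {D : ODat F // D.Ok (2 * n + 1)} := H173.NumOdd.finite_odat h2 _
  have hι : Fintype.card (Unit ⊕ (Fin n ⊕ Fin n)) = 2 * n + 1 := by simp; omega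
  have hodd : Odd (2 * n + 1) := odd_two_mul_add_one n
  have hform : ∀ v, 2 * oddForm n F v = v ⬝ᵥ (gramOdd n F *ᵥ v) := fun v => by
    rw [coe_oddForm]
    exact gramOdd_form n v
  have hpol : ∀ u v, bf (gramOdd n F) u v = polar (oddForm n F) u v := by
    intro u v
    apply mul_left_cancel₀ h2
    have e1 := hform (u + v)
    have e2 := hform u
    have e3 := hform v
    rw [← bf_apply] at e1 e2 e3
    rw [map_add (bf (gramOdd n F)), LinearMap.add_apply, map_add (bf (gramOdd n F) u), map_add (bf (gramOdd n F) v),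
      bf_symm (gramOdd_symm n) v u] at e1
    rw [polar]
    linear_combination e2 + e3 - e1
  have h1 := four_card_le h2 (oddForm n F) (oddForm_nd h2 n) (by rw [hι]; exact hodd) (by rw [hι]; omega)
  have h3 := two_card_odd_le h2 hodd hι (gramOdd n F) (gramOdd_symm n) (gramOdd_det h2 n) (oddForm n F) hform
    (fun _ => True) Set.univ (fun c _ => by
      obtain ⟨A, hA⟩ := ConjClasses.exists_rep c
      exact ⟨A, hA, fun _ _ => trivial⟩)
  have h4 := two_card_odd_le h2 hodd hι (gramOdd n F) (gramOdd_symm n) (gramOdd_det h2 n) (oddForm n F) hform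
    (fun a => a true 1 ≤ 1 ∧ a false 1 ≤ 1)
    {c | ∀ x, ConjClasses.mk x = c → ¬ Splits (oddForm n F) x} (fun c hc => by
      obtain ⟨A, hA⟩ := ConjClasses.exists_rep c
      refine ⟨A, hA, fun D hD => ?_⟩
      by_contra hK
      apply hc A hA
      obtain ⟨ε, u, v, hε, hu, hv, huv, huu, hvv⟩ := HasO.exists_pair h2 (bf_symm (gramOdd_symm n))
        (bf_nondeg (gramOdd_det h2 n)) (bf_iso h2 (gramOdd_symm n) hform A) hD (by
          by_contra hc2
          push Not at hc2
          exact hK ⟨by omega, by omega⟩)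
      rw [hpol] at huv
      rw [bf_apply, ← hform] at huu hvv
      exact splits_of_pair h2 (right_ne_zero_of_mul huu) (right_ne_zero_of_mul hvv) huv hε hu hv)
  have e3 : Nat.card (Set.univ : Set (ConjClasses (Cfsg.isometryGroup F (oddForm n F)))) =
      Nat.card (ConjClasses (Cfsg.isometryGroup F (oddForm n F))) := Nat.card_congr (Equiv.Set.univ _)
  have e4 : Nat.card {D : ODat F // D.Ok (2 * n + 1) ∧ True} = Nat.card {D : ODat F // D.Ok (2 * n + 1)} :=
    Nat.card_congr (Equiv.subtypeEquivRight fun D => by simp)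
  rw [e3, e4] at h3
  rw [← coe_oddForm]
  have h6 : Nat.card {c : ConjClasses (Cfsg.isometryGroup F (oddForm n F)) //
        ∀ x, ConjClasses.mk x = c → ¬ Splits (oddForm n F) x} =
      Nat.card ({c | ∀ x, ConjClasses.mk x = c → ¬ Splits (oddForm n F) x} :
        Set (ConjClasses (Cfsg.isometryGroup F (oddForm n F)))) := rfl
  omega

end Cfsg.Agent.H170.OmegaUpper
end

-- part: H170/RestrPal
section
/-!
# Palindromic polynomials over the field with three elements without roots `± 1`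
-/

set_option autoImplicit false

namespace Cfsg.Agent.H170.Restr

open Polynomial Cfsg.Agent.H171

variable {F : Type*} [Field F]

/-- palindromic of degree `2 d` without roots `± 1` -/
def PP (F : Type*) [Field F] (d : ℕ) : Set F[X] :=
  {f | Pal f ∧ f.eval 1 ≠ 0 ∧ f.eval (-1) ≠ 0 ∧ f.natDegree = 2 * d}

/-- the bound -/
def pd : ℕ → ℕ
  | 0 => 1
  | 1 => 1
  | d + 2 => 4 * 3 ^ d

theorem coeff_symm {f : F[X]} (hf : Pal f) {d : ℕ} (hd : f.natDegree = 2 * d) {i : ℕ} (hi : i ≤ 2 * d) :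
    f.coeff (2 * d - i) = f.coeff i := by
  have := hf.coeff (i := i) (by omega)
  rwa [hd] at this

/-- a palindromic polynomial is determined by `c_1, …, c_{d-2}` and the values at `± 1` -/
theorem eq_of_data (h2 : (2 : F) ≠ 0) {f g : F[X]} {d : ℕ} (hf : Pal f) (hg : Pal g) (hfd : f.natDegree = 2 * (d + 2))
    (hgd : g.natDegree = 2 * (d + 2)) (hc : ∀ i < d, f.coeff (i + 1) = g.coeff (i + 1)) (h1 : f.eval 1 = g.eval 1)
    (hm1 : f.eval (-1) = g.eval (-1)) : f = g := by
  have hlow : ∀ i ≤ d, f.coeff i = g.coeff i := by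
    intro i hi
    rcases Nat.eq_zero_or_pos i with rfl | h0
    · rw [hf.coeff_zero, hg.coeff_zero]
    · obtain ⟨j, rfl⟩ : ∃ j, i = j + 1 := ⟨i - 1, by omega⟩
      exact hc j (by omega)
  have hh : f - g = C (f.coeff (d + 1) - g.coeff (d + 1)) * (X ^ (d + 1) + X ^ (d + 3)) +
      C (f.coeff (d + 2) - g.coeff (d + 2)) * X ^ (d + 2) := by
    ext i
    rw [coeff_sub, coeff_add, coeff_C_mul, coeff_C_mul, coeff_add, coeff_X_pow, coeff_X_pow, coeff_X_pow]
    rcases lt_or_ge (2 * (d + 2)) i with hi | hi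
    · rw [coeff_eq_zero_of_natDegree_lt (by omega), coeff_eq_zero_of_natDegree_lt (by omega), if_neg (by omega),
        if_neg (by omega), if_neg (by omega)]
      ring
    · by_cases e1 : i = d + 1
      · rw [if_pos e1, if_neg (by omega), if_neg (by omega), e1]
        ring
      · by_cases e2 : i = d + 2
        · rw [if_neg (by omega), if_neg (by omega), if_pos e2, e2]
          ring
        · by_cases e3 : i = d + 3
          · rw [if_neg (by omega), if_pos e3, if_neg (by omega), e3]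
            have k1 := coeff_symm hf hfd (i := d + 1) (by omega)
            have k2 := coeff_symm hg hgd (i := d + 1) (by omega)
            rw [show 2 * (d + 2) - (d + 1) = d + 3 by omega] at k1 k2
            rw [k1, k2]
            ring
          · rw [if_neg e1, if_neg e2, if_neg e3]
            rcases le_or_gt i d with hid | hid
            · rw [hlow i hid]
              ring
            · have k1 := coeff_symm hf hfd (i := 2 * (d + 2) - i) (by omega)
              have k2 := coeff_symm hg hgd (i := 2 * (d + 2) - i) (by omega)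
              rw [show 2 * (d + 2) - (2 * (d + 2) - i) = i by omega] at k1 k2
              rw [k1, k2, hlow _ (by omega)]
              ring
  set a := f.coeff (d + 1) - g.coeff (d + 1)
  set b := f.coeff (d + 2) - g.coeff (d + 2)
  have e1 : a * 2 + b = 0 := by
    have := congrArg (eval 1) hh
    rw [eval_sub, h1, sub_self] at this
    simp only [eval_add, eval_mul, eval_C, eval_pow, eval_X, one_pow, mul_one] at this
    linear_combination -this
  have e2 : a * 2 - b = 0 := by
    have := congrArg (eval (-1)) hh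
    rw [eval_sub, hm1, sub_self] at this
    simp only [eval_add, eval_mul, eval_C, eval_pow, eval_X] at this
    have e3 : ((-1 : F)) ^ (d + 1) * (a * 2 - b) = 0 := by
      rw [show ((-1 : F)) ^ (d + 3) = (-1) ^ (d + 1) by ring, show ((-1 : F)) ^ (d + 2) = -(-1) ^ (d + 1) by ring] at this
      linear_combination -this
    exact (mul_eq_zero.1 e3).resolve_left (pow_ne_zero _ (by simp))
  have hb : b = 0 := by
    have : b * 2 = 0 := by linear_combination e1 - e2
    exact (mul_eq_zero.1 this).resolve_right h2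
  have ha : a = 0 := by
    have : a * 2 = 0 := by linear_combination e1 - hb
    exact (mul_eq_zero.1 this).resolve_right h2
  rw [ha, hb, C_0, zero_mul, zero_mul, add_zero] at hh
  exact sub_eq_zero.1 hh

theorem PP_finite [Finite F] (d : ℕ) : (PP F d).Finite := by
  have h : {f : F[X] | Pal f ∧ f.natDegree = 2 * d}.Finite := finite_pal F d
  exact h.subset fun f hf => ⟨hf.1, hf.2.2.2⟩

/-- **The count, `q = 3`.** -/
theorem PP_ncard [Finite F] (h : Nat.card F = 3) (d : ℕ) : (PP F d).ncard ≤ pd d := by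
  classical
  have hfin := Fintype.ofFinite F
  have h3 : Fintype.card F = 3 := by rwa [Nat.card_eq_fintype_card] at h
  have h30 : (3 : F) = 0 := by
    have := Nat.cast_card_eq_zero F
    rw [h3] at this
    exact_mod_cast this
  have h2 : (2 : F) ≠ 0 := by
    intro h0
    apply one_ne_zero (α := F)
    linear_combination h30 - h0
  have hunits : Nat.card Fˣ = 2 := by
    rw [Nat.card_eq_fintype_card, Fintype.card_units, h3]
  rcases d with _ | _ | d
  · show _ ≤ 1
    rw [Set.ncard_le_one (PP_finite 0)]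
    intro f hf g hg
    rw [hf.1.1.natDegree_eq_zero.1 (by simpa using hf.2.2.2), hg.1.1.natDegree_eq_zero.1 (by simpa using hg.2.2.2)]
  · show _ ≤ 1
    rw [Set.ncard_le_one (PP_finite 1)]
    have key : ∀ f ∈ PP F 1, f = X ^ 2 + 1 := by
      rintro f ⟨hf, h1, hm1, hd⟩
      have hc0 := hf.coeff_zero
      have hc2 : f.coeff 2 = 1 := by
        have := hf.1.coeff_natDegree
        rwa [hd] at this
      have hf2 : f = X ^ 2 + C (f.coeff 1) * X + 1 := by
        ext i
        rcases i with _ | _ | _ | i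
        · simp [hc0]
        · simp [coeff_one]
        · simp [hc2, coeff_one]
        · rw [coeff_eq_zero_of_natDegree_lt (by omega)]
          simp [coeff_one]
      rw [hf2] at h1 hm1
      simp only [eval_add, eval_mul, eval_pow, eval_X, eval_C, eval_one] at h1 hm1
      have hc : f.coeff 1 = 0 := by
        have hall : ∀ c : F, c = 0 ∨ c = 1 ∨ c = -1 := by
          have hcard : ({0, 1, -1} : Finset F).card = 3 := by
            have e1 : (0 : F) ≠ 1 := zero_ne_one
            have e2 : (0 : F) ≠ -1 := fun h => e1 (by linear_combination -h)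
            have e3 : (1 : F) ≠ -1 := fun h => h2 (by linear_combination h)
            rw [Finset.card_insert_of_notMem (by simp), Finset.card_insert_of_notMem (by simpa using e3),
              Finset.card_singleton]
          have huniv : ({0, 1, -1} : Finset F) = Finset.univ :=
            Finset.eq_univ_of_card _ (by rw [hcard, h3])
          intro c
          have : c ∈ ({0, 1, -1} : Finset F) := by rw [huniv]; exact Finset.mem_univ _
          simpa using this
        rcases hall (f.coeff 1) with hc | hc | hc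
        · exact hc
        · exfalso
          apply h1
          rw [hc]
          linear_combination h30
        · exfalso
          apply hm1
          rw [hc]
          linear_combination h30
      rw [hf2, hc]
      simp
    intro f hf g hg
    rw [key f hf, key g hg]
  · show (PP F (d + 2)).ncard ≤ 4 * 3 ^ d
    have hinj := Nat.card_le_card_of_injective
      (fun f : PP F (d + 2) => (((fun i : Fin d => (f : F[X]).coeff (i + 1)), Units.mk0 _ f.2.2.1,
        Units.mk0 _ f.2.2.2.1) : (Fin d → F) × Fˣ × Fˣ)) (by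
        rintro ⟨f, hf⟩ ⟨g, hg⟩ hfg
        simp only [Prod.mk.injEq] at hfg
        apply Subtype.ext
        refine eq_of_data h2 hf.1 hg.1 hf.2.2.2 hg.2.2.2 (fun i hi => congrFun hfg.1 ⟨i, hi⟩) ?_ ?_
        · exact congrArg Units.val hfg.2.1
        · exact congrArg Units.val hfg.2.2)
    rw [Nat.card_coe_set_eq, Nat.card_prod, Nat.card_prod, hunits, Nat.card_fun, h, Nat.card_fin] at hinj
    omega

end Cfsg.Agent.H170.Restr
end

-- part: H170/RestrStep
section
/-!
# Data with at most one Jordan block of size one for each of the eigenvalues `± 1`: recursion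

`T F J N` : data on the levels `< J` of dimension `N`; `base` : the level one; `step` : the recursion.
-/

set_option autoImplicit false

namespace Cfsg.Agent.H170.Restr

open Polynomial Cfsg.Agent.H171 Cfsg.Agent.H169 Cfsg.Agent.H173.Num Cfsg.Agent.H173.NumOdd

variable {F : Type*} [Field F]

/-- restricted data -/
def T (F : Type*) [Field F] (J N : ℕ) : Set (ODat F) := {D | Pdo J N D ∧ D.a true 1 ≤ 1 ∧ D.a false 1 ≤ 1}

theorem reso_a_one {J : ℕ} (hJ : 2 ≤ J) (D : ODat F) (e : Bool) : (reso J D).a e 1 = D.a e 1 := by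
  have h : (1 : ℕ) ≠ J := by omega
  simp [reso, updo, h]

/-- total shift -/
def tau (x : Fin 4 × Fin 4) : ℕ := (opt x.1).1 + (opt x.2).1

theorem step_sub_odd {J : ℕ} (hJ2 : 2 ≤ J) (N : ℕ) : T F (J + 1) N ⊆ ⋃ x : Fin 4 × Fin 4,
    StepG (Triples F) (T F J) (reco J x.1 x.2) (2 * J) (J * tau x) N := by
  rintro D ⟨hD, ht, hf⟩
  obtain ⟨m, hm, hsz⟩ := hD.reso
  obtain ⟨i, α, hi, hi'⟩ := exists_opt (D.a true J) (D.s true J) fun h => (hD.s_imp _ _ h).2
  obtain ⟨k, β, hk, hk'⟩ := exists_opt (D.a false J) (D.s false J) fun h => (hD.s_imp _ _ h).2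
  obtain ⟨r, hr⟩ := hD.even J
  simp only [Set.mem_iUnion]
  refine ⟨(i, k), r + α + β, m, ?_, reso J D, ⟨hm, ?_, ?_⟩, (D.f J, α, β),
    ⟨hD.pal J, hD.one J, hD.neg_one J, ?_⟩, ?_⟩
  · rw [hi, hk, hr] at hsz
    rw [← hsz, tau]
    dsimp only
    ring
  · rw [reso_a_one hJ2]
    exact ht
  · rw [reso_a_one hJ2]
    exact hf
  · dsimp only
    omega
  · have := eq_updo_reso J D
    rw [hi, hk, hi', hk'] at this
    exact this

theorem step_sub_even {J : ℕ} (hJ2 : 2 ≤ J) (hJ : Even J) (N : ℕ) : T F (J + 1) N ⊆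
    StepG (Triples F) (T F J) (reco J 0 0) (2 * J) 0 N := by
  rintro D ⟨hD, ht, hf⟩
  obtain ⟨m, hm, hsz⟩ := hD.reso
  have hs : ∀ e, D.s e J = false := fun e => by
    by_contra h
    have := (hD.s_imp e J (by simpa using h)).1
    rw [← Nat.not_even_iff_odd] at this
    exact this hJ
  obtain ⟨α, hα⟩ := hD.a_even true J hJ
  obtain ⟨β, hβ⟩ := hD.a_even false J hJ
  obtain ⟨r, hr⟩ := hD.even J
  refine ⟨r + α + β, m, ?_, reso J D, ⟨hm, ?_, ?_⟩, (D.f J, α, β),
    ⟨hD.pal J, hD.one J, hD.neg_one J, ?_⟩, ?_⟩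
  · rw [hα, hβ, hr] at hsz
    rw [← hsz]
    ring
  · rw [reso_a_one hJ2]
    exact ht
  · rw [reso_a_one hJ2]
    exact hf
  · dsimp only
    omega
  · have := eq_updo_reso J D
    rw [hα, hβ, hs, hs] at this
    unfold reco opt
    dsimp only
    simpa [two_mul] using this

theorem sum_opt (f : ℕ → ℕ) : ∑ x : Fin 4 × Fin 4, f (tau x) = f 0 + 4 * f 1 + 6 * f 2 + 4 * f 3 + f 4 := by
  rw [Fintype.sum_prod_type]
  simp only [Fin.sum_univ_four, tau, opt, Matrix.cons_val_zero, Matrix.cons_val_one, Matrix.cons_val]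
  ring

/-- one term -/
def term (t : ℕ → ℕ) (J τ N : ℕ) : ℕ := if J * τ ≤ N then t (N - J * τ) else 0

/-- the contribution of the signed blocks of level `J` -/
def G (J : ℕ) (t : ℕ → ℕ) (N : ℕ) : ℕ :=
  if J % 2 = 1 then term t J 0 N + 4 * term t J 1 N + 6 * term t J 2 N + 4 * term t J 3 N + term t J 4 N else t N

section Finite

variable [Finite F]

theorem T_finite (h2 : (2 : F) ≠ 0) (J N : ℕ) : (T F J N).Finite := by
  have h1 : {D : ODat F | D.Ok N}.Finite := finite_odat h2 N
  apply Set.Finite.subset (s := {D : ODat F | Pdo J N D})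
  · by_cases hJ : J ≤ N
    · refine h1.subset fun D (hD : Pdo J N D) => ?_
      refine ⟨fun j => (hD.pal j).1, fun j => (hD.pal j).2, hD.one, hD.neg_one, hD.even, hD.zero,
        fun j hj => hD.big j (by omega), hD.a_even, hD.s_imp, ?_⟩
      rw [← Finset.sum_subset (Finset.range_mono (show J ≤ N + 1 by omega))]
      · exact hD.size
      · intro j _ hj
        have := hD.big j (by simpa using hj)
        rw [this.1, this.2, this.2]
        simp
    · refine h1.subset fun D (hD : Pdo J N D) => ?_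
      have key : ∀ j, N < j → D.f j = 1 ∧ ∀ e, D.a e j = 0 := by
        intro j hj
        by_cases hjJ : J ≤ j
        · exact hD.big j hjJ
        · have h3 : j * ((D.f j).natDegree + D.a true j + D.a false j) ≤ N := by
            rw [← hD.size]
            exact Finset.single_le_sum (f := fun j => j * ((D.f j).natDegree + D.a true j + D.a false j))
              (fun _ _ => Nat.zero_le _) (Finset.mem_range.2 (by omega))
          have h4 : (D.f j).natDegree + D.a true j + D.a false j = 0 := by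
            by_contra h5
            have : j * 1 ≤ j * ((D.f j).natDegree + D.a true j + D.a false j) := Nat.mul_le_mul_left _ (by omega)
            omega
          refine ⟨(hD.pal j).1.natDegree_eq_zero.1 (by omega), fun e => ?_⟩
          cases e <;> omega
      refine ⟨fun j => (hD.pal j).1, fun j => (hD.pal j).2, hD.one, hD.neg_one, hD.even, hD.zero, key, hD.a_even,
        hD.s_imp, ?_⟩
      have h3 := hD.size
      rw [← Finset.sum_subset (Finset.range_mono (show N + 1 ≤ J by omega))] at h3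
      · exact h3
      · intro j _ hj
        have := key j (by simpa using hj)
        rw [this.1, this.2, this.2]
        simp
  · exact fun D hD => hD.1

/-- **the recursion** -/
theorem step (h2 : (2 : F) ≠ 0) (h3 : Nat.card F = 3) {J : ℕ} (hJ : 2 ≤ J) (N : ℕ) :
    (T F (J + 1) N).ncard ≤ ∑ d ∈ Finset.range (N + 1),
      if 2 * J * d ≤ N then 3 ^ d * G J (fun m => (T F J m).ncard) (N - 2 * J * d) else 0 := by
  classical
  have hP := triples (F := F) h2
  rw [h3] at hP
  have hfin : ∀ m, (T F J m).Finite := fun m => T_finite h2 J m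
  rcases Nat.even_or_odd J with he | ho
  · have hsub := step_sub_even (F := F) hJ he N
    refine (Set.ncard_le_ncard hsub (stepG_finite (fun d => (hP d).1) hfin _ _ _ _ (by omega))).trans ?_
    refine (stepG_ncard hP hfin (reco J 0 0) (2 * J) 0 N (by omega)).trans (Finset.sum_le_sum fun d _ => ?_)
    rw [add_zero]
    split_ifs with h
    · rw [G, if_neg (by rw [Nat.even_iff] at he; omega), mul_comm]
    · exact le_rfl
  · have hsub := step_sub_odd (F := F) hJ N
    have hf2 : ∀ x : Fin 4 × Fin 4, (StepG (Triples F) (T F J) (reco J x.1 x.2) (2 * J) (J * tau x) N).Finite :=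
      fun x => stepG_finite (fun d => (hP d).1) hfin _ _ _ _ (by omega)
    refine (Set.ncard_le_ncard hsub (Set.finite_iUnion hf2)).trans ?_
    have e1 : (⋃ x : Fin 4 × Fin 4, StepG (Triples F) (T F J) (reco J x.1 x.2) (2 * J) (J * tau x) N) =
        ⋃ x ∈ (Finset.univ : Finset (Fin 4 × Fin 4)), StepG (Triples F) (T F J) (reco J x.1 x.2) (2 * J) (J * tau x) N := by
      simp
    rw [e1]
    refine (Finset.set_ncard_biUnion_le _ _).trans ?_
    refine (Finset.sum_le_sum fun x _ => stepG_ncard hP hfin (reco J x.1 x.2) (2 * J) (J * tau x) N (by omega)).trans ?_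
    rw [Finset.sum_comm]
    refine Finset.sum_le_sum fun d _ => ?_
    by_cases h : 2 * J * d ≤ N
    · rw [if_pos h, G, if_pos (by rw [Nat.odd_iff] at ho; exact ho),
        ← sum_opt fun τ => term (fun m => (T F J m).ncard) J τ (N - 2 * J * d), Finset.mul_sum]
      refine Finset.sum_le_sum fun x _ => ?_
      rw [term]
      split_ifs with h4 h5 h5
      · rw [mul_comm, show N - (2 * J * d + J * tau x) = N - 2 * J * d - J * tau x by omega]
      · omega
      · omega
      · omega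
    · rw [if_neg h]
      refine le_of_eq (Finset.sum_eq_zero fun x _ => ?_)
      rw [if_neg (by omega)]

/-- options at level one -/
def opt1 : Fin 3 → ℕ × Bool := ![(0, false), (1, false), (1, true)]

theorem exists_opt1 (A : ℕ) (s : Bool) (hs : s = true → 0 < A) (hA : A ≤ 1) :
    ∃ i : Fin 3, A = (opt1 i).1 ∧ s = (opt1 i).2 := by
  interval_cases A
  · cases s
    · exact ⟨0, rfl, rfl⟩
    · exact absurd (hs rfl) (lt_irrefl _)
  · cases s
    · exact ⟨1, rfl, rfl⟩
    · exact ⟨2, rfl, rfl⟩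

/-- shift at level one -/
def tau1 (x : Fin 3 × Fin 3) : ℕ := (opt1 x.1).1 + (opt1 x.2).1

theorem sum_opt1 (f : ℕ → ℕ) : ∑ x : Fin 3 × Fin 3, f (tau1 x) = f 0 + 4 * f 1 + 4 * f 2 := by
  rw [Fintype.sum_prod_type]
  simp only [Fin.sum_univ_three, tau1, opt1, Matrix.cons_val_zero, Matrix.cons_val_one, Matrix.cons_val]
  ring

/-- the numbers at level one -/
def b1 (N : ℕ) : ℕ := if N % 2 = 0 then pd (N / 2) + (if 2 ≤ N then 4 * pd (N / 2 - 1) else 0) else 4 * pd (N / 2)

/-- **level one** -/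
theorem base (h3 : Nat.card F = 3) (N : ℕ) : (T F 2 N).ncard ≤ b1 N := by
  classical
  let S : Fin 3 × Fin 3 → Set (ODat F) := fun x =>
    {D | ∃ d, 2 * d + tau1 x = N ∧ ∃ f ∈ PP F d, D = updo 1 (O0 F) f (opt1 x.1).1 (opt1 x.2).1 (opt1 x.1).2 (opt1 x.2).2}
  have hsub : T F 2 N ⊆ ⋃ x ∈ (Finset.univ : Finset (Fin 3 × Fin 3)), S x := by
    rintro D ⟨hD, ht, hf⟩
    obtain ⟨m, hm, hsz⟩ := Pdo.reso (J := 1) hD
    obtain ⟨h4, rfl⟩ := pdo_one hm
    obtain ⟨i, hi, hi'⟩ := exists_opt1 (D.a true 1) (D.s true 1) (fun h => (hD.s_imp _ _ h).2) ht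
    obtain ⟨k, hk, hk'⟩ := exists_opt1 (D.a false 1) (D.s false 1) (fun h => (hD.s_imp _ _ h).2) hf
    obtain ⟨r, hr⟩ := hD.even 1
    simp only [Set.mem_iUnion]
    refine ⟨(i, k), Finset.mem_univ _, r, ?_, D.f 1, ⟨hD.pal 1, hD.one 1, hD.neg_one 1, by omega⟩, ?_⟩
    · rw [← hsz, hr, hi, hk, tau1]
      dsimp only
      ring
    · have := eq_updo_reso 1 D
      rw [hi, hk, hi', hk', h4] at this
      exact this
  have hS : ∀ x, (S x).Finite ∧ (S x).ncard ≤ if tau1 x ≤ N ∧ (N - tau1 x) % 2 = 0 then pd ((N - tau1 x) / 2) else 0 := by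
    intro x
    by_cases h : tau1 x ≤ N ∧ (N - tau1 x) % 2 = 0
    · have h5 : S x ⊆ (fun f => updo 1 (O0 F) f (opt1 x.1).1 (opt1 x.2).1 (opt1 x.1).2 (opt1 x.2).2) ''
          PP F ((N - tau1 x) / 2) := by
        rintro D ⟨d, hd, f, hf, rfl⟩
        refine ⟨f, ?_, rfl⟩
        rwa [show (N - tau1 x) / 2 = d by omega]
      have hfin := (PP_finite (F := F) ((N - tau1 x) / 2)).image
        (fun f => updo 1 (O0 F) f (opt1 x.1).1 (opt1 x.2).1 (opt1 x.1).2 (opt1 x.2).2)
      refine ⟨hfin.subset h5, ?_⟩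
      rw [if_pos h]
      exact (Set.ncard_le_ncard h5 hfin).trans ((Set.ncard_image_le (PP_finite _)).trans (PP_ncard h3 _))
    · have h5 : S x = ∅ := by
        rw [Set.eq_empty_iff_forall_notMem]
        rintro D ⟨d, hd, -⟩
        apply h
        omega
      rw [h5]
      exact ⟨Set.finite_empty, by rw [Set.ncard_empty]; exact Nat.zero_le _⟩
  have hfin : (⋃ x ∈ (Finset.univ : Finset (Fin 3 × Fin 3)), S x).Finite :=
    Set.Finite.biUnion (Finset.finite_toSet _) fun x _ => (hS x).1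
  refine (Set.ncard_le_ncard hsub hfin).trans ((Finset.set_ncard_biUnion_le _ _).trans ?_)
  refine (Finset.sum_le_sum fun x _ => (hS x).2).trans ?_
  rw [sum_opt1 fun τ => if τ ≤ N ∧ (N - τ) % 2 = 0 then pd ((N - τ) / 2) else 0]
  rcases Nat.even_or_odd N with ⟨r, hr⟩ | ⟨r, hr⟩
  · have a0 : (if 0 ≤ N ∧ (N - 0) % 2 = 0 then pd ((N - 0) / 2) else 0) = pd (N / 2) := by
      rw [if_pos ⟨Nat.zero_le _, by omega⟩, Nat.sub_zero]
    have a1 : (if 1 ≤ N ∧ (N - 1) % 2 = 0 then pd ((N - 1) / 2) else 0) = 0 := if_neg (by omega)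
    have a2 : (if 2 ≤ N ∧ (N - 2) % 2 = 0 then pd ((N - 2) / 2) else 0) = if 2 ≤ N then pd (N / 2 - 1) else 0 := by
      by_cases h : 2 ≤ N
      · rw [if_pos ⟨h, by omega⟩, if_pos h, show (N - 2) / 2 = N / 2 - 1 by omega]
      · rw [if_neg (by omega), if_neg h]
    have hb : b1 N = pd (N / 2) + (if 2 ≤ N then 4 * pd (N / 2 - 1) else 0) := if_pos (by omega)
    rw [a0, a1, a2, hb]
    by_cases h : 2 ≤ N
    · rw [if_pos h, if_pos h]
      omega
    · rw [if_neg h, if_neg h]
  · have a0 : (if 0 ≤ N ∧ (N - 0) % 2 = 0 then pd ((N - 0) / 2) else 0) = 0 := if_neg (by omega)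
    have a1 : (if 1 ≤ N ∧ (N - 1) % 2 = 0 then pd ((N - 1) / 2) else 0) = pd (N / 2) := by
      rw [if_pos ⟨by omega, by omega⟩, show (N - 1) / 2 = N / 2 by omega]
    have a2 : (if 2 ≤ N ∧ (N - 2) % 2 = 0 then pd ((N - 2) / 2) else 0) = 0 := if_neg (by omega)
    rw [a0, a1, a2, b1, if_neg (by omega)]
    omega

end Finite

end Cfsg.Agent.H170.Restr
end

-- part: H170/RestrNum
section
/-!
# Bounds from the recursion
-/

set_option autoImplicit false

namespace Cfsg.Agent.H170.Restr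

/-- real version of `term` -/
noncomputable def termR (t : ℕ → ℝ) (J τ N : ℕ) : ℝ := if J * τ ≤ N then t (N - J * τ) else 0

/-- real version of `G` -/
noncomputable def GR (J : ℕ) (t : ℕ → ℝ) (N : ℕ) : ℝ :=
  if J % 2 = 1 then termR t J 0 N + 4 * termR t J 1 N + 6 * termR t J 2 N + 4 * termR t J 3 N + termR t J 4 N else t N

theorem termR_mono {t : ℕ → ℕ} {s : ℕ → ℝ} {M : ℕ} (h : ∀ N < M, (t N : ℝ) ≤ s N) (J τ : ℕ) {N : ℕ} (hN : N < M) :
    ((term t J τ N : ℕ) : ℝ) ≤ termR s J τ N := by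
  rw [term, termR]
  split_ifs with h1
  · exact h _ (by omega)
  · simp

theorem GR_mono {t : ℕ → ℕ} {s : ℕ → ℝ} {M : ℕ} (h : ∀ N < M, (t N : ℝ) ≤ s N) (J : ℕ) {N : ℕ} (hN : N < M) :
    ((G J t N : ℕ) : ℝ) ≤ GR J s N := by
  rw [G, GR]
  split_ifs with h1
  · have e0 := termR_mono h J 0 hN
    have e1 := termR_mono h J 1 hN
    have e2 := termR_mono h J 2 hN
    have e3 := termR_mono h J 3 hN
    have e4 := termR_mono h J 4 hN
    push_cast
    linarith
  · exact h N hN

/-- the convolution -/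
def conv (J : ℕ) (g : ℕ → ℕ) (N : ℕ) : ℕ :=
  ∑ d ∈ Finset.range (N + 1), if 2 * J * d ≤ N then 3 ^ d * g (N - 2 * J * d) else 0

theorem conv_rec {J : ℕ} (hJ : 0 < J) (g : ℕ → ℕ) (N : ℕ) :
    conv J g N = g N + if 2 * J ≤ N then 3 * conv J g (N - 2 * J) else 0 := by
  rw [conv, Finset.sum_range_succ', add_comm]
  congr 1
  · simp
  · split_ifs with h
    · rw [conv, Finset.mul_sum]
      have hsub : Finset.range (N - 2 * J + 1) ⊆ Finset.range N := Finset.range_mono (by omega)
      rw [← Finset.sum_subset hsub]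
      · refine Finset.sum_congr rfl fun d _ => ?_
        have e : 2 * J * (d + 1) = 2 * J * d + 2 * J := by ring
        rw [e]
        by_cases h1 : 2 * J * d ≤ N - 2 * J
        · rw [if_pos (by omega), if_pos h1, pow_succ, show N - (2 * J * d + 2 * J) = N - 2 * J - 2 * J * d by omega]
          ring
        · rw [if_neg (by omega), if_neg h1, mul_zero]
      · intro d _ hd
        rw [Finset.mem_range] at hd
        rw [if_neg]
        have : 1 * (d + 1) ≤ 2 * J * (d + 1) := Nat.mul_le_mul_right _ (by omega)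
        have e : 2 * J * (d + 1) = 2 * J * d + 2 * J := by ring
        have h3 : 1 * d ≤ 2 * J * d := Nat.mul_le_mul_right _ (by omega)
        omega
    · refine Finset.sum_eq_zero fun d _ => ?_
      rw [if_neg]
      have : 2 * J * 1 ≤ 2 * J * (d + 1) := Nat.mul_le_mul_left _ (by omega)
      omega

/-- **the general bound** -/
theorem num_bound (t : ℕ → ℕ → ℕ) (H : ∀ J, 2 ≤ J → ∀ N, t (J + 1) N ≤ conv J (G J (t J)) N)
    (s : ℕ → ℕ → ℝ) (JM M : ℕ) (hb : ∀ N < M, (t 2 N : ℝ) ≤ s 2 N)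
    (S : ∀ J, 2 ≤ J → J < JM → ∀ N < M,
      GR J (s J) N + (if 2 * J ≤ N then 3 * s (J + 1) (N - 2 * J) else 0) ≤ s (J + 1) N) :
    ∀ J, 2 ≤ J → J ≤ JM → ∀ N < M, (t J N : ℝ) ≤ s J N := by
  intro J hJ
  induction J, hJ using Nat.le_induction with
  | base => exact fun _ => hb
  | succ J hJ ih =>
    intro hJM
    have ih' := ih (by omega)
    have key : ∀ N < M, (conv J (G J (t J)) N : ℝ) ≤ s (J + 1) N := by
      intro N
      induction N using Nat.strong_induction_on with
      | _ N ihN =>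
        intro hN
        refine le_trans ?_ (S J hJ (by omega) N hN)
        rw [conv_rec (by omega)]
        have h1 := GR_mono ih' J hN
        split_ifs with h2
        · have h3 := ihN (N - 2 * J) (by omega) (by omega)
          push_cast
          linarith
        · push_cast
          linarith
    intro N hN
    exact (Nat.cast_le.2 (H J hJ N)).trans (key N hN)

/-- the factor of level `J` -/
noncomputable def fac (ρ : ℝ) (J : ℕ) : ℝ := (if J % 2 = 1 then (1 + ρ ^ J) ^ 4 else 1) / (1 - 3 * (ρ ^ 2) ^ J)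

/-- the constants -/
noncomputable def phi (ρ c : ℝ) : ℕ → ℝ
  | 0 => c
  | k + 1 => phi ρ c k * fac ρ (k + 2)

theorem one_sub_pos {ρ : ℝ} (h0 : 0 < ρ) (h1 : 3 * (ρ ^ 2) ^ 2 < 1) {J : ℕ} (hJ : 2 ≤ J) : 0 < 1 - 3 * (ρ ^ 2) ^ J := by
  have h2 : ρ ^ 2 < 1 := by
    by_contra h
    push Not at h
    nlinarith
  have h3 : (ρ ^ 2) ^ J ≤ (ρ ^ 2) ^ 2 := pow_le_pow_of_le_one (by positivity) h2.le hJ
  linarith

theorem phi_nonneg {ρ c : ℝ} (h0 : 0 < ρ) (h1 : 3 * (ρ ^ 2) ^ 2 < 1) (hc : 0 ≤ c) (k : ℕ) : 0 ≤ phi ρ c k := by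
  induction k with
  | zero => exact hc
  | succ k ih =>
    refine mul_nonneg ih ?_
    rw [fac]
    have := one_sub_pos h0 h1 (J := k + 2) (by omega)
    split_ifs <;> positivity

/-- the condition holds for `phi * w ^ N` -/
theorem S_pow {ρ w c : ℝ} (h0 : 0 < ρ) (h1 : 3 * (ρ ^ 2) ^ 2 < 1) (hc : 0 ≤ c) (hw : 0 < w) (hρw : 1 ≤ ρ * w) {J : ℕ}
    (hJ : 2 ≤ J) (N : ℕ) :
    GR J (fun N => phi ρ c (J - 2) * w ^ N) N +
      (if 2 * J ≤ N then 3 * (phi ρ c (J + 1 - 2) * w ^ (N - 2 * J)) else 0) ≤ phi ρ c (J + 1 - 2) * w ^ N := by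
  obtain ⟨k, rfl⟩ : ∃ k, J = k + 2 := ⟨J - 2, by omega⟩
  rw [show k + 2 - 2 = k by omega, show k + 2 + 1 - 2 = k + 1 by omega]
  have hpos := one_sub_pos h0 h1 hJ
  have hphi := phi_nonneg h0 h1 hc k
  have hphi' := phi_nonneg h0 h1 hc (k + 1)
  -- `w ^ (N - i) ≤ w ^ N ρ ^ i`
  have hpw : ∀ i, i ≤ N → w ^ (N - i) ≤ w ^ N * ρ ^ i := by
    intro i hi
    have e : w ^ N = w ^ (N - i) * w ^ i := by rw [← pow_add]; congr 1; omega
    have h2 : 1 ≤ (ρ * w) ^ i := one_le_pow₀ hρw
    rw [mul_pow] at h2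
    rw [e]
    have h3 : 0 < w ^ (N - i) := by positivity
    nlinarith
  have hterm : ∀ τ, termR (fun N => phi ρ c k * w ^ N) (k + 2) τ N ≤ phi ρ c k * w ^ N * (ρ ^ (k + 2)) ^ τ := by
    intro τ
    rw [termR]
    split_ifs with h
    · have := hpw _ h
      rw [pow_mul] at this
      calc phi ρ c k * w ^ (N - (k + 2) * τ) ≤ phi ρ c k * (w ^ N * (ρ ^ (k + 2)) ^ τ) := by gcongr
        _ = _ := by ring
    · positivity
  have h3 : (if 2 * (k + 2) ≤ N then 3 * (phi ρ c (k + 1) * w ^ (N - 2 * (k + 2))) else 0) ≤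
      3 * (ρ ^ 2) ^ (k + 2) * (phi ρ c (k + 1) * w ^ N) := by
    split_ifs with h
    · have := hpw _ h
      rw [pow_mul] at this
      calc 3 * (phi ρ c (k + 1) * w ^ (N - 2 * (k + 2))) ≤ 3 * (phi ρ c (k + 1) * (w ^ N * (ρ ^ 2) ^ (k + 2))) := by gcongr
        _ = _ := by ring
    · positivity
  have h4 : GR (k + 2) (fun N => phi ρ c k * w ^ N) N ≤
      phi ρ c k * w ^ N * (if (k + 2) % 2 = 1 then (1 + ρ ^ (k + 2)) ^ 4 else 1) := by
    rw [GR]
    split_ifs with h
    · have t0 := hterm 0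
      have t1 := hterm 1
      have t2 := hterm 2
      have t3 := hterm 3
      have t4 := hterm 4
      have e : phi ρ c k * w ^ N * (1 + ρ ^ (k + 2)) ^ 4 = phi ρ c k * w ^ N * (ρ ^ (k + 2)) ^ 0 +
        4 * (phi ρ c k * w ^ N * (ρ ^ (k + 2)) ^ 1) + 6 * (phi ρ c k * w ^ N * (ρ ^ (k + 2)) ^ 2) +
        4 * (phi ρ c k * w ^ N * (ρ ^ (k + 2)) ^ 3) + phi ρ c k * w ^ N * (ρ ^ (k + 2)) ^ 4 := by ring
      rw [e]
      linarith
    · rw [mul_one]
  refine (add_le_add h4 h3).trans (le_of_eq ?_)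
  rw [phi, fac]
  field_simp
  ring

/-- **asymptotic bound** -/
theorem bound_two (t : ℕ → ℕ → ℕ) (H : ∀ J, 2 ≤ J → ∀ N, t (J + 1) N ≤ conv J (G J (t J)) N)
    {ρ w c ρ' w' c' : ℝ} (h0 : 0 < ρ) (h1 : 3 * (ρ ^ 2) ^ 2 < 1) (hc : 0 ≤ c) (hw : 0 < w) (hρw : 1 ≤ ρ * w)
    (h0' : 0 < ρ') (h1' : 3 * (ρ' ^ 2) ^ 2 < 1) (hc' : 0 ≤ c') (hw' : 0 < w') (hρw' : 1 ≤ ρ' * w')
    (hb : ∀ N, (t 2 N : ℝ) ≤ c * w ^ N + c' * w' ^ N) (k N : ℕ) :
    (t (k + 2) N : ℝ) ≤ phi ρ c k * w ^ N + phi ρ' c' k * w' ^ N := by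
  have h := num_bound t H (fun J N => phi ρ c (J - 2) * w ^ N + phi ρ' c' (J - 2) * w' ^ N) (k + 2) (N + 1)
    (fun N _ => hb N) (fun J hJ _ N _ => by
      have e1 := S_pow h0 h1 hc hw hρw hJ N
      have e2 := S_pow h0' h1' hc' hw' hρw' hJ N
      have e3 : GR J (fun N => phi ρ c (J - 2) * w ^ N + phi ρ' c' (J - 2) * w' ^ N) N =
          GR J (fun N => phi ρ c (J - 2) * w ^ N) N + GR J (fun N => phi ρ' c' (J - 2) * w' ^ N) N := by
        have e4 : ∀ τ, termR (fun N => phi ρ c (J - 2) * w ^ N + phi ρ' c' (J - 2) * w' ^ N) J τ N =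
            termR (fun N => phi ρ c (J - 2) * w ^ N) J τ N + termR (fun N => phi ρ' c' (J - 2) * w' ^ N) J τ N := by
          intro τ
          rw [termR, termR, termR]
          split_ifs
          · rfl
          · simp
        rw [GR, GR, GR]
        split_ifs
        · rw [e4, e4, e4, e4, e4]
          ring
        · rfl
      rw [e3]
      by_cases h : 2 * J ≤ N
      · rw [if_pos h] at e1 e2 ⊢
        linarith
      · rw [if_neg h] at e1 e2 ⊢
        linarith) (k + 2) (by omega) le_rfl N (by omega)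
  simpa using h

end Cfsg.Agent.H170.Restr
end

-- part: H170/RestrTab
section
/-!
# The table for small dimensions and the final count
-/

set_option autoImplicit false

namespace Cfsg.Agent.H170.Restr

open Cfsg.Agent.H169 Cfsg.Agent.H171 Cfsg.Agent.H173.NumOdd

/-- the table: row `J - 2`, column `N` -/
def tab : List (List ℕ) := [
  [1, 4, 5, 4, 8, 16, 28, 48, 84, 144, 252, 432, 756, 1296, 2268, 3888, 6804, 11664, 20412, 34992, 61236, 104976,
   183708, 314928, 551124, 944784, 1653372, 2834352, 4960116, 8503056, 14880348, 25509168, 44641044, 76527504],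
  [1, 4, 5, 4, 11, 28, 43, 60, 117, 228, 381, 612, 1107, 1980, 3411, 5724, 10125, 17604, 30645, 52164, 91611,
   157788, 275643, 471420, 825957, 1418148, 2480301, 4248612, 7437987, 12757500, 22321251, 38255004, 66955005,
   114800004],
  [1, 4, 5, 8, 27, 48, 68, 140, 274, 452, 784, 1412, 2498, 4332, 7500, 13052, 22934, 39652, 68632, 119124, 207558,
   358524, 622152, 1076700, 1870878, 3233556, 5612148, 9703044, 16849674, 29121372, 50545872, 87371244, 151680546,
   262147428],
  [1, 4, 5, 8, 27, 48, 68, 140, 277, 464, 799, 1436, 2579, 4476, 7704, 13472, 23765, 41044, 71029, 123432, 215295,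
   371952, 645264, 1117116, 1942173, 3356688, 5825235, 10073340, 17495559, 30237228, 52481664, 90722592, 157507065,
   272217492],
  [1, 4, 5, 8, 27, 52, 84, 160, 309, 572, 1000, 1744, 3184, 5656, 9803, 17116, 30185, 52700, 91554, 158856, 277170,
   481136, 835031, 1446172, 2513417, 4353292, 7552000, 13069216, 22683040, 39254360, 68086383, 117795148, 204343857,
   353529532],
  [1, 4, 5, 8, 27, 52, 84, 160, 309, 572, 1000, 1744, 3187, 5668, 9818, 17140, 30266, 52856, 91806, 159336, 278097,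
   482852, 838031, 1451404, 2522978, 4370296, 7581454, 13120636, 22773838, 39412928, 68361801, 118273156, 205178148,
   354978088],
  [1, 4, 5, 8, 27, 52, 84, 164, 325, 592, 1032, 1852, 3395, 6004, 10467, 18412, 32599, 56928, 99025, 172552, 301525,
   523580, 909436, 1577696, 2743530, 4753648, 8248313, 14285380, 24796196, 42924368, 74449103, 128856996, 223514246,
   386790376],
  [1, 4, 5, 8, 27, 52, 84, 164, 325, 592, 1032, 1852, 3395, 6004, 10467, 18412, 32602, 56940, 99040, 172576, 301606,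
   523736, 909688, 1578188, 2744505, 4755424, 8251409, 14290936, 24806381, 42942380, 74480504, 128912232, 223612052,
   386961196],
  [1, 4, 5, 8, 27, 52, 84, 164, 325, 596, 1048, 1872, 3427, 6112, 10675, 18748, 33258, 58240, 101417, 176740,
   309059, 537388, 933947, 1620524, 2818909, 4887308, 8482094, 14692440, 25506037, 44165552, 76606131, 132605452,
   230019839, 398106268],
  [1, 4, 5, 8, 27, 52, 84, 164, 325, 596, 1048, 1872, 3427, 6112, 10675, 18748, 33258, 58240, 101417, 176740,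
   309062, 537400, 933962, 1620548, 2818990, 4887464, 8482346, 14692932, 25507012, 44167340, 76609275, 132611068,
   230030120, 398124604],
  [1, 4, 5, 8, 27, 52, 84, 164, 325, 596, 1048, 1876, 3443, 6132, 10707, 18856, 33466, 58576, 102073, 178040,
   311446, 541592, 941459, 1634292, 2843483, 4930236, 8557581, 14826432, 25740728, 44574484, 77319160, 133852680,
   232189152, 401877316],
  [1, 4, 5, 8, 27, 52, 84, 164, 325, 596, 1048, 1876, 3443, 6132, 10707, 18856, 33466, 58576, 102073, 178040,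
   311446, 541592, 941459, 1634292, 2843486, 4930248, 8557596, 14826456, 25740809, 44574640, 77319412, 133853172,
   232190127, 401879104],
  [1, 4, 5, 8, 27, 52, 84, 164, 325, 596, 1048, 1876, 3443, 6136, 10723, 18876, 33498, 58684, 102281, 178376,
   312102, 542892, 943843, 1638484, 2850990, 4944020, 8582133, 14869320, 25816278, 44708576, 77553959, 134261932,
   232903043, 403126364],
  [1, 4, 5, 8, 27, 52, 84, 164, 325, 596, 1048, 1876, 3443, 6136, 10723, 18876, 33498, 58684, 102281, 178376,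
   312102, 542892, 943843, 1638484, 2850990, 4944020, 8582133, 14869320, 25816281, 44708588, 77553974, 134261956,
   232903124, 403126520],
  [1, 4, 5, 8, 27, 52, 84, 164, 325, 596, 1048, 1876, 3443, 6136, 10723, 18880, 33514, 58704, 102313, 178484,
   312310, 543228, 944499, 1639784, 2853374, 4948212, 8589637, 14883092, 25840825, 44751480, 77629487, 134395984,
   233137905, 403535716],
  [1, 4, 5, 8, 27, 52, 84, 164, 325, 596, 1048, 1876, 3443, 6136, 10723, 18880, 33514, 58704, 102313, 178484,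
   312310, 543228, 944499, 1639784, 2853374, 4948212, 8589637, 14883092, 25840825, 44751480, 77629487, 134395984,
   233137908, 403535728],
  [1, 4, 5, 8, 27, 52, 84, 164, 325, 596, 1048, 1876, 3443, 6136, 10723, 18880, 33514, 58708, 102329, 178504,
   312342, 543336, 944707, 1640120, 2854030, 4949512, 8592021, 14887284, 25848329, 44765252, 77654031, 134438876,
   233213428, 403669784],
  [1, 4, 5, 8, 27, 52, 84, 164, 325, 596, 1048, 1876, 3443, 6136, 10723, 18880, 33514, 58708, 102329, 178504,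
   312342, 543336, 944707, 1640120, 2854030, 4949512, 8592021, 14887284, 25848329, 44765252, 77654031, 134438876,
   233213428, 403669784],
  [1, 4, 5, 8, 27, 52, 84, 164, 325, 596, 1048, 1876, 3443, 6136, 10723, 18880, 33514, 58708, 102329, 178508,
   312358, 543356, 944739, 1640228, 2854238, 4949848, 8592677, 14888584, 25850713, 44769444, 77661535, 134452648,
   233237972, 403712676],
  [1, 4, 5, 8, 27, 52, 84, 164, 325, 596, 1048, 1876, 3443, 6136, 10723, 18880, 33514, 58708, 102329, 178508,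
   312358, 543356, 944739, 1640228, 2854238, 4949848, 8592677, 14888584, 25850713, 44769444, 77661535, 134452648,
   233237972, 403712676],
  [1, 4, 5, 8, 27, 52, 84, 164, 325, 596, 1048, 1876, 3443, 6136, 10723, 18880, 33514, 58708, 102329, 178508,
   312358, 543360, 944755, 1640248, 2854270, 4949956, 8592885, 14888920, 25851369, 44770744, 77663919, 134456840,
   233245476, 403726448],
  [1, 4, 5, 8, 27, 52, 84, 164, 325, 596, 1048, 1876, 3443, 6136, 10723, 18880, 33514, 58708, 102329, 178508,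
   312358, 543360, 944755, 1640248, 2854270, 4949956, 8592885, 14888920, 25851369, 44770744, 77663919, 134456840,
   233245476, 403726448],
  [1, 4, 5, 8, 27, 52, 84, 164, 325, 596, 1048, 1876, 3443, 6136, 10723, 18880, 33514, 58708, 102329, 178508,
   312358, 543360, 944755, 1640252, 2854286, 4949976, 8592917, 14889028, 25851577, 44771080, 77664575, 134458140,
   233247860, 403730640],
  [1, 4, 5, 8, 27, 52, 84, 164, 325, 596, 1048, 1876, 3443, 6136, 10723, 18880, 33514, 58708, 102329, 178508,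
   312358, 543360, 944755, 1640252, 2854286, 4949976, 8592917, 14889028, 25851577, 44771080, 77664575, 134458140,
   233247860, 403730640],
  [1, 4, 5, 8, 27, 52, 84, 164, 325, 596, 1048, 1876, 3443, 6136, 10723, 18880, 33514, 58708, 102329, 178508,
   312358, 543360, 944755, 1640252, 2854286, 4949980, 8592933, 14889048, 25851609, 44771188, 77664783, 134458476,
   233248516, 403731940],
  [1, 4, 5, 8, 27, 52, 84, 164, 325, 596, 1048, 1876, 3443, 6136, 10723, 18880, 33514, 58708, 102329, 178508,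
   312358, 543360, 944755, 1640252, 2854286, 4949980, 8592933, 14889048, 25851609, 44771188, 77664783, 134458476,
   233248516, 403731940],
  [1, 4, 5, 8, 27, 52, 84, 164, 325, 596, 1048, 1876, 3443, 6136, 10723, 18880, 33514, 58708, 102329, 178508,
   312358, 543360, 944755, 1640252, 2854286, 4949980, 8592933, 14889052, 25851625, 44771208, 77664815, 134458584,
   233248724, 403732276],
  [1, 4, 5, 8, 27, 52, 84, 164, 325, 596, 1048, 1876, 3443, 6136, 10723, 18880, 33514, 58708, 102329, 178508,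
   312358, 543360, 944755, 1640252, 2854286, 4949980, 8592933, 14889052, 25851625, 44771208, 77664815, 134458584,
   233248724, 403732276],
  [1, 4, 5, 8, 27, 52, 84, 164, 325, 596, 1048, 1876, 3443, 6136, 10723, 18880, 33514, 58708, 102329, 178508,
   312358, 543360, 944755, 1640252, 2854286, 4949980, 8592933, 14889052, 25851625, 44771212, 77664831, 134458604,
   233248756, 403732384],
  [1, 4, 5, 8, 27, 52, 84, 164, 325, 596, 1048, 1876, 3443, 6136, 10723, 18880, 33514, 58708, 102329, 178508,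
   312358, 543360, 944755, 1640252, 2854286, 4949980, 8592933, 14889052, 25851625, 44771212, 77664831, 134458604,
   233248756, 403732384],
  [1, 4, 5, 8, 27, 52, 84, 164, 325, 596, 1048, 1876, 3443, 6136, 10723, 18880, 33514, 58708, 102329, 178508,
   312358, 543360, 944755, 1640252, 2854286, 4949980, 8592933, 14889052, 25851625, 44771212, 77664831, 134458608,
   233248772, 403732404],
  [1, 4, 5, 8, 27, 52, 84, 164, 325, 596, 1048, 1876, 3443, 6136, 10723, 18880, 33514, 58708, 102329, 178508,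
   312358, 543360, 944755, 1640252, 2854286, 4949980, 8592933, 14889052, 25851625, 44771212, 77664831, 134458608,
   233248772, 403732404],
  [1, 4, 5, 8, 27, 52, 84, 164, 325, 596, 1048, 1876, 3443, 6136, 10723, 18880, 33514, 58708, 102329, 178508,
   312358, 543360, 944755, 1640252, 2854286, 4949980, 8592933, 14889052, 25851625, 44771212, 77664831, 134458608,
   233248772, 403732408]]

/-- the entries -/
def tb (J N : ℕ) : ℕ := (tab.getD J []).getD N 0

theorem tab_base : ∀ N < 34, b1 N ≤ tb 0 N := by decide +kernel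

theorem tab_step : ∀ J < 32, ∀ N < 34,
    G (J + 2) (tb J) N + (if 2 * (J + 2) ≤ N then 3 * tb (J + 1) (N - 2 * (J + 2)) else 0) ≤ tb (J + 1) N := by
  decide +kernel

theorem tab_final : ∀ n < 17, 100 * tb (2 * n) (2 * n + 1) ≤ 1000 * 3 ^ n := by decide +kernel

end Cfsg.Agent.H170.Restr
end

-- part: H170/RestrFinal
section
/-!
# The count for `q = 3`

`card_restr` : at most `10 * 3 ^ n` data of dimension `2 n + 1` have at most one Jordan block of size one for each of
the eigenvalues `± 1`.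
-/

set_option autoImplicit false

namespace Cfsg.Agent.H170.Restr

open Cfsg.Agent.H169 Cfsg.Agent.H171 Cfsg.Agent.H173.NumOdd

section Phi

theorem tail_ineq {ρ x : ℝ} (h0 : 0 < ρ) (hρ : ρ ≤ 2 / 3) (hx0 : 0 ≤ x) (hx : x ≤ 1 / 600) :
    (1 + x) ^ 4 * (1 + 13 * (ρ * x)) ≤ (1 + 13 * x) * (1 - 3 * x ^ 2) := by
  have h1 : (1 + x) ^ 4 ≤ 1 + 4 * x + 7 * x ^ 2 := by
    nlinarith [mul_nonneg hx0 hx0, mul_nonneg (mul_nonneg hx0 hx0) hx0, mul_nonneg (mul_nonneg hx0 hx0) (sub_nonneg.2 hx)]
  have h2 : ρ * x ≤ 2 / 3 * x := mul_le_mul_of_nonneg_right hρ hx0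
  calc (1 + x) ^ 4 * (1 + 13 * (ρ * x)) ≤ (1 + 4 * x + 7 * x ^ 2) * (1 + 13 * (2 / 3 * x)) := by
        gcongr
    _ ≤ _ := by nlinarith [mul_nonneg hx0 hx0, mul_nonneg (mul_nonneg hx0 hx0) hx0, mul_nonneg hx0 (sub_nonneg.2 hx),
        mul_nonneg (mul_nonneg hx0 hx0) (sub_nonneg.2 hx)]

theorem fac_le {ρ : ℝ} (h0 : 0 < ρ) (J : ℕ) (h : 0 < 1 - 3 * (ρ ^ 2) ^ J) :
    fac ρ J ≤ (1 + ρ ^ J) ^ 4 / (1 - 3 * (ρ ^ 2) ^ J) := by
  rw [fac]
  gcongr
  split_ifs
  · exact le_rfl
  · have : 0 < ρ ^ J := by positivity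
    exact one_le_pow₀ (by linarith)

theorem one_le_fac {ρ : ℝ} (h0 : 0 < ρ) (h1 : 3 * (ρ ^ 2) ^ 2 < 1) {J : ℕ} (hJ : 2 ≤ J) : 1 ≤ fac ρ J := by
  have h := one_sub_pos h0 h1 hJ
  rw [fac, le_div_iff₀ h, one_mul]
  have h3 : 0 < (ρ ^ 2) ^ J := by positivity
  have h4 : 0 < ρ ^ J := by positivity
  split_ifs
  · have : 1 ≤ (1 + ρ ^ J) ^ 4 := one_le_pow₀ (by linarith)
    linarith
  · linarith

theorem phi_mono {ρ c : ℝ} (h0 : 0 < ρ) (h1 : 3 * (ρ ^ 2) ^ 2 < 1) (hc : 0 ≤ c) {k l : ℕ} (hkl : k ≤ l) :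
    phi ρ c k ≤ phi ρ c l := by
  induction l, hkl using Nat.le_induction with
  | base => exact le_rfl
  | succ l _ ih =>
    refine ih.trans ?_
    rw [phi]
    have h2 := phi_nonneg h0 h1 hc l
    have h3 := one_le_fac h0 h1 (J := l + 2) (by omega)
    nlinarith

theorem phi_le {ρ c C : ℝ} (h0 : 0 < ρ) (hρ : ρ ≤ 2 / 3) (hc : 0 ≤ c) (hx : ρ ^ 16 ≤ 1 / 600)
    (hC : phi ρ c 14 * (1 + 13 * ρ ^ 16) ≤ C) (k : ℕ) : phi ρ c k ≤ C := by
  have h1 : 3 * (ρ ^ 2) ^ 2 < 1 := by
    have : ρ ^ 2 ≤ (2 / 3) ^ 2 := pow_le_pow_left₀ h0.le hρ 2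
    have h2 : 0 ≤ ρ ^ 2 := by positivity
    nlinarith
  have key : ∀ k, 14 ≤ k → phi ρ c k * (1 + 13 * ρ ^ (k + 2)) ≤ C := by
    intro k hk
    induction k, hk using Nat.le_induction with
    | base => exact hC
    | succ k hk ih =>
      refine le_trans ?_ ih
      have hpos := one_sub_pos h0 h1 (J := k + 2) (by omega)
      have h3 := fac_le h0 (k + 2) hpos
      have hxk : ρ ^ (k + 2) ≤ 1 / 600 := (pow_le_pow_of_le_one h0.le (by linarith) (by omega)).trans hx
      have hxk0 : 0 < ρ ^ (k + 2) := by positivity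
      have h4 := tail_ineq h0 hρ hxk0.le hxk
      have h5 := phi_nonneg h0 h1 hc k
      have e1 : (ρ ^ 2) ^ (k + 2) = (ρ ^ (k + 2)) ^ 2 := by rw [← pow_mul, ← pow_mul, mul_comm]
      have e2 : ρ ^ (k + 1 + 2) = ρ * ρ ^ (k + 2) := by ring
      rw [phi, e2]
      rw [e1] at h3 hpos
      calc phi ρ c k * fac ρ (k + 2) * (1 + 13 * (ρ * ρ ^ (k + 2)))
          ≤ phi ρ c k * ((1 + ρ ^ (k + 2)) ^ 4 / (1 - 3 * (ρ ^ (k + 2)) ^ 2)) * (1 + 13 * (ρ * ρ ^ (k + 2))) := by
            gcongr
        _ = phi ρ c k * (((1 + ρ ^ (k + 2)) ^ 4 * (1 + 13 * (ρ * ρ ^ (k + 2)))) / (1 - 3 * (ρ ^ (k + 2)) ^ 2)) := by ring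
        _ ≤ phi ρ c k * (1 + 13 * ρ ^ (k + 2)) := by
            apply mul_le_mul_of_nonneg_left _ h5
            rw [div_le_iff₀ hpos]
            exact h4
  have h2 := key (max k 14) (le_max_right _ _)
  have h3 := phi_mono h0 h1 hc (le_max_left k 14)
  have h4 := phi_nonneg h0 h1 hc (max k 14)
  have h5 : 0 ≤ phi ρ c (max k 14) * (13 * ρ ^ (max k 14 + 2)) := by positivity
  nlinarith

theorem phi_main (k : ℕ) : phi (5774 / 10000) (28 / 27) k ≤ 5464 / 1000 := by
  apply phi_le (by norm_num) (by norm_num) (by norm_num) (by norm_num)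
  norm_num [phi, fac]

theorem phi_sec (k : ℕ) : phi (2 / 3) (3 / 2) k ≤ 442 / 10 := by
  apply phi_le (by norm_num) (by norm_num) (by norm_num) (by norm_num)
  norm_num [phi, fac]

end Phi

section Final

variable {F : Type*} [Field F] [Finite F]

theorem sqrt_three_ge : (1732 / 1000 : ℝ) ≤ Real.sqrt 3 := by
  apply Real.le_sqrt_of_sq_le
  norm_num

theorem sqrt_three_le : Real.sqrt 3 ≤ 1733 / 1000 := by
  rw [Real.sqrt_le_left (by norm_num)]
  norm_num

theorem sqrt_pow_even (m : ℕ) : Real.sqrt 3 ^ (2 * m) = 3 ^ m := by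
  rw [pow_mul, Real.sq_sqrt (by norm_num)]

theorem sqrt_pow_odd (m : ℕ) : Real.sqrt 3 ^ (2 * m + 1) = 3 ^ m * Real.sqrt 3 := by
  rw [pow_succ, sqrt_pow_even]

theorem b1_le (N : ℕ) : (b1 N : ℝ) ≤ 28 / 27 * Real.sqrt 3 ^ N + 3 / 2 * (3 / 2) ^ N := by
  have hs := sqrt_three_ge
  have hs' := sqrt_three_le
  rcases Nat.even_or_odd' N with ⟨m, rfl | rfl⟩
  · have hb : b1 (2 * m) = pd m + (if 2 ≤ 2 * m then 4 * pd (m - 1) else 0) := by
      rw [b1, if_pos (by omega), show 2 * m / 2 = m by omega]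
    rw [hb, sqrt_pow_even]
    have h0 : (0 : ℝ) < (3 / 2) ^ (2 * m) := by positivity
    rcases m with _ | _ | _ | m
    · norm_num [pd]
    · norm_num [pd]
    · norm_num [pd]
    · rw [if_pos (by omega)]
      show ((4 * 3 ^ (m + 1) + 4 * (4 * 3 ^ m) : ℕ) : ℝ) ≤ _
      push_cast
      have e : (3 : ℝ) ^ (m + 1 + 1 + 1) = 27 * 3 ^ m := by ring
      have e2 : (3 : ℝ) ^ (m + 1) = 3 * 3 ^ m := by ring
      rw [e, e2]
      linarith
  · have hb : b1 (2 * m + 1) = 4 * pd m := by
      rw [b1, if_neg (by omega), show (2 * m + 1) / 2 = m by omega]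
    rw [hb, sqrt_pow_odd]
    have h0 : (0 : ℝ) < (3 / 2) ^ (2 * m + 1) := by positivity
    rcases m with _ | _ | m
    · norm_num [pd]
      linarith
    · norm_num [pd]
      linarith
    · show ((4 * (4 * 3 ^ m) : ℕ) : ℝ) ≤ _
      push_cast
      have e : (3 : ℝ) ^ (m + 1 + 1) = 9 * 3 ^ m := by ring
      rw [e]
      have h3 : (0 : ℝ) < 3 ^ m := by positivity
      nlinarith

/-- **The count, `q = 3`.** -/
theorem card_restr (h3 : Nat.card F = 3) (n : ℕ) :
    100 * Nat.card {D : ODat F // D.Ok (2 * n + 1) ∧ D.a true 1 ≤ 1 ∧ D.a false 1 ≤ 1} ≤ 1000 * 3 ^ n := by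
  have hfin := Fintype.ofFinite F
  have h2 : (2 : F) ≠ 0 := by
    intro h0
    have h30 : (3 : F) = 0 := by
      have := Nat.cast_card_eq_zero F
      rw [← Nat.card_eq_fintype_card, h3] at this
      exact_mod_cast this
    apply one_ne_zero (α := F)
    linear_combination h30 - h0
  have hsub : Nat.card {D : ODat F // D.Ok (2 * n + 1) ∧ D.a true 1 ≤ 1 ∧ D.a false 1 ≤ 1} ≤
      (T F (2 * n + 2) (2 * n + 1)).ncard := by
    have e : {D : ODat F | D.Ok (2 * n + 1) ∧ D.a true 1 ≤ 1 ∧ D.a false 1 ≤ 1} ⊆ T F (2 * n + 2) (2 * n + 1) :=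
      fun D hD => ⟨Pdo.of_ok hD.1 (by omega), hD.2.1, hD.2.2⟩
    have e2 := Set.ncard_le_ncard e (T_finite h2 _ _)
    rw [← Nat.card_coe_set_eq] at e2
    exact e2
  have H : ∀ J, 2 ≤ J → ∀ N, (T F (J + 1) N).ncard ≤ conv J (G J (fun m => (T F J m).ncard)) N :=
    fun J hJ N => step h2 h3 hJ N
  rcases Nat.lt_or_ge n 17 with hn | hn
  · have h4 := num_bound (fun J N => (T F J N).ncard) H (fun J N => (tb (J - 2) N : ℝ)) 34 34
      (fun N hN => by exact_mod_cast (base h3 N).trans (tab_base N hN)) (fun J hJ hJM N hN => by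
        obtain ⟨k, rfl⟩ : ∃ k, J = k + 2 := ⟨J - 2, by omega⟩
        have h5 := tab_step k (by omega) N hN
        rw [show k + 2 - 2 = k by omega, show k + 2 + 1 - 2 = k + 1 by omega]
        have e : GR (k + 2) (fun N => (tb k N : ℝ)) N = (G (k + 2) (tb k) N : ℝ) := by
          rw [GR, G]
          have e1 : ∀ τ, termR (fun N => (tb k N : ℝ)) (k + 2) τ N = (term (tb k) (k + 2) τ N : ℝ) := by
            intro τ
            rw [termR, term]
            split_ifs <;> simp
          split_ifs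
          · rw [e1, e1, e1, e1, e1]
            push_cast
            ring
          · rfl
        rw [e]
        exact_mod_cast h5) (2 * n + 2) (by omega) (by omega) (2 * n + 1) (by omega)
    have h5 : (T F (2 * n + 2) (2 * n + 1)).ncard ≤ tb (2 * n) (2 * n + 1) := by
      have : ((T F (2 * n + 2) (2 * n + 1)).ncard : ℝ) ≤ (tb (2 * n + 2 - 2) (2 * n + 1) : ℝ) := h4
      rw [show 2 * n + 2 - 2 = 2 * n by omega] at this
      exact_mod_cast this
    have h6 := tab_final n hn
    omega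
  · have h4 := bound_two (fun J N => (T F J N).ncard) H (ρ := 5774 / 10000) (w := Real.sqrt 3) (c := 28 / 27)
      (ρ' := 2 / 3) (w' := 3 / 2) (c' := 3 / 2) (by norm_num) (by norm_num) (by norm_num) (by positivity)
      (by
        have : Real.sqrt 3 * Real.sqrt 3 = 3 := Real.mul_self_sqrt (by norm_num)
        have h5 := sqrt_three_ge
        by_contra hc
        push Not at hc
        have h6 : 0 ≤ 5774 / 10000 * Real.sqrt 3 := by positivity
        nlinarith)
      (by norm_num) (by norm_num) (by norm_num) (by norm_num) (by norm_num)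
      (fun N => (Nat.cast_le.2 (base h3 N)).trans (b1_le N)) (2 * n) (2 * n + 1)
    have m1 := phi_main (2 * n)
    have m2 := phi_sec (2 * n)
    rw [sqrt_pow_odd] at h4
    have hs' := sqrt_three_le
    have e1 : ((3 / 2 : ℝ)) ^ (2 * n + 1) = 3 / 2 * ((9 / 4) ^ n) := by
      rw [pow_succ, pow_mul]
      norm_num
      ring
    rw [e1] at h4
    have e2 : ((9 / 4 : ℝ)) ^ n ≤ 76 / 10000 * 3 ^ n := by
      have e3 : ((9 / 4 : ℝ)) ^ n = (3 / 4) ^ n * 3 ^ n := by
        rw [← mul_pow]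
        norm_num
      rw [e3]
      apply mul_le_mul_of_nonneg_right _ (by positivity)
      calc ((3 / 4 : ℝ)) ^ n ≤ (3 / 4) ^ 17 := pow_le_pow_of_le_one (by norm_num) (by norm_num) hn
        _ ≤ 76 / 10000 := by norm_num
    have h30 : (0 : ℝ) < 3 ^ n := by positivity
    have h94 : (0 : ℝ) < (9 / 4) ^ n := by positivity
    have p1 : phi (5774 / 10000) (28 / 27) (2 * n) * (3 ^ n * Real.sqrt 3) ≤
        5464 / 1000 * (3 ^ n * (1733 / 1000)) := by
      gcongr
    have p2 : phi (2 / 3) (3 / 2) (2 * n) * (3 / 2 * (9 / 4) ^ n) ≤ 442 / 10 * (3 / 2 * (76 / 10000 * 3 ^ n)) := by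
      gcongr
    have h7 : ((T F (2 * n + 2) (2 * n + 1)).ncard : ℝ) ≤ 10 * 3 ^ n := by
      refine h4.trans ?_
      linarith
    have h8 : (T F (2 * n + 2) (2 * n + 1)).ncard ≤ 10 * 3 ^ n := by exact_mod_cast h7
    omega

end Final

end Cfsg.Agent.H170.Restr
end

-- part: H174/CNOdd
section
/-!
Lower bound for the class numbers of `O(2n+1,q)` and `Ω(2n+1,q)`, `q` odd.
-/

set_option autoImplicit false

namespace Cfsg.Agent.H174.CN

open Polynomial Module Cfsg

universe u

theorem Rz.of_smul {F V : Type*} [Field F] [AddCommGroup V] [Module F V] [Module.Finite F V]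
    {Q : V → F} {p : F[X]} {c : F} (hc : c ≠ 0) (h : Rz (fun v => c * Q v) p) : Rz Q p := by
  obtain ⟨g, hg, hp⟩ := h
  exact ⟨g, fun v => mul_left_cancel₀ hc (hg v), hp⟩

theorem nondeg_comp {F V W : Type*} [Field F] [AddCommGroup V] [Module F V] [AddCommGroup W]
    [Module F W] (Q : QuadraticForm F W) (hQ : (QuadraticMap.polarBilin Q).Nondegenerate)
    (e : V ≃ₗ[F] W) : (QuadraticMap.polarBilin (Q.comp e.toLinearMap)).Nondegenerate := by
  apply nondeg_of
  intro v hv
  rw [← e.map_eq_zero_iff]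
  apply hQ.1
  intro w
  have := hv (e.symm w)
  simpa [QuadraticMap.polar, QuadraticMap.comp_apply] using this

/-- in odd dimension all nondegenerate forms are similar -/
theorem Rz.similar {F V : Type*} [Field F] [Fintype F] (h2 : (2 : F) ≠ 0) [AddCommGroup V] [Module F V]
    [Module.Finite F V] {ι : Type} [Fintype ι] {n : ℕ} (hV : finrank F V = 2 * n + 1)
    (hι : Fintype.card ι = 2 * n + 1) (Q : QuadraticForm F V)
    (hQ : (QuadraticMap.polarBilin Q).Nondegenerate) (T : QuadraticForm F (ι → F))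
    (hT : (QuadraticMap.polarBilin T).Nondegenerate) {p : F[X]} (h : Rz Q p) : Rz T p := by
  classical
  let e1 : (Fin (2 * n + 1) → F) ≃ₗ[F] V := (finBasisOfFinrankEq F V hV).equivFun.symm
  let e2 : (Fin (2 * n + 1) → F) ≃ₗ[F] (ι → F) :=
    LinearEquiv.funCongrLeft F F (Fintype.equivFinOfCardEq hι)
  obtain ⟨g, c, hc, hg⟩ := Cfsg.Agent.S0838.result h2 (n := 2 * n + 1) ⟨n, rfl⟩
    (T.comp e2.toLinearMap) (Q.comp e1.toLinearMap) (nondeg_comp T hT e2) (nondeg_comp Q hQ e1)
  have h3 : ∀ v : V, Q v = c * T (e2 (g.symm (e1.symm v))) := by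
    intro v
    have h4 := hg (g.symm (e1.symm v))
    rw [g.apply_symm_apply] at h4
    simpa [QuadraticMap.comp_apply] using h4
  exact (h.congr (Q' := fun w => c * T w) ((e1.symm.trans g.symm).trans e2) h3).of_smul hc

variable {F : Type u} [Field F]

theorem exists_factor_two {h : F[X]} (hh : h.Monic) (a : F) : ∃ (k : ℕ) (h' : F[X]),
    h = (X - C a) ^ k * h' ∧ h'.Monic ∧ h'.eval a ≠ 0 ∧ h.natDegree = k + h'.natDegree ∧
    ∀ b, h.eval b ≠ 0 → h'.eval b ≠ 0 := by
  obtain ⟨h', h1, h2⟩ := exists_eq_pow_rootMultiplicity_mul_and_not_dvd h hh.ne_zero a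
  have h3 : h'.Monic := by
    have : ((X - C a) ^ h.rootMultiplicity a * h').Monic := h1 ▸ hh
    exact ((monic_X_sub_C a).pow _).of_mul_monic_left this
  refine ⟨_, h', h1, h3, ?_, ?_, ?_⟩
  · intro h4
    exact h2 (dvd_iff_isRoot.2 h4)
  · conv_lhs => rw [h1]
    rw [((monic_X_sub_C a).pow _).natDegree_mul h3, natDegree_pow, natDegree_X_sub_C, mul_one]
  · intro b hb h4
    apply hb
    rw [h1, eval_mul, h4, mul_zero]

theorem plusQ_nondeg (m : ℕ) : (QuadraticMap.polarBilin (plusQ m F)).Nondegenerate := by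
  have : QuadraticMap.polarBilin (plusQ m F) =
      ClassicalGeometry.QuadPlusBasic.polarForm m F := by
    refine LinearMap.ext fun u => LinearMap.ext fun v => ?_
    exact polar_plusQ m F u v
  rw [this]
  exact ClassicalGeometry.QuadPlusBasic.polarForm_nondegenerate m F

theorem sq_nondeg (h2 : (2 : F) ≠ 0) :
    (QuadraticMap.polarBilin (QuadraticMap.sq : QuadraticForm F F)).Nondegenerate := by
  apply nondeg_of
  intro v hv
  have := hv 1
  simp [QuadraticMap.polar] at this
  have h3 : 2 * v = 0 := by linear_combination this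
  exact (mul_eq_zero.1 h3).resolve_left h2

theorem eval_one_ne (a : F) : (1 : F[X]).eval a ≠ 0 := by simp

/-- all polynomials `h² (X ∓ 2)` are realised in odd dimension -/
theorem rz_odd [Fintype F] (h2 : (2 : F) ≠ 0) {ι : Type} [Fintype ι] {n : ℕ}
    (hι : Fintype.card ι = 2 * n + 1) (T : QuadraticForm F (ι → F))
    (hT : (QuadraticMap.polarBilin T).Nondegenerate) {h : F[X]} (hh : h.Monic)
    (hn : h.natDegree = n) : Rz T (h ^ 2 * (X - C 2)) ∧ Rz T (h ^ 2 * (X + C 2)) := by
  obtain ⟨i, k, h1, h3, h4, h5, -⟩ := exists_factor_two hh 2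
  obtain ⟨j, f, h6, h7, h8, h9, h10⟩ := exists_factor_two h3 (-2)
  have h11 := h10 2 h4
  have := finite_adjoinRoot h7
  let Q := (((Qh h7).prod (plusQ i F)).prod (plusQ j F)).prod (QuadraticMap.sq : QuadraticForm F F)
  have hQ : (QuadraticMap.polarBilin Q).Nondegenerate :=
    prod_nondeg (prod_nondeg (prod_nondeg (nondeg_of _ fun _ hv => nondeg_Qh h7 h11 h8 hv)
      (plusQ_nondeg i)) (plusQ_nondeg j)) (sq_nondeg h2)
  have hfr : finrank F ((((AdjoinRoot f × AdjoinRoot f) × (Fin i ⊕ Fin i → F)) ×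
      (Fin j ⊕ Fin j → F)) × F) = 2 * n + 1 := by
    simp only [finrank_prod, finrank_adjoinRoot h7, finrank_fintype_fun_eq_card, Fintype.card_sum,
      Fintype.card_fin, finrank_self]
    omega
  have r1 := ((rz_Qh h7).prod (Rz.one (plusQ i F))).prod
    (Rz.neg (Q := plusQ j F) fun v => QuadraticMap.map_neg _ v)
  have r2 := r1.prod (Rz.one (QuadraticMap.sq : QuadraticForm F F))
  have r3 := r1.prod (Rz.neg (Q := (QuadraticMap.sq : QuadraticForm F F)) fun v => QuadraticMap.map_neg _ v)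
  simp only [finrank_fintype_fun_eq_card, Fintype.card_sum, Fintype.card_fin, finrank_self,
    pow_one] at r2 r3
  have hp : f ^ 2 * (X - C 2) ^ (i + i) * (X + C 2) ^ (j + j) = h ^ 2 := by
    rw [h1, h6, C_neg, sub_neg_eq_add]
    ring
  rw [hp] at r2 r3
  exact ⟨Rz.similar h2 hfr hι Q hQ T hT r2, Rz.similar h2 hfr hι Q hQ T hT r3⟩

theorem sq_mul_ne (h2 : (2 : F) ≠ 0) {p q : F[X]} (hp : p.Monic) (hq : q.Monic) :
    p ^ 2 * (X - C 2) ≠ q ^ 2 * (X + C 2) := by
  classical
  intro h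
  have e : (X + C 2 : F[X]) = X - C (-2) := by simp
  rw [e] at h
  have h1 := congrArg (fun P : F[X] => P.roots.count 2) h
  have hne : (-2 : F) ≠ 2 := by
    intro h3
    have h4 : (2 : F) * 2 = 0 := by linear_combination -h3
    rcases mul_eq_zero.1 h4 with h5 | h5 <;> exact h2 h5
  simp only [roots_mul (mul_ne_zero (pow_ne_zero 2 hp.ne_zero) (X_sub_C_ne_zero 2)),
    roots_mul (mul_ne_zero (pow_ne_zero 2 hq.ne_zero) (X_sub_C_ne_zero (-2))), roots_pow,
    roots_X_sub_C, Multiset.count_add, Multiset.count_nsmul, Multiset.count_singleton_self,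
    Multiset.count_singleton, if_neg (Ne.symm hne)] at h1
  omega

theorem lower_orth_odd_dim [Fintype F] (h2 : (2 : F) ≠ 0) {ι : Type} [Fintype ι] [DecidableEq ι]
    {n : ℕ} (hι : Fintype.card ι = 2 * n + 1) (T : QuadraticForm F (ι → F))
    (hT : (QuadraticMap.polarBilin T).Nondegenerate) :
    2 * Fintype.card F ^ n ≤ Nat.card (ConjClasses (isometryGroup F T)) := by
  classical
  let A : Finset F[X] := (Finset.univ : Finset (Fin n → F)).image fun v => pol v ^ 2 * (X - C 2)
  let B : Finset F[X] := (Finset.univ : Finset (Fin n → F)).image fun v => pol v ^ 2 * (X + C 2)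
  have hA : A.card = Fintype.card F ^ n := by
    rw [Finset.card_image_of_injective, Finset.card_univ, Fintype.card_fun, Fintype.card_fin]
    intro v w h
    exact pol_sq_injective n (mul_right_cancel₀ (X_sub_C_ne_zero (2 : F)) h)
  have hB : B.card = Fintype.card F ^ n := by
    rw [Finset.card_image_of_injective, Finset.card_univ, Fintype.card_fun, Fintype.card_fin]
    intro v w h
    have e : (X + C 2 : F[X]) ≠ 0 := (monic_X_add_C 2).ne_zero
    exact pol_sq_injective n (mul_right_cancel₀ e h)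
  have hd : Disjoint A B := by
    rw [Finset.disjoint_left]
    intro p h1 h3
    obtain ⟨v, -, rfl⟩ := Finset.mem_image.1 h1
    obtain ⟨w, -, hw⟩ := Finset.mem_image.1 h3
    exact sq_mul_ne h2 (pol_monic v) (pol_monic w) hw.symm
  have h1 := card_le_of_rz (T : (ι → F) → F) (A ∪ B) (by
    intro p hp
    rcases Finset.mem_union.1 hp with hp | hp
    · obtain ⟨v, -, rfl⟩ := Finset.mem_image.1 hp
      exact (rz_odd h2 hι T hT (pol_monic v) (natDegree_pol v)).1
    · obtain ⟨v, -, rfl⟩ := Finset.mem_image.1 hp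
      exact (rz_odd h2 hι T hT (pol_monic v) (natDegree_pol v)).2)
  rw [Finset.card_union_of_disjoint hd, hA, hB] at h1
  omega

/-- **E4** -/
theorem lower_omega {F : Type*} [Field F] [Fintype F] (hodd : Odd (Fintype.card F)) (n : ℕ)
    (hn : 2 ≤ n) :
    Fintype.card F ^ n ≤ 2 * Nat.card (ConjClasses ↥(Cfsg.Omega F (Cfsg.quadFormOdd n F))) := by
  classical
  have h2 : (2 : F) ≠ 0 := by
    intro h
    have h3 : ringChar F = 2 := by
      have h5 : ((2 : ℕ) : F) = 0 := by exact_mod_cast h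
      have h6 := ringChar.dvd h5
      rcases (Nat.dvd_prime Nat.prime_two).1 h6 with h7 | h7
      · exact absurd h7 CharP.ringChar_ne_one
      · exact h7
    have h4 := FiniteField.even_card_iff_char_two.1 h3
    obtain ⟨k, hk⟩ := hodd
    omega
  have hcard : Fintype.card (Unit ⊕ (Fin n ⊕ Fin n)) = 2 * n + 1 := by simp; omega
  have hT := LieClassical.OmegaReindex.quadOdd_nondegenerate (m := n) (F := F) h2
  have h1 := lower_orth_odd_dim h2 hcard (LieClassical.OmegaReindex.quadOdd n F) hT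
  have h3 := LieClassical.OmegaReindex.index_omega_of_fin hcard
    (fun Q' hQ' => Cfsg.Agent.S0788.result h2 (by omega) Q' hQ')
    (LieClassical.OmegaReindex.quadOdd n F) hT
  rw [LieClassical.OmegaReindex.coe_quadOdd] at h1 h3
  have h4 := ClassIndex.card_conjClasses_le (Cfsg.Omega F (Cfsg.quadFormOdd n F))
  rw [h3] at h4
  omega

end Cfsg.Agent.H174.CN
end

-- part: S2560
section
set_option autoImplicit false
open Cfsg

namespace Cfsg.Agent.S2560

/-- The number of conjugacy classes of Ω(2n+1,q), q odd, n ≥ 2: for F a finite field of odd order q, the number k of conjugacy classes of the commutator subgroup of the isometry group of the quadratic form x₀² + Σ xᵢyᵢ on F^{2n+1} satisfies q^n/2 ≤ k ≤ 7.3·q^n. -/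
theorem result {F : Type*} [Field F] [Fintype F] (hodd : Odd (Fintype.card F)) (n : ℕ) (hn : 2 ≤ n) :
    Fintype.card F ^ n ≤ 2 * Nat.card (ConjClasses ↥(Cfsg.Omega F (Cfsg.quadFormOdd n F))) ∧
      10 * Nat.card (ConjClasses ↥(Cfsg.Omega F (Cfsg.quadFormOdd n F))) ≤ 73 * Fintype.card F ^ n := by
  have h2 : (2 : F) ≠ 0 := by
    intro h0
    have h3 : ringChar F = 2 := by
      have h5 : ((2 : ℕ) : F) = 0 := by exact_mod_cast h0
      rcases (Nat.dvd_prime Nat.prime_two).1 (ringChar.dvd h5) with h6 | h6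
      · exact absurd h6 (CharP.ringChar_ne_one)
      · exact h6
    have h4 := FiniteField.even_card_of_char_two h3
    rw [Nat.odd_iff] at hodd
    omega
  refine ⟨Cfsg.Agent.H174.CN.lower_omega hodd n hn, ?_⟩
  have hA := Cfsg.Agent.H170.OmegaUpper.eight_card_le (F := F) h2 n (by omega)
  have h3 := Cfsg.Agent.H173.NumOdd.three_le_card (F := F) h2
  rcases Nat.lt_or_ge (Nat.card F) 5 with h5 | h5
  · have h33 : Nat.card F = 3 := by
      have h6 : Nat.card F = Fintype.card F := Nat.card_eq_fintype_card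
      rw [Nat.odd_iff] at hodd
      omega
    have e1 := Cfsg.Agent.H173.NumOdd.card_odat_odd_three (F := F) h33 n
    have e2 := Cfsg.Agent.H170.Restr.card_restr (F := F) h33 n
    have h6 : Fintype.card F = 3 := by rw [← Nat.card_eq_fintype_card, h33]
    rw [h6]
    omega
  · have e1 := Cfsg.Agent.H173.NumOdd.card_odat_odd_five (F := F) h2 h5 n
    have hfin : Finite {D : Cfsg.Agent.H169.ODat F // D.Ok (2 * n + 1)} := Cfsg.Agent.H173.NumOdd.finite_odat h2 _
    have e2 : Nat.card {D : Cfsg.Agent.H169.ODat F // D.Ok (2 * n + 1) ∧ D.a true 1 ≤ 1 ∧ D.a false 1 ≤ 1} ≤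
        Nat.card {D : Cfsg.Agent.H169.ODat F // D.Ok (2 * n + 1)} :=
      Nat.card_le_card_of_injective (fun D => ⟨D.1, D.2.1⟩) fun D D' h =>
        Subtype.ext (congrArg (fun x : {D : Cfsg.Agent.H169.ODat F // D.Ok (2 * n + 1)} => x.1) h)
    rw [Nat.card_eq_fintype_card (α := F)] at e1
    omega

end Cfsg.Agent.S2560
end
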