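import Cfsg.Statements.S0548
import Cfsg.Agent.SolvableStructure.PrimitiveSolvable
set_option linter.all false

set_option autoImplicit false
open Cfsg

namespace Cfsg.Agent.S0548

open Cfsg.Agent.SolvableStructure.MinimalNormal
open Cfsg.Agent.SolvableStructure.PrimitiveSolvable
open scoped Pointwise

/-- Let a finite solvable group G act faithfully and primitively on a set, let M be a minimal normal subgroup and H the stabilizer of a point. Then H is a complement to M, no non-identity element of H centralizes M, and the only subgroups of M normalized by H are the trivial subgroup and M. -/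
theorem result {G : Type*} [Group G] [Finite G] [Group.IsSolvable G] {Ω : Type*} [MulAction G Ω] [FaithfulSMul G Ω] (hprim : MulAction.IsPreprimitive G Ω) (M : Subgroup G) [M.Normal] (hM : M ≠ ⊥) (hmin : ∀ K : Subgroup G, K.Normal → K ≤ M → K = ⊥ ∨ K = M) (ω : Ω) : Subgroup.IsComplement' M (MulAction.stabilizer G ω) ∧ MulAction.stabilizer G ω ⊓ Subgroup.centralizer (M : Set G) = ⊥ ∧ ∀ K : Subgroup G, K ≤ M → MulAction.stabilizer G ω ≤ Subgroup.normalizer (K : Set G) → K = ⊥ ∨ K = M := by
  have htrans := isPretransitive_of_normal hprim M hM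
  have hcomm := comm_of_minimal_normal M hM hmin
  have hprod : (M : Set G) * (MulAction.stabilizer G ω : Set G) = Set.univ := by
    rw [Set.eq_univ_iff_forall]
    intro g
    obtain ⟨m, hm⟩ := MulAction.exists_smul_eq M ω (g • ω)
    have hm' : (m : G) • ω = g • ω := hm
    refine Set.mem_mul.mpr ⟨m, m.2, (m : G)⁻¹ * g, ?_, mul_inv_cancel_left _ _⟩
    rw [SetLike.mem_coe, MulAction.mem_stabilizer_iff, mul_smul, ← hm', inv_smul_smul]
  refine ⟨?_, ?_, ?_⟩
  · refine Subgroup.isComplement'_of_disjoint_and_mul_eq_univ ?_ hprod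
    rw [Subgroup.disjoint_def]
    intro x hx hx'
    exact eq_one_of_mem_centralizer_of_smul_eq M (fun a ha => hcomm a ha x hx)
      (MulAction.mem_stabilizer_iff.mp hx')
  · rw [eq_bot_iff]
    intro x hx
    rw [Subgroup.mem_bot]
    exact eq_one_of_mem_centralizer_of_smul_eq M
      (fun a ha => Subgroup.mem_centralizer_iff.mp hx.2 a ha)
      (MulAction.mem_stabilizer_iff.mp hx.1)
  · intro K hK hH
    refine hmin K ?_ hK
    rw [← Subgroup.normalizer_eq_top_iff, eq_top_iff]
    intro g _
    have hg : g ∈ (M : Set G) * (MulAction.stabilizer G ω : Set G) := by rw [hprod]; trivial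
    obtain ⟨m, hm, h, hh, rfl⟩ := Set.mem_mul.mp hg
    refine Subgroup.mul_mem _ ?_ (hH hh)
    have hMK : M ≤ Subgroup.normalizer (K : Set G) := by
      rw [Subgroup.le_normalizer_iff]
      intro a ha k hk
      rw [hcomm a ha k (hK hk), mul_inv_cancel_right]
      exact hk
    exact hMK hm

end Cfsg.Agent.S0548
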