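import Cfsg.Statements.S2179
import Cfsg.Agent.H82.Cent2
set_option linter.all false

set_option autoImplicit false
open Cfsg

namespace Cfsg.Agent.S2179

open Cfsg.Lie Cfsg.Agent.ChevalleyStructure.Elts Cfsg.Agent.ChevalleyStructure.RootCombGood
  Cfsg.Agent.ChevalleyStructure.BruhatSplit Cfsg.Agent.ChevalleyStructure.RootWord Cfsg.Agent.H82.Cent2

universe u

/-- length (1 = short) -/
def inv (s : ℕ) : ℕ :=
  [2,2,2,1,2,2,2,1,1,1,1,1,1,1,1,2,2,2,1,1,1,2,2,2,2,2,2,1,1,1,2,2,2,1,1,1,1,1,1,1,1,2,2,2,1,2,2,2].getD s 0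

/-- `τ` -/
def tau (s : ℕ) : ℕ := if s = 27 then 40 else if s = 34 then 44 else if s = 25 then 46 else 47

/-- the dual basis, first case -/
def bm1 (i α : ℕ) : ℤ := if i = 0 then (if α = 44 then 1 else 0) else (if α = 47 then 1 else 0)

/-- the dual basis, second case -/
def bm2 (i α : ℕ) : ℤ := if i = 1 then 1 else (if α = 39 then 2 else 1)

/-- weights, second case -/
def wt2 (α : ℕ) : ℤ := if α = 39 then 3 else 4

/-- the lists -/
abbrev V1 : List ℕ := [24, 26, 29, 31, 32, 33, 34, 35, 36, 37, 38, 39, 40, 41, 42, 43, 44, 45, 46, 47]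
abbrev M1 : List ℕ := [24, 25, 26, 27, 28, 29, 30, 31, 32, 33, 34, 35, 36, 37, 38, 39, 40, 41, 42, 43, 44, 45, 46, 47, 17, 19, 20, 22]
abbrev V2 : List ℕ := [28, 29, 30, 31, 32, 35, 36, 37, 38, 39, 40, 41, 42, 43, 44, 45, 46, 47]
abbrev M2 : List ℕ := [24, 28, 29, 30, 31, 32, 33, 35, 36, 37, 38, 39, 40, 41, 42, 43, 44, 45, 46, 47, 14, 23]

set_option synthInstance.maxHeartbeats 200000 in
set_option synthInstance.maxSize 1000 in
theorem Vpos1 : ∀ r < chevF4.nroots, chevF4.nroots / 2 ≤ r → (r ∈ V1 ∨ r ∈ ([] : List ℕ)) ∨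
    ∀ i < chevF4.rank, i ∈ [1, 2] ∨ co chevF4 r i = 0 := by decide +kernel

set_option synthInstance.maxHeartbeats 200000 in
set_option synthInstance.maxSize 1000 in
theorem Vpos2 : ∀ r < chevF4.nroots, chevF4.nroots / 2 ≤ r → (r ∈ V2 ∨ r ∈ [27, 34, 25, 26]) ∨
    ∀ i < chevF4.rank, i ∈ [0, 3] ∨ co chevF4 r i = 0 := by decide +kernel

theorem dat1 : Dat2 chevF4 [47, 44] [] [] [1, 2] V1 M1 tau (fun _ => 1) inv bm1 where
  lt := by decide +kernel
  nodup := by decide +kernel
  Apos := by decide +kernel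
  Jfix := by decide +kernel
  odd := by decide +kernel
  pos := by decide +kernel
  ind := by decide +kernel
  hinv := by decide +kernel
  pair := by decide +kernel
  wtneg := by decide +kernel
  wtJ := by decide +kernel
  Mlt := by decide +kernel
  Mpos := by decide +kernel
  MJ := by decide +kernel
  Js := by decide +kernel
  Elt := by decide +kernel
  Vlt := by decide +kernel
  Vpos := by
    rintro r h1 h2 ⟨i, hi, h3, h4⟩
    exact (Vpos1 r h1 h2).resolve_right fun h5 => (h5 i hi).elim h3 h4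
  EV := by decide +kernel
  EE := by decide +kernel
  Et := by decide +kernel
  EA := by decide +kernel
  EY := by decide +kernel
  Eτ := by decide +kernel
  Einj := by decide +kernel
  Enodup := by decide +kernel
  dual := by decide +kernel

theorem dat2 : Dat2 chevF4 [39, 45] [27, 34, 25, 26] [40, 44, 46, 47] [0, 3] V2 M2 tau wt2 inv bm2 where
  lt := by decide +kernel
  nodup := by decide +kernel
  Apos := by decide +kernel
  Jfix := by decide +kernel
  odd := by decide +kernel
  pos := by decide +kernel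
  ind := by decide +kernel
  hinv := by decide +kernel
  pair := by decide +kernel
  wtneg := by decide +kernel
  wtJ := by decide +kernel
  Mlt := by decide +kernel
  Mpos := by decide +kernel
  MJ := by decide +kernel
  Js := by decide +kernel
  Elt := by decide +kernel
  Vlt := by decide +kernel
  Vpos := by
    rintro r h1 h2 ⟨i, hi, h3, h4⟩
    exact (Vpos2 r h1 h2).resolve_right fun h5 => (h5 i hi).elim h3 h4
  EV := by decide +kernel
  EE := by decide +kernel
  Et := by decide +kernel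
  EA := by decide +kernel
  EY := by decide +kernel
  Eτ := by decide +kernel
  Einj := by decide +kernel
  Enodup := by decide +kernel
  dual := by decide +kernel


theorem rootSubgroup_le_XS (F : Type u) [Field F] {S : List ℕ} {r : ℕ} (hr : r ∈ S) :
    chevF4.rootSubgroup F r ≤ XS F chevF4 S := by
  refine Subgroup.closure_mono ?_
  rintro g ⟨t, hg⟩
  exact ⟨r, hr, t, hg⟩

theorem XS2_eq (F : Type u) [Field F] [CharP F 2] : XS F chevF4 M2 =
    chevF4.rootSubgroup F 33 ⊔ chevF4.rootSubgroup F 14 ⊔ chevF4.rootSubgroup F 24 ⊔ chevF4.rootSubgroup F 23 ⊔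
      Subgroup.closure {g : GL chevF4.Idx F | ∃ (r : ℕ) (c : F), chevF4.IsPosRoot r ∧ r ∉ [27, 25, 34, 26] ∧
        (g : Matrix chevF4.Idx chevF4.Idx F) = chevF4.x F r c} := by
  have hD : InList chevF4 := by simp [InList]
  have G : Good chevF4 := Cfsg.Agent.ChevalleyStructure.RootComb.good_of_mem hD
  apply le_antisymm
  · rw [XS_le_iff hD]
    intro s hs c
    have h : ∀ s ∈ M2, (s = 14 ∨ s = 23) ∨ (s < chevF4.nroots ∧ chevF4.nroots / 2 ≤ s ∧ s ∉ [27, 25, 34, 26]) := by
      decide +kernel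
    rcases h s hs with (rfl | rfl) | ⟨h1, h2, h3⟩
    · exact Subgroup.mem_sup_left (Subgroup.mem_sup_left (Subgroup.mem_sup_left (Subgroup.mem_sup_right
        (xG_mem_rootSubgroup hD _ c))))
    · exact Subgroup.mem_sup_left (Subgroup.mem_sup_right (xG_mem_rootSubgroup hD _ c))
    · exact Subgroup.mem_sup_right (Subgroup.subset_closure ⟨s, c, G.isPosRoot_iff.2 ⟨h2, h1⟩, h3, rfl⟩)
  · refine sup_le (sup_le (sup_le (sup_le (rootSubgroup_le_XS F (by decide)) (rootSubgroup_le_XS F (by decide)))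
      (rootSubgroup_le_XS F (by decide))) (rootSubgroup_le_XS F (by decide))) ((Subgroup.closure_le _).2 ?_)
    rintro g ⟨r, c, hr, hr', hg⟩
    refine Subgroup.subset_closure ⟨r, ?_, c, hg⟩
    have h1 := G.isPosRoot_iff.1 hr
    have h2 : ∀ r < chevF4.nroots, chevF4.nroots / 2 ≤ r → r ∈ M2 ∨ r ∈ [27, 25, 34, 26] := by decide +kernel
    exact (h2 r hr.1 h1.1).resolve_right hr'

theorem XS1_eq (F : Type u) [Field F] [CharP F 2] : XS F chevF4 M1 =
    chevF4.posUnipotent F ⊔ chevF4.rootSubgroup F 20 ⊔ chevF4.rootSubgroup F 22 := by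
  have hD : InList chevF4 := by simp [InList]
  have G : Good chevF4 := Cfsg.Agent.ChevalleyStructure.RootComb.good_of_mem hD
  set K : Subgroup (GL chevF4.Idx F) := chevF4.posUnipotent F ⊔ chevF4.rootSubgroup F 20 ⊔ chevF4.rootSubgroup F 22
    with hK
  have hpos : ∀ r, chevF4.IsPosRoot r → ∀ c : F, xG hD r c ∈ K := fun r hr c =>
    Subgroup.mem_sup_left (Subgroup.mem_sup_left (xG_mem_posUnipotent hD hr c))
  have h20 : ∀ c : F, xG hD 20 c ∈ K := fun c =>
    Subgroup.mem_sup_left (Subgroup.mem_sup_right (xG_mem_rootSubgroup hD _ c))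
  have h22 : ∀ c : F, xG hD 22 c ∈ K := fun c => Subgroup.mem_sup_right (xG_mem_rootSubgroup hD _ c)
  -- conjugating by `n_i`
  have hstep : ∀ i < chevF4.rank, xG hD (chevF4.simple i) (1 : F) ∈ K →
      xG hD (chevF4.neg (chevF4.simple i)) (-(1 : F)⁻¹) ∈ K → ∀ r < chevF4.nroots, (∀ c : F, xG hD r c ∈ K) →
      ∀ c : F, xG hD (chevF4.reflectRoot i r) c ∈ K := by
    intro i hi h1 h2 r hr h3 c
    have hn : nG hD (chevF4.simple i) (1 : F) ∈ K := by
      rw [nG_def]
      exact Subgroup.mul_mem _ h1 (Subgroup.mul_mem _ h2 h1)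
    have h4 := acts_nG_simple (F := F) hD hi r hr
    have h5 : xG hD (chevF4.reflectRoot i r) c ∈ chevF4.rootSubgroup F (wact chevF4 [i] r) :=
      xG_mem_rootSubgroup hD _ c
    rw [← h4] at h5
    obtain ⟨y, hy, e⟩ := h5
    have e' : nG hD (chevF4.simple i) (1 : F) * y * (nG hD (chevF4.simple i) (1 : F))⁻¹ =
        xG hD (chevF4.reflectRoot i r) c := e
    obtain ⟨d, hd⟩ := (mem_rootSubgroup_iff hD _ _).1 hy
    rw [← e', hd]
    exact Subgroup.mul_mem _ (Subgroup.mul_mem _ hn (h3 d)) (Subgroup.inv_mem _ hn)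
  have h17 : ∀ c : F, xG hD 17 c ∈ K := by
    have h := hstep 1 (by decide) (hpos _ (G.isPosRoot_iff.2 (by decide +kernel)) 1) (h20 _) 22 (by decide +kernel) h22
    exact h
  have h19 : ∀ c : F, xG hD 19 c ∈ K := by
    have h := hstep 2 (by decide) (hpos _ (G.isPosRoot_iff.2 (by decide +kernel)) 1) (h22 _) 20 (by decide +kernel) h20
    exact h
  apply le_antisymm
  · rw [XS_le_iff hD]
    intro s hs c
    have h : ∀ s ∈ M1, (s = 17 ∨ s = 19 ∨ s = 20 ∨ s = 22) ∨ (s < chevF4.nroots ∧ chevF4.nroots / 2 ≤ s) := by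
      decide +kernel
    rcases h s hs with (rfl | rfl | rfl | rfl) | ⟨h1, h2⟩
    · exact h17 c
    · exact h19 c
    · exact h20 c
    · exact h22 c
    · exact hpos s (G.isPosRoot_iff.2 ⟨h2, h1⟩) c
  · rw [hK]
    refine sup_le (sup_le ((posUnipotent_le_iff hD _).2 fun r hr t => ?_) (rootSubgroup_le_XS F (by decide)))
      (rootSubgroup_le_XS F (by decide))
    have h1 := G.isPosRoot_iff.1 hr
    have h2 : ∀ r < chevF4.nroots, chevF4.nroots / 2 ≤ r → r ∈ M1 := by decide +kernel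
    exact xG_mem_XS hD (h2 r hr.1 h1.1) t

/-- Centralizers of the two remaining classes of involutions in the Chevalley group G of type F₄ over a finite field F of characteristic two (this problem's root numbering for type F₄, from the Chevalley data module: p₁, p₂ short, p₃, p₄ long with indices 33, 27, 25, 24 and negatives 14, 20, 22, 23; U generated by the positive root subgroups). For an element of G with matrix x_47(1)x_44(1) (highest root times highest short root): its centralizer in G is generated by U, X_{−p₂} and X_{−p₃}. For an element of G with matrix x_39(1)x_45(1) (roots (1,2,2,1) and (2,4,2,1), an orthogonal short/long pair): its centralizer in G is generated by X_{p₁}, X_{−p₁}, X_{p₄}, X_{−p₄} and the root subgroups of all positive roots other than p₂ (27), p₃ (25), p₁ + p₂ (34) and p₃ + p₄ (26). -/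
theorem result {F : Type*} [Field F] [Fintype F] [CharP F 2] (w v : GL Cfsg.Lie.chevF4.Idx F) (hw : (w : Matrix Cfsg.Lie.chevF4.Idx Cfsg.Lie.chevF4.Idx F) = Cfsg.Lie.chevF4.x F 47 1 * Cfsg.Lie.chevF4.x F 44 1) (hv : (v : Matrix Cfsg.Lie.chevF4.Idx Cfsg.Lie.chevF4.Idx F) = Cfsg.Lie.chevF4.x F 39 1 * Cfsg.Lie.chevF4.x F 45 1) :
    Cfsg.Lie.chevF4.group F ⊓ Subgroup.centralizer {w} = Cfsg.Lie.chevF4.posUnipotent F ⊔ Cfsg.Lie.chevF4.rootSubgroup F 20 ⊔ Cfsg.Lie.chevF4.rootSubgroup F 22 ∧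
    Cfsg.Lie.chevF4.group F ⊓ Subgroup.centralizer {v} = Cfsg.Lie.chevF4.rootSubgroup F 33 ⊔ Cfsg.Lie.chevF4.rootSubgroup F 14 ⊔ Cfsg.Lie.chevF4.rootSubgroup F 24 ⊔ Cfsg.Lie.chevF4.rootSubgroup F 23 ⊔
      Subgroup.closure {g : GL Cfsg.Lie.chevF4.Idx F | ∃ (r : ℕ) (c : F), Cfsg.Lie.chevF4.IsPosRoot r ∧ r ∉ [27, 25, 34, 26] ∧ (g : Matrix Cfsg.Lie.chevF4.Idx Cfsg.Lie.chevF4.Idx F) = Cfsg.Lie.chevF4.x F r c} := by
  have hD : InList chevF4 := by simp [InList]
  have e1 : w = tA F hD [47, 44] := by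
    apply Units.ext
    rw [hw]
    unfold tA
    rw [PA_cons, PA_cons, PA_nil, mul_one]
    rfl
  have e2 : v = tA F hD [39, 45] := by
    apply Units.ext
    rw [hv]
    unfold tA
    rw [PA_cons, PA_cons, PA_nil, mul_one]
    rfl
  rw [e1, e2]
  exact ⟨(cent hD dat1).trans (XS1_eq F), (cent hD dat2).trans (XS2_eq F)⟩

end Cfsg.Agent.S2179
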