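import Cfsg.Statements.S2344
import Cfsg.Agent.H117.OmegaOdd
import Cfsg.Agent.H120.Irr
set_option linter.all false

set_option autoImplicit false
open Cfsg

namespace Cfsg.Agent.S2344

/-- For a finite field F of odd order q > 3 and n ≥ 3, every irreducible complex representation of degree at least 2 of Ω_{2n+1}(F) (the commutator subgroup of the isometry group of the quadratic form x₀² + x₁y₁ + ⋯ + x_ny_n) has degree at least (q^{2n} − 1)/(q² − 1). -/
theorem result {F : Type*} [Field F] [Fintype F] (n : ℕ) (hn : 3 ≤ n) (hodd : Odd (Fintype.card F)) (h3 : 3 < Fintype.card F) :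
    (∀ (k : ℕ) (ρ : Representation ℂ (Cfsg.Omega F (Cfsg.quadFormOdd n F)) (Fin k → ℂ)), ρ.IsIrreducible → 2 ≤ k → (Fintype.card F ^ (2 * n) - 1) / (Fintype.card F ^ 2 - 1) ≤ k) := by
  intro k ρ hρ hk
  have h5 : 5 ≤ Fintype.card F := by
    obtain ⟨m, hm⟩ := hodd
    omega
  have h2 : (2 : F) ≠ 0 := by
    intro h
    have h1 : ringChar F = 2 := by
      have hd : ringChar F ∣ 2 := (ringChar.spec F 2).1 (by exact_mod_cast h)
      rcases (Nat.dvd_prime Nat.prime_two).1 hd with h1 | h1
      · exact absurd h1 (CharP.ringChar_ne_one)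
      · exact h1
    have h4 : Even (Fintype.card F) := by
      have := (FiniteField.even_card_iff_char_two (F := F)).1 h1
      exact Nat.even_iff.2 this
    exact (Nat.not_even_iff_odd.2 hodd) h4
  have hfr : Module.finrank ℂ (Fin k → ℂ) = k := Module.finrank_fin_fun ℂ
  have h6 := Cfsg.Agent.H117.omega_bound h2 h5 hn ρ
    (Cfsg.Agent.H120.exists_ne_one ρ hρ (by rw [hfr]; exact hk))
  rw [hfr] at h6
  have h7 := Cfsg.Agent.H117.tt_mul (Fintype.card F) n (by omega)
  have h8 : 0 < Fintype.card F ^ 2 - 1 := by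
    have : 5 ^ 2 ≤ Fintype.card F ^ 2 := Nat.pow_le_pow_left h5 2
    omega
  rw [← h7, Nat.mul_div_cancel _ h8]
  exact h6

end Cfsg.Agent.S2344
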