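import Cfsg.Statements.S2346
import Cfsg.Agent.H122.OrthMinus
set_option linter.all false

set_option autoImplicit false
open Cfsg

namespace Cfsg.Agent.S2346

/-- For a finite field F with q elements, n ≥ 4, and a, b ∈ F with z₁² + a z₁z₂ + b z₂² anisotropic, every irreducible complex representation of degree at least 2 of Ω⁻_{2n}(F) (the commutator subgroup of the isometry group of x₁y₁ + ⋯ + x_{n−1}y_{n−1} + z₁² + a z₁z₂ + b z₂²) has degree at least (q^n + 1)(q^{n−1} − q)/(q² − 1). -/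
theorem result {F : Type*} [Field F] [Fintype F] (n : ℕ) (hn : 4 ≤ n) (a b : F) (hab : ∀ z₁ z₂ : F, z₁ ^ 2 + a * z₁ * z₂ + b * z₂ ^ 2 = 0 → z₁ = 0 ∧ z₂ = 0) :
    (∀ (k : ℕ) (ρ : Representation ℂ (Cfsg.Omega F (Cfsg.quadFormMinus (n - 1) F a b)) (Fin k → ℂ)), ρ.IsIrreducible → 2 ≤ k → (Fintype.card F ^ n + 1) * (Fintype.card F ^ (n - 1) - Fintype.card F) / (Fintype.card F ^ 2 - 1) ≤ k) := by
  classical
  obtain ⟨m, rfl⟩ : ∃ m, n = m + 4 := ⟨n - 4, by omega⟩
  intro k ρ hirr hk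
  rw [Cfsg.Agent.H122.OrthMinus.bound_minus Fintype.one_lt_card]
  have hm : m + 4 - 1 = m + 3 := by omega
  have hG : Cfsg.Agent.LieClassical.OrthTrans.Good (Cfsg.Agent.LieClassical.OrthForms.minusForm (m + 3) F a b) :=
    Cfsg.Agent.LieClassical.OrthFinite.good_of_finite
      (Cfsg.Agent.LieClassical.OrthForms.nondeg_minusForm (m + 3) F a b hab) (by
        rw [Module.finrank_fintype_fun_eq_card, Fintype.card_sum, Fintype.card_sum, Fintype.card_fin,
          Fintype.card_fin]; omega)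
  obtain ⟨e⟩ := Cfsg.Agent.H122.OrthPlus.omega_equiv hG
  rw [Cfsg.Agent.LieClassical.OrthForms.coe_minusForm] at e
  exact ((Cfsg.Agent.H122.OrthMinus.minDeg_minus a b hab m).congr e).irr k ρ hirr hk

end Cfsg.Agent.S2346
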