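import Mathlib
import Cfsg.Statements.S2272
import Cfsg.Agent.H105.CyclicVec
import Cfsg.Agent.H105.SLExt
set_option linter.all false

-- part: H105/TwoTrans
section
/-!
# Products of two conjugacy classes in a 2-transitive group

`G` acts 2-transitively on `Ω`, `b c : G`, and for all `g : G` the elements `g b g⁻¹` and `c` agree
on exactly `K` points. Then `K (N - 1) = (N - 1) + (f(b) - 1)(f(c) - 1)` and, when `g b g⁻¹` and
`c` have a common fixed point, they agree on no point moved by `c`.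
-/

set_option autoImplicit false

namespace Cfsg.Agent.H105

open Finset

variable {G Ω : Type*} [Group G] [Fintype G] [Fintype Ω] [DecidableEq Ω] [MulAction G Ω]

/-- number of points where `b` and `c` agree -/
def agree (c b : G) (Ω : Type*) [Fintype Ω] [DecidableEq Ω] [MulAction G Ω] : ℕ :=
  (univ.filter fun i : Ω => b • i = c • i).card

/-- number of fixed points -/
def nfix (b : G) (Ω : Type*) [Fintype Ω] [DecidableEq Ω] [MulAction G Ω] : ℕ :=
  (univ.filter fun i : Ω => b • i = i).card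

/-- the set of `g` with `g b g⁻¹ x = y` -/
def tset (b : G) (x y : Ω) : Finset G := univ.filter fun g : G => b • (g⁻¹ • x) = g⁻¹ • y

omit [Fintype G] [Fintype Ω] [DecidableEq Ω] in
theorem conj_smul_iff (b g : G) (x y : Ω) :
    b • (g⁻¹ • x) = g⁻¹ • y ↔ (g * b * g⁻¹) • x = y := by
  rw [mul_smul, mul_smul]
  constructor
  · intro h; rw [h, smul_inv_smul]
  · intro h; rw [← h, inv_smul_smul]

theorem mem_tset {b : G} {x y : Ω} {g : G} :
    g ∈ tset b x y ↔ (g * b * g⁻¹) • x = y := by
  unfold tset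
  rw [mem_filter]
  simp only [mem_univ, true_and, mul_smul]
  constructor
  · intro h; rw [h, smul_inv_smul]
  · intro h; rw [← h, inv_smul_smul]

theorem tset_smul (b : G) (x y : Ω) (h : G) : (tset b (h • x) (h • y)).card = (tset b x y).card := by
  refine card_bij (fun g _ => h⁻¹ * g) ?_ ?_ ?_
  · intro g hg
    unfold tset at hg ⊢
    rw [mem_filter] at hg ⊢
    refine ⟨mem_univ _, ?_⟩
    have := hg.2
    simpa [mul_inv_rev, mul_smul] using this
  · intro g _ g' _ hgg
    exact mul_left_cancel hgg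
  · intro g hg
    unfold tset at hg
    rw [mem_filter] at hg
    refine ⟨h * g, ?_, by simp⟩
    unfold tset
    rw [mem_filter]
    refine ⟨mem_univ _, ?_⟩
    simpa [mul_inv_rev, mul_smul] using hg.2

/-- the set of `g` with `g b g⁻¹` fixing `x` and `y` -/
def sset (b : G) (x y : Ω) : Finset G :=
  univ.filter fun g : G => b • (g⁻¹ • x) = g⁻¹ • x ∧ b • (g⁻¹ • y) = g⁻¹ • y

theorem sset_smul (b : G) (x y : Ω) (h : G) : (sset b (h • x) (h • y)).card = (sset b x y).card := by
  refine card_bij (fun g _ => h⁻¹ * g) ?_ ?_ ?_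
  · intro g hg
    unfold sset at hg ⊢
    rw [mem_filter] at hg ⊢
    refine ⟨mem_univ _, ?_⟩
    have := hg.2
    simpa [mul_inv_rev, mul_smul] using this
  · intro g _ g' _ hgg
    exact mul_left_cancel hgg
  · intro g hg
    unfold sset at hg
    rw [mem_filter] at hg
    refine ⟨h * g, ?_, by simp⟩
    unfold sset
    rw [mem_filter]
    refine ⟨mem_univ _, ?_⟩
    simpa [mul_inv_rev, mul_smul] using hg.2

theorem sum_tset_row (b : G) (x : Ω) : ∑ y : Ω, (tset b x y).card = Fintype.card G := by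
  have : ∑ y : Ω, (tset b x y).card = ∑ y : Ω, ∑ g : G, if b • (g⁻¹ • x) = g⁻¹ • y then 1 else 0 := by
    refine sum_congr rfl fun y _ => ?_
    unfold tset
    rw [card_filter]
  rw [this, sum_comm, ← card_univ, card_eq_sum_ones]
  refine sum_congr rfl fun g _ => ?_
  rw [Finset.sum_eq_single (g • (b • (g⁻¹ • x)))]
  · simp
  · intro y _ hy
    rw [if_neg]
    intro h
    apply hy
    rw [h]; simp
  · simp

theorem nfix_conj (b g : G) : nfix (g * b * g⁻¹) Ω = nfix b Ω := by
  unfold nfix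
  symm
  refine card_bij (fun i _ => g • i) ?_ ?_ ?_
  · intro i hi
    have hi := (mem_filter.mp hi).2
    rw [mem_filter]
    exact ⟨mem_univ _, by simp [mul_smul, hi]⟩
  · intro i _ j _ hij
    exact MulAction.injective g hij
  · intro j hj
    have hj := (mem_filter.mp hj).2
    refine ⟨g⁻¹ • j, ?_, by simp⟩
    rw [mem_filter]
    refine ⟨mem_univ _, ?_⟩
    apply MulAction.injective g
    simpa [mul_smul] using hj

theorem sum_tset_diag (b : G) : ∑ x : Ω, (tset b x x).card = Fintype.card G * nfix b Ω := by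
  have : ∑ x : Ω, (tset b x x).card = ∑ x : Ω, ∑ g : G, if b • (g⁻¹ • x) = g⁻¹ • x then 1 else 0 := by
    refine sum_congr rfl fun y _ => ?_
    unfold tset
    rw [card_filter]
  rw [this, sum_comm, ← card_univ (α := G), card_eq_sum_ones, sum_mul]
  refine sum_congr rfl fun g _ => ?_
  rw [one_mul, ← nfix_conj b g]
  unfold nfix
  rw [card_filter]
  refine sum_congr rfl fun x _ => ?_
  congr 1
  rw [eq_iff_iff, conj_smul_iff]

theorem sum_sset (b : G) : ∑ x : Ω, ∑ y : Ω, (sset b x y).card =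
    Fintype.card G * (nfix b Ω * nfix b Ω) := by
  have : ∑ x : Ω, ∑ y : Ω, (sset b x y).card = ∑ x : Ω, ∑ y : Ω, ∑ g : G,
      if b • (g⁻¹ • x) = g⁻¹ • x ∧ b • (g⁻¹ • y) = g⁻¹ • y then 1 else 0 := by
    refine sum_congr rfl fun x _ => sum_congr rfl fun y _ => ?_
    unfold sset
    rw [card_filter]
  rw [this]
  have h2 : ∀ x : Ω, ∑ y : Ω, ∑ g : G,
      (if b • (g⁻¹ • x) = g⁻¹ • x ∧ b • (g⁻¹ • y) = g⁻¹ • y then 1 else 0) =
      ∑ g : G, ∑ y : Ω,
      (if b • (g⁻¹ • x) = g⁻¹ • x ∧ b • (g⁻¹ • y) = g⁻¹ • y then 1 else 0) := fun x => sum_comm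
  simp_rw [h2]
  rw [sum_comm, ← card_univ (α := G), card_eq_sum_ones, sum_mul]
  refine sum_congr rfl fun g _ => ?_
  rw [one_mul, ← nfix_conj b g]
  unfold nfix
  rw [← card_product, ← sum_product', card_eq_sum_ones, ← sum_filter]
  refine sum_congr ?_ fun _ _ => rfl
  ext ⟨x, y⟩
  simp only [mem_filter, mem_product, mem_univ, true_and]
  rw [conj_smul_iff, conj_smul_iff]

section TwoTransitive

variable (h2 : ∀ x y x' y' : Ω, x ≠ y → x' ≠ y' → ∃ g : G, g • x = x' ∧ g • y = y')

include h2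

theorem one_of_two (hN : 2 ≤ Fintype.card Ω) (x x' : Ω) : ∃ g : G, g • x = x' := by
  obtain ⟨y, hy⟩ := Fintype.exists_ne_of_one_lt_card (by omega) x
  obtain ⟨y', hy'⟩ := Fintype.exists_ne_of_one_lt_card (by omega) x'
  obtain ⟨g, hg, -⟩ := h2 x y x' y' hy.symm hy'.symm
  exact ⟨g, hg⟩

/-- **The average.** -/
theorem two_trans_average (hN : 2 ≤ Fintype.card Ω) (b c : G) (K : ℕ)
    (hK : ∀ g : G, agree c (g * b * g⁻¹) Ω = K) :
    (K : ℤ) * (Fintype.card Ω - 1) =
      (Fintype.card Ω - 1) + (nfix b Ω - 1) * (nfix c Ω - 1) ∧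
    ∀ (x0 : Ω), (Fintype.card Ω : ℤ) * (tset b x0 x0).card = Fintype.card G * nfix b Ω := by
  have h2t : ∀ x y x' y' : Ω, x ≠ y → x' ≠ y' → (tset b x y).card = (tset b x' y').card := by
    intro x y x' y' hxy hxy'
    obtain ⟨g, hg1, hg2⟩ := h2 x y x' y' hxy hxy'
    rw [← tset_smul b x y g, hg1, hg2]
  have h1t : ∀ x x' : Ω, (tset b x x).card = (tset b x' x').card := by
    intro x x'
    obtain ⟨g, hg1⟩ := one_of_two h2 hN x x'
    rw [← tset_smul b x x g, hg1]
  obtain ⟨x0, x1, h01⟩ := Fintype.exists_pair_of_one_lt_card (α := Ω) (by omega)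
  set T0 := (tset b x0 x0).card with hT0
  set T1 := (tset b x0 x1).card with hT1
  have e1 : (Fintype.card Ω : ℤ) * T0 = Fintype.card G * nfix b Ω := by
    have h := sum_tset_diag (Ω := Ω) b
    rw [sum_congr rfl fun x _ => h1t x x0, sum_const, card_univ, smul_eq_mul] at h
    exact_mod_cast h
  have e2 : (T0 : ℤ) + (Fintype.card Ω - 1) * T1 = Fintype.card G := by
    have h3 := sum_tset_row b x0
    rw [← Finset.add_sum_erase univ _ (mem_univ x0)] at h3
    rw [sum_congr rfl (g := fun _ => T1)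
      (fun y hy => h2t x0 y x0 x1 (ne_of_mem_erase hy).symm h01),
      sum_const, card_erase_of_mem (mem_univ x0), card_univ, smul_eq_mul] at h3
    rw [← h3]
    push_cast
    rw [Nat.cast_sub (by omega)]
    push_cast
    ring
  have hgr : ∑ x : Ω, (tset b x (c • x)).card = Fintype.card G * K := by
    have : ∑ x : Ω, (tset b x (c • x)).card =
        ∑ x : Ω, ∑ g : G, if b • (g⁻¹ • x) = g⁻¹ • (c • x) then 1 else 0 := by
      refine sum_congr rfl fun y _ => ?_
      unfold tset
      rw [card_filter]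
    rw [this, sum_comm, ← card_univ (α := G), card_eq_sum_ones, sum_mul]
    refine sum_congr rfl fun g _ => ?_
    rw [one_mul, ← hK g]
    unfold agree
    rw [card_filter]
    refine sum_congr rfl fun x _ => ?_
    congr 1
    rw [eq_iff_iff, conj_smul_iff]
  have e3 : (Fintype.card G : ℤ) * K = nfix c Ω * T0 + (Fintype.card Ω - nfix c Ω) * T1 := by
    have h4 : ∀ x : Ω, (tset b x (c • x)).card = if c • x = x then T0 else T1 := by
      intro x
      by_cases hx : c • x = x
      · rw [if_pos hx, hx]; exact h1t x x0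
      · rw [if_neg hx]; exact h2t x (c • x) x0 x1 (fun h => hx h.symm) h01
    rw [sum_congr rfl (fun x _ => h4 x), sum_ite, sum_const, sum_const, smul_eq_mul,
      smul_eq_mul] at hgr
    have h5 : (univ.filter fun x : Ω => ¬ c • x = x).card = Fintype.card Ω - nfix c Ω := by
      have := card_filter_add_card_filter_not (s := (univ : Finset Ω)) (fun x => c • x = x)
      rw [card_univ] at this
      unfold nfix
      omega
    have h6 : nfix c Ω ≤ Fintype.card Ω := by
      have := card_filter_le (univ : Finset Ω) (fun x => c • x = x)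
      rw [card_univ] at this
      exact this
    have h7 : (univ.filter fun x : Ω => c • x = x).card = nfix c Ω := rfl
    rw [h5, h7] at hgr
    rw [← Nat.cast_mul, ← hgr]
    push_cast
    rw [Nat.cast_sub h6]
  have hG0 : (Fintype.card G : ℤ) ≠ 0 := by
    have : 0 < Fintype.card G := Fintype.card_pos
    exact_mod_cast this.ne'
  have hN0 : (Fintype.card Ω : ℤ) ≠ 0 := by
    have : 0 < Fintype.card Ω := by omega
    exact_mod_cast this.ne'
  refine ⟨?_, fun x => by rw [h1t x x0]; exact e1⟩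
  apply mul_left_cancel₀ hG0
  apply mul_left_cancel₀ hN0
  set N : ℤ := (Fintype.card Ω : ℤ)
  calc N * (Fintype.card G * (K * (N - 1))) = (Fintype.card G * K) * (N * (N - 1)) := by ring
    _ = nfix c Ω * (N - 1) * (N * T0) + (N - nfix c Ω) * (N * ((N - 1) * T1)) := by rw [e3]; ring
    _ = nfix c Ω * (N - 1) * (N * T0) + (N - nfix c Ω) * (N * Fintype.card G - N * T0) := by
        rw [← e2]; ring
    _ = N * (Fintype.card G * ((N - 1) + (nfix b Ω - 1) * (nfix c Ω - 1))) := by rw [e1]; ring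

/-- **Common fixed points.** If `g b g⁻¹` and `c` have a common fixed point, they do not agree on
a point moved by `c`. -/
theorem two_trans_common (hN : 2 ≤ Fintype.card Ω) (b c : G) (K : ℕ)
    (hK : ∀ g : G, agree c (g * b * g⁻¹) Ω = K) (g : G) (p w : Ω) (hcp : c • p = p)
    (hbp : (g * b * g⁻¹) • p = p) (hcw : c • w ≠ w) : (g * b * g⁻¹) • w ≠ c • w := by
  intro hbw
  obtain ⟨hav, hT⟩ := two_trans_average h2 hN b c K hK
  -- the sum over `g` of (common fixed points) * K
  set N : ℤ := (Fintype.card Ω : ℤ) with hNdef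
  obtain ⟨x0, x1, h01⟩ := Fintype.exists_pair_of_one_lt_card (α := Ω) (by omega)
  have h1t : ∀ x : Ω, (tset b x x).card = (tset b x0 x0).card := by
    intro x
    obtain ⟨g, hg1⟩ := one_of_two h2 hN x x0
    rw [← tset_smul b x x g, hg1]
  have hs2 : ∀ x y : Ω, x ≠ y → (sset b x y).card = (sset b x0 x1).card := by
    intro x y hxy
    obtain ⟨g, hg1, hg2⟩ := h2 x y x0 x1 hxy h01
    rw [← sset_smul b x y g, hg1, hg2]
  have hs1 : ∀ x : Ω, (sset b x x).card = (tset b x0 x0).card := by
    intro x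
    rw [← h1t x]
    unfold sset tset
    simp only [and_self]
  have hT0 := hT x0
  set T0 := (tset b x0 x0).card with hT0'
  set S2 := (sset b x0 x1).card with hS2'
  have inner : ∀ (F : Finset Ω) (x : Ω), x ∈ F → ∑ y ∈ F, (sset b x y).card = T0 + (F.card - 1) * S2 := by
    intro F x hx
    rw [← Finset.add_sum_erase F _ hx, hs1 x]
    rw [sum_congr rfl (g := fun _ => S2) (fun y hy => hs2 x y (ne_of_mem_erase hy).symm),
      sum_const, card_erase_of_mem hx, smul_eq_mul]
  have e2 : N * T0 + N * (N - 1) * S2 = Fintype.card G * (nfix b Ω * nfix b Ω) := by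
    have h := sum_sset (Ω := Ω) b
    rw [sum_congr rfl fun x _ => inner univ x (mem_univ x), sum_const, card_univ, smul_eq_mul] at h
    have h' : (Fintype.card Ω : ℤ) * (T0 + ((Fintype.card Ω - 1 : ℕ) : ℤ) * S2) =
        Fintype.card G * (nfix b Ω * nfix b Ω) := by exact_mod_cast h
    rw [Nat.cast_sub (by omega)] at h'
    rw [← h']
    push_cast
    ring
  let C : Finset Ω := univ.filter fun x : Ω => c • x = x
  have hCcard : C.card = nfix c Ω := rfl
  have hpC : p ∈ C := mem_filter.mpr ⟨mem_univ _, hcp⟩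
  -- count the triples
  have hZ : ∑ g : G, (univ.filter fun x : Ω => (g * b * g⁻¹) • x = x ∧ c • x = x).card *
      agree c (g * b * g⁻¹) Ω = K * (nfix c Ω * T0) := by
    have h3 : ∑ g : G, (univ.filter fun x : Ω => (g * b * g⁻¹) • x = x ∧ c • x = x).card =
        nfix c Ω * T0 := by
      have h4 : ∀ g : G, (univ.filter fun x : Ω => (g * b * g⁻¹) • x = x ∧ c • x = x).card =
          ∑ x ∈ C, if b • (g⁻¹ • x) = g⁻¹ • x then 1 else 0 := by
        intro g
        rw [← card_filter]
        congr 1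
        ext x
        simp only [C, mem_filter, mem_univ, true_and, conj_smul_iff]
        exact and_comm
      rw [sum_congr rfl fun g _ => h4 g, sum_comm]
      rw [sum_congr rfl (g := fun _ => T0) fun x _ => by
        rw [← card_filter]; exact h1t x]
      rw [sum_const, smul_eq_mul, hCcard]
    rw [← h3, mul_sum]
    refine sum_congr rfl fun g _ => ?_
    rw [hK g, mul_comm]
  have hZ2 : ∑ g : G, (univ.filter fun x : Ω => (g * b * g⁻¹) • x = x ∧ c • x = x).card *
      agree c (g * b * g⁻¹) Ω =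
      ∑ x ∈ C, ∑ y : Ω, (univ.filter fun g : G => b • (g⁻¹ • x) = g⁻¹ • x ∧
        b • (g⁻¹ • y) = g⁻¹ • (c • y)).card := by
    have h5 : ∀ g : G, (univ.filter fun x : Ω => (g * b * g⁻¹) • x = x ∧ c • x = x).card *
      agree c (g * b * g⁻¹) Ω = ∑ x ∈ C, ∑ y : Ω, if b • (g⁻¹ • x) = g⁻¹ • x ∧
        b • (g⁻¹ • y) = g⁻¹ • (c • y) then 1 else 0 := by
      intro g
      unfold agree
      rw [← card_product, ← sum_product', card_eq_sum_ones, ← sum_filter]
      refine sum_congr ?_ fun _ _ => rfl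
      ext ⟨x, y⟩
      simp only [C, mem_filter, mem_product, mem_univ, true_and, and_true, conj_smul_iff]
      tauto
    rw [sum_congr rfl fun g _ => h5 g, sum_comm]
    refine sum_congr rfl fun x _ => ?_
    rw [sum_comm]
    refine sum_congr rfl fun y _ => ?_
    rw [card_filter]
  have hlow : ∀ x ∈ C, T0 + (C.card - 1) * S2 ≤ ∑ y : Ω, (univ.filter fun g : G =>
      b • (g⁻¹ • x) = g⁻¹ • x ∧ b • (g⁻¹ • y) = g⁻¹ • (c • y)).card := by
    intro x hx
    rw [← inner C x hx]
    refine le_trans (le_of_eq ?_) (sum_le_sum_of_subset (subset_univ C))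
    refine sum_congr rfl fun y hy => ?_
    unfold sset
    rw [(mem_filter.mp hy).2]
  have hlow' : T0 + (C.card - 1) * S2 + 1 ≤ ∑ y : Ω, (univ.filter fun g : G =>
      b • (g⁻¹ • p) = g⁻¹ • p ∧ b • (g⁻¹ • y) = g⁻¹ • (c • y)).card := by
    rw [← inner C p hpC]
    have hw : w ∉ C := fun h => hcw (mem_filter.mp h).2
    have h6 : ∑ y ∈ insert w C, (univ.filter fun g : G =>
      b • (g⁻¹ • p) = g⁻¹ • p ∧ b • (g⁻¹ • y) = g⁻¹ • (c • y)).card ≤
        ∑ y : Ω, (univ.filter fun g : G =>
      b • (g⁻¹ • p) = g⁻¹ • p ∧ b • (g⁻¹ • y) = g⁻¹ • (c • y)).card :=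
      sum_le_sum_of_subset (subset_univ _)
    rw [sum_insert hw] at h6
    have h7 : 1 ≤ (univ.filter fun g : G =>
      b • (g⁻¹ • p) = g⁻¹ • p ∧ b • (g⁻¹ • w) = g⁻¹ • (c • w)).card := by
      apply card_pos.mpr
      refine ⟨g, mem_filter.mpr ⟨mem_univ _, ?_⟩⟩
      rw [conj_smul_iff, conj_smul_iff]
      exact ⟨hbp, hbw⟩
    have h8 : ∑ y ∈ C, (sset b p y).card = ∑ y ∈ C, (univ.filter fun g : G =>
      b • (g⁻¹ • p) = g⁻¹ • p ∧ b • (g⁻¹ • y) = g⁻¹ • (c • y)).card := by
      refine sum_congr rfl fun y hy => ?_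
      unfold sset
      rw [(mem_filter.mp hy).2]
    rw [h8]
    omega
  have hfin : C.card * (T0 + (C.card - 1) * S2) + 1 ≤ K * (nfix c Ω * T0) := by
    rw [← hZ, hZ2]
    have h9 : ∑ x ∈ C, (if x = p then T0 + (C.card - 1) * S2 + 1 else T0 + (C.card - 1) * S2) ≤
        ∑ x ∈ C, ∑ y : Ω, (univ.filter fun g : G => b • (g⁻¹ • x) = g⁻¹ • x ∧
        b • (g⁻¹ • y) = g⁻¹ • (c • y)).card := by
      refine sum_le_sum fun x hx => ?_
      by_cases hxp : x = p
      · rw [if_pos hxp, hxp]; exact hlow'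
      · rw [if_neg hxp]; exact hlow x hx
    refine le_trans (le_of_eq ?_) h9
    rw [← Finset.add_sum_erase C _ hpC, if_pos rfl,
      sum_congr rfl (g := fun _ => T0 + (C.card - 1) * S2) (fun x hx => if_neg (ne_of_mem_erase hx)),
      sum_const, card_erase_of_mem hpC, smul_eq_mul]
    have hCpos : 0 < C.card := card_pos.mpr ⟨p, hpC⟩
    obtain ⟨m, hm⟩ : ∃ m, C.card = m + 1 := ⟨C.card - 1, by omega⟩
    rw [hm]
    simp only [Nat.add_sub_cancel]
    ring
  have hCpos : 0 < C.card := card_pos.mpr ⟨p, hpC⟩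
  have hfinz : (nfix c Ω : ℤ) * (T0 + (nfix c Ω - 1) * S2) + 1 ≤ K * (nfix c Ω * T0) := by
    have h10 : ((C.card * (T0 + (C.card - 1) * S2) + 1 : ℕ) : ℤ) ≤ ((K * (nfix c Ω * T0) : ℕ) : ℤ) := by
      exact_mod_cast hfin
    push_cast at h10
    rw [Nat.cast_sub hCpos, hCcard] at h10
    push_cast at h10
    exact h10
  have hNpos : 0 < N * (N - 1) := by
    have : (2 : ℤ) ≤ N := by rw [hNdef]; exact_mod_cast hN
    nlinarith
  have h11 := mul_le_mul_of_nonneg_left hfinz hNpos.le
  -- evaluate both sides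
  have e3 : N * (N - 1) * (K * (nfix c Ω * T0)) =
      ((N - 1) + (nfix b Ω - 1) * (nfix c Ω - 1)) * nfix c Ω * (Fintype.card G * nfix b Ω) := by
    rw [← hav, ← hT0]; ring
  have e4 : N * (N - 1) * ((nfix c Ω : ℤ) * (T0 + (nfix c Ω - 1) * S2) + 1) =
      (nfix c Ω : ℤ) * (N - 1) * (N * T0) + nfix c Ω * (nfix c Ω - 1) * (N * (N - 1) * S2) +
        N * (N - 1) := by ring
  have e5 : N * (N - 1) * S2 = Fintype.card G * (nfix b Ω * nfix b Ω) - Fintype.card G * nfix b Ω := by
    rw [← e2, ← hT0]; ring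
  rw [e3, e4, e5, hT0] at h11
  nlinarith

end TwoTransitive

end Cfsg.Agent.H105
end

-- part: S2272
section
set_option autoImplicit false
open Cfsg

namespace Cfsg.Agent.S2272

open Cfsg.Agent.H105 Module Projectivization LinearAlgebra.Projectivization

section Main

variable {K V : Type*} [Field K] [Finite K] [AddCommGroup V] [Module K V] [FiniteDimensional K V]

theorem smul_mk_eq (g : SpecialLinearGroup K V) {v : V} (hv : v ≠ 0) (hw : g.1 v ≠ 0) :
    g • (Projectivization.mk K v hv) = Projectivization.mk K (g.1 v) hw := rfl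

theorem app_ne (g : SpecialLinearGroup K V) {v : V} (hv : v ≠ 0) : g.1 v ≠ 0 :=
  (LinearEquiv.map_ne_zero_iff g.1).mpr hv

theorem ne_zero_of_indep {n : ℕ} {v : Fin n → V} (h : LinearIndependent K v) (i : Fin n) :
    v i ≠ 0 := h.ne_zero i

theorem fix_iff (g : SpecialLinearGroup K V) {v : V} (hv : v ≠ 0) :
    g • (Projectivization.mk K v hv) = Projectivization.mk K v hv ↔ ∃ c : K, g.1 v = c • v := by
  rw [smul_mk_eq g hv (app_ne g hv), Projectivization.mk_eq_mk_iff']
  exact ⟨fun ⟨a, ha⟩ => ⟨a, ha.symm⟩, fun ⟨a, ha⟩ => ⟨a, ha.symm⟩⟩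

theorem mk_ne_of_indep {v w : V} (h : LinearIndependent K ![v, w]) (hv : v ≠ 0) (hw : w ≠ 0) :
    Projectivization.mk K v hv ≠ Projectivization.mk K w hw := by
  intro he
  rw [Projectivization.mk_eq_mk_iff'] at he
  obtain ⟨a, ha⟩ := he
  rw [LinearIndependent.pair_iff] at h
  have := (h 1 (-a) (by
    have : a • w = v := ha
    rw [← this]; module)).1
  exact one_ne_zero this

instance finSL : Finite (SpecialLinearGroup K V) := by
  have : Finite V := Module.finite_of_finite K
  exact Finite.of_injective (fun g : SpecialLinearGroup K V => (g.1 : V → V)) (by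
    intro g h hgh
    apply Subtype.ext
    exact LinearEquiv.ext (fun x => congrFun hgh x))

instance finP : Finite (ℙ K V) := by
  have : Finite V := Module.finite_of_finite K
  unfold Projectivization
  infer_instance

noncomputable instance fintypeSL : Fintype (SpecialLinearGroup K V) := Fintype.ofFinite _
noncomputable instance fintypeP : Fintype (ℙ K V) := Fintype.ofFinite _

theorem card_P (hd : 3 ≤ finrank K V) : 3 ≤ Fintype.card (ℙ K V) := by
  rw [← Nat.card_eq_fintype_card, Projectivization.card_of_finrank K V rfl]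
  have hq : 2 ≤ Nat.card K := Finite.one_lt_card
  have h1 : ∑ i ∈ Finset.range 3, Nat.card K ^ i ≤ ∑ i ∈ Finset.range (finrank K V), Nat.card K ^ i :=
    Finset.sum_le_sum_of_subset (Finset.range_mono hd)
  refine le_trans ?_ h1
  simp only [Finset.sum_range_succ, Finset.sum_range_zero, pow_zero, pow_one]
  nlinarith

theorem two_trans (x y x' y' : ℙ K V) (h : x ≠ y) (h' : x' ≠ y') :
    ∃ g : SpecialLinearGroup K V, g • x = x' ∧ g • y = y' := by
  have := Projectivization.specialLinearGroup_is_two_pretransitive K V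
  rw [MulAction.is_two_pretransitive_iff] at this
  exact this h h'

theorem pair_of_triple {a b c : V} (h : LinearIndependent K ![a, b, c]) :
    LinearIndependent K ![a, b] ∧ LinearIndependent K ![b, c] := by
  rw [Fintype.linearIndependent_iff] at h
  constructor
  · rw [LinearIndependent.pair_iff]
    intro s t hst
    have h5 := h ![s, t, 0] (by
      simp only [Fin.sum_univ_three, Matrix.cons_val_zero, Matrix.cons_val_one,
        Matrix.cons_val_two, Matrix.tail_cons, Matrix.head_cons]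
      rw [← hst]; module)
    exact ⟨h5 0, h5 1⟩
  · rw [LinearIndependent.pair_iff]
    intro s t hst
    have h5 := h ![0, s, t] (by
      simp only [Fin.sum_univ_three, Matrix.cons_val_zero, Matrix.cons_val_one,
        Matrix.cons_val_two, Matrix.tail_cons, Matrix.head_cons]
      rw [← hst]; module)
    exact ⟨h5 1, h5 2⟩

open scoped Classical in
/-- at least two agreements -/
theorem two_le_agree (b c : SpecialLinearGroup K V) {p q : ℙ K V} (hpq : p ≠ q)
    (hp : b • p = c • p) (hq : b • q = c • q) : 2 ≤ agree c b (ℙ K V) := by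
  unfold agree
  have : ({p, q} : Finset (ℙ K V)) ⊆ Finset.univ.filter fun i => b • i = c • i := by
    intro i hi
    simp only [Finset.mem_insert, Finset.mem_singleton] at hi
    rw [Finset.mem_filter]
    refine ⟨Finset.mem_univ _, ?_⟩
    rcases hi with rfl | rfl
    · exact hp
    · exact hq
  have := Finset.card_le_card this
  rwa [Finset.card_pair hpq] at this

open scoped Classical in
theorem caseA (hd : 3 ≤ finrank K V) (b c : SpecialLinearGroup K V)
    (hb : ∀ v : V, v ≠ 0 → LinearIndependent K ![v, b.1 v]) {z : V} (hz : z ≠ 0) {ζ : K}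
    (hc : c.1 z = ζ • z)
    (huniq : ∀ (v : V) (γ : K), v ≠ 0 → c.1 v = γ • v → v ∈ Submodule.span K {z}) :
    ∃ g : SpecialLinearGroup K V, 2 ≤ agree c (g * b * g⁻¹) (ℙ K V) := by
  obtain ⟨y, hy⟩ := exists_cyclic (C := (c.1 : V →ₗ[K] V)) hd hz hc huniq
  have happ : ∀ (g : SpecialLinearGroup K V) (u : V), (g * b * g⁻¹).1 (g.1 u) = g.1 (b.1 u) := by
    intro g u
    have : (g * b * g⁻¹).1 (g.1 u) = g.1 (b.1 (g.1.symm (g.1 u))) := rfl
    rw [this, LinearEquiv.symm_apply_apply]
  rcases cyclic_or_edges (B := (b.1 : V →ₗ[K] V)) hd hb with ⟨x, hx⟩ | ⟨x1, x2, hx⟩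
  · -- pattern `x → B x → B² x`
    obtain ⟨g, t, hg0, hg1⟩ := exists_sl hx hy 0
    have e0 : g.1 x = (t : K) • y := hg0
    have e1 : g.1 (b.1 x) = c.1 y := hg1 1 (by decide)
    have e2 : g.1 (b.1 (b.1 x)) = c.1 (c.1 y) := hg1 2 (by decide)
    have hy0 : y ≠ 0 := hy.ne_zero 0
    have hy1 : c.1 y ≠ 0 := hy.ne_zero 1
    have hy2 : c.1 (c.1 y) ≠ 0 := hy.ne_zero 2
    refine ⟨g, two_le_agree (g * b * g⁻¹) c (p := Projectivization.mk K y hy0)
      (q := Projectivization.mk K (c.1 y) hy1) (mk_ne_of_indep (pair_of_triple hy).1 _ _) ?_ ?_⟩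
    · have hty : (t : K) • y ≠ 0 := by simpa using hy0
      have h1 : Projectivization.mk K y hy0 = Projectivization.mk K ((t : K) • y) hty := by
        rw [Projectivization.mk_eq_mk_iff']
        exact ⟨(t : K)⁻¹, by rw [smul_smul, inv_mul_cancel₀ t.ne_zero, one_smul]⟩
      rw [smul_mk_eq c hy0 hy1, h1, smul_mk_eq (g * b * g⁻¹) hty (app_ne _ hty)]
      congr 1
      rw [← e0, happ, e1]
    · rw [smul_mk_eq c hy1 hy2, smul_mk_eq (g * b * g⁻¹) hy1 (app_ne _ hy1)]
      congr 1
      rw [← e1, happ, e2, e1]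
  · have hd4 : 4 ≤ finrank K V := by
      have := hx.fintype_card_le_finrank
      simpa using this
    obtain ⟨y2, hy2⟩ := edges_of_cyclic (C := (c.1 : V →ₗ[K] V)) hd4 hy
    obtain ⟨g, t, hg0, hg1⟩ := exists_sl hx hy2 0
    have e0 : g.1 x1 = (t : K) • y := hg0
    have e1 : g.1 (b.1 x1) = c.1 y := hg1 1 (by decide)
    have e2 : g.1 x2 = y2 := hg1 2 (by decide)
    have e3 : g.1 (b.1 x2) = c.1 y2 := hg1 3 (by decide)
    have k0 : y ≠ 0 := hy2.ne_zero 0
    have k1 : c.1 y ≠ 0 := hy2.ne_zero 1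
    have k2 : y2 ≠ 0 := hy2.ne_zero 2
    have k3 : c.1 y2 ≠ 0 := hy2.ne_zero 3
    have hyy : LinearIndependent K ![y, y2] := by
      rw [LinearIndependent.pair_iff]
      intro r s hrs
      rw [Fintype.linearIndependent_iff] at hy2
      have h5 := hy2 ![r, 0, s, 0] (by
        simp only [Fin.sum_univ_four, Matrix.cons_val_zero, Matrix.cons_val_one,
          Matrix.cons_val_two, Matrix.cons_val_three, Matrix.tail_cons, Matrix.head_cons]
        rw [← hrs]; module)
      exact ⟨h5 0, h5 2⟩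
    refine ⟨g, two_le_agree (g * b * g⁻¹) c (p := Projectivization.mk K y k0)
      (q := Projectivization.mk K y2 k2) (mk_ne_of_indep hyy _ _) ?_ ?_⟩
    · have hty : (t : K) • y ≠ 0 := by simpa using k0
      have h1 : Projectivization.mk K y k0 = Projectivization.mk K ((t : K) • y) hty := by
        rw [Projectivization.mk_eq_mk_iff']
        exact ⟨(t : K)⁻¹, by rw [smul_smul, inv_mul_cancel₀ t.ne_zero, one_smul]⟩
      rw [smul_mk_eq c k0 k1, h1, smul_mk_eq (g * b * g⁻¹) hty (app_ne _ hty)]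
      congr 1
      rw [← e0, happ, e1]
    · rw [smul_mk_eq c k2 k3, smul_mk_eq (g * b * g⁻¹) k2 (app_ne _ k2)]
      congr 1
      rw [← e2, happ, e3, e2]

open scoped Classical in
theorem indep_of_nfix {b : SpecialLinearGroup K V} (h : nfix b (ℙ K V) = 0) (v : V) (hv : v ≠ 0) :
    LinearIndependent K ![v, b.1 v] := by
  rw [LinearIndependent.pair_iff' hv]
  intro a ha
  unfold nfix at h
  rw [Finset.card_eq_zero, Finset.filter_eq_empty_iff] at h
  exact h (Finset.mem_univ (Projectivization.mk K v hv)) ((fix_iff b hv).mpr ⟨a, ha.symm⟩)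

open scoped Classical in
theorem nfix_lt {b : SpecialLinearGroup K V} (hb : ∃ v : V, LinearIndependent K ![v, b.1 v]) :
    nfix b (ℙ K V) < Fintype.card (ℙ K V) := by
  obtain ⟨v, hv⟩ := hb
  have hv0 : v ≠ 0 := hv.ne_zero 0
  unfold nfix
  refine Finset.card_lt_univ_of_notMem (x := Projectivization.mk K v hv0) ?_
  intro h
  obtain ⟨c, hc⟩ := (fix_iff b hv0).mp (Finset.mem_filter.mp h).2
  rw [LinearIndependent.pair_iff' hv0] at hv
  exact hv c hc.symm

open scoped Classical in
theorem caseA' (hd : 3 ≤ finrank K V) (b c : SpecialLinearGroup K V)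
    (hb : nfix b (ℙ K V) = 0) (hc : nfix c (ℙ K V) = 1) :
    ∃ g : SpecialLinearGroup K V, 2 ≤ agree c (g * b * g⁻¹) (ℙ K V) := by
  unfold nfix at hc
  obtain ⟨p, hp⟩ := Finset.card_eq_one.mp hc
  have hpm : p ∈ Finset.univ.filter fun i : ℙ K V => c • i = i := by rw [hp]; simp
  have hpf := (Finset.mem_filter.mp hpm).2
  induction p using Projectivization.ind with
  | _ z hz =>
    obtain ⟨ζ, hζ⟩ := (fix_iff c hz).mp hpf
    refine caseA hd b c (fun v hv => indep_of_nfix hb v hv) hz hζ ?_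
    intro v γ hv hγ
    have h1 : Projectivization.mk K v hv ∈ Finset.univ.filter fun i : ℙ K V => c • i = i :=
      Finset.mem_filter.mpr ⟨Finset.mem_univ _, (fix_iff c hv).mpr ⟨γ, hγ⟩⟩
    rw [hp, Finset.mem_singleton, Projectivization.mk_eq_mk_iff'] at h1
    obtain ⟨a, ha⟩ := h1
    exact Submodule.mem_span_singleton.mpr ⟨a, ha⟩

open scoped Classical in
theorem agree_comm (b c : SpecialLinearGroup K V) (g : SpecialLinearGroup K V) :
    agree b (g * c * g⁻¹) (ℙ K V) = agree c (g⁻¹ * b * g) (ℙ K V) := by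
  unfold agree
  refine Finset.card_bij (fun p _ => g⁻¹ • p) ?_ ?_ ?_
  · intro p hp
    have hp := (Finset.mem_filter.mp hp).2
    rw [Finset.mem_filter]
    refine ⟨Finset.mem_univ _, ?_⟩
    have h1 : (g⁻¹ * b * g) • g⁻¹ • p = g⁻¹ • (b • p) := by
      rw [smul_smul, smul_smul]; congr 1; group
    rw [h1, ← hp, smul_smul, smul_smul]; congr 1; group
  · intro p _ q _ hpq
    exact MulAction.injective _ hpq
  · intro p hp
    have hp := (Finset.mem_filter.mp hp).2
    refine ⟨g • p, ?_, by simp⟩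
    rw [Finset.mem_filter]
    refine ⟨Finset.mem_univ _, ?_⟩
    have h1 : (g * c * g⁻¹) • g • p = g • (c • p) := by
      rw [smul_smul, smul_smul]; congr 1; group
    rw [h1, ← hp, smul_smul, smul_smul]; congr 1; group

open scoped Classical in
theorem zero_case (hd : 3 ≤ finrank K V) (b c : SpecialLinearGroup K V)
    (hc : ∃ v : V, LinearIndependent K ![v, c.1 v]) (hb : nfix b (ℙ K V) = 0) (K0 : ℕ)
    (hK : ∀ g : SpecialLinearGroup K V, agree c (g * b * g⁻¹) (ℙ K V) = K0) : False := by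
  have hN := card_P (K := K) (V := V) hd
  obtain ⟨hav, -⟩ := two_trans_average two_trans (by omega) b c K0 hK
  have hlt := nfix_lt hc
  rw [hb] at hav
  have hNz : (3 : ℤ) ≤ Fintype.card (ℙ K V) := by exact_mod_cast hN
  have hltz : (nfix c (ℙ K V) : ℤ) < Fintype.card (ℙ K V) := by exact_mod_cast hlt
  have hc0 : (0 : ℤ) ≤ nfix c (ℙ K V) := by positivity
  have hK0 : (0 : ℤ) ≤ K0 := by positivity
  push_cast at hav
  have h1 : 1 ≤ (K0 : ℤ) := by
    by_contra hcon
    have : (K0 : ℤ) = 0 := by omega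
    rw [this] at hav
    linarith
  have h2 : (K0 : ℤ) < 2 := by
    by_contra hcon
    have : 2 ≤ (K0 : ℤ) := by omega
    nlinarith
  have h3 : (K0 : ℤ) = 1 := by omega
  rw [h3] at hav
  have h4 : nfix c (ℙ K V) = 1 := by
    have : (nfix c (ℙ K V) : ℤ) = 1 := by linarith
    exact_mod_cast this
  obtain ⟨g, hg⟩ := caseA' hd b c hb h4
  rw [hK g] at hg
  have : K0 = 1 := by exact_mod_cast h3
  omega

open scoped Classical in
/-- **Main theorem.** -/
theorem main (hd : 3 ≤ finrank K V) (b c : SpecialLinearGroup K V)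
    (hb : ∃ v : V, LinearIndependent K ![v, b.1 v]) (hc : ∃ v : V, LinearIndependent K ![v, c.1 v])
    (K0 : ℕ) (hK : ∀ g : SpecialLinearGroup K V, agree c (g * b * g⁻¹) (ℙ K V) = K0) : False := by
  have hN := card_P (K := K) (V := V) hd
  rcases Nat.eq_zero_or_pos (nfix b (ℙ K V)) with h0 | hbpos
  · exact zero_case hd b c hc h0 K0 hK
  rcases Nat.eq_zero_or_pos (nfix c (ℙ K V)) with h0 | hcpos
  · refine zero_case hd c b hb h0 K0 fun g => ?_
    rw [agree_comm, ← hK g⁻¹, inv_inv]
  -- both have fixed points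
  have ex : ∀ b : SpecialLinearGroup K V, 0 < nfix b (ℙ K V) →
      ∃ (x : V) (β : K), x ≠ 0 ∧ b.1 x = β • x := by
    intro b hb
    unfold nfix at hb
    obtain ⟨p, hp⟩ := Finset.card_pos.mp hb
    have hpf := (Finset.mem_filter.mp hp).2
    induction p using Projectivization.ind with
    | _ x hx =>
      obtain ⟨β, hβ⟩ := (fix_iff b hx).mp hpf
      exact ⟨x, β, hx, hβ⟩
  obtain ⟨x0, β0, hx0, hbx0⟩ := ex b hbpos
  obtain ⟨y0, γ0, hy0, hcy0⟩ := ex c hcpos
  obtain ⟨x, x2, β, hbx, hx⟩ := exists_eigen_edge (B := (b.1 : V →ₗ[K] V)) hd hx0 hbx0 hb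
  obtain ⟨y, y2, γ, hcy, hy⟩ := exists_eigen_edge (B := (c.1 : V →ₗ[K] V)) hd hy0 hcy0 hc
  have hbx' : b.1 x = β • x := hbx
  have hcy' : c.1 y = γ • y := hcy
  obtain ⟨g, t, hg0, hg1⟩ := exists_sl hx hy 0
  have e0 : g.1 x = (t : K) • y := hg0
  have e1 : g.1 x2 = y2 := hg1 1 (by decide)
  have e2 : g.1 (b.1 x2) = c.1 y2 := hg1 2 (by decide)
  have happ : ∀ (u : V), (g * b * g⁻¹).1 (g.1 u) = g.1 (b.1 u) := by
    intro u
    have : (g * b * g⁻¹).1 (g.1 u) = g.1 (b.1 (g.1.symm (g.1 u))) := rfl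
    rw [this, LinearEquiv.symm_apply_apply]
  have k0 : y ≠ 0 := hy.ne_zero 0
  have k1 : y2 ≠ 0 := hy.ne_zero 1
  have k2 : c.1 y2 ≠ 0 := hy.ne_zero 2
  refine two_trans_common two_trans (by omega) b c K0 hK g (Projectivization.mk K y k0)
    (Projectivization.mk K y2 k1) ((fix_iff c k0).mpr ⟨γ, hcy'⟩)
    ((fix_iff (g * b * g⁻¹) k0).mpr ⟨β, ?_⟩) ?_ ?_
  · have h1 : (t : K) • ((g * b * g⁻¹).1 y) = (t : K) • (β • y) := by
      rw [← map_smul, ← e0, happ, hbx', map_smul, e0, smul_comm]
    exact smul_right_injective V t.ne_zero h1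
  · intro h
    obtain ⟨a, ha⟩ := (fix_iff c k1).mp h
    have hp := (pair_of_triple hy).2
    rw [LinearIndependent.pair_iff' k1] at hp
    exact hp a ha.symm
  · rw [smul_mk_eq c k1 k2, smul_mk_eq (g * b * g⁻¹) k1 (app_ne _ k1)]
    congr 1
    rw [← e1, happ, e2, e1]

end Main

open scoped Classical in
/-- Let F be a finite field and d ≥ 3, and let a, b be non-identity elements of PSL_d(F). Then the product of the conjugacy classes of a and b is not a single conjugacy class: there are conjugates a′ of a and b′ of b such that a′b′ is not conjugate to ab. -/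
theorem result {F : Type*} [Field F] [Fintype F] (d : ℕ) (hd : 3 ≤ d)
    (a b : Matrix.ProjectiveSpecialLinearGroup (Fin d) F) (ha : a ≠ 1) (hb : b ≠ 1) :
    ∃ g h : Matrix.ProjectiveSpecialLinearGroup (Fin d) F, ¬ IsConj (a * b) (g * a * g⁻¹ * (h * b * h⁻¹)) := by
  by_contra hcon
  push Not at hcon
  obtain ⟨A, rfl⟩ := QuotientGroup.mk_surjective a
  obtain ⟨B, rfl⟩ := QuotientGroup.mk_surjective b
  let φ := Matrix.SpecialLinearGroup.toLin'_equiv (R := F) (n := Fin d)
  have hns : ∀ A : Matrix.SpecialLinearGroup (Fin d) F,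
      (QuotientGroup.mk A : Matrix.ProjectiveSpecialLinearGroup (Fin d) F) ≠ 1 →
      ∃ v : Fin d → F, LinearIndependent F ![v, (φ A).1 v] := by
    intro A hA
    by_contra hcon2
    push Not at hcon2
    apply hA
    rw [QuotientGroup.eq_one_iff, ← Projectivization.SL_mulAction_ker, MonoidHom.mem_ker]
    apply Equiv.ext
    intro p
    induction p using Projectivization.ind with
    | _ v hv =>
      have h1 := hcon2 v
      rw [LinearIndependent.pair_iff' hv] at h1
      push Not at h1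
      obtain ⟨c, hc⟩ := h1
      show A • (Projectivization.mk F v hv) = Projectivization.mk F v hv
      rw [Projectivization.matrixSpecialLinearGroup_smul_def]
      exact (fix_iff (φ A) hv).mpr ⟨c, hc.symm⟩
  have hfd : 3 ≤ finrank F (Fin d → F) := by simpa using hd
  -- fixed points in PSL
  let nf : Matrix.ProjectiveSpecialLinearGroup (Fin d) F → ℕ := fun x => nfix x (ℙ F (Fin d → F))
  have hnf : ∀ x y, IsConj x y → nf x = nf y := by
    intro x y hxy
    obtain ⟨c, hc⟩ := isConj_iff.mp hxy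
    rw [← hc]
    exact (nfix_conj x c).symm
  refine main hfd (φ B) (φ A)⁻¹ (hns B hb) ?_ (nf (QuotientGroup.mk A * QuotientGroup.mk B)) ?_
  · obtain ⟨v, hv⟩ := hns A ha
    have hv1 : (φ A).1 v ≠ 0 := hv.ne_zero 1
    refine ⟨(φ A).1 v, ?_⟩
    have h1 : ((φ A)⁻¹ : SpecialLinearGroup F (Fin d → F)).1 ((φ A).1 v) = v := by
      show (φ A).1.symm ((φ A).1 v) = v
      rw [LinearEquiv.symm_apply_apply]
    rw [h1]
    rw [LinearIndependent.pair_iff] at hv ⊢
    intro s t hst
    have := hv t s (by rw [← hst, add_comm])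
    exact ⟨this.2, this.1⟩
  · intro g
    obtain ⟨g0, rfl⟩ := φ.surjective g
    have h1 := hnf _ _ (hcon 1 (QuotientGroup.mk g0))
    rw [h1]
    show _ = nfix _ (ℙ F (Fin d → F))
    unfold agree nfix
    congr 1
    ext p
    simp only [Finset.mem_filter, Finset.mem_univ, true_and]
    have h2 : (1 * (QuotientGroup.mk A : Matrix.ProjectiveSpecialLinearGroup (Fin d) F) * 1⁻¹ *
        (QuotientGroup.mk g0 * QuotientGroup.mk B * (QuotientGroup.mk g0)⁻¹)) • p =
        (φ A) • ((φ g0 * φ B * (φ g0)⁻¹) • p) := by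
      have h3 : (1 * (QuotientGroup.mk A : Matrix.ProjectiveSpecialLinearGroup (Fin d) F) * 1⁻¹ *
        (QuotientGroup.mk g0 * QuotientGroup.mk B * (QuotientGroup.mk g0)⁻¹)) =
        ((A * (g0 * B * g0⁻¹) : Matrix.SpecialLinearGroup (Fin d) F) :
          Matrix.ProjectiveSpecialLinearGroup (Fin d) F) := by
        simp
      rw [h3, Matrix.ProjectiveSpecialLinearGroup.smul_proj_mk,
        Projectivization.matrixSpecialLinearGroup_smul_def, ← mul_smul]
      congr 1
      show φ (A * (g0 * B * g0⁻¹)) = _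
      rw [map_mul, map_mul, map_mul, map_inv]
    rw [h2]
    constructor
    · intro h; rw [h, smul_inv_smul]
    · intro h
      exact eq_inv_smul_iff.mpr h

end Cfsg.Agent.S2272
end
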