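import Cfsg.Statements.S0063
import Mathlib.GroupTheory.Nilpotent
import Mathlib.GroupTheory.PGroup
import Mathlib.GroupTheory.SpecificGroups.Cyclic
set_option linter.all false

set_option autoImplicit false
open Cfsg

namespace Cfsg.Agent.S0063

theorem class_le_aux (p : ℕ) [Fact p.Prime] :
    ∀ (m : ℕ) (H : Type*) [Group H] [Finite H], Nat.card H = p ^ m → 1 < m →
      Group.nilpotencyClass H ≤ m - 1 := by
  have hp : p.Prime := Fact.out
  intro m
  induction m using Nat.strong_induction_on with
  | _ m ih =>
    intro H _ _ hH hm
    have hpg : IsPGroup p H := IsPGroup.of_card hH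
    have hnil : Group.IsNilpotent H := hpg.isNilpotent
    have : Nontrivial H := by
      rw [← Finite.one_lt_card_iff_nontrivial, hH]
      exact Nat.one_lt_pow (by omega) hp.one_lt
    -- order of the quotient
    have hcard : Nat.card H = Nat.card (H ⧸ Subgroup.center H) * Nat.card (Subgroup.center H) :=
      Subgroup.card_eq_card_quotient_mul_card_subgroup _
    obtain ⟨k, hk⟩ := (hpg.to_quotient (Subgroup.center H)).exists_card_eq
    obtain ⟨l, hl⟩ := (hpg.to_subgroup (Subgroup.center H)).exists_card_eq
    have hl0 : l ≠ 0 := by
      rintro rfl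
      have h1 : 1 < Nat.card (Subgroup.center H) :=
        (Subgroup.one_lt_card_iff_ne_bot _).mpr (ne_of_gt hpg.bot_lt_center)
      rw [hl, pow_zero] at h1
      exact lt_irrefl _ h1
    have hkl : k + l = m := by
      rw [hk, hl, ← pow_add, hH] at hcard
      exact (Nat.pow_right_injective hp.two_le hcard).symm
    by_cases hk1 : k ≤ 1
    · -- the quotient is cyclic
      have hcyc : IsCyclic (H ⧸ Subgroup.center H) := by
        interval_cases k
        · rw [pow_zero] at hk
          have : Subsingleton (H ⧸ Subgroup.center H) := (Nat.card_eq_one_iff_unique.mp hk).1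
          infer_instance
        · rw [pow_one] at hk
          exact isCyclic_of_prime_card hk
      have hcomm : IsMulCommutative H :=
        MonoidHom.isMulCommutative_of_isCyclic_of_ker_le_center
          (QuotientGroup.mk' (Subgroup.center H)) (by simp)
      have h1 : Group.nilpotencyClass H ≤ 1 :=
        Group.IsNilpotent.nilpotencyClass_le_one_iff.mpr hcomm
      omega
    · have h2 := ih k (by omega) (H ⧸ Subgroup.center H) hk (by omega)
      rw [Group.nilpotencyClass_eq_quotient_center_plus_one]
      omega

/-- A finite group of prime-power order p ^ m with m > 1 is nilpotent of class at most m - 1. -/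
theorem result {G : Type*} [Group G] [Finite G] (p m : ℕ) [Fact p.Prime]
    (hG : Nat.card G = p ^ m) (hm : 1 < m) : Group.nilpotencyClass G ≤ m - 1 :=
  class_le_aux p m G hG hm

end Cfsg.Agent.S0063
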