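import Cfsg.Agent.H92.ExtP
import Mathlib.LinearAlgebra.Matrix.ToLin
import Mathlib.LinearAlgebra.Dimension.Constructions
import Mathlib.GroupTheory.Nilpotent
import Mathlib.GroupTheory.SpecificGroups.Cyclic
import Mathlib.RingTheory.Adjoin.Basic
import Mathlib.Tactic
import Cfsg.Agent.ClassicalGeometry.GUBasic
import Cfsg.Agent.LieClassical.OrthCenter
import Cfsg.Agent.LieClassical.OmegaReindex
import Cfsg.Agent.S0279
import Cfsg.Agent.S0246
import Cfsg.Prelude.Def_Classification2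
import Cfsg.Agent.H603.SporElim
import Cfsg.Agent.S2378
import Cfsg.Agent.S1059
import Cfsg.Agent.S1062
import Cfsg.Agent.S1063
import Cfsg.Agent.S1064
import Cfsg.Agent.S1065
import Cfsg.Agent.H616.ExtPSL
import Cfsg.Agent.S0245
import Cfsg.Agent.S0292
import Cfsg.Agent.S0293
import Cfsg.Agent.S0294
import Cfsg.Agent.H868.ExtAlt
import Cfsg.Agent.H525.ExtTw
import Cfsg.Agent.OddHalf.Known
import Cfsg.Agent.LieClassical.FieldTransfer
import Cfsg.Prelude.Def_Transfer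
import Cfsg.Statements.S2215
import Cfsg.Agent.FastGrp
import Cfsg.Agent.Prune
set_option linter.all false
prune_inst 0x7ff1bcf85bb87fffffff7e77f7d5cdfdf9b8bfffe4def94bffe06bdf1fdf5b02c9c5f3ad0be390fe1ed6c21410e87b43fbffeeffea6fdc7ffffd5ff45ffbff9ffdf6bd00119488340f3c2ffee3f07f8e7f3fffffffffffffffffffffffffffbeffbfffffffff
open scoped Cfsg.Agent.FastGrp

-- part: H92/ExtLin
section
/-!
# Faithful linear representations of a nonabelian group of order `p³` (S2215)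

A nonabelian group of order `p³` (`p` odd) with a faithful representation in characteristic not `p` gives `p` nonzero
orthogonal idempotents `f_i` (`i < p`), permuted cyclically, commuting with the central element `z` of order `p`. The
elements `1 + (z - 1) f_i` generate an elementary abelian group of order at least `p³`.
-/

set_option autoImplicit false
set_option linter.unusedSectionVars false
set_option linter.deprecated false
set_option linter.unusedVariables false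

namespace Cfsg.Agent.H92.ExtLin

open Finset Matrix Cfsg.Agent.H92.ExtP

universe u v w

/-! ### nonabelian groups of order `p³` -/

section Grp

variable {P : Type u} [Group P]

/-- class two power formula -/
theorem mul_pow_of_central {b w c : P} (h : w * b = b * w * c) (hbc : c * b = b * c) (hwc : c * w = w * c) (n : ℕ) :
    (b * w) ^ n = b ^ n * w ^ n * c ^ (n * (n - 1) / 2) := by
  have hb : Commute c b := hbc
  have hw : Commute c w := hwc
  have h1 : ∀ n : ℕ, w ^ n * b = b * w ^ n * c ^ n := by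
    intro n
    induction n with
    | zero => simp
    | succ n ih =>
      calc w ^ (n + 1) * b = w ^ n * (w * b) := by rw [pow_succ]; group
        _ = w ^ n * b * w * c := by rw [h]; group
        _ = b * w ^ n * c ^ n * w * c := by rw [ih]
        _ = b * w ^ n * (c ^ n * w) * c := by group
        _ = b * w ^ n * (w * c ^ n) * c := by rw [(hw.pow_left n).eq]
        _ = b * w ^ (n + 1) * c ^ (n + 1) := by rw [pow_succ w, pow_succ c]; group
  induction n with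
  | zero => simp
  | succ n ih =>
    have h2 : (n + 1) * (n + 1 - 1) / 2 = n * (n - 1) / 2 + n := by
      rcases n with _ | n
      · simp
      · have e : (n + 1 + 1) * (n + 1) = (n + 1) * n + 2 * (n + 1) := by ring
        simp only [Nat.add_sub_cancel, e]
        omega
    rw [h2, pow_succ, ih]
    set k := n * (n - 1) / 2
    calc b ^ n * w ^ n * c ^ k * (b * w) = b ^ n * w ^ n * (c ^ k * b) * w := by group
      _ = b ^ n * w ^ n * (b * c ^ k) * w := by rw [(hb.pow_left k).eq]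
      _ = b ^ n * (w ^ n * b) * (c ^ k * w) := by group
      _ = b ^ n * (b * w ^ n * c ^ n) * (w * c ^ k) := by rw [h1, (hw.pow_left k).eq]
      _ = b ^ n * b * w ^ n * (c ^ n * w) * c ^ k := by group
      _ = b ^ n * b * w ^ n * (w * c ^ n) * c ^ k := by rw [(hw.pow_left n).eq]
      _ = b ^ (n + 1) * w ^ (n + 1) * (c ^ n * c ^ k) := by rw [pow_succ b, pow_succ w]; group
      _ = b ^ (n + 1) * w ^ (n + 1) * c ^ (k + n) := by rw [← pow_add, add_comm n k]

theorem exists_xyz {p : ℕ} [Fact p.Prime] (hp2 : p ≠ 2) (hP : Nat.card P = p ^ 3) {a b : P} (hab : a * b ≠ b * a) :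
    ∃ x y z : P, x ^ p = 1 ∧ z ^ p = 1 ∧ z ≠ 1 ∧ x * z = z * x ∧ y * z = z * y ∧ y * x = x * z * y := by
  classical
  have hp : p.Prime := Fact.out
  have hfin : Finite P := Nat.finite_of_card_ne_zero (by rw [hP]; exact pow_ne_zero _ hp.ne_zero)
  have hPp : IsPGroup p P := IsPGroup.of_card hP
  have hZd : Nat.card (Subgroup.center P) ∣ p ^ 3 := hP ▸ Subgroup.card_subgroup_dvd_card _
  obtain ⟨k, hk3, hk⟩ := (Nat.dvd_prime_pow hp).1 hZd
  have hnt : Nontrivial P := ⟨⟨a, 1, fun h => hab (by rw [h]; simp)⟩⟩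
  have hne : Nontrivial (Subgroup.center P) := hPp.center_nontrivial
  -- the quotient is not cyclic
  have hncyc : ∀ (G' : Type u) [Group G'] (f : P →* G'), IsCyclic G' → f.ker ≤ Subgroup.center P → False := by
    intro G' _ f hc hf
    exact hab ((MonoidHom.isMulCommutative_of_isCyclic_of_ker_le_center f hf).is_comm.comm a b)
  have hcardq : Nat.card (P ⧸ Subgroup.center P) * Nat.card (Subgroup.center P) = p ^ 3 := by
    rw [← Subgroup.card_eq_card_quotient_mul_card_subgroup, hP]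
  have hker : (QuotientGroup.mk' (Subgroup.center P)).ker ≤ Subgroup.center P := by
    rw [QuotientGroup.ker_mk']
  have hk1 : k = 1 := by
    have h0 : k ≠ 0 := by
      rintro rfl
      rw [pow_zero] at hk
      have : (1 : ℕ) < Nat.card (Subgroup.center P) := Finite.one_lt_card
      omega
    have h2 : k ≠ 2 := by
      rintro rfl
      have h1 : Nat.card (P ⧸ Subgroup.center P) = p := by
        rw [hk, pow_succ p 2, mul_comm] at hcardq
        exact Nat.eq_of_mul_eq_mul_left (pow_pos hp.pos 2) hcardq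
      have : IsCyclic (P ⧸ Subgroup.center P) := isCyclic_of_prime_card h1
      exact hncyc _ _ this hker
    have h3 : k ≠ 3 := by
      rintro rfl
      have h1 : Nat.card (P ⧸ Subgroup.center P) = 1 := by
        rw [hk] at hcardq
        exact Nat.eq_of_mul_eq_mul_right (pow_pos hp.pos 3) (hcardq.trans (one_mul _).symm)
      have : Subsingleton (P ⧸ Subgroup.center P) := (Nat.card_eq_one_iff_unique.1 h1).1
      have : IsCyclic (P ⧸ Subgroup.center P) := isCyclic_of_subsingleton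
      exact hncyc _ _ this hker
    omega
  rw [hk1, pow_one] at hk
  have hq2 : Nat.card (P ⧸ Subgroup.center P) = p ^ 2 := by
    rw [hk, pow_succ p 2] at hcardq
    exact Nat.eq_of_mul_eq_mul_right hp.pos hcardq
  have hcomm : ∀ u v : P, v⁻¹ * u⁻¹ * v * u ∈ Subgroup.center P := by
    intro u v
    rw [← QuotientGroup.eq_one_iff]
    have h1 := (IsPGroup.isMulCommutative_of_card_eq_prime_sq hq2).is_comm.comm
      (QuotientGroup.mk v : P ⧸ Subgroup.center P) (QuotientGroup.mk u)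
    rw [QuotientGroup.mk_mul, QuotientGroup.mk_mul, QuotientGroup.mk_mul, QuotientGroup.mk_inv, QuotientGroup.mk_inv,
      mul_assoc, h1]
    group
  have hzp : ∀ z ∈ Subgroup.center P, z ^ p = 1 := by
    intro z hz
    have h1 : (⟨z, hz⟩ : Subgroup.center P) ^ p = 1 := by rw [← hk]; exact pow_card_eq_one'
    exact congrArg Subtype.val h1
  have hpow : ∀ u : P, u ^ p ∈ Subgroup.center P := by
    intro u
    by_contra hu
    have h1 : (QuotientGroup.mk u : P ⧸ Subgroup.center P) ^ p ≠ 1 := by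
      rw [← QuotientGroup.mk_pow, Ne, QuotientGroup.eq_one_iff]
      exact hu
    have h2 : orderOf (QuotientGroup.mk u : P ⧸ Subgroup.center P) = Nat.card (P ⧸ Subgroup.center P) := by
      have h3 : orderOf (QuotientGroup.mk u : P ⧸ Subgroup.center P) ∣ p ^ 2 := hq2 ▸ orderOf_dvd_natCard _
      obtain ⟨j, hj, hj'⟩ := (Nat.dvd_prime_pow hp).1 h3
      rw [hj', hq2]
      congr 1
      by_contra hj2
      apply h1
      rw [← orderOf_dvd_iff_pow_eq_one, hj']
      exact (pow_dvd_pow p (show j ≤ 1 by omega)).trans (by rw [pow_one])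
    have h4 : IsCyclic (P ⧸ Subgroup.center P) := isCyclic_of_orderOf_eq_card _ h2
    exact hncyc _ _ h4 hker
  -- from a noncentral `x` of order `p`
  have key : ∀ x y : P, x ^ p = 1 → x * y ≠ y * x →
      ∃ x y z : P, x ^ p = 1 ∧ z ^ p = 1 ∧ z ≠ 1 ∧ x * z = z * x ∧ y * z = z * y ∧ y * x = x * z * y := by
    intro x y hx hxy
    have hz := hcomm y⁻¹ x
    refine ⟨x, y, x⁻¹ * y⁻¹⁻¹ * x * y⁻¹, hx, hzp _ hz, ?_, ?_, ?_, ?_⟩
    · intro h1
      apply hxy
      have h2 : y * x = x * y := by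
        have := congrArg (fun t => x * t * y) h1
        simpa only [mul_assoc, _root_.inv_inv, _root_.mul_inv_cancel_left, _root_.inv_mul_cancel, _root_.mul_one] using this
      exact h2.symm
    · exact (Subgroup.mem_center_iff.1 hz x)
    · exact (Subgroup.mem_center_iff.1 hz y)
    · group
  by_cases ha : a ^ p = 1
  · exact key a b ha hab
  by_cases hb : b ^ p = 1
  · exact key b a hb (Ne.symm hab)
  -- `b ^ p` is a power of `a ^ p`
  obtain ⟨m, hm⟩ : ∃ m : ℕ, (a ^ p) ^ m = (b ^ p)⁻¹ := by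
    have h1 : (⟨a ^ p, hpow a⟩ : Subgroup.center P) ≠ 1 := fun h => ha (congrArg Subtype.val h)
    have h2 : (⟨(b ^ p)⁻¹, inv_mem (hpow b)⟩ : Subgroup.center P) ∈
        Submonoid.powers (⟨a ^ p, hpow a⟩ : Subgroup.center P) := by
      have h3 := mem_zpowers_of_prime_card hk (g := ⟨a ^ p, hpow a⟩) (g' := ⟨(b ^ p)⁻¹, inv_mem (hpow b)⟩) h1
      exact mem_powers_iff_mem_zpowers.2 h3
    obtain ⟨m, hm⟩ := h2
    exact ⟨m, congrArg Subtype.val hm⟩
  set w := a ^ m with hw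
  set c := w⁻¹ * b⁻¹ * w * b with hc
  have hcZ : c ∈ Subgroup.center P := hcomm b w
  have h1 : (b * w) ^ p = b ^ p * w ^ p * c ^ (p * (p - 1) / 2) := by
    refine mul_pow_of_central ?_ (Subgroup.mem_center_iff.1 hcZ b).symm (Subgroup.mem_center_iff.1 hcZ w).symm p
    have h2 : w * b = b * w * (w⁻¹ * b⁻¹ * w * b) := by group
    rw [← hc] at h2
    exact h2
  have h2 : c ^ (p * (p - 1) / 2) = 1 := by
    have h3 : p ∣ p * (p - 1) / 2 := by
      obtain ⟨t, ht⟩ : 2 ∣ p - 1 := by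
        rcases hp.eq_two_or_odd' with h | h
        · exact absurd h hp2
        · obtain ⟨s, hs⟩ := h
          exact ⟨s, by omega⟩
      rw [ht, show p * (2 * t) = 2 * (p * t) by ring, Nat.mul_div_cancel_left _ (by norm_num)]
      exact dvd_mul_right _ _
    obtain ⟨s, hs⟩ := h3
    rw [hs, pow_mul, hzp c hcZ, one_pow]
  have h3 : (b * w) ^ p = 1 := by
    rw [h1, h2, mul_one, hw, ← pow_mul, mul_comm m p, pow_mul, hm, mul_inv_cancel]
  refine key (b * w) a h3 ?_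
  intro h4
  apply hab
  have h5 : a * w = w * a := by rw [hw, ← pow_succ', ← pow_succ]
  have h6 : b * a * w = a * b * w := by
    calc b * a * w = b * (a * w) := mul_assoc _ _ _
      _ = b * w * a := by rw [h5]; group
      _ = a * (b * w) := h4
      _ = a * b * w := by group
  exact (mul_right_cancel h6).symm

end Grp

/-! ### the idempotents -/

section Ring

variable (F : Type v) [Field F] {R : Type w} [Ring R] [Algebra F R] (p : ℕ)

/-- the average of the powers of `u` -/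
noncomputable def av (u : R) : R := (p : F)⁻¹ • ∑ k ∈ range p, u ^ k

/-- the idempotent `av (x z^i) (1 - av z)` -/
noncomputable def fi (x z : R) (i : ℕ) : R := av F p (x * z ^ i) * (1 - av F p z)

variable {F p}

theorem mul_av {u : R} (hu : u ^ p = 1) : u * av F p u = av F p u := by
  rw [av, mul_smul_comm, mul_sum]
  congr 1
  have h1 : ∑ k ∈ range p, u * u ^ k = ∑ k ∈ range p, u ^ (k + 1) := sum_congr rfl fun k _ => (pow_succ' u k).symm
  rw [h1]
  have h2 := sum_range_succ' (fun k => u ^ k) p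
  rw [sum_range_succ, hu, pow_zero] at h2
  exact (add_right_cancel h2).symm

theorem av_mul_of_fix (hp : (p : F) ≠ 0) {u e : R} (h : u * e = e) : av F p u * e = e := by
  have h1 : ∀ k : ℕ, u ^ k * e = e := by
    intro k
    induction k with
    | zero => rw [pow_zero, one_mul]
    | succ k ih => rw [pow_succ, mul_assoc, h, ih]
  rw [av, smul_mul_assoc, sum_mul, sum_congr rfl fun k _ => h1 k, sum_const, card_range, ← Nat.cast_smul_eq_nsmul F,
    smul_smul, inv_mul_cancel₀ hp, one_smul]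

theorem av_one (hp : (p : F) ≠ 0) : av F p (1 : R) = 1 := by
  have := av_mul_of_fix (F := F) (p := p) hp (u := (1 : R)) (e := 1) (one_mul 1)
  rwa [mul_one] at this

theorem av_mul_av (hp : (p : F) ≠ 0) {u : R} (hu : u ^ p = 1) : av F p u * av F p u = av F p u :=
  av_mul_of_fix hp (mul_av hu)

theorem commute_av {u w : R} (h : Commute w u) : Commute w (av F p u) := by
  rw [av]
  refine Commute.smul_right ?_ _
  exact Commute.sum_right _ _ _ fun k _ => h.pow_right k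

/-- `z ^ k` fixes `e` and `k` is prime to `p` : `z` fixes `e` -/
theorem fix_of_pow {z e : R} (hz : z ^ p = 1) {k : ℕ} (hk : Nat.Coprime k p) (hp1 : 1 < p) (h : z ^ k * e = e) :
    z * e = e := by
  obtain ⟨m, hm⟩ := Nat.exists_mul_mod_eq_one_of_coprime hk hp1
  have h1 : ∀ m : ℕ, (z ^ k) ^ m * e = e := by
    intro m
    induction m with
    | zero => rw [pow_zero, one_mul]
    | succ m ih => rw [pow_succ, mul_assoc, h, ih]
  have h2 : (z ^ k) ^ m = z := by
    rw [← pow_mul, ← Nat.div_add_mod (k * m) p, hm.2, pow_add, pow_mul, hz, one_pow, one_mul, pow_one]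
  have := h1 m
  rwa [h2] at this

theorem semiconj_av {y u u' : R} (h : y * u = u' * y) : y * av F p u = av F p u' * y := by
  have h1 : SemiconjBy y u u' := h
  rw [av, av, mul_smul_comm, smul_mul_assoc, mul_sum, sum_mul]
  congr 1
  exact sum_congr rfl fun k _ => (h1.pow_right k).eq

variable {x y z : R}

theorem semiconj_fi (hyz : y * z = z * y) (hyx : y * x = x * z * y) (i : ℕ) :
    y * fi F p x z i = fi F p x z (i + 1) * y := by
  have h1 : y * (x * z ^ i) = (x * z ^ (i + 1)) * y := by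
    have h2 : y * z ^ i = z ^ i * y := ((show Commute y z from hyz).pow_right i).eq
    rw [← mul_assoc, hyx, mul_assoc, mul_assoc, h2, pow_succ']
    simp only [mul_assoc]
  have h2 : y * (1 - av F p z) = (1 - av F p z) * y := by
    rw [mul_sub, sub_mul, mul_one, one_mul, semiconj_av hyz]
  rw [fi, fi, ← mul_assoc, semiconj_av h1, mul_assoc, h2, mul_assoc]

theorem fi_add (hz : z ^ p = 1) (i : ℕ) : fi F p x z (i + p) = fi F p x z i := by
  rw [fi, fi, pow_add, hz, mul_one]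

end Ring

section CommRing

variable {F : Type v} [Field F] {R : Type w} [CommRing R] [Algebra F R] {p : ℕ} [hpr : Fact p.Prime]
  {x z : R}

theorem cr_av_mul_fi (hp : (p : F) ≠ 0) (hz : z ^ p = 1) (i : ℕ) : av F p z * fi F p x z i = 0 := by
  have h := av_mul_av (F := F) (p := p) hp hz
  rw [fi]
  linear_combination (-av F p (x * z ^ i)) * h

theorem cr_pow (hx : x ^ p = 1) (hz : z ^ p = 1) (i : ℕ) : (x * z ^ i) ^ p = 1 := by
  rw [mul_pow, hx, ← pow_mul, mul_comm i p, pow_mul, hz, one_pow, one_mul]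

theorem cr_fi_mul_self (hp : (p : F) ≠ 0) (hx : x ^ p = 1) (hz : z ^ p = 1) (i : ℕ) :
    fi F p x z i * fi F p x z i = fi F p x z i := by
  have h := av_mul_av (F := F) (p := p) hp hz
  have h1 := av_mul_av (F := F) (p := p) hp (cr_pow hx hz i)
  rw [fi]
  set A := av F p (x * z ^ i)
  set Z := av F p z
  linear_combination (1 - Z) ^ 2 * h1 + A * h

theorem cr_fi_mul_lt (hp : (p : F) ≠ 0) (hx : x ^ p = 1) (hz : z ^ p = 1) {i j : ℕ} (hij : i < j) (hj : j < p) :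
    fi F p x z i * fi F p x z j = 0 := by
  have h := av_mul_av (F := F) (p := p) hp hz
  have h1 := mul_av (F := F) (cr_pow hx hz i)
  have h2 := mul_av (F := F) (cr_pow hx hz j)
  set A := av F p (x * z ^ i) with hA
  set B := av F p (x * z ^ j) with hB
  set Z := av F p z with hZ
  -- `z ^ (j - i)` fixes `A * B`
  obtain ⟨k, rfl⟩ : ∃ k, j = i + k := ⟨j - i, by omega⟩
  have h3 : z ^ k * (A * B) = A * B := by
    calc z ^ k * (A * B) = z ^ k * ((x * z ^ i) * A * B) := by rw [h1]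
      _ = A * ((x * z ^ (i + k)) * B) := by rw [pow_add]; ring
      _ = A * B := by rw [h2]
  have h4 : z * (A * B) = A * B := by
    refine fix_of_pow hz ?_ hpr.out.one_lt h3
    exact (Nat.coprime_of_lt_prime (by omega) (by omega) hpr.out).symm
  have h5 : Z * (A * B) = A * B := av_mul_of_fix hp h4
  rw [fi, fi]
  linear_combination (-1 + Z) * h5

theorem cr_fi_mul (hp : (p : F) ≠ 0) (hx : x ^ p = 1) (hz : z ^ p = 1) {i j : ℕ} (hij : i ≠ j) (hi : i < p)
    (hj : j < p) : fi F p x z i * fi F p x z j = 0 := by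
  rcases Nat.lt_or_gt_of_ne hij with h | h
  · exact cr_fi_mul_lt hp hx hz h hj
  · rw [mul_comm]; exact cr_fi_mul_lt hp hx hz h hi

theorem cr_sum_fi (hp : (p : F) ≠ 0) (hz : z ^ p = 1) :
    ∑ i ∈ range p, fi F p x z i = 1 - av F p z := by
  have h := av_mul_av (F := F) (p := p) hp hz
  have h1 : ∑ i ∈ range p, av F p (x * z ^ i) = ∑ k ∈ range p, x ^ k * av F p (z ^ k) := by
    simp only [av]
    rw [← smul_sum, sum_comm]
    simp only [mul_smul_comm, mul_sum]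
    rw [smul_sum]
    refine sum_congr rfl fun k _ => ?_
    congr 1
    refine sum_congr rfl fun i _ => ?_
    rw [mul_pow, ← pow_mul, ← pow_mul, mul_comm k i]
  have h2 : ∀ k ∈ range p, x ^ k * av F p (z ^ k) * (1 - av F p z) = if k = 0 then 1 - av F p z else 0 := by
    intro k hk
    rw [mem_range] at hk
    by_cases hk0 : k = 0
    · subst hk0
      rw [if_pos rfl, pow_zero, pow_zero, av_one hp, one_mul, one_mul]
    · rw [if_neg hk0]
      have h3 : z * av F p (z ^ k) = av F p (z ^ k) := by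
        refine fix_of_pow hz (Nat.coprime_of_lt_prime (by omega) hk hpr.out).symm hpr.out.one_lt (k := k) ?_
        refine mul_av ?_
        rw [← pow_mul, mul_comm, pow_mul, hz, one_pow]
      have h4 := av_mul_of_fix (F := F) hp h3
      linear_combination (-x ^ k) * h4
  have h5 : ∑ i ∈ range p, fi F p x z i = (∑ i ∈ range p, av F p (x * z ^ i)) * (1 - av F p z) := by
    rw [sum_mul]; rfl
  rw [h5, h1, sum_mul, sum_congr rfl h2, sum_ite_eq']
  rw [if_pos (mem_range.2 hpr.out.pos)]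

theorem cr_G_pow (hp : (p : F) ≠ 0) (hx : x ^ p = 1) (hz : z ^ p = 1) (i k : ℕ) :
    (1 + (z - 1) * fi F p x z i) ^ k = 1 + (z ^ k - 1) * fi F p x z i := by
  have h := cr_fi_mul_self (F := F) hp hx hz i
  set f := fi F p x z i
  induction k with
  | zero => simp
  | succ k ih =>
    rw [pow_succ, ih, pow_succ]
    linear_combination ((z ^ k - 1) * (z - 1)) * h

end CommRing

section Transfer

variable {F : Type v} [Field F] {R : Type w} [Ring R] [Algebra F R] {p : ℕ}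

theorem map_av {C : Type*} [Ring C] [Algebra F C] (φ : C →ₐ[F] R) (u : C) : φ (av F p u) = av F p (φ u) := by
  simp only [av, map_smul, map_sum, map_pow]

theorem map_fi {C : Type*} [Ring C] [Algebra F C] (φ : C →ₐ[F] R) (x z : C) (i : ℕ) :
    φ (fi F p x z i) = fi F p (φ x) (φ z) i := by
  simp only [fi, map_mul, map_sub, map_one, map_av, map_pow]

/-- a commutative algebra containing two commuting elements -/
theorem exists_comm {x z : R} (hxz : x * z = z * x) : ∃ (C : Type w) (_ : CommRing C) (_ : Algebra F C) (φ : C →ₐ[F] R),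
    Function.Injective φ ∧ ∃ x' z' : C, φ x' = x ∧ φ z' = z := by
  have hcomm : ∀ a ∈ ({x, z} : Set R), ∀ b ∈ ({x, z} : Set R), a * b = b * a := by
    rintro a (rfl | rfl) b (rfl | rfl)
    · rfl
    · exact hxz
    · exact hxz.symm
    · rfl
  let inst := Algebra.adjoinCommRingOfComm F hcomm
  refine ⟨Algebra.adjoin F ({x, z} : Set R), inst, inferInstanceAs (Algebra F (Algebra.adjoin F ({x, z} : Set R))),
    (Algebra.adjoin F ({x, z} : Set R)).val, Subtype.val_injective,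
    ⟨x, Algebra.subset_adjoin (by simp)⟩, ⟨z, Algebra.subset_adjoin (by simp)⟩, rfl, rfl⟩

variable [hpr : Fact p.Prime] {x z : R}

/-- all identities in one statement -/
theorem facts (hp : (p : F) ≠ 0) (hx : x ^ p = 1) (hz : z ^ p = 1) (hxz : x * z = z * x) :
    (∀ i, av F p z * fi F p x z i = 0) ∧ (∀ i, fi F p x z i * fi F p x z i = fi F p x z i) ∧
    (∀ i j, i ≠ j → i < p → j < p → fi F p x z i * fi F p x z j = 0) ∧
    (∑ i ∈ range p, fi F p x z i = 1 - av F p z) ∧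
    (∀ i k, (1 + (z - 1) * fi F p x z i) ^ k = 1 + (z ^ k - 1) * fi F p x z i) ∧
    (∀ i, z * fi F p x z i = fi F p x z i * z) ∧
    (∀ i j, (1 + (z - 1) * fi F p x z i) * (1 + (z - 1) * fi F p x z j) =
      (1 + (z - 1) * fi F p x z j) * (1 + (z - 1) * fi F p x z i)) := by
  obtain ⟨C, _, _, φ, hφ, x', z', rfl, rfl⟩ := exists_comm (F := F) hxz
  have hx' : x' ^ p = 1 := hφ (by rw [map_pow, hx, map_one])
  have hz' : z' ^ p = 1 := hφ (by rw [map_pow, hz, map_one])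
  refine ⟨fun i => ?_, fun i => ?_, fun i j hij hi hj => ?_, ?_, fun i k => ?_, fun i => ?_, fun i j => ?_⟩
  · rw [← map_av, ← map_fi, ← map_mul, cr_av_mul_fi hp hz', map_zero]
  · rw [← map_fi, ← map_mul, cr_fi_mul_self hp hx' hz']
  · rw [← map_fi, ← map_fi, ← map_mul, cr_fi_mul hp hx' hz' hij hi hj, map_zero]
  · rw [← map_av, ← map_one φ, ← map_sub, ← cr_sum_fi hp hz', map_sum]
    exact sum_congr rfl fun i _ => (map_fi φ x' z' i).symm
  · rw [← map_fi, ← map_one φ, ← map_sub, ← map_mul, ← map_add, ← map_pow, cr_G_pow hp hx' hz', ← map_pow,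
      ← map_sub, ← map_mul, ← map_add]
  · rw [← map_fi, ← map_mul, ← map_mul, mul_comm]
  · rw [← map_fi, ← map_fi, ← map_one φ, ← map_sub, ← map_mul, ← map_mul, ← map_add, ← map_add, ← map_mul,
      ← map_mul, mul_comm]

/-- the idempotents are not zero -/
theorem fi_ne_zero (hp : (p : F) ≠ 0) (hx : x ^ p = 1) (hz : z ^ p = 1) (hz1 : z ≠ 1) (hxz : x * z = z * x)
    {y y' : R} (hy : y' * y = 1) (hy2 : y * y' = 1) (hyz : y * z = z * y) (hyx : y * x = x * z * y) (i : ℕ) :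
    fi F p x z i ≠ 0 := by
  intro h0
  have h1 : ∀ k, fi F p x z (i + k) = 0 := by
    intro k
    induction k with
    | zero => exact h0
    | succ k ih =>
      have h2 := semiconj_fi (F := F) (p := p) hyz hyx (i + k)
      rw [ih, mul_zero] at h2
      have h3 : fi F p x z (i + k + 1) = fi F p x z (i + k + 1) * y * y' := by rw [mul_assoc, hy2, mul_one]
      rw [← h2, zero_mul] at h3
      exact h3
  have h2 : ∀ j, fi F p x z j = 0 := by
    intro j
    have h3 : ∀ m, fi F p x z (j + m * p) = fi F p x z j := by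
      intro m
      induction m with
      | zero => rw [zero_mul, add_zero]
      | succ m ih => rw [show j + (m + 1) * p = (j + m * p) + p by ring, fi_add hz, ih]
    rw [← h3 i]
    have h4 : ∃ k, j + i * p = i + k := by
      have : i ≤ i * p := Nat.le_mul_of_pos_right _ hpr.out.pos
      exact ⟨j + i * p - i, by omega⟩
    obtain ⟨k, hk⟩ := h4
    rw [hk]; exact h1 k
  obtain ⟨-, -, -, h3, -⟩ := facts (F := F) hp hx hz hxz
  rw [sum_congr rfl fun j _ => h2 j, sum_const_zero] at h3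
  have h4 : av F p z = 1 := (sub_eq_zero.1 h3.symm).symm
  have h5 := mul_av (F := F) hz
  rw [h4, mul_one] at h5
  exact hz1 h5

end Transfer

/-! ### the main statements -/

section Main

variable {X : Type u} [Group X]

/-- three commuting elements of order `p`, separated by subgroups, generate a commutative group of order `≥ p³` -/
theorem chain [Finite X] {p : ℕ} [hpr : Fact p.Prime] (hE : _root_.Cfsg.Agent.H92.ExtP.Ext p X) {h₀ h₁ h₂ : X}
    (h01 : h₀ * h₁ = h₁ * h₀) (h02 : h₀ * h₂ = h₂ * h₀) (h12 : h₁ * h₂ = h₂ * h₁)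
    (p0 : h₀ ^ p = 1) (p1 : h₁ ^ p = 1) (p2 : h₂ ^ p = 1) (S₁ S₂ : Subgroup X) (n0 : h₀ ≠ 1)
    (m1 : h₀ ∈ S₁) (n1 : h₁ ∉ S₁) (m2 : h₀ ∈ S₂) (m2' : h₁ ∈ S₂) (n2 : h₂ ∉ S₂) : False := by
  have hp : p.Prime := hpr.out
  set A := Subgroup.closure ({h₀, h₁, h₂} : Set X) with hA
  have hcomm : ∀ a ∈ ({h₀, h₁, h₂} : Set X), ∀ b ∈ ({h₀, h₁, h₂} : Set X), a * b = b * a := by
    rintro a (rfl | rfl | rfl) b (rfl | rfl | rfl) <;> first | rfl | assumption | (symm; assumption)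
  have hAc : ∀ a ∈ A, ∀ b ∈ A, a * b = b * a := by
    intro a ha b hb
    have h1 : A ≤ Subgroup.centralizer (A : Set X) := by
      rw [hA, Subgroup.closure_le]
      intro s hs
      rw [SetLike.mem_coe, Subgroup.mem_centralizer_iff]
      intro t ht
      have h2 : A ≤ Subgroup.centralizer ({s} : Set X) := by
        rw [hA, Subgroup.closure_le]
        intro r hr
        rw [SetLike.mem_coe, Subgroup.mem_centralizer_singleton_iff]
        exact hcomm _ hr _ hs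
      exact (Subgroup.mem_centralizer_singleton_iff.1 (h2 ht))
    exact (Subgroup.mem_centralizer_iff.1 (h1 hb) a ha)
  have g0 : h₀ ∈ A := Subgroup.subset_closure (by simp)
  have g1 : h₁ ∈ A := Subgroup.subset_closure (by simp)
  have g2 : h₂ ∈ A := Subgroup.subset_closure (by simp)
  have hexp : ∀ a ∈ A, a ^ p = 1 := by
    intro a ha
    refine Subgroup.closure_induction (p := fun a _ => a ^ p = 1) ?_ (one_pow p) ?_ ?_ ha
    · rintro a (rfl | rfl | rfl) <;> assumption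
    · intro a b ha hb ha' hb'
      rw [(show Commute a b from hAc a ha b hb).mul_pow, ha', hb', one_mul]
    · intro a _ ha'
      rw [inv_pow, ha', inv_one]
  have hAp : IsPGroup p A := fun a => ⟨1, by
    rw [pow_one]; exact Subtype.ext (hexp a.1 a.2)⟩
  -- orders
  have grow : ∀ H K : Subgroup X, K ≤ A → H < K → ∀ i, p ^ i ≤ Nat.card H → p ^ (i + 1) ≤ Nat.card K := by
    intro H K hK hHK i hi
    have hHp : IsPGroup p H := hAp.to_le (hHK.le.trans hK)
    have hKp : IsPGroup p K := hAp.to_le hK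
    obtain ⟨a, ha⟩ := IsPGroup.iff_card.1 hHp
    obtain ⟨b, hb⟩ := IsPGroup.iff_card.1 hKp
    have h1 : Nat.card H < Nat.card K := by
      by_contra hcon
      exact hHK.ne (Subgroup.eq_of_le_of_card_ge hHK.le (not_lt.1 hcon))
    rw [ha] at hi
    rw [ha, hb] at h1
    have h2 : i ≤ a := (Nat.pow_le_pow_iff_right hp.one_lt).1 hi
    have h3 : a < b := (Nat.pow_lt_pow_iff_right hp.one_lt).1 h1
    rw [hb]
    exact Nat.pow_le_pow_right hp.pos (by omega)
  have c0 : p ^ 0 ≤ Nat.card (⊥ : Subgroup X) := by simp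
  have c1 := grow ⊥ (A ⊓ S₂ ⊓ S₁) (inf_le_left.trans inf_le_left) (bot_lt_iff_ne_bot.2 fun h => n0 (by
    have : h₀ ∈ A ⊓ S₂ ⊓ S₁ := ⟨⟨g0, m2⟩, m1⟩
    rw [h] at this
    exact Subgroup.mem_bot.1 this)) 0 c0
  have c2 := grow (A ⊓ S₂ ⊓ S₁) (A ⊓ S₂) inf_le_left (lt_of_le_of_ne inf_le_left fun h => n1 (by
    have : h₁ ∈ A ⊓ S₂ := ⟨g1, m2'⟩
    rw [← h] at this
    exact this.2)) 1 c1
  have c3 := grow (A ⊓ S₂) A le_rfl (lt_of_le_of_ne inf_le_left fun h => n2 (by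
    have : h₂ ∈ A := g2
    rw [← h] at this
    exact this.2)) 2 c2
  obtain ⟨a, ha, b, hb, hab⟩ := hE.exists_ne hAp c3
  exact hab (hAc a ha b hb)

variable {F : Type v} [Field F] {R : Type w} [Ring R] [Algebra F R] {p : ℕ} [hpr : Fact p.Prime]

/-- the stabilizer of `e` -/
def stab (ρ : X →* R) (e : R) : Subgroup X where
  carrier := {g | ρ g * e = e}
  one_mem' := by simp only [_root_.Set.mem_ofPred_eq, _root_.map_one, _root_.one_mul]
  mul_mem' {a b} ha hb := by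
    simp only [Set.mem_setOf_eq] at ha hb ⊢
    rw [map_mul, mul_assoc, hb, ha]
  inv_mem' {a} ha := by
    simp only [Set.mem_setOf_eq] at ha ⊢
    calc ρ a⁻¹ * e = ρ a⁻¹ * (ρ a * e) := by rw [ha]
      _ = e := by rw [← mul_assoc, ← map_mul, inv_mul_cancel, map_one, one_mul]

/-- the closure property -/
def Cl (F : Type v) [Field F] [Algebra F R] (p : ℕ) (ρ : X →* R) : Prop :=
  ∀ x z : X, x ^ p = 1 → z ^ p = 1 → x * z = z * x → ∀ i, ∃ g : X, ρ g = 1 + (ρ z - 1) * fi F p (ρ x) (ρ z) i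

/-- the elements `x y z` -/
theorem exists_triple [Finite X] (hp2 : p ≠ 2) (hE : _root_.Cfsg.Agent.H92.ExtP.Ext p X) : ∃ x y z : X, x ^ p = 1 ∧ z ^ p = 1 ∧ z ≠ 1 ∧
    x * z = z * x ∧ y * z = z * y ∧ y * x = x * z * y := by
  have hp : p.Prime := hpr.out
  obtain ⟨A, hA⟩ := Sylow.exists_subgroup_card_pow_prime p hE.dvd
  obtain ⟨a, ha, b, hb, hab⟩ := hE.noncomm A hA
  obtain ⟨x, y, z, h1, h2, h3, h4, h5, h6⟩ := exists_xyz (P := A) hp2 hA (a := ⟨a, ha⟩) (b := ⟨b, hb⟩)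
    (fun h => hab (congrArg Subtype.val h))
  exact ⟨x, y, z, congrArg Subtype.val h1, congrArg Subtype.val h2, fun h => h3 (Subtype.ext h),
    congrArg Subtype.val h4, congrArg Subtype.val h5, congrArg Subtype.val h6⟩

/-- the elements `g i` -/
theorem exists_g [Finite X] (hpF : (p : F) ≠ 0) (ρ : X →* R) (hρ : Function.Injective ρ)
    {x y z : X} (h1 : x ^ p = 1) (h2 : z ^ p = 1) (h3 : z ≠ 1)
    (h4 : x * z = z * x) (h5 : y * z = z * y) (h6 : y * x = x * z * y) (hcl : Cl F p ρ) :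
    ∃ (g : ℕ → X) (f : ℕ → R), (∀ i, f i ≠ 0) ∧ (∀ i j, g i * g j = g j * g i) ∧ (∀ i, g i ^ p = 1) ∧
      (∀ i j, i ≠ j → i < p → j < p → ρ (g i) * f j = f j) ∧ (∀ i, ρ (g i) * f i ≠ f i) ∧
      (∀ i, g (i + 1) = y * g i * y⁻¹) := by
  have r1 : ρ x ^ p = 1 := by rw [← map_pow, h1, map_one]
  have r2 : ρ z ^ p = 1 := by rw [← map_pow, h2, map_one]
  have r3 : ρ z ≠ 1 := fun h => h3 (hρ (by rw [h, map_one]))
  have r4 : ρ x * ρ z = ρ z * ρ x := by rw [← map_mul, h4, map_mul]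
  have r5 : ρ y * ρ z = ρ z * ρ y := by rw [← map_mul, h5, map_mul]
  have r6 : ρ y * ρ x = ρ x * ρ z * ρ y := by rw [← map_mul, h6, map_mul, map_mul]
  have r7 : ρ y⁻¹ * ρ y = 1 := by rw [← map_mul, inv_mul_cancel, map_one]
  have r8 : ρ y * ρ y⁻¹ = 1 := by rw [← map_mul, mul_inv_cancel, map_one]
  obtain ⟨f1, f2, f3, f4, f5, f6, f7⟩ := facts (F := F) hpF r1 r2 r4
  have f8 := fi_ne_zero (F := F) hpF r1 r2 r3 r4 r7 r8 r5 r6
  choose g hg using hcl x z h1 h2 h4
  refine ⟨g, fi F p (ρ x) (ρ z), f8, fun i j => hρ ?_, fun i => hρ ?_, fun i j hij hi hj => ?_, fun i h => ?_,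
    fun i => hρ ?_⟩
  · rw [map_mul, map_mul, hg, hg, f7]
  · rw [map_pow, hg, f5, r2, sub_self, zero_mul, add_zero, map_one]
  · rw [hg, add_mul, one_mul, mul_assoc, f3 i j hij hi hj, mul_zero, add_zero]
  · rw [hg, add_mul, one_mul, mul_assoc, f2, sub_mul, one_mul] at h
    have h7 : ρ z * fi F p (ρ x) (ρ z) i = fi F p (ρ x) (ρ z) i := by
      have h8 := h
      rw [add_sub_cancel] at h8
      exact h8
    have h9 := av_mul_of_fix (F := F) hpF h7
    rw [f1] at h9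
    exact f8 i h9.symm
  · have h7 : ρ (g (i + 1)) * ρ y = ρ y * ρ (g i) := by
      rw [hg, hg, add_mul, mul_add, one_mul, mul_one, mul_assoc, ← semiconj_fi r5 r6, ← mul_assoc, ← mul_assoc, sub_mul,
        mul_sub, one_mul, mul_one, r5]
    rw [map_mul, map_mul, ← h7, mul_assoc, r8, mul_one]

/-- **Theorem A.** -/
theorem main [Finite X] (hp2 : p ≠ 2) (hpF : (p : F) ≠ 0) (ρ : X →* R) (hρ : Function.Injective ρ)
    (hcl : Cl F p ρ) : ¬ _root_.Cfsg.Agent.H92.ExtP.Ext p X := by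
  intro hE
  obtain ⟨x, y, z, h1, h2, h3, h4, h5, h6⟩ := exists_triple hp2 hE
  obtain ⟨g, f, a1, a2, a3, a4, a5, -⟩ := exists_g hpF ρ hρ h1 h2 h3 h4 h5 h6 hcl
  have hp3 : 3 ≤ p := by
    have := hpr.out.two_le
    omega
  refine chain hE (a2 0 1) (a2 0 2) (a2 1 2) (a3 0) (a3 1) (a3 2) (stab ρ (f 1)) (stab ρ (f 2)) ?_ ?_ ?_ ?_ ?_ ?_
  · intro h
    apply a5 0
    rw [h, map_one, one_mul]
  · exact a4 0 1 (by norm_num) (by omega) (by omega)
  · exact a5 1
  · exact a4 0 2 (by norm_num) (by omega) (by omega)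
  · exact a4 1 2 (by norm_num) (by omega) (by omega)
  · exact a5 2

/-- **Theorem B.** the commutator subgroup of a group closed under the construction, `p ≥ 5` -/
theorem main_comm [Finite X] (hp5 : 5 ≤ p) (hpF : (p : F) ≠ 0) (ρ : X →* R) (hρ : Function.Injective ρ)
    (hcl : Cl F p ρ) {Y : Subgroup X} (hY : commutator X ≤ Y) : ¬ _root_.Cfsg.Agent.H92.ExtP.Ext p Y := by
  intro hE
  obtain ⟨x, y, z, h1, h2, h3, h4, h5, h6⟩ := exists_triple (by omega) hE
  obtain ⟨g, f, a1, a2, a3, a4, a5, a6⟩ := exists_g (x := (x : X)) (y := y) (z := z) hpF ρ hρ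
    (congrArg Subtype.val h1) (congrArg Subtype.val h2) (fun h => h3 (Subtype.ext h))
    (congrArg Subtype.val h4) (congrArg Subtype.val h5) (congrArg Subtype.val h6) hcl
  have hg : ∀ i, g (i + 1) * (g i)⁻¹ ∈ Y := by
    intro i
    apply hY
    rw [a6]
    exact Subgroup.commutator_mem_commutator (Subgroup.mem_top (y : X)) (Subgroup.mem_top (g i))
  let h : ℕ → Y := fun i => ⟨g (i + 1) * (g i)⁻¹, hg i⟩
  have c : ∀ i j, Commute (g i) (g j) := a2
  have hc : ∀ i j, Commute (g (i + 1) * (g i)⁻¹) (g (j + 1) * (g j)⁻¹) := fun i j =>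
    ((c _ _).mul_left (c _ _).inv_left).mul_right ((c _ _).mul_left (c _ _).inv_left).inv_right
  have hh : ∀ i j, h i * h j = h j * h i := fun i j => Subtype.ext (hc i j).eq
  have hp' : ∀ i, h i ^ p = 1 := fun i => Subtype.ext (by
    change (g (i + 1) * (g i)⁻¹) ^ p = 1
    rw [((c (i + 1) i).inv_right).mul_pow, inv_pow, a3, a3, inv_one, one_mul])
  -- membership
  have k0 : ∀ i j, i < p → j < p → i ≠ j → g i ∈ stab ρ (f j) := fun i j hi hj hij => a4 i j hij hi hj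
  have k1 : ∀ i, g i ∉ stab ρ (f i) := fun i => a5 i
  have k2 : ∀ i j, i + 1 < p → j < p → i ≠ j → i + 1 ≠ j → h i ∈ (stab ρ (f j)).subgroupOf Y := by
    intro i j hi hj h7 h8
    rw [Subgroup.mem_subgroupOf]
    exact mul_mem (k0 _ _ hi hj h8) (inv_mem (k0 _ _ (by omega) hj h7))
  have k3 : ∀ i, i + 1 < p → h i ∉ (stab ρ (f (i + 1))).subgroupOf Y := by
    intro i hi h7
    rw [Subgroup.mem_subgroupOf] at h7
    apply k1 (i + 1)
    have h8 : g i ∈ stab ρ (f (i + 1)) := k0 _ _ (by omega) hi (by omega)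
    have := mul_mem h7 h8
    change g (i + 1) * (g i)⁻¹ * g i ∈ _ at this
    rwa [inv_mul_cancel_right] at this
  refine chain hE (hh 0 1) (hh 0 2) (hh 1 2) (hp' 0) (hp' 1) (hp' 2) ((stab ρ (f 2)).subgroupOf Y)
    ((stab ρ (f 3)).subgroupOf Y) ?_ (k2 0 2 (by omega) (by omega) (by omega) (by omega)) (k3 1 (by omega))
    (k2 0 3 (by omega) (by omega) (by omega) (by omega)) (k2 1 3 (by omega) (by omega) (by omega) (by omega))
    (k3 2 (by omega))
  intro h7
  apply k3 0 (by omega)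
  rw [h7]
  exact one_mem _

/-- **Theorem C.** the dimension bound -/
theorem p_le [Finite X] (hp2 : p ≠ 2) (hpF : (p : F) ≠ 0) {ι : Type*} [Fintype ι] [DecidableEq ι]
    (ρ : X →* Matrix ι ι F) (hρ : Function.Injective ρ) (hE : _root_.Cfsg.Agent.H92.ExtP.Ext p X) : p ≤ Fintype.card ι := by
  obtain ⟨x, y, z, h1, h2, h3, h4, h5, h6⟩ := exists_triple hp2 hE
  have r1 : ρ x ^ p = 1 := by rw [← map_pow, h1, map_one]
  have r2 : ρ z ^ p = 1 := by rw [← map_pow, h2, map_one]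
  have r3 : ρ z ≠ 1 := fun h => h3 (hρ (by rw [h, map_one]))
  have r4 : ρ x * ρ z = ρ z * ρ x := by rw [← map_mul, h4, map_mul]
  have r5 : ρ y * ρ z = ρ z * ρ y := by rw [← map_mul, h5, map_mul]
  have r6 : ρ y * ρ x = ρ x * ρ z * ρ y := by rw [← map_mul, h6, map_mul, map_mul]
  have r7 : ρ y⁻¹ * ρ y = 1 := by rw [← map_mul, inv_mul_cancel, map_one]
  have r8 : ρ y * ρ y⁻¹ = 1 := by rw [← map_mul, mul_inv_cancel, map_one]
  obtain ⟨f1, f2, f3, f4, f5, f6, f7⟩ := facts (F := F) hpF r1 r2 r4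
  have f8 := fi_ne_zero (F := F) hpF r1 r2 r3 r4 r7 r8 r5 r6
  have hv : ∀ i : Fin p, ∃ v : ι → F, (fi F p (ρ x) (ρ z) i) *ᵥ v ≠ 0 := by
    intro i
    by_contra hcon
    push Not at hcon
    apply f8 i
    exact Matrix.toLin'.injective (LinearMap.ext fun v => by
      rw [Matrix.toLin'_apply, hcon v, map_zero]; rfl)
  choose v hv using hv
  have hli : LinearIndependent F (fun i : Fin p => (fi F p (ρ x) (ρ z) i) *ᵥ v i) := by
    rw [Fintype.linearIndependent_iff]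
    intro c hc j
    have h7 := congrArg (fun w => (fi F p (ρ x) (ρ z) j) *ᵥ w) hc
    simp only [Matrix.mulVec_sum, Matrix.mulVec_smul, Matrix.mulVec_mulVec, Matrix.mulVec_zero] at h7
    rw [Finset.sum_eq_single j] at h7
    · rw [f2] at h7
      exact (smul_eq_zero.1 h7).resolve_right (hv j)
    · intro i _ hij
      rw [f3 j i (fun h => hij (Fin.ext h.symm)) j.2 i.2, Matrix.zero_mulVec, smul_zero]
    · intro h; exact absurd (Finset.mem_univ j) h
  have := hli.fintype_card_le_finrank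
  rwa [Fintype.card_fin, Module.finrank_fintype_fun_eq_card] at this

end Main

end Cfsg.Agent.H92.ExtLin
end

-- part: H92/ExtCl
section
/-!
# The classical groups with a nonabelian Sylow `p`-subgroup of order `p³`, `p` odd, prime to `q` (S2215)
-/

set_option autoImplicit false
set_option linter.unusedSectionVars false

namespace Cfsg.Agent.H92.ExtCl

open Finset Matrix Cfsg Cfsg.Agent.H92.ExtP Cfsg.Agent.H92.ExtLin

universe u v w

/-! ### forms -/

section Form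

variable {ι : Type u} [Fintype ι] [DecidableEq ι] {F : Type v} [Field F] {A : Type w} [AddCommGroup A]

structure BiAdd (B : (ι → F) → (ι → F) → A) : Prop where
  add_left : ∀ u u' v, B (u + u') v = B u v + B u' v
  add_right : ∀ u v v', B u (v + v') = B u v + B u v'

variable {B : (ι → F) → (ι → F) → A}

namespace BiAdd

theorem zero_left (h : BiAdd B) (v : ι → F) : B 0 v = 0 := by
  have := h.add_left 0 0 v
  rw [add_zero] at this
  exact left_eq_add.1 this

theorem zero_right (h : BiAdd B) (u : ι → F) : B u 0 = 0 := by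
  have := h.add_right u 0 0
  rw [add_zero] at this
  exact left_eq_add.1 this

theorem sub_left (h : BiAdd B) (u u' v : ι → F) : B (u - u') v = B u v - B u' v := by
  rw [eq_sub_iff_add_eq, ← h.add_left, sub_add_cancel]

theorem sub_right (h : BiAdd B) (u v v' : ι → F) : B u (v - v') = B u v - B u v' := by
  rw [eq_sub_iff_add_eq, ← h.add_right, sub_add_cancel]

theorem sum_left (h : BiAdd B) {σ : Type*} (s : Finset σ) (f : σ → ι → F) (v : ι → F) :
    B (∑ i ∈ s, f i) v = ∑ i ∈ s, B (f i) v := by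
  classical
  induction s using Finset.induction_on with
  | empty => rw [sum_empty, sum_empty, h.zero_left]
  | insert a s ha ih => rw [sum_insert ha, sum_insert ha, h.add_left, ih]

theorem sum_right (h : BiAdd B) {σ : Type*} (s : Finset σ) (f : σ → ι → F) (u : ι → F) :
    B u (∑ i ∈ s, f i) = ∑ i ∈ s, B u (f i) := by
  classical
  induction s using Finset.induction_on with
  | empty => rw [sum_empty, sum_empty, h.zero_right]
  | insert a s ha ih => rw [sum_insert ha, sum_insert ha, h.add_right, ih]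

theorem nsmul_swap (h : BiAdd B) (n : ℕ) (u v : ι → F) : B (n • u) v = B u (n • v) := by
  induction n with
  | zero => rw [zero_smul, zero_smul, h.zero_left, h.zero_right]
  | succ n ih => rw [succ_nsmul, succ_nsmul, h.add_left, h.add_right, ih]

theorem inv_swap (h : BiAdd B) {p : ℕ} (hp : (p : F) ≠ 0) (u v : ι → F) :
    B ((p : F)⁻¹ • u) v = B u ((p : F)⁻¹ • v) := by
  have h1 : ∀ w : ι → F, p • ((p : F)⁻¹ • w) = w := fun w => by
    rw [← Nat.cast_smul_eq_nsmul F, smul_smul, mul_inv_cancel₀ hp, one_smul]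
  calc B ((p : F)⁻¹ • u) v = B ((p : F)⁻¹ • u) (p • ((p : F)⁻¹ • v)) := by rw [h1]
    _ = B (p • ((p : F)⁻¹ • u)) ((p : F)⁻¹ • v) := (h.nsmul_swap p _ _).symm
    _ = B u ((p : F)⁻¹ • v) := by rw [h1]

end BiAdd

def Pres (B : (ι → F) → (ι → F) → A) (M : Matrix ι ι F) : Prop := ∀ u v, B (M *ᵥ u) (M *ᵥ v) = B u v

def Adj (B : (ι → F) → (ι → F) → A) (M : Matrix ι ι F) : Prop := ∀ u v, B (M *ᵥ u) v = B u (M *ᵥ v)

variable {M N : Matrix ι ι F} {p : ℕ}

theorem Pres.mul (hM : Pres B M) (hN : Pres B N) : Pres B (M * N) := fun u v => by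
  rw [← mulVec_mulVec, ← mulVec_mulVec, hM, hN]

theorem Pres.pow (hM : Pres B M) (k : ℕ) : Pres B (M ^ k) := by
  induction k with
  | zero => intro u v; rw [pow_zero, one_mulVec, one_mulVec]
  | succ k ih => rw [pow_succ]; exact ih.mul hM

theorem Adj.mul (hM : Adj B M) (hN : Adj B N) (h : M * N = N * M) : Adj B (M * N) := fun u v => by
  rw [← mulVec_mulVec, hM, hN, mulVec_mulVec, ← h]

theorem Adj.one_sub (hB : BiAdd B) (hM : Adj B M) : Adj B (1 - M) := fun u v => by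
  rw [sub_mulVec, sub_mulVec, one_mulVec, one_mulVec, hB.sub_left, hB.sub_right, hM]

theorem adj_av (hB : BiAdd B) (hp : (p : F) ≠ 0) (hM : Pres B M) (h : M ^ p = 1) : Adj B (av F p M) := by
  have h0 : Adj B (∑ k ∈ range p, M ^ k) := by
    intro u v
    have h1 : ∀ k ∈ range p, B ((M ^ k) *ᵥ u) v = B u ((M ^ (p - k)) *ᵥ v) := by
      intro k hk
      rw [mem_range] at hk
      rw [← hM.pow (p - k), mulVec_mulVec, ← pow_add, Nat.sub_add_cancel hk.le, h, one_mulVec]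
    have h2 : ∑ k ∈ range p, B u ((M ^ (p - k)) *ᵥ v) = ∑ k ∈ range p, B u ((M ^ (k + 1)) *ᵥ v) := by
      rw [← sum_range_reflect]
      refine sum_congr rfl fun k hk => ?_
      rw [mem_range] at hk
      rw [show p - (p - 1 - k) = k + 1 by omega]
    have h3 : ∑ k ∈ range p, M ^ (k + 1) = ∑ k ∈ range p, M ^ k := by
      have h4 := sum_range_succ' (fun k => M ^ k) p
      rw [sum_range_succ, h, pow_zero] at h4
      exact (add_right_cancel h4).symm
    rw [sum_mulVec, hB.sum_left, sum_congr rfl h1, h2, ← hB.sum_right, ← sum_mulVec, h3]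
  intro u v
  rw [av, smul_mulVec, smul_mulVec, hB.inv_swap hp, h0 u _, mulVec_smul]

theorem adj_fi (hB : BiAdd B) [Fact p.Prime] (hp : (p : F) ≠ 0) {x z : Matrix ι ι F} (hx : Pres B x) (hz : Pres B z)
    (hxp : x ^ p = 1) (hzp : z ^ p = 1) (hxz : x * z = z * x) (i : ℕ) : Adj B (fi F p x z i) := by
  have h1 : Commute x z := hxz
  have h2 : Commute (x * z ^ i) z := h1.mul_left (Commute.pow_left (Commute.refl z) i)
  have h3 : (x * z ^ i) ^ p = 1 := by
    rw [(h1.pow_right i).mul_pow, hxp, ← pow_mul, mul_comm i p, pow_mul, hzp, one_pow, one_mul]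
  have h4 : Commute (av F p (x * z ^ i)) (1 - av F p z) := by
    refine Commute.sub_right (Commute.one_right _) ?_
    exact commute_av (commute_av h2.symm).symm
  exact (adj_av hB hp (hx.mul (hz.pow i)) h3).mul ((adj_av hB hp hz hzp).one_sub hB) h4.eq

theorem G_mulVec {z f : Matrix ι ι F} (u : ι → F) : (1 + (z - 1) * f) *ᵥ u = (1 - f) *ᵥ u + (z * f) *ᵥ u := by
  rw [← add_mulVec]
  congr 1
  noncomm_ring

theorem cross (hB : BiAdd B) {z f : Matrix ι ι F} (hf : Adj B f) (hff : f * f = f) (hzf : z * f = f * z) (u v : ι → F) :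
    B ((1 - f) *ᵥ u) ((z * f) *ᵥ v) = 0 ∧ B ((z * f) *ᵥ u) ((1 - f) *ᵥ v) = 0 := by
  have h1 : f * (1 - f) = 0 := by rw [mul_sub, mul_one, hff, sub_self]
  constructor
  · rw [hzf, ← mulVec_mulVec, ← hf, mulVec_mulVec, h1, zero_mulVec, hB.zero_left]
  · rw [hzf, ← mulVec_mulVec, hf, mulVec_mulVec, h1, zero_mulVec, hB.zero_right]

theorem pres_G (hB : BiAdd B) {z f : Matrix ι ι F} (hf : Adj B f) (hff : f * f = f) (hzf : z * f = f * z)
    (hz : Pres B z) : Pres B (1 + (z - 1) * f) := by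
  intro u v
  obtain ⟨c1, c2⟩ := cross hB hf hff hzf u v
  obtain ⟨d1, d2⟩ := cross hB (z := 1) hf hff (by rw [one_mul, mul_one]) u v
  have e1 : B u v = B ((1 - f) *ᵥ u + (1 * f) *ᵥ u) ((1 - f) *ᵥ v + (1 * f) *ᵥ v) := by
    rw [← add_mulVec, ← add_mulVec, one_mul, sub_add_cancel, one_mulVec, one_mulVec]
  rw [G_mulVec, G_mulVec, e1, hB.add_left, hB.add_right, hB.add_right, hB.add_left, hB.add_right, hB.add_right, c1, c2,
    d1, d2]
  congr 2
  rw [← mulVec_mulVec, ← mulVec_mulVec, hz, one_mul]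

theorem quad_G {Q : (ι → F) → A} (hB : BiAdd fun u v => Q (u + v) - Q u - Q v) {z f : Matrix ι ι F}
    (hf : Adj (fun u v => Q (u + v) - Q u - Q v) f) (hff : f * f = f) (hzf : z * f = f * z)
    (hz : ∀ u, Q (z *ᵥ u) = Q u) (u : ι → F) : Q ((1 + (z - 1) * f) *ᵥ u) = Q u := by
  obtain ⟨c1, -⟩ := cross hB hf hff hzf u u
  obtain ⟨d1, -⟩ := cross hB (z := 1) hf hff (by rw [one_mul, mul_one]) u u
  have e1 : Q u = Q ((1 - f) *ᵥ u + (1 * f) *ᵥ u) := by
    rw [← add_mulVec, one_mul, sub_add_cancel, one_mulVec]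
  rw [G_mulVec, e1]
  rw [sub_sub, sub_eq_zero] at c1 d1
  rw [c1, d1, ← mulVec_mulVec, hz, one_mul]

end Form

/-! ### the closure property of the classical groups -/

section Closure

variable {F : Type v} [Field F] [Fintype F] {p : ℕ} [hpr : Fact p.Prime]

theorem eq_one_of_pow {d : F} {k : ℕ} (hd : d ^ p = 1) (hk : d ^ k = 1) (h : ¬ p ∣ k) : d = 1 := by
  have h1 : orderOf d ∣ p := orderOf_dvd_of_pow_eq_one hd
  have h2 : orderOf d ∣ k := orderOf_dvd_of_pow_eq_one hk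
  have h3 : orderOf d ∣ Nat.gcd p k := Nat.dvd_gcd h1 h2
  rw [(Nat.Prime.coprime_iff_not_dvd hpr.out).2 h, Nat.dvd_one, orderOf_eq_one_iff] at h3
  exact h3

theorem cast_ne_zero (h : ¬ p ∣ Fintype.card F) : (p : F) ≠ 0 := by
  intro h0
  apply h
  have h1 : ringChar F ∣ p := ringChar.spec F p |>.1 h0
  have h2 : ringChar F = p := by
    rcases (Nat.dvd_prime hpr.out).1 h1 with h3 | h3
    · have : CharP F 1 := h3 ▸ ringChar.charP F
      exact absurd rfl (CharP.char_ne_one F 1)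
    · exact h3
  have : CharP F p := h2 ▸ ringChar.charP F
  obtain ⟨n, -, hn⟩ := FiniteField.card F p
  rw [hn]
  exact dvd_pow_self p n.2.ne'

/-- the subgroup of determinant one -/
theorem cl_SL {n : ℕ} (hpF : (p : F) ≠ 0) (h1 : ¬ p ∣ Fintype.card F - 1) : Cl F p (slToMat n F) := by
  intro x z hx hz hxz i
  have r1 : (slToMat n F x) ^ p = 1 := by rw [← map_pow, hx, map_one]
  have r2 : (slToMat n F z) ^ p = 1 := by rw [← map_pow, hz, map_one]
  have r4 : slToMat n F x * slToMat n F z = slToMat n F z * slToMat n F x := by rw [← map_mul, hxz, map_mul]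
  obtain ⟨f1, f2, f3, f4, f5, f6, f7⟩ := facts (F := F) hpF r1 r2 r4
  set G := 1 + (slToMat n F z - 1) * fi F p (slToMat n F x) (slToMat n F z) i with hG
  have hGp : G ^ p = 1 := by rw [hG, f5, r2, sub_self, zero_mul, add_zero]
  have hd : G.det = 1 := by
    have h2 : G.det ^ p = 1 := by rw [← det_pow, hGp, det_one]
    have h3 : G.det ≠ 0 := fun h => by rw [h, zero_pow hpr.out.ne_zero] at h2; exact zero_ne_one h2
    exact eq_one_of_pow h2 (FiniteField.pow_card_sub_one_eq_one _ h3) h1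
  exact ⟨⟨G, hd⟩, rfl⟩

theorem slToMat_injective (n : ℕ) : Function.Injective (slToMat n F) := by
  intro a b hab
  exact Subtype.ext hab

/-! unitary groups -/

theorem biAdd_herm {n q : ℕ} (hF : Fintype.card F = q ^ 2) : BiAdd (hermForm n F q) where
  add_left u u' v := by
    simp only [hermForm, Pi.add_apply, add_mul, sum_add_distrib]
  add_right u v v' := by
    obtain ⟨σ, hσ⟩ := Cfsg.Agent.ClassicalGeometry.GUBasic.exists_powHom hF
    simp only [hermForm, Pi.add_apply, ← hσ, map_add, mul_add, sum_add_distrib]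

theorem cl_SU {n q : ℕ} (hF : Fintype.card F = q ^ 2) (hpF : (p : F) ≠ 0) (h1 : ¬ p ∣ q + 1) :
    Cl F p ((slToMat n F).comp (SU n F q).subtype) := by
  intro x z hx hz hxz i
  set ρ := (slToMat n F).comp (SU n F q).subtype with hρ
  have r1 : (ρ x) ^ p = 1 := by rw [← map_pow, hx, map_one]
  have r2 : (ρ z) ^ p = 1 := by rw [← map_pow, hz, map_one]
  have r4 : ρ x * ρ z = ρ z * ρ x := by rw [← map_mul, hxz, map_mul]
  have s1 : Pres (hermForm n F q) (ρ x) := x.2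
  have s2 : Pres (hermForm n F q) (ρ z) := z.2
  obtain ⟨f1, f2, f3, f4, f5, f6, f7⟩ := facts (F := F) hpF r1 r2 r4
  have hG : Pres (hermForm n F q) (1 + (ρ z - 1) * fi F p (ρ x) (ρ z) i) :=
    pres_G (biAdd_herm hF) (adj_fi (biAdd_herm hF) hpF s1 s2 r1 r2 r4 i) (f2 i) (f6 i) s2
  set G := 1 + (ρ z - 1) * fi F p (ρ x) (ρ z) i with hGd
  have hGp : G ^ p = 1 := by rw [hGd, f5, r2, sub_self, zero_mul, add_zero]
  have hd : G.det = 1 := by
    have h2 : G.det ^ p = 1 := by rw [← det_pow, hGp, det_one]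
    exact eq_one_of_pow h2 (Cfsg.Agent.ClassicalGeometry.GUBasic.det_pow hF hG) h1
  exact ⟨⟨⟨G, hd⟩, hG⟩, rfl⟩

theorem SU_injective (n q : ℕ) : Function.Injective ((slToMat n F).comp (SU n F q).subtype) := by
  intro a b hab
  exact Subtype.ext (slToMat_injective n hab)

/-! symplectic groups -/

/-- the symplectic form -/
def sf (m : ℕ) (F : Type v) [Field F] (u v : Fin m ⊕ Fin m → F) : F := u ⬝ᵥ (Matrix.J (Fin m) F *ᵥ v)

theorem biAdd_sf (m : ℕ) : BiAdd (sf m F) where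
  add_left u u' v := by rw [sf, add_dotProduct]; rfl
  add_right u v v' := by rw [sf, mulVec_add, dotProduct_add]; rfl

theorem pres_sf_iff {m : ℕ} {M : Matrix (Fin m ⊕ Fin m) (Fin m ⊕ Fin m) F} :
    Pres (sf m F) M ↔ M ∈ Matrix.symplecticGroup (Fin m) F := by
  rw [SymplecticGroup.mem_iff']
  have h1 : ∀ u v, sf m F (M *ᵥ u) (M *ᵥ v) = u ⬝ᵥ ((Mᵀ * Matrix.J (Fin m) F * M) *ᵥ v) := by
    intro u v
    rw [sf, ← vecMul_transpose, ← dotProduct_mulVec, mulVec_mulVec, mulVec_mulVec, Matrix.mul_assoc]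
  constructor
  · intro h
    refine Matrix.ext fun i j => ?_
    have h2 := h (Pi.single i 1) (Pi.single j 1)
    rw [h1, sf] at h2
    simpa only [single_one_dotProduct, mulVec_single_one, Matrix.col_apply, _root_.Matrix.mulVec_single, _root_.MulOpposite.op_one, _root_.one_smul, _root_.single_dotProduct, _root_.Matrix.col_apply, _root_.one_mul] using h2
  · intro h u v
    rw [h1, h]
    rfl

theorem cl_Sp {m : ℕ} (hpF : (p : F) ≠ 0) : Cl F p (Matrix.symplecticGroup (Fin m) F).subtype := by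
  intro x z hx hz hxz i
  set ρ := (Matrix.symplecticGroup (Fin m) F).subtype with hρ
  have r1 : (ρ x) ^ p = 1 := by rw [← map_pow, hx, map_one]
  have r2 : (ρ z) ^ p = 1 := by rw [← map_pow, hz, map_one]
  have r4 : ρ x * ρ z = ρ z * ρ x := by rw [← map_mul, hxz, map_mul]
  have s1 : Pres (sf m F) (ρ x) := pres_sf_iff.2 x.2
  have s2 : Pres (sf m F) (ρ z) := pres_sf_iff.2 z.2
  obtain ⟨f1, f2, f3, f4, f5, f6, f7⟩ := facts (F := F) hpF r1 r2 r4
  have hG : Pres (sf m F) (1 + (ρ z - 1) * fi F p (ρ x) (ρ z) i) :=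
    pres_G (biAdd_sf m) (adj_fi (biAdd_sf m) hpF s1 s2 r1 r2 r4 i) (f2 i) (f6 i) s2
  exact ⟨⟨_, pres_sf_iff.1 hG⟩, rfl⟩

/-! orthogonal groups -/

/-- the matrix of an isometry -/
abbrev isoMat {ι : Type} [Fintype ι] [DecidableEq ι] (Q : (ι → F) → F) : isometryGroup F Q →* Matrix ι ι F :=
  (Units.coeHom (Matrix ι ι F)).comp (isometryGroup F Q).subtype

theorem isoMat_injective {ι : Type} [Fintype ι] [DecidableEq ι] (Q : (ι → F) → F) :
    Function.Injective (isoMat (F := F) Q) := by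
  intro a b hab
  exact Subtype.ext (Units.ext hab)

theorem cl_iso {ι : Type} [Fintype ι] [DecidableEq ι] (Q : QuadraticForm F (ι → F)) (hpF : (p : F) ≠ 0) :
    Cl F p (isoMat (F := F) (⇑Q)) := by
  intro x z hx hz hxz i
  set ρ := isoMat (F := F) (⇑Q) with hρ
  have r1 : (ρ x) ^ p = 1 := by rw [← map_pow, hx, map_one]
  have r2 : (ρ z) ^ p = 1 := by rw [← map_pow, hz, map_one]
  have r4 : ρ x * ρ z = ρ z * ρ x := by rw [← map_mul, hxz, map_mul]
  have q1 : ∀ u, Q (ρ x *ᵥ u) = Q u := fun u => x.2 u u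
  have q2 : ∀ u, Q (ρ z *ᵥ u) = Q u := fun u => z.2 u u
  have hB : BiAdd (fun u v => Q (u + v) - Q u - Q v) :=
    ⟨fun u u' v => QuadraticMap.polar_add_left Q u u' v, fun u v v' => QuadraticMap.polar_add_right Q u v v'⟩
  have s1 : Pres (fun u v => Q (u + v) - Q u - Q v) (ρ x) := fun u v => by
    simp only [← mulVec_add, q1]
  have s2 : Pres (fun u v => Q (u + v) - Q u - Q v) (ρ z) := fun u v => by
    simp only [← mulVec_add, q2]
  obtain ⟨f1, f2, f3, f4, f5, f6, f7⟩ := facts (F := F) hpF r1 r2 r4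
  have hG : ∀ u, Q ((1 + (ρ z - 1) * fi F p (ρ x) (ρ z) i) *ᵥ u) = Q u :=
    quad_G hB (adj_fi hB hpF s1 s2 r1 r2 r4 i) (f2 i) (f6 i) q2
  set G := 1 + (ρ z - 1) * fi F p (ρ x) (ρ z) i with hGd
  have hGp : G ^ p = 1 := by rw [hGd, f5, r2, sub_self, zero_mul, add_zero]
  obtain ⟨k, hk⟩ : ∃ k, p = k + 1 := ⟨p - 1, by have := hpr.out.pos; omega⟩
  let Gu : Matrix.GeneralLinearGroup ι F := ⟨G, G ^ k, by rw [← pow_succ', ← hk, hGp], by rw [← pow_succ, ← hk, hGp]⟩
  exact ⟨⟨Gu, fun u _ => hG u⟩, rfl⟩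

end Closure

/-! ### quotients by central subgroups of order prime to `p` -/

section Quot

variable {p : ℕ} [hpr : Fact p.Prime]

theorem of_quotient {X : Type u} [Group X] [Finite X] (N : Subgroup X) [N.Normal] (hN : ¬ p ∣ Nat.card N)
    (h : _root_.Cfsg.Agent.H92.ExtP.Ext p (X ⧸ N)) : _root_.Cfsg.Agent.H92.ExtP.Ext p X := by
  have hp : p.Prime := hpr.out
  have hcard : Nat.card X = Nat.card (X ⧸ N) * Nat.card N := Subgroup.card_eq_card_quotient_mul_card_subgroup N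
  refine ⟨?_, ?_, ?_⟩
  · rw [hcard]; exact h.dvd.mul_right _
  · intro h4
    rw [hcard] at h4
    exact h.not_dvd ((Nat.Coprime.pow_left 4 ((Nat.Prime.coprime_iff_not_dvd hp).2 hN)).dvd_of_dvd_mul_right h4)
  · intro A hA
    have hAp : IsPGroup p A := IsPGroup.of_card hA
    have hinj : Function.Injective ((QuotientGroup.mk' N).comp A.subtype) := by
      rw [← MonoidHom.ker_eq_bot_iff, eq_bot_iff]
      intro a ha
      rw [MonoidHom.mem_ker] at ha
      have h1 : (a : X) ∈ N := (QuotientGroup.eq_one_iff _).1 ha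
      obtain ⟨k, hk⟩ := hAp a
      have h2' : (a : X) ^ p ^ k = 1 := congrArg (fun t : A => (t : X)) hk
      have h2 : (⟨a, h1⟩ : N) ^ p ^ k = 1 := Subtype.ext h2'
      have h3 : orderOf (⟨a, h1⟩ : N) ∣ Nat.gcd (p ^ k) (Nat.card N) :=
        Nat.dvd_gcd (orderOf_dvd_of_pow_eq_one h2) (orderOf_dvd_natCard _)
      rw [Nat.Coprime.pow_left k ((Nat.Prime.coprime_iff_not_dvd hp).2 hN), Nat.dvd_one, orderOf_eq_one_iff] at h3
      rw [Subgroup.mem_bot]
      have h5 : (a : X) = 1 := congrArg (fun t : N => (t : X)) h3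
      exact Subtype.ext h5
    have h4 : Nat.card ↥(A.map (QuotientGroup.mk' N)) = p ^ 3 := by
      rw [← hA]
      refine Nat.card_congr (Equiv.ofBijective (fun a : A => (⟨QuotientGroup.mk' N a, a, a.2, rfl⟩ :
        ↥(A.map (QuotientGroup.mk' N)))) ⟨?_, ?_⟩).symm
      · intro a b hab
        exact hinj (congrArg Subtype.val hab)
      · rintro ⟨_, a, ha, rfl⟩
        exact ⟨⟨a, ha⟩, rfl⟩
    obtain ⟨_, ⟨a, ha, rfl⟩, _, ⟨b, hb, rfl⟩, hab⟩ := h.noncomm _ h4
    exact ⟨a, ha, b, hb, fun h5 => hab (by rw [← map_mul, h5, map_mul])⟩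

end Quot

/-! ### the rows -/

section Rows

variable {F : Type v} [Field F] [Fintype F] {p : ℕ} [hpr : Fact p.Prime]

/-- the centre of `SL_n(F)` has order prime to `p` -/
theorem center_SL {n : ℕ} (h : ¬ p ∣ Fintype.card F - 1 ∨ (0 < n ∧ n < p)) :
    ¬ p ∣ Nat.card (Subgroup.center (Matrix.SpecialLinearGroup (Fin n) F)) := by
  intro hd
  obtain ⟨c, hc⟩ := exists_prime_orderOf_dvd_card' p hd
  obtain ⟨r, hr, hr'⟩ := Matrix.SpecialLinearGroup.mem_center_iff.1 c.2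
  rw [Fintype.card_fin] at hr
  have hcp : (c : Matrix.SpecialLinearGroup (Fin n) F) ^ p = 1 := by
    have h1 := pow_orderOf_eq_one c
    rw [hc] at h1
    exact congrArg Subtype.val h1
  have h2 : (Matrix.scalar (Fin n) r) ^ p = 1 := by
    rw [hr']
    exact congrArg (fun g : Matrix.SpecialLinearGroup (Fin n) F => (g : Matrix (Fin n) (Fin n) F)) hcp
  rcases Nat.eq_zero_or_pos n with hn | hn
  · subst hn
    have : c = 1 := Subtype.ext (Subtype.ext (Subsingleton.elim _ _))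
    rw [this, orderOf_one] at hc
    exact hpr.out.one_lt.ne hc
  have h3 : r ^ p = 1 := by
    rw [← map_pow] at h2
    have h4 := congrFun (congrFun h2 ⟨0, hn⟩) ⟨0, hn⟩
    simpa using h4
  have h5 : r = 1 := by
    rcases h with h | ⟨-, h⟩
    · have h0 : r ≠ 0 := fun h => by rw [h, zero_pow hpr.out.ne_zero] at h3; exact zero_ne_one h3
      exact eq_one_of_pow h3 (FiniteField.pow_card_sub_one_eq_one _ h0) h
    · exact eq_one_of_pow h3 hr (fun hd => absurd (Nat.le_of_dvd hn hd) (by omega))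
  have h6 : c = 1 := by
    apply Subtype.ext
    apply Subtype.ext
    rw [← hr', h5, map_one]
    rfl
  rw [h6, orderOf_one] at hc
  exact hpr.out.one_lt.ne hc

/-- `p` odd, prime to `q (q - 1)` -/
theorem psl {n : ℕ} (hp2 : p ≠ 2) (hpF : ¬ p ∣ Fintype.card F) (h1 : ¬ p ∣ Fintype.card F - 1) :
    ¬ _root_.Cfsg.Agent.H92.ExtP.Ext p (Matrix.ProjectiveSpecialLinearGroup (Fin n) F) := fun h =>
  main hp2 (cast_ne_zero hpF) (slToMat n F) (slToMat_injective n) (cl_SL (cast_ne_zero hpF) h1)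
    (of_quotient _ (center_SL (Or.inl h1)) h)

/-- `p > n` -/
theorem psl' {n : ℕ} (hp2 : p ≠ 2) (hpF : ¬ p ∣ Fintype.card F) (hn0 : 0 < n) (hn : n < p) :
    ¬ _root_.Cfsg.Agent.H92.ExtP.Ext p (Matrix.ProjectiveSpecialLinearGroup (Fin n) F) := fun h => by
  have := p_le hp2 (cast_ne_zero hpF) (slToMat n F) (slToMat_injective n)
    (of_quotient _ (center_SL (Or.inr ⟨hn0, hn⟩)) h)
  rw [Fintype.card_fin] at this
  omega

theorem psu {n q : ℕ} (hn : 3 ≤ n) (hF : Fintype.card F = q ^ 2) (hp2 : p ≠ 2) (hpF : ¬ p ∣ q) (h1 : ¬ p ∣ q + 1) :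
    ¬ _root_.Cfsg.Agent.H92.ExtP.Ext p (PSU n F q) := fun h => by
  have hpF' : (p : F) ≠ 0 := cast_ne_zero (fun h => hpF (hpr.out.dvd_of_dvd_pow (hF ▸ h)))
  refine main hp2 hpF' ((slToMat n F).comp (SU n F q).subtype) (SU_injective n q) (cl_SU hF hpF' h1)
    (of_quotient _ ?_ h)
  rw [Cfsg.Agent.S0279.result hF n hn]
  exact fun hd => h1 (hd.trans (Nat.gcd_dvd_right _ _))

theorem psu' {n q : ℕ} (hn : 3 ≤ n) (hF : Fintype.card F = q ^ 2) (hp2 : p ≠ 2) (hpF : ¬ p ∣ q) (hnp : n < p) :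
    ¬ _root_.Cfsg.Agent.H92.ExtP.Ext p (PSU n F q) := fun h => by
  have hpF' : (p : F) ≠ 0 := cast_ne_zero (fun h => hpF (hpr.out.dvd_of_dvd_pow (hF ▸ h)))
  have := p_le hp2 hpF' ((slToMat n F).comp (SU n F q).subtype) (SU_injective n q) (of_quotient _ (by
    rw [Cfsg.Agent.S0279.result hF n hn]
    exact fun hd => absurd (Nat.le_of_dvd (by omega) (hd.trans (Nat.gcd_dvd_left _ _))) (by omega)) h)
  rw [Fintype.card_fin] at this
  omega

theorem psp {m : ℕ} (hm : 1 ≤ m) (hp2 : p ≠ 2) (hpF : ¬ p ∣ Fintype.card F) : ¬ _root_.Cfsg.Agent.H92.ExtP.Ext p (PSp m F) := fun h => by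
  refine main hp2 (cast_ne_zero hpF) (Matrix.symplecticGroup (Fin m) F).subtype Subtype.val_injective
    (cl_Sp (cast_ne_zero hpF)) (of_quotient _ ?_ h)
  rw [Cfsg.Agent.S0246.result rfl m hm]
  intro hd
  have h1 := (Nat.prime_dvd_prime_iff_eq hpr.out Nat.prime_two).1 (hd.trans (Nat.gcd_dvd_left _ _))
  exact hp2 h1

theorem center_omega {ι : Type} [Fintype ι] [DecidableEq ι] (Q : QuadraticForm F (ι → F)) (hp2 : p ≠ 2)
    (hc : ∀ x ∈ Subgroup.center (Omega F (⇑Q)),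
      (((x : Cfsg.isometryGroup F (⇑Q)) : Matrix.GeneralLinearGroup ι F) : Matrix ι ι F) = 1 ∨
      (((x : Cfsg.isometryGroup F (⇑Q)) : Matrix.GeneralLinearGroup ι F) : Matrix ι ι F) = -1) :
    ¬ p ∣ Nat.card (Subgroup.center (Omega F (⇑Q))) := by
  intro hd
  obtain ⟨c, hc'⟩ := exists_prime_orderOf_dvd_card' p hd
  have h1 : c ^ 2 = 1 := by
    apply Subtype.ext
    apply Subtype.ext
    apply Subtype.ext
    apply Units.ext
    change ((((c : Omega F (⇑Q)) : Cfsg.isometryGroup F (⇑Q)) : Matrix.GeneralLinearGroup ι F) : Matrix ι ι F) ^ 2 = 1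
    rcases hc c c.2 with h | h <;> rw [h] <;> simp only [_root_.one_pow, _root_.even_two, _root_.Even.neg_pow]
  have h2 := orderOf_dvd_of_pow_eq_one h1
  rw [hc', Nat.prime_dvd_prime_iff_eq hpr.out Nat.prime_two] at h2
  exact hp2 h2

theorem pomega {ι : Type} [Fintype ι] [DecidableEq ι] (Q : QuadraticForm F (ι → F)) (hp5 : 5 ≤ p)
    (hpF : ¬ p ∣ Fintype.card F) (hQ : (QuadraticMap.polarBilin Q).Nondegenerate)
    (hn : 3 ≤ Fintype.card ι) (hs : ∃ u : ι → F, u ≠ 0 ∧ Q u = 0) : ¬ _root_.Cfsg.Agent.H92.ExtP.Ext p (POmega F (⇑Q)) := fun h =>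
  main_comm hp5 (cast_ne_zero hpF) (isoMat (F := F) (⇑Q)) (isoMat_injective _) (cl_iso Q (cast_ne_zero hpF)) le_rfl
    (of_quotient _ (center_omega Q (by omega) fun x hx =>
      (Cfsg.Agent.LieClassical.OrthCenter.mem_center_omega_iff hQ hn hs x).1 hx) h)

open Cfsg.Agent.LieClassical.OmegaReindex in
theorem pomega_odd {m : ℕ} (hm : 1 ≤ m) (h2 : (2 : F) ≠ 0) (hp5 : 5 ≤ p) (hpF : ¬ p ∣ Fintype.card F) :
    ¬ _root_.Cfsg.Agent.H92.ExtP.Ext p (POmega F (quadFormOdd m F)) := by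
  rw [← coe_quadOdd]
  exact pomega _ hp5 hpF (quadOdd_nondegenerate h2)
    (by simp only [Fintype.card_sum, Fintype.card_fin, Fintype.card_unit]; omega) (quadOdd_isotropic hm)

open Cfsg.Agent.LieClassical.OmegaReindex in
theorem pomega_plus {m : ℕ} (hm : 2 ≤ m) (hp5 : 5 ≤ p) (hpF : ¬ p ∣ Fintype.card F) :
    ¬ _root_.Cfsg.Agent.H92.ExtP.Ext p (POmega F (quadFormPlus m F)) := by
  rw [← coe_quadPlus]
  exact pomega _ hp5 hpF quadPlus_nondegenerate
    (by simp only [Fintype.card_sum, Fintype.card_fin]; omega) (quadPlus_isotropic (by omega))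

open Cfsg.Agent.LieClassical.OmegaReindex in
theorem pomega_minus {m : ℕ} (hm : 1 ≤ m) {a b : F}
    (hab : ∀ z₁ z₂ : F, z₁ ^ 2 + a * z₁ * z₂ + b * z₂ ^ 2 = 0 → z₁ = 0 ∧ z₂ = 0) (hp5 : 5 ≤ p)
    (hpF : ¬ p ∣ Fintype.card F) : ¬ _root_.Cfsg.Agent.H92.ExtP.Ext p (POmega F (quadFormMinus m F a b)) := by
  rw [← coe_quadMinus]
  exact pomega _ hp5 hpF (quadMinus_nondegenerate hab)
    (by simp only [Fintype.card_sum, Fintype.card_fin]; omega) (quadMinus_isotropic hm a b)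

end Rows

end Cfsg.Agent.H92.ExtCl
end

-- part: H36/ExtSpor
section
/-!
# Sporadic groups with a Sylow `p`-subgroup nonabelian of order `p³` (helper36, task 328 for S2215)
-/

set_option autoImplicit false

namespace Cfsg.Agent.H36.ExtSpor

open Cfsg Cfsg.Lie Cfsg.Agent.H92.ExtP

variable {p : ℕ} [hp : Fact p.Prime]

theorem key {G : Type*} [Group G] {n : ℕ} (hcard : Nat.card G = n) (l : List (ℕ × ℕ)) (hl : ∀ x ∈ l, x.1.Prime)
    (hn : n = (l.map fun x => x.1 ^ x.2).prod) (h : _root_.Cfsg.Agent.H92.ExtP.Ext p G) :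
    ∃ x ∈ l, x.1 = p ∧ x.1 ^ 3 ∣ n ∧ ¬ x.1 ^ 4 ∣ n := by
  have h1 : p ∣ (l.map fun x => x.1 ^ x.2).prod := by
    rw [← hn, ← hcard]
    exact (dvd_pow_self p (by norm_num)).trans h.dvd
  obtain ⟨y, hy, hd⟩ := (Nat.Prime.prime hp.out).dvd_prod_iff.1 h1
  obtain ⟨x, hx, rfl⟩ := List.mem_map.1 hy
  have h2 : p = x.1 := (Nat.prime_dvd_prime_iff_eq hp.out (hl x hx)).1 (hp.out.dvd_of_dvd_pow hd)
  refine ⟨x, hx, h2.symm, ?_, ?_⟩
  · rw [← h2, ← hcard]; exact h.dvd
  · rw [← h2, ← hcard]; exact h.not_dvd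

open Cfsg.Agent.SporadicB.J1.Main in
/-- the Sylow 2-subgroups of `J₁` are abelian -/
theorem not_j1 {G : Type*} [Group G] (hG : Spor.IsoJ1 G) (h : Ext 2 G) : False := by
  obtain ⟨e0⟩ := hG
  have hE : Nat.card data.E = 8 := data.card_E
  have hcard : Nat.card Cfsg.Spor.J1 = 175560 := isJ1.2
  have hfin : Finite Cfsg.Spor.J1 := Nat.finite_of_card_ne_zero (by rw [hcard]; norm_num)
  have h1 := h.congr e0
  have hsq : ∀ x ∈ data.E, x * x = 1 := by
    intro x hx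
    obtain ⟨i, rfl⟩ : x ∈ Set.range data.e := hx
    exact ((rep_e i).mul (rep_e i)).eq Rep.one (ce_sq i)
  obtain ⟨a, ha, b, hb, hab⟩ := h1.noncomm data.E (by rw [hE]; norm_num)
  apply hab
  have h2 := hsq (a * b) (mul_mem ha hb)
  have ha1 : a⁻¹ = a := (inv_eq_of_mul_eq_one_right (hsq a ha) :)
  have hb1 : b⁻¹ = b := inv_eq_of_mul_eq_one_right (hsq b hb)
  calc a * b = (a * b)⁻¹ := (inv_eq_of_mul_eq_one_right (by exact h2)).symm
    _ = b * a := by rw [mul_inv_rev, ha1, hb1]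

theorem m11 {G : Type*} [Group G] (hG : Spor.IsoM11 G) (h : _root_.Cfsg.Agent.H92.ExtP.Ext p G) : False := by
  obtain ⟨x, hx, h1, h2, h3⟩ := key (NotCT.Orders.m11 hG) [(2, 4), (3, 2), (5, 1), (11, 1)]
    (by simp; norm_num) (by norm_num) h
  simp only [List.mem_cons, List.not_mem_nil, or_false] at hx
  rcases hx with rfl | rfl | rfl | rfl <;>
      first | (exfalso; revert h2; norm_num; done) | (exfalso; revert h3; norm_num; done) | skip

theorem m12 {G : Type*} [Group G] (hG : Spor.IsoM12 G) (h : _root_.Cfsg.Agent.H92.ExtP.Ext p G) : p = 3 := by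
  obtain ⟨x, hx, h1, h2, h3⟩ := key (NotCT.Orders.m12 hG) [(2, 6), (3, 3), (5, 1), (11, 1)]
    (by simp; norm_num) (by norm_num) h
  simp only [List.mem_cons, List.not_mem_nil, or_false] at hx
  rcases hx with rfl | rfl | rfl | rfl <;>
      first | (exfalso; revert h2; norm_num; done) | (exfalso; revert h3; norm_num; done) | skip
  · exact h1.symm

theorem m22 {G : Type*} [Group G] (hG : Spor.IsoM22 G) (h : _root_.Cfsg.Agent.H92.ExtP.Ext p G) : False := by
  obtain ⟨x, hx, h1, h2, h3⟩ := key (NotCT.Orders.m22 hG) [(2, 7), (3, 2), (5, 1), (7, 1), (11, 1)]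
    (by simp only [_root_.List.mem_cons, _root_.List.not_mem_nil, _root_.or_false, _root_.forall_eq_or_imp, _root_.forall_eq]; norm_num) (by norm_num) h
  simp only [List.mem_cons, List.not_mem_nil, or_false] at hx
  rcases hx with rfl | rfl | rfl | rfl | rfl <;>
      first | (exfalso; revert h2; norm_num; done) | (exfalso; revert h3; norm_num; done) | skip

theorem m23 {G : Type*} [Group G] (hG : Spor.IsoM23 G) (h : _root_.Cfsg.Agent.H92.ExtP.Ext p G) : False := by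
  obtain ⟨x, hx, h1, h2, h3⟩ := key (NotCT.Orders.m23 hG) [(2, 7), (3, 2), (5, 1), (7, 1), (11, 1), (23, 1)]
    (by simp only [_root_.List.mem_cons, _root_.List.not_mem_nil, _root_.or_false, _root_.forall_eq_or_imp, _root_.forall_eq]; norm_num) (by norm_num) h
  simp only [List.mem_cons, List.not_mem_nil, or_false] at hx
  rcases hx with rfl | rfl | rfl | rfl | rfl | rfl <;>
      first | (exfalso; revert h2; norm_num; done) | (exfalso; revert h3; norm_num; done) | skip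

theorem m24 {G : Type*} [Group G] (hG : Spor.IsoM24 G) (h : _root_.Cfsg.Agent.H92.ExtP.Ext p G) : p = 3 := by
  obtain ⟨x, hx, h1, h2, h3⟩ := key (NotCT.Orders.m24 hG) [(2, 10), (3, 3), (5, 1), (7, 1), (11, 1), (23, 1)]
    (by simp only [_root_.List.mem_cons, _root_.List.not_mem_nil, _root_.or_false, _root_.forall_eq_or_imp, _root_.forall_eq]; norm_num) (by norm_num) h
  simp only [List.mem_cons, List.not_mem_nil, or_false] at hx
  rcases hx with rfl | rfl | rfl | rfl | rfl | rfl <;>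
      first | (exfalso; revert h2; norm_num; done) | (exfalso; revert h3; norm_num; done) | skip
  · exact h1.symm

theorem j1 {G : Type*} [Group G] (hG : Spor.IsoJ1 G) (h : _root_.Cfsg.Agent.H92.ExtP.Ext p G) : False := by
  obtain ⟨x, hx, h1, h2, h3⟩ := key (NotCT.Orders.j1 hG) [(2, 3), (3, 1), (5, 1), (7, 1), (11, 1), (19, 1)]
    (by simp only [_root_.List.mem_cons, _root_.List.not_mem_nil, _root_.or_false, _root_.forall_eq_or_imp, _root_.forall_eq]; norm_num) (by norm_num) h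
  simp only [List.mem_cons, List.not_mem_nil, or_false] at hx
  rcases hx with rfl | rfl | rfl | rfl | rfl | rfl <;>
      first | (exfalso; revert h2; norm_num; done) | (exfalso; revert h3; norm_num; done) | skip
  have h4 : (2 : ℕ) = p := h1
  subst h4
  exact not_j1 hG h

theorem j2 {G : Type*} [Group G] (hG : Spor.IsoJ2 G) (h : _root_.Cfsg.Agent.H92.ExtP.Ext p G) : p = 3 := by
  obtain ⟨x, hx, h1, h2, h3⟩ := key (NotCT.Orders.j2 hG) [(2, 7), (3, 3), (5, 2), (7, 1)]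
    (by simp; norm_num) (by norm_num) h
  simp only [List.mem_cons, List.not_mem_nil, or_false] at hx
  rcases hx with rfl | rfl | rfl | rfl <;>
      first | (exfalso; revert h2; norm_num; done) | (exfalso; revert h3; norm_num; done) | skip
  · exact h1.symm

theorem j3 {G : Type*} [Group G] (hG : Spor.IsoJ3 G) (h : _root_.Cfsg.Agent.H92.ExtP.Ext p G) : False := by
  obtain ⟨x, hx, h1, h2, h3⟩ := key (NotCT.Orders.j3 hG) [(2, 7), (3, 5), (5, 1), (17, 1), (19, 1)]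
    (by simp only [_root_.List.mem_cons, _root_.List.not_mem_nil, _root_.or_false, _root_.forall_eq_or_imp, _root_.forall_eq]; norm_num) (by norm_num) h
  simp only [List.mem_cons, List.not_mem_nil, or_false] at hx
  rcases hx with rfl | rfl | rfl | rfl | rfl <;>
      first | (exfalso; revert h2; norm_num; done) | (exfalso; revert h3; norm_num; done) | skip

theorem j4 {G : Type*} [Group G] (hG : Spor.IsoJ4 G) (h : _root_.Cfsg.Agent.H92.ExtP.Ext p G) : p = 3 ∨ p = 11 := by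
  obtain ⟨x, hx, h1, h2, h3⟩ := key (NotCT.Orders.j4 hG) [(2, 21), (3, 3), (5, 1), (7, 1), (11, 3), (23, 1), (29, 1), (31, 1), (37, 1), (43, 1)]
    (by simp only [_root_.List.mem_cons, _root_.List.not_mem_nil, _root_.or_false, _root_.forall_eq_or_imp, _root_.forall_eq]; norm_num) (by norm_num) h
  simp only [List.mem_cons, List.not_mem_nil, or_false] at hx
  rcases hx with rfl | rfl | rfl | rfl | rfl | rfl | rfl | rfl | rfl | rfl <;>
      first | (exfalso; revert h2; norm_num; done) | (exfalso; revert h3; norm_num; done) | skip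
  · exact Or.inl h1.symm
  · exact Or.inr h1.symm

theorem co1 {G : Type*} [Group G] (hG : Spor.IsoCo1 G) (h : _root_.Cfsg.Agent.H92.ExtP.Ext p G) : False := by
  obtain ⟨x, hx, h1, h2, h3⟩ := key (NotCT.Orders.co1 hG) [(2, 21), (3, 9), (5, 4), (7, 2), (11, 1), (13, 1), (23, 1)]
    (by simp only [_root_.List.mem_cons, _root_.List.not_mem_nil, _root_.or_false, _root_.forall_eq_or_imp, _root_.forall_eq]; norm_num) (by norm_num) h
  simp only [List.mem_cons, List.not_mem_nil, or_false] at hx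
  rcases hx with rfl | rfl | rfl | rfl | rfl | rfl | rfl <;>
      first | (exfalso; revert h2; norm_num; done) | (exfalso; revert h3; norm_num; done) | skip

theorem co2 {G : Type*} [Group G] (hG : Spor.IsoCo2 G) (h : _root_.Cfsg.Agent.H92.ExtP.Ext p G) : p = 5 := by
  obtain ⟨x, hx, h1, h2, h3⟩ := key (NotCT.Orders.co2 hG) [(2, 18), (3, 6), (5, 3), (7, 1), (11, 1), (23, 1)]
    (by simp only [_root_.List.mem_cons, _root_.List.not_mem_nil, _root_.or_false, _root_.forall_eq_or_imp, _root_.forall_eq]; norm_num) (by norm_num) h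
  simp only [List.mem_cons, List.not_mem_nil, or_false] at hx
  rcases hx with rfl | rfl | rfl | rfl | rfl | rfl <;>
      first | (exfalso; revert h2; norm_num; done) | (exfalso; revert h3; norm_num; done) | skip
  · exact h1.symm

theorem co3 {G : Type*} [Group G] (hG : Spor.IsoCo3 G) (h : _root_.Cfsg.Agent.H92.ExtP.Ext p G) : p = 5 := by
  obtain ⟨x, hx, h1, h2, h3⟩ := key (NotCT.Orders.co3 hG) [(2, 10), (3, 7), (5, 3), (7, 1), (11, 1), (23, 1)]
    (by simp only [_root_.List.mem_cons, _root_.List.not_mem_nil, _root_.or_false, _root_.forall_eq_or_imp, _root_.forall_eq]; norm_num) (by norm_num) h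
  simp only [List.mem_cons, List.not_mem_nil, or_false] at hx
  rcases hx with rfl | rfl | rfl | rfl | rfl | rfl <;>
      first | (exfalso; revert h2; norm_num; done) | (exfalso; revert h3; norm_num; done) | skip
  · exact h1.symm

theorem mcl {G : Type*} [Group G] (hG : Spor.IsoMcL G) (h : _root_.Cfsg.Agent.H92.ExtP.Ext p G) : p = 5 := by
  obtain ⟨x, hx, h1, h2, h3⟩ := key (NotCT.Orders.mcl hG) [(2, 7), (3, 6), (5, 3), (7, 1), (11, 1)]
    (by simp only [_root_.List.mem_cons, _root_.List.not_mem_nil, _root_.or_false, _root_.forall_eq_or_imp, _root_.forall_eq]; norm_num) (by norm_num) h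
  simp only [List.mem_cons, List.not_mem_nil, or_false] at hx
  rcases hx with rfl | rfl | rfl | rfl | rfl <;>
      first | (exfalso; revert h2; norm_num; done) | (exfalso; revert h3; norm_num; done) | skip
  · exact h1.symm

theorem hs {G : Type*} [Group G] (hG : Spor.IsoHS G) (h : _root_.Cfsg.Agent.H92.ExtP.Ext p G) : p = 5 := by
  obtain ⟨x, hx, h1, h2, h3⟩ := key (NotCT.Orders.hs hG) [(2, 9), (3, 2), (5, 3), (7, 1), (11, 1)]
    (by simp only [_root_.List.mem_cons, _root_.List.not_mem_nil, _root_.or_false, _root_.forall_eq_or_imp, _root_.forall_eq]; norm_num) (by norm_num) h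
  simp only [List.mem_cons, List.not_mem_nil, or_false] at hx
  rcases hx with rfl | rfl | rfl | rfl | rfl <;>
      first | (exfalso; revert h2; norm_num; done) | (exfalso; revert h3; norm_num; done) | skip
  · exact h1.symm

theorem suz {G : Type*} [Group G] (hG : Spor.IsoSuz G) (h : _root_.Cfsg.Agent.H92.ExtP.Ext p G) : False := by
  obtain ⟨x, hx, h1, h2, h3⟩ := key (NotCT.Orders.suz hG) [(2, 13), (3, 7), (5, 2), (7, 1), (11, 1), (13, 1)]
    (by simp only [_root_.List.mem_cons, _root_.List.not_mem_nil, _root_.or_false, _root_.forall_eq_or_imp, _root_.forall_eq]; norm_num) (by norm_num) h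
  simp only [List.mem_cons, List.not_mem_nil, or_false] at hx
  rcases hx with rfl | rfl | rfl | rfl | rfl | rfl <;>
      first | (exfalso; revert h2; norm_num; done) | (exfalso; revert h3; norm_num; done) | skip

theorem he {G : Type*} [Group G] (hG : Spor.IsoHe G) (h : _root_.Cfsg.Agent.H92.ExtP.Ext p G) : p = 3 ∨ p = 7 := by
  obtain ⟨x, hx, h1, h2, h3⟩ := key (NotCT.Orders.he hG) [(2, 10), (3, 3), (5, 2), (7, 3), (17, 1)]
    (by simp only [_root_.List.mem_cons, _root_.List.not_mem_nil, _root_.or_false, _root_.forall_eq_or_imp, _root_.forall_eq]; norm_num) (by norm_num) h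
  simp only [List.mem_cons, List.not_mem_nil, or_false] at hx
  rcases hx with rfl | rfl | rfl | rfl | rfl <;>
      first | (exfalso; revert h2; norm_num; done) | (exfalso; revert h3; norm_num; done) | skip
  · exact Or.inl h1.symm
  · exact Or.inr h1.symm

theorem ru {G : Type*} [Group G] (hG : Spor.IsoRu G) (h : _root_.Cfsg.Agent.H92.ExtP.Ext p G) : p = 3 ∨ p = 5 := by
  obtain ⟨x, hx, h1, h2, h3⟩ := key (NotCT.Orders.ru hG) [(2, 14), (3, 3), (5, 3), (7, 1), (13, 1), (29, 1)]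
    (by simp only [_root_.List.mem_cons, _root_.List.not_mem_nil, _root_.or_false, _root_.forall_eq_or_imp, _root_.forall_eq]; norm_num) (by norm_num) h
  simp only [List.mem_cons, List.not_mem_nil, or_false] at hx
  rcases hx with rfl | rfl | rfl | rfl | rfl | rfl <;>
      first | (exfalso; revert h2; norm_num; done) | (exfalso; revert h3; norm_num; done) | skip
  · exact Or.inl h1.symm
  · exact Or.inr h1.symm

theorem on {G : Type*} [Group G] (hG : Spor.IsoON G) (h : _root_.Cfsg.Agent.H92.ExtP.Ext p G) : p = 7 := by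
  obtain ⟨x, hx, h1, h2, h3⟩ := key (NotCT.Orders.on hG) [(2, 9), (3, 4), (5, 1), (7, 3), (11, 1), (19, 1), (31, 1)]
    (by simp only [_root_.List.mem_cons, _root_.List.not_mem_nil, _root_.or_false, _root_.forall_eq_or_imp, _root_.forall_eq]; norm_num) (by norm_num) h
  simp only [List.mem_cons, List.not_mem_nil, or_false] at hx
  rcases hx with rfl | rfl | rfl | rfl | rfl | rfl | rfl <;>
      first | (exfalso; revert h2; norm_num; done) | (exfalso; revert h3; norm_num; done) | skip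
  · exact h1.symm

theorem ly {G : Type*} [Group G] (hG : Spor.IsoLy G) (h : _root_.Cfsg.Agent.H92.ExtP.Ext p G) : False := by
  obtain ⟨x, hx, h1, h2, h3⟩ := key (NotCT.Orders.ly hG) [(2, 8), (3, 7), (5, 6), (7, 1), (11, 1), (31, 1), (37, 1), (67, 1)]
    (by simp only [_root_.List.mem_cons, _root_.List.not_mem_nil, _root_.or_false, _root_.forall_eq_or_imp, _root_.forall_eq]; norm_num) (by norm_num) h
  simp only [List.mem_cons, List.not_mem_nil, or_false] at hx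
  rcases hx with rfl | rfl | rfl | rfl | rfl | rfl | rfl | rfl <;>
      first | (exfalso; revert h2; norm_num; done) | (exfalso; revert h3; norm_num; done) | skip

theorem fi22 {G : Type*} [Group G] (hG : Spor.IsoFi22 G) (h : _root_.Cfsg.Agent.H92.ExtP.Ext p G) : False := by
  obtain ⟨x, hx, h1, h2, h3⟩ := key (NotCT.Orders.fi22 hG) [(2, 17), (3, 9), (5, 2), (7, 1), (11, 1), (13, 1)]
    (by simp only [_root_.List.mem_cons, _root_.List.not_mem_nil, _root_.or_false, _root_.forall_eq_or_imp, _root_.forall_eq]; norm_num) (by norm_num) h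
  simp only [List.mem_cons, List.not_mem_nil, or_false] at hx
  rcases hx with rfl | rfl | rfl | rfl | rfl | rfl <;>
      first | (exfalso; revert h2; norm_num; done) | (exfalso; revert h3; norm_num; done) | skip

theorem fi23 {G : Type*} [Group G] (hG : Spor.IsoFi23 G) (h : _root_.Cfsg.Agent.H92.ExtP.Ext p G) : False := by
  obtain ⟨x, hx, h1, h2, h3⟩ := key (NotCT.Orders.fi23 hG) [(2, 18), (3, 13), (5, 2), (7, 1), (11, 1), (13, 1), (17, 1), (23, 1)]
    (by simp only [_root_.List.mem_cons, _root_.List.not_mem_nil, _root_.or_false, _root_.forall_eq_or_imp, _root_.forall_eq]; norm_num) (by norm_num) h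
  simp only [List.mem_cons, List.not_mem_nil, or_false] at hx
  rcases hx with rfl | rfl | rfl | rfl | rfl | rfl | rfl | rfl <;>
      first | (exfalso; revert h2; norm_num; done) | (exfalso; revert h3; norm_num; done) | skip

theorem fi24 {G : Type*} [Group G] (hG : Spor.IsoFi24' G) (h : _root_.Cfsg.Agent.H92.ExtP.Ext p G) : p = 7 := by
  obtain ⟨x, hx, h1, h2, h3⟩ := key (NotCT.Orders.fi24 hG) [(2, 21), (3, 16), (5, 2), (7, 3), (11, 1), (13, 1), (17, 1), (23, 1), (29, 1)]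
    (by simp only [_root_.List.mem_cons, _root_.List.not_mem_nil, _root_.or_false, _root_.forall_eq_or_imp, _root_.forall_eq]; norm_num) (by norm_num) h
  simp only [List.mem_cons, List.not_mem_nil, or_false] at hx
  rcases hx with rfl | rfl | rfl | rfl | rfl | rfl | rfl | rfl | rfl <;>
      first | (exfalso; revert h2; norm_num; done) | (exfalso; revert h3; norm_num; done) | skip
  · exact h1.symm

theorem hn {G : Type*} [Group G] (hG : Spor.IsoHN G) (h : _root_.Cfsg.Agent.H92.ExtP.Ext p G) : False := by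
  obtain ⟨x, hx, h1, h2, h3⟩ := key (NotCT.Orders.hn hG) [(2, 14), (3, 6), (5, 6), (7, 1), (11, 1), (19, 1)]
    (by simp only [_root_.List.mem_cons, _root_.List.not_mem_nil, _root_.or_false, _root_.forall_eq_or_imp, _root_.forall_eq]; norm_num) (by norm_num) h
  simp only [List.mem_cons, List.not_mem_nil, or_false] at hx
  rcases hx with rfl | rfl | rfl | rfl | rfl | rfl <;>
      first | (exfalso; revert h2; norm_num; done) | (exfalso; revert h3; norm_num; done) | skip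

theorem th {G : Type*} [Group G] (hG : Spor.IsoTh G) (h : _root_.Cfsg.Agent.H92.ExtP.Ext p G) : p = 5 := by
  obtain ⟨x, hx, h1, h2, h3⟩ := key (NotCT.Orders.th hG) [(2, 15), (3, 10), (5, 3), (7, 2), (13, 1), (19, 1), (31, 1)]
    (by simp only [_root_.List.mem_cons, _root_.List.not_mem_nil, _root_.or_false, _root_.forall_eq_or_imp, _root_.forall_eq]; norm_num) (by norm_num) h
  simp only [List.mem_cons, List.not_mem_nil, or_false] at hx
  rcases hx with rfl | rfl | rfl | rfl | rfl | rfl | rfl <;>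
      first | (exfalso; revert h2; norm_num; done) | (exfalso; revert h3; norm_num; done) | skip
  · exact h1.symm

theorem b {G : Type*} [Group G] (hG : Spor.IsoB G) (h : _root_.Cfsg.Agent.H92.ExtP.Ext p G) : False := by
  obtain ⟨x, hx, h1, h2, h3⟩ := key (NotCT.Orders.b hG) [(2, 41), (3, 13), (5, 6), (7, 2), (11, 1), (13, 1), (17, 1), (19, 1), (23, 1), (31, 1), (47, 1)]
    (by simp only [_root_.List.mem_cons, _root_.List.not_mem_nil, _root_.or_false, _root_.forall_eq_or_imp, _root_.forall_eq]; norm_num) (by norm_num) h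
  simp only [List.mem_cons, List.not_mem_nil, or_false] at hx
  rcases hx with rfl | rfl | rfl | rfl | rfl | rfl | rfl | rfl | rfl | rfl | rfl <;>
      first | (exfalso; revert h2; norm_num; done) | (exfalso; revert h3; norm_num; done) | skip

theorem m {G : Type*} [Group G] (hG : Spor.IsoM G) (h : _root_.Cfsg.Agent.H92.ExtP.Ext p G) : p = 13 := by
  obtain ⟨x, hx, h1, h2, h3⟩ := key (NotCT.Orders.m hG) [(2, 46), (3, 20), (5, 9), (7, 6), (11, 2), (13, 3), (17, 1), (19, 1), (23, 1), (29, 1), (31, 1), (41, 1), (47, 1), (59, 1), (71, 1)]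
    (by simp only [_root_.List.mem_cons, _root_.List.not_mem_nil, _root_.or_false, _root_.forall_eq_or_imp, _root_.forall_eq]; norm_num) (by norm_num) h
  simp only [List.mem_cons, List.not_mem_nil, or_false] at hx
  rcases hx with rfl | rfl | rfl | rfl | rfl | rfl | rfl | rfl | rfl | rfl | rfl | rfl | rfl | rfl | rfl <;>
      first | (exfalso; revert h2; norm_num; done) | (exfalso; revert h3; norm_num; done) | skip
  · exact h1.symm

theorem tits {G : Type*} [Group G] (hG : Lie.IsoTits G) (h : _root_.Cfsg.Agent.H92.ExtP.Ext p G) : p = 3 := by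
  obtain ⟨x, hx, h1, h2, h3⟩ := key (NotCT.Orders.tits hG) [(2, 11), (3, 3), (5, 2), (13, 1)]
    (by simp; norm_num) (by norm_num) h
  simp only [List.mem_cons, List.not_mem_nil, or_false] at hx
  rcases hx with rfl | rfl | rfl | rfl <;>
      first | (exfalso; revert h2; norm_num; done) | (exfalso; revert h3; norm_num; done) | skip
  · exact h1.symm

theorem spor {G : Type*} [Group G] (hG : IsSporadicGroup G) (h : _root_.Cfsg.Agent.H92.ExtP.Ext p G) :
    (p = 3 ∧ (Spor.IsoM12 G ∨ Spor.IsoM24 G ∨ Spor.IsoJ2 G ∨ Spor.IsoJ4 G ∨ Spor.IsoHe G ∨ Spor.IsoRu G)) ∨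
    (p = 5 ∧ (Spor.IsoHS G ∨ Spor.IsoCo3 G ∨ Spor.IsoCo2 G ∨ Spor.IsoMcL G ∨ Spor.IsoRu G ∨ Spor.IsoTh G)) ∨
    (p = 7 ∧ (Spor.IsoHe G ∨ Spor.IsoON G ∨ Spor.IsoFi24' G)) ∨
    (p = 11 ∧ Spor.IsoJ4 G) ∨
    (p = 13 ∧ Spor.IsoM G) := by
  rcases hG with g | g | g | g | g | g | g | g | g | g | g | g | g | g | g | g | g | g |
      g | g | g | g | g | g | g | g
  · exact (m11 g h).elim
  · simp only [m12 g h, g, true_or, or_true, and_self]
  · exact (m22 g h).elim
  · exact (m23 g h).elim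
  · simp only [m24 g h, g, true_or, or_true, and_self]
  · exact (j1 g h).elim
  · simp only [j2 g h, g, true_or, or_true, and_self]
  · exact (j3 g h).elim
  · rcases j4 g h with e | e <;> simp only [e, g, true_or, or_true, and_self]
  · exact (co1 g h).elim
  · simp only [co2 g h, g, true_or, or_true, and_self]
  · simp only [co3 g h, g, true_or, or_true, and_self]
  · simp only [mcl g h, g, true_or, or_true, and_self]
  · simp only [hs g h, g, true_or, or_true, and_self]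
  · exact (suz g h).elim
  · rcases he g h with e | e <;> simp only [e, g, true_or, or_true, and_self]
  · rcases ru g h with e | e <;> simp only [e, g, true_or, or_true, and_self]
  · simp only [on g h, g, true_or, or_true, and_self]
  · exact (ly g h).elim
  · exact (fi22 g h).elim
  · exact (fi23 g h).elim
  · simp only [fi24 g h, g, true_or, or_true, and_self]
  · exact (hn g h).elim
  · simp only [th g h, g, true_or, or_true, and_self]
  · exact (b g h).elim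
  · simp only [m g h, g, true_or, or_true, and_self]

end Cfsg.Agent.H36.ExtSpor
end

-- part: H442/ExtExc
section
/-!
# Nonabelian Sylow subgroups of order `p³` in G2, F4, E6, E7, E8 (for S2215)
-/

set_option autoImplicit false

namespace Cfsg.Agent.H442.ExtExc

open Cfsg Cfsg.Lie Cfsg.Agent.H92.ExtP

variable {p : ℕ} [Fact p.Prime]

/-- no commutative `p`-subgroup of order at least `p³` -/
theorem no_hom {G : Type*} [Group G] [Finite G] (h : _root_.Cfsg.Agent.H92.ExtP.Ext p G) {A : Type*} [Group A] (hc : ∀ a b : A, a * b = b * a)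
    (hA : ∃ k, 3 ≤ k ∧ Nat.card A = p ^ k) (f : A →* G) (hf : Function.Injective f) : False := by
  have hp : p.Prime := Fact.out
  obtain ⟨k, hk3, hk⟩ := hA
  have h1 : Nat.card f.range = p ^ k := by
    rw [← hk]; exact Nat.card_congr (f.ofInjective hf).toEquiv.symm
  obtain ⟨a, ⟨a', rfl⟩, b, ⟨b', rfl⟩, hab⟩ := h.exists_ne (A := f.range) (IsPGroup.of_card h1)
    (by rw [h1]; exact Nat.pow_le_pow_right hp.pos hk3)
  exact hab (by rw [← map_mul, ← map_mul, hc])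

/-- the generic primes -/
theorem no_gen {F : Type*} [Field F] [Fintype F] (c : Cfsg.Lie.ChevalleyDatum × List ℕ)
    (hc : c ∈ [(Cfsg.Lie.chevG2, [2, 6]), (Cfsg.Lie.chevB2, [2, 4]), (Cfsg.Lie.chevD4, [2, 4, 4, 6]), (Cfsg.Lie.chevF4, [2, 6, 8, 12]),
      (Cfsg.Lie.chevE6, [2, 5, 6, 8, 9, 12]), (Cfsg.Lie.chevE7, [2, 6, 8, 10, 12, 14, 18]), (Cfsg.Lie.chevE8, [2, 8, 12, 14, 18, 20, 24, 30])])
    (h : _root_.Cfsg.Agent.H92.ExtP.Ext p ↥(c.1.group F)) (hrq : ¬ p ∣ Fintype.card F) (hrW : ¬ p ∣ c.2.prod) : False := by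
  have hp : p.Prime := Fact.out
  obtain ⟨P⟩ : Nonempty (Sylow p ↥(c.1.group F)) := inferInstance
  obtain ⟨e⟩ := Cfsg.Agent.S2378.result rfl c hc p hrq hrW ((dvd_pow_self p (by norm_num)).trans h.dvd) P
  refine no_hom h (A := ↥(P : Subgroup ↥(c.1.group F))) (fun a b => e.injective (by rw [map_mul, map_mul, mul_comm])) ?_
    ((P : Subgroup ↥(c.1.group F)).subtype :) (Subgroup.subtype_injective _)
  refine ⟨_, ?_, P.card_eq_multiplicity⟩
  exact (hp.pow_dvd_iff_le_factorization Nat.card_pos.ne').1 h.dvd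

/-- `p⁴` divides the numerator -/
theorem contra {N g X : ℕ} (hN : ¬ p ^ 4 ∣ N) (hX : g * N = X) (hg : ¬ p ∣ g) (h : p ^ 4 ∣ X) : False := by
  have hp : p.Prime := Fact.out
  rw [← hX] at h
  exact hN ((Nat.Coprime.pow_left 4 ((Nat.Prime.coprime_iff_not_dvd hp).2 hg)).dvd_of_dvd_mul_left h)

theorem prime_cases {a b c d : ℕ} (h : p ∣ 2 ^ a * 3 ^ b * 5 ^ c * 7 ^ d) : p = 2 ∨ p = 3 ∨ p = 5 ∨ p = 7 := by
  have hp : p.Prime := Fact.out
  rcases hp.dvd_mul.1 h with h | h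
  · rcases hp.dvd_mul.1 h with h | h
    · rcases hp.dvd_mul.1 h with h | h
      · exact Or.inl ((Nat.prime_dvd_prime_iff_eq hp Nat.prime_two).1 (hp.dvd_of_dvd_pow h))
      · exact Or.inr (Or.inl ((Nat.prime_dvd_prime_iff_eq hp Nat.prime_three).1 (hp.dvd_of_dvd_pow h)))
    · exact Or.inr (Or.inr (Or.inl ((Nat.prime_dvd_prime_iff_eq hp Nat.prime_five).1 (hp.dvd_of_dvd_pow h))))
  · exact Or.inr (Or.inr (Or.inr ((Nat.prime_dvd_prime_iff_eq hp (by norm_num)).1 (hp.dvd_of_dvd_pow h))))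

/-- `q ^ a ≡ 1 mod m` from the residue of `q` -/
theorem dvd_of_mod {q m a : ℕ} (hq : 1 ≤ q) (h : ((q % m) ^ a) % m = 1 % m) : m ∣ q ^ a - 1 := by
  rw [← Nat.modEq_iff_dvd' (Nat.one_le_pow _ _ hq)]
  show 1 % m = q ^ a % m
  rw [Nat.pow_mod, h]


/-- even exponents, odd `q` -/
theorem two_dvd {q a : ℕ} (hq : 1 ≤ q) (h1 : q % 2 = 1) (ha : 2 ∣ a) : 8 ∣ q ^ a - 1 := by
  obtain ⟨b, rfl⟩ := ha
  refine dvd_of_mod hq ?_
  have h2 : (q % 8) ^ 2 % 8 = 1 := (by decide : ∀ r < 8, r % 2 = 1 → r ^ 2 % 8 = 1) (q % 8)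
    (Nat.mod_lt _ (by norm_num)) (by omega)
  rw [pow_mul, Nat.pow_mod, h2, one_pow]

/-- even exponents, `3 ∤ q` -/
theorem three_dvd {q a : ℕ} (hq : 1 ≤ q) (h1 : q % 3 ≠ 0) (ha : 2 ∣ a) : 3 ∣ q ^ a - 1 := by
  obtain ⟨b, rfl⟩ := ha
  refine dvd_of_mod hq ?_
  have h2 : (q % 3) ^ 2 % 3 = 1 := (by decide : ∀ r < 3, r % 3 ≠ 0 → r ^ 2 % 3 = 1) (q % 3)
    (Nat.mod_lt _ (by norm_num)) (by omega)
  rw [pow_mul, Nat.pow_mod, h2, one_pow]

/-- exponents divisible by `d`, `q ^ d ≡ 1` -/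
theorem dvd_of_dvd {q m d a : ℕ} (hq : 1 ≤ q) (h1 : m ∣ q ^ d - 1) (ha : d ∣ a) : m ∣ q ^ a - 1 := by
  obtain ⟨b, rfl⟩ := ha
  refine h1.trans ?_
  rw [← Nat.modEq_iff_dvd' (Nat.one_le_pow _ _ hq), pow_mul]
  have h2 : 1 ≡ q ^ d [MOD (q ^ d - 1)] := (Nat.modEq_iff_dvd' (Nat.one_le_pow _ _ hq)).2 dvd_rfl
  simpa using h2.pow b

theorem dvd_iff_mod {q m a : ℕ} (hq : 1 ≤ q) : m ∣ q ^ a - 1 ↔ (q % m) ^ a % m = 1 % m := by
  rw [← Nat.modEq_iff_dvd' (Nat.one_le_pow _ _ hq)]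
  constructor
  · intro h; rw [← Nat.pow_mod]; exact h.symm
  · intro h; show 1 % m = q ^ a % m; rw [Nat.pow_mod, h]

/-- a square divisible by `5³` comes from a multiple of `25` -/
theorem sq_five {m : ℕ} (h : 5 ^ 3 ∣ m ^ 2) : 5 ^ 2 ∣ m := by
  have h5 : Nat.Prime 5 := by norm_num
  obtain ⟨a, rfl⟩ : 5 ∣ m := h5.dvd_of_dvd_pow ((dvd_pow_self 5 (by norm_num)).trans h)
  have h1 : 5 ∣ a ^ 2 := by
    have : 25 * 5 ∣ 25 * a ^ 2 := by
      have h2 : (5 * a) ^ 2 = 25 * a ^ 2 := by ring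
      rw [h2] at h
      simpa only [_root_.Nat.reduceMul, _root_.Nat.reducePow] using h
    exact (Nat.mul_dvd_mul_iff_left (by norm_num)).1 this
  obtain ⟨b, rfl⟩ := h5.dvd_of_dvd_pow h1
  exact ⟨b, by ring⟩

theorem g2 {F : Type} [Field F] [Fintype F] (hF : 3 ≤ Fintype.card F) (h : _root_.Cfsg.Agent.H92.ExtP.Ext p ↥(chevG2.group F)) :
    p = 3 ∧ ∃ r a : ℕ, r.Prime ∧ (r % 9 = 2 ∨ r % 9 = 4 ∨ r % 9 = 5 ∨ r % 9 = 7) ∧
      1 ≤ a ∧ ¬ 3 ∣ a ∧ (r = 2 → 1 < a) ∧ Fintype.card F = r ^ a := by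
  have hp : p.Prime := Fact.out
  obtain ⟨q, hq⟩ : ∃ q, Fintype.card F = q := ⟨_, rfl⟩
  have hc := Cfsg.Agent.S1059.result hq
  have h4 := h.not_dvd
  rw [hc] at h4
  have hq1 : 1 ≤ q := by omega
  have hpq : ¬ p ∣ q := by
    intro hd
    refine h4 (Dvd.dvd.mul_right (Dvd.dvd.mul_right ?_ _) _)
    exact (pow_dvd_pow p (by norm_num)).trans (pow_dvd_pow_of_dvd hd 6)
  have hW : p = 2 ∨ p = 3 ∨ p = 5 ∨ p = 7 := by
    by_contra hcon
    exact no_gen (chevG2, [2, 6]) (by simp) h (hq ▸ hpq) (fun h1 => hcon (prime_cases (a := 2) (b := 1) (c := 0) (d := 0)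
      (by simpa using h1)))
  have hW' : p ≠ 5 ∧ p ≠ 7 := by
    refine ⟨?_, ?_⟩ <;>
    · rintro rfl
      exact no_gen (chevG2, [2, 6]) (by simp) h (hq ▸ hpq) (by norm_num)
  obtain rfl | rfl : p = 2 ∨ p = 3 := by (clear * - hW hW'; tauto)
  · exfalso
    have h1 : q % 2 = 1 := by omega
    have h2 : 8 ∣ q ^ 2 - 1 := dvd_of_mod hq1 ((by decide : ∀ r < 8, r % 2 = 1 → r ^ 2 % 8 = 1 % 8) (q % 8) (Nat.mod_lt _ (by norm_num)) (by omega))
    have h3 : 8 ∣ q ^ 6 - 1 := dvd_of_mod hq1 ((by decide : ∀ r < 8, r % 2 = 1 → r ^ 6 % 8 = 1 % 8) (q % 8) (Nat.mod_lt _ (by norm_num)) (by omega))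
    obtain ⟨a, ha⟩ := h2
    obtain ⟨b, hb⟩ := h3
    exact h4 ⟨q ^ 6 * a * b * 4, by rw [ha, hb]; ring⟩
  · refine ⟨rfl, ?_⟩
    have h1 : q % 3 ≠ 0 := by omega
    have h3 : 9 ∣ q ^ 6 - 1 := dvd_of_mod hq1 ((by decide : ∀ r < 9, r % 3 ≠ 0 → r ^ 6 % 9 = 1 % 9) (q % 9) (Nat.mod_lt _ (by norm_num)) (by omega))
    have h2 : ¬ 9 ∣ q ^ 2 - 1 := by
      intro h2
      obtain ⟨a, ha⟩ := h2
      obtain ⟨b, hb⟩ := h3
      exact h4 ⟨q ^ 6 * a * b, by rw [ha, hb]; ring⟩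
    have hm : q % 9 = 2 ∨ q % 9 = 4 ∨ q % 9 = 5 ∨ q % 9 = 7 := by
      by_contra hcon
      apply h2
      refine dvd_of_mod hq1 ?_
      have h5 : q % 9 = 1 ∨ q % 9 = 8 := by (clear * - hpq hcon; omega)
      rcases h5 with h5 | h5 <;> simp [h5]
    obtain ⟨r, hr⟩ := CharP.exists F
    have := hr
    have hrp : Fact r.Prime := ⟨CharP.char_is_prime F r⟩
    obtain ⟨a, -, ha⟩ := FiniteField.card F r
    rw [hq] at ha
    have ha0 : 1 ≤ (a : ℕ) := a.pos
    refine ⟨r, a, hrp.out, ?_, ha0, ?_, ?_, by rw [hq, ha]⟩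
    · by_contra hcon
      have h5 : (r % 9 = 0 ∨ r % 9 = 3 ∨ r % 9 = 6) ∨ r % 9 = 1 ∨ r % 9 = 8 := by (clear * - hcon; omega)
      have hqr : q % 9 = (r % 9) ^ (a : ℕ) % 9 := by rw [ha, Nat.pow_mod]
      rcases h5 with h5 | h5 | h5
      · have : 3 ∣ r := by omega
        have : 3 ∣ q := by rw [ha]; exact dvd_pow this (by omega)
        omega
      · rw [h5, one_pow] at hqr; (clear * - hm hqr; omega)
      · rw [h5] at hqr
        have h6 : (8 : ℕ) ^ (a : ℕ) % 9 = 1 ∨ (8 : ℕ) ^ (a : ℕ) % 9 = 8 := by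
          induction (a : ℕ) with
          | zero => left; norm_num
          | succ n ih =>
            rw [pow_succ, Nat.mul_mod]
            rcases ih with ih | ih <;> rw [ih] <;> simp
        (clear * - hm hqr h6; omega)
    · rintro ⟨k, hk⟩
      have hqr : q % 9 = ((r ^ k) % 9) ^ 3 % 9 := by rw [ha, hk, mul_comm, pow_mul, Nat.pow_mod]
      have h6 : ∀ x < 9, x ^ 3 % 9 = 0 ∨ x ^ 3 % 9 = 1 ∨ x ^ 3 % 9 = 8 := by decide
      rcases h6 ((r ^ k) % 9) (Nat.mod_lt _ (by norm_num)) with h7 | h7 | h7 <;> (clear * - hpq hqr h7 hm; omega)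
    · rintro rfl
      by_contra hcon
      have : (a : ℕ) = 1 := by omega
      rw [this] at ha
      omega

/-- `q ≡ ±2 mod 5`: exponents not divisible by `4` -/
theorem not_dvd_five {q k : ℕ} (hq : 1 ≤ q) (h : q % 5 = 2 ∨ q % 5 = 3) (hk : k % 4 ≠ 0) : ¬ 5 ∣ q ^ k - 1 := by
  rw [dvd_iff_mod hq]
  have h4 : (q % 5) ^ 4 % 5 = 1 := by rcases h with h | h <;> simp [h]
  have hk' : k = 4 * (k / 4) + k % 4 := (Nat.div_add_mod k 4).symm
  have h5 : (q % 5) ^ k % 5 = (q % 5) ^ (k % 4) % 5 := by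
    conv_lhs => rw [hk', pow_add, pow_mul, Nat.mul_mod, Nat.pow_mod, h4]
    simp
  rw [h5]
  have h6 : k % 4 = 1 ∨ k % 4 = 2 ∨ k % 4 = 3 := by omega
  rcases h with h | h <;> rcases h6 with h6 | h6 | h6 <;> rw [h, h6] <;> norm_num

theorem five_pow {q : ℕ} (h : q % 5 = 2 ∨ q % 5 = 3) : ¬ 5 ∣ q ∧ ¬ 5 ∣ q ^ 4 + 1 ∧ ¬ 5 ∣ q ^ 8 + q ^ 4 + 1 := by
  have h4 : q ^ 4 % 5 = 1 := by rw [Nat.pow_mod]; rcases h with h | h <;> rw [h]
  have h8 : q ^ 8 % 5 = 1 := by rw [Nat.pow_mod]; rcases h with h | h <;> rw [h]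
  refine ⟨by omega, by omega, by omega⟩

theorem five_case {q N g X Y : ℕ} (h3 : 5 ^ 3 ∣ N) (h4 : ¬ 5 ^ 4 ∣ N) (hX : g * N = X) (hg : ¬ 5 ∣ g)
    (hY : X = (q ^ 4 - 1) ^ 2 * Y) (hY5 : ¬ 5 ∣ Y) : False := by
  have hp : Nat.Prime 5 := by norm_num
  have : Fact (Nat.Prime 5) := ⟨hp⟩
  have h1 : 5 ^ 3 ∣ (q ^ 4 - 1) ^ 2 * Y := by
    rw [← hY, ← hX]; exact h3.mul_left _
  have h2 := (Nat.Coprime.pow_left 3 ((Nat.Prime.coprime_iff_not_dvd hp).2 hY5)).dvd_of_dvd_mul_right h1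
  have h5 := sq_five h2
  refine contra h4 hX hg ?_
  rw [hY]
  have h6 : (5 : ℕ) ^ 4 ∣ (q ^ 4 - 1) ^ 2 := by
    have := pow_dvd_pow_of_dvd h5 2
    rwa [← pow_mul] at this
  exact h6.mul_right _

theorem pow_eight (q : ℕ) (hq : 1 ≤ q) : q ^ 8 - 1 = (q ^ 4 - 1) * (q ^ 4 + 1) := by
  obtain ⟨m, hm⟩ : ∃ m, q ^ 4 = m + 1 := ⟨q ^ 4 - 1, by have := Nat.one_le_pow 4 q hq; omega⟩
  rw [show q ^ 8 = (q ^ 4) ^ 2 by ring, hm]
  have : (m + 1) ^ 2 = m * (m + 1 + 1) + 1 := by ring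
  rw [this]
  simp only [_root_.add_tsub_cancel_right]

theorem pow_twelve (q : ℕ) (hq : 1 ≤ q) : q ^ 12 - 1 = (q ^ 4 - 1) * (q ^ 8 + q ^ 4 + 1) := by
  obtain ⟨m, hm⟩ : ∃ m, q ^ 4 = m + 1 := ⟨q ^ 4 - 1, by have := Nat.one_le_pow 4 q hq; omega⟩
  rw [show q ^ 12 = (q ^ 4) ^ 3 by ring, show q ^ 8 = (q ^ 4) ^ 2 by ring, hm]
  have : (m + 1) ^ 3 = m * ((m + 1) ^ 2 + (m + 1) + 1) + 1 := by ring
  rw [this]
  simp only [_root_.add_tsub_cancel_right]

theorem f4 {F : Type} [Field F] [Fintype F] (h : _root_.Cfsg.Agent.H92.ExtP.Ext p ↥(chevF4.group F)) : False := by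
  have hp : p.Prime := Fact.out
  obtain ⟨q, hq⟩ : ∃ q, Fintype.card F = q := ⟨_, rfl⟩
  have hc := Cfsg.Agent.S1062.result hq
  have h4 := h.not_dvd
  rw [hc] at h4
  have hq1 : 1 ≤ q := hq ▸ Fintype.card_pos
  have hpq : ¬ p ∣ q := by
    intro hd
    refine h4 ?_
    simp only [mul_assoc]
    refine Dvd.dvd.mul_right ?_ _
    exact (pow_dvd_pow p (by norm_num)).trans (pow_dvd_pow_of_dvd hd 24)
  have hW : p = 2 ∨ p = 3 ∨ p = 5 ∨ p = 7 := by
    by_contra hcon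
    exact no_gen (chevF4, [2, 6, 8, 12]) (by simp) h (hq ▸ hpq) (fun h1 => hcon (prime_cases (a := 7) (b := 2) (c := 0) (d := 0)
      (by simpa using h1)))
  have hW' : p ≠ 5 ∧ p ≠ 7 := by
    refine ⟨?_, ?_⟩ <;>
    · rintro rfl
      exact no_gen (chevF4, [2, 6, 8, 12]) (by simp only [_root_.List.mem_cons, _root_.Prod.mk.injEq, _root_.List.cons.injEq, _root_.reduceCtorEq, _root_.and_false, _root_.Nat.reduceEqDiff, _root_.and_self, _root_.and_true, _root_.Nat.succ_ne_self, _root_.List.nil_eq, _root_.List.not_mem_nil, _root_.or_self, _root_.or_false, _root_.or_true]) h (hq ▸ hpq) (by norm_num)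
  obtain rfl | rfl : p = 2 ∨ p = 3 := by (clear * - hW hW'; tauto)
  · have h1 : q % 2 = 1 := by omega
    obtain ⟨a, ha⟩ := two_dvd (a := 2) hq1 h1 (by norm_num)
    obtain ⟨b, hb⟩ := two_dvd (a := 6) hq1 h1 (by norm_num)
    exact h4 ⟨q ^ 24 * a * b * 4 * (q ^ 8 - 1) * (q ^ 12 - 1), by rw [ha, hb]; ring⟩
  · have h1 : q % 3 ≠ 0 := by omega
    obtain ⟨a, ha⟩ := three_dvd (a := 2) hq1 h1 (by norm_num)
    obtain ⟨b, hb⟩ := three_dvd (a := 6) hq1 h1 (by norm_num)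
    obtain ⟨c, hc'⟩ := three_dvd (a := 8) hq1 h1 (by norm_num)
    obtain ⟨d, hd⟩ := three_dvd (a := 12) hq1 h1 (by norm_num)
    exact h4 ⟨q ^ 24 * a * b * c * d, by rw [ha, hb, hc', hd]; ring⟩

theorem e6 {F : Type} [Field F] [Fintype F] (h : _root_.Cfsg.Agent.H92.ExtP.Ext p ↥(chevE6.group F)) : False := by
  have hp : p.Prime := Fact.out
  obtain ⟨q, hq⟩ : ∃ q, Fintype.card F = q := ⟨_, rfl⟩
  have hc := Cfsg.Agent.S1063.result hq
  have h4 := h.not_dvd
  have h3 := h.dvd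
  have hq1 : 1 ≤ q := hq ▸ Fintype.card_pos
  have hpq : ¬ p ∣ q := by
    intro hd
    refine contra h4 hc ?_ ?_
    · intro h1
      have h2 : p ∣ q - 1 := h1.trans (Nat.gcd_dvd_right _ _)
      have h3 : p ∣ 1 := by
        have h5 := Nat.dvd_sub hd h2
        rwa [show q - (q - 1) = 1 by omega] at h5
      exact hp.one_lt.ne' (Nat.dvd_one.1 h3)
    · simp only [mul_assoc]
      refine Dvd.dvd.mul_right ?_ _
      exact (pow_dvd_pow p (by norm_num)).trans (pow_dvd_pow_of_dvd hd 36)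
  have hW : p = 2 ∨ p = 3 ∨ p = 5 ∨ p = 7 := by
    by_contra hcon
    exact no_gen (chevE6, [2, 5, 6, 8, 9, 12]) (by simp) h (hq ▸ hpq) (fun h1 => hcon (prime_cases (a := 7) (b := 4) (c := 1) (d := 0)
      (by simpa using h1)))
  have hW' : p ≠ 7 := by
    rintro rfl
    exact no_gen (chevE6, [2, 5, 6, 8, 9, 12]) (by simp) h (hq ▸ hpq) (by norm_num)
  have hg3 : Nat.gcd 3 (q - 1) ∣ 3 := Nat.gcd_dvd_left _ _
  obtain rfl | rfl | rfl : p = 2 ∨ p = 3 ∨ p = 5 := by (clear * - hW hW'; tauto)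
  · have h1 : q % 2 = 1 := by omega
    obtain ⟨a, ha⟩ := two_dvd (a := 2) hq1 h1 (by norm_num)
    obtain ⟨b, hb⟩ := two_dvd (a := 6) hq1 h1 (by norm_num)
    refine contra h4 hc (fun h1 => absurd (h1.trans hg3) (by norm_num)) ?_
    exact ⟨q ^ 36 * a * b * 4 * (q ^ 5 - 1) * (q ^ 8 - 1) * (q ^ 9 - 1) * (q ^ 12 - 1), by rw [ha, hb]; ring⟩
  · have h1 : q % 3 ≠ 0 := by omega
    obtain ⟨a, ha⟩ := three_dvd (a := 2) hq1 h1 (by norm_num)
    obtain ⟨b, hb⟩ := (dvd_iff_mod (a := 6) (m := 9) hq1).2 ((by decide : ∀ r < 9, r % 3 ≠ 0 → r ^ 6 % 9 = 1 % 9) (q % 9)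
      (Nat.mod_lt _ (by norm_num)) (by omega))
    obtain ⟨c, hc'⟩ := three_dvd (a := 8) hq1 h1 (by norm_num)
    obtain ⟨d, hd⟩ := three_dvd (a := 12) hq1 h1 (by norm_num)
    obtain ⟨e, he⟩ := hg3
    have h5 : 3 ^ 4 * Nat.gcd 3 (q - 1) ∣ Nat.card ↥(chevE6.group F) * Nat.gcd 3 (q - 1) := by
      rw [mul_comm (Nat.card _), hc]
      refine ⟨q ^ 36 * a * b * c * d * (q ^ 5 - 1) * (q ^ 9 - 1) * e, ?_⟩
      rw [ha, hb, hc', hd]
      calc q ^ 36 * (3 * a) * (q ^ 5 - 1) * (9 * b) * (3 * c) * (q ^ 9 - 1) * (3 * d)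
          = 81 * (q ^ 36 * a * b * c * d * (q ^ 5 - 1) * (q ^ 9 - 1)) * 3 := by ring
        _ = 81 * (q ^ 36 * a * b * c * d * (q ^ 5 - 1) * (q ^ 9 - 1)) * (Nat.gcd 3 (q - 1) * e) := by rw [← he]
        _ = _ := by ring
    exact h4 (Nat.dvd_of_mul_dvd_mul_right (Nat.gcd_pos_of_pos_left _ (by norm_num)) h5)
  · have h1 : q % 5 ≠ 0 := by omega
    have hg5 : ¬ 5 ∣ Nat.gcd 3 (q - 1) := fun h1 => absurd (h1.trans hg3) (by norm_num)
    by_cases h2 : q % 5 = 1
    · have e2 := (dvd_iff_mod (a := 1) (m := 5) hq1).2 (by rw [h2]; norm_num)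
      obtain ⟨a, ha⟩ := dvd_of_dvd (a := 2) hq1 e2 (one_dvd _)
      obtain ⟨b, hb⟩ := dvd_of_dvd (a := 6) hq1 e2 (one_dvd _)
      obtain ⟨c, hc'⟩ := dvd_of_dvd (a := 8) hq1 e2 (one_dvd _)
      obtain ⟨d, hd⟩ := dvd_of_dvd (a := 12) hq1 e2 (one_dvd _)
      refine contra h4 hc hg5 ?_
      exact ⟨q ^ 36 * a * b * c * d * (q ^ 5 - 1) * (q ^ 9 - 1), by rw [ha, hb, hc', hd]; ring⟩
    by_cases h2' : q % 5 = 4
    · have e2 := (dvd_iff_mod (a := 2) (m := 5) hq1).2 (by simp [h2'])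
      obtain ⟨a, ha⟩ := dvd_of_dvd (a := 2) hq1 e2 (by norm_num)
      obtain ⟨b, hb⟩ := dvd_of_dvd (a := 6) hq1 e2 (by norm_num)
      obtain ⟨c, hc'⟩ := dvd_of_dvd (a := 8) hq1 e2 (by norm_num)
      obtain ⟨d, hd⟩ := dvd_of_dvd (a := 12) hq1 e2 (by norm_num)
      refine contra h4 hc hg5 ?_
      exact ⟨q ^ 36 * a * b * c * d * (q ^ 5 - 1) * (q ^ 9 - 1), by rw [ha, hb, hc', hd]; ring⟩
    · have h6 : q % 5 = 2 ∨ q % 5 = 3 := by (clear * - hpq h2 h2'; omega)
      obtain ⟨f1, f2, f3⟩ := five_pow h6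
      refine five_case (q := q) (Y := q ^ 36 * (q ^ 2 - 1) * (q ^ 5 - 1) * (q ^ 6 - 1) * (q ^ 4 + 1) * (q ^ 9 - 1) *
        (q ^ 8 + q ^ 4 + 1)) h3 h4 hc hg5 ?_ ?_
      · rw [pow_eight q hq1, pow_twelve q hq1]; ring
      · simp only [hp.dvd_mul, not_or]
        exact ⟨⟨⟨⟨⟨⟨fun h => f1 (hp.dvd_of_dvd_pow h), not_dvd_five hq1 h6 (by norm_num)⟩,
          not_dvd_five hq1 h6 (by norm_num)⟩, not_dvd_five hq1 h6 (by norm_num)⟩, f2⟩, not_dvd_five hq1 h6 (by norm_num)⟩, f3⟩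

/-- a certificate for `e = 6` in type E7 with constant `2` -/
theorem cert_E7_6 : Cfsg.Agent.H130.WeylCk.Cert Cfsg.Agent.H130.WeylTab.alE7 7 6 3 [0, 1, 2, 3, 4, 5, 6] 3 2
    [[1, 1, 1, 1, 0, 0, 0], [0, 0, 0, 0, 0, 1, 1], [0, 0, 1, 0, 1, 1, 0]]
    [[1, -1, -1, 1, 0, 1, -1], [2, -1, -1, 0, 0, 1, -1], [0, 1, -1, 0, 0, 1, -1]] := by decide +kernel

theorem cert_E7_3 : Cfsg.Agent.H130.WeylCk.Cert Cfsg.Agent.H130.WeylTab.alE7 7 3 3 [0, 1, 2, 3, 4, 5, 6] 6 2
    [[1, 1, 1, 1, 0, 0, 0], [0, 0, 0, 0, 0, 1, 1], [0, 0, 1, 0, 1, 1, 0]]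
    [[1, -1, -1, 1, 0, 1, -1], [2, -1, -1, 0, 0, 1, -1], [0, 1, -1, 0, 0, 1, -1]] := by decide +kernel

open Cfsg.Agent.Nodes.RGDChev Cfsg.Agent.H130.Homo in
/-- the case `p = 7` in E7 -/
theorem e7_seven {F : Type} [Field F] [Fintype F] [Fact (Nat.Prime 7)] (h : _root_.Cfsg.Agent.H92.ExtP.Ext 7 ↥(chevE7.group F))
    (h7 : ¬ 7 ∣ Fintype.card F)
    (ho : orderOf ((Fintype.card F : ℕ) : ZMod 7) = 3 ∨ orderOf ((Fintype.card F : ℕ) : ZMod 7) = 6) : False := by
  have hp : IsType chevE7 7 CoxeterMatrix.E₇ := by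
    simp [Cfsg.Agent.Nodes.RGDChev.IsType, Cfsg.Agent.Nodes.RGDChev.typeList]
  set q := Fintype.card F with hq
  have hq1 : 1 < q := Fintype.one_lt_card
  have : NeZero (7 ^ val 7 q) := ⟨pow_ne_zero _ (by norm_num)⟩
  have hval : 1 ≤ val 7 q := by
    rw [← val_pow_orderOf h7 hq1]
    refine one_le_padicValNat_of_dvd ?_ ?_
    · have : 1 < q ^ orderOf ((q : ℕ) : ZMod 7) := Nat.one_lt_pow (by rcases ho with ho | ho <;> rw [ho] <;> norm_num) hq1
      omega
    · have h1 := pow_orderOf_eq_one ((q : ℕ) : ZMod 7)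
      rw [← Nat.modEq_iff_dvd' (Nat.one_le_pow _ _ (by omega)), ← ZMod.natCast_eq_natCast_iff]
      push_cast
      rw [h1]
  have key : ∃ w : CoxeterMatrix.E₇.Group, ∃ f : (Fin 3 → Multiplicative (ZMod (7 ^ val 7 q))) →*
      Multiplicative ((Fin 7 → ℤ) ⧸ LinearMap.range (Cfsg.Agent.ChevalleyStructure.CoxeterGeom.rep
        CoxeterMatrix.E₇.toCoxeterSystem hp.isCartan w - ((q : ℕ) : ℤ) • (1 : Module.End ℤ (Fin 7 → ℤ)))),
      Function.Injective f := by
    rcases ho with ho | ho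
    · have hC : Cfsg.Agent.H130.WeylCk.Cert Cfsg.Agent.H130.WeylTab.alE7 7 (orderOf ((q : ℕ) : ZMod 7)) 3
          [0, 1, 2, 3, 4, 5, 6] 6 2 [[1, 1, 1, 1, 0, 0, 0], [0, 0, 0, 0, 0, 1, 1], [0, 0, 1, 0, 1, 1, 0]]
          [[1, -1, -1, 1, 0, 1, -1], [2, -1, -1, 0, 0, 1, -1], [0, 1, -1, 0, 0, 1, -1]] := by
        rw [ho]; exact cert_E7_3
      exact hC.exists_hom (by rw [ho]; decide) h7 hq1 (by norm_num) Cfsg.Agent.H130.WeylTab.lists_E7 _ _
    · have hC : Cfsg.Agent.H130.WeylCk.Cert Cfsg.Agent.H130.WeylTab.alE7 7 (orderOf ((q : ℕ) : ZMod 7)) 3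
          [0, 1, 2, 3, 4, 5, 6] 3 2 [[1, 1, 1, 1, 0, 0, 0], [0, 0, 0, 0, 0, 1, 1], [0, 0, 1, 0, 1, 1, 0]]
          [[1, -1, -1, 1, 0, 1, -1], [2, -1, -1, 0, 0, 1, -1], [0, 1, -1, 0, 0, 1, -1]] := by
        rw [ho]; exact cert_E7_6
      exact hC.exists_hom (by rw [ho]; decide) h7 hq1 (by norm_num) Cfsg.Agent.H130.WeylTab.lists_E7 _ _
  obtain ⟨w, f, hf⟩ := key
  obtain ⟨f', hf'⟩ := Cfsg.Agent.H130.TorEmb.exists_hom hp CoxeterMatrix.E₇.toCoxeterSystem rfl
    Cfsg.Agent.H129.TorusChar.invC_E7 two_ne_zero w (m := 7 ^ val 7 q) (Nat.Coprime.pow_left _ (by norm_num))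
    (Cfsg.Agent.H130.ChevSyl.pow_model 3 _) f hf
  refine no_hom h (fun a b => mul_comm a b) ⟨3 * val 7 q, by omega, ?_⟩ f' hf'
  rw [Nat.card_fun, Nat.card_fin, show Nat.card (Multiplicative (ZMod (7 ^ val 7 q))) = 7 ^ val 7 q from Nat.card_zmod _,
    ← pow_mul, mul_comm]

theorem ord_seven (x : ZMod 7) (hx0 : x ≠ 0) (hx2 : x ^ 2 ≠ 1) : orderOf x = 3 ∨ orderOf x = 6 := by
  have h6 : ∀ x : ZMod 7, x ≠ 0 → x ^ 6 = 1 := by decide
  have h7 : orderOf x ∣ 6 := orderOf_dvd_of_pow_eq_one (h6 x hx0)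
  have h8 : ¬ orderOf x ∣ 2 := fun h => hx2 (orderOf_dvd_iff_pow_eq_one.1 h)
  have h9 : orderOf x ≤ 6 := Nat.le_of_dvd (by norm_num) h7
  generalize orderOf x = m at *
  interval_cases m <;> simp_all only [_root_.ne_eq, _root_.sq_eq_one_iff, _root_.not_or, _root_.zero_dvd_iff, _root_.OfNat.ofNat_ne_zero, _root_.isUnit_iff_eq_one, _root_.IsUnit.dvd, _root_.not_true_eq_false, _root_.Nat.reduceDvd, _root_.dvd_refl, _root_.not_false_eq_true, _root_.Nat.reduceLeDiff, _root_.Nat.reduceEqDiff, _root_.or_false, _root_.Std.le_refl, _root_.or_true]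

theorem e7 {F : Type} [Field F] [Fintype F] (h : _root_.Cfsg.Agent.H92.ExtP.Ext p ↥(chevE7.group F)) : False := by
  have hp : p.Prime := Fact.out
  obtain ⟨q, hq⟩ : ∃ q, Fintype.card F = q := ⟨_, rfl⟩
  have hc := Cfsg.Agent.S1064.result hq
  have h4 := h.not_dvd
  have h3 := h.dvd
  have hq1 : 1 ≤ q := hq ▸ Fintype.card_pos
  have hpq : ¬ p ∣ q := by
    intro hd
    refine contra h4 hc ?_ ?_
    · intro h1
      have h2 : p ∣ q - 1 := h1.trans (Nat.gcd_dvd_right _ _)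
      have h3 : p ∣ 1 := by
        have h5 := Nat.dvd_sub hd h2
        rwa [show q - (q - 1) = 1 by omega] at h5
      exact hp.one_lt.ne' (Nat.dvd_one.1 h3)
    · simp only [mul_assoc]
      refine Dvd.dvd.mul_right ?_ _
      exact (pow_dvd_pow p (by norm_num)).trans (pow_dvd_pow_of_dvd hd 63)
  have hW : p = 2 ∨ p = 3 ∨ p = 5 ∨ p = 7 := by
    by_contra hcon
    exact no_gen (chevE7, [2, 6, 8, 10, 12, 14, 18]) (by simp) h (hq ▸ hpq)
      (fun h1 => hcon (prime_cases (a := 10) (b := 4) (c := 1) (d := 1) (by simpa using h1)))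
  have hg2 : Nat.gcd 2 (q - 1) ∣ 2 := Nat.gcd_dvd_left _ _
  rcases hW with rfl | rfl | rfl | rfl
  · have h1 : q % 2 = 1 := by omega
    obtain ⟨a, ha⟩ := two_dvd (a := 2) hq1 h1 (by norm_num)
    obtain ⟨b, hb⟩ := two_dvd (a := 6) hq1 h1 (by norm_num)
    obtain ⟨e, he⟩ := hg2
    have h5 : 2 ^ 4 * Nat.gcd 2 (q - 1) ∣ Nat.card ↥(chevE7.group F) * Nat.gcd 2 (q - 1) := by
      rw [mul_comm (Nat.card _), hc]
      refine ⟨q ^ 63 * a * b * 2 * (q ^ 8 - 1) * (q ^ 10 - 1) * (q ^ 12 - 1) * (q ^ 14 - 1) * (q ^ 18 - 1) * e, ?_⟩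
      rw [ha, hb]
      calc q ^ 63 * (8 * a) * (8 * b) * (q ^ 8 - 1) * (q ^ 10 - 1) * (q ^ 12 - 1) * (q ^ 14 - 1) * (q ^ 18 - 1)
          = 16 * (q ^ 63 * a * b * 2 * (q ^ 8 - 1) * (q ^ 10 - 1) * (q ^ 12 - 1) * (q ^ 14 - 1) * (q ^ 18 - 1)) * 2 := by ring
        _ = 16 * (q ^ 63 * a * b * 2 * (q ^ 8 - 1) * (q ^ 10 - 1) * (q ^ 12 - 1) * (q ^ 14 - 1) * (q ^ 18 - 1)) *
            (Nat.gcd 2 (q - 1) * e) := by rw [← he]
        _ = _ := by ring
    exact h4 (Nat.dvd_of_mul_dvd_mul_right (Nat.gcd_pos_of_pos_left _ (by norm_num)) h5)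
  · have h1 : q % 3 ≠ 0 := by omega
    obtain ⟨a, ha⟩ := three_dvd (a := 2) hq1 h1 (by norm_num)
    obtain ⟨b, hb⟩ := three_dvd (a := 6) hq1 h1 (by norm_num)
    obtain ⟨c, hc'⟩ := three_dvd (a := 8) hq1 h1 (by norm_num)
    obtain ⟨d, hd⟩ := three_dvd (a := 12) hq1 h1 (by norm_num)
    refine contra h4 hc (fun h1 => absurd (h1.trans hg2) (by norm_num)) ?_
    exact ⟨q ^ 63 * a * b * c * d * (q ^ 10 - 1) * (q ^ 14 - 1) * (q ^ 18 - 1), by rw [ha, hb, hc', hd]; ring⟩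
  · have h1 : q % 5 ≠ 0 := by omega
    have hg5 : ¬ 5 ∣ Nat.gcd 2 (q - 1) := fun h1 => absurd (h1.trans hg2) (by norm_num)
    by_cases h2 : q % 5 = 1 ∨ q % 5 = 4
    · have e2 := (dvd_iff_mod (a := 2) (m := 5) hq1).2 (by rcases h2 with h2 | h2 <;> simp [h2])
      obtain ⟨a, ha⟩ := dvd_of_dvd (a := 2) hq1 e2 (by norm_num)
      obtain ⟨b, hb⟩ := dvd_of_dvd (a := 6) hq1 e2 (by norm_num)
      obtain ⟨c, hc'⟩ := dvd_of_dvd (a := 8) hq1 e2 (by norm_num)
      obtain ⟨d, hd⟩ := dvd_of_dvd (a := 12) hq1 e2 (by norm_num)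
      refine contra h4 hc hg5 ?_
      exact ⟨q ^ 63 * a * b * c * d * (q ^ 10 - 1) * (q ^ 14 - 1) * (q ^ 18 - 1), by rw [ha, hb, hc', hd]; ring⟩
    · have h6 : q % 5 = 2 ∨ q % 5 = 3 := by (clear * - hpq h2; omega)
      obtain ⟨f1, f2, f3⟩ := five_pow h6
      refine five_case (q := q) (Y := q ^ 63 * (q ^ 2 - 1) * (q ^ 6 - 1) * (q ^ 4 + 1) * (q ^ 10 - 1) *
        (q ^ 8 + q ^ 4 + 1) * (q ^ 14 - 1) * (q ^ 18 - 1)) h3 h4 hc hg5 ?_ ?_
      · rw [pow_eight q hq1, pow_twelve q hq1]; ring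
      · simp only [hp.dvd_mul, not_or]
        exact ⟨⟨⟨⟨⟨⟨⟨fun h => f1 (hp.dvd_of_dvd_pow h), not_dvd_five hq1 h6 (by norm_num)⟩,
          not_dvd_five hq1 h6 (by norm_num)⟩, f2⟩, not_dvd_five hq1 h6 (by norm_num)⟩, f3⟩,
          not_dvd_five hq1 h6 (by norm_num)⟩, not_dvd_five hq1 h6 (by norm_num)⟩
  · have h1 : q % 7 ≠ 0 := by omega
    have hg7 : ¬ 7 ∣ Nat.gcd 2 (q - 1) := fun h1 => absurd (h1.trans hg2) (by norm_num)
    by_cases h2 : (q % 7) ^ 2 % 7 = 1
    · have e2 := (dvd_iff_mod (a := 2) (m := 7) hq1).2 h2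
      obtain ⟨a, ha⟩ := dvd_of_dvd (a := 2) hq1 e2 (by norm_num)
      obtain ⟨b, hb⟩ := dvd_of_dvd (a := 6) hq1 e2 (by norm_num)
      obtain ⟨c, hc'⟩ := dvd_of_dvd (a := 8) hq1 e2 (by norm_num)
      obtain ⟨d, hd⟩ := dvd_of_dvd (a := 12) hq1 e2 (by norm_num)
      refine contra h4 hc hg7 ?_
      exact ⟨q ^ 63 * a * b * c * d * (q ^ 10 - 1) * (q ^ 14 - 1) * (q ^ 18 - 1), by rw [ha, hb, hc', hd]; ring⟩
    · refine e7_seven h (hq ▸ hpq) ?_
      rw [hq]
      refine ord_seven _ ?_ ?_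
      · rw [Ne, ZMod.natCast_eq_zero_iff]; omega
      · intro h8
        apply h2
        have : ((q ^ 2 : ℕ) : ZMod 7) = ((1 : ℕ) : ZMod 7) := by push_cast; exact h8
        rw [ZMod.natCast_eq_natCast_iff] at this
        rw [← Nat.pow_mod]; exact this

theorem e8 {F : Type} [Field F] [Fintype F] (h : _root_.Cfsg.Agent.H92.ExtP.Ext p ↥(chevE8.group F)) : False := by
  have hp : p.Prime := Fact.out
  obtain ⟨q, hq⟩ : ∃ q, Fintype.card F = q := ⟨_, rfl⟩
  have hc := Cfsg.Agent.S1065.result hq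
  have h4 := h.not_dvd
  rw [hc] at h4
  have hq1 : 1 ≤ q := hq ▸ Fintype.card_pos
  have hpq : ¬ p ∣ q := by
    intro hd
    refine h4 ?_
    simp only [mul_assoc]
    refine Dvd.dvd.mul_right ?_ _
    exact (pow_dvd_pow p (by norm_num)).trans (pow_dvd_pow_of_dvd hd 120)
  have hW : p = 2 ∨ p = 3 ∨ p = 5 ∨ p = 7 := by
    by_contra hcon
    exact no_gen (chevE8, [2, 8, 12, 14, 18, 20, 24, 30]) (by simp only [_root_.List.mem_cons, _root_.Prod.mk.injEq, _root_.List.cons.injEq, _root_.Nat.reduceEqDiff, _root_.reduceCtorEq, _root_.and_self, _root_.and_false, _root_.List.cons_ne_self, _root_.List.not_mem_nil, _root_.or_false, _root_.or_true]) h (hq ▸ hpq)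
      (fun h1 => hcon (prime_cases (a := 14) (b := 5) (c := 2) (d := 1) (by simpa using h1)))
  rcases hW with rfl | rfl | rfl | rfl
  · have h1 : q % 2 = 1 := by omega
    obtain ⟨a, ha⟩ := two_dvd (a := 2) hq1 h1 (by norm_num)
    obtain ⟨b, hb⟩ := two_dvd (a := 8) hq1 h1 (by norm_num)
    exact h4 ⟨q ^ 120 * a * b * 4 * (q ^ 12 - 1) * (q ^ 14 - 1) * (q ^ 18 - 1) * (q ^ 20 - 1) * (q ^ 24 - 1) *
      (q ^ 30 - 1), by rw [ha, hb]; ring⟩
  · have h1 : q % 3 ≠ 0 := by omega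
    obtain ⟨a, ha⟩ := three_dvd (a := 2) hq1 h1 (by norm_num)
    obtain ⟨b, hb⟩ := three_dvd (a := 8) hq1 h1 (by norm_num)
    obtain ⟨c, hc'⟩ := three_dvd (a := 12) hq1 h1 (by norm_num)
    obtain ⟨d, hd⟩ := three_dvd (a := 14) hq1 h1 (by norm_num)
    exact h4 ⟨q ^ 120 * a * b * c * d * (q ^ 18 - 1) * (q ^ 20 - 1) * (q ^ 24 - 1) * (q ^ 30 - 1),
      by rw [ha, hb, hc', hd]; ring⟩
  · have h1 : q % 5 ≠ 0 := by omega
    have e4 := (dvd_iff_mod (a := 4) (m := 5) hq1).2 ((by decide : ∀ r < 5, r ≠ 0 → r ^ 4 % 5 = 1 % 5) (q % 5)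
      (Nat.mod_lt _ (by norm_num)) h1)
    obtain ⟨a, ha⟩ := dvd_of_dvd (a := 8) hq1 e4 (by norm_num)
    obtain ⟨b, hb⟩ := dvd_of_dvd (a := 12) hq1 e4 (by norm_num)
    obtain ⟨c, hc'⟩ := dvd_of_dvd (a := 20) hq1 e4 (by norm_num)
    obtain ⟨d, hd⟩ := dvd_of_dvd (a := 24) hq1 e4 (by norm_num)
    exact h4 ⟨q ^ 120 * a * b * c * d * (q ^ 2 - 1) * (q ^ 14 - 1) * (q ^ 18 - 1) * (q ^ 30 - 1),
      by rw [ha, hb, hc', hd]; ring⟩
  · have h1 : q % 7 ≠ 0 := by omega
    have e6 := (dvd_iff_mod (a := 6) (m := 7) hq1).2 ((by decide : ∀ r < 7, r ≠ 0 → r ^ 6 % 7 = 1 % 7) (q % 7)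
      (Nat.mod_lt _ (by norm_num)) h1)
    obtain ⟨a, ha⟩ := dvd_of_dvd (a := 12) hq1 e6 (by norm_num)
    obtain ⟨b, hb⟩ := dvd_of_dvd (a := 18) hq1 e6 (by norm_num)
    obtain ⟨c, hc'⟩ := dvd_of_dvd (a := 24) hq1 e6 (by norm_num)
    obtain ⟨d, hd⟩ := dvd_of_dvd (a := 30) hq1 e6 (by norm_num)
    exact h4 ⟨q ^ 120 * a * b * c * d * (q ^ 2 - 1) * (q ^ 8 - 1) * (q ^ 14 - 1) * (q ^ 20 - 1),
      by rw [ha, hb, hc', hd]; ring⟩

end Cfsg.Agent.H442.ExtExc
end

-- part: H616/ExtSp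
section
/-!
# Symplectic and orthogonal groups have no nonabelian Sylow `p`-subgroup of order `p³` for `p = 2, 3` or `p ∣ q`
(helper616, for S2215)
-/

set_option autoImplicit false

namespace Cfsg.Agent.H616.ExtSp

open Cfsg Cfsg.Lie Cfsg.Agent.H92.ExtP

variable {p : ℕ} [Fact p.Prime]

theorem psp {F : Type} [Field F] [Fintype F] {m : ℕ} (hm : 2 ≤ m) (hp : p = 2 ∨ p ∣ Fintype.card F)
    (h : _root_.Cfsg.Agent.H92.ExtP.Ext p (PSp m F)) : False := by
  have hq : 1 < Fintype.card F := Fintype.one_lt_card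
  have hc : Nat.gcd 2 (Fintype.card F - 1) * Nat.card (PSp m F) =
      Fintype.card F ^ (m ^ 2) * ∏ i ∈ Finset.range m, (Fintype.card F ^ (2 * (i + 1)) - 1) := by
    have h1 := S0245.result (F := F) rfl m
    have h2 := S0246.result (F := F) rfl m (by omega)
    have h3 := Subgroup.card_eq_card_quotient_mul_card_subgroup
      (Subgroup.center (Matrix.symplecticGroup (Fin m) F))
    rw [h1, h2] at h3
    rw [mul_comm]
    exact h3.symm
  refine ExtNum.sp_false h hm hq (Nat.gcd_dvd_left _ _) ?_ hc ?_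
  · rw [pow_one]
    exact Nat.gcd_dvd_right _ _
  · rcases hp with h1 | h1
    · exact Or.inl h1
    · exact Or.inr (Or.inr h1)

theorem pomega_odd {F : Type} [Field F] [Fintype F] {m : ℕ} (hm : 3 ≤ m) (hodd : Odd (Fintype.card F))
    (hp : p = 2 ∨ p = 3 ∨ p ∣ Fintype.card F) (h : _root_.Cfsg.Agent.H92.ExtP.Ext p (POmega F (quadFormOdd m F))) : False := by
  have hq : 1 < Fintype.card F := Fintype.one_lt_card
  have hc := S0292.result (F := F) rfl hodd m hm
  refine ExtNum.sp_false h (by omega) hq dvd_rfl ?_ hc ?_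
  · rw [pow_one]
    obtain ⟨k, hk⟩ := hodd
    exact ⟨k, by omega⟩
  · rcases hp with h1 | h1 | h1
    · exact Or.inl h1
    · exact Or.inr (Or.inl ⟨h1, hm⟩)
    · exact Or.inr (Or.inr h1)

theorem pomega_plus {F : Type} [Field F] [Fintype F] {m : ℕ} (hm : 4 ≤ m)
    (hp : p = 2 ∨ p = 3 ∨ p ∣ Fintype.card F) (h : _root_.Cfsg.Agent.H92.ExtP.Ext p (POmega F (quadFormPlus m F))) : False := by
  have hq : 1 < Fintype.card F := Fintype.one_lt_card
  have hc := S0293.result (F := F) rfl m hm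
  exact ExtNum.oe_false h hm (Nat.gcd_dvd_left _ _)
    (fun r hr hrq => ExtNum.not_dvd_sub_one hr hrq (by omega) hq.le (Nat.gcd_dvd_right _ _)) hc hp

theorem pomega_minus {F : Type} [Field F] [Fintype F] {m : ℕ} (hm : 4 ≤ m) {a b : F}
    (hab : ∀ z₁ z₂ : F, z₁ ^ 2 + a * z₁ * z₂ + b * z₂ ^ 2 = 0 → z₁ = 0 ∧ z₂ = 0)
    (hp : p = 2 ∨ p = 3 ∨ p ∣ Fintype.card F) (h : _root_.Cfsg.Agent.H92.ExtP.Ext p (POmega F (quadFormMinus (m - 1) F a b))) : False := by
  have hc := S0294.result (F := F) rfl m hm a b hab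
  exact ExtNum.oe_false h hm (Nat.gcd_dvd_left _ _)
    (fun r hr hrq => ExtNum.not_dvd_add_one hr hrq (by omega) (Nat.gcd_dvd_right _ _)) hc hp

end Cfsg.Agent.H616.ExtSp
end

-- part: H92/ExtMain
section
/-!
# Known simple groups with a nonabelian Sylow `p`-subgroup of order `p³` (S2215): assembly
-/

set_option autoImplicit false

namespace Cfsg.Agent.H92.ExtMain

open Cfsg Cfsg.Lie Cfsg.Agent.H92.ExtP

universe u

/-- the conclusion of S2215 -/
def Concl (p : ℕ) (G : Type u) [Group G] : Prop :=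
    (Nonempty (G ≃* Matrix.ProjectiveSpecialLinearGroup (Fin 3) (ZMod p)) ∨
       (p ≠ 2 ∧ ∃ (F : Type) (_ : Field F) (_ : Fintype F), Fintype.card F = p ^ 2 ∧ Nonempty (G ≃* Cfsg.PSU 3 F p))) ∨
    (p = 2 ∧ (Nonempty (G ≃* ↥(alternatingGroup (Fin 7))) ∨
       ∃ (F : Type) (_ : Field F) (_ : Fintype F), (Fintype.card F % 16 = 7 ∨ Fintype.card F % 16 = 9) ∧
         Nonempty (G ≃* Matrix.ProjectiveSpecialLinearGroup (Fin 2) F))) ∨
    (p = 3 ∧ ((∃ (F : Type) (_ : Field F) (_ : Fintype F), Fintype.card F = 9 ∧ Nonempty (G ≃* Cfsg.PSU 3 F 3)) ∨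
       ∃ (F : Type) (_ : Field F) (_ : Fintype F) (r a : ℕ), r.Prime ∧ (r % 9 = 2 ∨ r % 9 = 4 ∨ r % 9 = 5 ∨ r % 9 = 7) ∧
         1 ≤ a ∧ ¬ 3 ∣ a ∧ (r = 2 → 1 < a) ∧ Fintype.card F = r ^ a ∧ Nonempty (G ≃* ↥(Cfsg.Lie.chevG2.group F)))) ∨
    (p = 3 ∧ (Cfsg.Lie.IsoTits G ∨
       ∃ (K : Type) (_ : Field K) (_ : Fintype K) (m : ℕ), 1 ≤ m ∧ ¬ 3 ∣ (2 * m + 1) ∧ Fintype.card K = 2 ^ (2 * m + 1) ∧
         Nonempty (G ≃* ↥(Cfsg.Lie.twistedF4 K (2 ^ m))))) ∨
    (p = 3 ∧ (Cfsg.Spor.IsoM12 G ∨ Cfsg.Spor.IsoM24 G ∨ Cfsg.Spor.IsoJ2 G ∨ Cfsg.Spor.IsoJ4 G ∨ Cfsg.Spor.IsoHe G ∨ Cfsg.Spor.IsoRu G)) ∨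
    (p = 5 ∧ (Cfsg.Spor.IsoHS G ∨ Cfsg.Spor.IsoCo3 G ∨ Cfsg.Spor.IsoCo2 G ∨ Cfsg.Spor.IsoMcL G ∨ Cfsg.Spor.IsoRu G ∨ Cfsg.Spor.IsoTh G)) ∨
    (p = 7 ∧ (Cfsg.Spor.IsoHe G ∨ Cfsg.Spor.IsoON G ∨ Cfsg.Spor.IsoFi24' G)) ∨
    (p = 11 ∧ Cfsg.Spor.IsoJ4 G) ∨
    (p = 13 ∧ Cfsg.Spor.IsoM G)

variable {p : ℕ} [hpr : Fact p.Prime] {G : Type u} [Group G]

open H616.ExtPSL H616.ExtPSU H616.ExtSp

/-- a field of prime order -/
theorem zmod_equiv {F : Type} [Field F] [Fintype F] (h : Fintype.card F = p) : Nonempty (F ≃+* ZMod p) := by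
  exact ⟨(ZMod.ringEquivOfPrime F hpr.out h).symm⟩

theorem psl_congr {F K : Type} [Field F] [Field K] {n : ℕ} (e : F ≃+* K) :
    Nonempty (Matrix.ProjectiveSpecialLinearGroup (Fin n) F ≃* Matrix.ProjectiveSpecialLinearGroup (Fin n) K) :=
  ⟨Cfsg.Agent.LieClassical.FieldTransfer.pslCongr e⟩

theorem isPSL (h : IsPSL G) (hE : _root_.Cfsg.Agent.H92.ExtP.Ext p G) : Concl p G := by
  obtain ⟨F, _, _, n, hn, -, ⟨e⟩⟩ := h
  have hE' := hE.congr e
  rcases Nat.lt_or_ge n 3 with h3 | h3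
  · obtain rfl : n = 2 := by omega
    obtain ⟨h2, hq⟩ := psl_two hE'
    exact Or.inr (Or.inl ⟨h2, Or.inr ⟨F, _, _, hq, ⟨e⟩⟩⟩)
  by_cases hp : p = 2 ∨ p ∣ Fintype.card F
  · obtain ⟨rfl, hF⟩ := psl h3 hp hE'
    obtain ⟨f⟩ := zmod_equiv hF
    obtain ⟨g⟩ := psl_congr (n := 3) f
    exact Or.inl (Or.inl ⟨e.trans g⟩)
  push Not at hp
  exfalso
  by_cases h1 : p ∣ Fintype.card F - 1
  · obtain ⟨h4, h5⟩ := psl' h3 hp.1 h1 hE'
    exact ExtCl.psl' hp.1 hp.2 (by omega) (by omega) hE'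
  · exact ExtCl.psl hp.1 hp.2 h1 hE'

theorem isPSU (h : IsPSU G) (hE : _root_.Cfsg.Agent.H92.ExtP.Ext p G) : Concl p G := by
  obtain ⟨F, _, _, n, q, hF, hn, hne, ⟨e⟩⟩ := h
  have hE' := hE.congr e
  by_cases hp : p = 2 ∨ p ∣ q
  · obtain ⟨rfl, rfl⟩ := psu hn hF hp hE'
    refine Or.inl (Or.inr ⟨fun h2 => hne ⟨rfl, h2⟩, F, _, _, hF, ⟨e⟩⟩)
  push Not at hp
  exfalso
  by_cases h1 : p ∣ q + 1
  · obtain ⟨h4, h5⟩ := psu' hn hF hp.1 h1 hE'
    exact ExtCl.psu' hn hF hp.1 hp.2 (by omega) hE'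
  · exact ExtCl.psu hn hF hp.1 hp.2 h1 hE'

theorem isPSp (h : IsPSp G) (hE : _root_.Cfsg.Agent.H92.ExtP.Ext p G) : False := by
  obtain ⟨F, _, _, m, hm, -, ⟨e⟩⟩ := h
  have hE' := hE.congr e
  by_cases hp : p = 2 ∨ p ∣ Fintype.card F
  · exact psp hm hp hE'
  push Not at hp
  exact ExtCl.psp (by omega) hp.1 hp.2 hE'

theorem five_le {q : ℕ} (hp : ¬ (p = 2 ∨ p = 3 ∨ p ∣ q)) : 5 ≤ p := by
  push Not at hp
  have h1 := hpr.out.two_le
  by_contra h2
  have : p = 4 := by omega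
  rw [this] at hpr
  exact absurd hpr.out (by norm_num)

theorem isPOmegaOdd (h : IsPOmegaOdd G) (hE : _root_.Cfsg.Agent.H92.ExtP.Ext p G) : False := by
  obtain ⟨F, _, _, m, hm, ho, ⟨e⟩⟩ := h
  have hE' := hE.congr e
  by_cases hp : p = 2 ∨ p = 3 ∨ p ∣ Fintype.card F
  · exact pomega_odd hm ho hp hE'
  have h5 := five_le hp
  push Not at hp
  refine ExtCl.pomega_odd (by omega) ?_ h5 hp.2.2 hE'
  intro h2
  have h3 : ringChar F = 2 := by
    have h4 : ringChar F ∣ 2 := ringChar.spec F 2 |>.1 (by exact_mod_cast h2)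
    rcases (Nat.dvd_prime Nat.prime_two).1 h4 with h | h
    · have : CharP F 1 := h ▸ ringChar.charP F
      exact absurd rfl (CharP.char_ne_one F 1)
    · exact h
  have : CharP F 2 := h3 ▸ ringChar.charP F
  obtain ⟨n, -, hn⟩ := FiniteField.card F 2
  rw [hn] at ho
  exact (Nat.not_even_iff_odd.2 ho) ((Nat.even_pow.2 ⟨even_two, n.2.ne'⟩))

theorem isPOmegaPlus (h : IsPOmegaPlus G) (hE : _root_.Cfsg.Agent.H92.ExtP.Ext p G) : False := by
  obtain ⟨F, _, _, m, hm, ⟨e⟩⟩ := h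
  have hE' := hE.congr e
  by_cases hp : p = 2 ∨ p = 3 ∨ p ∣ Fintype.card F
  · exact pomega_plus hm hp hE'
  have h5 := five_le hp
  push Not at hp
  exact ExtCl.pomega_plus (by omega) h5 hp.2.2 hE'

theorem isPOmegaMinus (h : IsPOmegaMinus G) (hE : _root_.Cfsg.Agent.H92.ExtP.Ext p G) : False := by
  obtain ⟨F, _, _, m, a, b, hm, hab, ⟨e⟩⟩ := h
  have hE' := hE.congr e
  by_cases hp : p = 2 ∨ p = 3 ∨ p ∣ Fintype.card F
  · exact pomega_minus hm hab hp hE'
  have h5 := five_le hp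
  push Not at hp
  exact ExtCl.pomega_minus (by omega) hab h5 hp.2.2 hE'

theorem isAlt (h : IsAlternating G) (hE : _root_.Cfsg.Agent.H92.ExtP.Ext p G) : Concl p G := by
  obtain ⟨n, hn, ⟨e⟩⟩ := h
  obtain ⟨rfl, h6⟩ := H868.ExtAlt.alt hn (hE.congr e)
  rcases h6 with rfl | rfl
  · obtain ⟨F, _, _, hF, ⟨f⟩⟩ := H868.ExtAlt.alt_six
    exact Or.inr (Or.inl ⟨rfl, Or.inr ⟨F, _, _, by rw [hF]; norm_num, ⟨e.trans f⟩⟩⟩)
  · exact Or.inr (Or.inl ⟨rfl, Or.inl ⟨e⟩⟩)

theorem isExc (h : IsExceptionalLieType G) (hE : _root_.Cfsg.Agent.H92.ExtP.Ext p G) : Concl p G := by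
  rcases h with h | h | h | h | h | h | h | h | h | h | h
  · obtain ⟨F, _, _, hq, ⟨e⟩⟩ := h
    obtain ⟨h3, r, a, h4, h5, h6, h7, h8, h9⟩ := H442.ExtExc.g2 hq (hE.congr e)
    exact Or.inr (Or.inr (Or.inl ⟨h3, Or.inr ⟨F, _, _, r, a, h4, h5, h6, h7, h8, h9, ⟨e⟩⟩⟩))
  · obtain ⟨F, _, _, ⟨e⟩⟩ := h
    exact (H442.ExtExc.f4 (hE.congr e)).elim
  · obtain ⟨F, _, _, ⟨e⟩⟩ := h
    exact (H442.ExtExc.e6 (hE.congr e)).elim
  · obtain ⟨F, _, _, ⟨e⟩⟩ := h
    exact (H442.ExtExc.e7 (hE.congr e)).elim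
  · obtain ⟨F, _, _, ⟨e⟩⟩ := h
    exact (H442.ExtExc.e8 (hE.congr e)).elim
  · obtain ⟨F, _, _, q, hq, hF, ⟨e⟩⟩ := h
    exact (H525.ExtTw.twE6 hq hF (hE.congr e)).elim
  · obtain ⟨F, _, _, q, hq, hF, ⟨e⟩⟩ := h
    exact (H525.ExtTw.twD4 hq hF (hE.congr e)).elim
  · obtain ⟨F, _, _, m, hm, hF, ⟨e⟩⟩ := h
    exact (H525.ExtTw.sz hm hF (hE.congr e)).elim
  · obtain ⟨F, _, _, m, hm, hF, ⟨e⟩⟩ := h
    exact (H525.ExtTw.ree hm hF (hE.congr e)).elim
  · obtain ⟨F, _, _, m, hm, hF, ⟨e⟩⟩ := h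
    obtain ⟨h3, h4⟩ := H525.ExtTw.twF4 hm hF (hE.congr e)
    exact Or.inr (Or.inr (Or.inr (Or.inl ⟨h3, Or.inr ⟨F, _, _, m, hm, h4, hF, ⟨e⟩⟩⟩)))
  · exact Or.inr (Or.inr (Or.inr (Or.inl ⟨H36.ExtSpor.tits h hE, Or.inl h⟩)))

theorem isSpor (h : IsSporadicGroup G) (hE : _root_.Cfsg.Agent.H92.ExtP.Ext p G) : Concl p G := by
  rcases H36.ExtSpor.spor h hE with h | h | h | h | h
  · exact Or.inr (Or.inr (Or.inr (Or.inr (Or.inl h))))
  · exact Or.inr (Or.inr (Or.inr (Or.inr (Or.inr (Or.inl h)))))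
  · exact Or.inr (Or.inr (Or.inr (Or.inr (Or.inr (Or.inr (Or.inl h))))))
  · exact Or.inr (Or.inr (Or.inr (Or.inr (Or.inr (Or.inr (Or.inr (Or.inl h)))))))
  · exact Or.inr (Or.inr (Or.inr (Or.inr (Or.inr (Or.inr (Or.inr (Or.inr h)))))))

theorem known (h : IsKnownSimple' G) (hE : _root_.Cfsg.Agent.H92.ExtP.Ext p G) : Concl p G := by
  rcases h with h | h | h | h | h | h | h | h | h | h
  · -- prime order
    exfalso
    have h1 := hE.dvd
    have h2 : (Nat.card G).Prime := h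
    have h3 : p ∣ Nat.card G := (dvd_pow_self p (by norm_num)).trans h1
    rw [← (Nat.prime_dvd_prime_iff_eq hpr.out h2).1 h3] at h1
    have h4 := Nat.le_of_dvd hpr.out.pos h1
    have h5 : p ^ 1 < p ^ 3 := Nat.pow_lt_pow_right hpr.out.one_lt (by norm_num)
    rw [pow_one] at h5
    omega
  · exact isAlt h hE
  · exact isPSL h hE
  · exact (isPSp h hE).elim
  · exact isPSU h hE
  · exact (isPOmegaOdd h hE).elim
  · exact (isPOmegaPlus h hE).elim
  · exact (isPOmegaMinus h hE).elim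
  · exact isExc h hE
  · exact isSpor h hE

/-- a simple `K`-group is known -/
theorem known_of_K [Finite G] [IsSimpleGroup G] (hG : ¬ IsMulCommutative G) (hK : IsCompositionKGroup G) :
    IsKnownSimple' G := by
  have e0 : (↥(⊤ : Subgroup G) ⧸ (⊥ : Subgroup ↥(⊤ : Subgroup G))) ≃* G :=
    QuotientGroup.quotientBot.trans Subgroup.topEquiv
  have hs : IsSimpleGroup (↥(⊤ : Subgroup G) ⧸ (⊥ : Subgroup ↥(⊤ : Subgroup G))) :=
    OddHalf.Known.isSimple_congr e0.symm inferInstance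
  have hn : ¬ IsMulCommutative (↥(⊤ : Subgroup G) ⧸ (⊥ : Subgroup ↥(⊤ : Subgroup G))) := by
    intro h
    apply hG
    refine ⟨⟨fun a b => ?_⟩⟩
    have := congrArg e0 (h.is_comm.comm (e0.symm a) (e0.symm b))
    simpa only [_root_.map_mul, _root_.MulEquiv.apply_symm_apply] using this
  refine OddHalf.Known.isKnownSimple'_congr e0 hn (hK ⊤ ?_ ⊥ hs hn)
  exact Subgroup.IsSubnormal.top

end Cfsg.Agent.H92.ExtMain
end

-- part: S2215
section
set_option autoImplicit false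
open Cfsg

namespace Cfsg.Agent.S2215

/-- Let G be a finite non-abelian simple group all of whose composition factors are known simple groups, p a prime and S a Sylow p-subgroup of G that is extraspecial of order p³. Then one of the following holds: G ≅ PSL₃(p), or p is odd and G ≅ PSU₃(p); p = 2 and G is isomorphic to the alternating group of degree 7 or to PSL₂(q) with q ≡ ±7 (mod 16); p = 3 and G ≅ PSU₃(3), or G ≅ G₂(rᵃ) for a prime r ≡ ±2, ±4 (mod 9) and a ≥ 1 not divisible by 3, with a > 1 if r = 2; p = 3 and G is the Tits group or G ≅ ²F₄(2ᵃ) with a ≥ 3 odd and not divisible by 3; or G is sporadic, namely p = 3 and G is one of M₁₂, M₂₄, J₂, J₄, He, Ru; p = 5 and G is one of HS, Co₃, Co₂, McL, Ru, Th; p = 7 and G is one of He, O'N, Fi₂₄′; p = 11 and G ≅ J₄; or p = 13 and G is the Monster. -/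
theorem result {G : Type*} [Group G] [Finite G] [IsSimpleGroup G] (hG : ¬ IsMulCommutative G) (hK : Cfsg.IsCompositionKGroup G)
    {p : ℕ} [Fact p.Prime] (S : Sylow p G) (hS : Cfsg.IsExtraspecial p ↥(S : Subgroup G)) (hS3 : Nat.card (S : Subgroup G) = p ^ 3) :
    (Nonempty (G ≃* Matrix.ProjectiveSpecialLinearGroup (Fin 3) (ZMod p)) ∨
       (p ≠ 2 ∧ ∃ (F : Type) (_ : Field F) (_ : Fintype F), Fintype.card F = p ^ 2 ∧ Nonempty (G ≃* Cfsg.PSU 3 F p))) ∨
    (p = 2 ∧ (Nonempty (G ≃* ↥(alternatingGroup (Fin 7))) ∨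
       ∃ (F : Type) (_ : Field F) (_ : Fintype F), (Fintype.card F % 16 = 7 ∨ Fintype.card F % 16 = 9) ∧
         Nonempty (G ≃* Matrix.ProjectiveSpecialLinearGroup (Fin 2) F))) ∨
    (p = 3 ∧ ((∃ (F : Type) (_ : Field F) (_ : Fintype F), Fintype.card F = 9 ∧ Nonempty (G ≃* Cfsg.PSU 3 F 3)) ∨
       ∃ (F : Type) (_ : Field F) (_ : Fintype F) (r a : ℕ), r.Prime ∧ (r % 9 = 2 ∨ r % 9 = 4 ∨ r % 9 = 5 ∨ r % 9 = 7) ∧
         1 ≤ a ∧ ¬ 3 ∣ a ∧ (r = 2 → 1 < a) ∧ Fintype.card F = r ^ a ∧ Nonempty (G ≃* ↥(Cfsg.Lie.chevG2.group F)))) ∨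
    (p = 3 ∧ (Cfsg.Lie.IsoTits G ∨
       ∃ (K : Type) (_ : Field K) (_ : Fintype K) (m : ℕ), 1 ≤ m ∧ ¬ 3 ∣ (2 * m + 1) ∧ Fintype.card K = 2 ^ (2 * m + 1) ∧
         Nonempty (G ≃* ↥(Cfsg.Lie.twistedF4 K (2 ^ m))))) ∨
    (p = 3 ∧ (Cfsg.Spor.IsoM12 G ∨ Cfsg.Spor.IsoM24 G ∨ Cfsg.Spor.IsoJ2 G ∨ Cfsg.Spor.IsoJ4 G ∨ Cfsg.Spor.IsoHe G ∨ Cfsg.Spor.IsoRu G)) ∨
    (p = 5 ∧ (Cfsg.Spor.IsoHS G ∨ Cfsg.Spor.IsoCo3 G ∨ Cfsg.Spor.IsoCo2 G ∨ Cfsg.Spor.IsoMcL G ∨ Cfsg.Spor.IsoRu G ∨ Cfsg.Spor.IsoTh G)) ∨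
    (p = 7 ∧ (Cfsg.Spor.IsoHe G ∨ Cfsg.Spor.IsoON G ∨ Cfsg.Spor.IsoFi24' G)) ∨
    (p = 11 ∧ Cfsg.Spor.IsoJ4 G) ∨
    (p = 13 ∧ Cfsg.Spor.IsoM G) := by
  exact Cfsg.Agent.H92.ExtMain.known (Cfsg.Agent.H92.ExtMain.known_of_K hG hK) (Cfsg.Agent.H92.ExtP.of_sylow S hS hS3)

end Cfsg.Agent.S2215
end

private theorem dce_0aca1cfe970f : _root_.True := by
  try have : _root_.True := by simp only [_root_.Cfsg.Agent.H92.ExtLin.fi.eq_1]
  try have : _root_.True := by simp only [_root_.Cfsg.Agent.H92.ExtLin.av.eq_1]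
  try have : _root_.True := by simp only [_root_.Cfsg.Agent.H92.ExtCl.sf.eq_1]
  exact _root_.True.intro
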