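import Cfsg.Statements.S0094
import Cfsg.Agent.Lib.FrattiniPGroup
set_option linter.all false

set_option autoImplicit false
open Cfsg

namespace Cfsg.Agent.S0094

open scoped commutatorElement in
/-- If `⁅x, y⁆` is central, then `⁅x ^ n, y⁆ = ⁅x, y⁆ ^ n`. -/
theorem commutator_pow_left {G : Type*} [Group G] (x y : G) (h : ⁅x, y⁆ ∈ Subgroup.center G) (n : ℕ) :
    ⁅x ^ n, y⁆ = ⁅x, y⁆ ^ n := by
  induction n with
  | zero => simp
  | succ n ih =>
    have hc : ∀ g : G, g * ⁅x, y⁆ = ⁅x, y⁆ * g := Subgroup.mem_center_iff.mp h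
    have h1 : ⁅x ^ (n + 1), y⁆ = x ^ n * ⁅x, y⁆ * (x ^ n)⁻¹ * ⁅x ^ n, y⁆ := by
      simp only [commutatorElement_def, pow_succ]
      group
    rw [h1, ih, hc (x ^ n), mul_assoc (⁅x, y⁆) (x ^ n) (x ^ n)⁻¹, mul_inv_cancel, mul_one, pow_succ']

open scoped commutatorElement in
theorem aux {P : Type*} [Group P] [Finite P] {p : ℕ} [Fact p.Prime] (h : Cfsg.IsSpecial p P)
    (z : P) (hz : z ∈ Subgroup.center P) : z ^ p = 1 := by
  obtain ⟨hP, hF, hC⟩ := h
  let T : Subgroup P :=
    { carrier := {w | w ∈ Subgroup.center P ∧ w ^ p = 1}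
      one_mem' := ⟨one_mem _, one_pow p⟩
      mul_mem' := by
        rintro a b ⟨ha, ha'⟩ ⟨hb, hb'⟩
        refine ⟨mul_mem ha hb, ?_⟩
        have hab : Commute a b := (Subgroup.mem_center_iff.mp ha b).symm
        rw [hab.mul_pow, ha', hb', one_mul]
      inv_mem' := by
        rintro a ⟨ha, ha'⟩
        exact ⟨inv_mem ha, by rw [inv_pow, ha', inv_one]⟩ }
  have key : commutator P ≤ T := by
    rw [commutator_def, Subgroup.commutator_le]
    intro x _ y _
    have hxy : ⁅x, y⁆ ∈ Subgroup.center P := by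
      rw [← hC]
      exact Subgroup.commutator_mem_commutator (Subgroup.mem_top x) (Subgroup.mem_top y)
    refine ⟨hxy, ?_⟩
    rw [← commutator_pow_left x y hxy p, commutatorElement_eq_one_iff_mul_comm]
    have hx : x ^ p ∈ Subgroup.center P := by
      rw [← hF]
      exact Cfsg.Agent.Lib.FrattiniPGroup.pow_mem_frattini hP x
    exact (Subgroup.mem_center_iff.mp hx y).symm
  exact (key (hC ▸ hz)).2

/-- In a special p-group every central element has order dividing p. -/
theorem result {P : Type*} [Group P] [Finite P] {p : ℕ} [Fact p.Prime] (h : Cfsg.IsSpecial p P) (z : P) (hz : z ∈ Subgroup.center P) : z ^ p = 1 := by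
  exact aux h z hz

end Cfsg.Agent.S0094
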