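import Cfsg.Statements.S5938
import Cfsg.Agent.S0799
import Cfsg.Agent.S0803
import Cfsg.Agent.J2Sylow.StarPSL
set_option linter.all false

set_option autoImplicit false
open Cfsg
open scoped commutatorElement

namespace Cfsg.Agent.S5938

/-- `Sym(4)` does not embed in a dihedral group: elements of order three of a dihedral group commute. -/
theorem not_dihedral {k : ℕ} (f : Equiv.Perm (Fin 4) →* DihedralGroup k) (hf : Function.Injective f) :
    False := by
  have key : ∀ g : Equiv.Perm (Fin 4), g ^ 3 = 1 → ∃ i, f g = DihedralGroup.r i := by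
    intro g hg
    rcases h : f g with i | i
    · exact ⟨i, rfl⟩
    · exfalso
      have h1 : (f g) ^ 3 = 1 := by rw [← map_pow, hg, map_one]
      rw [h, pow_succ, pow_two, DihedralGroup.sr_mul_self, one_mul] at h1
      exact absurd h1 (by rw [DihedralGroup.one_def]; intro h; cases h)
  obtain ⟨a, b, ha, hb, hab⟩ : ∃ a b : Equiv.Perm (Fin 4), a ^ 3 = 1 ∧ b ^ 3 = 1 ∧ a * b ≠ b * a :=
    ⟨Equiv.swap 0 1 * Equiv.swap 1 2, Equiv.swap 0 1 * Equiv.swap 1 3, by decide, by decide,
      by decide⟩
  obtain ⟨i, hi⟩ := key a ha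
  obtain ⟨j, hj⟩ := key b hb
  apply hab
  apply hf
  rw [map_mul, map_mul, hi, hj, DihedralGroup.r_mul_r, DihedralGroup.r_mul_r, add_comm]

/-- Let p be a prime with p ≡ ±1 (mod 8) and F a field with p elements. Then PSL_2(F) has a maximal subgroup isomorphic to the symmetric group S_4. -/
theorem result {F : Type*} [Field F] [Fintype F] (p : ℕ) [Fact p.Prime] (hF : Fintype.card F = p) (hp : p % 8 = 1 ∨ p % 8 = 7) : ∃ H : Subgroup (Matrix.ProjectiveSpecialLinearGroup (Fin 2) F), IsCoatom H ∧ Nonempty (H ≃* Equiv.Perm (Fin 4)) := by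
  classical
  have hp2 : p ≠ 1 := (Fact.out : p.Prime).ne_one
  have hp7 : 7 ≤ p := by omega
  haveI : CharP F p := charP_of_card_eq_prime (by rw [hF])
  have hpodd : Odd p := by rw [Nat.odd_iff]; omega
  have hsq : p ^ 2 % 16 = 1 := by
    have h1 : p % 16 = 1 ∨ p % 16 = 9 ∨ p % 16 = 7 ∨ p % 16 = 15 := by omega
    rcases h1 with h | h | h | h <;> simp [Nat.pow_mod, h]
  obtain ⟨H, ⟨e⟩⟩ := (Cfsg.Agent.S0803.result hF).mpr hsq
  have hcardG : Nat.card (Matrix.ProjectiveSpecialLinearGroup (Fin 2) F) * 2 = p * (p ^ 2 - 1) := by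
    have := Cfsg.Agent.ClassicalGeometry.PSL2Basic.card_PSL2_odd (F := F) (by rw [hF]; exact hpodd)
    rwa [hF] at this
  have hcardH : Nat.card H = 24 := by
    rw [Nat.card_congr e.toEquiv, Nat.card_eq_fintype_card, Fintype.card_perm, Fintype.card_fin]
    rfl
  have hbig : 7 * (7 ^ 2 - 1) ≤ p * (p ^ 2 - 1) :=
    Nat.mul_le_mul hp7 (Nat.sub_le_sub_right (Nat.pow_le_pow_left hp7 2) 1)
  refine ⟨H, ⟨?_, ?_⟩, ⟨e⟩⟩
  · intro htop
    rw [htop, Subgroup.card_top] at hcardH
    omega
  · intro L hHL
    by_contra hLtop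
    have hcardL : 24 < Nat.card L := by
      rw [← hcardH]
      rcases lt_or_ge (Nat.card H) (Nat.card L) with h | h
      · exact h
      · exact absurd (Subgroup.eq_of_le_of_card_ge hHL.le h) hHL.ne
    have hdvd : 24 ∣ Nat.card L := by
      rw [← hcardH]; exact Subgroup.card_dvd_of_le hHL.le
    -- the embedding of `S₄` in `L`
    let f : Equiv.Perm (Fin 4) →* L := (Subgroup.inclusion hHL.le).comp e.symm.toMonoidHom
    have hf : Function.Injective f :=
      (Subgroup.inclusion_injective hHL.le).comp e.symm.injective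
    obtain ⟨a, b, hab⟩ : ∃ a b : Equiv.Perm (Fin 4), a * b ≠ b * a :=
      ⟨Equiv.swap 0 1 * Equiv.swap 1 2, Equiv.swap 0 1 * Equiv.swap 1 3, by decide⟩
    rcases Cfsg.Agent.S0799.result hF p L with ⟨k, -, hk⟩ | ⟨P, K, hK, ⟨φ⟩⟩ | ⟨⟨φ⟩⟩ | ⟨⟨φ⟩⟩ | ⟨⟨φ⟩⟩ |
      ⟨K, _, _, m, hm, hφ⟩
    · rcases hk with ⟨hc, -⟩ | ⟨⟨φ⟩⟩
      · apply hab
        apply hf
        rw [map_mul, map_mul]
        exact hc.isMulCommutative.is_comm.comm _ _
      · exact not_dihedral (φ.toMonoidHom.comp f) (φ.injective.comp hf)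
    · -- the normaliser of a Sylow `p`-subgroup
      have h2 : (2 : F) ≠ 0 := by
        rw [Cfsg.Agent.ClassicalGeometry.PSL2Basic.two_ne_zero_iff_odd, hF]; exact hpodd
      have hp3 : p.Prime := Fact.out
      have hmul : p ∣ Nat.card (Matrix.ProjectiveSpecialLinearGroup (Fin 2) F) := by
        have h3 : p ∣ Nat.card (Matrix.ProjectiveSpecialLinearGroup (Fin 2) F) * 2 := by
          rw [hcardG]; exact dvd_mul_right _ _
        exact ((Nat.coprime_primes hp3 Nat.prime_two).mpr (by omega)).dvd_of_dvd_mul_right h3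
      have hnd : ¬ p ^ 2 ∣ Nat.card (Matrix.ProjectiveSpecialLinearGroup (Fin 2) F) := by
        intro h3
        have h4 : p ^ 2 ∣ p * (p ^ 2 - 1) := by rw [← hcardG]; exact dvd_mul_of_dvd_left h3 _
        rw [pow_two] at h4
        have h5 : p ∣ p * p - 1 := Nat.dvd_of_mul_dvd_mul_left hp3.pos h4
        have h6 : p ∣ 1 := by
          have h7 : p ∣ p * p := dvd_mul_right _ _
          have h8 : 1 ≤ p * p := Nat.mul_pos hp3.pos hp3.pos
          have := (Nat.dvd_sub h7 h5)
          rwa [Nat.sub_sub_self h8] at this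
        exact hp3.one_lt.ne' (Nat.dvd_one.mp h6)
      have hPcard : Nat.card P = p := by
        rw [P.card_eq_multiplicity]
        have h3 : (Nat.card (Matrix.ProjectiveSpecialLinearGroup (Fin 2) F)).factorization p = 1 := by
          have h0 : Nat.card (Matrix.ProjectiveSpecialLinearGroup (Fin 2) F) ≠ 0 := Nat.card_pos.ne'
          apply le_antisymm
          · by_contra h4
            push Not at h4
            exact hnd ((hp3.pow_dvd_iff_le_factorization h0).mpr h4)
          · exact (hp3.dvd_iff_one_le_factorization h0).mp hmul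
        rw [h3, pow_one]
      haveI hcyc : IsCyclic (P : Subgroup (Matrix.ProjectiveSpecialLinearGroup (Fin 2) F)) :=
        isCyclic_of_prime_card (p := p) hPcard
      -- action on `P`
      let ψ := (Subgroup.normalizerMonoidHom (P : Subgroup (Matrix.ProjectiveSpecialLinearGroup (Fin 2) F)))
      let g : Equiv.Perm (Fin 4) →* Subgroup.normalizer ((P : Subgroup (Matrix.ProjectiveSpecialLinearGroup (Fin 2) F)) : Set (Matrix.ProjectiveSpecialLinearGroup (Fin 2) F)) :=
        (Subgroup.inclusion hK).comp (φ.toMonoidHom.comp f)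
      have hg : Function.Injective g := (Subgroup.inclusion_injective hK).comp (φ.injective.comp hf)
      have hcomm : ∀ x y : Equiv.Perm (Fin 4), ψ (g ⁅x, y⁆) = 1 := by
        intro x y
        have h5 : Function.Injective (IsCyclic.mulAutMulEquiv (P : Subgroup (Matrix.ProjectiveSpecialLinearGroup (Fin 2) F))) :=
          (IsCyclic.mulAutMulEquiv _).injective
        apply h5
        rw [map_commutatorElement, map_commutatorElement, map_commutatorElement, map_one]
        exact commutatorElement_eq_one_iff_mul_comm.mpr (mul_comm _ _)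
      obtain ⟨u, hu⟩ := hcyc.exists_generator
      have hu1 : (u : Matrix.ProjectiveSpecialLinearGroup (Fin 2) F) * u ≠ 1 := by
        intro h6
        have h7 : orderOf u = p := by rw [orderOf_eq_card_of_forall_mem_zpowers hu, hPcard]
        have h8 : u ^ 2 = 1 := by rw [pow_two]; exact Subtype.ext h6
        have h9 := orderOf_dvd_of_pow_eq_one h8
        rw [h7] at h9
        have := Nat.le_of_dvd (by norm_num) h9
        omega
      have hcen : ∀ x y : Equiv.Perm (Fin 4), (g ⁅x, y⁆ : Matrix.ProjectiveSpecialLinearGroup (Fin 2) F) * u = u * g ⁅x, y⁆ := by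
        intro x y
        have h6 : g ⁅x, y⁆ ∈ ψ.ker := hcomm x y
        rw [Subgroup.normalizerMonoidHom_ker, Subgroup.mem_subgroupOf, Subgroup.mem_centralizer_iff] at h6
        exact (h6 u u.2).symm
      obtain ⟨x, y, z, w, hxyzw⟩ : ∃ x y z w : Equiv.Perm (Fin 4), ⁅x, y⁆ * ⁅z, w⁆ ≠ ⁅z, w⁆ * ⁅x, y⁆ :=
        ⟨Equiv.swap 0 1, Equiv.swap 1 2, Equiv.swap 0 1, Equiv.swap 1 3, by decide⟩
      apply hxyzw
      apply hg
      rw [map_mul, map_mul]
      apply Subtype.ext
      exact Cfsg.Agent.J2Sylow.StarPSL.comm_of_comm h2 hu1 (hcen x y) (hcen z w)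
    · have h3 : Nat.card L = 12 := by
        rw [Nat.card_congr φ.toEquiv, nat_card_alternatingGroup, Nat.card_eq_fintype_card, Fintype.card_fin]
        rfl
      omega
    · have h3 : Nat.card L = 24 := by
        rw [Nat.card_congr φ.toEquiv, Nat.card_eq_fintype_card, Fintype.card_perm, Fintype.card_fin]
        rfl
      omega
    · have h3 : Nat.card L = 60 := by
        rw [Nat.card_congr φ.toEquiv, nat_card_alternatingGroup, Nat.card_eq_fintype_card, Fintype.card_fin]
        rfl
      omega
    · have hm1 : Fintype.card K = p := by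
        have h4 : Fintype.card K ∣ p := by
          rw [← hm]
          apply dvd_pow_self
          rintro rfl
          rw [pow_zero] at hm
          exact hp2 hm.symm
        rcases (Nat.dvd_prime Fact.out).mp h4 with h5 | h5
        · exact absurd h5 Fintype.one_lt_card.ne'
        · exact h5
      have hodd' : Odd (Fintype.card K) := by rw [hm1]; exact hpodd
      have hLlt : Nat.card L < Nat.card (Matrix.ProjectiveSpecialLinearGroup (Fin 2) F) := by
        rcases lt_or_ge (Nat.card L) (Nat.card (Matrix.ProjectiveSpecialLinearGroup (Fin 2) F)) with h | h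
        · exact h
        · exact absurd (Subgroup.eq_top_of_le_card L h) hLtop
      rcases hφ with ⟨⟨φ⟩⟩ | ⟨⟨φ⟩⟩
      · have h3 : Nat.card L * 2 = p * (p ^ 2 - 1) := by
          rw [Nat.card_congr φ.toEquiv, Cfsg.Agent.ClassicalGeometry.PSL2Basic.card_PSL2_odd K hodd', hm1]
        omega
      · have h3 : Nat.card L = p * (p ^ 2 - 1) := by
          rw [Nat.card_congr φ.toEquiv]
          have := Cfsg.Agent.ClassicalGeometry.PSL2Basic.card_PGL2 (F := K)
          rwa [hm1] at this
        omega

end Cfsg.Agent.S5938
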