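import Cfsg.Statements.S5941
import Cfsg.Agent.H948.PSLMax
import Cfsg.Agent.S0805
import Cfsg.Agent.S0251
set_option linter.all false

set_option autoImplicit false
open Cfsg

namespace Cfsg.Agent.S5941

open Cfsg.Agent.H948.PSLMax Cfsg.Agent.ClassicalGeometry.PSL2Basic
open Cfsg.Agent.ClassicalGeometry.PSL2Solvable


/-- Let K and F be finite fields of odd characteristic with #F = (#K)². Then PSL_2(F) has a maximal subgroup isomorphic to PGL_2(K). -/
theorem result {F K : Type*} [Field F] [Fintype F] [Field K] [Fintype K] (q : ℕ) (hK : Fintype.card K = q) (hF : Fintype.card F = q ^ 2) (hq : Odd q) : ∃ H : Subgroup (Matrix.ProjectiveSpecialLinearGroup (Fin 2) F), IsCoatom H ∧ Nonempty (H ≃* Matrix.ProjGenLinGroup (Fin 2) K) := by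
  subst hK
  have hF1 : Fintype.card K ^ (2 * 1) = Fintype.card F := by rw [hF]
  have hFodd : Odd (Fintype.card F) := by
    rw [hF]
    exact hq.pow
  obtain ⟨p, hchar⟩ := CharP.exists F
  have hpf : Fact p.Prime := ⟨by
    obtain ⟨n, hp, -⟩ := FiniteField.card F p
    exact hp⟩
  have hpodd : Odd p := by
    obtain ⟨n, hp, hn⟩ := FiniteField.card F p
    rw [hn] at hFodd
    exact (Nat.odd_pow_iff n.2.ne').mp hFodd
  obtain ⟨H, ⟨e⟩⟩ := Cfsg.Agent.S0805.exists_pgl_of_even (K := K) hFodd hF1
  have hcH : Nat.card H = Nat.card (Matrix.ProjGenLinGroup (Fin 2) K) :=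
    Nat.card_congr e.toEquiv
  have hcK := card_PGL2 K
  have hne : H ≠ ⊤ := by
    intro h
    have h1 := card_psl_mono (K₀ := K) (K := F) (r := 2) le_rfl hF.symm
    rw [h, Subgroup.card_top] at hcH
    omega
  have hsub : ∀ M, H < M → ∀ (K : Type) (_ : Field K) (_ : Fintype K) (m : ℕ),
      Fintype.card K ^ m = Fintype.card F →
      (Nonempty (M ≃* Matrix.ProjectiveSpecialLinearGroup (Fin 2) K) ∨
        Nonempty (M ≃* Matrix.ProjGenLinGroup (Fin 2) K)) → M = ⊤ := by
    intro M hM K' _ _ m hm hK'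
    have hdvd : Nat.card (Matrix.ProjectiveSpecialLinearGroup (Fin 2) K) ∣
        Nat.card (Matrix.ProjGenLinGroup (Fin 2) K') := by
      refine (card_psl_dvd_pgl K).trans ?_
      rw [← hcH]
      refine (Subgroup.card_dvd_of_le hM.le).trans ?_
      rcases hK' with ⟨⟨e'⟩⟩ | ⟨⟨e'⟩⟩
      · rw [Nat.card_congr e'.toEquiv]
        exact card_psl_dvd_pgl K'
      · rw [Nat.card_congr e'.toEquiv]
    rcases card_eq_or_eq (F := F) (K₀ := K) (K := K') Nat.prime_two hF hm hdvd with h1 | h1
    · exfalso
      have hcM : Nat.card M ≤ Nat.card H := by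
        have h2 : Nat.card H = Nat.card (Matrix.ProjGenLinGroup (Fin 2) K') := by
          rw [hcH, card_PGL2, card_PGL2, h1]
        rw [h2]
        apply Nat.le_of_dvd (card_pgl_pos K')
        rcases hK' with ⟨⟨e'⟩⟩ | ⟨⟨e'⟩⟩
        · rw [Nat.card_congr e'.toEquiv]
          exact card_psl_dvd_pgl K'
        · rw [Nat.card_congr e'.toEquiv]
      exact hM.ne (Subgroup.eq_of_le_of_card_ge hM.le hcM)
    · exact eq_top_of_card_eq M h1 hK'
  -- the embedding of `PSL₂(K)`
  let φ : Matrix.ProjectiveSpecialLinearGroup (Fin 2) K →* H :=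
    e.symm.toMonoidHom.comp (Matrix.ProjectiveSpecialLinearGroup.toPGL (n := Fin 2) (R := K))
  have hφ : Function.Injective φ :=
    e.symm.injective.comp Matrix.ProjectiveSpecialLinearGroup.toPGL_injective
  by_cases h4 : 4 ≤ Fintype.card K
  · have h5 : 5 ≤ Fintype.card K := by
      rw [Nat.odd_iff] at hq
      omega
    have hns := not_isSolvable_psl K h4
    have h60 : 120 ≤ Nat.card H := by
      rw [hcH, hcK]
      exact Nat.mul_le_mul h5 (Nat.sub_le_sub_right (Nat.pow_le_pow_left h5 2) 1)
    refine ⟨H, isCoatom_of_not_solvable p H hne ?_ ?_ hsub, ⟨e⟩⟩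
    · intro hs
      have : Group.IsSolvable H := hs
      exact hns (Group.isSolvable_of_isSolvable_injective hφ)
    · rintro M hM ⟨e'⟩
      exfalso
      have hcM : Nat.card M = 60 := by
        rw [Nat.card_congr e'.toEquiv, Nat.card_eq_fintype_card]
        decide +kernel
      exact hM.ne (Subgroup.eq_of_le_of_card_ge hM.le (by omega))
  · have h3 : Fintype.card K = 3 := by
      have h1 : 1 < Fintype.card K := Fintype.one_lt_card
      rw [Nat.odd_iff] at hq
      omega
    obtain ⟨e4⟩ := Cfsg.Agent.S0251.result h3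
    have hc24 : Nat.card H = 24 := by
      rw [hcH, hcK, h3]
      norm_num
    refine ⟨H, isCoatom_of_wit p hpodd H hne
      (exists_wit (φ.comp e4.symm.toMonoidHom) (hφ.comp e4.symm.injective)) ?_ ?_ ?_ hsub, ⟨e⟩⟩
    · rintro M hM ⟨e'⟩
      have hcM : Nat.card M = 12 := by
        rw [Nat.card_congr e'.toEquiv, Nat.card_eq_fintype_card]
        decide +kernel
      exact hM.ne (Subgroup.eq_of_le_of_card_ge hM.le (by omega))
    · rintro M hM ⟨e'⟩
      have hcM : Nat.card M = 24 := by
        rw [Nat.card_congr e'.toEquiv, Nat.card_eq_fintype_card]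
        decide +kernel
      exact hM.ne (Subgroup.eq_of_le_of_card_ge hM.le (by omega))
    · rintro M hM ⟨e'⟩
      exfalso
      have hcM : Nat.card M = 60 := by
        rw [Nat.card_congr e'.toEquiv, Nat.card_eq_fintype_card]
        decide +kernel
      have := Subgroup.card_dvd_of_le hM.le
      rw [hcM, hc24] at this
      omega

end Cfsg.Agent.S5941
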