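import Cfsg.Statements.S5942
import Cfsg.Agent.H948.PSLMax
import Cfsg.Agent.S0251
import Cfsg.Agent.S0803
import Cfsg.Agent.S0804
import Cfsg.Agent.S0805
set_option linter.all false

set_option autoImplicit false
open Cfsg

namespace Cfsg.Agent.S5942

open Cfsg.Agent.H948.PSLMax Cfsg.Agent.ClassicalGeometry.PSL2Basic
open Cfsg.Agent.ClassicalGeometry.PSL2Solvable


/-- Let K and F be finite fields of odd characteristic with #F = (#K)^r for an odd prime r. Then PSL_2(F) has a maximal subgroup isomorphic to PSL_2(K). -/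
theorem result {F K : Type*} [Field F] [Fintype F] [Field K] [Fintype K] (q r : ℕ) (hK : Fintype.card K = q) (hF : Fintype.card F = q ^ r) (hq : Odd q) (hr : r.Prime) (hr2 : r ≠ 2) : ∃ H : Subgroup (Matrix.ProjectiveSpecialLinearGroup (Fin 2) F), IsCoatom H ∧ Nonempty (H ≃* Matrix.ProjectiveSpecialLinearGroup (Fin 2) K) := by
  subst hK
  obtain ⟨f⟩ := exists_ringHom_of_card_pow hF.symm
  obtain ⟨p, hchar⟩ := CharP.exists F
  have hpf : Fact p.Prime := ⟨by
    obtain ⟨n, hp, -⟩ := FiniteField.card F p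
    exact hp⟩
  have hFodd : Odd (Fintype.card F) := by
    rw [hF]
    exact hq.pow
  set H := (pslMap (n := Fin 2) f).range with hH
  have e : H ≃* Matrix.ProjectiveSpecialLinearGroup (Fin 2) K :=
    (MonoidHom.ofInjective (pslMap_injective f)).symm
  have hcH : Nat.card H = Nat.card (Matrix.ProjectiveSpecialLinearGroup (Fin 2) K) :=
    Nat.card_congr e.toEquiv
  have hcK := card_PSL2_odd K hq
  have hne : H ≠ ⊤ := by
    intro h
    have h1 := card_psl_mono (K₀ := K) (K := F) hr.two_le hF.symm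
    rw [h, Subgroup.card_top] at hcH
    have h2 := Nat.le_of_dvd (card_pgl_pos K) (card_psl_dvd_pgl K)
    omega
  have hrodd : Odd r := hr.odd_of_ne_two hr2
  -- subfield subgroups
  have hsub : ∀ M, H < M → ∀ (K : Type) (_ : Field K) (_ : Fintype K) (m : ℕ),
      Fintype.card K ^ m = Fintype.card F →
      (Nonempty (M ≃* Matrix.ProjectiveSpecialLinearGroup (Fin 2) K) ∨
        Nonempty (M ≃* Matrix.ProjGenLinGroup (Fin 2) K)) → M = ⊤ := by
    intro M hM K' _ _ m hm hK'
    have hdvd : Nat.card (Matrix.ProjectiveSpecialLinearGroup (Fin 2) K) ∣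
        Nat.card (Matrix.ProjGenLinGroup (Fin 2) K') := by
      rw [← hcH]
      refine (Subgroup.card_dvd_of_le hM.le).trans ?_
      rcases hK' with ⟨⟨e'⟩⟩ | ⟨⟨e'⟩⟩
      · rw [Nat.card_congr e'.toEquiv]
        exact card_psl_dvd_pgl K'
      · rw [Nat.card_congr e'.toEquiv]
    rcases card_eq_or_eq (F := F) (K₀ := K) (K := K') hr hF hm hdvd with h1 | h1
    · exfalso
      rcases hK' with ⟨⟨e'⟩⟩ | ⟨⟨e'⟩⟩
      · have hcM : Nat.card M = Nat.card H := by
          rw [Nat.card_congr e'.toEquiv, hcH, card_PSL2_div, card_PSL2_div, h1]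
        exact hM.ne (Subgroup.eq_of_le_of_card_ge hM.le hcM.le)
      · have h2 : Fintype.card K' ^ r = Fintype.card F := by rw [h1, hF]
        have h3 := Cfsg.Agent.S0805.even_of_exists_pgl hFodd hr.one_lt.le h2 ⟨M, ⟨e'⟩⟩
        exact (Nat.not_even_iff_odd.mpr hrodd) h3
    · exact eq_top_of_card_eq M h1 hK'
  by_cases h4 : 4 ≤ Fintype.card K
  · have h5 : 5 ≤ Fintype.card K := by
      rw [Nat.odd_iff] at hq
      omega
    have hns := not_isSolvable_psl K h4
    have h60 : 60 ≤ Nat.card H := by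
      rw [hcH]
      have := Nat.mul_le_mul h5 (Nat.sub_le_sub_right (Nat.pow_le_pow_left h5 2) 1)
      omega
    refine ⟨H, isCoatom_of_not_solvable p H hne ?_ ?_ hsub, ⟨e⟩⟩
    · intro hs
      have : Group.IsSolvable H := hs
      exact hns (Group.isSolvable_of_surjective (f := e.toMonoidHom) e.surjective)
    · rintro M hM ⟨e'⟩
      exfalso
      have hcM : Nat.card M = 60 := by
        rw [Nat.card_congr e'.toEquiv, Nat.card_eq_fintype_card]
        decide +kernel
      exact hM.ne (Subgroup.eq_of_le_of_card_ge hM.le (by omega))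
  · have h3 : Fintype.card K = 3 := by
      have h1 : 1 < Fintype.card K := Fintype.one_lt_card
      rw [Nat.odd_iff] at hq
      omega
    have hFr : Fintype.card F = 3 ^ r := by rw [hF, h3]
    obtain ⟨j, hj⟩ := hrodd
    have hp3 : p = 3 := by
      obtain ⟨n, hpp, hn⟩ := FiniteField.card F p
      rw [hFr] at hn
      have h1 : p ∣ 3 ^ r := by
        rw [hn]
        exact dvd_pow_self _ n.2.ne'
      exact (Nat.prime_dvd_prime_iff_eq hpp Nat.prime_three).mp (hpp.dvd_of_dvd_pow h1)
    obtain ⟨e4⟩ := Cfsg.Agent.S0251.result h3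
    have hc12 : Nat.card H = 12 := by
      rw [hcH, Nat.card_congr e4.toEquiv, Nat.card_eq_fintype_card]
      decide +kernel
    refine ⟨H, isCoatom_of_wit p (by rw [hp3]; decide) H hne
      (exists_wit (e.symm.toMonoidHom.comp e4.symm.toMonoidHom)
        (e.symm.injective.comp e4.symm.injective)) ?_ ?_ ?_ hsub, ⟨e⟩⟩
    · rintro M hM ⟨e'⟩
      have hcM : Nat.card M = 12 := by
        rw [Nat.card_congr e'.toEquiv, Nat.card_eq_fintype_card]
        decide +kernel
      exact hM.ne (Subgroup.eq_of_le_of_card_ge hM.le (by omega))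
    · rintro M hM hM'
      have h5 := (Cfsg.Agent.S0803.result (F := F) rfl).mp ⟨M, hM'⟩
      have h6 : Fintype.card F ^ 2 ≡ 9 [MOD 16] := by
        rw [hFr, hj, ← pow_mul, show (2 * j + 1) * 2 = 4 * j + 2 by ring, pow_add, pow_mul]
        have : (3 ^ 4) ^ j ≡ 1 ^ j [MOD 16] := Nat.ModEq.pow j (by decide)
        rw [one_pow] at this
        exact this.mul_right _
      have h7 : Fintype.card F ^ 2 ≡ 1 [MOD 16] := h5
      exact absurd (h6.symm.trans h7) (by decide)
    · rintro M hM hM'
      exfalso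
      have h5 := (Cfsg.Agent.S0804.result (F := F) rfl).mp ⟨M, hM'⟩
      have h6 : Fintype.card F * (Fintype.card F ^ 2 - 1) ≡ Fintype.card F * 3 [MOD 5] := by
        apply Nat.ModEq.mul_left
        have h7 : Fintype.card F ^ 2 ≡ 4 [MOD 5] := by
          rw [hFr, hj, ← pow_mul, show (2 * j + 1) * 2 = 4 * j + 2 by ring, pow_add, pow_mul]
          have : (3 ^ 4) ^ j ≡ 1 ^ j [MOD 5] := Nat.ModEq.pow j (by decide)
          rw [one_pow] at this
          exact this.mul_right _
        have h8 : 1 ≤ Fintype.card F ^ 2 := Nat.one_le_pow _ _ Fintype.card_pos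
        apply Nat.ModEq.add_right_cancel' 1
        rw [Nat.sub_add_cancel h8]
        exact h7
      have h9 : 5 ∣ Fintype.card F * 3 := (h6.dvd_iff (dvd_refl 5)).mp h5
      rw [hFr] at h9
      have h10 : 5 ∣ 3 ^ (r + 1) := by rw [pow_succ]; exact h9
      have h11 := (Nat.prime_dvd_prime_iff_eq (by norm_num) Nat.prime_three).mp
        (Nat.Prime.dvd_of_dvd_pow (by norm_num : Nat.Prime 5) h10)
      omega

end Cfsg.Agent.S5942
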