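import Cfsg.Statements.S5940
import Cfsg.Agent.H948.PSLMax
import Cfsg.Agent.S0802
import Cfsg.Agent.S0803
import Cfsg.Agent.S0804
set_option linter.all false

set_option autoImplicit false
open Cfsg

namespace Cfsg.Agent.S5940

open Cfsg.Agent.H948.PSLMax Cfsg.Agent.ClassicalGeometry.PSL2Basic
open Cfsg.Agent.ClassicalGeometry.PSL2Solvable


/-- Let p ≥ 5 be a prime with p ≡ ±3 (mod 8) and p ≢ ±1 (mod 10), and F a field with p elements. Then PSL_2(F) has a maximal subgroup isomorphic to the alternating group A_4. -/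
theorem result {F : Type*} [Field F] [Fintype F] (p : ℕ) [Fact p.Prime] (hF : Fintype.card F = p) (h5 : 5 ≤ p) (h8 : p % 8 = 3 ∨ p % 8 = 5) (h10 : p % 10 ≠ 1 ∧ p % 10 ≠ 9) : ∃ H : Subgroup (Matrix.ProjectiveSpecialLinearGroup (Fin 2) F), IsCoatom H ∧ Nonempty (H ≃* alternatingGroup (Fin 4)) := by
  have hp := Fact.out (p := p.Prime)
  have hchar : CharP F p := by
    obtain ⟨p', hp'⟩ := CharP.exists F
    obtain ⟨n, hpp, hn⟩ := FiniteField.card F p'
    rw [hF] at hn
    have h1 : p' = p := by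
      have h2 : p' ∣ p := by
        rw [hn]
        exact dvd_pow_self _ n.2.ne'
      exact (Nat.prime_dvd_prime_iff_eq hpp hp).mp h2
    exact h1 ▸ hp'
  have hp2 : p ≠ 2 := by omega
  obtain ⟨H, ⟨e⟩⟩ := (Cfsg.Agent.S0802.result (F := F) p 1 (by rw [hF, pow_one])).mpr
    (fun h => hp2 h.1)
  have hcH : Nat.card H = 12 := by
    rw [Nat.card_congr e.toEquiv, Nat.card_eq_fintype_card]
    decide +kernel
  have hodd : Odd p := hp.odd_of_ne_two hp2
  have hFodd : Odd (Fintype.card F) := by rw [hF]; exact hodd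
  have hcF := card_PSL2_odd F hFodd
  have h80 : 5 * (5 ^ 2 - 1) ≤ Fintype.card F * (Fintype.card F ^ 2 - 1) :=
    Nat.mul_le_mul (by rw [hF]; exact h5)
      (Nat.sub_le_sub_right (Nat.pow_le_pow_left (by rw [hF]; exact h5) 2) 1)
  refine ⟨H, isCoatom_of_wit p hodd H ?_ (exists_wit e.symm.toMonoidHom e.symm.injective)
    ?_ ?_ ?_ ?_, ⟨e⟩⟩
  · rintro rfl
    rw [Subgroup.card_top] at hcH
    omega
  · rintro M hM ⟨e'⟩
    have hcM : Nat.card M = Nat.card H := by
      rw [Nat.card_congr e'.toEquiv, Nat.card_congr e.toEquiv]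
    exact hM.ne (Subgroup.eq_of_le_of_card_ge hM.le hcM.le)
  · rintro M hM hM'
    have h4 := (Cfsg.Agent.S0803.result (F := F) hF).mp ⟨M, hM'⟩
    obtain ⟨j, hj⟩ : ∃ j, p = 8 * j + 3 ∨ p = 8 * j + 5 := ⟨p / 8, by omega⟩
    rcases hj with hj | hj
    · rw [hj] at h4
      ring_nf at h4
      omega
    · rw [hj] at h4
      ring_nf at h4
      omega
  · rintro M hM ⟨e'⟩
    have h4 := (Cfsg.Agent.S0804.result (F := F) hF).mp ⟨M, ⟨e'⟩⟩
    have hp5 : p = 5 := by
      by_contra hne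
      rcases (Nat.Prime.dvd_mul (by norm_num : Nat.Prime 5)).mp h4 with h6 | h6
      · exact hne ((Nat.prime_dvd_prime_iff_eq (by norm_num) hp).mp h6).symm
      · have h7 : p ^ 2 ≡ 1 [MOD 5] :=
          ((Nat.modEq_iff_dvd' (Nat.one_le_pow _ _ hp.pos)).mpr h6).symm
        have h8 : p ≡ 0 [MOD 5] ∨ p ≡ 3 [MOD 5] ∨ p ≡ 2 [MOD 5] := by
          rw [Nat.odd_iff] at hodd
          obtain ⟨h10, h11⟩ := h10
          have : p % 5 = 0 ∨ p % 5 = 3 ∨ p % 5 = 2 := by omega
          rcases this with h | h | h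
          · exact Or.inl h
          · exact Or.inr (Or.inl h)
          · exact Or.inr (Or.inr h)
        rcases h8 with h8 | h8 | h8
        · exact absurd ((h8.pow 2).symm.trans h7) (by decide)
        · exact absurd ((h8.pow 2).symm.trans h7) (by decide)
        · exact absurd ((h8.pow 2).symm.trans h7) (by decide)
    have hcM : Nat.card M = 60 := by
      rw [Nat.card_congr e'.toEquiv, Nat.card_eq_fintype_card]
      decide +kernel
    apply Subgroup.eq_top_of_le_card
    rw [hcM]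
    rw [hF, hp5] at hcF
    omega
  · intro M hM K _ _ m hm hK
    refine eq_top_of_card_eq M ?_ hK
    rw [hF] at hm ⊢
    have h1 : m = 1 := Nat.Prime.eq_one_of_pow (by rw [hm]; exact hp)
    rw [h1, pow_one] at hm
    exact hm

end Cfsg.Agent.S5940
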