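import Cfsg.Statements.S1566
import Cfsg.Agent.S0368
import Cfsg.Agent.S1560
import Cfsg.Agent.S1561
import Cfsg.Agent.SporadicStructure.OctadSpan
set_option linter.all false

set_option autoImplicit false
open scoped Pointwise
open Cfsg

namespace Cfsg.Agent.S1566

open Cfsg.Agent.SporadicStructure.OctadSpan

theorem compl_mem_dodecads {d : Finset GolayPt} (hd : d ∈ dodecads) : dᶜ ∈ dodecads := by
  obtain ⟨⟨w, hw, rfl⟩, hc⟩ := hd
  refine ⟨⟨1 + w, golayCode.add_mem one_mem hw, ?_⟩, ?_⟩
  · ext i
    have : ∀ a : ZMod 2, (1 + a ≠ 0) ↔ ¬ (a ≠ 0) := by decide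
    simp only [support₂, Finset.mem_filter, Finset.mem_univ, true_and, Finset.mem_compl,
      Pi.add_apply, Pi.one_apply]
    exact this (w i)
  · rw [Finset.card_compl, hc]
    rfl

theorem smul_mem_dodecads (g : M24) {d : Finset GolayPt} (hd : d ∈ dodecads) :
    g • d ∈ dodecads := by
  refine ⟨?_, ?_⟩
  · have h := g.2
    rw [MulAction.mem_stabilizer_iff] at h
    have h2 : (g : Equiv.Perm GolayPt) • d ∈
        (g : Equiv.Perm GolayPt) • supports (golayCode : Set (GolayPt → ZMod 2)) :=
      Set.smul_mem_smul_set hd.1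
    rw [h] at h2
    exact h2
  · have : (g • d).card = d.card := Finset.card_smul_finset _ _
    rw [this]; exact hd.2

theorem compl_smul (g : M24) (d : Finset GolayPt) : g • dᶜ = (g • d)ᶜ := by
  ext x
  rw [← Finset.inv_smul_mem_iff, Finset.mem_compl, Finset.mem_compl, ← Finset.inv_smul_mem_iff]

theorem ncard_split (d : Finset GolayPt) (X : Set (Finset GolayPt))
    (h : ∀ e ∈ X, (d ∩ e).card = 0 ∨ (d ∩ e).card = 4 ∨ (d ∩ e).card = 6 ∨
      (d ∩ e).card = 8 ∨ (d ∩ e).card = 12) :
    X.ncard = {e | e ∈ X ∧ (d ∩ e).card = 0}.ncard + {e | e ∈ X ∧ (d ∩ e).card = 4}.ncard +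
      {e | e ∈ X ∧ (d ∩ e).card = 6}.ncard + {e | e ∈ X ∧ (d ∩ e).card = 8}.ncard +
      {e | e ∈ X ∧ (d ∩ e).card = 12}.ncard := by
  classical
  have hX : ∀ Y : Set (Finset GolayPt), Y.ncard = (Finset.univ.filter fun e => e ∈ Y).card := by
    intro Y
    rw [Set.ncard_eq_toFinset_card Y (Set.toFinite Y)]
    congr 1
    ext e; simp
  rw [hX, Finset.card_eq_sum_card_fiberwise (f := fun e => (d ∩ e).card)
    (t := {0, 4, 6, 8, 12})]
  · rw [Finset.sum_insert (by decide), Finset.sum_insert (by decide), Finset.sum_insert (by decide),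
      Finset.sum_insert (by decide), Finset.sum_singleton]
    simp only [hX, Finset.filter_filter, Set.mem_ofPred_eq, add_assoc]
  · intro e he
    have := h e (by simpa using he)
    simpa using this

/-- The setwise stabiliser of a dodecad together with its complement is a maximal proper subgroup of the group of the length-24 code. -/
theorem result (d : Finset Cfsg.GolayPt) (hd : d ∈ Cfsg.dodecads) : IsCoatom (MulAction.stabilizer Cfsg.M24 ({d, dᶜ} : Finset (Finset Cfsg.GolayPt))) := by
  classical
  obtain ⟨hi, h4, h6, h8⟩ := Cfsg.Agent.S1560.result d hd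
  have hdc := compl_mem_dodecads hd
  have hdcard : d.card = 12 := hd.2
  have hi' : ∀ e ∈ dodecads, (d ∩ e).card = 0 ∨ (d ∩ e).card = 4 ∨ (d ∩ e).card = 6 ∨
      (d ∩ e).card = 8 ∨ (d ∩ e).card = 12 := by
    intro e he
    by_cases hed : e = d
    · subst hed; rw [Finset.inter_self, he.2]; simp
    · rcases hi e he hed with h | h | h | h <;> simp [h]
  -- which dodecads meet `d` in 0 or 12 points
  have eq0 : ∀ e ∈ dodecads, (d ∩ e).card = 0 → e = dᶜ := by
    intro e he h
    rw [Finset.card_eq_zero, ← Finset.disjoint_iff_inter_eq_empty] at h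
    refine Finset.eq_of_subset_of_card_le ?_ ?_
    · intro x hx
      rw [Finset.mem_compl]
      exact fun hx' => (Finset.disjoint_left.mp h hx') hx
    · rw [hdc.2, he.2]
  have eq12 : ∀ e ∈ dodecads, (d ∩ e).card = 12 → e = d := by
    intro e he h
    have h1 : d ∩ e = d := Finset.eq_of_subset_of_card_le Finset.inter_subset_left (by rw [h, hdcard])
    have h2 : d ∩ e = e := Finset.eq_of_subset_of_card_le Finset.inter_subset_right (by rw [h, he.2])
    rw [← h2, h1]
  have c0 : ∀ X : Set (Finset GolayPt), X ⊆ dodecads → dᶜ ∈ X →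
      {e | e ∈ X ∧ (d ∩ e).card = 0}.ncard = 1 := by
    intro X hX h
    rw [Set.ncard_eq_one]
    refine ⟨dᶜ, ?_⟩
    ext e
    constructor
    · rintro ⟨h1, h2⟩; exact eq0 e (hX h1) h2
    · intro h1
      have h1' : e = dᶜ := h1
      subst h1'
      refine ⟨h, ?_⟩
      rw [Finset.inter_compl]; rfl
  have c12 : ∀ X : Set (Finset GolayPt), X ⊆ dodecads → d ∈ X →
      {e | e ∈ X ∧ (d ∩ e).card = 12}.ncard = 1 := by
    intro X hX h
    rw [Set.ncard_eq_one]
    refine ⟨d, ?_⟩
    ext e
    constructor
    · rintro ⟨h1, h2⟩; exact eq12 e (hX h1) h2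
    · intro h1
      have h1' : e = d := h1
      subst h1'
      refine ⟨h, ?_⟩
      rw [Finset.inter_self]; exact hd.2
  have card_dod : dodecads.ncard = 2576 := by
    rw [ncard_split d dodecads hi', c0 _ subset_rfl hdc, c12 _ subset_rfl hd, h4, h6, h8]
  have orbit_eq : MulAction.orbit M24 d = dodecads := by
    ext e
    constructor
    · rintro ⟨g, rfl⟩
      exact smul_mem_dodecads g hd
    · intro he
      obtain ⟨g, hg⟩ := Cfsg.Agent.S0368.result d e hd he
      exact ⟨g, hg⟩
  have index_S : (MulAction.stabilizer M24 d).index = 2576 := by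
    rw [MulAction.index_stabilizer, orbit_eq, card_dod]
  -- the dodecad stabiliser lies in the pair stabiliser
  have hST : MulAction.stabilizer M24 d ≤
      MulAction.stabilizer M24 ({d, dᶜ} : Finset (Finset GolayPt)) := by
    intro g hg
    rw [MulAction.mem_stabilizer_iff] at hg ⊢
    rw [Finset.smul_finset_insert, Finset.smul_finset_singleton, compl_smul, hg]
  -- every element mapping `d` to `dᶜ` lies in the pair stabiliser
  have hswap : ∀ g : M24, g • d = dᶜ → g ∈ MulAction.stabilizer M24
      ({d, dᶜ} : Finset (Finset GolayPt)) := by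
    intro g hg
    rw [MulAction.mem_stabilizer_iff]
    rw [Finset.smul_finset_insert, Finset.smul_finset_singleton, compl_smul, hg, compl_compl]
    exact Finset.pair_comm _ _
  have hmemT : ∀ g : M24, g ∈ MulAction.stabilizer M24 ({d, dᶜ} : Finset (Finset GolayPt)) →
      g • d = d ∨ g • d = dᶜ := by
    intro g hg
    rw [MulAction.mem_stabilizer_iff] at hg
    have : g • d ∈ g • ({d, dᶜ} : Finset (Finset GolayPt)) :=
      Finset.smul_mem_smul_finset (Finset.mem_insert_self _ _)
    rw [hg] at this
    simpa using this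
  constructor
  · -- proper
    intro htop
    have h4' : {e | e ∈ dodecads ∧ (d ∩ e).card = 4}.Nonempty := by
      by_contra h
      rw [Set.not_nonempty_iff_eq_empty] at h
      rw [h] at h4
      simp at h4
    obtain ⟨e, he, he4⟩ := h4'
    obtain ⟨g, hg⟩ := Cfsg.Agent.S0368.result d e hd he
    rcases hmemT g (by rw [htop]; trivial) with h | h
    · rw [hg] at h
      rw [h, Finset.inter_self, hdcard] at he4
      omega
    · rw [hg] at h
      rw [h, Finset.inter_compl] at he4
      simp at he4
  · intro K hK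
    have hSK : MulAction.stabilizer M24 d ≤ K := hST.trans hK.le
    set O : Set (Finset GolayPt) := MulAction.orbit K d with hO
    have hOsub : O ⊆ dodecads := by
      rintro _ ⟨k, rfl⟩
      exact smul_mem_dodecads (k : M24) hd
    have hOd : d ∈ O := MulAction.mem_orbit_self d
    have hOK : ∀ k ∈ K, ∀ e ∈ O, k • e ∈ O := by
      rintro k hk _ ⟨l, rfl⟩
      refine ⟨⟨k, hk⟩ * l, ?_⟩
      exact mul_smul (⟨k, hk⟩ : K) l d
    obtain ⟨s, hs⟩ := Cfsg.Agent.S0368.result d dᶜ hd hdc
    have hOdc : dᶜ ∈ O := by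
      rw [← hs]
      exact hOK s (hK.le (hswap s hs)) d hOd
    have hOcompl : ∀ e ∈ O, eᶜ ∈ O := by
      rintro _ ⟨k, rfl⟩
      have : (k • d)ᶜ = k • dᶜ := (compl_smul (k : M24) d).symm
      show (k • d)ᶜ ∈ O
      rw [this]
      exact hOK k k.2 _ hOdc
    -- O is a union of fibres
    have hfib : ∀ e ∈ O, ∀ e' ∈ dodecads, (d ∩ e).card = (d ∩ e').card → e' ∈ O := by
      intro e he e' he' h
      obtain ⟨g, hg, hgd, hge⟩ := Cfsg.Agent.S1561.result d e e' hd (hOsub he) he' h
      rw [← hge]
      exact hOK ⟨g, hg⟩ (hSK hgd) e he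
    have hdich : ∀ j, {e | e ∈ O ∧ (d ∩ e).card = j}.ncard = 0 ∨
        {e | e ∈ O ∧ (d ∩ e).card = j} = {e | e ∈ dodecads ∧ (d ∩ e).card = j} := by
      intro j
      by_cases h : {e | e ∈ O ∧ (d ∩ e).card = j}.Nonempty
      · right
        obtain ⟨e, he, hej⟩ := h
        ext e'
        constructor
        · rintro ⟨h1, h2⟩; exact ⟨hOsub h1, h2⟩
        · rintro ⟨h1, h2⟩; exact ⟨hfib e he e' h1 (by rw [hej, h2]), h2⟩
      · left
        rw [Set.not_nonempty_iff_eq_empty] at h
        rw [h]; simp
    have hcompl_inter : ∀ e : Finset GolayPt, (d ∩ eᶜ).card = 12 - (d ∩ e).card := by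
      intro e
      have h1 := Finset.card_inter_add_card_sdiff d e
      have h2 : d ∩ eᶜ = d \ e := by
        ext x; simp
      rw [h2]; omega
    have h48 : {e | e ∈ O ∧ (d ∩ e).card = 4}.Nonempty ↔ {e | e ∈ O ∧ (d ∩ e).card = 8}.Nonempty := by
      constructor
      · rintro ⟨e, he, h⟩
        exact ⟨eᶜ, hOcompl e he, by rw [hcompl_inter, h]⟩
      · rintro ⟨e, he, h⟩
        exact ⟨eᶜ, hOcompl e he, by rw [hcompl_inter, h]⟩
    have hcardO := ncard_split d O (fun e he => hi' e (hOsub he))
    rw [c0 O hOsub hOdc, c12 O hOsub hOd] at hcardO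
    -- divisibility
    have hdvd : O.ncard ∣ 2576 := by
      have h1 : (MulAction.stabilizer M24 d).relIndex K ∣ (MulAction.stabilizer M24 d).index :=
        Subgroup.relIndex_dvd_index_of_le hSK
      rw [index_S] at h1
      have h2 : (MulAction.stabilizer M24 d).relIndex K = O.ncard := by
        rw [hO, ← MulAction.index_stabilizer]
        rfl
      rwa [h2] at h1
    -- something moves `d` elsewhere
    obtain ⟨g, hgK, hgT⟩ := SetLike.exists_of_lt hK
    have hgO : g • d ∈ O := hOK g hgK d hOd
    have hne0 : (d ∩ g • d).card ≠ 0 := fun h => hgT (hswap g (eq0 _ (hOsub hgO) h))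
    have hne12 : (d ∩ g • d).card ≠ 12 := fun h =>
      hgT (hST (by rw [MulAction.mem_stabilizer_iff]; exact eq12 _ (hOsub hgO) h))
    have hOall : O = dodecads := by
      have hle : O.ncard = 2576 := by
        have h468 := hi' _ (hOsub hgO)
        have e4 := hdich 4
        have e6 := hdich 6
        have e8 := hdich 8
        by_cases n4 : {e | e ∈ O ∧ (d ∩ e).card = 4}.Nonempty
        · have n8 := h48.mp n4
          have n4' : {e | e ∈ O ∧ (d ∩ e).card = 4}.ncard ≠ 0 :=
            ((Set.ncard_pos (Set.toFinite _)).mpr n4).ne'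
          have n8' : {e | e ∈ O ∧ (d ∩ e).card = 8}.ncard ≠ 0 :=
            ((Set.ncard_pos (Set.toFinite _)).mpr n8).ne'
          have q4 := e4.resolve_left n4'
          have q8 := e8.resolve_left n8'
          rw [q4, q8, h4, h8] at hcardO
          rcases e6 with q6 | q6
          · rw [q6] at hcardO
            rw [hcardO] at hdvd
            norm_num at hdvd
          · rw [q6, h6] at hcardO
            omega
        · have n8 : ¬ {e | e ∈ O ∧ (d ∩ e).card = 8}.Nonempty := fun h => n4 (h48.mpr h)
          have n6 : {e | e ∈ O ∧ (d ∩ e).card = 6}.Nonempty := by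
            refine ⟨g • d, hgO, ?_⟩
            rcases h468 with h | h | h | h | h
            · exact absurd h hne0
            · exact absurd ⟨_, hgO, h⟩ n4
            · exact h
            · exact absurd ⟨_, hgO, h⟩ n8
            · exact absurd h hne12
          have n6' : {e | e ∈ O ∧ (d ∩ e).card = 6}.ncard ≠ 0 :=
            ((Set.ncard_pos (Set.toFinite _)).mpr n6).ne'
          have q6 := e6.resolve_left n6'
          rw [Set.not_nonempty_iff_eq_empty] at n4 n8
          rw [q6, h6, n4, n8, Set.ncard_empty] at hcardO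
          rw [hcardO] at hdvd
          norm_num at hdvd
      exact Set.eq_of_subset_of_ncard_le hOsub (by rw [hle, card_dod]) (Set.toFinite _)
    rw [eq_top_iff]
    intro x _
    have hx : x • d ∈ O := by rw [hOall]; exact smul_mem_dodecads x hd
    obtain ⟨k, hk⟩ := hx
    have hk' : (k : M24) • d = x • d := hk
    have : (k : M24)⁻¹ * x ∈ K := by
      apply hSK
      rw [MulAction.mem_stabilizer_iff, mul_smul, ← hk', inv_smul_smul]
    have h2 := K.mul_mem k.2 this
    rwa [mul_inv_cancel_left] at h2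

end Cfsg.Agent.S1566
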