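import Mathlib
import Cfsg.Agent.PLocal.ThompsonJA
import Cfsg.Agent.PLocal.ZJ
import Cfsg.Agent.H278.Automizer
import Cfsg.Agent.S0659
import Cfsg.Statements.S3073
set_option linter.all false

-- part: H278/RelZJ
section
/-!
# `Z(J(T / Z))`, pulled back to `T`

`relD Z T` is the intersection of the subgroups `X`, `Z ≤ X ≤ T`, of largest order with `[X, X] ≤ Z`.
For normal `Z` it is the preimage of `Z(J(T / Z))` (abelian version of `J`).
-/

set_option autoImplicit false

namespace Cfsg.Agent.H278.RelZJ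

open Subgroup Cfsg

variable {G H : Type*} [Group G] [Group H]

/-- `X` is abelian modulo `Z`. -/
def RelAb (Z X : Subgroup G) : Prop := ∀ x ∈ X, ∀ y ∈ X, x * y * x⁻¹ * y⁻¹ ∈ Z

/-- The subgroups between `Z` and `T` which are abelian modulo `Z`, of largest order. -/
def relMax (Z T : Subgroup G) : Set (Subgroup G) :=
  {X | Z ≤ X ∧ X ≤ T ∧ RelAb Z X ∧
    ∀ Y : Subgroup G, Z ≤ Y → Y ≤ T → RelAb Z Y → Nat.card Y ≤ Nat.card X}

/-- The intersection of the members of `relMax Z T`. -/
def relD (Z T : Subgroup G) : Subgroup G := sInf (relMax Z T)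

theorem mem_relMax {Z T X : Subgroup G} : X ∈ relMax Z T ↔ Z ≤ X ∧ X ≤ T ∧ RelAb Z X ∧
    ∀ Y : Subgroup G, Z ≤ Y → Y ≤ T → RelAb Z Y → Nat.card Y ≤ Nat.card X := Iff.rfl

theorem relD_def (Z T : Subgroup G) : relD Z T = sInf (relMax Z T) := rfl

theorem relMax_nonempty [Finite G] {Z T : Subgroup G} (h : Z ≤ T) : (relMax Z T).Nonempty := by
  obtain ⟨A, hA, hmax⟩ := Set.exists_max_image {A : Subgroup G | Z ≤ A ∧ A ≤ T ∧ RelAb Z A}
    (fun A => Nat.card A) (Set.toFinite _)
    ⟨Z, le_rfl, h, fun x hx y hy => mul_mem (mul_mem (mul_mem hx hy) (inv_mem hx)) (inv_mem hy)⟩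
  exact ⟨A, hA.1, hA.2.1, hA.2.2, fun B h1 h2 h3 => hmax B ⟨h1, h2, h3⟩⟩

theorem le_relD (Z T : Subgroup G) : Z ≤ relD Z T := le_sInf fun _ hX => hX.1

theorem relD_le [Finite G] {Z T : Subgroup G} (h : Z ≤ T) : relD Z T ≤ T := by
  obtain ⟨X, hX⟩ := relMax_nonempty h
  exact (sInf_le hX).trans hX.2.1

theorem relAb_map (f : G →* H) {Z X : Subgroup G} (h : RelAb Z X) : RelAb (Z.map f) (X.map f) := by
  rintro _ ⟨x, hx, rfl⟩ _ ⟨y, hy, rfl⟩
  exact ⟨x * y * x⁻¹ * y⁻¹, h x hx y hy, by simp⟩

theorem relAb_comap (f : G →* H) {Z X : Subgroup H} (h : RelAb Z X) :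
    RelAb (Z.comap f) (X.comap f) := by
  intro x hx y hy
  rw [Subgroup.mem_comap]
  have := h (f x) hx (f y) hy
  simpa using this

theorem map_mem_relMax (f : G →* H) (hf : Function.Injective f) {Z T X : Subgroup G}
    (hX : X ∈ relMax Z T) : X.map f ∈ relMax (Z.map f) (T.map f) := by
  obtain ⟨h1, h2, h3, h4⟩ := hX
  refine ⟨map_mono h1, map_mono h2, relAb_map f h3, fun Y hZY hYT hY => ?_⟩
  have hYf : (Y.comap f).map f = Y := by
    rw [Subgroup.map_comap_eq, inf_eq_right]
    exact hYT.trans (Subgroup.map_le_range _ _)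
  have h5 : Z ≤ Y.comap f := by rw [← Subgroup.map_le_iff_le_comap]; exact hZY
  have h6 : Y.comap f ≤ T := by
    have := Subgroup.comap_mono (f := f) hYT
    rwa [Subgroup.comap_map_eq_self_of_injective hf] at this
  have h7 : RelAb Z (Y.comap f) := by
    have := relAb_comap f hY
    rwa [Subgroup.comap_map_eq_self_of_injective hf] at this
  have h8 := h4 _ h5 h6 h7
  rw [PLocal.ThompsonJA.card_map_of_injective f hf, ← hYf,
    PLocal.ThompsonJA.card_map_of_injective f hf]
  exact h8

theorem relMax_map (f : G →* H) (hf : Function.Injective f) (Z T : Subgroup G) :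
    relMax (Z.map f) (T.map f) = Subgroup.map f '' relMax Z T := by
  apply Set.Subset.antisymm
  · rintro Y ⟨h1, h2, h3, h4⟩
    have hYf : (Y.comap f).map f = Y := by
      rw [Subgroup.map_comap_eq, inf_eq_right]
      exact h2.trans (Subgroup.map_le_range _ _)
    refine ⟨Y.comap f, ⟨?_, ?_, ?_, ?_⟩, hYf⟩
    · rw [← Subgroup.map_le_iff_le_comap]; exact h1
    · have := Subgroup.comap_mono (f := f) h2
      rwa [Subgroup.comap_map_eq_self_of_injective hf] at this
    · have := relAb_comap f h3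
      rwa [Subgroup.comap_map_eq_self_of_injective hf] at this
    · intro X hZX hXT hX
      have := h4 (X.map f) (map_mono hZX) (map_mono hXT) (relAb_map f hX)
      rw [PLocal.ThompsonJA.card_map_of_injective f hf] at this
      rw [← PLocal.ThompsonJA.card_map_of_injective f hf (Y.comap f), hYf]
      exact this
  · rintro _ ⟨X, hX, rfl⟩
    exact map_mem_relMax f hf hX

theorem map_relD [Finite G] (f : G →* H) (hf : Function.Injective f) {Z T : Subgroup G} (h : Z ≤ T) :
    (relD Z T).map f = relD (Z.map f) (T.map f) := by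
  rw [relD_def, relD_def, relMax_map f hf]
  haveI : Nonempty (relMax Z T) := (relMax_nonempty h).to_subtype
  rw [sInf_eq_iInf', Subgroup.map_iInf _ hf, sInf_image', ]

theorem card_comap_mk [Finite G] (Z : Subgroup G) [Z.Normal] (Y : Subgroup (G ⧸ Z)) :
    Nat.card (Y.comap (QuotientGroup.mk' Z)) = Nat.card Z * Nat.card Y := by
  have hs : Function.Surjective (QuotientGroup.mk' Z) := QuotientGroup.mk'_surjective Z
  have h1 := Subgroup.card_mul_index (Y.comap (QuotientGroup.mk' Z))
  rw [Subgroup.index_comap_of_surjective _ hs] at h1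
  have h2 := Subgroup.card_mul_index Y
  have h3 := Subgroup.card_mul_index Z
  have h4 : Nat.card (G ⧸ Z) = Z.index := rfl
  have h5 : 0 < Y.index := Nat.pos_of_ne_zero Y.index_ne_zero_of_finite
  have h6 : Nat.card (Y.comap (QuotientGroup.mk' Z)) * Y.index = Nat.card Z * Nat.card Y * Y.index := by
    rw [h1, mul_assoc, h2, h4, h3]
  exact Nat.eq_of_mul_eq_mul_right h5 h6

theorem relAb_iff (Z : Subgroup G) [Z.Normal] (X : Subgroup G) :
    RelAb Z X ↔ IsElementaryAbelian 0 (X.map (QuotientGroup.mk' Z)) := by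
  rw [PLocal.ZJ.isElementaryAbelian_def, PLocal.ThompsonJA.isMulCommutative_iff]
  have key : ∀ x y : G, x * y * x⁻¹ * y⁻¹ ∈ Z ↔
      (QuotientGroup.mk' Z) x * (QuotientGroup.mk' Z) y =
        (QuotientGroup.mk' Z) y * (QuotientGroup.mk' Z) x := by
    intro x y
    rw [← QuotientGroup.eq_one_iff, ← QuotientGroup.mk'_apply, map_mul, map_mul, map_mul, map_inv,
      map_inv, mul_inv_eq_one, mul_inv_eq_iff_eq_mul]
  constructor
  · intro h
    refine ⟨?_, fun a _ => pow_zero a⟩
    rintro _ ⟨x, hx, rfl⟩ _ ⟨y, hy, rfl⟩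
    exact (key x y).mp (h x hx y hy)
  · rintro ⟨h, -⟩ x hx y hy
    exact (key x y).mpr (h _ ⟨x, hx, rfl⟩ _ ⟨y, hy, rfl⟩)

theorem map_comap_mk (Z : Subgroup G) [Z.Normal] (Y : Subgroup (G ⧸ Z)) :
    (Y.comap (QuotientGroup.mk' Z)).map (QuotientGroup.mk' Z) = Y :=
  Subgroup.map_comap_eq_self_of_surjective (QuotientGroup.mk'_surjective Z) Y

theorem comap_map_mk (Z : Subgroup G) [Z.Normal] {X : Subgroup G} (h : Z ≤ X) :
    (X.map (QuotientGroup.mk' Z)).comap (QuotientGroup.mk' Z) = X := by
  rw [Subgroup.comap_map_eq, QuotientGroup.ker_mk', sup_eq_left]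
  exact h

theorem le_comap_mk (Z : Subgroup G) [Z.Normal] (Y : Subgroup (G ⧸ Z)) :
    Z ≤ Y.comap (QuotientGroup.mk' Z) := by
  conv_lhs => rw [← QuotientGroup.ker_mk' Z]
  exact MonoidHom.ker_le_comap _ _

/-- The relation with the quotient. -/
theorem relMax_eq [Finite G] (Z T : Subgroup G) [Z.Normal] (h : Z ≤ T) :
    relMax Z T = (fun Y => Y.comap (QuotientGroup.mk' Z)) ''
      PLocal.ZJ.maxAb 0 (T.map (QuotientGroup.mk' Z)) := by
  have hZpos : 0 < Nat.card Z := Nat.card_pos
  apply Set.Subset.antisymm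
  · rintro X ⟨h1, h2, h3, h4⟩
    refine ⟨X.map (QuotientGroup.mk' Z), ⟨map_mono h2, (relAb_iff Z X).mp h3, ?_⟩, comap_map_mk Z h1⟩
    intro B hB hBe
    have h5 : B.comap (QuotientGroup.mk' Z) ≤ T := by
      have := Subgroup.comap_mono (f := QuotientGroup.mk' Z) hB
      rwa [comap_map_mk Z h] at this
    have h6 : RelAb Z (B.comap (QuotientGroup.mk' Z)) := by
      rw [relAb_iff, map_comap_mk]; exact hBe
    have h7 := h4 _ (le_comap_mk Z B) h5 h6
    rw [← comap_map_mk Z h1, card_comap_mk, card_comap_mk] at h7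
    exact Nat.le_of_mul_le_mul_left h7 hZpos
  · rintro _ ⟨B, ⟨h1, h2, h3⟩, rfl⟩
    refine ⟨le_comap_mk Z B, ?_, ?_, ?_⟩
    · have := Subgroup.comap_mono (f := QuotientGroup.mk' Z) h1
      rwa [comap_map_mk Z h] at this
    · rw [relAb_iff, map_comap_mk]; exact h2
    · intro Y hZY hYT hY
      have h4 := h3 (Y.map (QuotientGroup.mk' Z)) (map_mono hYT) ((relAb_iff Z Y).mp hY)
      change Nat.card Y ≤ Nat.card (B.comap (QuotientGroup.mk' Z))
      rw [← comap_map_mk Z hZY, card_comap_mk, card_comap_mk]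
      exact Nat.mul_le_mul_left _ h4

theorem relD_eq_comap [Finite G] (Z T : Subgroup G) [Z.Normal] (h : Z ≤ T) :
    relD Z T = (centerThompsonAOf (T.map (QuotientGroup.mk' Z))).comap (QuotientGroup.mk' Z) := by
  rw [relD_def, relMax_eq Z T h, PLocal.ZJ.centerThompsonAOf_eq, sInf_image, sInf_eq_iInf,
    Subgroup.comap_iInf]
  refine iInf_congr fun Y => ?_
  rw [Subgroup.comap_iInf]

/-- `Z < relD Z T` for a `p`-group `T ≠ Z`. -/
theorem relD_ne [Finite G] {p : ℕ} [Fact p.Prime] (Z T : Subgroup G) [Z.Normal] (h : Z ≤ T)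
    (hT : IsPGroup p T) (hne : T ≠ Z) : relD Z T ≠ Z := by
  intro h1
  rw [relD_eq_comap Z T h] at h1
  have h2 := congrArg (Subgroup.map (QuotientGroup.mk' Z)) h1
  rw [map_comap_mk, (Subgroup.map_eq_bot_iff _).mpr (le_of_eq (QuotientGroup.ker_mk' Z).symm)] at h2
  refine PLocal.ThompsonJA.centerThompsonAOf_ne_bot (T.map (QuotientGroup.mk' Z)) (hT.map _) ?_ h2
  intro h3
  rw [Subgroup.map_eq_bot_iff, QuotientGroup.ker_mk'] at h3
  exact hne (le_antisymm h3 h)

end Cfsg.Agent.H278.RelZJ
end

-- part: H278/CharComplement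
section
/-!
# A self-centralizing characteristic subgroup deciding normal `p`-complements

For odd `p` every finite `p`-group `S` has a characteristic subgroup `K` with `C_S(K) ≤ K` such that
a finite group with Sylow `p`-subgroup `S` has a normal `p`-complement as soon as `N_G(K)` has one.
-/

set_option autoImplicit false

universe u

namespace Cfsg.Agent.H278.CharComplement

open Subgroup Cfsg
open Cfsg.Agent.Transfer
open Cfsg.Agent.Transfer.FusionBasic
open Cfsg.Agent.H278.Automizer
open Cfsg.Agent.H278.RelZJ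

/-- Central `p`-extensions. -/
theorem hnc_of_central_quotient {C : Type*} [Group C] [Finite C] {p : ℕ} [Fact p.Prime]
    (Z : Subgroup C) [Z.Normal] (hZp : IsPGroup p Z) (hZ : Z ≤ center C)
    (h : HasNormalPComplement p (C ⧸ Z)) : HasNormalPComplement p C := by
  obtain ⟨M, hM, h1, h2⟩ := NormalPComplement.hasNormalPComplement_iff.mp h
  have hLn : (M.comap (QuotientGroup.mk' Z)).Normal := hM.comap _
  have hZL : Z ≤ M.comap (QuotientGroup.mk' Z) := le_comap_mk Z M
  -- a Sylow subgroup of the preimage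
  have hS : SylIn p Z (M.comap (QuotientGroup.mk' Z)) := by
    refine ⟨hZL, hZp, fun R hZR hRL hR => le_antisymm ?_ hZR⟩
    intro r hr
    have h3 : (QuotientGroup.mk' Z) r ∈ M := hRL hr
    have h4 : (QuotientGroup.mk' Z) r = 1 :=
      eq_one_of_mem_of_coprime (hR.map (QuotientGroup.mk' Z)) h1 ⟨r, hr, rfl⟩ h3
    exact (QuotientGroup.eq_one_iff r).mp h4
  obtain ⟨T, hT⟩ := hS.exists_sylow
  have hTc : (T : Subgroup (M.comap (QuotientGroup.mk' Z))) ≤ center _ := by
    intro t ht
    have h3 : (t : C) ∈ (T : Subgroup (M.comap (QuotientGroup.mk' Z))).map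
        (M.comap (QuotientGroup.mk' Z)).subtype := ⟨t, ht, rfl⟩
    rw [hT] at h3
    rw [Subgroup.mem_center_iff]
    intro c
    exact Subtype.ext ((Subgroup.mem_center_iff.mp (hZ h3)) c)
  have h3 := hnc_of_central_sylow T hTc
  refine hnc_of_isPGroup_quotient _ h3 ?_
  rw [NormalPComplement.isPGroup_quotient_iff] at h2 ⊢
  intro g
  obtain ⟨k, hk⟩ := h2 ((QuotientGroup.mk' Z) g)
  refine ⟨k, ?_⟩
  rw [Subgroup.mem_comap, map_pow]
  exact hk

/-- The local step. `K ≤ P` with `P ≤ N_G(K)`, `C₀ = C_P(K)`, `Z = C₀ ∩ K`, `D = relD Z C₀`. -/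
theorem step {G : Type u} [Group G] [Finite G] {p : ℕ} [Fact p.Prime] (hp : p ≠ 2) (P : Sylow p G)
    (K : Subgroup G) (hPK : (P : Subgroup G) ≤ normalizer (K : Set G))
    (C₀ Z : Subgroup G) (hC₀ : C₀ = (P : Subgroup G) ⊓ centralizer (K : Set G)) (hZ : Z = C₀ ⊓ K)
    (h : HasNormalPComplement p (normalizer ((K ⊔ relD Z C₀ : Subgroup G) : Set G))) :
    HasNormalPComplement p (normalizer (K : Set G)) := by
  have hZC₀ : Z ≤ C₀ := by rw [hZ]; exact inf_le_left
  have hC₀C : C₀ ≤ centralizer (K : Set G) := by rw [hC₀]; exact inf_le_right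
  have hC₀P : C₀ ≤ (P : Subgroup G) := by rw [hC₀]; exact inf_le_left
  have hZK : Z ≤ K := by rw [hZ]; exact inf_le_right
  obtain ⟨D, hD⟩ : ∃ D, D = relD Z C₀ := ⟨_, rfl⟩
  have hDC₀ : D ≤ C₀ := by rw [hD]; exact relD_le hZC₀
  rw [← hD] at h
  -- `P` is Sylow in `N(K)`, `C₀` is Sylow in `C(K)`
  have hSN : SylIn p (P : Subgroup G) (normalizer (K : Set G)) :=
    ⟨hPK, P.isPGroup', fun R hR _ hRp => P.is_maximal' hRp hR⟩
  have hCN : centralizer (K : Set G) ≤ normalizer (K : Set G) :=
    Subgroup.centralizer_le_normalizer (K : Set G)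
  have hSC : SylIn p C₀ (centralizer (K : Set G)) := by
    rw [hC₀]
    exact hSN.inf hCN (normalizer_le_normalizer_centralizer K)
  obtain ⟨T, hT⟩ := hSC.exists_sylow
  -- the group `C = C_G(K)` and its central subgroup
  let C : Subgroup G := centralizer (K : Set G)
  let ZC : Subgroup C := Z.subgroupOf C
  have hZCmap : ZC.map C.subtype = Z := by
    rw [subgroupOf_map_subtype, inf_eq_left]
    exact hZC₀.trans hC₀C
  have hZCc : ZC ≤ center C := by
    intro z hz
    rw [mem_subgroupOf] at hz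
    rw [Subgroup.mem_center_iff]
    intro c
    exact Subtype.ext ((Subgroup.mem_centralizer_iff.mp c.2) _ (hZK hz)).symm
  have hZCn : ZC.Normal := ⟨fun z hz c => by
    have := (Subgroup.mem_center_iff.mp (hZCc hz)) c
    rw [this, mul_inv_cancel_right]; exact hz⟩
  have hZCp : IsPGroup p ZC :=
    (P.isPGroup'.to_le (hZC₀.trans hC₀P)).comap_of_injective _ (Subgroup.subtype_injective _)
  have hZCT : ZC ≤ (T : Subgroup C) := by
    intro z hz
    rw [mem_subgroupOf] at hz
    have h1 : (z : G) ∈ (T : Subgroup C).map C.subtype := by rw [hT]; exact hZC₀ hz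
    obtain ⟨t, ht, htz⟩ := h1
    have : t = z := Subtype.ext htz
    rwa [← this]
  have hDmap : (relD ZC (T : Subgroup C)).map C.subtype = D := by
    rw [map_relD C.subtype C.subtype_injective hZCT, hZCmap, hT, hD]
  -- elements of `N_G(K)` normalizing `D` normalize `K ⊔ D`
  have hnorm : ∀ g : G, g ∈ normalizer (K : Set G) → g ∈ normalizer (D : Set G) →
      g ∈ normalizer ((K ⊔ D : Subgroup G) : Set G) := by
    intro g h1 h2
    rw [Subgroup.mem_normalizer_iff_map_conj_eq] at h1 h2 ⊢
    rw [Subgroup.map_sup, h1, h2]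
  -- the normal complement of `C`
  have hC : HasNormalPComplement p C := by
    refine hnc_of_central_quotient ZC hZCp hZCc ?_
    have hs : Function.Surjective (QuotientGroup.mk' ZC) := QuotientGroup.mk'_surjective ZC
    refine S0659.result hp (T.mapSurjective hs) ?_
    rw [Sylow.coe_mapSurjective]
    have h1 : centerThompsonAOf ((T : Subgroup C).map (QuotientGroup.mk' ZC)) =
        (relD ZC (T : Subgroup C)).map (QuotientGroup.mk' ZC) := by
      rw [relD_eq_comap ZC _ hZCT, map_comap_mk]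
    rw [h1]
    -- the normalizer of the image
    have h2 : normalizer (((relD ZC (T : Subgroup C)).map (QuotientGroup.mk' ZC) :
        Subgroup (C ⧸ ZC)) : Set (C ⧸ ZC)) ≤
        (normalizer ((relD ZC (T : Subgroup C)) : Set C)).map (QuotientGroup.mk' ZC) := by
      intro x hx
      obtain ⟨c, rfl⟩ := hs x
      refine ⟨c, ?_, rfl⟩
      change c ∈ normalizer ((relD ZC (T : Subgroup C)) : Set C)
      rw [Subgroup.mem_normalizer_iff_map_conj_eq] at hx ⊢
      have h3 : ((relD ZC (T : Subgroup C)).map (MulAut.conj c).toMonoidHom).map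
          (QuotientGroup.mk' ZC) = (relD ZC (T : Subgroup C)).map (QuotientGroup.mk' ZC) := by
        rw [← hx, Subgroup.map_map, Subgroup.map_map]
        congr 1
      have h4 : ZC ≤ (relD ZC (T : Subgroup C)).map (MulAut.conj c).toMonoidHom := by
        have := map_mono (f := (MulAut.conj c).toMonoidHom) (le_relD ZC (T : Subgroup C))
        refine le_trans (le_of_eq ?_) this
        exact (map_conj_eq_of_mem_normalizer (by rw [normalizer_eq_top]; trivial)).symm
      have h5 := congrArg (Subgroup.comap (QuotientGroup.mk' ZC)) h3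
      rwa [comap_map_mk ZC h4, comap_map_mk ZC (le_relD _ _)] at h5
    refine Transfer.PNilpotentBasic.hnc_of_le h2 (Transfer.PNilpotentBasic.hnc_map _ _ ?_)
    refine Transfer.PNilpotentBasic.hnc_of_map_le C.subtype C.subtype_injective _
      (normalizer ((K ⊔ D : Subgroup G) : Set G)) ?_ h
    rintro _ ⟨c, hc, rfl⟩
    refine hnorm _ (hCN c.2) ?_
    have h3 : (c : G) ∈ (normalizer ((relD ZC (T : Subgroup C)) : Set C)).map C.subtype :=
      ⟨c, hc, rfl⟩
    have h4 := Subgroup.le_normalizer_map C.subtype h3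
    rwa [hDmap] at h4
  -- `N_G(K)`
  let N : Subgroup G := normalizer (K : Set G)
  obtain ⟨O, hOn, hO1, hO2⟩ := NormalPComplement.hasNormalPComplement_iff.mp hC
  -- the complement of `C` as a subgroup of `G`, normal in `N`
  obtain ⟨OG, hOG⟩ : ∃ OG : Subgroup G, OG = O.map C.subtype := ⟨_, rfl⟩
  have hOGC : OG ≤ C := by rw [hOG]; exact map_subtype_le _
  have hOGmem : ∀ x : G, x ∈ OG ↔ x ∈ C ∧ (orderOf x).Coprime p := by
    intro x
    rw [hOG]
    constructor
    · rintro ⟨y, hy, rfl⟩
      refine ⟨y.2, ?_⟩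
      rw [Subgroup.coe_subtype, Subgroup.orderOf_coe]
      exact (NormalPComplement.mem_iff_coprime_orderOf' O hO1 hO2 y).mp hy
    · rintro ⟨hx, hx1⟩
      refine ⟨⟨x, hx⟩, ?_, rfl⟩
      refine (NormalPComplement.mem_iff_coprime_orderOf' O hO1 hO2 _).mpr ?_
      rw [← Subgroup.orderOf_coe]; exact hx1
  have hNC : N ≤ normalizer (C : Set G) := normalizer_le_normalizer_centralizer K
  have hNOG : N ≤ normalizer (OG : Set G) := by
    intro g hg
    apply mem_normalizer_of_conj_mem
    intro a ha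
    rw [hOGmem] at ha ⊢
    refine ⟨((Subgroup.mem_normalizer_iff.mp (hNC hg)) a).mp ha.1, ?_⟩
    have : orderOf (g * a * g⁻¹) = orderOf a := by
      have := orderOf_injective (MulAut.conj g).toMonoidHom (MulAut.conj g).injective a
      simpa using this
    rw [this]; exact ha.2
  have hOGcop : (Nat.card OG).Coprime p := by
    rw [hOG, PLocal.ThompsonJA.card_map_of_injective _ C.subtype_injective]
    exact hO1
  have hCN' : C ≤ N := hCN
  let ON : Subgroup N := OG.subgroupOf N
  have hONn : ON.Normal := (normal_subgroupOf_iff_le_normalizer (hOGC.trans hCN')).mpr hNOG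
  have hONcop : (Nat.card ON).Coprime p := by
    rw [Nat.card_congr (Subgroup.subgroupOfEquivOfLe (hOGC.trans hCN')).toEquiv]
    exact hOGcop
  refine NormalPComplement.of_quotient ON hONcop ?_
  -- the subgroup `N ∩ N_G(C₀)` covers the quotient
  let H : Subgroup G := N ⊓ normalizer (C₀ : Set G)
  have hH : HasNormalPComplement p H := by
    refine Transfer.PNilpotentBasic.hnc_of_le ?_ h
    intro g hg
    refine hnorm g hg.1 ?_
    have hg1 : g ∈ normalizer (C₀ : Set G) := hg.2
    have hg2 : g ∈ normalizer (K : Set G) := hg.1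
    rw [Subgroup.mem_normalizer_iff_map_conj_eq] at hg1 hg2 ⊢
    have hg3 : Z.map (MulAut.conj g : G →* G) = Z := by
      have := Subgroup.map_inf C₀ K (MulAut.conj g : G →* G) (MulAut.conj g).injective
      rw [hg1, hg2] at this
      rw [hZ]; exact this
    rw [hD, map_relD (MulAut.conj g : G →* G) (MulAut.conj g).injective hZC₀, hg1, hg3]
  let f : H →* N ⧸ ON := (QuotientGroup.mk' ON).comp (Subgroup.inclusion inf_le_left)
  refine Transfer.PNilpotentBasic.hnc_of_surjective f ?_ hH
  intro x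
  obtain ⟨⟨n, hn⟩, rfl⟩ := QuotientGroup.mk'_surjective ON x
  -- Frattini
  obtain ⟨c, hc, hcn⟩ := hSC.frattini (L := N) hNC hn
  -- `c = o * s` with `o ∈ OG`, `s ∈ C₀`
  have hpow : ∀ x ∈ C, ∃ k : ℕ, x ^ p ^ k ∈ OG := by
    intro x hx
    obtain ⟨k, hk⟩ := (NormalPComplement.isPGroup_quotient_iff O).mp hO2 ⟨x, hx⟩
    refine ⟨k, ?_⟩
    rw [hOG]
    exact ⟨_, hk, rfl⟩
  obtain ⟨o, ho, s, hs, hos⟩ := hSC.exists_mul hOGC (hCN'.trans hNOG) hpow (inv_mem hc)
  -- `n = c⁻¹ * (c * n) = o * (s * (c * n))`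
  have hsn : s * (c * n) ∈ normalizer (C₀ : Set G) := mul_mem (le_normalizer hs) hcn
  have hsN : s * (c * n) ∈ N :=
    mul_mem (hCN' (hC₀C hs)) (mul_mem (hCN' hc) hn)
  refine ⟨⟨s * (c * n), hsN, hsn⟩, ?_⟩
  change (QuotientGroup.mk' ON) _ = (QuotientGroup.mk' ON) _
  rw [QuotientGroup.mk'_apply, QuotientGroup.mk'_apply, QuotientGroup.eq, mem_subgroupOf]
  have e : n = o * (s * (c * n)) := by
    rw [← mul_assoc, ← hos]; group
  have e1 : (s * (c * n))⁻¹ * n = (s * (c * n))⁻¹ * o * (s * (c * n)) := by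
    conv_lhs => rw [e]
    have : c * (o * (s * (c * n))) = c * n := by rw [← e]
    rw [this]; group
  change (s * (c * n))⁻¹ * n ∈ OG
  rw [e1]
  have h7 := ((Subgroup.mem_normalizer_iff.mp (hNOG (inv_mem hsN))) o).mp ho
  rwa [inv_inv] at h7

end Cfsg.Agent.H278.CharComplement
end

-- part: S3073
section
set_option autoImplicit false
universe u
open Cfsg

namespace Cfsg.Agent.S3073

open Cfsg.Agent.H278.Automizer
open Cfsg.Agent.H278.RelZJ
open Cfsg.Agent.H278.CharComplement

theorem map_centralizer_eq {S G : Type*} [Group S] [Group G] (f : S →* G)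
    (hf : Function.Injective f) (K : Subgroup S) :
    (Subgroup.centralizer (K : Set S)).map f =
      f.range ⊓ Subgroup.centralizer ((K.map f : Subgroup G) : Set G) := by
  ext x
  constructor
  · rintro ⟨y, hy, rfl⟩
    refine ⟨⟨y, rfl⟩, ?_⟩
    change f y ∈ Subgroup.centralizer _
    have hy' : y ∈ Subgroup.centralizer (K : Set S) := hy
    rw [Subgroup.mem_centralizer_iff] at hy' ⊢
    rintro _ ⟨k, hk, rfl⟩
    rw [← map_mul, ← map_mul, hy' k hk]
  · rintro ⟨⟨y, rfl⟩, hy⟩
    refine ⟨y, ?_, rfl⟩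
    change y ∈ Subgroup.centralizer _
    have hy' : f y ∈ Subgroup.centralizer _ := hy
    rw [Subgroup.mem_centralizer_iff] at hy' ⊢
    intro k hk
    apply hf
    rw [map_mul, map_mul]
    exact hy' _ ⟨k, hk, rfl⟩

/-- For an odd prime p, every finite p-group S has a characteristic subgroup K with C_S(K) ≤ K such that, whenever S is (isomorphic to) a Sylow p-subgroup of a finite group G, G has a normal p-complement if and only if N_G(K)/C_G(K) is a p-group, i.e. every element of N_G(K) of order prime to p centralizes K (K transported into G along the isomorphism). -/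
theorem result (p : ℕ) [Fact p.Prime] (hp : p ≠ 2)
    (S : Type u) [Group S] [Finite S] (hS : IsPGroup p S) :
    ∃ K : Subgroup S, K.Characteristic ∧ Subgroup.centralizer (K : Set S) ≤ K ∧
      ∀ (G : Type u) [Group G] [Finite G] (P : Sylow p G) (e : ↥(P : Subgroup G) ≃* S),
        Cfsg.HasNormalPComplement p G ↔
          ∀ g ∈ Subgroup.normalizer (((K.comap (e : ↥(P : Subgroup G) →* S)).map (P : Subgroup G).subtype : Subgroup G) : Set G),
            (orderOf g).Coprime p →
              g ∈ Subgroup.centralizer (((K.comap (e : ↥(P : Subgroup G) →* S)).map (P : Subgroup G).subtype : Subgroup G) : Set G) := by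
  classical
  -- the embedding of `S` in `G`
  have hι : ∀ (G : Type u) [Group G] (P : Subgroup G) (e : ↥P ≃* S) (K : Subgroup S),
      (K.comap (e : ↥P →* S)).map P.subtype = K.map (P.subtype.comp (e.symm : S →* ↥P)) := by
    intro G _ P e K
    rw [← Subgroup.map_map]
    congr 1
    exact Subgroup.comap_equiv_eq_map_symm e K
  let Good : Subgroup S → Prop := fun K => K.Characteristic ∧
    ∀ (G : Type u) [Group G] [Finite G] (P : Sylow p G) (e : ↥(P : Subgroup G) ≃* S),
      HasNormalPComplement p (Subgroup.normalizer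
        ((K.map ((P : Subgroup G).subtype.comp (e.symm : S →* ↥(P : Subgroup G))) : Subgroup G) :
          Set G)) → HasNormalPComplement p G
  have hbot : Good ⊥ := by
    refine ⟨inferInstance, fun G _ _ P e h => ?_⟩
    rw [Subgroup.map_bot, Subgroup.normalizer_eq_top] at h
    exact (Transfer.PNilpotentBasic.hnc_top).mp h
  obtain ⟨K, hKmax⟩ := Set.Finite.exists_maximal (Set.toFinite {K | Good K}) ⟨⊥, hbot⟩
  obtain ⟨hKchar, hKgood⟩ := hKmax.1
  have hcent : Subgroup.centralizer (K : Set S) ≤ K := by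
    by_contra hnot
    obtain ⟨C₀, hC₀⟩ : ∃ C₀, C₀ = Subgroup.centralizer (K : Set S) := ⟨_, rfl⟩
    obtain ⟨Z, hZ⟩ : ∃ Z, Z = C₀ ⊓ K := ⟨_, rfl⟩
    have hZC₀ : Z ≤ C₀ := by rw [hZ]; exact inf_le_left
    have hC₀char : C₀.Characteristic := by rw [hC₀]; infer_instance
    have hmapK : ∀ φ : S ≃* S, K.map (φ : S →* S) = K := fun φ =>
      (Subgroup.characteristic_iff_map_eq.mp hKchar φ)
    have hmapC₀ : ∀ φ : S ≃* S, C₀.map (φ : S →* S) = C₀ := fun φ =>
      (Subgroup.characteristic_iff_map_eq.mp hC₀char φ)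
    have hmapZ : ∀ φ : S ≃* S, Z.map (φ : S →* S) = Z := by
      intro φ
      have := Subgroup.map_inf C₀ K (φ : S →* S) φ.injective
      rw [hmapK, hmapC₀] at this
      rw [hZ]; exact this
    have hZn : Z.Normal := by
      have : Z.Characteristic := Subgroup.characteristic_iff_map_eq.mpr hmapZ
      infer_instance
    obtain ⟨D, hD⟩ : ∃ D, D = relD Z C₀ := ⟨_, rfl⟩
    have hmapD : ∀ φ : S ≃* S, D.map (φ : S →* S) = D := by
      intro φ
      rw [hD, map_relD (φ : S →* S) φ.injective hZC₀, hmapZ, hmapC₀]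
    have hDne : D ≠ Z := by
      rw [hD]
      refine relD_ne Z C₀ hZC₀ (hS.to_subgroup C₀) ?_
      intro h
      apply hnot
      rw [← hC₀, h, hZ]
      exact inf_le_right
    have hgood : Good (K ⊔ D) := by
      refine ⟨?_, ?_⟩
      · apply Subgroup.characteristic_iff_map_eq.mpr
        intro φ
        have := Subgroup.map_sup K D (φ : S →* S)
        rw [hmapK, hmapD] at this
        exact this
      · intro G _ _ P e h
        apply hKgood G P e
        obtain ⟨f, hf⟩ : ∃ f, f = (P : Subgroup G).subtype.comp (e.symm : S →* ↥(P : Subgroup G)) :=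
          ⟨_, rfl⟩
        have hfinj : Function.Injective f := by
          rw [hf]
          exact (Subgroup.subtype_injective _).comp e.symm.injective
        have hfrange : f.range = (P : Subgroup G) := by
          rw [hf, MonoidHom.range_comp, MonoidHom.range_eq_top.mpr e.symm.surjective,
            ← MonoidHom.range_eq_map, Subgroup.range_subtype]
        rw [← hf] at h ⊢
        have hKle : K.map f ≤ (P : Subgroup G) := by
          rw [← hfrange]; exact Subgroup.map_le_range _ _
        have hPK : (P : Subgroup G) ≤ Subgroup.normalizer ((K.map f : Subgroup G) : Set G) := by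
          have h1 : (⊤ : Subgroup S) ≤ Subgroup.normalizer (K : Set S) := by
            rw [Subgroup.normalizer_eq_top]
          have h2 := Subgroup.map_mono (f := f) h1
          rw [← MonoidHom.range_eq_map, hfrange] at h2
          exact h2.trans (Subgroup.le_normalizer_map f)
        refine step hp P (K.map f) hPK (C₀.map f) (Z.map f) ?_ ?_ ?_
        · rw [hC₀, map_centralizer_eq f hfinj, hfrange]
        · rw [hZ, Subgroup.map_inf _ _ _ hfinj]
        · rwa [← map_relD f hfinj hZC₀, ← hD, ← Subgroup.map_sup]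
    have h1 := hKmax.2 hgood le_sup_left
    have h2 : D ≤ K := le_sup_right.trans h1
    apply hDne
    refine le_antisymm ?_ (by rw [hD]; exact le_relD Z C₀)
    rw [hZ]
    exact le_inf (by rw [hD]; exact relD_le hZC₀) h2
  refine ⟨K, hKchar, hcent, fun G _ _ P e => ?_⟩
  rw [hι G (P : Subgroup G) e K]
  obtain ⟨f, hf⟩ : ∃ f, f = (P : Subgroup G).subtype.comp (e.symm : S →* ↥(P : Subgroup G)) :=
    ⟨_, rfl⟩
  have hfinj : Function.Injective f := by
    rw [hf]
    exact (Subgroup.subtype_injective _).comp e.symm.injective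
  have hfrange : f.range = (P : Subgroup G) := by
    rw [hf, MonoidHom.range_comp, MonoidHom.range_eq_top.mpr e.symm.surjective,
      ← MonoidHom.range_eq_map, Subgroup.range_subtype]
  have hKG := hKgood G P e
  rw [← hf] at hKG ⊢
  have hKle : K.map f ≤ (P : Subgroup G) := by
    rw [← hfrange]; exact Subgroup.map_le_range _ _
  have hPK : (P : Subgroup G) ≤ Subgroup.normalizer ((K.map f : Subgroup G) : Set G) := by
    have h1 : (⊤ : Subgroup S) ≤ Subgroup.normalizer (K : Set S) := by
      rw [Subgroup.normalizer_eq_top]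
    have h2 := Subgroup.map_mono (f := f) h1
    rw [← MonoidHom.range_eq_map, hfrange] at h2
    exact h2.trans (Subgroup.le_normalizer_map f)
  have hC : (P : Subgroup G) ⊓ Subgroup.centralizer ((K.map f : Subgroup G) : Set G) ≤ K.map f := by
    rw [← hfrange, ← map_centralizer_eq f hfinj]
    exact Subgroup.map_mono hcent
  rw [← hnc_normalizer_iff P (K.map f) hKle hPK hC]
  exact ⟨fun h => Transfer.PNilpotentBasic.hnc_subgroup _ h, hKG⟩

end Cfsg.Agent.S3073
end
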