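import Cfsg.Agent.Lib.GoldschmidtFusion
import Cfsg.Statements.S3685
import Cfsg.Agent.H581.SimsE
import Cfsg.Agent.SignalizersComponents.DihedralIso
set_option linter.all false

-- part: H428/Sub3
section
/-! Finite primitive groups with a suborbit of length three: the two-point stabilizer is a 2-group. -/

set_option autoImplicit false
set_option linter.unusedSectionVars false
set_option linter.style.haveILetI false

namespace Cfsg.Agent.H428.Sub3

open MulAction Pointwise

variable {G Ω : Type*} [Group G] [Finite G] [MulAction G Ω] [FaithfulSMul G Ω] [Finite Ω]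

omit [Finite G] [FaithfulSMul G Ω] [Finite Ω] in
theorem conj_stab (g : G) (a : Ω) : MulAut.conj g • stabilizer G a = stabilizer G (g • a) :=
  (stabilizer_smul_eq_stabilizer_map_conj g a).symm

omit [FaithfulSMul G Ω] [Finite Ω] in
theorem card_stab_eq [IsPretransitive G Ω] (a b : Ω) :
    Nat.card (stabilizer G a) = Nat.card (stabilizer G b) := by
  obtain ⟨g, rfl⟩ := exists_smul_eq G a b
  rw [← conj_stab]
  exact (Nat.card_congr (Subgroup.equivSMul (MulAut.conj g) (stabilizer G a)).toEquiv)

omit [Finite G] [Finite Ω] in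
theorem eq_bot_of_le_stab [IsPretransitive G Ω] (X : Subgroup G) (hX : X.Normal) (a : Ω)
    (hXa : X ≤ stabilizer G a) : X = ⊥ := by
  rw [eq_bot_iff]
  intro x hx
  rw [Subgroup.mem_bot]
  refine FaithfulSMul.eq_of_smul_eq_smul (α := Ω) fun c => ?_
  obtain ⟨g, rfl⟩ := exists_smul_eq G a c
  have h1 : g⁻¹ * x * g ∈ X := by
    have := hX.conj_mem x hx g⁻¹
    rwa [inv_inv] at this
  have h2 : (g⁻¹ * x * g) • a = a := mem_stabilizer_iff.1 (hXa h1)
  rw [one_smul]
  calc x • g • a = g • ((g⁻¹ * x * g) • a) := by rw [smul_smul, smul_smul]; congr 1; group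
    _ = g • a := by rw [h2]

omit [Finite G] [Finite Ω] in
theorem stab_ne [hprim : IsPreprimitive G Ω] {a b : Ω} (hab : a ≠ b) (hne : stabilizer G a ≠ ⊥) :
    stabilizer G a ≠ stabilizer G b := by
  intro h
  haveI : Nontrivial Ω := ⟨⟨a, b, hab⟩⟩
  obtain ⟨g, hg⟩ := exists_smul_eq G a b
  have hco := IsPreprimitive.isCoatom_stabilizer_of_isPreprimitive G a
  have hgn : g ∈ Subgroup.normalizer (stabilizer G a : Set G) := by
    rw [Subgroup.mem_normalizer_iff]
    intro x
    have h1 : MulAut.conj g • stabilizer G a = stabilizer G a := by rw [conj_stab, hg, ← h]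
    constructor
    · intro hx
      rw [← h1]
      exact ⟨x, hx, rfl⟩
    · intro hx
      rw [← h1] at hx
      obtain ⟨y, hy, hyx⟩ := hx
      have : y = x := by
        have : g * y * g⁻¹ = g * x * g⁻¹ := hyx
        exact mul_left_cancel (mul_right_cancel this)
      rwa [← this]
  have htop : Subgroup.normalizer (stabilizer G a : Set G) = ⊤ := by
    apply hco.2
    refine lt_of_le_of_ne Subgroup.le_normalizer ?_
    intro he
    rw [← he] at hgn
    exact hab (by rw [← hg]; exact (mem_stabilizer_iff.1 hgn).symm)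
  exact hne (eq_bot_of_le_stab _ (Subgroup.normalizer_eq_top_iff.1 htop) a le_rfl)

omit [Finite G] [Finite Ω] in
theorem sup_eq_top [hprim : IsPreprimitive G Ω] {a b : Ω} (hab : a ≠ b) (hne : stabilizer G a ≠ ⊥) :
    stabilizer G a ⊔ stabilizer G b = ⊤ := by
  haveI : Nontrivial Ω := ⟨⟨a, b, hab⟩⟩
  have hco := IsPreprimitive.isCoatom_stabilizer_of_isPreprimitive G a
  have hco' := IsPreprimitive.isCoatom_stabilizer_of_isPreprimitive G b
  rcases eq_or_lt_of_le (le_sup_left : stabilizer G a ≤ stabilizer G a ⊔ stabilizer G b) with h | h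
  · exfalso
    have h1 : stabilizer G b ≤ stabilizer G a := by rw [h]; exact le_sup_right
    rcases eq_or_lt_of_le h1 with h2 | h2
    · exact stab_ne hab hne h2.symm
    · exact hco.1 (hco'.2 _ h2)
  · exact hco.2 _ h

/-- a nontrivial subgroup of a stabilizer is not normalized by another stabilizer too -/
theorem eq_bot_of_norm [hprim : IsPreprimitive G Ω] {a b : Ω} (hab : a ≠ b) (hne : stabilizer G a ≠ ⊥)
    (X : Subgroup G) (hXa : X ≤ stabilizer G a) (h1 : stabilizer G a ≤ Subgroup.normalizer (X : Set G))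
    (h2 : stabilizer G b ≤ Subgroup.normalizer (X : Set G)) : X = ⊥ := by
  have h3 : Subgroup.normalizer (X : Set G) = ⊤ := by
    rw [eq_top_iff, ← sup_eq_top hab hne]
    exact sup_le h1 h2
  exact eq_bot_of_le_stab X (Subgroup.normalizer_eq_top_iff.1 h3) a hXa


theorem perm3 : ∀ (σ : Equiv.Perm (Fin 3)) (b : Fin 3), σ b = b → σ * σ = 1 := by decide

theorem perm_fix {X : Type*} (e : X ≃ Fin 3) (σ : Equiv.Perm X) (b : X) (hb : σ b = b) {n : ℕ} (hn : Odd n)
    (hσ : σ ^ n = 1) : σ = 1 := by
  have h1 : e.permCongrHom σ * e.permCongrHom σ = 1 := by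
    refine perm3 _ (e b) ?_
    show e (σ (e.symm (e b))) = e b
    rw [e.symm_apply_apply, hb]
  have h2 : σ * σ = 1 := by
    apply e.permCongrHom.injective
    rw [map_mul, h1, map_one]
  obtain ⟨k, rfl⟩ := hn
  rw [pow_succ, pow_mul, pow_two, h2, one_pow, one_mul] at hσ
  exact hσ

/-- odd order elements of `G_{ab}` fix the whole suborbit of length three. -/
theorem odd_fix {a b : Ω} (h3 : Nat.card (orbit (stabilizer G a) b) = 3) {x : G}
    (hxa : x ∈ stabilizer G a) (hxb : x ∈ stabilizer G b) {n : ℕ} (hn : Odd n) (hx : x ^ n = 1) {c : Ω}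
    (hc : c ∈ orbit (stabilizer G a) b) : x • c = c := by
  haveI : Finite (orbit (stabilizer G a) b) := Nat.finite_of_card_ne_zero (by rw [h3]; decide)
  let e : orbit (stabilizer G a) b ≃ Fin 3 := Finite.equivFinOfCardEq h3
  let σ : Equiv.Perm (orbit (stabilizer G a) b) := MulAction.toPerm (⟨x, hxa⟩ : stabilizer G a)
  have h1 : σ = 1 := by
    refine perm_fix e σ ⟨b, mem_orbit_self b⟩ ?_ hn ?_
    · exact Subtype.ext (mem_stabilizer_iff.1 hxb)
    · have : σ ^ n = MulAction.toPermHom (stabilizer G a) (orbit (stabilizer G a) b) ((⟨x, hxa⟩ : stabilizer G a) ^ n) := by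
        rw [map_pow]; rfl
      rw [this]
      have h2 : (⟨x, hxa⟩ : stabilizer G a) ^ n = 1 := Subtype.ext (by simpa using hx)
      rw [h2, map_one]
  have h2 : σ ⟨c, hc⟩ = ⟨c, hc⟩ := by rw [h1]; rfl
  exact congrArg Subtype.val h2

/-- the subgroup generated by the elements of odd order of `G_{ab}` -/
def oddGen (G : Type*) {Ω : Type*} [Group G] [MulAction G Ω] (a b : Ω) : Subgroup G :=
  Subgroup.closure {x : G | x ∈ stabilizer G a ∧ x ∈ stabilizer G b ∧ ∃ n, Odd n ∧ x ^ n = 1}

theorem oddGen_norm {a b : Ω} (h3 : Nat.card (orbit (stabilizer G a) b) = 3) :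
    stabilizer G a ≤ Subgroup.normalizer (oddGen G a b : Set G) := by
  have key : ∀ h ∈ stabilizer G a, ∀ x ∈ oddGen G a b, h * x * h⁻¹ ∈ oddGen G a b := by
    intro h hh x hx
    have hle : oddGen G a b ≤ (oddGen G a b).comap (MulAut.conj h).toMonoidHom := by
      refine (Subgroup.closure_le _).2 ?_
      rintro y ⟨hya, hyb, n, hn, hyn⟩
      refine Subgroup.subset_closure ⟨mul_mem (mul_mem hh hya) (inv_mem hh), ?_, n, hn, ?_⟩
      · show (h * y * h⁻¹) • b = b
        have h1 : h⁻¹ • b ∈ orbit (stabilizer G a) b := ⟨⟨h⁻¹, inv_mem hh⟩, rfl⟩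
        rw [mul_smul, mul_smul, odd_fix h3 hya hyb hn hyn h1, smul_inv_smul]
      · show (h * y * h⁻¹) ^ n = 1
        rw [conj_pow, hyn, mul_one, mul_inv_cancel]
    exact hle hx
  intro h hh
  rw [Subgroup.mem_normalizer_iff]
  intro x
  refine ⟨key h hh x, fun hx => ?_⟩
  have := key h⁻¹ (inv_mem hh) _ hx
  have e : h⁻¹ * (h * x * h⁻¹) * h⁻¹⁻¹ = x := by group
  rwa [e] at this

theorem oddGen_comm (a b : Ω) : oddGen G a b = oddGen G b a := by
  unfold oddGen
  congr 1
  ext x
  constructor
  · rintro ⟨h1, h2, h3⟩; exact ⟨h2, h1, h3⟩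
  · rintro ⟨h1, h2, h3⟩; exact ⟨h2, h1, h3⟩

theorem card_orbit_mul (a b : Ω) : Nat.card (orbit (stabilizer G a) b) *
    Nat.card (stabilizer G a ⊓ stabilizer G b : Subgroup G) = Nat.card (stabilizer G a) := by
  have h1 := Nat.card_congr (orbitEquivQuotientStabilizer (stabilizer G a) b)
  have h2 : (stabilizer (stabilizer G a) b) = (stabilizer G b).subgroupOf (stabilizer G a) := by
    ext x; rfl
  have h3 := Subgroup.card_eq_card_quotient_mul_card_subgroup (stabilizer (stabilizer G a) b)
  rw [h1]
  have h4 : Nat.card (stabilizer (stabilizer G a) b) = Nat.card (stabilizer G a ⊓ stabilizer G b : Subgroup G) := by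
    rw [h2, inf_comm, ← Subgroup.inf_subgroupOf_right]
    exact Nat.card_congr (Subgroup.subgroupOfEquivOfLe inf_le_right).toEquiv
  rw [← h4, ← h3]


theorem ne_of_card {a b : Ω} (h3 : Nat.card (orbit (stabilizer G a) b) = 3) : a ≠ b := by
  rintro rfl
  have : orbit (stabilizer G a) a = {a} := by
    ext c
    constructor
    · rintro ⟨h, rfl⟩; exact h.2
    · rintro rfl; exact mem_orbit_self _
  rw [this] at h3
  simp at h3

theorem stab_ne_bot {a b : Ω} (h3 : Nat.card (orbit (stabilizer G a) b) = 3) : stabilizer G a ≠ ⊥ := by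
  intro h
  have := card_orbit_mul (G := G) a b
  rw [h3, h, Subgroup.card_bot] at this
  omega

theorem symm3 [IsPretransitive G Ω] {a b : Ω} (h3 : Nat.card (orbit (stabilizer G a) b) = 3) :
    Nat.card (orbit (stabilizer G b) a) = 3 := by
  have h1 := card_orbit_mul (G := G) a b
  have h2 := card_orbit_mul (G := G) b a
  rw [inf_comm, card_stab_eq b a, ← h1, h3] at h2
  exact Nat.eq_of_mul_eq_mul_right Nat.card_pos h2

/-- the two-point stabilizer is a 2-group. -/
theorem isTwoGroup [hprim : IsPreprimitive G Ω] {a b : Ω}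
    (h3 : Nat.card (orbit (stabilizer G a) b) = 3) :
    IsPGroup 2 (stabilizer G a ⊓ stabilizer G b : Subgroup G) := by
  have hab := ne_of_card h3
  have hb : oddGen G a b = ⊥ := by
    refine eq_bot_of_norm hab (stab_ne_bot h3) _ ?_ (oddGen_norm h3) ?_
    · refine (Subgroup.closure_le _).2 ?_
      rintro x ⟨hx, -⟩; exact hx
    · rw [oddGen_comm]
      exact oddGen_norm (symm3 h3)
  rintro ⟨x, hxa, hxb⟩
  obtain ⟨k, m, hm, hn⟩ := Nat.exists_eq_two_pow_mul_odd (orderOf_pos x).ne'
  refine ⟨k, Subtype.ext ?_⟩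
  show x ^ 2 ^ k = 1
  have : x ^ 2 ^ k ∈ oddGen G a b := Subgroup.subset_closure
    ⟨pow_mem hxa _, pow_mem hxb _, m, hm, by rw [← pow_mul, ← hn, pow_orderOf_eq_one]⟩
  rwa [hb, Subgroup.mem_bot] at this

theorem relIndex3 {a b : Ω} (h3 : Nat.card (orbit (stabilizer G a) b) = 3) :
    (stabilizer G a ⊓ stabilizer G b).relIndex (stabilizer G a) = 3 := by
  have h1 := card_orbit_mul (G := G) a b
  have h2 := Subgroup.relIndex_mul_relIndex ⊥ (stabilizer G a ⊓ stabilizer G b) (stabilizer G a) bot_le inf_le_left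
  rw [Subgroup.relIndex_bot_left, Subgroup.relIndex_bot_left, mul_comm, ← h1, h3] at h2
  exact Nat.eq_of_mul_eq_mul_right Nat.card_pos h2

/-- an element normalizing `G_{ab}` and taking `a` to `b`. -/
theorem exists_norm [hprim : IsPreprimitive G Ω] {a b : Ω}
    (h3 : Nat.card (orbit (stabilizer G a) b) = 3) :
    ∃ y : G, MulAut.conj y • (stabilizer G a ⊓ stabilizer G b) = stabilizer G a ⊓ stabilizer G b ∧ y • a = b := by
  obtain ⟨g, hg⟩ := exists_smul_eq G a b
  set T := stabilizer G a ⊓ stabilizer G b with hT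
  have hT2 : IsPGroup 2 T := isTwoGroup h3
  have hTb : T.relIndex (stabilizer G b) = 3 := by
    have := relIndex3 (symm3 h3)
    rwa [inf_comm] at this
  haveI : Fact (Nat.Prime 2) := ⟨Nat.prime_two⟩
  have hD : T.map (MulAut.conj g).toMonoidHom ≤ stabilizer G b := by
    have h1 : MulAut.conj g • stabilizer G a = stabilizer G b := by rw [conj_stab, hg]
    rw [← h1]
    exact Subgroup.map_mono inf_le_left
  obtain ⟨n, hn, hle⟩ := Cfsg.Agent.Lib.GoldschmidtFusion.exists_conj_le_in (N := stabilizer G b) (R := T)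
    (D := T.map (MulAut.conj g).toMonoidHom) hT2 (by rw [hTb]; decide) hD (hT2.map _)
  refine ⟨n * g, ?_, by rw [mul_smul, hg]; exact hn⟩
  have hle' : MulAut.conj (n * g) • T ≤ T := by
    rw [map_mul, mul_smul]
    exact hle
  exact Subgroup.eq_of_le_of_card_ge hle' (le_of_eq (Nat.card_congr (Subgroup.equivSMul (MulAut.conj (n * g)) T).toEquiv))

end Cfsg.Agent.H428.Sub3
end

-- part: S3685
section
set_option autoImplicit false
set_option linter.style.haveILetI false
open Cfsg

namespace Cfsg.Agent.S3685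

open MulAction Pointwise Cfsg.Agent.H428.Sub3

/-- a nonabelian group of order 12 with a normal subgroup of order 2 and a normal subgroup with quotient `C₂ × C₂` -/
theorem order12 {K : Type*} [Group K] [Finite K] (h12 : Nat.card K = 12) (O : Subgroup K) [O.Normal]
    (he : Nonempty (K ⧸ O ≃* Multiplicative (ZMod 2) × Multiplicative (ZMod 2)))
    (T : Subgroup K) (hT4 : Nat.card T = 4) (hTn : ¬ T.Normal) (Q : Subgroup K) (hQ : Q.Normal)
    (hQ2 : Nat.card Q = 2) : Nonempty (K ≃* DihedralGroup 6) := by
  classical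
  obtain ⟨e⟩ := he
  have hO : Nat.card O = 3 := by
    have h1 := Subgroup.card_eq_card_quotient_mul_card_subgroup O
    rw [Nat.card_congr e.toEquiv, h12] at h1
    have h2 : Nat.card (Multiplicative (ZMod 2) × Multiplicative (ZMod 2)) = 4 := by
      rw [Nat.card_prod]
      simp
    rw [h2] at h1
    omega
  -- squares are in `O`
  have hsq : ∀ y : K, y * y ∈ O := by
    intro y
    rw [← QuotientGroup.eq_one_iff]
    apply e.injective
    rw [map_one, QuotientGroup.mk_mul, map_mul]
    have h : ∀ u : Multiplicative (ZMod 2) × Multiplicative (ZMod 2), u * u = 1 := by decide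
    exact h _
  haveI : Fact (Nat.Prime 3) := ⟨Nat.prime_three⟩
  obtain ⟨⟨x, hxO⟩, hx⟩ := exists_prime_orderOf_dvd_card' (G := O) 3 (by rw [hO])
  have hx3 : orderOf x = 3 := by rw [← hx]; exact Subgroup.orderOf_mk x hxO ▸ rfl
  have hOx : O = Subgroup.zpowers x := by
    symm
    refine Subgroup.eq_of_le_of_card_ge ?_ ?_
    · rw [Subgroup.zpowers_le]; exact hxO
    · rw [Nat.card_zpowers, hx3, hO]
  -- the involution `q`
  haveI : Fact (Nat.Prime 2) := ⟨Nat.prime_two⟩
  obtain ⟨⟨q, hqQ⟩, hq⟩ := exists_prime_orderOf_dvd_card' (G := Q) 2 (by rw [hQ2])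
  have hq2 : orderOf q = 2 := by rw [← hq]; exact Subgroup.orderOf_mk q hqQ ▸ rfl
  have hQq : ∀ y ∈ Q, y ≠ 1 → y = q := by
    intro y hy hy1
    have h1 : Q = Subgroup.zpowers q := by
      symm
      refine Subgroup.eq_of_le_of_card_ge ?_ ?_
      · rw [Subgroup.zpowers_le]; exact hqQ
      · rw [Nat.card_zpowers, hq2, hQ2]
    rw [h1] at hy
    obtain ⟨k, hk⟩ := mem_zpowers_iff_mem_range_orderOf.1 hy |> Finset.mem_image.1
    rw [hq2, Finset.mem_range] at hk
    obtain ⟨hk1, hk2⟩ := hk
    interval_cases k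
    · exact absurd hk2.symm (by simpa using hy1)
    · simpa using hk2.symm
  have hqne : q ≠ 1 := by
    intro h; rw [h, orderOf_one] at hq2; omega
  have hqc : ∀ y : K, y * q = q * y := by
    intro y
    have h1 : y * q * y⁻¹ = q := by
      refine hQq _ (hQ.conj_mem _ hqQ y) ?_
      intro h
      rw [mul_inv_eq_one] at h
      exact hqne (mul_eq_left.1 h)
    rw [mul_inv_eq_iff_eq_mul] at h1
    exact h1
  have hqq : q * q = 1 := by
    have := pow_orderOf_eq_one q
    rwa [hq2, pow_two] at this
  have hx33 : x * x * x = 1 := by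
    have := pow_orderOf_eq_one x
    rwa [hx3, pow_succ, pow_two] at this
  -- an element of `T` not centralizing `x`
  obtain ⟨t, htT, htx⟩ : ∃ t ∈ T, t * x * t⁻¹ ≠ x := by
    by_contra hcon
    push Not at hcon
    apply hTn
    rw [← Subgroup.normalizer_eq_top_iff]
    have h1 : T ≤ Subgroup.normalizer (T : Set K) := Subgroup.le_normalizer
    have h2 : x ∈ Subgroup.normalizer (T : Set K) := by
      rw [Subgroup.mem_normalizer_iff]
      have h3 : ∀ t ∈ T, x * t * x⁻¹ = t := by
        intro t ht
        have := hcon t ht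
        rw [mul_inv_eq_iff_eq_mul] at this ⊢
        exact this.symm
      intro h
      constructor
      · intro hh; rw [h3 h hh]; exact hh
      · intro hh
        have h4 := h3 _ hh
        have h5 : x * h * x⁻¹ = h := by
          have h6 : x * (x * h * x⁻¹) * x⁻¹ = x * h * x⁻¹ := h4
          exact mul_left_cancel (mul_right_cancel h6)
        rwa [h5] at hh
    have hd1 : 4 ∣ Nat.card (Subgroup.normalizer (T : Set K)) := by
      rw [← hT4]; exact Subgroup.card_dvd_of_le h1
    have hd2 : 3 ∣ Nat.card (Subgroup.normalizer (T : Set K)) := by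
      rw [← hx3, ← Nat.card_zpowers]; exact Subgroup.card_dvd_of_le (by rwa [Subgroup.zpowers_le])
    have hd3 : 12 ∣ Nat.card (Subgroup.normalizer (T : Set K)) :=
      Nat.Coprime.mul_dvd_of_dvd_of_dvd (by decide : Nat.Coprime 4 3) hd1 hd2
    exact Subgroup.eq_top_of_le_card _ (by rw [h12]; exact Nat.le_of_dvd Nat.card_pos hd3)
  have htxi : t * x * t⁻¹ = x⁻¹ := by
    have h1 : t * x * t⁻¹ ∈ O := (inferInstance : O.Normal).conj_mem _ hxO t
    rw [hOx] at h1
    obtain ⟨k, hk⟩ := mem_zpowers_iff_mem_range_orderOf.1 h1 |> Finset.mem_image.1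
    rw [hx3, Finset.mem_range] at hk
    obtain ⟨hk1, hk2⟩ := hk
    interval_cases k
    · exfalso
      rw [pow_zero, eq_comm, mul_inv_eq_one] at hk2
      have h2 : x = 1 := mul_eq_left.1 hk2
      rw [h2, orderOf_one] at hx3; omega
    · exact absurd (by rw [← hk2, pow_one]) htx
    · rw [← hk2, pow_two]
      exact eq_inv_of_mul_eq_one_left hx33
  have htt : t * t = 1 := by
    have h1 : t * t ∈ O := hsq t
    have h2 : t * t ∈ T := mul_mem htT htT
    have h3 : O ⊓ T = ⊥ := by
      refine (Subgroup.disjoint_of_coprime_natCard ?_).eq_bot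
      rw [hO, hT4]; decide
    have : t * t ∈ O ⊓ T := ⟨h1, h2⟩
    rwa [h3, Subgroup.mem_bot] at this
  have hρ : orderOf (x * q) = 6 := by
    have hc : Commute x q := hqc x
    rw [hc.orderOf_mul_eq_mul_orderOf_of_coprime (by rw [hx3, hq2]; decide), hx3, hq2]
  have h1 : t * (x * q) * t⁻¹ = (x * q)⁻¹ := by
    have h2 : t * q * t⁻¹ = q := by rw [hqc t]; group
    have h3 : q⁻¹ = q := inv_eq_of_mul_eq_one_left hqq
    calc t * (x * q) * t⁻¹ = (t * x * t⁻¹) * (t * q * t⁻¹) := by group
      _ = x⁻¹ * q := by rw [htxi, h2]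
      _ = (x * q)⁻¹ := by rw [mul_inv_rev, h3, hqc]
  have h2 : t ∉ Subgroup.zpowers (x * q) := by
    intro h
    have h3 : Subgroup.zpowers (x * q) ≤ Subgroup.centralizer ({x} : Set K) := by
      rw [Subgroup.zpowers_le, Subgroup.mem_centralizer_singleton_iff]
      rw [mul_assoc, ← hqc, ← mul_assoc]
    have h4 := Subgroup.mem_centralizer_singleton_iff.1 (h3 h)
    apply htx
    rw [mul_inv_eq_iff_eq_mul]
    exact h4
  obtain ⟨f⟩ := Cfsg.Agent.SignalizersComponents.DihedralIso.nonempty_mulEquiv_of_notMem t (x * q) htt h1 h2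
  rw [hρ] at f
  have h3 : Nat.card (Subgroup.zpowers t ⊔ Subgroup.zpowers (x * q) : Subgroup K) = 12 := by
    rw [Nat.card_congr f.toEquiv, DihedralGroup.nat_card]
  have h4 : (Subgroup.zpowers t ⊔ Subgroup.zpowers (x * q) : Subgroup K) = ⊤ :=
    Subgroup.eq_top_of_card_eq _ (by rw [h3, h12])
  exact ⟨(Subgroup.topEquiv.symm.trans (MulEquiv.subgroupCongr h4.symm)).trans f⟩

/-- Let a finite group G act faithfully and primitively on a set Ω, and suppose the stabilizer of a point a has an orbit of length 3. Then the stabilizer of a is isomorphic to one of: the cyclic group of order 3, the symmetric group of degree 3, the dihedral group of order 12, the symmetric group of degree 4, or the direct product of the symmetric group of degree 4 with a group of order 2. -/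
theorem result {G Ω : Type*} [Group G] [Finite G] [MulAction G Ω] [FaithfulSMul G Ω] [Finite Ω]
    (hprim : MulAction.IsPreprimitive G Ω) (a b : Ω) (h3 : Nat.card (MulAction.orbit (MulAction.stabilizer G a) b) = 3) :
    Nonempty (MulAction.stabilizer G a ≃* Multiplicative (ZMod 3)) ∨ Nonempty (MulAction.stabilizer G a ≃* Equiv.Perm (Fin 3)) ∨
      Nonempty (MulAction.stabilizer G a ≃* DihedralGroup 6) ∨ Nonempty (MulAction.stabilizer G a ≃* Equiv.Perm (Fin 4)) ∨
      Nonempty (MulAction.stabilizer G a ≃* Equiv.Perm (Fin 4) × Multiplicative (ZMod 2)) := by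
  have hab := ne_of_card h3
  have hne := stab_ne_bot h3
  have hT2 := isTwoGroup h3
  have h3i := relIndex3 h3
  have hcard := card_orbit_mul (G := G) a b
  obtain ⟨y, hyT, hya⟩ := exists_norm h3
  rw [h3] at hcard
  set H := stabilizer G a with hH
  set T := H ⊓ stabilizer G b with hT
  by_cases hn : H ≤ Subgroup.normalizer (T : Set G)
  · -- `T` is normal in `G_a` and `G_b`
    left
    have hTb : T = ⊥ := by
      refine eq_bot_of_norm hab hne T inf_le_left hn ?_
      intro z hz
      have h1 : y⁻¹ * z * y ∈ H := by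
        rw [hH, mem_stabilizer_iff, mul_smul, mul_smul, hya, mem_stabilizer_iff.1 hz, ← hya, inv_smul_smul]
      have h2 := hn h1
      have hy : y ∈ Subgroup.normalizer (T : Set G) := by
        rw [Subgroup.mem_normalizer_iff]
        intro x
        constructor
        · intro hx
          rw [← hyT]; exact ⟨x, hx, rfl⟩
        · intro hx
          rw [← hyT] at hx
          obtain ⟨x', hx', he⟩ := hx
          have he' : y * x' * y⁻¹ = y * x * y⁻¹ := he
          rw [← mul_left_cancel (mul_right_cancel he')]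
          exact hx'
      have h3 : z = y * (y⁻¹ * z * y) * y⁻¹ := by group
      rw [h3]
      exact mul_mem (mul_mem hy h2) (inv_mem hy)
    have h4 : Nat.card H = 3 := by rw [← hcard, hTb, Subgroup.card_bot]
    haveI : Fact (Nat.Prime 3) := ⟨Nat.prime_three⟩
    exact ⟨mulEquivOfPrimeCardEq h4 (by simp)⟩
  · right
    obtain ⟨k, hk, hkn⟩ := SetLike.not_le_iff_exists.1 hn
    have hkT : MulAut.conj k • T ≠ T := by
      intro h
      apply hkn
      rw [Subgroup.mem_normalizer_iff]
      intro x
      constructor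
      · intro hx
        rw [← h]; exact ⟨x, hx, rfl⟩
      · intro hx
        rw [← h] at hx
        obtain ⟨x', hx', he⟩ := hx
        have he' : k * x' * k⁻¹ = k * x * k⁻¹ := he
        rw [← mul_left_cancel (mul_right_cancel he')]
        exact hx'
    have hkH : MulAut.conj k • H = H := by
      rw [hH, conj_stab, mem_stabilizer_iff.1 hk]
    have hkTH : MulAut.conj k • T ≤ H := by
      rw [← hkH]
      exact Subgroup.pointwise_smul_le_pointwise_smul_iff.2 inf_le_left
    have hgT : MulAut.conj (k * y) • T = MulAut.conj k • T := by rw [map_mul, mul_smul, hyT]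
    have hTH : T ≤ H := inf_le_left
    -- not normal
    have hTn : ¬ (T.subgroupOf H).Normal := by
      intro h
      exact hn (Subgroup.normal_subgroupOf_iff_le_normalizer hTH |>.1 h)
    have hsub : ∀ {A B : Subgroup G}, A ≤ B → B.relIndex H ∣ A.relIndex H := fun h => Subgroup.relIndex_dvd_of_le_left H h
    have hkTi : (MulAut.conj k • T).relIndex H = 3 := by
      have h1 := Subgroup.relIndex_pointwise_smul (MulAut.conj k) T H
      rw [hkH] at h1
      rw [h1, h3i]
    have hcardk : Nat.card (MulAut.conj k • T : Subgroup G) = Nat.card T :=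
      (Nat.card_congr (Subgroup.equivSMul (MulAut.conj k) T).toEquiv).symm
    have hjoin : H = T ⊔ MulAut.conj (k * y) • T := by
      rw [hgT]
      refine le_antisymm ?_ (sup_le hTH hkTH)
      have h1 : (T ⊔ MulAut.conj k • T).relIndex H ∣ 3 := h3i ▸ hsub le_sup_left
      rcases (Nat.dvd_prime Nat.prime_three).1 h1 with h2 | h2
      · exact Subgroup.relIndex_eq_one.1 h2
      · exfalso
        apply hkT
        have h4 : T = T ⊔ MulAut.conj k • T := by
          have h5 := Subgroup.relIndex_mul_relIndex T (T ⊔ MulAut.conj k • T) H le_sup_left (sup_le hTH hkTH)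
          rw [h2, h3i] at h5
          have h6 : T.relIndex (T ⊔ MulAut.conj k • T) = 1 := by omega
          exact le_antisymm le_sup_left (Subgroup.relIndex_eq_one.1 h6)
        refine Subgroup.eq_of_le_of_card_ge ?_ hcardk.ge
        exact le_sup_right.trans (le_of_eq h4.symm)
    have h2 : (MulAut.conj (k * y) • T).relIndex T = 2 := by
      rw [hgT]
      have h1 : (MulAut.conj k • T).relIndex T ≤ 3 := by
        rw [← hkTi]
        exact Subgroup.relIndex_le_of_le_right hTH (by rw [hkTi]; decide)
      obtain ⟨n, hn⟩ := IsPGroup.index ((isTwoGroup h3)) ((MulAut.conj k • T).subgroupOf T)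
      have hn' : (MulAut.conj k • T).relIndex T = 2 ^ n := hn
      rw [hn'] at h1 ⊢
      rcases n with _ | _ | n
      · exfalso
        apply hkT
        rw [pow_zero] at hn'
        have h4 := Subgroup.relIndex_eq_one.1 hn'
        exact (Subgroup.eq_of_le_of_card_ge h4 hcardk.le).symm
      · rfl
      · exfalso
        have h5 : 1 ≤ 2 ^ n := Nat.one_le_two_pow
        rw [pow_add] at h1
        omega
    have hfin := Cfsg.Agent.H581.Sims.final T (k * y) H hjoin h2 (by
      intro X hX h4 h5
      have h6 : MulAut.conj (k * y) • H = stabilizer G (k • b) := by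
        rw [hH, conj_stab, mul_smul, hya]
      rw [h6] at h5
      have h7 : a ≠ k • b := by
        intro h
        apply hab
        have : k • a = k • b := by rw [← h]; exact hk
        exact smul_left_cancel k this
      exact eq_bot_of_norm h7 hne X (hX.trans inf_le_left) h4 h5) (by rw [h3i]; decide)
    -- the action on the suborbit
    haveI : Finite (orbit H b) := Nat.finite_of_card_ne_zero (by rw [h3]; decide)
    let f : H →* Equiv.Perm (orbit H b) := MulAction.toPermHom H (orbit H b)
    have hker : f.ker ≤ T.subgroupOf H := by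
      intro x hx
      rw [Subgroup.mem_subgroupOf]
      refine ⟨x.2, ?_⟩
      rw [MonoidHom.mem_ker] at hx
      have h4 : f x ⟨b, mem_orbit_self b⟩ = ⟨b, mem_orbit_self b⟩ := by rw [hx]; rfl
      exact congrArg Subtype.val h4
    have hkerne : f.ker ≠ T.subgroupOf H := fun h => hTn (h ▸ inferInstance)
    have hTc : Nat.card (T.subgroupOf H) = Nat.card T := Nat.card_congr (Subgroup.subgroupOfEquivOfLe hTH).toEquiv
    have hkd : Nat.card f.ker ∣ Nat.card T := hTc ▸ Subgroup.card_dvd_of_le hker
    have hkl : Nat.card f.ker ≠ Nat.card T := by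
      intro h
      exact hkerne (Subgroup.eq_of_le_of_card_ge hker (by rw [hTc, h]))
    have hperm : Nat.card (Equiv.Perm (orbit H b)) = 6 := by
      haveI := Fintype.ofFinite (orbit H b)
      classical
      rw [Nat.card_eq_fintype_card, Fintype.card_perm, ← Nat.card_eq_fintype_card, h3]; rfl
    have hrange : Nat.card f.range * Nat.card f.ker = Nat.card H := by
      rw [← Subgroup.index_ker, Subgroup.index_mul_card]
    have hrd : Nat.card f.range ∣ 6 := hperm ▸ Subgroup.card_subgroup_dvd_card _
    rcases hfin with h4 | ⟨h4, he⟩ | ⟨h4, he⟩ | ⟨h4, he⟩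
    · left
      have h5 : Nat.card f.ker = 1 := by
        rw [h4] at hkd hkl
        rcases (Nat.dvd_prime Nat.prime_two).1 hkd with h | h
        · exact h
        · exact absurd h hkl
      have hinj : Function.Injective f := by
        rw [← MonoidHom.ker_eq_bot_iff]
        exact Subgroup.card_eq_one.1 h5
      have hbij : Function.Bijective f :=
        (Nat.bijective_iff_injective_and_card f).2 ⟨hinj, by rw [hperm, ← hcard, h4]⟩
      let e : orbit H b ≃ Fin 3 := Finite.equivFinOfCardEq h3
      exact ⟨(MulEquiv.ofBijective f hbij).trans e.permCongrHom⟩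
    · right; left
      have h12 : Nat.card H = 12 := by rw [← hcard, h4]
      refine order12 h12 (Cfsg.oddCore H) he (T.subgroupOf H) (by rw [hTc, h4]) hTn f.ker inferInstance ?_
      rw [h4] at hkd hkl
      rw [h12] at hrange
      have h5 : Nat.card f.range ≤ 6 := Nat.le_of_dvd (by decide) hrd
      have h6 : Nat.card f.ker ≤ 4 := Nat.le_of_dvd (by decide) hkd
      have h7 : 0 < Nat.card f.ker := Nat.card_pos
      interval_cases h : Nat.card f.ker
      · omega
      · rfl
      · omega
      · exact absurd rfl hkl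
    · right; right; left
      obtain ⟨e⟩ := he
      have h5 : Nat.card (Cfsg.oddCore H) = 1 := by
        have h6 := Subgroup.card_eq_card_quotient_mul_card_subgroup (Cfsg.oddCore H)
        rw [Nat.card_congr e.toEquiv, ← hcard, h4] at h6
        have h7 : Nat.card (Equiv.Perm (Fin 4)) = 24 := by
          rw [Nat.card_eq_fintype_card, Fintype.card_perm]; rfl
        rw [h7] at h6
        omega
      have h6 : Cfsg.oddCore H = ⊥ := Subgroup.card_eq_one.1 h5
      exact ⟨QuotientGroup.quotientBot.symm.trans ((QuotientGroup.quotientMulEquivOfEq h6.symm).trans e)⟩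
    · right; right; right
      obtain ⟨e⟩ := he
      have h5 : Nat.card (Cfsg.oddCore H) = 1 := by
        have h6 := Subgroup.card_eq_card_quotient_mul_card_subgroup (Cfsg.oddCore H)
        rw [Nat.card_congr e.toEquiv, ← hcard, h4] at h6
        have h7 : Nat.card (Equiv.Perm (Fin 4) × Multiplicative (ZMod 2)) = 48 := by
          rw [Nat.card_prod, Nat.card_eq_fintype_card, Fintype.card_perm]
          simp [Nat.factorial]
        rw [h7] at h6
        omega
      have h6 : Cfsg.oddCore H = ⊥ := Subgroup.card_eq_one.1 h5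
      exact ⟨QuotientGroup.quotientBot.symm.trans ((QuotientGroup.quotientMulEquivOfEq h6.symm).trans e)⟩

end Cfsg.Agent.S3685
end
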