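import Cfsg.Agent.H129.WForm
import Cfsg.Statements.S2376
import Cfsg.Agent.H129.TriD4
import Cfsg.Agent.H129.UntwData
import Cfsg.Agent.ChevalleyStructure.WeylData
set_option linter.all false

-- part: H129/StabTab
section
/-!
# Reflection subgroups given by a table of matrices (helper129)
-/

set_option autoImplicit false
set_option linter.unusedSectionVars false

namespace Cfsg.Agent.H129.StabTab

open CoxeterSystem Cfsg Cfsg.Lie Cfsg.Lie.ChevalleyDatum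
open Cfsg.Agent.ChevalleyStructure Cfsg.Agent.ChevalleyStructure.CoxeterGeom
  Cfsg.Agent.ChevalleyStructure.CoxeterGeomTypes
open Cfsg.Agent.Tits.Roots Cfsg.Agent.Tits.Core Cfsg.Agent.Nodes Cfsg.Agent.Nodes.Reps Cfsg.Agent.Nodes.BNOf
  Cfsg.Agent.Nodes.RGDChev Cfsg.Agent.Nodes.Bruhat Cfsg.Agent.Nodes.SubComb Cfsg.Agent.Nodes.Coroot
open Cfsg.Agent.H129.TorusChar Cfsg.Agent.H129.TorusCent Cfsg.Agent.H129.TorusTw Cfsg.Agent.H129.TorusMain
  Cfsg.Agent.H129.WData Cfsg.Agent.H129.WForm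

variable {D : ChevalleyDatum} {l : ℕ} {M : CoxeterMatrix (Fin l)} (hp : IsType D l M)
  {W : Type*} [Group W] (cs : CoxeterSystem M W)

/-- the matrices form a group -/
def GrpOK {l n : ℕ} (U : Fin n → Mat l) : Prop :=
  (∃ i, ∀ a m, U i a m = if a = m then 1 else 0) ∧
  (∀ i j, ∃ k, ∀ a m, U k a m = ∑ b, U j a b * U i b m) ∧
  (∀ i, ∃ j, ∀ a m, ∑ b, U j a b * U i b m = if a = m then 1 else 0)

instance decGrpOK {l n : ℕ} (U : Fin n → Mat l) : Decidable (GrpOK U) := by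
  unfold GrpOK; infer_instance

/-- The linear map of a Weyl group element on a vector. -/
theorem rep_eq {w : W} {T : Mat l} (h : ∀ a, rep cs hp.isCartan w (sr a) = T a) (x : Fin l → ℤ) :
    rep cs hp.isCartan w x = ∑ b, x b • T b := by
  conv_lhs => rw [IsMC.eq_sum_sr x]
  rw [map_sum]
  refine Finset.sum_congr rfl fun j _ => ?_
  rw [map_zsmul, h j]

/-- The elements of `W` acting by one of the matrices. -/
def tabV {n : ℕ} {U : Fin n → Mat l} (hU : GrpOK U) : Subgroup W where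
  carrier := {w | ∃ i, ∀ a, rep cs hp.isCartan w (sr a) = U i a}
  one_mem' := by
    obtain ⟨i, hi⟩ := hU.1
    refine ⟨i, fun a => ?_⟩
    rw [map_one, Module.End.one_apply]
    funext m
    rw [hi]
    by_cases hm : a = m
    · subst hm; rw [if_pos rfl, sr_self]
    · rw [if_neg hm, sr_ne (Ne.symm hm)]
  mul_mem' := by
    rintro v w ⟨i, hi⟩ ⟨j, hj⟩
    obtain ⟨k, hk⟩ := hU.2.1 i j
    refine ⟨k, fun a => ?_⟩
    rw [rep_mul_apply, hj, rep_eq hp cs hi]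
    funext m
    rw [hk, Finset.sum_apply]
    exact Finset.sum_congr rfl fun b _ => by rw [Pi.smul_apply, smul_eq_mul]
  inv_mem' := by
    rintro w ⟨i, hi⟩
    obtain ⟨j, hj⟩ := hU.2.2 i
    refine ⟨j, fun a => ?_⟩
    have h1 : rep cs hp.isCartan w (U j a) = sr a := by
      rw [rep_eq hp cs hi]
      funext m
      rw [Finset.sum_apply]
      have e : ∑ b, (U j a b • U i b) m = ∑ b, U j a b * U i b m :=
        Finset.sum_congr rfl fun b _ => by rw [Pi.smul_apply, smul_eq_mul]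
      rw [e, hj]
      by_cases hm : a = m
      · subst hm; rw [if_pos rfl, sr_self]
      · rw [if_neg hm, sr_ne (Ne.symm hm)]
    rw [← h1, rep_inv_apply]

theorem mem_tabV {n : ℕ} {U : Fin n → Mat l} (hU : GrpOK U) {w : W} :
    w ∈ tabV hp cs hU ↔ ∃ i, ∀ a, rep cs hp.isCartan w (sr a) = U i a := Iff.rfl

/-- the matrices contain the reflections in the vectors `S s` -/
def ReflOK {l n m : ℕ} (A : Mat l) (U : Fin n → Mat l) (S : Fin m → Fin l → ℤ) : Prop :=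
  ∀ s, ∃ i, ∀ j a, U i j a = (if j = a then 1 else 0) - (∑ b, S s b * A b j) * S s a

instance decReflOK {l n m : ℕ} (A : Mat l) (U : Fin n → Mat l) (S : Fin m → Fin l → ℤ) :
    Decidable (ReflOK A U S) := by
  unfold ReflOK; infer_instance

theorem refl_mem [Finite W] {A : Mat l} (hA : ∀ i j, A i j = cartanOf D l i j) {i0 : Fin l} {dep : Fin l → ℕ}
    (hd : ConnOK A i0 dep) {n m : ℕ} {U : Fin n → Mat l} (hU : GrpOK U) {S : Fin m → Fin l → ℤ}
    (hR : ReflOK A U S) {s : Fin m} (hs : IsRoot cs hp.isCartan (S s)) :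
    ∃ v i, S s = rep cs hp.isCartan v (sr i) ∧ rfl' cs v i ∈ tabV hp cs hU := by
  obtain ⟨v, i, e⟩ := id hs
  obtain ⟨i', hi'⟩ := hR s
  refine ⟨v, i, e, i', fun j => ?_⟩
  rw [rep_rfl'_eq, ← e, cpr_eq hp cs hA hd _ hs]
  funext a
  rw [hi', Pi.sub_apply, Pi.smul_apply, smul_eq_mul]
  have e1 : ∑ i, S s i * ∑ j', A i j' * (sr j : Fin l → ℤ) j' = ∑ b, S s b * A b j := by
    refine Finset.sum_congr rfl fun b _ => ?_
    rw [Finset.sum_eq_single j]
    · rw [sr_self, mul_one]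
    · intro c _ hc
      rw [sr_ne hc, mul_zero]
    · intro hj
      exact absurd (Finset.mem_univ j) hj
  rw [e1]
  by_cases hja : j = a
  · subst hja; rw [if_pos rfl, sr_self]
  · rw [if_neg hja, sr_ne (Ne.symm hja)]

/-- the matrices are the identity modulo the span of the `S s` -/
def SpanOK {l n m : ℕ} (U : Fin n → Mat l) (S : Fin m → Fin l → ℤ) (C : Fin n → Fin l → Fin m → ℤ) : Prop :=
  ∀ i j a, U i j a - (if j = a then 1 else 0) = ∑ s, C i j s * S s a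

instance decSpanOK {l n m : ℕ} (U : Fin n → Mat l) (S : Fin m → Fin l → ℤ) (C : Fin n → Fin l → Fin m → ℤ) :
    Decidable (SpanOK U S C) := by
  unfold SpanOK; infer_instance

theorem sub_mem {n m : ℕ} {U : Fin n → Mat l} (hU : GrpOK U) {S : Fin m → Fin l → ℤ}
    {C : Fin n → Fin l → Fin m → ℤ} (hC : SpanOK U S C) {X : Set (Fin l → ℤ)} (hX : ∀ s, S s ∈ X) {v : W}
    (hv : v ∈ tabV hp cs hU) (x : Fin l → ℤ) : rep cs hp.isCartan v x - x ∈ AddSubgroup.closure X := by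
  obtain ⟨i, hi⟩ := hv
  have h1 : ∀ j, U i j - sr j ∈ AddSubgroup.closure X := by
    intro j
    have e : U i j - sr j = ∑ s, C i j s • S s := by
      funext a
      rw [Finset.sum_apply, Pi.sub_apply]
      have e1 : (sr j : Fin l → ℤ) a = if j = a then 1 else 0 := by
        by_cases hja : j = a
        · subst hja; rw [if_pos rfl, sr_self]
        · rw [if_neg hja, sr_ne (Ne.symm hja)]
      rw [e1, hC]
      exact Finset.sum_congr rfl fun s _ => by rw [Pi.smul_apply, smul_eq_mul]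
    rw [e]
    exact sum_mem fun s _ => zsmul_mem (AddSubgroup.subset_closure (hX s)) _
  have e : rep cs hp.isCartan v x - x = ∑ j, x j • (U i j - sr j) := by
    rw [rep_eq hp cs hi]
    conv_lhs => rw [IsMC.eq_sum_sr x]
    rw [← Finset.sum_sub_distrib]
    refine Finset.sum_congr rfl fun j _ => ?_
    rw [smul_sub]
    congr 2
    conv_rhs => rw [IsMC.eq_sum_sr x]
  rw [e]
  exact sum_mem fun j _ => zsmul_mem (h1 j) _

/-- every matrix but the identity moves a vector by some `S s` -/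
def MoveOK {l n m : ℕ} (U : Fin n → Mat l) (S : Fin m → Fin l → ℤ) (X : Fin n → Fin l → ℤ) : Prop :=
  ∀ i, (∀ a m, U i a m = if a = m then 1 else 0) ∨ ∃ s, ∀ a, ∑ j, X i j * U i j a - X i a = S s a

instance decMoveOK {l n m : ℕ} (U : Fin n → Mat l) (S : Fin m → Fin l → ℤ) (X : Fin n → Fin l → ℤ) :
    Decidable (MoveOK U S X) := by
  unfold MoveOK; infer_instance

theorem exists_move [Finite W] {n m : ℕ} {U : Fin n → Mat l} (hU : GrpOK U) {S : Fin m → Fin l → ℤ}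
    {X : Fin n → Fin l → ℤ} (hX : MoveOK U S X) {v : W} (hv : v ∈ tabV hp cs hU) (hv1 : v ≠ 1) :
    ∃ x s, rep cs hp.isCartan v x - x = S s := by
  obtain ⟨i, hi⟩ := hv
  rcases hX i with h1 | ⟨s, hs⟩
  · exfalso
    apply hv1
    refine ChevalleyStructure.CoxeterGeom.eq_one_of_fix cs hp.isCartan v fun a => ?_
    have h2 := hi a
    have e : (sr a : Fin l → ℤ) = Pi.single a 1 := rfl
    rw [← e, h2]
    funext m
    rw [h1]
    by_cases hm : a = m
    · subst hm; rw [if_pos rfl, sr_self]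
    · rw [if_neg hm, sr_ne (Ne.symm hm)]
  · refine ⟨X i, s, ?_⟩
    rw [rep_eq hp cs hi]
    funext a
    rw [← hs a, Pi.sub_apply, Finset.sum_apply]
    rfl

end Cfsg.Agent.H129.StabTab
end

-- part: H129/DataD4T
section
/-!
# Data of the torus of order `(q³ - 1)(q + 1)` of `³D₄(q)` (helper129)
-/

set_option autoImplicit false

namespace Cfsg.Agent.H129.DataD4T

open Cfsg.Agent.H129.TorusTw Cfsg.Agent.H129.WData Cfsg.Agent.H129.WForm Cfsg.Agent.H129.StabTab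
  Cfsg.Agent.ChevalleyStructure.CoxeterGeomTypes
open Cfsg.Lie Cfsg.Lie.ChevalleyDatum Cfsg.Agent.Nodes Cfsg.Agent.Nodes.RGDChev

/-- the Cartan matrix -/
def Am : Mat 4 := ![![2, -1, 0, 0],
    ![-1, 2, -1, -1],
    ![0, -1, 2, 0],
    ![0, -1, 0, 2]]

/-- the partial products -/
def chain : List (Fin 4 × Mat 4) := [
    (1, ![![1, 1, 0, 0],
      ![0, -1, 0, 0],
      ![0, 1, 1, 0],
      ![0, 1, 0, 1]])]

/-- the permutation of the simple roots -/
def pi : Fin 4 → Fin 4 := ![2, 1, 3, 0]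

/-- the matrix of `θ` -/
def Th : Mat 4 := ![![0, 1, 1, 0],
    ![0, -1, 0, 0],
    ![0, 1, 0, 1],
    ![1, 1, 0, 0]]

/-- the basis -/
def V : Mat 4 := ![![-1, -1, 0, 0],
    ![0, 0, -1, 0],
    ![0, -1, 0, -1],
    ![-1, 0, 0, 0]]

/-- the coordinates -/
def B : Mat 4 := ![![0, 0, 0, -1],
    ![-1, 0, 0, 1],
    ![0, -1, 0, 0],
    ![1, 0, -1, -1]]

/-- the polynomial -/
def c : Fin 4 → ℤ := ![-1, -1, 0, 1]

/-- the representatives of the orbits of `θ` on the roots -/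
def R : Fin 7 → Fin 4 → ℤ := ![![-1, -2, -1, -1],
    ![-1, -1, -1, 0],
    ![-1, -1, 0, 0],
    ![0, -1, 0, 0],
    ![1, 1, 0, 0],
    ![0, 1, 1, 1],
    ![1, 1, 1, 1]]

/-- the values of the functional on the representatives -/
def G : Fin 7 → Fin 4 → ℤ := ![![1, 1, 1, 0],
    ![1, 1, 0, 0],
    ![1, 0, 0, 0],
    ![1, 0, 0, -1],
    ![-1, 0, 0, 0],
    ![0, -1, -1, 0],
    ![0, -1, -1, -1]]

/-- predecessor -/
def prv (r : ℕ) : ℕ := Nat.mod (Nat.shiftRight 0x16001411000f00120d0913100704000a0502080006000000 (8 * r)) 256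

/-- depth -/
def dep (r : ℕ) : ℕ := Nat.mod (Nat.shiftRight 0x10002010003000402010105050100020401030002000100 (8 * r)) 256

theorem hA : ∀ i j, Am i j = cartanOf chevD4 4 i j := by decide +kernel

theorem chainOK : ChainOK Am chain := by decide +kernel

theorem hd_pi : ∀ j, hd chain (pi j) = Th j := by decide +kernel

theorem cycOK : CycOK 4 Th V B c := by decide +kernel

theorem rootOK : RootOK chevD4 4 Th R prv dep := by decide +kernel

theorem coefOK : ∀ s i, ∑ j, R s j * B j i = G s i := by decide +kernel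

theorem connOK : ConnOK Am 1 ![1, 0, 1, 1] := by decide +kernel

theorem fN_eq (x : ℤ) : fN c x = -1 - x + x ^ 3 + x ^ 4 := by
  unfold fN c
  simp [Fin.sum_univ_succ]
  ring

theorem G_0 (x : ℤ) : Gq B x (R 0) = 1 + x + x ^ 2 := by
  rw [Gq_coef B x (R 0) (G 0) (coefOK 0)]
  unfold G
  simp [Fin.sum_univ_succ]
  try ring

theorem G_1 (x : ℤ) : Gq B x (R 1) = 1 + x := by
  rw [Gq_coef B x (R 1) (G 1) (coefOK 1)]
  unfold G
  simp [Fin.sum_univ_succ]
  try ring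

theorem bez_1 (x : ℤ) : (1) * (1 + x + x ^ 2) + (-x) * (1 + x) = 1 := by
  ring

theorem G_2 (x : ℤ) : Gq B x (R 2) = 1 := by
  rw [Gq_coef B x (R 2) (G 2) (coefOK 2)]
  unfold G
  simp [Fin.sum_univ_succ]
  try ring

theorem bez_2 (x : ℤ) : (0) * (1 + x + x ^ 2) + (1) * (1) = 1 := by
  ring

theorem G_3 (x : ℤ) : Gq B x (R 3) = 1 - x ^ 3 := by
  rw [Gq_coef B x (R 3) (G 3) (coefOK 3)]
  unfold G
  simp [Fin.sum_univ_succ]
  try ring

theorem G_4 (x : ℤ) : Gq B x (R 4) = -1 := by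
  rw [Gq_coef B x (R 4) (G 4) (coefOK 4)]
  unfold G
  simp [Fin.sum_univ_succ]
  try ring

theorem bez_4 (x : ℤ) : (0) * (1 + x + x ^ 2) + (-1) * (-1) = 1 := by
  ring

theorem G_5 (x : ℤ) : Gq B x (R 5) = -x - x ^ 2 := by
  rw [Gq_coef B x (R 5) (G 5) (coefOK 5)]
  unfold G
  simp [Fin.sum_univ_succ]
  try ring

theorem bez_5 (x : ℤ) : (1) * (1 + x + x ^ 2) + (1) * (-x - x ^ 2) = 1 := by
  ring

theorem G_6 (x : ℤ) : Gq B x (R 6) = -x - x ^ 2 - x ^ 3 := by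
  rw [Gq_coef B x (R 6) (G 6) (coefOK 6)]
  unfold G
  simp [Fin.sum_univ_succ]
  try ring

/-- Common divisors of `f(x)` and the value of `Gq` on a representative. -/
theorem dvd_of_G {x r : ℤ} (h : r ∣ 1 + x + x ^ 2) (s : Fin 7) (hs0 : s ≠ 0) (hs3 : s ≠ 3) (hs6 : s ≠ 6) (hs : r ∣ Gq B x (R s)) :
    r ∣ 1 := by
  have key : ∀ {a b g y : ℤ}, a * (1 + x + x ^ 2) + b * g = y → r ∣ g → r ∣ y := fun e hg => by
    rw [← e]
    exact dvd_add (h.mul_left _) (hg.mul_left _)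
  fin_cases s
  · exact absurd rfl hs0
  · exact key (bez_1 x) (by rw [← G_1]; exact hs)
  · exact key (bez_2 x) (by rw [← G_2]; exact hs)
  · exact absurd rfl hs3
  · exact key (bez_4 x) (by rw [← G_4]; exact hs)
  · exact key (bez_5 x) (by rw [← G_5]; exact hs)
  · exact absurd rfl hs6
/-- the exceptional roots -/
def S : Fin 6 → Fin 4 → ℤ := ![![-1, -2, -1, -1],
    ![0, 1, 0, 0],
    ![-1, -1, -1, -1],
    ![1, 2, 1, 1],
    ![0, -1, 0, 0],
    ![1, 1, 1, 1]]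

/-- the elements of their reflection group -/
def U : Fin 6 → Mat 4 := ![![![1, 0, 0, 0],
      ![0, 1, 0, 0],
      ![0, 0, 1, 0],
      ![0, 0, 0, 1]],
    ![![1, 0, 0, 0],
      ![-1, -1, -1, -1],
      ![0, 0, 1, 0],
      ![0, 0, 0, 1]],
    ![![1, 1, 0, 0],
      ![0, -1, 0, 0],
      ![0, 1, 1, 0],
      ![0, 1, 0, 1]],
    ![![1, 1, 0, 0],
      ![-1, -2, -1, -1],
      ![0, 1, 1, 0],
      ![0, 1, 0, 1]],
    ![![0, -1, -1, -1],
      ![1, 1, 1, 1],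
      ![-1, -1, 0, -1],
      ![-1, -1, -1, 0]],
    ![![0, -1, -1, -1],
      ![1, 2, 1, 1],
      ![-1, -1, 0, -1],
      ![-1, -1, -1, 0]]]

/-- coefficients -/
def C : Fin 6 → Fin 4 → Fin 6 → ℤ := ![![![0, 0, 0, 0, 0, 0],
      ![0, 0, 0, 0, 0, 0],
      ![0, 0, 0, 0, 0, 0],
      ![0, 0, 0, 0, 0, 0]],
    ![![0, 0, 0, 0, 0, 0],
      ![1, 0, 0, 0, 0, 0],
      ![0, 0, 0, 0, 0, 0],
      ![0, 0, 0, 0, 0, 0]],
    ![![0, 1, 0, 0, 0, 0],
      ![0, -2, 0, 0, 0, 0],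
      ![0, 1, 0, 0, 0, 0],
      ![0, 1, 0, 0, 0, 0]],
    ![![0, 1, 0, 0, 0, 0],
      ![1, -1, 0, 0, 0, 0],
      ![0, 1, 0, 0, 0, 0],
      ![0, 1, 0, 0, 0, 0]],
    ![![1, 1, 0, 0, 0, 0],
      ![-1, -2, 0, 0, 0, 0],
      ![1, 1, 0, 0, 0, 0],
      ![1, 1, 0, 0, 0, 0]],
    ![![1, 1, 0, 0, 0, 0],
      ![-1, -1, 0, 0, 0, 0],
      ![1, 1, 0, 0, 0, 0],
      ![1, 1, 0, 0, 0, 0]]]

/-- vectors moved by exceptional roots -/
def X : Fin 6 → Fin 4 → ℤ := ![![0, 0, 0, 0],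
    ![0, -1, 0, 0],
    ![-1, 0, 0, 0],
    ![-1, 0, 0, 0],
    ![-1, 0, 0, 0],
    ![-1, 0, 0, 0]]

theorem S_R : ∀ s : Fin 7, s = 0 ∨ s = 3 ∨ s = 6 → ∃ s', ∀ m, R s m = S s' m := by decide +kernel

theorem S_succ : ∀ i, ∃ i', ∀ m, ∑ j, S i j * Th j m = S i' m := by decide +kernel

theorem S_root : ∀ s, ∃ r : Fin 24, ∀ i : Fin 4, vec chevD4 4 r.val i = S s i := by decide +kernel

theorem grpOK : GrpOK U := by decide +kernel

theorem reflOK : ReflOK Am U S := by decide +kernel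

theorem spanOK : SpanOK U S C := by decide +kernel

theorem moveOK : MoveOK U S X := by decide +kernel

theorem GS_0 (x : ℤ) : Gq B x (S 0) = 1 + x + x ^ 2 := by
  rw [Gq_coef B x (S 0) ![1, 1, 1, 0] (by decide +kernel)]
  simp [Fin.sum_univ_succ]
  try ring

theorem GS_1 (x : ℤ) : Gq B x (S 1) = -1 + x ^ 3 := by
  rw [Gq_coef B x (S 1) ![-1, 0, 0, 1] (by decide +kernel)]
  simp [Fin.sum_univ_succ]
  try ring

theorem GS_2 (x : ℤ) : Gq B x (S 2) = x + x ^ 2 + x ^ 3 := by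
  rw [Gq_coef B x (S 2) ![0, 1, 1, 1] (by decide +kernel)]
  simp [Fin.sum_univ_succ]
  try ring

theorem GS_3 (x : ℤ) : Gq B x (S 3) = -1 - x - x ^ 2 := by
  rw [Gq_coef B x (S 3) ![-1, -1, -1, 0] (by decide +kernel)]
  simp [Fin.sum_univ_succ]
  try ring

theorem GS_4 (x : ℤ) : Gq B x (S 4) = 1 - x ^ 3 := by
  rw [Gq_coef B x (S 4) ![1, 0, 0, -1] (by decide +kernel)]
  simp [Fin.sum_univ_succ]
  try ring

theorem GS_5 (x : ℤ) : Gq B x (S 5) = -x - x ^ 2 - x ^ 3 := by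
  rw [Gq_coef B x (S 5) ![0, -1, -1, -1] (by decide +kernel)]
  simp [Fin.sum_univ_succ]
  try ring


end Cfsg.Agent.H129.DataD4T
end

-- part: S2376
section
set_option autoImplicit false
open Cfsg

namespace Cfsg.Agent.S2376

open Cfsg.Lie Cfsg.Agent.H129 Cfsg.Agent.Nodes Cfsg.Agent.Nodes.RGDChev Cfsg.Agent.H129.TorusTw
  Cfsg.Agent.H129.TorusMain Cfsg.Agent.Tits.Roots Cfsg.Agent.H129.TorusUntw Cfsg.Agent.H129.TriD4
  Cfsg.Agent.ChevalleyStructure.CoxeterGeom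

/-- a prime divisor of `q² + q + 1` -/
theorem exists_prime {q : ℕ} (hq : 2 ≤ q) : ∃ r : ℕ, r.Prime ∧ r ∣ q ^ 2 + q + 1 ∧ r ≠ 2 ∧ r ≠ 3 := by
  by_contra hno
  push Not at hno
  have h2 : ¬ 2 ∣ q ^ 2 + q + 1 := by
    intro h
    have : (q ^ 2 + q + 1) % 2 = 0 := Nat.mod_eq_zero_of_dvd h
    rcases Nat.even_or_odd q with ⟨m, hm⟩ | ⟨m, hm⟩ <;> subst hm <;> ring_nf at this <;> omega
  have h9 : ¬ 9 ∣ q ^ 2 + q + 1 := by
    intro h
    have h3 : ((q : ZMod 9) ^ 2 + (q : ZMod 9) + 1 = 0) := by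
      have := (ZMod.natCast_eq_zero_iff (q ^ 2 + q + 1) 9).2 h
      push_cast at this
      exact this
    generalize (q : ZMod 9) = x at h3; revert h3; revert x; decide
  have h1 : ∀ r : ℕ, r.Prime → r ∣ q ^ 2 + q + 1 → r = 3 := fun r hr hrq => by
    refine hno r hr hrq ?_
    rintro rfl
    exact h2 hrq
  have h4 : q ^ 2 + q + 1 = 3 ^ (q ^ 2 + q + 1).primeFactorsList.length :=
    Nat.eq_prime_pow_of_unique_prime_dvd (by positivity) fun {d} hd hd' => h1 d hd hd'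
  have h5 : (q ^ 2 + q + 1).primeFactorsList.length < 2 := by
    by_contra h6
    push Not at h6
    apply h9
    rw [h4]
    exact pow_dvd_pow 3 h6
  have h7 : 3 ^ (q ^ 2 + q + 1).primeFactorsList.length ≤ 3 := by
    interval_cases (q ^ 2 + q + 1).primeFactorsList.length <;> norm_num
  nlinarith

section

variable {W : Type*} [Group W] (cs : CoxeterSystem coxeterD4 W)

theorem lin_tri : WData.Lin (theta RGDTwD4.hp cs (cs.wordProd (DataD4T.chain.map Prod.fst)) tri) DataD4T.Th := by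
  intro j
  rw [theta_apply]
  have h1 : tri (sr j) = sr (DataD4T.pi j) := funext (tri_sr j)
  rw [h1, WData.chain_rep RGDTwD4.hp cs DataD4T.hA DataD4T.chainOK, DataD4T.hd_pi]

theorem isRoot_S (s : Fin 6) : IsRoot cs RGDTwD4.hp.isCartan (DataD4T.S s) := by
  obtain ⟨r, hr⟩ := DataD4T.S_root s
  exact (isRoot_iff RGDTwD4.hp cs _).2 ⟨r.val, r.2, funext hr⟩

/-- The roots on which the functional is divisible by `r`. -/
theorem root_of_dvd {θ : (Fin 4 → ℤ) →+ (Fin 4 → ℤ)} (h : WData.Lin θ DataD4T.Th)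
    (hc : Cyc 4 θ DataD4T.V DataD4T.B DataD4T.c) {q N r : ℕ} (hfN : fN DataD4T.c (q : ℤ) = N) (hr : r.Prime)
    (hrN : r ∣ N) (hqN : q.Coprime N) (hr1 : (r : ℤ) ∣ 1 + (q : ℤ) + (q : ℤ) ^ 2)
    {a : Fin 4 → ℤ} (ha : IsRoot cs RGDTwD4.hp.isCartan a) (hra : (r : ℤ) ∣ Gq DataD4T.B (q : ℤ) a) :
    ∃ s, a = DataD4T.S s := by
  have key := WData.root_ind RGDTwD4.hp cs h DataD4T.rootOK
    (P := fun a => ¬ (r : ℤ) ∣ Gq DataD4T.B (q : ℤ) a ∨ ∃ s, a = DataD4T.S s) (fun s => ?_) (fun x hx => ?_) ha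
  · exact key.resolve_left (fun h1 => h1 hra)
  · by_cases hs : s = 0 ∨ s = 3 ∨ s = 6
    · obtain ⟨s', hs'⟩ := DataD4T.S_R s hs
      exact Or.inr ⟨s', funext hs'⟩
    · push Not at hs
      refine Or.inl fun h1 => ?_
      have h2 := DataD4T.dvd_of_G hr1 s hs.1 hs.2.1 hs.2.2 h1
      exact hr.one_lt.ne' (Nat.dvd_one.1 (by exact_mod_cast h2))
  · rcases hx with hx | ⟨s, rfl⟩
    · refine Or.inl fun h3 => hx ?_
      have h4 := hc.dvd_G (q : ℤ) x
      rw [hfN] at h4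
      have h5 : (r : ℤ) ∣ (q : ℤ) * Gq DataD4T.B (q : ℤ) x := by
        have h6 := (Int.natCast_dvd_natCast.2 hrN).trans h4
        have h7 := dvd_sub h3 h6
        rwa [sub_sub_cancel] at h7
      rcases (Nat.prime_iff_prime_int.1 hr).dvd_or_dvd h5 with h6 | h6
      · exfalso
        have h7 : r ∣ Nat.gcd q N := Nat.dvd_gcd (Int.natCast_dvd_natCast.1 h6) hrN
        rw [hqN] at h7
        exact hr.one_lt.ne' (Nat.dvd_one.1 h7)
      · exact h6
    · obtain ⟨s', hs'⟩ := DataD4T.S_succ s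
      refine Or.inr ⟨s', ?_⟩
      funext m
      rw [h.apply, hs']

end

theorem G_S (x : ℤ) (s : Fin 6) : ∃ e : ℤ, (e = 1 ∨ e = x ∨ e = x - 1) ∧
    (Gq DataD4T.B x (DataD4T.S s) = e * (1 + x + x ^ 2) ∨ Gq DataD4T.B x (DataD4T.S s) = -(e * (1 + x + x ^ 2))) := by
  fin_cases s
  · exact ⟨1, Or.inl rfl, Or.inl (by rw [show Gq DataD4T.B x (DataD4T.S ⟨0, by norm_num⟩) = _ from DataD4T.GS_0 x]; ring)⟩
  · exact ⟨x - 1, Or.inr (Or.inr rfl), Or.inl (by rw [show Gq DataD4T.B x (DataD4T.S ⟨1, by norm_num⟩) = _ from DataD4T.GS_1 x]; ring)⟩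
  · exact ⟨x, Or.inr (Or.inl rfl), Or.inl (by rw [show Gq DataD4T.B x (DataD4T.S ⟨2, by norm_num⟩) = _ from DataD4T.GS_2 x]; ring)⟩
  · exact ⟨1, Or.inl rfl, Or.inr (by rw [show Gq DataD4T.B x (DataD4T.S ⟨3, by norm_num⟩) = _ from DataD4T.GS_3 x]; ring)⟩
  · exact ⟨x - 1, Or.inr (Or.inr rfl), Or.inr (by rw [show Gq DataD4T.B x (DataD4T.S ⟨4, by norm_num⟩) = _ from DataD4T.GS_4 x]; ring)⟩
  · exact ⟨x, Or.inr (Or.inl rfl), Or.inr (by rw [show Gq DataD4T.B x (DataD4T.S ⟨5, by norm_num⟩) = _ from DataD4T.GS_5 x]; ring)⟩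

theorem dvd_S {q r : ℕ} (hr1 : (r : ℤ) ∣ 1 + (q : ℤ) + (q : ℤ) ^ 2) (s : Fin 6) :
    (r : ℤ) ∣ Gq DataD4T.B (q : ℤ) (DataD4T.S s) := by
  obtain ⟨e, -, h | h⟩ := G_S (q : ℤ) s <;> rw [h]
  · exact hr1.mul_left _
  · exact (hr1.mul_left _).neg_right

theorem not_dvd {q : ℕ} (hq : 2 ≤ q) {N : ℕ}
    (hN : (N : ℤ) = ((q : ℤ) ^ 2 - 1) * (1 + (q : ℤ) + (q : ℤ) ^ 2)) (s : Fin 6) :
    ¬ (N : ℤ) ∣ Gq DataD4T.B (q : ℤ) (DataD4T.S s) := by
  intro h
  have hq0 : (2 : ℤ) ≤ q := by exact_mod_cast hq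
  have hΦ : 1 + (q : ℤ) + (q : ℤ) ^ 2 ≠ 0 := by positivity
  obtain ⟨e, he, hj⟩ := G_S (q : ℤ) s
  have h1 : (N : ℤ) ∣ e * (1 + (q : ℤ) + (q : ℤ) ^ 2) := by
    rcases hj with hj | hj
    · rwa [hj] at h
    · rw [hj, dvd_neg] at h
      exact h
  rw [hN] at h1
  have h3 := (mul_dvd_mul_iff_right hΦ).1 h1
  have h4 : (0 : ℤ) < e ∧ e ≤ q := by
    rcases he with rfl | rfl | rfl
    · constructor <;> linarith
    · constructor <;> linarith
    · constructor <;> linarith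
  have h5 := Int.le_of_dvd h4.1 h3
  nlinarith

/-- The group ³D₄(q) contains a cyclic subgroup of order (q³ − 1)(q + 1) which is its own centralizer. -/
theorem result {K : Type*} [Field K] [Fintype K] (q : ℕ) (hq : IsPrimePow q) (hK : Fintype.card K = q ^ 3) :
    ∃ H : Subgroup ↥(Cfsg.Lie.twistedD4 K q), IsCyclic ↥H ∧ Nat.card ↥H = (q ^ 3 - 1) * (q + 1) ∧
      Subgroup.centralizer (H : Set ↥(Cfsg.Lie.twistedD4 K q)) = H := by
  have hq2 : 2 ≤ q := hq.two_le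
  have hW : Nat.card coxeterD4.Group = 192 :=
    ChevalleyStructure.WeylData.certD4.card_group.trans ChevalleyStructure.WeylData.size_D4
  have : Finite coxeterD4.Group := Nat.finite_of_card_ne_zero (by rw [hW]; norm_num)
  have h0 : 1 ≤ q ^ 3 := Nat.one_le_pow _ _ (by omega)
  have hN : (((q ^ 3 - 1) * (q + 1) : ℕ) : ℤ) = ((q : ℤ) ^ 2 - 1) * (1 + (q : ℤ) + (q : ℤ) ^ 2) := by
    push_cast [Nat.cast_sub h0]; ring
  have hfN : fN DataD4T.c (q : ℤ) = (((q ^ 3 - 1) * (q + 1) : ℕ) : ℤ) := by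
    rw [DataD4T.fN_eq, hN]; ring
  obtain ⟨r, hr, hrq, hr2, hr3⟩ := exists_prime hq2
  have hr1 : (r : ℤ) ∣ 1 + (q : ℤ) + (q : ℤ) ^ 2 := by
    have h1 := Int.natCast_dvd_natCast.2 hrq
    push_cast at h1
    have e : (1 : ℤ) + q + q ^ 2 = q ^ 2 + q + 1 := by ring
    rw [e]
    exact h1
  have hrN : r ∣ (q ^ 3 - 1) * (q + 1) := by
    have h1 : (r : ℤ) ∣ (((q ^ 3 - 1) * (q + 1) : ℕ) : ℤ) := by
      rw [hN]
      exact hr1.mul_left _
    exact Int.natCast_dvd_natCast.1 h1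
  have hrW : ¬ r ∣ Nat.card coxeterD4.Group := by
    rw [hW]
    intro h
    have h2 : (192 : ℕ) = 2 ^ 6 * 3 := by norm_num
    rw [h2] at h
    rcases (Nat.Prime.dvd_mul hr).1 h with h | h
    · exact hr2 ((Nat.prime_dvd_prime_iff_eq hr Nat.prime_two).1 (hr.dvd_of_dvd_pow h))
    · exact hr3 ((Nat.prime_dvd_prime_iff_eq hr Nat.prime_three).1 h)
  -- the algebraic closure
  obtain ⟨p, e', hpF, hpc, hpk, -, hpe, hk⟩ := exists_closure hK
  obtain ⟨p', e, hp', he, hqe'⟩ := id hq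
  have hpp : p' = p := by
    have h1 : p' ∣ p ^ e' := by
      rw [← hpe, ← hqe']
      exact dvd_pow (dvd_pow_self p' he.ne') (by norm_num)
    exact (Nat.prime_dvd_prime_iff_eq hp'.nat_prime hpF.out).1 (hp'.nat_prime.dvd_of_dvd_pow h1)
  subst hpp
  have hqe : q = p' ^ e := hqe'.symm
  have hqN : (q : ℕ).Coprime ((q ^ 3 - 1) * (q + 1)) := by
    rw [← Nat.isCoprime_iff_coprime]
    exact ⟨(q : ℤ) ^ 3 + (q : ℤ) ^ 2 - 1, -1, by rw [hN]; ring⟩
  have hpN : ¬ p' ∣ (q ^ 3 - 1) * (q + 1) := fun h1 => by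
    have h2 : p' ∣ Nat.gcd q ((q ^ 3 - 1) * (q + 1)) := Nat.dvd_gcd (by rw [hqe]; exact dvd_pow_self p' he.ne') h1
    rw [hqN] at h2
    exact hpF.out.one_lt.ne' (Nat.dvd_one.1 h2)
  let cs := coxeterD4.toCoxeterSystem
  have hlin := lin_tri cs
  have hc := WData.cyc_of hlin DataD4T.cycOK
  have hroot := fun {a : Fin 4 → ℤ} (ha : IsRoot cs RGDTwD4.hp.isCartan a) =>
    root_of_dvd cs hlin hc hfN hr hrN hqN hr1 (a := a) ha
  have hX : ∀ s, DataD4T.S s ∈ {a | IsRoot cs RGDTwD4.hp.isCartan a ∧ (r : ℤ) ∣ Gq DataD4T.B (q : ℤ) a} :=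
    fun s => ⟨isRoot_S cs s, dvd_S hr1 s⟩
  have h1 := StabGen.exists_cyclic' (k := AlgebraicClosure K) RGDTwD4.hp cs (by norm_num) hk
    (hN := nsys_of_locFin RGDTwD4.hp cs hk p') he isFrob_tau (fr_tau cs) TorusChar.invC_D4 (by norm_num)
    (cs.wordProd (DataD4T.chain.map Prod.fst)) hc (N := (q ^ 3 - 1) * (q + 1)) (d := 1) (r := r)
    (by rw [← hqe]; exact hfN) hpN
    (e0 := embT (algebraMap K (AlgebraicClosure K)) hq hK) (embT_injective _ hq hK)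
    (tau_embT _ hqe hq hK) hr hrW (by rwa [one_mul]) ?_ (VW := StabTab.tabV RGDTwD4.hp cs DataD4T.grpOK)
    ?_ ?_ ?_ ?_
  · simpa using h1
  · rw [← hqe]
    intro a ha h2 h3
    obtain ⟨s, rfl⟩ := hroot ha h2
    exact not_dvd hq2 hN s (by simpa using h3)
  · rw [← hqe]
    intro a ha h2
    obtain ⟨s, rfl⟩ := hroot ha h2
    exact StabTab.refl_mem RGDTwD4.hp cs DataD4T.hA DataD4T.connOK DataD4T.grpOK DataD4T.reflOK (isRoot_S cs s)
  · rw [← hqe]
    intro v hv x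
    exact StabTab.sub_mem RGDTwD4.hp cs DataD4T.grpOK DataD4T.spanOK hX hv x
  · rw [← hqe]
    intro v hv hv1
    obtain ⟨x, s, h2⟩ := StabTab.exists_move RGDTwD4.hp cs DataD4T.grpOK DataD4T.moveOK hv hv1
    refine ⟨x, fun h3 => ?_⟩
    rw [h2] at h3
    exact not_dvd hq2 hN s (by simpa using h3)
  · intro n z t u hn hz ht hτ _ _ s hs
    rw [pow_one]
    refine ⟨fun _ => hs, fun _ => ?_⟩
    exact tau_range _ hqe hq hK (conj_fixed hz hτ hs)

end Cfsg.Agent.S2376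
end
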