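import Cfsg.Agent.S1066
import Mathlib
import Cfsg.Agent.H944.E6TwE_m3
import Cfsg.Statements.S5928
import Cfsg.Agent.H163.E6.Main
import Cfsg.Agent.H944.E6CenMax_m3
import Cfsg.Agent.H952.F4.MaxA
import Cfsg.Agent.S2656
import Cfsg.Agent.S1070
import Cfsg.Agent.Prune
set_option linter.all false
open scoped Cfsg.Agent.FastGrp

-- part: H249/E6/TwCard
section
/-!
# S5928: inequalities for the order of `²E₆(q)` (helper249)
-/

set_option autoImplicit false

namespace Cfsg.Agent.H249.E6.TwCard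

open Cfsg Cfsg.Lie

universe u

theorem le_three {K : Type u} [Field K] [Fintype K] {q : ℕ} (hq : IsPrimePow q) (hK : Fintype.card K = q ^ 2) :
    q ^ 36 * (q ^ 2 - 1) * (q ^ 5 + 1) * (q ^ 6 - 1) * (q ^ 8 - 1) * (q ^ 9 + 1) * (q ^ 12 - 1) ≤
      3 * Nat.card ↥(twistedE6 K q) := by
  rw [← Cfsg.Agent.S1066.result hq hK]
  exact Nat.mul_le_mul_right _ (Nat.gcd_le_left _ (by norm_num))

theorem half_le {q k : ℕ} (hq : 2 ≤ q) (hk : k ≠ 0) : q ^ k ≤ 2 * (q ^ k - 1) := by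
  have h1 : 2 ≤ q ^ k := hq.trans (Nat.le_self_pow hk q)
  omega

theorem prod_le {q : ℕ} (hq : 2 ≤ q) : q ^ 42 ≤
    16 * ((q ^ 2 - 1) * (q ^ 5 + 1) * (q ^ 6 - 1) * (q ^ 8 - 1) * (q ^ 9 + 1) * (q ^ 12 - 1)) := by
  have h2 := half_le hq (k := 2) (by norm_num)
  have h6 := half_le hq (k := 6) (by norm_num)
  have h8 := half_le hq (k := 8) (by norm_num)
  have h12 := half_le hq (k := 12) (by norm_num)
  calc q ^ 42 = q ^ 2 * q ^ 5 * q ^ 6 * q ^ 8 * q ^ 9 * q ^ 12 := by ring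
    _ ≤ (2 * (q ^ 2 - 1)) * (q ^ 5 + 1) * (2 * (q ^ 6 - 1)) * (2 * (q ^ 8 - 1)) * (q ^ 9 + 1) * (2 * (q ^ 12 - 1)) := by
        gcongr <;> omega
    _ = _ := by ring

theorem fac_le {n m : ℕ} (hn : n ≤ m) (hm : 7 ≤ m) : (if n = 6 then 1440 else n.factorial) ≤ m.factorial := by
  split_ifs with h
  · have h1 : (7 : ℕ).factorial ≤ m.factorial := Nat.factorial_le hm
    have h2 : (7 : ℕ).factorial = 5040 := rfl
    omega
  · exact Nat.factorial_le hn

end Cfsg.Agent.H249.E6.TwCard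

namespace Cfsg.Agent.H163.E6.Tw

open Cfsg Cfsg.Lie Cfsg.Agent.H249.E6.TwCard

universe u

/-- **(A1)** -/
theorem card_lt {K : Type u} [Field K] [Fintype K] {q n : ℕ} (hq : IsPrimePow q) (hK : Fintype.card K = q ^ 2)
    (hn : n ≤ 12) (h : n ≤ 10 ∨ 3 ≤ q) :
    (if n = 6 then 1440 else n.factorial) * q ^ 54 < Nat.card ↥(twistedE6 K q) := by
  have h1 := le_three hq hK
  have hq2 : 2 ≤ q := hq.two_le
  rcases Nat.lt_or_ge q 3 with h3 | h3
  · obtain rfl : q = 2 := by omega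
    have hn' : n ≤ 10 := h.resolve_right (by norm_num)
    have h4 := fac_le hn' (by norm_num)
    have h5 : (10 : ℕ).factorial = 3628800 := by decide +kernel
    rw [h5] at h4
    generalize (if n = 6 then 1440 else n.factorial) = f at h4 ⊢
    generalize Nat.card ↥(twistedE6 K 2) = N at h1 ⊢
    norm_num at h1 ⊢
    omega
  · have h4 := fac_le hn (by norm_num)
    have h5 : (12 : ℕ).factorial = 479001600 := by decide +kernel
    rw [h5] at h4
    generalize (if n = 6 then 1440 else n.factorial) = f at h4 ⊢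
    generalize Nat.card ↥(twistedE6 K q) = N at h1 ⊢
    have h6 := prod_le hq2
    have h7 : 3 ^ 24 ≤ q ^ 24 := Nat.pow_le_pow_left h3 24
    have h8 : 48 * 479001600 < q ^ 24 := lt_of_lt_of_le (by norm_num) h7
    have h9 : q ^ 36 * q ^ 42 ≤ 16 * (3 * N) := by
      calc q ^ 36 * q ^ 42 ≤ q ^ 36 * (16 * ((q ^ 2 - 1) * (q ^ 5 + 1) * (q ^ 6 - 1) * (q ^ 8 - 1) * (q ^ 9 + 1) *
            (q ^ 12 - 1))) := Nat.mul_le_mul_left _ h6
        _ = 16 * (q ^ 36 * (q ^ 2 - 1) * (q ^ 5 + 1) * (q ^ 6 - 1) * (q ^ 8 - 1) * (q ^ 9 + 1) * (q ^ 12 - 1)) := by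
            ring
        _ ≤ _ := Nat.mul_le_mul_left _ h1
    have h10 : 0 < q ^ 54 := Nat.pow_pos (by omega)
    have h11 : 48 * (479001600 * q ^ 54) < 48 * N := by
      calc 48 * (479001600 * q ^ 54) = (48 * 479001600) * q ^ 54 := by ring
        _ < q ^ 24 * q ^ 54 := Nat.mul_lt_mul_of_pos_right h8 h10
        _ = q ^ 36 * q ^ 42 := by ring
        _ ≤ 16 * (3 * N) := h9
        _ = 48 * N := by ring
    calc f * q ^ 54 ≤ 479001600 * q ^ 54 := Nat.mul_le_mul_right _ h4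
      _ < N := Nat.lt_of_mul_lt_mul_left h11

/-- **(A2)** -/
theorem card_lt_two {K : Type u} [Field K] [Fintype K] (hK : Fintype.card K = 2 ^ 2) :
    (12 : ℕ).factorial * (27 * 4 ^ 17) < Nat.card ↥(twistedE6 K 2) := by
  have h1 := le_three (q := 2) Nat.prime_two.isPrimePow hK
  have h5 : (12 : ℕ).factorial = 479001600 := by decide +kernel
  rw [h5]
  generalize Nat.card ↥(twistedE6 K 2) = N at h1 ⊢
  norm_num at h1 ⊢
  omega

end Cfsg.Agent.H163.E6.Tw
end

-- part: H944/E6TwSit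
section
/-!
# `²E₆(q)`: the situation (helper944)

* `Tw.sit` : a maximal subgroup with an alternating normal subgroup satisfies `Sit` and `Twist`;
* `Tw.fix_sym` : a set of elements of `Bgrp` has a common fixed vector in `V` if and only if it has one in `V'`.
-/

set_option autoImplicit false

namespace Cfsg.Agent.H163.E6.Tw

open Cfsg Cfsg.Lie Module
open scoped Matrix
open Cfsg.Agent.ChevalleyStructure
open Cfsg.Agent.ChevalleyStructure.E6Min.Tables Cfsg.Agent.ChevalleyStructure.E6Min.Basic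
  Cfsg.Agent.ChevalleyStructure.E6Min.Adjoint
open Cfsg.Agent.H163.E6
open Cfsg.Agent.H952.F4 (ev sh cr tf MaxAlt)
open Cfsg.Agent.H944.E6Tw

universe u

variable {K : Type u} [Field K] [Fintype K] {q : ℕ} {H : Subgroup ↥(Cfsg.Lie.twistedE6 K q)} {n : ℕ}
  {φ : ↥(alternatingGroup (Fin n)) →* ↥(Cfsg.Lie.twistedE6 K q)}

/-- no stable lines -/
theorem no_line (hq : IsPrimePow q) (hK : Fintype.card K = q ^ 2) (hM : MaxAlt H n φ) (hn : 5 ≤ n) (hn' : n ≤ 12)
    (ρ : Representation K ↥(Zgrp K) (I27 → K)) (hρ : ρ = V K ∨ ρ = V' K) (W : Submodule K (I27 → K))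
    (hst : Stab ρ (H.map (incl K q)) W) : finrank K ↥W ≠ 1 := by
  refine no_line_of hq hK hM hn hn' (fun h => card_lt hq hK hn' h) ?_ card_sing ρ hρ W hst
  rintro rfl
  exact card_lt_two hK

/-- **the situation for `²E₆(q)`** -/
theorem sit (hq : IsPrimePow q) (hK : Fintype.card K = q ^ 2) (hM : MaxAlt H n φ) (hn : 5 ≤ n) (hn' : n ≤ 12) :
    Sit (H.map (incl K q)) n ((incl K q).comp φ) ∧ Twist q ((incl K q).comp φ) := by
  have hnorm : ∀ h ∈ H.map (incl K q), ∀ a ∈ ((incl K q).comp φ).range, h * a * h⁻¹ ∈ ((incl K q).comp φ).range := by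
    rintro _ ⟨h, hh, rfl⟩ _ ⟨a, rfl⟩
    obtain ⟨b, hb⟩ := hM.norm h hh (φ a) ⟨a, rfl⟩
    exact ⟨b, by rw [MonoidHom.comp_apply, hb, map_mul, map_mul, map_inv]; rfl⟩
  have hsq : ∀ h ∈ H.map (incl K q), h * h ∈ ((incl K q).comp φ).range := by
    rintro _ ⟨h, hh, rfl⟩
    obtain ⟨b, hb⟩ := hM.sq h hh
    exact ⟨b, by rw [MonoidHom.comp_apply, hb, map_mul]⟩
  have hline : ∀ ρ : Representation K ↥(Zgrp K) (I27 → K), (ρ = V K ∨ ρ = V' K) → ∀ W : Submodule K (I27 → K),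
      Stab ρ (H.map (incl K q)) W → finrank K ↥W ≠ 1 := fun ρ hρ W => no_line hq hK hM hn hn' ρ hρ W
  refine sit_of hq hK hM hn (fun ψ' hψ' => ⟨?_, ?_⟩) hline
  · exact no_fixed_of hnorm hsq hn hψ' (Or.inl rfl) (hline _ (Or.inl rfl))
  · exact no_fixed_of hnorm hsq hn hψ' (Or.inr rfl) (hline _ (Or.inr rfl))

end Cfsg.Agent.H163.E6.Tw
end

-- part: S5928
section
set_option autoImplicit false
open Cfsg

namespace Cfsg.Agent.S5928

open Cfsg.Agent.H163.E6 Cfsg.Agent.H952.F4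

/-- Let p be a prime, q = p^b (b ≥ 1), K a field with q² elements, and G the twisted group ²E₆(q) realised over K (generated by its root elements inside the adjoint Chevalley group of type E₆ over K). If H is a maximal subgroup of G whose generalized Fitting subgroup is isomorphic to an alternating group of degree n ≥ 5, then n = 6 and p ≥ 7. -/
theorem result
    {K : Type*} [Field K] [Fintype K] (p b : ℕ) [Fact p.Prime] (hb : 1 ≤ b) (hK : Fintype.card K = (p ^ b) ^ 2)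
    (H : Subgroup ↥(Cfsg.Lie.twistedE6 K (p ^ b))) (hH : IsCoatom H)
    (n : ℕ) (hn : 5 ≤ n) (hA : Nonempty (↥(Cfsg.generalizedFittingSubgroup ↥H) ≃* ↥(alternatingGroup (Fin n)))) :
    n = 6 ∧ 7 ≤ p := by
  have hp : p.Prime := Fact.out
  have hq : IsPrimePow (p ^ b) := hp.isPrimePow.pow (by omega)
  have hs : IsSimpleGroup ↥(Cfsg.Lie.twistedE6 K (p ^ b)) := (S1070.result hq hK).1
  have hchar : CharP K p := by
    obtain ⟨p', hp'⟩ := CharP.exists K
    have := hp'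
    obtain ⟨m, hp1, hm⟩ := FiniteField.card K p'
    have h1 : p ∣ p' ^ (m : ℕ) := by
      rw [← hm, hK]
      exact dvd_pow (dvd_pow_self p (by omega)) two_ne_zero
    have h2 : p = p' := (Nat.prime_dvd_prime_iff_eq hp hp1).1 (hp.dvd_of_dvd_pow h1)
    exact h2 ▸ hp'
  obtain ⟨φ, hM⟩ := MaxA.exists_maxAlt hH hn hA
  have hinj : Function.Injective ((Tw.incl K (p ^ b)).comp φ) := (Tw.incl_injective K (p ^ b)).comp hM.inj
  have hbound : n ≤ 12 := by
    have h := S2656.result (F := K) p n ((Tw.incl K (p ^ b)).comp φ).range ⊥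
      ⟨(QuotientGroup.quotientBot (G := ↥((Tw.incl K (p ^ b)).comp φ).range)).trans (MonoidHom.ofInjective hinj).symm⟩
    split_ifs at h <;> omega
  obtain ⟨hS, hT⟩ := Tw.sit hq hK hM hn hbound
  refine main p hn hbound hS (Or.inr (Tw.semi hq hK (Cov.alt_perfect hn) φ).fixSym) ?_ ?_
  · intro ω hω hp5
    exact cen_of_max_tw p hp5 hq hK hn hM
  · rintro - rfl -
    exact Or.inr (Or.inr ⟨_, hT, Tw.semi hq hK (Cov.alt_perfect hn) φ⟩)

end Cfsg.Agent.S5928
end
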