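import Cfsg.Statements.S0079
import Cfsg.Agent.Transfer.FocalHall
set_option linter.all false

set_option autoImplicit false
open Cfsg

namespace Cfsg.Agent.S0079

open Subgroup Cfsg.Agent.Transfer.FocalHall
open scoped commutatorElement

/-- `|N : N ∩ H| = |G : H|` if `N H = G`. -/
theorem relIndex_of_sup_eq_top {G : Type*} [Group G] [Finite G] (H N : Subgroup G) (hN : N.Normal)
    (hNH : N ⊔ H = ⊤) : H.relIndex N = H.index := by
  have h1 : N.relIndex H = N.index := by
    rw [← relIndex_sup_left H N, hNH, relIndex_top_right]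
  have h2 : Nat.card (N ⊓ H : Subgroup G) * N.relIndex H = Nat.card H := by
    have := (N.subgroupOf H).card_mul_index
    rw [← this, Subgroup.relIndex]
    congr 1
    have e := ((N.subgroupOf H).equivMapOfInjective H.subtype H.subtype_injective)
    rw [Subgroup.subgroupOf_map_subtype] at e
    exact (Nat.card_congr e.toEquiv).symm
  have h3 : Nat.card (N ⊓ H : Subgroup G) * H.relIndex N = Nat.card N := by
    have := (H.subgroupOf N).card_mul_index
    rw [← this, Subgroup.relIndex]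
    congr 1
    have e := ((H.subgroupOf N).equivMapOfInjective N.subtype N.subtype_injective)
    rw [Subgroup.subgroupOf_map_subtype, inf_comm] at e
    exact (Nat.card_congr e.toEquiv).symm
  have h4 := N.card_mul_index
  have h5 := H.card_mul_index
  have hpos : 0 < Nat.card (N ⊓ H : Subgroup G) := Nat.card_pos
  have hpos2 : 0 < N.index := Nat.pos_of_ne_zero N.index_ne_zero_of_finite
  have h6 : (Nat.card (N ⊓ H : Subgroup G) * N.index) * H.relIndex N =
      (Nat.card (N ⊓ H : Subgroup G) * N.index) * H.index := by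
    calc (Nat.card (N ⊓ H : Subgroup G) * N.index) * H.relIndex N
        = (Nat.card (N ⊓ H : Subgroup G) * H.relIndex N) * N.index := by ring
      _ = Nat.card G := by rw [h3, h4]
      _ = Nat.card H * H.index := h5.symm
      _ = _ := by rw [← h2, h1]
  exact Nat.eq_of_mul_eq_mul_left (Nat.mul_pos hpos hpos2) h6

/-- One step of the descent. -/
theorem step {G : Type*} [Group G] [Finite G] (H : Subgroup G)
    (hHall : Nat.Coprime (Nat.card H) H.index)
    (hf : ∀ x ∈ H, ∀ y ∈ H, (∃ g : G, g * x * g⁻¹ = y) → ∃ h ∈ H, h * x * h⁻¹ = y)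
    (N : Subgroup G) (hN : N.Normal) (hNH : N ⊔ H = ⊤) :
    ∃ M : Subgroup G, M.Normal ∧ M ⊔ H = ⊤ ∧ M ⊓ H ≤ ⁅N ⊓ H, H⁆ := by
  -- the Hall subgroup `Q = N ∩ H` of `N`
  have hcard : Nat.card (H.subgroupOf N) ∣ Nat.card H := by
    have e := ((H.subgroupOf N).equivMapOfInjective N.subtype N.subtype_injective)
    rw [Subgroup.subgroupOf_map_subtype, inf_comm] at e
    rw [Nat.card_congr e.toEquiv]
    exact Subgroup.card_dvd_of_le inf_le_right
  have hindex : (H.subgroupOf N).index ∣ H.index :=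
    dvd_of_eq (relIndex_of_sup_eq_top H N hN hNH)
  have hQ : Nat.Coprime (Nat.card (H.subgroupOf N)) (H.subgroupOf N).index :=
    Nat.Coprime.coprime_dvd_left hcard (Nat.Coprime.coprime_dvd_right hindex hHall)
  refine ⟨(abMod N (H.subgroupOf N).index).map N.subtype, ?_, ?_, ?_⟩
  · exact ConjAct.normal_of_characteristic_of_normal
  · have h1 := abMod_sup (H.subgroupOf N) hQ
    have h2 := congrArg (Subgroup.map N.subtype) h1
    rw [Subgroup.map_sup, Subgroup.subgroupOf_map_subtype, ← MonoidHom.range_eq_map,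
      Subgroup.range_subtype] at h2
    rw [eq_top_iff, ← hNH]
    refine sup_le ?_ le_sup_right
    conv_lhs => rw [← h2]
    exact sup_le le_sup_left (inf_le_left.trans le_sup_right)
  · rintro x ⟨⟨⟨y, hyN⟩, hy, rfl⟩, hxH⟩
    have h1 : (⟨y, hyN⟩ : N) ∈ (H.subgroupOf N).focalSubgroup := by
      rw [← abMod_inf (H.subgroupOf N) hQ]
      exact ⟨hy, hxH⟩
    rw [focalSubgroup_def] at h1
    have h2 : (H.subgroupOf N).focalSubgroup ≤ (⁅N ⊓ H, H⁆ : Subgroup G).comap N.subtype := by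
      rw [focalSubgroup_def, closure_le]
      rintro g ⟨hg, x, hx, u, rfl⟩
      have hx' : (x : G) ∈ H := hx
      have hg' : (x : G) * u * (x : G)⁻¹ * (u : G)⁻¹ ∈ H := hg
      have hz : (u : G) * (x : G)⁻¹ * (u : G)⁻¹ ∈ H := by
        have := H.mul_mem (H.inv_mem hx') hg'
        simpa [mul_assoc] using this
      obtain ⟨k, hk, hk2⟩ := hf (x : G)⁻¹ (H.inv_mem hx') _ hz ⟨u, rfl⟩
      change ((x : G) * u * (x : G)⁻¹ * (u : G)⁻¹) ∈ ⁅N ⊓ H, H⁆
      have h3 : (x : G) * u * (x : G)⁻¹ * (u : G)⁻¹ = ⁅(x : G), k⁆ := by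
        rw [commutatorElement_def]
        have h4 : (x : G) * u * (x : G)⁻¹ * (u : G)⁻¹
            = x * ((u : G) * (x : G)⁻¹ * (u : G)⁻¹) := by group
        rw [h4, ← hk2]
        group
      rw [h3]
      exact commutator_mem_commutator ⟨x.2, hx'⟩ hk
    exact h2 h1

/-- The descent along the lower central series of `H`. -/
theorem descent {G : Type*} [Group G] [Finite G] (H : Subgroup G)
    (hHall : Nat.Coprime (Nat.card H) H.index)
    (hf : ∀ x ∈ H, ∀ y ∈ H, (∃ g : G, g * x * g⁻¹ = y) → ∃ h ∈ H, h * x * h⁻¹ = y) (n : ℕ) :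
    ∃ N : Subgroup G, N.Normal ∧ N ⊔ H = ⊤ ∧ N ⊓ H ≤ Subgroup.lowerCentralSeries H n := by
  induction n with
  | zero => exact ⟨⊤, inferInstance, top_sup_eq _, inf_le_right⟩
  | succ n ih =>
    obtain ⟨N, hN, hNH, hle⟩ := ih
    obtain ⟨M, hM, hMH, hMle⟩ := step H hHall hf N hN hNH
    exact ⟨M, hM, hMH, hMle.trans (commutator_mono hle le_rfl)⟩

/-- A nilpotent Hall subgroup has a normal complement exactly when elements of it that are conjugate in the whole group are already conjugate inside it. -/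
theorem result {G : Type*} [Group G] [Finite G] (H : Subgroup G) (hH : Group.IsNilpotent H) (hHall : Nat.Coprime (Nat.card H) H.index) : (∃ N : Subgroup G, N.Normal ∧ N.IsComplement' H) ↔ ∀ x ∈ H, ∀ y ∈ H, (∃ g : G, g * x * g⁻¹ = y) → ∃ h ∈ H, h * x * h⁻¹ = y := by
  constructor
  · rintro ⟨N, hN, hc⟩ x hx y hy ⟨g, hg⟩
    have hg2 : g ∈ (N ⊔ H : Subgroup G) := by
      rw [hc.sup_eq_top]; exact mem_top _
    rw [← SetLike.mem_coe, Subgroup.normal_mul] at hg2
    obtain ⟨n, hn, h, hh, rfl⟩ := Set.mem_mul.1 hg2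
    refine ⟨h, hh, ?_⟩
    have hx' : h * x * h⁻¹ ∈ H := H.mul_mem (H.mul_mem hh hx) (H.inv_mem hh)
    have h1 : y * (h * x * h⁻¹)⁻¹ ∈ N := by
      have h2 : y * (h * x * h⁻¹)⁻¹ = n * ((h * x * h⁻¹) * n⁻¹ * (h * x * h⁻¹)⁻¹) := by
        rw [← hg]; group
      rw [h2]
      exact N.mul_mem hn (hN.conj_mem _ (N.inv_mem hn) _)
    have h2 : y * (h * x * h⁻¹)⁻¹ ∈ H := H.mul_mem hy (H.inv_mem hx')
    have h3 : y * (h * x * h⁻¹)⁻¹ ∈ (⊥ : Subgroup G) := by
      rw [← hc.disjoint.eq_bot]; exact ⟨h1, h2⟩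
    rw [mem_bot, mul_inv_eq_one] at h3
    exact h3.symm
  · intro hf
    obtain ⟨n, hn⟩ := (Subgroup.isNilpotent_iff_lowerCentralSeries H).1 hH
    obtain ⟨N, hN, hNH, hle⟩ := descent H hHall hf n
    refine ⟨N, hN, ?_⟩
    rw [hn, le_bot_iff] at hle
    refine isComplement'_of_disjoint_and_mul_eq_univ (disjoint_iff.2 hle) ?_
    rw [← Subgroup.normal_mul, hNH, coe_top]

end Cfsg.Agent.S0079
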