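import Mathlib
import Cfsg.Statements.S1473
import Cfsg.Agent.Lib.Cores
import Cfsg.Agent.Lib.SolvableNormalP
import Cfsg.Agent.OddOrderLocal.CNBasic
set_option linter.all false
-- import your own Cfsg.Agent.* helpers here

set_option autoImplicit false
open Cfsg

namespace Cfsg.Agent.S1473

open Subgroup Cfsg.Agent.OddOrderLocal.CNBasic

/-- A `q`-group `Q` normalising the coset `xN` of a normal `p`-subgroup `N` centralises an element
of that coset (`q ≠ p`). -/
theorem exists_commute_in_coset {G : Type*} [Group G] [Finite G] {p q : ℕ} [hp : Fact p.Prime]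
    [hq : Fact q.Prime] (hpq : q ≠ p) (N : Subgroup G) [hNn : N.Normal] (hN : IsPGroup p N)
    (Q : Subgroup G) (hQ : IsPGroup q Q) (x : G) (hx : ∀ u ∈ Q, x⁻¹ * (u * x * u⁻¹) ∈ N) :
    ∃ y : G, x⁻¹ * y ∈ N ∧ ∀ u ∈ Q, u * y = y * u := by
  let act : MulAction Q {y : G // x⁻¹ * y ∈ N} :=
    { smul := fun u y => ⟨u * y * (u : G)⁻¹, by
        have h1 := hx u u.2
        have h2 := hNn.conj_mem _ y.2 u
        have h3 := N.mul_mem h1 h2
        have h4 : x⁻¹ * (↑u * x * (↑u)⁻¹) * (↑u * (x⁻¹ * ↑y) * (↑u)⁻¹) =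
          x⁻¹ * (u * y * (u : G)⁻¹) := by group
        rwa [h4] at h3⟩
      one_smul := fun y => Subtype.ext (by show (1 : G) * y * (1 : G)⁻¹ = y; group)
      mul_smul := fun u v y => Subtype.ext (by
        show ((u : G) * v) * y * ((u : G) * v)⁻¹ = u * (v * y * (v : G)⁻¹) * (u : G)⁻¹; group) }
  have hcard : Nat.card {y : G // x⁻¹ * y ∈ N} = Nat.card N :=
    Nat.card_congr
      { toFun := fun y => ⟨x⁻¹ * y, y.2⟩
        invFun := fun n => ⟨x * n, by rw [inv_mul_cancel_left]; exact n.2⟩
        left_inv := fun y => Subtype.ext (by simp)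
        right_inv := fun n => Subtype.ext (by simp) }
  obtain ⟨k, hk⟩ := IsPGroup.iff_card.mp hN
  have hnd : ¬ q ∣ Nat.card {y : G // x⁻¹ * y ∈ N} := by
    rw [hcard, hk]
    intro h
    exact hpq ((Nat.prime_dvd_prime_iff_eq hq.out hp.out).mp (hq.out.dvd_of_dvd_pow h))
  obtain ⟨y, hy⟩ := hQ.nonempty_fixed_point_of_prime_not_dvd_card _ hnd
  refine ⟨y, y.2, fun u hu => ?_⟩
  have h4 : u * (y : G) * u⁻¹ = y := congrArg Subtype.val (hy ⟨u, hu⟩)
  rwa [mul_inv_eq_iff_eq_mul] at h4

/-- A `p`-subgroup centralises a non-identity element of a nontrivial normal `p`-subgroup. -/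
theorem exists_commute_ne_one {G : Type*} [Group G] [Finite G] {p : ℕ} [hp : Fact p.Prime]
    (N : Subgroup G) [hNn : N.Normal] (hN : IsPGroup p N) (hN1 : N ≠ ⊥)
    (P : Subgroup G) (hP : IsPGroup p P) :
    ∃ z ∈ N, z ≠ 1 ∧ ∀ u ∈ P, u * z = z * u := by
  let act : MulAction P N :=
    { smul := fun u y => ⟨u * y * (u : G)⁻¹, hNn.conj_mem _ y.2 u⟩
      one_smul := fun y => Subtype.ext (by show (1 : G) * y * (1 : G)⁻¹ = y; group)
      mul_smul := fun u v y => Subtype.ext (by
        show ((u : G) * v) * y * ((u : G) * v)⁻¹ = u * (v * y * (v : G)⁻¹) * (u : G)⁻¹; group) }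
  have hdvd : p ∣ Nat.card N := by
    obtain ⟨k, hk⟩ := IsPGroup.iff_card.mp hN
    rcases Nat.eq_zero_or_pos k with h0 | h0
    · rw [h0, pow_zero, Subgroup.card_eq_one] at hk
      exact absurd hk hN1
    · rw [hk]
      exact dvd_pow_self p h0.ne'
  have h1 : (1 : N) ∈ MulAction.fixedPoints P N := by
    intro u
    apply Subtype.ext
    show (u : G) * 1 * (u : G)⁻¹ = 1
    group
  obtain ⟨z, hz, hz1⟩ := hP.exists_fixed_point_of_prime_dvd_card_of_fixed_point N hdvd h1
  refine ⟨z, z.2, fun h => hz1 (Subtype.ext h.symm), fun u hu => ?_⟩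
  have h4 : u * (z : G) * u⁻¹ = z := congrArg Subtype.val (hz ⟨u, hu⟩)
  rwa [mul_inv_eq_iff_eq_mul] at h4

theorem isNilpotent_of_le {G : Type*} [Group G] {A B : Subgroup G} (h : A ≤ B)
    (hB : Group.IsNilpotent B) : Group.IsNilpotent A := by
  refine Subgroup.isNilpotent_of_ker_le_center (Subgroup.inclusion h) ?_
  rw [(MonoidHom.ker_eq_bot_iff _).mpr (Subgroup.inclusion_injective h)]
  exact bot_le

theorem coprime_of_pgroups {G : Type*} [Group G] {p q : ℕ} (hp : p.Prime) (hq : q.Prime)
    (hpq : q ≠ p) {P Q : Subgroup G} (hP : IsPGroup p P) (hQ : IsPGroup q Q) {a b : G}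
    (ha : a ∈ P) (hb : b ∈ Q) : (orderOf a).Coprime (orderOf b) := by
  have := Fact.mk hp
  have := Fact.mk hq
  obtain ⟨k, hk⟩ := (IsPGroup.iff_orderOf.mp hP) ⟨a, ha⟩
  obtain ⟨l, hl⟩ := (IsPGroup.iff_orderOf.mp hQ) ⟨b, hb⟩
  rw [Subgroup.orderOf_mk] at hk hl
  rw [hk, hl]
  exact Nat.Coprime.pow _ _ ((Nat.coprime_primes hp hq).mpr hpq.symm)

/-- The case of a normal `p`-subgroup. -/
theorem quotient_pgroup {G : Type*} [Group G] [Finite G] (hCN : Cfsg.IsCNGroup G) {p : ℕ}
    [hp : Fact p.Prime] (N : Subgroup G) [hNn : N.Normal] (hN : IsPGroup p N) (hN1 : N ≠ ⊥) :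
    Cfsg.IsCNGroup (G ⧸ N) := by
  intro xb hxb
  obtain ⟨x, rfl⟩ := QuotientGroup.mk_surjective xb
  have hxN : x ∉ N := fun h => hxb ((QuotientGroup.eq_one_iff x).mpr h)
  -- membership in the preimage of the centralizer
  have hC : ∀ (x g : G), g ∈ (centralizer ({(x : G ⧸ N)} : Set (G ⧸ N))).comap
      (QuotientGroup.mk' N) ↔ x⁻¹ * (g * x * g⁻¹) ∈ N := by
    intro x g
    rw [mem_comap, mem_centralizer_singleton_iff, QuotientGroup.mk'_apply,
      ← QuotientGroup.mk_mul, ← QuotientGroup.mk_mul, QuotientGroup.eq]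
    constructor
    · intro h
      have h2 := hNn.conj_mem _ (N.inv_mem h) g
      have : g * ((g * x)⁻¹ * (x * g))⁻¹ * g⁻¹ = x⁻¹ * (g * x * g⁻¹) := by group
      rwa [this] at h2
    · intro h
      have h2 := hNn.conj_mem _ (N.inv_mem h) g⁻¹
      have : g⁻¹ * (x⁻¹ * (g * x * g⁻¹))⁻¹ * g⁻¹⁻¹ = (g * x)⁻¹ * (x * g) := by group
      rwa [this] at h2
  by_cases hpx : ∃ k : ℕ, (x : G ⧸ N) ^ p ^ k = 1
  · -- `xN` is a `p`-element
    obtain ⟨k, hk⟩ := hpx
    set C := (centralizer ({(x : G ⧸ N)} : Set (G ⧸ N))).comap (QuotientGroup.mk' N) with hCdef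
    -- every `q`-subgroup of `C` centralises `N`
    have key : ∀ (q : ℕ) [Fact q.Prime], q ≠ p → ∀ Q : Subgroup G, IsPGroup q Q → Q ≤ C →
        ∀ u ∈ Q, ∀ n ∈ N, u * n = n * u := by
      intro q hq hqp Q hQ hQC u hu n hn
      obtain ⟨y, hy, hyQ⟩ := exists_commute_in_coset hqp N hN Q hQ x
        (fun u hu => (hC x u).mp (hQC hu))
      have hy1 : y ≠ 1 := by
        rintro rfl
        rw [mul_one] at hy
        exact hxN (by simpa using N.inv_mem hy)
      have hmk : (x : G ⧸ N) = (y : G ⧸ N) := QuotientGroup.eq.mpr hy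
      -- `y` is a `p`-element
      have hyp : IsPGroup p (zpowers y) := by
        obtain ⟨l, hl⟩ := IsPGroup.iff_card.mp hN
        have h1 : y ^ p ^ k ∈ N := by
          rw [← QuotientGroup.eq_one_iff, QuotientGroup.mk_pow, ← hmk, hk]
        have h2 : y ^ p ^ (k + l) = 1 := by
          rw [pow_add, pow_mul, ← hl]
          exact congrArg Subtype.val (pow_card_eq_one' (x := (⟨y ^ p ^ k, h1⟩ : N)))
        rintro ⟨g, m, rfl⟩
        refine ⟨k + l, Subtype.ext ?_⟩
        show (y ^ m) ^ p ^ (k + l) = 1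
        rw [← zpow_natCast, ← zpow_mul, mul_comm, zpow_mul, zpow_natCast, h2, one_zpow]
      obtain ⟨h, hhN, hh1, hhy⟩ := exists_commute_ne_one N hN hN1 (zpowers y) hyp
      -- `u` commutes with `h`
      have c1 : Commute h u := by
        refine commute_of_mem_of_coprime (hCN y hy1) ?_ ?_
          (coprime_of_pgroups hp.out (Fact.out : q.Prime) hqp hN hQ hhN hu)
        · rw [mem_centralizer_singleton_iff]
          exact (hhy y (mem_zpowers y)).symm
        · rw [mem_centralizer_singleton_iff]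
          exact hyQ u hu
      -- a central element of `N`
      obtain ⟨z, hzN, hz1, hzc⟩ := exists_commute_ne_one N hN hN1 N hN
      have c2 : Commute z u := by
        refine commute_of_mem_of_coprime (hCN h hh1) ?_ ?_
          (coprime_of_pgroups hp.out (Fact.out : q.Prime) hqp hN hQ hzN hu)
        · rw [mem_centralizer_singleton_iff]
          exact (hzc h hhN).symm
        · rw [mem_centralizer_singleton_iff]
          exact c1.symm
      have c3 : Commute n u := by
        refine commute_of_mem_of_coprime (hCN z hz1) ?_ ?_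
          (coprime_of_pgroups hp.out (Fact.out : q.Prime) hqp hN hQ hn hu)
        · rw [mem_centralizer_singleton_iff]
          exact hzc n hn
        · rw [mem_centralizer_singleton_iff]
          exact c2.symm
      exact c3.symm
    -- a Sylow `p`-subgroup of `C` centralises some `z ≠ 1` in `N`
    obtain ⟨P⟩ := (inferInstance : Nonempty (Sylow p C))
    obtain ⟨z, hzN, hz1, hzP⟩ := exists_commute_ne_one N hN hN1 ((P : Subgroup C).map C.subtype)
      (P.isPGroup'.map _)
    have htop : (centralizer ({z} : Set G)).subgroupOf C = ⊤ := by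
      refine Cfsg.Agent.Lib.Cores.eq_top_of_sylow_le fun q hq => ?_
      by_cases hqp : q = p
      · subst hqp
        refine ⟨P, fun u hu => ?_⟩
        rw [mem_subgroupOf, mem_centralizer_singleton_iff]
        exact hzP u (mem_map_of_mem _ hu)
      · obtain ⟨Q⟩ := (inferInstance : Nonempty (Sylow q C))
        refine ⟨Q, fun u hu => ?_⟩
        rw [mem_subgroupOf, mem_centralizer_singleton_iff]
        exact key q hqp ((Q : Subgroup C).map C.subtype) (Q.isPGroup'.map _)
          (map_subtype_le _) u (mem_map_of_mem _ hu) z hzN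
    have hCle : C ≤ centralizer ({z} : Set G) := by rwa [subgroupOf_eq_top] at htop
    have hCnil : Group.IsNilpotent C := isNilpotent_of_le hCle (hCN z hz1)
    exact Group.nilpotent_of_surjective
      ((QuotientGroup.mk' N).subgroupComap (centralizer ({(x : G ⧸ N)} : Set (G ⧸ N))))
      ((QuotientGroup.mk' N).subgroupComap_surjective_of_surjective _
        (QuotientGroup.mk'_surjective N))
  · -- some prime `r ≠ p` divides the order of `xN`
    obtain ⟨r, hr, hrp, hrd⟩ : ∃ r : ℕ, r.Prime ∧ r ≠ p ∧ r ∣ orderOf (x : G ⧸ N) := by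
      by_contra hcon
      push Not at hcon
      apply hpx
      obtain ⟨k, hk⟩ : ∃ k, orderOf (x : G ⧸ N) = p ^ k := by
        refine ⟨_, Nat.eq_prime_pow_of_unique_prime_dvd (orderOf_pos _).ne' ?_⟩
        intro d hd hdd
        by_contra h
        exact hcon d hd h hdd
      exact ⟨k, by rw [← hk, pow_orderOf_eq_one]⟩
    have := Fact.mk hr
    obtain ⟨m, hm⟩ := hrd
    have hpos := orderOf_pos (x : G ⧸ N)
    have hm0 : m ≠ 0 := by rintro rfl; rw [mul_zero] at hm; omega
    obtain ⟨l, hl⟩ := IsPGroup.iff_card.mp hN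
    -- an `r`-element
    set w := (x ^ m) ^ p ^ l with hw
    have hordxm : orderOf ((x : G ⧸ N) ^ m) = r := by
      rw [orderOf_pow_of_dvd hm0 (Dvd.intro_left r hm.symm), hm]
      exact Nat.mul_div_cancel r (Nat.pos_of_ne_zero hm0)
    have hwr : w ^ r = 1 := by
      have h1 : (x ^ m) ^ r ∈ N := by
        rw [← QuotientGroup.eq_one_iff, QuotientGroup.mk_pow, QuotientGroup.mk_pow, ← pow_mul,
          mul_comm, ← hm, pow_orderOf_eq_one]
      have h2 : w ^ r = ((x ^ m) ^ r) ^ p ^ l := by
        rw [hw]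
        exact pow_right_comm _ _ _
      rw [h2, ← hl]
      exact congrArg Subtype.val (pow_card_eq_one' (x := (⟨(x ^ m) ^ r, h1⟩ : N)))
    have hmkw : (w : G ⧸ N) = ((x : G ⧸ N) ^ m) ^ p ^ l := by
      rw [hw, QuotientGroup.mk_pow, QuotientGroup.mk_pow]
    have hwb : (w : G ⧸ N) ≠ 1 := by
      rw [hmkw]
      intro h
      have h1 := orderOf_dvd_of_pow_eq_one h
      rw [hordxm] at h1
      exact hrp ((Nat.prime_dvd_prime_iff_eq hr hp.out).mp (hr.dvd_of_dvd_pow h1))
    have hw1 : w ≠ 1 := fun h => hwb (by rw [h]; rfl)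
    have hwp : IsPGroup r (zpowers w) := by
      rintro ⟨g, j, rfl⟩
      refine ⟨1, Subtype.ext ?_⟩
      show (w ^ j) ^ r ^ 1 = 1
      rw [pow_one, ← zpow_natCast, ← zpow_mul, mul_comm, zpow_mul, zpow_natCast, hwr, one_zpow]
    have hle : centralizer ({(x : G ⧸ N)} : Set (G ⧸ N)) ≤
        centralizer ({(w : G ⧸ N)} : Set (G ⧸ N)) := by
      intro g hg
      rw [mem_centralizer_singleton_iff] at hg ⊢
      rw [hmkw]
      exact (Commute.pow_right (Commute.pow_right hg m) (p ^ l))
    refine isNilpotent_of_le hle ?_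
    have := hCN w hw1
    let f : centralizer ({w} : Set G) →* centralizer ({(w : G ⧸ N)} : Set (G ⧸ N)) :=
      ((QuotientGroup.mk' N).comp (centralizer ({w} : Set G)).subtype).codRestrict _ (by
        intro g
        rw [mem_centralizer_singleton_iff]
        have h1 := mem_centralizer_singleton_iff.mp g.2
        show ((g : G) : G ⧸ N) * (w : G ⧸ N) = (w : G ⧸ N) * ((g : G) : G ⧸ N)
        rw [← QuotientGroup.mk_mul, ← QuotientGroup.mk_mul, h1])
    refine Group.nilpotent_of_surjective f ?_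
    rintro ⟨gb, hgb⟩
    obtain ⟨g, rfl⟩ := QuotientGroup.mk_surjective gb
    obtain ⟨y, hy, hyw⟩ := exists_commute_in_coset hrp N hN (zpowers w) hwp g (by
      rintro u ⟨j, rfl⟩
      apply (hC g (w ^ j)).mp
      rw [mem_comap, mem_centralizer_singleton_iff]
      show ((w ^ j : G) : G ⧸ N) * (g : G ⧸ N) = (g : G ⧸ N) * ((w ^ j : G) : G ⧸ N)
      rw [mem_centralizer_singleton_iff] at hgb
      rw [QuotientGroup.mk_zpow]
      exact (Commute.zpow_left (Commute.symm hgb) j))
    refine ⟨⟨y, ?_⟩, ?_⟩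
    · rw [mem_centralizer_singleton_iff]
      exact (hyw w (mem_zpowers w)).symm
    · apply Subtype.ext
      exact (QuotientGroup.eq.mpr hy).symm

/-- The general case, by induction on the order of `G`. -/
theorem main.{u} (n : ℕ) : ∀ (G : Type u) [Group G] [Finite G], Nat.card G = n →
    Cfsg.IsCNGroup G → ∀ (H : Subgroup G) [H.Normal], Group.IsSolvable H →
      Cfsg.IsCNGroup (G ⧸ H) := by
  induction n using Nat.strong_induction_on with
  | _ n ih =>
  intro G _ _ hcard hCN H hHn hH
  rcases eq_or_ne H ⊥ with hbot | hbot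
  · subst hbot
    exact isCNGroup_congr (QuotientGroup.quotientBot (G := G)).symm hCN
  · have hnt : Nontrivial H := (Subgroup.nontrivial_iff_ne_bot H).mpr hbot
    obtain ⟨p, N0, hp, hN0n, hN0p, -, hN0⟩ :=
      Cfsg.Agent.Lib.SolvableNormalP.exists_normal_pSubgroup H
    have hpf : Fact p.Prime := ⟨hp⟩
    have hchar : (Cfsg.pCore p H).Characteristic := Cfsg.Agent.Lib.Cores.pCore_characteristic p
    set N : Subgroup G := (Cfsg.pCore p H).map H.subtype with hNdef
    have hNn : N.Normal := by rw [hNdef]; infer_instance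
    have hNp : IsPGroup p N := (Cfsg.Agent.Lib.Cores.pCore_isPGroup p).map _
    have hN1 : N ≠ ⊥ := by
      intro h
      rw [hNdef, Subgroup.map_eq_bot_iff_of_injective _ H.subtype_injective] at h
      exact hN0 (le_bot_iff.mp (h ▸ Cfsg.Agent.Lib.Cores.le_pCore hN0n hN0p))
    have hNH : N ≤ H := map_subtype_le _
    have hlt : Nat.card (G ⧸ N) < n := by
      rw [← hcard, Subgroup.card_eq_card_quotient_mul_card_subgroup N]
      have h1 : 1 < Nat.card N := by
        have h2 : Nat.card N ≠ 1 := by rwa [Ne, Subgroup.card_eq_one]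
        have h3 : 0 < Nat.card N := Nat.card_pos
        omega
      exact lt_mul_of_one_lt_right Nat.card_pos h1
    have hmapn : (H.map (QuotientGroup.mk' N)).Normal :=
      Cfsg.Agent.Lib.Cores.map_normal_of_surjective (QuotientGroup.mk'_surjective N) hHn
    have hsol : Group.IsSolvable (H.map (QuotientGroup.mk' N)) :=
      Group.isSolvable_of_surjective ((QuotientGroup.mk' N).subgroupMap_surjective H)
    have h1 := ih _ hlt (G ⧸ N) rfl (quotient_pgroup hCN N hNp hN1)
      (H.map (QuotientGroup.mk' N)) hsol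
    exact isCNGroup_congr (QuotientGroup.quotientQuotientEquivQuotient N H hNH) h1

/-- Let G be a finite group in which the centralizer of every non-identity element is nilpotent, and H a solvable normal subgroup of G. Then in G/H the centralizer of every non-identity element is nilpotent. -/
theorem result {G : Type*} [Group G] [Finite G] (hCN : Cfsg.IsCNGroup G) (H : Subgroup G) [H.Normal] (hH : Group.IsSolvable H) :
    Cfsg.IsCNGroup (G ⧸ H) := by
  exact main _ G rfl hCN H hH

end Cfsg.Agent.S1473
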