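import Cfsg.Agent.OddOrderLocal.CNMaxNilpotent
import Cfsg.Agent.OddOrderLocal.MinSimpleBasic
import Cfsg.Agent.OddOrderLocal.FPFElem
import Cfsg.Agent.OddOrderLocal.CNBasic
import Cfsg.Agent.Lib.SolvableMinNormal
import Cfsg.Agent.Solvable.FixedPointFree
import Cfsg.Agent.Transfer.FrobeniusFusion
import Cfsg.Statements.S1479
import Cfsg.Agent.OddOrderLocal.CNSylowTI
set_option linter.all false

-- part: OddOrderLocal/CNFrobenius
section
/-!
Maximal nilpotent subgroups of a minimal simple CN-group of odd order, given that they are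
TI-subgroups: their normalizers are exactly the maximal subgroups of `G` and these are Frobenius
groups.
-/

set_option autoImplicit false
set_option linter.style.haveILetI false
set_option linter.unusedSectionVars false

namespace Cfsg.Agent.OddOrderLocal.CNFrobenius

open Subgroup Cfsg.Agent.OddOrderLocal

variable {G : Type*} [Group G]

/-- `H` is a nilpotent subgroup contained in no larger nilpotent subgroup. -/
def IsMaxNil (H : Subgroup G) : Prop :=
  Group.IsNilpotent H ∧ ∀ L : Subgroup G, Group.IsNilpotent L → H ≤ L → L = H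

/-- Every nilpotent subgroup lies in a maximal nilpotent one. -/
theorem exists_isMaxNil_ge [Finite G] {K : Subgroup G} (hK : Group.IsNilpotent K) :
    ∃ H : Subgroup G, IsMaxNil H ∧ K ≤ H := by
  obtain ⟨H, hKH, hH⟩ := Finite.exists_le_maximal (p := fun L : Subgroup G => Group.IsNilpotent L) hK
  exact ⟨H, ⟨hH.1, fun L hL hHL => le_antisymm (hH.2 hL hHL) hHL⟩, hKH⟩

theorem isNilpotent_zpowers (x : G) : Group.IsNilpotent (zpowers x) := by
  letI : CommGroup (zpowers x) :=
    { (inferInstance : Group (zpowers x)) with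
      mul_comm := fun a b => Subtype.ext (setLike_mul_comm a.2 b.2) }
  infer_instance

section

variable [Finite G] (hG : Cfsg.IsMinSimpleOddOrder G) (hCN : Cfsg.IsCNGroup G)

include hG in
theorem ne_bot {H : Subgroup G} (hH : IsMaxNil H) : H ≠ ⊥ := by
  rintro rfl
  haveI := MinSimpleBasic.nontrivial' hG
  obtain ⟨x, hx⟩ := exists_ne (1 : G)
  have := hH.2 _ (isNilpotent_zpowers x) bot_le
  rw [zpowers_eq_bot] at this
  exact hx this

include hG in
theorem ne_top {H : Subgroup G} (hH : IsMaxNil H) : H ≠ ⊤ :=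
  MinSimpleBasic.ne_top_of_isNilpotent hG hH.1

include hG in
theorem normalizer_ne_top {H : Subgroup G} (hH : IsMaxNil H) : normalizer (H : Set G) ≠ ⊤ :=
  MinSimpleBasic.normalizer_ne_top hG (ne_bot hG hH) (ne_top hG hH)

variable (hTI : ∀ H : Subgroup G, IsMaxNil H → ∀ g : G, H.map (MulAut.conj g).toMonoidHom ≠ H →
      H ⊓ H.map (MulAut.conj g).toMonoidHom = ⊥)

include hCN hTI

theorem centralizer_le {H : Subgroup G} (hH : IsMaxNil H) {x : G} (hx : x ∈ H) (hx1 : x ≠ 1) :
    centralizer ({x} : Set G) ≤ H :=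
  CNMaxNilpotent.centralizer_le hCN hH.1 hH.2 (hTI H hH) x hx hx1

omit hCN in
theorem mem_normalizer_of_conj_mem {H : Subgroup G} (hH : IsMaxNil H) {x g : G} (hx : x ∈ H)
    (hx1 : x ≠ 1) (hg : g * x * g⁻¹ ∈ H) : g ∈ normalizer (H : Set G) := by
  by_contra hn
  have h1 : H.map (MulAut.conj g).toMonoidHom ≠ H := by
    intro h
    exact hn (Subgroup.mem_normalizer_iff_map_conj_eq.mpr h)
  have h2 := hTI H hH g h1
  have h3 : g * x * g⁻¹ ∈ H ⊓ H.map (MulAut.conj g).toMonoidHom := by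
    refine Subgroup.mem_inf.mpr ⟨hg, ?_⟩
    rw [CNMaxNilpotent.mem_map_conj]
    have : g⁻¹ * (g * x * g⁻¹) * g = x := by group
    rwa [this]
  rw [h2, Subgroup.mem_bot] at h3
  exact hx1 (by simpa using h3)

omit hCN in
theorem normalizer_le {H K : Subgroup G} (hH : IsMaxNil H) (hK : K ≤ H) (hK1 : K ≠ ⊥) :
    normalizer (K : Set G) ≤ normalizer (H : Set G) := by
  intro g hg
  obtain ⟨x, hx⟩ := Subgroup.ne_bot_iff_exists_ne_one.mp hK1
  refine mem_normalizer_of_conj_mem hTI hH (hK x.2) (fun h => hx (Subtype.ext h)) ?_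
  exact hK ((Subgroup.mem_normalizer_iff.mp hg _).mp x.2)

theorem eq_of_mem {H₁ H₂ : Subgroup G} (h1 : IsMaxNil H₁) (h2 : IsMaxNil H₂) {x : G}
    (hx1 : x ∈ H₁) (hx2 : x ∈ H₂) (hx : x ≠ 1) : H₁ = H₂ := by
  -- a central element of `H₁` lies in `H₂`
  have hcard : Nat.card H₁ ≠ 1 := by
    intro h
    rw [Subgroup.card_eq_one] at h
    rw [h, Subgroup.mem_bot] at hx1
    exact hx hx1
  obtain ⟨p, hp, hd⟩ := Nat.exists_prime_and_dvd hcard
  obtain ⟨z, hz, hzo, hzc⟩ := CNNil.exists_central_orderOf_subgroup h1.1 hp hd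
  have hz1 : z ≠ 1 := by
    rintro rfl
    rw [orderOf_one] at hzo
    exact hp.one_lt.ne hzo
  have hzH : z ∈ H₂ := centralizer_le hCN hTI h2 hx2 hx
    (mem_centralizer_singleton_iff.mpr (hzc x hx1).symm.eq)
  have hle : H₁ ≤ H₂ := fun c hc => centralizer_le hCN hTI h2 hzH hz1
    (mem_centralizer_singleton_iff.mpr (hzc c hc).eq)
  exact (h1.2 _ h2.1 hle).symm

omit hTI in
/-- Elements of prime order `s ∣ |H|` of the normalizer of `H` lie in `H`. -/
theorem mem_of_orderOf {H : Subgroup G} (hH : IsMaxNil H) {x : G} {s : ℕ} (hs : s.Prime)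
    (hd : s ∣ Nat.card H) (hx : x ∈ normalizer (H : Set G)) (hxo : orderOf x = s) : x ∈ H := by
  have hcop := CNMaxNilpotent.coprime_index hCN hH.1 hH.2
  set N := normalizer (H : Set G) with hN
  have hHN : H ≤ N := le_normalizer
  haveI : (H.subgroupOf N).Normal := Subgroup.normal_in_normalizer
  let x' : N := ⟨x, hx⟩
  have h1 : ((x' : N ⧸ H.subgroupOf N)) ^ s = 1 := by
    rw [← QuotientGroup.mk_pow, QuotientGroup.eq_one_iff, mem_subgroupOf]
    show x ^ s ∈ H
    rw [← hxo, pow_orderOf_eq_one]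
    exact H.one_mem
  have h2 : orderOf (x' : N ⧸ H.subgroupOf N) ∣ s := orderOf_dvd_of_pow_eq_one h1
  have h3 : orderOf (x' : N ⧸ H.subgroupOf N) ∣ H.index := by
    refine (_root_.orderOf_dvd_natCard _).trans ?_
    have : Nat.card (N ⧸ H.subgroupOf N) = H.relIndex N := rfl
    rw [this]
    exact Subgroup.relIndex_dvd_index_of_le hHN
  have h4 : orderOf (x' : N ⧸ H.subgroupOf N) = 1 := by
    rcases (Nat.dvd_prime hs).mp h2 with h | h
    · exact h
    · exfalso
      rw [h] at h3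
      have := Nat.dvd_gcd hd h3
      rw [Nat.Coprime] at hcop
      rw [hcop] at this
      exact hs.one_lt.ne' (Nat.dvd_one.mp this)
  rw [orderOf_eq_one_iff, QuotientGroup.eq_one_iff, mem_subgroupOf] at h4
  exact h4

include hG

/-- The normalizer of a maximal nilpotent subgroup is larger. -/
theorem normalizer_ne_self {H : Subgroup G} (hH : IsMaxNil H) :
    normalizer (H : Set G) ≠ H := by
  intro hN
  have hcard : Nat.card H ≠ 1 := by
    intro h
    rw [Subgroup.card_eq_one] at h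
    exact ne_bot hG hH h
  obtain ⟨p, hp, hd⟩ := Nat.exists_prime_and_dvd hcard
  haveI := Fact.mk hp
  have hcop := CNMaxNilpotent.coprime_index hCN hH.1 hH.2
  -- a Sylow `p`-subgroup of `G` inside `H`
  obtain ⟨Q⟩ := (inferInstance : Nonempty (Sylow p H))
  have hnd : ¬ p ∣ ((Q : Subgroup H).map H.subtype).index := by
    rw [← Subgroup.relIndex_mul_index (H := (Q : Subgroup H).map H.subtype) (K := H)
      (Subgroup.map_subtype_le _)]
    have h1 : ((Q : Subgroup H).map H.subtype).relIndex H = (Q : Subgroup H).index := by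
      rw [Subgroup.relIndex, Subgroup.subgroupOf, Subgroup.comap_map_eq_self_of_injective
        H.subtype_injective]
    rw [h1, hp.dvd_mul, not_or]
    refine ⟨Q.not_dvd_index, fun h => ?_⟩
    have := Nat.dvd_gcd hd h
    rw [Nat.Coprime] at hcop
    rw [hcop] at this
    exact hp.one_lt.ne' (Nat.dvd_one.mp this)
  let P : Sylow p G := (Q.isPGroup'.map H.subtype).toSylow hnd
  have hPH : (P : Subgroup G) ≤ H := Subgroup.map_subtype_le _
  haveI := hH.1
  haveI hQn : (Q : Subgroup H).Normal := inferInstance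
  have hfus : ∀ x ∈ P, ∀ y ∈ P, (∃ g : G, g * x * g⁻¹ = y) → ∃ z ∈ P, z * x * z⁻¹ = y := by
    rintro x hx y hy ⟨g, hg⟩
    by_cases hx1 : x = 1
    · refine ⟨1, P.one_mem, ?_⟩
      rw [← hg, hx1]
      group
    have hgN : g ∈ H := by
      rw [← hN]
      exact mem_normalizer_of_conj_mem hTI hH (hPH hx) hx1 (by rw [hg]; exact hPH hy)
    -- decompose `g`
    obtain ⟨a, b, ha, hb, hab, ⟨k, hak⟩, hbo⟩ := CNBasic.exists_mul_parts hp g
    have haH : a ∈ H := (zpowers_le.mpr hgN) ha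
    have hbH : b ∈ H := (zpowers_le.mpr hgN) hb
    have haP : a ∈ P := by
      have h1 : IsPGroup p (zpowers a) := by
        have : orderOf a ∣ p ^ k := orderOf_dvd_of_pow_eq_one hak
        obtain ⟨j, -, hj⟩ := (Nat.dvd_prime_pow hp).mp this
        exact CNNil.isPGroup_zpowers hj
      have h2 : IsPGroup p ((zpowers a).subgroupOf H) := h1.comap_subtype
      obtain ⟨Q', hQ'⟩ := h2.exists_le_sylow
      have hQQ : Q' = Q := by
        haveI := Sylow.unique_of_normal Q hQn
        exact Subsingleton.elim _ _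
      have h3 : (⟨a, haH⟩ : H) ∈ (Q : Subgroup H) := by
        rw [← hQQ]
        apply hQ'
        rw [mem_subgroupOf]
        exact mem_zpowers a
      exact ⟨⟨a, haH⟩, h3, rfl⟩
    have hbx : Commute b x := by
      apply CNBasic.commute_of_mem_of_coprime hH.1 hbH (hPH hx)
      obtain ⟨j, hj⟩ := IsPGroup.iff_orderOf.mp P.isPGroup' ⟨x, hx⟩
      have hj' : orderOf x = p ^ j := by
        rw [← hj]; exact (Subgroup.orderOf_coe (⟨x, hx⟩ : (P : Subgroup G)))
      rw [hj']
      exact Nat.Coprime.pow_right j hbo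
    refine ⟨a, haP, ?_⟩
    rw [← hg, ← hab]
    calc a * x * a⁻¹ = a * (x * b) * b⁻¹ * a⁻¹ := by group
      _ = a * (b * x) * b⁻¹ * a⁻¹ := by rw [hbx.eq]
      _ = a * b * x * (a * b)⁻¹ := by group
  have hcomp := Transfer.FrobeniusFusion.hasNormalPComplement_of_controls_fusion P hfus
  obtain ⟨P', N, hNn, hNc⟩ := hcomp
  haveI := MinSimpleBasic.isSimple hG
  rcases hNn.eq_bot_or_eq_top with h | h
  · -- `G` is a `p`-group
    subst h
    rw [Subgroup.isComplement'_bot_left] at hNc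
    exact MinSimpleBasic.sylow_ne_top hG P' hNc
  · subst h
    rw [Subgroup.isComplement'_top_left] at hNc
    have : p ∣ Nat.card G := hd.trans (Subgroup.card_subgroup_dvd_card H)
    exact P'.ne_bot_of_dvd_card this hNc

/-- The normalizer of a maximal nilpotent subgroup is a Frobenius group. -/
theorem exists_compl {H : Subgroup G} (hH : IsMaxNil H) :
    ∃ E : Subgroup G, Cfsg.IsComplIn H E (Subgroup.normalizer (H : Set G)) ∧ E ≠ ⊥ ∧
      ∀ e ∈ E, e ≠ 1 → H ⊓ Subgroup.centralizer ({e} : Set G) = ⊥ := by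
  have hcop := CNMaxNilpotent.coprime_index hCN hH.1 hH.2
  set N := normalizer (H : Set G) with hN
  have hHN : H ≤ N := le_normalizer
  haveI : (H.subgroupOf N).Normal := Subgroup.normal_in_normalizer
  have hcop' : (Nat.card (H.subgroupOf N)).Coprime (H.subgroupOf N).index := by
    have h1 : Nat.card (H.subgroupOf N) = Nat.card H :=
      Nat.card_congr (Subgroup.subgroupOfEquivOfLe hHN).toEquiv
    rw [h1]
    exact hcop.coprime_dvd_right (Subgroup.relIndex_dvd_index_of_le hHN)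
  obtain ⟨E', hE'⟩ := Subgroup.exists_right_complement'_of_coprime hcop'
  refine ⟨E'.map N.subtype, ⟨hHN, Subgroup.map_subtype_le _, ?_, ?_⟩, ?_, ?_⟩
  · rw [eq_bot_iff]
    rintro x ⟨hxH, ⟨y, hy, rfl⟩⟩
    have h1 : y ∈ H.subgroupOf N ⊓ E' := ⟨mem_subgroupOf.mpr hxH, hy⟩
    rw [hE'.disjoint.eq_bot, Subgroup.mem_bot] at h1
    rw [h1]; exact Subgroup.one_mem _
  · intro m hm
    obtain ⟨⟨a, b⟩, hab⟩ := hE'.2 ⟨m, hm⟩
    refine ⟨a, mem_subgroupOf.mp a.2, b, ⟨b, b.2, rfl⟩, ?_⟩
    exact (congrArg Subtype.val hab).symm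
  · intro h
    rw [Subgroup.map_eq_bot_iff_of_injective _ N.subtype_injective] at h
    rw [h] at hE'
    rw [Subgroup.isComplement'_bot_right, Subgroup.subgroupOf_eq_top] at hE'
    exact normalizer_ne_self hG hCN hTI hH (le_antisymm hE' hHN)
  · intro e he he1
    rw [eq_bot_iff]
    rintro x ⟨hxH, hxe⟩
    rw [Subgroup.mem_bot]
    by_contra hx1
    obtain ⟨y, hy, rfl⟩ := he
    have h1 : (y : G) ∈ H := centralizer_le hCN hTI hH hxH hx1
      (mem_centralizer_singleton_iff.mpr (mem_centralizer_singleton_iff.mp hxe).symm)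
    have h2 : y ∈ H.subgroupOf N ⊓ E' := ⟨mem_subgroupOf.mpr h1, hy⟩
    rw [hE'.disjoint.eq_bot, Subgroup.mem_bot] at h2
    exact he1 (by rw [h2]; rfl)

/-- Every maximal subgroup is the normalizer of a maximal nilpotent subgroup. -/
theorem exists_normalizer_eq {M : Subgroup G} (hM : IsCoatom M) :
    ∃ H : Subgroup G, IsMaxNil H ∧ normalizer (H : Set G) = M := by
  haveI := MinSimpleBasic.isSolvable_of_isCoatom hG hM
  have hM1 : M ≠ ⊥ := MinSimpleBasic.coatom_ne_bot hG hM
  haveI : Nontrivial M := (Subgroup.nontrivial_iff_ne_bot M).mpr hM1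
  obtain ⟨A, hAc, hAcomm, hA1⟩ := Lib.SolvableMinNormal.exists_characteristic_abelian (G := M)
  haveI : A.Normal := inferInstance
  -- `A` as a subgroup of `G`
  have hA' : Group.IsNilpotent (A.map M.subtype) := by
    haveI : Group.IsNilpotent A := by
      letI : CommGroup A := { (inferInstance : Group A) with mul_comm := hAcomm.is_comm.comm }
      infer_instance
    exact Group.nilpotent_of_mulEquiv (A.equivMapOfInjective M.subtype M.subtype_injective)
  have hA1' : A.map M.subtype ≠ ⊥ := by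
    rwa [Ne, Subgroup.map_eq_bot_iff_of_injective _ M.subtype_injective]
  have hMA : M ≤ normalizer ((A.map M.subtype : Subgroup G) : Set G) := by
    intro m hm
    rw [Subgroup.mem_normalizer_iff]
    intro x
    constructor
    · rintro ⟨a, ha, rfl⟩
      exact ⟨⟨m, hm⟩ * a * ⟨m, hm⟩⁻¹, ‹A.Normal›.conj_mem a ha ⟨m, hm⟩, rfl⟩
    · rintro ⟨a, ha, hax⟩
      refine ⟨⟨m, hm⟩⁻¹ * a * ⟨m, hm⟩, ?_, ?_⟩
      · have := ‹A.Normal›.conj_mem a ha (⟨m, hm⟩⁻¹)
        simpa using this
      · have hax' : (a : G) = m * x * m⁻¹ := hax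
        show m⁻¹ * (a : G) * m = x
        rw [hax']; group
  obtain ⟨H, hH, hAH⟩ := exists_isMaxNil_ge hA'
  refine ⟨H, hH, ?_⟩
  have h1 : M ≤ normalizer (H : Set G) := hMA.trans (normalizer_le hTI hH hAH hA1')
  rcases h1.lt_or_eq with h2 | h2
  · exact absurd (hM.2 _ h2) (normalizer_ne_top hG hH)
  · exact h2.symm

/-- The normalizer of a maximal nilpotent subgroup is a maximal subgroup. -/
theorem isCoatom_normalizer {H : Subgroup G} (hH : IsMaxNil H) :
    IsCoatom (normalizer (H : Set G)) := by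
  obtain ⟨M, hM, hHM⟩ := MinSimpleBasic.exists_coatom_ge (normalizer_ne_top hG hH)
  obtain ⟨H₁, hH₁, rfl⟩ := exists_normalizer_eq hG hCN hTI hM
  by_cases heq : H = H₁
  · rwa [heq]
  exfalso
  have hdisj : ∀ x : G, x ∈ H → x ∈ H₁ → x = 1 := by
    intro x hx hx'
    by_contra h
    exact heq (eq_of_mem hCN hTI hH hH₁ hx hx' h)
  obtain ⟨E, hE, hE1, hfpf⟩ := exists_compl hG hCN hTI hH
  have hcardE : Nat.card E ≠ 1 := fun h => hE1 (Subgroup.card_eq_one.mp h)
  obtain ⟨s, hs, hsd⟩ := Nat.exists_prime_and_dvd hcardE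
  haveI := Fact.mk hs
  obtain ⟨⟨y, hyE⟩, hyo⟩ := exists_prime_orderOf_dvd_card' (G := E) s hsd
  have hyo : orderOf y = s := by rw [← hyo]; exact (Subgroup.orderOf_coe (⟨y, hyE⟩ : E))
  have hy1 : y ≠ 1 := by
    rintro rfl
    rw [orderOf_one] at hyo
    exact hs.one_lt.ne hyo
  have hcardH : Nat.card H ≠ 1 := fun h => ne_bot hG hH (Subgroup.card_eq_one.mp h)
  obtain ⟨q, hq, hqd⟩ := Nat.exists_prime_and_dvd hcardH
  obtain ⟨z, hzH, hzo, hzc⟩ := CNNil.exists_central_orderOf_subgroup hH.1 hq hqd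
  have hz1 : z ≠ 1 := by
    rintro rfl
    rw [orderOf_one] at hzo
    exact hq.one_lt.ne hzo
  have hzN : z ∈ normalizer (H₁ : Set G) := hHM (le_normalizer hzH)
  have hyNH : y ∈ normalizer (H : Set G) := hE.2.1 hyE
  have hyN : y ∈ normalizer (H₁ : Set G) := hHM hyNH
  have hncomm : ¬ Commute z y := by
    intro h
    have : z ∈ H ⊓ centralizer ({y} : Set G) := ⟨hzH, mem_centralizer_singleton_iff.mpr h.eq⟩
    rw [hfpf y hyE hy1, Subgroup.mem_bot] at this
    exact hz1 this
  have hqn : ¬ q ∣ Nat.card H₁ := by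
    intro h
    exact hz1 (hdisj z hzH (mem_of_orderOf hCN hH₁ hq h hzN hzo))
  have hsn : ¬ s ∣ Nat.card H₁ := by
    intro h
    have hyH₁ := mem_of_orderOf hCN hH₁ hs h hyN hyo
    apply hncomm
    have h1 : y * z * y⁻¹ * z⁻¹ ∈ H :=
      H.mul_mem ((Subgroup.mem_normalizer_iff.mp hyNH z).mp hzH) (H.inv_mem hzH)
    have h2 : y * z * y⁻¹ * z⁻¹ ∈ H₁ := by
      have h3 : z * y⁻¹ * z⁻¹ ∈ H₁ :=
        (Subgroup.mem_normalizer_iff.mp hzN _).mp (H₁.inv_mem hyH₁)
      have := H₁.mul_mem hyH₁ h3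
      have h4 : y * (z * y⁻¹ * z⁻¹) = y * z * y⁻¹ * z⁻¹ := by group
      rwa [h4] at this
    have h3 := hdisj _ h1 h2
    show z * y = y * z
    calc z * y = (y * z * y⁻¹ * z⁻¹) * (z * y) := by rw [h3, one_mul]
      _ = y * z := by group
  -- the action of `N(H₁)` on the centre of `H₁`
  have hH₁1 := ne_bot hG hH₁
  let V : Subgroup G := (center H₁).map H₁.subtype
  have hVH : V ≤ H₁ := Subgroup.map_subtype_le _
  have hNV : normalizer (H₁ : Set G) ≤ normalizer (V : Set G) := by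
    intro g hg
    rw [Subgroup.mem_normalizer_iff]
    have key : ∀ g ∈ normalizer (H₁ : Set G), ∀ x ∈ V, g * x * g⁻¹ ∈ V := by
      rintro g hg x ⟨c, hc, rfl⟩
      have h1 := (Subgroup.mem_normalizer_iff.mp hg (c : G)).mp c.2
      refine ⟨⟨g * c * g⁻¹, h1⟩, ?_, rfl⟩
      rw [SetLike.mem_coe, mem_center_iff]
      intro w
      apply Subtype.ext
      show (w : G) * (g * c * g⁻¹) = g * c * g⁻¹ * w
      have hw : g⁻¹ * w * g ∈ H₁ := by
        rw [Subgroup.mem_normalizer_iff.mp hg]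
        have : g * (g⁻¹ * w * g) * g⁻¹ = w := by group
        rw [this]; exact w.2
      have h2 := congrArg Subtype.val (mem_center_iff.mp hc ⟨_, hw⟩)
      have h3 : g⁻¹ * (w : G) * g * c = c * (g⁻¹ * w * g) := h2
      calc (w : G) * (g * c * g⁻¹) = g * (g⁻¹ * (w : G) * g * c) * g⁻¹ := by group
        _ = g * (c * (g⁻¹ * w * g)) * g⁻¹ := by rw [h3]
        _ = g * c * g⁻¹ * w := by group
    intro x
    refine ⟨key g hg x, fun h => ?_⟩
    have := key g⁻¹ (inv_mem hg) _ h
    have h4 : g⁻¹ * (g * x * g⁻¹) * g⁻¹⁻¹ = x := by group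
    rwa [h4] at this
  haveI hVnt : Nontrivial V := by
    rw [Subgroup.nontrivial_iff_ne_bot, Ne,
      Subgroup.map_eq_bot_iff_of_injective _ H₁.subtype_injective]
    haveI := hH₁.1
    haveI : Nontrivial H₁ := (Subgroup.nontrivial_iff_ne_bot H₁).mpr hH₁1
    exact Group.IsNilpotent.center_ne_bot _
  have hVcomm : ∀ a b : V, a * b = b * a := by
    rintro ⟨_, a, ha, rfl⟩ ⟨_, b, hb, rfl⟩
    apply Subtype.ext
    show (a : G) * b = b * a
    have := mem_center_iff.mp hb a
    exact congrArg Subtype.val this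
  let φ := Solvable.FixedPointFree.conjHom (normalizer (H₁ : Set G)) V hNV
  have hf : ∀ t : ℕ, t.Prime → ¬ t ∣ Nat.card H₁ → ∀ g : normalizer (H₁ : Set G), g ≠ 1 →
      g ^ t = 1 → ∀ v : V, φ g v = v → v = 1 := by
    intro t ht htn g hg1 hgt v hv
    by_contra hv1
    have h1 : (g : G) * v * (g : G)⁻¹ = v := congrArg Subtype.val hv
    have h2 : (g : G) ∈ H₁ := by
      apply centralizer_le hCN hTI hH₁ (hVH v.2) (fun h => hv1 (Subtype.ext h))
      rw [mem_centralizer_singleton_iff]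
      calc (g : G) * v = (g : G) * v * (g : G)⁻¹ * g := by group
        _ = v * g := by rw [h1]
    have h3 : orderOf (g : G) = t := by
      have h4 : orderOf (g : G) ∣ t := by
        apply orderOf_dvd_of_pow_eq_one
        exact congrArg Subtype.val hgt
      rcases (Nat.dvd_prime ht).mp h4 with h5 | h5
      · exact absurd (Subtype.ext (orderOf_eq_one_iff.mp h5)) hg1
      · exact h5
    apply htn
    rw [← h3]
    exact Subgroup.orderOf_dvd_natCard _ h2
  -- `y z y⁻¹` is a power of `z`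
  let z' : normalizer (H₁ : Set G) := ⟨z, hzN⟩
  let y' : normalizer (H₁ : Set G) := ⟨y, hyN⟩
  have hz'o : orderOf z' = q := by rw [← hzo]; exact (Subgroup.orderOf_coe z').symm
  have hy'o : orderOf y' = s := by rw [← hyo]; exact (Subgroup.orderOf_coe y').symm
  have hwo : orderOf (y' * z' * y'⁻¹) = q := by
    rw [← hz'o]
    exact (orderOf_injective (MulAut.conj y').toMonoidHom (MulAut.conj y').injective z')
  have hcomm : Commute z' (y' * z' * y'⁻¹) := by
    apply Subtype.ext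
    have h1 : y * z * y⁻¹ ∈ H := (Subgroup.mem_normalizer_iff.mp hyNH z).mp hzH
    exact (hzc _ h1).symm.eq
  have hmem := FPFElem.mem_zpowers_of_commute hVcomm φ hq hz'o hwo hcomm (hf q hq hqn)
  obtain ⟨c, hc⟩ : ∃ c : ℕ, z' ^ c = y' * z' * y'⁻¹ := by
    rw [← mem_powers_iff_mem_zpowers] at hmem
    exact hmem
  have hfin := FPFElem.commute_of_normalizes hVcomm φ hq hs hz'o hy'o hc.symm (by
    intro g hg1 hg v hv
    rcases hg with hg | hg
    · exact hf q hq hqn g hg1 hg v hv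
    · exact hf s hs hsn g hg1 hg v hv)
  exact hncomm (congrArg Subtype.val hfin.eq)

/-- The main statement (S1479) from the TI-property of the maximal nilpotent subgroups. -/
theorem main : (∀ H : Subgroup G, Group.IsNilpotent H → (∀ L : Subgroup G, Group.IsNilpotent L → H ≤ L → L = H) →
        (Nat.card H).Coprime H.index ∧ (∀ g : G, H.map (MulAut.conj g).toMonoidHom ≠ H → H ⊓ H.map (MulAut.conj g).toMonoidHom = ⊥) ∧
        IsCoatom (Subgroup.normalizer (H : Set G)) ∧
        ∃ E : Subgroup G, Cfsg.IsComplIn H E (Subgroup.normalizer (H : Set G)) ∧ E ≠ ⊥ ∧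
          ∀ e ∈ E, e ≠ 1 → H ⊓ Subgroup.centralizer ({e} : Set G) = ⊥) ∧
      ∀ M : Subgroup G, IsCoatom M → ∃ H E : Subgroup G, Group.IsNilpotent H ∧ (∀ L : Subgroup G, Group.IsNilpotent L → H ≤ L → L = H) ∧
        M ≤ Subgroup.normalizer (H : Set G) ∧ Cfsg.IsComplIn H E M ∧ H ≠ ⊥ ∧ E ≠ ⊥ ∧
        ∀ e ∈ E, e ≠ 1 → H ⊓ Subgroup.centralizer ({e} : Set G) = ⊥ := by
  refine ⟨fun H hn hmax => ?_, fun M hM => ?_⟩
  · have hH : IsMaxNil H := ⟨hn, hmax⟩
    exact ⟨CNMaxNilpotent.coprime_index hCN hn hmax, hTI H hH, isCoatom_normalizer hG hCN hTI hH,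
      exists_compl hG hCN hTI hH⟩
  · obtain ⟨H, hH, rfl⟩ := exists_normalizer_eq hG hCN hTI hM
    obtain ⟨E, hE, hE1, hfpf⟩ := exists_compl hG hCN hTI hH
    exact ⟨H, E, hH.1, hH.2, le_rfl, hE, ne_bot hG hH, hE1, hfpf⟩

end

end Cfsg.Agent.OddOrderLocal.CNFrobenius
end

-- part: S1479
section
set_option autoImplicit false
open Cfsg

namespace Cfsg.Agent.S1479

/-- Let G be a minimal simple group of odd order in which every non-identity element has nilpotent centralizer, and H a nilpotent subgroup contained in no larger nilpotent subgroup. Then the order of H is coprime to its index, H ∩ gHg⁻¹ = 1 whenever gHg⁻¹ ≠ H, N_G(H) is a maximal subgroup, and N_G(H) has a complement E to H acting on H without non-identity fixed points. Conversely, every maximal subgroup M of G has a normal nilpotent subgroup H, maximal among nilpotent subgroups of G, with a complement in M acting on H without non-identity fixed points. -/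
theorem result {G : Type*} [Group G] [Finite G] (hG : Cfsg.IsMinSimpleOddOrder G) (hCN : Cfsg.IsCNGroup G)  :
    (∀ H : Subgroup G, Group.IsNilpotent H → (∀ L : Subgroup G, Group.IsNilpotent L → H ≤ L → L = H) →
        (Nat.card H).Coprime H.index ∧ (∀ g : G, H.map (MulAut.conj g).toMonoidHom ≠ H → H ⊓ H.map (MulAut.conj g).toMonoidHom = ⊥) ∧
        IsCoatom (Subgroup.normalizer (H : Set G)) ∧
        ∃ E : Subgroup G, Cfsg.IsComplIn H E (Subgroup.normalizer (H : Set G)) ∧ E ≠ ⊥ ∧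
          ∀ e ∈ E, e ≠ 1 → H ⊓ Subgroup.centralizer ({e} : Set G) = ⊥) ∧
      ∀ M : Subgroup G, IsCoatom M → ∃ H E : Subgroup G, Group.IsNilpotent H ∧ (∀ L : Subgroup G, Group.IsNilpotent L → H ≤ L → L = H) ∧
        M ≤ Subgroup.normalizer (H : Set G) ∧ Cfsg.IsComplIn H E M ∧ H ≠ ⊥ ∧ E ≠ ⊥ ∧
        ∀ e ∈ E, e ≠ 1 → H ⊓ Subgroup.centralizer ({e} : Set G) = ⊥ := by
  refine Cfsg.Agent.OddOrderLocal.CNFrobenius.main hG hCN ?_
  intro H hH g hg
  by_cases hpp : IsPrimePow (Nat.card H)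
  · rw [isPrimePow_nat_iff] at hpp
    obtain ⟨p, k, hp, -, hk⟩ := hpp
    haveI := Fact.mk hp
    obtain ⟨P, rfl⟩ := Cfsg.Agent.OddOrderLocal.CNMaxNilpotent.eq_sylow_of_isPGroup hH.2
      (IsPGroup.of_card hk.symm)
    exact Cfsg.Agent.OddOrderLocal.CNSylowTI.sylow_inf_conj_eq_bot hG hCN p P g hg
  · exact Cfsg.Agent.OddOrderLocal.CNMaxNilpotent.inf_conj_eq_bot hCN hH.1 hH.2 hpp
      (fun h => Cfsg.Agent.OddOrderLocal.CNFrobenius.ne_bot hG hH (Subgroup.card_eq_one.mp h)) g hg

end Cfsg.Agent.S1479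
end
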