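import Cfsg.Statements.S0346
import Cfsg.Agent.LieExceptional.ZassenhausKernel
import Cfsg.Agent.S0738
import Cfsg.Agent.S0741
import Cfsg.Agent.S0885
set_option linter.all false

set_option autoImplicit false
open Cfsg

namespace Cfsg.Agent.S0346

/-- The number of points of a finite simple Zassenhaus group is `p^k + 1` for some prime power `p^k` (the regular normal
subgroup of a point stabiliser is a `p`-group). -/
theorem result {G Ω : Type*} [Group G] [Finite G] [MulAction G Ω] [Fintype Ω]
    (hZ : Cfsg.IsZassenhausGroup G Ω) [IsSimpleGroup G] :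
    IsPrimePow (Fintype.card Ω - 1) := by
  classical
  obtain ⟨g, hg, a, b, hab, hga, hgb⟩ := hZ.2.2.2.1
  obtain ⟨H, hHa, hHn, hHcard, hHfix, hHreg⟩ :=
    Cfsg.Agent.LieExceptional.ZassenhausKernel.exists_kernel hZ a
  rw [Nat.card_eq_fintype_card (α := Ω)] at hHcard
  -- there are at least three points
  have h3 : 3 ≤ Fintype.card Ω := by
    obtain ⟨c, hca, hcb⟩ :=
      Cfsg.Agent.PermutationGroups.ZassenhausBasic.exists_third hZ hab
    have h : 2 < Fintype.card Ω := by
      rw [Fintype.two_lt_card_iff]
      exact ⟨a, b, c, hab, hca.symm, hcb.symm⟩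
    exact h
  have key : Fintype.card Ω - 2 ≤
      2 * Nat.card ↥(MulAction.stabilizer G a ⊓ MulAction.stabilizer G b) →
      IsPrimePow (Fintype.card Ω - 1) := by
    intro hd
    obtain ⟨-, p, f, hp, -, hcard⟩ := Cfsg.Agent.S0738.result hZ hab hd H hHa hHn hHreg
    have h1 : Fintype.card Ω - 1 = p ^ f := by omega
    rw [h1]
    refine hp.isPrimePow.pow ?_
    rintro rfl
    rw [pow_zero] at hcard
    omega
  by_cases heven : Even (Nat.card ↥(MulAction.stabilizer G a ⊓ MulAction.stabilizer G b))
  · exact key (Cfsg.Agent.S0741.result hZ hab heven)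
  · rcases Cfsg.Agent.S0885.result hZ hab (Fintype.card Ω - 1) _ (by omega) rfl
      (Nat.not_even_iff_odd.1 heven) H hHa (by omega) hHfix with h | ⟨h2, -, -⟩
    · exact key (by omega)
    · obtain ⟨k, hk⟩ := IsPGroup.iff_card.1 h2
      have h1 : Fintype.card Ω - 1 = 2 ^ k := by omega
      rw [h1]
      refine Nat.prime_two.isPrimePow.pow ?_
      rintro rfl
      rw [pow_zero] at hk
      omega

end Cfsg.Agent.S0346
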