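import Cfsg.Statements.S0500
import Cfsg.Agent.GH.FinalMain_mg
import Cfsg.Agent.GH.FinalOrders
import Cfsg.Agent.GH.BranchC2
import Cfsg.Agent.LFour.ExtAll
set_option linter.all false

set_option autoImplicit false
open Cfsg

namespace Cfsg.Agent.S0500

/-- A non-abelian finite simple group of sectional 2-rank at most 4 either has 2-rank at most 2, or is one of: a
group with the order of G₂(q) or ³D₄(q); PSp(4, q), q odd; a group with the order of a Ree group; PSL(4, q) with q odd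
and q ≢ 1 mod 8; PSU(4, q) with q odd and q ≢ 7 mod 8; PSL(5, q) with q ≡ 3 mod 4; PSU(5, q) with q ≡ 1
mod 4; PSL(2, 8), PSL(2, 16), PSL(3, 4), PSU(3, 4), PSL(4, 2), a simple group of order 29120; an alternating group of
degree 8, 9, 10 or 11; or a simple group with the order of one of eight sporadic groups. -/
theorem result {G : Type*} [Group G] [Finite G] [IsSimpleGroup G]
    (hG : ¬ IsMulCommutative G) (h4 : Cfsg.SectionalPRankLE 2 4 G) :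
    Cfsg.PRankLE 2 2 G ∨ Cfsg.IsG2 G ∨ Cfsg.Is3D4 G ∨
      (∃ (F : Type) (_ : Field F) (_ : Fintype F), Odd (Fintype.card F) ∧ Nonempty (G ≃* Cfsg.PSp 2 F)) ∨
      Cfsg.IsRee G ∨
      (∃ (F : Type) (_ : Field F) (_ : Fintype F), Odd (Fintype.card F) ∧ Fintype.card F % 8 ≠ 1 ∧ Nonempty (G ≃* Matrix.ProjectiveSpecialLinearGroup (Fin 4) F)) ∨
      (∃ (F : Type) (_ : Field F) (_ : Fintype F) (q : ℕ), Fintype.card F = q ^ 2 ∧ Odd q ∧ q % 8 ≠ 7 ∧ Nonempty (G ≃* Cfsg.PSU 4 F q)) ∨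
      (∃ (F : Type) (_ : Field F) (_ : Fintype F), Fintype.card F % 4 = 3 ∧ Nonempty (G ≃* Matrix.ProjectiveSpecialLinearGroup (Fin 5) F)) ∨
      (∃ (F : Type) (_ : Field F) (_ : Fintype F) (q : ℕ), Fintype.card F = q ^ 2 ∧ q % 4 = 1 ∧ Nonempty (G ≃* Cfsg.PSU 5 F q)) ∨
      (∃ (F : Type) (_ : Field F) (_ : Fintype F), (Fintype.card F = 8 ∨ Fintype.card F = 16) ∧ Nonempty (G ≃* Matrix.ProjectiveSpecialLinearGroup (Fin 2) F)) ∨
      (∃ (F : Type) (_ : Field F) (_ : Fintype F), Fintype.card F = 4 ∧ Nonempty (G ≃* Matrix.ProjectiveSpecialLinearGroup (Fin 3) F)) ∨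
      (∃ (F : Type) (_ : Field F) (_ : Fintype F), Fintype.card F = 16 ∧ Nonempty (G ≃* Cfsg.PSU 3 F 4)) ∨
      (∃ (F : Type) (_ : Field F) (_ : Fintype F), Fintype.card F = 2 ∧ Nonempty (G ≃* Matrix.ProjectiveSpecialLinearGroup (Fin 4) F)) ∨
      (Cfsg.IsSuzuki G ∧ Nat.card G = 29120) ∨
      (∃ n : ℕ, 8 ≤ n ∧ n ≤ 11 ∧ Nonempty (G ≃* alternatingGroup (Fin n))) ∨
      Cfsg.IsM12 G ∨ Cfsg.IsM22 G ∨ Cfsg.IsM23 G ∨ Cfsg.IsJ1 G ∨ Cfsg.IsJ2 G ∨ Cfsg.IsJ3 G ∨ Cfsg.IsMcL G ∨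
      Cfsg.IsLy G := by
  exact GH.FinalInputs.lit GH.FinalOrders.orders
    (GH.FinalStmts.stmts fun _ _ _ _ _ _ _ hF S P e => LFour.ExtAll.conclR hF S P e)
    (GH.FinalMain.gh_of GH.BranchC2.branchC2) G hG h4

end Cfsg.Agent.S0500
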