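import Cfsg.Statements.S0504
import Cfsg.Agent.Classification.NonComponent
import Cfsg.Agent.S1292
import Cfsg.Agent.S1265
import Cfsg.Agent.S1295
import Cfsg.Agent.S0205
import Cfsg.Agent.S1221
import Cfsg.Agent.Prune
set_option linter.all false
open scoped Cfsg.Agent.FastGrp

set_option autoImplicit false
open Cfsg

namespace Cfsg.Agent.S0504

/-- If `C / O(C)` has no component then the 2-layer of `C` is trivial. -/
theorem pLayer_eq_bot {C : Type*} [Group C] (h : ¬ HasComponent (C ⧸ oddCore C)) : pLayer 2 C = ⊥ := by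
  unfold pLayer
  rw [sSup_eq_bot]
  intro K hK
  exact absurd ⟨_, hK.2.1⟩ h

/-- Let G be a finite group containing an elementary abelian subgroup of order 8, with no nontrivial normal subgroup of
odd order, not of component type, and with a Sylow 2-subgroup whose commuting graph of Klein four-subgroups is
connected. Then every 2-local subgroup H of G satisfies C_H(O₂(H)) ≤ O₂(H). -/
theorem result {G : Type*} [Group G] [Finite G]
    (h3 : ¬ Cfsg.PRankLE 2 2 G) (hO : Cfsg.oddCore G = ⊥) (hc : ¬ Cfsg.IsComponentType G) (S : Sylow 2 G)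
    (hS : Cfsg.IsFourConnected (S : Subgroup G)) : Cfsg.IsCharacteristicTwoType G := by
  have h2 : Fact (Nat.Prime 2) := ⟨Nat.prime_two⟩
  have hL : ∀ t : G, orderOf t = 2 → pLayer 2 ↥(Subgroup.centralizer ({t} : Set G)) = ⊥ := by
    intro t ht
    apply pLayer_eq_bot
    intro h
    exact hc ⟨t, ht, h⟩
  have hsolv : ∀ t : G, orderOf t = 2 → Group.IsSolvable ↥(centralizerPPrimeCore 2 t) := by
    intro t _
    apply Cfsg.Agent.S0205.result
    rw [← Nat.not_even_iff_odd, even_iff_two_dvd]
    exact S1295.core_card 2 t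
  have hcore : ∀ t : G, orderOf t = 2 → centralizerPPrimeCore 2 t = ⊥ := fun t ht =>
    Classification.NonComponent.centralizerPPrimeCore_eq_bot hsolv hL S hS h3 hO
      (fun H hH => Cfsg.Agent.S1221.result H hH) ht
  have hF : ∀ t : G, orderOf t = 2 →
      generalizedFittingSubgroup ↥(Subgroup.centralizer ({t} : Set G)) =
        pCore 2 ↥(Subgroup.centralizer ({t} : Set G)) := by
    intro t ht
    refine S1295.genFitting_eq_pCore 2 ?_ (hL t ht)
    exact (Subgroup.map_eq_bot_iff_of_injective _ (Subgroup.subtype_injective _)).1 (hcore t ht)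
  refine ⟨?_, ?_⟩
  · -- the order of `G` is even
    unfold PRankLE at h3
    push Not at h3
    obtain ⟨A, hA, hA2, hA4⟩ := h3
    obtain ⟨a, ha, ha1⟩ : ∃ a ∈ A, a ≠ 1 := by
      have : A ≠ ⊥ := by
        rintro rfl
        rw [Subgroup.card_bot] at hA4
        norm_num at hA4
      exact (Subgroup.ne_bot_iff_exists_ne_one.mp this).elim fun a ha => ⟨a, a.2, fun h => ha (Subtype.ext h)⟩
    rw [even_iff_two_dvd, ← orderOf_eq_prime (hA2 a ha) ha1]
    exact orderOf_dvd_natCard a
  · intro T hT hT1
    have h4 := Cfsg.Agent.S1292.result hF T hT hT1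
    have h5 := Cfsg.Agent.S1265.result (G := ↥(Subgroup.normalizer (T : Set G)))
    rw [h4] at h5
    exact h5

end Cfsg.Agent.S0504
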