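import Mathlib
import Cfsg.Agent.SylowU5.Iso_m3
import Cfsg.Agent.R15.NormalElem
import Cfsg.Agent.SignalizersComponents.RelSylow
import Cfsg.Agent.S0215
import Cfsg.Agent.Lib.FastPerm
import Cfsg.Agent.R01.Closing
import Cfsg.Prelude.Def_Local
import Cfsg.Agent.TwoFusion.IsolatedCenter
import Cfsg.Agent.Classification.NonComponent
import Cfsg.Agent.Classification.LocalCore
import Cfsg.Agent.SignalizersComponents.PConstrained
import Cfsg.Agent.S1396
import Cfsg.Agent.S0502
import Cfsg.Agent.S1225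
import Cfsg.Agent.S0015
import Mathlib.GroupTheory.PGroup
import Mathlib.GroupTheory.Perm.Cycle.Type
import Mathlib.GroupTheory.GroupAction.Basic
import Mathlib.Tactic
import Mathlib.GroupTheory.Index
import Mathlib.GroupTheory.GroupAction.Quotient
import Cfsg.Agent.SignalizersComponents.CoreBalance
import Cfsg.Agent.Lib.LocalCore
import Cfsg.Agent.Lib.ProductSet
import Cfsg.Agent.Lib.HallHigman
import Cfsg.Prelude.Def_SporadicB
import Mathlib.GroupTheory.Sylow
import Mathlib.GroupTheory.Transfer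
import Mathlib.Data.ZMod.Basic
import Cfsg.Agent.S0018
import Cfsg.Agent.S0205
import Cfsg.Agent.S0061
import Cfsg.Agent.SmallSimple.TransferInvol
import Cfsg.Agent.TwoFusion.IndexTwo
import Cfsg.Agent.Lib.Cores
import Cfsg.Agent.S0280
import Cfsg.Agent.LieClassical.FieldTransfer
import Cfsg.Agent.S1614
import Cfsg.Statements.S0513
import Cfsg.Agent.FastGrp
import Cfsg.Agent.Prune
set_option linter.all false

section
prune_inst 0x7f00000000000000000000000000000000000000000000000000000000000000000000000000000000000000000000000000000000000000000000000000000000000000000000000000000000000000003fffffffffffffffffffffffffffbeffbdffffffff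

section
prune_inst 0xbcfef9afb8addfffff7e7ffefddffe39d4dfffffdffb4bfffdfbffefdf236f3be5fb8f9de458ffcef7e296b0b87853f9ffcabfef6bdc7ffffd5ff45ffbee1fb7efbfac51d4b8341ffc6ffefbf37fbfffc00000000000000000000000000041004000000000

-- part: SylowU5/Fusion
section
prune_inst 0x1024041000000000000000200000000000000000000000000000000000000000000001000001000002000000000020025400004000000000000000000404010000100010000000200000000004000000000000000000000000000000000000200000000
set_option linter.all false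
open scoped Cfsg.Agent.FastGrp

-- part: SylowU5/PermFive
section
/-!
# Subgroups of the alternating group of degree 5 containing the four-group
-/

set_option autoImplicit false

namespace Cfsg.Agent.SylowU5.PermFive

open Equiv Equiv.Perm

set_option maxRecDepth 1000000
set_option maxHeartbeats 4000000

def a0 : Perm (Fin 5) := swap (1 : Fin 5) 2 * swap (3 : Fin 5) 4
def b0 : Perm (Fin 5) := swap (1 : Fin 5) 3 * swap (2 : Fin 5) 4

theorem dt_even : ∀ π : Perm (Fin 5), π 0 = 0 → (∀ i, π (π i) = i) →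
    (π ≠ 1 → ∀ i, i ≠ 0 → π i ≠ i) → Equiv.Perm.sign π = 1 := by (set_option synthInstance.maxSize 9000 in open scoped Cfsg.Agent.Lib.FastPerm in decide +kernel)

theorem dt2 : ∀ π : Perm (Fin 5), π 0 = 0 → (∀ i, π (π i) = i) →
    (π ≠ 1 → ∀ i, i ≠ 0 → π i ≠ i) → π 1 = 2 → π = a0 := by (set_option synthInstance.maxSize 9000 in open scoped Cfsg.Agent.Lib.FastPerm in decide +kernel)

theorem dt3 : ∀ π : Perm (Fin 5), π 0 = 0 → (∀ i, π (π i) = i) →
    (π ≠ 1 → ∀ i, i ≠ 0 → π i ≠ i) → π 1 = 3 → π = b0 := by (set_option synthInstance.maxSize 9000 in open scoped Cfsg.Agent.Lib.FastPerm in decide +kernel)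

theorem mv : ∀ r : Perm (Fin 5), sign r = 1 → r 0 ≠ 0 →
   ∃ i j k l : Fin 2, (a0 ^ (i:ℕ) * b0 ^ (j:ℕ) * r * a0 ^ (k:ℕ) * b0 ^ (l:ℕ)) = swap (0 : Fin 5) 1 * swap (2 : Fin 5) 3 ∨
     (a0 ^ (i:ℕ) * b0 ^ (j:ℕ) * r * a0 ^ (k:ℕ) * b0 ^ (l:ℕ)) = swap (0 : Fin 5) 1 * swap (2 : Fin 5) 4 ∨
     (a0 ^ (i:ℕ) * b0 ^ (j:ℕ) * r * a0 ^ (k:ℕ) * b0 ^ (l:ℕ)) = swap (0 : Fin 5) 1 * swap (3 : Fin 5) 4 := by (set_option synthInstance.maxSize 9000 in open scoped Cfsg.Agent.Lib.FastPerm in decide +kernel)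

/-- the four-group -/
def V4 : Subgroup (Perm (Fin 5)) where
  carrier := {π | π ∈ ({1, a0, b0, a0 * b0} : Finset (Perm (Fin 5)))}
  one_mem' := by decide
  mul_mem' := by
    have h : ∀ π ∈ ({1, a0, b0, a0 * b0} : Finset (Perm (Fin 5))),
        ∀ σ ∈ ({1, a0, b0, a0 * b0} : Finset (Perm (Fin 5))),
        π * σ ∈ ({1, a0, b0, a0 * b0} : Finset (Perm (Fin 5))) := by decide +kernel
    intro π σ hπ hσ
    exact h π hπ σ hσ
  inv_mem' := by
    have h : ∀ π ∈ ({1, a0, b0, a0 * b0} : Finset (Perm (Fin 5))),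
        π⁻¹ ∈ ({1, a0, b0, a0 * b0} : Finset (Perm (Fin 5))) := by decide +kernel
    intro π hπ
    exact h π hπ

theorem card_V4 : Nat.card V4 = 4 := by
  show Nat.card {π // π ∈ ({1, a0, b0, a0 * b0} : Finset (Perm (Fin 5)))} = 4
  rw [Nat.card_eq_fintype_card, Fintype.card_coe]
  decide

theorem dvd_of_pow {R : Subgroup (Perm (Fin 5))} {p : ℕ} (hp : p.Prime) {x : Perm (Fin 5)}
    (hx : x ∈ R) (h1 : x ^ p = 1) (h2 : x ≠ 1) : p ∣ Nat.card R := by
  have hp' : Fact p.Prime := ⟨hp⟩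
  have h3 : orderOf (⟨x, hx⟩ : R) = p := by
    apply orderOf_eq_prime
    · exact Subtype.ext h1
    · intro h; exact h2 (congrArg Subtype.val h)
  rw [← h3]
  exact orderOf_dvd_natCard _

/-- A subgroup of `A5` containing the four-group fixing 0 and an element moving 0 is `A5`. -/
theorem eq_alternating {R : Subgroup (Perm (Fin 5))} (hR : R ≤ alternatingGroup (Fin 5))
    (ha : a0 ∈ R) (hb : b0 ∈ R) {r : Perm (Fin 5)} (hr : r ∈ R) (hr0 : r 0 ≠ 0) :
    R = alternatingGroup (Fin 5) := by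
  have hA : Nat.card (alternatingGroup (Fin 5)) = 60 := by
    have h1 := nat_card_alternatingGroup (α := Fin 5)
    rw [h1, Nat.card_eq_fintype_card, Fintype.card_fin]
    rfl
  obtain ⟨i, j, k, l, hijkl⟩ := mv r (mem_alternatingGroup.1 (hR hr)) hr0
  have hmem : a0 ^ (i:ℕ) * b0 ^ (j:ℕ) * r * a0 ^ (k:ℕ) * b0 ^ (l:ℕ) ∈ R :=
    R.mul_mem (R.mul_mem (R.mul_mem (R.mul_mem (R.pow_mem ha _) (R.pow_mem hb _)) hr)
      (R.pow_mem ha _)) (R.pow_mem hb _)
  have h3 : 3 ∣ Nat.card R ∧ 5 ∣ Nat.card R := by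
    rcases hijkl with h1 | h1 | h1
    · rw [h1] at hmem
      exact ⟨dvd_of_pow (by norm_num) (R.mul_mem hmem (R.mul_mem ha hb)) (by decide) (by decide),
        dvd_of_pow (by norm_num) (R.mul_mem hmem ha) (by decide) (by decide)⟩
    · rw [h1] at hmem
      exact ⟨dvd_of_pow (by norm_num) (R.mul_mem hmem hb) (by decide) (by decide),
        dvd_of_pow (by norm_num) (R.mul_mem hmem ha) (by decide) (by decide)⟩
    · rw [h1] at hmem
      exact ⟨dvd_of_pow (by norm_num) (R.mul_mem hmem ha) (by decide) (by decide),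
        dvd_of_pow (by norm_num) (R.mul_mem hmem hb) (by decide) (by decide)⟩
  have h4 : 4 ∣ Nat.card R := by
    rw [← card_V4]
    apply Subgroup.card_dvd_of_le
    intro π hπ
    have h5 : π ∈ ({1, a0, b0, a0 * b0} : Finset (Perm (Fin 5))) := hπ
    simp only [Finset.mem_insert, Finset.mem_singleton] at h5
    rcases h5 with rfl | rfl | rfl | rfl
    · exact R.one_mem
    · exact ha
    · exact hb
    · exact R.mul_mem ha hb
  have h60 : 60 ∣ Nat.card R := by omega
  apply Subgroup.eq_of_le_of_card_ge hR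
  rw [hA]
  exact Nat.le_of_dvd Nat.card_pos h60

end Cfsg.Agent.SylowU5.PermFive
end

-- part: SylowU5/Fusion
section
/-!
# Fusion of involutions in a simple group with Sylow 2-subgroup of type PSU(5,2)

Steps (0), (1): `E` is weakly closed, `N(E)` induces the alternating group on the five `d i`, `z^G ∩ T = {d i}`.
-/

set_option autoImplicit false
set_option linter.unusedVariables false
set_option linter.unusedSectionVars false
open Cfsg

namespace Cfsg.Agent.SylowU5.Fusion

open Subgroup Cfsg.Agent.SylowU5.Basic Cfsg.Agent.SignalizersComponents.RelSylow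

section Two

variable {G : Type*} [Group G] {T : Subgroup G} (h : U5T T)
include h

theorem E_le_T : h.E ≤ T := h.E_le.trans h.V_le

theorem d_mem_T (i : Fin 5) : h.d i ∈ T := E_le_T h (h.d_mem i)

theorem V_comm_E {v x : G} (hv : v ∈ h.V) (hx : x ∈ h.E) : v * x = x * v :=
  (h.mem_V_iff v (h.V_le hv)).1 hv x hx

theorem E_comm {a b : G} (ha : a ∈ h.E) (hb : b ∈ h.E) : a * b = b * a :=
  V_comm_E h (h.E_le ha) hb

theorem d_sq (i : Fin 5) : h.d i * h.d i = 1 := h.E_sq _ (h.d_mem i)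

theorem d_inv (i : Fin 5) : (h.d i)⁻¹ = h.d i := inv_eq_of_mul_eq_one_left (d_sq h i)

/-- `E` is normalized by `T`. -/
theorem conj_mem_E {g : G} (hg : ∀ x ∈ h.E, g * x * g⁻¹ ∈ T) : g ∈ normalizer (h.E : Set G) := by
  have h1 : h.E.map (MulAut.conj g).toMonoidHom = h.E := by
    apply h.E_unique
    · rintro _ ⟨x, hx, rfl⟩
      exact hg x hx
    · rintro _ ⟨x, hx, rfl⟩
      show g * x * g⁻¹ * (g * x * g⁻¹) = 1
      calc g * x * g⁻¹ * (g * x * g⁻¹) = g * (x * x) * g⁻¹ := by group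
        _ = 1 := by rw [h.E_sq x hx]; group
    · rw [card_map_conj, h.card_E]
  exact mem_normalizer_iff_map_conj_eq.mpr h1

theorem T_le_normalizer : T ≤ normalizer (h.E : Set G) := fun g hg =>
  conj_mem_E h fun x hx => T.mul_mem (T.mul_mem hg (E_le_T h hx)) (T.inv_mem hg)

theorem norm_conj {g x : G} (hg : g ∈ normalizer (h.E : Set G)) (hx : x ∈ h.E) :
    g * x * g⁻¹ ∈ h.E := (mem_normalizer_iff.1 hg x).1 hx

theorem isWeaklyClosed : IsWeaklyClosed h.E T := by
  refine ⟨E_le_T h, fun g hg => ?_⟩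
  apply mem_normalizer_iff_map_conj_eq.mp
  apply conj_mem_E h
  intro x hx
  exact hg ⟨x, hx, rfl⟩

theorem le_cent_E : h.V ≤ centralizer (h.E : Set G) := fun v hv =>
  mem_centralizer_iff.2 fun x hx => (V_comm_E h hv hx).symm

end Two

section Sylow

variable {G : Type*} [Group G] [Finite G] {T : Sylow 2 G} (h : U5T (T : Subgroup G))
include h

/-- A 2-group containing `E` has a conjugate by an element of `N(E)` in `T`. -/
theorem exists_conj_T {W : Subgroup G} (hW : IsPGroup 2 W) (hE : h.E ≤ W) :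
    ∃ k ∈ normalizer (h.E : Set G), ∀ w ∈ W, k⁻¹ * w * k ∈ (T : Subgroup G) := by
  obtain ⟨P, hP⟩ := hW.exists_le_sylow
  obtain ⟨k, hk⟩ := MulAction.exists_smul_eq G T P
  have h1 : ∀ w ∈ W, k⁻¹ * w * k ∈ (T : Subgroup G) := by
    intro w hw
    have h2 := hP hw
    rw [← hk, Sylow.coe_subgroup_smul] at h2
    obtain ⟨y, hy, hyw⟩ := h2
    have h3 : k * y * k⁻¹ = w := hyw
    have h4 : k⁻¹ * w * k = y := by rw [← h3]; group
    rw [h4]; exact hy
  refine ⟨k, ?_, h1⟩
  rw [← inv_mem_iff]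
  apply conj_mem_E h
  intro x hx
  rw [inv_inv]
  exact h1 x (hE hx)

/-- two conjugates of `E` in the same 2-group are equal -/
theorem mem_normalizer_of_le {W : Subgroup G} (hW : IsPGroup 2 W) (hE : h.E ≤ W) {g : G}
    (hg : ∀ x ∈ h.E, g * x * g⁻¹ ∈ W) : g ∈ normalizer (h.E : Set G) := by
  obtain ⟨k, hk, hkW⟩ := exists_conj_T h hW hE
  have h1 : k⁻¹ * g ∈ normalizer (h.E : Set G) := by
    apply conj_mem_E h
    intro x hx
    have := hkW _ (hg x hx)
    have e : k⁻¹ * (g * x * g⁻¹) * k = k⁻¹ * g * x * (k⁻¹ * g)⁻¹ := by group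
    rwa [e] at this
  have h2 := mul_mem hk h1
  rwa [mul_inv_cancel_left] at h2

/-- Fusion in `E` is controlled by `N_M(E)`. -/
theorem exists_norm {M : Subgroup G} (hM : h.E ≤ M) {m x : G} (hm : m ∈ M) (hx : x ∈ h.E)
    (hmx : m * x * m⁻¹ ∈ h.E) :
    ∃ n ∈ M, n ∈ normalizer (h.E : Set G) ∧ n * x * n⁻¹ = m * x * m⁻¹ := by
  have h2 : Fact (Nat.Prime 2) := ⟨Nat.prime_two⟩
  set C : Subgroup G := M ⊓ centralizer {m * x * m⁻¹} with hC
  have hEC : h.E ≤ C := le_inf hM fun a ha =>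
    mem_centralizer_singleton_iff.2 (E_comm h ha hmx)
  have hEC' : h.E.map (MulAut.conj m).toMonoidHom ≤ C := by
    rintro _ ⟨a, ha, rfl⟩
    refine ⟨M.mul_mem (M.mul_mem hm (hM ha)) (M.inv_mem hm), ?_⟩
    apply mem_centralizer_singleton_iff.2
    show m * a * m⁻¹ * (m * x * m⁻¹) = m * x * m⁻¹ * (m * a * m⁻¹)
    calc m * a * m⁻¹ * (m * x * m⁻¹) = m * (a * x) * m⁻¹ := by group
      _ = m * (x * a) * m⁻¹ := by rw [E_comm h ha hx]
      _ = _ := by group
  have hE2 : IsPGroup 2 h.E := T.2.to_le (E_le_T h)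
  obtain ⟨R, hR, hER⟩ := exists_isMaxP hE2 hEC
  obtain ⟨c, hc, hcR⟩ := hR.exists_conj_le (hE2.map _) hEC'
  refine ⟨c * m, M.mul_mem hc.1 hm, ?_, ?_⟩
  · apply mem_normalizer_of_le h hR.1 hER
    intro a ha
    have := hcR ⟨_, ⟨a, ha, rfl⟩, rfl⟩
    have e : (MulAut.conj c).toMonoidHom ((MulAut.conj m).toMonoidHom a) = c * m * a * (c * m)⁻¹ := by
      show c * (m * a * m⁻¹) * c⁻¹ = _
      group
    rwa [e] at this
  · have h3 := mem_centralizer_singleton_iff.1 hc.2
    calc c * m * x * (c * m)⁻¹ = c * (m * x * m⁻¹) * c⁻¹ := by group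
      _ = (m * x * m⁻¹) * c * c⁻¹ := by rw [h3]
      _ = _ := by group

/-- `V` is a Sylow 2-subgroup of `C(E)`. -/
theorem isMaxP_V : IsMaxP 2 (centralizer (h.E : Set G)) h.V := by
  refine ⟨T.2.to_le h.V_le, le_cent_E h, ?_⟩
  intro W hW hWC hVW
  obtain ⟨k, hk, hkW⟩ := exists_conj_T h hW (h.E_le.trans hVW)
  have h1 : W.map (MulAut.conj k⁻¹).toMonoidHom ≤ h.V := by
    rintro _ ⟨w, hw, rfl⟩
    have h2 : k⁻¹ * w * k ∈ (T : Subgroup G) := hkW w hw
    have h3 : (MulAut.conj k⁻¹).toMonoidHom w = k⁻¹ * w * k := by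
      show k⁻¹ * w * k⁻¹⁻¹ = _
      rw [inv_inv]
    rw [h3, h.mem_V_iff _ h2]
    intro x hx
    have h4 := mem_centralizer_iff.1 (hWC hw) (k * x * k⁻¹) (norm_conj h hk hx)
    calc k⁻¹ * w * k * x = k⁻¹ * (w * (k * x * k⁻¹)) * k := by group
      _ = k⁻¹ * ((k * x * k⁻¹) * w) * k := by rw [h4]
      _ = _ := by group
  have h2 : Nat.card W ≤ Nat.card h.V := by
    rw [← card_map_conj W k⁻¹]
    exact Nat.card_le_card_of_injective _ (inclusion_injective h1)
  exact (eq_of_le_of_card_ge hVW h2).ge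

/-- `N(E)` permutes the `d i`. -/
theorem perm {g : G} (hg : g ∈ normalizer (h.E : Set G)) (i : Fin 5) :
    ∃ j, g * h.d i * g⁻¹ = h.d j := by
  have h2 : Fact (Nat.Prime 2) := ⟨Nat.prime_two⟩
  have hgC : g ∈ normalizer (centralizer (h.E : Set G) : Set G) := by
    have key : ∀ k ∈ normalizer (h.E : Set G), ∀ x ∈ centralizer (h.E : Set G),
        k * x * k⁻¹ ∈ centralizer (h.E : Set G) := by
      intro k hk x hx
      rw [mem_centralizer_iff] at hx ⊢
      intro e he
      have h3 := hx (k⁻¹ * e * k) (by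
        have := norm_conj h ((normalizer (h.E : Set G)).inv_mem hk) he
        rwa [inv_inv] at this)
      calc e * (k * x * k⁻¹) = k * ((k⁻¹ * e * k) * x) * k⁻¹ := by group
        _ = k * (x * (k⁻¹ * e * k)) * k⁻¹ := by rw [h3]
        _ = _ := by group
    rw [mem_normalizer_iff]
    intro x
    refine ⟨key g hg x, fun hx => ?_⟩
    have := key _ ((normalizer (h.E : Set G)).inv_mem hg) _ hx
    have e : g⁻¹ * (g * x * g⁻¹) * g⁻¹⁻¹ = x := by group
    rwa [e] at this
  have h1 := (isMaxP_V h).map_conj_mem hgC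
  obtain ⟨c, hc, hcV⟩ := h1.exists_conj (isMaxP_V h)
  obtain ⟨x, hx, hxx⟩ := h.V_sq_ex i
  have hy : c * (g * x * g⁻¹) * c⁻¹ ∈ h.V := by
    rw [← hcV]
    exact ⟨_, ⟨x, hx, rfl⟩, rfl⟩
  have hyy : c * (g * x * g⁻¹) * c⁻¹ * (c * (g * x * g⁻¹) * c⁻¹) =
      g * h.d i * g⁻¹ := by
    have hc' := mem_centralizer_iff.1 hc (g * h.d i * g⁻¹) (norm_conj h hg (h.d_mem i))
    calc c * (g * x * g⁻¹) * c⁻¹ * (c * (g * x * g⁻¹) * c⁻¹) = c * (g * (x * x) * g⁻¹) * c⁻¹ := by
          group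
      _ = (c * (g * h.d i * g⁻¹)) * c⁻¹ := by rw [hxx]
      _ = (g * h.d i * g⁻¹) * c * c⁻¹ := by rw [← hc']
      _ = _ := by group
  have hyE : c * (g * x * g⁻¹) * c⁻¹ ∉ h.E := by
    intro hE
    have h3 := h.E_sq _ hE
    rw [hyy] at h3
    apply h.d_ne_one i
    have := congrArg (fun t => g⁻¹ * t * g) h3
    simpa [mul_assoc] using this
  obtain ⟨j, hj⟩ := h.V_sq _ hy hyE
  exact ⟨j, by rw [← hyy, hj]⟩

/-- `C_Q(y)` has order at least 64 for `y ∈ Q`. -/
theorem card_cent_Q {y : G} (hy : y ∈ h.Q) :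
    64 ≤ Nat.card (h.Q ⊓ centralizer ({y} : Set G) : Subgroup G) := by
  classical
  let K : Subgroup h.Q := (centralizer ({y} : Set G)).subgroupOf h.Q
  have hz : ∀ g ∈ h.Q, g * h.d 0 = h.d 0 * g := fun g hg => h.z_comm g (h.Q_le hg)
  have hmem : ∀ b : h.Q, b ∈ K ↔ (b : G) * y = y * b := fun b => by
    rw [mem_subgroupOf, mem_centralizer_singleton_iff]
  have hcard : Nat.card (h.Q ⊓ centralizer ({y} : Set G) : Subgroup G) = Nat.card K := by
    have e : K.map h.Q.subtype = h.Q ⊓ centralizer ({y} : Set G) := by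
      rw [subgroupOf_map_subtype, inf_comm]
    rw [← e]
    exact card_map_of_injective h.Q.subtype_injective
  have hidx : K.index ≤ 2 := by
    by_cases hK : K = ⊤
    · rw [hK, index_top]; norm_num
    · obtain ⟨a, ha⟩ : ∃ a, a ∉ K := by
        by_contra hcon
        push Not at hcon
        exact hK (eq_top_iff.2 fun x _ => hcon x)
      have h1 : K.index = 2 := by
        rw [index_eq_two_iff]
        refine ⟨a, fun b => ?_⟩
        have ha' : (a : G) * y = y * a * h.d 0 :=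
          (h.Q_comm a a.2 y hy).resolve_left (fun h' => ha ((hmem a).2 h'))
        have e1 : ((b * a : h.Q) : G) * y = (b : G) * y * a * h.d 0 := by
          show (b : G) * a * y = _
          calc (b : G) * a * y = b * (a * y) := by group
            _ = b * (y * a * h.d 0) := by rw [ha']
            _ = _ := by group
        by_cases hb : b ∈ K
        · right
          refine ⟨hb, fun hba => ?_⟩
          rw [hmem, e1, (hmem b).1 hb] at hba
          apply h.d_ne_one 0
          have e2 : y * (b : G) * a * h.d 0 = y * (b * a) * h.d 0 := by group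
          rw [e2] at hba
          have e3 : y * ((b : G) * a) * h.d 0 = y * (b * a) * 1 := by rw [hba, mul_one]; rfl
          exact mul_left_cancel e3
        · left
          refine ⟨?_, hb⟩
          have hb' : (b : G) * y = y * b * h.d 0 :=
            (h.Q_comm b b.2 y hy).resolve_left (fun h' => hb ((hmem b).2 h'))
          rw [hmem, e1, hb']
          show y * (b : G) * h.d 0 * a * h.d 0 = y * (b * a)
          calc y * (b : G) * h.d 0 * a * h.d 0 = y * b * (h.d 0 * a) * h.d 0 := by group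
            _ = y * b * (a * h.d 0) * h.d 0 := by rw [hz a a.2]
            _ = y * (b * a) * (h.d 0 * h.d 0) := by group
            _ = _ := by rw [d_sq h, mul_one]
      rw [h1]
  have h1 := K.card_mul_index
  rw [h.card_Q] at h1
  rw [hcard]
  nlinarith

omit h in
/-- A 2-subgroup of `M ≥ T` is conjugate in `M` into `T`. -/
theorem exists_conj_into {M : Subgroup G} (hM : (T : Subgroup G) ≤ M) {W : Subgroup G}
    (hW : IsPGroup 2 W) (hWM : W ≤ M) : ∃ c ∈ M, ∀ w ∈ W, c * w * c⁻¹ ∈ (T : Subgroup G) := by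
  have h2 : Fact (Nat.Prime 2) := ⟨Nat.prime_two⟩
  have h1 : IsMaxP 2 M (T : Subgroup G) :=
    ⟨T.2, hM, fun R' hR' _ hTR => (T.3 hR' hTR).le⟩
  obtain ⟨c, hc, hcW⟩ := h1.exists_conj_le hW hWM
  exact ⟨c, hc, fun w hw => hcW ⟨w, hw, rfl⟩⟩

theorem T_le_cent : (T : Subgroup G) ≤ centralizer ({h.d 0} : Set G) := fun g hg =>
  mem_centralizer_singleton_iff.2 (h.z_comm g hg)

/-- KEY LEMMA: if `y` is an involution of `T` outside `E` and `k` conjugates `C_Q(y)` into `T`, then `k`
centralizes `z`. -/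
theorem key_comm {y k : G} (hT : y ∈ (T : Subgroup G)) (hyy : y * y = 1) (hyE : y ∉ h.E)
    (hkX : ∀ x ∈ h.Q, x * y = y * x → k * x * k⁻¹ ∈ (T : Subgroup G)) :
    k * h.d 0 * k⁻¹ = h.d 0 := by
  have hyQ : y ∈ h.Q := (h.invol y hT hyy).resolve_left hyE
  obtain ⟨v, hvQ, hvy, hvv⟩ := h.z_sq_u y hT hyy hyE
  set X : Subgroup G := h.Q ⊓ centralizer ({y} : Set G) with hX
  have hkX' : ∀ x ∈ X, k * x * k⁻¹ ∈ (T : Subgroup G) := fun x hx =>
    hkX x hx.1 (mem_centralizer_singleton_iff.1 hx.2)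
  have hvX : v ∈ X := ⟨hvQ, mem_centralizer_singleton_iff.2 hvy⟩
  have hsq : k * v * k⁻¹ * (k * v * k⁻¹) = k * h.d 0 * k⁻¹ := by
    rw [← hvv]; group
  have hkzV : k * h.d 0 * k⁻¹ ∈ h.V := by
    rw [← hsq]
    exact h.sq_mem_V _ (hkX' v hvX)
  have hkzE : k * h.d 0 * k⁻¹ ∈ h.E := by
    apply h.V_invol _ hkzV
    calc k * h.d 0 * k⁻¹ * (k * h.d 0 * k⁻¹) = k * (h.d 0 * h.d 0) * k⁻¹ := by group
      _ = 1 := by rw [d_sq h]; group
  obtain ⟨n, -, hn, hnk⟩ := exists_norm h (M := ⊤) le_top (mem_top k) (h.d_mem 0) hkzE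
  obtain ⟨j, hj⟩ := perm h hn 0
  rw [hnk] at hj
  by_cases hj0 : j = 0
  · rw [hj, hj0]
  · exfalso
    have hXV : ∀ x ∈ X, k * x * k⁻¹ ∈ h.V := by
      intro x hx
      apply h.cent_d j hj0 _ (hkX' x hx)
      rw [← hj]
      have h1 := h.z_comm x (h.Q_le hx.1)
      calc k * x * k⁻¹ * (k * h.d 0 * k⁻¹) = k * (x * h.d 0) * k⁻¹ := by group
        _ = k * (h.d 0 * x) * k⁻¹ := by rw [h1]
        _ = _ := by group
    have hXL : X.map (MulAut.conj k).toMonoidHom ≤ h.L j := by
      rintro _ ⟨x, hx, rfl⟩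
      rw [h.mem_L]
      refine ⟨hXV x hx, ?_⟩
      show k * x * k⁻¹ * (k * x * k⁻¹) = 1 ∨ k * x * k⁻¹ * (k * x * k⁻¹) = h.d j
      have e : k * x * k⁻¹ * (k * x * k⁻¹) = k * (x * x) * k⁻¹ := by group
      rw [e]
      rcases h.Q_sq x hx.1 with h1 | h1
      · left; rw [h1]; group
      · right; rw [h1, hj]
    have hcard : Nat.card (h.L j) ≤ Nat.card (X.map (MulAut.conj k).toMonoidHom) := by
      rw [h.card_L, card_map_conj]
      exact card_cent_Q h hyQ
    have hEq := eq_of_le_of_card_ge hXL hcard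
    have hEX : ∀ x ∈ h.E, k⁻¹ * x * k ∈ X := by
      intro x hx
      have h1 : x ∈ h.L j := (h.mem_L j x).2 ⟨h.E_le hx, Or.inl (h.E_sq x hx)⟩
      rw [← hEq] at h1
      exact mem_map_conj.1 h1
    have hkN : k⁻¹ ∈ normalizer (h.E : Set G) := by
      apply conj_mem_E h
      intro x hx
      rw [inv_inv]
      exact h.Q_le (hEX x hx).1
    have h3 := norm_conj h ((normalizer (h.E : Set G)).inv_mem hkN) (h.d_mem 1)
    have h4 := hEX _ h3
    have e : k⁻¹ * (k⁻¹⁻¹ * h.d 1 * k⁻¹⁻¹⁻¹) * k = h.d 1 := by group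
    rw [e] at h4
    exact h.d_not_mem_Q 1 (by decide) h4.1

/-- KEY LEMMA: `z` is not conjugate to an involution of `T` outside `E`. -/
theorem key {g : G} (hT : g * h.d 0 * g⁻¹ ∈ (T : Subgroup G)) : g * h.d 0 * g⁻¹ ∈ h.E := by
  by_contra hyE
  set y := g * h.d 0 * g⁻¹ with hy
  have hyy : y * y = 1 := by
    rw [hy]
    calc g * h.d 0 * g⁻¹ * (g * h.d 0 * g⁻¹) = g * (h.d 0 * h.d 0) * g⁻¹ := by group
      _ = 1 := by rw [d_sq h]; group
  set X : Subgroup G := h.Q ⊓ centralizer ({y} : Set G) with hX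
  have hX2 : IsPGroup 2 X := T.2.to_le (inf_le_left.trans h.Q_le)
  have hW : X.map (MulAut.conj g⁻¹).toMonoidHom ≤ centralizer ({h.d 0} : Set G) := by
    rintro _ ⟨x, hx, rfl⟩
    have h1 := mem_centralizer_singleton_iff.1 hx.2
    rw [mem_centralizer_singleton_iff]
    show g⁻¹ * x * g⁻¹⁻¹ * h.d 0 = h.d 0 * (g⁻¹ * x * g⁻¹⁻¹)
    calc g⁻¹ * x * g⁻¹⁻¹ * h.d 0 = g⁻¹ * (x * y) * g := by rw [hy]; group
      _ = g⁻¹ * (y * x) * g := by rw [h1]
      _ = _ := by rw [hy]; group
  obtain ⟨c, hc, hcW⟩ := exists_conj_into (T_le_cent h) (hX2.map _) hW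
  set k := c * g⁻¹ with hk
  have hky : k * y * k⁻¹ = h.d 0 := by
    have h1 := mem_centralizer_singleton_iff.1 hc
    calc k * y * k⁻¹ = c * h.d 0 * c⁻¹ := by rw [hk, hy]; group
      _ = h.d 0 * c * c⁻¹ := by rw [h1]
      _ = _ := by group
  have hkX : ∀ x ∈ h.Q, x * y = y * x → k * x * k⁻¹ ∈ (T : Subgroup G) := by
    intro x hx hxy
    have h1 := hcW _ ⟨x, ⟨hx, mem_centralizer_singleton_iff.2 hxy⟩, rfl⟩
    have e : c * (MulAut.conj g⁻¹).toMonoidHom x * c⁻¹ = k * x * k⁻¹ := by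
      show c * (g⁻¹ * x * g⁻¹⁻¹) * c⁻¹ = _
      rw [hk]; group
    rwa [e] at h1
  have hj := key_comm h hT hyy hyE hkX
  apply hyE
  have h1 : h.d 0 = y := mul_left_cancel (mul_right_cancel (hj.trans hky.symm))
  rw [← h1]; exact h.d_mem 0

/-- `z^G ∩ T = {d 0, ..., d 4}` -/
theorem z_fus {g : G} (hT : g * h.d 0 * g⁻¹ ∈ (T : Subgroup G)) :
    ∃ i, g * h.d 0 * g⁻¹ = h.d i := by
  have hE := key h hT
  obtain ⟨n, -, hn, hnk⟩ := exists_norm h (M := ⊤) le_top (mem_top g) (h.d_mem 0) hE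
  rw [← hnk]
  exact perm h hn 0

/-! ### Permutations -/

theorem exists_perm {g : G} (hg : g ∈ normalizer (h.E : Set G)) :
    ∃ π : Equiv.Perm (Fin 5), ∀ i, g * h.d i * g⁻¹ = h.d (π i) := by
  choose f hf using fun i => perm h hg i
  have hinj : Function.Injective f := by
    intro i j hij
    apply h.d_inj
    have h1 : g * h.d i * g⁻¹ = g * h.d j * g⁻¹ := by rw [hf, hf, hij]
    exact mul_left_cancel (mul_right_cancel h1)
  exact ⟨Equiv.ofBijective f (Finite.injective_iff_bijective.1 hinj), hf⟩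

/-- the group of permutations induced by `N(E)` -/
def R : Subgroup (Equiv.Perm (Fin 5)) where
  carrier := {π | ∃ g ∈ normalizer (h.E : Set G), ∀ i, g * h.d i * g⁻¹ = h.d (π i)}
  one_mem' := ⟨1, one_mem _, fun i => by simp⟩
  mul_mem' := by
    rintro π σ ⟨g, hg, hgi⟩ ⟨k, hk, hki⟩
    refine ⟨g * k, mul_mem hg hk, fun i => ?_⟩
    calc g * k * h.d i * (g * k)⁻¹ = g * (k * h.d i * k⁻¹) * g⁻¹ := by group
      _ = _ := by rw [hki, hgi]; rfl
  inv_mem' := by
    rintro π ⟨g, hg, hgi⟩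
    refine ⟨g⁻¹, inv_mem hg, fun i => ?_⟩
    have h1 := hgi (π⁻¹ i)
    have h2 : π (π⁻¹ i) = i := π.apply_symm_apply i
    rw [h2] at h1
    rw [← h1]; group

/-- elements of `T` induce double transpositions fixing 0 -/
theorem perm_T {g : G} (hg : g ∈ (T : Subgroup G)) {π : Equiv.Perm (Fin 5)}
    (hπ : ∀ i, g * h.d i * g⁻¹ = h.d (π i)) :
    π 0 = 0 ∧ (∀ i, π (π i) = i) ∧ (π ≠ 1 → ∀ i, i ≠ 0 → π i ≠ i) := by
  refine ⟨?_, ?_, ?_⟩
  · apply h.d_inj
    rw [← hπ, h.z_comm g hg]; group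
  · intro i
    apply h.d_inj
    rw [← hπ, ← hπ]
    have h1 := V_comm_E h (h.sq_mem_V g hg) (h.d_mem i)
    calc g * (g * h.d i * g⁻¹) * g⁻¹ = (g * g * h.d i) * (g * g)⁻¹ := by group
      _ = h.d i := by rw [h1]; group
  · intro hne i hi hfix
    apply hne
    have h1 : g ∈ h.V := by
      apply h.cent_d i hi g hg
      have := hπ i
      rw [hfix] at this
      calc g * h.d i = g * h.d i * g⁻¹ * g := by group
        _ = h.d i * g := by rw [this]
    ext j
    have h3 : π j = j := by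
      apply h.d_inj
      rw [← hπ, V_comm_E h h1 (h.d_mem j)]; group
    rw [h3]; rfl

/-- all permutations induced by `N(E)` are even -/
theorem R_le : R h ≤ alternatingGroup (Fin 5) := by
  have h2 : Fact (Nat.Prime 2) := ⟨Nat.prime_two⟩
  rintro π ⟨g, hg, hgi⟩
  rw [Equiv.Perm.mem_alternatingGroup]
  obtain ⟨k, m, hm, hkm⟩ := Nat.exists_eq_two_pow_mul_odd (orderOf_pos g).ne'
  -- the power `g ^ m`
  have hpow : ∀ n : ℕ, ∀ i, g ^ n * h.d i * (g ^ n)⁻¹ = h.d ((π ^ n) i) := by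
    intro n
    induction n with
    | zero => intro i; simp
    | succ n ih =>
      intro i
      calc g ^ (n + 1) * h.d i * (g ^ (n + 1))⁻¹ = g * (g ^ n * h.d i * (g ^ n)⁻¹) * g⁻¹ := by
            rw [pow_succ']; group
        _ = h.d (π ((π ^ n) i)) := by rw [ih, hgi]
        _ = _ := by rw [pow_succ']; rfl
  have hx : (g ^ m) ^ 2 ^ k = 1 := by
    rw [← pow_mul, mul_comm, ← hkm]; exact pow_orderOf_eq_one g
  obtain ⟨c, hc, hcT⟩ := Cfsg.Agent.R15.NormalElem.exists_conj_mem T (normalizer (h.E : Set G))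
    (T_le_normalizer h) (pow_mem hg m) hx
  obtain ⟨σ, hσ⟩ := exists_perm h hc
  have hconj : ∀ i, c * g ^ m * c⁻¹ * h.d i * (c * g ^ m * c⁻¹)⁻¹ = h.d ((σ * π ^ m * σ⁻¹) i) := by
    intro i
    have h3 : h.d i = c * h.d (σ⁻¹ i) * c⁻¹ := by
      rw [hσ]
      congr 1
      exact (σ.apply_symm_apply i).symm
    calc c * g ^ m * c⁻¹ * h.d i * (c * g ^ m * c⁻¹)⁻¹
        = c * g ^ m * c⁻¹ * (c * h.d (σ⁻¹ i) * c⁻¹) * (c * g ^ m * c⁻¹)⁻¹ := by rw [← h3]
      _ = c * (g ^ m * h.d (σ⁻¹ i) * (g ^ m)⁻¹) * c⁻¹ := by group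
      _ = _ := by rw [hpow, hσ]; rfl
  obtain ⟨h4, h5, h6⟩ := perm_T h hcT hconj
  have h7 := PermFive.dt_even _ h4 h5 h6
  have h8 : Equiv.Perm.sign π ^ m = 1 := by
    rw [← map_pow]
    rw [map_mul, map_mul, mul_comm (Equiv.Perm.sign σ), mul_assoc, ← map_mul, mul_inv_cancel,
      map_one, mul_one] at h7
    exact h7
  obtain ⟨n, hn⟩ := hm
  rw [hn, pow_add, pow_mul, pow_one] at h8
  rcases Int.units_eq_one_or (Equiv.Perm.sign π) with h9 | h9
  · exact h9
  · rw [h9] at h8
    simp only [_root_.even_two, _root_.Even.neg_pow, _root_.one_pow, _root_.mul_neg, _root_.mul_one, _root_.neg_units_ne_self] at h8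

theorem a0_mem_R : PermFive.a0 ∈ R h := by
  obtain ⟨g, hg, hgd⟩ := h.conj_d_trans 2 (by decide)
  obtain ⟨π, hπ⟩ := exists_perm h (T_le_normalizer h hg)
  obtain ⟨h4, h5, h6⟩ := perm_T h hg hπ
  have h7 : π 1 = 2 := h.d_inj _ _ (by rw [← hπ, hgd])
  rw [← PermFive.dt2 π h4 h5 h6 h7]
  exact ⟨g, T_le_normalizer h hg, hπ⟩

theorem b0_mem_R : PermFive.b0 ∈ R h := by
  obtain ⟨g, hg, hgd⟩ := h.conj_d_trans 3 (by decide)
  obtain ⟨π, hπ⟩ := exists_perm h (T_le_normalizer h hg)
  obtain ⟨h4, h5, h6⟩ := perm_T h hg hπ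
  have h7 : π 1 = 3 := h.d_inj _ _ (by rw [← hπ, hgd])
  rw [← PermFive.dt3 π h4 h5 h6 h7]
  exact ⟨g, T_le_normalizer h hg, hπ⟩

/-- `N(E)` moves `z`. -/
theorem exists_moved [IsSimpleGroup G] : ∃ g ∈ normalizer (h.E : Set G), g * h.d 0 * g⁻¹ ≠ h.d 0 := by
  by_contra hcon
  push Not at hcon
  have hiso : ∀ g : G, g * h.d 0 * g⁻¹ ∈ (T : Subgroup G) → g * h.d 0 * g⁻¹ = h.d 0 := by
    intro g hg
    obtain ⟨n, -, hn, hnk⟩ := exists_norm h (M := ⊤) le_top (mem_top g) (h.d_mem 0) (key h hg)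
    rw [← hnk]
    exact hcon n hn
  have hord : orderOf (h.d 0) = 2 :=
    orderOf_eq_prime (by rw [pow_two]; exact d_sq h 0) (h.d_ne_one 0)
  obtain ⟨N, hN, hNo, hNc⟩ := Cfsg.Agent.S0215.result T (h.d 0) hord (d_mem_T h 0) hiso
  have hN1 : N ≠ ⊤ := by
    rintro rfl
    rw [card_top] at hNo
    have h3 : 2 ∣ Nat.card G := by
      rw [← hord]; exact orderOf_dvd_natCard _
    exact (Nat.not_even_iff_odd.2 hNo) (even_iff_two_dvd.2 h3)
  have hN0 : N = ⊥ := (hN.eq_bot_or_eq_top).resolve_right hN1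
  have hcen : h.d 0 ∈ center G := by
    rw [mem_center_iff]
    intro g
    have h3 := hNc g
    rw [hN0, mem_bot] at h3
    calc g * h.d 0 = 1 * (g * h.d 0) := by group
      _ = h.d 0 * g * (h.d 0)⁻¹ * g⁻¹ * (g * h.d 0) := by rw [h3]
      _ = _ := by group
  have hctop : center G = ⊤ := by
    refine (inferInstance : (center G).Normal).eq_bot_or_eq_top.resolve_left ?_
    intro hb
    rw [hb, mem_bot] at hcen
    exact h.d_ne_one 0 hcen
  obtain ⟨g, -, hg⟩ := h.conj_d_trans 2 (by decide)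
  have h3 : h.d 1 ∈ center G := by rw [hctop]; exact mem_top _
  have h4 := mem_center_iff.1 h3 g
  rw [h4, mul_inv_cancel_right] at hg
  exact absurd (h.d_inj _ _ hg) (by decide)

/-- `N(E)` induces the alternating group on the `d i`. -/
theorem R_eq [IsSimpleGroup G] : R h = alternatingGroup (Fin 5) := by
  obtain ⟨g, hg, hgz⟩ := exists_moved h
  obtain ⟨π, hπ⟩ := exists_perm h hg
  refine PermFive.eq_alternating (R_le h) (a0_mem_R h) (b0_mem_R h) (r := π) ⟨g, hg, hπ⟩ ?_
  intro h0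
  apply hgz
  rw [hπ, h0]

theorem E_alt [IsSimpleGroup G] {π : Equiv.Perm (Fin 5)} (hπ : π ∈ alternatingGroup (Fin 5)) :
    ∃ n ∈ normalizer (h.E : Set G), ∀ i, n * h.d i * n⁻¹ = h.d (π i) := by
  rw [← R_eq h] at hπ
  exact hπ

end Sylow

end Cfsg.Agent.SylowU5.Fusion
end
end

-- part: SylowU5/SolvT
section
set_option linter.all false
open scoped Cfsg.Agent.FastGrp

/-! Step (3) of S0513: `C_G(t)` is solvable when `C_G(z)` is. -/

set_option autoImplicit false
set_option linter.style.haveILetI false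

namespace Cfsg.Agent.SylowU5.SolvT

universe u v

open Cfsg.Agent.SylowU5.Basic Cfsg.Agent.SylowU5.Elem

/-- The odd order theorem in the universe `v`. -/
def OddOrder.{w} : Prop := ∀ (K : Type w) [Group K] [Finite K], Odd (Nat.card K) → Group.IsSolvable K

/-- a finite group with a solvable subgroup of index at most two is solvable -/
theorem solvable_of_two_cosets {K : Type*} [Group K] [Finite K] (C : Subgroup K)
    (hC : Group.IsSolvable C) (s : K) (hs : ∀ g : K, g ∈ C ∨ s⁻¹ * g ∈ C) : Group.IsSolvable K := by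
  by_cases htop : C = ⊤
  · subst htop
    exact Group.isSolvable_of_surjective (f := (Subgroup.topEquiv (G := K)).toMonoidHom)
      (Subgroup.topEquiv (G := K)).surjective
  have hidx : C.index = 2 := by
    have h1 : C.index ≤ 2 := by
      have : Nat.card (K ⧸ C) ≤ Nat.card Bool := by
        apply Nat.card_le_card_of_surjective (fun b : Bool => if b then (QuotientGroup.mk 1 : K ⧸ C)
          else QuotientGroup.mk s)
        intro q
        obtain ⟨g, rfl⟩ := QuotientGroup.mk_surjective q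
        rcases hs g with h1 | h1
        · refine ⟨true, ?_⟩
          simp only [if_true]
          rw [QuotientGroup.eq]
          simpa using h1
        · refine ⟨false, ?_⟩
          simp only [Bool.false_eq_true, if_false]
          rw [QuotientGroup.eq]
          exact h1
      simpa [Subgroup.index] using this
    have h2 : C.index ≠ 1 := fun h => htop (Subgroup.index_eq_one.mp h)
    have h3 : C.index ≠ 0 := Subgroup.index_ne_zero_of_finite
    omega
  haveI : C.Normal := Subgroup.normal_of_index_eq_two hidx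
  haveI := hC
  have hq : Nat.card (K ⧸ C) = 2 := hidx
  haveI : Fact (Nat.Prime 2) := ⟨Nat.prime_two⟩
  haveI : IsCyclic (K ⧸ C) := isCyclic_of_prime_card hq
  haveI : Group.IsSolvable (K ⧸ C) := by
    letI := IsCyclic.commGroup (α := K ⧸ C)
    infer_instance
  exact (Group.isSolvable_iff_subgroup_quotient (H := C)).mpr ⟨inferInstance, inferInstance⟩

theorem conj_mul_eq {K : Type*} [Group K] (r g x : K) :
    r * g * x * (r * g)⁻¹ = r * (g * x * g⁻¹) * r⁻¹ := by group

/-- solvability from the Z*-theorem modulo a central involution -/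
theorem solvable_of_core {K : Type*} [Group K] [Finite K] (x t : K) (O : Subgroup K) (hO : O.Normal)
    (hOs : Group.IsSolvable O) (hC : Group.IsSolvable ↥(Subgroup.centralizer ({x} : Set K)))
    (hcore : ∀ g : K, ∃ r ∈ O, r * (g * x * g⁻¹) * r⁻¹ = x ∨ r * (g * x * g⁻¹) * r⁻¹ = t * x) :
    Group.IsSolvable K := by
  set π := QuotientGroup.mk' O
  set C : Subgroup K := Subgroup.centralizer ({x} : Set K) with hCdef
  have hCm : Group.IsSolvable (C.map π) := by
    haveI := hC
    exact Group.isSolvable_of_surjective (f := π.subgroupMap C) (π.subgroupMap_surjective C)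
  have hmemC : ∀ g : K, g * x * g⁻¹ = x → g ∈ C := by
    intro g hg
    rw [hCdef, Subgroup.mem_centralizer_singleton_iff]
    rw [mul_inv_eq_iff_eq_mul] at hg
    exact hg
  have hπr : ∀ r ∈ O, π r = 1 := fun r hr => (QuotientGroup.eq_one_iff r).mpr hr
  have hQ : Group.IsSolvable (K ⧸ O) := by
    by_cases hall : ∀ g : K, π g ∈ C.map π
    · apply solvable_of_two_cosets (C.map π) hCm 1
      intro q
      obtain ⟨g, rfl⟩ := QuotientGroup.mk'_surjective O q
      exact Or.inl (hall g)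
    · push Not at hall
      obtain ⟨s, hs⟩ := hall
      have hs' : ∃ s' : K, π s' = π s ∧ s' * x * s'⁻¹ = t * x := by
        obtain ⟨r, hr, h1 | h1⟩ := hcore s
        · exfalso
          apply hs
          refine ⟨r * s, hmemC _ ?_, ?_⟩
          · rw [conj_mul_eq, h1]
          · rw [map_mul, hπr r hr, one_mul]
        · refine ⟨r * s, ?_, ?_⟩
          · rw [map_mul, hπr r hr, one_mul]
          · rw [conj_mul_eq, h1]
      obtain ⟨s', hs1, hs2⟩ := hs'
      apply solvable_of_two_cosets (C.map π) hCm (π s')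
      intro q
      obtain ⟨g, rfl⟩ := QuotientGroup.mk'_surjective O q
      obtain ⟨r, hr, h1 | h1⟩ := hcore g
      · left
        refine ⟨r * g, hmemC _ ?_, ?_⟩
        · rw [conj_mul_eq, h1]
        · rw [map_mul, hπr r hr, one_mul]
      · right
        refine ⟨s'⁻¹ * (r * g), hmemC _ ?_, ?_⟩
        · have h2 : s'⁻¹ * (r * g) * x * (s'⁻¹ * (r * g))⁻¹ =
              s'⁻¹ * (r * (g * x * g⁻¹) * r⁻¹) * s' := by group
          rw [h2, h1, ← hs2]; group
        · rw [map_mul, map_mul, hπr r hr, one_mul, map_inv]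
  haveI := hQ
  haveI := hOs
  haveI := hO
  exact (Group.isSolvable_iff_subgroup_quotient (H := O)).mpr ⟨inferInstance, inferInstance⟩

end Cfsg.Agent.SylowU5.SolvT
end

-- part: SylowU5/Prime
section
prune_inst 0x430102504752200000018001020001c62b2000002004b00000040000004c90c4120060621ba60031001128474003a8060034400094038000020008a00411c0481040032c2b048b00021001040c804000000000000000000000000000000000000200000000
set_option linter.all false
open scoped Cfsg.Agent.FastGrp

-- part: SylowU5/Rel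
section
/-!
# Solvability of subgroups from the Z*-theorem (relative forms)
-/

set_option autoImplicit false
open Cfsg

namespace Cfsg.Agent.SylowU5.Rel

universe u

open Subgroup Cfsg.Agent.SignalizersComponents.RelSylow Cfsg.Agent.SylowU5.SolvT

theorem zStar : Cfsg.Agent.R01.Closing.ZStar.{u} := fun _ _ _ P v hv hvP hiso =>
  Cfsg.Agent.S0215.result P v hv hvP hiso

/-- a subgroup of a solvable subgroup is solvable -/
theorem solvable_mono {G : Type*} [Group G] {A B : Subgroup G} (hAB : A ≤ B)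
    (hB : Group.IsSolvable B) : Group.IsSolvable A :=
  Group.isSolvable_of_isSolvable_injective (inclusion_injective hAB)

/-- conjugates of solvable subgroups are solvable -/
theorem solvable_of_conj {G : Type*} [Group G] {A B : Subgroup G} (g : G)
    (h : ∀ a ∈ A, g * a * g⁻¹ ∈ B) (hB : Group.IsSolvable B) : Group.IsSolvable A := by
  have h1 : A.map (MulAut.conj g).toMonoidHom ≤ B := by
    rintro _ ⟨a, ha, rfl⟩
    exact h a ha
  have h2 := solvable_mono h1 hB
  have e := A.equivMapOfInjective (MulAut.conj g).toMonoidHom (MulAut.conj g).injective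
  exact Group.isSolvable_of_isSolvable_injective (f := e.toMonoidHom) e.injective

/-- centralizers in a subgroup -/
theorem solvable_centralizer_subtype {G : Type*} [Group G] {M : Subgroup G} (x : M)
    (hC : Group.IsSolvable ↥(M ⊓ centralizer ({(x : G)} : Set G))) :
    Group.IsSolvable ↥(centralizer ({x} : Set M)) := by
  let f : ↥(centralizer ({x} : Set M)) →* ↥(M ⊓ centralizer ({(x : G)} : Set G)) :=
    { toFun := fun y => ⟨((y : M) : G), (y : M).2, mem_centralizer_singleton_iff.2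
        (congrArg Subtype.val (mem_centralizer_singleton_iff.1 y.2))⟩
      map_one' := rfl
      map_mul' := fun _ _ => rfl }
  have hf : Function.Injective f := by
    intro a b hab
    apply Subtype.ext
    apply Subtype.ext
    have h5 : ((f a : ↥(M ⊓ centralizer ({(x : G)} : Set G))) : G) = f b := by rw [hab]
    exact h5
  exact Group.isSolvable_of_isSolvable_injective hf

/-- Z*-theorem modulo a central involution, solvability form: `x ∈ R`, `R` Sylow in `M ≤ C(t)`, all conjugates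
of `x` in `R` are `x` or `t x`, and `C_M(x)` is solvable; then `M` is solvable. -/
theorem solvable_of_isolated_mod {G : Type u} [Group G] [Finite G] (hFT : OddOrder.{u})
    {M R : Subgroup G} (hR : IsMaxP 2 M R) {x t : G} (hx : x ∈ R) (ht : t ∈ R)
    (hMt : ∀ m ∈ M, m * t = t * m) (hxx : x * x = 1) (htt : t * t = 1) (hx1 : x ≠ 1) (ht1 : t ≠ 1)
    (hxt : x ≠ t)
    (hiso : ∀ m ∈ M, m * x * m⁻¹ ∈ R → m * x * m⁻¹ = x ∨ m * x * m⁻¹ = t * x)
    (hC : Group.IsSolvable ↥(M ⊓ centralizer ({x} : Set G))) : Group.IsSolvable M := by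
  have h2 : Fact (Nat.Prime 2) := ⟨Nat.prime_two⟩
  let x' : M := ⟨x, hR.2.1 hx⟩
  let t' : M := ⟨t, hR.2.1 ht⟩
  have htord : orderOf t' = 2 := orderOf_eq_prime (by rw [pow_two]; exact Subtype.ext htt)
    (fun h => ht1 (congrArg Subtype.val h))
  obtain ⟨O, hO, hOo, hOc⟩ := Cfsg.Agent.R01.Closing.exists_core zStar t' x' htord
    (fun g => Subtype.ext (hMt g g.2)) (Subtype.ext hxx) (fun h => hx1 (congrArg Subtype.val h))
    (fun h => hxt (congrArg Subtype.val h)) hR.toSylow
    (by show x' ∈ R.subgroupOf M; rw [mem_subgroupOf]; exact hx)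
    (by show t' ∈ R.subgroupOf M; rw [mem_subgroupOf]; exact ht)
    (by
      intro g hg
      have hg' : (g : G) * x * (g : G)⁻¹ ∈ R := hg
      rcases hiso g g.2 hg' with h | h
      · left; exact Subtype.ext h
      · right; exact Subtype.ext h)
  exact solvable_of_core x' t' O hO (hFT O hOo)
    (solvable_centralizer_subtype x' hC) hOc

/-- the quotient of a finite group by the odd core is covered by `N` -/
theorem solvable_of_cover {G : Type u} [Group G] [Finite G] (hFT : OddOrder.{u}) (N : Subgroup G)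
    (hN : Group.IsSolvable N) (h : ∀ g : G, ∃ o ∈ oddCore G, ∃ c ∈ N, g = o * c) :
    Group.IsSolvable G := by
  have hOn : (oddCore G).Normal := Cfsg.Agent.Lib.Cores.pPrimeCore_normal 2
  have hOs : Group.IsSolvable (oddCore G) := hFT _
    (Nat.coprime_two_right.mp (Cfsg.Agent.Lib.Cores.pPrimeCore_coprime 2))
  have hQ : Group.IsSolvable (G ⧸ oddCore G) := by
    let f : N →* G ⧸ oddCore G := (QuotientGroup.mk' (oddCore G)).comp N.subtype
    have hf : Function.Surjective f := by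
      intro q
      obtain ⟨g, rfl⟩ := QuotientGroup.mk'_surjective (oddCore G) q
      obtain ⟨o, ho, c, hc, rfl⟩ := h g
      refine ⟨⟨c, hc⟩, ?_⟩
      show QuotientGroup.mk' (oddCore G) c = QuotientGroup.mk' (oddCore G) (o * c)
      rw [map_mul, show QuotientGroup.mk' (oddCore G) o = 1 from (QuotientGroup.eq_one_iff o).2 ho,
        one_mul]
    exact Group.isSolvable_of_surjective hf
  exact (Group.isSolvable_iff_subgroup_quotient (H := oddCore G)).mpr ⟨hOs, hQ⟩

/-- If all elements of the 2-subgroup `A ≤ R` are isolated in `M`, then `M = O(M) C_M(A)`;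
solvability form. -/
theorem solvable_of_isolated {G : Type u} [Group G] [Finite G] (hFT : OddOrder.{u})
    {M R : Subgroup G} (hR : IsMaxP 2 M R) {A : Subgroup G} (hA : A ≤ R)
    (hiso : ∀ a ∈ A, ∀ m ∈ M, m * a * m⁻¹ ∈ R → m * a * m⁻¹ = a)
    (hC : Group.IsSolvable ↥(M ⊓ centralizer (A : Set G))) : Group.IsSolvable M := by
  have h2 : Fact (Nat.Prime 2) := ⟨Nat.prime_two⟩
  let A' : Subgroup M := A.subgroupOf M
  have h1 := Cfsg.Agent.TwoFusion.IsolatedCenter.commutator_mem_oddCore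
    (fun G _ _ P v hv hvP hiso => Cfsg.Agent.S0215.result P v hv hvP hiso) (Nat.card M) M le_rfl
    hR.toSylow A' (by
      intro a ha
      show a ∈ R.subgroupOf M
      rw [mem_subgroupOf] at ha ⊢
      exact hA ha)
    (by
      intro a ha g hg
      rw [mem_subgroupOf] at ha
      apply Subtype.ext
      exact hiso a ha g g.2 hg)
  have hA2 : IsPGroup 2 A' := by
    have hA3 : IsPGroup 2 A := hR.1.to_le hA
    exact hA3.comap_of_injective M.subtype M.subtype_injective
  refine solvable_of_cover hFT (centralizer (A' : Set M)) ?_ ?_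
  · let f : ↥(centralizer (A' : Set M)) →* ↥(M ⊓ centralizer (A : Set G)) :=
      { toFun := fun y => ⟨((y : M) : G), (y : M).2, mem_centralizer_iff.2 (fun a ha => by
          have haM : a ∈ M := hR.2.1 (hA ha)
          have h3 := mem_centralizer_iff.1 y.2 ⟨a, haM⟩ (by
            show (⟨a, haM⟩ : M) ∈ A.subgroupOf M
            rw [mem_subgroupOf]; exact ha)
          exact congrArg Subtype.val h3)⟩
        map_one' := rfl
        map_mul' := fun _ _ => rfl }
    have hf : Function.Injective f := by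
      intro a b hab
      apply Subtype.ext
      apply Subtype.ext
      have h5 : ((f a : ↥(M ⊓ centralizer (A : Set G))) : G) = f b := by rw [hab]
      exact h5
    exact Group.isSolvable_of_isSolvable_injective hf
  · intro g
    exact Cfsg.Agent.TwoFusion.IsolatedCenter.exists_eq_mul A' hA2 h1 g

end Cfsg.Agent.SylowU5.Rel
end

-- part: SylowU5/Prime
section
/-!
# Solvability of `C(u) ∩ C(z)` for the involutions `u ≠ z` of `Q` (step (2') of S0513)
-/

set_option autoImplicit false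
set_option linter.unusedVariables false
set_option linter.unusedSectionVars false
open Cfsg

namespace Cfsg.Agent.SylowU5.Prime

universe u

open Subgroup Cfsg.Agent.SylowU5.Basic Cfsg.Agent.SignalizersComponents.RelSylow
  Cfsg.Agent.SylowU5.SolvT Cfsg.Agent.SylowU5.Fusion Cfsg.Agent.SylowU5.Rel

section Perm

open Equiv.Perm

set_option maxRecDepth 1000000

theorem eq_one_of_three : ∀ π : Equiv.Perm (Fin 5), sign π = 1 → π 0 = 0 → π 1 = 1 → π 2 = 2 →
    π = 1 := by (set_option synthInstance.maxSize 9000 in open scoped Cfsg.Agent.Lib.FastPerm in decide +kernel)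

theorem exists_two_trans : ∀ i j : Fin 5, i ≠ 0 → j ≠ 0 → i ≠ j →
    ∃ π : Equiv.Perm (Fin 5), sign π = 1 ∧ π 0 = 0 ∧ π 1 = i ∧ π 2 = j := by (set_option synthInstance.maxSize 9000 in open scoped Cfsg.Agent.Lib.FastPerm in decide +kernel)

theorem exists_zero_to : ∀ i : Fin 5, ∃ π : Equiv.Perm (Fin 5), sign π = 1 ∧ π 0 = i := by (set_option synthInstance.maxSize 9000 in open scoped Cfsg.Agent.Lib.FastPerm in decide +kernel)

theorem exists_pair_to : ∀ i j : Fin 5, i ≠ j →
    ∃ π : Equiv.Perm (Fin 5), sign π = 1 ∧ π 1 = i ∧ π 2 = j := by (set_option synthInstance.maxSize 9000 in open scoped Cfsg.Agent.Lib.FastPerm in decide +kernel)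

end Perm

variable {G : Type u} [Group G] [Finite G] {T : Sylow 2 G} (h : U5T (T : Subgroup G))
include h

theorem mem_cent_E {g : G} (hg : ∀ i, g * h.d i = h.d i * g) : g ∈ centralizer (h.E : Set G) := by
  rw [mem_centralizer_iff]
  intro x hx
  rcases h.E_cases x hx with rfl | ⟨i, rfl⟩ | ⟨i, j, -, rfl⟩
  · simp
  · exact (hg i).symm
  · calc h.d i * h.d j * g = h.d i * (h.d j * g) := by group
      _ = h.d i * (g * h.d j) := by rw [hg j]
      _ = (h.d i * g) * h.d j := by group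
      _ = (g * h.d i) * h.d j := by rw [hg i]
      _ = g * (h.d i * h.d j) := by group

theorem cent_E_iff {g : G} (hg : g ∈ centralizer (h.E : Set G)) {x : G} (hx : x ∈ h.E) :
    g * x = x * g := (mem_centralizer_iff.1 hg x hx).symm

omit [Finite G] h in
theorem conj_eq_iff {g x : G} : g * x * g⁻¹ = x ↔ g * x = x * g := mul_inv_eq_iff_eq_mul

theorem mem_cent_E_of_three {g : G} (hg : g ∈ normalizer (h.E : Set G))
    (h0 : g * h.d 0 = h.d 0 * g) (h1 : g * h.d 1 = h.d 1 * g) (h2 : g * h.d 2 = h.d 2 * g) :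
    g ∈ centralizer (h.E : Set G) := by
  obtain ⟨π, hπ⟩ := exists_perm h hg
  have hs : Equiv.Perm.sign π = 1 := Equiv.Perm.mem_alternatingGroup.1 (R_le h ⟨g, hg, hπ⟩)
  have key : ∀ i, g * h.d i = h.d i * g → π i = i := by
    intro i hi
    apply h.d_inj
    rw [← hπ, hi, mul_inv_cancel_right]
  have h3 := eq_one_of_three π hs (key 0 h0) (key 1 h1) (key 2 h2)
  apply mem_cent_E h
  intro i
  rw [← conj_eq_iff, hπ, h3]; rfl

/-- all elements of `E` are isolated in a subgroup of `C(d 0) ∩ C(d 1) ∩ C(d 2)` -/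
theorem isolated_Y {M R : Subgroup G} (hR : IsMaxP 2 M R) (hER : h.E ≤ R)
    (hM : ∀ m ∈ M, m * h.d 0 = h.d 0 * m ∧ m * h.d 1 = h.d 1 * m ∧ m * h.d 2 = h.d 2 * m) :
    ∀ a ∈ h.E, ∀ m ∈ M, m * a * m⁻¹ ∈ R → m * a * m⁻¹ = a := by
  intro a ha m hm hmR
  obtain ⟨k, hk, hkR⟩ := exists_conj_T h hR.1 hER
  have hRc : ∀ r ∈ R, r ∈ centralizer (h.E : Set G) := by
    intro r hr
    have hrN : r ∈ normalizer (h.E : Set G) := mem_normalizer_of_le h hR.1 hER
      (fun x hx => R.mul_mem (R.mul_mem hr (hER hx)) (R.inv_mem hr))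
    obtain ⟨h0, h1, h2⟩ := hM r (hR.2.1 hr)
    exact mem_cent_E_of_three h hrN h0 h1 h2
  have haa : a * a = 1 := h.E_sq a ha
  -- the conjugate lies in `E`
  have hmE : m * a * m⁻¹ ∈ h.E := by
    have h1 := hkR _ hmR
    have h2 : k⁻¹ * (m * a * m⁻¹) * k ∈ h.V := by
      rw [h.mem_V_iff _ h1]
      intro x hx
      have h3 := cent_E_iff h (hRc _ hmR) (norm_conj h hk hx)
      calc k⁻¹ * (m * a * m⁻¹) * k * x = k⁻¹ * ((m * a * m⁻¹) * (k * x * k⁻¹)) * k := by group
        _ = k⁻¹ * ((k * x * k⁻¹) * (m * a * m⁻¹)) * k := by rw [h3]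
        _ = _ := by group
    have h3 : k⁻¹ * (m * a * m⁻¹) * k ∈ h.E := by
      apply h.V_invol _ h2
      calc k⁻¹ * (m * a * m⁻¹) * k * (k⁻¹ * (m * a * m⁻¹) * k) = k⁻¹ * (m * (a * a) * m⁻¹) * k := by
            group
        _ = 1 := by rw [haa]; group
    have h4 := norm_conj h hk h3
    have e : k * (k⁻¹ * (m * a * m⁻¹) * k) * k⁻¹ = m * a * m⁻¹ := by group
    rwa [e] at h4
  obtain ⟨n, hnM, hnN, hn⟩ := exists_norm h (M := M) (hER.trans hR.2.1) hm ha hmE
  obtain ⟨h0, h1, h2⟩ := hM n hnM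
  rw [← hn, conj_eq_iff]
  exact cent_E_iff h (mem_cent_E_of_three h hnN h0 h1 h2) ha

theorem solvable_Y (hFT : OddOrder.{u}) (hE : Group.IsSolvable ↥(centralizer (h.E : Set G)))
    {M : Subgroup G} (hEM : h.E ≤ M)
    (hM : ∀ m ∈ M, m * h.d 0 = h.d 0 * m ∧ m * h.d 1 = h.d 1 * m ∧ m * h.d 2 = h.d 2 * m) :
    Group.IsSolvable M := by
  obtain ⟨R, hR, hER⟩ := exists_isMaxP (T.2.to_le (E_le_T h)) hEM
  exact solvable_of_isolated hFT hR hER (isolated_Y h hR hER hM) (solvable_mono inf_le_right hE)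

/-! ### The five involutions `d i` are conjugate in `N(E)` -/

theorem exists_conj_d [IsSimpleGroup G] (i : Fin 5) :
    ∃ n ∈ normalizer (h.E : Set G), n * h.d 0 * n⁻¹ = h.d i := by
  obtain ⟨π, hs, h0⟩ := exists_zero_to i
  obtain ⟨n, hn, hnd⟩ := E_alt h (Equiv.Perm.mem_alternatingGroup.2 hs)
  exact ⟨n, hn, by rw [hnd, h0]⟩

/-- the products `d i * d j` with `i, j ≠ 0` are conjugate in `N(E) ∩ C(z)` -/
theorem exists_conj_dd_z [IsSimpleGroup G] {i j : Fin 5} (hi : i ≠ 0) (hj : j ≠ 0) (hij : i ≠ j) :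
    ∃ n ∈ normalizer (h.E : Set G), n * h.d 0 = h.d 0 * n ∧
      n * (h.d 1 * h.d 2) * n⁻¹ = h.d i * h.d j := by
  obtain ⟨π, hs, h0, h1, h2⟩ := exists_two_trans i j hi hj hij
  obtain ⟨n, hn, hnd⟩ := E_alt h (Equiv.Perm.mem_alternatingGroup.2 hs)
  refine ⟨n, hn, by rw [← conj_eq_iff, hnd, h0], ?_⟩
  calc n * (h.d 1 * h.d 2) * n⁻¹ = (n * h.d 1 * n⁻¹) * (n * h.d 2 * n⁻¹) := by group
    _ = _ := by rw [hnd, hnd, h1, h2]

/-- the products `d i * d j` are conjugate in `N(E)` -/
theorem exists_conj_dd [IsSimpleGroup G] {i j : Fin 5} (hij : i ≠ j) :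
    ∃ n ∈ normalizer (h.E : Set G), n * (h.d 1 * h.d 2) * n⁻¹ = h.d i * h.d j := by
  obtain ⟨π, hs, h1, h2⟩ := exists_pair_to i j hij
  obtain ⟨n, hn, hnd⟩ := E_alt h (Equiv.Perm.mem_alternatingGroup.2 hs)
  refine ⟨n, hn, ?_⟩
  calc n * (h.d 1 * h.d 2) * n⁻¹ = (n * h.d 1 * n⁻¹) * (n * h.d 2 * n⁻¹) := by group
    _ = _ := by rw [hnd, hnd, h1, h2]

/-- conjugates of `d i` in a 2-group containing `E` lie in `E` -/
theorem conj_d_mem_E [IsSimpleGroup G] {R : Subgroup G} (hR : IsPGroup 2 R) (hER : h.E ≤ R) {g : G}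
    {i : Fin 5} (hg : g * h.d i * g⁻¹ ∈ R) : g * h.d i * g⁻¹ ∈ h.E := by
  obtain ⟨k, hk, hkR⟩ := exists_conj_T h hR hER
  obtain ⟨n, -, hn⟩ := exists_conj_d h i
  have h1 := hkR _ hg
  rw [← hn] at h1 ⊢
  have e : k⁻¹ * (g * (n * h.d 0 * n⁻¹) * g⁻¹) * k =
      (k⁻¹ * g * n) * h.d 0 * (k⁻¹ * g * n)⁻¹ := by group
  rw [e] at h1
  have h2 := norm_conj h hk (key h h1)
  rw [← e] at h2
  have e2 : k * (k⁻¹ * (g * (n * h.d 0 * n⁻¹) * g⁻¹) * k) * k⁻¹ = g * (n * h.d 0 * n⁻¹) * g⁻¹ := by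
    group
  rwa [e2] at h2

theorem t_mul_d1 : h.d 1 * h.d 2 * h.d 1 = h.d 2 := by
  rw [mul_assoc, Elem.d_comm h 2 1, ← mul_assoc, d_sq, one_mul]

/-- `d 1` is isolated modulo `t = d 1 * d 2` in a subgroup of `C(t)` containing `E`. -/
theorem isolated_H [IsSimpleGroup G] {M R : Subgroup G} (hR : IsMaxP 2 M R) (hER : h.E ≤ R)
    (hM : ∀ m ∈ M, m * (h.d 1 * h.d 2) = h.d 1 * h.d 2 * m) :
    ∀ m ∈ M, m * h.d 1 * m⁻¹ ∈ R →
      m * h.d 1 * m⁻¹ = h.d 1 ∨ m * h.d 1 * m⁻¹ = h.d 1 * h.d 2 * h.d 1 := by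
  intro m hm hmR
  obtain ⟨n, hnM, hnN, hn⟩ := exists_norm h (M := M) (hER.trans hR.2.1) hm (h.d_mem 1)
    (conj_d_mem_E h hR.1 hER hmR)
  obtain ⟨π, hπ⟩ := exists_perm h hnN
  have h1 : h.d (π 1) * h.d (π 2) = h.d 1 * h.d 2 := by
    rw [← hπ, ← hπ]
    calc n * h.d 1 * n⁻¹ * (n * h.d 2 * n⁻¹) = n * (h.d 1 * h.d 2) * n⁻¹ := by group
      _ = _ := by rw [hM n hnM]; group
  rw [← hn, hπ, t_mul_d1]
  rcases h.dd_inj _ _ _ _ (fun h2 => by
    have := π.injective h2; exact absurd this (by decide)) (by decide) h1 with ⟨h2, -⟩ | ⟨h2, -⟩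
  · left; rw [h2]
  · right; rw [h2]

theorem solvable_H [IsSimpleGroup G] (hFT : OddOrder.{u}) {M : Subgroup G} (hEM : h.E ≤ M)
    (hM : ∀ m ∈ M, m * (h.d 1 * h.d 2) = h.d 1 * h.d 2 * m)
    (hC : Group.IsSolvable ↥(M ⊓ centralizer ({h.d 1} : Set G))) : Group.IsSolvable M := by
  obtain ⟨R, hR, hER⟩ := exists_isMaxP (T.2.to_le (E_le_T h)) hEM
  refine solvable_of_isolated_mod hFT hR (hER (h.d_mem 1)) (hER (Elem.dd_mem h 1 2)) hM
    (d_sq h 1) (h.E_sq _ (Elem.dd_mem h 1 2)) (h.d_ne_one 1) (h.dd_ne_one 1 2 (by decide))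
    (fun h1 => h.dd_ne_d 1 2 1 (by decide) h1.symm) (isolated_H h hR hER hM) hC

/-- `C(z) ∩ C(t)` is solvable, `t = d 1 * d 2` -/
theorem solvable_zt [IsSimpleGroup G] (hFT : OddOrder.{u})
    (hE : Group.IsSolvable ↥(centralizer (h.E : Set G))) :
    Group.IsSolvable ↥(centralizer ({h.d 0} : Set G) ⊓ centralizer ({h.d 1 * h.d 2} : Set G)) := by
  refine solvable_H h hFT ?_ (fun m hm => mem_centralizer_singleton_iff.1 hm.2) ?_
  · intro x hx
    exact ⟨mem_centralizer_singleton_iff.2 (E_comm h hx (h.d_mem 0)),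
      mem_centralizer_singleton_iff.2 (E_comm h hx (Elem.dd_mem h 1 2))⟩
  · refine solvable_Y h hFT hE ?_ ?_
    · intro x hx
      exact ⟨⟨mem_centralizer_singleton_iff.2 (E_comm h hx (h.d_mem 0)),
        mem_centralizer_singleton_iff.2 (E_comm h hx (Elem.dd_mem h 1 2))⟩,
        mem_centralizer_singleton_iff.2 (E_comm h hx (h.d_mem 1))⟩
    · intro m hm
      have h0 := mem_centralizer_singleton_iff.1 (mem_inf.1 (mem_inf.1 hm).1).1
      have ht := mem_centralizer_singleton_iff.1 (mem_inf.1 (mem_inf.1 hm).1).2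
      have h1 := mem_centralizer_singleton_iff.1 (mem_inf.1 hm).2
      refine ⟨h0, h1, ?_⟩
      rw [← t_mul_d1 h]
      calc m * (h.d 1 * h.d 2 * h.d 1) = m * (h.d 1 * h.d 2) * h.d 1 := by group
        _ = h.d 1 * h.d 2 * m * h.d 1 := by rw [ht]
        _ = h.d 1 * h.d 2 * (m * h.d 1) := by group
        _ = h.d 1 * h.d 2 * (h.d 1 * m) := by rw [h1]
        _ = _ := by group

/-- `C(z) ∩ C(d i * d j)` is solvable for `i, j ≠ 0` -/
theorem solvable_zdd [IsSimpleGroup G] (hFT : OddOrder.{u})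
    (hE : Group.IsSolvable ↥(centralizer (h.E : Set G))) {i j : Fin 5} (hi : i ≠ 0) (hj : j ≠ 0)
    (hij : i ≠ j) :
    Group.IsSolvable ↥(centralizer ({h.d 0} : Set G) ⊓ centralizer ({h.d i * h.d j} : Set G)) := by
  obtain ⟨n, hn, hnz, hnt⟩ := exists_conj_dd_z h hi hj hij
  refine solvable_of_conj n⁻¹ ?_ (solvable_zt h hFT hE)
  intro a ha'
  have h0 := mem_centralizer_singleton_iff.1 (mem_inf.1 ha').1
  have ha := mem_centralizer_singleton_iff.1 (mem_inf.1 ha').2
  rw [mem_inf]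
  constructor
  · rw [mem_centralizer_singleton_iff, inv_inv]
    have h1 : n⁻¹ * h.d 0 = h.d 0 * n⁻¹ := by
      calc n⁻¹ * h.d 0 = n⁻¹ * (h.d 0 * n) * n⁻¹ := by group
        _ = n⁻¹ * (n * h.d 0) * n⁻¹ := by rw [hnz]
        _ = _ := by group
    calc n⁻¹ * a * n * h.d 0 = n⁻¹ * a * (n * h.d 0) := by group
      _ = n⁻¹ * (a * h.d 0) * n := by rw [hnz]; group
      _ = (n⁻¹ * h.d 0) * a * n := by rw [h0]; group
      _ = _ := by rw [h1]; group
  · rw [mem_centralizer_singleton_iff, inv_inv]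
    rw [← hnt] at ha
    calc n⁻¹ * a * n * (h.d 1 * h.d 2) = n⁻¹ * (a * (n * (h.d 1 * h.d 2) * n⁻¹)) * n := by group
      _ = n⁻¹ * (n * (h.d 1 * h.d 2) * n⁻¹ * a) * n := by rw [ha]
      _ = _ := by group

/-- `C(d i)` is conjugate to `C(z)` -/
theorem solvable_d [IsSimpleGroup G] (hz : Group.IsSolvable ↥(centralizer ({h.d 0} : Set G)))
    (i : Fin 5) : Group.IsSolvable ↥(centralizer ({h.d i} : Set G)) := by
  obtain ⟨n, hn, hnz⟩ := exists_conj_d h i
  refine solvable_of_conj n⁻¹ ?_ hz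
  intro a ha
  rw [mem_centralizer_singleton_iff] at ha ⊢
  rw [inv_inv]
  rw [← hnz] at ha
  calc n⁻¹ * a * n * h.d 0 = n⁻¹ * (a * (n * h.d 0 * n⁻¹)) * n := by group
    _ = n⁻¹ * (n * h.d 0 * n⁻¹ * a) * n := by rw [ha]
    _ = _ := by group

/-- `C(t)` is solvable if `C(z)` is -/
theorem solvable_t [IsSimpleGroup G] (hFT : OddOrder.{u})
    (hz : Group.IsSolvable ↥(centralizer ({h.d 0} : Set G))) :
    Group.IsSolvable ↥(centralizer ({h.d 1 * h.d 2} : Set G)) := by
  refine solvable_H h hFT ?_ (fun m hm => mem_centralizer_singleton_iff.1 hm) ?_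
  · intro x hx
    exact mem_centralizer_singleton_iff.2 (E_comm h hx (Elem.dd_mem h 1 2))
  · exact solvable_mono inf_le_right (solvable_d h hz 1)

/-- all centralizers of involutions of `E` are solvable if `C(z)` is -/
theorem solvable_E [IsSimpleGroup G] (hFT : OddOrder.{u})
    (hz : Group.IsSolvable ↥(centralizer ({h.d 0} : Set G))) {e : G} (he : e ∈ h.E) (he1 : e ≠ 1) :
    Group.IsSolvable ↥(centralizer ({e} : Set G)) := by
  rcases h.E_cases e he with h1 | ⟨i, rfl⟩ | ⟨i, j, hij, rfl⟩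
  · exact absurd h1 he1
  · exact solvable_d h hz i
  · obtain ⟨n, hn, hnt⟩ := exists_conj_dd h hij
    refine solvable_of_conj n⁻¹ ?_ (solvable_t h hFT hz)
    intro a ha
    rw [mem_centralizer_singleton_iff] at ha ⊢
    rw [inv_inv]
    rw [← hnt] at ha
    calc n⁻¹ * a * n * (h.d 1 * h.d 2) = n⁻¹ * (a * (n * (h.d 1 * h.d 2) * n⁻¹)) * n := by group
      _ = n⁻¹ * (n * (h.d 1 * h.d 2) * n⁻¹ * a) * n := by rw [ha]
      _ = _ := by group

end Cfsg.Agent.SylowU5.Prime
end
end

-- part: SylowU5/Fus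
section
set_option linter.all false
open scoped Cfsg.Agent.FastGrp

/-! The class `D` of `z`, consequences of `U5Fus`. -/

set_option autoImplicit false
set_option linter.style.haveILetI false

namespace Cfsg.Agent.SylowU5.Fus

universe u

open Cfsg.Agent.SylowU5.Basic Cfsg.Agent.SylowU5.Elem Cfsg.Agent.SylowU5.SolvT

/-- conjugating a 2-subgroup into a Sylow 2-subgroup -/
theorem exists_conj_mem {G : Type*} [Group G] [Finite G] (T : Sylow 2 G) (R : Subgroup G)
    (hR : IsPGroup 2 R) : ∃ g : G, ∀ x ∈ R, g * x * g⁻¹ ∈ (T : Subgroup G) := by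
  haveI : Fact (Nat.Prime 2) := ⟨Nat.prime_two⟩
  obtain ⟨P, hP⟩ := hR.exists_le_sylow
  obtain ⟨g, hg⟩ := MulAction.exists_smul_eq G P T
  refine ⟨g, fun x hx => ?_⟩
  rw [← hg]
  exact Subgroup.smul_mem_pointwise_smul (x) (MulAut.conj g) _ (hP hx)

/-- two commuting involutions generate a 2-group -/
theorem isPGroup_pair {K : Type*} [Group K] {a b : K} (ha : a * a = 1) (hb : b * b = 1)
    (hab : a * b = b * a) : IsPGroup 2 ↥(Subgroup.zpowers a ⊔ Subgroup.zpowers b) := by
  have key : ∀ c : K, c * c = 1 → IsPGroup 2 (Subgroup.zpowers c) := by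
    intro c hc
    rintro ⟨x, hx⟩
    obtain ⟨k, rfl⟩ := Subgroup.mem_zpowers_iff.mp hx
    refine ⟨1, ?_⟩
    apply Subtype.ext
    simp only [pow_one, Subgroup.coe_pow, Subgroup.coe_one]
    rw [← zpow_natCast, ← zpow_mul, mul_comm, zpow_mul]
    have : c ^ ((2 : ℕ) : ℤ) = 1 := by rw [zpow_natCast, sq, hc]
    rw [this, one_zpow]
  apply IsPGroup.to_sup_of_normal_right' (key a ha) (key b hb)
  intro x hx
  obtain ⟨k, rfl⟩ := Subgroup.mem_zpowers_iff.mp hx
  have hcomm : ∀ y ∈ Subgroup.zpowers b, a ^ k * y = y * a ^ k := by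
    intro y hy
    obtain ⟨l, rfl⟩ := Subgroup.mem_zpowers_iff.mp hy
    have h1 : Commute a b := hab
    exact ((h1.zpow_left k).zpow_right l).eq
  rw [Subgroup.mem_normalizer_iff]
  intro y
  constructor
  · intro hy
    rw [hcomm y hy, mul_inv_cancel_right]; exact hy
  · intro hy
    have h1 := hcomm _ hy
    have h2 : y = a ^ k * y * (a ^ k)⁻¹ := by
      have : a ^ k * (a ^ k * y * (a ^ k)⁻¹) = a ^ k * y := by rw [h1]; group
      exact (mul_left_cancel this).symm
    rw [h2]; exact hy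

theorem exists_sylow_pair {K : Type*} [Group K] [Finite K] {a b : K} (ha : a * a = 1) (hb : b * b = 1)
    (hab : a * b = b * a) : ∃ P : Sylow 2 K, a ∈ P ∧ b ∈ P := by
  haveI : Fact (Nat.Prime 2) := ⟨Nat.prime_two⟩
  obtain ⟨P, hP⟩ := (isPGroup_pair ha hb hab).exists_le_sylow
  exact ⟨P, hP (Subgroup.mem_sup_left (Subgroup.mem_zpowers a)),
    hP (Subgroup.mem_sup_right (Subgroup.mem_zpowers b))⟩

/-- solvability of centralizers is conjugation invariant -/
theorem solvable_conj {G : Type*} [Group G] (a g : G)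
    (ha : Group.IsSolvable ↥(Subgroup.centralizer ({a} : Set G))) :
    Group.IsSolvable ↥(Subgroup.centralizer ({g * a * g⁻¹} : Set G)) := by
  haveI := ha
  let f : ↥(Subgroup.centralizer ({g * a * g⁻¹} : Set G)) →* ↥(Subgroup.centralizer ({a} : Set G)) :=
    { toFun := fun x => ⟨g⁻¹ * x * g, by
        have hx := Subgroup.mem_centralizer_singleton_iff.mp x.2
        rw [Subgroup.mem_centralizer_singleton_iff]
        calc g⁻¹ * (x : G) * g * a = g⁻¹ * ((x : G) * (g * a * g⁻¹)) * g := by group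
          _ = g⁻¹ * ((g * a * g⁻¹) * (x : G)) * g := by rw [hx]
          _ = a * (g⁻¹ * (x : G) * g) := by group⟩
      map_one' := by apply Subtype.ext; simp
      map_mul' := fun x y => by apply Subtype.ext; simp only [Subgroup.coe_mul]; group }
  have hf : Function.Injective f := by
    intro x y hxy
    have h1 : g⁻¹ * (x : G) * g = g⁻¹ * (y : G) * g := congrArg Subtype.val hxy
    apply Subtype.ext
    exact mul_left_cancel (mul_right_cancel h1)
  exact Group.isSolvable_of_isSolvable_injective hf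

theorem exists_perm_two : ∀ i j : Fin 5, i ≠ j →
    ∃ π : Equiv.Perm (Fin 5), Equiv.Perm.sign π = 1 ∧ π i = 1 ∧ π j = 2 := by
  (set_option synthInstance.maxSize 9000 in open scoped Cfsg.Agent.Lib.FastPerm in decide +kernel)

theorem exists_perm_zero_one : ∀ i j : Fin 5, i ≠ j →
    ∃ π : Equiv.Perm (Fin 5), Equiv.Perm.sign π = 1 ∧ π i = 0 ∧ π j = 1 := by
  (set_option synthInstance.maxSize 9000 in open scoped Cfsg.Agent.Lib.FastPerm in decide +kernel)

theorem exists_perm_three : ∃ π : Equiv.Perm (Fin 5),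
    Equiv.Perm.sign π = 1 ∧ π 0 = 3 ∧ π 1 = 1 ∧ π 2 = 2 ∧ π 3 = 4 ∧ π 4 = 0 := by
  (set_option synthInstance.maxSize 9000 in open scoped Cfsg.Agent.Lib.FastPerm in decide +kernel)

section

variable {G : Type u} [Group G] [Finite G] {T : Sylow 2 G} (h : U5T (T : Subgroup G))

/-- the conjugacy class of `z = d 0` -/
def D : Set G := {x | ∃ g : G, x = g * h.d 0 * g⁻¹}

omit [Finite G] in
theorem D_conj {x : G} (hx : x ∈ D h) (g : G) : g * x * g⁻¹ ∈ D h := by
  obtain ⟨k, rfl⟩ := hx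
  exact ⟨g * k, by group⟩

omit [Finite G] in
theorem D_of_conj {x : G} (g : G) (hx : g * x * g⁻¹ ∈ D h) : x ∈ D h := by
  have := D_conj h hx g⁻¹
  have h2 : g⁻¹ * (g * x * g⁻¹) * g⁻¹⁻¹ = x := by group
  rwa [h2] at this

omit [Finite G] in
theorem D_sq {x : G} (hx : x ∈ D h) : x * x = 1 := by
  obtain ⟨k, rfl⟩ := hx
  calc k * h.d 0 * k⁻¹ * (k * h.d 0 * k⁻¹) = k * (h.d 0 * h.d 0) * k⁻¹ := by group
    _ = 1 := by rw [d_sq h 0]; group

omit [Finite G] in
theorem D_ne_one {x : G} (hx : x ∈ D h) : x ≠ 1 := by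
  obtain ⟨k, rfl⟩ := hx
  intro h1
  apply h.d_ne_one 0
  have : h.d 0 = k⁻¹ * (k * h.d 0 * k⁻¹) * k := by group
  rw [this, h1]; group

omit [Finite G] in
theorem D_inv {x : G} (hx : x ∈ D h) : x⁻¹ = x := inv_eq_of_mul_eq_one_left (D_sq h hx)

omit [Finite G] in
theorem z_mem_D : h.d 0 ∈ D h := ⟨1, by group⟩

variable {h}
variable (F : U5Fus T h)

include F

omit [Finite G] in
theorem d_mem_D (i : Fin 5) : h.d i ∈ D h := by
  obtain ⟨j, hj⟩ : ∃ j : Fin 5, i ≠ j := exists_ne i |>.imp fun _ hj => hj.symm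
  obtain ⟨π, hπ, hi, -⟩ := exists_perm_zero_one i j hj
  obtain ⟨n, -, hn⟩ := F.E_alt π (Equiv.Perm.mem_alternatingGroup.mpr hπ)
  apply D_of_conj h n
  rw [hn i, hi]
  exact z_mem_D h

/-- the elements of `D` in a 2-subgroup -/
theorem exists_conj_d {R : Subgroup G} (hR : IsPGroup 2 R) :
    ∃ g : G, (∀ x ∈ R, g * x * g⁻¹ ∈ (T : Subgroup G)) ∧ ∀ x ∈ R, x ∈ D h → ∃ i, g * x * g⁻¹ = h.d i := by
  obtain ⟨g, hg⟩ := exists_conj_mem T R hR
  refine ⟨g, hg, fun x hx hxD => ?_⟩
  obtain ⟨k, hk⟩ := hxD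
  have h1 : g * x * g⁻¹ = (g * k) * h.d 0 * (g * k)⁻¹ := by rw [hk]; group
  rw [h1]
  apply F.z_fus
  rw [← h1]
  exact hg x hx

omit [Finite G] in
theorem dd_not_mem_D {i j : Fin 5} (hij : i ≠ j) : h.d i * h.d j ∉ D h := by
  rintro ⟨g, hg⟩
  have h1 : g * h.d 0 * g⁻¹ ∈ (T : Subgroup G) := by rw [← hg]; exact E_le_T h (dd_mem h i j)
  obtain ⟨k, hk⟩ := F.z_fus g h1
  rw [← hg] at hk
  exact h.dd_ne_d i j k hij hk

/-- commuting pairs of distinct elements of `D` are conjugate to `(d 1, d 2)` -/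
theorem exists_conj_pair {x y : G} (hx : x ∈ D h) (hy : y ∈ D h) (hxy : x * y = y * x) (hne : x ≠ y) :
    ∃ g : G, g * x * g⁻¹ = h.d 1 ∧ g * y * g⁻¹ = h.d 2 := by
  obtain ⟨g, -, hg⟩ := exists_conj_d F (isPGroup_pair (D_sq h hx) (D_sq h hy) hxy)
  obtain ⟨i, hi⟩ := hg x (Subgroup.mem_sup_left (Subgroup.mem_zpowers x)) hx
  obtain ⟨j, hj⟩ := hg y (Subgroup.mem_sup_right (Subgroup.mem_zpowers y)) hy
  have hij : i ≠ j := by
    rintro rfl
    apply hne
    have := hi.trans hj.symm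
    exact mul_left_cancel (mul_right_cancel this)
  obtain ⟨π, hπ, h1, h2⟩ := exists_perm_two i j hij
  obtain ⟨n, -, hn⟩ := F.E_alt π (Equiv.Perm.mem_alternatingGroup.mpr hπ)
  refine ⟨n * g, ?_, ?_⟩
  · rw [conj_mul_eq, hi, hn i, h1]
  · rw [conj_mul_eq, hj, hn j, h2]

theorem exists_conj_pair' {x y : G} (hx : x ∈ D h) (hy : y ∈ D h) (hxy : x * y = y * x) (hne : x ≠ y) :
    ∃ g : G, g * x * g⁻¹ = h.d 0 ∧ g * y * g⁻¹ = h.d 1 := by
  obtain ⟨g, hg1, hg2⟩ := exists_conj_pair F hx hy hxy hne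
  obtain ⟨π, hπ, h1, h2⟩ := exists_perm_zero_one 1 2 (by decide)
  obtain ⟨n, -, hn⟩ := F.E_alt π (Equiv.Perm.mem_alternatingGroup.mpr hπ)
  refine ⟨n * g, ?_, ?_⟩
  · rw [conj_mul_eq, hg1, hn, h1]
  · rw [conj_mul_eq, hg2, hn, h2]

omit [Finite G] in
theorem solvable_D {x : G} (hx : x ∈ D h) : Group.IsSolvable ↥(Subgroup.centralizer ({x} : Set G)) := by
  obtain ⟨g, rfl⟩ := hx
  exact solvable_conj _ g F.solvable_z

/-- `t = d 1 * d 2` -/
theorem solvable_t (hZ : Cfsg.Agent.R01.Closing.ZStar.{u}) (hFT : OddOrder.{u}) :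
    Group.IsSolvable ↥(Subgroup.centralizer ({h.d 1 * h.d 2} : Set G)) := by
  classical
  set t : G := h.d 1 * h.d 2 with ht
  set K : Subgroup G := Subgroup.centralizer ({t} : Set G) with hK
  have htE : t ∈ h.E := dd_mem h 1 2
  have htt : t * t = 1 := h.E_sq t htE
  have hmem : ∀ x ∈ h.E, x ∈ K := by
    intro x hx
    rw [hK, Subgroup.mem_centralizer_singleton_iff]
    exact E_comm h hx htE
  let t' : K := ⟨t, hmem t htE⟩
  let x' : K := ⟨h.d 1, hmem _ (h.d_mem 1)⟩
  have htx : t * h.d 1 = h.d 2 := by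
    rw [ht, mul_assoc, d_comm h 2 1, ← mul_assoc, d_sq h 1, one_mul]
  have hxx : x' * x' = 1 := Subtype.ext (d_sq h 1)
  have htt' : t' * t' = 1 := Subtype.ext htt
  have hcomm : x' * t' = t' * x' := Subtype.ext (E_comm h (h.d_mem 1) htE)
  obtain ⟨P, hxP, htP⟩ := exists_sylow_pair hxx htt' hcomm
  have ht1 : t' ≠ 1 := fun h1 => h.dd_ne_one 1 2 (by decide) (congrArg Subtype.val h1)
  have hx1 : x' ≠ 1 := fun h1 => h.d_ne_one 1 (congrArg Subtype.val h1)
  have hxt : x' ≠ t' := by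
    intro h1
    have h2 : h.d 1 = t := congrArg Subtype.val h1
    exact h.dd_ne_d 1 2 1 (by decide) (ht ▸ h2.symm)
  have hzc : ∀ g : K, g * t' = t' * g := fun g =>
    Subtype.ext (Subgroup.mem_centralizer_singleton_iff.mp g.2)
  have hiso : ∀ g : K, g * x' * g⁻¹ ∈ P → g * x' * g⁻¹ = x' ∨ g * x' * g⁻¹ = t' * x' := by
    intro g hg
    set y : K := g * x' * g⁻¹ with hy
    have hyG : (y : G) = (g : G) * h.d 1 * (g : G)⁻¹ := rfl
    have htyG : ((t' * y : K) : G) = (g : G) * h.d 2 * (g : G)⁻¹ := by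
      have h1 : (g : G) * t = t * (g : G) := Subgroup.mem_centralizer_singleton_iff.mp g.2
      calc ((t' * y : K) : G) = t * ((g : G) * h.d 1 * (g : G)⁻¹) := rfl
        _ = (t * (g : G)) * h.d 1 * (g : G)⁻¹ := by group
        _ = ((g : G) * t) * h.d 1 * (g : G)⁻¹ := by rw [h1]
        _ = (g : G) * (t * h.d 1) * (g : G)⁻¹ := by group
        _ = (g : G) * h.d 2 * (g : G)⁻¹ := by rw [htx]
    have hyD : (y : G) ∈ D h := by rw [hyG]; exact D_conj h (d_mem_D F 1) _
    have htyD : ((t' * y : K) : G) ∈ D h := by rw [htyG]; exact D_conj h (d_mem_D F 2) _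
    have hR : IsPGroup 2 ((P : Subgroup K).map K.subtype) := P.isPGroup'.map K.subtype
    obtain ⟨c, -, hc⟩ := exists_conj_d F hR
    have hin : ∀ w : K, w ∈ P → (w : G) ∈ (P : Subgroup K).map K.subtype := fun w hw => ⟨w, hw, rfl⟩
    obtain ⟨i, hi⟩ := hc (h.d 1) (hin x' hxP) (d_mem_D F 1)
    have h2P : t' * x' ∈ P := P.mul_mem htP hxP
    have h2G : ((t' * x' : K) : G) = h.d 2 := htx
    obtain ⟨j, hj⟩ := hc (h.d 2) (by rw [← h2G]; exact hin _ h2P) (d_mem_D F 2)
    obtain ⟨k, hk⟩ := hc y (hin y hg) hyD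
    obtain ⟨l, hl⟩ := hc ((t' * y : K) : G) (hin _ (P.mul_mem htP hg)) htyD
    have hij : i ≠ j := by
      rintro rfl
      exact absurd (h.d_inj 1 2 (mul_left_cancel (mul_right_cancel (hi.trans hj.symm)))) (by decide)
    have hkl : k ≠ l := by
      rintro rfl
      have h3 : (y : G) = ((t' * y : K) : G) := mul_left_cancel (mul_right_cancel (hk.trans hl.symm))
      have h4 : (y : K) = t' * y := Subtype.ext h3
      exact ht1 (mul_eq_right.mp h4.symm)
    have h5 : h.d i * h.d j = c * t * c⁻¹ := by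
      rw [← hi, ← hj, ht]; group
    have hyt : (y : G) * ((t' * y : K) : G) = t := by
      have h6 : y * (t' * y) = t' := by
        have hyy : y * y = 1 := by
          have : (g * x' * g⁻¹) * (g * x' * g⁻¹) = g * (x' * x') * g⁻¹ := by group
          rw [hy, this, hxx]; group
        rw [← mul_assoc, hzc y, mul_assoc, hyy, mul_one]
      exact congrArg Subtype.val h6
    have h7 : h.d k * h.d l = c * t * c⁻¹ := by
      rw [← hk, ← hl, ← hyt]; group
    rcases h.dd_inj k l i j hkl hij (h7.trans h5.symm) with ⟨h8, -⟩ | ⟨h8, -⟩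
    · left
      apply Subtype.ext
      rw [h8, ← hi] at hk
      exact mul_left_cancel (mul_right_cancel hk)
    · right
      apply Subtype.ext
      rw [h8, ← hj] at hk
      have : (y : G) = h.d 2 := mul_left_cancel (mul_right_cancel hk)
      rw [this, ← h2G]
  have ht2 : orderOf t' = 2 := orderOf_eq_prime (by rw [sq, htt']) ht1
  obtain ⟨O, hO, hOodd, hcore⟩ := Cfsg.Agent.R01.Closing.exists_core hZ t' x' ht2 hzc hxx hx1 hxt P hxP
    htP hiso
  have hCK : Group.IsSolvable ↥(Subgroup.centralizer ({x'} : Set K)) := by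
    haveI := solvable_D F (d_mem_D F 1)
    let f : ↥(Subgroup.centralizer ({x'} : Set K)) →* ↥(Subgroup.centralizer ({h.d 1} : Set G)) :=
      { toFun := fun k => ⟨((k : K) : G), by
          rw [Subgroup.mem_centralizer_singleton_iff]
          exact congrArg Subtype.val (Subgroup.mem_centralizer_singleton_iff.mp k.2)⟩
        map_one' := rfl
        map_mul' := fun _ _ => rfl }
    have hf : Function.Injective f := by
      intro a b hab
      have h9 : (((a : K) : G)) = ((b : K) : G) := by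
        have := congrArg Subtype.val hab
        exact this
      exact Subtype.ext (Subtype.ext h9)
    exact Group.isSolvable_of_isSolvable_injective hf
  exact solvable_of_core x' t' O hO (hFT O hOodd) hCK hcore

end

end Cfsg.Agent.SylowU5.Fus
end

-- part: SylowU5/CharTwoT
section
prune_inst 0x420004000410000000000001020001c4292000002004b00000000000004880c4000060620a820031000020004003000400244000000000000000000004118048100001002a008a000210010008004000000000000000000000000000000000000200000000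
set_option linter.all false
open scoped Cfsg.Agent.FastGrp

-- part: SylowU5/Cores
section
/-! Step (3') of S0513: the cores of the centralizers of the involutions are trivial. -/

set_option autoImplicit false
set_option linter.style.haveILetI false

namespace Cfsg.Agent.SylowU5.Cores

universe u

open Cfsg
open Cfsg.Agent.SylowU5.Basic Cfsg.Agent.SylowU5.Elem Cfsg.Agent.SylowU5.SolvT
  Cfsg.Agent.SylowU5.Fus
open scoped Pointwise

variable {G : Type u} [Group G] [Finite G] {T : Sylow 2 G} {h : U5T (T : Subgroup G)}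
variable (F : U5Fus T h)

omit [Finite G] in
include F in
theorem dd_conj {i j : Fin 5} (hij : i ≠ j) : ∃ g : G, g * (h.d i * h.d j) * g⁻¹ = h.d 1 * h.d 2 := by
  obtain ⟨π, hπ, h1, h2⟩ := exists_perm_two i j hij
  obtain ⟨n, -, hn⟩ := F.E_alt π (Equiv.Perm.mem_alternatingGroup.mpr hπ)
  refine ⟨n, ?_⟩
  calc n * (h.d i * h.d j) * n⁻¹ = (n * h.d i * n⁻¹) * (n * h.d j * n⁻¹) := by group
    _ = h.d 1 * h.d 2 := by rw [hn, hn, h1, h2]

include F in
/-- every involution is conjugate to `d 0` or to `d 1 * d 2` -/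
theorem invol_cases {s : G} (hs : s * s = 1) (hs1 : s ≠ 1) :
    s ∈ D h ∨ ∃ g : G, g * s * g⁻¹ = h.d 1 * h.d 2 := by
  have hp : IsPGroup 2 ↥(Subgroup.zpowers s ⊔ Subgroup.zpowers s) := isPGroup_pair hs hs rfl
  obtain ⟨g, hg⟩ := exists_conj_mem T _ hp
  have h1 := hg s (Subgroup.mem_sup_left (Subgroup.mem_zpowers s))
  set s' := g * s * g⁻¹ with hs'
  have hs'2 : s' * s' = 1 := by
    calc s' * s' = g * (s * s) * g⁻¹ := by rw [hs']; group
      _ = 1 := by rw [hs]; group
  have hs'1 : s' ≠ 1 := by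
    intro h2
    apply hs1
    have : s = g⁻¹ * s' * g := by rw [hs']; group
    rw [this, h2]; group
  rcases h.invol s' h1 hs'2 with hE | hQ
  · rcases h.E_cases s' hE with h2 | ⟨i, hi⟩ | ⟨i, j, hij, hx⟩
    · exact absurd h2 hs'1
    · left
      apply D_of_conj h g
      rw [← hs', hi]
      exact d_mem_D F i
    · right
      obtain ⟨k, hk⟩ := dd_conj F hij
      exact ⟨k * g, by rw [conj_mul_eq, ← hs', hx, hk]⟩
  · by_cases h2 : s' = h.d 0
    · left
      apply D_of_conj h g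
      rw [← hs', h2]
      exact z_mem_D h
    · right
      obtain ⟨c, -, hc⟩ := F.u_fus s' hQ hs'2 hs'1 h2
      exact ⟨c * g, by rw [conj_mul_eq, ← hs', hc]⟩

include F in
theorem solvable_invol (hZ : Cfsg.Agent.R01.Closing.ZStar.{u}) (hFT : OddOrder.{u}) {s : G}
    (hs : s * s = 1) (hs1 : s ≠ 1) : Group.IsSolvable ↥(Subgroup.centralizer ({s} : Set G)) := by
  rcases invol_cases F hs hs1 with h1 | ⟨g, hg⟩
  · exact solvable_D F h1
  · have h2 := solvable_conj _ g⁻¹ (solvable_t F hZ hFT)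
    have h3 : g⁻¹ * (h.d 1 * h.d 2) * g⁻¹⁻¹ = s := by rw [← hg]; group
    rwa [h3] at h2

omit [Finite G] in
/-- `E` is elementary abelian -/
theorem isElementaryAbelian_E : IsElementaryAbelian 2 h.E :=
  ⟨IsMulCommutative.of_setLike_mul_comm fun _ ha _ hb => E_comm h ha hb,
    fun a ha => by rw [sq]; exact h.E_sq a ha⟩

omit [Finite G] in
theorem sq_eq_of_order {s : G} (hs : orderOf s = 2) : s * s = 1 ∧ s ≠ 1 := by
  refine ⟨?_, ?_⟩
  · rw [← sq, ← hs]; exact pow_orderOf_eq_one s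
  · rintro rfl
    rw [orderOf_one] at hs
    norm_num at hs

theorem fourConnected (h : U5T (T : Subgroup G)) : IsFourConnected (T : Subgroup G) := by
  have hET : h.E ≤ (T : Subgroup G) := E_le_T h
  haveI hn : (h.E.subgroupOf (T : Subgroup G)).Normal := by
    constructor
    intro x hx g
    rw [Subgroup.mem_subgroupOf] at hx ⊢
    exact conj_mem_E h g.2 hx
  refine Cfsg.Agent.S0502.result (isPGroup_T h) (h.E.subgroupOf (T : Subgroup G)) ?_ ?_ ?_
  · refine IsMulCommutative.of_setLike_mul_comm fun a ha b hb => ?_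
    rw [Subgroup.mem_subgroupOf] at ha hb
    exact Subtype.ext (E_comm h ha hb)
  · intro e he
    rw [Subgroup.mem_subgroupOf] at he
    rw [sq]
    exact Subtype.ext (h.E_sq e he)
  · have : Nat.card (h.E.subgroupOf (T : Subgroup G)) = Nat.card h.E :=
      Nat.card_congr (Subgroup.subgroupOfEquivOfLe hET).toEquiv
    rw [this, h.card_E]
    norm_num

include F in
/-- the cores of the centralizers of the involutions of `E` are trivial -/
theorem core_eq_bot [IsSimpleGroup G] (hZ : Cfsg.Agent.R01.Closing.ZStar.{u}) (hFT : OddOrder.{u})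
    {a : G} (ha : a ∈ h.E) (ha1 : a ≠ 1) : centralizerPPrimeCore 2 a = ⊥ := by
  classical
  haveI h2 : Fact (Nat.Prime 2) := ⟨Nat.prime_two⟩
  have hsolvC : ∀ t : G, orderOf t = 2 → Group.IsSolvable ↥(Subgroup.centralizer ({t} : Set G)) :=
    fun t ht => solvable_invol F hZ hFT (sq_eq_of_order ht).1 (sq_eq_of_order ht).2
  have hsolv : ∀ t : G, orderOf t = 2 → Group.IsSolvable ↥(centralizerPPrimeCore 2 t) := by
    intro t ht
    haveI := hsolvC t ht
    exact Group.isSolvable_of_isSolvable_injective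
      (f := Subgroup.inclusion (Dichotomy.CoreTools.core_le 2 t)) (Subgroup.inclusion_injective _)
  have hL : ∀ t : G, orderOf t = 2 → pLayer 2 ↥(Subgroup.centralizer ({t} : Set G)) = ⊥ := by
    intro t ht
    haveI := hsolvC t ht
    exact (Cfsg.Agent.SignalizersComponents.PConstrained.isPConstrained_iff_pLayer_eq_bot 2).mp
      (Cfsg.Agent.S1396.isPConstrained_of_solvable 2)
  have hconn := fourConnected h
  have hE3 : 2 ^ 3 ≤ Nat.card h.E := by rw [h.card_E]; norm_num
  have hEE := isElementaryAbelian_E (h := h)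
  -- a four-subgroup of `E`
  obtain ⟨V, hVE, hV⟩ := Cfsg.Agent.S0520.exists_kleinFour (Q := h.E) (by
    intro h1
    have h3 := h1 ⊤ ?_ ?_
    · rw [Subgroup.card_top, h.card_E] at h3
      norm_num at h3
    · refine IsMulCommutative.of_setLike_mul_comm fun a _ b _ => ?_
      exact Subtype.ext (E_comm h a.2 b.2)
    · intro b _
      rw [sq]
      exact Subtype.ext (h.E_sq b b.2))
  have hVE2 : 2 ^ 2 ≤ Nat.card V := by rw [hV.card_four]; norm_num
  have hWeq := Classification.NonComponent.W_eq_of_le hsolv hL hEE hE3 hVE hVE2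
  -- the normalizer of `W` is everything
  have htop : Subgroup.normalizer (Classification.NonComponent.W V : Set G) = ⊤ := by
    by_contra hne
    have hse := Classification.NonComponent.stronglyEmbedded hsolv hL T hconn (E_le_T h) hEE hE3 hV
      (hVE.trans (E_le_T h)) hne
    set H := Subgroup.normalizer (Classification.NonComponent.W V : Set G) with hH
    -- an involution outside `H`
    have hall : ∀ a b : G, orderOf a = 2 → orderOf b = 2 → IsConj a b := by
      by_cases hout : ∃ u : G, orderOf u = 2 ∧ u ∉ H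
      · obtain ⟨u, hu, huH⟩ := hout
        obtain ⟨s, hs⟩ : ∃ s : H, orderOf s = 2 := by
          apply exists_prime_orderOf_dvd_card'
          exact even_iff_two_dvd.mp hse.2.1
        have hs' : orderOf (s : G) = 2 := by rw [Subgroup.orderOf_coe]; exact hs
        exact (Cfsg.Agent.S1225.result H hse u hu huH s s hs' s.2 hs' s.2).2
      · -- all involutions in `H`: the subgroup they generate is normal, so everything
        exfalso
        push Not at hout
        have hcl : Subgroup.closure {x : G | orderOf x = 2} ≤ H := by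
          rw [Subgroup.closure_le]
          exact fun x hx => hout x hx
        haveI hN : (Subgroup.closure {x : G | orderOf x = 2}).Normal := by
          apply Subgroup.Normal.mk
          intro x hx g
          have h1 : Subgroup.closure {x : G | orderOf x = 2} ≤
              (Subgroup.closure {x : G | orderOf x = 2}).comap (MulAut.conj g).toMonoidHom := by
            rw [Subgroup.closure_le]
            intro y hy
            apply Subgroup.subset_closure
            change orderOf (g * y * g⁻¹) = 2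
            have h4 : orderOf ((MulAut.conj g).toMonoidHom y) = orderOf y :=
              orderOf_injective _ (MulAut.conj g).injective y
            exact h4.trans hy
          exact h1 hx
        rcases hN.eq_bot_or_eq_top with h1 | h1
        · have h3 : h.d 0 ∈ (⊥ : Subgroup G) := by
            rw [← h1]
            exact Subgroup.subset_closure (d_order h 0)
          exact h.d_ne_one 0 (Subgroup.mem_bot.mp h3)
        · exact hne (top_le_iff.mp (h1 ▸ hcl))
    have hconj := hall (h.d 0) (h.d 1 * h.d 2) (d_order h 0) (dd_order h (by decide))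
    obtain ⟨c, hc⟩ := isConj_iff.mp hconj
    exact dd_not_mem_D F (i := 1) (j := 2) (by decide) ⟨c, hc.symm⟩
  -- so `W` is normal of odd order
  have hnormal : (Classification.NonComponent.W V).Normal := Subgroup.normalizer_eq_top_iff.mp htop
  rcases hnormal.eq_bot_or_eq_top with h1 | h1
  · rw [eq_bot_iff, ← h1, hWeq]
    exact Classification.NonComponent.le_W ha ha1
  · exfalso
    have h3 := Classification.NonComponent.not_dvd_W hsolv hL hEE hE3
    rw [← hWeq, h1, Subgroup.card_top] at h3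
    apply h3
    rw [← d_order h 0]
    exact orderOf_dvd_natCard _

include F in
/-- the centralizer of an involution of `E` has characteristic two -/
theorem char_two [IsSimpleGroup G] (hZ : Cfsg.Agent.R01.Closing.ZStar.{u}) (hFT : OddOrder.{u})
    {a : G} (ha : a ∈ h.E) (ha1 : a ≠ 1) :
    Subgroup.centralizer (pCore 2 ↥(Subgroup.centralizer ({a} : Set G)) :
      Set ↥(Subgroup.centralizer ({a} : Set G))) ≤ pCore 2 ↥(Subgroup.centralizer ({a} : Set G)) := by
  haveI h2 : Fact (Nat.Prime 2) := ⟨Nat.prime_two⟩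
  haveI := solvable_invol F hZ hFT (h.E_sq a ha) ha1
  apply Classification.LocalCore.centralizer_pCore_le
  exact (Subgroup.map_eq_bot_iff_of_injective _ (Subgroup.subtype_injective _)).1
    (core_eq_bot F hZ hFT ha ha1)

end Cfsg.Agent.SylowU5.Cores
end

-- part: SylowU5/CharTwo
section
/-! Step (4), first half: `O_2(C(z)) = Q`, `E` normal in `C(t)`. -/

set_option autoImplicit false
set_option linter.style.haveILetI false

namespace Cfsg.Agent.SylowU5.CharTwo

universe u

open Cfsg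
open Cfsg.Agent.SylowU5.Basic Cfsg.Agent.SylowU5.Elem Cfsg.Agent.SylowU5.SolvT
  Cfsg.Agent.SylowU5.Fus Cfsg.Agent.SylowU5.Cores

section general

variable {G : Type u} [Group G] [Finite G]

/-- `O_2(C_G(a))` as a subgroup of `G` -/
def OC (a : G) : Subgroup G :=
  (pCore 2 ↥(Subgroup.centralizer ({a} : Set G))).map (Subgroup.centralizer ({a} : Set G)).subtype

omit [Finite G] in
theorem OC_le (a : G) : OC a ≤ Subgroup.centralizer ({a} : Set G) := by
  rintro _ ⟨x, -, rfl⟩
  exact x.2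

theorem isPGroup_OC (a : G) : IsPGroup 2 (OC a) :=
  (Cfsg.Agent.Lib.Cores.pCore_isPGroup 2).map _

omit [Finite G] in
theorem conj_mem_OC {a c x : G} (hc : c ∈ Subgroup.centralizer ({a} : Set G)) (hx : x ∈ OC a) :
    c * x * c⁻¹ ∈ OC a := by
  obtain ⟨y, hy, rfl⟩ := hx
  haveI := Cfsg.Agent.Lib.Cores.pCore_normal (G := ↥(Subgroup.centralizer ({a} : Set G))) 2
  refine ⟨⟨c, hc⟩ * y * (⟨c, hc⟩)⁻¹, ?_, rfl⟩
  exact Subgroup.Normal.conj_mem this y hy ⟨c, hc⟩

omit [Finite G] in
/-- characteristic two: elements of `C(a)` commuting with `O_2(C(a))` lie in it -/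
theorem mem_OC {a : G} (hc2 : Subgroup.centralizer (pCore 2 ↥(Subgroup.centralizer ({a} : Set G)) :
      Set ↥(Subgroup.centralizer ({a} : Set G))) ≤ pCore 2 ↥(Subgroup.centralizer ({a} : Set G)))
    {x : G} (hx : x ∈ Subgroup.centralizer ({a} : Set G)) (hcomm : ∀ y ∈ OC a, y * x = x * y) :
    x ∈ OC a := by
  refine ⟨⟨x, hx⟩, hc2 ?_, rfl⟩
  rw [Subgroup.mem_centralizer_iff]
  intro y hy
  apply Subtype.ext
  exact hcomm y ⟨y, hy, rfl⟩

/-- a 2-group normalized by a Sylow 2-subgroup of `G` is contained in it -/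
theorem le_of_normalized (T : Sylow 2 G) {X : Subgroup G} (hX : IsPGroup 2 X)
    (hn : ∀ g ∈ (T : Subgroup G), ∀ x ∈ X, g * x * g⁻¹ ∈ X) : X ≤ (T : Subgroup G) := by
  have hle : (T : Subgroup G) ≤ Subgroup.normalizer (X : Set G) := by
    intro g hg
    rw [Subgroup.mem_normalizer_iff]
    intro x
    constructor
    · exact hn g hg x
    · intro hx
      have := hn g⁻¹ (inv_mem hg) _ hx
      have h2 : g⁻¹ * (g * x * g⁻¹) * g⁻¹⁻¹ = x := by group
      rwa [h2] at this
  have hp : IsPGroup 2 ↥((T : Subgroup G) ⊔ X) := IsPGroup.to_sup_of_normal_right' T.isPGroup' hX hle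
  have := T.is_maximal' hp le_sup_left
  exact le_sup_right.trans (le_of_eq this)

end general

variable {G : Type u} [Group G] [Finite G] [IsSimpleGroup G] {T : Sylow 2 G}
  {h : U5T (T : Subgroup G)}

omit [Finite G] [IsSimpleGroup G] in
theorem T_le_z (h : U5T (T : Subgroup G)) :
    (T : Subgroup G) ≤ Subgroup.centralizer ({h.d 0} : Set G) := fun g hg =>
  Subgroup.mem_centralizer_singleton_iff.mpr (h.z_comm g hg)

omit [Finite G] [IsSimpleGroup G] in
theorem exists_u_type (h : U5T (T : Subgroup G)) : ∃ u ∈ h.Q, u * u = 1 ∧ u ∉ h.E := by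
  have hne : ¬ (T : Subgroup G) ≤ h.V := by
    intro hle
    have h1 : h.V = (T : Subgroup G) := le_antisymm h.V_le hle
    have h2 := h.card_V
    rw [h1, h.card_T] at h2
    norm_num at h2
  obtain ⟨g, hg, hgV⟩ := SetLike.not_le_iff_exists.mp hne
  obtain ⟨u, huQ, hu2, hu⟩ := h.exists_u g hg hgV
  refine ⟨u, huQ, hu2, fun huE => hgV ?_⟩
  have h3 : g = (u * g⁻¹)⁻¹ * u := by group
  rw [h3]
  exact h.V.mul_mem (h.V.inv_mem hu) (h.E_le huE)

variable (F : U5Fus T h)

include F in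
theorem OC_z_eq (hZ : Cfsg.Agent.R01.Closing.ZStar.{u}) (hFT : OddOrder.{u}) :
    OC (h.d 0) = h.Q := by
  classical
  haveI h2 : Fact (Nat.Prime 2) := ⟨Nat.prime_two⟩
  have hc2 := char_two F hZ hFT (h.d_mem 0) (h.d_ne_one 0)
  have hzC : h.d 0 ∈ Subgroup.centralizer ({h.d 0} : Set G) :=
    Subgroup.mem_centralizer_singleton_iff.mpr rfl
  have hXT : OC (h.d 0) ≤ (T : Subgroup G) :=
    le_of_normalized T (isPGroup_OC _) (fun g hg x hx => conj_mem_OC (T_le_z h hg) hx)
  have hzX : h.d 0 ∈ OC (h.d 0) := by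
    apply mem_OC hc2 hzC
    intro y hy
    exact Subgroup.mem_centralizer_singleton_iff.mp (OC_le _ hy)
  -- `OC z` is not contained in `<z>`
  have hbig : ∃ y ∈ OC (h.d 0), y ≠ 1 ∧ y ≠ h.d 0 := by
    by_contra hcon
    push Not at hcon
    have hT1 : ∀ g ∈ (T : Subgroup G), g = 1 ∨ g = h.d 0 := by
      intro g hg
      by_cases hg1 : g = 1
      · exact Or.inl hg1
      · right
        apply hcon g _ hg1
        apply mem_OC hc2 (T_le_z h hg)
        intro y hy
        by_cases hy1 : y = 1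
        · rw [hy1, one_mul, mul_one]
        · rw [hcon y hy hy1]
          exact (h.z_comm g hg).symm
    have h3 := hT1 _ (d_mem_T h 1)
    rcases h3 with h3 | h3
    · exact h.d_ne_one 1 h3
    · exact absurd (h.d_inj 1 0 h3) (by decide)
  -- an element of the second centre
  have hsec : ∃ y ∈ OC (h.d 0), y ≠ 1 ∧ y ≠ h.d 0 ∧
      ∀ g ∈ (T : Subgroup G), g * y = y * g ∨ g * y = y * g * h.d 0 := by
    set Z : Subgroup (T : Subgroup G) := Subgroup.center (T : Subgroup G) with hZdef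
    have hZmem : ∀ x : (T : Subgroup G), x ∈ Z ↔ (x : G) = 1 ∨ (x : G) = h.d 0 := by
      intro x
      constructor
      · intro hx
        apply h.center_T x x.2
        intro g hg
        exact congrArg Subtype.val (Subgroup.mem_center_iff.mp hx ⟨g, hg⟩)
      · intro hx
        rw [hZdef, Subgroup.mem_center_iff]
        intro g
        apply Subtype.ext
        rcases hx with hx | hx
        · change (g : G) * (x : G) = (x : G) * (g : G)
          rw [hx, one_mul, mul_one]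
        · change (g : G) * (x : G) = (x : G) * (g : G)
          rw [hx]
          exact h.z_comm g g.2
    haveI hnil : Group.IsNilpotent ((T : Subgroup G) ⧸ Z) := by
      haveI : Group.IsNilpotent (T : Subgroup G) := T.isPGroup'.isNilpotent
      exact Group.nilpotent_of_surjective (QuotientGroup.mk' Z) (QuotientGroup.mk'_surjective Z)
    set X₁ : Subgroup (T : Subgroup G) := (OC (h.d 0)).subgroupOf (T : Subgroup G) with hX₁
    haveI hX₁n : X₁.Normal := by
      constructor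
      intro x hx g
      rw [hX₁, Subgroup.mem_subgroupOf] at hx ⊢
      exact conj_mem_OC (T_le_z h g.2) hx
    haveI hN : (X₁.map (QuotientGroup.mk' Z)).Normal := hX₁n.map _ (QuotientGroup.mk'_surjective Z)
    have hNbot : X₁.map (QuotientGroup.mk' Z) ≠ ⊥ := by
      intro hbot
      obtain ⟨y, hy, hy1, hyz⟩ := hbig
      have h4 : (QuotientGroup.mk' Z) ⟨y, hXT hy⟩ ∈ X₁.map (QuotientGroup.mk' Z) :=
        ⟨⟨y, hXT hy⟩, hy, rfl⟩
      rw [hbot, Subgroup.mem_bot] at h4
      have h5 : (⟨y, hXT hy⟩ : (T : Subgroup G)) ∈ Z := (QuotientGroup.eq_one_iff _).mp h4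
      rcases (hZmem _).mp h5 with h6 | h6
      · exact hy1 h6
      · exact hyz h6
    obtain ⟨w, hw, hw1, hwc⟩ := Cfsg.Agent.S0015.exists_mem_center_of_normal _ hNbot
    obtain ⟨y, hy, rfl⟩ := hw
    have hy' : (y : G) ∈ OC (h.d 0) := hy
    have hyZ : y ∉ Z := fun h5 => hw1 ((QuotientGroup.eq_one_iff y).mpr h5)
    rw [hZmem] at hyZ
    push Not at hyZ
    refine ⟨y, hy', hyZ.1, hyZ.2, ?_⟩
    intro g hg
    have h6 := Subgroup.mem_center_iff.mp hwc ((QuotientGroup.mk' Z) ⟨g, hg⟩)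
    rw [← map_mul, ← map_mul] at h6
    have h7 : (⟨g, hg⟩ * y)⁻¹ * (y * ⟨g, hg⟩) ∈ Z := QuotientGroup.eq.mp h6
    have h8 : ((y : G) * g)⁻¹ * (g * (y : G)) = 1 ∨ ((y : G) * g)⁻¹ * (g * (y : G)) = h.d 0 := by
      have h9 : ((y : G) * g)⁻¹ * (g * (y : G)) =
          (((⟨g, hg⟩ * y)⁻¹ * (y * ⟨g, hg⟩) : (T : Subgroup G)) : G)⁻¹ := by
        simp only [Subgroup.coe_mul, Subgroup.coe_inv]
        group
      rw [h9]
      rcases (hZmem _).mp h7 with h10 | h10
      · left; rw [h10, inv_one]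
      · right; rw [h10, d_inv h 0]
    rcases h8 with h9 | h9
    · left
      exact (inv_mul_eq_one.mp h9).symm
    · right
      rw [← h9]; group
  obtain ⟨y, hyX, hy1, hyz, hyc⟩ := hsec
  obtain ⟨hyE, hyQ⟩ := h.center_two y (hXT hyX) hyc
  -- all noncentral involutions of `Q` lie in `OC z`
  have ht : h.d 1 * h.d 2 ∈ OC (h.d 0) := by
    obtain ⟨c, hc, hc2⟩ := F.u_fus y hyQ (h.E_sq y hyE) hy1 hyz
    rw [← hc2]
    exact conj_mem_OC (Subgroup.mem_centralizer_singleton_iff.mpr hc) hyX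
  have hu : ∀ u ∈ h.Q, u * u = 1 → u ∈ OC (h.d 0) := by
    intro u hu hu2
    by_cases hu1 : u = 1
    · rw [hu1]; exact Subgroup.one_mem _
    by_cases huz : u = h.d 0
    · rw [huz]; exact hzX
    obtain ⟨c, hc, hc2⟩ := F.u_fus u hu hu2 hu1 huz
    have h3 : u = c⁻¹ * (h.d 1 * h.d 2) * c⁻¹⁻¹ := by rw [← hc2]; group
    rw [h3]
    exact conj_mem_OC (Subgroup.inv_mem _ (Subgroup.mem_centralizer_singleton_iff.mpr hc)) ht
  have hQX : h.Q ≤ OC (h.d 0) := by
    apply h.Q_gen.trans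
    rw [Subgroup.closure_le]
    rintro u ⟨hu1, hu2, -⟩
    exact hu u hu1 hu2
  apply le_antisymm _ hQX
  by_contra hcon
  obtain ⟨g, hgX, hgQ⟩ := SetLike.not_le_iff_exists.mp hcon
  have hd1 : h.d 1 ∈ OC (h.d 0) := by
    rcases h.T_mod_Q g (hXT hgX) hgQ with h3 | h3
    · have h4 : h.d 1 = g⁻¹ * (g * h.d 1) := by group
      rw [h4]
      exact Subgroup.mul_mem _ (Subgroup.inv_mem _ hgX) (hQX h3)
    · have h4 : h.d 1 = (g * g)⁻¹ * (g * g * h.d 1) := by group
      rw [h4]
      exact Subgroup.mul_mem _ (Subgroup.inv_mem _ (Subgroup.mul_mem _ hgX hgX)) (hQX h3)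
  have hd : ∀ i, h.d i ∈ OC (h.d 0) := by
    intro i
    by_cases hi : i = 0
    · rw [hi]; exact hzX
    · have h4 : h.d i = h.d 1 * (h.d 1 * h.d i) := by rw [← mul_assoc, d_sq h 1, one_mul]
      rw [h4]
      exact Subgroup.mul_mem _ hd1 (hQX (h.dd_mem_Q 1 i (by decide) hi))
  have hEconj : ∀ c ∈ Subgroup.centralizer ({h.d 0} : Set G), ∀ x ∈ h.E, c * x * c⁻¹ ∈ h.E := by
    intro c hc x hx
    have key : ∀ i, ∃ j, c * h.d i * c⁻¹ = h.d j := by
      intro i
      have h5 := hXT (conj_mem_OC hc (hd i))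
      obtain ⟨k, hk⟩ := d_mem_D F i
      have h6 : c * h.d i * c⁻¹ = (c * k) * h.d 0 * (c * k)⁻¹ := by rw [hk]; group
      rw [h6]
      apply F.z_fus
      rw [← h6]; exact h5
    rcases h.E_cases x hx with h1 | ⟨i, hi⟩ | ⟨i, j, hij, hx1⟩
    · rw [h1, mul_one, mul_inv_cancel]; exact h.E.one_mem
    · obtain ⟨j, hj⟩ := key i
      rw [hi, hj]; exact h.d_mem j
    · obtain ⟨k, hk⟩ := key i
      obtain ⟨l, hl⟩ := key j
      have : c * x * c⁻¹ = (c * h.d i * c⁻¹) * (c * h.d j * c⁻¹) := by rw [hx1]; group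
      rw [this, hk, hl]
      exact dd_mem h k l
  obtain ⟨u, huQ, hu2, huE⟩ := exists_u_type h
  have hu1 : u ≠ 1 := fun h3 => huE (h3 ▸ h.E.one_mem)
  have huz : u ≠ h.d 0 := fun h3 => huE (h3 ▸ h.d_mem 0)
  obtain ⟨c, hc, hct⟩ := F.u_fus u huQ hu2 hu1 huz
  apply huE
  have h3 : u = c⁻¹ * (h.d 1 * h.d 2) * c⁻¹⁻¹ := by rw [← hct]; group
  rw [h3]
  exact hEconj _ (Subgroup.inv_mem _ (Subgroup.mem_centralizer_singleton_iff.mpr hc)) _ (dd_mem h 1 2)

include F in
/-- `Q` is normal in `C(z)` -/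
theorem hQn (hZ : Cfsg.Agent.R01.Closing.ZStar.{u}) (hFT : OddOrder.{u}) (c : G)
    (hc : c * h.d 0 = h.d 0 * c) (q : G) (hq : q ∈ h.Q) : c * q * c⁻¹ ∈ h.Q := by
  rw [← OC_z_eq F hZ hFT] at hq ⊢
  exact conj_mem_OC (Subgroup.mem_centralizer_singleton_iff.mpr hc) hq

end Cfsg.Agent.SylowU5.CharTwo
end

-- part: SylowU5/CharTwoT
section
/-! Step (4), first half: `E` is normal in `C(t)`, `D ∩ C(t) = {d 0, ..., d 4}`. -/

set_option autoImplicit false
set_option linter.style.haveILetI false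
set_option linter.unusedSectionVars false

namespace Cfsg.Agent.SylowU5.CharTwoT

universe u

open Cfsg
open Cfsg.Agent.SylowU5.Basic Cfsg.Agent.SylowU5.Elem Cfsg.Agent.SylowU5.SolvT
  Cfsg.Agent.SylowU5.Fus Cfsg.Agent.SylowU5.Cores Cfsg.Agent.SylowU5.CharTwo

section general

variable {G : Type u} [Group G] {T : Subgroup G} (h : U5T T)

theorem conj_inj {g x y : G} (hxy : g * x * g⁻¹ = g * y * g⁻¹) : x = y :=
  mul_left_cancel (mul_right_cancel hxy)

/-- `T` moves `t = d 1 * d 2` only to `t` and `d 3 * d 4` -/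
theorem conj_t {g : G} (hg : g ∈ T) :
    g * (h.d 1 * h.d 2) * g⁻¹ = h.d 1 * h.d 2 ∨ g * (h.d 1 * h.d 2) * g⁻¹ = h.d 3 * h.d 4 := by
  have hmul : g * (h.d 1 * h.d 2) * g⁻¹ = (g * h.d 1 * g⁻¹) * (g * h.d 2 * g⁻¹) := by group
  obtain ⟨i, hi⟩ := h.conj_d g hg 1
  obtain ⟨j, hj⟩ := h.conj_d g hg 2
  have hz : g * h.d 0 * g⁻¹ = h.d 0 := by rw [h.z_comm g hg, mul_inv_cancel_right]
  have hi0 : i ≠ 0 := by
    rintro rfl
    exact absurd (h.d_inj 1 0 (conj_inj (hi.trans hz.symm))) (by decide)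
  have hj0 : j ≠ 0 := by
    rintro rfl
    exact absurd (h.d_inj 2 0 (conj_inj (hj.trans hz.symm))) (by decide)
  have hij : i ≠ j := by
    rintro rfl
    exact absurd (h.d_inj 1 2 (conj_inj (hi.trans hj.symm))) (by decide)
  have hsq : ∀ k, g * (g * h.d k * g⁻¹) * g⁻¹ = h.d k := by
    intro k
    have h1 := V_comm h (h.sq_mem_V g hg) (h.d_mem k)
    calc g * (g * h.d k * g⁻¹) * g⁻¹ = (g * g * h.d k) * (g * g)⁻¹ := by group
      _ = h.d k := by rw [h1, mul_inv_cancel_right]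
  have hfix : ∀ k, k ≠ 0 → g * h.d k * g⁻¹ = h.d k → ∀ l, g * h.d l * g⁻¹ = h.d l := by
    intro k hk hgk l
    have h1 : g ∈ h.V := by
      apply h.cent_d k hk g hg
      rw [mul_inv_eq_iff_eq_mul] at hgk
      exact hgk
    rw [V_comm h h1 (h.d_mem l), mul_inv_cancel_right]
  have hi' := hsq 1
  rw [hi] at hi'
  have hj' := hsq 2
  rw [hj] at hj'
  -- `hi' : g * d i * g⁻¹ = d 1`, `hj' : g * d j * g⁻¹ = d 2`
  have e1 : i = 1 → j = 2 := by
    intro e
    rw [e] at hi
    exact h.d_inj _ _ (hj.symm.trans (hfix 1 (by decide) hi 2))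
  have e2 : j = 2 → i = 1 := by
    intro e
    rw [e] at hj
    exact h.d_inj _ _ (hi.symm.trans (hfix 2 (by decide) hj 1))
  have e3 : i = 2 → j = 1 := by
    intro e
    rw [e] at hi'
    exact h.d_inj _ _ (hj.symm.trans hi')
  have e4 : j = 1 → i = 2 := by
    intro e
    rw [e] at hj'
    exact h.d_inj _ _ (hi.symm.trans hj')
  rw [hmul, hi, hj]
  have hcase : ∀ i j : Fin 5, i ≠ 0 → j ≠ 0 → i ≠ j → (i = 1 → j = 2) → (j = 2 → i = 1) →
      (i = 2 → j = 1) → (j = 1 → i = 2) → (i = 1 ∧ j = 2) ∨ (i = 2 ∧ j = 1) ∨ (i = 3 ∧ j = 4) ∨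
      (i = 4 ∧ j = 3) := by decide
  rcases hcase i j hi0 hj0 hij e1 e2 e3 e4 with ⟨h1, h2⟩ | ⟨h1, h2⟩ | ⟨h1, h2⟩ | ⟨h1, h2⟩
  · rw [h1, h2]; exact Or.inl rfl
  · rw [h1, h2]; left; exact d_comm h 2 1
  · rw [h1, h2]; exact Or.inr rfl
  · rw [h1, h2]; right; exact d_comm h 4 3

theorem card_cent_t [Finite G] :
    512 ≤ Nat.card ↥(T ⊓ Subgroup.centralizer ({h.d 1 * h.d 2} : Set G)) := by
  classical
  set t := h.d 1 * h.d 2 with ht
  set T₁ : Subgroup G := T ⊓ Subgroup.centralizer ({t} : Set G) with hT₁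
  have hmem : ∀ g ∈ T, g * t * g⁻¹ = t → g ∈ T₁ := by
    intro g hg h1
    refine ⟨hg, Subgroup.mem_centralizer_singleton_iff.mpr ?_⟩
    rw [mul_inv_eq_iff_eq_mul] at h1
    exact h1
  obtain ⟨s, hs⟩ : ∃ s : G, ∀ g ∈ T, g ∈ T₁ ∨ s⁻¹ * g ∈ T₁ := by
    by_cases hex : ∃ s ∈ T, s * t * s⁻¹ = h.d 3 * h.d 4
    · obtain ⟨s, hsT, hs⟩ := hex
      refine ⟨s, fun g hg => ?_⟩
      rcases conj_t h hg with h1 | h1
      · exact Or.inl (hmem g hg h1)
      · right
        apply hmem _ (T.mul_mem (T.inv_mem hsT) hg)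
        calc s⁻¹ * g * t * (s⁻¹ * g)⁻¹ = s⁻¹ * (g * t * g⁻¹) * s := by group
          _ = s⁻¹ * (s * t * s⁻¹) * s := by rw [h1, hs]
          _ = t := by group
    · push Not at hex
      refine ⟨1, fun g hg => Or.inl (hmem g hg ?_)⟩
      rcases conj_t h hg with h1 | h1
      · exact h1
      · exact absurd h1 (hex g hg)
  have hinj : Nat.card T ≤ Nat.card (Bool × T₁) := by
    apply Nat.card_le_card_of_injective
      (fun g : T => if hg : (g : G) ∈ T₁ then (true, (⟨g, hg⟩ : T₁)) else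
        (false, ⟨s⁻¹ * g, (hs g g.2).resolve_left hg⟩))
    intro a b hab
    simp only at hab
    split_ifs at hab with h1 h2
    · apply Subtype.ext
      have h3 : (⟨(a : G), h1⟩ : T₁) = ⟨(b : G), h2⟩ := congrArg Prod.snd hab
      exact congrArg (fun x : T₁ => (x : G)) h3
    · exact absurd (congrArg Prod.fst hab) (by simp)
    · exact absurd (congrArg Prod.fst hab) (by simp)
    · apply Subtype.ext
      rename_i h2
      have h3 : (⟨s⁻¹ * (a : G), (hs a a.2).resolve_left h1⟩ : T₁) =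
          ⟨s⁻¹ * (b : G), (hs b b.2).resolve_left h2⟩ := congrArg Prod.snd hab
      exact mul_left_cancel (congrArg (fun x : T₁ => (x : G)) h3)
  rw [h.card_T, Nat.card_prod, Nat.card_eq_fintype_card, Fintype.card_bool] at hinj
  omega

end general

variable {G : Type u} [Group G] [Finite G] [IsSimpleGroup G] {T : Sylow 2 G}
  {h : U5T (T : Subgroup G)} (F : U5Fus T h)

include F in
theorem OC_t_le : OC (h.d 1 * h.d 2) ≤ (T : Subgroup G) := by
  classical
  haveI h2 : Fact (Nat.Prime 2) := ⟨Nat.prime_two⟩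
  set t := h.d 1 * h.d 2 with ht
  set T₁ : Subgroup G := (T : Subgroup G) ⊓ Subgroup.centralizer ({t} : Set G) with hT₁
  have hT₁p : IsPGroup 2 T₁ := T.isPGroup'.to_le inf_le_left
  have hle : T₁ ≤ Subgroup.normalizer (OC t : Set G) := by
    intro g hg
    rw [Subgroup.mem_normalizer_iff]
    intro x
    constructor
    · exact fun hx => conj_mem_OC hg.2 hx
    · intro hx
      have := conj_mem_OC (Subgroup.inv_mem _ hg.2) hx
      have h2 : g⁻¹ * (g * x * g⁻¹) * g⁻¹⁻¹ = x := by group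
      rwa [h2] at this
  have hRp : IsPGroup 2 ↥(T₁ ⊔ OC t) := IsPGroup.to_sup_of_normal_right' hT₁p (isPGroup_OC t) hle
  set R := T₁ ⊔ OC t with hR
  have hRt : R ≤ Subgroup.centralizer ({t} : Set G) := sup_le inf_le_right (OC_le t)
  obtain ⟨g, hg⟩ := exists_conj_mem T R hRp
  have hcardR : Nat.card R ∣ 1024 := by
    have h1 : R.map (MulAut.conj g).toMonoidHom ≤ (T : Subgroup G) := by
      rintro _ ⟨x, hx, rfl⟩
      exact hg x hx
    have h3 : Nat.card (R.map (MulAut.conj g).toMonoidHom) = Nat.card R :=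
      (Nat.card_congr (R.equivMapOfInjective _ (MulAut.conj g).injective).toEquiv).symm
    rw [← h3, ← h.card_T]
    exact Subgroup.card_dvd_of_le h1
  have hne : Nat.card R ≠ 1024 := by
    intro hcard
    have h1 : R.map (MulAut.conj g).toMonoidHom ≤ (T : Subgroup G) := by
      rintro _ ⟨x, hx, rfl⟩
      exact hg x hx
    have h3 : Nat.card (R.map (MulAut.conj g).toMonoidHom) = Nat.card R :=
      (Nat.card_congr (R.equivMapOfInjective _ (MulAut.conj g).injective).toEquiv).symm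
    have h4 : R.map (MulAut.conj g).toMonoidHom = (T : Subgroup G) := by
      apply Subgroup.eq_of_le_of_card_ge h1
      rw [h3, hcard, h.card_T]
    have htR : t ∈ R := by
      apply Subgroup.mem_sup_left
      exact ⟨E_le_T h (dd_mem h 1 2), Subgroup.mem_centralizer_singleton_iff.mpr rfl⟩
    have h5 := h.center_T (g * t * g⁻¹) (hg t htR) (by
      intro k hk
      rw [← h4] at hk
      obtain ⟨x, hx, rfl⟩ := hk
      have hxt : x * t = t * x := Subgroup.mem_centralizer_singleton_iff.mp (hRt hx)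
      change g * x * g⁻¹ * (g * t * g⁻¹) = g * t * g⁻¹ * (g * x * g⁻¹)
      calc g * x * g⁻¹ * (g * t * g⁻¹) = g * (x * t) * g⁻¹ := by group
        _ = g * (t * x) * g⁻¹ := by rw [hxt]
        _ = g * t * g⁻¹ * (g * x * g⁻¹) := by group)
    rcases h5 with h5 | h5
    · apply h.dd_ne_one 1 2 (by decide)
      have : h.d 1 * h.d 2 = g⁻¹ * (g * t * g⁻¹) * g := by rw [ht]; group
      rw [this, h5]; group
    · apply dd_not_mem_D F (i := 1) (j := 2) (by decide)
      refine ⟨g⁻¹, ?_⟩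
      rw [← h5, ht]; group
  have hT₁R : T₁ ≤ R := le_sup_left
  have h512 : 512 ≤ Nat.card T₁ := card_cent_t h
  have hR512 : Nat.card R ≤ 512 := by
    have hd : Nat.card R ∣ 2 ^ 10 := by simpa only [_root_.Nat.reducePow] using hcardR
    obtain ⟨k, hk, hk2⟩ := (Nat.dvd_prime_pow Nat.prime_two).mp hd
    rw [hk2] at hne ⊢
    interval_cases k <;> simp_all only [_root_.Fin.isValue, _root_.sup_le_iff, _root_.inf_le_right, _root_.true_and, _root_.le_sup_left, _root_.Subgroup.mem_inf, _root_.Nat.reducePow, _root_.pow_zero, _root_.ne_eq, _root_.OfNat.one_ne_ofNat, _root_.not_false_eq_true, _root_.zero_le, _root_.Subgroup.card_eq_one, _root_.sup_eq_bot_iff, _root_.Nat.one_le_ofNat, _root_.pow_one, _root_.Nat.reduceEqDiff, _root_.Nat.reduceLeDiff, _root_.Std.le_refl, _root_.not_true_eq_false]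
  have hEq : T₁ = R := Subgroup.eq_of_le_of_card_ge hT₁R (hR512.trans h512)
  calc OC t ≤ R := le_sup_right
    _ = T₁ := hEq.symm
    _ ≤ (T : Subgroup G) := inf_le_left

include F in
theorem E_le_OC_t (hZ : Cfsg.Agent.R01.Closing.ZStar.{u}) (hFT : OddOrder.{u}) :
    h.E ≤ OC (h.d 1 * h.d 2) := by
  have hc2 := char_two F hZ hFT (dd_mem h 1 2) (h.dd_ne_one 1 2 (by decide))
  set t := h.d 1 * h.d 2 with ht
  have hEC : ∀ x ∈ h.E, x ∈ Subgroup.centralizer ({t} : Set G) := fun x hx =>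
    Subgroup.mem_centralizer_singleton_iff.mpr (E_comm h hx (dd_mem h 1 2))
  have hXT : OC t ≤ (T : Subgroup G) := OC_t_le F
  -- `z` commutes with `OC t`
  have hz : ∀ y ∈ OC t, y * h.d 0 = h.d 0 * y := fun y hy => h.z_comm y (hXT hy)
  -- hence `d 3` too
  obtain ⟨π, hπ, h0, h1, h2, -, -⟩ := exists_perm_three
  obtain ⟨n, -, hn⟩ := F.E_alt π (Equiv.Perm.mem_alternatingGroup.mpr hπ)
  have hnt : n * t = t * n := by
    have : n * t * n⁻¹ = t := by
      calc n * t * n⁻¹ = (n * h.d 1 * n⁻¹) * (n * h.d 2 * n⁻¹) := by rw [ht]; group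
        _ = t := by rw [hn, hn, h1, h2]
    rw [mul_inv_eq_iff_eq_mul] at this
    exact this
  have hnC : n ∈ Subgroup.centralizer ({t} : Set G) := Subgroup.mem_centralizer_singleton_iff.mpr hnt
  have hd3 : ∀ y ∈ OC t, y * h.d 3 = h.d 3 * y := by
    intro y hy
    have h3 : n * h.d 0 * n⁻¹ = h.d 3 := by rw [hn, h0]
    have h4 : n⁻¹ * y * n⁻¹⁻¹ ∈ OC t := conj_mem_OC (Subgroup.inv_mem _ hnC) hy
    have h5 := hz _ h4
    rw [← h3]
    calc y * (n * h.d 0 * n⁻¹) = n * ((n⁻¹ * y * n⁻¹⁻¹) * h.d 0) * n⁻¹ := by group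
      _ = n * (h.d 0 * (n⁻¹ * y * n⁻¹⁻¹)) * n⁻¹ := by rw [h5]
      _ = n * h.d 0 * n⁻¹ * y := by group
  intro x hx
  apply mem_OC hc2 (hEC x hx)
  intro y hy
  exact V_comm h (h.cent_d 3 (by decide) y (hXT hy) (hd3 y hy)) hx

include F in
theorem hDt (hZ : Cfsg.Agent.R01.Closing.ZStar.{u}) (hFT : OddOrder.{u}) (x : G) (hx : x ∈ D h)
    (hxt : x * (h.d 1 * h.d 2) = h.d 1 * h.d 2 * x) : ∃ i, x = h.d i := by
  classical
  haveI h2 : Fact (Nat.Prime 2) := ⟨Nat.prime_two⟩
  set t := h.d 1 * h.d 2 with ht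
  have hxC : x ∈ Subgroup.centralizer ({t} : Set G) := Subgroup.mem_centralizer_singleton_iff.mpr hxt
  have hxp : IsPGroup 2 (Subgroup.zpowers x) := by
    rintro ⟨y, hy⟩
    obtain ⟨k, rfl⟩ := Subgroup.mem_zpowers_iff.mp hy
    refine ⟨1, ?_⟩
    apply Subtype.ext
    simp only [pow_one, Subgroup.coe_pow, Subgroup.coe_one]
    rw [← zpow_natCast, ← zpow_mul, mul_comm, zpow_mul]
    have : x ^ ((2 : ℕ) : ℤ) = 1 := by rw [zpow_natCast, sq, D_sq h hx]
    rw [this, one_zpow]
  have hle : Subgroup.zpowers x ≤ Subgroup.normalizer (OC t : Set G) := by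
    rw [Subgroup.zpowers_le, Subgroup.mem_normalizer_iff]
    intro w
    constructor
    · exact fun hw => conj_mem_OC hxC hw
    · intro hw
      have := conj_mem_OC (Subgroup.inv_mem _ hxC) hw
      have h2 : x⁻¹ * (x * w * x⁻¹) * x⁻¹⁻¹ = w := by group
      rwa [h2] at this
  have hRp : IsPGroup 2 ↥(Subgroup.zpowers x ⊔ OC t) :=
    IsPGroup.to_sup_of_normal_right' hxp (isPGroup_OC t) hle
  obtain ⟨g, -, hg⟩ := exists_conj_d F hRp
  obtain ⟨j, hj⟩ := hg x (Subgroup.mem_sup_left (Subgroup.mem_zpowers x)) hx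
  have hall : ∀ i, ∃ k, g * h.d i * g⁻¹ = h.d k := fun i =>
    hg _ (Subgroup.mem_sup_right (E_le_OC_t F hZ hFT (h.d_mem i))) (d_mem_D F i)
  choose f hf using hall
  have hfinj : Function.Injective f := by
    intro a b hab
    apply h.d_inj
    apply conj_inj (g := g)
    rw [hf a, hf b, hab]
  have hfsurj := Finite.injective_iff_surjective.mp hfinj
  obtain ⟨i, hi⟩ := hfsurj j
  refine ⟨i, conj_inj (g := g) ?_⟩
  rw [hj, hf i, hi]

end Cfsg.Agent.SylowU5.CharTwoT
end
end

-- part: SylowU5/Geometry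
section
prune_inst 0x420102004712200000018001022001c6292000000004b00002000000004890c00a04206218a200110000280440030002003540000021000000000000001180080000002003040a000200010000004000000000000000000000000000000000000000000000
set_option linter.all false
open scoped Cfsg.Agent.FastGrp

/-!
# S0513: noncommuting elements of `D` have a product of order three

`D` is the class of `z = d 0`.  From `U5Fus` and the three hypotheses `hQn` (`Q` is normal in
`C_G(z)`), `hEt` and `hDt` (`D ∩ C_G(d 1 * d 2) = {d 0, ..., d 4}`), the elements `x, y` of `D` commute or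
`x * y` has order three.
-/

set_option autoImplicit false
set_option linter.style.haveILetI false

namespace Cfsg.Agent.SylowU5.Geometry

universe u

open Cfsg.Agent.SylowU5.Basic Cfsg.Agent.SylowU5.Elem Cfsg.Agent.SylowU5.SolvT
  Cfsg.Agent.SylowU5.Fus

section General

variable {K : Type*} [Group K]

theorem conj_pow_inv {x y : K} (hx : x * x = 1) (hy : y * y = 1) (m : ℕ) :
    x * (x * y) ^ m * x⁻¹ = ((x * y) ^ m)⁻¹ := by
  have hx' : x⁻¹ = x := inv_eq_of_mul_eq_one_left hx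
  have hy' : y⁻¹ = y := inv_eq_of_mul_eq_one_left hy
  have h1 : x * (x * y) * x⁻¹ = (x * y)⁻¹ := by
    rw [mul_inv_rev, hx', hy', ← mul_assoc, hx, one_mul]
  rw [← conj_pow, h1, inv_pow]

/-- the central involution of a dihedral group of order `4 * k` -/
theorem exists_central {x y : K} (hx : x * x = 1) (hy : y * y = 1) (k : ℕ)
    (hk : 0 < k) (ho : orderOf (x * y) = 2 * k) :
    ((x * y) ^ k * (x * y) ^ k = 1 ∧ (x * y) ^ k ≠ 1) ∧
      x * (x * y) ^ k = (x * y) ^ k * x ∧ y * (x * y) ^ k = (x * y) ^ k * y := by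
  have h1 : (x * y) ^ k * (x * y) ^ k = 1 := by
    rw [← pow_add, ← two_mul, ← ho, pow_orderOf_eq_one]
  have h2 : (x * y) ^ k ≠ 1 := by
    intro h
    have := orderOf_dvd_of_pow_eq_one h
    have := Nat.le_of_dvd hk this
    omega
  have h3 : x * (x * y) ^ k = (x * y) ^ k * x := by
    have := conj_pow_inv hx hy k
    rw [inv_eq_of_mul_eq_one_left h1, mul_inv_eq_iff_eq_mul] at this
    exact this
  refine ⟨⟨h1, h2⟩, h3, ?_⟩
  have h4 : x * y * (x * y) ^ k = (x * y) ^ k * (x * y) := by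
    rw [← pow_succ, ← pow_succ']
  have h5 : y = x * (x * y) := by rw [← mul_assoc, hx, one_mul]
  calc y * (x * y) ^ k = x * (x * y * (x * y) ^ k) := by rw [← mul_assoc, ← h5]
    _ = x * (x * y) ^ k * (x * y) := by rw [h4, ← mul_assoc]
    _ = (x * y) ^ k * (x * (x * y)) := by rw [h3, mul_assoc]
    _ = (x * y) ^ k * y := by rw [← h5]

/-- involutions with a product of odd order are conjugate -/
theorem conj_of_odd {x y : K} (hx : x * x = 1) (hy : y * y = 1) (ho : Odd (orderOf (x * y))) :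
    ∃ g : K, g * x * g⁻¹ = y := by
  obtain ⟨k, hk⟩ := ho
  have hx' : x⁻¹ = x := inv_eq_of_mul_eq_one_left hx
  have hy' : y⁻¹ = y := inv_eq_of_mul_eq_one_left hy
  have h1 : (x * y) ^ k * (x * y) ^ k * (x * y) = 1 := by
    rw [← pow_add, ← two_mul, ← pow_succ, ← hk, pow_orderOf_eq_one]
  have h2 := conj_pow_inv hx hy k
  have h3 : x * ((x * y) ^ k)⁻¹ = (x * y) ^ k * x := by
    rw [← h2, hx']
    calc x * (x * (x * y) ^ k * x) = (x * x) * (x * y) ^ k * x := by simp only [mul_assoc]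
      _ = (x * y) ^ k * x := by rw [hx, one_mul]
  refine ⟨(x * y) ^ k, ?_⟩
  calc (x * y) ^ k * x * ((x * y) ^ k)⁻¹ = (x * y) ^ k * (x * ((x * y) ^ k)⁻¹) := mul_assoc _ _ _
    _ = (x * y) ^ k * (x * y) ^ k * x := by rw [h3, mul_assoc]
    _ = (x * y)⁻¹ * x := by rw [eq_inv_of_mul_eq_one_left h1]
    _ = y := by rw [mul_inv_rev, hx', hy', mul_assoc, hx, mul_one]

end General

section Local

variable {G : Type u} [Group G] [Finite G] {T : Sylow 2 G} {h : U5T (T : Subgroup G)}

omit [Finite G] in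
theorem D_mul_pow {x y : G} (hx : x ∈ D h) (hy : y ∈ D h) (m : ℕ) : x * (x * y) ^ m ∈ D h := by
  induction m using Nat.twoStepInduction with
  | zero => simpa using hx
  | one => rw [pow_one, ← mul_assoc, D_sq h hx, one_mul]; exact hy
  | more m ih _ =>
    have h1 : x * (x * y) ^ (m + 2) = (x * y)⁻¹ * (x * (x * y) ^ m) * (x * y)⁻¹⁻¹ := by
      have h2 : (x * y)⁻¹ * x = x * (x * y) := by
        rw [mul_inv_rev, D_inv h hx, D_inv h hy, mul_assoc, D_sq h hx, mul_one, ← mul_assoc, D_sq h hx,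
          one_mul]
      calc x * (x * y) ^ (m + 2) = x * (x * y) * (x * y) ^ m * (x * y) := by
            rw [pow_succ, pow_succ']; simp only [mul_assoc]
        _ = _ := by rw [← h2, inv_inv]; simp only [mul_assoc]
    rw [h1]
    exact D_conj h ih _

variable (F : U5Fus T h)

omit [Finite G] in
include F in
theorem dd_conj {i j : Fin 5} (hij : i ≠ j) : ∃ g : G, g * (h.d i * h.d j) * g⁻¹ = h.d 1 * h.d 2 := by
  obtain ⟨π, hπ, h1, h2⟩ := exists_perm_two i j hij
  obtain ⟨n, -, hn⟩ := F.E_alt π (Equiv.Perm.mem_alternatingGroup.mpr hπ)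
  refine ⟨n, ?_⟩
  calc n * (h.d i * h.d j) * n⁻¹ = (n * h.d i * n⁻¹) * (n * h.d j * n⁻¹) := by group
    _ = h.d 1 * h.d 2 := by rw [hn, hn, h1, h2]

include F in
/-- every involution is conjugate to `d 0` or to `d 1 * d 2` -/
theorem invol_cases {s : G} (hs : s * s = 1) (hs1 : s ≠ 1) :
    s ∈ D h ∨ ∃ g : G, g * s * g⁻¹ = h.d 1 * h.d 2 := by
  have hp : IsPGroup 2 ↥(Subgroup.zpowers s ⊔ Subgroup.zpowers s) := isPGroup_pair hs hs rfl
  obtain ⟨g, hg⟩ := exists_conj_mem T _ hp
  have h1 := hg s (Subgroup.mem_sup_left (Subgroup.mem_zpowers s))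
  set s' := g * s * g⁻¹ with hs'
  have hs'2 : s' * s' = 1 := by
    calc s' * s' = g * (s * s) * g⁻¹ := by rw [hs']; group
      _ = 1 := by rw [hs]; group
  have hs'1 : s' ≠ 1 := by
    intro h2
    apply hs1
    have : s = g⁻¹ * s' * g := by rw [hs']; group
    rw [this, h2]; group
  rcases h.invol s' h1 hs'2 with hE | hQ
  · rcases h.E_cases s' hE with h2 | ⟨i, hi⟩ | ⟨i, j, hij, hx⟩
    · exact absurd h2 hs'1
    · left
      apply D_of_conj h g
      rw [← hs', hi]
      exact d_mem_D F i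
    · right
      obtain ⟨k, hk⟩ := dd_conj F hij
      exact ⟨k * g, by rw [conj_mul_eq, ← hs', hx, hk]⟩
  · by_cases h2 : s' = h.d 0
    · left
      apply D_of_conj h g
      rw [← hs', h2]
      exact z_mem_D h
    · right
      obtain ⟨c, -, hc⟩ := F.u_fus s' hQ hs'2 hs'1 h2
      exact ⟨c * g, by rw [conj_mul_eq, ← hs', hc]⟩

variable (hDt : ∀ x ∈ D h, x * (h.d 1 * h.d 2) = h.d 1 * h.d 2 * x → ∃ i, x = h.d i)

omit [Finite G] in
include hDt in
/-- the elements of `D` centralizing a conjugate of `d 1 * d 2` -/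
theorem mem_cent {g i : G} (hg : g * i * g⁻¹ = h.d 1 * h.d 2) {x : G} (hx : x ∈ D h)
    (hxi : x * i = i * x) : ∃ k, x = g⁻¹ * h.d k * g := by
  obtain ⟨k, hk⟩ := hDt (g * x * g⁻¹) (D_conj h hx g) (by
    rw [← hg]
    calc g * x * g⁻¹ * (g * i * g⁻¹) = g * (x * i) * g⁻¹ := by group
      _ = g * i * g⁻¹ * (g * x * g⁻¹) := by rw [hxi]; group)
  exact ⟨k, by rw [← hk]; group⟩

omit [Finite G] in
include hDt in
theorem cent_comm {g i : G} (hg : g * i * g⁻¹ = h.d 1 * h.d 2) {x y : G} (hx : x ∈ D h)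
    (hxi : x * i = i * x) (hy : y ∈ D h) (hyi : y * i = i * y) : x * y = y * x := by
  obtain ⟨k, hk⟩ := mem_cent hDt hg hx hxi
  obtain ⟨l, hl⟩ := mem_cent hDt hg hy hyi
  rw [hk, hl]
  calc g⁻¹ * h.d k * g * (g⁻¹ * h.d l * g) = g⁻¹ * (h.d k * h.d l) * g := by group
    _ = g⁻¹ * h.d l * g * (g⁻¹ * h.d k * g) := by rw [d_comm h k l]; group

include F hDt

/-- two elements of `D` which centralize the product of two distinct commuting elements of `D` commute -/
theorem cent_pair_comm {a b : G} (ha : a ∈ D h) (hb : b ∈ D h) (hab : a * b = b * a) (hne : a ≠ b)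
    {x y : G} (hx : x ∈ D h) (hxi : x * (a * b) = a * b * x) (hy : y ∈ D h)
    (hyi : y * (a * b) = a * b * y) : x * y = y * x := by
  obtain ⟨g, h1, h2⟩ := exists_conj_pair F ha hb hab hne
  have hg : g * (a * b) * g⁻¹ = h.d 1 * h.d 2 := by rw [← h1, ← h2]; group
  exact cent_comm hDt hg hx hxi hy hyi

/-- (i) noncommuting elements of `D` have a product of odd order -/
theorem odd_order {x y : G} (hx : x ∈ D h) (hy : y ∈ D h) (hxy : x * y ≠ y * x) :
    Odd (orderOf (x * y)) := by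
  by_contra hodd
  rw [Nat.not_odd_iff_even] at hodd
  obtain ⟨k, hk⟩ := hodd
  rw [← two_mul] at hk
  have hk0 : 0 < k := by
    have := orderOf_pos (x * y)
    omega
  obtain ⟨⟨h1, h2⟩, h3, h4⟩ := exists_central (D_sq h hx) (D_sq h hy) k hk0 hk
  set i := (x * y) ^ k with hi
  have hxi : x * i ∈ D h := D_mul_pow hx hy k
  have hcomm : x * (x * i) = x * i * x := by rw [mul_assoc, ← h3]
  have hne : x ≠ x * i := by
    intro h5
    exact h2 (mul_eq_left.mp h5.symm)
  have hprod : x * (x * i) = i := by rw [← mul_assoc, D_sq h hx, one_mul]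
  apply hxy
  exact cent_pair_comm F hDt hx hxi hcomm hne hx (by rw [hprod]; exact h3) hy
    (by rw [hprod]; exact h4)

/-- (ii) an element of `D` commutes with one of `d 1, ..., d 4` -/
theorem exists_comm {x : G} (hx : x ∈ D h) (hxz : x * h.d 0 ≠ h.d 0 * x) :
    ∃ i, i ≠ 0 ∧ x * h.d i = h.d i * x := by
  classical
  -- `t' = d 0 * d 1`
  obtain ⟨r, hr⟩ := dd_conj F (i := 0) (j := 1) (by decide)
  set t := h.d 0 * h.d 1 with ht
  have htt : t * t = 1 := h.E_sq _ (dd_mem h 0 1)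
  have htD : t ∉ D h := dd_not_mem_D F (by decide)
  have hcent : ∀ y ∈ D h, y * t = t * y → ∃ k, y = h.d k := by
    intro y hy hyt
    have h0 : h.d 0 * t = t * h.d 0 := E_comm h (h.d_mem 0) (dd_mem h 0 1)
    obtain ⟨k, hk⟩ := mem_cent hDt hr hy hyt
    -- the five elements `r⁻¹ * d k * r` are the five `d k`
    have hall : ∀ l, ∃ m, h.d l = r⁻¹ * h.d m * r := fun l =>
      mem_cent hDt hr (d_mem_D F l) (E_comm h (h.d_mem l) (dd_mem h 0 1))
    choose f hf using hall
    have hfi : Function.Injective f := by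
      intro a b hab
      exact h.d_inj _ _ (by rw [hf a, hf b, hab])
    obtain ⟨l, hl⟩ := (Finite.injective_iff_surjective.mp hfi) k
    exact ⟨l, by rw [hk, ← hl, ← hf l]⟩
  clear_value t
  have heven : ¬ Odd (orderOf (t * x)) := by
    intro hodd
    obtain ⟨g, hg⟩ := conj_of_odd htt (D_sq h hx) hodd
    exact htD (D_of_conj h g (by rw [hg]; exact hx))
  rw [Nat.not_odd_iff_even] at heven
  obtain ⟨k, hk⟩ := heven
  rw [← two_mul] at hk
  have hk0 : 0 < k := by
    have := orderOf_pos (t * x)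
    omega
  obtain ⟨⟨h1, h2⟩, h3, h4⟩ := exists_central htt (D_sq h hx) k hk0 hk
  set i := (t * x) ^ k with hi
  clear_value i
  rcases invol_cases F h1 h2 with hiD | ⟨g, hg⟩
  · obtain ⟨l, hl⟩ := hcent i hiD h3.symm
    rw [hl] at h4
    refine ⟨l, ?_, h4⟩
    rintro rfl
    exact hxz h4
  · -- `t` acts on the five elements of `D` in the centralizer of `i`
    have hmemD : ∀ l, g⁻¹ * h.d l * g ∈ D h := fun l => by
      have := D_conj h (d_mem_D F l) g⁻¹
      rwa [inv_inv] at this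
    have hmemi : ∀ l, g⁻¹ * h.d l * g * i = i * (g⁻¹ * h.d l * g) := fun l => by
      have h5 : i = g⁻¹ * (h.d 1 * h.d 2) * g := by rw [← hg]; group
      rw [h5]
      calc g⁻¹ * h.d l * g * (g⁻¹ * (h.d 1 * h.d 2) * g) = g⁻¹ * (h.d l * (h.d 1 * h.d 2)) * g := by
            group
        _ = g⁻¹ * (h.d 1 * h.d 2) * g * (g⁻¹ * h.d l * g) := by
            rw [E_comm h (h.d_mem l) (dd_mem h 1 2)]; group
    have hti : t⁻¹ = t := inv_eq_of_mul_eq_one_left htt
    have hall : ∀ l, ∃ m, t * (g⁻¹ * h.d l * g) * t⁻¹ = g⁻¹ * h.d m * g := fun l =>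
      mem_cent hDt hg (D_conj h (hmemD l) t) (by
        calc t * (g⁻¹ * h.d l * g) * t⁻¹ * i = t * (g⁻¹ * h.d l * g) * (t * i) := by
              rw [hti]; simp only [mul_assoc]
          _ = t * (g⁻¹ * h.d l * g * i) * t := by rw [h3]; simp only [mul_assoc]
          _ = t * i * (g⁻¹ * h.d l * g) * t := by rw [hmemi]; simp only [mul_assoc]
          _ = i * (t * (g⁻¹ * h.d l * g) * t⁻¹) := by
              rw [h3, hti]; simp only [mul_assoc])
    choose f hf using hall
    have hinv : Function.Involutive f := by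
      intro l
      have h5 := hf (f l)
      rw [← hf l] at h5
      have h6 : t * (t * (g⁻¹ * h.d l * g) * t⁻¹) * t⁻¹ = g⁻¹ * h.d l * g := by
        rw [hti]
        calc t * (t * (g⁻¹ * h.d l * g) * t) * t = (t * t) * (g⁻¹ * h.d l * g) * (t * t) := by
              simp only [mul_assoc]
          _ = _ := by rw [htt, one_mul, mul_one]
      rw [h6] at h5
      exact (h.d_inj _ _ (mul_left_cancel (mul_right_cancel h5))).symm
    obtain ⟨l, hl⟩ : ∃ l, f l = l := by
      haveI : Fact (Nat.Prime 2) := ⟨Nat.prime_two⟩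
      have := Equiv.Perm.exists_fixed_point_of_prime (p := 2) (n := 1) (α := Fin 5)
        (by decide) (σ := hinv.toPerm) (by
          ext a
          simp [sq, Equiv.Perm.mul_apply, hinv a])
      exact this
    have h5 := hf l
    rw [hl] at h5
    have h6 : g⁻¹ * h.d l * g * t = t * (g⁻¹ * h.d l * g) := (mul_inv_eq_iff_eq_mul.mp h5).symm
    obtain ⟨m, hm⟩ := hcent _ (hmemD l) h6
    have h7 : x * (g⁻¹ * h.d l * g) = g⁻¹ * h.d l * g * x :=
      cent_comm hDt hg hx h4 (hmemD l) (hmemi l)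
    rw [hm] at h7
    refine ⟨m, ?_, h7⟩
    rintro rfl
    exact hxz h7

omit F hDt

variable (h) in
/-- the elements of `D` different from `y` which commute with `y` -/
def Dc (y : G) : Set G := {w | w ∈ D h ∧ w ≠ y ∧ w * y = y * w}

variable (hQn : ∀ c, c * h.d 0 = h.d 0 * c → ∀ q ∈ h.Q, c * q * c⁻¹ ∈ h.Q)

theorem card_U (h : U5T (T : Subgroup G)) :
    {u : G | u ∈ h.Q ∧ u * u = 1 ∧ u ≠ 1 ∧ u ≠ h.d 0}.ncard = 54 := by
  classical
  set U : Set G := {u | u ∈ h.Q ∧ u * u = 1 ∧ u ≠ 1 ∧ u ≠ h.d 0} with hU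
  have h1 : {x : G | x ∈ h.Q ∧ x * x = 1} = insert 1 (insert (h.d 0) U) := by
    ext x
    simp only [Set.mem_ofPred_eq, Set.mem_insert_iff, hU]
    constructor
    · rintro ⟨h1, h2⟩
      by_cases h3 : x = 1
      · exact Or.inl h3
      by_cases h4 : x = h.d 0
      · exact Or.inr (Or.inl h4)
      exact Or.inr (Or.inr ⟨h1, h2, h3, h4⟩)
    · rintro (rfl | rfl | ⟨h1, h2, -, -⟩)
      · exact ⟨h.Q.one_mem, mul_one 1⟩
      · exact ⟨h.z_mem_Q, d_sq h 0⟩
      · exact ⟨h1, h2⟩
  have h2 : {x : G | x ∈ h.Q ∧ x * x = 1}.ncard = 56 := h.Q_card_invol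
  rw [h1, Set.ncard_insert_of_notMem, Set.ncard_insert_of_notMem] at h2
  · omega
  · intro h3
    exact h3.2.2.2 rfl
  · intro h3
    rcases h3 with h3 | h3
    · exact h.d_ne_one 0 h3.symm
    · exact h3.2.2.1 rfl

include F hDt hQn

/-- (iii) `z` commutes with 36 further elements of `D` -/
theorem card_Dz : (Dc h (h.d 0)).ncard = 36 := by
  classical
  set U : Set G := {u | u ∈ h.Q ∧ u * u = 1 ∧ u ≠ 1 ∧ u ≠ h.d 0} with hU
  have hUcard : U.ncard = 54 := card_U h
  set s := (Set.toFinite U).toFinset with hs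
  set t := (Set.toFinite (Dc h (h.d 0))).toFinset with ht
  have hscard : s.card = 54 := by rw [← hUcard, Set.ncard_eq_toFinset_card U]
  have htcard : t.card = (Dc h (h.d 0)).ncard := by
    rw [Set.ncard_eq_toFinset_card (Dc h (h.d 0))]
  have key := Finset.card_mul_eq_card_mul (s := s) (t := t) (m := 4) (n := 6)
    (fun u w : G => w * u = u * w) ?_ ?_
  · rw [hscard, htcard] at key
    omega
  · intro u hu
    have hu' : u ∈ U := (Set.Finite.mem_toFinset _).mp hu
    obtain ⟨c, hc1, hc2⟩ := F.u_fus u hu'.1 hu'.2.1 hu'.2.2.1 hu'.2.2.2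
    have hc0 : c⁻¹ * h.d 0 * c = h.d 0 := by
      rw [mul_assoc, ← hc1, ← mul_assoc, inv_mul_cancel, one_mul]
    have himg : t.bipartiteAbove (fun u w : G => w * u = u * w) u =
        Finset.image (fun k => c⁻¹ * h.d k * c) ({1, 2, 3, 4} : Finset (Fin 5)) := by
      ext w
      rw [Finset.mem_bipartiteAbove, Finset.mem_image]
      constructor
      · rintro ⟨hw, hwu⟩
        have hw' : w ∈ Dc h (h.d 0) := (Set.Finite.mem_toFinset _).mp hw
        obtain ⟨k, hk⟩ := mem_cent hDt hc2 hw'.1 hwu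
        refine ⟨k, ?_, hk.symm⟩
        have hk0 : k ≠ 0 := by
          rintro rfl
          exact hw'.2.1 (hk.trans hc0)
        revert hk0
        clear hk
        revert k
        decide
      · rintro ⟨k, hk, rfl⟩
        have hk0 : k ≠ 0 := by
          rintro rfl
          revert hk
          decide
        refine ⟨(Set.Finite.mem_toFinset _).mpr ⟨?_, ?_, ?_⟩, ?_⟩
        · have := D_conj h (d_mem_D F k) c⁻¹
          rwa [inv_inv] at this
        · intro h1
          rw [← hc0] at h1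
          exact hk0 (h.d_inj _ _ (mul_left_cancel (mul_right_cancel h1)))
        · calc c⁻¹ * h.d k * c * h.d 0 = c⁻¹ * h.d k * c * (c⁻¹ * h.d 0 * c) := by rw [hc0]
            _ = c⁻¹ * (h.d k * h.d 0) * c := by group
            _ = c⁻¹ * h.d 0 * c * (c⁻¹ * h.d k * c) := by rw [d_comm h k 0]; group
            _ = h.d 0 * (c⁻¹ * h.d k * c) := by rw [hc0]
        · have h5 : u = c⁻¹ * (h.d 1 * h.d 2) * c := by rw [← hc2]; group
          rw [h5]
          calc c⁻¹ * h.d k * c * (c⁻¹ * (h.d 1 * h.d 2) * c) = c⁻¹ * (h.d k * (h.d 1 * h.d 2)) * c := by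
                group
            _ = c⁻¹ * (h.d 1 * h.d 2) * c * (c⁻¹ * h.d k * c) := by
                rw [E_comm h (h.d_mem k) (dd_mem h 1 2)]; group
    rw [himg, Finset.card_image_of_injective]
    · decide
    · intro a b hab
      exact h.d_inj _ _ (mul_left_cancel (mul_right_cancel hab))
  · intro w hw
    have hw' : w ∈ Dc h (h.d 0) := (Set.Finite.mem_toFinset _).mp hw
    obtain ⟨g, hg1, hg2⟩ := exists_conj_pair' F (z_mem_D h) hw'.1 hw'.2.2.symm (Ne.symm hw'.2.1)
    have hgz : g * h.d 0 = h.d 0 * g := mul_inv_eq_iff_eq_mul.mp hg1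
    have hgz' : g⁻¹ * h.d 0 = h.d 0 * g⁻¹ := by
      rw [inv_mul_eq_iff_eq_mul, ← mul_assoc, hgz, mul_inv_cancel_right]
    have hw1 : w = g⁻¹ * h.d 1 * g := by rw [← hg2]; group
    have himg : s.bipartiteBelow (fun u w : G => w * u = u * w) w =
        Finset.image (fun p : Fin 5 × Fin 5 => g⁻¹ * (h.d p.1 * h.d p.2) * g)
          (Finset.univ.filter fun p : Fin 5 × Fin 5 => p.1 ≠ 0 ∧ p.1 < p.2) := by
      ext u
      rw [Finset.mem_bipartiteBelow, Finset.mem_image]
      constructor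
      · rintro ⟨hu, hwu⟩
        have hu' : u ∈ U := (Set.Finite.mem_toFinset _).mp hu
        set u' := g * u * g⁻¹ with hu1
        have huu : u = g⁻¹ * u' * g := by rw [hu1]; group
        have hu'Q : u' ∈ h.Q := hQn g hgz u hu'.1
        have hu'2 : u' * u' = 1 := by
          calc u' * u' = g * (u * u) * g⁻¹ := by rw [hu1]; group
            _ = 1 := by rw [hu'.2.1]; group
        have hu'd : u' * h.d 1 = h.d 1 * u' := by
          rw [← hg2, hu1]
          calc g * u * g⁻¹ * (g * w * g⁻¹) = g * (u * w) * g⁻¹ := by group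
            _ = g * w * g⁻¹ * (g * u * g⁻¹) := by rw [← hwu]; group
        have hu'V := h.cent_d 1 (by decide) u' (h.Q_le hu'Q) hu'd
        have hu'E := h.V_invol u' hu'V hu'2
        rcases mem_E_inter_Q h hu'E hu'Q with h1 | h1 | ⟨i, j, hi, hj, hij, h1⟩
        · exfalso
          apply hu'.2.2.1
          rw [huu, h1]; group
        · exfalso
          apply hu'.2.2.2
          rw [huu, h1, hgz']; group
        · rcases lt_or_gt_of_ne hij with hlt | hlt
          · exact ⟨(i, j), by simp [hi, hlt], by rw [huu, h1]⟩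
          · exact ⟨(j, i), by simp [hj, hlt], by rw [huu, h1, d_comm h i j]⟩
      · rintro ⟨⟨i, j⟩, hp, rfl⟩
        simp only [Finset.mem_filter, Finset.mem_univ, true_and] at hp
        obtain ⟨hi, hlt⟩ := hp
        have hj : j ≠ 0 := by
          rintro rfl
          exact absurd hlt (by simp)
        have hij : i ≠ j := hlt.ne
        refine ⟨(Set.Finite.mem_toFinset _).mpr ⟨?_, ?_, ?_, ?_⟩, ?_⟩
        · have := hQn g⁻¹ hgz' _ (h.dd_mem_Q i j hi hj)
          rwa [inv_inv] at this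
        · calc g⁻¹ * (h.d i * h.d j) * g * (g⁻¹ * (h.d i * h.d j) * g)
              = g⁻¹ * ((h.d i * h.d j) * (h.d i * h.d j)) * g := by group
            _ = 1 := by rw [h.E_sq _ (dd_mem h i j)]; group
        · intro h1
          apply h.dd_ne_one i j hij
          have : h.d i * h.d j = g * (g⁻¹ * (h.d i * h.d j) * g) * g⁻¹ := by group
          rw [this, h1]; group
        · intro h1
          apply h.dd_ne_d i j 0 hij
          have : h.d i * h.d j = g * (g⁻¹ * (h.d i * h.d j) * g) * g⁻¹ := by group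
          rw [this, h1, hgz]; group
        · rw [hw1]
          calc g⁻¹ * h.d 1 * g * (g⁻¹ * (h.d i * h.d j) * g) = g⁻¹ * (h.d 1 * (h.d i * h.d j)) * g := by
                group
            _ = g⁻¹ * (h.d i * h.d j) * g * (g⁻¹ * h.d 1 * g) := by
                rw [E_comm h (h.d_mem 1) (dd_mem h i j)]; group
    rw [himg, Finset.card_image_of_injOn]
    · decide
    · rintro ⟨i, j⟩ hp ⟨k, l⟩ hq hpq
      simp only [Finset.coe_filter, Finset.mem_univ, true_and, Set.mem_ofPred_eq] at hp hq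
      have h1 : h.d i * h.d j = h.d k * h.d l := mul_left_cancel (mul_right_cancel hpq)
      rcases h.dd_inj i j k l hp.2.ne hq.2.ne h1 with ⟨h2, h3⟩ | ⟨h2, h3⟩
      · rw [h2, h3]
      · exfalso
        subst h2 h3
        exact absurd hp.2 (not_lt.mpr hq.2.le)

omit hQn
omit [Finite G] in
/-- the elements of `D` commuting with `z` and `d 1` -/
theorem eq_d_of_comm {x : G} (hx : x ∈ D h) (h0 : x * h.d 0 = h.d 0 * x)
    (h1 : x * h.d 1 = h.d 1 * x) : ∃ k, x = h.d k := by
  by_contra hne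
  push Not at hne
  obtain ⟨r, hr⟩ := dd_conj F (i := 0) (j := 1) (by decide)
  have hx01 : x * (h.d 0 * h.d 1) = h.d 0 * h.d 1 * x := by
    rw [← mul_assoc, h0, mul_assoc, h1, mul_assoc]
  obtain ⟨k, hk⟩ := mem_cent hDt hr hx hx01
  have hall : ∀ l, ∃ m, h.d l = r⁻¹ * h.d m * r := fun l =>
    mem_cent hDt hr (d_mem_D F l) (E_comm h (h.d_mem l) (dd_mem h 0 1))
  choose f hf using hall
  have hfi : Function.Injective f := by
    intro a b hab
    exact h.d_inj _ _ (by rw [hf a, hf b, hab])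
  obtain ⟨l, hl⟩ := (Finite.injective_iff_surjective.mp hfi) k
  exact hne l (by rw [hk, ← hl, ← hf l])

omit F hDt in
omit [Finite G] in
/-- `Dc` is compatible with conjugation -/
theorem Dc_conj (h : U5T (T : Subgroup G)) (g y : G) :
    (Dc h (g * y * g⁻¹)).ncard = (Dc h y).ncard := by
  have h1 : Dc h (g * y * g⁻¹) = (fun w => g * w * g⁻¹) '' Dc h y := by
    ext w
    constructor
    · rintro ⟨h1, h2, h3⟩
      refine ⟨g⁻¹ * w * g, ⟨?_, ?_, ?_⟩, ?_⟩
      · have := D_conj h h1 g⁻¹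
        rwa [inv_inv] at this
      · intro h4
        apply h2
        rw [← h4]; group
      · calc g⁻¹ * w * g * y = g⁻¹ * (w * (g * y * g⁻¹)) * g := by group
          _ = y * (g⁻¹ * w * g) := by rw [h3]; group
      · group
    · rintro ⟨v, ⟨h1, h2, h3⟩, rfl⟩
      refine ⟨D_conj h h1 g, ?_, ?_⟩
      · intro h4
        exact h2 (mul_left_cancel (mul_right_cancel h4))
      · calc g * v * g⁻¹ * (g * y * g⁻¹) = g * (v * y) * g⁻¹ := by group
          _ = g * y * g⁻¹ * (g * v * g⁻¹) := by rw [h3]; group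
  rw [h1]
  apply Set.ncard_image_of_injective
  intro a b hab
  exact mul_left_cancel (mul_right_cancel hab)

include hQn in
/-- `d 1` commutes with 32 elements of `D` not commuting with `z` -/
theorem card_X : {w : G | w ∈ D h ∧ w * h.d 1 = h.d 1 * w ∧ w * h.d 0 ≠ h.d 0 * w}.ncard = 32 := by
  set X := {w : G | w ∈ D h ∧ w * h.d 1 = h.d 1 * w ∧ w * h.d 0 ≠ h.d 0 * w} with hX
  have h36 : (Dc h (h.d 1)).ncard = 36 := by
    obtain ⟨g, hg⟩ := d_mem_D F 1
    rw [hg, Dc_conj h]
    exact card_Dz F hDt hQn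
  have h1 : Dc h (h.d 1) = insert (h.d 0) (insert (h.d 2) (insert (h.d 3) (insert (h.d 4) X))) := by
    ext w
    simp only [Set.mem_insert_iff]
    constructor
    · rintro ⟨h1, h2, h3⟩
      by_cases h4 : w * h.d 0 = h.d 0 * w
      · obtain ⟨k, hk⟩ := eq_d_of_comm F hDt h1 h4 h3
        subst hk
        fin_cases k
        · exact Or.inl rfl
        · exact absurd rfl h2
        · exact Or.inr (Or.inl rfl)
        · exact Or.inr (Or.inr (Or.inl rfl))
        · exact Or.inr (Or.inr (Or.inr (Or.inl rfl)))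
      · exact Or.inr (Or.inr (Or.inr (Or.inr ⟨h1, h3, h4⟩)))
    · have hd : ∀ k, k ≠ 1 → h.d k ∈ Dc h (h.d 1) := fun k hk =>
        ⟨d_mem_D F k, fun h5 => hk (h.d_inj _ _ h5), d_comm h k 1⟩
      rintro (rfl | rfl | rfl | rfl | ⟨h1, h2, h3⟩)
      · exact hd 0 (by decide)
      · exact hd 2 (by decide)
      · exact hd 3 (by decide)
      · exact hd 4 (by decide)
      · refine ⟨h1, ?_, h2⟩
        rintro rfl
        exact h3 (d_comm h 1 0)
  have hXd : ∀ k, h.d k ∉ X := fun k hk => hk.2.2 (d_comm h k 0)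
  have hne : ∀ k l, k ≠ l → h.d k ≠ h.d l := fun k l hkl h5 => hkl (h.d_inj _ _ h5)
  rw [h1, Set.ncard_insert_of_notMem, Set.ncard_insert_of_notMem, Set.ncard_insert_of_notMem,
    Set.ncard_insert_of_notMem] at h36
  · omega
  · exact hXd 4
  · rintro (h5 | h5)
    · exact hne 3 4 (by decide) h5
    · exact hXd 3 h5
  · rintro (h5 | h5 | h5)
    · exact hne 2 3 (by decide) h5
    · exact hne 2 4 (by decide) h5
    · exact hXd 2 h5
  · rintro (h5 | h5 | h5 | h5)
    · exact hne 0 2 (by decide) h5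
    · exact hne 0 3 (by decide) h5
    · exact hne 0 4 (by decide) h5
    · exact hXd 0 h5

omit [Finite G] in
/-- nontrivial elements of `Q` commute with no element of `D` outside the centralizer of `z` -/
theorem semiregular {q x : G} (hq : q ∈ h.Q) (hq1 : q ≠ 1) (hx : x ∈ D h)
    (hxz : x * h.d 0 ≠ h.d 0 * x) : q * x ≠ x * q := by
  intro hqx
  rcases h.Q_sq q hq with h2 | h2
  · have hqz : q ≠ h.d 0 := by
      rintro rfl
      exact hxz hqx.symm
    obtain ⟨c, hc1, hc2⟩ := F.u_fus q hq h2 hq1 hqz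
    apply hxz
    exact cent_comm hDt hc2 hx hqx.symm (z_mem_D h) (h.z_comm q (h.Q_le hq)).symm
  · apply hxz
    rw [← h2, ← mul_assoc, ← hqx, mul_assoc, ← hqx, ← mul_assoc]

omit F hDt in
omit [Finite G] in
/-- `Q` is transitive on `d 1, ..., d 4` -/
theorem Q_trans (h : U5T (T : Subgroup G)) {j : Fin 5} (hj : j ≠ 0) :
    ∃ q ∈ h.Q, q * h.d 1 * q⁻¹ = h.d j := by
  obtain ⟨g, hg, hgd⟩ := h.conj_d_trans j hj
  by_cases hgV : g ∈ h.V
  · refine ⟨1, h.Q.one_mem, ?_⟩
    rw [← hgd, V_comm h hgV (h.d_mem 1)]; group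
  · obtain ⟨u, huQ, -, huV⟩ := h.exists_u g hg hgV
    refine ⟨u, huQ, ?_⟩
    have h1 : u * h.d 1 * u⁻¹ = (u * g⁻¹) * (g * h.d 1 * g⁻¹) * (u * g⁻¹)⁻¹ := by group
    rw [h1, hgd, V_comm h huV (h.d_mem j)]; group

omit F hDt in
/-- the centralizer of `d 1` in `Q` has at least 32 elements -/
theorem card_CQ (h : U5T (T : Subgroup G)) :
    32 ≤ {q : G | q ∈ h.Q ∧ q * h.d 1 = h.d 1 * q}.ncard := by
  classical
  haveI := Fintype.ofFinite G
  have hall : ∀ g : G, ∃ k : Fin 5, g ∈ h.Q → g * h.d 1 * g⁻¹ = h.d k := by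
    intro g
    by_cases hg : g ∈ h.Q
    · obtain ⟨k, hk⟩ := h.conj_d g (h.Q_le hg) 1
      exact ⟨k, fun _ => hk⟩
    · exact ⟨0, fun h => absurd h hg⟩
  choose f hf using hall
  have hbound := Finset.card_le_mul_card_image_of_maps_to
    (s := Finset.univ.filter fun g : G => g ∈ h.Q) (t := ({1, 2, 3, 4} : Finset (Fin 5))) (f := f)
    (fun g hg => by
      have hg' := (Finset.mem_filter.mp hg).2
      have h1 := hf g hg'
      have h2 : f g ≠ 0 := by
        intro h3
        rw [h3, mul_inv_eq_iff_eq_mul, ← h.z_comm g (h.Q_le hg')] at h1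
        exact absurd (h.d_inj 1 0 (mul_left_cancel h1)) (by decide)
      revert h2
      generalize f g = k
      revert k
      decide)
    ({q : G | q ∈ h.Q ∧ q * h.d 1 = h.d 1 * q}.ncard) (fun k _ => by
      by_cases hne : ((Finset.univ.filter fun g : G => g ∈ h.Q).filter fun g => f g = k).Nonempty
      · obtain ⟨r, hr⟩ := hne
        rw [Finset.mem_filter, Finset.mem_filter] at hr
        rw [Set.ncard_eq_toFinset_card']
        apply Finset.card_le_card_of_injOn (fun g => r⁻¹ * g)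
        · intro g hg
          rw [Finset.mem_coe, Finset.mem_filter, Finset.mem_filter] at hg
          simp only [Finset.mem_coe, Set.mem_toFinset, Set.mem_ofPred_eq]
          refine ⟨h.Q.mul_mem (h.Q.inv_mem hr.1.2) hg.1.2, ?_⟩
          have h1 := hf g hg.1.2
          have h2 := hf r hr.1.2
          rw [hg.2] at h1
          rw [hr.2, ← h1] at h2
          have h3 : g * h.d 1 = r * h.d 1 * r⁻¹ * g := by rw [h2]; group
          calc r⁻¹ * g * h.d 1 = r⁻¹ * (g * h.d 1) := by group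
            _ = h.d 1 * (r⁻¹ * g) := by rw [h3]; group
        · intro a _ b _ hab
          exact mul_left_cancel hab
      · rw [Finset.not_nonempty_iff_eq_empty] at hne
        rw [hne, Finset.card_empty]
        exact Nat.zero_le _)
  have hQ : (Finset.univ.filter fun g : G => g ∈ h.Q).card = 128 := by
    rw [← h.card_Q, Nat.card_eq_fintype_card, Fintype.card_subtype]
  rw [hQ] at hbound
  have h4 : ({1, 2, 3, 4} : Finset (Fin 5)).card = 4 := by decide
  rw [h4] at hbound
  omega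

include hQn in
/-- `Q` is transitive on the elements of `D` not commuting with `z` -/
theorem trans_D {x y : G} (hx : x ∈ D h) (hxz : x * h.d 0 ≠ h.d 0 * x) (hy : y ∈ D h)
    (hyz : y * h.d 0 ≠ h.d 0 * y) : ∃ q ∈ h.Q, q * x * q⁻¹ = y := by
  classical
  -- reduction to elements commuting with `d 1`
  have hred : ∀ w ∈ D h, w * h.d 0 ≠ h.d 0 * w → ∃ q ∈ h.Q, q * w * q⁻¹ ∈
      {w : G | w ∈ D h ∧ w * h.d 1 = h.d 1 * w ∧ w * h.d 0 ≠ h.d 0 * w} := by
    intro w hw hwz
    obtain ⟨i, hi, hwi⟩ := exists_comm F hDt hw hwz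
    obtain ⟨q, hq, hqi⟩ := Q_trans h hi
    have hqz : q⁻¹ * h.d 0 = h.d 0 * q⁻¹ := h.z_comm _ (h.Q_le (h.Q.inv_mem hq))
    have hqz' : q * h.d 0 = h.d 0 * q := h.z_comm _ (h.Q_le hq)
    refine ⟨q⁻¹, h.Q.inv_mem hq, D_conj h hw _, ?_, ?_⟩
    · have h1 : h.d 1 = q⁻¹ * h.d i * q := by rw [← hqi]; group
      rw [h1, inv_inv]
      calc q⁻¹ * w * q * (q⁻¹ * h.d i * q) = q⁻¹ * (w * h.d i) * q := by group
        _ = q⁻¹ * h.d i * q * (q⁻¹ * w * q) := by rw [hwi]; group
    · intro h1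
      apply hwz
      have h2 : h.d 0 = q * h.d 0 * q⁻¹ := by rw [hqz']; group
      rw [inv_inv] at h1
      calc w * h.d 0 = q * (q⁻¹ * w * q * (q⁻¹ * h.d 0 * q)) * q⁻¹ := by group
        _ = q * (q⁻¹ * w * q * h.d 0) * q⁻¹ := by rw [hqz]; group
        _ = q * (h.d 0 * (q⁻¹ * w * q)) * q⁻¹ := by rw [h1]
        _ = q * h.d 0 * q⁻¹ * w := by group
        _ = h.d 0 * w := by rw [← h2]
  obtain ⟨q1, hq1, hx1⟩ := hred x hx hxz
  obtain ⟨q2, hq2, hy1⟩ := hred y hy hyz
  set X := {w : G | w ∈ D h ∧ w * h.d 1 = h.d 1 * w ∧ w * h.d 0 ≠ h.d 0 * w} with hX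
  set C := {q : G | q ∈ h.Q ∧ q * h.d 1 = h.d 1 * q} with hC
  set x' := q1 * x * q1⁻¹ with hx'
  have hsurj : X ⊆ (fun q => q * x' * q⁻¹) '' C := by
    have hmaps : (fun q => q * x' * q⁻¹) '' C ⊆ X := by
      rintro _ ⟨q, ⟨hqQ, hqd⟩, rfl⟩
      have hqz : q * h.d 0 = h.d 0 * q := h.z_comm _ (h.Q_le hqQ)
      have hqd' : q⁻¹ * h.d 1 = h.d 1 * q⁻¹ := by
        rw [inv_mul_eq_iff_eq_mul, ← mul_assoc, hqd, mul_inv_cancel_right]
      have hqz' : q⁻¹ * h.d 0 = h.d 0 * q⁻¹ := h.z_comm _ (h.Q_le (h.Q.inv_mem hqQ))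
      refine ⟨D_conj h hx1.1 q, ?_, ?_⟩
      · calc q * x' * q⁻¹ * h.d 1 = q * x' * (q⁻¹ * h.d 1) := by group
          _ = q * (x' * h.d 1) * q⁻¹ := by rw [hqd']; group
          _ = q * h.d 1 * x' * q⁻¹ := by rw [hx1.2.1]; group
          _ = h.d 1 * (q * x' * q⁻¹) := by rw [hqd]; group
      · intro h1
        apply hx1.2.2
        have h2 : x' * h.d 0 = q⁻¹ * (q * x' * q⁻¹ * h.d 0) * q := by
          calc x' * h.d 0 = x' * (h.d 0 * q⁻¹) * q := by group
            _ = x' * (q⁻¹ * h.d 0) * q := by rw [hqz']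
            _ = _ := by group
        rw [h2, h1]
        calc q⁻¹ * (h.d 0 * (q * x' * q⁻¹)) * q = q⁻¹ * h.d 0 * q * x' := by group
          _ = h.d 0 * x' := by rw [hqz']; group
    have hinj : Set.InjOn (fun q => q * x' * q⁻¹) C := by
      intro a ha b hb hab
      by_contra hne
      have hab' : a * x' * a⁻¹ = b * x' * b⁻¹ := hab
      refine semiregular F hDt (q := b⁻¹ * a) (x := x') (h.Q.mul_mem (h.Q.inv_mem hb.1) ha.1) ?_ hx1.1
        hx1.2.2 ?_
      · intro h1
        exact hne (inv_mul_eq_one.mp h1).symm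
      · calc b⁻¹ * a * x' = b⁻¹ * (a * x' * a⁻¹) * a := by group
          _ = x' * (b⁻¹ * a) := by rw [hab']; group
    have hcard : X.ncard ≤ ((fun q => q * x' * q⁻¹) '' C).ncard := by
      rw [Set.InjOn.ncard_image hinj, card_X F hDt hQn]
      exact card_CQ h
    exact (Set.eq_of_subset_of_ncard_le hmaps hcard (Set.toFinite _)).symm.subset
  obtain ⟨q, ⟨hq, -⟩, hqq⟩ := hsurj hy1
  refine ⟨q2⁻¹ * q * q1, h.Q.mul_mem (h.Q.mul_mem (h.Q.inv_mem hq2) hq) hq1, ?_⟩
  calc q2⁻¹ * q * q1 * x * (q2⁻¹ * q * q1)⁻¹ = q2⁻¹ * (q * x' * q⁻¹) * q2 := by rw [hx']; group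
    _ = q2⁻¹ * (q2 * y * q2⁻¹) * q2 := by rw [← hqq]
    _ = y := by group

include hQn in
/-- (iv) the products of noncommuting elements of `D` have the same order, an odd prime -/
theorem exists_prime : ∃ p : ℕ, p.Prime ∧ Odd p ∧
    ∀ x ∈ D h, ∀ y ∈ D h, x * y ≠ y * x → orderOf (x * y) = p := by
  obtain ⟨x0, hx0, -, hx0z⟩ : {w : G | w ∈ D h ∧ w * h.d 1 = h.d 1 * w ∧
      w * h.d 0 ≠ h.d 0 * w}.Nonempty := by
    rw [Set.nonempty_iff_ne_empty]
    intro h1
    have h2 := card_X F hDt hQn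
    rw [h1, Set.ncard_empty] at h2
    omega
  set n := orderOf (h.d 0 * x0) with hn
  have hconst : ∀ x ∈ D h, h.d 0 * x ≠ x * h.d 0 → orderOf (h.d 0 * x) = n := by
    intro x hx hxz
    obtain ⟨q, hq, hqx⟩ := trans_D F hDt hQn hx0 hx0z hx (Ne.symm hxz)
    have hqz : q * h.d 0 = h.d 0 * q := h.z_comm _ (h.Q_le hq)
    have h1 : h.d 0 * x = (MulAut.conj q) (h.d 0 * x0) := by
      rw [MulAut.conj_apply, ← hqx]
      calc h.d 0 * (q * x0 * q⁻¹) = h.d 0 * q * x0 * q⁻¹ := by group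
        _ = q * (h.d 0 * x0) * q⁻¹ := by rw [← hqz]; group
    rw [h1, hn]
    exact orderOf_injective (MulAut.conj q).toMonoidHom (MulAut.conj q).injective _
  have hodd : Odd n := odd_order F hDt (z_mem_D h) hx0 (Ne.symm hx0z)
  have hn1 : n ≠ 1 := by
    intro h1
    rw [hn, orderOf_eq_one_iff] at h1
    apply hx0z
    have h2 : x0 = (h.d 0)⁻¹ := (inv_eq_of_mul_eq_one_right h1).symm
    rw [h2]; group
  obtain ⟨p, hp, m, hm⟩ := Nat.exists_prime_and_dvd hn1
  have hm0 : m ≠ 0 := by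
    rintro rfl
    have := orderOf_pos (h.d 0 * x0)
    omega
  have hp2 : Odd p := (Nat.odd_mul.mp (hm ▸ hodd)).1
  have hx' : h.d 0 * (h.d 0 * x0) ^ m ∈ D h := D_mul_pow (z_mem_D h) hx0 m
  have hzx' : h.d 0 * (h.d 0 * (h.d 0 * x0) ^ m) = (h.d 0 * x0) ^ m := by
    rw [← mul_assoc, d_sq h 0, one_mul]
  have ho : orderOf ((h.d 0 * x0) ^ m) = p := by
    rw [orderOf_pow_of_dvd hm0 ⟨p, by rw [← hn, hm, mul_comm]⟩, ← hn, hm]
    exact Nat.mul_div_cancel _ (Nat.pos_of_ne_zero hm0)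
  have hpn : n = p := by
    rw [← ho, ← hzx']
    refine (hconst _ hx' ?_).symm
    intro h1
    have h2 : (h.d 0 * x0) ^ m * (h.d 0 * x0) ^ m = 1 := by
      calc (h.d 0 * x0) ^ m * (h.d 0 * x0) ^ m
          = h.d 0 * (h.d 0 * (h.d 0 * x0) ^ m) * (h.d 0 * (h.d 0 * (h.d 0 * x0) ^ m)) := by
            rw [hzx']
        _ = h.d 0 * (h.d 0 * (h.d 0 * x0) ^ m) * ((h.d 0 * (h.d 0 * x0) ^ m) * h.d 0) := by
            rw [← h1]
        _ = h.d 0 * ((h.d 0 * (h.d 0 * x0) ^ m) * (h.d 0 * (h.d 0 * x0) ^ m)) * h.d 0 := by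
            simp only [mul_assoc]
        _ = 1 := by rw [D_sq h hx', mul_one, d_sq h 0]
    have h3 : orderOf ((h.d 0 * x0) ^ m) ∣ 2 := orderOf_dvd_of_pow_eq_one (by rw [sq, h2])
    rw [ho, Nat.dvd_prime Nat.prime_two] at h3
    rcases h3 with h3 | h3
    · exact hp.one_lt.ne' h3
    · rw [h3] at hp2
      exact absurd hp2 (by decide)
  refine ⟨p, hp, hp2, ?_⟩
  intro x hx y hy hxy
  obtain ⟨g, rfl⟩ := hx
  have hy' : g⁻¹ * y * g ∈ D h := by
    have := D_conj h hy g⁻¹
    rwa [inv_inv] at this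
  have h1 : g * h.d 0 * g⁻¹ * y = (MulAut.conj g) (h.d 0 * (g⁻¹ * y * g)) := by
    rw [MulAut.conj_apply]; group
  have h2 : orderOf (g * h.d 0 * g⁻¹ * y) = orderOf (h.d 0 * (g⁻¹ * y * g)) := by
    rw [h1]
    exact orderOf_injective (MulAut.conj g).toMonoidHom (MulAut.conj g).injective _
  rw [h2, ← hpn]
  apply hconst _ hy'
  intro h3
  apply hxy
  calc g * h.d 0 * g⁻¹ * y = g * (h.d 0 * (g⁻¹ * y * g)) * g⁻¹ := by group
    _ = y * (g * h.d 0 * g⁻¹) := by rw [h3]; group

include hQn in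
/-- **the geometry of `D`**: two elements of `D` commute or their product has order three -/
theorem comm_or_three : ∀ x ∈ D h, ∀ y ∈ D h, x * y = y * x ∨ orderOf (x * y) = 3 := by
  classical
  obtain ⟨p, hp, hp2, hall⟩ := exists_prime F hDt hQn
  haveI : Fact p.Prime := ⟨hp⟩
  suffices hp3 : p = 3 by
    intro x hx y hy
    by_cases hxy : x * y = y * x
    · exact Or.inl hxy
    · exact Or.inr ((hall x hx y hy hxy).trans hp3)
  -- an element of `D` commuting with `z` but not with `d 1`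
  obtain ⟨y, hy, hyd⟩ : ∃ y ∈ Dc h (h.d 0), h.d 1 * y ≠ y * h.d 1 := by
    by_contra hne
    push Not at hne
    have hsub : Dc h (h.d 0) ⊆ Set.range h.d := by
      intro w hw
      obtain ⟨k, hk⟩ := eq_d_of_comm F hDt hw.1 hw.2.2 (hne w hw).symm
      exact ⟨k, hk.symm⟩
    have h1 := Set.ncard_le_ncard hsub (Set.toFinite _)
    rw [card_Dz F hDt hQn, ← Set.image_univ] at h1
    have h2 := Set.ncard_image_le (f := h.d) (s := Set.univ) (Set.toFinite _)
    rw [Set.ncard_univ, Nat.card_fin] at h2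
    omega
  set w := h.d 1 * y with hw
  have hwo : orderOf w = p := hall _ (d_mem_D F 1) _ hy.1 hyd
  have hdz : h.d 0 * h.d 1 = h.d 1 * h.d 0 := d_comm h 0 1
  have hyz : y * h.d 0 = h.d 0 * y := hy.2.2
  have hwz : w * h.d 0 = h.d 0 * w := by rw [hw, mul_assoc, hyz, ← mul_assoc, ← hdz, mul_assoc]
  have hnofix : ∀ v ∈ Dc h (h.d 0), w * v * w⁻¹ ≠ v := by
    intro v hv hvw
    have hvw' : w * v = v * w := mul_inv_eq_iff_eq_mul.mp hvw
    have hyw : y = h.d 1 * w := by rw [hw, ← mul_assoc, d_sq h 1, one_mul]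
    by_cases hvd : h.d 1 * v = v * h.d 1
    · -- `d 1` and `y` commute with `z * v`
      apply hyd
      have hvy : y * v = v * y := by rw [hyw, mul_assoc, hvw', ← mul_assoc, hvd, mul_assoc]
      apply cent_pair_comm F hDt (z_mem_D h) hv.1 hv.2.2.symm (Ne.symm hv.2.1) (d_mem_D F 1) _ hy.1
      · rw [← mul_assoc, hyz, mul_assoc, hvy, mul_assoc]
      · rw [← mul_assoc, ← hdz, mul_assoc, hvd, mul_assoc]
    · have hodd := odd_order F hDt hv.1 (d_mem_D F 1) (Ne.symm hvd)
      have hdw : h.d 1 * w * h.d 1 = w⁻¹ := by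
        rw [hw, mul_inv_rev, D_inv h hy.1, d_inv h 1, ← mul_assoc, d_sq h 1, one_mul]
      set g := v * h.d 1 with hg
      have hgw : g * w * g⁻¹ = w⁻¹ := by
        rw [hg, mul_inv_rev, d_inv h 1, D_inv h hv.1]
        calc v * h.d 1 * w * (h.d 1 * v) = v * (h.d 1 * w * h.d 1) * v := by simp only [mul_assoc]
          _ = v * w⁻¹ * v := by rw [hdw]
          _ = w⁻¹ * (v * v) := by
              have h5 : v * w⁻¹ = w⁻¹ * v := by
                rw [eq_inv_mul_iff_mul_eq, ← mul_assoc, hvw', mul_inv_cancel_right]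
              rw [h5, mul_assoc]
          _ = w⁻¹ := by rw [D_sq h hv.1, mul_one]
      have hgg : Commute (g ^ 2) w := by
        have h6 : g ^ 2 * w * (g ^ 2)⁻¹ = w := by
          have h7 : (g * w * g⁻¹)⁻¹ = g * w⁻¹ * g⁻¹ := by group
          calc g ^ 2 * w * (g ^ 2)⁻¹ = g * (g * w * g⁻¹) * g⁻¹ := by rw [sq]; group
            _ = (g * w * g⁻¹)⁻¹ := by rw [h7, hgw]
            _ = w := by rw [hgw, inv_inv]
        exact mul_inv_eq_iff_eq_mul.mp h6
      have hgc : Commute g w := by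
        obtain ⟨k, hk⟩ := hodd
        have h7 : g = (g ^ 2) ^ (k + 1) := by
          rw [← pow_mul]
          have h8 : 2 * (k + 1) = orderOf g + 1 := by omega
          rw [h8, pow_succ, pow_orderOf_eq_one, one_mul]
        rw [h7]
        exact hgg.pow_left _
      have hww : w = w⁻¹ := by
        rw [← hgw, hgc.eq]; group
      have h9 : orderOf w ∣ 2 := orderOf_dvd_of_pow_eq_one (by
        rw [sq]; nth_rewrite 1 [hww]; exact inv_mul_cancel w)
      rw [hwo, Nat.dvd_prime Nat.prime_two] at h9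
      rcases h9 with h9 | h9
      · exact hp.one_lt.ne' h9
      · rw [h9] at hp2
        exact absurd hp2 (by decide)
  -- `w` permutes the 36 elements of `Dc z`
  have hmem : ∀ v, (MulAut.conj w).toEquiv v ∈ Dc h (h.d 0) ↔ v ∈ Dc h (h.d 0) := by
    intro v
    have hz1 : w * h.d 0 * w⁻¹ = h.d 0 := by rw [hwz]; group
    change w * v * w⁻¹ ∈ Dc h (h.d 0) ↔ _
    constructor
    · rintro ⟨h1, h2, h3⟩
      refine ⟨D_of_conj h w h1, ?_, ?_⟩
      · rintro rfl
        exact h2 hz1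
      · rw [← hz1] at h3
        have h4 : w * (v * h.d 0) * w⁻¹ = w * (h.d 0 * v) * w⁻¹ := by
          calc w * (v * h.d 0) * w⁻¹ = w * v * w⁻¹ * (w * h.d 0 * w⁻¹) := by group
            _ = w * (h.d 0 * v) * w⁻¹ := by rw [h3]; group
        exact mul_left_cancel (mul_right_cancel h4)
    · rintro ⟨h1, h2, h3⟩
      refine ⟨D_conj h h1 w, ?_, ?_⟩
      · intro h4
        rw [← hz1] at h4
        exact h2 (mul_left_cancel (mul_right_cancel h4))
      · calc w * v * w⁻¹ * h.d 0 = w * v * w⁻¹ * (w * h.d 0 * w⁻¹) := by rw [hz1]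
          _ = w * (v * h.d 0) * w⁻¹ := by group
          _ = w * h.d 0 * w⁻¹ * (w * v * w⁻¹) := by rw [h3]; group
          _ = h.d 0 * (w * v * w⁻¹) := by rw [hz1]
  haveI : Fintype ↥(Dc h (h.d 0)) := Fintype.ofFinite _
  have hdvd : p ∣ 36 := by
    by_contra hndvd
    have hcard : Fintype.card ↥(Dc h (h.d 0)) = 36 := by
      rw [← Nat.card_eq_fintype_card]
      exact card_Dz F hDt hQn
    obtain ⟨v, hv⟩ := Equiv.Perm.exists_fixed_point_of_prime (p := p) (n := 1)
      (α := ↥(Dc h (h.d 0))) (by rw [hcard]; exact hndvd)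
      (σ := Equiv.Perm.subtypePerm (MulAut.conj w).toEquiv hmem) (by
        rw [pow_one, Equiv.Perm.subtypePerm_pow]
        ext v
        have h5 : ∀ n : ℕ, (((MulAut.conj w).toEquiv : Equiv.Perm G) ^ n) v = w ^ n * v * (w ^ n)⁻¹ := by
          intro n
          induction n with
          | zero => simp
          | succ n ih =>
            rw [pow_succ', Equiv.Perm.mul_apply, ih]
            change w * (w ^ n * v * (w ^ n)⁻¹) * w⁻¹ = _
            rw [pow_succ']; group
        have h6 := h5 p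
        have h7 : w ^ p = 1 := by rw [← hwo]; exact pow_orderOf_eq_one w
        rw [h7, one_mul, inv_one, mul_one] at h6
        exact h6)
    exact hnofix v v.2 (congrArg Subtype.val hv)
  have h36 : (36 : ℕ) = 2 * 2 * (3 * 3) := by norm_num
  rw [h36] at hdvd
  rcases (Nat.Prime.dvd_mul hp).mp hdvd with h1 | h1
  · exfalso
    have h2 : p ∣ 2 := by
      rcases (Nat.Prime.dvd_mul hp).mp h1 with h2 | h2 <;> exact h2
    rw [Nat.prime_dvd_prime_iff_eq hp Nat.prime_two] at h2
    rw [h2] at hp2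
    exact absurd hp2 (by decide)
  · have h2 : p ∣ 3 := by
      rcases (Nat.Prime.dvd_mul hp).mp h1 with h2 | h2 <;> exact h2
    exact (Nat.prime_dvd_prime_iff_eq hp Nat.prime_three).mp h2

end Local

end Cfsg.Agent.SylowU5.Geometry
end

-- part: SylowU5/CentE
section
prune_inst 0x410106104050000000000001020001c62a2000002004b00000000010204800c4000060620882003100002040400300060014400000210000000000000411c0481000010023000a000210010008004000000000000000000000000000000000000200000000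
set_option linter.all false
open scoped Cfsg.Agent.FastGrp

/-!
# Solvability of `C_G(E)` (S0513)

`V` is a Sylow 2-subgroup of `K = C_G(E)`, `V/E` is elementary abelian of order 16 with five "lines", the automizer
of `V/E` in `K/E` preserves the lines and acts semiregularly: T1 applies.
-/

set_option autoImplicit false
set_option linter.unusedVariables false
open Cfsg

namespace Cfsg.Agent.SylowU5.CentE

universe u

open Subgroup Cfsg.Agent.SylowU5.Basic Cfsg.Agent.SignalizersComponents.RelSylow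
  Cfsg.Agent.SylowU5.Fusion Cfsg.Agent.SylowU5.SolvT

theorem mem_normalizer_of_conj {X : Type*} [Group X] [Finite X] {P : Subgroup X} {g : X}
    (h : ∀ x ∈ P, g * x * g⁻¹ ∈ P) : g ∈ normalizer (P : Set X) := by
  have h1 : P.map (MulAut.conj g).toMonoidHom ≤ P := by
    rintro _ ⟨x, hx, rfl⟩
    exact h x hx
  have h2 : P.map (MulAut.conj g).toMonoidHom = P := by
    apply eq_of_le_of_card_ge h1
    rw [card_map_of_injective (MulAut.conj g).injective]
  exact mem_normalizer_iff_map_conj_eq.mpr h2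

/-- Burnside's transfer theorem: solvability form -/
theorem burnside (hFT : OddOrder.{u}) {Y : Type u} [Group Y] [Finite Y] (T : Sylow 2 Y)
    (hcomm : ∀ a ∈ T, ∀ b ∈ T, a * b = b * a)
    (hN : ∀ n : Y, n ∈ normalizer (T : Set Y) → ∀ t ∈ T, n * t = t * n) :
    Group.IsSolvable Y ∧ pPrimeCore 2 Y ⊔ T = ⊤ := by
  have h2 : Fact (Nat.Prime 2) := ⟨Nat.prime_two⟩
  have hle : normalizer (T : Set Y) ≤ centralizer (T : Set Y) := by
    intro n hn
    rw [mem_centralizer_iff]
    intro t ht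
    exact (hN n hn t ht).symm
  have hcompl := MonoidHom.ker_transferSylow_isComplement' T hle
  set K := (MonoidHom.transferSylow T hle).ker with hK
  have hKn : K.Normal := MonoidHom.normal_ker _
  have h1 : Nat.card K * Nat.card T = Nat.card Y := hcompl.card_mul_card
  have h3 : Nat.card K = (T : Subgroup Y).index := by
    have h4 := (T : Subgroup Y).card_mul_index
    rw [← h1, mul_comm] at h4
    exact (Nat.eq_of_mul_eq_mul_right Nat.card_pos h4).symm
  have h4 : (Nat.card K).Coprime 2 := by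
    rw [h3]
    exact ((Nat.Prime.coprime_iff_not_dvd Nat.prime_two).2 T.not_dvd_index).symm
  have h5 : K ≤ pPrimeCore 2 Y := Lib.Cores.le_pPrimeCore hKn h4
  refine ⟨?_, ?_⟩
  · have hKs : Group.IsSolvable K := hFT K (Nat.coprime_two_right.mp h4)
    have hT : Group.IsSolvable (Y ⧸ K) := by
      let f : (T : Subgroup Y) →* Y ⧸ K := (QuotientGroup.mk' K).comp (T : Subgroup Y).subtype
      have hf : Function.Surjective f := by
        intro q
        obtain ⟨g, rfl⟩ := QuotientGroup.mk'_surjective K q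
        have hg : g ∈ K ⊔ (T : Subgroup Y) := by rw [hcompl.sup_eq_top]; trivial
        rw [← SetLike.mem_coe, normal_mul] at hg
        obtain ⟨k, hk, t, ht, rfl⟩ := hg
        refine ⟨⟨t, ht⟩, ?_⟩
        show QuotientGroup.mk' K t = QuotientGroup.mk' K (k * t)
        rw [map_mul, show QuotientGroup.mk' K k = 1 from (QuotientGroup.eq_one_iff k).2 hk,
          one_mul]
      have hTs : Group.IsSolvable (T : Subgroup Y) :=
        Group.isSolvable_of_comm fun a b => Subtype.ext (hcomm a a.2 b b.2)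
      exact Group.isSolvable_of_surjective hf
    exact (Group.isSolvable_iff_subgroup_quotient (H := K)).mpr ⟨hKs, hT⟩
  · rw [eq_top_iff, ← hcompl.sup_eq_top]
    exact sup_le_sup_right h5 _

theorem isWeaklyClosed_self {X : Type u} [Group X] [Finite X] (P : Sylow 2 X) :
    IsWeaklyClosed (P : Subgroup X) (P : Subgroup X) := by
  refine ⟨le_rfl, fun g hg => ?_⟩
  apply eq_of_le_of_card_ge hg
  rw [card_map_of_injective (MulAut.conj g).injective]

theorem solvable_normalizer (hFT : OddOrder.{u}) {X : Type u} [Group X] [Finite X] (P : Sylow 2 X)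
    (hcomm : ∀ a ∈ P, ∀ b ∈ P, a * b = b * a) :
    Group.IsSolvable (normalizer (P : Set X)) := by
  have h2 : Fact (Nat.Prime 2) := ⟨Nat.prime_two⟩
  set N := normalizer (P : Set X) with hN
  have hPN : (P : Subgroup X) ≤ N := le_normalizer
  let P' : Sylow 2 N := P.subtype hPN
  have hP'n : (P' : Subgroup N).Normal := by
    show ((P : Subgroup X).subgroupOf N).Normal
    exact normal_in_normalizer
  have hodd : Odd (Nat.card (N ⧸ (P' : Subgroup N))) := by
    have h3 : ¬ 2 ∣ (P' : Subgroup N).index := P'.not_dvd_index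
    rw [Subgroup.index] at h3
    rw [← Nat.not_even_iff_odd, even_iff_two_dvd]
    exact h3
  have h4 : Group.IsSolvable (N ⧸ (P' : Subgroup N)) := hFT _ hodd
  have h5 : Group.IsSolvable (P' : Subgroup N) := by
    refine Group.isSolvable_of_comm fun a b => ?_
    apply Subtype.ext
    apply Subtype.ext
    have ha : ((a : N) : X) ∈ (P : Subgroup X) := mem_subgroupOf.1 a.2
    have hb : ((b : N) : X) ∈ (P : Subgroup X) := mem_subgroupOf.1 b.2
    exact hcomm _ ha _ hb
  exact (Group.isSolvable_iff_subgroup_quotient (H := (P' : Subgroup N))).mpr ⟨h5, h4⟩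

/-- A finite group with an elementary abelian Sylow 2-subgroup of rank at least 3, whose automizer acts
semiregularly but not transitively on the involutions, is solvable. -/
theorem solvable_of_semiregular (hFT : OddOrder.{u}) {X : Type u} [Group X] [Finite X]
    (P : Sylow 2 X)
    (hcomm : ∀ a ∈ P, ∀ b ∈ P, a * b = b * a) (hsq : ∀ a ∈ P, a * a = 1) (hcard : 8 ≤ Nat.card P)
    (hfix : ∀ n ∈ normalizer (P : Set X), ∀ a ∈ P, a ≠ 1 → n * a = a * n →
      ∀ b ∈ P, n * b = b * n)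
    {z v : X} (hz : z ∈ P) (hv : v ∈ P) (hz1 : z ≠ 1) (hv1 : v ≠ 1)
    (hzv : ∀ n ∈ normalizer (P : Set X), n * z * n⁻¹ ≠ v) : Group.IsSolvable X := by
  have h2 : Fact (Nat.Prime 2) := ⟨Nat.prime_two⟩
  have hle : ∀ a ∈ P, (P : Subgroup X) ≤ centralizer {a} := fun a ha b hb =>
    mem_centralizer_singleton_iff.2 (hcomm b hb a ha)
  have hburn : ∀ a ∈ P, a ≠ 1 → Group.IsSolvable ↥(centralizer ({a} : Set X)) ∧
      centralizer {a} ≤ centralizerPPrimeCore 2 a ⊔ normalizer ((P : Subgroup X) : Set X) := by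
    intro a ha ha1
    let Y := centralizer ({a} : Set X)
    let PY : Sylow 2 Y := P.subtype (hle a ha)
    have hmemPY : ∀ y : Y, y ∈ PY ↔ (y : X) ∈ P := fun y => mem_subgroupOf
    have hb := burnside hFT PY (fun x hx y hy => Subtype.ext
        (hcomm _ ((hmemPY x).1 hx) _ ((hmemPY y).1 hy)))
      (by
        intro n hn t ht
        apply Subtype.ext
        refine hfix n ?_ a ha ha1 (mem_centralizer_singleton_iff.1 n.2) t ((hmemPY t).1 ht)
        apply mem_normalizer_of_conj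
        intro x hx
        have h3 := (mem_normalizer_iff.1 hn ⟨x, hle a ha hx⟩).1 ((hmemPY _).2 hx)
        exact (hmemPY _).1 h3)
    refine ⟨hb.1, ?_⟩
    intro y hy
    have h4 : (⟨y, hy⟩ : Y) ∈ pPrimeCore 2 Y ⊔ (PY : Subgroup Y) := by rw [hb.2]; trivial
    have h5 : (pPrimeCore 2 Y ⊔ (PY : Subgroup Y)).map Y.subtype ≤
        centralizerPPrimeCore 2 a ⊔ normalizer ((P : Subgroup X) : Set X) := by
      rw [Subgroup.map_sup]
      refine sup_le_sup le_rfl ?_
      rintro _ ⟨x, hx, rfl⟩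
      exact le_normalizer ((hmemPY x).1 hx)
    exact h5 ⟨⟨y, hy⟩, h4, rfl⟩
  have hzv' : ∀ g : X, g * z * g⁻¹ ≠ v := by
    intro g hg
    obtain ⟨n, hn, hnz⟩ := Cfsg.Agent.R15.NormalElem.exists_normalizer_conj P (P : Subgroup X)
      (isWeaklyClosed_self P) hcomm hz (g := g) (by rw [hg]; exact hv)
    exact hzv n hn (hnz.trans hg)
  have hmain := Cfsg.Agent.R15.NormalElem.sup_normalizer_eq_top P (P : Subgroup X)
    (isWeaklyClosed_self P) hcomm hsq hcard (fun x _ _ _ g hg => hg) hz (hle z hz) (hsq z hz) hz1 hv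
    hv1 hzv' (fun a ha ha1 => (hburn a ha ha1).1) (fun a ha ha1 => (hburn a ha ha1).2)
  have hOn : (pPrimeCore 2 X).Normal := Cfsg.Agent.Lib.Cores.pPrimeCore_normal 2
  have hOs : Group.IsSolvable (pPrimeCore 2 X) := hFT _
    (Nat.coprime_two_right.mp (Cfsg.Agent.Lib.Cores.pPrimeCore_coprime 2))
  have hQ : Group.IsSolvable (X ⧸ pPrimeCore 2 X) := by
    let f : normalizer ((P : Subgroup X) : Set X) →* X ⧸ pPrimeCore 2 X :=
      (QuotientGroup.mk' (pPrimeCore 2 X)).comp (normalizer ((P : Subgroup X) : Set X)).subtype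
    have hf : Function.Surjective f := by
      intro q
      obtain ⟨g, rfl⟩ := QuotientGroup.mk'_surjective (pPrimeCore 2 X) q
      have hg : g ∈ pPrimeCore 2 X ⊔ normalizer ((P : Subgroup X) : Set X) := by
        rw [hmain]; trivial
      rw [← SetLike.mem_coe, normal_mul] at hg
      obtain ⟨o, ho, c, hc, rfl⟩ := hg
      refine ⟨⟨c, hc⟩, ?_⟩
      show QuotientGroup.mk' (pPrimeCore 2 X) c = QuotientGroup.mk' (pPrimeCore 2 X) (o * c)
      rw [map_mul, show QuotientGroup.mk' (pPrimeCore 2 X) o = 1 from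
        (QuotientGroup.eq_one_iff o).2 ho, one_mul]
    have hs : Group.IsSolvable (normalizer ((P : Subgroup X) : Set X)) :=
      solvable_normalizer hFT P hcomm
    exact Group.isSolvable_of_surjective hf
  exact (Group.isSolvable_iff_subgroup_quotient (H := pPrimeCore 2 X)).mpr ⟨hOs, hQ⟩

section Concrete

variable {G : Type u} [Group G] {T : Subgroup G} (h : U5T T)
include h

theorem conj_sq {n x : G} (hn : ∀ e ∈ h.E, n * e = e * n) {i : Fin 5} (hx : x * x = h.d i) :
    n * x * n⁻¹ * (n * x * n⁻¹) = h.d i := by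
  calc n * x * n⁻¹ * (n * x * n⁻¹) = n * (x * x) * n⁻¹ := by group
    _ = n * h.d i * n⁻¹ := by rw [hx]
    _ = h.d i := by rw [hn _ (h.d_mem i)]; group

theorem sq_mem_E {x : G} (hx : x ∈ h.V) : x * x ∈ h.E := by
  by_cases hxE : x ∈ h.E
  · exact h.E.mul_mem hxE hxE
  · obtain ⟨i, hi⟩ := h.V_sq x hx hxE
    rw [hi]; exact h.d_mem i

/-- `V/E` is abelian -/
theorem comm_mem_E {x y : G} (hx : x ∈ h.V) (hy : y ∈ h.V) : x * y * x⁻¹ * y⁻¹ ∈ h.E := by
  have hxy := h.V.mul_mem hx hy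
  have h1 := sq_mem_E h hxy
  have h2 := sq_mem_E h hx
  have h3 := sq_mem_E h hy
  have e : x * y * x⁻¹ * y⁻¹ = (x * y * (x * y)) * ((y⁻¹ * (x * x) * y)⁻¹ * (y * y)⁻¹) := by group
  rw [e]
  refine h.E.mul_mem h1 (h.E.mul_mem (h.E.inv_mem ?_) (h.E.inv_mem h3))
  have e2 : y⁻¹ * (x * x) * y = x * x := by
    rw [mul_assoc, ← V_comm_E h hy h2]; group
  rw [e2]; exact h2

/-- products of elements of different lines -/
theorem prod_line {v w : G} (hv : v ∈ h.V) (hw : w ∈ h.V) {i j : Fin 5} (hij : i ≠ j)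
    (hvi : v * v = h.d i) (hwj : w * w = h.d j) :
    ∃ k, k ≠ i ∧ k ≠ j ∧ v * w * (v * w) = h.d k := by
  have hvw := h.V.mul_mem hv hw
  have hdi : ∀ i j : Fin 5, i ≠ j → h.d i ≠ h.d j := fun i j hij he => hij (h.d_inj i j he)
  have hLv : v ∈ h.L i := (h.mem_L i v).2 ⟨hv, Or.inr hvi⟩
  have hLw : w ∈ h.L j := (h.mem_L j w).2 ⟨hw, Or.inr hwj⟩
  have hvwE : v * w ∉ h.E := by
    intro hE
    have h1 : v * w ∈ h.L i := (h.mem_L i _).2 ⟨hvw, Or.inl (h.E_sq _ hE)⟩
    have h2 : w ∈ h.L i := by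
      have e : w = v⁻¹ * (v * w) := by group
      rw [e]; exact (h.L i).mul_mem ((h.L i).inv_mem hLv) h1
    rcases ((h.mem_L i w).1 h2).2 with h3 | h3
    · rw [hwj] at h3; exact h.d_ne_one j h3
    · rw [hwj] at h3; exact hdi j i hij.symm h3
  obtain ⟨k, hk⟩ := h.V_sq _ hvw hvwE
  refine ⟨k, ?_, ?_, hk⟩
  · rintro rfl
    have h1 : v * w ∈ h.L k := (h.mem_L k _).2 ⟨hvw, Or.inr hk⟩
    have h2 : w ∈ h.L k := by
      have e : w = v⁻¹ * (v * w) := by group
      rw [e]; exact (h.L k).mul_mem ((h.L k).inv_mem hLv) h1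
    rcases ((h.mem_L k w).1 h2).2 with h3 | h3
    · rw [hwj] at h3; exact h.d_ne_one j h3
    · rw [hwj] at h3; exact hdi j k hij.symm h3
  · rintro rfl
    have h1 : v * w ∈ h.L k := (h.mem_L k _).2 ⟨hvw, Or.inr hk⟩
    have h2 : v ∈ h.L k := by
      have e : v = (v * w) * w⁻¹ := by group
      rw [e]; exact (h.L k).mul_mem h1 ((h.L k).inv_mem hLw)
    rcases ((h.mem_L k v).1 h2).2 with h3 | h3
    · rw [hvi] at h3; exact h.d_ne_one i h3
    · rw [hvi] at h3; exact hdi i k hij h3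

theorem mem_E_of_lines {x : G} {j k : Fin 5} (hjk : j ≠ k) (hj : x ∈ h.L j) (hk : x ∈ h.L k) :
    x ∈ h.E := by
  have h1 := (h.mem_L j x).1 hj
  have h2 := (h.mem_L k x).1 hk
  apply h.V_invol x h1.1
  rcases h1.2 with h3 | h3
  · exact h3
  · rcases h2.2 with h4 | h4
    · exact h4
    · exact absurd (h.d_inj j k (h3.symm.trans h4)) hjk

/-- If `n` centralises `E`, normalises `V` and centralises `v ∈ V` modulo `E`, `v² = d i`, then `n` centralises
all `w ∈ V` with `w² = d j`, `j ≠ i`, modulo `E`. -/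
theorem step {n v w : G} (hn : ∀ e ∈ h.E, n * e = e * n) (hnV : ∀ x ∈ h.V, n * x * n⁻¹ ∈ h.V)
    {i j : Fin 5} (hij : i ≠ j) (hv : v ∈ h.V) (hw : w ∈ h.V) (hvi : v * v = h.d i)
    (hwj : w * w = h.d j) (hnv : n * v * n⁻¹ * v⁻¹ ∈ h.E) : n * w * n⁻¹ * w⁻¹ ∈ h.E := by
  obtain ⟨k, hki, hkj, hk⟩ := prod_line h hv hw hij hvi hwj
  have hvw := h.V.mul_mem hv hw
  have hL : ∀ (x : G) (l : Fin 5), x ∈ h.V → x * x = h.d l → n * x * n⁻¹ * x⁻¹ ∈ h.L l := by
    intro x l hx hxl
    exact (h.L l).mul_mem ((h.mem_L l _).2 ⟨hnV x hx, Or.inr (conj_sq h hn hxl)⟩)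
      ((h.L l).inv_mem ((h.mem_L l _).2 ⟨hx, Or.inr hxl⟩))
  have hEL : ∀ l, h.E ≤ h.L l := fun l x hx =>
    (h.mem_L l x).2 ⟨h.E_le hx, Or.inl (h.E_sq x hx)⟩
  set c := n * w * n⁻¹ * w⁻¹ with hc
  have hcj : c ∈ h.L j := hL w j hw hwj
  have hck := hL (v * w) k hvw hk
  have e1 : n * (v * w) * n⁻¹ * (v * w)⁻¹ = (n * v * n⁻¹ * v⁻¹) * (v * c * v⁻¹) := by
    rw [hc]; group
  rw [e1] at hck
  have h1 : v * c * v⁻¹ ∈ h.L k := by
    have e : v * c * v⁻¹ = (n * v * n⁻¹ * v⁻¹)⁻¹ * ((n * v * n⁻¹ * v⁻¹) * (v * c * v⁻¹)) := by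
      group
    rw [e]
    exact (h.L k).mul_mem ((h.L k).inv_mem (hEL k hnv)) hck
  have hcV : c ∈ h.V := ((h.mem_L j c).1 hcj).1
  have h2 : v * c * v⁻¹ * c⁻¹ ∈ h.E := comm_mem_E h hv hcV
  have h3 : v * c * v⁻¹ ∈ h.L j := by
    have e : v * c * v⁻¹ = (v * c * v⁻¹ * c⁻¹) * c := by group
    rw [e]
    exact (h.L j).mul_mem (hEL j h2) hcj
  have h4 : v * c * v⁻¹ ∈ h.E := mem_E_of_lines h hkj.symm h3 h1
  have e : c = (v * c * v⁻¹ * c⁻¹)⁻¹ * (v * c * v⁻¹) := by group
  rw [e]
  exact h.E.mul_mem (h.E.inv_mem h2) h4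

omit h in
theorem exists_ne (i : Fin 5) : ∃ j : Fin 5, j ≠ i := by
  fin_cases i
  · exact ⟨1, by decide⟩
  all_goals exact ⟨0, by decide⟩

theorem fixes_all {n v : G} (hn : ∀ e ∈ h.E, n * e = e * n) (hnV : ∀ x ∈ h.V, n * x * n⁻¹ ∈ h.V)
    (hv : v ∈ h.V) (hvE : v ∉ h.E) (hnv : n * v * n⁻¹ * v⁻¹ ∈ h.E) :
    ∀ w ∈ h.V, n * w * n⁻¹ * w⁻¹ ∈ h.E := by
  intro w hw
  by_cases hwE : w ∈ h.E
  · have e : n * w * n⁻¹ * w⁻¹ = 1 := by rw [hn w hwE]; group
    rw [e]; exact one_mem _
  obtain ⟨i, hi⟩ := h.V_sq v hv hvE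
  obtain ⟨j, hj⟩ := h.V_sq w hw hwE
  by_cases hij : i = j
  · subst hij
    obtain ⟨k, hk⟩ := exists_ne i
    obtain ⟨u, hu, huk⟩ := h.V_sq_ex k
    have h1 := step h hn hnV (Ne.symm hk) hv hu hi huk hnv
    exact step h hn hnV hk hu hw huk hj h1
  · exact step h hn hnV hij hv hw hi hj hnv

end Concrete

/-- **`C_G(E)` is solvable.** -/
theorem isSolvable_centralizer_E {G : Type u} [Group G] [Finite G] {T : Sylow 2 G}
    (h : U5T (T : Subgroup G)) (hFT : OddOrder.{u}) :
    Group.IsSolvable ↥(centralizer (h.E : Set G)) := by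
  have h2 : Fact (Nat.Prime 2) := ⟨Nat.prime_two⟩
  let K := centralizer (h.E : Set G)
  have hEK : h.E ≤ K := h.E_le.trans (le_cent_E h)
  have hKE : ∀ k : K, ∀ e ∈ h.E, (k : G) * e = e * k := fun k e he =>
    (mem_centralizer_iff.1 k.2 e he).symm
  let E' : Subgroup K := h.E.subgroupOf K
  have hE'c : ∀ k : K, ∀ e ∈ E', k * e = e * k := fun k e he =>
    Subtype.ext (hKE k e (mem_subgroupOf.1 he))
  have hE'n : E'.Normal := ⟨fun e he k => by rw [hE'c k e he, mul_assoc, mul_inv_cancel, mul_one]; exact he⟩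
  let f : K →* K ⧸ E' := QuotientGroup.mk' E'
  have hf : Function.Surjective f := QuotientGroup.mk'_surjective E'
  have hf1 : ∀ k : K, f k = 1 ↔ (k : G) ∈ h.E := fun k => by
    rw [← mem_subgroupOf]; exact QuotientGroup.eq_one_iff k
  let V' : Sylow 2 K := (isMaxP_V h).toSylow
  have hV' : ∀ k : K, k ∈ V' ↔ (k : G) ∈ h.V := fun k => mem_subgroupOf
  let P : Sylow 2 (K ⧸ E') := V'.mapSurjective hf
  have hP : ∀ x : K ⧸ E', x ∈ P ↔ ∃ k : K, (k : G) ∈ h.V ∧ f k = x := by
    intro x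
    show x ∈ ((V' : Subgroup K).map f) ↔ _
    rw [mem_map]
    constructor
    · rintro ⟨k, hk, hkx⟩; exact ⟨k, (hV' k).1 hk, hkx⟩
    · rintro ⟨k, hk, hkx⟩; exact ⟨k, (hV' k).2 hk, hkx⟩
  have hVK : ∀ {v : G}, v ∈ h.V → v ∈ K := fun hv => le_cent_E h hv
  have hX : Group.IsSolvable (K ⧸ E') := by
    obtain ⟨z, hz, hz0⟩ := h.V_sq_ex 0
    obtain ⟨v, hv, hv1⟩ := h.V_sq_ex 1
    have hnorm : ∀ n : K ⧸ E', n ∈ normalizer (P : Set (K ⧸ E')) → ∃ k : K, f k = n ∧
        ∀ x ∈ h.V, (k : G) * x * (k : G)⁻¹ ∈ h.V := by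
      intro n hn
      obtain ⟨k, rfl⟩ := hf n
      refine ⟨k, rfl, ?_⟩
      intro x hx
      have h3 := (mem_normalizer_iff.1 hn (f ⟨x, hVK hx⟩)).1 ((hP _).2 ⟨_, hx, rfl⟩)
      obtain ⟨y, hy, hyx⟩ := (hP _).1 h3
      have h4 : f (y⁻¹ * (k * ⟨x, hVK hx⟩ * k⁻¹)) = 1 := by
        rw [map_mul, map_inv, hyx, map_mul, map_mul, map_inv]; group
      have h5 := h.E_le ((hf1 _).1 h4)
      have h6 := h.V.mul_mem hy h5
      have e : (y : G) * ((y⁻¹ * (k * ⟨x, hVK hx⟩ * k⁻¹) : K) : G) = (k : G) * x * (k : G)⁻¹ := by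
        show (y : G) * ((y : G)⁻¹ * ((k : G) * x * (k : G)⁻¹)) = _
        group
      rwa [e] at h6
    refine solvable_of_semiregular hFT P ?_ ?_ ?_ ?_ (z := f ⟨z, hVK hz⟩) (v := f ⟨v, hVK hv⟩)
      ((hP _).2 ⟨_, hz, rfl⟩) ((hP _).2 ⟨_, hv, rfl⟩) ?_ ?_ ?_
    · intro a ha b hb
      obtain ⟨x, hx, rfl⟩ := (hP _).1 ha
      obtain ⟨y, hy, rfl⟩ := (hP _).1 hb
      have h3 : f (x * y * x⁻¹ * y⁻¹) = 1 := (hf1 _).2 (comm_mem_E h hx hy)
      rw [map_mul, map_mul, map_mul, map_inv, map_inv] at h3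
      exact mul_inv_eq_iff_eq_mul.1 ((mul_inv_eq_one.1 h3))
    · intro a ha
      obtain ⟨x, hx, rfl⟩ := (hP _).1 ha
      rw [← map_mul]
      exact (hf1 _).2 (sq_mem_E h hx)
    · -- cardinality
      have h3 : Nat.card V' = 256 := by
        have e : Nat.card V' = Nat.card h.V :=
          Nat.card_congr (subgroupOfEquivOfLe (le_cent_E h)).toEquiv
        rw [e, h.card_V]
      have h4 : Nat.card E' = 16 := by
        have e : Nat.card E' = Nat.card h.E :=
          Nat.card_congr (subgroupOfEquivOfLe hEK).toEquiv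
        rw [e, h.card_E]
      have h5 : Nat.card V' ≤ Nat.card P * Nat.card E' := by
        let g : (V' : Subgroup K) →* (P : Subgroup (K ⧸ E')) :=
          { toFun := fun x => ⟨f (x : K), (hP _).2 ⟨x, (hV' _).1 x.2, rfl⟩⟩
            map_one' := Subtype.ext (map_one f)
            map_mul' := fun a b => Subtype.ext (map_mul f (a : K) (b : K)) }
        have h6 := g.ker.card_mul_index
        have h7 : g.ker.index ≤ Nat.card P := by
          rw [Subgroup.index_ker]
          exact Nat.card_le_card_of_injective _ (Subtype.val_injective)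
        have h8 : Nat.card g.ker ≤ Nat.card E' := by
          refine Nat.card_le_card_of_injective (fun x : g.ker => (⟨((x : (V' : Subgroup K)) : K), ?_⟩ : E')) ?_
          · have h9 := (MonoidHom.mem_ker).1 x.2
            have h10 : f ((x : (V' : Subgroup K)) : K) = 1 := congrArg Subtype.val h9
            exact mem_subgroupOf.2 ((hf1 _).1 h10)
          · intro a b hab
            apply Subtype.ext
            apply Subtype.ext
            exact congrArg (Subtype.val : E' → K) hab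
        calc Nat.card V' = Nat.card g.ker * g.ker.index := h6.symm
          _ ≤ Nat.card E' * Nat.card P := Nat.mul_le_mul h8 h7
          _ = _ := mul_comm _ _
      rw [h3, h4] at h5
      have h6 : 8 * 16 ≤ Nat.card P * 16 := by omega
      exact Nat.le_of_mul_le_mul_right h6 (by norm_num)
    · intro n hn a ha ha1 hna b hb
      obtain ⟨k, rfl, hkV⟩ := hnorm n hn
      obtain ⟨x, hx, rfl⟩ := (hP _).1 ha
      obtain ⟨y, hy, rfl⟩ := (hP _).1 hb
      have hxE : (x : G) ∉ h.E := fun hxE => ha1 ((hf1 x).2 hxE)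
      have h3 : f (k * x * k⁻¹ * x⁻¹) = 1 := by
        rw [map_mul, map_mul, map_mul, map_inv, map_inv, hna]; group
      have h4 := fixes_all h (hKE k) hkV hx hxE ((hf1 _).1 h3) y hy
      have h5 : f (k * y * k⁻¹ * y⁻¹) = 1 := (hf1 _).2 h4
      rw [map_mul, map_mul, map_mul, map_inv, map_inv] at h5
      exact mul_inv_eq_iff_eq_mul.1 ((mul_inv_eq_one.1 h5))
    · intro h3
      have h4 := (hf1 _).1 h3
      have h5 : z * z = 1 := h.E_sq _ h4
      rw [hz0] at h5
      exact h.d_ne_one 0 h5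
    · intro h3
      have h4 := (hf1 _).1 h3
      have h5 : v * v = 1 := h.E_sq _ h4
      rw [hv1] at h5
      exact h.d_ne_one 1 h5
    · intro n hn hnz
      obtain ⟨k, rfl, hkV⟩ := hnorm n hn
      have h3 : f (⟨v, hVK hv⟩⁻¹ * (k * ⟨z, hVK hz⟩ * k⁻¹)) = 1 := by
        rw [map_mul, map_inv, map_mul, map_mul, map_inv, hnz]; group
      have h4 : v⁻¹ * ((k : G) * z * (k : G)⁻¹) ∈ h.E := (hf1 _).1 h3
      set e := v⁻¹ * ((k : G) * z * (k : G)⁻¹) with he
      have h5 : (k : G) * z * (k : G)⁻¹ = v * e := by rw [he]; group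
      have h6 := conj_sq h (hKE k) hz0
      rw [h5] at h6
      have h7 : v * e * (v * e) = h.d 1 := by
        calc v * e * (v * e) = v * (e * v) * e := by group
          _ = v * (v * e) * e := by rw [V_comm_E h hv h4]
          _ = (v * v) * (e * e) := by group
          _ = h.d 1 := by rw [hv1, h.E_sq e h4, mul_one]
      rw [h6] at h7
      exact absurd (h.d_inj 0 1 h7) (by decide)
  have hE's : Group.IsSolvable E' := Group.isSolvable_of_comm fun a b => Subtype.ext (hE'c a b b.2)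
  exact (Group.isSolvable_iff_subgroup_quotient (H := E')).mpr ⟨hE's, hX⟩

end Cfsg.Agent.SylowU5.CentE
end

-- part: SylowTypes/NormalCore
section
prune_inst 0x420002004110000000018001000001c0282000000000b00000040010204800c4080020621a820020000108044203000400310000000000000000000004118048100001200b048a000200010008000000000000000000000000000000000000000200000000
set_option linter.all false
open scoped Cfsg.Agent.FastGrp

-- part: SylowTypes/Lite
section
/-!
# Involutions with exactly one fixed point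

`G` is a finite group acting on the finite set `Ω` of odd order, `D` is a set of involutions closed under
conjugation such that every point is fixed by an odd number of elements of `D`, every element of `D` fixes
exactly one point and, for commuting `d ≠ e` in `D`, the centralizer of `d * e` fixes that point.  If no
involution acts trivially then every involution with exactly one fixed point is in `D`
(a lemma of helper445, from the project S0513).
-/

set_option autoImplicit false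

namespace Cfsg.Agent.SylowTypes.Lite

variable {G Ω : Type*} [Group G] [MulAction G Ω]

/-- The hypotheses of the lemma. -/
structure Data (G Ω : Type*) [Group G] [MulAction G Ω] (D : Set G) : Prop where
  conj : ∀ g : G, ∀ d ∈ D, g * d * g⁻¹ ∈ D
  sq : ∀ d ∈ D, d * d = 1
  fix : ∀ d ∈ D, ∃ a : Ω, d • a = a ∧ ∀ b : Ω, d • b = b → b = a
  comm : ∀ d ∈ D, ∀ e ∈ D, d ≠ e → d * e = e * d → ∀ a : Ω, d • a = a →
    ∀ g : G, g * (d * e) = d * e * g → g • a = a
  odd_fiber : ∀ a : Ω, Odd (Nat.card {d : G // d ∈ D ∧ d • a = a})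

namespace Data

variable {D : Set G}

section General

end General

end Data

end Cfsg.Agent.SylowTypes.Lite
end

-- part: SylowTypes/WeaklyClosed
section
/-!
# Subgroups controlling the centralizers of a weakly closed elementary abelian 2-subgroup

`V ≤ P ∈ Syl₂(G)` is elementary abelian and weakly closed in `P`; every involution of `Z(P)` has all its
`P`-conjugates (under `G`) in `V`; not all involutions of `V` are conjugate.  Then a subgroup `M` containing
`N_G(V)` and all centralizers `C_G(v)` (`1 ≠ v ∈ V`) is all of `G`.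
-/

set_option autoImplicit false

namespace Cfsg.Agent.SylowTypes.WeaklyClosed

open Subgroup Cfsg.Agent.SignalizersComponents.RelSylow

variable {G : Type*} [Group G]

/-- The configuration. -/
structure Config (P : Sylow 2 G) (V M : Subgroup G) : Prop where
  le : V ≤ P
  sq : ∀ v ∈ V, v * v = 1
  weak : ∀ g : G, (∀ v ∈ V, g * v * g⁻¹ ∈ (P : Subgroup G)) → ∀ v ∈ V, g * v * g⁻¹ ∈ V
  fus : ∀ x ∈ (P : Subgroup G), x * x = 1 → x ≠ 1 → (∀ p ∈ (P : Subgroup G), p * x = x * p) →
    ∀ g : G, g * x * g⁻¹ ∈ (P : Subgroup G) → g * x * g⁻¹ ∈ V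
  norm : normalizer (V : Set G) ≤ M
  cent : ∀ v ∈ V, v ≠ 1 → centralizer ({v} : Set G) ≤ M

namespace Config

variable {P : Sylow 2 G} {V M : Subgroup G}

end Config

end Cfsg.Agent.SylowTypes.WeaklyClosed
end

-- part: SylowTypes/NormalCore
section
/-!
# `V O(G)` is normal: a criterion for weakly closed elementary abelian 2-subgroups

`V ≤ P ∈ Syl₂(G)` elementary abelian of order at least 8, weakly closed in `P`, the conjugates in `P` of the
involutions of `Z(P)` are in `V`, not all involutions of `V` are conjugate, and for `1 ≠ v ∈ V` the centralizer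
`C_G(v)` is solvable and equal to `O(C_G(v)) N_{C_G(v)}(V)`.  Then `G = O(G) N_G(V)`, i.e. `V O(G)` is normal
(theorem T1 of helper445, from the project S0513).  The completeness of the signalizer functor is a hypothesis
in `eq_top` (it is S0217).
-/

set_option autoImplicit false

namespace Cfsg.Agent.SylowTypes.NormalCore

open Subgroup Cfsg Cfsg.Agent.SignalizersComponents.RelSylow Cfsg.Agent.SignalizersComponents.PLayerAut
open Cfsg.Agent.SignalizersComponents.CoreBalance (le_relCore le_normalizer_relCore)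

open scoped Pointwise

variable {G : Type*} [Group G]

/-- Frattini argument: if `V O(C)` is normal in `C ≥ V` then `C = O(C) N_C(V)`. -/
theorem le_sup_normalizer [Finite G] {V C : Subgroup G} (hV : IsPGroup 2 V) (hVC : V ≤ C)
    (hn : C ≤ normalizer ((V ⊔ relCore 2 C : Subgroup G) : Set G)) :
    C ≤ relCore 2 C ⊔ normalizer (V : Set G) := by
  have : Fact (Nat.Prime 2) := ⟨Nat.prime_two⟩
  set W := V ⊔ relCore 2 C with hW
  have hVW : V ≤ W := le_sup_left
  have hVn : V ≤ normalizer (relCore 2 C : Set G) := hVC.trans (le_normalizer_relCore 2 C)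
  have hcop : (Nat.card V).Coprime (Nat.card (relCore 2 C)) := by
    obtain ⟨k, hk⟩ := IsPGroup.iff_card.1 hV
    rw [hk]
    exact (Nat.Coprime.pow_right k (relCore_coprime 2 C)).symm
  -- `V` is a Sylow 2-subgroup of `W`
  have hmax : IsMaxP 2 W V := by
    apply isMaxP_of_not_dvd hV hVW
    have h1 : V.relIndex W ∣ Nat.card (relCore 2 C) := by
      have e1 : ((V ⊔ relCore 2 C : Subgroup G) : Set G) = (V : Set G) * (relCore 2 C : Set G) :=
        coe_mul_of_left_le_normalizer_right V (relCore 2 C) hVn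
      have e2 := Cfsg.Agent.Lib.ProductSet.card_mul_card_inf V (relCore 2 C)
      have e3 : V ⊓ relCore 2 C = ⊥ := (disjoint_of_coprime_natCard hcop).eq_bot
      rw [← e1, e3, card_bot, mul_one] at e2
      have e4 := relIndex_mul_relIndex (⊥ : Subgroup G) V W bot_le hVW
      rw [relIndex_bot_left, relIndex_bot_left] at e4
      have e5 : Nat.card V * V.relIndex W = Nat.card V * Nat.card (relCore 2 C) := by
        rw [e4]; exact e2
      exact (Nat.eq_of_mul_eq_mul_left Nat.card_pos e5).dvd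
    intro h2
    have h3 := relCore_coprime 2 C
    have h4 := h2.trans h1
    rw [Nat.coprime_comm, Nat.Prime.coprime_iff_not_dvd Nat.prime_two] at h3
    exact h3 h4
  intro c hc
  have h1 := hmax.map_conj_mem (hn hc)
  obtain ⟨w, hw, h2⟩ := h1.exists_conj hmax
  have h3 : w * c ∈ normalizer (V : Set G) := by
    rw [mem_normalizer_iff]
    intro y
    have h11 : w * c * y * (w * c)⁻¹ ∈ (V.map (MulAut.conj c).toMonoidHom).map
        (MulAut.conj w).toMonoidHom ↔ y ∈ V := by
      rw [mem_map_conj, mem_map_conj]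
      have : c⁻¹ * (w⁻¹ * (w * c * y * (w * c)⁻¹) * w) * c = y := by group
      rw [this]
    rw [h2] at h11
    exact h11.symm
  have h4 : W ≤ relCore 2 C ⊔ normalizer (V : Set G) :=
    sup_le (le_normalizer.trans le_sup_right) le_sup_left
  have h5 : c = w⁻¹ * (w * c) := by group
  rw [h5]
  exact mul_mem (inv_mem (h4 hw)) (le_sup_right (a := relCore 2 C) h3)

end Cfsg.Agent.SylowTypes.NormalCore
end
end

-- part: SylowU5/Closed_mg
section
prune_inst 0x410102104110000000000001000001c4292000002004b00000040010204800c0000460621882000100002800400300060004400000010000000000800011c048100001202b048a000000010000004000000000000000000000000000000000000200000000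
set_option linter.all false
open scoped Cfsg.Agent.FastGrp

-- part: SylowU5/Closed
section
/-!
# `Q/⟨z⟩` is strongly closed in `T/⟨z⟩` with respect to `C(z)/⟨z⟩`
-/

set_option autoImplicit false
set_option linter.unusedVariables false
set_option linter.unusedSectionVars false
open Cfsg

namespace Cfsg.Agent.SylowU5.Closed

universe u

open Subgroup Cfsg.Agent.SylowU5.Basic Cfsg.Agent.SignalizersComponents.RelSylow
  Cfsg.Agent.SylowU5.Fusion Cfsg.Agent.SylowU5.Prime

variable {G : Type u} [Group G]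

/-- the centralizer of `w` modulo `⟨z⟩` in `C(z)` -/
def Cm (z : G) (hz : z * z = 1) (w : G) : Subgroup G where
  carrier := {c | c * z = z * c ∧ (c * w * c⁻¹ = w ∨ c * w * c⁻¹ = w * z)}
  one_mem' := ⟨by simp, Or.inl (by simp)⟩
  mul_mem' := by
    rintro a b ⟨ha, ha'⟩ ⟨hb, hb'⟩
    refine ⟨by rw [mul_assoc, hb, ← mul_assoc, ha, mul_assoc], ?_⟩
    have haz : a * z * a⁻¹ = z := by rw [ha, mul_inv_cancel_right]
    have e : a * b * w * (a * b)⁻¹ = a * (b * w * b⁻¹) * a⁻¹ := by group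
    rw [e]
    rcases hb' with h1 | h1
    · rw [h1]; exact ha'
    · rw [h1]
      have e2 : a * (w * z) * a⁻¹ = (a * w * a⁻¹) * (a * z * a⁻¹) := by group
      rw [e2, haz]
      rcases ha' with h2 | h2
      · right; rw [h2]
      · left; rw [h2, mul_assoc, hz, mul_one]
  inv_mem' := by
    rintro a ⟨ha, ha'⟩
    have haz : a⁻¹ * z = z * a⁻¹ := by
      calc a⁻¹ * z = a⁻¹ * (z * a) * a⁻¹ := by group
        _ = a⁻¹ * (a * z) * a⁻¹ := by rw [ha]
        _ = _ := by group
    refine ⟨haz, ?_⟩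
    rcases ha' with h1 | h1
    · left
      calc a⁻¹ * w * a⁻¹⁻¹ = a⁻¹ * (a * w * a⁻¹) * a := by rw [h1]; group
        _ = w := by group
    · right
      have h2 : w = a⁻¹ * (w * z) * a := by rw [← h1]; group
      calc a⁻¹ * w * a⁻¹⁻¹ = a⁻¹ * w * (z * z) * a := by rw [hz]; group
        _ = a⁻¹ * (w * z) * (z * a) := by group
        _ = a⁻¹ * (w * z) * (a * z) := by rw [ha]
        _ = a⁻¹ * (w * z) * a * z := by group
        _ = _ := by rw [← h2]

theorem mem_Cm {z : G} (hz : z * z = 1) {w c : G} :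
    c ∈ Cm z hz w ↔ c * z = z * c ∧ (c * w * c⁻¹ = w ∨ c * w * c⁻¹ = w * z) := Iff.rfl

section

variable [Finite G] {T : Sylow 2 G} (h : U5T (T : Subgroup G))
include h

/-- `C(z)`-conjugates in `T` of involutions of `Q` are in `Q` -/
theorem invol_closed [IsSimpleGroup G] {g : G} (hg : g * h.d 0 = h.d 0 * g) {x : G} (hx : x ∈ h.Q)
    (hxx : x * x = 1) (hT : g * x * g⁻¹ ∈ (T : Subgroup G)) : g * x * g⁻¹ ∈ h.Q := by
  by_contra hyQ
  set y := g * x * g⁻¹ with hy
  have hgz : g * h.d 0 * g⁻¹ = h.d 0 := conj_eq_iff.2 hg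
  have hyy : y * y = 1 := by
    calc y * y = g * (x * x) * g⁻¹ := by rw [hy]; group
      _ = 1 := by rw [hxx]; group
  have hyE : y ∈ h.E := (h.invol y hT hyy).resolve_right hyQ
  -- `y` or `z y` is some `d i`, `i ≠ 0`
  have key : ∀ w ∈ h.Q, ∀ i, i ≠ 0 → g * w * g⁻¹ ≠ h.d i := by
    intro w hw i hi hwi
    obtain ⟨n, hn, hnz⟩ := exists_conj_d h i
    have h1 : (g⁻¹ * n) * h.d 0 * (g⁻¹ * n)⁻¹ = w := by
      calc (g⁻¹ * n) * h.d 0 * (g⁻¹ * n)⁻¹ = g⁻¹ * (n * h.d 0 * n⁻¹) * g := by group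
        _ = g⁻¹ * (g * w * g⁻¹) * g := by rw [hnz, hwi]
        _ = w := by group
    obtain ⟨j, hj⟩ := z_fus h (g := g⁻¹ * n) (by rw [h1]; exact h.Q_le hw)
    rw [h1] at hj
    by_cases hj0 : j = 0
    · rw [hj, hj0, hgz] at hwi
      exact hi (h.d_inj _ _ hwi).symm
    · exact h.d_not_mem_Q j hj0 (hj ▸ hw)
  rcases h.E_cases y hyE with h1 | ⟨i, h1⟩ | ⟨i, j, hij, h1⟩
  · exact hyQ (h1 ▸ h.Q.one_mem)
  · by_cases hi : i = 0
    · apply hyQ; rw [h1, hi]; exact h.z_mem_Q
    · exact key x hx i hi h1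
  · by_cases hi : i = 0
    · subst hi
      refine key (h.d 0 * x) (h.Q.mul_mem h.z_mem_Q hx) j (fun h2 => hij h2.symm) ?_
      calc g * (h.d 0 * x) * g⁻¹ = (g * h.d 0 * g⁻¹) * (g * x * g⁻¹) := by group
        _ = h.d 0 * (h.d 0 * h.d j) := by rw [hgz, ← hy, h1]
        _ = h.d j := by rw [← mul_assoc, d_sq, one_mul]
    · by_cases hj : j = 0
      · subst hj
        refine key (h.d 0 * x) (h.Q.mul_mem h.z_mem_Q hx) i hi ?_
        calc g * (h.d 0 * x) * g⁻¹ = (g * h.d 0 * g⁻¹) * (g * x * g⁻¹) := by group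
          _ = h.d 0 * (h.d i * h.d 0) := by rw [hgz, ← hy, h1]
          _ = h.d 0 * (h.d 0 * h.d i) := by rw [Elem.d_comm h i 0]
          _ = h.d i := by rw [← mul_assoc, d_sq, one_mul]
      · apply hyQ
        rw [h1]
        exact h.dd_mem_Q i j hi hj

/-- `Q` is weakly closed in `T` with respect to `C(z)` -/
theorem weakly_closed [IsSimpleGroup G] {g : G} (hg : g * h.d 0 = h.d 0 * g)
    (hT : ∀ x ∈ h.Q, g * x * g⁻¹ ∈ (T : Subgroup G)) :
    h.Q.map (MulAut.conj g).toMonoidHom = h.Q := by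
  have hle : h.Q.map (MulAut.conj g).toMonoidHom ≤ h.Q := by
    rw [map_le_iff_le_comap]
    refine h.Q_gen.trans ((closure_le _).2 ?_)
    rintro u ⟨hu, huu, -⟩
    exact invol_closed h hg hu huu (hT u hu)
  apply eq_of_le_of_card_ge hle
  rw [card_map_conj]

/-- an element of `T` centralizing `Q/⟨z⟩` is in `Q` -/
theorem mem_Q_of_centralizes {y : G} (hy : y ∈ (T : Subgroup G))
    (hc : ∀ a ∈ h.Q, y * a = a * y ∨ y * a = a * y * h.d 0) : y ∈ h.Q := by
  -- an involution in `Q \ E` moving `d 1` to `d 2`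
  obtain ⟨g, hg, hgd⟩ := h.conj_d_trans 2 (by decide)
  have hgV : g ∉ h.V := by
    intro hgV
    have h1 := conj_eq_iff.2 (V_comm_E h hgV (h.d_mem 1))
    rw [h1] at hgd
    exact absurd (h.d_inj _ _ hgd) (by decide)
  obtain ⟨u, hu, huu, huV⟩ := h.exists_u g hg hgV
  have hud : u * h.d 1 * u⁻¹ = h.d 2 := by
    have h1 := V_comm_E h huV (h.d_mem 2)
    calc u * h.d 1 * u⁻¹ = (u * g⁻¹) * (g * h.d 1 * g⁻¹) * (u * g⁻¹)⁻¹ := by group
      _ = (u * g⁻¹) * h.d 2 * (u * g⁻¹)⁻¹ := by rw [hgd]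
      _ = h.d 2 := conj_eq_iff.2 h1
  have huE : u ∉ h.E := by
    intro huE
    have h1 := conj_eq_iff.2 (E_comm h huE (h.d_mem 1))
    rw [h1] at hud
    exact absurd (h.d_inj _ _ hud) (by decide)
  rcases h.cent_mod_z u hu huE y hy (hc u hu) with h1 | h1
  · exact h1
  · exfalso
    -- `d 1` centralizes `Q/⟨z⟩`
    have h2 : u * h.d 1 * u⁻¹ = h.d 1 ∨ u * h.d 1 * u⁻¹ = h.d 1 * h.d 0 := by
      have hz : ∀ g ∈ (T : Subgroup G), g * h.d 0 = h.d 0 * g := h.z_comm
      have hzu := hz u (h.Q_le hu)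
      have hzy := hz y hy
      have huq := h.Q_comm u hu _ h1
      have huy := hc u hu
      -- `u (y d1) u⁻¹ = (u y u⁻¹) (u d1 u⁻¹)`
      have e1 : u * h.d 1 * u⁻¹ = (u * y * u⁻¹)⁻¹ * (u * (y * h.d 1) * u⁻¹) := by group
      have e2 : u * y * u⁻¹ = y ∨ u * y * u⁻¹ = y * h.d 0 := by
        rcases huy with h3 | h3
        · left; rw [← h3]; group
        · right
          have h4 : u * y = y * u * h.d 0 := by
            calc u * y = u * y * (h.d 0 * h.d 0) := by rw [d_sq, mul_one]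
              _ = (u * y * h.d 0) * h.d 0 := by group
              _ = y * u * h.d 0 := by rw [← h3]
          rw [h4]
          calc y * u * h.d 0 * u⁻¹ = y * (u * h.d 0) * u⁻¹ := by group
            _ = y * (h.d 0 * u) * u⁻¹ := by rw [hzu]
            _ = _ := by group
      have e3 : u * (y * h.d 1) * u⁻¹ = y * h.d 1 ∨ u * (y * h.d 1) * u⁻¹ = y * h.d 1 * h.d 0 := by
        rcases huq with h3 | h3
        · left; rw [h3]; group
        · right
          rw [h3]
          calc y * h.d 1 * u * h.d 0 * u⁻¹ = y * h.d 1 * (u * h.d 0) * u⁻¹ := by group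
            _ = y * h.d 1 * (h.d 0 * u) * u⁻¹ := by rw [hzu]
            _ = _ := by group
      have hz1 : h.d 0 * h.d 1 = h.d 1 * h.d 0 := Elem.d_comm h 0 1
      rcases e2 with e2 | e2 <;> rcases e3 with e3 | e3 <;> rw [e1, e2, e3]
      · left; group
      · right; group
      · right
        rw [mul_inv_rev, d_inv]
        calc h.d 0 * y⁻¹ * (y * h.d 1) = h.d 0 * h.d 1 := by group
          _ = _ := hz1
      · left
        rw [mul_inv_rev, d_inv]
        calc h.d 0 * y⁻¹ * (y * h.d 1 * h.d 0) = (h.d 0 * h.d 1) * h.d 0 := by group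
          _ = h.d 1 * (h.d 0 * h.d 0) := by rw [hz1]; group
          _ = _ := by rw [d_sq, mul_one]
    rw [hud] at h2
    rcases h2 with h2 | h2
    · exact absurd (h.d_inj _ _ h2) (by decide)
    · exact h.dd_ne_d 1 0 2 (by decide) h2.symm

/-- **strong closure** of `Q/⟨z⟩` -/
theorem strongly_closed [IsSimpleGroup G]
    (hcy : ∀ y ∈ (T : Subgroup G), y ∉ h.Q → y * y = h.d 0 →
      256 ≤ Nat.card {s : G // s ∈ (T : Subgroup G) ∧ (s * y = y * s ∨ s * y = y * s * h.d 0)})
    {g : G} (hg : g * h.d 0 = h.d 0 * g) {x : G} (hx : x ∈ h.Q)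
    (hT : g * x * g⁻¹ ∈ (T : Subgroup G)) : g * x * g⁻¹ ∈ h.Q := by
  have h2 : Fact (Nat.Prime 2) := ⟨Nat.prime_two⟩
  rcases h.Q_sq x hx with hxx | hxx
  · exact invol_closed h hg hx hxx hT
  by_contra hyQ
  set y := g * x * g⁻¹ with hy
  have hgz : g * h.d 0 * g⁻¹ = h.d 0 := conj_eq_iff.2 hg
  have hyy : y * y = h.d 0 := by
    calc y * y = g * (x * x) * g⁻¹ := by rw [hy]; group
      _ = h.d 0 := by rw [hxx, hgz]
  have hz := d_sq h 0
  set Ty : Subgroup G := (T : Subgroup G) ⊓ Cm (h.d 0) hz y with hTy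
  have hcomm : ∀ w s : G, s ∈ (T : Subgroup G) →
      (s ∈ Cm (h.d 0) hz w ↔ (s * w = w * s ∨ s * w = w * s * h.d 0)) := by
    intro w s hs
    have h1 := h.z_comm s hs
    rw [mem_Cm]
    constructor
    · rintro ⟨-, h3 | h3⟩
      · left; exact conj_eq_iff.1 h3
      · right
        calc s * w = s * w * s⁻¹ * s := by group
          _ = w * (h.d 0 * s) := by rw [h3]; group
          _ = w * (s * h.d 0) := by rw [h1]
          _ = _ := by group
    · rintro (h3 | h3)
      · exact ⟨h1, Or.inl (conj_eq_iff.2 h3)⟩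
      · refine ⟨h1, Or.inr ?_⟩
        rw [h3]
        calc w * s * h.d 0 * s⁻¹ = w * (s * h.d 0) * s⁻¹ := by group
          _ = w * (h.d 0 * s) * s⁻¹ := by rw [h1]
          _ = _ := by group
  have hTycard : 256 ≤ Nat.card Ty := by
    refine (hcy y hT hyQ hyy).trans (le_of_eq ?_)
    refine Nat.card_congr (Equiv.subtypeEquivRight fun s => ?_)
    rw [mem_inf]
    constructor
    · rintro ⟨h3, h4⟩; exact ⟨h3, (hcomm y s h3).2 h4⟩
    · rintro ⟨h3, h4⟩; exact ⟨h3, (hcomm y s h3).1 h4⟩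
  -- Sylow subgroup of `Cm x` containing `Q`
  have hQC : h.Q ≤ Cm (h.d 0) hz x := fun a ha =>
    (hcomm x a (h.Q_le ha)).2 (h.Q_comm a ha x hx)
  obtain ⟨R, hR, hQR⟩ := exists_isMaxP (T.2.to_le h.Q_le) hQC
  have hRz : R ≤ centralizer ({h.d 0} : Set G) := fun r hr =>
    mem_centralizer_singleton_iff.2 (hR.2.1 hr).1
  obtain ⟨c, hc, hcR⟩ := exists_conj_into (T_le_cent h) hR.1 hRz
  have hc' := mem_centralizer_singleton_iff.1 hc
  have hcQ := weakly_closed h hc' (fun a ha => hcR a (hQR ha))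
  set x' := c * x * c⁻¹ with hx'
  have hx'Q : x' ∈ h.Q := by rw [← hcQ]; exact ⟨x, hx, rfl⟩
  have hcz : c * h.d 0 * c⁻¹ = h.d 0 := conj_eq_iff.2 hc'
  have hx'x' : x' * x' = h.d 0 := by
    calc x' * x' = c * (x * x) * c⁻¹ := by rw [hx']; group
      _ = h.d 0 := by rw [hxx, hcz]
  have hx'E : x' ∉ h.E := by
    intro hE
    have h3 := h.E_sq _ hE
    rw [hx'x'] at h3
    exact h.d_ne_one 0 h3
  -- order of `R`
  have hRcard : Nat.card R ≤ 256 := by
    rw [← card_map_conj R c]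
    have hsub : ∀ s ∈ R.map (MulAut.conj c).toMonoidHom, s ∈ h.Q ∨ s * h.d 1 ∈ h.Q := by
      rintro _ ⟨r, hr, rfl⟩
      have hrT : c * r * c⁻¹ ∈ (T : Subgroup G) := hcR r hr
      apply h.cent_mod_z x' hx'Q hx'E (c * r * c⁻¹) hrT
      rw [← hcomm x' _ hrT, mem_Cm]
      refine ⟨h.z_comm _ hrT, ?_⟩
      have e : c * r * c⁻¹ * x' * (c * r * c⁻¹)⁻¹ = c * (r * x * r⁻¹) * c⁻¹ := by rw [hx']; group
      rw [e]
      rcases (hR.2.1 hr).2 with h3 | h3
      · left; rw [h3]
      · right; rw [h3]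
        calc c * (x * h.d 0) * c⁻¹ = (c * x * c⁻¹) * (c * h.d 0 * c⁻¹) := by group
          _ = _ := by rw [hcz]
    classical
    have hinj : Function.Injective (fun s : R.map (MulAut.conj c).toMonoidHom =>
        if hs : (s : G) ∈ h.Q then (Sum.inl ⟨s, hs⟩ : h.Q ⊕ h.Q)
        else Sum.inr ⟨s * h.d 1, (hsub s s.2).resolve_left hs⟩) := by
      intro a b hab
      simp only at hab
      by_cases ha : (a : G) ∈ h.Q <;> by_cases hb : (b : G) ∈ h.Q
      · rw [dif_pos ha, dif_pos hb] at hab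
        have h4 := Sum.inl.inj hab
        exact Subtype.ext (congrArg (fun t : h.Q => (t : G)) h4)
      · rw [dif_pos ha, dif_neg hb] at hab
        exact absurd hab (by simp)
      · rw [dif_neg ha, dif_pos hb] at hab
        exact absurd hab (by simp)
      · rw [dif_neg ha, dif_neg hb] at hab
        have h4 := Sum.inr.inj hab
        have h3 : (a : G) * h.d 1 = b * h.d 1 := congrArg (fun t : h.Q => (t : G)) h4
        exact Subtype.ext (mul_right_cancel h3)
    have h3 := Nat.card_le_card_of_injective _ hinj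
    rw [Nat.card_sum, h.card_Q] at h3
    exact h3
  -- `g⁻¹ Ty g` is conjugate to `R` in `Cm x`
  have hW : Ty.map (MulAut.conj g⁻¹).toMonoidHom ≤ Cm (h.d 0) hz x := by
    rintro _ ⟨s, hs, rfl⟩
    have hs2 := (mem_inf.1 hs).2
    have hgz' : g⁻¹ * h.d 0 * g = h.d 0 := by
      calc g⁻¹ * h.d 0 * g = g⁻¹ * (h.d 0 * g) := by group
        _ = g⁻¹ * (g * h.d 0) := by rw [hg]
        _ = _ := by group
    show g⁻¹ * s * g⁻¹⁻¹ ∈ _
    rw [inv_inv, mem_Cm]
    constructor
    · calc g⁻¹ * s * g * h.d 0 = g⁻¹ * (s * (g * h.d 0)) := by group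
        _ = g⁻¹ * ((s * h.d 0) * g) := by rw [hg]; group
        _ = (g⁻¹ * h.d 0 * g) * (g⁻¹ * s * g) := by rw [hs2.1]; group
        _ = _ := by rw [hgz']
    · have e : g⁻¹ * s * g * x * (g⁻¹ * s * g)⁻¹ = g⁻¹ * (s * y * s⁻¹) * g := by rw [hy]; group
      rw [e]
      rcases hs2.2 with h3 | h3
      · left; rw [h3, hy]; group
      · right; rw [h3]
        calc g⁻¹ * (y * h.d 0) * g = (g⁻¹ * y * g) * (g⁻¹ * h.d 0 * g) := by group
          _ = _ := by rw [hgz', hy]; group
  have hTy2 : IsPGroup 2 Ty := T.2.to_le inf_le_left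
  obtain ⟨m, hm, hmR⟩ := hR.exists_conj_le (hTy2.map _) hW
  have hEq : (Ty.map (MulAut.conj g⁻¹).toMonoidHom).map (MulAut.conj m).toMonoidHom = R := by
    apply eq_of_le_of_card_ge hmR
    rw [card_map_conj, card_map_conj]
    exact hRcard.trans hTycard
  -- `k = g m⁻¹` conjugates `Q` into `Ty`
  have hkQ : ∀ a ∈ h.Q, (g * m⁻¹) * a * (g * m⁻¹)⁻¹ ∈ Ty := by
    intro a ha
    have h3 := hQR ha
    rw [← hEq] at h3
    obtain ⟨_, ⟨s, hs, rfl⟩, hsa⟩ := h3
    have h4 : m * (g⁻¹ * s * g⁻¹⁻¹) * m⁻¹ = a := hsa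
    have h5 : (g * m⁻¹) * a * (g * m⁻¹)⁻¹ = s := by rw [← h4]; group
    rw [h5]; exact hs
  have hmz := (hm : m ∈ Cm (h.d 0) hz x).1
  have hkz : (g * m⁻¹) * h.d 0 = h.d 0 * (g * m⁻¹) := by
    have h3 : m⁻¹ * h.d 0 = h.d 0 * m⁻¹ := by
      calc m⁻¹ * h.d 0 = m⁻¹ * (h.d 0 * m) * m⁻¹ := by group
        _ = m⁻¹ * (m * h.d 0) * m⁻¹ := by rw [hmz]
        _ = _ := by group
    calc g * m⁻¹ * h.d 0 = g * (m⁻¹ * h.d 0) := by group
      _ = (g * h.d 0) * m⁻¹ := by rw [h3]; group
      _ = _ := by rw [hg]; group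
  have hkw := weakly_closed h hkz (fun a ha => (mem_inf.1 (hkQ a ha)).1)
  apply hyQ
  apply mem_Q_of_centralizes h hT
  intro a ha
  rw [← hkw] at ha
  obtain ⟨b, hb, hba⟩ := ha
  have h3 : a ∈ Ty := by
    rw [← hba]; exact hkQ b hb
  have h4 := (hcomm y a (mem_inf.1 h3).1).1 (mem_inf.1 h3).2
  rcases h4 with h5 | h5
  · left; exact h5.symm
  · right
    rw [h5]
    calc y * a = y * a * (h.d 0 * h.d 0) := by rw [hz, mul_one]
      _ = _ := by group

end

end Cfsg.Agent.SylowU5.Closed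
end

-- part: SylowU5/SC
section
/-!
# Strongly closed abelian 2-subgroups of solvable groups

If `Z` is a finite solvable group, `R` a Sylow 2-subgroup and `E ≤ R` an abelian subgroup which is strongly closed in
`R`, then `Z = O(Z) N_Z(E)` (lemma SC of the project S0513).
-/

set_option autoImplicit false

namespace Cfsg.Agent.SylowU5.SC

open Subgroup Cfsg

/-- The case `O(Z) = 1`: `E` is normal. -/
theorem normal_of_core_eq_bot {Z : Type*} [Group Z] [Finite Z] [Group.IsSolvable Z] (R : Sylow 2 Z) (E : Subgroup Z)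
    (hER : E ≤ (R : Subgroup Z)) (hEc : ∀ a ∈ E, ∀ b ∈ E, a * b = b * a)
    (hsc : ∀ e ∈ E, ∀ g : Z, g * e * g⁻¹ ∈ (R : Subgroup Z) → g * e * g⁻¹ ∈ E)
    (hO : pPrimeCore 2 Z = ⊥) : E.Normal := by
  have : Fact (Nat.Prime 2) := ⟨Nat.prime_two⟩
  set T := pCore 2 Z with hT
  have hTn : T.Normal := Cfsg.Agent.Lib.Cores.pCore_normal 2
  have hT2 : IsPGroup 2 T := Cfsg.Agent.Lib.Cores.pCore_isPGroup 2
  have hTR : T ≤ (R : Subgroup Z) := Cfsg.Agent.Lib.Cores.pCore_le_sylow R
  have hCT : centralizer (T : Set Z) ≤ T := Cfsg.Agent.Lib.HallHigman.centralizer_pCore_le_of_solvable 2 hO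
  -- `B = E ∩ O₂(Z)` is normal
  set B := E ⊓ T with hB
  have hBn : B.Normal := ⟨fun b hb g => by
    have h1 : g * b * g⁻¹ ∈ T := hTn.conj_mem b hb.2 g
    exact ⟨hsc b hb.1 g (hTR h1), h1⟩⟩
  -- the stabiliser of the chain `O₂(Z) ≥ B ≥ 1`
  let D : Subgroup Z :=
    { carrier := {d | (∀ x ∈ T, d * x * d⁻¹ * x⁻¹ ∈ B) ∧ ∀ b ∈ B, d * b = b * d}
      one_mem' := ⟨fun x _ => by simp, fun b _ => by simp⟩
      mul_mem' := by
        rintro a c ⟨ha1, ha2⟩ ⟨hc1, hc2⟩
        refine ⟨fun x hx => ?_, fun b hb => ?_⟩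
        · have h1 := ha1 _ (hTn.conj_mem x hx c)
          have h2 := hc1 x hx
          have h3 : a * c * x * (a * c)⁻¹ * x⁻¹ = (a * (c * x * c⁻¹) * a⁻¹ * (c * x * c⁻¹)⁻¹) * (c * x * c⁻¹ * x⁻¹) := by
            group
          rw [h3]; exact mul_mem h1 h2
        · rw [mul_assoc, hc2 b hb, ← mul_assoc, ha2 b hb, mul_assoc]
      inv_mem' := by
        rintro a ⟨ha1, ha2⟩
        refine ⟨fun x hx => ?_, fun b hb => ?_⟩
        · have h0 : a⁻¹ * x * a ∈ T := by
            have := hTn.conj_mem x hx a⁻¹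
            rwa [inv_inv] at this
          have h1 := ha1 _ h0
          have h3 : a⁻¹ * x * a⁻¹⁻¹ * x⁻¹ = (a * (a⁻¹ * x * a) * a⁻¹ * (a⁻¹ * x * a)⁻¹)⁻¹ := by group
          rw [h3]; exact inv_mem h1
        · have := ha2 b hb
          calc a⁻¹ * b = a⁻¹ * (b * a) * a⁻¹ := by group
            _ = a⁻¹ * (a * b) * a⁻¹ := by rw [this]
            _ = b * a⁻¹ := by group }
  have hDn : D.Normal := ⟨by
    rintro d ⟨hd1, hd2⟩ g
    refine ⟨fun x hx => ?_, fun b hb => ?_⟩
    · have h0 : g⁻¹ * x * g ∈ T := by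
        have := hTn.conj_mem x hx g⁻¹
        rwa [inv_inv] at this
      have h1 := hBn.conj_mem _ (hd1 _ h0) g
      have h3 : g * d * g⁻¹ * x * (g * d * g⁻¹)⁻¹ * x⁻¹ = g * (d * (g⁻¹ * x * g) * d⁻¹ * (g⁻¹ * x * g)⁻¹) * g⁻¹ := by
        group
      rw [h3]; exact h1
    · have h0 : g⁻¹ * b * g ∈ B := by
        have := hBn.conj_mem b hb g⁻¹
        rwa [inv_inv] at this
      have h1 := hd2 _ h0
      calc g * d * g⁻¹ * b = g * (d * (g⁻¹ * b * g)) * g⁻¹ := by group
        _ = g * (g⁻¹ * b * g * d) * g⁻¹ := by rw [h1]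
        _ = b * (g * d * g⁻¹) := by group⟩
  -- `E ≤ D`
  have hED : E ≤ D := by
    intro e he
    refine ⟨fun x hx => ?_, fun b hb => hEc e he b hb.1⟩
    have h1 : x * e⁻¹ * x⁻¹ ∈ E :=
      hsc e⁻¹ (inv_mem he) x ((R : Subgroup Z).mul_mem ((R : Subgroup Z).mul_mem (hTR hx)
        (hER (E.inv_mem he))) ((R : Subgroup Z).inv_mem (hTR hx)))
    refine ⟨?_, ?_⟩
    · have h2 : e * x * e⁻¹ * x⁻¹ = e * (x * e⁻¹ * x⁻¹) := by group
      rw [h2]; exact mul_mem he h1
    · exact T.mul_mem (hTn.conj_mem x hx e) (T.inv_mem hx)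
  -- `D` is a 2-group
  have hD2 : IsPGroup 2 D := by
    -- an element of odd order of `D` is trivial
    have hodd : ∀ d ∈ D, Odd (orderOf d) → d = 1 := by
      intro d hd hdo
      have h1 : d ∈ centralizer (T : Set Z) := by
        rw [mem_centralizer_iff]
        intro x hx
        -- `d^m x d^-m = b^m x`
        set b := d * x * d⁻¹ * x⁻¹ with hb
        have hbB : b ∈ B := hd.1 x hx
        have hdb : d * b = b * d := hd.2 b hbB
        have hstep : ∀ m : ℕ, d ^ m * x * (d ^ m)⁻¹ = b ^ m * x := by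
          intro m
          induction m with
          | zero => simp
          | succ m ih =>
            have hc : Commute d (b ^ m) := (show Commute d b from hdb).pow_right m
            calc d ^ (m + 1) * x * (d ^ (m + 1))⁻¹ = d * (d ^ m * x * (d ^ m)⁻¹) * d⁻¹ := by
                  rw [pow_succ']; group
              _ = d * (b ^ m * x) * d⁻¹ := by rw [ih]
              _ = b ^ m * (d * x * d⁻¹) := by rw [← mul_assoc, hc.eq]; group
              _ = b ^ m * (b * x) := by rw [hb]; group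
              _ = b ^ (m + 1) * x := by rw [pow_succ]; group
        have h2 := hstep (orderOf d)
        rw [pow_orderOf_eq_one, one_mul, inv_one, mul_one] at h2
        have h3 : b ^ orderOf d = 1 := by
          have := mul_right_cancel (a := b ^ orderOf d) (b := x) (c := 1) (by rw [one_mul]; exact h2.symm)
          exact this
        obtain ⟨k, hk⟩ := hT2 ⟨b, hbB.2⟩
        have hk' : b ^ 2 ^ k = 1 := congrArg Subtype.val hk
        have h4 : orderOf b ∣ orderOf d := orderOf_dvd_of_pow_eq_one h3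
        have h5 : orderOf b ∣ 2 ^ k := orderOf_dvd_of_pow_eq_one hk'
        have h6 : Nat.Coprime (orderOf d) (2 ^ k) := Nat.Coprime.pow_right k (Nat.coprime_two_right.2 hdo)
        have h7 : orderOf b = 1 := Nat.eq_one_of_dvd_coprimes h6 h4 h5
        have h8 : b = 1 := orderOf_eq_one_iff.1 h7
        have h9 : d * x * d⁻¹ = x := by
          have : d * x * d⁻¹ = b * x := by rw [hb]; group
          rw [this, h8, one_mul]
        exact (mul_inv_eq_iff_eq_mul.1 h9).symm
      have h2 : d ∈ T := hCT h1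
      obtain ⟨k, hk⟩ := hT2 ⟨d, h2⟩
      have hk' : d ^ 2 ^ k = 1 := congrArg Subtype.val hk
      have h5 : orderOf d ∣ 2 ^ k := orderOf_dvd_of_pow_eq_one hk'
      have h6 : Nat.Coprime (orderOf d) (2 ^ k) := Nat.Coprime.pow_right k (Nat.coprime_two_right.2 hdo)
      exact orderOf_eq_one_iff.1 (Nat.eq_one_of_dvd_coprimes h6 dvd_rfl h5)
    rintro ⟨d, hd⟩
    have hpos : orderOf d ≠ 0 := (orderOf_pos d).ne'
    obtain ⟨k, m, hm, hkm⟩ := Nat.exists_eq_two_pow_mul_odd hpos
    refine ⟨k, Subtype.ext ?_⟩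
    change d ^ 2 ^ k = 1
    apply hodd _ (pow_mem hd _)
    rw [orderOf_pow' d (by positivity), hkm, Nat.gcd_eq_right (Dvd.intro _ rfl), Nat.mul_div_cancel_left _ (by positivity)]
    exact hm
  have hDT : D ≤ T := Cfsg.Agent.Lib.Cores.le_pCore hDn hD2
  have hEB : B = E := inf_eq_left.2 (hED.trans hDT)
  rw [← hEB]
  exact hBn

theorem sup_normalizer_eq_top {Z : Type*} [Group Z] [Finite Z] [Group.IsSolvable Z] (R : Sylow 2 Z) (E : Subgroup Z)
    (hER : E ≤ (R : Subgroup Z)) (hEc : ∀ a ∈ E, ∀ b ∈ E, a * b = b * a)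
    (hsc : ∀ e ∈ E, ∀ g : Z, g * e * g⁻¹ ∈ (R : Subgroup Z) → g * e * g⁻¹ ∈ E) :
    pPrimeCore 2 Z ⊔ normalizer (E : Set Z) = ⊤ := by
  have : Fact (Nat.Prime 2) := ⟨Nat.prime_two⟩
  set O := pPrimeCore 2 Z with hO
  have hOn : O.Normal := Cfsg.Agent.Lib.Cores.pPrimeCore_normal 2
  set π := QuotientGroup.mk' O with hπ
  have hπs : Function.Surjective π := QuotientGroup.mk'_surjective O
  have hker : ∀ o ∈ O, π o = 1 := fun o ho => (QuotientGroup.eq_one_iff o).2 ho
  have hn : (E.map π).Normal := by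
    refine normal_of_core_eq_bot (R.mapSurjective hπs) (E.map π) (map_mono hER) ?_ ?_ ?_
    · rintro _ ⟨a, ha, rfl⟩ _ ⟨b, hb, rfl⟩
      rw [← map_mul, ← map_mul, hEc a ha b hb]
    · rintro _ ⟨e, he, rfl⟩ g hg
      obtain ⟨g, rfl⟩ := hπs g
      have hg' : π (g * e * g⁻¹) ∈ (R : Subgroup Z).map π := by
        rw [map_mul, map_mul, map_inv]; exact hg
      obtain ⟨r, hr, hr'⟩ := hg'
      have h1 : g * e * g⁻¹ ∈ (R : Subgroup Z) ⊔ O := by
        have h2 : r⁻¹ * (g * e * g⁻¹) ∈ O := QuotientGroup.eq.1 hr'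
        have h3 : g * e * g⁻¹ = r * (r⁻¹ * (g * e * g⁻¹)) := by group
        rw [h3]
        exact mul_mem ((le_sup_left : (R : Subgroup Z) ≤ _) hr) ((le_sup_right : O ≤ _) h2)
      obtain ⟨k, hk⟩ := R.2 ⟨e, hER he⟩
      have hk' : e ^ 2 ^ k = 1 := congrArg Subtype.val hk
      obtain ⟨o, ho, h2⟩ := Cfsg.Agent.TwoFusion.IsolatedCenter.exists_conj_mem R O (g * e * g⁻¹)
        ⟨k, by rw [conj_pow, hk']; group⟩ h1
      have h3 : o * (g * e * g⁻¹) * o⁻¹ = (o * g) * e * (o * g)⁻¹ := by group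
      rw [h3] at h2
      refine ⟨_, hsc e he (o * g) h2, ?_⟩
      rw [map_mul, map_mul, map_inv, map_mul, hker o ho, one_mul]
    · exact Cfsg.Agent.Lib.Cores.pPrimeCore_quotient_pPrimeCore 2
  -- `E O(Z)` is normal
  have hEO : (E ⊔ O).Normal := by
    have h1 : (E.map π).comap π = E ⊔ O := by
      rw [comap_map_eq, QuotientGroup.ker_mk']
    rw [← h1]
    exact hn.comap π
  have hrel : Cfsg.Agent.SignalizersComponents.PLayerAut.relCore 2 (⊤ : Subgroup Z) = O := by
    apply le_antisymm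
    · apply Cfsg.Agent.Lib.Cores.le_pPrimeCore
      · rw [← normalizer_eq_top_iff, eq_top_iff]
        exact Cfsg.Agent.SignalizersComponents.CoreBalance.le_normalizer_relCore 2 ⊤
      · exact Cfsg.Agent.SignalizersComponents.PLayerAut.relCore_coprime 2 _
    · apply Cfsg.Agent.SignalizersComponents.CoreBalance.le_relCore le_top
      · exact Cfsg.Agent.Lib.Cores.pPrimeCore_coprime 2
      · exact le_normalizer_of_normal
  have h2 := Cfsg.Agent.SylowTypes.NormalCore.le_sup_normalizer (V := E) (C := ⊤) (R.2.to_le hER) le_top (by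
    rw [hrel]; exact le_normalizer_of_normal)
  rw [hrel] at h2
  exact eq_top_iff.2 h2

end Cfsg.Agent.SylowU5.SC
end
end
end

-- part: SylowU5/Assemble_mg
section
set_option linter.all false
open scoped Cfsg.Agent.FastGrp

-- part: SylowU5/Assemble
section
/-! Step (5) of S0513: the class `D` of `z` is a class of 3-transpositions of the simple group `G`; the
hypotheses of S1614. -/

set_option autoImplicit false
set_option linter.style.haveILetI false
set_option linter.unusedSectionVars false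

namespace Cfsg.Agent.SylowU5.Assemble

universe u

open Cfsg
open Cfsg.Agent.SylowU5.Basic Cfsg.Agent.SylowU5.Elem Cfsg.Agent.SylowU5.SolvT
  Cfsg.Agent.SylowU5.Fus

variable {G : Type u} [Group G] [Finite G] [IsSimpleGroup G] {T : Sylow 2 G}
  {h : U5T (T : Subgroup G)}

variable (h) in
theorem closure_D : Subgroup.closure (D h) = ⊤ := by
  have hn : (Subgroup.closure (D h)).Normal := by
    constructor
    intro x hx g
    induction hx using Subgroup.closure_induction with
    | mem y hy => exact Subgroup.subset_closure (D_conj h hy g)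
    | one => rw [mul_one, mul_inv_cancel]; exact Subgroup.one_mem _
    | mul a b _ _ ha hb =>
      have : g * (a * b) * g⁻¹ = (g * a * g⁻¹) * (g * b * g⁻¹) := by group
      rw [this]; exact Subgroup.mul_mem _ ha hb
    | inv a _ ha =>
      have : g * a⁻¹ * g⁻¹ = (g * a * g⁻¹)⁻¹ := by group
      rw [this]; exact Subgroup.inv_mem _ ha
  rcases hn.eq_bot_or_eq_top with h1 | h1
  · exfalso
    have h2 : h.d 0 ∈ Subgroup.closure (D h) := Subgroup.subset_closure (z_mem_D h)
    rw [h1, Subgroup.mem_bot] at h2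
    exact h.d_ne_one 0 h2
  · exact h1

/-- the class of 3-transpositions -/
theorem isThreeTranspositionClass
    (hgeo : ∀ x ∈ D h, ∀ y ∈ D h, x * y = y * x ∨ orderOf (x * y) = 3) :
    IsThreeTranspositionClass (D h) := by
  haveI : Fact (Nat.Prime 2) := ⟨Nat.prime_two⟩
  refine ⟨⟨fun d hd => ?_, fun d hd e he => ?_⟩, ⟨h.d 0, z_mem_D h, ?_⟩, closure_D h⟩
  · apply orderOf_eq_prime
    · rw [sq]; exact D_sq h hd
    · exact D_ne_one h hd
  · rcases hgeo d hd e he with h1 | h1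
    · left
      calc (d * e) ^ 2 = d * (e * d) * e := by rw [sq]; group
        _ = (d * d) * (e * e) := by rw [← h1]; group
        _ = 1 := by rw [D_sq h hd, D_sq h he, mul_one]
    · right
      rw [← h1]; exact pow_orderOf_eq_one _
  · ext x
    change (∃ g : G, x = g * h.d 0 * g⁻¹) ↔ IsConj (h.d 0) x
    rw [isConj_iff]
    constructor
    · rintro ⟨g, rfl⟩
      exact ⟨g, rfl⟩
    · rintro ⟨g, hg⟩
      exact ⟨g, hg.symm⟩

theorem not_solvable (h : U5T (T : Subgroup G)) : ¬ Group.IsSolvable G := by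
  intro hs
  have hcomm : ∀ a b : G, a * b = b * a := IsSimpleGroup.comm_iff_isSolvable.mpr hs
  have hle : (T : Subgroup G) ≤ Subgroup.zpowers (h.d 0) := by
    intro x hx
    rcases h.center_T x hx (fun g _ => hcomm g x) with h1 | h1
    · rw [h1]; exact Subgroup.one_mem _
    · rw [h1]; exact Subgroup.mem_zpowers _
  have h2 : Nat.card (T : Subgroup G) ∣ Nat.card (Subgroup.zpowers (h.d 0)) :=
    Subgroup.card_dvd_of_le hle
  rw [h.card_T, Nat.card_zpowers] at h2
  have h3 : orderOf (h.d 0) ∣ 2 := orderOf_dvd_of_pow_eq_one (by rw [sq]; exact d_sq h 0)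
  exact absurd (h2.trans h3) (by norm_num)

theorem hsol (h : U5T (T : Subgroup G)) (N : Subgroup G) (hN : N.Normal) (hs : Group.IsSolvable N) : N = ⊥ := by
  rcases hN.eq_bot_or_eq_top with h1 | h1
  · exact h1
  · exfalso
    subst h1
    haveI := hs
    exact not_solvable h (Group.isSolvable_of_surjective
      (f := (Subgroup.topEquiv : (⊤ : Subgroup G) ≃* G).toMonoidHom) Subgroup.topEquiv.surjective)

omit [Finite G] in
theorem hperf : ⁅commutator G, commutator G⁆ = commutator G := by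
  rcases (inferInstance : (commutator G).Normal).eq_bot_or_eq_top with h1 | h1
  · rw [h1, Subgroup.commutator_bot_left]
  · have h2 : ⁅(⊤ : Subgroup G), (⊤ : Subgroup G)⁆ = ⊤ := by rw [← commutator_def, h1]
    rw [h1, h2]

theorem solvable_closure (F : U5Fus T h) :
    Group.IsSolvable ↥(Subgroup.closure {y : G | y ∈ D h ∧ y ≠ h.d 0 ∧ Commute (h.d 0) y}) := by
  haveI := F.solvable_z
  have hle : Subgroup.closure {y : G | y ∈ D h ∧ y ≠ h.d 0 ∧ Commute (h.d 0) y} ≤
      Subgroup.centralizer ({h.d 0} : Set G) := by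
    rw [Subgroup.closure_le]
    rintro y ⟨-, -, hy⟩
    exact Subgroup.mem_centralizer_singleton_iff.mpr hy.eq.symm
  exact Group.isSolvable_of_isSolvable_injective (Subgroup.inclusion_injective hle)

theorem dvd_card (h : U5T (T : Subgroup G)) : 1024 ∣ Nat.card G := by
  have := Subgroup.card_subgroup_dvd_card (T : Subgroup G)
  rwa [h.card_T] at this

end Cfsg.Agent.SylowU5.Assemble
end

-- part: SylowU5/FormAvg
section
/-!
# The retraction of an elementary abelian Sylow 2-subgroup onto the fixed points of its normalizer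
-/

set_option autoImplicit false

namespace Cfsg.Agent.SylowU5.FormAvg

open Subgroup

variable {N : Type*} [Group N]

theorem exists_retraction [Finite N] (V : Sylow 2 N)
    (hVc : ∀ a ∈ (V : Subgroup N), ∀ b ∈ (V : Subgroup N), a * b = b * a)
    (hV2 : ∀ a ∈ (V : Subgroup N), a * a = 1) :
    ∃ e : (V : Subgroup N) →* (V : Subgroup N),
      (∀ (g : N) (v w : (V : Subgroup N)), g * v * g⁻¹ = w → e w = e v) ∧
      (∀ v, e (e v) = e v) ∧
      (∀ f : (V : Subgroup N), e f = f → ∀ (g : N) (w : (V : Subgroup N)), g * f * g⁻¹ = w → w = f) ∧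
      (∀ f : (V : Subgroup N), (∀ g : N, g * f = f * g) → e f = f) ∧
      (∀ χ : (V : Subgroup N) →* Multiplicative (ZMod 2),
        (∀ g ∈ normalizer ((V : Subgroup N) : Set N), ∀ v w : (V : Subgroup N), g * v * g⁻¹ = w → χ w = χ v) →
          ∀ v, χ (e v) = χ v) := by
  classical
  have : Fact (Nat.Prime 2) := ⟨Nat.prime_two⟩
  let cg : CommGroup (V : Subgroup N) :=
    { (inferInstance : Group (V : Subgroup N)) with
      mul_comm := fun a b => Subtype.ext (hVc a a.2 b b.2) }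
  set φ := (V : Subgroup N).normalizerMonoidHom with hφ
  let R : Subgroup (MulAut (V : Subgroup N)) := φ.range
  have hRfin : Fintype R := Fintype.ofFinite R
  have hφa : ∀ (g : normalizer ((V : Subgroup N) : Set N)) (v : (V : Subgroup N)),
      ((φ g v : (V : Subgroup N)) : N) = g * v * (g : N)⁻¹ := fun g v => rfl
  -- the order of `R` is odd
  have hRodd : Odd (Fintype.card R) := by
    have h1 : Nat.card R = φ.ker.index := (index_ker φ).symm
    rw [← Nat.card_eq_fintype_card, h1, hφ, normalizerMonoidHom_ker]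
    have h2 : (V : Subgroup N) ≤ centralizer ((V : Subgroup N) : Set N) := by
      intro a ha
      exact mem_centralizer_iff.2 fun b hb => hVc b hb a ha
    have h3 : (centralizer ((V : Subgroup N) : Set N)).relIndex (normalizer ((V : Subgroup N) : Set N)) ∣
        (V : Subgroup N).relIndex (normalizer ((V : Subgroup N) : Set N)) := relIndex_dvd_of_le_left _ h2
    have h4 : (V : Subgroup N).relIndex (normalizer ((V : Subgroup N) : Set N)) ∣ (V : Subgroup N).index :=
      relIndex_dvd_index_of_le le_normalizer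
    have h5 : ¬ 2 ∣ (V : Subgroup N).index := V.not_dvd_index
    change Odd ((centralizer ((V : Subgroup N) : Set N)).relIndex (normalizer ((V : Subgroup N) : Set N)))
    rw [Nat.odd_iff]
    have h6 : ¬ 2 ∣ (centralizer ((V : Subgroup N) : Set N)).relIndex (normalizer ((V : Subgroup N) : Set N)) :=
      fun h => h5 (h.trans (h3.trans h4))
    omega
  let e : (V : Subgroup N) →* (V : Subgroup N) :=
    { toFun := fun v => ∏ r : R, (r : MulAut (V : Subgroup N)) v
      map_one' := by simp only [_root_.map_one, _root_.Finset.prod_const_one]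
      map_mul' := fun v w => by simp only [Finset.prod_mul_distrib, _root_.map_mul] }
  have he : ∀ v, e v = ∏ r : R, (r : MulAut (V : Subgroup N)) v := fun v => rfl
  -- invariance
  have he1 : ∀ (s : R) (v : (V : Subgroup N)), (s : MulAut (V : Subgroup N)) (e v) = e v := by
    intro s v
    rw [he, map_prod]
    exact Fintype.prod_equiv (Equiv.mulLeft s) _ _ (fun r => rfl)
  have he2 : ∀ (s : R) (v : (V : Subgroup N)), e ((s : MulAut (V : Subgroup N)) v) = e v := by
    intro s v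
    rw [he, he]
    exact Fintype.prod_equiv (Equiv.mulRight s) _ _ (fun r => rfl)
  have hpow : ∀ (v : (V : Subgroup N)) (n : ℕ), Odd n → v ^ n = v := by
    rintro v n ⟨k, rfl⟩
    have h2 : v * v = 1 := Subtype.ext (hV2 v v.2)
    rw [pow_succ, pow_mul, pow_two, h2, one_pow, one_mul]
  have he3 : ∀ f : (V : Subgroup N), (∀ s : R, (s : MulAut (V : Subgroup N)) f = f) → e f = f := by
    intro f hf
    rw [he, Finset.prod_congr rfl (fun r _ => hf r), Finset.prod_const, Finset.card_univ]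
    exact hpow f _ hRodd
  -- fusion
  have hcomm : IsMulCommutative (V : Subgroup N) := ⟨⟨fun a b => Subtype.ext (hVc a a.2 b b.2)⟩⟩
  have hfus : ∀ (g : N) (v w : (V : Subgroup N)), g * v * g⁻¹ = w → ∃ s : R, (s : MulAut (V : Subgroup N)) v = w := by
    intro g v w hg
    obtain ⟨n, hn, h1⟩ := V.conj_eq_normalizer_conj_of_mem v g⁻¹ v.2 (by rw [inv_inv, hg]; exact w.2)
    rw [inv_inv] at h1
    refine ⟨⟨φ ⟨n⁻¹, inv_mem hn⟩, ⟨_, rfl⟩⟩, Subtype.ext ?_⟩
    rw [← hg, h1]
    change n⁻¹ * v * (n⁻¹)⁻¹ = n⁻¹ * v * n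
    rw [inv_inv]
  refine ⟨e, ?_, ?_, ?_, ?_, ?_⟩
  · intro g v w hg
    obtain ⟨s, hs⟩ := hfus g v w hg
    rw [← hs, he2]
  · intro v
    exact he3 _ (fun s => he1 s v)
  · intro f hf g w hg
    obtain ⟨s, hs⟩ := hfus g f w hg
    rw [← hs]
    conv_lhs => rw [← hf]
    rw [he1, hf]
  · intro f hf
    apply he3
    rintro ⟨_, ⟨g, rfl⟩⟩
    apply Subtype.ext
    change (g : N) * f * (g : N)⁻¹ = f
    rw [hf, mul_inv_cancel_right]
  · intro χ hχ v
    rw [he, map_prod]
    have h1 : ∀ r : R, χ ((r : MulAut (V : Subgroup N)) v) = χ v := by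
      rintro ⟨_, ⟨g, rfl⟩⟩
      exact hχ g g.2 v _ rfl
    rw [Finset.prod_congr rfl (fun r _ => h1 r), Finset.prod_const, Finset.card_univ]
    obtain ⟨k, hk⟩ := hRodd
    rw [hk, pow_succ, pow_mul, pow_two]
    have h2 : χ v * χ v = 1 := by
      rw [← map_mul]
      have h2 : v * v = 1 := Subtype.ext (hV2 v v.2)
      rw [h2, map_one]
    rw [h2, one_pow, one_mul]

end Cfsg.Agent.SylowU5.FormAvg
end

-- part: SylowU5/FormSolvable
section
/-!
# A solvability criterion: elementary abelian Sylow 2-subgroup of order 64 with a quadratic form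

(theorem T2 in the proof of S0513 by helper330 and helper445)
-/

set_option autoImplicit false

namespace Cfsg.Agent.SylowU5.FormSolvable

open Subgroup Cfsg

theorem zadd : ∀ a : ZMod 2, a + a = 0 := by decide

theorem zmul : ∀ a b c d e f : ZMod 2, (a + b + c + d + e + f) + a + f = (b + d + f) + (c + e + f) := by decide +kernel

theorem zsol : ∀ x y z : ZMod 2, 0 = x + y + z → x = y + z := by decide

theorem zone : ∀ a : ZMod 2, a ≠ 0 → a = 1 := by decide

theorem z11 : (1 : ZMod 2) + 1 = 0 := by decide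

theorem z01 : (0 : ZMod 2) ≠ 1 := by decide

/-- A subgroup on which a quadratic form is anisotropic has order at most four. -/
theorem card_le_four {N : Type*} [Group N] [Finite N] {V A : Subgroup N} (hAV : A ≤ V)
    (hV2 : ∀ a ∈ V, a * a = 1) (q : N → ZMod 2)
    (hquad : ∀ x ∈ V, ∀ y ∈ V, ∀ w ∈ V, q (x * y * w) = q (x * y) + q (x * w) + q (y * w) + q x + q y + q w)
    (hq : ∀ a ∈ A, a ≠ 1 → q a = 1) : Nat.card A ≤ 4 := by
  classical
  by_contra hcard
  push Not at hcard
  have hinv : ∀ a ∈ A, a⁻¹ = a := fun a ha => inv_eq_of_mul_eq_one_left (hV2 a (hAV ha))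
  have hfin : Fintype A := Fintype.ofFinite A
  rw [Nat.card_eq_fintype_card] at hcard
  -- choose elements outside small sets
  have hex : ∀ s : Finset A, s.card ≤ 4 → ∃ c : A, c ∉ s := by
    intro s hs
    by_contra hall
    push Not at hall
    have : s = Finset.univ := by ext c; simp only [hall c, _root_.Finset.mem_univ]
    rw [this, Finset.card_univ] at hs
    omega
  obtain ⟨a, ha⟩ := hex {1} (by simp)
  obtain ⟨b, hb⟩ := hex {1, a} (Finset.card_le_two.trans (by norm_num))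
  obtain ⟨c, hc⟩ := hex {1, a, b, a * b} Finset.card_le_four
  simp only [Finset.mem_singleton, Finset.mem_insert, not_or] at ha hb hc
  have hone : ∀ x : A, x ≠ 1 → q x = 1 := fun x hx => hq x x.2 fun h => hx (Subtype.ext h)
  have hself : ∀ x : A, x⁻¹ = x := fun x => Subtype.ext (hinv x x.2)
  have h1 := hquad a (hAV a.2) b (hAV b.2) c (hAV c.2)
  have e1 : a * b * c ≠ 1 := by
    intro h
    exact hc.2.2.2 (by rw [← hself c]; exact (mul_eq_one_iff_eq_inv.1 h).symm)
  have e2 : a * b ≠ 1 := by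
    intro h
    exact hb.2 (by rw [← hself b]; exact (mul_eq_one_iff_eq_inv.1 h).symm)
  have e3 : a * c ≠ 1 := by
    intro h
    exact hc.2.1 (by rw [← hself c]; exact (mul_eq_one_iff_eq_inv.1 h).symm)
  have e4 : b * c ≠ 1 := by
    intro h
    exact hc.2.2.1 (by rw [← hself c]; exact (mul_eq_one_iff_eq_inv.1 h).symm)
  have f1 := hone _ e1
  have f2 := hone _ e2
  have f3 := hone _ e3
  have f4 := hone _ e4
  simp only [coe_mul] at f1 f2 f3 f4
  rw [f1, f2, f3, f4, hone a ha, hone b hb.1, hone c hc.1] at h1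
  revert h1
  decide

/-- Elementary abelian Sylow 2-subgroup `P`, `a ∈ P` with solvable centralizer. -/
theorem le_core_sup_normalizer {X : Type*} [Group X] [Finite X] (P : Sylow 2 X)
    (hPc : ∀ a ∈ (P : Subgroup X), ∀ b ∈ (P : Subgroup X), a * b = b * a)
    (hP2 : ∀ a ∈ (P : Subgroup X), a * a = 1) {a : X} (ha : a ∈ (P : Subgroup X))
    (hs : Group.IsSolvable ↥(centralizer ({a} : Set X))) :
    centralizer ({a} : Set X) ≤ centralizerPPrimeCore 2 a ⊔ normalizer ((P : Subgroup X) : Set X) := by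
  have : Fact (Nat.Prime 2) := ⟨Nat.prime_two⟩
  set C := centralizer ({a} : Set X) with hC
  have hPC : (P : Subgroup X) ≤ C := fun b hb => mem_centralizer_singleton_iff.2 (hPc b hb a ha)
  have h1 : IsMulCommutative (P.subtype hPC : Subgroup C) :=
    ⟨⟨fun x y => Subtype.ext (Subtype.ext (hPc _ x.2 _ y.2))⟩⟩
  have h2 := Cfsg.Agent.S0018.result 2 (P.subtype hPC) h1
  have h3 := Cfsg.Agent.Lib.LocalCore.le_normalizer_map_subtype C _ h2
  have h4 : ((P.subtype hPC : Subgroup C) ⊔ pPrimeCore 2 C).map C.subtype =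
      (P : Subgroup X) ⊔ Cfsg.Agent.SignalizersComponents.PLayerAut.relCore 2 C := by
    rw [Subgroup.map_sup]
    congr 1
    change ((P : Subgroup X).subgroupOf C).map C.subtype = _
    exact map_subgroupOf_eq_of_le hPC
  rw [h4] at h3
  exact Cfsg.Agent.SylowTypes.NormalCore.le_sup_normalizer P.2 hPC h3

/-- Abelian Sylow 2-subgroup, `X = O(X) N(P)`. -/
theorem isSolvable_of_sup_normalizer {X : Type*} [Group X] [Finite X] (P : Sylow 2 X)
    (hPc : ∀ a ∈ (P : Subgroup X), ∀ b ∈ (P : Subgroup X), a * b = b * a)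
    (hX : pPrimeCore 2 X ⊔ normalizer ((P : Subgroup X) : Set X) = ⊤) : Group.IsSolvable X := by
  have : Fact (Nat.Prime 2) := ⟨Nat.prime_two⟩
  have hOn : (pPrimeCore 2 X).Normal := Cfsg.Agent.Lib.Cores.pPrimeCore_normal 2
  have hOodd : Odd (Nat.card (pPrimeCore 2 X)) :=
    Nat.coprime_two_right.1 (Cfsg.Agent.Lib.Cores.pPrimeCore_coprime 2)
  have hOsol : Group.IsSolvable ↥(pPrimeCore 2 X) := Cfsg.Agent.S0205.result hOodd
  set L := normalizer ((P : Subgroup X) : Set X) with hL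
  have hPL : (P : Subgroup X) ≤ L := le_normalizer
  have hn : ((P : Subgroup X).subgroupOf L).Normal := (normal_subgroupOf_iff_le_normalizer hPL).2 le_rfl
  have hPs : Group.IsSolvable ↥((P : Subgroup X).subgroupOf L) :=
    Group.isSolvable_of_comm fun a b => Subtype.ext (Subtype.ext (hPc _ a.2 _ b.2))
  have hLq : Group.IsSolvable (↥L ⧸ (P : Subgroup X).subgroupOf L) := by
    apply Cfsg.Agent.S0205.result
    have h1 : ¬ 2 ∣ (P : Subgroup X).index := P.not_dvd_index
    have h2 : (P : Subgroup X).relIndex L ∣ (P : Subgroup X).index := relIndex_dvd_index_of_le hPL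
    have h3 : ¬ 2 ∣ (P : Subgroup X).relIndex L := fun h => h1 (h.trans h2)
    change Odd ((P : Subgroup X).relIndex L)
    rw [Nat.odd_iff]; omega
  have hLs : Group.IsSolvable ↥L :=
    (Group.isSolvable_iff_subgroup_quotient ((P : Subgroup X).subgroupOf L)).mpr ⟨hPs, hLq⟩
  have hq : Group.IsSolvable (X ⧸ pPrimeCore 2 X) := by
    refine Group.isSolvable_of_surjective (f := (QuotientGroup.mk' (pPrimeCore 2 X)).comp L.subtype) ?_
    intro x
    obtain ⟨g, rfl⟩ := QuotientGroup.mk'_surjective _ x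
    have hg : g ∈ pPrimeCore 2 X ⊔ L := by rw [hX]; exact mem_top g
    obtain ⟨o, ho, l, hl, rfl⟩ := Subgroup.mem_sup_of_normal_left.1 hg
    refine ⟨⟨l, hl⟩, ?_⟩
    have h5 : QuotientGroup.mk' (pPrimeCore 2 X) o = 1 := (QuotientGroup.eq_one_iff o).2 ho
    change QuotientGroup.mk' (pPrimeCore 2 X) l = QuotientGroup.mk' (pPrimeCore 2 X) (o * l)
    rw [map_mul, h5, one_mul]
  exact (Group.isSolvable_iff_subgroup_quotient (pPrimeCore 2 X)).mpr ⟨hOsol, hq⟩

set_option maxHeartbeats 1000000 in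
theorem isSolvable_of_form {N : Type*} [Group N] [Finite N] (V : Sylow 2 N)
    (hVc : ∀ a ∈ V, ∀ b ∈ V, a * b = b * a) (hV2 : ∀ a ∈ V, a * a = 1) (hcard : Nat.card V = 64)
    (q : N → ZMod 2) (hq1 : q 1 = 0)
    (hquad : ∀ x ∈ V, ∀ y ∈ V, ∀ w ∈ V, q (x*y*w) = q (x*y) + q (x*w) + q (y*w) + q x + q y + q w)
    (hnd : ∀ x ∈ V, x ≠ 1 → ∃ y ∈ V, q (x*y) ≠ q x + q y)
    (hinv : ∀ g : N, ∀ x ∈ V, g*x*g⁻¹ ∈ V → q (g*x*g⁻¹) = q x) (n : N) (hn : n ∈ V)
    (hnc : ∀ g, g*n = n*g) (hqn : q n = 1)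
    (hsolv : ∀ u ∈ V, u ≠ 1 → q u = 0 → Group.IsSolvable ↥(Subgroup.centralizer ({u} : Set N))) :
    Group.IsSolvable N := by
  classical
  have : Fact (Nat.Prime 2) := ⟨Nat.prime_two⟩
  obtain ⟨e, he_fus, he_idem, he_iso, he_cent, he_chi⟩ := FormAvg.exists_retraction V hVc hV2
  have hself : ∀ a ∈ (V : Subgroup N), a⁻¹ = a := fun a ha => inv_eq_of_mul_eq_one_left (hV2 a ha)
  -- the fixed points, as a subgroup of `N`
  let F : Subgroup N := e.range.map (V : Subgroup N).subtype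
  have hFV : F ≤ (V : Subgroup N) := map_subtype_le _
  have hFfix : ∀ f (hf : f ∈ (V : Subgroup N)), e ⟨f, hf⟩ = ⟨f, hf⟩ → f ∈ F := fun f hf h =>
    ⟨⟨f, hf⟩, ⟨⟨f, hf⟩, h⟩, rfl⟩
  have hFmem : ∀ f ∈ F, ∃ hf : f ∈ (V : Subgroup N), e ⟨f, hf⟩ = ⟨f, hf⟩ := by
    rintro _ ⟨f, ⟨v, rfl⟩, rfl⟩
    exact ⟨(e v).2, he_idem v⟩
  have hFiso : ∀ x ∈ F, ∀ g : N, g * x * g⁻¹ ∈ (V : Subgroup N) → g * x * g⁻¹ = x := by
    intro x hx g hg
    obtain ⟨hxV, hx1⟩ := hFmem x hx
    exact congrArg Subtype.val (he_iso _ hx1 g ⟨_, hg⟩ rfl)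
  -- orthogonality
  have horth : ∀ (u f : (V : Subgroup N)), e u = 1 → e f = f → q ((u : N) * f) = q u + q f := by
    intro u f hu hf
    let χ : (V : Subgroup N) →* Multiplicative (ZMod 2) :=
      { toFun := fun v => Multiplicative.ofAdd (q ((v : N) * f) + q v + q f)
        map_one' := by
          rw [← ofAdd_zero]
          congr 1
          simp only [coe_one, one_mul, hq1, add_zero, zadd]
        map_mul' := fun v w => by
          rw [← ofAdd_add]
          congr 1
          have := hquad v v.2 w w.2 f f.2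
          simp only [coe_mul]
          rw [this]
          exact zmul _ _ _ _ _ _ }
    have h1 := he_chi χ (by
      intro g hg v w hvw
      have hgf : g * (f : N) * g⁻¹ = f := by
        have h2 : g * (f : N) * g⁻¹ ∈ (V : Subgroup N) := (mem_normalizer_iff.1 hg f).1 f.2
        exact congrArg Subtype.val (he_iso f hf g ⟨_, h2⟩ rfl)
      change Multiplicative.ofAdd (q ((w : N) * f) + q w + q f) = Multiplicative.ofAdd (q ((v : N) * f) + q v + q f)
      congr 1
      have h3 : q (w : N) = q v := by rw [← hvw]; exact hinv g v v.2 (by rw [hvw]; exact w.2)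
      have h4 : (w : N) * f = g * ((v : N) * f) * g⁻¹ := by
        calc (w : N) * f = (g * v * g⁻¹) * (g * f * g⁻¹) := by rw [hvw, hgf]
          _ = g * ((v : N) * f) * g⁻¹ := by group
      have h5 : q ((w : N) * f) = q ((v : N) * f) := by
        rw [h4]
        apply hinv g _ (mul_mem v.2 f.2)
        rw [← h4]
        exact mul_mem w.2 f.2
      rw [h3, h5]) u
    rw [hu, map_one] at h1
    have h2 : (0 : ZMod 2) = q ((u : N) * f) + q u + q f := h1
    exact zsol _ _ _ h2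
  -- `Z*`
  have hZs : ∀ x ∈ F, ∀ g : N, x * g * x⁻¹ * g⁻¹ ∈ Cfsg.oddCore N :=
    Cfsg.Agent.TwoFusion.IsolatedCenter.commutator_mem_oddCore
      (fun G _ _ P u h1 h2 h3 => Cfsg.Agent.S0215.result P u h1 h2 h3) (Nat.card N) N le_rfl V F hFV hFiso
  have hOodd : Odd (Nat.card (Cfsg.oddCore N)) :=
    Nat.coprime_two_right.1 (Cfsg.Agent.Lib.Cores.pPrimeCore_coprime 2)
  have hOsol : Group.IsSolvable ↥(Cfsg.oddCore N) := Cfsg.Agent.S0205.result hOodd
  by_cases hA : ∃ f ∈ F, f ≠ 1 ∧ q f = 0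
  · obtain ⟨f, hf, hf1, hqf⟩ := hA
    have hCf := hsolv f (hFV hf) hf1 hqf
    have hN := Cfsg.Agent.TwoFusion.IsolatedCenter.exists_eq_mul F (V.2.to_le hFV) hZs
    have hquot : Group.IsSolvable (N ⧸ Cfsg.oddCore N) := by
      refine Group.isSolvable_of_surjective (f := (QuotientGroup.mk' (Cfsg.oddCore N)).comp
        (centralizer ({f} : Set N)).subtype) ?_
      intro x
      obtain ⟨h, rfl⟩ := QuotientGroup.mk'_surjective _ x
      obtain ⟨o, ho, c, hc, rfl⟩ := hN h
      refine ⟨⟨c, mem_centralizer_singleton_iff.2 (mem_centralizer_iff.1 hc f hf).symm⟩, ?_⟩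
      change QuotientGroup.mk' (Cfsg.oddCore N) c = QuotientGroup.mk' (Cfsg.oddCore N) (o * c)
      rw [map_mul, (QuotientGroup.eq_one_iff o).2 ho |> (fun h => (h : QuotientGroup.mk' (Cfsg.oddCore N) o = 1)), one_mul]
    exact (Group.isSolvable_iff_subgroup_quotient (Cfsg.oddCore N)).mpr ⟨hOsol, hquot⟩
  · push Not at hA
    have hF1 : ∀ f ∈ F, f ≠ 1 → q f = 1 := by
      intro f hf hf1
      exact zone _ (hA f hf hf1)
    -- the normal subgroup `O(N) F`
    set O := Cfsg.oddCore N with hO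
    have hOn : O.Normal := Cfsg.Agent.Lib.Cores.pPrimeCore_normal 2
    let M₀ : Subgroup N := O ⊔ F
    have hM₀ : M₀.Normal := by
      rw [← normalizer_eq_top_iff, eq_top_iff]
      intro g _
      have key : ∀ g : N, M₀ ≤ M₀.comap (MulAut.conj g).toMonoidHom := by
        intro g
        refine sup_le ?_ ?_
        · intro o ho
          exact (le_sup_left : O ≤ M₀) (hOn.conj_mem o ho g)
        · intro f hf
          have h1 : g * f * g⁻¹ = (f * g * f⁻¹ * g⁻¹)⁻¹ * f := by group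
          change g * f * g⁻¹ ∈ M₀
          rw [h1]
          exact mul_mem ((le_sup_left : O ≤ M₀) (inv_mem (hZs f hf g))) ((le_sup_right : F ≤ M₀) hf)
      rw [mem_normalizer_iff]
      intro x
      refine ⟨fun hx => key g hx, fun hx => ?_⟩
      have := key g⁻¹ hx
      change g⁻¹ * (g * x * g⁻¹) * (g⁻¹)⁻¹ ∈ M₀ at this
      have h1 : g⁻¹ * (g * x * g⁻¹) * (g⁻¹)⁻¹ = x := by group
      rwa [h1] at this
    have hOV : ∀ x ∈ O, x ∈ (V : Subgroup N) → x = 1 := by
      intro x hxO hxV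
      have h1 : orderOf x ∣ Nat.card O := by
        have := _root_.orderOf_dvd_natCard (⟨x, hxO⟩ : O)
        rwa [Subgroup.orderOf_mk] at this
      have h2 : orderOf x ∣ 2 := orderOf_dvd_of_pow_eq_one (by rw [pow_two]; exact hV2 x hxV)
      have h3 : Odd (orderOf x) := hOodd.of_dvd_nat h1
      rcases (Nat.dvd_prime Nat.prime_two).1 h2 with h4 | h4
      · exact orderOf_eq_one_iff.1 h4
      · rw [h4] at h3; exact absurd h3 (by decide)
    have hM₀V : ∀ x ∈ M₀, x ∈ (V : Subgroup N) → x ∈ F := by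
      intro x hx hxV
      obtain ⟨o, ho, f, hf, rfl⟩ := Subgroup.mem_sup_of_normal_left.1 hx
      have h1 : o = 1 := hOV o ho (by
        have := mul_mem hxV (inv_mem (hFV hf))
        rwa [mul_inv_cancel_right] at this)
      rw [h1, one_mul]; exact hf
    have hM₀le : M₀ ≤ (V : Subgroup N) ⊔ O := sup_le le_sup_right (hFV.trans le_sup_left)
    set π := QuotientGroup.mk' M₀ with hπ
    have hπeq : ∀ x y : N, π x = π y ↔ x⁻¹ * y ∈ M₀ := fun x y => QuotientGroup.eq
    -- lifting of fusion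
    have hlift : ∀ (g : N) (x y : (V : Subgroup N)), e x = 1 → e y = 1 → π (g * x * g⁻¹) = π y →
        ∃ o ∈ O, (o * g) * x * (o * g)⁻¹ = y := by
      intro g x y hx hy hg
      have h1 : g * x * g⁻¹ ∈ (V : Subgroup N) ⊔ O := by
        have h2 := (hπeq _ _).1 hg.symm
        have h3 : g * x * g⁻¹ = y * ((y : N)⁻¹ * (g * x * g⁻¹)) := by group
        rw [h3]
        exact mul_mem ((le_sup_left : (V : Subgroup N) ≤ _) y.2) (hM₀le h2)
      obtain ⟨o, ho, h2⟩ := Cfsg.Agent.TwoFusion.IsolatedCenter.exists_conj_mem V O (g * x * g⁻¹)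
        ⟨1, by
          rw [pow_one, pow_two]
          calc g * x * g⁻¹ * (g * x * g⁻¹) = g * ((x : N) * x) * g⁻¹ := by group
            _ = 1 := by rw [hV2 x x.2]; group⟩ h1
      refine ⟨o, ho, ?_⟩
      have h3 : (o * g) * x * (o * g)⁻¹ = o * (g * x * g⁻¹) * o⁻¹ := by group
      rw [h3]
      have h4 : (y : N)⁻¹ * (o * (g * x * g⁻¹) * o⁻¹) ∈ M₀ := by
        rw [← hπeq, map_mul, map_mul, hg]
        have h5 : π o = 1 := (QuotientGroup.eq_one_iff o).2 ((le_sup_left : O ≤ M₀) ho)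
        rw [map_inv, h5, one_mul, inv_one, mul_one]
      have h5 := hM₀V _ h4 (mul_mem (inv_mem y.2) h2)
      obtain ⟨h6, h7⟩ := hFmem _ h5
      have h8 : e ⟨_, h2⟩ = e x := he_fus (o * g) x ⟨_, h2⟩ h3
      have h9 : (⟨_, h6⟩ : (V : Subgroup N)) = y⁻¹ * ⟨_, h2⟩ := rfl
      have h10 : e ⟨_, h6⟩ = 1 := by rw [h9, map_mul, map_inv, h8, hx, hy, inv_one, one_mul]
      rw [h7] at h10
      have h11 : (y : N)⁻¹ * (o * (g * x * g⁻¹) * o⁻¹) = 1 := congrArg Subtype.val h10
      exact (inv_mul_eq_one.1 h11).symm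
    -- elements of the kernel of `e`
    have hdec : ∀ v : (V : Subgroup N), e (v * (e v)⁻¹) = 1 := fun v => by
      rw [map_mul, map_inv, he_idem, mul_inv_cancel]
    have hπF : ∀ v : (V : Subgroup N), π v = π ((v * (e v)⁻¹ : (V : Subgroup N)) : N) := by
      intro v
      rw [hπeq]
      have h1 : (v : N)⁻¹ * ((v * (e v)⁻¹ : (V : Subgroup N)) : N) = ((e v)⁻¹ : (V : Subgroup N)) := by
        simp only [coe_mul, inv_mul_cancel_left]
      rw [h1]
      exact (le_sup_right : F ≤ M₀) (inv_mem (hFfix _ (e v).2 (he_idem v)))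
    have hπ1 : ∀ u : (V : Subgroup N), e u = 1 → π u = 1 → u = 1 := by
      intro u hu h1
      have h2 : (u : N) ∈ M₀ := (QuotientGroup.eq_one_iff (u : N)).1 h1
      obtain ⟨h3, h4⟩ := hFmem _ (hM₀V _ h2 u.2)
      have h5 : e u = u := h4
      rw [← h5, hu]
    have hnfix : e ⟨n, hn⟩ = ⟨n, hn⟩ := he_cent ⟨n, hn⟩ hnc
    -- the order of the kernel
    have hcard_ker : 16 ≤ Nat.card e.ker := by
      have h1 : Nat.card F ≤ 4 := card_le_four hFV hV2 q hquad hF1
      have h2 : Nat.card F = Nat.card e.range := Subgroup.card_map_of_injective (V : Subgroup N).subtype_injective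
      have h3 : Nat.card e.ker * e.ker.index = Nat.card (V : Subgroup N) := card_mul_index e.ker
      rw [index_ker, ← h2] at h3
      have h4 : Nat.card (V : Subgroup N) = 64 := hcard
      rw [h4] at h3
      by_contra h5
      push Not at h5
      have h6 : Nat.card e.ker * Nat.card F ≤ 15 * 4 := Nat.mul_le_mul (by omega) h1
      omega
    let U : Subgroup N := e.ker.map (V : Subgroup N).subtype
    have hUcard : Nat.card U = Nat.card e.ker := Subgroup.card_map_of_injective (V : Subgroup N).subtype_injective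
    have hUV : U ≤ (V : Subgroup N) := map_subtype_le _
    -- a singular element
    obtain ⟨s, hs1, hse, hsq⟩ : ∃ s : (V : Subgroup N), s ≠ 1 ∧ e s = 1 ∧ q s = 0 := by
      by_contra hno
      push Not at hno
      have h1 : Nat.card U ≤ 4 := card_le_four hUV hV2 q hquad (by
        rintro _ ⟨u, hu, rfl⟩ hu1
        exact zone _ (hno u (fun h => hu1 (by rw [h]; rfl)) hu))
      omega
    -- a nonsingular element
    obtain ⟨k, hke, hkq⟩ : ∃ k : (V : Subgroup N), e k = 1 ∧ q k = 1 := by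
      by_contra hno
      push Not at hno
      have hall : ∀ u : (V : Subgroup N), e u = 1 → q u = 0 := by
        intro u hu
        by_contra h0
        exact hno u hu (zone _ h0)
      obtain ⟨y, hy, hne⟩ := hnd s s.2 (fun h => hs1 (Subtype.ext h))
      apply hne
      set y' : (V : Subgroup N) := ⟨y, hy⟩ with hy'
      have hyd : (y : N) = ((y' * (e y')⁻¹ : (V : Subgroup N)) : N) * (e y' : (V : Subgroup N)) := by
        rw [← coe_mul, inv_mul_cancel_right]
      have h1 := horth _ _ (hdec y') (he_idem y')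
      have h2 : q ((s : N) * y) = q ((s * (y' * (e y')⁻¹) : (V : Subgroup N)) : N) + q ((e y' : (V : Subgroup N)) : N) := by
        rw [← horth _ _ (by rw [map_mul, hse, hdec, one_mul]) (he_idem y')]
        congr 1
        rw [coe_mul, mul_assoc, ← hyd]
      rw [h2, hall _ (by rw [map_mul, hse, hdec, one_mul]), hsq, hyd, h1, hall _ (hdec y')]
      ring
    -- centralizers of the elements of the kernel
    have hCu : ∀ u : (V : Subgroup N), e u = 1 → u ≠ 1 → Group.IsSolvable ↥(centralizer ({(u : N)} : Set N)) := by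
      intro u hu hu1
      by_cases hqu : q u = 0
      · exact hsolv u u.2 (fun h => hu1 (Subtype.ext h)) hqu
      · have h1 : q ((u : N) * n) = 0 := by
          rw [horth u ⟨n, hn⟩ hu hnfix, zone _ hqu, hqn]; exact z11
        have h2 : (u : N) * n ≠ 1 := by
          intro h
          have h3 : u * ⟨n, hn⟩ = 1 := Subtype.ext h
          have h4 := congrArg e h3
          rw [map_mul, hu, hnfix, map_one, one_mul] at h4
          have h5 : n = 1 := congrArg Subtype.val h4
          rw [h5, hq1] at hqn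
          exact z01 hqn
        have h3 := hsolv _ (mul_mem u.2 hn) h2 h1
        have h4 : centralizer ({(u : N)} : Set N) ≤ centralizer ({(u : N) * n} : Set N) := by
          intro g hg
          rw [mem_centralizer_singleton_iff] at hg ⊢
          calc g * (u * n) = (g * u) * n := by rw [mul_assoc]
            _ = u * (g * n) := by rw [hg, mul_assoc]
            _ = u * n * g := by rw [hnc, mul_assoc]
        exact Group.isSolvable_of_isSolvable_injective (inclusion_injective h4)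
    -- the quotient
    have hπs : Function.Surjective π := QuotientGroup.mk'_surjective M₀
    let P : Sylow 2 (N ⧸ M₀) := V.mapSurjective hπs
    have hP : (P : Subgroup (N ⧸ M₀)) = (V : Subgroup N).map π := rfl
    have hPmem : ∀ x ∈ (P : Subgroup (N ⧸ M₀)), ∃ u : (V : Subgroup N), e u = 1 ∧ π u = x := by
      rintro _ ⟨v, hv, rfl⟩
      exact ⟨⟨v, hv⟩ * (e ⟨v, hv⟩)⁻¹, hdec _, (hπF ⟨v, hv⟩).symm⟩
    have hPc : ∀ a ∈ (P : Subgroup (N ⧸ M₀)), ∀ b ∈ (P : Subgroup (N ⧸ M₀)), a * b = b * a := by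
      rintro _ ⟨a, ha, rfl⟩ _ ⟨b, hb, rfl⟩
      rw [← map_mul, ← map_mul, hVc a ha b hb]
    have hP2 : ∀ a ∈ (P : Subgroup (N ⧸ M₀)), a * a = 1 := by
      rintro _ ⟨a, ha, rfl⟩
      rw [← map_mul, hV2 a ha, map_one]
    have hP8 : 8 ≤ Nat.card (P : Subgroup (N ⧸ M₀)) := by
      have h1 : Nat.card e.ker ≤ Nat.card (P : Subgroup (N ⧸ M₀)) := by
        refine Nat.card_le_card_of_injective
          (fun u : e.ker => (⟨π ((u : (V : Subgroup N)) : N), ⟨_, (u : (V : Subgroup N)).2, rfl⟩⟩ :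
            (P : Subgroup (N ⧸ M₀)))) ?_
        intro a b hab
        have h2 : π ((a : (V : Subgroup N)) : N) = π ((b : (V : Subgroup N)) : N) := congrArg Subtype.val hab
        have h3 : (a : (V : Subgroup N))⁻¹ * b = 1 := by
          apply hπ1
          · rw [map_mul, map_inv, a.2, b.2, inv_one, one_mul]
          · rw [coe_mul, coe_inv, map_mul, map_inv, h2, inv_mul_cancel]
        exact Subtype.ext (inv_mul_eq_one.1 h3)
      omega
    have hCsol : ∀ a ∈ (P : Subgroup (N ⧸ M₀)), a ≠ 1 →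
        Group.IsSolvable ↥(centralizer ({a} : Set (N ⧸ M₀))) := by
      intro a ha ha1
      obtain ⟨u, hu, rfl⟩ := hPmem a ha
      have hu1 : u ≠ 1 := by rintro rfl; exact ha1 (by simp only [_root_.OneMemClass.coe_one, _root_.map_one])
      have h1 := hCu u hu hu1
      have h2 : centralizer ({π u} : Set (N ⧸ M₀)) ≤ (centralizer ({(u : N)} : Set N)).map π := by
        intro x hx
        obtain ⟨g, rfl⟩ := hπs x
        rw [mem_centralizer_singleton_iff] at hx
        obtain ⟨o, ho, h3⟩ := hlift g u u hu hu (by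
          rw [map_mul, map_mul, map_inv, hx, mul_inv_cancel_right])
        refine ⟨o * g, mem_centralizer_singleton_iff.2 (mul_inv_eq_iff_eq_mul.1 h3), ?_⟩
        have h5 : π o = 1 := (QuotientGroup.eq_one_iff o).2 ((le_sup_left : O ≤ M₀) ho)
        rw [map_mul, h5, one_mul]
      have h3 : Group.IsSolvable ↥((centralizer ({(u : N)} : Set N)).map π) :=
        Group.isSolvable_of_surjective (π.subgroupMap_surjective (centralizer ({(u : N)} : Set N)))
      exact Group.isSolvable_of_isSolvable_injective (inclusion_injective h2)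
    have hT1 := Cfsg.Agent.R15.NormalElem.sup_normalizer_eq_top P (P : Subgroup (N ⧸ M₀))
      ⟨le_rfl, fun g hg => Subgroup.eq_of_le_of_card_ge hg (by
        rw [Subgroup.card_map_of_injective (MulAut.conj g).injective])⟩ hPc hP2 hP8
      (fun x _ _ _ g hg => hg) (z := π s) (v := π k) ⟨s, s.2, rfl⟩
      (fun p hp => mem_centralizer_singleton_iff.2 (hPc _ hp _ ⟨s, s.2, rfl⟩))
      (hP2 _ ⟨s, s.2, rfl⟩) (fun h => hs1 (hπ1 s hse h)) ⟨k, k.2, rfl⟩
      (fun h => by
        rw [hπ1 k hke h, coe_one, hq1] at hkq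
        exact z01 hkq)
      (fun x hx => by
        obtain ⟨g, rfl⟩ := hπs x
        obtain ⟨o, ho, h3⟩ := hlift g s k hse hke (by
          rw [map_mul, map_mul, map_inv, hx])
        have h4 := hinv (o * g) s s.2 (by rw [h3]; exact k.2)
        rw [h3, hkq, hsq] at h4
        exact z01 h4.symm)
      hCsol (fun a ha ha1 => le_core_sup_normalizer P hPc hP2 ha (hCsol a ha ha1))
    -- solvability of the quotient
    have hX : Group.IsSolvable (N ⧸ M₀) := isSolvable_of_sup_normalizer P hPc hT1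
    have hM₀s : Group.IsSolvable ↥M₀ := by
      have h1 : (O.subgroupOf M₀).Normal := hOn.subgroupOf M₀
      have h2 : Group.IsSolvable ↥(O.subgroupOf M₀) :=
        Group.isSolvable_of_isSolvable_injective (f := (subgroupOfEquivOfLe (le_sup_left : O ≤ M₀)).toMonoidHom)
          (subgroupOfEquivOfLe (le_sup_left : O ≤ M₀)).injective
      have h3 : Group.IsSolvable (↥M₀ ⧸ O.subgroupOf M₀) := by
        apply Group.isSolvable_of_comm
        intro a b
        obtain ⟨⟨a, ha⟩, rfl⟩ := QuotientGroup.mk_surjective a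
        obtain ⟨⟨b, hb⟩, rfl⟩ := QuotientGroup.mk_surjective b
        rw [← QuotientGroup.mk_mul, ← QuotientGroup.mk_mul, QuotientGroup.eq]
        rw [mem_subgroupOf]
        change (a * b)⁻¹ * (b * a) ∈ O
        obtain ⟨o, ho, f, hf, rfl⟩ := Subgroup.mem_sup_of_normal_left.1 ha
        obtain ⟨o', ho', f', hf', rfl⟩ := Subgroup.mem_sup_of_normal_left.1 hb
        have key : ∀ x y : N, (QuotientGroup.mk x : N ⧸ O) = QuotientGroup.mk y ↔ x⁻¹ * y ∈ O :=
          fun x y => QuotientGroup.eq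
        rw [← key]
        have e1 : (QuotientGroup.mk o : N ⧸ O) = 1 := (QuotientGroup.eq_one_iff o).2 ho
        have e2 : (QuotientGroup.mk o' : N ⧸ O) = 1 := (QuotientGroup.eq_one_iff o').2 ho'
        simp only [QuotientGroup.mk_mul, e1, e2, one_mul]
        rw [← QuotientGroup.mk_mul, ← QuotientGroup.mk_mul, hVc f (hFV hf) f' (hFV hf')]
      exact (Group.isSolvable_iff_subgroup_quotient (O.subgroupOf M₀)).mpr ⟨h2, h3⟩
    exact (Group.isSolvable_iff_subgroup_quotient M₀).mpr ⟨hM₀s, hX⟩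

end Cfsg.Agent.SylowU5.FormSolvable
end
end

section
prune_inst 0xbcfefbaff8bddfffff7e7ffefddffe39d5dfffffdffb4bfffdfbffcfdf036f3be5fb8f9de458ff9ef6e2b630b87813f9ffceffef6bdc7ffffd5ff45ffbee1fe5ffbfad51deb8b41ffe6ffffbf17fce7f000000000000000000000000000041004200000000

-- part: SylowU5/CentSolvCore
section
prune_inst 0x20004000400000000000000020001c6282000000004b00000040020006c90c4100040620b02002000100082420380060010000090000000000000a0041180080000000021000a000000000008802000000000000000000000000000000000000000000000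
set_option linter.all false
open scoped Cfsg.Agent.FastGrp

/-!
# Step (5') of S0513: solvability of `C_G(z)/⟨z⟩` (helper881)

Statement of helper445: `P` Sylow 2-subgroup of `X`, `V` elementary abelian of order 64 in `P`,
weakly closed, with an invariant quadratic form, `P/V` quaternion of order 8, ... .
-/

set_option autoImplicit false
open Cfsg Subgroup

namespace Cfsg.Agent.SylowU5.CentSolvCore

universe u

/-- Statement T2 in the universe `v`. -/
def FormSolv.{v} : Prop := ∀ (N : Type v) [Group N] [Finite N] (V : Sylow 2 N)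
  (_ : ∀ a ∈ V, ∀ b ∈ V, a * b = b * a) (_ : ∀ a ∈ V, a * a = 1) (_ : Nat.card V = 64)
  (q : N → ZMod 2) (_ : q 1 = 0)
  (_ : ∀ x ∈ V, ∀ y ∈ V, ∀ w ∈ V,
    q (x * y * w) = q (x * y) + q (x * w) + q (y * w) + q x + q y + q w)
  (_ : ∀ x ∈ V, x ≠ 1 → ∃ y ∈ V, q (x * y) ≠ q x + q y)
  (_ : ∀ g : N, ∀ x ∈ V, g * x * g⁻¹ ∈ V → q (g * x * g⁻¹) = q x)
  (n : N) (_ : n ∈ V) (_ : ∀ g, g * n = n * g) (_ : q n = 1)
  (_ : ∀ u ∈ V, u ≠ 1 → q u = 0 → Group.IsSolvable ↥(Subgroup.centralizer ({u} : Set N))),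
  Group.IsSolvable N

theorem mem_normalizer_of_forall {G : Type*} [Group G] [Finite G] (V : Subgroup G) {g : G}
    (h : ∀ x ∈ V, g * x * g⁻¹ ∈ V) : g ∈ normalizer (V : Set G) := by
  rw [mem_normalizer_iff]
  let f : V → V := fun x => ⟨g * x * g⁻¹, h x x.2⟩
  have hinj : Function.Injective f := by
    intro x y hxy
    have h1 : g * (x : G) * g⁻¹ = g * (y : G) * g⁻¹ := congrArg Subtype.val hxy
    apply Subtype.ext
    have h2 := mul_right_cancel h1
    exact mul_left_cancel h2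
  have hsurj : Function.Surjective f := Finite.surjective_of_injective hinj
  intro x
  constructor
  · exact fun hx => h x hx
  · intro hx
    obtain ⟨y, hy⟩ := hsurj ⟨_, hx⟩
    have h1 : g * (y : G) * g⁻¹ = g * x * g⁻¹ := congrArg Subtype.val hy
    have h2 := mul_left_cancel (mul_right_cancel h1)
    rw [← h2]; exact y.2

/-- Frattini argument in a solvable normal subgroup with abelian Sylow `2`-subgroup. -/
theorem frattini {C : Type*} [Group C] [Finite C] (N0 : Subgroup C) [hN : N0.Normal]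
    (hs : Group.IsSolvable N0) (V : Subgroup C) (hVc : ∀ a ∈ V, ∀ b ∈ V, a * b = b * a)
    (P0 : Sylow 2 N0) (hP0 : (P0 : Subgroup N0).map N0.subtype = V) :
    normalizer (V : Set C) ⊔ pPrimeCore 2 C = ⊤ := by
  have := hs
  have hmem : ∀ a : N0, a ∈ P0 → (a : C) ∈ V := by
    intro a ha
    rw [← hP0]
    exact ⟨a, ha, rfl⟩
  have hcomm : IsMulCommutative (P0 : Subgroup N0) := by
    refine ⟨⟨fun a b => ?_⟩⟩
    apply Subtype.ext
    apply Subtype.ext
    exact hVc _ (hmem _ a.2) _ (hmem _ b.2)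
  have hW := Cfsg.Agent.S0018.result 2 P0 hcomm
  have h1 : normalizer ((P0 : Subgroup N0) : Set N0) ⊔
      ((P0 : Subgroup N0) ⊔ Cfsg.pPrimeCore 2 N0) = ⊤ :=
    Sylow.normalizer_sup_eq_top' P0 le_sup_left
  have h2 : N0 ≤ normalizer (V : Set C) ⊔ pPrimeCore 2 C := by
    have h3 : N0 = (⊤ : Subgroup N0).map N0.subtype := by
      rw [← MonoidHom.range_eq_map, Subgroup.range_subtype]
    rw [h3, ← h1, Subgroup.map_sup, Subgroup.map_sup]
    refine sup_le ?_ (sup_le ?_ ?_)
    · refine le_trans ?_ le_sup_left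
      rintro _ ⟨x, hx, rfl⟩
      apply mem_normalizer_of_forall
      intro y hy
      rw [← hP0] at hy
      obtain ⟨y', hy', rfl⟩ := hy
      have h4 := (mem_normalizer_iff.1 hx y').1 hy'
      exact hmem _ h4
    · refine le_trans ?_ le_sup_left
      rw [hP0]
      exact le_normalizer
    · refine le_trans ?_ le_sup_right
      rw [Cfsg.Agent.Lib.Cores.map_subtype_pPrimeCore 2 hN]
      exact inf_le_right
  have h5 := Sylow.normalizer_sup_eq_top P0
  rw [hP0] at h5
  rw [eq_top_iff, ← h5]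
  exact sup_le le_sup_left h2

/-- If `S` is a Sylow `2`-subgroup of `C` and `N0` a normal subgroup with `S ⊓ N0 = V`, then `V` is a
Sylow subgroup of `N0`. -/
theorem exists_sylow {C : Type*} [Group C] [Finite C] (S : Sylow 2 C) (N0 V : Subgroup C)
    [hN : N0.Normal] (hV : (S : Subgroup C) ⊓ N0 = V) :
    ∃ P0 : Sylow 2 N0, (P0 : Subgroup N0).map N0.subtype = V := by
  obtain ⟨P0, hP0⟩ := (S.2.comap_subtype (K := N0)).exists_le_sylow
  refine ⟨P0, ?_⟩
  -- `P0` is conjugate in `C` into `S`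
  have hP0m : IsPGroup 2 ((P0 : Subgroup N0).map N0.subtype) := P0.2.map _
  obtain ⟨T, hT⟩ := hP0m.exists_le_sylow
  obtain ⟨g, hg⟩ := MulAction.exists_smul_eq C T S
  apply le_antisymm
  · -- cardinality
    have h1 : V ≤ (P0 : Subgroup N0).map N0.subtype := by
      rw [← hV]
      rintro x ⟨hx1, hx2⟩
      exact ⟨⟨x, hx2⟩, hP0 hx1, rfl⟩
    have h2 : Nat.card ((P0 : Subgroup N0).map N0.subtype) ≤ Nat.card V := by
      have h3 : ((P0 : Subgroup N0).map N0.subtype).map (MulAut.conj g).toMonoidHom ≤ V := by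
        rintro _ ⟨x, hx, rfl⟩
        rw [← hV]
        constructor
        · rw [← hg]
          exact ⟨x, hT hx, rfl⟩
        · obtain ⟨y, _, rfl⟩ := hx
          exact hN.conj_mem _ y.2 g
      have h4 := Subgroup.card_le_of_le h3
      rwa [Subgroup.card_map_of_injective (MulAut.conj g).injective] at h4
    exact (Subgroup.eq_of_le_of_card_ge h1 h2).ge
  · rw [← hV]
    rintro x ⟨hx1, hx2⟩
    exact ⟨⟨x, hx2⟩, hP0 hx1, rfl⟩

/-- The centralizer in a subgroup of an element whose centralizer is solvable is solvable. -/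
theorem solvable_centralizer {C : Type*} [Group C] (N0 : Subgroup C) (u : N0)
    (h : Group.IsSolvable ↥(centralizer ({(u : C)} : Set C))) :
    Group.IsSolvable ↥(centralizer ({u} : Set N0)) := by
  have hmem : ∀ x : centralizer ({u} : Set N0),
      (N0.subtype.comp (centralizer ({u} : Set N0)).subtype) x ∈ centralizer ({(u : C)} : Set C) := by
    intro x
    have h1 := mem_centralizer_singleton_iff.1 x.2
    exact mem_centralizer_singleton_iff.2 (congrArg Subtype.val h1)
  let f : centralizer ({u} : Set N0) →* centralizer ({(u : C)} : Set C) :=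
    (N0.subtype.comp (centralizer ({u} : Set N0)).subtype).codRestrict _ hmem
  have hf : Function.Injective f := by
    intro x y hxy
    have h1 : ((f x : centralizer ({(u : C)} : Set C)) : C) = f y := by rw [hxy]
    exact Subtype.ext (Subtype.ext h1)
  exact Group.isSolvable_of_isSolvable_injective hf

/-- The case of a nonsingular central element. -/
theorem core_case (hT2 : FormSolv.{u}) {C : Type u} [Group C] [Finite C] (S : Sylow 2 C)
    (V : Subgroup C) (hVS : V ≤ S) (hVcard : Nat.card V = 64)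
    (hVc : ∀ a ∈ V, ∀ b ∈ V, a * b = b * a) (hV2 : ∀ a ∈ V, a * a = 1)
    (q : C → ZMod 2) (hq1 : q 1 = 0)
    (hquad : ∀ x ∈ V, ∀ y ∈ V, ∀ w ∈ V,
      q (x * y * w) = q (x * y) + q (x * w) + q (y * w) + q x + q y + q w)
    (hnd : ∀ x ∈ V, x ≠ 1 → ∃ y ∈ V, q (x * y) ≠ q x + q y)
    (hgen : V ≤ Subgroup.closure {u | u ∈ V ∧ q u = 0})
    (hinv : ∀ g : C, ∀ x ∈ V, g * x * g⁻¹ ∈ V → q (g * x * g⁻¹) = q x)
    (hsing : ∀ g : C, ∀ x ∈ V, q x = 0 → g * x * g⁻¹ ∈ S → g * x * g⁻¹ ∈ V)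
    (n : C) (hn : n ∈ V) (hnc : ∀ g, g * n = n * g) (hqn : q n = 1)
    (hsolv : ∀ u ∈ V, u ≠ 1 → q u = 0 → Group.IsSolvable ↥(centralizer ({u} : Set C)))
    (hS : (∀ s ∈ S, s ∈ V) ∨
      ∃ e ∈ S, e * e = 1 ∧ (∀ g : C, g * e * g⁻¹ ∉ V) ∧ ∀ s ∈ S, s ∈ V ∨ s * e ∈ V) :
    Group.IsSolvable C ∧ normalizer (V : Set C) ⊔ pPrimeCore 2 C = ⊤ := by
  classical
  obtain ⟨f, hf⟩ : ∃ f : C →* ℤˣ, (S : Subgroup C) ⊓ f.ker = V := by
    rcases hS with hS | ⟨e, heS, hee, heV, hse⟩
    · refine ⟨1, le_antisymm ?_ ?_⟩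
      · rintro x ⟨hx, _⟩
        exact hS x hx
      · intro x hx
        exact ⟨hVS hx, by simp⟩
    · have heV1 : e ∉ V := by
        intro h
        exact heV 1 (by simpa using h)
      set M : Subgroup (S : Subgroup C) := V.subgroupOf (S : Subgroup C) with hMdef
      have hM : M.index = 2 := by
        rw [Subgroup.index_eq_two_iff]
        refine ⟨⟨e, heS⟩, fun b => ?_⟩
        rcases hse b b.2 with h | h
        · right
          refine ⟨h, fun h' => heV1 ?_⟩
          have h1 : (b : C) * e ∈ V := h'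
          have h2 := V.mul_mem (V.inv_mem h) h1
          rwa [inv_mul_cancel_left] at h2
        · left
          refine ⟨h, fun h' => heV1 ?_⟩
          have h1 : (b : C) ∈ V := h'
          have h2 := V.mul_mem (V.inv_mem h1) h
          rwa [inv_mul_cancel_left] at h2
      have hodd : Odd (S : Subgroup C).index := by
        rw [← Nat.not_even_iff_odd, even_iff_two_dvd]
        exact S.not_dvd_index
      let φ := TwoFusion.IndexTwo.signHom M hM
      have hφ1 : ∀ x : (S : Subgroup C), (x : C) ∈ V → φ x = 1 := fun x hx =>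
        TwoFusion.IndexTwo.signHom_of_mem hM (g := x) hx
      have hφ2 : ∀ x : (S : Subgroup C), (x : C) ∉ V → φ x = -1 := fun x hx =>
        TwoFusion.IndexTwo.signHom_of_not_mem hM (g := x) hx
      have hsub : V ≤ (MonoidHom.transfer φ).ker := by
        refine hgen.trans ((Subgroup.closure_le _).2 ?_)
        rintro u ⟨hu, hqu⟩
        show MonoidHom.transfer φ u = 1
        refine SmallSimple.TransferInvol.transfer_eq_of_odd_index _ φ u
          (by rw [pow_two]; exact hV2 u hu) hodd 1 (by simp) ?_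
        intro x hx
        obtain ⟨g, hg⟩ := isConj_iff.1 hx
        apply hφ1
        rw [← hg]
        exact hsing g u hu hqu (by rw [hg]; exact x.2)
      have he : MonoidHom.transfer φ e = -1 := by
        refine SmallSimple.TransferInvol.transfer_eq_of_odd_index _ φ e
          (by rw [pow_two]; exact hee) hodd (-1) (by simp) ?_
        intro x hx
        obtain ⟨g, hg⟩ := isConj_iff.1 hx
        apply hφ2
        rw [← hg]
        exact heV g
      refine ⟨MonoidHom.transfer φ, le_antisymm ?_ (le_inf hVS hsub)⟩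
      rintro x ⟨hxS, hxk⟩
      rcases hse x hxS with h | h
      · exact h
      · exfalso
        have h1 : MonoidHom.transfer φ (x * e) = 1 := hsub h
        rw [map_mul, he] at h1
        have h2 : MonoidHom.transfer φ x = 1 := hxk
        rw [h2] at h1
        exact absurd h1 (by decide)
  obtain ⟨P0, hP0⟩ := exists_sylow S f.ker V hf
  have hmem : ∀ a : f.ker, a ∈ P0 → (a : C) ∈ V := by
    intro a ha
    rw [← hP0]
    exact ⟨a, ha, rfl⟩
  have hmem' : ∀ a ∈ V, ∃ b : f.ker, b ∈ P0 ∧ (b : C) = a := by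
    intro a ha
    rw [← hP0] at ha
    obtain ⟨b, hb, hab⟩ := ha
    exact ⟨b, hb, hab⟩
  obtain ⟨n', hn', hnn⟩ := hmem' n hn
  have hs : Group.IsSolvable f.ker := by
    refine hT2 f.ker P0 ?_ ?_ ?_ (fun x => q x) ?_ ?_ ?_ ?_ n' hn' ?_ ?_ ?_
    · intro a ha b hb
      exact Subtype.ext (hVc _ (hmem a ha) _ (hmem b hb))
    · intro a ha
      exact Subtype.ext (hV2 _ (hmem a ha))
    · rw [← hVcard, ← hP0]
      exact (Subgroup.card_map_of_injective (Subgroup.subtype_injective _)).symm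
    · exact hq1
    · intro x hx y hy w hw
      exact hquad _ (hmem x hx) _ (hmem y hy) _ (hmem w hw)
    · intro x hx hx1
      obtain ⟨y, hy, hxy⟩ := hnd _ (hmem x hx) (fun h => hx1 (Subtype.ext h))
      obtain ⟨y', hy', rfl⟩ := hmem' y hy
      exact ⟨y', hy', hxy⟩
    · intro g x hx hgx
      exact hinv _ _ (hmem x hx) (hmem _ hgx)
    · intro g
      apply Subtype.ext
      show (g : C) * (n' : C) = (n' : C) * (g : C)
      rw [hnn]; exact hnc _
    · show q (n' : C) = 1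
      rw [hnn]; exact hqn
    · intro u hu hu1 hqu
      exact solvable_centralizer f.ker u (hsolv _ (hmem u hu) (fun h => hu1 (Subtype.ext h)) hqu)
  refine ⟨?_, frattini f.ker hs V hVc P0 hP0⟩
  exact Group.isSolvable_of_ker_le_range f.ker.subtype f (by simp)

/-- Nonsingular vectors: the centralizer is solvable, and contained in `O(C(n)) N(V)`. -/
theorem nonsingular (hT2 : FormSolv.{u}) {X : Type u} [Group X] [Finite X] (P : Sylow 2 X)
    (V : Subgroup X) (hVcard : Nat.card V = 64)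
    (hVc : ∀ a ∈ V, ∀ b ∈ V, a * b = b * a) (hV2 : ∀ a ∈ V, a * a = 1)
    (hW : IsWeaklyClosed V (P : Subgroup X)) (q : X → ZMod 2) (hq1 : q 1 = 0)
    (hquad : ∀ x ∈ V, ∀ y ∈ V, ∀ w ∈ V,
      q (x * y * w) = q (x * y) + q (x * w) + q (y * w) + q x + q y + q w)
    (hnd : ∀ x ∈ V, x ≠ 1 → ∃ y ∈ V, q (x * y) ≠ q x + q y)
    (hgen : V ≤ Subgroup.closure {u | u ∈ V ∧ q u = 0})
    (hinv : ∀ g : X, ∀ x ∈ V, g * x * g⁻¹ ∈ V → q (g * x * g⁻¹) = q x)
    (hsing : ∀ g : X, ∀ x ∈ V, q x = 0 → g * x * g⁻¹ ∈ P → g * x * g⁻¹ ∈ V)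
    (e : X) (hee : e * e = 1) (heV : ∀ g : X, g * e * g⁻¹ ∉ V)
    (hcn : ∀ n ∈ V, q n = 1 → ∀ s ∈ P, s * n = n * s → s ∈ V ∨ s * e ∈ V)
    (hsolv : ∀ u ∈ V, u ≠ 1 → q u = 0 → Group.IsSolvable ↥(Subgroup.centralizer ({u} : Set X)))
    (n : X) (hn : n ∈ V) (hqn : q n = 1) :
    Group.IsSolvable ↥(Subgroup.centralizer ({n} : Set X)) ∧
      Subgroup.centralizer {n} ≤ centralizerPPrimeCore 2 n ⊔ Subgroup.normalizer (V : Set X) := by
  classical
  set C : Subgroup X := centralizer ({n} : Set X) with hC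
  have hVC : V ≤ C := fun a ha => mem_centralizer_singleton_iff.2 (hVc a ha n hn)
  set VC : Subgroup C := V.subgroupOf C with hVCdef
  have hV2g : IsPGroup 2 V := by
    intro x
    refine ⟨1, ?_⟩
    rw [pow_one, pow_two]
    exact Subtype.ext (hV2 x x.2)
  have hVCp : IsPGroup 2 VC := hV2g.comap_of_injective C.subtype C.subtype_injective
  obtain ⟨R, hR⟩ := hVCp.exists_le_sylow
  have hRp : IsPGroup 2 ((R : Subgroup C).map C.subtype) := R.2.map _
  obtain ⟨T, hT⟩ := hRp.exists_le_sylow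
  obtain ⟨g, hg⟩ := MulAction.exists_smul_eq X T P
  have hgR : ∀ s : C, s ∈ R → g * (s : X) * g⁻¹ ∈ P := by
    intro s hs
    rw [← hg]
    exact ⟨s, hT ⟨s, hs, rfl⟩, rfl⟩
  have hVR : ∀ x (hx : x ∈ V), (⟨x, hVC hx⟩ : C) ∈ R := fun x hx => hR hx
  have hgV : ∀ x ∈ V, g * x * g⁻¹ ∈ V := by
    have h1 : V.map (MulAut.conj g).toMonoidHom = V := by
      apply hW.2
      rintro _ ⟨x, hx, rfl⟩
      exact hgR _ (hVR x hx)
    intro x hx
    have h2 : g * x * g⁻¹ ∈ V.map (MulAut.conj g).toMonoidHom := ⟨x, hx, rfl⟩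
    rwa [h1] at h2
  have hgN : g ∈ normalizer (V : Set X) := mem_normalizer_of_forall V hgV
  have hgV' : ∀ x, g * x * g⁻¹ ∈ V → x ∈ V := fun x hx => ((mem_normalizer_iff.1 hgN) x).2 hx
  have hmain := core_case hT2 R VC hR ?_ ?_ ?_ (fun x => q x) hq1 ?_ ?_ ?_ ?_ ?_
    ⟨n, hVC hn⟩ hn ?_ hqn ?_ ?_
  · refine ⟨hmain.1, ?_⟩
    have h1 : C = (⊤ : Subgroup C).map C.subtype := by
      rw [← MonoidHom.range_eq_map, Subgroup.range_subtype]
    rw [h1, ← hmain.2, Subgroup.map_sup, sup_comm]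
    refine sup_le_sup le_rfl ?_
    rintro _ ⟨x, hx, rfl⟩
    apply mem_normalizer_of_forall
    intro y hy
    exact (mem_normalizer_iff.1 hx ⟨y, hVC hy⟩).1 hy
  · rw [← hVcard]
    exact Nat.card_congr (Subgroup.subgroupOfEquivOfLe hVC).toEquiv
  · intro a ha b hb
    exact Subtype.ext (hVc _ ha _ hb)
  · intro a ha
    exact Subtype.ext (hV2 _ ha)
  · intro x hx y hy w hw
    exact hquad _ hx _ hy _ hw
  · intro x hx hx1
    obtain ⟨y, hy, hxy⟩ := hnd _ hx (fun h => hx1 (Subtype.ext h))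
    exact ⟨⟨y, hVC hy⟩, hy, hxy⟩
  · intro x hx
    have h1 : (x : X) ∈ (Subgroup.closure {u : C | u ∈ VC ∧ q u = 0}).map C.subtype := by
      rw [MonoidHom.map_closure]
      refine Subgroup.closure_mono ?_ (hgen hx)
      rintro u ⟨hu, hqu⟩
      exact ⟨⟨u, hVC hu⟩, ⟨hu, hqu⟩, rfl⟩
    obtain ⟨y, hy, hyx⟩ := h1
    have h2 : y = x := Subtype.ext hyx
    rw [← h2]; exact hy
  · intro a x hx hax
    exact hinv _ _ hx hax
  · intro a x hx hqx hax
    apply hgV'
    have h1 := hgR _ hax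
    have e1 : g * ((a * x * a⁻¹ : C) : X) * g⁻¹ = (g * a) * x * (g * a)⁻¹ := by
      push_cast; group
    show g * ((a * x * a⁻¹ : C) : X) * g⁻¹ ∈ V
    rw [e1] at h1 ⊢
    exact hsing _ _ hx hqx h1
  · intro a
    exact Subtype.ext (mem_centralizer_singleton_iff.1 a.2)
  · intro u hu hu1 hqu
    exact solvable_centralizer C u (hsolv _ hu (fun h => hu1 (Subtype.ext h)) hqu)
  · by_cases hall : ∀ s ∈ R, s ∈ VC
    · exact Or.inl hall
    · right
      push Not at hall
      obtain ⟨s, hs, hsV⟩ := hall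
      have hcn' : ∀ s : C, s ∈ R → (s : X) ∈ V ∨ (s : X) * (g⁻¹ * e * g) ∈ V := by
        intro s hs
        have hsn : (s : X) * n = n * s := mem_centralizer_singleton_iff.1 s.2
        rcases hcn (g * n * g⁻¹) (hgV n hn) (by rw [hinv g n hn (hgV n hn)]; exact hqn)
          (g * s * g⁻¹) (hgR s hs) (by
            calc g * (s : X) * g⁻¹ * (g * n * g⁻¹) = g * (s * n) * g⁻¹ := by group
              _ = g * (n * s) * g⁻¹ := by rw [hsn]
              _ = g * n * g⁻¹ * (g * (s : X) * g⁻¹) := by group) with h | h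
        · exact Or.inl (hgV' _ h)
        · right
          apply hgV'
          have e1 : g * ((s : X) * (g⁻¹ * e * g)) * g⁻¹ = g * s * g⁻¹ * e := by group
          rw [e1]; exact h
      have h1 : (s : X) * (g⁻¹ * e * g) ∈ V := (hcn' s hs).resolve_left hsV
      have he'C : g⁻¹ * e * g ∈ C := by
        have h2 := C.mul_mem (C.inv_mem s.2) (hVC h1)
        rwa [inv_mul_cancel_left] at h2
      have he'R : (⟨g⁻¹ * e * g, he'C⟩ : C) ∈ R := by
        have h2 := (R : Subgroup C).mul_mem ((R : Subgroup C).inv_mem hs) (hVR _ h1)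
        have e2 : (⟨g⁻¹ * e * g, he'C⟩ : C) =
            s⁻¹ * ⟨(s : X) * (g⁻¹ * e * g), hVC h1⟩ := by
          apply Subtype.ext
          show g⁻¹ * e * g = (s : X)⁻¹ * ((s : X) * (g⁻¹ * e * g))
          group
        rw [e2]; exact h2
      refine ⟨⟨g⁻¹ * e * g, he'C⟩, he'R, ?_, ?_, ?_⟩
      · apply Subtype.ext
        show g⁻¹ * e * g * (g⁻¹ * e * g) = 1
        calc g⁻¹ * e * g * (g⁻¹ * e * g) = g⁻¹ * (e * e) * g := by group
          _ = 1 := by rw [hee]; group
      · intro c hc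
        have h2 : (c : X) * (g⁻¹ * e * g) * (c : X)⁻¹ ∈ V := hc
        have e1 : (c : X) * (g⁻¹ * e * g) * (c : X)⁻¹ = (c * g⁻¹) * e * (c * g⁻¹)⁻¹ := by group
        rw [e1] at h2
        exact heV _ h2
      · intro s hs
        exact hcn' s hs

/-- Extension of a solvable group by a solvable group (kernel version, range in a solvable
group). -/
theorem solvable_of_map {A B : Type*} [Group A] [Group B] (f : A →* B)
    (hk : Group.IsSolvable f.ker) (hr : Group.IsSolvable B) : Group.IsSolvable A :=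
  Group.isSolvable_of_ker_le_range f.ker.subtype f (by simp)

/-- The automizer of `V`. -/
theorem solvable_automizer
    (hFT : ∀ (K : Type u) [Group K] [Finite K], Odd (Nat.card K) → Group.IsSolvable K)
    (hZ : ∀ (K : Type u) [Group K] [Finite K] (P : Sylow 2 K) (u : K), orderOf u = 2 → u ∈ P →
      (∀ g : K, g * u * g⁻¹ ∈ P → g * u * g⁻¹ = u) →
      ∃ N : Subgroup K, N.Normal ∧ Odd (Nat.card N) ∧ ∀ g : K, (u * g * u⁻¹ * g⁻¹) ∈ N)
    {A : Type u} [Group A] [Finite A] (P : Sylow 2 A) (e : A) (heP : e ∈ P) (he1 : e ≠ 1)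
    (hee : e * e = 1) (huniq : ∀ x ∈ P, x * x = 1 → x ≠ 1 → x = e)
    (hC : Group.IsSolvable ↥(centralizer ({e} : Set A))) : Group.IsSolvable A := by
  have heo : orderOf e = 2 := orderOf_eq_prime (by rw [pow_two]; exact hee) he1
  obtain ⟨N, hN, hNo, hNe⟩ := hZ A P e heo heP (by
    intro g hg
    apply huniq _ hg
    · calc g * e * g⁻¹ * (g * e * g⁻¹) = g * (e * e) * g⁻¹ := by group
        _ = 1 := by rw [hee]; group
    · intro h
      apply he1
      have h1 : e = g⁻¹ * (g * e * g⁻¹) * g := by group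
      rw [h1, h]; group)
  have hNle : N ≤ oddCore A :=
    Lib.Cores.le_pPrimeCore hN (by rw [Nat.coprime_two_right]; exact hNo)
  set Z : Subgroup A := zpowers e with hZdef
  have hZp : IsPGroup 2 Z := by
    rw [IsPGroup.iff_card]
    exact ⟨1, by rw [Nat.card_zpowers, heo, pow_one]⟩
  have hZm : ∀ x ∈ Z, x = 1 ∨ x = e := by
    intro x hx
    rw [hZdef, ← Subgroup.mem_carrier] at hx
    obtain ⟨k, hk⟩ := Subgroup.mem_zpowers_iff.1 hx
    have h2 : e ^ k = e ^ (k % 2) := by
      conv_lhs => rw [← Int.emod_add_mul_ediv k 2]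
      rw [zpow_add, zpow_mul]
      have : e ^ (2 : ℤ) = 1 := by
        rw [show (2 : ℤ) = ((2 : ℕ) : ℤ) from rfl, zpow_natCast, pow_two]; exact hee
      rw [this, one_zpow, mul_one]
    rcases Int.emod_two_eq_zero_or_one k with h | h
    · left; rw [← hk, h2, h, zpow_zero]
    · right; rw [← hk, h2, h, zpow_one]
  have hdec := fun h : A => TwoFusion.IsolatedCenter.exists_eq_mul Z hZp (by
    intro x hx g
    rcases hZm x hx with rfl | rfl
    · simp [(oddCore A).one_mem]
    · exact hNle (hNe g)) h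
  have hOn : (oddCore A).Normal := Lib.Cores.pPrimeCore_normal 2
  have hOs : Group.IsSolvable (oddCore A) := hFT _ (by
    have h := Lib.Cores.pPrimeCore_coprime (G := A) 2
    rwa [Nat.coprime_two_right] at h)
  have hQs : Group.IsSolvable (A ⧸ oddCore A) := by
    have := hC
    let φ : centralizer ({e} : Set A) →* A ⧸ oddCore A :=
      (QuotientGroup.mk' (oddCore A)).comp (centralizer ({e} : Set A)).subtype
    refine Group.isSolvable_of_surjective (f := φ) ?_
    intro x
    obtain ⟨a, rfl⟩ := QuotientGroup.mk'_surjective (oddCore A) x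
    obtain ⟨o, ho, c, hc, hoc⟩ := hdec a
    have hce : c ∈ centralizer ({e} : Set A) := by
      rw [mem_centralizer_singleton_iff]
      exact (mem_centralizer_iff.1 hc e (mem_zpowers e)).symm
    refine ⟨⟨c, hce⟩, ?_⟩
    show QuotientGroup.mk' (oddCore A) c = QuotientGroup.mk' (oddCore A) a
    rw [hoc, map_mul]
    have : QuotientGroup.mk' (oddCore A) o = 1 := (QuotientGroup.eq_one_iff o).2 ho
    rw [this, one_mul]
  exact (Group.isSolvable_iff_subgroup_quotient (H := oddCore A)).2 ⟨hOs, hQs⟩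

/-- The automorphism group of a group of order four is solvable. -/
theorem solvable_mulAut_four {L : Type*} [Group L] (hL : Nat.card L = 4) :
    Group.IsSolvable (MulAut L) := by
  have hfin : Finite L := Nat.finite_of_card_ne_zero (by rw [hL]; norm_num)
  have h1 : Group.IsSolvable (Equiv.Perm L) := by
    refine Cfsg.Agent.S0061.result 2 3 3 Nat.prime_two Nat.prime_three ?_
    rw [Nat.card_perm, hL]
    decide
  have hinj : Function.Injective (MulAut.toPerm L) := by
    intro a b hab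
    ext x
    exact congrArg (fun f : Equiv.Perm L => f x) hab
  exact Group.isSolvable_of_isSolvable_injective hinj

/-- `N(L)` is solvable if `|L| = 4` and the centralizer of some `u ∈ L` is. -/
theorem solvable_normalizer_four {X : Type*} [Group X] (L : Subgroup X) (hL : Nat.card L = 4)
    {u : X} (hu : u ∈ L) (hs : Group.IsSolvable ↥(centralizer ({u} : Set X))) :
    Group.IsSolvable ↥(normalizer (L : Set X)) := by
  refine solvable_of_map L.normalizerMonoidHom ?_ (solvable_mulAut_four hL)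
  have hmem : ∀ x : L.normalizerMonoidHom.ker, ((normalizer (L : Set X)).subtype.comp
      L.normalizerMonoidHom.ker.subtype) x ∈ centralizer ({u} : Set X) := by
    intro x
    have h0 : ∀ y ∈ L.normalizerMonoidHom.ker, (y : X) ∈ centralizer (L : Set X) := by
      rw [normalizerMonoidHom_ker]
      exact fun y hy => hy
    have h1 := mem_centralizer_iff.1 (h0 x.1 x.2) u hu
    rw [mem_centralizer_singleton_iff]
    exact h1.symm
  let f : L.normalizerMonoidHom.ker →* centralizer ({u} : Set X) :=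
    ((normalizer (L : Set X)).subtype.comp L.normalizerMonoidHom.ker.subtype).codRestrict _ hmem
  have hf : Function.Injective f := by
    intro x y hxy
    have h1 : ((f x : centralizer ({u} : Set X)) : X) = f y := by rw [hxy]
    exact Subtype.ext (Subtype.ext h1)
  exact Group.isSolvable_of_isSolvable_injective hf

/-- `N(V)` is solvable. -/
theorem solvable_normalizer
    (hFT : ∀ (K : Type u) [Group K] [Finite K], Odd (Nat.card K) → Group.IsSolvable K)
    (hZ : ∀ (K : Type u) [Group K] [Finite K] (P : Sylow 2 K) (u : K), orderOf u = 2 → u ∈ P →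
      (∀ g : K, g * u * g⁻¹ ∈ P → g * u * g⁻¹ = u) →
      ∃ N : Subgroup K, N.Normal ∧ Odd (Nat.card N) ∧ ∀ g : K, (u * g * u⁻¹ * g⁻¹) ∈ N)
    {X : Type u} [Group X] [Finite X] (P : Sylow 2 X) (V L : Subgroup X)
    (hVc : ∀ a ∈ V, ∀ b ∈ V, a * b = b * a) (hPN : (P : Subgroup X) ≤ normalizer (V : Set X))
    (e : X) (heP : e ∈ P) (hee : e * e = 1)
    (hmod : ∀ g ∈ P, g ∉ V → g * e ∈ V ∨ g * g * e ∈ V)
    {z : X} (hz : z ∈ V) (hzs : Group.IsSolvable ↥(centralizer ({z} : Set X)))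
    (hLcard : Nat.card L = 4)
    (hLs : ∀ u ∈ L, u ≠ 1 → Group.IsSolvable ↥(centralizer ({u} : Set X)))
    (hL : ∀ l, l ∈ L ↔ ∃ v ∈ V, l = v * e * v⁻¹ * e⁻¹) :
    Group.IsSolvable ↥(normalizer (V : Set X)) := by
  classical
  set K : Subgroup X := normalizer (V : Set X) with hK
  let f : K →* MulAut V := V.normalizerMonoidHom
  have hfa : ∀ (k : K) (v : V), ((f k v : V) : X) = k * v * (k : X)⁻¹ := fun k v => rfl
  have hker : ∀ k : K, f k = 1 ↔ ∀ v ∈ V, (k : X) * v = v * k := by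
    intro k
    constructor
    · intro h v hv
      have h1 := hfa k ⟨v, hv⟩
      rw [h] at h1
      have h2 : v = k * v * (k : X)⁻¹ := h1
      rw [eq_mul_inv_iff_mul_eq] at h2
      exact h2.symm
    · intro h
      ext v
      rw [hfa, h v v.2]
      show (v : X) * k * (k : X)⁻¹ = v
      group
  have hVtriv : ∀ k : K, (k : X) ∈ V → f k = 1 := fun k hk =>
    (hker k).2 fun v hv => hVc _ hk _ hv
  refine solvable_of_map f.rangeRestrict ?_ ?_
  · -- the kernel
    rw [MonoidHom.ker_rangeRestrict]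
    have hmem : ∀ x : f.ker, (K.subtype.comp f.ker.subtype) x ∈ centralizer ({z} : Set X) := by
      intro x
      rw [mem_centralizer_singleton_iff]
      exact (hker x.1).1 x.2 z hz
    let g : f.ker →* centralizer ({z} : Set X) :=
      (K.subtype.comp f.ker.subtype).codRestrict _ hmem
    have hg : Function.Injective g := by
      intro x y hxy
      have h1 : ((g x : centralizer ({z} : Set X)) : X) = g y := by rw [hxy]
      exact Subtype.ext (Subtype.ext h1)
    exact Group.isSolvable_of_isSolvable_injective hg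
  · let PK : Sylow 2 K := P.subtype hPN
    let PA : Sylow 2 f.range := PK.mapSurjective f.rangeRestrict_surjective
    have heK : e ∈ K := hPN heP
    have hfe1 : f ⟨e, heK⟩ ≠ 1 := by
      intro h
      rw [hker] at h
      have h1 : L = ⊥ := by
        rw [eq_bot_iff]
        intro l hl
        obtain ⟨v, hv, rfl⟩ := (hL l).1 hl
        rw [mem_bot]
        have h2 : e * v = v * e := h v hv
        rw [← h2]; group
      rw [h1, card_bot] at hLcard
      norm_num at hLcard
    have hfee : f ⟨e, heK⟩ * f ⟨e, heK⟩ = 1 := by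
      rw [← map_mul]
      have : (⟨e, heK⟩ : K) * ⟨e, heK⟩ = 1 := Subtype.ext hee
      rw [this, map_one]
    refine solvable_automizer hFT hZ PA (f.rangeRestrict ⟨e, heK⟩) ⟨⟨e, heK⟩, heP, rfl⟩ ?_ ?_ ?_ ?_
    · intro h
      exact hfe1 (congrArg Subtype.val h)
    · exact Subtype.ext hfee
    · rintro _ ⟨p, hp, rfl⟩ hxx hx1
      have hpp : f p * f p = 1 := congrArg Subtype.val hxx
      have hp1 : f p ≠ 1 := fun h => hx1 (Subtype.ext h)
      have hpV : (p : X) ∉ V := fun h => hp1 (hVtriv p h)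
      have hpP : (p : X) ∈ P := hp
      apply Subtype.ext
      show f p = f ⟨e, heK⟩
      rcases hmod p hpP hpV with h | h
      · have h1 : f (p * ⟨e, heK⟩) = 1 := hVtriv _ h
        rw [map_mul] at h1
        rw [eq_inv_of_mul_eq_one_left h1, inv_eq_of_mul_eq_one_left hfee]
      · exfalso
        have h1 : f (p * p * ⟨e, heK⟩) = 1 := hVtriv _ h
        rw [map_mul, map_mul, hpp, one_mul] at h1
        exact hfe1 h1
    · -- the centralizer
      set B : Subgroup K := (centralizer ({f.rangeRestrict ⟨e, heK⟩} : Set f.range)).comap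
        f.rangeRestrict with hB
      have hBe : ∀ k : K, k ∈ B → ∀ v ∈ V, (k * e * (k : X)⁻¹) * v * (k * e * (k : X)⁻¹)⁻¹ =
          e * v * e⁻¹ := by
        intro k hk v hv
        have h1 : f k * f ⟨e, heK⟩ = f ⟨e, heK⟩ * f k :=
          congrArg Subtype.val (mem_centralizer_singleton_iff.1 (mem_comap.1 hk))
        have h2 : f (k * ⟨e, heK⟩ * k⁻¹) = f ⟨e, heK⟩ := by
          rw [map_mul, map_mul, h1, map_inv, mul_inv_cancel_right]
        have h3 := hfa (k * ⟨e, heK⟩ * k⁻¹) ⟨v, hv⟩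
        rw [h2, hfa] at h3
        exact h3.symm
      have hBL : ∀ k : K, k ∈ B → ∀ l ∈ L, (k : X) * l * (k : X)⁻¹ ∈ L := by
        intro k hk l hl
        obtain ⟨v, hv, rfl⟩ := (hL l).1 hl
        rw [hL]
        have hkv : (k : X) * v * (k : X)⁻¹ ∈ V := (mem_normalizer_iff.1 k.2 v).1 hv
        refine ⟨(k : X) * v * (k : X)⁻¹, hkv, ?_⟩
        have h1 := hBe k hk _ (V.inv_mem hkv)
        calc (k : X) * (v * e * v⁻¹ * e⁻¹) * (k : X)⁻¹
            = ((k : X) * v * (k : X)⁻¹) * ((k * e * (k : X)⁻¹) * ((k : X) * v * (k : X)⁻¹)⁻¹ *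
              (k * e * (k : X)⁻¹)⁻¹) := by group
          _ = ((k : X) * v * (k : X)⁻¹) * (e * ((k : X) * v * (k : X)⁻¹)⁻¹ * e⁻¹) := by rw [h1]
          _ = _ := by group
      obtain ⟨u, hu, hu1⟩ : ∃ u ∈ L, u ≠ 1 := by
        by_contra hcon
        push Not at hcon
        have h1 : L = ⊥ := by
          rw [eq_bot_iff]
          intro l hl
          rw [mem_bot]; exact hcon l hl
        rw [h1, card_bot] at hLcard
        norm_num at hLcard
      have hNL := solvable_normalizer_four L hLcard hu (hLs u hu hu1)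
      have hBs : Group.IsSolvable B := by
        have hmem : ∀ x : B, (K.subtype.comp B.subtype) x ∈ normalizer (L : Set X) := by
          intro x
          exact mem_normalizer_of_forall L (hBL x.1 x.2)
        let g : B →* normalizer (L : Set X) := (K.subtype.comp B.subtype).codRestrict _ hmem
        have hg : Function.Injective g := by
          intro x y hxy
          have h1 : ((g x : normalizer (L : Set X)) : X) = g y := by rw [hxy]
          exact Subtype.ext (Subtype.ext h1)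
        exact Group.isSolvable_of_isSolvable_injective hg
      have hmem : ∀ x : B, (f.rangeRestrict.comp B.subtype) x ∈
          centralizer ({f.rangeRestrict ⟨e, heK⟩} : Set f.range) := fun x => x.2
      let g : B →* centralizer ({f.rangeRestrict ⟨e, heK⟩} : Set f.range) :=
        (f.rangeRestrict.comp B.subtype).codRestrict _ hmem
      refine Group.isSolvable_of_surjective (f := g) ?_
      rintro ⟨x, hx⟩
      obtain ⟨k, rfl⟩ := f.rangeRestrict_surjective x
      exact ⟨⟨k, hx⟩, rfl⟩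

/-- **Step (5')**, with the Odd Order theorem, the Z*-theorem and T2 as hypotheses. -/
theorem isSolvable_of
    (hFT : ∀ (K : Type u) [Group K] [Finite K], Odd (Nat.card K) → Group.IsSolvable K)
    (hZ : ∀ (K : Type u) [Group K] [Finite K] (P : Sylow 2 K) (u : K), orderOf u = 2 → u ∈ P →
      (∀ g : K, g * u * g⁻¹ ∈ P → g * u * g⁻¹ = u) →
      ∃ N : Subgroup K, N.Normal ∧ Odd (Nat.card N) ∧ ∀ g : K, (u * g * u⁻¹ * g⁻¹) ∈ N)
    (hT2 : FormSolv.{u})
    {X : Type u} [Group X] [Finite X] (P : Sylow 2 X) (V L : Subgroup X)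
    (hVP : V ≤ P) (hVcard : Nat.card V = 64)
    (hVc : ∀ a ∈ V, ∀ b ∈ V, a * b = b * a) (hV2 : ∀ a ∈ V, a * a = 1)
    (hW : IsWeaklyClosed V (P : Subgroup X)) (q : X → ZMod 2) (hq1 : q 1 = 0)
    (hquad : ∀ x ∈ V, ∀ y ∈ V, ∀ w ∈ V,
      q (x * y * w) = q (x * y) + q (x * w) + q (y * w) + q x + q y + q w)
    (hnd : ∀ x ∈ V, x ≠ 1 → ∃ y ∈ V, q (x * y) ≠ q x + q y)
    (hgen : V ≤ Subgroup.closure {u | u ∈ V ∧ q u = 0})
    (hinv : ∀ g : X, ∀ x ∈ V, g * x * g⁻¹ ∈ V → q (g * x * g⁻¹) = q x)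
    (hsing : ∀ g : X, ∀ x ∈ V, q x = 0 → g * x * g⁻¹ ∈ P → g * x * g⁻¹ ∈ V)
    (e : X) (heP : e ∈ P) (hee : e * e = 1) (heV : ∀ g : X, g * e * g⁻¹ ∉ V)
    (hmod : ∀ g ∈ P, g ∉ V → g * e ∈ V ∨ g * g * e ∈ V)
    (hcn : ∀ n ∈ V, q n = 1 → ∀ s ∈ P, s * n = n * s → s ∈ V ∨ s * e ∈ V)
    (hcenter : ∀ x ∈ P, (∀ g ∈ P, g * x = x * g) → x ∈ V ∧ q x = 0)
    (hsolv : ∀ u ∈ V, u ≠ 1 → q u = 0 → Group.IsSolvable ↥(Subgroup.centralizer ({u} : Set X)))
    (hnorm : ∀ u ∈ V, u ≠ 1 → q u = 0 →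
      Subgroup.centralizer {u} ≤ centralizerPPrimeCore 2 u ⊔ Subgroup.normalizer (V : Set X))
    (hLV : L ≤ V) (hLcard : Nat.card L = 4) (hLq : ∀ u ∈ L, q u = 0)
    (hL : ∀ l, l ∈ L ↔ ∃ v ∈ V, l = v * e * v⁻¹ * e⁻¹) : Group.IsSolvable X := by
  classical
  have hns := nonsingular hT2 P V hVcard hVc hV2 hW q hq1 hquad hnd hgen hinv hsing e hee heV hcn
    hsolv
  have h01 : ∀ a : ZMod 2, a = 0 ∨ a = 1 := by decide
  have hPN : (P : Subgroup X) ≤ normalizer (V : Set X) := by
    intro g hg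
    have h1 : V.map (MulAut.conj g).toMonoidHom = V := by
      apply hW.2
      rintro _ ⟨x, hx, rfl⟩
      exact (P : Subgroup X).mul_mem ((P : Subgroup X).mul_mem hg (hVP hx))
        ((P : Subgroup X).inv_mem hg)
    apply mem_normalizer_of_forall
    intro x hx
    have h2 : g * x * g⁻¹ ∈ V.map (MulAut.conj g).toMonoidHom := ⟨x, hx, rfl⟩
    rwa [h1] at h2
  -- a central involution of `P`
  obtain ⟨z, hzP, hzc, hz1⟩ : ∃ z ∈ P, (∀ g ∈ P, g * z = z * g) ∧ z ≠ 1 := by
    have hnt : Nontrivial (P : Subgroup X) := by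
      rw [Subgroup.nontrivial_iff_ne_bot]
      intro h
      rw [h, le_bot_iff] at hVP
      rw [hVP, card_bot] at hVcard
      norm_num at hVcard
    obtain ⟨z, hz⟩ := (Subgroup.nontrivial_iff_exists_ne_one _).1 P.2.center_nontrivial
    refine ⟨z, z.2, ?_, ?_⟩
    · intro g hg
      exact congrArg Subtype.val (Subgroup.mem_center_iff.1 hz.1 ⟨g, hg⟩)
    · intro h
      exact hz.2 (Subtype.ext h)
  obtain ⟨hzV, hqz⟩ := hcenter z hzP hzc
  have hzz : z * z = 1 := hV2 z hzV
  -- a nonsingular vector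
  obtain ⟨v, hv, hqv⟩ : ∃ v ∈ V, q v = 1 := by
    by_contra hcon
    push Not at hcon
    have h0 : ∀ v ∈ V, q v = 0 := fun v hv => (h01 _).resolve_right (hcon v hv)
    obtain ⟨y, hy, hxy⟩ := hnd z hzV hz1
    apply hxy
    rw [h0 _ (V.mul_mem hzV hy), h0 _ hzV, h0 _ hy, add_zero]
  have hsolv' : ∀ a ∈ V, a ≠ 1 → Group.IsSolvable ↥(centralizer ({a} : Set X)) := by
    intro a ha ha1
    rcases h01 (q a) with h | h
    · exact hsolv a ha ha1 h
    · exact (hns a ha h).1
  have htop : pPrimeCore 2 X ⊔ normalizer (V : Set X) = ⊤ := by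
    refine R15.NormalElem.sup_normalizer_eq_top P V hW hVc hV2 (by rw [hVcard]; norm_num) ?_
      (z := z) (v := v) hzP ?_ hzz hz1 hv ?_ ?_ hsolv' ?_
    · intro x hxx hxc hxP g hg
      obtain ⟨h1, h2⟩ := hcenter x hxP (fun g hg => mem_centralizer_singleton_iff.1 (hxc hg))
      exact hsing g x h1 h2 hg
    · intro g hg
      exact mem_centralizer_singleton_iff.2 (hzc g hg)
    · rintro rfl
      rw [hq1] at hqv
      exact absurd hqv (by decide)
    · intro g hg
      have h1 := hinv g z hzV (by rw [hg]; exact hv)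
      rw [hg, hqv, hqz] at h1
      exact absurd h1 (by decide)
    · intro a ha ha1
      rcases h01 (q a) with h | h
      · exact hnorm a ha ha1 h
      · exact (hns a ha h).2
  have hNs := solvable_normalizer hFT hZ P V L hVc hPN e heP hee hmod hzV (hsolv z hzV hz1 hqz)
    hLcard (fun u hu hu1 => hsolv u (hLV hu) hu1 (hLq u hu)) hL
  have hOn : (pPrimeCore 2 X).Normal := Lib.Cores.pPrimeCore_normal 2
  have hOs : Group.IsSolvable (pPrimeCore 2 X) := hFT _ (by
    have h := Lib.Cores.pPrimeCore_coprime (G := X) 2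
    rwa [Nat.coprime_two_right] at h)
  have hQs : Group.IsSolvable (X ⧸ pPrimeCore 2 X) := by
    let φ : normalizer (V : Set X) →* X ⧸ pPrimeCore 2 X :=
      (QuotientGroup.mk' (pPrimeCore 2 X)).comp (normalizer (V : Set X)).subtype
    refine Group.isSolvable_of_surjective (f := φ) ?_
    intro x
    obtain ⟨a, rfl⟩ := QuotientGroup.mk'_surjective (pPrimeCore 2 X) x
    have ha : a ∈ pPrimeCore 2 X ⊔ normalizer (V : Set X) := by rw [htop]; exact mem_top a
    obtain ⟨o, ho, c, hc, rfl⟩ := Subgroup.mem_sup_of_normal_left.1 ha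
    refine ⟨⟨c, hc⟩, ?_⟩
    show QuotientGroup.mk' (pPrimeCore 2 X) c = QuotientGroup.mk' (pPrimeCore 2 X) (o * c)
    rw [map_mul]
    have : QuotientGroup.mk' (pPrimeCore 2 X) o = 1 := (QuotientGroup.eq_one_iff o).2 ho
    rw [this, one_mul]
  exact (Group.isSolvable_iff_subgroup_quotient (H := pPrimeCore 2 X)).2 ⟨hOs, hQs⟩

end Cfsg.Agent.SylowU5.CentSolvCore
end

-- part: SylowU5/Quot
section
prune_inst 0x40010040040000000001800102000002000000002004000000040010200090040200300010800041000008c0000040020020000004000000000000000000401200000020010400000000000002002000000000000000000000000000000000000000000000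
set_option linter.all false
open scoped Cfsg.Agent.FastGrp

-- part: SylowU5/CaseBSolv
section
/-!
# Solvability of `C(u) ∩ C(z)` for the involutions `u` of `Q` outside `E`, when none of them is fused into `E`
-/

set_option autoImplicit false
set_option linter.unusedVariables false
set_option linter.unusedSectionVars false
open Cfsg

namespace Cfsg.Agent.SylowU5.CaseBSolv

universe u

open Subgroup Cfsg.Agent.SylowU5.Basic Cfsg.Agent.SignalizersComponents.RelSylow
  Cfsg.Agent.SylowU5.SolvT Cfsg.Agent.SylowU5.Fusion Cfsg.Agent.SylowU5.Rel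
  Cfsg.Agent.SylowU5.Prime

section Perm

open Equiv.Perm

set_option maxRecDepth 1000000

theorem three_cases : ∀ π : Equiv.Perm (Fin 5), π 0 = 0 → (∀ i, π (π i) = i) →
    (∀ i, i ≠ 0 → π i ≠ i) → π = PermFive.a0 ∨ π = PermFive.b0 ∨ π = PermFive.a0 * PermFive.b0 := by
  decide +kernel

theorem perm_index : ∀ π : Equiv.Perm (Fin 5), (π = PermFive.a0 ∨ π = PermFive.b0 ∨
    π = PermFive.a0 * PermFive.b0) → ∀ a b : Fin 5, a ≠ 0 → b ≠ 0 → a ≠ b →
    (π a = a ∧ π b = b ∨ π a = b ∧ π b = a) → 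
    (a = 1 ∧ b = π 1) ∨ (a = π 1 ∧ b = 1) ∨
      (π 1 = 2 ∧ (a = 3 ∧ b = 4 ∨ a = 4 ∧ b = 3)) ∨
      (π 1 = 3 ∧ (a = 2 ∧ b = 4 ∨ a = 4 ∧ b = 2)) ∨
      (π 1 = 4 ∧ (a = 2 ∧ b = 3 ∨ a = 3 ∧ b = 2)) := by
  decide +kernel

end Perm

section Two

variable {G : Type u} [Group G] {T : Subgroup G} (h : U5T T)
include h

theorem t13 : h.d 0 * (h.d 1 * h.d 3) = h.d 2 * h.d 4 := by
  rw [← Elem.prod_rest h]
  calc h.d 1 * h.d 2 * h.d 3 * h.d 4 * (h.d 1 * h.d 3)
      = h.d 1 * h.d 2 * h.d 3 * (h.d 4 * h.d 1) * h.d 3 := by group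
    _ = h.d 1 * h.d 2 * h.d 3 * (h.d 1 * h.d 4) * h.d 3 := by rw [Elem.d_comm h 4 1]
    _ = h.d 1 * h.d 2 * (h.d 3 * h.d 1) * (h.d 4 * h.d 3) := by group
    _ = h.d 1 * h.d 2 * (h.d 1 * h.d 3) * (h.d 3 * h.d 4) := by
        rw [Elem.d_comm h 3 1, Elem.d_comm h 4 3]
    _ = h.d 1 * (h.d 2 * h.d 1) * (h.d 3 * h.d 3) * h.d 4 := by group
    _ = h.d 1 * (h.d 1 * h.d 2) * (h.d 3 * h.d 3) * h.d 4 := by rw [Elem.d_comm h 2 1]
    _ = (h.d 1 * h.d 1) * h.d 2 * (h.d 3 * h.d 3) * h.d 4 := by group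
    _ = _ := by rw [Elem.d_sq h, Elem.d_sq h, one_mul, mul_one]

theorem t12 : h.d 0 * (h.d 1 * h.d 2) = h.d 3 * h.d 4 := by
  rw [← Elem.t_mul_z h]
  exact E_comm h (h.d_mem 0) (Elem.dd_mem h 1 2)

theorem t14 : h.d 0 * (h.d 1 * h.d 4) = h.d 2 * h.d 3 := by
  rw [← Elem.prod_rest h]
  calc h.d 1 * h.d 2 * h.d 3 * h.d 4 * (h.d 1 * h.d 4)
      = h.d 1 * h.d 2 * h.d 3 * (h.d 4 * h.d 1) * h.d 4 := by group
    _ = h.d 1 * h.d 2 * h.d 3 * (h.d 1 * h.d 4) * h.d 4 := by rw [Elem.d_comm h 4 1]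
    _ = h.d 1 * h.d 2 * (h.d 3 * h.d 1) * (h.d 4 * h.d 4) := by group
    _ = h.d 1 * h.d 2 * (h.d 1 * h.d 3) * (h.d 4 * h.d 4) := by rw [Elem.d_comm h 3 1]
    _ = h.d 1 * (h.d 2 * h.d 1) * h.d 3 * (h.d 4 * h.d 4) := by group
    _ = h.d 1 * (h.d 1 * h.d 2) * h.d 3 * (h.d 4 * h.d 4) := by rw [Elem.d_comm h 2 1]
    _ = (h.d 1 * h.d 1) * h.d 2 * h.d 3 * (h.d 4 * h.d 4) := by group
    _ = _ := by rw [Elem.d_sq h, Elem.d_sq h, one_mul, mul_one]

/-- `|C_T(u)| ≤ 64` for involutions `u ∉ E` -/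
theorem card_cent_le [Finite G] {u : G} (hu : u ∈ T) (huu : u * u = 1) (huE : u ∉ h.E) :
    Nat.card (T ⊓ centralizer ({u} : Set G) : Subgroup G) ≤ 64 := by
  have hle : T ⊓ centralizer ({u} : Set G) ≤ h.Q := fun g hg =>
    h.cent_u u hu huu huE g hg.1 (mem_centralizer_singleton_iff.1 hg.2)
  have hne : T ⊓ centralizer ({u} : Set G) ≠ h.Q := by
    intro heq
    have h1 := h.Q_cent u hu (by
      intro x hx
      rw [← heq] at hx
      exact (mem_centralizer_singleton_iff.1 hx.2).symm)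
    rcases h1 with rfl | rfl
    · exact huE h.E.one_mem
    · exact huE (h.d_mem 0)
  have hdvd := card_dvd_of_le hle
  rw [h.card_Q] at hdvd
  have hlt : Nat.card (T ⊓ centralizer ({u} : Set G) : Subgroup G) ≠ 128 := by
    intro h1
    apply hne
    apply eq_of_le_of_card_ge hle
    rw [h1, h.card_Q]
  obtain ⟨k, hk⟩ := hdvd
  rcases k with _ | _ | k
  · omega
  · omega
  · nlinarith

end Two

section Sylow

variable {G : Type u} [Group G] [Finite G] {T : Sylow 2 G} (h : U5T (T : Subgroup G))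
include h

/-- the permutation induced by an involution of `T` outside `E` -/
theorem exists_perm_u {u : G} (hu : u ∈ (T : Subgroup G)) (huu : u * u = 1) (huE : u ∉ h.E) :
    ∃ π : Equiv.Perm (Fin 5), (∀ i, u * h.d i * u⁻¹ = h.d (π i)) ∧
      (π = PermFive.a0 ∨ π = PermFive.b0 ∨ π = PermFive.a0 * PermFive.b0) := by
  obtain ⟨π, hπ⟩ := exists_perm h (T_le_normalizer h hu)
  obtain ⟨h0, h1, h2⟩ := perm_T h hu hπ
  refine ⟨π, hπ, three_cases π h0 h1 (h2 ?_)⟩
  rintro rfl
  apply huE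
  apply h.V_invol u _ huu
  apply h.cent_d 1 (by decide) u hu
  exact conj_eq_iff.1 (hπ 1)

/-- If no involution of `Q` outside `E` is fused into `E`, then `C(z) ∩ C(u)` is solvable for these
involutions. -/
theorem solvable_zu [IsSimpleGroup G] (hFT : OddOrder.{u})
    (hE : Group.IsSolvable ↥(centralizer (h.E : Set G)))
    (hB : ∀ u ∈ h.Q, u * u = 1 → u ∉ h.E → ∀ g : G, g * u * g⁻¹ ∉ h.E)
    {u : G} (hu : u ∈ h.Q) (huu : u * u = 1) (huE : u ∉ h.E) :
    Group.IsSolvable ↥(centralizer ({h.d 0} : Set G) ⊓ centralizer ({u} : Set G)) := by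
  set J : Subgroup G := centralizer ({h.d 0} : Set G) ⊓ centralizer ({u} : Set G) with hJ
  set W : Subgroup G := h.Q ⊓ centralizer ({u} : Set G) with hW
  have hW2 : IsPGroup 2 W := T.2.to_le (inf_le_left.trans h.Q_le)
  have hWJ : W ≤ J := le_inf (inf_le_left.trans (h.Q_le.trans (T_le_cent h))) inf_le_right
  obtain ⟨R, hR, hWR⟩ := exists_isMaxP hW2 hWJ
  have huW : u ∈ W := ⟨hu, mem_centralizer_singleton_iff.2 rfl⟩
  -- `R = W`
  obtain ⟨c, -, hc⟩ := exists_conj_into (T := T) (M := ⊤) le_top hR.1 le_top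
  have hcu : c * u * c⁻¹ ∈ (T : Subgroup G) := hc u (hWR huW)
  have hcuu : c * u * c⁻¹ * (c * u * c⁻¹) = 1 := by
    calc c * u * c⁻¹ * (c * u * c⁻¹) = c * (u * u) * c⁻¹ := by group
      _ = 1 := by rw [huu]; group
  have hcard : Nat.card R ≤ 64 := by
    rw [← card_map_conj R c]
    refine le_trans (Nat.card_le_card_of_injective _ (inclusion_injective ?_))
      (card_cent_le h hcu hcuu (hB u hu huu huE c))
    rintro _ ⟨r, hr, rfl⟩
    refine mem_inf.2 ⟨hc r hr, ?_⟩
    rw [mem_centralizer_singleton_iff]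
    have h1 := mem_centralizer_singleton_iff.1 (mem_inf.1 (hR.2.1 hr)).2
    show c * r * c⁻¹ * (c * u * c⁻¹) = c * u * c⁻¹ * (c * r * c⁻¹)
    calc c * r * c⁻¹ * (c * u * c⁻¹) = c * (r * u) * c⁻¹ := by group
      _ = c * (u * r) * c⁻¹ := by rw [h1]
      _ = _ := by group
  have hRW : W = R := eq_of_le_of_card_ge hWR (hcard.trans (card_cent_Q h hu))
  obtain ⟨π, hπ, hπc⟩ := exists_perm_u h (h.Q_le hu) huu huE
  have hπ1 : π 1 ≠ 0 ∧ π 1 ≠ 1 ∧ π (π 1) = 1 := by
    rcases hπc with rfl | rfl | rfl <;> decide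
  -- the element `t'`
  set t' : G := h.d 1 * h.d (π 1) with ht'
  have htE : t' ∈ h.E := Elem.dd_mem h _ _
  have htQ : t' ∈ h.Q := h.dd_mem_Q 1 (π 1) (by decide) hπ1.1
  have htu : t' * u = u * t' := by
    have h1 : u * t' * u⁻¹ = t' := by
      calc u * t' * u⁻¹ = (u * h.d 1 * u⁻¹) * (u * h.d (π 1) * u⁻¹) := by rw [ht']; group
        _ = h.d (π 1) * h.d 1 := by rw [hπ, hπ, hπ1.2.2]
        _ = _ := Elem.d_comm h _ _
    rw [conj_eq_iff] at h1
    exact h1.symm
  have htW : t' ∈ W := ⟨htQ, mem_centralizer_singleton_iff.2 htu⟩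
  have hzW : h.d 0 ∈ W := ⟨h.z_mem_Q, mem_centralizer_singleton_iff.2
    (h.z_comm u (h.Q_le hu)).symm⟩
  refine solvable_of_isolated_mod hFT hR (x := t') (t := h.d 0) (hWR htW) (hWR hzW)
    (fun m hm => mem_centralizer_singleton_iff.1 (mem_inf.1 hm).1) (h.E_sq _ htE) (d_sq h 0)
    (h.dd_ne_one _ _ hπ1.2.1.symm) (h.d_ne_one 0)
    (fun h1 => h.dd_ne_d _ _ _ hπ1.2.1.symm h1) ?_ ?_
  · intro m hm hmR
    set y := m * t' * m⁻¹ with hy
    have hyy : y * y = 1 := by
      calc y * y = m * (t' * t') * m⁻¹ := by rw [hy]; group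
        _ = 1 := by rw [h.E_sq _ htE]; group
    rw [← hRW] at hmR
    have hmt : m⁻¹ * y * m⁻¹⁻¹ = t' := by rw [hy]; group
    have hyE : y ∈ h.E := by
      by_contra hyE
      apply hB y hmR.1 hyy hyE m⁻¹
      rw [hmt]; exact htE
    have hyu : y * u = u * y := mem_centralizer_singleton_iff.1 hmR.2
    rcases Elem.mem_E_inter_Q h hyE hmR.1 with h1 | h1 | ⟨a, b, ha, hb, hab, h1⟩
    · exfalso
      rw [h1] at hmt
      apply h.dd_ne_one _ _ hπ1.2.1.symm
      rw [← ht', ← hmt]; group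
    · exfalso
      rw [h1] at hmt
      have hmz := mem_centralizer_singleton_iff.1 (mem_inf.1 hm).1
      have h2 : t' = h.d 0 := by
        rw [← hmt, inv_inv]
        calc m⁻¹ * h.d 0 * m = m⁻¹ * (h.d 0 * m) := by group
          _ = m⁻¹ * (m * h.d 0) := by rw [hmz]
          _ = _ := by group
      exact h.dd_ne_d _ _ _ hπ1.2.1.symm h2
    · have h2 : h.d (π a) * h.d (π b) = h.d a * h.d b := by
        calc h.d (π a) * h.d (π b) = (u * h.d a * u⁻¹) * (u * h.d b * u⁻¹) := by rw [hπ, hπ]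
          _ = u * y * u⁻¹ := by rw [h1]; group
          _ = y := conj_eq_iff.2 hyu.symm
          _ = _ := h1
      have h3 := h.dd_inj _ _ _ _ (fun h4 => hab (π.injective h4)) hab h2
      rcases perm_index π hπc a b ha hb hab h3 with ⟨h4, h5⟩ | ⟨h4, h5⟩ | ⟨h6, h4⟩ | ⟨h6, h4⟩ |
        ⟨h6, h4⟩
      · left; rw [h1, h4, h5]
      · left; rw [h1, h4, h5]; exact Elem.d_comm h _ _
      · right
        rw [ht', h6, t12 h, h1]
        rcases h4 with ⟨h4, h5⟩ | ⟨h4, h5⟩
        · rw [h4, h5]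
        · rw [h4, h5]; exact Elem.d_comm h _ _
      · right
        rw [ht', h6, t13 h, h1]
        rcases h4 with ⟨h4, h5⟩ | ⟨h4, h5⟩
        · rw [h4, h5]
        · rw [h4, h5]; exact Elem.d_comm h _ _
      · right
        rw [ht', h6, t14 h, h1]
        rcases h4 with ⟨h4, h5⟩ | ⟨h4, h5⟩
        · rw [h4, h5]
        · rw [h4, h5]; exact Elem.d_comm h _ _
  · refine solvable_mono ?_ (solvable_zdd h hFT hE (i := 1) (j := π 1) (by decide) hπ1.1
      hπ1.2.1.symm)
    intro m hm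
    exact ⟨(mem_inf.1 (mem_inf.1 hm).1).1, (mem_inf.1 hm).2⟩

end Sylow

end Cfsg.Agent.SylowU5.CaseBSolv
end

-- part: SylowU5/Quot
section
/-!
# Verification of the hypotheses of `CentSolvCore.isSolvable_of` in `C(z)/⟨z⟩`
-/

set_option autoImplicit false
set_option linter.unusedVariables false
set_option linter.unusedSectionVars false
open Cfsg

namespace Cfsg.Agent.SylowU5.Quot

universe u

open Subgroup Cfsg.Agent.SylowU5.Basic Cfsg.Agent.SignalizersComponents.RelSylow
  Cfsg.Agent.SylowU5.Fusion Cfsg.Agent.SylowU5.Prime Cfsg.Agent.SylowU5.Closed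
  Cfsg.Agent.SylowU5.SolvT Cfsg.Agent.SylowU5.Rel Cfsg.Agent.SylowU5.CaseBSolv

/-! ### Squares and commutators in `Q` -/

section Form

variable {G : Type u} [Group G] {T : Subgroup G} (h : U5T T)
include h

open Classical in
/-- the square map `Q → ZMod 2` -/
noncomputable def s (_h : U5T T) (a : G) : ZMod 2 := if a * a = 1 then 0 else 1

open Classical in
/-- the commutator map `Q × Q → ZMod 2` -/
noncomputable def β (_h : U5T T) (a b : G) : ZMod 2 := if a * b = b * a then 0 else 1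

/-- `ZMod 2 → ⟨z⟩` -/
def ζ (x : ZMod 2) : G := if x = 0 then 1 else h.d 0

theorem ζ_zero : ζ h 0 = 1 := if_pos rfl

theorem ζ_one : ζ h 1 = h.d 0 := if_neg (by decide)

theorem ζ_add (x y : ZMod 2) : ζ h (x + y) = ζ h x * ζ h y := by
  have h01 : ∀ a : ZMod 2, a = 0 ∨ a = 1 := by decide
  rcases h01 x with rfl | rfl <;> rcases h01 y with rfl | rfl
  · simp [ζ_zero]
  · simp [ζ_zero]
  · simp [ζ_zero]
  · rw [show (1 : ZMod 2) + 1 = 0 from rfl, ζ_zero, ζ_one, d_sq]

theorem ζ_inj {x y : ZMod 2} (hxy : ζ h x = ζ h y) : x = y := by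
  have h01 : ∀ a : ZMod 2, a = 0 ∨ a = 1 := by decide
  rcases h01 x with rfl | rfl <;> rcases h01 y with rfl | rfl
  · rfl
  · rw [ζ_zero, ζ_one] at hxy; exact absurd hxy.symm (h.d_ne_one 0)
  · rw [ζ_zero, ζ_one] at hxy; exact absurd hxy (h.d_ne_one 0)
  · rfl

theorem ζ_comm (x : ZMod 2) {a : G} (ha : a ∈ h.Q) : ζ h x * a = a * ζ h x := by
  have h01 : ∀ a : ZMod 2, a = 0 ∨ a = 1 := by decide
  rcases h01 x with rfl | rfl
  · rw [ζ_zero, one_mul, mul_one]
  · rw [ζ_one]; exact (h.z_comm a (h.Q_le ha)).symm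

theorem sq_eq {a : G} (ha : a ∈ h.Q) : a * a = ζ h (s h a) := by
  unfold s
  by_cases h1 : a * a = 1
  · rw [if_pos h1, ζ_zero, h1]
  · rw [if_neg h1, ζ_one]
    exact (h.Q_sq a ha).resolve_left h1

theorem comm_eq {a b : G} (ha : a ∈ h.Q) (hb : b ∈ h.Q) : a * b = b * a * ζ h (β h a b) := by
  unfold β
  by_cases h1 : a * b = b * a
  · rw [if_pos h1, ζ_zero, h1, mul_one]
  · rw [if_neg h1, ζ_one]
    exact (h.Q_comm a ha b hb).resolve_left h1

theorem s_mul {a b : G} (ha : a ∈ h.Q) (hb : b ∈ h.Q) : s h (a * b) = s h a + s h b + β h a b := by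
  apply ζ_inj h
  rw [ζ_add, ζ_add, ← sq_eq h (h.Q.mul_mem ha hb), ← sq_eq h ha, ← sq_eq h hb]
  have h1 := comm_eq h hb ha
  have h2 : ζ h (β h a b) = ζ h (β h b a) := by
    have h3 : β h a b = β h b a := by
      unfold β
      by_cases h4 : a * b = b * a
      · rw [if_pos h4, if_pos h4.symm]
      · rw [if_neg h4, if_neg (fun h5 => h4 h5.symm)]
    rw [h3]
  rw [h2]
  calc a * b * (a * b) = a * (b * a) * b := by group
    _ = a * (a * b * ζ h (β h b a)) * b := by rw [← h1]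
    _ = a * a * b * (ζ h (β h b a) * b) := by group
    _ = a * a * b * (b * ζ h (β h b a)) := by rw [ζ_comm h _ hb]
    _ = _ := by group

theorem β_mul {a b c : G} (ha : a ∈ h.Q) (hb : b ∈ h.Q) (hc : c ∈ h.Q) :
    β h (a * b) c = β h a c + β h b c := by
  apply ζ_inj h
  have h1 := comm_eq h (h.Q.mul_mem ha hb) hc
  have h2 : a * b * c = c * (a * b) * (ζ h (β h a c) * ζ h (β h b c)) := by
    calc a * b * c = a * (b * c) := by group
      _ = a * (c * b * ζ h (β h b c)) := by rw [← comm_eq h hb hc]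
      _ = (a * c) * b * ζ h (β h b c) := by group
      _ = (c * a * ζ h (β h a c)) * b * ζ h (β h b c) := by rw [← comm_eq h ha hc]
      _ = c * a * (ζ h (β h a c) * b) * ζ h (β h b c) := by group
      _ = c * a * (b * ζ h (β h a c)) * ζ h (β h b c) := by rw [ζ_comm h _ hb]
      _ = _ := by group
  rw [ζ_add]
  exact mul_left_cancel (h1.symm.trans h2)

theorem s_quad {a b c : G} (ha : a ∈ h.Q) (hb : b ∈ h.Q) (hc : c ∈ h.Q) :
    s h (a * b * c) = s h (a * b) + s h (a * c) + s h (b * c) + s h a + s h b + s h c := by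
  rw [s_mul h (h.Q.mul_mem ha hb) hc, s_mul h ha hb, s_mul h ha hc, s_mul h hb hc,
    β_mul h ha hb hc]
  generalize s h a = x
  generalize s h b = y
  generalize s h c = w
  generalize β h a b = p
  generalize β h a c = q
  generalize β h b c = r
  revert x y w p q r
  decide +kernel

end Form

/-! ### The quotient -/

section Quotient

variable {G : Type u} [Group G] [Finite G] {T : Sylow 2 G} (h : U5T (T : Subgroup G))

/-- `C(z)` -/
abbrev C : Subgroup G := centralizer ({h.d 0} : Set G)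

/-- `⟨z⟩` in `C(z)` -/
def Z : Subgroup ↥(C h) where
  carrier := {x | (x : G) = 1 ∨ (x : G) = h.d 0}
  one_mem' := Or.inl rfl
  mul_mem' := by
    intro a b ha hb
    simp only [Set.mem_ofPred_eq, Subgroup.coe_mul] at ha hb ⊢
    rcases ha with ha | ha <;> rcases hb with hb | hb <;> rw [ha, hb]
    · left; rw [one_mul]
    · right; rw [one_mul]
    · right; rw [mul_one]
    · left; exact d_sq h 0
  inv_mem' := by
    intro a ha
    simp only [Set.mem_ofPred_eq, InvMemClass.coe_inv] at ha ⊢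
    rcases ha with ha | ha <;> rw [ha]
    · left; exact inv_one
    · right; exact d_inv h 0

theorem mem_Z {x : ↥(C h)} : x ∈ Z h ↔ (x : G) = 1 ∨ (x : G) = h.d 0 := Iff.rfl

theorem C_comm (x : ↥(C h)) : (x : G) * h.d 0 = h.d 0 * x := mem_centralizer_singleton_iff.1 x.2

instance Z_normal : (Z h).Normal where
  conj_mem := by
    intro n hn g
    rw [mem_Z] at hn ⊢
    rcases hn with hn | hn
    · left
      show (g : G) * n * (g : G)⁻¹ = 1
      rw [hn]; group
    · right
      show (g : G) * n * (g : G)⁻¹ = h.d 0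
      rw [hn]
      exact conj_eq_iff.2 (C_comm h g)

/-- `C(z)/⟨z⟩` -/
abbrev X : Type u := ↥(C h) ⧸ Z h

/-- the projection -/
def π : ↥(C h) →* X h := QuotientGroup.mk' (Z h)

theorem π_surj : Function.Surjective (π h) := QuotientGroup.mk'_surjective (Z h)

theorem π_eq {a b : ↥(C h)} : π h a = π h b ↔ (b : G) = a ∨ (b : G) = a * h.d 0 := by
  have h1 : π h a = π h b ↔ a⁻¹ * b ∈ Z h := QuotientGroup.eq
  rw [h1, mem_Z]
  constructor
  · rintro (h2 | h2)
    · left
      have h3 : (a : G)⁻¹ * b = 1 := h2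
      calc (b : G) = a * ((a : G)⁻¹ * b) := by group
        _ = a := by rw [h3, mul_one]
    · right
      have h3 : (a : G)⁻¹ * b = h.d 0 := h2
      calc (b : G) = a * ((a : G)⁻¹ * b) := by group
        _ = _ := by rw [h3]
  · rintro (h2 | h2)
    · left
      show (a : G)⁻¹ * b = 1
      rw [h2]; group
    · right
      show (a : G)⁻¹ * b = h.d 0
      rw [h2]; group

theorem π_one {a : ↥(C h)} : π h a = 1 ↔ (a : G) = 1 ∨ (a : G) = h.d 0 := by
  rw [← map_one (π h), eq_comm, π_eq]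
  simp only [_root_.OneMemClass.coe_one, _root_.OneMemClass.coe_eq_one, _root_.Fin.isValue, _root_.one_mul]

/-- the image of a subgroup of `G` -/
def im (S : Subgroup G) : Subgroup (X h) := (S.subgroupOf (C h)).map (π h)

theorem π_mem_im {S : Subgroup G} (hS : h.d 0 ∈ S) {a : ↥(C h)} : π h a ∈ im h S ↔ (a : G) ∈ S := by
  constructor
  · rintro ⟨b, hb, hba⟩
    have hb' : (b : G) ∈ S := hb
    rcases (π_eq h).1 hba with h1 | h1
    · rw [h1]; exact hb'
    · rw [h1]; exact S.mul_mem hb' hS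
  · intro ha
    exact ⟨a, ha, rfl⟩

theorem exists_of_mem_im {S : Subgroup G} {x : X h} (hx : x ∈ im h S) :
    ∃ a : ↥(C h), (a : G) ∈ S ∧ π h a = x := by
  obtain ⟨a, ha, hax⟩ := hx
  exact ⟨a, ha, hax⟩

theorem card_Z : Nat.card (Z h) = 2 := by
  have hz : h.d 0 ∈ C h := mem_centralizer_singleton_iff.2 rfl
  let f : Bool → Z h := fun b => if b then ⟨⟨h.d 0, hz⟩, Or.inr rfl⟩ else ⟨1, Or.inl rfl⟩
  have hf : Function.Bijective f := by
    constructor
    · intro a b hab
      cases a <;> cases b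
      · rfl
      · exfalso
        have h1 : (1 : G) = h.d 0 := congrArg (fun t : Z h => ((t : ↥(C h)) : G)) hab
        exact h.d_ne_one 0 h1.symm
      · exfalso
        have h1 : h.d 0 = (1 : G) := congrArg (fun t : Z h => ((t : ↥(C h)) : G)) hab
        exact h.d_ne_one 0 h1
      · rfl
    · rintro ⟨x, hx | hx⟩
      · exact ⟨false, Subtype.ext (Subtype.ext hx.symm)⟩
      · exact ⟨true, Subtype.ext (Subtype.ext hx.symm)⟩
  rw [← Nat.card_congr (Equiv.ofBijective f hf)]
  simp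

theorem card_im {S : Subgroup G} (hS : h.d 0 ∈ S) (hSC : S ≤ C h) :
    Nat.card (im h S) * 2 = Nat.card S := by
  have h1 : (im h S).comap (π h) = S.subgroupOf (C h) := by
    ext a
    rw [mem_comap, π_mem_im h hS, mem_subgroupOf]
  have h2 : (S.subgroupOf (C h)).index = (im h S).index := by
    rw [← h1]
    exact index_comap_of_surjective _ (π_surj h)
  have h3 := (im h S).card_mul_index
  have h4 := (S.subgroupOf (C h)).card_mul_index
  have h5 := (Z h).card_mul_index
  rw [card_Z, Subgroup.index] at h5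
  rw [Nat.card_congr (subgroupOfEquivOfLe hSC).toEquiv, h2] at h4
  have h6 : (im h S).index ≠ 0 := index_ne_zero_of_finite
  have h7 : Nat.card (im h S) * 2 * (im h S).index = Nat.card S * (im h S).index := by
    rw [h4, ← h5, ← h3]; ring
  exact Nat.eq_of_mul_eq_mul_right (Nat.pos_of_ne_zero h6) h7

/-- the Sylow subgroup `T/⟨z⟩` -/
noncomputable def P : Sylow 2 (X h) :=
  haveI : Fact (Nat.Prime 2) := ⟨Nat.prime_two⟩
  (T.subtype (T_le_cent h)).mapSurjective (π_surj h)

theorem coe_P : (P h : Subgroup (X h)) = im h T := rfl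

theorem Q_le_C : h.Q ≤ C h := h.Q_le.trans (T_le_cent h)

theorem z_mem_T : h.d 0 ∈ (T : Subgroup G) := d_mem_T h 0

theorem card_V : Nat.card (im h h.Q) = 64 := by
  have h1 := card_im h h.z_mem_Q (Q_le_C h)
  rw [h.card_Q] at h1
  omega

theorem V_le : im h h.Q ≤ (P h : Subgroup (X h)) := by
  rw [coe_P]
  exact map_mono (fun a ha => h.Q_le ha)

theorem π_mem_P {a : ↥(C h)} : π h a ∈ (P h : Subgroup (X h)) ↔ (a : G) ∈ (T : Subgroup G) := by
  rw [coe_P]; exact π_mem_im h (z_mem_T h)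

theorem π_mem_V {a : ↥(C h)} : π h a ∈ im h h.Q ↔ (a : G) ∈ h.Q := π_mem_im h h.z_mem_Q

theorem V_comm : ∀ a ∈ im h h.Q, ∀ b ∈ im h h.Q, a * b = b * a := by
  intro x hx y hy
  obtain ⟨a, ha, rfl⟩ := exists_of_mem_im h hx
  obtain ⟨b, hb, rfl⟩ := exists_of_mem_im h hy
  rw [← map_mul, ← map_mul, π_eq]
  show (b : G) * a = a * b ∨ (b : G) * a = a * b * h.d 0
  exact h.Q_comm b hb a ha

theorem V_sq : ∀ a ∈ im h h.Q, a * a = 1 := by
  intro x hx
  obtain ⟨a, ha, rfl⟩ := exists_of_mem_im h hx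
  rw [← map_mul, π_one]
  exact h.Q_sq a ha

open Classical in
/-- the quadratic form -/
noncomputable def q (x : X h) : ZMod 2 := if ∃ a : ↥(C h), π h a = x ∧ a * a = 1 then 0 else 1

theorem q_π {a : ↥(C h)} : q h (π h a) = s h (a : G) := by
  unfold q s
  have hiff : (∃ b : ↥(C h), π h b = π h a ∧ b * b = 1) ↔ (a : G) * a = 1 := by
    constructor
    · rintro ⟨b, hb, hbb⟩
      have hbb' : (b : G) * b = 1 := congrArg Subtype.val hbb
      rcases (π_eq h).1 hb with h1 | h1
      · rw [h1]; exact hbb'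
      · rw [h1]
        calc (b : G) * h.d 0 * (b * h.d 0) = b * (h.d 0 * b) * h.d 0 := by group
          _ = b * (b * h.d 0) * h.d 0 := by rw [C_comm h b]
          _ = (b * b) * (h.d 0 * h.d 0) := by group
          _ = 1 := by rw [hbb', d_sq, one_mul]
    · intro haa
      exact ⟨a, rfl, Subtype.ext haa⟩
  by_cases h1 : (a : G) * a = 1
  · rw [if_pos h1, if_pos (hiff.2 h1)]
  · rw [if_neg h1, if_neg (fun h2 => h1 (hiff.1 h2))]

theorem s_zero_iff {a : G} : s h a = 0 ↔ a * a = 1 := by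
  unfold s
  by_cases h1 : a * a = 1
  · simp [h1]
  · simp only [h1, ↓ _root_.reduceIte, _root_.one_ne_zero]

theorem q_one : q h 1 = 0 := by
  rw [← map_one (π h), q_π, s_zero_iff]; simp

theorem q_quad : ∀ x ∈ im h h.Q, ∀ y ∈ im h h.Q, ∀ w ∈ im h h.Q,
    q h (x * y * w) = q h (x * y) + q h (x * w) + q h (y * w) + q h x + q h y + q h w := by
  intro x hx y hy w hw
  obtain ⟨a, ha, rfl⟩ := exists_of_mem_im h hx
  obtain ⟨b, hb, rfl⟩ := exists_of_mem_im h hy
  obtain ⟨c, hc, rfl⟩ := exists_of_mem_im h hw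
  rw [← map_mul, ← map_mul, ← map_mul, ← map_mul, q_π, q_π, q_π, q_π, q_π, q_π, q_π]
  exact s_quad h ha hb hc

theorem q_nd : ∀ x ∈ im h h.Q, x ≠ 1 → ∃ y ∈ im h h.Q, q h (x * y) ≠ q h x + q h y := by
  intro x hx hx1
  obtain ⟨a, ha, rfl⟩ := exists_of_mem_im h hx
  by_contra hcon
  push Not at hcon
  apply hx1
  rw [π_one]
  apply h.Q_cent _ (h.Q_le ha)
  intro b hb
  have hbC : b ∈ C h := Q_le_C h hb
  have h1 := hcon (π h ⟨b, hbC⟩) ((π_mem_V h).2 hb)
  rw [← map_mul, q_π, q_π, q_π] at h1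
  have h2 := s_mul h ha hb
  have h3 : s h ((a * ⟨b, hbC⟩ : ↥(C h)) : G) = s h ((a : G) * b) := rfl
  rw [h3, h2] at h1
  have h4 : β h (a : G) b = 0 := by
    have h5 : s h (a : G) + s h b + β h (a : G) b = s h (a : G) + s h b + 0 := by
      rw [h1, add_zero]
    exact add_left_cancel h5
  have h6 := comm_eq h ha hb
  rw [h4, ζ_zero, mul_one] at h6
  exact h6

theorem q_conj : ∀ g x : X h, q h (g * x * g⁻¹) = q h x := by
  intro g x
  obtain ⟨c, rfl⟩ := π_surj h g
  obtain ⟨a, rfl⟩ := π_surj h x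
  rw [← map_inv, ← map_mul, ← map_mul, q_π, q_π]
  have h1 : ((c * a * c⁻¹ : ↥(C h)) : G) * ((c * a * c⁻¹ : ↥(C h)) : G) = 1 ↔ (a : G) * a = 1 := by
    have e : ((c * a * c⁻¹ : ↥(C h)) : G) * ((c * a * c⁻¹ : ↥(C h)) : G) =
        (c : G) * ((a : G) * a) * (c : G)⁻¹ := by
      show (c : G) * a * (c : G)⁻¹ * ((c : G) * a * (c : G)⁻¹) = _
      group
    rw [e]
    constructor
    · intro h2
      calc (a : G) * a = (c : G)⁻¹ * ((c : G) * ((a : G) * a) * (c : G)⁻¹) * c := by group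
        _ = 1 := by rw [h2]; group
    · intro h2; rw [h2]; group
  unfold s
  by_cases h2 : (a : G) * a = 1
  · rw [if_pos h2, if_pos (h1.2 h2)]
  · rw [if_neg h2, if_neg (fun h3 => h2 (h1.1 h3))]

theorem V_gen : im h h.Q ≤ _root_.Subgroup.closure {u | u ∈ im h h.Q ∧ q h u = 0} := by
  set K : Subgroup (X h) := _root_.Subgroup.closure {u | u ∈ im h h.Q ∧ q h u = 0} with hK
  have h1 : h.Q ≤ (K.comap (π h)).map (C h).subtype := by
    refine h.Q_gen.trans ((closure_le _).2 ?_)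
    rintro u ⟨hu, huu, -⟩
    refine ⟨⟨u, Q_le_C h hu⟩, ?_, rfl⟩
    apply Subgroup.subset_closure
    exact ⟨(π_mem_V h).2 hu, by rw [q_π, s_zero_iff]; exact huu⟩
  intro x hx
  obtain ⟨a, ha, rfl⟩ := exists_of_mem_im h hx
  obtain ⟨b, hb, hba⟩ := h1 ha
  have h2 : b = a := Subtype.ext hba
  rw [← h2]; exact hb

/-- strong closure in the quotient -/
theorem V_closed (hcl : ∀ g : G, g * h.d 0 = h.d 0 * g → ∀ x ∈ h.Q, g * x * g⁻¹ ∈ (T : Subgroup G) →
    g * x * g⁻¹ ∈ h.Q) : ∀ g : X h, ∀ x ∈ im h h.Q, g * x * g⁻¹ ∈ (P h : Subgroup (X h)) →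
    g * x * g⁻¹ ∈ im h h.Q := by
  intro g x hx hg
  obtain ⟨c, rfl⟩ := π_surj h g
  obtain ⟨a, ha, rfl⟩ := exists_of_mem_im h hx
  rw [← map_inv, ← map_mul, ← map_mul] at hg ⊢
  rw [π_mem_P] at hg
  rw [π_mem_V]
  exact hcl c (C_comm h c) a ha hg

theorem V_weak (hcl : ∀ g : G, g * h.d 0 = h.d 0 * g → ∀ x ∈ h.Q, g * x * g⁻¹ ∈ (T : Subgroup G) →
    g * x * g⁻¹ ∈ h.Q) : IsWeaklyClosed (im h h.Q) (P h : Subgroup (X h)) := by
  refine ⟨V_le h, fun g hg => ?_⟩
  have hle : (im h h.Q).map (MulAut.conj g).toMonoidHom ≤ im h h.Q := by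
    rintro _ ⟨x, hx, rfl⟩
    exact V_closed h hcl g x hx (hg ⟨x, hx, rfl⟩)
  apply eq_of_le_of_card_ge hle
  rw [card_map_conj]

/-- the image of `d 1` -/
def e : X h := π h ⟨h.d 1, T_le_cent h (d_mem_T h 1)⟩

theorem e_mem : e h ∈ (P h : Subgroup (X h)) := (π_mem_P h).2 (d_mem_T h 1)

theorem e_sq : e h * e h = 1 := by
  unfold e
  rw [← map_mul, π_one]
  left; exact d_sq h 1

theorem e_not_V [IsSimpleGroup G] : ∀ g : X h, g * e h * g⁻¹ ∉ im h h.Q := by
  intro g hg
  obtain ⟨c, rfl⟩ := π_surj h g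
  unfold e at hg
  rw [← map_inv, ← map_mul, ← map_mul, π_mem_V] at hg
  have hg' : (c : G) * h.d 1 * (c : G)⁻¹ ∈ h.Q := hg
  obtain ⟨n, hn, hnz⟩ := exists_conj_d h 1
  have h1 : (c : G) * h.d 1 * (c : G)⁻¹ = (c * n : G) * h.d 0 * (c * n : G)⁻¹ := by
    rw [← hnz]; group
  obtain ⟨j, hj⟩ := z_fus h (g := (c * n : G)) (by rw [← h1]; exact h.Q_le hg')
  rw [← h1] at hj
  by_cases hj0 : j = 0
  · rw [hj0] at hj
    have h2 : (c : G) * h.d 0 * (c : G)⁻¹ = h.d 0 := conj_eq_iff.2 (C_comm h c)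
    have h3 : h.d 1 = h.d 0 := mul_left_cancel (mul_right_cancel (hj.trans h2.symm))
    exact absurd (h.d_inj _ _ h3) (by decide)
  · exact h.d_not_mem_Q j hj0 (hj ▸ hg')

theorem mod_V : ∀ g ∈ (P h : Subgroup (X h)), g ∉ im h h.Q → g * e h ∈ im h h.Q ∨
    g * g * e h ∈ im h h.Q := by
  intro g hg hgV
  obtain ⟨c, rfl⟩ := π_surj h g
  rw [π_mem_P] at hg
  rw [π_mem_V] at hgV
  unfold e
  rw [← map_mul, ← map_mul, ← map_mul, π_mem_V, π_mem_V]
  exact h.T_mod_Q c hg hgV

theorem not_mem_E_of_q {a : ↥(C h)} (hq : q h (π h a) = 1) : (a : G) ∉ h.E := by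
  intro hE
  rw [q_π, (s_zero_iff h).2 (h.E_sq _ hE)] at hq
  exact absurd hq (by decide)

theorem cent_n : ∀ n ∈ im h h.Q, q h n = 1 → ∀ s ∈ (P h : Subgroup (X h)), s * n = n * s →
    s ∈ im h h.Q ∨ s * e h ∈ im h h.Q := by
  intro n hn hqn t ht htn
  obtain ⟨a, ha, rfl⟩ := exists_of_mem_im h hn
  obtain ⟨c, rfl⟩ := π_surj h t
  rw [π_mem_P] at ht
  unfold e
  rw [← map_mul, π_mem_V, π_mem_V]
  rw [← map_mul, ← map_mul, eq_comm, π_eq] at htn
  exact h.cent_mod_z a ha (not_mem_E_of_q h hqn) c ht htn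

theorem center_P : ∀ x ∈ (P h : Subgroup (X h)), (∀ g ∈ (P h : Subgroup (X h)), g * x = x * g) →
    x ∈ im h h.Q ∧ q h x = 0 := by
  intro x hx hxc
  obtain ⟨c, rfl⟩ := π_surj h x
  rw [π_mem_P] at hx
  have h1 := h.center_two c hx (by
    intro g hg
    have h2 := hxc (π h ⟨g, T_le_cent h hg⟩) ((π_mem_P h).2 hg)
    rw [← map_mul, ← map_mul, eq_comm, π_eq] at h2
    exact h2)
  exact ⟨(π_mem_V h).2 h1.2, by rw [q_π, s_zero_iff]; exact h.E_sq _ h1.1⟩

/-- centralizers in the quotient -/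
theorem centralizer_solvable {a : ↥(C h)}
    (hs : Group.IsSolvable ↥(C h ⊓ centralizer ({(a : G)} : Set G))) :
    Group.IsSolvable ↥(centralizer ({π h a} : Set (X h))) := by
  have hz := d_sq h 0
  set M : Subgroup G := Cm (h.d 0) hz (a : G) with hM
  -- `M` is solvable
  have hMs : Group.IsSolvable M := by
    let D : Subgroup M := (centralizer ({(a : G)} : Set G)).subgroupOf M
    have hD : Group.IsSolvable D := by
      let f : D →* ↥(C h ⊓ centralizer ({(a : G)} : Set G)) :=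
        { toFun := fun y => ⟨((y : M) : G), mem_inf.2 ⟨mem_centralizer_singleton_iff.2
            (show ((y : M) : G) * h.d 0 = h.d 0 * ((y : M) : G) from (y : M).2.1), y.2⟩⟩
          map_one' := rfl
          map_mul' := fun _ _ => rfl }
      have hf : Function.Injective f := by
        intro x y hxy
        apply Subtype.ext
        apply Subtype.ext
        have h5 : ((f x : ↥(C h ⊓ centralizer ({(a : G)} : Set G))) : G) = f y := by rw [hxy]
        exact h5
      exact Group.isSolvable_of_isSolvable_injective hf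
    have hDmem : ∀ y : M, y ∈ D ↔ (y : G) * a * (y : G)⁻¹ = a := by
      intro y
      rw [mem_subgroupOf, mem_centralizer_singleton_iff, conj_eq_iff]
    by_cases hall : ∀ y : M, y ∈ D
    · exact solvable_of_two_cosets D hD 1 (fun y => Or.inl (hall y))
    · push Not at hall
      obtain ⟨r, hr⟩ := hall
      refine solvable_of_two_cosets D hD r (fun y => ?_)
      by_cases hy : y ∈ D
      · exact Or.inl hy
      · right
        rw [hDmem] at hr hy ⊢
        have hr' := r.2.2.resolve_left hr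
        have hy' := y.2.2.resolve_left hy
        show (r : G)⁻¹ * y * a * ((r : G)⁻¹ * y)⁻¹ = a
        calc (r : G)⁻¹ * y * a * ((r : G)⁻¹ * y)⁻¹ = (r : G)⁻¹ * (y * a * (y : G)⁻¹) * r := by group
          _ = (r : G)⁻¹ * (r * a * (r : G)⁻¹) * r := by rw [hy', hr']
          _ = a := by group
  let f : M →* X h := (π h).comp
    { toFun := fun y => ⟨(y : G), mem_centralizer_singleton_iff.2 y.2.1⟩
      map_one' := rfl
      map_mul' := fun _ _ => rfl }
  have hle : centralizer ({π h a} : Set (X h)) ≤ f.range := by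
    intro x hx
    obtain ⟨c, rfl⟩ := π_surj h x
    rw [mem_centralizer_singleton_iff, ← map_mul, ← map_mul, eq_comm, π_eq] at hx
    have hcM : (c : G) ∈ M := by
      rw [hM, mem_Cm]
      refine ⟨C_comm h c, ?_⟩
      rcases hx with h1 | h1
      · left
        exact conj_eq_iff.2 h1
      · right
        have h2 : (c : G) * a = a * c * h.d 0 := h1
        rw [h2]
        calc (a : G) * c * h.d 0 * (c : G)⁻¹ = a * (c * h.d 0) * (c : G)⁻¹ := by group
          _ = a * (h.d 0 * c) * (c : G)⁻¹ := by rw [C_comm h c]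
          _ = _ := by group
    exact ⟨⟨c, hcM⟩, rfl⟩
  have hr : Group.IsSolvable f.range := Group.isSolvable_of_surjective f.rangeRestrict_surjective
  exact solvable_mono hle hr

/-- `(E ∩ Q)/⟨z⟩` -/
theorem mem_L_iff : ∀ l, l ∈ im h (h.E ⊓ h.Q) ↔ ∃ v ∈ im h h.Q, l = v * e h * v⁻¹ * (e h)⁻¹ := by
  have hzL : h.d 0 ∈ h.E ⊓ h.Q := mem_inf.2 ⟨h.d_mem 0, h.z_mem_Q⟩
  -- transitivity of `Q` on the `d j`
  have htr : ∀ j, j ≠ 0 → ∃ u ∈ h.Q, u * h.d 1 * u⁻¹ = h.d j := by
    intro j hj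
    by_cases hj1 : j = 1
    · exact ⟨1, h.Q.one_mem, by rw [hj1]; group⟩
    obtain ⟨g, hg, hgd⟩ := h.conj_d_trans j hj
    have hgV : g ∉ h.V := by
      intro hgV
      have h1 := conj_eq_iff.2 (V_comm_E h hgV (h.d_mem 1))
      rw [h1] at hgd
      exact hj1 (h.d_inj _ _ hgd).symm
    obtain ⟨u, hu, huu, huV⟩ := h.exists_u g hg hgV
    refine ⟨u, hu, ?_⟩
    have h1 := V_comm_E h huV (h.d_mem j)
    calc u * h.d 1 * u⁻¹ = (u * g⁻¹) * (g * h.d 1 * g⁻¹) * (u * g⁻¹)⁻¹ := by group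
      _ = (u * g⁻¹) * h.d j * (u * g⁻¹)⁻¹ := by rw [hgd]
      _ = h.d j := conj_eq_iff.2 h1
  -- the main computation
  have hcomp : ∀ (v : ↥(C h)) (j : Fin 5), (v : G) * h.d 1 * (v : G)⁻¹ = h.d j →
      π h v * e h * (π h v)⁻¹ * (e h)⁻¹ =
        π h ⟨h.d j * h.d 1, T_le_cent h ((T : Subgroup G).mul_mem (d_mem_T h j) (d_mem_T h 1))⟩ := by
    intro v j hv
    unfold e
    rw [← map_inv, ← map_inv, ← map_mul, ← map_mul, ← map_mul]
    congr 1
    apply Subtype.ext
    show (v : G) * h.d 1 * (v : G)⁻¹ * (h.d 1)⁻¹ = h.d j * h.d 1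
    rw [hv, d_inv]
  intro l
  constructor
  · intro hl
    obtain ⟨a, ha, rfl⟩ := exists_of_mem_im h hl
    -- it suffices to write `a = d j * d 1` mod `z`
    have key : ∀ j, j ≠ 0 → ((a : G) = h.d j * h.d 1 ∨ (a : G) = h.d j * h.d 1 * h.d 0) →
        ∃ v ∈ im h h.Q, π h a = v * e h * v⁻¹ * (e h)⁻¹ := by
      intro j hj haj
      obtain ⟨u, hu, hud⟩ := htr j hj
      refine ⟨π h ⟨u, Q_le_C h hu⟩, (π_mem_V h).2 hu, ?_⟩
      rw [hcomp ⟨u, Q_le_C h hu⟩ j hud, eq_comm, π_eq]
      exact haj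
    rcases Elem.mem_E_inter_Q h (mem_inf.1 ha).1 (mem_inf.1 ha).2 with h1 | h1 | ⟨i, j, hi, hj, hij, h1⟩
    · exact key 1 (by decide) (Or.inl (by rw [h1, d_sq]))
    · exact key 1 (by decide) (Or.inr (by rw [h1, d_sq, one_mul]))
    · have h12 : h.d 3 * h.d 4 = h.d 2 * h.d 1 * h.d 0 := by
        rw [Elem.d_comm h 2 1, ← Elem.t_mul_z h]
      have hzc : ∀ x ∈ h.E, h.d 0 * x = x * h.d 0 := fun x hx => E_comm h (h.d_mem 0) hx
      have h13 : h.d 2 * h.d 4 = h.d 3 * h.d 1 * h.d 0 := by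
        rw [Elem.d_comm h 3 1, ← t13 h, hzc _ (Elem.dd_mem h 1 3)]
      have h14 : h.d 2 * h.d 3 = h.d 4 * h.d 1 * h.d 0 := by
        rw [Elem.d_comm h 4 1, ← t14 h, hzc _ (Elem.dd_mem h 1 4)]
      have hall : ∀ i j : Fin 5, i ≠ 0 → j ≠ 0 → i ≠ j →
          ∃ k, k ≠ 0 ∧ (h.d i * h.d j = h.d k * h.d 1 ∨ h.d i * h.d j = h.d k * h.d 1 * h.d 0) := by
        intro i j hi hj hij
        fin_cases i <;> fin_cases j <;> [exact absurd rfl hi; exact absurd rfl hi; exact absurd rfl hi; exact absurd rfl hi; exact absurd rfl hi; exact absurd rfl hj; exact absurd rfl hij;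
                                         (exact ⟨2, by decide, Or.inl (Elem.d_comm h _ _)⟩); (exact ⟨3, by decide, Or.inl (Elem.d_comm h _ _)⟩);
                                         (exact ⟨4, by decide, Or.inl (Elem.d_comm h _ _)⟩); exact absurd rfl hj; (exact ⟨2, by decide, Or.inl rfl⟩); exact absurd rfl hij;
                                         (exact ⟨4, by decide, Or.inr h14⟩); (exact ⟨3, by decide, Or.inr h13⟩); exact absurd rfl hj; (exact ⟨3, by decide, Or.inl rfl⟩);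
                                         (exact ⟨4, by decide, Or.inr ((Elem.d_comm h _ _).trans h14)⟩); exact absurd rfl hij; (exact ⟨2, by decide, Or.inr h12⟩); exact absurd rfl hj;
                                         (exact ⟨4, by decide, Or.inl rfl⟩); (exact ⟨3, by decide, Or.inr ((Elem.d_comm h _ _).trans h13)⟩);
                                         (exact ⟨2, by decide, Or.inr ((Elem.d_comm h _ _).trans h12)⟩); exact absurd rfl hij]
      obtain ⟨k, hk, hk'⟩ := hall i j hi hj hij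
      exact key k hk (by rw [h1]; exact hk')
  · rintro ⟨v, hv, rfl⟩
    obtain ⟨a, ha, rfl⟩ := exists_of_mem_im h hv
    obtain ⟨j, hj⟩ := h.conj_d a (h.Q_le ha) 1
    have hj0 : j ≠ 0 := by
      rintro rfl
      have h2 : (a : G) * h.d 0 * (a : G)⁻¹ = h.d 0 := conj_eq_iff.2 (C_comm h a)
      have h3 : h.d 1 = h.d 0 := mul_left_cancel (mul_right_cancel (hj.trans h2.symm))
      exact absurd (h.d_inj _ _ h3) (by decide)
    rw [hcomp a j hj, π_mem_im h hzL]
    exact mem_inf.2 ⟨Elem.dd_mem h j 1, h.dd_mem_Q j 1 hj0 (by decide)⟩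

theorem card_EQ : Nat.card (h.E ⊓ h.Q : Subgroup G) = 8 := by
  let K : Subgroup h.E := h.Q.subgroupOf h.E
  have hidx : K.index = 2 := by
    rw [index_eq_two_iff]
    refine ⟨⟨h.d 1, h.d_mem 1⟩, fun b => ?_⟩
    by_cases hb : b ∈ K
    · right
      refine ⟨hb, fun h1 => ?_⟩
      have h2 : (b : G) * h.d 1 ∈ h.Q := h1
      have h3 : (b : G) ∈ h.Q := hb
      have h4 := h.Q.mul_mem (h.Q.inv_mem h3) h2
      rw [inv_mul_cancel_left] at h4
      exact h.d_not_mem_Q 1 (by decide) h4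
    · left
      exact ⟨Elem.E_mul_mem_Q h b.2 hb (h.d_mem 1) (h.d_not_mem_Q 1 (by decide)), hb⟩
  have h1 := K.card_mul_index
  rw [hidx, h.card_E] at h1
  have h2 : Nat.card (h.E ⊓ h.Q : Subgroup G) = Nat.card K := by
    have e : K.map h.E.subtype = h.E ⊓ h.Q := by
      rw [subgroupOf_map_subtype, inf_comm]
    rw [← e]
    exact card_map_of_injective h.E.subtype_injective
  omega

theorem card_L : Nat.card (im h (h.E ⊓ h.Q)) = 4 := by
  have h1 := card_im h (S := h.E ⊓ h.Q) (mem_inf.2 ⟨h.d_mem 0, h.z_mem_Q⟩)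
    (inf_le_right.trans (Q_le_C h))
  rw [card_EQ] at h1
  omega

end Quotient

end Cfsg.Agent.SylowU5.Quot
end

private theorem dce_fdcd7fadf32d : _root_.True := by
  try have : _root_.True := by simp only [_root_.Cfsg.Agent.SylowU5.Quot.q.congr_simp]
  exact _root_.True.intro
end

-- part: SylowU5/Final
section
set_option linter.all false
open scoped Cfsg.Agent.FastGrp

-- part: LargeExtra/EndUFive
section
/-!
# Endgame of case I of S1762 (helper915)

`fischer_hyps`: the hypotheses of S1614 for a simple group.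
`psu5_of_disj`: the conclusion of S1614 together with `128 ∣ |G|` leaves only `PSU(5,2)`.
-/

set_option autoImplicit false

namespace Cfsg.Agent.LargeExtra.EndUFive

universe u

theorem psu5_of_disj {G : Type u} [Group G] [Finite G] (h128 : 128 ∣ Nat.card G)
    (h : Nonempty (G ≃* Equiv.Perm (Fin 5)) ∨ Nonempty (G ≃* Equiv.Perm (Fin 6)) ∨
      ∃ (F : Type) (_ : Field F) (_ : Fintype F), Fintype.card F = 4 ∧
        (Nonempty (G ≃* Cfsg.PSU 4 F 2) ∨ Nonempty (G ≃* Cfsg.PSU 5 F 2))) :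
    ∃ (F : Type) (_ : Field F) (_ : Fintype F), Fintype.card F = 4 ∧ Nonempty (G ≃* Cfsg.PSU 5 F 2) := by
  rcases h with ⟨⟨e⟩⟩ | ⟨⟨e⟩⟩ | ⟨F, i1, i2, hF, ⟨⟨e⟩⟩ | ⟨⟨e⟩⟩⟩
  · exfalso
    rw [Nat.card_congr e.toEquiv, Nat.card_perm, Nat.card_eq_fintype_card, Fintype.card_fin] at h128
    revert h128
    decide
  · exfalso
    rw [Nat.card_congr e.toEquiv, Nat.card_perm, Nat.card_eq_fintype_card, Fintype.card_fin] at h128
    revert h128
    decide
  · exfalso
    rw [Nat.card_congr e.toEquiv] at h128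
    have h1 := Cfsg.Agent.S0280.result (F := F) (q := 2) (by rw [hF]; norm_num) 4 (by norm_num)
    obtain ⟨k, hk⟩ := h128
    rw [hk] at h1
    norm_num [Finset.prod_range_succ, Nat.even_iff] at h1
    omega
  · exact ⟨F, i1, i2, hF, ⟨e⟩⟩

end Cfsg.Agent.LargeExtra.EndUFive
end

-- part: SylowU5/Last
section
/-!
# Last step of S0513 (helper881)

The conclusion of S1614 together with `1024 ∣ |G|` leaves only `PSU 5 F 2`, for any field `F` with
four elements in any universe.
-/

set_option autoImplicit false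

namespace Cfsg.Agent.SylowU5.Last

theorem last {G : Type*} [Group G] [Finite G] (hG : 1024 ∣ Nat.card G)
    (h : Nonempty (G ≃* Equiv.Perm (Fin 5)) ∨ Nonempty (G ≃* Equiv.Perm (Fin 6)) ∨
      ∃ (F : Type) (_ : Field F) (_ : Fintype F), Fintype.card F = 4 ∧
        (Nonempty (G ≃* Cfsg.PSU 4 F 2) ∨ Nonempty (G ≃* Cfsg.PSU 5 F 2)))
    {F : Type*} [Field F] [Fintype F] (hF : Fintype.card F = 4) : Nonempty (G ≃* Cfsg.PSU 5 F 2) := by
  obtain ⟨K, i1, i2, hK, ⟨e⟩⟩ := LargeExtra.EndUFive.psu5_of_disj (dvd_trans (by norm_num) hG) h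
  obtain ⟨φ⟩ : Nonempty (K ≃+* F) := ⟨FiniteField.ringEquivOfCardEq (K := K) (K' := F) (by rw [hK, hF])⟩
  exact ⟨e.trans (LieClassical.FieldTransfer.psuCongr 5 2 φ)⟩

end Cfsg.Agent.SylowU5.Last
end

-- part: SylowU5/Final
section
/-! The end of the proof of S0513. -/

set_option autoImplicit false

namespace Cfsg.Agent.SylowU5.Final

universe u

open Cfsg
open Cfsg.Agent.SylowU5.Basic Cfsg.Agent.SylowU5.Elem Cfsg.Agent.SylowU5.SolvT
  Cfsg.Agent.SylowU5.Fus Cfsg.Agent.SylowU5.Assemble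

theorem zstar : Cfsg.Agent.R01.Closing.ZStar.{u} := by
  intro K _ _ P u hu huP hiso
  exact Cfsg.Agent.S0215.result P u hu huP hiso

theorem oddOrder : OddOrder.{u} := by
  intro K _ _ hK
  exact Cfsg.Agent.S0205.result hK

theorem formSolv : CentSolvCore.FormSolv.{u} := by
  intro N _ _ V h1 h2 h3 q h4 h5 h6 h7 n h8 h9 h10 h11
  exact FormSolvable.isSolvable_of_form V h1 h2 h3 q h4 h5 h6 h7 n h8 h9 h10 h11

/-- from the 3-transposition property to the unitary group -/
theorem final {G : Type u} [Group G] [Finite G] [IsSimpleGroup G] {T : Sylow 2 G}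
    {h : U5T (T : Subgroup G)} (F : U5Fus T h)
    (hgeo : ∀ x ∈ D h, ∀ y ∈ D h, x * y = y * x ∨ orderOf (x * y) = 3)
    {K : Type*} [Field K] [Fintype K] (hK : Fintype.card K = 4) :
    Nonempty (G ≃* Cfsg.PSU 5 K 2) :=
  Last.last (dvd_card h)
    (Cfsg.Agent.S1614.result (fun N hN hs => hsol h N hN hs) hperf (isThreeTranspositionClass hgeo)
      (h.d 0) (z_mem_D h) (solvable_closure F)) hK

end Cfsg.Agent.SylowU5.Final
end
end

-- part: SylowU5/MainFus
section
set_option linter.all false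
open scoped Cfsg.Agent.FastGrp

-- part: SylowU5/NormOf
section
/-!
# Strongly closed abelian subgroups and solvable centralizers (S0513)
-/

set_option autoImplicit false
open Cfsg

namespace Cfsg.Agent.SylowU5.NormOf

open Subgroup

/-- an element of `C` normalizing `V` in `C` normalizes `V` -/
theorem norm_aux {X : Type*} [Group X] {V C : Subgroup X} (hVC : V ≤ C) {n : C}
    (hn : n ∈ normalizer ((V.subgroupOf C : Subgroup C) : Set C)) :
    C.subtype n ∈ normalizer (V : Set X) := by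
  rw [mem_normalizer_iff]
  intro y
  have hn' := (mem_normalizer_iff.1 hn)
  constructor
  · intro hy
    exact (hn' ⟨y, hVC hy⟩).1 hy
  · intro hy
    have hyC : y ∈ C := by
      have h3 := hVC hy
      have h4 : (n : X)⁻¹ * ((n : X) * y * (n : X)⁻¹) * (n : X) ∈ C :=
        C.mul_mem (C.mul_mem (C.inv_mem n.2) h3) n.2
      have e4 : (n : X)⁻¹ * ((n : X) * y * (n : X)⁻¹) * (n : X) = y := by group
      rwa [e4] at h4
    exact (hn' ⟨y, hyC⟩).2 hy

/-- strong closure passes to every 2-group containing `V` -/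
theorem sc_of {X : Type*} [Group X] [Finite X] (P : Sylow 2 X) (V : Subgroup X)
    (hVP : V ≤ P) (hsc : ∀ g : X, ∀ x ∈ V, g * x * g⁻¹ ∈ P → g * x * g⁻¹ ∈ V) {R : Subgroup X}
    (hR : IsPGroup 2 R) (hVR : V ≤ R) {g x : X} (hx : x ∈ V) (hg : g * x * g⁻¹ ∈ R) :
    g * x * g⁻¹ ∈ V := by
  obtain ⟨Q, hQ⟩ := hR.exists_le_sylow
  obtain ⟨k, hk⟩ := MulAction.exists_smul_eq X P Q
  have h1 : ∀ w ∈ R, k⁻¹ * w * k ∈ P := by
    intro w hw
    have h2 := hQ hw
    rw [← hk, Sylow.coe_subgroup_smul] at h2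
    obtain ⟨y, hy, hyw⟩ := h2
    have h3 : k * y * k⁻¹ = w := hyw
    have h4 : k⁻¹ * w * k = y := by rw [← h3]; group
    rw [h4]; exact hy
  have hkV : ∀ x ∈ V, k⁻¹ * x * k ∈ V := by
    intro x hx
    have := hsc k⁻¹ x hx (by rw [inv_inv]; exact h1 x (hVR hx))
    rwa [inv_inv] at this
  have hkV' : ∀ x ∈ V, k * x * k⁻¹ ∈ V := by
    have hfin : Finite V := inferInstance
    let f : V → V := fun x => ⟨k⁻¹ * x * k, hkV x x.2⟩
    have hf : Function.Injective f := by
      intro a b hab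
      have : k⁻¹ * (a : X) * k = k⁻¹ * b * k := congrArg Subtype.val hab
      exact Subtype.ext (mul_left_cancel (mul_right_cancel this))
    intro x hx
    obtain ⟨y, hy⟩ := (Finite.injective_iff_surjective.1 hf) ⟨x, hx⟩
    have h5 : k⁻¹ * (y : X) * k = x := congrArg Subtype.val hy
    have h6 : k * x * k⁻¹ = y := by rw [← h5]; group
    rw [h6]; exact y.2
  have h7 := h1 _ hg
  have e1 : k⁻¹ * (g * x * g⁻¹) * k = (k⁻¹ * g) * x * (k⁻¹ * g)⁻¹ := by group
  rw [e1] at h7
  have h8 := hkV' _ (hsc (k⁻¹ * g) x hx h7)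
  have e2 : k * (k⁻¹ * g * x * (k⁻¹ * g)⁻¹) * k⁻¹ = g * x * g⁻¹ := by group
  rwa [e2] at h8

/-- `C(u) = O(C(u)) (C(u) ∩ N(V))` for a strongly closed abelian subgroup `V` and `u ∈ V` with
solvable centralizer -/
theorem norm_of {X : Type*} [Group X] [Finite X] (P : Sylow 2 X) (V : Subgroup X)
    (hVP : V ≤ P) (hVc : ∀ a ∈ V, ∀ b ∈ V, a * b = b * a)
    (hsc : ∀ g : X, ∀ x ∈ V, g * x * g⁻¹ ∈ P → g * x * g⁻¹ ∈ V) (u : X) (hu : u ∈ V)
    (hs : Group.IsSolvable ↥(Subgroup.centralizer ({u} : Set X))) :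
    Subgroup.centralizer {u} ≤ centralizerPPrimeCore 2 u ⊔ Subgroup.normalizer (V : Set X) := by
  have h2 : Fact (Nat.Prime 2) := ⟨Nat.prime_two⟩
  have hVC : V ≤ centralizer ({u} : Set X) := fun a ha =>
    mem_centralizer_singleton_iff.2 (hVc a ha u hu)
  set C : Subgroup X := centralizer ({u} : Set X) with hC
  let V' : Subgroup C := V.subgroupOf C
  have hVp : IsPGroup 2 V := P.isPGroup'.to_le hVP
  have hV' : IsPGroup 2 V' := hVp.comap_of_injective C.subtype C.subtype_injective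
  obtain ⟨R, hR⟩ := hV'.exists_le_sylow
  have hRp : IsPGroup 2 ((R : Subgroup C).map C.subtype) := R.isPGroup'.map _
  have hVR : V ≤ (R : Subgroup C).map C.subtype := fun x hx =>
    ⟨⟨x, hVC hx⟩, hR (show (⟨x, hVC hx⟩ : C) ∈ V' from hx), rfl⟩
  have key := SC.sup_normalizer_eq_top (Z := C) R V' hR
    (fun a ha b hb => Subtype.ext (hVc a ha b hb))
    (fun a ha g hg => by
      show (g : X) * (a : X) * (g : X)⁻¹ ∈ V
      exact sc_of P V hVP hsc hRp hVR ha ⟨g * a * g⁻¹, hg, rfl⟩)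
  intro x hx
  have hx1 : (⟨x, hx⟩ : C) ∈ pPrimeCore 2 C ⊔ normalizer (V' : Set C) := by rw [key]; trivial
  have hx2 : x ∈ (pPrimeCore 2 C ⊔ normalizer (V' : Set C)).map C.subtype := ⟨_, hx1, rfl⟩
  rw [Subgroup.map_sup] at hx2
  have hle : (normalizer (V' : Set C)).map C.subtype ≤ normalizer (V : Set X) := by
    rintro _ ⟨n, hn, rfl⟩
    exact norm_aux hVC hn
  exact (sup_le_sup (le_refl _) hle : _ ≤ centralizerPPrimeCore 2 u ⊔ normalizer (V : Set X)) hx2

end Cfsg.Agent.SylowU5.NormOf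
end

-- part: SylowU5/CaseB
section
/-!
# Case B of S0513: no involution of `Q \ E` is fused into `E`

Then `E` is strongly closed, all the centralizers of its involutions are solvable, and theorem T1
shows that `E` is normal.
-/

set_option autoImplicit false
set_option linter.unusedVariables false
set_option linter.unusedSectionVars false
open Cfsg

namespace Cfsg.Agent.SylowU5.CaseB

universe u

open Subgroup Cfsg.Agent.SylowU5.Basic Cfsg.Agent.SylowU5.SolvT Cfsg.Agent.SylowU5.Fusion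

section

variable {G : Type u} [Group G] [Finite G] {T : Sylow 2 G} (h : U5T (T : Subgroup G))
include h

/-- `E` is strongly closed in `T` -/
theorem sc_T (hB : ∀ u ∈ h.Q, u * u = 1 → u ∉ h.E → ∀ g : G, g * u * g⁻¹ ∉ h.E) {e g : G}
    (he : e ∈ h.E) (hg : g * e * g⁻¹ ∈ (T : Subgroup G)) : g * e * g⁻¹ ∈ h.E := by
  by_contra hne
  have hyy : g * e * g⁻¹ * (g * e * g⁻¹) = 1 := by
    calc g * e * g⁻¹ * (g * e * g⁻¹) = g * (e * e) * g⁻¹ := by group
      _ = 1 := by rw [h.E_sq e he]; group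
  rcases h.invol _ hg hyy with h1 | h1
  · exact hne h1
  · refine hB _ h1 hyy hne g⁻¹ ?_
    have e1 : g⁻¹ * (g * e * g⁻¹) * g⁻¹⁻¹ = e := by group
    rw [e1]; exact he

/-- `E` is strongly closed in every 2-group containing it -/
theorem sc_R (hB : ∀ u ∈ h.Q, u * u = 1 → u ∉ h.E → ∀ g : G, g * u * g⁻¹ ∉ h.E) {R : Subgroup G}
    (hR : IsPGroup 2 R) (hER : h.E ≤ R) {e g : G} (he : e ∈ h.E) (hg : g * e * g⁻¹ ∈ R) :
    g * e * g⁻¹ ∈ h.E := by
  obtain ⟨k, hk, hkR⟩ := exists_conj_T h hR hER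
  have h1 := hkR _ hg
  have e1 : k⁻¹ * (g * e * g⁻¹) * k = (k⁻¹ * g) * e * (k⁻¹ * g)⁻¹ := by group
  rw [e1] at h1
  have h2 := sc_T h hB he h1
  have h3 := norm_conj h hk h2
  have e2 : k * (k⁻¹ * g * e * (k⁻¹ * g)⁻¹) * k⁻¹ = g * e * g⁻¹ := by group
  rwa [e2] at h3

/-- an element of `C` normalizing `E` in `C` normalizes `E` -/
theorem norm_aux {C : Subgroup G} (hEC : h.E ≤ C) {n : C}
    (hn : n ∈ normalizer ((h.E.subgroupOf C : Subgroup C) : Set C)) :
    C.subtype n ∈ normalizer (h.E : Set G) := by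
  rw [mem_normalizer_iff]
  intro y
  have hn' := (mem_normalizer_iff.1 hn)
  constructor
  · intro hy
    have := (hn' ⟨y, hEC hy⟩).1 hy
    exact this
  · intro hy
    have hyC : y ∈ C := by
      have h3 := hEC hy
      have h4 : (n : G)⁻¹ * ((n : G) * y * (n : G)⁻¹) * (n : G) ∈ C :=
        C.mul_mem (C.mul_mem (C.inv_mem n.2) h3) n.2
      have e4 : (n : G)⁻¹ * ((n : G) * y * (n : G)⁻¹) * (n : G) = y := by group
      rwa [e4] at h4
    exact (hn' ⟨y, hyC⟩).2 hy

/-- `C(e) = O(C(e)) (C(e) ∩ N(E))` -/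
theorem centralizer_le (hB : ∀ u ∈ h.Q, u * u = 1 → u ∉ h.E → ∀ g : G, g * u * g⁻¹ ∉ h.E) {e : G}
    (he : e ∈ h.E) (hs : Group.IsSolvable ↥(centralizer ({e} : Set G))) :
    centralizer {e} ≤ centralizerPPrimeCore 2 e ⊔ normalizer (h.E : Set G) := by
  have h2 : Fact (Nat.Prime 2) := ⟨Nat.prime_two⟩
  have hEC : h.E ≤ centralizer ({e} : Set G) := fun a ha =>
    mem_centralizer_singleton_iff.2 (E_comm h ha he)
  set C : Subgroup G := centralizer ({e} : Set G) with hC
  let E' : Subgroup C := h.E.subgroupOf C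
  have hE' : IsPGroup 2 E' := by
    rintro ⟨x, hx⟩
    refine ⟨1, ?_⟩
    apply Subtype.ext
    apply Subtype.ext
    show ((x : C) : G) ^ 2 ^ 1 = 1
    rw [pow_one, pow_two]
    exact h.E_sq _ hx
  obtain ⟨R, hR⟩ := hE'.exists_le_sylow
  have hRp : IsPGroup 2 ((R : Subgroup C).map C.subtype) := R.isPGroup'.map _
  have hER : h.E ≤ (R : Subgroup C).map C.subtype := fun x hx =>
    ⟨⟨x, hEC hx⟩, hR (show (⟨x, hEC hx⟩ : C) ∈ E' from hx), rfl⟩
  have key := SC.sup_normalizer_eq_top (Z := C) R E' hR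
    (fun a ha b hb => Subtype.ext (E_comm h ha hb))
    (fun a ha g hg => by
      show (g : G) * (a : G) * (g : G)⁻¹ ∈ h.E
      exact sc_R h hB hRp hER ha ⟨g * a * g⁻¹, hg, rfl⟩)
  intro x hx
  have hx1 : (⟨x, hx⟩ : C) ∈ pPrimeCore 2 C ⊔ normalizer (E' : Set C) := by rw [key]; trivial
  have hx2 : x ∈ (pPrimeCore 2 C ⊔ normalizer (E' : Set C)).map C.subtype := ⟨_, hx1, rfl⟩
  rw [Subgroup.map_sup] at hx2
  have hle : (normalizer (E' : Set C)).map C.subtype ≤ normalizer (h.E : Set G) := by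
    rintro _ ⟨n, hn, rfl⟩
    exact norm_aux h hEC hn
  exact (sup_le_sup (le_refl _) hle : _ ≤ centralizerPPrimeCore 2 e ⊔ normalizer (h.E : Set G)) hx2

end

variable {G : Type u} [Group G] [Finite G] [IsSimpleGroup G] {T : Sylow 2 G}
  (h : U5T (T : Subgroup G))
include h

/-- Case B does not occur. -/
theorem false_of_caseB (hFT : OddOrder.{u})
    (hB : ∀ u ∈ h.Q, u * u = 1 → u ∉ h.E → ∀ g : G, g * u * g⁻¹ ∉ h.E)
    (hz : Group.IsSolvable ↥(centralizer ({h.d 0} : Set G))) : False := by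
  have hsolv : ∀ a ∈ h.E, a ≠ 1 → Group.IsSolvable ↥(centralizer ({a} : Set G)) :=
    fun a ha ha1 => Prime.solvable_E h hFT hz ha ha1
  have key := R15.NormalElem.sup_normalizer_eq_top T h.E (isWeaklyClosed h)
    (fun a ha b hb => E_comm h ha hb) h.E_sq (by rw [h.card_E]; norm_num)
    (z := h.d 0) (v := h.d 1 * h.d 2)
    (fun x hxx hxc hxT g hg => by
      refine sc_T h hB ?_ hg
      rcases h.center_T x hxT (fun g hg => mem_centralizer_singleton_iff.1 (hxc hg)) with h1 | h1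
      · rw [h1]; exact h.E.one_mem
      · rw [h1]; exact h.d_mem 0)
    (d_mem_T h 0) (T_le_cent h) (d_sq h 0) (h.d_ne_one 0) (Elem.dd_mem h 1 2)
    (h.dd_ne_one 1 2 (by decide))
    (fun g hg => by
      have h1 : g * h.d 0 * g⁻¹ ∈ (T : Subgroup G) := by
        rw [hg]; exact E_le_T h (Elem.dd_mem h 1 2)
      obtain ⟨i, hi⟩ := z_fus h h1
      exact h.dd_ne_d 1 2 i (by decide) (by rw [← hg, hi]))
    hsolv (fun a ha ha1 => centralizer_le h hB ha (hsolv a ha ha1))
  have hn : (pPrimeCore 2 G).Normal := Cfsg.Agent.Lib.Cores.pPrimeCore_normal 2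
  have hcT : Nat.card (T : Subgroup G) = 1024 := h.card_T
  rcases hn.eq_bot_or_eq_top with h1 | h1
  · rw [h1, bot_sup_eq] at key
    have hEn : h.E.Normal := normalizer_eq_top_iff.1 key
    rcases hEn.eq_bot_or_eq_top with h2 | h2
    · have := h.card_E
      rw [h2, Subgroup.card_bot] at this
      omega
    · have h3 := h.card_E
      have h4 : Nat.card (T : Subgroup G) ≤ Nat.card h.E := by
        rw [h2]
        exact Subgroup.card_le_of_le le_top
      omega
  · have h2 : Odd (Nat.card (pPrimeCore 2 G)) :=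
      Nat.coprime_two_right.mp (Cfsg.Agent.Lib.Cores.pPrimeCore_coprime 2)
    rw [h1, Subgroup.card_top] at h2
    have h3 : 2 ∣ Nat.card G := dvd_trans (by rw [hcT]; norm_num) (Subgroup.card_subgroup_dvd_card (T : Subgroup G))
    exact (Nat.not_even_iff_odd.2 h2) (even_iff_two_dvd.2 h3)

end Cfsg.Agent.SylowU5.CaseB
end

-- part: SylowU5/MainFus
section
/-!
# The fusion structure `U5Fus` of a simple group with Sylow 2-subgroups of type PSU(5,2)
-/

set_option autoImplicit false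
set_option linter.unusedVariables false
set_option linter.unusedSectionVars false
open Cfsg

namespace Cfsg.Agent.SylowU5.MainFus

universe u

open Subgroup Cfsg.Agent.SylowU5.Basic Cfsg.Agent.SignalizersComponents.RelSylow
  Cfsg.Agent.SylowU5.Fusion Cfsg.Agent.SylowU5.Prime Cfsg.Agent.SylowU5.Closed
  Cfsg.Agent.SylowU5.SolvT Cfsg.Agent.SylowU5.Rel Cfsg.Agent.SylowU5.Quot

variable {G : Type u} [Group G] [Finite G] [IsSimpleGroup G] {T : Sylow 2 G}
  (h : U5T (T : Subgroup G))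

/-- `C_G(z)` is solvable if all `C(z) ∩ C(u)` are, `u ≠ z` an involution of `Q`. -/
theorem solvable_z (hFT : OddOrder.{u}) (hT2 : CentSolvCore.FormSolv.{u})
    (hcl : ∀ g : G, g * h.d 0 = h.d 0 * g → ∀ x ∈ h.Q, g * x * g⁻¹ ∈ (T : Subgroup G) →
      g * x * g⁻¹ ∈ h.Q)
    (hu : ∀ u ∈ h.Q, u * u = 1 → u ≠ 1 → u ≠ h.d 0 →
      Group.IsSolvable ↥(centralizer ({h.d 0} : Set G) ⊓ centralizer ({u} : Set G))) :
    Group.IsSolvable ↥(centralizer ({h.d 0} : Set G)) := by
  have hsolv : ∀ u ∈ im h h.Q, u ≠ 1 → q h u = 0 →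
      Group.IsSolvable ↥(centralizer ({u} : Set (X h))) := by
    intro x hx hx1 hqx
    obtain ⟨a, ha, rfl⟩ := exists_of_mem_im h hx
    rw [q_π, s_zero_iff] at hqx
    apply centralizer_solvable
    apply hu a ha hqx
    · intro h1; exact hx1 ((π_one h).2 (Or.inl h1))
    · intro h1; exact hx1 ((π_one h).2 (Or.inr h1))
  have hX : Group.IsSolvable (X h) := by
    refine CentSolvCore.isSolvable_of hFT
      (fun K _ _ P v h1 h2 h3 => Cfsg.Agent.S0215.result P v h1 h2 h3) hT2 (P h) (im h h.Q)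
      (im h (h.E ⊓ h.Q)) (V_le h) (card_V h) (V_comm h) (V_sq h) (V_weak h hcl) (q h) (q_one h)
      (q_quad h) (q_nd h) (V_gen h) (fun g x _ _ => q_conj h g x)
      (fun g x hx _ hg => V_closed h hcl g x hx hg) (e h) (e_mem h) (e_sq h) (e_not_V h) (mod_V h)
      (cent_n h) (center_P h) hsolv ?_ ?_ (card_L h) ?_ (mem_L_iff h)
    · intro u hu hu1 hqu
      exact NormOf.norm_of (P h) (im h h.Q) (V_le h) (V_comm h) (V_closed h hcl) u hu
        (hsolv u hu hu1 hqu)
    · exact map_mono (fun a ha => (mem_inf.1 (mem_subgroupOf.1 ha)).2)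
    · intro x hx
      obtain ⟨a, ha, rfl⟩ := exists_of_mem_im h hx
      rw [q_π, s_zero_iff]
      exact h.E_sq _ (mem_inf.1 ha).1
  have hZ : Group.IsSolvable (Z h) := by
    have hp : Nat.card (Z h) = 2 := card_Z h
    have : Fact (Nat.Prime 2) := ⟨Nat.prime_two⟩
    have hc : IsCyclic (Z h) := isCyclic_of_prime_card hp
    let _ : CommGroup (Z h) := IsCyclic.commGroup
    infer_instance
  exact (Group.isSolvable_iff_subgroup_quotient (H := Z h)).mpr ⟨hZ, hX⟩

/-- The main result on fusion. -/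
theorem u5Fus_of (hFT : OddOrder.{u}) (hT2 : CentSolvCore.FormSolv.{u})
    (hcy : ∀ y ∈ (T : Subgroup G), y ∉ h.Q → y * y = h.d 0 →
      256 ≤ Nat.card {s : G // s ∈ (T : Subgroup G) ∧ (s * y = y * s ∨ s * y = y * s * h.d 0)})
    (hE : Group.IsSolvable ↥(centralizer (h.E : Set G)))
    (hA : ∀ u g : G, u ∈ h.Q → u * u = 1 → u ∉ h.E → g * u * g⁻¹ ∈ h.E →
      ∀ u' ∈ h.Q, u' * u' = 1 → u' ≠ 1 → u' ≠ h.d 0 →
        ∃ c : G, c * h.d 0 = h.d 0 * c ∧ c * u' * c⁻¹ = h.d 1 * h.d 2) : U5Fus T h := by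
  have hcl : ∀ g : G, g * h.d 0 = h.d 0 * g → ∀ x ∈ h.Q, g * x * g⁻¹ ∈ (T : Subgroup G) →
      g * x * g⁻¹ ∈ h.Q := fun g hg x hx hgx => strongly_closed h hcy hg hx hgx
  by_cases hcase : ∃ u ∈ h.Q, u * u = 1 ∧ u ∉ h.E ∧ ∃ g : G, g * u * g⁻¹ ∈ h.E
  · obtain ⟨u, hu, huu, huE, g, hg⟩ := hcase
    have hfus := hA u g hu huu huE hg
    refine ⟨fun g hg => z_fus h hg, fun g hg i => perm h hg i, fun π hπ => E_alt h hπ, hfus, ?_⟩
    apply solvable_z h hFT hT2 hcl
    intro v hv hvv hv1 hvz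
    obtain ⟨c, hc, hcv⟩ := hfus v hv hvv hv1 hvz
    refine solvable_of_conj c ?_ (solvable_zt h hFT hE)
    intro a ha
    have h0 := mem_centralizer_singleton_iff.1 (mem_inf.1 ha).1
    have h1 := mem_centralizer_singleton_iff.1 (mem_inf.1 ha).2
    rw [mem_inf, mem_centralizer_singleton_iff, mem_centralizer_singleton_iff, ← hcv]
    have hc' : c⁻¹ * h.d 0 = h.d 0 * c⁻¹ := by
      calc c⁻¹ * h.d 0 = c⁻¹ * (h.d 0 * c) * c⁻¹ := by group
        _ = c⁻¹ * (c * h.d 0) * c⁻¹ := by rw [hc]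
        _ = _ := by group
    constructor
    · calc c * a * c⁻¹ * h.d 0 = c * a * (c⁻¹ * h.d 0) := by group
        _ = c * (a * h.d 0) * c⁻¹ := by rw [hc']; group
        _ = (c * h.d 0) * a * c⁻¹ := by rw [h0]; group
        _ = _ := by rw [hc]; group
    · calc c * a * c⁻¹ * (c * v * c⁻¹) = c * (a * v) * c⁻¹ := by group
        _ = c * (v * a) * c⁻¹ := by rw [h1]
        _ = _ := by group
  · push Not at hcase
    exfalso
    have hB : ∀ u ∈ h.Q, u * u = 1 → u ∉ h.E → ∀ g : G, g * u * g⁻¹ ∉ h.E := hcase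
    apply CaseB.false_of_caseB h hFT hB
    apply solvable_z h hFT hT2 hcl
    intro v hv hvv hv1 hvz
    by_cases hvE : v ∈ h.E
    · rcases Elem.mem_E_inter_Q h hvE hv with h1 | h1 | ⟨i, j, hi, hj, hij, h1⟩
      · exact absurd h1 hv1
      · exact absurd h1 hvz
      · rw [h1]
        exact solvable_zdd h hFT hE hi hj hij
    · exact CaseBSolv.solvable_zu h hFT hE hB hv hvv hvE

end Cfsg.Agent.SylowU5.MainFus
end
end

-- part: S0513
section
prune_inst 0x400100400000000000000001020001c4282000000004b00000000020006800c4100020620b820061011008824003e8060020000094010000020008200411c01a0040022c20040b00001000040e801180c00000000000000000000000000000000000000000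
set_option linter.all false
open scoped Cfsg.Agent.FastGrp

-- part: SylowU5/CentY
section
/-!
The extra fact on the 2-group of order 1024: for `y ∉ Q` with `y² = z`, the centralizer of `y` modulo `z` has
order at least 256.
-/

set_option autoImplicit false
set_option maxRecDepth 100000

namespace Cfsg.Agent.SylowU5.CentY

open Cfsg.Agent.SylowU5.Basic Cfsg.Agent.SylowU5.Model Cfsg.Agent.SylowU5.Model.M0

theorem c_centy : allB (fun y => imp (!(fQ y) && Nat.beq (cm y y) 1)
    (Nat.ble 256 (countB (fun s => comz s y) 1024))) 1024 = true := by decide +kernel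

theorem cent_y (y : M0) (hy : y ∉ M0.Q) (hyy : y * y = M0.d 0) :
    256 ≤ Nat.card {s : M0 // s * y = y * s ∨ s * y = y * s * M0.d 0} := by
  have h := (imp_iff _ _).1 (allB_apply c_centy y.lt) (by
    rw [Bool.and_eq_true, Bool.not_eq_true', ← Bool.not_eq_true]
    refine ⟨hy, ?_⟩
    rw [eq_iff] at hyy
    rw [d0_n] at hyy
    exact hyy)
  have h1 := Nat.le_of_ble_eq_true h
  rw [← natCard_codes] at h1
  refine h1.trans (le_of_eq (Nat.card_congr (Equiv.subtypeEquivRight fun s => ?_)))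
  exact comz_iff

/-- The extra fact. -/
def CY {G : Type*} [Group G] {T : Subgroup G} (h : U5T T) : Prop :=
  ∀ y ∈ T, y ∉ h.Q → y * y = h.d 0 →
    256 ≤ Nat.card {s : G // s ∈ T ∧ (s * y = y * s ∨ s * y = y * s * h.d 0)}

theorem cy_map {G : Type*} [Group G] (f : M0 →* G) (hf : Function.Injective f) :
    CY (M0.u5T.map f hf) := by
  rintro _ ⟨y, -, rfl⟩ hy hyy
  have hy' : y ∉ M0.Q := fun h => hy (Subgroup.mem_map_of_mem f h)
  have hyy' : y * y = M0.d 0 := hf (by rw [map_mul]; exact hyy)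
  refine (cent_y y hy' hyy').trans ?_
  have hfin : Finite ((⊤ : Subgroup M0).map f) := by
    have h1 : ((⊤ : Subgroup M0).map f : Set G).Finite := by
      rw [Subgroup.coe_map]
      exact Set.Finite.image f (Set.toFinite _)
    exact h1
  have hfin2 : Finite {s : G // s ∈ (⊤ : Subgroup M0).map f ∧
      (s * f y = f y * s ∨ s * f y = f y * s * (M0.u5T.map f hf).d 0)} := by
    refine Finite.of_injective (β := ↥((⊤ : Subgroup M0).map f)) (fun s => ⟨s.1, s.2.1⟩) ?_
    intro a b hab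
    apply Subtype.ext
    exact congrArg (Subtype.val : ↥((⊤ : Subgroup M0).map f) → G) hab
  refine Nat.card_le_card_of_injective (fun s => ⟨f s.1, Subgroup.mem_map_of_mem f
    (Subgroup.mem_top _), ?_⟩) ?_
  · rcases s.2 with h | h
    · left; rw [← map_mul, ← map_mul, h]
    · right
      show f s.1 * f y = f y * f s.1 * f (M0.d 0)
      rw [← map_mul, ← map_mul, ← map_mul, h]
  · intro a b hab
    apply Subtype.ext
    have h3 : f a.1 = f b.1 := congrArg Subtype.val hab
    exact hf h3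

/-- A Sylow 2-subgroup of type `PSU(5,2)` satisfies `U5T` and the extra fact. -/
theorem exists_U5T {G : Type*} [Group G] (S : Subgroup G)
    {F : Type*} [Field F] [Fintype F] (hF : Fintype.card F = 4) (P : Sylow 2 (Cfsg.PSU 5 F 2))
    (hS : (Nonempty (S ≃* (P : Subgroup (Cfsg.PSU 5 F 2))) :)) :
    ∃ h : U5T S, ∀ y ∈ S, y ∉ h.Q → y * y = h.d 0 →
      256 ≤ Nat.card {s : G // s ∈ S ∧ (s * y = y * s ∨ s * y = y * s * h.d 0)} := by
  obtain ⟨e1⟩ := hS
  obtain ⟨e2⟩ := Iso.nonempty_mulEquiv hF P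
  let e := e2.trans e1.symm
  let f : M0 →* G := S.subtype.comp (e : M0 →* S)
  have hf : Function.Injective f := S.subtype_injective.comp e.injective
  have hr : (⊤ : Subgroup M0).map f = S := by
    rw [← MonoidHom.range_eq_map]
    ext x
    constructor
    · rintro ⟨y, rfl⟩
      exact (e y).2
    · intro hx
      obtain ⟨y, hy⟩ := e.surjective ⟨x, hx⟩
      exact ⟨y, congrArg Subtype.val hy⟩
  have key : ∃ h : U5T ((⊤ : Subgroup M0).map f), CY h := ⟨_, cy_map f hf⟩
  rw [hr] at key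
  exact key

end Cfsg.Agent.SylowU5.CentY
end

-- part: SylowU5/CaseA
section
/-!
# S0513, case A: a noncentral involution `u ∈ Q` outside `E` is conjugate into `E`

Then all the noncentral involutions of `Q` are conjugate in `C(z)`.
-/

set_option autoImplicit false
set_option linter.unusedVariables false
set_option linter.unusedSectionVars false
set_option linter.style.haveILetI false
open Cfsg

namespace Cfsg.Agent.SylowU5.CaseA

universe u

open Subgroup Cfsg.Agent.SylowU5.Basic Cfsg.Agent.SignalizersComponents.RelSylow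
  Cfsg.Agent.SylowU5.Fusion Cfsg.Agent.SylowU5.Prime

section Perm

open Equiv.Perm

set_option maxRecDepth 1000000
set_option maxHeartbeats 4000000

/-- the underlying finite set of the four-group -/
def S4 : Finset (Equiv.Perm (Fin 5)) := {1, PermFive.a0, PermFive.b0, PermFive.a0 * PermFive.b0}

theorem mem_S4 : ∀ π : Equiv.Perm (Fin 5), π 0 = 0 → (∀ i, π (π i) = i) →
    (π ≠ 1 → ∀ i, i ≠ 0 → π i ≠ i) → π ∈ S4 := by (set_option synthInstance.maxSize 9000 in open scoped Cfsg.Agent.Lib.FastPerm in decide +kernel)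

theorem S4_zero : ∀ π ∈ S4, π 0 = 0 := by decide +kernel

theorem S4_mul : ∀ π ∈ S4, ∀ σ ∈ S4, π * σ ∈ S4 := by (set_option synthInstance.maxSize 9000 in open scoped Cfsg.Agent.Lib.FastPerm in decide +kernel)

theorem S4_inv : ∀ π ∈ S4, π⁻¹ ∈ S4 := by (set_option synthInstance.maxSize 9000 in open scoped Cfsg.Agent.Lib.FastPerm in decide +kernel)

theorem S4_comm : ∀ π ∈ S4, ∀ σ ∈ S4, σ * π * σ⁻¹ = π := by (set_option synthInstance.maxSize 9000 in open scoped Cfsg.Agent.Lib.FastPerm in decide +kernel)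

theorem S4_conj : ∀ π ∈ S4, ∀ π' ∈ S4, π ≠ 1 → π' ≠ 1 →
    ∃ σ : Equiv.Perm (Fin 5), sign σ = 1 ∧ σ 0 = 0 ∧ σ * π * σ⁻¹ = π' := by (set_option synthInstance.maxSize 9000 in open scoped Cfsg.Agent.Lib.FastPerm in decide +kernel)

theorem S4_pair : ∀ π ∈ S4,
    (π 1 = 1 ∧ π 2 = 2) ∨ (π 1 = 2 ∧ π 2 = 1) ∨ (π 1 = 3 ∧ π 2 = 4) ∨ (π 1 = 4 ∧ π 2 = 3) := by
  decide +kernel

end Perm

variable {G : Type u} [Group G] [Finite G] {T : Sylow 2 G} (h : U5T (T : Subgroup G))
include h

/-- the elements of `N(E)` inducing an element of the four-group -/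
def L : Subgroup G where
  carrier := {g | g ∈ normalizer (h.E : Set G) ∧ ∃ π ∈ S4, ∀ i, g * h.d i * g⁻¹ = h.d (π i)}
  one_mem' := ⟨one_mem _, 1, by decide, fun i => by simp⟩
  mul_mem' := by
    rintro g k ⟨hg, π, hπ, hgi⟩ ⟨hk, σ, hσ, hki⟩
    refine ⟨mul_mem hg hk, π * σ, S4_mul π hπ σ hσ, fun i => ?_⟩
    calc g * k * h.d i * (g * k)⁻¹ = g * (k * h.d i * k⁻¹) * g⁻¹ := by group
      _ = _ := by rw [hki, hgi]; rfl
  inv_mem' := by
    rintro g ⟨hg, π, hπ, hgi⟩
    refine ⟨inv_mem hg, π⁻¹, S4_inv π hπ, fun i => ?_⟩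
    have h1 := hgi (π⁻¹ i)
    have h2 : π (π⁻¹ i) = i := π.apply_symm_apply i
    rw [h2] at h1
    rw [← h1]; group

theorem mem_L {g : G} : g ∈ L h ↔
    g ∈ normalizer (h.E : Set G) ∧ ∃ π ∈ S4, ∀ i, g * h.d i * g⁻¹ = h.d (π i) := Iff.rfl

theorem T_le_L : (T : Subgroup G) ≤ L h := by
  intro g hg
  obtain ⟨π, hπ⟩ := exists_perm h (T_le_normalizer h hg)
  obtain ⟨h4, h5, h6⟩ := perm_T h hg hπ
  exact ⟨T_le_normalizer h hg, π, mem_S4 π h4 h5 h6, hπ⟩

theorem perm_conj {π σ : Equiv.Perm (Fin 5)} {g n : G} (h1 : ∀ i, g * h.d i * g⁻¹ = h.d (π i))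
    (h2 : ∀ i, n * h.d i * n⁻¹ = h.d (σ i)) :
    ∀ i, n * g * n⁻¹ * h.d i * (n * g * n⁻¹)⁻¹ = h.d ((σ * π * σ⁻¹) i) := by
  intro i
  have h3 : h.d i = n * h.d (σ⁻¹ i) * n⁻¹ := by
    rw [h2]
    congr 1
    exact (σ.apply_symm_apply i).symm
  calc n * g * n⁻¹ * h.d i * (n * g * n⁻¹)⁻¹
      = n * g * n⁻¹ * (n * h.d (σ⁻¹ i) * n⁻¹) * (n * g * n⁻¹)⁻¹ := by rw [← h3]
    _ = n * (g * h.d (σ⁻¹ i) * g⁻¹) * n⁻¹ := by group
    _ = _ := by rw [h1, h2]; rfl

/-- involutions of `T` outside `E` induce a nontrivial element of the four-group -/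
theorem exists_perm_invol {u : G} (hu : u ∈ (T : Subgroup G)) (huu : u * u = 1) (huE : u ∉ h.E) :
    ∃ π ∈ S4, π ≠ 1 ∧ ∀ i, u * h.d i * u⁻¹ = h.d (π i) := by
  obtain ⟨π, hπ⟩ := exists_perm h (T_le_normalizer h hu)
  obtain ⟨h4, h5, h6⟩ := perm_T h hu hπ
  refine ⟨π, mem_S4 π h4 h5 h6, ?_, hπ⟩
  rintro rfl
  apply huE
  apply h.V_invol u ?_ huu
  rw [h.mem_V_iff u hu]
  intro x hx
  apply cent_E_iff h (mem_cent_E h fun i => ?_) hx
  exact mul_inv_eq_iff_eq_mul.mp (hπ i)

/-- involutions of `T` outside `E` are conjugate in `C(z)` -/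
theorem conj_of_not_mem_E [IsSimpleGroup G] {u u' : G} (hu : u ∈ (T : Subgroup G)) (huu : u * u = 1)
    (huE : u ∉ h.E) (hu' : u' ∈ (T : Subgroup G)) (huu' : u' * u' = 1) (huE' : u' ∉ h.E) :
    ∃ c : G, c * h.d 0 = h.d 0 * c ∧ c * u * c⁻¹ = u' := by
  obtain ⟨π, hπS, hπ1, hπ⟩ := exists_perm_invol h hu huu huE
  obtain ⟨π', hπS', hπ1', hπ'⟩ := exists_perm_invol h hu' huu' huE'
  obtain ⟨σ, hσs, hσ0, hσ⟩ := S4_conj π hπS π' hπS' hπ1 hπ1'
  obtain ⟨n, hn, hnd⟩ := E_alt h (Equiv.Perm.mem_alternatingGroup.2 hσs)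
  set w := n * u * n⁻¹ with hw
  have hww : w * w = 1 := by
    calc w * w = n * (u * u) * n⁻¹ := by rw [hw]; group
      _ = 1 := by rw [huu]; group
  have hwp : ∀ i, w * h.d i * w⁻¹ = h.d (π' i) := by
    rw [← hσ]
    exact perm_conj h hπ hnd
  have hwL : w ∈ L h := ⟨mul_mem (mul_mem hn (T_le_normalizer h hu)) (inv_mem hn), π', hπS', hwp⟩
  have hwP : IsPGroup 2 (zpowers w) := by
    rintro ⟨x, hx⟩
    obtain ⟨k, rfl⟩ := mem_zpowers_iff.mp hx
    refine ⟨1, ?_⟩
    apply Subtype.ext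
    simp only [pow_one, Subgroup.coe_pow, Subgroup.coe_one]
    rw [← zpow_natCast, ← zpow_mul, mul_comm, zpow_mul]
    have : w ^ ((2 : ℕ) : ℤ) = 1 := by rw [zpow_natCast, sq, hww]
    rw [this, one_zpow]
  obtain ⟨c, hcL, hcT⟩ := exists_conj_into (T_le_L h) hwP (by
    rw [zpowers_le]; exact hwL)
  obtain ⟨hcN, τ, hτ, hcd⟩ := (mem_L h).1 hcL
  have hvT := hcT w (mem_zpowers w)
  set v := c * w * c⁻¹ with hv
  have hvv : v * v = 1 := by
    calc v * v = c * (w * w) * c⁻¹ := by rw [hv]; group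
      _ = 1 := by rw [hww]; group
  have hvp : ∀ i, v * h.d i * v⁻¹ = h.d (π' i) := by
    have h1 := perm_conj h hwp hcd
    rw [S4_comm π' hπS' τ hτ] at h1
    exact h1
  have hvE : v ∉ h.E := by
    intro hvE
    apply hπ1'
    ext i
    have h1 := hvp i
    rw [E_comm h hvE (h.d_mem i), mul_inv_cancel_right] at h1
    rw [← h.d_inj _ _ h1]; rfl
  have hvu : v * u'⁻¹ ∈ h.V := by
    rw [h.mem_V_iff _ ((T : Subgroup G).mul_mem hvT ((T : Subgroup G).inv_mem hu'))]
    intro x hx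
    refine cent_E_iff h (mem_cent_E h fun i => ?_) hx
    have h1 : u'⁻¹ * h.d i * u' = h.d (π'⁻¹ i) := by
      have h2 := hπ' (π'⁻¹ i)
      have h3 : π' (π'⁻¹ i) = i := π'.apply_symm_apply i
      rw [h3] at h2
      rw [← h2]; group
    apply mul_inv_eq_iff_eq_mul.mp
    calc v * u'⁻¹ * h.d i * (v * u'⁻¹)⁻¹ = v * (u'⁻¹ * h.d i * u') * v⁻¹ := by group
      _ = h.d (π' (π'⁻¹ i)) := by rw [h1, hvp]
      _ = h.d i := by congr 1; exact π'.apply_symm_apply i
  obtain ⟨g, hg, hgv⟩ := h.conj_u v hvT hvv hvE u' hu' huu' huE' hvu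
  refine ⟨g * (c * n), ?_, ?_⟩
  · have h1 : n * h.d 0 = h.d 0 * n := by
      apply mul_inv_eq_iff_eq_mul.mp
      rw [hnd, hσ0]
    have h2 : c * h.d 0 = h.d 0 * c := by
      apply mul_inv_eq_iff_eq_mul.mp
      rw [hcd, S4_zero τ hτ]
    have h3 : g * h.d 0 = h.d 0 * g := h.z_comm g hg
    calc g * (c * n) * h.d 0 = g * (c * (n * h.d 0)) := by group
      _ = g * ((c * h.d 0) * n) := by rw [h1]; group
      _ = (g * h.d 0) * (c * n) := by rw [h2]; group
      _ = h.d 0 * (g * (c * n)) := by rw [h3]; group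
  · rw [← hgv, hv, hw]; group

/-- the centralizer of `d 1 * d 2` in `T` is a Sylow 2-subgroup of the centralizer of `d 1 * d 2` -/
theorem isMaxP_t : IsMaxP 2 (centralizer ({h.d 1 * h.d 2} : Set G))
    ((T : Subgroup G) ⊓ centralizer ({h.d 1 * h.d 2} : Set G)) := by
  haveI : Fact (Nat.Prime 2) := ⟨Nat.prime_two⟩
  set t := h.d 1 * h.d 2 with ht
  set T1 : Subgroup G := (T : Subgroup G) ⊓ centralizer ({t} : Set G) with hT1
  have htE : t ∈ h.E := Elem.dd_mem h 1 2
  -- the index of `T1` in `T` is at most two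
  have hcard : 512 ≤ Nat.card T1 := by
    let K : Subgroup (T : Subgroup G) := (centralizer ({t} : Set G)).subgroupOf T
    have hK : ∀ g : (T : Subgroup G), g ∈ K ↔ (g : G) * t = t * g := fun g => by
      rw [mem_subgroupOf, mem_centralizer_singleton_iff]
    have hKT : Nat.card T1 = Nat.card K := by
      have e : K.map (T : Subgroup G).subtype = T1 := by
        rw [subgroupOf_map_subtype, inf_comm]
      rw [← e]
      exact card_map_of_injective (T : Subgroup G).subtype_injective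
    have hcases : ∀ g : (T : Subgroup G), (g : G) * t * (g : G)⁻¹ = t ∨
        (g : G) * t * (g : G)⁻¹ = h.d 3 * h.d 4 := by
      intro g
      obtain ⟨π, hπ⟩ := exists_perm h (T_le_normalizer h g.2)
      obtain ⟨h4, h5, h6⟩ := perm_T h g.2 hπ
      have h8 : (g : G) * t * (g : G)⁻¹ = h.d (π 1) * h.d (π 2) := by
        rw [← hπ, ← hπ, ht]; group
      rw [h8]
      rcases S4_pair π (mem_S4 π h4 h5 h6) with ⟨h9, h10⟩ | ⟨h9, h10⟩ | ⟨h9, h10⟩ | ⟨h9, h10⟩
      · left; rw [h9, h10]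
      · left; rw [h9, h10, ht, Elem.d_comm h 2 1]
      · right; rw [h9, h10]
      · right; rw [h9, h10, Elem.d_comm h 4 3]
    rw [hKT]
    by_cases hKt : K = ⊤
    · rw [hKt, card_top, h.card_T]; norm_num
    · obtain ⟨a, ha⟩ : ∃ a, a ∉ K := by
        by_contra hcon
        push Not at hcon
        exact hKt (eq_top_iff.2 fun x _ => hcon x)
      have hmem : ∀ b : (T : Subgroup G), b ∉ K → a⁻¹ * b ∈ K := by
        intro b hb
        rw [hK] at ha hb ⊢
        have h3 := (hcases a).resolve_left (fun h4 => ha (mul_inv_eq_iff_eq_mul.mp h4))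
        have h4 := (hcases b).resolve_left (fun h4 => hb (mul_inv_eq_iff_eq_mul.mp h4))
        rw [← h3] at h4
        show (a : G)⁻¹ * b * t = t * ((a : G)⁻¹ * b)
        calc (a : G)⁻¹ * b * t = (a : G)⁻¹ * ((b : G) * t * (b : G)⁻¹) * b := by group
          _ = t * ((a : G)⁻¹ * b) := by rw [h4]; group
      classical
      let f : ↥(T : Subgroup G) → ↥K × Bool := fun g =>
        if hg : g ∈ K then (⟨g, hg⟩, true) else (⟨a⁻¹ * g, hmem g hg⟩, false)
      have hf : Function.Injective f := by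
        intro x y hxy
        by_cases hx : x ∈ K <;> by_cases hy : y ∈ K
        · simp only [f, hx, hy, dif_pos, Prod.mk.injEq, and_true] at hxy
          exact congrArg Subtype.val hxy
        · simp [f, hx, hy] at hxy
        · simp only [f, hx, hy, ↓ _root_.reduceDIte, _root_.Prod.mk.injEq, _root_.Subtype.mk.injEq, _root_.Bool.false_eq_true, _root_.and_false] at hxy
        · simp only [f, hx, hy, dif_neg, not_false_eq_true, Prod.mk.injEq, and_true] at hxy
          exact mul_left_cancel (congrArg Subtype.val hxy)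
      have h1 := Nat.card_le_card_of_injective f hf
      rw [Nat.card_prod, h.card_T] at h1
      have h2 : Nat.card Bool = 2 := by simp
      rw [h2] at h1
      omega
  refine ⟨T.2.to_le inf_le_left, inf_le_right, ?_⟩
  intro W hW hWC hTW
  have hEW : h.E ≤ W := by
    refine le_trans ?_ hTW
    intro x hx
    exact ⟨E_le_T h hx, mem_centralizer_singleton_iff.2 (E_comm h hx htE)⟩
  obtain ⟨k, hk, hkW⟩ := exists_conj_T h hW hEW
  set W' : Subgroup G := W.map (MulAut.conj k⁻¹).toMonoidHom with hW'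
  have hW'T : W' ≤ (T : Subgroup G) := by
    rintro _ ⟨w, hw, rfl⟩
    have h1 := hkW w hw
    have e : (MulAut.conj k⁻¹).toMonoidHom w = k⁻¹ * w * k := by
      show k⁻¹ * w * k⁻¹⁻¹ = _
      rw [inv_inv]
    rw [e]; exact h1
  have hne : Nat.card W' ≠ 1024 := by
    intro h1
    have h2 : W' = (T : Subgroup G) := eq_of_le_of_card_ge hW'T (by rw [h1, h.card_T])
    have h3 : ∀ g ∈ (T : Subgroup G), g * (k⁻¹ * t * k) = k⁻¹ * t * k * g := by
      intro g hg
      rw [← h2] at hg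
      have h4 := hWC (mem_map_conj.1 hg)
      rw [inv_inv] at h4
      have h5 := mem_centralizer_singleton_iff.1 h4
      calc g * (k⁻¹ * t * k) = k⁻¹ * (k * g * k⁻¹ * t) * k := by group
        _ = k⁻¹ * (t * (k * g * k⁻¹)) * k := by rw [h5]
        _ = _ := by group
    have htE' : k⁻¹ * t * k ∈ h.E := by
      have := norm_conj h ((normalizer (h.E : Set G)).inv_mem hk) htE
      rwa [inv_inv] at this
    have h4 : t = k * (k⁻¹ * t * k) * k⁻¹ := by group
    rcases h.center_T _ (E_le_T h htE') h3 with h5 | h5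
    · rw [h5] at h4
      apply h.dd_ne_one 1 2 (by decide)
      rw [← ht, h4]; group
    · rw [h5] at h4
      obtain ⟨j, hj⟩ := perm h hk 0
      exact h.dd_ne_d 1 2 j (by decide) (by rw [← ht, h4, hj])
  have hdvd : Nat.card W' ∣ 2 ^ 10 := by
    have h1 := card_dvd_of_le hW'T
    rw [h.card_T] at h1
    exact h1
  have hWle : Nat.card W ≤ 512 := by
    have hcW : Nat.card W' = Nat.card W := card_map_conj W k⁻¹
    rw [hcW] at hdvd hne
    obtain ⟨m, hm, hm'⟩ := (Nat.dvd_prime_pow Nat.prime_two).1 hdvd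
    have hm9 : m ≤ 9 := by
      by_contra hcon
      have : m = 10 := by omega
      rw [this] at hm'
      exact hne (by rw [hm']; norm_num)
    rw [hm']
    calc 2 ^ m ≤ 2 ^ 9 := Nat.pow_le_pow_right (by norm_num) hm9
      _ = 512 := by norm_num
  exact (eq_of_le_of_card_ge hTW (hWle.trans hcard)).ge

/-- **Case A**: if an involution of `Q` outside `E` is conjugate into `E` then all noncentral involutions of `Q` are
conjugate to `d 1 * d 2` in `C(z)`. -/
theorem u_fus_of [IsSimpleGroup G] {u g : G} (hu : u ∈ h.Q) (huu : u * u = 1) (huE : u ∉ h.E)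
    (hg : g * u * g⁻¹ ∈ h.E) : ∀ u' ∈ h.Q, u' * u' = 1 → u' ≠ 1 → u' ≠ h.d 0 →
      ∃ c : G, c * h.d 0 = h.d 0 * c ∧ c * u' * c⁻¹ = h.d 1 * h.d 2 := by
  haveI : Fact (Nat.Prime 2) := ⟨Nat.prime_two⟩
  have huT : u ∈ (T : Subgroup G) := h.Q_le hu
  set t := h.d 1 * h.d 2 with ht
  -- `u` is conjugate to `t`
  obtain ⟨g1, hg1⟩ : ∃ g1 : G, g1 * u * g1⁻¹ = t := by
    rcases h.E_cases _ hg with h1 | ⟨i, hi⟩ | ⟨i, j, hij, h1⟩
    · exfalso
      apply huE
      have h2 : u = g⁻¹ * (g * u * g⁻¹) * g := by group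
      rw [h2, h1, mul_one, inv_mul_cancel]
      exact h.E.one_mem
    · exfalso
      apply huE
      obtain ⟨n, -, hn⟩ := exists_conj_d h i
      have h2 : (g⁻¹ * n) * h.d 0 * (g⁻¹ * n)⁻¹ = u := by
        calc (g⁻¹ * n) * h.d 0 * (g⁻¹ * n)⁻¹ = g⁻¹ * (n * h.d 0 * n⁻¹) * g := by group
          _ = u := by rw [hn, ← hi]; group
      rw [← h2]
      exact key h (by rw [h2]; exact huT)
    · obtain ⟨n, -, hn⟩ := exists_conj_dd h hij
      refine ⟨n⁻¹ * g, ?_⟩
      calc n⁻¹ * g * u * (n⁻¹ * g)⁻¹ = n⁻¹ * (g * u * g⁻¹) * n := by group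
        _ = t := by rw [h1, ← hn, ht]; group
  -- move `C_Q(u)` into `T`
  set X : Subgroup G := h.Q ⊓ centralizer ({u} : Set G) with hX
  have hX2 : IsPGroup 2 X := T.2.to_le (inf_le_left.trans h.Q_le)
  have hW : X.map (MulAut.conj g1).toMonoidHom ≤ centralizer ({t} : Set G) := by
    rintro _ ⟨x, hx, rfl⟩
    have h1 := mem_centralizer_singleton_iff.1 hx.2
    rw [mem_centralizer_singleton_iff]
    show g1 * x * g1⁻¹ * t = t * (g1 * x * g1⁻¹)
    rw [← hg1]
    calc g1 * x * g1⁻¹ * (g1 * u * g1⁻¹) = g1 * (x * u) * g1⁻¹ := by group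
      _ = g1 * (u * x) * g1⁻¹ := by rw [h1]
      _ = _ := by group
  obtain ⟨c, hc, hcW⟩ := (isMaxP_t h).exists_conj_le (hX2.map _) hW
  set k := c * g1 with hk
  have hkt : k * u * k⁻¹ = t := by
    have h1 := mem_centralizer_singleton_iff.1 hc
    calc k * u * k⁻¹ = c * (g1 * u * g1⁻¹) * c⁻¹ := by rw [hk]; group
      _ = t * c * c⁻¹ := by rw [hg1, h1]
      _ = t := by group
  have hkX : ∀ x ∈ h.Q, x * u = u * x → k * x * k⁻¹ ∈ (T : Subgroup G) := by
    intro x hx hxy
    have h1 := hcW ⟨_, ⟨x, ⟨hx, mem_centralizer_singleton_iff.2 hxy⟩, rfl⟩, rfl⟩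
    have e : (MulAut.conj c).toMonoidHom ((MulAut.conj g1).toMonoidHom x) = k * x * k⁻¹ := by
      show c * (g1 * x * g1⁻¹) * c⁻¹ = _
      rw [hk]; group
    rw [e] at h1
    exact h1.1
  have hkz : k * h.d 0 = h.d 0 * k :=
    mul_inv_eq_iff_eq_mul.mp (key_comm h huT huu huE hkX)
  intro u' hu' huu' hu1' hu0'
  by_cases huE' : u' ∈ h.E
  · rcases Elem.mem_E_inter_Q h huE' hu' with h1 | h1 | ⟨i, j, hi, hj, hij, h1⟩
    · exact absurd h1 hu1'
    · exact absurd h1 hu0'
    · obtain ⟨n, -, hnz, hn⟩ := exists_conj_dd_z h hi hj hij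
      refine ⟨n⁻¹, ?_, ?_⟩
      · rw [inv_mul_eq_iff_eq_mul, ← mul_assoc, hnz, mul_inv_cancel_right]
      · rw [h1, ← hn, ht]; group
  · obtain ⟨r, hrz, hr⟩ := conj_of_not_mem_E h (h.Q_le hu') huu' huE' huT huu huE
    refine ⟨k * r, ?_, ?_⟩
    · calc k * r * h.d 0 = k * (r * h.d 0) := by group
        _ = (k * h.d 0) * r := by rw [hrz]; group
        _ = h.d 0 * (k * r) := by rw [hkz]; group
    · calc k * r * u' * (k * r)⁻¹ = k * (r * u' * r⁻¹) * k⁻¹ := by group
        _ = t := by rw [hr, hkt]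

end Cfsg.Agent.SylowU5.CaseA
end

-- part: S0513
section
set_option autoImplicit false
open Cfsg

namespace Cfsg.Agent.S0513

open Cfsg.Agent.SylowU5 Cfsg.Agent.SylowU5.Basic Cfsg.Agent.SylowU5.Fus

/-- A finite simple group whose Sylow 2-subgroups are isomorphic to a Sylow 2-subgroup of the projective special
unitary group of dimension 5 over the field with 4 elements (q = 2) is isomorphic to that unitary group. -/
theorem result {G : Type*} [Group G] [Finite G] [IsSimpleGroup G]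
    {F : Type*} [Field F] [Fintype F] (hF : Fintype.card F = 4) (S : Sylow 2 G) (P : Sylow 2 (Cfsg.PSU 5 F 2))
    (hS : (Nonempty ((S : Subgroup G) ≃* (P : Subgroup (Cfsg.PSU 5 F 2))) :)) :
    Nonempty (G ≃* Cfsg.PSU 5 F 2) := by
  obtain ⟨h, hcy⟩ := CentY.exists_U5T (S : Subgroup G) hF P hS
  have hFus : U5Fus S h := MainFus.u5Fus_of h Final.oddOrder Final.formSolv hcy
    (CentE.isSolvable_centralizer_E h Final.oddOrder)
    (fun u g hu huu huE hg => CaseA.u_fus_of h hu huu huE hg)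
  exact Final.final hFus (Geometry.comm_or_three hFus
    (fun x hx hxt => CharTwoT.hDt hFus Final.zstar Final.oddOrder x hx hxt)
    (fun c hc q hq => CharTwo.hQn hFus Final.zstar Final.oddOrder c hc q hq)) hF

end Cfsg.Agent.S0513
end
end
end
end
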