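import Cfsg.Statements.S0647
set_option linter.all false
-- import your own Cfsg.Agent.* helpers here

set_option autoImplicit false
open Cfsg

namespace Cfsg.Agent.S0647

/-- A maximal abelian subgroup contains its centralizer. -/
theorem centralizer_le_of_max_abelian {S : Type*} [Group S] (A : Subgroup S)
    (hA : IsMulCommutative A)
    (hmax : ∀ B : Subgroup S, IsMulCommutative B → A ≤ B → B = A) :
    Subgroup.centralizer (A : Set S) ≤ A := by
  intro x hx
  have hx' : ∀ a ∈ A, a * x = x * a := by
    intro a ha
    exact Subgroup.mem_centralizer_iff.1 hx a ha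
  have hAcomm : ∀ a ∈ A, ∀ b ∈ A, a * b = b * a := by
    intro a ha b hb
    have := hA.is_comm.comm ⟨a, ha⟩ ⟨b, hb⟩
    exact congrArg Subtype.val this
  have hset : ∀ a ∈ (insert x (A : Set S)), ∀ b ∈ (insert x (A : Set S)), a * b = b * a := by
    intro a ha b hb
    rcases Set.mem_insert_iff.1 ha with hax | haA
    · rcases Set.mem_insert_iff.1 hb with hbx | hbA
      · rw [hax, hbx]
      · rw [hax]; exact (hx' b hbA).symm
    · rcases Set.mem_insert_iff.1 hb with hbx | hbA
      · rw [hbx]; exact hx' a haA
      · exact hAcomm a haA b hbA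
  have hB : IsMulCommutative (Subgroup.closure (insert x (A : Set S))) := by
    exact Subgroup.isMulCommutative_closure hset
  have hle : A ≤ Subgroup.closure (insert x (A : Set S)) := fun a ha =>
    Subgroup.subset_closure (Set.mem_insert_of_mem _ ha)
  have heq := hmax _ hB hle
  rw [← heq]
  exact Subgroup.subset_closure (Set.mem_insert _ _)

/-- For a nonempty family of maximal abelian subgroups of a finite group, the intersection of the family is the centre of the subgroup it generates, which is also the full centralizer of that subgroup. -/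
theorem result {S : Type*} [Group S] [Finite S] (𝒜 : Set (Subgroup S)) (hne : 𝒜.Nonempty) (hab : ∀ A ∈ 𝒜, IsMulCommutative A) (hmax : ∀ A ∈ 𝒜, ∀ B : Subgroup S, IsMulCommutative B → A ≤ B → B = A) : sInf 𝒜 = sSup 𝒜 ⊓ Subgroup.centralizer ((sSup 𝒜 : Subgroup S) : Set S) ∧ sInf 𝒜 = Subgroup.centralizer ((sSup 𝒜 : Subgroup S) : Set S) := by
  have h2 : sInf 𝒜 = Subgroup.centralizer ((sSup 𝒜 : Subgroup S) : Set S) := by
    apply le_antisymm
    · rw [Subgroup.le_centralizer_iff]
      apply sSup_le
      intro A hA
      rw [Subgroup.le_centralizer_iff]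
      refine (sInf_le hA).trans ?_
      exact Subgroup.le_centralizer_iff_isMulCommutative.2 (hab A hA)
    · apply le_sInf
      intro A hA
      refine le_trans ?_ (centralizer_le_of_max_abelian A (hab A hA) (hmax A hA))
      exact Subgroup.centralizer_le (le_sSup hA)
  refine ⟨?_, h2⟩
  rw [← h2]
  obtain ⟨A, hA⟩ := hne
  exact (inf_eq_right.2 ((sInf_le hA).trans (le_sSup hA))).symm

end Cfsg.Agent.S0647
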