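import Cfsg.Statements.S0648
set_option linter.all false
-- import your own Cfsg.Agent.* helpers here

set_option autoImplicit false
open Cfsg

namespace Cfsg.Agent.S0648

open scoped commutatorElement

variable {G : Type*} [Group G]

/-- If `A` normalizes `B`, then `⁅B, A⁆ ≤ B`. -/
theorem comm_le_left {A B : Subgroup G} (hAB : A ≤ Subgroup.normalizer (B : Set G)) :
    ⁅B, A⁆ ≤ B := by
  rw [Subgroup.commutator_le]
  intro b hb a ha
  have h1 : a * b⁻¹ * a⁻¹ ∈ B := (hAB ha b⁻¹).1 (inv_mem hb)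
  have h2 : ⁅b, a⁆ = b * (a * b⁻¹ * a⁻¹) := by rw [commutatorElement_def]; group
  rw [h2]
  exact mul_mem hb h1

/-- If `⁅⁅B, B⁆, A⁆ = ⊥`, then the elements of `⁅B, A⁆` commute with those of `⁅B, B⁆`. -/
theorem comm_commute {A B : Subgroup G} (hc : ⁅⁅B, B⁆, A⁆ = ⊥) {g x : G} (hg : g ∈ ⁅B, B⁆)
    (hx : x ∈ ⁅B, A⁆) : Commute g x := by
  have hA : ∀ g ∈ ⁅B, B⁆, ∀ a ∈ A, Commute g a := by
    intro g hg a ha
    have h1 : ⁅g, a⁆ ∈ ⁅⁅B, B⁆, A⁆ := Subgroup.commutator_mem_commutator hg ha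
    rw [hc, Subgroup.mem_bot, commutatorElement_eq_one_iff_commute] at h1
    exact h1
  have hle : ⁅B, A⁆ ≤ Subgroup.centralizer (⁅B, B⁆ : Subgroup G) := by
    rw [Subgroup.commutator_le]
    intro b hb a ha
    rw [Subgroup.mem_centralizer_iff]
    intro g hg
    have h1 : b⁻¹ * g * b ∈ ⁅B, B⁆ := by
      have h3 : b⁻¹ * g * b = ⁅b⁻¹, g⁆ * g := by rw [commutatorElement_def]; group
      rw [h3]
      exact mul_mem (Subgroup.commutator_mem_commutator (inv_mem hb)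
        (Subgroup.commutator_le_self B hg)) hg
    have h2 := hA _ h1 a ha
    have h3 := hA _ hg a ha
    have h4 : b⁻¹ * g * b * a = a * (b⁻¹ * g * b) := h2
    have h5 : g * a = a * g := h3
    rw [commutatorElement_def]
    calc g * (b * a * b⁻¹ * a⁻¹) = b * (b⁻¹ * g * b * a) * b⁻¹ * a⁻¹ := by group
      _ = b * (a * (b⁻¹ * g * b)) * b⁻¹ * a⁻¹ := by rw [h4]
      _ = b * a * b⁻¹ * a⁻¹ * (a * g) * a⁻¹ := by group
      _ = b * a * b⁻¹ * a⁻¹ * (g * a) * a⁻¹ := by rw [h5]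
      _ = b * a * b⁻¹ * a⁻¹ * g := by group
  exact (Subgroup.mem_centralizer_iff.1 (hle hx)) g hg

theorem part_one {A B : Subgroup G} (hAB : A ≤ Subgroup.normalizer (B : Set G))
    (hc : ⁅⁅B, B⁆, A⁆ = ⊥) : ⁅⁅B, A⁆, ⁅B, A⁆⁆ ≤ B ⊓ Subgroup.centralizer (B : Set G) := by
  have hCB := comm_le_left hAB
  have h1 : ⁅⁅B, B⁆, ⁅B, A⁆⁆ = ⊥ := by
    rw [Subgroup.commutator_eq_bot_iff_le_centralizer]
    intro g hg
    rw [Subgroup.mem_centralizer_iff]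
    intro x hx
    exact (comm_commute hc hg hx).symm
  have h2 : ⁅⁅⁅B, A⁆, ⁅B, A⁆⁆, B⁆ = ⊥ := by
    apply Subgroup.commutator_commutator_eq_bot_of_rotate
    · rw [eq_bot_iff, ← h1]
      exact Subgroup.commutator_mono (Subgroup.commutator_mono hCB le_rfl) le_rfl
    · rw [eq_bot_iff, ← h1]
      exact Subgroup.commutator_mono (Subgroup.commutator_mono le_rfl hCB) le_rfl
  refine le_inf ?_ ?_
  · exact (Subgroup.commutator_mono hCB hCB).trans (Subgroup.commutator_le_self B)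
  · rwa [Subgroup.commutator_eq_bot_iff_le_centralizer] at h2

/-- If A acts on B centralizing [B, B], then [B, A] has derived subgroup central in B, and for abelian A and b ∈ B with [[b, A], A, A] = 1 the derived subgroup of the subgroup [b, A] generated by the commutators of b with A has exponent dividing 2. -/
theorem result {G : Type*} [Group G] [Finite G] (A B : Subgroup G) (hAB : A ≤ Subgroup.normalizer (B : Set G)) (hc : ⁅⁅B, B⁆, A⁆ = ⊥) : ⁅⁅B, A⁆, ⁅B, A⁆⁆ ≤ B ⊓ Subgroup.centralizer (B : Set G) ∧ (IsMulCommutative A → ∀ b ∈ B, ⁅⁅(Subgroup.closure {g : G | ∃ a ∈ A, g = b⁻¹ * a * b * a⁻¹}), A⁆, A⁆ = ⊥ → ∀ w ∈ ⁅(Subgroup.closure {g : G | ∃ a ∈ A, g = b⁻¹ * a * b * a⁻¹}), (Subgroup.closure {g : G | ∃ a ∈ A, g = b⁻¹ * a * b * a⁻¹})⁆, w ^ 2 = 1) := by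
  refine ⟨part_one hAB hc, ?_⟩
  intro hA b hb
  set D : Subgroup G := Subgroup.closure {g : G | ∃ a ∈ A, g = b⁻¹ * a * b * a⁻¹} with hD
  intro hDA
  have hAcomm : ∀ a ∈ A, ∀ d ∈ A, a * d = d * a := by
    intro a ha d hd
    have h := hA.is_comm.comm (⟨a, ha⟩ : A) ⟨d, hd⟩
    exact congrArg Subtype.val h
  have hDC : D ≤ ⁅B, A⁆ := by
    rw [hD, Subgroup.closure_le]
    rintro g ⟨a, ha, rfl⟩
    have h1 : b⁻¹ * a * b * a⁻¹ = ⁅b⁻¹, a⁆ := by rw [commutatorElement_def, inv_inv]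
    rw [h1]
    exact Subgroup.commutator_mem_commutator (inv_mem hb) ha
  have hCB : ⁅B, A⁆ ≤ B := comm_le_left hAB
  have hDB : D ≤ B := hDC.trans hCB
  -- commutators of elements of `D` are central in `B`
  have hcent : ∀ x ∈ D, ∀ y ∈ D, ∀ g ∈ B, Commute g ⁅x, y⁆ := by
    intro x hx y hy g hg
    have h1 : ⁅x, y⁆ ∈ B ⊓ Subgroup.centralizer (B : Set G) :=
      part_one hAB hc (Subgroup.commutator_mem_commutator (hDC hx) (hDC hy))
    exact Subgroup.mem_centralizer_iff.1 h1.2 g hg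
  -- `A` centralizes `⁅B, B⁆`
  have hBA : ∀ g ∈ ⁅B, B⁆, ∀ a ∈ A, g * a = a * g := by
    intro g hg a ha
    have h1 : ⁅g, a⁆ ∈ ⁅⁅B, B⁆, A⁆ := Subgroup.commutator_mem_commutator hg ha
    rw [hc, Subgroup.mem_bot, commutatorElement_eq_one_iff_mul_comm] at h1
    exact h1
  -- `A` centralizes `⁅D, A⁆`
  have hEA : ∀ e ∈ ⁅D, A⁆, ∀ a ∈ A, e * a = a * e := by
    intro g hg a ha
    have h1 : ⁅g, a⁆ ∈ ⁅⁅D, A⁆, A⁆ := Subgroup.commutator_mem_commutator hg ha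
    rw [hDA, Subgroup.mem_bot, commutatorElement_eq_one_iff_mul_comm] at h1
    exact h1
  have hEB : ∀ e ∈ ⁅D, A⁆, e ∈ B := by
    intro e he
    exact hCB (Subgroup.commutator_mono hDB le_rfl he)
  -- the generators
  have hcD : ∀ a ∈ A, b⁻¹ * a * b * a⁻¹ ∈ D := by
    intro a ha
    exact Subgroup.subset_closure ⟨a, ha, rfl⟩
  -- step (i): the generators commute with `⁅D, A⁆`
  have step1 : ∀ x ∈ A, ∀ e ∈ ⁅D, A⁆, (b⁻¹ * x * b * x⁻¹) * e = e * (b⁻¹ * x * b * x⁻¹) := by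
    intro x hx e he
    have h1 := hBA ⁅b, e⁆ (Subgroup.commutator_mem_commutator hb (hEB e he)) x hx
    have h2 := hEA e he x hx
    rw [commutatorElement_def] at h1
    have h3 : e * x⁻¹ = x⁻¹ * e := by
      calc e * x⁻¹ = x⁻¹ * (x * e) * x⁻¹ := by group
        _ = x⁻¹ * (e * x) * x⁻¹ := by rw [h2]
        _ = x⁻¹ * e := by group
    have h4 : e⁻¹ * x = x * e⁻¹ := by
      calc e⁻¹ * x = e⁻¹ * (x * e) * e⁻¹ := by group
        _ = e⁻¹ * (e * x) * e⁻¹ := by rw [h2]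
        _ = x * e⁻¹ := by group
    -- `b e b⁻¹ x = x b e b⁻¹` after cancelling `e⁻¹`
    have h5 : b * e * b⁻¹ * x * e⁻¹ = x * b * e * b⁻¹ * e⁻¹ := by
      calc b * e * b⁻¹ * x * e⁻¹ = b * e * b⁻¹ * (x * e⁻¹) := by group
        _ = b * e * b⁻¹ * (e⁻¹ * x) := by rw [h4]
        _ = (b * e * b⁻¹ * e⁻¹) * x := by group
        _ = x * (b * e * b⁻¹ * e⁻¹) := h1
        _ = x * b * e * b⁻¹ * e⁻¹ := by group
    have h6 : b * e * b⁻¹ * x = x * b * e * b⁻¹ := mul_right_cancel h5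
    calc (b⁻¹ * x * b * x⁻¹) * e = b⁻¹ * x * b * (x⁻¹ * e) := by group
      _ = b⁻¹ * x * b * (e * x⁻¹) := by rw [h3]
      _ = b⁻¹ * (x * b * e * b⁻¹) * b * x⁻¹ := by group
      _ = b⁻¹ * (b * e * b⁻¹ * x) * b * x⁻¹ := by rw [h6]
      _ = e * (b⁻¹ * x * b * x⁻¹) := by group
  -- step (ii)
  have step2 : ∀ a ∈ A, ∀ d ∈ A, ⁅b⁻¹ * a * b * a⁻¹, b⁻¹ * d * b * d⁻¹⁆ =
      ⁅b⁻¹, (b⁻¹ * d * b * d⁻¹)⁻¹ * a * (b⁻¹ * d * b * d⁻¹) * a⁻¹⁆ := by
    intro a ha d hd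
    obtain ⟨c, hc'⟩ : ∃ c, c = b⁻¹ * d * b * d⁻¹ := ⟨_, rfl⟩
    obtain ⟨k, hk⟩ : ∃ k, k = b⁻¹ * a * b * a⁻¹ := ⟨_, rfl⟩
    obtain ⟨e, he⟩ : ∃ e, e = c⁻¹ * a * c * a⁻¹ := ⟨_, rfl⟩
    have hcmem : c ∈ D := by rw [hc']; exact hcD d hd
    have hkmem : k ∈ D := by rw [hk]; exact hcD a ha
    have hemem : e ∈ ⁅D, A⁆ := by
      have h1 : e = ⁅c⁻¹, a⁆ := by rw [he, commutatorElement_def, inv_inv]
      rw [h1]
      exact Subgroup.commutator_mem_commutator (inv_mem hcmem) ha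
    rw [← hc', ← hk, ← he]
    have h1 := hBA ⁅b, c⁆ (Subgroup.commutator_mem_commutator hb (hDB hcmem)) a ha
    have h2 : k * e = e * k := by rw [hk]; exact step1 a ha e hemem
    have h3 : a * b = b * k * a := by rw [hk]; group
    have h4 : a * c = c * e * a := by rw [he]; group
    have h3' : a * b⁻¹ = k⁻¹ * b⁻¹ * a := by rw [hk]; group
    have h4' : a * c⁻¹ = e⁻¹ * c⁻¹ * a := by rw [he]; group
    rw [commutatorElement_def] at h1
    have h5 : a * (b * c * b⁻¹ * c⁻¹) = (b * k) * (c * e) * (k⁻¹ * b⁻¹) * (e⁻¹ * c⁻¹) * a := by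
      calc a * (b * c * b⁻¹ * c⁻¹) = (a * b) * c * b⁻¹ * c⁻¹ := by group
        _ = (b * k) * (a * c) * b⁻¹ * c⁻¹ := by rw [h3]; group
        _ = (b * k) * (c * e) * (a * b⁻¹) * c⁻¹ := by rw [h4]; group
        _ = (b * k) * (c * e) * (k⁻¹ * b⁻¹) * (a * c⁻¹) := by rw [h3']; group
        _ = (b * k) * (c * e) * (k⁻¹ * b⁻¹) * (e⁻¹ * c⁻¹) * a := by rw [h4']; group
    rw [← h1] at h5
    have h6 := mul_right_cancel h5
    -- `h6 : b * c * b⁻¹ * c⁻¹ = b * k * (c * e) * (k⁻¹ * b⁻¹) * (e⁻¹ * c⁻¹)`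
    have h7 : e * k⁻¹ = k⁻¹ * e := by
      calc e * k⁻¹ = k⁻¹ * (k * e) * k⁻¹ := by group
        _ = k⁻¹ * (e * k) * k⁻¹ := by rw [h2]
        _ = k⁻¹ * e := by group
    have h8 : k * c * k⁻¹ * e * b⁻¹ = c * b⁻¹ * e := by
      have h9 : b * c * b⁻¹ * c⁻¹ = b * (k * c * (e * k⁻¹) * b⁻¹) * (e⁻¹ * c⁻¹) := by
        rw [h6]; group
      rw [h7] at h9
      have h10 : c * b⁻¹ * e = b⁻¹ * (b * c * b⁻¹ * c⁻¹) * c * e := by group
      rw [h10, h9]; group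
    have h9 : k * c * k⁻¹ = c * (b⁻¹ * e * b * e⁻¹) := by
      calc k * c * k⁻¹ = (k * c * k⁻¹ * e * b⁻¹) * b * e⁻¹ := by group
        _ = (c * b⁻¹ * e) * b * e⁻¹ := by rw [h8]
        _ = c * (b⁻¹ * e * b * e⁻¹) := by group
    -- `c` centralizes `⁅B, B⁆`
    have h10 : Commute ⁅b⁻¹, e⁆ c :=
      comm_commute hc (Subgroup.commutator_mem_commutator (inv_mem hb) (hEB e hemem)) (hDC hcmem)
    have h11 : ⁅b⁻¹, e⁆ * c = c * ⁅b⁻¹, e⁆ := h10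
    have h12 : ⁅b⁻¹, e⁆ = b⁻¹ * e * b * e⁻¹ := by rw [commutatorElement_def, inv_inv]
    rw [← h12] at h9
    calc ⁅k, c⁆ = (k * c * k⁻¹) * c⁻¹ := by rw [commutatorElement_def]
      _ = (c * ⁅b⁻¹, e⁆) * c⁻¹ := by rw [h9]
      _ = (⁅b⁻¹, e⁆ * c) * c⁻¹ := by rw [h11]
      _ = ⁅b⁻¹, e⁆ := by group
  -- step (iii)
  have step3 : ∀ a ∈ A, ∀ d ∈ A, ⁅b⁻¹ * a * b * a⁻¹, b⁻¹ * d * b * d⁻¹⁆ ^ 2 = 1 := by
    intro a ha d hd
    have h1 := step2 a ha d hd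
    have h2 := step2 d hd a ha
    obtain ⟨c, hc'⟩ : ∃ c, c = b⁻¹ * d * b * d⁻¹ := ⟨_, rfl⟩
    obtain ⟨k, hk⟩ : ∃ k, k = b⁻¹ * a * b * a⁻¹ := ⟨_, rfl⟩
    have hcmem : c ∈ D := by rw [hc']; exact hcD d hd
    have hkmem : k ∈ D := by rw [hk]; exact hcD a ha
    rw [← hc', ← hk] at h1 h2
    rw [← hc', ← hk]
    -- `c_{ad} = c_a (a c_d a⁻¹)` two ways
    have h3 : k * (a * c * a⁻¹) = c * (d * k * d⁻¹) := by
      have hda := hAcomm a ha d hd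
      calc k * (a * c * a⁻¹) = b⁻¹ * (a * d) * b * (a * d)⁻¹ * (a * d * d⁻¹ * a⁻¹) := by
            rw [hk, hc']; group
        _ = b⁻¹ * (a * d) * b * (a * d)⁻¹ := by group
        _ = b⁻¹ * (d * a) * b * (d * a)⁻¹ := by rw [hda]
        _ = c * (d * k * d⁻¹) := by rw [hk, hc']; group
    have h4 : k⁻¹ * d * k * d⁻¹ = ⁅k⁻¹, c⁻¹⁆ * (c⁻¹ * a * c * a⁻¹) := by
      have h5 : d * k * d⁻¹ = c⁻¹ * (k * (a * c * a⁻¹)) := by rw [h3]; group
      calc k⁻¹ * d * k * d⁻¹ = k⁻¹ * (d * k * d⁻¹) := by group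
        _ = k⁻¹ * (c⁻¹ * (k * (a * c * a⁻¹))) := by rw [h5]
        _ = ⁅k⁻¹, c⁻¹⁆ * (c⁻¹ * a * c * a⁻¹) := by rw [commutatorElement_def]; group
    have h5 := hcent k⁻¹ (inv_mem hkmem) c⁻¹ (inv_mem hcmem) b⁻¹ (inv_mem hb)
    obtain ⟨z, hz⟩ : ∃ z, z = ⁅k⁻¹, c⁻¹⁆ := ⟨_, rfl⟩
    obtain ⟨e, he⟩ : ∃ e, e = c⁻¹ * a * c * a⁻¹ := ⟨_, rfl⟩
    rw [← hz] at h4 h5
    rw [← he] at h1 h4
    rw [h4] at h2
    have h6 : b⁻¹ * z = z * b⁻¹ := h5
    have h7 : ⁅b⁻¹, z * e⁆ = ⁅b⁻¹, e⁆ := by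
      have h8 : b * z⁻¹ = z⁻¹ * b := by
        have h9 : z * b = b * z := by
          calc z * b = b * (b⁻¹ * z) * b := by group
            _ = b * (z * b⁻¹) * b := by rw [h6]
            _ = b * z := by group
        calc b * z⁻¹ = z⁻¹ * (z * b) * z⁻¹ := by group
          _ = z⁻¹ * (b * z) * z⁻¹ := by rw [h9]
          _ = z⁻¹ * b := by group
      have h9 : z ∈ B ∧ ∀ g ∈ B, g * z = z * g := by
        constructor
        · rw [hz]
          exact Subgroup.commutator_le_self B (Subgroup.commutator_mem_commutator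
            (inv_mem (hDB hkmem)) (inv_mem (hDB hcmem)))
        · intro g hg
          rw [hz]
          exact hcent k⁻¹ (inv_mem hkmem) c⁻¹ (inv_mem hcmem) g hg
      have heB : b⁻¹ * e * b * e⁻¹ ∈ B := by
        have : e ∈ B := by
          apply hEB
          have h1 : e = ⁅c⁻¹, a⁆ := by rw [he, commutatorElement_def, inv_inv]
          rw [h1]
          exact Subgroup.commutator_mem_commutator (inv_mem hcmem) ha
        exact mul_mem (mul_mem (mul_mem (inv_mem hb) this) hb) (inv_mem this)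
      calc ⁅b⁻¹, z * e⁆ = (b⁻¹ * z) * e * b * e⁻¹ * z⁻¹ := by
            rw [commutatorElement_def]; group
        _ = (z * b⁻¹) * e * b * e⁻¹ * z⁻¹ := by rw [h6]
        _ = z * (b⁻¹ * e * b * e⁻¹) * z⁻¹ := by group
        _ = (b⁻¹ * e * b * e⁻¹) * z * z⁻¹ := by rw [h9.2 _ heB]
        _ = ⁅b⁻¹, e⁆ := by rw [commutatorElement_def]; group
    rw [h7, ← h1] at h2
    -- `h2 : ⁅c, k⁆ = ⁅k, c⁆`
    rw [pow_two]
    nth_rewrite 1 [← h2]
    rw [← commutatorElement_inv k c]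
    group
  -- step (iv)
  have hmul : ∀ x ∈ D, ∀ x' ∈ D, ∀ y ∈ D, ⁅x * x', y⁆ = ⁅x, y⁆ * ⁅x', y⁆ := by
    intro x hx x' hx' y hy
    have h1 : x * ⁅x', y⁆ = ⁅x', y⁆ * x := hcent x' hx' y hy x (hDB hx)
    have h2 : ⁅x, y⁆ * ⁅x', y⁆ = ⁅x', y⁆ * ⁅x, y⁆ :=
      hcent x' hx' y hy ⁅x, y⁆ (Subgroup.commutator_le_self B
        (Subgroup.commutator_mem_commutator (hDB hx) (hDB hy)))
    rw [h2]
    calc ⁅x * x', y⁆ = x * ⁅x', y⁆ * y * x⁻¹ * y⁻¹ := by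
          rw [commutatorElement_def, commutatorElement_def]; group
      _ = ⁅x', y⁆ * x * y * x⁻¹ * y⁻¹ := by rw [h1]
      _ = ⁅x', y⁆ * ⁅x, y⁆ := by
          rw [commutatorElement_def x y]; group
  have hsq : ∀ x ∈ D, ∀ y ∈ D, ⁅x, y⁆ ^ 2 = 1 := by
    have hleft : ∀ y ∈ D, (∀ a ∈ A, ⁅b⁻¹ * a * b * a⁻¹, y⁆ ^ 2 = 1) → ∀ x ∈ D, ⁅x, y⁆ ^ 2 = 1 := by
      intro y hy hgen x hx
      let K : Subgroup G :=
        { carrier := {x | x ∈ D ∧ ⁅x, y⁆ ^ 2 = 1}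
          one_mem' := ⟨one_mem _, by simp⟩
          mul_mem' := by
            rintro x x' ⟨hx, hx2⟩ ⟨hx', hx2'⟩
            refine ⟨mul_mem hx hx', ?_⟩
            have h2 : Commute ⁅x, y⁆ ⁅x', y⁆ :=
              hcent x' hx' y hy ⁅x, y⁆ (Subgroup.commutator_le_self B
                (Subgroup.commutator_mem_commutator (hDB hx) (hDB hy)))
            rw [hmul x hx x' hx' y hy, h2.mul_pow, hx2, hx2', one_mul]
          inv_mem' := by
            rintro x ⟨hx, hx2⟩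
            refine ⟨inv_mem hx, ?_⟩
            have h1 := hmul x⁻¹ (inv_mem hx) x hx y hy
            rw [inv_mul_cancel, commutatorElement_one_left] at h1
            have h2 : ⁅x⁻¹, y⁆ = ⁅x, y⁆⁻¹ := eq_inv_of_mul_eq_one_left h1.symm
            rw [h2, inv_pow, hx2, inv_one] }
      have hKD : D ≤ K := by
        rw [hD, Subgroup.closure_le]
        rintro g ⟨a, ha, rfl⟩
        exact ⟨hcD a ha, hgen a ha⟩
      exact (hKD hx).2
    have hswap : ∀ x y : G, ⁅x, y⁆ ^ 2 = 1 → ⁅y, x⁆ ^ 2 = 1 := by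
      intro x y h
      rw [← commutatorElement_inv x y, inv_pow, h, inv_one]
    intro x hx y hy
    apply hleft y hy _ x hx
    intro a ha
    apply hswap
    apply hleft _ (hcD a ha) _ y hy
    intro d hd
    exact step3 d hd a ha
  -- the subgroup of central elements of `B` with square one
  let K : Subgroup G :=
    { carrier := {w | (w ∈ B ∧ ∀ g ∈ B, Commute g w) ∧ w ^ 2 = 1}
      one_mem' := ⟨⟨one_mem _, fun g _ => Commute.one_right g⟩, by simp⟩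
      mul_mem' := by
        rintro x y ⟨⟨hx, hx1⟩, hx2⟩ ⟨⟨hy, hy1⟩, hy2⟩
        refine ⟨⟨mul_mem hx hy, fun g hg => (hx1 g hg).mul_right (hy1 g hg)⟩, ?_⟩
        rw [(hy1 x hx).mul_pow, hx2, hy2, one_mul]
      inv_mem' := by
        rintro x ⟨⟨hx, hx1⟩, hx2⟩
        refine ⟨⟨inv_mem hx, fun g hg => (hx1 g hg).inv_right⟩, ?_⟩
        rw [inv_pow, hx2, inv_one] }
  have hfin : ⁅D, D⁆ ≤ K := by
    rw [Subgroup.commutator_le]
    intro x hx y hy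
    refine ⟨⟨?_, fun g hg => hcent x hx y hy g hg⟩, hsq x hx y hy⟩
    exact Subgroup.commutator_le_self B (Subgroup.commutator_mem_commutator (hDB hx) (hDB hy))
  intro w hw
  exact (hfin hw).2

end Cfsg.Agent.S0648
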