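import Cfsg.Statements.S0655
import Mathlib
import Cfsg.Agent.PLocal.ThompsonJ
set_option linter.all false

set_option autoImplicit false
open Cfsg

namespace Cfsg.Agent.S0655

open Cfsg.Agent.PLocal.ThompsonJ

theorem omegaOne_mono {G : Type*} [Group G] (p : ℕ) {H K : Subgroup G} (h : H ≤ K) :
    Cfsg.omegaOne p H ≤ Cfsg.omegaOne p K :=
  Subgroup.closure_mono fun _ hx => ⟨h hx.1, hx.2⟩

/-- An element of order dividing `p` centralizing a largest elementary abelian subgroup lies in it. -/
theorem mem_of_centralizes {G : Type*} [Group G] [Finite G] {p : ℕ} {A : Subgroup G}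
    (hA : A ∈ Cfsg.maxElementaryAbelianSubgroups p G) {x : G} (hx : x ^ p = 1)
    (hc : ∀ a ∈ A, a * x = x * a) : x ∈ A := by
  have hB : Cfsg.IsElementaryAbelian p (A ⊔ Subgroup.zpowers x) := by
    have hcl : A ⊔ Subgroup.zpowers x = Subgroup.closure ((A : Set G) ∪ {x}) := by
      rw [Subgroup.closure_union, Subgroup.closure_eq, Subgroup.zpowers_eq_closure]
    have hcomm : ∀ a ∈ (A : Set G) ∪ {x}, ∀ b ∈ (A : Set G) ∪ {x}, a * b = b * a := by
      rintro a (ha | rfl) b (hb | rfl)
      · exact isElementaryAbelian_comm hA.1 ha hb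
      · exact hc a ha
      · exact (hc b hb).symm
      · rfl
    have hcomm2 : ∀ a ∈ A ⊔ Subgroup.zpowers x, ∀ b ∈ A ⊔ Subgroup.zpowers x, a * b = b * a := by
      have := Subgroup.isMulCommutative_closure (k := (A : Set G) ∪ {x}) hcomm
      intro a ha b hb
      rw [hcl] at ha hb
      have h2 := this.is_comm.comm ⟨a, ha⟩ ⟨b, hb⟩
      exact congrArg Subtype.val h2
    rw [isElementaryAbelian_iff]
    refine ⟨hcomm2, fun a ha => ?_⟩
    have ha' := ha
    rw [hcl] at ha'
    induction ha' using Subgroup.closure_induction with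
    | mem y hy =>
      rcases hy with hy | hy
      · exact isElementaryAbelian_pow hA.1 hy
      · rw [Set.mem_singleton_iff] at hy
        rw [hy, hx]
    | one => exact one_pow _
    | mul y z hy hz ihy ihz =>
      rw [← hcl] at hy hz
      rw [Commute.mul_pow (hcomm2 y hy z hz), ihy hy, ihz hz, one_mul]
    | inv y hy ihy =>
      rw [← hcl] at hy
      rw [inv_pow, ihy hy, inv_one]
  have h := eq_of_le_of_mem_max hA hB le_sup_left
  rw [h]
  exact (le_sup_right : Subgroup.zpowers x ≤ A ⊔ Subgroup.zpowers x) (Subgroup.mem_zpowers x)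

/-- In a p-group the intersection of all elementary abelian subgroups of largest order is the subgroup generated by the elements of order dividing p in the centre (equivalently the centralizer) of the elementary-version Thompson subgroup. -/
theorem result {S : Type*} [Group S] [Finite S] {p : ℕ} [Fact p.Prime] (hS : IsPGroup p S) : sInf (Cfsg.maxElementaryAbelianSubgroups p S) = Cfsg.omegaCenterThompson p S ∧ Cfsg.omegaCenterThompson p S = Cfsg.omegaOne p (Subgroup.centralizer (Cfsg.thompsonSubgroup p S : Set S)) := by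
  have h1 : sInf (Cfsg.maxElementaryAbelianSubgroups p S) ≤ Cfsg.omegaCenterThompson p S := by
    intro x hx
    rw [Subgroup.mem_sInf] at hx
    obtain ⟨A, hA⟩ := exists_maxElementaryAbelian p S
    refine Subgroup.subset_closure ⟨⟨le_thompsonSubgroup hA (hx A hA), ?_⟩, ?_⟩
    · have hJ : Cfsg.thompsonSubgroup p S ≤ Subgroup.centralizer {x} := by
        refine thompsonSubgroup_le fun B hB b hb => ?_
        rw [Subgroup.mem_centralizer_iff]
        rintro y rfl
        exact isElementaryAbelian_comm hB.1 (hx B hB) hb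
      refine Subgroup.mem_centralizer_iff.2 ?_
      intro y hy
      have := hJ hy
      rw [Subgroup.mem_centralizer_iff] at this
      exact (this x rfl).symm
    · exact isElementaryAbelian_pow hA.1 (hx A hA)
  have h2 : Cfsg.omegaCenterThompson p S ≤ Cfsg.omegaOne p (Subgroup.centralizer (Cfsg.thompsonSubgroup p S : Set S)) :=
    omegaOne_mono p inf_le_right
  have h3 : Cfsg.omegaOne p (Subgroup.centralizer (Cfsg.thompsonSubgroup p S : Set S)) ≤ sInf (Cfsg.maxElementaryAbelianSubgroups p S) := by
    refine (Subgroup.closure_le _).2 ?_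
    rintro x ⟨hx, hxp⟩
    rw [SetLike.mem_coe, Subgroup.mem_sInf]
    intro A hA
    refine mem_of_centralizes hA hxp fun a ha => ?_
    rw [Subgroup.mem_centralizer_iff] at hx
    exact hx a (le_thompsonSubgroup hA ha)
  exact ⟨le_antisymm h1 (h2.trans h3), le_antisymm h2 (h3.trans h1)⟩

end Cfsg.Agent.S0655
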