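import Cfsg.Statements.S0667
import Cfsg.Agent.PLocal.ZJReduction
import Cfsg.Agent.PLocal.ThompsonJA
import Cfsg.Agent.S0653
set_option linter.all false

set_option autoImplicit false
open Cfsg

namespace Cfsg.Agent.S0667

/-- `Z(J(P))` and a homomorphism injective on `P`. -/
theorem map_centerThompsonAOf_of_inf_ker {G H : Type*} [Group G] [Group H] (f : G →* H)
    (P : Subgroup G) (hf : f.ker ⊓ P = ⊥) :
    (centerThompsonAOf P).map f = centerThompsonAOf (P.map f) := by
  have hinj : Function.Injective (f.comp P.subtype) := by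
    rw [← MonoidHom.ker_eq_bot_iff, eq_bot_iff]
    intro x hx
    have h1 : (x : G) ∈ f.ker ⊓ P := ⟨hx, x.2⟩
    rw [hf, Subgroup.mem_bot] at h1
    rw [Subgroup.mem_bot]
    exact Subtype.ext h1
  have h1 := PLocal.ThompsonJA.map_centerThompsonAOf P.subtype (Subgroup.subtype_injective P) ⊤
  have h2 := PLocal.ThompsonJA.map_centerThompsonAOf (f.comp P.subtype) hinj ⊤
  rw [← MonoidHom.range_eq_map, Subgroup.range_subtype] at h1
  rw [← h1, Subgroup.map_map, h2, ← Subgroup.map_map, ← MonoidHom.range_eq_map,
    Subgroup.range_subtype]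

/-- Glauberman's Theorem in the p-constrained, p-stable vocabulary: for odd p such a group is the product of its largest normal subgroup of order prime to p with the normalizer of Z(J(P)), and Z(J(P)) is normal when that p'-subgroup is trivial. -/
theorem result {G : Type*} [Group G] [Finite G] {p : ℕ} [Fact p.Prime] (hp : p ≠ 2) (hc : Cfsg.IsPConstrained p G) (hs : Cfsg.IsPStable p G) (P : Sylow p G) : Cfsg.pPrimeCore p G ⊔ Subgroup.normalizer (Cfsg.centerThompsonAOf ((P : Subgroup G)) : Set G) = ⊤ ∧ (Cfsg.pPrimeCore p G = ⊥ → (Cfsg.centerThompsonAOf ((P : Subgroup G))).Normal) := by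
  have hfac : Cfsg.pPrimeCore p G ⊔
      Subgroup.normalizer (Cfsg.centerThompsonAOf ((P : Subgroup G)) : Set G) = ⊤ := by
    have hchar := S0653.result hp (PLocal.ZJReduction.centralizer_pCore_quotient_le hc)
      (fun N hN hNp => PLocal.ZJReduction.isPStableOn_quotient hs N hNp)
      (P.mapSurjective (QuotientGroup.mk'_surjective (pPrimeCore p G)))
    have hnorm := @Subgroup.normal_of_characteristic _ _ _ hchar
    rw [Sylow.coe_mapSurjective, ← map_centerThompsonAOf_of_inf_ker] at hnorm
    · have hle : centerThompsonAOf (P : Subgroup G) ≤ (P : Subgroup G) := by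
        refine inf_le_left.trans ?_
        exact Subgroup.map_subtype_le _
      refine PLocal.ZJReduction.sup_normalizer_eq_top (Cfsg.pPrimeCore_normal p G)
        (Lib.Cores.pPrimeCore_coprime p) (P.isPGroup'.to_le hle) ?_
      have h1 := hnorm.comap (QuotientGroup.mk' (pPrimeCore p G))
      rw [Subgroup.comap_map_eq, QuotientGroup.ker_mk', sup_comm] at h1
      exact h1
    · rw [QuotientGroup.ker_mk']
      exact PLocal.ZJReduction.inf_eq_bot (Lib.Cores.pPrimeCore_coprime p) P.isPGroup'
  refine ⟨hfac, fun hbot => ?_⟩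
  rw [hbot, bot_sup_eq] at hfac
  exact Subgroup.normalizer_eq_top_iff.1 hfac

end Cfsg.Agent.S0667
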