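import Cfsg.Statements.S0658
import Cfsg.Agent.PLocal.ThompsonJA
import Cfsg.Agent.PLocal.ConjFunctor
import Cfsg.Agent.S0667
set_option linter.all false

set_option autoImplicit false
open Cfsg

namespace Cfsg.Agent.S0658

/-- In a group of characteristic p type all of whose p-locals are p-stable (p odd), the normalizer of Z(J(P)) contains the normalizer of every nontrivial subgroup of the Sylow p-subgroup P. -/
theorem result {G : Type*} [Group G] [Finite G] {p : ℕ} [Fact p.Prime] (hp : p ≠ 2) (hloc : ∀ Q : Subgroup G, IsPGroup p Q → Q ≠ ⊥ → Cfsg.pPrimeCore p ↥(Subgroup.normalizer (Q : Set G)) = ⊥ ∧ Cfsg.IsPConstrained p ↥(Subgroup.normalizer (Q : Set G)) ∧ Cfsg.IsPStable p ↥(Subgroup.normalizer (Q : Set G))) (P : Sylow p G) (Q : Subgroup G) (hQP : Q ≤ (P : Subgroup G)) (hQ1 : Q ≠ ⊥) : Subgroup.normalizer (Q : Set G) ≤ Subgroup.normalizer (Cfsg.centerThompsonAOf ((P : Subgroup G)) : Set G) := by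
  refine PLocal.ConjFunctor.normalizer_le (p := p) (fun P => centerThompsonAOf P)
    PLocal.ThompsonJA.centerThompsonAOf_le
    (fun P hP hP1 => PLocal.ThompsonJA.centerThompsonAOf_ne_bot P hP hP1)
    (fun P x => PLocal.ThompsonJA.map_centerThompsonAOf _ (MulAut.conj x).injective P)
    ?_ P Q hQP hQ1
  intro D hD hD1 S
  obtain ⟨h1, h2, h3⟩ := hloc D hD hD1
  have hn := (S0667.result hp h2 h3 S).2 h1
  rw [← PLocal.ThompsonJA.map_centerThompsonAOf _ (Subgroup.subtype_injective _)]
  have h4 := Subgroup.le_normalizer_map (Subgroup.normalizer (D : Set G)).subtype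
    (H := centerThompsonAOf (S : Subgroup ↥(Subgroup.normalizer (D : Set G))))
  rw [Subgroup.normalizer_eq_top_iff.mpr hn, ← MonoidHom.range_eq_map,
    Subgroup.range_subtype] at h4
  exact h4

end Cfsg.Agent.S0658
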