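import Cfsg.Statements.S0785
import Cfsg.Agent.ClassicalGeometry.Reflection
set_option linter.all false

set_option autoImplicit false
open Cfsg

namespace Cfsg.Agent.S0785

open Matrix in
/-- A matrix preserving a quadratic form with non-degenerate polar form has determinant of square one. -/
theorem det_mul_self_of_isometry {F : Type*} [Field F] {ι : Type} [Fintype ι] [DecidableEq ι]
    (Q : QuadraticForm F (ι → F)) (hQ : (QuadraticMap.polarBilin Q).Nondegenerate)
    (M : Matrix ι ι F) (hM : ∀ x, Q (M *ᵥ x) = Q x) : M.det * M.det = 1 := by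
  have h1 : (LinearMap.toMatrix₂' F (QuadraticMap.polarBilin Q)).det ≠ 0 := by
    rw [← Matrix.nondegenerate_iff_det_ne_zero]
    exact LinearMap.Nondegenerate.toMatrix₂' hQ
  have h2 : (QuadraticMap.polarBilin Q).compl₁₂ (Matrix.toLin' M) (Matrix.toLin' M)
      = QuadraticMap.polarBilin Q := by
    refine LinearMap.ext fun x => LinearMap.ext fun y => ?_
    rw [LinearMap.compl₁₂_apply, Matrix.toLin'_apply, Matrix.toLin'_apply,
      QuadraticMap.polarBilin_apply_apply, QuadraticMap.polarBilin_apply_apply]
    exact ClassicalGeometry.Reflection.polar_mulVec_of_isometry Q M hM x y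
  have h3 := congrArg (LinearMap.toMatrix₂' F) h2
  rw [LinearMap.toMatrix₂'_compl₁₂] at h3
  have h4 := congrArg Matrix.det h3
  rw [Matrix.det_mul, Matrix.det_mul, Matrix.det_transpose, LinearMap.toMatrix'_toLin'] at h4
  have h5 : (M.det * M.det) * (LinearMap.toMatrix₂' F (QuadraticMap.polarBilin Q)).det
      = 1 * (LinearMap.toMatrix₂' F (QuadraticMap.polarBilin Q)).det := by
    rw [one_mul]
    calc _ = M.det * (LinearMap.toMatrix₂' F (QuadraticMap.polarBilin Q)).det * M.det := by ring
      _ = _ := h4
  exact mul_right_cancel₀ h1 h5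

/-- det(I) = {±1}: for a quadratic form on F^n whose polar form is non-degenerate, every element of the isometry group has determinant 1 or −1, and as soon as Q takes a non-zero value some isometry has determinant −1. -/
theorem result {F : Type*} [Field F] {n : ℕ} (Q : QuadraticForm F (Fin n → F)) (hQ : (QuadraticMap.polarBilin Q).Nondegenerate) : (∀ g : ↥(Cfsg.isometryGroup F ⇑Q), ((g : Matrix.GeneralLinearGroup (Fin n) F) : Matrix (Fin n) (Fin n) F).det = 1 ∨ ((g : Matrix.GeneralLinearGroup (Fin n) F) : Matrix (Fin n) (Fin n) F).det = -1) ∧ ((∃ v, Q v ≠ 0) → ∃ g : ↥(Cfsg.isometryGroup F ⇑Q), ((g : Matrix.GeneralLinearGroup (Fin n) F) : Matrix (Fin n) (Fin n) F).det = -1) := by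
  refine ⟨fun g => ?_, ?_⟩
  · exact mul_self_eq_one_iff.1 (det_mul_self_of_isometry Q hQ _
      ((ClassicalGeometry.Reflection.mem_isometryGroup_iff _ _).1 g.2))
  · rintro ⟨v, hv⟩
    exact ⟨ClassicalGeometry.Reflection.reflIso Q v hv,
      ClassicalGeometry.Reflection.det_reflIso Q v hv⟩

end Cfsg.Agent.S0785
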