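import Cfsg.Statements.S1020
import Cfsg.Agent.SmallSimple.PSL2Recog
set_option linter.all false

set_option autoImplicit false
open Cfsg

namespace Cfsg.Agent.S1020

/-- A simple group of order 2448 is isomorphic to the projective special linear group of dimension 2 over the field with 17 elements. -/
theorem result {G : Type*} [Group G] [Finite G] [IsSimpleGroup G] (h : Nat.card G = 2448) {F : Type*} [Field F] [Fintype F] (hF : Fintype.card F = 17) : Nonempty (G ≃* Matrix.ProjectiveSpecialLinearGroup (Fin 2) F) := by
  have : Fact (Nat.Prime 17) := ⟨by norm_num⟩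
  refine Cfsg.Agent.SmallSimple.PSL2Recog.psl2_of_simple_card (p := 17) (by norm_num)
    (by rw [h]) ?_ hF
  have h1 : Nat.card (Sylow 17 G) ∣ 2448 := by
    rw [← h]
    exact (Sylow.card_dvd_index (default : Sylow 17 G)).trans (Subgroup.index_dvd_card _)
  have h2 : Nat.card (Sylow 17 G) % 17 = 1 := card_sylow_modEq_one 17 G
  have h3 : ∀ n ∈ (Nat.divisors 2448), n % 17 = 1 → n = 1 ∨ n = 18 := by decide +kernel
  rcases h3 _ (by rw [Nat.mem_divisors]; exact ⟨h1, by norm_num⟩) h2 with h4 | h4
  · exfalso
    have : Subsingleton (Sylow 17 G) := (Nat.card_eq_one_iff_unique.1 h4).1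
    have hn : ((default : Sylow 17 G) : Subgroup G).Normal := Sylow.normal_of_subsingleton _
    have hc : Nat.card ((default : Sylow 17 G) : Subgroup G) = 17 := by
      have := Sylow.card_eq_multiplicity (default : Sylow 17 G)
      rw [h] at this
      have h5 : (2448 : ℕ).factorization 17 = 1 := by
        rw [show (2448 : ℕ) = 17 * 144 by norm_num,
          Nat.factorization_mul (by norm_num) (by norm_num), Finsupp.add_apply,
          Nat.Prime.factorization_self (by norm_num), Nat.factorization_eq_zero_of_not_dvd
          (by norm_num)]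
      rw [h5] at this
      exact this
    rcases hn.eq_bot_or_eq_top with h6 | h6
    · rw [h6, Subgroup.card_bot] at hc
      norm_num at hc
    · rw [h6, Subgroup.card_top, h] at hc
      norm_num at hc
  · exact h4

end Cfsg.Agent.S1020
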