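import Mathlib
import Cfsg.Prelude.Def_ChevStructure
import Cfsg.Prelude.Def_LieTwisted
import Cfsg.Agent.ChevalleyStructure.Ree.Gens
import Cfsg.Agent.ChevalleyStructure.HDiagG2
import Cfsg.Agent.ChevalleyStructure.Ree.Data
import Cfsg.Statements.S1153
import Cfsg.Agent.LieRecognition.ReeThree
set_option linter.all false

-- part: LieRecognition/ReeTab
section
set_option autoImplicit false

/-!
# Explicit action of the root elements of `G₂` in characteristic 3

Kernel-evaluated table of the matrices `x_r(t)` of `chevG2` with coefficients reduced modulo 3.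
-/

namespace Cfsg.Agent.LieRecognition.ReeTab

open Cfsg.Lie
open scoped Matrix

/-- The polynomial entry (row, col) of `x_r(t)` as a list of (exponent, coefficient). -/
def ent (D : ChevalleyDatum) (r : Fin D.nroots) (row col : D.Idx) : List (ℕ × ℤ) :=
  match col with
  | Sum.inl i =>
    (match row with
     | Sum.inl i' => if i' = i then [(0, 1)] else []
     | Sum.inr u => if u = r then [(1, - ((D.cartanSR.getD i.val #[]).getD r.val 0))] else [])
  | Sum.inr s =>
    if s = r then (match row with | Sum.inr u => if u = r then [(0, 1)] else [] | Sum.inl _ => [])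
    else if s.val = D.negIdx.getD r.val 0 then
      (match row with
       | Sum.inl i => [(1, (D.coroot.getD r.val #[]).getD i.val 0)]
       | Sum.inr u => if u = s then [(0, 1)] else if u = r then [(2, -1)] else [])
    else
      (match row with
       | Sum.inl _ => []
       | Sum.inr u => (if u = s then [(0, 1)] else []) ++ D.chainCoeff r.val s.val u.val)

/-- Evaluation of a list of (exponent, coefficient). -/
def ev {F : Type*} [Field F] (t : F) (l : List (ℕ × ℤ)) : F := (l.map fun km => ((km.2 : ℤ) : F) * t ^ km.1).sum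

theorem xMat_apply (D : ChevalleyDatum) (F : Type*) [Field F] (r : Fin D.nroots) (t : F) (row col : D.Idx) :
    D.xMat F r t row col = ev t (ent D r row col) := by
  rcases col with i | s
  · rcases row with i' | u
    · by_cases h : i' = i <;> simp [ChevalleyDatum.xMat, ent, ev, h]
    · by_cases h : u = r <;> simp [ChevalleyDatum.xMat, ent, ev, h]
  · rcases row with i' | u
    · by_cases h : s = r
      · simp [ChevalleyDatum.xMat, ent, ev, h]
      · by_cases h2 : s.val = D.negIdx.getD r.val 0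
        · simp only [ChevalleyDatum.xMat, Matrix.of_apply, ent, if_neg h, if_pos h2, ev, List.map_cons,
            List.map_nil, List.sum_cons, List.sum_nil, add_zero, pow_one]
        · simp only [ChevalleyDatum.xMat, Matrix.of_apply, ent, if_neg h, if_neg h2, ev,
            List.map_nil, List.sum_nil]
    · by_cases h : s = r
      · by_cases h' : u = r <;> simp [ChevalleyDatum.xMat, ent, ev, h, h']
      · by_cases h2 : s.val = D.negIdx.getD r.val 0
        · by_cases h3 : u = s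
          · simp only [ChevalleyDatum.xMat, Matrix.of_apply, ent, if_neg h, if_pos h2, ev, if_pos h3,
              List.map_cons, List.map_nil, List.sum_cons, List.sum_nil, add_zero, pow_zero, Int.cast_one, mul_one]
          · by_cases h4 : u = r
            · simp only [ChevalleyDatum.xMat, Matrix.of_apply, ent, if_neg h, if_pos h2, ev, if_neg h3,
                if_pos h4, List.map_cons, List.map_nil, List.sum_cons, List.sum_nil, add_zero, Int.cast_neg,
                Int.cast_one, neg_mul, one_mul]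
            · simp only [ChevalleyDatum.xMat, Matrix.of_apply, ent, if_neg h, if_pos h2, ev, if_neg h3,
                if_neg h4, List.map_nil, List.sum_nil]
        · by_cases h3 : u = s
          · simp only [ChevalleyDatum.xMat, Matrix.of_apply, ent, if_neg h, if_neg h2, ev, if_pos h3,
              List.map_append, List.map_cons, List.map_nil, List.sum_append, List.sum_cons, List.sum_nil,
              add_zero, pow_zero, Int.cast_one, mul_one]
          · simp only [ChevalleyDatum.xMat, Matrix.of_apply, ent, if_neg h, if_neg h2, ev, if_neg h3,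
              List.nil_append, zero_add]

/-- All coordinates of `chevG2`. -/
def allIdx : List chevG2.Idx :=
  [Sum.inl (0 : Fin 2), Sum.inl (1 : Fin 2), Sum.inr (0 : Fin 12), Sum.inr (1 : Fin 12), Sum.inr (2 : Fin 12),
    Sum.inr (3 : Fin 12), Sum.inr (4 : Fin 12), Sum.inr (5 : Fin 12), Sum.inr (6 : Fin 12), Sum.inr (7 : Fin 12),
    Sum.inr (8 : Fin 12), Sum.inr (9 : Fin 12), Sum.inr (10 : Fin 12), Sum.inr (11 : Fin 12)]

theorem sum_idx {F : Type*} [Field F] (f : chevG2.Idx → F) : ∑ c, f c = (allIdx.map f).sum := by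
  have h : ∑ c, f c = (∑ i : Fin 2, f (Sum.inl i)) + ∑ i : Fin 12, f (Sum.inr i) :=
    Fintype.sum_sum_type f
  rw [h]
  simp only [allIdx, Fin.sum_univ_succ, List.map_cons, List.map_nil, List.sum_cons, List.sum_nil,
    Finset.univ_eq_empty, Finset.sum_empty, add_zero, add_assoc, Fin.succ_zero_eq_one]
  rfl

/-- The coordinate with a given number `0, …, 13`. -/
def idx (n : ℕ) : chevG2.Idx := allIdx.getD n (Sum.inl (0 : Fin 2))

theorem allIdx_eq : allIdx = (List.range 14).map idx := rfl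

/-- The nonzero terms (column number, exponent, coefficient mod 3) of a row of `x_r(t)`. -/
def rowTab (r : Fin chevG2.nroots) (row : chevG2.Idx) : List (ℕ × ℕ × ℤ) :=
  (List.range 14).flatMap fun n => (ent chevG2 r row (idx n)).filterMap fun km =>
    if km.2.bmod 3 = 0 then none else some (n, km.1, km.2.bmod 3)

theorem cast_bmod {F : Type*} [Field F] [CharP F 3] (c : ℤ) : ((c.bmod 3 : ℤ) : F) = (c : F) := by
  have h : c.bmod 3 ≡ c [ZMOD 3] := by
    have := Int.bmod_emod (x := c) (m := 3)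
    exact this
  exact (CharP.intCast_eq_intCast F 3).2 h

theorem sum_filterMap {F : Type*} [Field F] [CharP F 3] (t x : F) (n : ℕ) (l : List (ℕ × ℤ)) :
    ((l.filterMap fun km => if km.2.bmod 3 = 0 then none else some (n, km.1, km.2.bmod 3)).map
      fun e : ℕ × ℕ × ℤ => ((e.2.2 : ℤ) : F) * t ^ e.2.1 * x).sum = ev t l * x := by
  induction l with
  | nil => simp [ev]
  | cons a l ih =>
    have hev : ev t (a :: l) = ((a.2 : ℤ) : F) * t ^ a.1 + ev t l := by simp [ev]
    rw [hev, add_mul, ← ih]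
    by_cases h : a.2.bmod 3 = 0
    · have h' : ((a.2 : ℤ) : F) = 0 := by rw [← cast_bmod, h, Int.cast_zero]
      simp [h, h']
    · simp only [List.filterMap_cons, h, if_false, List.map_cons, List.sum_cons, cast_bmod]

theorem mulVec_row (F : Type*) [Field F] [CharP F 3] (r : Fin chevG2.nroots) (t : F) (w : chevG2.Idx → F)
    (row : chevG2.Idx) :
    (chevG2.xMat F r t *ᵥ w) row =
      ((rowTab r row).map fun e => ((e.2.2 : ℤ) : F) * t ^ e.2.1 * w (idx e.1)).sum := by
  have h1 : (chevG2.xMat F r t *ᵥ w) row = ∑ c, ev t (ent chevG2 r row c) * w c := by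
    simp only [Matrix.mulVec, dotProduct, xMat_apply]
  rw [h1, sum_idx, rowTab, allIdx_eq, List.map_map]
  generalize List.range 14 = L
  induction L with
  | nil => simp
  | cons a L ih =>
    rw [List.map_cons, List.sum_cons, List.flatMap_cons, List.map_append, List.sum_append, ← ih]
    congr 1
    rw [Function.comp_apply, ← sum_filterMap t (w (idx a)) a]
    congr 1
    apply List.map_congr_left
    intro e he
    rw [List.mem_filterMap] at he
    obtain ⟨km, _, hkm⟩ := he
    by_cases h : km.2.bmod 3 = 0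
    · simp [h] at hkm
    · simp only [h, if_false, Option.some.injEq] at hkm
      rw [← hkm]

theorem x_mulVec_row (F : Type*) [Field F] [CharP F 3] (r : ℕ) (hr : r < chevG2.nroots) (t : F)
    (w : chevG2.Idx → F) (row : chevG2.Idx) :
    (chevG2.x F r t *ᵥ w) row =
      ((rowTab ⟨r, hr⟩ row).map fun e => ((e.2.2 : ℤ) : F) * t ^ e.2.1 * w (idx e.1)).sum := by
  rw [ChevalleyDatum.x, dif_pos hr, mulVec_row]

end Cfsg.Agent.LieRecognition.ReeTab
end

-- part: LieRecognition/ReeAct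
section
set_option autoImplicit false
set_option linter.unusedSimpArgs false

/-!
# The root elements of `G₂` in characteristic 3 acting on explicit vectors (generated)
-/

namespace Cfsg.Agent.LieRecognition.ReeAct

open Cfsg.Lie Cfsg.Agent.LieRecognition.ReeTab
open scoped Matrix

variable {K : Type*} [Field K]

/-- The vector of the 14-dimensional module with the given coordinates `h₁, h₂; e_0, …, e_11`. -/
def mk (a0 a1 b0 b1 b2 b3 b4 b5 b6 b7 b8 b9 b10 b11 : K) : chevG2.Idx → K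
  | Sum.inl i => (![a0, a1] : Fin 2 → K) i
  | Sum.inr i => (![b0, b1, b2, b3, b4, b5, b6, b7, b8, b9, b10, b11] : Fin 12 → K) i

theorem forall_idx {P : chevG2.Idx → Prop} (h0 : P (Sum.inl (0 : Fin 2))) (h1 : P (Sum.inl (1 : Fin 2)))
    (k0 : P (Sum.inr (0 : Fin 12))) (k1 : P (Sum.inr (1 : Fin 12))) (k2 : P (Sum.inr (2 : Fin 12)))
    (k3 : P (Sum.inr (3 : Fin 12))) (k4 : P (Sum.inr (4 : Fin 12))) (k5 : P (Sum.inr (5 : Fin 12)))
    (k6 : P (Sum.inr (6 : Fin 12))) (k7 : P (Sum.inr (7 : Fin 12))) (k8 : P (Sum.inr (8 : Fin 12)))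
    (k9 : P (Sum.inr (9 : Fin 12))) (k10 : P (Sum.inr (10 : Fin 12))) (k11 : P (Sum.inr (11 : Fin 12)))
    (i : chevG2.Idx) : P i := by
  rcases i with i | i
  · have : ∀ i : Fin 2, P (Sum.inl i) := by
      intro i
      fin_cases i
      · exact h0
      · exact h1
    exact this i
  · have : ∀ i : Fin 12, P (Sum.inr i) := by
      intro i
      fin_cases i
      · exact k0
      · exact k1
      · exact k2
      · exact k3
      · exact k4
      · exact k5
      · exact k6
      · exact k7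
      · exact k8
      · exact k9
      · exact k10
      · exact k11
    exact this i

omit [Field K] in
theorem exists_mk (w : chevG2.Idx → K) :
    ∃ a0 a1 b0 b1 b2 b3 b4 b5 b6 b7 b8 b9 b10 b11 : K, w = mk a0 a1 b0 b1 b2 b3 b4 b5 b6 b7 b8 b9 b10 b11 := by
  refine ⟨w (Sum.inl (0 : Fin 2)), w (Sum.inl (1 : Fin 2)), w (Sum.inr (0 : Fin 12)), w (Sum.inr (1 : Fin 12)),
    w (Sum.inr (2 : Fin 12)), w (Sum.inr (3 : Fin 12)), w (Sum.inr (4 : Fin 12)), w (Sum.inr (5 : Fin 12)),
    w (Sum.inr (6 : Fin 12)), w (Sum.inr (7 : Fin 12)), w (Sum.inr (8 : Fin 12)), w (Sum.inr (9 : Fin 12)),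
    w (Sum.inr (10 : Fin 12)), w (Sum.inr (11 : Fin 12)), ?_⟩
  funext i
  refine forall_idx (P := fun i => w i = mk _ _ _ _ _ _ _ _ _ _ _ _ _ _ i) ?_ ?_ ?_ ?_ ?_ ?_ ?_ ?_ ?_ ?_ ?_ ?_ ?_ ?_ i
  all_goals rfl

variable [CharP K 3]

theorem x0 (t a0 a1 b0 b1 b2 b3 b4 b5 b6 b7 b8 b9 b10 b11 : K) :
    chevG2.x K 0 t *ᵥ mk a0 a1 b0 b1 b2 b3 b4 b5 b6 b7 b8 b9 b10 b11 = mk
      (-b11*t + a0)
      (b11*t + a1)
      (-b11*t^2 + a1*t + b0)
      (b6*t + b1)
      (b8*t + b2)
      (-b9*t + b3)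
      (b4)
      (-b10*t + b5)
      (b6)
      (b7)
      (b8)
      (b9)
      (b10)
      (b11) := by
  funext row
  rw [x_mulVec_row K 0 (by decide)]
  refine forall_idx (P := fun row => ((rowTab (⟨0, by decide⟩ : Fin chevG2.nroots) row).map fun e => ((e.2.2 : ℤ) : K) * t ^ e.2.1 * (mk a0 a1 b0 b1 b2 b3 b4 b5 b6 b7 b8 b9 b10 b11) (idx e.1)).sum = mk _ _ _ _ _ _ _ _ _ _ _ _ _ _ row) ?_ ?_ ?_ ?_ ?_ ?_ ?_ ?_ ?_ ?_ ?_ ?_ ?_ ?_ row
  · have h : rowTab (⟨0, by decide⟩ : Fin chevG2.nroots) (Sum.inl (0 : Fin 2)) = [(0, 0, 1), (13, 1, -1)] := by decide +kernel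
    simp only [h, List.map_cons, List.map_nil, List.sum_cons, List.sum_nil, Int.cast_one, Int.cast_neg, pow_zero, mul_one, one_mul, add_zero]
    show a0 + (-1 * t ^ 1 * b11) = -b11*t + a0
    ring
  · have h : rowTab (⟨0, by decide⟩ : Fin chevG2.nroots) (Sum.inl (1 : Fin 2)) = [(1, 0, 1), (13, 1, 1)] := by decide +kernel
    simp only [h, List.map_cons, List.map_nil, List.sum_cons, List.sum_nil, Int.cast_one, Int.cast_neg, pow_zero, mul_one, one_mul, add_zero]
    show a1 + (t ^ 1 * b11) = b11*t + a1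
    ring
  · have h : rowTab (⟨0, by decide⟩ : Fin chevG2.nroots) (Sum.inr (0 : Fin 12)) = [(1, 1, 1), (2, 0, 1), (13, 2, -1)] := by decide +kernel
    simp only [h, List.map_cons, List.map_nil, List.sum_cons, List.sum_nil, Int.cast_one, Int.cast_neg, pow_zero, mul_one, one_mul, add_zero]
    show t ^ 1 * a1 + (b0 + (-1 * t ^ 2 * b11)) = -b11*t^2 + a1*t + b0
    ring
  · have h : rowTab (⟨0, by decide⟩ : Fin chevG2.nroots) (Sum.inr (1 : Fin 12)) = [(3, 0, 1), (8, 1, 1)] := by decide +kernel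
    simp only [h, List.map_cons, List.map_nil, List.sum_cons, List.sum_nil, Int.cast_one, Int.cast_neg, pow_zero, mul_one, one_mul, add_zero]
    show b1 + (t ^ 1 * b6) = b6*t + b1
    ring
  · have h : rowTab (⟨0, by decide⟩ : Fin chevG2.nroots) (Sum.inr (2 : Fin 12)) = [(4, 0, 1), (10, 1, 1)] := by decide +kernel
    simp only [h, List.map_cons, List.map_nil, List.sum_cons, List.sum_nil, Int.cast_one, Int.cast_neg, pow_zero, mul_one, one_mul, add_zero]
    show b2 + (t ^ 1 * b8) = b8*t + b2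
    ring
  · have h : rowTab (⟨0, by decide⟩ : Fin chevG2.nroots) (Sum.inr (3 : Fin 12)) = [(5, 0, 1), (11, 1, -1)] := by decide +kernel
    simp only [h, List.map_cons, List.map_nil, List.sum_cons, List.sum_nil, Int.cast_one, Int.cast_neg, pow_zero, mul_one, one_mul, add_zero]
    show b3 + (-1 * t ^ 1 * b9) = -b9*t + b3
    ring
  · have h : rowTab (⟨0, by decide⟩ : Fin chevG2.nroots) (Sum.inr (4 : Fin 12)) = [(6, 0, 1)] := by decide +kernel
    simp only [h, List.map_cons, List.map_nil, List.sum_cons, List.sum_nil, Int.cast_one, Int.cast_neg, pow_zero, mul_one, one_mul, add_zero]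
    show b4 = b4
    ring
  · have h : rowTab (⟨0, by decide⟩ : Fin chevG2.nroots) (Sum.inr (5 : Fin 12)) = [(7, 0, 1), (12, 1, -1)] := by decide +kernel
    simp only [h, List.map_cons, List.map_nil, List.sum_cons, List.sum_nil, Int.cast_one, Int.cast_neg, pow_zero, mul_one, one_mul, add_zero]
    show b5 + (-1 * t ^ 1 * b10) = -b10*t + b5
    ring
  · have h : rowTab (⟨0, by decide⟩ : Fin chevG2.nroots) (Sum.inr (6 : Fin 12)) = [(8, 0, 1)] := by decide +kernel
    simp only [h, List.map_cons, List.map_nil, List.sum_cons, List.sum_nil, Int.cast_one, Int.cast_neg, pow_zero, mul_one, one_mul, add_zero]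
    show b6 = b6
    ring
  · have h : rowTab (⟨0, by decide⟩ : Fin chevG2.nroots) (Sum.inr (7 : Fin 12)) = [(9, 0, 1)] := by decide +kernel
    simp only [h, List.map_cons, List.map_nil, List.sum_cons, List.sum_nil, Int.cast_one, Int.cast_neg, pow_zero, mul_one, one_mul, add_zero]
    show b7 = b7
    ring
  · have h : rowTab (⟨0, by decide⟩ : Fin chevG2.nroots) (Sum.inr (8 : Fin 12)) = [(10, 0, 1)] := by decide +kernel
    simp only [h, List.map_cons, List.map_nil, List.sum_cons, List.sum_nil, Int.cast_one, Int.cast_neg, pow_zero, mul_one, one_mul, add_zero]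
    show b8 = b8
    ring
  · have h : rowTab (⟨0, by decide⟩ : Fin chevG2.nroots) (Sum.inr (9 : Fin 12)) = [(11, 0, 1)] := by decide +kernel
    simp only [h, List.map_cons, List.map_nil, List.sum_cons, List.sum_nil, Int.cast_one, Int.cast_neg, pow_zero, mul_one, one_mul, add_zero]
    show b9 = b9
    ring
  · have h : rowTab (⟨0, by decide⟩ : Fin chevG2.nroots) (Sum.inr (10 : Fin 12)) = [(12, 0, 1)] := by decide +kernel
    simp only [h, List.map_cons, List.map_nil, List.sum_cons, List.sum_nil, Int.cast_one, Int.cast_neg, pow_zero, mul_one, one_mul, add_zero]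
    show b10 = b10
    ring
  · have h : rowTab (⟨0, by decide⟩ : Fin chevG2.nroots) (Sum.inr (11 : Fin 12)) = [(13, 0, 1)] := by decide +kernel
    simp only [h, List.map_cons, List.map_nil, List.sum_cons, List.sum_nil, Int.cast_one, Int.cast_neg, pow_zero, mul_one, one_mul, add_zero]
    show b11 = b11
    ring

theorem x1 (t a0 a1 b0 b1 b2 b3 b4 b5 b6 b7 b8 b9 b10 b11 : K) :
    chevG2.x K 1 t *ᵥ mk a0 a1 b0 b1 b2 b3 b4 b5 b6 b7 b8 b9 b10 b11 = mk
      (-b10*t + a0)
      (-b10*t + a1)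
      (b5*t + b0)
      (-b10*t^2 - a1*t + b1)
      (b7*t + b2)
      (b3)
      (-b9*t + b4)
      (b5)
      (-b11*t + b6)
      (b7)
      (b8)
      (b9)
      (b10)
      (b11) := by
  funext row
  rw [x_mulVec_row K 1 (by decide)]
  refine forall_idx (P := fun row => ((rowTab (⟨1, by decide⟩ : Fin chevG2.nroots) row).map fun e => ((e.2.2 : ℤ) : K) * t ^ e.2.1 * (mk a0 a1 b0 b1 b2 b3 b4 b5 b6 b7 b8 b9 b10 b11) (idx e.1)).sum = mk _ _ _ _ _ _ _ _ _ _ _ _ _ _ row) ?_ ?_ ?_ ?_ ?_ ?_ ?_ ?_ ?_ ?_ ?_ ?_ ?_ ?_ row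
  · have h : rowTab (⟨1, by decide⟩ : Fin chevG2.nroots) (Sum.inl (0 : Fin 2)) = [(0, 0, 1), (12, 1, -1)] := by decide +kernel
    simp only [h, List.map_cons, List.map_nil, List.sum_cons, List.sum_nil, Int.cast_one, Int.cast_neg, pow_zero, mul_one, one_mul, add_zero]
    show a0 + (-1 * t ^ 1 * b10) = -b10*t + a0
    ring
  · have h : rowTab (⟨1, by decide⟩ : Fin chevG2.nroots) (Sum.inl (1 : Fin 2)) = [(1, 0, 1), (12, 1, -1)] := by decide +kernel
    simp only [h, List.map_cons, List.map_nil, List.sum_cons, List.sum_nil, Int.cast_one, Int.cast_neg, pow_zero, mul_one, one_mul, add_zero]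
    show a1 + (-1 * t ^ 1 * b10) = -b10*t + a1
    ring
  · have h : rowTab (⟨1, by decide⟩ : Fin chevG2.nroots) (Sum.inr (0 : Fin 12)) = [(2, 0, 1), (7, 1, 1)] := by decide +kernel
    simp only [h, List.map_cons, List.map_nil, List.sum_cons, List.sum_nil, Int.cast_one, Int.cast_neg, pow_zero, mul_one, one_mul, add_zero]
    show b0 + (t ^ 1 * b5) = b5*t + b0
    ring
  · have h : rowTab (⟨1, by decide⟩ : Fin chevG2.nroots) (Sum.inr (1 : Fin 12)) = [(1, 1, -1), (3, 0, 1), (12, 2, -1)] := by decide +kernel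
    simp only [h, List.map_cons, List.map_nil, List.sum_cons, List.sum_nil, Int.cast_one, Int.cast_neg, pow_zero, mul_one, one_mul, add_zero]
    show -1 * t ^ 1 * a1 + (b1 + (-1 * t ^ 2 * b10)) = -b10*t^2 - a1*t + b1
    ring
  · have h : rowTab (⟨1, by decide⟩ : Fin chevG2.nroots) (Sum.inr (2 : Fin 12)) = [(4, 0, 1), (9, 1, 1)] := by decide +kernel
    simp only [h, List.map_cons, List.map_nil, List.sum_cons, List.sum_nil, Int.cast_one, Int.cast_neg, pow_zero, mul_one, one_mul, add_zero]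
    show b2 + (t ^ 1 * b7) = b7*t + b2
    ring
  · have h : rowTab (⟨1, by decide⟩ : Fin chevG2.nroots) (Sum.inr (3 : Fin 12)) = [(5, 0, 1)] := by decide +kernel
    simp only [h, List.map_cons, List.map_nil, List.sum_cons, List.sum_nil, Int.cast_one, Int.cast_neg, pow_zero, mul_one, one_mul, add_zero]
    show b3 = b3
    ring
  · have h : rowTab (⟨1, by decide⟩ : Fin chevG2.nroots) (Sum.inr (4 : Fin 12)) = [(6, 0, 1), (11, 1, -1)] := by decide +kernel
    simp only [h, List.map_cons, List.map_nil, List.sum_cons, List.sum_nil, Int.cast_one, Int.cast_neg, pow_zero, mul_one, one_mul, add_zero]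
    show b4 + (-1 * t ^ 1 * b9) = -b9*t + b4
    ring
  · have h : rowTab (⟨1, by decide⟩ : Fin chevG2.nroots) (Sum.inr (5 : Fin 12)) = [(7, 0, 1)] := by decide +kernel
    simp only [h, List.map_cons, List.map_nil, List.sum_cons, List.sum_nil, Int.cast_one, Int.cast_neg, pow_zero, mul_one, one_mul, add_zero]
    show b5 = b5
    ring
  · have h : rowTab (⟨1, by decide⟩ : Fin chevG2.nroots) (Sum.inr (6 : Fin 12)) = [(8, 0, 1), (13, 1, -1)] := by decide +kernel
    simp only [h, List.map_cons, List.map_nil, List.sum_cons, List.sum_nil, Int.cast_one, Int.cast_neg, pow_zero, mul_one, one_mul, add_zero]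
    show b6 + (-1 * t ^ 1 * b11) = -b11*t + b6
    ring
  · have h : rowTab (⟨1, by decide⟩ : Fin chevG2.nroots) (Sum.inr (7 : Fin 12)) = [(9, 0, 1)] := by decide +kernel
    simp only [h, List.map_cons, List.map_nil, List.sum_cons, List.sum_nil, Int.cast_one, Int.cast_neg, pow_zero, mul_one, one_mul, add_zero]
    show b7 = b7
    ring
  · have h : rowTab (⟨1, by decide⟩ : Fin chevG2.nroots) (Sum.inr (8 : Fin 12)) = [(10, 0, 1)] := by decide +kernel
    simp only [h, List.map_cons, List.map_nil, List.sum_cons, List.sum_nil, Int.cast_one, Int.cast_neg, pow_zero, mul_one, one_mul, add_zero]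
    show b8 = b8
    ring
  · have h : rowTab (⟨1, by decide⟩ : Fin chevG2.nroots) (Sum.inr (9 : Fin 12)) = [(11, 0, 1)] := by decide +kernel
    simp only [h, List.map_cons, List.map_nil, List.sum_cons, List.sum_nil, Int.cast_one, Int.cast_neg, pow_zero, mul_one, one_mul, add_zero]
    show b9 = b9
    ring
  · have h : rowTab (⟨1, by decide⟩ : Fin chevG2.nroots) (Sum.inr (10 : Fin 12)) = [(12, 0, 1)] := by decide +kernel
    simp only [h, List.map_cons, List.map_nil, List.sum_cons, List.sum_nil, Int.cast_one, Int.cast_neg, pow_zero, mul_one, one_mul, add_zero]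
    show b10 = b10
    ring
  · have h : rowTab (⟨1, by decide⟩ : Fin chevG2.nroots) (Sum.inr (11 : Fin 12)) = [(13, 0, 1)] := by decide +kernel
    simp only [h, List.map_cons, List.map_nil, List.sum_cons, List.sum_nil, Int.cast_one, Int.cast_neg, pow_zero, mul_one, one_mul, add_zero]
    show b11 = b11
    ring

theorem x2 (t a0 a1 b0 b1 b2 b3 b4 b5 b6 b7 b8 b9 b10 b11 : K) :
    chevG2.x K 2 t *ᵥ mk a0 a1 b0 b1 b2 b3 b4 b5 b6 b7 b8 b9 b10 b11 = mk
      (b9*t + a0)
      (a1)
      (b10*t^3 + b0)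
      (-b11*t^3 + b1)
      (-b9*t^2 + a0*t + b2)
      (b10*t^2 + b7*t + b3)
      (-b11*t^2 - b8*t + b4)
      (b5)
      (b6)
      (-b10*t + b7)
      (-b11*t + b8)
      (b9)
      (b10)
      (b11) := by
  funext row
  rw [x_mulVec_row K 2 (by decide)]
  refine forall_idx (P := fun row => ((rowTab (⟨2, by decide⟩ : Fin chevG2.nroots) row).map fun e => ((e.2.2 : ℤ) : K) * t ^ e.2.1 * (mk a0 a1 b0 b1 b2 b3 b4 b5 b6 b7 b8 b9 b10 b11) (idx e.1)).sum = mk _ _ _ _ _ _ _ _ _ _ _ _ _ _ row) ?_ ?_ ?_ ?_ ?_ ?_ ?_ ?_ ?_ ?_ ?_ ?_ ?_ ?_ row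
  · have h : rowTab (⟨2, by decide⟩ : Fin chevG2.nroots) (Sum.inl (0 : Fin 2)) = [(0, 0, 1), (11, 1, 1)] := by decide +kernel
    simp only [h, List.map_cons, List.map_nil, List.sum_cons, List.sum_nil, Int.cast_one, Int.cast_neg, pow_zero, mul_one, one_mul, add_zero]
    show a0 + (t ^ 1 * b9) = b9*t + a0
    ring
  · have h : rowTab (⟨2, by decide⟩ : Fin chevG2.nroots) (Sum.inl (1 : Fin 2)) = [(1, 0, 1)] := by decide +kernel
    simp only [h, List.map_cons, List.map_nil, List.sum_cons, List.sum_nil, Int.cast_one, Int.cast_neg, pow_zero, mul_one, one_mul, add_zero]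
    show a1 = a1
    ring
  · have h : rowTab (⟨2, by decide⟩ : Fin chevG2.nroots) (Sum.inr (0 : Fin 12)) = [(2, 0, 1), (12, 3, 1)] := by decide +kernel
    simp only [h, List.map_cons, List.map_nil, List.sum_cons, List.sum_nil, Int.cast_one, Int.cast_neg, pow_zero, mul_one, one_mul, add_zero]
    show b0 + (t ^ 3 * b10) = b10*t^3 + b0
    ring
  · have h : rowTab (⟨2, by decide⟩ : Fin chevG2.nroots) (Sum.inr (1 : Fin 12)) = [(3, 0, 1), (13, 3, -1)] := by decide +kernel
    simp only [h, List.map_cons, List.map_nil, List.sum_cons, List.sum_nil, Int.cast_one, Int.cast_neg, pow_zero, mul_one, one_mul, add_zero]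
    show b1 + (-1 * t ^ 3 * b11) = -b11*t^3 + b1
    ring
  · have h : rowTab (⟨2, by decide⟩ : Fin chevG2.nroots) (Sum.inr (2 : Fin 12)) = [(0, 1, 1), (4, 0, 1), (11, 2, -1)] := by decide +kernel
    simp only [h, List.map_cons, List.map_nil, List.sum_cons, List.sum_nil, Int.cast_one, Int.cast_neg, pow_zero, mul_one, one_mul, add_zero]
    show t ^ 1 * a0 + (b2 + (-1 * t ^ 2 * b9)) = -b9*t^2 + a0*t + b2
    ring
  · have h : rowTab (⟨2, by decide⟩ : Fin chevG2.nroots) (Sum.inr (3 : Fin 12)) = [(5, 0, 1), (9, 1, 1), (12, 2, 1)] := by decide +kernel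
    simp only [h, List.map_cons, List.map_nil, List.sum_cons, List.sum_nil, Int.cast_one, Int.cast_neg, pow_zero, mul_one, one_mul, add_zero]
    show b3 + (t ^ 1 * b7 + (t ^ 2 * b10)) = b10*t^2 + b7*t + b3
    ring
  · have h : rowTab (⟨2, by decide⟩ : Fin chevG2.nroots) (Sum.inr (4 : Fin 12)) = [(6, 0, 1), (10, 1, -1), (13, 2, -1)] := by decide +kernel
    simp only [h, List.map_cons, List.map_nil, List.sum_cons, List.sum_nil, Int.cast_one, Int.cast_neg, pow_zero, mul_one, one_mul, add_zero]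
    show b4 + (-1 * t ^ 1 * b8 + (-1 * t ^ 2 * b11)) = -b11*t^2 - b8*t + b4
    ring
  · have h : rowTab (⟨2, by decide⟩ : Fin chevG2.nroots) (Sum.inr (5 : Fin 12)) = [(7, 0, 1)] := by decide +kernel
    simp only [h, List.map_cons, List.map_nil, List.sum_cons, List.sum_nil, Int.cast_one, Int.cast_neg, pow_zero, mul_one, one_mul, add_zero]
    show b5 = b5
    ring
  · have h : rowTab (⟨2, by decide⟩ : Fin chevG2.nroots) (Sum.inr (6 : Fin 12)) = [(8, 0, 1)] := by decide +kernel
    simp only [h, List.map_cons, List.map_nil, List.sum_cons, List.sum_nil, Int.cast_one, Int.cast_neg, pow_zero, mul_one, one_mul, add_zero]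
    show b6 = b6
    ring
  · have h : rowTab (⟨2, by decide⟩ : Fin chevG2.nroots) (Sum.inr (7 : Fin 12)) = [(9, 0, 1), (12, 1, -1)] := by decide +kernel
    simp only [h, List.map_cons, List.map_nil, List.sum_cons, List.sum_nil, Int.cast_one, Int.cast_neg, pow_zero, mul_one, one_mul, add_zero]
    show b7 + (-1 * t ^ 1 * b10) = -b10*t + b7
    ring
  · have h : rowTab (⟨2, by decide⟩ : Fin chevG2.nroots) (Sum.inr (8 : Fin 12)) = [(10, 0, 1), (13, 1, -1)] := by decide +kernel
    simp only [h, List.map_cons, List.map_nil, List.sum_cons, List.sum_nil, Int.cast_one, Int.cast_neg, pow_zero, mul_one, one_mul, add_zero]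
    show b8 + (-1 * t ^ 1 * b11) = -b11*t + b8
    ring
  · have h : rowTab (⟨2, by decide⟩ : Fin chevG2.nroots) (Sum.inr (9 : Fin 12)) = [(11, 0, 1)] := by decide +kernel
    simp only [h, List.map_cons, List.map_nil, List.sum_cons, List.sum_nil, Int.cast_one, Int.cast_neg, pow_zero, mul_one, one_mul, add_zero]
    show b9 = b9
    ring
  · have h : rowTab (⟨2, by decide⟩ : Fin chevG2.nroots) (Sum.inr (10 : Fin 12)) = [(12, 0, 1)] := by decide +kernel
    simp only [h, List.map_cons, List.map_nil, List.sum_cons, List.sum_nil, Int.cast_one, Int.cast_neg, pow_zero, mul_one, one_mul, add_zero]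
    show b10 = b10
    ring
  · have h : rowTab (⟨2, by decide⟩ : Fin chevG2.nroots) (Sum.inr (11 : Fin 12)) = [(13, 0, 1)] := by decide +kernel
    simp only [h, List.map_cons, List.map_nil, List.sum_cons, List.sum_nil, Int.cast_one, Int.cast_neg, pow_zero, mul_one, one_mul, add_zero]
    show b11 = b11
    ring

theorem x3 (t a0 a1 b0 b1 b2 b3 b4 b5 b6 b7 b8 b9 b10 b11 : K) :
    chevG2.x K 3 t *ᵥ mk a0 a1 b0 b1 b2 b3 b4 b5 b6 b7 b8 b9 b10 b11 = mk
      (-b8*t + a0)
      (a1)
      (b6*t^3 + b0)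
      (b1)
      (-b6*t^2 + b4*t + b2)
      (-b8*t^2 - a0*t + a1*t + b3)
      (b6*t + b4)
      (-b11*t^3 + b5)
      (b6)
      (b11*t^2 - b9*t + b7)
      (b8)
      (b11*t + b9)
      (b10)
      (b11) := by
  funext row
  rw [x_mulVec_row K 3 (by decide)]
  refine forall_idx (P := fun row => ((rowTab (⟨3, by decide⟩ : Fin chevG2.nroots) row).map fun e => ((e.2.2 : ℤ) : K) * t ^ e.2.1 * (mk a0 a1 b0 b1 b2 b3 b4 b5 b6 b7 b8 b9 b10 b11) (idx e.1)).sum = mk _ _ _ _ _ _ _ _ _ _ _ _ _ _ row) ?_ ?_ ?_ ?_ ?_ ?_ ?_ ?_ ?_ ?_ ?_ ?_ ?_ ?_ row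
  · have h : rowTab (⟨3, by decide⟩ : Fin chevG2.nroots) (Sum.inl (0 : Fin 2)) = [(0, 0, 1), (10, 1, -1)] := by decide +kernel
    simp only [h, List.map_cons, List.map_nil, List.sum_cons, List.sum_nil, Int.cast_one, Int.cast_neg, pow_zero, mul_one, one_mul, add_zero]
    show a0 + (-1 * t ^ 1 * b8) = -b8*t + a0
    ring
  · have h : rowTab (⟨3, by decide⟩ : Fin chevG2.nroots) (Sum.inl (1 : Fin 2)) = [(1, 0, 1)] := by decide +kernel
    simp only [h, List.map_cons, List.map_nil, List.sum_cons, List.sum_nil, Int.cast_one, Int.cast_neg, pow_zero, mul_one, one_mul, add_zero]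
    show a1 = a1
    ring
  · have h : rowTab (⟨3, by decide⟩ : Fin chevG2.nroots) (Sum.inr (0 : Fin 12)) = [(2, 0, 1), (8, 3, 1)] := by decide +kernel
    simp only [h, List.map_cons, List.map_nil, List.sum_cons, List.sum_nil, Int.cast_one, Int.cast_neg, pow_zero, mul_one, one_mul, add_zero]
    show b0 + (t ^ 3 * b6) = b6*t^3 + b0
    ring
  · have h : rowTab (⟨3, by decide⟩ : Fin chevG2.nroots) (Sum.inr (1 : Fin 12)) = [(3, 0, 1)] := by decide +kernel
    simp only [h, List.map_cons, List.map_nil, List.sum_cons, List.sum_nil, Int.cast_one, Int.cast_neg, pow_zero, mul_one, one_mul, add_zero]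
    show b1 = b1
    ring
  · have h : rowTab (⟨3, by decide⟩ : Fin chevG2.nroots) (Sum.inr (2 : Fin 12)) = [(4, 0, 1), (6, 1, 1), (8, 2, -1)] := by decide +kernel
    simp only [h, List.map_cons, List.map_nil, List.sum_cons, List.sum_nil, Int.cast_one, Int.cast_neg, pow_zero, mul_one, one_mul, add_zero]
    show b2 + (t ^ 1 * b4 + (-1 * t ^ 2 * b6)) = -b6*t^2 + b4*t + b2
    ring
  · have h : rowTab (⟨3, by decide⟩ : Fin chevG2.nroots) (Sum.inr (3 : Fin 12)) = [(0, 1, -1), (1, 1, 1), (5, 0, 1), (10, 2, -1)] := by decide +kernel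
    simp only [h, List.map_cons, List.map_nil, List.sum_cons, List.sum_nil, Int.cast_one, Int.cast_neg, pow_zero, mul_one, one_mul, add_zero]
    show -1 * t ^ 1 * a0 + (t ^ 1 * a1 + (b3 + (-1 * t ^ 2 * b8))) = -b8*t^2 - a0*t + a1*t + b3
    ring
  · have h : rowTab (⟨3, by decide⟩ : Fin chevG2.nroots) (Sum.inr (4 : Fin 12)) = [(6, 0, 1), (8, 1, 1)] := by decide +kernel
    simp only [h, List.map_cons, List.map_nil, List.sum_cons, List.sum_nil, Int.cast_one, Int.cast_neg, pow_zero, mul_one, one_mul, add_zero]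
    show b4 + (t ^ 1 * b6) = b6*t + b4
    ring
  · have h : rowTab (⟨3, by decide⟩ : Fin chevG2.nroots) (Sum.inr (5 : Fin 12)) = [(7, 0, 1), (13, 3, -1)] := by decide +kernel
    simp only [h, List.map_cons, List.map_nil, List.sum_cons, List.sum_nil, Int.cast_one, Int.cast_neg, pow_zero, mul_one, one_mul, add_zero]
    show b5 + (-1 * t ^ 3 * b11) = -b11*t^3 + b5
    ring
  · have h : rowTab (⟨3, by decide⟩ : Fin chevG2.nroots) (Sum.inr (6 : Fin 12)) = [(8, 0, 1)] := by decide +kernel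
    simp only [h, List.map_cons, List.map_nil, List.sum_cons, List.sum_nil, Int.cast_one, Int.cast_neg, pow_zero, mul_one, one_mul, add_zero]
    show b6 = b6
    ring
  · have h : rowTab (⟨3, by decide⟩ : Fin chevG2.nroots) (Sum.inr (7 : Fin 12)) = [(9, 0, 1), (11, 1, -1), (13, 2, 1)] := by decide +kernel
    simp only [h, List.map_cons, List.map_nil, List.sum_cons, List.sum_nil, Int.cast_one, Int.cast_neg, pow_zero, mul_one, one_mul, add_zero]
    show b7 + (-1 * t ^ 1 * b9 + (t ^ 2 * b11)) = b11*t^2 - b9*t + b7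
    ring
  · have h : rowTab (⟨3, by decide⟩ : Fin chevG2.nroots) (Sum.inr (8 : Fin 12)) = [(10, 0, 1)] := by decide +kernel
    simp only [h, List.map_cons, List.map_nil, List.sum_cons, List.sum_nil, Int.cast_one, Int.cast_neg, pow_zero, mul_one, one_mul, add_zero]
    show b8 = b8
    ring
  · have h : rowTab (⟨3, by decide⟩ : Fin chevG2.nroots) (Sum.inr (9 : Fin 12)) = [(11, 0, 1), (13, 1, 1)] := by decide +kernel
    simp only [h, List.map_cons, List.map_nil, List.sum_cons, List.sum_nil, Int.cast_one, Int.cast_neg, pow_zero, mul_one, one_mul, add_zero]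
    show b9 + (t ^ 1 * b11) = b11*t + b9
    ring
  · have h : rowTab (⟨3, by decide⟩ : Fin chevG2.nroots) (Sum.inr (10 : Fin 12)) = [(12, 0, 1)] := by decide +kernel
    simp only [h, List.map_cons, List.map_nil, List.sum_cons, List.sum_nil, Int.cast_one, Int.cast_neg, pow_zero, mul_one, one_mul, add_zero]
    show b10 = b10
    ring
  · have h : rowTab (⟨3, by decide⟩ : Fin chevG2.nroots) (Sum.inr (11 : Fin 12)) = [(13, 0, 1)] := by decide +kernel
    simp only [h, List.map_cons, List.map_nil, List.sum_cons, List.sum_nil, Int.cast_one, Int.cast_neg, pow_zero, mul_one, one_mul, add_zero]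
    show b11 = b11
    ring

theorem x4 (t a0 a1 b0 b1 b2 b3 b4 b5 b6 b7 b8 b9 b10 b11 : K) :
    chevG2.x K 4 t *ᵥ mk a0 a1 b0 b1 b2 b3 b4 b5 b6 b7 b8 b9 b10 b11 = mk
      (-b7*t + a0)
      (a1)
      (b0)
      (-b5*t^3 + b1)
      (b5*t^2 - b3*t + b2)
      (b5*t + b3)
      (-b7*t^2 - a0*t - a1*t + b4)
      (b5)
      (b10*t^3 + b6)
      (b7)
      (-b10*t^2 + b9*t + b8)
      (b10*t + b9)
      (b10)
      (b11) := by
  funext row
  rw [x_mulVec_row K 4 (by decide)]
  refine forall_idx (P := fun row => ((rowTab (⟨4, by decide⟩ : Fin chevG2.nroots) row).map fun e => ((e.2.2 : ℤ) : K) * t ^ e.2.1 * (mk a0 a1 b0 b1 b2 b3 b4 b5 b6 b7 b8 b9 b10 b11) (idx e.1)).sum = mk _ _ _ _ _ _ _ _ _ _ _ _ _ _ row) ?_ ?_ ?_ ?_ ?_ ?_ ?_ ?_ ?_ ?_ ?_ ?_ ?_ ?_ row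
  · have h : rowTab (⟨4, by decide⟩ : Fin chevG2.nroots) (Sum.inl (0 : Fin 2)) = [(0, 0, 1), (9, 1, -1)] := by decide +kernel
    simp only [h, List.map_cons, List.map_nil, List.sum_cons, List.sum_nil, Int.cast_one, Int.cast_neg, pow_zero, mul_one, one_mul, add_zero]
    show a0 + (-1 * t ^ 1 * b7) = -b7*t + a0
    ring
  · have h : rowTab (⟨4, by decide⟩ : Fin chevG2.nroots) (Sum.inl (1 : Fin 2)) = [(1, 0, 1)] := by decide +kernel
    simp only [h, List.map_cons, List.map_nil, List.sum_cons, List.sum_nil, Int.cast_one, Int.cast_neg, pow_zero, mul_one, one_mul, add_zero]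
    show a1 = a1
    ring
  · have h : rowTab (⟨4, by decide⟩ : Fin chevG2.nroots) (Sum.inr (0 : Fin 12)) = [(2, 0, 1)] := by decide +kernel
    simp only [h, List.map_cons, List.map_nil, List.sum_cons, List.sum_nil, Int.cast_one, Int.cast_neg, pow_zero, mul_one, one_mul, add_zero]
    show b0 = b0
    ring
  · have h : rowTab (⟨4, by decide⟩ : Fin chevG2.nroots) (Sum.inr (1 : Fin 12)) = [(3, 0, 1), (7, 3, -1)] := by decide +kernel
    simp only [h, List.map_cons, List.map_nil, List.sum_cons, List.sum_nil, Int.cast_one, Int.cast_neg, pow_zero, mul_one, one_mul, add_zero]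
    show b1 + (-1 * t ^ 3 * b5) = -b5*t^3 + b1
    ring
  · have h : rowTab (⟨4, by decide⟩ : Fin chevG2.nroots) (Sum.inr (2 : Fin 12)) = [(4, 0, 1), (5, 1, -1), (7, 2, 1)] := by decide +kernel
    simp only [h, List.map_cons, List.map_nil, List.sum_cons, List.sum_nil, Int.cast_one, Int.cast_neg, pow_zero, mul_one, one_mul, add_zero]
    show b2 + (-1 * t ^ 1 * b3 + (t ^ 2 * b5)) = b5*t^2 - b3*t + b2
    ring
  · have h : rowTab (⟨4, by decide⟩ : Fin chevG2.nroots) (Sum.inr (3 : Fin 12)) = [(5, 0, 1), (7, 1, 1)] := by decide +kernel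
    simp only [h, List.map_cons, List.map_nil, List.sum_cons, List.sum_nil, Int.cast_one, Int.cast_neg, pow_zero, mul_one, one_mul, add_zero]
    show b3 + (t ^ 1 * b5) = b5*t + b3
    ring
  · have h : rowTab (⟨4, by decide⟩ : Fin chevG2.nroots) (Sum.inr (4 : Fin 12)) = [(0, 1, -1), (1, 1, -1), (6, 0, 1), (9, 2, -1)] := by decide +kernel
    simp only [h, List.map_cons, List.map_nil, List.sum_cons, List.sum_nil, Int.cast_one, Int.cast_neg, pow_zero, mul_one, one_mul, add_zero]
    show -1 * t ^ 1 * a0 + (-1 * t ^ 1 * a1 + (b4 + (-1 * t ^ 2 * b7))) = -b7*t^2 - a0*t - a1*t + b4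
    ring
  · have h : rowTab (⟨4, by decide⟩ : Fin chevG2.nroots) (Sum.inr (5 : Fin 12)) = [(7, 0, 1)] := by decide +kernel
    simp only [h, List.map_cons, List.map_nil, List.sum_cons, List.sum_nil, Int.cast_one, Int.cast_neg, pow_zero, mul_one, one_mul, add_zero]
    show b5 = b5
    ring
  · have h : rowTab (⟨4, by decide⟩ : Fin chevG2.nroots) (Sum.inr (6 : Fin 12)) = [(8, 0, 1), (12, 3, 1)] := by decide +kernel
    simp only [h, List.map_cons, List.map_nil, List.sum_cons, List.sum_nil, Int.cast_one, Int.cast_neg, pow_zero, mul_one, one_mul, add_zero]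
    show b6 + (t ^ 3 * b10) = b10*t^3 + b6
    ring
  · have h : rowTab (⟨4, by decide⟩ : Fin chevG2.nroots) (Sum.inr (7 : Fin 12)) = [(9, 0, 1)] := by decide +kernel
    simp only [h, List.map_cons, List.map_nil, List.sum_cons, List.sum_nil, Int.cast_one, Int.cast_neg, pow_zero, mul_one, one_mul, add_zero]
    show b7 = b7
    ring
  · have h : rowTab (⟨4, by decide⟩ : Fin chevG2.nroots) (Sum.inr (8 : Fin 12)) = [(10, 0, 1), (11, 1, 1), (12, 2, -1)] := by decide +kernel
    simp only [h, List.map_cons, List.map_nil, List.sum_cons, List.sum_nil, Int.cast_one, Int.cast_neg, pow_zero, mul_one, one_mul, add_zero]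
    show b8 + (t ^ 1 * b9 + (-1 * t ^ 2 * b10)) = -b10*t^2 + b9*t + b8
    ring
  · have h : rowTab (⟨4, by decide⟩ : Fin chevG2.nroots) (Sum.inr (9 : Fin 12)) = [(11, 0, 1), (12, 1, 1)] := by decide +kernel
    simp only [h, List.map_cons, List.map_nil, List.sum_cons, List.sum_nil, Int.cast_one, Int.cast_neg, pow_zero, mul_one, one_mul, add_zero]
    show b9 + (t ^ 1 * b10) = b10*t + b9
    ring
  · have h : rowTab (⟨4, by decide⟩ : Fin chevG2.nroots) (Sum.inr (10 : Fin 12)) = [(12, 0, 1)] := by decide +kernel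
    simp only [h, List.map_cons, List.map_nil, List.sum_cons, List.sum_nil, Int.cast_one, Int.cast_neg, pow_zero, mul_one, one_mul, add_zero]
    show b10 = b10
    ring
  · have h : rowTab (⟨4, by decide⟩ : Fin chevG2.nroots) (Sum.inr (11 : Fin 12)) = [(13, 0, 1)] := by decide +kernel
    simp only [h, List.map_cons, List.map_nil, List.sum_cons, List.sum_nil, Int.cast_one, Int.cast_neg, pow_zero, mul_one, one_mul, add_zero]
    show b11 = b11
    ring

theorem x5 (t a0 a1 b0 b1 b2 b3 b4 b5 b6 b7 b8 b9 b10 b11 : K) :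
    chevG2.x K 5 t *ᵥ mk a0 a1 b0 b1 b2 b3 b4 b5 b6 b7 b8 b9 b10 b11 = mk
      (a0)
      (-b6*t + a1)
      (-b1*t + b0)
      (b1)
      (b2)
      (-b4*t + b3)
      (b4)
      (-b6*t^2 - a1*t + b5)
      (b6)
      (b8*t + b7)
      (b8)
      (b9)
      (b11*t + b10)
      (b11) := by
  funext row
  rw [x_mulVec_row K 5 (by decide)]
  refine forall_idx (P := fun row => ((rowTab (⟨5, by decide⟩ : Fin chevG2.nroots) row).map fun e => ((e.2.2 : ℤ) : K) * t ^ e.2.1 * (mk a0 a1 b0 b1 b2 b3 b4 b5 b6 b7 b8 b9 b10 b11) (idx e.1)).sum = mk _ _ _ _ _ _ _ _ _ _ _ _ _ _ row) ?_ ?_ ?_ ?_ ?_ ?_ ?_ ?_ ?_ ?_ ?_ ?_ ?_ ?_ row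
  · have h : rowTab (⟨5, by decide⟩ : Fin chevG2.nroots) (Sum.inl (0 : Fin 2)) = [(0, 0, 1)] := by decide +kernel
    simp only [h, List.map_cons, List.map_nil, List.sum_cons, List.sum_nil, Int.cast_one, Int.cast_neg, pow_zero, mul_one, one_mul, add_zero]
    show a0 = a0
    ring
  · have h : rowTab (⟨5, by decide⟩ : Fin chevG2.nroots) (Sum.inl (1 : Fin 2)) = [(1, 0, 1), (8, 1, -1)] := by decide +kernel
    simp only [h, List.map_cons, List.map_nil, List.sum_cons, List.sum_nil, Int.cast_one, Int.cast_neg, pow_zero, mul_one, one_mul, add_zero]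
    show a1 + (-1 * t ^ 1 * b6) = -b6*t + a1
    ring
  · have h : rowTab (⟨5, by decide⟩ : Fin chevG2.nroots) (Sum.inr (0 : Fin 12)) = [(2, 0, 1), (3, 1, -1)] := by decide +kernel
    simp only [h, List.map_cons, List.map_nil, List.sum_cons, List.sum_nil, Int.cast_one, Int.cast_neg, pow_zero, mul_one, one_mul, add_zero]
    show b0 + (-1 * t ^ 1 * b1) = -b1*t + b0
    ring
  · have h : rowTab (⟨5, by decide⟩ : Fin chevG2.nroots) (Sum.inr (1 : Fin 12)) = [(3, 0, 1)] := by decide +kernel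
    simp only [h, List.map_cons, List.map_nil, List.sum_cons, List.sum_nil, Int.cast_one, Int.cast_neg, pow_zero, mul_one, one_mul, add_zero]
    show b1 = b1
    ring
  · have h : rowTab (⟨5, by decide⟩ : Fin chevG2.nroots) (Sum.inr (2 : Fin 12)) = [(4, 0, 1)] := by decide +kernel
    simp only [h, List.map_cons, List.map_nil, List.sum_cons, List.sum_nil, Int.cast_one, Int.cast_neg, pow_zero, mul_one, one_mul, add_zero]
    show b2 = b2
    ring
  · have h : rowTab (⟨5, by decide⟩ : Fin chevG2.nroots) (Sum.inr (3 : Fin 12)) = [(5, 0, 1), (6, 1, -1)] := by decide +kernel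
    simp only [h, List.map_cons, List.map_nil, List.sum_cons, List.sum_nil, Int.cast_one, Int.cast_neg, pow_zero, mul_one, one_mul, add_zero]
    show b3 + (-1 * t ^ 1 * b4) = -b4*t + b3
    ring
  · have h : rowTab (⟨5, by decide⟩ : Fin chevG2.nroots) (Sum.inr (4 : Fin 12)) = [(6, 0, 1)] := by decide +kernel
    simp only [h, List.map_cons, List.map_nil, List.sum_cons, List.sum_nil, Int.cast_one, Int.cast_neg, pow_zero, mul_one, one_mul, add_zero]
    show b4 = b4
    ring
  · have h : rowTab (⟨5, by decide⟩ : Fin chevG2.nroots) (Sum.inr (5 : Fin 12)) = [(1, 1, -1), (7, 0, 1), (8, 2, -1)] := by decide +kernel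
    simp only [h, List.map_cons, List.map_nil, List.sum_cons, List.sum_nil, Int.cast_one, Int.cast_neg, pow_zero, mul_one, one_mul, add_zero]
    show -1 * t ^ 1 * a1 + (b5 + (-1 * t ^ 2 * b6)) = -b6*t^2 - a1*t + b5
    ring
  · have h : rowTab (⟨5, by decide⟩ : Fin chevG2.nroots) (Sum.inr (6 : Fin 12)) = [(8, 0, 1)] := by decide +kernel
    simp only [h, List.map_cons, List.map_nil, List.sum_cons, List.sum_nil, Int.cast_one, Int.cast_neg, pow_zero, mul_one, one_mul, add_zero]
    show b6 = b6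
    ring
  · have h : rowTab (⟨5, by decide⟩ : Fin chevG2.nroots) (Sum.inr (7 : Fin 12)) = [(9, 0, 1), (10, 1, 1)] := by decide +kernel
    simp only [h, List.map_cons, List.map_nil, List.sum_cons, List.sum_nil, Int.cast_one, Int.cast_neg, pow_zero, mul_one, one_mul, add_zero]
    show b7 + (t ^ 1 * b8) = b8*t + b7
    ring
  · have h : rowTab (⟨5, by decide⟩ : Fin chevG2.nroots) (Sum.inr (8 : Fin 12)) = [(10, 0, 1)] := by decide +kernel
    simp only [h, List.map_cons, List.map_nil, List.sum_cons, List.sum_nil, Int.cast_one, Int.cast_neg, pow_zero, mul_one, one_mul, add_zero]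
    show b8 = b8
    ring
  · have h : rowTab (⟨5, by decide⟩ : Fin chevG2.nroots) (Sum.inr (9 : Fin 12)) = [(11, 0, 1)] := by decide +kernel
    simp only [h, List.map_cons, List.map_nil, List.sum_cons, List.sum_nil, Int.cast_one, Int.cast_neg, pow_zero, mul_one, one_mul, add_zero]
    show b9 = b9
    ring
  · have h : rowTab (⟨5, by decide⟩ : Fin chevG2.nroots) (Sum.inr (10 : Fin 12)) = [(12, 0, 1), (13, 1, 1)] := by decide +kernel
    simp only [h, List.map_cons, List.map_nil, List.sum_cons, List.sum_nil, Int.cast_one, Int.cast_neg, pow_zero, mul_one, one_mul, add_zero]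
    show b10 + (t ^ 1 * b11) = b11*t + b10
    ring
  · have h : rowTab (⟨5, by decide⟩ : Fin chevG2.nroots) (Sum.inr (11 : Fin 12)) = [(13, 0, 1)] := by decide +kernel
    simp only [h, List.map_cons, List.map_nil, List.sum_cons, List.sum_nil, Int.cast_one, Int.cast_neg, pow_zero, mul_one, one_mul, add_zero]
    show b11 = b11
    ring

theorem x6 (t a0 a1 b0 b1 b2 b3 b4 b5 b6 b7 b8 b9 b10 b11 : K) :
    chevG2.x K 6 t *ᵥ mk a0 a1 b0 b1 b2 b3 b4 b5 b6 b7 b8 b9 b10 b11 = mk
      (a0)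
      (b5*t + a1)
      (b0)
      (-b0*t + b1)
      (b2)
      (b3)
      (-b3*t + b4)
      (b5)
      (-b5*t^2 + a1*t + b6)
      (b7)
      (b7*t + b8)
      (b9)
      (b10)
      (b10*t + b11) := by
  funext row
  rw [x_mulVec_row K 6 (by decide)]
  refine forall_idx (P := fun row => ((rowTab (⟨6, by decide⟩ : Fin chevG2.nroots) row).map fun e => ((e.2.2 : ℤ) : K) * t ^ e.2.1 * (mk a0 a1 b0 b1 b2 b3 b4 b5 b6 b7 b8 b9 b10 b11) (idx e.1)).sum = mk _ _ _ _ _ _ _ _ _ _ _ _ _ _ row) ?_ ?_ ?_ ?_ ?_ ?_ ?_ ?_ ?_ ?_ ?_ ?_ ?_ ?_ row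
  · have h : rowTab (⟨6, by decide⟩ : Fin chevG2.nroots) (Sum.inl (0 : Fin 2)) = [(0, 0, 1)] := by decide +kernel
    simp only [h, List.map_cons, List.map_nil, List.sum_cons, List.sum_nil, Int.cast_one, Int.cast_neg, pow_zero, mul_one, one_mul, add_zero]
    show a0 = a0
    ring
  · have h : rowTab (⟨6, by decide⟩ : Fin chevG2.nroots) (Sum.inl (1 : Fin 2)) = [(1, 0, 1), (7, 1, 1)] := by decide +kernel
    simp only [h, List.map_cons, List.map_nil, List.sum_cons, List.sum_nil, Int.cast_one, Int.cast_neg, pow_zero, mul_one, one_mul, add_zero]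
    show a1 + (t ^ 1 * b5) = b5*t + a1
    ring
  · have h : rowTab (⟨6, by decide⟩ : Fin chevG2.nroots) (Sum.inr (0 : Fin 12)) = [(2, 0, 1)] := by decide +kernel
    simp only [h, List.map_cons, List.map_nil, List.sum_cons, List.sum_nil, Int.cast_one, Int.cast_neg, pow_zero, mul_one, one_mul, add_zero]
    show b0 = b0
    ring
  · have h : rowTab (⟨6, by decide⟩ : Fin chevG2.nroots) (Sum.inr (1 : Fin 12)) = [(2, 1, -1), (3, 0, 1)] := by decide +kernel
    simp only [h, List.map_cons, List.map_nil, List.sum_cons, List.sum_nil, Int.cast_one, Int.cast_neg, pow_zero, mul_one, one_mul, add_zero]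
    show -1 * t ^ 1 * b0 + (b1) = -b0*t + b1
    ring
  · have h : rowTab (⟨6, by decide⟩ : Fin chevG2.nroots) (Sum.inr (2 : Fin 12)) = [(4, 0, 1)] := by decide +kernel
    simp only [h, List.map_cons, List.map_nil, List.sum_cons, List.sum_nil, Int.cast_one, Int.cast_neg, pow_zero, mul_one, one_mul, add_zero]
    show b2 = b2
    ring
  · have h : rowTab (⟨6, by decide⟩ : Fin chevG2.nroots) (Sum.inr (3 : Fin 12)) = [(5, 0, 1)] := by decide +kernel
    simp only [h, List.map_cons, List.map_nil, List.sum_cons, List.sum_nil, Int.cast_one, Int.cast_neg, pow_zero, mul_one, one_mul, add_zero]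
    show b3 = b3
    ring
  · have h : rowTab (⟨6, by decide⟩ : Fin chevG2.nroots) (Sum.inr (4 : Fin 12)) = [(5, 1, -1), (6, 0, 1)] := by decide +kernel
    simp only [h, List.map_cons, List.map_nil, List.sum_cons, List.sum_nil, Int.cast_one, Int.cast_neg, pow_zero, mul_one, one_mul, add_zero]
    show -1 * t ^ 1 * b3 + (b4) = -b3*t + b4
    ring
  · have h : rowTab (⟨6, by decide⟩ : Fin chevG2.nroots) (Sum.inr (5 : Fin 12)) = [(7, 0, 1)] := by decide +kernel
    simp only [h, List.map_cons, List.map_nil, List.sum_cons, List.sum_nil, Int.cast_one, Int.cast_neg, pow_zero, mul_one, one_mul, add_zero]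
    show b5 = b5
    ring
  · have h : rowTab (⟨6, by decide⟩ : Fin chevG2.nroots) (Sum.inr (6 : Fin 12)) = [(1, 1, 1), (7, 2, -1), (8, 0, 1)] := by decide +kernel
    simp only [h, List.map_cons, List.map_nil, List.sum_cons, List.sum_nil, Int.cast_one, Int.cast_neg, pow_zero, mul_one, one_mul, add_zero]
    show t ^ 1 * a1 + (-1 * t ^ 2 * b5 + (b6)) = -b5*t^2 + a1*t + b6
    ring
  · have h : rowTab (⟨6, by decide⟩ : Fin chevG2.nroots) (Sum.inr (7 : Fin 12)) = [(9, 0, 1)] := by decide +kernel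
    simp only [h, List.map_cons, List.map_nil, List.sum_cons, List.sum_nil, Int.cast_one, Int.cast_neg, pow_zero, mul_one, one_mul, add_zero]
    show b7 = b7
    ring
  · have h : rowTab (⟨6, by decide⟩ : Fin chevG2.nroots) (Sum.inr (8 : Fin 12)) = [(9, 1, 1), (10, 0, 1)] := by decide +kernel
    simp only [h, List.map_cons, List.map_nil, List.sum_cons, List.sum_nil, Int.cast_one, Int.cast_neg, pow_zero, mul_one, one_mul, add_zero]
    show t ^ 1 * b7 + (b8) = b7*t + b8
    ring
  · have h : rowTab (⟨6, by decide⟩ : Fin chevG2.nroots) (Sum.inr (9 : Fin 12)) = [(11, 0, 1)] := by decide +kernel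
    simp only [h, List.map_cons, List.map_nil, List.sum_cons, List.sum_nil, Int.cast_one, Int.cast_neg, pow_zero, mul_one, one_mul, add_zero]
    show b9 = b9
    ring
  · have h : rowTab (⟨6, by decide⟩ : Fin chevG2.nroots) (Sum.inr (10 : Fin 12)) = [(12, 0, 1)] := by decide +kernel
    simp only [h, List.map_cons, List.map_nil, List.sum_cons, List.sum_nil, Int.cast_one, Int.cast_neg, pow_zero, mul_one, one_mul, add_zero]
    show b10 = b10
    ring
  · have h : rowTab (⟨6, by decide⟩ : Fin chevG2.nroots) (Sum.inr (11 : Fin 12)) = [(12, 1, 1), (13, 0, 1)] := by decide +kernel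
    simp only [h, List.map_cons, List.map_nil, List.sum_cons, List.sum_nil, Int.cast_one, Int.cast_neg, pow_zero, mul_one, one_mul, add_zero]
    show t ^ 1 * b10 + (b11) = b10*t + b11
    ring

theorem x7 (t a0 a1 b0 b1 b2 b3 b4 b5 b6 b7 b8 b9 b10 b11 : K) :
    chevG2.x K 7 t *ᵥ mk a0 a1 b0 b1 b2 b3 b4 b5 b6 b7 b8 b9 b10 b11 = mk
      (b4*t + a0)
      (a1)
      (b0)
      (b1)
      (-b1*t + b2)
      (-b1*t^2 - b2*t + b3)
      (b4)
      (-b1*t^3 + b5)
      (b6)
      (-b4*t^2 + a0*t + a1*t + b7)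
      (-b6*t + b8)
      (b6*t^2 + b8*t + b9)
      (b6*t^3 + b10)
      (b11) := by
  funext row
  rw [x_mulVec_row K 7 (by decide)]
  refine forall_idx (P := fun row => ((rowTab (⟨7, by decide⟩ : Fin chevG2.nroots) row).map fun e => ((e.2.2 : ℤ) : K) * t ^ e.2.1 * (mk a0 a1 b0 b1 b2 b3 b4 b5 b6 b7 b8 b9 b10 b11) (idx e.1)).sum = mk _ _ _ _ _ _ _ _ _ _ _ _ _ _ row) ?_ ?_ ?_ ?_ ?_ ?_ ?_ ?_ ?_ ?_ ?_ ?_ ?_ ?_ row
  · have h : rowTab (⟨7, by decide⟩ : Fin chevG2.nroots) (Sum.inl (0 : Fin 2)) = [(0, 0, 1), (6, 1, 1)] := by decide +kernel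
    simp only [h, List.map_cons, List.map_nil, List.sum_cons, List.sum_nil, Int.cast_one, Int.cast_neg, pow_zero, mul_one, one_mul, add_zero]
    show a0 + (t ^ 1 * b4) = b4*t + a0
    ring
  · have h : rowTab (⟨7, by decide⟩ : Fin chevG2.nroots) (Sum.inl (1 : Fin 2)) = [(1, 0, 1)] := by decide +kernel
    simp only [h, List.map_cons, List.map_nil, List.sum_cons, List.sum_nil, Int.cast_one, Int.cast_neg, pow_zero, mul_one, one_mul, add_zero]
    show a1 = a1
    ring
  · have h : rowTab (⟨7, by decide⟩ : Fin chevG2.nroots) (Sum.inr (0 : Fin 12)) = [(2, 0, 1)] := by decide +kernel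
    simp only [h, List.map_cons, List.map_nil, List.sum_cons, List.sum_nil, Int.cast_one, Int.cast_neg, pow_zero, mul_one, one_mul, add_zero]
    show b0 = b0
    ring
  · have h : rowTab (⟨7, by decide⟩ : Fin chevG2.nroots) (Sum.inr (1 : Fin 12)) = [(3, 0, 1)] := by decide +kernel
    simp only [h, List.map_cons, List.map_nil, List.sum_cons, List.sum_nil, Int.cast_one, Int.cast_neg, pow_zero, mul_one, one_mul, add_zero]
    show b1 = b1
    ring
  · have h : rowTab (⟨7, by decide⟩ : Fin chevG2.nroots) (Sum.inr (2 : Fin 12)) = [(3, 1, -1), (4, 0, 1)] := by decide +kernel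
    simp only [h, List.map_cons, List.map_nil, List.sum_cons, List.sum_nil, Int.cast_one, Int.cast_neg, pow_zero, mul_one, one_mul, add_zero]
    show -1 * t ^ 1 * b1 + (b2) = -b1*t + b2
    ring
  · have h : rowTab (⟨7, by decide⟩ : Fin chevG2.nroots) (Sum.inr (3 : Fin 12)) = [(3, 2, -1), (4, 1, -1), (5, 0, 1)] := by decide +kernel
    simp only [h, List.map_cons, List.map_nil, List.sum_cons, List.sum_nil, Int.cast_one, Int.cast_neg, pow_zero, mul_one, one_mul, add_zero]
    show -1 * t ^ 2 * b1 + (-1 * t ^ 1 * b2 + (b3)) = -b1*t^2 - b2*t + b3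
    ring
  · have h : rowTab (⟨7, by decide⟩ : Fin chevG2.nroots) (Sum.inr (4 : Fin 12)) = [(6, 0, 1)] := by decide +kernel
    simp only [h, List.map_cons, List.map_nil, List.sum_cons, List.sum_nil, Int.cast_one, Int.cast_neg, pow_zero, mul_one, one_mul, add_zero]
    show b4 = b4
    ring
  · have h : rowTab (⟨7, by decide⟩ : Fin chevG2.nroots) (Sum.inr (5 : Fin 12)) = [(3, 3, -1), (7, 0, 1)] := by decide +kernel
    simp only [h, List.map_cons, List.map_nil, List.sum_cons, List.sum_nil, Int.cast_one, Int.cast_neg, pow_zero, mul_one, one_mul, add_zero]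
    show -1 * t ^ 3 * b1 + (b5) = -b1*t^3 + b5
    ring
  · have h : rowTab (⟨7, by decide⟩ : Fin chevG2.nroots) (Sum.inr (6 : Fin 12)) = [(8, 0, 1)] := by decide +kernel
    simp only [h, List.map_cons, List.map_nil, List.sum_cons, List.sum_nil, Int.cast_one, Int.cast_neg, pow_zero, mul_one, one_mul, add_zero]
    show b6 = b6
    ring
  · have h : rowTab (⟨7, by decide⟩ : Fin chevG2.nroots) (Sum.inr (7 : Fin 12)) = [(0, 1, 1), (1, 1, 1), (6, 2, -1), (9, 0, 1)] := by decide +kernel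
    simp only [h, List.map_cons, List.map_nil, List.sum_cons, List.sum_nil, Int.cast_one, Int.cast_neg, pow_zero, mul_one, one_mul, add_zero]
    show t ^ 1 * a0 + (t ^ 1 * a1 + (-1 * t ^ 2 * b4 + (b7))) = -b4*t^2 + a0*t + a1*t + b7
    ring
  · have h : rowTab (⟨7, by decide⟩ : Fin chevG2.nroots) (Sum.inr (8 : Fin 12)) = [(8, 1, -1), (10, 0, 1)] := by decide +kernel
    simp only [h, List.map_cons, List.map_nil, List.sum_cons, List.sum_nil, Int.cast_one, Int.cast_neg, pow_zero, mul_one, one_mul, add_zero]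
    show -1 * t ^ 1 * b6 + (b8) = -b6*t + b8
    ring
  · have h : rowTab (⟨7, by decide⟩ : Fin chevG2.nroots) (Sum.inr (9 : Fin 12)) = [(8, 2, 1), (10, 1, 1), (11, 0, 1)] := by decide +kernel
    simp only [h, List.map_cons, List.map_nil, List.sum_cons, List.sum_nil, Int.cast_one, Int.cast_neg, pow_zero, mul_one, one_mul, add_zero]
    show t ^ 2 * b6 + (t ^ 1 * b8 + (b9)) = b6*t^2 + b8*t + b9
    ring
  · have h : rowTab (⟨7, by decide⟩ : Fin chevG2.nroots) (Sum.inr (10 : Fin 12)) = [(8, 3, 1), (12, 0, 1)] := by decide +kernel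
    simp only [h, List.map_cons, List.map_nil, List.sum_cons, List.sum_nil, Int.cast_one, Int.cast_neg, pow_zero, mul_one, one_mul, add_zero]
    show t ^ 3 * b6 + (b10) = b6*t^3 + b10
    ring
  · have h : rowTab (⟨7, by decide⟩ : Fin chevG2.nroots) (Sum.inr (11 : Fin 12)) = [(13, 0, 1)] := by decide +kernel
    simp only [h, List.map_cons, List.map_nil, List.sum_cons, List.sum_nil, Int.cast_one, Int.cast_neg, pow_zero, mul_one, one_mul, add_zero]
    show b11 = b11
    ring

theorem x8 (t a0 a1 b0 b1 b2 b3 b4 b5 b6 b7 b8 b9 b10 b11 : K) :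
    chevG2.x K 8 t *ᵥ mk a0 a1 b0 b1 b2 b3 b4 b5 b6 b7 b8 b9 b10 b11 = mk
      (b3*t + a0)
      (a1)
      (b0)
      (b1)
      (-b0*t + b2)
      (b3)
      (b0*t^2 + b2*t + b4)
      (b5)
      (b0*t^3 + b6)
      (-b5*t + b7)
      (-b3*t^2 + a0*t - a1*t + b8)
      (-b5*t^2 - b7*t + b9)
      (b10)
      (-b5*t^3 + b11) := by
  funext row
  rw [x_mulVec_row K 8 (by decide)]
  refine forall_idx (P := fun row => ((rowTab (⟨8, by decide⟩ : Fin chevG2.nroots) row).map fun e => ((e.2.2 : ℤ) : K) * t ^ e.2.1 * (mk a0 a1 b0 b1 b2 b3 b4 b5 b6 b7 b8 b9 b10 b11) (idx e.1)).sum = mk _ _ _ _ _ _ _ _ _ _ _ _ _ _ row) ?_ ?_ ?_ ?_ ?_ ?_ ?_ ?_ ?_ ?_ ?_ ?_ ?_ ?_ row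
  · have h : rowTab (⟨8, by decide⟩ : Fin chevG2.nroots) (Sum.inl (0 : Fin 2)) = [(0, 0, 1), (5, 1, 1)] := by decide +kernel
    simp only [h, List.map_cons, List.map_nil, List.sum_cons, List.sum_nil, Int.cast_one, Int.cast_neg, pow_zero, mul_one, one_mul, add_zero]
    show a0 + (t ^ 1 * b3) = b3*t + a0
    ring
  · have h : rowTab (⟨8, by decide⟩ : Fin chevG2.nroots) (Sum.inl (1 : Fin 2)) = [(1, 0, 1)] := by decide +kernel
    simp only [h, List.map_cons, List.map_nil, List.sum_cons, List.sum_nil, Int.cast_one, Int.cast_neg, pow_zero, mul_one, one_mul, add_zero]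
    show a1 = a1
    ring
  · have h : rowTab (⟨8, by decide⟩ : Fin chevG2.nroots) (Sum.inr (0 : Fin 12)) = [(2, 0, 1)] := by decide +kernel
    simp only [h, List.map_cons, List.map_nil, List.sum_cons, List.sum_nil, Int.cast_one, Int.cast_neg, pow_zero, mul_one, one_mul, add_zero]
    show b0 = b0
    ring
  · have h : rowTab (⟨8, by decide⟩ : Fin chevG2.nroots) (Sum.inr (1 : Fin 12)) = [(3, 0, 1)] := by decide +kernel
    simp only [h, List.map_cons, List.map_nil, List.sum_cons, List.sum_nil, Int.cast_one, Int.cast_neg, pow_zero, mul_one, one_mul, add_zero]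
    show b1 = b1
    ring
  · have h : rowTab (⟨8, by decide⟩ : Fin chevG2.nroots) (Sum.inr (2 : Fin 12)) = [(2, 1, -1), (4, 0, 1)] := by decide +kernel
    simp only [h, List.map_cons, List.map_nil, List.sum_cons, List.sum_nil, Int.cast_one, Int.cast_neg, pow_zero, mul_one, one_mul, add_zero]
    show -1 * t ^ 1 * b0 + (b2) = -b0*t + b2
    ring
  · have h : rowTab (⟨8, by decide⟩ : Fin chevG2.nroots) (Sum.inr (3 : Fin 12)) = [(5, 0, 1)] := by decide +kernel
    simp only [h, List.map_cons, List.map_nil, List.sum_cons, List.sum_nil, Int.cast_one, Int.cast_neg, pow_zero, mul_one, one_mul, add_zero]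
    show b3 = b3
    ring
  · have h : rowTab (⟨8, by decide⟩ : Fin chevG2.nroots) (Sum.inr (4 : Fin 12)) = [(2, 2, 1), (4, 1, 1), (6, 0, 1)] := by decide +kernel
    simp only [h, List.map_cons, List.map_nil, List.sum_cons, List.sum_nil, Int.cast_one, Int.cast_neg, pow_zero, mul_one, one_mul, add_zero]
    show t ^ 2 * b0 + (t ^ 1 * b2 + (b4)) = b0*t^2 + b2*t + b4
    ring
  · have h : rowTab (⟨8, by decide⟩ : Fin chevG2.nroots) (Sum.inr (5 : Fin 12)) = [(7, 0, 1)] := by decide +kernel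
    simp only [h, List.map_cons, List.map_nil, List.sum_cons, List.sum_nil, Int.cast_one, Int.cast_neg, pow_zero, mul_one, one_mul, add_zero]
    show b5 = b5
    ring
  · have h : rowTab (⟨8, by decide⟩ : Fin chevG2.nroots) (Sum.inr (6 : Fin 12)) = [(2, 3, 1), (8, 0, 1)] := by decide +kernel
    simp only [h, List.map_cons, List.map_nil, List.sum_cons, List.sum_nil, Int.cast_one, Int.cast_neg, pow_zero, mul_one, one_mul, add_zero]
    show t ^ 3 * b0 + (b6) = b0*t^3 + b6
    ring
  · have h : rowTab (⟨8, by decide⟩ : Fin chevG2.nroots) (Sum.inr (7 : Fin 12)) = [(7, 1, -1), (9, 0, 1)] := by decide +kernel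
    simp only [h, List.map_cons, List.map_nil, List.sum_cons, List.sum_nil, Int.cast_one, Int.cast_neg, pow_zero, mul_one, one_mul, add_zero]
    show -1 * t ^ 1 * b5 + (b7) = -b5*t + b7
    ring
  · have h : rowTab (⟨8, by decide⟩ : Fin chevG2.nroots) (Sum.inr (8 : Fin 12)) = [(0, 1, 1), (1, 1, -1), (5, 2, -1), (10, 0, 1)] := by decide +kernel
    simp only [h, List.map_cons, List.map_nil, List.sum_cons, List.sum_nil, Int.cast_one, Int.cast_neg, pow_zero, mul_one, one_mul, add_zero]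
    show t ^ 1 * a0 + (-1 * t ^ 1 * a1 + (-1 * t ^ 2 * b3 + (b8))) = -b3*t^2 + a0*t - a1*t + b8
    ring
  · have h : rowTab (⟨8, by decide⟩ : Fin chevG2.nroots) (Sum.inr (9 : Fin 12)) = [(7, 2, -1), (9, 1, -1), (11, 0, 1)] := by decide +kernel
    simp only [h, List.map_cons, List.map_nil, List.sum_cons, List.sum_nil, Int.cast_one, Int.cast_neg, pow_zero, mul_one, one_mul, add_zero]
    show -1 * t ^ 2 * b5 + (-1 * t ^ 1 * b7 + (b9)) = -b5*t^2 - b7*t + b9
    ring
  · have h : rowTab (⟨8, by decide⟩ : Fin chevG2.nroots) (Sum.inr (10 : Fin 12)) = [(12, 0, 1)] := by decide +kernel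
    simp only [h, List.map_cons, List.map_nil, List.sum_cons, List.sum_nil, Int.cast_one, Int.cast_neg, pow_zero, mul_one, one_mul, add_zero]
    show b10 = b10
    ring
  · have h : rowTab (⟨8, by decide⟩ : Fin chevG2.nroots) (Sum.inr (11 : Fin 12)) = [(7, 3, -1), (13, 0, 1)] := by decide +kernel
    simp only [h, List.map_cons, List.map_nil, List.sum_cons, List.sum_nil, Int.cast_one, Int.cast_neg, pow_zero, mul_one, one_mul, add_zero]
    show -1 * t ^ 3 * b5 + (b11) = -b5*t^3 + b11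
    ring

theorem x9 (t a0 a1 b0 b1 b2 b3 b4 b5 b6 b7 b8 b9 b10 b11 : K) :
    chevG2.x K 9 t *ᵥ mk a0 a1 b0 b1 b2 b3 b4 b5 b6 b7 b8 b9 b10 b11 = mk
      (-b2*t + a0)
      (a1)
      (b0)
      (b1)
      (b2)
      (b0*t + b3)
      (b1*t + b4)
      (b5)
      (b6)
      (-b0*t^2 + b3*t + b7)
      (b1*t^2 - b4*t + b8)
      (-b2*t^2 - a0*t + b9)
      (b0*t^3 + b10)
      (-b1*t^3 + b11) := by
  funext row
  rw [x_mulVec_row K 9 (by decide)]
  refine forall_idx (P := fun row => ((rowTab (⟨9, by decide⟩ : Fin chevG2.nroots) row).map fun e => ((e.2.2 : ℤ) : K) * t ^ e.2.1 * (mk a0 a1 b0 b1 b2 b3 b4 b5 b6 b7 b8 b9 b10 b11) (idx e.1)).sum = mk _ _ _ _ _ _ _ _ _ _ _ _ _ _ row) ?_ ?_ ?_ ?_ ?_ ?_ ?_ ?_ ?_ ?_ ?_ ?_ ?_ ?_ row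
  · have h : rowTab (⟨9, by decide⟩ : Fin chevG2.nroots) (Sum.inl (0 : Fin 2)) = [(0, 0, 1), (4, 1, -1)] := by decide +kernel
    simp only [h, List.map_cons, List.map_nil, List.sum_cons, List.sum_nil, Int.cast_one, Int.cast_neg, pow_zero, mul_one, one_mul, add_zero]
    show a0 + (-1 * t ^ 1 * b2) = -b2*t + a0
    ring
  · have h : rowTab (⟨9, by decide⟩ : Fin chevG2.nroots) (Sum.inl (1 : Fin 2)) = [(1, 0, 1)] := by decide +kernel
    simp only [h, List.map_cons, List.map_nil, List.sum_cons, List.sum_nil, Int.cast_one, Int.cast_neg, pow_zero, mul_one, one_mul, add_zero]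
    show a1 = a1
    ring
  · have h : rowTab (⟨9, by decide⟩ : Fin chevG2.nroots) (Sum.inr (0 : Fin 12)) = [(2, 0, 1)] := by decide +kernel
    simp only [h, List.map_cons, List.map_nil, List.sum_cons, List.sum_nil, Int.cast_one, Int.cast_neg, pow_zero, mul_one, one_mul, add_zero]
    show b0 = b0
    ring
  · have h : rowTab (⟨9, by decide⟩ : Fin chevG2.nroots) (Sum.inr (1 : Fin 12)) = [(3, 0, 1)] := by decide +kernel
    simp only [h, List.map_cons, List.map_nil, List.sum_cons, List.sum_nil, Int.cast_one, Int.cast_neg, pow_zero, mul_one, one_mul, add_zero]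
    show b1 = b1
    ring
  · have h : rowTab (⟨9, by decide⟩ : Fin chevG2.nroots) (Sum.inr (2 : Fin 12)) = [(4, 0, 1)] := by decide +kernel
    simp only [h, List.map_cons, List.map_nil, List.sum_cons, List.sum_nil, Int.cast_one, Int.cast_neg, pow_zero, mul_one, one_mul, add_zero]
    show b2 = b2
    ring
  · have h : rowTab (⟨9, by decide⟩ : Fin chevG2.nroots) (Sum.inr (3 : Fin 12)) = [(2, 1, 1), (5, 0, 1)] := by decide +kernel
    simp only [h, List.map_cons, List.map_nil, List.sum_cons, List.sum_nil, Int.cast_one, Int.cast_neg, pow_zero, mul_one, one_mul, add_zero]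
    show t ^ 1 * b0 + (b3) = b0*t + b3
    ring
  · have h : rowTab (⟨9, by decide⟩ : Fin chevG2.nroots) (Sum.inr (4 : Fin 12)) = [(3, 1, 1), (6, 0, 1)] := by decide +kernel
    simp only [h, List.map_cons, List.map_nil, List.sum_cons, List.sum_nil, Int.cast_one, Int.cast_neg, pow_zero, mul_one, one_mul, add_zero]
    show t ^ 1 * b1 + (b4) = b1*t + b4
    ring
  · have h : rowTab (⟨9, by decide⟩ : Fin chevG2.nroots) (Sum.inr (5 : Fin 12)) = [(7, 0, 1)] := by decide +kernel
    simp only [h, List.map_cons, List.map_nil, List.sum_cons, List.sum_nil, Int.cast_one, Int.cast_neg, pow_zero, mul_one, one_mul, add_zero]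
    show b5 = b5
    ring
  · have h : rowTab (⟨9, by decide⟩ : Fin chevG2.nroots) (Sum.inr (6 : Fin 12)) = [(8, 0, 1)] := by decide +kernel
    simp only [h, List.map_cons, List.map_nil, List.sum_cons, List.sum_nil, Int.cast_one, Int.cast_neg, pow_zero, mul_one, one_mul, add_zero]
    show b6 = b6
    ring
  · have h : rowTab (⟨9, by decide⟩ : Fin chevG2.nroots) (Sum.inr (7 : Fin 12)) = [(2, 2, -1), (5, 1, 1), (9, 0, 1)] := by decide +kernel
    simp only [h, List.map_cons, List.map_nil, List.sum_cons, List.sum_nil, Int.cast_one, Int.cast_neg, pow_zero, mul_one, one_mul, add_zero]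
    show -1 * t ^ 2 * b0 + (t ^ 1 * b3 + (b7)) = -b0*t^2 + b3*t + b7
    ring
  · have h : rowTab (⟨9, by decide⟩ : Fin chevG2.nroots) (Sum.inr (8 : Fin 12)) = [(3, 2, 1), (6, 1, -1), (10, 0, 1)] := by decide +kernel
    simp only [h, List.map_cons, List.map_nil, List.sum_cons, List.sum_nil, Int.cast_one, Int.cast_neg, pow_zero, mul_one, one_mul, add_zero]
    show t ^ 2 * b1 + (-1 * t ^ 1 * b4 + (b8)) = b1*t^2 - b4*t + b8
    ring
  · have h : rowTab (⟨9, by decide⟩ : Fin chevG2.nroots) (Sum.inr (9 : Fin 12)) = [(0, 1, -1), (4, 2, -1), (11, 0, 1)] := by decide +kernel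
    simp only [h, List.map_cons, List.map_nil, List.sum_cons, List.sum_nil, Int.cast_one, Int.cast_neg, pow_zero, mul_one, one_mul, add_zero]
    show -1 * t ^ 1 * a0 + (-1 * t ^ 2 * b2 + (b9)) = -b2*t^2 - a0*t + b9
    ring
  · have h : rowTab (⟨9, by decide⟩ : Fin chevG2.nroots) (Sum.inr (10 : Fin 12)) = [(2, 3, 1), (12, 0, 1)] := by decide +kernel
    simp only [h, List.map_cons, List.map_nil, List.sum_cons, List.sum_nil, Int.cast_one, Int.cast_neg, pow_zero, mul_one, one_mul, add_zero]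
    show t ^ 3 * b0 + (b10) = b0*t^3 + b10
    ring
  · have h : rowTab (⟨9, by decide⟩ : Fin chevG2.nroots) (Sum.inr (11 : Fin 12)) = [(3, 3, -1), (13, 0, 1)] := by decide +kernel
    simp only [h, List.map_cons, List.map_nil, List.sum_cons, List.sum_nil, Int.cast_one, Int.cast_neg, pow_zero, mul_one, one_mul, add_zero]
    show -1 * t ^ 3 * b1 + (b11) = -b1*t^3 + b11
    ring

theorem x10 (t a0 a1 b0 b1 b2 b3 b4 b5 b6 b7 b8 b9 b10 b11 : K) :
    chevG2.x K 10 t *ᵥ mk a0 a1 b0 b1 b2 b3 b4 b5 b6 b7 b8 b9 b10 b11 = mk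
      (b1*t + a0)
      (b1*t + a1)
      (b0)
      (b1)
      (b2)
      (b3)
      (b4)
      (b0*t + b5)
      (b6)
      (b2*t + b7)
      (b8)
      (-b4*t + b9)
      (-b1*t^2 + a1*t + b10)
      (-b6*t + b11) := by
  funext row
  rw [x_mulVec_row K 10 (by decide)]
  refine forall_idx (P := fun row => ((rowTab (⟨10, by decide⟩ : Fin chevG2.nroots) row).map fun e => ((e.2.2 : ℤ) : K) * t ^ e.2.1 * (mk a0 a1 b0 b1 b2 b3 b4 b5 b6 b7 b8 b9 b10 b11) (idx e.1)).sum = mk _ _ _ _ _ _ _ _ _ _ _ _ _ _ row) ?_ ?_ ?_ ?_ ?_ ?_ ?_ ?_ ?_ ?_ ?_ ?_ ?_ ?_ row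
  · have h : rowTab (⟨10, by decide⟩ : Fin chevG2.nroots) (Sum.inl (0 : Fin 2)) = [(0, 0, 1), (3, 1, 1)] := by decide +kernel
    simp only [h, List.map_cons, List.map_nil, List.sum_cons, List.sum_nil, Int.cast_one, Int.cast_neg, pow_zero, mul_one, one_mul, add_zero]
    show a0 + (t ^ 1 * b1) = b1*t + a0
    ring
  · have h : rowTab (⟨10, by decide⟩ : Fin chevG2.nroots) (Sum.inl (1 : Fin 2)) = [(1, 0, 1), (3, 1, 1)] := by decide +kernel
    simp only [h, List.map_cons, List.map_nil, List.sum_cons, List.sum_nil, Int.cast_one, Int.cast_neg, pow_zero, mul_one, one_mul, add_zero]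
    show a1 + (t ^ 1 * b1) = b1*t + a1
    ring
  · have h : rowTab (⟨10, by decide⟩ : Fin chevG2.nroots) (Sum.inr (0 : Fin 12)) = [(2, 0, 1)] := by decide +kernel
    simp only [h, List.map_cons, List.map_nil, List.sum_cons, List.sum_nil, Int.cast_one, Int.cast_neg, pow_zero, mul_one, one_mul, add_zero]
    show b0 = b0
    ring
  · have h : rowTab (⟨10, by decide⟩ : Fin chevG2.nroots) (Sum.inr (1 : Fin 12)) = [(3, 0, 1)] := by decide +kernel
    simp only [h, List.map_cons, List.map_nil, List.sum_cons, List.sum_nil, Int.cast_one, Int.cast_neg, pow_zero, mul_one, one_mul, add_zero]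
    show b1 = b1
    ring
  · have h : rowTab (⟨10, by decide⟩ : Fin chevG2.nroots) (Sum.inr (2 : Fin 12)) = [(4, 0, 1)] := by decide +kernel
    simp only [h, List.map_cons, List.map_nil, List.sum_cons, List.sum_nil, Int.cast_one, Int.cast_neg, pow_zero, mul_one, one_mul, add_zero]
    show b2 = b2
    ring
  · have h : rowTab (⟨10, by decide⟩ : Fin chevG2.nroots) (Sum.inr (3 : Fin 12)) = [(5, 0, 1)] := by decide +kernel
    simp only [h, List.map_cons, List.map_nil, List.sum_cons, List.sum_nil, Int.cast_one, Int.cast_neg, pow_zero, mul_one, one_mul, add_zero]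
    show b3 = b3
    ring
  · have h : rowTab (⟨10, by decide⟩ : Fin chevG2.nroots) (Sum.inr (4 : Fin 12)) = [(6, 0, 1)] := by decide +kernel
    simp only [h, List.map_cons, List.map_nil, List.sum_cons, List.sum_nil, Int.cast_one, Int.cast_neg, pow_zero, mul_one, one_mul, add_zero]
    show b4 = b4
    ring
  · have h : rowTab (⟨10, by decide⟩ : Fin chevG2.nroots) (Sum.inr (5 : Fin 12)) = [(2, 1, 1), (7, 0, 1)] := by decide +kernel
    simp only [h, List.map_cons, List.map_nil, List.sum_cons, List.sum_nil, Int.cast_one, Int.cast_neg, pow_zero, mul_one, one_mul, add_zero]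
    show t ^ 1 * b0 + (b5) = b0*t + b5
    ring
  · have h : rowTab (⟨10, by decide⟩ : Fin chevG2.nroots) (Sum.inr (6 : Fin 12)) = [(8, 0, 1)] := by decide +kernel
    simp only [h, List.map_cons, List.map_nil, List.sum_cons, List.sum_nil, Int.cast_one, Int.cast_neg, pow_zero, mul_one, one_mul, add_zero]
    show b6 = b6
    ring
  · have h : rowTab (⟨10, by decide⟩ : Fin chevG2.nroots) (Sum.inr (7 : Fin 12)) = [(4, 1, 1), (9, 0, 1)] := by decide +kernel
    simp only [h, List.map_cons, List.map_nil, List.sum_cons, List.sum_nil, Int.cast_one, Int.cast_neg, pow_zero, mul_one, one_mul, add_zero]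
    show t ^ 1 * b2 + (b7) = b2*t + b7
    ring
  · have h : rowTab (⟨10, by decide⟩ : Fin chevG2.nroots) (Sum.inr (8 : Fin 12)) = [(10, 0, 1)] := by decide +kernel
    simp only [h, List.map_cons, List.map_nil, List.sum_cons, List.sum_nil, Int.cast_one, Int.cast_neg, pow_zero, mul_one, one_mul, add_zero]
    show b8 = b8
    ring
  · have h : rowTab (⟨10, by decide⟩ : Fin chevG2.nroots) (Sum.inr (9 : Fin 12)) = [(6, 1, -1), (11, 0, 1)] := by decide +kernel
    simp only [h, List.map_cons, List.map_nil, List.sum_cons, List.sum_nil, Int.cast_one, Int.cast_neg, pow_zero, mul_one, one_mul, add_zero]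
    show -1 * t ^ 1 * b4 + (b9) = -b4*t + b9
    ring
  · have h : rowTab (⟨10, by decide⟩ : Fin chevG2.nroots) (Sum.inr (10 : Fin 12)) = [(1, 1, 1), (3, 2, -1), (12, 0, 1)] := by decide +kernel
    simp only [h, List.map_cons, List.map_nil, List.sum_cons, List.sum_nil, Int.cast_one, Int.cast_neg, pow_zero, mul_one, one_mul, add_zero]
    show t ^ 1 * a1 + (-1 * t ^ 2 * b1 + (b10)) = -b1*t^2 + a1*t + b10
    ring
  · have h : rowTab (⟨10, by decide⟩ : Fin chevG2.nroots) (Sum.inr (11 : Fin 12)) = [(8, 1, -1), (13, 0, 1)] := by decide +kernel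
    simp only [h, List.map_cons, List.map_nil, List.sum_cons, List.sum_nil, Int.cast_one, Int.cast_neg, pow_zero, mul_one, one_mul, add_zero]
    show -1 * t ^ 1 * b6 + (b11) = -b6*t + b11
    ring

theorem x11 (t a0 a1 b0 b1 b2 b3 b4 b5 b6 b7 b8 b9 b10 b11 : K) :
    chevG2.x K 11 t *ᵥ mk a0 a1 b0 b1 b2 b3 b4 b5 b6 b7 b8 b9 b10 b11 = mk
      (b0*t + a0)
      (-b0*t + a1)
      (b0)
      (b1)
      (b2)
      (b3)
      (b4)
      (b5)
      (b1*t + b6)
      (b7)
      (b2*t + b8)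
      (-b3*t + b9)
      (-b5*t + b10)
      (-b0*t^2 - a1*t + b11) := by
  funext row
  rw [x_mulVec_row K 11 (by decide)]
  refine forall_idx (P := fun row => ((rowTab (⟨11, by decide⟩ : Fin chevG2.nroots) row).map fun e => ((e.2.2 : ℤ) : K) * t ^ e.2.1 * (mk a0 a1 b0 b1 b2 b3 b4 b5 b6 b7 b8 b9 b10 b11) (idx e.1)).sum = mk _ _ _ _ _ _ _ _ _ _ _ _ _ _ row) ?_ ?_ ?_ ?_ ?_ ?_ ?_ ?_ ?_ ?_ ?_ ?_ ?_ ?_ row
  · have h : rowTab (⟨11, by decide⟩ : Fin chevG2.nroots) (Sum.inl (0 : Fin 2)) = [(0, 0, 1), (2, 1, 1)] := by decide +kernel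
    simp only [h, List.map_cons, List.map_nil, List.sum_cons, List.sum_nil, Int.cast_one, Int.cast_neg, pow_zero, mul_one, one_mul, add_zero]
    show a0 + (t ^ 1 * b0) = b0*t + a0
    ring
  · have h : rowTab (⟨11, by decide⟩ : Fin chevG2.nroots) (Sum.inl (1 : Fin 2)) = [(1, 0, 1), (2, 1, -1)] := by decide +kernel
    simp only [h, List.map_cons, List.map_nil, List.sum_cons, List.sum_nil, Int.cast_one, Int.cast_neg, pow_zero, mul_one, one_mul, add_zero]
    show a1 + (-1 * t ^ 1 * b0) = -b0*t + a1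
    ring
  · have h : rowTab (⟨11, by decide⟩ : Fin chevG2.nroots) (Sum.inr (0 : Fin 12)) = [(2, 0, 1)] := by decide +kernel
    simp only [h, List.map_cons, List.map_nil, List.sum_cons, List.sum_nil, Int.cast_one, Int.cast_neg, pow_zero, mul_one, one_mul, add_zero]
    show b0 = b0
    ring
  · have h : rowTab (⟨11, by decide⟩ : Fin chevG2.nroots) (Sum.inr (1 : Fin 12)) = [(3, 0, 1)] := by decide +kernel
    simp only [h, List.map_cons, List.map_nil, List.sum_cons, List.sum_nil, Int.cast_one, Int.cast_neg, pow_zero, mul_one, one_mul, add_zero]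
    show b1 = b1
    ring
  · have h : rowTab (⟨11, by decide⟩ : Fin chevG2.nroots) (Sum.inr (2 : Fin 12)) = [(4, 0, 1)] := by decide +kernel
    simp only [h, List.map_cons, List.map_nil, List.sum_cons, List.sum_nil, Int.cast_one, Int.cast_neg, pow_zero, mul_one, one_mul, add_zero]
    show b2 = b2
    ring
  · have h : rowTab (⟨11, by decide⟩ : Fin chevG2.nroots) (Sum.inr (3 : Fin 12)) = [(5, 0, 1)] := by decide +kernel
    simp only [h, List.map_cons, List.map_nil, List.sum_cons, List.sum_nil, Int.cast_one, Int.cast_neg, pow_zero, mul_one, one_mul, add_zero]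
    show b3 = b3
    ring
  · have h : rowTab (⟨11, by decide⟩ : Fin chevG2.nroots) (Sum.inr (4 : Fin 12)) = [(6, 0, 1)] := by decide +kernel
    simp only [h, List.map_cons, List.map_nil, List.sum_cons, List.sum_nil, Int.cast_one, Int.cast_neg, pow_zero, mul_one, one_mul, add_zero]
    show b4 = b4
    ring
  · have h : rowTab (⟨11, by decide⟩ : Fin chevG2.nroots) (Sum.inr (5 : Fin 12)) = [(7, 0, 1)] := by decide +kernel
    simp only [h, List.map_cons, List.map_nil, List.sum_cons, List.sum_nil, Int.cast_one, Int.cast_neg, pow_zero, mul_one, one_mul, add_zero]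
    show b5 = b5
    ring
  · have h : rowTab (⟨11, by decide⟩ : Fin chevG2.nroots) (Sum.inr (6 : Fin 12)) = [(3, 1, 1), (8, 0, 1)] := by decide +kernel
    simp only [h, List.map_cons, List.map_nil, List.sum_cons, List.sum_nil, Int.cast_one, Int.cast_neg, pow_zero, mul_one, one_mul, add_zero]
    show t ^ 1 * b1 + (b6) = b1*t + b6
    ring
  · have h : rowTab (⟨11, by decide⟩ : Fin chevG2.nroots) (Sum.inr (7 : Fin 12)) = [(9, 0, 1)] := by decide +kernel
    simp only [h, List.map_cons, List.map_nil, List.sum_cons, List.sum_nil, Int.cast_one, Int.cast_neg, pow_zero, mul_one, one_mul, add_zero]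
    show b7 = b7
    ring
  · have h : rowTab (⟨11, by decide⟩ : Fin chevG2.nroots) (Sum.inr (8 : Fin 12)) = [(4, 1, 1), (10, 0, 1)] := by decide +kernel
    simp only [h, List.map_cons, List.map_nil, List.sum_cons, List.sum_nil, Int.cast_one, Int.cast_neg, pow_zero, mul_one, one_mul, add_zero]
    show t ^ 1 * b2 + (b8) = b2*t + b8
    ring
  · have h : rowTab (⟨11, by decide⟩ : Fin chevG2.nroots) (Sum.inr (9 : Fin 12)) = [(5, 1, -1), (11, 0, 1)] := by decide +kernel
    simp only [h, List.map_cons, List.map_nil, List.sum_cons, List.sum_nil, Int.cast_one, Int.cast_neg, pow_zero, mul_one, one_mul, add_zero]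
    show -1 * t ^ 1 * b3 + (b9) = -b3*t + b9
    ring
  · have h : rowTab (⟨11, by decide⟩ : Fin chevG2.nroots) (Sum.inr (10 : Fin 12)) = [(7, 1, -1), (12, 0, 1)] := by decide +kernel
    simp only [h, List.map_cons, List.map_nil, List.sum_cons, List.sum_nil, Int.cast_one, Int.cast_neg, pow_zero, mul_one, one_mul, add_zero]
    show -1 * t ^ 1 * b5 + (b10) = -b5*t + b10
    ring
  · have h : rowTab (⟨11, by decide⟩ : Fin chevG2.nroots) (Sum.inr (11 : Fin 12)) = [(1, 1, -1), (2, 2, -1), (13, 0, 1)] := by decide +kernel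
    simp only [h, List.map_cons, List.map_nil, List.sum_cons, List.sum_nil, Int.cast_one, Int.cast_neg, pow_zero, mul_one, one_mul, add_zero]
    show -1 * t ^ 1 * a1 + (-1 * t ^ 2 * b0 + (b11)) = -b0*t^2 - a1*t + b11
    ring

end Cfsg.Agent.LieRecognition.ReeAct
end

-- part: LieRecognition/ReeBorel
section
/-!
# The explicit elements of the small Ree groups and the subgroups `U`, `H`, `B` of `G₂`
-/

set_option autoImplicit false

namespace Cfsg.Agent.LieRecognition.ReeBorel

open Cfsg.Lie Cfsg.Agent.ChevalleyStructure Cfsg.Agent.ChevalleyStructure.Ree.Gens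
open Cfsg.Agent.ChevalleyStructure.Ree.Checks
open scoped Matrix

variable {K : Type*} [Field K]

theorem isPos {r : ℕ} (h6 : 6 ≤ r) (h12 : r < 12) : chevG2.IsPosRoot r := by
  interval_cases r <;> decide

theorem xU_mem_pos {r : ℕ} (h6 : 6 ≤ r) (h12 : r < 12) (t : K) : xU r t ∈ chevG2.posUnipotent K :=
  Subgroup.subset_closure ⟨r, t, isPos h6 h12, coe_xU r t⟩

theorem wordU_mem_pos (w : List (ℕ × K)) (hw : ∀ p ∈ w, 6 ≤ p.1 ∧ p.1 < 12) :
    wordU w ∈ chevG2.posUnipotent K := by
  induction w with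
  | nil => simp [wordU]
  | cons p w ih =>
    have h1 : wordU (p :: w) = xU p.1 p.2 * wordU w := by simp [wordU]
    rw [h1]
    exact mul_mem (xU_mem_pos (hw p (by simp)).1 (hw p (by simp)).2 p.2)
      (ih fun q hq => hw q (List.mem_cons_of_mem _ hq))

theorem wU_mem_pos (e : ℕ) (t u v : K) : wU e t u v ∈ chevG2.posUnipotent K := by
  apply wordU_mem_pos
  intro p hp
  simp only [reeWordU, List.mem_cons, List.not_mem_nil, or_false] at hp
  rcases hp with rfl | rfl | rfl | rfl | rfl | rfl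
  · exact (show (6 : ℕ) ≤ 7 ∧ (7 : ℕ) < 12 from ⟨by decide, by decide⟩)
  · exact (show (6 : ℕ) ≤ 6 ∧ (6 : ℕ) < 12 from ⟨by decide, by decide⟩)
  · exact (show (6 : ℕ) ≤ 8 ∧ (8 : ℕ) < 12 from ⟨by decide, by decide⟩)
  · exact (show (6 : ℕ) ≤ 9 ∧ (9 : ℕ) < 12 from ⟨by decide, by decide⟩)
  · exact (show (6 : ℕ) ≤ 10 ∧ (10 : ℕ) < 12 from ⟨by decide, by decide⟩)
  · exact (show (6 : ℕ) ≤ 11 ∧ (11 : ℕ) < 12 from ⟨by decide, by decide⟩)

theorem cartan_root : ∀ s : Fin 12,
    2 * SparseHDiag.cartanRS chevG2 7 s.val + 3 * SparseHDiag.cartanRS chevG2 6 s.val = rootA s.val ∧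
    SparseHDiag.cartanRS chevG2 7 s.val + 2 * SparseHDiag.cartanRS chevG2 6 s.val = rootB s.val := by
  decide +kernel

theorem hU_mem_diag (α β : Kˣ) : hU α β ∈ chevG2.diagonalSubgroup K := by
  have h1 : ∀ (r : ℕ) (t : Kˣ), r < 12 → wordU (chevG2.hWord r (t : K)) ∈ chevG2.diagonalSubgroup K :=
    fun r t hr => Subgroup.subset_closure ⟨r, t, hr, t.ne_zero, coe_wordU _⟩
  have h2 : hU α β = wordU (chevG2.hWord 7 ((α ^ 2 * β : Kˣ) : K)) *
      wordU (chevG2.hWord 6 ((α ^ 3 * β ^ 2 : Kˣ) : K)) := by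
    apply Units.ext
    rw [Units.val_mul, coe_wordU, coe_wordU, coe_hU]
    have e7 : chevG2.wordMat K (chevG2.hWord 7 ((α ^ 2 * β : Kˣ) : K)) =
        Matrix.diagonal (SparseHDiag.hVal chevG2 7 ((α ^ 2 * β : Kˣ) : K)) :=
      HDiagG2.hMat_chevG2 (by decide) (Units.ne_zero _)
    have e6 : chevG2.wordMat K (chevG2.hWord 6 ((α ^ 3 * β ^ 2 : Kˣ) : K)) =
        Matrix.diagonal (SparseHDiag.hVal chevG2 6 ((α ^ 3 * β ^ 2 : Kˣ) : K)) :=
      HDiagG2.hMat_chevG2 (by decide) (Units.ne_zero _)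
    rw [e7, e6, Matrix.diagonal_mul_diagonal, hMat]
    congr 1
    funext i
    rcases i with i | s
    · simp [SparseHDiag.hVal]
    · have hc := cartan_root s
      show (α : K) ^ rootA s.val * (β : K) ^ rootB s.val = ((α ^ 2 * β : Kˣ) : K) ^ SparseHDiag.cartanRS chevG2 7 s.val *
        ((α ^ 3 * β ^ 2 : Kˣ) : K) ^ SparseHDiag.cartanRS chevG2 6 s.val
      rw [← hc.1, ← hc.2, ← Units.val_zpow_eq_zpow_val, ← Units.val_zpow_eq_zpow_val,
        ← Units.val_zpow_eq_zpow_val, ← Units.val_zpow_eq_zpow_val, ← Units.val_mul, ← Units.val_mul]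
      congr 1
      rw [mul_zpow, mul_zpow, zpow_add, zpow_add, zpow_mul, zpow_mul, zpow_mul]
      simp only [zpow_ofNat]
      rw [← zpow_natCast α 2, ← zpow_natCast α 3, ← zpow_natCast β 2]
      exact mul_mul_mul_comm _ _ _ _
  rw [h2]
  exact mul_mem (h1 _ _ (by decide)) (h1 _ _ (by decide))

theorem tU_mem_diag (e : ℕ) (α : Kˣ) : tU e α ∈ chevG2.diagonalSubgroup K := hU_mem_diag _ _

theorem wU_mem_borel (e : ℕ) (t u v : K) : wU e t u v ∈ chevG2.borelSubgroup K :=
  (le_sup_left : chevG2.posUnipotent K ≤ chevG2.borelSubgroup K) (wU_mem_pos e t u v)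

theorem tU_mem_borel (e : ℕ) (α : Kˣ) : tU e α ∈ chevG2.borelSubgroup K :=
  (le_sup_right : chevG2.diagonalSubgroup K ≤ chevG2.borelSubgroup K) (tU_mem_diag e α)

/-- the stabiliser of a line -/
def lineStab (v : chevG2.Idx → K) (hv : v ≠ 0) : Subgroup (GL chevG2.Idx K) where
  carrier := {g | ∃ c : K, (g : Matrix chevG2.Idx chevG2.Idx K) *ᵥ v = c • v}
  one_mem' := ⟨1, by simp⟩
  mul_mem' := by
    rintro g g' ⟨c, hc⟩ ⟨c', hc'⟩
    exact ⟨c * c', by
      rw [Units.val_mul, ← Matrix.mulVec_mulVec, hc', Matrix.mulVec_smul, hc, smul_smul, mul_comm]⟩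
  inv_mem' := by
    rintro g ⟨c, hc⟩
    have h1 : v = c • (((g⁻¹ : GL chevG2.Idx K) : Matrix chevG2.Idx chevG2.Idx K) *ᵥ v) := by
      have h2 : ((g⁻¹ : GL chevG2.Idx K) : Matrix chevG2.Idx chevG2.Idx K) *ᵥ
          ((g : Matrix chevG2.Idx chevG2.Idx K) *ᵥ v) = v := by
        rw [Matrix.mulVec_mulVec, ← Units.val_mul, inv_mul_cancel, Units.val_one, Matrix.one_mulVec]
      rw [hc, Matrix.mulVec_smul] at h2
      exact h2.symm
    have hc0 : c ≠ 0 := by
      rintro rfl
      rw [zero_smul] at h1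
      exact hv h1
    refine ⟨c⁻¹, ?_⟩
    conv_rhs => rw [h1]
    rw [smul_smul, inv_mul_cancel₀ hc0, one_smul]

/-- the highest root vector -/
def vTop (K : Type*) [Field K] : chevG2.Idx → K := ReeAct.mk 0 0 0 0 0 0 0 0 0 0 0 0 0 1

theorem vTop_ne : vTop K ≠ 0 := by
  intro h
  have := congrFun h (Sum.inr (11 : Fin 12))
  exact one_ne_zero this

theorem borel_le_lineStab [CharP K 3] : chevG2.borelSubgroup K ≤ lineStab (vTop K) vTop_ne := by
  apply sup_le
  · rw [ChevalleyDatum.posUnipotent, Subgroup.closure_le]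
    rintro g ⟨r, t, hr, hg⟩
    refine ⟨1, ?_⟩
    rw [hg, one_smul, vTop]
    have h12 : r < 12 := hr.1
    have h6 : 6 ≤ r := by
      by_contra hlt
      have : ¬ chevG2.IsPosRoot r := by
        interval_cases r <;> decide
      exact this hr
    interval_cases r
    · rw [ReeAct.x6]; simp
    · rw [ReeAct.x7]; simp
    · rw [ReeAct.x8]; simp
    · rw [ReeAct.x9]; simp
    · rw [ReeAct.x10]; simp
    · rw [ReeAct.x11]; simp
  · rw [ChevalleyDatum.diagonalSubgroup, Subgroup.closure_le]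
    rintro g ⟨r, t, hr, ht, hg⟩
    rw [HDiagG2.hMat_chevG2 hr ht] at hg
    refine ⟨SparseHDiag.hVal chevG2 r t (Sum.inr (11 : Fin 12)), ?_⟩
    rw [hg, vTop]
    funext i
    rw [Matrix.mulVec_diagonal]
    refine ReeAct.forall_idx (P := fun i => SparseHDiag.hVal chevG2 r t i * ReeAct.mk 0 0 0 0 0 0 0 0 0 0 0 0 0 1 i =
      (SparseHDiag.hVal chevG2 r t (Sum.inr (11 : Fin 12)) • ReeAct.mk 0 0 0 0 0 0 0 0 0 0 0 0 0 1) i)
      ?_ ?_ ?_ ?_ ?_ ?_ ?_ ?_ ?_ ?_ ?_ ?_ ?_ ?_ i
    all_goals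
      first
        | rfl
        | (show SparseHDiag.hVal chevG2 r t _ * (0 : K) = SparseHDiag.hVal chevG2 r t _ * (0 : K)
           rw [mul_zero, mul_zero])

theorem nU_notMem_borel [CharP K 3] : nU K ∉ chevG2.borelSubgroup K := by
  intro h
  obtain ⟨c, hc⟩ := borel_le_lineStab h
  have h1 := congrFun hc (Sum.inr (0 : Fin 12))
  have h2 : (c • vTop K) (Sum.inr (0 : Fin 12)) = 0 := by
    show c * (0 : K) = 0
    rw [mul_zero]
  rw [h2] at h1
  have h3 : (nMat K *ᵥ vTop K) (Sum.inr (0 : Fin 12)) = -1 := by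
    show ∑ c, nMat K (Sum.inr (0 : Fin 12)) c * vTop K c = -1
    rw [ReeTab.sum_idx]
    have e : ReeTab.allIdx.map (fun c => nMat K (Sum.inr (0 : Fin 12)) c * vTop K c) =
        [0 * 0, 0 * 0, 0 * 0, 0 * 0, 0 * 0, 0 * 0, 0 * 0, 0 * 0, 0 * 0, 0 * 0, 0 * 0, 0 * 0, 0 * 0, -1 * 1] := rfl
    rw [e]
    simp
  rw [coe_nU, h3] at h1
  exact one_ne_zero (neg_eq_zero.1 h1)

end Cfsg.Agent.LieRecognition.ReeBorel
end

-- part: LieRecognition/ReeBorelData
section
/-!
# `B¹ = G¹ ∩ B` in the small Ree groups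
-/

set_option autoImplicit false

namespace Cfsg.Agent.LieRecognition.ReeBorelData

open Cfsg.Lie
open Cfsg.Agent.ChevalleyStructure.Ree.Gens
open Cfsg.Agent.ChevalleyStructure.Ree.Normal
open Cfsg.Agent.ChevalleyStructure.Ree.Data

variable {K : Type*} [Field K] {θ : K →+* K} {m : ℕ} (c : Ctx θ (3 ^ m))

/-- The elements of `²G₂(K)` that lie in the Borel subgroup of `G₂(K)` are the `U t u v * h a`. -/
theorem mem_borel_iff [CharP K 3] (g : ↥(twistedG2 K (3 ^ m))) :
    (g : GL chevG2.Idx K) ∈ chevG2.borelSubgroup K ↔ ∃ t u v a, g = U K (3 ^ m) t u v * T c a := by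
  constructor
  · intro hg
    rcases (data c).bruhat g with h | ⟨t, u, v, a, t', u', v', h⟩
    · exact h
    · exfalso
      apply ReeBorel.nU_notMem_borel (K := K)
      have h1 : nU K = (wU (3 ^ m) t u v * tU (3 ^ m) a)⁻¹ * (g : GL chevG2.Idx K) * (wU (3 ^ m) t' u' v')⁻¹ := by
        rw [h]
        simp only [Subgroup.coe_mul, coe_U, coe_T, coe_N]
        group
      rw [h1]
      exact mul_mem (mul_mem (inv_mem (mul_mem (ReeBorel.wU_mem_borel _ _ _ _) (ReeBorel.tU_mem_borel _ _))) hg)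
        (inv_mem (ReeBorel.wU_mem_borel _ _ _ _))
  · rintro ⟨t, u, v, a, rfl⟩
    rw [Subgroup.coe_mul, coe_U, coe_T]
    exact mul_mem (ReeBorel.wU_mem_borel _ _ _ _) (ReeBorel.tU_mem_borel _ _)

theorem mem_borelSub_iff [CharP K 3] (g : ↥(twistedG2 K (3 ^ m))) :
    g ∈ (chevG2.borelSubgroup K ⊓ twistedG2 K (3 ^ m)).subgroupOf (twistedG2 K (3 ^ m)) ↔
      ∃ t u v a, g = U K (3 ^ m) t u v * T c a := by
  rw [Subgroup.mem_subgroupOf, Subgroup.mem_inf, ← mem_borel_iff c]
  exact ⟨fun h => h.1, fun h => ⟨h, g.2⟩⟩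

end Cfsg.Agent.LieRecognition.ReeBorelData
end

-- part: S1153
section
-- import your own Cfsg.Agent.* helpers here

set_option autoImplicit false
open Cfsg

namespace Cfsg.Agent.S1153

/-- In the small Ree group ²G₂(q), q = 3^(2m+1), realised as G¹ inside the Chevalley group G₂ over the field with q elements, with `B¹ = G¹ ∩ B`: in the action of `G¹` on the cosets of `B¹`, the joint stabiliser of any three distinct cosets has order at most 2, and for some three distinct cosets it has order exactly 2. -/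
theorem result {K : Type*} [Field K] [Fintype K] {m : ℕ} (hK : Fintype.card K = 3 ^ (2 * m + 1)) :
    (∀ x y z : ↥(Cfsg.Lie.twistedG2 K (3 ^ m)) ⧸ ((Cfsg.Lie.chevG2.borelSubgroup K ⊓ Cfsg.Lie.twistedG2 K (3 ^ m))).subgroupOf (Cfsg.Lie.twistedG2 K (3 ^ m)), x ≠ y → x ≠ z → y ≠ z →
        Nat.card ↥(MulAction.stabilizer ↥(Cfsg.Lie.twistedG2 K (3 ^ m)) x ⊓ MulAction.stabilizer ↥(Cfsg.Lie.twistedG2 K (3 ^ m)) y ⊓ MulAction.stabilizer ↥(Cfsg.Lie.twistedG2 K (3 ^ m)) z) ≤ 2) ∧
      ∃ x y z : ↥(Cfsg.Lie.twistedG2 K (3 ^ m)) ⧸ ((Cfsg.Lie.chevG2.borelSubgroup K ⊓ Cfsg.Lie.twistedG2 K (3 ^ m))).subgroupOf (Cfsg.Lie.twistedG2 K (3 ^ m)), x ≠ y ∧ x ≠ z ∧ y ≠ z ∧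
        Nat.card ↥(MulAction.stabilizer ↥(Cfsg.Lie.twistedG2 K (3 ^ m)) x ⊓ MulAction.stabilizer ↥(Cfsg.Lie.twistedG2 K (3 ^ m)) y ⊓ MulAction.stabilizer ↥(Cfsg.Lie.twistedG2 K (3 ^ m)) z) = 2 := by
  obtain ⟨θ, c⟩ := Cfsg.Agent.ChevalleyStructure.Ree.Normal.exists_ctx hK
  haveI : CharP K 3 := Cfsg.Agent.LieRecognition.ReeAbs.charP_three hK
  exact Cfsg.Agent.LieRecognition.ReeThree.main (Cfsg.Agent.ChevalleyStructure.Ree.Data.data c) _
    (fun g => Cfsg.Agent.LieRecognition.ReeBorelData.mem_borelSub_iff c g) hK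

end Cfsg.Agent.S1153
end
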