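import Cfsg.Statements.S1233
import Cfsg.Agent.S0501
import Cfsg.Agent.S1232
import Cfsg.Agent.TwoFusion.SelfCentQQMain
set_option linter.all false

set_option autoImplicit false
open Cfsg

namespace Cfsg.Agent.S1233

open Subgroup
open Cfsg.Agent.TwoFusion.SelfCentQQ
open Cfsg.Agent.TwoFusion.SelfCentQQMain

abbrev Q8 := QuaternionGroup 2

abbrev z0 : Q8 := QuaternionGroup.a 2
abbrev i0 : Q8 := QuaternionGroup.a 1
abbrev j0 : Q8 := QuaternionGroup.xa 0

theorem q8_sq : ∀ g : Q8, g * g = 1 ∨ g * g = z0 := by decide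

theorem q8_comm : ∀ g h : Q8, g * h = h * g ∨ g * h = z0 * (h * g) := by decide

theorem q8_z : ∀ g : Q8, g * z0 = z0 * g := by decide

theorem q8_center : ∀ g : Q8, g * i0 = i0 * g → g * j0 = j0 * g → g = 1 ∨ g = z0 := by decide

theorem q8_zz : z0 * z0 = (1 : Q8) := by decide

theorem q8_z1 : z0 ≠ (1 : Q8) := by decide

theorem q8_ij : ¬ (i0 * j0 = j0 * i0) := by decide

theorem card_q8 : Nat.card Q8 = 8 := by
  rw [Nat.card_eq_fintype_card]; decide

/-- coordinates: from the data of the statement, an extraspecial set-up with a hyperbolic basis -/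
theorem exists_setup {S : Type*} [Group S] [Finite S] (Q Q₁ Q₂ : Subgroup S) (e₁ : Q₁ ≃* Q8)
    (e₂ : Q₂ ≃* Q8) (hcomm : ∀ a ∈ Q₁, ∀ b ∈ Q₂, a * b = b * a) (hQ : Q₁ ⊔ Q₂ = Q)
    (hQ32 : Nat.card Q = 32) (hC : Subgroup.centralizer (Q : Set S) ≤ Q) :
    ∃ (z i₁ j₁ i₂ j₂ : S), XS z Q ∧ Hyp z Q i₁ j₁ i₂ j₂ := by
  let φ₁ : Q8 →* S := Q₁.subtype.comp e₁.symm.toMonoidHom
  let φ₂ : Q8 →* S := Q₂.subtype.comp e₂.symm.toMonoidHom
  have hφ₁ : Function.Injective φ₁ := Q₁.subtype_injective.comp e₁.symm.injective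
  have hφ₂ : Function.Injective φ₂ := Q₂.subtype_injective.comp e₂.symm.injective
  have hφ₁m : ∀ g, φ₁ g ∈ Q₁ := fun g => (e₁.symm g).2
  have hφ₂m : ∀ g, φ₂ g ∈ Q₂ := fun g => (e₂.symm g).2
  have hc : ∀ g h, Commute (φ₁ g) (φ₂ h) := fun g h => hcomm _ (hφ₁m g) _ (hφ₂m h)
  have hr₁ : φ₁.range = Q₁ := by
    apply le_antisymm
    · rintro _ ⟨g, rfl⟩; exact hφ₁m g
    · intro x hx
      exact ⟨e₁ ⟨x, hx⟩, by simp [φ₁]⟩
  have hr₂ : φ₂.range = Q₂ := by
    apply le_antisymm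
    · rintro _ ⟨g, rfl⟩; exact hφ₂m g
    · intro x hx
      exact ⟨e₂ ⟨x, hx⟩, by simp [φ₂]⟩
  let ψ : Q8 × Q8 →* S := MonoidHom.noncommCoprod φ₁ φ₂ hc
  have hψ : ∀ g h, ψ (g, h) = φ₁ g * φ₂ h := fun g h => rfl
  have hψr : ψ.range = Q := by
    rw [MonoidHom.noncommCoprod_range, hr₁, hr₂, hQ]
  have hker : Nat.card ψ.ker = 2 := by
    have h1 : Nat.card ψ.ker * ψ.ker.index = Nat.card (Q8 × Q8) := card_mul_index _
    have h2 : ψ.ker.index = Nat.card ψ.range := index_ker ψ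
    rw [h2, hψr, hQ32, Nat.card_prod, card_q8] at h1
    omega
  -- the kernel is generated by `(z0, z0)`
  have hzz0 : φ₁ z0 * φ₂ z0 = 1 := by
    obtain ⟨k, hk, hk1⟩ : ∃ k ∈ ψ.ker, k ≠ 1 := by
      by_contra hcon
      push Not at hcon
      have : ψ.ker = ⊥ := (eq_bot_iff_forall _).2 hcon
      rw [this, card_bot] at hker
      omega
    have huniq : ∀ l ∈ ψ.ker, l ≠ 1 → l = k := by
      intro l hl hl1
      by_contra hlk
      have : 2 < Nat.card ψ.ker := by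
        have : Fintype ψ.ker := Fintype.ofFinite _
        rw [Nat.card_eq_fintype_card, Fintype.two_lt_card_iff]
        exact ⟨1, ⟨k, hk⟩, ⟨l, hl⟩, fun h => hk1 (congrArg Subtype.val h).symm,
          fun h => hl1 (congrArg Subtype.val h).symm, fun h => hlk (congrArg Subtype.val h).symm⟩
      omega
    have hkc : ∀ x : Q8 × Q8, x * k * x⁻¹ = k := by
      intro x
      apply huniq _ (ψ.normal_ker.conj_mem k hk x)
      intro h
      apply hk1
      have := conj_eq_one_iff.1 h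
      exact this
    obtain ⟨k1, k2⟩ := k
    have c1 : ∀ g : Q8, k1 * g = g * k1 := by
      intro g
      have := hkc (g, 1)
      rw [mul_inv_eq_iff_eq_mul] at this
      exact (congrArg Prod.fst this).symm
    have c2 : ∀ g : Q8, k2 * g = g * k2 := by
      intro g
      have := hkc (1, g)
      rw [mul_inv_eq_iff_eq_mul] at this
      exact (congrArg Prod.snd this).symm
    have hk' : φ₁ k1 * φ₂ k2 = 1 := hk
    rcases q8_center k1 (c1 _) (c1 _) with h1 | h1 <;> rcases q8_center k2 (c2 _) (c2 _) with h2 | h2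
    · exact absurd (by rw [h1, h2]; rfl) hk1
    · exfalso
      rw [h1, h2, map_one, one_mul] at hk'
      exact q8_z1 (hφ₂ (hk'.trans (map_one φ₂).symm))
    · exfalso
      rw [h1, h2, map_one, mul_one] at hk'
      exact q8_z1 (hφ₁ (hk'.trans (map_one φ₁).symm))
    · rw [h1, h2] at hk'
      exact hk'
  set z : S := φ₁ z0 with hz
  have hzz : z * z = 1 := by rw [hz, ← map_mul, q8_zz, map_one]
  have hz1 : z ≠ 1 := fun h => q8_z1 (hφ₁ (h.trans (map_one φ₁).symm))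
  have hz2 : φ₂ z0 = z := by
    have : z * φ₂ z0 = z * z := by rw [hzz, hzz0]
    exact mul_left_cancel this
  have hQmem : ∀ x ∈ Q, ∃ g h, x = φ₁ g * φ₂ h := by
    intro x hx
    rw [← hψr] at hx
    obtain ⟨⟨g, h⟩, rfl⟩ := hx
    exact ⟨g, h, rfl⟩
  have hmem : ∀ g h, φ₁ g * φ₂ h ∈ Q := by
    intro g h
    rw [← hψr]
    exact ⟨(g, h), rfl⟩
  have hmem₁ : ∀ g, φ₁ g ∈ Q := fun g => by simpa using hmem g 1
  have hmem₂ : ∀ g, φ₂ g ∈ Q := fun g => by simpa using hmem 1 g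
  have hzc : ∀ x ∈ Q, x * z = z * x := by
    intro x hx
    obtain ⟨g, h, rfl⟩ := hQmem x hx
    have h1 : φ₁ g * z = z * φ₁ g := by rw [hz, ← map_mul, ← map_mul, q8_z]
    have h2 : φ₂ h * z = z * φ₂ h := (hc z0 h).symm
    rw [mul_assoc, h2, ← mul_assoc, h1, mul_assoc]
  have hprod : ∀ g h g' h', (φ₁ g * φ₂ h) * (φ₁ g' * φ₂ h') = φ₁ (g * g') * φ₂ (h * h') := by
    intro g h g' h'
    rw [map_mul, map_mul]
    calc φ₁ g * φ₂ h * (φ₁ g' * φ₂ h') = φ₁ g * (φ₂ h * φ₁ g') * φ₂ h' := by group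
      _ = φ₁ g * (φ₁ g' * φ₂ h) * φ₂ h' := by rw [(hc g' h).eq]
      _ = φ₁ g * φ₁ g' * (φ₂ h * φ₂ h') := by group
  refine ⟨z, φ₁ i0, φ₁ j0, φ₂ i0, φ₂ j0, ⟨hz1, hzz, hmem₁ z0, ?_, ?_, ?_, hQ32⟩, ?_⟩
  · intro x hx y hy
    refine ⟨hzc x hx, hzc y hy, ?_⟩
    obtain ⟨g, h, rfl⟩ := hQmem x hx
    obtain ⟨g', h', rfl⟩ := hQmem y hy
    rw [hprod, hprod]
    rcases q8_comm g g' with h1 | h1 <;> rcases q8_comm h h' with h2 | h2 <;> rw [h1, h2]
    · left; rfl
    · right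
      rw [map_mul φ₂ z0, hz2, ← mul_assoc, ← mul_assoc, hzc _ (hmem₁ _)]
    · right
      rw [map_mul φ₁ z0, mul_assoc]
    · left
      rw [map_mul φ₁ z0, map_mul φ₂ z0, hz2, mul_assoc, ← mul_assoc (φ₁ _) z, hzc _ (hmem₁ _),
        ← mul_assoc, ← mul_assoc, hzz, one_mul]
  · intro x hx
    obtain ⟨g, h, rfl⟩ := hQmem x hx
    rw [hprod]
    rcases q8_sq g with h1 | h1 <;> rcases q8_sq h with h2 | h2 <;> rw [h1, h2]
    · left; simp
    · right; rw [map_one, one_mul, hz2]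
    · right; rw [map_one, mul_one]
    · left; rw [hz2, hzz]
  · intro s hs
    have hsQ : s ∈ Q := by
      apply hC
      rw [mem_centralizer_iff]
      intro q hq
      exact (hs q hq).symm
    obtain ⟨g, h, rfl⟩ := hQmem s hsQ
    have k1 : ∀ u : Q8, g * u = u * g := by
      intro u
      have := hs (φ₁ u) (hmem₁ u)
      have h2 : φ₁ u = φ₁ u * φ₂ 1 := by simp
      rw [h2, hprod, hprod, mul_one, one_mul] at this
      exact hφ₁ (mul_right_cancel this)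
    have k2 : ∀ u : Q8, h * u = u * h := by
      intro u
      have := hs (φ₂ u) (hmem₂ u)
      have h2 : φ₂ u = φ₁ 1 * φ₂ u := by simp
      rw [h2, hprod, hprod, mul_one, one_mul] at this
      exact hφ₂ (mul_left_cancel this)
    rcases q8_center g (k1 _) (k1 _) with h1 | h1 <;> rcases q8_center h (k2 _) (k2 _) with h2 | h2
      <;> rw [h1, h2]
    · left; simp
    · right; rw [map_one, one_mul, hz2]
    · right; rw [map_one, mul_one]
    · left; rw [hz2, hzz]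
  · have n1 : ∀ g h : Q8, ¬ (g * h = h * g) → ¬ (φ₁ g * φ₁ h = φ₁ h * φ₁ g) := by
      intro g h hn hh
      rw [← map_mul, ← map_mul] at hh
      exact hn (hφ₁ hh)
    have n2 : ∀ g h : Q8, ¬ (g * h = h * g) → ¬ (φ₂ g * φ₂ h = φ₂ h * φ₂ g) := by
      intro g h hn hh
      rw [← map_mul, ← map_mul] at hh
      exact hn (hφ₂ hh)
    exact ⟨hmem₁ _, hmem₁ _, hmem₂ _, hmem₂ _, n1 _ _ q8_ij, n2 _ _ q8_ij, hc _ _, hc _ _, hc _ _,
      hc _ _⟩

/-- Let S be a finite 2-group and Q a subgroup of order 32 generated by two elementwise-commuting subgroups Q₁, Q₂ each isomorphic to the quaternion group of order 8 (so Q = Q₁ ∗ Q₂). If C_S(Q) ≤ Q, then every section of S has 2-rank at most 4. -/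
theorem result {S : Type*} [Group S] [Finite S] (hS : IsPGroup 2 S) (Q Q₁ Q₂ : Subgroup S) (e₁ : Q₁ ≃* QuaternionGroup 2) (e₂ : Q₂ ≃* QuaternionGroup 2) (hcomm : ∀ a ∈ Q₁, ∀ b ∈ Q₂, a * b = b * a) (hQ : Q₁ ⊔ Q₂ = Q) (hQ32 : Nat.card Q = 32) (hC : Subgroup.centralizer (Q : Set S) ≤ Q) : Cfsg.SectionalPRankLE 2 4 S := by
  by_cases hall : ∀ A : Subgroup S, A.Normal → IsMulCommutative A → (∀ a ∈ A, a ^ 2 = 1) → Nat.card A ≤ 4
  · exact Cfsg.Agent.S0501.result hS hall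
  · push Not at hall
    obtain ⟨E, hEn, hEc, hE2, hE4⟩ := hall
    obtain ⟨z, i₁, j₁, i₂, j₂, X, H⟩ := exists_setup Q Q₁ Q₂ e₁ e₂ hcomm hQ hQ32 hC
    have hE : Elem E := ⟨fun a ha b hb => congrArg Subtype.val (hEc.is_comm.comm ⟨a, ha⟩ ⟨b, hb⟩),
      fun a ha => by rw [← pow_two]; exact hE2 a ha⟩
    obtain ⟨A, hA8, hAe, hAc⟩ := exists_selfcent hS X H hE
      (fun g e he => hEn.conj_mem e he g) hE4
    refine Cfsg.Agent.S1232.result hS A ⟨⟨⟨fun a b => Subtype.ext (hAe.comm a a.2 b b.2)⟩⟩,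
      fun a ha => by rw [pow_two]; exact hAe.sq a ha⟩ hA8 ?_
    apply le_antisymm
    · intro s hs
      rw [mem_centralizer_iff] at hs
      exact hAc s (fun a ha => (hs a ha).symm)
    · intro s hs
      rw [SetLike.mem_coe.symm] at hs
      rw [mem_centralizer_iff]
      intro a ha
      exact hAe.comm a ha s hs

end Cfsg.Agent.S1233
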