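import Cfsg.Statements.S1254
import Cfsg.Agent.TwoFusion.DihedralFusion
set_option linter.all false

set_option autoImplicit false
open Cfsg

namespace Cfsg.Agent.S1254

open Cfsg.Agent.TwoFusion.DihedralSylow Cfsg.Agent.TwoFusion.DihedralFusion

/-- If `X = N S` with `N` normal and `N ⊓ S = 1`, normalizers of subgroups of `S` factorise. -/
theorem normalizer_eq {X : Type*} [Group X] [Finite X] (S N U : Subgroup X) [N.Normal]
    (hN : N ⊓ S = ⊥) (hNS : N ⊔ S = ⊤) (hU : U ≤ S) :
    Subgroup.normalizer (U : Set X) =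
      Subgroup.centralizer (U : Set X) ⊔ (S ⊓ Subgroup.normalizer (U : Set X)) := by
  apply le_antisymm
  · intro g hg
    have hg' : g ∈ N ⊔ S := by rw [hNS]; exact Subgroup.mem_top g
    rw [← SetLike.mem_coe, Subgroup.normal_mul] at hg'
    obtain ⟨n, hn, s, hs, rfl⟩ := hg'
    have hn' : n ∈ N := hn
    have hs' : s ∈ S := hs
    have key : ∀ u ∈ U, n * (s * u * s⁻¹) * n⁻¹ = s * u * s⁻¹ := by
      intro u hu
      have h1 : (n * s) * u * (n * s)⁻¹ ∈ U := (Subgroup.mem_normalizer_iff.1 hg u).1 hu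
      have h2 : s * u * s⁻¹ ∈ S := S.mul_mem (S.mul_mem hs' (hU hu)) (S.inv_mem hs')
      have h3 : n * (s * u * s⁻¹) * n⁻¹ * (s * u * s⁻¹)⁻¹ ∈ N ⊓ S := by
        constructor
        · have e : n * (s * u * s⁻¹) * n⁻¹ * (s * u * s⁻¹)⁻¹ =
              n * ((s * u * s⁻¹) * n⁻¹ * (s * u * s⁻¹)⁻¹) := by group
          rw [e]
          exact N.mul_mem hn' ((inferInstance : N.Normal).conj_mem _ (N.inv_mem hn') _)
        · have e : n * (s * u * s⁻¹) * n⁻¹ = (n * s) * u * (n * s)⁻¹ := by group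
          rw [e]
          exact S.mul_mem (hU h1) (S.inv_mem h2)
      rw [hN, Subgroup.mem_bot, mul_inv_eq_one] at h3
      exact h3
    have hsN : s ∈ Subgroup.normalizer (U : Set X) := by
      apply Subgroup.mem_normalizer_fintype
      intro u hu
      have h1 : (n * s) * u * (n * s)⁻¹ ∈ U := (Subgroup.mem_normalizer_iff.1 hg u).1 hu
      have e : (n * s) * u * (n * s)⁻¹ = n * (s * u * s⁻¹) * n⁻¹ := by group
      rw [e, key u hu] at h1
      exact h1
    have hnC : n ∈ Subgroup.centralizer (U : Set X) := by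
      rw [Subgroup.mem_centralizer_iff]
      intro u hu
      have h1 : s⁻¹ * u * s⁻¹⁻¹ ∈ U :=
        (Subgroup.mem_normalizer_iff.1 (Subgroup.inv_mem _ hsN) u).1 hu
      have h2 := key _ h1
      have e : s * (s⁻¹ * u * s⁻¹⁻¹) * s⁻¹ = u := by group
      rw [e, mul_inv_eq_iff_eq_mul] at h2
      exact h2.symm
    exact Subgroup.mul_mem_sup hnC ⟨hs', hsN⟩
  · refine sup_le ?_ inf_le_right
    intro g hg
    rw [Subgroup.mem_centralizer_iff] at hg
    apply Subgroup.mem_normalizer_fintype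
    intro u hu
    rw [← hg u hu, mul_inv_cancel_right]
    exact hu

/-- The hypothesis forces `z` to be weakly closed: no reflection is conjugate to `z`. -/
theorem not_conj_z {X : Type*} [Group X] [Finite X] (S : Sylow 2 X) {m : ℕ} {r z : X}
    (hD : DihData (S : Subgroup X) m r z) (h4 : 4 ∣ m)
    (h : ∀ U : Subgroup X, U ≤ S → IsKleinFour U → Subgroup.normalizer (U : Set X) =
      Subgroup.centralizer (U : Set X) ⊔ ((S : Subgroup X) ⊓ Subgroup.normalizer (U : Set X)))
    (t : X) (htS : t ∈ (S : Subgroup X)) (ht : t ∉ Subgroup.zpowers r) (g : X) :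
    g * t * g⁻¹ ≠ z := by
  intro hg
  have ht1 : t ≠ 1 := fun h => ht (h ▸ Subgroup.one_mem _)
  have ht2 := hD.refl_sq t htS ht
  have htz : t ≠ z := fun h => ht (h ▸ hD.z_mem)
  have hzS : z ∈ (S : Subgroup X) := hD.zpowers_le hD.z_mem
  have hSC : (S : Subgroup X) ≤ Subgroup.centralizer {z} := by
    intro s hs
    rw [Subgroup.mem_centralizer_iff]
    intro w hw
    rw [Set.mem_singleton_iff] at hw
    rw [hw]
    exact (hD.z_comm s hs).symm
  have hcomm : z * (g * z * g⁻¹) = (g * z * g⁻¹) * z := by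
    rw [← hg]
    have e1 : g * t * g⁻¹ * (g * (g * t * g⁻¹) * g⁻¹) = g * (t * (g * t * g⁻¹)) * g⁻¹ := by group
    have e2 : g * (g * t * g⁻¹) * g⁻¹ * (g * t * g⁻¹) = g * ((g * t * g⁻¹) * t) * g⁻¹ := by group
    rw [e1, e2, hg, hD.z_comm t htS]
  have hV0 : fourGroup z (g * z * g⁻¹) hD.z_sq (conj_sq g hD.z_sq) hcomm ≤
      Subgroup.centralizer {z} := by
    intro w hw
    rw [Subgroup.mem_centralizer_iff]
    intro w' hw'
    rw [Set.mem_singleton_iff] at hw'
    subst hw'
    rcases mem_fourGroup.1 hw with rfl | rfl | rfl | rfl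
    · rw [one_mul, mul_one]
    · rfl
    · exact hcomm
    · rw [mul_assoc w', ← hcomm]
  have hV0p : IsPGroup 2 (fourGroup z (g * z * g⁻¹) hD.z_sq (conj_sq g hD.z_sq) hcomm) := by
    intro x
    refine ⟨1, ?_⟩
    apply Subtype.ext
    rw [pow_one, sq]
    exact sq_of_mem_fourGroup hD.z_sq (conj_sq g hD.z_sq) hcomm x.2
  obtain ⟨c, hcC, hc⟩ := exists_conj_mem S _ _ hSC hV0 hV0p
  have hcz : c * z * c⁻¹ = z := by
    have := Subgroup.mem_centralizer_iff.1 hcC z rfl
    rw [← this, mul_inv_cancel_right]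
  -- the elements k = c g
  have hbS : c * (g * z * g⁻¹) * c⁻¹ ∈ (S : Subgroup X) :=
    hc _ (right_mem_fourGroup _ _ _)
  set k := c * g with hk
  have hkt : k * t * k⁻¹ = z := by
    rw [hk]
    have e : c * g * t * (c * g)⁻¹ = c * (g * t * g⁻¹) * c⁻¹ := by group
    rw [e, hg, hcz]
  have hb : c * (g * z * g⁻¹) * c⁻¹ = k * z * k⁻¹ := by
    rw [hk]; group
  rw [hb] at hbS
  have hb1 : k * z * k⁻¹ ≠ 1 := conj_ne_one k hD.z_ne
  have hb2 : (k * z * k⁻¹) * (k * z * k⁻¹) = 1 := conj_sq k hD.z_sq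
  have hbz : z ≠ k * z * k⁻¹ := by
    intro h1
    apply htz
    have h2 : k * t * k⁻¹ = k * z * k⁻¹ := by rw [hkt, ← h1]
    exact mul_left_cancel (mul_right_cancel h2)
  have hzb : z * (k * z * k⁻¹) = (k * z * k⁻¹) * z := (hD.z_comm _ hbS).symm
  have hKF := isKleinFour_fourGroup hD.z_sq hb2 hzb hD.z_ne hb1 hbz
  have hle := fourGroup_le hD.z_sq hb2 hzb hzS hbS
  obtain ⟨s, hsS, hs⟩ := hD.swap h4 t htS ht
  have hsz : s * z * s⁻¹ = z := by
    rw [hD.z_comm s hsS, mul_inv_cancel_right]
  have hn1 : (k * s * k⁻¹) * z * (k * s * k⁻¹)⁻¹ = z * (k * z * k⁻¹) := by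
    have e : (k * s * k⁻¹) * z * (k * s * k⁻¹)⁻¹ = k * (s * (k⁻¹ * z * k) * s⁻¹) * k⁻¹ := by group
    have e2 : k⁻¹ * z * k = t := by rw [← hkt]; group
    rw [e, e2, hs, hzb]
    nth_rw 3 [← hkt]
    group
  have hn2 : (k * s * k⁻¹) * (k * z * k⁻¹) * (k * s * k⁻¹)⁻¹ = k * z * k⁻¹ := by
    have e : (k * s * k⁻¹) * (k * z * k⁻¹) * (k * s * k⁻¹)⁻¹ = k * (s * z * s⁻¹) * k⁻¹ := by group
    rw [e, hsz]
  have hnN : k * s * k⁻¹ ∈ Subgroup.normalizer
      ((fourGroup z (k * z * k⁻¹) hD.z_sq hb2 hzb : Subgroup X) : Set X) := by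
    apply Subgroup.mem_normalizer_fintype
    intro w hw
    rw [SetLike.mem_coe, mem_fourGroup]
    rcases mem_fourGroup.1 hw with hw | hw | hw | hw
    · left; rw [hw, mul_one, mul_inv_cancel]
    · right; right; right; rw [hw, hn1]
    · right; right; left; rw [hw, hn2]
    · right; left
      have e : (k * s * k⁻¹) * (z * (k * z * k⁻¹)) * (k * s * k⁻¹)⁻¹ =
          ((k * s * k⁻¹) * z * (k * s * k⁻¹)⁻¹) *
          ((k * s * k⁻¹) * (k * z * k⁻¹) * (k * s * k⁻¹)⁻¹) := by group
      rw [hw, e, hn1, hn2, mul_assoc z, hb2, mul_one]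
  rw [h _ hle hKF] at hnN
  have hcen : Subgroup.centralizer ((fourGroup z (k * z * k⁻¹) hD.z_sq hb2 hzb : Subgroup X) : Set X)
      ⊔ ((S : Subgroup X) ⊓ Subgroup.normalizer
        ((fourGroup z (k * z * k⁻¹) hD.z_sq hb2 hzb : Subgroup X) : Set X)) ≤
      Subgroup.centralizer {z} := by
    refine sup_le ?_ (inf_le_left.trans hSC)
    apply Subgroup.centralizer_le
    rw [Set.singleton_subset_iff]
    exact left_mem_fourGroup _ _ _
  have hfin := Subgroup.mem_centralizer_iff.1 (hcen hnN) z rfl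
  have hfin' : (k * s * k⁻¹) * z * (k * s * k⁻¹)⁻¹ = z := by
    rw [← hfin, mul_inv_cancel_right]
  rw [hn1] at hfin'
  exact hb1 (by simpa using hfin')

/-- A normal subgroup of index two with a normal 2-complement gives a normal 2-complement. -/
theorem hasNormalPComplement_of_index_two {X : Type*} [Group X] [Finite X] (K : Subgroup X)
    (hK : K.index = 2) (P : Sylow 2 K) (N : Subgroup K) (hNn : N.Normal)
    (hN : N.IsComplement' (P : Subgroup K)) : Cfsg.HasNormalPComplement 2 X := by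
  have hKn : K.Normal := Subgroup.normal_of_index_eq_two hK
  obtain ⟨n, hn⟩ := P.2.exists_card_eq
  have hn' : Nat.card (P : Subgroup K) = 2 ^ n := hn
  have hNcard : ¬ 2 ∣ Nat.card N := by
    rw [← hN.index_eq_card]
    exact P.not_dvd_index
  have hNindex : N.index = 2 ^ n := by
    rw [hN.symm.index_eq_card, hn']
  have hmem : ∀ x : K, x ∈ N ↔ ¬ 2 ∣ orderOf x := by
    intro x
    constructor
    · intro hx h2
      exact hNcard (h2.trans (Subgroup.orderOf_dvd_natCard N hx))
    · intro hx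
      rw [← QuotientGroup.eq_one_iff, ← orderOf_eq_one_iff]
      have h1 : orderOf (x : K ⧸ N) ∣ orderOf x := orderOf_map_dvd (QuotientGroup.mk' N) x
      have h2 : orderOf (x : K ⧸ N) ∣ 2 ^ n := by
        rw [← hNindex, Subgroup.index_eq_card]
        exact orderOf_dvd_natCard _
      have h3 : Nat.Coprime (orderOf x) (2 ^ n) := by
        apply Nat.Coprime.pow_right
        rw [Nat.coprime_comm, Nat.Prime.coprime_iff_not_dvd Nat.prime_two]
        exact hx
      exact Nat.eq_one_of_dvd_coprimes h3 h1 h2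
  have hnormal : (N.map K.subtype).Normal := by
    constructor
    rintro _ ⟨y, hy, rfl⟩ g
    have h1 : g * (y : X) * g⁻¹ ∈ K := hKn.conj_mem _ y.2 g
    refine ⟨⟨g * (y : X) * g⁻¹, h1⟩, ?_, rfl⟩
    rw [SetLike.mem_coe, hmem]
    have hy' : ¬ 2 ∣ orderOf y := (hmem y).1 hy
    have e : orderOf (⟨g * (y : X) * g⁻¹, h1⟩ : K) = orderOf y := by
      rw [← Subgroup.orderOf_coe, ← Subgroup.orderOf_coe y]
      have := MulEquiv.orderOf_eq (MulAut.conj g) (y : X)
      rw [MulAut.conj_apply] at this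
      exact this
    rw [e]
    exact hy'
  obtain ⟨S⟩ : Nonempty (Sylow 2 X) := inferInstance
  refine ⟨S, N.map K.subtype, hnormal, ?_⟩
  have hcardN : Nat.card (N.map K.subtype) = Nat.card N :=
    Nat.card_congr (N.equivMapOfInjective K.subtype K.subtype_injective).toEquiv.symm
  obtain ⟨a, ha⟩ := S.2.exists_card_eq
  have ha' : Nat.card (S : Subgroup X) = 2 ^ a := ha
  have hdisj : Disjoint (N.map K.subtype) (S : Subgroup X) := by
    rw [disjoint_iff, ← Subgroup.card_eq_one]
    refine Nat.eq_one_of_dvd_coprimes ?_ (Subgroup.card_dvd_of_le inf_le_left)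
      (Subgroup.card_dvd_of_le inf_le_right)
    rw [hcardN, ha']
    apply Nat.Coprime.pow_right
    rw [Nat.coprime_comm, Nat.Prime.coprime_iff_not_dvd Nat.prime_two]
    exact hNcard
  have hindex : (N.map K.subtype).index = 2 ^ (n + 1) := by
    rw [Subgroup.index_map_subtype, hNindex, hK, pow_succ]
  have hsup : (N.map K.subtype) ⊔ (S : Subgroup X) = ⊤ := by
    rw [← Subgroup.index_eq_one]
    refine Nat.eq_one_of_dvd_coprimes ?_
      (Subgroup.index_dvd_of_le (le_sup_left : N.map K.subtype ≤ _))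
      (Subgroup.index_dvd_of_le (le_sup_right : (S : Subgroup X) ≤ _))
    rw [hindex]
    apply Nat.Coprime.pow_left
    rw [Nat.Prime.coprime_iff_not_dvd Nat.prime_two]
    exact S.not_dvd_index
  apply Subgroup.isComplement'_of_disjoint_and_mul_eq_univ hdisj
  rw [← Subgroup.normal_mul, hsup, Subgroup.coe_top]

/-- Cyclic Sylow 2-subgroups in a subgroup of index two. -/
theorem hasNormalPComplement_of_cyclic {X : Type*} [Group X] [Finite X] (K : Subgroup X)
    (hK : K.index = 2) (h2 : 2 ∣ Nat.card K) (P : Sylow 2 K) (hP : IsCyclic P) :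
    Cfsg.HasNormalPComplement 2 X :=
  hasNormalPComplement_of_index_two K hK P _ inferInstance
    (IsCyclic.isComplement' ((Nat.minFac_eq_two_iff _).2 h2) hP)

theorem of_four_dvd {X : Type*} [Group X] [Finite X] (S : Sylow 2 X) {m : ℕ} {r z : X}
    (hD : DihData (S : Subgroup X) m r z) (h4 : 4 ∣ m)
    (h : ∀ U : Subgroup X, U ≤ S → IsKleinFour U → Subgroup.normalizer (U : Set X) =
      Subgroup.centralizer (U : Set X) ⊔ ((S : Subgroup X) ⊓ Subgroup.normalizer (U : Set X))) :
    Cfsg.HasNormalPComplement 2 X := by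
  classical
  obtain ⟨q, hq, hqodd⟩ := Cfsg.Agent.Transfer.ThompsonTransfer.exists_index_eq S
    (Subgroup.zpowers r) hD.zpowers_le hD.relIndex
  have : Fintype (X ⧸ Subgroup.zpowers r) := Fintype.ofFinite _
  let f : X →* ℤˣ := (Equiv.Perm.sign).comp (MulAction.toPermHom X (X ⧸ Subgroup.zpowers r))
  have hf : ∀ t ∈ (S : Subgroup X), t ∉ Subgroup.zpowers r → f t = -1 := by
    intro t htS ht
    apply Cfsg.Agent.Transfer.ThompsonTransfer.sign_quotient_eq_neg_one _ hq hqodd t
      (by rw [sq, hD.refl_sq t htS ht])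
    intro g hg
    have ht1 : t ≠ 1 := fun h => ht (h ▸ Subgroup.one_mem _)
    rcases hD.eq_z _ hg (conj_sq g (hD.refl_sq t htS ht)) with h1 | h1
    · exact conj_ne_one g ht1 h1
    · exact not_conj_z S hD h4 h t htS ht g h1
  obtain ⟨t, htS, ht⟩ := hD.exists_refl
  have hKi : f.ker.index = 2 := by
    rw [Subgroup.index_ker]
    have : f.range = ⊤ := by
      rw [eq_top_iff]
      intro x _
      rcases Int.units_eq_one_or x with rfl | rfl
      · exact f.range.one_mem
      · exact ⟨t, hf t htS ht⟩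
    rw [this, Subgroup.card_top, Nat.card_eq_fintype_card]
    rfl
  have hKS : ∀ s ∈ (S : Subgroup X), s ∈ f.ker → s ∈ Subgroup.zpowers r := by
    intro s hs hsK
    by_contra hcon
    rw [MonoidHom.mem_ker, hf s hs hcon] at hsK
    exact absurd hsK (by decide)
  have h2 : 2 ∣ Nat.card f.ker := by
    have h1 : Nat.card f.ker * f.ker.index = Nat.card X := Subgroup.card_mul_index _
    rw [hKi] at h1
    have h3 : Nat.card (S : Subgroup X) ∣ Nat.card X := Subgroup.card_subgroup_dvd_card _
    rw [hD.card] at h3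
    obtain ⟨c, rfl⟩ := h4
    obtain ⟨d, hd⟩ := h3
    refine ⟨2 * c * d, ?_⟩
    have : Nat.card f.ker * 2 = 2 * (2 * c * d) * 2 := by rw [h1, hd]; ring
    omega
  obtain ⟨P⟩ : Nonempty (Sylow 2 f.ker) := inferInstance
  have hPm : IsPGroup 2 ((P : Subgroup f.ker).map f.ker.subtype) := P.2.map _
  obtain ⟨c, -, hc⟩ := exists_conj_mem S ⊤ _ le_top le_top hPm
  have hcyc : IsCyclic P := by
    let φ : (P : Subgroup f.ker) →* Subgroup.zpowers r :=
      { toFun := fun x => ⟨c * ((x : f.ker) : X) * c⁻¹, by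
          apply hKS _ (hc _ ⟨x, x.2, rfl⟩)
          exact (inferInstance : f.ker.Normal).conj_mem _ (x : f.ker).2 c⟩
        map_one' := by
          apply Subtype.ext
          show c * (((1 : (P : Subgroup f.ker)) : f.ker) : X) * c⁻¹ = 1
          rw [Subgroup.coe_one, Subgroup.coe_one, mul_one, mul_inv_cancel]
        map_mul' := by
          intro x y
          apply Subtype.ext
          show c * (((x * y : (P : Subgroup f.ker)) : f.ker) : X) * c⁻¹ =
            (c * ((x : f.ker) : X) * c⁻¹) * (c * ((y : f.ker) : X) * c⁻¹)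
          rw [Subgroup.coe_mul, Subgroup.coe_mul]
          group }
    refine isCyclic_of_injective φ ?_
    intro x y hxy
    have h1 : c * ((x : f.ker) : X) * c⁻¹ = c * ((y : f.ker) : X) * c⁻¹ :=
      congrArg Subtype.val hxy
    exact Subtype.ext (Subtype.ext (mul_left_cancel (mul_right_cancel h1)))
  exact hasNormalPComplement_of_cyclic f.ker hKi h2 P hcyc

/-- Let X be a finite group whose Sylow 2-subgroup S is dihedral (of order at least 4). Then X has a normal 2-complement if and only if, for every Klein four-subgroup U ≤ S, the normalizer N_X(U) is generated by C_X(U) and N_S(U). -/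
theorem result {X : Type*} [Group X] [Finite X] (S : Sylow 2 X) (m : ℕ) (hm : 2 ≤ m) (eS : (S : Subgroup X) ≃* DihedralGroup m) : Cfsg.HasNormalPComplement 2 X ↔ ∀ U : Subgroup X, U ≤ S → IsKleinFour U → Subgroup.normalizer (U : Set X) = Subgroup.centralizer (U : Set X) ⊔ ((S : Subgroup X) ⊓ Subgroup.normalizer (U : Set X)) := by
  constructor
  · rintro ⟨P, N, hNn, hN⟩ U hU -
    have hN2 : ¬ 2 ∣ Nat.card N := by
      rw [← hN.index_eq_card]
      exact P.not_dvd_index
    obtain ⟨a, ha⟩ := S.2.exists_card_eq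
    have ha' : Nat.card (S : Subgroup X) = 2 ^ a := ha
    have hco : Nat.Coprime (Nat.card N) (Nat.card (S : Subgroup X)) := by
      rw [ha']
      apply Nat.Coprime.pow_right
      rw [Nat.coprime_comm, Nat.Prime.coprime_iff_not_dvd Nat.prime_two]
      exact hN2
    have hc : N.IsComplement' (S : Subgroup X) := by
      apply Subgroup.isComplement'_of_coprime _ hco
      have h1 := hN.card_mul_card
      have h2 : Nat.card (P : Subgroup X) = Nat.card (S : Subgroup X) := by
        rw [P.card_eq_multiplicity, S.card_eq_multiplicity]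
      rw [← h2, h1]
    exact normalizer_eq _ N U (disjoint_iff.1 hc.disjoint) hc.sup_eq_top hU
  · intro h
    obtain ⟨h4, r, z, hD⟩ := exists_data S m hm eS
    rcases h4 with rfl | h4
    · have hKF : IsKleinFour (S : Subgroup X) := by
        refine ⟨?_, ?_⟩
        · rw [Nat.card_congr eS.toEquiv, DihedralGroup.nat_card]
        · rw [Monoid.exponent_eq_of_mulEquiv eS]
          exact IsKleinFour.exponent_two
      have h1 := h S le_rfl hKF
      have h2 : Subgroup.normalizer ((S : Subgroup X) : Set X) ≤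
          Subgroup.centralizer ((S : Subgroup X) : Set X) := by
        rw [h1]
        refine sup_le le_rfl (inf_le_left.trans ?_)
        intro s hs
        rw [Subgroup.mem_centralizer_iff]
        intro s' hs'
        exact comm_of_isKleinFour hKF hs' hs
      exact ⟨S, _, inferInstance, MonoidHom.ker_transferSylow_isComplement' S h2⟩
    · exact of_four_dvd S hD h4 h

end Cfsg.Agent.S1254
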