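import Cfsg.Statements.S1340
import Cfsg.Agent.SignalizersComponents.QuasisimpleQuotient
import Cfsg.Agent.SignalizersComponents.SLQuasisimple
set_option linter.all false

set_option autoImplicit false
open Cfsg

namespace Cfsg.Agent.S1340

open Matrix

section aux

variable {F : Type*} [Field F] {l m : Type*} [Fintype l] [DecidableEq l] [Fintype m] [DecidableEq m]

/-- The diagonal embedding `A ↦ diag(1, A)`, for matrices. -/
def blk : Matrix m m F →* Matrix (l ⊕ m) (l ⊕ m) F where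
  toFun A := fromBlocks 1 0 0 A
  map_one' := fromBlocks_one
  map_mul' A B := by simp [fromBlocks_multiply]

/-- The embedding of `SL_m` in `GL_(l+m)`. -/
def emb : Matrix.SpecialLinearGroup m F →* Matrix.GeneralLinearGroup (l ⊕ m) F :=
  (Units.map blk).comp Matrix.SpecialLinearGroup.toGL

theorem emb_coe (A : Matrix.SpecialLinearGroup m F) :
    ((emb A : Matrix.GeneralLinearGroup (l ⊕ m) F) : Matrix (l ⊕ m) (l ⊕ m) F) =
      fromBlocks 1 0 0 (A : Matrix m m F) := rfl

theorem emb_injective : Function.Injective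
    (emb : Matrix.SpecialLinearGroup m F →* Matrix.GeneralLinearGroup (l ⊕ m) F) := by
  intro A B h
  have h1 := congrArg (fun x : Matrix.GeneralLinearGroup (l ⊕ m) F =>
    (x : Matrix (l ⊕ m) (l ⊕ m) F)) h
  simp only [emb_coe] at h1
  exact Subtype.ext (fromBlocks_inj.mp h1).2.2.2

/-- The involution `diag(-1, 1)`. -/
def inv₀ : Matrix.GeneralLinearGroup (l ⊕ m) F where
  val := fromBlocks (-1) 0 0 1
  inv := fromBlocks (-1) 0 0 1
  val_inv := by rw [fromBlocks_multiply]; simp [fromBlocks_one]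
  inv_val := by rw [fromBlocks_multiply]; simp [fromBlocks_one]

theorem inv₀_coe : ((inv₀ : Matrix.GeneralLinearGroup (l ⊕ m) F) : Matrix (l ⊕ m) (l ⊕ m) F) =
      fromBlocks (-1) 0 0 1 := rfl

theorem blocks_of_commute (h2 : (2 : F) ≠ 0) {g : Matrix (l ⊕ m) (l ⊕ m) F}
    (h : g * fromBlocks (-1) 0 0 1 = fromBlocks (-1) 0 0 1 * g) :
    g = fromBlocks g.toBlocks₁₁ 0 0 g.toBlocks₂₂ := by
  have key : ∀ x : F, x = -x → x = 0 := by
    intro x hx
    have : (2 : F) * x = 0 := by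
      have h3 : x + x = 0 := by
        nth_rewrite 2 [hx]
        exact add_neg_cancel x
      rw [two_mul, h3]
    exact (mul_eq_zero.mp this).resolve_left h2
  rw [← fromBlocks_toBlocks g, fromBlocks_multiply, fromBlocks_multiply] at h
  obtain ⟨_, h12, h21, _⟩ := fromBlocks_inj.mp h
  simp only [Matrix.mul_zero, Matrix.mul_one, zero_add, Matrix.neg_mul, Matrix.one_mul, add_zero,
    Matrix.zero_mul, Matrix.mul_neg] at h12 h21
  have h12' : g.toBlocks₁₂ = 0 := by
    ext a b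
    exact key _ (congrFun (congrFun h12 a) b)
  have h21' : g.toBlocks₂₁ = 0 := by
    ext a b
    apply key
    exact (congrFun (congrFun h21 a) b).symm
  conv_lhs => rw [← fromBlocks_toBlocks g, h12', h21']

theorem orderOf_inv₀ [Nonempty l] (h2 : (2 : F) ≠ 0) :
    orderOf (inv₀ : Matrix.GeneralLinearGroup (l ⊕ m) F) = 2 := by
  apply orderOf_eq_prime
  · rw [pow_two]
    apply Units.ext
    rw [Units.val_mul, inv₀_coe, fromBlocks_multiply]
    simp [fromBlocks_one]
  · intro h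
    obtain ⟨i⟩ := (inferInstance : Nonempty l)
    have h1 := congrArg (fun x : Matrix.GeneralLinearGroup (l ⊕ m) F =>
      (x : Matrix (l ⊕ m) (l ⊕ m) F) (Sum.inl i) (Sum.inl i)) h
    simp only [inv₀_coe, fromBlocks_apply₁₁, Matrix.neg_apply, Matrix.one_apply_eq, Units.val_one]
      at h1
    apply h2
    have h4 : (1 : F) + 1 = 0 := by
      nth_rewrite 1 [← h1]
      ring
    rw [← h4]
    norm_num

theorem inv₀_not_mem_center [Nonempty l] [Nonempty m] (h2 : (2 : F) ≠ 0) :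
    (inv₀ : Matrix.GeneralLinearGroup (l ⊕ m) F) ∉
      Subgroup.center (Matrix.GeneralLinearGroup (l ⊕ m) F) := by
  intro h
  obtain ⟨i⟩ := (inferInstance : Nonempty l)
  obtain ⟨j⟩ := (inferInstance : Nonempty m)
  let b : Matrix l m F := fun _ _ => 1
  let u : Matrix.GeneralLinearGroup (l ⊕ m) F :=
    { val := fromBlocks 1 b 0 1
      inv := fromBlocks 1 (-b) 0 1
      val_inv := by rw [fromBlocks_multiply]; simp [fromBlocks_one]
      inv_val := by rw [fromBlocks_multiply]; simp [fromBlocks_one] }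
  have h1 := Subgroup.mem_center_iff.mp h u
  have h3 := blocks_of_commute h2 (congrArg (fun x : Matrix.GeneralLinearGroup (l ⊕ m) F =>
      (x : Matrix (l ⊕ m) (l ⊕ m) F)) h1)
  have h4 : (u : Matrix (l ⊕ m) (l ⊕ m) F) = fromBlocks 1 b 0 1 := rfl
  rw [h4] at h3
  have h5 := (fromBlocks_inj.mp h3).2.1
  have h6 := congrFun (congrFun h5 i) j
  exact one_ne_zero h6

theorem emb_comm (A : Matrix.SpecialLinearGroup m F) :
    (emb A : Matrix.GeneralLinearGroup (l ⊕ m) F) * inv₀ = inv₀ * emb A := by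
  apply Units.ext
  rw [Units.val_mul, Units.val_mul, emb_coe, inv₀_coe, fromBlocks_multiply, fromBlocks_multiply]
  simp

theorem emb_normal (h2 : (2 : F) ≠ 0) (g : Matrix.GeneralLinearGroup (l ⊕ m) F)
    (hg : g * inv₀ = inv₀ * g) (A : Matrix.SpecialLinearGroup m F) :
    ∃ B : Matrix.SpecialLinearGroup m F, g * emb A * g⁻¹ = emb B := by
  have hg' : g⁻¹ * inv₀ = inv₀ * g⁻¹ := by
    rw [inv_mul_eq_iff_eq_mul, ← mul_assoc, hg, mul_inv_cancel_right]
  have h1 := blocks_of_commute h2 (congrArg (fun x : Matrix.GeneralLinearGroup (l ⊕ m) F =>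
      (x : Matrix (l ⊕ m) (l ⊕ m) F)) hg)
  have h3 := blocks_of_commute h2 (congrArg (fun x : Matrix.GeneralLinearGroup (l ⊕ m) F =>
      (x : Matrix (l ⊕ m) (l ⊕ m) F)) hg')
  set a := (g : Matrix (l ⊕ m) (l ⊕ m) F).toBlocks₁₁
  set d := (g : Matrix (l ⊕ m) (l ⊕ m) F).toBlocks₂₂
  set a' := ((g⁻¹ : Matrix.GeneralLinearGroup (l ⊕ m) F) :
    Matrix (l ⊕ m) (l ⊕ m) F).toBlocks₁₁
  set d' := ((g⁻¹ : Matrix.GeneralLinearGroup (l ⊕ m) F) :
    Matrix (l ⊕ m) (l ⊕ m) F).toBlocks₂₂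
  have h4 : (g : Matrix (l ⊕ m) (l ⊕ m) F) * ((g⁻¹ : Matrix.GeneralLinearGroup (l ⊕ m) F) :
      Matrix (l ⊕ m) (l ⊕ m) F) = 1 := by
    rw [← Units.val_mul, mul_inv_cancel, Units.val_one]
  rw [h1, h3, fromBlocks_multiply, ← fromBlocks_one] at h4
  obtain ⟨ha, _, _, hd⟩ := fromBlocks_inj.mp h4
  simp only [add_zero, zero_add, Matrix.mul_zero] at ha hd
  have hdet : (d * (A : Matrix m m F) * d').det = 1 := by
    rw [det_mul, det_mul, A.det_coe, mul_one, ← det_mul, hd, det_one]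
  obtain ⟨B, hB⟩ : ∃ B : Matrix.SpecialLinearGroup m F,
      (B : Matrix m m F) = d * (A : Matrix m m F) * d' := ⟨⟨_, hdet⟩, rfl⟩
  refine ⟨B, ?_⟩
  apply Units.ext
  rw [Units.val_mul, Units.val_mul, emb_coe, emb_coe, h1, h3, fromBlocks_multiply,
    fromBlocks_multiply, hB]
  simp [ha]

end aux

/-- Let F be a finite field of odd order and n ≥ 3 with (n, |F|) ≠ (3, 3). Then GL(n, F) has a non-central involution t such that C(t) / O(C(t)) has a component. -/
theorem result {F : Type*} [Field F] [Fintype F] [DecidableEq F] (hF : Odd (Fintype.card F)) (n : ℕ) (hn : 3 ≤ n) (h33 : ¬ (n = 3 ∧ Fintype.card F = 3)) : ∃ t : Matrix.GeneralLinearGroup (Fin n) F, orderOf t = 2 ∧ t ∉ Subgroup.center (Matrix.GeneralLinearGroup (Fin n) F) ∧ Cfsg.HasComponent (↥(Subgroup.centralizer ({t} : Set (Matrix.GeneralLinearGroup (Fin n) F))) ⧸ Cfsg.oddCore ↥(Subgroup.centralizer ({t} : Set (Matrix.GeneralLinearGroup (Fin n) F)))) := by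
  have h2 : (2 : F) ≠ 0 :=
    Cfsg.Agent.SignalizersComponents.SLQuasisimple.two_ne_zero_of_odd hF
  obtain ⟨m, rfl⟩ : ∃ m, n = 1 + m := ⟨n - 1, by omega⟩
  have hm : Nontrivial (Fin m) := Fin.nontrivial_iff_two_le.mpr (by omega)
  have hX : IsQuasisimple (Matrix.SpecialLinearGroup (Fin m) F) := by
    by_cases h3 : 3 ≤ m
    · exact Cfsg.Agent.SignalizersComponents.SLQuasisimple.isQuasisimple_of_three_le
        (by rw [Fintype.card_fin]; exact h3)
    · have hm2 : m = 2 := by omega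
      subst hm2
      apply Cfsg.Agent.SignalizersComponents.SLQuasisimple.isQuasisimple_two
      rw [Nat.card_eq_fintype_card]
      have h1 : 1 < Fintype.card F := Fintype.one_lt_card
      have h3 : Fintype.card F ≠ 3 := fun h => h33 ⟨rfl, h⟩
      obtain ⟨k, hk⟩ := hF
      omega
  have heven := Cfsg.Agent.SignalizersComponents.SLQuasisimple.even_card (ι := Fin m) h2
  let Φ : Matrix.GeneralLinearGroup (Fin 1 ⊕ Fin m) F ≃* Matrix.GeneralLinearGroup (Fin (1 + m)) F :=
    Units.mapEquiv (Matrix.reindexAlgEquiv F F finSumFinEquiv).toMulEquiv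
  have : Nonempty (Fin m) := inferInstance
  refine ⟨Φ inv₀, ?_, ?_, ?_⟩
  · rw [MulEquiv.orderOf_eq, orderOf_inv₀ h2]
  · intro h
    apply inv₀_not_mem_center (l := Fin 1) (m := Fin m) h2
    rw [Subgroup.mem_center_iff] at h ⊢
    intro g
    apply Φ.injective
    rw [map_mul, map_mul]
    exact h (Φ g)
  · refine Cfsg.Agent.SignalizersComponents.QuasisimpleQuotient.hasComponent_centralizer_quotient_core
      hX heven (Φ inv₀) (Φ.toMonoidHom.comp emb) (Φ.injective.comp emb_injective) ?_ ?_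
    · intro A
      change Φ (emb A) * Φ inv₀ = Φ inv₀ * Φ (emb A)
      rw [← map_mul, emb_comm, map_mul]
    · intro g hg A
      obtain ⟨g, rfl⟩ := Φ.surjective g
      rw [← map_mul, ← map_mul] at hg
      obtain ⟨B, hB⟩ := emb_normal h2 g (Φ.injective hg) A
      refine ⟨B, ?_⟩
      change Φ g * Φ (emb A) * (Φ g)⁻¹ = Φ (emb B)
      rw [← map_inv, ← map_mul, ← map_mul, hB]

end Cfsg.Agent.S1340
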