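import Mathlib
import Cfsg.Agent.Icosian.Count
import Cfsg.Statements.S1622
set_option linter.all false

-- part: Icosian/Perms
section
/-!
Four explicit permutations of `Fin 315` (the action of four generating reflections of `2·J₂` on the
315 lines), and the transitivity of the group they generate.  This file does not use the
quaternionic model.  Tables are packed into natural numbers (9 bits per entry).
-/

set_option autoImplicit false

namespace Cfsg.Agent.Icosian.Perms

/-- the four tables, packed -/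
def tabN : Fin 4 → ℕ
  | 0 => 0x4aa532893c9a4b2491c8a43208fc7a3b1c8dcea73389bcda6b3499cca633097cba5b2c95be9f2f87bbd9eaf479bc9e2f077bb9daec75ba9d2e873b99cae471b89c2e06fb79badc6dc6a33188bc5a2b1489c4a231087c3a1b0c85c2a130883c1a0b0481c0a03007fbf9fafc7db69b2d86bb59aad469aa14ea3522a554a652abd60ac55ac962ad572e566b75aae16cba5a2f184be602f57ebb60b198ac96530d88c863b359cd268b3196cf6826d389d4f27d40a151168b2582b958aa5429948a250279389a4c259289248239188a442190882401f8f87a3c1d8e872381b8d86a34198c86230178b85a2c158a85228138984a241188842200f8783a1c0da6932984ba592a9449a49229047a391a8c45a29128843a190a8441a0902803f9f8fa7c3d9e8f2783b9d8ea74399c8e270379b8da6c359a8d26833998ca6431988c2602f978ba5c2d86828150b05c3019098281208038180a04018482210078381a0c058080001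
  | 1 => 0x46a33188bc5a2b1489c4a231087c3a1b0c85c2a130883c1a0b0481c0a03007fbf9fafc7dcea73389bcda6b3499cca633097cba5b2c95caa532893c9a4b2491c8a43208fc7a3b1c8dba9d2e873b99cae471b89c2e06fb79badc6dbe9f2f87bbd9eaf479bc9e2f077bb9daec75a6932984ba592a9449a49229047a391a8c45a29128843a190a8441a0902803f9f8fa7c3d9e8f2783b9d8ea74399c8e270379b8da6c359a8d26833998ca6431988c2602f978ba5c2db69b2d86bb59aad469b49a2d067b399acc65b2992c863b198ac461b0982c05faf97abc5dae972b85bad96ab459ac962b057ab95aac55aa952a853a994aa451a8942a04fa793a9c4d968b2582b958aa54298a04e23120a45426128bc602c158c8622d170e466371a8e06c3a1a0f0843e200f47e3b209188a492510c8848239349c5228930964f2806c381d0f07c4021110482210078381a0c0586832180b8582a140982808050301c1009018040400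
  | 2 => 0x4ae592d974be6131994ce69359b4de71399d4a65527944964d2392486451f904763d1b8e42e190d8743e21118944e29158b45e31198d4261507844160d038240604ff803f5fcfb7e3b1d6ee76bc1def278bd1e6f67abe1eefa7cb71b6de6eb81bee270b91c6e672ba1ceea74a8942a04fa793a9c4daa952a853a994aa451ac962b057ab95aac55ae972b85bad96ab459b0982c05faf97abc5db2992c863b198ac461b49a2d067b399acc65b69b2d86bb59aad469988c2602f978ba5c2d9a8d26833998ca64319c8e270379b8da6c359e8f2783b9d8ea7439a0902803f9f8fa7c3da29128843a190a8441a49229047a391a8c45a6932984ba592a944994ca8552b15cb0592d12c984d2713ca0512910c88452311c9049250ec783d1f0fc8041210cc68351b0dc70391d0ac582d170bc60311908c48251309c50291506c381d0f07c40211104c28150b05c30190d02c180d0703c2011090281208038180a04018080200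
  | 3 => 0x4672a02414ccc3b3526c6c9f100b8cb0f09ba1eaec71af0e2a94a3c9b6ed7331102a132238b44249458348d17915b00c9634c6e1d6bab0f28c6cba5e8f7702d1125c68bbdbcfa70bf0f86c8224653054cc8948d47f3064128649860d2a34c7d72b1939d1f703423f538cc908fa0f118596060f0870b1fe6f6786468dc3f879d67515a8c1b1e6003ddcc31aaa0af2645055ca821e254430259965c8b0222682d0a3692a48be2f04880f1630ea3938980888edd992b9e63d05a596d2321c5dec2d2ac6a29081faee021c2e904f4df0c2e23a10658c8faf90fa1612173112590e22a1ca4a56680e156f8074cdce460dcd65b1b199ddd4390a29d0f0018c6564d65e9c11e739b0140406018280e01042a8ed374e9a224af49c610ca545b6930b79a288c06e86cc57ecd319f8b6d589cb920d26388c52251309c5024152796b2f3db2a188833c559c833c2b5745f95a9a7480611ad8b104b938004b26940a404279449809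

/-- value of table `k` at `i` -/
def tv (k : Fin 4) (i : ℕ) : ℕ := Nat.land (Nat.shiftRight (tabN k) (Nat.mul 9 i)) 511

/-- bounded check -/
def allB : ℕ → (ℕ → Bool) → Bool
  | 0, _ => true
  | n + 1, p => p n && allB n p

theorem allB_spec {n : ℕ} {p : ℕ → Bool} (h : allB n p = true) :
    ∀ i, i < n → p i = true := by
  induction n with
  | zero => intro i hi; omega
  | succ n ih =>
    rw [allB, Bool.and_eq_true] at h
    intro i hi
    rcases Nat.lt_succ_iff_lt_or_eq.mp hi with h' | h'
    · exact ih h.2 i h'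
    · rw [h']; exact h.1

theorem tab_chk : ∀ k : Fin 4, allB 315 (fun i => Nat.blt (tv k i) 315 &&
    Nat.beq (tv k (tv k i)) i) = true := by decide +kernel

theorem tv_lt (k : Fin 4) {i : ℕ} (hi : i < 315) : tv k i < 315 := by
  have := allB_spec (tab_chk k) i hi
  rw [Bool.and_eq_true, Nat.blt_eq] at this
  exact this.1

theorem tv_tv (k : Fin 4) {i : ℕ} (hi : i < 315) : tv k (tv k i) = i := by
  have := allB_spec (tab_chk k) i hi
  rw [Bool.and_eq_true] at this
  exact Nat.eq_of_beq_eq_true this.2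

/-- the four generating permutations (involutions) of the 315 lines -/
def sg (k : Fin 4) : Equiv.Perm (Fin 315) where
  toFun i := ⟨tv k i, tv_lt k i.2⟩
  invFun i := ⟨tv k i, tv_lt k i.2⟩
  left_inv i := Fin.ext (tv_tv k i.2)
  right_inv i := Fin.ext (tv_tv k i.2)

theorem sg_val (k : Fin 4) (i : Fin 315) : ((sg k i : Fin 315) : ℕ) = tv k i := rfl

theorem sg_sq (k : Fin 4) : sg k * sg k = 1 := by
  ext i
  exact tv_tv k i.2

theorem sg_inv (k : Fin 4) : (sg k)⁻¹ = sg k := rfl

/-- the group generated by the four permutations (isomorphic to the Hall–Janko group) -/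
def G315 : Subgroup (Equiv.Perm (Fin 315)) := Subgroup.closure (Set.range sg)

theorem sg_mem (k : Fin 4) : sg k ∈ G315 := Subgroup.subset_closure ⟨k, rfl⟩

/-- depth in the Schreier tree with root `0`, 4 bits per entry -/
def depN : ℕ := 0x366775789858877445567667986788654778658897478875564577779876776657675687965777666756678797676757a686896995b64a4a877aa97b98baa88898aa99999889a86aa5a6595b977678789796887894b6593b988aaa8a98bab987a7b9a898a79aa97b95b5484a8785798788878788a3b66a2aa989a99989aaba98a8a99999b8a99a8aa6a4395b7896789663ba9a4562baaa3671bbbb27210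
/-- generator used at each node of the Schreier tree, 2 bits per entry -/
def genN : ℕ := 0x301c352889a3ac56d40a23889b85e2cc4973acad20d4e52b2fe7b7353c824c2f4f7e3633e0068f4264a1b3ac19f308a7edde9f07b90ecdfb322cce4363e4f17c32f12ff44250131cf73cf2de4fcdd0
/-- depth of node `i` -/
def dep (i : ℕ) : ℕ := Nat.land (Nat.shiftRight depN (Nat.mul 4 i)) 15
/-- generator at node `i` -/
def gen (i : ℕ) : Fin 4 := ⟨Nat.mod (Nat.shiftRight genN (Nat.mul 2 i)) 4, Nat.mod_lt _ (by norm_num)⟩

theorem tree_chk : allB 315 (fun i => Nat.beq i 0 ||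
    Nat.blt (dep (tv (gen i) i)) (dep i)) = true := by
  decide +kernel

/-- every point can be moved to `0` by the group generated by the four permutations -/
theorem to_zero (i : Fin 315) : ∃ g ∈ G315, g i = 0 := by
  have key : ∀ n : ℕ, ∀ i : Fin 315, dep i ≤ n → ∃ g ∈ G315, g i = 0 := by
    intro n
    induction n with
    | zero =>
      intro i hi
      have h := allB_spec tree_chk i i.2
      rw [Bool.or_eq_true, Nat.blt_eq] at h
      rcases h with h | h
      · exact ⟨1, G315.one_mem, Fin.ext (Nat.eq_of_beq_eq_true h)⟩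
      · omega
    | succ n ih =>
      intro i hi
      have h := allB_spec tree_chk i i.2
      rw [Bool.or_eq_true, Nat.blt_eq] at h
      rcases h with h | h
      · exact ⟨1, G315.one_mem, Fin.ext (Nat.eq_of_beq_eq_true h)⟩
      · obtain ⟨g, hg, hg'⟩ := ih (sg (gen i) i) (by
          rw [sg_val]; omega)
        exact ⟨g * sg (gen i), G315.mul_mem hg (sg_mem _), hg'⟩
  exact key _ i le_rfl

theorem transitive (i j : Fin 315) : ∃ g ∈ G315, g i = j := by
  obtain ⟨g, hg, hg'⟩ := to_zero i
  obtain ⟨h, hh, hh'⟩ := to_zero j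
  refine ⟨h⁻¹ * g, G315.mul_mem (G315.inv_mem hh) hg, ?_⟩
  rw [Equiv.Perm.mul_apply, hg', ← hh']
  exact h.symm_apply_apply j

end Cfsg.Agent.Icosian.Perms
end

-- part: Icosian/Action
section
/-!
The action of `2·J₂` on the 315 reflections (lines), as a homomorphism to `Perm (Fin 315)` with
kernel the centre and image the explicit permutation group `G315`.
-/

set_option autoImplicit false

open Quaternion
open Cfsg.Spor
open Cfsg.Agent.Icosian.Basic
open Cfsg.Agent.Icosian.Lattice
open Cfsg.Agent.Icosian.Model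
open Cfsg.Agent.Icosian.Data
open Cfsg.Agent.Icosian.Tables
open Cfsg.Agent.Icosian.Lines
open Cfsg.Agent.Icosian.Count
open Cfsg.Agent.Icosian.Perms

namespace Cfsg.Agent.Icosian.Action

/-- conjugation permutes the 315 reflections -/
theorem exists_conj {g : Equiv.Perm icoLeech} (hg : IsLin g) (i : Fin 315) :
    ∃ j, g * fl i * g⁻¹ = fl j := by
  obtain ⟨hr, h⟩ := conj_reflPerm hg (repL i) (repL_qip i)
  obtain ⟨j, hj⟩ := exists_fl _ hr
  exact ⟨j, h.trans hj⟩

/-- the line to which `g` moves line `i` -/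
noncomputable def act (g : twoJ2) (i : Fin 315) : Fin 315 :=
  Classical.choose (exists_conj (isLin_of_mem g.2) i)

theorem act_spec (g : twoJ2) (i : Fin 315) :
    (g : Equiv.Perm icoLeech) * fl i * (g : Equiv.Perm icoLeech)⁻¹ = fl (act g i) :=
  Classical.choose_spec (exists_conj (isLin_of_mem g.2) i)

theorem act_eq {g : twoJ2} {i j : Fin 315}
    (h : (g : Equiv.Perm icoLeech) * fl i * (g : Equiv.Perm icoLeech)⁻¹ = fl j) :
    act g i = j := fl_injective (by rw [← act_spec, h])

/-- the action of `2·J₂` on the 315 lines -/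
@[reducible] noncomputable def lineAction : MulAction twoJ2 (Fin 315) where
  smul := act
  one_smul i := act_eq (by simp)
  mul_smul g h i := act_eq (by
    change _ = fl (act g (act h i))
    rw [← act_spec g, ← act_spec h]
    simp only [Subgroup.coe_mul, mul_inv_rev]
    group)

/-- the action of `2·J₂` on the 315 lines, as a homomorphism -/
noncomputable def phi : twoJ2 →* Equiv.Perm (Fin 315) :=
  @MulAction.toPermHom twoJ2 (Fin 315) _ lineAction

theorem phi_apply (g : twoJ2) (i : Fin 315) : phi g i = act g i := rfl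

theorem phi_spec (g : twoJ2) (i : Fin 315) :
    (g : Equiv.Perm icoLeech) * fl i * (g : Equiv.Perm icoLeech)⁻¹ = fl (phi g i) := act_spec g i

theorem phi_eq {g : twoJ2} {i j : Fin 315}
    (h : (g : Equiv.Perm icoLeech) * fl i * (g : Equiv.Perm icoLeech)⁻¹ = fl j) :
    phi g i = j := act_eq h

/-- how to compute `phi`: it is enough to know the image of a representative up to a unit -/
theorem phi_eq_of_smul {g : twoJ2} {i j : Fin 315} {q : ℍ[ℝ]} (hq : star q * q = 1)
    (h : (((g : Equiv.Perm icoLeech) (repL i) : icoLeech) : Fin 3 → ℍ[ℝ]) = q • toV (rep j)) :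
    phi g i = j := by
  apply phi_eq
  obtain ⟨hr, h'⟩ := conj_reflPerm (isLin_of_mem g.2) (repL i) (repL_qip i)
  rw [show fl i = reflPerm (repL i) (repL_qip i) from rfl, h']
  exact reflPerm_eq_of_smul hq (repL_qip j) hr h

/-- conversely -/
theorem smul_of_phi (g : twoJ2) (i : Fin 315) : ∃ q : ℍ[ℝ], star q * q = 1 ∧
    (((g : Equiv.Perm icoLeech) (repL i) : icoLeech) : Fin 3 → ℍ[ℝ]) = q • toV (rep (phi g i)) := by
  obtain ⟨hr, h'⟩ := conj_reflPerm (isLin_of_mem g.2) (repL i) (repL_qip i)
  have h1 : fl (phi g i) = reflPerm ((g : Equiv.Perm icoLeech) (repL i)) hr := by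
    rw [← phi_spec, ← h']; rfl
  exact smul_of_reflPerm_eq (repL_qip (phi g i)) hr h1.symm

theorem phi_fl_self (i : Fin 315) : phi ⟨fl i, fl_mem i⟩ i = i := by
  apply phi_eq
  change fl i * fl i * (fl i)⁻¹ = fl i
  group

/-- indices of the generating reflections -/
def gi (k : Fin 4) : Fin 315 := ⟨gidx k, gidx_lt k⟩

theorem tabs_eq : ∀ k : Fin 4, (match k with
    | 0 => tabP0
    | 1 => tabP1
    | 2 => tabP2
    | 3 => tabP3) = (List.range 315).map (tv k) := by decide +kernel

theorem tabP_eq (k : Fin 4) {i : ℕ} (hi : i < 315) : tabP k i = tv k i := by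
  have h := tabs_eq k
  have h2 : ((List.range 315).map (tv k)).getD i 0 = tv k i := by
    rw [List.getD_eq_getElem _ _ (by simpa using hi)]
    simp
  rw [← h2, ← h]
  fin_cases k <;> rfl

/-- the four generating reflections act by the explicit permutations `sg` -/
theorem phi_gen (k : Fin 4) : phi ⟨fl (gi k), fl_mem _⟩ = sg k := by
  ext i
  have h := (tab_spec k i.2).2.2
  have hu := (tab_spec k i.2).2.1
  have h1 := (tab_spec k i.2).1
  rw [tabP_eq k i.2] at h h1
  have : phi ⟨fl (gi k), fl_mem _⟩ i = sg k i := by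
    apply phi_eq_of_smul (q := toH (unitQ (tabU k i)))
    · rw [Quaternion.star_mul_self, unit_norm hu]; rfl
    · exact h
  rw [this]

/-- the subgroup generated by the four reflections -/
noncomputable def H4 : Subgroup (Equiv.Perm icoLeech) :=
  Subgroup.closure (Set.range fun k : Fin 4 => fl (gi k))

theorem H4_le : H4 ≤ twoJ2 := by
  unfold H4
  rw [Subgroup.closure_le]
  rintro _ ⟨k, rfl⟩
  exact fl_mem _

/-- every element of `G315` is induced by an element of `H4` -/
theorem lift_H4 {p : Equiv.Perm (Fin 315)} (hp : p ∈ G315) :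
    ∃ g : twoJ2, (g : Equiv.Perm icoLeech) ∈ H4 ∧ phi g = p := by
  unfold G315 at hp
  induction hp using Subgroup.closure_induction with
  | mem p hp =>
    obtain ⟨k, rfl⟩ := hp
    exact ⟨⟨fl (gi k), fl_mem _⟩, Subgroup.subset_closure ⟨k, rfl⟩, phi_gen k⟩
  | one => exact ⟨1, H4.one_mem, map_one phi⟩
  | mul p q _ _ hp hq =>
    obtain ⟨g, hg, rfl⟩ := hp
    obtain ⟨h, hh, rfl⟩ := hq
    exact ⟨g * h, H4.mul_mem hg hh, map_mul phi g h⟩
  | inv p _ hp =>
    obtain ⟨g, hg, rfl⟩ := hp
    exact ⟨g⁻¹, H4.inv_mem hg, map_inv phi g⟩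

theorem fl_mem_H4 (i : Fin 315) : fl i ∈ H4 := by
  obtain ⟨p, hp, hpi⟩ := Perms.transitive (gi 2) i
  obtain ⟨g, hg, rfl⟩ := lift_H4 hp
  rw [← hpi, ← phi_spec]
  exact H4.mul_mem (H4.mul_mem hg (Subgroup.subset_closure ⟨2, rfl⟩)) (H4.inv_mem hg)

/-- `2·J₂` is generated by four reflections -/
theorem twoJ2_eq : twoJ2 = H4 := by
  apply le_antisymm _ H4_le
  unfold twoJ2
  rw [Subgroup.closure_le]
  intro f hf
  obtain ⟨i, rfl⟩ := (isRefl_iff f).mp hf
  exact fl_mem_H4 i

theorem range_phi : phi.range = G315 := by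
  apply le_antisymm
  · rintro _ ⟨g, rfl⟩
    have key : ∀ x : Equiv.Perm icoLeech, x ∈ H4 → ∀ hx : x ∈ twoJ2, phi ⟨x, hx⟩ ∈ G315 := by
      intro x hx
      unfold H4 at hx
      induction hx using Subgroup.closure_induction with
      | mem x hx =>
        obtain ⟨k, rfl⟩ := hx
        intro hx
        have := phi_gen k
        rw [this]
        exact sg_mem k
      | one => intro hx; exact (map_one phi) ▸ G315.one_mem
      | mul x y hx' hy' hx hy =>
        intro hxy
        have h1 : x ∈ twoJ2 := H4_le hx'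
        have h2 : y ∈ twoJ2 := H4_le hy'
        have : phi ⟨x * y, hxy⟩ = phi ⟨x, h1⟩ * phi ⟨y, h2⟩ := by
          rw [← map_mul]; rfl
        rw [this]
        exact G315.mul_mem (hx h1) (hy h2)
      | inv x hx' hx =>
        intro hxi
        have h1 : x ∈ twoJ2 := H4_le hx'
        have : phi ⟨x⁻¹, hxi⟩ = (phi ⟨x, h1⟩)⁻¹ := by
          rw [← map_inv]; rfl
        rw [this]
        exact G315.inv_mem (hx h1)
    have hg : (g : Equiv.Perm icoLeech) ∈ H4 := by rw [← twoJ2_eq]; exact g.2
    exact key _ hg g.2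
  · intro p hp
    obtain ⟨g, -, rfl⟩ := lift_H4 hp
    exact ⟨g, rfl⟩

/-- the kernel of the action on lines is the centre -/
theorem ker_phi : phi.ker = Subgroup.center twoJ2 := by
  ext g
  rw [MonoidHom.mem_ker, Subgroup.mem_center_iff]
  constructor
  · intro h x
    have hcomm : ∀ y : Equiv.Perm icoLeech, y ∈ twoJ2 →
        y * (g : Equiv.Perm icoLeech) = (g : Equiv.Perm icoLeech) * y := by
      intro y hy
      unfold twoJ2 at hy
      induction hy using Subgroup.closure_induction with
      | mem f hf =>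
        obtain ⟨i, rfl⟩ := (isRefl_iff f).mp hf
        have h1 := phi_spec g i
        rw [h] at h1
        change (g : Equiv.Perm icoLeech) * fl i * (g : Equiv.Perm icoLeech)⁻¹ = fl i at h1
        rw [mul_inv_eq_iff_eq_mul] at h1
        exact h1.symm
      | one => rw [one_mul, mul_one]
      | mul x y _ _ hx hy => rw [mul_assoc, hy, ← mul_assoc, hx, mul_assoc]
      | inv x _ hx => rw [inv_mul_eq_iff_eq_mul, ← mul_assoc, hx, mul_inv_cancel_right]
    exact Subtype.ext (hcomm x x.2)
  · intro h
    ext i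
    have : phi g i = i := by
      apply phi_eq
      have h1 := congrArg Subtype.val (h ⟨fl i, fl_mem i⟩)
      simp only [Subgroup.coe_mul] at h1
      rw [mul_inv_eq_iff_eq_mul]
      exact h1.symm
    rw [this]; rfl

/-- `J₂` is isomorphic to the explicit permutation group `G315` -/
noncomputable def J2_equiv : J2 ≃* G315 :=
  (QuotientGroup.quotientMulEquivOfEq ker_phi.symm).trans
    ((QuotientGroup.quotientKerEquivRange phi).trans (MulEquiv.subgroupCongr range_phi))

theorem J2_equiv_mk (g : twoJ2) :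
    ((J2_equiv (QuotientGroup.mk g) : G315) : Equiv.Perm (Fin 315)) = phi g := rfl

/-- transitivity on the 315 reflections by conjugation -/
theorem refl_transitive (i j : Fin 315) : ∃ g : twoJ2, phi g i = j := by
  obtain ⟨p, hp, hpi⟩ := Perms.transitive i j
  obtain ⟨g, hg, rfl⟩ := lift_H4 hp
  exact ⟨g, hpi⟩

end Cfsg.Agent.Icosian.Action
end

-- part: S1622
section
set_option autoImplicit false
open Quaternion
open Cfsg

namespace Cfsg.Agent.S1622

/-- The reflection group is transitive on its 315 reflections by conjugation. -/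
theorem result (f f' : Equiv.Perm ↥Cfsg.Spor.icoLeech) (hf : Cfsg.Spor.IsIcoReflection f) (hf' : Cfsg.Spor.IsIcoReflection f') : ∃ g ∈ Cfsg.Spor.twoJ2, g * f * g⁻¹ = f' := by
  obtain ⟨i, rfl⟩ := (Cfsg.Agent.Icosian.Count.isRefl_iff f).mp hf
  obtain ⟨j, rfl⟩ := (Cfsg.Agent.Icosian.Count.isRefl_iff f').mp hf'
  obtain ⟨g, rfl⟩ := Cfsg.Agent.Icosian.Action.refl_transitive i j
  exact ⟨g, g.2, Cfsg.Agent.Icosian.Action.phi_spec g i⟩

end Cfsg.Agent.S1622
end
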