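import Cfsg.Statements.S1628
import Cfsg.Agent.Ru900.Short
set_option linter.all false

set_option autoImplicit false
open Cfsg

namespace Cfsg.Agent.S1628

/-- The Conway–Wales lattice as stored is even with no vectors of true norm 2: stored norms are multiples of 8, never equal to 8, and the minimum over nonzero vectors is 16. -/
theorem result : (∀ x ∈ Cfsg.Spor.ruLattice, (8 : ℤ) ∣ Cfsg.Spor.ruNorm x) ∧ (∀ x ∈ Cfsg.Spor.ruLattice, Cfsg.Spor.ruNorm x ≠ 8) ∧ (∀ x ∈ Cfsg.Spor.ruLattice, x ≠ 0 → 16 ≤ Cfsg.Spor.ruNorm x) ∧ ∃ x ∈ Cfsg.Spor.ruLattice, Cfsg.Spor.ruNorm x = 16 := by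
  rw [Cfsg.Agent.Ru900.Eq.ruLattice_eq]
  refine ⟨fun x hx => Cfsg.Agent.Ru900.Eq.norm_dvd hx, fun x hx h8 => ?_,
    fun x hx h0 => Cfsg.Agent.Ru900.Short.norm_ge_16 hx h0, ?_⟩
  · have h0 : x ≠ 0 := by
      rintro rfl
      rw [Cfsg.Agent.Ru900.Coord.ruNorm_eq_rip, Cfsg.Agent.Ru900.Coord.rip_zero_left] at h8
      exact absurd h8 (by norm_num)
    have := Cfsg.Agent.Ru900.Short.norm_ge_16 hx h0
    rw [h8] at this
    exact absurd this (by norm_num)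
  · refine ⟨Cfsg.Agent.Ru900.Lat.Bv 0, Cfsg.Agent.Ru900.Eq.B_mem_M 0 (by norm_num), ?_⟩
    decide +kernel

end Cfsg.Agent.S1628
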