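import Cfsg.Statements.S1744
import Cfsg.Agent.ClassificationK.GTwoReduce
import Cfsg.Agent.ClassificationK.GTwoModelConf_m3
import Cfsg.Agent.ClassificationK.GTwoSylow
import Cfsg.Agent.S1059
import Cfsg.Agent.ProdFusion.FunctorComplete_m3
import Cfsg.Agent.S0483
import Cfsg.Agent.Prune
set_option linter.all false
open scoped Cfsg.Agent.FastGrp

set_option autoImplicit false
open Cfsg

namespace Cfsg.Agent.S1744

/-- Let G be a finite simple group whose Sylow 2-subgroups are isomorphic to a Sylow 2-subgroup of the Chevalley group of type G₂ over a finite field of odd order, in which all involutions are conjugate. Let S be a Sylow 2-subgroup, t an involution in the centre of S, C its centralizer and Q the quotient of C by its largest normal subgroup of odd order. Then Q has normal subgroups L₁ and L₂, isomorphic to special linear groups of dimension 2 over fields of odd orders, which commute elementwise and whose product is the commutator subgroup of Q. -/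
theorem result {G : Type*} [Group G] [Finite G] [IsSimpleGroup G]
    {F : Type*} [Field F] [Fintype F] (hF : Odd (Fintype.card F)) (S : Sylow 2 G) (P : Sylow 2 ↥(Cfsg.Lie.chevG2.group F))
    (hS : Nonempty (↥(S : Subgroup G) ≃* ↥(P : Subgroup ↥(Cfsg.Lie.chevG2.group F))))
    (h1 : ∀ x y : G, orderOf x = 2 → orderOf y = 2 → IsConj x y) (t : G) (ht : orderOf t = 2) (htS : t ∈ (S : Subgroup G))
    (htZ : ∀ s ∈ (S : Subgroup G), s * t = t * s) :
    ∃ L₁ L₂ : Subgroup (↥(Subgroup.centralizer ({t} : Set G)) ⧸ Cfsg.oddCore ↥(Subgroup.centralizer ({t} : Set G))),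
      L₁.Normal ∧ L₂.Normal ∧
      (∃ (F₁ : Type) (_ : Field F₁) (_ : Fintype F₁), Odd (Fintype.card F₁) ∧ Nonempty (↥L₁ ≃* Matrix.SpecialLinearGroup (Fin 2) F₁)) ∧
      (∃ (F₂ : Type) (_ : Field F₂) (_ : Fintype F₂), Odd (Fintype.card F₂) ∧ Nonempty (↥L₂ ≃* Matrix.SpecialLinearGroup (Fin 2) F₂)) ∧
      ⁅L₁, L₂⁆ = ⊥ ∧ L₁ ⊔ L₂ = commutator _ := by
  obtain ⟨e⟩ := hS
  obtain ⟨k, hk, ⟨e'⟩⟩ := Cfsg.Agent.ClassificationK.GTwoSylow.exists_equiv hF
    (Cfsg.Agent.S1059.result (F := F) rfl) P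
  have : NeZero (2 ^ k) := ⟨by positivity⟩
  have hl : 2 ∣ 2 ^ k := dvd_pow_self 2 (by omega)
  obtain ⟨SX, f, hO, hf, hr, hz, hc1, hc2, hinv⟩ :=
    Cfsg.Agent.ClassificationK.GTwoReduce.reduce hl S (e'.trans e.symm) h1 t ht htS htZ
  have hconf := Cfsg.Agent.ClassificationK.GTwoModelConf.conf k hk hO SX f hf hr hz hc1 hc2 hinv
  exact Cfsg.Agent.ClassificationK.GTwoMain.main
    (fun G _ _ hO P S₁ S₂ _ hdisj hs₁ hs₂ => by
      rw [eq_bot_iff, ← hO]
      exact Cfsg.Agent.TwoFusion.ClosedCommutator.commutator_le P S₁ S₂ hdisj hs₁ hs₂)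
    (fun X _ _ _ S n hn hS => Cfsg.Agent.S0483.result S n hn hS) hconf

end Cfsg.Agent.S1744
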