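import Mathlib
import Cfsg.Agent.Lib.TwoClassEnd_m3
import Cfsg.Agent.S0215
import Cfsg.Agent.Transfer.ThompsonTransfer
import Cfsg.Agent.TwoFusion.StronglyEmbeddedBasic
import Cfsg.Agent.ClassificationK.SymplHS
import Cfsg.Agent.Lib.ThompsonPQ
import Cfsg.Agent.Lib.KleinGen
import Cfsg.Agent.HSU.Final_mg
import Cfsg.Agent.LeechPack.X100
import Cfsg.Agent.McLType.Chain
import Cfsg.Agent.Lib.NormalAbelian
import Cfsg.Statements.S1777
import Cfsg.Agent.S0205
import Cfsg.Agent.S0217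
import Cfsg.Agent.LeechMat.Quick
import Cfsg.Agent.FastGrp
import Cfsg.Agent.Prune
set_option linter.all false

section
prune_inst 0x7ffcfef9afb8bddfffff7e7ffffddffe39d4dfffffdffb4bffedfbffffff23673be5fbaf9de4d8ffdef7e29630b87853fd7eca3fef6bdd7ffffd5ff45ffbee1ff7ffbf8d51d6b8341ffe6ffffbf37fbfffffffffffffffffffffffffffffffffffffffffffff

-- part: HSType/Spec_mg
section
prune_inst 0x100000400000000000000000001c0292000000000b00000000000004880c0000000620802000000002000400300028125c00000000000000000000011c0080000200021000a000000000000000000000000000000000000000000000000000000000000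
set_option linter.all false
open scoped Cfsg.Agent.FastGrp

-- part: HSType/Model
section
/-!
# A 512-element model of a Sylow 2-subgroup of the Higman–Sims group

`SM` is the semidirect product of `(Z/4)^3` (codes `0..63`, `x₁ + 4 x₂ + 16 x₃`) by the dihedral group
of order 8 (codes `64 * d`, `d = i + 4 j` for `r^i s^j`), with
`r b₁ r⁻¹ = b₂⁻¹, r b₂ r⁻¹ = b₁, r b₃ r⁻¹ = b₃ b₁⁻¹, s b₁ s = b₂, s b₃ s = b₃⁻¹`.
All functions are written with raw `Nat` operations so that the kernel evaluates them quickly.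
-/

set_option autoImplicit false

namespace Cfsg.Agent.HSType.Model

def actTab : Nat := nat_lit 0x4524d075e7dc65a6d85565d49669e48628e0b6ebeca6aae8e7aef8d76df4c72cf0f7effc34e3cc24a2c81461c40420c061c41465d45569e4966df4d7be39ebb20928b61969ba29aacb6ebecf7effc34e3cc75e7d14934118a3821cb3c310830059551769961b79d71f4914139649e6a68aeab6cbee8608e2d37db5e3beb9f3ffbdc33cb11c61442ca2483ce34c0c20407db5d379a592759551718510beb9e3baa9a2b69961b28920ffbdf3fbadb2f79d71f38d303cb1c338a182349141308100e75c7deb6cbeef7cffe34c3c961b699a2baa9e3beb920b2845d65549e6964df6d741c61434914138a1823cb1c3308100cb3c31db7d35ebbe39fbff3dbecb6e8e08629e4966ae8a6a61969b71d79f4114935155971461c424a2c834e3cc0420c0d38f30dfbff3dbafb2d79f71969b61928b209ebbe39aaba259a7925597515187105db7d31cb3c318a382149341108300ffef7cefae78df6d74cf2c70beeb6caeaa689e69648e28607de75c6da6585d65544d24503ce34c2ca2481c61440c2040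
def dTab : Nat := nat_lit 0x5397760af2e4c1de5298bbcd67443b3e21a9f50d1fac688
def invTab : Nat := nat_lit 0xf9fcbe3f0fbfdbebf4fdfebf3f8ffffbfbfcf7fbbdbecf1f8bc3e0f3f9bcbe4f5fabd3e8edf6bb3d8eff7bbbdce9f4ba3d0ebf5babd4e3f1b8bc4e5f2b93c8e7f3b9bcce1f0b83c0dc6d361bcddedf67bfdd6db65bedced763bdd2e875ba9d268359a8d3e8f5fabd368b5daac967b3596c8e773395c86733194c9e7f3797c7e2f0f83c762b0d82c6e270b81c66230980bf5fef97dbd5eef179bb5dee975b95cee171b7db2db6eb5da2d36ab3d92cb66b1d82c362ae576bd5fac566b55baa556ad57a8546a553a6d3a9f4ca4d2a9748a2d1a8f44a0d0a87409ace67b319b4ea7d329bcee7f339a4e2793092ca65b21934aa5d2293cae5f23924a259208ac663b118b46a3d128bc6e3f138a462391082c261b018342a1d0283c2e1f038242219002e160a8502e964aa512f168ac522f96cae53379acce63361a0c860369a4ca61371a8cc623f1e8ec723f9ecee733e1e0e8703e9e4ea71269248a41271288c422792c8e432612088404924520934f275389f4d265309b4b255289752a914ea650a8146a256ab15eae54aa156aa5c2ed74b95a2dd6cb5582cd64b15e2fd7cbd47a391a8c45a29128843a190a8441a0902806db7da6d76d379a4d66cb75a2d56c371a0d477b8dceeb77389ccea76b85cae976381c8e879bddf6ff793d9f4fe78bd5f2fd783d1f0fc63b2d9ec3633299cc262b259ac16232198c00a8582e140c86836180e8783e1c088482610128984e24148a85628168b85e2c1088846201a8d86e341c8e876381e8f87e3c188c86630028180e04048281608068381e0c008080600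

/-- addition in `(Z/4)^3`, three packed 2-bit fields -/
def addV (a b : Nat) : Nat :=
  Nat.xor (Nat.add (Nat.land a (nat_lit 21)) (Nat.land b (nat_lit 21)))
    (Nat.land (Nat.xor a b) (nat_lit 42))
def act (d v : Nat) : Nat :=
  Nat.land (Nat.shiftRight actTab (Nat.mul (Nat.add (Nat.mul (nat_lit 64) d) v) (nat_lit 6)))
    (nat_lit 63)
def dmul (d e : Nat) : Nat :=
  Nat.land (Nat.shiftRight dTab (Nat.mul (Nat.add (Nat.mul (nat_lit 8) d) e) (nat_lit 3)))
    (nat_lit 7)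
def mulN (a b : Nat) : Nat :=
  Nat.add (addV (Nat.land a (nat_lit 63))
      (act (Nat.shiftRight a (nat_lit 6)) (Nat.land b (nat_lit 63))))
    (Nat.mul (nat_lit 64) (dmul (Nat.shiftRight a (nat_lit 6)) (Nat.shiftRight b (nat_lit 6))))
def invN (a : Nat) : Nat := Nat.land (Nat.shiftRight invTab (Nat.mul (nat_lit 9) a)) (nat_lit 511)

/-- bounded check, structurally recursive -/
def allLT (n : Nat) (p : Nat → Bool) : Bool :=
  Nat.rec (motive := fun _ => Bool) true (fun k ih => Bool.rec false ih (p k)) n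

theorem allLT_spec {n : Nat} {p : Nat → Bool} (h : allLT n p = true) : ∀ k < n, p k = true := by
  induction n with
  | zero => intro k hk; omega
  | succ n ih =>
    have h' : (Bool.rec false (allLT n p) (p n) : Bool) = true := h
    intro k hk
    cases hp : p n with
    | false => rw [hp] at h'; exact (Bool.false_ne_true h').elim
    | true =>
      rw [hp] at h'
      rcases Nat.lt_succ_iff_lt_or_eq.mp hk with h1 | h1
      · exact ih h' k h1
      · rw [h1]; exact hp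

theorem eq_of_beq {a b : Nat} (h : Nat.beq a b = true) : a = b := Nat.eq_of_beq_eq_true h

theorem addV_lt : ∀ a < 64, ∀ b < 64, addV a b < 64 := by
  have h : allLT 64 (fun a => allLT 64 (fun b => Nat.blt (addV a b) (nat_lit 64))) = true := by
    decide +kernel
  intro a ha b hb
  exact Nat.le_of_ble_eq_true (allLT_spec (allLT_spec h a ha) b hb)

theorem addV_zero : ∀ a < 64, addV a 0 = a := by
  have h : allLT 64 (fun a => Nat.beq (addV a (nat_lit 0)) a) = true := by decide +kernel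
  intro a ha
  exact eq_of_beq (allLT_spec h a ha)

/-- a generator `1, 4, 16` of `(Z/4)^3` to peel off a nonzero code -/
def gen (c : Nat) : Nat :=
  bif Nat.beq (Nat.land c 3) 0 then (bif Nat.beq (Nat.land c 12) 0 then 16 else 4) else 1

theorem gen_mem (c : Nat) : gen c = 1 ∨ gen c = 4 ∨ gen c = 16 := by
  unfold gen
  cases Nat.beq (Nat.land c 3) 0 <;> cases Nat.beq (Nat.land c 12) 0 <;> simp

theorem peel : ∀ c < 64, 0 < c → c - gen c < c ∧ addV (c - gen c) (gen c) = c := by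
  have h : allLT 64 (fun c => bif Nat.beq c 0 then true else
    (Nat.blt (c - gen c) c && Nat.beq (addV (c - gen c) (gen c)) c)) = true := by decide +kernel
  intro c hc h0
  have h1 := allLT_spec h c hc
  have h2 : Nat.beq c 0 = false := by
    cases hb : Nat.beq c 0 with
    | false => rfl
    | true => have := eq_of_beq hb; omega
  simp only [h2, cond_false, Bool.and_eq_true] at h1
  exact ⟨Nat.le_of_ble_eq_true h1.1, eq_of_beq h1.2⟩

theorem addV_assoc_gen : ∀ a < 64, ∀ b < 64, ∀ c, (c = 1 ∨ c = 4 ∨ c = 16) →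
    addV (addV a b) c = addV a (addV b c) := by
  have h : allLT 64 (fun a => allLT 64 (fun b =>
      (Nat.beq (addV (addV a b) 1) (addV a (addV b 1)) &&
      Nat.beq (addV (addV a b) 4) (addV a (addV b 4)) &&
      Nat.beq (addV (addV a b) 16) (addV a (addV b 16))))) = true := by decide +kernel
  intro a ha b hb c hc
  have h1 := allLT_spec (allLT_spec h a ha) b hb
  simp only [Bool.and_eq_true] at h1
  rcases hc with rfl | rfl | rfl
  · exact eq_of_beq h1.1.1
  · exact eq_of_beq h1.1.2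
  · exact eq_of_beq h1.2

theorem addV_assoc (a : Nat) (ha : a < 64) (b : Nat) (hb : b < 64) (c : Nat) (hc : c < 64) :
    addV (addV a b) c = addV a (addV b c) := by
  induction c using Nat.strong_induction_on with
  | _ c ih =>
    rcases Nat.eq_zero_or_pos c with rfl | h0
    · rw [addV_zero b hb, addV_zero _ (addV_lt a ha b hb)]
    · obtain ⟨h1, h2⟩ := peel c hc h0
      have h3 : c - gen c < 64 := by omega
      have h4 := ih _ h1 h3
      conv_lhs => rw [← h2]
      conv_rhs => rw [← h2]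
      rw [← addV_assoc_gen _ (addV_lt a ha b hb) _ h3 _ (gen_mem c), h4,
        addV_assoc_gen a ha _ (addV_lt b hb _ h3) _ (gen_mem c),
        addV_assoc_gen b hb _ h3 _ (gen_mem c)]

theorem act_lt (d v : Nat) : act d v < 64 := by
  unfold act
  exact Nat.lt_of_le_of_lt Nat.and_le_right (by norm_num)

theorem dmul_lt (d e : Nat) : dmul d e < 8 := by
  unfold dmul
  exact Nat.lt_of_le_of_lt Nat.and_le_right (by norm_num)

theorem act_zero : ∀ d < 8, act d 0 = 0 := by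
  have h : allLT 8 (fun d => Nat.beq (act d 0) 0) = true := by decide +kernel
  intro d hd
  exact eq_of_beq (allLT_spec h d hd)

theorem act_add_gen : ∀ d < 8, ∀ v < 64, ∀ c, (c = 1 ∨ c = 4 ∨ c = 16) →
    act d (addV v c) = addV (act d v) (act d c) := by
  have h : allLT 8 (fun d => allLT 64 (fun v =>
      (Nat.beq (act d (addV v 1)) (addV (act d v) (act d 1)) &&
      Nat.beq (act d (addV v 4)) (addV (act d v) (act d 4)) &&
      Nat.beq (act d (addV v 16)) (addV (act d v) (act d 16))))) = true := by decide +kernel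
  intro a ha b hb c hc
  have h1 := allLT_spec (allLT_spec h a ha) b hb
  simp only [Bool.and_eq_true] at h1
  rcases hc with rfl | rfl | rfl
  · exact eq_of_beq h1.1.1
  · exact eq_of_beq h1.1.2
  · exact eq_of_beq h1.2

theorem gen_lt (c : Nat) : gen c < 64 := by
  rcases gen_mem c with h | h | h <;> rw [h] <;> norm_num

theorem act_add (d : Nat) (hd : d < 8) (v : Nat) (hv : v < 64) (c : Nat) (hc : c < 64) :
    act d (addV v c) = addV (act d v) (act d c) := by
  induction c using Nat.strong_induction_on with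
  | _ c ih =>
    rcases Nat.eq_zero_or_pos c with rfl | h0
    · rw [addV_zero v hv, act_zero d hd, addV_zero _ (act_lt d v)]
    · obtain ⟨h1, h2⟩ := peel c hc h0
      have h3 : c - gen c < 64 := by omega
      have h4 := ih _ h1 h3
      conv_lhs => rw [← h2]
      conv_rhs => rw [← h2]
      rw [← addV_assoc v hv _ h3 _ (gen_lt c),
        act_add_gen d hd _ (addV_lt v hv _ h3) _ (gen_mem c), h4,
        act_add_gen d hd _ h3 _ (gen_mem c),
        addV_assoc _ (act_lt _ _) _ (act_lt _ _) _ (act_lt _ _)]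

theorem act_dmul : ∀ d < 8, ∀ e < 8, ∀ v < 64, act (dmul d e) v = act d (act e v) := by
  have h : allLT 8 (fun d => allLT 8 (fun e => allLT 64 (fun v =>
      Nat.beq (act (dmul d e) v) (act d (act e v))))) = true := by decide +kernel
  intro a ha b hb c hc
  exact eq_of_beq (allLT_spec (allLT_spec (allLT_spec h a ha) b hb) c hc)

theorem dmul_assoc : ∀ d < 8, ∀ e < 8, ∀ f < 8, dmul (dmul d e) f = dmul d (dmul e f) := by
  have h : allLT 8 (fun d => allLT 8 (fun e => allLT 8 (fun f =>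
      Nat.beq (dmul (dmul d e) f) (dmul d (dmul e f))))) = true := by decide +kernel
  intro a ha b hb c hc
  exact eq_of_beq (allLT_spec (allLT_spec (allLT_spec h a ha) b hb) c hc)

theorem split_lt {x y : Nat} (hx : x < 64) :
    Nat.land (Nat.add x (Nat.mul 64 y)) 63 = x ∧ Nat.shiftRight (Nat.add x (Nat.mul 64 y)) 6 = y := by
  have h1 : (x + 64 * y) &&& 63 = (x + 64 * y) % 64 := Nat.and_two_pow_sub_one_eq_mod _ 6
  constructor
  · show (x + 64 * y) &&& 63 = x
    rw [h1]; omega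
  · show (x + 64 * y) >>> 6 = y
    rw [Nat.shiftRight_eq_div_pow]; omega

theorem and63_lt (a : Nat) : Nat.land a 63 < 64 := Nat.lt_of_le_of_lt Nat.and_le_right (by norm_num)

theorem shift_lt {a : Nat} (h : a < 512) : Nat.shiftRight a 6 < 8 := by
  show a >>> 6 < 8
  rw [Nat.shiftRight_eq_div_pow]; omega

theorem mulN_lt {a b : Nat} (_ha : a < 512) (_hb : b < 512) : mulN a b < 512 := by
  have h1 := addV_lt (Nat.land a 63) (and63_lt a) (act (Nat.shiftRight a 6) (Nat.land b 63)) (act_lt _ _)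
  have h2 := dmul_lt (Nat.shiftRight a 6) (Nat.shiftRight b 6)
  have h3 : mulN a b = addV (Nat.land a 63) (act (Nat.shiftRight a 6) (Nat.land b 63))
    + 64 * dmul (Nat.shiftRight a 6) (Nat.shiftRight b 6) := rfl
  omega

theorem mulN_assoc {a b c : Nat} (ha : a < 512) (hb : b < 512) (hc : c < 512) :
    mulN (mulN a b) c = mulN a (mulN b c) := by
  have e1 := split_lt (y := dmul (Nat.shiftRight a 6) (Nat.shiftRight b 6))
    (addV_lt (Nat.land a 63) (and63_lt a) (act (Nat.shiftRight a 6) (Nat.land b 63)) (act_lt _ _))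
  have e2 := split_lt (y := dmul (Nat.shiftRight b 6) (Nat.shiftRight c 6))
    (addV_lt (Nat.land b 63) (and63_lt b) (act (Nat.shiftRight b 6) (Nat.land c 63)) (act_lt _ _))
  have h1 : mulN (mulN a b) c = Nat.add (addV (Nat.land (mulN a b) 63)
      (act (Nat.shiftRight (mulN a b) 6) (Nat.land c 63)))
      (Nat.mul 64 (dmul (Nat.shiftRight (mulN a b) 6) (Nat.shiftRight c 6))) := rfl
  have h2 : mulN a (mulN b c) = Nat.add (addV (Nat.land a 63)
      (act (Nat.shiftRight a 6) (Nat.land (mulN b c) 63)))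
      (Nat.mul 64 (dmul (Nat.shiftRight a 6) (Nat.shiftRight (mulN b c) 6))) := rfl
  have e1a : Nat.land (mulN a b) 63 = addV (Nat.land a 63) (act (Nat.shiftRight a 6) (Nat.land b 63)) := e1.1
  have e1b : Nat.shiftRight (mulN a b) 6 = dmul (Nat.shiftRight a 6) (Nat.shiftRight b 6) := e1.2
  have e2a : Nat.land (mulN b c) 63 = addV (Nat.land b 63) (act (Nat.shiftRight b 6) (Nat.land c 63)) := e2.1
  have e2b : Nat.shiftRight (mulN b c) 6 = dmul (Nat.shiftRight b 6) (Nat.shiftRight c 6) := e2.2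
  rw [h1, h2, e1a, e1b, e2a, e2b, dmul_assoc _ (shift_lt ha) _ (shift_lt hb) _ (shift_lt hc),
    act_dmul _ (shift_lt ha) _ (shift_lt hb) _ (and63_lt c),
    act_add _ (shift_lt ha) _ (and63_lt b) _ (act_lt _ _),
    addV_assoc _ (and63_lt a) _ (act_lt _ _) _ (act_lt _ _)]

theorem zero_mulN : ∀ a < 512, mulN 0 a = a := by
  have h : allLT 512 (fun a => Nat.beq (mulN 0 a) a) = true := by decide +kernel
  intro a ha
  exact eq_of_beq (allLT_spec h a ha)

theorem inv_mulN : ∀ a < 512, mulN (invN a) a = 0 := by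
  have h : allLT 512 (fun a => Nat.beq (mulN (invN a) a) 0) = true := by decide +kernel
  intro a ha
  exact eq_of_beq (allLT_spec h a ha)

theorem invN_lt (a : Nat) : invN a < 512 := by
  unfold invN
  exact Nat.lt_of_le_of_lt Nat.and_le_right (by norm_num)

/-- the model -/
@[ext] structure SM : Type where
  val : Nat
  lt : val < 512
deriving DecidableEq

instance : Mul SM := ⟨fun a b => ⟨mulN a.1 b.1, mulN_lt a.2 b.2⟩⟩
instance : One SM := ⟨⟨0, by norm_num⟩⟩
instance : Inv SM := ⟨fun a => ⟨invN a.1, invN_lt a.1⟩⟩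

instance : Group SM := Group.ofLeftAxioms
  (fun a b c => SM.ext (mulN_assoc a.2 b.2 c.2))
  (fun a => SM.ext (zero_mulN a.1 a.2))
  (fun a => SM.ext (inv_mulN a.1 a.2))

/-- element with a given code -/
def el (n : Nat) (h : n < 512 := by decide) : SM := ⟨n, h⟩

def equivFin : SM ≃ Fin 512 where
  toFun a := ⟨a.1, a.2⟩
  invFun a := ⟨a.1, a.2⟩
  left_inv _ := rfl
  right_inv _ := rfl

instance : Fintype SM := Fintype.ofEquiv _ equivFin.symm

theorem card_SM : Nat.card SM = 512 := by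
  rw [Nat.card_congr equivFin]; simp

theorem forall_SM {p : SM → Prop} (q : Nat → Bool) (h : allLT 512 q = true)
    (hq : ∀ x : SM, q x.1 = true → p x) : ∀ x, p x :=
  fun x => hq x (allLT_spec h x.1 x.2)

end Cfsg.Agent.HSType.Model
end

-- part: HSType/Basic
section
/-!
# Sylow tools for the analysis of groups with a Sylow 2-subgroup of HS type
-/

set_option autoImplicit false

namespace Cfsg.Agent.HSType.Basic

open Cfsg.Agent.HSType.Model

section General

variable {G : Type*} [Group G]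

theorem mem_normalizer_of_forall [Finite G] {H : Subgroup G} {g : G}
    (h : ∀ x ∈ H, g * x * g⁻¹ ∈ H) : g ∈ Subgroup.normalizer (H : Set G) := by
  haveI : Finite (H : Set G) := inferInstanceAs (Finite H)
  exact Subgroup.mem_normalizer_fintype h

theorem conj_mem_of_mem_normalizer {H : Subgroup G} {g : G}
    (h : g ∈ Subgroup.normalizer (H : Set G)) {x : G} (hx : x ∈ H) : g * x * g⁻¹ ∈ H :=
  (Subgroup.mem_normalizer_iff.mp h x).mp hx

/-- relative Sylow theorem -/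
theorem rel_sylow [Finite G] {K R0 : Subgroup G} (hRK : R0 ≤ K) (hp : IsPGroup 2 R0)
    (hidx : ¬ 2 ∣ R0.relIndex K) {P : Subgroup G} (hPK : P ≤ K) (hP : IsPGroup 2 P) :
    ∃ k ∈ K, ∀ x ∈ P, k * x * k⁻¹ ∈ R0 := by
  haveI : Fact (Nat.Prime 2) := ⟨Nat.prime_two⟩
  have hp' : IsPGroup 2 (R0.subgroupOf K) := hp.comap_of_injective K.subtype K.subtype_injective
  let T : Sylow 2 K := hp'.toSylow hidx
  have hP' : IsPGroup 2 (P.subgroupOf K) := hP.comap_of_injective K.subtype K.subtype_injective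
  obtain ⟨Q, hQ⟩ := hP'.exists_le_sylow
  obtain ⟨k, hk⟩ := MulAction.exists_smul_eq K Q T
  refine ⟨k, k.2, fun x hx => ?_⟩
  have hxQ : (⟨x, hPK hx⟩ : K) ∈ (Q : Subgroup K) := hQ (by
    rw [Subgroup.mem_subgroupOf]; exact hx)
  have h1 : k * ⟨x, hPK hx⟩ * k⁻¹ ∈ (T : Subgroup K) := by
    rw [← hk]
    show k * ⟨x, hPK hx⟩ * k⁻¹ ∈ ((k • Q : Sylow 2 K) : Subgroup K)
    rw [Sylow.coe_subgroup_smul]
    exact Subgroup.smul_mem_pointwise_smul _ (MulAut.conj k) _ hxQ
  have h2 : k * ⟨x, hPK hx⟩ * k⁻¹ ∈ R0.subgroupOf K := h1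
  rw [Subgroup.mem_subgroupOf] at h2
  exact h2

/-- a 2-element centralizing a Sylow 2-subgroup lies in it -/
theorem mem_sylow_of_centralizes [Finite G] {P : Subgroup G} (hP : IsPGroup 2 P)
    (hcard : ∀ Q : Subgroup G, IsPGroup 2 Q → Nat.card Q ≤ Nat.card P) {x : G}
    (hx : IsPGroup 2 (Subgroup.zpowers x)) (hc : ∀ y ∈ P, x * y = y * x) : x ∈ P := by
  have hle : Subgroup.zpowers x ≤ Subgroup.normalizer (P : Set G) := by
    rw [Subgroup.zpowers_le]
    apply mem_normalizer_of_forall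
    intro y hy
    rw [hc y hy, mul_inv_cancel_right]; exact hy
  have h1 : IsPGroup 2 (Subgroup.zpowers x ⊔ P : Subgroup G) := hx.to_sup_of_normal_right' hP hle
  have h2 := hcard _ h1
  have h3 : P = Subgroup.zpowers x ⊔ P := Subgroup.eq_of_le_of_card_ge le_sup_right h2
  rw [h3]
  exact Subgroup.mem_sup_left (Subgroup.mem_zpowers x)

end General

/-- A group with a Sylow 2-subgroup identified with the model. -/
structure Ctx (G : Type*) [Group G] where
  ι : SM →* G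
  inj : Function.Injective ι
  S : Sylow 2 G
  range : (S : Subgroup G) = ι.range

variable {G : Type*} [Group G]

namespace Ctx

variable (c : Ctx G)

theorem card_S : Nat.card (c.S : Subgroup G) = 512 := by
  rw [c.range, ← card_SM]
  exact (Nat.card_congr (MonoidHom.ofInjective c.inj).toEquiv).symm

theorem isPGroup_SM : IsPGroup 2 SM := IsPGroup.of_card (n := 9) (by rw [card_SM]; norm_num)

theorem isPGroup_map (R : Subgroup SM) : IsPGroup 2 (R.map c.ι) :=
  (isPGroup_SM.to_subgroup R).map c.ι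

theorem card_map (R : Subgroup SM) : Nat.card (R.map c.ι) = Nat.card R :=
  Nat.card_congr (R.equivMapOfInjective c.ι c.inj).symm.toEquiv

include c in
theorem card_le [Finite G] (Q : Subgroup G) (hQ : IsPGroup 2 Q) : Nat.card Q ≤ 512 := by
  haveI : Fact (Nat.Prime 2) := ⟨Nat.prime_two⟩
  obtain ⟨T, hT⟩ := hQ.exists_le_sylow
  have h1 : Nat.card Q ≤ Nat.card (T : Subgroup G) := Subgroup.card_le_of_le hT
  have h2 : Nat.card (T : Subgroup G) = Nat.card (c.S : Subgroup G) :=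
    Nat.card_congr (T.equiv c.S).toEquiv
  rw [h2, c.card_S] at h1
  exact h1

/-- every 2-subgroup is conjugate into the image of the model -/
theorem exists_conj [Finite G] {P : Subgroup G} (hP : IsPGroup 2 P) :
    ∃ g : G, ∀ x ∈ P, ∃ s : SM, c.ι s = g * x * g⁻¹ := by
  haveI : Fact (Nat.Prime 2) := ⟨Nat.prime_two⟩
  obtain ⟨Q, hQ⟩ := hP.exists_le_sylow
  obtain ⟨k, hk⟩ := MulAction.exists_smul_eq G Q c.S
  refine ⟨k, fun x hx => ?_⟩
  have h1 : k * x * k⁻¹ ∈ (c.S : Subgroup G) := by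
    rw [← hk, Sylow.coe_subgroup_smul]
    exact Subgroup.smul_mem_pointwise_smul _ (MulAut.conj k) _ (hQ hx)
  rw [c.range] at h1
  obtain ⟨s, hs⟩ := h1
  exact ⟨s, hs⟩

/-- the same inside a subgroup containing the Sylow subgroup -/
theorem exists_conj_in [Finite G] {K : Subgroup G} (hK : c.ι.range ≤ K) {P : Subgroup G}
    (hPK : P ≤ K) (hP : IsPGroup 2 P) :
    ∃ k ∈ K, ∀ x ∈ P, ∃ s : SM, c.ι s = k * x * k⁻¹ := by
  haveI : Fact (Nat.Prime 2) := ⟨Nat.prime_two⟩
  have h1 : IsPGroup 2 c.ι.range := by rw [← c.range]; exact c.S.2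
  have h2 : ¬ 2 ∣ (c.ι.range).relIndex K := by
    rw [← c.range] at hK ⊢
    intro h
    have h3 : (c.S : Subgroup G).relIndex K ∣ (c.S : Subgroup G).index :=
      Subgroup.relIndex_dvd_index_of_le hK
    exact c.S.not_dvd_index (h.trans h3)
  obtain ⟨k, hk, h⟩ := rel_sylow hK h1 h2 hPK hP
  exact ⟨k, hk, fun x hx => h x hx⟩

end Ctx

end Cfsg.Agent.HSType.Basic
end

-- part: HSType/Facts
section
/-!
# Kernel-checked facts on the model group `SM` (I): subgroups, centre, `J`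
-/

set_option autoImplicit false

namespace Cfsg.Agent.HSType.Facts

open Cfsg.Agent.HSType.Model

/-- lazy implication -/
def imp (a b : Bool) : Bool := Bool.rec true b a
/-- lazy disjunction -/
def orB (a b : Bool) : Bool := Bool.rec b true a
/-- lazy conjunction -/
def andB (a b : Bool) : Bool := Bool.rec false b a

theorem imp_spec {a b : Bool} (h : imp a b = true) (ha : a = true) : b = true := by
  subst ha; exact h
theorem orB_spec {a b : Bool} (h : orB a b = true) : a = true ∨ b = true := by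
  cases a with
  | true => exact Or.inl rfl
  | false => exact Or.inr h
theorem andB_spec {a b : Bool} (h : andB a b = true) : a = true ∧ b = true := by
  cases a with
  | true => exact ⟨rfl, h⟩
  | false => exact absurd h (by exact Bool.false_ne_true)
theorem andB_intro {a b : Bool} (ha : a = true) (hb : b = true) : andB a b = true := by
  subst ha; exact hb

/-- bounded existence, structurally recursive -/
def exLT (n : Nat) (p : Nat → Bool) : Bool :=
  Nat.rec (motive := fun _ => Bool) false (fun k ih => Bool.rec ih true (p k)) n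

theorem exLT_spec {n : Nat} {p : Nat → Bool} (h : exLT n p = true) : ∃ k, k < n ∧ p k = true := by
  induction n with
  | zero => exact (Bool.false_ne_true h).elim
  | succ n ih =>
    have h' : (Bool.rec (exLT n p) true (p n) : Bool) = true := h
    cases hp : p n with
    | false =>
      rw [hp] at h'
      obtain ⟨k, hk, hk'⟩ := ih h'
      exact ⟨k, Nat.lt_succ_of_lt hk, hk'⟩
    | true => exact ⟨n, Nat.lt_succ_self n, hp⟩

/-- commuting test -/
def com (a b : Nat) : Bool := Nat.beq (mulN a b) (mulN b a)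
def inJ (a : Nat) : Bool := Nat.blt a (nat_lit 64)
def inR1 (a : Nat) : Bool := Nat.beq (Nat.land a (nat_lit 64)) (nat_lit 0)
def inR2 (a : Nat) : Bool :=
  Nat.beq (Nat.mul (Nat.land a (nat_lit 64)) (nat_lit 4)) (Nat.land a (nat_lit 256))
def bit (i a : Nat) : Nat := Nat.land (Nat.shiftRight a i) (nat_lit 1)
def inQ (a : Nat) : Bool :=
  andB (Nat.beq (bit 0 a) (bit 2 a)) (Nat.beq (Nat.land a (nat_lit 80)) (nat_lit 0))
def inQ' (a : Nat) : Bool :=
  andB (Nat.beq (Nat.land a (nat_lit 64)) (nat_lit 0))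
    (andB (Nat.beq (bit 4 a) (bit 8 a)) (Nat.beq (Nat.xor (bit 0 a) (bit 2 a)) (bit 7 a)))

theorem ext_beq {x y : SM} (h : Nat.beq x.1 y.1 = true) : x = y := SM.ext (eq_of_beq h)
theorem beq_of_eq {x y : SM} (h : x = y) : Nat.beq x.1 y.1 = true := by
  subst h; exact Nat.beq_refl _
theorem com_of {x y : SM} (h : x * y = y * x) : com x.1 y.1 = true := beq_of_eq h
theorem of_com {x y : SM} (h : com x.1 y.1 = true) : x * y = y * x := ext_beq h

def z0 : SM := el 10
def u0 : SM := el 37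
def a0 : SM := el 2
def a1 : SM := el 8

theorem z0_ne_one : z0 ≠ 1 := by
  intro h; have := congrArg SM.val h; exact absurd this (by decide)

theorem u0_sq : u0 * u0 = z0 := SM.ext (by decide +kernel)
theorem z0_sq : z0 * z0 = 1 := SM.ext (by decide +kernel)
theorem u0_inv : u0⁻¹ = u0 * z0 := by
  rw [inv_eq_iff_mul_eq_one, ← mul_assoc, u0_sq, z0_sq]

/-- the centre of the model -/
theorem z0_central (x : SM) : x * z0 = z0 * x := by
  have h : allLT 512 (fun a => com a 10) = true := by decide +kernel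
  exact of_com (y := z0) (allLT_spec h x.1 x.2)

theorem mem_center_of_forall (x : SM) (h : ∀ y : SM, x * y = y * x) : x = 1 ∨ x = z0 := by
  have hd : allLT 512 (fun a => imp (andB (com a 1) (andB (com a 4) (andB (com a 16)
      (andB (com a 64) (com a 256))))) (orB (Nat.beq a 0) (Nat.beq a 10))) = true := by
    decide +kernel
  have h1 := imp_spec (allLT_spec hd x.1 x.2) (andB_intro (com_of (y := el 1) (h (el 1)))
    (andB_intro (com_of (y := el 4) (h (el 4))) (andB_intro (com_of (y := el 16) (h (el 16)))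
      (andB_intro (com_of (y := el 64) (h (el 64))) (com_of (y := el 256) (h (el 256)))))))
  rcases orB_spec h1 with h2 | h2
  · exact Or.inl (ext_beq (y := 1) h2)
  · exact Or.inr (ext_beq (y := z0) h2)

/-- a predicate which is invariant under conjugation by the generators is invariant under conjugation -/
theorem conj_by_gens (p : Nat → Bool) (h : allLT 9 (fun i => allLT 512 (fun a => imp (p a)
    (p (mulN (mulN (Nat.pow 2 i) a) (invN (Nat.pow 2 i)))))) = true) (g : SM) :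
    ∀ x : SM, p x.1 = true → p (g * x * g⁻¹).1 = true := by
  have hd : allLT 512 (fun a => orB (Nat.beq a 0) (exLT 9 (fun i => Nat.blt (mulN (invN (Nat.pow 2 i)) a) a))) = true := by
    decide +kernel
  obtain ⟨n, hn⟩ := g
  induction n using Nat.strong_induction_on with
  | _ n ih =>
    intro x hx
    rcases orB_spec (allLT_spec hd n hn) with h1 | h1
    · have e : ∀ g : SM, g = 1 → g * x * g⁻¹ = x := fun g hg => by rw [hg, one_mul, inv_one, mul_one]
      exact (congrArg (fun y : SM => p y.1) (e ⟨n, hn⟩ (ext_beq (x := ⟨n, hn⟩) (y := 1) h1))).trans hx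
    · obtain ⟨i, hi, h2⟩ := exLT_spec h1
      have h3 : 2 ^ i < 512 := Nat.pow_lt_pow_right (a := 2) (n := 9) (by decide) hi
      have h4 : p ((⟨2 ^ i, h3⟩ : SM)⁻¹ * (⟨n, hn⟩ : SM) * x * ((⟨2 ^ i, h3⟩ : SM)⁻¹ * (⟨n, hn⟩ : SM))⁻¹).1 = true :=
        (ih _ (Nat.le_of_ble_eq_true h2) (mulN_lt (invN_lt _) hn) x hx :)
      have h5 : ∀ y : SM, p y.1 = true → p ((⟨2 ^ i, h3⟩ : SM) * y * (⟨2 ^ i, h3⟩ : SM)⁻¹).1 = true := fun y hy =>
        (imp_spec (allLT_spec (allLT_spec h i hi) y.1 y.2) hy :)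
      have e : ∀ s g x : SM, s * (s⁻¹ * g * x * (s⁻¹ * g)⁻¹) * s⁻¹ = g * x * g⁻¹ := fun s g x => by group
      exact (congrArg (fun y : SM => p y.1) (e ⟨2 ^ i, h3⟩ ⟨n, hn⟩ x)).symm.trans (h5 _ h4)

/-- subgroup of the model from a Boolean predicate -/
def mkSub (p : Nat → Bool) (h1 : p 0 = true)
    (hm : allLT 512 (fun a => imp (p a) (allLT 512 (fun b => imp (p b) (p (mulN a b))))) = true)
    (hi : allLT 512 (fun a => imp (p a) (p (invN a))) = true) : Subgroup SM where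
  carrier := {x | p x.1 = true}
  one_mem' := h1
  mul_mem' {x y} hx hy := imp_spec (allLT_spec (imp_spec (allLT_spec hm x.1 x.2) hx) y.1 y.2) hy
  inv_mem' {x} hx := imp_spec (allLT_spec hi x.1 x.2) hx

/-- the homocyclic subgroup `(Z/4)^3` -/
def J : Subgroup SM := mkSub inJ (by decide +kernel) (by decide +kernel) (by decide +kernel)
/-- `4 ∘ 2^{1+4}`, the subgroup `O₂(C(z))` -/
def Q : Subgroup SM := mkSub inQ (by decide +kernel) (by decide +kernel) (by decide +kernel)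
/-- the second subgroup of type `4 ∘ 2^{1+4}` -/
def Q' : Subgroup SM := mkSub inQ' (by decide +kernel) (by decide +kernel) (by decide +kernel)
/-- `C_S(u)` -/
def R1 : Subgroup SM := Subgroup.centralizer {u0}
/-- `C_S(a)` -/
def R2 : Subgroup SM := Subgroup.centralizer {a0}

theorem mem_J {x : SM} : x ∈ J ↔ inJ x.1 = true := Iff.rfl
theorem mem_Q {x : SM} : x ∈ Q ↔ inQ x.1 = true := Iff.rfl
theorem mem_Q' {x : SM} : x ∈ Q' ↔ inQ' x.1 = true := Iff.rfl

/-- Boolean equality test -/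
def beqB (a b : Bool) : Bool := Bool.rec (Bool.rec true false b) b a
theorem beqB_spec {a b : Bool} (h : beqB a b = true) : a = b := by
  cases a <;> cases b <;> first | rfl | exact (Bool.false_ne_true h).elim

theorem mem_R1 {x : SM} : x ∈ R1 ↔ inR1 x.1 = true := by
  have hd : allLT 512 (fun a => beqB (com a 37) (inR1 a)) = true := by decide +kernel
  have h1 := beqB_spec (allLT_spec hd x.1 x.2)
  rw [← h1]
  unfold R1
  rw [Subgroup.mem_centralizer_singleton_iff]
  exact ⟨fun h => com_of (y := u0) h, fun h => of_com (y := u0) h⟩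

theorem mem_R2 {x : SM} : x ∈ R2 ↔ inR2 x.1 = true := by
  have hd : allLT 512 (fun a => beqB (com a 2) (inR2 a)) = true := by decide +kernel
  have h1 := beqB_spec (allLT_spec hd x.1 x.2)
  rw [← h1]
  unfold R2
  rw [Subgroup.mem_centralizer_singleton_iff]
  exact ⟨fun h => com_of (y := a0) h, fun h => of_com (y := a0) h⟩

/-- counting -/
def cnt (n : Nat) (p : Nat → Bool) : Nat :=
  Nat.rec (motive := fun _ => Nat) 0 (fun k ih => Bool.rec ih (Nat.succ ih) (p k)) n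

theorem cnt_eq (n : Nat) (p : Nat → Bool) :
    cnt n p = ((Finset.range n).filter (fun k => p k = true)).card := by
  induction n with
  | zero => rfl
  | succ n ih =>
    have h : cnt (n + 1) p = (Bool.rec (cnt n p) (Nat.succ (cnt n p)) (p n) : Nat) := rfl
    rw [h, Finset.range_add_one, Finset.filter_insert]
    cases hp : p n with
    | false => simp [ih]
    | true =>
      rw [if_pos rfl, Finset.card_insert_of_notMem (by simp), ih]

theorem card_eq_cnt (p : Nat → Bool) : Nat.card {x : SM // p x.1 = true} = cnt 512 p := by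
  rw [cnt_eq]
  have e : {x : SM // p x.1 = true} ≃ ((Finset.range 512).filter (fun k => p k = true)) :=
    { toFun := fun x => ⟨x.1.1, by
        rw [Finset.mem_filter, Finset.mem_range]; exact ⟨x.1.2, x.2⟩⟩
      invFun := fun k => ⟨⟨k.1, by
        have := k.2; rw [Finset.mem_filter, Finset.mem_range] at this; exact this.1⟩, by
        have := k.2; rw [Finset.mem_filter, Finset.mem_range] at this; exact this.2⟩
      left_inv := fun x => rfl
      right_inv := fun k => rfl }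
  rw [Nat.card_congr e, Nat.card_eq_fintype_card, Fintype.card_coe]

theorem card_sub (R : Subgroup SM) (p : Nat → Bool) (h : ∀ x : SM, x ∈ R ↔ p x.1 = true) :
    Nat.card R = cnt 512 p := by
  rw [← card_eq_cnt]
  exact Nat.card_congr (Equiv.subtypeEquivRight h)

theorem card_J : Nat.card J = 64 := by
  rw [card_sub J inJ (fun _ => Iff.rfl)]; decide +kernel
theorem card_Q : Nat.card Q = 64 := by
  rw [card_sub Q inQ (fun _ => Iff.rfl)]; decide +kernel
theorem card_Q' : Nat.card Q' = 64 := by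
  rw [card_sub Q' inQ' (fun _ => Iff.rfl)]; decide +kernel
theorem card_R1 : Nat.card R1 = 256 := by
  rw [card_sub R1 inR1 (fun _ => mem_R1)]; decide +kernel
theorem card_R2 : Nat.card R2 = 256 := by
  rw [card_sub R2 inR2 (fun _ => mem_R2)]; decide +kernel

end Cfsg.Agent.HSType.Facts
end

-- part: HSType/FactsU
section
/-!
# Kernel-checked facts on the model group `SM` (II): square roots of `z`
-/

set_option autoImplicit false

namespace Cfsg.Agent.HSType.FactsU

open Cfsg.Agent.HSType.Model Cfsg.Agent.HSType.Facts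

/-- square test `a² = b` -/
def sqIs (a b : Nat) : Bool := Nat.beq (mulN a a) b

theorem sqIs_of {x y : SM} (h : x * x = y) : sqIs x.1 y.1 = true := beq_of_eq h
theorem of_sqIs {x y : SM} (h : sqIs x.1 y.1 = true) : x * x = y := ext_beq h

/-- `u` has no square root -/
theorem no_sqrt_u0 (x : SM) : x * x ≠ u0 := by
  have hd : allLT 512 (fun a => imp (sqIs a 37) false) = true := by decide +kernel
  intro h
  exact Bool.false_ne_true (imp_spec (allLT_spec hd x.1 x.2) (sqIs_of (y := u0) h))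

/-- type 43: square roots of `z` in `Q - J` over the centre of `D₈` -/
def t43 (a : Nat) : Bool :=
  andB (sqIs a 10) (andB (Nat.beq (Nat.land a (nat_lit 448)) (nat_lit 128)) (inQ a))
/-- type 40: square roots of `z` in `(Q ∪ Q') - R2` -/
def t40 (a : Nat) : Bool :=
  andB (sqIs a 10) (andB (inR1 a) (Nat.beq (Nat.land a (nat_lit 256)) (nat_lit 256)))

theorem sq_z0_cases (v : SM) (h : v * v = z0) :
    v = u0 ∨ v = u0 * z0 ∨ (∃ x : SM, x * x = v) ∨ t43 v.1 = true ∨ t40 v.1 = true := by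
  have hd : allLT 512 (fun a => imp (sqIs a 10) (orB (Nat.beq a 37) (orB (Nat.beq a 47)
      (orB (t43 a) (orB (t40 a) (exLT 512 (fun b => sqIs b a))))))) = true := by decide +kernel
  have h1 := imp_spec (allLT_spec hd v.1 v.2) (sqIs_of (y := z0) h)
  rcases orB_spec h1 with h2 | h2
  · exact Or.inl (ext_beq (y := u0) h2)
  rcases orB_spec h2 with h3 | h3
  · refine Or.inr (Or.inl ?_)
    have e : u0 * z0 = el 47 := SM.ext (by decide +kernel)
    rw [e]; exact ext_beq (y := el 47) h3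
  rcases orB_spec h3 with h4 | h4
  · exact Or.inr (Or.inr (Or.inr (Or.inl h4)))
  rcases orB_spec h4 with h5 | h5
  · exact Or.inr (Or.inr (Or.inr (Or.inr h5)))
  · obtain ⟨k, hk, hk'⟩ := exLT_spec h5
    exact Or.inr (Or.inr (Or.inl ⟨⟨k, hk⟩, of_sqIs hk'⟩))

/-- squares `1` or `z` -/
def sq1z (a : Nat) : Bool := orB (sqIs a 0) (sqIs a 10)

theorem sq1z_of {x : SM} (h : x * x = 1 ∨ x * x = z0) : sq1z x.1 = true := by
  unfold sq1z
  rcases h with h | h
  · have := sqIs_of (y := 1) h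
    have h1 : sqIs x.1 0 = true := this
    rw [h1]; rfl
  · have h1 : sqIs x.1 10 = true := sqIs_of (y := z0) h
    rw [h1]; cases sqIs x.1 0 <;> rfl

theorem of_sq1z {x : SM} (h : sq1z x.1 = true) : x * x = 1 ∨ x * x = z0 := by
  rcases orB_spec h with h | h
  · exact Or.inl (of_sqIs (y := 1) h)
  · exact Or.inr (of_sqIs (y := z0) h)

theorem sq_Q {x : SM} (h : x ∈ Q) : x * x = 1 ∨ x * x = z0 := by
  have hd : allLT 512 (fun a => imp (inQ a) (sq1z a)) = true := by decide +kernel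
  exact of_sq1z (imp_spec (allLT_spec hd x.1 x.2) h)
theorem sq_Q' {x : SM} (h : x ∈ Q') : x * x = 1 ∨ x * x = z0 := by
  have hd : allLT 512 (fun a => imp (inQ' a) (sq1z a)) = true := by decide +kernel
  exact of_sq1z (imp_spec (allLT_spec hd x.1 x.2) h)

theorem Q_le_R1 : Q ≤ R1 := by
  intro x hx
  have hd : allLT 512 (fun a => imp (inQ a) (inR1 a)) = true := by decide +kernel
  exact mem_R1.mpr (imp_spec (allLT_spec hd x.1 x.2) hx)
theorem Q'_le_R1 : Q' ≤ R1 := by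
  intro x hx
  have hd : allLT 512 (fun a => imp (inQ' a) (inR1 a)) = true := by decide +kernel
  exact mem_R1.mpr (imp_spec (allLT_spec hd x.1 x.2) hx)

/-- elements of `R1` with square in `⟨u⟩` lie in `Q ∪ Q'` -/
theorem mem_Q_or_Q' {x : SM} (hR : x ∈ R1)
    (h : x * x = 1 ∨ x * x = z0 ∨ x * x = u0 ∨ x * x = u0 * z0) : x ∈ Q ∨ x ∈ Q' := by
  have hd : allLT 512 (fun a => imp (andB (inR1 a) (orB (sqIs a 0) (orB (sqIs a 10)
    (orB (sqIs a 37) (sqIs a 47))))) (orB (inQ a) (inQ' a))) = true := by decide +kernel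
  have e : u0 * z0 = el 47 := SM.ext (by decide +kernel)
  rw [e] at h
  apply orB_spec (a := inQ x.1) (b := inQ' x.1)
  refine imp_spec (allLT_spec hd x.1 x.2) (andB_intro (mem_R1.mp hR) ?_)
  rcases h with h | h | h | h
  · have h1 : sqIs x.1 0 = true := sqIs_of (y := 1) h
    rw [h1]; rfl
  · have h1 : sqIs x.1 10 = true := sqIs_of (y := z0) h
    rw [h1]; cases sqIs x.1 0 <;> rfl
  · have h1 : sqIs x.1 37 = true := sqIs_of (y := u0) h
    rw [h1]; cases sqIs x.1 0 <;> cases sqIs x.1 10 <;> rfl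
  · have h1 : sqIs x.1 47 = true := sqIs_of (y := el 47) h
    rw [h1]; cases sqIs x.1 0 <;> cases sqIs x.1 10 <;> cases sqIs x.1 37 <;> rfl

/-- membership in `⟨u⟩` -/
def inU (a : Nat) : Bool := orB (Nat.beq a 0) (orB (Nat.beq a 37) (orB (Nat.beq a 10) (Nat.beq a 47)))

theorem inU_spec {x : SM} (h : inU x.1 = true) : x = 1 ∨ x = u0 ∨ x = z0 ∨ x = u0 * z0 := by
  have e : u0 * z0 = el 47 := SM.ext (by decide +kernel)
  rw [e]
  rcases orB_spec h with h | h
  · exact Or.inl (ext_beq (y := 1) h)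
  rcases orB_spec h with h | h
  · exact Or.inr (Or.inl (ext_beq (y := u0) h))
  rcases orB_spec h with h | h
  · exact Or.inr (Or.inr (Or.inl (ext_beq (y := z0) h)))
  · exact Or.inr (Or.inr (Or.inr (ext_beq (y := el 47) h)))

/-- if `w ∈ Q - J` then `C_{R1}(w) ≤ Q` -/
theorem cent_Q {w x : SM} (hw : w ∈ Q) (hwU : inJ w.1 = false) (hx : x ∈ R1) (h : w * x = x * w) :
    x ∈ Q := by
  have hd : allLT 512 (fun a => imp (inQ a) (orB (inJ a) (allLT 512 (fun b =>
    imp (inR1 b) (imp (com a b) (inQ b)))))) = true := by decide +kernel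
  rcases orB_spec (imp_spec (allLT_spec hd w.1 w.2) hw) with h1 | h1
  · rw [hwU] at h1; exact (Bool.false_ne_true h1).elim
  · exact imp_spec (imp_spec (allLT_spec h1 x.1 x.2) (mem_R1.mp hx)) (com_of h)

/-- if `w ∈ Q' - J` then `C_{R1}(w) ≤ Q'` -/
theorem cent_Q' {w x : SM} (hw : w ∈ Q') (hwU : inJ w.1 = false) (hx : x ∈ R1)
    (h : w * x = x * w) : x ∈ Q' := by
  have hd : allLT 512 (fun a => imp (inQ' a) (orB (inJ a) (allLT 512 (fun b =>
    imp (inR1 b) (imp (com a b) (inQ' b)))))) = true := by decide +kernel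
  rcases orB_spec (imp_spec (allLT_spec hd w.1 w.2) hw) with h1 | h1
  · rw [hwU] at h1; exact (Bool.false_ne_true h1).elim
  · exact imp_spec (imp_spec (allLT_spec h1 x.1 x.2) (mem_R1.mp hx)) (com_of h)

/-- noncentral elements of `Q` are inverted mod `z` -/
theorem moved_Q {w : SM} (hw : w ∈ Q) (hwU : inU w.1 = false) :
    ∃ q ∈ Q, q * w = w * z0 * q := by
  have hd : allLT 512 (fun a => imp (inQ a) (orB (inU a) (exLT 512 (fun b =>
    andB (inQ b) (Nat.beq (mulN b a) (mulN (mulN a 10) b)))))) = true := by decide +kernel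
  rcases orB_spec (imp_spec (allLT_spec hd w.1 w.2) hw) with h1 | h1
  · rw [hwU] at h1; exact (Bool.false_ne_true h1).elim
  · obtain ⟨k, hk, hk'⟩ := exLT_spec h1
    obtain ⟨h2, h3⟩ := andB_spec hk'
    exact ⟨⟨k, hk⟩, h2, SM.ext (eq_of_beq h3)⟩

theorem moved_Q' {w : SM} (hw : w ∈ Q') (hwU : inU w.1 = false) :
    ∃ q ∈ Q', q * w = w * z0 * q := by
  have hd : allLT 512 (fun a => imp (inQ' a) (orB (inU a) (exLT 512 (fun b =>
    andB (inQ' b) (Nat.beq (mulN b a) (mulN (mulN a 10) b)))))) = true := by decide +kernel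
  rcases orB_spec (imp_spec (allLT_spec hd w.1 w.2) hw) with h1 | h1
  · rw [hwU] at h1; exact (Bool.false_ne_true h1).elim
  · obtain ⟨k, hk, hk'⟩ := exLT_spec h1
    obtain ⟨h2, h3⟩ := andB_spec hk'
    exact ⟨⟨k, hk⟩, h2, SM.ext (eq_of_beq h3)⟩

/-- commutators of `Q` -/
theorem comm_Q {x y : SM} (hx : x ∈ Q) (hy : y ∈ Q) : x * y = y * x ∨ x * y = y * x * z0 := by
  have hd : allLT 512 (fun a => imp (inQ a) (allLT 512 (fun b => imp (inQ b)
    (orB (com a b) (Nat.beq (mulN a b) (mulN (mulN b a) 10)))))) = true := by decide +kernel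
  rcases orB_spec (imp_spec (allLT_spec (imp_spec (allLT_spec hd x.1 x.2) hx) y.1 y.2) hy)
    with h | h
  · exact Or.inl (of_com h)
  · exact Or.inr (SM.ext (eq_of_beq h))

theorem comm_Q' {x y : SM} (hx : x ∈ Q') (hy : y ∈ Q') :
    x * y = y * x ∨ x * y = y * x * z0 := by
  have hd : allLT 512 (fun a => imp (inQ' a) (allLT 512 (fun b => imp (inQ' b)
    (orB (com a b) (Nat.beq (mulN a b) (mulN (mulN b a) 10)))))) = true := by decide +kernel
  rcases orB_spec (imp_spec (allLT_spec (imp_spec (allLT_spec hd x.1 x.2) hx) y.1 y.2) hy)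
    with h | h
  · exact Or.inl (of_com h)
  · exact Or.inr (SM.ext (eq_of_beq h))

theorem U_le : (∀ x : SM, inU x.1 = true → x ∈ Q) ∧ (∀ x : SM, inU x.1 = true → x ∈ Q') := by
  constructor
  · have hd : allLT 512 (fun a => imp (inU a) (inQ a)) = true := by decide +kernel
    intro x hx
    exact imp_spec (allLT_spec hd x.1 x.2) hx
  · have hd : allLT 512 (fun a => imp (inU a) (inQ' a)) = true := by decide +kernel
    intro x hx
    exact imp_spec (allLT_spec hd x.1 x.2) hx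

/-- elements outside `R1` invert `u` -/
theorem inverts {x : SM} (h : x ∉ R1) : x * u0 = u0 * z0 * x := by
  have hd : allLT 512 (fun a => orB (inR1 a) (Nat.beq (mulN a 37) (mulN 47 a))) = true := by
    decide +kernel
  have e : u0 * z0 = el 47 := SM.ext (by decide +kernel)
  rw [e]
  rcases orB_spec (allLT_spec hd x.1 x.2) with h1 | h1
  · exact absurd (mem_R1.mpr h1) h
  · exact SM.ext (eq_of_beq h1)

theorem t43_Q {v : SM} (h : t43 v.1 = true) : v ∈ Q := (andB_spec (andB_spec h).2).2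
theorem t43_notU {v : SM} (h : t43 v.1 = true) : inU v.1 = false := by
  have hd : allLT 512 (fun a => imp (t43 a) (beqB (inU a) false)) = true := by decide +kernel
  exact beqB_spec (imp_spec (allLT_spec hd v.1 v.2) h)
theorem t43_notJ {v : SM} (h : t43 v.1 = true) : inJ v.1 = false := by
  have hd : allLT 512 (fun a => imp (t43 a) (beqB (inJ a) false)) = true := by decide +kernel
  exact beqB_spec (imp_spec (allLT_spec hd v.1 v.2) h)
theorem t40_notJ {v : SM} (h : t40 v.1 = true) : inJ v.1 = false := by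
  have hd : allLT 512 (fun a => imp (t40 a) (beqB (inJ a) false)) = true := by decide +kernel
  exact beqB_spec (imp_spec (allLT_spec hd v.1 v.2) h)
theorem t43_b {v : SM} (h : t43 v.1 = true) :
    ∃ y : SM, v * y = y * v ∧ y * y ≠ 1 ∧ y * y ≠ z0 := by
  have hd : allLT 512 (fun a => imp (t43 a) (exLT 512 (fun b =>
    andB (beqB (sq1z b) false) (com a b)))) = true := by decide +kernel
  obtain ⟨k, hk, hk'⟩ := exLT_spec (imp_spec (allLT_spec hd v.1 v.2) h)
  obtain ⟨h2, h3⟩ := andB_spec hk'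
  refine ⟨⟨k, hk⟩, of_com h3, fun h4 => ?_, fun h4 => ?_⟩
  · have := sq1z_of (x := ⟨k, hk⟩) (Or.inl h4)
    rw [beqB_spec h2] at this; exact Bool.false_ne_true this
  · have := sq1z_of (x := ⟨k, hk⟩) (Or.inr h4)
    rw [beqB_spec h2] at this; exact Bool.false_ne_true this

theorem t40_sq {v : SM} (h : t40 v.1 = true) : v * v = z0 := of_sqIs (y := z0) (andB_spec h).1
theorem t40_notU {v : SM} (h : t40 v.1 = true) : inU v.1 = false := by
  have hd : allLT 512 (fun a => imp (t40 a) (beqB (inU a) false)) = true := by decide +kernel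
  exact beqB_spec (imp_spec (allLT_spec hd v.1 v.2) h)
theorem t40_cent {v : SM} (h : t40 v.1 = true) :
    (v ∈ Q ∧ ∀ x : SM, v * x = x * v → x ∈ Q) ∨ (v ∈ Q' ∧ ∀ x : SM, v * x = x * v → x ∈ Q') := by
  have hd : allLT 512 (fun a => imp (t40 a) (orB
    (andB (inQ a) (allLT 512 (fun b => imp (com a b) (inQ b))))
    (andB (inQ' a) (allLT 512 (fun b => imp (com a b) (inQ' b)))))) = true := by decide +kernel
  rcases orB_spec (imp_spec (allLT_spec hd v.1 v.2) h) with h1 | h1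
  · obtain ⟨h2, h3⟩ := andB_spec h1
    exact Or.inl ⟨h2, fun x hx => imp_spec (allLT_spec h3 x.1 x.2) (com_of hx)⟩
  · obtain ⟨h2, h3⟩ := andB_spec h1
    exact Or.inr ⟨h2, fun x hx => imp_spec (allLT_spec h3 x.1 x.2) (com_of hx)⟩

theorem t40_norm {v g : SM} (h : t40 v.1 = true) (hg : g * v = v * z0 * g) :
    (v ∈ Q → g ∈ Q) ∧ (v ∈ Q' → g ∈ Q') := by
  have hd : allLT 512 (fun a => imp (t40 a) (allLT 512 (fun b =>
    imp (Nat.beq (mulN b a) (mulN (mulN a 10) b))
      (andB (imp (inQ a) (inQ b)) (imp (inQ' a) (inQ' b)))))) = true := by decide +kernel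
  have h1 := imp_spec (allLT_spec (imp_spec (allLT_spec hd v.1 v.2) h) g.1 g.2) (beq_of_eq hg)
  exact ⟨fun hv => imp_spec (andB_spec h1).1 hv, fun hv => imp_spec (andB_spec h1).2 hv⟩

theorem t40_bicent {v x : SM} (h : t40 v.1 = true) (hx2 : x * x = z0)
    (hx : ∀ y : SM, v * y = y * v → x * y = y * x) :
    x = u0 ∨ x = u0 * z0 ∨ x = v ∨ x = v * z0 := by
  have hd : allLT 512 (fun a => imp (t40 a) (allLT 512 (fun b => imp (sqIs b 10) (orB
    (Nat.beq b 37) (orB (Nat.beq b 47) (orB (Nat.beq b a) (orB (Nat.beq b (mulN a 10))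
      (exLT 512 (fun e => andB (com a e) (beqB (com b e) false)))))))))) = true := by decide +kernel
  have e : u0 * z0 = el 47 := SM.ext (by decide +kernel)
  rw [e]
  have h1 := imp_spec (allLT_spec (imp_spec (allLT_spec hd v.1 v.2) h) x.1 x.2)
    (sqIs_of (y := z0) hx2)
  rcases orB_spec h1 with h2 | h2
  · exact Or.inl (ext_beq (y := u0) h2)
  rcases orB_spec h2 with h3 | h3
  · exact Or.inr (Or.inl (ext_beq (y := el 47) h3))
  rcases orB_spec h3 with h4 | h4
  · exact Or.inr (Or.inr (Or.inl (ext_beq h4)))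
  rcases orB_spec h4 with h5 | h5
  · exact Or.inr (Or.inr (Or.inr (SM.ext (eq_of_beq h5))))
  · obtain ⟨k, hk, hk'⟩ := exLT_spec h5
    obtain ⟨h6, h7⟩ := andB_spec hk'
    have h8 := com_of (hx ⟨k, hk⟩ (of_com (y := ⟨k, hk⟩) h6))
    rw [show com x.1 (SM.mk k hk).1 = com x.1 k from rfl, beqB_spec h7] at h8
    exact (Bool.false_ne_true h8).elim

theorem t40_card {v : SM} (h : t40 v.1 = true) :
    Nat.card (Subgroup.centralizer ({v} : Set SM)) = 32 := by
  have hd : allLT 512 (fun a => imp (t40 a) (Nat.beq (cnt 512 (fun b => com b a)) 32)) = true := by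
    decide +kernel
  have h1 := imp_spec (allLT_spec hd v.1 v.2) h
  rw [card_sub _ (fun b => com b v.1) (fun x => by
    rw [Subgroup.mem_centralizer_singleton_iff]
    exact ⟨fun h => com_of h, fun h => of_com h⟩)]
  exact eq_of_beq h1

end Cfsg.Agent.HSType.FactsU
end

-- part: HSType/Trans
section
/-!
# Transport of subgroups of the model, large 2-subgroups centralizing an element
-/

set_option autoImplicit false
set_option linter.style.haveILetI false

namespace Cfsg.Agent.HSType.Trans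

open Cfsg.Agent.HSType.Model Cfsg.Agent.HSType.Facts Cfsg.Agent.HSType.FactsU
  Cfsg.Agent.HSType.Basic

variable {G : Type*} [Group G] (c : Ctx G)

/-- `C_G(z)` -/
def Cz : Subgroup G := Subgroup.centralizer {c.ι z0}

theorem mem_Cz {g : G} : g ∈ Cz c ↔ g * c.ι z0 * g⁻¹ = c.ι z0 := by
  unfold Cz
  rw [Subgroup.mem_centralizer_singleton_iff, mul_inv_eq_iff_eq_mul]

theorem range_le_Cz : c.ι.range ≤ Cz c := by
  rintro _ ⟨s, rfl⟩
  rw [mem_Cz, mul_inv_eq_iff_eq_mul, ← map_mul, z0_central, map_mul]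

/-- transport by conjugation -/
def tr (g : G) (X : Subgroup SM) : Subgroup SM :=
  ((X.map c.ι).map (MulAut.conj g).toMonoidHom).comap c.ι

theorem mem_tr {g : G} {X : Subgroup SM} {y : SM} :
    y ∈ tr c g X ↔ ∃ x ∈ X, g * c.ι x * g⁻¹ = c.ι y := by
  unfold tr
  rw [Subgroup.mem_comap, Subgroup.mem_map]
  constructor
  · rintro ⟨w, hw, h⟩
    rw [Subgroup.mem_map] at hw
    obtain ⟨x, hx, rfl⟩ := hw
    exact ⟨x, hx, h⟩
  · rintro ⟨x, hx, h⟩
    exact ⟨c.ι x, Subgroup.mem_map_of_mem _ hx, h⟩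

theorem conj_map_mul (g : G) (a b : G) : g * (a * b) * g⁻¹ = g * a * g⁻¹ * (g * b * g⁻¹) := by
  group

theorem conj_inj {g a b : G} (h : g * a * g⁻¹ = g * b * g⁻¹) : a = b :=
  mul_left_cancel (mul_right_cancel h)

theorem card_tr [Finite G] {g : G} {X : Subgroup SM}
    (h : ∀ x ∈ X, ∃ y, g * c.ι x * g⁻¹ = c.ι y) : Nat.card (tr c g X) = Nat.card X := by
  have h1 : ((X.map c.ι).map (MulAut.conj g).toMonoidHom) ≤ c.ι.range := by
    intro w hw
    rw [Subgroup.mem_map] at hw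
    obtain ⟨v, hv, rfl⟩ := hw
    rw [Subgroup.mem_map] at hv
    obtain ⟨x, hx, rfl⟩ := hv
    obtain ⟨y, hy⟩ := h x hx
    exact ⟨y, hy.symm⟩
  have h2 : (tr c g X).map c.ι = (X.map c.ι).map (MulAut.conj g).toMonoidHom := by
    unfold tr
    rw [Subgroup.map_comap_eq, inf_eq_right.mpr h1]
  rw [← c.card_map, h2, Subgroup.card_map_of_injective (MulAut.conj g).injective, c.card_map]

/-- a 2-subgroup of order 512 centralizing an element of the model -/
theorem central_of_big [Finite G] {P : Subgroup G} (hP : IsPGroup 2 P)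
    (hcard : Nat.card P = 512) :
    ∃ g : G, ∀ x : SM, (∀ p ∈ P, c.ι x * p = p * c.ι x) →
      (g * c.ι x * g⁻¹ = 1 ∨ g * c.ι x * g⁻¹ = c.ι z0) := by
  obtain ⟨g, hg⟩ := c.exists_conj hP
  refine ⟨g, fun x hx => ?_⟩
  -- `x ∈ P`
  have hxP : c.ι x ∈ P := by
    apply mem_sylow_of_centralizes hP (fun Q hQ => by rw [hcard]; exact c.card_le Q hQ) _ hx
    have h1 : IsPGroup 2 (Subgroup.zpowers x) := Ctx.isPGroup_SM.to_subgroup _
    have h2 := h1.map c.ι
    rwa [MonoidHom.map_zpowers] at h2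
  obtain ⟨s, hs⟩ := hg _ hxP
  -- image of `P` is everything
  have hmap : P.map (MulAut.conj g).toMonoidHom = c.ι.range := by
    apply Subgroup.eq_of_le_of_card_ge
    · intro w hw
      rw [Subgroup.mem_map] at hw
      obtain ⟨p, hp, rfl⟩ := hw
      obtain ⟨t, ht⟩ := hg p hp
      exact ⟨t, ht⟩
    · rw [Subgroup.card_map_of_injective (MulAut.conj g).injective, hcard, ← c.range, c.card_S]
  have hsc : ∀ t : SM, s * t = t * s := by
    intro t
    have ht : c.ι t ∈ P.map (MulAut.conj g).toMonoidHom := by rw [hmap]; exact ⟨t, rfl⟩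
    rw [Subgroup.mem_map] at ht
    obtain ⟨p, hp, hpt⟩ := ht
    have hpt' : g * p * g⁻¹ = c.ι t := hpt
    apply c.inj
    rw [map_mul, map_mul, hs, ← hpt', ← conj_map_mul, hx p hp, conj_map_mul]
  rcases mem_center_of_forall s hsc with h | h
  · left; rw [← hs, h, map_one]
  · right; rw [← hs, h]

/-- criterion for a subgroup of order 256 of the model to be Sylow in a subgroup -/
theorem not_dvd_relIndex [Finite G] (K : Subgroup G) (R : Subgroup SM) (hR : Nat.card R = 256)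
    (hRK : R.map c.ι ≤ K)
    (hno : ∀ P : Subgroup G, P ≤ K → IsPGroup 2 P → Nat.card P ≠ 512) :
    ¬ 2 ∣ (R.map c.ι).relIndex K := by
  haveI : Fact (Nat.Prime 2) := ⟨Nat.prime_two⟩
  have hp : IsPGroup 2 ((R.map c.ι).subgroupOf K) :=
    (c.isPGroup_map R).comap_of_injective K.subtype K.subtype_injective
  obtain ⟨Q, hQ⟩ := hp.exists_le_sylow
  have hQp : IsPGroup 2 ((Q : Subgroup K).map K.subtype) := Q.2.map _
  have hQc : Nat.card ((Q : Subgroup K).map K.subtype) = Nat.card (Q : Subgroup K) :=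
    Subgroup.card_map_of_injective K.subtype_injective
  have hle : (Q : Subgroup K).map K.subtype ≤ K := Subgroup.map_subtype_le _
  have h512 := c.card_le _ hQp
  have hne := hno _ hle hQp
  have hR' : Nat.card ((R.map c.ι).subgroupOf K) = 256 := by
    rw [← hR, ← c.card_map R]
    exact Nat.card_congr (Subgroup.subgroupOfEquivOfLe hRK).toEquiv
  have hge : 256 ≤ Nat.card (Q : Subgroup K) := by
    rw [← hR']; exact Subgroup.card_le_of_le hQ
  obtain ⟨n, hn⟩ := IsPGroup.iff_card.mp Q.2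
  rw [hQc] at h512 hne
  have hn8 : n = 8 := by
    rw [hn] at h512 hne hge
    have h1 : n ≤ 9 := by
      by_contra hcon
      have : 2 ^ 10 ≤ 2 ^ n := Nat.pow_le_pow_right (by norm_num) (by omega)
      norm_num at this; omega
    have h2 : 8 ≤ n := by
      by_contra hcon
      have : 2 ^ n ≤ 2 ^ 7 := Nat.pow_le_pow_right (by norm_num) (by omega)
      norm_num at this; omega
    have h3 : n ≠ 9 := by rintro rfl; norm_num at hne
    omega
  have heq : (R.map c.ι).subgroupOf K = (Q : Subgroup K) := by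
    apply Subgroup.eq_of_le_of_card_ge hQ
    rw [hR', hn, hn8]; norm_num
  unfold Subgroup.relIndex
  rw [heq]
  exact Q.not_dvd_index

end Cfsg.Agent.HSType.Trans
end

-- part: HSType/UFusion
section
/-!
# Conjugates of `u` in `S` under `C_G(z)`

`u ∈ S` is the element of order 4 generating `Z(C_S(u))`, `u² = z`.  Result `u_isolated`: a
`C_G(z)`-conjugate of `u` lying in `S` is `u` or `u⁻¹`.
-/

set_option autoImplicit false
set_option linter.style.haveILetI false

namespace Cfsg.Agent.HSType.UFusion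

open Cfsg.Agent.HSType.Model Cfsg.Agent.HSType.Facts Cfsg.Agent.HSType.FactsU
  Cfsg.Agent.HSType.Basic Cfsg.Agent.HSType.Trans

variable {G : Type*} [Group G] (c : Ctx G)

theorem u_sylow [Finite G] :
    ¬ 2 ∣ (R1.map c.ι).relIndex (Subgroup.centralizer {c.ι u0}) := by
  apply not_dvd_relIndex c _ R1 card_R1
  · rintro _ ⟨x, hx, rfl⟩
    rw [Subgroup.mem_centralizer_singleton_iff, ← map_mul, ← map_mul]
    have h := Subgroup.mem_centralizer_singleton_iff.mp hx
    rw [h]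
  · intro P hPK hP h512
    obtain ⟨g, hg⟩ := central_of_big c hP h512
    have h1 := hg u0 (fun p hp => by
      have h := Subgroup.mem_centralizer_singleton_iff.mp (hPK hp)
      exact h.symm)
    have h2 : (g * c.ι u0 * g⁻¹) * (g * c.ι u0 * g⁻¹) = 1 := by
      rcases h1 with h | h
      · rw [h, mul_one]
      · rw [h, ← map_mul, z0_sq, map_one]
    rw [← conj_map_mul, ← map_mul, u0_sq] at h2
    have h3 : c.ι z0 = c.ι 1 := by
      rw [map_one]; apply conj_inj (g := g); rw [h2]; group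
    exact z0_ne_one (c.inj h3)

/-- fusion of `v` back to `u`, carrying `C_S(v)` into `R1` -/
theorem back [Finite G] {g : G} {v : SM} (hg : g * c.ι u0 * g⁻¹ = c.ι v) (hgz : g ∈ Cz c) :
    ∃ h ∈ Cz c, h * c.ι v * h⁻¹ = c.ι u0 ∧
      ∀ x : SM, v * x = x * v → ∃ y ∈ R1, h * c.ι x * h⁻¹ = c.ι y := by
  set P : Subgroup G :=
    ((Subgroup.centralizer ({v} : Set SM)).map c.ι).map (MulAut.conj g⁻¹).toMonoidHom with hPdef
  have hP : IsPGroup 2 P := (c.isPGroup_map _).map _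
  have hgv : g⁻¹ * c.ι v * g = c.ι u0 := by rw [← hg]; group
  have hPK : P ≤ Subgroup.centralizer {c.ι u0} := by
    rintro _ ⟨_, ⟨x, hx, rfl⟩, rfl⟩
    have hx' := Subgroup.mem_centralizer_singleton_iff.mp hx
    rw [Subgroup.mem_centralizer_singleton_iff]
    show g⁻¹ * c.ι x * g⁻¹⁻¹ * c.ι u0 = c.ι u0 * (g⁻¹ * c.ι x * g⁻¹⁻¹)
    rw [← hgv, inv_inv]
    have h1 : c.ι x * c.ι v = c.ι v * c.ι x := by rw [← map_mul, ← map_mul, hx']
    calc g⁻¹ * c.ι x * g * (g⁻¹ * c.ι v * g) = g⁻¹ * (c.ι x * c.ι v) * g := by group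
      _ = g⁻¹ * c.ι v * g * (g⁻¹ * c.ι x * g) := by rw [h1]; group
  have hR1K : R1.map c.ι ≤ Subgroup.centralizer {c.ι u0} := by
    rintro _ ⟨x, hx, rfl⟩
    rw [Subgroup.mem_centralizer_singleton_iff, ← map_mul, ← map_mul]
    have h := Subgroup.mem_centralizer_singleton_iff.mp hx
    rw [h]
  obtain ⟨k, hk, hkP⟩ := rel_sylow hR1K (c.isPGroup_map R1) (u_sylow c) hPK hP
  have hku : k * c.ι u0 * k⁻¹ = c.ι u0 := by
    have h := Subgroup.mem_centralizer_singleton_iff.mp hk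
    rw [h, mul_inv_cancel_right]
  have hkz : k ∈ Cz c := by
    rw [mem_Cz, ← u0_sq, map_mul, conj_map_mul, hku]
  refine ⟨k * g⁻¹, (Cz c).mul_mem hkz ((Cz c).inv_mem hgz), ?_, ?_⟩
  · rw [mul_inv_rev, inv_inv]
    calc k * g⁻¹ * c.ι v * (g * k⁻¹) = k * (g⁻¹ * c.ι v * g) * k⁻¹ := by group
      _ = c.ι u0 := by rw [hgv, hku]
  · intro x hx
    have h1 : g⁻¹ * c.ι x * g⁻¹⁻¹ ∈ P :=
      ⟨c.ι x, ⟨x, Subgroup.mem_centralizer_singleton_iff.mpr hx.symm, rfl⟩, rfl⟩
    obtain ⟨y, hy, hy'⟩ := hkP _ h1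
    refine ⟨y, hy, ?_⟩
    rw [hy', mul_inv_rev]
    group

/-- the square root of a `C_G(z)`-conjugate of `u` -/
theorem no_sqrt [Finite G] {g : G} {v : SM} (hg : g * c.ι u0 * g⁻¹ = c.ι v) (hgz : g ∈ Cz c)
    (x : SM) : x * x ≠ v := by
  intro hx
  obtain ⟨h, -, hv, hC⟩ := back c hg hgz
  obtain ⟨y, -, hy⟩ := hC x (by rw [← hx, mul_assoc])
  apply no_sqrt_u0 y
  apply c.inj
  rw [map_mul, ← hy, ← conj_map_mul, ← map_mul, hx, hv]

theorem sq_of_conj {g : G} {v : SM} (hg : g * c.ι u0 * g⁻¹ = c.ι v) (hgz : g ∈ Cz c) :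
    v * v = z0 := by
  apply c.inj
  rw [map_mul, ← hg, ← conj_map_mul, ← map_mul, u0_sq]
  exact (mem_Cz c).mp hgz

theorem u0_mul_z0_notmem : inU (u0 * z0).1 = true := by decide +kernel
theorem u0_inU : inU u0.1 = true := by decide +kernel

theorem u0_ne (w : SM) (hw : inU w.1 = false) : w ≠ u0 ∧ w ≠ u0 * z0 ∧ w ≠ 1 ∧ w ≠ z0 := by
  refine ⟨?_, ?_, ?_, ?_⟩ <;> rintro rfl
  · exact absurd hw (by decide +kernel)
  · exact absurd hw (by decide +kernel)
  · exact absurd hw (by decide +kernel)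
  · exact absurd hw (by decide +kernel)

/-- squares of the transported group -/
theorem tr_le_Q_or [Finite G] {h : G} (hz : h ∈ Cz c) {X : Subgroup SM}
    (hR : ∀ x ∈ X, ∃ y ∈ R1, h * c.ι x * h⁻¹ = c.ι y)
    (hsq : ∀ x ∈ X, x * x = 1 ∨ x * x = z0) : tr c h X ≤ Q ∨ tr c h X ≤ Q' := by
  rw [← SubgroupClass.subset_union]
  intro y hy
  obtain ⟨x, hx, hxy⟩ := (mem_tr c).mp hy
  obtain ⟨y', hy', hxy'⟩ := hR x hx
  have e : y = y' := c.inj (by rw [← hxy, hxy'])
  subst e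
  have hy2 : y * y = 1 ∨ y * y = z0 := by
    rcases hsq x hx with h1 | h1
    · left; apply c.inj
      rw [map_mul, ← hxy, ← conj_map_mul, ← map_mul, h1, map_one]; group
    · right; apply c.inj
      rw [map_mul, ← hxy, ← conj_map_mul, ← map_mul, h1]
      exact (mem_Cz c).mp hz
  exact mem_Q_or_Q' hy' (by rcases hy2 with h | h <;> simp [h])

/-- abstract package for `B ∈ {Q, Q'}` -/
structure QLike (B : Subgroup SM) : Prop where
  le : B ≤ R1
  sq : ∀ x ∈ B, x * x = 1 ∨ x * x = z0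
  cent : ∀ w ∈ B, inJ w.1 = false → ∀ x ∈ R1, w * x = x * w → x ∈ B
  moved : ∀ w ∈ B, inU w.1 = false → ∃ q ∈ B, q * w = w * z0 * q
  comm : ∀ x ∈ B, ∀ y ∈ B, x * y = y * x ∨ x * y = y * x * z0
  U : ∀ x : SM, inU x.1 = true → x ∈ B
  card : Nat.card B = 64

theorem qlike_Q : QLike Q :=
  ⟨Q_le_R1, fun _ h => sq_Q h, fun _ h1 h2 _ h3 h4 => cent_Q h1 h2 h3 h4,
    fun _ h1 h2 => moved_Q h1 h2, fun _ h1 _ h2 => comm_Q h1 h2, U_le.1, card_Q⟩
theorem qlike_Q' : QLike Q' :=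
  ⟨Q'_le_R1, fun _ h => sq_Q' h, fun _ h1 h2 _ h3 h4 => cent_Q' h1 h2 h3 h4,
    fun _ h1 h2 => moved_Q' h1 h2, fun _ h1 _ h2 => comm_Q' h1 h2, U_le.2, card_Q'⟩

theorem tr_le_qlike [Finite G] {h : G} (hz : h ∈ Cz c) {X : Subgroup SM}
    (hR : ∀ x ∈ X, ∃ y ∈ R1, h * c.ι x * h⁻¹ = c.ι y)
    (hsq : ∀ x ∈ X, x * x = 1 ∨ x * x = z0) : ∃ B, QLike B ∧ tr c h X ≤ B := by
  rcases tr_le_Q_or c hz hR hsq with h1 | h1
  · exact ⟨Q, qlike_Q, h1⟩
  · exact ⟨Q', qlike_Q', h1⟩

/-- exclusion of type 43 -/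
theorem not_t43 [Finite G] {g : G} {v : SM} (hg : g * c.ι u0 * g⁻¹ = c.ι v) (hgz : g ∈ Cz c) :
    t43 v.1 ≠ true := by
  intro ht
  obtain ⟨h, hz, hv, hC⟩ := back c hg hgz
  have hzz := (mem_Cz c).mp hz
  have hvQ := t43_Q ht
  have hvR : v ∈ R1 := Q_le_R1 hvQ
  have hvu : v * u0 = u0 * v := Subgroup.mem_centralizer_singleton_iff.mp hvR
  -- the subgroup `C(v) ∩ R1`
  set X : Subgroup SM := Subgroup.centralizer {v} ⊓ R1 with hX
  have hXv : ∀ x ∈ X, v * x = x * v := fun x hx =>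
    (Subgroup.mem_centralizer_singleton_iff.mp hx.1).symm
  obtain ⟨B, hB, hle⟩ := tr_le_qlike c hz (X := X) (fun x hx => hC x (hXv x hx))
    (fun x hx => sq_Q (cent_Q hvQ (t43_notJ ht) hx.2 (hXv x hx)))
  -- `w = φ(u)`
  obtain ⟨w, hw, hwu⟩ := hC u0 hvu
  have hwB : w ∈ B := hle ((mem_tr c).mpr ⟨u0, ⟨Subgroup.mem_centralizer_singleton_iff.mpr hvu.symm,
    mem_R1.mpr (by decide +kernel)⟩, hwu⟩)
  have hwsq := sq_of_conj c hwu hz
  have hwU : inU w.1 = false := by
    cases hc : inU w.1 with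
    | false => rfl
    | true =>
      exfalso
      have hne := u0_ne v (t43_notU ht)
      rcases inU_spec hc with h1 | h1 | h1 | h1
      · rw [h1, mul_one] at hwsq; exact z0_ne_one hwsq.symm
      · apply hne.1; apply c.inj
        apply conj_inj (g := h); rw [hv, hwu, h1]
      · rw [h1, z0_sq] at hwsq; exact z0_ne_one hwsq.symm
      · apply hne.2.1
        apply c.inj; apply conj_inj (g := h)
        rw [hv, map_mul, conj_map_mul, hwu, hzz, ← map_mul, h1, mul_assoc, z0_sq, mul_one]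
  have hwJ : inJ w.1 = false := by
    rcases sq_z0_cases w hwsq with h1 | h1 | ⟨x, hx⟩ | h1 | h1
    · rw [h1] at hwU; exact absurd hwU (by decide +kernel)
    · rw [h1] at hwU; exact absurd hwU (by decide +kernel)
    · exact absurd hx (no_sqrt c hwu hz x)
    · exact t43_notJ h1
    · exact t40_notJ h1
  obtain ⟨q, hq, hqw⟩ := hB.moved w hwB hwU
  -- everything goes into `B`
  have hall : ∀ y : SM, v * y = y * v → ∃ y' ∈ B, h * c.ι y * h⁻¹ = c.ι y' := by
    intro y hy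
    obtain ⟨y', hy', hyy⟩ := hC y hy
    refine ⟨y', ?_, hyy⟩
    by_cases hyR : y ∈ R1
    · exact hle ((mem_tr c).mpr ⟨y, ⟨Subgroup.mem_centralizer_singleton_iff.mpr hy.symm, hyR⟩, hyy⟩)
    · have h1 := inverts hyR
      have h2 : y' * w = w * z0 * y' := by
        apply c.inj
        rw [map_mul, map_mul, map_mul, ← hyy, ← hwu, ← conj_map_mul, ← map_mul, h1, map_mul,
          map_mul, conj_map_mul, conj_map_mul, hzz]
      have h3 : w * (q⁻¹ * y') = (q⁻¹ * y') * w := by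
        rw [mul_assoc, h2]
        have h4 : q⁻¹ * (w * z0) = w * q⁻¹ := by
          rw [inv_mul_eq_iff_eq_mul, ← mul_assoc, eq_mul_inv_iff_mul_eq, ← hqw]
        rw [← mul_assoc q⁻¹, h4, mul_assoc]
      have h5 : q⁻¹ * y' ∈ B := hB.cent w hwB hwJ _
        (R1.mul_mem (R1.inv_mem (hB.le hq)) hy') h3
      have h6 : y' = q * (q⁻¹ * y') := by group
      rw [h6]; exact B.mul_mem hq h5
  obtain ⟨y, hy, hy1, hyz⟩ := t43_b ht
  obtain ⟨y', hy', hyy⟩ := hall y hy
  rcases hB.sq y' hy' with h1 | h1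
  · apply hy1; apply c.inj
    apply conj_inj (g := h)
    rw [map_mul, conj_map_mul, hyy, ← map_mul, h1, map_one]; group
  · apply hyz; apply c.inj
    apply conj_inj (g := h)
    rw [map_mul, conj_map_mul, hyy, ← map_mul, h1, hzz]

/-- remaining possibilities -/
theorem cases_of_conj [Finite G] {g : G} {v : SM} (hg : g * c.ι u0 * g⁻¹ = c.ι v)
    (hgz : g ∈ Cz c) : v = u0 ∨ v = u0 * z0 ∨ t40 v.1 = true := by
  rcases sq_z0_cases v (sq_of_conj c hg hgz) with h | h | ⟨x, hx⟩ | h | h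
  · exact Or.inl h
  · exact Or.inr (Or.inl h)
  · exact absurd hx (no_sqrt c hg hgz x)
  · exact absurd h (not_t43 c hg hgz)
  · exact Or.inr (Or.inr h)

end Cfsg.Agent.HSType.UFusion
end

-- part: HSType/Spec
section
/-!
# Interface definitions for the pieces of the HS-type analysis

Everything is phrased through a context `c : Ctx G` (`c.ι : SM →* G` injective with image a Sylow
2-subgroup).  `z0, u0, a0, a1 : SM`, subgroups `J, Q, Q', R1, R2` of `SM` (module `Facts`).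
-/

set_option autoImplicit false

namespace Cfsg.Agent.HSType.Spec

open Cfsg.Agent.HSType.Model Cfsg.Agent.HSType.Facts Cfsg.Agent.HSType.FactsU
  Cfsg.Agent.HSType.Basic Cfsg.Agent.HSType.Trans

/-- `Ω₁(J)`, order 8: codes `0,2,8,10,32,34,40,42` -/
def inOm (a : Nat) : Bool := Nat.beq (Nat.land a (nat_lit 469)) (nat_lit 0)
def Om : Subgroup SM := mkSub inOm (by decide +kernel) (by decide +kernel) (by decide +kernel)
/-- `V = Z(R2) = {1, a, a z, z}`: codes `0,2,8,10` -/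
def inV (a : Nat) : Bool := Nat.beq (Nat.land a (nat_lit 501)) (nat_lit 0)
def V : Subgroup SM := mkSub inV (by decide +kernel) (by decide +kernel) (by decide +kernel)
/-- `⟨u⟩` -/
def U : Subgroup SM := mkSub inU (by decide +kernel) (by decide +kernel) (by decide +kernel)
/-- `Q ∩ Q' = Q ∩ J = Ω₁(J)⟨u⟩`, order 16 -/
def OmU : Subgroup SM := Q ⊓ Q'

variable {G : Type*} [Group G] (c : Ctx G)

/-- the only `C_G(z)`-conjugates of `u` in `S` are `u, u⁻¹ = u z` -/
def IsolU : Prop := ∀ g ∈ Cz c, ∀ v : SM, g * c.ι u0 * g⁻¹ = c.ι v → v = u0 ∨ v = u0 * z0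

/-- `N` is a normal subgroup of `C_G(z)` of odd order with `⟨u⟩N` normal in `C_G(z)` -/
structure ZN (N : Subgroup G) : Prop where
  le : N ≤ Cz c
  odd : Odd (Nat.card N)
  norm : ∀ g ∈ Cz c, ∀ n ∈ N, g * n * g⁻¹ ∈ N
  mv : ∀ g ∈ Cz c, ∃ n ∈ N, g * c.ι u0 * g⁻¹ = n * c.ι u0 ∨ g * c.ι u0 * g⁻¹ = n * c.ι (u0 * z0)

/-- `J` is weakly closed -/
def WJ : Prop := ∀ g : G, (∀ x ∈ J, ∃ y : SM, g * c.ι x * g⁻¹ = c.ι y) →
  ∀ x ∈ J, ∃ y ∈ J, g * c.ι x * g⁻¹ = c.ι y

/-- `g` normalizes the image of `X` -/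
def Nm (X : Subgroup SM) (g : G) : Prop := ∀ x ∈ X, ∃ y ∈ X, g * c.ι x * g⁻¹ = c.ι y

/-- `N_G(R2) ∩ N_G(J)` contains elements moving `a` and `a z` to `z` and swapping `a`, `z` -/
structure SwapV : Prop where
  toz : ∀ w ∈ V, w ≠ 1 → ∃ n : G, Nm c J n ∧ Nm c R2 n ∧ Nm c V n ∧ n * c.ι w * n⁻¹ = c.ι z0
  swap : ∃ n : G, Nm c J n ∧ Nm c R2 n ∧ Nm c V n ∧ n * c.ι a0 * n⁻¹ = c.ι z0 ∧
    n * c.ι z0 * n⁻¹ = c.ι a0

/-- `K = C_G(V)` -/
def KV : Subgroup G := Subgroup.centralizer {c.ι z0, c.ι a0}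

/-- `C_G(V)` is 2-nilpotent with normal 2-complement `N` and Sylow 2-subgroup `R2` -/
structure KN (N : Subgroup G) : Prop where
  le : N ≤ KV c
  odd : Odd (Nat.card N)
  norm : ∀ g ∈ KV c, ∀ n ∈ N, g * n * g⁻¹ ∈ N
  prod : ∀ g ∈ KV c, ∃ n ∈ N, ∃ r ∈ R2, g = n * c.ι r

/-- `N` normal of odd order in `C_G(z)` and `B N` normal in `C_G(z)` -/
structure BN (B : Subgroup SM) (N : Subgroup G) : Prop where
  le : N ≤ Cz c
  odd : Odd (Nat.card N)
  norm : ∀ g ∈ Cz c, ∀ n ∈ N, g * n * g⁻¹ ∈ N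
  mv : ∀ g ∈ Cz c, ∀ x ∈ B, ∃ n ∈ N, ∃ y ∈ B, g * c.ι x * g⁻¹ = n * c.ι y

/-- `x` is conjugate to `z` in `G` -/
def Dz (x : SM) : Prop := ∃ g : G, g * c.ι x * g⁻¹ = c.ι z0

/-- `x` and `y` are conjugate in `C_G(z)` -/
def CC (x y : SM) : Prop := ∃ g ∈ Cz c, g * c.ι x * g⁻¹ = c.ι y

end Cfsg.Agent.HSType.Spec
end

-- part: HSType/LemmaH
section
/-!
# Lemma H of the Higman–Sims type (S1777)

`H` finite with a Sylow 2-subgroup `T` of order 64 of a certain type (two elementary abelian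
subgroups of order 16 containing all involutions).  If `B` is `Z` or `A₁`, strongly closed in `T`,
and all its involutions are conjugate, with 2-nilpotent centralizers for the involutions of `Z`,
then `B O(H)` is normal in `H`.
-/

set_option autoImplicit false
set_option maxHeartbeats 400000

namespace Cfsg.Agent.HSType.LemmaH

open Subgroup
open scoped commutatorElement
open Cfsg.Agent.J2Sylow.Functor

universe u

section gen

variable {X : Type*} [Group X]

/-- A 2-element of a subgroup `M` containing the Sylow 2-subgroup `T` is conjugate in `M` into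
`T`. -/
theorem exists_conj_mem2 [Finite X] (T : Sylow 2 X) {M : Subgroup X} (hTM : (T : Subgroup X) ≤ M)
    {t : X} (ht : t ∈ M) (h2 : ∃ k : ℕ, t ^ (2 ^ k) = 1) : ∃ m ∈ M, m * t * m⁻¹ ∈ T := by
  set P : Sylow 2 M := T.subtype hTM with hP
  have hz : IsPGroup 2 (zpowers (⟨t, ht⟩ : M)) := by
    obtain ⟨k, hk⟩ := h2
    obtain ⟨j, -, hj⟩ := (Nat.dvd_prime_pow Nat.prime_two).mp (orderOf_dvd_of_pow_eq_one hk)
    rw [IsPGroup.iff_card]
    exact ⟨j, by rw [Nat.card_zpowers, Subgroup.orderOf_mk, hj]⟩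
  obtain ⟨Q, hQ⟩ := hz.exists_le_sylow
  obtain ⟨m, hm⟩ := MulAction.exists_smul_eq M Q P
  refine ⟨m, m.2, ?_⟩
  have h1 : (⟨t, ht⟩ : M) ∈ Q := hQ (mem_zpowers _)
  have h3 : m * ⟨t, ht⟩ * m⁻¹ ∈ (m • Q : Sylow 2 M) := by
    rw [← SetLike.mem_coe, Sylow.coe_smul]
    exact Set.mem_smul_set.mpr ⟨⟨t, ht⟩, h1, rfl⟩
  rw [hm] at h3
  exact h3

/-- A 2-subgroup of a subgroup `M` containing the Sylow 2-subgroup `T` is conjugate in `M` into
`T`. -/
theorem exists_conj_le [Finite X] (T : Sylow 2 X) {M : Subgroup X} (hTM : (T : Subgroup X) ≤ M)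
    {A : Subgroup X} (ht : A ≤ M) (h2 : IsPGroup 2 A) : ∃ m ∈ M, ∀ a ∈ A, m * a * m⁻¹ ∈ T := by
  set P : Sylow 2 M := T.subtype hTM with hP
  have hz : IsPGroup 2 (A.subgroupOf M) := by
    exact h2.of_injective (A.subgroupOfEquivOfLe ht).toMonoidHom
      (A.subgroupOfEquivOfLe ht).injective
  obtain ⟨Q, hQ⟩ := hz.exists_le_sylow
  obtain ⟨m, hm⟩ := MulAction.exists_smul_eq M Q P
  refine ⟨m, m.2, ?_⟩
  intro a ha
  have h1 : (⟨a, ht ha⟩ : M) ∈ Q := hQ (mem_subgroupOf.mpr ha)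
  have h3 : m * ⟨a, ht ha⟩ * m⁻¹ ∈ (m • Q : Sylow 2 M) := by
    rw [← SetLike.mem_coe, Sylow.coe_smul]
    exact Set.mem_smul_set.mpr ⟨⟨a, ht ha⟩, h1, rfl⟩
  rw [hm] at h3
  exact h3

/-- Frattini argument -/
theorem exists_mul_mem_normalizer [Finite X] (T : Sylow 2 X) {M : Subgroup X}
    (hTM : (T : Subgroup X) ≤ M) (g : X) (hg : ∀ x ∈ T, g * x * g⁻¹ ∈ M) :
    ∃ m ∈ M, m * g ∈ normalizer (T : Set X) := by
  have hT'M : ((g • T : Sylow 2 X) : Subgroup X) ≤ M := by
    intro y hy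
    have hy' : y ∈ (g • T : Sylow 2 X) := hy
    rw [← SetLike.mem_coe, Sylow.coe_smul] at hy'
    obtain ⟨x, hx, rfl⟩ := Set.mem_smul_set.mp hy'
    exact hg x hx
  obtain ⟨m₄, hm₄⟩ := MulAction.exists_smul_eq M ((g • T : Sylow 2 X).subtype hT'M)
    (T.subtype hTM)
  refine ⟨m₄, m₄.2, ?_⟩
  refine mem_normalizer_of_conj' ?_
  intro x hx
  have h7 : (⟨g * x * g⁻¹, hg x hx⟩ : M) ∈ ((g • T : Sylow 2 X).subtype hT'M) := by
    show g * x * g⁻¹ ∈ (g • T : Sylow 2 X)
    rw [← SetLike.mem_coe, Sylow.coe_smul]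
    exact Set.mem_smul_set.mpr ⟨x, hx, rfl⟩
  have h8 : m₄ * (⟨g * x * g⁻¹, hg x hx⟩ : M) * m₄⁻¹ ∈
      (m₄ • ((g • T : Sylow 2 X).subtype hT'M) : Sylow 2 M) := by
    rw [← SetLike.mem_coe, Sylow.coe_smul]
    exact Set.mem_smul_set.mpr ⟨_, h7, rfl⟩
  rw [hm₄] at h8
  have h9 : (m₄ : X) * (g * x * g⁻¹) * (m₄ : X)⁻¹ ∈ T := h8
  have h10 : (m₄ : X) * g * x * ((m₄ : X) * g)⁻¹ = (m₄ : X) * (g * x * g⁻¹) * (m₄ : X)⁻¹ := by
    group
  rw [h10]; exact h9

/-- odd powers into 2-elements -/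
theorem exists_odd_pow [Finite X] (x : X) : ∃ m : ℕ, Odd m ∧ ∃ k : ℕ, (x ^ m) ^ (2 ^ k) = 1 := by
  obtain ⟨k, m, hm, h⟩ := Nat.exists_eq_two_pow_mul_odd (orderOf_pos x).ne'
  refine ⟨m, hm, k, ?_⟩
  rw [← pow_mul, mul_comm, ← h, pow_orderOf_eq_one]

/-- 2-elements normalizing a Sylow 2-subgroup lie in it -/
theorem mem_of_mem_normalizer [Finite X] (T : Sylow 2 X) {x : X}
    (hx : x ∈ normalizer (T : Set X)) (h2 : ∃ k : ℕ, x ^ (2 ^ k) = 1) : x ∈ T := by
  obtain ⟨m, hm, h⟩ := exists_conj_mem2 T le_normalizer hx h2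
  have h3 := (mem_normalizer_iff.mp ((normalizer (T : Set X)).inv_mem hm) (m * x * m⁻¹)).mp h
  have h4 : m⁻¹ * (m * x * m⁻¹) * m⁻¹⁻¹ = x := by group
  rwa [h4] at h3

theorem exists_odd_pow_mem [Finite X] (T : Sylow 2 X) {x : X}
    (hx : x ∈ normalizer (T : Set X)) : ∃ m : ℕ, Odd m ∧ x ^ m ∈ T := by
  obtain ⟨m, hm, hk⟩ := exists_odd_pow x
  exact ⟨m, hm, mem_of_mem_normalizer T (pow_mem hx m) hk⟩

theorem pow_conj_mem {N : Subgroup X} {c : X} (h : ∀ x ∈ N, c * x * c⁻¹ ∈ N) (k : ℕ) :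
    ∀ x ∈ N, c ^ k * x * (c ^ k)⁻¹ ∈ N := by
  induction k with
  | zero => intro x hx; simpa using hx
  | succ n ih =>
    intro x hx
    have h3 : c ^ (n + 1) * x * (c ^ (n + 1))⁻¹ = c ^ n * (c * x * c⁻¹) * (c ^ n)⁻¹ := by
      rw [pow_succ]; group
    rw [h3]
    exact ih _ (h x hx)

/-- Burnside: if `A` is a 2-subgroup of `Y`, maximal as such, with `N_Y(A) ≤ C(A)`, then
`Y = O(Y) A`. -/
theorem burnside [Finite X] {x : X} {A : Subgroup X} (hA2 : IsPGroup 2 A)
    (hAY : A ≤ centralizer ({x} : Set X))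
    (hmax : ∀ P : Subgroup X, A ≤ P → P ≤ centralizer ({x} : Set X) → IsPGroup 2 P → P ≤ A)
    (hN : ∀ r ∈ centralizer ({x} : Set X), (∀ a ∈ A, r * a * r⁻¹ ∈ A) →
      ∀ a ∈ A, r * a * r⁻¹ = a) :
    ∀ c ∈ centralizer ({x} : Set X), ∃ k ∈ K x, k * c ∈ A := by
  classical
  have : Fact (Nat.Prime 2) := ⟨Nat.prime_two⟩
  set Y : Subgroup X := centralizer ({x} : Set X) with hY
  have hAp : IsPGroup 2 (A.subgroupOf Y) :=
    hA2.of_injective (A.subgroupOfEquivOfLe hAY).toMonoidHom (A.subgroupOfEquivOfLe hAY).injective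
  obtain ⟨P, hP⟩ := hAp.exists_le_sylow
  have hPA : ∀ y : Y, y ∈ P → (y : X) ∈ A := by
    have h1 := hmax ((P : Subgroup Y).map Y.subtype) (by
      intro a ha
      exact ⟨⟨a, hAY ha⟩, hP (mem_subgroupOf.mpr ha), rfl⟩) (by
      rintro _ ⟨y, -, rfl⟩; exact y.2) (P.isPGroup'.map _)
    intro y hy
    exact h1 ⟨y, hy, rfl⟩
  have hPA' : ∀ y : Y, y ∈ P ↔ (y : X) ∈ A := fun y =>
    ⟨hPA y, fun h => hP (mem_subgroupOf.mpr h)⟩
  have hNC : normalizer (P : Set Y) ≤ centralizer (P : Set Y) := by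
    intro r hr
    rw [mem_centralizer_iff]
    intro a ha
    have h1 : ∀ a ∈ A, (r : X) * a * (r : X)⁻¹ ∈ A := by
      intro a ha
      have h2 := (mem_normalizer_iff.mp hr ⟨a, hAY ha⟩).mp ((hPA' _).mpr ha)
      exact (hPA' _).mp h2
    have h2 := hN r r.2 h1 a ((hPA' a).mp ha)
    apply Subtype.ext
    show (a : X) * r = r * a
    calc (a : X) * r = ((r : X) * a * (r : X)⁻¹) * r := by rw [h2]
      _ = _ := by group
  obtain ⟨L, hLn, hodd, hcomp⟩ : ∃ L : Subgroup Y, L.Normal ∧ ¬ 2 ∣ Nat.card L ∧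
      IsComplement' L (P : Subgroup Y) :=
    ⟨(MonoidHom.transferSylow P hNC).ker, MonoidHom.normal_ker _,
      MonoidHom.not_dvd_card_ker_transferSylow P hNC,
      MonoidHom.ker_transferSylow_isComplement' P hNC⟩
  have hLK : L.map Y.subtype ≤ K x := by
    refine le_K ?_ ?_ ?_
    · rintro _ ⟨y, -, rfl⟩; exact y.2
    · rw [Nat.card_congr (L.equivMapOfInjective _ Y.subtype_injective).symm.toEquiv,
        ← Nat.not_even_iff_odd, even_iff_two_dvd]
      exact hodd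
    · rintro c hc _ ⟨y, hy, rfl⟩
      have h1 : (⟨c, hc⟩ : Y) * y * (⟨c, hc⟩ : Y)⁻¹ ∈ L := hLn.conj_mem y hy ⟨c, hc⟩
      exact mem_map_of_mem Y.subtype h1
  intro c hc
  obtain ⟨⟨l, p⟩, hlp, -⟩ := hcomp.existsUnique ⟨c, hc⟩
  have h1 : ((l : Y) : X) * ((p : Y) : X) = c := by
    have := congrArg Subtype.val hlp
    simpa using this
  refine ⟨((l : Y) : X)⁻¹, inv_mem (hLK ⟨l, l.2, rfl⟩), ?_⟩
  rw [← h1, inv_mul_cancel_left]
  exact hPA _ p.2

end gen

/-- The configuration, one-sided. -/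
structure Conf {H : Type*} [Group H] (T : Sylow 2 H) (A A' Z : Subgroup H) : Prop where
  hAT : A ≤ T
  hAT' : A' ≤ T
  hZA : Z ≤ A
  hZA' : Z ≤ A'
  hZ : ∀ x, x ∈ A → x ∈ A' → x ∈ Z
  cT : Nat.card T = 64
  c1 : Nat.card A = 16
  c2 : Nat.card A' = 16
  cZ : Nat.card Z = 4
  e1 : ∀ a ∈ A, a * a = 1
  e2 : ∀ a ∈ A', a * a = 1
  hZc : ∀ a ∈ Z, ∀ t ∈ T, t * a = a * t
  hinv : ∀ x ∈ T, x * x = 1 → x ∈ A ∨ x ∈ A'
  k1 : ∀ a ∈ A, a ∉ Z → ∀ t ∈ T, t * a = a * t → t ∈ A
  k2 : ∀ a ∈ A', a ∉ Z → ∀ t ∈ T, t * a = a * t → t ∈ A'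
  hcomm : ⁅A, A'⁆ = Z
  hJ : ∀ n ∈ normalizer ((T : Subgroup H) : Set H),
    (∀ a ∈ A, n * a * n⁻¹ * a⁻¹ ∈ Z) ↔ (∀ a ∈ A', n * a * n⁻¹ * a⁻¹ ∈ Z)

namespace Conf

variable {H : Type*} [Group H] {T : Sylow 2 H} {A A' Z : Subgroup H}

theorem symm (C : Conf T A A' Z) : Conf T A' A Z where
  hAT := C.hAT'
  hAT' := C.hAT
  hZA := C.hZA'
  hZA' := C.hZA
  hZ := fun x h1 h2 => C.hZ x h2 h1
  cT := C.cT
  c1 := C.c2
  c2 := C.c1
  cZ := C.cZ
  e1 := C.e2
  e2 := C.e1
  hZc := C.hZc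
  hinv := fun x h1 h2 => (C.hinv x h1 h2).symm
  k1 := C.k2
  k2 := C.k1
  hcomm := by rw [commutator_comm]; exact C.hcomm
  hJ := fun n hn => (C.hJ n hn).symm

theorem conj_mem' (C : Conf T A A' Z) {a b : H} (ha : a ∈ A) (hb : b ∈ A') : b * a * b⁻¹ ∈ A := by
  have h1 : ⁅b, a⁆ ∈ ⁅A', A⁆ := commutator_mem_commutator hb ha
  rw [commutator_comm, C.hcomm] at h1
  have h2 := A.mul_mem (C.hZA h1) ha
  rw [commutatorElement_def] at h2
  simpa using h2

theorem comm (C : Conf T A A' Z) {a b : H} (ha : a ∈ A) (hb : b ∈ A) : a * b = b * a := by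
  have h1 := C.e1 a ha
  have h2 := C.e1 b hb
  have h3 := C.e1 (a * b) (A.mul_mem ha hb)
  have ha' : a⁻¹ = a := inv_eq_of_mul_eq_one_right h1
  have hb' : b⁻¹ = b := inv_eq_of_mul_eq_one_right h2
  have hab : (a * b)⁻¹ = a * b := inv_eq_of_mul_eq_one_right h3
  rw [← hab, mul_inv_rev, ha', hb']

theorem inv_eq (C : Conf T A A' Z) {a : H} (ha : a ∈ A) : a⁻¹ = a :=
  inv_eq_of_mul_eq_one_right (C.e1 a ha)

/-- `T = A A'` -/
theorem exists_mul [Finite H] (C : Conf T A A' Z) {t : H} (ht : t ∈ T) :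
    ∃ a ∈ A, ∃ b ∈ A', t = a * b := by
  classical
  have : Fintype T := Fintype.ofFinite T
  -- the surjection from `A × A'` onto the set `A A'`, with fibres of order at most 4
  let f : A × A' → T := fun p => ⟨p.1 * p.2, mul_mem (C.hAT p.1.2) (C.hAT' p.2.2)⟩
  by_contra hne
  have hcard : Nat.card (A × A') = 256 := by
    rw [Nat.card_prod, C.c1, C.c2]
  -- each fibre embeds in `Z`
  have hfib : ∀ y : T, Nat.card {p : A × A' // f p = y} ≤ 4 := by
    intro y
    by_cases h : ∃ p, f p = y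
    · obtain ⟨p0, hp0⟩ := h
      have hval : ∀ p : A × A', f p = y → (p.1 : H) * p.2 = y := by
        intro p hp
        exact congrArg Subtype.val hp
      have h0 := hval p0 hp0
      rw [← C.cZ]
      have hmem : ∀ p : {p : A × A' // f p = y}, ((p0.1 : H))⁻¹ * (p.1.1 : H) ∈ Z := by
        intro p
        apply C.hZ
        · exact A.mul_mem (A.inv_mem p0.1.2) p.1.1.2
        · have h1 := hval p.1 p.2
          have h2 : ((p0.1 : H))⁻¹ * (p.1.1 : H) = (p0.2 : H) * ((p.1.2 : H))⁻¹ := by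
            rw [inv_mul_eq_iff_eq_mul, ← mul_assoc, eq_mul_inv_iff_mul_eq, h0, h1]
          rw [h2]
          exact A'.mul_mem p0.2.2 (A'.inv_mem p.1.2.2)
      refine Nat.card_le_card_of_injective
        (fun p : {p : A × A' // f p = y} => (⟨_, hmem p⟩ : Z)) ?_
      intro p q hpq
      have h1 : ((p0.1 : H))⁻¹ * (p.1.1 : H) = ((p0.1 : H))⁻¹ * (q.1.1 : H) :=
        congrArg Subtype.val hpq
      have h2 : (p.1.1 : H) = q.1.1 := mul_left_cancel h1
      have h3 : (p.1.2 : H) = q.1.2 := by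
        have h4 := hval p.1 p.2
        have h5 := hval q.1 q.2
        rw [h2] at h4
        exact mul_left_cancel (h4.trans h5.symm)
      apply Subtype.ext
      exact Prod.ext (Subtype.ext h2) (Subtype.ext h3)
    · have : IsEmpty {p : A × A' // f p = y} := ⟨fun p => h ⟨p.1, p.2⟩⟩
      rw [Nat.card_of_isEmpty]
      omega
  have hempty : Nat.card {p : A × A' // f p = ⟨t, ht⟩} = 0 := by
    have : IsEmpty {p : A × A' // f p = ⟨t, ht⟩} := by
      refine ⟨fun p => hne ⟨p.1.1, p.1.1.2, p.1.2, p.1.2.2, ?_⟩⟩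
      exact (congrArg Subtype.val p.2).symm
    exact Nat.card_of_isEmpty
  have hsum : Nat.card (A × A') = ∑ y : T, Nat.card {p : A × A' // f p = y} := by
    rw [Nat.card_congr (Equiv.sigmaFiberEquiv f).symm, Nat.card_sigma]
    rfl
  have h3 : ∑ y : T, Nat.card {p : A × A' // f p = y} < ∑ _y : T, 4 := by
    refine Finset.sum_lt_sum (fun y _ => hfib y) ⟨⟨t, ht⟩, Finset.mem_univ _, ?_⟩
    rw [hempty]; omega
  rw [Finset.sum_const, Finset.card_univ, ← Nat.card_eq_fintype_card, C.cT, smul_eq_mul] at h3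
  rw [hcard] at hsum
  omega

theorem T_conj [Finite H] (C : Conf T A A' Z) {t : H} (ht : t ∈ T) {a : H} (ha : a ∈ A) :
    t * a * t⁻¹ ∈ A := by
  obtain ⟨x, hx, y, hy, rfl⟩ := C.exists_mul ht
  have h1 : x * y * a * (x * y)⁻¹ = x * (y * a * y⁻¹) * x⁻¹ := by group
  rw [h1]
  exact A.mul_mem (A.mul_mem hx (C.conj_mem' ha hy)) (A.inv_mem hx)

theorem T_conj_Z [Finite H] (C : Conf T A A' Z) {t : H} (ht : t ∈ T) {a : H} (ha : a ∈ A) :
    t * a * t⁻¹ * a⁻¹ ∈ Z := by
  obtain ⟨x, hx, y, hy, rfl⟩ := C.exists_mul ht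
  have h0 : y * a * y⁻¹ ∈ A := C.conj_mem' ha hy
  have h1 : x * y * a * (x * y)⁻¹ * a⁻¹ = x * (y * a * y⁻¹) * x⁻¹ * a⁻¹ := by group
  have h2 : x * (y * a * y⁻¹) * x⁻¹ = y * a * y⁻¹ := by
    rw [C.comm hx h0]; group
  rw [h1, h2]
  have h3 : ⁅y, a⁆ ∈ ⁅A', A⁆ := commutator_mem_commutator hy ha
  rw [commutator_comm, C.hcomm, commutatorElement_def] at h3
  exact h3

theorem T_le [Finite H] (C : Conf T A A' Z) : (T : Subgroup H) ≤ normalizer (A : Set H) := by
  intro t ht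
  exact mem_normalizer_of_conj' fun a ha => C.T_conj ht ha

theorem ne [Finite H] (C : Conf T A A' Z) : A ≠ A' := by
  intro h
  have h1 : A ≤ Z := fun x hx => C.hZ x hx (h ▸ hx)
  have h2 := card_le_of_le h1
  rw [C.c1, C.cZ] at h2
  omega

/-- an elementary abelian subgroup of `T` of order 16 is `A` or `A'` -/
theorem eq_or_eq [Finite H] (C : Conf T A A' Z) {B : Subgroup H} (hB : B ≤ T)
    (h2 : ∀ b ∈ B, b * b = 1) (hc : Nat.card B = 16) : B = A ∨ B = A' := by
  have key : B ≤ A ∨ B ≤ A' := by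
    by_contra hne
    push Not at hne
    obtain ⟨x, hx, hxA⟩ := Set.not_subset.mp hne.1
    obtain ⟨y, hy, hyA⟩ := Set.not_subset.mp hne.2
    have hx' : x ∈ A' := (C.hinv x (hB hx) (h2 x hx)).resolve_left hxA
    have hy' : y ∈ A := (C.hinv y (hB hy) (h2 y hy)).resolve_right hyA
    have hxy : x * y ∈ B := B.mul_mem hx hy
    rcases C.hinv (x * y) (hB hxy) (h2 _ hxy) with h | h
    · apply hxA
      have := A.mul_mem h (A.inv_mem hy')
      simpa using this
    · apply hyA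
      have := A'.mul_mem (A'.inv_mem hx') h
      simpa using this
  rcases key with h | h
  · left
    exact eq_of_le_of_card_ge h (by rw [C.c1, hc])
  · right
    exact eq_of_le_of_card_ge h (by rw [C.c2, hc])

theorem normalizer_le [Finite H] (C : Conf T A A' Z) :
    normalizer ((T : Subgroup H) : Set H) ≤ normalizer (A : Set H) := by
  intro n hn
  have hmap : ∀ {B : Subgroup H}, B ≤ T → (∀ b ∈ B, b * b = 1) → Nat.card B = 16 →
      B.map (MulAut.conj n).toMonoidHom = A ∨ B.map (MulAut.conj n).toMonoidHom = A' := by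
    intro B hB h2 hc
    refine C.eq_or_eq ?_ ?_ ?_
    · rintro _ ⟨b, hb, rfl⟩
      exact (mem_normalizer_iff.mp hn b).mp (hB hb)
    · rintro _ ⟨b, hb, rfl⟩
      show n * b * n⁻¹ * (n * b * n⁻¹) = 1
      have h3 := h2 b hb
      calc n * b * n⁻¹ * (n * b * n⁻¹) = n * (b * b) * n⁻¹ := by group
        _ = 1 := by rw [h3]; group
    · rw [← hc]
      exact Nat.card_congr (B.equivMapOfInjective _ (MulAut.conj n).injective).symm.toEquiv
  rcases hmap C.hAT C.e1 C.c1 with h | h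
  · refine mem_normalizer_of_conj' ?_
    intro x hx
    have h1 : n * x * n⁻¹ ∈ A.map (MulAut.conj n).toMonoidHom := ⟨x, hx, rfl⟩
    rwa [h] at h1
  · exfalso
    -- `n` swaps
    have h' : A'.map (MulAut.conj n).toMonoidHom = A := by
      rcases hmap C.hAT' C.e2 C.c2 with h1 | h1
      · exact h1
      · exfalso
        apply C.ne
        exact Subgroup.map_injective (MulAut.conj n).injective (h.trans h1.symm)
    have s1 : ∀ x ∈ A, n * x * n⁻¹ ∈ A' := by
      intro x hx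
      have h1 : n * x * n⁻¹ ∈ A.map (MulAut.conj n).toMonoidHom := ⟨x, hx, rfl⟩
      rwa [h] at h1
    have s2 : ∀ x ∈ A', n * x * n⁻¹ ∈ A := by
      intro x hx
      have h1 : n * x * n⁻¹ ∈ A'.map (MulAut.conj n).toMonoidHom := ⟨x, hx, rfl⟩
      rwa [h'] at h1
    obtain ⟨m, ⟨k, hk⟩, hmT⟩ := exists_odd_pow_mem T hn
    have s3 : ∀ x ∈ A, n * n * x * (n * n)⁻¹ ∈ A := by
      intro x hx
      have h1 : n * n * x * (n * n)⁻¹ = n * (n * x * n⁻¹) * n⁻¹ := by group
      rw [h1]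
      exact s2 _ (s1 x hx)
    have s4 : ∀ x ∈ A, n ^ m * x * (n ^ m)⁻¹ ∈ A' := by
      intro x hx
      have h1 := pow_conj_mem (N := A) (c := n * n) s3 k x hx
      have h2 := s1 _ h1
      have h3 : n ^ m * x * (n ^ m)⁻¹ = n * ((n * n) ^ k * x * ((n * n) ^ k)⁻¹) * n⁻¹ := by
        rw [hk, pow_succ', pow_mul, pow_two]; group
      rw [h3]; exact h2
    apply C.ne
    have h5 : A ≤ A' := by
      intro x hx
      -- x = n^m x' n^-m
      have h6 : (n ^ m)⁻¹ * x * (n ^ m)⁻¹⁻¹ ∈ A := C.T_conj (inv_mem hmT) hx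
      have h7 := s4 _ h6
      have h8 : n ^ m * ((n ^ m)⁻¹ * x * (n ^ m)⁻¹⁻¹) * (n ^ m)⁻¹ = x := by group
      rwa [h8] at h7
    exact eq_of_le_of_card_ge h5 (by rw [C.c1, C.c2])

theorem exists_notMem [Finite H] (C : Conf T A A' Z) : ∃ a ∈ A, a ∉ Z := by
  by_contra hne
  push Not at hne
  have h2 := card_le_of_le (H := A) (K := Z) hne
  rw [C.c1, C.cZ] at h2
  omega

/-- 2-elements centralizing `A` lie in `A` -/
theorem hself [Finite H] (C : Conf T A A' Z) (x : H) (h2 : ∃ k : ℕ, x ^ (2 ^ k) = 1)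
    (hx : ∀ j ∈ A, x * j = j * x) : x ∈ A := by
  have hxN : x ∈ normalizer (A : Set H) := by
    refine mem_normalizer_of_conj' ?_
    intro a ha
    rw [hx a ha, mul_inv_cancel_right]
    exact ha
  obtain ⟨g, hg, hgT⟩ := exists_conj_mem2 T C.T_le hxN h2
  obtain ⟨a, ha, haZ⟩ := C.exists_notMem
  have h3 : g * x * g⁻¹ ∈ A := by
    refine C.k1 a ha haZ _ hgT ?_
    have h4 : g⁻¹ * a * g ∈ A := by
      have h5 := (mem_normalizer_iff.mp ((normalizer (A : Set H)).inv_mem hg) a).mp ha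
      rwa [inv_inv] at h5
    have h5 := hx _ h4
    calc g * x * g⁻¹ * a = g * (x * (g⁻¹ * a * g)) * g⁻¹ := by group
      _ = g * ((g⁻¹ * a * g) * x) * g⁻¹ := by rw [h5]
      _ = a * (g * x * g⁻¹) := by group
  have h5 := (mem_normalizer_iff.mp ((normalizer (A : Set H)).inv_mem hg) _).mp h3
  have h6 : g⁻¹ * (g * x * g⁻¹) * g⁻¹⁻¹ = x := by group
  rwa [h6] at h5

theorem isPGroup [Finite H] (C : Conf T A A' Z) : IsPGroup 2 A := by
  have : Fact (Nat.Prime 2) := ⟨Nat.prime_two⟩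
  rw [IsPGroup.iff_card]
  exact ⟨4, by rw [C.c1]; norm_num⟩

/-- `A` is the Sylow 2-subgroup of `C(x)` -/
theorem max_of [Finite H] (C : Conf T A A' Z) {x : H} (hx : x ∈ A)
    (hnc : ∀ h : H, h * x * h⁻¹ ∉ Z) (P : Subgroup H) (hAP : A ≤ P)
    (hPx : P ≤ centralizer ({x} : Set H)) (hP : IsPGroup 2 P) : P ≤ A := by
  have : Fact (Nat.Prime 2) := ⟨Nat.prime_two⟩
  obtain ⟨g, -, hg⟩ := exists_conj_le T (M := ⊤) le_top (A := P) le_top hP
  have hxT : g * x * g⁻¹ ∈ T := hg x (hAP hx)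
  have hx2 : (g * x * g⁻¹) * (g * x * g⁻¹) = 1 := by
    have h3 := C.e1 x hx
    calc (g * x * g⁻¹) * (g * x * g⁻¹) = g * (x * x) * g⁻¹ := by group
      _ = 1 := by rw [h3]; group
  have hcx : ∀ p ∈ P, (g * p * g⁻¹) * (g * x * g⁻¹) = (g * x * g⁻¹) * (g * p * g⁻¹) := by
    intro p hp
    have h3 := mem_centralizer_singleton_iff.mp (hPx hp)
    calc (g * p * g⁻¹) * (g * x * g⁻¹) = g * (p * x) * g⁻¹ := by group
      _ = g * (x * p) * g⁻¹ := by rw [h3]
      _ = _ := by group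
  have hcard : Nat.card P ≤ 16 := by
    have hle : ∀ B : Subgroup H, (∀ p ∈ P, g * p * g⁻¹ ∈ B) → Nat.card P ≤ Nat.card B := by
      intro B hB
      refine Nat.card_le_card_of_injective (fun p : P => (⟨g * p * g⁻¹, hB p p.2⟩ : B)) ?_
      intro p q hpq
      have h1 : g * (p : H) * g⁻¹ = g * (q : H) * g⁻¹ := congrArg Subtype.val hpq
      apply Subtype.ext
      exact mul_left_cancel (mul_right_cancel h1)
    rcases C.hinv _ hxT hx2 with h | h
    · rw [← C.c1]
      exact hle A fun p hp => C.k1 _ h (hnc g) _ (hg p hp) (hcx p hp)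
    · rw [← C.c2]
      exact hle A' fun p hp => C.k2 _ h (hnc g) _ (hg p hp) (hcx p hp)
  have h1 : A = P := eq_of_le_of_card_ge hAP (by rw [C.c1]; exact hcard)
  exact h1.ge

/-- the action is nontrivial on `A/Z` for elements of odd order -/
theorem quot_trivial [Finite H] (C : Conf T A A' Z) {x r : H} (hx : x ∈ A) (hxZ : x ∉ Z)
    (hrA : ∀ a ∈ A, r * a * r⁻¹ ∈ A) (hrZ : ∀ a ∈ Z, r * a * r⁻¹ ∈ Z) (hrx : r * x * r⁻¹ = x)
    {m : ℕ} (hm : Odd m) (hrm : ∀ a ∈ A, r ^ m * a * (r ^ m)⁻¹ = a) :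
    ∀ a ∈ A, r * a * r⁻¹ * a⁻¹ ∈ Z := by
  -- four cosets
  have hind : ∀ a ∈ A, ∀ b ∈ A, a ∈ Z ∨ b ∈ Z ∨ a * b ∈ Z ∨ x * a ∈ Z ∨ x * b ∈ Z ∨
      x * (a * b) ∈ Z := by
    intro a ha b hb
    by_contra hne
    push Not at hne
    obtain ⟨h1, h2, h3, h4, h5, h6⟩ := hne
    -- five distinct cosets of `Z` in `A`: 1, x, a, b, ...
    have hZA : Z.relIndex A = 4 := by
      have h7 := card_mul_index (Z.subgroupOf A)
      rw [Nat.card_congr (subgroupOfEquivOfLe C.hZA).toEquiv, C.cZ, C.c1] at h7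
      show (Z.subgroupOf A).index = 4
      omega
    have hfin : Nat.card (A ⧸ Z.subgroupOf A) = 4 := hZA
    let g : Fin 5 → A ⧸ Z.subgroupOf A := ![((1 : A) : A ⧸ _), ((⟨x, hx⟩ : A) : A ⧸ _),
      ((⟨a, ha⟩ : A) : A ⧸ _), ((⟨b, hb⟩ : A) : A ⧸ _), ((⟨a, ha⟩ * ⟨b, hb⟩ : A) : A ⧸ _)]
    have hqe : ∀ u v : A, (u : A ⧸ Z.subgroupOf A) = v ↔ (u : H) * v ∈ Z := by
      intro u v
      rw [QuotientGroup.eq, mem_subgroupOf]
      show (u : H)⁻¹ * v ∈ Z ↔ _
      rw [C.inv_eq u.2]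
    have hcan : ∀ u v : H, u ∈ A → v ∈ A → u * (u * v) = v := by
      intro u v hu _
      rw [← mul_assoc, C.e1 u hu, one_mul]
    have hcab := C.comm ha hb
    have hginj : Function.Injective g := by
      intro i j hij
      fin_cases i <;> fin_cases j <;>
        simp only [g, Matrix.cons_val_zero, Matrix.cons_val_one, Matrix.cons_val, Fin.zero_eta,
          Fin.mk_one, Fin.reduceFinMk] at hij ⊢ <;>
        rw [hqe] at hij <;> exfalso <;>
        simp only [coe_mul, coe_one, one_mul, mul_one] at hij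
      · exact hxZ hij
      · exact h1 hij
      · exact h2 hij
      · exact h3 hij
      · exact hxZ hij
      · exact h4 hij
      · exact h5 hij
      · exact h6 hij
      · exact h1 hij
      · exact h4 (by rwa [C.comm ha hx] at hij)
      · exact h3 hij
      · exact h2 (by rwa [hcan a b ha hb] at hij)
      · exact h2 hij
      · exact h5 (by rwa [C.comm hb hx] at hij)
      · exact h3 (by rwa [← hcab] at hij)
      · exact h1 (by rwa [hcab, hcan b a hb ha] at hij)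
      · exact h3 hij
      · exact h6 (by rwa [C.comm (A.mul_mem ha hb) hx] at hij)
      · exact h2 (by rwa [C.comm (A.mul_mem ha hb) ha, hcan a b ha hb] at hij)
      · exact h1 (by rwa [C.comm (A.mul_mem ha hb) hb, hcab, hcan b a hb ha] at hij)
    have h8 := Nat.card_le_card_of_injective g hginj
    rw [hfin, Nat.card_eq_fintype_card, Fintype.card_fin] at h8
    omega
  intro a ha
  have hra := hrA a ha
  rw [C.inv_eq ha]
  by_cases haZ : a ∈ Z
  · exact Z.mul_mem (hrZ a haZ) haZ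
  by_cases hxa : x * a ∈ Z
  · -- a = x z
    have h1 := hrZ _ hxa
    have h2 : r * (x * a) * r⁻¹ = (r * x * r⁻¹) * (r * a * r⁻¹) := by group
    rw [h2, hrx] at h1
    have h3 := Z.mul_mem h1 hxa
    have h4 : x * (r * a * r⁻¹) * (x * a) = (r * a * r⁻¹) * a := by
      rw [C.comm hx hra]
      calc (r * a * r⁻¹) * x * (x * a) = (r * a * r⁻¹) * (x * x) * a := by group
        _ = _ := by rw [C.e1 x hx, mul_one]
    rwa [h4] at h3
  -- general case
  have hodd : ∀ b ∈ A, b ∉ Z → x * b ∉ Z → r * b * r⁻¹ ∉ Z ∧ x * (r * b * r⁻¹) ∉ Z := by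
    have hinvZ : ∀ b ∈ A, r * b * r⁻¹ ∈ Z → b ∈ Z := by
      intro b hb hbZ
      have hrZ' : r ∈ normalizer (Z : Set H) := mem_normalizer_of_conj' hrZ
      exact (mem_normalizer_iff.mp hrZ' b).mpr hbZ
    intro b hb hbZ hxb
    refine ⟨fun h => hbZ (hinvZ b hb h), fun h => hxb (hinvZ (x * b) (A.mul_mem hx hb) ?_)⟩
    have h2 : r * (x * b) * r⁻¹ = (r * x * r⁻¹) * (r * b * r⁻¹) := by group
    rw [h2, hrx]; exact h
  by_contra hne
  have h1 := hodd a ha haZ hxa
  have hor := hind _ hra a ha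
  have h5 : x * (r * a * r⁻¹ * a) ∈ Z := by
    rcases hor with h | h | h | h | h | h
    · exact absurd h h1.1
    · exact absurd h haZ
    · exact absurd h hne
    · exact absurd h h1.2
    · exact absurd h hxa
    · exact h
  -- so `r` swaps `aZ` and `xaZ`
  have hstep : ∀ k : ℕ, x ^ k * (r ^ k * a * (r ^ k)⁻¹ * a) ∈ Z ∧ r ^ k * a * (r ^ k)⁻¹ ∈ A := by
    intro k
    induction k with
    | zero => simp [C.e1 a ha, Z.one_mem, ha]
    | succ k ih =>
      obtain ⟨ih1, ih2⟩ := ih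
      have hxk : x ^ k ∈ A := A.pow_mem hx k
      have h6 : r ^ (k + 1) * a * (r ^ (k + 1))⁻¹ = r * (r ^ k * a * (r ^ k)⁻¹) * r⁻¹ := by
        rw [pow_succ']; group
      have h7 : r ^ (k + 1) * a * (r ^ (k + 1))⁻¹ ∈ A := by rw [h6]; exact hrA _ ih2
      refine ⟨?_, h7⟩
      have h8 := hrZ _ ih1
      have h9 : r * (x ^ k * (r ^ k * a * (r ^ k)⁻¹ * a)) * r⁻¹ =
          (r * x ^ k * r⁻¹) * (r * (r ^ k * a * (r ^ k)⁻¹) * r⁻¹) * (r * a * r⁻¹) := by group
      have h10 : r * x ^ k * r⁻¹ = x ^ k := by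
        rw [← conj_pow, hrx]
      rw [h9, h10, ← h6] at h8
      have h11 := Z.mul_mem h8 h5
      have h12 : x ^ k * (r ^ (k + 1) * a * (r ^ (k + 1))⁻¹) * (r * a * r⁻¹) *
          (x * (r * a * r⁻¹ * a)) = x ^ (k + 1) * (r ^ (k + 1) * a * (r ^ (k + 1))⁻¹ * a) := by
        have c4 : ∀ u ∈ A, ∀ v ∈ A, x ^ k * u * v * (x * (v * a)) = x ^ (k + 1) * (u * a) := by
          intro u hu v hv
          have d1 := C.comm hx hu
          have d2 := C.comm hx hv
          have d3 := C.e1 v hv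
          calc x ^ k * u * v * (x * (v * a)) = x ^ k * u * (v * x) * (v * a) := by
                simp only [mul_assoc]
            _ = x ^ k * u * (x * v) * (v * a) := by rw [d2]
            _ = x ^ k * (u * x) * (v * v) * a := by simp only [mul_assoc]
            _ = x ^ k * (x * u) * a := by rw [d3, ← d1, mul_one]
            _ = x ^ (k + 1) * (u * a) := by rw [pow_succ]; simp only [mul_assoc]
        exact c4 _ h7 _ hra
      rw [h12] at h11
      exact h11
  obtain ⟨j, hj⟩ := hm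
  have h6 := (hstep m).1
  rw [hrm a ha, C.e1 a ha, mul_one, hj, pow_add, pow_mul, pow_two, C.e1 x hx, one_pow, one_mul,
    pow_one] at h6
  exact hxZ h6

/-- **2-nilpotency of the centralizers of the other involutions.** -/
theorem nilp [Finite H] (C : Conf T A A' Z) {x : H} (hx : x ∈ A) (hxZ : x ∉ Z)
    (hnc : ∀ h : H, h * x * h⁻¹ ∉ Z)
    (hNZ : ∀ n ∈ normalizer (A : Set H), ∀ z ∈ Z, n * z * n⁻¹ ∈ Z) :
    ∀ c ∈ centralizer ({x} : Set H), ∃ k ∈ K x, k * c ∈ A := by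
  have : Fact (Nat.Prime 2) := ⟨Nat.prime_two⟩
  have hAx : A ≤ centralizer ({x} : Set H) := by
    intro a ha
    rw [mem_centralizer_singleton_iff]
    exact C.comm ha hx
  refine burnside C.isPGroup hAx (C.max_of hx hnc) ?_
  intro r hr hrA
  have hrx : r * x * r⁻¹ = x := by
    rw [mem_centralizer_singleton_iff.mp hr, mul_inv_cancel_right]
  have hrN : r ∈ normalizer (A : Set H) := mem_normalizer_of_conj' hrA
  -- an odd power of `r` centralizes `A`
  obtain ⟨m, hm, hrm⟩ : ∃ m : ℕ, Odd m ∧ ∀ a ∈ A, r ^ m * a * (r ^ m)⁻¹ = a := by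
    obtain ⟨m, hm, hk⟩ := exists_odd_pow r
    refine ⟨m, hm, ?_⟩
    -- `r ^ m ∈ A`
    have h1 : r ^ m ∈ A := by
      have hmax := C.max_of hx hnc (A ⊔ zpowers (r ^ m)) le_sup_left
        (sup_le hAx ((zpowers_le).mpr (pow_mem hr m))) ?_
      · exact hmax (le_sup_right (a := A) (mem_zpowers _))
      · have hz : IsPGroup 2 (zpowers (r ^ m)) := by
          obtain ⟨k, hk⟩ := hk
          obtain ⟨j, -, hj⟩ := (Nat.dvd_prime_pow Nat.prime_two).mp (orderOf_dvd_of_pow_eq_one hk)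
          rw [IsPGroup.iff_card]
          exact ⟨j, by rw [Nat.card_zpowers, hj]⟩
        exact C.isPGroup.to_sup_of_normal_left' hz (by
          rw [zpowers_le]; exact pow_mem hrN m)
    intro a ha
    rw [C.comm h1 ha, mul_inv_cancel_right]
  have hq := C.quot_trivial hx hxZ hrA (hNZ r hrN) hrx hm hrm
  -- the group `M0`
  let M0 : Subgroup H :=
    { carrier := {k | (∀ a ∈ A, k * a * k⁻¹ * a⁻¹ ∈ Z) ∧ ∀ z ∈ Z, k * z = z * k}
      one_mem' := ⟨fun a _ => by simp [Z.one_mem], fun z _ => by simp⟩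
      mul_mem' := by
        rintro k l ⟨hk1, hk2⟩ ⟨hl1, hl2⟩
        refine ⟨fun a ha => ?_, fun z hz => ?_⟩
        · have h1 := hl1 a ha
          have h2 := hk1 a ha
          have h3 := hk2 _ h1
          have h4 : k * l * a * (k * l)⁻¹ * a⁻¹ =
              (k * (l * a * l⁻¹ * a⁻¹) * k⁻¹) * (k * a * k⁻¹ * a⁻¹) := by group
          rw [h4, h3, mul_inv_cancel_right]
          exact Z.mul_mem h1 h2
        · rw [mul_assoc, hl2 z hz, ← mul_assoc, hk2 z hz, mul_assoc]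
      inv_mem' := by
        rintro k ⟨hk1, hk2⟩
        have hk2' : ∀ z ∈ Z, k⁻¹ * z = z * k⁻¹ := by
          intro z hz
          rw [inv_mul_eq_iff_eq_mul, ← mul_assoc, hk2 z hz, mul_inv_cancel_right]
        refine ⟨fun a ha => ?_, hk2'⟩
        have h1 := hk1 a ha
        have h2 := hk2' _ h1
        have h3 : k⁻¹ * a * k⁻¹⁻¹ * a⁻¹ = k⁻¹ * (k * a * k⁻¹ * a⁻¹)⁻¹ * k := by group
        rw [h3]
        have h4 := hk2' _ (Z.inv_mem h1)
        rw [h4, inv_mul_cancel_right]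
        exact Z.inv_mem h1 }
  have hM0 : ∀ k, k ∈ M0 ↔ (∀ a ∈ A, k * a * k⁻¹ * a⁻¹ ∈ Z) ∧ ∀ z ∈ Z, k * z = z * k :=
    fun k => Iff.rfl
  have hTM0 : (T : Subgroup H) ≤ M0 := by
    intro t ht
    rw [hM0]
    exact ⟨fun a ha => C.T_conj_Z ht ha, fun z hz => C.hZc z hz t ht⟩
  have hM0n : ∀ n ∈ normalizer (A : Set H), ∀ k ∈ M0, n * k * n⁻¹ ∈ M0 := by
    intro n hn k hk
    rw [hM0] at hk ⊢
    have hn' := (normalizer (A : Set H)).inv_mem hn
    refine ⟨fun a ha => ?_, fun z hz => ?_⟩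
    · have h1 : n⁻¹ * a * n ∈ A := by
        have := (mem_normalizer_iff.mp hn' a).mp ha
        rwa [inv_inv] at this
      have h2 := hNZ n hn _ (hk.1 _ h1)
      have h3 : n * k * n⁻¹ * a * (n * k * n⁻¹)⁻¹ * a⁻¹ =
          n * (k * (n⁻¹ * a * n) * k⁻¹ * (n⁻¹ * a * n)⁻¹) * n⁻¹ := by group
      rw [h3]; exact h2
    · have h1 : n⁻¹ * z * n ∈ Z := by
        have := hNZ _ hn' z hz
        rwa [inv_inv] at this
      have h2 := hk.2 _ h1
      calc n * k * n⁻¹ * z = n * (k * (n⁻¹ * z * n)) * n⁻¹ := by group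
        _ = n * ((n⁻¹ * z * n) * k) * n⁻¹ := by rw [h2]
        _ = z * (n * k * n⁻¹) := by group
  have hM0A : M0 ≤ normalizer (A : Set H) := by
    intro k hk
    refine mem_normalizer_of_conj' ?_
    intro a ha
    have h1 := A.mul_mem (C.hZA (hk.1 a ha)) ha
    simpa using h1
  -- `M0 = C(A) T`
  have hcomm : ∀ k ∈ M0, ∀ l ∈ M0, ∀ a ∈ A, (k * l) * a * (k * l)⁻¹ = (l * k) * a * (l * k)⁻¹ := by
    intro k hk l hl a ha
    have h1 : ∀ k ∈ M0, ∀ l ∈ M0, (k * l) * a * (k * l)⁻¹ =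
        (l * a * l⁻¹ * a⁻¹) * (k * a * k⁻¹ * a⁻¹) * a := by
      intro k hk l hl
      have h2 := hk.2 _ (hl.1 a ha)
      have h3 : (k * l) * a * (k * l)⁻¹ = (k * (l * a * l⁻¹ * a⁻¹)) * k⁻¹ * (k * a * k⁻¹) := by
        group
      rw [h3, h2]; group
    rw [h1 k hk l hl, h1 l hl k hk]
    have h4 := C.comm (C.hZA (hl.1 a ha)) (C.hZA (hk.1 a ha))
    rw [h4]
  have hdec : ∀ k ∈ M0, ∃ t ∈ T, ∀ a ∈ A, k * a * k⁻¹ = t * a * t⁻¹ := by
    intro k hk
    obtain ⟨m, hm, hk2⟩ := exists_odd_pow k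
    obtain ⟨g, hg, hgT⟩ := exists_conj_mem2 T hTM0 (pow_mem hk m) hk2
    refine ⟨g * k ^ m * g⁻¹, hgT, ?_⟩
    intro a ha
    have h1 : ∀ a ∈ A, (k * k) * a * (k * k)⁻¹ = a := by
      intro a ha
      have h2 := hk.2 _ (hk.1 a ha)
      have h3 : (k * k) * a * (k * k)⁻¹ = (k * (k * a * k⁻¹ * a⁻¹)) * k⁻¹ * (k * a * k⁻¹) := by
        group
      rw [h3, h2]
      have h4 := C.e1 _ (C.hZA (hk.1 a ha))
      calc (k * a * k⁻¹ * a⁻¹) * k * k⁻¹ * (k * a * k⁻¹)
          = ((k * a * k⁻¹ * a⁻¹) * (k * a * k⁻¹ * a⁻¹)) * a := by group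
        _ = a := by rw [h4, one_mul]
    have h2 : ∀ j : ℕ, ∀ a ∈ A, (k * k) ^ j * a * ((k * k) ^ j)⁻¹ = a := by
      intro j
      induction j with
      | zero => intro a _; simp
      | succ j ih =>
        intro a ha
        have h3 : (k * k) ^ (j + 1) * a * ((k * k) ^ (j + 1))⁻¹ =
            (k * k) ^ j * ((k * k) * a * (k * k)⁻¹) * ((k * k) ^ j)⁻¹ := by
          rw [pow_succ]; group
        rw [h3, h1 a ha, ih a ha]
    have h3 : ∀ a ∈ A, k ^ m * a * (k ^ m)⁻¹ = k * a * k⁻¹ := by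
      intro a ha
      obtain ⟨j, hj⟩ := hm
      have h4 : k ^ m * a * (k ^ m)⁻¹ = k * ((k * k) ^ j * a * ((k * k) ^ j)⁻¹) * k⁻¹ := by
        rw [hj, pow_succ', pow_mul, pow_two]; group
      rw [h4, h2 j a ha]
    have hg' := M0.inv_mem hg
    have h5 := hcomm (g * k ^ m) (M0.mul_mem hg (pow_mem hk m)) g⁻¹ hg' a ha
    have h6 : g⁻¹ * (g * k ^ m) = k ^ m := by group
    rw [h6, h3 a ha] at h5
    exact h5.symm
  -- Frattini
  obtain ⟨g, hg, hgN⟩ := exists_mul_mem_normalizer T hTM0 r (fun t ht => hM0n r hrN t (hTM0 ht))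
  obtain ⟨t, ht, htg⟩ := hdec g⁻¹ (M0.inv_mem hg)
  -- `n = t * (g * r)` acts on `A` as `r`
  have hnN : t * (g * r) ∈ normalizer ((T : Subgroup H) : Set H) :=
    mul_mem (le_normalizer ht) hgN
  have hact : ∀ a ∈ A, (t * (g * r)) * a * (t * (g * r))⁻¹ = r * a * r⁻¹ := by
    intro a ha
    have h1 : g * r * a * (g * r)⁻¹ ∈ A := by
      have h2 : g * r * a * (g * r)⁻¹ = g * (r * a * r⁻¹) * g⁻¹ := by group
      rw [h2]
      exact (mem_normalizer_iff.mp (hM0A hg) _).mp (hrA a ha)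
    have h2 := htg _ h1
    have h3 : t * (g * r) * a * (t * (g * r))⁻¹ = t * (g * r * a * (g * r)⁻¹) * t⁻¹ := by group
    rw [h3, ← h2]; group
  have hn1 : ∀ a ∈ A, (t * (g * r)) * a * (t * (g * r))⁻¹ * a⁻¹ ∈ Z := by
    intro a ha
    rw [hact a ha]
    exact hq a ha
  have hn2 := (C.hJ _ hnN).mp hn1
  -- so `n` centralizes `Z = [A, A']`
  have hnZ : ∀ z ∈ Z, (t * (g * r)) * z = z * (t * (g * r)) := by
    set n := t * (g * r) with hn
    have h1 : ⁅A, A'⁆ ≤ centralizer ({n} : Set H) := by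
      rw [commutator_le]
      intro a ha b hb
      have ha1 := hn1 a ha
      have hb1 := hn2 b hb
      rw [mem_centralizer_singleton_iff]
      -- n [a,b] n⁻¹ = [u a, v b] = [a, b]
      set u := n * a * n⁻¹ * a⁻¹ with hu
      set v := n * b * n⁻¹ * b⁻¹ with hv
      have hua : n * a * n⁻¹ = u * a := by rw [hu]; group
      have hvb : n * b * n⁻¹ = v * b := by rw [hv]; group
      have cu : ∀ t ∈ T, t * u = u * t := C.hZc u ha1
      have cv : ∀ t ∈ T, t * v = v * t := C.hZc v hb1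
      have hzT : ∀ z ∈ Z, z ∈ T := fun z hz => C.hAT (C.hZA hz)
      have haT := C.hAT ha
      have hbT := C.hAT' hb
      have e : n * ⁅a, b⁆ * n⁻¹ = ⁅a, b⁆ := by
        rw [commutatorElement_def]
        have h2 : n * (a * b * a⁻¹ * b⁻¹) * n⁻¹ =
            (n * a * n⁻¹) * (n * b * n⁻¹) * (n * a * n⁻¹)⁻¹ * (n * b * n⁻¹)⁻¹ := by group
        rw [h2, hua, hvb]
        have c1 : b * u = u * b := cu b hbT
        have c2 : a * v = v * a := cv a haT
        have c3 : v * u = u * v := cu v (hzT v hb1)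
        calc u * a * (v * b) * (u * a)⁻¹ * (v * b)⁻¹
            = u * (a * v) * b * a⁻¹ * u⁻¹ * b⁻¹ * v⁻¹ := by group
          _ = u * (v * a) * b * a⁻¹ * u⁻¹ * b⁻¹ * v⁻¹ := by rw [c2]
          _ = u * v * (a * b * a⁻¹) * u⁻¹ * b⁻¹ * v⁻¹ := by group
          _ = v * u * (a * b * a⁻¹) * u⁻¹ * b⁻¹ * v⁻¹ := by rw [c3]
          _ = v * (u * (a * b * a⁻¹)) * u⁻¹ * b⁻¹ * v⁻¹ := by group
          _ = v * ((a * b * a⁻¹) * u) * u⁻¹ * b⁻¹ * v⁻¹ := by
              rw [cu _ (mul_mem (mul_mem haT hbT) (inv_mem haT))]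
          _ = (v * (a * b * a⁻¹ * b⁻¹)) * v⁻¹ := by group
          _ = ((a * b * a⁻¹ * b⁻¹) * v) * v⁻¹ := by
              rw [cv _ (mul_mem (mul_mem (mul_mem haT hbT) (inv_mem haT)) (inv_mem hbT))]
          _ = a * b * a⁻¹ * b⁻¹ := by group
      calc ⁅a, b⁆ * n = (n * ⁅a, b⁆ * n⁻¹) * n := by rw [e]
        _ = n * ⁅a, b⁆ := by group
    rw [C.hcomm] at h1
    intro z hz
    exact (mem_centralizer_singleton_iff.mp (h1 hz)).symm
  have hrz : ∀ z ∈ Z, r * z = z * r := by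
    intro z hz
    have h1 := hact z (C.hZA hz)
    rw [hnZ z hz, mul_inv_cancel_right] at h1
    calc r * z = (r * z * r⁻¹) * r := by group
      _ = z * r := by rw [← h1]
  -- finally `r` centralizes `A`
  intro a ha
  set z := r * a * r⁻¹ * a⁻¹ with hz
  have hzZ : z ∈ Z := hq a ha
  have hra : r * a * r⁻¹ = z * a := by rw [hz]; group
  have hpow : ∀ k : ℕ, r ^ k * a * (r ^ k)⁻¹ = z ^ k * a := by
    intro k
    induction k with
    | zero => simp
    | succ k ih =>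
      have h1 : r ^ (k + 1) * a * (r ^ (k + 1))⁻¹ = r * (r ^ k * a * (r ^ k)⁻¹) * r⁻¹ := by
        rw [pow_succ']; group
      have h2 : r * z ^ k = z ^ k * r := hrz _ (Z.pow_mem hzZ k)
      rw [h1, ih]
      calc r * (z ^ k * a) * r⁻¹ = (r * z ^ k) * a * r⁻¹ := by group
        _ = z ^ k * (r * a * r⁻¹) := by rw [h2]; group
        _ = z ^ (k + 1) * a := by rw [hra, pow_succ]; group
  have h1 := hpow m
  rw [hrm a ha] at h1
  have h2 : z ^ m = 1 := by
    have h3 : (1 : H) * a = z ^ m * a := by rw [one_mul]; exact h1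
    exact (mul_right_cancel h3).symm
  obtain ⟨j, hj⟩ := hm
  have h3 : z = 1 := by
    rw [hj, pow_add, pow_mul, pow_two, C.e1 z (C.hZA hzZ), one_pow, one_mul, pow_one] at h2
    exact h2
  rw [hra, h3, one_mul]

end Conf

/-- **Lemma H.** -/
theorem lemmaH (hSF : SolvFun.{u}) (hFT : OddSolv.{u}) {H : Type u} [Group H] [Finite H]
    (T : Sylow 2 H) (A₁ A₂ Z B : Subgroup H)
    (hA1T : A₁ ≤ T) (hA2T : A₂ ≤ T) (hZ : Z = A₁ ⊓ A₂)
    (cT : Nat.card T = 64) (c1 : Nat.card A₁ = 16) (c2 : Nat.card A₂ = 16) (cZ : Nat.card Z = 4)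
    (e1 : ∀ a ∈ A₁, a * a = 1) (e2 : ∀ a ∈ A₂, a * a = 1)
    (hZc : ∀ a ∈ Z, ∀ t ∈ T, t * a = a * t)
    (hinv : ∀ x ∈ T, x * x = 1 → x ∈ A₁ ∨ x ∈ A₂)
    (k1 : ∀ a ∈ A₁, a ∉ Z → ∀ t ∈ T, t * a = a * t → t ∈ A₁)
    (k2 : ∀ a ∈ A₂, a ∉ Z → ∀ t ∈ T, t * a = a * t → t ∈ A₂)
    (hcomm : ⁅A₁, A₂⁆ = Z)
    (hJ : ∀ n ∈ normalizer ((T : Subgroup H) : Set H),
      (∀ a ∈ A₁, n * a * n⁻¹ * a⁻¹ ∈ Z) ↔ (∀ a ∈ A₂, n * a * n⁻¹ * a⁻¹ ∈ Z))
    (hB : B = Z ∨ B = A₁)
    (hsc : ∀ a ∈ B, ∀ h : H, h * a * h⁻¹ ∈ T → h * a * h⁻¹ ∈ B)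
    (htr : ∀ a ∈ B, ∀ b ∈ B, a ≠ 1 → b ≠ 1 → ∃ h : H, h * a * h⁻¹ = b)
    (hnil : ∀ a ∈ Z, a ≠ 1 → ∃ N : Subgroup H, N ≤ centralizer ({a} : Set H) ∧
      Odd (Nat.card N) ∧ (∀ c ∈ centralizer ({a} : Set H), ∀ x ∈ N, c * x * c⁻¹ ∈ N) ∧
      ∀ c ∈ centralizer ({a} : Set H), ∃ n ∈ N, ∃ t ∈ T, c = n * t) :
    ∀ h : H, ∀ b ∈ B, ∃ b' ∈ B, ∃ n ∈ Cfsg.oddCore H, h * b * h⁻¹ = n * b' := by
  have : Fact (Nat.Prime 2) := ⟨Nat.prime_two⟩
  have C : Conf T A₁ A₂ Z :=
    { hAT := hA1T, hAT' := hA2T, hZA := hZ.le.trans inf_le_left, hZA' := hZ.le.trans inf_le_right,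
      hZ := fun x h1 h2 => by rw [hZ]; exact ⟨h1, h2⟩, cT := cT, c1 := c1, c2 := c2, cZ := cZ,
      e1 := e1, e2 := e2, hZc := hZc, hinv := hinv, k1 := k1, k2 := k2, hcomm := hcomm, hJ := hJ }
  have hZB : Z ≤ B := by
    rcases hB with h | h
    · exact h.ge
    · rw [h]; exact C.hZA
  -- an involution of `Z` and two of them
  obtain ⟨z₁, hz₁, z₂, hz₂, hz₁1, hz₂1, hz₁₂⟩ : ∃ x ∈ Z, ∃ y ∈ Z, x ≠ 1 ∧ y ≠ 1 ∧ x ≠ y := by
    have h1 : Nontrivial Z := by
      rw [← Finite.one_lt_card_iff_nontrivial, cZ]; omega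
    obtain ⟨⟨x, hx⟩, hx1⟩ := exists_ne (1 : Z)
    have hx1' : x ≠ 1 := fun h => hx1 (Subtype.ext h)
    by_contra hne
    push Not at hne
    have h2 : (Z : Set H) ⊆ {1, x} := by
      intro y hy
      by_cases hy1 : y = 1
      · left; exact hy1
      · right; exact (hne x hx y hy hx1' hy1).symm
    have h3 : Nat.card Z ≤ 2 := by
      have h4 := Set.ncard_le_ncard h2 (Set.toFinite _)
      have h5 : ({1, x} : Set H).ncard ≤ 2 := Set.ncard_insert_le _ _ |>.trans (by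
        rw [Set.ncard_singleton])
      have h6 : Nat.card Z = (Z : Set H).ncard := rfl
      omega
    omega
  -- centralizers of involutions in `Z`
  have hcZ : ∀ v ∈ Z, v ≠ 1 → ∀ c ∈ centralizer ({v} : Set H), ∃ k ∈ K v, k * c ∈ T := by
    intro v hv hv1 c hc
    obtain ⟨N, hN1, hN2, hN3, hN4⟩ := hnil v hv hv1
    obtain ⟨n, hn, t, ht, rfl⟩ := hN4 c hc
    refine ⟨n⁻¹, inv_mem (le_K hN1 hN2 hN3 hn), ?_⟩
    rw [inv_mul_cancel_left]
    exact ht
  -- fusion into `Z`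
  have hncB : ∀ x ∈ T, x ∉ B → ∀ h : H, h * x * h⁻¹ ∉ Z := by
    intro x hxT hxB h hh
    apply hxB
    have h1 := hsc _ (hZB hh) h⁻¹ (by
      have h2 : h⁻¹ * (h * x * h⁻¹) * h⁻¹⁻¹ = x := by group
      rw [h2]; exact hxT)
    have h2 : h⁻¹ * (h * x * h⁻¹) * h⁻¹⁻¹ = x := by group
    rwa [h2] at h1
  have hO : (Cfsg.oddCore H).Normal := Lib.Cores.pPrimeCore_normal 2
  have hord : ∀ x : H, x * x = 1 → x ≠ 1 → orderOf x = 2 := by
    intro x h1 h2
    exact orderOf_eq_prime (by rw [pow_two]; exact h1) h2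
  -- the main theorem for one of the two subgroups
  have hmain : ∀ {A A' : Subgroup H}, Conf T A A' Z → (B = Z ∨ B = A) →
      ∀ x : H, ∃ k ∈ Cfsg.oddCore H, k * x ∈ normalizer (A : Set H) := by
    intro A A' C hB
    obtain ⟨y, hy, hyZ⟩ := C.symm.exists_notMem
    have hBA : B ≤ A := by
      rcases hB with h | h
      · rw [h]; exact C.hZA
      · rw [h]
    have hBA' : ∀ x ∈ A', x ∈ B → x ∈ Z := fun x h1 h2 => C.hZ x (hBA h2) h1
    have hNZ' : ∀ n ∈ normalizer (A' : Set H), ∀ z ∈ Z, n * z * n⁻¹ ∈ Z := by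
      intro n hn z hz
      have h1 : n * z * n⁻¹ ∈ A' := (mem_normalizer_iff.mp hn z).mp (C.hZA' hz)
      exact hBA' _ h1 (hsc z (hZB hz) n (C.hAT' h1))
    refine main hSF hFT T A C.hAT C.normalizer_le C.e1 (by rw [C.c1]; omega) C.hself ?_ ?_ ?_
    · -- centralizers of involutions of `A`
      intro v hv hv1 c hc
      by_cases hvZ : v ∈ Z
      · obtain ⟨k, hk, hkc⟩ := hcZ v hvZ hv1 c hc
        exact ⟨k, hk, C.T_le hkc⟩
      · rcases hB with hB | hB
        · -- `B = Z`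
          have hNZ : ∀ n ∈ normalizer (A : Set H), ∀ z ∈ Z, n * z * n⁻¹ ∈ Z := by
            intro n hn z hz
            have h1 : n * z * n⁻¹ ∈ A := (mem_normalizer_iff.mp hn z).mp (C.hZA hz)
            have h2 := hsc z (hZB hz) n (C.hAT h1)
            rwa [hB] at h2
          obtain ⟨k, hk, hkc⟩ := C.nilp hv hvZ (hncB v (C.hAT hv) (by rw [hB]; exact hvZ)) hNZ c hc
          exact ⟨k, hk, le_normalizer hkc⟩
        · -- `B = A`
          have hvB : v ∈ B := by rw [hB]; exact hv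
          obtain ⟨g, hg⟩ := htr v hvB z₁ (hZB hz₁) hv1 hz₁1
          -- move `g A g⁻¹` into `T` inside `C(z₁)`
          have hTz : (T : Subgroup H) ≤ centralizer ({z₁} : Set H) := by
            intro t ht
            rw [mem_centralizer_singleton_iff]
            exact C.hZc z₁ hz₁ t ht
          have hgA : A.map (MulAut.conj g).toMonoidHom ≤ centralizer ({z₁} : Set H) := by
            rintro _ ⟨a, ha, rfl⟩
            rw [mem_centralizer_singleton_iff]
            show g * a * g⁻¹ * z₁ = z₁ * (g * a * g⁻¹)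
            rw [← hg]
            have h3 := C.comm ha hv
            calc g * a * g⁻¹ * (g * v * g⁻¹) = g * (a * v) * g⁻¹ := by group
              _ = g * (v * a) * g⁻¹ := by rw [h3]
              _ = _ := by group
          obtain ⟨m, hm, hmT⟩ := exists_conj_le T hTz hgA (C.isPGroup.map _)
          set h : H := m * g with hh
          have hhv : h * v * h⁻¹ = z₁ := by
            have h3 := mem_centralizer_singleton_iff.mp hm
            have h4 : h * v * h⁻¹ = m * (g * v * g⁻¹) * m⁻¹ := by rw [hh]; group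
            rw [h4, hg, h3, mul_inv_cancel_right]
          have hhN : h ∈ normalizer (A : Set H) := by
            refine mem_normalizer_of_conj' ?_
            intro a ha
            have h3 : h * a * h⁻¹ ∈ T := by
              have h4 := hmT _ (mem_map_of_mem (MulAut.conj g).toMonoidHom ha)
              have h5 : h * a * h⁻¹ = m * ((MulAut.conj g).toMonoidHom a) * m⁻¹ := by
                show h * a * h⁻¹ = m * (g * a * g⁻¹) * m⁻¹
                rw [hh]; group
              rw [h5]; exact h4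
            have h4 := hsc a (by rw [hB]; exact ha) h h3
            rwa [hB] at h4
          have hc' : h * c * h⁻¹ ∈ centralizer ({z₁} : Set H) := by
            rw [mem_centralizer_singleton_iff, ← hhv]
            have h3 := mem_centralizer_singleton_iff.mp hc
            calc h * c * h⁻¹ * (h * v * h⁻¹) = h * (c * v) * h⁻¹ := by group
              _ = h * (v * c) * h⁻¹ := by rw [h3]
              _ = _ := by group
          obtain ⟨k, hk, hkc⟩ := hcZ z₁ hz₁ hz₁1 _ hc'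
          have hk' := K_map h⁻¹ z₁ hk
          have h6 : h⁻¹ * z₁ * h⁻¹⁻¹ = v := by rw [← hhv]; group
          rw [h6] at hk'
          refine ⟨_, hk', ?_⟩
          have h7 : h⁻¹ * k * h⁻¹⁻¹ * c = h⁻¹ * (k * (h * c * h⁻¹)) * h := by group
          rw [h7]
          exact mul_mem (mul_mem (inv_mem hhN) (C.T_le hkc)) hhN
    · -- involutions outside
      intro t ht htA ht2
      have ht2' : t * t = 1 := by rw [← pow_two, ← ht2, pow_orderOf_eq_one]
      have htA' : t ∈ A' := (C.hinv t ht ht2').resolve_left htA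
      have htZ : t ∉ Z := fun h => htA (C.hZA h)
      refine ⟨?_, z₁, C.hZA hz₁, z₂, C.hZA hz₂, hz₁1, hz₂1, hz₁₂, ?_, ?_⟩
      · intro c hc
        obtain ⟨k, hk, hkc⟩ := C.symm.nilp htA' htZ (hncB t ht (fun h => htA (hBA h))) hNZ' c hc
        exact ⟨k, hk, C.T_le (C.hAT' hkc)⟩
      · exact (C.hZc z₁ hz₁ t ht).symm
      · exact (C.hZc z₂ hz₂ t ht).symm
    · -- two classes
      have hyB : y ∉ B := fun h => hyZ (hBA' y hy h)
      refine ⟨z₁, y, hord _ (C.e1 _ (C.hZA hz₁)) hz₁1, hord _ (C.e2 _ hy) ?_, ?_⟩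
      · rintro rfl
        exact hyZ (one_mem _)
      · intro hconj
        obtain ⟨g, hg⟩ := isConj_iff.mp hconj
        apply hncB y (C.hAT' hy) hyB g⁻¹
        have h1 : g⁻¹ * y * g⁻¹⁻¹ = z₁ := by rw [← hg]; group
        rw [h1]; exact hz₁
  have hfin : ∀ {A : Subgroup H}, (∀ x : H, ∃ k ∈ Cfsg.oddCore H, k * x ∈ normalizer (A : Set H)) →
      ∀ h : H, ∀ b ∈ A, ∃ b' ∈ A, ∃ n ∈ Cfsg.oddCore H, h * b * h⁻¹ = n * b' := by
    intro A hA h b hb
    obtain ⟨k, hk, hn⟩ := hA h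
    have h1 : k * h * b * (k * h)⁻¹ ∈ A := (mem_normalizer_iff.mp hn b).mp hb
    refine ⟨_, h1, k⁻¹ * ((k * h * b * (k * h)⁻¹) * k * (k * h * b * (k * h)⁻¹)⁻¹), ?_, ?_⟩
    · exact mul_mem (inv_mem hk) (hO.conj_mem k hk _)
    · group
  rcases hB with hB | hB
  · -- `B = Z`
    have m1 := hfin (hmain C (Or.inl hB))
    have m2 := hfin (hmain C.symm (Or.inl hB))
    intro h b hb
    rw [hB] at hb
    obtain ⟨b₁, hb₁, n₁, hn₁, h₁⟩ := m1 h b (C.hZA hb)
    obtain ⟨b₂, hb₂, n₂, hn₂, h₂⟩ := m2 h b (C.hZA' hb)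
    have h3 : n₂⁻¹ * n₁ = b₂ * b₁⁻¹ := by
      have h4 : n₁ * b₁ = n₂ * b₂ := h₁.symm.trans h₂
      rw [inv_mul_eq_iff_eq_mul, ← mul_assoc, ← h4, mul_inv_cancel_right]
    have h4 : b₂ * b₁⁻¹ ∈ Cfsg.oddCore H := by
      rw [← h3]; exact mul_mem (inv_mem hn₂) hn₁
    -- an element of the 2-group `T` in the odd core
    have h5 : b₂ * b₁⁻¹ = 1 := by
      have h6 : b₂ * b₁⁻¹ ∈ T := mul_mem (C.hAT' hb₂) (inv_mem (C.hAT hb₁))
      obtain ⟨k, hk⟩ := T.isPGroup' ⟨_, h6⟩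
      have hk' : (b₂ * b₁⁻¹) ^ (2 ^ k) = 1 := by
        have := congrArg Subtype.val hk
        simpa using this
      have h7 : Odd (orderOf (b₂ * b₁⁻¹)) := by
        refine odd_orderOf_of_mem ?_ h4
        have h := Lib.Cores.pPrimeCore_coprime (G := H) 2
        rwa [Nat.coprime_two_right] at h
      obtain ⟨j, -, hj⟩ := (Nat.dvd_prime_pow Nat.prime_two).mp (orderOf_dvd_of_pow_eq_one hk')
      rcases Nat.eq_zero_or_pos j with hj0 | hj0
      · rw [hj0, pow_zero] at hj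
        exact orderOf_eq_one_iff.mp hj
      · exfalso
        rw [hj] at h7
        have h8 : Even (2 ^ j) := (Nat.even_pow.mpr ⟨even_two, hj0.ne'⟩)
        exact (Nat.not_even_iff_odd.mpr h7) h8
    have h6 : b₂ = b₁ := mul_inv_eq_one.mp h5
    refine ⟨b₁, ?_, n₁, hn₁, h₁⟩
    rw [hB]
    exact C.hZ _ hb₁ (h6 ▸ hb₂)
  · -- `B = A₁`
    have m1 := hfin (hmain C (Or.inr hB))
    rw [hB]
    exact m1

end Cfsg.Agent.HSType.LemmaH
end
end

-- part: HSType/JFus_mg
section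
prune_inst 0x1020044022000000000000000000001000000000400001004000000008804000000000000000100002080000000020004c00000000000000000000000400000002000090080000000000000004000000000000000000000000000000000000000000000
set_option linter.all false
open scoped Cfsg.Agent.FastGrp

-- part: HSType/FactsJ
section
/-!
# Kernel-checked facts on the model group `SM` (III): `J`, `Ω₁(J)`, involutions
-/

set_option autoImplicit false

namespace Cfsg.Agent.HSType.FactsJ

open Cfsg.Agent.HSType.Model Cfsg.Agent.HSType.Facts Cfsg.Agent.HSType.FactsU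
  Cfsg.Agent.HSType.Spec

theorem comm_J {x y : SM} (hx : x ∈ J) (hy : y ∈ J) : x * y = y * x := by
  have hd : allLT 64 (fun a => allLT 64 (fun b => com a b)) = true := by decide +kernel
  have h1 : x.1 < 64 := by
    have := hx; exact Nat.le_of_ble_eq_true this
  have h2 : y.1 < 64 := by
    have := hy; exact Nat.le_of_ble_eq_true this
  exact of_com (allLT_spec (allLT_spec hd x.1 h1) y.1 h2)

/-- `|C_J(s)| ≤ 8` outside `J` -/
theorem cnt_CJ {s : SM} (hs : s ∉ J) : cnt 64 (fun b => com s.1 b) ≤ 8 := by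
  have hd : allLT 8 (fun d => orB (Nat.beq d 0) (Nat.ble (cnt 64 (fun b => com (Nat.mul 64 d) b)) 8)) = true := by
    decide +kernel
  have h0 : allLT 512 (fun a => Nat.beq (mulN (Nat.land a 63) (Nat.mul 64 (Nat.shiftRight a 6))) a) = true := by
    decide +kernel
  have h1 := shift_lt s.2
  have h2 : Nat.mul 64 (Nat.shiftRight s.1 6) < 512 := Nat.mul_lt_mul_of_pos_left (k := 64) h1 (by decide)
  have key : ∀ j t : SM, j * t = s → j ∈ J → (t ≠ 1) ∧ ∀ b ∈ J, s * b = b * s → t * b = b * t := fun j t h3 h4 =>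
    ⟨fun h => hs (by rw [← h3, h, mul_one]; exact h4), fun b h5 h6 => by
      rw [← h3, ← mul_assoc, ← comm_J h4 h5, mul_assoc, mul_assoc] at h6
      exact mul_left_cancel h6⟩
  have h3 := key ⟨Nat.land s.1 63, (and63_lt _).trans (by decide)⟩ ⟨Nat.mul 64 (Nat.shiftRight s.1 6), h2⟩
    (SM.ext (eq_of_beq (allLT_spec h0 s.1 s.2) :)) (Nat.ble_eq_true_of_le (and63_lt s.1) :)
  rcases orB_spec (allLT_spec hd _ h1) with h | h
  · exact absurd (SM.ext (congrArg (Nat.mul 64) (eq_of_beq h) :)) h3.1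
  · refine le_trans ?_ (Nat.le_of_ble_eq_true h)
    rw [cnt_eq, cnt_eq]
    refine Finset.card_le_card fun b hb => ?_
    rw [Finset.mem_filter, Finset.mem_range] at hb ⊢
    exact ⟨hb.1, (com_of (h3.2 ⟨b, hb.1.trans (by decide)⟩ (Nat.ble_eq_true_of_le hb.1 :)
      (of_com (x := s) (y := ⟨b, hb.1.trans (by decide)⟩) hb.2)) :)⟩

theorem cnt_le_card {n : Nat} (_hn : n ≤ 512) (p : Nat → Bool) (T : Set SM)
    (hT : ∀ x ∈ T, x.1 < n ∧ p x.1 = true) : Nat.card T ≤ cnt n p := by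
  rw [cnt_eq]
  have hf : Set.Finite T := Set.toFinite T
  have h1 : Nat.card T ≤ Nat.card ((Finset.range n).filter (fun k => p k = true)) := by
    apply Nat.card_le_card_of_injective
      (fun x : T => (⟨x.1.1, by
        rw [Finset.mem_filter, Finset.mem_range]; exact hT x.1 x.2⟩ :
        ((Finset.range n).filter (fun k => p k = true))))
    intro x y hxy
    have := congrArg Subtype.val hxy
    exact Subtype.ext (SM.ext this)
  rwa [Nat.card_eq_fintype_card (α := ((Finset.range n).filter (fun k => p k = true))),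
    Fintype.card_coe] at h1

theorem J_normal : J.Normal := ⟨fun x hx g => conj_by_gens inJ (by decide +kernel) g x hx⟩

theorem V_normal {g x : SM} (hx : x ∈ V) : g * x * g⁻¹ ∈ V := conj_by_gens inV (by decide +kernel) g x hx

theorem V_le_J : V ≤ J := by
  intro x hx
  have hd' : allLT 512 (fun a => imp (inV a) (inJ a)) = true := by decide +kernel
  exact imp_spec (allLT_spec hd' x.1 x.2) hx

theorem V_cases {x : SM} (hx : x ∈ V) : x = 1 ∨ x = a0 ∨ x = a1 ∨ x = z0 := by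
  have hd : allLT 512 (fun a => imp (inV a) (orB (Nat.beq a 0) (orB (Nat.beq a 2)
    (orB (Nat.beq a 8) (Nat.beq a 10))))) = true := by decide +kernel
  rcases orB_spec (imp_spec (allLT_spec hd x.1 x.2) hx) with h | h
  · exact Or.inl (ext_beq (y := 1) h)
  rcases orB_spec h with h | h
  · exact Or.inr (Or.inl (ext_beq (y := a0) h))
  rcases orB_spec h with h | h
  · exact Or.inr (Or.inr (Or.inl (ext_beq (y := a1) h)))
  · exact Or.inr (Or.inr (Or.inr (ext_beq (y := z0) h)))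

theorem a0_mem_V : a0 ∈ V := (by decide +kernel : inV 2 = true)
theorem a1_mem_V : a1 ∈ V := (by decide +kernel : inV 8 = true)
theorem z0_mem_V : z0 ∈ V := (by decide +kernel : inV 10 = true)
theorem a0_mul_z0 : a0 * z0 = a1 := SM.ext (by decide +kernel)
theorem a0_ne_one : a0 ≠ 1 := by
  intro h; have := congrArg SM.val h; exact absurd this (by decide)
theorem a1_ne_one : a1 ≠ 1 := by
  intro h; have := congrArg SM.val h; exact absurd this (by decide)
theorem a0_ne_z0 : a0 ≠ z0 := by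
  intro h; have := congrArg SM.val h; exact absurd this (by decide)
theorem a1_ne_z0 : a1 ≠ z0 := by
  intro h; have := congrArg SM.val h; exact absurd this (by decide)
theorem a0_ne_a1 : a0 ≠ a1 := by
  intro h; have := congrArg SM.val h; exact absurd this (by decide)
theorem a0_sq : a0 * a0 = 1 := SM.ext (by decide +kernel)
/-- the generator `r` of `S/J` swaps `a` and `a z` -/
def s0 : SM := el 64
theorem s0_swap : s0 * a0 * s0⁻¹ = a1 ∧ s0 * a1 * s0⁻¹ = a0 :=
  ⟨SM.ext (by decide +kernel), SM.ext (by decide +kernel)⟩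

theorem J_le_R2 : J ≤ R2 := by
  intro x hx
  have hd' : allLT 512 (fun a => imp (inJ a) (inR2 a)) = true := by decide +kernel
  exact mem_R2.mpr (imp_spec (allLT_spec hd' x.1 x.2) hx)
theorem J_le_R1 : J ≤ R1 := by
  intro x hx
  have hd' : allLT 512 (fun a => imp (inJ a) (inR1 a)) = true := by decide +kernel
  exact mem_R1.mpr (imp_spec (allLT_spec hd' x.1 x.2) hx)

/-- `R2` centralizes `V` -/
theorem R2_cent {x v : SM} (hx : x ∈ R2) (hv : v ∈ V) : x * v = v * x := by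
  have h1 : x * a0 = a0 * x := Subgroup.mem_centralizer_singleton_iff.mp hx
  rcases V_cases hv with h | h | h | h <;> rw [h]
  · rw [mul_one, one_mul]
  · exact h1
  · rw [← a0_mul_z0, ← mul_assoc, h1, mul_assoc, z0_central, ← mul_assoc]
  · exact z0_central x

theorem mem_Om {x : SM} : x ∈ Om ↔ inOm x.1 = true := Iff.rfl
theorem mem_V {x : SM} : x ∈ V ↔ inV x.1 = true := Iff.rfl

/-- involutions of `J` -/
theorem mem_Om_iff {x : SM} : x ∈ Om ↔ (x ∈ J ∧ x * x = 1) := by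
  have hd : allLT 512 (fun a => beqB (inOm a) (andB (inJ a) (sqIs a 0))) = true := by
    decide +kernel
  rw [mem_Om, beqB_spec (allLT_spec hd x.1 x.2)]
  constructor
  · intro h
    exact ⟨(andB_spec h).1, of_sqIs (y := 1) (andB_spec h).2⟩
  · rintro ⟨h1, h2⟩
    exact andB_intro h1 (sqIs_of (y := 1) h2)

theorem V_le_Om : V ≤ Om := by
  intro x hx
  have hd' : allLT 512 (fun a => imp (inV a) (inOm a)) = true := by decide +kernel
  exact imp_spec (allLT_spec hd' x.1 x.2) hx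

/-- centralizers of elements of `Ω - V` have order at most 128 -/
theorem card_cent_Om {w : SM} (hw : w ∈ Om) (hV : w ∉ V) :
    Nat.card (Subgroup.centralizer ({w} : Set SM)) ≤ 128 := by
  have hd : allLT 512 (fun a => imp (inOm a) (orB (inV a)
    (Nat.ble (cnt 512 (fun b => com b a)) 128))) = true := by decide +kernel
  rcases orB_spec (imp_spec (allLT_spec hd w.1 w.2) hw) with h | h
  · exact absurd h hV
  · rw [card_sub _ (fun b => com b w.1) (fun x => by
      rw [Subgroup.mem_centralizer_singleton_iff]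
      exact ⟨fun h => com_of h, fun h => of_com h⟩)]
    exact Nat.le_of_ble_eq_true h

/-- elements of `Ω - V` are all conjugate -/
theorem conj_b {x y : SM} (hx : x ∈ Om) (hxV : x ∉ V) (hy : y ∈ Om) (hyV : y ∉ V) :
    ∃ s : SM, s * x * s⁻¹ = y := by
  have hd : allLT 64 (fun a => imp (andB (inOm a) (beqB (inV a) false)) (allLT 64 (fun b =>
    imp (andB (inOm b) (beqB (inV b) false)) (exLT 512 (fun s =>
      Nat.beq (mulN s a) (mulN b s)))))) = true := by decide +kernel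
  have hlt : ∀ w : SM, w ∈ Om → w.1 < 64 := fun w hw => Nat.le_of_ble_eq_true (mem_Om_iff.mp hw).1
  have hf : ∀ w : SM, w ∉ V → beqB (inV w.1) false = true := by
    intro w hw
    cases h : inV w.1 with
    | true => exact absurd h hw
    | false => rfl
  obtain ⟨k, hk, h⟩ := exLT_spec (imp_spec (allLT_spec (imp_spec (allLT_spec hd x.1 (hlt x hx))
    (andB_intro hx (hf x hxV))) y.1 (hlt y hy)) (andB_intro hy (hf y hyV)))
  refine ⟨⟨k, hk⟩, ?_⟩
  rw [mul_inv_eq_iff_eq_mul]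
  exact SM.ext (eq_of_beq h)

/-- the generator part `r^{±1}` -/
def inD13 (a : Nat) : Bool := Nat.beq (Nat.land a (nat_lit 320)) (nat_lit 64)

theorem fZ {x : SM} (h1 : x * x ≠ 1) (h2 : x * x * (x * x) = 1) (h3 : x * x ∉ V) :
    (x ∈ J ∧ ∀ y : SM, x * y = y * x → y ∈ J) ∨ inD13 x.1 = true := by
  have hd : allLT 512 (fun a => imp (beqB (sqIs a 0) false) (imp (sqIs (mulN a a) 0)
    (imp (beqB (inV (mulN a a)) false) (orB (inD13 a)
      (andB (inJ a) (allLT 512 (fun b => imp (com a b) (inJ b)))))))) = true := by decide +kernel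
  have e1 : beqB (sqIs x.1 0) false = true := by
    cases h : sqIs x.1 0 with
    | true => exact absurd (of_sqIs (y := 1) h) h1
    | false => rfl
  have e2 : sqIs (mulN x.1 x.1) 0 = true := sqIs_of (x := x * x) (y := 1) h2
  have e3 : beqB (inV (mulN x.1 x.1)) false = true := by
    cases h : inV (mulN x.1 x.1) with
    | true => exact absurd h h3
    | false => rfl
  rcases orB_spec (imp_spec (imp_spec (imp_spec (allLT_spec hd x.1 x.2) e1) e2) e3) with h | h
  · exact Or.inr h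
  · exact Or.inl ⟨(andB_spec h).1, fun y hy => imp_spec (allLT_spec (andB_spec h).2 y.1 y.2)
      (com_of hy)⟩

theorem fR {x y : SM} (hx : inD13 x.1 = true) (hx4 : x * x * (x * x) = 1) (hy : y * y = 1)
    (hc : x * y = y * x) :
    y = 1 ∨ y = z0 ∨ y = x * x ∨ y = x * x * z0 := by
  have hd : allLT 512 (fun b => imp (sqIs b 0) (allLT 256 (fun a => imp (inD13 a)
    (imp (sqIs (mulN a a) 0) (imp (com a b) (orB (Nat.beq b 0) (orB (Nat.beq b 10) (orB (Nat.beq b (mulN a a))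
      (Nat.beq b (mulN (mulN a a) 10)))))))))) = true := by decide +kernel
  have hlt : x.1 < 256 := by
    have hd' : allLT 512 (fun a => imp (inD13 a) (Nat.blt a 256)) = true := by decide +kernel
    exact Nat.le_of_ble_eq_true (imp_spec (allLT_spec hd' x.1 x.2) hx)
  rcases orB_spec (imp_spec (imp_spec (imp_spec (allLT_spec (imp_spec (allLT_spec hd y.1 y.2)
    (sqIs_of (y := 1) hy)) x.1 hlt) hx) (sqIs_of (x := x * x) (y := 1) hx4)) (com_of hc))
    with h | h
  · exact Or.inl (ext_beq (y := 1) h)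
  rcases orB_spec h with h | h
  · exact Or.inr (Or.inl (ext_beq (y := z0) h))
  rcases orB_spec h with h | h
  · exact Or.inr (Or.inr (Or.inl (SM.ext (eq_of_beq h))))
  · exact Or.inr (Or.inr (Or.inr (SM.ext (eq_of_beq h))))

/-- involutions of `R1 - J`: an `E₈` and a noncommuting pair in `C(t) ∩ R1` -/
theorem f2a {t : SM} (h1 : t * t = 1) (hR : t ∈ R1) (hJ : t ∉ J) :
    (∃ w : SM, w ∈ R1 ∧ t * w = w * t ∧ w * w = 1 ∧ w ≠ 1 ∧ w ≠ z0 ∧ w ≠ t ∧ w ≠ t * z0) ∧
    (∃ a b : SM, a ∈ R1 ∧ b ∈ R1 ∧ t * a = a * t ∧ t * b = b * t ∧ a * b ≠ b * a) := by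
  have hd : allLT 512 (fun a => imp (sqIs a 0) (imp (inR1 a) (orB (inJ a) (andB
    (exLT 512 (fun w => andB (inR1 w) (andB (com a w) (andB (sqIs w 0) (beqB false
      (orB (Nat.beq w 0) (orB (Nat.beq w 10) (orB (Nat.beq w a) (Nat.beq w (mulN a 10)))))))))
      )
    (exLT 512 (fun b => andB (inR1 b) (andB (com a b) (exLT 512 (fun e => andB (inR1 e)
      (andB (com a e) (beqB false (com b e)))))))))))) = true := by decide +kernel
  rcases orB_spec (imp_spec (imp_spec (allLT_spec hd t.1 t.2) (sqIs_of (y := 1) h1))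
    (mem_R1.mp hR)) with h | h
  · exact absurd h hJ
  · obtain ⟨h2, h3⟩ := andB_spec h
    constructor
    · obtain ⟨k, hk, h4⟩ := exLT_spec h2
      obtain ⟨h5, h6⟩ := andB_spec h4
      obtain ⟨h7, h8⟩ := andB_spec h6
      obtain ⟨h9, h10⟩ := andB_spec h8
      have h11 := beqB_spec h10
      refine ⟨⟨k, hk⟩, mem_R1.mpr h5, of_com h7, of_sqIs (y := 1) h9, ?_, ?_, ?_, ?_⟩
      · intro e
        have e' : Nat.beq k 0 = true := beq_of_eq (x := ⟨k, hk⟩) (y := 1) e
        rw [e'] at h11; exact Bool.false_ne_true h11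
      · intro e
        have e' : Nat.beq k 10 = true := beq_of_eq (x := ⟨k, hk⟩) (y := z0) e
        rw [e'] at h11; revert h11; cases Nat.beq k 0 <;> intro h11 <;> exact Bool.false_ne_true h11
      · intro e
        have e' : Nat.beq k t.1 = true := beq_of_eq (x := ⟨k, hk⟩) (y := t) e
        rw [e'] at h11; revert h11
        cases Nat.beq k 0 <;> cases Nat.beq k 10 <;> intro h11 <;> exact Bool.false_ne_true h11
      · intro e
        have e' : Nat.beq k (mulN t.1 10) = true := beq_of_eq (x := ⟨k, hk⟩) (y := t * z0) e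
        rw [e'] at h11; revert h11
        cases Nat.beq k 0 <;> cases Nat.beq k 10 <;> cases Nat.beq k t.1 <;> intro h11 <;>
          exact Bool.false_ne_true h11
    · obtain ⟨k, hk, h4⟩ := exLT_spec h3
      obtain ⟨h5, h6⟩ := andB_spec h4
      obtain ⟨h7, h8⟩ := andB_spec h6
      obtain ⟨l, hl, h9⟩ := exLT_spec h8
      obtain ⟨h10, h11⟩ := andB_spec h9
      obtain ⟨h12, h13⟩ := andB_spec h11
      refine ⟨⟨k, hk⟩, ⟨l, hl⟩, mem_R1.mpr h5, mem_R1.mpr h10, of_com h7, of_com h12, ?_⟩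
      intro e
      have e' : com k l = true := com_of e
      rw [e'] at h13
      exact Bool.false_ne_true h13

/-- involutions outside `J` lie in `R1 ∪ R2` -/
theorem inv_cases {t : SM} (h1 : t * t = 1) : t ∈ R1 ∨ t ∈ R2 := by
  have hd : allLT 512 (fun a => imp (sqIs a 0) (orB (inR1 a) (inR2 a))) = true := by decide +kernel
  rcases orB_spec (imp_spec (allLT_spec hd t.1 t.2) (sqIs_of (y := 1) h1)) with h | h
  · exact Or.inl (mem_R1.mpr h)
  · exact Or.inr (mem_R2.mpr h)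

/-- involutions of `R2 - R1` -/
theorem f2b {t : SM} (h1 : t * t = 1) (hR : t ∈ R2) (hR1 : t ∉ R1) :
    (∃ f : SM, f ∈ J ∧ t * f = f * t ∧ f * f ≠ 1 ∧ f * f ∈ V) ∧
    (∀ v ∈ V, ∃ s : SM, s * t * s⁻¹ = t * v) := by
  have hd : allLT 512 (fun a => imp (sqIs a 0) (imp (inR2 a) (orB (inR1 a) (andB
    (exLT 64 (fun f => andB (com a f) (andB (beqB false (sqIs f 0)) (inV (mulN f f)))))
    (allLT 512 (fun v => imp (inV v) (exLT 512 (fun s =>
      Nat.beq (mulN s a) (mulN (mulN a v) s))))))))) = true := by decide +kernel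
  rcases orB_spec (imp_spec (imp_spec (allLT_spec hd t.1 t.2) (sqIs_of (y := 1) h1))
    (mem_R2.mp hR)) with h | h
  · exact absurd (mem_R1.mpr h) hR1
  · obtain ⟨h2, h3⟩ := andB_spec h
    constructor
    · obtain ⟨k, hk, h4⟩ := exLT_spec h2
      obtain ⟨h5, h6⟩ := andB_spec h4
      obtain ⟨h7, h8⟩ := andB_spec h6
      refine ⟨⟨k, by omega⟩, ?_, of_com h5, ?_, h8⟩
      · show inJ k = true
        exact Nat.ble_eq_true_of_le hk
      · intro e
        have e' : sqIs k 0 = true := sqIs_of (x := ⟨k, by omega⟩) (y := 1) e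
        rw [e'] at h7; exact Bool.false_ne_true (beqB_spec h7)
    · intro v hv
      obtain ⟨k, hk, h4⟩ := exLT_spec (imp_spec (allLT_spec h3 v.1 v.2) hv)
      refine ⟨⟨k, hk⟩, ?_⟩
      rw [mul_inv_eq_iff_eq_mul]
      exact SM.ext (eq_of_beq h4)

end Cfsg.Agent.HSType.FactsJ
end

-- part: HSType/UIsol
section
/-!
# `u` is isolated: the last case (`C_S(v)` of order 32)
-/

set_option autoImplicit false
set_option linter.style.haveILetI false

namespace Cfsg.Agent.HSType.UIsol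

open Cfsg.Agent.HSType.Model Cfsg.Agent.HSType.Facts Cfsg.Agent.HSType.FactsU
  Cfsg.Agent.HSType.Basic Cfsg.Agent.HSType.Trans Cfsg.Agent.HSType.UFusion

variable {G : Type*} [Group G] (c : Ctx G)

/-- `C_S(v)` -/
abbrev Cv (v : SM) : Subgroup SM := Subgroup.centralizer ({v} : Set SM)

theorem mem_Cv {v x : SM} : x ∈ Cv v ↔ v * x = x * v := by
  rw [Subgroup.mem_centralizer_singleton_iff]; exact eq_comm

/-- `N = N_{C_G(z)}(C_S(v))` -/
def NN (v : SM) : Subgroup G := Cz c ⊓ Subgroup.normalizer (((Cv v).map c.ι : Subgroup G) : Set G)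

theorem mem_NN_conj {v : SM} {n : G} (hn : n ∈ NN c v) {x : SM} (hx : x ∈ Cv v) :
    ∃ y ∈ Cv v, n * c.ι x * n⁻¹ = c.ι y := by
  have h := conj_mem_of_mem_normalizer hn.2 (Subgroup.mem_map_of_mem c.ι hx)
  obtain ⟨y, hy, hy'⟩ := h
  exact ⟨y, hy, hy'.symm⟩

theorem t40_qlike {v : SM} (h : t40 v.1 = true) :
    ∃ A, QLike A ∧ v ∈ A ∧ (∀ x : SM, v * x = x * v → x ∈ A) ∧
      (∀ g : SM, g * v = v * z0 * g → g ∈ A) := by
  rcases t40_cent h with ⟨h1, h2⟩ | ⟨h1, h2⟩
  · exact ⟨Q, qlike_Q, h1, h2, fun g hg => (t40_norm h hg).1 h1⟩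
  · exact ⟨Q', qlike_Q', h1, h2, fun g hg => (t40_norm h hg).2 h1⟩

theorem sq_z0_conj {n : G} (hn : n ∈ Cz c) {x y : SM} (hx : x * x = z0)
    (h : n * c.ι x * n⁻¹ = c.ι y) : y * y = z0 := by
  apply c.inj
  rw [map_mul, ← h, ← conj_map_mul, ← map_mul, hx, (mem_Cz c).mp hn]

theorem smul_u0 (s : SM) : s * u0 * s⁻¹ = u0 ∨ s * u0 * s⁻¹ = u0 * z0 := by
  by_cases h : s ∈ R1
  · left
    have h1 := Subgroup.mem_centralizer_singleton_iff.mp h
    rw [h1, mul_inv_cancel_right]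
  · right
    rw [inverts h, mul_inv_cancel_right]

/-- 2-subgroups of `N` containing `C_S(v)` have order at most 64 -/
theorem card_le_64 [Finite G] {v : SM} (ht : t40 v.1 = true) {g : G}
    (hg : g * c.ι u0 * g⁻¹ = c.ι v) (hgz : g ∈ Cz c) {P : Subgroup G} (hPN : P ≤ NN c v)
    (hP : IsPGroup 2 P) (hle : (Cv v).map c.ι ≤ P) : Nat.card P ≤ 64 := by
  obtain ⟨k, hk, hkP⟩ := c.exists_conj_in (range_le_Cz c) (hPN.trans inf_le_left) hP
  obtain ⟨A, hA, hvA, hAc, -⟩ := t40_qlike ht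
  have hvR : v ∈ R1 := hA.le hvA
  have hvu : v * u0 = u0 * v := Subgroup.mem_centralizer_singleton_iff.mp hvR
  have hu_cent : ∀ x ∈ Cv v, u0 * x = x * u0 := fun x hx => by
    have h1 := hA.le (hAc x (mem_Cv.mp hx))
    exact (Subgroup.mem_centralizer_singleton_iff.mp h1).symm
  obtain ⟨u', hu'⟩ := hkP _ (hle (Subgroup.mem_map_of_mem _ (mem_Cv.mpr hvu)))
  obtain ⟨v', hv'⟩ := hkP _ (hle (Subgroup.mem_map_of_mem _ (mem_Cv.mpr (rfl : v * v = v * v))))
  have hTv : ∀ x ∈ Cv v, ∃ y, k * c.ι x * k⁻¹ = c.ι y := fun x hx => by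
    obtain ⟨y, hy⟩ := hkP _ (hle (Subgroup.mem_map_of_mem _ hx))
    exact ⟨y, hy.symm⟩
  -- both are conjugates of `u`
  have hcu := cases_of_conj c hu'.symm hk
  have hcv := cases_of_conj c (g := k * g) (v := v') (by
    rw [hv', ← hg]; group) ((Cz c).mul_mem hk hgz)
  -- one of them is of type 40
  obtain ⟨w, w0, hw0, hww, hwt, hwc⟩ : ∃ w w0 : SM, w0 ∈ Cv v ∧ k * c.ι w0 * k⁻¹ = c.ι w ∧
      t40 w.1 = true ∧ (∀ x ∈ Cv v, w0 * x = x * w0) := by
    by_cases h1 : t40 u'.1 = true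
    · exact ⟨u', u0, mem_Cv.mpr hvu, hu'.symm, h1, hu_cent⟩
    by_cases h2 : t40 v'.1 = true
    · exact ⟨v', v, mem_Cv.mpr rfl, hv'.symm, h2, fun x hx => mem_Cv.mp hx⟩
    exfalso
    have hne := u0_ne v (t40_notU ht)
    have hkz := (mem_Cz c).mp hk
    have e1 : u' = u0 ∨ u' = u0 * z0 := by
      rcases hcu with h | h | h
      · exact Or.inl h
      · exact Or.inr h
      · exact absurd h h1
    have e2 : v' = u0 ∨ v' = u0 * z0 := by
      rcases hcv with h | h | h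
      · exact Or.inl h
      · exact Or.inr h
      · exact absurd h h2
    have e3 : v' = u' ∨ v' = u' * z0 := by
      rcases e1 with h | h <;> rcases e2 with h' | h'
      · left; rw [h, h']
      · right; rw [h, h']
      · right; rw [h, h', mul_assoc, z0_sq, mul_one]
      · left; rw [h, h']
    rcases e3 with h | h
    · apply hne.1
      apply c.inj; apply conj_inj (g := k)
      rw [← hv', ← hu', h]
    · apply hne.2.1
      apply c.inj; apply conj_inj (g := k)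
      rw [← hv', h, map_mul, map_mul, conj_map_mul, hkz, hu']
  -- `T₁ = C(w)`
  have hT1 : tr c k (Cv v) ≤ Cv w := by
    intro y hy
    obtain ⟨x, hx, hxy⟩ := (mem_tr c).mp hy
    rw [mem_Cv]
    apply c.inj
    rw [map_mul, map_mul, ← hww, ← hxy, ← conj_map_mul, ← map_mul, hwc x hx, map_mul, conj_map_mul]
  have hT1' : tr c k (Cv v) = Cv w := by
    apply Subgroup.eq_of_le_of_card_ge hT1
    rw [card_tr c hTv, t40_card ht, t40_card hwt]
  obtain ⟨A', hA', hwA', hcA', hnorm⟩ := t40_qlike hwt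
  -- image of `P` in `A'`
  have himg : P.map (MulAut.conj k).toMonoidHom ≤ A'.map c.ι := by
    rintro _ ⟨p, hp, rfl⟩
    obtain ⟨s, hs⟩ := hkP p hp
    refine ⟨s, ?_, hs⟩
    -- `s` normalizes `C(w)`
    have hsN : ∀ y ∈ Cv w, s * y * s⁻¹ ∈ Cv w := by
      intro y hy
      rw [← hT1'] at hy ⊢
      obtain ⟨x, hx, hxy⟩ := (mem_tr c).mp hy
      obtain ⟨x', hx', hxx'⟩ := mem_NN_conj c (hPN hp) hx
      refine (mem_tr c).mpr ⟨x', hx', ?_⟩
      rw [map_mul, map_mul, map_inv, hs, ← hxy, ← hxx']; group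
    have hsinv : ∀ y ∈ Cv w, s⁻¹ * y * s ∈ Cv w := by
      intro y hy
      have h1 : s ∈ Subgroup.normalizer ((Cv w : Subgroup SM) : Set SM) :=
        mem_normalizer_of_forall hsN
      have h2 := conj_mem_of_mem_normalizer (Subgroup.inv_mem _ h1) hy
      rwa [inv_inv] at h2
    have hb : ∀ y : SM, w * y = y * w → (s * w * s⁻¹) * y = y * (s * w * s⁻¹) := by
      intro y hy
      have h1 := mem_Cv.mp (hsinv y (mem_Cv.mpr hy))
      calc s * w * s⁻¹ * y = s * (w * (s⁻¹ * y * s)) * s⁻¹ := by group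
        _ = s * (s⁻¹ * y * s * w) * s⁻¹ := by rw [h1]
        _ = y * (s * w * s⁻¹) := by group
    have hw2 : w * w = z0 := t40_sq hwt
    have hsw2 : (s * w * s⁻¹) * (s * w * s⁻¹) = z0 := by
      rw [← conj_map_mul, hw2, z0_central, mul_inv_cancel_right]
    have hne := u0_ne w (t40_notU hwt)
    have hbad : ∀ t : SM, (t = u0 ∨ t = u0 * z0) → s * w * s⁻¹ ≠ t := by
      intro t ht' hst
      have h1 : w = s⁻¹ * t * s⁻¹⁻¹ := by rw [← hst]; group
      have h2 := smul_u0 s⁻¹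
      rcases ht' with h | h
      · rw [h] at h1
        rcases h2 with h3 | h3
        · exact hne.1 (by rw [h1, h3])
        · exact hne.2.1 (by rw [h1, h3])
      · rw [h, conj_map_mul, z0_central s⁻¹, mul_inv_cancel_right] at h1
        rcases h2 with h3 | h3
        · exact hne.2.1 (by rw [h1, h3])
        · exact hne.1 (by rw [h1, h3, mul_assoc, z0_sq, mul_one])
    rcases t40_bicent hwt hsw2 hb with h | h | h | h
    · exact absurd h (hbad _ (Or.inl rfl))
    · exact absurd h (hbad _ (Or.inr rfl))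
    · -- commutes with `w`
      apply hcA'
      rw [mul_inv_eq_iff_eq_mul] at h; exact h.symm
    · exact hnorm s (by rw [mul_inv_eq_iff_eq_mul] at h; exact h)
  calc Nat.card P = Nat.card (P.map (MulAut.conj k).toMonoidHom) :=
        (Subgroup.card_map_of_injective (MulAut.conj k).injective).symm
    _ ≤ Nat.card (A'.map c.ι) := Subgroup.card_le_of_le himg
    _ = 64 := by rw [c.card_map, hA'.card]

/-- a 2-subgroup of maximal order among those containing it is Sylow -/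
theorem not_dvd_of_max [Finite G] {K R0 : Subgroup G} (hRK : R0 ≤ K) (hp : IsPGroup 2 R0)
    (hmax : ∀ P : Subgroup G, P ≤ K → IsPGroup 2 P → R0 ≤ P → Nat.card P ≤ Nat.card R0) :
    ¬ 2 ∣ R0.relIndex K := by
  haveI : Fact (Nat.Prime 2) := ⟨Nat.prime_two⟩
  have hp' : IsPGroup 2 (R0.subgroupOf K) := hp.comap_of_injective K.subtype K.subtype_injective
  obtain ⟨T, hT⟩ := hp'.exists_le_sylow
  have hTc : Nat.card ((T : Subgroup K).map K.subtype) = Nat.card (T : Subgroup K) :=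
    Subgroup.card_map_of_injective K.subtype_injective
  have h1 : R0 ≤ (T : Subgroup K).map K.subtype := by
    intro x hx
    exact ⟨⟨x, hRK hx⟩, hT (by rw [Subgroup.mem_subgroupOf]; exact hx), rfl⟩
  have h2 := hmax _ (Subgroup.map_subtype_le _) (T.2.map _) h1
  have h3 : Nat.card (R0.subgroupOf K) = Nat.card R0 :=
    Nat.card_congr (Subgroup.subgroupOfEquivOfLe hRK).toEquiv
  have h4 : R0.subgroupOf K = (T : Subgroup K) := by
    apply Subgroup.eq_of_le_of_card_ge hT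
    rw [h3, ← hTc]; exact h2
  unfold Subgroup.relIndex
  rw [h4]
  exact T.not_dvd_index

theorem smul_u0_map (s : SM) : c.ι s * c.ι u0 * (c.ι s)⁻¹ = c.ι u0 ∨
    c.ι s * c.ι u0 * (c.ι s)⁻¹ = c.ι (u0 * z0) := by
  rw [← map_mul, ← map_inv, ← map_mul]
  rcases smul_u0 s with h | h <;> rw [h]
  · exact Or.inl rfl
  · exact Or.inr rfl

theorem not_t40 [Finite G] {g : G} {v : SM} (hg : g * c.ι u0 * g⁻¹ = c.ι v) (hgz : g ∈ Cz c) :
    t40 v.1 ≠ true := by
  intro ht
  obtain ⟨h, hz, hv, hC⟩ := back c hg hgz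
  have hzz := (mem_Cz c).mp hz
  obtain ⟨A, hA, hvA, hAc, -⟩ := t40_qlike ht
  have hvR : v ∈ R1 := hA.le hvA
  have hvu : v * u0 = u0 * v := Subgroup.mem_centralizer_singleton_iff.mp hvR
  have hne := u0_ne v (t40_notU ht)
  have hCA : ∀ x ∈ Cv v, x ∈ A := fun x hx => hAc x (mem_Cv.mp hx)
  have hzC : z0 ∈ Cv v := mem_Cv.mpr (z0_central v)
  obtain ⟨B, hB, hle⟩ := tr_le_qlike c hz (X := Cv v) (fun x hx => hC x (mem_Cv.mp hx))
    (fun x hx => hA.sq x (hCA x hx))
  -- (i) `A ≤ N`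
  have hAN : A.map c.ι ≤ NN c v := by
    rintro _ ⟨a, ha, rfl⟩
    refine ⟨range_le_Cz c ⟨a, rfl⟩, mem_normalizer_of_forall ?_⟩
    rintro _ ⟨x, hx, rfl⟩
    rw [← map_mul, ← map_inv, ← map_mul]
    apply Subgroup.mem_map_of_mem
    rcases hA.comm a ha x (hCA x hx) with h1 | h1
    · rw [h1, mul_inv_cancel_right]; exact hx
    · rw [h1, mul_assoc x, z0_central a, ← mul_assoc, mul_inv_cancel_right]
      exact Subgroup.mul_mem _ hx hzC
  have hCle : (Cv v).map c.ι ≤ A.map c.ι := Subgroup.map_mono (fun x hx => hCA x hx)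
  -- (ii) `A` is Sylow in `N`
  have hAodd : ¬ 2 ∣ (A.map c.ι).relIndex (NN c v) := by
    apply not_dvd_of_max hAN (c.isPGroup_map A)
    intro P hPN hP hAP
    rw [c.card_map, hA.card]
    exact card_le_64 c ht hg hgz hPN hP (hCle.trans hAP)
  -- (iii) conjugate of `B`
  set P : Subgroup G := (B.map c.ι).map (MulAut.conj h⁻¹).toMonoidHom with hPdef
  have hPp : IsPGroup 2 P := (c.isPGroup_map B).map _
  have hPN : P ≤ NN c v := by
    rintro _ ⟨_, ⟨b, hb, rfl⟩, rfl⟩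
    show h⁻¹ * c.ι b * h⁻¹⁻¹ ∈ NN c v
    rw [inv_inv]
    refine ⟨(Cz c).mul_mem ((Cz c).mul_mem ((Cz c).inv_mem hz) (range_le_Cz c ⟨b, rfl⟩)) hz,
      mem_normalizer_of_forall ?_⟩
    rintro _ ⟨x, hx, rfl⟩
    obtain ⟨y, hy, hyy⟩ := hC x (mem_Cv.mp hx)
    have hyB : y ∈ B := hle ((mem_tr c).mpr ⟨x, hx, hyy⟩)
    have e1 : h⁻¹ * c.ι b * h * c.ι x * (h⁻¹ * c.ι b * h)⁻¹ =
        h⁻¹ * (c.ι b * c.ι y * (c.ι b)⁻¹) * h := by rw [← hyy]; group
    have e2 : h⁻¹ * c.ι y * h = c.ι x := by rw [← hyy]; group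
    have e3 : h⁻¹ * c.ι z0 * h = c.ι z0 := by
      have := (mem_Cz c).mp ((Cz c).inv_mem hz)
      rwa [inv_inv] at this
    rw [e1]
    rcases hB.comm b hb y hyB with h1 | h1
    · have e4 : c.ι b * c.ι y * (c.ι b)⁻¹ = c.ι y := by
        rw [← map_mul, h1, map_mul, mul_inv_cancel_right]
      rw [e4, e2]; exact Subgroup.mem_map_of_mem _ hx
    · have e4 : c.ι b * c.ι y * (c.ι b)⁻¹ = c.ι y * c.ι z0 := by
        rw [← map_mul, h1, mul_assoc y, z0_central b, ← mul_assoc, map_mul, map_mul,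
          mul_inv_cancel_right]
      rw [e4, show h⁻¹ * (c.ι y * c.ι z0) * h = (h⁻¹ * c.ι y * h) * (h⁻¹ * c.ι z0 * h) by group,
        e2, e3, ← map_mul]
      exact Subgroup.mem_map_of_mem _ (Subgroup.mul_mem _ hx hzC)
  -- (iv)
  obtain ⟨n, hn, hnP⟩ := rel_sylow hAN (c.isPGroup_map A) hAodd hPN hPp
  have hcardP : Nat.card P = 64 := by
    rw [hPdef, Subgroup.card_map_of_injective (MulAut.conj h⁻¹).injective, c.card_map, hB.card]
  have hPA : P.map (MulAut.conj n).toMonoidHom = A.map c.ι := by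
    apply Subgroup.eq_of_le_of_card_ge
    · rintro _ ⟨p, hp, rfl⟩
      exact hnP p hp
    · have h1 : Nat.card (P.map (MulAut.conj n).toMonoidHom) = Nat.card P :=
        Subgroup.card_map_of_injective (MulAut.conj n).injective
      rw [h1, hcardP, c.card_map, hA.card]
  -- (v)
  have hgu : h⁻¹ * c.ι u0 * h⁻¹⁻¹ = c.ι v := by rw [← hv]; group
  have huP : c.ι v ∈ P := ⟨c.ι u0, ⟨u0, hB.U u0 u0_inU, rfl⟩, hgu⟩
  obtain ⟨t, htA, htv⟩ := hnP _ huP
  have ht2 : t * t = z0 := sq_z0_conj c hn.1 (t40_sq ht) htv.symm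
  have htc : ∀ a ∈ A, t * a = a * t := by
    intro a ha
    have h1 : c.ι a ∈ P.map (MulAut.conj n).toMonoidHom := by
      rw [hPA]; exact Subgroup.mem_map_of_mem _ ha
    obtain ⟨_, ⟨_, ⟨b, hb, rfl⟩, rfl⟩, hba⟩ := h1
    have hba' : n * (h⁻¹ * c.ι b * h⁻¹⁻¹) * n⁻¹ = c.ι a := hba
    have hub : u0 * b = b * u0 :=
      (Subgroup.mem_centralizer_singleton_iff.mp (hB.le hb)).symm
    have key : c.ι u0 * c.ι b = c.ι b * c.ι u0 := by rw [← map_mul, hub, map_mul]
    apply c.inj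
    rw [map_mul, map_mul, htv, ← hba', ← hgu]
    calc n * (h⁻¹ * c.ι u0 * h⁻¹⁻¹) * n⁻¹ * (n * (h⁻¹ * c.ι b * h⁻¹⁻¹) * n⁻¹)
        = n * (h⁻¹ * (c.ι u0 * c.ι b) * h⁻¹⁻¹) * n⁻¹ := by group
      _ = n * (h⁻¹ * c.ι b * h⁻¹⁻¹) * n⁻¹ * (n * (h⁻¹ * c.ι u0 * h⁻¹⁻¹) * n⁻¹) := by
        rw [key]; group
  have htU : inU t.1 = true := by
    cases hcc : inU t.1 with
    | true => rfl
    | false =>
      exfalso
      obtain ⟨q, hq, hqt⟩ := hA.moved t htA hcc
      rw [← htc q hq] at hqt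
      have h1 : t * q * 1 = t * q * z0 := by
        rw [mul_one, mul_assoc t q z0, z0_central q, ← mul_assoc, ← hqt]
      exact z0_ne_one (mul_left_cancel h1).symm
  have htu : t = u0 ∨ t = u0 * z0 := by
    rcases inU_spec htU with h1 | h1 | h1 | h1
    · rw [h1, mul_one] at ht2; exact absurd ht2.symm z0_ne_one
    · exact Or.inl h1
    · rw [h1, z0_sq] at ht2; exact absurd ht2.symm z0_ne_one
    · exact Or.inr h1
  -- behaviour of elements of `N` on `u, v`
  have hnz : ∀ m ∈ NN c v, m * c.ι z0 * m⁻¹ = c.ι z0 := fun m hm => (mem_Cz c).mp hm.1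
  have huC : u0 ∈ Cv v := mem_Cv.mpr hvu
  have hvC : v ∈ Cv v := mem_Cv.mpr rfl
  have hucent : ∀ x ∈ Cv v, u0 * x = x * u0 := fun x hx =>
    (Subgroup.mem_centralizer_singleton_iff.mp (hA.le (hCA x hx))).symm
  have hperm : ∀ m ∈ NN c v, ∀ w0 : SM, w0 ∈ Cv v → w0 * w0 = z0 →
      (∀ x ∈ Cv v, w0 * x = x * w0) →
      ∃ w, m * c.ι w0 * m⁻¹ = c.ι w ∧ (w = u0 ∨ w = u0 * z0 ∨ w = v ∨ w = v * z0) := by
    intro m hm w0 hw0 hw02 hw0c
    obtain ⟨w, hw, hww⟩ := mem_NN_conj c hm hw0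
    refine ⟨w, hww, t40_bicent ht (sq_z0_conj c hm.1 hw02 hww) ?_⟩
    intro y hy
    obtain ⟨x, hx, hxy⟩ := mem_NN_conj c ((NN c v).inv_mem hm) (mem_Cv.mpr hy)
    have h1 : m * c.ι x * m⁻¹ = c.ι y := by rw [← hxy]; group
    apply c.inj
    rw [map_mul, map_mul, ← hww, ← h1, ← conj_map_mul, ← map_mul, hw0c x hx, map_mul,
      conj_map_mul]
  -- `N₀`
  set N0 : Subgroup G := NN c v ⊓ Subgroup.normalizer (((Spec.U).map c.ι : Subgroup G) : Set G)
    with hN0
  have hU : ∀ x : SM, x ∈ Spec.U ↔ inU x.1 = true := fun _ => Iff.rfl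
  have mem_N0 : ∀ m ∈ NN c v, (m ∈ N0 ↔ (m * c.ι u0 * m⁻¹ = c.ι u0 ∨
      m * c.ι u0 * m⁻¹ = c.ι (u0 * z0))) := by
    intro m hm
    constructor
    · intro h1
      obtain ⟨w, hw, hww⟩ := conj_mem_of_mem_normalizer h1.2
        (Subgroup.mem_map_of_mem c.ι ((hU u0).mpr u0_inU))
      have hw2 := sq_z0_conj c hm.1 u0_sq hww.symm
      rcases inU_spec ((hU w).mp hw) with h2 | h2 | h2 | h2
      · rw [h2, mul_one] at hw2; exact absurd hw2.symm z0_ne_one
      · left; rw [← hww, h2]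
      · rw [h2, z0_sq] at hw2; exact absurd hw2.symm z0_ne_one
      · right; rw [← hww, h2]
    · intro h1
      refine ⟨hm, mem_normalizer_of_forall ?_⟩
      rintro _ ⟨x, hx, rfl⟩
      have hx' : inU x.1 = true := hx
      rcases inU_spec hx' with h2 | h2 | h2 | h2
      · rw [h2, map_one, mul_one, mul_inv_cancel]; exact Subgroup.one_mem _
      · rw [h2]
        rcases h1 with h1 | h1 <;> rw [h1]
        · exact Subgroup.mem_map_of_mem _ ((hU u0).mpr u0_inU)
        · exact Subgroup.mem_map_of_mem _ ((hU _).mpr u0_mul_z0_notmem)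
      · rw [h2, hnz m hm]
        exact Subgroup.mem_map_of_mem _ ((hU _).mpr (by decide +kernel))
      · rw [h2, map_mul, conj_map_mul, hnz m hm]
        rcases h1 with h1 | h1 <;> rw [h1, ← map_mul]
        · exact Subgroup.mem_map_of_mem _ ((hU _).mpr u0_mul_z0_notmem)
        · rw [mul_assoc, z0_sq, mul_one]
          exact Subgroup.mem_map_of_mem _ ((hU u0).mpr u0_inU)
  have hnot : ∀ m ∈ NN c v, m ∉ N0 →
      ((m * c.ι u0 * m⁻¹ = c.ι v ∨ m * c.ι u0 * m⁻¹ = c.ι (v * z0)) ∧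
       (m * c.ι v * m⁻¹ = c.ι u0 ∨ m * c.ι v * m⁻¹ = c.ι (u0 * z0))) := by
    intro m hm hmN
    rw [mem_N0 m hm, not_or] at hmN
    obtain ⟨w, hw, hw'⟩ := hperm m hm u0 huC u0_sq hucent
    have h1 : m * c.ι u0 * m⁻¹ = c.ι v ∨ m * c.ι u0 * m⁻¹ = c.ι (v * z0) := by
      rcases hw' with h2 | h2 | h2 | h2
      · exact absurd (by rw [hw, h2]) hmN.1
      · exact absurd (by rw [hw, h2]) hmN.2
      · left; rw [hw, h2]
      · right; rw [hw, h2]
    refine ⟨h1, ?_⟩
    obtain ⟨w1, hw1, hw1'⟩ := hperm m hm v hvC (t40_sq ht) (fun x hx => mem_Cv.mp hx)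
    have hmz := hnz m hm
    have hne2 : m * c.ι v * m⁻¹ ≠ c.ι v ∧ m * c.ι v * m⁻¹ ≠ c.ι (v * z0) := by
      constructor
      · intro h2
        rcases h1 with h3 | h3
        · exact hne.1 (c.inj (conj_inj (h2.trans h3.symm)))
        · apply hne.2.1
          apply c.inj; apply conj_inj (g := m)
          rw [h2, map_mul, conj_map_mul, h3, hmz, ← map_mul, mul_assoc, z0_sq, mul_one]
      · intro h2
        rcases h1 with h3 | h3
        · apply hne.2.1
          apply c.inj; apply conj_inj (g := m)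
          rw [h2, map_mul c.ι u0 z0, conj_map_mul, h3, hmz, ← map_mul]
        · exact hne.1 (c.inj (conj_inj (h2.trans h3.symm)))
    rcases hw1' with h2 | h2 | h2 | h2
    · left; rw [hw1, h2]
    · right; rw [hw1, h2]
    · exact absurd (by rw [hw1, h2]) hne2.1
    · exact absurd (by rw [hw1, h2]) hne2.2
  -- `n ∉ N₀`
  have hnN0 : n ∉ N0 := by
    rw [mem_N0 n hn]
    intro h1
    have h2 : n * c.ι v * n⁻¹ = c.ι t := htv.symm
    rcases htu with h3 | h3 <;> rcases h1 with h4 | h4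
    · exact hne.1 (c.inj (conj_inj (g := n) (by rw [h2, h3, h4])))
    · apply hne.2.1; apply c.inj; apply conj_inj (g := n)
      rw [h2, h3, map_mul c.ι u0 z0, conj_map_mul, h4, hnz n hn, ← map_mul, mul_assoc, z0_sq, mul_one]
    · apply hne.2.1; apply c.inj; apply conj_inj (g := n)
      rw [h2, h3, map_mul c.ι u0 z0, conj_map_mul, h4, hnz n hn]
    · exact hne.1 (c.inj (conj_inj (g := n) (by rw [h2, h3, h4])))
  -- `A ≤ N₀`
  have hAN0 : A.map c.ι ≤ N0 := by
    rintro _ ⟨a, ha, rfl⟩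
    rw [mem_N0 _ (hAN ⟨a, ha, rfl⟩)]
    exact smul_u0_map c a
  have hN0N : N0 ≤ NN c v := inf_le_left
  -- index two
  have hidx : N0.relIndex (NN c v) = 2 := by
    show (N0.subgroupOf (NN c v)).index = 2
    rw [Subgroup.index_eq_two_iff]
    refine ⟨⟨n, hn⟩, fun b => ?_⟩
    rw [Subgroup.mem_subgroupOf, Subgroup.mem_subgroupOf]
    show Xor ((b : G) * n ∈ N0) ((b : G) ∈ N0)
    by_cases hb : (b : G) ∈ N0
    · right
      refine ⟨hb, fun h1 => hnN0 ?_⟩
      have h2 := N0.mul_mem (N0.inv_mem hb) h1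
      rwa [inv_mul_cancel_left] at h2
    · left
      refine ⟨?_, hb⟩
      rw [mem_N0 _ ((NN c v).mul_mem b.2 hn)]
      obtain ⟨-, hb2⟩ := hnot b b.2 hb
      obtain ⟨hn1, -⟩ := hnot n hn hnN0
      have hbz := hnz b b.2
      have e1 : (b : G) * n * c.ι u0 * ((b : G) * n)⁻¹ = b * (n * c.ι u0 * n⁻¹) * (b : G)⁻¹ := by
        group
      rw [e1]
      rcases hn1 with h1 | h1
      · rw [h1]; exact hb2
      · rw [h1, map_mul, conj_map_mul, hbz]
        rcases hb2 with h2 | h2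
        · right; rw [h2, map_mul]
        · left; rw [h2, ← map_mul, mul_assoc, z0_sq, mul_one]
  apply hAodd
  rw [← Subgroup.relIndex_mul_relIndex _ _ _ hAN0 hN0N, hidx]
  exact Dvd.intro_left _ rfl

/-- **Isolation of `u`.** -/
theorem u_isolated [Finite G] : Spec.IsolU c := by
  intro g hgz v hg
  rcases cases_of_conj c hg hgz with h | h | h
  · exact Or.inl h
  · exact Or.inr h
  · exact absurd h (not_t40 c hg hgz)

end Cfsg.Agent.HSType.UIsol
end

-- part: HSType/JFus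
section
/-!
# Weak closure of `J`, Burnside for `J`, the subgroup `N_G(R2)`
-/

set_option autoImplicit false
set_option linter.style.haveILetI false

namespace Cfsg.Agent.HSType.JFus

open Cfsg.Agent.HSType.Model Cfsg.Agent.HSType.Facts Cfsg.Agent.HSType.FactsU
  Cfsg.Agent.HSType.FactsJ Cfsg.Agent.HSType.Spec
  Cfsg.Agent.HSType.Basic Cfsg.Agent.HSType.Trans

/-- `J` is the only abelian subgroup of order 64 of the model -/
theorem eq_J {K : Subgroup SM} (hK : Nat.card K = 64) (hab : ∀ x ∈ K, ∀ y ∈ K, x * y = y * x) :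
    K = J := by
  haveI := J_normal
  by_contra hne
  have hnle : ¬ K ≤ J := fun h => hne (Subgroup.eq_of_le_of_card_ge h (by rw [hK, card_J]))
  obtain ⟨s, hsK, hsJ⟩ := SetLike.not_le_iff_exists.mp hnle
  -- `|K ∩ J| ≤ 8`
  have h8 : Nat.card ((K ⊓ J : Subgroup SM)) ≤ 8 := by
    refine le_trans ?_ (cnt_CJ hsJ)
    apply cnt_le_card (by norm_num) (fun b => com s.1 b) ((K ⊓ J : Subgroup SM) : Set SM)
    intro x hx
    exact ⟨Nat.le_of_ble_eq_true hx.2, com_of (hab s hsK x hx.1)⟩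
  -- index
  have hJi : J.index = 8 := by
    have h1 := J.card_mul_index
    rw [card_J, card_SM] at h1
    omega
  have h1 : J.relIndex K ∣ 8 := by rw [← hJi]; exact Subgroup.relIndex_dvd_index_of_normal J K
  have h2 : Nat.card ((K ⊓ J : Subgroup SM)) * J.relIndex K = 64 := by
    have h3 := (J.subgroupOf K).card_mul_index
    rw [hK] at h3
    have h4 : Nat.card (J.subgroupOf K) = Nat.card ((K ⊓ J : Subgroup SM)) := by
      rw [← Subgroup.inf_subgroupOf_left]
      exact Nat.card_congr (Subgroup.subgroupOfEquivOfLe inf_le_left).toEquiv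
    rw [h4] at h3
    exact h3
  have h3 : J.relIndex K = 8 := by
    have h4 : J.relIndex K ≤ 8 := Nat.le_of_dvd (by norm_num) h1
    nlinarith
  have h4 : Nat.card ((K ⊓ J : Subgroup SM)) = 8 := by rw [h3] at h2; omega
  have h5 : K ⊔ J = ⊤ := by
    rw [← Subgroup.index_eq_one]
    have h6 := Subgroup.relIndex_mul_index (H := J) (K := K ⊔ J) le_sup_right
    rw [Subgroup.relIndex_sup_right, h3, hJi] at h6
    omega
  -- `K ∩ J` is central
  have h6 : ∀ x ∈ K ⊓ J, x = 1 ∨ x = z0 := by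
    intro x hx
    apply mem_center_of_forall
    intro y
    have hy : y ∈ K ⊔ J := by rw [h5]; exact Subgroup.mem_top y
    rw [Subgroup.mem_sup_of_normal_right] at hy
    obtain ⟨k, hk, j, hj, rfl⟩ := hy
    rw [← mul_assoc, hab x hx.1 k hk, mul_assoc, comm_J hx.2 hj, mul_assoc]
  have h7 : Nat.card ((K ⊓ J : Subgroup SM)) ≤ 2 := by
    have h8 : ((K ⊓ J : Subgroup SM) : Set SM) ⊆ {1, z0} := fun x hx => h6 x hx
    have h9 := Set.ncard_le_ncard h8 (Set.toFinite _)
    have h10 : ({1, z0} : Set SM).ncard ≤ 2 := by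
      apply le_trans (Set.ncard_insert_le _ _)
      rw [Set.ncard_singleton]
    exact le_trans h9 h10
  omega

variable {G : Type*} [Group G] (c : Ctx G)

theorem Nm_iff [Finite G] {X : Subgroup SM} {g : G} :
    Nm c X g ↔ g ∈ Subgroup.normalizer ((X.map c.ι : Subgroup G) : Set G) := by
  constructor
  · intro h
    apply mem_normalizer_of_forall
    rintro _ ⟨x, hx, rfl⟩
    obtain ⟨y, hy, hxy⟩ := h x hx
    rw [hxy]; exact Subgroup.mem_map_of_mem _ hy
  · intro h x hx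
    obtain ⟨y, hy, hxy⟩ := conj_mem_of_mem_normalizer h (Subgroup.mem_map_of_mem c.ι hx)
    exact ⟨y, hy, hxy.symm⟩

theorem Nm_mul [Finite G] {X : Subgroup SM} {g h : G} (hg : Nm c X g) (hh : Nm c X h) :
    Nm c X (g * h) := by
  rw [Nm_iff] at *; exact Subgroup.mul_mem _ hg hh
theorem Nm_inv [Finite G] {X : Subgroup SM} {g : G} (hg : Nm c X g) : Nm c X g⁻¹ := by
  rw [Nm_iff] at *; exact Subgroup.inv_mem _ hg
theorem Nm_surj [Finite G] {X : Subgroup SM} {g : G} (hg : Nm c X g) {y : SM} (hy : y ∈ X) :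
    ∃ x ∈ X, g * c.ι x * g⁻¹ = c.ι y := by
  obtain ⟨x, hx, hxy⟩ := Nm_inv c hg y hy
  exact ⟨x, hx, by rw [← hxy]; group⟩

theorem Nm_of_normal {X : Subgroup SM} (hX : ∀ s x : SM, x ∈ X → s * x * s⁻¹ ∈ X) (s : SM) :
    Nm c X (c.ι s) := by
  intro x hx
  exact ⟨s * x * s⁻¹, hX s x hx, by rw [map_mul, map_mul, map_inv]⟩

/-- **weak closure of `J`** -/
theorem wJ [Finite G] : WJ c := by
  intro g hg
  have h1 : tr c g J = J := by
    apply eq_J
    · rw [card_tr c hg, card_J]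
    · intro x hx y hy
      obtain ⟨x', hx', hxx⟩ := (mem_tr c).mp hx
      obtain ⟨y', hy', hyy⟩ := (mem_tr c).mp hy
      apply c.inj
      rw [map_mul, map_mul, ← hxx, ← hyy, ← conj_map_mul, ← map_mul, comm_J hx' hy', map_mul,
        conj_map_mul]
  intro x hx
  obtain ⟨y, hy⟩ := hg x hx
  exact ⟨y, by rw [← h1]; exact (mem_tr c).mpr ⟨x, hx, hy⟩, hy⟩

/-- **Burnside for `J`** -/
theorem burnside_J [Finite G] {x y : SM} (hx : x ∈ J) (hy : y ∈ J) {g : G}
    (hg : g * c.ι x * g⁻¹ = c.ι y) :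
    ∃ n : G, Nm c J n ∧ n * c.ι x * n⁻¹ = c.ι y ∧
      ∃ k : G, k * c.ι y * k⁻¹ = c.ι y ∧ n = k * g := by
  haveI : Fact (Nat.Prime 2) := ⟨Nat.prime_two⟩
  set K : Subgroup G := Subgroup.centralizer {c.ι y} with hK
  have hJK : J.map c.ι ≤ K := by
    rintro _ ⟨w, hw, rfl⟩
    rw [hK, Subgroup.mem_centralizer_singleton_iff, ← map_mul, comm_J hw hy, map_mul]
  have hgJK : (J.map c.ι).map (MulAut.conj g).toMonoidHom ≤ K := by
    rintro _ ⟨_, ⟨w, hw, rfl⟩, rfl⟩
    rw [hK, Subgroup.mem_centralizer_singleton_iff]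
    show g * c.ι w * g⁻¹ * c.ι y = c.ι y * (g * c.ι w * g⁻¹)
    rw [← hg, ← conj_map_mul, ← conj_map_mul, ← map_mul, comm_J hw hx, map_mul]
  have hp1 : IsPGroup 2 ((J.map c.ι).subgroupOf K) :=
    (c.isPGroup_map J).comap_of_injective K.subtype K.subtype_injective
  obtain ⟨T, hT⟩ := hp1.exists_le_sylow
  have hT2 : IsPGroup 2 ((T : Subgroup K).map K.subtype) := T.2.map _
  have hTK : (T : Subgroup K).map K.subtype ≤ K := Subgroup.map_subtype_le _
  have hJT : J.map c.ι ≤ (T : Subgroup K).map K.subtype := by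
    intro w hw
    exact ⟨⟨w, hJK hw⟩, hT (by rw [Subgroup.mem_subgroupOf]; exact hw), rfl⟩
  have hTs : ¬ 2 ∣ ((T : Subgroup K).map K.subtype).relIndex K := by
    unfold Subgroup.relIndex
    have h1 : ((T : Subgroup K).map K.subtype).subgroupOf K = (T : Subgroup K) := by
      unfold Subgroup.subgroupOf
      exact Subgroup.comap_map_eq_self_of_injective K.subtype_injective _
    rw [h1]
    exact T.not_dvd_index
  obtain ⟨k, hk, hkT⟩ := rel_sylow hTK hT2 hTs hgJK ((c.isPGroup_map J).map _)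
  obtain ⟨d, hd⟩ := c.exists_conj hT2
  have hdJ : Nm c J d := by
    apply wJ
    intro w hw
    obtain ⟨s, hs⟩ := hd _ (hJT (Subgroup.mem_map_of_mem _ hw))
    exact ⟨s, hs.symm⟩
  have hdkg : Nm c J (d * (k * g)) := by
    apply wJ
    intro w hw
    obtain ⟨s, hs⟩ := hd _ (hkT _ ⟨_, Subgroup.mem_map_of_mem c.ι hw, rfl⟩)
    refine ⟨s, ?_⟩
    rw [hs]
    show d * (k * g) * c.ι w * (d * (k * g))⁻¹ = d * (k * (g * c.ι w * g⁻¹) * k⁻¹) * d⁻¹
    group
  have hky : k * c.ι y * k⁻¹ = c.ι y := by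
    have := Subgroup.mem_centralizer_singleton_iff.mp hk
    rw [this, mul_inv_cancel_right]
  refine ⟨k * g, ?_, ?_, k, hky, rfl⟩
  · have h1 := Nm_mul c (Nm_inv c hdJ) hdkg
    rwa [inv_mul_cancel_left] at h1
  · calc k * g * c.ι x * (k * g)⁻¹ = k * (g * c.ι x * g⁻¹) * k⁻¹ := by group
      _ = c.ι y := by rw [hg, hky]

/-- moving to `z` with control of the centralizer -/
theorem to_z [Finite G] {t : SM} (h : Dz c t) :
    ∃ g : G, g * c.ι t * g⁻¹ = c.ι z0 ∧ ∀ x : SM, t * x = x * t → ∃ y, g * c.ι x * g⁻¹ = c.ι y := by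
  obtain ⟨g, hg⟩ := h
  set P : Subgroup G :=
    ((Subgroup.centralizer ({t} : Set SM)).map c.ι).map (MulAut.conj g).toMonoidHom with hPdef
  have hP : IsPGroup 2 P := (c.isPGroup_map _).map _
  have hPK : P ≤ Cz c := by
    rintro _ ⟨_, ⟨x, hx, rfl⟩, rfl⟩
    have hx' := Subgroup.mem_centralizer_singleton_iff.mp hx
    unfold Cz
    rw [Subgroup.mem_centralizer_singleton_iff]
    show g * c.ι x * g⁻¹ * c.ι z0 = c.ι z0 * (g * c.ι x * g⁻¹)
    rw [← hg, ← conj_map_mul, ← conj_map_mul, ← map_mul, hx', map_mul]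
  obtain ⟨k, hk, hkP⟩ := c.exists_conj_in (range_le_Cz c) hPK hP
  refine ⟨k * g, ?_, ?_⟩
  · calc k * g * c.ι t * (k * g)⁻¹ = k * (g * c.ι t * g⁻¹) * k⁻¹ := by group
      _ = c.ι z0 := by rw [hg]; exact (mem_Cz c).mp hk
  · intro x hx
    obtain ⟨s, hs⟩ := hkP _ ⟨_, Subgroup.mem_map_of_mem c.ι
      (Subgroup.mem_centralizer_singleton_iff.mpr hx.symm), rfl⟩
    refine ⟨s, ?_⟩
    rw [hs]
    show k * g * c.ι x * (k * g)⁻¹ = k * (g * c.ι x * g⁻¹) * k⁻¹
    group

theorem Dz_of_conj {x y : SM} {g : G} (h : Dz c x) (hg : g * c.ι x * g⁻¹ = c.ι y) : Dz c y := by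
  obtain ⟨k, hk⟩ := h
  refine ⟨k * g⁻¹, ?_⟩
  rw [← hg, ← hk]; group

theorem Dz_of_conj' {x y : SM} {g : G} (h : Dz c y) (hg : g * c.ι x * g⁻¹ = c.ι y) : Dz c x := by
  obtain ⟨k, hk⟩ := h
  refine ⟨k * g, ?_⟩
  rw [← hk, ← hg]; group

theorem Dz_z0 : Dz c z0 := ⟨1, by group⟩

theorem Dz_smul {x s : SM} (h : Dz c x) : Dz c (s * x * s⁻¹) :=
  Dz_of_conj c h (g := c.ι s) (by rw [map_mul, map_mul, map_inv])

theorem a1_of_a0 (h : Dz c a0) : Dz c a1 := by
  have := Dz_smul c (s := s0) h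
  rwa [s0_swap.1] at this
theorem a0_of_a1 (h : Dz c a1) : Dz c a0 := by
  have := Dz_smul c (s := s0) h
  rwa [s0_swap.2] at this

theorem Dz_a0_of_V {x : SM} (hx : x ∈ V) (h1 : x ≠ 1) (hz : x ≠ z0) (h : Dz c x) : Dz c a0 := by
  rcases V_cases hx with e | e | e | e
  · exact absurd e h1
  · rwa [e] at h
  · rw [e] at h; exact a0_of_a1 c h
  · exact absurd e hz

theorem Nm_V_SM (s : SM) : Nm c V (c.ι s) := Nm_of_normal c (fun _ _ hx => V_normal hx) s
theorem Nm_J_SM (s : SM) : Nm c J (c.ι s) :=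
  Nm_of_normal c (fun s x hx => J_normal.conj_mem x hx s) s

theorem mem_R2_of_comm_a0 {s : SM} (h : s * a0 = a0 * s) : s ∈ R2 :=
  Subgroup.mem_centralizer_singleton_iff.mpr h

theorem R2_normal (s x : SM) (hx : x ∈ R2) : s * x * s⁻¹ ∈ R2 := by
  apply mem_R2_of_comm_a0
  have h1 : s⁻¹ * a0 * s⁻¹⁻¹ ∈ V := V_normal a0_mem_V
  rw [inv_inv] at h1
  have h2 := R2_cent hx h1
  calc s * x * s⁻¹ * a0 = s * (x * (s⁻¹ * a0 * s)) * s⁻¹ := by group
    _ = s * ((s⁻¹ * a0 * s) * x) * s⁻¹ := by rw [h2]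
    _ = a0 * (s * x * s⁻¹) := by group

theorem Nm_R2_SM (s : SM) : Nm c R2 (c.ι s) := Nm_of_normal c R2_normal s

/-- if `a ~ z` there is an element of `N_G(R2) ∩ N_G(J)` carrying `a` to `z` -/
theorem exists_a0_to_z [Finite G] (h : Dz c a0) :
    ∃ n : G, Nm c J n ∧ Nm c R2 n ∧ Nm c V n ∧ n * c.ι a0 * n⁻¹ = c.ι z0 := by
  obtain ⟨n, hn, hC⟩ := to_z c h
  have hR : ∀ r ∈ R2, ∃ y, n * c.ι r * n⁻¹ = c.ι y := fun r hr =>
    hC r (Subgroup.mem_centralizer_singleton_iff.mp hr).symm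
  have hJ : Nm c J n := wJ c n (fun x hx => hR x (J_le_R2 hx))
  have hV : Nm c V n := by
    intro w hw
    obtain ⟨w', hw', hww⟩ := hJ w (V_le_J hw)
    refine ⟨w', ?_, hww⟩
    by_contra hV'
    have hOm : w' ∈ Om := by
      rw [mem_Om_iff]
      refine ⟨hw', ?_⟩
      apply c.inj
      have h2 := (mem_Om_iff.mp (V_le_Om hw)).2
      rw [map_mul, ← hww, ← conj_map_mul, ← map_mul, h2, map_one]; group
    have h128 := card_cent_Om hOm hV'
    have h3 : tr c n R2 ≤ Subgroup.centralizer ({w'} : Set SM) := by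
      intro y hy
      obtain ⟨x, hx, hxy⟩ := (mem_tr c).mp hy
      rw [Subgroup.mem_centralizer_singleton_iff]
      apply c.inj
      rw [map_mul, map_mul, ← hxy, ← hww, ← conj_map_mul, ← map_mul, R2_cent hx hw, map_mul,
        conj_map_mul]
    have h4 := Subgroup.card_le_of_le h3
    rw [card_tr c hR, card_R2] at h4
    omega
  refine ⟨n, hJ, ?_, hV, hn⟩
  intro r hr
  obtain ⟨s, hs⟩ := hR r hr
  refine ⟨s, ?_, hs⟩
  obtain ⟨w, hw, hww⟩ := Nm_surj c hV a0_mem_V
  apply mem_R2_of_comm_a0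
  apply c.inj
  rw [map_mul, map_mul, ← hs, ← hww, ← conj_map_mul, ← map_mul, R2_cent hr hw, map_mul,
    conj_map_mul]

theorem Nm_ne_one {n : G} {x y : SM} (hx : x ≠ 1) (h : n * c.ι x * n⁻¹ = c.ι y) : y ≠ 1 := by
  rintro rfl
  apply hx
  apply c.inj; apply conj_inj (g := n)
  rw [h, map_one]; group

theorem swapV [Finite G] (h : Dz c a0) : SwapV c := by
  obtain ⟨n, hJ, hR, hV, hn⟩ := exists_a0_to_z c h
  constructor
  · intro w hw hw1
    rcases V_cases hw with e | e | e | e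
    · exact absurd e hw1
    · rw [e]; exact ⟨n, hJ, hR, hV, hn⟩
    · refine ⟨n * c.ι s0, Nm_mul c hJ (Nm_J_SM c s0), Nm_mul c hR (Nm_R2_SM c s0),
        Nm_mul c hV (Nm_V_SM c s0), ?_⟩
      rw [e]
      calc n * c.ι s0 * c.ι a1 * (n * c.ι s0)⁻¹ = n * c.ι (s0 * a1 * s0⁻¹) * n⁻¹ := by
            rw [map_mul, map_mul, map_inv]; group
        _ = c.ι z0 := by rw [s0_swap.2, hn]
    · rw [e]
      refine ⟨1, ?_, ?_, ?_, by group⟩ <;> intro x hx <;> exact ⟨x, hx, by group⟩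
  · obtain ⟨w, hw, hww⟩ := hV z0 z0_mem_V
    have hw1 : w ≠ 1 := Nm_ne_one c z0_ne_one hww
    have hwz : w ≠ z0 := by
      rintro rfl
      exact a0_ne_z0 (c.inj (conj_inj (g := n) (hn.trans hww.symm)))
    rcases V_cases hw with e | e | e | e
    · exact absurd e hw1
    · rw [e] at hww; exact ⟨n, hJ, hR, hV, hn, hww⟩
    · refine ⟨c.ι s0 * n, Nm_mul c (Nm_J_SM c s0) hJ, Nm_mul c (Nm_R2_SM c s0) hR,
        Nm_mul c (Nm_V_SM c s0) hV, ?_, ?_⟩
      · calc c.ι s0 * n * c.ι a0 * (c.ι s0 * n)⁻¹ = c.ι s0 * (n * c.ι a0 * n⁻¹) * (c.ι s0)⁻¹ := by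
              group
          _ = c.ι z0 := by
            rw [hn, ← map_mul, z0_central, map_mul, mul_inv_cancel_right]
      · calc c.ι s0 * n * c.ι z0 * (c.ι s0 * n)⁻¹ = c.ι s0 * (n * c.ι z0 * n⁻¹) * (c.ι s0)⁻¹ := by
              group
          _ = c.ι (s0 * a1 * s0⁻¹) := by rw [hww, e, map_mul, map_mul, map_inv]
          _ = c.ι a0 := by rw [s0_swap.2]
    · exact absurd e hwz

/-- fusion inside `Ω` -/
theorem a0_of_Om [Finite G] {t : SM} (ht : t ∈ Om) (h1 : t ≠ 1) (hz : t ≠ z0) (h : Dz c t) :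
    Dz c a0 := by
  by_cases hV : t ∈ V
  · exact Dz_a0_of_V c hV h1 hz h
  by_contra hna
  have hb : ∀ x : SM, x ∈ Om → x ∉ V → Dz c x := by
    intro x hx hxV
    obtain ⟨s, hs⟩ := conj_b ht hV hx hxV
    rw [← hs]; exact Dz_smul c h
  obtain ⟨g, hg⟩ := h
  obtain ⟨n, hn, hnt, -⟩ := burnside_J c (mem_Om_iff.mp ht).1 (V_le_J z0_mem_V) hg
  have hOm : ∀ x ∈ Om, ∃ y ∈ Om, n * c.ι x * n⁻¹ = c.ι y := by
    intro x hx
    obtain ⟨y, hy, hxy⟩ := hn x (mem_Om_iff.mp hx).1
    refine ⟨y, mem_Om_iff.mpr ⟨hy, ?_⟩, hxy⟩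
    apply c.inj
    rw [map_mul, ← hxy, ← conj_map_mul, ← map_mul, (mem_Om_iff.mp hx).2, map_one]; group
  have hnotV : ∀ x y : SM, x ∈ Om → x ≠ 1 → Dz c x → n * c.ι x * n⁻¹ = c.ι y → y ∈ Om →
      y ≠ z0 → y ∉ V := by
    intro x y hx hx1 hxD hxy hy hyz hyV
    apply hna
    exact Dz_a0_of_V c hyV (Nm_ne_one c hx1 hxy) hyz (Dz_of_conj c hxD hxy)
  -- `t a₀`
  have hta : t * a0 ∈ Om := Om.mul_mem ht (V_le_Om a0_mem_V)
  have htaV : t * a0 ∉ V := fun h2 => hV (by
    have := V.mul_mem h2 a0_mem_V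
    rwa [mul_assoc, a0_sq, mul_one] at this)
  obtain ⟨w, hw, hww⟩ := hOm _ hta
  have hta1 : t * a0 ≠ 1 := fun h2 => htaV (by rw [h2]; exact V.one_mem)
  have hwz : w ≠ z0 := by
    rintro rfl
    have h2 := c.inj (conj_inj (g := n) (hww.trans hnt.symm))
    have h3 : a0 = 1 := by
      have h4 : t * a0 = t * 1 := by rw [h2, mul_one]
      exact mul_left_cancel h4
    exact a0_ne_one h3
  have hwV := hnotV _ _ hta hta1 (hb _ hta htaV) hww hw hwz
  have hzw : n * c.ι a0 * n⁻¹ = c.ι (z0 * w) := by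
    have h2 : a0 = t * (t * a0) := by
      rw [← mul_assoc, (mem_Om_iff.mp ht).2, one_mul]
    rw [map_mul, ← hww, ← hnt, ← conj_map_mul, ← map_mul, ← h2]
  have hzwOm : z0 * w ∈ Om := Om.mul_mem (V_le_Om z0_mem_V) hw
  have hzwV : z0 * w ∉ V := fun h2 => hwV (by
    have := V.mul_mem z0_mem_V h2
    rwa [← mul_assoc, z0_sq, one_mul] at this)
  exact hna (Dz_of_conj' c (hb _ hzwOm hzwV) hzw)

theorem V_mul_cases {d e : SM} (hd : d ∈ V) (hd1 : d ≠ 1) :
    ∃ e ∈ V, e ≠ 1 ∧ e ≠ d := by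
  by_cases h : d = a0
  · exact ⟨a1, a1_mem_V, a1_ne_one, by rw [h]; exact a0_ne_a1.symm⟩
  · exact ⟨a0, a0_mem_V, a0_ne_one, fun h' => h h'.symm⟩

/-- an involution outside `J` conjugate to `z` forces `a ~ z` -/
theorem a0_of_notJ [Finite G] {t : SM} (ht : t * t = 1) (hJ : t ∉ J) (h : Dz c t) :
    Dz c a0 := by
  obtain ⟨g, hg, hC⟩ := to_z c h
  have htz : t ≠ z0 := by rintro rfl; exact hJ (V_le_J z0_mem_V)
  have hsq : ∀ {x y : SM}, g * c.ι x * g⁻¹ = c.ι y → g * c.ι (x * x) * g⁻¹ = c.ι (y * y) := by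
    intro x y hxy
    rw [map_mul, conj_map_mul, hxy, map_mul]
  have hinj : ∀ {x y : SM}, g * c.ι x * g⁻¹ = g * c.ι y * g⁻¹ → x = y := fun hxy =>
    c.inj (conj_inj hxy)
  have hone : g * c.ι 1 * g⁻¹ = c.ι 1 := by rw [map_one]; group
  by_cases hR : t ∈ R1
  · have htu : t * u0 = u0 * t := Subgroup.mem_centralizer_singleton_iff.mp hR
    obtain ⟨u', hu'⟩ := hC u0 htu
    obtain ⟨z', hz'⟩ := hC z0 (z0_central t)
    have huz : u' * u' = z' := by
      apply c.inj
      rw [← hsq hu', u0_sq, hz']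
    have hz1 : z' ≠ 1 := Nm_ne_one c z0_ne_one hz'
    have hzz : z' ≠ z0 := by
      rintro rfl
      exact htz (hinj (hg.trans hz'.symm))
    have hz2 : z' * z' = 1 := by
      apply c.inj; rw [← hsq hz', z0_sq, hone]
    by_cases hV : z' ∈ V
    · exact Dz_a0_of_V c hV hz1 hzz (Dz_of_conj c (Dz_z0 c) hz')
    exfalso
    obtain ⟨⟨w, hwR, hwt, hw2, hw1, hwz, hwt', hwtz⟩, a, b, haR, hbR, hta, htb, hab⟩ :=
      f2a ht hR hJ
    have hcu : ∀ x y : SM, x ∈ R1 → g * c.ι x * g⁻¹ = c.ι y → u' * y = y * u' := by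
      intro x y hx hxy
      have h1 : x * u0 = u0 * x := Subgroup.mem_centralizer_singleton_iff.mp hx
      apply c.inj
      rw [map_mul, map_mul, ← hu', ← hxy, ← conj_map_mul, ← conj_map_mul, ← map_mul, ← map_mul, h1]
    rcases fZ (x := u') (by rw [huz]; exact hz1) (by rw [huz]; exact hz2) (by rw [huz]; exact hV)
      with ⟨-, h1⟩ | h1
    · obtain ⟨a', ha'⟩ := hC a hta
      obtain ⟨b', hb'⟩ := hC b htb
      apply hab
      apply hinj
      rw [map_mul, map_mul, conj_map_mul, conj_map_mul, ha', hb', ← map_mul, ← map_mul,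
        comm_J (h1 a' (hcu a a' haR ha')) (h1 b' (hcu b b' hbR hb'))]
    · obtain ⟨w', hw'⟩ := hC w hwt
      have h2 := fR h1 (by rw [huz]; exact hz2) (y := w') (by
        apply c.inj; rw [← hsq hw', hw2, hone]) (hcu w w' hwR hw')
      rw [huz] at h2
      rcases h2 with h3 | h3 | h3 | h3
      · apply hw1; apply hinj; rw [hw', h3, hone]
      · apply hwt'; apply hinj; rw [hw', h3, hg]
      · apply hwz; apply hinj; rw [hw', h3, hz']
      · apply hwtz; apply hinj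
        rw [hw', h3, map_mul c.ι t z0, conj_map_mul, hg, hz', ← map_mul, z0_central]
  · have hR2 : t ∈ R2 := by
      rcases inv_cases ht with h1 | h1
      · exact absurd h1 hR
      · exact h1
    obtain ⟨⟨f, hfJ, htf, hf1, hfV⟩, hconj⟩ := f2b ht hR2 hR
    set d := f * f with hd
    obtain ⟨f', hf'⟩ := hC f htf
    have htV : ∀ v ∈ V, t * v = v * t := fun v hv => R2_cent hR2 hv
    obtain ⟨d', hd'⟩ := hC d (htV d hfV)
    have hfd : f' * f' = d' := by
      apply c.inj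
      rw [← hsq hf', hd']
    have hdt : d ≠ t := fun h1 => hJ (by rw [← h1]; exact V_le_J hfV)
    have hd'1 : d' ≠ 1 := Nm_ne_one c hf1 hd'
    have hd'z : d' ≠ z0 := by
      rintro rfl
      exact hdt (hinj (hd'.trans hg.symm))
    have hd'2 : d' * d' = 1 := by
      apply c.inj; rw [← hsq hd', (mem_Om_iff.mp (V_le_Om hfV)).2, hone]
    by_cases hV : d' ∈ V
    · -- `z d' = (t d)^g`
      have h1 : g * c.ι (t * d) * g⁻¹ = c.ι (z0 * d') := by
        rw [map_mul, conj_map_mul, hg, hd', map_mul]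
      obtain ⟨s, hs⟩ := hconj d hfV
      have h2 : Dz c (t * d) := by rw [← hs]; exact Dz_smul c h
      have h3 : Dz c (z0 * d') := Dz_of_conj c h2 h1
      refine Dz_a0_of_V c (V.mul_mem z0_mem_V hV) ?_ ?_ h3
      · intro h4
        apply hd'z
        calc d' = z0 * (z0 * d') := by rw [← mul_assoc, z0_sq, one_mul]
          _ = z0 := by rw [h4, mul_one]
      · intro h4
        apply hd'1
        calc d' = z0 * (z0 * d') := by rw [← mul_assoc, z0_sq, one_mul]
          _ = 1 := by rw [h4, z0_sq]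
    have hcf : ∀ x y : SM, x * f = f * x → g * c.ι x * g⁻¹ = c.ι y → f' * y = y * f' := by
      intro x y hx hxy
      apply c.inj
      rw [map_mul, map_mul, ← hf', ← hxy, ← conj_map_mul, ← conj_map_mul, ← map_mul, ← map_mul, hx]
    rcases fZ (x := f') (by rw [hfd]; exact hd'1) (by rw [hfd]; exact hd'2)
      (by rw [hfd]; exact hV) with ⟨-, h1⟩ | h1
    · -- `z^g ∈ J`
      obtain ⟨z', hz'⟩ := hC z0 (z0_central t)
      have hz'J : z' ∈ J := h1 z' (hcf z0 z' (z0_central f).symm hz')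
      have hz2 : z' * z' = 1 := by
        apply c.inj; rw [← hsq hz', z0_sq, hone]
      have hzz : z' ≠ z0 := by
        rintro rfl
        exact htz (hinj (hg.trans hz'.symm))
      exact a0_of_Om c (mem_Om_iff.mpr ⟨hz'J, hz2⟩) (Nm_ne_one c z0_ne_one hz') hzz
        (Dz_of_conj c (Dz_z0 c) hz')
    · exfalso
      obtain ⟨e, heV, he1, hed⟩ := V_mul_cases (e := d) hfV hf1
      obtain ⟨e', he'⟩ := hC e (htV e heV)
      have he2 : e * e = 1 := (mem_Om_iff.mp (V_le_Om heV)).2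
      have h2 := fR h1 (by rw [hfd]; exact hd'2) (y := e') (by
        apply c.inj; rw [← hsq he', he2, hone]) (hcf e e' (comm_J (V_le_J heV) hfJ) he')
      rw [hfd] at h2
      rcases h2 with h3 | h3 | h3 | h3
      · apply he1; apply hinj; rw [he', h3, hone]
      · apply hJ
        have h4 : e = t := hinj (by rw [he', h3, hg])
        rw [← h4]; exact V_le_J heV
      · apply hed; apply hinj; rw [he', h3, hd']
      · apply hJ
        have h4 : e = t * d := hinj (by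
          rw [he', h3, map_mul c.ι t d, conj_map_mul, hg, hd', ← map_mul, z0_central])
        have h5 : t = e * d := by
          rw [h4, mul_assoc, (mem_Om_iff.mp (V_le_Om hfV)).2, mul_one]
        rw [h5]; exact V_le_J (V.mul_mem heV hfV)

end Cfsg.Agent.HSType.JFus
end

-- part: HSType/KNil
section
/-!
# `C_G(V)` is 2-nilpotent with Sylow 2-subgroup `R2`
-/

set_option autoImplicit false
set_option maxHeartbeats 400000

namespace Cfsg.Agent.HSType.KNil

open Subgroup Cfsg.Agent.HSType.Model Cfsg.Agent.HSType.Facts Cfsg.Agent.HSType.FactsU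
  Cfsg.Agent.HSType.Basic Cfsg.Agent.HSType.Trans Cfsg.Agent.HSType.Spec

/-! ### general lemmas -/

section gen

variable {X : Type*} [Group X]

/-- Burnside: if the Sylow 2-subgroup `A` of `Y` is centralized by its normalizer, then
`Y = L A` with `L` normal of odd order. -/
theorem burnside_gen [Finite X] {Y A : Subgroup X} (hA2 : IsPGroup 2 A) (hAY : A ≤ Y)
    (hmax : ¬ 2 ∣ A.relIndex Y)
    (hN : ∀ r ∈ Y, (∀ a ∈ A, r * a * r⁻¹ ∈ A) → ∀ a ∈ A, r * a * r⁻¹ = a) :
    ∃ L : Subgroup X, L ≤ Y ∧ Odd (Nat.card L) ∧ (∀ y ∈ Y, ∀ l ∈ L, y * l * y⁻¹ ∈ L) ∧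
      (∀ y ∈ Y, Odd (orderOf y) → y ∈ L) ∧ ∀ y ∈ Y, ∃ l ∈ L, ∃ a ∈ A, y = l * a := by
  classical
  have : Fact (Nat.Prime 2) := ⟨Nat.prime_two⟩
  have hAp : IsPGroup 2 (A.subgroupOf Y) :=
    hA2.of_injective (A.subgroupOfEquivOfLe hAY).toMonoidHom (A.subgroupOfEquivOfLe hAY).injective
  set P : Sylow 2 Y := hAp.toSylow hmax with hP
  have hPA' : ∀ y : Y, y ∈ P ↔ (y : X) ∈ A := fun y => Iff.rfl
  have hNC : normalizer (P : Set Y) ≤ centralizer (P : Set Y) := by
    intro r hr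
    rw [mem_centralizer_iff]
    intro a ha
    have h1 : ∀ a ∈ A, (r : X) * a * (r : X)⁻¹ ∈ A := by
      intro a ha
      have h2 := (mem_normalizer_iff.mp hr ⟨a, hAY ha⟩).mp ((hPA' _).mpr ha)
      exact (hPA' _).mp h2
    have h2 := hN r r.2 h1 a ((hPA' a).mp ha)
    apply Subtype.ext
    show (a : X) * r = r * a
    calc (a : X) * r = ((r : X) * a * (r : X)⁻¹) * r := by rw [h2]
      _ = _ := by group
  obtain ⟨L, hLn, hodd, hcomp, hLm⟩ : ∃ L : Subgroup Y, L.Normal ∧ ¬ 2 ∣ Nat.card L ∧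
      IsComplement' L (P : Subgroup Y) ∧ ∀ y : Y, Odd (orderOf y) → y ∈ L := by
    refine ⟨(MonoidHom.transferSylow P hNC).ker, MonoidHom.normal_ker _,
      MonoidHom.not_dvd_card_ker_transferSylow P hNC,
      MonoidHom.ker_transferSylow_isComplement' P hNC, ?_⟩
    intro y hy
    rw [MonoidHom.mem_ker]
    exact Transfer.NormalPComplement.map_eq_one_of_coprime P.isPGroup' _
      (Nat.coprime_two_right.mpr hy)
  refine ⟨L.map Y.subtype, ?_, ?_, ?_, ?_, ?_⟩
  · rintro _ ⟨y, -, rfl⟩; exact y.2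
  · rw [Nat.card_congr (L.equivMapOfInjective _ Y.subtype_injective).symm.toEquiv,
      ← Nat.not_even_iff_odd, even_iff_two_dvd]
    exact hodd
  · rintro c hc _ ⟨y, hy, rfl⟩
    have h1 : (⟨c, hc⟩ : Y) * y * (⟨c, hc⟩ : Y)⁻¹ ∈ L := hLn.conj_mem y hy ⟨c, hc⟩
    exact mem_map_of_mem Y.subtype h1
  · intro y hy ho
    exact ⟨⟨y, hy⟩, hLm _ (by rw [Subgroup.orderOf_mk]; exact ho), rfl⟩
  · intro c hc
    obtain ⟨⟨l, p⟩, hlp, -⟩ := hcomp.existsUnique ⟨c, hc⟩
    have h1 : ((l : Y) : X) * ((p : Y) : X) = c := by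
      have := congrArg Subtype.val hlp
      simpa using this
    exact ⟨(l : Y), ⟨l, l.2, rfl⟩, (p : Y), p.2, h1.symm⟩

/-- an element of odd order acting on `w` by an involution it centralizes -/
theorem conj_eq_of_odd {r w t : X} (ho : Odd (orderOf r)) (h : r * w * r⁻¹ = t * w)
    (ht : r * t = t * r) (ht2 : t * t = 1) : r * w * r⁻¹ = w := by
  have hpow : ∀ k : ℕ, r ^ k * w * (r ^ k)⁻¹ = t ^ k * w := by
    intro k
    induction k with
    | zero => simp
    | succ k ih =>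
      have h1 : r ^ (k + 1) * w * (r ^ (k + 1))⁻¹ = r * (r ^ k * w * (r ^ k)⁻¹) * r⁻¹ := by
        rw [pow_succ']; group
      have h2 : r * t ^ k = t ^ k * r := by
        have : Commute r t := ht
        exact (this.pow_right k)
      rw [h1, ih]
      calc r * (t ^ k * w) * r⁻¹ = (r * t ^ k) * w * r⁻¹ := by group
        _ = t ^ k * (r * w * r⁻¹) := by rw [h2]; group
        _ = t ^ (k + 1) * w := by rw [h, pow_succ]; group
  have h1 := hpow (orderOf r)
  rw [pow_orderOf_eq_one, inv_one, mul_one, one_mul] at h1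
  obtain ⟨j, hj⟩ := ho
  have h2 : t ^ orderOf r = t := by rw [hj, pow_add, pow_mul, pow_two, ht2, one_pow, one_mul, pow_one]
  rw [h2] at h1
  rw [h, ← h1]

/-- decomposition of an element as a product of powers of even and odd parts -/
theorem exists_decomp [Finite X] (x : X) : ∃ y ∈ zpowers x, ∃ z ∈ zpowers x, x = z * y ∧
    (∃ k : ℕ, y ^ (2 ^ k) = 1) ∧ Odd (orderOf z) := by
  obtain ⟨k, m, hm, h⟩ := Nat.exists_eq_two_pow_mul_odd (orderOf_pos x).ne'
  have hcop : Nat.Coprime (2 ^ k) m := Nat.Coprime.pow_left k (Nat.coprime_two_left.mpr hm)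
  have hb := Nat.gcd_eq_gcd_ab (2 ^ k) m
  rw [Nat.Coprime.gcd_eq_one hcop] at hb
  refine ⟨x ^ ((m : ℤ) * Nat.gcdB (2 ^ k) m), zpow_mem (mem_zpowers x) _,
    x ^ (((2 ^ k : ℕ) : ℤ) * Nat.gcdA (2 ^ k) m), zpow_mem (mem_zpowers x) _, ?_, ⟨k, ?_⟩, ?_⟩
  · rw [← zpow_add, ← hb]; simp
  · rw [← zpow_natCast, ← zpow_mul]
    have h1 : (m : ℤ) * Nat.gcdB (2 ^ k) m * ((2 ^ k : ℕ) : ℤ) =
        (orderOf x : ℤ) * Nat.gcdB (2 ^ k) m := by
      rw [h]; push_cast; ring
    rw [h1, zpow_mul, zpow_natCast, pow_orderOf_eq_one, one_zpow]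
  · refine hm.of_dvd_nat (orderOf_dvd_of_pow_eq_one ?_)
    rw [← zpow_natCast, ← zpow_mul]
    have h1 : ((2 ^ k : ℕ) : ℤ) * Nat.gcdA (2 ^ k) m * (m : ℤ) =
        (orderOf x : ℤ) * Nat.gcdA (2 ^ k) m := by
      rw [h]; push_cast; ring
    rw [h1, zpow_mul, zpow_natCast, pow_orderOf_eq_one, one_zpow]

/-- the centralizer of `u` modulo `N` inside `C` -/
def Yu (C N : Subgroup X) (u : X) (hn : ∀ g ∈ C, ∀ n ∈ N, g * n * g⁻¹ ∈ N) : Subgroup X where
  carrier := {k | k ∈ C ∧ ∃ n ∈ N, k * u * k⁻¹ = n * u}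
  one_mem' := ⟨C.one_mem, 1, N.one_mem, by group⟩
  mul_mem' := by
    rintro k l ⟨hk, n, hnN, h1⟩ ⟨hl, m, hm, h2⟩
    refine ⟨C.mul_mem hk hl, (k * m * k⁻¹) * n, N.mul_mem (hn k hk m hm) hnN, ?_⟩
    calc k * l * u * (k * l)⁻¹ = k * (l * u * l⁻¹) * k⁻¹ := by group
      _ = (k * m * k⁻¹) * (k * u * k⁻¹) := by rw [h2]; group
      _ = (k * m * k⁻¹) * n * u := by rw [h1]; group
  inv_mem' := by
    rintro k ⟨hk, n, hnN, h1⟩
    refine ⟨C.inv_mem hk, (k⁻¹ * n * k⁻¹⁻¹)⁻¹, N.inv_mem (hn _ (C.inv_mem hk) n hnN), ?_⟩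
    have h2 : n = k * u * k⁻¹ * u⁻¹ := by rw [h1]; group
    rw [h2]; group

theorem mem_Yu {C N : Subgroup X} {u : X} {hn : ∀ g ∈ C, ∀ n ∈ N, g * n * g⁻¹ ∈ N} {k : X} :
    k ∈ Yu C N u hn ↔ k ∈ C ∧ ∃ n ∈ N, k * u * k⁻¹ = n * u := Iff.rfl

theorem sq_mem_Yu {C N : Subgroup X} {u z : X} (hn : ∀ g ∈ C, ∀ n ∈ N, g * n * g⁻¹ ∈ N)
    (hz2 : z * z = 1) (hzc : ∀ g ∈ C, g * z = z * g)
    (hmv : ∀ g ∈ C, ∃ n ∈ N, g * u * g⁻¹ = n * u ∨ g * u * g⁻¹ = n * (u * z)) {k : X}
    (hk : k ∈ C) : k * k ∈ Yu C N u hn := by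
  rw [mem_Yu]
  refine ⟨C.mul_mem hk hk, ?_⟩
  obtain ⟨n, hnN, h1⟩ := hmv k hk
  rcases h1 with h1 | h1
  · refine ⟨(k * n * k⁻¹) * n, N.mul_mem (hn k hk n hnN) hnN, ?_⟩
    calc k * k * u * (k * k)⁻¹ = k * (k * u * k⁻¹) * k⁻¹ := by group
      _ = k * (n * u) * k⁻¹ := by rw [h1]
      _ = (k * n * k⁻¹) * (k * u * k⁻¹) := by group
      _ = (k * n * k⁻¹) * n * u := by rw [h1]; group
  · refine ⟨(k * n * k⁻¹) * n, N.mul_mem (hn k hk n hnN) hnN, ?_⟩
    have hz' : k * z * k⁻¹ = z := by rw [hzc k hk]; group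
    calc k * k * u * (k * k)⁻¹ = k * (k * u * k⁻¹) * k⁻¹ := by group
      _ = k * (n * (u * z)) * k⁻¹ := by rw [h1]
      _ = (k * n * k⁻¹) * (k * u * k⁻¹) * (k * z * k⁻¹) := by group
      _ = (k * n * k⁻¹) * n * u * (z * z) := by rw [h1, hz']; group
      _ = (k * n * k⁻¹) * n * u := by rw [hz2, mul_one]

/-- a subgroup containing all squares is normalized -/
theorem conj_mem_of_sq {C Y : Subgroup X} (hYC : Y ≤ C) (hsq : ∀ k ∈ C, k * k ∈ Y) {g k : X}
    (hg : g ∈ C) (hk : k ∈ Y) : g * k * g⁻¹ ∈ Y := by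
  have h1 : g * k * g⁻¹ = (g * g) * ((g⁻¹ * k) * (g⁻¹ * k)) * (k * k)⁻¹ * k := by group
  rw [h1]
  exact Y.mul_mem (Y.mul_mem (Y.mul_mem (hsq g hg) (hsq _ (C.mul_mem (C.inv_mem hg) (hYC hk))))
    (Y.inv_mem (hsq k (hYC hk)))) hk

end gen

/-! ### facts on the model -/

theorem J_comm {x y : SM} (hx : x ∈ J) (hy : y ∈ J) : x * y = y * x := by
  have hd : allLT 64 (fun a => allLT 64 (fun b => com a b)) = true := by decide +kernel
  have hx' : x.1 < 64 := Nat.le_of_ble_eq_true hx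
  have hy' : y.1 < 64 := Nat.le_of_ble_eq_true hy
  exact of_com (allLT_spec (allLT_spec hd x.1 hx') y.1 hy')

theorem J_le_R2 : J ≤ R2 := by
  intro x hx
  have hd : allLT 64 (fun a => inR2 a) = true := by decide +kernel
  exact mem_R2.mpr (allLT_spec hd x.1 (Nat.le_of_ble_eq_true hx))

theorem u0_mem_J : u0 ∈ J := by
  show inJ 37 = true
  decide

theorem a0_mem_V : a0 ∈ V := by show inV 2 = true; decide
theorem a0_ne_one : a0 ≠ 1 := by
  intro h; have := congrArg SM.val h; exact absurd this (by decide)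
theorem a0_ne_z0 : a0 ≠ z0 := by
  intro h; have := congrArg SM.val h; exact absurd this (by decide)
theorem a0_sq : a0 * a0 = 1 := SM.ext (by decide +kernel)

/-- the kernel fact F2 -/
theorem mem_J_of {x y : SM} (hx : x ∈ J) (hxa : x * x = a0) (hns : ∀ r ∈ R2, r * r ≠ x)
    (hs : ∃ s ∈ R2, s ∉ J ∧ s * x = x * s) (hy : y ∈ R2) (hyu : y * u0 = u0 * y)
    (hyx : y * x = x * y) : y ∈ J := by
  have hd : allLT 64 (fun a => imp (sqIs a 2) (orB
      (exLT 512 (fun r => andB (inR2 r) (sqIs r a)))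
      (orB (allLT 512 (fun s => imp (inR2 s) (imp (com s a) (inJ s))))
        (allLT 512 (fun y => imp (inR2 y) (imp (com y 37) (imp (com y a) (inJ y)))))))) = true := by
    decide +kernel
  have h1 := imp_spec (allLT_spec hd x.1 (Nat.le_of_ble_eq_true hx)) (sqIs_of (y := a0) hxa)
  rcases orB_spec h1 with h2 | h2
  · obtain ⟨r, hr, hr'⟩ := exLT_spec h2
    obtain ⟨h3, h4⟩ := andB_spec hr'
    exact absurd (of_sqIs (x := ⟨r, hr⟩) h4) (hns ⟨r, hr⟩ (mem_R2.mpr h3))
  rcases orB_spec h2 with h3 | h3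
  · obtain ⟨s, hs1, hs2, hs3⟩ := hs
    exact absurd (imp_spec (imp_spec (allLT_spec h3 s.1 s.2) (mem_R2.mp hs1)) (com_of hs3)) hs2
  · exact imp_spec (imp_spec (imp_spec (allLT_spec h3 y.1 y.2) (mem_R2.mp hy))
      (com_of (y := u0) hyu)) (com_of hyx)

theorem sq_mem_Om {x : SM} (hx : x ∈ J) : x * x ∈ Om := by
  have hd : allLT 64 (fun a => inOm (mulN a a)) = true := by decide +kernel
  exact allLT_spec hd x.1 (Nat.le_of_ble_eq_true hx)

theorem mem_Om_of_sq {x : SM} (hx : x ∈ J) (h : x * x = 1) : x ∈ Om := by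
  have hd : allLT 64 (fun a => imp (sqIs a 0) (inOm a)) = true := by decide +kernel
  exact imp_spec (allLT_spec hd x.1 (Nat.le_of_ble_eq_true hx)) (sqIs_of (y := 1) h)

theorem Om_le_J : Om ≤ J := by
  intro x hx
  have hd : allLT 512 (fun a => imp (inOm a) (inJ a)) = true := by decide +kernel
  exact imp_spec (allLT_spec hd x.1 x.2) hx

theorem Om_sq {x : SM} (hx : x ∈ Om) : x * x = 1 := by
  have hd : allLT 512 (fun a => imp (inOm a) (sqIs a 0)) = true := by decide +kernel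
  exact of_sqIs (y := 1) (imp_spec (allLT_spec hd x.1 x.2) hx)

theorem V_le_Om : V ≤ Om := by
  intro x hx
  have hd : allLT 512 (fun a => imp (inV a) (inOm a)) = true := by decide +kernel
  exact imp_spec (allLT_spec hd x.1 x.2) hx

theorem mul_mem_V {x y : SM} (hx : x ∈ Om) (hy : y ∈ Om) (hxV : x ∉ V) (hyV : y ∉ V) :
    x * y ∈ V := by
  have hd : allLT 512 (fun a => imp (inOm a) (orB (inV a) (allLT 512 (fun b =>
    imp (inOm b) (orB (inV b) (inV (mulN a b))))))) = true := by decide +kernel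
  rcases orB_spec (imp_spec (allLT_spec hd x.1 x.2) hx) with h | h
  · exact absurd h hxV
  rcases orB_spec (imp_spec (allLT_spec h y.1 y.2) hy) with h1 | h1
  · exact absurd h1 hyV
  · exact h1

theorem V_cases {x : SM} (hx : x ∈ V) : x = 1 ∨ x = z0 ∨ x = a0 ∨ x = a0 * z0 := by
  have hd : allLT 512 (fun a => imp (inV a) (orB (Nat.beq a 0) (orB (Nat.beq a 10)
    (orB (Nat.beq a 2) (Nat.beq a 8))))) = true := by decide +kernel
  have e : a0 * z0 = el 8 := SM.ext (by decide +kernel)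
  rw [e]
  rcases orB_spec (imp_spec (allLT_spec hd x.1 x.2) hx) with h | h
  · exact Or.inl (ext_beq (y := 1) h)
  rcases orB_spec h with h | h
  · exact Or.inr (Or.inl (ext_beq (y := z0) h))
  rcases orB_spec h with h | h
  · exact Or.inr (Or.inr (Or.inl (ext_beq (y := a0) h)))
  · exact Or.inr (Or.inr (Or.inr (ext_beq (y := el 8) h)))

theorem exists_outside : ∃ s ∈ R2, s ∉ J ∧ s * u0 = u0 * s := by
  refine ⟨el 128, mem_R2.mpr (by decide +kernel), ?_, ?_⟩
  · intro h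
    have h' : inJ 128 = true := h
    exact absurd h' (by decide)
  · exact of_com (x := el 128) (y := u0) (by decide +kernel)

/-! ### the theorem -/

variable {G : Type*} [Group G] (c : Ctx G)

theorem mem_KV {g : G} : g ∈ KV c ↔ g * c.ι z0 = c.ι z0 * g ∧ g * c.ι a0 = c.ι a0 * g := by
  unfold KV
  rw [mem_centralizer_iff]
  constructor
  · intro h
    exact ⟨(h _ (by simp)).symm, (h _ (by simp)).symm⟩
  · rintro ⟨h1, h2⟩ x hx
    rcases hx with rfl | hx
    · exact h1.symm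
    · rw [Set.mem_singleton_iff] at hx; rw [hx]; exact h2.symm

theorem map_R2_le : R2.map c.ι ≤ KV c := by
  rintro _ ⟨r, hr, rfl⟩
  show c.ι r ∈ KV c
  rw [mem_KV, ← map_mul, ← map_mul, ← map_mul, ← map_mul, z0_central]
  refine ⟨rfl, ?_⟩
  rw [mem_centralizer_singleton_iff.mp hr]

/-- `R2` is a Sylow 2-subgroup of `C_G(V)` -/
theorem R2_sylow [Finite G] : ¬ 2 ∣ (R2.map c.ι).relIndex (KV c) := by
  refine not_dvd_relIndex c (KV c) R2 card_R2 (map_R2_le c) ?_
  intro P hPK hP h512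
  obtain ⟨g, hg⟩ := central_of_big c hP h512
  have h1 := hg z0 (fun p hp => ((mem_KV c).mp (hPK hp)).1.symm)
  have h2 := hg a0 (fun p hp => ((mem_KV c).mp (hPK hp)).2.symm)
  have hne : ∀ x : SM, x ≠ 1 → g * c.ι x * g⁻¹ ≠ 1 := by
    intro x hx h
    apply hx
    apply c.inj
    apply conj_inj (g := g)
    rw [h, map_one]; group
  have h3 := h1.resolve_left (hne z0 z0_ne_one)
  have h4 := h2.resolve_left (hne a0 a0_ne_one)
  exact a0_ne_z0 (c.inj (conj_inj (h4.trans h3.symm)))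

/-- inverse of a normalizing element -/
theorem Nm_inv [Finite G] {X : Subgroup SM} {g : G} (h : Nm c X g) : Nm c X g⁻¹ := by
  have h1 : g ∈ normalizer ((X.map c.ι : Subgroup G) : Set G) := by
    refine mem_normalizer_of_forall ?_
    rintro _ ⟨x, hx, rfl⟩
    obtain ⟨y, hy, hxy⟩ := h x hx
    exact ⟨y, hy, hxy.symm⟩
  intro x hx
  have h2 := conj_mem_of_mem_normalizer (inv_mem h1) (mem_map_of_mem c.ι hx)
  obtain ⟨y, hy, hxy⟩ := h2
  exact ⟨y, hy, hxy.symm⟩

/-- elements of odd order of `C_G(V)` normalizing `J` centralize it -/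
theorem conj_J_of_odd {r : G} (hr : r ∈ KV c) (ho : Odd (orderOf r)) (hJ : Nm c J r) :
    ∀ x ∈ J, r * c.ι x * r⁻¹ = c.ι x := by
  obtain ⟨hz, ha⟩ := (mem_KV c).mp hr
  have hV : ∀ x ∈ V, r * c.ι x = c.ι x * r := by
    intro x hx
    rcases V_cases hx with rfl | rfl | rfl | rfl
    · rw [map_one, mul_one, one_mul]
    · exact hz
    · exact ha
    · rw [map_mul, ← mul_assoc, ha, mul_assoc, hz, ← mul_assoc]
  have hOm : ∀ x ∈ Om, r * c.ι x = c.ι x * r := by
    intro x hx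
    by_cases hxV : x ∈ V
    · exact hV x hxV
    obtain ⟨y, hy, hxy⟩ := hJ x (Om_le_J hx)
    have hyO : y ∈ Om := by
      refine mem_Om_of_sq hy ?_
      apply c.inj
      rw [map_mul, ← hxy, ← conj_map_mul, ← map_mul, Om_sq hx, map_one]; group
    have hyV : y ∉ V := by
      intro hyV
      apply hxV
      have h1 : c.ι x = c.ι y := by
        have h2 := hV y hyV
        have h3 : c.ι x = r⁻¹ * c.ι y * r := by rw [← hxy]; group
        rw [h3, mul_assoc, ← h2]; group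
      rw [c.inj h1]; exact hyV
    have ht := mul_mem_V hyO hx hyV hxV
    have hxx : c.ι x * c.ι x = 1 := by rw [← map_mul, Om_sq hx, map_one]
    have h1 : r * c.ι x * r⁻¹ = c.ι (y * x) * c.ι x := by
      rw [hxy, map_mul, mul_assoc, hxx, mul_one]
    have h2 := conj_eq_of_odd ho h1 (hV _ ht) (by
      rw [← map_mul, Om_sq (V_le_Om ht), map_one])
    calc r * c.ι x = (r * c.ι x * r⁻¹) * r := by group
      _ = c.ι x * r := by rw [h2]
  intro x hx
  obtain ⟨y, hy, hxy⟩ := hJ x hx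
  have hsq := hOm _ (sq_mem_Om hx)
  -- `t = y x⁻¹`
  have hcomm := J_comm hy (J.inv_mem hx)
  have hyy : y * y = x * x := by
    apply c.inj
    rw [map_mul, ← hxy, ← conj_map_mul, ← map_mul, hsq, mul_inv_cancel_right]
  have ht2 : (y * x⁻¹) * (y * x⁻¹) = 1 := by
    calc (y * x⁻¹) * (y * x⁻¹) = y * (x⁻¹ * y) * x⁻¹ := by group
      _ = y * (y * x⁻¹) * x⁻¹ := by rw [← hcomm]
      _ = (y * y) * (x⁻¹ * x⁻¹) := by group
      _ = 1 := by rw [hyy]; group
  have htO := mem_Om_of_sq (J.mul_mem hy (J.inv_mem hx)) ht2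
  refine conj_eq_of_odd (t := c.ι (y * x⁻¹)) ho ?_ (hOm _ htO) (by
    rw [← map_mul, ht2, map_one])
  rw [hxy, ← map_mul, inv_mul_cancel_right]

theorem exists_KN [Finite G] (hS : SwapV c) {N : Subgroup G} (hN : ZN c N) :
    ∃ M, KN c M := by
  have : Fact (Nat.Prime 2) := ⟨Nat.prime_two⟩
  -- the element `x` of `J` with square `a0`
  obtain ⟨n, hnJ, hnR, -, hna⟩ := hS.toz a0 a0_mem_V a0_ne_one
  obtain ⟨x, hx, hnx⟩ := Nm_inv c hnJ u0 u0_mem_J
  rw [inv_inv] at hnx
  have hnx' : n * c.ι x * n⁻¹ = c.ι u0 := by rw [← hnx]; group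
  have hxa : x * x = a0 := by
    apply c.inj
    apply conj_inj (g := n)
    rw [map_mul, conj_map_mul, hnx', ← map_mul, u0_sq, hna]
  have hns : ∀ r ∈ R2, r * r ≠ x := by
    intro r hr h
    obtain ⟨y, -, hy⟩ := hnR r hr
    apply no_sqrt_u0 y
    apply c.inj
    rw [map_mul, ← hy, ← conj_map_mul, ← map_mul, h, hnx']
  have hsx : ∃ s ∈ R2, s ∉ J ∧ s * x = x * s := by
    obtain ⟨s, hs, hsJ, hsu⟩ := exists_outside
    obtain ⟨y, hy, hsy⟩ := Nm_inv c hnR s hs
    rw [inv_inv] at hsy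
    refine ⟨y, hy, ?_, ?_⟩
    · intro hyJ
      obtain ⟨w, hw, hyw⟩ := hnJ y hyJ
      apply hsJ
      have h1 : c.ι s = c.ι w := by rw [← hyw, ← hsy]; group
      rw [c.inj h1]; exact hw
    · apply c.inj
      rw [map_mul, map_mul, ← hsy, ← hnx]
      have h1 : c.ι s * c.ι u0 = c.ι u0 * c.ι s := by rw [← map_mul, hsu, map_mul]
      calc n⁻¹ * c.ι s * n * (n⁻¹ * c.ι u0 * n) = n⁻¹ * (c.ι s * c.ι u0) * n := by group
        _ = n⁻¹ * (c.ι u0 * c.ι s) * n := by rw [h1]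
        _ = _ := by group
  -- `C_G(a)` and `N_a`
  set Ca : Subgroup G := centralizer {c.ι a0} with hCa
  have hCa' : ∀ g ∈ Ca, n * g * n⁻¹ ∈ Cz c := by
    intro g hg
    rw [mem_Cz, ← hna]
    have h1 := mem_centralizer_singleton_iff.mp hg
    calc n * g * n⁻¹ * (n * c.ι a0 * n⁻¹) * (n * g * n⁻¹)⁻¹ = n * ((g * c.ι a0) * g⁻¹) * n⁻¹ := by
          group
      _ = n * c.ι a0 * n⁻¹ := by rw [h1]; group
  set Na : Subgroup G := N.map (MulAut.conj n⁻¹).toMonoidHom with hNa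
  have hNamem : ∀ m, m ∈ Na ↔ n * m * n⁻¹ ∈ N := by
    intro m
    constructor
    · rintro ⟨k, hk, rfl⟩
      have h1 : n * ((MulAut.conj n⁻¹).toMonoidHom k) * n⁻¹ = k := by
        show n * (n⁻¹ * k * n⁻¹⁻¹) * n⁻¹ = k
        group
      rw [h1]; exact hk
    · intro h
      refine ⟨_, h, ?_⟩
      show n⁻¹ * (n * m * n⁻¹) * n⁻¹⁻¹ = m
      group
  have hNao : Odd (Nat.card Na) := by
    rw [hNa, card_map_of_injective (MulAut.conj n⁻¹).injective]; exact hN.odd
  have hNan : ∀ g ∈ Ca, ∀ m ∈ Na, g * m * g⁻¹ ∈ Na := by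
    intro g hg m hm
    rw [hNamem] at hm ⊢
    have h1 := hN.norm _ (hCa' g hg) _ hm
    have h2 : n * g * n⁻¹ * (n * m * n⁻¹) * (n * g * n⁻¹)⁻¹ = n * (g * m * g⁻¹) * n⁻¹ := by group
    rwa [h2] at h1
  have hNamv : ∀ g ∈ Ca, ∃ m ∈ Na, g * c.ι x * g⁻¹ = m * c.ι x ∨
      g * c.ι x * g⁻¹ = m * (c.ι x * c.ι a0) := by
    intro g hg
    obtain ⟨m, hm, h1⟩ := hN.mv _ (hCa' g hg)
    refine ⟨n⁻¹ * m * n, ?_, ?_⟩
    · rw [hNamem]
      have h2 : n * (n⁻¹ * m * n) * n⁻¹ = m := by group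
      rw [h2]; exact hm
    · have h2 : g * c.ι x * g⁻¹ = n⁻¹ * (n * g * n⁻¹ * c.ι u0 * (n * g * n⁻¹)⁻¹) * n := by
        rw [← hnx]; group
      rw [h2]
      rcases h1 with h1 | h1
      · left; rw [h1, ← hnx]; group
      · right
        rw [h1, map_mul, ← hnx, ← hna]; group
  -- `Y0`
  set K : Subgroup G := KV c with hK
  have hKz : K ≤ Cz c := by
    intro g hg
    rw [mem_Cz, ((mem_KV c).mp hg).1, mul_inv_cancel_right]
  have hKa : K ≤ Ca := by
    intro g hg
    rw [hCa, mem_centralizer_singleton_iff]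
    exact ((mem_KV c).mp hg).2
  set Y0 : Subgroup G := K ⊓ (Yu (Cz c) N (c.ι u0) hN.norm ⊓ Yu Ca Na (c.ι x) hNan) with hY0
  have hY0K : Y0 ≤ K := inf_le_left
  have hsqY : ∀ k ∈ K, k * k ∈ Y0 := by
    intro k hk
    refine ⟨K.mul_mem hk hk, ?_, ?_⟩
    · refine sq_mem_Yu (z := c.ι z0) hN.norm ?_ ?_ ?_ (hKz hk)
      · rw [← map_mul, z0_sq, map_one]
      · intro g hg
        have h1 := (mem_Cz c).mp hg
        calc g * c.ι z0 = (g * c.ι z0 * g⁻¹) * g := by group
          _ = _ := by rw [h1]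
      · intro g hg
        obtain ⟨m, hm, h1⟩ := hN.mv g hg
        refine ⟨m, hm, ?_⟩
        rw [map_mul] at h1
        exact h1
    · refine sq_mem_Yu (z := c.ι a0) hNan ?_ ?_ hNamv (hKa hk)
      · rw [← map_mul, a0_sq, map_one]
      · intro g hg
        exact mem_centralizer_singleton_iff.mp hg
  have hY0n : ∀ g ∈ K, ∀ k ∈ Y0, g * k * g⁻¹ ∈ Y0 := fun g hg k hk =>
    conj_mem_of_sq hY0K hsqY hg hk
  -- trivial intersection of the model with odd subgroups
  have htriv : ∀ (L : Subgroup G), Odd (Nat.card L) → ∀ s : SM, c.ι s ∈ L → s = 1 := by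
    intro L hL s hs
    apply c.inj
    rw [map_one]
    have h1 : orderOf (c.ι s) ∣ Nat.card L := L.orderOf_dvd_natCard hs
    have h2 : orderOf (c.ι s) ∣ 2 ^ 9 := by
      have h3 : orderOf (c.ι s) ∣ orderOf s := orderOf_map_dvd c.ι s
      have h4 : orderOf s ∣ Nat.card SM := orderOf_dvd_natCard s
      rw [card_SM] at h4
      exact h3.trans h4
    exact orderOf_eq_one_iff.mp
      (Nat.eq_one_of_dvd_coprimes (Nat.Coprime.pow_right 9 (Nat.coprime_two_right.mpr hL)) h1 h2)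
  -- `R2 ∩ Y0 = J`
  have hJY0 : J.map c.ι ≤ Y0 := by
    rintro _ ⟨j, hj, rfl⟩
    show c.ι j ∈ Y0
    have hjK : c.ι j ∈ K := map_R2_le c (mem_map_of_mem c.ι (J_le_R2 hj))
    refine ⟨hjK, ⟨hKz hjK, 1, one_mem _, ?_⟩, ⟨hKa hjK, 1, one_mem _, ?_⟩⟩
    · rw [one_mul, ← map_mul, J_comm hj u0_mem_J, map_mul, mul_inv_cancel_right]
    · rw [one_mul, ← map_mul, J_comm hj hx, map_mul, mul_inv_cancel_right]
  have hR2Y0 : R2.map c.ι ⊓ Y0 = J.map c.ι := by
    apply le_antisymm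
    · rintro y ⟨hyR, hyY⟩
      obtain ⟨r, hr, rfl⟩ := hyR
      have hyY' : c.ι r ∈ Y0 := hyY
      obtain ⟨-, ⟨-, m, hm, h1⟩, ⟨-, m', hm', h2⟩⟩ := hyY'
      have e1 : r * u0 * r⁻¹ * u0⁻¹ = 1 := by
        refine htriv N hN.odd _ ?_
        have h3 : c.ι (r * u0 * r⁻¹ * u0⁻¹) = m := by
          rw [map_mul, map_mul, map_mul, map_inv, map_inv, h1, mul_inv_cancel_right]
        rw [h3]; exact hm
      have e2 : r * x * r⁻¹ * x⁻¹ = 1 := by
        refine htriv Na hNao _ ?_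
        have h3 : c.ι (r * x * r⁻¹ * x⁻¹) = m' := by
          rw [map_mul, map_mul, map_mul, map_inv, map_inv, h2, mul_inv_cancel_right]
        rw [h3]; exact hm'
      have e1' : r * u0 = u0 * r := by
        have h3 := mul_inv_eq_one.mp e1
        exact mul_inv_eq_iff_eq_mul.mp h3
      have e2' : r * x = x * r := by
        have h3 := mul_inv_eq_one.mp e2
        exact mul_inv_eq_iff_eq_mul.mp h3
      exact mem_map_of_mem c.ι (mem_J_of hx hxa hns hsx hr e1' e2')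
    · refine le_inf ?_ hJY0
      exact map_mono J_le_R2
  -- `J` is Sylow in `Y0`
  have hJs : ¬ 2 ∣ (J.map c.ι).relIndex Y0 := by
    rw [← hR2Y0]
    refine SylowL5.Ctrl.not_dvd_relIndex_inf hY0K hY0n ?_
    rw [inf_eq_left.mpr (map_R2_le c)]
    exact R2_sylow c
  -- Burnside
  obtain ⟨L, hLY, hLo, hLn, hLm, hLd⟩ := burnside_gen (c.isPGroup_map J) hJY0 hJs (by
    intro r hr hrJ
    have hrK : r ∈ K := hY0K hr
    have hNmr : Nm c J r := by
      intro y hy
      obtain ⟨w, hw, h1⟩ := hrJ _ (mem_map_of_mem c.ι hy)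
      exact ⟨w, hw, h1.symm⟩
    have hrN : r ∈ normalizer ((J.map c.ι : Subgroup G) : Set G) := mem_normalizer_of_forall hrJ
    obtain ⟨y, hy, w, hw, hyw, ⟨k, hk⟩, hwo⟩ := exists_decomp r
    have hyY : y ∈ Y0 := (zpowers_le.mpr hr) hy
    have hyN : y ∈ normalizer ((J.map c.ι : Subgroup G) : Set G) := (zpowers_le.mpr hrN) hy
    have hwK : w ∈ K := (zpowers_le.mpr hrK) hw
    have hwN : w ∈ normalizer ((J.map c.ι : Subgroup G) : Set G) := (zpowers_le.mpr hrN) hw
    -- `y ∈ J`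
    have hyJ : y ∈ J.map c.ι := by
      have hz : IsPGroup 2 (zpowers y) := by
        obtain ⟨j, -, hj⟩ := (Nat.dvd_prime_pow Nat.prime_two).mp (orderOf_dvd_of_pow_eq_one hk)
        rw [IsPGroup.iff_card]
        exact ⟨j, by rw [Nat.card_zpowers, hj]⟩
      have hsup : IsPGroup 2 (J.map c.ι ⊔ zpowers y : Subgroup G) :=
        (c.isPGroup_map J).to_sup_of_normal_left' hz (zpowers_le.mpr hyN)
      obtain ⟨g, hg, hgle⟩ := rel_sylow hJY0 (c.isPGroup_map J) hJs
        (sup_le hJY0 (zpowers_le.mpr hyY)) hsup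
      have hcard : Nat.card (J.map c.ι ⊔ zpowers y : Subgroup G) ≤ Nat.card (J.map c.ι) := by
        refine Nat.card_le_card_of_injective
          (fun p : (J.map c.ι ⊔ zpowers y : Subgroup G) => (⟨g * p * g⁻¹, hgle p p.2⟩ : J.map c.ι)) ?_
        intro p q hpq
        have h1 : g * (p : G) * g⁻¹ = g * (q : G) * g⁻¹ := congrArg Subtype.val hpq
        exact Subtype.ext (conj_inj h1)
      have h1 : J.map c.ι = J.map c.ι ⊔ zpowers y := eq_of_le_of_card_ge le_sup_left hcard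
      rw [h1]
      exact mem_sup_right (mem_zpowers y)
    obtain ⟨j, hj, rfl⟩ := hyJ
    have hNmw : Nm c J w := by
      intro v hv
      have h1 := conj_mem_of_mem_normalizer hwN (mem_map_of_mem c.ι hv)
      obtain ⟨u, hu, h2⟩ := h1
      exact ⟨u, hu, h2.symm⟩
    have hwJ := conj_J_of_odd c hwK hwo hNmw
    rintro _ ⟨v, hv, rfl⟩
    have h1 := hwJ v hv
    have h2 : c.ι j * c.ι v = c.ι v * c.ι j := by rw [← map_mul, J_comm hj hv, map_mul]
    show r * c.ι v * r⁻¹ = c.ι v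
    rw [hyw]
    calc w * c.ι j * c.ι v * (w * c.ι j)⁻¹ = w * ((c.ι j * c.ι v) * (c.ι j)⁻¹) * w⁻¹ := by group
      _ = w * c.ι v * w⁻¹ := by rw [h2, mul_inv_cancel_right]
      _ = c.ι v := h1)
  have hLn' : ∀ g ∈ K, ∀ l ∈ L, g * l * g⁻¹ ∈ L := by
    intro g hg l hl
    refine hLm _ (hY0n g hg l (hLY hl)) ?_
    rw [TwoFusion.StronglyEmbeddedBasic.orderOf_conj]
    exact J2Sylow.Functor.odd_orderOf_of_mem hLo hl
  refine ⟨L, hLY.trans hY0K, hLo, hLn', ?_⟩
  intro g hg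
  -- `K = R2 Y0`
  obtain ⟨s, hs, y, hy, rfl⟩ := SylowL5.Ctrl.exists_mul_of_cop (p := 2) hY0K hY0n
    (map_R2_le c) (R2_sylow c) (by
      intro k hk hcop
      obtain ⟨m, hm⟩ := Nat.coprime_two_right.mp hcop
      have h1 : k = ((k * k) ^ (m + 1)) := by
        rw [← pow_two, ← pow_mul]
        have h2 : 2 * (m + 1) = orderOf k + 1 := by rw [hm]; ring
        rw [h2, pow_succ, pow_orderOf_eq_one, one_mul]
      rw [h1]
      exact pow_mem (hsqY k hk) _) hg
  obtain ⟨l, hl, a, ha, rfl⟩ := hLd y hy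
  obtain ⟨r, hr, rfl⟩ := hs
  obtain ⟨j, hj, rfl⟩ := ha
  have hrK : c.ι r ∈ K := map_R2_le c (mem_map_of_mem c.ι hr)
  refine ⟨c.ι r * l * (c.ι r)⁻¹, hLn' _ hrK l hl, r * j, R2.mul_mem hr (J_le_R2 hj), ?_⟩
  show c.ι r * (l * c.ι j) = c.ι r * l * (c.ι r)⁻¹ * c.ι (r * j)
  rw [map_mul]; group

end Cfsg.Agent.HSType.KNil
end

-- part: HSType/ZStar
section
/-!
# Z* modulo a central involution, applied to `C_G(z)`
-/

set_option autoImplicit false
set_option maxHeartbeats 400000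

namespace Cfsg.Agent.HSType.ZStar

open Subgroup Cfsg.Agent.HSType.Model Cfsg.Agent.HSType.Facts Cfsg.Agent.HSType.FactsU
  Cfsg.Agent.HSType.Basic Cfsg.Agent.HSType.Trans Cfsg.Agent.HSType.Spec

/-- Z* modulo a central involution. -/
theorem zstar_mod {X : Type*} [Group X] [Finite X] (P : Sylow 2 X) (z u : X)
    (hz : ∀ x : X, x * z = z * x) (hz2 : z * z = 1) (hz1 : z ≠ 1) (huP : u ∈ P)
    (hu2 : u * u = z) (hiso : ∀ g : X, g * u * g⁻¹ ∈ P → g * u * g⁻¹ = u ∨ g * u * g⁻¹ = u * z) :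
    ∃ N : Subgroup X, N.Normal ∧ Odd (Nat.card N) ∧
      ∀ g : X, ∃ n ∈ N, g * u * g⁻¹ = n * u ∨ g * u * g⁻¹ = n * (u * z) := by
  classical
  have : Fact (Nat.Prime 2) := ⟨Nat.prime_two⟩
  set Z : Subgroup X := zpowers z with hZ
  have hZm : ∀ x ∈ Z, x = 1 ∨ x = z := by
    intro x hx
    obtain ⟨k, rfl⟩ := mem_zpowers_iff.mp hx
    rcases Int.even_or_odd k with ⟨j, hj⟩ | ⟨j, hj⟩
    · left
      rw [hj, ← two_mul, zpow_mul, zpow_two, hz2, one_zpow]
    · right
      rw [hj, zpow_add, zpow_mul, zpow_two, hz2, one_zpow, one_mul, zpow_one]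
  have hzZ : z ∈ Z := mem_zpowers z
  have hZc : ∀ x ∈ Z, ∀ g : X, g * x = x * g := by
    intro x hx g
    rcases hZm x hx with rfl | rfl
    · rw [mul_one, one_mul]
    · exact hz g
  have hZn : Z.Normal := by
    refine ⟨fun x hx g => ?_⟩
    rw [hZc x hx g, mul_inv_cancel_right]; exact hx
  have hzP : z ∈ P := by rw [← hu2]; exact mul_mem huP huP
  let f : X →* X ⧸ Z := QuotientGroup.mk' Z
  have hfs : Function.Surjective f := QuotientGroup.mk'_surjective Z
  have hker : ∀ x, f x = 1 ↔ x ∈ Z := by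
    intro x
    rw [← MonoidHom.mem_ker, QuotientGroup.ker_mk']
  let P' : Sylow 2 (X ⧸ Z) := P.mapSurjective hfs
  have hP' : ∀ y, y ∈ P' ↔ ∃ x ∈ P, f x = y := by
    intro y
    show y ∈ ((P' : Subgroup (X ⧸ Z))) ↔ _
    rw [Sylow.coe_mapSurjective]
    rfl
  have hfu : orderOf (f u) = 2 := by
    refine orderOf_eq_prime ?_ ?_
    · rw [pow_two, ← map_mul, hu2, hker]; exact hzZ
    · rw [Ne, hker]
      intro h
      rcases hZm u h with h | h
      · rw [h, mul_one] at hu2; exact hz1 hu2.symm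
      · rw [h, hz2] at hu2; exact hz1 hu2.symm
  obtain ⟨N', hN'n, hN'o, hN'⟩ := S0215.result P' (f u) hfu ((hP' _).mpr ⟨u, huP, rfl⟩) (by
    intro g hg
    obtain ⟨g, rfl⟩ := hfs g
    obtain ⟨x, hx, hxg⟩ := (hP' _).mp hg
    rw [← map_inv, ← map_mul, ← map_mul] at hxg
    have h1 : f (x⁻¹ * (g * u * g⁻¹)) = 1 := by
      rw [map_mul, map_inv, hxg, inv_mul_cancel]
    rw [hker] at h1
    have h2 : g * u * g⁻¹ ∈ P := by
      have h3 : x⁻¹ * (g * u * g⁻¹) ∈ P := by
        rcases hZm _ h1 with h | h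
        · rw [h]; exact one_mem _
        · rw [h]; exact hzP
      have h4 := mul_mem hx h3
      rwa [mul_inv_cancel_left] at h4
    rw [← map_inv, ← map_mul, ← map_mul]
    rcases hiso g h2 with h | h
    · rw [h]
    · rw [h, map_mul, (hker z).mpr hzZ, mul_one])
  set M : Subgroup X := N'.comap f with hM
  have hMn : M.Normal := hN'n.comap f
  obtain ⟨L, hLM, hLo, hLmem, hLdec⟩ := J2Sylow.Functor.exists_odd_part (Z := M) (J := Z)
    (fun j hj => by
      rcases hZm j hj with rfl | rfl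
      · rw [mul_one]
      · exact hz2) (fun j hj m _ => hZc j hj m) (by
      rintro m hm ⟨k, hk⟩
      rw [← hker]
      have h1 : (f m) ^ (2 ^ k) = 1 := by rw [← map_pow, hk, map_one]
      have h2 : orderOf (f m) ∣ 2 ^ k := orderOf_dvd_of_pow_eq_one h1
      have h3 : orderOf (f m) ∣ Nat.card N' := N'.orderOf_dvd_natCard hm
      have h4 : orderOf (f m) = 1 :=
        Nat.eq_one_of_dvd_coprimes (Nat.Coprime.pow_right k (Nat.coprime_two_right.mpr hN'o)) h3 h2
      exact orderOf_eq_one_iff.mp h4)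
  refine ⟨L, ⟨fun l hl g => ?_⟩, hLo, ?_⟩
  · refine hLmem _ (hMn.conj_mem l (hLM hl) g) ?_
    rw [TwoFusion.StronglyEmbeddedBasic.orderOf_conj]
    exact J2Sylow.Functor.odd_orderOf_of_mem hLo hl
  · intro g
    have h1 : u * g * u⁻¹ * g⁻¹ ∈ M := by
      show f (u * g * u⁻¹ * g⁻¹) ∈ N'
      rw [map_mul, map_mul, map_mul, map_inv, map_inv]
      exact hN' (f g)
    obtain ⟨j, hj, l, hl, hjl⟩ := hLdec _ h1
    refine ⟨l⁻¹, inv_mem hl, ?_⟩
    have h2 : g * u * g⁻¹ = (u * g * u⁻¹ * g⁻¹)⁻¹ * u := by group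
    rw [h2, hjl, mul_inv_rev]
    rcases hZm j hj with rfl | rfl
    · left; rw [inv_one, mul_one]
    · right
      rw [inv_eq_of_mul_eq_one_right hz2, mul_assoc, hz u]

theorem exists_ZN {G : Type*} [Group G] [Finite G] (c : Ctx G) (h : Spec.IsolU c) :
    ∃ N : Subgroup G, Spec.ZN c N := by
  have hSC : (c.S : Subgroup G) ≤ Cz c := by rw [c.range]; exact range_le_Cz c
  have hz : c.ι z0 ∈ Cz c := range_le_Cz c ⟨z0, rfl⟩
  have hu : c.ι u0 ∈ Cz c := range_le_Cz c ⟨u0, rfl⟩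
  obtain ⟨N, hNn, hNo, hN⟩ := zstar_mod (X := Cz c) (c.S.subtype hSC) ⟨c.ι z0, hz⟩ ⟨c.ι u0, hu⟩
    (by
      intro x
      apply Subtype.ext
      have h1 := (mem_Cz c).mp x.2
      show (x : G) * c.ι z0 = c.ι z0 * x
      calc (x : G) * c.ι z0 = ((x : G) * c.ι z0 * (x : G)⁻¹) * x := by group
        _ = c.ι z0 * x := by rw [h1])
    (by
      apply Subtype.ext
      show c.ι z0 * c.ι z0 = 1
      rw [← map_mul, z0_sq, map_one])
    (by
      intro h1
      have h2 : c.ι z0 = 1 := congrArg Subtype.val h1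
      rw [← map_one c.ι] at h2
      exact z0_ne_one (c.inj h2))
    (by
      show c.ι u0 ∈ (c.S : Subgroup G)
      rw [c.range]; exact ⟨u0, rfl⟩)
    (by
      apply Subtype.ext
      show c.ι u0 * c.ι u0 = c.ι z0
      rw [← map_mul, u0_sq])
    (by
      intro g hg
      have hg' : (g : G) * c.ι u0 * (g : G)⁻¹ ∈ (c.S : Subgroup G) := hg
      rw [c.range] at hg'
      obtain ⟨v, hv⟩ := hg'
      rcases h g g.2 v hv.symm with h1 | h1
      · left
        apply Subtype.ext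
        show (g : G) * c.ι u0 * (g : G)⁻¹ = c.ι u0
        rw [← hv, h1]
      · right
        apply Subtype.ext
        show (g : G) * c.ι u0 * (g : G)⁻¹ = c.ι u0 * c.ι z0
        rw [← hv, h1, map_mul])
  refine ⟨N.map (Cz c).subtype, ?_, ?_, ?_, ?_⟩
  · rintro _ ⟨y, -, rfl⟩; exact y.2
  · rw [Nat.card_congr (N.equivMapOfInjective _ (Cz c).subtype_injective).symm.toEquiv]
    exact hNo
  · rintro g hg _ ⟨n, hn, rfl⟩
    have h1 : (⟨g, hg⟩ : Cz c) * n * (⟨g, hg⟩ : Cz c)⁻¹ ∈ N := hNn.conj_mem n hn ⟨g, hg⟩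
    exact mem_map_of_mem (Cz c).subtype h1
  · intro g hg
    obtain ⟨n, hn, h1⟩ := hN ⟨g, hg⟩
    refine ⟨n, ⟨n, hn, rfl⟩, ?_⟩
    rcases h1 with h1 | h1
    · left
      exact congrArg Subtype.val h1
    · right
      have h2 := congrArg Subtype.val h1
      rw [map_mul]
      exact h2

end Cfsg.Agent.HSType.ZStar
end
end

-- part: HSType/Out
section
prune_inst 0x2404402200000000000000001c4292000002004b00010000000004888c4100000620b020021001020824003a0028134c0009400000000000020041180080000220c08008a00001000000c804000000000000000000000000000000000000000000000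
set_option linter.all false
open scoped Cfsg.Agent.FastGrp

-- part: HSType/FactsI
section
/-!
# Kernel-checked facts on the model group `SM` (IV): classes of involutions
-/

set_option autoImplicit false

namespace Cfsg.Agent.HSType.FactsI

open Cfsg.Agent.HSType.Model Cfsg.Agent.HSType.Facts Cfsg.Agent.HSType.FactsU
  Cfsg.Agent.HSType.Spec Cfsg.Agent.HSType.FactsJ

def b0 : SM := el 32
def e0 : SM := el 128
def f0 : SM := el 129
def g0 : SM := el 256
def h0 : SM := el 272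

/-- negation -/
def notB (a : Bool) : Bool := Bool.rec true false a
theorem notB_spec {a : Bool} (h : notB a = true) : a = false := by
  cases a with
  | true => exact (Bool.false_ne_true h).elim
  | false => rfl
theorem notB_of {a : Bool} (h : ¬ a = true) : notB a = true := by
  cases a with
  | true => exact absurd rfl h
  | false => rfl

theorem orB_intro {a b : Bool} (h : a = true ∨ b = true) : orB a b = true := by
  cases a with
  | true => rfl
  | false => rcases h with h | h; exact (Bool.false_ne_true h).elim; exact h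

def clA (a : Nat) : Bool := orB (Nat.beq a 2) (Nat.beq a 8)
def clB (a : Nat) : Bool := andB (inOm a) (notB (inV a))
def clE (a : Nat) : Bool := andB (notB (inJ a)) (andB (sqIs a 0) (andB (inR2 a) (inQ a)))
def clF (a : Nat) : Bool := andB (notB (inJ a)) (andB (sqIs a 0) (andB (inR2 a) (inQ' a)))
def clG (a : Nat) : Bool := andB (notB (inR2 a)) (andB (sqIs a 0) (inQ a))
def clH (a : Nat) : Bool := andB (notB (inR2 a)) (andB (sqIs a 0) (inQ' a))

/-- every involution other than `z` is conjugate to its product with `z` -/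
theorem smul_z {d : SM} (h : d * d = 1) (h1 : d ≠ 1) (hz : d ≠ z0) :
    ∃ s : SM, s * d * s⁻¹ = d * z0 := by
  have hd : allLT 512 (fun a => imp (sqIs a 0) (orB (Nat.beq a 0) (orB (Nat.beq a 10)
    (exLT 512 (fun s => Nat.beq (mulN s a) (mulN (mulN a 10) s)))))) = true := by decide +kernel
  rcases orB_spec (imp_spec (allLT_spec hd d.1 d.2) (sqIs_of (y := 1) h)) with h2 | h2
  · exact absurd (ext_beq (y := 1) h2) h1
  rcases orB_spec h2 with h2 | h2
  · exact absurd (ext_beq (y := z0) h2) hz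
  · obtain ⟨k, hk, h4⟩ := exLT_spec h2
    refine ⟨⟨k, hk⟩, ?_⟩
    rw [mul_inv_eq_iff_eq_mul]
    exact SM.ext (eq_of_beq h4)

/-- conjugacy checker -/
def repB (p : Nat → Bool) (r : Nat) : Bool :=
  allLT 512 (fun t => imp (p t) (exLT 512 (fun s => Nat.beq (mulN s t) (mulN r s))))

theorem repB_spec {p : Nat → Bool} {r : Nat} {hr : r < 512} (h : repB p r = true) {t : SM}
    (ht : p t.1 = true) : ∃ s : SM, s * t * s⁻¹ = ⟨r, hr⟩ := by
  obtain ⟨k, hk, h4⟩ := exLT_spec (imp_spec (allLT_spec h t.1 t.2) ht)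
  refine ⟨⟨k, hk⟩, ?_⟩
  rw [mul_inv_eq_iff_eq_mul]
  exact SM.ext (eq_of_beq h4)

theorem repA {t : SM} (h : clA t.1 = true) : ∃ s : SM, s * t * s⁻¹ = a0 :=
  repB_spec (r := 2) (hr := by norm_num) (p := clA) (by decide +kernel) h
theorem repB' {t : SM} (h : clB t.1 = true) : ∃ s : SM, s * t * s⁻¹ = b0 :=
  repB_spec (r := 32) (hr := by norm_num) (p := clB) (by decide +kernel) h
theorem repE {t : SM} (h : clE t.1 = true) : ∃ s : SM, s * t * s⁻¹ = e0 :=
  repB_spec (r := 128) (hr := by norm_num) (p := clE) (by decide +kernel) h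
theorem repF {t : SM} (h : clF t.1 = true) : ∃ s : SM, s * t * s⁻¹ = f0 :=
  repB_spec (r := 129) (hr := by norm_num) (p := clF) (by decide +kernel) h
theorem repG {t : SM} (h : clG t.1 = true) : ∃ s : SM, s * t * s⁻¹ = g0 :=
  repB_spec (r := 256) (hr := by norm_num) (p := clG) (by decide +kernel) h
theorem repH {t : SM} (h : clH t.1 = true) : ∃ s : SM, s * t * s⁻¹ = h0 :=
  repB_spec (r := 272) (hr := by norm_num) (p := clH) (by decide +kernel) h

/-- involutions of `Q` -/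
theorem inv_Q {t : SM} (h : t * t = 1) (hQ : t ∈ Q) :
    t = 1 ∨ t = z0 ∨ clA t.1 = true ∨ clB t.1 = true ∨ clE t.1 = true ∨ clG t.1 = true := by
  have hd : allLT 512 (fun a => imp (inQ a) (imp (sqIs a 0) (orB (Nat.beq a 0) (orB (Nat.beq a 10)
    (orB (clA a) (orB (clB a) (orB (clE a) (clG a)))))))) = true := by decide +kernel
  rcases orB_spec (imp_spec (imp_spec (allLT_spec hd t.1 t.2) hQ) (sqIs_of (y := 1) h)) with h | h
  · exact Or.inl (ext_beq (y := 1) h)
  rcases orB_spec h with h | h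
  · exact Or.inr (Or.inl (ext_beq (y := z0) h))
  rcases orB_spec h with h | h
  · exact Or.inr (Or.inr (Or.inl h))
  rcases orB_spec h with h | h
  · exact Or.inr (Or.inr (Or.inr (Or.inl h)))
  rcases orB_spec h with h | h
  · exact Or.inr (Or.inr (Or.inr (Or.inr (Or.inl h))))
  · exact Or.inr (Or.inr (Or.inr (Or.inr (Or.inr h))))

/-- involutions of `Q'` -/
theorem inv_Q' {t : SM} (h : t * t = 1) (hQ : t ∈ Q') :
    t = 1 ∨ t = z0 ∨ clA t.1 = true ∨ clB t.1 = true ∨ clF t.1 = true ∨ clH t.1 = true := by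
  have hd : allLT 512 (fun a => imp (inQ' a) (imp (sqIs a 0) (orB (Nat.beq a 0) (orB (Nat.beq a 10)
    (orB (clA a) (orB (clB a) (orB (clF a) (clH a)))))))) = true := by decide +kernel
  rcases orB_spec (imp_spec (imp_spec (allLT_spec hd t.1 t.2) hQ) (sqIs_of (y := 1) h)) with h | h
  · exact Or.inl (ext_beq (y := 1) h)
  rcases orB_spec h with h | h
  · exact Or.inr (Or.inl (ext_beq (y := z0) h))
  rcases orB_spec h with h | h
  · exact Or.inr (Or.inr (Or.inl h))
  rcases orB_spec h with h | h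
  · exact Or.inr (Or.inr (Or.inr (Or.inl h)))
  rcases orB_spec h with h | h
  · exact Or.inr (Or.inr (Or.inr (Or.inr (Or.inl h))))
  · exact Or.inr (Or.inr (Or.inr (Or.inr (Or.inr h))))

theorem clA_Om {t : SM} (h : clA t.1 = true) : t ∈ V ∧ t ≠ 1 ∧ t ≠ z0 := by
  rcases orB_spec h with h | h
  · have e : t = a0 := ext_beq (y := a0) h
    rw [e]; exact ⟨a0_mem_V, a0_ne_one, a0_ne_z0⟩
  · have e : t = a1 := ext_beq (y := a1) h
    rw [e]; exact ⟨a1_mem_V, a1_ne_one, a1_ne_z0⟩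

/-- step 4 facts -/
theorem f0_root : ∃ x : SM, x * f0 = f0 * x ∧ x ∉ R1 ∧ x * x * (x * x) = z0 := by
  refine ⟨el 84, SM.ext (by decide +kernel), ?_, SM.ext (by decide +kernel)⟩
  intro h
  exact absurd (mem_R1.mp h) (by decide +kernel)

theorem R2_root {x : SM} (hx : x ∈ R2) (h : x * x * (x * x) = z0) : x ∈ R1 := by
  have hd : allLT 512 (fun a => imp (inR2 a) (orB (inR1 a) (notB (sqIs (mulN a a) 10)))) = true := by
    decide +kernel
  rcases orB_spec (imp_spec (allLT_spec hd x.1 x.2) (mem_R2.mp hx)) with h1 | h1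
  · exact mem_R1.mpr h1
  · have := notB_spec h1
    have h2 : sqIs (mulN x.1 x.1) 10 = true := sqIs_of (x := x * x) (y := z0) h
    rw [this] at h2; exact (Bool.false_ne_true h2).elim

theorem f0_inv : f0 * f0 = 1 := SM.ext (by decide +kernel)
theorem f0_R1 : f0 ∈ R1 := mem_R1.mpr (by decide +kernel)
theorem f0_J : f0 ∉ J := by intro h; exact absurd (mem_J.mp h) (by decide +kernel)

theorem allLT_of {n : Nat} {p : Nat → Bool} (h : ∀ k < n, p k = true) : allLT n p = true := by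
  induction n with
  | zero => rfl
  | succ n ih =>
    show (Bool.rec false (allLT n p) (p n) : Bool) = true
    rw [h n (Nat.lt_succ_self n)]
    exact ih (fun k hk => h k (Nat.lt_succ_of_lt hk))

/-- the three square-root systems in `R2` -/
theorem R2_cover {t x y : SM} (ht : t ∈ R2) (hx : x ∈ J) (hy : y ∈ J)
    (hx2 : x * x = a0) (hy2 : y * y = a1)
    (hxs : ∀ s ∈ R2, s * x * s⁻¹ = x ∨ s * x * s⁻¹ = x * a0)
    (hys : ∀ s ∈ R2, s * y * s⁻¹ = y ∨ s * y * s⁻¹ = y * a1) :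
    t ∈ R1 ∨ t * x = x * t ∨ t * y = y * t := by
  have hd : allLT 64 (fun x => imp (sqIs x 2) (imp (allLT 512 (fun s => imp (inR2 s)
      (orB (com s x) (Nat.beq (mulN s x) (mulN (mulN x 2) s))))) (allLT 64 (fun y => imp (sqIs y 8)
      (imp (allLT 512 (fun s => imp (inR2 s)
      (orB (com s y) (Nat.beq (mulN s y) (mulN (mulN y 8) s))))) (allLT 512 (fun t => imp (inR2 t)
      (orB (inR1 t) (orB (com t x) (com t y)))))))))) = true := by decide +kernel
  have hlt : ∀ w : SM, w ∈ J → w.1 < 64 := fun w hw => Nat.le_of_ble_eq_true hw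
  have hall : ∀ (w d : SM), (∀ s ∈ R2, s * w * s⁻¹ = w ∨ s * w * s⁻¹ = w * d) →
      ∀ s : SM, imp (inR2 s.1) (orB (com s.1 w.1) (Nat.beq (mulN s.1 w.1)
        (mulN (mulN w.1 d.1) s.1))) = true := by
    intro w d h s
    cases hs : inR2 s.1 with
    | false => rfl
    | true =>
      apply orB_intro
      rcases h s (mem_R2.mpr hs) with h1 | h1
      · left; rw [mul_inv_eq_iff_eq_mul] at h1; exact com_of h1
      · right; rw [mul_inv_eq_iff_eq_mul] at h1; exact beq_of_eq h1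
  have hx' : allLT 512 (fun s => imp (inR2 s)
      (orB (com s x.1) (Nat.beq (mulN s x.1) (mulN (mulN x.1 2) s)))) = true := by
    apply allLT_of
    intro k hk
    exact hall x a0 hxs ⟨k, hk⟩
  have hy' : allLT 512 (fun s => imp (inR2 s)
      (orB (com s y.1) (Nat.beq (mulN s y.1) (mulN (mulN y.1 8) s)))) = true := by
    apply allLT_of
    intro k hk
    exact hall y a1 hys ⟨k, hk⟩
  rcases orB_spec (imp_spec (allLT_spec (imp_spec (imp_spec (allLT_spec (imp_spec (imp_spec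
    (allLT_spec hd x.1 (hlt x hx)) (sqIs_of (y := a0) hx2)) hx') y.1 (hlt y hy))
    (sqIs_of (y := a1) hy2)) hy') t.1 t.2) (mem_R2.mp ht)) with h | h
  · exact Or.inl (mem_R1.mpr h)
  rcases orB_spec h with h | h
  · exact Or.inr (Or.inl (of_com h))
  · exact Or.inr (Or.inr (of_com h))

end Cfsg.Agent.HSType.FactsI
end

-- part: HSType/InvFusion
section
/-!
# Fusion of involutions
-/

set_option autoImplicit false
set_option linter.style.haveILetI false

namespace Cfsg.Agent.HSType.InvFusion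

open Cfsg.Agent.HSType.Model Cfsg.Agent.HSType.Facts Cfsg.Agent.HSType.FactsU
  Cfsg.Agent.HSType.FactsJ Cfsg.Agent.HSType.FactsI Cfsg.Agent.HSType.Spec
  Cfsg.Agent.HSType.Basic Cfsg.Agent.HSType.Trans Cfsg.Agent.HSType.JFus

variable {G : Type*} [Group G] (c : Ctx G)

theorem CC_trans {x y w : SM} (h1 : CC c x y) (h2 : CC c y w) : CC c x w := by
  obtain ⟨g, hg, hxy⟩ := h1
  obtain ⟨k, hk, hyw⟩ := h2
  refine ⟨k * g, (Cz c).mul_mem hk hg, ?_⟩
  rw [← hyw, ← hxy]; group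

theorem CC_symm {x y : SM} (h1 : CC c x y) : CC c y x := by
  obtain ⟨g, hg, hxy⟩ := h1
  refine ⟨g⁻¹, (Cz c).inv_mem hg, ?_⟩
  rw [← hxy]; group

theorem CC_refl (x : SM) : CC c x x := ⟨1, (Cz c).one_mem, by group⟩

theorem CC_smul (s x : SM) : CC c x (s * x * s⁻¹) :=
  ⟨c.ι s, range_le_Cz c ⟨s, rfl⟩, by rw [map_mul, map_mul, map_inv]⟩

theorem Dz_of_CC {x y : SM} (h : CC c x y) (hy : Dz c y) : Dz c x := by
  obtain ⟨g, -, hxy⟩ := h
  exact Dz_of_conj' c hy hxy

theorem CC_conj {x y w : SM} {g : G} (hg : g ∈ Cz c) (h : g * c.ι x * g⁻¹ = c.ι y)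
    (hx : CC c x w) : CC c y w := CC_trans c (CC_symm c ⟨g, hg, h⟩) hx

theorem CC_conj' {x y w : SM} {g : G} (hg : g ∈ Cz c) (h : g * c.ι x * g⁻¹ = c.ι y)
    (hy : CC c y w) : CC c x w := CC_trans c ⟨g, hg, h⟩ hy

/-- an involution `t ∈ R1 - J` conjugate to `z` is `C_G(z)`-conjugate to `a` -/
theorem CC_a0 [Finite G] {t : SM} (ht : t * t = 1) (hR : t ∈ R1) (hJ : t ∉ J) (h : Dz c t) :
    CC c t a0 := by
  have hSw := swapV c (a0_of_notJ c ht hJ h)
  obtain ⟨g, hg, hC⟩ := to_z c h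
  have htz : t ≠ z0 := by rintro rfl; exact hJ (V_le_J z0_mem_V)
  have hsq : ∀ {x y : SM}, g * c.ι x * g⁻¹ = c.ι y → g * c.ι (x * x) * g⁻¹ = c.ι (y * y) := by
    intro x y hxy
    rw [map_mul, conj_map_mul, hxy, map_mul]
  have hinj : ∀ {x y : SM}, g * c.ι x * g⁻¹ = g * c.ι y * g⁻¹ → x = y := fun hxy =>
    c.inj (conj_inj hxy)
  have hone : g * c.ι 1 * g⁻¹ = c.ι 1 := by rw [map_one]; group
  have htu : t * u0 = u0 * t := Subgroup.mem_centralizer_singleton_iff.mp hR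
  obtain ⟨u', hu'⟩ := hC u0 htu
  obtain ⟨z', hz'⟩ := hC z0 (z0_central t)
  have huz : u' * u' = z' := by
    apply c.inj
    rw [← hsq hu', u0_sq, hz']
  have hz1 : z' ≠ 1 := Nm_ne_one c z0_ne_one hz'
  have hzz : z' ≠ z0 := by
    rintro rfl
    exact htz (hinj (hg.trans hz'.symm))
  have hz2 : z' * z' = 1 := by
    apply c.inj; rw [← hsq hz', z0_sq, hone]
  have hV : z' ∈ V := by
    by_contra hV
    obtain ⟨⟨w, hwR, hwt, hw2, hw1, hwz, hwt', hwtz⟩, a, b, haR, hbR, hta, htb, hab⟩ :=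
      f2a ht hR hJ
    have hcu : ∀ x y : SM, x ∈ R1 → g * c.ι x * g⁻¹ = c.ι y → u' * y = y * u' := by
      intro x y hx hxy
      have h1 : x * u0 = u0 * x := Subgroup.mem_centralizer_singleton_iff.mp hx
      apply c.inj
      rw [map_mul, map_mul, ← hu', ← hxy, ← conj_map_mul, ← conj_map_mul, ← map_mul, ← map_mul, h1]
    rcases fZ (x := u') (by rw [huz]; exact hz1) (by rw [huz]; exact hz2) (by rw [huz]; exact hV)
      with ⟨-, h1⟩ | h1
    · obtain ⟨a', ha'⟩ := hC a hta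
      obtain ⟨b', hb'⟩ := hC b htb
      apply hab
      apply hinj
      rw [map_mul, map_mul, conj_map_mul, conj_map_mul, ha', hb', ← map_mul, ← map_mul,
        comm_J (h1 a' (hcu a a' haR ha')) (h1 b' (hcu b b' hbR hb'))]
    · obtain ⟨w', hw'⟩ := hC w hwt
      have h2 := fR h1 (by rw [huz]; exact hz2) (y := w') (by
        apply c.inj; rw [← hsq hw', hw2, hone]) (hcu w w' hwR hw')
      rw [huz] at h2
      rcases h2 with h3 | h3 | h3 | h3
      · apply hw1; apply hinj; rw [hw', h3, hone]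
      · apply hwt'; apply hinj; rw [hw', h3, hg]
      · apply hwz; apply hinj; rw [hw', h3, hz']
      · apply hwtz; apply hinj
        rw [hw', h3, map_mul c.ι t z0, conj_map_mul, hg, hz', ← map_mul, z0_central]
  obtain ⟨n, -, -, -, hna, hnz⟩ := hSw.swap
  rcases V_cases hV with e | e | e | e
  · exact absurd e hz1
  · rw [e] at hz'
    refine ⟨n * g, ?_, ?_⟩
    · rw [mem_Cz]
      calc n * g * c.ι z0 * (n * g)⁻¹ = n * (g * c.ι z0 * g⁻¹) * n⁻¹ := by group
        _ = c.ι z0 := by rw [hz', hna]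
    · calc n * g * c.ι t * (n * g)⁻¹ = n * (g * c.ι t * g⁻¹) * n⁻¹ := by group
        _ = c.ι a0 := by rw [hg, hnz]
  · rw [e] at hz'
    have hs1 : c.ι s0 * c.ι a1 * (c.ι s0)⁻¹ = c.ι a0 := by
      rw [← map_mul, ← map_inv, ← map_mul, s0_swap.2]
    have hs2 : c.ι s0 * c.ι z0 * (c.ι s0)⁻¹ = c.ι z0 := by
      rw [← map_mul, z0_central, map_mul, mul_inv_cancel_right]
    refine ⟨n * c.ι s0 * g, ?_, ?_⟩
    · rw [mem_Cz]
      calc n * c.ι s0 * g * c.ι z0 * (n * c.ι s0 * g)⁻¹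
          = n * (c.ι s0 * (g * c.ι z0 * g⁻¹) * (c.ι s0)⁻¹) * n⁻¹ := by group
        _ = c.ι z0 := by rw [hz', hs1, hna]
    · calc n * c.ι s0 * g * c.ι t * (n * c.ι s0 * g)⁻¹
          = n * (c.ι s0 * (g * c.ι t * g⁻¹) * (c.ι s0)⁻¹) * n⁻¹ := by group
        _ = c.ι a0 := by rw [hg, hs2, hnz]
  · exact absurd e hzz

def s1 : SM := el 320
theorem s1_R2 : s1 ∈ R2 := mem_R2.mpr (by decide +kernel)
theorem s1_u0 : s1 * (u0 * z0) * s1⁻¹ = u0 := SM.ext (by decide +kernel)

/-- control of fusion to `a` by `C_G(u)` -/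
theorem adj [Finite G] (hU : IsolU c) {t : SM} (hR : t ∈ R1) (hCC : CC c t a0) :
    ∃ g : G, g * c.ι u0 * g⁻¹ = c.ι u0 ∧ g * c.ι t * g⁻¹ = c.ι a0 ∧
      ∀ x : SM, x * t = t * x → ∃ y ∈ R2, g * c.ι x * g⁻¹ = c.ι y := by
  obtain ⟨g₁, hg₁, hgt⟩ := hCC
  have hgz := (mem_Cz c).mp hg₁
  set P : Subgroup G :=
    ((Subgroup.centralizer ({t} : Set SM)).map c.ι).map (MulAut.conj g₁).toMonoidHom with hPdef
  have hP : IsPGroup 2 P := (c.isPGroup_map _).map _
  have hPK : P ≤ KV c := by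
    rintro _ ⟨_, ⟨x, hx, rfl⟩, rfl⟩
    have hx' := Subgroup.mem_centralizer_singleton_iff.mp hx
    show g₁ * c.ι x * g₁⁻¹ ∈ KV c
    rw [KNil.mem_KV]
    constructor
    · rw [← hgz, ← conj_map_mul, ← conj_map_mul, ← map_mul, z0_central, map_mul]
    · rw [← hgt, ← conj_map_mul, ← conj_map_mul, ← map_mul, hx', map_mul]
  obtain ⟨k, hk, hkP⟩ := rel_sylow (KNil.map_R2_le c) (c.isPGroup_map R2) (KNil.R2_sylow c) hPK hP
  obtain ⟨hkz, hka⟩ := (KNil.mem_KV c).mp hk
  have hmap : ∀ x : SM, x * t = t * x → ∃ y ∈ R2, k * g₁ * c.ι x * (k * g₁)⁻¹ = c.ι y := by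
    intro x hx
    obtain ⟨y, hy, hxy⟩ := hkP _ ⟨_, Subgroup.mem_map_of_mem c.ι
      (Subgroup.mem_centralizer_singleton_iff.mpr hx), rfl⟩
    refine ⟨y, hy, ?_⟩
    rw [hxy]
    show k * g₁ * c.ι x * (k * g₁)⁻¹ = k * (g₁ * c.ι x * g₁⁻¹) * k⁻¹
    group
  have hkC : k * g₁ ∈ Cz c := (Cz c).mul_mem (by
    unfold Cz; rw [Subgroup.mem_centralizer_singleton_iff]; exact hkz) hg₁
  have hkt : k * g₁ * c.ι t * (k * g₁)⁻¹ = c.ι a0 := by
    calc k * g₁ * c.ι t * (k * g₁)⁻¹ = k * (g₁ * c.ι t * g₁⁻¹) * k⁻¹ := by group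
      _ = c.ι a0 := by rw [hgt, hka, mul_inv_cancel_right]
  obtain ⟨y, -, hy⟩ := hmap u0 (Subgroup.mem_centralizer_singleton_iff.mp hR).symm
  rcases hU _ hkC y hy with rfl | rfl
  · exact ⟨k * g₁, hy, hkt, hmap⟩
  · refine ⟨c.ι s1 * (k * g₁), ?_, ?_, ?_⟩
    · calc c.ι s1 * (k * g₁) * c.ι u0 * (c.ι s1 * (k * g₁))⁻¹
          = c.ι s1 * (k * g₁ * c.ι u0 * (k * g₁)⁻¹) * (c.ι s1)⁻¹ := by group
        _ = c.ι u0 := by rw [hy, ← map_inv, ← map_mul, ← map_mul, s1_u0]
    · calc c.ι s1 * (k * g₁) * c.ι t * (c.ι s1 * (k * g₁))⁻¹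
          = c.ι s1 * (k * g₁ * c.ι t * (k * g₁)⁻¹) * (c.ι s1)⁻¹ := by group
        _ = c.ι a0 := by
          rw [hkt, ← map_mul, R2_cent s1_R2 a0_mem_V, map_mul, mul_inv_cancel_right]
    · intro x hx
      obtain ⟨w, hw, hxw⟩ := hmap x hx
      refine ⟨s1 * w * s1⁻¹, R2_normal s1 w hw, ?_⟩
      calc c.ι s1 * (k * g₁) * c.ι x * (c.ι s1 * (k * g₁))⁻¹
          = c.ι s1 * (k * g₁ * c.ι x * (k * g₁)⁻¹) * (c.ι s1)⁻¹ := by group
        _ = c.ι (s1 * w * s1⁻¹) := by rw [hxw, ← map_inv, ← map_mul, ← map_mul]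

theorem conj_u_z {g : G} (h : g * c.ι u0 * g⁻¹ = c.ι u0) : g ∈ Cz c := by
  rw [mem_Cz, ← u0_sq, map_mul, conj_map_mul, h]

/-- `f` is not conjugate to `z` -/
theorem not_Dz_f0 [Finite G] (hU : IsolU c) : ¬ Dz c f0 := by
  intro h
  obtain ⟨g, hgu, hgt, hC⟩ := adj c hU f0_R1 (CC_a0 c f0_inv f0_R1 f0_J h)
  obtain ⟨x, hxf, hxR, hx4⟩ := f0_root
  obtain ⟨y, hyR, hxy⟩ := hC x hxf
  have hgz := (mem_Cz c).mp (conj_u_z c hgu)
  have hy4 : y * y * (y * y) = z0 := by
    apply c.inj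
    rw [map_mul, map_mul, ← hxy, ← conj_map_mul, ← conj_map_mul, ← map_mul, ← map_mul, hx4, hgz]
  have hyR1 := R2_root hyR hy4
  apply hxR
  unfold R1
  rw [Subgroup.mem_centralizer_singleton_iff]
  have h1 : y * u0 = u0 * y := Subgroup.mem_centralizer_singleton_iff.mp hyR1
  apply c.inj
  apply conj_inj (g := g)
  rw [map_mul, map_mul, conj_map_mul, conj_map_mul, hxy, hgu, ← map_mul, ← map_mul, h1]

theorem cnt_conj {p q : Nat → Bool} (n : G)
    (h : ∀ x : SM, p x.1 = true → ∃ y : SM, q y.1 = true ∧ n * c.ι x * n⁻¹ = c.ι y) :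
    cnt 512 p ≤ cnt 512 q := by
  rw [← card_eq_cnt, ← card_eq_cnt]
  choose f hf1 hf2 using h
  apply Nat.card_le_card_of_injective
    (fun x : {x : SM // p x.1 = true} => (⟨f x.1 x.2, hf1 x.1 x.2⟩ : {x : SM // q x.1 = true}))
  intro x y hxy
  have h1 : f x.1 x.2 = f y.1 y.2 := congrArg Subtype.val hxy
  have h2 := hf2 x.1 x.2
  rw [h1, ← hf2 y.1 y.2] at h2
  exact Subtype.ext (c.inj (conj_inj h2))

end Cfsg.Agent.HSType.InvFusion
end

-- part: HSType/Inv5
section
/-!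
# Fusion of involutions (II): counting in `C_Q(t)`
-/

set_option autoImplicit false
set_option linter.style.haveILetI false

namespace Cfsg.Agent.HSType.Inv5

open Cfsg.Agent.HSType.Model Cfsg.Agent.HSType.Facts Cfsg.Agent.HSType.FactsU
  Cfsg.Agent.HSType.FactsJ Cfsg.Agent.HSType.FactsI Cfsg.Agent.HSType.Spec
  Cfsg.Agent.HSType.Basic Cfsg.Agent.HSType.Trans Cfsg.Agent.HSType.JFus
  Cfsg.Agent.HSType.InvFusion

variable {G : Type*} [Group G] (c : Ctx G)

theorem p_of_rep {x r : SM} (h : ∃ s : SM, s * x * s⁻¹ = r) (w : SM) : CC c x w ↔ CC c r w := by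
  obtain ⟨s, rfl⟩ := h
  exact ⟨fun h => CC_trans c (CC_symm c (CC_smul c s x)) h, fun h => CC_trans c (CC_smul c s x) h⟩

theorem pA {x : SM} (h : clA x.1 = true) : CC c x a0 :=
  (p_of_rep c (repA h) a0).mpr (CC_refl c a0)
theorem pB {x : SM} (h : clB x.1 = true) : CC c x a0 ↔ CC c b0 a0 := p_of_rep c (repB' h) a0
theorem pE {x : SM} (h : clE x.1 = true) : CC c x a0 ↔ CC c e0 a0 := p_of_rep c (repE h) a0
theorem pF {x : SM} (h : clF x.1 = true) : CC c x a0 ↔ CC c f0 a0 := p_of_rep c (repF h) a0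
theorem pG {x : SM} (h : clG x.1 = true) : CC c x a0 ↔ CC c g0 a0 := p_of_rep c (repG h) a0
theorem pH {x : SM} (h : clH x.1 = true) : CC c x a0 ↔ CC c h0 a0 := p_of_rep c (repH h) a0

/-- image of `C_A(t)` -/
theorem image_le [Finite G] {g : G} (hgu : g * c.ι u0 * g⁻¹ = c.ι u0) {A : Subgroup SM} {t : SM}
    (hAR : A ≤ R1) (hsq : ∀ x ∈ A, x * x = 1 ∨ x * x = z0)
    (hC : ∀ x : SM, x * t = t * x → ∃ y ∈ R2, g * c.ι x * g⁻¹ = c.ι y) :
    (∀ x ∈ A, x * t = t * x → ∃ y ∈ Q, y ∈ R2 ∧ g * c.ι x * g⁻¹ = c.ι y) ∨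
    (∀ x ∈ A, x * t = t * x → ∃ y ∈ Q', y ∈ R2 ∧ g * c.ι x * g⁻¹ = c.ι y) := by
  have hmain : ∀ x ∈ A, x * t = t * x → ∃ y ∈ R1, y ∈ R2 ∧ g * c.ι x * g⁻¹ = c.ι y := by
    intro x hx hxt
    obtain ⟨y, hy, hxy⟩ := hC x hxt
    refine ⟨y, ?_, hy, hxy⟩
    unfold R1
    rw [Subgroup.mem_centralizer_singleton_iff]
    have h1 : x * u0 = u0 * x := Subgroup.mem_centralizer_singleton_iff.mp (hAR hx)
    apply c.inj
    rw [map_mul, map_mul, ← hxy, ← hgu, ← conj_map_mul, ← conj_map_mul, ← map_mul, ← map_mul, h1]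
  have hmem : ∀ x, x ∈ (A ⊓ Subgroup.centralizer ({t} : Set SM) : Subgroup SM) ↔
      x ∈ A ∧ x * t = t * x := fun x => by
    rw [Subgroup.mem_inf, Subgroup.mem_centralizer_singleton_iff]
  rcases UFusion.tr_le_Q_or c (conj_u_z c hgu)
    (X := A ⊓ Subgroup.centralizer ({t} : Set SM)) (fun x hx => by
      obtain ⟨y, hy, -, hxy⟩ := hmain x ((hmem x).mp hx).1 ((hmem x).mp hx).2
      exact ⟨y, hy, hxy⟩) (fun x hx => hsq x ((hmem x).mp hx).1) with h | h
  · left
    intro x hx hxt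
    obtain ⟨y, hy, hy2, hxy⟩ := hmain x hx hxt
    exact ⟨y, h ((mem_tr c).mpr ⟨x, (hmem x).mpr ⟨hx, hxt⟩, hxy⟩), hy2, hxy⟩
  · right
    intro x hx hxt
    obtain ⟨y, hy, hy2, hxy⟩ := hmain x hx hxt
    exact ⟨y, h ((mem_tr c).mpr ⟨x, (hmem x).mpr ⟨hx, hxt⟩, hxy⟩), hy2, hxy⟩

theorem inv_QR2 {t : SM} (h : t * t = 1) (hQ : t ∈ Q) (hR : t ∈ R2) (h1 : t ≠ 1) (hz : t ≠ z0) :
    clA t.1 = true ∨ clB t.1 = true ∨ clE t.1 = true := by
  rcases inv_Q h hQ with h2 | h2 | h2 | h2 | h2 | h2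
  · exact absurd h2 h1
  · exact absurd h2 hz
  · exact Or.inl h2
  · exact Or.inr (Or.inl h2)
  · exact Or.inr (Or.inr h2)
  · exact absurd (mem_R2.mp hR) (by rw [notB_spec (andB_spec h2).1]; exact Bool.false_ne_true)

theorem inv_Q'R2 {t : SM} (h : t * t = 1) (hQ : t ∈ Q') (hR : t ∈ R2) (h1 : t ≠ 1) (hz : t ≠ z0) :
    clA t.1 = true ∨ clB t.1 = true ∨ clF t.1 = true := by
  rcases inv_Q' h hQ with h2 | h2 | h2 | h2 | h2 | h2
  · exact absurd h2 h1
  · exact absurd h2 hz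
  · exact Or.inl h2
  · exact Or.inr (Or.inl h2)
  · exact Or.inr (Or.inr h2)
  · exact absurd (mem_R2.mp hR) (by rw [notB_spec (andB_spec h2).1]; exact Bool.false_ne_true)

/-- transfer of an involution with its `C_G(z)`-class -/
theorem step [Finite G] {g : G} (hgu : g * c.ι u0 * g⁻¹ = c.ι u0) {A B : Subgroup SM} {t : SM}
    (h : ∀ x ∈ A, x * t = t * x → ∃ y ∈ B, y ∈ R2 ∧ g * c.ι x * g⁻¹ = c.ι y) {x : SM} (hx : x ∈ A)
    (hxt : x * t = t * x) (hx2 : x * x = 1) (hx1 : x ≠ 1) (hxz : x ≠ z0) :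
    ∃ y ∈ B, y ∈ R2 ∧ y * y = 1 ∧ y ≠ 1 ∧ y ≠ z0 ∧ g * c.ι x * g⁻¹ = c.ι y ∧
      (CC c x a0 ↔ CC c y a0) := by
  obtain ⟨y, hy, hy2, hxy⟩ := h x hx hxt
  have hgz := conj_u_z c hgu
  refine ⟨y, hy, hy2, ?_, Nm_ne_one c hx1 hxy, ?_, hxy, CC_conj c hgz hxy, CC_conj' c hgz hxy⟩
  · apply c.inj
    rw [map_mul, ← hxy, ← conj_map_mul, ← map_mul, hx2, map_one]; group
  · rintro rfl
    exact hxz (c.inj (conj_inj (hxy.trans ((mem_Cz c).mp hgz).symm)))

theorem neJ {x : SM} (h : notB (inJ x.1) = true) : x ∉ J ∧ x ≠ 1 ∧ x ≠ z0 := by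
  have h1 : inJ x.1 = false := notB_spec h
  have h2 : x ∉ J := fun h3 => by rw [mem_J, h1] at h3; exact Bool.false_ne_true h3
  exact ⟨h2, fun e => h2 (by rw [e]; exact J.one_mem), fun e => h2 (by rw [e]; exact V_le_J z0_mem_V)⟩

theorem neR2 {x : SM} (h : notB (inR2 x.1) = true) : x ∉ R2 ∧ x ≠ 1 ∧ x ≠ z0 := by
  have h1 : inR2 x.1 = false := notB_spec h
  have h2 : x ∉ R2 := fun h3 => by rw [mem_R2, h1] at h3; exact Bool.false_ne_true h3
  exact ⟨h2, fun e => h2 (by rw [e]; exact R2.one_mem),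
    fun e => h2 (by rw [e]; exact J_le_R2 (V_le_J z0_mem_V))⟩

theorem clE_spec {x : SM} (h : clE x.1 = true) : x ∈ Q ∧ x * x = 1 ∧ x ≠ 1 ∧ x ≠ z0 := by
  obtain ⟨h1, h2⟩ := andB_spec h
  obtain ⟨h3, h4⟩ := andB_spec h2
  obtain ⟨-, h5, h6⟩ := neJ h1
  exact ⟨(andB_spec h4).2, of_sqIs (y := 1) h3, h5, h6⟩
theorem clF_spec {x : SM} (h : clF x.1 = true) : x ∈ Q' ∧ x * x = 1 ∧ x ≠ 1 ∧ x ≠ z0 := by
  obtain ⟨h1, h2⟩ := andB_spec h
  obtain ⟨h3, h4⟩ := andB_spec h2
  obtain ⟨-, h5, h6⟩ := neJ h1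
  exact ⟨(andB_spec h4).2, of_sqIs (y := 1) h3, h5, h6⟩
theorem clG_spec {x : SM} (h : clG x.1 = true) : x ∈ Q ∧ x * x = 1 ∧ x ≠ 1 ∧ x ≠ z0 := by
  obtain ⟨h1, h2⟩ := andB_spec h
  obtain ⟨h3, h4⟩ := andB_spec h2
  obtain ⟨-, h5, h6⟩ := neR2 h1
  exact ⟨h4, of_sqIs (y := 1) h3, h5, h6⟩
theorem clH_spec {x : SM} (h : clH x.1 = true) : x ∈ Q' ∧ x * x = 1 ∧ x ≠ 1 ∧ x ≠ z0 := by
  obtain ⟨h1, h2⟩ := andB_spec h
  obtain ⟨h3, h4⟩ := andB_spec h2
  obtain ⟨-, h5, h6⟩ := neR2 h1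
  exact ⟨h4, of_sqIs (y := 1) h3, h5, h6⟩

theorem Om_le_Q {x : SM} (h : x ∈ Om) : x ∈ Q ∧ x ∈ Q' := by
  have hd : allLT 512 (fun a => imp (inOm a) (andB (inQ a) (inQ' a))) = true := by decide +kernel
  exact andB_spec (imp_spec (allLT_spec hd x.1 x.2) h)

theorem clB_spec {x : SM} (h : clB x.1 = true) : x ∈ Om ∧ x * x = 1 ∧ x ≠ 1 ∧ x ≠ z0 := by
  obtain ⟨h1, h2⟩ := andB_spec h
  have h3 : x ∈ Om := h1
  have h4 : x ∉ V := fun h5 => by
    have h6 := notB_spec h2
    have h7 : inV x.1 = true := h5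
    rw [h6] at h7; exact Bool.false_ne_true h7
  exact ⟨h3, (mem_Om_iff.mp h3).2, fun e => h4 (by rw [e]; exact V.one_mem),
    fun e => h4 (by rw [e]; exact z0_mem_V)⟩
theorem clA_spec {x : SM} (h : clA x.1 = true) : x ∈ Om ∧ x * x = 1 ∧ x ≠ 1 ∧ x ≠ z0 := by
  obtain ⟨h1, h2, h3⟩ := clA_Om h
  exact ⟨V_le_Om h1, (mem_Om_iff.mp (V_le_Om h1)).2, h2, h3⟩

theorem h0_R1 : h0 ∈ R1 := mem_R1.mpr (by decide +kernel)
theorem g0_R1 : g0 ∈ R1 := mem_R1.mpr (by decide +kernel)
theorem e0_R1 : e0 ∈ R1 := mem_R1.mpr (by decide +kernel)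

theorem not_le (p q : Nat → Bool) (m n : Nat) (hp : Nat.beq (cnt 512 p) m = true)
    (hq : Nat.beq (cnt 512 q) n = true) (h : n < m) : ¬ cnt 512 p ≤ cnt 512 q := by
  rw [eq_of_beq hp, eq_of_beq hq]; omega

/-- `h` is not conjugate to `a` in `C_G(z)` -/
theorem not_h0 [Finite G] (hU : IsolU c) (ha : Dz c a0) : ¬ CC c h0 a0 := by
  intro hP
  have hnf : ¬ CC c f0 a0 := fun h => not_Dz_f0 c hU (Dz_of_CC c h ha)
  obtain ⟨g, hgu, hgt, hC⟩ := adj c hU h0_R1 hP
  rcases image_le c hgu Q'_le_R1 (fun x hx => sq_Q' hx) hC with h | h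
  · by_cases hE : CC c e0 a0
    · by_cases hB : CC c b0 a0
      · -- an `f` commuting with `h0`
        have hx : ∃ x : SM, clF x.1 = true ∧ x * h0 = h0 * x := by
          have hd : exLT 512 (fun a => andB (clF a) (com a 272)) = true := by decide +kernel
          obtain ⟨k, hk, hk'⟩ := exLT_spec hd
          exact ⟨⟨k, hk⟩, (andB_spec hk').1, of_com (y := h0) (andB_spec hk').2⟩
        obtain ⟨x, hxF, hxc⟩ := hx
        obtain ⟨hxQ, hx2, hx1, hxz⟩ := clF_spec hxF
        obtain ⟨y, hyQ, hyR, hy2, hy1, hyz, hxy, hiff⟩ := step c hgu h hxQ hxc hx2 hx1 hxz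
        apply hnf
        rw [← pF c hxF, hiff]
        rcases inv_QR2 hy2 hyQ hyR hy1 hyz with h1 | h1 | h1
        · exact pA c h1
        · exact (pB c h1).mpr hB
        · exact (pE c h1).mpr hE
      · refine not_le (fun a => andB (com a 272) (orB (clF a) (clB a))) clB 6 4
          (by decide +kernel) (by decide +kernel) (by norm_num) (cnt_conj c g ?_)
        intro x hx
        obtain ⟨hxc, hx'⟩ := andB_spec hx
        have hx3 : x ∈ Q' ∧ x * x = 1 ∧ x ≠ 1 ∧ x ≠ z0 ∧ ¬ CC c x a0 := by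
          rcases orB_spec hx' with h1 | h1
          · obtain ⟨h2, h3, h4, h5⟩ := clF_spec h1
            exact ⟨h2, h3, h4, h5, fun h6 => hnf ((pF c h1).mp h6)⟩
          · obtain ⟨h2, h3, h4, h5⟩ := clB_spec h1
            exact ⟨(Om_le_Q h2).2, h3, h4, h5, fun h6 => hB ((pB c h1).mp h6)⟩
        obtain ⟨hxQ, hx2, hx1, hxz, hxP⟩ := hx3
        obtain ⟨y, hyQ, hyR, hy2, hy1, hyz, hxy, hiff⟩ :=
          step c hgu h hxQ (of_com (y := h0) hxc) hx2 hx1 hxz
        refine ⟨y, ?_, hxy⟩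
        rcases inv_QR2 hy2 hyQ hyR hy1 hyz with h1 | h1 | h1
        · exact absurd (hiff.mpr (pA c h1)) hxP
        · exact h1
        · exact absurd (hiff.mpr ((pE c h1).mpr hE)) hxP
    · refine not_le (fun a => andB (com a 272) (clH a)) (fun a => orB (clA a) (clB a)) 8 6
        (by decide +kernel) (by decide +kernel) (by norm_num) (cnt_conj c g ?_)
      intro x hx
      obtain ⟨hxc, hx'⟩ := andB_spec hx
      obtain ⟨hxQ, hx2, hx1, hxz⟩ := clH_spec hx'
      obtain ⟨y, hyQ, hyR, hy2, hy1, hyz, hxy, hiff⟩ :=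
        step c hgu h hxQ (of_com (y := h0) hxc) hx2 hx1 hxz
      refine ⟨y, ?_, hxy⟩
      rcases inv_QR2 hy2 hyQ hyR hy1 hyz with h1 | h1 | h1
      · exact orB_intro (Or.inl h1)
      · exact orB_intro (Or.inr h1)
      · exact absurd ((pE c h1).mp (hiff.mp ((pH c hx').mpr hP))) hE
  · refine not_le (fun a => andB (com a 272) (clH a)) (fun a => orB (clA a) (clB a)) 8 6
      (by decide +kernel) (by decide +kernel) (by norm_num) (cnt_conj c g ?_)
    intro x hx
    obtain ⟨hxc, hx'⟩ := andB_spec hx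
    obtain ⟨hxQ, hx2, hx1, hxz⟩ := clH_spec hx'
    obtain ⟨y, hyQ, hyR, hy2, hy1, hyz, hxy, hiff⟩ :=
      step c hgu h hxQ (of_com (y := h0) hxc) hx2 hx1 hxz
    refine ⟨y, ?_, hxy⟩
    rcases inv_Q'R2 hy2 hyQ hyR hy1 hyz with h1 | h1 | h1
    · exact orB_intro (Or.inl h1)
    · exact orB_intro (Or.inr h1)
    · exact absurd ((pF c h1).mp (hiff.mp ((pH c hx').mpr hP))) hnf

/-- if `g ~ a` in `C_G(z)` then `b`, `e` are too -/
theorem of_g0 [Finite G] (hU : IsolU c) (ha : Dz c a0) (hP : CC c g0 a0) :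
    CC c e0 a0 ∧ CC c b0 a0 := by
  have hnf : ¬ CC c f0 a0 := fun h => not_Dz_f0 c hU (Dz_of_CC c h ha)
  obtain ⟨g, hgu, hgt, hC⟩ := adj c hU g0_R1 hP
  rcases image_le c hgu Q_le_R1 (fun x hx => sq_Q hx) hC with h | h
  · by_cases hE : CC c e0 a0
    · refine ⟨hE, ?_⟩
      by_contra hB
      refine not_le (fun a => andB (com a 256) (orB (clE a) (clG a))) (fun a => orB (clA a) (clE a))
        12 10 (by decide +kernel) (by decide +kernel) (by norm_num) (cnt_conj c g ?_)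
      intro x hx
      obtain ⟨hxc, hx'⟩ := andB_spec hx
      have hx3 : x ∈ Q ∧ x * x = 1 ∧ x ≠ 1 ∧ x ≠ z0 ∧ CC c x a0 := by
        rcases orB_spec hx' with h1 | h1
        · obtain ⟨h2, h3, h4, h5⟩ := clE_spec h1
          exact ⟨h2, h3, h4, h5, (pE c h1).mpr hE⟩
        · obtain ⟨h2, h3, h4, h5⟩ := clG_spec h1
          exact ⟨h2, h3, h4, h5, (pG c h1).mpr hP⟩
      obtain ⟨hxQ, hx2, hx1, hxz, hxP⟩ := hx3
      obtain ⟨y, hyQ, hyR, hy2, hy1, hyz, hxy, hiff⟩ :=
        step c hgu h hxQ (of_com (y := g0) hxc) hx2 hx1 hxz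
      refine ⟨y, ?_, hxy⟩
      rcases inv_QR2 hy2 hyQ hyR hy1 hyz with h1 | h1 | h1
      · exact orB_intro (Or.inl h1)
      · exact absurd ((pB c h1).mp (hiff.mp hxP)) hB
      · exact orB_intro (Or.inr h1)
    · exfalso
      refine not_le (fun a => andB (com a 256) (clG a)) (fun a => orB (clA a) (clB a)) 8 6
        (by decide +kernel) (by decide +kernel) (by norm_num) (cnt_conj c g ?_)
      intro x hx
      obtain ⟨hxc, hx'⟩ := andB_spec hx
      obtain ⟨hxQ, hx2, hx1, hxz⟩ := clG_spec hx'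
      obtain ⟨y, hyQ, hyR, hy2, hy1, hyz, hxy, hiff⟩ :=
        step c hgu h hxQ (of_com (y := g0) hxc) hx2 hx1 hxz
      refine ⟨y, ?_, hxy⟩
      rcases inv_QR2 hy2 hyQ hyR hy1 hyz with h1 | h1 | h1
      · exact orB_intro (Or.inl h1)
      · exact orB_intro (Or.inr h1)
      · exact absurd ((pE c h1).mp (hiff.mp ((pG c hx').mpr hP))) hE
  · exfalso
    refine not_le (fun a => andB (com a 256) (clG a)) (fun a => orB (clA a) (clB a)) 8 6
      (by decide +kernel) (by decide +kernel) (by norm_num) (cnt_conj c g ?_)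
    intro x hx
    obtain ⟨hxc, hx'⟩ := andB_spec hx
    obtain ⟨hxQ, hx2, hx1, hxz⟩ := clG_spec hx'
    obtain ⟨y, hyQ, hyR, hy2, hy1, hyz, hxy, hiff⟩ :=
      step c hgu h hxQ (of_com (y := g0) hxc) hx2 hx1 hxz
    refine ⟨y, ?_, hxy⟩
    rcases inv_Q'R2 hy2 hyQ hyR hy1 hyz with h1 | h1 | h1
    · exact orB_intro (Or.inl h1)
    · exact orB_intro (Or.inr h1)
    · exact absurd ((pF c h1).mp (hiff.mp ((pG c hx').mpr hP))) hnf

/-- `T1 = Q' ∩ R2` -/
theorem card_T1 : Nat.card ((Q' ⊓ R2 : Subgroup SM)) = 32 := by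
  rw [card_sub (Q' ⊓ R2) (fun a => andB (inQ' a) (inR2 a)) (fun x => by
    rw [Subgroup.mem_inf, mem_Q', mem_R2]
    exact ⟨fun h => andB_intro h.1 h.2, fun h => andB_spec h⟩)]
  decide +kernel

theorem card_CQe : Nat.card ((Q ⊓ Subgroup.centralizer {e0} : Subgroup SM)) = 32 := by
  rw [card_sub (Q ⊓ Subgroup.centralizer {e0}) (fun a => andB (inQ a) (com a 128)) (fun x => by
    rw [Subgroup.mem_inf, mem_Q, Subgroup.mem_centralizer_singleton_iff]
    exact ⟨fun h => andB_intro h.1 (com_of (y := e0) h.2),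
      fun h => ⟨(andB_spec h).1, of_com (y := e0) (andB_spec h).2⟩⟩)]
  decide +kernel

theorem R1_norm_T1 {r x : SM} (hr : r ∈ R1) (hx : x ∈ (Q' ⊓ R2 : Subgroup SM)) :
    r * x * r⁻¹ ∈ (Q' ⊓ R2 : Subgroup SM) :=
  ⟨conj_by_gens inQ' (by decide +kernel) r x hx.1, R2_normal r x hx.2⟩

end Cfsg.Agent.HSType.Inv5
end

-- part: HSType/Inv5b
section
/-!
# Fusion of involutions (III): `e ~ a`
-/

set_option autoImplicit false
set_option linter.style.haveILetI false

namespace Cfsg.Agent.HSType.Inv5b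

open Cfsg.Agent.HSType.Model Cfsg.Agent.HSType.Facts Cfsg.Agent.HSType.FactsU
  Cfsg.Agent.HSType.FactsJ Cfsg.Agent.HSType.FactsI Cfsg.Agent.HSType.Spec
  Cfsg.Agent.HSType.Basic Cfsg.Agent.HSType.Trans Cfsg.Agent.HSType.JFus
  Cfsg.Agent.HSType.InvFusion Cfsg.Agent.HSType.Inv5

variable {G : Type*} [Group G] (c : Ctx G)

theorem swap_of_e0 [Finite G] {g : G} (hgu : g * c.ι u0 * g⁻¹ = c.ι u0)
    (h : ∀ x ∈ Q, x * e0 = e0 * x → ∃ y ∈ Q', y ∈ R2 ∧ g * c.ι x * g⁻¹ = c.ι y) :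
    ∃ n ∈ Cz c, ∀ x ∈ Q, ∃ y ∈ Q', n * c.ι x * n⁻¹ = c.ι y := by
  set T : Subgroup SM := Q ⊓ Subgroup.centralizer {e0} with hT
  have hmem : ∀ x, x ∈ T ↔ x ∈ Q ∧ x * e0 = e0 * x := fun x => by
    rw [hT, Subgroup.mem_inf, Subgroup.mem_centralizer_singleton_iff]
  have htr : tr c g T = Q' ⊓ R2 := by
    apply Subgroup.eq_of_le_of_card_ge
    · intro y hy
      obtain ⟨x, hx, hxy⟩ := (mem_tr c).mp hy
      obtain ⟨y', hy', hy2', hxy'⟩ := h x ((hmem x).mp hx).1 ((hmem x).mp hx).2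
      have e : y = y' := c.inj (by rw [← hxy, hxy'])
      rw [e]; exact ⟨hy', hy2'⟩
    · rw [card_T1, card_tr c (fun x hx => by
        obtain ⟨y', -, -, hxy'⟩ := h x ((hmem x).mp hx).1 ((hmem x).mp hx).2
        exact ⟨y', hxy'⟩), hT, card_CQe]
  set H : Subgroup G := Subgroup.centralizer {c.ι u0} with hH
  set Y : Subgroup G := H ⊓ Subgroup.normalizer (((Q' ⊓ R2 : Subgroup SM).map c.ι : Subgroup G) : Set G)
    with hY
  have hHcomm : ∀ w : G, w ∈ H ↔ w * c.ι u0 * w⁻¹ = c.ι u0 := by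
    intro w
    rw [hH, Subgroup.mem_centralizer_singleton_iff, mul_inv_eq_iff_eq_mul]
  have hRY : R1.map c.ι ≤ Y := by
    rintro _ ⟨r, hr, rfl⟩
    refine ⟨?_, ?_⟩
    · show c.ι r ∈ H
      rw [hHcomm, ← map_inv, ← map_mul, ← map_mul]
      have h1 : r * u0 = u0 * r := Subgroup.mem_centralizer_singleton_iff.mp hr
      rw [h1, mul_inv_cancel_right]
    · apply mem_normalizer_of_forall
      rintro _ ⟨x, hx, rfl⟩
      rw [← map_inv, ← map_mul, ← map_mul]
      exact Subgroup.mem_map_of_mem _ (R1_norm_T1 hr hx)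
  have hodd : ¬ 2 ∣ (R1.map c.ι).relIndex Y := by
    intro h2
    apply UFusion.u_sylow c
    rw [← Subgroup.relIndex_mul_relIndex (R1.map c.ι) Y H hRY inf_le_left]
    exact Dvd.dvd.mul_right h2 _
  have hPY : (Q.map c.ι).map (MulAut.conj g).toMonoidHom ≤ Y := by
    rintro _ ⟨_, ⟨x, hx, rfl⟩, rfl⟩
    show g * c.ι x * g⁻¹ ∈ Y
    refine ⟨?_, ?_⟩
    · show g * c.ι x * g⁻¹ ∈ H
      rw [hHcomm]
      have h1 : x * u0 = u0 * x := Subgroup.mem_centralizer_singleton_iff.mp (Q_le_R1 hx)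
      rw [mul_inv_eq_iff_eq_mul]
      conv_lhs => rw [← hgu]
      conv_rhs => rw [← hgu]
      rw [← conj_map_mul, ← conj_map_mul, ← map_mul, ← map_mul, h1]
    · apply mem_normalizer_of_forall
      rintro _ ⟨y, hy, rfl⟩
      have hy' : y ∈ tr c g T := by rw [htr]; exact hy
      obtain ⟨x', hx', hxy⟩ := (mem_tr c).mp hy'
      have hxx : x * x' * x⁻¹ ∈ T := by
        rcases comm_Q hx ((hmem x').mp hx').1 with h1 | h1
        · rw [h1, mul_inv_cancel_right]; exact hx'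
        · have h2 : x * x' * x⁻¹ = x' * z0 := by
            rw [mul_inv_eq_iff_eq_mul, h1, mul_assoc, mul_assoc, z0_central]
          rw [h2]
          apply T.mul_mem hx'
          rw [hmem]
          exact ⟨(Om_le_Q (V_le_Om z0_mem_V)).1, (z0_central e0).symm⟩
      obtain ⟨w, hw, hw2, hxw⟩ := h _ ((hmem _).mp hxx).1 ((hmem _).mp hxx).2
      have h3 : g * c.ι x * g⁻¹ * c.ι y * (g * c.ι x * g⁻¹)⁻¹ = c.ι w := by
        rw [← hxw, ← hxy, map_mul, map_mul, map_inv]; group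
      rw [h3]
      exact Subgroup.mem_map_of_mem _ ⟨hw, hw2⟩
  obtain ⟨k, hk, hkP⟩ := rel_sylow hRY (c.isPGroup_map R1) hodd hPY ((c.isPGroup_map Q).map _)
  have hku : k * c.ι u0 * k⁻¹ = c.ι u0 := (hHcomm k).mp hk.1
  have hkg : ∀ x : SM, k * g * c.ι x * (k * g)⁻¹ = k * (g * c.ι x * g⁻¹) * k⁻¹ := by
    intro x; group
  have hkgz : k * g ∈ Cz c := (Cz c).mul_mem (conj_u_z c hku) (conj_u_z c hgu)
  have hR : ∀ x ∈ Q, ∃ y ∈ R1, k * g * c.ι x * (k * g)⁻¹ = c.ι y := by
    intro x hx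
    obtain ⟨y, hy, hxy⟩ := hkP _ ⟨_, Subgroup.mem_map_of_mem c.ι hx, rfl⟩
    exact ⟨y, hy, by rw [hkg]; exact hxy.symm⟩
  refine ⟨k * g, hkgz, ?_⟩
  rcases UFusion.tr_le_Q_or c hkgz hR (fun x hx => sq_Q hx) with h1 | h1
  · exfalso
    -- `f0`
    have hf0 : f0 ∈ (Q' ⊓ R2 : Subgroup SM) :=
      ⟨(by decide +kernel : inQ' 129 = true), mem_R2.mpr (by decide +kernel)⟩
    have h2 := conj_mem_of_mem_normalizer (Subgroup.inv_mem _ hk.2) (Subgroup.mem_map_of_mem c.ι hf0)
    obtain ⟨y1, hy1, hy1'⟩ := h2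
    have hy1t : y1 ∈ tr c g T := by rw [htr]; exact hy1
    obtain ⟨x', hx', hxy⟩ := (mem_tr c).mp hy1t
    have h3 : f0 ∈ tr c (k * g) Q := (mem_tr c).mpr ⟨x', ((hmem x').mp hx').1, by
      rw [hkg, hxy, hy1']; group⟩
    exact absurd (h1 h3) (by
      intro h4
      exact absurd (mem_Q.mp h4) (by decide +kernel))
  · intro x hx
    obtain ⟨y, hy, hxy⟩ := hR x hx
    exact ⟨y, h1 ((mem_tr c).mpr ⟨x, hx, hxy⟩), hxy⟩

/-- if `e ~ a` in `C_G(z)` then `b`, `g` are too -/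
theorem of_e0 [Finite G] (hU : IsolU c) (ha : Dz c a0) (hP : CC c e0 a0) :
    CC c g0 a0 ∧ CC c b0 a0 := by
  have hnf : ¬ CC c f0 a0 := fun h => not_Dz_f0 c hU (Dz_of_CC c h ha)
  have hnh : ¬ CC c h0 a0 := not_h0 c hU ha
  obtain ⟨g, hgu, hgt, hC⟩ := adj c hU e0_R1 hP
  rcases image_le c hgu Q_le_R1 (fun x hx => sq_Q hx) hC with h | h
  · by_cases hG : CC c g0 a0
    · refine ⟨hG, ?_⟩
      by_contra hB
      refine not_le (fun a => andB (com a 128) (orB (clA a) (orB (clE a) (clG a))))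
        (fun a => orB (clA a) (clE a))
        14 10 (by decide +kernel) (by decide +kernel) (by norm_num) (cnt_conj c g ?_)
      intro x hx
      obtain ⟨hxc, hx'⟩ := andB_spec hx
      have hx3 : x ∈ Q ∧ x * x = 1 ∧ x ≠ 1 ∧ x ≠ z0 ∧ CC c x a0 := by
        rcases orB_spec hx' with h1 | h1
        · obtain ⟨h2, h3, h4, h5⟩ := clA_spec h1
          exact ⟨(Om_le_Q h2).1, h3, h4, h5, pA c h1⟩
        rcases orB_spec h1 with h1 | h1
        · obtain ⟨h2, h3, h4, h5⟩ := clE_spec h1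
          exact ⟨h2, h3, h4, h5, (pE c h1).mpr hP⟩
        · obtain ⟨h2, h3, h4, h5⟩ := clG_spec h1
          exact ⟨h2, h3, h4, h5, (pG c h1).mpr hG⟩
      obtain ⟨hxQ, hx2, hx1, hxz, hxP⟩ := hx3
      obtain ⟨y, hyQ, hyR, hy2, hy1, hyz, hxy, hiff⟩ :=
        step c hgu h hxQ (of_com (y := e0) hxc) hx2 hx1 hxz
      refine ⟨y, ?_, hxy⟩
      rcases inv_QR2 hy2 hyQ hyR hy1 hyz with h1 | h1 | h1
      · exact orB_intro (Or.inl h1)
      · exact absurd ((pB c h1).mp (hiff.mp hxP)) hB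
      · exact orB_intro (Or.inr h1)
    · exfalso
      refine not_le (fun a => andB (com a 128) (clG a)) clB 8 4
        (by decide +kernel) (by decide +kernel) (by norm_num) (cnt_conj c g ?_)
      intro x hx
      obtain ⟨hxc, hx'⟩ := andB_spec hx
      obtain ⟨hxQ, hx2, hx1, hxz⟩ := clG_spec hx'
      have hxP : ¬ CC c x a0 := fun h6 => hG ((pG c hx').mp h6)
      obtain ⟨y, hyQ, hyR, hy2, hy1, hyz, hxy, hiff⟩ :=
        step c hgu h hxQ (of_com (y := e0) hxc) hx2 hx1 hxz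
      refine ⟨y, ?_, hxy⟩
      rcases inv_QR2 hy2 hyQ hyR hy1 hyz with h1 | h1 | h1
      · exact absurd (hiff.mpr (pA c h1)) hxP
      · exact h1
      · exact absurd (hiff.mpr ((pE c h1).mpr hP)) hxP
  · exfalso
    obtain ⟨n, hn, hnQ⟩ := swap_of_e0 c hgu h
    refine not_le (fun a => orB (clA a) (clE a)) (fun a => orB (clA a) (clB a)) 10 6
      (by decide +kernel) (by decide +kernel) (by norm_num) (cnt_conj c n ?_)
    intro x hx
    have hx3 : x ∈ Q ∧ x * x = 1 ∧ x ≠ 1 ∧ x ≠ z0 ∧ CC c x a0 := by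
      rcases orB_spec hx with h1 | h1
      · obtain ⟨h2, h3, h4, h5⟩ := clA_spec h1
        exact ⟨(Om_le_Q h2).1, h3, h4, h5, pA c h1⟩
      · obtain ⟨h2, h3, h4, h5⟩ := clE_spec h1
        exact ⟨h2, h3, h4, h5, (pE c h1).mpr hP⟩
    obtain ⟨hxQ, hx2, hx1, hxz, hxP⟩ := hx3
    obtain ⟨y, hyQ, hxy⟩ := hnQ x hxQ
    refine ⟨y, ?_, hxy⟩
    have hyP : CC c y a0 := CC_conj c hn hxy hxP
    have hy2 : y * y = 1 := by
      apply c.inj
      rw [map_mul, ← hxy, ← conj_map_mul, ← map_mul, hx2, map_one]; group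
    have hyz : y ≠ z0 := by
      rintro rfl
      exact hxz (c.inj (conj_inj (hxy.trans ((mem_Cz c).mp hn).symm)))
    rcases inv_Q' hy2 hyQ with h1 | h1 | h1 | h1 | h1 | h1
    · exact absurd h1 (Nm_ne_one c hx1 hxy)
    · exact absurd h1 hyz
    · exact orB_intro (Or.inl h1)
    · exact orB_intro (Or.inr h1)
    · exact absurd ((pF c h1).mp hyP) hnf
    · exact absurd ((pH c h1).mp hyP) hnh

/-- elements of `R2` are moved into `R1` -/
theorem into_R1 [Finite G] (hSw : SwapV c) {t : SM} (ht : t ∈ R2) :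
    ∃ n : G, Nm c J n ∧ ∃ y ∈ R1, y ∈ R2 ∧ n * c.ι t * n⁻¹ = c.ι y := by
  obtain ⟨n, hnJ, hnR, -, hna⟩ := hSw.toz a0 a0_mem_V a0_ne_one
  obtain ⟨m, hmJ, hmR, -, hma⟩ := hSw.toz a1 a1_mem_V a1_ne_one
  have hgen : ∀ (n : G) (d : SM), Nm c J n → Nm c R2 n → n * c.ι d * n⁻¹ = c.ι z0 →
      ∃ x ∈ J, x * x = d ∧ n * c.ι x * n⁻¹ = c.ι u0 ∧
        (∀ s ∈ R2, s * x * s⁻¹ = x ∨ s * x * s⁻¹ = x * d) := by
    intro n d hJ hR hd
    obtain ⟨x, hx, hxu⟩ := Nm_surj c hJ (KNil.u0_mem_J)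
    refine ⟨x, hx, ?_, hxu, ?_⟩
    · apply c.inj
      apply conj_inj (g := n)
      rw [map_mul, conj_map_mul, hxu, ← map_mul, u0_sq, hd]
    · intro s hs
      obtain ⟨s', hs', hss⟩ := hR s hs
      have h1 : n * c.ι (s * x * s⁻¹) * n⁻¹ = c.ι (s' * u0 * s'⁻¹) := by
        rw [map_mul, map_mul, map_inv, map_mul, map_mul, map_inv, ← hss, ← hxu]; group
      rcases UIsol.smul_u0 s' with h2 | h2
      · left
        apply c.inj
        apply conj_inj (g := n)
        rw [h1, h2, hxu]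
      · right
        apply c.inj
        apply conj_inj (g := n)
        rw [h1, h2, map_mul, map_mul, conj_map_mul, hxu, hd]
  obtain ⟨x, hx, hx2, hxu, hxs⟩ := hgen n a0 hnJ hnR hna
  obtain ⟨y, hy, hy2, hyu, hys⟩ := hgen m a1 hmJ hmR hma
  have hfin : ∀ (n : G) (x : SM), Nm c R2 n → n * c.ι x * n⁻¹ = c.ι u0 → t * x = x * t →
      ∃ y ∈ R1, y ∈ R2 ∧ n * c.ι t * n⁻¹ = c.ι y := by
    intro n x hR hxu htx
    obtain ⟨t', ht', htt⟩ := hR t ht
    refine ⟨t', ?_, ht', htt⟩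
    unfold R1
    rw [Subgroup.mem_centralizer_singleton_iff]
    apply c.inj
    rw [map_mul, map_mul, ← htt, ← hxu, ← conj_map_mul, ← conj_map_mul, ← map_mul, ← map_mul, htx]
  rcases R2_cover ht hx hy hx2 hy2 hxs hys with h1 | h1 | h1
  · exact ⟨1, fun x hx => ⟨x, hx, by group⟩, t, h1, ht, by group⟩
  · exact ⟨n, hnJ, hfin n x hnR hxu h1⟩
  · exact ⟨m, hmJ, hfin m y hmR hyu h1⟩

/-- the three fusion patterns -/
theorem trichotomy [Finite G] (hU : IsolU c) (ha : Dz c a0) :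
    (∀ x : SM, Dz c x → x ∈ V) ∨
    ((∀ x : SM, Dz c x → x ∈ Om) ∧ (∀ x ∈ Om, x ≠ 1 → Dz c x)) ∨
    ((∀ x ∈ Q, x * x = 1 → x ≠ 1 → x ≠ z0 → CC c x a0) ∧ (∀ x ∈ R1, Dz c x → x ∈ Q)) := by
  have hSw := swapV c ha
  have hinv : ∀ x : SM, Dz c x → x * x = 1 ∧ x ≠ 1 := by
    intro x hx
    obtain ⟨g, hg⟩ := hx
    constructor
    · apply c.inj
      apply conj_inj (g := g)
      rw [map_mul, conj_map_mul, hg, ← map_mul, z0_sq, map_one]; group
    · rintro rfl
      rw [map_one] at hg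
      apply z0_ne_one
      apply c.inj
      rw [← hg, map_one]; group
  have hOmJ : ∀ x ∈ J, Dz c x → x ∈ Om := fun x hx h => mem_Om_iff.mpr ⟨hx, (hinv x h).1⟩
  by_cases hE : CC c e0 a0
  · right; right
    obtain ⟨hG, hB⟩ := of_e0 c hU ha hE
    constructor
    · intro x hx h2 h1 hz
      rcases inv_Q h2 hx with h | h | h | h | h | h
      · exact absurd h h1
      · exact absurd h hz
      · exact pA c h
      · exact (pB c h).mpr hB
      · exact (pE c h).mpr hE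
      · exact (pG c h).mpr hG
    · intro x hx h
      by_cases hJ : x ∈ J
      · exact (Om_le_Q (hOmJ x hJ h)).1
      have h3 := CC_a0 c (hinv x h).1 hx hJ h
      rcases mem_Q_or_Q' hx (Or.inl (hinv x h).1) with h4 | h4
      · exact h4
      · rcases inv_Q' (hinv x h).1 h4 with h5 | h5 | h5 | h5 | h5 | h5
        · exact absurd h5 (hinv x h).2
        · exact absurd (by rw [h5]; exact V_le_J z0_mem_V) hJ
        · exact absurd (V_le_J (clA_Om h5).1) hJ
        · exact absurd (mem_Om_iff.mp (clB_spec h5).1).1 hJ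
        · exact absurd (Dz_of_CC c ((pF c h5).mp h3) ha) (not_Dz_f0 c hU)
        · exact absurd ((pH c h5).mp h3) (not_h0 c hU ha)
  · have hR1 : ∀ x ∈ R1, Dz c x → x ∈ Om := by
      intro x hx h
      by_cases hJ : x ∈ J
      · exact hOmJ x hJ h
      exfalso
      have h3 := CC_a0 c (hinv x h).1 hx hJ h
      rcases mem_Q_or_Q' hx (Or.inl (hinv x h).1) with h4 | h4
      · rcases inv_Q (hinv x h).1 h4 with h5 | h5 | h5 | h5 | h5 | h5
        · exact absurd h5 (hinv x h).2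
        · exact absurd (by rw [h5]; exact V_le_J z0_mem_V) hJ
        · exact absurd (V_le_J (clA_Om h5).1) hJ
        · exact absurd (mem_Om_iff.mp (clB_spec h5).1).1 hJ
        · exact hE ((pE c h5).mp h3)
        · exact hE (of_g0 c hU ha ((pG c h5).mp h3)).1
      · rcases inv_Q' (hinv x h).1 h4 with h5 | h5 | h5 | h5 | h5 | h5
        · exact absurd h5 (hinv x h).2
        · exact absurd (by rw [h5]; exact V_le_J z0_mem_V) hJ
        · exact absurd (V_le_J (clA_Om h5).1) hJ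
        · exact absurd (mem_Om_iff.mp (clB_spec h5).1).1 hJ
        · exact absurd (Dz_of_CC c ((pF c h5).mp h3) ha) (not_Dz_f0 c hU)
        · exact absurd ((pH c h5).mp h3) (not_h0 c hU ha)
    have hall : ∀ x : SM, Dz c x → x ∈ Om := by
      intro x h
      rcases inv_cases (hinv x h).1 with h1 | h1
      · exact hR1 x h1 h
      · obtain ⟨n, hnJ, y, hy, hy2, hxy⟩ := into_R1 c hSw h1
        have h2 := hR1 y hy (Dz_of_conj c h hxy)
        have h3 : x ∈ J := by
          obtain ⟨x', hx', hxx⟩ := Nm_surj c hnJ (mem_Om_iff.mp h2).1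
          have e : x = x' := c.inj (conj_inj (hxy.trans hxx.symm))
          rw [e]; exact hx'
        exact hOmJ x h3 h
    by_cases hb : ∀ x ∈ Om, x ≠ 1 → Dz c x
    · exact Or.inr (Or.inl ⟨hall, hb⟩)
    · left
      intro x h
      by_contra hxV
      apply hb
      intro y hy hy1
      by_cases hyV : y ∈ V
      · rcases V_cases hyV with e | e | e | e
        · exact absurd e hy1
        · rw [e]; exact ha
        · rw [e]; exact a1_of_a0 c ha
        · rw [e]; exact Dz_z0 c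
      · obtain ⟨s, hs⟩ := conj_b (hall x h) hxV hy hyV
        rw [← hs]; exact Dz_smul c h

end Cfsg.Agent.HSType.Inv5b
end

-- part: HSType/Simple
section
/-!
# Simplicity: `a ~ z`, and `z^G ∩ S` is not `V - 1`
-/

set_option autoImplicit false
set_option linter.style.haveILetI false

namespace Cfsg.Agent.HSType.Simple

open Cfsg.Agent.HSType.Model Cfsg.Agent.HSType.Facts Cfsg.Agent.HSType.FactsU
  Cfsg.Agent.HSType.FactsJ Cfsg.Agent.HSType.FactsI Cfsg.Agent.HSType.Spec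
  Cfsg.Agent.HSType.Basic Cfsg.Agent.HSType.Trans Cfsg.Agent.HSType.JFus
  Cfsg.Agent.HSType.InvFusion Cfsg.Agent.HSType.Inv5 Cfsg.Agent.HSType.Inv5b

variable {G : Type*} [Group G] (c : Ctx G)

include c in
theorem even_card [Finite G] : Even (Nat.card G) := by
  have h : Nat.card (c.S : Subgroup G) ∣ Nat.card G := Subgroup.card_subgroup_dvd_card _
  rw [c.card_S] at h
  exact (by decide : Even 512).trans_dvd h

include c in
theorem not_comm : ¬ ∀ x y : G, x * y = y * x := by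
  intro h
  have h1 : s1 * u0 = u0 * s1 := by
    apply c.inj; rw [map_mul, map_mul, h]
  exact absurd (com_of h1) (by decide +kernel)

theorem mem_S (x : SM) : c.ι x ∈ c.S := by
  show c.ι x ∈ (c.S : Subgroup G)
  rw [c.range]; exact ⟨x, rfl⟩

theorem of_mem_S {g : G} (h : g ∈ c.S) : ∃ x : SM, c.ι x = g := by
  have h' : g ∈ (c.S : Subgroup G) := h
  rw [c.range] at h'
  exact h'

theorem order_z [Finite G] : orderOf (c.ι z0) = 2 := by
  apply orderOf_eq_prime
  · rw [pow_two, ← map_mul, z0_sq, map_one]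
  · rw [← map_one c.ι]; exact fun h => z0_ne_one (c.inj h)

theorem inv_of_Dz {x : SM} (hx : Dz c x) : x * x = 1 ∧ x ≠ 1 := by
  obtain ⟨g, hg⟩ := hx
  constructor
  · apply c.inj
    apply conj_inj (g := g)
    rw [map_mul, conj_map_mul, hg, ← map_mul, z0_sq, map_one]; group
  · rintro rfl
    rw [map_one] at hg
    apply z0_ne_one
    apply c.inj
    rw [← hg, map_one]; group

/-- `a ~ z` in a simple group -/
theorem Dz_a0 [Finite G] [IsSimpleGroup G] : Dz c a0 := by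
  by_contra h
  have hall : ∀ x : SM, Dz c x → x = z0 := by
    intro x hx
    by_contra hxz
    obtain ⟨h2, h1⟩ := inv_of_Dz c hx
    by_cases hJ : x ∈ J
    · exact h (a0_of_Om c (mem_Om_iff.mpr ⟨hJ, h2⟩) h1 hxz hx)
    · exact h (a0_of_notJ c h2 hJ hx)
  obtain ⟨N, hNn, hNo, hN⟩ := S0215.result c.S (c.ι z0) (order_z c) (mem_S c z0) (by
    intro g hg
    obtain ⟨x, hx⟩ := of_mem_S c hg
    rw [← hx, hall x (Dz_of_conj c (Dz_z0 c) hx.symm)])
  rcases hNn.eq_bot_or_eq_top with h1 | h1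
  · have hc : c.ι z0 ∈ Subgroup.center G := by
      rw [Subgroup.mem_center_iff]
      intro g
      have h2 := hN g
      rw [h1, Subgroup.mem_bot] at h2
      calc g * c.ι z0 = (c.ι z0 * g * (c.ι z0)⁻¹ * g⁻¹)⁻¹ * (c.ι z0 * g) := by group
        _ = c.ι z0 * g := by rw [h2, inv_one, one_mul]
    rcases (inferInstance : (Subgroup.center G).Normal).eq_bot_or_eq_top with h2 | h2
    · rw [h2, Subgroup.mem_bot, ← map_one c.ι] at hc
      exact z0_ne_one (c.inj hc)
    · apply not_comm c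
      intro x y
      have hx : x ∈ Subgroup.center G := by rw [h2]; trivial
      exact (Subgroup.mem_center_iff.mp hx y).symm
  · rw [h1, Subgroup.card_top] at hNo
    exact (Nat.not_even_iff_odd.mpr hNo) (even_card c)

/-- Z* for `a` modulo `z` -/
theorem exists_NA [Finite G] (ha : Dz c a0) (hV : ∀ x : SM, Dz c x → x ∈ V) :
    ∃ N : Subgroup G, Odd (Nat.card N) ∧ (∀ g ∈ Cz c, ∀ n ∈ N, g * n * g⁻¹ ∈ N) ∧
      ∀ g ∈ Cz c, ∃ n ∈ N, g * c.ι a0 * g⁻¹ = n * c.ι a0 ∨ g * c.ι a0 * g⁻¹ = n * c.ι a1 := by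
  classical
  have hSC : (c.S : Subgroup G) ≤ Cz c := by rw [c.range]; exact range_le_Cz c
  let X := Cz c
  let z : X := ⟨c.ι z0, range_le_Cz c ⟨z0, rfl⟩⟩
  let a : X := ⟨c.ι a0, range_le_Cz c ⟨a0, rfl⟩⟩
  have hz : ∀ x : X, x * z = z * x := by
    intro x
    apply Subtype.ext
    have h1 := (mem_Cz c).mp x.2
    show (x : G) * c.ι z0 = c.ι z0 * x
    calc (x : G) * c.ι z0 = ((x : G) * c.ι z0 * (x : G)⁻¹) * x := by group
      _ = c.ι z0 * x := by rw [h1]
  have hz2 : z * z = 1 := by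
    apply Subtype.ext
    show c.ι z0 * c.ι z0 = 1
    rw [← map_mul, z0_sq, map_one]
  let Z : Subgroup X := Subgroup.zpowers z
  have hZm : ∀ x ∈ Z, x = 1 ∨ x = z := by
    intro x hx
    obtain ⟨k, rfl⟩ := Subgroup.mem_zpowers_iff.mp hx
    rcases Int.even_or_odd k with ⟨j, hj⟩ | ⟨j, hj⟩
    · left
      rw [hj, ← two_mul, zpow_mul, zpow_two, hz2, one_zpow]
    · right
      rw [hj, zpow_add, zpow_mul, zpow_two, hz2, one_zpow, one_mul, zpow_one]
  have hzZ : z ∈ Z := Subgroup.mem_zpowers z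
  have hZc : ∀ x ∈ Z, ∀ g : X, g * x = x * g := by
    intro x hx g
    rcases hZm x hx with rfl | rfl
    · rw [mul_one, one_mul]
    · exact hz g
  have hZn : Z.Normal := by
    refine ⟨fun x hx g => ?_⟩
    rw [hZc x hx g, mul_inv_cancel_right]; exact hx
  let f : X →* X ⧸ Z := QuotientGroup.mk' Z
  have hfs : Function.Surjective f := QuotientGroup.mk'_surjective Z
  have hker : ∀ x, f x = 1 ↔ x ∈ Z := by
    intro x
    rw [← MonoidHom.mem_ker, QuotientGroup.ker_mk']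
  let P : Sylow 2 X := c.S.subtype hSC
  have hP : ∀ x : X, x ∈ P ↔ (x : G) ∈ c.S := fun x => Iff.rfl
  haveI : Fact (Nat.Prime 2) := ⟨Nat.prime_two⟩
  let P' : Sylow 2 (X ⧸ Z) := P.mapSurjective hfs
  have hP' : ∀ y, y ∈ P' ↔ ∃ x ∈ P, f x = y := by
    intro y
    show y ∈ ((P' : Subgroup (X ⧸ Z))) ↔ _
    rw [Sylow.coe_mapSurjective]
    rfl
  have hzP : z ∈ P := (hP z).mpr (mem_S c z0)
  have haP : a ∈ P := (hP a).mpr (mem_S c a0)
  have hfa : orderOf (f a) = 2 := by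
    refine orderOf_eq_prime ?_ ?_
    · rw [pow_two, ← map_mul, hker]
      have : a * a = 1 := by
        apply Subtype.ext
        show c.ι a0 * c.ι a0 = 1
        rw [← map_mul, a0_sq, map_one]
      rw [this]; exact Z.one_mem
    · rw [Ne, hker]
      intro h
      rcases hZm a h with h | h
      · have h2 : c.ι a0 = 1 := congrArg Subtype.val h
        rw [← map_one c.ι] at h2
        exact a0_ne_one (c.inj h2)
      · have h2 : c.ι a0 = c.ι z0 := congrArg Subtype.val h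
        exact a0_ne_z0 (c.inj h2)
  have hiso : ∀ g : X, g * a * g⁻¹ ∈ P → g * a * g⁻¹ = a ∨ g * a * g⁻¹ = a * z := by
    intro g hg
    obtain ⟨x, hx⟩ := of_mem_S c ((hP _).mp hg)
    have hx' : (g : G) * c.ι a0 * (g : G)⁻¹ = c.ι x := hx.symm
    have hxV := hV x (Dz_of_conj c ha hx')
    rcases V_cases hxV with e | e | e | e
    · exact absurd e (Nm_ne_one c a0_ne_one hx')
    · left; apply Subtype.ext; show (g : G) * c.ι a0 * (g : G)⁻¹ = c.ι a0; rw [hx', e]
    · right; apply Subtype.ext; show (g : G) * c.ι a0 * (g : G)⁻¹ = c.ι a0 * c.ι z0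
      rw [hx', e, ← map_mul, a0_mul_z0]
    · exfalso
      rw [e] at hx'
      exact a0_ne_z0 (c.inj (conj_inj (hx'.trans ((mem_Cz c).mp g.2).symm)))
  obtain ⟨N', hN'n, hN'o, hN'⟩ := S0215.result P' (f a) hfa ((hP' _).mpr ⟨a, haP, rfl⟩) (by
    intro g hg
    obtain ⟨g, rfl⟩ := hfs g
    obtain ⟨x, hx, hxg⟩ := (hP' _).mp hg
    rw [← map_inv, ← map_mul, ← map_mul] at hxg
    have h1 : f (x⁻¹ * (g * a * g⁻¹)) = 1 := by
      rw [map_mul, map_inv, hxg, inv_mul_cancel]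
    rw [hker] at h1
    have h2 : g * a * g⁻¹ ∈ P := by
      have h3 : x⁻¹ * (g * a * g⁻¹) ∈ P := by
        rcases hZm _ h1 with h | h
        · rw [h]; exact one_mem _
        · rw [h]; exact hzP
      have h4 := mul_mem hx h3
      rwa [mul_inv_cancel_left] at h4
    rw [← map_inv, ← map_mul, ← map_mul]
    rcases hiso g h2 with h | h
    · rw [h]
    · rw [h, map_mul, (hker z).mpr hzZ, mul_one])
  set M : Subgroup X := N'.comap f with hM
  have hMn : M.Normal := hN'n.comap f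
  obtain ⟨L, hLM, hLo, hLmem, hLdec⟩ := J2Sylow.Functor.exists_odd_part (Z := M) (J := Z)
    (fun j hj => by
      rcases hZm j hj with rfl | rfl
      · rw [mul_one]
      · exact hz2) (fun j hj m _ => hZc j hj m) (by
      rintro m hm ⟨k, hk⟩
      rw [← hker]
      have h1 : (f m) ^ (2 ^ k) = 1 := by rw [← map_pow, hk, map_one]
      have h2 : orderOf (f m) ∣ 2 ^ k := orderOf_dvd_of_pow_eq_one h1
      have h3 : orderOf (f m) ∣ Nat.card N' := N'.orderOf_dvd_natCard hm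
      have h4 : orderOf (f m) = 1 :=
        Nat.eq_one_of_dvd_coprimes (Nat.Coprime.pow_right k (Nat.coprime_two_right.mpr hN'o)) h3 h2
      exact orderOf_eq_one_iff.mp h4)
  refine ⟨L.map X.subtype, ?_, ?_, ?_⟩
  · rw [Nat.card_congr (L.equivMapOfInjective _ X.subtype_injective).symm.toEquiv]
    exact hLo
  · rintro g hg _ ⟨l, hl, rfl⟩
    have h1 : (⟨g, hg⟩ : X) * l * (⟨g, hg⟩ : X)⁻¹ ∈ L := by
      refine hLmem _ (hMn.conj_mem l (hLM hl) ⟨g, hg⟩) ?_
      rw [TwoFusion.StronglyEmbeddedBasic.orderOf_conj]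
      exact J2Sylow.Functor.odd_orderOf_of_mem hLo hl
    exact Subgroup.mem_map_of_mem X.subtype h1
  · intro g' hg'
    let g : X := ⟨g', hg'⟩
    have h1 : a * g * a⁻¹ * g⁻¹ ∈ M := by
      show f (a * g * a⁻¹ * g⁻¹) ∈ N'
      rw [map_mul, map_mul, map_mul, map_inv, map_inv]
      exact hN' (f g)
    obtain ⟨j, hj, l, hl, hjl⟩ := hLdec _ h1
    refine ⟨(l⁻¹ : X), ⟨l⁻¹, inv_mem hl, rfl⟩, ?_⟩
    have h2 : g * a * g⁻¹ = (a * g * a⁻¹ * g⁻¹)⁻¹ * a := by group
    rw [hjl, mul_inv_rev] at h2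
    rcases hZm j hj with rfl | rfl
    · left
      rw [inv_one, mul_one] at h2
      exact congrArg Subtype.val h2
    · right
      rw [inv_eq_of_mul_eq_one_right hz2, mul_assoc (l⁻¹) z a, ← hz a] at h2
      have h3 := congrArg Subtype.val h2
      rw [← a0_mul_z0, map_mul]
      exact h3

/-- in the case `z^G ∩ S = V - 1` elements outside `R2` are not `C_G(z)`-conjugate into `R2` -/
theorem not_into_R2 [Finite G] {N : Subgroup G} (hNo : Odd (Nat.card N))
    (hNn : ∀ g ∈ Cz c, ∀ n ∈ N, g * n * g⁻¹ ∈ N)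
    (hNA : ∀ g ∈ Cz c, ∃ n ∈ N, g * c.ι a0 * g⁻¹ = n * c.ι a0 ∨ g * c.ι a0 * g⁻¹ = n * c.ι a1)
    {g : G} (hg : g ∈ Cz c) {x y : SM} (hx : x ∉ R2) (hy : y ∈ R2)
    (hxy : g * c.ι x * g⁻¹ = c.ι y) : False := by
  -- `x a x⁻¹ = a z`
  have hxa : x * a0 * x⁻¹ = a0 * z0 := by
    rcases V_cases (V_normal (g := x) a0_mem_V) with e | e | e | e
    · exfalso
      apply a0_ne_one
      have : a0 = x⁻¹ * (x * a0 * x⁻¹) * x := by group
      rw [this, e]; group
    · exfalso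
      apply hx
      unfold R2
      rw [Subgroup.mem_centralizer_singleton_iff]
      rw [mul_inv_eq_iff_eq_mul] at e
      exact e
    · rw [e, a0_mul_z0]
    · exfalso
      apply a0_ne_z0
      have h1 : a0 = x⁻¹ * (x * a0 * x⁻¹) * x := by group
      rw [h1, e, mul_assoc, ← z0_central, inv_mul_cancel_left]
  have hgz := (mem_Cz c).mp hg
  -- generic computation
  have key : ∀ d ∈ V, ∀ n ∈ N, g * c.ι a0 * g⁻¹ = n * c.ι d → c.ι z0 ∈ N := by
    intro d hd n hn h1
    have hyd : c.ι y * c.ι d * (c.ι y)⁻¹ = c.ι d := by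
      rw [← map_mul, R2_cent hy hd, map_mul, mul_inv_cancel_right]
    have h2 : g * c.ι (x * a0 * x⁻¹) * g⁻¹ = (c.ι y * n * (c.ι y)⁻¹) * c.ι d := by
      calc g * c.ι (x * a0 * x⁻¹) * g⁻¹
          = (g * c.ι x * g⁻¹) * (g * c.ι a0 * g⁻¹) * (g * c.ι x * g⁻¹)⁻¹ := by
            rw [map_mul, map_mul, map_inv]; group
        _ = (c.ι y * n * (c.ι y)⁻¹) * (c.ι y * c.ι d * (c.ι y)⁻¹) := by rw [hxy, h1]; group
        _ = _ := by rw [hyd]
    have h3 : g * c.ι (x * a0 * x⁻¹) * g⁻¹ = n * c.ι d * c.ι z0 := by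
      rw [hxa, map_mul, conj_map_mul, h1, hgz]
    have h4 : c.ι z0 = n⁻¹ * (c.ι y * n * (c.ι y)⁻¹) := by
      have h5 : n * c.ι d * c.ι z0 = c.ι y * n * (c.ι y)⁻¹ * c.ι d := by rw [← h3, h2]
      have h6 : c.ι d * c.ι z0 = c.ι z0 * c.ι d := by rw [← map_mul, z0_central, map_mul]
      rw [mul_assoc, h6, ← mul_assoc] at h5
      have h7 := mul_right_cancel h5
      rw [← h7]; group
    rw [h4]
    exact N.mul_mem (N.inv_mem hn) (hNn _ (range_le_Cz c ⟨y, rfl⟩) n hn)
  have hzN : c.ι z0 ∈ N := by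
    obtain ⟨n, hn, h1 | h1⟩ := hNA g hg
    · exact key a0 a0_mem_V n hn h1
    · exact key a1 a1_mem_V n hn h1
  have h1 : orderOf (c.ι z0) ∣ Nat.card N := N.orderOf_dvd_natCard hzN
  rw [order_z c] at h1
  exact (Nat.not_even_iff_odd.mpr hNo) (even_iff_two_dvd.mpr h1)

theorem relIndex_R2 : (R2.map c.ι).relIndex (c.S : Subgroup G) = 2 := by
  have hle : R2.map c.ι ≤ (c.S : Subgroup G) := by
    rw [c.range]
    rintro _ ⟨x, -, rfl⟩
    exact ⟨x, rfl⟩
  have h1 := ((R2.map c.ι).subgroupOf (c.S : Subgroup G)).card_mul_index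
  rw [Nat.card_congr (Subgroup.subgroupOfEquivOfLe hle).toEquiv, c.card_map, card_R2,
    c.card_S] at h1
  unfold Subgroup.relIndex
  omega

/-- `z^G ∩ S` is not `V - 1` -/
theorem not_V [Finite G] [IsSimpleGroup G] (hV : ∀ x : SM, Dz c x → x ∈ V) : False := by
  haveI : Fact (Nat.Prime 2) := ⟨Nat.prime_two⟩
  have ha := Dz_a0 c
  have hSw := swapV c ha
  obtain ⟨N, hNo, hNn, hNA⟩ := exists_NA c ha hV
  have hVD : ∀ x ∈ V, x ≠ 1 → Dz c x := by
    intro x hx h1
    rcases V_cases hx with e | e | e | e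
    · exact absurd e h1
    · rw [e]; exact ha
    · rw [e]; exact a1_of_a0 c ha
    · rw [e]; exact Dz_z0 c
  have hle : R2.map c.ι ≤ (c.S : Subgroup G) := by
    rw [c.range]
    rintro _ ⟨x, -, rfl⟩
    exact ⟨x, rfl⟩
  have hg0 : g0 * g0 = 1 := SM.ext (by decide +kernel)
  have hg0R : g0 ∉ R2 := by
    intro h; exact absurd (mem_R2.mp h) (by decide +kernel)
  rcases Transfer.ThompsonTransfer.thompson_transfer c.S (R2.map c.ι) hle (relIndex_R2 c)
    (c.ι g0) (by rw [pow_two, ← map_mul, hg0, map_one]) with ⟨M, hMn, hMi, hMg⟩ | ⟨x, hx⟩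
  · rcases hMn.eq_bot_or_eq_top with h1 | h1
    · rw [h1, Subgroup.index_bot] at hMi
      have h2 : Nat.card (c.S : Subgroup G) ∣ Nat.card G := Subgroup.card_subgroup_dvd_card _
      rw [c.card_S, hMi] at h2
      norm_num at h2
    · rw [h1, Subgroup.index_top] at hMi
      norm_num at hMi
  · obtain ⟨y, hy, hxy⟩ := hx
    -- Sylow subgroup of `C(y)` containing `V`
    set K : Subgroup G := Subgroup.centralizer {c.ι y} with hK
    have hVK : V.map c.ι ≤ K := by
      rintro _ ⟨w, hw, rfl⟩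
      rw [hK, Subgroup.mem_centralizer_singleton_iff, ← map_mul, ← map_mul, R2_cent hy hw]
    have hp1 : IsPGroup 2 ((V.map c.ι).subgroupOf K) :=
      (c.isPGroup_map V).comap_of_injective K.subtype K.subtype_injective
    obtain ⟨T, hT⟩ := hp1.exists_le_sylow
    have hT2 : IsPGroup 2 ((T : Subgroup K).map K.subtype) := T.2.map _
    have hTK : (T : Subgroup K).map K.subtype ≤ K := Subgroup.map_subtype_le _
    have hVT : V.map c.ι ≤ (T : Subgroup K).map K.subtype := by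
      intro w hw
      exact ⟨⟨w, hVK hw⟩, hT (by rw [Subgroup.mem_subgroupOf]; exact hw), rfl⟩
    have hTs : ¬ 2 ∣ ((T : Subgroup K).map K.subtype).relIndex K := by
      unfold Subgroup.relIndex
      have h1 : ((T : Subgroup K).map K.subtype).subgroupOf K = (T : Subgroup K) := by
        unfold Subgroup.subgroupOf
        exact Subgroup.comap_map_eq_self_of_injective K.subtype_injective _
      rw [h1]
      exact T.not_dvd_index
    have hzx : Subgroup.zpowers (x * c.ι z0 * x⁻¹) ≤ K := by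
      rw [Subgroup.zpowers_le, hK, Subgroup.mem_centralizer_singleton_iff, hxy, ← conj_map_mul,
        ← conj_map_mul, ← map_mul, ← z0_central, map_mul]
    have hzp : IsPGroup 2 (Subgroup.zpowers (x * c.ι z0 * x⁻¹)) := by
      have h2 : orderOf (x * c.ι z0 * x⁻¹) = 2 := by
        rw [TwoFusion.StronglyEmbeddedBasic.orderOf_conj, order_z c]
      apply IsPGroup.of_card (n := 1)
      rw [Nat.card_zpowers, h2, pow_one]
    obtain ⟨k, hk, hkT⟩ := rel_sylow hTK hT2 hTs hzx hzp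
    obtain ⟨d, hd⟩ := c.exists_conj hT2
    have hdV : Nm c V d := by
      intro w hw
      obtain ⟨s, hs⟩ := hd _ (hVT (Subgroup.mem_map_of_mem _ hw))
      by_cases hw1 : w = 1
      · rw [hw1]; exact ⟨1, V.one_mem, by rw [map_one]; group⟩
      · exact ⟨s, hV s (Dz_of_conj c (hVD w hw hw1) hs.symm), hs.symm⟩
    obtain ⟨w', hw'⟩ := hd _ (hkT _ (Subgroup.mem_zpowers _))
    have hw'D : Dz c w' := Dz_of_conj c (Dz_z0 c) (g := d * (k * x)) (by rw [hw']; group)
    obtain ⟨w, hw, hww⟩ := Nm_surj c hdV (hV w' hw'D)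
    have hwz : k * x * c.ι z0 * (k * x)⁻¹ = c.ι w := by
      apply conj_inj (g := d)
      rw [hww, hw']; group
    have hw1 : w ≠ 1 := Nm_ne_one c z0_ne_one hwz
    obtain ⟨m, -, hmR, -, hmw⟩ := hSw.toz w hw hw1
    obtain ⟨y', hy', hyy⟩ := hmR y hy
    have hky : k * c.ι y * k⁻¹ = c.ι y := by
      rw [Subgroup.mem_centralizer_singleton_iff.mp hk, mul_inv_cancel_right]
    refine not_into_R2 c hNo hNn hNA (g := m * (k * x)) ?_ hg0R hy' ?_
    · rw [mem_Cz]
      calc m * (k * x) * c.ι z0 * (m * (k * x))⁻¹ = m * (k * x * c.ι z0 * (k * x)⁻¹) * m⁻¹ := by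
            group
        _ = c.ι z0 := by rw [hwz, hmw]
    · calc m * (k * x) * c.ι g0 * (m * (k * x))⁻¹
          = m * (k * (x * c.ι g0 * x⁻¹) * k⁻¹) * m⁻¹ := by group
        _ = c.ι y' := by rw [← hxy, hky, hyy]

end Cfsg.Agent.HSType.Simple
end

-- part: HSType/Lines
section
/-!
# Canonical lines; strong closure of `B` in `R1` with respect to `C_G(z)`
-/

set_option autoImplicit false
set_option linter.style.haveILetI false

namespace Cfsg.Agent.HSType.Lines

open Cfsg.Agent.HSType.Model Cfsg.Agent.HSType.Facts Cfsg.Agent.HSType.FactsU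
  Cfsg.Agent.HSType.FactsJ Cfsg.Agent.HSType.FactsI Cfsg.Agent.HSType.Spec
  Cfsg.Agent.HSType.Basic Cfsg.Agent.HSType.Trans Cfsg.Agent.HSType.JFus
  Cfsg.Agent.HSType.InvFusion Cfsg.Agent.HSType.Inv5 Cfsg.Agent.HSType.Inv5b
  Cfsg.Agent.HSType.Simple

variable {G : Type*} [Group G] (c : Ctx G)

theorem b0_Om : b0 ∈ Om ∧ b0 ∉ V ∧ b0 ≠ 1 := by
  refine ⟨(by decide +kernel : inOm 32 = true), fun h => ?_, fun h => ?_⟩
  · exact absurd (mem_V.mp h) (by decide +kernel)
  · have := congrArg SM.val h; exact absurd this (by decide)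

theorem clA_of_V {x : SM} (hx : x ∈ V) (h1 : x ≠ 1) (hz : x ≠ z0) : clA x.1 = true := by
  rcases V_cases hx with e | e | e | e
  · exact absurd e h1
  · rw [e]; decide +kernel
  · rw [e]; decide +kernel
  · exact absurd e hz

theorem clB_of {x : SM} (hx : x ∈ Om) (hV : x ∉ V) : clB x.1 = true :=
  andB_intro hx (notB_of hV)

theorem mul_mem_V {x y : SM} (hx : x ∈ Om) (hy : y ∈ Om) (hxV : x ∉ V) (hyV : y ∉ V) :
    x * y ∈ V := by
  have hd : allLT 64 (fun x => imp (andB (inOm x) (notB (inV x))) (allLT 64 (fun y =>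
    imp (andB (inOm y) (notB (inV y))) (inV (mulN x y))))) = true := by decide +kernel
  have hlt : ∀ w : SM, w ∈ Om → w.1 < 64 := fun w hw => Nat.le_of_ble_eq_true (mem_Om_iff.mp hw).1
  exact imp_spec (allLT_spec (imp_spec (allLT_spec hd x.1 (hlt x hx)) (clB_of hx hxV)) y.1
    (hlt y hy)) (clB_of hy hyV)

theorem Nm_Om [Finite G] {n : G} (hn : Nm c J n) : Nm c Om n := by
  intro x hx
  obtain ⟨y, hy, hxy⟩ := hn x (mem_Om_iff.mp hx).1
  refine ⟨y, mem_Om_iff.mpr ⟨hy, ?_⟩, hxy⟩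
  apply c.inj
  rw [map_mul, ← hxy, ← conj_map_mul, ← map_mul, (mem_Om_iff.mp hx).2, map_one]; group

/-- **canonical lines**: if `Ω₁(J) - 1 ⊆ z^G` then `C_G(z)` is transitive on `Ω₁(J) - ⟨z⟩` -/
theorem CC_b0 [Finite G] (hSw : SwapV c) (hOm : ∀ x ∈ Om, x ≠ 1 → Dz c x) : CC c b0 a0 := by
  by_contra h
  have hst : ∀ g ∈ Cz c, Nm c J g → Nm c V g := by
    intro g hg hJ w hw
    by_cases hw1 : w = 1
    · rw [hw1]; exact ⟨1, V.one_mem, by rw [map_one]; group⟩
    by_cases hwz : w = z0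
    · rw [hwz]; exact ⟨z0, z0_mem_V, (mem_Cz c).mp hg⟩
    obtain ⟨y, hy, hxy⟩ := Nm_Om c hJ w (V_le_Om hw)
    refine ⟨y, ?_, hxy⟩
    by_contra hyV
    apply h
    rw [← pB c (clB_of hy hyV)]
    exact CC_conj c hg hxy (pA c (clA_of_V hw hw1 hwz))
  obtain ⟨hbOm, hbV, hb1⟩ := b0_Om
  obtain ⟨g, hg⟩ := hOm b0 hbOm hb1
  obtain ⟨n, hn, hnb, -⟩ := burnside_J c (mem_Om_iff.mp hbOm).1 (V_le_J z0_mem_V) hg
  -- common point of `V` and `V^(n⁻¹)`
  have hw : ∃ w ∈ V, w ≠ 1 ∧ ∃ w' ∈ V, n * c.ι w * n⁻¹ = c.ι w' := by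
    obtain ⟨x, hx, hxa⟩ := Nm_surj c (Nm_Om c hn) (V_le_Om a0_mem_V)
    have hx1 : x ≠ 1 := by
      rintro rfl
      apply a0_ne_one
      apply c.inj
      rw [← hxa, map_one]; group
    by_cases hxV : x ∈ V
    · exact ⟨x, hxV, hx1, a0, a0_mem_V, hxa⟩
    · refine ⟨x * b0, mul_mem_V hx hbOm hxV hbV, ?_, a1, a1_mem_V, ?_⟩
      · intro h1
        apply a1_ne_one
        apply c.inj
        rw [← a0_mul_z0, map_mul, ← hxa, ← hnb, ← conj_map_mul, ← map_mul, h1, map_one]; group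
      · rw [map_mul, conj_map_mul, hxa, hnb, ← map_mul, a0_mul_z0]
  obtain ⟨w, hwV, hw1, w', hw'V, hww⟩ := hw
  have hw'1 : w' ≠ 1 := Nm_ne_one c hw1 hww
  obtain ⟨m, hmJ, -, hmV, hmw⟩ := hSw.toz w hwV hw1
  obtain ⟨m', hm'J, -, hm'V, hm'w⟩ := hSw.toz w' hw'V hw'1
  have hgC : m' * n * m⁻¹ ∈ Cz c := by
    rw [mem_Cz]
    calc m' * n * m⁻¹ * c.ι z0 * (m' * n * m⁻¹)⁻¹
        = m' * (n * (m⁻¹ * c.ι z0 * m) * n⁻¹) * m'⁻¹ := by group
      _ = m' * (n * c.ι w * n⁻¹) * m'⁻¹ := by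
        have : m⁻¹ * c.ι z0 * m = c.ι w := by rw [← hmw]; group
        rw [this]
      _ = c.ι z0 := by rw [hww, hm'w]
  have hgV := hst _ hgC (Nm_mul c (Nm_mul c hm'J hn) (Nm_inv c hmJ))
  have hnV : Nm c V n := by
    have h1 := Nm_mul c (Nm_mul c (Nm_inv c hm'V) hgV) hmV
    have h2 : m'⁻¹ * (m' * n * m⁻¹) * m = n := by group
    rwa [h2] at h1
  obtain ⟨v, hv, hvz⟩ := Nm_surj c hnV z0_mem_V
  have e : b0 = v := c.inj (conj_inj (hnb.trans hvz.symm))
  exact hbV (by rw [e]; exact hv)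

/-- all of `Ω₁(J) - ⟨z⟩` is `C_G(z)`-conjugate to `a` -/
theorem CC_Om [Finite G] (hSw : SwapV c) (hOm : ∀ x ∈ Om, x ≠ 1 → Dz c x) {x : SM} (hx : x ∈ Om)
    (h1 : x ≠ 1) (hz : x ≠ z0) : CC c x a0 := by
  by_cases hV : x ∈ V
  · exact pA c (clA_of_V hV h1 hz)
  · exact (pB c (clB_of hx hV)).mpr (CC_b0 c hSw hOm)

/-- involutions in the same coset of an odd normal subgroup are conjugate -/
theorem Dz_of_coset [Finite G] {N : Subgroup G} (hNo : Odd (Nat.card N)) {s : SM} {t n : G}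
    (hs2 : s * s = 1) (hs1 : s ≠ 1) (ht : orderOf t = 2) (hn : n ∈ N) (h : t = c.ι s * n)
    (hD : ∃ g : G, g * t * g⁻¹ = c.ι z0) : Dz c s := by
  have hs : orderOf (c.ι s) = 2 := by
    apply orderOf_eq_prime
    · rw [pow_two, ← map_mul, hs2, map_one]
    · rw [← map_one c.ι]; exact fun h => hs1 (c.inj h)
  have hst : c.ι s * t = n := by
    rw [h, ← mul_assoc, ← map_mul, hs2, map_one, one_mul]
  have hodd : Odd (orderOf (t * c.ι s)) := by
    have h1 : t * c.ι s = (c.ι s * t)⁻¹ := by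
      rw [mul_inv_rev, TwoFusion.StronglyEmbeddedBasic.inv_eq_self_of_orderOf ht,
        TwoFusion.StronglyEmbeddedBasic.inv_eq_self_of_orderOf hs]
    rw [h1, orderOf_inv, hst]
    exact J2Sylow.Functor.odd_orderOf_of_mem hNo hn
  obtain ⟨k, hk⟩ := hD
  obtain ⟨d, -, -, -, hd⟩ := TwoFusion.StronglyEmbeddedBasic.exists_swap t (c.ι s) ht hs hodd
  refine ⟨k * d, ?_⟩
  calc k * d * c.ι s * (k * d)⁻¹ = k * (d * c.ι s * d⁻¹) * k⁻¹ := by group
    _ = c.ι z0 := by rw [hd, hk]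

theorem not_mem_odd [Finite G] {N : Subgroup G} (hNo : Odd (Nat.card N)) {s : SM}
    (h : c.ι s ∈ N) : s = 1 := by
  have h1 : orderOf (c.ι s) ∣ Nat.card N := N.orderOf_dvd_natCard h
  have h2 : orderOf (c.ι s) = orderOf s := orderOf_injective c.ι c.inj s
  have h3 : orderOf s ∣ 2 ^ 9 := by
    have := orderOf_dvd_natCard s
    rw [card_SM] at this
    norm_num
    exact this
  obtain ⟨k, -, hk⟩ := (Nat.dvd_prime_pow Nat.prime_two).mp h3
  rw [h2, hk] at h1
  have hk0 : k = 0 := by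
    by_contra hk0
    have h4 : 2 ∣ 2 ^ k := dvd_pow_self 2 hk0
    exact (Nat.not_even_iff_odd.mpr hNo) (even_iff_two_dvd.mpr (h4.trans h1))
  rw [hk0, pow_zero, orderOf_eq_one_iff] at hk
  exact hk

/-- strong closure of `B` in `R1` with respect to `C_G(z)` -/
theorem hsc [Finite G] {N : Subgroup G} (hN : ZN c N) {B : Subgroup SM} (hBQ : B ≤ Q)
    (hUB : ∀ x : SM, inU x.1 = true → x ∈ B) (hD : ∀ x ∈ B, x * x = 1 → x ≠ 1 → Dz c x)
    (hR : ∀ x ∈ R1, Dz c x → x ∈ B) : ∀ x ∈ B, ∀ y ∈ R1, CC c x y → y ∈ B := by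
  rintro x hx y hy ⟨g, hg, hxy⟩
  have hgz := (mem_Cz c).mp hg
  have hu0B : u0 ∈ B := hUB u0 (by decide +kernel)
  have hu0zB : u0 * z0 ∈ B := hUB (u0 * z0) (by decide +kernel)
  have hsq : ∀ {v : SM}, x * x = v → g * c.ι v * g⁻¹ = c.ι (y * y) := by
    intro v hv
    rw [← hv, map_mul, conj_map_mul, hxy, map_mul]
  rcases sq_Q (hBQ hx) with h2 | h2
  · by_cases h1 : x = 1
    · have : y = 1 := by
        apply c.inj; rw [← hxy, h1, map_one]; group
      rw [this]; exact B.one_mem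
    · exact hR y hy (Dz_of_conj c (hD x hx h2 h1) hxy)
  · -- `x² = z`
    have hy2 : y * y = z0 := by
      apply c.inj; rw [← hsq h2, hgz]
    have hyu : y * u0 = u0 * y := Subgroup.mem_centralizer_singleton_iff.mp hy
    have hxu : x * u0 = u0 * x :=
      Subgroup.mem_centralizer_singleton_iff.mp (Q_le_R1 (hBQ hx))
    obtain ⟨t, ht⟩ : ∃ t, t = x * u0⁻¹ := ⟨_, rfl⟩
    have htB : t ∈ B := by rw [ht]; exact B.mul_mem hx (B.inv_mem hu0B)
    have ht2 : t * t = 1 := by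
      have h3 : t * t = x * x * (u0 * u0)⁻¹ := by
        have h4 : u0⁻¹ * x = x * u0⁻¹ := by
          rw [inv_mul_eq_iff_eq_mul, ← mul_assoc, ← hxu, mul_inv_cancel_right]
        rw [ht]
        calc x * u0⁻¹ * (x * u0⁻¹) = x * (u0⁻¹ * x) * u0⁻¹ := by group
          _ = x * x * (u0 * u0)⁻¹ := by rw [h4]; group
      rw [h3, h2, u0_sq, mul_inv_cancel]
    -- main claim
    have key : ∀ v : SM, v ∈ B → v * v = z0 → y * v = v * y → ∀ n ∈ N,
        g * c.ι u0 * g⁻¹ = n * c.ι v → y ∈ B := by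
      intro v hv hv2 hyv n hn hgu
      obtain ⟨s, hs⟩ : ∃ s, s = y * v⁻¹ := ⟨_, rfl⟩
      have hs2 : s * s = 1 := by
        have h4 : v⁻¹ * y = y * v⁻¹ := by
          rw [inv_mul_eq_iff_eq_mul, ← mul_assoc, ← hyv, mul_inv_cancel_right]
        have h3 : s * s = y * y * (v * v)⁻¹ := by
          rw [hs]
          calc y * v⁻¹ * (y * v⁻¹) = y * (v⁻¹ * y) * v⁻¹ := by group
            _ = y * y * (v * v)⁻¹ := by rw [h4]; group
        rw [h3, hy2, hv2, mul_inv_cancel]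
      have hys : y = s * v := by rw [hs]; group
      have hgt : g * c.ι t * g⁻¹ = c.ι s * n⁻¹ := by
        rw [ht, map_mul, map_inv]
        calc g * (c.ι x * (c.ι u0)⁻¹) * g⁻¹ = g * c.ι x * g⁻¹ * (g * c.ι u0 * g⁻¹)⁻¹ := by group
          _ = c.ι s * n⁻¹ := by rw [hxy, hgu, hs, map_mul, map_inv]; group
      by_cases ht1 : t = 1
      · have h5 : s = 1 := by
          apply not_mem_odd c hN.odd
          rw [ht1, map_one] at hgt
          have h6 : c.ι s = n := by
            calc c.ι s = c.ι s * n⁻¹ * n := by group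
              _ = n := by rw [← hgt]; group
          rw [h6]; exact hn
        rw [hys, h5, one_mul]; exact hv
      · have htD := hD t htB ht2 ht1
        have ht2' : orderOf (g * c.ι t * g⁻¹) = 2 := by
          rw [TwoFusion.StronglyEmbeddedBasic.orderOf_conj]
          apply orderOf_eq_prime
          · rw [pow_two, ← map_mul, ht2, map_one]
          · rw [← map_one c.ι]; exact fun h => ht1 (c.inj h)
        have hs1 : s ≠ 1 := by
          intro h6
          rw [h6, map_one, one_mul] at hgt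
          have h7 : orderOf (n⁻¹) ∣ Nat.card N := N.orderOf_dvd_natCard (N.inv_mem hn)
          rw [← hgt, ht2'] at h7
          exact (Nat.not_even_iff_odd.mpr hN.odd) (even_iff_two_dvd.mpr h7)
        have hsD : Dz c s := by
          apply Dz_of_coset c hN.odd hs2 hs1 ht2' (N.inv_mem hn) hgt
          obtain ⟨k, hk⟩ := htD
          exact ⟨k * g⁻¹, by rw [← hk]; group⟩
        have hsR : s ∈ R1 := by
          rw [hs]; exact R1.mul_mem hy (R1.inv_mem (Q_le_R1 (hBQ hv)))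
        rw [hys]
        exact B.mul_mem (hR s hsR hsD) hv
    obtain ⟨n, hn, h3 | h3⟩ := hN.mv g hg
    · exact key u0 hu0B u0_sq hyu n hn h3
    · refine key (u0 * z0) hu0zB ?_ ?_ n hn h3
      · calc u0 * z0 * (u0 * z0) = u0 * (z0 * u0) * z0 := by group
          _ = u0 * u0 * (z0 * z0) := by rw [← z0_central]; group
          _ = z0 := by rw [z0_sq, mul_one, u0_sq]
      · calc y * (u0 * z0) = u0 * y * z0 := by rw [← mul_assoc, hyu]
          _ = u0 * z0 * y := by rw [mul_assoc, z0_central, ← mul_assoc]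

end Cfsg.Agent.HSType.Lines
end

-- part: HSType/StrongEmb
section
/-!
# No proper subgroup contains `C_G(z)` and `N_G(J)`  (S1777, step (8b))

`no_M`: if all involutions of `J` are conjugate to `z`, the set `D = z^G` is closed under products of
commuting distinct elements, and `S` contains an involution not conjugate to `z`, then there is no proper
subgroup `M` of `G` containing `C_G(z)` and `N_G(J)` which controls the fusion of `D ∩ S`.
-/

set_option autoImplicit false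
set_option maxHeartbeats 400000

namespace Cfsg.Agent.HSType.StrongEmb

open Cfsg.Agent.HSType.Model Cfsg.Agent.HSType.Facts Cfsg.Agent.HSType.FactsU
  Cfsg.Agent.HSType.FactsJ Cfsg.Agent.HSType.Basic Cfsg.Agent.HSType.Trans
  Cfsg.Agent.HSType.Spec Cfsg.Agent.HSType.JFus

/-! ### model facts -/

/-- the list of the conjugates of `u` in `J` (as a bit mask) -/
def Lmask : Nat := nat_lit 4378484139382884928
def inL (a : Nat) : Bool := Nat.beq (Nat.land (Nat.shiftRight Lmask a) (nat_lit 1)) (nat_lit 1)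

theorem mem_L {x : SM} (hx : x ∈ J) (h1 : x * x ≠ 1) (h2 : ∀ r : SM, r * r ≠ x)
    (h3 : ∀ s : SM, s * (x * x) = (x * x) * s → s * x = x * s ∨ s * x = x⁻¹ * s) :
    inL x.1 = true := by
  have hd : allLT 64 (fun x => orB (inL x) (orB (sqIs x 0) (orB (exLT 512 (fun r => sqIs r x))
    (exLT 512 (fun s => andB (com s (mulN x x)) (beqB false (orB (com s x)
      (Nat.beq (mulN s x) (mulN (invN x) s))))))))) = true := by decide +kernel
  have hlt : x.1 < 64 := Nat.le_of_ble_eq_true hx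
  rcases orB_spec (allLT_spec hd x.1 hlt) with h | h
  · exact h
  rcases orB_spec h with h | h
  · exact absurd (of_sqIs (y := 1) h) h1
  rcases orB_spec h with h | h
  · obtain ⟨r, hr, h4⟩ := exLT_spec h
    exact absurd (of_sqIs (x := ⟨r, hr⟩) h4) (h2 _)
  · obtain ⟨s, hs, h4⟩ := exLT_spec h
    obtain ⟨h5, h6⟩ := andB_spec h4
    have h7 : (⟨s, hs⟩ : SM) * (x * x) = (x * x) * ⟨s, hs⟩ := SM.ext (eq_of_beq h5)
    rcases h3 ⟨s, hs⟩ h7 with h8 | h8
    · have e : com s x.1 = true := com_of (x := ⟨s, hs⟩) h8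
      rw [e] at h6
      exact absurd (beqB_spec h6) Bool.false_ne_true
    · have e1 : mulN s x.1 = mulN (invN x.1) s := congrArg SM.val h8
      have e : Nat.beq (mulN s x.1) (mulN (invN x.1) s) = true := by
        rw [e1]
        exact Nat.beq_refl _
      rw [e] at h6
      revert h6
      cases com s x.1 <;> intro h6 <;> exact absurd (beqB_spec h6) Bool.false_ne_true

theorem exists_ww {y : SM} (h1 : y * y = 1) (hJ : y ∉ J) :
    (∃ w : SM, w ∈ Om ∧ w ≠ 1 ∧ y * w = w * y ∧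
      ∀ x ∈ J, inL x.1 = true → x * x = w → y * x = x * y) ∧
    (∃ w : SM, w ∈ Om ∧ w ≠ 1 ∧ y * w = w * y ∧
      ∀ x ∈ J, inL x.1 = true → x * x = w → y * x = x⁻¹ * y) := by
  have hd : allLT 512 (fun y => imp (sqIs y 0) (orB (inJ y) (andB
    (exLT 64 (fun w => andB (inOm w) (andB (beqB false (Nat.beq w 0)) (andB (com y w)
      (allLT 64 (fun x => imp (inL x) (imp (sqIs x w) (com y x))))))))
    (exLT 64 (fun w => andB (inOm w) (andB (beqB false (Nat.beq w 0)) (andB (com y w)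
      (allLT 64 (fun x => imp (inL x) (imp (sqIs x w)
        (Nat.beq (mulN y x) (mulN (invN x) y))))))))))))  = true := by decide +kernel
  rcases orB_spec (imp_spec (allLT_spec hd y.1 y.2) (sqIs_of (y := 1) h1)) with h | h
  · exact absurd h hJ
  obtain ⟨h2, h3⟩ := andB_spec h
  have hne : ∀ k (hk : k < 512), beqB false (Nat.beq k 0) = true → (⟨k, hk⟩ : SM) ≠ 1 := by
    intro k hk h e
    have e' : Nat.beq k 0 = true := beq_of_eq (x := ⟨k, hk⟩) (y := 1) e
    rw [e'] at h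
    exact Bool.false_ne_true (beqB_spec h)
  constructor
  · obtain ⟨k, hk, h4⟩ := exLT_spec h2
    obtain ⟨h5, h6⟩ := andB_spec h4
    obtain ⟨h7, h8⟩ := andB_spec h6
    obtain ⟨h9, h10⟩ := andB_spec h8
    refine ⟨⟨k, by omega⟩, h5, hne _ _ h7, of_com h9, fun x hx hL hxx => ?_⟩
    have hlt : x.1 < 64 := Nat.le_of_ble_eq_true hx
    exact of_com (imp_spec (imp_spec (allLT_spec h10 x.1 hlt) hL)
      (sqIs_of (y := ⟨k, by omega⟩) hxx))
  · obtain ⟨k, hk, h4⟩ := exLT_spec h3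
    obtain ⟨h5, h6⟩ := andB_spec h4
    obtain ⟨h7, h8⟩ := andB_spec h6
    obtain ⟨h9, h10⟩ := andB_spec h8
    refine ⟨⟨k, by omega⟩, h5, hne _ _ h7, of_com h9, fun x hx hL hxx => ?_⟩
    have hlt : x.1 < 64 := Nat.le_of_ble_eq_true hx
    have h11 := imp_spec (imp_spec (allLT_spec h10 x.1 hlt) hL)
      (sqIs_of (y := ⟨k, by omega⟩) hxx)
    exact SM.ext (eq_of_beq h11)

/-! ### two involutions -/

section Dih

variable {G : Type*} [Group G]

theorem conj_pow_of_mul {a b : G} (ha : a * a = 1) (hb : b * b = 1) (k : ℕ) :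
    a * (a * b) ^ k * a = ((a * b) ^ k)⁻¹ := by
  have h1 : a⁻¹ = a := inv_eq_of_mul_eq_one_right ha
  have h2 : b⁻¹ = b := inv_eq_of_mul_eq_one_right hb
  have h3 : a * (a * b) * a = (a * b)⁻¹ := by
    rw [mul_inv_rev, h1, h2, ← mul_assoc, ha, one_mul]
  calc a * (a * b) ^ k * a = a * (a * b) ^ k * a⁻¹ := by rw [h1]
    _ = (a * (a * b) * a⁻¹) ^ k := conj_pow.symm
    _ = ((a * b)⁻¹) ^ k := by rw [h1, h3]
    _ = ((a * b) ^ k)⁻¹ := inv_pow _ _

/-- `a (ab)^k` is conjugate to `a` or `b` inside any subgroup containing `ab` -/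
theorem mul_pow_conj {a b : G} (ha : a * a = 1) (hb : b * b = 1) (k : ℕ) :
    ∃ l : ℕ, a * (a * b) ^ k = ((a * b) ^ l)⁻¹ * a * (a * b) ^ l ∨
      a * (a * b) ^ k = ((a * b) ^ l)⁻¹ * b * (a * b) ^ l := by
  have h4 : ∀ l : ℕ, a * (a * b) ^ l = ((a * b) ^ l)⁻¹ * a := by
    intro l
    rw [← conj_pow_of_mul ha hb l, mul_assoc (a * (a * b) ^ l), ha, mul_one]
  rcases Nat.even_or_odd' k with ⟨l, rfl | rfl⟩
  · refine ⟨l, Or.inl ?_⟩
    rw [two_mul, pow_add, ← mul_assoc, h4 l]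
  · refine ⟨l, Or.inr ?_⟩
    have h5 : 2 * l + 1 = l + (1 + l) := by omega
    rw [h5, pow_add, pow_add, pow_one, ← mul_assoc, h4 l]
    calc ((a * b) ^ l)⁻¹ * a * (a * b * (a * b) ^ l) =
        ((a * b) ^ l)⁻¹ * (a * a) * b * (a * b) ^ l := by simp only [mul_assoc]
      _ = _ := by rw [ha, mul_one]

end Dih

variable {G : Type*} [Group G] (c : Ctx G)

/-! ### the theorem -/

theorem orderOf_two_of {x : G} (h : x * x = 1) (h1 : x ≠ 1) : orderOf x = 2 :=
  orderOf_eq_prime (by rw [pow_two]; exact h) h1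

theorem conj_sq {g x : G} (h : x * x = 1) : (g * x * g⁻¹) * (g * x * g⁻¹) = 1 := by
  rw [← conj_map_mul, h, mul_one, mul_inv_cancel]

theorem conj_ne {g x : G} (h : x ≠ 1) : g * x * g⁻¹ ≠ 1 := by
  intro e
  exact h (conj_inj (g := g) (by rw [e, mul_one, mul_inv_cancel]))

/-- the conjugates of `z` -/
def DG (x : G) : Prop := ∃ g : G, g * x * g⁻¹ = c.ι z0

theorem DG.conj {x : G} (h : DG c x) (g : G) : DG c (g * x * g⁻¹) := by
  obtain ⟨k, hk⟩ := h
  exact ⟨k * g⁻¹, by rw [← hk]; group⟩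

theorem DG.of_conj {x : G} {g : G} (h : DG c (g * x * g⁻¹)) : DG c x := by
  obtain ⟨k, hk⟩ := h
  exact ⟨k * g, by rw [← hk]; group⟩

theorem DG.sq {x : G} (h : DG c x) : x * x = 1 := by
  obtain ⟨g, hg⟩ := h
  apply conj_inj (g := g)
  rw [conj_map_mul, hg, ← map_mul, z0_sq, map_one, mul_one, mul_inv_cancel]

theorem DG.ne {x : G} (h : DG c x) : x ≠ 1 := by
  rintro rfl
  obtain ⟨g, hg⟩ := h
  rw [mul_one, mul_inv_cancel] at hg
  exact z0_ne_one (c.inj (by rw [← hg, map_one]))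

/-- involutions of a subgroup containing `S` are conjugate into `S` -/
theorem conj_to_S [Finite G] {M : Subgroup G} (hM : c.ι.range ≤ M) {x : G} (hx : x ∈ M)
    (h2 : x * x = 1) : ∃ k ∈ M, ∃ s : SM, c.ι s = k * x * k⁻¹ := by
  have hp : IsPGroup 2 (Subgroup.zpowers x) := by
    intro y
    obtain ⟨k, hk⟩ := y.2
    refine ⟨1, Subtype.ext ?_⟩
    have hk' : x ^ k = (y : G) := hk
    have h3 : ((y ^ 2 ^ 1 : Subgroup.zpowers x) : G) = (y : G) ^ 2 := by norm_num
    rw [h3, ← hk', ← zpow_natCast, ← zpow_mul, mul_comm, zpow_mul, zpow_natCast, pow_two, h2,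
      one_zpow]
    rfl
  obtain ⟨k, hk, h⟩ := c.exists_conj_in hM (P := Subgroup.zpowers x)
    (by rw [Subgroup.zpowers_le]; exact hx) hp
  exact ⟨k, hk, h x (Subgroup.mem_zpowers x)⟩

/-- the setting -/
structure Hyp (M : Subgroup G) : Prop where
  C : Cz c ≤ M
  prod : ∀ d : SM, Dz c d → d ≠ z0 → Dz c (d * z0)
  fus : ∀ d : SM, Dz c d → ∃ m ∈ M, m * c.ι d * m⁻¹ = c.ι z0

namespace Hyp

variable {c} {M : Subgroup G} (h : Hyp c M)

include h

theorem S_le : c.ι.range ≤ M := (range_le_Cz c).trans h.C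

theorem toz [Finite G] {x : G} (hx : x ∈ M) (hD : DG c x) : ∃ m ∈ M, m * x * m⁻¹ = c.ι z0 := by
  obtain ⟨k, hk, s, hs⟩ := conj_to_S c h.S_le hx (DG.sq c hD)
  have h1 : Dz c s := by
    have := DG.conj c hD k
    rw [← hs] at this
    exact this
  obtain ⟨m, hm, hmz⟩ := h.fus s h1
  refine ⟨m * k, M.mul_mem hm hk, ?_⟩
  rw [← hmz, hs]
  group

theorem cent_le [Finite G] {x g : G} (hx : x ∈ M) (hD : DG c x) (hg : g * x = x * g) : g ∈ M := by
  obtain ⟨m, hm, hmz⟩ := h.toz hx hD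
  have h1 : m * g * m⁻¹ ∈ Cz c := by
    rw [mem_Cz, ← hmz]
    calc m * g * m⁻¹ * (m * x * m⁻¹) * (m * g * m⁻¹)⁻¹ = m * (g * x) * g⁻¹ * m⁻¹ := by group
      _ = m * x * m⁻¹ := by rw [hg]; group
  have h2 := M.mul_mem (M.mul_mem (M.inv_mem hm) (h.C h1)) hm
  have h3 : m⁻¹ * (m * g * m⁻¹) * m = g := by group
  rwa [h3] at h2

theorem mem_of_conj [Finite G] {x g : G} (hx : x ∈ M) (hD : DG c x) (hg : g * x * g⁻¹ ∈ M) :
    g ∈ M := by
  obtain ⟨m, hm, hmz⟩ := h.toz hx hD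
  obtain ⟨m', hm', hmz'⟩ := h.toz hg (DG.conj c hD g)
  have h1 : m' * g * m⁻¹ ∈ Cz c := by
    rw [mem_Cz]
    calc m' * g * m⁻¹ * c.ι z0 * (m' * g * m⁻¹)⁻¹ = m' * g * (m⁻¹ * c.ι z0 * m) * g⁻¹ * m'⁻¹ := by
          group
      _ = m' * (g * x * g⁻¹) * m'⁻¹ := by rw [← hmz]; group
      _ = c.ι z0 := hmz'
  have h2 := M.mul_mem (M.mul_mem (M.inv_mem hm') (h.C h1)) hm
  have h3 : m'⁻¹ * (m' * g * m⁻¹) * m = g := by group
  rwa [h3] at h2

/-- (i) products of commuting elements of `D` -/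
theorem prod_mem [Finite G] {x y : G} (hx : DG c x) (hy : DG c y) (hxy : x * y = y * x)
    (hne : x ≠ y) : DG c (x * y) := by
  obtain ⟨g, hg⟩ := hx
  have h1 : g * y * g⁻¹ ∈ Cz c := by
    rw [mem_Cz, ← hg]
    calc g * y * g⁻¹ * (g * x * g⁻¹) * (g * y * g⁻¹)⁻¹ = g * (y * x) * y⁻¹ * g⁻¹ := by group
      _ = g * x * g⁻¹ := by rw [← hxy]; group
  obtain ⟨k, hk, s, hs⟩ := conj_to_S c (range_le_Cz c) h1 (conj_sq (DG.sq c hy))
  have hkz := (mem_Cz c).mp hk
  have hs' : c.ι s = (k * g) * y * (k * g)⁻¹ := by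
    rw [hs]
    group
  have hz' : c.ι z0 = (k * g) * x * (k * g)⁻¹ := by
    rw [← hkz, ← hg]
    group
  have h2 : Dz c s := by
    have := DG.conj c hy (k * g)
    rw [← hs'] at this
    exact this
  have h3 : s ≠ z0 := by
    rintro rfl
    rw [hz'] at hs'
    exact hne (conj_inj hs')
  have h4 : DG c (c.ι (s * z0)) := h.prod s h2 h3
  rw [map_mul, hs', hz', ← conj_map_mul] at h4
  rw [hxy]
  exact DG.of_conj c h4

/-- (ii) fusion in `C_G(y)` when `C_G(y)` is not contained in `M` -/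
theorem fusion [Finite G] {y g : G} (hg : g ∉ M) (hgy : g * y = y * g)
    {x x' : G} (hx : x ∈ M) (hxD : DG c x) (hxy : x * y = y * x)
    (hx' : x' ∈ M) (hxD' : DG c x') (hxy' : x' * y = y * x') :
    ∃ k : G, k * y = y * k ∧ k * x * k⁻¹ = x' := by
  -- key: an element of `D ∩ X ∩ M` is conjugate in `X` to an element of `D ∩ X - M`
  have key : ∀ a b : G, a ∈ M → DG c a → a * y = y * a → b ∉ M → DG c b → b * y = y * b →
      ∃ k : G, k * y = y * k ∧ k * a * k⁻¹ = b := by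
    intro a b ha haD hay hb hbD hby
    have ha2 := DG.sq c haD
    have hb2 := DG.sq c hbD
    have hab : orderOf (a * b) ≠ 0 := (orderOf_pos _).ne'
    have hyab : ∀ k : ℕ, (a * b) ^ k * y = y * (a * b) ^ k := by
      intro k
      have h1 : Commute (a * b) y := by
        change a * b * y = y * (a * b)
        rw [mul_assoc, hby, ← mul_assoc, hay, mul_assoc]
      exact (h1.pow_left k).eq
    by_cases hodd : Odd (orderOf (a * b))
    · obtain ⟨k, hk⟩ := hodd
      -- `b = a (ab) = a (ab)^{2(k+1)}`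
      have h1 : b = a * (a * b) ^ (2 * (k + 1)) := by
        have h2 : 2 * (k + 1) = orderOf (a * b) + 1 := by omega
        rw [h2, pow_succ, pow_orderOf_eq_one, one_mul, ← mul_assoc, ha2, one_mul]
      have h4 : a * (a * b) ^ (k + 1) = ((a * b) ^ (k + 1))⁻¹ * a := by
        rw [← conj_pow_of_mul ha2 hb2 (k + 1), mul_assoc (a * (a * b) ^ (k + 1)), ha2, mul_one]
      refine ⟨((a * b) ^ (k + 1))⁻¹, ?_, ?_⟩
      · have h5 : Commute ((a * b) ^ (k + 1)) y := hyab _
        exact h5.inv_left.eq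
      · rw [inv_inv]
        conv_rhs => rw [h1]
        generalize k + 1 = n at h4 ⊢
        rw [two_mul, pow_add, ← mul_assoc, h4]
    · exfalso
      rw [Nat.not_odd_iff_even] at hodd
      obtain ⟨k, hk⟩ := hodd
      set i : G := (a * b) ^ k with hi
      have hi2 : i * i = 1 := by rw [hi, ← pow_add, ← hk, pow_orderOf_eq_one]
      have hi1 : i ≠ 1 := by
        intro e
        have h1 := Nat.le_of_dvd (by omega) (orderOf_dvd_of_pow_eq_one e)
        omega
      have hii : i⁻¹ = i := inv_eq_of_mul_eq_one_right hi2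
      have hai : a * i = i * a := by
        have h1 : a * i * a = i⁻¹ := conj_pow_of_mul ha2 hb2 k
        rw [hii] at h1
        calc a * i = a * i * (a * a) := by rw [ha2, mul_one]
          _ = a * i * a * a := by group
          _ = i * a := by rw [h1]
      have hri : (a * b) * i = i * (a * b) := by
        rw [hi, ← pow_succ, ← pow_succ']
      have hbi : b * i = i * b := by
        have h1 : b = a * (a * b) := by rw [← mul_assoc, ha2, one_mul]
        calc b * i = a * ((a * b) * i) := by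
              conv_lhs => rw [h1]
              group
          _ = a * i * (a * b) := by rw [hri, mul_assoc]
          _ = i * b := by rw [hai, mul_assoc, ← h1]
      have haiD : DG c (a * i) := by
        obtain ⟨l, h1 | h1⟩ := mul_pow_conj ha2 hb2 k
        · rw [hi, h1]
          have := DG.conj c haD ((a * b) ^ l)⁻¹
          rwa [inv_inv] at this
        · rw [hi, h1]
          have := DG.conj c hbD ((a * b) ^ l)⁻¹
          rwa [inv_inv] at this
      have hiD : DG c i := by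
        have h1 := h.prod_mem haD haiD (by rw [mul_assoc, hai]) (by
          intro e
          have : a * 1 = a * i := by rw [mul_one]; exact e
          exact hi1 (mul_left_cancel this).symm)
        rwa [← mul_assoc, ha2, one_mul] at h1
      have hiM : i ∈ M := h.cent_le ha haD hai.symm
      exact hb (h.cent_le hiM hiD hbi)
  have hb : g * x * g⁻¹ ∉ M := fun e => hg (h.mem_of_conj hx hxD e)
  have hbD := DG.conj c hxD g
  have hby : g * x * g⁻¹ * y = y * (g * x * g⁻¹) := by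
    have h1 : Commute g y := hgy
    have h2 : Commute x y := hxy
    exact ((h1.mul_left h2).mul_left h1.inv_left).eq
  obtain ⟨k, hk, hkx⟩ := key x _ hx hxD hxy hb hbD hby
  obtain ⟨l, hl, hlx⟩ := key x' _ hx' hxD' hxy' hb hbD hby
  refine ⟨l⁻¹ * k, ?_, ?_⟩
  · have h1 : Commute l y := hl
    have h2 : Commute k y := hk
    exact (h1.inv_left.mul_left h2).eq
  · calc l⁻¹ * k * x * (l⁻¹ * k)⁻¹ = l⁻¹ * (k * x * k⁻¹) * l := by group
      _ = x' := by rw [hkx, ← hlx]; group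

end Hyp

/-- `n⁻¹ u n` for `n ∈ N_G(J)` moving `w` to `z` -/
theorem exists_x [Finite G] (hU : IsolU c) {w : SM} {n : G} (hnJ : Nm c J n)
    (hn : n * c.ι w * n⁻¹ = c.ι z0) :
    ∃ x ∈ J, n * c.ι x * n⁻¹ = c.ι u0 ∧ x * x = w ∧ inL x.1 = true := by
  have hu0J : u0 ∈ J := by
    show inJ 37 = true
    decide +kernel
  obtain ⟨x, hx, hxu⟩ := Nm_surj c hnJ hu0J
  have hxx : x * x = w := by
    apply c.inj
    apply conj_inj (g := n)
    rw [map_mul, conj_map_mul, hxu, ← map_mul, u0_sq, hn]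
  refine ⟨x, hx, hxu, hxx, mem_L hx ?_ ?_ ?_⟩
  · rw [hxx]
    rintro rfl
    rw [map_one, mul_one, mul_inv_cancel] at hn
    exact z0_ne_one (c.inj (by rw [← hn, map_one]))
  · -- no square root
    intro r hr
    have hP : IsPGroup 2 (((Subgroup.zpowers r).map c.ι).map (MulAut.conj n).toMonoidHom) :=
      (c.isPGroup_map _).map _
    have hrx : r * x = x * r := by rw [← hr, mul_assoc]
    have hPK : ((Subgroup.zpowers r).map c.ι).map (MulAut.conj n).toMonoidHom ≤
        Subgroup.centralizer {c.ι u0} := by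
      rintro _ ⟨_, ⟨_, ⟨k, rfl⟩, rfl⟩, rfl⟩
      rw [Subgroup.mem_centralizer_singleton_iff, ← hxu]
      show n * c.ι (r ^ k) * n⁻¹ * (n * c.ι x * n⁻¹) = n * c.ι x * n⁻¹ * (n * c.ι (r ^ k) * n⁻¹)
      have h1 : Commute (r ^ k) x := Commute.zpow_left hrx k
      rw [← conj_map_mul, ← conj_map_mul, ← map_mul, ← map_mul, h1.eq]
    have hR1K : R1.map c.ι ≤ Subgroup.centralizer {c.ι u0} := by
      rintro _ ⟨x, hx, rfl⟩
      rw [Subgroup.mem_centralizer_singleton_iff, ← map_mul, ← map_mul]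
      have h := Subgroup.mem_centralizer_singleton_iff.mp hx
      rw [h]
    obtain ⟨k, hk, hkP⟩ := rel_sylow hR1K (c.isPGroup_map R1) (UFusion.u_sylow c) hPK hP
    obtain ⟨y, hy, hyk⟩ := hkP (n * c.ι r * n⁻¹)
      ⟨c.ι r, ⟨r, Subgroup.mem_zpowers r, rfl⟩, rfl⟩
    apply no_sqrt_u0 y
    apply c.inj
    have h2 : k * c.ι u0 * k⁻¹ = c.ι u0 := by
      have h := Subgroup.mem_centralizer_singleton_iff.mp hk
      rw [h, mul_inv_cancel_right]
    rw [map_mul, hyk, ← conj_map_mul, ← conj_map_mul, ← map_mul, hr, hxu, h2]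
  · intro s hs
    rw [hxx] at hs
    have h1 : n * c.ι s * n⁻¹ ∈ Cz c := by
      rw [mem_Cz, ← hn]
      calc n * c.ι s * n⁻¹ * (n * c.ι w * n⁻¹) * (n * c.ι s * n⁻¹)⁻¹ =
          n * (c.ι s * c.ι w) * (c.ι s)⁻¹ * n⁻¹ := by group
        _ = n * c.ι w * n⁻¹ := by rw [← map_mul, hs, map_mul]; group
    have h2 : Nm c J (n * c.ι s * n⁻¹) := Nm_mul c (Nm_mul c hnJ (Nm_J_SM c s)) (Nm_inv c hnJ)
    obtain ⟨v, -, hv⟩ := h2 u0 hu0J
    have h3 : n * c.ι s * n⁻¹ * c.ι u0 * (n * c.ι s * n⁻¹)⁻¹ = n * c.ι (s * x * s⁻¹) * n⁻¹ := by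
      rw [← hxu, map_mul, map_mul, map_inv]
      group
    have hxi : n * c.ι x⁻¹ * n⁻¹ = c.ι (u0 * z0) := by
      rw [← u0_inv, map_inv, map_inv, ← hxu]
      group
    rcases hU _ h1 v hv with rfl | rfl
    · left
      have h4 : s * x * s⁻¹ = x := by
        apply c.inj
        apply conj_inj (g := n)
        rw [← h3, hv, hxu]
      rwa [mul_inv_eq_iff_eq_mul] at h4
    · right
      have h4 : s * x * s⁻¹ = x⁻¹ := by
        apply c.inj
        apply conj_inj (g := n)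
        rw [← h3, hv, hxi]
      rwa [mul_inv_eq_iff_eq_mul] at h4

theorem z0_notMem_of_odd [Finite G] {N : Subgroup G} (hN : Odd (Nat.card N)) : c.ι z0 ∉ N := by
  intro h
  refine TwoFusion.StronglyEmbeddedBasic.not_odd_of_mem N (c.ι z0) h ?_ hN
  apply orderOf_two_of
  · rw [← map_mul, z0_sq, map_one]
  · intro e
    exact z0_ne_one (c.inj (by rw [e, map_one]))

set_option linter.unusedVariables false in
/-- **(8b)** -/
theorem no_M [Finite G] (hU : IsolU c) {N : Subgroup G} (hN : ZN c N)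
    (hOm : ∀ w ∈ Om, w ≠ 1 → Dz c w) (hprod : ∀ d : SM, Dz c d → d ≠ z0 → Dz c (d * z0))
    (hf : ∃ t : SM, t * t = 1 ∧ t ≠ 1 ∧ ¬ Dz c t)
    (M : Subgroup G) (hM : M ≠ ⊤) (hC : Cz c ≤ M) (hJ : ∀ g, Nm c J g → g ∈ M)
    (hfus : ∀ d : SM, Dz c d → ∃ m ∈ M, m * c.ι d * m⁻¹ = c.ι z0) : False := by
  have h : Hyp c M := ⟨hC, hprod, hfus⟩
  have hSM : ∀ s : SM, c.ι s ∈ M := fun s => h.S_le ⟨s, rfl⟩
  -- centralizers of involutions of `S` lie in `M`
  have hcent : ∀ y : SM, y * y = 1 → y ≠ 1 → ∀ g : G, g * c.ι y = c.ι y * g → g ∈ M := by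
    intro y hy hy1 g hg
    by_cases hyD : Dz c y
    · exact h.cent_le (hSM y) hyD hg
    by_contra hgM
    have hyJ : y ∉ J := by
      intro hyJ
      exact hyD (hOm y (mem_Om_iff.mpr ⟨hyJ, hy⟩) hy1)
    obtain ⟨⟨w, hw, hw1, hyw, hA⟩, w', hw', hw1', hyw', hB⟩ := exists_ww hy hyJ
    have hz0J : z0 ∈ J := V_le_J z0_mem_V
    obtain ⟨g1, hg1⟩ := hOm w hw hw1
    obtain ⟨n, hnJ, hn, -⟩ := burnside_J c (mem_Om_iff.mp hw).1 hz0J hg1
    obtain ⟨g2, hg2⟩ := hOm w' hw' hw1'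
    obtain ⟨n', hnJ', hn', -⟩ := burnside_J c (mem_Om_iff.mp hw').1 hz0J hg2
    obtain ⟨x, hx, hxu, hxx, hxL⟩ := exists_x c hU hnJ hn
    obtain ⟨x', hx', hxu', hxx', hxL'⟩ := exists_x c hU hnJ' hn'
    have hyx : c.ι y * c.ι x = c.ι x * c.ι y := by
      rw [← map_mul, hA x hx hxL hxx, map_mul]
    have hyx' : c.ι y * c.ι x' = (c.ι x')⁻¹ * c.ι y := by
      rw [← map_mul, hB x' hx' hxL' hxx', map_mul, map_inv]
    obtain ⟨k, hk, hkw⟩ := h.fusion hgM hg (hSM w) (hOm w hw hw1)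
      (by rw [← map_mul, ← map_mul, hyw]) (hSM w') (hOm w' hw' hw1')
      (by rw [← map_mul, ← map_mul, hyw'])
    -- `e = n' k n⁻¹ ∈ C_G(z)`
    set e : G := n' * k * n⁻¹ with he
    have heC : e ∈ Cz c := by
      rw [mem_Cz]
      calc e * c.ι z0 * e⁻¹ = n' * k * (n⁻¹ * c.ι z0 * n) * k⁻¹ * n'⁻¹ := by rw [he]; group
        _ = n' * (k * c.ι w * k⁻¹) * n'⁻¹ := by rw [← hn]; group
        _ = c.ι z0 := by rw [hkw, hn']
    set Y : G := n * c.ι y * n⁻¹ with hY
    set Y' : G := n' * c.ι y * n'⁻¹ with hY'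
    have heY : e * Y * e⁻¹ = Y' := by
      calc e * Y * e⁻¹ = n' * (k * c.ι y) * k⁻¹ * n'⁻¹ := by rw [he, hY]; group
        _ = Y' := by rw [hk, hY']; group
    have hYu : Y * c.ι u0 = c.ι u0 * Y := by
      rw [hY, ← hxu, ← conj_map_mul, ← conj_map_mul, hyx]
    have hYu' : Y' * c.ι u0 * Y'⁻¹ = (c.ι u0)⁻¹ := by
      rw [hY', ← hxu']
      calc n' * c.ι y * n'⁻¹ * (n' * c.ι x' * n'⁻¹) * (n' * c.ι y * n'⁻¹)⁻¹ =
          n' * (c.ι y * c.ι x') * (c.ι y)⁻¹ * n'⁻¹ := by group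
        _ = (n' * c.ι x' * n'⁻¹)⁻¹ := by rw [hyx']; group
    have hYC' : Y' ∈ Cz c := by
      rw [mem_Cz, ← hn']
      have h1 : c.ι y * c.ι w' = c.ι w' * c.ι y := by rw [← map_mul, hyw', map_mul]
      calc Y' * (n' * c.ι w' * n'⁻¹) * Y'⁻¹ = n' * (c.ι y * c.ι w') * (c.ι y)⁻¹ * n'⁻¹ := by
            rw [hY']; group
        _ = n' * c.ι w' * n'⁻¹ := by rw [h1]; group
    have hYe : Y' * (e * c.ι u0 * e⁻¹) * Y'⁻¹ = e * c.ι u0 * e⁻¹ := by
      rw [← heY]
      calc e * Y * e⁻¹ * (e * c.ι u0 * e⁻¹) * (e * Y * e⁻¹)⁻¹ = e * (Y * c.ι u0) * Y⁻¹ * e⁻¹ := by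
            group
        _ = e * c.ι u0 * e⁻¹ := by rw [hYu]; group
    have hui : (c.ι u0)⁻¹ = c.ι u0 * c.ι z0 := by rw [← map_inv, u0_inv, map_mul]
    have huz : c.ι u0 * c.ι z0 = c.ι z0 * c.ι u0 := by rw [← map_mul, z0_central, map_mul]
    have hzz : c.ι z0 * c.ι z0 = 1 := by rw [← map_mul, z0_sq, map_one]
    have hYz : Y' * c.ι z0 * Y'⁻¹ = c.ι z0 := (mem_Cz c).mp hYC'
    obtain ⟨ν, hν, h1⟩ := hN.mv e heC
    have hν' := hN.norm Y' hYC' ν hν
    -- in both cases `Y' ν Y'⁻¹ * z = ν`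
    have h2 : Y' * ν * Y'⁻¹ * c.ι z0 = ν := by
      rcases h1 with h1 | h1
      · rw [h1, conj_map_mul, hYu', hui, huz, ← mul_assoc] at hYe
        exact mul_right_cancel hYe
      · rw [h1, map_mul, conj_map_mul, conj_map_mul, hYu', hYz, hui, mul_assoc (c.ι u0), hzz,
          mul_one, huz, ← mul_assoc] at hYe
        have h3 := mul_right_cancel hYe
        rw [h3, mul_assoc, hzz, mul_one]
    apply z0_notMem_of_odd c hN.odd
    have h3 : c.ι z0 = (Y' * ν * Y'⁻¹)⁻¹ * ν := by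
      rw [eq_inv_mul_iff_mul_eq]
      exact h2
    rw [h3]
    exact N.mul_mem (N.inv_mem hν') hν
  have hcent' : ∀ i : G, i ∈ M → i * i = 1 → i ≠ 1 → ∀ g : G, g * i = i * g → g ∈ M := by
    intro i hi hi2 hi1 g hg
    obtain ⟨k, hk, s, hs⟩ := conj_to_S c h.S_le hi hi2
    have h1 : k * g * k⁻¹ ∈ M := by
      apply hcent s
      · apply c.inj
        rw [map_mul, hs, conj_sq hi2, map_one]
      · rintro rfl
        rw [map_one] at hs
        exact conj_ne hi1 hs.symm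
      · rw [hs, ← conj_map_mul, ← conj_map_mul, hg]
    have h2 := M.mul_mem (M.mul_mem (M.inv_mem hk) h1) hk
    have h3 : k⁻¹ * (k * g * k⁻¹) * k = g := by group
    rwa [h3] at h2
  -- final contradiction
  obtain ⟨t, ht2, ht1, htD⟩ := hf
  obtain ⟨g, hg⟩ : ∃ g, g ∉ M := by
    by_contra hcon
    push Not at hcon
    exact hM ((Subgroup.eq_top_iff' M).mpr hcon)
  have hzD : DG c (c.ι z0) := ⟨1, by group⟩
  have hx' : g * c.ι z0 * g⁻¹ ∉ M := fun e => hg (h.mem_of_conj (hSM z0) hzD e)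
  have hxD := DG.conj c hzD g
  have ht2' : c.ι t * c.ι t = 1 := by rw [← map_mul, ht2, map_one]
  have ht1' : c.ι t ≠ 1 := fun e => ht1 (c.inj (by rw [e, map_one]))
  have hto := orderOf_two_of ht2' ht1'
  have hxo := orderOf_two_of (DG.sq c hxD) (DG.ne c hxD)
  by_cases hodd : Odd (orderOf (c.ι t * (g * c.ι z0 * g⁻¹)))
  · obtain ⟨j, -, -, hj, -⟩ := TwoFusion.StronglyEmbeddedBasic.exists_swap _ _ hto hxo hodd
    apply htD
    have h1 : DG c (j * c.ι t * j⁻¹) := by rw [hj]; exact hxD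
    exact DG.of_conj c h1
  · obtain ⟨i, -, hi2, hit, hix⟩ := TwoFusion.StronglyEmbeddedBasic.exists_commuting_involution _ _
      hto hxo (orderOf_pos _) hodd
    have hi2' := TwoFusion.StronglyEmbeddedBasic.mul_self_of_orderOf hi2
    have hi1 : i ≠ 1 := by
      rintro rfl
      rw [orderOf_one] at hi2
      omega
    have hiM : i ∈ M := hcent t ht2 ht1 i hit.eq
    exact hx' (hcent' i hiM hi2' hi1 _ hix.eq.symm)

end Cfsg.Agent.HSType.StrongEmb
end

-- part: HSType/Glue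
section
/-!
# Glue: the two cases `z^G ∩ S = Ω₁(J) - 1` (impossible) and `Q`
-/

set_option autoImplicit false
set_option linter.style.haveILetI false

namespace Cfsg.Agent.HSType.Glue

open Cfsg.Agent.HSType.Model Cfsg.Agent.HSType.Facts Cfsg.Agent.HSType.FactsU
  Cfsg.Agent.HSType.FactsJ Cfsg.Agent.HSType.FactsI Cfsg.Agent.HSType.Spec
  Cfsg.Agent.HSType.Basic Cfsg.Agent.HSType.Trans Cfsg.Agent.HSType.JFus
  Cfsg.Agent.HSType.InvFusion Cfsg.Agent.HSType.Inv5 Cfsg.Agent.HSType.Inv5b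
  Cfsg.Agent.HSType.Simple Cfsg.Agent.HSType.Lines

variable {G : Type*} [Group G] (c : Ctx G)

/-- the conclusion of the analysis of the cores -/
structure CoreData (M W : Subgroup G) : Prop where
  odd : Odd (Nat.card W)
  core : ∀ N : Subgroup G, N ≤ Cz c → Odd (Nat.card N) → (∀ g ∈ Cz c, ∀ n ∈ N, g * n * g⁻¹ ∈ N) →
    N ≤ W
  normC : ∀ g ∈ Cz c, ∀ w ∈ W, g * w * g⁻¹ ∈ W
  normJ : ∀ g, Nm c J g → ∀ w ∈ W, g * w * g⁻¹ ∈ W
  le : M ≤ W

theorem hprod [Finite G] (d : SM) (hd : Dz c d) (hz : d ≠ z0) : Dz c (d * z0) := by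
  obtain ⟨h2, h1⟩ := inv_of_Dz c hd
  obtain ⟨s, hs⟩ := smul_z h2 h1 hz
  rw [← hs]; exact Dz_smul c hd

theorem hf (hU : IsolU c) [Finite G] : ∃ t : SM, t * t = 1 ∧ t ≠ 1 ∧ ¬ Dz c t :=
  ⟨f0, f0_inv, fun h => f0_J (by rw [h]; exact J.one_mem), not_Dz_f0 c hU⟩

/-- a proper nontrivial subgroup normalized by `C_G(z)` and `N_G(J)` -/
theorem no_X [Finite G] [IsSimpleGroup G] (hU : IsolU c) {N : Subgroup G} (hN : ZN c N)
    (hOm : ∀ w ∈ Om, w ≠ 1 → Dz c w)
    (hfus : ∀ d : SM, Dz c d → ∃ m n : G, m ∈ Cz c ∧ Nm c J n ∧ ∃ e : SM, ∃ k : G, Nm c J k ∧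
      k * c.ι d * k⁻¹ = c.ι e ∧ (n * m) * c.ι e * (n * m)⁻¹ = c.ι z0)
    (X : Subgroup G) (hX : X ≠ ⊥) (hX' : X ≠ ⊤)
    (hC : ∀ g ∈ Cz c, ∀ w ∈ X, g * w * g⁻¹ ∈ X) (hJ : ∀ g, Nm c J g → ∀ w ∈ X, g * w * g⁻¹ ∈ X) :
    False := by
  set M := Subgroup.normalizer (X : Set G) with hM
  have hCM : Cz c ≤ M := fun g hg => mem_normalizer_of_forall (hC g hg)
  have hJM : ∀ g, Nm c J g → g ∈ M := fun g hg => mem_normalizer_of_forall (hJ g hg)
  have hMt : M ≠ ⊤ := by
    intro h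
    have hn : X.Normal := Subgroup.normalizer_eq_top_iff.mp h
    rcases hn.eq_bot_or_eq_top with h1 | h1
    · exact hX h1
    · exact hX' h1
  refine StrongEmb.no_M c hU hN hOm (hprod c) (hf c hU) M hMt hCM hJM ?_
  intro d hd
  obtain ⟨m, n, hm, hn, e, k, hk, hde, hez⟩ := hfus d hd
  refine ⟨n * m * k, M.mul_mem (M.mul_mem (hJM n hn) (hCM hm)) (hJM k hk), ?_⟩
  calc n * m * k * c.ι d * (n * m * k)⁻¹ = n * m * (k * c.ι d * k⁻¹) * (n * m)⁻¹ := by group
    _ = c.ι z0 := by rw [hde, hez]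

theorem Nm_one (X : Subgroup SM) : Nm c X 1 := fun x hx => ⟨x, hx, by group⟩

/-- fusion to `z` of an element `C_G(z)`-conjugate to `a` -/
theorem fus_of_CC [Finite G] (hSw : SwapV c) {d : SM} (h : d = z0 ∨ CC c d a0) :
    ∃ m n : G, m ∈ Cz c ∧ Nm c J n ∧ (n * m) * c.ι d * (n * m)⁻¹ = c.ι z0 := by
  rcases h with rfl | ⟨m, hm, hma⟩
  · exact ⟨1, 1, (Cz c).one_mem, Nm_one c J, by group⟩
  · obtain ⟨n, hn, -, -, hna⟩ := hSw.toz a0 a0_mem_V a0_ne_one
    refine ⟨m, n, hm, hn, ?_⟩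
    calc n * m * c.ι d * (n * m)⁻¹ = n * (m * c.ι d * m⁻¹) * n⁻¹ := by group
      _ = c.ι z0 := by rw [hma, hna]

include c in
theorem ne_top_of_odd [Finite G] {W : Subgroup G} (h : Odd (Nat.card W)) : W ≠ ⊤ := by
  rintro rfl
  rw [Subgroup.card_top] at h
  exact (Nat.not_even_iff_odd.mpr h) (even_card c)

theorem OmU_spec {x : SM} (hx : x ∈ OmU) : x ∈ J := by
  have hd : allLT 512 (fun a => imp (andB (inQ a) (inQ' a)) (inJ a)) = true := by decide +kernel
  exact imp_spec (allLT_spec hd x.1 x.2) (andB_intro hx.1 hx.2)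

/-- the case `z^G ∩ S = Ω₁(J) - 1` is impossible -/
theorem not_Om [Finite G] [IsSimpleGroup G] (hU : IsolU c) {N : Subgroup G} (hN : ZN c N)
    (h1 : ∀ x : SM, Dz c x → x ∈ Om) (h2 : ∀ x ∈ Om, x ≠ 1 → Dz c x)
    {N' : Subgroup G} (hBN : BN c OmU N') {M W : Subgroup G} (hW : CoreData c M W) : False := by
  have hSw := swapV c (Dz_a0 c)
  have hfus : ∀ d : SM, Dz c d → ∃ m n : G, m ∈ Cz c ∧ Nm c J n ∧ ∃ e : SM, ∃ k : G, Nm c J k ∧
      k * c.ι d * k⁻¹ = c.ι e ∧ (n * m) * c.ι e * (n * m)⁻¹ = c.ι z0 := by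
    intro d hd
    have hdOm := h1 d hd
    have hd1 := (inv_of_Dz c hd).2
    obtain ⟨m, n, hm, hn, h⟩ := fus_of_CC c hSw (d := d) (by
      by_cases hz : d = z0
      · exact Or.inl hz
      · exact Or.inr (CC_Om c hSw h2 hdOm hd1 hz))
    exact ⟨m, n, hm, hn, d, 1, Nm_one c J, by group, h⟩
  by_cases hWb : W = ⊥
  · have hN' : N' = ⊥ := by
      rw [eq_bot_iff, ← hWb]; exact hW.core N' hBN.le hBN.odd hBN.norm
    refine no_X c hU hN h2 hfus (Om.map c.ι) ?_ ?_ ?_ ?_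
    · intro h
      have h3 : c.ι z0 ∈ Om.map c.ι := Subgroup.mem_map_of_mem _ (V_le_Om z0_mem_V)
      rw [h, Subgroup.mem_bot, ← map_one c.ι] at h3
      exact z0_ne_one (c.inj h3)
    · intro h
      have h3 : c.ι u0 ∈ Om.map c.ι := by rw [h]; trivial
      obtain ⟨x, hx, hxu⟩ := h3
      have e : x = u0 := c.inj hxu
      have h4 := (mem_Om_iff.mp hx).2
      rw [e, u0_sq] at h4
      exact z0_ne_one h4
    · rintro g hg _ ⟨x, hx, rfl⟩
      obtain ⟨n, hn, y, hy, hxy⟩ := hBN.mv g hg x ⟨(Om_le_Q hx).1, (Om_le_Q hx).2⟩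
      rw [hN', Subgroup.mem_bot] at hn
      rw [hn, one_mul] at hxy
      rw [hxy]
      apply Subgroup.mem_map_of_mem
      rw [mem_Om_iff]
      refine ⟨OmU_spec hy, ?_⟩
      apply c.inj
      rw [map_mul, ← hxy, ← conj_map_mul, ← map_mul, (mem_Om_iff.mp hx).2, map_one]; group
    · rintro g hg _ ⟨x, hx, rfl⟩
      obtain ⟨y, hy, hxy⟩ := Nm_Om c hg x hx
      rw [hxy]; exact Subgroup.mem_map_of_mem _ hy
  · exact no_X c hU hN h2 hfus W hWb (ne_top_of_odd c hW.odd) hW.normC hW.normJ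

/-- in the case `Q` the cores are trivial -/
theorem W_eq_bot [Finite G] [IsSimpleGroup G] (hU : IsolU c) {N : Subgroup G} (hN : ZN c N)
    (h1 : ∀ x ∈ Q, x * x = 1 → x ≠ 1 → x ≠ z0 → CC c x a0) (h2 : ∀ x ∈ R1, Dz c x → x ∈ Q)
    {M W : Subgroup G} (hW : CoreData c M W) : W = ⊥ := by
  have ha := Dz_a0 c
  have hSw := swapV c ha
  have hOm : ∀ x ∈ Om, x ≠ 1 → Dz c x := by
    intro x hx hx1
    by_cases hz : x = z0
    · rw [hz]; exact Dz_z0 c
    · exact Dz_of_CC c (h1 x (Om_le_Q hx).1 (mem_Om_iff.mp hx).2 hx1 hz) ha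
  have hR1 : ∀ x ∈ R1, Dz c x → x = z0 ∨ CC c x a0 := by
    intro x hx hxD
    by_cases hz : x = z0
    · exact Or.inl hz
    · exact Or.inr (h1 x (h2 x hx hxD) (inv_of_Dz c hxD).1 (inv_of_Dz c hxD).2 hz)
  by_contra hWb
  refine no_X c hU hN hOm ?_ W hWb (ne_top_of_odd c hW.odd) hW.normC hW.normJ
  intro d hd
  rcases inv_cases (inv_of_Dz c hd).1 with h | h
  · obtain ⟨m, n, hm, hn, h3⟩ := fus_of_CC c hSw (hR1 d h hd)
    exact ⟨m, n, hm, hn, d, 1, Nm_one c J, by group, h3⟩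
  · obtain ⟨k, hk, y, hyR, -, hdy⟩ := into_R1 c hSw h
    obtain ⟨m, n, hm, hn, h3⟩ := fus_of_CC c hSw (hR1 y hyR (Dz_of_conj c hd hdy))
    exact ⟨m, n, hm, hn, y, k, hk, hdy, h3⟩

end Cfsg.Agent.HSType.Glue
end

-- part: HSType/Out
section
/-!
# Output of the analysis: the structure of `C_G(z)` as `SymplHS.HSData`
-/

set_option autoImplicit false
set_option linter.style.haveILetI false

namespace Cfsg.Agent.HSType.Out

open Cfsg.Agent.HSType.Model Cfsg.Agent.HSType.Facts Cfsg.Agent.HSType.FactsU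
  Cfsg.Agent.HSType.FactsJ Cfsg.Agent.HSType.FactsI Cfsg.Agent.HSType.Spec
  Cfsg.Agent.HSType.Basic Cfsg.Agent.HSType.Trans Cfsg.Agent.HSType.JFus
  Cfsg.Agent.HSType.InvFusion Cfsg.Agent.HSType.Inv5 Cfsg.Agent.HSType.Inv5b
  Cfsg.Agent.HSType.Simple Cfsg.Agent.HSType.Lines Cfsg.Agent.HSType.Glue

section General

variable {G : Type*} [Group G]

/-- orbit-stabilizer for conjugation by a subgroup -/
theorem card_eq_orbit_mul (H : Subgroup G) (x : G) :
    Nat.card H = Nat.card {y : G // ∃ h ∈ H, h * x * h⁻¹ = y} *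
      Nat.card (H ⊓ Subgroup.centralizer {x} : Subgroup G) := by
  letI : MulAction H G := MulAction.compHom G ((MulAut.conj (G := G)).comp H.subtype)
  have hsm : ∀ (h : H) (y : G), h • y = (h : G) * y * (h : G)⁻¹ := fun _ _ => rfl
  have h1 := Nat.card_congr (MulAction.orbitProdStabilizerEquivGroup H x)
  rw [Nat.card_prod] at h1
  rw [← h1]
  congr 1
  · apply Nat.card_congr
    apply Equiv.subtypeEquivRight
    intro y
    constructor
    · rintro ⟨h, hh⟩
      exact ⟨h, h.2, hh⟩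
    · rintro ⟨h, hH, hh⟩
      exact ⟨⟨h, hH⟩, hh⟩
  · apply Nat.card_congr
    refine ⟨fun h => ⟨h.1, h.1.2, ?_⟩, fun h => ⟨⟨h.1, h.2.1⟩, ?_⟩, fun _ => rfl, fun _ => rfl⟩
    · show (h.1 : G) ∈ Subgroup.centralizer {x}
      rw [Subgroup.mem_centralizer_singleton_iff]
      have h2 : (h.1 : G) * x * (h.1 : G)⁻¹ = x := h.2
      rwa [mul_inv_eq_iff_eq_mul] at h2
    · show (h.1 : G) * x * (h.1 : G)⁻¹ = x
      rw [mul_inv_eq_iff_eq_mul]
      exact Subgroup.mem_centralizer_singleton_iff.mp h.2.2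

end General

variable {G : Type*} [Group G] (c : Ctx G)

theorem ne_of_notB {x y : SM} (h : notB (Nat.beq x.1 y.1) = true) : x ≠ y := by
  rintro rfl
  have h1 := notB_spec h
  have h2 : Nat.beq x.1 x.1 = true := Nat.beq_refl _
  rw [h2] at h1
  exact Bool.false_ne_true h1.symm

def p30 (a : Nat) : Bool :=
  andB (inQ a) (andB (sqIs a 0) (andB (notB (Nat.beq a 0)) (notB (Nat.beq a 10))))
def p6 (a : Nat) : Bool := andB (inOm a) (andB (notB (Nat.beq a 0)) (notB (Nat.beq a 10)))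

/-- The result of the analysis of the fusion and of the cores. -/
structure Res : Prop where
  isolU : IsolU c
  swap : SwapV c
  da : Dz c a0
  norm : ∀ g ∈ Cz c, ∀ x ∈ Q, ∃ y ∈ Q, g * c.ι x * g⁻¹ = c.ι y
  cc : ∀ x ∈ Q, x * x = 1 → x ≠ 1 → x ≠ z0 → CC c x a0
  kv : KV c = R2.map c.ι

variable {c}

theorem Res.sq_one {g : G} {x y : SM} (h : g * c.ι x * g⁻¹ = c.ι y) (hx : x * x = 1) :
    y * y = 1 := by
  apply c.inj
  rw [map_mul, ← h, ← conj_map_mul, ← map_mul, hx, map_one]; group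

theorem Res.ne_z {g : G} (hg : g ∈ Cz c) {x y : SM} (h : g * c.ι x * g⁻¹ = c.ι y) (hx : x ≠ z0) :
    y ≠ z0 := by
  rintro rfl
  exact hx (c.inj (conj_inj (h.trans ((mem_Cz c).mp hg).symm)))

theorem inf_cent : Cz c ⊓ Subgroup.centralizer {c.ι a0} = KV c := by
  ext g
  rw [KNil.mem_KV, Subgroup.mem_inf, Subgroup.mem_centralizer_singleton_iff]
  unfold Cz
  rw [Subgroup.mem_centralizer_singleton_iff]

theorem Res.card_kv (h : Res c) : Nat.card (KV c) = 256 := by
  rw [h.kv, c.card_map, card_R2]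

/-- `|C_G(z)| = 7680` -/
theorem Res.card_C [Finite G] (h : Res c) : Nat.card (Cz c) = 7680 := by
  rw [card_eq_orbit_mul (Cz c) (c.ι a0), inf_cent, h.card_kv]
  have h1 : Nat.card {y : G // ∃ g ∈ Cz c, g * c.ι a0 * g⁻¹ = y} = 30 := by
    have e : {y : G // ∃ g ∈ Cz c, g * c.ι a0 * g⁻¹ = y} ≃
        {x : SM // p30 x.1 = true} := by
      refine Equiv.symm (Equiv.ofBijective (fun x => ⟨c.ι x.1, ?_⟩) ⟨?_, ?_⟩)
      · obtain ⟨h2, h3⟩ := andB_spec x.2
        obtain ⟨h4, h5⟩ := andB_spec h3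
        obtain ⟨h6, h7⟩ := andB_spec h5
        obtain ⟨g, hg, hga⟩ := CC_symm c (h.cc x.1 h2 (of_sqIs (y := 1) h4)
          (ne_of_notB (y := 1) h6) (ne_of_notB (y := z0) h7))
        exact ⟨g, hg, hga⟩
      · intro x y hxy
        exact Subtype.ext (c.inj (congrArg Subtype.val hxy))
      · rintro ⟨y, g, hg, rfl⟩
        obtain ⟨x, hx, hxy⟩ := h.norm g hg a0 (Om_le_Q (V_le_Om a0_mem_V)).1
        have h2 := Res.sq_one hxy a0_sq
        have h3 := Nm_ne_one c a0_ne_one hxy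
        have h4 := Res.ne_z hg hxy a0_ne_z0
        exact ⟨⟨x, andB_intro hx (andB_intro (sqIs_of (y := 1) h2) (andB_intro
          (notB_of fun h5 => h3 (ext_beq (y := 1) h5))
          (notB_of fun h5 => h4 (ext_beq (y := z0) h5))))⟩, Subtype.ext hxy.symm⟩
    rw [Nat.card_congr e, card_eq_cnt]
    decide +kernel
  rw [h1]

/-- the stabilizer of `Ω₁(J)` in `C_G(z)` -/
def LL (c : Ctx G) : Subgroup G := Cz c ⊓ Subgroup.normalizer ((Om.map c.ι : Subgroup G) : Set G)

theorem mem_LL [Finite G] {g : G} : g ∈ LL c ↔ g ∈ Cz c ∧ Nm c Om g := by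
  unfold LL
  rw [Subgroup.mem_inf, Nm_iff c]

theorem S_le_LL [Finite G] (s : SM) : c.ι s ∈ LL c := by
  rw [mem_LL]
  exact ⟨range_le_Cz c ⟨s, rfl⟩, Nm_Om c (Nm_J_SM c s)⟩

/-- canonical lines, version in `N_G(J)` -/
theorem Res.lines [Finite G] (h : Res c) : ∃ g ∈ Cz c, Nm c J g ∧ g * c.ι b0 * g⁻¹ = c.ι a0 := by
  by_contra hcon
  have hOm : ∀ x ∈ Om, x ≠ 1 → Dz c x := by
    intro x hx hx1
    by_cases hz : x = z0
    · rw [hz]; exact Dz_z0 c
    · exact Dz_of_CC c (h.cc x (Om_le_Q hx).1 (mem_Om_iff.mp hx).2 hx1 hz) h.da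
  have hst : ∀ g ∈ Cz c, Nm c J g → Nm c V g := by
    intro g hg hJ w hw
    by_cases hw1 : w = 1
    · rw [hw1]; exact ⟨1, V.one_mem, by rw [map_one]; group⟩
    by_cases hwz : w = z0
    · rw [hwz]; exact ⟨z0, z0_mem_V, (mem_Cz c).mp hg⟩
    obtain ⟨y, hy, hxy⟩ := Nm_Om c hJ w (V_le_Om hw)
    refine ⟨y, ?_, hxy⟩
    by_contra hyV
    apply hcon
    -- `b0 → y → w → a0`
    obtain ⟨s, hs⟩ := conj_b b0_Om.1 b0_Om.2.1 hy hyV
    obtain ⟨r, hr⟩ := repA (clA_of_V hw hw1 hwz)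
    refine ⟨c.ι r * g⁻¹ * c.ι s, (Cz c).mul_mem ((Cz c).mul_mem (range_le_Cz c ⟨r, rfl⟩)
      ((Cz c).inv_mem hg)) (range_le_Cz c ⟨s, rfl⟩), Nm_mul c (Nm_mul c (Nm_J_SM c r)
      (Nm_inv c hJ)) (Nm_J_SM c s), ?_⟩
    calc c.ι r * g⁻¹ * c.ι s * c.ι b0 * (c.ι r * g⁻¹ * c.ι s)⁻¹
        = c.ι r * (g⁻¹ * c.ι (s * b0 * s⁻¹) * g) * (c.ι r)⁻¹ := by
          rw [map_mul, map_mul, map_inv]; group
      _ = c.ι r * c.ι w * (c.ι r)⁻¹ := by
          have h2 : g⁻¹ * c.ι y * g = c.ι w := by rw [← hxy]; group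
          rw [hs, h2]
      _ = c.ι a0 := by rw [← map_inv, ← map_mul, ← map_mul, hr]
  obtain ⟨hbOm, hbV, hb1⟩ := b0_Om
  obtain ⟨g, hg⟩ := hOm b0 hbOm hb1
  obtain ⟨n, hn, hnb, -⟩ := burnside_J c (mem_Om_iff.mp hbOm).1 (V_le_J z0_mem_V) hg
  have hw : ∃ w ∈ V, w ≠ 1 ∧ ∃ w' ∈ V, n * c.ι w * n⁻¹ = c.ι w' := by
    obtain ⟨x, hx, hxa⟩ := Nm_surj c (Nm_Om c hn) (V_le_Om a0_mem_V)
    have hx1 : x ≠ 1 := by
      rintro rfl
      apply a0_ne_one
      apply c.inj
      rw [← hxa, map_one]; group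
    by_cases hxV : x ∈ V
    · exact ⟨x, hxV, hx1, a0, a0_mem_V, hxa⟩
    · refine ⟨x * b0, Lines.mul_mem_V hx hbOm hxV hbV, ?_, a1, a1_mem_V, ?_⟩
      · intro h1
        apply a1_ne_one
        apply c.inj
        rw [← a0_mul_z0, map_mul, ← hxa, ← hnb, ← conj_map_mul, ← map_mul, h1, map_one]; group
      · rw [map_mul, conj_map_mul, hxa, hnb, ← map_mul, a0_mul_z0]
  obtain ⟨w, hwV, hw1, w', hw'V, hww⟩ := hw
  have hw'1 : w' ≠ 1 := Nm_ne_one c hw1 hww
  obtain ⟨m, hmJ, -, hmV, hmw⟩ := h.swap.toz w hwV hw1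
  obtain ⟨m', hm'J, -, hm'V, hm'w⟩ := h.swap.toz w' hw'V hw'1
  have hgC : m' * n * m⁻¹ ∈ Cz c := by
    rw [mem_Cz]
    calc m' * n * m⁻¹ * c.ι z0 * (m' * n * m⁻¹)⁻¹
        = m' * (n * (m⁻¹ * c.ι z0 * m) * n⁻¹) * m'⁻¹ := by group
      _ = m' * (n * c.ι w * n⁻¹) * m'⁻¹ := by
        have : m⁻¹ * c.ι z0 * m = c.ι w := by rw [← hmw]; group
        rw [this]
      _ = c.ι z0 := by rw [hww, hm'w]
  have hgV := hst _ hgC (Nm_mul c (Nm_mul c hm'J hn) (Nm_inv c hmJ))
  have hnV : Nm c V n := by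
    have h1 := Nm_mul c (Nm_mul c (Nm_inv c hm'V) hgV) hmV
    have h2 : m'⁻¹ * (m' * n * m⁻¹) * m = n := by group
    rwa [h2] at h1
  obtain ⟨v, hv, hvz⟩ := Nm_surj c hnV z0_mem_V
  have e : b0 = v := c.inj (conj_inj (hnb.trans hvz.symm))
  exact hbV (by rw [e]; exact hv)

/-- `N_{C(z)}(Ω₁(J))` is transitive on `Ω₁(J) - ⟨z⟩` -/
theorem Res.trans_LL [Finite G] (h : Res c) {x : SM} (hx : x ∈ Om) (h1 : x ≠ 1) (hz : x ≠ z0) :
    ∃ g ∈ LL c, g * c.ι a0 * g⁻¹ = c.ι x := by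
  by_cases hV : x ∈ V
  · obtain ⟨r, hr⟩ := repA (clA_of_V hV h1 hz)
    refine ⟨(c.ι r)⁻¹, (LL c).inv_mem (S_le_LL r), ?_⟩
    rw [← hr, map_mul, map_mul, map_inv]; group
  · obtain ⟨g, hg, hgJ, hgb⟩ := h.lines
    obtain ⟨s, hs⟩ := conj_b b0_Om.1 b0_Om.2.1 hx hV
    refine ⟨c.ι s * g⁻¹, (LL c).mul_mem (S_le_LL s) ((LL c).inv_mem (mem_LL.mpr
      ⟨hg, Nm_Om c hgJ⟩)), ?_⟩
    rw [← hs, ← hgb, map_mul, map_mul, map_inv]; group

theorem Res.card_LL [Finite G] (h : Res c) : Nat.card (LL c) = 1536 := by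
  rw [card_eq_orbit_mul (LL c) (c.ι a0)]
  have h0 : LL c ⊓ Subgroup.centralizer {c.ι a0} = KV c := by
    apply le_antisymm
    · rw [← inf_cent]
      exact inf_le_inf_right _ inf_le_left
    · rw [h.kv]
      rintro _ ⟨r, hr, rfl⟩
      refine ⟨S_le_LL r, ?_⟩
      show c.ι r ∈ Subgroup.centralizer {c.ι a0}
      rw [Subgroup.mem_centralizer_singleton_iff, ← map_mul, R2_cent hr a0_mem_V, map_mul]
  rw [h0, h.card_kv]
  have h1 : Nat.card {y : G // ∃ g ∈ LL c, g * c.ι a0 * g⁻¹ = y} = 6 := by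
    have e : {y : G // ∃ g ∈ LL c, g * c.ι a0 * g⁻¹ = y} ≃
        {x : SM // p6 x.1 = true} := by
      refine Equiv.symm (Equiv.ofBijective (fun x => ⟨c.ι x.1, ?_⟩) ⟨?_, ?_⟩)
      · obtain ⟨h2, h3⟩ := andB_spec x.2
        obtain ⟨h6, h7⟩ := andB_spec h3
        obtain ⟨g, hg, hga⟩ := h.trans_LL (x := x.1) h2
          (ne_of_notB (y := 1) h6) (ne_of_notB (y := z0) h7)
        exact ⟨g, hg, hga⟩
      · intro x y hxy
        exact Subtype.ext (c.inj (congrArg Subtype.val hxy))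
      · rintro ⟨y, g, hg, rfl⟩
        obtain ⟨hgC, hgN⟩ := mem_LL.mp hg
        obtain ⟨x, hx, hxy⟩ := hgN a0 (V_le_Om a0_mem_V)
        have h3 := Nm_ne_one c a0_ne_one hxy
        have h4 := Res.ne_z hgC hxy a0_ne_z0
        exact ⟨⟨x, andB_intro hx (andB_intro
          (notB_of fun h5 => h3 (ext_beq (y := 1) h5))
          (notB_of fun h5 => h4 (ext_beq (y := z0) h5)))⟩, Subtype.ext hxy.symm⟩
    rw [Nat.card_congr e, card_eq_cnt]
    decide +kernel
  rw [h1]

end Cfsg.Agent.HSType.Out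
end
end

-- part: HSType/OutB_mg
section
prune_inst 0x2004000000000018000000001c4292000000000b00010040000004808c402000062080200200000000440030002813440000000000000000000041180080000200029008a000000000008004000000000000000000000000000000000000000000000
set_option linter.all false
open scoped Cfsg.Agent.FastGrp

-- part: HSType/OutB
section
/-!
# Output of the analysis (II): `C_G(z) / Q ≅ S₅`, `HSData`
-/

set_option autoImplicit false
set_option linter.style.haveILetI false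

namespace Cfsg.Agent.HSType.OutB

open Cfsg.Agent.HSType.Model Cfsg.Agent.HSType.Facts Cfsg.Agent.HSType.FactsU
  Cfsg.Agent.HSType.FactsJ Cfsg.Agent.HSType.FactsI Cfsg.Agent.HSType.Spec
  Cfsg.Agent.HSType.Basic Cfsg.Agent.HSType.Trans Cfsg.Agent.HSType.JFus
  Cfsg.Agent.HSType.InvFusion Cfsg.Agent.HSType.Inv5 Cfsg.Agent.HSType.Inv5b
  Cfsg.Agent.HSType.Simple Cfsg.Agent.HSType.Lines Cfsg.Agent.HSType.Glue Cfsg.Agent.HSType.Out

def r2 : SM := el 130

/-- fixed points of `s1` on the involutions of `Q` modulo `z` -/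
theorem s1_fix {x : SM} (hx : x ∈ Q) (h2 : x * x = 1) (h1 : x ≠ 1) (hz : x ≠ z0)
    (hs : s1 * x * s1⁻¹ = x ∨ s1 * x * s1⁻¹ = x * z0) :
    (x = a0 ∨ x = a0 * z0) ∨ (x = e0 ∨ x = e0 * z0) ∨ (x = r2 ∨ x = r2 * z0) := by
  have hd : allLT 512 (fun a => imp (inQ a) (imp (sqIs a 0) (orB (Nat.beq a 0) (orB (Nat.beq a 10)
    (imp (orB (Nat.beq (mulN 320 a) (mulN a 320)) (Nat.beq (mulN 320 a) (mulN (mulN a 10) 320)))
      (orB (orB (Nat.beq a 2) (Nat.beq a (mulN 2 10))) (orB (orB (Nat.beq a 128)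
        (Nat.beq a (mulN 128 10))) (orB (Nat.beq a 130) (Nat.beq a (mulN 130 10))))))))))
      = true := by decide +kernel
  have h3 : orB (Nat.beq (mulN 320 x.1) (mulN x.1 320)) (Nat.beq (mulN 320 x.1)
      (mulN (mulN x.1 10) 320)) = true := by
    apply orB_intro
    rcases hs with h | h
    · left; rw [mul_inv_eq_iff_eq_mul] at h; exact beq_of_eq h
    · right; rw [mul_inv_eq_iff_eq_mul] at h; exact beq_of_eq h
  rcases orB_spec (imp_spec (imp_spec (allLT_spec hd x.1 x.2) hx) (sqIs_of (y := 1) h2)) with h | h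
  · exact absurd (ext_beq (y := 1) h) h1
  rcases orB_spec h with h | h
  · exact absurd (ext_beq (y := z0) h) hz
  rcases orB_spec (imp_spec h h3) with h | h
  · left
    rcases orB_spec h with h | h
    · exact Or.inl (ext_beq (y := a0) h)
    · exact Or.inr (SM.ext (eq_of_beq h))
  right
  rcases orB_spec h with h | h
  · left
    rcases orB_spec h with h | h
    · exact Or.inl (ext_beq (y := e0) h)
    · exact Or.inr (SM.ext (eq_of_beq h))
  · right
    rcases orB_spec h with h | h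
    · exact Or.inl (ext_beq (y := r2) h)
    · exact Or.inr (SM.ext (eq_of_beq h))

theorem s1_sq : s1 * s1 = 1 := SM.ext (by decide +kernel)
theorem s1_e0 : s1 * e0 * s1⁻¹ = e0 ∨ s1 * e0 * s1⁻¹ = e0 * z0 := by
  have h : orB (Nat.beq (mulN (mulN 320 128) (invN 320)) 128)
      (Nat.beq (mulN (mulN 320 128) (invN 320)) (mulN 128 10)) = true := by decide +kernel
  rcases orB_spec h with h | h
  · exact Or.inl (SM.ext (Model.eq_of_beq h))
  · exact Or.inr (SM.ext (Model.eq_of_beq h))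

theorem e0_props : e0 ∈ Q ∧ e0 * e0 = 1 ∧ e0 ≠ 1 ∧ e0 ≠ z0 ∧ e0 ∉ Om := by
  have h := clE_spec (x := e0) (by decide +kernel)
  refine ⟨h.1, h.2.1, h.2.2.1, h.2.2.2, ?_⟩
  intro h2; exact absurd (mem_Om.mp h2) (by decide +kernel)
theorem r2_props : r2 ∈ Q ∧ r2 * r2 = 1 ∧ r2 ≠ 1 ∧ r2 ≠ z0 := clE_spec (by decide +kernel)

/-- centralizer of `Q` in the model -/
theorem cent_Q_SM {r : SM} (h : ∀ x ∈ Q, r * x = x * r) : r = 1 ∨ r = u0 ∨ r = z0 ∨ r = u0 * z0 := by
  apply inU_spec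
  have hd : allLT 512 (fun a => imp (allLT 512 (fun b => imp (inQ b) (com a b))) (inU a)) = true := by
    decide +kernel
  apply imp_spec (allLT_spec hd r.1 r.2)
  apply allLT_of
  intro k hk
  cases hq : inQ k with
  | false => rfl
  | true => exact com_of (y := ⟨k, hk⟩) (h ⟨k, hk⟩ hq)

/-- elements acting trivially on the involutions of `Q` modulo `z` -/
theorem mem_Q_of_triv {r : SM} (h : ∀ x ∈ Q, x * x = 1 → x ≠ 1 → x ≠ z0 →
    (r * x * r⁻¹ = x ∨ r * x * r⁻¹ = x * z0)) : r ∈ Q := by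
  have hd : allLT 512 (fun a => imp (allLT 512 (fun b => imp (p30 b)
    (orB (Nat.beq (mulN a b) (mulN b a)) (Nat.beq (mulN a b) (mulN (mulN b 10) a))))) (inQ a))
      = true := by decide +kernel
  apply imp_spec (allLT_spec hd r.1 r.2)
  apply allLT_of
  intro k hk
  cases hq : p30 k with
  | false => rfl
  | true =>
    show orB _ _ = true
    apply orB_intro
    obtain ⟨h2, h3⟩ := andB_spec hq
    obtain ⟨h4, h5⟩ := andB_spec h3
    obtain ⟨h6, h7⟩ := andB_spec h5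
    rcases h ⟨k, hk⟩ h2 (of_sqIs (y := 1) h4) (ne_of_notB (x := ⟨k, hk⟩) (y := 1) h6)
      (ne_of_notB (x := ⟨k, hk⟩) (y := z0) h7) with h8 | h8
    · left; rw [mul_inv_eq_iff_eq_mul] at h8; exact beq_of_eq h8
    · right; rw [mul_inv_eq_iff_eq_mul] at h8; exact beq_of_eq h8

variable {G : Type*} [Group G] {c : Ctx G}

theorem mem_Cz_iff {g : G} : g ∈ Cz c ↔ g * c.ι z0 = c.ι z0 * g := by
  unfold Cz; rw [Subgroup.mem_centralizer_singleton_iff]

/-- `h⁻¹ k ∈ N(Ω)` when `k`, `h` move `a` to the same point modulo `z` -/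
theorem mk_eq [Finite G] (hR : Res c) {k h : G} {x r : SM} (hk : k ∈ Cz c) (hh : h ∈ Cz c)
    (hkx : k * c.ι a0 * k⁻¹ = c.ι x) (hhr : h * c.ι a0 * h⁻¹ = c.ι r) (hx : x = r ∨ x = r * z0) :
    h⁻¹ * k ∈ LL c := by
  have gen : ∀ h : G, h ∈ Cz c → h * c.ι a0 * h⁻¹ = c.ι x → h⁻¹ * k ∈ LL c := by
    intro h hh hhx
    have h1 : h⁻¹ * k ∈ KV c := by
      rw [KNil.mem_KV]
      refine ⟨mem_Cz_iff.mp ((Cz c).mul_mem ((Cz c).inv_mem hh) hk), ?_⟩
      rw [← mul_inv_eq_iff_eq_mul]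
      calc h⁻¹ * k * c.ι a0 * (h⁻¹ * k)⁻¹ = h⁻¹ * (k * c.ι a0 * k⁻¹) * h := by group
        _ = h⁻¹ * (h * c.ι a0 * h⁻¹) * h := by rw [hkx, hhx]
        _ = c.ι a0 := by group
    rw [hR.kv] at h1
    obtain ⟨r, -, hr⟩ := h1
    rw [← hr]; exact S_le_LL r
  rcases hx with rfl | rfl
  · exact gen h hh hhr
  · have h1 := gen (h * c.ι s0) ((Cz c).mul_mem hh (range_le_Cz c ⟨s0, rfl⟩)) (by
      calc h * c.ι s0 * c.ι a0 * (h * c.ι s0)⁻¹ = h * c.ι (s0 * a0 * s0⁻¹) * h⁻¹ := by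
            rw [map_mul, map_mul, map_inv]; group
        _ = c.ι (r * z0) := by
          rw [s0_swap.1, ← a0_mul_z0, map_mul, conj_map_mul, hhr, (mem_Cz c).mp hh, map_mul])
    have h2 : h⁻¹ * k = c.ι s0 * ((h * c.ι s0)⁻¹ * k) := by group
    rw [h2]
    exact (LL c).mul_mem (S_le_LL s0) h1

theorem index_LL [Finite G] (h : Res c) : ((LL c).subgroupOf (Cz c)).index = 5 := by
  have h1 := ((LL c).subgroupOf (Cz c)).card_mul_index
  have hle : LL c ≤ Cz c := inf_le_left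
  rw [Nat.card_congr (Subgroup.subgroupOfEquivOfLe hle).toEquiv, h.card_LL, h.card_C] at h1
  omega

/-- `C_G(z) → Sym(C_G(z) / N(Ω)) ` is onto with kernel `Q` -/
theorem quot_aux [Finite G] (h : Res c) :
    Function.Surjective (MulAction.toPermHom (Cz c) ((Cz c) ⧸ (LL c).subgroupOf (Cz c))) := by
  classical
  set L := (LL c).subgroupOf (Cz c) with hL
  have hind := index_LL h
  have hcard : Nat.card ((Cz c) ⧸ L) = 5 := hind
  haveI : Finite ((Cz c) ⧸ L) := Nat.finite_of_card_ne_zero (by rw [hcard]; norm_num)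
  letI : Fintype ((Cz c) ⧸ L) := Fintype.ofFinite _
  have hfc : Fintype.card ((Cz c) ⧸ L) = 5 := by rw [← Nat.card_eq_fintype_card, hcard]
  set ρ := MulAction.toPermHom (Cz c) ((Cz c) ⧸ L) with hρ
  have hρa : ∀ (g k : Cz c), ρ g (QuotientGroup.mk k) = QuotientGroup.mk (g * k) := fun _ _ => rfl
  have hmk : ∀ k k' : Cz c, (QuotientGroup.mk k : (Cz c) ⧸ L) = QuotientGroup.mk k' ↔
      (k' : G)⁻¹ * k ∈ LL c := by
    intro k k'
    rw [eq_comm, QuotientGroup.eq, hL, Subgroup.mem_subgroupOf]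
    rfl
  -- the permutation induced by `s1`
  set σ1 : Cz c := ⟨c.ι s1, range_le_Cz c ⟨s1, rfl⟩⟩ with hσ1
  set τ := ρ σ1 with hτ
  have hτ2 : τ ^ 2 = 1 := by
    rw [hτ, ← map_pow]
    have : σ1 ^ 2 = 1 := by
      apply Subtype.ext
      show (c.ι s1) ^ 2 = 1
      rw [pow_two, ← map_mul, s1_sq, map_one]
    rw [this, map_one]
  -- points
  obtain ⟨he1, he2, he3, he4, he5⟩ := e0_props
  obtain ⟨hr1, hr2, hr3, hr4⟩ := r2_props
  obtain ⟨ke, hke, hkea⟩ := CC_symm c (h.cc e0 he1 he2 he3 he4)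
  obtain ⟨kr, hkr, hkra⟩ := CC_symm c (h.cc r2 hr1 hr2 hr3 hr4)
  set q0 : (Cz c) ⧸ L := QuotientGroup.mk 1 with hq0
  set q1 : (Cz c) ⧸ L := QuotientGroup.mk ⟨ke, hke⟩ with hq1
  set q2 : (Cz c) ⧸ L := QuotientGroup.mk ⟨kr, hkr⟩ with hq2
  have hs1C : c.ι s1 ∈ Cz c := range_le_Cz c ⟨s1, rfl⟩
  have hf0 : τ q0 = q0 := by
    rw [hτ, hq0, hρa, hmk]
    have : ((1 : Cz c) : G)⁻¹ * ((σ1 * 1 : Cz c) : G) = c.ι s1 := by
      show (1 : G)⁻¹ * (c.ι s1 * 1) = c.ι s1
      group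
    rw [this]; exact S_le_LL s1
  have hf1 : τ q1 = q1 := by
    rw [hτ, hq1, hρa, hmk]
    refine mk_eq h (x := s1 * e0 * s1⁻¹) (r := e0) ((Cz c).mul_mem hs1C hke) hke ?_ hkea s1_e0
    calc c.ι s1 * ke * c.ι a0 * (c.ι s1 * ke)⁻¹ = c.ι s1 * (ke * c.ι a0 * ke⁻¹) * (c.ι s1)⁻¹ := by
          group
      _ = _ := by rw [hkea, ← map_inv, ← map_mul, ← map_mul]
  have h01 : q1 ≠ q0 := by
    intro h1
    rw [hq1, hq0, hmk] at h1
    have h2 : ((1 : Cz c) : G)⁻¹ * ke = ke := by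
      show (1 : G)⁻¹ * ke = ke
      group
    have h3 : ke ∈ LL c := by rw [← h2]; exact h1
    obtain ⟨y, hy, hxy⟩ := (mem_LL.mp h3).2 a0 (V_le_Om a0_mem_V)
    have e : e0 = y := c.inj (hkea.symm.trans hxy)
    exact he5 (by rw [e]; exact hy)
  have hfix : ∀ q, τ q = q → q = q0 ∨ q = q1 ∨ q = q2 := by
    intro q
    refine QuotientGroup.induction_on q ?_
    rintro ⟨g, hg⟩ hq
    rw [hτ, hρa, hmk] at hq
    have hl : g⁻¹ * (c.ι s1 * g) ∈ LL c := hq
    obtain ⟨l, hldef⟩ : ∃ l, l = g⁻¹ * (c.ι s1 * g) := ⟨_, rfl⟩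
    rw [← hldef] at hl
    have hll : l * l = 1 := by
      rw [hldef]
      calc g⁻¹ * (c.ι s1 * g) * (g⁻¹ * (c.ι s1 * g)) = g⁻¹ * c.ι (s1 * s1) * g := by
            rw [map_mul]; group
        _ = 1 := by rw [s1_sq, map_one]; group
    have hlinv : l⁻¹ = l := inv_eq_of_mul_eq_one_left hll
    obtain ⟨hlC, hlN⟩ := mem_LL.mp hl
    have hlz := (mem_Cz c).mp hlC
    -- a point of `Ω - ⟨z⟩` fixed by `l` modulo `z`
    have hx' : ∃ x' ∈ Om, x' ≠ 1 ∧ x' ≠ z0 ∧ (l * c.ι x' * l⁻¹ = c.ι x' ∨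
        l * c.ι x' * l⁻¹ = c.ι (x' * z0)) := by
      obtain ⟨y, hy, hxy⟩ := hlN a0 (V_le_Om a0_mem_V)
      have hyy : l * c.ι y * l⁻¹ = c.ι a0 := by
        rw [← hxy]
        calc l * (l * c.ι a0 * l⁻¹) * l⁻¹ = (l * l) * c.ι a0 * (l * l)⁻¹ := by group
          _ = c.ι a0 := by rw [hll]; group
      by_cases h1 : y = a0
      · exact ⟨a0, V_le_Om a0_mem_V, a0_ne_one, a0_ne_z0, Or.inl (by rw [hxy, h1])⟩
      by_cases h2 : y = a1
      · exact ⟨a0, V_le_Om a0_mem_V, a0_ne_one, a0_ne_z0,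
          Or.inr (by rw [hxy, h2, a0_mul_z0])⟩
      refine ⟨a0 * y, Om.mul_mem (V_le_Om a0_mem_V) hy, ?_, ?_, Or.inl ?_⟩
      · intro h3
        apply h1
        calc y = a0 * (a0 * y) := by rw [← mul_assoc, a0_sq, one_mul]
          _ = a0 := by rw [h3, mul_one]
      · intro h3
        apply h2
        calc y = a0 * (a0 * y) := by rw [← mul_assoc, a0_sq, one_mul]
          _ = a1 := by rw [h3, a0_mul_z0]
      · rw [map_mul, conj_map_mul, hxy, hyy, ← map_mul, ← map_mul,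
          comm_J (mem_Om_iff.mp hy).1 (V_le_J a0_mem_V)]
    obtain ⟨x', hx'Om, hx'1, hx'z, hx'l⟩ := hx'
    obtain ⟨l', hl', hl'x⟩ := h.trans_LL hx'Om hx'1 hx'z
    obtain ⟨x, hx, hgx⟩ := h.norm g hg x' (Om_le_Q hx'Om).1
    have hk : g * l' ∈ Cz c := (Cz c).mul_mem hg (mem_LL.mp hl').1
    have hkx : g * l' * c.ι a0 * (g * l')⁻¹ = c.ι x := by
      calc g * l' * c.ι a0 * (g * l')⁻¹ = g * (l' * c.ι a0 * l'⁻¹) * g⁻¹ := by group
        _ = c.ι x := by rw [hl'x, hgx]
    have hgz := (mem_Cz c).mp hg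
    have hsx : s1 * x * s1⁻¹ = x ∨ s1 * x * s1⁻¹ = x * z0 := by
      have h1 : c.ι (s1 * x * s1⁻¹) = g * (l * c.ι x' * l⁻¹) * g⁻¹ := by
        rw [map_mul, map_mul, map_inv, ← hgx, hldef]; group
      rcases hx'l with h2 | h2
      · left; apply c.inj; rw [h1, h2, hgx]
      · right; apply c.inj; rw [h1, h2, map_mul, conj_map_mul, hgx, hgz, map_mul]
    have hgk : (QuotientGroup.mk (⟨g, hg⟩ : Cz c) : (Cz c) ⧸ L) =
        QuotientGroup.mk (⟨g * l', hk⟩ : Cz c) := by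
      rw [hmk]
      have : (g * l')⁻¹ * g = l'⁻¹ := by group
      show (g * l')⁻¹ * g ∈ LL c
      rw [this]; exact (LL c).inv_mem hl'
    rw [hgk]
    rcases s1_fix hx (Res.sq_one hgx (mem_Om_iff.mp hx'Om).2) (Nm_ne_one c hx'1 hgx)
      (Res.ne_z hg hgx hx'z) hsx with h1 | h1 | h1
    · left
      rw [hq0, hmk]
      exact mk_eq h hk (Cz c).one_mem hkx (r := a0) (by simp) h1
    · right; left
      rw [hq1, hmk]
      exact mk_eq h hk hke hkx hkea h1
    · right; right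
      rw [hq2, hmk]
      exact mk_eq h hk hkr hkx hkra h1
  -- `τ` is a transposition
  have hsup2 : 2 ∣ τ.support.card := Equiv.Perm.two_dvd_card_support hτ2
  have hle3 : τ.support.card ≤ 3 := by
    have h1 : τ.support ⊆ Finset.univ \ {q0, q1} := by
      intro q hq
      rw [Equiv.Perm.mem_support] at hq
      simp only [Finset.mem_sdiff, Finset.mem_univ, true_and, Finset.mem_insert,
        Finset.mem_singleton, not_or]
      exact ⟨fun e => hq (by rw [e]; exact hf0), fun e => hq (by rw [e]; exact hf1)⟩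
    have h2 := Finset.card_le_card h1
    rw [Finset.card_sdiff_of_subset (Finset.subset_univ _), Finset.card_univ, hfc,
      Finset.card_pair h01.symm] at h2
    exact h2
  have hge2 : 2 ≤ τ.support.card := by
    have h1 : Finset.univ \ {q0, q1, q2} ⊆ τ.support := by
      intro q hq
      rw [Equiv.Perm.mem_support]
      intro hq'
      simp only [Finset.mem_sdiff, Finset.mem_univ, true_and, Finset.mem_insert,
        Finset.mem_singleton, not_or] at hq
      rcases hfix q hq' with e | e | e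
      · exact hq.1 e
      · exact hq.2.1 e
      · exact hq.2.2 e
    have h2 := Finset.card_le_card h1
    rw [Finset.card_sdiff_of_subset (Finset.subset_univ _), Finset.card_univ, hfc] at h2
    have h3 : ({q0, q1, q2} : Finset ((Cz c) ⧸ L)).card ≤ 3 := Finset.card_le_three
    omega
  have hswap : τ.IsSwap := by
    rw [← Equiv.Perm.card_support_eq_two]
    omega
  -- an element of order 5
  have h5 : 5 ∣ Nat.card ρ.range := by
    rw [← Subgroup.index_ker, ← hind]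
    apply Subgroup.index_dvd_of_le
    intro g hg
    rw [MonoidHom.mem_ker] at hg
    have h1 : ρ g q0 = q0 := by rw [hg]; rfl
    rw [hq0, hρa, hmk] at h1
    rw [Subgroup.mem_subgroupOf]
    have h2 : ((1 : Cz c) : G)⁻¹ * ((g * 1 : Cz c) : G) = g := by
      show (1 : G)⁻¹ * ((g : G) * 1) = g
      group
    rw [h2] at h1
    exact h1
  haveI : Fact (Nat.Prime 5) := ⟨by norm_num⟩
  obtain ⟨σ, hσ⟩ := exists_prime_orderOf_dvd_card' 5 h5
  have hσ' : orderOf (σ : Equiv.Perm ((Cz c) ⧸ L)) = 5 := by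
    rw [← hσ]; exact (orderOf_injective (Subgroup.subtype _) (Subgroup.subtype_injective _) σ)
  have hcyc : (σ : Equiv.Perm ((Cz c) ⧸ L)).IsCycle :=
    Equiv.Perm.isCycle_of_prime_order'' (by rw [hfc]; norm_num) (by rw [hσ', hfc])
  have hsup : (σ : Equiv.Perm ((Cz c) ⧸ L)).support = Finset.univ := by
    rw [← Finset.card_eq_iff_eq_univ, ← hcyc.orderOf, hσ', hfc]
  have htop := Equiv.Perm.closure_prime_cycle_swap (by rw [hfc]; norm_num) hcyc hsup hswap
  rw [← MonoidHom.range_eq_top, eq_top_iff, ← htop, Subgroup.closure_le]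
  rintro x (rfl | hx)
  · exact σ.2
  · rw [Set.mem_singleton_iff] at hx
    rw [hx]
    exact ⟨σ1, rfl⟩

/-- `C_G(z) / Q ≅ S₅` -/
theorem quot [Finite G] (h : Res c) :
    ∃ ρ : Subgroup.centralizer ({c.ι z0} : Set G) →* Equiv.Perm (Fin 5),
      Function.Surjective ρ ∧ ∀ g, ρ g = 1 ↔ (g : G) ∈ Q.map c.ι := by
  classical
  have hsurj := quot_aux h
  have hcard : Nat.card ((Cz c) ⧸ (LL c).subgroupOf (Cz c)) = 5 := index_LL h
  haveI : Finite ((Cz c) ⧸ (LL c).subgroupOf (Cz c)) :=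
    Nat.finite_of_card_ne_zero (by rw [hcard]; norm_num)
  obtain ⟨ρ, hρ⟩ : ∃ ρ, ρ = MulAction.toPermHom (Cz c) ((Cz c) ⧸ (LL c).subgroupOf (Cz c)) :=
    ⟨_, rfl⟩
  rw [← hρ] at hsurj
  have hQle : Q.map c.ι ≤ Cz c := by
    rintro _ ⟨x, -, rfl⟩; exact range_le_Cz c ⟨x, rfl⟩
  have hker : ∀ g : Cz c, ρ g = 1 ↔ (g : G) ∈ Q.map c.ι := by
    have hle : (Q.map c.ι).subgroupOf (Cz c) ≤ ρ.ker := by
      intro g hg
      rw [Subgroup.mem_subgroupOf] at hg
      rw [MonoidHom.mem_ker]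
      apply Equiv.ext
      intro q
      refine QuotientGroup.induction_on q ?_
      intro k
      rw [hρ]
      show (QuotientGroup.mk (g * k) : (Cz c) ⧸ (LL c).subgroupOf (Cz c)) = QuotientGroup.mk k
      rw [eq_comm, QuotientGroup.eq, Subgroup.mem_subgroupOf]
      obtain ⟨x, hx, hxg⟩ := hg
      obtain ⟨y, hy, hxy⟩ := h.norm (k : G)⁻¹ ((Cz c).inv_mem k.2) x hx
      have h1 : ((k⁻¹ * (g * k) : Cz c) : G) = c.ι y := by
        show (k : G)⁻¹ * ((g : G) * (k : G)) = c.ι y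
        rw [← hxy, ← hxg]; group
      rw [h1]; exact S_le_LL y
    have h1 : Nat.card ρ.ker * 120 = 7680 := by
      have h2 := ρ.ker.card_mul_index
      rw [Subgroup.index_ker, MonoidHom.range_eq_top.mpr hsurj, Subgroup.card_top, h.card_C] at h2
      rw [Nat.card_perm, hcard] at h2
      exact h2
    have h3 : (Q.map c.ι).subgroupOf (Cz c) = ρ.ker := by
      apply Subgroup.eq_of_le_of_card_ge hle
      rw [Nat.card_congr (Subgroup.subgroupOfEquivOfLe hQle).toEquiv, c.card_map, card_Q]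
      omega
    intro g
    rw [← MonoidHom.mem_ker, ← h3, Subgroup.mem_subgroupOf]
  have e : (Cz c) ⧸ (LL c).subgroupOf (Cz c) ≃ Fin 5 := by
    letI : Fintype ((Cz c) ⧸ (LL c).subgroupOf (Cz c)) := Fintype.ofFinite _
    exact Fintype.equivFinOfCardEq (by rw [← Nat.card_eq_fintype_card, hcard])
  refine ⟨(e.permCongrHom.toMonoidHom).comp ρ, ?_, ?_⟩
  · exact e.permCongrHom.surjective.comp hsurj
  · intro g
    rw [← hker g]
    show e.permCongrHom (ρ g) = 1 ↔ _
    rw [EmbeddingLike.map_eq_one_iff]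

/-- `HSData` -/
theorem hsData [Finite G] (h : Res c) :
    ClassificationK.SymplHS.HSData (Q.map c.ι) (c.ι z0) (c.ι u0) where
  symp :=
    { u_mem := Subgroup.mem_map_of_mem _ ((U_le.1 u0) (by decide +kernel))
      u_sq := by rw [← map_mul, u0_sq]
      z_ne := by rw [← map_one c.ι]; exact fun e => z0_ne_one (c.inj e)
      z_sq := by rw [← map_mul, z0_sq, map_one]
      comm_u := by
        rintro _ ⟨x, hx, rfl⟩
        rw [← map_mul, ← map_mul, Subgroup.mem_centralizer_singleton_iff.mp (Q_le_R1 hx)]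
      conj_mem := by
        rintro g hg _ ⟨x, hx, rfl⟩
        obtain ⟨y, hy, hxy⟩ := h.norm g (mem_Cz_iff.mpr hg) x hx
        rw [hxy]; exact Subgroup.mem_map_of_mem _ hy
      sq := by
        rintro _ ⟨x, hx, rfl⟩
        rcases sq_Q hx with h1 | h1
        · left; rw [← map_mul, h1, map_one]
        · right; rw [← map_mul, h1]
      comm := by
        rintro _ ⟨x, hx, rfl⟩ _ ⟨y, hy, rfl⟩
        rcases comm_Q hx hy with h1 | h1
        · left; rw [← map_mul, ← map_mul, h1]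
        · right; rw [← map_mul, ← map_mul, ← map_mul, h1]
      self := by
        intro g hg hx
        have h1 : g ∈ KV c := by
          rw [KNil.mem_KV]
          exact ⟨hg, hx _ (Subgroup.mem_map_of_mem _ (Om_le_Q (V_le_Om a0_mem_V)).1)⟩
        rw [h.kv] at h1
        obtain ⟨r, -, rfl⟩ := h1
        rcases cent_Q_SM (r := r) (fun x hxQ => by
          apply c.inj; rw [map_mul, map_mul]
          exact hx _ (Subgroup.mem_map_of_mem _ hxQ)) with e | e | e | e
        · left; rw [e, map_one]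
        · right; right; left; rw [e]
        · right; left; rw [e]
        · right; right; right; rw [e, map_mul]
      core := by
        intro N hNC hNn hN2 n hn
        have hNle : N ≤ Cz c := fun x hx => mem_Cz_iff.mpr (hNC x hx)
        -- `N ≤ S`
        have hNS : ∀ n ∈ N, ∃ s : SM, c.ι s = n := by
          intro n hn
          obtain ⟨k, hk, hks⟩ := c.exists_conj_in (range_le_Cz c) hNle hN2
          have h1 : k⁻¹ * n * k⁻¹⁻¹ ∈ N := hNn _ (mem_Cz_iff.mp ((Cz c).inv_mem hk)) n hn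
          obtain ⟨s, hs⟩ := hks _ h1
          refine ⟨s, ?_⟩
          rw [hs]; group
        obtain ⟨s, rfl⟩ := hNS n hn
        apply Subgroup.mem_map_of_mem
        apply mem_Q_of_triv
        intro x hx hx2 hx1 hxz
        obtain ⟨g, hg, hga⟩ := CC_symm c (h.cc x hx hx2 hx1 hxz)
        have h1 : g⁻¹ * c.ι s * g⁻¹⁻¹ ∈ N := hNn _ (mem_Cz_iff.mp ((Cz c).inv_mem hg)) _ hn
        obtain ⟨t, ht⟩ := hNS _ h1
        have hgz := (mem_Cz c).mp hg
        have h2 : c.ι (s * x * s⁻¹) = g * c.ι (t * a0 * t⁻¹) * g⁻¹ := by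
          rw [map_mul, map_mul, map_inv, map_mul, map_mul, map_inv, ← hga, ht]; group
        rcases V_cases (V_normal (g := t) a0_mem_V) with e | e | e | e
        · exfalso
          apply a0_ne_one
          calc a0 = t⁻¹ * (t * a0 * t⁻¹) * t := by group
            _ = 1 := by rw [e]; group
        · left; apply c.inj; rw [h2, e, hga]
        · right; apply c.inj; rw [h2, e, ← a0_mul_z0, map_mul, conj_map_mul, hga, hgz, map_mul]
        · exfalso
          apply a0_ne_z0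
          calc a0 = t⁻¹ * (t * a0 * t⁻¹) * t := by group
            _ = z0 := by rw [e, mul_assoc, ← z0_central, inv_mul_cancel_left]
      nonab := by
        refine ⟨c.ι a0, Subgroup.mem_map_of_mem _ (Om_le_Q (V_le_Om a0_mem_V)).1, c.ι g0,
          Subgroup.mem_map_of_mem _ (clG_spec (x := g0) (by decide +kernel)).1, ?_⟩
        rw [← map_mul, ← map_mul]
        intro e
        exact absurd (com_of (c.inj e)) (by decide +kernel) }
  card_Q := by rw [c.card_map, card_Q]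
  card_C := h.card_C
  quot := quot h
  conj := by
    rintro _ ⟨x, hx, rfl⟩ h2 h1
    have h2' : x * x = 1 := c.inj (by rw [map_mul, h2, map_one])
    have h1' : x ≠ 1 := fun e => h1 (by rw [e, map_one])
    have hD : Dz c x := by
      by_cases hz : x = z0
      · rw [hz]; exact Dz_z0 c
      · exact Dz_of_CC c (h.cc x hx h2' h1' hz) h.da
    obtain ⟨g, hg⟩ := hD
    exact ⟨g⁻¹, by rw [← hg]; group⟩
  conj_C := by
    rintro _ ⟨x, hx, rfl⟩ _ ⟨y, hy, rfl⟩ hx2 hx1 hxz hy2 hy1 hyz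
    have h1 : CC c x y := CC_trans c (h.cc x hx (c.inj (by rw [map_mul, hx2, map_one]))
      (fun e => hx1 (by rw [e, map_one])) (fun e => hxz (by rw [e])))
      (CC_symm c (h.cc y hy (c.inj (by rw [map_mul, hy2, map_one]))
      (fun e => hy1 (by rw [e, map_one])) (fun e => hyz (by rw [e]))))
    obtain ⟨g, hg, hxy⟩ := h1
    exact ⟨g, mem_Cz_iff.mp hg, hxy⟩
  inv := by
    refine ⟨c.ι s1, ?_, ?_⟩
    · rw [← map_mul, z0_central, map_mul]
    · rw [← map_inv, ← map_mul, ← map_mul, ← map_mul]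
      congr 1

end Cfsg.Agent.HSType.OutB
end

-- part: HSType/StructTools
section
/-!
# Tools for the application of Lemma H
-/

set_option autoImplicit false

namespace Cfsg.Agent.HSType.StructTools

open Subgroup Cfsg.Agent.HSType.Basic Cfsg.Agent.HSType.KNil

section gen

variable {X : Type*} [Group X]

/-- factorisation of `N U`, `U` normalising `N` -/
theorem mem_sup_fac {N U : Subgroup X} (h : ∀ u ∈ U, ∀ x ∈ N, u * x * u⁻¹ ∈ N) {x : X}
    (hx : x ∈ N ⊔ U) : ∃ a ∈ N, ∃ b ∈ U, x = a * b := by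
  let M : Subgroup X :=
    { carrier := {x | ∃ a ∈ N, ∃ b ∈ U, x = a * b}
      one_mem' := ⟨1, one_mem _, 1, one_mem _, by group⟩
      mul_mem' := by
        rintro _ _ ⟨a, ha, b, hb, rfl⟩ ⟨a', ha', b', hb', rfl⟩
        exact ⟨a * (b * a' * b⁻¹), mul_mem ha (h b hb a' ha'), b * b', mul_mem hb hb', by group⟩
      inv_mem' := by
        rintro _ ⟨a, ha, b, hb, rfl⟩
        refine ⟨b⁻¹ * a⁻¹ * b⁻¹⁻¹, h _ (inv_mem hb) _ (inv_mem ha), b⁻¹, inv_mem hb, by group⟩ }
  have h1 : N ⊔ U ≤ M := sup_le (fun a ha => ⟨a, ha, 1, one_mem _, by group⟩)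
    (fun b hb => ⟨1, one_mem _, b, hb, by group⟩)
  exact h1 hx

theorem zpowers_conj_mem [Finite X] {N : Subgroup X} {u : X} (huN : ∀ x ∈ N, u * x * u⁻¹ ∈ N) :
    ∀ v ∈ zpowers u, ∀ x ∈ N, v * x * v⁻¹ ∈ N := by
  intro v hv x hx
  have h1 : zpowers u ≤ normalizer (N : Set X) := by
    rw [zpowers_le]
    exact mem_normalizer_of_forall huN
  exact conj_mem_of_mem_normalizer (h1 hv) hx

/-- the core of a quotient by a central 2-subgroup. -/
theorem core_lift [Finite X] (U : Subgroup X) [U.Normal] (hU : ∀ x ∈ U, ∀ y : X, y * x = x * y)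
    (hU2 : IsPGroup 2 U) {g : X} (hg : (QuotientGroup.mk' U g) ∈ Cfsg.oddCore (X ⧸ U)) :
    ∃ k ∈ Cfsg.oddCore X, ∃ w ∈ U, g = k * w := by
  have : Fact (Nat.Prime 2) := ⟨Nat.prime_two⟩
  have hOn : (Cfsg.oddCore (X ⧸ U)).Normal := Lib.Cores.pPrimeCore_normal (G := X ⧸ U) 2
  have hOc := Lib.Cores.pPrimeCore_coprime (G := X ⧸ U) 2
  set Y : Subgroup X := (Cfsg.oddCore (X ⧸ U)).comap (QuotientGroup.mk' U) with hY
  have hYn : Y.Normal := hOn.comap _
  have hUY : U ≤ Y := by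
    intro x hx
    rw [hY, mem_comap]
    have : QuotientGroup.mk' U x = 1 := (QuotientGroup.eq_one_iff x).mpr hx
    rw [this]
    exact one_mem _
  have hrel : ¬ 2 ∣ U.relIndex Y := by
    have h1 : U.relIndex Y = Nat.card (Cfsg.oddCore (X ⧸ U)) := by
      have h2 := relIndex_ker Y (QuotientGroup.mk' U)
      rw [QuotientGroup.ker_mk'] at h2
      rw [h2, hY, map_comap_eq_self_of_surjective (QuotientGroup.mk'_surjective U)]
    rw [h1]
    exact (Nat.Prime.coprime_iff_not_dvd Nat.prime_two).mp hOc.symm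
  obtain ⟨L, hLY, hLodd, -, hodd, hfac⟩ := burnside_gen hU2 hUY hrel
    (fun r _ _ a ha => by rw [hU a ha r, mul_inv_cancel_right])
  have hLn : L.Normal := by
    refine ⟨fun l hl h => hodd _ (hYn.conj_mem l (hLY hl) h) ?_⟩
    have h1 : orderOf (h * l * h⁻¹) = orderOf l :=
      orderOf_injective (MulAut.conj h).toMonoidHom (MulAut.conj h).injective l
    rw [h1]
    exact Odd.of_dvd_nat hLodd (Subgroup.orderOf_dvd_natCard L hl)
  have hLO : L ≤ Cfsg.oddCore X := by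
    apply le_sSup
    exact ⟨hLn, Nat.coprime_two_right.mpr hLodd⟩
  obtain ⟨l, hl, a, ha, hg'⟩ := hfac g hg
  exact ⟨l, hLO hl, a, ha, hg'⟩

/-- a 2-element `n u`, with `n` in an odd group normalised by the 2-element `u`, is conjugate to
`u`. -/
theorem conj_of_mul [Finite X] {N : Subgroup X} (hN : ¬ 2 ∣ Nat.card N) {u w n : X} (hn : n ∈ N)
    (huN : ∀ x ∈ N, u * x * u⁻¹ ∈ N) (hw : w = n * u) {m m' : ℕ} (hu2 : u ^ (2 ^ m) = 1)
    (hw2 : w ^ (2 ^ m') = 1) : ∃ k ∈ N, k * w * k⁻¹ = u := by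
  have : Fact (Nat.Prime 2) := ⟨Nat.prime_two⟩
  have hp : ∀ {x : X} {m : ℕ}, x ^ (2 ^ m) = 1 → IsPGroup 2 (zpowers x) := by
    intro x m hx
    obtain ⟨j, -, hj⟩ := (Nat.dvd_prime_pow Nat.prime_two).mp (orderOf_dvd_of_pow_eq_one hx)
    rw [IsPGroup.iff_card]
    exact ⟨j, by rw [Nat.card_zpowers, hj]⟩
  have hup := hp hu2
  have hwp := hp hw2
  -- factorisation of `N ⊔ ⟨u⟩`
  have hfac : ∀ x ∈ N ⊔ zpowers u, ∃ a ∈ N, ∃ b ∈ zpowers u, x = a * b := fun x hx =>
    mem_sup_fac (zpowers_conj_mem huN) hx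
  have hinf' : ∀ P : Subgroup X, IsPGroup 2 P → ∀ x ∈ N, x ∈ P → x = 1 := by
    intro P hP x hx hxu
    obtain ⟨j, hj⟩ := hP ⟨x, hxu⟩
    have h1 : x ^ (2 ^ j) = 1 := congrArg Subtype.val hj
    have h2 : orderOf x ∣ 2 ^ j := orderOf_dvd_of_pow_eq_one h1
    have h3 : orderOf x ∣ Nat.card N := Subgroup.orderOf_dvd_natCard N hx
    have h4 : (2 ^ j).Coprime (Nat.card N) :=
      Nat.Coprime.pow_left j ((Nat.Prime.coprime_iff_not_dvd Nat.prime_two).2 hN)
    exact orderOf_eq_one_iff.1 (Nat.eq_one_of_dvd_coprimes h4 h2 h3)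
  have hinf := hinf' (zpowers u) hup
  have hidx : ¬ 2 ∣ (zpowers u).relIndex (N ⊔ zpowers u) := by
    have h1 : IsPGroup 2 ((zpowers u).subgroupOf (N ⊔ zpowers u)) :=
      hup.comap_of_injective _ (N ⊔ zpowers u).subtype_injective
    obtain ⟨S, hS⟩ := h1.exists_le_sylow
    have h2 : (zpowers u).subgroupOf (N ⊔ zpowers u) = (S : Subgroup ↥(N ⊔ zpowers u)) := by
      refine le_antisymm hS ?_
      intro x hx
      obtain ⟨a, ha, b, hb, hab⟩ := hfac x x.2
      have h3 : (⟨b, mem_sup_right hb⟩ : ↥(N ⊔ zpowers u)) ∈ S := hS (mem_subgroupOf.mpr hb)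
      have h4 : x * (⟨b, mem_sup_right hb⟩ : ↥(N ⊔ zpowers u))⁻¹ ∈ (S : Subgroup _) :=
        mul_mem hx (inv_mem h3)
      have h5 : a = 1 := hinf' ((S : Subgroup ↥(N ⊔ zpowers u)).map (N ⊔ zpowers u).subtype)
        (S.2.map _) a ha ⟨_, h4, by
          show (x : X) * b⁻¹ = a
          rw [hab, mul_inv_cancel_right]⟩
      rw [mem_subgroupOf, hab, h5, one_mul]
      exact hb
    unfold Subgroup.relIndex
    rw [h2]
    exact S.not_dvd_index
  obtain ⟨k, hk, hkw⟩ := rel_sylow (K := N ⊔ zpowers u) (R0 := zpowers u) le_sup_right hup hidx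
    (P := zpowers w) (by
      rw [zpowers_le, hw]
      exact mul_mem (mem_sup_left hn) (mem_sup_right (mem_zpowers u))) hwp
  have h1 := hkw w (mem_zpowers w)
  -- write `k⁻¹ = a b`
  obtain ⟨a, ha, b, hb, hab⟩ := hfac k⁻¹ (inv_mem hk)
  have hk' : k = b⁻¹ * a⁻¹ := by rw [← mul_inv_rev, ← hab, inv_inv]
  have h2 : a⁻¹ * w * a⁻¹⁻¹ ∈ zpowers u := by
    have h3 : a⁻¹ * w * a⁻¹⁻¹ = b * (k * w * k⁻¹) * b⁻¹ := by rw [hk']; group
    rw [h3]
    exact mul_mem (mul_mem hb h1) (inv_mem hb)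
  refine ⟨a⁻¹, inv_mem ha, ?_⟩
  have h3 : a⁻¹ * w * a⁻¹⁻¹ * u⁻¹ ∈ N := by
    rw [hw]
    have h4 : a⁻¹ * (n * u) * a⁻¹⁻¹ * u⁻¹ = a⁻¹ * n * (u * a * u⁻¹) := by group
    rw [h4]
    exact mul_mem (mul_mem (inv_mem ha) hn) (huN a ha)
  have h4 := hinf _ h3 (mul_mem h2 (inv_mem (mem_zpowers u)))
  rwa [mul_inv_eq_one] at h4

end gen

end Cfsg.Agent.HSType.StructTools
end

-- part: HSType/StructFacts
section
/-!
# Kernel-checked facts on the model group `SM`, for the structure of `C(u)/⟨u⟩`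
-/

set_option autoImplicit false

namespace Cfsg.Agent.HSType.StructFacts

open Cfsg.Agent.HSType.Model Cfsg.Agent.HSType.Facts Cfsg.Agent.HSType.FactsU
  Cfsg.Agent.HSType.Spec Cfsg.Agent.HSType.FactsJ

/-- commutator code -/
def cmN (a b : Nat) : Nat := mulN (mulN (mulN a b) (invN a)) (invN b)

/-- membership in `Ω₁(J)⟨u⟩` -/
def inOmU (a : Nat) : Bool := andB (inQ a) (inQ' a)

theorem mem_OmU {x : SM} : x ∈ OmU ↔ inOmU x.1 = true := by
  constructor
  · rintro ⟨h1, h2⟩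
    exact andB_intro h1 h2
  · intro h
    exact ⟨(andB_spec h).1, (andB_spec h).2⟩

theorem U_cases {x : SM} (h : x ∈ U) : x = 1 ∨ x = u0 ∨ x = z0 ∨ x = u0 * z0 := inU_spec h

theorem u0_mem_U : u0 ∈ U := (by decide +kernel : inU 37 = true)
theorem z0_mem_U : z0 ∈ U := (by decide +kernel : inU 10 = true)

theorem U_le_OmU : U ≤ OmU := fun x hx => ⟨U_le.1 x hx, U_le.2 x hx⟩
theorem OmU_le_Q : OmU ≤ Q := inf_le_left
theorem OmU_le_Q' : OmU ≤ Q' := inf_le_right
theorem U_le_R1 : U ≤ R1 := fun _ hx => Q_le_R1 (U_le.1 _ hx)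

theorem OmU_le_J : OmU ≤ J := by
  intro x hx
  have hd : allLT 512 (fun a => imp (inOmU a) (inJ a)) = true := by decide +kernel
  exact imp_spec (allLT_spec hd x.1 x.2) (mem_OmU.mp hx)

theorem Q_inf_J {x : SM} (h1 : x ∈ Q) (h2 : x ∈ J) : x ∈ OmU := by
  have hd : allLT 512 (fun a => imp (inQ a) (imp (inJ a) (inOmU a))) = true := by decide +kernel
  exact mem_OmU.mpr (imp_spec (imp_spec (allLT_spec hd x.1 x.2) h1) h2)

theorem Q'_inf_J {x : SM} (h1 : x ∈ Q') (h2 : x ∈ J) : x ∈ OmU := by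
  have hd : allLT 512 (fun a => imp (inQ' a) (imp (inJ a) (inOmU a))) = true := by decide +kernel
  exact mem_OmU.mpr (imp_spec (imp_spec (allLT_spec hd x.1 x.2) h1) h2)

theorem card_OmU : Nat.card OmU = 16 := by
  rw [card_sub OmU inOmU (fun _ => mem_OmU)]; decide +kernel

theorem card_U : Nat.card U = 4 := by
  rw [card_sub U inU (fun _ => Iff.rfl)]; decide +kernel

/-- `Ω₁(J)⟨u⟩` is central in `R1` modulo `⟨u⟩` -/
theorem cm_OmU {t a : SM} (ht : t ∈ R1) (ha : a ∈ OmU) : t * a * t⁻¹ * a⁻¹ ∈ U := by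
  have hd : allLT 64 (fun a => imp (inOmU a) (allLT 512 (fun t => imp (inR1 t)
    (inU (cmN t a))))) = true := by decide +kernel
  have h1 : a.1 < 64 := Nat.le_of_ble_eq_true (OmU_le_J ha)
  exact imp_spec (allLT_spec (imp_spec (allLT_spec hd a.1 h1) (mem_OmU.mp ha)) t.1 t.2)
    (mem_R1.mp ht)

theorem k1 {t a : SM} (ha : a ∈ Q) (haO : a ∉ OmU) (ht : t ∈ R1) (h : t * a * t⁻¹ * a⁻¹ ∈ U) :
    t ∈ Q := by
  have hd : allLT 512 (fun a => imp (inQ a) (orB (inOmU a) (allLT 512 (fun t => imp (inR1 t)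
    (imp (inU (cmN t a)) (inQ t)))))) = true := by decide +kernel
  rcases orB_spec (imp_spec (allLT_spec hd a.1 a.2) ha) with h1 | h1
  · exact absurd (mem_OmU.mpr h1) haO
  · exact imp_spec (imp_spec (allLT_spec h1 t.1 t.2) (mem_R1.mp ht)) h

theorem k2 {t a : SM} (ha : a ∈ Q') (haO : a ∉ OmU) (ht : t ∈ R1) (h : t * a * t⁻¹ * a⁻¹ ∈ U) :
    t ∈ Q' := by
  have hd : allLT 512 (fun a => imp (inQ' a) (orB (inOmU a) (allLT 512 (fun t => imp (inR1 t)
    (imp (inU (cmN t a)) (inQ' t)))))) = true := by decide +kernel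
  rcases orB_spec (imp_spec (allLT_spec hd a.1 a.2) ha) with h1 | h1
  · exact absurd (mem_OmU.mpr h1) haO
  · exact imp_spec (imp_spec (allLT_spec h1 t.1 t.2) (mem_R1.mp ht)) h

theorem cm_QQ' {x y : SM} (hx : x ∈ Q) (hy : y ∈ Q') : x * y * x⁻¹ * y⁻¹ ∈ OmU := by
  have hd : allLT 512 (fun a => imp (inQ a) (allLT 512 (fun b => imp (inQ' b)
    (inOmU (cmN a b))))) = true := by decide +kernel
  exact mem_OmU.mpr (imp_spec (allLT_spec (imp_spec (allLT_spec hd x.1 x.2) hx) y.1 y.2) hy)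

/-- every element of `Ω₁(J)⟨u⟩` is a commutator modulo `⟨u⟩` -/
theorem exists_cm {w : SM} (hw : w ∈ OmU) : ∃ x ∈ Q, ∃ y ∈ Q', (x * y * x⁻¹ * y⁻¹)⁻¹ * w ∈ U := by
  have hd : allLT 64 (fun w => imp (inOmU w) (exLT 512 (fun a => andB (inQ a) (exLT 512 (fun b =>
    andB (inQ' b) (inU (mulN (invN (cmN a b)) w))))))) = true := by decide +kernel
  have h1 : w.1 < 64 := Nat.le_of_ble_eq_true (OmU_le_J hw)
  obtain ⟨k, hk, h2⟩ := exLT_spec (imp_spec (allLT_spec hd w.1 h1) (mem_OmU.mp hw))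
  obtain ⟨h3, h4⟩ := andB_spec h2
  obtain ⟨l, hl, h5⟩ := exLT_spec h4
  obtain ⟨h6, h7⟩ := andB_spec h5
  exact ⟨⟨k, hk⟩, h3, ⟨l, hl⟩, h6, h7⟩

/-- `R1 = Q J = Q' J` -/
theorem exists_QJ {a : SM} (ha : a ∈ R1) : ∃ q ∈ Q, ∃ j ∈ J, a = q * j := by
  have hd : allLT 512 (fun a => imp (inR1 a) (exLT 512 (fun q => andB (inQ q)
    (inJ (mulN (invN q) a))))) = true := by decide +kernel
  obtain ⟨k, hk, h2⟩ := exLT_spec (imp_spec (allLT_spec hd a.1 a.2) (mem_R1.mp ha))
  obtain ⟨h3, h4⟩ := andB_spec h2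
  exact ⟨⟨k, hk⟩, h3, (⟨k, hk⟩ : SM)⁻¹ * a, h4, by group⟩

theorem exists_Q'J {a : SM} (ha : a ∈ R1) : ∃ q ∈ Q', ∃ j ∈ J, a = q * j := by
  have hd : allLT 512 (fun a => imp (inR1 a) (exLT 512 (fun q => andB (inQ' q)
    (inJ (mulN (invN q) a))))) = true := by decide +kernel
  obtain ⟨k, hk, h2⟩ := exLT_spec (imp_spec (allLT_spec hd a.1 a.2) (mem_R1.mp ha))
  obtain ⟨h3, h4⟩ := andB_spec h2
  exact ⟨⟨k, hk⟩, h3, (⟨k, hk⟩ : SM)⁻¹ * a, h4, by group⟩

theorem Q_ne_Q' : ¬ Q ≤ Q' := by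
  intro h
  have hd : exLT 512 (fun a => andB (inQ a) (beqB (inQ' a) false)) = true := by decide +kernel
  obtain ⟨k, hk, h2⟩ := exLT_spec hd
  obtain ⟨h3, h4⟩ := andB_spec h2
  have h5 : inQ' k = true := h (show (⟨k, hk⟩ : SM) ∈ Q from h3)
  rw [beqB_spec h4] at h5
  exact Bool.false_ne_true h5

theorem Q_normal {g x : SM} (hx : x ∈ Q) : g * x * g⁻¹ ∈ Q :=
  conj_by_gens inQ (by decide +kernel) g x hx

theorem Q'_normal {g x : SM} (hx : x ∈ Q') : g * x * g⁻¹ ∈ Q' :=
  conj_by_gens inQ' (by decide +kernel) g x hx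

theorem OmU_normal {g x : SM} (hx : x ∈ OmU) : g * x * g⁻¹ ∈ OmU :=
  ⟨Q_normal hx.1, Q'_normal hx.2⟩

theorem sq_Q_U {x : SM} (hx : x ∈ Q) : x * x ∈ U := by
  rcases sq_Q hx with h | h
  · rw [h]; exact one_mem _
  · rw [h]; exact z0_mem_U

theorem sq_Q'_U {x : SM} (hx : x ∈ Q') : x * x ∈ U := by
  rcases sq_Q' hx with h | h
  · rw [h]; exact one_mem _
  · rw [h]; exact z0_mem_U

theorem u0_comm {x : SM} (hx : x ∈ R1) : x * u0 = u0 * x :=
  Subgroup.mem_centralizer_singleton_iff.mp hx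

/-- an element of `R1` moving `a` to `a z` -/
theorem exists_r : ∃ r ∈ R1, r * a0 * r⁻¹ = a0 * z0 := by
  have hd : exLT 512 (fun r => andB (inR1 r) (Nat.beq (mulN r 2) (mulN (mulN 2 10) r))) = true := by
    decide +kernel
  obtain ⟨k, hk, h2⟩ := exLT_spec hd
  obtain ⟨h3, h4⟩ := andB_spec h2
  refine ⟨⟨k, hk⟩, mem_R1.mpr h3, ?_⟩
  rw [mul_inv_eq_iff_eq_mul]
  exact SM.ext (eq_of_beq h4)

/-- an element of `R2` inverting `u` -/
theorem exists_s : ∃ s ∈ R2, s * u0 * s⁻¹ = u0 * z0 := by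
  have hd : exLT 512 (fun r => andB (inR2 r) (Nat.beq (mulN r 37) (mulN (mulN 37 10) r))) = true := by
    decide +kernel
  obtain ⟨k, hk, h2⟩ := exLT_spec hd
  obtain ⟨h3, h4⟩ := andB_spec h2
  refine ⟨⟨k, hk⟩, mem_R2.mpr h3, ?_⟩
  rw [mul_inv_eq_iff_eq_mul]
  exact SM.ext (eq_of_beq h4)

theorem a0_mem_OmU : a0 ∈ OmU := mem_OmU.mpr (by decide +kernel : inOmU 2 = true)
end Cfsg.Agent.HSType.StructFacts
end

-- part: HSType/StructQ
section
/-!
# The quotient `C_G(u)/⟨u⟩` and its Sylow 2-subgroup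
-/

set_option autoImplicit false
set_option maxHeartbeats 400000

namespace Cfsg.Agent.HSType.StructQ

open Subgroup Cfsg.Agent.HSType.Model Cfsg.Agent.HSType.Facts Cfsg.Agent.HSType.FactsU
  Cfsg.Agent.HSType.Basic Cfsg.Agent.HSType.Trans Cfsg.Agent.HSType.Spec
  Cfsg.Agent.HSType.StructFacts Cfsg.Agent.HSType.StructTools

universe u

variable {G : Type u} [Group G] (c : Ctx G)

/-- `C_G(u)` -/
abbrev CU : Subgroup G := centralizer ({c.ι u0} : Set G)

theorem mem_CU {g : G} : g ∈ CU c ↔ g * c.ι u0 * g⁻¹ = c.ι u0 := by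
  rw [mem_centralizer_singleton_iff, mul_inv_eq_iff_eq_mul]

theorem CU_le_Cz : CU c ≤ Cz c := by
  intro g hg
  rw [mem_Cz, ← u0_sq, map_mul, conj_map_mul, (mem_CU c).mp hg]

theorem ι_mem_CU {x : SM} (hx : x ∈ R1) : c.ι x ∈ CU c := by
  rw [mem_CU, mul_inv_eq_iff_eq_mul, ← map_mul, ← map_mul, u0_comm hx]

/-- `⟨u⟩` in `C(u)` -/
def UU : Subgroup (CU c) := (U.map c.ι).subgroupOf (CU c)

theorem mem_UU {g : CU c} : g ∈ UU c ↔ ∃ w ∈ U, c.ι w = g := by
  rw [UU, mem_subgroupOf, mem_map]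

theorem UU_central : ∀ x ∈ UU c, ∀ y : CU c, y * x = x * y := by
  intro x hx y
  obtain ⟨w, hw, hwx⟩ := (mem_UU c).mp hx
  apply Subtype.ext
  show (y : G) * x = x * y
  rw [← hwx]
  have h1 : (y : G) * c.ι u0 = c.ι u0 * y := mem_centralizer_singleton_iff.mp y.2
  have h2 : (y : G) * c.ι z0 = c.ι z0 * y := by
    rw [← u0_sq, map_mul, ← mul_assoc, h1, mul_assoc, h1, ← mul_assoc]
  rcases U_cases hw with rfl | rfl | rfl | rfl
  · rw [map_one, mul_one, one_mul]
  · exact h1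
  · exact h2
  · rw [map_mul, ← mul_assoc, h1, mul_assoc, h2, ← mul_assoc]

instance UU_normal : (UU c).Normal := ⟨fun x hx g => by
  rw [UU_central c x hx g, mul_inv_cancel_right]; exact hx⟩

theorem UU_pgroup : IsPGroup 2 (UU c) :=
  (c.isPGroup_map U).comap_of_injective (CU c).subtype (CU c).subtype_injective

/-- the quotient -/
abbrev HH : Type u := CU c ⧸ UU c

/-- the projection -/
abbrev pr : CU c →* HH c := QuotientGroup.mk' (UU c)

theorem pr_surj : Function.Surjective (pr c) := QuotientGroup.mk'_surjective _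

theorem pr_eq_one {g : CU c} : pr c g = 1 ↔ ∃ w ∈ U, c.ι w = g := by
  rw [← mem_UU]; exact QuotientGroup.eq_one_iff g

/-- the homomorphism `R1 → C(u)` -/
def fc : R1 →* CU c := (c.ι.comp R1.subtype).codRestrict (CU c) (fun x => ι_mem_CU c x.2)

theorem fc_coe (x : R1) : (fc c x : G) = c.ι x := rfl

/-- the homomorphism `R1 → C(u)/⟨u⟩` -/
def ff : R1 →* HH c := (pr c).comp (fc c)

theorem ff_apply (x : R1) : ff c x = pr c (fc c x) := rfl

theorem ff_eq_one {x : R1} : ff c x = 1 ↔ (x : SM) ∈ U := by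
  rw [ff_apply, pr_eq_one]
  constructor
  · rintro ⟨w, hw, h⟩
    rw [fc_coe] at h
    rwa [← c.inj h]
  · intro h; exact ⟨x, h, rfl⟩

/-- the subgroup of the quotient -/
def bar (X : Subgroup SM) : Subgroup (HH c) := (X.subgroupOf R1).map (ff c)

theorem pr_mem_bar {X : Subgroup SM} (hU : U ≤ X) (hX : X ≤ R1) {g : CU c} :
    pr c g ∈ bar c X ↔ ∃ x ∈ X, c.ι x = g := by
  constructor
  · rintro ⟨x, hx, hxg⟩
    have h1 : pr c ((fc c x)⁻¹ * g) = 1 := by
      rw [map_mul, map_inv, ← hxg, ff_apply]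
      exact inv_mul_cancel _
    obtain ⟨w, hw, hwg⟩ := (pr_eq_one c).mp h1
    refine ⟨x * w, X.mul_mem hx (hU hw), ?_⟩
    rw [map_mul, hwg]
    show c.ι x * ((c.ι x)⁻¹ * g) = g
    group
  · rintro ⟨x, hx, hxg⟩
    refine ⟨⟨x, hX hx⟩, hx, ?_⟩
    rw [ff_apply]
    congr 1
    exact Subtype.ext hxg

theorem ff_mem_bar {X : Subgroup SM} (hU : U ≤ X) (hX : X ≤ R1) {x : R1} :
    ff c x ∈ bar c X ↔ (x : SM) ∈ X := by
  rw [ff_apply, pr_mem_bar c hU hX]
  constructor
  · rintro ⟨y, hy, hyx⟩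
    rw [fc_coe] at hyx
    rwa [← c.inj hyx]
  · intro h; exact ⟨x, h, rfl⟩

theorem exists_of_mem {X : Subgroup SM} {h : HH c} (hh : h ∈ bar c X) :
    ∃ x : R1, (x : SM) ∈ X ∧ ff c x = h := hh

theorem card_bar [Finite G] {X : Subgroup SM} (hU : U ≤ X) (hX : X ≤ R1) :
    4 * Nat.card (bar c X) = Nat.card X := by
  have h1 := relIndex_ker (X.subgroupOf R1) (ff c)
  have hker : (ff c).ker = U.subgroupOf R1 := by
    ext x
    rw [MonoidHom.mem_ker, ff_eq_one, mem_subgroupOf]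
  rw [hker] at h1
  have hle : U.subgroupOf R1 ≤ X.subgroupOf R1 := fun x hx => hU hx
  have h2 := relIndex_mul_relIndex (⊥ : Subgroup R1) (U.subgroupOf R1) (X.subgroupOf R1) bot_le hle
  rw [relIndex_bot_left, relIndex_bot_left, h1,
    Nat.card_congr (subgroupOfEquivOfLe (U_le_R1)).toEquiv,
    Nat.card_congr (subgroupOfEquivOfLe hX).toEquiv, card_U] at h2
  exact h2

theorem bar_mono {X Y : Subgroup SM} (h : X ≤ Y) : bar c X ≤ bar c Y :=
  Subgroup.map_mono (fun _ hx => h hx)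

theorem isPGroup_bar (X : Subgroup SM) : IsPGroup 2 (bar c X) :=
  ((Ctx.isPGroup_SM.to_subgroup R1).to_subgroup _).map _

theorem bar_index [Finite G] : ¬ 2 ∣ (bar c R1).index := by
  have h1 : (bar c R1).comap (pr c) = (R1.map c.ι).subgroupOf (CU c) := by
    ext g
    rw [mem_comap, pr_mem_bar c U_le_R1 le_rfl, mem_subgroupOf, mem_map]
  have h2 : ((bar c R1).comap (pr c)).index = (bar c R1).index :=
    index_comap_of_surjective _ (pr_surj c)
  rw [← h2, h1]
  exact UFusion.u_sylow c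

/-- the Sylow 2-subgroup -/
noncomputable def TT [Finite G] : Sylow 2 (HH c) :=
  haveI : Fact (Nat.Prime 2) := ⟨Nat.prime_two⟩
  (isPGroup_bar c R1).toSylow (bar_index c)

theorem coe_TT [Finite G] : ((TT c : Sylow 2 (HH c)) : Subgroup (HH c)) = bar c R1 := rfl

/-! ### the element normalising `R1` -/

/-- the abstract facts about `Q`, `Q'` -/
structure Pair (A A' : Subgroup SM) : Prop where
  OmA : OmU ≤ A
  AR : A ≤ R1
  A'R : A' ≤ R1
  fac : ∀ a ∈ R1, ∃ q ∈ A, ∃ j ∈ J, a = q * j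
  nle : ¬ A' ≤ A
  sq : ∀ x ∈ A', x * x = 1 ∨ x * x = z0
  cov : ∀ x ∈ R1, (x * x = 1 ∨ x * x = z0) → x ∈ A ∨ x ∈ A'
  inf : ∀ x ∈ A', x ∈ J → x ∈ OmU

theorem pair_QQ' : Pair Q Q' where
  OmA := OmU_le_Q
  AR := Q_le_R1
  A'R := Q'_le_R1
  fac := fun _ h => exists_QJ h
  nle := fun h => Q_ne_Q' (eq_of_le_of_card_ge h (by rw [card_Q, card_Q'])).ge
  sq := fun _ h => sq_Q' h
  cov := fun _ h1 h2 => mem_Q_or_Q' h1 (by rcases h2 with h | h <;> simp [h])
  inf := fun _ h1 h2 => Q'_inf_J h1 h2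

theorem pair_Q'Q : Pair Q' Q where
  OmA := OmU_le_Q'
  AR := Q'_le_R1
  A'R := Q_le_R1
  fac := fun _ h => exists_Q'J h
  nle := Q_ne_Q'
  sq := fun _ h => sq_Q h
  cov := fun _ h1 h2 => (mem_Q_or_Q' h1 (by rcases h2 with h | h <;> simp [h])).symm
  inf := fun _ h1 h2 => Q_inf_J h1 h2

theorem half [Finite G] (hWJ : WJ c) {g : G} (hgu : g ∈ CU c)
    (hgR : ∀ x ∈ R1, ∃ y ∈ R1, g * c.ι x * g⁻¹ = c.ι y) {A A' : Subgroup SM} (hP : Pair A A')
    (h : ∀ x ∈ A, ∃ y ∈ OmU, c.ι y = g * c.ι x * g⁻¹ * (c.ι x)⁻¹) :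
    ∀ x ∈ A', ∃ y ∈ OmU, c.ι y = g * c.ι x * g⁻¹ * (c.ι x)⁻¹ := by
  -- `g` normalises `A`
  have hA : ∀ x ∈ A, ∃ y ∈ A, g * c.ι x * g⁻¹ = c.ι y := by
    intro x hx
    obtain ⟨y, hy, hyx⟩ := h x hx
    refine ⟨y * x, A.mul_mem (hP.OmA hy) hx, ?_⟩
    rw [map_mul, hyx, inv_mul_cancel_right]
  have htrA : tr c g A = A := by
    refine eq_of_le_of_card_ge ?_ ?_
    · intro y hy
      obtain ⟨x, hx, hxy⟩ := (mem_tr c).mp hy
      obtain ⟨y', hy', hxy'⟩ := hA x hx
      rwa [c.inj (hxy.symm.trans hxy')]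
    · rw [card_tr c (fun x hx => by
        obtain ⟨y, -, hy⟩ := hA x hx
        exact ⟨y, hy⟩)]
  have hgz := (mem_Cz c).mp (CU_le_Cz c hgu)
  -- `g` normalises `A'`
  have hA' : ∀ x ∈ A', ∃ y ∈ A', g * c.ι x * g⁻¹ = c.ι y := by
    have h1 : tr c g A' ≤ A ∨ tr c g A' ≤ A' := by
      rw [← SubgroupClass.subset_union]
      intro y hy
      obtain ⟨x, hx, hxy⟩ := (mem_tr c).mp hy
      obtain ⟨y', hy', hxy'⟩ := hgR x (hP.A'R hx)
      have e : y = y' := c.inj (by rw [← hxy, hxy'])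
      subst e
      refine hP.cov y hy' ?_
      rcases hP.sq x hx with h1 | h1
      · left; apply c.inj
        rw [map_mul, ← hxy, ← conj_map_mul, ← map_mul, h1, map_one]; group
      · right; apply c.inj
        rw [map_mul, ← hxy, ← conj_map_mul, ← map_mul, h1]
        exact hgz
    rcases h1 with h1 | h1
    · exfalso
      apply hP.nle
      intro x hx
      obtain ⟨y, -, hy⟩ := hgR x (hP.A'R hx)
      have h2 : y ∈ tr c g A := by
        rw [htrA]
        exact h1 ((mem_tr c).mpr ⟨x, hx, hy⟩)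
      obtain ⟨x', hx', hxy'⟩ := (mem_tr c).mp h2
      rwa [c.inj (conj_inj (hy.trans hxy'.symm))]
    · intro x hx
      obtain ⟨y, -, hy⟩ := hgR x (hP.A'R hx)
      exact ⟨y, h1 ((mem_tr c).mpr ⟨x, hx, hy⟩), hy⟩
  -- `g` normalises `J`
  have hJ := hWJ g (fun x hx => by
    obtain ⟨y, -, hy⟩ := hgR x (FactsJ.J_le_R1 hx)
    exact ⟨y, hy⟩)
  intro a ha
  obtain ⟨q, hq, j, hj, rfl⟩ := hP.fac a (hP.A'R ha)
  obtain ⟨y₁, hy₁, hy₁'⟩ := h q hq
  obtain ⟨j', hj', hjj'⟩ := hJ j hj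
  obtain ⟨y, hy, hyy⟩ := hA' (q * j) ha
  have h1 : y * (q * j)⁻¹ ∈ A' := A'.mul_mem hy (A'.inv_mem ha)
  have h2 : y * (q * j)⁻¹ = y₁ * (q * (j' * j⁻¹) * q⁻¹) := by
    apply c.inj
    rw [map_mul, ← hyy, map_mul c.ι y₁, hy₁']
    simp only [map_mul, map_inv, ← hjj']
    group
  have h3 : y * (q * j)⁻¹ ∈ J := by
    rw [h2]
    exact J.mul_mem (OmU_le_J hy₁) (FactsJ.J_normal.conj_mem _ (J.mul_mem hj' (J.inv_mem hj)) q)
  refine ⟨y * (q * j)⁻¹, hP.inf _ h1 h3, ?_⟩
  rw [map_mul, ← hyy, map_inv]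

/-- the condition `hJ` of Lemma H -/
theorem hJ_iff [Finite G] (hWJ : WJ c) {n : HH c} (hn : n ∈ normalizer ((TT c : Subgroup (HH c)) :
    Set (HH c))) : (∀ a ∈ bar c Q, n * a * n⁻¹ * a⁻¹ ∈ bar c OmU) ↔
      (∀ a ∈ bar c Q', n * a * n⁻¹ * a⁻¹ ∈ bar c OmU) := by
  obtain ⟨g, rfl⟩ := pr_surj c n
  have hOR : OmU ≤ R1 := OmU_le_Q.trans Q_le_R1
  have hgR : ∀ x ∈ R1, ∃ y ∈ R1, (g : G) * c.ι x * (g : G)⁻¹ = c.ι y := by
    intro x hx
    have h1 : pr c g * ff c ⟨x, hx⟩ * (pr c g)⁻¹ ∈ bar c R1 := by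
      rw [← coe_TT c]
      refine (mem_normalizer_iff.mp hn _).mp ?_
      rw [coe_TT c]
      exact (ff_mem_bar c U_le_R1 le_rfl).mpr hx
    rw [ff_apply, ← map_mul, ← map_inv, ← map_mul, pr_mem_bar c U_le_R1 le_rfl] at h1
    obtain ⟨y, hy, hyg⟩ := h1
    exact ⟨y, hy, hyg.symm⟩
  have key : ∀ {A : Subgroup SM}, U ≤ A → A ≤ R1 →
      ((∀ a ∈ bar c A, pr c g * a * (pr c g)⁻¹ * a⁻¹ ∈ bar c OmU) ↔
        ∀ x ∈ A, ∃ y ∈ OmU, c.ι y = g * c.ι x * (g : G)⁻¹ * (c.ι x)⁻¹) := by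
    intro A hUA hAR
    constructor
    · intro h x hx
      have h1 := h (ff c ⟨x, hAR hx⟩) ((ff_mem_bar c hUA hAR).mpr hx)
      rw [ff_apply, ← map_mul, ← map_inv, ← map_mul, ← map_inv, ← map_mul,
        pr_mem_bar c U_le_OmU hOR] at h1
      exact h1
    · intro h a ha
      obtain ⟨x, hx, rfl⟩ := exists_of_mem c ha
      rw [ff_apply, ← map_mul, ← map_inv, ← map_mul, ← map_inv, ← map_mul,
        pr_mem_bar c U_le_OmU hOR]
      exact h x hx
  rw [key (U_le_OmU.trans OmU_le_Q) Q_le_R1, key (U_le_OmU.trans OmU_le_Q') Q'_le_R1]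
  exact ⟨half c hWJ g.2 hgR pair_QQ', half c hWJ g.2 hgR pair_Q'Q⟩

/-! ### the configuration -/

theorem bar_inf : bar c OmU = bar c Q ⊓ bar c Q' := by
  apply le_antisymm
  · exact le_inf (bar_mono c OmU_le_Q) (bar_mono c OmU_le_Q')
  · rintro h ⟨h1, h2⟩
    obtain ⟨x, hx, rfl⟩ := exists_of_mem c h1
    have h3 : (x : SM) ∈ Q' := (ff_mem_bar c (U_le_OmU.trans OmU_le_Q') Q'_le_R1).mp h2
    rw [ff_mem_bar c U_le_OmU (OmU_le_Q.trans Q_le_R1)]
    exact ⟨hx, h3⟩

theorem ff_sq {X : Subgroup SM} (hX : ∀ x ∈ X, x * x ∈ U) : ∀ a ∈ bar c X, a * a = 1 := by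
  intro a ha
  obtain ⟨x, hx, rfl⟩ := exists_of_mem c ha
  rw [← map_mul, ff_eq_one]
  exact hX _ hx

theorem ff_comm_iff {x y : R1} :
    ff c x * ff c y = ff c y * ff c x ↔ (x : SM) * y * (x : SM)⁻¹ * (y : SM)⁻¹ ∈ U := by
  have h1 : ff c x * ff c y = ff c y * ff c x ↔ ff c (x * y * x⁻¹ * y⁻¹) = 1 := by
    simp only [map_mul, map_inv]
    rw [mul_inv_eq_one, mul_inv_eq_iff_eq_mul]
  rw [h1, ff_eq_one]
  rfl

open scoped commutatorElement in
theorem commutator_bar : ⁅bar c Q, bar c Q'⁆ = bar c OmU := by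
  have hOR : OmU ≤ R1 := OmU_le_Q.trans Q_le_R1
  apply le_antisymm
  · rw [commutator_le]
    intro a ha b hb
    obtain ⟨x, hx, rfl⟩ := exists_of_mem c ha
    obtain ⟨y, hy, rfl⟩ := exists_of_mem c hb
    rw [commutatorElement_def, ← map_inv, ← map_inv, ← map_mul, ← map_mul, ← map_mul,
      ff_mem_bar c U_le_OmU hOR]
    exact cm_QQ' hx hy
  · intro a ha
    obtain ⟨w, hw, rfl⟩ := exists_of_mem c ha
    obtain ⟨x, hx, y, hy, h1⟩ := exists_cm hw
    have h2 : ff c w = ⁅ff c ⟨x, Q_le_R1 hx⟩, ff c ⟨y, Q'_le_R1 hy⟩⁆ := by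
      rw [commutatorElement_def, ← map_inv, ← map_inv, ← map_mul, ← map_mul, ← map_mul,
        eq_comm, ← inv_mul_eq_one, ← map_inv, ← map_mul, ff_eq_one]
      exact h1
    rw [h2]
    exact commutator_mem_commutator
      ((ff_mem_bar c (x := ⟨x, Q_le_R1 hx⟩) (U_le_OmU.trans OmU_le_Q) Q_le_R1).mpr hx)
      ((ff_mem_bar c (x := ⟨y, Q'_le_R1 hy⟩) (U_le_OmU.trans OmU_le_Q') Q'_le_R1).mpr hy)

end Cfsg.Agent.HSType.StructQ
end

-- part: HSType/StructBN
section
/-!
# From `C_G(u)` to `C_G(z)`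
-/

set_option autoImplicit false
set_option maxHeartbeats 400000

namespace Cfsg.Agent.HSType.StructBN

open Subgroup Cfsg.Agent.HSType.Model Cfsg.Agent.HSType.Facts Cfsg.Agent.HSType.FactsU
  Cfsg.Agent.HSType.Basic Cfsg.Agent.HSType.Trans Cfsg.Agent.HSType.Spec
  Cfsg.Agent.HSType.StructFacts Cfsg.Agent.HSType.StructTools Cfsg.Agent.HSType.StructQ

section gen

variable {X : Type*} [Group X]

/-- the product of two odd groups, one normalising the other, is odd. -/
theorem odd_sup [Finite X] {N O : Subgroup X} (hN : Odd (Nat.card N)) (hO : Odd (Nat.card O))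
    (h : ∀ u ∈ O, ∀ x ∈ N, u * x * u⁻¹ ∈ N) : Odd (Nat.card ↥(N ⊔ O)) := by
  have : Fact (Nat.Prime 2) := ⟨Nat.prime_two⟩
  by_contra hcon
  rw [Nat.not_odd_iff_even, even_iff_two_dvd] at hcon
  obtain ⟨x, hx⟩ := exists_prime_orderOf_dvd_card' 2 hcon
  have hx2 : (x : X) * x = 1 := by
    have h1 : x ^ 2 = 1 := by rw [← hx, pow_orderOf_eq_one]
    have h2 := congrArg Subtype.val h1
    rw [pow_two] at h2
    exact h2
  obtain ⟨a, ha, b, hb, hab⟩ := mem_sup_fac h x.2
  -- `b * b ∈ N`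
  have h1 : b * b ∈ N := by
    have h2 : a * (b * a * b⁻¹) * (b * b) = 1 := by
      rw [← hx2, hab]; group
    have h3 : b * b = (a * (b * a * b⁻¹))⁻¹ := (inv_eq_of_mul_eq_one_right h2).symm
    rw [h3]
    exact inv_mem (mul_mem ha (h b hb a ha))
  have h2 : b ∈ N := by
    have h3 : Odd (orderOf b) := Odd.of_dvd_nat hO (Subgroup.orderOf_dvd_natCard O hb)
    obtain ⟨k, hk⟩ := h3
    have h4 : b = ((b * b) ^ k)⁻¹ := by
      have h5 : b ^ (2 * k + 1) = 1 := by rw [← hk, pow_orderOf_eq_one]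
      rw [pow_succ, pow_mul, pow_two] at h5
      exact (inv_eq_of_mul_eq_one_right h5).symm
    rw [h4]
    exact inv_mem (pow_mem h1 k)
  have h3 : (x : X) ∈ N := by rw [hab]; exact mul_mem ha h2
  have h4 : orderOf (x : X) ∣ Nat.card N := Subgroup.orderOf_dvd_natCard N h3
  rw [Subgroup.orderOf_coe, hx] at h4
  exact (Nat.not_even_iff_odd.mpr hN) (even_iff_two_dvd.mpr h4)

end gen

universe u

variable {G : Type u} [Group G] (c : Ctx G)

theorem u0_pow : c.ι u0 ^ (2 ^ 2) = 1 := by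
  have h : u0 ^ (2 ^ 2) = 1 := by
    have h1 : u0 ^ (2 ^ 2) = (u0 * u0) * (u0 * u0) := by
      norm_num [pow_succ, mul_assoc]
    rw [h1, u0_sq, z0_sq]
  rw [← map_pow, h, map_one]

theorem u0z0_pow : c.ι (u0 * z0) ^ (2 ^ 2) = 1 := by
  have h : (u0 * z0) ^ (2 ^ 2) = 1 := by
    rw [← u0_inv, inv_pow, inv_eq_one]
    have h1 : u0 ^ (2 ^ 2) = (u0 * u0) * (u0 * u0) := by
      norm_num [pow_succ, mul_assoc]
    rw [h1, u0_sq, z0_sq]
  rw [← map_pow, h, map_one]

theorem conj_pow_two {g x : G} (hx : x ^ (2 ^ 2) = 1) : (g * x * g⁻¹) ^ (2 ^ 2) = 1 := by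
  rw [conj_pow, hx, mul_one, mul_inv_cancel]

theorem s_conj {s : SM} (hs : s * u0 * s⁻¹ = u0 * z0) :
    c.ι s * c.ι (u0 * z0) * (c.ι s)⁻¹ = c.ι u0 := by
  rw [← map_mul, ← map_inv, ← map_mul]
  congr 1
  have h1 : s * (u0 * z0) * s⁻¹ = (s * u0 * s⁻¹) * (s * z0 * s⁻¹) := by group
  rw [h1, hs, z0_central s, mul_inv_cancel_right, mul_assoc, z0_sq, mul_one]

/-- Frattini: `C_G(z) = N C_G(u) ⟨s⟩` -/
theorem frattini [Finite G] {N : Subgroup G} (hN : ZN c N) {s : SM}
    (hs : s * u0 * s⁻¹ = u0 * z0) {g : G} (hg : g ∈ Cz c) :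
    ∃ k ∈ N, ∃ h ∈ CU c, g = k * h ∨ g = (c.ι s)⁻¹ * (k * h) := by
  have hNodd : ¬ 2 ∣ Nat.card N := fun h =>
    (Nat.not_even_iff_odd.mpr hN.odd) (even_iff_two_dvd.mpr h)
  have huC : c.ι u0 ∈ Cz c := range_le_Cz c ⟨u0, rfl⟩
  have key : ∀ g ∈ Cz c, ∀ n ∈ N, g * c.ι u0 * g⁻¹ = n * c.ι u0 → ∃ k ∈ N, ∃ h ∈ CU c,
      g = k * h := by
    intro g hg n hn h1
    obtain ⟨k, hk, hk'⟩ := conj_of_mul hNodd hn (fun x hx => hN.norm _ huC x hx) h1
      (u0_pow c) (conj_pow_two (u0_pow c))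
    refine ⟨k⁻¹, inv_mem hk, k * g, ?_, by group⟩
    rw [mem_CU]
    have h2 : k * g * c.ι u0 * (k * g)⁻¹ = k * (g * c.ι u0 * g⁻¹) * k⁻¹ := by group
    rw [h2]
    exact hk'
  obtain ⟨n, hn, h1 | h1⟩ := hN.mv g hg
  · obtain ⟨k, hk, h, hh, e⟩ := key g hg n hn h1
    exact ⟨k, hk, h, hh, Or.inl e⟩
  · have hsC : c.ι s ∈ Cz c := range_le_Cz c ⟨s, rfl⟩
    have h2 : (c.ι s * g) * c.ι u0 * (c.ι s * g)⁻¹ = (c.ι s * n * (c.ι s)⁻¹) * c.ι u0 := by
      have h3 : (c.ι s * g) * c.ι u0 * (c.ι s * g)⁻¹ = c.ι s * (g * c.ι u0 * g⁻¹) * (c.ι s)⁻¹ := by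
        group
      rw [h3, h1]
      have h4 : c.ι s * (n * c.ι (u0 * z0)) * (c.ι s)⁻¹ =
        (c.ι s * n * (c.ι s)⁻¹) * (c.ι s * c.ι (u0 * z0) * (c.ι s)⁻¹) := by group
      rw [h4, s_conj c hs]
    obtain ⟨k, hk, h, hh, e⟩ := key (c.ι s * g) ((Cz c).mul_mem hsC hg) _
      (hN.norm _ hsC n hn) h2
    refine ⟨k, hk, h, hh, Or.inr ?_⟩
    rw [← e]; group

/-- `N O(C(u))` -/
theorem bn_of_cu [Finite G] {N : Subgroup G} (hN : ZN c N) {B : Subgroup SM}
    (hBn : ∀ s x : SM, x ∈ B → s * x * s⁻¹ ∈ B)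
    (hCU : ∀ g ∈ CU c, ∀ x ∈ B, ∃ n ∈ (Cfsg.oddCore (CU c)).map (CU c).subtype, ∃ y ∈ B,
      g * c.ι x * g⁻¹ = n * c.ι y) : ∃ N', BN c B N' := by
  obtain ⟨s, -, hs⟩ := exists_s
  set O : Subgroup G := (Cfsg.oddCore (CU c)).map (CU c).subtype with hO
  have hOn : (Cfsg.oddCore (CU c)).Normal := Lib.Cores.pPrimeCore_normal (G := CU c) 2
  have hOc := Lib.Cores.pPrimeCore_coprime (G := CU c) 2
  have hOle : O ≤ CU c := Subgroup.map_subtype_le _
  have hOodd : Odd (Nat.card O) := by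
    rw [hO, card_map_of_injective (CU c).subtype_injective]
    exact Nat.coprime_two_right.mp hOc
  have hNO : ∀ u ∈ O, ∀ x ∈ N, u * x * u⁻¹ ∈ N := fun u hu x hx =>
    hN.norm u (CU_le_Cz c (hOle hu)) x hx
  -- elements normalising `N'`
  have hfacN : ∀ x ∈ N ⊔ O, ∃ a ∈ N, ∃ b ∈ O, x = a * b := fun x hx => mem_sup_fac hNO hx
  -- `ι t` normalises `O`
  have hOt : ∀ t : SM, ∀ x ∈ O, c.ι t * x * (c.ι t)⁻¹ ∈ O := by
    intro t
    -- `ι t` normalises `C(u)`
    have hC : ∀ x ∈ CU c, c.ι t * x * (c.ι t)⁻¹ ∈ CU c := by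
      intro x hx
      by_cases ht : t ∈ R1
      · exact (CU c).mul_mem ((CU c).mul_mem (ι_mem_CU c ht) hx) ((CU c).inv_mem (ι_mem_CU c ht))
      · have h1 := inverts ht
        have h2 : t⁻¹ * u0 * t = u0 * z0 := by
          have h3 : t * (u0 * z0) = u0 * t := by
            rw [← mul_assoc, h1, mul_assoc, z0_central t, ← mul_assoc, mul_assoc u0, z0_sq, mul_one]
          rw [mul_assoc, ← h3, inv_mul_cancel_left]
        have hxz : x * c.ι z0 * x⁻¹ = c.ι z0 := (mem_Cz c).mp (CU_le_Cz c hx)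
        have hxu := (mem_CU c).mp hx
        rw [mem_CU]
        have h4 : c.ι t * x * (c.ι t)⁻¹ * c.ι u0 * (c.ι t * x * (c.ι t)⁻¹)⁻¹ =
            c.ι t * (x * ((c.ι t)⁻¹ * c.ι u0 * c.ι t) * x⁻¹) * (c.ι t)⁻¹ := by group
        rw [h4, ← map_inv, ← map_mul, ← map_mul, h2, map_mul, conj_map_mul, hxu, hxz, ← map_mul,
          ← map_mul, ← map_mul]
        congr 1
        rw [← h2]; group
    have hCi : ∀ x ∈ CU c, (c.ι t)⁻¹ * x * c.ι t ∈ CU c := by
      have h1 : c.ι t ∈ normalizer ((CU c : Subgroup G) : Set G) := mem_normalizer_of_forall hC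
      intro x hx
      have h2 := conj_mem_of_mem_normalizer (inv_mem h1) hx
      rwa [inv_inv] at h2
    let e : CU c ≃* CU c :=
      { toFun := fun x => ⟨_, hC x x.2⟩
        invFun := fun x => ⟨_, hCi x x.2⟩
        left_inv := fun x => Subtype.ext (by
          show (c.ι t)⁻¹ * (c.ι t * (x : G) * (c.ι t)⁻¹) * c.ι t = x
          group)
        right_inv := fun x => Subtype.ext (by
          show c.ι t * ((c.ι t)⁻¹ * (x : G) * c.ι t) * (c.ι t)⁻¹ = x
          group)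
        map_mul' := fun x y => Subtype.ext (by
          show c.ι t * ((x : G) * y) * (c.ι t)⁻¹ = c.ι t * x * (c.ι t)⁻¹ * (c.ι t * y * (c.ι t)⁻¹)
          group) }
    rintro _ ⟨x, hx, rfl⟩
    have h1 : (Cfsg.oddCore (CU c)).map e.toMonoidHom ≤ Cfsg.oddCore (CU c) := by
      apply le_sSup
      refine ⟨hOn.map _ e.surjective, ?_⟩
      rw [card_map_of_injective e.injective]
      exact hOc
    exact ⟨e x, h1 ⟨x, hx, rfl⟩, rfl⟩
  -- the predicate
  let Good : G → Prop := fun g => (∀ x ∈ N ⊔ O, g * x * g⁻¹ ∈ N ⊔ O) ∧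
    ∀ x ∈ B, ∃ n ∈ N ⊔ O, ∃ y ∈ B, g * c.ι x * g⁻¹ = n * c.ι y
  have hmul : ∀ g h : G, Good g → Good h → Good (g * h) := by
    rintro g h ⟨hg1, hg2⟩ ⟨hh1, hh2⟩
    refine ⟨fun x hx => ?_, fun x hx => ?_⟩
    · have h1 := hg1 _ (hh1 x hx)
      have h2 : g * (h * x * h⁻¹) * g⁻¹ = g * h * x * (g * h)⁻¹ := by group
      rwa [h2] at h1
    · obtain ⟨n, hn, y, hy, h1⟩ := hh2 x hx
      obtain ⟨n', hn', y', hy', h2⟩ := hg2 y hy
      refine ⟨g * n * g⁻¹ * n', mul_mem (hg1 n hn) hn', y', hy', ?_⟩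
      have h3 : g * h * c.ι x * (g * h)⁻¹ = g * (h * c.ι x * h⁻¹) * g⁻¹ := by group
      rw [h3, h1]
      have h4 : g * (n * c.ι y) * g⁻¹ = g * n * g⁻¹ * (g * c.ι y * g⁻¹) := by group
      rw [h4, h2]; group
  have hgN : ∀ k ∈ N, Good k := by
    intro k hk
    refine ⟨fun x hx => mul_mem (mul_mem (mem_sup_left hk) hx) (inv_mem (mem_sup_left hk)),
      fun x hx => ?_⟩
    refine ⟨k * (c.ι x * k⁻¹ * (c.ι x)⁻¹), mem_sup_left (mul_mem hk
      (hN.norm _ (range_le_Cz c ⟨x, rfl⟩) _ (inv_mem hk))), x, hx, by group⟩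
  have hgU : ∀ h ∈ CU c, Good h := by
    intro h hh
    refine ⟨fun x hx => ?_, fun x hx => ?_⟩
    · obtain ⟨a, ha, b, hb, rfl⟩ := hfacN x hx
      have h1 : h * (a * b) * h⁻¹ = (h * a * h⁻¹) * (h * b * h⁻¹) := by group
      rw [h1]
      refine mul_mem (mem_sup_left (hN.norm h (CU_le_Cz c hh) a ha)) (mem_sup_right ?_)
      obtain ⟨b', hb', rfl⟩ := hb
      exact ⟨_, hOn.conj_mem b' hb' ⟨h, hh⟩, rfl⟩
    · obtain ⟨n, hn, y, hy, h1⟩ := hCU h hh x hx
      exact ⟨n, mem_sup_right hn, y, hy, h1⟩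
  have hgS : ∀ t : SM, Good (c.ι t) := by
    intro t
    refine ⟨fun x hx => ?_, fun x hx => ?_⟩
    · obtain ⟨a, ha, b, hb, rfl⟩ := hfacN x hx
      have h1 : c.ι t * (a * b) * (c.ι t)⁻¹ =
        (c.ι t * a * (c.ι t)⁻¹) * (c.ι t * b * (c.ι t)⁻¹) := by group
      rw [h1]
      exact mul_mem (mem_sup_left (hN.norm _ (range_le_Cz c ⟨t, rfl⟩) a ha))
        (mem_sup_right (hOt t b hb))
    · refine ⟨1, one_mem _, t * x * t⁻¹, hBn t x hx, ?_⟩
      rw [one_mul, map_mul, map_mul, map_inv]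
  have hall : ∀ g ∈ Cz c, Good g := by
    intro g hg
    obtain ⟨k, hk, h, hh, e | e⟩ := frattini c hN hs hg
    · rw [e]; exact hmul _ _ (hgN k hk) (hgU h hh)
    · rw [e, ← map_inv]; exact hmul _ _ (hgS _) (hmul _ _ (hgN k hk) (hgU h hh))
  exact ⟨N ⊔ O,
    { le := sup_le hN.le (hOle.trans (CU_le_Cz c))
      odd := odd_sup hN.odd hOodd hNO
      norm := fun g hg n hn => (hall g hg).1 n hn
      mv := fun g hg x hx => (hall g hg).2 x hx }⟩

end Cfsg.Agent.HSType.StructBN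
end

-- part: HSType/Struct
section
/-!
# The structure of `C_G(z)` from Lemma H
-/

set_option autoImplicit false
set_option maxHeartbeats 400000

namespace Cfsg.Agent.HSType.Struct

open Subgroup Cfsg.Agent.HSType.Model Cfsg.Agent.HSType.Facts Cfsg.Agent.HSType.FactsU
  Cfsg.Agent.HSType.Basic Cfsg.Agent.HSType.Trans Cfsg.Agent.HSType.Spec
  Cfsg.Agent.HSType.StructFacts Cfsg.Agent.HSType.StructTools Cfsg.Agent.HSType.StructQ
  Cfsg.Agent.HSType.StructBN
open Cfsg.Agent.J2Sylow.Functor (SolvFun OddSolv)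

universe u

variable {G : Type u} [Group G] (c : Ctx G)

theorem OmU_le_R1 : OmU ≤ R1 := OmU_le_Q.trans Q_le_R1

theorem a0_R1 : a0 ∈ R1 := OmU_le_R1 a0_mem_OmU

/-- the image of `a` -/
def aa : HH c := ff c ⟨a0, a0_R1⟩

/-! ### `C(u)` modulo `⟨u⟩`: the centralizer of the image of `a` is 2-nilpotent -/

/-- elements of odd order of `C(V)` lie in `M` -/
theorem odd_mem [Finite G] {M : Subgroup G} (hM : KN c M) {x : G} (hx : x ∈ KV c)
    (hodd : Odd (orderOf x)) : x ∈ M := by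
  obtain ⟨n, hn, r, hr, e⟩ := hM.prod x hx
  -- powers of `x` modulo `M`
  have hnK := hM.le hn
  have hrK : c.ι r ∈ KV c := by
    have h1 : c.ι r = n⁻¹ * x := by rw [e]; group
    rw [h1]; exact mul_mem (inv_mem hnK) hx
  have hpow : ∀ k : ℕ, ∃ m ∈ M, x ^ k = m * c.ι r ^ k := by
    intro k
    induction k with
    | zero => exact ⟨1, one_mem _, by simp⟩
    | succ k ih =>
      obtain ⟨m, hm, hk⟩ := ih
      refine ⟨m * (c.ι r ^ k * n * (c.ι r ^ k)⁻¹), mul_mem hm
        (hM.norm _ (pow_mem hrK k) n hn), ?_⟩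
      rw [pow_succ, hk, e, pow_succ]; group
  have h512 : r ^ 512 = 1 := by
    have h1 : orderOf r ∣ Nat.card SM := orderOf_dvd_natCard r
    rw [card_SM] at h1
    exact orderOf_dvd_iff_pow_eq_one.mp h1
  obtain ⟨m, hm, h1⟩ := hpow 512
  rw [← map_pow, h512, map_one, mul_one] at h1
  -- `x` is a power of `x ^ 512`
  have hcop : Nat.Coprime 512 (orderOf x) := by
    have : (512 : ℕ) = 2 ^ 9 := by norm_num
    rw [this]
    exact Nat.Coprime.pow_left 9 (Nat.coprime_two_left.mpr hodd)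
  obtain ⟨k, hk⟩ := exists_pow_eq_self_of_coprime hcop
  rw [← hk, h1]
  exact pow_mem hm k

/-- the group `{g ∈ C(u) : aᵍ ∈ {a, az}}` -/
theorem conj_M [Finite G] {M : Subgroup G} (hM : KN c M) {g : G} (hgz : g ∈ Cz c)
    (hga : g * c.ι a0 * g⁻¹ = c.ι a0 ∨ g * c.ι a0 * g⁻¹ = c.ι (a0 * z0)) {x : G} (hx : x ∈ M) :
    g * x * g⁻¹ ∈ M := by
  have hxK := (KNil.mem_KV c).mp (hM.le hx)
  have hgz' := (mem_Cz c).mp hgz
  have hxz : x * c.ι z0 * x⁻¹ = c.ι z0 := by rw [hxK.1, mul_inv_cancel_right]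
  have hxa : x * c.ι a0 * x⁻¹ = c.ι a0 := by rw [hxK.2, mul_inv_cancel_right]
  have h1 : g * x * g⁻¹ ∈ KV c := by
    rw [KNil.mem_KV]
    constructor
    · rw [← mul_inv_eq_iff_eq_mul]
      have h2 : g * x * g⁻¹ * c.ι z0 * (g * x * g⁻¹)⁻¹ = g * (x * (g⁻¹ * c.ι z0 * g) * x⁻¹) * g⁻¹ := by
        group
      have h3 : g⁻¹ * c.ι z0 * g = c.ι z0 := by
        conv_lhs => rw [← hgz']
        group
      rw [h2, h3, hxz, hgz']
    · rw [← mul_inv_eq_iff_eq_mul]
      have h2 : g * x * g⁻¹ * c.ι a0 * (g * x * g⁻¹)⁻¹ = g * (x * (g⁻¹ * c.ι a0 * g) * x⁻¹) * g⁻¹ := by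
        group
      rcases hga with h3 | h3
      · have h4 : g⁻¹ * c.ι a0 * g = c.ι a0 := by
          conv_lhs => rw [← h3]
          group
        rw [h2, h4, hxa, h3]
      · have h4 : g⁻¹ * c.ι a0 * g = c.ι (a0 * z0) := by
          have h5 : g⁻¹ * c.ι (a0 * z0) * g = c.ι a0 := by
            rw [← h3]; group
          have h6 : g⁻¹ * c.ι z0 * g = c.ι z0 := by
            conv_lhs => rw [← hgz']
            group
          have h7 : g⁻¹ * c.ι (a0 * z0) * g = g⁻¹ * c.ι a0 * g * (g⁻¹ * c.ι z0 * g) := by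
            rw [map_mul]; group
          rw [h7, h6] at h5
          have h8 : c.ι z0 * c.ι z0 = 1 := by rw [← map_mul, z0_sq, map_one]
          calc g⁻¹ * c.ι a0 * g = g⁻¹ * c.ι a0 * g * (c.ι z0 * c.ι z0) := by rw [h8, mul_one]
            _ = (g⁻¹ * c.ι a0 * g * c.ι z0) * c.ι z0 := (mul_assoc _ _ _).symm
            _ = c.ι (a0 * z0) := by rw [h5, map_mul]
        rw [h2, h4]
        have h5 : x * c.ι (a0 * z0) * x⁻¹ = c.ι (a0 * z0) := by
          rw [map_mul, conj_map_mul, hxa, hxz]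
        rw [h5, map_mul, conj_map_mul, h3, hgz', ← map_mul, mul_assoc, z0_sq, mul_one]
  refine odd_mem c hM h1 ?_
  have h2 : orderOf (g * x * g⁻¹) = orderOf x :=
    orderOf_injective (MulAut.conj g).toMonoidHom (MulAut.conj g).injective x
  rw [h2]
  exact Odd.of_dvd_nat hM.odd (Subgroup.orderOf_dvd_natCard M hx)

/-- elements of `C(u)` centralising the image of `a` -/
theorem cent_aa {g : CU c} (hg : pr c g * aa c = aa c * pr c g) :
    (g : G) * c.ι a0 * (g : G)⁻¹ = c.ι a0 ∨ (g : G) * c.ι a0 * (g : G)⁻¹ = c.ι (a0 * z0) := by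
  have h1 : pr c (g * fc c ⟨a0, a0_R1⟩ * g⁻¹ * (fc c ⟨a0, a0_R1⟩)⁻¹) = 1 := by
    rw [map_mul, map_mul, map_mul, map_inv, map_inv, ← ff_apply]
    show pr c g * aa c * (pr c g)⁻¹ * (aa c)⁻¹ = 1
    rw [hg]; group
  obtain ⟨w, hw, hwg⟩ := (pr_eq_one c).mp h1
  have h2 : (g : G) * c.ι a0 * (g : G)⁻¹ = c.ι (w * a0) := by
    rw [map_mul, hwg]
    show (g : G) * c.ι a0 * (g : G)⁻¹ = (g : G) * c.ι a0 * (g : G)⁻¹ * (c.ι a0)⁻¹ * c.ι a0
    group
  have h3 : (w * a0) * (w * a0) = 1 := by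
    apply c.inj
    rw [map_mul, ← h2, ← conj_map_mul, ← map_mul, KNil.a0_sq, map_one]
    group
  have hu : u0 * a0 * (u0 * a0) ≠ 1 := by
    intro h
    have := congrArg SM.val h
    exact absurd this (by decide +kernel)
  have huz : u0 * z0 * a0 * (u0 * z0 * a0) ≠ 1 := by
    intro h
    have := congrArg SM.val h
    exact absurd this (by decide +kernel)
  rcases U_cases hw with rfl | rfl | rfl | rfl
  · left; rw [h2, one_mul]
  · exact absurd h3 hu
  · right; rw [h2, z0_central a0]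
  · exact absurd h3 huz

/-- `C_H(ā)` is 2-nilpotent -/
theorem nil_aa [Finite G] {M : Subgroup G} (hM : KN c M) : ∃ N₀ : Subgroup (HH c),
    N₀ ≤ centralizer ({aa c} : Set (HH c)) ∧ Odd (Nat.card N₀) ∧
    (∀ x ∈ centralizer ({aa c} : Set (HH c)), ∀ n ∈ N₀, x * n * x⁻¹ ∈ N₀) ∧
    ∀ x ∈ centralizer ({aa c} : Set (HH c)), ∃ n ∈ N₀, ∃ t ∈ bar c R1, x = n * t := by
  obtain ⟨r₁, hr₁, hr₁a⟩ := exists_r
  have hMle := hM.le
  refine ⟨(M.subgroupOf (CU c)).map (pr c), ?_, ?_, ?_, ?_⟩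
  · rintro _ ⟨m, hm, rfl⟩
    rw [mem_centralizer_singleton_iff]
    show pr c m * pr c (fc c ⟨a0, a0_R1⟩) = pr c (fc c ⟨a0, a0_R1⟩) * pr c m
    rw [← map_mul, ← map_mul]
    congr 1
    exact Subtype.ext ((KNil.mem_KV c).mp (hMle hm)).2
  · refine Odd.of_dvd_nat (n := Nat.card (M.subgroupOf (CU c))) ?_ (card_map_dvd _ _)
    have h1 : Nat.card (M.subgroupOf (CU c)) ∣ Nat.card M := by
      have h2 : (M.subgroupOf (CU c)).map (CU c).subtype ≤ M := by
        rintro _ ⟨x, hx, rfl⟩; exact hx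
      rw [← card_map_of_injective (f := (CU c).subtype) (CU c).subtype_injective]
      exact card_dvd_of_le h2
    exact Odd.of_dvd_nat hM.odd h1
  · rintro x hx _ ⟨m, hm, rfl⟩
    obtain ⟨g, rfl⟩ := pr_surj c x
    rw [mem_centralizer_singleton_iff] at hx
    refine ⟨g * m * g⁻¹, ?_, by rw [map_mul, map_mul, map_inv]⟩
    exact conj_M c hM (CU_le_Cz c g.2) (cent_aa c hx) hm
  · intro x hx
    obtain ⟨g, rfl⟩ := pr_surj c x
    rw [mem_centralizer_singleton_iff] at hx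
    -- the case where `g` centralises `a`
    have key : ∀ g ∈ CU c, g * c.ι a0 * g⁻¹ = c.ι a0 → ∃ m ∈ M, m ∈ CU c ∧ ∃ r ∈ R1,
        g = m * c.ι r := by
      intro g hg hga
      have hgz := (mem_Cz c).mp (CU_le_Cz c hg)
      have hgK : g ∈ KV c := by
        rw [KNil.mem_KV]
        exact ⟨mul_inv_eq_iff_eq_mul.mp hgz, mul_inv_eq_iff_eq_mul.mp hga⟩
      obtain ⟨m, hm, r, hr, e⟩ := hM.prod g hgK
      have huK : ∀ {x : SM}, x ∈ J → c.ι x ∈ KV c := fun hx =>
        KNil.map_R2_le c ⟨_, FactsJ.J_le_R2 hx, rfl⟩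
      have hrJ : r * u0 * r⁻¹ ∈ J := FactsJ.J_normal.conj_mem _ KNil.u0_mem_J r
      -- `m ι(r u r⁻¹) m⁻¹ = u`
      have h1 : m * c.ι (r * u0 * r⁻¹) * m⁻¹ = c.ι u0 := by
        have h2 := (mem_CU c).mp hg
        rw [e] at h2
        calc m * c.ι (r * u0 * r⁻¹) * m⁻¹ = (m * c.ι r) * c.ι u0 * (m * c.ι r)⁻¹ := by
              rw [map_mul, map_mul, map_inv]; group
          _ = c.ι u0 := h2
      have h2 : c.ι (r * u0 * r⁻¹ * u0⁻¹) ∈ M := by
        have h3 : c.ι (r * u0 * r⁻¹ * u0⁻¹) =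
            (c.ι (r * u0 * r⁻¹) * m * (c.ι (r * u0 * r⁻¹))⁻¹) * m⁻¹ := by
          rw [map_mul c.ι _ u0⁻¹, map_inv, ← h1]; group
        rw [h3]
        exact mul_mem (hM.norm _ (huK hrJ) m hm) (inv_mem hm)
      have h3 : r * u0 * r⁻¹ * u0⁻¹ = 1 := by
        apply c.inj
        rw [map_one]
        have h4 : orderOf (c.ι (r * u0 * r⁻¹ * u0⁻¹)) ∣ Nat.card M :=
          Subgroup.orderOf_dvd_natCard M h2
        have h5 : orderOf (c.ι (r * u0 * r⁻¹ * u0⁻¹)) ∣ 2 ^ 9 := by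
          rw [orderOf_injective c.ι c.inj]
          have := orderOf_dvd_natCard (r * u0 * r⁻¹ * u0⁻¹)
          rw [card_SM] at this
          norm_num
          exact this
        have h6 : (2 ^ 9).Coprime (Nat.card M) :=
          Nat.Coprime.pow_left 9 (Nat.coprime_two_left.mpr hM.odd)
        exact orderOf_eq_one_iff.1 (Nat.eq_one_of_dvd_coprimes h6 h5 h4)
      have hrR : r ∈ R1 := by
        show r ∈ centralizer ({u0} : Set SM)
        rw [mem_centralizer_singleton_iff, ← mul_inv_eq_iff_eq_mul]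
        exact mul_inv_eq_one.mp h3
      refine ⟨m, hm, ?_, r, hrR, e⟩
      have h4 : m = g * (c.ι r)⁻¹ := by rw [e]; group
      rw [h4]
      exact (CU c).mul_mem hg ((CU c).inv_mem (ι_mem_CU c hrR))
    have fin : ∀ (m r : G) (hm : m ∈ M) (hmC : m ∈ CU c) (t : SM) (ht : t ∈ R1),
        (g : G) = m * c.ι t → ∃ n ∈ (M.subgroupOf (CU c)).map (pr c), ∃ t ∈ bar c R1,
          pr c g = n * t := by
      intro m _ hm hmC t ht e
      refine ⟨pr c ⟨m, hmC⟩, ⟨⟨m, hmC⟩, hm, rfl⟩, ff c ⟨t, ht⟩,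
        (ff_mem_bar c U_le_R1 le_rfl).mpr ht, ?_⟩
      rw [ff_apply, ← map_mul]
      congr 1
      exact Subtype.ext e
    rcases cent_aa c hx with h1 | h1
    · obtain ⟨m, hm, hmC, r, hr, e⟩ := key g g.2 h1
      exact fin m 1 hm hmC r hr e
    · -- multiply by `r₁⁻¹`
      have hr₁C := ι_mem_CU c hr₁
      have hr₁z := (mem_Cz c).mp (CU_le_Cz c hr₁C)
      have hr₁a' : c.ι r₁ * c.ι a0 * (c.ι r₁)⁻¹ = c.ι (a0 * z0) := by
        rw [← hr₁a, map_mul, map_mul, map_inv]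
      have h2 : ((c.ι r₁)⁻¹ * (g : G)) * c.ι a0 * ((c.ι r₁)⁻¹ * (g : G))⁻¹ = c.ι a0 := by
        have h3 : ((c.ι r₁)⁻¹ * (g : G)) * c.ι a0 * ((c.ι r₁)⁻¹ * (g : G))⁻¹ =
          (c.ι r₁)⁻¹ * ((g : G) * c.ι a0 * (g : G)⁻¹) * c.ι r₁ := by group
        rw [h3, h1, ← hr₁a']; group
      obtain ⟨m, hm, hmC, r, hr, e⟩ := key _ ((CU c).mul_mem ((CU c).inv_mem hr₁C) g.2) h2
      refine fin (c.ι r₁ * m * (c.ι r₁)⁻¹) 1
        (conj_M c hM (CU_le_Cz c hr₁C) (Or.inr hr₁a') hm)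
        ((CU c).mul_mem ((CU c).mul_mem hr₁C hmC) ((CU c).inv_mem hr₁C)) (r₁ * r)
        (R1.mul_mem hr₁ hr) ?_
      rw [map_mul]
      have h3 : (g : G) = c.ι r₁ * ((c.ι r₁)⁻¹ * (g : G)) := by group
      rw [h3, e]; group

/-! ### transport of 2-nilpotence -/

/-- 2-nilpotence of the centralizer of a conjugate of `ā` lying in `Z(T)` -/
theorem nil_conj {H : Type*} [Group H] [Finite H] (T : Sylow 2 H) {a b h : H}
    (hb : h * b * h⁻¹ = a) (hTb : ∀ t ∈ T, t * b = b * t)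
    (hnil : ∃ N : Subgroup H, N ≤ centralizer ({a} : Set H) ∧
      Odd (Nat.card N) ∧ (∀ c ∈ centralizer ({a} : Set H), ∀ x ∈ N, c * x * c⁻¹ ∈ N) ∧
      ∀ c ∈ centralizer ({a} : Set H), ∃ n ∈ N, ∃ t ∈ T, c = n * t) :
    ∃ N : Subgroup H, N ≤ centralizer ({b} : Set H) ∧
      Odd (Nat.card N) ∧ (∀ c ∈ centralizer ({b} : Set H), ∀ x ∈ N, c * x * c⁻¹ ∈ N) ∧
      ∀ c ∈ centralizer ({b} : Set H), ∃ n ∈ N, ∃ t ∈ T, c = n * t := by
  have : Fact (Nat.Prime 2) := ⟨Nat.prime_two⟩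
  obtain ⟨N, hN1, hN2, hN3, hN4⟩ := hnil
  have hcent : ∀ x : H, x ∈ centralizer ({b} : Set H) ↔ h * x * h⁻¹ ∈ centralizer ({a} : Set H) := by
    intro x
    rw [mem_centralizer_singleton_iff, mem_centralizer_singleton_iff, ← hb]
    constructor
    · intro h1
      calc h * x * h⁻¹ * (h * b * h⁻¹) = h * (x * b) * h⁻¹ := by group
        _ = h * (b * x) * h⁻¹ := by rw [h1]
        _ = _ := by group
    · intro h1
      have h2 : h * (x * b) * h⁻¹ = h * (b * x) * h⁻¹ := by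
        calc h * (x * b) * h⁻¹ = h * x * h⁻¹ * (h * b * h⁻¹) := by group
          _ = _ := by rw [h1]; group
      exact mul_left_cancel (mul_right_cancel h2)
  set N' : Subgroup H := N.map (MulAut.conj h⁻¹).toMonoidHom with hN'
  have hmem : ∀ x : H, x ∈ N' ↔ h * x * h⁻¹ ∈ N := by
    intro x
    constructor
    · rintro ⟨n, hn, rfl⟩
      have : h * (h⁻¹ * n * h⁻¹⁻¹) * h⁻¹ = n := by group
      show h * (h⁻¹ * n * h⁻¹⁻¹) * h⁻¹ ∈ N
      rw [this]; exact hn
    · intro hx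
      refine ⟨_, hx, ?_⟩
      show h⁻¹ * (h * x * h⁻¹) * h⁻¹⁻¹ = x
      group
  have hC : N' ≤ centralizer ({b} : Set H) := fun x hx => (hcent x).mpr (hN1 ((hmem x).mp hx))
  have hodd : Odd (Nat.card N') := by
    rw [hN', card_map_of_injective (MulAut.conj h⁻¹).injective]; exact hN2
  have hnorm : ∀ c ∈ centralizer ({b} : Set H), ∀ x ∈ N', c * x * c⁻¹ ∈ N' := by
    intro c hc x hx
    rw [hmem] at hx ⊢
    have h1 := hN3 _ ((hcent c).mp hc) _ hx
    have h2 : h * c * h⁻¹ * (h * x * h⁻¹) * (h * c * h⁻¹)⁻¹ = h * (c * x * c⁻¹) * h⁻¹ := by group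
    rwa [h2] at h1
  refine ⟨N', hC, hodd, hnorm, ?_⟩
  -- `C(b) = N' T` by indices
  have hTC : (T : Subgroup H) ≤ centralizer ({b} : Set H) := fun t ht =>
    mem_centralizer_singleton_iff.mpr (hTb t ht)
  have hsup : N' ⊔ (T : Subgroup H) ≤ centralizer ({b} : Set H) := sup_le hC hTC
  have h1 : Odd ((N' ⊔ (T : Subgroup H)).relIndex (centralizer ({b} : Set H))) := by
    have h2 : (N' ⊔ (T : Subgroup H)).relIndex (centralizer ({b} : Set H)) ∣
        (T : Subgroup H).relIndex (centralizer ({b} : Set H)) :=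
      relIndex_dvd_of_le_left _ le_sup_right
    have h3 : (T : Subgroup H).relIndex (centralizer ({b} : Set H)) ∣ (T : Subgroup H).index :=
      relIndex_dvd_index_of_le hTC
    rw [← Nat.not_even_iff_odd, even_iff_two_dvd]
    exact fun h4 => T.not_dvd_index ((h4.trans h2).trans h3)
  have h2 : ∃ k : ℕ, (N' ⊔ (T : Subgroup H)).relIndex (centralizer ({b} : Set H)) ∣ 2 ^ k := by
    have h3 : (N' ⊔ (T : Subgroup H)).relIndex (centralizer ({b} : Set H)) ∣
        N'.relIndex (centralizer ({b} : Set H)) := relIndex_dvd_of_le_left _ le_sup_left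
    -- the quotient by `N'` is a 2-group
    have h4 : N'.relIndex (centralizer ({b} : Set H)) =
        N.relIndex (centralizer ({a} : Set H)) := by
      have h5 : centralizer ({b} : Set H) =
          (centralizer ({a} : Set H)).map (MulAut.conj h⁻¹).toMonoidHom := by
        ext x
        rw [hcent]
        constructor
        · intro hx
          refine ⟨_, hx, ?_⟩
          show h⁻¹ * (h * x * h⁻¹) * h⁻¹⁻¹ = x
          group
        · rintro ⟨y, hy, rfl⟩
          have : h * (h⁻¹ * y * h⁻¹⁻¹) * h⁻¹ = y := by group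
          show h * (h⁻¹ * y * h⁻¹⁻¹) * h⁻¹ ∈ _
          rw [this]; exact hy
      rw [h5, hN']
      exact relIndex_map_map_of_injective _ _ (MulAut.conj h⁻¹).injective
    have h5 : ∃ k : ℕ, N.relIndex (centralizer ({a} : Set H)) = 2 ^ k := by
      set C := centralizer ({a} : Set H) with hCdef
      have hNn : (N.subgroupOf C).Normal := ⟨fun x hx g => hN3 g g.2 x hx⟩
      have hP : IsPGroup 2 (C ⧸ N.subgroupOf C) := by
        intro x
        obtain ⟨x, rfl⟩ := QuotientGroup.mk_surjective x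
        obtain ⟨n, hn, t, ht, e⟩ := hN4 x x.2
        obtain ⟨k, hk⟩ := T.2 ⟨t, ht⟩
        have htk : t ^ 2 ^ k = 1 := congrArg Subtype.val hk
        have htC : t ∈ C := by
          have h6 : t = n⁻¹ * x := by rw [e]; group
          rw [h6]; exact mul_mem (inv_mem (hN1 hn)) x.2
        refine ⟨k, ?_⟩
        have h7 : (QuotientGroup.mk x : C ⧸ N.subgroupOf C) = QuotientGroup.mk ⟨t, htC⟩ := by
          rw [eq_comm, QuotientGroup.eq]
          show (t⁻¹ * (x : H)) ∈ N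
          rw [e]
          have h8 : t⁻¹ * (n * t) = t⁻¹ * n * t⁻¹⁻¹ := by group
          rw [h8]
          exact hN3 _ (inv_mem htC) n hn
        rw [h7, ← QuotientGroup.mk_pow]
        have h8 : (⟨t, htC⟩ : C) ^ 2 ^ k = 1 := Subtype.ext htk
        rw [h8]; rfl
      obtain ⟨k, hk⟩ := IsPGroup.iff_card.mp hP
      exact ⟨k, hk⟩
    obtain ⟨k, hk⟩ := h5
    exact ⟨k, by rw [← hk, ← h4]; exact h3⟩
  have h3 : (N' ⊔ (T : Subgroup H)).relIndex (centralizer ({b} : Set H)) = 1 := by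
    obtain ⟨k, hk⟩ := h2
    exact Nat.Coprime.eq_one_of_dvd ((Nat.coprime_two_right.mpr h1).pow_right k) hk
  intro x hx
  have h4 : x ∈ N' ⊔ (T : Subgroup H) := relIndex_eq_one.mp h3 hx
  obtain ⟨n, hn, t, ht, e⟩ := mem_sup_fac (fun t ht x hx => hnorm t (hTC ht) x hx) h4
  exact ⟨n, hn, t, ht, e⟩

/-! ### the main theorem -/

/-- an involution of `B` is conjugate to `a` in `C(u)` -/
theorem to_a0 [Finite G] {N : Subgroup G} (hN : ZN c N) {x : SM} (hx : x ∈ R1)
    (hxa : CC c x a0) : ∃ g ∈ CU c, g * c.ι x * g⁻¹ = c.ι a0 := by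
  obtain ⟨g, hgC, hg⟩ := hxa
  obtain ⟨s, hs2, hs⟩ := exists_s
  have hsC : c.ι s ∈ Cz c := range_le_Cz c ⟨s, rfl⟩
  have huC : c.ι u0 ∈ Cz c := range_le_Cz c ⟨u0, rfl⟩
  -- `N ∩ C(a)`
  set N1 : Subgroup G := N ⊓ centralizer ({c.ι a0} : Set G) with hN1
  have hN1odd : ¬ 2 ∣ Nat.card N1 := fun h => by
    have h1 : Nat.card N1 ∣ Nat.card N := card_dvd_of_le inf_le_left
    exact (Nat.not_even_iff_odd.mpr hN.odd) (even_iff_two_dvd.mpr (h.trans h1))
  have hua : ∀ y ∈ U, c.ι y * c.ι a0 = c.ι a0 * c.ι y := by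
    intro y hy
    rw [← map_mul, ← map_mul]
    congr 1
    exact FactsJ.comm_J (OmU_le_J (U_le_OmU hy)) (OmU_le_J a0_mem_OmU)
  have hnor : ∀ y ∈ U, ∀ n ∈ N1, c.ι y * n * (c.ι y)⁻¹ ∈ N1 := by
    intro y hy n hn
    refine mem_inf.mpr ⟨hN.norm _ (range_le_Cz c ⟨y, rfl⟩) n (mem_inf.mp hn).1, ?_⟩
    have h1 : c.ι y ∈ centralizer ({c.ι a0} : Set G) :=
      mem_centralizer_singleton_iff.mpr (hua y hy)
    exact mul_mem (mul_mem h1 (mem_inf.mp hn).2) (inv_mem h1)
  have hxu : x * u0 = u0 * x := u0_comm hx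
  -- the image of `u` commutes with `a`
  have hcomm : (g * c.ι u0 * g⁻¹) ∈ centralizer ({c.ι a0} : Set G) := by
    rw [mem_centralizer_singleton_iff, ← hg]
    calc g * c.ι u0 * g⁻¹ * (g * c.ι x * g⁻¹) = g * (c.ι u0 * c.ι x) * g⁻¹ := by group
      _ = g * (c.ι x * c.ι u0) * g⁻¹ := by rw [← map_mul, ← hxu, map_mul]
      _ = _ := by group
  have key : ∀ v ∈ U, ∀ n ∈ N, c.ι v ^ (2 ^ 2) = 1 → g * c.ι u0 * g⁻¹ = n * c.ι v →
      ∃ k : G, k ∈ centralizer ({c.ι a0} : Set G) ∧ (k * g) * c.ι u0 * (k * g)⁻¹ = c.ι v := by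
    intro v hv n hn hv4 h1
    have hn1 : n ∈ N1 := by
      refine mem_inf.mpr ⟨hn, ?_⟩
      have h2 : n = g * c.ι u0 * g⁻¹ * (c.ι v)⁻¹ := by rw [h1]; group
      rw [h2]
      exact mul_mem hcomm (inv_mem (mem_centralizer_singleton_iff.mpr (hua v hv)))
    obtain ⟨k, hk, hk'⟩ := conj_of_mul hN1odd hn1 (hnor v hv) h1 hv4 (conj_pow_two (u0_pow c))
    refine ⟨k, hk.2, ?_⟩
    rw [← hk']; group
  obtain ⟨n, hn, h1 | h1⟩ := hN.mv g hgC
  · obtain ⟨k, hk, hk'⟩ := key u0 u0_mem_U n hn (u0_pow c) h1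
    refine ⟨k * g, (mem_CU c).mpr hk', ?_⟩
    have h2 : k * g * c.ι x * (k * g)⁻¹ = k * (g * c.ι x * g⁻¹) * k⁻¹ := by group
    rw [h2, hg, mem_centralizer_singleton_iff.mp hk, mul_inv_cancel_right]
  · have huz : u0 * z0 ∈ U := U.mul_mem u0_mem_U z0_mem_U
    obtain ⟨k, hk, hk'⟩ := key (u0 * z0) huz n hn (u0z0_pow c) h1
    refine ⟨c.ι s * (k * g), ?_, ?_⟩
    · rw [mem_CU]
      have h2 : c.ι s * (k * g) * c.ι u0 * (c.ι s * (k * g))⁻¹ =
        c.ι s * (k * g * c.ι u0 * (k * g)⁻¹) * (c.ι s)⁻¹ := by group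
      rw [h2, hk', s_conj c hs]
    · have h2 : c.ι s * (k * g) * c.ι x * (c.ι s * (k * g))⁻¹ =
        c.ι s * (k * (g * c.ι x * g⁻¹) * k⁻¹) * (c.ι s)⁻¹ := by group
      have h3 : s * a0 = a0 * s := mem_centralizer_singleton_iff.mp hs2
      rw [h2, hg, mem_centralizer_singleton_iff.mp hk, mul_inv_cancel_right, ← map_mul, h3,
        map_mul, mul_inv_cancel_right]

/-- **Step (7)**: `B N'` is normal in `C_G(z)`. -/
theorem exists_BN (hSF : SolvFun.{u}) (hFT : OddSolv.{u}) [Finite G] (hJ : WJ c)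
    {N : Subgroup G} (hN : ZN c N) {M : Subgroup G} (hM : KN c M) {B : Subgroup SM}
    (hB : B = OmU ∨ B = Q) (hcl : ∀ x ∈ B, x * x = 1 → x ≠ 1 → x ≠ z0 → CC c x a0)
    (hsc : ∀ x ∈ B, ∀ y ∈ R1, CC c x y → y ∈ B) : ∃ N', BN c B N' := by
  have hOB : OmU ≤ B := by
    rcases hB with h | h
    · exact h.ge
    · rw [h]; exact OmU_le_Q
  have hUB : U ≤ B := U_le_OmU.trans hOB
  have hBR : B ≤ R1 := by
    rcases hB with h | h
    · rw [h]; exact OmU_le_R1
    · rw [h]; exact Q_le_R1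
  have hBsq : ∀ x ∈ B, x * x = 1 ∨ x * x = z0 := by
    intro x hx
    rcases hB with h | h
    · rw [h] at hx; exact sq_Q hx.1
    · rw [h] at hx; exact sq_Q hx
  have hBn : ∀ s x : SM, x ∈ B → s * x * s⁻¹ ∈ B := by
    intro s x hx
    rcases hB with h | h
    · rw [h] at hx ⊢; exact OmU_normal hx
    · rw [h] at hx ⊢; exact Q_normal hx
  -- everything outside `⟨u⟩` goes to `ā`
  have htoa : ∀ x (hx : x ∈ B), x ∉ U → ∃ h : HH c, h * ff c ⟨x, hBR hx⟩ * h⁻¹ = aa c := by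
    intro x hx hxU
    -- the case of an involution
    have h1 : ∀ y (hy : y ∈ B), y ∉ U → y * y = 1 →
        ∃ h : HH c, h * ff c ⟨y, hBR hy⟩ * h⁻¹ = aa c := by
      intro y hy hyU hy2
      obtain ⟨g, hg, hga⟩ := to_a0 c hN (hBR hy) (hcl y hy hy2 (fun e => hyU (e ▸ one_mem _))
        (fun e => hyU (e ▸ z0_mem_U)))
      refine ⟨pr c ⟨g, hg⟩, ?_⟩
      rw [ff_apply, ← map_inv, ← map_mul, ← map_mul]
      show _ = pr c (fc c ⟨a0, a0_R1⟩)
      congr 1
      exact Subtype.ext hga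
    rcases hBsq x hx with h2 | h2
    · exact h1 x hx hxU h2
    · have hxu := u0_comm (hBR hx)
      have h3 : x * u0 ∈ B := B.mul_mem hx (hUB u0_mem_U)
      have h4 : x * u0 ∉ U := by
        intro h
        apply hxU
        have h5 := U.mul_mem h (U.inv_mem u0_mem_U)
        rwa [mul_inv_cancel_right] at h5
      have h5 : x * u0 * (x * u0) = 1 := by
        rw [mul_assoc, ← mul_assoc u0, ← hxu, mul_assoc x, ← mul_assoc, h2, u0_sq, z0_sq]
      obtain ⟨h, hh⟩ := h1 (x * u0) h3 h4 h5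
      refine ⟨h, ?_⟩
      have h6 : ff c ⟨x * u0, hBR h3⟩ = ff c ⟨x, hBR hx⟩ := by
        have h7 : (⟨x * u0, hBR h3⟩ : R1) = ⟨x, hBR hx⟩ * ⟨u0, U_le_R1 u0_mem_U⟩ := rfl
        rw [h7, map_mul, (ff_eq_one c (x := ⟨u0, U_le_R1 u0_mem_U⟩)).mpr u0_mem_U, mul_one]
      rw [← h6]; exact hh
  have htr : ∀ a ∈ bar c B, ∀ b ∈ bar c B, a ≠ 1 → b ≠ 1 → ∃ h : HH c, h * a * h⁻¹ = b := by
    intro a ha b hb ha1 hb1
    obtain ⟨x, hx, rfl⟩ := exists_of_mem c ha
    obtain ⟨y, hy, rfl⟩ := exists_of_mem c hb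
    obtain ⟨h, hh⟩ := htoa x hx (fun e => ha1 ((ff_eq_one c).mpr e))
    obtain ⟨k, hk⟩ := htoa y hy (fun e => hb1 ((ff_eq_one c).mpr e))
    refine ⟨k⁻¹ * h, ?_⟩
    have h1 : k⁻¹ * h * ff c x * (k⁻¹ * h)⁻¹ = k⁻¹ * (h * ff c x * h⁻¹) * k := by group
    have h2 : h * ff c x * h⁻¹ = k * ff c y * k⁻¹ := hh.trans hk.symm
    rw [h1, h2]; group
  have hZc : ∀ a ∈ bar c OmU, ∀ t ∈ TT c, t * a = a * t := by
    intro a ha t ht
    obtain ⟨x, hx, rfl⟩ := exists_of_mem c ha
    have ht' : t ∈ bar c R1 := ht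
    obtain ⟨y, hy, rfl⟩ := exists_of_mem c ht'
    exact (ff_comm_iff c).mpr (cm_OmU hy hx)
  have hk : ∀ {A : Subgroup SM} (hUA : U ≤ A) (hAR : A ≤ R1)
      (_ : ∀ {t a : SM}, a ∈ A → a ∉ OmU → t ∈ R1 → t * a * t⁻¹ * a⁻¹ ∈ U → t ∈ A),
      ∀ a ∈ bar c A, a ∉ bar c OmU → ∀ t ∈ TT c, t * a = a * t → t ∈ bar c A := by
    intro A hUA hAR hf a ha haO t ht hta
    obtain ⟨x, hx, rfl⟩ := exists_of_mem c ha
    have ht' : t ∈ bar c R1 := ht
    obtain ⟨y, hy, rfl⟩ := exists_of_mem c ht'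
    rw [ff_mem_bar c U_le_OmU OmU_le_R1] at haO
    rw [ff_mem_bar c hUA hAR]
    exact hf hx haO hy ((ff_comm_iff c).mp hta)
  have hnil : ∀ a ∈ bar c OmU, a ≠ 1 → ∃ N : Subgroup (HH c), N ≤ centralizer ({a} : Set (HH c)) ∧
      Odd (Nat.card N) ∧ (∀ c' ∈ centralizer ({a} : Set (HH c)), ∀ x ∈ N, c' * x * c'⁻¹ ∈ N) ∧
      ∀ c' ∈ centralizer ({a} : Set (HH c)), ∃ n ∈ N, ∃ t ∈ TT c, c' = n * t := by
    intro a ha ha1
    obtain ⟨x, hx, rfl⟩ := exists_of_mem c ha
    obtain ⟨h, hh⟩ := htoa x (hOB hx) (fun e => ha1 ((ff_eq_one c).mpr e))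
    exact nil_conj (TT c) hh (hZc _ ha) (nil_aa c hM)
  have hmain := LemmaH.lemmaH hSF hFT (TT c) (bar c Q) (bar c Q') (bar c OmU) (bar c B)
    (bar_mono c Q_le_R1) (bar_mono c Q'_le_R1) (bar_inf c)
    (by
      have h1 := card_bar c U_le_R1 le_rfl
      rw [card_R1] at h1
      show Nat.card (bar c R1) = 64
      omega)
    (by
      have h1 := card_bar c (U_le_OmU.trans OmU_le_Q) Q_le_R1
      rw [card_Q] at h1
      omega)
    (by
      have h1 := card_bar c (U_le_OmU.trans OmU_le_Q') Q'_le_R1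
      rw [card_Q'] at h1
      omega)
    (by
      have h1 := card_bar c U_le_OmU OmU_le_R1
      rw [card_OmU] at h1
      omega)
    (ff_sq c (fun _ h => sq_Q_U h)) (ff_sq c (fun _ h => sq_Q'_U h)) hZc
    (by
      intro x hx hx2
      have hx' : x ∈ bar c R1 := hx
      obtain ⟨y, hy, rfl⟩ := exists_of_mem c hx'
      rw [← map_mul, ff_eq_one] at hx2
      have h1 : (y : SM) * y = 1 ∨ (y : SM) * y = z0 ∨ (y : SM) * y = u0 ∨
          (y : SM) * y = u0 * z0 := by
        rcases U_cases hx2 with h | h | h | h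
        · exact Or.inl h
        · exact Or.inr (Or.inr (Or.inl h))
        · exact Or.inr (Or.inl h)
        · exact Or.inr (Or.inr (Or.inr h))
      rcases mem_Q_or_Q' hy h1 with h2 | h2
      · exact Or.inl ((ff_mem_bar c (U_le_OmU.trans OmU_le_Q) Q_le_R1).mpr h2)
      · exact Or.inr ((ff_mem_bar c (U_le_OmU.trans OmU_le_Q') Q'_le_R1).mpr h2))
    (hk (U_le_OmU.trans OmU_le_Q) Q_le_R1 k1) (hk (U_le_OmU.trans OmU_le_Q') Q'_le_R1 k2)
    (commutator_bar c) (fun n hn => hJ_iff c hJ hn)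
    (by
      rcases hB with h | h
      · left; rw [h]
      · right; rw [h])
    (by
      intro a ha h hh
      obtain ⟨x, hx, rfl⟩ := exists_of_mem c ha
      obtain ⟨g, rfl⟩ := pr_surj c h
      have h1 : pr c (g * fc c x * g⁻¹) ∈ bar c R1 := by
        rw [map_mul, map_mul, map_inv, ← ff_apply]
        exact hh
      rw [pr_mem_bar c U_le_R1 le_rfl] at h1
      obtain ⟨y, hy, hyg⟩ := h1
      rw [ff_apply, ← map_inv, ← map_mul, ← map_mul, pr_mem_bar c hUB hBR]
      exact ⟨y, hsc x hx y hy ⟨g, CU_le_Cz c g.2, hyg.symm⟩, hyg⟩)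
    htr hnil
  refine bn_of_cu c hN hBn ?_
  intro g hg x hx
  obtain ⟨b', hb', n, hn, h1⟩ := hmain (pr c ⟨g, hg⟩) (ff c ⟨x, hBR hx⟩)
    ((ff_mem_bar c hUB hBR).mpr hx)
  obtain ⟨y, hy, rfl⟩ := exists_of_mem c hb'
  obtain ⟨n', rfl⟩ := pr_surj c n
  obtain ⟨k, hk, w, hw, e⟩ := core_lift (UU c) (UU_central c) (UU_pgroup c) hn
  -- `g x g⁻¹ = n' y w'`
  have h2 : pr c ((n' * fc c y)⁻¹ * ((⟨g, hg⟩ : CU c) * fc c ⟨x, hBR hx⟩ * (⟨g, hg⟩ : CU c)⁻¹)) = 1 := by
    rw [map_mul, map_inv, map_mul (pr c) n', map_mul, map_mul, map_inv, ← ff_apply, ← ff_apply,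
      h1]
    exact inv_mul_cancel _
  obtain ⟨w1, hw1, hw1'⟩ := (pr_eq_one c).mp h2
  obtain ⟨w2, hw2, hw2'⟩ := (mem_UU c).mp hw
  refine ⟨k, ⟨k, hk, rfl⟩, w2 * (y * w1), B.mul_mem (hUB hw2) (B.mul_mem hy (hUB hw1)), ?_⟩
  have h3 : (n' : G) = k * w := congrArg Subtype.val e
  have h4 : c.ι w1 = ((n' : G) * c.ι y)⁻¹ * (g * c.ι x * g⁻¹) := hw1'
  rw [map_mul, map_mul, h4, hw2', h3]
  group

end Cfsg.Agent.HSType.Struct
end

private theorem dce_cdb06bfca539 : _root_.True := by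
  try have : _root_.True := by simp only [_root_.Cfsg.Agent.HSType.Model.SM.mk.congr_simp]
  try have : _root_.True := by simp only [_root_.Cfsg.Agent.HSType.StructQ.UU.eq_1]
  exact _root_.True.intro
end

-- part: S1777
section
prune_inst 0x20006004500000000000000000001c6282000002000b00010000000004888c000000062080200210000208040030000810080000000000000000000041180080000000020000a000000000008004000000000000000000000000000000000000000000000
set_option linter.all false
open scoped Cfsg.Agent.FastGrp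

-- part: HSType/Cores
section
/-!
# The cores of the centralizers of involutions (S1777, step (8a))
-/

set_option autoImplicit false
set_option maxHeartbeats 400000
set_option linter.style.haveILetI false
set_option linter.unusedSectionVars false

namespace Cfsg.Agent.HSType.Cores

open Cfsg.Agent.J2Sylow.Functor

/-! ### abstract part -/

section Abs

variable {X : Type*} [Group X]

/-- lifting fixed points of an involution through an odd order subgroup -/
theorem fixed_lift [Finite X] {N : Subgroup X} (hodd : Odd (Nat.card N)) {t b : X} (ht : t * t = 1)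
    (h : t * b * t⁻¹ * b⁻¹ ∈ N) : ∃ s ∈ N, t * (s * b) = (s * b) * t := by
  obtain ⟨k, hk⟩ := Lib.KleinGen.exists_sqrt_exponent N hodd
  have hti : t⁻¹ = t := inv_eq_of_mul_eq_one_right ht
  set n := t * b * t⁻¹ * b⁻¹ with hn
  have h1 : t * n * t⁻¹ = n⁻¹ := by
    have h2 : n = t * b * t * b⁻¹ := by rw [hn, hti]
    rw [eq_inv_iff_mul_eq_one, h2, hti]
    calc t * (t * b * t * b⁻¹) * t * (t * b * t * b⁻¹) = (t * t) * b * t * b⁻¹ * (t * t) * b * t * b⁻¹ := by
          group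
      _ = 1 * b * t * b⁻¹ * 1 * b * t * b⁻¹ := by rw [ht]
      _ = b * (t * t) * b⁻¹ := by group
      _ = 1 := by rw [ht]; group
  refine ⟨n ^ k, N.pow_mem h k, ?_⟩
  have h2 : t * n ^ k * t⁻¹ = (n ^ k)⁻¹ := by
    rw [← conj_pow, h1, inv_pow]
  have h3 := (hk n h).1
  have h4 : t * (n ^ k * b) * t⁻¹ = n ^ k * b := by
    calc t * (n ^ k * b) * t⁻¹ = (t * n ^ k * t⁻¹) * n * b := by rw [hn]; group
      _ = (n ^ k)⁻¹ * (n ^ k * n ^ k) * b := by rw [h2, h3]
      _ = n ^ k * b := by group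
  rwa [mul_inv_eq_iff_eq_mul] at h4

variable [Finite X] (N B L : Subgroup X) [N.Normal]

theorem inf_eq_bot {N B : Subgroup X} (hN : Odd (Nat.card N)) (hB : IsPGroup 2 B) {x : X}
    (h1 : x ∈ N) (h2 : x ∈ B) : x = 1 := by
  haveI : Fact (Nat.Prime 2) := ⟨Nat.prime_two⟩
  have ho := odd_orderOf_of_mem hN h1
  obtain ⟨k, hk⟩ := hB ⟨x, h2⟩
  have hk' : x ^ 2 ^ k = 1 := by
    have := congrArg Subtype.val hk
    simpa only [_root_.SubmonoidClass.mk_pow, _root_.OneMemClass.coe_one] using this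
  have h3 := orderOf_dvd_of_pow_eq_one hk'
  have h4 : Nat.Coprime (orderOf x) (2 ^ k) := Nat.Coprime.pow_right _ ((Nat.coprime_two_right).2 ho)
  have h5 := Nat.eq_one_of_dvd_coprimes h4 dvd_rfl h3
  exact orderOf_eq_one_iff.1 h5

theorem frattini (hN : Odd (Nat.card N)) (hB : IsPGroup 2 B)
    (hBN : ∀ g : X, ∀ b ∈ B, ∃ n ∈ N, ∃ b' ∈ B, g * b * g⁻¹ = n * b') (g : X) :
    ∃ n ∈ N, ∀ b ∈ B, (n * g) * b * (n * g)⁻¹ ∈ B := by
  haveI : Fact (Nat.Prime 2) := ⟨Nat.prime_two⟩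
  have hidx : ¬ 2 ∣ B.relIndex (B ⊔ N) := by
    have h1 : Nat.card B * B.relIndex (B ⊔ N) = Nat.card ((B ⊔ N : Subgroup X)) := by
      have := Subgroup.relIndex_mul_relIndex (⊥ : Subgroup X) B (B ⊔ N) bot_le le_sup_left
      rwa [Subgroup.relIndex_bot_left, Subgroup.relIndex_bot_left] at this
    have h2 : Nat.card N * N.relIndex (B ⊔ N) = Nat.card ((B ⊔ N : Subgroup X)) := by
      have := Subgroup.relIndex_mul_relIndex (⊥ : Subgroup X) N (B ⊔ N) bot_le le_sup_right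
      rwa [Subgroup.relIndex_bot_left, Subgroup.relIndex_bot_left] at this
    have h3 : N.relIndex (B ⊔ N) = N.relIndex B := Subgroup.relIndex_sup_right _ _
    obtain ⟨s, hs⟩ : N.relIndex B ∣ Nat.card B := Subgroup.relIndex_dvd_card _ _
    have h4 : 0 < N.relIndex B := by
      have : 0 < Nat.card B := Nat.card_pos
      rcases Nat.eq_zero_or_pos (N.relIndex B) with h | h
      · rw [h, zero_mul] at hs; omega
      · exact h
    have h5 : s * B.relIndex (B ⊔ N) = Nat.card N := by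
      apply Nat.eq_of_mul_eq_mul_left h4
      rw [← mul_assoc, ← hs, h1, ← h2, h3, mul_comm]
    intro h6
    have h7 : 2 ∣ Nat.card N := by rw [← h5]; exact dvd_mul_of_dvd_right h6 s
    exact (Nat.not_even_iff_odd.mpr hN) (even_iff_two_dvd.mpr h7)
  have hP : IsPGroup 2 (B.map (MulAut.conj g).toMonoidHom) := hB.map _
  have hPK : B.map (MulAut.conj g).toMonoidHom ≤ B ⊔ N := by
    rintro _ ⟨b, hb, rfl⟩
    obtain ⟨n, hn, b', hb', h⟩ := hBN g b hb
    show g * b * g⁻¹ ∈ B ⊔ N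
    rw [h]
    exact mul_mem (Subgroup.mem_sup_right hn) (Subgroup.mem_sup_left hb')
  obtain ⟨k, hk, hkP⟩ := Basic.rel_sylow le_sup_left hB hidx hPK hP
  rw [Subgroup.mem_sup_of_normal_right] at hk
  obtain ⟨b0, hb0, n, hn, rfl⟩ := hk
  refine ⟨n, hn, fun b hb => ?_⟩
  have h1 := hkP (g * b * g⁻¹) ⟨b, hb, rfl⟩
  have h2 : n * g * b * (n * g)⁻¹ = b0⁻¹ * (b0 * n * (g * b * g⁻¹) * (b0 * n)⁻¹) * b0 := by group
  rw [h2]
  exact B.mul_mem (B.mul_mem (B.inv_mem hb0) h1) hb0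

/-- the centralizer of `B N / N` -/
def Y : Subgroup X :=
  (Subgroup.centralizer ((B.map (QuotientGroup.mk' N) : Subgroup (X ⧸ N)) : Set (X ⧸ N))).comap
    (QuotientGroup.mk' N)

variable {N B L}

theorem mem_Y {y : X} : y ∈ Y N B ↔ ∀ b ∈ B, y * b * y⁻¹ * b⁻¹ ∈ N := by
  unfold Y
  rw [Subgroup.mem_comap, Subgroup.mem_centralizer_iff]
  constructor
  · intro h b hb
    have h1 := h _ (Subgroup.mem_map_of_mem _ hb)
    rw [← map_mul, ← map_mul] at h1
    rw [← QuotientGroup.eq_one_iff]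
    change (QuotientGroup.mk' N) (y * b * y⁻¹ * b⁻¹) = 1
    rw [map_mul, map_mul (QuotientGroup.mk' N) (y * b), ← h1, map_mul, map_inv, map_inv]
    group
  · rintro h _ ⟨b, hb, rfl⟩
    have h1 := h b hb
    rw [← QuotientGroup.eq_one_iff] at h1
    change (QuotientGroup.mk' N) (y * b * y⁻¹ * b⁻¹) = 1 at h1
    rw [map_mul, map_mul, map_mul, map_inv, map_inv, mul_inv_eq_one, mul_inv_eq_iff_eq_mul] at h1
    exact h1.symm

theorem Y_normal (hBN : ∀ g : X, ∀ b ∈ B, ∃ n ∈ N, ∃ b' ∈ B, g * b * g⁻¹ = n * b') {y : X}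
    (hy : y ∈ Y N B) (g : X) : g * y * g⁻¹ ∈ Y N B := by
  have hUn : (B.map (QuotientGroup.mk' N)).Normal := by
    constructor
    rintro _ ⟨b, hb, rfl⟩ x
    obtain ⟨x, rfl⟩ := QuotientGroup.mk'_surjective N x
    obtain ⟨n, hn, b', hb', h⟩ := hBN x b hb
    refine ⟨b', hb', ?_⟩
    rw [← map_mul, ← map_inv, ← map_mul, h, map_mul]
    have : (QuotientGroup.mk' N) n = 1 := (QuotientGroup.eq_one_iff n).2 hn
    rw [this, one_mul]
  have : (Y N B).Normal := by
    unfold Y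
    infer_instance
  exact this.conj_mem y hy g

theorem exists_cent (hN : Odd (Nat.card N)) (hB : IsPGroup 2 B)
    (hBN : ∀ g : X, ∀ b ∈ B, ∃ n ∈ N, ∃ b' ∈ B, g * b * g⁻¹ = n * b') {y : X}
    (hy : y ∈ Y N B) : ∃ n ∈ N, ∀ b ∈ B, (n * y) * b = b * (n * y) := by
  obtain ⟨n, hn, h⟩ := frattini N B hN hB hBN y
  refine ⟨n, hn, fun b hb => ?_⟩
  have h1 := B.mul_mem (h b hb) (B.inv_mem hb)
  have h2 : n * y ∈ Y N B := by
    refine Subgroup.mul_mem _ ?_ hy
    rw [mem_Y]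
    intro b hb
    have hnn : N.Normal := inferInstance
    have h3 := N.mul_mem hn (hnn.conj_mem _ (N.inv_mem hn) b)
    have h4 : n * (b * n⁻¹ * b⁻¹) = n * b * n⁻¹ * b⁻¹ := by group
    rwa [h4] at h3
  have h5 := inf_eq_bot hN hB (mem_Y.1 h2 b hb) h1
  rw [mul_inv_eq_one, mul_inv_eq_iff_eq_mul] at h5
  exact h5

structure LHyp (N B L : Subgroup X) : Prop where
  hN : Odd (Nat.card N)
  hB : IsPGroup 2 B
  hBN : ∀ g : X, ∀ b ∈ B, ∃ n ∈ N, ∃ b' ∈ B, g * b * g⁻¹ = n * b'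
  hL : ∀ l ∈ L, ∀ b ∈ B, l * b = b * l
  hLo : Odd (Nat.card L)
  hL2 : ∀ g : X, (∀ b ∈ B, g * b = b * g) → ∃ k : ℕ, g ^ (2 ^ k) ∈ L

namespace LHyp

variable (h : LHyp N B L)

include h

theorem mem_of_odd {y : X} (hy : y ∈ Y N B) (ho : Odd (orderOf y)) : y ∈ N ⊔ L := by
  obtain ⟨n, hn, hc⟩ := exists_cent h.hN h.hB h.hBN hy
  obtain ⟨k, hk⟩ := h.hL2 _ hc
  have hnn : N.Normal := inferInstance
  have h1 : (n⁻¹ * (n * y)) ^ (2 ^ k) * ((n * y) ^ (2 ^ k))⁻¹ ∈ N :=
    pow_mul_inv_mem (N.inv_mem hn) (fun x hx => hnn.conj_mem x hx _) _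
  rw [inv_mul_cancel_left] at h1
  have h2 : y ^ (2 ^ k) ∈ N ⊔ L := by
    have h3 := mul_mem (Subgroup.mem_sup_left (T := L) h1) (Subgroup.mem_sup_right (S := N) hk)
    rwa [inv_mul_cancel_right] at h3
  have h4 : Nat.Coprime (orderOf y) (2 ^ k) :=
    Nat.Coprime.pow_right _ ((Nat.coprime_two_right).2 ho)
  obtain ⟨m, hm⟩ := exists_pow_eq_self_of_coprime h4.symm
  rw [← hm]
  exact pow_mem h2 m

theorem sup_le_Y : N ⊔ L ≤ Y N B := by
  refine sup_le ?_ ?_
  · intro n hn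
    rw [mem_Y]
    intro b hb
    have hnn : N.Normal := inferInstance
    have h3 := N.mul_mem hn (hnn.conj_mem _ (N.inv_mem hn) b)
    have h4 : n * (b * n⁻¹ * b⁻¹) = n * b * n⁻¹ * b⁻¹ := by group
    rwa [h4] at h3
  · intro l hl
    rw [mem_Y]
    intro b hb
    rw [h.hL l hl b hb]
    have : b * l * l⁻¹ * b⁻¹ = 1 := by group
    rw [this]
    exact N.one_mem

theorem odd_sup : Odd (Nat.card ((N ⊔ L : Subgroup X))) := by
  have h2 : Nat.card N * N.relIndex (L ⊔ N) = Nat.card ((L ⊔ N : Subgroup X)) := by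
    have := Subgroup.relIndex_mul_relIndex (⊥ : Subgroup X) N (L ⊔ N) bot_le le_sup_right
    rwa [Subgroup.relIndex_bot_left, Subgroup.relIndex_bot_left] at this
  rw [sup_comm, ← h2, Subgroup.relIndex_sup_right]
  exact h.hN.mul (h.hLo.of_dvd_nat (Subgroup.relIndex_dvd_card _ _))

theorem normal_sup {y : X} (hy : y ∈ N ⊔ L) (g : X) : g * y * g⁻¹ ∈ N ⊔ L := by
  apply h.mem_of_odd
  · exact Y_normal h.hBN (h.sup_le_Y hy) g
  · rw [TwoFusion.StronglyEmbeddedBasic.orderOf_conj]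
    exact odd_orderOf_of_mem h.odd_sup hy

/-- cores of centralizers of involutions -/
theorem le_sup {t : X} (ht : t * t = 1) {R : Subgroup X} (hRt : ∀ r ∈ R, r * t = t * r)
    (hR : Odd (Nat.card R)) (hRn : ∀ g, g * t = t * g → ∀ r ∈ R, g * r * g⁻¹ ∈ R) :
    R ≤ N ⊔ L := by
  haveI : Fact (Nat.Prime 2) := ⟨Nat.prime_two⟩
  have hti : t⁻¹ = t := inv_eq_of_mul_eq_one_right ht
  set π := QuotientGroup.mk' N with hπ
  have hUn : (B.map π).Normal := by
    constructor
    rintro _ ⟨b, hb, rfl⟩ x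
    obtain ⟨x, rfl⟩ := QuotientGroup.mk'_surjective N x
    obtain ⟨n, hn, b', hb', h⟩ := h.hBN x b hb
    refine ⟨b', hb', ?_⟩
    rw [← map_mul, ← map_inv, ← map_mul, h, map_mul]
    have : π n = 1 := (QuotientGroup.eq_one_iff n).2 hn
    rw [this, one_mul]
  have hUtop : Subgroup.normalizer ((B.map π : Subgroup (X ⧸ N)) : Set (X ⧸ N)) = ⊤ :=
    Subgroup.normalizer_eq_top _
  have hRm : Odd (Nat.card (R.map π)) := hR.of_dvd_nat (Subgroup.card_dvd_of_surjective (π.subgroupMap R) (π.subgroupMap_surjective R))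
  have hU2 : IsPGroup 2 (B.map π) := h.hB.map _
  have key := Lib.ThompsonPQ.thompson_p_times_q 2 (Subgroup.zpowers (π t)) (R.map π) (B.map π)
    (by
      intro x
      obtain ⟨x, k, rfl⟩ := x
      refine ⟨1, Subtype.ext ?_⟩
      show ((π t) ^ k) ^ (2 ^ 1) = 1
      rw [pow_one, ← zpow_natCast, ← zpow_mul, mul_comm, zpow_mul, zpow_natCast, pow_two, ← map_mul,
        ht, map_one, one_zpow])
    ((Nat.coprime_two_right).2 hRm) hU2
    (by
      rw [Subgroup.zpowers_le, Subgroup.mem_centralizer_iff]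
      rintro _ ⟨r, hr, rfl⟩
      rw [← map_mul, hRt r hr, map_mul])
    (by rw [hUtop]; exact le_top) (by rw [hUtop]; exact le_top)
    (by
      rintro x ⟨⟨b, hb, rfl⟩, hx⟩
      rw [Subgroup.mem_centralizer_iff]
      have h1 := Subgroup.mem_centralizer_iff.1 hx (π t) (Subgroup.mem_zpowers _)
      have h2 : t * b * t⁻¹ * b⁻¹ ∈ N := by
        rw [← QuotientGroup.eq_one_iff]
        change π (t * b * t⁻¹ * b⁻¹) = 1
        rw [map_mul, map_mul, map_mul, h1, map_inv, map_inv]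
        group
      obtain ⟨s, hs, hst⟩ := fixed_lift h.hN ht h2
      rintro _ ⟨r, hr, rfl⟩
      have h3 : π (s * b) = π b := by
        have : π s = 1 := (QuotientGroup.eq_one_iff s).2 hs
        rw [map_mul, this, one_mul]
      rw [← h3]
      -- `[sb, r] ∈ R`, its image lies in `B`
      have h4 : (s * b) * r * (s * b)⁻¹ ∈ R := hRn _ hst.symm r hr
      have h5 : π ((s * b) * r * (s * b)⁻¹ * r⁻¹) = 1 := by
        apply inf_eq_bot hRm hU2
        · exact Subgroup.mem_map_of_mem _ (R.mul_mem h4 (R.inv_mem hr))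
        · have h6 : π (s * b) ∈ B.map π := by rw [h3]; exact Subgroup.mem_map_of_mem _ hb
          have h7 := (B.map π).mul_mem h6
            (hUn.conj_mem _ ((B.map π).inv_mem h6) (π r))
          have h8 : π (s * b) * (π r * (π (s * b))⁻¹ * (π r)⁻¹) =
              π ((s * b) * r * (s * b)⁻¹ * r⁻¹) := by
            rw [map_mul π ((s * b) * r * (s * b)⁻¹), map_mul π ((s * b) * r), map_mul π (s * b),
              map_inv, map_inv]
            group
          rwa [h8] at h7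
      rw [map_mul π ((s * b) * r * (s * b)⁻¹), map_mul π ((s * b) * r), map_mul π (s * b),
        map_inv, map_inv, mul_inv_eq_one, mul_inv_eq_iff_eq_mul] at h5
      exact h5.symm)
  intro r hr
  apply h.mem_of_odd
  · unfold Y
    rw [Subgroup.mem_comap]
    exact key (Subgroup.mem_map_of_mem _ hr)
  · exact odd_orderOf_of_mem hR hr

end LHyp

end Abs

/-! ### model facts -/

section Model

open Cfsg.Agent.HSType.Model Cfsg.Agent.HSType.Facts Cfsg.Agent.HSType.FactsU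
  Cfsg.Agent.HSType.FactsJ Cfsg.Agent.HSType.Spec

theorem Om_le_Q {x : SM} (hx : x ∈ Om) : x ∈ Q := by
  have hd : allLT 512 (fun a => imp (inOm a) (inQ a)) = true := by decide +kernel
  exact imp_spec (allLT_spec hd x.1 x.2) hx

theorem Om_le_Q' {x : SM} (hx : x ∈ Om) : x ∈ Q' := by
  have hd : allLT 512 (fun a => imp (inOm a) (inQ' a)) = true := by decide +kernel
  exact imp_spec (allLT_spec hd x.1 x.2) hx

theorem Om_le_OmU {x : SM} (hx : x ∈ Om) : x ∈ OmU := ⟨Om_le_Q hx, Om_le_Q' hx⟩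

theorem inv_OmU {x : SM} (hx : x ∈ OmU) (h : x * x = 1) : x ∈ Om := by
  have hd : allLT 512 (fun a => imp (inQ a) (imp (inQ' a) (imp (sqIs a 0) (inOm a)))) = true := by
    decide +kernel
  exact imp_spec (imp_spec (imp_spec (allLT_spec hd x.1 x.2) hx.1) hx.2) (sqIs_of (y := 1) h)

theorem exists_y {x : SM} (hx : x ∈ Q) (h : x * x = 1) :
    ∃ y ∈ Q, y * y = 1 ∧ y ≠ 1 ∧ y ≠ z0 ∧ y * x = x * y ∧ y * a0 = a0 * y := by
  have hd : allLT 512 (fun a => imp (inQ a) (imp (sqIs a 0) (exLT 512 (fun y => andB (inQ y)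
    (andB (sqIs y 0) (andB (beqB false (orB (Nat.beq y 0) (Nat.beq y 10)))
      (andB (com y a) (com y 2)))))))) = true := by decide +kernel
  obtain ⟨k, hk, h1⟩ := exLT_spec (imp_spec (imp_spec (allLT_spec hd x.1 x.2) hx)
    (sqIs_of (y := 1) h))
  obtain ⟨h2, h3⟩ := andB_spec h1
  obtain ⟨h4, h5⟩ := andB_spec h3
  obtain ⟨h6, h7⟩ := andB_spec h5
  obtain ⟨h8, h9⟩ := andB_spec h7
  have h6' := beqB_spec h6
  refine ⟨⟨k, hk⟩, h2, of_sqIs (y := 1) h4, ?_, ?_, of_com h8, of_com (y := a0) h9⟩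
  · intro e
    have e' : Nat.beq k 0 = true := _root_.Cfsg.Agent.HSType.Facts.beq_of_eq (x := ⟨k, hk⟩) (y := 1) e
    rw [e'] at h6'; exact Bool.false_ne_true h6'
  · intro e
    have e' : Nat.beq k 10 = true := beq_of_eq (x := ⟨k, hk⟩) (y := z0) e
    rw [e'] at h6'; revert h6'; cases Nat.beq k 0 <;> intro h6' <;> exact Bool.false_ne_true h6'

theorem card_Om : Nat.card Om = 8 := by
  rw [card_sub Om inOm (fun x => Iff.rfl)]
  decide +kernel

end Model

/-! ### the theorem -/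

universe u

open Cfsg.Agent.HSType.Model Cfsg.Agent.HSType.Facts Cfsg.Agent.HSType.FactsU
  Cfsg.Agent.HSType.FactsJ Cfsg.Agent.HSType.Basic Cfsg.Agent.HSType.Trans
  Cfsg.Agent.HSType.Spec Cfsg.Agent.HSType.JFus

section Main

variable {G : Type*} [Group G] [Finite G] (c : Ctx G)

/-- the conjugates of `z` -/
def DG (x : G) : Prop := ∃ g : G, g * x * g⁻¹ = c.ι z0

theorem card_subgroupOf {N C : Subgroup G} (h : N ≤ C) : Nat.card (N.subgroupOf C) = Nat.card N :=
  Nat.card_congr (Subgroup.subgroupOfEquivOfLe h).toEquiv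

/-- the odd part of `C_G(B)` -/
def LL (M : Subgroup G) (B : Subgroup SM) : Subgroup G :=
  Cz c ⊓ (Subgroup.centralizer ((B.map c.ι : Subgroup G) : Set G) ⊓ M)

variable {c}

theorem lhyp {M : Subgroup G} (hM : KN c M) {B : Subgroup SM} (hVB : V ≤ B) {N' : Subgroup G}
    (hN' : BN c B N') (hn : (N'.subgroupOf (Cz c)).Normal) :
    LHyp (N'.subgroupOf (Cz c)) ((B.map c.ι).subgroupOf (Cz c)) ((LL c M B).subgroupOf (Cz c)) where
  hN := by rw [card_subgroupOf hN'.le]; exact hN'.odd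
  hB := (c.isPGroup_map B).comap_of_injective _ (Cz c).subtype_injective
  hBN := by
    rintro g b ⟨x, hx, hxb⟩
    obtain ⟨n, hn, y, hy, h⟩ := hN'.mv g g.2 x hx
    refine ⟨⟨n, hN'.le hn⟩, hn, ⟨c.ι y, range_le_Cz c ⟨y, rfl⟩⟩, ⟨y, hy, rfl⟩, ?_⟩
    apply Subtype.ext
    show (g : G) * b * (g : G)⁻¹ = n * c.ι y
    rw [← h, hxb]
    rfl
  hL := by
    intro l hl b hb
    apply Subtype.ext
    have h1 := Subgroup.mem_centralizer_iff.1 (Subgroup.mem_subgroupOf.1 hl).2.1 _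
      (Subgroup.mem_subgroupOf.1 hb)
    exact h1.symm
  hLo := by
    have h1 : LL c M B ≤ Cz c := inf_le_left
    have h2 : LL c M B ≤ M := inf_le_right.trans inf_le_right
    rw [card_subgroupOf h1]
    exact hM.odd.of_dvd_nat (Subgroup.card_dvd_of_le h2)
  hL2 := by
    intro g hg
    have h1 : ∀ x ∈ B, (g : G) * c.ι x = c.ι x * g := by
      intro x hx
      have h2 := hg ⟨c.ι x, range_le_Cz c ⟨x, rfl⟩⟩ ⟨x, hx, rfl⟩
      exact congrArg Subtype.val h2
    have h2 : (g : G) ∈ KV c := by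
      rw [KNil.mem_KV]
      exact ⟨h1 z0 (hVB z0_mem_V), h1 a0 (hVB a0_mem_V)⟩
    obtain ⟨n, hn, r, hr, h3⟩ := hM.prod g h2
    refine ⟨9, ?_⟩
    rw [Subgroup.mem_subgroupOf]
    refine ⟨(g ^ 2 ^ 9).2, Subgroup.mem_centralizer_iff.2 ?_, ?_⟩
    · rintro _ ⟨x, hx, rfl⟩
      have h4 : Commute ((g : G)) (c.ι x) := h1 x hx
      rw [Subgroup.coe_pow]
      exact (h4.pow_left _).eq.symm
    · rw [Subgroup.coe_pow, h3]
      have hrK : c.ι r ∈ KV c := by
        rw [KNil.mem_KV, ← map_mul, ← map_mul, ← map_mul, ← map_mul]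
        rw [R2_cent hr z0_mem_V, R2_cent hr a0_mem_V]
        exact ⟨rfl, rfl⟩
      have h4 := pow_mul_inv_mem hn (hM.norm _ hrK) (2 ^ 9)
      have h5 : (c.ι r) ^ (2 ^ 9) = 1 := by
        rw [← map_pow]
        have : r ^ (2 ^ 9) = 1 := by
          have h6 : r ^ Nat.card SM = 1 := pow_card_eq_one'
          rwa [card_SM] at h6
        rw [this, map_one]
      rwa [h5, inv_one, mul_one] at h4

/-- (ii) -/
theorem core_le {M : Subgroup G} (hM : KN c M) {B : Subgroup SM} (hVB : V ≤ B) {N' : Subgroup G}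
    (hN' : BN c B N') {t : G} (ht : t * t = 1) (htC : t ∈ Cz c) {R : Subgroup G} (hRC : R ≤ Cz c)
    (hRt : ∀ r ∈ R, r * t = t * r) (hR : Odd (Nat.card R))
    (hRn : ∀ g ∈ Cz c, g * t = t * g → ∀ r ∈ R, g * r * g⁻¹ ∈ R) : R ≤ K (c.ι z0) := by
  have hn : (N'.subgroupOf (Cz c)).Normal := by
    refine ⟨fun x hx g => ?_⟩
    rw [Subgroup.mem_subgroupOf] at hx ⊢
    exact hN'.norm g g.2 x hx
  have h := lhyp hM hVB hN' hn
  have h1 := h.le_sup (t := ⟨t, htC⟩) (Subtype.ext ht) (R := R.subgroupOf (Cz c))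
    (fun r hr => Subtype.ext (hRt _ (Subgroup.mem_subgroupOf.1 hr)))
    (by rw [card_subgroupOf hRC]; exact hR)
    (by
      intro g hg r hr
      rw [Subgroup.mem_subgroupOf] at hr ⊢
      exact hRn g g.2 (congrArg Subtype.val hg) r hr)
  set W0 := (N'.subgroupOf (Cz c) ⊔ (LL c M B).subgroupOf (Cz c)).map (Cz c).subtype with hW0
  have h2 : W0 ≤ K (c.ι z0) := by
    refine le_K (Subgroup.map_subtype_le _) ?_ ?_
    · rw [hW0, Subgroup.card_map_of_injective (Cz c).subtype_injective]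
      exact h.odd_sup
    · rintro g hg _ ⟨y, hy, rfl⟩
      exact ⟨_, h.normal_sup hy ⟨g, hg⟩, rfl⟩
  intro r hr
  exact h2 ⟨⟨r, hRC hr⟩, h1 (Subgroup.mem_subgroupOf.2 hr), rfl⟩

/-- the balance hypothesis -/
def Bal (c : Ctx G) : Prop := ∀ x y : G, DG c x → DG c y → x * y = y * x → ∀ k ∈ K x,
  k * y = y * k → k ∈ K y

theorem DG.conj {x : G} (h : DG c x) (g : G) : DG c (g * x * g⁻¹) := by
  obtain ⟨k, hk⟩ := h
  exact ⟨k * g⁻¹, by rw [← hk]; group⟩

theorem DG.sq {x : G} (h : DG c x) : x * x = 1 := by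
  obtain ⟨g, hg⟩ := h
  apply conj_inj (g := g)
  rw [conj_map_mul, hg, ← map_mul, z0_sq, map_one, mul_one, mul_inv_cancel]

/-- (iii) -/
theorem bal {M : Subgroup G} (hM : KN c M) {B : Subgroup SM} (hVB : V ≤ B) {N' : Subgroup G}
    (hN' : BN c B N') : Bal c := by
  intro x y hx hy hxy k hk hky
  obtain ⟨g, hg⟩ := hy
  set R : Subgroup G := (K x ⊓ Subgroup.centralizer {y}).map (MulAut.conj g).toMonoidHom with hR
  have hRm : ∀ r ∈ R, ∃ l ∈ K x, l * y = y * l ∧ r = g * l * g⁻¹ := by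
    rintro _ ⟨l, ⟨hl1, hl2⟩, rfl⟩
    exact ⟨l, hl1, Subgroup.mem_centralizer_singleton_iff.1 hl2, rfl⟩
  have hRmem : ∀ l ∈ K x, l * y = y * l → g * l * g⁻¹ ∈ R := fun l h1 h2 =>
    ⟨l, ⟨h1, Subgroup.mem_centralizer_singleton_iff.2 h2⟩, rfl⟩
  have hcz : ∀ l : G, l * y = y * l → g * l * g⁻¹ ∈ Cz c := by
    intro l hl
    rw [mem_Cz, mul_inv_eq_iff_eq_mul, ← hg, ← conj_map_mul, ← conj_map_mul, hl]
  have hcz' : ∀ h ∈ Cz c, (g⁻¹ * h * g) * y = y * (g⁻¹ * h * g) := by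
    intro h hh
    apply conj_inj (g := g)
    rw [conj_map_mul g (g⁻¹ * h * g) y, conj_map_mul g y (g⁻¹ * h * g), hg]
    have h1 := (mem_Cz c).1 hh
    rw [mul_inv_eq_iff_eq_mul] at h1
    have h2 : g * (g⁻¹ * h * g) * g⁻¹ = h := by group
    rw [h2, h1]
  have h1 : R ≤ K (c.ι z0) := by
    refine core_le hM hVB hN' (t := g * x * g⁻¹) (DG.sq (DG.conj hx g)) (hcz x hxy) ?_ ?_ ?_ ?_
    · intro r hr
      obtain ⟨l, hl, hly, rfl⟩ := hRm r hr
      exact hcz l hly
    · intro r hr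
      obtain ⟨l, hl, hly, rfl⟩ := hRm r hr
      have h2 := Subgroup.mem_centralizer_singleton_iff.1 (K_le x hl)
      rw [← conj_map_mul, ← conj_map_mul, h2]
    · rw [hR, Subgroup.card_map_of_injective (MulAut.conj g).injective]
      exact (K_odd x).of_dvd_nat (Subgroup.card_dvd_of_le inf_le_left)
    · intro h hh hht r hr
      obtain ⟨l, hl, hly, rfl⟩ := hRm r hr
      have h2 := hcz' h hh
      have h3 : (g⁻¹ * h * g) * x = x * (g⁻¹ * h * g) := by
        apply conj_inj (g := g)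
        rw [conj_map_mul g (g⁻¹ * h * g) x, conj_map_mul g x (g⁻¹ * h * g)]
        have h4 : g * (g⁻¹ * h * g) * g⁻¹ = h := by group
        rw [h4, hht]
      have h5 : h * (g * l * g⁻¹) * h⁻¹ = g * ((g⁻¹ * h * g) * l * (g⁻¹ * h * g)⁻¹) * g⁻¹ := by
        group
      rw [h5]
      refine hRmem _ (K_conj (Subgroup.mem_centralizer_singleton_iff.2 h3) hl) ?_
      have h6 : Commute (g⁻¹ * h * g) y := h2
      have h7 : Commute l y := hly
      exact ((h6.mul_left h7).mul_left h6.inv_left).eq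
  have h2 := K_map g⁻¹ (c.ι z0) (h1 (hRmem k hk hky))
  have h3 : g⁻¹ * (g * k * g⁻¹) * g⁻¹⁻¹ = k := by group
  have h4 : g⁻¹ * c.ι z0 * g⁻¹⁻¹ = y := by rw [← hg]; group
  rwa [h3, h4] at h2

/-- (iv) -/
theorem K_le_W (hb : Bal c) {x v w : G} (hx : DG c x) (hv : DG c v) (hw : DG c w)
    (hvw' : DG c (v * w)) (hvw : v * w = w * v) (hxv : x * v = v * x) (hxw : x * w = w * x) :
    K x ≤ K v ⊔ K w ⊔ K (v * w) := by
  have hn : ∀ y : G, x * y = y * x → ∀ h ∈ K x, y * h * y⁻¹ ∈ K x := fun y hy h hh =>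
    K_conj (Subgroup.mem_centralizer_singleton_iff.2 hy.symm) hh
  refine Lib.KleinGen.le_of_klein (K x) _ (K_odd x) v w (DG.sq hv) (DG.sq hw) hvw (hn v hxv)
    (hn w hxw) ?_ ?_ ?_
  · rintro k ⟨h1, h2⟩
    exact Subgroup.mem_sup_left (Subgroup.mem_sup_left
      (hb x v hx hv hxv k h1 (Subgroup.mem_centralizer_singleton_iff.1 h2)))
  · rintro k ⟨h1, h2⟩
    exact Subgroup.mem_sup_left (Subgroup.mem_sup_right
      (hb x w hx hw hxw k h1 (Subgroup.mem_centralizer_singleton_iff.1 h2)))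
  · rintro k ⟨h1, h2⟩
    exact Subgroup.mem_sup_right
      (hb x (v * w) hx hvw' (by rw [← mul_assoc, hxv, mul_assoc, hxw, mul_assoc]) k h1
        (Subgroup.mem_centralizer_singleton_iff.1 h2))

end Main

/-- **(8a)** -/
theorem cores (hSF : SolvFun.{u}) (hFT : OddSolv.{u}) {G : Type u} [Group G] [Finite G] (c : Ctx G)
    {M : Subgroup G} (hM : KN c M) {B : Subgroup SM} (hB : B = OmU ∨ B = Q) {N' : Subgroup G}
    (hN' : BN c B N') (hD : ∀ x ∈ B, x * x = 1 → x ≠ 1 → Dz c x) :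
    ∃ W : Subgroup G, Odd (Nat.card W) ∧
      (∀ N : Subgroup G, N ≤ Cz c → Odd (Nat.card N) →
        (∀ g ∈ Cz c, ∀ n ∈ N, g * n * g⁻¹ ∈ N) → N ≤ W) ∧
      (∀ g ∈ Cz c, ∀ w ∈ W, g * w * g⁻¹ ∈ W) ∧
      (∀ g, Nm c J g → ∀ w ∈ W, g * w * g⁻¹ ∈ W) ∧ M ≤ W := by
  have hOmB : ∀ x ∈ Om, x ∈ B := by
    intro x hx
    rcases hB with rfl | rfl
    · exact Om_le_OmU hx
    · exact Om_le_Q hx
  have hVB : V ≤ B := fun x hx => hOmB x (V_le_Om hx)
  have hb := bal hM hVB hN'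
  have hDG : ∀ x ∈ B, x * x = 1 → x ≠ 1 → DG c (c.ι x) := hD
  have hOmD : ∀ x ∈ Om, x ≠ 1 → DG c (c.ι x) := fun x hx h1 =>
    hDG x (hOmB x hx) (mem_Om_iff.1 hx).2 h1
  have hinj1 : ∀ x : SM, c.ι x ≠ 1 → x ≠ 1 := by
    rintro x h rfl
    exact h (map_one _)
  have hOmc : ∀ x ∈ Om, ∀ y ∈ Om, x * y = y * x := fun x hx y hy =>
    comm_J (mem_Om_iff.1 hx).1 (mem_Om_iff.1 hy).1
  -- the signalizer functor theorem
  set W : Subgroup G := ⨆ a : {a : G // a ∈ Om.map c.ι ∧ a ≠ 1}, K (a : G) with hW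
  have hWodd : Odd (Nat.card W) := by
    have h1 := hSF G (Om.map c.ι) (fun a => K a) ?_ ?_ ?_ ?_ ?_ ?_ ?_ ?_
    · rwa [← Nat.not_even_iff_odd, even_iff_two_dvd]
    · rintro _ ⟨x, hx, rfl⟩ _ ⟨y, hy, rfl⟩
      rw [← map_mul, ← map_mul, hOmc x hx y hy]
    · rintro _ ⟨x, hx, rfl⟩
      rw [pow_two, ← map_mul, (mem_Om_iff.1 hx).2, map_one]
    · rw [c.card_map, card_Om]
      norm_num
    · intro a _ _
      exact K_le a
    · intro a _ _
      rw [← even_iff_two_dvd, Nat.not_even_iff_odd]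
      exact K_odd a
    · rintro _ ⟨x, hx, rfl⟩ _ _ ⟨y, hy, rfl⟩ k hk
      refine K_conj ?_ hk
      rw [Subgroup.mem_centralizer_singleton_iff, ← map_mul, ← map_mul, hOmc x hx y hy]
    · intro a _ _
      exact hFT _ (K_odd a)
    · rintro _ ⟨x, hx, rfl⟩ h1 _ ⟨y, hy, rfl⟩ h2 k ⟨hk, hk2⟩
      exact hb _ _ (hOmD x hx (hinj1 x h1)) (hOmD y hy (hinj1 y h2))
        (by rw [← map_mul, ← map_mul, hOmc x hx y hy]) k hk
        (Subgroup.mem_centralizer_singleton_iff.1 hk2)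
  have hOmW : ∀ x ∈ Om, x ≠ 1 → K (c.ι x) ≤ W := by
    intro x hx h1
    exact le_iSup (fun a : {a : G // a ∈ Om.map c.ι ∧ a ≠ 1} => K (a : G))
      ⟨c.ι x, ⟨x, hx, rfl⟩, fun e => h1 (c.inj (by rw [e, map_one]))⟩
  have hz0Om : z0 ∈ Om := V_le_Om z0_mem_V
  have ha0Om : a0 ∈ Om := V_le_Om a0_mem_V
  have ha1Om : z0 * a0 ∈ Om := Om.mul_mem hz0Om ha0Om
  have ha1 : z0 * a0 ≠ 1 := by
    intro e
    have h1 : a0 = z0 := by
      have h2 : z0 * a0 = z0 * z0 := by rw [e, z0_sq]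
      exact mul_left_cancel h2
    exact a0_ne_z0 h1
  have hzW := hOmW z0 hz0Om z0_ne_one
  -- `g` mapping `Om#` to itself normalizes `W`
  have hperm : ∀ g : G, (∀ x ∈ Om, x ≠ 1 → ∃ y ∈ Om, y ≠ 1 ∧ g * c.ι x * g⁻¹ = c.ι y) →
      ∀ w ∈ W, g * w * g⁻¹ ∈ W := by
    intro g hg
    have h1 : W ≤ W.comap (MulAut.conj g).toMonoidHom := by
      rw [hW]
      refine iSup_le ?_
      rintro ⟨_, ⟨x, hx, rfl⟩, hx1⟩ k hk
      obtain ⟨y, hy, hy1, h2⟩ := hg x hx (hinj1 x hx1)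
      rw [Subgroup.mem_comap]
      have h3 := K_map g (c.ι x) hk
      rw [h2] at h3
      exact hOmW y hy hy1 h3
    exact h1
  refine ⟨W, hWodd, ?_, ?_, ?_, ?_⟩
  · intro N h1 h2 h3
    exact (le_K h1 h2 h3).trans hzW
  · intro g hg w hw
    -- Frattini
    have hn : (N'.subgroupOf (Cz c)).Normal := by
      refine ⟨fun x hx g => ?_⟩
      rw [Subgroup.mem_subgroupOf] at hx ⊢
      exact hN'.norm g g.2 x hx
    have hl := lhyp hM hVB hN' hn
    obtain ⟨n, hnN, hnB⟩ := frattini _ _ hl.hN hl.hB hl.hBN ⟨g, hg⟩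
    rw [Subgroup.mem_subgroupOf] at hnN
    have hnB' : ∀ x ∈ B, ∃ y ∈ B, ((n : G) * g) * c.ι x * ((n : G) * g)⁻¹ = c.ι y := by
      intro x hx
      have h1 := hnB ⟨c.ι x, range_le_Cz c ⟨x, rfl⟩⟩ ⟨x, hx, rfl⟩
      obtain ⟨y, hy, hy'⟩ := Subgroup.mem_subgroupOf.1 h1
      exact ⟨y, hy, hy'.symm⟩
    set m : G := (n : G) * g with hm
    have hmC : m ∈ Cz c := (Cz c).mul_mem n.2 hg
    have hnK : (n : G) ∈ W := hzW (le_K hN'.le hN'.odd hN'.norm hnN)
    have hmW : ∀ w ∈ W, m * w * m⁻¹ ∈ W := by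
      have hinv : ∀ x : SM, x * x = 1 → x ≠ 1 → ∀ y : SM, m * c.ι x * m⁻¹ = c.ι y →
          y * y = 1 ∧ y ≠ 1 := by
        intro x hx hx1 y hy
        constructor
        · apply c.inj
          rw [map_mul, ← hy, ← conj_map_mul, ← map_mul, hx, map_one, mul_one, mul_inv_cancel]
        · rintro rfl
          apply hx1
          apply c.inj
          apply conj_inj (g := m)
          rw [hy, map_one, mul_one, mul_inv_cancel]
      rcases hB with hB | hB
      · -- `B = OmU`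
        apply hperm
        intro x hx hx1
        obtain ⟨y, hy, hxy⟩ := hnB' x (hOmB x hx)
        obtain ⟨hy2, hy1⟩ := hinv x (mem_Om_iff.1 hx).2 hx1 y hxy
        rw [hB] at hy
        exact ⟨y, inv_OmU hy hy2, hy1, hxy⟩
      · -- `B = Q`
        -- all `K x`, `x` an involution of `Q`, lie in `W`
        have hV3 : K (c.ι z0) ⊔ K (c.ι a0) ⊔ K (c.ι z0 * c.ι a0) ≤ W := by
          refine sup_le (sup_le hzW (hOmW a0 ha0Om a0_ne_one)) ?_
          rw [← map_mul]
          exact hOmW _ ha1Om ha1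
        have hzD : DG c (c.ι z0) := hOmD z0 hz0Om z0_ne_one
        have haD : DG c (c.ι a0) := hOmD a0 ha0Om a0_ne_one
        have hzaD : DG c (c.ι z0 * c.ι a0) := by
          rw [← map_mul]
          exact hOmD _ ha1Om ha1
        have hza : c.ι z0 * c.ι a0 = c.ι a0 * c.ι z0 := by rw [← map_mul, ← map_mul, z0_central]
        have hcz : ∀ x : SM, c.ι x * c.ι z0 = c.ι z0 * c.ι x := fun x => by
          rw [← map_mul, ← map_mul, z0_central]
        have hQ1 : ∀ x : SM, x ∈ Q → x * x = 1 → x ≠ 1 → x * a0 = a0 * x → K (c.ι x) ≤ W := by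
          intro x hx hx2 hx1 hxa
          refine (K_le_W hb (hDG x (by rw [hB]; exact hx) hx2 hx1) hzD haD hzaD hza (hcz x) ?_).trans
            hV3
          rw [← map_mul, ← map_mul, hxa]
        have hzQ : z0 ∈ Q := Om_le_Q hz0Om
        have hQ2 : ∀ x : SM, x ∈ Q → x * x = 1 → x ≠ 1 → K (c.ι x) ≤ W := by
          intro x hx hx2 hx1
          obtain ⟨y, hy, hy2, hy1, hyz, hyx, hya⟩ := exists_y hx hx2
          have hzy2 : (z0 * y) * (z0 * y) = 1 := by
            calc (z0 * y) * (z0 * y) = z0 * (y * z0) * y := by group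
              _ = (z0 * z0) * (y * y) := by rw [z0_central]; group
              _ = 1 := by rw [z0_sq, hy2, one_mul]
          have hzy1 : z0 * y ≠ 1 := by
            intro e
            apply hyz
            have h2 : z0 * y = z0 * z0 := by rw [e, z0_sq]
            exact mul_left_cancel h2
          have hzyQ : z0 * y ∈ Q := Q.mul_mem hzQ hy
          refine (K_le_W hb (hDG x (by rw [hB]; exact hx) hx2 hx1) hzD
            (hDG y (by rw [hB]; exact hy) hy2 hy1) ?_ ?_ (hcz x) ?_).trans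
            (sup_le (sup_le hzW (hQ1 y hy hy2 hy1 hya)) ?_)
          · rw [← map_mul]
            exact hDG _ (by rw [hB]; exact hzyQ) hzy2 hzy1
          · exact (hcz y).symm
          · rw [← map_mul, ← map_mul, hyx]
          · rw [← map_mul]
            refine hQ1 _ hzyQ hzy2 hzy1 ?_
            rw [mul_assoc, hya, ← mul_assoc, ← mul_assoc, z0_central]
        have hWV : W ≤ K (c.ι z0) ⊔ K (c.ι a0) ⊔ K (c.ι z0 * c.ι a0) := by
          rw [hW]
          refine iSup_le ?_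
          rintro ⟨_, ⟨x, hx, rfl⟩, hx1⟩
          refine K_le_W hb (hOmD x hx (hinj1 x hx1)) hzD haD hzaD hza (hcz x) ?_
          rw [← map_mul, ← map_mul, hOmc x hx a0 ha0Om]
        have h1 : W ≤ W.comap (MulAut.conj m).toMonoidHom := by
          refine hWV.trans (sup_le (sup_le ?_ ?_) ?_)
          · intro k hk
            have h3 := K_map m (c.ι z0) hk
            rw [(mem_Cz c).1 hmC] at h3
            exact hzW h3
          · intro k hk
            have h3 := K_map m (c.ι a0) hk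
            obtain ⟨y, hy, hxy⟩ := hnB' a0 (hOmB a0 ha0Om)
            obtain ⟨hy2, hy1⟩ := hinv a0 a0_sq a0_ne_one y hxy
            rw [hxy] at h3
            rw [hB] at hy
            exact hQ2 y hy hy2 hy1 h3
          · intro k hk
            rw [← map_mul] at hk
            have h3 := K_map m (c.ι (z0 * a0)) hk
            obtain ⟨y, hy, hxy⟩ := hnB' (z0 * a0) (hOmB _ ha1Om)
            obtain ⟨hy2, hy1⟩ := hinv _ (mem_Om_iff.1 ha1Om).2 ha1 y hxy
            rw [hxy] at h3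
            rw [hB] at hy
            exact hQ2 y hy hy2 hy1 h3
        exact h1
    have h2 := hmW w hw
    have h3 : g * w * g⁻¹ = (n : G)⁻¹ * (m * w * m⁻¹) * (n : G) := by
      rw [hm]
      group
    rw [h3]
    exact W.mul_mem (W.mul_mem (W.inv_mem hnK) h2) hnK
  · intro g hg
    apply hperm
    intro x hx hx1
    obtain ⟨y, hy, hxy⟩ := hg x (mem_Om_iff.1 hx).1
    have hy2 : y * y = 1 := by
      apply c.inj
      rw [map_mul, ← hxy, ← conj_map_mul, ← map_mul, (mem_Om_iff.1 hx).2, map_one, mul_one,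
        mul_inv_cancel]
    refine ⟨y, mem_Om_iff.2 ⟨hy, hy2⟩, ?_, hxy⟩
    rintro rfl
    apply hx1
    apply c.inj
    apply conj_inj (g := g)
    rw [hxy, map_one, mul_one, mul_inv_cancel]
  · have hKC : ∀ g ∈ KV c, g ∈ Cz c := by
      intro g hg
      rw [mem_Cz, mul_inv_eq_iff_eq_mul]
      exact ((KNil.mem_KV c).1 hg).1
    refine (core_le hM hVB hN' (t := c.ι a0) ?_ (range_le_Cz c ⟨a0, rfl⟩)
      (fun m hm => hKC m (hM.le hm)) ?_ hM.odd ?_).trans hzW
    · rw [← map_mul, a0_sq, map_one]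
    · intro m hm
      exact ((KNil.mem_KV c).1 (hM.le hm)).2
    · intro g hg hga m hm
      refine hM.norm g ((KNil.mem_KV c).2 ⟨?_, hga⟩) m hm
      have := (mem_Cz c).1 hg
      rwa [mul_inv_eq_iff_eq_mul] at this

end Cfsg.Agent.HSType.Cores
end

-- part: HSType/Main
section
/-!
# Main theorem of the analysis of simple groups with a Sylow 2-subgroup of HS type
-/

set_option autoImplicit false
set_option linter.style.haveILetI false

namespace Cfsg.Agent.HSType.Main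

open Cfsg.Agent.HSType.Model Cfsg.Agent.HSType.Facts Cfsg.Agent.HSType.FactsU
  Cfsg.Agent.HSType.FactsJ Cfsg.Agent.HSType.FactsI Cfsg.Agent.HSType.Spec
  Cfsg.Agent.HSType.Basic Cfsg.Agent.HSType.Trans Cfsg.Agent.HSType.JFus
  Cfsg.Agent.HSType.InvFusion Cfsg.Agent.HSType.Inv5 Cfsg.Agent.HSType.Inv5b
  Cfsg.Agent.HSType.Simple Cfsg.Agent.HSType.Lines Cfsg.Agent.HSType.Glue Cfsg.Agent.HSType.Out
  Cfsg.Agent.J2Sylow.Functor

universe u

/-- the structure of `C_G(z)` modulo its core -/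
def StructHyp : Prop := ∀ (G : Type u) [Group G] [Finite G] (c : Ctx G), WJ c →
  ∀ N : Subgroup G, ZN c N → ∀ M : Subgroup G, KN c M →
  ∀ B : Subgroup SM, (B = OmU ∨ B = Q) → (∀ x ∈ B, x * x = 1 → x ≠ 1 → x ≠ z0 → CC c x a0) →
  (∀ x ∈ B, ∀ y ∈ R1, CC c x y → y ∈ B) → ∃ N' : Subgroup G, BN c B N'

theorem inU_OmU (x : SM) (h : inU x.1 = true) : x ∈ OmU := ⟨U_le.1 x h, U_le.2 x h⟩

theorem OmU_inv {x : SM} (hx : x ∈ OmU) (h2 : x * x = 1) : x ∈ Om :=
  mem_Om_iff.mpr ⟨OmU_spec hx, h2⟩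

theorem Om_le_OmU {x : SM} (hx : x ∈ Om) : x ∈ OmU := ⟨(Om_le_Q hx).1, (Om_le_Q hx).2⟩

theorem coreData {G : Type u} [Group G] [Finite G] (hSF : SolvFun.{u}) (hFT : OddSolv.{u})
    (c : Ctx G) {M : Subgroup G} (hM : KN c M) {B : Subgroup SM} (hB : B = OmU ∨ B = Q)
    {N' : Subgroup G} (hN' : BN c B N') (hD : ∀ x ∈ B, x * x = 1 → x ≠ 1 → Dz c x) :
    ∃ W : Subgroup G, CoreData c M W := by
  obtain ⟨W, h1, h2, h3, h4, h5⟩ := Cores.cores hSF hFT c hM hB hN' hD
  exact ⟨W, h1, h2, h3, h4, h5⟩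

/-- **Main theorem.** -/
theorem main {G : Type u} [Group G] [Finite G] [IsSimpleGroup G] (hSF : SolvFun.{u})
    (hFT : OddSolv.{u}) (hSt : StructHyp.{u}) (c : Ctx G) : Res c := by
  have hU := UIsol.u_isolated c
  have ha := Dz_a0 c
  have hSw := swapV c ha
  have hJ := wJ c
  obtain ⟨N, hN⟩ := ZStar.exists_ZN c hU
  obtain ⟨M, hM⟩ := KNil.exists_KN c hSw hN
  rcases trichotomy c hU ha with h | ⟨h1, h2⟩ | ⟨h1, h2⟩
  · exact (not_V c h).elim
  · exfalso
    have hcl : ∀ x ∈ OmU, x * x = 1 → x ≠ 1 → x ≠ z0 → CC c x a0 := fun x hx hx2 hx1 hxz =>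
      CC_Om c hSw h2 (OmU_inv hx hx2) hx1 hxz
    have hD : ∀ x ∈ OmU, x * x = 1 → x ≠ 1 → Dz c x := fun x hx hx2 hx1 =>
      h2 x (OmU_inv hx hx2) hx1
    have hsc' := hsc c hN (B := OmU) inf_le_left inU_OmU hD
      (fun x hx hxD => Om_le_OmU (h1 x hxD))
    obtain ⟨N', hN'⟩ := hSt G c hJ N hN M hM OmU (Or.inl rfl) hcl hsc'
    obtain ⟨W, hW⟩ := coreData hSF hFT c hM (Or.inl rfl) hN' hD
    exact not_Om c hU hN h1 h2 hN' hW
  · have hD : ∀ x ∈ Q, x * x = 1 → x ≠ 1 → Dz c x := by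
      intro x hx hx2 hx1
      by_cases hz : x = z0
      · rw [hz]; exact Dz_z0 c
      · exact Dz_of_CC c (h1 x hx hx2 hx1 hz) ha
    have hsc' := hsc c hN (B := Q) le_rfl U_le.1 hD h2
    obtain ⟨N', hN'⟩ := hSt G c hJ N hN M hM Q (Or.inr rfl) h1 hsc'
    obtain ⟨W, hW⟩ := coreData hSF hFT c hM (Or.inr rfl) hN' hD
    have hWb := W_eq_bot c hU hN h1 h2 hW
    have hN'b : N' = ⊥ := by
      rw [eq_bot_iff, ← hWb]; exact hW.core N' hN'.le hN'.odd hN'.norm
    have hMb : M = ⊥ := by rw [eq_bot_iff, ← hWb]; exact hW.le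
    refine ⟨hU, hSw, ha, ?_, h1, ?_⟩
    · intro g hg x hx
      obtain ⟨n, hn, y, hy, hxy⟩ := hN'.mv g hg x hx
      rw [hN'b, Subgroup.mem_bot] at hn
      rw [hn, one_mul] at hxy
      exact ⟨y, hy, hxy⟩
    · apply le_antisymm
      · intro g hg
        obtain ⟨n, hn, r, hr, hgr⟩ := hM.prod g hg
        rw [hMb, Subgroup.mem_bot] at hn
        rw [hgr, hn, one_mul]
        exact Subgroup.mem_map_of_mem _ hr
      · exact KNil.map_R2_le c

end Cfsg.Agent.HSType.Main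
end

-- part: HSType/DatRes
section
/-!
# The gluing data `HSU.Base.Dat` for `C_G(z)`
-/

set_option autoImplicit false
set_option linter.style.haveILetI false

namespace Cfsg.Agent.HSType.DatRes

open Cfsg.Agent.HSType.Model Cfsg.Agent.HSType.Facts Cfsg.Agent.HSType.FactsU
  Cfsg.Agent.HSType.FactsJ Cfsg.Agent.HSType.FactsI Cfsg.Agent.HSType.Spec
  Cfsg.Agent.HSType.Basic Cfsg.Agent.HSType.Trans Cfsg.Agent.HSType.JFus
  Cfsg.Agent.HSType.InvFusion Cfsg.Agent.HSType.Inv5 Cfsg.Agent.HSType.Inv5b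
  Cfsg.Agent.HSType.Simple Cfsg.Agent.HSType.Lines Cfsg.Agent.HSType.Glue Cfsg.Agent.HSType.Out
  Cfsg.Agent.HSType.OutB Cfsg.Agent.HSU.Base

variable {G : Type*} [Group G] {c : Ctx G}

/-- `OmU = Ω₁(J)⟨u⟩` -/
theorem OmU_decomp {x : SM} (hx : x ∈ OmU) : x ∈ Om ∨ x * u0 ∈ Om := by
  have hd : allLT 512 (fun a => imp (andB (inQ a) (inQ' a)) (orB (inOm a) (inOm (mulN a 37))))
      = true := by decide +kernel
  exact orB_spec (imp_spec (allLT_spec hd x.1 x.2) (andB_intro hx.1 hx.2))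

theorem u0_OmU : u0 ∈ OmU := ⟨U_le.1 u0 (by decide +kernel), U_le.2 u0 (by decide +kernel)⟩
theorem z0_OmU : z0 ∈ OmU := ⟨(Om_le_Q (V_le_Om z0_mem_V)).1, (Om_le_Q (V_le_Om z0_mem_V)).2⟩
theorem Om_OmU {x : SM} (h : x ∈ Om) : x ∈ OmU := ⟨(Om_le_Q h).1, (Om_le_Q h).2⟩

theorem card_OmU : Nat.card OmU = 16 := by
  rw [card_sub OmU (fun a => andB (inQ a) (inQ' a)) (fun x =>
    ⟨fun h => andB_intro h.1 h.2, fun h => andB_spec h⟩)]
  decide +kernel

theorem JQ : J.map c.ι ⊓ Q.map c.ι = OmU.map c.ι := by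
  have h : J ⊓ Q = OmU := by
    ext x
    constructor
    · rintro ⟨h1, h2⟩
      refine ⟨h2, ?_⟩
      have hd : allLT 512 (fun a => imp (andB (inJ a) (inQ a)) (inQ' a)) = true := by decide +kernel
      exact imp_spec (allLT_spec hd x.1 x.2) (andB_intro h1 h2)
    · intro h1
      exact ⟨OmU_spec h1, h1.1⟩
  rw [← Subgroup.map_inf_eq _ _ _ c.inj, h]

/-- elements of `Q` outside `⟨u⟩` are noncentral involutions up to `u` -/
theorem Q_decomp {x : SM} (hx : x ∈ Q) : x * x = 1 ∨ (x * u0) * (x * u0) = 1 := by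
  have hd : allLT 512 (fun a => imp (inQ a) (orB (sqIs a 0) (sqIs (mulN a 37) 0))) = true := by
    decide +kernel
  rcases orB_spec (imp_spec (allLT_spec hd x.1 x.2) hx) with h | h
  · exact Or.inl (of_sqIs (y := 1) h)
  · exact Or.inr (of_sqIs (x := x * u0) (y := 1) h)

theorem conj_u [Finite G] (h : Res c) {g : G} (hg : g ∈ Cz c) :
    g * c.ι u0 * g⁻¹ = c.ι u0 ∨ g * c.ι u0 * g⁻¹ = c.ι (u0 * z0) := by
  obtain ⟨y, hy, hxy⟩ := h.norm g hg u0 u0_OmU.1
  rcases h.isolU g hg y hxy with e | e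
  · left; rw [hxy, e]
  · right; rw [hxy, e]

/-- `C_G(z)` acts faithfully on `Q / ⟨u⟩` modulo `Q` -/
theorem faith [Finite G] (h : Res c) {g : G} (hg : g ∈ Cz c)
    (hx : ∀ x ∈ Q.map c.ι, g * x * g⁻¹ = x ∨ g * x * g⁻¹ = x * c.ι z0 ∨ g * x * g⁻¹ = x * c.ι u0 ∨
      g * x * g⁻¹ = x * (c.ι u0 * c.ι z0)) : g ∈ Q.map c.ι := by
  -- involutions are fixed modulo `z`
  have hinv : ∀ x ∈ Q, x * x = 1 → g * c.ι x * g⁻¹ = c.ι x ∨ g * c.ι x * g⁻¹ = c.ι (x * z0) := by
    intro x hxQ hx2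
    obtain ⟨y, hy, hxy⟩ := h.norm g hg x hxQ
    have hy2 := Res.sq_one hxy hx2
    have hxu : x * u0 = u0 * x := Subgroup.mem_centralizer_singleton_iff.mp (Q_le_R1 hxQ)
    have hbad : ∀ v : SM, v * v = z0 → x * v = v * x → y = x * v → False := by
      intro v hv hxv e
      apply z0_ne_one
      rw [e] at hy2
      calc z0 = x * x * (v * v) := by rw [hx2, one_mul, hv]
        _ = x * (x * v) * v := by group
        _ = x * (v * x) * v := by rw [hxv]
        _ = x * v * (x * v) := by group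
        _ = 1 := hy2
    rcases hx _ (Subgroup.mem_map_of_mem _ hxQ) with h1 | h1 | h1 | h1
    · exact Or.inl h1
    · right; rw [h1, map_mul]
    · exfalso
      exact hbad u0 u0_sq hxu (c.inj (by rw [← hxy, h1, map_mul]))
    · exfalso
      refine hbad (u0 * z0) ?_ ?_ (c.inj (by rw [← hxy, h1, map_mul, map_mul]))
      · calc u0 * z0 * (u0 * z0) = u0 * (z0 * u0) * z0 := by group
          _ = u0 * u0 * (z0 * z0) := by rw [← z0_central]; group
          _ = z0 := by rw [z0_sq, mul_one, u0_sq]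
      · calc x * (u0 * z0) = u0 * (x * z0) := by rw [← mul_assoc, hxu, mul_assoc]
          _ = u0 * z0 * x := by rw [z0_central, mul_assoc]
  have hSM : ∀ k : G, k ∈ Cz c → k * c.ι a0 * k⁻¹ = c.ι a0 → ∃ r, k = c.ι r := by
    intro k hk hka
    have h1 : k ∈ KV c := by
      rw [KNil.mem_KV]
      exact ⟨mem_Cz_iff.mp hk, mul_inv_eq_iff_eq_mul.mp hka⟩
    rw [h.kv] at h1
    obtain ⟨r, -, hr⟩ := h1
    exact ⟨r, hr.symm⟩
  have hr : ∃ r, g = c.ι r := by
    rcases hinv a0 (Om_OmU (V_le_Om a0_mem_V)).1 a0_sq with h1 | h1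
    · exact hSM g hg h1
    · obtain ⟨r, hr⟩ := hSM (c.ι s0 * g) ((Cz c).mul_mem (range_le_Cz c ⟨s0, rfl⟩) hg) (by
        calc c.ι s0 * g * c.ι a0 * (c.ι s0 * g)⁻¹ = c.ι s0 * (g * c.ι a0 * g⁻¹) * (c.ι s0)⁻¹ := by
              group
          _ = c.ι (s0 * a1 * s0⁻¹) := by rw [h1, a0_mul_z0, map_mul, map_mul, map_inv]
          _ = c.ι a0 := by rw [s0_swap.2])
      exact ⟨s0⁻¹ * r, by rw [map_mul, ← hr, map_inv]; group⟩
  obtain ⟨r, rfl⟩ := hr
  apply Subgroup.mem_map_of_mem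
  apply mem_Q_of_triv
  intro x hxQ hx2 _ _
  rcases hinv x hxQ hx2 with h1 | h1
  · left; apply c.inj; rw [map_mul, map_mul, map_inv, h1]
  · right; apply c.inj; rw [map_mul, map_mul, map_inv, h1]

theorem sw [Finite G] (h : Res c) : SW (Q.map c.ι) (c.ι z0) (c.ι u0) := by
  have hs := (hsData h).symp
  exact ⟨hs.u_mem, hs.u_sq, hs.z_ne, hs.z_sq, hs.comm_u, hs.conj_mem, hs.sq, hs.comm, hs.self,
    fun g hg hx => faith h (mem_Cz_iff.mpr hg) hx⟩

/-- a line: conjugate of `OmU` -/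
def line (c : Ctx G) (g : G) : Subgroup G := (OmU.map c.ι).map (MulAut.conj g).toMonoidHom

theorem mem_line {g x : G} : x ∈ line c g ↔ ∃ y ∈ OmU, g * c.ι y * g⁻¹ = x := by
  unfold line
  constructor
  · rintro ⟨_, ⟨y, hy, rfl⟩, rfl⟩; exact ⟨y, hy, rfl⟩
  · rintro ⟨y, hy, rfl⟩; exact ⟨c.ι y, Subgroup.mem_map_of_mem _ hy, rfl⟩

theorem u_mem_line [Finite G] (h : Res c) {g : G} (hg : g ∈ Cz c) : c.ι u0 ∈ line c g := by
  rw [mem_line]
  rcases conj_u h hg with h1 | h1
  · exact ⟨u0, u0_OmU, h1⟩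
  · refine ⟨u0 * z0, OmU.mul_mem u0_OmU z0_OmU, ?_⟩
    rw [map_mul, conj_map_mul, h1, (mem_Cz c).mp hg, ← map_mul, mul_assoc, z0_sq, mul_one]

/-- a noncentral involution of a line determines it -/
theorem line_eq [Finite G] (h : Res c) {g k : G} (hg : g ∈ Cz c) (hk : k ∈ Cz c) {x : SM}
    (hxg : c.ι x ∈ line c g) (hxk : c.ι x ∈ line c k) (h2 : x * x = 1) (h1 : x ≠ 1) (hz : x ≠ z0) :
    line c g = line c k := by
  have key : ∀ g : G, g ∈ Cz c → c.ι x ∈ line c g → ∃ l ∈ LL c, g * l * c.ι a0 * (g * l)⁻¹ = c.ι x := by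
    intro g hg hxg
    obtain ⟨y, hy, hyx⟩ := mem_line.mp hxg
    have hy2 : y * y = 1 := by
      apply c.inj
      apply conj_inj (g := g)
      rw [map_mul, conj_map_mul, hyx, ← map_mul, h2, map_one]; group
    have hy1 : y ≠ 1 := by
      rintro rfl
      apply h1
      apply c.inj
      rw [← hyx, map_one]; group
    have hyz : y ≠ z0 := by
      rintro rfl
      apply hz
      apply c.inj
      rw [← hyx, (mem_Cz c).mp hg]
    obtain ⟨l, hl, hla⟩ := h.trans_LL (mem_Om_iff.mpr ⟨OmU_spec hy, hy2⟩) hy1 hyz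
    refine ⟨l, hl, ?_⟩
    calc g * l * c.ι a0 * (g * l)⁻¹ = g * (l * c.ι a0 * l⁻¹) * g⁻¹ := by group
      _ = c.ι x := by rw [hla, hyx]
  obtain ⟨l, hl, hlx⟩ := key g hg hxg
  obtain ⟨m, hm, hmx⟩ := key k hk hxk
  have h3 := mk_eq h ((Cz c).mul_mem hg (mem_LL.mp hl).1) ((Cz c).mul_mem hk (mem_LL.mp hm).1)
    hlx hmx (Or.inl rfl)
  have h4 : k⁻¹ * g ∈ LL c := by
    have : k⁻¹ * g = m * ((k * m)⁻¹ * (g * l)) * l⁻¹ := by group
    rw [this]
    exact (LL c).mul_mem ((LL c).mul_mem hm h3) ((LL c).inv_mem hl)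
  -- `LL` preserves `OmU`
  have hLL : ∀ n ∈ LL c, ∀ y ∈ OmU, ∃ y' ∈ OmU, n * c.ι y * n⁻¹ = c.ι y' := by
    intro n hn y hy
    obtain ⟨hnC, hnN⟩ := mem_LL.mp hn
    rcases OmU_decomp hy with h5 | h5
    · obtain ⟨y', hy', hyy⟩ := hnN y h5
      exact ⟨y', Om_OmU hy', hyy⟩
    · obtain ⟨y', hy', hyy⟩ := hnN _ h5
      have h6 : y = (y * u0) * u0⁻¹ := by group
      obtain ⟨u', hu', hnu⟩ : ∃ u' ∈ OmU, n * c.ι u0 * n⁻¹ = c.ι u' := by
        rcases conj_u h hnC with h7 | h7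
        · exact ⟨u0, u0_OmU, h7⟩
        · exact ⟨u0 * z0, OmU.mul_mem u0_OmU z0_OmU, h7⟩
      refine ⟨y' * u'⁻¹, OmU.mul_mem (Om_OmU hy') (OmU.inv_mem hu'), ?_⟩
      rw [h6, map_mul, map_inv, conj_map_mul, hyy, map_mul, map_inv, ← hnu]; group
  have hle : ∀ g k : G, k⁻¹ * g ∈ LL c → line c g ≤ line c k := by
    intro g k h4 w hw
    obtain ⟨y, hy, hyw⟩ := mem_line.mp hw
    obtain ⟨y', hy', hyy⟩ := hLL _ h4 y hy
    rw [mem_line]
    refine ⟨y', hy', ?_⟩
    rw [← hyy, ← hyw]; group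
  refine le_antisymm (hle g k h4) (hle k g ?_)
  have : g⁻¹ * k = (k⁻¹ * g)⁻¹ := by group
  rw [this]; exact (LL c).inv_mem h4

theorem dat_of_res [Finite G] (h : Res c) :
    Dat (Q.map c.ι) (J.map c.ι) (c.ι z0) (c.ι u0) (c.ι s1) where
  sw := sw h
  card_Q := by rw [c.card_map, card_Q]
  card_C := h.card_C
  lines := by
    refine ⟨{B | ∃ g ∈ Cz c, B = line c g}, ?_, ?_, ?_, ?_, ?_⟩
    · refine ⟨1, (Cz c).one_mem, ?_⟩
      rw [JQ]
      ext x
      rw [mem_line]
      constructor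
      · rintro ⟨y, hy, rfl⟩; exact ⟨y, hy, by group⟩
      · rintro ⟨y, hy, rfl⟩
        have : (1 : G) * c.ι y * 1⁻¹ = c.ι y := by group
        rw [this]; exact Subgroup.mem_map_of_mem _ hy
    · rintro _ ⟨g, hg, rfl⟩
      refine ⟨?_, u_mem_line h hg, ?_, ?_⟩
      · intro x hx
        obtain ⟨y, hy, rfl⟩ := mem_line.mp hx
        obtain ⟨w, hw, hyw⟩ := h.norm g hg y hy.1
        rw [hyw]; exact Subgroup.mem_map_of_mem _ hw
      · unfold line
        rw [Subgroup.card_map_of_injective (MulAut.conj g).injective, c.card_map, card_OmU]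
      · intro x hx y hy
        obtain ⟨x', hx', rfl⟩ := mem_line.mp hx
        obtain ⟨y', hy', rfl⟩ := mem_line.mp hy
        rw [← conj_map_mul, ← conj_map_mul, ← map_mul, ← map_mul,
          comm_J (OmU_spec hx') (OmU_spec hy')]
    · rintro _ ⟨g, hg, rfl⟩ _ ⟨k, hk, rfl⟩ x hxg hxk hx1 hxz hxu hxuz
      obtain ⟨y, hy, hyx⟩ := mem_line.mp hxg
      obtain ⟨x', hx', hxx⟩ := h.norm g hg y hy.1
      have hxx' : c.ι x' = x := by rw [← hxx, hyx]
      rcases Q_decomp hx' with h2 | h2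
      · refine line_eq h hg hk (x := x') (by rw [hxx']; exact hxg) (by rw [hxx']; exact hxk) h2 ?_ ?_
        · rintro rfl; exact hx1 (by rw [← hxx', map_one])
        · rintro rfl; exact hxz hxx'.symm
      · refine line_eq h hg hk (x := x' * u0) ?_ ?_ h2 ?_ ?_
        · rw [map_mul, hxx']; exact (line c g).mul_mem hxg (u_mem_line h hg)
        · rw [map_mul, hxx']; exact (line c k).mul_mem hxk (u_mem_line h hk)
        · intro e
          apply hxuz
          have h3 : x' = u0⁻¹ := mul_eq_one_iff_eq_inv.mp e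
          rw [← hxx', h3, u0_inv, map_mul]
        · intro e
          apply hxu
          have h3 : x' = z0 * u0⁻¹ := by rw [← e]; group
          rw [← hxx', h3, u0_inv]
          congr 1
    · rintro _ ⟨x, hx, rfl⟩
      have hinv : ∀ y ∈ Q, y * y = 1 → ∃ g ∈ Cz c, c.ι y ∈ line c g := by
        intro y hy hy2
        by_cases hy1 : y = 1
        · exact ⟨1, (Cz c).one_mem, by rw [hy1, map_one]; exact (line c 1).one_mem⟩
        by_cases hyz : y = z0
        · refine ⟨1, (Cz c).one_mem, ?_⟩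
          rw [mem_line]; exact ⟨z0, z0_OmU, by rw [hyz]; group⟩
        obtain ⟨g, hg, hga⟩ := CC_symm c (h.cc y hy hy2 hy1 hyz)
        exact ⟨g, hg, mem_line.mpr ⟨a0, Om_OmU (V_le_Om a0_mem_V), hga⟩⟩
      rcases Q_decomp hx with h2 | h2
      · obtain ⟨g, hg, hx⟩ := hinv x hx h2
        exact ⟨_, ⟨g, hg, rfl⟩, hx⟩
      · obtain ⟨g, hg, hxg⟩ := hinv (x * u0) (Q.mul_mem hx u0_OmU.1) h2
        refine ⟨_, ⟨g, hg, rfl⟩, ?_⟩
        have : c.ι x = c.ι (x * u0) * (c.ι u0)⁻¹ := by rw [map_mul]; group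
        rw [this]
        exact (line c g).mul_mem hxg ((line c g).inv_mem (u_mem_line h hg))
    · rintro g hg _ ⟨k, hk, rfl⟩
      refine ⟨_, ⟨g * k, (Cz c).mul_mem (mem_Cz_iff.mpr hg) hk, rfl⟩, ?_⟩
      intro x hx
      obtain ⟨y, hy, rfl⟩ := mem_line.mp hx
      rw [mem_line]
      exact ⟨y, hy, by group⟩
  comm_A := by
    rintro _ ⟨x, hx, rfl⟩ _ ⟨y, hy, rfl⟩
    rw [← map_mul, ← map_mul, comm_J hx hy]
  exp_A := by
    rintro _ ⟨x, hx, rfl⟩
    have hd : allLT 64 (fun a => sqIs (mulN a a) 0) = true := by decide +kernel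
    have h1 : x.1 < 64 := Nat.le_of_ble_eq_true hx
    have h2 : x * x * (x * x) = 1 := of_sqIs (x := x * x) (y := 1) (allLT_spec hd x.1 h1)
    rw [← map_mul, ← map_mul, h2, map_one]
  card_A := by rw [c.card_map, card_J]
  s_sq := by rw [← map_mul, s1_sq, map_one]
  s_u := by
    rw [← map_inv, ← map_mul, ← map_mul, ← map_mul]
    congr 1
  s_A := by
    rintro _ ⟨x, hx, rfl⟩
    rw [← map_inv, ← map_mul, ← map_mul]
    exact Subgroup.mem_map_of_mem _ (J_normal.conj_mem x hx s1)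

end Cfsg.Agent.HSType.DatRes
end

-- part: HSType/SylLift
section
/-!
# Homomorphisms out of the model `SM` (S1777, helper577)

`lift`: five elements of a group satisfying the relations of `SM` define a homomorphism from `SM`.
-/

set_option autoImplicit false

namespace Cfsg.Agent.HSType.SylLift

open Cfsg.Agent.HSType.Model

/-- the relations of `SM` -/
structure Rel {H : Type*} [Group H] (b1 b2 b3 r s : H) : Prop where
  c12 : b1 * b2 = b2 * b1
  c13 : b1 * b3 = b3 * b1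
  c23 : b2 * b3 = b3 * b2
  o1 : b1 ^ 4 = 1
  o2 : b2 ^ 4 = 1
  o3 : b3 ^ 4 = 1
  r1 : r * b1 = b2 ^ 3 * r
  r2 : r * b2 = b1 * r
  r3 : r * b3 = b1 ^ 3 * b3 * r
  s1 : s * b1 = b2 * s
  s2 : s * b2 = b1 * s
  s3 : s * b3 = b3 ^ 3 * s
  r4 : r ^ 4 = 1
  ss : s ^ 2 = 1
  sr : s * r = r ^ 3 * s

variable {H : Type*} [Group H] {b1 b2 b3 r s : H}

/-- the element of the abelian part with code `v` -/
def B (b1 b2 b3 : H) (v : ℕ) : H := b1 ^ (v % 4) * b2 ^ (v / 4 % 4) * b3 ^ (v / 16 % 4)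

/-- the element of the dihedral part with code `d` -/
def D (r s : H) (d : ℕ) : H := r ^ (d % 4) * s ^ (d / 4 % 2)

theorem addV_digits : ∀ v < 64, ∀ w < 64, addV v w % 4 = (v % 4 + w % 4) % 4 ∧
    addV v w / 4 % 4 = (v / 4 % 4 + w / 4 % 4) % 4 ∧ addV v w / 16 % 4 = (v / 16 % 4 + w / 16 % 4) % 4 := by
  have h : allLT 64 (fun v => allLT 64 (fun w => (Nat.beq (addV v w % 4) ((v % 4 + w % 4) % 4) &&
      Nat.beq (addV v w / 4 % 4) ((v / 4 % 4 + w / 4 % 4) % 4) &&
      Nat.beq (addV v w / 16 % 4) ((v / 16 % 4 + w / 16 % 4) % 4)))) = true := by decide +kernel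
  intro v hv w hw
  have h1 := allLT_spec (allLT_spec h v hv) w hw
  simp only [Bool.and_eq_true] at h1
  exact ⟨_root_.Cfsg.Agent.HSType.Model.eq_of_beq h1.1.1, _root_.Cfsg.Agent.HSType.Model.eq_of_beq h1.1.2, _root_.Cfsg.Agent.HSType.Model.eq_of_beq h1.2⟩

theorem act_r_digits : ∀ w < 64, act 1 w % 4 = (w / 4 % 4 + 3 * (w / 16 % 4)) % 4 ∧
    act 1 w / 4 % 4 = (3 * (w % 4)) % 4 ∧ act 1 w / 16 % 4 = w / 16 % 4 := by
  have h : allLT 64 (fun w => (Nat.beq (act 1 w % 4) ((w / 4 % 4 + 3 * (w / 16 % 4)) % 4) &&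
      Nat.beq (act 1 w / 4 % 4) ((3 * (w % 4)) % 4) &&
      Nat.beq (act 1 w / 16 % 4) (w / 16 % 4))) = true := by decide +kernel
  intro w hw
  have h1 := allLT_spec h w hw
  simp only [Bool.and_eq_true] at h1
  exact ⟨_root_.Cfsg.Agent.HSType.Model.eq_of_beq h1.1.1, _root_.Cfsg.Agent.HSType.Model.eq_of_beq h1.1.2, _root_.Cfsg.Agent.HSType.Model.eq_of_beq h1.2⟩

theorem act_s_digits : ∀ w < 64, act 4 w % 4 = w / 4 % 4 ∧
    act 4 w / 4 % 4 = w % 4 ∧ act 4 w / 16 % 4 = (3 * (w / 16 % 4)) % 4 := by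
  have h : allLT 64 (fun w => (Nat.beq (act 4 w % 4) (w / 4 % 4) &&
      Nat.beq (act 4 w / 4 % 4) (w % 4) &&
      Nat.beq (act 4 w / 16 % 4) ((3 * (w / 16 % 4)) % 4))) = true := by decide +kernel
  intro w hw
  have h1 := allLT_spec h w hw
  simp only [Bool.and_eq_true] at h1
  exact ⟨_root_.Cfsg.Agent.HSType.Model.eq_of_beq h1.1.1, _root_.Cfsg.Agent.HSType.Model.eq_of_beq h1.1.2, _root_.Cfsg.Agent.HSType.Model.eq_of_beq h1.2⟩

namespace Rel

theorem B_add (h : Rel b1 b2 b3 r s) {v w : ℕ} (hv : v < 64) (hw : w < 64) :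
    B b1 b2 b3 (addV v w) = B b1 b2 b3 v * B b1 b2 b3 w := by
  obtain ⟨h1, h2, h3⟩ := addV_digits v hv w hw
  have k12 : ∀ i j : ℕ, b2 ^ i * b1 ^ j = b1 ^ j * b2 ^ i := fun i j =>
    (((show Commute b1 b2 from h.c12).pow_pow j i).eq).symm
  have k13 : ∀ i j : ℕ, b3 ^ i * b1 ^ j = b1 ^ j * b3 ^ i := fun i j =>
    (((show Commute b1 b3 from h.c13).pow_pow j i).eq).symm
  have k23 : ∀ i j : ℕ, b3 ^ i * b2 ^ j = b2 ^ j * b3 ^ i := fun i j =>
    (((show Commute b2 b3 from h.c23).pow_pow j i).eq).symm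
  unfold B
  rw [h1, h2, h3, ← pow_eq_pow_mod _ h.o1, ← pow_eq_pow_mod _ h.o2, ← pow_eq_pow_mod _ h.o3, pow_add, pow_add,
    pow_add]
  generalize v % 4 = i1
  generalize v / 4 % 4 = i2
  generalize v / 16 % 4 = i3
  generalize w % 4 = j1
  generalize w / 4 % 4 = j2
  generalize w / 16 % 4 = j3
  calc b1 ^ i1 * b1 ^ j1 * (b2 ^ i2 * b2 ^ j2) * (b3 ^ i3 * b3 ^ j3)
      = b1 ^ i1 * (b1 ^ j1 * b2 ^ i2) * (b2 ^ j2 * b3 ^ i3) * b3 ^ j3 := by group
    _ = b1 ^ i1 * (b2 ^ i2 * b1 ^ j1) * (b3 ^ i3 * b2 ^ j2) * b3 ^ j3 := by rw [k12, k23]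
    _ = b1 ^ i1 * b2 ^ i2 * (b1 ^ j1 * b3 ^ i3) * b2 ^ j2 * b3 ^ j3 := by group
    _ = b1 ^ i1 * b2 ^ i2 * (b3 ^ i3 * b1 ^ j1) * b2 ^ j2 * b3 ^ j3 := by rw [k13]
    _ = b1 ^ i1 * b2 ^ i2 * b3 ^ i3 * (b1 ^ j1 * b2 ^ j2 * b3 ^ j3) := by group

theorem r_B (h : Rel b1 b2 b3 r s) {w : ℕ} (hw : w < 64) :
    r * B b1 b2 b3 w = B b1 b2 b3 (act 1 w) * r := by
  obtain ⟨h1, h2, h3⟩ := act_r_digits w hw
  have k12 : ∀ i j : ℕ, b2 ^ i * b1 ^ j = b1 ^ j * b2 ^ i := fun i j =>
    (((show Commute b1 b2 from h.c12).pow_pow j i).eq).symm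
  unfold B
  rw [h1, h2, h3]
  generalize w % 4 = j1
  generalize w / 4 % 4 = j2
  generalize w / 16 % 4 = j3
  rw [← pow_eq_pow_mod _ h.o1, ← pow_eq_pow_mod _ h.o2]
  have e1 : ∀ j : ℕ, r * b1 ^ j = b2 ^ (3 * j) * r := by
    intro j
    have := (show SemiconjBy r b1 (b2 ^ 3) from h.r1).pow_right j
    rw [pow_mul]; exact this.eq
  have e2 : ∀ j : ℕ, r * b2 ^ j = b1 ^ j * r := fun j => ((show SemiconjBy r b2 b1 from h.r2).pow_right j).eq
  have e3 : ∀ j : ℕ, r * b3 ^ j = b1 ^ (3 * j) * b3 ^ j * r := by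
    intro j
    have := (show SemiconjBy r b3 (b1 ^ 3 * b3) from h.r3).pow_right j
    rw [(((show Commute b1 b3 from h.c13).pow_left 3).mul_pow j)] at this
    rw [pow_mul]; exact this.eq
  calc r * (b1 ^ j1 * b2 ^ j2 * b3 ^ j3) = (r * b1 ^ j1) * b2 ^ j2 * b3 ^ j3 := by group
    _ = b2 ^ (3 * j1) * (r * b2 ^ j2) * b3 ^ j3 := by rw [e1]; group
    _ = b2 ^ (3 * j1) * b1 ^ j2 * (r * b3 ^ j3) := by rw [e2]; group
    _ = (b2 ^ (3 * j1) * b1 ^ (j2 + 3 * j3)) * b3 ^ j3 * r := by rw [e3, pow_add]; group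
    _ = b1 ^ (j2 + 3 * j3) * b2 ^ (3 * j1) * b3 ^ j3 * r := by rw [k12]

theorem s_B (h : Rel b1 b2 b3 r s) {w : ℕ} (hw : w < 64) :
    s * B b1 b2 b3 w = B b1 b2 b3 (act 4 w) * s := by
  obtain ⟨h1, h2, h3⟩ := act_s_digits w hw
  have k12 : ∀ i j : ℕ, b2 ^ i * b1 ^ j = b1 ^ j * b2 ^ i := fun i j =>
    (((show Commute b1 b2 from h.c12).pow_pow j i).eq).symm
  unfold B
  rw [h1, h2, h3]
  generalize w % 4 = j1
  generalize w / 4 % 4 = j2
  generalize w / 16 % 4 = j3
  rw [← pow_eq_pow_mod _ h.o3]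
  have e1 : ∀ j : ℕ, s * b1 ^ j = b2 ^ j * s := fun j => ((show SemiconjBy s b1 b2 from h.s1).pow_right j).eq
  have e2 : ∀ j : ℕ, s * b2 ^ j = b1 ^ j * s := fun j => ((show SemiconjBy s b2 b1 from h.s2).pow_right j).eq
  have e3 : ∀ j : ℕ, s * b3 ^ j = b3 ^ (3 * j) * s := by
    intro j
    have := (show SemiconjBy s b3 (b3 ^ 3) from h.s3).pow_right j
    rw [pow_mul]; exact this.eq
  calc s * (b1 ^ j1 * b2 ^ j2 * b3 ^ j3) = (s * b1 ^ j1) * b2 ^ j2 * b3 ^ j3 := by group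
    _ = b2 ^ j1 * (s * b2 ^ j2) * b3 ^ j3 := by rw [e1]; group
    _ = (b2 ^ j1 * b1 ^ j2) * (s * b3 ^ j3) := by rw [e2]; group
    _ = b1 ^ j2 * b2 ^ j1 * b3 ^ (3 * j3) * s := by rw [e3, k12]; group

theorem s_r (h : Rel b1 b2 b3 r s) (k : ℕ) : s * r ^ k = r ^ (3 * k) * s := by
  have := (show SemiconjBy s r (r ^ 3) from h.sr).pow_right k
  rw [pow_mul]; exact this.eq

theorem D_mul (h : Rel b1 b2 b3 r s) {d e : ℕ} (hd : d < 8) (he : e < 8) :
    D r s (dmul d e) = D r s d * D r s e := by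
  have key : ∀ d < 8, ∀ e < 8, (d / 4 % 2 = 0 → dmul d e % 4 = (d % 4 + e % 4) % 4) ∧
      (d / 4 % 2 = 1 → dmul d e % 4 = (d % 4 + 3 * (e % 4)) % 4) ∧
      dmul d e / 4 % 2 = (d / 4 % 2 + e / 4 % 2) % 2 := by
    decide +kernel
  obtain ⟨h1, h2, h3⟩ := key d hd e he
  unfold D
  rw [h3, ← pow_eq_pow_mod _ h.ss]
  rcases Nat.mod_two_eq_zero_or_one (d / 4) with h4 | h4
  · rw [h1 h4, ← pow_eq_pow_mod _ h.r4, h4]
    generalize d % 4 = i
    generalize e % 4 = k
    generalize e / 4 % 2 = l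
    rw [pow_zero, mul_one, pow_add, zero_add, mul_assoc]
  · rw [h2 h4, ← pow_eq_pow_mod _ h.r4, h4]
    generalize d % 4 = i
    generalize e % 4 = k
    generalize e / 4 % 2 = l
    calc r ^ (i + 3 * k) * s ^ (1 + l) = r ^ i * (r ^ (3 * k) * s) * s ^ l := by
          rw [pow_add, pow_add, pow_one]; group
      _ = r ^ i * (s * r ^ k) * s ^ l := by rw [h.s_r]
      _ = r ^ i * s ^ 1 * (r ^ k * s ^ l) := by rw [pow_one]; group

theorem rpow_B (h : Rel b1 b2 b3 r s) : ∀ i < 4, ∀ w < 64, r ^ i * B b1 b2 b3 w = B b1 b2 b3 (act i w) * r ^ i := by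
  have a0 : ∀ w < 64, act 0 w = w := by
    have h : allLT 64 (fun w => Nat.beq (act 0 w) w) = true := by decide +kernel
    exact fun w hw => _root_.Cfsg.Agent.HSType.Model.eq_of_beq (allLT_spec h w hw)
  have aS : ∀ i < 3, ∀ w < 64, act (i + 1) w = act 1 (act i w) := by
    have h : allLT 3 (fun i => allLT 64 (fun w => Nat.beq (act (i + 1) w) (act 1 (act i w)))) = true := by
      decide +kernel
    exact fun i hi w hw => _root_.Cfsg.Agent.HSType.Model.eq_of_beq (allLT_spec (allLT_spec h i hi) w hw)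
  intro i
  induction i with
  | zero => intro _ w hw; rw [a0 w hw, pow_zero, one_mul, mul_one]
  | succ i ih =>
    intro hi w hw
    rw [aS i (by omega) w hw, pow_succ', mul_assoc, ih (by omega) w hw, ← mul_assoc, h.r_B (act_lt i w), mul_assoc]

theorem D_B (h : Rel b1 b2 b3 r s) {d w : ℕ} (hd : d < 8) (hw : w < 64) :
    D r s d * B b1 b2 b3 w = B b1 b2 b3 (act d w) * D r s d := by
  have a1 : ∀ d < 8, ∀ w < 64, d / 4 % 2 = 0 → act d w = act (d % 4) w := by
    have h : allLT 8 (fun d => allLT 64 (fun w => (!(Nat.beq (d / 4 % 2) 0)) || Nat.beq (act d w) (act (d % 4) w)))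
      = true := by decide +kernel
    intro d hd w hw h0
    have h1 := allLT_spec (allLT_spec h d hd) w hw
    rw [h0] at h1
    exact Model.eq_of_beq (by simpa using h1)
  have a2 : ∀ d < 8, ∀ w < 64, d / 4 % 2 = 1 → act d w = act (d % 4) (act 4 w) := by
    have h : allLT 8 (fun d => allLT 64 (fun w => (!(Nat.beq (d / 4 % 2) 1)) ||
      Nat.beq (act d w) (act (d % 4) (act 4 w)))) = true := by decide +kernel
    intro d hd w hw h0
    have h1 := allLT_spec (allLT_spec h d hd) w hw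
    rw [h0] at h1
    exact Model.eq_of_beq (by simpa using h1)
  unfold D
  rcases Nat.mod_two_eq_zero_or_one (d / 4) with h4 | h4
  · rw [a1 d hd w hw h4, h4, pow_zero, mul_one]
    exact h.rpow_B _ (Nat.mod_lt _ (by norm_num)) w hw
  · rw [a2 d hd w hw h4, h4, pow_one, mul_assoc, h.s_B hw, ← mul_assoc,
      h.rpow_B _ (Nat.mod_lt _ (by norm_num)) _ (act_lt 4 w), mul_assoc]

/-- the homomorphism `SM → H` -/
def lift (h : Rel b1 b2 b3 r s) : SM →* H :=
  MonoidHom.mk' (fun a => B b1 b2 b3 (Nat.land a.1 63) * D r s (Nat.shiftRight a.1 6)) (by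
    intro a b
    have e1 := split_lt (y := dmul (Nat.shiftRight a.1 6) (Nat.shiftRight b.1 6))
      (addV_lt (Nat.land a.1 63) (and63_lt a.1) (act (Nat.shiftRight a.1 6) (Nat.land b.1 63)) (act_lt _ _))
    have e1a : Nat.land (a * b).1 63 = addV (Nat.land a.1 63) (act (Nat.shiftRight a.1 6) (Nat.land b.1 63)) := e1.1
    have e1b : Nat.shiftRight (a * b).1 6 = dmul (Nat.shiftRight a.1 6) (Nat.shiftRight b.1 6) := e1.2
    show B b1 b2 b3 (Nat.land (a * b).1 63) * D r s (Nat.shiftRight (a * b).1 6) = _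
    rw [e1a, e1b, h.B_add (and63_lt _) (act_lt _ _), h.D_mul (shift_lt a.2) (shift_lt b.2), mul_assoc,
      ← mul_assoc (B b1 b2 b3 (act _ _)), ← h.D_B (shift_lt a.2) (and63_lt _)]
    simp only [mul_assoc])

theorem lift_apply (h : Rel b1 b2 b3 r s) (a : SM) :
    h.lift a = B b1 b2 b3 (Nat.land a.1 63) * D r s (Nat.shiftRight a.1 6) := rfl

end Rel

end Cfsg.Agent.HSType.SylLift
end

-- part: HSType/SylData
section
/-!
# Five elements of the Higman–Sims group generating a Sylow 2-subgroup (S1777, helper577)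

Generated file: integer matrices and permutations of the 100 vectors.
-/

set_option autoImplicit false

namespace Cfsg.Agent.HSType.SylData

open Cfsg Cfsg.Agent.LeechMat.Elements Cfsg.Agent.SporadicStructure.PermChain Cfsg.Agent.McLType.Chain
  Cfsg.Agent.LeechPack.Core Cfsg.Agent.LeechPack.X100

/-- Columns of `4` times the matrix of `b1`. -/
def cols_b1 : List ℕ := [0x7c2318421084210846108c2308c213, 0x846108c62f7c5ef8c1ef8461184630, 0x8c1ef842108421083e107c1f09c211, 0x83e108be317c6317c1f18460f84630, 0x8c26f842108421083e107c1f07c211, 0x8c1ef842108421083e107c2707c211, 0x8c1f3842108421083e107c1f07c211, 0x846108be318bdf18c1f183e1183e30, 0x846108be318c62f7c22f8461183df0, 0x846108c5f18c62f8c1f183e0f845f0, 0x8c1ef842108421084e107c1f07c211, 0x8c1ef842108421083e109c1f07c211, 0x846107bdf17c5f18c23184611845f0, 0x83e108c62f8c5f18c2318460f83df0, 0x83e107c6318c5ef7c23183e1184630, 0x846108c62f7be317c23183e11845f0, 0x83e107c6318be318c1ef84611845f0,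 0x846107be2f8c6318c22f83e0f84630, 0x846107c5ef8c6317c1f18461183e30, 0x83e108bdef8be2f8c2318461184630, 0x846108c5f18bdf17c22f8460f84630, 0x83e108c5f17c6318c22f83e1183e30, 0x846107c6317be2f8c2318460f83e30, 0x9c2318421084210846108c2308c20f]
def imgs_b1 : List ℕ := [0x94252842108421084a109425094212, 0x9c6318c62f7c5ef8c5ef8c6318c62f, 0xa421084210842108421084210a4210, 0x9be318be317c6317c5f18c62f8c62f, 0xa42908421084210842108421084210, 0xa42108421084210842108429084210, 0xa42148421084210842108421084210, 0x9c6318be318bdf18c5f18be318be2f, 0x9c6318be318c62f7c62f8c6318bdef, 0x9c6318c5f18c62f8c5f18be2f8c5ef, 0xa42108421084210852108421084210, 0xa4210842108421084210a421084210, 0x9c6317bdf17c5f18c6318c6318c5ef, 0x9be318c62f8c5f18c6318c62f8bdef, 0x9be317c6318c5ef7c6318be318c62f, 0x9c6318c62f7be317c6318be318c5ef, 0x9be317c6318be318c5ef8c6318c5ef, 0x9c6317be2f8c6318c62f8be2f8c62f, 0x9c6317c5ef8c6317c5f18c6318be2f, 0x9be318bdef8be2f8c6318c6318c62f, 0x9c6318c5f18bdf17c62f8c62f8c62f,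 0x9be318c5f17c6318c62f8be318be2f, 0x9c6317c6317be2f8c6318c62f8be2f, 0xb4252842108421084a10942509420e, 0x7c5ef8c6318c6318be317c5f17c633, 0x8c6316c6318c6318c6318c6318c631, 0x8421084a50842109425284a1284a10, 0x94a1084a10842128425284a1094210, 0x842108421084a529425284a1084250, 0x9425084210942129425084a1084a10, 0x9421084a1094a12842508425084250, 0x9421284a1084250842528421284250, 0x84a108421094212842528421284a50, 0x8421094a10942528425084a1284210, 0x8421084a1294250942508421084a50, 0x9421084a128421284a508421284a10, 0x9421084a5084252942509421084210]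
/-- Packed columns. -/
def W_b1 : List ℕ := [0xf00100011001100100010001000100010001000100010001000110010001000110010001100100011001000100013, 0x10001100100010001100110011000f000f0011000f000f00110010000f000f00100011001000110010001100110010, 0x110010000f000f001000100010001000100010001000100010000f00100010000f0010000f00100013001000100011, 0x10000f001000100011000f00110011000f001100110011000f0010000f0011001000110010000f0010001100110010, 0x1100100013000f001000100010001000100010001000100010000f00100010000f0010000f0010000f001000100011, 0x110010000f000f001000100010001000100010001000100010000f00100010000f001000130010000f001000100011, 0x110010000f0013001000100010001000100010001000100010000f00100010000f0010000f0010000f001000100011, 0x100011001000100011000f001100110011000f000f001100110010000f00110010000f001000110010000f00110010, 0x100011001000100011000f00110011001100110011000f000f00100011000f00100011001000110010000f000f0010, 0x1000110010001000110011000f0011001100110011000f00110010000f00110010000f0010000f00100011000f0010,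 0x110010000f000f001000100010001000100010001000100010001300100010000f0010000f0010000f001000100011, 0x110010000f000f001000100010001000100010001000100010000f0010001000130010000f0010000f001000100011, 0x10001100100010000f000f000f0011000f0011000f00110011001000110011001000110010001100100011000f0010, 0x10000f00100010001100110011000f00110011000f00110011001000110011001000110010000f0010000f000f0010, 0x10000f00100010000f00110011001100110011000f000f000f0010001100110010000f001000110010001100110010, 0x10001100100010001100110011000f000f000f00110011000f0010001100110010000f0010001100100011000f0010, 0x10000f00100010000f0011001100110011000f0011001100110010000f000f001000110010001100100011000f0010, 0x10001100100010000f000f0011000f0011001100110011001100100011000f0010000f0010000f0010001100110010, 0x10001100100010000f0011000f000f0011001100110011000f0010000f001100100011001000110010000f00110010, 0x10000f001000100011000f000f000f0011000f0011000f001100100011001100100011001000110010001100110010,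 0x1000110010001000110011000f00110011000f000f0011000f00100011000f001000110010000f0010001100110010, 0x10000f0010001000110011000f0011000f001100110011001100100011000f0010000f001000110010000f00110010, 0x10001100100010000f001100110011000f000f0011000f0011001000110011001000110010000f0010000f00110010, 0x130010001100110010001000100010001000100010001000100011001000100011001000110010001100100010000f]
def sW_b1 : ℕ := 0x188018401800180018401840184018401840184018401840184018001840184018001840180018401800184018401880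
/-- Packed permutation table. -/
def tab_b1 : ℕ := 0x949df94721c45c257cb8a640f05ba7190a8994428e9ab002976cd24420620b65f25a2a8f7930b9d15ad9137434b32682167cf24501b69c409f09bc33f89d1544b709b7b8ce13aa048824a8cf0c1ec69573b6182eac82a2b
def tab_b1' : ℕ := 0x2c78cd5b4e995ca899a06100c981a62672846de5cf618df297749b44408a0a4c2acbaa8e76fa54301abd8d5c5057e10d4a00f2450c4e47c51c6e8823e3439530b97c2b2b0e60296c8c3173138c71619ddbcc66adac40949

theorem check_b1 : checkMat 4 cols_b1 imgs_b1 = true := Cfsg.Agent.LeechMat.Quick.mat_of (by decide +kernel)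
theorem perm_b1 : permCheck 7 100 tab_b1 tab_b1' = true := by decide +kernel
theorem sends_b1 : allBelow (fun i => sendsW 4 W_b1 sW_b1 (look 120 tabX i) (look 120 tabX (look 7 tab_b1 i))) 100
    = true := by decide +kernel

/-- Columns of `4` times the matrix of `b2`. -/
def cols_b2 : List ℕ := [0x7c231842108c230842108461184213, 0x846108bdf1846118bdef8c1f08c630, 0x8c1ef842107c1f08421083e1384211, 0x8c26f842107c1f08421083e0f84211, 0x846108c63183e0f7bdf18c2307c630, 0x846108c5f183e118c6318c1f07bdf0, 0x83e108c6318460f8c5f17c1f08be30, 0x8c1f3842107c1f08421083e0f84211, 0x846108be318460f7c62f8c2308bdf0, 0x846108be2f846118c5f17c2307c5f0, 0x83e108c5f1846117be317c2308c5f0, 0x8c1ef842107c1f08421084e0f84211, 0x846107c5ef846117c5f18c2308be30, 0x8c1ef842107c2708421083e0f84211, 0x83e107be31846118be318c2307be30, 0x8c1ef842109c1f08421083e0f84211, 0x846107c5f18460f8c62f7c2307c630, 0x83e107c63183e118c5ef8c2308c5f0, 0x846107c62f8460f8be318c1f08c5f0, 0x83e108bdef83e0f8c6318c2308c630,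 0x83e108c62f846117c62f8c1f07c630, 0x846108c62f83e118be2f7c2308be30, 0x846107be3183e117c6317c1f08c630, 0x9c231842108c23084210846118420f]
def imgs_b2 : List ℕ := [0x9425284210942508421084a1284212, 0x9c6318bdf18c6318bdef8c5f18c62f, 0xa42108421084210842108421484210, 0xa42908421084210842108421084210, 0x9c6318c6318be2f7bdf18c6317c62f, 0x9c6318c5f18be318c6318c5f17bdef, 0x9be318c6318c62f8c5f17c5f18be2f, 0xa42148421084210842108421084210, 0x9c6318be318c62f7c62f8c6318bdef, 0x9c6318be2f8c6318c5f17c6317c5ef, 0x9be318c5f18c6317be317c6318c5ef, 0xa42108421084210842108521084210, 0x9c6317c5ef8c6317c5f18c6318be2f, 0xa42108421084290842108421084210, 0x9be317be318c6318be318c6317be2f, 0xa421084210a4210842108421084210, 0x9c6317c5f18c62f8c62f7c6317c62f, 0x9be317c6318be318c5ef8c6318c5ef, 0x9c6317c62f8c62f8be318c5f18c5ef, 0x9be318bdef8be2f8c6318c6318c62f, 0x9be318c62f8c6317c62f8c5f17c62f, 0x9c6318c62f8be318be2f7c6318be2f, 0x9c6317be318be317c6317c5f18c62f, 0xb425284210942508421084a128420e,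 0x7c5ef8c6317c5f18c6318be2f8c633, 0x8c6316c6318c6318c6318c6318c631, 0x8c5ef7bdf18c6318c6318be2f8c671, 0x9c5ef7c62f8c6317c6318bdf18c631, 0x8c62f7c62f7be318c6318be2f9c631, 0x9421084a108425084a109425084a50, 0x9421084a5084252942509421084210, 0x942108425094210942528421094250, 0x8bdf17c62f8c5f18c6319be2f8c631, 0x8c5ef8c62f8c62f8c66f8be2f8c631, 0x84210842508421294a508425084a50, 0x9421084a1094a12842508425084250, 0x9c5ef7c6318be318c62f7c62f8c631]
/-- Packed columns. -/
def W_b2 : List ℕ := [0xf00100011001100100010001000100011001000110010001000100010001000100011001000110010001000100013, 0x100011001000100011000f000f001100100011001000110011000f000f000f00110010000f00100011001100110010, 0x110010000f000f0010001000100010000f0010000f001000100010001000100010000f001000130010001000100011, 0x1100100013000f0010001000100010000f0010000f001000100010001000100010000f0010000f0010001000100011, 0x1000110010001000110011001100110010000f0010000f000f000f000f00110011001000110010000f001100110010,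 0x1000110010001000110011000f00110010000f00100011001100110011001100110010000f0010000f000f000f0010, 0x10000f001000100011001100110011001000110010000f00110011000f0011000f0010000f00100011000f00110010, 0x110010000f00130010001000100010000f0010000f001000100010001000100010000f0010000f0010001000100011, 0x100011001000100011000f00110011001000110010000f000f00110011000f00110010001100100011000f000f0010, 0x100011001000100011000f0011000f001000110010001100110011000f0011000f001000110010000f0011000f0010, 0x10000f0010001000110011000f00110010001100100011000f000f00110011000f00100011001000110011000f0010, 0x110010000f000f0010001000100010000f0010000f00100010001000100010001000130010000f0010001000100011, 0x10001100100010000f0011000f000f0010001100100011000f0011000f001100110010001100100011000f00110010, 0x110010000f000f0010001000100010000f00100013001000100010001000100010000f0010000f0010001000100011, 0x10000f00100010000f000f0011001100100011001000110011000f001100110011001000110010000f000f00110010,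 0x110010000f000f001000100010001000130010000f001000100010001000100010000f0010000f0010001000100011, 0x10001100100010000f0011000f0011001000110010000f001100110011000f000f001000110010000f001100110010, 0x10000f00100010000f0011001100110010000f0010001100110011000f000f001100100011001000110011000f0010, 0x10001100100010000f00110011000f001000110010000f0011000f0011001100110010000f001000110011000f0010, 0x10000f001000100011000f000f000f0010000f0010000f001100110011001100110010001100100011001100110010, 0x10000f00100010001100110011000f0010001100100011000f00110011000f00110010000f0010000f001100110010, 0x10001100100010001100110011000f0010000f001000110011000f0011000f000f0010001100100011000f00110010, 0x10001100100010000f000f001100110010000f00100011000f001100110011000f0010000f00100011001100110010, 0x130010001100110010001000100010001100100011001000100010001000100010001100100011001000100010000f]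
def sW_b2 : ℕ := 0x188018401800180018401840184018401800184018001840184018401840184018401800184018001840184018401880
/-- Packed permutation table. -/
def tab_b2 : ℕ := 0x967845b1f79a11842df042e0ea226b4af9c996830e6335faa771aa8c6e92e14af840298ee92c34c4e22b66f4d0a645a5053321e15c4e10609f15ca18234ed06d8eec092c14120260fce048d3d320b84d90eb6c2cad44daf
def tab_b2' : ℕ := 0x349df24a378cc1c1384057e0e2d5194811c464254fc6b4baa7719135716cf9893659298ee90a6866e9dd66be59600283046921e151addcc21d510252388ed002c5592aeb94406c52e0bbf30f44b4c04e10f35658ac3c9bd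

theorem check_b2 : checkMat 4 cols_b2 imgs_b2 = true := Cfsg.Agent.LeechMat.Quick.mat_of (by decide +kernel)
theorem perm_b2 : permCheck 7 100 tab_b2 tab_b2' = true := by decide +kernel
theorem sends_b2 : allBelow (fun i => sendsW 4 W_b2 sW_b2 (look 120 tabX i) (look 120 tabX (look 7 tab_b2 i))) 100
    = true := by decide +kernel

/-- Columns of `4` times the matrix of `b3`. -/
def cols_b3 : List ℕ := [0x7c211842308c2118c2108423084213, 0x846307c611845f083df17c60f8c630, 0x8c20f842707c20f7c210841f084211, 0x846307be0f846308462f8be0f8c630, 0x83e307c61183e30845ef8c6118c5f0, 0x8c20f841f07c20f7c2108427084211, 0x845f08c61184630845ef8c60f7be30, 0x846308c611845f083e2f8be117c5f0, 0x83e308c61183e30846317be0f7c630, 0x846308be0f84630845f17c6117c5f0, 0x845f08be1183e3083e318c60f8c5f0, 0x83e307be118463083e318c6117be30, 0x846308be1183df0845f18be118be30, 0x83e308c60f845f0846318c60f8bdf0, 0x83df08be11845f08462f7c6118c630, 0x8c20f841f09c20f7c210841f084211,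 0x8c20f841f07c20f9c210841f084211, 0x83df08c60f8463083df18be118c630, 0x8c213841f07c20f7c210841f084211, 0x845f07c61184630846317be118bdf0, 0x845f07c60f83df0846318c6117c630, 0x8c20f841f07c2137c210841f084211, 0x846308c60f83e3083e2f7c6118be30, 0x9c211842308c2118c210842308420f]
def imgs_b3 : List ℕ := [0x942128425094212942108425084212, 0x9c6317c6318c5f18bdf17c62f8c62f, 0xa42108429084210842108421084210, 0x9c6317be2f8c6318c62f8be2f8c62f, 0x9be317c6318be318c5ef8c6318c5ef, 0xa42108421084210842108429084210, 0x9c5f18c6318c6318c5ef8c62f7be2f, 0x9c6318c6318c5f18be2f8be317c5ef, 0x9be318c6318be318c6317be2f7c62f, 0x9c6318be2f8c6318c5f17c6317c5ef, 0x9c5f18be318be318be318c62f8c5ef, 0x9be317be318c6318be318c6317be2f, 0x9c6318be318bdf18c5f18be318be2f, 0x9be318c62f8c5f18c6318c62f8bdef, 0x9bdf18be318c5f18c62f7c6318c62f, 0xa421084210a4210842108421084210, 0xa42108421084210a42108421084210, 0x9bdf18c62f8c6318bdf18be318c62f, 0xa42148421084210842108421084210, 0x9c5f17c6318c6318c6317be318bdef,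 0x9c5f17c62f8bdf18c6318c6317c62f, 0xa42108421084214842108421084210, 0x9c6318c62f8be318be2f7c6318be2f, 0xb4212842509421294210842508420e, 0x7c62f8c5f17c62f7c6318c5f18c633, 0x942129421084210942108421294252, 0x8c62f8c5f18c5ef8c6317c5f19be31, 0x9c6318c62f8bdef7c6318c5f18be31, 0x8c6318c5ef7c6317c6318bdf19be31, 0x9421084a108421094a129421294210, 0x9bdf18c5ef7c5f17c6318c6318c631, 0x9c5f18c5f18c6317c62f7c5f18be31, 0x8c5f18c5f18c5ef7c6318bdf38c631, 0x94210849d08421084a52841d084212, 0x8c5ef8c5ef7c6318c6317c5f38c631, 0x9c5ef8bdf18bdf18c6318c5f18c631, 0x9be2f8c5ef8c6318be318c5f18be31]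
/-- Packed columns. -/
def W_b3 : List ℕ := [0xf00100010001100100010001100100011001000100011001100100010001000100010001100100010001000100013, 0x10001100110010000f00110010001100100011000f00100010000f000f0011000f00110010000f0011001100110010, 0x1100100010000f0010001000130010000f00100010000f000f00100010001000100010000f00100010001000100011, 0x10001100110010000f000f0010000f0010001100110010001000110011000f0011000f0010000f0011001100110010, 0x10000f00110010000f0011001000110010000f0011001000100011000f000f001100110010001100110011000f0010, 0x1100100010000f00100010000f0010000f00100010000f000f00100010001000100010001300100010001000100011, 0x100011000f00100011001100100011001000110011001000100011000f000f001100110010000f000f000f00110010, 0x10001100110010001100110010001100100011000f00100010000f0011000f0011000f00100011000f0011000f0010, 0x10000f0011001000110011001000110010000f001100100010001100110011000f000f0010000f000f001100110010, 0x100011001100100011000f0010000f001000110011001000100011000f0011000f001100100011000f0011000f0010,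 0x100011000f00100011000f001000110010000f001100100010000f00110011001100110010000f00110011000f0010, 0x10000f00110010000f000f0010001100100011001100100010000f001100110011001100100011000f000f00110010, 0x100011001100100011000f001000110010000f000f001000100011000f00110011000f001000110011000f00110010, 0x10000f00110010001100110010000f00100011000f00100010001100110011001100110010000f0011000f000f0010, 0x10000f000f00100011000f0010001100100011000f0010001000110011000f000f0011001000110011001100110010, 0x1100100010000f00100010000f0010001300100010000f000f00100010001000100010000f00100010001000100011, 0x1100100010000f00100010000f0010000f00100010000f001300100010001000100010000f00100010001000100011, 0x10000f000f0010001100110010000f00100011001100100010000f000f00110011000f001000110011001100110010, 0x1100100010001300100010000f0010000f00100010000f000f00100010001000100010000f00100010001000100011, 0x100011000f0010000f00110010001100100011001100100010001100110011000f000f001000110011000f000f0010,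 0x100011000f0010000f00110010000f0010000f000f001000100011001100110011001100100011000f001100110010, 0x1100100010000f00100010000f0010000f001000100013000f00100010001000100010000f00100010001000100011, 0x10001100110010001100110010000f0010000f001100100010000f0011000f000f0011001000110011000f00110010, 0x130010001000110010001000110010001100100010001100110010001000100010001000110010001000100010000f]
def sW_b3 : ℕ := 0x188018401840180018401840180018401800184018401800180018401840184018401840180018401840184018401880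
/-- Packed permutation table. -/
def tab_b3 : ℕ := 0x6e7924daf7aadc0c22d8f28ee5b11919faa1d86d234d38c1caccf1b556b60ac81080a806e9934325a9d4124dc396c808514540abcc575eca98697803e34ec85d0e284248548561608be2f3d3c4b2969600e2ef828f2451b
def tab_b3' : ℕ := 0x8a9e7080b7935cb334592bf1eeb46a2562a1d2b023aa9011c0748c8c34fa0bfa2412a8ace9831c6be2388ce6a13426e1408740abc1b2c56198acb2e3f88ec80089bc91ed94d7645c8adb13cf530c059da0f6ca187611ea0

theorem check_b3 : checkMat 4 cols_b3 imgs_b3 = true := Cfsg.Agent.LeechMat.Quick.mat_of (by decide +kernel)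
theorem perm_b3 : permCheck 7 100 tab_b3 tab_b3' = true := by decide +kernel
theorem sends_b3 : allBelow (fun i => sendsW 4 W_b3 sW_b3 (look 120 tabX i) (look 120 tabX (look 7 tab_b3 i))) 100
    = true := by decide +kernel

/-- Columns of `4` times the matrix of `r`. -/
def cols_r : List ℕ := [0x7c6108c21084610842318421084233, 0x8be107c21083e10841ef8421084271, 0x841f183e2f7c2318c6108c5f18be10, 0x84231845ef7c2318be108c62f7c610, 0x8423183e318c1ef8c6108c5ef7c610, 0x841f183df18c2317c6108be317c610, 0x8423183e317c22f8be107be318c610, 0x84231845ef8c1f18c6107bdf18c610, 0x8be107c21083e108426f84210841f1, 0x8be107c21083e10841f384210841f1, 0x8422f83df18c2318c6107c62f8be10, 0x8422f83e2f8c1f17be108c6318c610, 0x84231846317c1f17c6107c6317be10, 0x8422f8462f8c22f8c6108be317be10, 0x8be107c21084e10841ef84210841f1, 0x841f18462f8c22f7c6107c62f8c610, 0x841ef846317c1f18c6108be2f8c610, 0x84231846318c2317be108bdef8be10, 0x841ef846318c2318be107c5f17c610, 0x8be109c21083e10841ef84210841f1,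 0x8422f845f17c22f7c6108c5f18c610, 0x841f1845f18c1ef8be108c6318be10, 0x8ce107c21083e10841ef84210841f1, 0x9c6108c2108461084231842108422f]
def imgs_r : List ℕ := [0x94a109421084a10842528421084252, 0xa42108421084210842108421084290, 0x9c5f18be2f7c6318c6318c5f18be2f, 0x9c6318c5ef7c6318be318c62f7c62f, 0x9c6318be318c5ef8c6318c5ef7c62f, 0x9c5f18bdf18c6317c6318be317c62f, 0x9c6318be317c62f8be317be318c62f, 0x9c6318c5ef8c5f18c6317bdf18c62f, 0xa42108421084210842908421084210, 0xa42108421084210842148421084210, 0x9c62f8bdf18c6318c6317c62f8be2f, 0x9c62f8be2f8c5f17be318c6318c62f, 0x9c6318c6317c5f17c6317c6317be2f, 0x9c62f8c62f8c62f8c6318be317be2f, 0xa42108421085210842108421084210, 0x9c5f18c62f8c62f7c6317c62f8c62f, 0x9c5ef8c6317c5f18c6318be2f8c62f, 0x9c6318c6318c6317be318bdef8be2f, 0x9c5ef8c6318c6318be317c5f17c62f, 0xa4210a421084210842108421084210, 0x9c62f8c5f17c62f7c6318c5f18c62f, 0x9c5f18c5f18c5ef8be318c6318be2f, 0xa52108421084210842108421084210, 0xb4a109421084a1084252842108424e,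 0x7be317c6318be318c5ef8c6318c5f3, 0x94a1084a5284a12842108421084212, 0x9421084a5084210849ce8425084212, 0x94a1084a508425084a1084a1284210, 0x8c6318ce318be318bdef8c6317bdf1, 0x9425094a528421084a109421084210, 0x9421084a1294a50842109421284210, 0x9c5f18c6318c62f8bdef7c6318c5f1, 0x8be318ce318c6317c5ef7c5f18c5f1, 0x8bdef8ce318be2f8c62f8c6318c5f1, 0x9421084a1284210841d094210941d2, 0x9421084a1284a1084a1084a5094210, 0x94a1084a5094210842109425094210]
/-- Packed columns. -/
def W_r : List ℕ := [0xf00110010001000110010001000100010001100100010001000100011001100100010001000100010001000110013, 0x11000f00100010000f0010001000100010000f0010001000100010000f000f00100010001000100010001000130011, 0x100010000f00110010000f0011000f000f001000110011001100110010001000110011000f00110011000f00100010, 0x1000100011001100100011000f000f000f0010001100110011000f00100010001100110011000f000f001100100010, 0x100010001100110010000f0011001100110010000f000f001100110010001000110011000f000f000f001100100010,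 0x100010000f00110010000f000f00110011001000110011000f0011001000100011000f00110011000f001100100010, 0x100010001100110010000f00110011000f00100011000f0011000f00100010000f000f001100110011001100100010, 0x1000100011001100100011000f000f00110010000f00110011001100100010000f000f000f00110011001100100010, 0x11000f00100010000f0010001000100010000f00100010001000100013000f001000100010001000100010000f0011, 0x11000f00100010000f0010001000100010000f0010001000100010000f0013001000100010001000100010000f0011, 0x1000100011000f0010000f000f001100110010001100110011001100100010000f00110011000f0011000f00100010, 0x1000100011000f0010000f0011000f00110010000f0011000f000f0010001000110011001100110011001100100010, 0x100010001100110010001100110011000f0010000f0011000f001100100010000f001100110011000f000f00100010, 0x1000100011000f001000110011000f001100100011000f00110011001000100011000f00110011000f000f00100010, 0x11000f00100010000f001000100010001000130010001000100010000f000f001000100010001000100010000f0011,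 0x100010000f0011001000110011000f001100100011000f000f001100100010000f00110011000f0011001100100010, 0x100010000f000f0010001100110011000f0010000f001100110011001000100011000f0011000f0011001100100010, 0x1000100011001100100011001100110011001000110011000f000f001000100011000f000f000f0011000f00100010, 0x100010000f000f001000110011001100110010001100110011000f00100010000f0011000f0011000f001100100010, 0x11000f0010001000130010001000100010000f0010001000100010000f000f001000100010001000100010000f0011, 0x1000100011000f00100011000f0011000f00100011000f000f00110010001000110011000f00110011001100100010, 0x100010000f001100100011000f001100110010000f000f0011000f0010001000110011001100110011000f00100010, 0x11001300100010000f0010001000100010000f0010001000100010000f000f001000100010001000100010000f0011, 0x130011001000100011001000100010001000110010001000100010001100110010001000100010001000100011000f]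
def sW_r : ℕ := 0x188018001840184018001840184018401840180018401840184018401800180018401840184018401840184018001880
/-- Packed permutation table. -/
def tab_r : ℕ := 0xb13eed5a372cd2c17ebe3c35aa5bbd4e750c56982714157aa763009d70504b632ca4a98e44125166c39788f98ae56b66ac7af241c463d0133c488436730fa83019a407e10ac54492326423473a7269a88832cb4a06de100
def tab_r' : ℕ := 0xb13ebdbb54f0dea93aee3b35b055a572fd0c54569e0c11ea97644a3340043982ec95aa8e305c305004993ef98cd92c172c5f21e1c9841c124e4c7a53a8e2286c29f9b6814ac24889d214c347466f2e0886a6a51606e6280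

theorem check_r : checkMat 4 cols_r imgs_r = true := Cfsg.Agent.LeechMat.Quick.mat_of (by decide +kernel)
theorem perm_r : permCheck 7 100 tab_r tab_r' = true := by decide +kernel
theorem sends_r : allBelow (fun i => sendsW 4 W_r sW_r (look 120 tabX i) (look 120 tabX (look 7 tab_r i))) 100
    = true := by decide +kernel

/-- Columns of `1` times the matrix of `s`. -/
def cols_s : List ℕ := [0x842108421084210842108421084211, 0x842108421084210842108421084230, 0x8421084210842108c2108421084210, 0x842108421084210842108461084210, 0x842108421084210842108c21084210, 0x84210842108c210842108421084210, 0x84210842108421084210842108c210, 0x842108421084210842108421184210, 0x842108421084210842118421084210, 0x842108421084210842308421084210, 0x842108421084230842108421084210, 0x842108421084210842108421084610, 0x842108461084210842108421084210, 0x842108421084210846108421084210, 0x842108421084610842108421084210, 0x842108421084210842108423084210, 0x842108423084210842108421084210,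 0x842108421184210842108421084210, 0x842108421084211842108421084210, 0x842108c21084210842108421084210, 0x842308421084210842108421084210, 0x842118421084210842108421084210, 0x846108421084210842108421084210, 0x8c2108421084210842108421084210]
def imgs_s : List ℕ := [0xa42108421084210842108421084214, 0xa42108421084210842108421084290, 0xa42108421084210a42108421084210, 0xa42108421084210842108521084210, 0xa4210842108421084210a421084210, 0xa421084210a4210842108421084210, 0xa421084210842108421084210a4210, 0xa42108421084210842108421484210, 0xa42108421084210842148421084210, 0xa42108421084210842908421084210, 0xa42108421084290842108421084210, 0xa42108421084210842108421085210, 0xa42108521084210842108421084210, 0xa42108421084210852108421084210, 0xa42108421085210842108421084210, 0xa42108421084210842108429084210, 0xa42108429084210842108421084210, 0xa42108421484210842108421084210, 0xa42108421084214842108421084210, 0xa4210a421084210842108421084210, 0xa42908421084210842108421084210,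 0xa42148421084210842108421084210, 0xa52108421084210842108421084210, 0xc42108421084210842108421084210, 0x6c6318c6318c6318c6318c6318c631, 0x94a1084a5284a12842108421084212, 0x84a1094a5084a1084a108425084250, 0x94a5084a108421294a108425084210, 0x84a1294a128421284a1084a1084210, 0x9425094a528421084a109421084210, 0x942528421294a1284a108421084210, 0x94a129421084a12842108425094210, 0x8425094a1284a12842108425284210, 0x84252942508421284a128425084210, 0x84a529425284a10842508421084210, 0x9425284a5084a50842108425084210, 0x94a12842528421084a108425084a10]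
/-- Packed columns. -/
def W_s : List ℕ := [0x1000100010001000100010001000100010001000100010001000100010001000100010001000100010001000100011, 0x1000100010001000100010001000100010001000100010001000100010001000100010001000100010001000110010, 0x1000100010001000100010001000100010001000100010001100100010001000100010001000100010001000100010, 0x1000100010001000100010001000100010001000100010001000100010001000100011001000100010001000100010, 0x1000100010001000100010001000100010001000100010001000100010001000110010001000100010001000100010, 0x1000100010001000100010001000100011001000100010001000100010001000100010001000100010001000100010, 0x1000100010001000100010001000100010001000100010001000100010001000100010001000100011001000100010, 0x1000100010001000100010001000100010001000100010001000100010001000100010001000110010001000100010, 0x1000100010001000100010001000100010001000100010001000100010001100100010001000100010001000100010, 0x1000100010001000100010001000100010001000100010001000100011001000100010001000100010001000100010,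 0x1000100010001000100010001000100010001000110010001000100010001000100010001000100010001000100010, 0x1000100010001000100010001000100010001000100010001000100010001000100010001000100010001100100010, 0x1000100010001000100011001000100010001000100010001000100010001000100010001000100010001000100010, 0x1000100010001000100010001000100010001000100010001000110010001000100010001000100010001000100010, 0x1000100010001000100010001000100010001100100010001000100010001000100010001000100010001000100010, 0x1000100010001000100010001000100010001000100010001000100010001000100010001100100010001000100010, 0x1000100010001000100010001100100010001000100010001000100010001000100010001000100010001000100010, 0x1000100010001000100010001000110010001000100010001000100010001000100010001000100010001000100010, 0x1000100010001000100010001000100010001000100011001000100010001000100010001000100010001000100010, 0x1000100010001000110010001000100010001000100010001000100010001000100010001000100010001000100010,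 0x1000100011001000100010001000100010001000100010001000100010001000100010001000100010001000100010, 0x1000100010001100100010001000100010001000100010001000100010001000100010001000100010001000100010, 0x1000110010001000100010001000100010001000100010001000100010001000100010001000100010001000100010, 0x1100100010001000100010001000100010001000100010001000100010001000100010001000100010001000100010]
def sW_s : ℕ := 0x181018101810181018101810181018101810181018101810181018101810181018101810181018101810181018101810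
/-- Packed permutation table. -/
def tab_s : ℕ := 0xc78aedab7730debf82bd8b35a751a54ea509f566cc952debc76d5bb36ce5d3868ca4c88f061408b0e33f88f962d56b98315ea949c3c90c26468511b3a9cfa84058ca52e68a8b203c39324386892810608221430a0604100
def tab_s' : ℕ := 0xc78aedab7730debf82bd8b35a751a54ea509f566cc952debc76d5bb36ce5d3868ca4c88f061408b0e33f88f962d56b98315ea949c3c90c26468511b3a9cfa84058ca52e68a8b203c39324386892810608221430a0604100

theorem check_s : checkMat 1 cols_s imgs_s = true := Cfsg.Agent.LeechMat.Quick.mat_of (by decide +kernel)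
theorem perm_s : permCheck 7 100 tab_s tab_s' = true := by decide +kernel
theorem sends_s : allBelow (fun i => sendsW 1 W_s sW_s (look 120 tabX i) (look 120 tabX (look 7 tab_s i))) 100
    = true := by decide +kernel

/-- The tables. -/
def tabs : Fin 5 → ℕ
  | 0 => tab_b1
  | 1 => tab_b2
  | 2 => tab_b3
  | 3 => tab_r
  | 4 => tab_s

/-- The permutations. -/
def σ : Fin 5 → Equiv.Perm (Fin 100)
  | 0 => mkPerm 7 100 tab_b1 tab_b1' perm_b1
  | 1 => mkPerm 7 100 tab_b2 tab_b2' perm_b2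
  | 2 => mkPerm 7 100 tab_b3 tab_b3' perm_b3
  | 3 => mkPerm 7 100 tab_r tab_r' perm_r
  | 4 => mkPerm 7 100 tab_s tab_s' perm_s

theorem σ_spec (k : Fin 5) (i : Fin 100) : (σ k i : ℕ) = look 7 (tabs k) i := by
  fin_cases k <;> rfl

theorem exists_gen (k : Fin 5) : ∃ g : G2, ψ g = σ k := by
  fin_cases k
  · exact exists_gen_of (by norm_num) rfl (by norm_num) check_b1 (by decide +kernel) (by decide +kernel)
      (W := W_b1) (s := sW_b1) (by decide +kernel) (by decide +kernel) sends_b1 _ fun i => rfl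
  · exact exists_gen_of (by norm_num) rfl (by norm_num) check_b2 (by decide +kernel) (by decide +kernel)
      (W := W_b2) (s := sW_b2) (by decide +kernel) (by decide +kernel) sends_b2 _ fun i => rfl
  · exact exists_gen_of (by norm_num) rfl (by norm_num) check_b3 (by decide +kernel) (by decide +kernel)
      (W := W_b3) (s := sW_b3) (by decide +kernel) (by decide +kernel) sends_b3 _ fun i => rfl
  · exact exists_gen_of (by norm_num) rfl (by norm_num) check_r (by decide +kernel) (by decide +kernel)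
      (W := W_r) (s := sW_r) (by decide +kernel) (by decide +kernel) sends_r _ fun i => rfl
  · exact exists_gen_of (by norm_num) rfl (by norm_num) check_s (by decide +kernel) (by decide +kernel)
      (W := W_s) (s := sW_s) (by decide +kernel) (by decide +kernel) sends_s _ fun i => rfl

end Cfsg.Agent.HSType.SylData
end

-- part: HSType/SylHS
section
/-!
# The Sylow 2-subgroups of the Higman–Sims group are isomorphic to `SM` (S1777, helper577)
-/

set_option autoImplicit false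

namespace Cfsg.Agent.HSType.SylHS

open Cfsg Cfsg.Agent.SporadicStructure.PermChain Cfsg.Agent.LeechPack.X100 Cfsg.Agent.HSType.Model
  Cfsg.Agent.HSType.SylLift Cfsg.Agent.HSType.SylData

/-- evaluation of a word in the tables -/
def ev : List (Fin 5) → ℕ → ℕ
  | [], i => i
  | k :: l, i => look 7 (tabs k) (ev l i)

theorem ev_spec (l : List (Fin 5)) (i : Fin 100) : (((l.map σ).prod i : Fin 100) : ℕ) = ev l i := by
  induction l with
  | nil => rfl
  | cons k l ih =>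
    rw [List.map_cons, List.prod_cons, Equiv.Perm.mul_apply, σ_spec, ih]
    rfl

def same (l l' : List (Fin 5)) : Bool := allBelow (fun i => Nat.beq (ev l i) (ev l' i)) 100

theorem prod_eq {l l' : List (Fin 5)} (h : same l l' = true) : (l.map σ).prod = (l'.map σ).prod := by
  apply Equiv.ext
  intro i
  apply Fin.ext
  rw [ev_spec, ev_spec]
  exact Nat.eq_of_beq_eq_true (allBelow_spec _ _ h i i.2)

/-- the five elements -/
noncomputable def g (k : Fin 5) : G2 := (exists_gen k).choose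

theorem ψ_g (k : Fin 5) : ψ (g k) = σ k := (exists_gen k).choose_spec

theorem prod_g {l l' : List (Fin 5)} (h : same l l' = true) : (l.map g).prod = (l'.map g).prod := by
  apply ψ_injective
  rw [map_list_prod, map_list_prod, List.map_map, List.map_map]
  have : (⇑ψ ∘ g) = σ := funext ψ_g
  rw [this]
  exact prod_eq h

theorem rel : _root_.Cfsg.Agent.HSType.SylLift.Rel (g 0) (g 1) (g 2) (g 3) (g 4) where
  c12 := by simpa only [_root_.Fin.isValue, _root_.List.map_cons, _root_.List.map_nil, _root_.List.prod_cons, _root_.List.prod_nil, _root_.mul_one] using prod_g (l := [0, 1]) (l' := [1, 0]) (by decide +kernel)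
  c13 := by simpa only [_root_.Fin.isValue, _root_.List.map_cons, _root_.List.map_nil, _root_.List.prod_cons, _root_.List.prod_nil, _root_.mul_one] using prod_g (l := [0, 2]) (l' := [2, 0]) (by decide +kernel)
  c23 := by simpa only [_root_.Fin.isValue, _root_.List.map_cons, _root_.List.map_nil, _root_.List.prod_cons, _root_.List.prod_nil, _root_.mul_one] using prod_g (l := [1, 2]) (l' := [2, 1]) (by decide +kernel)
  o1 := by simpa only [pow_succ, mul_assoc, _root_.Fin.isValue, _root_.pow_zero, _root_.one_mul, _root_.List.map_cons, _root_.List.map_nil, _root_.List.prod_cons, _root_.List.prod_nil, _root_.mul_one] using prod_g (l := [0, 0, 0, 0]) (l' := []) (by decide +kernel)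
  o2 := by simpa only [pow_succ, mul_assoc, _root_.Fin.isValue, _root_.pow_zero, _root_.one_mul, _root_.List.map_cons, _root_.List.map_nil, _root_.List.prod_cons, _root_.List.prod_nil, _root_.mul_one] using prod_g (l := [1, 1, 1, 1]) (l' := []) (by decide +kernel)
  o3 := by simpa only [pow_succ, mul_assoc, _root_.Fin.isValue, _root_.pow_zero, _root_.one_mul, _root_.List.map_cons, _root_.List.map_nil, _root_.List.prod_cons, _root_.List.prod_nil, _root_.mul_one] using prod_g (l := [2, 2, 2, 2]) (l' := []) (by decide +kernel)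
  r1 := by simpa only [pow_succ, mul_assoc, _root_.Fin.isValue, _root_.pow_zero, _root_.one_mul, _root_.List.map_cons, _root_.List.map_nil, _root_.List.prod_cons, _root_.List.prod_nil, _root_.mul_one] using prod_g (l := [3, 0]) (l' := [1, 1, 1, 3]) (by decide +kernel)
  r2 := by simpa only [pow_succ, mul_assoc, _root_.Fin.isValue, _root_.List.map_cons, _root_.List.map_nil, _root_.List.prod_cons, _root_.List.prod_nil, _root_.mul_one] using prod_g (l := [3, 1]) (l' := [0, 3]) (by decide +kernel)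
  r3 := by simpa only [pow_succ, mul_assoc, _root_.Fin.isValue, _root_.pow_zero, _root_.one_mul, _root_.List.map_cons, _root_.List.map_nil, _root_.List.prod_cons, _root_.List.prod_nil, _root_.mul_one] using prod_g (l := [3, 2]) (l' := [0, 0, 0, 2, 3]) (by decide +kernel)
  s1 := by simpa only [pow_succ, mul_assoc, _root_.Fin.isValue, _root_.List.map_cons, _root_.List.map_nil, _root_.List.prod_cons, _root_.List.prod_nil, _root_.mul_one] using prod_g (l := [4, 0]) (l' := [1, 4]) (by decide +kernel)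
  s2 := by simpa only [pow_succ, mul_assoc, _root_.Fin.isValue, _root_.List.map_cons, _root_.List.map_nil, _root_.List.prod_cons, _root_.List.prod_nil, _root_.mul_one] using prod_g (l := [4, 1]) (l' := [0, 4]) (by decide +kernel)
  s3 := by simpa only [pow_succ, mul_assoc, _root_.Fin.isValue, _root_.pow_zero, _root_.one_mul, _root_.List.map_cons, _root_.List.map_nil, _root_.List.prod_cons, _root_.List.prod_nil, _root_.mul_one] using prod_g (l := [4, 2]) (l' := [2, 2, 2, 4]) (by decide +kernel)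
  r4 := by simpa only [pow_succ, mul_assoc, _root_.Fin.isValue, _root_.pow_zero, _root_.one_mul, _root_.List.map_cons, _root_.List.map_nil, _root_.List.prod_cons, _root_.List.prod_nil, _root_.mul_one] using prod_g (l := [3, 3, 3, 3]) (l' := []) (by decide +kernel)
  ss := by simpa only [pow_succ, mul_assoc, _root_.Fin.isValue, _root_.pow_zero, _root_.one_mul, _root_.List.map_cons, _root_.List.map_nil, _root_.List.prod_cons, _root_.List.prod_nil, _root_.mul_one] using prod_g (l := [4, 4]) (l' := []) (by decide +kernel)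
  sr := by simpa only [pow_succ, mul_assoc, _root_.Fin.isValue, _root_.pow_zero, _root_.one_mul, _root_.List.map_cons, _root_.List.map_nil, _root_.List.prod_cons, _root_.List.prod_nil, _root_.mul_one] using prod_g (l := [4, 3]) (l' := [3, 3, 3, 4]) (by decide +kernel)

/-- the embedding -/
noncomputable def φ : SM →* G2 := rel.lift

/-- the central involution of `SM` -/
def zz : SM := el 10

theorem center_SM : ∀ x : SM, x ∈ Subgroup.center SM → x = 1 ∨ x = zz := by
  have key : ∀ x : SM, (mulN x.1 1 = mulN 1 x.1 ∧ mulN x.1 4 = mulN 4 x.1 ∧ mulN x.1 16 = mulN 16 x.1 ∧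
      mulN x.1 64 = mulN 64 x.1 ∧ mulN x.1 256 = mulN 256 x.1) → x.1 = 0 ∨ x.1 = 10 := by
    refine forall_SM (fun a => (Nat.beq a 0 || Nat.beq a 10 || !(Nat.beq (mulN a 1) (mulN 1 a) &&
      Nat.beq (mulN a 4) (mulN 4 a) && Nat.beq (mulN a 16) (mulN 16 a) && Nat.beq (mulN a 64) (mulN 64 a) &&
      Nat.beq (mulN a 256) (mulN 256 a)))) (by decide +kernel) ?_
    intro x hx ⟨h1, h2, h3, h4, h5⟩
    rw [h1, h2, h3, h4, h5] at hx
    simp only [Nat.beq_refl, Bool.and_self, Bool.not_true, Bool.or_false, Bool.or_eq_true] at hx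
    rcases hx with h | h
    · exact Or.inl (Nat.eq_of_beq_eq_true h)
    · exact Or.inr (Nat.eq_of_beq_eq_true h)
  intro x hx
  rw [Subgroup.mem_center_iff] at hx
  have hc : ∀ y : SM, mulN x.1 y.1 = mulN y.1 x.1 := fun y => (congrArg SM.val (hx y)).symm
  rcases key x ⟨hc (el 1), hc (el 4), hc (el 16), hc (el 64), hc (el 256)⟩ with h | h
  · exact Or.inl (SM.ext h)
  · exact Or.inr (SM.ext h)

theorem φ_zz : φ zz ≠ 1 := by
  intro h
  have h1 : φ zz = ([0, 0, 1, 1].map g).prod := by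
    rw [φ, Rel.lift_apply]
    show B (g 0) (g 1) (g 2) 10 * D (g 3) (g 4) 0 = _
    simp [B, D, pow_succ, mul_assoc]
  rw [h1] at h
  have h2 : ψ (([0, 0, 1, 1].map g).prod) = (([0, 0, 1, 1] : List (Fin 5)).map σ).prod := by
    rw [map_list_prod, List.map_map]
    have : (⇑ψ ∘ g) = σ := funext ψ_g
    rw [this]
  rw [h, map_one] at h2
  have h3 : ∀ i : Fin 100, ev [0, 0, 1, 1] i = i := by
    intro i
    rw [← ev_spec, ← h2]
    rfl
  have h4 : ¬ (allBelow (fun i => Nat.beq (ev [0, 0, 1, 1] i) i) 100 = true) := by decide +kernel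
  apply h4
  have h5 : ∀ n ≤ 100, allBelow (fun i => Nat.beq (ev [0, 0, 1, 1] i) i) n = true := by
    intro n
    induction n with
    | zero => intro _; rfl
    | succ n ih =>
      intro hn
      rw [allBelow, ih (by omega), Bool.and_true]
      have h6 : ev [0, 0, 1, 1] n = n := h3 ⟨n, by omega⟩
      show Nat.beq (ev [0, 0, 1, 1] n) n = true
      rw [h6]
      exact Nat.beq_refl n
  exact h5 100 le_rfl

theorem isPGroup_SM : IsPGroup 2 SM := IsPGroup.of_card (n := 9) (by rw [card_SM]; norm_num)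

theorem φ_injective : Function.Injective φ := by
  have : Fact (Nat.Prime 2) := ⟨Nat.prime_two⟩
  have : Finite SM := Nat.finite_of_card_ne_zero (by rw [card_SM]; norm_num)
  rw [← MonoidHom.ker_eq_bot_iff]
  by_contra hne
  have hnil : Group.IsNilpotent SM := isPGroup_SM.isNilpotent
  have h1 := Cfsg.Agent.Lib.NormalAbelian.normal_inf_center_ne_bot φ.ker hne
  obtain ⟨⟨x, hx⟩, hx1⟩ := Subgroup.ne_bot_iff_exists_ne_one.1 h1
  have hx1' : x ≠ 1 := fun h => hx1 (Subtype.ext h)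
  rcases center_SM x hx.2 with h | h
  · exact hx1' h
  · have h2 : φ x = 1 := hx.1
    rw [h] at h2
    exact φ_zz h2

/-- **Every Sylow 2-subgroup of `HS` is isomorphic to `SM`.** -/
theorem exists_equiv (P : Sylow 2 ↥Cfsg.Spor.HS) : Nonempty (SM ≃* ↥(P : Subgroup ↥Cfsg.Spor.HS)) := by
  have : Fact (Nat.Prime 2) := ⟨Nat.prime_two⟩
  obtain ⟨e⟩ := isoHS_G2
  have hcard : Nat.card ↥Cfsg.Spor.HS = 44352000 := by rw [← Nat.card_congr e.toEquiv, card_G2]
  have : Finite ↥Cfsg.Spor.HS := Nat.finite_of_card_ne_zero (by rw [hcard]; norm_num)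
  let f : SM →* ↥Cfsg.Spor.HS := e.toMonoidHom.comp φ
  have hf : Function.Injective f := e.injective.comp φ_injective
  have h1 : Nat.card f.range = 512 := by
    rw [← card_SM]
    exact (Nat.card_congr (MonoidHom.ofInjective hf).toEquiv).symm
  have h2 : IsPGroup 2 f.range := IsPGroup.of_card (n := 9) (by rw [h1]; norm_num)
  obtain ⟨P', hP'⟩ := h2.exists_le_sylow
  have h3 : Nat.card P' = 512 := by
    rw [P'.card_eq_multiplicity, hcard]
    have : (44352000 : ℕ).factorization 2 = 9 := by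
      rw [show (44352000 : ℕ) = 2 ^ 9 * 86625 by norm_num, Nat.factorization_mul (by norm_num) (by norm_num),
        Finsupp.add_apply, Nat.Prime.factorization_pow Nat.prime_two, Finsupp.single_eq_same,
        Nat.factorization_eq_zero_of_not_dvd (by norm_num)]
    rw [this]; norm_num
  have h4 : f.range = (P' : Subgroup ↥Cfsg.Spor.HS) := by
    apply Subgroup.eq_of_le_of_card_ge hP'
    rw [h1]; exact h3.le
  exact ⟨((MonoidHom.ofInjective hf).trans (MulEquiv.subgroupCongr h4)).trans (P'.equiv P)⟩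

end Cfsg.Agent.HSType.SylHS
end

-- part: HSType/Assemble
section
/-!
# Assembly of S1777

`main : SolvFun → OddSolv → IsoOfCtx → (literal conclusion of S1777)`.
`SolvFun` (S0217) and `OddSolv` (S0205) are proved; `IsoOfCtx` is `HSType/Final.lean` (`isoHS_of_ctx`).
-/

set_option autoImplicit false
open Cfsg

namespace Cfsg.Agent.HSType.Assemble

open Cfsg.Agent.HSType.Basic Cfsg.Agent.HSType.Model Cfsg.Agent.HSType.Facts
  Cfsg.Agent.HSType.Letters Cfsg.Agent.J2Sylow.Functor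

universe u

/-- the recognition of `HS` from the centralizer of an involution (helper896) -/
def IsoOfCtx : Prop := ∀ (G : Type u) [Group G] [Finite G] (z : G) (φ : ↥C0 →* G),
  NormA.Ctx z φ → IsConj (φ (NormA.cA * NormA.cA)) z → Cfsg.Spor.IsoHS G

theorem structHyp (hSF : SolvFun.{u}) (hFT : OddSolv.{u}) : Main.StructHyp.{u} :=
  fun _ _ _ c hJ _ hN _ hM _ hB hcl hsc => Struct.exists_BN c hSF hFT hJ hN hM hB hcl hsc

theorem ctx {G : Type*} [Group G] [Finite G]
    (S : Sylow 2 G) (P : Sylow 2 ↥Cfsg.Spor.HS)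
    (hS : Nonempty (↥(S : Subgroup G) ≃* ↥(P : Subgroup ↥Cfsg.Spor.HS))) : Nonempty (Ctx G) := by
  obtain ⟨e⟩ := hS
  obtain ⟨f⟩ := SylHS.exists_equiv P
  refine ⟨⟨(S : Subgroup G).subtype.comp (f.trans e.symm).toMonoidHom, ?_, S, ?_⟩⟩
  · intro x y hxy
    exact (f.trans e.symm).injective ((S : Subgroup G).subtype_injective hxy)
  · ext x
    constructor
    · intro hx
      refine ⟨f.symm (e ⟨x, hx⟩), ?_⟩
      show ((e.symm (f (f.symm (e ⟨x, hx⟩))) : ↥(S : Subgroup G)) : G) = x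
      rw [MulEquiv.apply_symm_apply, MulEquiv.symm_apply_apply]
    · rintro ⟨s, rfl⟩
      exact (e.symm (f s)).2

/-- S1777 -/
theorem main (hSF : SolvFun.{u}) (hFT : OddSolv.{u}) (hiso : IsoOfCtx.{u})
    {G : Type u} [Group G] [Finite G] [IsSimpleGroup G]
    (S : Sylow 2 G) (P : Sylow 2 ↥Cfsg.Spor.HS)
    (hS : Nonempty (↥(S : Subgroup G) ≃* ↥(P : Subgroup ↥Cfsg.Spor.HS))) : Cfsg.Spor.IsoHS G := by
  obtain ⟨c⟩ := ctx S P hS
  have hR := Main.main hSF hFT (structHyp hSF hFT) c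
  obtain ⟨φ, hφ, hc⟩ := HSU.Final.ctx_of_dat (DatRes.dat_of_res hR) (OutB.hsData hR).conj
  exact hiso G _ φ hφ hc

end Cfsg.Agent.HSType.Assemble
end

-- part: S1777
section
set_option autoImplicit false
open Cfsg

namespace Cfsg.Agent.S1777

/-- Let G be a finite simple group whose Sylow 2-subgroups are isomorphic to a Sylow 2-subgroup of the Higman–Sims group. Then G is isomorphic to the Higman–Sims group. -/
theorem result {G : Type*} [Group G] [Finite G] [IsSimpleGroup G]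
    (S : Sylow 2 G) (P : Sylow 2 ↥Cfsg.Spor.HS) (hS : Nonempty (↥(S : Subgroup G) ≃* ↥(P : Subgroup ↥Cfsg.Spor.HS))) :
    Cfsg.Spor.IsoHS G := by
  haveI : Fact (Nat.Prime 2) := ⟨Nat.prime_two⟩
  exact HSType.Assemble.main
    (fun X _ _ A θ h1 h2 h3 h4 h5 h6 h7 h8 =>
      (S0217.result (p := 2) A h1 h2 h3 θ h4 h5 h6 h7 h8).1)
    (fun X _ _ h => S0205.result h)
    (fun G _ _ z φ h hx => HSType.Final.isoHS_of_ctx h hx) S P hS

end Cfsg.Agent.S1777
end

private theorem dce_d5caff0b955a : _root_.True := by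
  try have : _root_.True := by simp only [_root_.Cfsg.Agent.HSType.SylHS.φ.eq_1]
  try have : _root_.True := by simp only [_root_.Cfsg.Agent.HSType.SylLift.D.eq_1]
  try have : _root_.True := by simp only [_root_.Cfsg.Agent.HSType.SylLift.B.eq_1]
  exact _root_.True.intro
end
end
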