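import Cfsg.Agent.TIAbelian.CaseBGeo_m3
import Mathlib
import Cfsg.Prelude.Def_CaseTheorems
import Cfsg.Agent.Lib.Cores
import Cfsg.Agent.Involutions.NormalFour
import Cfsg.Agent.TwoFusion.StronglyEmbeddedBasic
import Cfsg.Agent.OddOrderCharacters.ClassSum
import Cfsg.Prelude.Def_Classical
import Cfsg.Agent.LieClassical.SUBasic
import Cfsg.Agent.LieClassical.HermBasic
import Cfsg.Agent.Classification.NGroupExclude
import Cfsg.Agent.S1225
import Cfsg.Agent.S1167
import Cfsg.Agent.Lib.Zsigmondy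
import Cfsg.Prelude.Def_Exceptional
import Cfsg.Agent.S1175
import Cfsg.Agent.S0280
import Cfsg.Prelude.Def_Transfer
import Cfsg.Agent.S0222
import Cfsg.Agent.H363.PSL2Spec
import Cfsg.Agent.S1783
import Cfsg.Agent.Involutions.BaerSuzuki
import Cfsg.Agent.SignalizersComponents.FStarPCore
import Cfsg.Agent.SignalizersComponents.CharP
import Cfsg.Agent.Lib.NormalAbelian
import Cfsg.Agent.Lib.FrattiniPGroup
import Cfsg.Agent.S1782
import Cfsg.Prelude.Def_Local
import Cfsg.Agent.Lib.GenFitting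
import Cfsg.Agent.Lib.MinNormal
import Cfsg.Agent.SignalizersComponents.ComponentNormalize
import Cfsg.Agent.SignalizersComponents.FStarNormal
import Cfsg.Agent.SignalizersComponents.IntrinsicDiag
import Cfsg.Agent.S0215
import Cfsg.Statements.S1779
import Cfsg.Agent.FastGrp
import Cfsg.Agent.Prune
set_option linter.all false

section
prune_inst 0x7f00000000000000000000000000000000000000000000000000000000000000000000000000000000000000000000000000000000000000000000000000000000000000000000000000000000000000003fffffffffffffffffffffffffffbeffbdffffffff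

-- part: TIAbelian/PairInst
section
set_option linter.all false
open scoped Cfsg.Agent.FastGrp

-- part: TIAbelian/PairClique
section
set_option autoImplicit false

namespace Cfsg.Agent.TIAbelian.PairClique

open Cfsg.Agent.TIAbelian.PairBase Cfsg.Agent.TIAbelian.PairOmega Cfsg.Agent.TIAbelian.PairGeo
open Cfsg.Agent.TIAbelian.PairLine

variable {G : Type*} [Group G]

/-- maximal cliques -/
structure MaxClique (P K : Set (Subgroup G)) : Prop where
  sub : ∀ C ∈ K, C ∈ P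
  col : ∀ C ∈ K, ∀ D ∈ K, C ≠ D → Col C D
  max : ∀ D ∈ P, (∀ C ∈ K, C ≠ D → Col C D) → D ∈ K

theorem exists_maxClique [Finite G] {P : Set (Subgroup G)} {A B : Subgroup G} (hA : A ∈ P)
    (hB : B ∈ P) (hc : Col A B) : ∃ K, MaxClique P K ∧ A ∈ K ∧ B ∈ K := by
  classical
  let p : Set (Subgroup G) → Prop := fun K =>
    (∀ C ∈ K, C ∈ P) ∧ (∀ C ∈ K, ∀ D ∈ K, C ≠ D → Col C D)
  have hp : p {A, B} := by
    constructor
    · rintro C (rfl | rfl)
      · exact hA
      · exact hB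
    · rintro C (rfl | rfl) D (rfl | rfl) hne
      · exact absurd rfl hne
      · exact hc
      · exact hc.symm
      · exact absurd rfl hne
  obtain ⟨K, hK1, hK2⟩ := Finite.exists_le_maximal hp
  refine ⟨K, ⟨hK2.prop.1, hK2.prop.2, ?_⟩, hK1 (Or.inl rfl), hK1 (Or.inr rfl)⟩
  intro D hD hD2
  have h1 : p (insert D K) := by
    constructor
    · rintro C (rfl | hC)
      · exact hD
      · exact hK2.prop.1 C hC
    · rintro C (rfl | hC) C' (rfl | hC') hne
      · exact absurd rfl hne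
      · exact (hD2 C' hC' hne.symm).symm
      · exact hD2 C hC hne
      · exact hK2.prop.2 C hC C' hC' hne
  exact hK2.le_of_ge h1 (Set.subset_insert D K) (Set.mem_insert D K)

/-- The subgroup generated by the `Ω₁(C)`, `C` in the clique. -/
def EE (K : Set (Subgroup G)) : Subgroup G := Subgroup.closure {x | ∃ C ∈ K, x ∈ Om C}

theorem mem_EE {K : Set (Subgroup G)} {C : Subgroup G} (hC : C ∈ K) {x : G} (hx : x ∈ Om C) :
    x ∈ EE K := Subgroup.subset_closure ⟨C, hC, hx⟩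

section

variable {P : Set (Subgroup G)} (h : Geo P) {K : Set (Subgroup G)} (hK : MaxClique P K)
include h hK

theorem gen_comm {x y : G} (hx : ∃ C ∈ K, x ∈ Om C) (hy : ∃ C ∈ K, y ∈ Om C) : x * y = y * x := by
  obtain ⟨C, hC, hx⟩ := hx
  obtain ⟨D, hD, hy⟩ := hy
  by_cases hCD : C = D
  · subst hCD
    exact h.comm C (hK.sub C hC) _ hx.1 _ hy.1
  · exact h.comm_om C (hK.sub C hC) D (hK.sub D hD) (hK.col C hC D hD hCD) x hx y hy

theorem EE_comm : ∀ x ∈ EE K, ∀ y ∈ EE K, x * y = y * x := by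
  intro x hx y hy
  have h1 : EE K ≤ Subgroup.centralizer {x | ∃ C ∈ K, x ∈ Om C} := by
    rw [EE, Subgroup.closure_le]
    intro z hz
    rw [SetLike.mem_coe, Subgroup.mem_centralizer_iff]
    intro w hw
    exact gen_comm h hK hw hz
  have h2 : EE K ≤ Subgroup.centralizer (EE K : Set G) := by
    rw [EE, Subgroup.closure_le]
    intro z hz
    rw [SetLike.mem_coe, Subgroup.mem_centralizer_iff]
    intro w hw
    exact (Subgroup.mem_centralizer_iff.1 (h1 hw) z hz).symm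
  exact (Subgroup.mem_centralizer_iff.1 (h2 hx) y hy).symm

theorem EE_sq : ∀ x ∈ EE K, x * x = 1 := by
  have hE := EE_comm h hK
  intro x hx
  have : ∀ x (hx : x ∈ Subgroup.closure {x | ∃ C ∈ K, x ∈ Om C}), x ∈ EE K ∧ x * x = 1 := by
    intro x hx
    induction hx using Subgroup.closure_induction with
    | mem x hx =>
      obtain ⟨C, hC, hx⟩ := hx
      exact ⟨mem_EE hC hx, hx.2⟩
    | one => exact ⟨(EE K).one_mem, by simp⟩
    | mul x y _ _ hx hy =>
      refine ⟨(EE K).mul_mem hx.1 hy.1, ?_⟩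
      have : x * y * (x * y) = x * (y * x) * y := by simp only [mul_assoc]
      rw [this, hE y hy.1 x hx.1]
      have : x * (x * y) * y = (x * x) * (y * y) := by simp only [mul_assoc]
      rw [this, hx.2, hy.2, one_mul]
    | inv x _ hx =>
      refine ⟨(EE K).inv_mem hx.1, ?_⟩
      rw [← mul_inv_rev, hx.2, inv_one]
  exact (this x hx).2

theorem mem_of_EE {D : Subgroup G} (hD : D ∈ P) {d : G} (hd : d ∈ D) (hd1 : d ≠ 1)
    (hdE : d ∈ EE K) : D ∈ K := by
  refine hK.max D hD ?_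
  intro C hC hne
  obtain ⟨v, hv, hv1⟩ := exists_ne_Om h (hK.sub C hC)
  exact Geo.col_of_comm hne hv.1 hv1 hd hd1 (EE_comm h hK v (mem_EE hC hv) d hdE)

theorem conj_EE {C : Subgroup G} (hC : C ∈ K) {c : G} (hc : c ∈ C) : cj c (EE K) = EE K := by
  refine cj_eq_of_forall (B := C) ?_ hc
  intro c hc u hu
  have h1 : EE K ≤ cj c⁻¹ (EE K) := by
    conv_lhs => rw [EE]
    rw [Subgroup.closure_le]
    rintro x ⟨D, hD, hx⟩
    rw [SetLike.mem_coe, mem_cj, inv_inv]
    by_cases hCD : D = C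
    · subst hCD
      rw [h.comm D (hK.sub D hD) _ hc _ hx.1, mul_inv_cancel_right]
      exact mem_EE hD hx
    · have hb := h.brak D (hK.sub D hD) C (hK.sub C hC) (hK.col D hD C hC hCD) x hx c hc
      have e : c * x * c⁻¹ = (c * x * c⁻¹ * x⁻¹) * x := by simp only [mul_assoc, _root_.inv_mul_cancel, _root_.mul_one]
      rw [e]
      exact (EE K).mul_mem (mem_EE hC hb) (mem_EE hD hx)
  have := h1 hu
  rwa [mem_cj, inv_inv] at this

theorem cj_mem_K {t : G} (ht : cj t (EE K) = EE K) {C : Subgroup G} (hC : C ∈ K) : cj t C ∈ K := by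
  obtain ⟨v, hv, hv1⟩ := exists_ne_Om h (hK.sub C hC)
  refine mem_of_EE h hK (h.conj C (hK.sub C hC) t) (conj_mem_cj (g := t) hv.1) ?_ ?_
  · intro h0
    apply hv1
    have := congrArg (fun s => t⁻¹ * s * t) h0
    simpa [mul_assoc] using this
  · have := conj_mem_cj (g := t) (mem_EE hC hv)
    rwa [ht] at this

/-- the fixed points on the clique of an element of `C` outside `Ω₁(C)`. -/
theorem fix_iff {C : Subgroup G} (hC : C ∈ K) {c : G} (hc : c ∈ C) (hcc : c * c ≠ 1)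
    {D : Subgroup G} (hD : D ∈ K) : cj c D = D ↔ D = C := by
  constructor
  · intro h1
    by_contra h0
    exact hcc ((h.norm_iff D (hK.sub D hD) C (hK.sub C hC) (hK.col D hD C hC h0) c hc).1 h1)
  · rintro rfl
    exact cj_self hc

theorem sq_fix {C : Subgroup G} (hC : C ∈ K) {c : G} (hc : c ∈ C)
    {D : Subgroup G} (hD : D ∈ K) : cj c (cj c D) = D := by
  rw [cj_cj]
  have h1 := h.sq_Om (hK.sub C hC) hc
  by_cases hCD : D = C
  · subst hCD
    exact cj_self h1.1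
  · exact (h.norm_iff D (hK.sub D hD) C (hK.sub C hC) (hK.col D hD C hC hCD) _ h1.1).2 h1.2

theorem exists_fix [Finite G] (hne : K.Nonempty) {t : G} (tt : t * t = 1) (ht : cj t (EE K) = EE K) :
    ∃ B ∈ K, cj t B = B := by
  obtain ⟨A, hA⟩ := hne
  obtain ⟨a, ha, haa⟩ := h.nonelem A (hK.sub A hA)
  refine parity K (fun Q => cj a Q) (fun Q => cj t Q)
    (fun Q hQ => cj_mem_K h hK (conj_EE h hK hA ha) hQ)
    (fun Q hQ => sq_fix h hK hA ha hQ) A hA
    (fun Q hQ => fix_iff h hK hA ha haa hQ)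
    (fun Q hQ => cj_mem_K h hK ht hQ) ?_
  intro Q hQ
  show cj t (cj t Q) = Q
  rw [cj_cj, tt, cj_one]

/-- A `2`-group normalising `EE K` fixes a member of the clique. -/
theorem exists_fix_group [Finite G] (hne : K.Nonempty) (T : Subgroup G) (hT : IsPGroup 2 ↥T)
    (hTE : ∀ t ∈ T, cj t (EE K) = EE K) : ∃ B ∈ K, ∀ t ∈ T, cj t B = B := by
  classical
  obtain ⟨A, hA⟩ := hne
  obtain ⟨a, ha, haa⟩ := h.nonelem A (hK.sub A hA)
  have : Fintype ↥K := Fintype.ofFinite _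
  let F : Function.End ↥K := fun x => ⟨cj a x, cj_mem_K h hK (conj_EE h hK hA ha) x.2⟩
  have hF : F ^ 2 ^ 1 = 1 := by
    funext x
    apply Subtype.ext
    exact sq_fix h hK hA ha x.2
  have h1 := Equiv.Perm.card_fixedPoints_modEq hF
  have h3 : Fintype.card ↥(Function.fixedPoints F) = 1 := by
    rw [Fintype.card_eq_one_iff]
    refine ⟨⟨⟨A, hA⟩, ?_⟩, ?_⟩
    · apply Subtype.ext
      exact (fix_iff h hK hA ha haa hA).2 rfl
    · rintro ⟨⟨x, hx⟩, hx2⟩
      apply Subtype.ext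
      apply Subtype.ext
      exact (fix_iff h hK hA ha haa hx).1 (congrArg Subtype.val hx2)
  rw [h3] at h1
  have hodd : ¬ 2 ∣ Nat.card ↥K := by
    rw [Nat.card_eq_fintype_card]
    intro h0
    have h4 : Fintype.card ↥K ≡ 0 [MOD 2] := (Nat.modEq_zero_iff_dvd).2 h0
    exact absurd (h1.symm.trans h4) (by decide)
  let _ : MulAction ↥T ↥K :=
    { smul := fun t C => ⟨cj (t : G) C, cj_mem_K h hK (hTE t t.2) C.2⟩
      one_smul := fun C => Subtype.ext (cj_one _)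
      mul_smul := fun s t C => Subtype.ext (cj_cj (s : G) (t : G) (C : Subgroup G)).symm }
  have : Fact (Nat.Prime 2) := ⟨Nat.prime_two⟩
  obtain ⟨B, hB⟩ := hT.nonempty_fixed_point_of_prime_not_dvd_card ↥K hodd
  refine ⟨B, B.2, ?_⟩
  intro t ht
  exact congrArg Subtype.val (hB ⟨t, ht⟩)

end

end Cfsg.Agent.TIAbelian.PairClique
end

-- part: TIAbelian/PairStrong
section
set_option autoImplicit false

namespace Cfsg.Agent.TIAbelian.PairStrong

open Cfsg.Agent.TIAbelian.PairBase Cfsg.Agent.TIAbelian.PairOmega Cfsg.Agent.TIAbelian.PairGeo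
open Cfsg.Agent.TIAbelian.PairLine Cfsg.Agent.TIAbelian.PairClique

variable {G : Type*} [Group G]

theorem cj_le_cj {g : G} {H K : Subgroup G} (hHK : H ≤ K) : cj g H ≤ cj g K := by
  intro x hx
  rw [mem_cj] at hx ⊢
  exact hHK hx

theorem isPGroup_cj {g : G} {H : Subgroup G} (hH : IsPGroup 2 ↥H) : IsPGroup 2 ↥(cj g H) :=
  hH.map _

theorem exists_norm [Finite G] {S S₁ : Subgroup G} (hS : IsPGroup 2 ↥S) (hle : S₁ ≤ S)
    (hne : S₁ ≠ S) : ∃ g ∈ S, g ∉ S₁ ∧ cj g S₁ = S₁ := by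
  have : Fact (Nat.Prime 2) := ⟨Nat.prime_two⟩
  have hnil := hS.isNilpotent
  have hlt : S₁.subgroupOf S < ⊤ := by
    rw [lt_top_iff_ne_top]
    intro h0
    rw [Subgroup.subgroupOf_eq_top] at h0
    exact hne (le_antisymm hle h0)
  have h1 := Group.normalizerCondition_of_isNilpotent (G := ↥S) _ hlt
  obtain ⟨g, hg1, hg2⟩ := Set.exists_of_ssubset h1
  refine ⟨g, g.2, ?_, ?_⟩
  · intro h0
    exact hg2 (Subgroup.mem_subgroupOf.2 h0)
  · have h2 := fun y => (Subgroup.mem_normalizer_iff.1 hg1 y)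
    ext x
    rw [mem_cj]
    constructor
    · intro hx
      have h3 := (h2 ⟨_, hle hx⟩).1 (Subgroup.mem_subgroupOf.2 hx)
      rw [Subgroup.mem_subgroupOf] at h3
      simpa only [mul_assoc, _root_.Subgroup.coe_mul, _root_.InvMemClass.coe_inv, _root_.mul_inv_cancel, _root_.mul_one, _root_.mul_inv_cancel_left] using h3
    · intro hx
      have h4 : (g : G)⁻¹ * x * g ∈ S := S.mul_mem (S.mul_mem (S.inv_mem g.2) (hle hx)) g.2
      have h3 := (h2 ⟨_, h4⟩).2 (by
        rw [Subgroup.mem_subgroupOf]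
        simpa only [mul_assoc, _root_.Subgroup.coe_mul, _root_.InvMemClass.coe_inv, _root_.mul_inv_cancel, _root_.mul_one, _root_.mul_inv_cancel_left] using hx)
      exact Subgroup.mem_subgroupOf.1 h3

/-- Two `2`-subgroups of `L` are, after conjugating one inside `L`, in a common `2`-subgroup. -/
theorem exists_common [Finite G] {L Q R : Subgroup G} (hQL : Q ≤ L) (hRL : R ≤ L)
    (hQ : IsPGroup 2 ↥Q) (hR : IsPGroup 2 ↥R) :
    ∃ l ∈ L, ∃ S : Subgroup G, IsPGroup 2 ↥S ∧ cj l Q ≤ S ∧ R ≤ S := by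
  have : Fact (Nat.Prime 2) := ⟨Nat.prime_two⟩
  have hQ' : IsPGroup 2 ↥(Q.subgroupOf L) :=
    hQ.comap_of_injective L.subtype L.subtype_injective
  have hR' : IsPGroup 2 ↥(R.subgroupOf L) :=
    hR.comap_of_injective L.subtype L.subtype_injective
  obtain ⟨SQ, hSQ⟩ := hQ'.exists_le_sylow
  obtain ⟨SR, hSR⟩ := hR'.exists_le_sylow
  obtain ⟨l, hl⟩ := MulAction.exists_smul_eq ↥L SQ SR
  refine ⟨l, l.2, (SR : Subgroup ↥L).map L.subtype, SR.2.map _, ?_, ?_⟩
  · intro x hx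
    rw [mem_cj] at hx
    have h1 : (⟨(l : G)⁻¹ * x * l, hQL hx⟩ : ↥L) ∈ (SQ : Subgroup ↥L) :=
      hSQ (Subgroup.mem_subgroupOf.2 hx)
    have hxL : x ∈ L := by
      have := L.mul_mem (L.mul_mem l.2 (hQL hx)) (L.inv_mem l.2)
      simpa only [mul_assoc, _root_.mul_inv_cancel_left, _root_.mul_inv_cancel, _root_.mul_one] using this
    refine ⟨⟨x, hxL⟩, ?_, rfl⟩
    rw [← hl]
    show _ ∈ ((l • SQ : Sylow 2 ↥L) : Subgroup ↥L)
    rw [Sylow.coe_subgroup_smul, Subgroup.mem_pointwise_smul_iff_inv_smul_mem]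
    convert h1 using 1
    apply Subtype.ext
    simp only [MulAut.smul_def, _root_.MulAut.inv_apply, _root_.MulAut.conj_symm_apply, _root_.Subgroup.coe_mul, _root_.InvMemClass.coe_inv]
  · intro x hx
    exact ⟨⟨x, hRL hx⟩, hSR (Subgroup.mem_subgroupOf.2 hx), rfl⟩

section

variable {P : Set (Subgroup G)} (h : Geo P)
include h

/-- `Ω₁(C)` as a subgroup. -/
def OmS {C : Subgroup G} (hC : C ∈ P) : Subgroup G where
  carrier := Om C
  one_mem' := one_mem_Om C
  mul_mem' := fun hx hy => h.mul_Om hC hx hy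
  inv_mem' := fun {x} hx => by
    rw [inv_Om hx]
    exact hx

omit h in
theorem isPGroup_of_sq {H : Subgroup G} (hH : ∀ x ∈ H, x * x = 1) : IsPGroup 2 ↥H := by
  intro x
  refine ⟨1, ?_⟩
  apply Subtype.ext
  simpa only [pow_two, _root_.pow_one, _root_.Subgroup.coe_mul, _root_.OneMemClass.coe_one] using hH x x.2

variable {K : Set (Subgroup G)} (hK : MaxClique P K)
include hK

theorem lemFK [Finite G] {t : G} (tt : t * t = 1) (ht : cj t (EE K) = EE K)
    (hcomm : ∀ C ∈ K, cj t C = C → ∀ v ∈ Om C, t * v = v * t) {A B : Subgroup G} (hA : A ∈ K)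
    (hB : B ∈ K) (hAt : cj t A ≠ A) (hBt : cj t B = B) :
    (∀ x ∈ Om A, x * (t * x * t⁻¹) ∈ Om B) ∧ (∀ v ∈ Om B, ∃ x ∈ Om A, v = x * (t * x * t⁻¹)) := by
  have hne : A ≠ B := by
    rintro rfl
    exact hAt hBt
  have hA' := cj_mem_K h hK ht hA
  refine lemF h (hK.sub A hA) (hK.sub B hB) (hK.col A hA B hB hne) tt hBt (hcomm B hB hBt)
    (hK.col A hA _ hA' (Ne.symm hAt)) ?_
  intro Q hQ hQ2 hQ3
  refine hcomm Q ?_ hQ3
  obtain ⟨v, hv, hv1⟩ := exists_ne_Om h hQ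
  refine mem_of_EE h hK hQ hv.1 hv1 ?_
  obtain ⟨x, hx, x', hx', rfl⟩ := hQ2 v hv
  exact (EE K).mul_mem (mem_EE hA hx) (mem_EE hA' hx')

variable (H1 : ∀ C ∈ P, ∀ c ∈ Om C, cj c (EE K) = EE K → c ∈ EE K)
include H1

theorem W0 [Finite G] {S : Subgroup G} (hS : IsPGroup 2 ↥S) (hES : EE K ≤ S) :
    ∀ s ∈ S, cj s (EE K) = EE K := by
  set S₁ : Subgroup G := S ⊓ stb (EE K) with hS₁
  have hE1 : EE K ≤ S₁ := fun x hx => ⟨hES hx, cj_self hx⟩
  have key : ∀ g : G, cj g S₁ = S₁ → cj g (EE K) ≤ EE K := by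
    intro g hg x hx
    rw [mem_cj] at hx
    have h1 : EE K ≤ cj g⁻¹ (EE K) := by
      conv_lhs => rw [EE]
      rw [Subgroup.closure_le]
      rintro y ⟨C, hC, hy⟩
      rw [SetLike.mem_coe, mem_cj, inv_inv]
      refine H1 (cj g C) (h.conj C (hK.sub C hC) g) _ (conj_mem_Om_cj hy) ?_
      have h2 := conj_mem_of_cj hg (hE1 (mem_EE hC hy))
      exact h2.2
    have := h1 hx
    rw [mem_cj] at this
    simpa [mul_assoc] using this
  have hSS : S₁ = S := by
    by_contra h0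
    obtain ⟨g, hgS, hg1, hg2⟩ := exists_norm hS inf_le_left h0
    apply hg1
    refine ⟨hgS, ?_⟩
    show cj g (EE K) = EE K
    refine le_antisymm (key g hg2) ?_
    have h1 := key g⁻¹ (cj_inv_eq hg2)
    have h2 := cj_le_cj (g := g) h1
    rwa [cj_cj_inv] at h2
  intro s hs
  rw [← hSS] at hs
  exact hs.2

theorem W1 [Finite G] {S : Subgroup G} (hS : IsPGroup 2 ↥S) {g : G} (hES : cj g (EE K) ≤ S) :
    ∀ C ∈ P, ∀ c ∈ Om C, c ∈ S → c ∈ cj g (EE K) := by
  intro C hC c hc hcS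
  have h1 : EE K ≤ cj g⁻¹ S := by
    have := cj_le_cj (g := g⁻¹) hES
    rwa [cj_inv_cj] at this
  have h2 := W0 h hK H1 (isPGroup_cj (g := g⁻¹) hS) h1
  rw [mem_cj]
  have h3 : g⁻¹ * c * g ∈ Om (cj g⁻¹ C) := by
    rw [mem_Om_cj]
    simpa only [mul_assoc, _root_.inv_inv, _root_.mul_inv_cancel_left, _root_.mul_inv_cancel, _root_.mul_one] using hc
  refine H1 _ (h.conj C hC g⁻¹) _ h3 (h2 _ ?_)
  rw [mem_cj]
  simpa only [mul_assoc, _root_.inv_inv, _root_.mul_inv_cancel_left, _root_.mul_inv_cancel, _root_.mul_one] using hcS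

/-- `EE K` is strongly closed in every `2`-subgroup containing it. -/
theorem strong [Finite G] (hne : K.Nonempty) {T : Subgroup G} (hT : IsPGroup 2 ↥T)
    (hET : EE K ≤ T) : ∀ x ∈ EE K, ∀ g : G, g * x * g⁻¹ ∈ T → g * x * g⁻¹ ∈ EE K := by
  intro x hx g hxT
  set t := g * x * g⁻¹ with htdef
  by_cases ht1 : t = 1
  · rw [ht1]; exact (EE K).one_mem
  have tE' : t ∈ cj g (EE K) := conj_mem_cj hx
  have hE2 : IsPGroup 2 ↥(EE K) := isPGroup_of_sq (EE_sq h hK)
  set L := Subgroup.centralizer {t} with hLdef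
  have memL : ∀ y, y ∈ L ↔ y * t = t * y := by
    intro y
    rw [hLdef, Subgroup.mem_centralizer_singleton_iff]
  have hcomm' : ∀ k : G, ∀ y ∈ cj k (EE K), ∀ z ∈ cj k (EE K), y * z = z * y := by
    intro k y hy z hz
    rw [mem_cj] at hy hz
    have := EE_comm h hK _ hy _ hz
    have h2 := congrArg (fun s => k * s * k⁻¹) this
    simpa only [mul_assoc, _root_.mul_inv_cancel_left, _root_.mul_inv_cancel, _root_.mul_one] using h2
  have hE'L : cj g (EE K) ≤ L := fun y hy => (memL y).2 (hcomm' g y hy t tE')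
  have hCTL : T ⊓ L ≤ L := inf_le_right
  obtain ⟨l, hl, R, hR, hR1, hR2⟩ := exists_common hE'L hCTL (isPGroup_cj hE2)
    (hT.to_le inf_le_left)
  rw [cj_cj] at hR1
  set k := l * g with hk
  have tE : t ∈ cj k (EE K) := by
    rw [hk, ← cj_cj, mem_cj]
    have : l⁻¹ * t * l = t := by
      rw [mul_assoc, ← (memL l).1 hl, inv_mul_cancel_left]
    rwa [this]
  have tt : t * t = 1 := by
    rw [mem_cj] at tE
    have := EE_sq h hK _ tE
    have h2 := congrArg (fun s => k * s * k⁻¹) this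
    simpa only [mul_assoc, _root_.mul_inv_cancel_left, _root_.mul_inv_cancel, _root_.mul_one] using h2
  have hW := W1 h hK H1 hR hR1
  -- members meeting `E''`
  have hin : ∀ D ∈ P, ∀ d ∈ D, d ≠ 1 → d ∈ cj k (EE K) → ∀ v ∈ Om D, v ∈ cj k (EE K) := by
    intro D hD d hd hd1 hdE v hv
    rw [mem_cj] at hdE
    have h1 : cj k⁻¹ D ∈ K := by
      refine mem_of_EE h hK (h.conj D hD k⁻¹) (d := k⁻¹ * d * k) ?_ ?_ hdE
      · rw [mem_cj]
        simpa [mul_assoc] using hd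
      · intro h0
        apply hd1
        have := congrArg (fun s => k * s * k⁻¹) h0
        simpa [mul_assoc] using this
    rw [mem_cj]
    refine mem_EE h1 ?_
    rw [mem_Om_cj]
    simpa [mul_assoc] using hv
  have hfixcomm : ∀ C ∈ K, cj t C = C → ∀ v ∈ Om C, t * v = v * t := by
    intro C hC hCt
    -- a nontrivial element of `Om C` centralised by `t`
    obtain ⟨c, hc, hc1, hct⟩ : ∃ c ∈ Om C, c ≠ 1 ∧ t * c = c * t := by
      obtain ⟨v, hv, hv1⟩ := exists_ne_Om h (hK.sub C hC)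
      have hw : t * v * t⁻¹ ∈ Om C := by
        have := conj_mem_Om_cj (g := t) hv
        rwa [hCt] at this
      by_cases h0 : t * v * t⁻¹ = v
      · exact ⟨v, hv, hv1, eq_comm_iff.2 h0⟩
      · refine ⟨v * (t * v * t⁻¹), h.mul_Om (hK.sub C hC) hv hw, ?_, ?_⟩
        · intro h3
          apply h0
          exact mul_left_cancel (h3.trans hv.2.symm)
        · rw [eq_comm_iff]
          have h3 : t * (v * (t * v * t⁻¹)) * t⁻¹ = (t * v * t⁻¹) * ((t * t) * v * (t * t)⁻¹) := by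
            simp only [mul_assoc, _root_.mul_inv_rev, _root_.inv_mul_cancel_left]
          rw [h3, tt]
          simp only [one_mul, inv_one, mul_one]
          exact h.comm C (hK.sub C hC) _ hw.1 _ hv.1
    have hcE : c ∈ cj k (EE K) := by
      refine hW C (hK.sub C hC) c hc (hR2 ⟨hET (mem_EE hC hc), ?_⟩)
      exact (memL c).2 hct.symm
    intro v hv
    exact hcomm' k t tE v (hin C (hK.sub C hC) c hc.1 hc1 hcE v hv)
  have htE : cj t (EE K) = EE K := W0 h hK H1 hT hET t hxT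
  obtain ⟨B, hB, hBt⟩ := exists_fix h hK hne tt htE
  by_cases hall : ∀ A ∈ K, ∀ y ∈ Om A, t * y = y * t
  · -- `t` centralises `E`
    have h1 : EE K ≤ cj k (EE K) := by
      conv_lhs => rw [EE]
      rw [Subgroup.closure_le]
      rintro y ⟨A, hA, hy⟩
      refine hW A (hK.sub A hA) y hy (hR2 ⟨hET (mem_EE hA hy), ?_⟩)
      exact (memL y).2 (hall A hA y hy).symm
    have h2 : EE K = cj k (EE K) := by
      refine Subgroup.eq_of_le_of_card_ge h1 ?_
      exact (Nat.card_congr ((EE K).equivMapOfInjective _ (MulAut.conj k).injective).toEquiv).ge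
    rw [h2]
    exact tE
  · exfalso
    push Not at hall
    obtain ⟨A, hA, x₁, hx₁, hx₁t⟩ := hall
    have hAt : cj t A ≠ A := fun h0 => hx₁t (hfixcomm A hA h0 x₁ hx₁)
    have hF := (lemFK h hK tt htE hfixcomm hA hB hAt hBt).1
    have hne' : A ≠ B := by
      rintro rfl
      exact hAt hBt
    have cAB := h.comm_om A (hK.sub A hA) B (hK.sub B hB) (hK.col A hA B hB hne')
    obtain ⟨w, hw, hw1⟩ := exists_ne_Om h (hK.sub B hB)
    have hBE : ∀ v ∈ Om B, v ∈ cj k (EE K) := by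
      have hwE : w ∈ cj k (EE K) := by
        refine hW B (hK.sub B hB) w hw (hR2 ⟨hET (mem_EE hB hw), ?_⟩)
        exact (memL w).2 (hfixcomm B hB hBt w hw).symm
      exact hin B (hK.sub B hB) w hw.1 hw1 hwE
    let L₂ : Subgroup G :=
      { carrier := {y | (∀ v ∈ Om B, y * v = v * y) ∧ y * t * y⁻¹ * t⁻¹ ∈ Om B}
        one_mem' := ⟨by simp, by simpa using one_mem_Om B⟩
        mul_mem' := by
          rintro y z ⟨hy1, hy2⟩ ⟨hz1, hz2⟩
          refine ⟨fun v hv => by rw [mul_assoc, hz1 v hv, ← mul_assoc, hy1 v hv, mul_assoc], ?_⟩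
          have e1 : y * z * t * (y * z)⁻¹ * t⁻¹
              = (y * (z * t * z⁻¹ * t⁻¹)) * (t * y⁻¹ * t⁻¹) := by simp only [mul_assoc, _root_.mul_inv_rev, _root_.inv_mul_cancel_left]
          rw [e1, hy1 _ hz2]
          have e2 : z * t * z⁻¹ * t⁻¹ * y * (t * y⁻¹ * t⁻¹)
              = (z * t * z⁻¹ * t⁻¹) * (y * t * y⁻¹ * t⁻¹) := by simp only [mul_assoc]
          rw [e2]
          exact h.mul_Om (hK.sub B hB) hz2 hy2
        inv_mem' := by
          rintro y ⟨hy1, hy2⟩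
          have hyi : ∀ v ∈ Om B, y⁻¹ * v = v * y⁻¹ := by
            intro v hv
            have := congrArg (fun s => y⁻¹ * s * y⁻¹) (hy1 v hv)
            simpa only [mul_assoc, _root_.mul_inv_cancel, _root_.mul_one, _root_.inv_mul_cancel_left] using this.symm
          refine ⟨hyi, ?_⟩
          have e1 : y⁻¹ * t * y⁻¹⁻¹ * t⁻¹ = (y⁻¹ * (y * t * y⁻¹ * t⁻¹)⁻¹) * y := by simp only [mul_assoc, _root_.inv_inv, _root_.mul_inv_rev, _root_.inv_mul_cancel, _root_.mul_one]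
          rw [e1, inv_Om hy2, hyi _ hy2, mul_assoc, inv_mul_cancel, mul_one]
          exact hy2 }
    have hQL : OmS h (hK.sub A hA) ≤ L₂ := by
      intro y hy
      have hy' : y ∈ Om A := hy
      refine ⟨fun v hv => cAB y hy' v hv, ?_⟩
      have e1 : y * t * y⁻¹ * t⁻¹ = y * (t * y * t⁻¹) := by
        conv_lhs => rw [inv_Om hy']
        simp only [mul_assoc]
      rw [e1]
      exact hF y hy'
    have hEL : cj k (EE K) ≤ L₂ := by
      intro y hy
      refine ⟨fun v hv => hcomm' k y hy v (hBE v hv), ?_⟩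
      rw [hcomm' k y hy t tE]
      simpa using one_mem_Om B
    obtain ⟨m, hm, S, hS, hS1, hS2⟩ := exists_common hQL hEL
      (isPGroup_of_sq fun y hy => (show y ∈ Om A from hy).2) (isPGroup_cj hE2)
    have hmx : m * x₁ * m⁻¹ ∈ cj k (EE K) := by
      refine W1 h hK H1 hS hS2 (cj m A) (h.conj A (hK.sub A hA) m) _ (conj_mem_Om_cj hx₁) ?_
      exact hS1 (conj_mem_cj (show x₁ ∈ OmS h (hK.sub A hA) from hx₁))
    have hmt := hcomm' k t tE _ hmx
    have hmi := L₂.inv_mem hm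
    obtain ⟨hmi1, hmi2⟩ := hmi
    set v := m⁻¹ * t * m⁻¹⁻¹ * t⁻¹ with hv
    apply hx₁t
    have e1 : m⁻¹ * t * m = v * t := by rw [hv]; simp only [mul_assoc, _root_.inv_inv, _root_.inv_mul_cancel, _root_.mul_one]
    have e2 : (v * t) * x₁ = x₁ * (v * t) := by
      rw [← e1]
      have := congrArg (fun s => m⁻¹ * s * m) hmt
      simpa only [mul_assoc, _root_.inv_mul_cancel, _root_.mul_one, _root_.inv_mul_cancel_left] using this
    have e3 : v * (t * x₁) = v * (x₁ * t) := by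
      rw [← mul_assoc v, e2, ← mul_assoc x₁, cAB x₁ hx₁ v hmi2, mul_assoc v]
    exact mul_left_cancel e3

end

end Cfsg.Agent.TIAbelian.PairStrong
end

-- part: TIAbelian/PairTwo
section
set_option autoImplicit false

namespace Cfsg.Agent.TIAbelian.PairTwo

open Cfsg.Agent.TIAbelian.PairBase Cfsg.Agent.TIAbelian.PairOmega Cfsg.Agent.TIAbelian.PairGeo
open Cfsg.Agent.TIAbelian.PairLine Cfsg.Agent.TIAbelian.PairClique Cfsg.Agent.TIAbelian.PairStrong

variable {G : Type*} [Group G]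

/-- Two neighbours `A`, `C` of `B` with `[V_A, V_C] = V_B`. -/
structure TwoLines (P : Set (Subgroup G)) (A B C : Subgroup G) : Prop where
  hA : A ∈ P
  hB : B ∈ P
  hC : C ∈ P
  AB : Col A B
  CB : Col C B
  br : ∀ x ∈ Om A, ∀ y ∈ Om C, x ≠ 1 → y ≠ 1 →
    x * y * x⁻¹ * y⁻¹ ∈ Om B ∧ x * y * x⁻¹ * y⁻¹ ≠ 1

section

variable {P : Set (Subgroup G)} (h : Geo P)
include h

theorem col_of_norm {C D : Subgroup G} (hD : D ∈ P) (hne : C ≠ D) {t : G}
    (ht : t ∈ C) (ht1 : t ≠ 1) (tt : t * t = 1) (htD : cj t D = D) : Col C D := by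
  obtain ⟨v, hv, hv1⟩ := exists_ne_Om h hD
  have hw : t * v * t⁻¹ ∈ Om D := by
    have := conj_mem_Om_cj (g := t) hv
    rwa [htD] at this
  by_cases h0 : t * v * t⁻¹ = v
  · exact Geo.col_of_comm hne ht ht1 hv.1 hv1 (eq_comm_iff.2 h0)
  · refine Geo.col_of_comm hne ht ht1 (D.mul_mem hv.1 hw.1) ?_ (?_ : t * (v * (t * v * t⁻¹)) = _)
    · intro h3
      apply h0
      exact mul_left_cancel (h3.trans hv.2.symm)
    · rw [eq_comm_iff]
      have h3 : t * (v * (t * v * t⁻¹)) * t⁻¹ = (t * v * t⁻¹) * ((t * t) * v * (t * t)⁻¹) := by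
        simp only [mul_assoc, _root_.mul_inv_rev, _root_.inv_mul_cancel_left]
      rw [h3, tt]
      simp only [one_mul, inv_one, mul_one]
      exact h.comm D hD _ hw.1 _ hv.1

omit h in
theorem symm_of {A B C : Subgroup G} (hT : TwoLines P A B C) : TwoLines P C B A := by
  refine ⟨hT.hC, hT.hB, hT.hA, hT.CB, hT.AB, ?_⟩
  intro x hx y hy hx1 hy1
  obtain ⟨h1, h2⟩ := hT.br y hy x hx hy1 hx1
  have e : x * y * x⁻¹ * y⁻¹ = (y * x * y⁻¹ * x⁻¹)⁻¹ := by simp only [mul_assoc, _root_.mul_inv_rev, _root_.inv_inv]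
  rw [e, inv_Om h1]
  exact ⟨h1, h2⟩

theorem conj_of {A B C : Subgroup G} (hT : TwoLines P A B C) (g : G) :
    TwoLines P (cj g A) (cj g B) (cj g C) := by
  refine ⟨h.conj _ hT.hA g, h.conj _ hT.hB g, h.conj _ hT.hC g, PairGeo.Col.cj hT.AB g,
    PairGeo.Col.cj hT.CB g, ?_⟩
  intro x hx y hy hx1 hy1
  obtain ⟨h1, h2⟩ := hT.br _ (mem_Om_cj.1 hx) _ (mem_Om_cj.1 hy) (by
      intro h0
      apply hx1
      have := congrArg (fun t => g * t * g⁻¹) h0
      simpa only [mul_assoc, _root_.mul_inv_cancel_left, _root_.mul_inv_cancel, _root_.mul_one] using this) (by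
      intro h0
      apply hy1
      have := congrArg (fun t => g * t * g⁻¹) h0
      simpa only [mul_assoc, _root_.mul_inv_cancel_left, _root_.mul_inv_cancel, _root_.mul_one] using this)
  have e : x * y * x⁻¹ * y⁻¹ = g * ((g⁻¹ * x * g) * (g⁻¹ * y * g) * (g⁻¹ * x * g)⁻¹
      * (g⁻¹ * y * g)⁻¹) * g⁻¹ := by simp only [mul_assoc, _root_.mul_inv_cancel_left, _root_.mul_inv_rev, _root_.inv_inv, _root_.mul_inv_cancel, _root_.mul_one]
  rw [e]
  refine ⟨conj_mem_Om_cj h1, ?_⟩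
  intro h0
  apply h2
  have := congrArg (fun t => g⁻¹ * t * g) h0
  simpa only [mul_assoc, _root_.mul_inv_cancel_left, _root_.mul_inv_rev, _root_.inv_inv, _root_.mul_inv_cancel, _root_.mul_one, _root_.inv_mul_cancel] using this

/-- Case (II): an involution of a member normalising `EE K` but not in `EE K`. -/
theorem exists_twoLines [Finite G] {K : Set (Subgroup G)} (hK : MaxClique P K) (hne : K.Nonempty)
    (hII : ∃ C ∈ P, ∃ c ∈ Om C, cj c (EE K) = EE K ∧ c ∉ EE K) :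
    ∃ A ∈ K, ∃ B ∈ K, ∃ C, TwoLines P A B C := by
  obtain ⟨C, hC, c, hc, hcE, hcn⟩ := hII
  have hc1 : c ≠ 1 := by
    rintro rfl
    exact hcn (EE K).one_mem
  have hCK : C ∉ K := fun h0 => hcn (mem_EE h0 hc)
  have hfix : ∀ D ∈ K, cj c D = D → ∀ v ∈ Om D, c * v = v * c := by
    intro D hD hcD v hv
    have hCD : C ≠ D := by
      rintro rfl
      exact hCK hD
    exact h.comm_om C hC D (hK.sub D hD)
      (col_of_norm h (hK.sub D hD) hCD hc.1 hc1 hc.2 hcD) c hc v hv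
  obtain ⟨B, hB, hcB⟩ := exists_fix h hK hne hc.2 hcE
  obtain ⟨A, hA, x₁, hx₁, hx₁c⟩ : ∃ A ∈ K, ∃ x ∈ Om A, c * x ≠ x * c := by
    by_contra hcon
    push Not at hcon
    apply hCK
    refine hK.max C hC ?_
    intro D hD hne'
    obtain ⟨v, hv, hv1⟩ := exists_ne_Om h (hK.sub D hD)
    exact Geo.col_of_comm hne' hv.1 hv1 hc.1 hc1 (hcon D hD v hv).symm
  have hcA : cj c A ≠ A := fun h0 => hx₁c (hfix A hA h0 x₁ hx₁)
  have hF := (lemFK h hK hc.2 hcE hfix hA hB hcA hcB).1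
  have hAB : A ≠ B := by
    rintro rfl
    exact hcA hcB
  have hCB : C ≠ B := by
    rintro rfl
    exact hCK hB
  have cAB := hK.col A hA B hB hAB
  have cCB := col_of_norm h (hK.sub B hB) hCB hc.1 hc1 hc.2 hcB
  have hAC : A ≠ C := by
    rintro rfl
    exact hCK hA
  refine ⟨A, hA, B, hB, C, hK.sub A hA, hK.sub B hB, hC, cAB, cCB, ?_⟩
  intro x hx y hy hx1 hy1
  have hxi := inv_Om hx
  -- `v = x (c x c⁻¹) ∈ V_B`
  set v := x * (c * x * c⁻¹) with hv
  have hvB : v ∈ Om B := hF x hx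
  have hcv : c * v = v * c := h.comm_om C hC B (hK.sub B hB) cCB c hc v hvB
  have e1 : x * c * x⁻¹ = v * c := by
    rw [hv, hxi]
    simp [mul_assoc]
  have hCx : C ≠ cj x C := by
    intro h0
    have h1 : x * c * x⁻¹ ∈ C := by
      rw [h0]
      exact conj_mem_cj hc.1
    rw [e1] at h1
    have h2 : v ∈ C := by
      have := C.mul_mem h1 (C.inv_mem hc.1)
      simpa using this
    have h3 : v = 1 := by
      by_contra h4
      exact hCB (h.ti C hC B (hK.sub B hB) v h2 hvB.1 h4)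
    rw [h3, one_mul, mul_inv_eq_iff_eq_mul] at e1
    -- `c` commutes with `x`, so `c` normalises `A`
    exact hcA (h.norm_of_comm (hK.sub A hA) hx.1 hx1 e1.symm)
  have cCx : Col C (cj x C) := by
    refine Geo.col_of_comm hCx hc.1 hc1 (conj_mem_cj (g := x) hc.1) ?_ ?_
    · intro h0
      apply hc1
      have := congrArg (fun t => x⁻¹ * t * x) h0
      simpa [mul_assoc] using this
    · rw [e1, ← mul_assoc, hcv]
  have hF2 := (lemF h hC (hK.sub B hB) cCB hx.2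
    ((h.norm_iff B (hK.sub B hB) A (hK.sub A hA) cAB.symm x hx.1).2 hx.2)
    (fun w hw => h.comm_om A (hK.sub A hA) B (hK.sub B hB) cAB x hx w hw) cCx (by
      intro Q hQ _ hxQ w hw
      by_cases hQA : A = Q
      · subst hQA
        exact h.comm A hQ _ hx.1 _ hw.1
      · exact h.comm_om A (hK.sub A hA) Q hQ
          (col_of_norm h hQ hQA hx.1 hx1 hx.2 hxQ) x hx w hw)).1 y hy
  have hyB : ∀ w ∈ Om B, y * w = w * y := fun w hw => h.comm_om C hC B (hK.sub B hB) cCB y hy w hw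
  have e2 : x * y * x⁻¹ * y⁻¹ = y * (x * y * x⁻¹) := by
    have h1 := hyB _ hF2
    have h2 : y * (y * (x * y * x⁻¹)) = x * y * x⁻¹ := by rw [← mul_assoc, hy.2, one_mul]
    have h3 : x * y * x⁻¹ = y * (x * y * x⁻¹) * y := h2.symm.trans h1
    rw [mul_inv_eq_iff_eq_mul]
    exact h3
  rw [e2]
  refine ⟨hF2, ?_⟩
  intro h0
  apply hCx
  have h3 : x * y * x⁻¹ = y := by
    have := congrArg (fun t => y * t) h0
    simp only [mul_one] at this
    rw [← mul_assoc, hy.2, one_mul] at this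
    exact this
  exact (h.norm_of_comm hC hy.1 hy1 (eq_comm_iff.2 h3)).symm

end

namespace TwoLines

variable {P : Set (Subgroup G)} {A B C : Subgroup G} (T : TwoLines P A B C) (h : Geo P)
include T h

omit h in
theorem br' {x y : G} (hx : x ∈ Om A) (hy : y ∈ Om C) : y * x * y⁻¹ * x⁻¹ ∈ Om B := by
  by_cases hx1 : x = 1
  · subst hx1
    simpa using one_mem_Om B
  by_cases hy1 : y = 1
  · subst hy1
    simpa using one_mem_Om B
  have h1 := (T.br x hx y hy hx1 hy1).1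
  have e : y * x * y⁻¹ * x⁻¹ = (x * y * x⁻¹ * y⁻¹)⁻¹ := by simp only [mul_assoc, _root_.mul_inv_rev, _root_.inv_inv]
  rw [e, inv_Om h1]
  exact h1

omit h in
theorem comm_ne {x y : G} (hx : x ∈ Om A) (hy : y ∈ Om C) (hx1 : x ≠ 1) (hyx : y * x = x * y) :
    y = 1 := by
  by_contra hy1
  apply (T.br x hx y hy hx1 hy1).2
  rw [mul_inv_eq_one, mul_inv_eq_iff_eq_mul]
  exact hyx.symm

theorem br_surj [Finite G] {x v : G} (hx : x ∈ Om A) (hx1 : x ≠ 1) (hv : v ∈ Om B) :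
    ∃ y ∈ Om C, y * x * y⁻¹ * x⁻¹ = v := by
  have hinj : Set.InjOn (fun y => y * x * y⁻¹ * x⁻¹) (Om C) := by
    intro y hy y' hy' he
    have h1 : y'⁻¹ * y = 1 := by
      refine comm_ne T hx (h.mul_Om T.hC ?_ hy) hx1 ?_
      · rw [inv_Om hy']
        exact hy'
      · have h2 := mul_right_cancel he
        have h3 := congrArg (fun t => y'⁻¹ * t * y) h2
        simpa only [mul_assoc, _root_.inv_mul_cancel, _root_.mul_one, _root_.inv_mul_cancel_left] using h3
    rw [inv_mul_eq_one] at h1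
    exact h1.symm
  have himg : (fun y => y * x * y⁻¹ * x⁻¹) '' Om C = Om B := by
    refine Set.eq_of_subset_of_ncard_le ?_ ?_ (Set.toFinite _)
    · rintro _ ⟨y, hy, rfl⟩
      exact T.br' hx hy
    · rw [Set.InjOn.ncard_image hinj]
      exact (ncard_Om h T.hB T.hC).le
  rw [← himg] at hv
  obtain ⟨y, hy, e⟩ := hv
  exact ⟨y, hy, e⟩

/-- `k` normalises `A`, `[k, x] ∈ V_B`: then `k` centralises `x`. -/
theorem fix_of_norm {k x : G} (hx : x ∈ Om A) (hk : cj k A = A) (hkx : k * x * k⁻¹ * x⁻¹ ∈ Om B) :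
    k * x * k⁻¹ = x := by
  have h1 : k * x * k⁻¹ * x⁻¹ ∈ A := A.mul_mem (conj_mem_of_cj hk hx.1) (A.inv_mem hx.1)
  have h2 : k * x * k⁻¹ * x⁻¹ = 1 := by
    by_contra h0
    exact T.AB.1 (h.ti A T.hA B T.hB _ h1 hkx.1 h0)
  rwa [mul_inv_eq_one] at h2

/-- every `b ∈ B` acts on `V_A` as some `y ∈ V_C`. -/
theorem L2 [Finite G] {b : G} (hb : b ∈ B) :
    ∃ y ∈ Om C, ∀ x ∈ Om A, b * x * b⁻¹ = y * x * y⁻¹ := by
  obtain ⟨x₁, hx₁, hx₁1⟩ := exists_ne_Om h T.hA
  have hb1 := h.brak A T.hA B T.hB T.AB x₁ hx₁ b hb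
  obtain ⟨y, hy, e⟩ := T.br_surj h hx₁ hx₁1 hb1
  refine ⟨y, hy, ?_⟩
  have hyi := inv_Om hy
  have e1 : y * x₁ * y⁻¹ = b * x₁ * b⁻¹ := mul_right_cancel e
  have hk : cj (y⁻¹ * b) A = A := by
    refine h.norm_of_comm T.hA hx₁.1 hx₁1 ?_
    have := congrArg (fun t => y⁻¹ * t * b) e1
    simpa only [mul_assoc, _root_.inv_mul_cancel, _root_.mul_one, _root_.inv_mul_cancel_left] using this.symm
  intro x hx
  have hbx := h.brak A T.hA B T.hB T.AB x hx b hb
  have hyx := T.br' hx hy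
  have h3 : (y⁻¹ * b) * x * (y⁻¹ * b)⁻¹ = x := by
    refine T.fix_of_norm h hx hk ?_
    have hv := h.comm_om C T.hC B T.hB T.CB y hy _ hbx
    have e3 : (y⁻¹ * b) * x * (y⁻¹ * b)⁻¹ * x⁻¹
        = (y⁻¹ * (b * x * b⁻¹ * x⁻¹) * y) * (y⁻¹ * x * y⁻¹⁻¹ * x⁻¹) := by
      simp only [mul_assoc, _root_.mul_inv_rev, _root_.inv_inv, _root_.mul_inv_cancel_left, _root_.inv_mul_cancel_left]
    have e4 : y⁻¹ * (b * x * b⁻¹ * x⁻¹) * y = b * x * b⁻¹ * x⁻¹ := by
      rw [mul_assoc, ← hv, inv_mul_cancel_left]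
    rw [e3, e4, hyi]
    exact h.mul_Om T.hB hbx hyx
  have h4 := congrArg (fun t => y * t * y⁻¹) h3
  simpa only [mul_assoc, _root_.mul_inv_rev, _root_.inv_inv, _root_.mul_inv_cancel_left, _root_.mul_inv_cancel, _root_.mul_one] using h4

/-- the line through `A` and `B`. -/
def UU : Subgroup G :=
  prodS (OmS h T.hA) (OmS h T.hB) (fun x hx y hy => h.comm_om A T.hA B T.hB T.AB x hx y hy)

theorem mem_UU {u : G} : u ∈ T.UU h ↔ ∃ x ∈ Om A, ∃ y ∈ Om B, u = x * y := Iff.rfl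

theorem left_UU {x : G} (hx : x ∈ Om A) : x ∈ T.UU h := ⟨x, hx, 1, one_mem_Om B, by simp⟩

theorem right_UU {y : G} (hy : y ∈ Om B) : y ∈ T.UU h := ⟨1, one_mem_Om A, y, hy, by simp⟩

theorem sq_UU : ∀ u ∈ T.UU h, u * u = 1 := by
  rintro _ ⟨x, hx, y, hy, rfl⟩
  have hx' : x ∈ Om A := hx
  have hy' : y ∈ Om B := hy
  have : x * y * (x * y) = x * (y * x) * y := by simp only [mul_assoc]
  rw [this, ← h.comm_om A T.hA B T.hB T.AB x hx y hy]
  have : x * (x * y) * y = (x * x) * (y * y) := by simp only [mul_assoc]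
  rw [this, hx'.2, hy'.2, one_mul]

theorem tvB {b : G} (hb : b ∈ B) (hbb : b * b ≠ 1) : Tv (T.UU h) B b := by
  have cAB := h.comm_om A T.hA B T.hB T.AB
  refine ⟨?_, ?_, ?_⟩
  · refine cj_eq_of_forall (B := B) ?_ hb
    rintro b hb _ ⟨x, hx, y, hy, rfl⟩
    have hx' : x ∈ Om A := hx
    have hy' : y ∈ Om B := hy
    have hbr := h.brak A T.hA B T.hB T.AB x hx b hb
    refine ⟨x, hx, (b * x * b⁻¹ * x⁻¹) * y, h.mul_Om T.hB hbr hy, ?_⟩
    have h2 : b * (x * y) * b⁻¹ = (b * x * b⁻¹ * x⁻¹) * x * (b * y * b⁻¹) := by simp only [mul_assoc, _root_.inv_mul_cancel, _root_.mul_one, _root_.inv_mul_cancel_left]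
    rw [h2, h.comm B T.hB b hb y hy'.1, mul_inv_cancel_right, ← cAB x hx _ hbr]
    simp only [mul_assoc]
  · rintro _ ⟨x, hx, y, hy, rfl⟩
    have hy' : y ∈ Om B := hy
    have hsq := h.sq_Om T.hB hb
    rw [← mul_assoc (b * b), ← cAB x hx _ hsq, mul_assoc x (b * b) y,
      h.comm B T.hB _ hsq.1 _ hy'.1, mul_assoc x y]
  · rintro _ ⟨x, hx, y, hy, rfl⟩
    have hx' : x ∈ Om A := hx
    have hy' : y ∈ Om B := hy
    constructor
    · intro h1
      have hx1 : x = 1 := by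
        by_contra h0
        refine hbb (h.sq_of_comm T.hA T.hB T.AB.1 hx'.1 h0 hb ?_)
        have h3 : b * x * y = x * b * y := by
          rw [mul_assoc b x y, h1, mul_assoc x y b, ← h.comm B T.hB _ hb _ hy'.1, ← mul_assoc]
        exact (mul_right_cancel h3).symm
      rw [hx1, one_mul]
      exact hy'.1
    · intro h1
      exact h.comm B T.hB _ hb _ h1

theorem tvA {a : G} (ha : a ∈ A) (haa : a * a ≠ 1) : Tv (T.UU h) A a := by
  have cAB := h.comm_om A T.hA B T.hB T.AB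
  refine ⟨?_, ?_, ?_⟩
  · refine cj_eq_of_forall (B := A) ?_ ha
    rintro a ha _ ⟨x, hx, y, hy, rfl⟩
    have hx' : x ∈ Om A := hx
    have hy' : y ∈ Om B := hy
    have hbr := h.brak B T.hB A T.hA T.AB.symm y hy a ha
    refine ⟨x * (a * y * a⁻¹ * y⁻¹), h.mul_Om T.hA hx hbr, y, hy, ?_⟩
    have h2 : a * (x * y) * a⁻¹ = (a * x) * y * a⁻¹ := by simp [mul_assoc]
    rw [h2, h.comm A T.hA a ha x hx'.1]
    simp only [mul_assoc, _root_.inv_mul_cancel, _root_.mul_one]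
  · rintro _ ⟨x, hx, y, hy, rfl⟩
    have hx' : x ∈ Om A := hx
    have hsq := h.sq_Om T.hA ha
    rw [← mul_assoc (a * a), h.comm A T.hA _ hsq.1 _ hx'.1, mul_assoc x (a * a) y,
      cAB _ hsq y hy, mul_assoc x y]
  · rintro _ ⟨x, hx, y, hy, rfl⟩
    have hx' : x ∈ Om A := hx
    have hy' : y ∈ Om B := hy
    constructor
    · intro h1
      have hy1 : y = 1 := by
        by_contra h0
        refine haa (h.sq_of_comm T.hB T.hA T.AB.1.symm hy'.1 h0 ha ?_)
        have h3 : x * (a * y) = x * (y * a) := by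
          rw [← mul_assoc, ← h.comm A T.hA a ha x hx'.1, mul_assoc, h1, mul_assoc]
        exact (mul_left_cancel h3).symm
      rw [hy1, mul_one]
      exact hx'.1
    · intro h1
      exact h.comm A T.hA _ ha _ h1

theorem tvC {c : G} (hc : c ∈ Om C) (hc1 : c ≠ 1) : Tv (T.UU h) B c := by
  have cAB := h.comm_om A T.hA B T.hB T.AB
  have cCB := h.comm_om C T.hC B T.hB T.CB
  refine ⟨?_, ?_, ?_⟩
  · refine cj_eq_of_forall (B := OmS h T.hC) ?_ hc
    rintro b hb _ ⟨x, hx, y, hy, rfl⟩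
    have hbr := T.br' hx hb
    refine ⟨x, hx, (b * x * b⁻¹ * x⁻¹) * y, h.mul_Om T.hB hbr hy, ?_⟩
    have h2 : b * (x * y) * b⁻¹ = (b * x * b⁻¹ * x⁻¹) * x * (b * y * b⁻¹) := by simp only [mul_assoc, _root_.inv_mul_cancel, _root_.mul_one, _root_.inv_mul_cancel_left]
    rw [h2, cCB b hb y hy, mul_inv_cancel_right, ← cAB x hx _ hbr]
    simp only [mul_assoc]
  · intro u _
    rw [hc.2]
    simp
  · rintro _ ⟨x, hx, y, hy, rfl⟩
    constructor
    · intro h1
      have hx1 : x = 1 := by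
        by_contra h0
        apply hc1
        refine T.comm_ne hx hc h0 ?_
        have h3 : c * x * y = x * c * y := by
          rw [mul_assoc c x y, h1, mul_assoc x y c, ← cCB c hc y hy, ← mul_assoc]
        exact mul_right_cancel h3
      rw [hx1, one_mul]
      exact (show y ∈ Om B from hy).1
    · intro h1
      refine cCB c hc _ ⟨h1, ?_⟩
      exact T.sq_UU h _ ⟨x, hx, y, hy, rfl⟩

theorem ntB : ∃ u ∈ T.UU h, u ∈ B ∧ u ≠ 1 := by
  obtain ⟨v, hv, hv1⟩ := exists_ne_Om h T.hB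
  exact ⟨v, T.right_UU h hv, hv.1, hv1⟩

theorem ntA : ∃ u ∈ T.UU h, u ∈ A ∧ u ≠ 1 := by
  obtain ⟨v, hv, hv1⟩ := exists_ne_Om h T.hA
  exact ⟨v, T.left_UU h hv, hv.1, hv1⟩

theorem genBA : ∀ u ∈ T.UU h, ∃ v ∈ T.UU h, ∃ w ∈ T.UU h, v ∈ B ∧ w ∈ A ∧ u = v * w := by
  rintro _ ⟨x, hx, y, hy, rfl⟩
  exact ⟨y, T.right_UU h hy, x, T.left_UU h hx, (show y ∈ Om B from hy).1,
    (show x ∈ Om A from hx).1, h.comm_om A T.hA B T.hB T.AB x hx y hy⟩

/-- `r = q`: every `y ∈ V_C` acts on `V_A` as some element of `B`. -/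
theorem L3 [Finite G] {y : G} (hy : y ∈ Om C) :
    ∃ b ∈ B, ∀ x ∈ Om A, b * x * b⁻¹ = y * x * y⁻¹ := by
  by_cases hy1 : y = 1
  · subst hy1
    exact ⟨1, B.one_mem, fun x _ => rfl⟩
  obtain ⟨a, ha, haa⟩ := h.nonelem A T.hA
  obtain ⟨b₁, hb₁, hbb₁⟩ := h.nonelem B T.hB
  have hTa := T.tvA h ha haa
  have hTb := T.tvB h hb₁ hbb₁
  have hTy := T.tvC h hy hy1
  obtain ⟨g, hg, hg1⟩ := lemT h.toTIFam (T.sq_UU h) T.hB T.hA hTb hTa (T.ntB h) (T.ntA h) (T.genBA h)
  obtain ⟨g', hg', hg1'⟩ := lemT h.toTIFam (T.sq_UU h) T.hB T.hA hTy hTa (T.ntB h) (T.ntA h)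
    (T.genBA h)
  have hgi := cj_inv_eq hg'
  have hk : cj (g'⁻¹ * g) (T.UU h) = T.UU h := cj_mul_eq hgi hg
  have hE : EqOnU (T.UU h) ((g'⁻¹ * g) * b₁ * (g'⁻¹ * g)⁻¹) y := by
    intro u hu
    have h1 : g' * u * g'⁻¹ ∈ T.UU h := conj_mem_of_cj hg' hu
    have h2 := (hg1 _ h1).trans (hg1' _ h1).symm
    have h3 := congrArg (fun t => g'⁻¹ * t * g') h2
    simpa only [mul_assoc, _root_.mul_inv_rev, _root_.inv_inv, _root_.inv_mul_cancel_left, _root_.inv_mul_cancel, _root_.mul_one] using h3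
  have hTk : Tv (T.UU h) (cj (g'⁻¹ * g) B) y := (hTb.conj hk).congr hE hTy.norm
  have hkB : cj (g'⁻¹ * g) B = B :=
    (Tv.unique h.toTIFam T.hB (h.conj B T.hB _) hTy hTk (T.ntB h)).symm
  exact ⟨_, conj_mem_of_cj hkB hb₁, fun x hx => hE x (T.left_UU h hx)⟩

/-- if `b` and `y` agree on `V_A` then `[y, b] = b²`. -/
theorem L4 {b y : G} (hb : b ∈ B) (hy : y ∈ Om C)
    (he : ∀ x ∈ Om A, b * x * b⁻¹ = y * x * y⁻¹) : b * y * b⁻¹ * y⁻¹ = b * b := by
  have hyi := inv_Om hy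
  have hbr := h.brak C T.hC B T.hB T.CB y hy b hb
  have hk := klem h T.hA T.hB T.AB (k := y * b) (by
      intro x hx
      rw [eq_comm_iff]
      have e1 : y * b * x * (y * b)⁻¹ = y * (b * x * b⁻¹) * y⁻¹ := by simp only [mul_assoc, _root_.mul_inv_rev]
      rw [e1, he x hx]
      have e2 : y * (y * x * y⁻¹) * y⁻¹ = (y * y) * x * (y * y)⁻¹ := by simp only [mul_assoc, _root_.mul_inv_rev]
      rw [e2, hy.2]
      simp) (by
      intro v hv
      rw [mul_assoc, h.comm B T.hB _ hb _ hv.1, ← mul_assoc,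
        h.comm_om C T.hC B T.hB T.CB y hy v hv, mul_assoc]) (x₀ := 1)
    (y₀ := (b * y * b⁻¹ * y⁻¹)⁻¹ * (b * b)) (one_mem_Om A)
    (h.mul_Om T.hB (by rw [inv_Om hbr]; exact hbr) (h.sq_Om T.hB hb)) (by
      have : (1 : G) * ((b * y * b⁻¹ * y⁻¹)⁻¹ * (b * b)) = y * b * (y⁻¹ * b) := by simp only [mul_assoc, _root_.mul_inv_rev, _root_.inv_inv, _root_.inv_mul_cancel_left, _root_.one_mul]
      rw [this, hyi])
  have h1 : (b * y * b⁻¹ * y⁻¹)⁻¹ * (b * b) = 1 := by
    rw [← hk]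
    have : (b * y * b⁻¹ * y⁻¹)⁻¹ * (b * b) = y * b * (y⁻¹ * b) := by simp only [mul_assoc, _root_.mul_inv_rev, _root_.inv_inv, _root_.inv_mul_cancel_left]
    rw [this, hyi]
  rw [inv_mul_eq_one] at h1
  exact h1

/-- for every `b ∈ B - V_B` there is `a ∈ A` with `[a, [b, x]] = x` for all `x ∈ V_A`. -/
theorem L5 [Finite G] {b : G} (hb : b ∈ B) (hbb : b * b ≠ 1) :
    ∃ a ∈ A, ∀ x ∈ Om A, a * (b * x * b⁻¹ * x⁻¹) * a⁻¹ * (b * x * b⁻¹ * x⁻¹)⁻¹ = x := by
  obtain ⟨a₁, ha₁, haa₁⟩ := h.nonelem A T.hA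
  have hTa := T.tvA h ha₁ haa₁
  have hTb := T.tvB h hb hbb
  obtain ⟨g, hg, hg1⟩ := lemT h.toTIFam (T.sq_UU h) T.hB T.hA hTb hTa (T.ntB h) (T.ntA h) (T.genBA h)
  have hTk : Tv (T.UU h) (cj g B) a₁ := (hTb.conj hg).congr hg1 hTa.norm
  have hgB : A = cj g B :=
    Tv.unique h.toTIFam T.hA (h.conj B T.hB _) hTa hTk (T.ntA h)
  have T' : TwoLines P (cj g A) A (cj g C) := by
    have := conj_of h T g
    rwa [← hgB] at this
  have cA' := h.comm_om _ T'.hA A T.hA T'.AB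
  have dec : ∀ u ∈ T.UU h, ∃ x' ∈ Om (cj g A), ∃ v' ∈ Om A, u = x' * v' := by
    intro u hu
    have h1 : g⁻¹ * u * g ∈ T.UU h := conj_mem_of_cj' hg hu
    obtain ⟨x, hx, y, hy, e⟩ := (T.mem_UU h).1 h1
    refine ⟨g * x * g⁻¹, conj_mem_Om_cj hx, g * y * g⁻¹, ?_, ?_⟩
    · have := conj_mem_Om_cj (g := g) hy
      rwa [← hgB] at this
    · have e2 : g * x * g⁻¹ * (g * y * g⁻¹) = g * (x * y) * g⁻¹ := by simp only [mul_assoc, _root_.inv_mul_cancel_left]
      rw [e2, ← e]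
      simp [mul_assoc]
  have claim : ∀ u ∈ T.UU h, u ∉ A → ∃ y ∈ Om (cj g C), u ∈ cj y (cj g A) := by
    intro u hu huA
    obtain ⟨x', hx', v', hv', rfl⟩ := dec u hu
    have hx1 : x' ≠ 1 := by
      rintro rfl
      apply huA
      rw [one_mul]
      exact hv'.1
    obtain ⟨y, hy, e⟩ := T'.br_surj h hx' hx1 hv'
    refine ⟨y, hy, ?_⟩
    have e2 : x' * v' = y * x' * y⁻¹ := by
      rw [cA' _ hx' _ hv', ← e]
      simp [mul_assoc]
    rw [e2]
    exact conj_mem_cj hx'.1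
  obtain ⟨x₁, hx₁, hx₁1⟩ := exists_ne_Om h T.hA
  obtain ⟨v₁, hv₁, hv₁1⟩ := exists_ne_Om h T.hB
  have hbx1 : b * x₁ * b⁻¹ ≠ 1 := by
    intro h0
    apply hx₁1
    have := congrArg (fun t => b⁻¹ * t * b) h0
    simpa [mul_assoc] using this
  have hcb : Col A B := T.AB
  have hbA : cj b A ≠ A := fun h0 => hbb ((h.norm_iff A T.hA B T.hB T.AB b hb).1 h0)
  obtain ⟨y, hy, hyu⟩ := claim (b * x₁ * b⁻¹) (conj_mem_of_cj hTb.norm (T.left_UU h hx₁)) (by
    intro h0
    exact hbA (h.norm_of_conj T.hA hx₁.1 hx₁1 h0))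
  obtain ⟨y', hy', hyu'⟩ := claim v₁ (T.right_UU h hv₁) (by
    intro h0
    exact T.AB.1 (h.ti A T.hA B T.hB _ h0 hv₁.1 hv₁1))
  have e1 : cj b A = cj y (cj g A) :=
    h.ti _ (h.conj A T.hA b) _ (h.conj _ T'.hA y) _ (conj_mem_cj hx₁.1) hyu hbx1
  have e2 : B = cj y' (cj g A) :=
    h.ti B T.hB _ (h.conj _ T'.hA y') _ hv₁.1 hyu' hv₁1
  have e3 : cj b A = cj (y * y'⁻¹) B := by
    rw [e1, e2, cj_cj _ y', mul_assoc, inv_mul_cancel, mul_one]
  have hyy : y * y'⁻¹ ∈ Om (cj g C) := by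
    rw [inv_Om hy']
    exact h.mul_Om T'.hC hy hy'
  obtain ⟨a, ha, haE⟩ := T'.L3 h hyy
  refine ⟨a, ha, ?_⟩
  -- `a` and `y y'⁻¹` agree on `U`
  have hagree : ∀ u ∈ T.UU h, a * u * a⁻¹ = (y * y'⁻¹) * u * (y * y'⁻¹)⁻¹ := by
    intro u hu
    obtain ⟨x', hx', v', hv', rfl⟩ := dec u hu
    have f1 : a * v' * a⁻¹ = v' := by
      rw [h.comm A T.hA _ ha _ hv'.1, mul_inv_cancel_right]
    have f2 : (y * y'⁻¹) * v' * (y * y'⁻¹)⁻¹ = v' := by
      rw [h.comm_om _ T'.hC A T.hA T'.CB _ hyy _ hv', mul_inv_cancel_right]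
    have f3 : ∀ s : G, s * (x' * v') * s⁻¹ = (s * x' * s⁻¹) * (s * v' * s⁻¹) := by
      intro s
      simp [mul_assoc]
    rw [f3, f3, f1, f2, haE x' hx']
  have haB : cj a B = cj b A := by
    rw [e3]
    refine h.ti _ (h.conj B T.hB a) _ (h.conj B T.hB _) (a * v₁ * a⁻¹) (conj_mem_cj hv₁.1) ?_ ?_
    · rw [hagree _ (T.right_UU h hv₁)]
      exact conj_mem_cj hv₁.1
    · intro h0
      apply hv₁1
      have := congrArg (fun t => a⁻¹ * t * a) h0
      simpa [mul_assoc] using this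
  intro x hx
  have hbr := h.brak A T.hA B T.hB T.AB x hx b hb
  have hv : a⁻¹ * (b * x * b⁻¹) * a ∈ Om B := by
    have h1 : b * x * b⁻¹ ∈ Om (cj b A) := conj_mem_Om_cj hx
    rw [← haB] at h1
    exact mem_Om_cj.1 h1
  set v := a⁻¹ * (b * x * b⁻¹) * a with hvdef
  have hav := h.brak B T.hB A T.hA T.AB.symm v hv a ha
  have f1 : (b * x * b⁻¹ * x⁻¹) * x = (a * v * a⁻¹ * v⁻¹) * v := by
    rw [hvdef]
    simp only [mul_assoc, _root_.inv_mul_cancel, _root_.mul_one, _root_.mul_inv_cancel_left, _root_.mul_inv_cancel, _root_.mul_inv_rev, _root_.inv_inv, _root_.inv_mul_cancel_left]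
  have f2 : (b * x * b⁻¹ * x⁻¹) * v⁻¹ = (a * v * a⁻¹ * v⁻¹) * x⁻¹ := by
    have c1 := h.comm_om A T.hA B T.hB T.AB x hx v hv
    have c2 : x⁻¹ * v⁻¹ = v⁻¹ * x⁻¹ := by rw [← mul_inv_rev, ← mul_inv_rev, c1]
    calc (b * x * b⁻¹ * x⁻¹) * v⁻¹ = ((b * x * b⁻¹ * x⁻¹) * x) * (x⁻¹ * v⁻¹) := by
          simp only [mul_assoc, _root_.inv_mul_cancel, _root_.mul_one]
      _ = ((a * v * a⁻¹ * v⁻¹) * v) * (v⁻¹ * x⁻¹) := by rw [f1, c2]
      _ = (a * v * a⁻¹ * v⁻¹) * x⁻¹ := by simp only [mul_assoc, _root_.inv_mul_cancel, _root_.mul_one]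
  have f3 : (b * x * b⁻¹ * x⁻¹) * v⁻¹ = 1 := by
    by_contra h0
    refine T.AB.1 (h.ti A T.hA B T.hB _ ?_ (B.mul_mem hbr.1 (B.inv_mem hv.1)) h0)
    rw [f2]
    exact A.mul_mem hav.1 (A.inv_mem hx.1)
  have f4 : (a * v * a⁻¹ * v⁻¹) * x⁻¹ = 1 := f2.symm.trans f3
  rw [mul_inv_eq_one] at f3 f4
  rw [f3]
  exact f4

/-- swapping element: `w = b a b` interchanges `x` and `[b, x]`. -/
theorem exists_swap [Finite G] {b : G} (hb : b ∈ B) (hbb : b * b ≠ 1) :
    ∃ w : G, ∀ x ∈ Om A, w * x * w⁻¹ = b * x * b⁻¹ * x⁻¹ ∧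
      w * (b * x * b⁻¹ * x⁻¹) * w⁻¹ = x := by
  obtain ⟨a, ha, haE⟩ := T.L5 h hb hbb
  refine ⟨b * a * b, ?_⟩
  intro x hx
  have hbr := h.brak A T.hA B T.hB T.AB x hx b hb
  have hax := haE x hx
  set v := b * x * b⁻¹ * x⁻¹ with hv
  have e1 : b * x * b⁻¹ = v * x := by rw [hv]; simp only [mul_assoc, _root_.inv_mul_cancel, _root_.mul_one]
  have e2 : a * v * a⁻¹ = x * v := by
    rw [← hax]
    simp only [mul_assoc, _root_.inv_mul_cancel, _root_.mul_one]
  have e3 : a * x * a⁻¹ = x := by rw [h.comm A T.hA _ ha _ hx.1, mul_inv_cancel_right]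
  have e4 : b * v * b⁻¹ = v := by rw [h.comm B T.hB _ hb _ hbr.1, mul_inv_cancel_right]
  have e5 : x * v = v * x := h.comm_om A T.hA B T.hB T.AB x hx v hbr
  constructor
  · have f1 : b * a * b * x * (b * a * b)⁻¹ = b * (a * (b * x * b⁻¹) * a⁻¹) * b⁻¹ := by
      simp only [mul_assoc, _root_.mul_inv_rev]
    have f2 : a * (v * x) * a⁻¹ = (a * v * a⁻¹) * (a * x * a⁻¹) := by simp [mul_assoc]
    rw [f1, e1, f2, e2, e3, e5, mul_assoc v x x, hx.2, mul_one, e4]
  · have f1 : b * a * b * v * (b * a * b)⁻¹ = b * (a * (b * v * b⁻¹) * a⁻¹) * b⁻¹ := by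
      simp only [mul_assoc, _root_.mul_inv_rev]
    have f2 : b * (x * v) * b⁻¹ = (b * x * b⁻¹) * (b * v * b⁻¹) := by simp [mul_assoc]
    rw [f1, e4, e2, f2, e4, e1, ← e5, mul_assoc x v v, hbr.2, mul_one]

/-- the element `b''` with `β_{b''} = β_b β_{b₀}⁻¹ β_b` and `b''² = β_b β_{b₀}⁻¹ (b₀²)`. -/
theorem L6 [Finite G] {b b₀ : G} (hb : b ∈ B) (hbb : b * b ≠ 1) (hb₀ : b₀ ∈ B)
    (hbb₀ : b₀ * b₀ ≠ 1) : ∃ b₂ ∈ B,
      (∀ x ∈ Om A, ∀ x' ∈ Om A, b * x' * b⁻¹ * x'⁻¹ = b₀ * x * b₀⁻¹ * x⁻¹ →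
        b₂ * x' * b₂⁻¹ * x'⁻¹ = b * x * b⁻¹ * x⁻¹) ∧
      (∀ x ∈ Om A, b₀ * b₀ = b₀ * x * b₀⁻¹ * x⁻¹ → b₂ * b₂ = b * x * b⁻¹ * x⁻¹) := by
  obtain ⟨w, hw⟩ := T.exists_swap h hb hbb
  obtain ⟨w₀, hw₀⟩ := T.exists_swap h hb₀ hbb₀
  -- `g = w w₀`
  have hg1 : ∀ x ∈ Om A, (w * w₀) * (b₀ * x * b₀⁻¹ * x⁻¹) * (w * w₀)⁻¹ = b * x * b⁻¹ * x⁻¹ := by
    intro x hx
    have f1 : (w * w₀) * (b₀ * x * b₀⁻¹ * x⁻¹) * (w * w₀)⁻¹
        = w * (w₀ * (b₀ * x * b₀⁻¹ * x⁻¹) * w₀⁻¹) * w⁻¹ := by simp only [mul_assoc, _root_.mul_inv_rev]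
    rw [f1, (hw₀ x hx).2, (hw x hx).1]
  have hg2 : ∀ x ∈ Om A, ∀ x' ∈ Om A, b * x' * b⁻¹ * x'⁻¹ = b₀ * x * b₀⁻¹ * x⁻¹ →
      (w * w₀) * x * (w * w₀)⁻¹ = x' := by
    intro x hx x' hx' he
    have f1 : (w * w₀) * x * (w * w₀)⁻¹ = w * (w₀ * x * w₀⁻¹) * w⁻¹ := by simp only [mul_assoc, _root_.mul_inv_rev]
    rw [f1, (hw₀ x hx).1, ← he, (hw x' hx').2]
  set g := w * w₀ with hg
  have hgB : cj g B = B := by
    obtain ⟨x₁, hx₁, hx₁1⟩ := exists_ne_Om h T.hA
    refine h.norm_of_conj T.hB (h.brak A T.hA B T.hB T.AB x₁ hx₁ b₀ hb₀).1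
      (h.brak_ne T.hA T.hB T.AB.1 hx₁.1 hx₁1 hb₀ hbb₀) ?_
    rw [hg1 x₁ hx₁]
    exact (h.brak A T.hA B T.hB T.AB x₁ hx₁ b hb).1
  refine ⟨g * b₀ * g⁻¹, conj_mem_of_cj hgB hb₀, ?_, ?_⟩
  · intro x hx x' hx' he
    rw [← hg1 x hx, ← hg2 x hx x' hx' he]
    simp only [mul_assoc, _root_.inv_mul_cancel_left, _root_.mul_inv_rev, _root_.inv_inv]
  · intro x hx he
    rw [← hg1 x hx, ← he]
    simp [mul_assoc]

end TwoLines

end Cfsg.Agent.TIAbelian.PairTwo
end

-- part: TIAbelian/PairAlg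
section
set_option autoImplicit false

namespace Cfsg.Agent.TIAbelian.PairAlg

theorem alg {β W : Type*} [Mul β] [AddCommGroup W] (F : β → AddMonoid.End W) (ξ sq : β → W)
    (b₀ : β) (hF : ∀ b c, F (b * c) = F b + F c) (hξ : ∀ b c, ξ (b * c) = ξ b + ξ c)
    (hFξ : ∀ b, F b (ξ b) = sq b) (hwd : ∀ b c, F b = F c → ξ b = ξ c) (h0 : F b₀ = 1)
    (hw : sq b₀ ≠ 0) (hinj : ∀ b, F b ≠ 0 → ∀ w, F b w = 0 → w = 0)
    (h2 : ∀ b, F b ≠ 0 → ∃ c, F c = F b * F b ∧ sq c = F b (sq b₀))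
    (char2 : ∀ w : W, w + w = 0) (b c : β) (hb0 : F b ≠ 0) (hb1 : F b ≠ 1) :
    F c = 0 ∨ F c = 1 ∨ F c = F b ∨ F c = F b + 1 := by
  have charR : ∀ r : AddMonoid.End W, r + r = 0 := by
    intro r
    ext w
    exact char2 (r w)
  have negR : ∀ r : AddMonoid.End W, -r = r := fun r => neg_eq_of_add_eq_zero_left (charR r)
  have hξ0 : ξ b₀ = sq b₀ := by
    have := hFξ b₀
    rw [h0] at this
    exact this
  -- `f ξ(b₂) = w₀`
  have key1 : ∀ b, F b ≠ 0 → ∃ c, F c = F b * F b ∧ F b (ξ c) = sq b₀ := by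
    intro b hb
    obtain ⟨c, hc1, hc2⟩ := h2 b hb
    refine ⟨c, hc1, ?_⟩
    have h3 := hFξ c
    rw [hc1, hc2] at h3
    have h4 : F b (F b (ξ c) - sq b₀) = 0 := by
      rw [map_sub, sub_eq_zero]
      exact h3
    exact sub_eq_zero.mp (hinj b hb _ h4)
  have key2 : ∀ b, F b ≠ 0 → F b ≠ 1 → F b * F b = F b + 1 := by
    intro b hb0 hb1
    obtain ⟨b₂, e1, e2⟩ := key1 b hb0
    have hb1' : F (b * b₀) ≠ 0 := by
      rw [hF, h0]
      intro h3
      apply hb1
      have := eq_neg_of_add_eq_zero_left h3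
      rwa [negR] at this
    obtain ⟨b₃, e3, e4⟩ := key1 (b * b₀) hb1'
    have e5 : F b₃ = F (b₂ * b₀) := by
      rw [e3, hF, hF, h0, e1, add_mul, mul_add, mul_one, one_mul]
      have : F b * F b + F b + (F b + 1) = F b * F b + 1 + (F b + F b) := by abel
      rw [this, charR, add_zero]
    have e6 := hwd _ _ e5
    rw [hξ, hξ0] at e6
    rw [e6, hF, h0] at e4
    have e7 : F b (ξ b₂) + F b (sq b₀) + (ξ b₂ + sq b₀) = sq b₀ := by
      have h1 : (F b) (ξ b₂ + sq b₀) + (ξ b₂ + sq b₀) = sq b₀ := e4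
      rwa [map_add] at h1
    rw [e2] at e7
    -- `ξ b₂ = f w₀ + w₀`
    have e8 : ξ b₂ = F b (sq b₀) + sq b₀ := by
      have h1 : ξ b₂ = (sq b₀ + F b (sq b₀) + (ξ b₂ + sq b₀)) - (F b (sq b₀)) - (sq b₀ + sq b₀) := by
        abel
      rw [h1, e7, char2, sub_zero]
      have h3 : sq b₀ - F b (sq b₀) = F b (sq b₀) + sq b₀ - (F b (sq b₀) + F b (sq b₀)) := by abel
      rw [h3, char2, sub_zero]
    rw [e8, map_add] at e2
    -- `(f² + f + 1) w₀ = 0`
    have e9 : F (b₂ * b * b₀) = F b * F b + F b + 1 := by rw [hF, hF, h0, e1]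
    have e10 : F (b₂ * b * b₀) (sq b₀) = 0 := by
      rw [e9]
      show F b (F b (sq b₀)) + F b (sq b₀) + sq b₀ = 0
      rw [e2, char2]
    have e11 : F (b₂ * b * b₀) = 0 := by
      by_contra h3
      exact hw (hinj _ h3 _ e10)
    rw [e9, add_assoc] at e11
    have := eq_neg_of_add_eq_zero_left e11
    rwa [negR] at this
  by_contra hcon
  push Not at hcon
  obtain ⟨hc0, hc1, hcb, hcb1⟩ := hcon
  have hbc0 : F (b * c) ≠ 0 := by
    rw [hF]
    intro h3
    apply hcb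
    have := eq_neg_of_add_eq_zero_right h3
    rwa [negR] at this
  have hbc1 : F (b * c) ≠ 1 := by
    rw [hF]
    intro h3
    apply hcb1
    have h4 : F c = (F b + F c) - F b := by abel
    rw [h4, h3, sub_eq_add_neg, negR, add_comm]
  have f1 := key2 b hb0 hb1
  have f2 := key2 c hc0 hc1
  have f3 := key2 (b * c) hbc0 hbc1
  rw [hF] at f3
  set f := F b with hf
  set g := F c with hg
  have f4 : f * g + g * f = 1 := by
    have h1 : (f + g) * (f + g) = f * f + g * g + (f * g + g * f) := by noncomm_ring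
    rw [h1, f1, f2] at f3
    have h5 : f * g + g * f = (f + 1 + (g + 1) + (f * g + g * f)) - (f + g + 1) - 1 := by abel
    rw [h5, f3, sub_self, zero_sub, negR]
  have f5 : g * f = 1 + f * g := by
    have h5 : g * f = (f * g + g * f) - f * g := by abel
    rw [h5, f4, sub_eq_add_neg, negR]
  have f6 : g * (f * f) = g * f + g := by rw [f1, mul_add, mul_one]
  have f7 : g * (f * f) = f * g + g := by
    rw [← mul_assoc, f5, add_mul, one_mul, mul_assoc, f5, mul_add, mul_one, ← add_assoc, charR,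
      zero_add, ← mul_assoc, f1, add_mul, one_mul]
  have f8 : g * f = f * g := add_right_cancel (f6.symm.trans f7)
  rw [f8, charR] at f4
  apply hw
  have : (1 : AddMonoid.End W) (sq b₀) = 0 := by rw [← f4]; rfl
  exact this

end Cfsg.Agent.TIAbelian.PairAlg
end

-- part: TIAbelian/PairFinal
section
set_option autoImplicit false

namespace Cfsg.Agent.TIAbelian.PairFinal

open Cfsg.Agent.TIAbelian.PairBase Cfsg.Agent.TIAbelian.PairOmega Cfsg.Agent.TIAbelian.PairGeo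
open Cfsg.Agent.TIAbelian.PairLine Cfsg.Agent.TIAbelian.PairClique Cfsg.Agent.TIAbelian.PairStrong
open Cfsg.Agent.TIAbelian.PairTwo

variable {G : Type*} [Group G]

section

variable {P : Set (Subgroup G)} (h : Geo P) {A B C : Subgroup G} (T : TwoLines P A B C)

/-- `x ↦ [b, x]` -/
def brH (b : ↥B) : ↥(OmS h T.hA) →* ↥(OmS h T.hB) where
  toFun x := ⟨b * x * (b : G)⁻¹ * (x : G)⁻¹, h.brak A T.hA B T.hB T.AB x x.2 b b.2⟩
  map_one' := by
    apply Subtype.ext
    simp only [_root_.OneMemClass.coe_one, _root_.mul_one, _root_.mul_inv_cancel, _root_.inv_one]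
  map_mul' x y := by
    apply Subtype.ext
    show (b : G) * (x * y) * (b : G)⁻¹ * (x * y : G)⁻¹
      = ((b : G) * x * (b : G)⁻¹ * (x : G)⁻¹) * ((b : G) * y * (b : G)⁻¹ * (y : G)⁻¹)
    have h1 := h.comm_om A T.hA B T.hB T.AB x x.2 _
      (h.brak A T.hA B T.hB T.AB y y.2 b b.2)
    have e1 : (b : G) * (x * y) * (b : G)⁻¹ * (x * y : G)⁻¹
      = ((b : G) * x * (b : G)⁻¹) * (((b : G) * y * (b : G)⁻¹ * (y : G)⁻¹) * (x : G)⁻¹) := by simp only [mul_assoc, _root_.mul_inv_rev, _root_.inv_mul_cancel_left]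
    have e2 : ((b : G) * y * (b : G)⁻¹ * (y : G)⁻¹) * (x : G)⁻¹
        = (x : G)⁻¹ * ((b : G) * y * (b : G)⁻¹ * (y : G)⁻¹) := by
      have := congrArg (fun t => (x : G)⁻¹ * t * (x : G)⁻¹) h1
      simpa only [mul_assoc, _root_.inv_mul_cancel_left, _root_.mul_inv_cancel, _root_.mul_one] using this
    rw [e1, e2]
    simp only [mul_assoc]

theorem brH_bij [Finite G] {b : ↥B} (hb : (b : G) * b ≠ 1) :
    Function.Bijective (brH h T b) := by
  constructor
  · intro x y hxy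
    apply Subtype.ext
    refine h.brak_inj T.hA T.hB T.AB.1 (show (x : G) ∈ Om A from x.2).1
      (show (y : G) ∈ Om A from y.2).1 b.2 hb ?_
    exact congrArg Subtype.val hxy
  · intro y
    obtain ⟨x, hx, e⟩ := h.surj A T.hA B T.hB T.AB b b.2 hb y y.2
    exact ⟨⟨x, hx⟩, Subtype.ext e⟩

theorem brH_mul (b c : ↥B) (x : ↥(OmS h T.hA)) :
    brH h T (b * c) x = brH h T b x * brH h T c x := by
  apply Subtype.ext
  show ((b : G) * c) * x * ((b : G) * c)⁻¹ * (x : G)⁻¹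
    = ((b : G) * x * (b : G)⁻¹ * (x : G)⁻¹) * ((c : G) * x * (c : G)⁻¹ * (x : G)⁻¹)
  have h1 := h.brak A T.hA B T.hB T.AB x x.2 c c.2
  have h2 := h.brak A T.hA B T.hB T.AB x x.2 b b.2
  have e1 : ((b : G) * c) * x * ((b : G) * c)⁻¹ * (x : G)⁻¹
      = (b * ((c : G) * x * (c : G)⁻¹ * (x : G)⁻¹)) * (x * (b : G)⁻¹ * (x : G)⁻¹) := by
    simp only [mul_assoc, _root_.mul_inv_rev, _root_.inv_mul_cancel_left]
  rw [e1, h.comm B T.hB _ b.2 _ h1.1]
  have e2 : ((c : G) * x * (c : G)⁻¹ * (x : G)⁻¹) * (b : G) * (x * (b : G)⁻¹ * (x : G)⁻¹)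
      = ((c : G) * x * (c : G)⁻¹ * (x : G)⁻¹) * ((b : G) * x * (b : G)⁻¹ * (x : G)⁻¹) := by
    simp only [mul_assoc]
  rw [e2, h.comm B T.hB _ h1.1 _ h2.1]

theorem sq_of_brH_one [Finite G] {b : ↥B} (hb : ∀ x, brH h T b x = 1) : (b : G) * b = 1 := by
  obtain ⟨x, hx, hx1⟩ := exists_ne_Om h T.hA
  by_contra h0
  exact h.brak_ne T.hA T.hB T.AB.1 hx.1 hx1 b.2 h0 (congrArg Subtype.val (hb ⟨x, hx⟩))

theorem brH_one_of_sq {b : ↥B} (hb : (b : G) * b = 1) (x) : brH h T b x = 1 := by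
  apply Subtype.ext
  show (b : G) * x * (b : G)⁻¹ * (x : G)⁻¹ = 1
  rw [← h.comm_om A T.hA B T.hB T.AB x x.2 b ⟨b.2, hb⟩]
  simp

include h T in
/-- at most four cosets of `V_B` in `B`. -/
theorem cosets [Finite G] (b₀ b c : ↥B) (hb₀ : (b₀ : G) * b₀ ≠ 1) (hb : (b : G) * b ≠ 1)
    (hbb₀ : ((b * b₀ : ↥B) : G) * ((b * b₀ : ↥B) : G) ≠ 1) :
    (c : G) * c = 1 ∨ ((c * b₀ : ↥B) : G) * ((c * b₀ : ↥B) : G) = 1 ∨
      ((c * b : ↥B) : G) * ((c * b : ↥B) : G) = 1 ∨
      ((c * (b * b₀) : ↥B) : G) * ((c * (b * b₀) : ↥B) : G) = 1 := by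
  classical
  -- the group structures
  let iB : CommGroup ↥(OmS h T.hB) :=
    commGrp (fun x hx y hy => h.comm B T.hB x (show x ∈ Om B from hx).1 y (show y ∈ Om B from hy).1)
  let e₀ : ↥(OmS h T.hA) ≃* ↥(OmS h T.hB) := MulEquiv.ofBijective (brH h T b₀) (brH_bij h T hb₀)
  have he₀ : ∀ x, e₀ x = brH h T b₀ x := fun x => rfl
  let F : ↥B → AddMonoid.End (Additive ↥(OmS h T.hB)) := fun b =>
    MonoidHom.toAdditive ((brH h T b).comp e₀.symm.toMonoidHom)
  have hFv : ∀ b v, F b (Additive.ofMul v) = Additive.ofMul (brH h T b (e₀.symm v)) :=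
    fun b v => rfl
  have hFx : ∀ b x, F b (Additive.ofMul (e₀ x)) = Additive.ofMul (brH h T b x) := by
    intro b x
    rw [hFv, MulEquiv.symm_apply_apply]
  have hF0 : ∀ b, F b = 0 ↔ (b : G) * b = 1 := by
    intro b
    constructor
    · intro h1
      refine sq_of_brH_one h T ?_
      intro x
      have := hFx b x
      rw [h1] at this
      exact Additive.ofMul.injective this.symm
    · intro h1
      refine AddMonoidHom.ext fun v => ?_
      obtain ⟨x, hx⟩ := e₀.surjective (Additive.toMul v)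
      have h2 : v = Additive.ofMul (e₀ x) := by rw [hx]; rfl
      rw [h2]
      refine (hFx b x).trans ?_
      rw [brH_one_of_sq h T h1]
      rfl
  -- `x(b)`
  have T' : TwoLines P C B A := _root_.Cfsg.Agent.TIAbelian.PairTwo.symm_of T
  have hx : ∀ b : ↥B, ∃ x : ↥(OmS h T.hA), ∀ y ∈ Om C, (b : G) * y * (b : G)⁻¹ = x * y * (x : G)⁻¹ := by
    intro b
    obtain ⟨x, hx, e⟩ := T'.L2 h b.2
    exact ⟨⟨x, hx⟩, e⟩
  choose X hX using hx
  have hXuniq : ∀ (b : ↥B) (x : ↥(OmS h T.hA)),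
      (∀ y ∈ Om C, (b : G) * y * (b : G)⁻¹ = x * y * (x : G)⁻¹) → X b = x := by
    intro b x hx
    obtain ⟨y, hy, hy1⟩ := exists_ne_Om h T.hC
    have h1 := (hX b y hy).symm.trans (hx y hy)
    have h2 : ((x⁻¹ * X b : ↥(OmS h T.hA)) : G) = 1 := by
      refine T'.comm_ne hy (x⁻¹ * X b : ↥(OmS h T.hA)).2 hy1 ?_
      have := congrArg (fun t => (x : G)⁻¹ * t * X b) h1
      simpa only [mul_assoc, _root_.Subgroup.coe_mul, _root_.InvMemClass.coe_inv, _root_.inv_mul_cancel, _root_.mul_one, _root_.inv_mul_cancel_left] using this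
    have h3 : x⁻¹ * X b = 1 := Subtype.ext h2
    rw [inv_mul_eq_one] at h3
    exact h3.symm
  have hXmul : ∀ b c, X (b * c) = X b * X c := by
    intro b c
    apply hXuniq
    intro y hy
    have hyB := h.comm_om C T.hC B T.hB T.CB y hy
    have hbr := h.brak A T.hA B T.hB T.AB (X c) (X c).2 b b.2
    -- `b (x_c y x_c⁻¹) b⁻¹`
    have e1 : ((b * c : ↥B) : G) * y * ((b * c : ↥B) : G)⁻¹
        = b * (c * y * (c : G)⁻¹) * (b : G)⁻¹ := by simp only [mul_assoc, _root_.Subgroup.coe_mul, _root_.mul_inv_rev]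
    rw [e1, hX c y hy]
    have e2 : (b : G) * (X c * y * (X c : G)⁻¹) * (b : G)⁻¹
        = ((b : G) * X c * (b : G)⁻¹ * (X c : G)⁻¹) * (X c * (b * y * (b : G)⁻¹) * (X c : G)⁻¹)
          * ((b : G) * X c * (b : G)⁻¹ * (X c : G)⁻¹)⁻¹ := by simp only [mul_assoc, _root_.inv_mul_cancel_left, _root_.mul_inv_rev, _root_.inv_inv]
    rw [e2, hX b y hy]
    set v := (b : G) * X c * (b : G)⁻¹ * (X c : G)⁻¹ with hv
    have e3 : (X c : G) * (X b * y * (X b : G)⁻¹) * (X c : G)⁻¹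
        = ((X b * X c : ↥(OmS h T.hA)) : G) * y * ((X b * X c : ↥(OmS h T.hA)) : G)⁻¹ := by
      have hc : (X c : G) * X b = X b * X c :=
        h.comm A T.hA _ (show (X c : G) ∈ Om A from (X c).2).1 _
          (show (X b : G) ∈ Om A from (X b).2).1
      show _ = ((X b : G) * X c) * y * ((X b : G) * X c)⁻¹
      rw [← hc]
      simp only [mul_assoc, _root_.mul_inv_rev]
    rw [e3]
    -- `v` commutes with `x y x⁻¹`
    have e4 : ∀ x ∈ Om A, v * (x * y * x⁻¹) = (x * y * x⁻¹) * v := by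
      intro x hx
      have h1 := h.comm_om A T.hA B T.hB T.AB x hx v hbr
      have h2 : v * x⁻¹ = x⁻¹ * v := by
        have := congrArg (fun t => x⁻¹ * t * x⁻¹) h1
        simpa only [mul_assoc, _root_.inv_mul_cancel_left, _root_.mul_inv_cancel, _root_.mul_one] using this
      calc v * (x * y * x⁻¹) = (v * x) * y * x⁻¹ := by simp only [mul_assoc]
        _ = x * (v * y) * x⁻¹ := by rw [← h1]; simp only [mul_assoc]
        _ = x * y * (v * x⁻¹) := by rw [← hyB v hbr]; simp only [mul_assoc]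
        _ = x * y * x⁻¹ * v := by rw [h2]; simp only [mul_assoc]
    rw [e4 _ (X b * X c : ↥(OmS h T.hA)).2, mul_inv_cancel_right]
  have hXsq : ∀ b : ↥B, (b : G) * X b * (b : G)⁻¹ * (X b : G)⁻¹ = b * b :=
    fun b => T'.L4 h b.2 (X b).2 (hX b)
  let sq : ↥B → Additive ↥(OmS h T.hB) := fun b => Additive.ofMul ⟨b * b, h.sq_Om T.hB b.2⟩
  let ξ : ↥B → Additive ↥(OmS h T.hB) := fun b => Additive.ofMul (e₀ (X b))
  have hFmul : ∀ b c, F (b * c) = F b + F c := by
    intro b c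
    refine AddMonoidHom.ext fun v => ?_
    obtain ⟨x, hx⟩ := e₀.surjective (Additive.toMul v)
    have h2 : v = Additive.ofMul (e₀ x) := by rw [hx]; rfl
    rw [h2]
    show F (b * c) (Additive.ofMul (e₀ x)) = F b (Additive.ofMul (e₀ x)) + F c (Additive.ofMul (e₀ x))
    rw [hFx, hFx, hFx, brH_mul]
    rfl
  have h1F : F b₀ = 1 := by
    refine AddMonoidHom.ext fun v => ?_
    obtain ⟨x, hx⟩ := e₀.surjective (Additive.toMul v)
    have h2 : v = Additive.ofMul (e₀ x) := by rw [hx]; rfl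
    rw [h2]
    exact (hFx b₀ x).trans rfl
  have char2 : ∀ w : Additive ↥(OmS h T.hB), w + w = 0 := by
    intro w
    apply Additive.toMul.injective
    apply Subtype.ext
    exact (show ((Additive.toMul w : ↥(OmS h T.hB)) : G) ∈ Om B from (Additive.toMul w).2).2
  have charR : ∀ r : AddMonoid.End (Additive ↥(OmS h T.hB)), r + r = 0 := by
    intro r
    refine AddMonoidHom.ext fun w => ?_
    exact char2 (r w)
  have key := PairAlg.alg F ξ sq b₀ hFmul (by
      intro b c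
      show Additive.ofMul (e₀ (X (b * c))) = Additive.ofMul (e₀ (X b)) + Additive.ofMul (e₀ (X c))
      rw [hXmul, map_mul]
      rfl) (by
      intro b
      show F b (Additive.ofMul (e₀ (X b))) = _
      rw [hFx]
      apply Additive.toMul.injective
      apply Subtype.ext
      exact hXsq b) (by
      intro b c hbc
      have h1 : F (b * c) = 0 := by rw [hFmul, hbc, charR]
      rw [hF0] at h1
      have h2 : X (b * c) = 1 := by
        apply hXuniq
        intro y hy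
        rw [← h.comm_om C T.hC B T.hB T.CB y hy _ ⟨(b * c).2, h1⟩, mul_inv_cancel_right]
        simp only [_root_.OneMemClass.coe_one, _root_.one_mul, _root_.inv_one, _root_.mul_one]
      rw [hXmul] at h2
      have h3 : X b = X c := by
        have h4 : X c * X c = 1 :=
          Subtype.ext (show (X c : G) ∈ Om A from (X c).2).2
        exact mul_right_cancel (h2.trans h4.symm)
      show Additive.ofMul (e₀ (X b)) = Additive.ofMul (e₀ (X c))
      rw [h3]) h1F (by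
      intro h1
      exact hb₀ (congrArg (fun t => ((Additive.toMul t : ↥(OmS h T.hB)) : G)) h1)) (by
      intro b hb w hw
      have hb' : (b : G) * b ≠ 1 := fun h1 => hb ((hF0 b).2 h1)
      obtain ⟨x, hx⟩ := e₀.surjective (Additive.toMul w)
      have h2 : w = Additive.ofMul (e₀ x) := by rw [hx]; rfl
      rw [h2, hFx] at hw
      have h3 : brH h T b x = brH h T b 1 := by
        rw [map_one]
        exact Additive.ofMul.injective hw
      rw [h2, (brH_bij h T hb').1 h3, map_one]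
      rfl) (by
      intro b hb
      have hb' : (b : G) * b ≠ 1 := fun h1 => hb ((hF0 b).2 h1)
      obtain ⟨b₂, hb₂, e1, e2⟩ := T.L6 h b.2 hb' b₀.2 hb₀
      refine ⟨⟨b₂, hb₂⟩, ?_, ?_⟩
      · refine AddMonoidHom.ext fun v => ?_
        obtain ⟨x', hx'⟩ := e₀.surjective (Additive.toMul v)
        have h2 : v = Additive.ofMul (e₀ x') := by rw [hx']; rfl
        rw [h2]
        show F ⟨b₂, hb₂⟩ (Additive.ofMul (e₀ x')) = F b (F b (Additive.ofMul (e₀ x')))
        rw [hFx, hFx]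
        obtain ⟨x, hx⟩ := e₀.surjective (brH h T b x')
        rw [← hx, hFx]
        apply Additive.toMul.injective
        apply Subtype.ext
        exact e1 x x.2 x' x'.2 (congrArg Subtype.val hx).symm
      · obtain ⟨x, hx⟩ := e₀.surjective ⟨(b₀ : G) * b₀, h.sq_Om T.hB b₀.2⟩
        show _ = F b (Additive.ofMul ⟨(b₀ : G) * b₀, h.sq_Om T.hB b₀.2⟩)
        rw [← hx, hFx]
        apply Additive.toMul.injective
        apply Subtype.ext
        exact e2 x x.2 (congrArg Subtype.val hx).symm) char2 b c (fun h1 => hb ((hF0 b).1 h1)) (by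
      intro h1
      apply hbb₀
      rw [← hF0, hFmul, h1, h1F, charR])
  rcases key with h1 | h1 | h1 | h1
  · left
    exact (hF0 c).1 h1
  · right; left
    rw [← hF0, hFmul, h1, h1F, charR]
  · right; right; left
    rw [← hF0, hFmul, h1, charR]
  · right; right; right
    rw [← hF0, hFmul, hFmul, h1, h1F, charR]

end

end Cfsg.Agent.TIAbelian.PairFinal
end

-- part: TIAbelian/PairCard
section
set_option autoImplicit false

namespace Cfsg.Agent.TIAbelian.PairCard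

open Cfsg.Agent.TIAbelian.PairBase Cfsg.Agent.TIAbelian.PairOmega Cfsg.Agent.TIAbelian.PairGeo
open Cfsg.Agent.TIAbelian.PairLine Cfsg.Agent.TIAbelian.PairClique Cfsg.Agent.TIAbelian.PairStrong
open Cfsg.Agent.TIAbelian.PairTwo Cfsg.Agent.TIAbelian.PairFinal

/-- An abelian group of order `16` with two elements `b₀`, `b₁` of order `4` whose product also
has nontrivial square, all of exponent `4`. -/
theorem equiv_of_card {B : Type*} [Group B] (hc : ∀ x y : B, x * y = y * x)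
    (hcard : Nat.card B = 16) (h4 : ∀ x : B, (x * x) * (x * x) = 1) (b₀ b₁ : B)
    (h0 : b₀ * b₀ ≠ 1) (h1 : b₁ * b₁ ≠ 1) (h01 : (b₁ * b₀) * (b₁ * b₀) ≠ 1) :
    Nonempty (B ≃* Multiplicative (ZMod 4) × Multiplicative (ZMod 4)) := by
  have hp4 : ∀ x : B, x ^ 4 = 1 := by
    intro x
    rw [← h4 x]
    simp [pow_succ, mul_assoc]
  have hpow : ∀ (x : B) (i j : ZMod 4), x ^ (i + j).val = x ^ i.val * x ^ j.val := by
    intro x i j
    rw [ZMod.val_add, ← pow_add]
    exact (pow_eq_pow_mod _ (hp4 x)).symm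
  let ψ : Multiplicative (ZMod 4) × Multiplicative (ZMod 4) →* B :=
    MonoidHom.mk' (fun p => b₀ ^ (Multiplicative.toAdd p.1).val * b₁ ^ (Multiplicative.toAdd p.2).val)
      (by
        rintro ⟨i, j⟩ ⟨i', j'⟩
        show b₀ ^ (Multiplicative.toAdd i + Multiplicative.toAdd i').val
          * b₁ ^ (Multiplicative.toAdd j + Multiplicative.toAdd j').val = _
        rw [hpow, hpow]
        have := hc (b₀ ^ (Multiplicative.toAdd i').val) (b₁ ^ (Multiplicative.toAdd j).val)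
        simp only [mul_assoc]
        rw [← mul_assoc (b₀ ^ (Multiplicative.toAdd i').val), this]
        simp only [mul_assoc])
  have h01' : b₀ * b₀ * (b₁ * b₁) ≠ 1 := by
    intro h
    apply h01
    have : b₁ * b₀ * (b₁ * b₀) = b₀ * b₀ * (b₁ * b₁) := by
      rw [hc b₁ b₀, mul_assoc b₀ b₁, ← mul_assoc b₁ b₀, hc b₁ b₀]
      simp only [mul_assoc]
    rw [this, h]
  have hsqpow : ∀ (x : B) (n : ℕ), x ^ n * x ^ n = (x * x) ^ n := by
    intro x n
    rw [← pow_add, ← two_mul, pow_mul, pow_two]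
  have key : ∀ m n : ℕ, m < 4 → n < 4 → b₀ ^ m * b₁ ^ n = 1 → m = 0 ∧ n = 0 := by
    intro m n hm hn he
    have hsq : (b₀ * b₀) ^ m * (b₁ * b₁) ^ n = 1 := by
      rw [← hsqpow, ← hsqpow]
      have e1 : b₀ ^ m * b₀ ^ m * (b₁ ^ n * b₁ ^ n) = (b₀ ^ m * b₁ ^ n) * (b₀ ^ m * b₁ ^ n) := by
        have := hc (b₀ ^ m) (b₁ ^ n)
        calc b₀ ^ m * b₀ ^ m * (b₁ ^ n * b₁ ^ n) = b₀ ^ m * (b₀ ^ m * b₁ ^ n) * b₁ ^ n := by
              simp only [mul_assoc]
          _ = b₀ ^ m * (b₁ ^ n * b₀ ^ m) * b₁ ^ n := by rw [this]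
          _ = (b₀ ^ m * b₁ ^ n) * (b₀ ^ m * b₁ ^ n) := by simp only [mul_assoc]
      rw [e1, he, one_mul]
    have hs0 : ∀ n : ℕ, (b₀ * b₀) ^ (n + 2) = (b₀ * b₀) ^ n := by
      intro n
      rw [pow_add, pow_two, h4, mul_one]
    have hs1 : ∀ n : ℕ, (b₁ * b₁) ^ (n + 2) = (b₁ * b₁) ^ n := by
      intro n
      rw [pow_add, pow_two, h4, mul_one]
    have a2 : (b₀ * b₀) ^ 2 = 1 := by rw [pow_two, h4]
    have a3 : (b₀ * b₀) ^ 3 = b₀ * b₀ := by rw [pow_succ, a2, one_mul]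
    have c2 : (b₁ * b₁) ^ 2 = 1 := by rw [pow_two, h4]
    have c3 : (b₁ * b₁) ^ 3 = b₁ * b₁ := by rw [pow_succ, c2, one_mul]
    interval_cases m <;> interval_cases n <;>
      simp only [pow_zero, pow_one, one_mul, mul_one, a2, a3, c2, c3] at hsq he ⊢ <;>
      first
        | exact ⟨trivial, trivial⟩
        | exact absurd hsq h0
        | exact absurd hsq h1
        | exact absurd hsq h01'
        | exact absurd (by rw [← pow_two]; exact he) h0
        | exact absurd (by rw [← pow_two]; exact he) h1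
        | exact absurd (by rw [← pow_two, ← pow_two]; exact he) h01'
  have hinj : Function.Injective ψ := by
    rw [injective_iff_map_eq_one]
    rintro ⟨i, j⟩ he
    obtain ⟨h1, h2⟩ := key _ _ (ZMod.val_lt (Multiplicative.toAdd i))
      (ZMod.val_lt (Multiplicative.toAdd j)) he
    rw [ZMod.val_eq_zero] at h1 h2
    exact Prod.ext h1 h2
  have : Finite B := Nat.finite_of_card_ne_zero (by rw [hcard]; decide)
  have hbij : Function.Bijective ψ := by
    rw [Nat.bijective_iff_injective_and_card]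
    refine ⟨hinj, ?_⟩
    rw [hcard, Nat.card_prod]
    simp
  exact ⟨(MulEquiv.ofBijective ψ hbij).symm⟩

variable {G : Type*} [Group G]

section

variable {P : Set (Subgroup G)} (h : Geo P) {A B C : Subgroup G} (T : TwoLines P A B C)
include h T

theorem exists_hom [Finite G] : ∃ Y : ↥B →* ↥(OmS h T.hC),
    (∀ b : ↥B, ∀ x ∈ Om A, (b : G) * x * (b : G)⁻¹ = Y b * x * (Y b : G)⁻¹) ∧
    Function.Surjective Y ∧ ∀ b, Y b = 1 ↔ (b : G) * b = 1 := by
  have hY : ∀ b : ↥B, ∃ y : ↥(OmS h T.hC), ∀ x ∈ Om A,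
      (b : G) * x * (b : G)⁻¹ = y * x * (y : G)⁻¹ := by
    intro b
    obtain ⟨y, hy, e⟩ := T.L2 h b.2
    exact ⟨⟨y, hy⟩, e⟩
  choose Y hY using hY
  have huniq : ∀ (b : ↥B) (y : ↥(OmS h T.hC)),
      (∀ x ∈ Om A, (b : G) * x * (b : G)⁻¹ = y * x * (y : G)⁻¹) → Y b = y := by
    intro b y hy
    obtain ⟨x, hx, hx1⟩ := exists_ne_Om h T.hA
    have h1 := (hY b x hx).symm.trans (hy x hx)
    have h2 : ((y⁻¹ * Y b : ↥(OmS h T.hC)) : G) = 1 := by
      refine T.comm_ne hx (y⁻¹ * Y b : ↥(OmS h T.hC)).2 hx1 ?_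
      have := congrArg (fun t => (y : G)⁻¹ * t * Y b) h1
      simpa only [mul_assoc, _root_.Subgroup.coe_mul, _root_.InvMemClass.coe_inv, _root_.inv_mul_cancel, _root_.mul_one, _root_.inv_mul_cancel_left] using this
    have h3 : y⁻¹ * Y b = 1 := Subtype.ext h2
    rw [inv_mul_eq_one] at h3
    exact h3.symm
  have hmul : ∀ b c, Y (b * c) = Y b * Y c := by
    intro b c
    apply huniq
    intro x hx
    have hxB := h.comm_om A T.hA B T.hB T.AB x hx
    have hbr := h.brak C T.hC B T.hB T.CB (Y c) (Y c).2 b b.2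
    have e1 : ((b * c : ↥B) : G) * x * ((b * c : ↥B) : G)⁻¹
        = b * (c * x * (c : G)⁻¹) * (b : G)⁻¹ := by simp only [mul_assoc, _root_.Subgroup.coe_mul, _root_.mul_inv_rev]
    rw [e1, hY c x hx]
    have e2 : (b : G) * (Y c * x * (Y c : G)⁻¹) * (b : G)⁻¹
        = ((b : G) * Y c * (b : G)⁻¹ * (Y c : G)⁻¹) * (Y c * (b * x * (b : G)⁻¹) * (Y c : G)⁻¹)
          * ((b : G) * Y c * (b : G)⁻¹ * (Y c : G)⁻¹)⁻¹ := by simp only [mul_assoc, _root_.inv_mul_cancel_left, _root_.mul_inv_rev, _root_.inv_inv]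
    rw [e2, hY b x hx]
    set v := (b : G) * Y c * (b : G)⁻¹ * (Y c : G)⁻¹ with hv
    have e3 : (Y c : G) * (Y b * x * (Y b : G)⁻¹) * (Y c : G)⁻¹
        = ((Y b * Y c : ↥(OmS h T.hC)) : G) * x * ((Y b * Y c : ↥(OmS h T.hC)) : G)⁻¹ := by
      have hc : (Y c : G) * Y b = Y b * Y c :=
        h.comm C T.hC _ (show (Y c : G) ∈ Om C from (Y c).2).1 _
          (show (Y b : G) ∈ Om C from (Y b).2).1
      show _ = ((Y b : G) * Y c) * x * ((Y b : G) * Y c)⁻¹
      rw [← hc]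
      simp only [mul_assoc, _root_.mul_inv_rev]
    rw [e3]
    have e4 : ∀ y ∈ Om C, v * (y * x * y⁻¹) = (y * x * y⁻¹) * v := by
      intro y hy
      have h1 := h.comm_om C T.hC B T.hB T.CB y hy v hbr
      have h2 : v * y⁻¹ = y⁻¹ * v := by
        have := congrArg (fun t => y⁻¹ * t * y⁻¹) h1
        simpa only [mul_assoc, _root_.inv_mul_cancel_left, _root_.mul_inv_cancel, _root_.mul_one] using this
      calc v * (y * x * y⁻¹) = (v * y) * x * y⁻¹ := by simp only [mul_assoc]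
        _ = y * (v * x) * y⁻¹ := by rw [← h1]; simp only [mul_assoc]
        _ = y * x * (v * y⁻¹) := by rw [← hxB v hbr]; simp only [mul_assoc]
        _ = y * x * y⁻¹ * v := by rw [h2]; simp only [mul_assoc]
    rw [e4 _ (Y b * Y c : ↥(OmS h T.hC)).2, mul_inv_cancel_right]
  refine ⟨MonoidHom.mk' Y hmul, hY, ?_, ?_⟩
  · intro y
    obtain ⟨b, hb, e⟩ := T.L3 h y.2
    exact ⟨⟨b, hb⟩, huniq ⟨b, hb⟩ y e⟩
  · intro b
    show Y b = 1 ↔ _
    constructor
    · intro h1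
      obtain ⟨x, hx, hx1⟩ := exists_ne_Om h T.hA
      refine h.sq_of_comm T.hA T.hB T.AB.1 hx.1 hx1 b.2 ?_
      have h2 := hY b x hx
      rw [h1] at h2
      have h3 : (b : G) * x * (b : G)⁻¹ = x := by simpa only [_root_.OneMemClass.coe_one, _root_.one_mul, _root_.inv_one, _root_.mul_one] using h2
      exact (eq_comm_iff.2 h3).symm
    · intro h1
      apply huniq
      intro x hx
      rw [← h.comm_om A T.hA B T.hB T.AB x hx b ⟨b.2, h1⟩, mul_inv_cancel_right]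
      simp

/-- The conclusion of the pair analysis. -/
theorem card_B [Finite G] : Nat.card ↥(OmS h T.hB) = 4 ∧ Nat.card ↥B = 16 ∧
    Nonempty (↥B ≃* Multiplicative (ZMod 4) × Multiplicative (ZMod 4)) := by
  classical
  obtain ⟨Y, hY1, hY2, hY3⟩ := exists_hom h T
  obtain ⟨b₀', hb₀', hb₀1⟩ := h.nonelem B T.hB
  set b₀ : ↥B := ⟨b₀', hb₀'⟩ with hb₀def
  have hb₀ : (b₀ : G) * b₀ ≠ 1 := hb₀1
  have hYsq : ∀ y : ↥(OmS h T.hC), y * y = 1 := fun y =>
    Subtype.ext (show (y : G) ∈ Om C from y.2).2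
  have hYmul1 : ∀ b c : ↥B, Y (b * c) = 1 → Y b = Y c := by
    intro b c hbc
    rw [map_mul] at hbc
    exact mul_right_cancel (hbc.trans (hYsq _).symm)
  -- at least three elements in `V_C`
  obtain ⟨y₁, hy₁, hy₁1⟩ := exists_ne_Om h T.hC
  have hnrC : ∀ y, y ∈ nr C B ↔ y ∈ Om C := by
    intro y
    constructor
    · intro hy
      exact ⟨hy.1, (h.norm_iff B T.hB C T.hC T.CB.symm y hy.1).1 hy.2⟩
    · intro hy
      exact ⟨hy.1, (h.norm_iff B T.hB C T.hC T.CB.symm y hy.1).2 hy.2⟩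
  obtain ⟨v₁, hv₁, hv₁1⟩ := exists_ne_Om h T.hB
  have hv₁' : v₁ ∈ nr B C := ⟨hv₁.1, (h.norm_iff C T.hC B T.hB T.CB v₁ hv₁.1).2 hv₁.2⟩
  obtain ⟨y₂, hy₂, hy₂1, hy₂₁⟩ := h.exists_two T.hC T.hB T.CB.1 ((hnrC y₁).2 hy₁) hy₁1 hv₁' hv₁1
  rw [hnrC] at hy₂
  -- `b₁`
  obtain ⟨b₁, hb₁, hb₁₀⟩ : ∃ b₁ : ↥B, (b₁ : G) * b₁ ≠ 1 ∧
      ((b₁ * b₀ : ↥B) : G) * ((b₁ * b₀ : ↥B) : G) ≠ 1 := by
    by_contra hcon
    push Not at hcon
    have hall : ∀ y : ↥(OmS h T.hC), y = 1 ∨ y = Y b₀ := by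
      intro y
      obtain ⟨b, rfl⟩ := hY2 y
      by_cases hb : (b : G) * b = 1
      · left
        exact (hY3 b).2 hb
      · right
        exact hYmul1 _ _ ((hY3 _).2 (hcon b hb))
    have e1 : (⟨y₁, hy₁⟩ : ↥(OmS h T.hC)) = Y b₀ :=
      (hall ⟨y₁, hy₁⟩).resolve_left (fun h0 => hy₁1 (congrArg Subtype.val h0))
    have e2 : (⟨y₂, hy₂⟩ : ↥(OmS h T.hC)) = Y b₀ :=
      (hall ⟨y₂, hy₂⟩).resolve_left (fun h0 => hy₂1 (congrArg Subtype.val h0))
    exact hy₂₁ (congrArg Subtype.val (e2.trans e1.symm))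
  have hcos := fun c => cosets h T b₀ b₁ c hb₀ hb₁ hb₁₀
  have hsurj4 : ∀ y : ↥(OmS h T.hC), y ∈ ({1, Y b₀, Y b₁, Y (b₁ * b₀)} : Finset ↥(OmS h T.hC)) := by
    intro y
    obtain ⟨c, rfl⟩ := hY2 y
    simp only [Finset.mem_insert, Finset.mem_singleton]
    rcases hcos c with h1 | h1 | h1 | h1
    · exact Or.inl ((hY3 c).2 h1)
    · exact Or.inr (Or.inl (hYmul1 _ _ ((hY3 _).2 h1)))
    · exact Or.inr (Or.inr (Or.inl (hYmul1 _ _ ((hY3 _).2 h1))))
    · exact Or.inr (Or.inr (Or.inr (hYmul1 _ _ ((hY3 _).2 h1))))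
  have : Fintype ↥(OmS h T.hC) := Fintype.ofFinite _
  have hle : Nat.card ↥(OmS h T.hC) ≤ 4 := by
    rw [Nat.card_eq_fintype_card, ← Finset.card_univ]
    calc (Finset.univ : Finset ↥(OmS h T.hC)).card
        ≤ ({1, Y b₀, Y b₁, Y (b₁ * b₀)} : Finset ↥(OmS h T.hC)).card :=
          Finset.card_le_card (fun y _ => hsurj4 y)
      _ ≤ 4 := Finset.card_le_four
  have hge : 3 ≤ Nat.card ↥(OmS h T.hC) := by
    rw [Nat.card_eq_fintype_card]
    have h3 : ({1, ⟨y₁, hy₁⟩, ⟨y₂, hy₂⟩} : Finset ↥(OmS h T.hC)).card = 3 := by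
      rw [Finset.card_eq_three]
      refine ⟨1, ⟨y₁, hy₁⟩, ⟨y₂, hy₂⟩, ?_, ?_, ?_, rfl⟩
      · intro h0; exact hy₁1 (congrArg Subtype.val h0).symm
      · intro h0; exact hy₂1 (congrArg Subtype.val h0).symm
      · intro h0; exact hy₂₁ (congrArg Subtype.val h0).symm
    rw [← h3]
    exact Finset.card_le_univ _
  have heven : 2 ∣ Nat.card ↥(OmS h T.hC) := by
    have : orderOf (⟨y₁, hy₁⟩ : ↥(OmS h T.hC)) = 2 := by
      rw [orderOf_eq_prime_iff]
      refine ⟨?_, fun h0 => hy₁1 (congrArg Subtype.val h0)⟩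
      rw [pow_two]
      exact hYsq _
    rw [← this]
    exact orderOf_dvd_natCard _
  have hC4 : Nat.card ↥(OmS h T.hC) = 4 := by omega
  have hBC : Nat.card ↥(OmS h T.hB) = Nat.card ↥(OmS h T.hC) := ncard_Om h T.hB T.hC
  have hB4 : Nat.card ↥(OmS h T.hB) = 4 := hBC.trans hC4
  have hker : Nat.card ↥Y.ker = 4 := by
    rw [← hB4]
    refine Nat.card_congr ⟨fun x => ⟨(x : ↥B), (x : ↥B).2, (hY3 _).1 x.2⟩,
      fun x => ⟨⟨x, (show (x : G) ∈ Om B from x.2).1⟩,
        (hY3 _).2 (show (x : G) ∈ Om B from x.2).2⟩, fun x => rfl, fun x => rfl⟩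
  have hB16 : Nat.card ↥B = 16 := by
    rw [← Y.ker.card_mul_index, Subgroup.index_ker, MonoidHom.range_eq_top.2 hY2, hker,
      Subgroup.card_top, hC4]
  refine ⟨hB4, hB16, ?_⟩
  refine equiv_of_card ?_ hB16 ?_ b₀ b₁ ?_ ?_ ?_
  · intro x y
    exact Subtype.ext (h.comm B T.hB x x.2 y y.2)
  · intro x
    exact Subtype.ext (h.exp4 B T.hB x x.2)
  · intro h0
    exact hb₀ (congrArg Subtype.val h0)
  · intro h0
    exact hb₁ (congrArg Subtype.val h0)
  · intro h0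
    exact hb₁₀ (congrArg Subtype.val h0)

end

end Cfsg.Agent.TIAbelian.PairCard
end

-- part: TIAbelian/PairSCM
section
set_option autoImplicit false

namespace Cfsg.Agent.TIAbelian.PairSCM

open Cfsg

theorem scm {H : Type*} [Group H] [Finite H] (hc : IsOfCharacteristicTwo H) (T E : Subgroup H)
    (_hT : IsPGroup 2 ↥T) (hQT : pCore 2 H ≤ T) (hET : E ≤ T)
    (hE : ∀ x ∈ E, ∀ y ∈ E, x * y = y * x)
    (hs : ∀ x ∈ E, ∀ g : H, g * x * g⁻¹ ∈ T → g * x * g⁻¹ ∈ E) : E.Normal := by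
  have : Fact (Nat.Prime 2) := ⟨Nat.prime_two⟩
  have hQn : (pCore 2 H).Normal := Cfsg.Agent.Lib.Cores.pCore_normal 2
  have hQ2 : IsPGroup 2 ↥(pCore 2 H) := Cfsg.Agent.Lib.Cores.pCore_isPGroup 2
  set Q := pCore 2 H with hQ
  -- `E ∩ Q` is invariant
  have hE0 : ∀ e ∈ E, e ∈ Q → ∀ g : H, g * e * g⁻¹ ∈ E := fun e he heQ g =>
    hs e he g (hQT (hQn.conj_mem e heQ g))
  let K : Subgroup H :=
    { carrier := {g | (∀ q ∈ Q, g * q * g⁻¹ * q⁻¹ ∈ E ∧ g * q * g⁻¹ * q⁻¹ ∈ Q) ∧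
        (∀ e ∈ E, e ∈ Q → g * e = e * g)}
      one_mem' := by
        refine ⟨fun q _ => ?_, fun e _ _ => by simp⟩
        simp [E.one_mem, Q.one_mem]
      mul_mem' := by
        rintro g k ⟨hg1, hg2⟩ ⟨hk1, hk2⟩
        refine ⟨fun q hq => ?_, fun e he heQ => ?_⟩
        · have h1 := hk1 q hq
          have h2 := hg1 q hq
          have e1 : g * k * q * (g * k)⁻¹ * q⁻¹
              = (g * (k * q * k⁻¹ * q⁻¹)) * (q * g⁻¹ * q⁻¹) := by simp only [mul_assoc, _root_.mul_inv_rev, _root_.inv_mul_cancel_left]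
          have e2 : (k * q * k⁻¹ * q⁻¹) * g * (q * g⁻¹ * q⁻¹)
              = (k * q * k⁻¹ * q⁻¹) * (g * q * g⁻¹ * q⁻¹) := by simp only [mul_assoc]
          rw [e1, hg2 _ h1.1 h1.2, e2]
          exact ⟨E.mul_mem h1.1 h2.1, Q.mul_mem h1.2 h2.2⟩
        · rw [mul_assoc, hk2 e he heQ, ← mul_assoc, hg2 e he heQ, mul_assoc]
      inv_mem' := by
        rintro g ⟨hg1, hg2⟩
        have hgi : ∀ e ∈ E, e ∈ Q → g⁻¹ * e = e * g⁻¹ := by
          intro e he heQ
          have := congrArg (fun t => g⁻¹ * t * g⁻¹) (hg2 e he heQ)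
          simpa only [mul_assoc, _root_.mul_inv_cancel, _root_.mul_one, _root_.inv_mul_cancel_left] using this.symm
        refine ⟨fun q hq => ?_, hgi⟩
        have h1 := hg1 q hq
        have e1 : g⁻¹ * q * g⁻¹⁻¹ * q⁻¹ = (g⁻¹ * (g * q * g⁻¹ * q⁻¹)⁻¹) * g := by simp only [mul_assoc, _root_.inv_inv, _root_.mul_inv_rev, _root_.inv_mul_cancel, _root_.mul_one]
        rw [e1, hgi _ (E.inv_mem h1.1) (Q.inv_mem h1.2), inv_mul_cancel_right]
        exact ⟨E.inv_mem h1.1, Q.inv_mem h1.2⟩ }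
  have hKn : K.Normal := by
    constructor
    rintro g ⟨hg1, hg2⟩ k
    refine ⟨fun q hq => ?_, fun e he heQ => ?_⟩
    · have hq' : k⁻¹ * q * k ∈ Q := by simpa using hQn.conj_mem q hq k⁻¹
      have h1 := hg1 _ hq'
      have e1 : k * g * k⁻¹ * q * (k * g * k⁻¹)⁻¹ * q⁻¹
          = k * (g * (k⁻¹ * q * k) * g⁻¹ * (k⁻¹ * q * k)⁻¹) * k⁻¹ := by simp only [mul_assoc, _root_.mul_inv_rev, _root_.inv_inv, _root_.mul_inv_cancel, _root_.mul_one]
      rw [e1]
      exact ⟨hE0 _ h1.1 h1.2 k, hQn.conj_mem _ h1.2 k⟩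
    · have h1 : k⁻¹ * e * k ∈ E := by simpa using hE0 e he heQ k⁻¹
      have h2 : k⁻¹ * e * k ∈ Q := by simpa using hQn.conj_mem e heQ k⁻¹
      have h3 := hg2 _ h1 h2
      have := congrArg (fun t => k * t * k⁻¹) h3
      simpa only [mul_assoc, _root_.mul_inv_cancel, _root_.mul_one, _root_.mul_inv_cancel_left] using this
  have hK2 : IsPGroup 2 ↥K := by
    -- elements of odd order in `K` are trivial
    have hodd : ∀ x ∈ K, Odd (orderOf x) → x = 1 := by
      rintro x ⟨hx1, hx2⟩ hxo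
      have hxc : x ∈ Subgroup.centralizer (Q : Set H) := by
        rw [Subgroup.mem_centralizer_iff]
        intro q hq
        obtain ⟨he, heQ⟩ := hx1 q hq
        set e := x * q * x⁻¹ * q⁻¹ with hedef
        have hxe := hx2 e he heQ
        have hn : ∀ n : ℕ, x ^ n * q * (x ^ n)⁻¹ = e ^ n * q := by
          intro n
          induction n with
          | zero => simp
          | succ n ih =>
            have hxen : x * e ^ n * x⁻¹ = e ^ n := by
              have : Commute x (e ^ n) := Commute.pow_right hxe n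
              rw [this.eq, mul_inv_cancel_right]
            have e1 : x ^ (n + 1) * q * (x ^ (n + 1))⁻¹ = x * (x ^ n * q * (x ^ n)⁻¹) * x⁻¹ := by
              rw [pow_succ']
              simp only [mul_assoc, _root_.mul_inv_rev]
            have e2 : x * (e ^ n * q) * x⁻¹ = (x * e ^ n * x⁻¹) * (x * q * x⁻¹) := by
              simp [mul_assoc]
            have e3 : x * q * x⁻¹ = e * q := by rw [hedef]; simp [mul_assoc]
            rw [e1, ih, e2, hxen, e3, ← mul_assoc, ← pow_succ]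
        have h1 := hn (orderOf x)
        rw [pow_orderOf_eq_one] at h1
        have h2 : e ^ orderOf x = 1 := by
          have : (1 : H) * q = e ^ orderOf x * q := by simpa using h1
          exact (mul_right_cancel this).symm
        obtain ⟨k, hk⟩ := hQ2 ⟨e, heQ⟩
        have h3 : e ^ 2 ^ k = 1 := congrArg Subtype.val hk
        have h4 : orderOf e ∣ 1 := by
          have hcop : Nat.Coprime (2 ^ k) (orderOf x) := by
            apply Nat.Coprime.pow_left
            rw [Nat.coprime_two_left]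
            exact hxo
          have := Nat.dvd_gcd (orderOf_dvd_of_pow_eq_one h3) (orderOf_dvd_of_pow_eq_one h2)
          rwa [hcop] at this
        have h5 : e = 1 := orderOf_eq_one_iff.1 (Nat.dvd_one.1 h4)
        rw [hedef, mul_inv_eq_one, mul_inv_eq_iff_eq_mul] at h5
        exact h5.symm
      have hxQ : x ∈ Q := hc hxc
      obtain ⟨k, hk⟩ := hQ2 ⟨x, hxQ⟩
      have h3 : x ^ 2 ^ k = 1 := congrArg Subtype.val hk
      have hcop : Nat.Coprime (2 ^ k) (orderOf x) := by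
        apply Nat.Coprime.pow_left
        rw [Nat.coprime_two_left]
        exact hxo
      have := Nat.dvd_gcd (orderOf_dvd_of_pow_eq_one h3) (dvd_refl (orderOf x))
      rw [hcop] at this
      exact orderOf_eq_one_iff.1 (Nat.dvd_one.1 this)
    intro g
    obtain ⟨k, m, hm, hkm⟩ := Nat.exists_eq_two_pow_mul_odd (n := orderOf (g : H))
      (orderOf_pos (g : H)).ne'
    refine ⟨k, ?_⟩
    apply Subtype.ext
    refine hodd _ (K.pow_mem g.2 (2 ^ k)) ?_
    have hval : ((g ^ 2 ^ k : ↥K) : H) = (g : H) ^ 2 ^ k := rfl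
    rw [hval, orderOf_pow_of_dvd (pow_ne_zero _ two_ne_zero) (hkm ▸ Dvd.intro _ rfl), hkm,
      Nat.mul_div_cancel_left _ (by positivity)]
    exact hm
  have hKQ : K ≤ Q := Cfsg.Agent.Lib.Cores.le_pCore hKn hK2
  have hEK : E ≤ K := by
    intro e he
    refine ⟨fun q hq => ?_, fun e' he' _ => hE e he e' he'⟩
    have hqT := hQT hq
    have h1 : q * e⁻¹ * q⁻¹ ∈ E :=
      hs _ (E.inv_mem he) q (T.mul_mem (T.mul_mem hqT (T.inv_mem (hET he))) (T.inv_mem hqT))
    have e1 : e * q * e⁻¹ * q⁻¹ = e * (q * e⁻¹ * q⁻¹) := by simp [mul_assoc]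
    refine ⟨?_, Q.mul_mem (hQn.conj_mem q hq e) (Q.inv_mem hq)⟩
    rw [e1]
    exact E.mul_mem he h1
  exact ⟨fun e he g => hE0 e he (hKQ (hEK he)) g⟩

end Cfsg.Agent.TIAbelian.PairSCM
end

-- part: TIAbelian/PairMain
section
set_option autoImplicit false

namespace Cfsg.Agent.TIAbelian.PairMain

open Cfsg.Agent.TIAbelian.PairBase Cfsg.Agent.TIAbelian.PairOmega Cfsg.Agent.TIAbelian.PairGeo
open Cfsg.Agent.TIAbelian.PairLine Cfsg.Agent.TIAbelian.PairClique Cfsg.Agent.TIAbelian.PairStrong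
open Cfsg.Agent.TIAbelian.PairTwo Cfsg.Agent.TIAbelian.PairFinal Cfsg.Agent.TIAbelian.PairCard

variable {G : Type*} [Group G]

theorem mem_normalizer_iff_cj {g : G} {H : Subgroup G} :
    g ∈ Subgroup.normalizer (H : Set G) ↔ cj g H = H := by
  rw [Subgroup.mem_normalizer_iff]
  constructor
  · intro h1
    ext x
    rw [mem_cj]
    constructor
    · intro hx
      have := (h1 (g⁻¹ * x * g)).1 hx
      simpa [mul_assoc] using this
    · intro hx
      refine (h1 _).2 ?_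
      simpa [mul_assoc] using hx
  · intro h1 x
    constructor
    · intro hx
      exact conj_mem_of_cj h1 hx
    · intro hx
      have := conj_mem_of_cj' h1 (SetLike.mem_coe.1 hx)
      simpa [mul_assoc] using this

/-- Case (I) does not occur when `N_G(B₀)` is a maximal `2`-local subgroup of characteristic `2`. -/
theorem noH1 [Finite G] {P : Set (Subgroup G)} (h : Geo P) {K : Set (Subgroup G)}
    (hK : MaxClique P K) {A₁ A₂ : Subgroup G} (hA₁ : A₁ ∈ K) (hA₂ : A₂ ∈ K) (hne : A₁ ≠ A₂)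
    {B₀ : Subgroup G} (hB₀ : B₀ ∈ P)
    (hM : Cfsg.IsMaximalTwoLocal (Subgroup.normalizer (B₀ : Set G)))
    (hMc : Cfsg.IsOfCharacteristicTwo ↥(Subgroup.normalizer (B₀ : Set G))) :
    ¬ ∀ C ∈ P, ∀ c ∈ Om C, cj c (EE K) = EE K → c ∈ EE K := by
  intro H1
  have : Fact (Nat.Prime 2) := ⟨Nat.prime_two⟩
  have hE2 : IsPGroup 2 ↥(EE K) := isPGroup_of_sq (EE_sq h hK)
  obtain ⟨T, hT⟩ := hE2.exists_le_sylow
  have hKne : K.Nonempty := ⟨A₁, hA₁⟩
  have hTE := W0 h hK H1 T.2 hT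
  obtain ⟨C, hC, hTC⟩ := exists_fix_group h hK hKne T T.2 hTE
  obtain ⟨g, hg⟩ := h.trans C (hK.sub C hC) B₀ hB₀
  have hst := strong h hK H1 hKne T.2 hT
  set M := Subgroup.normalizer (B₀ : Set G) with hMdef
  have memM : ∀ {x : G}, x ∈ M ↔ cj x B₀ = B₀ := mem_normalizer_iff_cj
  -- the conjugate Sylow subgroup
  have hTM : ((g • T : Sylow 2 G) : Subgroup G) ≤ M := by
    intro x hx
    have hx' : x ∈ cj g (T : Subgroup G) := hx
    rw [mem_cj] at hx'
    rw [memM, ← hg, cj_cj]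
    have h1 := hTC _ hx'
    have h2 : x * g = g * (g⁻¹ * x * g) := by simp [mul_assoc]
    rw [h2, ← cj_cj, h1]
  have hQT : Cfsg.pCore 2 ↥M ≤ (cj g (T : Subgroup G)).subgroupOf M :=
    Cfsg.Agent.Lib.Cores.pCore_le_sylow ((g • T : Sylow 2 G).subtype hTM)
  have hT2 : IsPGroup 2 ↥((cj g (T : Subgroup G)).subgroupOf M) :=
    ((g • T : Sylow 2 G).subtype hTM).2
  have hET : (cj g (EE K)).subgroupOf M ≤ (cj g (T : Subgroup G)).subgroupOf M := by
    intro x hx
    rw [Subgroup.mem_subgroupOf] at hx ⊢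
    exact cj_le_cj hT hx
  have hEM : cj g (EE K) ≤ M := (cj_le_cj hT).trans hTM
  have hn := PairSCM.scm hMc _ _ hT2 hQT hET (by
      intro x hx y hy
      rw [Subgroup.mem_subgroupOf, mem_cj] at hx hy
      apply Subtype.ext
      have h1 := EE_comm h hK _ hx _ hy
      have h2 := congrArg (fun t => g * t * g⁻¹) h1
      simpa only [mul_assoc, _root_.Subgroup.coe_mul, _root_.mul_inv_cancel_left, _root_.mul_inv_cancel, _root_.mul_one] using h2) (by
      intro x hx m hm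
      rw [Subgroup.mem_subgroupOf, mem_cj] at hx hm ⊢
      have e1 : g⁻¹ * ((m * x * m⁻¹ : ↥M) : G) * g
          = (g⁻¹ * m * g) * (g⁻¹ * x * g) * (g⁻¹ * m * g)⁻¹ := by simp only [mul_assoc, _root_.Subgroup.coe_mul, _root_.InvMemClass.coe_inv, _root_.mul_inv_cancel_left, _root_.mul_inv_rev, _root_.inv_inv]
      rw [e1] at hm ⊢
      exact hst _ hx _ hm)
  have hME : M ≤ Subgroup.normalizer ((cj g (EE K) : Subgroup G) : Set G) := by
    have key : ∀ m ∈ M, ∀ x ∈ cj g (EE K), m * x * m⁻¹ ∈ cj g (EE K) := by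
      intro m hm x hx
      exact hn.conj_mem ⟨x, hEM hx⟩ hx ⟨m, hm⟩
    intro m hm
    rw [mem_normalizer_iff_cj]
    exact cj_eq_of_forall key hm
  have hloc : Cfsg.IsTwoLocal (Subgroup.normalizer ((cj g (EE K) : Subgroup G) : Set G)) := by
    refine ⟨cj g (EE K), isPGroup_cj hE2, ?_, rfl⟩
    intro h0
    obtain ⟨v, hv, hv1⟩ := exists_ne_Om h (hK.sub _ hA₁)
    have h1 : g * v * g⁻¹ ∈ cj g (EE K) := conj_mem_cj (mem_EE hA₁ hv)
    rw [h0, Subgroup.mem_bot] at h1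
    apply hv1
    have := congrArg (fun t => g⁻¹ * t * g) h1
    simpa [mul_assoc] using this
  have heq := hM.2 _ hloc hME
  -- a member different from `C`
  obtain ⟨A, hA, hAC⟩ : ∃ A ∈ K, A ≠ C := by
    by_cases h1 : A₁ = C
    · exact ⟨A₂, hA₂, fun h2 => hne (h1.trans h2.symm)⟩
    · exact ⟨A₁, hA₁, h1⟩
  obtain ⟨a, ha, haa⟩ := h.nonelem A (hK.sub A hA)
  have h1 : g * a * g⁻¹ ∈ M := by
    rw [← heq, mem_normalizer_iff_cj, cj_cj]
    have : g * a * g⁻¹ * g = g * a := by simp [mul_assoc]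
    rw [this, ← cj_cj, conj_EE h hK hA ha]
  rw [memM, ← hg, cj_cj] at h1
  have h2 : g * a * g⁻¹ * g = g * a := by simp [mul_assoc]
  rw [h2, ← cj_cj] at h1
  have h3 := cj_inj h1
  exact haa ((h.norm_iff C (hK.sub C hC) A (hK.sub A hA) (hK.col C hC A hA (Ne.symm hAC)) a ha).1 h3)

/-- Main theorem of the pair analysis. -/
theorem main [Finite G] {P : Set (Subgroup G)} (h : TIFam P) (hex : ∃ A ∈ P, ∃ B ∈ P, Col A B)
    {B₀ : Subgroup G} (hB₀ : B₀ ∈ P)
    (hM : Cfsg.IsMaximalTwoLocal (Subgroup.normalizer (B₀ : Set G)))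
    (hMc : Cfsg.IsOfCharacteristicTwo ↥(Subgroup.normalizer (B₀ : Set G))) :
    Geo P ∧ (∃ A B C, TwoLines P A B C) ∧ ∀ B ∈ P, (Om B).ncard = 4 ∧ Nat.card ↥B = 16 ∧
      Nonempty (↥B ≃* Multiplicative (ZMod 4) × Multiplicative (ZMod 4)) := by
  have hg : Geo P := geo_of_col h hex
  obtain ⟨A, hA, A', hA', hc⟩ := hex
  obtain ⟨K, hK, hAK, hAK'⟩ := exists_maxClique hA hA' hc
  have h1 := noH1 hg hK hAK hAK' hc.1 hB₀ hM hMc
  push Not at h1
  obtain ⟨C, hC, c, hc, hcE, hcn⟩ := h1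
  obtain ⟨A₁, _, B₁, _, C₁, T⟩ := exists_twoLines hg hK ⟨A, hAK⟩ ⟨C, hC, c, hc, hcE, hcn⟩
  have hcard := card_B hg T
  refine ⟨hg, ⟨A₁, B₁, C₁, T⟩, ?_⟩
  intro B hB
  obtain ⟨g, rfl⟩ := h.trans B₁ T.hB B hB
  have e : ↥B₁ ≃* ↥(cj g B₁) := B₁.equivMapOfInjective _ (MulAut.conj g).injective
  refine ⟨?_, ?_, ?_⟩
  · rw [← ncard_Om hg T.hB hB]
    exact hcard.1
  · rw [← hcard.2.1]
    exact (Nat.card_congr e.toEquiv).symm
  · exact hcard.2.2.map (fun f => e.symm.trans f)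

end Cfsg.Agent.TIAbelian.PairMain
end

-- part: TIAbelian/PairInst
section
set_option autoImplicit false

namespace Cfsg.Agent.TIAbelian.PairInst

open Cfsg.Agent.TIAbelian.PairBase Cfsg.Agent.TIAbelian.PairOmega Cfsg.Agent.TIAbelian.PairGeo
open Cfsg.Agent.TIAbelian.CaseBBase (Fam Nc Nb)
open Cfsg.Agent.TIAbelian.PairMain (mem_normalizer_iff_cj)

variable {G : Type*} [Group G]

/-- the class of `B` -/
def Cls (B : Subgroup G) : Set (Subgroup G) := {C | ∃ g : G, cj g B = C}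

theorem self_mem_Cls (B : Subgroup G) : B ∈ Cls B := ⟨1, cj_one B⟩

theorem fam_of [Finite G] {B : Subgroup G} (hc : ∀ x ∈ B, ∀ y ∈ B, x * y = y * x)
    (h2 : IsPGroup 2 ↥B) (hti : ∀ g : G, cj g B = B ∨ cj g B ⊓ B = ⊥) (hcyc : ¬ IsCyclic ↥B)
    (hel : ∃ c ∈ B, c * c ≠ 1) : Fam (Cls B) := by
  refine ⟨?_, ?_, ?_, ?_, ?_, ?_, ?_⟩
  · rintro _ ⟨k, rfl⟩ g
    exact ⟨g * k, (cj_cj g k B).symm⟩
  · rintro _ ⟨k, rfl⟩ _ ⟨l, rfl⟩
    exact ⟨l * k⁻¹, by rw [cj_cj, inv_mul_cancel_right]⟩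
  · rintro _ ⟨k, rfl⟩ x hx y hy
    rw [mem_cj] at hx hy
    have := congrArg (fun t => k * t * k⁻¹) (hc _ hx _ hy)
    simpa only [mul_assoc, _root_.mul_inv_cancel_left, _root_.mul_inv_cancel, _root_.mul_one] using this
  · rintro _ ⟨k, rfl⟩ x hx
    rw [mem_cj] at hx
    obtain ⟨n, hn⟩ := h2 ⟨_, hx⟩
    refine ⟨n, ?_⟩
    have h3 : (k⁻¹ * x * k) ^ 2 ^ n = 1 := congrArg Subtype.val hn
    have h4 : (k⁻¹ * x * k⁻¹⁻¹) ^ 2 ^ n = k⁻¹ * x ^ 2 ^ n * k⁻¹⁻¹ := conj_pow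
    rw [inv_inv, h3] at h4
    have := congrArg (fun t => k * t * k⁻¹) h4
    simpa [mul_assoc] using this.symm
  · rintro _ ⟨k, rfl⟩ _ ⟨l, rfl⟩ x hx hx' hx1
    rw [mem_cj] at hx hx'
    have h1 : cj (l⁻¹ * k) B = B := by
      rcases hti (l⁻¹ * k) with h1 | h1
      · exact h1
      · exfalso
        apply hx1
        have h3 : l⁻¹ * x * l ∈ cj (l⁻¹ * k) B ⊓ B := by
          refine Subgroup.mem_inf.2 ⟨?_, hx'⟩
          rw [mem_cj]
          simpa only [mul_assoc, _root_.mul_inv_rev, _root_.inv_inv, _root_.mul_inv_cancel_left] using hx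
        rw [h1, Subgroup.mem_bot] at h3
        have := congrArg (fun t => l * t * l⁻¹) h3
        simpa [mul_assoc] using this
    rw [← cj_cj] at h1
    have h2 : cj l (cj l⁻¹ (cj k B)) = cj l B := by rw [h1]
    rwa [cj_cj_inv] at h2
  · have key : ∀ z : G, ∃ e ∈ B, e ≠ 1 ∧ e * e = 1 ∧ e ≠ z := by
      intro z
      by_contra hcon
      push Not at hcon
      apply hcyc
      obtain ⟨a, -, ha⟩ := Involutions.NormalFour.exists_generator h2 (⊤ : Subgroup ↥B)
        (fun a _ b _ => Subtype.ext (hc a a.2 b b.2)) (by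
          intro x _ y _ hx hy
          have hz : ∀ u : ↥B, orderOf u = 2 → (u : G) = z := by
            intro u hu
            rw [orderOf_eq_prime_iff] at hu
            refine hcon u u.2 (fun h0 => hu.2 (Subtype.ext h0)) ?_
            have := congrArg Subtype.val hu.1
            rwa [pow_two] at this
          exact Subtype.ext ((hz x hx).trans (hz y hy).symm))
      exact ⟨a, fun x => ha x (Subgroup.mem_top x)⟩
    rintro _ ⟨k, rfl⟩ z
    obtain ⟨e, he, he1, hee, hez⟩ := key (k⁻¹ * z * k)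
    refine ⟨k * e * k⁻¹, conj_mem_cj he, ?_, ?_, ?_⟩
    · intro h0
      apply he1
      have := congrArg (fun t => k⁻¹ * t * k) h0
      simpa [mul_assoc] using this
    · have : k * e * k⁻¹ * (k * e * k⁻¹) = k * (e * e) * k⁻¹ := by simp [mul_assoc]
      rw [this, hee]
      simp
    · intro h0
      apply hez
      rw [← h0]
      simp [mul_assoc]
  · rintro _ ⟨k, rfl⟩
    obtain ⟨c, hcB, hcc⟩ := hel
    refine ⟨k * c * k⁻¹, conj_mem_cj hcB, ?_⟩
    intro h0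
    apply hcc
    have := congrArg (fun t => k⁻¹ * t * k) h0
    simpa only [mul_assoc, _root_.inv_mul_cancel_left, _root_.inv_mul_cancel, _root_.mul_one] using this

theorem tifam_of_fam {P : Set (Subgroup G)} (h : Fam P)
    (hw : ∀ C ∈ P, ∀ D ∈ P, (∀ c ∈ C, ∀ d ∈ D, c * d = d * c) → C = D) : TIFam P :=
  ⟨h.conj, h.trans, h.comm, h.two, h.ti, h.noncyc, h.nonelem, hw⟩

section

variable {P : Set (Subgroup G)} (h : TIFam P)
include h

/-- A member inside the normaliser of `B` is `B`. -/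
theorem eq_of_le_norm {A B : Subgroup G} (hA : A ∈ P) (hB : B ∈ P) (hn : ∀ a ∈ A, cj a B = B) :
    A = B := by
  by_contra hne
  obtain ⟨a, ha, han⟩ := h.not_all_norm hB hA (Ne.symm hne)
  exact han ⟨ha, hn a ha⟩

/-- If a nontrivial element of `A ≠ B` normalises `B`, then `A` and `B` are collinear. -/
theorem col_of_norm {A B : Subgroup G} (hA : A ∈ P) (hB : B ∈ P) (hne : A ≠ B) {t : G}
    (ht : t ∈ A) (ht1 : t ≠ 1) (htB : cj t B = B) : Col A B := by
  have tt : t * t = 1 := h.stageA hA hB hne ⟨ht, htB⟩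
  obtain ⟨v, hv, hv1, hvv, -⟩ := h.noncyc B hB 1
  have hw : t * v * t⁻¹ ∈ B := conj_mem_of_cj htB hv
  by_cases h0 : t * v * t⁻¹ = v
  · exact Geo.col_of_comm hne ht ht1 hv hv1 (eq_comm_iff.2 h0)
  · refine Geo.col_of_comm hne ht ht1 (B.mul_mem hv hw) ?_ (?_ : t * (v * (t * v * t⁻¹)) = _)
    · intro h3
      apply h0
      exact mul_left_cancel (h3.trans hvv.symm)
    · rw [eq_comm_iff]
      have h3 : t * (v * (t * v * t⁻¹)) * t⁻¹ = (t * v * t⁻¹) * ((t * t) * v * (t * t)⁻¹) := by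
        simp only [mul_assoc, _root_.mul_inv_rev, _root_.inv_mul_cancel_left]
      rw [h3, tt]
      simp only [one_mul, inv_one, mul_one]
      exact h.comm B hB _ hw _ hv

/-- No collinear pair: every member is isolated. -/
theorem isolated {B : Subgroup G} (hB : B ∈ P) (hno : ¬ ∃ A ∈ P, ∃ B ∈ P, Col A B) :
    ∀ g : G, ∀ a ∈ B, a ≠ 1 → g * a * g⁻¹ ∈ Subgroup.normalizer (B : Set G) →
      g ∈ Subgroup.normalizer (B : Set G) := by
  intro g a ha ha1 hn
  rw [mem_normalizer_iff_cj] at hn ⊢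
  by_contra hne
  apply hno
  refine ⟨cj g B, h.conj B hB g, B, hB, ?_⟩
  refine col_of_norm h (h.conj B hB g) hB hne (conj_mem_cj ha) ?_ hn
  intro h0
  apply ha1
  have := congrArg (fun t => g⁻¹ * t * g) h0
  simpa [mul_assoc] using this

end

end Cfsg.Agent.TIAbelian.PairInst
end

private theorem dce_91070f7cee85 : _root_.True := by
  try have : _root_.True := by simp only [_root_.Cfsg.Agent.TIAbelian.PairClique.EE.eq_1]
  exact _root_.True.intro
end

section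
prune_inst 0xf0bcfb8ff8addedfff7e7ffffddffc39d4dfffffdffb4bffecebffbfff230a3be5fbaf9de0d8ff4ed7e29430b87853f97ec23fea6bdc7ffffd5ff45ffbee0ff5f7bd8851d698340fbc2fff63f07fce7f000000000000000000000000000000004200000000

-- part: TIAbelian/IsolatedCount_mg
section
prune_inst 0xc4200200512212000000000000002000000000000040000111400400000e54000000000040000812000020000000000811cc00500000000000000000000100208020500092080104040009803003180c00000000000000000000000000041000000000000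
set_option linter.all false
open scoped Cfsg.Agent.FastGrp

-- part: TIAbelian/IsolatedBasic
section
/-!
# Isolated abelian 2-subgroups

`Iso A`: `A` is a commutative 2-subgroup with at least two involutions and an element of order 4 such
that a conjugate `g A g⁻¹` meets `M = N_G(A)` nontrivially only if `g ∈ M`. Basic facts, and the
reduction to the case that `G` is simple.
-/

set_option autoImplicit false

namespace Cfsg.Agent.TIAbelian.IsolatedBasic

open Subgroup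
open scoped commutatorElement
open Cfsg.Agent.TwoFusion.StronglyEmbeddedBasic

universe u

/-- an isolated abelian 2-subgroup which is neither cyclic nor elementary abelian -/
structure Iso {G : Type*} [Group G] (A : Subgroup G) : Prop where
  comm : ∀ a ∈ A, ∀ b ∈ A, a * b = b * a
  two : IsPGroup 2 A
  iso : ∀ g : G, ∀ a ∈ A, a ≠ 1 → g * a * g⁻¹ ∈ normalizer (A : Set G) → g ∈ normalizer (A : Set G)
  invs : ∃ z ∈ A, ∃ w ∈ A, orderOf z = 2 ∧ orderOf w = 2 ∧ z ≠ w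
  four : ∃ a ∈ A, orderOf a = 4

section Dihedral

variable {G : Type*} [Group G]

/-- If the product of two involutions has even order, there is an involution `v` commuting with both
such that `a * v` is conjugate to `a` or to `b`. -/
theorem exists_commuting_conj {a b : G} (ha : orderOf a = 2) (hb : orderOf b = 2)
    (hpos : 0 < orderOf (a * b)) (hab : ¬ Odd (orderOf (a * b))) :
    ∃ v : G, orderOf v = 2 ∧ Commute v a ∧ Commute v b ∧
      ∃ h : G, h * a * h⁻¹ = a * v ∨ h * b * h⁻¹ = a * v := by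
  rw [Nat.not_odd_iff_even] at hab
  obtain ⟨k, hk⟩ := hab
  have ha2 := mul_self_of_orderOf ha
  have hb2 := mul_self_of_orderOf hb
  have hai := inv_eq_self_of_orderOf ha
  have hbi := inv_eq_self_of_orderOf hb
  set w := a * b with hw
  have hwi : w⁻¹ = b * a := by rw [hw, mul_inv_rev, hai, hbi]
  have hkpos : 0 < k := by omega
  have hzz : w ^ k * w ^ k = 1 := by rw [← pow_add, ← hk]; exact pow_orderOf_eq_one w
  have hz1 : w ^ k ≠ 1 := by
    intro h
    have := orderOf_dvd_of_pow_eq_one h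
    have := Nat.le_of_dvd hkpos this
    omega
  have hzi : (w ^ k)⁻¹ = w ^ k := inv_eq_of_mul_eq_one_right hzz
  have hsa : SemiconjBy a w w⁻¹ := by
    show a * w = w⁻¹ * a
    rw [hwi, hw, ← mul_assoc, ha2, mul_assoc, ha2]; simp
  have hsb : SemiconjBy b w w⁻¹ := by
    show b * w = w⁻¹ * b
    rw [hwi, hw, mul_assoc]
  refine ⟨w ^ k, orderOf_eq_two_of_mul_self hzz hz1, ?_, ?_, ?_⟩
  · have := (hsa.pow_right k).eq
    rw [inv_pow, hzi] at this
    exact this.symm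
  · have := (hsb.pow_right k).eq
    rw [inv_pow, hzi] at this
    exact this.symm
  · have hj : ∀ j : ℕ, a * w ^ j = (w ^ j)⁻¹ * a := by
      intro j
      have := (hsa.pow_right j).eq
      rwa [inv_pow] at this
    have hawb : a * w = b := by rw [hw, ← mul_assoc, ha2, one_mul]
    rcases Nat.even_or_odd k with ⟨j, hj2⟩ | ⟨j, hj2⟩
    · refine ⟨(w ^ j)⁻¹, Or.inl ?_⟩
      rw [inv_inv, ← hj j, mul_assoc, ← pow_add, hj2]
    · refine ⟨(w ^ j)⁻¹, Or.inr ?_⟩
      rw [inv_inv, ← hawb]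
      calc (w ^ j)⁻¹ * (a * w) * w ^ j = ((w ^ j)⁻¹ * a) * (w * w ^ j) := by group
        _ = (a * w ^ j) * (w * w ^ j) := by rw [hj]
        _ = a * w ^ k := by rw [hj2, mul_assoc, ← pow_succ', ← pow_add]; congr 2; ring

end Dihedral

section

variable {G : Type*} [Group G] {A : Subgroup G}

theorem conj_mem {x a : G} (hx : x ∈ normalizer (A : Set G)) (ha : a ∈ A) : x * a * x⁻¹ ∈ A :=
  (mem_normalizer_iff.mp hx a).mp ha

theorem Iso.le (_ : Iso A) : A ≤ normalizer (A : Set G) := le_normalizer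

theorem Iso.mem_of_commute (h : Iso A) {a c : G} (ha : a ∈ A) (h1 : a ≠ 1) (hc : c * a = a * c) :
    c ∈ normalizer (A : Set G) := by
  refine h.iso c a ha h1 ?_
  rw [hc, mul_inv_cancel_right]
  exact le_normalizer ha

theorem ne_one_of_orderOf {a : G} (ha : orderOf a = 2) : a ≠ 1 := by
  rintro rfl; simp at ha

/-- Conjugates of isolated subgroups are isolated. -/
theorem mem_normalizer_conj {g x : G} :
    x ∈ normalizer ((A.map (MulAut.conj g).toMonoidHom : Subgroup G) : Set G) ↔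
      g⁻¹ * x * g ∈ normalizer (A : Set G) := by
  have hmem : ∀ y : G, y ∈ A.map (MulAut.conj g).toMonoidHom ↔ g⁻¹ * y * g ∈ A := by
    intro y
    constructor
    · rintro ⟨a, ha, rfl⟩
      have : g⁻¹ * ((MulAut.conj g).toMonoidHom a) * g = a := by
        show g⁻¹ * (g * a * g⁻¹) * g = a
        group
      rw [this]; exact ha
    · intro hy
      refine ⟨_, hy, ?_⟩
      show g * (g⁻¹ * y * g) * g⁻¹ = y
      group
  rw [mem_normalizer_iff, mem_normalizer_iff]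
  constructor
  · intro h y
    have h1 := h (g * y * g⁻¹)
    rw [hmem, hmem] at h1
    have e1 : g⁻¹ * (g * y * g⁻¹) * g = y := by group
    have e2 : g⁻¹ * (x * (g * y * g⁻¹) * x⁻¹) * g = g⁻¹ * x * g * y * (g⁻¹ * x * g)⁻¹ := by group
    rw [e1, e2] at h1
    exact h1
  · intro h y
    have h1 := h (g⁻¹ * y * g)
    rw [hmem, hmem]
    have e2 : g⁻¹ * x * g * (g⁻¹ * y * g) * (g⁻¹ * x * g)⁻¹ = g⁻¹ * (x * y * x⁻¹) * g := by group
    rw [e2] at h1
    exact h1

theorem Iso.conj (h : Iso A) (g : G) : Iso (A.map (MulAut.conj g).toMonoidHom) where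
  comm := by
    rintro _ ⟨a, ha, rfl⟩ _ ⟨b, hb, rfl⟩
    rw [← map_mul, h.comm a ha b hb, map_mul]
  two := h.two.map _
  iso := by
    rintro x _ ⟨a, ha, rfl⟩ ha1 hx
    rw [mem_normalizer_conj] at hx ⊢
    refine h.iso (g⁻¹ * x * g) a ha ?_ ?_
    · rintro rfl; exact ha1 (map_one _)
    · have : g⁻¹ * (x * (MulAut.conj g).toMonoidHom a * x⁻¹) * g =
          g⁻¹ * x * g * a * (g⁻¹ * x * g)⁻¹ := by
        show g⁻¹ * (x * (g * a * g⁻¹) * x⁻¹) * g = _
        group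
      rwa [this] at hx
  invs := by
    obtain ⟨z, hz, w, hw, hz2, hw2, hzw⟩ := h.invs
    exact ⟨_, ⟨z, hz, rfl⟩, _, ⟨w, hw, rfl⟩, (orderOf_conj g z).trans hz2,
      (orderOf_conj g w).trans hw2, fun e => hzw ((MulAut.conj g).injective e)⟩
  four := by
    obtain ⟨a, ha, ha4⟩ := h.four
    exact ⟨_, ⟨a, ha, rfl⟩, (orderOf_conj g a).trans ha4⟩

theorem Iso.odd_mul [Finite G] (h : Iso A) {z v g : G} (hz : z ∈ A) (hz2 : orderOf z = 2)
    (hv : v ∈ A) (hv2 : orderOf v = 2) (hg : g ∉ normalizer (A : Set G)) :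
    Odd (orderOf (z * (g * v * g⁻¹))) := by
  by_contra hodd
  have hw2 : orderOf (g * v * g⁻¹) = 2 := (orderOf_conj g v).trans hv2
  obtain ⟨u, hu2, huz, huw, k, hk⟩ := exists_commuting_conj hz2 hw2 (orderOf_pos _) hodd
  have hz1 := ne_one_of_orderOf hz2
  have hv1 := ne_one_of_orderOf hv2
  have hu1 := ne_one_of_orderOf hu2
  have huM : u ∈ normalizer (A : Set G) := h.mem_of_commute hz hz1 huz.eq
  have hzuM : z * u ∈ normalizer (A : Set G) := mul_mem (le_normalizer hz) huM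
  have hzuA : z * u ∈ A := by
    rcases hk with hk | hk
    · have hkM : k ∈ normalizer (A : Set G) := h.iso k z hz hz1 (by rw [hk]; exact hzuM)
      rw [← hk]; exact conj_mem hkM hz
    · have e : k * g * v * (k * g)⁻¹ = z * u := by rw [← hk]; group
      have hkM : k * g ∈ normalizer (A : Set G) := h.iso (k * g) v hv hv1 (by rw [e]; exact hzuM)
      rw [← e]; exact conj_mem hkM hv
  have huA : u ∈ A := by
    have := mul_mem (inv_mem hz) hzuA
    rwa [inv_mul_cancel_left] at this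
  -- `u` commutes with `g v g⁻¹`
  have h1 : (g⁻¹ * u * g) * v = v * (g⁻¹ * u * g) := by
    have := huw.eq
    calc (g⁻¹ * u * g) * v = g⁻¹ * (u * (g * v * g⁻¹)) * g := by group
      _ = g⁻¹ * ((g * v * g⁻¹) * u) * g := by rw [this]
      _ = v * (g⁻¹ * u * g) := by group
  have h2 : g⁻¹ * u * g⁻¹⁻¹ ∈ normalizer (A : Set G) := by
    rw [inv_inv]
    exact h.mem_of_commute hv hv1 h1
  have h3 := h.iso g⁻¹ u huA hu1 h2
  exact hg (by simpa using inv_mem h3)

/-- The normalizer is transitive on the involutions of `A`. -/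
theorem Iso.exists_conj [Finite G] (h : Iso A) (hM : normalizer (A : Set G) ≠ ⊤) {z w : G}
    (hz : z ∈ A) (hz2 : orderOf z = 2) (hw : w ∈ A) (hw2 : orderOf w = 2) :
    ∃ m ∈ normalizer (A : Set G), m * z * m⁻¹ = w := by
  obtain ⟨g, hg⟩ : ∃ g, g ∉ normalizer (A : Set G) := by
    by_contra hcon
    push Not at hcon
    exact hM ((Subgroup.eq_top_iff' _).mpr hcon)
  have hv2 : orderOf (g * z * g⁻¹) = 2 := (orderOf_conj g z).trans hz2
  obtain ⟨j, -, -, hj, -⟩ := exists_swap z (g * z * g⁻¹) hz2 hv2 (h.odd_mul hz hz2 hz hz2 hg)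
  obtain ⟨k, -, -, hk, -⟩ := exists_swap w (g * z * g⁻¹) hw2 hv2 (h.odd_mul hw hw2 hz hz2 hg)
  have e : (k⁻¹ * j) * z * (k⁻¹ * j)⁻¹ = w := by
    calc (k⁻¹ * j) * z * (k⁻¹ * j)⁻¹ = k⁻¹ * (j * z * j⁻¹) * k := by group
      _ = k⁻¹ * (k * w * k⁻¹) * k := by rw [hj, hk]
      _ = w := by group
  exact ⟨k⁻¹ * j, h.iso _ z hz (ne_one_of_orderOf hz2) (by rw [e]; exact le_normalizer hw), e⟩

/-- Every involution of `A` lies in the commutator subgroup. -/
theorem Iso.mem_commutator [Finite G] (h : Iso A) (hM : normalizer (A : Set G) ≠ ⊤) {e : G}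
    (he : e ∈ A) (he2 : orderOf e = 2) : e ∈ commutator G := by
  obtain ⟨z, hz, w, hw, hz2, hw2, hzw⟩ := h.invs
  obtain ⟨y, hy, hy2, hye⟩ : ∃ y ∈ A, orderOf y = 2 ∧ y ≠ e := by
    rcases eq_or_ne z e with rfl | hne
    · exact ⟨w, hw, hw2, hzw.symm⟩
    · exact ⟨z, hz, hz2, hne⟩
  have hyy := mul_self_of_orderOf hy2
  have hee := mul_self_of_orderOf he2
  have hx2 : orderOf (y * e) = 2 := by
    refine orderOf_eq_two_of_mul_self ?_ ?_
    · calc y * e * (y * e) = y * (e * y) * e := by group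
        _ = y * (y * e) * e := by rw [h.comm e he y hy]
        _ = (y * y) * (e * e) := by group
        _ = 1 := by rw [hyy, hee, one_mul]
    · intro h1
      apply hye
      have : y = e⁻¹ := eq_inv_of_mul_eq_one_left h1
      rw [this, inv_eq_self_of_orderOf he2]
  obtain ⟨m, -, hm⟩ := h.exists_conj hM hy hy2 (mul_mem hy he) hx2
  have : e = y⁻¹ * (m * y * m⁻¹) := by rw [hm, inv_mul_cancel_left]
  rw [this]
  have h2 : y⁻¹ * (m * y * m⁻¹) = ⁅y⁻¹, m⁆ := by
    rw [commutatorElement_def, inv_inv]; group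
  rw [h2, _root_.commutator_def]
  exact commutator_mem_commutator (mem_top _) (mem_top _)

/-- If `m ∈ M` centralizes `A` modulo elements of order 2 then it centralizes the involutions. -/
theorem Iso.commute_of_sq [Finite G] (h : Iso A) (hM : normalizer (A : Set G) ≠ ⊤) {x : G}
    (hx : ∀ a ∈ A, (x * a * x⁻¹ * a⁻¹) * (x * a * x⁻¹ * a⁻¹) = 1)
    (hxM : x ∈ normalizer (A : Set G)) {e : G} (he : e ∈ A) (he2 : orderOf e = 2) :
    x * e * x⁻¹ = e := by
  obtain ⟨a, ha, ha4⟩ := h.four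
  have hsq : orderOf (a * a) = 2 := by
    have := orderOf_pow_of_dvd (x := a) (n := 2) (by norm_num) (by rw [ha4]; norm_num)
    rw [ha4, pow_two] at this
    exact this
  obtain ⟨m, hm, hme⟩ := h.exists_conj hM (mul_mem ha ha) hsq he he2
  set b := m * a * m⁻¹ with hb
  have hbA : b ∈ A := conj_mem hm ha
  have hbe : b * b = e := by rw [← hme, hb]; group
  have h1 := hx b hbA
  set c := x * b * x⁻¹ * b⁻¹ with hc
  have hcA : c ∈ A := mul_mem (conj_mem hxM hbA) (inv_mem hbA)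
  have h2 : x * b * x⁻¹ = c * b := by rw [hc]; group
  calc x * e * x⁻¹ = (x * b * x⁻¹) * (x * b * x⁻¹) := by rw [← hbe]; group
    _ = c * (b * c) * b := by rw [h2]; group
    _ = c * (c * b) * b := by rw [h.comm b hbA c hcA]
    _ = (c * c) * (b * b) := by group
    _ = e := by rw [h1, one_mul, hbe]

/-- The hypothesis coming from a minimal counterexample. -/
def Prop' (A : Subgroup G) : Prop :=
  ∀ X : Subgroup G, X ≠ ⊤ → (∃ z ∈ A, ∃ w ∈ A, orderOf z = 2 ∧ orderOf w = 2 ∧ z ≠ w ∧ z ∈ X ∧ w ∈ X) →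
    (∃ a ∈ A, orderOf a = 4 ∧ a ∈ X) → X ≤ normalizer (A : Set G)

theorem Prop'.le (hP : Prop' A) (h : Iso A) {X : Subgroup G} (hX : X ≠ ⊤) (hAX : A ≤ X) :
    X ≤ normalizer (A : Set G) := by
  obtain ⟨z, hz, w, hw, hz2, hw2, hzw⟩ := h.invs
  obtain ⟨a, ha, ha4⟩ := h.four
  exact hP X hX ⟨z, hz, w, hw, hz2, hw2, hzw, hAX hz, hAX hw⟩ ⟨a, ha, ha4, hAX ha⟩

/-- Proper normal subgroups lie in the normalizer of `A`. -/
theorem Iso.normal_le [Finite G] (h : Iso A) (hM : normalizer (A : Set G) ≠ ⊤) (hP : Prop' A)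
    (N : Subgroup G) [hN : N.Normal] (hNtop : N ≠ ⊤) : N ≤ normalizer (A : Set G) := by
  by_cases hNA : N ⊔ A = ⊤
  · -- the commutator subgroup lies in `N`
    have hcomm : commutator G ≤ N := by
      rw [_root_.commutator_def, commutator_le]
      intro x _ y _
      obtain ⟨n, hn, a, ha, rfl⟩ := mem_sup_of_normal_left.mp
        (show x ∈ N ⊔ A by rw [hNA]; exact mem_top _)
      obtain ⟨n', hn', a', ha', rfl⟩ := mem_sup_of_normal_left.mp
        (show y ∈ N ⊔ A by rw [hNA]; exact mem_top _)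
      rw [← QuotientGroup.eq_one_iff, ← QuotientGroup.mk'_apply N, map_commutatorElement, map_mul, map_mul]
      have e1 : (QuotientGroup.mk' N) n = 1 := by
        rw [QuotientGroup.mk'_apply]; exact (QuotientGroup.eq_one_iff n).mpr hn
      have e2 : (QuotientGroup.mk' N) n' = 1 := by
        rw [QuotientGroup.mk'_apply]; exact (QuotientGroup.eq_one_iff n').mpr hn'
      rw [e1, e2, one_mul, one_mul, ← map_commutatorElement, commutatorElement_def, h.comm a ha a' ha']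
      simp
    have hinv : ∀ e ∈ A, orderOf e = 2 → e ∈ N := fun e he he2 => hcomm (h.mem_commutator hM he he2)
    obtain ⟨z, hz, w, hw, hz2, hw2, hzw⟩ := h.invs
    refine hP N hNtop ⟨z, hz, w, hw, hz2, hw2, hzw, hinv z hz hz2, hinv w hw hw2⟩ ?_
    by_contra hno
    push Not at hno
    -- all elements of `N ∩ A` have order dividing 2
    have hex : ∀ b ∈ A, b ∈ N → b * b = 1 := by
      intro b hb hbN
      by_contra hbb
      obtain ⟨k, hk⟩ := h.two ⟨b, hb⟩
      have hk' : b ^ 2 ^ k = 1 := congrArg Subtype.val hk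
      obtain ⟨j, hj⟩ := (Nat.dvd_prime_pow Nat.prime_two).mp (orderOf_dvd_of_pow_eq_one hk')
      have hj2 : 2 ≤ j := by
        by_contra hlt
        apply hbb
        have : orderOf b ∣ 2 := by
          rw [hj.2]
          calc 2 ^ j ∣ 2 ^ 1 := pow_dvd_pow 2 (by omega)
            _ = 2 := by norm_num
        have h3 := orderOf_dvd_iff_pow_eq_one.mp this
        rwa [pow_two] at h3
      have h4 : orderOf (b ^ 2 ^ (j - 2)) = 4 := by
        rw [orderOf_pow_of_dvd (by positivity) (by rw [hj.2]; exact pow_dvd_pow 2 (by omega)), hj.2,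
          Nat.pow_div (by omega) (by norm_num)]
        have : j - (j - 2) = 2 := by omega
        rw [this]
      exact hno _ (pow_mem hb _) h4 (pow_mem hbN _)
    obtain ⟨m, hm, hmz⟩ := h.exists_conj hM hz hz2 hw hw2
    have h1 := h.commute_of_sq hM (x := m) (fun a ha => by
      refine hex _ (mul_mem (conj_mem hm ha) (inv_mem ha)) (hcomm ?_)
      have : m * a * m⁻¹ * a⁻¹ = ⁅m, a⁆ := by rw [commutatorElement_def]
      rw [this, _root_.commutator_def]
      exact commutator_mem_commutator (mem_top _) (mem_top _)) hm hz hz2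
    exact hzw (by rw [← h1, hmz])
  · exact le_sup_left.trans (hP.le h hNA le_sup_right)

theorem Iso.normal_inf [Finite G] (h : Iso A) (hM : normalizer (A : Set G) ≠ ⊤) (hP : Prop' A)
    (N : Subgroup G) [hN : N.Normal] (hNtop : N ≠ ⊤) {a : G} (ha : a ∈ A) (haN : a ∈ N) : a = 1 := by
  by_contra ha1
  apply hM
  rw [Subgroup.eq_top_iff']
  intro g
  exact h.iso g a ha ha1 (h.normal_le hM hP N hNtop (hN.conj_mem a haN g))

/-- Proper normal subgroups are central. -/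
theorem Iso.normal_le_center [Finite G] (h : Iso A) (hM : normalizer (A : Set G) ≠ ⊤) (hP : Prop' A)
    (N : Subgroup G) [hN : N.Normal] (hNtop : N ≠ ⊤) : N ≤ center G := by
  have hNM := h.normal_le hM hP N hNtop
  have hAC : A ≤ centralizer (N : Set G) := by
    intro a ha
    rw [mem_centralizer_iff]
    intro n hn
    have h1 : n * a * n⁻¹ * a⁻¹ ∈ A := mul_mem (conj_mem (hNM hn) ha) (inv_mem ha)
    have h2 : n * a * n⁻¹ * a⁻¹ ∈ N := by
      have : n * a * n⁻¹ * a⁻¹ = n * (a * n⁻¹ * a⁻¹) := by group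
      rw [this]
      exact mul_mem hn (hN.conj_mem _ (inv_mem hn) a)
    have h3 := h.normal_inf hM hP N hNtop h1 h2
    have h4 : n * a * n⁻¹ = a := by rwa [mul_inv_eq_one] at h3
    rw [mul_inv_eq_iff_eq_mul] at h4
    exact h4
  have hCtop : centralizer (N : Set G) = ⊤ := by
    by_contra hC
    obtain ⟨z, hz, -, -, hz2, -, -⟩ := h.invs
    exact ne_one_of_orderOf hz2 (h.normal_inf hM hP (centralizer (N : Set G)) hC hz (hAC hz))
  intro n hn
  rw [mem_center_iff]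
  intro g
  have : g ∈ centralizer (N : Set G) := by rw [hCtop]; exact mem_top _
  exact (mem_centralizer_iff.mp this n hn).symm

theorem Iso.inf_center (h : Iso A) (hM : normalizer (A : Set G) ≠ ⊤) {a : G} (ha : a ∈ A)
    (haZ : a ∈ center G) : a = 1 := by
  by_contra ha1
  apply hM
  rw [Subgroup.eq_top_iff']
  intro g
  exact h.mem_of_commute ha ha1 (mem_center_iff.mp haZ g)

/-- Passing to `G / Z(G)`. -/
theorem Iso.map_center (h : Iso A) (hM : normalizer (A : Set G) ≠ ⊤) :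
    Iso (A.map (QuotientGroup.mk' (center G))) ∧
      ∀ x : G, QuotientGroup.mk' (center G) x ∈
        normalizer ((A.map (QuotientGroup.mk' (center G)) : Subgroup (G ⧸ center G)) : Set (G ⧸ center G)) ↔
        x ∈ normalizer (A : Set G) := by
  set π := QuotientGroup.mk' (center G) with hπ
  have hinj : ∀ a ∈ A, ∀ b ∈ A, π a = π b → a = b := by
    intro a ha b hb hab
    have h1 : a⁻¹ * b ∈ center G := QuotientGroup.eq.mp hab
    have h2 := h.inf_center hM (mul_mem (inv_mem ha) hb) h1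
    exact inv_mul_eq_one.mp h2
  have hZM : center G ≤ normalizer (A : Set G) := by
    obtain ⟨z, hz, -, -, hz2, -, -⟩ := h.invs
    intro c hc
    exact h.mem_of_commute hz (ne_one_of_orderOf hz2) (mem_center_iff.mp hc z).symm
  have hnorm : ∀ x : G, π x ∈ normalizer ((A.map π : Subgroup (G ⧸ center G)) : Set (G ⧸ center G)) ↔
      x ∈ normalizer (A : Set G) := by
    intro x
    constructor
    · intro hx
      obtain ⟨z, hz, -, -, hz2, -, -⟩ := h.invs
      have h1 := (mem_normalizer_iff.mp hx (π z)).mp ⟨z, hz, rfl⟩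
      obtain ⟨a, ha, haz⟩ := h1
      rw [← map_mul, ← map_inv, ← map_mul] at haz
      have h2 : a⁻¹ * (x * z * x⁻¹) ∈ center G := QuotientGroup.eq.mp haz
      refine h.iso x z hz (ne_one_of_orderOf hz2) ?_
      have h3 := mul_mem (le_normalizer ha : a ∈ normalizer (A : Set G)) (hZM h2)
      rwa [mul_inv_cancel_left] at h3
    · intro hx
      rw [mem_normalizer_iff]
      intro y
      constructor
      · rintro ⟨a, ha, rfl⟩
        exact ⟨x * a * x⁻¹, conj_mem hx ha, by simp only [_root_.map_mul, _root_.map_inv]⟩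
      · intro hy
        obtain ⟨a, ha, hay⟩ := hy
        refine ⟨x⁻¹ * a * x, ?_, ?_⟩
        · have := conj_mem (inv_mem hx) ha
          rwa [inv_inv] at this
        · rw [map_mul, map_mul, hay, map_inv]; group
  have hord : ∀ a ∈ A, orderOf (π a) = orderOf a := by
    intro a ha
    apply Nat.dvd_antisymm (orderOf_map_dvd π a)
    apply orderOf_dvd_of_pow_eq_one
    apply hinj _ (pow_mem ha _) _ (one_mem _)
    rw [map_pow, map_one, pow_orderOf_eq_one]
  refine ⟨⟨?_, h.two.map _, ?_, ?_, ?_⟩, hnorm⟩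
  · rintro _ ⟨a, ha, rfl⟩ _ ⟨b, hb, rfl⟩
    rw [← map_mul, h.comm a ha b hb, map_mul]
  · rintro g _ ⟨a, ha, rfl⟩ ha1 hg
    obtain ⟨x, rfl⟩ := QuotientGroup.mk'_surjective (center G) g
    rw [← map_inv, ← map_mul, ← map_mul, hnorm] at hg
    rw [hnorm]
    refine h.iso x a ha ?_ hg
    rintro rfl; exact ha1 (map_one _)
  · obtain ⟨z, hz, w, hw, hz2, hw2, hzw⟩ := h.invs
    exact ⟨_, ⟨z, hz, rfl⟩, _, ⟨w, hw, rfl⟩, (hord z hz).trans hz2, (hord w hw).trans hw2,
      fun e => hzw (hinj z hz w hw e)⟩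
  · obtain ⟨a, ha, ha4⟩ := h.four
    exact ⟨_, ⟨a, ha, rfl⟩, (hord a ha).trans ha4⟩

/-- The intersection of `A` with a subgroup is isolated there. -/
theorem Iso.subgroupOf (h : Iso A) (X : Subgroup G)
    (h2 : ∃ z ∈ A, ∃ w ∈ A, orderOf z = 2 ∧ orderOf w = 2 ∧ z ≠ w ∧ z ∈ X ∧ w ∈ X)
    (h4 : ∃ a ∈ A, orderOf a = 4 ∧ a ∈ X) :
    Iso (A.subgroupOf X) ∧
      ∀ x : X, x ∈ normalizer ((A.subgroupOf X : Subgroup X) : Set X) ↔
        (x : G) ∈ normalizer (A : Set G) := by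
  have hnorm : ∀ x : X, x ∈ normalizer ((A.subgroupOf X : Subgroup X) : Set X) ↔
        (x : G) ∈ normalizer (A : Set G) := by
    intro x
    constructor
    · intro hx
      obtain ⟨z, hz, -, -, hz2, -, -, hzX, -⟩ := h2
      have h1 := (mem_normalizer_iff.mp hx ⟨z, hzX⟩).mp (mem_subgroupOf.mpr hz)
      have h3 := mem_subgroupOf.mp h1
      exact h.iso x z hz (ne_one_of_orderOf hz2) (le_normalizer h3)
    · intro hx
      rw [mem_normalizer_iff]
      intro y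
      exact mem_normalizer_iff.mp hx (y : G)
  refine ⟨⟨?_, ?_, ?_, ?_, ?_⟩, hnorm⟩
  · intro a ha b hb
    exact Subtype.ext (h.comm a (mem_subgroupOf.mp ha) b (mem_subgroupOf.mp hb))
  · intro a
    obtain ⟨k, hk⟩ := h.two ⟨_, mem_subgroupOf.mp a.2⟩
    refine ⟨k, ?_⟩
    apply Subtype.ext
    apply Subtype.ext
    show (((a : X) : G)) ^ 2 ^ k = 1
    exact congrArg Subtype.val hk
  · intro g a ha ha1 hg
    rw [hnorm] at hg ⊢
    exact h.iso g a (mem_subgroupOf.mp ha) (fun e => ha1 (Subtype.ext e)) hg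
  · obtain ⟨z, hz, w, hw, hz2, hw2, hzw, hzX, hwX⟩ := h2
    exact ⟨⟨z, hzX⟩, mem_subgroupOf.mpr hz, ⟨w, hwX⟩, mem_subgroupOf.mpr hw, by rwa [orderOf_mk],
      by rwa [orderOf_mk], fun e => hzw (congrArg Subtype.val e)⟩
  · obtain ⟨a, ha, ha4, haX⟩ := h4
    exact ⟨⟨a, haX⟩, mem_subgroupOf.mpr ha, by rwa [orderOf_mk]⟩

end

/-- Reduction of the theorem on isolated subgroups to simple groups. -/
theorem main_of_simple
    (hsimple : ∀ (G : Type u) [Group G] [Finite G] [IsSimpleGroup G] (A : Subgroup G), Iso A →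
      normalizer (A : Set G) ≠ ⊤ → Prop' A → False)
    (n : ℕ) : ∀ (G : Type u) [Group G] [Finite G] (A : Subgroup G), Nat.card G = n → Iso A →
      normalizer (A : Set G) = ⊤ := by
  induction n using Nat.strong_induction_on with
  | _ n ih =>
    intro G _ _ A hn h
    by_contra hM
    have hP : Prop' A := by
      intro X hX h2 h4
      obtain ⟨hB, hnorm⟩ := h.subgroupOf X h2 h4
      have hlt : Nat.card X < n := by
        rw [← hn]
        exact lt_of_le_of_ne (Nat.le_of_dvd Nat.card_pos X.card_subgroup_dvd_card)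
          (fun e => hX (eq_top_of_card_eq X e))
      have h1 := ih _ hlt X (A.subgroupOf X) rfl hB
      intro x hx
      have : (⟨x, hx⟩ : X) ∈ normalizer ((A.subgroupOf X : Subgroup X) : Set X) := by
        rw [h1]; exact mem_top _
      exact (hnorm ⟨x, hx⟩).mp this
    by_cases hZ : center G = ⊥
    · have : IsSimpleGroup G := by
        refine { exists_pair_ne := ?_, eq_bot_or_eq_top_of_normal := ?_ }
        · obtain ⟨z, -, w, -, -, -, hzw⟩ := h.invs
          exact ⟨z, w, hzw⟩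
        · intro N hN
          by_cases hN' : N = ⊤
          · exact Or.inr hN'
          · left
            rw [eq_bot_iff, ← hZ]
            exact h.normal_le_center hM hP N hN'
      exact hsimple G A h hM hP
    · obtain ⟨hB, hnorm⟩ := h.map_center hM
      have hlt : Nat.card (G ⧸ center G) < n := by
        rw [← hn, (center G).card_eq_card_quotient_mul_card_subgroup]
        have h1 : 1 < Nat.card (center G) := by
          rw [Finite.one_lt_card_iff_nontrivial]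
          exact (Subgroup.nontrivial_iff_ne_bot _).mpr hZ
        have h2 : 0 < Nat.card (G ⧸ center G) := Nat.card_pos
        nlinarith only [h1, h2]
      have h1 := ih _ hlt _ _ rfl hB
      apply hM
      rw [Subgroup.eq_top_iff']
      intro x
      rw [← hnorm x, h1]
      exact mem_top _

end Cfsg.Agent.TIAbelian.IsolatedBasic
end

-- part: TIAbelian/IsolatedCount
section
/-!
# Isolated abelian 2-subgroups: counting

Squares, the number of involutions, action of elements of odd order, and the number of points.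
-/

set_option autoImplicit false

namespace Cfsg.Agent.TIAbelian.IsolatedCount

open Subgroup Cfsg
open Cfsg.Agent.TwoFusion.StronglyEmbeddedBasic
open Cfsg.Agent.TIAbelian.IsolatedBasic

section

variable {G : Type*} [Group G] {A : Subgroup G}

theorem ne_one_of_two {a : G} (h : orderOf a = 2) : a ≠ 1 := by
  rintro rfl
  simp at h

/-- The subgroup of elements of order at most 2 of `A`. -/
def invSub (h : Iso A) : Subgroup G where
  carrier := {a | a ∈ A ∧ a * a = 1}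
  mul_mem' := by
    rintro a b ⟨ha, ha2⟩ ⟨hb, hb2⟩
    refine ⟨mul_mem ha hb, ?_⟩
    calc a * b * (a * b) = a * (b * a) * b := by group
      _ = a * (a * b) * b := by rw [h.comm b hb a ha]
      _ = (a * a) * (b * b) := by group
      _ = 1 := by rw [ha2, hb2, one_mul]
  one_mem' := ⟨one_mem _, one_mul 1⟩
  inv_mem' := by
    rintro a ⟨ha, ha2⟩
    exact ⟨inv_mem ha, by rw [← mul_inv_rev, ha2, inv_one]⟩

theorem invSub_le (h : Iso A) : invSub h ≤ A := fun _ ha => ha.1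

/-- Every involution of `A` is a square. -/
theorem exists_sq [Finite G] (h : Iso A) (hM : normalizer (A : Set G) ≠ ⊤) {e : G}
    (he : e ∈ A) (he2 : e * e = 1) : ∃ b ∈ A, b * b = e := by
  by_cases he1 : e = 1
  · exact ⟨1, one_mem _, by rw [he1, one_mul]⟩
  have he2' := orderOf_eq_two_of_mul_self he2 he1
  obtain ⟨a, ha, ha4⟩ := h.four
  have hsq : orderOf (a * a) = 2 := by
    have := orderOf_pow_of_dvd (x := a) (n := 2) (by norm_num) (by rw [ha4]; norm_num)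
    rw [ha4, pow_two] at this
    exact this
  obtain ⟨m, hm, hme⟩ := h.exists_conj hM (mul_mem ha ha) hsq he he2'
  exact ⟨m * a * m⁻¹, conj_mem hm ha, by rw [← hme]; group⟩

theorem card_invSub_sq_dvd [Finite G] (h : Iso A) (hM : normalizer (A : Set G) ≠ ⊤) :
    Nat.card (invSub h) * Nat.card (invSub h) ∣ Nat.card A := by
  let f : A →* A :=
    { toFun := fun a => a * a
      map_one' := by simp
      map_mul' := by
        intro a b
        apply Subtype.ext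
        show (a : G) * b * (a * b) = a * a * (b * b)
        calc (a : G) * b * (a * b) = a * (b * a) * b := by group
          _ = a * (a * b) * b := by rw [h.comm b b.2 a a.2]
          _ = a * a * (b * b) := by group }
  have hker : Nat.card f.ker = Nat.card (invSub h) := by
    have h1 : f.ker.map A.subtype = invSub h := by
      ext x
      constructor
      · rintro ⟨a, ha, rfl⟩
        exact ⟨a.2, congrArg Subtype.val (MonoidHom.mem_ker.mp ha)⟩
      · rintro ⟨hx, hx2⟩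
        exact ⟨⟨x, hx⟩, MonoidHom.mem_ker.mpr (Subtype.ext hx2), rfl⟩
    rw [← h1, Subgroup.card_map_of_injective A.subtype_injective]
  have hle : f.ker ≤ f.range := by
    intro a ha
    have h1 : (a : G) * a = 1 := congrArg Subtype.val (MonoidHom.mem_ker.mp ha)
    obtain ⟨b, hb, hbb⟩ := exists_sq h hM a.2 h1
    exact ⟨⟨b, hb⟩, Subtype.ext hbb⟩
  have h2 := card_mul_index f.ker
  rw [index_ker] at h2
  rw [← h2, hker]
  apply Nat.mul_dvd_mul_left
  rw [← hker]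
  exact card_dvd_of_le hle

theorem card_invSub [Finite G] (h : Iso A) : ∃ r, 2 ≤ r ∧ Nat.card (invSub h) = 2 ^ r := by
  have h2 : IsPGroup 2 (invSub h) := h.two.to_le (invSub_le h)
  obtain ⟨r, hr⟩ := IsPGroup.iff_card.mp h2
  refine ⟨r, ?_, hr⟩
  by_contra hlt
  push Not at hlt
  obtain ⟨z, hz, w, hw, hz2, hw2, hzw⟩ := h.invs
  have hz1 := ne_one_of_two hz2
  have hw1 := ne_one_of_two hw2
  classical
  have : Fintype (invSub h) := Fintype.ofFinite _
  have hcard : Nat.card (invSub h) ≤ 2 := by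
    rw [hr]
    calc 2 ^ r ≤ 2 ^ 1 := Nat.pow_le_pow_right (by norm_num) (by omega)
      _ = 2 := by norm_num
  rw [Nat.card_eq_fintype_card] at hcard
  have h3 : ({1, ⟨z, hz, mul_self_of_orderOf hz2⟩, ⟨w, hw, mul_self_of_orderOf hw2⟩} :
      Finset (invSub h)).card = 3 := by
    rw [Finset.card_eq_three]
    refine ⟨_, _, _, ?_, ?_, ?_, rfl⟩
    · intro e; exact hz1 (congrArg Subtype.val e).symm
    · intro e; exact hw1 (congrArg Subtype.val e).symm
    · intro e; exact hzw (congrArg Subtype.val e)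
  have h4 := Finset.card_le_univ ({1, ⟨z, hz, mul_self_of_orderOf hz2⟩,
    ⟨w, hw, mul_self_of_orderOf hw2⟩} : Finset (invSub h))
  omega

theorem card_invSub_sub_one_dvd [Finite G] (h : Iso A) (hM : normalizer (A : Set G) ≠ ⊤) :
    Nat.card (invSub h) - 1 ∣ Nat.card (normalizer (A : Set G)) := by
  obtain ⟨z, hz, -, -, hz2, -, -⟩ := h.invs
  letI : MulAction (normalizer (A : Set G)) G :=
    MulAction.compHom G ((MulAut.conj (G := G)).comp (normalizer (A : Set G)).subtype)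
  have hsmul : ∀ (m : normalizer (A : Set G)) (x : G), m • x = (m : G) * x * (m : G)⁻¹ :=
    fun _ _ => rfl
  have horb : MulAction.orbit (normalizer (A : Set G)) z = (invSub h : Set G) \ {1} := by
    ext x
    constructor
    · rintro ⟨m, rfl⟩
      have h1 : (m : G) * z * (m : G)⁻¹ ∈ A := conj_mem m.2 hz
      have h2 : orderOf ((m : G) * z * (m : G)⁻¹) = 2 := (orderOf_conj _ _).trans hz2
      exact ⟨⟨h1, mul_self_of_orderOf h2⟩, ne_one_of_two h2⟩
    · rintro ⟨⟨hx, hx2⟩, hx1⟩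
      obtain ⟨m, hm, hmz⟩ := h.exists_conj hM hz hz2 hx (orderOf_eq_two_of_mul_self hx2 hx1)
      exact ⟨⟨m, hm⟩, hmz⟩
  have h1 := MulAction.index_stabilizer (normalizer (A : Set G)) z
  rw [horb, Set.ncard_sdiff_singleton_of_mem (one_mem (invSub h))] at h1
  have h2 : (invSub h : Set G).ncard = Nat.card (invSub h) := rfl
  rw [← h2, ← h1]
  exact index_dvd_card _

/-- An element of odd order of `N(A)` centralizing the involutions of `A` centralizes `A`. -/
theorem commute_of_odd [Finite G] (h : Iso A) {x : G} (hxM : x ∈ normalizer (A : Set G))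
    (hodd : Odd (orderOf x)) (hx : ∀ e ∈ A, e * e = 1 → x * e * x⁻¹ = e) :
    ∀ a ∈ A, x * a * x⁻¹ = a := by
  have key : ∀ n : ℕ, ∀ a ∈ A, a ^ 2 ^ n = 1 → x * a * x⁻¹ = a := by
    intro n
    induction n with
    | zero =>
      intro a ha h1
      rw [pow_zero, pow_one] at h1
      rw [h1]; simp
    | succ n ih =>
      intro a ha h1
      have h2 : x * (a * a) * x⁻¹ = a * a := by
        refine ih _ (mul_mem ha ha) ?_
        rw [← pow_two, ← pow_mul, ← h1, pow_succ']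
      set b := x * a * x⁻¹ * a⁻¹ with hb
      have hbA : b ∈ A := mul_mem (conj_mem hxM ha) (inv_mem ha)
      have hxa : x * a * x⁻¹ = b * a := by rw [hb]; group
      have hbb : b * b = 1 := by
        have h3 : (b * a) * (b * a) = a * a := by
          rw [← hxa]
          calc x * a * x⁻¹ * (x * a * x⁻¹) = x * (a * a) * x⁻¹ := by group
            _ = a * a := h2
        have h4 : (b * b) * (a * a) = a * a := by
          calc (b * b) * (a * a) = b * (b * a) * a := by group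
            _ = b * (a * b) * a := by rw [h.comm b hbA a ha]
            _ = (b * a) * (b * a) := by group
            _ = a * a := h3
        exact mul_eq_right.mp h4
      have hxb : x * b * x⁻¹ = b := hx b hbA hbb
      have hk : ∀ k : ℕ, x ^ k * a * (x ^ k)⁻¹ = b ^ k * a := by
        intro k
        induction k with
        | zero => simp
        | succ k ihk =>
          have h5 : ∀ j : ℕ, x * b ^ j * x⁻¹ = b ^ j := by
            intro j
            rw [← conj_pow, hxb]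
          calc x ^ (k + 1) * a * (x ^ (k + 1))⁻¹ = x * (x ^ k * a * (x ^ k)⁻¹) * x⁻¹ := by
                rw [pow_succ']; group
            _ = x * (b ^ k * a) * x⁻¹ := by rw [ihk]
            _ = (x * b ^ k * x⁻¹) * (x * a * x⁻¹) := by group
            _ = b ^ k * (b * a) := by rw [h5, hxa]
            _ = b ^ (k + 1) * a := by rw [pow_succ]; group
      have h6 := hk (orderOf x)
      rw [pow_orderOf_eq_one] at h6
      have h7 : b ^ orderOf x = 1 := by
        have h8 : b ^ orderOf x * a = a := by rw [← h6]; group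
        exact mul_eq_right.mp h8
      obtain ⟨k, hk'⟩ := hodd
      have h8 : b = 1 := by
        rw [hk', pow_succ, pow_mul, pow_two, hbb, one_pow, one_mul] at h7
        exact h7
      rw [hxa, h8, one_mul]
  intro a ha
  obtain ⟨k, hk⟩ := h.two ⟨a, ha⟩
  exact key k a ha (congrArg Subtype.val hk)

/-- The action on `E = Ω₁(A)` of an element of prime order `p` of `N(A)`, where `p` does not divide
`2 ^ j - 1` for `0 < j ≤ r`. -/
theorem centralizes_of_prime [Finite G] (h : Iso A) {r p : ℕ} (hr : Nat.card (invSub h) = 2 ^ r)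
    (hp : p.Prime) (hp2 : p ≠ 2) (hpj : ∀ j, 0 < j → j ≤ r → ¬ p ∣ 2 ^ j - 1)
    {x : G} (hxM : x ∈ normalizer (A : Set G)) (hx : orderOf x = p) :
    ∀ e ∈ A, e * e = 1 → x * e * x⁻¹ = e := by
  classical
  have : Fintype G := Fintype.ofFinite G
  letI : MulAction (zpowers x) G :=
    MulAction.compHom G ((MulAut.conj (G := G)).comp (zpowers x).subtype)
  have hsmul : ∀ (m : zpowers x) (y : G), m • y = (m : G) * y * (m : G)⁻¹ := fun _ _ => rfl
  have hle : zpowers x ≤ normalizer (A : Set G) := by rwa [zpowers_le]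
  set E := invSub h with hE
  set C : Subgroup G := E ⊓ centralizer {x} with hC
  have hCE : C ≤ E := inf_le_left
  have hmemC : ∀ y : G, y ∈ C ↔ y ∈ E ∧ y * x = x * y := by
    intro y
    rw [hC, mem_inf, mem_centralizer_singleton_iff]
  have h2 : IsPGroup 2 C := h.two.to_le (hCE.trans (invSub_le h))
  obtain ⟨f, hf⟩ := IsPGroup.iff_card.mp h2
  have hfr : f ≤ r := by
    have h3 := card_dvd_of_le hCE
    rw [hr, hf] at h3
    exact (Nat.pow_dvd_pow_iff_le_right (by norm_num)).mp h3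
  have hdvd := OddOrderCharacters.ClassSum.card_dvd_of_free (H := zpowers x) (X := G)
    ((Finset.univ.filter (· ∈ E)) \ (Finset.univ.filter (· ∈ C))) (by
      intro m y hy
      rw [Finset.mem_sdiff, Finset.mem_filter, Finset.mem_filter] at hy ⊢
      refine ⟨⟨Finset.mem_univ _, ?_⟩, ?_⟩
      · rw [hsmul]
        have hyE := hy.1.2
        refine ⟨conj_mem (hle m.2) hyE.1, ?_⟩
        calc (m : G) * y * (m : G)⁻¹ * ((m : G) * y * (m : G)⁻¹) = m * (y * y) * (m : G)⁻¹ := by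
              group
          _ = 1 := by rw [hyE.2]; group
      · rintro ⟨-, hmC⟩
        apply hy.2
        refine ⟨Finset.mem_univ _, (hmemC y).mpr ⟨hy.1.2, ?_⟩⟩
        have h5 := ((hmemC _).mp hmC).2
        rw [hsmul] at h5
        -- `m` is a power of `x`
        have hcm : (m : G) * x = x * m := by
          obtain ⟨k, hk⟩ := mem_zpowers_iff.mp m.2
          rw [← hk]
          exact ((Commute.refl x).zpow_left k).eq
        have h6 : (m : G)⁻¹ * x = x * (m : G)⁻¹ := by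
          rw [inv_mul_eq_iff_eq_mul, ← mul_assoc, hcm, mul_assoc, mul_inv_cancel, mul_one]
        calc y * x = (m : G)⁻¹ * ((m : G) * y * (m : G)⁻¹ * m) * x := by group
          _ = (m : G)⁻¹ * ((m : G) * y * (m : G)⁻¹ * (m * x)) := by group
          _ = (m : G)⁻¹ * ((m : G) * y * (m : G)⁻¹ * (x * m)) := by rw [hcm]
          _ = (m : G)⁻¹ * (((m : G) * y * (m : G)⁻¹ * x) * m) := by group
          _ = (m : G)⁻¹ * ((x * ((m : G) * y * (m : G)⁻¹)) * m) := by rw [h5]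
          _ = ((m : G)⁻¹ * x) * (m * y) := by group
          _ = (x * (m : G)⁻¹) * (m * y) := by rw [h6]
          _ = x * y := by group) (by
      intro m y hy hmy
      rw [Finset.mem_sdiff, Finset.mem_filter, Finset.mem_filter] at hy
      by_contra hm
      apply hy.2
      refine ⟨Finset.mem_univ _, (hmemC y).mpr ⟨hy.1.2, ?_⟩⟩
      rw [hsmul] at hmy
      -- `m` generates `zpowers x`
      have hm1 : (m : G) ≠ 1 := fun e => hm (Subtype.ext e)
      have hmx : zpowers (m : G) = zpowers x := by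
        apply Subgroup.eq_of_le_of_card_ge
        · rw [zpowers_le]; exact m.2
        · rw [Nat.card_zpowers, Nat.card_zpowers, hx]
          have h7 : orderOf (m : G) ∣ p := by
            have := _root_.orderOf_dvd_natCard m
            rw [Nat.card_zpowers, hx] at this
            rwa [← Subgroup.orderOf_coe] at this
          rcases (Nat.dvd_prime hp).mp h7 with h8 | h8
          · exact absurd (orderOf_eq_one_iff.mp h8) hm1
          · exact h8.ge
      have hxm : x ∈ zpowers (m : G) := by rw [hmx]; exact mem_zpowers x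
      have hmC : (m : G) ∈ centralizer {y} := by
        rw [mem_centralizer_singleton_iff]
        exact mul_inv_eq_iff_eq_mul.mp hmy
      have hxC : x ∈ centralizer {y} := (zpowers_le.mpr hmC) hxm
      rw [mem_centralizer_singleton_iff] at hxC
      exact hxC.symm)
  rw [Finset.card_sdiff_of_subset (fun y hy => by
    rw [Finset.mem_filter] at hy ⊢
    exact ⟨hy.1, hCE hy.2⟩)] at hdvd
  have hcE : (Finset.univ.filter (· ∈ E)).card = 2 ^ r := by
    rw [← hr, Nat.card_eq_fintype_card, Fintype.card_subtype]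
  have hcC : (Finset.univ.filter (· ∈ C)).card = 2 ^ f := by
    rw [← hf, Nat.card_eq_fintype_card, Fintype.card_subtype]
  rw [hcE, hcC, Nat.card_zpowers, hx] at hdvd
  have hrf : r = f := by
    by_contra hne
    have hlt : f < r := by omega
    have h8 : 2 ^ r - 2 ^ f = 2 ^ f * (2 ^ (r - f) - 1) := by
      rw [Nat.mul_sub, mul_one, ← pow_add]
      congr 2
      omega
    rw [h8, hp.dvd_mul] at hdvd
    rcases hdvd with h9 | h9
    · exact hp2 ((Nat.prime_dvd_prime_iff_eq hp Nat.prime_two).mp (hp.dvd_of_dvd_pow h9))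
    · exact hpj (r - f) (by omega) (by omega) h9
  have hEC : C = E := by
    apply Subgroup.eq_of_le_of_card_ge hCE
    rw [hr, hf, hrf]
  intro e he he2
  have h9 : e ∈ C := by rw [hEC]; exact ⟨he, he2⟩
  have h10 := ((hmemC e).mp h9).2
  rw [← h10]; group

end

section Arith

/-- Arithmetic: the number of points. -/
theorem arith {s n k d l : ℕ} (hl : l < s) (hl0 : 0 < l) (hn : 1 < n) (hdvd : s ∣ n - 1)
    (h : n * k * d = (s + 1) * l) : n = s + 1 ∧ k * d = l := by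
  obtain ⟨c, hc⟩ := hdvd
  have hn' : n = s * c + 1 := by omega
  have hc0 : 0 < c := by
    rcases Nat.eq_zero_or_pos c with h0 | h0
    · subst h0
      rw [mul_zero] at hn'
      omega
    · exact h0
  have hkd : k * d ≤ l := by
    have h1 : (s + 1) * (k * d) ≤ (s + 1) * l := by
      rw [← h, mul_assoc, hn']
      apply Nat.mul_le_mul_right
      nlinarith only [hc0]
    exact Nat.le_of_mul_le_mul_left h1 (by omega)
  have h2 : l = k * d := by
    -- modulo `s`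
    have h3 : (s * c + 1) * (k * d) = (s + 1) * l := by rw [← hn', ← mul_assoc, h]
    have h4 : s ∣ l - k * d := by
      have h5 : s * c * (k * d) = s * l + (l - k * d) := by
        have : (s * c + 1) * (k * d) = s * c * (k * d) + k * d := by ring
        have h6 : (s + 1) * l = s * l + l := by ring
        omega
      have h6 : s ∣ s * l + (l - k * d) := by rw [← h5, mul_assoc]; exact dvd_mul_right _ _
      exact (Nat.dvd_add_right (dvd_mul_right s l)).mp h6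
    rcases Nat.eq_zero_or_pos (l - k * d) with h0 | h0
    · omega
    · have := Nat.le_of_dvd h0 h4
      omega
  refine ⟨?_, h2.symm⟩
  rw [mul_assoc, ← h2] at h
  exact Nat.eq_of_mul_eq_mul_right hl0 h

theorem eq_of_two_pow_mul {a b m m' : ℕ} (hm : Odd m) (hm' : Odd m')
    (h : 2 ^ a * m = 2 ^ b * m') : 2 ^ a = 2 ^ b := by
  apply Nat.dvd_antisymm
  · have h1 : 2 ^ a ∣ 2 ^ b * m' := by rw [← h]; exact dvd_mul_right _ _
    exact (Nat.Coprime.pow_left a (Nat.coprime_two_left.mpr hm')).dvd_of_dvd_mul_right h1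
  · have h1 : 2 ^ b ∣ 2 ^ a * m := by rw [h]; exact dvd_mul_right _ _
    exact (Nat.Coprime.pow_left b (Nat.coprime_two_left.mpr hm)).dvd_of_dvd_mul_right h1

/-- The order of a Sylow 2-subgroup. -/
theorem card_sylow {G : Type*} [Group G] [Finite G] (S : Sylow 2 G) {a d m : ℕ} (hd : Odd d)
    (hm : Odd m) (h : Nat.card G * d = 2 ^ a * m) : Nat.card (S : Subgroup G) = 2 ^ a := by
  obtain ⟨b, hb⟩ := IsPGroup.iff_card.mp S.isPGroup'
  have h1 := (S : Subgroup G).card_mul_index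
  have h2 : Odd ((S : Subgroup G).index) := by
    rw [← Nat.not_even_iff_odd, even_iff_two_dvd]
    exact S.not_dvd_index
  rw [hb]
  apply eq_of_two_pow_mul (h2.mul hd) hm
  rw [← h, ← h1, hb]; ring

theorem dvd_of_two_pow_sub_one_dvd {r s : ℕ} (hs : 0 < s) (h : 2 ^ r - 1 ∣ 2 ^ s - 1) : r ∣ s := by
  have h1 := Nat.pow_sub_one_gcd_pow_sub_one 2 r s
  rw [Nat.gcd_eq_left h] at h1
  have h2 : 2 ^ r = 2 ^ Nat.gcd r s := by
    have h3 : 0 < 2 ^ r := by positivity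
    have h4 : 0 < 2 ^ Nat.gcd r s := by positivity
    omega
  have h3 := Nat.pow_right_injective (le_refl 2) h2
  rw [h3]
  exact Nat.gcd_dvd_right r s

end Arith

section Points

variable {G : Type*} [Group G] [Finite G] {M : Subgroup G}

/-- Elements of `S` fix only the base point. -/
theorem eq_one_of_smul_eq (hM : IsStronglyEmbedded M) {S : Sylow 2 G}
    (hSM : (S : Subgroup G) ≤ M) {s g : G}
    (hs : s ∈ (S : Subgroup G)) (hg : g ∉ M) (h : s • (g : G ⧸ M) = (g : G ⧸ M)) : s = 1 := by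
  by_contra hs1
  have h1 : g⁻¹ * s * g ∈ M := by
    have h2 : ((s * g : G) : G ⧸ M) = (g : G ⧸ M) := h
    have h3 := QuotientGroup.eq.mp h2.symm
    rwa [← mul_assoc] at h3
  -- `s ∈ M ∩ gMg⁻¹`
  have h2 : s ∈ M ⊓ M.map (MulAut.conj g).toMonoidHom :=
    ⟨hSM hs, ⟨g⁻¹ * s * g, h1, by show g * (g⁻¹ * s * g) * g⁻¹ = s; group⟩⟩
  have h3 := hM.2.2 g hg
  have h4 : orderOf s ∣ Nat.card ↥(M ⊓ M.map (MulAut.conj g).toMonoidHom) := by
    have := _root_.orderOf_dvd_natCard (⟨s, h2⟩ : ↥(M ⊓ M.map (MulAut.conj g).toMonoidHom))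
    rwa [Subgroup.orderOf_mk] at this
  have h5 : 2 ∣ orderOf s := by
    have := S.isPGroup'.dvd_orderOf (g := ⟨s, hs⟩) (fun h => hs1 (congrArg Subtype.val h))
    rwa [Subgroup.orderOf_mk] at this
  rw [← Nat.not_even_iff_odd, even_iff_two_dvd] at h3
  exact h3 (h5.trans h4)

theorem smul_ne_one {M : Subgroup G} {s : G} (hs : s ∈ M) {z : G ⧸ M}
    (hz : z ≠ ((1 : G) : G ⧸ M)) : s • z ≠ ((1 : G) : G ⧸ M) := by
  intro h1
  apply hz
  have h2 : z = s⁻¹ • ((1 : G) : G ⧸ M) := by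
    rw [eq_inv_smul_iff]
    exact h1
  rw [h2]
  show ((s⁻¹ * 1 : G) : G ⧸ M) = ((1 : G) : G ⧸ M)
  rw [QuotientGroup.eq, mul_one, mul_one, inv_inv]
  exact hs

/-- A subgroup of `M` acting freely on the other points has order dividing their number. -/
theorem card_dvd_of_free (K : Subgroup G) (hK : K ≤ M)
    (hfree : ∀ k ∈ K, ∀ g : G, g ∉ M → k • (g : G ⧸ M) = (g : G ⧸ M) → k = 1) :
    Nat.card K ∣ M.index - 1 := by
  classical
  have := Fintype.ofFinite (G ⧸ M)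
  have h := OddOrderCharacters.ClassSum.card_dvd_of_free (H := K) (X := G ⧸ M)
    (Finset.univ.erase ((1 : G) : G ⧸ M)) (by
      intro h x hx
      rw [Finset.mem_erase] at hx ⊢
      exact ⟨smul_ne_one (hK h.2) hx.1, Finset.mem_univ _⟩) (by
      intro h x hx h1
      rw [Finset.mem_erase] at hx
      obtain ⟨g, rfl⟩ := QuotientGroup.mk_surjective x
      have hg : g ∉ M := by
        intro hg
        apply hx.1
        rw [QuotientGroup.eq, mul_one]
        exact inv_mem hg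
      exact Subtype.ext (hfree h h.2 g hg h1))
  rw [Finset.card_erase_of_mem (Finset.mem_univ _), Finset.card_univ, ← Nat.card_eq_fintype_card]
    at h
  exact h

/-- The order of `S` divides the number of points other than the base point. -/
theorem card_dvd_index_sub_one (hM : IsStronglyEmbedded M) {S : Sylow 2 G}
    (hSM : (S : Subgroup G) ≤ M) : Nat.card (S : Subgroup G) ∣ M.index - 1 :=
  card_dvd_of_free (S : Subgroup G) hSM fun _ hk _ hg h => eq_one_of_smul_eq hM hSM hk hg h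

/-- If the number of points is `|S| + 1`, then `S` is transitive on the points other than the base
point. -/
theorem exists_smul_eq (hM : IsStronglyEmbedded M) {S : Sylow 2 G} (hSM : (S : Subgroup G) ≤ M)
    (hidx : M.index = Nat.card (S : Subgroup G) + 1) {x y : G ⧸ M}
    (hx : x ≠ ((1 : G) : G ⧸ M)) (hy : y ≠ ((1 : G) : G ⧸ M)) :
    ∃ s ∈ (S : Subgroup G), s • x = y := by
  classical
  have := Fintype.ofFinite (G ⧸ M)
  have := Fintype.ofFinite (S : Subgroup G)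
  have hne : ∀ s ∈ (S : Subgroup G), ∀ z : G ⧸ M, z ≠ ((1 : G) : G ⧸ M) →
      s • z ≠ ((1 : G) : G ⧸ M) := fun s hs z hz => smul_ne_one (hSM hs) hz
  have hinj : Function.Injective
      (fun s : (S : Subgroup G) => (⟨(s : G) • x, hne s s.2 x hx⟩ :
        {z : G ⧸ M // z ≠ ((1 : G) : G ⧸ M)})) := by
    intro s s' h
    have h1 : (s : G) • x = (s' : G) • x := congrArg Subtype.val h
    obtain ⟨g, rfl⟩ := QuotientGroup.mk_surjective x
    have hg : g ∉ M := by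
      intro hg
      apply hx
      rw [QuotientGroup.eq, mul_one]
      exact inv_mem hg
    have h2 : ((s' : G)⁻¹ * (s : G)) • (g : G ⧸ M) = (g : G ⧸ M) := by
      rw [mul_smul, h1, inv_smul_smul]
    have h3 := eq_one_of_smul_eq hM hSM (mul_mem (inv_mem s'.2) s.2) hg h2
    rw [inv_mul_eq_one] at h3
    exact Subtype.ext h3.symm
  have hcard : Fintype.card (S : Subgroup G) =
      Fintype.card {z : G ⧸ M // z ≠ ((1 : G) : G ⧸ M)} := by
    rw [Fintype.card_subtype_compl, Fintype.card_subtype_eq, ← Nat.card_eq_fintype_card,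
      ← Nat.card_eq_fintype_card]
    have h1 : Nat.card (G ⧸ M) = Nat.card (S : Subgroup G) + 1 := hidx
    omega
  have hbij := (Fintype.bijective_iff_injective_and_card _).mpr ⟨hinj, hcard⟩
  obtain ⟨s, hs⟩ := hbij.2 ⟨y, hy⟩
  exact ⟨s, s.2, congrArg Subtype.val hs⟩

/-- An element of prime order `p` of `M`, where `p` divides `|G : M| - 2`, is in another conjugate. -/
theorem exists_conj_mem {p : ℕ} (hp : p.Prime) {x : G} (hxM : x ∈ M) (hx : orderOf x = p)
    (hdvd : ¬ p ∣ M.index - 1) : ∃ g : G, g ∉ M ∧ g⁻¹ * x * g ∈ M := by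
  by_contra hcon
  push Not at hcon
  apply hdvd
  have h := card_dvd_of_free (M := M) (zpowers x) (by rwa [zpowers_le]) (by
    intro k hk g hg hkg
    by_contra hk1
    apply hcon g hg
    have h1 : g⁻¹ * k * g ∈ M := by
      have h2 : ((k * g : G) : G ⧸ M) = (g : G ⧸ M) := hkg
      have h3 := QuotientGroup.eq.mp h2.symm
      rwa [← mul_assoc] at h3
    have hkx : zpowers k = zpowers x := by
      apply Subgroup.eq_of_le_of_card_ge
      · rw [zpowers_le]; exact hk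
      · rw [Nat.card_zpowers, Nat.card_zpowers, hx]
        have h7 : orderOf k ∣ p := by
          have := _root_.orderOf_dvd_natCard (⟨k, hk⟩ : zpowers x)
          rw [Nat.card_zpowers, hx] at this
          rwa [Subgroup.orderOf_mk] at this
        rcases (Nat.dvd_prime hp).mp h7 with h8 | h8
        · exact absurd (orderOf_eq_one_iff.mp h8) hk1
        · exact h8.ge
    have hxk : x ∈ zpowers k := by rw [hkx]; exact mem_zpowers x
    obtain ⟨j, hj⟩ := mem_zpowers_iff.mp hxk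
    rw [← hj]
    have h9 : g⁻¹ * k ^ j * g = (g⁻¹ * k * g) ^ j := by
      have := conj_zpow (i := j) (a := g⁻¹) (b := k)
      rw [inv_inv] at this
      exact this.symm
    rw [h9]
    exact zpow_mem h1 j)
  rwa [Nat.card_zpowers, hx] at h

end Points

end Cfsg.Agent.TIAbelian.IsolatedCount
end

-- part: TIAbelian/CaseBLoc
section
set_option autoImplicit false

namespace Cfsg.Agent.TIAbelian.CaseBLoc

open Cfsg.Agent.TIAbelian.PairBase hiding TIFam
open Cfsg.Agent.TIAbelian.PairOmega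
open Cfsg.Agent.TIAbelian.CaseBBase
open Cfsg.Agent.TIAbelian.CaseBGeo
open Cfsg.Agent.TIAbelian.PairGeo (Om mem_Om one_mem_Om inv_Om conj_mem_Om_cj mem_Om_cj)

variable {G : Type*} [Group G]

/-- Local data at the member `A` of `P`: `M_A = {g | cj g A = A}` is a maximal 2-local subgroup of
characteristic 2 and `Q = O₂(M_A)`. -/
structure Loc (P : Set (Subgroup G)) (A Q : Subgroup G) : Prop where
  /-- `Q ≤ M_A` -/
  le : ∀ q ∈ Q, cj q A = A
  /-- `Q` is a 2-group -/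
  two : IsPGroup 2 ↥Q
  /-- `Q` is normal in `M_A` -/
  norm : ∀ g : G, cj g A = A → cj g Q = Q
  /-- `Q` is the largest normal 2-subgroup of `M_A` -/
  max2 : ∀ R : Subgroup G, IsPGroup 2 ↥R → (∀ r ∈ R, cj r A = A) →
    (∀ g : G, cj g A = A → cj g R = R) → R ≤ Q
  /-- S1783 -/
  sq : ∀ B ∈ P, (∀ b ∈ B, cj b A = A) → ∀ b ∈ B, b * b ∈ Q
  /-- Baer-Suzuki -/
  bs : ∀ e : G, cj e A = A → e * e = 1 → e ∉ Q →
    ∃ x : G, cj x A = A ∧ x ≠ 1 ∧ Odd (orderOf x) ∧ e * x * e⁻¹ = x⁻¹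
  /-- `M_A` is a maximal 2-local subgroup -/
  max : ∀ R : Subgroup G, IsPGroup 2 ↥R → R ≠ ⊥ → (∀ g : G, cj g A = A → cj g R = R) →
    ∀ g : G, cj g R = R → cj g A = A

end Cfsg.Agent.TIAbelian.CaseBLoc
end

-- part: TIAbelian/CaseB2
section
set_option autoImplicit false

namespace Cfsg.Agent.TIAbelian.CaseB2

open Cfsg
open Cfsg.Agent.TIAbelian.PairBase hiding TIFam
open Cfsg.Agent.TIAbelian.CaseBBase
open Cfsg.Agent.TIAbelian.CaseBGeo
open Cfsg.Agent.TIAbelian.CaseBLoc (Loc)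
open Cfsg.Agent.TIAbelian.PairGeo (Om mem_Om one_mem_Om inv_Om conj_mem_Om_cj mem_Om_cj)

variable {G : Type*} [Group G]

/-- Membership in the normalizer of a subgroup, in terms of `cj`. -/
theorem mem_normalizer_iff_cj {g : G} {H : Subgroup G} :
    g ∈ Subgroup.normalizer (H : Set G) ↔ cj g H = H := by
  rw [Subgroup.mem_normalizer_iff]
  constructor
  · intro h0
    ext x
    rw [mem_cj]
    have h1 := h0 (g⁻¹ * x * g)
    have h2 : g * (g⁻¹ * x * g) * g⁻¹ = x := by simp [mul_assoc]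
    rw [h2] at h1
    exact h1
  · intro h0 x
    constructor
    · intro hx
      exact conj_mem_of_cj h0 hx
    · intro hx
      have h1 := conj_mem_of_cj' h0 hx
      have h2 : g⁻¹ * (g * x * g⁻¹) * g = x := by simp [mul_assoc]
      rwa [h2] at h1

/-- The normalizers of the members of `P` are maximal 2-local. -/
def MaxLoc (P : Set (Subgroup G)) : Prop :=
  ∀ A ∈ P, ∀ R : Subgroup G, IsPGroup 2 ↥R → R ≠ ⊥ → (∀ g : G, cj g A = A → cj g R = R) →
    ∀ g : G, cj g R = R → cj g A = A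

theorem maxLoc_of_loc {P : Set (Subgroup G)} (hloc : ∀ A ∈ P, ∃ Q, Loc P A Q) : MaxLoc P := by
  intro A hA
  obtain ⟨Q, hQ⟩ := hloc A hA
  exact hQ.max

/-- The subgroup generated by the `Ω₁(C)`, `C` in a set `O` of members. -/
def EO (O : Set (Subgroup G)) : Subgroup G :=
  Subgroup.closure {x | ∃ C ∈ O, x ∈ Om C}

theorem Om_le_EO {O : Set (Subgroup G)} {C : Subgroup G} (hC : C ∈ O) {x : G} (hx : x ∈ Om C) :
    x ∈ EO O := Subgroup.subset_closure ⟨C, hC, hx⟩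

/-- An element which stabilises `O` normalises `EO O`. -/
theorem cj_EO_le {O : Set (Subgroup G)} {g : G} (hg : ∀ C ∈ O, cj g C ∈ O) :
    cj g (EO O) ≤ EO O := by
  unfold cj EO
  rw [MonoidHom.map_closure, Subgroup.closure_le]
  rintro _ ⟨x, ⟨C, hC, hx⟩, rfl⟩
  apply Subgroup.subset_closure
  refine ⟨cj g C, hg C hC, ?_⟩
  exact conj_mem_Om_cj hx

theorem cj_EO [Finite G] {O : Set (Subgroup G)} {g : G} (hg : ∀ C ∈ O, cj g C ∈ O) :
    cj g (EO O) = EO O := by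
  apply Subgroup.eq_of_le_of_card_ge (cj_EO_le hg)
  unfold cj
  rw [Subgroup.card_map_of_injective (MulAut.conj g).injective]

section

variable {P : Set (Subgroup G)} (h : Fam P)
include h

variable {O : Set (Subgroup G)} (hOP : ∀ C ∈ O, C ∈ P) (hO : ∀ C ∈ O, ∀ D ∈ O, Ap C D)
include hOP hO

theorem EO_comm [Finite G] {x y : G} (hx : x ∈ EO O) (hy : y ∈ EO O) : x * y = y * x := by
  have h1 : EO O ≤ Subgroup.centralizer ((EO O : Subgroup G) : Set G) := by
    conv_lhs => unfold EO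
    rw [Subgroup.closure_le]
    rintro a ⟨C, hC, ha⟩
    have h2 : EO O ≤ Subgroup.centralizer {a} := by
      unfold EO
      rw [Subgroup.closure_le]
      rintro b ⟨D, hD, hb⟩
      show b ∈ Subgroup.centralizer {a}
      rw [Subgroup.mem_centralizer_iff]
      intro a' ha'
      rw [Set.mem_singleton_iff.1 ha']
      exact comm_om h (hOP C hC) (hOP D hD) (hO C hC D hD) ha hb
    show a ∈ Subgroup.centralizer _
    rw [Subgroup.mem_centralizer_iff]
    intro b hb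
    have h3 := (Subgroup.mem_centralizer_iff.1 (h2 hb)) a rfl
    exact h3.symm
  exact ((Subgroup.mem_centralizer_iff.1 (h1 hx)) y hy).symm

theorem EO_sq [Finite G] {x : G} (hx : x ∈ EO O) : x * x = 1 := by
  unfold EO at hx
  induction hx using Subgroup.closure_induction with
  | mem x hx =>
    obtain ⟨C, hC, hx⟩ := hx
    exact hx.2
  | one => exact one_mul 1
  | mul x y hx hy ihx ihy =>
    have h1 := EO_comm h hOP hO hx hy
    calc x * y * (x * y) = x * (y * x) * y := by simp only [mul_assoc]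
      _ = x * (x * y) * y := by rw [h1]
      _ = (x * x) * (y * y) := by simp only [mul_assoc]
      _ = 1 := by rw [ihx, ihy, one_mul]
  | inv x hx ih =>
    rw [← mul_inv_rev, ih, inv_one]

theorem isPGroup_EO [Finite G] : IsPGroup 2 (EO O) := by
  intro x
  refine ⟨1, ?_⟩
  apply Subtype.ext
  have := EO_sq h hOP hO x.2
  simpa only [pow_two, _root_.pow_one, _root_.Subgroup.coe_mul, _root_.OneMemClass.coe_one] using this

theorem EO_ne_bot (hne : O.Nonempty) : EO O ≠ ⊥ := by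
  obtain ⟨C, hC⟩ := hne
  obtain ⟨c, hc, hc1⟩ := exists_ne_one h (hOP C hC)
  intro h0
  apply hc1
  have := Om_le_EO hC hc
  rwa [h0, Subgroup.mem_bot] at this

/-- Maximality: if `N(A)` stabilises `O`, then every element which stabilises `O` lies in
`N(A)`. -/
theorem norm_of_stab [Finite G] (hmax : MaxLoc P)
    (hne : O.Nonempty) {A : Subgroup G} (hA : A ∈ P)
    (hst : ∀ g : G, cj g A = A → ∀ C ∈ O, cj g C ∈ O) {g : G} (hg : ∀ C ∈ O, cj g C ∈ O) :
    cj g A = A :=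
  hmax A hA (EO O) (isPGroup_EO h hOP hO) (EO_ne_bot h hOP hO hne)
    (fun x hx => cj_EO (hst x hx)) g (cj_EO hg)

end

section

variable {P : Set (Subgroup G)} (h : Fam P)
include h

/-- If `N(A)` and `N(B)` are equal then `A = B`. -/
theorem eq_of_norm_iff [Finite G]
    (hmax : MaxLoc P)
    {A B : Subgroup G} (hA : A ∈ P) (hB : B ∈ P)
    (hAB : ∀ g : G, cj g A = A ↔ cj g B = B) : A = B := by
  obtain ⟨g, rfl⟩ := h.trans A hA B hB
  -- the set of members with the same normalizer as `A`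
  let W : Set (Subgroup G) := {C | C ∈ P ∧ ∀ x : G, cj x C = C ↔ cj x A = A}
  have hWP : ∀ C ∈ W, C ∈ P := fun C hC => hC.1
  have hW : ∀ C ∈ W, ∀ D ∈ W, Ap C D := by
    intro C hC D hD
    obtain ⟨c, hc, hc1⟩ := exists_ne_one h hC.1
    refine (ap_of_norm h hD.1 hC.1 hc.1 hc1 ?_).symm
    rw [hD.2, ← hC.2]
    exact cj_self hc.1
  have hAW : A ∈ W := ⟨hA, fun x => Iff.rfl⟩
  -- conjugation by an element `y` moves the normalizers
  have hmove : ∀ (y x : G) (C : Subgroup G), cj x (cj y C) = cj y C ↔ cj (y⁻¹ * x * y) C = C := by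
    intro y x C
    constructor
    · intro h1
      apply cj_inj (g := y)
      rw [cj_cj]
      have : y * (y⁻¹ * x * y) = x * y := by simp [mul_assoc]
      rw [this, ← cj_cj, h1]
    · intro h1
      rw [cj_cj]
      have : x * y = y * (y⁻¹ * x * y) := by simp [mul_assoc]
      rw [this, ← cj_cj, h1]
  -- an element `y` such that `N(A)^y = N(A)` stabilises `W`
  have hstab : ∀ y : G, (∀ x : G, cj (y⁻¹ * x * y) A = A ↔ cj x A = A) →
      ∀ C ∈ W, cj y C ∈ W := by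
    intro y hy C hC
    refine ⟨h.conj C hC.1 y, fun x => ?_⟩
    rw [hmove, hC.2, hy]
  have h1 : cj g A = A := by
    apply norm_of_stab h hWP hW hmax ⟨A, hAW⟩ hA
    · intro y hy
      apply hstab
      intro x
      rw [← hmove, hy]
    · apply hstab
      intro x
      rw [← hmove, ← hAB]
  exact h1.symm

/-- (b2): there are `D ~ A ⊥ B` with `D` far from `B`. -/
theorem exists_far [Finite G] (hmax : MaxLoc P)
    (hb1 : ∀ A ∈ P, ∀ B ∈ P, ∀ C ∈ P, Cm A B → Cm A C → Ap B C)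
    (hex : ∃ A ∈ P, ∃ B ∈ P, A ≠ B ∧ Cm A B) :
    ∃ A ∈ P, ∃ B ∈ P, ∃ D ∈ P, A ≠ B ∧ Cm A B ∧ Nb D A ∧ ¬ Ap D B := by
  by_contra hcon
  push Not at hcon
  obtain ⟨A, hA, B, hB, hne, hAB⟩ := hex
  -- `A` and `B` have the same neighbours
  have h1 : ∀ A ∈ P, ∀ B ∈ P, A ≠ B → Cm A B → ∀ D ∈ P, Ap D A → Ap D B := by
    intro A hA B hB hne hAB D hD hDA
    rcases cm_or_nb h hDA with h2 | h2
    · exact hb1 A hA D hD B hB h2.symm hAB
    · exact hcon A hA B hB D hD hne hAB h2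
  have h2 : ∀ D ∈ P, Ap D A ↔ Ap D B := fun D hD =>
    ⟨h1 A hA B hB hne hAB D hD, h1 B hB A hA (Ne.symm hne) hAB.symm D hD⟩
  let O : Set (Subgroup G) := {C | C ∈ P ∧ ∀ D ∈ P, Ap D C ↔ Ap D A}
  have hOP : ∀ C ∈ O, C ∈ P := fun C hC => hC.1
  have hO : ∀ C ∈ O, ∀ D ∈ O, Ap C D := by
    intro C hC D hD
    rw [hD.2 C hC.1]
    exact ((hC.2 A hA).2 (ap_self h hA)).symm
  have hAO : A ∈ O := ⟨hA, fun D _ => Iff.rfl⟩
  have hBO : B ∈ O := ⟨hB, fun D hD => (h2 D hD).symm⟩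
  -- the normalizer of any member `C` of `O` stabilises `O`
  have hst : ∀ C ∈ O, ∀ g : G, cj g C = C → ∀ D ∈ O, cj g D ∈ O := by
    intro C hC g hg D hD
    refine ⟨h.conj D hD.1 g, fun X hX => ?_⟩
    have h3 : Ap X (cj g D) ↔ Ap (cj g⁻¹ X) D := by
      rw [← ap_cj_iff (A := cj g⁻¹ X) g, cj_cj_inv]
    have h4 : Ap X (cj g C) ↔ Ap (cj g⁻¹ X) C := by
      rw [← ap_cj_iff (A := cj g⁻¹ X) g, cj_cj_inv]
    rw [h3, hD.2 _ (h.conj X hX _), ← hC.2 _ (h.conj X hX _), ← h4, hg, hC.2 _ hX]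
  apply hne
  apply eq_of_norm_iff h hmax hA hB
  intro g
  constructor
  · intro hg
    exact norm_of_stab h hOP hO hmax ⟨A, hAO⟩ hB (hst B hBO) (hst A hAO g hg)
  · intro hg
    exact norm_of_stab h hOP hO hmax ⟨A, hAO⟩ hA (hst A hAO) (hst B hBO g hg)

/-- (b2) in terms of the local data `Loc`. -/
theorem b2 [Finite G] (hloc : ∀ A ∈ P, ∃ Q, Loc P A Q)
    (hb1 : ∀ A ∈ P, ∀ B ∈ P, ∀ C ∈ P, Cm A B → Cm A C → Ap B C)
    {A B : Subgroup G} (hA : A ∈ P) (hB : B ∈ P) (hne : A ≠ B) (hAB : Cm A B) :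
    ∃ A ∈ P, ∃ B ∈ P, ∃ D ∈ P, A ≠ B ∧ Cm A B ∧ Nb D A ∧ ¬ Ap D B :=
  exists_far h (maxLoc_of_loc hloc) hb1 ⟨A, hA, B, hB, hne, hAB⟩

end

end Cfsg.Agent.TIAbelian.CaseB2
end

-- part: TIAbelian/CaseBK
section
set_option autoImplicit false

namespace Cfsg.Agent.TIAbelian.CaseBK

open Cfsg.Agent.TIAbelian.PairBase hiding TIFam
open Cfsg.Agent.TIAbelian.PairOmega
open Cfsg.Agent.TIAbelian.CaseBBase
open Cfsg.Agent.TIAbelian.CaseBGeo
open Cfsg.Agent.TIAbelian.PairGeo (Om mem_Om one_mem_Om inv_Om conj_mem_Om_cj mem_Om_cj)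

variable {G : Type*} [Group G] {P : Set (Subgroup G)} (h : Fam P)
include h

/-- (N2) If `Om B` normalises the abelian group `V`, which contains the member `D`, then `D ≈ B`. -/
theorem ap_of_normV {V D B : Subgroup G} (hV : ∀ x ∈ V, ∀ y ∈ V, x * y = y * x) (hD : D ∈ P)
    (hDV : D ≤ V) (hB : B ∈ P) (hn : ∀ u ∈ Om B, cj u V = V) : Ap D B := by
  obtain ⟨v, hv, hvv⟩ := h.nonelem D hD
  by_cases h0 : ∃ b ∈ B, b ∈ V ∧ b ≠ 1
  · obtain ⟨b, hb, hbV, hb1⟩ := h0
    refine ⟨v, hv, b, hb, ?_, hb1, hV _ (hDV hv) _ hbV⟩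
    rintro rfl
    exact hvv (one_mul 1)
  push Not at h0
  -- centralisers in `V` of elements of `Om B` agree
  have key : ∀ x ∈ Om B, x ≠ 1 → ∀ c ∈ V, x * c = c * x → ∀ y ∈ Om B, y * c = c * y := by
    intro x hx hx1 c hc hxc y hy
    have hcB : cj c B = B := h.norm_of_comm hB hx.1 hx1 hxc.symm
    have h1 : y * c * y⁻¹ * c⁻¹ ∈ B := by
      have : y * c * y⁻¹ * c⁻¹ = y * (c * y⁻¹ * c⁻¹) := by simp only [mul_assoc]
      rw [this]
      exact B.mul_mem hy.1 (conj_mem_of_cj hcB (B.inv_mem hy.1))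
    have h2 : y * c * y⁻¹ * c⁻¹ ∈ V := V.mul_mem (conj_mem_of_cj (hn y hy) hc) (V.inv_mem hc)
    have h3 := h0 _ h1 h2
    rw [mul_inv_eq_one, mul_inv_eq_iff_eq_mul] at h3
    exact h3
  obtain ⟨u₁, hu₁, hu₁1⟩ := exists_ne_one h hB
  obtain ⟨u₂, hu₂, hu₂1, hu₁₂⟩ := exists_two_Om h hB u₁
  have hu₃ := mul_Om h hB hu₁ hu₂
  have hu₃1 : u₁ * u₂ ≠ 1 := by
    intro h3
    apply hu₁₂
    exact mul_left_cancel (h3.trans hu₁.2.symm)
  have hvV := hDV hv
  have cc : ∀ x ∈ Om B, x ≠ 1 → ∀ y ∈ Om B, y * (v * (x * v * x⁻¹)) = (v * (x * v * x⁻¹)) * y := by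
    intro x hx hx1
    have hxv : x * v * x⁻¹ ∈ V := conj_mem_of_cj (hn x hx) hvV
    refine key x hx hx1 _ (V.mul_mem hvV hxv) ?_
    rw [eq_comm_iff]
    have e1 : x * (v * (x * v * x⁻¹)) * x⁻¹ = (x * v * x⁻¹) * ((x * x) * v * (x * x)⁻¹) := by
      simp only [mul_assoc, _root_.mul_inv_rev, _root_.inv_mul_cancel_left]
    rw [e1, hx.2]
    simp only [one_mul, inv_one, mul_one]
    exact hV _ hxv _ hvV
  have c1 := cc u₁ hu₁ hu₁1 u₁ hu₁
  have c2 := cc u₂ hu₂ hu₂1 u₁ hu₁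
  have c3 := cc _ hu₃ hu₃1 u₁ hu₁
  have hv1 : u₁ * v * u₁⁻¹ ∈ V := conj_mem_of_cj (hn _ hu₁) hvV
  have hv2 : u₂ * v * u₂⁻¹ ∈ V := conj_mem_of_cj (hn _ hu₂) hvV
  -- the third element is `(u₁ v u₁⁻¹) (u₂ v u₂⁻¹)`
  have e3 : v * (u₁ * u₂ * v * (u₁ * u₂)⁻¹) = (u₁ * v * u₁⁻¹) * (u₂ * v * u₂⁻¹) := by
    have e4 : u₁ * (v * (u₁ * u₂ * v * (u₁ * u₂)⁻¹)) * u₁⁻¹
        = (u₁ * v * u₁⁻¹) * ((u₁ * u₁) * (u₂ * v * u₂⁻¹) * (u₁ * u₁)⁻¹) := by
      simp only [mul_assoc, _root_.mul_inv_rev, _root_.inv_mul_cancel_left]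
    rw [eq_comm_iff.1 c3, hu₁.2] at e4
    simpa only [_root_.mul_inv_rev, _root_.one_mul, _root_.inv_one, _root_.mul_one] using e4
  have e5 : (v * (u₁ * v * u₁⁻¹)) * (v * (u₂ * v * u₂⁻¹))
      = (v * v) * (v * (u₁ * u₂ * v * (u₁ * u₂)⁻¹)) := by
    rw [e3]
    have : (v * (u₁ * v * u₁⁻¹)) * (v * (u₂ * v * u₂⁻¹))
      = v * ((u₁ * v * u₁⁻¹) * v) * (u₂ * v * u₂⁻¹) := by simp only [mul_assoc]
    rw [this, hV _ hv1 _ hvV]
    simp only [mul_assoc]
  have e6 : v * v = (v * (u₁ * v * u₁⁻¹)) * (v * (u₂ * v * u₂⁻¹))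
      * (v * (u₁ * u₂ * v * (u₁ * u₂)⁻¹))⁻¹ := by
    rw [e5, mul_inv_cancel_right]
  have e7 : u₁ * (v * v) = (v * v) * u₁ := by
    have d1 : Commute u₁ (v * (u₁ * v * u₁⁻¹)) := c1
    have d2 : Commute u₁ (v * (u₂ * v * u₂⁻¹)) := c2
    have d3 : Commute u₁ (v * (u₁ * u₂ * v * (u₁ * u₂)⁻¹)) := c3
    rw [e6]
    exact ((d1.mul_right d2).mul_right d3.inv_right).eq
  exact ⟨v * v, D.mul_mem hv hv, u₁, hu₁.1, hvv, hu₁1, e7.symm⟩

/-- (N2) for a set of pairwise commuting conjugates. -/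
theorem ap_of_cj_comm {D B : Subgroup G} (hD : D ∈ P) (hB : B ∈ P)
    (hc : ∀ u ∈ Om B, Cm D (cj u D)) : Ap D B := by
  set V : Subgroup G := Subgroup.closure {x : G | ∃ u ∈ Om B, x ∈ cj u D} with hVdef
  have hgen : ∀ x ∈ {x : G | ∃ u ∈ Om B, x ∈ cj u D}, ∀ y ∈ {x : G | ∃ u ∈ Om B, x ∈ cj u D},
      x * y = y * x := by
    rintro x ⟨u, hu, hx⟩ y ⟨w, hw, hy⟩
    have h1 := (cm_cj_iff u).2 (hc _ (mul_Om h hB hu hw))
    rw [cj_cj] at h1
    have h2 : u * (u * w) = w := by rw [← mul_assoc, hu.2, one_mul]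
    rw [h2] at h1
    exact h1 x hx y hy
  have hV : ∀ x ∈ V, ∀ y ∈ V, x * y = y * x := by
    intro x hx y hy
    have h1 := Subgroup.isMulCommutative_closure hgen
    exact congrArg Subtype.val (h1.is_comm.comm ⟨x, hx⟩ ⟨y, hy⟩)
  have hDV : D ≤ V := by
    intro x hx
    apply Subgroup.subset_closure
    exact ⟨1, one_mem_Om B, by rwa [cj_one]⟩
  refine ap_of_normV h hV hD hDV hB ?_
  intro u hu
  have hle : ∀ w ∈ Om B, cj w V ≤ V := by
    intro w hw x hx
    rw [mem_cj] at hx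
    have h2 : ∀ y ∈ V, w * y * w⁻¹ ∈ V := by
      intro y hy
      induction hy using Subgroup.closure_induction with
      | mem y hy =>
        obtain ⟨t, ht, hy⟩ := hy
        apply Subgroup.subset_closure
        refine ⟨w * t, mul_Om h hB hw ht, ?_⟩
        rw [← cj_cj]
        exact conj_mem_cj hy
      | one => simp [V.one_mem]
      | mul y z _ _ hy hz =>
        have : w * (y * z) * w⁻¹ = (w * y * w⁻¹) * (w * z * w⁻¹) := by simp only [mul_assoc, _root_.inv_mul_cancel_left]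
        rw [this]
        exact V.mul_mem hy hz
      | inv y _ hy =>
        have : w * y⁻¹ * w⁻¹ = (w * y * w⁻¹)⁻¹ := by simp [mul_assoc]
        rw [this]
        exact V.inv_mem hy
    have := h2 _ hx
    simpa [mul_assoc] using this
  apply le_antisymm (hle u hu)
  intro x hx
  rw [mem_cj]
  have h3 : u⁻¹ * x * u ∈ cj u⁻¹ V := by
    rw [mem_cj]
    simpa [mul_assoc] using hx
  rw [inv_Om hu] at h3 ⊢
  exact hle u hu h3

/-- The involution `s` moves the member `X` to a neighbour `X'` of `X`: then `s` fixes a member `R` of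
the line of `X`, `X'`. -/
theorem lemK [Finite G] {X : Subgroup G} (hX : X ∈ P) {s : G} (ss : s * s = 1)
    (hn : Nb X (cj s X)) :
    ∃ R ∈ P, Nb R X ∧ cj s R = R ∧ (∃ e ∈ Om X, e ≠ 1 ∧ e * (s * e * s⁻¹) ∈ Om R) ∧
      (∀ v ∈ Om R, ∃ e ∈ Om X, ∃ e' ∈ Om (cj s X), v = e * e') ∧
      ((∀ v ∈ Om R, s * v = v * s) → ∀ e ∈ Om X, e * (s * e * s⁻¹) ∈ Om R) := by
  have hX' : cj s X ∈ P := h.conj X hX s
  have hne : X ≠ cj s X := nb_ne h hX hn
  have si : s⁻¹ = s := inv_eq_of_mul_eq_one_left ss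
  have hex : ∃ A ∈ P, ∃ B ∈ P, Nb A B := ⟨X, hX, _, hX', hn⟩
  obtain ⟨a, ha, haa⟩ := h.nonelem X hX
  have haO : a * a ∈ Om X := ⟨X.mul_mem ha ha, exp4 h hex hX ha⟩
  have cXX : ∀ x ∈ Om X, ∀ y ∈ Om (cj s X), x * y = y * x :=
    fun x hx y hy => comm_om h hX hX' (Nb.ap hn) hx hy
  let S : Set (Subgroup G) :=
    {Q | Q ∈ P ∧ ∀ v ∈ Om Q, ∃ x ∈ Om X, ∃ x' ∈ Om (cj s X), v = x * x'}
  have hcomm : ∀ Q ∈ S, ∀ v ∈ Om Q, ∀ y ∈ Om X, y * v = v * y := by
    rintro Q ⟨hQ, hQ2⟩ v hv y hy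
    obtain ⟨x, hx, x', hx', rfl⟩ := hQ2 v hv
    rw [← mul_assoc, h.comm X hX _ hy.1 _ hx.1, mul_assoc, cXX _ hy _ hx', mul_assoc]
  have htconj : ∀ x' ∈ Om (cj s X), s * x' * s⁻¹ ∈ Om X := by
    intro x' hx'
    have := mem_Om_cj.1 hx'
    rwa [si] at this ⊢
  -- members of `S` commuting with `X` are equal to `X`
  have hSX : ∀ Q ∈ S, Cm Q X → Q = X := by
    rintro Q ⟨hQ, hQ2⟩ hc
    obtain ⟨v, hv, hv1⟩ := exists_ne_one h hQ
    obtain ⟨x, hx, x', hx', e⟩ := hQ2 v hv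
    have hx'1 : x' = 1 := by
      by_contra h0
      apply Nb.not_cm hn
      apply Cm.symm
      refine cm_of_comm h hX' hX hx'.1 h0 ha haa ?_
      have h1 := hc v hv.1 a ha
      rw [e] at h1
      have h2 : x * (a * x') = x * (x' * a) := by
        rw [← mul_assoc, ← h.comm X hX a ha x hx.1, mul_assoc, ← h1, mul_assoc]
      exact (mul_left_cancel h2).symm
    rw [hx'1, mul_one] at e
    exact eq_of_mem h hQ hX hv.1 (e ▸ hx.1) hv1
  obtain ⟨Q, hQS, hQ3⟩ := PairLine.parity S (fun Q => cj a Q) (fun Q => cj s Q) (by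
      rintro Q ⟨hQ, hQ2⟩
      refine ⟨h.conj Q hQ a, ?_⟩
      intro v hv
      obtain ⟨x, hx, x', hx', e⟩ := hQ2 _ (mem_Om_cj.1 hv)
      refine ⟨x * (a * x' * a⁻¹ * x'⁻¹), mul_Om h hX hx (brak h hX' hX hn.symm hx' ha),
        x', hx', ?_⟩
      have e1 : v = a * (a⁻¹ * v * a) * a⁻¹ := by simp [mul_assoc]
      rw [e1, e]
      have e2 : a * (x * x') * a⁻¹ = (a * x) * (x' * a⁻¹) := by simp only [mul_assoc]
      rw [e2, h.comm X hX _ ha _ hx.1]
      simp only [mul_assoc, _root_.inv_mul_cancel, _root_.mul_one]) (by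
      rintro Q ⟨hQ, hQ2⟩
      obtain ⟨v, hv, hv1⟩ := exists_ne_one h hQ
      show cj a (cj a Q) = Q
      rw [cj_cj]
      exact h.norm_of_comm hQ hv.1 hv1 (hcomm Q ⟨hQ, hQ2⟩ v hv _ haO)) X
    ⟨hX, fun v hv => ⟨v, hv, 1, one_mem_Om _, by simp⟩⟩ (by
      rintro Q hQ
      constructor
      · intro h1
        exact hSX Q hQ (cm_of_norm h hQ.1 hX ha haa h1)
      · rintro rfl
        exact cj_self ha) (by
      rintro Q ⟨hQ, hQ2⟩
      refine ⟨h.conj Q hQ s, ?_⟩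
      intro v hv
      obtain ⟨x, hx, x', hx', e⟩ := hQ2 _ (mem_Om_cj.1 hv)
      refine ⟨s * x' * s⁻¹, htconj x' hx', s * x * s⁻¹, conj_mem_Om_cj hx, ?_⟩
      rw [cXX _ (htconj x' hx') _ (conj_mem_Om_cj hx)]
      have e1 : v = s * (s⁻¹ * v * s) * s⁻¹ := by simp [mul_assoc]
      rw [e1, e]
      simp [mul_assoc]) (by
      rintro Q ⟨hQ, hQ2⟩
      show cj s (cj s Q) = Q
      rw [cj_cj, ss, cj_one])
  have hQ := hQS.1
  have hQ2 := hQS.2
  -- `Q ≠ X`
  have hQX : Q ≠ X := by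
    rintro rfl
    exact hne hQ3.symm
  have hncQ : ¬ Cm Q X := fun h0 => hQX (hSX Q hQS h0)
  have hQap : Ap Q X := by
    obtain ⟨v, hv, hv1⟩ := exists_ne_one h hQ
    exact ⟨v, hv.1, a * a, haO.1, hv1, haa, (hcomm Q hQS v hv _ haO).symm⟩
  -- elements of `Om Q` commuting with `s` are `x x^s`
  have claim1 : ∀ v ∈ Om Q, s * v = v * s → ∃ x ∈ Om X, v = x * (s * x * s⁻¹) := by
    intro v hv hsv
    obtain ⟨x, hx, x', hx', e⟩ := hQ2 v hv
    have hx1 := htconj x' hx'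
    refine ⟨x, hx, ?_⟩
    have e0 : x' = s * (s * x' * s⁻¹) * s⁻¹ := by
      have : s * (s * x' * s⁻¹) * s⁻¹ = (s * s) * x' * (s * s)⁻¹ := by simp [mul_assoc]
      rw [this, ss]
      simp
    have e1 : s * v * s⁻¹ = v := by rw [hsv, mul_inv_cancel_right]
    have e2 : s * v * s⁻¹ = (s * x * s⁻¹) * (s * x' * s⁻¹) := by rw [e]; simp [mul_assoc]
    rw [← cXX _ hx1 _ (conj_mem_Om_cj hx)] at e2
    have e3 : x⁻¹ * (s * x' * s⁻¹) = x' * (s * x * s⁻¹)⁻¹ := by
      rw [inv_mul_eq_iff_eq_mul, ← mul_assoc, eq_mul_inv_iff_mul_eq, ← e2, e1, e]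
    have e4 : x⁻¹ * (s * x' * s⁻¹) = 1 := by
      by_contra h0
      refine hne (h.ti X hX _ hX' _ (X.mul_mem (X.inv_mem hx.1) hx1.1) ?_ h0)
      rw [e3]
      exact (cj s X).mul_mem hx'.1 ((cj s X).inv_mem (conj_mem_cj hx.1))
    rw [inv_mul_eq_one] at e4
    rw [e, e0, ← e4]
  refine ⟨Q, hQ, nb_of hQap hncQ, hQ3, ?_, hQ2, ?_⟩
  · -- a nontrivial element of `Om Q` centralised by `s`
    obtain ⟨v, hv, hv1⟩ := exists_ne_one h hQ
    have hw : s * v * s⁻¹ ∈ Om Q := by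
      have := conj_mem_Om_cj (g := s) hv
      rwa [hQ3] at this
    by_cases h0 : s * v * s⁻¹ = v
    · obtain ⟨x, hx, e⟩ := claim1 v hv (eq_comm_iff.2 h0)
      refine ⟨x, hx, ?_, e ▸ hv⟩
      rintro rfl
      apply hv1
      rw [e]
      simp
    · have hvw := mul_Om h hQ hv hw
      have hcc : s * (v * (s * v * s⁻¹)) = (v * (s * v * s⁻¹)) * s := by
        rw [eq_comm_iff]
        have e1 : s * (v * (s * v * s⁻¹)) * s⁻¹ = (s * v * s⁻¹) * ((s * s) * v * (s * s)⁻¹) := by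
          simp only [mul_assoc, _root_.mul_inv_rev, _root_.inv_mul_cancel_left]
        rw [e1, ss]
        simp only [one_mul, inv_one, mul_one]
        exact h.comm Q hQ _ hw.1 _ hv.1
      obtain ⟨x, hx, e⟩ := claim1 _ hvw hcc
      refine ⟨x, hx, ?_, e ▸ hvw⟩
      rintro rfl
      apply h0
      have e5 : v * (s * v * s⁻¹) = 1 := by rw [e]; simp
      exact (mul_left_cancel (e5.trans hv.2.symm))
  · intro hs
    have himg : Om Q = (fun x => x * (s * x * s⁻¹)) '' Om X := by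
      refine Set.eq_of_subset_of_ncard_le ?_ ?_ (Set.toFinite _)
      · intro v hv
        obtain ⟨x, hx, e⟩ := claim1 v hv (hs v hv)
        exact ⟨x, hx, e.symm⟩
      · calc ((fun x => x * (s * x * s⁻¹)) '' Om X).ncard ≤ (Om X).ncard :=
            Set.ncard_image_le (Set.toFinite _)
          _ = (Om Q).ncard := ncard_Om h hX hQ
    intro x hx
    rw [himg]
    exact ⟨x, hx, rfl⟩

end Cfsg.Agent.TIAbelian.CaseBK
end
end

-- part: TIAbelian/Reduce_mg
section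
prune_inst 0x400002210000000000000000000000000000000000000000000000000000000000000000000000000000000002002cc0000400000000a000000000000000000000000000000000000000000000000000000000000000000000000000000000000000
set_option linter.all false
open scoped Cfsg.Agent.FastGrp

-- part: TIAbelian/IsolatedPSU
section
/-!
# A configuration in `PSU₃(q)`, `q ≥ 4` even

An elementary abelian subgroup `E₀` of order `q`, an element `w ≠ 1` of odd order centralizing it, and an
involution `t` commuting with `w` but not with `E₀`.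
-/

set_option autoImplicit false

namespace Cfsg.Agent.TIAbelian.IsolatedPSU

open Matrix
open Cfsg.Agent.LieClassical.SUBasic

variable {F : Type*} [Field F]

def blkMat (a b c d : F) : Matrix (Fin 3) (Fin 3) F := !![a, b, 0; c, d, 0; 0, 0, 1]

theorem det_blkMat (a b c d : F) : (blkMat a b c d).det = a * d - b * c := by
  simp [blkMat, Matrix.det_fin_three]

theorem blkMat_mul (a b c d a' b' c' d' : F) : blkMat a b c d * blkMat a' b' c' d' =
    blkMat (a * a' + b * c') (a * b' + b * d') (c * a' + d * c') (c * b' + d * d') := by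
  ext i j
  (revert i j; simp only [blkMat, Matrix.mul_apply, Fin.sum_univ_three, _root_.Fin.forall_fin_succ, _root_.Matrix.of_apply, _root_.Matrix.cons_val', _root_.Matrix.cons_val_fin_one, Fin.isValue, _root_.Matrix.cons_val_zero, _root_.Matrix.cons_val_one, _root_.Matrix.cons_val, _root_.MulZeroClass.mul_zero, _root_.add_zero, _root_.Matrix.cons_val_succ, _root_.mul_one, _root_.zero_add, _root_.implies_true, _root_.and_true, _root_.and_self, _root_.MulZeroClass.zero_mul])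

theorem blkMat_one : blkMat (1 : F) 0 0 1 = 1 := by
  ext i j
  (revert i j; simp only [blkMat, _root_.Fin.forall_fin_succ, _root_.Matrix.of_apply, _root_.Matrix.cons_val', _root_.Matrix.cons_val_fin_one, Fin.isValue, _root_.Matrix.cons_val_zero, _root_.Matrix.cons_val_succ, _root_.IsEmpty.forall_iff, _root_.and_true, _root_.Matrix.one_apply_eq, Nat.reduceAdd, _root_.Fin.succ_zero_eq_one, _root_.ne_eq, _root_.zero_ne_one, _root_.not_false_eq_true, _root_.Matrix.one_apply_ne, _root_.Fin.succ_one_eq_two, Fin.reduceEq, _root_.and_self, _root_.Fin.succ_ne_zero, _root_.true_and])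

theorem diagonal_mul_blkMat (l m a b c d : F) :
    Matrix.diagonal ![l, l, m] * blkMat a b c d = blkMat a b c d * Matrix.diagonal ![l, l, m] := by
  ext i j
  rw [Matrix.mul_diagonal, Matrix.diagonal_mul]
  (revert i j; simp only [blkMat, mul_comm, _root_.Fin.forall_fin_succ, _root_.Nat.succ_eq_add_one, Nat.reduceAdd, _root_.Matrix.of_apply, _root_.Matrix.cons_val', _root_.Matrix.cons_val_fin_one, _root_.mul_eq_mul_right_iff, Fin.isValue, _root_.Matrix.cons_val_zero, _root_.Matrix.cons_val_succ, _root_.forall_const, _root_.true_or, _root_.or_true, _root_.and_self, _root_.one_ne_zero, _root_.or_false, _root_.implies_true])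

theorem blk_mem [Fintype F] {q : ℕ} (hF : Fintype.card F = q ^ 2) {a b c d : F}
    (hdet : (blkMat a b c d).det = 1) (h1 : a * a ^ q + c * c ^ q = 1)
    (h2 : b * b ^ q + d * d ^ q = 1) (h3 : a * b ^ q + c * d ^ q = 0)
    (h4 : b * a ^ q + d * c ^ q = 0) :
    (⟨blkMat a b c d, hdet⟩ : _root_.Matrix.SpecialLinearGroup (Fin 3) F) ∈ Cfsg.SU 3 F q := by
  refine (mem_SU_iff _).2 ?_
  intro u v
  rw [hermForm_apply, hermForm_apply, Fin.sum_univ_three, Fin.sum_univ_three]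
  have e0 : ∀ u : Fin 3 → F, (blkMat a b c d *ᵥ u) 0 = a * u 0 + b * u 1 := by
    intro u; simp only [blkMat, Matrix.mulVec, dotProduct, Fin.sum_univ_three, _root_.Fin.isValue, _root_.Matrix.of_apply, _root_.Matrix.cons_val', _root_.Matrix.cons_val_fin_one, _root_.Matrix.cons_val_zero, _root_.Matrix.cons_val_one, _root_.Matrix.cons_val, _root_.MulZeroClass.zero_mul, _root_.add_zero]
  have e1 : ∀ u : Fin 3 → F, (blkMat a b c d *ᵥ u) 1 = c * u 0 + d * u 1 := by
    intro u; simp only [blkMat, Matrix.mulVec, dotProduct, Fin.sum_univ_three, _root_.Fin.isValue, _root_.Matrix.of_apply, _root_.Matrix.cons_val', _root_.Matrix.cons_val_fin_one, _root_.Matrix.cons_val_one, _root_.Matrix.cons_val_zero, _root_.Matrix.cons_val, _root_.MulZeroClass.zero_mul, _root_.add_zero]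
  have e2 : ∀ u : Fin 3 → F, (blkMat a b c d *ᵥ u) 2 = u 2 := by
    intro u; simp [blkMat, Matrix.mulVec, dotProduct, Fin.sum_univ_three]
  show (blkMat a b c d *ᵥ u) 0 * (blkMat a b c d *ᵥ v) 0 ^ q +
    (blkMat a b c d *ᵥ u) 1 * (blkMat a b c d *ᵥ v) 1 ^ q +
    (blkMat a b c d *ᵥ u) 2 * (blkMat a b c d *ᵥ v) 2 ^ q = _
  rw [e0, e0, e1, e1, e2, e2, Cfsg.Agent.LieClassical.HermBasic.add_pow_q hF,
    Cfsg.Agent.LieClassical.HermBasic.add_pow_q hF, mul_pow, mul_pow, mul_pow, mul_pow]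
  linear_combination (u 0 * v 0 ^ q) * h1 + (u 1 * v 1 ^ q) * h2 + (u 0 * v 1 ^ q) * h3 +
    (u 1 * v 0 ^ q) * h4

/-- The fixed field of `x ↦ x ^ q` as additive subgroup. -/
def fixAdd [Fintype F] {q : ℕ} (hF : Fintype.card F = q ^ 2) : AddSubgroup F where
  carrier := {x | x ^ q = x}
  add_mem' := by
    intro a b ha hb
    show (a + b) ^ q = a + b
    rw [Cfsg.Agent.LieClassical.HermBasic.add_pow_q hF, show a ^ q = a from ha,
      show b ^ q = b from hb]
  zero_mem' := Cfsg.Agent.LieClassical.HermBasic.zero_pow_q hF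
  neg_mem' := by
    intro a ha
    show (-a) ^ q = -a
    rw [Cfsg.Agent.LieClassical.HermBasic.neg_pow_q hF, show a ^ q = a from ha]

theorem card_fixAdd [Fintype F] {q : ℕ} (hF : Fintype.card F = q ^ 2) :
    Nat.card (fixAdd hF) = q := by
  have h6 : Nat.card (fixAdd hF) = Nat.card {x : F // x ^ q = x} := rfl
  rw [h6]
  exact Cfsg.Agent.LieClassical.HermBasic.card_fixed hF

/-- The elements of `E`. -/
def eSU [Fintype F] {q : ℕ} (hF : Fintype.card F = q ^ 2) (h2 : (2 : F) = 0) :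
    Multiplicative (fixAdd hF) →* Cfsg.SU 3 F q where
  toFun b := ⟨⟨blkMat (1 + (b.toAdd : F)) b.toAdd b.toAdd (1 + b.toAdd), by
      rw [det_blkMat]
      linear_combination (b.toAdd : F) * h2⟩, by
    have hb : (b.toAdd : F) ^ q = b.toAdd := b.toAdd.2
    have hb1 : (1 + (b.toAdd : F)) ^ q = 1 + b.toAdd := by
      rw [Cfsg.Agent.LieClassical.HermBasic.add_pow_q hF, one_pow, hb]
    apply blk_mem hF
    · rw [hb, hb1]; linear_combination (b.toAdd + (b.toAdd : F) ^ 2) * h2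
    · rw [hb, hb1]; linear_combination (b.toAdd + (b.toAdd : F) ^ 2) * h2
    · rw [hb, hb1]; linear_combination (b.toAdd + (b.toAdd : F) ^ 2) * h2
    · rw [hb, hb1]; linear_combination (b.toAdd + (b.toAdd : F) ^ 2) * h2⟩
  map_one' := by
    apply Subtype.ext
    apply Subtype.ext
    show blkMat (1 + 0) 0 0 (1 + 0) = 1
    rw [add_zero, blkMat_one]
  map_mul' := by
    intro b c
    apply Subtype.ext
    apply Subtype.ext
    show blkMat (1 + ((b.toAdd : F) + c.toAdd)) (b.toAdd + c.toAdd) (b.toAdd + c.toAdd)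
      (1 + (b.toAdd + c.toAdd)) = blkMat (1 + (b.toAdd : F)) b.toAdd b.toAdd (1 + b.toAdd) *
      blkMat (1 + (c.toAdd : F)) c.toAdd c.toAdd (1 + c.toAdd)
    rw [blkMat_mul]
    congr 1
    · linear_combination (-(b.toAdd : F) * c.toAdd) * h2
    · linear_combination (-(b.toAdd : F) * c.toAdd) * h2
    · linear_combination (-(b.toAdd : F) * c.toAdd) * h2
    · linear_combination (-(b.toAdd : F) * c.toAdd) * h2

theorem eSU_val [Fintype F] {q : ℕ} (hF : Fintype.card F = q ^ 2) (h2 : (2 : F) = 0)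
    (b : Multiplicative (fixAdd hF)) :
    (eSU hF h2 b).1.1 = blkMat (1 + (b.toAdd : F)) b.toAdd b.toAdd (1 + b.toAdd) := rfl

/-- The element `w`. -/
def wSU (q : ℕ) (l : F) (hl0 : l ≠ 0) (hl1 : l ^ (q + 1) = 1) : Cfsg.SU 3 F q :=
  suDiag q ![l, l, (l ^ 2)⁻¹]
    (by
      rw [Fin.prod_univ_three]
      simp only [_root_.Fin.isValue, _root_.Matrix.cons_val_zero, _root_.Matrix.cons_val_one, _root_.Matrix.cons_val]
      field_simp)
    (by
      intro i
      fin_cases i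
      · exact hl1
      · exact hl1
      · show ((l ^ 2)⁻¹) ^ (q + 1) = 1
        rw [inv_pow, ← pow_mul, mul_comm, pow_mul, hl1, one_pow, inv_one])

theorem wSU_val (q : ℕ) (l : F) (hl0 : l ≠ 0) (hl1 : l ^ (q + 1) = 1) :
    (wSU q l hl0 hl1).1.1 = Matrix.diagonal ![l, l, (l ^ 2)⁻¹] := rfl

theorem wSU_pow (q : ℕ) (l : F) (hl0 : l ≠ 0) (hl1 : l ^ (q + 1) = 1) :
    (wSU q l hl0 hl1) ^ (q + 1) = 1 := by
  apply Subtype.ext
  apply Subtype.ext
  show (Matrix.diagonal ![l, l, (l ^ 2)⁻¹]) ^ (q + 1) = 1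
  rw [Matrix.diagonal_pow]
  have h6 : ((l ^ 2)⁻¹) ^ (q + 1) = 1 := by
    rw [inv_pow, ← pow_mul, mul_comm, pow_mul, hl1, one_pow, inv_one]
  have h7 : (![l, l, (l ^ 2)⁻¹] : Fin 3 → F) ^ (q + 1) = fun _ => 1 := by
    funext i
    fin_cases i
    · exact hl1
    · exact hl1
    · exact h6
  rw [h7]
  exact Matrix.diagonal_one

/-- The involution `t`. -/
def tSU [Fintype F] {q : ℕ} (hF : Fintype.card F = q ^ 2) (hq0 : q ≠ 0) (h2 : (2 : F) = 0)
    (l : F) (hl0 : l ≠ 0) (hl1 : l ^ (q + 1) = 1) : Cfsg.SU 3 F q :=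
  ⟨⟨blkMat 0 l l⁻¹ 0, by
    rw [det_blkMat, mul_inv_cancel₀ hl0]
    linear_combination -h2⟩, by
    have hll : l * l ^ q = 1 := by rw [← pow_succ', hl1]
    have hliq : l⁻¹ * l⁻¹ ^ q = 1 := by rw [inv_pow, ← mul_inv, hll, inv_one]
    apply blk_mem hF
    · rw [hliq]; ring
    · rw [hll]; ring
    · rw [zero_pow hq0]; ring
    · rw [zero_pow hq0]; ring⟩

theorem tSU_val [Fintype F] {q : ℕ} (hF : Fintype.card F = q ^ 2) (hq0 : q ≠ 0) (h2 : (2 : F) = 0)
    (l : F) (hl0 : l ≠ 0) (hl1 : l ^ (q + 1) = 1) :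
    (tSU hF hq0 h2 l hl0 hl1).1.1 = blkMat 0 l l⁻¹ 0 := rfl

theorem tSU_mul_self [Fintype F] {q : ℕ} (hF : Fintype.card F = q ^ 2) (hq0 : q ≠ 0)
    (h2 : (2 : F) = 0) (l : F) (hl0 : l ≠ 0) (hl1 : l ^ (q + 1) = 1) :
    tSU hF hq0 h2 l hl0 hl1 * tSU hF hq0 h2 l hl0 hl1 = 1 := by
  apply Subtype.ext
  apply Subtype.ext
  show blkMat 0 l l⁻¹ 0 * blkMat 0 l l⁻¹ 0 = 1
  rw [blkMat_mul, ← blkMat_one]
  congr 1 <;> simp [hl0]

theorem wSU_mul_eSU [Fintype F] {q : ℕ} (hF : Fintype.card F = q ^ 2) (h2 : (2 : F) = 0)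
    (l : F) (hl0 : l ≠ 0) (hl1 : l ^ (q + 1) = 1) (b : Multiplicative (fixAdd hF)) :
    wSU q l hl0 hl1 * eSU hF h2 b = eSU hF h2 b * wSU q l hl0 hl1 := by
  apply Subtype.ext
  apply Subtype.ext
  exact diagonal_mul_blkMat _ _ _ _ _ _

theorem wSU_mul_tSU [Fintype F] {q : ℕ} (hF : Fintype.card F = q ^ 2) (hq0 : q ≠ 0)
    (h2 : (2 : F) = 0) (l : F) (hl0 : l ≠ 0) (hl1 : l ^ (q + 1) = 1) :
    wSU q l hl0 hl1 * tSU hF hq0 h2 l hl0 hl1 = tSU hF hq0 h2 l hl0 hl1 * wSU q l hl0 hl1 := by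
  apply Subtype.ext
  apply Subtype.ext
  exact diagonal_mul_blkMat _ _ _ _ _ _

/-- The projection. -/
def pr (F : Type*) [Field F] (q : ℕ) : Cfsg.SU 3 F q →* Cfsg.PSU 3 F q :=
  QuotientGroup.mk' (Subgroup.center (Cfsg.SU 3 F q))

theorem pr_eq_one [Fintype F] {q : ℕ} (hF : Fintype.card F = q ^ 2) {x : Cfsg.SU 3 F q}
    (hx : pr F q x = 1) : ∃ c : F, x.1.1 = Matrix.diagonal (fun _ => c) := by
  have h1 : x ∈ Subgroup.center (Cfsg.SU 3 F q) := (QuotientGroup.eq_one_iff x).mp hx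
  obtain ⟨c, hcn, hcq, hc⟩ := (mem_center_SU_iff hF le_rfl x).mp h1
  exact ⟨c, by rw [hc]; rfl⟩

theorem pr_eSU_injective [Fintype F] {q : ℕ} (hF : Fintype.card F = q ^ 2) (h2 : (2 : F) = 0) :
    Function.Injective ((pr F q).comp (eSU hF h2)) := by
  rw [injective_iff_map_eq_one]
  intro b hb
  obtain ⟨c, hc⟩ := pr_eq_one hF hb
  rw [eSU_val] at hc
  have h01 := congrFun (congrFun hc 0) 1
  have h5 : (b.toAdd : F) = 0 := by simpa only [blkMat, _root_.ZeroMemClass.coe_eq_zero, _root_.toAdd_eq_zero, _root_.Fin.isValue, _root_.Matrix.of_apply, _root_.Matrix.cons_val', _root_.Matrix.cons_val_one, _root_.Matrix.cons_val_zero, _root_.Matrix.cons_val_fin_one, _root_.ne_eq, _root_.zero_ne_one, _root_.not_false_eq_true, _root_.Matrix.diagonal_apply_ne] using h01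
  have h6 : b.toAdd = 0 := Subtype.ext h5
  exact h6

theorem pr_wSU_ne [Fintype F] {q : ℕ} (hF : Fintype.card F = q ^ 2) (l : F) (hl0 : l ≠ 0)
    (hl1 : l ^ (q + 1) = 1) (hl3 : l ^ 3 ≠ 1) : pr F q (wSU q l hl0 hl1) ≠ 1 := by
  intro h5
  obtain ⟨c, hc⟩ := pr_eq_one hF h5
  rw [wSU_val] at hc
  have h00 := congrFun (congrFun hc 0) 0
  have h22 := congrFun (congrFun hc 2) 2
  simp only [Matrix.diagonal_apply_eq] at h00 h22
  apply hl3
  have h6 : l = (l ^ 2)⁻¹ := h00.trans h22.symm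
  calc l ^ 3 = l ^ 2 * l := by ring
    _ = l ^ 2 * (l ^ 2)⁻¹ := by rw [← h6]
    _ = 1 := mul_inv_cancel₀ (pow_ne_zero 2 hl0)

theorem not_comm [Fintype F] {q : ℕ} (hF : Fintype.card F = q ^ 2) (hq0 : q ≠ 0)
    (h2 : (2 : F) = 0) (l : F) (hl0 : l ≠ 0) (hl1 : l ^ (q + 1) = 1) (hl3 : l ^ 3 ≠ 1)
    {e1 : Cfsg.SU 3 F q} (he1 : e1.1.1 = blkMat (1 + 1) 1 1 (1 + 1)) :
    pr F q e1 * pr F q (tSU hF hq0 h2 l hl0 hl1) ≠ pr F q (tSU hF hq0 h2 l hl0 hl1) * pr F q e1 := by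
  intro h5
  rw [← map_mul, ← map_mul] at h5
  have h6 : pr F q ((tSU hF hq0 h2 l hl0 hl1 * e1)⁻¹ * (e1 * tSU hF hq0 h2 l hl0 hl1)) = 1 := by
    rw [map_mul, h5, ← map_mul, inv_mul_cancel, map_one]
  obtain ⟨c, hc⟩ := pr_eq_one hF h6
  have h7 : e1.1.1 * (tSU hF hq0 h2 l hl0 hl1).1.1 =
      (tSU hF hq0 h2 l hl0 hl1).1.1 * e1.1.1 * Matrix.diagonal (fun _ => c) := by
    rw [← hc]
    have h8 : e1 * tSU hF hq0 h2 l hl0 hl1 = (tSU hF hq0 h2 l hl0 hl1 * e1) *
      ((tSU hF hq0 h2 l hl0 hl1 * e1)⁻¹ * (e1 * tSU hF hq0 h2 l hl0 hl1)) := by group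
    exact congrArg (fun x : Cfsg.SU 3 F q => x.1.1) h8
  rw [he1, tSU_val, blkMat_mul, blkMat_mul] at h7
  have h22 := congrFun (congrFun h7 2) 2
  have h00 := congrFun (congrFun h7 0) 0
  rw [Matrix.mul_diagonal] at h22 h00
  have hc1 : c = 1 := by simpa only [blkMat, eq_comm, _root_.MulZeroClass.mul_zero, _root_.one_mul, _root_.zero_add, _root_.add_zero, _root_.Fin.isValue, _root_.Matrix.of_apply, _root_.Matrix.cons_val', _root_.Matrix.cons_val, _root_.Matrix.cons_val_fin_one, _root_.Matrix.cons_val_one, _root_.MulZeroClass.zero_mul, _root_.mul_one] using h22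
  have h8 : l⁻¹ = l := by
    simpa only [blkMat, hc1, _root_.MulZeroClass.mul_zero, _root_.one_mul, _root_.zero_add, _root_.add_zero, _root_.Fin.isValue, _root_.Matrix.of_apply, _root_.Matrix.cons_val', _root_.Matrix.cons_val_zero, _root_.Matrix.cons_val_fin_one, _root_.MulZeroClass.zero_mul, _root_.mul_one] using h00
  have h9 : l ^ 2 = 1 := by
    rw [pow_two]
    nth_rewrite 1 [← h8]
    exact inv_mul_cancel₀ hl0
  have h10 : (l - 1) ^ 2 = 0 := by linear_combination h9 + (1 - l) * h2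
  have h11 : l = 1 := by
    have := pow_eq_zero_iff (by norm_num) |>.mp h10
    linear_combination this
  apply hl3
  rw [h11, one_pow]

theorem exists_config (F : Type*) [Field F] [Fintype F] {q : ℕ} (hF : Fintype.card F = q ^ 2)
    (hq : Even q) (h4 : 4 ≤ q) :
    ∃ (E : Subgroup (Cfsg.PSU 3 F q)) (w t : Cfsg.PSU 3 F q), Nat.card E = q ∧
      (∀ x ∈ E, x * x = 1) ∧ w ≠ 1 ∧ w ^ (q + 1) = 1 ∧ (∀ x ∈ E, w * x = x * w) ∧ t * t = 1 ∧
      w * t = t * w ∧ ∃ x ∈ E, x * t ≠ t * x := by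
  obtain ⟨n, hn, hqn⟩ := Cfsg.Agent.LieExceptional.PSUThreeWitness.exists_pow_two hF hq h4
  obtain ⟨l, hl1, hl3⟩ := Cfsg.Agent.LieExceptional.PSUThreeWitness.exists_lam hF h4
  have hF' : Nat.card F = (2 ^ n) ^ 2 := by rw [Nat.card_eq_fintype_card, hF, hqn]
  have hch : CharP F 2 := Cfsg.Agent.LieRecognition.PSUThreeSylow.charP_two_of_card hF'
  have h2 : (2 : F) = 0 := by exact_mod_cast CharP.cast_eq_zero F 2
  have hl0 : l ≠ 0 := by
    rintro rfl
    simp at hl1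
  have hq0 : q ≠ 0 := by omega
  have hone : (1 : F) ∈ fixAdd hF := one_pow q
  refine ⟨((pr F q).comp (eSU hF h2)).range, pr F q (wSU q l hl0 hl1),
    pr F q (tSU hF hq0 h2 l hl0 hl1), ?_, ?_, pr_wSU_ne hF l hl0 hl1 hl3, ?_, ?_, ?_, ?_, ?_⟩
  · have h5 : Nat.card ((pr F q).comp (eSU hF h2)).range = Nat.card (Multiplicative (fixAdd hF)) :=
      (Nat.card_congr (MonoidHom.ofInjective (pr_eSU_injective hF h2)).toEquiv).symm
    rw [h5]
    exact card_fixAdd hF
  · rintro _ ⟨b, rfl⟩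
    rw [← map_mul]
    have h5 : b * b = 1 := by
      have h6 : b.toAdd + b.toAdd = 0 := by
        apply Subtype.ext
        show (b.toAdd : F) + b.toAdd = 0
        linear_combination (b.toAdd : F) * h2
      exact h6
    rw [h5, map_one]
  · rw [← map_pow, wSU_pow, map_one]
  · rintro _ ⟨b, rfl⟩
    rw [MonoidHom.comp_apply, ← map_mul, ← map_mul, wSU_mul_eSU]
  · rw [← map_mul, tSU_mul_self, map_one]
  · rw [← map_mul, ← map_mul, wSU_mul_tSU]
  · exact ⟨pr F q (eSU hF h2 (Multiplicative.ofAdd ⟨1, hone⟩)), ⟨_, rfl⟩,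
      not_comm hF hq0 h2 l hl0 hl1 hl3 (eSU_val hF h2 _)⟩

end Cfsg.Agent.TIAbelian.IsolatedPSU
end

-- part: TIAbelian/IsolatedZassenhaus
section
/-!
# Isolated abelian 2-subgroups: the Zassenhaus case
-/

set_option autoImplicit false

namespace Cfsg.Agent.TIAbelian.IsolatedZassenhaus

open Subgroup Cfsg
open Cfsg.Agent.TwoFusion.StronglyEmbeddedBasic
open Cfsg.Agent.TIAbelian.IsolatedBasic
open Cfsg.Agent.TIAbelian.IsolatedCount

variable {G : Type*} [Group G] [Finite G] {A : Subgroup G}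

local notation "𝓜" => normalizer (A : Set G)

/-- Hypotheses: `A` is a Sylow 2-subgroup, the number of points is `|A| + 1`, and
`|N(A)| = |A| (|Ω₁(A)| - 1)`. -/
structure Hyp (A : Subgroup G) (h : Iso A) (S : Sylow 2 G) : Prop where
  ne : normalizer (A : Set G) ≠ ⊤
  se : IsStronglyEmbedded (normalizer (A : Set G))
  inv : ∀ t ∈ normalizer (A : Set G), orderOf t = 2 → t ∈ A
  syl : (S : Subgroup G) = A
  idx : (normalizer (A : Set G)).index = Nat.card (S : Subgroup G) + 1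
  card : Nat.card (normalizer (A : Set G)) = Nat.card (S : Subgroup G) * (Nat.card (invSub h) - 1)

variable {h : Iso A} {S : Sylow 2 G}

theorem Hyp.le (H : Hyp A h S) : (S : Subgroup G) ≤ normalizer (A : Set G) := by
  rw [H.syl]; exact le_normalizer

theorem Hyp.pretransitive (H : Hyp A h S) {a b c d : G ⧸ normalizer (A : Set G)} (hab : a ≠ b)
    (hcd : c ≠ d) : ∃ g : G, g • a = c ∧ g • b = d := by
  obtain ⟨g1, h1⟩ := MulAction.exists_smul_eq G a ((1 : G) : G ⧸ normalizer (A : Set G))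
  obtain ⟨g2, h2⟩ := MulAction.exists_smul_eq G c ((1 : G) : G ⧸ normalizer (A : Set G))
  have hb : g1 • b ≠ ((1 : G) : G ⧸ normalizer (A : Set G)) := by
    rw [← h1]
    intro h
    exact hab (smul_left_cancel g1 h).symm
  have hd : g2 • d ≠ ((1 : G) : G ⧸ normalizer (A : Set G)) := by
    rw [← h2]
    intro h
    exact hcd (smul_left_cancel g2 h).symm
  obtain ⟨s, hs, hsb⟩ := IsolatedCount.exists_smul_eq H.se H.le H.idx hb hd
  refine ⟨g2⁻¹ * s * g1, ?_, ?_⟩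
  · rw [mul_smul, mul_smul, h1, inv_smul_eq_iff, h2]
    exact (smul_one_eq_iff s).mpr (H.le hs)
  · rw [mul_smul, mul_smul, hsb, inv_smul_smul]

/-- An element of `N(A)` fixing a second point and commuting with an involution of `A` is trivial. -/
theorem Hyp.eq_one (H : Hyp A h S) {u : G} (hu : orderOf u = 2)
    (huM : u ∉ normalizer (A : Set G)) {g : G} (hg : g ∈ normalizer (A : Set G))
    (hgu : g • ((u : G) : G ⧸ normalizer (A : Set G)) = ((u : G) : G ⧸ normalizer (A : Set G)))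
    {e : G} (he : e ∈ A) (he2 : orderOf e = 2) (hge : g * e * g⁻¹ = e) : g = 1 := by
  set M := normalizer (A : Set G) with hMdef
  set x : G ⧸ M := ((u : G) : G ⧸ M) with hx
  have hx1 : x ≠ ((1 : G) : G ⧸ M) := by
    intro e1
    apply huM
    have := QuotientGroup.eq.mp e1
    rw [mul_one] at this
    simpa using inv_mem this
  -- the two-point stabilizer
  set D : Subgroup M := MulAction.stabilizer M x with hD
  have horb : MulAction.orbit M x = ({((1 : G) : G ⧸ M)} : Set (G ⧸ M))ᶜ := by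
    ext y
    constructor
    · rintro ⟨m, rfl⟩
      exact smul_ne_one m.2 hx1
    · intro hy
      obtain ⟨s, hs, hsy⟩ := IsolatedCount.exists_smul_eq H.se H.le H.idx hx1 hy
      exact ⟨⟨s, H.le hs⟩, hsy⟩
  have hDidx : D.index = Nat.card (S : Subgroup G) := by
    have h1 := MulAction.index_stabilizer M x
    rw [horb, Set.ncard_compl, Set.ncard_singleton] at h1
    rw [hD, h1]
    have h2 : Nat.card (G ⧸ M) = Nat.card (S : Subgroup G) + 1 := H.idx
    omega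
  have hDcard : Nat.card D = Nat.card (invSub h) - 1 := by
    have h1 := D.card_mul_index
    rw [hDidx, H.card, mul_comm] at h1
    exact Nat.eq_of_mul_eq_mul_left Nat.card_pos h1
  -- the action of `D` by conjugation
  let instD : MulAction D G :=
    MulAction.compHom G (((MulAut.conj (G := G)).comp M.subtype).comp D.subtype)
  have hsmul : ∀ (m : D) (y : G), m • y = (m : G) * y * (m : G)⁻¹ := fun _ _ => rfl
  have horb2 : MulAction.orbit D e = (invSub h : Set G) \ {1} := by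
    ext y
    constructor
    · rintro ⟨m, rfl⟩
      have h1 : (m : G) * e * (m : G)⁻¹ ∈ A := conj_mem (m : M).2 he
      have h2 : orderOf ((m : G) * e * (m : G)⁻¹) = 2 := (orderOf_conj _ _).trans he2
      exact ⟨⟨h1, mul_self_of_orderOf h2⟩, ne_one_of_two h2⟩
    · rintro ⟨⟨hy, hy2⟩, hy1⟩
      have hy2' := orderOf_eq_two_of_mul_self hy2 hy1
      obtain ⟨⟨d, hd, hdy⟩, -⟩ := Cfsg.Agent.S1225.result M H.se u hu huM e y he2
        (le_normalizer he) hy2' (le_normalizer hy)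
      obtain ⟨k, hk, hkd⟩ := hd.2
      have hkd' : u * k * u⁻¹ = d := hkd
      have hdx : d • x = x := by
        show ((d * u : G) : G ⧸ M) = ((u : G) : G ⧸ M)
        rw [eq_comm, QuotientGroup.eq]
        have : u⁻¹ * (d * u) = k := by rw [← hkd']; group
        rw [this]; exact hk
      exact ⟨⟨⟨d, hd.1⟩, hdx⟩, hdy⟩
  have h1 := MulAction.index_stabilizer D e
  rw [horb2, Set.ncard_sdiff_singleton_of_mem (one_mem (invSub h))] at h1
  have h2 : (invSub h : Set G).ncard = Nat.card (invSub h) := rfl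
  rw [h2, ← hDcard] at h1
  have h3 := (MulAction.stabilizer D e).card_mul_index
  rw [h1] at h3
  have h4 : Nat.card (MulAction.stabilizer D e) = 1 := by
    have : 0 < Nat.card D := Nat.card_pos
    nlinarith only [h3, this]
  rw [Subgroup.card_eq_one] at h4
  have h5 : (⟨⟨g, hg⟩, hgu⟩ : D) ∈ MulAction.stabilizer D e := hge
  rw [h4, mem_bot] at h5
  exact congrArg (fun y : D => ((y : M) : G)) h5

theorem Hyp.three (H : Hyp A h S) (g : G) (a b c : G ⧸ normalizer (A : Set G)) (hab : a ≠ b)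
    (hbc : b ≠ c) (hac : a ≠ c) (ha : g • a = a) (hb : g • b = b) (hc : g • c = c) : g = 1 := by
  obtain ⟨u, huM, hu⟩ := exists_involution_notMem H.se
  have hx1 : ((u : G) : G ⧸ 𝓜) ≠ ((1 : G) : G ⧸ 𝓜) := by
    intro e1
    apply huM
    have := QuotientGroup.eq.mp e1
    rw [mul_one] at this
    simpa using inv_mem this
  obtain ⟨g1, h1a, h1b⟩ := H.pretransitive hab hx1.symm
  set y := g1 * g * g1⁻¹ with hy
  have hy1 : y • ((1 : G) : G ⧸ 𝓜) = ((1 : G) : G ⧸ 𝓜) := by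
    rw [hy, mul_smul, mul_smul, ← h1a, inv_smul_smul, ha]
  have hyu : y • ((u : G) : G ⧸ 𝓜) = ((u : G) : G ⧸ 𝓜) := by
    rw [hy, mul_smul, mul_smul, ← h1b, inv_smul_smul, hb]
  set z := g1 • c with hz
  have hyz : y • z = z := by
    rw [hy, hz, mul_smul, mul_smul, inv_smul_smul, hc]
  have hz1 : z ≠ ((1 : G) : G ⧸ 𝓜) := by
    rw [hz, ← h1a]
    intro e
    exact hac (smul_left_cancel g1 e).symm
  have hzu : z ≠ ((u : G) : G ⧸ 𝓜) := by
    rw [hz, ← h1b]
    intro e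
    exact hbc (smul_left_cancel g1 e).symm
  have hyM : y ∈ 𝓜 := (smul_one_eq_iff y).mp hy1
  obtain ⟨s, hs, hsz⟩ := IsolatedCount.exists_smul_eq H.se H.le H.idx hx1 hz1
  have hsA : s ∈ A := by rw [← H.syl]; exact hs
  have hs1 : s ≠ 1 := by
    rintro rfl
    rw [one_smul] at hsz
    exact hzu hsz.symm
  have hcA : s⁻¹ * (y * s * y⁻¹) ∈ A := mul_mem (inv_mem hsA) (conj_mem hyM hsA)
  have hcx : (s⁻¹ * (y * s * y⁻¹)) • ((u : G) : G ⧸ 𝓜) = ((u : G) : G ⧸ 𝓜) := by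
    have h2 : y⁻¹ • ((u : G) : G ⧸ 𝓜) = ((u : G) : G ⧸ 𝓜) := by
      rw [inv_smul_eq_iff, hyu]
    rw [mul_smul, mul_smul, mul_smul, h2, hsz, hyz, ← hsz, inv_smul_smul]
  have hc1 := eq_one_of_smul_eq H.se H.le (show s⁻¹ * (y * s * y⁻¹) ∈ (S : Subgroup G) by
    rw [H.syl]; exact hcA) huM hcx
  have hys : y * s * y⁻¹ = s := by
    rw [inv_mul_eq_one] at hc1
    exact hc1.symm
  -- an involution which is a power of `s`
  have h2s : 2 ∣ orderOf s := by
    have := S.isPGroup'.dvd_orderOf (g := ⟨s, hs⟩) (fun h => hs1 (congrArg Subtype.val h))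
    rwa [Subgroup.orderOf_mk] at this
  obtain ⟨k, hk⟩ := h2s
  have hk0 : 0 < k := by
    have := orderOf_pos s
    omega
  have he2 : orderOf (s ^ k) = 2 := by
    rw [orderOf_pow_of_dvd (by omega) (by rw [hk]; exact dvd_mul_left _ _), hk]
    exact Nat.mul_div_cancel _ hk0
  have hye : y * s ^ k * y⁻¹ = s ^ k := by
    rw [← conj_pow, hys]
  have hy1' := H.eq_one hu huM hyM hyu (pow_mem hsA k) he2 hye
  have : g = g1⁻¹ * y * g1 := by rw [hy]; group
  rw [this, hy1']; group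

theorem Hyp.zassenhaus [IsSimpleGroup G] (H : Hyp A h S) :
    IsZassenhausGroup G (G ⧸ normalizer (A : Set G)) := by
  obtain ⟨u, huM, hu⟩ := exists_involution_notMem H.se
  have hx1 : ((u : G) : G ⧸ 𝓜) ≠ ((1 : G) : G ⧸ 𝓜) := by
    intro e1
    apply huM
    have := QuotientGroup.eq.mp e1
    rw [mul_one] at this
    simpa using inv_mem this
  refine ⟨?_, ?_, ?_, ?_, ?_⟩
  · -- faithful
    have hker : (MulAction.toPermHom G (G ⧸ 𝓜)).ker = ⊥ := by
      rcases IsSimpleGroup.eq_bot_or_eq_top_of_normal (MulAction.toPermHom G (G ⧸ 𝓜)).ker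
        inferInstance with h1 | h1
      · exact h1
      · exfalso
        apply H.ne
        rw [Subgroup.eq_top_iff']
        intro g
        have h2 : g ∈ (MulAction.toPermHom G (G ⧸ 𝓜)).ker := by rw [h1]; exact mem_top g
        have h3 := congrArg (fun f : Equiv.Perm (G ⧸ 𝓜) => f ((1 : G) : G ⧸ 𝓜))
          (MonoidHom.mem_ker.mp h2)
        exact (smul_one_eq_iff g).mp h3
    constructor
    intro g1 g2 hg
    have h1 : g2⁻¹ * g1 ∈ (MulAction.toPermHom G (G ⧸ 𝓜)).ker := by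
      rw [MonoidHom.mem_ker]
      ext x
      show (g2⁻¹ * g1) • x = x
      rw [mul_smul, hg x, inv_smul_smul]
    rw [hker, mem_bot, inv_mul_eq_one] at h1
    exact h1.symm
  · rw [MulAction.is_two_pretransitive_iff]
    intro a b c d hab hcd
    exact H.pretransitive hab hcd
  · intro g a b c hab hbc hac ha hb hc
    exact H.three g a b c hab hbc hac ha hb hc
  · -- a nontrivial element fixing two points
    have hlt : Nat.card (S : Subgroup G) < Nat.card 𝓜 := by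
      rw [H.card]
      obtain ⟨r, hr, hr'⟩ := card_invSub h
      have h3 : 2 ^ 2 ≤ 2 ^ r := Nat.pow_le_pow_right (by norm_num) hr
      have h4 : 0 < Nat.card (S : Subgroup G) := Nat.card_pos
      rw [hr']
      have h5 : 3 ≤ 2 ^ r - 1 := by omega
      nlinarith only [h4, h5]
    obtain ⟨m, hm, hmS⟩ : ∃ m ∈ 𝓜, m ∉ (S : Subgroup G) := by
      by_contra hcon
      push Not at hcon
      have : Nat.card 𝓜 ≤ Nat.card (S : Subgroup G) :=
        Nat.le_of_dvd Nat.card_pos (card_dvd_of_le hcon)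
      omega
    obtain ⟨s, hs, hsx⟩ := IsolatedCount.exists_smul_eq H.se H.le H.idx hx1 (smul_ne_one hm hx1)
    refine ⟨s⁻¹ * m, ?_, ((1 : G) : G ⧸ 𝓜), ((u : G) : G ⧸ 𝓜), hx1.symm, ?_, ?_⟩
    · intro e
      apply hmS
      rw [inv_mul_eq_one] at e
      rw [← e]; exact hs
    · exact (smul_one_eq_iff _).mpr (mul_mem (inv_mem (H.le hs)) hm)
    · rw [mul_smul, ← hsx, inv_smul_smul]
  · intro N hN hNt
    have hNtop : N = ⊤ := by
      rcases IsSimpleGroup.eq_bot_or_eq_top_of_normal N hN with h1 | h1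
      · exfalso
        obtain ⟨n, hn⟩ := hNt.exists_smul_eq ((1 : G) : G ⧸ 𝓜) ((u : G) : G ⧸ 𝓜)
        have h2 : (n : G) = 1 := mem_bot.mp (h1 ▸ n.2 : (n : G) ∈ (⊥ : Subgroup G))
        have h3 : (n : G) • ((1 : G) : G ⧸ 𝓜) = ((u : G) : G ⧸ 𝓜) := hn
        rw [h2, one_smul] at h3
        exact hx1 h3.symm
      · exact h1
    refine ⟨((1 : G) : G ⧸ 𝓜), ?_⟩
    intro hbot
    obtain ⟨z, hz, -, -, hz2, -, -⟩ := h.invs
    have hzN : z ∈ N := by rw [hNtop]; exact mem_top z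
    have h1 : (⟨z, hzN⟩ : N) ∈ MulAction.stabilizer N ((1 : G) : G ⧸ 𝓜) := by
      show z • ((1 : G) : G ⧸ 𝓜) = ((1 : G) : G ⧸ 𝓜)
      exact (smul_one_eq_iff z).mpr (le_normalizer hz)
    have h2 : (⟨z, hzN⟩ : N) = 1 := by
      have h3 := hbot ▸ h1
      exact mem_bot.mp h3
    exact ne_one_of_two hz2 (congrArg Subtype.val h2)

/-- The case of a Zassenhaus group of order prime to 3 is impossible. -/
theorem Hyp.false [IsSimpleGroup G] (H : Hyp A h S) (h3 : ¬ 3 ∣ Nat.card G) : False := by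
  obtain ⟨v, hvM, hv⟩ := exists_involution_notMem H.se
  have hvv := mul_self_of_orderOf hv
  have hvi := inv_eq_self_of_orderOf hv
  have hst : MulAction.stabilizer G ((1 : G) : G ⧸ normalizer (A : Set G)) =
      normalizer (A : Set G) := MulAction.stabilizer_quotient _
  obtain ⟨u, ⟨huA, hu1, hvu⟩, -⟩ := Cfsg.Agent.S1167.result
    (Ω := G ⧸ normalizer (A : Set G)) H.zassenhaus
    (a := ((1 : G) : G ⧸ normalizer (A : Set G))) A (by rw [hst]; exact le_normalizer)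
    (by rw [hst]; exact fun g hg a ha => conj_mem hg ha)
    (by
      intro c d hc hd
      obtain ⟨s, hs, hsd⟩ := IsolatedCount.exists_smul_eq H.se H.le H.idx hc hd
      refine ⟨⟨s, by rw [← H.syl]; exact hs⟩, hsd, ?_⟩
      rintro ⟨t, ht⟩ htd
      apply Subtype.ext
      show t = s
      have htd' : t • c = d := htd
      obtain ⟨g, rfl⟩ := QuotientGroup.mk_surjective c
      have hg : g ∉ normalizer (A : Set G) := by
        intro hg
        apply hc
        rw [QuotientGroup.eq, mul_one]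
        exact inv_mem hg
      have h5 : (s⁻¹ * t) • (g : G ⧸ normalizer (A : Set G)) =
          (g : G ⧸ normalizer (A : Set G)) := by
        rw [mul_smul, htd', ← hsd, inv_smul_smul]
      have h6 := eq_one_of_smul_eq H.se H.le (mul_mem (inv_mem hs)
        (show t ∈ (S : Subgroup G) by rw [H.syl]; exact ht)) hg h5
      rw [inv_mul_eq_one] at h6
      exact h6.symm)
    h.two (fun a ha b hb => h.comm a ha b hb) v (ne_one_of_two hv) hvv
    (by
      intro e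
      exact hvM ((smul_one_eq_iff v).mp e))
  -- `(v u)³ = v u² v`
  set w := v * u with hw
  have hw3 : w ^ 3 = v * (u * u) * v := by
    calc w ^ 3 = (v * u * v) * (u * v * u) := by rw [hw, pow_succ, pow_two]; group
      _ = (v * u * v) * (v * u * v) := by rw [hvu]
      _ = v * u * (v * v) * u * v := by group
      _ = v * (u * u) * v := by rw [hvv]; group
  -- `w` is a power of `w³`
  have hcop : Nat.Coprime 3 (orderOf w) := by
    rw [Nat.coprime_comm]
    apply Nat.Coprime.coprime_dvd_left (_root_.orderOf_dvd_natCard w)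
    rw [Nat.coprime_comm]
    exact (Nat.Prime.coprime_iff_not_dvd Nat.prime_three).mpr h3
  obtain ⟨k, hk⟩ := exists_pow_eq_self_of_coprime hcop
  have h4 : ∀ j : ℕ, (v * (u * u) * v) ^ j = v * (u * u) ^ j * v := by
    intro j
    have h5 := conj_pow (i := j) (a := v) (b := u * u)
    rw [hvi] at h5
    exact h5
  rw [hw3, h4] at hk
  -- hence `v ∈ A`
  have hvA : v ∈ A := by
    have h5 : u = (u * u) ^ k * v := by
      have h6 : v * (v * (u * u) ^ k * v) = v * (v * u) := by rw [hk, hw]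
      calc u = v * v * u := by rw [hvv, one_mul]
        _ = v * (v * u) := by group
        _ = v * (v * (u * u) ^ k * v) := h6.symm
        _ = (v * v) * (u * u) ^ k * v := by group
        _ = (u * u) ^ k * v := by rw [hvv, one_mul]
    have h6 : v = ((u * u) ^ k)⁻¹ * u := eq_inv_mul_of_mul_eq h5.symm
    rw [h6]
    exact mul_mem (inv_mem (pow_mem (mul_mem huA huA) k)) huA
  exact hvM (le_normalizer hvA)

end Cfsg.Agent.TIAbelian.IsolatedZassenhaus
end

-- part: TIAbelian/IsolatedSuzuki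
section
/-!
# Isolated abelian 2-subgroups: groups of Suzuki order
-/

set_option autoImplicit false

namespace Cfsg.Agent.TIAbelian.IsolatedSuzuki

open Subgroup Cfsg
open Cfsg.Agent.TwoFusion.StronglyEmbeddedBasic
open Cfsg.Agent.TIAbelian.IsolatedBasic
open Cfsg.Agent.TIAbelian.IsolatedCount

variable {G : Type*} [Group G] {A : Subgroup G}

/-- In a simple group the centralizer of a nontrivial element is proper. -/
theorem centralizer_ne_top [IsSimpleGroup G] (hM : normalizer (A : Set G) ≠ ⊤) {x : G}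
    (hx : x ≠ 1) : centralizer ({x} : Set G) ≠ ⊤ := by
  intro h
  have h1 : x ∈ center G := by
    rw [mem_center_iff]
    intro g
    have h2 : g ∈ centralizer ({x} : Set G) := by rw [h]; exact mem_top g
    exact mem_centralizer_singleton_iff.mp h2
  rcases IsSimpleGroup.eq_bot_or_eq_top_of_normal (center G) inferInstance with h2 | h2
  · rw [h2, mem_bot] at h1
    exact hx h1
  · apply hM
    rw [Subgroup.eq_top_iff']
    intro g
    rw [mem_normalizer_iff]
    intro a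
    have h3 : g ∈ center G := by rw [h2]; exact mem_top g
    rw [← mem_center_iff.mp h3 a, mul_inv_cancel_right]

/-- `x` and `y = g⁻¹ x g` do not both centralize `A` if `g ∉ N(A)`. -/
theorem no_common [Finite G] [IsSimpleGroup G] (h : Iso A) (hM : normalizer (A : Set G) ≠ ⊤)
    (hP : Prop' A) {x g : G} (hx1 : x ≠ 1) (hx : ∀ a ∈ A, x * a * x⁻¹ = a)
    (hg : g ∉ normalizer (A : Set G))
    (hxg : ∀ a ∈ A, (g⁻¹ * x * g) * a * (g⁻¹ * x * g)⁻¹ = a) : False := by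
  have h1 := hP.le h (centralizer_ne_top (A := A) hM hx1) (by
    intro a ha
    rw [mem_centralizer_singleton_iff]
    exact (mul_inv_eq_iff_eq_mul.mp (hx a ha)).symm)
  obtain ⟨z, hz, -, -, hz2, -, -⟩ := h.invs
  apply hg
  refine h.iso g z hz (ne_one_of_two hz2) (h1 ?_)
  rw [mem_centralizer_singleton_iff]
  have h2 := mul_inv_eq_iff_eq_mul.mp (hxg z hz)
  calc g * z * g⁻¹ * x = g * (z * (g⁻¹ * x * g)) * g⁻¹ := by group
    _ = g * ((g⁻¹ * x * g) * z) * g⁻¹ := by rw [h2]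
    _ = x * (g * z * g⁻¹) := by group

theorem coprime_two_pow_sub_one {r : ℕ} (hr : 1 ≤ r) (j : ℕ) :
    Nat.Coprime (2 ^ r - 1) (2 ^ j) := by
  apply Nat.Coprime.pow_right
  rw [Nat.coprime_two_right]
  have h1 : Even (2 ^ r) := by rw [Nat.even_pow]; exact ⟨even_two, by omega⟩
  exact Nat.Even.sub_odd Nat.one_le_two_pow h1 odd_one

theorem suzuki_false [Finite G] [IsSimpleGroup G] (h : Iso A) (hM : normalizer (A : Set G) ≠ ⊤)
    (hP : Prop' A) (hSE : IsStronglyEmbedded (normalizer (A : Set G)))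
    (hinv : ∀ t ∈ normalizer (A : Set G), orderOf t = 2 → t ∈ A)
    {S : Sylow 2 G} (hAS : A ≤ S) (hSM : (S : Subgroup G) ≤ normalizer (A : Set G))
    (hSz : IsSuzuki G) : False := by
  obtain ⟨-, m, hm, hcard⟩ := hSz
  obtain ⟨s, hs⟩ : ∃ s, s = 2 * m + 1 := ⟨_, rfl⟩
  rw [← hs] at hcard
  obtain ⟨q, hq⟩ : ∃ q, q = 2 ^ s := ⟨_, rfl⟩
  rw [← hq] at hcard
  have hq8 : 8 ≤ q := by
    rw [hq]
    calc 8 = 2 ^ 3 := by norm_num
      _ ≤ 2 ^ s := Nat.pow_le_pow_right (by norm_num) (by omega)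
  have hq2 : q ^ 2 = 2 ^ (2 * s) := by rw [hq, ← pow_mul, mul_comm]
  have hqe : Even q := by rw [hq, Nat.even_pow]; exact ⟨even_two, by omega⟩
  have hq1 : Odd (q - 1) := Nat.Even.sub_odd (by omega) hqe odd_one
  have hq2o : Odd (q ^ 2 + 1) := (hqe.pow_of_ne_zero (by norm_num)).add_one
  have hScard : Nat.card (S : Subgroup G) = q ^ 2 := by
    have := card_sylow S (a := 2 * s) (d := 1) (m := (q ^ 2 + 1) * (q - 1)) odd_one
      (hq2o.mul hq1) (by rw [hcard, mul_one, ← hq2]; ring)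
    rw [this, ← hq2]
  obtain ⟨k, hk⟩ := card_dvd_of_le hSM
  have hmul := (normalizer (A : Set G)).card_mul_index
  have hidx1 : 1 < (normalizer (A : Set G)).index := Subgroup.one_lt_index_of_ne_top hM
  have hdvd := card_dvd_index_sub_one hSE hSM
  rw [hScard] at hdvd hk
  obtain ⟨hn, hkq⟩ := arith (s := q ^ 2) (n := (normalizer (A : Set G)).index) (k := k) (d := 1)
    (l := q - 1) (by nlinarith only [hq8, Nat.sub_le q 1]) (by omega) hidx1 hdvd (by
      rw [hk, hcard] at hmul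
      have h1 : q ^ 2 * ((normalizer (A : Set G)).index * k) = q ^ 2 * ((q ^ 2 + 1) * (q - 1)) := by
        rw [← mul_assoc (q ^ 2) (q ^ 2 + 1), ← hmul]; ring
      rw [mul_one]
      exact Nat.eq_of_mul_eq_mul_left (by positivity) h1)
  rw [mul_one] at hkq
  obtain ⟨r, hr2, hr⟩ := card_invSub h
  have hdvd1 := card_invSub_sub_one_dvd h hM
  rw [hr, hk, hkq] at hdvd1
  have hdvd2 : 2 ^ r - 1 ∣ 2 ^ s - 1 := by
    rw [← hq]
    rw [hq2] at hdvd1
    exact (coprime_two_pow_sub_one (by omega) _).dvd_of_dvd_mul_left hdvd1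
  have hrs : r ∣ s := dvd_of_two_pow_sub_one_dvd (by omega) hdvd2
  have hrle : r ≤ s := Nat.le_of_dvd (by omega) hrs
  rcases hrle.lt_or_eq with hlt | heq
  · -- a primitive prime divisor
    obtain ⟨p, hp, hp1, -, hp2⟩ := Cfsg.Agent.Lib.Zsigmondy.exists_primitive (a := 2) (n := s)
      le_rfl (by omega) (by omega) (by omega)
    have hpne2 : p ≠ 2 := by rintro rfl; exact hp2 dvd_rfl
    have hpq : p ∣ q - 1 := by rw [hq]; exact (hp1 s).mpr dvd_rfl
    have hpM : p ∣ Nat.card (normalizer (A : Set G)) := by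
      rw [hk, hkq]; exact hpq.mul_left _
    have := Fact.mk hp
    obtain ⟨⟨x, hxM⟩, hx⟩ := exists_prime_orderOf_dvd_card' p hpM
    rw [Subgroup.orderOf_mk] at hx
    have hodd : Odd p := hp.odd_of_ne_two hpne2
    have hcent : ∀ y ∈ normalizer (A : Set G), orderOf y = p → ∀ a ∈ A, y * a * y⁻¹ = a := by
      intro y hyM hy
      refine commute_of_odd h hyM (by rw [hy]; exact hodd) ?_
      refine centralizes_of_prime h hr hp hpne2 ?_ hyM hy
      intro j hj hjr hpj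
      have := Nat.le_of_dvd hj ((hp1 j).mp hpj)
      omega
    obtain ⟨g, hg, hgx⟩ := exists_conj_mem hp hxM hx (by
      rw [hn, Nat.add_sub_cancel]
      intro h1
      have h2 := hp.dvd_of_dvd_pow h1
      have h3 : p ∣ 1 := by
        have h4 := (Nat.dvd_sub_iff_right (by omega) h2).mpr hpq
        have : q - (q - 1) = 1 := by (clear * - h hq hq8 hpne2; omega)
        rwa [this] at h4
      exact hp.one_lt.ne' (Nat.dvd_one.mp h3))
    have hx1 : x ≠ 1 := by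
      rintro rfl
      rw [orderOf_one] at hx
      exact hp.one_lt.ne hx
    refine no_common h hM hP hx1 (hcent x hxM hx) hg (hcent _ hgx ?_)
    have := orderOf_conj g⁻¹ x
    rw [inv_inv] at this
    rw [this, hx]
  · -- Zassenhaus group
    subst heq
    have hAcard : q ^ 2 ≤ Nat.card A := by
      have h1 := card_invSub_sq_dvd h hM
      rw [hr, ← hq, ← pow_two] at h1
      exact Nat.le_of_dvd Nat.card_pos h1
    have hSA : (S : Subgroup G) = A := by
      symm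
      apply Subgroup.eq_of_le_of_card_ge hAS
      rw [hScard]; exact hAcard
    have H : IsolatedZassenhaus.Hyp A h S := by
      refine ⟨hM, hSE, hinv, hSA, ?_, ?_⟩
      · rw [hn, hScard]
      · rw [hk, hkq, hScard, hr, ← hq]
    refine H.false ?_
    rw [hcard]
    have hq3 : q % 3 = 2 := by
      rw [hq, hs, pow_succ, pow_mul, Nat.mul_mod, Nat.pow_mod]
      norm_num
    obtain ⟨t, ht⟩ : ∃ t, q = 3 * t + 2 := ⟨q / 3, by omega⟩
    intro h3
    rw [Nat.prime_three.dvd_mul, Nat.prime_three.dvd_mul] at h3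
    rcases h3 with (h3 | h3) | h3
    · have := Nat.prime_three.dvd_of_dvd_pow h3
      omega
    · rw [ht] at h3
      have h4 : (3 * t + 2) ^ 2 + 1 = 3 * (3 * t ^ 2 + 4 * t + 1) + 2 := by ring
      rw [h4] at h3
      omega
    · (clear * - ht h3; omega)

end Cfsg.Agent.TIAbelian.IsolatedSuzuki
end

-- part: TIAbelian/IsolatedEmbedded
section
/-!
# Isolated abelian 2-subgroups of simple groups: the normalizer is strongly embedded

Conditional on S1175.
-/

set_option autoImplicit false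

namespace Cfsg.Agent.TIAbelian.IsolatedEmbedded

open Subgroup Cfsg
open Cfsg.Agent.TwoFusion.StronglyEmbeddedBasic
open Cfsg.Agent.TIAbelian.IsolatedBasic
open Cfsg.Agent.TIAbelian.IsolatedCount

variable {G : Type*} [Group G] {A : Subgroup G}

/-- A 2-subgroup containing `A` normalizes it. -/
theorem le_normalizer_of_le [Finite G] (h : Iso A) {T : Subgroup G} (hT : IsPGroup 2 T)
    (hAT : A ≤ T) : T ≤ normalizer (A : Set G) := by
  intro t ht
  by_contra hM
  obtain ⟨z, hz, -, -, hz2, -, -⟩ := h.invs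
  have h1 := h.odd_mul hz hz2 hz hz2 hM
  have hmem : z * (t * z * t⁻¹) ∈ T :=
    mul_mem (hAT hz) (mul_mem (mul_mem ht (hAT hz)) (inv_mem ht))
  obtain ⟨k, hk⟩ := hT ⟨_, hmem⟩
  have hk' : (z * (t * z * t⁻¹)) ^ 2 ^ k = 1 := congrArg Subtype.val hk
  have h2 : orderOf (z * (t * z * t⁻¹)) = 1 := by
    obtain ⟨j, -, hj⟩ := (Nat.dvd_prime_pow Nat.prime_two).mp (orderOf_dvd_of_pow_eq_one hk')
    rcases Nat.eq_zero_or_pos j with h0 | h0
    · rw [hj, h0, pow_zero]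
    · exfalso
      rw [hj, Nat.odd_pow_iff (by omega)] at h1
      exact absurd h1 (by decide)
  have h3 := orderOf_eq_one_iff.mp h2
  apply hM
  refine h.iso t z hz (ne_one_of_two hz2) ?_
  rw [(eq_inv_of_mul_eq_one_right h3 : t * z * t⁻¹ = z⁻¹)]
  exact inv_mem (le_normalizer hz)

/-- There is a Sylow 2-subgroup containing `A`; it normalizes `A`. -/
theorem exists_sylow [Finite G] (h : Iso A) :
    ∃ S : Sylow 2 G, A ≤ S ∧ (S : Subgroup G) ≤ normalizer (A : Set G) := by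
  obtain ⟨S, hS⟩ := h.two.exists_le_sylow
  exact ⟨S, hS, le_normalizer_of_le h S.isPGroup' hS⟩

/-- An involution of `A` central in a Sylow 2-subgroup. -/
theorem exists_central [Finite G] (h : Iso A) :
    ∃ z ∈ A, orderOf z = 2 ∧ ∃ S : Sylow 2 G, z ∈ S ∧ ∀ s ∈ S, Commute s z := by
  obtain ⟨S, hAS, hSM⟩ := exists_sylow h
  have hn : (A.subgroupOf (S : Subgroup G)).Normal := by
    constructor
    intro a ha s
    rw [mem_subgroupOf] at ha ⊢
    exact conj_mem (hSM s.2) ha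
  have hne : A.subgroupOf (S : Subgroup G) ≠ ⊥ := by
    obtain ⟨z, hz, -, -, hz2, -, -⟩ := h.invs
    intro e
    have h1 : (⟨z, hAS hz⟩ : (S : Subgroup G)) ∈ A.subgroupOf (S : Subgroup G) :=
      mem_subgroupOf.mpr hz
    rw [e, mem_bot] at h1
    exact ne_one_of_two hz2 (congrArg Subtype.val h1)
  obtain ⟨z, hz, hzc, hz2⟩ := Involutions.NormalFour.exists_mem_center_of_normal S.isPGroup'
    (A.subgroupOf (S : Subgroup G)) hne
  refine ⟨z, mem_subgroupOf.mp hz, by rwa [← Subgroup.orderOf_coe] at hz2, S, z.2, ?_⟩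
  intro s hs
  exact congrArg Subtype.val (mem_center_iff.mp hzc ⟨s, hs⟩)

/-- Existence of a strongly embedded subgroup (S1175). -/
theorem exists_stronglyEmbedded [Finite G] [IsSimpleGroup G] (h : Iso A)
    (hM : normalizer (A : Set G) ≠ ⊤) : ∃ H : Subgroup G, IsStronglyEmbedded H := by
  obtain ⟨z, hz, hz2, S, hzS, hSz⟩ := exists_central h
  have hz1 := ne_one_of_two hz2
  refine Cfsg.Agent.S1175.result (normalizer (A : Set G)) hM z hz2 (le_normalizer hz)
    ⟨S, hzS, hSz⟩ (fun g hg => h.iso g z hz hz1 hg) ?_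
  intro g hg hne
  have h1 : g * z * g⁻¹ ∈ normalizer (A : Set G) := h.mem_of_commute hz hz1 hg.eq.symm
  have h2 := h.iso g z hz hz1 h1
  have h3 : g * z * g⁻¹ ∈ A := conj_mem h2 hz
  have h4 : z * (g * z * g⁻¹) ≠ 1 := by
    intro e
    apply hne
    rw [(eq_inv_of_mul_eq_one_right e : g * z * g⁻¹ = z⁻¹), inv_eq_self_of_orderOf hz2]
  intro x hx
  rw [mem_centralizer_singleton_iff] at hx
  exact h.mem_of_commute (mul_mem hz h3) h4 hx

/-- All involutions of `N(A)` lie in `A`. -/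
theorem mem_of_involution [Finite G] (h : Iso A) {H : Subgroup G} (hH : IsStronglyEmbedded H)
    {t : G} (ht : t ∈ normalizer (A : Set G)) (ht2 : orderOf t = 2) : t ∈ A := by
  obtain ⟨z, hz, -, -, hz2, -, -⟩ := h.invs
  obtain ⟨g, hg⟩ := isConj_iff.mp (isConj_of_involutions hH z t hz2 ht2)
  have h1 := h.iso g z hz (ne_one_of_two hz2) (by rw [hg]; exact ht)
  rw [← hg]
  exact conj_mem h1 hz

theorem stronglyEmbedded [Finite G] (h : Iso A) (hM : normalizer (A : Set G) ≠ ⊤)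
    (hinv : ∀ t ∈ normalizer (A : Set G), orderOf t = 2 → t ∈ A) :
    IsStronglyEmbedded (normalizer (A : Set G)) := by
  refine ⟨hM, ?_, ?_⟩
  · obtain ⟨z, hz, -, -, hz2, -, -⟩ := h.invs
    rw [even_iff_two_dvd, ← hz2]
    have := _root_.orderOf_dvd_natCard (⟨z, le_normalizer hz⟩ : normalizer (A : Set G))
    rwa [Subgroup.orderOf_mk] at this
  · intro g hg
    by_contra hodd
    rw [Nat.not_odd_iff_even, even_iff_two_dvd] at hodd
    obtain ⟨⟨t, htmem⟩, ht⟩ := exists_prime_orderOf_dvd_card' 2 hodd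
    rw [Subgroup.orderOf_mk] at ht
    have htA := hinv t htmem.1 ht
    obtain ⟨u, huM, hut⟩ := htmem.2
    have hut' : g * u * g⁻¹ = t := hut
    have h1 : g⁻¹ * t * g⁻¹⁻¹ ∈ normalizer (A : Set G) := by
      have : g⁻¹ * t * g⁻¹⁻¹ = u := by rw [← hut']; group
      rw [this]; exact huM
    have h2 := h.iso g⁻¹ t htA (ne_one_of_two ht) h1
    exact hg (by simpa using inv_mem h2)

/-- The group is not abelian. -/
theorem not_comm (hM : normalizer (A : Set G) ≠ ⊤) : ∃ a b : G, a * b ≠ b * a := by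
  by_contra hcon
  push Not at hcon
  apply hM
  rw [Subgroup.eq_top_iff']
  intro g
  rw [mem_normalizer_iff]
  intro a
  rw [hcon g a, mul_inv_cancel_right]

end Cfsg.Agent.TIAbelian.IsolatedEmbedded
end

-- part: TIAbelian/IsolatedUnitary
section
/-!
# Isolated abelian 2-subgroups: `PSU₃(q)`
-/

set_option autoImplicit false

namespace Cfsg.Agent.TIAbelian.IsolatedUnitary

open Subgroup Cfsg
open Cfsg.Agent.TwoFusion.StronglyEmbeddedBasic
open Cfsg.Agent.TIAbelian.IsolatedBasic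
open Cfsg.Agent.TIAbelian.IsolatedCount
open Cfsg.Agent.TIAbelian.IsolatedEmbedded
open Cfsg.Agent.TIAbelian.IsolatedSuzuki

variable {G : Type*} [Group G] {A : Subgroup G}

theorem prop_conj [Finite G] (hP : Prop' A) (g : G) :
    Prop' (A.map (MulAut.conj g).toMonoidHom) := by
  intro X hX h2 h4
  obtain ⟨z, ⟨z0, hz0, rfl⟩, w, ⟨w0, hw0, rfl⟩, hz2, hw2, hzw, hzX, hwX⟩ := h2
  obtain ⟨a, ⟨a0, ha0, rfl⟩, ha4, haX⟩ := h4
  have hmem : ∀ x : G, x ∈ X.map (MulAut.conj g⁻¹).toMonoidHom ↔ g * x * g⁻¹ ∈ X := by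
    intro x
    constructor
    · rintro ⟨y, hy, rfl⟩
      have : g * ((MulAut.conj g⁻¹).toMonoidHom y) * g⁻¹ = y := by
        show g * (g⁻¹ * y * g⁻¹⁻¹) * g⁻¹ = y
        group
      rw [this]; exact hy
    · intro hx
      refine ⟨_, hx, ?_⟩
      show g⁻¹ * (g * x * g⁻¹) * g⁻¹⁻¹ = x
      group
  have hY : X.map (MulAut.conj g⁻¹).toMonoidHom ≠ ⊤ := by
    intro h
    apply hX
    rw [Subgroup.eq_top_iff']
    intro x
    have h1 : g⁻¹ * x * g ∈ X.map (MulAut.conj g⁻¹).toMonoidHom := by rw [h]; exact mem_top _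
    rw [hmem] at h1
    have h2 : g * (g⁻¹ * x * g) * g⁻¹ = x := by group
    rwa [h2] at h1
  have hord : ∀ y : G, orderOf ((MulAut.conj g).toMonoidHom y) = orderOf y :=
    fun y => orderOf_conj g y
  have h1 := hP _ hY ⟨z0, hz0, w0, hw0, by rwa [hord] at hz2, by rwa [hord] at hw2,
    fun e => hzw (by rw [e]), (hmem _).mpr hzX, (hmem _).mpr hwX⟩
    ⟨a0, ha0, by rwa [hord] at ha4, (hmem _).mpr haX⟩
  intro x hx
  rw [mem_normalizer_conj]
  apply h1
  rw [hmem]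
  have h2 : g * (g⁻¹ * x * g) * g⁻¹ = x := by group
  rwa [h2]

/-- `PSU₃(q)`: arithmetic. -/
theorem psu_r_le [Finite G] (h : Iso A) (hM : normalizer (A : Set G) ≠ ⊤)
    (hSE : IsStronglyEmbedded (normalizer (A : Set G)))
    {S : Sylow 2 G} (hAS : A ≤ S) (hSM : (S : Subgroup G) ≤ normalizer (A : Set G))
    {F : Type} [Field F] [Fintype F] {q n : ℕ} (hF : Fintype.card F = q ^ 2) (hn : 2 ≤ n)
    (hq : q = 2 ^ n) (e : G ≃* Cfsg.PSU 3 F q) : Nat.card (invSub h) ≤ q := by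
  have hcard0 := Cfsg.Agent.S0280.result hF 3 (by norm_num)
  have hprod : ∏ i ∈ Finset.range 3, (if Even i then q ^ (i + 1) + 1 else q ^ (i + 1) - 1) =
      (q + 1) * (q ^ 2 - 1) * (q ^ 3 + 1) := by
    rw [Finset.prod_range_succ, Finset.prod_range_succ, Finset.prod_range_succ,
      Finset.prod_range_zero]
    simp only [_root_.Even.zero, ↓ _root_.reduceIte, _root_.zero_add, _root_.pow_one, _root_.one_mul, _root_.Nat.not_even_one, _root_.Nat.reduceAdd, _root_.even_two]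
  rw [hprod, ← Nat.card_congr e.toEquiv] at hcard0
  have hq4 : 4 ≤ q := by
    rw [hq]
    calc 4 = 2 ^ 2 := by norm_num
      _ ≤ 2 ^ n := Nat.pow_le_pow_right (by norm_num) hn
  obtain ⟨d, hd⟩ : ∃ d, d = Nat.gcd 3 (q + 1) := ⟨_, rfl⟩
  rw [← hd] at hcard0
  have hcard : Nat.card G * d = q ^ 3 * ((q ^ 2 - 1) * (q ^ 3 + 1)) := by
    have h1 : (q + 1) * (Nat.card G * d) = (q + 1) * (q ^ 3 * ((q ^ 2 - 1) * (q ^ 3 + 1))) := by
      calc (q + 1) * (Nat.card G * d) = d * ((q + 1) * Nat.card G) := by ring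
        _ = q ^ (3 * (3 - 1) / 2) * ((q + 1) * (q ^ 2 - 1) * (q ^ 3 + 1)) := hcard0
        _ = q ^ 3 * ((q + 1) * (q ^ 2 - 1) * (q ^ 3 + 1)) := by norm_num
        _ = (q + 1) * (q ^ 3 * ((q ^ 2 - 1) * (q ^ 3 + 1))) := by ring
    exact Nat.eq_of_mul_eq_mul_left (by omega) h1
  have hdodd : Odd d := by
    have h1 : d ∣ 3 := by rw [hd]; exact Nat.gcd_dvd_left _ _
    exact Odd.of_dvd_nat (by decide) h1
  have hqe : Even q := by rw [hq, Nat.even_pow]; exact ⟨even_two, by omega⟩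
  have hq2o : Odd (q ^ 2 - 1) := Nat.Even.sub_odd (Nat.one_le_pow _ _ (by omega))
    (hqe.pow_of_ne_zero (by norm_num)) odd_one
  have hq3o : Odd (q ^ 3 + 1) := (hqe.pow_of_ne_zero (by norm_num)).add_one
  have hq3 : q ^ 3 = 2 ^ (3 * n) := by rw [hq, ← pow_mul, mul_comm]
  have hq2 : q ^ 2 = 2 ^ (2 * n) := by rw [hq, ← pow_mul, mul_comm]
  have hScard : Nat.card (S : Subgroup G) = q ^ 3 := by
    have := card_sylow S (a := 3 * n) (d := d) (m := (q ^ 2 - 1) * (q ^ 3 + 1)) hdodd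
      (hq2o.mul hq3o) (by rw [hcard, ← hq3])
    rw [this, ← hq3]
  obtain ⟨k, hk⟩ := card_dvd_of_le hSM
  have hmul := (normalizer (A : Set G)).card_mul_index
  have hidx1 : 1 < (normalizer (A : Set G)).index := Subgroup.one_lt_index_of_ne_top hM
  have hdvd := card_dvd_index_sub_one hSE hSM
  rw [hScard] at hdvd hk
  have hq2pos : 0 < q ^ 2 - 1 := hq2o.pos
  have hq23 : q ^ 2 - 1 < q ^ 3 := by
    have : q ^ 2 ≤ q ^ 3 := Nat.pow_le_pow_right (by omega) (by norm_num)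
    omega
  obtain ⟨hidx, hkd⟩ := arith (s := q ^ 3) (n := (normalizer (A : Set G)).index) (k := k) (d := d)
    (l := q ^ 2 - 1) hq23 hq2pos hidx1 hdvd (by
      have h1 : q ^ 3 * ((normalizer (A : Set G)).index * k * d) =
          q ^ 3 * ((q ^ 3 + 1) * (q ^ 2 - 1)) := by
        rw [mul_comm (q ^ 3 + 1), ← hcard, ← hmul, hk]; ring
      exact Nat.eq_of_mul_eq_mul_left (by positivity) h1)
  obtain ⟨r, hr2, hr⟩ := card_invSub h
  have hdvd1 := card_invSub_sub_one_dvd h hM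
  rw [hr, hk, hq3] at hdvd1
  have hdvd2 : 2 ^ r - 1 ∣ 2 ^ (2 * n) - 1 := by
    rw [← hq2, ← hkd]
    exact ((coprime_two_pow_sub_one (by omega) _).dvd_of_dvd_mul_left hdvd1).mul_right d
  obtain ⟨c, hc⟩ := dvd_of_two_pow_sub_one_dvd (by omega) hdvd2
  have h2r : 2 * r ≤ 3 * n := by
    have h1 := (card_invSub_sq_dvd h hM).trans (card_dvd_of_le hAS)
    rw [hr, hScard, hq3, ← pow_add] at h1
    have := (Nat.pow_dvd_pow_iff_le_right (by norm_num)).mp h1
    omega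
  have hrn : r ≤ n := by
    have hc2 : 2 ≤ c := by
      by_contra hlt
      have : c = 0 ∨ c = 1 := by omega
      rcases this with rfl | rfl
      · omega
      · omega
    nlinarith only [hc, hc2]
  rw [hr, hq]
  exact Nat.pow_le_pow_right (by norm_num) hrn

/-- `PSU₃(q)`: the case that `S` contains the elementary abelian group of the configuration. -/
theorem psu_core [Finite G] [IsSimpleGroup G] (h : Iso A) (hM : normalizer (A : Set G) ≠ ⊤)
    (hP : Prop' A) (hinv : ∀ t ∈ normalizer (A : Set G), orderOf t = 2 → t ∈ A)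
    {S : Sylow 2 G} (hSM : (S : Subgroup G) ≤ normalizer (A : Set G))
    {q : ℕ} (hqe : Even q) (hle : Nat.card (invSub h) ≤ q) {E : Subgroup G} (hES : E ≤ S)
    (hE : Nat.card E = q) (hE2 : ∀ x ∈ E, x * x = 1) {w t : G} (hw1 : w ≠ 1)
    (hwq : w ^ (q + 1) = 1) (hwE : ∀ x ∈ E, w * x = x * w) (ht2 : t * t = 1)
    (hwt : w * t = t * w) (hxt : ∃ x ∈ E, x * t ≠ t * x) : False := by
  have hEle : E ≤ invSub h := by
    intro x hx
    refine ⟨?_, hE2 x hx⟩
    by_cases hx1 : x = 1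
    · rw [hx1]; exact one_mem _
    · exact hinv x (hSM (hES hx)) (orderOf_eq_two_of_mul_self (hE2 x hx) hx1)
  have hEeq : E = invSub h := by
    apply Subgroup.eq_of_le_of_card_ge hEle
    rw [hE]; exact hle
  obtain ⟨z, hz, -, -, hz2, -, -⟩ := h.invs
  have hzE : z ∈ E := by rw [hEeq]; exact ⟨hz, mul_self_of_orderOf hz2⟩
  have hwM : w ∈ normalizer (A : Set G) := h.mem_of_commute hz (ne_one_of_two hz2) (hwE z hzE)
  have hwodd : Odd (orderOf w) :=
    Odd.of_dvd_nat hqe.add_one (orderOf_dvd_of_pow_eq_one hwq)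
  have hwA := commute_of_odd h hwM hwodd (by
    intro e he he2
    have h1 : e ∈ E := by rw [hEeq]; exact ⟨he, he2⟩
    rw [hwE e h1, mul_inv_cancel_right])
  have h1 := hP.le h (centralizer_ne_top (A := A) hM hw1) (by
    intro a ha
    rw [mem_centralizer_singleton_iff]
    exact (mul_inv_eq_iff_eq_mul.mp (hwA a ha)).symm)
  obtain ⟨x, hx, hxt'⟩ := hxt
  have htM : t ∈ normalizer (A : Set G) := h1 (by
    rw [mem_centralizer_singleton_iff]
    exact hwt.symm)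
  have ht1 : t ≠ 1 := by
    rintro rfl
    exact hxt' (by rw [mul_one, one_mul])
  have htA : t ∈ A := hinv t htM (orderOf_eq_two_of_mul_self ht2 ht1)
  exact hxt' (h.comm x (hEle hx).1 t htA)

theorem psu_false [Finite G] [IsSimpleGroup G] (h : Iso A) (hM : normalizer (A : Set G) ≠ ⊤)
    (hP : Prop' A) (hSE : IsStronglyEmbedded (normalizer (A : Set G)))
    {F : Type} [Field F] [Fintype F] {q : ℕ} (hF : Fintype.card F = q ^ 2) (hqe : Even q)
    (hq4 : 4 ≤ q) (e : G ≃* Cfsg.PSU 3 F q) : False := by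
  obtain ⟨n, hn, hqn⟩ := Cfsg.Agent.LieExceptional.PSUThreeWitness.exists_pow_two hF hqe hq4
  obtain ⟨E0, w0, t0, hE0, hE02, hw0, hwq, hwE, ht2, hwt, x0, hx0, hxt⟩ :=
    IsolatedPSU.exists_config F hF hqe hq4
  set E : Subgroup G := E0.map e.symm.toMonoidHom with hE
  have hEcard : Nat.card E = q := by
    rw [hE, Subgroup.card_map_of_injective e.symm.injective, hE0]
  have hEp : IsPGroup 2 E := IsPGroup.of_card (n := n) (by rw [hEcard, hqn])
  obtain ⟨T, hET⟩ := hEp.exists_le_sylow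
  obtain ⟨S, hAS, hSM⟩ := exists_sylow h
  obtain ⟨g, hg⟩ := MulAction.exists_smul_eq G S T
  set A' := A.map (MulAut.conj g).toMonoidHom with hA'
  have h' : Iso A' := h.conj g
  have hA'T : A' ≤ T := by
    rintro _ ⟨a, ha, rfl⟩
    rw [← hg]
    exact ⟨a, hAS ha, rfl⟩
  have hTM : (T : Subgroup G) ≤ normalizer (A' : Set G) :=
    le_normalizer_of_le h' T.isPGroup' hA'T
  have hM' : normalizer (A' : Set G) ≠ ⊤ := by
    intro htop
    apply hM
    rw [Subgroup.eq_top_iff']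
    intro x
    have h1 : g * x * g⁻¹ ∈ normalizer (A' : Set G) := by rw [htop]; exact mem_top _
    rw [hA', mem_normalizer_conj] at h1
    have h2 : g⁻¹ * (g * x * g⁻¹) * g = x := by group
    rwa [h2] at h1
  have hinv' : ∀ t ∈ normalizer (A' : Set G), orderOf t = 2 → t ∈ A' := fun t ht ht2 =>
    mem_of_involution h' hSE ht ht2
  have hSE' := stronglyEmbedded h' hM' hinv'
  refine psu_core h' hM' (prop_conj hP g) hinv' hTM hqe
    (psu_r_le h' hM' hSE' hA'T hTM hF hn hqn e) hET hEcard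
    (w := e.symm w0) (t := e.symm t0) ?_ ?_ ?_ ?_ ?_ ?_ ?_
  · rintro _ ⟨x, hx, rfl⟩
    show e.symm x * e.symm x = 1
    rw [← map_mul, hE02 x hx, map_one]
  · intro h1
    apply hw0
    rw [← e.apply_symm_apply w0, h1, map_one]
  · rw [← map_pow, hwq, map_one]
  · rintro _ ⟨x, hx, rfl⟩
    show e.symm w0 * e.symm x = e.symm x * e.symm w0
    rw [← map_mul, hwE x hx, map_mul]
  · rw [← map_mul, ht2, map_one]
  · rw [← map_mul, hwt, map_mul]
  · refine ⟨e.symm x0, ⟨x0, hx0, rfl⟩, ?_⟩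
    intro h1
    apply hxt
    rw [← map_mul, ← map_mul] at h1
    exact e.symm.injective h1

end Cfsg.Agent.TIAbelian.IsolatedUnitary
end

-- part: TIAbelian/IsolatedMain
section
/-!
# Isolated abelian 2-subgroups

`G` finite, `A ≤ G` an abelian 2-subgroup, neither cyclic nor elementary abelian, such that
`A ∩ g⁻¹ N(A) g = 1` for all `g ∉ N(A)`. Then `A` is normal in `G`.
(Conditional on S1175 and S0222.)
-/

set_option autoImplicit false

namespace Cfsg.Agent.TIAbelian.IsolatedMain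

open Subgroup Cfsg
open Cfsg.Agent.TwoFusion.StronglyEmbeddedBasic
open Cfsg.Agent.TIAbelian.IsolatedBasic
open Cfsg.Agent.TIAbelian.IsolatedCount
open Cfsg.Agent.TIAbelian.IsolatedEmbedded

universe u

theorem simple_case (G : Type u) [Group G] [Finite G] [IsSimpleGroup G] (A : Subgroup G)
    (h : Iso A) (hM : normalizer (A : Set G) ≠ ⊤) (hP : Prop' A) : False := by
  obtain ⟨H, hH⟩ := exists_stronglyEmbedded h hM
  have hinv : ∀ t ∈ normalizer (A : Set G), orderOf t = 2 → t ∈ A := fun t ht ht2 =>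
    mem_of_involution h hH ht ht2
  have hSE := stronglyEmbedded h hM hinv
  obtain ⟨S, hAS, hSM⟩ := exists_sylow h
  rcases Cfsg.Agent.S0222.result (not_comm hM) H hH with
    ⟨F, hField, hFin, hch, -, ⟨e⟩⟩ | hSz | ⟨F, hField, hFin, q, hF, hqe, hq4, ⟨e⟩⟩
  · obtain ⟨a, -, ha4⟩ := h.four
    exact IsolatedPSL.orderOf_ne_four (e a) (by rw [MulEquiv.orderOf_eq, ha4])
  · exact IsolatedSuzuki.suzuki_false h hM hP hSE hinv hAS hSM hSz
  · exact IsolatedUnitary.psu_false h hM hP hSE hF hqe hq4 e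

/-- The theorem on isolated abelian 2-subgroups. -/
theorem normalizer_eq_top {G : Type u} [Group G] [Finite G] {A : Subgroup G} (h : Iso A) :
    normalizer (A : Set G) = ⊤ :=
  main_of_simple simple_case (Nat.card G) G A rfl h

/-- An abelian 2-subgroup which is neither cyclic nor elementary abelian and is isolated is `Iso`. -/
theorem iso_of {G : Type*} [Group G] [Finite G] {A : Subgroup G}
    (hcomm : ∀ a ∈ A, ∀ b ∈ A, a * b = b * a) (h2 : IsPGroup 2 A) (hcyc : ¬ IsCyclic A)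
    (hel : ¬ ∀ a ∈ A, a ^ 2 = 1)
    (hiso : ∀ g : G, ∀ a ∈ A, a ≠ 1 → g * a * g⁻¹ ∈ normalizer (A : Set G) →
      g ∈ normalizer (A : Set G)) : Iso A := by
  refine ⟨hcomm, h2, hiso, ?_, ?_⟩
  · by_contra hcon
    push Not at hcon
    apply hcyc
    obtain ⟨a, -, ha⟩ := Involutions.NormalFour.exists_generator h2 (⊤ : Subgroup A)
      (fun a _ b _ => Subtype.ext (hcomm a a.2 b b.2)) (by
        intro x _ y _ hx hy
        apply Subtype.ext
        exact hcon x x.2 y y.2 (by rwa [Subgroup.orderOf_coe]) (by rwa [Subgroup.orderOf_coe]))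
    exact ⟨a, fun x => ha x (mem_top x)⟩
  · push Not at hel
    obtain ⟨b, hb, hb2⟩ := hel
    obtain ⟨k, hk⟩ := h2 ⟨b, hb⟩
    have hk' : b ^ 2 ^ k = 1 := congrArg Subtype.val hk
    obtain ⟨j, hj⟩ := (Nat.dvd_prime_pow Nat.prime_two).mp (orderOf_dvd_of_pow_eq_one hk')
    have hj2 : 2 ≤ j := by
      by_contra hlt
      apply hb2
      have : orderOf b ∣ 2 := by
        rw [hj.2]
        calc 2 ^ j ∣ 2 ^ 1 := pow_dvd_pow 2 (by omega)
          _ = 2 := by norm_num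
      exact orderOf_dvd_iff_pow_eq_one.mp this
    refine ⟨b ^ 2 ^ (j - 2), pow_mem hb _, ?_⟩
    rw [orderOf_pow_of_dvd (by positivity) (by rw [hj.2]; exact pow_dvd_pow 2 (by omega)), hj.2,
      Nat.pow_div (by omega) (by norm_num)]
    have : j - (j - 2) = 2 := by omega
    rw [this]

/-- Version with explicit hypotheses. -/
theorem normalizer_eq_top' {G : Type*} [Group G] [Finite G] {A : Subgroup G}
    (hcomm : ∀ a ∈ A, ∀ b ∈ A, a * b = b * a) (h2 : IsPGroup 2 A) (hcyc : ¬ IsCyclic A)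
    (hel : ¬ ∀ a ∈ A, a ^ 2 = 1)
    (hiso : ∀ g : G, ∀ a ∈ A, a ≠ 1 → g * a * g⁻¹ ∈ normalizer (A : Set G) →
      g ∈ normalizer (A : Set G)) : normalizer (A : Set G) = ⊤ :=
  normalizer_eq_top (iso_of hcomm h2 hcyc hel hiso)

end Cfsg.Agent.TIAbelian.IsolatedMain
end

-- part: TIAbelian/CaseBInst
section
set_option autoImplicit false

namespace Cfsg.Agent.TIAbelian.CaseBInst

open Cfsg
open Cfsg.Agent.TIAbelian.PairBase hiding TIFam
open Cfsg.Agent.TIAbelian.CaseBBase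
open Cfsg.Agent.TIAbelian.CaseBGeo
open Cfsg.Agent.TIAbelian.CaseBLoc (Loc)
open Cfsg.Agent.TIAbelian.CaseB2

variable {G : Type*} [Group G]

/-- `cj x (cj y C) = cj y C ↔ cj (y⁻¹ x y) C = C`. -/
theorem cj_move (y x : G) (C : Subgroup G) : cj x (cj y C) = cj y C ↔ cj (y⁻¹ * x * y) C = C := by
  constructor
  · intro h1
    apply cj_inj (g := y)
    rw [cj_cj]
    have : y * (y⁻¹ * x * y) = x * y := by simp [mul_assoc]
    rw [this, ← cj_cj, h1]
  · intro h1
    rw [cj_cj]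
    have : x * y = y * (y⁻¹ * x * y) := by simp [mul_assoc]
    rw [this, ← cj_cj, h1]

theorem isPGroup_cj {H : Subgroup G} (hH : IsPGroup 2 ↥H) (g : G) : IsPGroup 2 ↥(cj g H) :=
  hH.map _

theorem cj_ne_bot {H : Subgroup G} (hH : H ≠ ⊥) (g : G) : cj g H ≠ ⊥ := by
  intro h0
  apply hH
  rw [Subgroup.eq_bot_iff_forall] at h0 ⊢
  intro x hx
  have := h0 _ (conj_mem_cj (g := g) hx)
  have h1 := congrArg (fun t => g⁻¹ * t * g) this
  simpa [mul_assoc] using h1

/-- Transport of the local data by conjugation. -/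
theorem loc_cj {P : Set (Subgroup G)} (h : Fam P) {A Q : Subgroup G} (hl : Loc P A Q) (g : G) :
    Loc P (cj g A) (cj g Q) where
  le := by
    intro q hq
    rw [mem_cj] at hq
    rw [cj_move]
    exact hl.le _ hq
  two := isPGroup_cj hl.two g
  norm := by
    intro x hx
    rw [cj_move] at hx ⊢
    exact hl.norm _ hx
  max2 := by
    intro R hR h1 h2 r hr
    rw [mem_cj]
    have h3 := hl.max2 (cj g⁻¹ R) (isPGroup_cj hR _) ?_ ?_
    · apply h3
      have := conj_mem_cj (g := g⁻¹) hr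
      simpa using this
    · intro s hs
      rw [mem_cj] at hs
      have := h1 _ hs
      rw [cj_move] at this
      simpa [mul_assoc] using this
    · intro x hx
      rw [cj_move]
      apply h2
      rw [cj_move]
      simpa [mul_assoc] using hx
  sq := by
    intro B hB h1 b hb
    rw [mem_cj]
    have h2 := hl.sq (cj g⁻¹ B) (h.conj B hB _) ?_ (g⁻¹ * b * g) ?_
    · have : g⁻¹ * (b * b) * g = g⁻¹ * b * g * (g⁻¹ * b * g) := by simp only [mul_assoc, _root_.mul_inv_cancel_left]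
      rwa [this]
    · intro s hs
      rw [mem_cj] at hs
      have := h1 _ hs
      rw [cj_move] at this
      simpa [mul_assoc] using this
    · have := conj_mem_cj (g := g⁻¹) hb
      simpa using this
  bs := by
    intro e he hee heQ
    rw [cj_move] at he
    obtain ⟨x, hx, hx1, hxo, hxe⟩ := hl.bs (g⁻¹ * e * g) he (by
      have : g⁻¹ * e * g * (g⁻¹ * e * g) = g⁻¹ * (e * e) * g := by simp only [mul_assoc, _root_.mul_inv_cancel_left]
      rw [this, hee]
      simp) (fun h0 => heQ (mem_cj.2 h0))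
    refine ⟨g * x * g⁻¹, ?_, ?_, ?_, ?_⟩
    · rw [cj_move]
      simpa [mul_assoc] using hx
    · intro h0
      apply hx1
      have h1 := congrArg (fun t => g⁻¹ * t * g) h0
      simpa [mul_assoc] using h1
    · have : orderOf (g * x * g⁻¹) = orderOf x := by
        have := orderOf_injective (MulAut.conj g).toMonoidHom (MulAut.conj g).injective x
        simpa using this
      rwa [this]
    · have h1 := congrArg (fun t => g * t * g⁻¹) hxe
      simpa only [mul_assoc, _root_.mul_inv_rev, _root_.inv_inv, _root_.mul_inv_cancel_left, _root_.mul_inv_cancel, _root_.mul_one] using h1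
  max := by
    intro R hR hR1 h1 x hx
    rw [cj_move]
    apply hl.max (cj g⁻¹ R) (isPGroup_cj hR _) (cj_ne_bot hR1 _)
    · intro y hy
      rw [cj_move]
      apply h1
      rw [cj_move]
      simpa [mul_assoc] using hy
    · rw [cj_move]
      simpa [mul_assoc] using hx

/-- The local data at `A`. -/
theorem loc_self [Finite G] {P : Set (Subgroup G)} (h : Fam P) {M A : Subgroup G}
    (hM : IsMaximalTwoLocal M) (hMc : IsOfCharacteristicTwo ↥M)
    (hN : ∀ g : G, g ∈ M ↔ cj g A = A) :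
    Loc P A ((pCore 2 ↥M).map M.subtype) := by
  have h2 : Fact (Nat.Prime 2) := ⟨Nat.prime_two⟩
  have hQn : (pCore 2 ↥M).Normal := Cfsg.Agent.Lib.Cores.pCore_normal 2
  have hQp : IsPGroup 2 (pCore 2 ↥M) := Cfsg.Agent.Lib.Cores.pCore_isPGroup 2
  have hcj : ∀ g : G, g ∈ M → cj g ((pCore 2 ↥M).map M.subtype) = (pCore 2 ↥M).map M.subtype := by
    have h3 : ∀ g : G, g ∈ M → ∀ x ∈ (pCore 2 ↥M).map M.subtype,
        g * x * g⁻¹ ∈ (pCore 2 ↥M).map M.subtype := by
      rintro g hg _ ⟨x, hx, rfl⟩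
      exact ⟨⟨g, hg⟩ * x * ⟨g, hg⟩⁻¹, hQn.conj_mem x hx ⟨g, hg⟩, rfl⟩
    intro g hg
    ext x
    rw [mem_cj]
    constructor
    · intro hx
      have := h3 g hg _ hx
      simpa only [mul_assoc, _root_.Subgroup.mem_map, _root_.Subgroup.subtype_apply, _root_.Subtype.exists, _root_.exists_and_right, _root_.exists_eq_right, _root_.mul_inv_cancel_left, _root_.mul_inv_cancel, _root_.mul_one] using this
    · intro hx
      have := h3 g⁻¹ (M.inv_mem hg) _ hx
      simpa only [_root_.Subgroup.mem_map, _root_.Subgroup.subtype_apply, _root_.Subtype.exists, _root_.exists_and_right, _root_.exists_eq_right, _root_.inv_inv] using this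
  refine ⟨?_, ?_, ?_, ?_, ?_, ?_, ?_⟩
  · rintro _ ⟨x, hx, rfl⟩
    exact (hN _).1 x.2
  · exact hQp.map _
  · intro g hg
    exact hcj g ((hN g).2 hg)
  · intro R hR h1 h3 r hr
    have hRM : R ≤ M := fun r hr => (hN r).2 (h1 r hr)
    have h4 : (R.subgroupOf M).Normal := by
      refine ⟨fun x hx g => ?_⟩
      rw [Subgroup.mem_subgroupOf] at hx ⊢
      have := conj_mem_of_cj (h3 g ((hN _).1 g.2)) hx
      simpa only [_root_.Subgroup.coe_mul, _root_.InvMemClass.coe_inv] using this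
    have h5 : IsPGroup 2 (R.subgroupOf M) := hR.comap_of_injective M.subtype M.subtype_injective
    exact ⟨⟨r, hRM hr⟩, Cfsg.Agent.Lib.Cores.le_pCore h4 h5 (Subgroup.mem_subgroupOf.2 hr), rfl⟩
  · intro B hB h1 b hb
    have hBM : B ≤ M := fun b hb => (hN b).2 (h1 b hb)
    have h3 := (Cfsg.Agent.S1783.result (X := ↥M)
      (Cfsg.Agent.SignalizersComponents.FStarPCore.generalizedFitting_eq_pCore_of_centralizer_le
        hQn hQp hMc) (B.subgroupOf M) ?_ ?_ ?_).1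
    · refine ⟨⟨b * b, B.mul_mem hb hb |> fun h => hBM h⟩, ?_, rfl⟩
      apply h3
      apply Subgroup.subset_closure
      refine ⟨⟨b, hBM hb⟩, Subgroup.mem_subgroupOf.2 hb, ?_⟩
      apply Subtype.ext
      simp [pow_two]
    · have hB2 : IsPGroup 2 ↥B := by
        intro x
        obtain ⟨n, hn⟩ := h.two B hB x x.2
        exact ⟨n, Subtype.ext (by simpa only [_root_.SubmonoidClass.coe_pow, _root_.OneMemClass.coe_one] using hn)⟩
      exact hB2.comap_of_injective M.subtype M.subtype_injective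
    · refine ⟨⟨?_⟩⟩
      rintro ⟨x, hx⟩ ⟨y, hy⟩
      rw [Subgroup.mem_subgroupOf] at hx hy
      apply Subtype.ext
      apply Subtype.ext
      exact h.comm B hB _ hx _ hy
    · intro m
      by_cases h4 : (B.subgroupOf M).map (MulAut.conj m).toMonoidHom ⊓ B.subgroupOf M = ⊥
      · exact Or.inr h4
      · left
        obtain ⟨x, hx0⟩ := Subgroup.ne_bot_iff_exists_ne_one.1 h4
        have hx1 : (x : ↥M) ≠ 1 := fun h0 => hx0 (Subtype.ext h0)
        obtain ⟨⟨y, hy, hyx⟩, hxB⟩ := x.2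
        have h5 : cj (m : G) B = B := by
          refine h.norm_of_conj hB (Subgroup.mem_subgroupOf.1 hy) ?_ ?_
          · intro h0
            apply hx1
            rw [← hyx]
            have : y = 1 := Subtype.ext h0
            rw [this]
            simp only [_root_.MulEquiv.toMonoidHom_eq_coe, _root_.MonoidHom.coe_coe, _root_.MulAut.conj_apply, _root_.mul_one, _root_.mul_inv_cancel]
          · have h6 := Subgroup.mem_subgroupOf.1 hxB
            rw [← hyx] at h6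
            simpa only [_root_.MulEquiv.toMonoidHom_eq_coe, _root_.MonoidHom.coe_coe, _root_.MulAut.conj_apply, _root_.Subgroup.coe_mul, _root_.InvMemClass.coe_inv] using h6
        ext z
        constructor
        · rintro ⟨w, hw, rfl⟩
          rw [Subgroup.mem_subgroupOf]
          have := conj_mem_of_cj h5 (Subgroup.mem_subgroupOf.1 hw)
          simpa only [_root_.MulEquiv.toMonoidHom_eq_coe, _root_.MonoidHom.coe_coe, _root_.MulAut.conj_apply, _root_.Subgroup.coe_mul, _root_.InvMemClass.coe_inv] using this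
        · intro hz
          have := conj_mem_of_cj' h5 (Subgroup.mem_subgroupOf.1 hz)
          refine ⟨m⁻¹ * z * m, ?_, by simp only [mul_assoc, _root_.MulEquiv.toMonoidHom_eq_coe, _root_.MonoidHom.coe_coe, _root_.MulAut.conj_apply, _root_.mul_inv_cancel_left, _root_.mul_inv_cancel, _root_.mul_one]⟩
          show m⁻¹ * z * m ∈ B.subgroupOf M
          rw [Subgroup.mem_subgroupOf]
          simpa only [_root_.Subgroup.coe_mul, _root_.InvMemClass.coe_inv] using this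
  · intro e he hee heQ
    have heM := (hN e).2 he
    obtain ⟨x, hx1, hxo, hxe⟩ := Cfsg.Agent.Involutions.BaerSuzuki.exists_odd_inverted
      (⟨e, heM⟩ : ↥M) (Subtype.ext hee) (by
        intro h0
        apply heQ
        exact ⟨⟨e, heM⟩, Cfsg.Agent.Lib.Cores.le_pCore inferInstance h0
          (Subgroup.subset_normalClosure rfl), rfl⟩)
    refine ⟨x, (hN _).1 x.2, fun h0 => hx1 (Subtype.ext h0), ?_, ?_⟩
    · have : orderOf (x : G) = orderOf x := orderOf_injective M.subtype M.subtype_injective x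
      rwa [this]
    · exact congrArg Subtype.val hxe
  · intro R hR hR1 h1 g hg
    rw [← hN]
    have h3 : M ≤ Subgroup.normalizer (R : Set G) := by
      intro x hx
      rw [mem_normalizer_iff_cj]
      exact h1 x ((hN x).1 hx)
    have h4 := hM.2 _ ⟨R, hR, hR1, rfl⟩ h3
    rwa [← h4, mem_normalizer_iff_cj]

/-- The local data at every member. -/
theorem exists_loc [Finite G] {P : Set (Subgroup G)} (h : Fam P) {M A : Subgroup G} (hA : A ∈ P)
    (hM : IsMaximalTwoLocal M) (hMc : IsOfCharacteristicTwo ↥M)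
    (hN : ∀ g : G, g ∈ M ↔ cj g A = A) : ∀ C ∈ P, ∃ Q, Loc P C Q := by
  intro C hC
  obtain ⟨g, rfl⟩ := h.trans A hA C hC
  exact ⟨_, loc_cj h (loc_self h hM hMc hN) g⟩

end Cfsg.Agent.TIAbelian.CaseBInst
end

-- part: TIAbelian/Reduce
section
set_option autoImplicit false

namespace Cfsg.Agent.TIAbelian.Reduce

open Subgroup Cfsg
open Cfsg.Agent.TIAbelian.PairBase Cfsg.Agent.TIAbelian.PairOmega Cfsg.Agent.TIAbelian.PairGeo
open Cfsg.Agent.TIAbelian.PairTwo (TwoLines)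
open Cfsg.Agent.TIAbelian.CaseBBase (Fam)
open Cfsg.Agent.TIAbelian.CaseBGeo (Cm)
open Cfsg.Agent.TIAbelian.CaseBLoc (Loc)
open Cfsg.Agent.TIAbelian.PairMain (mem_normalizer_iff_cj)
open Cfsg.Agent.TIAbelian.PairInst (Cls self_mem_Cls fam_of tifam_of_fam)

variable {G : Type*} [Group G]

/-- An abelian normal subgroup of a group of characteristic 2 is a 2-group. -/
theorem le_pCore_of_normal [Finite G] {M : Subgroup G} (hMc : IsOfCharacteristicTwo ↥M)
    {B : Subgroup G} (hBM : B ≤ M) (hBn : ∀ m ∈ M, ∀ b ∈ B, m * b * m⁻¹ ∈ B)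
    (hBa : ∀ a ∈ B, ∀ b ∈ B, a * b = b * a) : B ≤ (pCore 2 ↥M).map M.subtype := by
  have hn : (B.subgroupOf M).Normal := by
    constructor
    intro b hb m
    rw [mem_subgroupOf] at hb ⊢
    exact hBn m m.2 b hb
  have hQn : (pCore 2 ↥M).Normal := Lib.Cores.pCore_normal 2
  have hle : B.subgroupOf M ≤ pCore 2 ↥M := by
    refine SignalizersComponents.CharP.le_pCore_of_forall hn ?_
    intro x hx hodd
    have hQ2 : ∀ q ∈ pCore 2 ↥M, ∃ k, orderOf q = 2 ^ k := by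
      intro q hq
      obtain ⟨k, hk⟩ := Lib.Cores.pCore_isPGroup 2 ⟨q, hq⟩
      have hk' : q ^ 2 ^ k = 1 := congrArg Subtype.val hk
      obtain ⟨j, -, hj⟩ := (Nat.dvd_prime_pow Nat.prime_two).mp (orderOf_dvd_of_pow_eq_one hk')
      exact ⟨j, hj⟩
    have hone : ∀ y ∈ pCore 2 ↥M, (orderOf y).Coprime 2 → y = 1 := by
      intro y hy hy2
      obtain ⟨k, hk⟩ := hQ2 y hy
      rw [hk] at hy2
      rcases Nat.eq_zero_or_pos k with h0 | h0
      · rw [h0, pow_zero] at hk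
        exact orderOf_eq_one_iff.mp hk
      · exfalso
        rw [Nat.coprime_pow_left_iff h0] at hy2
        norm_num at hy2
    have hxc : x ∈ centralizer (pCore 2 ↥M : Set ↥M) := by
      rw [mem_centralizer_iff]
      intro q hq
      have hcom : x * (q * x⁻¹ * q⁻¹) = (q * x⁻¹ * q⁻¹) * x := by
        apply Subtype.ext
        exact hBa _ (mem_subgroupOf.mp hx) _ (mem_subgroupOf.mp (hn.conj_mem _ (inv_mem hx) q))
      have h1 : (orderOf (x * (q * x⁻¹ * q⁻¹))).Coprime 2 := by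
        have h2 : orderOf (q * x⁻¹ * q⁻¹) = orderOf x := by
          have h3 := orderOf_injective (MulAut.conj q).toMonoidHom (MulAut.conj q).injective x⁻¹
          have h4 : (MulAut.conj q).toMonoidHom x⁻¹ = q * x⁻¹ * q⁻¹ := rfl
          rw [h4, orderOf_inv] at h3
          exact h3
        have h5 := (show Commute x (q * x⁻¹ * q⁻¹) from hcom).orderOf_mul_dvd_mul_orderOf
        rw [h2] at h5
        exact Nat.Coprime.coprime_dvd_left h5 (Nat.Coprime.mul_left hodd hodd)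
      have h6 : x * (q * x⁻¹ * q⁻¹) ∈ pCore 2 ↥M := by
        have e : x * (q * x⁻¹ * q⁻¹) = (x * q * x⁻¹) * q⁻¹ := by group
        rw [e]
        exact mul_mem (hQn.conj_mem q hq x) (inv_mem hq)
      have h7 := hone _ h6 h1
      have e : x * (q * x⁻¹ * q⁻¹) = (x * q) * (q * x)⁻¹ := by group
      rw [e, mul_inv_eq_one] at h7
      exact h7.symm
    exact hone x (hMc hxc) hodd
  intro b hb
  exact ⟨⟨b, hBM hb⟩, hle (mem_subgroupOf.mpr hb), rfl⟩

/-- If `M` is a maximal 2-local subgroup normalising the nontrivial 2-subgroup `R` then `N(R) = M`. -/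
theorem normalizer_eq {M : Subgroup G} (hM : IsMaximalTwoLocal M) {R : Subgroup G}
    (hR : IsPGroup 2 ↥R) (hR1 : R ≠ ⊥) (hn : M ≤ normalizer (R : Set G)) :
    normalizer (R : Set G) = M :=
  hM.2 _ ⟨R, hR, hR1, rfl⟩ hn

theorem le_normalizer_of {M B : Subgroup G} (hBn : ∀ m ∈ M, ∀ b ∈ B, m * b * m⁻¹ ∈ B) :
    M ≤ normalizer (B : Set G) := by
  intro m hm
  rw [mem_normalizer_iff]
  intro b
  refine ⟨hBn m hm b, fun h => ?_⟩
  have h1 := hBn m⁻¹ (inv_mem hm) _ h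
  have e : m⁻¹ * (m * b * m⁻¹) * m⁻¹⁻¹ = b := by group
  rwa [e] at h1

/-- The reduction. -/
theorem reduce [Finite G] (hO : pCore 2 G = ⊥)
    (M : Subgroup G) (hM : IsMaximalTwoLocal M) (hMc : IsOfCharacteristicTwo ↥M)
    (B : Subgroup G) (hBM : B ≤ M) (hBn : ∀ m ∈ M, ∀ b ∈ B, m * b * m⁻¹ ∈ B)
    (hBa : IsMulCommutative ↥B)
    (hti : ∀ g : G, B.map (MulAut.conj g).toMonoidHom = B ∨
      B.map (MulAut.conj g).toMonoidHom ⊓ B = ⊥)
    (hcyc : ¬ IsCyclic ↥B) (hel : ¬ IsElementaryAbelian 2 B)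
    (hno : ∀ P : Set (Subgroup G), Fam P → (∀ A ∈ P, ∃ Q, Loc P A Q) →
      ∀ A ∈ P, ∀ C ∈ P, A ≠ C → ¬ Cm A C) :
    normalizer (B : Set G) = M ∧ TIFam (Cls B) ∧ (∃ A ∈ Cls B, ∃ C ∈ Cls B, Col A C) ∧
      Geo (Cls B) ∧ (∃ A B' C, TwoLines (Cls B) A B' C) ∧ (Om B).ncard = 4 ∧ Nat.card ↥B = 16 ∧
      Nonempty (↥B ≃* Multiplicative (ZMod 4) × Multiplicative (ZMod 4)) := by
  have hcomm : ∀ a ∈ B, ∀ b ∈ B, a * b = b * a := fun a ha b hb =>
    congrArg Subtype.val (hBa.is_comm.comm ⟨a, ha⟩ ⟨b, hb⟩)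
  have hBQ := le_pCore_of_normal hMc hBM hBn hcomm
  have hB2 : IsPGroup 2 ↥B :=
    ((Lib.Cores.pCore_isPGroup 2).map M.subtype).to_le hBQ
  have hB1 : B ≠ ⊥ := by
    rintro rfl
    exact hcyc isCyclic_of_subsingleton
  have hN : normalizer (B : Set G) = M := normalizer_eq hM hB2 hB1 (le_normalizer_of hBn)
  have hel' : ¬ ∀ b ∈ B, b ^ 2 = 1 := by
    intro h
    exact hel ⟨hBa, h⟩
  have hel2 : ∃ c ∈ B, c * c ≠ 1 := by
    push Not at hel'
    obtain ⟨c, hc, h⟩ := hel'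
    exact ⟨c, hc, by rwa [pow_two] at h⟩
  have hfam : Fam (Cls B) := fam_of hcomm hB2 hti hcyc hel2
  have hloc := CaseBInst.exists_loc hfam (self_mem_Cls B) hM hMc (fun g => by
    rw [← hN]; exact mem_normalizer_iff_cj)
  have htf : TIFam (Cls B) := by
    refine tifam_of_fam hfam ?_
    intro C hC D hD h
    by_contra hne
    exact hno _ hfam hloc C hC D hD hne h
  have hex : ∃ A ∈ Cls B, ∃ C ∈ Cls B, Col A C := by
    by_contra hno'
    have h1 := IsolatedMain.normalizer_eq_top' hcomm hB2 hcyc hel'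
      (PairInst.isolated htf (self_mem_Cls B) hno')
    apply hB1
    rw [eq_bot_iff, ← hO]
    refine Lib.Cores.le_pCore ?_ hB2
    exact normalizer_eq_top_iff.mp h1
  obtain ⟨hg, hT, hB⟩ := PairMain.main htf hex (self_mem_Cls B) (by rwa [hN]) (by rwa [hN])
  exact ⟨hN, htf, hex, hg, hT, hB B (self_mem_Cls B)⟩

end Cfsg.Agent.TIAbelian.Reduce
end

-- part: TIAbelian/CaseBTwo
section
set_option autoImplicit false

namespace Cfsg.Agent.TIAbelian.CaseBTwo

open Cfsg.Agent.TIAbelian.PairBase hiding TIFam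
open Cfsg.Agent.TIAbelian.PairOmega
open Cfsg.Agent.TIAbelian.CaseBBase
open Cfsg.Agent.TIAbelian.PairGeo (Om mem_Om one_mem_Om inv_Om conj_mem_Om_cj mem_Om_cj)

variable {G : Type*} [Group G]

/-- The facts about neighbours used below (`Nb` = noncommuting, with commuting nontrivial
elements). -/
structure Geo (P : Set (Subgroup G)) : Prop extends Fam P where
  exp4 : ∀ C ∈ P, ∀ c ∈ C, (c * c) * (c * c) = 1
  norm_iff : ∀ A ∈ P, ∀ B ∈ P, Nb A B → ∀ b ∈ B, (cj b A = A ↔ b * b = 1)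
  comm_om : ∀ A ∈ P, ∀ B ∈ P, Nb A B → ∀ x ∈ Om A, ∀ y ∈ Om B, x * y = y * x
  brak : ∀ A ∈ P, ∀ B ∈ P, Nb A B → ∀ x ∈ Om A, ∀ b ∈ B, b * x * b⁻¹ * x⁻¹ ∈ Om B
  surj : ∀ A ∈ P, ∀ B ∈ P, Nb A B → ∀ b ∈ B, b * b ≠ 1 → ∀ y ∈ Om B, ∃ x ∈ Om A,
    b * x * b⁻¹ * x⁻¹ = y

theorem geo_of_nb [Finite G] {P : Set (Subgroup G)} (h : Fam P)
    (hex : ∃ A ∈ P, ∃ B ∈ P, Nb A B) : Geo P :=
  { toFam := h
    exp4 := fun _ hC _ hc => CaseBGeo.exp4 h hex hC hc
    norm_iff := fun _ hA _ hB hn _ hb => CaseBGeo.norm_iff h hA hB hn hb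
    comm_om := fun _ hA _ hB hn _ hx _ hy => CaseBGeo.comm_om h hA hB hn.2 hx hy
    brak := fun _ hA _ hB hn _ hx _ hb => CaseBGeo.brak h hA hB hn hx hb
    surj := fun _ hA _ hB hn _ hb hbb _ hy => CaseBGeo.surj h hA hB hn hb hbb hy }

namespace Geo

variable {P : Set (Subgroup G)} (h : Geo P)
include h

theorem mul_Om {C : Subgroup G} (hC : C ∈ P) {x y : G} (hx : x ∈ Om C) (hy : y ∈ Om C) :
    x * y ∈ Om C := by
  refine ⟨C.mul_mem hx.1 hy.1, ?_⟩
  have : x * y * (x * y) = x * (y * x) * y := by simp only [mul_assoc]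
  rw [this, h.comm C hC _ hy.1 _ hx.1]
  have : x * (x * y) * y = (x * x) * (y * y) := by simp only [mul_assoc]
  rw [this, hx.2, hy.2, one_mul]

theorem sq_Om {C : Subgroup G} (hC : C ∈ P) {c : G} (hc : c ∈ C) : c * c ∈ Om C :=
  ⟨C.mul_mem hc hc, h.exp4 C hC c hc⟩

theorem nb_ne {A B : Subgroup G} (hA : A ∈ P) (hn : Nb A B) : A ≠ B := h.ne hA hn.1

theorem sq_of_comm {A B : Subgroup G} (hA : A ∈ P) (hB : B ∈ P) (hn : Nb A B) {x y : G}
    (hx : x ∈ A) (hx1 : x ≠ 1) (hy : y ∈ B) (hxy : x * y = y * x) : y * y = 1 :=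
  (h.norm_iff A hA B hB hn y hy).1 (h.norm_of_comm hA hx hx1 hxy.symm)

/-- Injectivity of `x ↦ [b, x]`. -/
theorem brak_ne {A B : Subgroup G} (hA : A ∈ P) (hB : B ∈ P) (hne : Nb A B) {x b : G}
    (hx : x ∈ A) (hx1 : x ≠ 1) (hb : b ∈ B) (hbb : b * b ≠ 1) : b * x * b⁻¹ * x⁻¹ ≠ 1 := by
  intro h0
  apply hbb
  refine h.sq_of_comm hA hB hne hx hx1 hb ?_
  rw [mul_inv_eq_one, mul_inv_eq_iff_eq_mul] at h0
  exact h0.symm

theorem brak_inj {A B : Subgroup G} (hA : A ∈ P) (hB : B ∈ P) (hne : Nb A B)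
    {x x' b : G} (hx : x ∈ A) (hx' : x' ∈ A) (hb : b ∈ B) (hbb : b * b ≠ 1)
    (he : b * x * b⁻¹ * x⁻¹ = b * x' * b⁻¹ * x'⁻¹) : x = x' := by
  by_contra hxx
  have h1 : x'⁻¹ * x ≠ 1 := by
    intro h0
    apply hxx
    rw [inv_mul_eq_one] at h0
    exact h0.symm
  apply hbb
  refine h.sq_of_comm hA hB hne (A.mul_mem (A.inv_mem hx') hx) h1 hb ?_
  have h2 : x * b⁻¹ * x⁻¹ = x' * b⁻¹ * x'⁻¹ := by
    have := congrArg (fun t => b⁻¹ * t) he
    simpa only [mul_assoc, _root_.inv_mul_cancel_left] using this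
  have h3 := congrArg (fun t => b * (x'⁻¹ * t * x) * b) h2
  have h4 : b * (x'⁻¹ * x) = x'⁻¹ * x * b := by simpa only [mul_assoc, _root_.inv_mul_cancel, _root_.mul_one, _root_.inv_mul_cancel_left, _root_.mul_inv_cancel_left] using h3
  exact h4.symm

end Geo


section

variable {P : Set (Subgroup G)} (h : Geo P)
include h

theorem comm_brak {A : Subgroup G} (hA : A ∈ P) {k a : G} (ha : a ∈ A) (haa : a * a ≠ 1)
    (kA : ∀ x ∈ Om A, k * x = x * k) : k * a * k⁻¹ * a⁻¹ ∈ Om A := by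
  have hk : cj k A = A :=
    h.norm_of_comm hA (h.sq_Om hA ha).1 haa (kA _ (h.sq_Om hA ha))
  have h1 : k * a * k⁻¹ ∈ A := conj_mem_of_cj hk ha
  refine ⟨A.mul_mem h1 (A.inv_mem ha), ?_⟩
  have e1 : k * a * k⁻¹ * a⁻¹ * (k * a * k⁻¹ * a⁻¹) = (k * a * k⁻¹) * (a⁻¹ * (k * a * k⁻¹)) * a⁻¹ := by
    simp only [mul_assoc]
  rw [e1, h.comm A hA _ (A.inv_mem ha) _ h1]
  have e2 : (k * a * k⁻¹) * ((k * a * k⁻¹) * a⁻¹) * a⁻¹ = (k * (a * a)) * k⁻¹ * (a * a)⁻¹ := by
    simp only [mul_assoc, _root_.inv_mul_cancel_left, _root_.mul_inv_rev]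
  rw [e2, kA _ (h.sq_Om hA ha)]
  simp

/-- `k` centralises `V_A V_B` and `k² ∈ V_A V_B` imply `k² = 1`. -/
theorem klem {A B : Subgroup G} (hA : A ∈ P) (hB : B ∈ P) (hc : Nb A B) {k : G}
    (kA : ∀ x ∈ Om A, k * x = x * k) (kB : ∀ y ∈ Om B, k * y = y * k) {x₀ y₀ : G}
    (hx₀ : x₀ ∈ Om A) (hy₀ : y₀ ∈ Om B) (hkk : k * k = x₀ * y₀) : k * k = 1 := by
  obtain ⟨a, ha, haa⟩ := h.nonelem A hA
  obtain ⟨b, hb, hbb⟩ := h.nonelem B hB
  have hca := comm_brak h hA ha haa kA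
  have hcb := comm_brak h hB hb hbb kB
  have cAB := h.comm_om A hA B hB hc
  set ca := k * a * k⁻¹ * a⁻¹ with hcadef
  set cb := k * b * k⁻¹ * b⁻¹ with hcbdef
  have hcab : a * cb * a⁻¹ * cb⁻¹ ∈ Om A := h.brak B hB A hA hc.symm cb hcb a ha
  obtain ⟨x₂, hx₂, e₂⟩ := h.surj A hA B hB hc b hb hbb cb hcb
  set x₁ := ca * (a * cb * a⁻¹ * cb⁻¹) with hx₁def
  have hx₁ : x₁ ∈ Om A := h.mul_Om hA hca hcab
  obtain ⟨y₃, hy₃, e₃⟩ := h.surj B hB A hA hc.symm a ha haa x₁ hx₁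
  have hy₂ : cb * y₃ ∈ Om B := h.mul_Om hB hcb hy₃
  -- `k (a b) = x₁ cb a b k`
  have f1 : k * (a * b) = x₁ * cb * (a * b) * k := by
    have e : x₁ * cb * (a * b) * k = ca * a * cb * b * k := by
      rw [hx₁def]
      simp only [mul_assoc, _root_.inv_mul_cancel, _root_.mul_one, _root_.inv_mul_cancel_left]
    rw [e, hcadef, hcbdef]
    simp only [mul_assoc, _root_.inv_mul_cancel, _root_.mul_one, _root_.inv_mul_cancel_left]
  -- `(a b) (x₂ cb y₃) = x₁ y₃ x₂ (a b)`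
  have f2 : (a * b) * (x₂ * (cb * y₃)) = x₁ * y₃ * x₂ * (a * b) := by
    have g1 : b * x₂ = cb * x₂ * b := by rw [← e₂]; simp [mul_assoc]
    have g2 : b * (cb * y₃) = (cb * y₃) * b := h.comm B hB _ hb _ hy₂.1
    have g3 : a * y₃ = x₁ * y₃ * a := by rw [← e₃]; simp [mul_assoc]
    calc (a * b) * (x₂ * (cb * y₃)) = a * (b * x₂) * (cb * y₃) := by simp only [mul_assoc]
      _ = a * cb * x₂ * (b * (cb * y₃)) := by rw [g1]; simp only [mul_assoc]
      _ = a * cb * (x₂ * (cb * y₃)) * b := by rw [g2]; simp only [mul_assoc]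
      _ = a * (cb * cb) * y₃ * x₂ * b := by rw [cAB x₂ hx₂ _ hy₂]; simp only [mul_assoc]
      _ = x₁ * y₃ * (a * x₂) * b := by rw [hcb.2, mul_one, g3]; simp only [mul_assoc]
      _ = x₁ * y₃ * x₂ * (a * b) := by
        rw [h.comm A hA _ ha _ hx₂.1]; simp only [mul_assoc]
  -- `u k` commutes with `a b`
  set u := x₂ * (cb * y₃) with hudef
  have f3 : u * x₁ * cb = x₁ * y₃ * x₂ := by
    have c1 : (cb * y₃) * x₁ = x₁ * (cb * y₃) := (cAB x₁ hx₁ _ hy₂).symm
    have c2 : cb * y₃ * cb = y₃ := by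
      rw [h.comm B hB _ hcb.1 _ hy₃.1, mul_assoc, hcb.2, mul_one]
    calc u * x₁ * cb = x₂ * ((cb * y₃) * x₁) * cb := by rw [hudef]; simp only [mul_assoc]
      _ = (x₂ * x₁) * (cb * y₃ * cb) := by rw [c1]; simp only [mul_assoc]
      _ = x₁ * (x₂ * y₃) := by rw [c2, h.comm A hA _ hx₂.1 _ hx₁.1, mul_assoc]
      _ = x₁ * y₃ * x₂ := by rw [cAB x₂ hx₂ _ hy₃, ← mul_assoc]
  have f4 : (u * k) * (a * b) = (a * b) * (u * k) := by
    calc (u * k) * (a * b) = u * (k * (a * b)) := by simp only [mul_assoc]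
      _ = (u * x₁ * cb) * (a * b) * k := by rw [f1]; simp only [mul_assoc]
      _ = (a * b) * u * k := by rw [f3, f2]
      _ = (a * b) * (u * k) := by simp only [mul_assoc]
  have ku : k * u = u * k := by
    rw [hudef, ← mul_assoc, kA _ hx₂, mul_assoc, kB _ hy₂, ← mul_assoc]
  have huu : u * u = 1 := by
    have : u * u = (x₂ * ((cb * y₃) * x₂)) * (cb * y₃) := by rw [hudef]; simp only [mul_assoc]
    rw [this, ← cAB x₂ hx₂ _ hy₂]
    have : x₂ * (x₂ * (cb * y₃)) * (cb * y₃) = (x₂ * x₂) * ((cb * y₃) * (cb * y₃)) := by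
      simp only [mul_assoc]
    rw [this, hx₂.2, hy₂.2, one_mul]
  have f5 : (u * k) * (u * k) = k * k := by
    have : (u * k) * (u * k) = u * (k * u) * k := by simp only [mul_assoc]
    rw [this, ku]
    have : u * (u * k) * k = (u * u) * (k * k) := by simp only [mul_assoc]
    rw [this, huu, one_mul]
  have f6 : (k * k) * (a * b) = (a * b) * (k * k) := by
    rw [← f5, mul_assoc, f4, ← mul_assoc, f4, mul_assoc]
  rw [hkk] at f6
  -- now compute
  have hβ : b * x₀ * b⁻¹ * x₀⁻¹ ∈ Om B := h.brak A hA B hB hc x₀ hx₀ b hb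
  set y' := b * x₀ * b⁻¹ * x₀⁻¹ with hy'
  have hα : a * (y' * y₀) * a⁻¹ * (y' * y₀)⁻¹ ∈ Om A :=
    h.brak B hB A hA hc.symm _ (h.mul_Om hB hβ hy₀) a ha
  set x'' := a * (y' * y₀) * a⁻¹ * (y' * y₀)⁻¹ with hx''
  have f7 : (a * b) * (x₀ * y₀) = x'' * (y' * y₀) * x₀ * (a * b) := by
    have g1 : b * x₀ = y' * x₀ * b := by rw [hy']; simp [mul_assoc]
    have g3 : a * (y' * y₀) = x'' * (y' * y₀) * a := by rw [hx'']; simp only [mul_assoc, _root_.mul_inv_rev, _root_.inv_mul_cancel_left, _root_.inv_mul_cancel, _root_.mul_one]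
    calc (a * b) * (x₀ * y₀) = a * (b * x₀) * y₀ := by simp only [mul_assoc]
      _ = a * y' * x₀ * (b * y₀) := by rw [g1]; simp only [mul_assoc]
      _ = a * y' * (x₀ * y₀) * b := by rw [h.comm B hB _ hb _ hy₀.1]; simp only [mul_assoc]
      _ = (a * (y' * y₀)) * x₀ * b := by rw [cAB x₀ hx₀ _ hy₀]; simp only [mul_assoc]
      _ = x'' * (y' * y₀) * (a * x₀) * b := by rw [g3]; simp only [mul_assoc]
      _ = x'' * (y' * y₀) * x₀ * (a * b) := by
        rw [h.comm A hA _ ha _ hx₀.1]; simp only [mul_assoc]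
  rw [f7] at f6
  have f8 := mul_right_cancel f6
  have f9 : x'' * y' = 1 := by
    have e : x'' * (y' * y₀) * x₀ = (x'' * y') * (x₀ * y₀) := by
      rw [cAB x₀ hx₀ _ hy₀]; simp only [mul_assoc]
    rw [e] at f8
    have := mul_right_cancel (b := x₀ * y₀) (f8.symm.trans (one_mul _).symm)
    exact this
  have hy'1 : y' = 1 := by
    by_contra h0
    apply h.nb_ne hA hc
    refine h.ti A hA B hB y' ?_ hβ.1 h0
    have : y' = x''⁻¹ := (inv_eq_of_mul_eq_one_right f9).symm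
    rw [this]
    exact A.inv_mem hα.1
  have hx0 : x₀ = 1 := by
    by_contra h0
    exact h.brak_ne hA hB hc hx₀.1 h0 hb hbb hy'1
  rw [hy'1, mul_one] at f9
  have hy0 : y₀ = 1 := by
    by_contra h0
    refine h.brak_ne hB hA hc.symm hy₀.1 h0 ha haa ?_
    rw [hx'', hy'1, one_mul] at f9
    exact f9
  rw [hkk, hx0, hy0, one_mul]

theorem exists_ne_Om {C : Subgroup G} (hC : C ∈ P) : ∃ v ∈ Om C, v ≠ 1 := by
  obtain ⟨c, hc, hcc⟩ := h.nonelem C hC
  exact ⟨c * c, h.sq_Om hC hc, hcc⟩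

theorem ncard_Om {C D : Subgroup G} (hC : C ∈ P) (hD : D ∈ P) : (Om C).ncard = (Om D).ncard := by
  obtain ⟨g, rfl⟩ := h.trans C hC D hD
  have : Om (cj g C) = (fun x => g * x * g⁻¹) '' Om C := by
    ext x
    constructor
    · intro hx
      exact ⟨g⁻¹ * x * g, mem_Om_cj.1 hx, by simp [mul_assoc]⟩
    · rintro ⟨y, hy, rfl⟩
      exact conj_mem_Om_cj hy
  rw [this, Set.ncard_image_of_injective]
  intro x y hxy
  simpa only [_root_.mul_left_inj, _root_.mul_right_inj] using hxy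

/-- `Ω₁(C)` as a subgroup. -/
def OmS {C : Subgroup G} (hC : C ∈ P) : Subgroup G where
  carrier := Om C
  one_mem' := one_mem_Om C
  mul_mem' := fun hx hy => h.mul_Om hC hx hy
  inv_mem' := fun {x} hx => by
    rw [inv_Om hx]
    exact hx

end

/-- Two neighbours `A`, `C` of `B` with `[V_A, V_C] = V_B`. -/
structure TwoLines (P : Set (Subgroup G)) (A B C : Subgroup G) : Prop where
  hA : A ∈ P
  hB : B ∈ P
  hC : C ∈ P
  AB : Nb A B
  CB : Nb C B
  br : ∀ x ∈ Om A, ∀ y ∈ Om C, x ≠ 1 → y ≠ 1 →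
    x * y * x⁻¹ * y⁻¹ ∈ Om B ∧ x * y * x⁻¹ * y⁻¹ ≠ 1

section

variable {P : Set (Subgroup G)} (h : Geo P)
include h

omit h in
theorem symm_of {A B C : Subgroup G} (hT : TwoLines P A B C) : TwoLines P C B A := by
  refine ⟨hT.hC, hT.hB, hT.hA, hT.CB, hT.AB, ?_⟩
  intro x hx y hy hx1 hy1
  obtain ⟨h1, h2⟩ := hT.br y hy x hx hy1 hx1
  have e : x * y * x⁻¹ * y⁻¹ = (y * x * y⁻¹ * x⁻¹)⁻¹ := by simp only [mul_assoc, _root_.mul_inv_rev, _root_.inv_inv]
  rw [e, inv_Om h1]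
  exact ⟨h1, h2⟩

theorem conj_of {A B C : Subgroup G} (hT : TwoLines P A B C) (g : G) :
    TwoLines P (cj g A) (cj g B) (cj g C) := by
  refine ⟨h.conj _ hT.hA g, h.conj _ hT.hB g, h.conj _ hT.hC g, CaseBGeo.Nb.cj hT.AB g,
    CaseBGeo.Nb.cj hT.CB g, ?_⟩
  intro x hx y hy hx1 hy1
  obtain ⟨h1, h2⟩ := hT.br _ (mem_Om_cj.1 hx) _ (mem_Om_cj.1 hy) (by
      intro h0
      apply hx1
      have := congrArg (fun t => g * t * g⁻¹) h0
      simpa only [mul_assoc, _root_.mul_inv_cancel_left, _root_.mul_inv_cancel, _root_.mul_one] using this) (by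
      intro h0
      apply hy1
      have := congrArg (fun t => g * t * g⁻¹) h0
      simpa only [mul_assoc, _root_.mul_inv_cancel_left, _root_.mul_inv_cancel, _root_.mul_one] using this)
  have e : x * y * x⁻¹ * y⁻¹ = g * ((g⁻¹ * x * g) * (g⁻¹ * y * g) * (g⁻¹ * x * g)⁻¹
      * (g⁻¹ * y * g)⁻¹) * g⁻¹ := by simp only [mul_assoc, _root_.mul_inv_cancel_left, _root_.mul_inv_rev, _root_.inv_inv, _root_.mul_inv_cancel, _root_.mul_one]
  rw [e]
  refine ⟨conj_mem_Om_cj h1, ?_⟩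
  intro h0
  apply h2
  have := congrArg (fun t => g⁻¹ * t * g) h0
  simpa only [mul_assoc, _root_.mul_inv_cancel_left, _root_.mul_inv_rev, _root_.inv_inv, _root_.mul_inv_cancel, _root_.mul_one, _root_.inv_mul_cancel] using this

end

namespace TwoLines

variable {P : Set (Subgroup G)} {A B C : Subgroup G} (T : TwoLines P A B C) (h : Geo P)
include T h

omit h in
theorem br' {x y : G} (hx : x ∈ Om A) (hy : y ∈ Om C) : y * x * y⁻¹ * x⁻¹ ∈ Om B := by
  by_cases hx1 : x = 1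
  · subst hx1
    simpa using one_mem_Om B
  by_cases hy1 : y = 1
  · subst hy1
    simpa using one_mem_Om B
  have h1 := (T.br x hx y hy hx1 hy1).1
  have e : y * x * y⁻¹ * x⁻¹ = (x * y * x⁻¹ * y⁻¹)⁻¹ := by simp only [mul_assoc, _root_.mul_inv_rev, _root_.inv_inv]
  rw [e, inv_Om h1]
  exact h1

omit h in
theorem comm_ne {x y : G} (hx : x ∈ Om A) (hy : y ∈ Om C) (hx1 : x ≠ 1) (hyx : y * x = x * y) :
    y = 1 := by
  by_contra hy1
  apply (T.br x hx y hy hx1 hy1).2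
  rw [mul_inv_eq_one, mul_inv_eq_iff_eq_mul]
  exact hyx.symm

theorem br_surj [Finite G] {x v : G} (hx : x ∈ Om A) (hx1 : x ≠ 1) (hv : v ∈ Om B) :
    ∃ y ∈ Om C, y * x * y⁻¹ * x⁻¹ = v := by
  have hinj : Set.InjOn (fun y => y * x * y⁻¹ * x⁻¹) (Om C) := by
    intro y hy y' hy' he
    have h1 : y'⁻¹ * y = 1 := by
      refine comm_ne T hx (h.mul_Om T.hC ?_ hy) hx1 ?_
      · rw [inv_Om hy']
        exact hy'
      · have h2 := mul_right_cancel he
        have h3 := congrArg (fun t => y'⁻¹ * t * y) h2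
        simpa only [mul_assoc, _root_.inv_mul_cancel, _root_.mul_one, _root_.inv_mul_cancel_left] using h3
    rw [inv_mul_eq_one] at h1
    exact h1.symm
  have himg : (fun y => y * x * y⁻¹ * x⁻¹) '' Om C = Om B := by
    refine Set.eq_of_subset_of_ncard_le ?_ ?_ (Set.toFinite _)
    · rintro _ ⟨y, hy, rfl⟩
      exact T.br' hx hy
    · rw [Set.InjOn.ncard_image hinj]
      exact (ncard_Om h T.hB T.hC).le
  rw [← himg] at hv
  obtain ⟨y, hy, e⟩ := hv
  exact ⟨y, hy, e⟩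

/-- `k` normalises `A`, `[k, x] ∈ V_B`: then `k` centralises `x`. -/
theorem fix_of_norm {k x : G} (hx : x ∈ Om A) (hk : cj k A = A) (hkx : k * x * k⁻¹ * x⁻¹ ∈ Om B) :
    k * x * k⁻¹ = x := by
  have h1 : k * x * k⁻¹ * x⁻¹ ∈ A := A.mul_mem (conj_mem_of_cj hk hx.1) (A.inv_mem hx.1)
  have h2 : k * x * k⁻¹ * x⁻¹ = 1 := by
    by_contra h0
    exact h.nb_ne T.hA T.AB (h.ti A T.hA B T.hB _ h1 hkx.1 h0)
  rwa [mul_inv_eq_one] at h2

/-- every `b ∈ B` acts on `V_A` as some `y ∈ V_C`. -/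
theorem L2 [Finite G] {b : G} (hb : b ∈ B) :
    ∃ y ∈ Om C, ∀ x ∈ Om A, b * x * b⁻¹ = y * x * y⁻¹ := by
  obtain ⟨x₁, hx₁, hx₁1⟩ := exists_ne_Om h T.hA
  have hb1 := h.brak A T.hA B T.hB T.AB x₁ hx₁ b hb
  obtain ⟨y, hy, e⟩ := T.br_surj h hx₁ hx₁1 hb1
  refine ⟨y, hy, ?_⟩
  have hyi := inv_Om hy
  have e1 : y * x₁ * y⁻¹ = b * x₁ * b⁻¹ := mul_right_cancel e
  have hk : cj (y⁻¹ * b) A = A := by
    refine h.norm_of_comm T.hA hx₁.1 hx₁1 ?_
    have := congrArg (fun t => y⁻¹ * t * b) e1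
    simpa only [mul_assoc, _root_.inv_mul_cancel, _root_.mul_one, _root_.inv_mul_cancel_left] using this.symm
  intro x hx
  have hbx := h.brak A T.hA B T.hB T.AB x hx b hb
  have hyx := T.br' hx hy
  have h3 : (y⁻¹ * b) * x * (y⁻¹ * b)⁻¹ = x := by
    refine T.fix_of_norm h hx hk ?_
    have hv := h.comm_om C T.hC B T.hB T.CB y hy _ hbx
    have e3 : (y⁻¹ * b) * x * (y⁻¹ * b)⁻¹ * x⁻¹
        = (y⁻¹ * (b * x * b⁻¹ * x⁻¹) * y) * (y⁻¹ * x * y⁻¹⁻¹ * x⁻¹) := by
      simp only [mul_assoc, _root_.mul_inv_rev, _root_.inv_inv, _root_.mul_inv_cancel_left, _root_.inv_mul_cancel_left]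
    have e4 : y⁻¹ * (b * x * b⁻¹ * x⁻¹) * y = b * x * b⁻¹ * x⁻¹ := by
      rw [mul_assoc, ← hv, inv_mul_cancel_left]
    rw [e3, e4, hyi]
    exact h.mul_Om T.hB hbx hyx
  have h4 := congrArg (fun t => y * t * y⁻¹) h3
  simpa only [mul_assoc, _root_.mul_inv_rev, _root_.inv_inv, _root_.mul_inv_cancel_left, _root_.mul_inv_cancel, _root_.mul_one] using h4

/-- the line through `A` and `B`. -/
def UU : Subgroup G :=
  prodS (OmS h T.hA) (OmS h T.hB) (fun x hx y hy => h.comm_om A T.hA B T.hB T.AB x hx y hy)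

theorem mem_UU {u : G} : u ∈ T.UU h ↔ ∃ x ∈ Om A, ∃ y ∈ Om B, u = x * y := Iff.rfl

theorem left_UU {x : G} (hx : x ∈ Om A) : x ∈ T.UU h := ⟨x, hx, 1, one_mem_Om B, by simp⟩

theorem right_UU {y : G} (hy : y ∈ Om B) : y ∈ T.UU h := ⟨1, one_mem_Om A, y, hy, by simp⟩

theorem sq_UU : ∀ u ∈ T.UU h, u * u = 1 := by
  rintro _ ⟨x, hx, y, hy, rfl⟩
  have hx' : x ∈ Om A := hx
  have hy' : y ∈ Om B := hy
  have : x * y * (x * y) = x * (y * x) * y := by simp only [mul_assoc]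
  rw [this, ← h.comm_om A T.hA B T.hB T.AB x hx y hy]
  have : x * (x * y) * y = (x * x) * (y * y) := by simp only [mul_assoc]
  rw [this, hx'.2, hy'.2, one_mul]

theorem tvB {b : G} (hb : b ∈ B) (hbb : b * b ≠ 1) : Tv (T.UU h) B b := by
  have cAB := h.comm_om A T.hA B T.hB T.AB
  refine ⟨?_, ?_, ?_⟩
  · refine cj_eq_of_forall (B := B) ?_ hb
    rintro b hb _ ⟨x, hx, y, hy, rfl⟩
    have hx' : x ∈ Om A := hx
    have hy' : y ∈ Om B := hy
    have hbr := h.brak A T.hA B T.hB T.AB x hx b hb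
    refine ⟨x, hx, (b * x * b⁻¹ * x⁻¹) * y, h.mul_Om T.hB hbr hy, ?_⟩
    have h2 : b * (x * y) * b⁻¹ = (b * x * b⁻¹ * x⁻¹) * x * (b * y * b⁻¹) := by simp only [mul_assoc, _root_.inv_mul_cancel, _root_.mul_one, _root_.inv_mul_cancel_left]
    rw [h2, h.comm B T.hB b hb y hy'.1, mul_inv_cancel_right, ← cAB x hx _ hbr]
    simp only [mul_assoc]
  · rintro _ ⟨x, hx, y, hy, rfl⟩
    have hy' : y ∈ Om B := hy
    have hsq := h.sq_Om T.hB hb
    rw [← mul_assoc (b * b), ← cAB x hx _ hsq, mul_assoc x (b * b) y,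
      h.comm B T.hB _ hsq.1 _ hy'.1, mul_assoc x y]
  · rintro _ ⟨x, hx, y, hy, rfl⟩
    have hx' : x ∈ Om A := hx
    have hy' : y ∈ Om B := hy
    constructor
    · intro h1
      have hx1 : x = 1 := by
        by_contra h0
        refine hbb (h.sq_of_comm T.hA T.hB T.AB hx'.1 h0 hb ?_)
        have h3 : b * x * y = x * b * y := by
          rw [mul_assoc b x y, h1, mul_assoc x y b, ← h.comm B T.hB _ hb _ hy'.1, ← mul_assoc]
        exact (mul_right_cancel h3).symm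
      rw [hx1, one_mul]
      exact hy'.1
    · intro h1
      exact h.comm B T.hB _ hb _ h1

theorem tvA {a : G} (ha : a ∈ A) (haa : a * a ≠ 1) : Tv (T.UU h) A a := by
  have cAB := h.comm_om A T.hA B T.hB T.AB
  refine ⟨?_, ?_, ?_⟩
  · refine cj_eq_of_forall (B := A) ?_ ha
    rintro a ha _ ⟨x, hx, y, hy, rfl⟩
    have hx' : x ∈ Om A := hx
    have hy' : y ∈ Om B := hy
    have hbr := h.brak B T.hB A T.hA T.AB.symm y hy a ha
    refine ⟨x * (a * y * a⁻¹ * y⁻¹), h.mul_Om T.hA hx hbr, y, hy, ?_⟩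
    have h2 : a * (x * y) * a⁻¹ = (a * x) * y * a⁻¹ := by simp [mul_assoc]
    rw [h2, h.comm A T.hA a ha x hx'.1]
    simp only [mul_assoc, _root_.inv_mul_cancel, _root_.mul_one]
  · rintro _ ⟨x, hx, y, hy, rfl⟩
    have hx' : x ∈ Om A := hx
    have hsq := h.sq_Om T.hA ha
    rw [← mul_assoc (a * a), h.comm A T.hA _ hsq.1 _ hx'.1, mul_assoc x (a * a) y,
      cAB _ hsq y hy, mul_assoc x y]
  · rintro _ ⟨x, hx, y, hy, rfl⟩
    have hx' : x ∈ Om A := hx
    have hy' : y ∈ Om B := hy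
    constructor
    · intro h1
      have hy1 : y = 1 := by
        by_contra h0
        refine haa (h.sq_of_comm T.hB T.hA T.AB.symm hy'.1 h0 ha ?_)
        have h3 : x * (a * y) = x * (y * a) := by
          rw [← mul_assoc, ← h.comm A T.hA a ha x hx'.1, mul_assoc, h1, mul_assoc]
        exact (mul_left_cancel h3).symm
      rw [hy1, mul_one]
      exact hx'.1
    · intro h1
      exact h.comm A T.hA _ ha _ h1

theorem tvC {c : G} (hc : c ∈ Om C) (hc1 : c ≠ 1) : Tv (T.UU h) B c := by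
  have cAB := h.comm_om A T.hA B T.hB T.AB
  have cCB := h.comm_om C T.hC B T.hB T.CB
  refine ⟨?_, ?_, ?_⟩
  · refine cj_eq_of_forall (B := OmS h T.hC) ?_ hc
    rintro b hb _ ⟨x, hx, y, hy, rfl⟩
    have hbr := T.br' hx hb
    refine ⟨x, hx, (b * x * b⁻¹ * x⁻¹) * y, h.mul_Om T.hB hbr hy, ?_⟩
    have h2 : b * (x * y) * b⁻¹ = (b * x * b⁻¹ * x⁻¹) * x * (b * y * b⁻¹) := by simp only [mul_assoc, _root_.inv_mul_cancel, _root_.mul_one, _root_.inv_mul_cancel_left]
    rw [h2, cCB b hb y hy, mul_inv_cancel_right, ← cAB x hx _ hbr]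
    simp only [mul_assoc]
  · intro u _
    rw [hc.2]
    simp
  · rintro _ ⟨x, hx, y, hy, rfl⟩
    constructor
    · intro h1
      have hx1 : x = 1 := by
        by_contra h0
        apply hc1
        refine T.comm_ne hx hc h0 ?_
        have h3 : c * x * y = x * c * y := by
          rw [mul_assoc c x y, h1, mul_assoc x y c, ← cCB c hc y hy, ← mul_assoc]
        exact mul_right_cancel h3
      rw [hx1, one_mul]
      exact (show y ∈ Om B from hy).1
    · intro h1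
      refine cCB c hc _ ⟨h1, ?_⟩
      exact T.sq_UU h _ ⟨x, hx, y, hy, rfl⟩

theorem ntB : ∃ u ∈ T.UU h, u ∈ B ∧ u ≠ 1 := by
  obtain ⟨v, hv, hv1⟩ := exists_ne_Om h T.hB
  exact ⟨v, T.right_UU h hv, hv.1, hv1⟩

theorem ntA : ∃ u ∈ T.UU h, u ∈ A ∧ u ≠ 1 := by
  obtain ⟨v, hv, hv1⟩ := exists_ne_Om h T.hA
  exact ⟨v, T.left_UU h hv, hv.1, hv1⟩

theorem genBA : ∀ u ∈ T.UU h, ∃ v ∈ T.UU h, ∃ w ∈ T.UU h, v ∈ B ∧ w ∈ A ∧ u = v * w := by
  rintro _ ⟨x, hx, y, hy, rfl⟩
  exact ⟨y, T.right_UU h hy, x, T.left_UU h hx, (show y ∈ Om B from hy).1,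
    (show x ∈ Om A from hx).1, h.comm_om A T.hA B T.hB T.AB x hx y hy⟩

/-- `r = q`: every `y ∈ V_C` acts on `V_A` as some element of `B`. -/
theorem L3 [Finite G] {y : G} (hy : y ∈ Om C) :
    ∃ b ∈ B, ∀ x ∈ Om A, b * x * b⁻¹ = y * x * y⁻¹ := by
  by_cases hy1 : y = 1
  · subst hy1
    exact ⟨1, B.one_mem, fun x _ => rfl⟩
  obtain ⟨a, ha, haa⟩ := h.nonelem A T.hA
  obtain ⟨b₁, hb₁, hbb₁⟩ := h.nonelem B T.hB
  have hTa := T.tvA h ha haa
  have hTb := T.tvB h hb₁ hbb₁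
  have hTy := T.tvC h hy hy1
  obtain ⟨g, hg, hg1⟩ := CaseBBase.lemT h.toFam (T.sq_UU h) T.hB T.hA hTb hTa (T.ntB h) (T.ntA h) (T.genBA h)
  obtain ⟨g', hg', hg1'⟩ := CaseBBase.lemT h.toFam (T.sq_UU h) T.hB T.hA hTy hTa (T.ntB h) (T.ntA h)
    (T.genBA h)
  have hgi := cj_inv_eq hg'
  have hk : cj (g'⁻¹ * g) (T.UU h) = T.UU h := cj_mul_eq hgi hg
  have hE : EqOnU (T.UU h) ((g'⁻¹ * g) * b₁ * (g'⁻¹ * g)⁻¹) y := by
    intro u hu
    have h1 : g' * u * g'⁻¹ ∈ T.UU h := conj_mem_of_cj hg' hu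
    have h2 := (hg1 _ h1).trans (hg1' _ h1).symm
    have h3 := congrArg (fun t => g'⁻¹ * t * g') h2
    simpa only [mul_assoc, _root_.mul_inv_rev, _root_.inv_inv, _root_.inv_mul_cancel_left, _root_.inv_mul_cancel, _root_.mul_one] using h3
  have hTk : Tv (T.UU h) (cj (g'⁻¹ * g) B) y := (hTb.conj hk).congr hE hTy.norm
  have hkB : cj (g'⁻¹ * g) B = B :=
    (CaseBBase.Tv.unique h.toFam T.hB (h.conj B T.hB _) hTy hTk (T.ntB h)).symm
  exact ⟨_, conj_mem_of_cj hkB hb₁, fun x hx => hE x (T.left_UU h hx)⟩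

/-- if `b` and `y` agree on `V_A` then `[y, b] = b²`. -/
theorem L4 {b y : G} (hb : b ∈ B) (hy : y ∈ Om C)
    (he : ∀ x ∈ Om A, b * x * b⁻¹ = y * x * y⁻¹) : b * y * b⁻¹ * y⁻¹ = b * b := by
  have hyi := inv_Om hy
  have hbr := h.brak C T.hC B T.hB T.CB y hy b hb
  have hk := klem h T.hA T.hB T.AB (k := y * b) (by
      intro x hx
      rw [eq_comm_iff]
      have e1 : y * b * x * (y * b)⁻¹ = y * (b * x * b⁻¹) * y⁻¹ := by simp only [mul_assoc, _root_.mul_inv_rev]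
      rw [e1, he x hx]
      have e2 : y * (y * x * y⁻¹) * y⁻¹ = (y * y) * x * (y * y)⁻¹ := by simp only [mul_assoc, _root_.mul_inv_rev]
      rw [e2, hy.2]
      simp) (by
      intro v hv
      rw [mul_assoc, h.comm B T.hB _ hb _ hv.1, ← mul_assoc,
        h.comm_om C T.hC B T.hB T.CB y hy v hv, mul_assoc]) (x₀ := 1)
    (y₀ := (b * y * b⁻¹ * y⁻¹)⁻¹ * (b * b)) (one_mem_Om A)
    (h.mul_Om T.hB (by rw [inv_Om hbr]; exact hbr) (h.sq_Om T.hB hb)) (by
      have : (1 : G) * ((b * y * b⁻¹ * y⁻¹)⁻¹ * (b * b)) = y * b * (y⁻¹ * b) := by simp only [mul_assoc, _root_.mul_inv_rev, _root_.inv_inv, _root_.inv_mul_cancel_left, _root_.one_mul]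
      rw [this, hyi])
  have h1 : (b * y * b⁻¹ * y⁻¹)⁻¹ * (b * b) = 1 := by
    rw [← hk]
    have : (b * y * b⁻¹ * y⁻¹)⁻¹ * (b * b) = y * b * (y⁻¹ * b) := by simp only [mul_assoc, _root_.mul_inv_rev, _root_.inv_inv, _root_.inv_mul_cancel_left]
    rw [this, hyi]
  rw [inv_mul_eq_one] at h1
  exact h1

/-- for every `b ∈ B - V_B` there is `a ∈ A` with `[a, [b, x]] = x` for all `x ∈ V_A`. -/
theorem L5 [Finite G] {b : G} (hb : b ∈ B) (hbb : b * b ≠ 1) :
    ∃ a ∈ A, ∀ x ∈ Om A, a * (b * x * b⁻¹ * x⁻¹) * a⁻¹ * (b * x * b⁻¹ * x⁻¹)⁻¹ = x := by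
  obtain ⟨a₁, ha₁, haa₁⟩ := h.nonelem A T.hA
  have hTa := T.tvA h ha₁ haa₁
  have hTb := T.tvB h hb hbb
  obtain ⟨g, hg, hg1⟩ := CaseBBase.lemT h.toFam (T.sq_UU h) T.hB T.hA hTb hTa (T.ntB h) (T.ntA h) (T.genBA h)
  have hTk : Tv (T.UU h) (cj g B) a₁ := (hTb.conj hg).congr hg1 hTa.norm
  have hgB : A = cj g B :=
    CaseBBase.Tv.unique h.toFam T.hA (h.conj B T.hB _) hTa hTk (T.ntA h)
  have T' : TwoLines P (cj g A) A (cj g C) := by
    have := conj_of h T g
    rwa [← hgB] at this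
  have cA' := h.comm_om _ T'.hA A T.hA T'.AB
  have dec : ∀ u ∈ T.UU h, ∃ x' ∈ Om (cj g A), ∃ v' ∈ Om A, u = x' * v' := by
    intro u hu
    have h1 : g⁻¹ * u * g ∈ T.UU h := conj_mem_of_cj' hg hu
    obtain ⟨x, hx, y, hy, e⟩ := (T.mem_UU h).1 h1
    refine ⟨g * x * g⁻¹, conj_mem_Om_cj hx, g * y * g⁻¹, ?_, ?_⟩
    · have := conj_mem_Om_cj (g := g) hy
      rwa [← hgB] at this
    · have e2 : g * x * g⁻¹ * (g * y * g⁻¹) = g * (x * y) * g⁻¹ := by simp only [mul_assoc, _root_.inv_mul_cancel_left]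
      rw [e2, ← e]
      simp [mul_assoc]
  have claim : ∀ u ∈ T.UU h, u ∉ A → ∃ y ∈ Om (cj g C), u ∈ cj y (cj g A) := by
    intro u hu huA
    obtain ⟨x', hx', v', hv', rfl⟩ := dec u hu
    have hx1 : x' ≠ 1 := by
      rintro rfl
      apply huA
      rw [one_mul]
      exact hv'.1
    obtain ⟨y, hy, e⟩ := T'.br_surj h hx' hx1 hv'
    refine ⟨y, hy, ?_⟩
    have e2 : x' * v' = y * x' * y⁻¹ := by
      rw [cA' _ hx' _ hv', ← e]
      simp [mul_assoc]
    rw [e2]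
    exact conj_mem_cj hx'.1
  obtain ⟨x₁, hx₁, hx₁1⟩ := exists_ne_Om h T.hA
  obtain ⟨v₁, hv₁, hv₁1⟩ := exists_ne_Om h T.hB
  have hbx1 : b * x₁ * b⁻¹ ≠ 1 := by
    intro h0
    apply hx₁1
    have := congrArg (fun t => b⁻¹ * t * b) h0
    simpa [mul_assoc] using this
  have hbA : cj b A ≠ A := fun h0 => hbb ((h.norm_iff A T.hA B T.hB T.AB b hb).1 h0)
  obtain ⟨y, hy, hyu⟩ := claim (b * x₁ * b⁻¹) (conj_mem_of_cj hTb.norm (T.left_UU h hx₁)) (by
    intro h0
    exact hbA (h.norm_of_conj T.hA hx₁.1 hx₁1 h0))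
  obtain ⟨y', hy', hyu'⟩ := claim v₁ (T.right_UU h hv₁) (by
    intro h0
    exact h.nb_ne T.hA T.AB (h.ti A T.hA B T.hB _ h0 hv₁.1 hv₁1))
  have e1 : cj b A = cj y (cj g A) :=
    h.ti _ (h.conj A T.hA b) _ (h.conj _ T'.hA y) _ (conj_mem_cj hx₁.1) hyu hbx1
  have e2 : B = cj y' (cj g A) :=
    h.ti B T.hB _ (h.conj _ T'.hA y') _ hv₁.1 hyu' hv₁1
  have e3 : cj b A = cj (y * y'⁻¹) B := by
    rw [e1, e2, cj_cj _ y', mul_assoc, inv_mul_cancel, mul_one]
  have hyy : y * y'⁻¹ ∈ Om (cj g C) := by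
    rw [inv_Om hy']
    exact h.mul_Om T'.hC hy hy'
  obtain ⟨a, ha, haE⟩ := T'.L3 h hyy
  refine ⟨a, ha, ?_⟩
  -- `a` and `y y'⁻¹` agree on `U`
  have hagree : ∀ u ∈ T.UU h, a * u * a⁻¹ = (y * y'⁻¹) * u * (y * y'⁻¹)⁻¹ := by
    intro u hu
    obtain ⟨x', hx', v', hv', rfl⟩ := dec u hu
    have f1 : a * v' * a⁻¹ = v' := by
      rw [h.comm A T.hA _ ha _ hv'.1, mul_inv_cancel_right]
    have f2 : (y * y'⁻¹) * v' * (y * y'⁻¹)⁻¹ = v' := by
      rw [h.comm_om _ T'.hC A T.hA T'.CB _ hyy _ hv', mul_inv_cancel_right]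
    have f3 : ∀ s : G, s * (x' * v') * s⁻¹ = (s * x' * s⁻¹) * (s * v' * s⁻¹) := by
      intro s
      simp [mul_assoc]
    rw [f3, f3, f1, f2, haE x' hx']
  have haB : cj a B = cj b A := by
    rw [e3]
    refine h.ti _ (h.conj B T.hB a) _ (h.conj B T.hB _) (a * v₁ * a⁻¹) (conj_mem_cj hv₁.1) ?_ ?_
    · rw [hagree _ (T.right_UU h hv₁)]
      exact conj_mem_cj hv₁.1
    · intro h0
      apply hv₁1
      have := congrArg (fun t => a⁻¹ * t * a) h0
      simpa [mul_assoc] using this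
  intro x hx
  have hbr := h.brak A T.hA B T.hB T.AB x hx b hb
  have hv : a⁻¹ * (b * x * b⁻¹) * a ∈ Om B := by
    have h1 : b * x * b⁻¹ ∈ Om (cj b A) := conj_mem_Om_cj hx
    rw [← haB] at h1
    exact mem_Om_cj.1 h1
  set v := a⁻¹ * (b * x * b⁻¹) * a with hvdef
  have hav := h.brak B T.hB A T.hA T.AB.symm v hv a ha
  have f1 : (b * x * b⁻¹ * x⁻¹) * x = (a * v * a⁻¹ * v⁻¹) * v := by
    rw [hvdef]
    simp only [mul_assoc, _root_.inv_mul_cancel, _root_.mul_one, _root_.mul_inv_cancel_left, _root_.mul_inv_cancel, _root_.mul_inv_rev, _root_.inv_inv, _root_.inv_mul_cancel_left]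
  have f2 : (b * x * b⁻¹ * x⁻¹) * v⁻¹ = (a * v * a⁻¹ * v⁻¹) * x⁻¹ := by
    have c1 := h.comm_om A T.hA B T.hB T.AB x hx v hv
    have c2 : x⁻¹ * v⁻¹ = v⁻¹ * x⁻¹ := by rw [← mul_inv_rev, ← mul_inv_rev, c1]
    calc (b * x * b⁻¹ * x⁻¹) * v⁻¹ = ((b * x * b⁻¹ * x⁻¹) * x) * (x⁻¹ * v⁻¹) := by
          simp only [mul_assoc, _root_.inv_mul_cancel, _root_.mul_one]
      _ = ((a * v * a⁻¹ * v⁻¹) * v) * (v⁻¹ * x⁻¹) := by rw [f1, c2]
      _ = (a * v * a⁻¹ * v⁻¹) * x⁻¹ := by simp only [mul_assoc, _root_.inv_mul_cancel, _root_.mul_one]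
  have f3 : (b * x * b⁻¹ * x⁻¹) * v⁻¹ = 1 := by
    by_contra h0
    refine h.nb_ne T.hA T.AB (h.ti A T.hA B T.hB _ ?_ (B.mul_mem hbr.1 (B.inv_mem hv.1)) h0)
    rw [f2]
    exact A.mul_mem hav.1 (A.inv_mem hx.1)
  have f4 : (a * v * a⁻¹ * v⁻¹) * x⁻¹ = 1 := f2.symm.trans f3
  rw [mul_inv_eq_one] at f3 f4
  rw [f3]
  exact f4

/-- swapping element: `w = b a b` interchanges `x` and `[b, x]`. -/
theorem exists_swap [Finite G] {b : G} (hb : b ∈ B) (hbb : b * b ≠ 1) :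
    ∃ w : G, ∀ x ∈ Om A, w * x * w⁻¹ = b * x * b⁻¹ * x⁻¹ ∧
      w * (b * x * b⁻¹ * x⁻¹) * w⁻¹ = x := by
  obtain ⟨a, ha, haE⟩ := T.L5 h hb hbb
  refine ⟨b * a * b, ?_⟩
  intro x hx
  have hbr := h.brak A T.hA B T.hB T.AB x hx b hb
  have hax := haE x hx
  set v := b * x * b⁻¹ * x⁻¹ with hv
  have e1 : b * x * b⁻¹ = v * x := by rw [hv]; simp only [mul_assoc, _root_.inv_mul_cancel, _root_.mul_one]
  have e2 : a * v * a⁻¹ = x * v := by
    rw [← hax]
    simp only [mul_assoc, _root_.inv_mul_cancel, _root_.mul_one]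
  have e3 : a * x * a⁻¹ = x := by rw [h.comm A T.hA _ ha _ hx.1, mul_inv_cancel_right]
  have e4 : b * v * b⁻¹ = v := by rw [h.comm B T.hB _ hb _ hbr.1, mul_inv_cancel_right]
  have e5 : x * v = v * x := h.comm_om A T.hA B T.hB T.AB x hx v hbr
  constructor
  · have f1 : b * a * b * x * (b * a * b)⁻¹ = b * (a * (b * x * b⁻¹) * a⁻¹) * b⁻¹ := by
      simp only [mul_assoc, _root_.mul_inv_rev]
    have f2 : a * (v * x) * a⁻¹ = (a * v * a⁻¹) * (a * x * a⁻¹) := by simp [mul_assoc]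
    rw [f1, e1, f2, e2, e3, e5, mul_assoc v x x, hx.2, mul_one, e4]
  · have f1 : b * a * b * v * (b * a * b)⁻¹ = b * (a * (b * v * b⁻¹) * a⁻¹) * b⁻¹ := by
      simp only [mul_assoc, _root_.mul_inv_rev]
    have f2 : b * (x * v) * b⁻¹ = (b * x * b⁻¹) * (b * v * b⁻¹) := by simp [mul_assoc]
    rw [f1, e4, e2, f2, e4, e1, ← e5, mul_assoc x v v, hbr.2, mul_one]

/-- the element `b''` with `β_{b''} = β_b β_{b₀}⁻¹ β_b` and `b''² = β_b β_{b₀}⁻¹ (b₀²)`. -/
theorem L6 [Finite G] {b b₀ : G} (hb : b ∈ B) (hbb : b * b ≠ 1) (hb₀ : b₀ ∈ B)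
    (hbb₀ : b₀ * b₀ ≠ 1) : ∃ b₂ ∈ B,
      (∀ x ∈ Om A, ∀ x' ∈ Om A, b * x' * b⁻¹ * x'⁻¹ = b₀ * x * b₀⁻¹ * x⁻¹ →
        b₂ * x' * b₂⁻¹ * x'⁻¹ = b * x * b⁻¹ * x⁻¹) ∧
      (∀ x ∈ Om A, b₀ * b₀ = b₀ * x * b₀⁻¹ * x⁻¹ → b₂ * b₂ = b * x * b⁻¹ * x⁻¹) := by
  obtain ⟨w, hw⟩ := T.exists_swap h hb hbb
  obtain ⟨w₀, hw₀⟩ := T.exists_swap h hb₀ hbb₀
  -- `g = w w₀`
  have hg1 : ∀ x ∈ Om A, (w * w₀) * (b₀ * x * b₀⁻¹ * x⁻¹) * (w * w₀)⁻¹ = b * x * b⁻¹ * x⁻¹ := by
    intro x hx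
    have f1 : (w * w₀) * (b₀ * x * b₀⁻¹ * x⁻¹) * (w * w₀)⁻¹
        = w * (w₀ * (b₀ * x * b₀⁻¹ * x⁻¹) * w₀⁻¹) * w⁻¹ := by simp only [mul_assoc, _root_.mul_inv_rev]
    rw [f1, (hw₀ x hx).2, (hw x hx).1]
  have hg2 : ∀ x ∈ Om A, ∀ x' ∈ Om A, b * x' * b⁻¹ * x'⁻¹ = b₀ * x * b₀⁻¹ * x⁻¹ →
      (w * w₀) * x * (w * w₀)⁻¹ = x' := by
    intro x hx x' hx' he
    have f1 : (w * w₀) * x * (w * w₀)⁻¹ = w * (w₀ * x * w₀⁻¹) * w⁻¹ := by simp only [mul_assoc, _root_.mul_inv_rev]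
    rw [f1, (hw₀ x hx).1, ← he, (hw x' hx').2]
  set g := w * w₀ with hg
  have hgB : cj g B = B := by
    obtain ⟨x₁, hx₁, hx₁1⟩ := exists_ne_Om h T.hA
    refine h.norm_of_conj T.hB (h.brak A T.hA B T.hB T.AB x₁ hx₁ b₀ hb₀).1
      (h.brak_ne T.hA T.hB T.AB hx₁.1 hx₁1 hb₀ hbb₀) ?_
    rw [hg1 x₁ hx₁]
    exact (h.brak A T.hA B T.hB T.AB x₁ hx₁ b hb).1
  refine ⟨g * b₀ * g⁻¹, conj_mem_of_cj hgB hb₀, ?_, ?_⟩
  · intro x hx x' hx' he
    rw [← hg1 x hx, ← hg2 x hx x' hx' he]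
    simp only [mul_assoc, _root_.inv_mul_cancel_left, _root_.mul_inv_rev, _root_.inv_inv]
  · intro x hx he
    rw [← hg1 x hx, ← he]
    simp [mul_assoc]

end TwoLines

end Cfsg.Agent.TIAbelian.CaseBTwo
end

-- part: TIAbelian/CaseBFinal
section
set_option autoImplicit false

namespace Cfsg.Agent.TIAbelian.CaseBFinal

open Cfsg.Agent.TIAbelian.PairBase hiding TIFam
open Cfsg.Agent.TIAbelian.PairOmega
open Cfsg.Agent.TIAbelian.CaseBBase
open Cfsg.Agent.TIAbelian.CaseBTwo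
open Cfsg.Agent.TIAbelian.PairCard (equiv_of_card)
open Cfsg.Agent.TIAbelian.PairGeo (Om mem_Om one_mem_Om inv_Om conj_mem_Om_cj mem_Om_cj)

variable {G : Type*} [Group G]

section

variable {P : Set (Subgroup G)} (h : Geo P) {A B C : Subgroup G} (T : TwoLines P A B C)

/-- `x ↦ [b, x]` -/
def brH (b : ↥B) : ↥(OmS h T.hA) →* ↥(OmS h T.hB) where
  toFun x := ⟨b * x * (b : G)⁻¹ * (x : G)⁻¹, h.brak A T.hA B T.hB T.AB x x.2 b b.2⟩
  map_one' := by
    apply Subtype.ext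
    simp only [_root_.OneMemClass.coe_one, _root_.mul_one, _root_.mul_inv_cancel, _root_.inv_one]
  map_mul' x y := by
    apply Subtype.ext
    show (b : G) * (x * y) * (b : G)⁻¹ * (x * y : G)⁻¹
      = ((b : G) * x * (b : G)⁻¹ * (x : G)⁻¹) * ((b : G) * y * (b : G)⁻¹ * (y : G)⁻¹)
    have h1 := h.comm_om A T.hA B T.hB T.AB x x.2 _
      (h.brak A T.hA B T.hB T.AB y y.2 b b.2)
    have e1 : (b : G) * (x * y) * (b : G)⁻¹ * (x * y : G)⁻¹
      = ((b : G) * x * (b : G)⁻¹) * (((b : G) * y * (b : G)⁻¹ * (y : G)⁻¹) * (x : G)⁻¹) := by simp only [mul_assoc, _root_.mul_inv_rev, _root_.inv_mul_cancel_left]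
    have e2 : ((b : G) * y * (b : G)⁻¹ * (y : G)⁻¹) * (x : G)⁻¹
        = (x : G)⁻¹ * ((b : G) * y * (b : G)⁻¹ * (y : G)⁻¹) := by
      have := congrArg (fun t => (x : G)⁻¹ * t * (x : G)⁻¹) h1
      simpa only [mul_assoc, _root_.inv_mul_cancel_left, _root_.mul_inv_cancel, _root_.mul_one] using this
    rw [e1, e2]
    simp only [mul_assoc]

theorem brH_bij [Finite G] {b : ↥B} (hb : (b : G) * b ≠ 1) :
    Function.Bijective (brH h T b) := by
  constructor
  · intro x y hxy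
    apply Subtype.ext
    refine h.brak_inj T.hA T.hB T.AB (show (x : G) ∈ Om A from x.2).1
      (show (y : G) ∈ Om A from y.2).1 b.2 hb ?_
    exact congrArg Subtype.val hxy
  · intro y
    obtain ⟨x, hx, e⟩ := h.surj A T.hA B T.hB T.AB b b.2 hb y y.2
    exact ⟨⟨x, hx⟩, Subtype.ext e⟩

theorem brH_mul (b c : ↥B) (x : ↥(OmS h T.hA)) :
    brH h T (b * c) x = brH h T b x * brH h T c x := by
  apply Subtype.ext
  show ((b : G) * c) * x * ((b : G) * c)⁻¹ * (x : G)⁻¹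
    = ((b : G) * x * (b : G)⁻¹ * (x : G)⁻¹) * ((c : G) * x * (c : G)⁻¹ * (x : G)⁻¹)
  have h1 := h.brak A T.hA B T.hB T.AB x x.2 c c.2
  have h2 := h.brak A T.hA B T.hB T.AB x x.2 b b.2
  have e1 : ((b : G) * c) * x * ((b : G) * c)⁻¹ * (x : G)⁻¹
      = (b * ((c : G) * x * (c : G)⁻¹ * (x : G)⁻¹)) * (x * (b : G)⁻¹ * (x : G)⁻¹) := by
    simp only [mul_assoc, _root_.mul_inv_rev, _root_.inv_mul_cancel_left]
  rw [e1, h.comm B T.hB _ b.2 _ h1.1]
  have e2 : ((c : G) * x * (c : G)⁻¹ * (x : G)⁻¹) * (b : G) * (x * (b : G)⁻¹ * (x : G)⁻¹)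
      = ((c : G) * x * (c : G)⁻¹ * (x : G)⁻¹) * ((b : G) * x * (b : G)⁻¹ * (x : G)⁻¹) := by
    simp only [mul_assoc]
  rw [e2, h.comm B T.hB _ h1.1 _ h2.1]

theorem sq_of_brH_one [Finite G] {b : ↥B} (hb : ∀ x, brH h T b x = 1) : (b : G) * b = 1 := by
  obtain ⟨x, hx, hx1⟩ := exists_ne_Om h T.hA
  by_contra h0
  exact h.brak_ne T.hA T.hB T.AB hx.1 hx1 b.2 h0 (congrArg Subtype.val (hb ⟨x, hx⟩))

theorem brH_one_of_sq {b : ↥B} (hb : (b : G) * b = 1) (x) : brH h T b x = 1 := by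
  apply Subtype.ext
  show (b : G) * x * (b : G)⁻¹ * (x : G)⁻¹ = 1
  rw [← h.comm_om A T.hA B T.hB T.AB x x.2 b ⟨b.2, hb⟩]
  simp

include h T in
/-- at most four cosets of `V_B` in `B`. -/
theorem cosets [Finite G] (b₀ b c : ↥B) (hb₀ : (b₀ : G) * b₀ ≠ 1) (hb : (b : G) * b ≠ 1)
    (hbb₀ : ((b * b₀ : ↥B) : G) * ((b * b₀ : ↥B) : G) ≠ 1) :
    (c : G) * c = 1 ∨ ((c * b₀ : ↥B) : G) * ((c * b₀ : ↥B) : G) = 1 ∨
      ((c * b : ↥B) : G) * ((c * b : ↥B) : G) = 1 ∨
      ((c * (b * b₀) : ↥B) : G) * ((c * (b * b₀) : ↥B) : G) = 1 := by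
  classical
  -- the group structures
  let iB : CommGroup ↥(OmS h T.hB) :=
    commGrp (fun x hx y hy => h.comm B T.hB x (show x ∈ Om B from hx).1 y (show y ∈ Om B from hy).1)
  let e₀ : ↥(OmS h T.hA) ≃* ↥(OmS h T.hB) := MulEquiv.ofBijective (brH h T b₀) (brH_bij h T hb₀)
  have he₀ : ∀ x, e₀ x = brH h T b₀ x := fun x => rfl
  let F : ↥B → AddMonoid.End (Additive ↥(OmS h T.hB)) := fun b =>
    MonoidHom.toAdditive ((brH h T b).comp e₀.symm.toMonoidHom)
  have hFv : ∀ b v, F b (Additive.ofMul v) = Additive.ofMul (brH h T b (e₀.symm v)) :=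
    fun b v => rfl
  have hFx : ∀ b x, F b (Additive.ofMul (e₀ x)) = Additive.ofMul (brH h T b x) := by
    intro b x
    rw [hFv, MulEquiv.symm_apply_apply]
  have hF0 : ∀ b, F b = 0 ↔ (b : G) * b = 1 := by
    intro b
    constructor
    · intro h1
      refine sq_of_brH_one h T ?_
      intro x
      have := hFx b x
      rw [h1] at this
      exact Additive.ofMul.injective this.symm
    · intro h1
      refine AddMonoidHom.ext fun v => ?_
      obtain ⟨x, hx⟩ := e₀.surjective (Additive.toMul v)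
      have h2 : v = Additive.ofMul (e₀ x) := by rw [hx]; rfl
      rw [h2]
      refine (hFx b x).trans ?_
      rw [brH_one_of_sq h T h1]
      rfl
  -- `x(b)`
  have T' : TwoLines P C B A := _root_.Cfsg.Agent.TIAbelian.CaseBTwo.symm_of T
  have hx : ∀ b : ↥B, ∃ x : ↥(OmS h T.hA), ∀ y ∈ Om C, (b : G) * y * (b : G)⁻¹ = x * y * (x : G)⁻¹ := by
    intro b
    obtain ⟨x, hx, e⟩ := T'.L2 h b.2
    exact ⟨⟨x, hx⟩, e⟩
  choose X hX using hx
  have hXuniq : ∀ (b : ↥B) (x : ↥(OmS h T.hA)),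
      (∀ y ∈ Om C, (b : G) * y * (b : G)⁻¹ = x * y * (x : G)⁻¹) → X b = x := by
    intro b x hx
    obtain ⟨y, hy, hy1⟩ := exists_ne_Om h T.hC
    have h1 := (hX b y hy).symm.trans (hx y hy)
    have h2 : ((x⁻¹ * X b : ↥(OmS h T.hA)) : G) = 1 := by
      refine T'.comm_ne hy (x⁻¹ * X b : ↥(OmS h T.hA)).2 hy1 ?_
      have := congrArg (fun t => (x : G)⁻¹ * t * X b) h1
      simpa only [mul_assoc, _root_.Subgroup.coe_mul, _root_.InvMemClass.coe_inv, _root_.inv_mul_cancel, _root_.mul_one, _root_.inv_mul_cancel_left] using this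
    have h3 : x⁻¹ * X b = 1 := Subtype.ext h2
    rw [inv_mul_eq_one] at h3
    exact h3.symm
  have hXmul : ∀ b c, X (b * c) = X b * X c := by
    intro b c
    apply hXuniq
    intro y hy
    have hyB := h.comm_om C T.hC B T.hB T.CB y hy
    have hbr := h.brak A T.hA B T.hB T.AB (X c) (X c).2 b b.2
    -- `b (x_c y x_c⁻¹) b⁻¹`
    have e1 : ((b * c : ↥B) : G) * y * ((b * c : ↥B) : G)⁻¹
        = b * (c * y * (c : G)⁻¹) * (b : G)⁻¹ := by simp only [mul_assoc, _root_.Subgroup.coe_mul, _root_.mul_inv_rev]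
    rw [e1, hX c y hy]
    have e2 : (b : G) * (X c * y * (X c : G)⁻¹) * (b : G)⁻¹
        = ((b : G) * X c * (b : G)⁻¹ * (X c : G)⁻¹) * (X c * (b * y * (b : G)⁻¹) * (X c : G)⁻¹)
          * ((b : G) * X c * (b : G)⁻¹ * (X c : G)⁻¹)⁻¹ := by simp only [mul_assoc, _root_.inv_mul_cancel_left, _root_.mul_inv_rev, _root_.inv_inv]
    rw [e2, hX b y hy]
    set v := (b : G) * X c * (b : G)⁻¹ * (X c : G)⁻¹ with hv
    have e3 : (X c : G) * (X b * y * (X b : G)⁻¹) * (X c : G)⁻¹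
        = ((X b * X c : ↥(OmS h T.hA)) : G) * y * ((X b * X c : ↥(OmS h T.hA)) : G)⁻¹ := by
      have hc : (X c : G) * X b = X b * X c :=
        h.comm A T.hA _ (show (X c : G) ∈ Om A from (X c).2).1 _
          (show (X b : G) ∈ Om A from (X b).2).1
      show _ = ((X b : G) * X c) * y * ((X b : G) * X c)⁻¹
      rw [← hc]
      simp only [mul_assoc, _root_.mul_inv_rev]
    rw [e3]
    -- `v` commutes with `x y x⁻¹`
    have e4 : ∀ x ∈ Om A, v * (x * y * x⁻¹) = (x * y * x⁻¹) * v := by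
      intro x hx
      have h1 := h.comm_om A T.hA B T.hB T.AB x hx v hbr
      have h2 : v * x⁻¹ = x⁻¹ * v := by
        have := congrArg (fun t => x⁻¹ * t * x⁻¹) h1
        simpa only [mul_assoc, _root_.inv_mul_cancel_left, _root_.mul_inv_cancel, _root_.mul_one] using this
      calc v * (x * y * x⁻¹) = (v * x) * y * x⁻¹ := by simp only [mul_assoc]
        _ = x * (v * y) * x⁻¹ := by rw [← h1]; simp only [mul_assoc]
        _ = x * y * (v * x⁻¹) := by rw [← hyB v hbr]; simp only [mul_assoc]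
        _ = x * y * x⁻¹ * v := by rw [h2]; simp only [mul_assoc]
    rw [e4 _ (X b * X c : ↥(OmS h T.hA)).2, mul_inv_cancel_right]
  have hXsq : ∀ b : ↥B, (b : G) * X b * (b : G)⁻¹ * (X b : G)⁻¹ = b * b :=
    fun b => T'.L4 h b.2 (X b).2 (hX b)
  let sq : ↥B → Additive ↥(OmS h T.hB) := fun b => Additive.ofMul ⟨b * b, h.sq_Om T.hB b.2⟩
  let ξ : ↥B → Additive ↥(OmS h T.hB) := fun b => Additive.ofMul (e₀ (X b))
  have hFmul : ∀ b c, F (b * c) = F b + F c := by
    intro b c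
    refine AddMonoidHom.ext fun v => ?_
    obtain ⟨x, hx⟩ := e₀.surjective (Additive.toMul v)
    have h2 : v = Additive.ofMul (e₀ x) := by rw [hx]; rfl
    rw [h2]
    show F (b * c) (Additive.ofMul (e₀ x)) = F b (Additive.ofMul (e₀ x)) + F c (Additive.ofMul (e₀ x))
    rw [hFx, hFx, hFx, brH_mul]
    rfl
  have h1F : F b₀ = 1 := by
    refine AddMonoidHom.ext fun v => ?_
    obtain ⟨x, hx⟩ := e₀.surjective (Additive.toMul v)
    have h2 : v = Additive.ofMul (e₀ x) := by rw [hx]; rfl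
    rw [h2]
    exact (hFx b₀ x).trans rfl
  have char2 : ∀ w : Additive ↥(OmS h T.hB), w + w = 0 := by
    intro w
    apply Additive.toMul.injective
    apply Subtype.ext
    exact (show ((Additive.toMul w : ↥(OmS h T.hB)) : G) ∈ Om B from (Additive.toMul w).2).2
  have charR : ∀ r : AddMonoid.End (Additive ↥(OmS h T.hB)), r + r = 0 := by
    intro r
    refine AddMonoidHom.ext fun w => ?_
    exact char2 (r w)
  have key := PairAlg.alg F ξ sq b₀ hFmul (by
      intro b c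
      show Additive.ofMul (e₀ (X (b * c))) = Additive.ofMul (e₀ (X b)) + Additive.ofMul (e₀ (X c))
      rw [hXmul, map_mul]
      rfl) (by
      intro b
      show F b (Additive.ofMul (e₀ (X b))) = _
      rw [hFx]
      apply Additive.toMul.injective
      apply Subtype.ext
      exact hXsq b) (by
      intro b c hbc
      have h1 : F (b * c) = 0 := by rw [hFmul, hbc, charR]
      rw [hF0] at h1
      have h2 : X (b * c) = 1 := by
        apply hXuniq
        intro y hy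
        rw [← h.comm_om C T.hC B T.hB T.CB y hy _ ⟨(b * c).2, h1⟩, mul_inv_cancel_right]
        simp only [_root_.OneMemClass.coe_one, _root_.one_mul, _root_.inv_one, _root_.mul_one]
      rw [hXmul] at h2
      have h3 : X b = X c := by
        have h4 : X c * X c = 1 :=
          Subtype.ext (show (X c : G) ∈ Om A from (X c).2).2
        exact mul_right_cancel (h2.trans h4.symm)
      show Additive.ofMul (e₀ (X b)) = Additive.ofMul (e₀ (X c))
      rw [h3]) h1F (by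
      intro h1
      exact hb₀ (congrArg (fun t => ((Additive.toMul t : ↥(OmS h T.hB)) : G)) h1)) (by
      intro b hb w hw
      have hb' : (b : G) * b ≠ 1 := fun h1 => hb ((hF0 b).2 h1)
      obtain ⟨x, hx⟩ := e₀.surjective (Additive.toMul w)
      have h2 : w = Additive.ofMul (e₀ x) := by rw [hx]; rfl
      rw [h2, hFx] at hw
      have h3 : brH h T b x = brH h T b 1 := by
        rw [map_one]
        exact Additive.ofMul.injective hw
      rw [h2, (brH_bij h T hb').1 h3, map_one]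
      rfl) (by
      intro b hb
      have hb' : (b : G) * b ≠ 1 := fun h1 => hb ((hF0 b).2 h1)
      obtain ⟨b₂, hb₂, e1, e2⟩ := T.L6 h b.2 hb' b₀.2 hb₀
      refine ⟨⟨b₂, hb₂⟩, ?_, ?_⟩
      · refine AddMonoidHom.ext fun v => ?_
        obtain ⟨x', hx'⟩ := e₀.surjective (Additive.toMul v)
        have h2 : v = Additive.ofMul (e₀ x') := by rw [hx']; rfl
        rw [h2]
        show F ⟨b₂, hb₂⟩ (Additive.ofMul (e₀ x')) = F b (F b (Additive.ofMul (e₀ x')))
        rw [hFx, hFx]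
        obtain ⟨x, hx⟩ := e₀.surjective (brH h T b x')
        rw [← hx, hFx]
        apply Additive.toMul.injective
        apply Subtype.ext
        exact e1 x x.2 x' x'.2 (congrArg Subtype.val hx).symm
      · obtain ⟨x, hx⟩ := e₀.surjective ⟨(b₀ : G) * b₀, h.sq_Om T.hB b₀.2⟩
        show _ = F b (Additive.ofMul ⟨(b₀ : G) * b₀, h.sq_Om T.hB b₀.2⟩)
        rw [← hx, hFx]
        apply Additive.toMul.injective
        apply Subtype.ext
        exact e2 x x.2 (congrArg Subtype.val hx).symm) char2 b c (fun h1 => hb ((hF0 b).1 h1)) (by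
      intro h1
      apply hbb₀
      rw [← hF0, hFmul, h1, h1F, charR])
  rcases key with h1 | h1 | h1 | h1
  · left
    exact (hF0 c).1 h1
  · right; left
    rw [← hF0, hFmul, h1, h1F, charR]
  · right; right; left
    rw [← hF0, hFmul, h1, charR]
  · right; right; right
    rw [← hF0, hFmul, hFmul, h1, h1F, charR]

end

section

variable {P : Set (Subgroup G)} (h : Geo P) {A B C : Subgroup G} (T : TwoLines P A B C)
include h T

theorem exists_hom [Finite G] : ∃ Y : ↥B →* ↥(OmS h T.hC),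
    (∀ b : ↥B, ∀ x ∈ Om A, (b : G) * x * (b : G)⁻¹ = Y b * x * (Y b : G)⁻¹) ∧
    Function.Surjective Y ∧ ∀ b, Y b = 1 ↔ (b : G) * b = 1 := by
  have hY : ∀ b : ↥B, ∃ y : ↥(OmS h T.hC), ∀ x ∈ Om A,
      (b : G) * x * (b : G)⁻¹ = y * x * (y : G)⁻¹ := by
    intro b
    obtain ⟨y, hy, e⟩ := T.L2 h b.2
    exact ⟨⟨y, hy⟩, e⟩
  choose Y hY using hY
  have huniq : ∀ (b : ↥B) (y : ↥(OmS h T.hC)),
      (∀ x ∈ Om A, (b : G) * x * (b : G)⁻¹ = y * x * (y : G)⁻¹) → Y b = y := by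
    intro b y hy
    obtain ⟨x, hx, hx1⟩ := exists_ne_Om h T.hA
    have h1 := (hY b x hx).symm.trans (hy x hx)
    have h2 : ((y⁻¹ * Y b : ↥(OmS h T.hC)) : G) = 1 := by
      refine T.comm_ne hx (y⁻¹ * Y b : ↥(OmS h T.hC)).2 hx1 ?_
      have := congrArg (fun t => (y : G)⁻¹ * t * Y b) h1
      simpa only [mul_assoc, _root_.Subgroup.coe_mul, _root_.InvMemClass.coe_inv, _root_.inv_mul_cancel, _root_.mul_one, _root_.inv_mul_cancel_left] using this
    have h3 : y⁻¹ * Y b = 1 := Subtype.ext h2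
    rw [inv_mul_eq_one] at h3
    exact h3.symm
  have hmul : ∀ b c, Y (b * c) = Y b * Y c := by
    intro b c
    apply huniq
    intro x hx
    have hxB := h.comm_om A T.hA B T.hB T.AB x hx
    have hbr := h.brak C T.hC B T.hB T.CB (Y c) (Y c).2 b b.2
    have e1 : ((b * c : ↥B) : G) * x * ((b * c : ↥B) : G)⁻¹
        = b * (c * x * (c : G)⁻¹) * (b : G)⁻¹ := by simp only [mul_assoc, _root_.Subgroup.coe_mul, _root_.mul_inv_rev]
    rw [e1, hY c x hx]
    have e2 : (b : G) * (Y c * x * (Y c : G)⁻¹) * (b : G)⁻¹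
        = ((b : G) * Y c * (b : G)⁻¹ * (Y c : G)⁻¹) * (Y c * (b * x * (b : G)⁻¹) * (Y c : G)⁻¹)
          * ((b : G) * Y c * (b : G)⁻¹ * (Y c : G)⁻¹)⁻¹ := by simp only [mul_assoc, _root_.inv_mul_cancel_left, _root_.mul_inv_rev, _root_.inv_inv]
    rw [e2, hY b x hx]
    set v := (b : G) * Y c * (b : G)⁻¹ * (Y c : G)⁻¹ with hv
    have e3 : (Y c : G) * (Y b * x * (Y b : G)⁻¹) * (Y c : G)⁻¹
        = ((Y b * Y c : ↥(OmS h T.hC)) : G) * x * ((Y b * Y c : ↥(OmS h T.hC)) : G)⁻¹ := by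
      have hc : (Y c : G) * Y b = Y b * Y c :=
        h.comm C T.hC _ (show (Y c : G) ∈ Om C from (Y c).2).1 _
          (show (Y b : G) ∈ Om C from (Y b).2).1
      show _ = ((Y b : G) * Y c) * x * ((Y b : G) * Y c)⁻¹
      rw [← hc]
      simp only [mul_assoc, _root_.mul_inv_rev]
    rw [e3]
    have e4 : ∀ y ∈ Om C, v * (y * x * y⁻¹) = (y * x * y⁻¹) * v := by
      intro y hy
      have h1 := h.comm_om C T.hC B T.hB T.CB y hy v hbr
      have h2 : v * y⁻¹ = y⁻¹ * v := by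
        have := congrArg (fun t => y⁻¹ * t * y⁻¹) h1
        simpa only [mul_assoc, _root_.inv_mul_cancel_left, _root_.mul_inv_cancel, _root_.mul_one] using this
      calc v * (y * x * y⁻¹) = (v * y) * x * y⁻¹ := by simp only [mul_assoc]
        _ = y * (v * x) * y⁻¹ := by rw [← h1]; simp only [mul_assoc]
        _ = y * x * (v * y⁻¹) := by rw [← hxB v hbr]; simp only [mul_assoc]
        _ = y * x * y⁻¹ * v := by rw [h2]; simp only [mul_assoc]
    rw [e4 _ (Y b * Y c : ↥(OmS h T.hC)).2, mul_inv_cancel_right]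
  refine ⟨MonoidHom.mk' Y hmul, hY, ?_, ?_⟩
  · intro y
    obtain ⟨b, hb, e⟩ := T.L3 h y.2
    exact ⟨⟨b, hb⟩, huniq ⟨b, hb⟩ y e⟩
  · intro b
    show Y b = 1 ↔ _
    constructor
    · intro h1
      obtain ⟨x, hx, hx1⟩ := exists_ne_Om h T.hA
      refine h.sq_of_comm T.hA T.hB T.AB hx.1 hx1 b.2 ?_
      have h2 := hY b x hx
      rw [h1] at h2
      have h3 : (b : G) * x * (b : G)⁻¹ = x := by simpa only [_root_.OneMemClass.coe_one, _root_.one_mul, _root_.inv_one, _root_.mul_one] using h2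
      exact (eq_comm_iff.2 h3).symm
    · intro h1
      apply huniq
      intro x hx
      rw [← h.comm_om A T.hA B T.hB T.AB x hx b ⟨b.2, h1⟩, mul_inv_cancel_right]
      simp

/-- The conclusion of the pair analysis. -/
theorem card_B [Finite G] : Nat.card ↥(OmS h T.hB) = 4 ∧ Nat.card ↥B = 16 ∧
    Nonempty (↥B ≃* Multiplicative (ZMod 4) × Multiplicative (ZMod 4)) := by
  classical
  obtain ⟨Y, hY1, hY2, hY3⟩ := exists_hom h T
  obtain ⟨b₀', hb₀', hb₀1⟩ := h.nonelem B T.hB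
  set b₀ : ↥B := ⟨b₀', hb₀'⟩ with hb₀def
  have hb₀ : (b₀ : G) * b₀ ≠ 1 := hb₀1
  have hYsq : ∀ y : ↥(OmS h T.hC), y * y = 1 := fun y =>
    Subtype.ext (show (y : G) ∈ Om C from y.2).2
  have hYmul1 : ∀ b c : ↥B, Y (b * c) = 1 → Y b = Y c := by
    intro b c hbc
    rw [map_mul] at hbc
    exact mul_right_cancel (hbc.trans (hYsq _).symm)
  -- at least three elements in `V_C`
  obtain ⟨y₁, hy₁, hy₁1⟩ := exists_ne_Om h T.hC
  have hnrC : ∀ y, y ∈ nr C B ↔ y ∈ Om C := by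
    intro y
    constructor
    · intro hy
      exact ⟨hy.1, (h.norm_iff B T.hB C T.hC T.CB.symm y hy.1).1 hy.2⟩
    · intro hy
      exact ⟨hy.1, (h.norm_iff B T.hB C T.hC T.CB.symm y hy.1).2 hy.2⟩
  obtain ⟨v₁, hv₁, hv₁1⟩ := exists_ne_Om h T.hB
  have hv₁' : v₁ ∈ nr B C := ⟨hv₁.1, (h.norm_iff C T.hC B T.hB T.CB v₁ hv₁.1).2 hv₁.2⟩
  obtain ⟨y₂, hy₂, hy₂1, hy₂₁⟩ := h.exists_two T.hC T.hB T.CB.1 ((hnrC y₁).2 hy₁) hy₁1 hv₁' hv₁1
  rw [hnrC] at hy₂
  -- `b₁`
  obtain ⟨b₁, hb₁, hb₁₀⟩ : ∃ b₁ : ↥B, (b₁ : G) * b₁ ≠ 1 ∧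
      ((b₁ * b₀ : ↥B) : G) * ((b₁ * b₀ : ↥B) : G) ≠ 1 := by
    by_contra hcon
    push Not at hcon
    have hall : ∀ y : ↥(OmS h T.hC), y = 1 ∨ y = Y b₀ := by
      intro y
      obtain ⟨b, rfl⟩ := hY2 y
      by_cases hb : (b : G) * b = 1
      · left
        exact (hY3 b).2 hb
      · right
        exact hYmul1 _ _ ((hY3 _).2 (hcon b hb))
    have e1 : (⟨y₁, hy₁⟩ : ↥(OmS h T.hC)) = Y b₀ :=
      (hall ⟨y₁, hy₁⟩).resolve_left (fun h0 => hy₁1 (congrArg Subtype.val h0))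
    have e2 : (⟨y₂, hy₂⟩ : ↥(OmS h T.hC)) = Y b₀ :=
      (hall ⟨y₂, hy₂⟩).resolve_left (fun h0 => hy₂1 (congrArg Subtype.val h0))
    exact hy₂₁ (congrArg Subtype.val (e2.trans e1.symm))
  have hcos := fun c => cosets h T b₀ b₁ c hb₀ hb₁ hb₁₀
  have hsurj4 : ∀ y : ↥(OmS h T.hC), y ∈ ({1, Y b₀, Y b₁, Y (b₁ * b₀)} : Finset ↥(OmS h T.hC)) := by
    intro y
    obtain ⟨c, rfl⟩ := hY2 y
    simp only [Finset.mem_insert, Finset.mem_singleton]
    rcases hcos c with h1 | h1 | h1 | h1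
    · exact Or.inl ((hY3 c).2 h1)
    · exact Or.inr (Or.inl (hYmul1 _ _ ((hY3 _).2 h1)))
    · exact Or.inr (Or.inr (Or.inl (hYmul1 _ _ ((hY3 _).2 h1))))
    · exact Or.inr (Or.inr (Or.inr (hYmul1 _ _ ((hY3 _).2 h1))))
  have : Fintype ↥(OmS h T.hC) := Fintype.ofFinite _
  have hle : Nat.card ↥(OmS h T.hC) ≤ 4 := by
    rw [Nat.card_eq_fintype_card, ← Finset.card_univ]
    calc (Finset.univ : Finset ↥(OmS h T.hC)).card
        ≤ ({1, Y b₀, Y b₁, Y (b₁ * b₀)} : Finset ↥(OmS h T.hC)).card :=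
          Finset.card_le_card (fun y _ => hsurj4 y)
      _ ≤ 4 := Finset.card_le_four
  have hge : 3 ≤ Nat.card ↥(OmS h T.hC) := by
    rw [Nat.card_eq_fintype_card]
    have h3 : ({1, ⟨y₁, hy₁⟩, ⟨y₂, hy₂⟩} : Finset ↥(OmS h T.hC)).card = 3 := by
      rw [Finset.card_eq_three]
      refine ⟨1, ⟨y₁, hy₁⟩, ⟨y₂, hy₂⟩, ?_, ?_, ?_, rfl⟩
      · intro h0; exact hy₁1 (congrArg Subtype.val h0).symm
      · intro h0; exact hy₂1 (congrArg Subtype.val h0).symm
      · intro h0; exact hy₂₁ (congrArg Subtype.val h0).symm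
    rw [← h3]
    exact Finset.card_le_univ _
  have heven : 2 ∣ Nat.card ↥(OmS h T.hC) := by
    have : orderOf (⟨y₁, hy₁⟩ : ↥(OmS h T.hC)) = 2 := by
      rw [orderOf_eq_prime_iff]
      refine ⟨?_, fun h0 => hy₁1 (congrArg Subtype.val h0)⟩
      rw [pow_two]
      exact hYsq _
    rw [← this]
    exact orderOf_dvd_natCard _
  have hC4 : Nat.card ↥(OmS h T.hC) = 4 := by omega
  have hBC : Nat.card ↥(OmS h T.hB) = Nat.card ↥(OmS h T.hC) := ncard_Om h T.hB T.hC
  have hB4 : Nat.card ↥(OmS h T.hB) = 4 := hBC.trans hC4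
  have hker : Nat.card ↥Y.ker = 4 := by
    rw [← hB4]
    refine Nat.card_congr ⟨fun x => ⟨(x : ↥B), (x : ↥B).2, (hY3 _).1 x.2⟩,
      fun x => ⟨⟨x, (show (x : G) ∈ Om B from x.2).1⟩,
        (hY3 _).2 (show (x : G) ∈ Om B from x.2).2⟩, fun x => rfl, fun x => rfl⟩
  have hB16 : Nat.card ↥B = 16 := by
    rw [← Y.ker.card_mul_index, Subgroup.index_ker, MonoidHom.range_eq_top.2 hY2, hker,
      Subgroup.card_top, hC4]
  refine ⟨hB4, hB16, ?_⟩
  refine equiv_of_card ?_ hB16 ?_ b₀ b₁ ?_ ?_ ?_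
  · intro x y
    exact Subtype.ext (h.comm B T.hB x x.2 y y.2)
  · intro x
    exact Subtype.ext (h.exp4 B T.hB x x.2)
  · intro h0
    exact hb₀ (congrArg Subtype.val h0)
  · intro h0
    exact hb₁ (congrArg Subtype.val h0)
  · intro h0
    exact hb₁₀ (congrArg Subtype.val h0)

end

end Cfsg.Agent.TIAbelian.CaseBFinal
end

-- part: TIAbelian/CaseB5Def
section
set_option autoImplicit false

namespace Cfsg.Agent.TIAbelian.CaseB5Def

open Cfsg.Agent.TIAbelian.PairBase hiding TIFam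
open Cfsg.Agent.TIAbelian.PairOmega
open Cfsg.Agent.TIAbelian.CaseBBase
open Cfsg.Agent.TIAbelian.CaseBGeo
open Cfsg.Agent.TIAbelian.PairGeo (Om mem_Om one_mem_Om inv_Om conj_mem_Om_cj mem_Om_cj)

variable {G : Type*} [Group G]

/-- The family consists of groups of order 16 with four elements of order at most 2. -/
structure Four (P : Set (Subgroup G)) : Prop extends CaseBTwo.Geo P where
  card : ∀ C ∈ P, Nat.card ↥C = 16
  card_om : ∀ C ∈ P, (Om C).ncard = 4

end Cfsg.Agent.TIAbelian.CaseB5Def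
end

private theorem dce_25f75ab4caef : _root_.True := by
  try have : _root_.True := by simp only [_root_.Cfsg.Agent.TIAbelian.IsolatedCount.invSub.congr_simp]
  try have : _root_.True := by simp only [_root_.Cfsg.Agent.TIAbelian.IsolatedPSU.tSU.congr_simp]
  try have : _root_.True := by simp only [_root_.Cfsg.Agent.TIAbelian.IsolatedPSU.blkMat.eq_1]
  exact _root_.True.intro
end

-- part: TIAbelian/EndMain
section
prune_inst 0xe4200000612202000000000000003c6292000002004b000111400400048f5c0080000621c22008120002a0040030006811cc00500010000000000000011900a0802212009048a004040009801001180c00000000000000000000000000041000000000000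
set_option linter.all false
open scoped Cfsg.Agent.FastGrp

-- part: TIAbelian/EndCent
section
/-!
# Elements centralising `B`
-/

set_option autoImplicit false
set_option linter.unusedSectionVars false

namespace Cfsg.Agent.TIAbelian.End

open Subgroup
open Cfsg.Agent.ClassificationK.TIPair (cj mem_normalizer_cj normalizer_of_cj_eq cj_eq_of_mem_normalizer)
open Cfsg.Agent.ClassificationK.TIFamily (mem_cj cj_mul cj_one)

universe u

variable {G : Type u} [Group G] {B A C : Subgroup G} [Finite G]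

theorem Adj.conj_self (h : Adj B A) {b : G} (hb : b ∈ B) : Adj B (cj b A) := by
  have h1 := h.conj b
  rwa [h.base.cj_mem_self hb] at h1

/-- `r` centralises `Om B` and normalises two members of the line -/
theorem Adj.cent_Om_gen (h : Adj B A) {r β : G} (hr : ∀ y ∈ Om B, r * y = y * r) (hβ : β ∈ B) (hβO : β ∉ Om B)
    (hrA : cj r A = A) (hrA' : cj r (cj β A) = cj β A) : ∀ a ∈ Om A, r * a = a * r := by
  intro a ha
  have ha' : r * a * r⁻¹ ∈ Om A := by
    have h1 := cj_mem (g := r) ha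
    rwa [cj_Om h.baseA.comm, hrA] at h1
  have h1 := h.conj_a ha β
  have h2 := h.conj_a ha' β
  have h3 : r * (β * a * β⁻¹) * r⁻¹ ∈ cj β A := conj_mem hrA' (cj_mem (h.baseA.Om_le ha))
  have h4 : β * (r * a * r⁻¹) * β⁻¹ ∈ cj β A := cj_mem (h.baseA.Om_le ha')
  have h5 := hr _ (h.br_mem ha hβ)
  have h6 : r * (β * a * β⁻¹) * r⁻¹ = (r * a * r⁻¹) * br a β := by
    rw [h1]
    calc r * (a * br a β) * r⁻¹ = r * a * r⁻¹ * (r * br a β) * r⁻¹ := by group
      _ = r * a * r⁻¹ * (br a β * r) * r⁻¹ := by rw [h5]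
      _ = _ := by group
  have h7 : (br (r * a * r⁻¹) β)⁻¹ * br a β = 1 := by
    apply (h.conj_self hβ).inf
    · have h8 : (br (r * a * r⁻¹) β)⁻¹ * br a β =
          (β * (r * a * r⁻¹) * β⁻¹)⁻¹ * (r * (β * a * β⁻¹) * r⁻¹) := by
        rw [h6, h2]; group
      rw [h8]
      exact (cj β A).mul_mem ((cj β A).inv_mem h4) h3
    · exact h.base.Om_le ((Om B).mul_mem ((Om B).inv_mem (h.br_mem ha' hβ)) (h.br_mem ha hβ))
  have h8 := h.br_left_inj ha' ha hβ hβO (inv_mul_eq_one.1 h7)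
  calc r * a = (r * a * r⁻¹) * r := by group
    _ = a * r := by rw [h8]

theorem Adj.cent_Om (h : Adj B A) {k : G} (hkB : ∀ b ∈ B, k * b = b * k) (hkA : cj k A = A) :
    ∀ a ∈ Om A, k * a = a * k := by
  obtain ⟨b, hb, -, -, hbO, -, -⟩ := h.base.exists_pair
  refine h.cent_Om_gen (fun y hy => hkB y (h.base.Om_le hy)) hb hbO hkA ?_
  rw [cj_cj, hkB b hb, ← cj_cj, hkA]

/-- the swapping element in the form `b a⁻¹ b` -/
theorem Adj.exists_swap' (h : Adj B A) : ∃ a ∈ A, ∃ b ∈ B, cj (b * a⁻¹ * b) A = B ∧ cj (b * a⁻¹ * b) B = A := by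
  obtain ⟨b, hb, -, -, hbO, -, -⟩ := h.base.exists_pair
  obtain ⟨x₀, hx₀, hx₀1⟩ := h.baseA.exists_ne
  have hy₀ := h.br_mem hx₀ hb
  have hy₀1 : br x₀ b ≠ 1 := fun h1 => hbO (h.br_one hx₀ hx₀1 hb h1)
  obtain ⟨a, ha, hax⟩ := h.symm.br_right_surj hy₀ hy₀1 hx₀
  have h1 := h.conj_a hx₀ b
  have h2 := h.symm.conj_a hy₀ a
  rw [hax] at h2
  have hcomm := h.comm_Om_Om hx₀ hy₀
  have hne : x₀ * br x₀ b ≠ 1 := by
    intro h3
    have h4 : b * x₀ * b⁻¹ = 1 := by rw [h1, h3]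
    apply hx₀1
    calc x₀ = b⁻¹ * (b * x₀ * b⁻¹) * b := by group
      _ = 1 := by rw [h4]; group
  have hBA : cj b A = cj a B := by
    refine h.base.ti2 (cj_mem_Cl h.mem b) ⟨a, rfl⟩ (x := x₀ * br x₀ b) ?_ ?_ hne
    · rw [← h1]; exact cj_mem (h.baseA.Om_le hx₀)
    · rw [hcomm, ← h2]; exact cj_mem (h.base.Om_le hy₀)
  have hbB : cj b B = B := h.base.cj_mem_self hb
  have haA : cj a A = A := h.baseA.cj_mem_self ha
  have hcjw : ∀ X : Subgroup G, cj (b * a⁻¹ * b) X = cj b (cj a⁻¹ (cj b X)) := by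
    intro X
    rw [cj_cj, cj_cj, mul_assoc]
  have haB : cj a⁻¹ B = cj b A := by
    have h3 : (a * a)⁻¹ ∈ Om A := (Om A).inv_mem (h.baseA.sq_mem_Om ha)
    have h4 := h.norm h3
    rw [hBA]
    conv_rhs => rw [← h4]
    rw [cj_cj]
    have h5 : a * (a * a)⁻¹ = a⁻¹ := by group
    rw [h5]
  refine ⟨a, ha, b, hb, ?_, ?_⟩
  · rw [hcjw, hBA, cj_cancel, hbB]
  · rw [hcjw, hbB, haB, cj_cj]
    exact h.symm.norm (h.base.sq_mem_Om hb)

/-- elements centralising both `A` and `B` -/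
structure Dd (B A : Subgroup G) (d : G) : Prop where
  cB : ∀ b ∈ B, d * b = b * d
  cA : ∀ a ∈ A, d * a = a * d

theorem cj_comm_fix {k : G} {X : Subgroup G} (h : ∀ x ∈ X, k * x = x * k) : cj k X = X := by
  ext x
  rw [mem_cj]
  constructor
  · intro hx
    have h1 := h _ hx
    have h2 : x = k⁻¹ * x * k := by
      calc x = k * (k⁻¹ * x * k) * k⁻¹ := by group
        _ = (k⁻¹ * x * k) * k * k⁻¹ := by rw [h1]
        _ = k⁻¹ * x * k := by group
    rw [h2]; exact hx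
  · intro hx
    have h1 := h _ hx
    have h2 : k⁻¹ * x * k = x := by
      calc k⁻¹ * x * k = k⁻¹ * (x * k) := by group
        _ = k⁻¹ * (k * x) := by rw [h1]
        _ = x := by group
    rw [h2]; exact hx

theorem Dd.inv {d : G} (h : Dd B A d) : Dd B A d⁻¹ := by
  constructor
  · intro b hb
    have h1 := h.cB b hb
    calc d⁻¹ * b = d⁻¹ * (b * d) * d⁻¹ := by group
      _ = d⁻¹ * (d * b) * d⁻¹ := by rw [h1]
      _ = b * d⁻¹ := by group
  · intro b hb
    have h1 := h.cA b hb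
    calc d⁻¹ * b = d⁻¹ * (b * d) * d⁻¹ := by group
      _ = d⁻¹ * (d * b) * d⁻¹ := by rw [h1]
      _ = b * d⁻¹ := by group

theorem Dd.mul {d e : G} (h : Dd B A d) (he : Dd B A e) : Dd B A (d * e) := by
  constructor
  · intro b hb
    calc d * e * b = d * (e * b) := by group
      _ = d * b * e := by rw [he.cB b hb]; group
      _ = b * (d * e) := by rw [h.cB b hb]; group
  · intro b hb
    calc d * e * b = d * (e * b) := by group
      _ = d * b * e := by rw [he.cA b hb]; group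
      _ = b * (d * e) := by rw [h.cA b hb]; group

theorem Adj.split (h : Adj B A) {k : G} (hkB : ∀ b ∈ B, k * b = b * k) (hkA : cj k A = A) :
    ∃ y ∈ Om B, ∃ d, Dd B A d ∧ k = y * d := by
  obtain ⟨a, ha, b, hb, hwA, hwB⟩ := h.exists_swap'
  set w := b * a⁻¹ * b with hw
  have hOm := h.cent_Om hkB hkA
  have hka : k * a * k⁻¹ ∈ A := conj_mem hkA ha
  -- `z = [k,a]`
  have hzA : k * a * k⁻¹ * a⁻¹ ∈ A := A.mul_mem hka (A.inv_mem ha)
  have haa := hOm _ (h.baseA.sq_mem_Om ha)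
  have hzz : k * a * k⁻¹ * a⁻¹ * (k * a * k⁻¹ * a⁻¹) = 1 := by
    have h1 := h.baseA.comm _ hka _ (A.inv_mem ha)
    calc k * a * k⁻¹ * a⁻¹ * (k * a * k⁻¹ * a⁻¹) = (k * a * k⁻¹) * (a⁻¹ * (k * a * k⁻¹)) * a⁻¹ := by group
      _ = (k * a * k⁻¹) * ((k * a * k⁻¹) * a⁻¹) * a⁻¹ := by rw [h1]
      _ = (k * (a * a)) * k⁻¹ * a⁻¹ * a⁻¹ := by group
      _ = ((a * a) * k) * k⁻¹ * a⁻¹ * a⁻¹ := by rw [haa]
      _ = 1 := by group
  set z := k * a * k⁻¹ * a⁻¹ with hz
  have hzO : z ∈ Om A := (mem_Om h.baseA.comm).2 ⟨hzA, hzz⟩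
  have hzi := h.Om_inv hzO
  have h1 : k * a⁻¹ * k⁻¹ = z * a⁻¹ := by
    have h2 : k * a⁻¹ * k⁻¹ = a⁻¹ * z⁻¹ := by rw [hz]; group
    rw [h2, hzi]
    exact h.baseA.comm _ (A.inv_mem ha) _ hzA
  have hkb := hkB b hb
  have h2 : k * w = (b * z * b⁻¹) * w * k := by
    calc k * w = (k * b) * a⁻¹ * b := by rw [hw]; group
      _ = (b * k) * a⁻¹ * b := by rw [hkb]
      _ = b * (k * a⁻¹ * k⁻¹) * (k * b) := by group
      _ = b * (z * a⁻¹) * (b * k) := by rw [h1, hkb]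
      _ = (b * z * b⁻¹) * w * k := by rw [hw]; group
  have h3 := h.conj_a hzO b
  have hy := h.br_mem hzO hb
  -- `w k w⁻¹` centralises `A`
  have h4 : ∀ x ∈ A, (w * k * w⁻¹) * x = x * (w * k * w⁻¹) := by
    intro x hx
    have h5 : w⁻¹ * x * w ∈ B := by
      rw [← hwB, mem_cj] at hx
      exact hx
    have h6 := hkB _ h5
    calc (w * k * w⁻¹) * x = w * (k * (w⁻¹ * x * w)) * w⁻¹ := by group
      _ = w * ((w⁻¹ * x * w) * k) * w⁻¹ := by rw [h6]
      _ = x * (w * k * w⁻¹) := by group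
  have h5 : k = (z * br z b) * (w * k * w⁻¹) := by
    calc k = (k * w) * w⁻¹ := by group
      _ = ((b * z * b⁻¹) * w * k) * w⁻¹ := by rw [h2]
      _ = (z * br z b) * (w * k * w⁻¹) := by rw [h3]; group
  have h6 : br z b * z = z * br z b := (h.comm_Om_Om hzO hy).symm
  have hyy := h.base.Om_sq hy
  refine ⟨br z b, hy, br z b * k, ⟨?_, ?_⟩, ?_⟩
  · intro x hx
    have h7 := h.base.comm _ (h.base.Om_le hy) x hx
    calc br z b * k * x = br z b * (k * x) := by group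
      _ = (br z b * x) * k := by rw [hkB x hx]; group
      _ = x * (br z b * k) := by rw [h7]; group
  · intro x hx
    have h7 : br z b * k = z * (w * k * w⁻¹) := by
      calc br z b * k = br z b * ((z * br z b) * (w * k * w⁻¹)) := by rw [← h5]
        _ = (br z b * z) * br z b * (w * k * w⁻¹) := by group
        _ = z * (br z b * br z b) * (w * k * w⁻¹) := by rw [h6]; group
        _ = z * (w * k * w⁻¹) := by rw [hyy, mul_one]
    rw [h7]
    have h8 := h.baseA.comm z hzA x hx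
    calc z * (w * k * w⁻¹) * x = z * ((w * k * w⁻¹) * x) := by group
      _ = (z * x) * (w * k * w⁻¹) := by rw [h4 x hx]; group
      _ = x * (z * (w * k * w⁻¹)) := by rw [h8]; group
  · rw [← mul_assoc, hyy, one_mul]

/-- an element of `B` centralising `A` is trivial -/
theorem Adj.inf_cent (h : Adj B A) {x : G} (hx : x ∈ B) (hxA : ∀ a ∈ A, x * a = a * x) : x = 1 := by
  by_contra hx1
  obtain ⟨a, ha, -, -, haO, -, -⟩ := h.baseA.exists_pair
  exact haO (h.symm.fix_mem hx hx1 ha (hxA a ha))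

/-- nontrivial elements of the `Om X` -/
def Iv (B : Subgroup G) (x : G) : Prop := x ≠ 1 ∧ ∃ X ∈ Cl B, x ∈ Om X

theorem Iv.conj (hB : Base B) {x : G} (h : Iv B x) (g : G) : Iv B (g * x * g⁻¹) := by
  obtain ⟨hx1, X, hX, hx⟩ := h
  refine ⟨?_, cj g X, cj_mem_Cl hX g, ?_⟩
  · intro h1
    apply hx1
    calc x = g⁻¹ * (g * x * g⁻¹) * g := by group
      _ = 1 := by rw [h1]; group
  · rw [← cj_Om (hB.of_mem hX).comm]
    exact cj_mem hx

theorem Iv.sq (hB : Base B) {x : G} (h : Iv B x) : x * x = 1 := by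
  obtain ⟨-, X, hX, hx⟩ := h
  exact (hB.of_mem hX).Om_sq hx

theorem Iv.inv (hB : Base B) {x : G} (h : Iv B x) : x⁻¹ = x := inv_eq_self (h.sq hB)

theorem Adj.Iv_line (h : Adj B A) {x : G} (hx : x ∈ Om A ⊔ Om B) (hx1 : x ≠ 1) : Iv B x := by
  obtain ⟨X, hX, hxX, -⟩ := h.cover hx hx1
  refine ⟨hx1, X, ?_, hxX⟩
  rcases hX with rfl | ⟨b, -, rfl⟩
  · exact self_mem_Cl X
  · exact cj_mem_Cl h.mem b

theorem Iv.mul (hB : Base B) {x y : G} (hx : Iv B x) (hy : Iv B y) (hxy : x * y = y * x) (hne : x ≠ y) :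
    Iv B (x * y) := by
  have hne1 : x * y ≠ 1 := by
    intro h1
    apply hne
    rw [← hy.inv hB]
    exact eq_inv_of_mul_eq_one_left h1
  obtain ⟨hx1, X, hX, hxX⟩ := hx
  obtain ⟨hy1, Y, hY, hyY⟩ := hy
  have bX := hB.of_mem hX
  have bY := hB.of_mem hY
  by_cases hXY : X = Y
  · subst hXY
    exact ⟨hne1, X, hX, (Om X).mul_mem hxX hyY⟩
  · have hadj : Adj Y X := bY.adj_of_comm (by rw [Cl_eq hY]; exact hX) hXY (bX.Om_le hxX) hx1 (bY.Om_le hyY)
      hy1 hxy
    have h1 := hadj.Iv_line (hadj.mem_line.2 ⟨x, hxX, y, hyY, rfl⟩) hne1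
    obtain ⟨-, Z, hZ, hz⟩ := h1
    exact ⟨hne1, Z, by rwa [← Cl_eq hY], hz⟩

theorem Iv.mem_of_cent (hB : Base B) {x : G} (hx : Iv B x) (hc : ∀ b ∈ B, x * b = b * x) : x ∈ Om B := by
  obtain ⟨hx1, X, hX, hxX⟩ := hx
  have bX := hB.of_mem hX
  by_cases hXB : X = B
  · rwa [← hXB]
  exfalso
  obtain ⟨y, hy, hy1⟩ := hB.exists_ne
  have hadj : Adj B X := hB.adj_of_comm hX hXB (bX.Om_le hxX) hx1 (hB.Om_le hy) hy1 (hc y (hB.Om_le hy))
  obtain ⟨b, hb, -, -, hbO, -, -⟩ := hB.exists_pair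
  exact hbO (hadj.fix_mem (bX.Om_le hxX) hx1 hb (hc b hb))

/-- S3 -/
theorem Adj.mem_line_of_comm (h : Adj B A) {x a : G} (ha : a ∈ Om A) (ha1 : a ≠ 1) (hx : Iv B x)
    (hk : ∀ b ∈ B, (a * x) * b = b * (a * x)) (hcomm : a * x = x * a) : x ∈ Om A ⊔ Om B := by
  by_cases hax : a = x
  · rw [← hax]
    exact (le_sup_left : Om A ≤ Om A ⊔ Om B) ha
  have h1 : Iv B (a * x) := by
    refine Iv.mul h.base ⟨ha1, A, h.mem, ha⟩ hx hcomm hax
  have h2 := h1.mem_of_cent h.base hk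
  rw [h.mem_line]
  refine ⟨a, ha, a * x, h2, ?_⟩
  rw [← mul_assoc, h.baseA.Om_sq ha, one_mul]

/-- S4 -/
theorem Adj.form_four (h : Adj B A) {x a : G} (ha : a ∈ Om A) (ha1 : a ≠ 1) (hx : Iv B x)
    (hk : ∀ b ∈ B, (a * x) * b = b * (a * x)) (h2 : (a * x) * (a * x) ≠ 1)
    (h4 : (a * x) * (a * x) * ((a * x) * (a * x)) = 1) :
    ∃ b ∈ B, ∃ d, b ∉ Om B ∧ Dd B A d ∧ d * d = 1 ∧ x = a * b * d ∧ br a b = b * b := by
  have hai := h.Om_inv ha
  have haa := h.baseA.Om_sq ha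
  have hxi := hx.inv h.base
  have hxx := hx.sq h.base
  have ivA : Iv B a := ⟨ha1, A, h.mem, ha⟩
  set y := (a * x) * (a * x) with hy
  have hconj : x * a * x⁻¹ = a * y := by
    rw [hxi, hy]
    calc x * a * x = (a * a) * x * a * x := by rw [haa, one_mul]
      _ = _ := by group
  have hyi : y⁻¹ = y := inv_eq_self h4
  have hy1 : a * (x * a * x⁻¹) = y := by
    rw [hconj, ← mul_assoc, haa, one_mul]
  have hcomm : a * (x * a * x⁻¹) = (x * a * x⁻¹) * a := by
    rw [hy1, ← hyi, ← hy1, mul_inv_rev, hai]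
    congr 1
    rw [mul_inv_rev, mul_inv_rev, inv_inv, hai]
    group
  have hne : a ≠ x * a * x⁻¹ := by
    intro h1
    rw [← h1, haa] at hy1
    exact h2 hy1.symm
  have ivy : Iv B y := by
    rw [← hy1]
    exact ivA.mul h.base (ivA.conj h.base x) hcomm hne
  have hyc : ∀ b ∈ B, y * b = b * y := by
    intro b hb
    have h1 := hk b hb
    calc y * b = (a * x) * ((a * x) * b) := by rw [hy]; group
      _ = (a * x) * (b * (a * x)) := by rw [h1]
      _ = ((a * x) * b) * (a * x) := by group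
      _ = (b * (a * x)) * (a * x) := by rw [h1]
      _ = b * y := by rw [hy]; group
  have hyO := ivy.mem_of_cent h.base hyc
  obtain ⟨b, hb, hab⟩ := h.br_right_surj ha ha1 hyO
  have hbO : b ∉ Om B := by
    intro h1
    apply h2
    rw [← hab]
    exact h.br_Om ha h1
  have hcj1 : cj x A = cj b A := by
    refine h.base.ti2 (cj_mem_Cl h.mem x) (cj_mem_Cl h.mem b) (x := a * y) ?_ ?_ ?_
    · rw [← hconj]; exact cj_mem (h.baseA.Om_le ha)
    · rw [← hab, ← h.conj_a ha b]; exact cj_mem (h.baseA.Om_le ha)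
    · rw [← hconj]; exact (ivA.conj h.base x).1
  have haA : cj a A = A := h.baseA.cj_mem_self (h.baseA.Om_le ha)
  have hcj2 : cj (a * x) A = cj b A := by
    rw [← cj_cj, hcj1, cj_cj]
    have h1 : a * b = (b * br a b) * a := by
      have h5 := h.base.comm b hb _ (h.base.Om_le (h.br_mem ha hb))
      rw [h5, br]; group
    rw [h1, ← cj_cj, haA, ← cj_cj, h.symm.norm (h.br_mem ha hb)]
  have hcj3 : cj (b⁻¹ * (a * x)) A = A := by
    rw [← cj_cj, hcj2, cj_cancel]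
  obtain ⟨y', hy', d, hd, hkd⟩ := h.split (k := b⁻¹ * (a * x)) (by
    intro c hc
    have h1 := hk c hc
    have h5 := h.base.comm _ (B.inv_mem hb) c hc
    calc b⁻¹ * (a * x) * c = b⁻¹ * ((a * x) * c) := by group
      _ = (b⁻¹ * c) * (a * x) := by rw [h1]; group
      _ = c * (b⁻¹ * (a * x)) := by rw [h5]; group) hcj3
  have hb' : b * y' ∈ B := B.mul_mem hb (h.base.Om_le hy')
  have hk' : a * x = b * y' * d := by
    calc a * x = b * (b⁻¹ * (a * x)) := by group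
      _ = b * y' * d := by rw [hkd]; group
  have hx' : x = a * (b * y') * d := by
    calc x = (a * a) * x := by rw [haa, one_mul]
      _ = a * (a * x) := by group
      _ = a * (b * y') * d := by rw [hk']; group
  have hdd : d * d = 1 := by
    have h1 : y = (b * y') * (b * y') * (d * d) := by
      rw [hy, hk']
      have h5 := hd.cB _ hb'
      calc b * y' * d * (b * y' * d) = b * y' * (d * (b * y')) * d := by group
        _ = b * y' * ((b * y') * d) * d := by rw [h5]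
        _ = _ := by group
    have h3 : d * d ∈ B := by
      have h5 : d * d = ((b * y') * (b * y'))⁻¹ * y := by rw [h1]; group
      rw [h5]
      exact B.mul_mem (B.inv_mem (B.mul_mem hb' hb')) (h.base.Om_le hyO)
    exact h.inf_cent h3 (hd.mul hd).cA
  have hbO' : b * y' ∉ Om B := by
    intro h1
    apply hbO
    have h5 : b = b * y' * y'⁻¹ := by group
    rw [h5]
    exact (Om B).mul_mem h1 ((Om B).inv_mem hy')
  refine ⟨b * y', hb', d, hbO', hd, hdd, hx', ?_⟩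
  apply h.br_of_sq ha hb'
  have h1 : x * x = a * (b * y') * (a * (b * y')) * (d * d) := by
    have h5 := hd.cA _ (h.baseA.Om_le ha)
    have h6 := hd.cB _ hb'
    rw [hx']
    calc a * (b * y') * d * (a * (b * y') * d) = a * (b * y') * (d * a) * (b * y') * d := by group
      _ = a * (b * y') * (a * d) * (b * y') * d := by rw [h5]
      _ = a * (b * y') * a * (d * (b * y')) * d := by group
      _ = a * (b * y') * a * ((b * y') * d) * d := by rw [h6]
      _ = _ := by group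
  rw [hdd, mul_one, hxx] at h1
  exact h1.symm

end Cfsg.Agent.TIAbelian.End
end

-- part: TIAbelian/EndCentB
section
/-!
# The second line inside `Om A ⊔ B`
-/

set_option autoImplicit false
set_option linter.unusedSectionVars false

namespace Cfsg.Agent.TIAbelian.End

open Subgroup
open Cfsg.Agent.ClassificationK.TIPair (cj mem_normalizer_cj normalizer_of_cj_eq cj_eq_of_mem_normalizer)
open Cfsg.Agent.ClassificationK.TIFamily (mem_cj cj_mul cj_one)

universe u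

variable {G : Type u} [Group G] {B A C : Subgroup G} [Finite G]

/-- two lines, the second one inside `Om A ⊔ B` -/
structure TL (B A C : Subgroup G) : Prop where
  adjA : Adj B A
  adjC : Adj B C
  le : Om C ≤ Om A ⊔ B
  ne : ¬ Om C ≤ Om A ⊔ Om B

theorem Adj.uniq (h : Adj B A) {a a' b b' : G} (ha : a ∈ A) (ha' : a' ∈ A) (hb : b ∈ B) (hb' : b' ∈ B)
    (he : a * b = a' * b') : a = a' ∧ b = b' := by
  have h1 : a'⁻¹ * a = b' * b⁻¹ := by
    calc a'⁻¹ * a = a'⁻¹ * (a * b) * b⁻¹ := by group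
      _ = b' * b⁻¹ := by rw [he]; group
  have h2 : a'⁻¹ * a = 1 := by
    apply h.inf (A.mul_mem (A.inv_mem ha') ha)
    rw [h1]; exact B.mul_mem hb' (B.inv_mem hb)
  have h3 : a = a' := (inv_mul_eq_one.1 h2).symm
  refine ⟨h3, ?_⟩
  rw [h2] at h1
  exact (mul_inv_eq_one.1 h1.symm).symm

theorem Adj.br_right_inj (h : Adj B A) {a b c : G} (ha : a ∈ Om A) (ha1 : a ≠ 1) (hb : b ∈ B) (hc : c ∈ B)
    (he : br a b = br a c) : b⁻¹ * c ∈ Om B := by
  apply h.br_one ha ha1 (B.mul_mem (B.inv_mem hb) hc)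
  have h1 : br a (b * (b⁻¹ * c)) = br a b * br a (b⁻¹ * c) :=
    h.br_mul_right ha hb (B.mul_mem (B.inv_mem hb) hc)
  rw [mul_inv_cancel_left, ← he] at h1
  exact mul_left_cancel (a := br a b) (by rw [mul_one]; exact h1.symm)

theorem Dd.comm_sup {d : G} (h : Dd B A d) {t : G} (ht : t ∈ A ⊔ B) : d * t = t * d := by
  have h1 : A ⊔ B ≤ centralizer ({d} : Set G) := by
    apply sup_le
    · intro x hx
      rw [mem_centralizer_singleton_iff]
      exact (h.cA x hx).symm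
    · intro x hx
      rw [mem_centralizer_singleton_iff]
      exact (h.cB x hx).symm
  exact (mem_centralizer_singleton_iff.1 (h1 ht)).symm

/-- the product of two elements `a b`, `[a,b] = b²` -/
theorem Adj.prod_form (h : Adj B A) {a a₁ b b₁ : G} (ha : a ∈ Om A) (ha₁ : a₁ ∈ Om A) (ha1 : a ≠ 1)
    (ha₁1 : a₁ ≠ 1) (hb : b ∈ B) (hb₁ : b₁ ∈ B) (hbO : b ∉ Om B) (hb₁O : b₁ ∉ Om B)
    (hab : br a b = b * b) (hab₁ : br a₁ b₁ = b₁ * b₁) (hne : b * b ≠ b₁ * b₁) :
    (a * b) * (a₁ * b₁) = (a₁ * b₁) * (a * b) ∧ (a * b) * (a₁ * b₁) = (a * a₁) * (br a₁ b * b * b₁) ∧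
    br a₁ b * b * b₁ ∈ B ∧ br a₁ b * b * b₁ ∉ Om B := by
  have e1 := h.br_other ha ha1 hb hbO hab hb₁ hb₁O hne
  have e2 := h.br_other ha₁ ha₁1 hb₁ hb₁O hab₁ hb hbO hne.symm
  have hB := h.base
  have hbr : br a₁ b ∈ Om B := h.br_mem ha₁ hb
  have hkey : ∀ {p q s : G}, p ∈ Om A → q ∈ B → q * p = p * (br p q * q) := by
    intro p q s hp hq
    have h1 := h.conj_a hp q
    have h2 := hB.comm _ (hB.Om_le (h.br_mem hp hq)) q hq
    calc q * p = (q * p * q⁻¹) * q := by group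
      _ = p * (br p q * q) := by rw [h1, mul_assoc]
  have f1 : (a * b) * (a₁ * b₁) = (a * a₁) * (br a₁ b * b * b₁) := by
    calc (a * b) * (a₁ * b₁) = a * (b * a₁) * b₁ := by group
      _ = a * (a₁ * (br a₁ b * b)) * b₁ := by rw [hkey (s := 1) ha₁ hb]
      _ = _ := by group
  have f2 : (a₁ * b₁) * (a * b) = (a₁ * a) * (br a b₁ * b₁ * b) := by
    calc (a₁ * b₁) * (a * b) = a₁ * (b₁ * a) * b := by group
      _ = a₁ * (a * (br a b₁ * b₁)) * b := by rw [hkey (s := 1) ha hb₁]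
      _ = _ := by group
  have hc := hB.comm b hb b₁ hb₁
  have hca := h.baseA.comm a (h.baseA.Om_le ha) a₁ (h.baseA.Om_le ha₁)
  have hcs := hB.comm (b * b) (B.mul_mem hb hb) (b₁ * b₁) (B.mul_mem hb₁ hb₁)
  have hmem : br a₁ b * b * b₁ ∈ B := B.mul_mem (B.mul_mem (hB.Om_le hbr) hb) hb₁
  refine ⟨?_, f1, hmem, ?_⟩
  · rw [f1, f2, hca, e1, e2, hcs, mul_assoc (b₁ * b₁ * (b * b)), mul_assoc (b₁ * b₁ * (b * b)), hc]
  · intro h1
    have h2 : b * b₁ ∈ Om B := by
      have h3 : b * b₁ = (br a₁ b)⁻¹ * (br a₁ b * b * b₁) := by group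
      rw [h3]
      exact (Om B).mul_mem ((Om B).inv_mem hbr) h1
    have h3 := hB.Om_sq h2
    rw [hB.sq_mul hb hb₁] at h3
    apply hne
    have h4 := inv_eq_self (hB.exp b₁ hb₁)
    rw [← h4]
    exact eq_inv_of_mul_eq_one_left h3

/-- conjugating by an element normalising `A`, `B` -/
theorem Adj.conj_form (h : Adj B A) {t a b : G} (htA : cj t A = A) (htB : cj t B = B) (ha : a ∈ Om A)
    (hb : b ∈ B) (hbO : b ∉ Om B) (hab : br a b = b * b) :
    t * a * t⁻¹ ∈ Om A ∧ t * b * t⁻¹ ∈ B ∧ t * b * t⁻¹ ∉ Om B ∧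
      br (t * a * t⁻¹) (t * b * t⁻¹) = (t * b * t⁻¹) * (t * b * t⁻¹) := by
  refine ⟨conj_Om_mem h.baseA htA ha, conj_mem htB hb, ?_, ?_⟩
  · intro h1
    apply hbO
    have h2 := conj_Om_mem h.base (cj_inv_eq htB) h1
    have h3 : t⁻¹ * (t * b * t⁻¹) * t⁻¹⁻¹ = b := by group
    rwa [h3] at h2
  · rw [br_conj]
    have h3 : t⁻¹ * (t * b * t⁻¹) * t = b := by group
    rw [h3, hab]; group

/-- S6, first half: a neighbour containing an element `a b` -/
theorem Adj.exists_nbr (h : Adj B A) {x a : G} (ha : a ∈ Om A) (ha1 : a ≠ 1) (hx : Iv B x)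
    (hk : ∀ b ∈ B, (a * x) * b = b * (a * x)) (h2 : (a * x) * (a * x) ≠ 1)
    (h4 : (a * x) * (a * x) * ((a * x) * (a * x)) = 1) :
    ∃ X, Adj B X ∧ ∃ a₂ ∈ Om A, a₂ ≠ 1 ∧ ∃ b₂ ∈ B, b₂ ∉ Om B ∧ br a₂ b₂ = b₂ * b₂ ∧ a₂ * b₂ ∈ Om X := by
  obtain ⟨b, hb, d, hbO, hd, hdd, hxd, hab⟩ := h.form_four ha ha1 hx hk h2 h4
  obtain ⟨t, htAB, htA, htB, ht1, ht2⟩ := h.exists_torus
  obtain ⟨ha₁, hb₁, hb₁O, hab₁⟩ := h.conj_form htA htB ha hb hbO hab
  have ha₁1 : t * a * t⁻¹ ≠ 1 := by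
    intro h1
    apply ha1
    calc a = t⁻¹ * (t * a * t⁻¹) * t := by group
      _ = 1 := by rw [h1]; group
  have hdt := hd.comm_sup htAB
  have hx₁ : t * x * t⁻¹ = (t * a * t⁻¹) * (t * b * t⁻¹) * d := by
    have h1 : t * d * t⁻¹ = d := by rw [← hdt]; group
    calc t * x * t⁻¹ = (t * a * t⁻¹) * (t * b * t⁻¹) * (t * d * t⁻¹) := by rw [hxd]; group
      _ = _ := by rw [h1]
  set a₁ := t * a * t⁻¹ with ha₁def
  set b₁ := t * b * t⁻¹ with hb₁def
  have hne : b * b ≠ b₁ * b₁ := by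
    intro h1
    apply ht2 _ (h.base.sq_mem_Om hb) (h.base.sq_ne hb hbO)
    rw [h1, hb₁def]
    have h5 : t * b * t⁻¹ * (t * b * t⁻¹) = b * b := by rw [← hb₁def, ← h1]
    have h6 : t * (b * b) * t⁻¹ = b * b := by
      calc t * (b * b) * t⁻¹ = t * b * t⁻¹ * (t * b * t⁻¹) := by group
        _ = b * b := h5
    rw [h5, h6]
  obtain ⟨hcomm, hprod, hb₂, hb₂O⟩ := h.prod_form ha ha₁ ha1 ha₁1 hb hb₁ hbO hb₁O hab hab₁ hne
  set b₂ := br a₁ b * b * b₁ with hb₂def
  have hiv₁ : Iv B (a₁ * b₁ * d) := by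
    rw [← hx₁]; exact hx.conj h.base t
  have hda := hd.cA _ (h.baseA.Om_le ha)
  have hda₁ := hd.cA _ (h.baseA.Om_le ha₁)
  have hdb := hd.cB _ hb
  have hdb₁ := hd.cB _ hb₁
  have hd1 : d * (a * b) = (a * b) * d := by
    calc d * (a * b) = (d * a) * b := by group
      _ = a * (d * b) := by rw [hda]; group
      _ = (a * b) * d := by rw [hdb]; group
  have hd2 : d * (a₁ * b₁) = (a₁ * b₁) * d := by
    calc d * (a₁ * b₁) = (d * a₁) * b₁ := by group
      _ = a₁ * (d * b₁) := by rw [hda₁]; group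
      _ = (a₁ * b₁) * d := by rw [hdb₁]; group
  have hp1 : a * b * d * (a₁ * b₁ * d) = (a * b) * (a₁ * b₁) := by
    calc a * b * d * (a₁ * b₁ * d) = (a * b) * (d * (a₁ * b₁)) * d := by group
      _ = (a * b) * ((a₁ * b₁) * d) * d := by rw [hd2]
      _ = (a * b) * (a₁ * b₁) * (d * d) := by group
      _ = _ := by rw [hdd, mul_one]
  have hp2 : (a₁ * b₁ * d) * (a * b * d) = (a₁ * b₁) * (a * b) := by
    calc (a₁ * b₁ * d) * (a * b * d) = (a₁ * b₁) * (d * (a * b)) * d := by group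
      _ = (a₁ * b₁) * ((a * b) * d) * d := by rw [hd1]
      _ = (a₁ * b₁) * (a * b) * (d * d) := by group
      _ = _ := by rw [hdd, mul_one]
  have hmul : Iv B (a * b * d * (a₁ * b₁ * d)) := by
    apply Iv.mul h.base
    · rw [← hxd]; exact hx
    · exact hiv₁
    · rw [hp1, hp2, hcomm]
    · intro h1
      have h3 := mul_right_cancel h1
      exact ht1 a ha ha1 (h.uniq (h.baseA.Om_le ha) (h.baseA.Om_le ha₁) hb hb₁ h3).1.symm
  rw [hp1, hprod] at hmul
  have hA₂ := (Om A).mul_mem ha ha₁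
  have ha₂1 : a * a₁ ≠ 1 := by
    intro h1
    apply ht1 a ha ha1
    rw [← ha₁def]
    have h3 := h.Om_inv ha
    calc a₁ = a⁻¹ * (a * a₁) := by group
      _ = a := by rw [h1, mul_one, h3]
  have hsq := hmul.sq h.base
  obtain ⟨hw1, X, hX, hwX⟩ := hmul
  have hXB : X ≠ B := by
    rintro rfl
    apply ha₂1
    apply h.inf (h.baseA.Om_le hA₂)
    have h3 : a * a₁ = (a * a₁ * b₂) * b₂⁻¹ := by group
    rw [h3]
    exact X.mul_mem (h.base.Om_le hwX) (X.inv_mem hb₂)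
  obtain ⟨y, hy, hy1⟩ := h.base.exists_ne
  have hadj : Adj B X := by
    refine h.base.adj_of_comm hX hXB ((h.base.of_mem hX).Om_le hwX) hw1 (h.base.Om_le hy) hy1 ?_
    have h5 := h.comm_Om_Om hA₂ hy
    have h6 := h.base.comm b₂ hb₂ y (h.base.Om_le hy)
    calc a * a₁ * b₂ * y = (a * a₁) * (b₂ * y) := by group
      _ = ((a * a₁) * y) * b₂ := by rw [h6]; group
      _ = y * (a * a₁ * b₂) := by rw [h5]; group
  exact ⟨X, hadj, a * a₁, hA₂, ha₂1, b₂, hb₂, hb₂O, h.br_of_sq hA₂ hb₂ hsq, hwX⟩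

/-- S7: such a neighbour is contained in `Om A ⊔ B` -/
theorem Adj.TL_of_mem (h : Adj B A) {X : Subgroup G} (hX : Adj B X) {a b : G} (ha : a ∈ Om A) (ha1 : a ≠ 1)
    (hb : b ∈ B) (hbO : b ∉ Om B) (hab : br a b = b * b) (hw : a * b ∈ Om X) : TL B A X := by
  obtain ⟨t, htAB, htA, htB, ht1, ht2⟩ := h.exists_torus
  obtain ⟨ha₁, hb₁, hb₁O, hab₁⟩ := h.conj_form htA htB ha hb hbO hab
  have ha₁1 : t * a * t⁻¹ ≠ 1 := by
    intro h1
    apply ha1
    calc a = t⁻¹ * (t * a * t⁻¹) * t := by group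
      _ = 1 := by rw [h1]; group
  have hw₁ : t * (a * b) * t⁻¹ = (t * a * t⁻¹) * (t * b * t⁻¹) := by group
  have haa₁ : t * a * t⁻¹ ≠ a := ht1 a ha ha1
  set a₁ := t * a * t⁻¹ with ha₁def
  set b₁ := t * b * t⁻¹ with hb₁def
  have hne : b * b ≠ b₁ * b₁ := by
    intro h1
    apply ht2 _ (h.base.sq_mem_Om hb) (h.base.sq_ne hb hbO)
    have h6 : t * (b * b) * t⁻¹ = b * b := by
      calc t * (b * b) * t⁻¹ = t * b * t⁻¹ * (t * b * t⁻¹) := by group
        _ = b * b := by rw [← hb₁def, ← h1]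
    exact h6
  obtain ⟨hcomm, -, -, -⟩ := h.prod_form ha ha₁ ha1 ha₁1 hb hb₁ hbO hb₁O hab hab₁ hne
  -- `w₁` and `Y`
  have hY : Adj B (cj t X) := by
    have h1 := hX.conj t
    rwa [htB] at h1
  have hw₁Y : a₁ * b₁ ∈ Om (cj t X) := by
    rw [← hw₁, ← cj_Om hX.baseA.comm]
    exact cj_mem hw
  have hw₁B : ∀ y ∈ Om B, (a₁ * b₁) * y = y * (a₁ * b₁) := fun y hy => hY.comm_Om_Om hw₁Y hy
  have hw1 : a * b ≠ 1 := by
    intro h1
    apply ha1
    apply h.inf (h.baseA.Om_le ha)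
    have h3 : a = (a * b) * b⁻¹ := by group
    rw [h3, h1, one_mul]; exact B.inv_mem hb
  have hw₁1 : a₁ * b₁ ≠ 1 := by
    intro h1
    apply ha₁1
    apply h.inf (h.baseA.Om_le ha₁)
    have h3 : a₁ = (a₁ * b₁) * b₁⁻¹ := by group
    rw [h3, h1, one_mul]; exact B.inv_mem hb₁
  have hw₁X : cj (a₁ * b₁) X = X :=
    hX.baseA.cj_of_comm (hX.baseA.Om_le hw) hw1 hcomm.symm
  have hcent : ∀ x ∈ Om X, (a₁ * b₁) * x = x * (a₁ * b₁) := by
    refine hX.cent_Om_gen hw₁B hb hbO hw₁X ?_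
    have hbX := hX.conj_self hb
    have h3 : b * (a * b) * b⁻¹ ∈ Om (cj b X) := by
      rw [← cj_Om hX.baseA.comm]
      exact cj_mem hw
    refine hbX.baseA.cj_of_comm (x := b * (a * b) * b⁻¹) (hbX.baseA.Om_le h3) ?_ ?_
    · intro h4
      apply hw1
      calc a * b = b⁻¹ * (b * (a * b) * b⁻¹) * b := by group
        _ = 1 := by rw [h4]; group
    · rw [hX.conj_a hw b]
      have h5 := hw₁B _ (hX.br_mem hw hb)
      calc (a₁ * b₁) * ((a * b) * br (a * b) b) = ((a₁ * b₁) * (a * b)) * br (a * b) b := by group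
        _ = ((a * b) * (a₁ * b₁)) * br (a * b) b := by rw [hcomm]
        _ = (a * b) * ((a₁ * b₁) * br (a * b) b) := by group
        _ = (a * b) * (br (a * b) b * (a₁ * b₁)) := by rw [h5]
        _ = _ := by group
  obtain ⟨x₁, hx₁, hx₁1, -, -, -, -, -, hall⟩ := hX.exists_agree hY hw₁Y hw₁1
  have hx₁i := hX.Om_inv hx₁
  have hiv : Iv B (a₁ * b₁) := ⟨hw₁1, cj t X, hY.mem, hw₁Y⟩
  have hmem : a₁ * b₁ ∈ Om X ⊔ Om B := by
    refine hX.mem_line_of_comm hx₁ hx₁1 hiv ?_ (hcent x₁ hx₁).symm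
    intro c hc
    have h3 := comm_of_br_eq (hall c hc)
    rwa [hx₁i] at h3
  obtain ⟨x₂, hx₂, y, hy, hxy⟩ := hX.mem_line.1 hmem
  have hU : ∀ {p q : G}, p ∈ Om A → q ∈ B → p * q ∈ Om A ⊔ B := fun hp hq => h.mem_S.2 ⟨_, hp, _, hq, rfl⟩
  have hx₂' : x₂ = a₁ * (b₁ * y⁻¹) := by
    calc x₂ = (x₂ * y) * y⁻¹ := by group
      _ = a₁ * (b₁ * y⁻¹) := by rw [← hxy]; group
  have hyB := h.base.Om_le hy
  have hx₂U : x₂ ∈ Om A ⊔ B := by
    rw [hx₂']; exact hU ha₁ (B.mul_mem hb₁ (B.inv_mem hyB))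
  have hx₂1 : x₂ ≠ 1 := by
    intro h1
    apply ha₁1
    apply h.inf (h.baseA.Om_le ha₁)
    have h3 : a₁ = x₂ * (b₁ * y⁻¹)⁻¹ := by rw [hx₂']; group
    rw [h3, h1, one_mul]
    exact B.inv_mem (B.mul_mem hb₁ (B.inv_mem hyB))
  have hx₂w : a * b ≠ x₂ := by
    intro h1
    rw [hx₂'] at h1
    exact haa₁ (h.uniq (h.baseA.Om_le ha) (h.baseA.Om_le ha₁) hb (B.mul_mem hb₁ (B.inv_mem hyB)) h1).1.symm
  refine ⟨h, hX, ?_, ?_⟩
  · intro x hx
    rcases hX.baseA.four hw hx₂ hw1 hx₂1 hx₂w hx with h1 | h1 | h1 | h1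
    · rw [h1]; exact (Om A ⊔ B).one_mem
    · rw [h1]; exact hU ha hb
    · rw [h1]; exact hx₂U
    · rw [h1]; exact (Om A ⊔ B).mul_mem (hU ha hb) hx₂U
  · intro h1
    obtain ⟨a', ha', y', hy', he⟩ := h.mem_line.1 (h1 hw)
    have h3 := (h.uniq (h.baseA.Om_le ha) (h.baseA.Om_le ha') hb (h.base.Om_le hy') he).2
    apply hbO
    rw [h3]; exact hy'

theorem Adj.exists_TL (h : Adj B A) {x a : G} (ha : a ∈ Om A) (ha1 : a ≠ 1) (hx : Iv B x)
    (hk : ∀ b ∈ B, (a * x) * b = b * (a * x)) (h2 : (a * x) * (a * x) ≠ 1)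
    (h4 : (a * x) * (a * x) * ((a * x) * (a * x)) = 1) : ∃ X, TL B A X := by
  obtain ⟨X, hX, a₂, ha₂, ha₂1, b₂, hb₂, hb₂O, hab, hw⟩ := h.exists_nbr ha ha1 hx hk h2 h4
  exact ⟨X, h.TL_of_mem hX ha₂ ha₂1 hb₂ hb₂O hab hw⟩

end Cfsg.Agent.TIAbelian.End
end

-- part: TIAbelian/EndCentC
section
/-!
# Two lines: the involutions of `N(B)`
-/

set_option autoImplicit false
set_option linter.unusedSectionVars false

namespace Cfsg.Agent.TIAbelian.End

open Subgroup
open Cfsg.Agent.ClassificationK.TIPair (cj mem_normalizer_cj normalizer_of_cj_eq cj_eq_of_mem_normalizer)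
open Cfsg.Agent.ClassificationK.TIFamily (mem_cj cj_mul cj_one)

universe u

variable {G : Type u} [Group G] {B A C : Subgroup G} [Finite G]

theorem TL.form (T : TL B A C) {c : G} (hc : c ∈ Om C) (hc1 : c ≠ 1) :
    ∃ a ∈ Om A, a ≠ 1 ∧ ∃ k ∈ B, k ∉ Om B ∧ c = a * k ∧ br a k = k * k ∧ ∀ d ∈ B, br c d = br a d := by
  have h := T.adjA
  obtain ⟨a, ha, k, hk, hck⟩ := h.mem_S.1 (T.le hc)
  have hcc := T.adjC.baseA.Om_sq hc
  have hkO : k ∉ Om B := by
    intro hkO
    apply T.ne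
    have hcU : c ∈ Om A ⊔ Om B := h.mem_line.2 ⟨a, ha, k, hkO, hck⟩
    exact Om_le_of_mem h.base h.line_mem_VV T.adjC.mem (T.adjC.baseA.Om_le hc) hc1 hcU
  have ha1 : a ≠ 1 := by
    rintro rfl
    apply hc1
    apply T.adjC.inf (T.adjC.baseA.Om_le hc)
    rw [hck, one_mul]; exact hk
  refine ⟨a, ha, ha1, k, hk, hkO, hck, ?_, ?_⟩
  · apply h.br_of_sq ha hk
    rw [← hck]; exact hcc
  · intro d hd
    have h1 := h.base.comm k hk d hd
    rw [br, br, hck]
    calc a * k * d * (a * k)⁻¹ * d⁻¹ = a * (k * d) * k⁻¹ * a⁻¹ * d⁻¹ := by group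
      _ = a * (d * k) * k⁻¹ * a⁻¹ * d⁻¹ := by rw [h1]
      _ = a * d * a⁻¹ * d⁻¹ := by group

theorem TL.mem (T : TL B A C) {a b : G} (ha : a ∈ Om A) (hb : b ∈ B) (hbO : b ∉ Om B)
    (hab : br a b = b * b) : a * b ∈ Om C ⊔ Om B := by
  have h := T.adjA
  obtain ⟨c, hc, hcb⟩ := T.adjC.br_left_surj hb hbO (h.base.sq_mem_Om hb)
  have hbb := h.base.sq_ne hb hbO
  have hc1 : c ≠ 1 := by
    rintro rfl
    apply hbb
    rw [← hcb]; simp [br]
  have ha1 : a ≠ 1 := by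
    rintro rfl
    apply hbb
    rw [← hab]; simp [br]
  obtain ⟨a', ha', -, k', hk', hk'O, hck, hbr, hall⟩ := T.form hc hc1
  have haa : a' = a := by
    apply h.br_left_inj ha' ha hb hbO
    rw [← hall b hb, hcb, hab]
  subst haa
  have hkk := h.sq_eq_of_br ha ha1 hb hbO hk' hk'O hab hbr
  have h1 := h.base.inv_mul_mem hk' hb hkk.symm
  rw [T.adjC.mem_line]
  refine ⟨c, hc, _, h1, ?_⟩
  rw [hck]; group

theorem TL.nbr (T : TL B A C) {X : Subgroup G} (hX : Adj B X) {x : G} (hx : x ∈ Om X) (hx1 : x ≠ 1)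
    (hxU : x ∈ Om A ⊔ B) : Om X ≤ Om A ⊔ Om B ∨ Om X ≤ Om C ⊔ Om B := by
  have h := T.adjA
  obtain ⟨a, ha, b, hb, hxab⟩ := h.mem_S.1 hxU
  by_cases hbO : b ∈ Om B
  · left
    exact Om_le_of_mem h.base h.line_mem_VV hX.mem (hX.baseA.Om_le hx) hx1 (h.mem_line.2 ⟨a, ha, b, hbO, hxab⟩)
  · right
    have hab : br a b = b * b := by
      apply h.br_of_sq ha hb
      rw [← hxab]; exact hX.baseA.Om_sq hx
    have h1 := T.mem ha hb hbO hab
    rw [← hxab] at h1
    exact Om_le_of_mem T.adjC.base T.adjC.line_mem_VV hX.mem (hX.baseA.Om_le hx) hx1 h1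

theorem TL.disj (T : TL B A C) {x : G} (h1 : x ∈ Om A ⊔ Om B) (h2 : x ∈ Om C ⊔ Om B) : x ∈ Om B := by
  obtain ⟨c, hc, y, hy, rfl⟩ := T.adjC.mem_line.1 h2
  by_cases hc1 : c = 1
  · rw [hc1, one_mul]; exact hy
  exfalso
  apply T.ne
  refine Om_le_of_mem T.adjA.base T.adjA.line_mem_VV T.adjC.mem (T.adjC.baseA.Om_le hc) hc1 ?_
  have h3 : c = (c * y) * y⁻¹ := by group
  rw [h3]
  exact (Om A ⊔ Om B).mul_mem h1 ((Om A ⊔ Om B).inv_mem ((le_sup_right : Om B ≤ Om A ⊔ Om B) hy))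

/-- a line inside `Om A ⊔ B` -/
theorem TL.line_le (T : TL B A C) : Om C ⊔ Om B ≤ Om A ⊔ B :=
  sup_le T.le (T.adjA.base.Om_le.trans le_sup_right)

theorem OmA_sup_le (h : Adj B A) : Om A ⊔ B ≤ A ⊔ B := sup_le_sup_right h.baseA.Om_le B

/-- S8 -/
theorem TL.cent_C (T : TL B A C) {d : G} (hd : Dd B A d) : Dd B C d := by
  have h := T.adjA
  obtain ⟨t, htAB, htA, htB, ht1, ht2⟩ := h.exists_torus
  have hdt := hd.comm_sup htAB
  obtain ⟨c, hc, hc1⟩ := T.adjC.baseA.exists_ne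
  have hdC : ∀ x ∈ Om C, d * x = x * d := fun x hx => hd.comm_sup (OmA_sup_le h (T.le hx))
  have hdcj : cj d C = C := T.adjC.baseA.cj_of_comm (T.adjC.baseA.Om_le hc) hc1 (hdC c hc)
  obtain ⟨y, hy, d', hd', hdd'⟩ := T.adjC.split hd.cB hdcj
  -- `cj t C` lies in the line of `C`
  have hC₁ : Adj B (cj t C) := by
    have h1 := T.adjC.conj t
    rwa [htB] at h1
  have hC₁U : Om (cj t C) ≤ Om C ⊔ Om B := by
    obtain ⟨a, ha, ha1, k, hk, hkO, hck, hbr, -⟩ := T.form hc hc1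
    obtain ⟨ha', hk', hk'O, hbr'⟩ := h.conj_form htA htB ha hk hkO hbr
    have h1 := T.mem ha' hk' hk'O hbr'
    have h2 : t * c * t⁻¹ = (t * a * t⁻¹) * (t * k * t⁻¹) := by rw [hck]; group
    rw [← h2] at h1
    have h3 : t * c * t⁻¹ ∈ cj t C := cj_mem (T.adjC.baseA.Om_le hc)
    refine Om_le_of_mem T.adjC.base T.adjC.line_mem_VV hC₁.mem h3 ?_ h1
    intro h4
    apply hc1
    calc c = t⁻¹ * (t * c * t⁻¹) * t := by group
      _ = 1 := by rw [h4]; group
  obtain ⟨β, hβ, hβC⟩ := T.adjC.member hC₁.mem hC₁U hC₁.ne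
  -- `e = t d' t⁻¹`
  have he : Dd B C (t * d' * t⁻¹) := by
    have heB : ∀ b ∈ B, (t * d' * t⁻¹) * b = b * (t * d' * t⁻¹) := by
      intro b hb
      have h1 := hd'.cB _ (conj_mem' htB hb)
      calc (t * d' * t⁻¹) * b = t * (d' * (t⁻¹ * b * t)) * t⁻¹ := by group
        _ = t * ((t⁻¹ * b * t) * d') * t⁻¹ := by rw [h1]
        _ = b * (t * d' * t⁻¹) := by group
    refine ⟨heB, ?_⟩
    intro x hx
    have h1 : β * x * β⁻¹ ∈ cj t C := by rw [hβC]; exact cj_mem hx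
    rw [mem_cj] at h1
    have h2 := hd'.cA _ h1
    have h3 : (t * d' * t⁻¹) * (β * x * β⁻¹) = (β * x * β⁻¹) * (t * d' * t⁻¹) := by
      calc (t * d' * t⁻¹) * (β * x * β⁻¹) = t * (d' * (t⁻¹ * (β * x * β⁻¹) * t)) * t⁻¹ := by group
        _ = t * ((t⁻¹ * (β * x * β⁻¹) * t) * d') * t⁻¹ := by rw [h2]
        _ = _ := by group
    have h4 := heB _ hβ
    calc (t * d' * t⁻¹) * x = β⁻¹ * (β * (t * d' * t⁻¹)) * x := by group
      _ = β⁻¹ * ((t * d' * t⁻¹) * β) * x := by rw [h4]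
      _ = β⁻¹ * ((t * d' * t⁻¹) * (β * x * β⁻¹)) * β := by group
      _ = β⁻¹ * ((β * x * β⁻¹) * (t * d' * t⁻¹)) * β := by rw [h3]
      _ = x * β⁻¹ * ((t * d' * t⁻¹) * β) := by group
      _ = x * β⁻¹ * (β * (t * d' * t⁻¹)) := by rw [h4]
      _ = x * (t * d' * t⁻¹) := by group
  have hyt : t * y * t⁻¹ ∈ B := conj_mem htB (h.base.Om_le hy)
  have h1 : (t * y * t⁻¹) * (t * d' * t⁻¹) = y * d' := by
    calc (t * y * t⁻¹) * (t * d' * t⁻¹) = t * (y * d') * t⁻¹ := by group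
      _ = (t * d) * t⁻¹ := by rw [hdd']
      _ = (d * t) * t⁻¹ := by rw [hdt]
      _ = y * d' := by rw [hdd']; group
  have h2 : (t * y * t⁻¹)⁻¹ * y = (t * d' * t⁻¹) * d'⁻¹ := by
    calc (t * y * t⁻¹)⁻¹ * y = (t * y * t⁻¹)⁻¹ * (y * d') * d'⁻¹ := by group
      _ = (t * y * t⁻¹)⁻¹ * ((t * y * t⁻¹) * (t * d' * t⁻¹)) * d'⁻¹ := by rw [h1]
      _ = _ := by group
  have h3 : (t * y * t⁻¹)⁻¹ * y = 1 := by
    apply T.adjC.inf_cent (B.mul_mem (B.inv_mem hyt) (h.base.Om_le hy))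
    rw [h2]
    exact (he.mul hd'.inv).cA
  have hy1 : y = 1 := by
    by_contra hy1
    exact ht2 y hy hy1 (inv_mul_eq_one.1 h3)
  rw [hdd', hy1, one_mul]
  exact hd'

/-- no element centralising `B` moves `Om A` off its line, with square in `B` -/
theorem Adj.no_swap (h : Adj B A) {k : G} (hk : ∀ b ∈ B, k * b = b * k) (hkk : k * k ∈ B)
    (hmove : ∀ a ∈ Om A, a ≠ 1 → k * a * k⁻¹ ∈ Om A ⊔ B ∧ k * a * k⁻¹ ∉ Om A ⊔ Om B) : False := by
  have key : ∀ a ∈ Om A, a ≠ 1 → br a (k * k) = (k * k) * (k * k) ∧ (k * k) ∉ Om B := by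
    intro a ha ha1
    obtain ⟨h1, h2⟩ := hmove a ha ha1
    obtain ⟨a', ha', β, hβ, hkaβ⟩ := h.mem_S.1 h1
    have hβO : β ∉ Om B := fun h3 => h2 (h.mem_line.2 ⟨a', ha', β, h3, hkaβ⟩)
    -- `a' = a`
    have haa : a' = a := by
      obtain ⟨c, hc, -, -, hcO, -, -⟩ := h.base.exists_pair
      apply h.br_left_inj ha' ha hc hcO
      have e1 : br (k * a * k⁻¹) c = br a c := by
        rw [br_conj]
        have h3 := hk c hc
        have h4 : k⁻¹ * c * k = c := by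
          calc k⁻¹ * c * k = k⁻¹ * (c * k) := by group
            _ = k⁻¹ * (k * c) := by rw [h3]
            _ = c := by group
        rw [h4]
        have h5 := hk _ (h.base.Om_le (h.br_mem ha hc))
        rw [h5]; group
      have e2 : br (a' * β) c = br a' c := by
        have h3 := h.base.comm β hβ c hc
        rw [br, br]
        calc a' * β * c * (a' * β)⁻¹ * c⁻¹ = a' * (β * c) * β⁻¹ * a'⁻¹ * c⁻¹ := by group
          _ = a' * (c * β) * β⁻¹ * a'⁻¹ * c⁻¹ := by rw [h3]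
          _ = a' * c * a'⁻¹ * c⁻¹ := by group
      rw [← e1, hkaβ, e2]
    subst haa
    have hsq : a' * β * (a' * β) = 1 := by
      rw [← hkaβ]
      have h3 := h.baseA.Om_sq ha
      calc k * a' * k⁻¹ * (k * a' * k⁻¹) = k * (a' * a') * k⁻¹ := by group
        _ = 1 := by rw [h3]; group
    have hbr := h.br_of_sq ha hβ hsq
    -- the action of `k²`
    have h3 : (k * k) * a' * (k * k)⁻¹ = a' * (β * β) := by
      have h4 := hk β hβ
      calc (k * k) * a' * (k * k)⁻¹ = k * (k * a' * k⁻¹) * k⁻¹ := by group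
        _ = k * (a' * β) * k⁻¹ := by rw [hkaβ]
        _ = (k * a' * k⁻¹) * (k * β) * k⁻¹ := by group
        _ = (a' * β) * (β * k) * k⁻¹ := by rw [hkaβ, h4]
        _ = a' * (β * β) := by group
    rw [h.conj_a ha] at h3
    have h4 : br a' (k * k) = β * β := mul_left_cancel h3
    have h5 : br a' β = br a' (k * k) := by rw [hbr, h4]
    have h6 := h.br_right_inj ha ha1 hβ hkk h5
    have h7 : β * β = (k * k) * (k * k) := by
      have h8 := h.base.Om_sq h6
      rw [h.base.sq_mul (B.inv_mem hβ) hkk] at h8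
      have h9 : β⁻¹ * β⁻¹ = (β * β)⁻¹ := by group
      rw [h9, inv_mul_eq_one] at h8
      exact h8
    refine ⟨by rw [h4, h7], ?_⟩
    intro h8
    have h9 := h.base.Om_sq h8
    rw [← h7] at h9
    exact h.base.sq_ne hβ hβO h9
  obtain ⟨a₁, ha₁, a₂, ha₂, ha₁1, ha₂1, hne⟩ := h.baseA.exists_two
  obtain ⟨e1, hO⟩ := key a₁ ha₁ ha₁1
  obtain ⟨e2, -⟩ := key a₂ ha₂ ha₂1
  exact hne (h.br_left_inj ha₁ ha₂ hkk hO (e1.trans e2.symm))

theorem TL.four (T : TL B A C) {x a : G} (ha : a ∈ Om A) (ha1 : a ≠ 1) (hx : Iv B x)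
    (hk : ∀ b ∈ B, (a * x) * b = b * (a * x)) (h2 : (a * x) * (a * x) ≠ 1)
    (h4 : (a * x) * (a * x) * ((a * x) * (a * x)) = 1) :
    ∃ b ∈ B, b ∉ Om B ∧ x = a * b ∧ br a b = b * b := by
  have h := T.adjA
  obtain ⟨b, hb, d, hbO, hd, hdd, hxd, hab⟩ := h.form_four ha ha1 hx hk h2 h4
  refine ⟨b, hb, hbO, ?_, hab⟩
  have hda := hd.cA _ (h.baseA.Om_le ha)
  have hdb := hd.cB _ hb
  have hd1 : d * (a * b) = (a * b) * d := by
    calc d * (a * b) = (d * a) * b := by group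
      _ = a * (d * b) := by rw [hda]; group
      _ = (a * b) * d := by rw [hdb]; group
  have hmem := T.mem ha hb hbO hab
  have hab1 : a * b ≠ 1 := by
    intro h1
    apply ha1
    apply h.inf (h.baseA.Om_le ha)
    have h3 : a = (a * b) * b⁻¹ := by group
    rw [h3, h1, one_mul]; exact B.inv_mem hb
  have hiv : Iv B (a * b) := T.adjC.Iv_line hmem hab1
  have habab := hiv.sq h.base
  have hd' : d = 1 := by
    by_contra hd1'
    have hprod : (a * b) * x = d := by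
      rw [hxd, ← mul_assoc, habab, one_mul]
    have h3 : Iv B ((a * b) * x) := by
      apply hiv.mul h.base hx
      · rw [hxd]
        calc (a * b) * (a * b * d) = (a * b) * ((a * b) * d) := by group
          _ = (a * b) * (d * (a * b)) := by rw [hd1]
          _ = _ := by group
      · intro h5
        apply hd1'
        rw [hxd] at h5
        exact mul_eq_left.1 h5.symm
    rw [hprod] at h3
    have h5 := h3.mem_of_cent h.base hd.cB
    exact hd1' (h.inf_cent (h.base.Om_le h5) hd.cA)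
  rw [hxd, hd', mul_one]

/-- S9 -/
theorem TL.two_power (T : TL B A C) {x a : G} (ha : a ∈ Om A) (ha1 : a ≠ 1) (hx : Iv B x)
    (hk : ∀ b ∈ B, (a * x) * b = b * (a * x)) {m : ℕ} (hm : (a * x) ^ 2 ^ m = 1) : x ∈ Om A ⊔ B := by
  have h := T.adjA
  have haa := h.baseA.Om_sq ha
  have hai := h.Om_inv ha
  have hxx := hx.sq h.base
  have hxi := hx.inv h.base
  have hle : Om A ⊔ Om B ≤ Om A ⊔ B := sup_le_sup_left h.base.Om_le _
  have ivA : Iv B a := ⟨ha1, A, h.mem, ha⟩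
  -- powers of `a x` centralise `B`
  have hpow : ∀ i : ℕ, ∀ b ∈ B, (a * x) ^ i * b = b * (a * x) ^ i := by
    intro i b hb
    have h1 : Commute (a * x) b := hk b hb
    exact (h1.pow_left i).eq
  -- the elements `a (a x)^i` are in `Iv`
  have hiv : ∀ i : ℕ, Iv B (a * (a * x) ^ i) := by
    intro i
    obtain ⟨y, -, hy⟩ := refl_conj haa hxx i
    rcases hy with hy | hy
    · rw [hy]
      have h1 := ivA.conj h.base y⁻¹
      rwa [inv_inv] at h1
    · rw [hy]
      have h1 := hx.conj h.base y⁻¹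
      rwa [inv_inv] at h1
  classical
  have hex : ∃ n, (a * x) ^ 2 ^ n = 1 := ⟨m, hm⟩
  set n := Nat.find hex with hn
  have hn1 : (a * x) ^ 2 ^ n = 1 := Nat.find_spec hex
  have hn2 : ∀ j < n, (a * x) ^ 2 ^ j ≠ 1 := fun j hj => Nat.find_min hex hj
  rcases Nat.lt_or_ge n 2 with h2 | h2
  · -- `a` and `x` commute
    apply hle
    have h3 : (a * x) ^ 2 = 1 := by
      have h4 : (2 : ℕ) = 2 ^ n * 2 ^ (1 - n) := by
        rw [← pow_add]
        have : n + (1 - n) = 1 := by omega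
        rw [this, pow_one]
      rw [h4, pow_mul, hn1, one_pow]
    rw [pow_two] at h3
    refine h.mem_line_of_comm ha ha1 hx hk ?_
    have h5 := inv_eq_self h3
    rw [mul_inv_rev, hai, hxi] at h5
    exact h5.symm
  · -- `x₂ = a (a x)^(2^(n-2))`
    have e1 : 2 ^ n = 2 ^ (n - 2) * 4 := by
      have : n = (n - 2) + 2 := by omega
      conv_lhs => rw [this, pow_add]
      norm_num
    have e2 : 2 ^ (n - 1) = 2 ^ (n - 2) * 2 := by
      have : n - 1 = (n - 2) + 1 := by omega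
      rw [this, pow_succ]
    have hk₂ : ∀ i : ℕ, a * (a * (a * x) ^ i) = (a * x) ^ i := by
      intro i
      rw [← mul_assoc, haa, one_mul]
    have h21 : (a * x) ^ 2 ^ (n - 2) * (a * x) ^ 2 ^ (n - 2) = (a * x) ^ 2 ^ (n - 1) := by
      rw [← pow_add, e2, mul_two]
    have h22 : (a * x) ^ 2 ^ (n - 1) * (a * x) ^ 2 ^ (n - 1) = 1 := by
      rw [← pow_add, ← hn1, e1, e2]
      congr 1
      ring
    obtain ⟨b, hb, hbO, hxb, hab⟩ := T.four ha ha1 (hiv (2 ^ (n - 2))) (by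
        intro b hb
        rw [hk₂]
        exact hpow _ b hb) (by
        rw [hk₂, h21]
        exact hn2 _ (by omega)) (by
        rw [hk₂, h21, h22])
    have hkb : (a * x) ^ 2 ^ (n - 2) = b := mul_left_cancel hxb
    rcases Nat.lt_or_ge n 3 with h3 | h3
    · have h4 : n - 2 = 0 := by omega
      rw [h4, pow_zero, pow_one] at hkb
      have h5 : x = a * b := by
        rw [← hkb, ← mul_assoc, haa, one_mul]
      rw [h5]
      exact h.mem_S.2 ⟨a, ha, b, hb, rfl⟩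
    · exfalso
      set k₃ := (a * x) ^ 2 ^ (n - 3) with hk₃
      have hk₃k₃ : k₃ * k₃ = b := by
        rw [hk₃, ← pow_add, ← mul_two, ← hkb]
        congr 1
        have : n - 2 = (n - 3) + 1 := by omega
        rw [this, pow_succ]
      have hk₃c : ∀ b ∈ B, k₃ * b = b * k₃ := hpow _
      have hk₃a : k₃ * a * k₃⁻¹ = a * b⁻¹ := by
        have h4 := z_pow haa hxx (2 ^ (n - 3))
        rw [← hk₃] at h4
        calc k₃ * a * k₃⁻¹ = (a * a) * k₃ * a * k₃⁻¹ := by rw [haa, one_mul]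
          _ = a * (a * k₃ * a) * k₃⁻¹ := by group
          _ = a * k₃⁻¹ * k₃⁻¹ := by rw [h4]
          _ = a * (k₃ * k₃)⁻¹ := by group
          _ = a * b⁻¹ := by rw [hk₃k₃]
      have hbr : br a b⁻¹ = b⁻¹ * b⁻¹ := by
        have h4 := h.br_mul_right ha hb (B.inv_mem hb)
        rw [mul_inv_cancel, hab] at h4
        have h5 : br a 1 = 1 := by simp [br]
        rw [h5] at h4
        have h6 : br a b⁻¹ = (b * b)⁻¹ := (inv_eq_of_mul_eq_one_right h4.symm).symm
        rw [h6]; group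
      have hbO' : b⁻¹ ∉ Om B := fun h4 => hbO (by simpa using (Om B).inv_mem h4)
      have hX : Adj B (cj k₃ A) := by
        have h4 := h.conj k₃
        rwa [cj_comm_fix hk₃c] at h4
      have hline : Om (cj k₃ A) ≤ Om C ⊔ Om B := by
        have h4 := T.mem ha (B.inv_mem hb) hbO' hbr
        rw [← hk₃a] at h4
        exact Om_le_of_mem T.adjC.base T.adjC.line_mem_VV hX.mem (cj_mem (h.baseA.Om_le ha))
          (ivA.conj h.base k₃).1 h4
      refine h.no_swap hk₃c (by rw [hk₃k₃]; exact hb) ?_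
      intro a₁ ha₁ ha₁1
      have h4 : k₃ * a₁ * k₃⁻¹ ∈ Om C ⊔ Om B := by
        apply hline
        rw [← cj_Om h.baseA.comm]
        exact cj_mem ha₁
      refine ⟨T.line_le h4, ?_⟩
      intro h5
      have h6 := h.base.Om_le (T.disj h5 h4)
      apply ha₁1
      apply h.inf (h.baseA.Om_le ha₁)
      have h7 := hk₃c _ h6
      have h8 : a₁ = k₃ * a₁ * k₃⁻¹ := by
        calc a₁ = k₃⁻¹ * ((k₃ * a₁ * k₃⁻¹) * k₃) := by group
          _ = k₃⁻¹ * (k₃ * (k₃ * a₁ * k₃⁻¹)) := by rw [h7]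
          _ = _ := by group
      rw [h8]; exact h6

end Cfsg.Agent.TIAbelian.End
end

-- part: TIAbelian/EndCentD
section
/-!
# `C_G(B) = B` when `N_G(B)` is a maximal 2-local subgroup of characteristic 2
-/

set_option autoImplicit false
set_option linter.unusedSectionVars false

namespace Cfsg.Agent.TIAbelian.End

open Subgroup
open Cfsg.Agent.ClassificationK.TIPair (cj mem_normalizer_cj normalizer_of_cj_eq cj_eq_of_mem_normalizer)
open Cfsg.Agent.ClassificationK.TIFamily (mem_cj cj_mul cj_one)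

universe u

variable {G : Type u} [Group G] {B A C Q : Subgroup G} [Finite G]

/-- `N(B)` is a maximal 2-local subgroup of characteristic 2, with `O₂ = Q` -/
structure MaxLoc (B Q : Subgroup G) : Prop where
  two : IsPGroup 2 Q
  le : ∀ q ∈ Q, cj q B = B
  norm : ∀ g : G, cj g B = B → cj g Q = Q
  cent : ∀ g : G, cj g B = B → (∀ q ∈ Q, g * q = q * g) → g ∈ Q
  max2 : ∀ R : Subgroup G, IsPGroup 2 R → (∀ r ∈ R, cj r B = B) → (∀ g : G, cj g B = B → cj g R = R) → R ≤ Q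
  max : ∀ R : Subgroup G, IsPGroup 2 R → R ≠ ⊥ → (∀ g : G, cj g B = B → cj g R = R) →
    ∀ g : G, cj g R = R → cj g B = B

/-- coprime action, one step -/
theorem comm_of_odd_step {x q e : G} (hodd : Odd (orderOf x)) (he : x * q * x⁻¹ = e * q)
    (hxe : x * e = e * x) {j : ℕ} (h2 : e ^ 2 ^ j = 1) : x * q = q * x := by
  have hn : ∀ n : ℕ, x ^ n * q * (x ^ n)⁻¹ = e ^ n * q := by
    intro n
    induction n with
    | zero => simp
    | succ n ih =>
      have hxen : x * e ^ n * x⁻¹ = e ^ n := by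
        have h1 : Commute x (e ^ n) := Commute.pow_right hxe n
        rw [h1.eq, mul_inv_cancel_right]
      calc x ^ (n + 1) * q * (x ^ (n + 1))⁻¹ = x * (x ^ n * q * (x ^ n)⁻¹) * x⁻¹ := by
            rw [pow_succ']; group
        _ = x * (e ^ n * q) * x⁻¹ := by rw [ih]
        _ = (x * e ^ n * x⁻¹) * (x * q * x⁻¹) := by group
        _ = e ^ n * (e * q) := by rw [hxen, he]
        _ = e ^ (n + 1) * q := by rw [pow_succ]; group
  have h1 := hn (orderOf x)
  rw [pow_orderOf_eq_one] at h1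
  have h3 : e ^ orderOf x = 1 := by
    have h4 : (1 : G) * q = e ^ orderOf x * q := by simpa using h1
    exact (mul_right_cancel h4).symm
  have h4 : orderOf e ∣ 1 := by
    have hcop : Nat.Coprime (2 ^ j) (orderOf x) := by
      apply Nat.Coprime.pow_left
      rw [Nat.coprime_two_left]
      exact hodd
    have h5 := Nat.dvd_gcd (orderOf_dvd_of_pow_eq_one h2) (orderOf_dvd_of_pow_eq_one h3)
    rwa [hcop] at h5
  have h5 : e = 1 := orderOf_eq_one_iff.1 (Nat.dvd_one.1 h4)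
  rw [h5, one_mul] at he
  calc x * q = (x * q * x⁻¹) * x := by group
    _ = q * x := by rw [he]

theorem eq_one_of_odd_of_two {x : G} (hodd : Odd (orderOf x)) {j : ℕ} (h2 : x ^ 2 ^ j = 1) : x = 1 := by
  have hcop : Nat.Coprime (2 ^ j) (orderOf x) := by
    apply Nat.Coprime.pow_left
    rw [Nat.coprime_two_left]
    exact hodd
  have h5 := Nat.dvd_gcd (orderOf_dvd_of_pow_eq_one h2) (dvd_refl (orderOf x))
  rw [hcop] at h5
  exact orderOf_eq_one_iff.1 (Nat.dvd_one.1 h5)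

theorem MaxLoc.B_le (ml : MaxLoc B Q) (hB : Base B) : B ≤ Q :=
  ml.max2 B (IsPGroup.of_card (n := 4) (by rw [hB.card]; norm_num)) (fun r hr => hB.cj_mem_self hr)
    (fun g hg => hg)

/-- the normal subgroup of `N(B)` acting trivially on `Q/B`, `B/Om B`, `Om B` -/
def Kk (B Q : Subgroup G) (hB : Base B) : Subgroup G where
  carrier := {k | cj k B = B ∧ (∀ q ∈ Q, k * q * k⁻¹ * q⁻¹ ∈ B) ∧ (∀ b ∈ B, k * b * k⁻¹ * b⁻¹ ∈ Om B) ∧
    (∀ y ∈ Om B, k * y = y * k)}
  one_mem' := by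
    refine ⟨cj_one' B, fun q _ => ?_, fun b _ => ?_, fun y _ => by simp⟩
    · simp [B.one_mem]
    · simp [(Om B).one_mem]
  mul_mem' := by
    rintro k l ⟨hk0, hk1, hk2, hk3⟩ ⟨hl0, hl1, hl2, hl3⟩
    refine ⟨by rw [← cj_cj, hl0, hk0], fun q hq => ?_, fun b hb => ?_, fun y hy => ?_⟩
    · have h1 := conj_mem hk0 (hl1 q hq)
      have h2 : k * l * q * (k * l)⁻¹ * q⁻¹ = (k * (l * q * l⁻¹ * q⁻¹) * k⁻¹) * (k * q * k⁻¹ * q⁻¹) := by group
      rw [h2]
      exact B.mul_mem h1 (hk1 q hq)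
    · have h1 := conj_Om_mem hB hk0 (hl2 b hb)
      have h2 : k * l * b * (k * l)⁻¹ * b⁻¹ = (k * (l * b * l⁻¹ * b⁻¹) * k⁻¹) * (k * b * k⁻¹ * b⁻¹) := by group
      rw [h2]
      exact (Om B).mul_mem h1 (hk2 b hb)
    · rw [mul_assoc, hl3 y hy, ← mul_assoc, hk3 y hy, mul_assoc]
  inv_mem' := by
    rintro k ⟨hk0, hk1, hk2, hk3⟩
    have hk0' := cj_inv_eq hk0
    refine ⟨hk0', fun q hq => ?_, fun b hb => ?_, fun y hy => ?_⟩
    · have h1 := conj_mem hk0' (B.inv_mem (hk1 q hq))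
      have h2 : k⁻¹ * q * k⁻¹⁻¹ * q⁻¹ = k⁻¹ * (k * q * k⁻¹ * q⁻¹)⁻¹ * k⁻¹⁻¹ := by group
      rw [h2]; exact h1
    · have h1 := conj_Om_mem hB hk0' ((Om B).inv_mem (hk2 b hb))
      have h2 : k⁻¹ * b * k⁻¹⁻¹ * b⁻¹ = k⁻¹ * (k * b * k⁻¹ * b⁻¹)⁻¹ * k⁻¹⁻¹ := by group
      rw [h2]; exact h1
    · have h1 := hk3 y hy
      calc k⁻¹ * y = k⁻¹ * (y * k) * k⁻¹ := by group
        _ = k⁻¹ * (k * y) * k⁻¹ := by rw [h1]
        _ = y * k⁻¹ := by group

theorem mem_Kk {hB : Base B} {k : G} : k ∈ Kk B Q hB ↔ cj k B = B ∧ (∀ q ∈ Q, k * q * k⁻¹ * q⁻¹ ∈ B) ∧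
    (∀ b ∈ B, k * b * k⁻¹ * b⁻¹ ∈ Om B) ∧ (∀ y ∈ Om B, k * y = y * k) := Iff.rfl

theorem cj_le_of {g : G} {X : Subgroup G} (h1 : ∀ x ∈ X, g * x * g⁻¹ ∈ X) (h2 : ∀ x ∈ X, g⁻¹ * x * g ∈ X) :
    cj g X = X := by
  ext x
  rw [mem_cj]
  constructor
  · intro hx
    have h3 := h1 _ hx
    have h4 : g * (g⁻¹ * x * g) * g⁻¹ = x := by group
    rwa [h4] at h3
  · exact fun hx => h2 x hx

theorem Kk_norm (ml : MaxLoc B Q) (hB : Base B) {g : G} (hg : cj g B = B) : cj g (Kk B Q hB) = Kk B Q hB := by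
  have key : ∀ g : G, cj g B = B → ∀ k ∈ Kk B Q hB, g * k * g⁻¹ ∈ Kk B Q hB := by
    rintro g hg k hk
    rw [mem_Kk] at hk ⊢
    obtain ⟨hk0, hk1, hk2, hk3⟩ := hk
    have hgQ := ml.norm g hg
    refine ⟨?_, fun q hq => ?_, fun b hb => ?_, fun y hy => ?_⟩
    · rw [← cj_cj, ← cj_cj, cj_inv_eq hg, hk0, hg]
    · have h1 := conj_mem hg (hk1 _ (conj_mem' hgQ hq))
      have h2 : g * k * g⁻¹ * q * (g * k * g⁻¹)⁻¹ * q⁻¹ =
          g * (k * (g⁻¹ * q * g) * k⁻¹ * (g⁻¹ * q * g)⁻¹) * g⁻¹ := by group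
      rw [h2]; exact h1
    · have h1 := conj_Om_mem hB hg (hk2 _ (conj_mem' hg hb))
      have h2 : g * k * g⁻¹ * b * (g * k * g⁻¹)⁻¹ * b⁻¹ =
          g * (k * (g⁻¹ * b * g) * k⁻¹ * (g⁻¹ * b * g)⁻¹) * g⁻¹ := by group
      rw [h2]; exact h1
    · have h1 := conj_Om_mem hB (cj_inv_eq hg) hy
      rw [inv_inv] at h1
      have h2 := hk3 _ h1
      calc g * k * g⁻¹ * y = g * (k * (g⁻¹ * y * g)) * g⁻¹ := by group
        _ = g * ((g⁻¹ * y * g) * k) * g⁻¹ := by rw [h2]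
        _ = y * (g * k * g⁻¹) := by group
  refine cj_le_of (key g hg) ?_
  intro x hx
  have := key g⁻¹ (cj_inv_eq hg) x hx
  rwa [inv_inv] at this

theorem Kk_two (ml : MaxLoc B Q) (hB : Base B) : IsPGroup 2 (Kk B Q hB) := by
  have hB2 : IsPGroup 2 B := IsPGroup.of_card (n := 4) (by rw [hB.card]; norm_num)
  have hodd : ∀ x ∈ Kk B Q hB, Odd (orderOf x) → x = 1 := by
    intro x hx hxo
    rw [mem_Kk] at hx
    obtain ⟨hk0, hk1, hk2, hk3⟩ := hx
    have h1 : ∀ b ∈ B, x * b = b * x := by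
      intro b hb
      have h2 := hk2 b hb
      refine comm_of_odd_step hxo (e := x * b * x⁻¹ * b⁻¹) (by group) (hk3 _ h2) (j := 1) ?_
      rw [pow_one, pow_two]
      exact hB.Om_sq h2
    have h2 : ∀ q ∈ Q, x * q = q * x := by
      intro q hq
      have h3 := hk1 q hq
      obtain ⟨j, hj⟩ := hB2 ⟨_, h3⟩
      refine comm_of_odd_step hxo (e := x * q * x⁻¹ * q⁻¹) (by group) (h1 _ h3) (j := j) ?_
      exact congrArg Subtype.val hj
    have h3 := ml.cent x hk0 h2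
    obtain ⟨j, hj⟩ := ml.two ⟨x, h3⟩
    exact eq_one_of_odd_of_two hxo (congrArg Subtype.val hj)
  intro g
  obtain ⟨k, m, hm, hkm⟩ := Nat.exists_eq_two_pow_mul_odd (n := orderOf (g : G)) (orderOf_pos (g : G)).ne'
  refine ⟨k, ?_⟩
  apply Subtype.ext
  refine hodd _ ((Kk B Q hB).pow_mem g.2 (2 ^ k)) ?_
  have hval : ((g ^ 2 ^ k : ↥(Kk B Q hB)) : G) = (g : G) ^ 2 ^ k := rfl
  rw [hval, orderOf_pow_of_dvd (pow_ne_zero _ two_ne_zero) (hkm ▸ Dvd.intro _ rfl), hkm,
    Nat.mul_div_cancel_left _ (by positivity)]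
  exact hm

/-- a 2-power exponent from the square -/
theorem exists_pow_of_sq_mem (hQ : IsPGroup 2 Q) {k : G} (hk : k * k ∈ Q) : ∃ m : ℕ, k ^ 2 ^ m = 1 := by
  obtain ⟨j, hj⟩ := hQ ⟨_, hk⟩
  refine ⟨j + 1, ?_⟩
  have h1 : (k * k) ^ 2 ^ j = 1 := congrArg Subtype.val hj
  rw [pow_succ', pow_mul, pow_two]
  exact h1

/-- S10 -/
theorem TL.Om_le_Q (T : TL B A C) (ml : MaxLoc B Q) : Om A ≤ Q := by
  have h := T.adjA
  have hBQ := ml.B_le h.base
  -- if one element is in `Q`, all are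
  by_contra hcon
  have hQA : ∀ a ∈ Om A, a ∈ Q → a = 1 := by
    intro a ha haQ
    by_contra ha1
    apply hcon
    obtain ⟨t, -, htA, htB, ht1, -⟩ := h.exists_torus
    have ha' : t * a * t⁻¹ ∈ Om A := conj_Om_mem h.baseA htA ha
    have ha'Q : t * a * t⁻¹ ∈ Q := conj_mem (ml.norm t htB) haQ
    have ha'1 : t * a * t⁻¹ ≠ 1 := by
      intro h1
      apply ha1
      calc a = t⁻¹ * (t * a * t⁻¹) * t := by group
        _ = 1 := by rw [h1]; group
    intro x hx
    rcases h.baseA.four ha ha' ha1 ha'1 (ht1 a ha ha1).symm hx with h1 | h1 | h1 | h1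
    · rw [h1]; exact Q.one_mem
    · rw [h1]; exact haQ
    · rw [h1]; exact ha'Q
    · rw [h1]; exact Q.mul_mem haQ ha'Q
  -- `Om A` lies in `Kk`
  have hK : Om A ≤ Kk B Q h.base := by
    intro a ha
    rw [mem_Kk]
    have haB := h.norm ha
    refine ⟨haB, fun q hq => ?_, fun b hb => h.br_mem ha hb, fun y hy => h.comm_Om_Om ha hy⟩
    by_cases ha1 : a = 1
    · rw [ha1]; simp [B.one_mem]
    -- `x = q a q⁻¹`
    have hqB := ml.le q hq
    have hX : Adj B (cj q A) := by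
      have h1 := h.conj q
      rwa [hqB] at h1
    have hx : q * a * q⁻¹ ∈ Om (cj q A) := by
      rw [← cj_Om h.baseA.comm]; exact cj_mem ha
    have hx1 : q * a * q⁻¹ ≠ 1 := by
      intro h1
      apply ha1
      calc a = q⁻¹ * (q * a * q⁻¹) * q := by group
        _ = 1 := by rw [h1]; group
    obtain ⟨a', ha', ha'1, -, -, -, -, -, hall⟩ := h.exists_agree hX hx hx1
    have ha'i := h.Om_inv ha'
    have hk : ∀ b ∈ B, (a' * (q * a * q⁻¹)) * b = b * (a' * (q * a * q⁻¹)) := by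
      intro b hb
      have h3 := comm_of_br_eq (hall b hb)
      rwa [ha'i] at h3
    have haQ : cj a Q = Q := ml.norm a haB
    have hsq : (a' * (q * a * q⁻¹)) * (a' * (q * a * q⁻¹)) ∈ Q := by
      -- `s = a' a`, `r = a⁻¹ q a q⁻¹`
      have hs : a' * a ∈ Om A := (Om A).mul_mem ha' ha
      have hss := h.baseA.Om_sq hs
      have hsi := inv_eq_self hss
      have hr : a⁻¹ * q * a * q⁻¹ ∈ Q := Q.mul_mem (conj_mem' haQ hq) (Q.inv_mem hq)
      have hsQ : cj (a' * a) Q = Q := ml.norm _ (h.norm hs)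
      have h1 : (a' * (q * a * q⁻¹)) * (a' * (q * a * q⁻¹)) =
          ((a' * a) * (a⁻¹ * q * a * q⁻¹) * (a' * a)⁻¹) * (a⁻¹ * q * a * q⁻¹) := by
        calc (a' * (q * a * q⁻¹)) * (a' * (q * a * q⁻¹))
            = (a' * a) * (a⁻¹ * q * a * q⁻¹) * (a' * a) * (a⁻¹ * q * a * q⁻¹) := by group
          _ = _ := by rw [hsi]
      rw [h1]
      exact Q.mul_mem (conj_mem hsQ hr) hr
    obtain ⟨m, hm⟩ := exists_pow_of_sq_mem ml.two hsq
    have hiv : Iv B (q * a * q⁻¹) := ⟨hx1, cj q A, hX.mem, hx⟩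
    have hU := T.two_power ha' ha'1 hiv hk hm
    -- `[a, q] ∈ U ∩ Q = B`
    obtain ⟨a₂, ha₂, b₂, hb₂, hab₂⟩ := h.mem_S.1 hU
    have h2 : a * q * a⁻¹ * q⁻¹ = (a * a₂) * b₂ := by
      have hai := h.Om_inv ha
      calc a * q * a⁻¹ * q⁻¹ = a * (q * a * q⁻¹) := by rw [hai]; group
        _ = (a * a₂) * b₂ := by rw [hab₂]; group
    have h3 : a * q * a⁻¹ * q⁻¹ ∈ Q := Q.mul_mem (conj_mem haQ hq) (Q.inv_mem hq)
    have h4 : a * a₂ ∈ Q := by
      have h5 : a * a₂ = (a * q * a⁻¹ * q⁻¹) * b₂⁻¹ := by rw [h2]; group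
      rw [h5]
      exact Q.mul_mem h3 (Q.inv_mem (hBQ hb₂))
    have h5 := hQA _ ((Om A).mul_mem ha ha₂) h4
    rw [h2, h5, one_mul]
    exact hb₂
  exact hcon (hK.trans (ml.max2 _ (Kk_two ml h.base) (fun r hr => (mem_Kk.1 hr).1)
    (fun g hg => Kk_norm ml h.base hg)))

/-- S11 -/
theorem TL.nbr_le (T : TL B A C) (ml : MaxLoc B Q) {X : Subgroup G} (hX : Adj B X) : Om X ≤ Om A ⊔ B := by
  have h := T.adjA
  have hAQ := T.Om_le_Q ml
  intro x hx
  by_cases hx1 : x = 1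
  · rw [hx1]; exact (Om A ⊔ B).one_mem
  obtain ⟨a, ha, ha1, -, -, -, -, -, hall⟩ := h.exists_agree hX hx hx1
  have hai := h.Om_inv ha
  have hk : ∀ b ∈ B, (a * x) * b = b * (a * x) := by
    intro b hb
    have h3 := comm_of_br_eq (hall b hb)
    rwa [hai] at h3
  have hxQ : cj x Q = Q := ml.norm x (hX.norm hx)
  have hsq : (a * x) * (a * x) ∈ Q := by
    have hxi := hX.Om_inv hx
    have h1 : (a * x) * (a * x) = a * (x * a * x⁻¹) := by
      rw [hxi]; group
    rw [h1]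
    exact Q.mul_mem (hAQ ha) (conj_mem hxQ (hAQ ha))
  obtain ⟨m, hm⟩ := exists_pow_of_sq_mem ml.two hsq
  exact T.two_power ha ha1 ⟨hx1, X, hX.mem, hx⟩ hk hm

theorem TL.nbr' (T : TL B A C) (ml : MaxLoc B Q) {X : Subgroup G} (hX : Adj B X) :
    Om X ≤ Om A ⊔ Om B ∨ Om X ≤ Om C ⊔ Om B := by
  obtain ⟨x, hx, hx1⟩ := hX.baseA.exists_ne
  exact T.nbr hX hx hx1 (T.nbr_le ml hX hx)

/-- `C(A) ∩ C(B)` centralises all neighbours of `B` -/
theorem TL.Dd_nbr (T : TL B A C) (ml : MaxLoc B Q) {X : Subgroup G} (hX : Adj B X) {d : G} (hd : Dd B A d) :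
    Dd B X d := by
  have key : ∀ {Y : Subgroup G}, Dd B Y d → ∀ β ∈ B, Dd B (cj β Y) d := by
    intro Y hdY β hβ
    refine ⟨hd.cB, ?_⟩
    intro x hx
    rw [mem_cj] at hx
    have h1 := hdY.cA _ hx
    have h2 := hd.cB β hβ
    have h3 := hd.inv.cB β hβ
    calc d * x = (d * β) * (β⁻¹ * x * β) * β⁻¹ := by group
      _ = β * (d * (β⁻¹ * x * β)) * β⁻¹ := by rw [h2]; group
      _ = β * ((β⁻¹ * x * β) * d) * β⁻¹ := by rw [h1]
      _ = x * (β * d) * β⁻¹ := by group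
      _ = x * (d * β) * β⁻¹ := by rw [h2]
      _ = x * d := by group
  rcases T.nbr' ml hX with h1 | h1
  · obtain ⟨β, hβ, rfl⟩ := T.adjA.member hX.mem h1 hX.ne
    exact key hd β hβ
  · obtain ⟨β, hβ, rfl⟩ := T.adjC.member hX.mem h1 hX.ne
    exact key (T.cent_C hd) β hβ

/-- S12 -/
theorem TL.Dd_one (T : TL B A C) (ml : MaxLoc B Q) {d : G} (hd : Dd B A d) : d = 1 := by
  have h := T.adjA
  -- the subgroup `D`
  let D : Subgroup G :=
    { carrier := {d | Dd B A d}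
      one_mem' := ⟨fun b _ => by simp, fun b _ => by simp⟩
      mul_mem' := fun hx hy => hx.mul hy
      inv_mem' := fun hx => hx.inv }
  have hDmem : ∀ {x : G}, x ∈ D ↔ Dd B A x := Iff.rfl
  have hDn : ∀ g : G, cj g B = B → ∀ x ∈ D, g * x * g⁻¹ ∈ D := by
    intro g hg x hx
    rw [hDmem] at hx ⊢
    have hgi := cj_inv_eq hg
    have hX : Adj B (cj g⁻¹ A) := by
      have h1 := h.conj g⁻¹
      rwa [hgi] at h1
    have h2 := T.Dd_nbr ml hX hx
    constructor
    · intro b hb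
      have h3 := h2.cB _ (conj_mem' hg hb)
      calc g * x * g⁻¹ * b = g * (x * (g⁻¹ * b * g)) * g⁻¹ := by group
        _ = g * ((g⁻¹ * b * g) * x) * g⁻¹ := by rw [h3]
        _ = b * (g * x * g⁻¹) := by group
    · intro a ha
      have h4 : g⁻¹ * a * g ∈ cj g⁻¹ A := by
        have := cj_mem (g := g⁻¹) ha
        rwa [inv_inv] at this
      have h3 := h2.cA _ h4
      calc g * x * g⁻¹ * a = g * (x * (g⁻¹ * a * g)) * g⁻¹ := by group
        _ = g * ((g⁻¹ * a * g) * x) * g⁻¹ := by rw [h3]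
        _ = a * (g * x * g⁻¹) := by group
  have hDcj : ∀ g : G, cj g B = B → cj g D = D := by
    intro g hg
    refine cj_le_of (hDn g hg) ?_
    intro x hx
    have := hDn g⁻¹ (cj_inv_eq hg) x hx
    rwa [inv_inv] at this
  have hDB : ∀ x ∈ D, cj x B = B := fun x hx => cj_comm_fix (hDmem.1 hx).cB
  -- `D ∩ Q = 1`
  have hDQ : D ⊓ Q = ⊥ := by
    by_contra hne
    have h2 : IsPGroup 2 ↥(D ⊓ Q) := ml.two.to_le inf_le_right
    have h3 : ∀ g : G, cj g B = B → cj g (D ⊓ Q) = D ⊓ Q := by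
      intro g hg
      refine cj_le_of ?_ ?_
      · intro x hx
        exact ⟨hDn g hg x hx.1, conj_mem (ml.norm g hg) hx.2⟩
      · intro x hx
        refine ⟨?_, conj_mem' (ml.norm g hg) hx.2⟩
        have := hDn g⁻¹ (cj_inv_eq hg) x hx.1
        rwa [inv_inv] at this
    have h4 := ml.max _ h2 hne h3
    obtain ⟨a, ha, -, -, haO, -, -⟩ := h.baseA.exists_pair
    apply haO
    apply h.mem_Om_of_norm ha
    apply h4
    have h5 : ∀ x ∈ D ⊓ Q, a * x = x * a := fun x hx => ((hDmem.1 hx.1).cA a ha).symm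
    exact cj_comm_fix h5
  -- `D` centralises `Q`
  have hdQ : d ∈ Q := by
    have hdB := hDB d hd
    apply ml.cent d hdB
    intro q hq
    have h2 : d * q * d⁻¹ * q⁻¹ ∈ D ⊓ Q := by
      constructor
      · have h3 : d * q * d⁻¹ * q⁻¹ = d * (q * d⁻¹ * q⁻¹) := by group
        rw [h3]
        exact D.mul_mem hd (hDn q (ml.le q hq) _ (D.inv_mem hd))
      · exact Q.mul_mem (conj_mem (ml.norm d hdB) hq) (Q.inv_mem hq)
    rw [hDQ, mem_bot] at h2
    exact br_eq_one_iff.1 h2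
  have h2 : d ∈ D ⊓ Q := ⟨hd, hdQ⟩
  rwa [hDQ, mem_bot] at h2

/-- S13 -/
theorem TL.full (T : TL B A C) (ml : MaxLoc B Q) : Full B A C where
  adjA := T.adjA
  adjC := T.adjC
  ne := T.ne
  cent := by
    have h := T.adjA
    -- first case
    have key : ∀ k : G, (∀ b ∈ B, k * b = b * k) → Om (cj k A) ≤ Om A ⊔ Om B → k ∈ B := by
      intro k hk h1
      have hX : Adj B (cj k A) := by
        have h4 := h.conj k
        rwa [cj_comm_fix hk] at h4
      obtain ⟨β, hβ, hkβ⟩ := h.member hX.mem h1 hX.ne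
      have h2 : cj (β⁻¹ * k) A = A := by
        rw [← cj_cj, hkβ, cj_cancel]
      obtain ⟨y, hy, d, hd, hyd⟩ := h.split (k := β⁻¹ * k) (by
        intro b hb
        have h3 := hk b hb
        have h4 := h.base.comm _ (B.inv_mem hβ) b hb
        calc β⁻¹ * k * b = β⁻¹ * (k * b) := by group
          _ = (β⁻¹ * b) * k := by rw [h3]; group
          _ = b * (β⁻¹ * k) := by rw [h4]; group) h2
      have hd1 := T.Dd_one ml hd
      rw [hd1, mul_one] at hyd
      have h3 : k = β * (β⁻¹ * k) := by group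
      rw [h3, hyd]
      exact B.mul_mem hβ (h.base.Om_le hy)
    intro k hk
    have hX : Adj B (cj k A) := by
      have h4 := h.conj k
      rwa [cj_comm_fix hk] at h4
    rcases T.nbr' ml hX with h1 | h1
    · exact key k hk h1
    · exfalso
      have hmem : ∀ a ∈ Om A, k * a * k⁻¹ ∈ Om C ⊔ Om B := by
        intro a ha
        apply h1
        rw [← cj_Om h.baseA.comm]
        exact cj_mem ha
      have hnot : ∀ a ∈ Om A, a ≠ 1 → k * a * k⁻¹ ∉ Om A ⊔ Om B := by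
        intro a₁ ha₁ ha₁1 h5
        have h6 := h.base.Om_le (T.disj h5 (hmem a₁ ha₁))
        apply ha₁1
        apply h.inf (h.baseA.Om_le ha₁)
        have h7 := hk _ h6
        have h8 : a₁ = k * a₁ * k⁻¹ := by
          calc a₁ = k⁻¹ * ((k * a₁ * k⁻¹) * k) := by group
            _ = k⁻¹ * (k * (k * a₁ * k⁻¹)) := by rw [h7]
            _ = _ := by group
        rw [h8]; exact h6
      -- `k²` fixes the line of `A`
      have hkk : ∀ b ∈ B, (k * k) * b = b * (k * k) := by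
        intro b hb
        have h3 := hk b hb
        calc (k * k) * b = k * (k * b) := by group
          _ = k * (b * k) := by rw [h3]
          _ = (k * b) * k := by group
          _ = (b * k) * k := by rw [h3]
          _ = b * (k * k) := by group
      have hX2 : Adj B (cj (k * k) A) := by
        have h4 := h.conj (k * k)
        rwa [cj_comm_fix hkk] at h4
      have hk2 : k * k ∈ B := by
        apply key _ hkk
        obtain ⟨a, ha, ha1⟩ := h.baseA.exists_ne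
        obtain ⟨a', ha', β, hβ, hkaβ⟩ := h.mem_S.1 (T.line_le (hmem a ha))
        have hβO : β ∉ Om B := fun h3 => hnot a ha ha1 (h.mem_line.2 ⟨a', ha', β, h3, hkaβ⟩)
        have haa : a' = a := by
          obtain ⟨c, hc, -, -, hcO, -, -⟩ := h.base.exists_pair
          apply h.br_left_inj ha' ha hc hcO
          have e1 : br (k * a * k⁻¹) c = br a c := by
            rw [br_conj]
            have h3 := hk c hc
            have h4 : k⁻¹ * c * k = c := by
              calc k⁻¹ * c * k = k⁻¹ * (c * k) := by group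
                _ = k⁻¹ * (k * c) := by rw [h3]
                _ = c := by group
            rw [h4]
            have h5 := hk _ (h.base.Om_le (h.br_mem ha hc))
            rw [h5]; group
          have e2 : br (a' * β) c = br a' c := by
            have h3 := h.base.comm β hβ c hc
            rw [br, br]
            calc a' * β * c * (a' * β)⁻¹ * c⁻¹ = a' * (β * c) * β⁻¹ * a'⁻¹ * c⁻¹ := by group
              _ = a' * (c * β) * β⁻¹ * a'⁻¹ * c⁻¹ := by rw [h3]
              _ = a' * c * a'⁻¹ * c⁻¹ := by group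
          rw [← e1, hkaβ, e2]
        subst haa
        have h3 : (k * k) * a' * (k * k)⁻¹ = a' * (β * β) := by
          have h4 := hk β hβ
          calc (k * k) * a' * (k * k)⁻¹ = k * (k * a' * k⁻¹) * k⁻¹ := by group
            _ = k * (a' * β) * k⁻¹ := by rw [hkaβ]
            _ = (k * a' * k⁻¹) * (k * β) * k⁻¹ := by group
            _ = (a' * β) * (β * k) * k⁻¹ := by rw [hkaβ, h4]
            _ = a' * (β * β) := by group
        have h4 : (k * k) * a' * (k * k)⁻¹ ∈ Om A ⊔ Om B := by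
          rw [h3]
          exact h.mem_line.2 ⟨a', ha, β * β, h.base.sq_mem_Om hβ, rfl⟩
        refine Om_le_of_mem h.base h.line_mem_VV hX2.mem (cj_mem (h.baseA.Om_le ha)) ?_ h4
        intro h5
        apply ha1
        calc a' = (k * k)⁻¹ * ((k * k) * a' * (k * k)⁻¹) * (k * k) := by group
          _ = 1 := by rw [h5]; group
      exact h.no_swap hk hk2 (fun a ha ha1 => ⟨T.line_le (hmem a ha), hnot a ha ha1⟩)

/-- Part I: two neighbours of `B` whose involutions do not commute. -/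
theorem Adj.full (h : Adj B A) (ml : MaxLoc B Q) {X : Subgroup G} (hX : Adj B X)
    (hbr : ∀ a ∈ Om A, ∀ c ∈ Om X, a ≠ 1 → c ≠ 1 → a * c * a⁻¹ * c⁻¹ ∈ Om B ∧ a * c * a⁻¹ * c⁻¹ ≠ 1) :
    ∃ C, Full B A C := by
  obtain ⟨c, hc, hc1⟩ := hX.baseA.exists_ne
  obtain ⟨a, ha, ha1, -, -, -, -, -, hall⟩ := h.exists_agree hX hc hc1
  have hai := h.Om_inv ha
  have hci := hX.Om_inv hc
  have hk : ∀ b ∈ B, (a * c) * b = b * (a * c) := by
    intro b hb
    have h3 := comm_of_br_eq (hall b hb)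
    rwa [hai] at h3
  obtain ⟨h1, h2⟩ := hbr a ha c hc ha1 hc1
  have h3 : a * c * a⁻¹ * c⁻¹ = (a * c) * (a * c) := by
    rw [hai, hci]; group
  rw [h3] at h1 h2
  obtain ⟨C, T⟩ := h.exists_TL ha ha1 ⟨hc1, X, hX.mem, hc⟩ hk h2 (h.base.Om_sq h1)
  exact ⟨C, T.full ml⟩

end Cfsg.Agent.TIAbelian.End
end

-- part: TIAbelian/EndPartTwo
section
/-!
# The case `C_G(B) = B`: `G ≅ PSL₃(4)`
-/

set_option autoImplicit false
set_option linter.unusedSectionVars false

namespace Cfsg.Agent.TIAbelian.End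

open Subgroup
open Cfsg.Agent.ClassificationK.TIPair (cj mem_normalizer_cj normalizer_of_cj_eq cj_eq_of_mem_normalizer)
open Cfsg.Agent.ClassificationK.TIFamily (mem_cj cj_mul cj_one)

universe u

variable {G : Type u} [Group G] {B A C : Subgroup G} [Finite G]

/-- `k` normalises `B` and centralises `Om B` -/
structure CM (B : Subgroup G) (k : G) : Prop where
  norm : cj k B = B
  comm : ∀ y ∈ Om B, k * y = y * k

theorem CM.mul {k l : G} (hk : CM B k) (hl : CM B l) : CM B (k * l) where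
  norm := by rw [← cj_cj, hl.norm, hk.norm]
  comm := fun y hy => by
    calc k * l * y = k * (l * y) := by group
      _ = k * (y * l) := by rw [hl.comm y hy]
      _ = (k * y) * l := by group
      _ = (y * k) * l := by rw [hk.comm y hy]
      _ = y * (k * l) := by group

theorem CM.inv {k : G} (hk : CM B k) : CM B k⁻¹ where
  norm := cj_inv_eq hk.norm
  comm := fun y hy => by
    have h1 := hk.comm y hy
    calc k⁻¹ * y = k⁻¹ * (y * k) * k⁻¹ := by group
      _ = k⁻¹ * (k * y) * k⁻¹ := by rw [h1]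
      _ = y * k⁻¹ := by group

theorem CM.conj (hB : Base B) {k t : G} (hk : CM B k) (ht : cj t B = B) : CM B (t * k * t⁻¹) where
  norm := by rw [← cj_cj, ← cj_cj, cj_inv_eq ht, hk.norm, ht]
  comm := fun y hy => by
    have h1 : t⁻¹ * y * t ∈ Om B := by
      have := conj_Om_mem hB (cj_inv_eq ht) hy
      rwa [inv_inv] at this
    have h2 := hk.comm _ h1
    calc t * k * t⁻¹ * y = t * (k * (t⁻¹ * y * t)) * t⁻¹ := by group
      _ = t * ((t⁻¹ * y * t) * k) * t⁻¹ := by rw [h2]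
      _ = y * (t * k * t⁻¹) := by group

theorem CM.of_mem (hB : Base B) {b : G} (hb : b ∈ B) : CM B b where
  norm := hB.cj_mem_self hb
  comm := fun y hy => hB.comm b hb y (hB.Om_le hy)

theorem CM.of_mem_A (h : Adj B A) {a : G} (ha : a ∈ Om A) : CM B a where
  norm := h.norm ha
  comm := fun _ hy => h.comm_Om_Om ha hy

theorem CM.br_mem (hB : Base B) {k b : G} (hk : CM B k) (hb : b ∈ B) : br k b ∈ Om B :=
  hB.br_mem_of_comm hk.norm hk.comm hb

theorem CM.br_mul (hB : Base B) {k l b : G} (hk : CM B k) (hl : CM B l) (hb : b ∈ B) :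
    br (k * l) b = br k b * br l b := by
  have h1 := hk.comm _ (hl.br_mem hB hb)
  have h2 := hB.comm _ (hB.Om_le (hl.br_mem hB hb)) _ (hB.Om_le (hk.br_mem hB hb))
  calc br (k * l) b = k * (l * b * l⁻¹) * k⁻¹ * b⁻¹ := by rw [br]; group
    _ = (k * br l b) * b * k⁻¹ * b⁻¹ := by rw [conj_eq_br l b]; group
    _ = (br l b * k) * b * k⁻¹ * b⁻¹ := by rw [h1]
    _ = br l b * br k b := by rw [br_def k b]; group
    _ = br k b * br l b := h2

theorem br_of_mem (hB : Base B) {k b : G} (hk : k ∈ B) (hb : b ∈ B) : br k b = 1 :=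
  br_eq_one_iff.2 (hB.comm k hk b hb)

/-- elements of `S₁` act as elements of `Om A` -/
theorem Adj.br_S (h : Adj B A) {s : G} (hs : s ∈ Om A ⊔ B) :
    CM B s ∧ ∃ a ∈ Om A, ∀ b ∈ B, br s b = br a b := by
  obtain ⟨a, ha, k, hk, rfl⟩ := h.mem_S.1 hs
  have h1 := CM.of_mem_A h ha
  have h2 := CM.of_mem h.base hk
  refine ⟨h1.mul h2, a, ha, fun b hb => ?_⟩
  rw [CM.br_mul h.base h1 h2 hb, br_of_mem h.base hk hb, mul_one]

/-- two `Mv` elements agreeing at a point agree on `Om B` -/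
theorem Mv.agree (hB : Base B) {t u : G} (ht : Mv B t) (hu : Mv B u) {x : G} (hx : x ∈ Om B) (hx1 : x ≠ 1)
    (h : u * x * u⁻¹ = t * x * t⁻¹) : ∀ y ∈ Om B, u * y * u⁻¹ = t * y * t⁻¹ := by
  intro y hy
  have hwO := conj_Om_mem hB ht.norm hx
  have hw1 : t * x * t⁻¹ ≠ 1 := by
    intro h1
    apply hx1
    calc x = t⁻¹ * (t * x * t⁻¹) * t := by group
      _ = 1 := by rw [h1]; group
  have h1 := ht.sq hB hx
  have h2 := hu.sq hB hx
  rw [h] at h2
  rcases hB.four hx hwO hx1 hw1 (ht.mv x hx hx1).symm hy with h3 | h3 | h3 | h3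
  · rw [h3]; simp
  · rw [h3, h]
  · rw [h3, h1, h2]
  · rw [h3]
    calc u * (x * (t * x * t⁻¹)) * u⁻¹ = (u * x * u⁻¹) * (u * (t * x * t⁻¹) * u⁻¹) := by group
      _ = (t * x * t⁻¹) * (t * (t * x * t⁻¹) * t⁻¹) := by rw [h, h2, h1]
      _ = t * (x * (t * x * t⁻¹)) * t⁻¹ := by group

/-- the key step: if `g` normalises `B` then modulo `S₁` it normalises `⟨t⟩` -/
theorem Adj.exists_adjust (h : Adj B A) (hcent : ∀ k : G, (∀ b ∈ B, k * b = b * k) → k ∈ B) {t : G}
    (ht3 : t ^ 3 = 1) (tB : Mv B t) (tA : Mv A t) {g : G} (hgB : cj g B = B) :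
    ∃ s ∈ Om A ⊔ B, (s * g) * t * (s * g)⁻¹ = t ∨ (s * g) * t * (s * g)⁻¹ = t⁻¹ := by
  have hB := h.base
  set t' := g * t * g⁻¹ with ht'
  have ht'3 : t' ^ 3 = 1 := by rw [ht', conj_pow, ht3]; group
  have mt' : Mv B t' := by
    refine ⟨by rw [ht', ← cj_cj, ← cj_cj, cj_inv_eq hgB, tB.norm, hgB], ?_⟩
    intro x hx hx1 h1
    have h2 : g⁻¹ * x * g ∈ Om B := by
      have := conj_Om_mem hB (cj_inv_eq hgB) hx
      rwa [inv_inv] at this
    apply tB.mv _ h2
    · intro h3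
      apply hx1
      calc x = g * (g⁻¹ * x * g) * g⁻¹ := by group
        _ = 1 := by rw [h3]; group
    · calc t * (g⁻¹ * x * g) * t⁻¹ = g⁻¹ * (t' * x * t'⁻¹) * g := by rw [ht']; group
        _ = g⁻¹ * x * g := by rw [h1]
  -- choose `t''`
  obtain ⟨u, hu, hu3, uB, uA, hagree⟩ : ∃ u : G, (u = t ∨ u = t⁻¹) ∧ u ^ 3 = 1 ∧ Mv B u ∧ Mv A u ∧
      ∀ y ∈ Om B, t' * y * t'⁻¹ = u * y * u⁻¹ := by
    obtain ⟨x, hx, hx1⟩ := hB.exists_ne
    have hwO := conj_Om_mem hB tB.norm hx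
    have hw1 : t * x * t⁻¹ ≠ 1 := by
      intro h1
      apply hx1
      calc x = t⁻¹ * (t * x * t⁻¹) * t := by group
        _ = 1 := by rw [h1]; group
    have hw2 := conj_Om_mem hB mt'.norm hx
    rcases hB.four hx hwO hx1 hw1 (tB.mv x hx hx1).symm hw2 with h1 | h1 | h1 | h1
    · exfalso
      apply hx1
      calc x = t'⁻¹ * (t' * x * t'⁻¹) * t' := by group
        _ = 1 := by rw [h1]; group
    · exact absurd h1 (mt'.mv x hx hx1)
    · exact ⟨t, Or.inl rfl, ht3, tB, tA, tB.agree hB mt' hx hx1 h1⟩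
    · refine ⟨t⁻¹, Or.inr rfl, by rw [inv_pow, ht3, inv_one], tB.inv hB, tA.inv h.baseA, ?_⟩
      apply (tB.inv hB).agree hB mt' hx hx1
      rw [h1, ← tB.inv_conj hB hx, inv_inv]
  set c := t' * u⁻¹ with hc
  have hcCM : CM B c := by
    refine ⟨by rw [hc, ← cj_cj, cj_inv_eq uB.norm, mt'.norm], ?_⟩
    intro y hy
    have h1 : u⁻¹ * y * u ∈ Om B := by
      have := conj_Om_mem hB (cj_inv_eq uB.norm) hy
      rwa [inv_inv] at this
    have h2 := hagree _ h1
    calc c * y = (t' * (u⁻¹ * y * u) * t'⁻¹) * c := by rw [hc]; group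
      _ = (u * (u⁻¹ * y * u) * u⁻¹) * c := by rw [h2]
      _ = y * c := by group
  -- `c c₁ c₂ = 1`
  set c₁ := u * c * u⁻¹ with hc₁
  set c₂ := u * c₁ * u⁻¹ with hc₂
  have hCM1 : CM B c₁ := hcCM.conj hB uB.norm
  have hCM2 : CM B c₂ := hCM1.conj hB uB.norm
  have hprod : c * c₁ * c₂ = 1 := by
    have h1 : c * c₁ * c₂ = t' ^ 3 * (u ^ 3)⁻¹ := by
      rw [hc₂, hc₁, hc, pow_succ, pow_two, pow_succ, pow_two]; group
    rw [h1, ht'3, hu3]; simp
  have hs := h.comm_mem_S hcent uB uA hcCM.norm hcCM.comm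
  have hs1 : c * (u * c⁻¹ * u⁻¹) = c * c₁⁻¹ := by rw [hc₁]; group
  rw [hs1] at hs
  obtain ⟨hsCM, a, ha, has⟩ := h.br_S hs
  -- conjugate by `u`
  have hs' : c₁ * c₂⁻¹ ∈ Om A ⊔ B := by
    have h1 : c₁ * c₂⁻¹ = u * (c * c₁⁻¹) * u⁻¹ := by rw [hc₂, hc₁]; group
    rw [h1]
    obtain ⟨a', ha', b', hb', heq⟩ := h.mem_S.1 hs
    rw [heq, h.mem_S]
    exact ⟨u * a' * u⁻¹, conj_Om_mem h.baseA uA.norm ha', u * b' * u⁻¹, conj_mem uB.norm hb', by group⟩
  obtain ⟨hsCM', a', ha', has'⟩ := h.br_S hs'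
  have hcS : c ∈ Om A ⊔ B := by
    rw [h.mem_S]
    refine ⟨a', ha', a'⁻¹ * c, ?_, by group⟩
    apply hcent
    intro b hb
    apply comm_of_br_eq
    have e1 : br c b = br a b * br c₁ b := by
      rw [← has b hb, ← CM.br_mul hB hsCM hCM1 hb]
      congr 1; group
    have e2 : br c₁ b = br a' b * br c₂ b := by
      rw [← has' b hb, ← CM.br_mul hB hsCM' hCM2 hb]
      congr 1; group
    have e3 : br c b * br c₁ b * br c₂ b = 1 := by
      rw [← CM.br_mul hB hcCM hCM1 hb, ← CM.br_mul hB (hcCM.mul hCM1) hCM2 hb, hprod]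
      simp [br]
    have q1 := hB.Om_sq (hcCM.br_mem hB hb)
    have q2 := hB.Om_sq (hCM1.br_mem hB hb)
    have q3 := hB.Om_sq (hCM2.br_mem hB hb)
    have e4 : br c b = br c₁ b * br c₂ b := by
      calc br c b = br c b * ((br c b * br c₁ b * br c₂ b)⁻¹ * (br c b * br c₁ b * br c₂ b)) := by group
        _ = br c b * (br c b * br c₁ b * br c₂ b) := by rw [e3]; group
        _ = (br c b * br c b) * (br c₁ b * br c₂ b) := by group
        _ = br c₁ b * br c₂ b := by rw [q1, one_mul]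
    rw [e4, e2, mul_assoc, q3, mul_one]
  -- Lang
  have hstab : ∀ s ∈ Om A ⊔ B, u * s * u⁻¹ ∈ Om A ⊔ B := by
    intro s hs
    obtain ⟨x, hx, b, hb, rfl⟩ := h.mem_S.1 hs
    rw [h.mem_S]
    exact ⟨u * x * u⁻¹, conj_Om_mem h.baseA uA.norm hx, u * b * u⁻¹, conj_mem uB.norm hb, by group⟩
  have hfix : ∀ s ∈ Om A ⊔ B, u * s * u⁻¹ = s → s = 1 := by
    intro s hs hus
    obtain ⟨x, hx, b, hb, rfl⟩ := h.mem_S.1 hs
    have h1 : x⁻¹ * (u * x * u⁻¹) = b * (u * b * u⁻¹)⁻¹ := by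
      calc x⁻¹ * (u * x * u⁻¹) = x⁻¹ * (u * (x * b) * u⁻¹) * (u * b * u⁻¹)⁻¹ := by group
        _ = x⁻¹ * (x * b) * (u * b * u⁻¹)⁻¹ := by rw [hus]
        _ = b * (u * b * u⁻¹)⁻¹ := by group
    have h2 : x⁻¹ * (u * x * u⁻¹) = 1 := by
      apply h.inf
      · exact A.mul_mem (A.inv_mem (h.baseA.Om_le hx)) (h.baseA.Om_le (conj_Om_mem h.baseA uA.norm hx))
      · rw [h1]; exact B.mul_mem hb (B.inv_mem (conj_mem uB.norm hb))
    have h3 : x = 1 := by
      by_contra h4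
      exact uA.mv x hx h4 (inv_mul_eq_one.1 h2).symm
    rw [h2] at h1
    have h4 : b = 1 := uB.eq_one hB hb (mul_inv_eq_one.1 h1.symm).symm
    rw [h3, h4, one_mul]
  obtain ⟨s, hsS, hsc⟩ := exists_lang hstab hfix hcS
  refine ⟨s, hsS, ?_⟩
  have h1 : s * g * t * (s * g)⁻¹ = u := by
    calc s * g * t * (s * g)⁻¹ = s * t' * s⁻¹ := by rw [ht']; group
      _ = s * (c * u) * s⁻¹ := by rw [hc]; group
      _ = s * (s⁻¹ * (u * s * u⁻¹) * u) * s⁻¹ := by rw [hsc]
      _ = u := by group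
  rw [h1]
  rcases hu with hu | hu
  · exact Or.inl hu
  · exact Or.inr hu

end Cfsg.Agent.TIAbelian.End
end

-- part: TIAbelian/EndPartTwoB
section
/-!
# The case `C_G(B) = B`: `G ≅ PSL₃(4)` (conclusion)
-/

set_option autoImplicit false
set_option linter.unusedSectionVars false

namespace Cfsg.Agent.TIAbelian.End

open Subgroup
open Cfsg.Agent.ClassificationK.TIPair (cj mem_normalizer_cj normalizer_of_cj_eq cj_eq_of_mem_normalizer)
open Cfsg.Agent.ClassificationK.TIFamily (mem_cj cj_mul cj_one)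

universe u

variable {G : Type u} [Group G] {B A C : Subgroup G} [Finite G]

theorem Full.Mv_C (h : Full B A C) {t : G} (tB : Mv B t) (tA : Mv A t) (htC : cj t C = C) : Mv C t where
  norm := htC
  mv := by
    intro c hc hc1 htc
    obtain ⟨a, ha, ha1, k, hk, -, hck, -, -⟩ := h.formC hc hc1
    have h1 : a⁻¹ * (t * a * t⁻¹) = k * (t * k * t⁻¹)⁻¹ := by
      calc a⁻¹ * (t * a * t⁻¹) = a⁻¹ * (t * (a * k) * t⁻¹) * (t * k * t⁻¹)⁻¹ := by group
        _ = a⁻¹ * (a * k) * (t * k * t⁻¹)⁻¹ := by rw [← hck, htc]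
        _ = k * (t * k * t⁻¹)⁻¹ := by group
    have h2 : a⁻¹ * (t * a * t⁻¹) = 1 := by
      apply h.adjA.inf
      · exact A.mul_mem (A.inv_mem (h.adjA.baseA.Om_le ha))
          (h.adjA.baseA.Om_le (conj_Om_mem h.adjA.baseA tA.norm ha))
      · rw [h1]; exact B.mul_mem hk (B.inv_mem (conj_mem tB.norm hk))
    exact tA.mv a ha ha1 (inv_mul_eq_one.1 h2).symm

theorem cj_pow_fix {g : G} {X : Subgroup G} (h : cj g X = X) (n : ℕ) : cj (g ^ n) X = X := by
  induction n with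
  | zero => rw [pow_zero]; exact cj_one' X
  | succ n ih => rw [pow_succ, ← cj_cj, h, ih]

/-- if the two lines on `B` are conjugate, they are swapped by an involution -/
theorem Full.exists_involution (h : Full B A C) {g : G} (hgU : cj g (Om A ⊔ Om B) = Om C ⊔ Om B) :
    ∃ s : G, s * s = 1 ∧ cj s (Om A ⊔ Om B) = Om C ⊔ Om B := by
  obtain ⟨t, ht, ht3, tA, tB⟩ := h.adjA.exists_three h.cent
  obtain ⟨C₀, hF, hline, htC₀⟩ := h.exists_fixed tB tA.norm
  rw [← hline] at hgU ⊢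
  have hB := h.adjA.base
  have hg := hF.geo
  have he := hF.ends
  have tC := hF.Mv_C tB tA htC₀
  set U : Subgroup G := Om A ⊔ Om B with hU
  set W : Subgroup G := Om C₀ ⊔ Om B with hW
  have hXE : Om B ∈ EE B := ⟨B, self_mem_Cl B, rfl⟩
  -- step a
  obtain ⟨g₁, hg₁B, hg₁U, hg₁W⟩ : ∃ g₁ : G, cj g₁ B = B ∧ cj g₁ U = W ∧ cj g₁ W = U := by
    obtain ⟨g₁, hg₁X, hg₁U⟩ : ∃ g₁ : G, cj g₁ (Om B) = Om B ∧ cj g₁ U = W := by
      by_cases hY : cj g (Om B) = Om B
      · exact ⟨g, hY, hgU⟩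
      · have hYW : cj g (Om B) ≤ W := by rw [← hgU]; exact cj_le_cj.2 he.leU
        obtain ⟨Z, hZ, hZX, hZY⟩ := hg.exists_third he.hW (Om B) (cj g (Om B))
        have hZ' := mem_mems.1 hZ
        obtain ⟨f, hf⟩ := hg.other hZ'.1 he.hW hZ'.2
        obtain ⟨w, hw, hwY⟩ := hg.exists_move (mem_mems.2 ⟨hg.conjE g _ hXE, hYW⟩)
          (mem_mems.2 ⟨hXE, he.leW⟩) hZ'.1 hZY.symm hZX.symm hf
        refine ⟨w * g, ?_, ?_⟩
        · rw [← cj_cj, hwY]
        · rw [← cj_cj, hgU, (hf.fix' hg hw).2.1]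
    refine ⟨g₁, cj_Om_eq hB hg₁X, hg₁U, ?_⟩
    rcases he.cj_cases hg hg₁X with h1 | h1
    · exact absurd (h1.1.symm.trans hg₁U) he.ne
    · exact h1.2
  -- step c, d
  obtain ⟨s, hsS, hst⟩ := h.adjA.exists_adjust h.cent ht3 tB tA hg₁B
  obtain ⟨a, ha, b, hb, hsab⟩ := h.adjA.mem_S.1 hsS
  have haU : a ∈ U := (le_sup_left : Om A ≤ Om A ⊔ Om B) ha
  obtain ⟨haX, haU', haW'⟩ := he.fix hg haU
  have hbU : cj b U = U := by
    apply Subgroup.eq_of_le_of_card_ge (h.adjA.conj_line hb)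
    rw [card_cj]
  have hbW : cj b W = W := by
    apply Subgroup.eq_of_le_of_card_ge (hF.adjC.conj_line hb)
    rw [card_cj]
  have hsU : cj s U = U := by rw [hsab, ← cj_cj, hbU, haU']
  have hsW : cj s W = W := by rw [hsab, ← cj_cj, hbW, haW']
  have hsB : cj s B = B := by rw [hsab, ← cj_cj, hB.cj_mem_self hb, h.adjA.norm ha]
  set g₂ := s * g₁ with hg₂
  have hg₂B : cj g₂ B = B := by rw [hg₂, ← cj_cj, hg₁B, hsB]
  have hg₂U : cj g₂ U = W := by rw [hg₂, ← cj_cj, hg₁U, hsW]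
  have hg₂W : cj g₂ W = U := by rw [hg₂, ← cj_cj, hg₁W, hsU]
  -- step e
  have hpos : 0 < orderOf g₂ := orderOf_pos g₂
  obtain ⟨k, m, hm, hkm⟩ := Nat.exists_eq_two_pow_mul_odd hpos.ne'
  have hg₂2U : cj (g₂ * g₂) U = U := by rw [← cj_cj, hg₂U, hg₂W]
  have hg₂2W : cj (g₂ * g₂) W = W := by rw [← cj_cj, hg₂W, hg₂U]
  have hg₂2t : g₂ * g₂ * t * (g₂ * g₂)⁻¹ = t := by
    rcases hst with h1 | h1
    · calc g₂ * g₂ * t * (g₂ * g₂)⁻¹ = g₂ * (g₂ * t * g₂⁻¹) * g₂⁻¹ := by group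
        _ = t := by rw [h1, h1]
    · calc g₂ * g₂ * t * (g₂ * g₂)⁻¹ = g₂ * (g₂ * t * g₂⁻¹) * g₂⁻¹ := by group
        _ = g₂ * t⁻¹ * g₂⁻¹ := by rw [h1]
        _ = (g₂ * t * g₂⁻¹)⁻¹ := by group
        _ = t := by rw [h1, inv_inv]
  have hcomm2 : Commute (g₂ * g₂) t := by
    change g₂ * g₂ * t = t * (g₂ * g₂)
    calc g₂ * g₂ * t = (g₂ * g₂ * t * (g₂ * g₂)⁻¹) * (g₂ * g₂) := by group
      _ = t * (g₂ * g₂) := by rw [hg₂2t]
  obtain ⟨j, hj⟩ := hm
  have hpow : g₂ ^ m = g₂ * (g₂ * g₂) ^ j := by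
    rw [hj, pow_succ', pow_mul, pow_two]
  refine ⟨g₂ ^ m, ?_, ?_⟩
  swap
  · rw [hpow, ← cj_cj, cj_pow_fix hg₂2U, hg₂U]
  set y := g₂ ^ m * g₂ ^ m with hy
  have hy2 : y = (g₂ * g₂) ^ m := by
    rw [hy, ← pow_add, ← two_mul, pow_mul, pow_two]
  have hyt : y * t = t * y := by rw [hy2]; exact hcomm2.pow_left m
  have hyB : cj y B = B := by
    rw [hy2]; apply cj_pow_fix
    rw [← cj_cj, hg₂B, hg₂B]
  have hyU : cj y U = U := by rw [hy2]; exact cj_pow_fix hg₂2U m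
  have hyW : cj y W = W := by rw [hy2]; exact cj_pow_fix hg₂2W m
  have hy2k : y ^ 2 ^ k = 1 := by
    rw [hy, ← pow_add, ← pow_mul, show (m + m) * 2 ^ k = (2 ^ k * m) * 2 by ring, pow_mul, ← hkm,
      pow_orderOf_eq_one, one_pow]
  -- `y` normalises `A` and `C₀`
  have hyA : cj y A = A := by
    apply h.adjA.member_fixed tA.norm tB (cj_mem_Cl h.adjA.mem y)
    · rw [← cj_Om h.adjA.baseA.comm, ← hU, ← hyU]
      exact cj_le_cj.2 le_sup_left
    · intro h1
      apply h.adjA.ne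
      apply cj_injective y
      simp only
      rw [h1, hyB]
    · rw [cj_cj, ← hyt, ← cj_cj, tA.norm]
  have hyC : cj y C₀ = C₀ := by
    apply hF.adjC.member_fixed tC.norm tB (cj_mem_Cl hF.adjC.mem y)
    · rw [← cj_Om hF.adjC.baseA.comm, ← hW, ← hyW]
      exact cj_le_cj.2 le_sup_left
    · intro h1
      apply hF.adjC.ne
      apply cj_injective y
      simp only
      rw [h1, hyB]
    · rw [cj_cj, ← hyt, ← cj_cj, tC.norm]
  have cB : ∀ x ∈ Om B, y * x = x * y := fun x hx => tB.comm_of_two hB hyB hyt hy2k hx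
  have cA : ∀ x ∈ Om A, y * x = x * y := fun x hx => tA.comm_of_two h.adjA.baseA hyA hyt hy2k hx
  have cC : ∀ x ∈ Om C₀, y * x = x * y := fun x hx => tC.comm_of_two hF.adjC.baseA hyC hyt hy2k hx
  have hyBmem : y ∈ B := by
    apply h.cent
    intro b hb
    by_cases hbO : b ∈ Om B
    · exact cB b hbO
    obtain ⟨c, hc, hcb⟩ := hF.adjC.br_left_surj hb hbO (hB.sq_mem_Om hb)
    have hc1 : c ≠ 1 := by
      rintro rfl
      apply hB.sq_ne hb hbO
      rw [← hcb]; simp [br]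
    obtain ⟨a', ha', ha1', k', hk', hkO', hck', hbr', hall'⟩ := hF.formC hc hc1
    have h1 := h.adjA.sq_eq_of_br ha' ha1' hk' hkO' hb hbO hbr' (by rw [hall' b hb, hcb])
    have h2 := hB.inv_mul_mem hk' hb h1
    have h3 : Commute y k' := by
      have h4 : k' = a'⁻¹ * c := by rw [hck']; group
      rw [h4]
      exact ((show Commute y a' from cA a' ha').inv_right).mul_right (cC c hc)
    have h5 : Commute y (k'⁻¹ * b) := cB _ h2
    have h6 := h3.mul_right h5
    rw [mul_inv_cancel_left] at h6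
    exact h6
  apply tB.eq_one hB hyBmem
  rw [← hyt]; group

/-- **Part II.** -/
theorem Full.psl34 [IsSimpleGroup G] (h : Full B A C) :
    ∃ (F : Type) (_ : Field F) (_ : Fintype F), Fintype.card F = 4 ∧
        Nonempty (G ≃* Matrix.ProjectiveSpecialLinearGroup (Fin 3) F) := by
  have hg := h.geo
  have he := h.ends
  have hB := h.adjA.base
  have hXE : Om B ∈ EE B := ⟨B, self_mem_Cl B, rfl⟩
  refine he.psl34 hg hXE ?_ h.hodd
  intro X hX e hXe g hgU
  obtain ⟨u, huX, huU⟩ : ∃ u : G, cj u X = Om B ∧ cj u (Om A ⊔ Om B) = Om A ⊔ Om B := by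
    by_cases hXB : X = Om B
    · exact ⟨1, by rw [cj_one', hXB], cj_one' _⟩
    · obtain ⟨Z, hZ, hZX, hZY⟩ := hg.exists_third he.hU (Om B) X
      have hZ' := mem_mems.1 hZ
      obtain ⟨f, hf⟩ := hg.other hZ'.1 he.hU hZ'.2
      obtain ⟨w, hw, hwY⟩ := hg.exists_move (mem_mems.2 ⟨hX, hXe.leU⟩)
        (mem_mems.2 ⟨hXE, he.leU⟩) hZ'.1 hZY.symm hZX.symm hf
      exact ⟨w, hwY, (hf.fix' hg hw).2.1⟩
  have h1 := hXe.conj hg hX u
  rw [huX, huU] at h1
  have h2 : cj u e = Om C ⊔ Om B := by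
    rcases he.uniq _ h1.hW h1.leW with h3 | h3
    · exact absurd h3.symm h1.ne
    · exact h3
  have h3 : cj (u * g) (Om A ⊔ Om B) = Om C ⊔ Om B := by rw [← cj_cj, hgU, h2]
  obtain ⟨s, hs, hsU⟩ := h.exists_involution h3
  refine he.false_of_swap hg hXE hs hsU ?_
  rw [hB.normalizer_Om]
  exact hB.odd_index

end Cfsg.Agent.TIAbelian.End
end

-- part: TIAbelian/EndDescend
section
/-!
# Descending to a simple normal subgroup with trivial centralizer
-/

set_option autoImplicit false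
set_option linter.unusedSectionVars false

namespace Cfsg.Agent.TIAbelian.End

open Subgroup
open Cfsg.Agent.ClassificationK.TIPair (cj mem_normalizer_cj normalizer_of_cj_eq cj_eq_of_mem_normalizer)
open Cfsg.Agent.ClassificationK.TIFamily (mem_cj cj_mul cj_one)

universe u

variable {G : Type u} [Group G] {B A C Q : Subgroup G}

theorem mem_cj_subgroupOf {N X : Subgroup G} (n : N) (x : N) :
    x ∈ cj n (X.subgroupOf N) ↔ (x : G) ∈ cj (n : G) X := by
  rw [mem_cj, mem_cj, mem_subgroupOf]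
  rfl

theorem cj_subgroupOf {N X : Subgroup G} (n : N) : cj n (X.subgroupOf N) = (cj (n : G) X).subgroupOf N := by
  ext x
  rw [mem_cj_subgroupOf, mem_subgroupOf]

theorem sub_inj {N X Y : Subgroup G} (hX : X ≤ N) (hY : Y ≤ N) (h : X.subgroupOf N = Y.subgroupOf N) :
    X = Y := by
  ext x
  constructor
  · intro hx
    have h1 : (⟨x, hX hx⟩ : N) ∈ X.subgroupOf N := hx
    rw [h] at h1
    exact h1
  · intro hx
    have h1 : (⟨x, hY hx⟩ : N) ∈ Y.subgroupOf N := hx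
    rw [← h] at h1
    exact h1

theorem comm_sub {N X : Subgroup G} (hc : ∀ x ∈ X, ∀ y ∈ X, x * y = y * x) :
    ∀ x ∈ X.subgroupOf N, ∀ y ∈ X.subgroupOf N, x * y = y * x := by
  intro x hx y hy
  exact Subtype.ext (hc _ hx _ hy)

theorem mem_Om_sub {N X : Subgroup G} (hc : ∀ x ∈ X, ∀ y ∈ X, x * y = y * x) {x : N} :
    x ∈ Om (X.subgroupOf N) ↔ (x : G) ∈ Om X := by
  rw [mem_Om (comm_sub hc), mem_Om hc, mem_subgroupOf]
  constructor
  · rintro ⟨h1, h2⟩
    exact ⟨h1, congrArg Subtype.val h2⟩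
  · rintro ⟨h1, h2⟩
    exact ⟨h1, Subtype.ext h2⟩

theorem Om_sub {N X : Subgroup G} (hc : ∀ x ∈ X, ∀ y ∈ X, x * y = y * x) :
    Om (X.subgroupOf N) = (Om X).subgroupOf N := by
  ext x
  rw [mem_Om_sub hc, mem_subgroupOf]

theorem card_sub {N X : Subgroup G} (hX : X ≤ N) : Nat.card (X.subgroupOf N) = Nat.card X :=
  Nat.card_congr (subgroupOfEquivOfLe hX).toEquiv

theorem Base.sub {N : Subgroup G} (hB : Base B) (hN : B ≤ N) : Base (B.subgroupOf N) where
  comm := comm_sub hB.comm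
  card := by rw [card_sub hN]; exact hB.card
  exp := by
    intro x hx
    exact Subtype.ext (hB.exp x hx)
  om := by
    rw [Om_sub hB.comm, card_sub (hB.Om_le.trans hN)]
    exact hB.om
  ti := by
    intro g x hx hx1 hgx
    have h1 := hB.ti g x hx (fun h0 => hx1 (Subtype.ext h0)) hgx
    rw [cj_subgroupOf, h1]
  wc := by
    intro g hg
    have h1 : cj (g : G) B ≤ normalizer (B : Set G) := by
      intro x hx
      have hxN : x ∈ N := by
        have h2 := hx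
        rw [mem_cj] at h2
        have h3 : x = (g : G) * ((g : G)⁻¹ * x * g) * (g : G)⁻¹ := by group
        rw [h3]
        exact N.mul_mem (N.mul_mem g.2 (hN h2)) (N.inv_mem g.2)
      have h2 : (⟨x, hxN⟩ : N) ∈ cj g (B.subgroupOf N) := (mem_cj_subgroupOf g ⟨x, hxN⟩).2 hx
      have h3 := hg h2
      apply normalizer_of_cj_eq
      have h4 := cj_eq_of_mem_normalizer h3
      rw [cj_subgroupOf] at h4
      refine sub_inj (N := N) ?_ hN h4
      intro y hy
      rw [mem_cj] at hy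
      have h5 : y = x * (x⁻¹ * y * x) * x⁻¹ := by group
      rw [h5]
      exact N.mul_mem (N.mul_mem hxN (hN hy)) (N.inv_mem hxN)
    have h2 := hB.wc g h1
    rw [cj_subgroupOf, h2]

variable [Finite G]

theorem Adj.sub {N : Subgroup G} (h : Adj B A) (hBN : B ≤ N) (hAN : A ≤ N) :
    Adj (B.subgroupOf N) (A.subgroupOf N) where
  base := h.base.sub hBN
  mem := by
    obtain ⟨b, hb, -, -, hbO, -, -⟩ := h.base.exists_pair
    obtain ⟨w, hw, -, hwB, -⟩ := h.exists_swap hb hbO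
    refine ⟨⟨w, (sup_le hAN hBN) hw⟩, ?_⟩
    rw [cj_subgroupOf]
    change A.subgroupOf N = (cj w B).subgroupOf N
    rw [hwB]
  ne := fun h1 => h.ne (sub_inj hAN hBN h1)
  ex := by
    obtain ⟨a, ha, ha1, haB⟩ := h.ex
    refine ⟨⟨a, hAN ha⟩, ha, fun h0 => ha1 (congrArg Subtype.val h0), ?_⟩
    rw [cj_subgroupOf]
    change (cj a B).subgroupOf N = B.subgroupOf N
    rw [haB]

theorem Full.sub {N : Subgroup G} (h : Full B A C) (hBN : B ≤ N) (hAN : A ≤ N) (hCN : C ≤ N) :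
    Full (B.subgroupOf N) (A.subgroupOf N) (C.subgroupOf N) where
  adjA := h.adjA.sub hBN hAN
  adjC := h.adjC.sub hBN hCN
  cent := by
    intro k hk
    rw [mem_subgroupOf]
    apply h.cent
    intro b hb
    exact congrArg Subtype.val (hk ⟨b, hBN hb⟩ hb)
  ne := by
    intro h1
    apply h.ne
    intro x hx
    have hxN : x ∈ N := hCN (h.adjC.baseA.Om_le hx)
    have h2 : (⟨x, hxN⟩ : N) ∈ Om (C.subgroupOf N) := (mem_Om_sub h.adjC.baseA.comm).2 hx
    have h3 : x ∈ (Om (A.subgroupOf N) ⊔ Om (B.subgroupOf N)).map N.subtype := ⟨_, h1 h2, rfl⟩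
    rw [Subgroup.map_sup] at h3
    have h4 : (Om (A.subgroupOf N)).map N.subtype ≤ Om A := by
      rintro _ ⟨y, hy, rfl⟩
      exact (mem_Om_sub h.adjA.baseA.comm).1 hy
    have h5 : (Om (B.subgroupOf N)).map N.subtype ≤ Om B := by
      rintro _ ⟨y, hy, rfl⟩
      exact (mem_Om_sub h.adjA.base.comm).1 hy
    have h6 : (Om (A.subgroupOf N)).map N.subtype ⊔ (Om (B.subgroupOf N)).map N.subtype ≤ Om A ⊔ Om B :=
      sup_le_sup h4 h5
    exact h6 h3

/-- S14: `N ∩ Q ≠ 1` -/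
theorem TL.inf_ne_bot (T : TL B A C) (ml : MaxLoc B Q) (N : Subgroup G) [hN : N.Normal]
    (hN1 : N ≠ ⊥) (hNc : centralizer (N : Set G) = ⊥) : N ⊓ Q ≠ ⊥ := by
  intro hbot
  have h := T.adjA
  -- `N ∩ N(B) = 1`
  have key : ∀ n ∈ N, cj n B = B → n = 1 := by
    intro n hn hnB
    have h1 : n ∈ Q := by
      apply ml.cent n hnB
      intro q hq
      have h2 : n * q * n⁻¹ * q⁻¹ ∈ N ⊓ Q := by
        constructor
        · have h3 : n * q * n⁻¹ * q⁻¹ = n * (q * n⁻¹ * q⁻¹) := by group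
          rw [h3]
          exact N.mul_mem hn (hN.conj_mem _ (N.inv_mem hn) q)
        · exact Q.mul_mem (conj_mem (ml.norm n hnB) hq) (Q.inv_mem hq)
      rw [hbot, mem_bot] at h2
      exact br_eq_one_iff.1 h2
    have h2 : n ∈ N ⊓ Q := ⟨hn, h1⟩
    rwa [hbot, mem_bot] at h2
  obtain ⟨y, hy, hy1⟩ := h.base.exists_ne
  have hyy := h.base.Om_sq hy
  -- `y` acts on `N` without fixed points
  let φ : N →* N := (MulAut.conjNormal y : MulAut N).toMonoidHom
  have hφ : ∀ n : N, ((φ n : N) : G) = y * n * y⁻¹ := fun n => rfl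
  have hfp : MonoidHom.FixedPointFree φ := by
    intro n hn
    have h1 : y * (n : G) * y⁻¹ = n := by rw [← hφ, hn]
    have h2 : (n : G) * y = y * n := by
      calc (n : G) * y = (y * (n : G) * y⁻¹) * y := by rw [h1]
        _ = y * n := by group
    exact Subtype.ext (key n n.2 (h.base.cj_of_comm (h.base.Om_le hy) hy1 h2))
  have hinv : Function.Involutive φ := by
    intro n
    apply Subtype.ext
    rw [hφ, hφ]
    calc y * (y * (n : G) * y⁻¹) * y⁻¹ = (y * y) * n * (y * y)⁻¹ := by group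
      _ = n := by rw [hyy]; group
  have hcomm := hfp.commute_all_of_involutive hinv
  apply hN1
  rw [eq_bot_iff, ← hNc]
  intro n hn
  rw [mem_centralizer_iff]
  intro m hm
  exact congrArg Subtype.val (hcomm ⟨m, hm⟩ ⟨n, hn⟩).eq

/-- S14: `A, B, C ≤ N` -/
theorem TL.le_normal (T : TL B A C) (ml : MaxLoc B Q) (N : Subgroup G) [hN : N.Normal]
    (hN1 : N ≠ ⊥) (hNc : centralizer (N : Set G) = ⊥) : B ≤ N ∧ A ≤ N ∧ C ≤ N := by
  have hF := T.full ml
  have h := T.adjA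
  have hAQ := T.Om_le_Q ml
  have hBQ := ml.B_le h.base
  have h2 : Fact (Nat.Prime 2) := ⟨Nat.prime_two⟩
  have hconj : ∀ {g x : G}, x ∈ N → g * x * g⁻¹ ∈ N := fun hx => hN.conj_mem _ hx _
  -- a central element of `Q` in `N`
  obtain ⟨z, hzN, hzQ, hzc, hz1⟩ : ∃ z ∈ N, z ∈ Q ∧ (∀ q ∈ Q, z * q = q * z) ∧ z ≠ 1 := by
    have : Group.IsNilpotent Q := ml.two.isNilpotent
    have h3 := Cfsg.Agent.Lib.NormalAbelian.normal_inf_center_ne_bot (G := Q) (N.subgroupOf Q) (by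
      intro h4
      apply T.inf_ne_bot ml N hN1 hNc
      rw [eq_bot_iff]
      intro x hx
      have h5 : (⟨x, hx.2⟩ : Q) ∈ N.subgroupOf Q := hx.1
      rw [h4, mem_bot] at h5
      exact mem_bot.2 (congrArg Subtype.val h5))
    obtain ⟨⟨x, hx⟩, hx0⟩ := Subgroup.ne_bot_iff_exists_ne_one.1 h3
    have hx1 : x ≠ 1 := fun h0 => hx0 (Subtype.ext h0)
    refine ⟨x, hx.1, x.2, fun q hq => ?_, fun h0 => hx1 (Subtype.ext h0)⟩
    have h4 := (mem_center_iff.1 hx.2) ⟨q, hq⟩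
    exact (congrArg Subtype.val h4).symm
  have hzB : z ∈ B := hF.cent z (fun b hb => hzc b (hBQ hb))
  obtain ⟨a, ha, ha1⟩ := h.baseA.exists_ne
  have hzO : z ∈ Om B := h.fix_mem (h.baseA.Om_le ha) ha1 hzB (hzc a (hAQ ha)).symm
  obtain ⟨t, -, htA, htB, ht1, ht2⟩ := h.exists_torus
  have hOmB : Om B ≤ N := by
    have h3 : t * z * t⁻¹ ∈ Om B := conj_Om_mem h.base htB hzO
    have h31 : t * z * t⁻¹ ≠ 1 := by
      intro h4
      apply hz1
      calc z = t⁻¹ * (t * z * t⁻¹) * t := by group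
        _ = 1 := by rw [h4]; group
    intro x hx
    rcases h.base.four hzO h3 hz1 h31 (ht2 z hzO hz1).symm hx with h1 | h1 | h1 | h1
    · rw [h1]; exact N.one_mem
    · rw [h1]; exact hzN
    · rw [h1]; exact hconj hzN
    · rw [h1]; exact N.mul_mem hzN (hconj hzN)
  have hcjN : ∀ {g : G} {X : Subgroup G}, X ≤ N → cj g X ≤ N := by
    intro g X hX x hx
    rw [mem_cj] at hx
    have h3 : x = g * (g⁻¹ * x * g) * g⁻¹ := by group
    rw [h3]
    exact hconj (hX hx)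
  have hOmA : Om A ≤ N := by
    obtain ⟨g, hg⟩ := h.mem
    rw [hg, ← cj_Om h.base.comm]
    exact hcjN hOmB
  have hOmC : Om C ≤ N := by
    obtain ⟨g, hg⟩ := T.adjC.mem
    rw [hg, ← cj_Om h.base.comm]
    exact hcjN hOmB
  obtain ⟨c, hc, hc1⟩ := T.adjC.baseA.exists_ne
  obtain ⟨a', ha', -, k, hk, hkO, hck, -, -⟩ := T.form hc hc1
  have hkN : k ∈ N := by
    have h3 : k = a'⁻¹ * c := by rw [hck]; group
    rw [h3]
    exact N.mul_mem (N.inv_mem (hOmA ha')) (hOmC hc)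
  have hkk1 := h.base.sq_ne hk hkO
  have htk : t * k * t⁻¹ ∈ B := conj_mem htB hk
  have htkk : (t * k * t⁻¹) * (t * k * t⁻¹) = t * (k * k) * t⁻¹ := by group
  have htkk1 : t * (k * k) * t⁻¹ ≠ 1 := by
    intro h4
    apply hkk1
    calc k * k = t⁻¹ * (t * (k * k) * t⁻¹) * t := by group
      _ = 1 := by rw [h4]; group
  have hBN : B ≤ N := by
    intro b hb
    have hcase : ∀ {r : G}, r ∈ B → r ∈ N → b * b = r * r → b ∈ N := by
      intro r hr hrN he
      have h3 := hOmB (h.base.inv_mul_mem hr hb he.symm)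
      have h4 : b = r * (r⁻¹ * b) := by group
      rw [h4]
      exact N.mul_mem hrN h3
    rcases h.base.four (h.base.sq_mem_Om hk) (conj_Om_mem h.base htB (h.base.sq_mem_Om hk)) hkk1 htkk1
      (ht2 _ (h.base.sq_mem_Om hk) hkk1).symm (h.base.sq_mem_Om hb) with h1 | h1 | h1 | h1
    · exact hOmB ((mem_Om h.base.comm).2 ⟨hb, h1⟩)
    · exact hcase hk hkN h1
    · exact hcase htk (hconj hkN) (by rw [h1, htkk])
    · refine hcase (B.mul_mem hk htk) (N.mul_mem hkN (hconj hkN)) ?_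
      rw [h1, h.base.sq_mul hk htk, htkk]
  refine ⟨hBN, ?_, ?_⟩
  · obtain ⟨g, hg⟩ := h.mem
    rw [hg]; exact hcjN hBN
  · obtain ⟨g, hg⟩ := T.adjC.mem
    rw [hg]; exact hcjN hBN

/-- The endgame in the notation of this development. -/
theorem TL.psl34 (T : TL B A C) (ml : MaxLoc B Q) (N : Subgroup G) [hN : N.Normal] [hs : IsSimpleGroup N]
    (hNc : centralizer (N : Set G) = ⊥) :
    ∃ (F : Type) (_ : Field F) (_ : Fintype F), Fintype.card F = 4 ∧
        Nonempty (N ≃* Matrix.ProjectiveSpecialLinearGroup (Fin 3) F) := by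
  have hN1 : N ≠ ⊥ := by
    rintro rfl
    obtain ⟨x, hx⟩ := exists_ne (1 : ↥(⊥ : Subgroup G))
    exact hx (Subsingleton.elim _ _)
  obtain ⟨h1, h2, h3⟩ := T.le_normal ml N hN1 hNc
  exact ((T.full ml).sub h1 h2 h3).psl34

end Cfsg.Agent.TIAbelian.End
end

-- part: TIAbelian/EndMain
section
/-!
# S1779: the endgame (`B ≅ Z₄ × Z₄`, noncommuting collinear conjugates)
-/

set_option autoImplicit false

namespace Cfsg.Agent.TIAbelian.End

open Subgroup

universe u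

variable {G : Type u} [Group G]

/-- `MaxLoc` from the hypotheses of S1779. -/
theorem maxLoc_of [Finite G] {B M : Subgroup G} (hM : Cfsg.IsMaximalTwoLocal M)
    (hMc : Cfsg.IsOfCharacteristicTwo ↥M) (hN : ∀ g : G, g ∈ M ↔ PairBase.cj g B = B) :
    MaxLoc B ((Cfsg.pCore 2 ↥M).map M.subtype) := by
  have h2 : Fact (Nat.Prime 2) := ⟨Nat.prime_two⟩
  have hQn : (Cfsg.pCore 2 ↥M).Normal := Cfsg.Agent.Lib.Cores.pCore_normal 2
  have hQp : IsPGroup 2 (Cfsg.pCore 2 ↥M) := Cfsg.Agent.Lib.Cores.pCore_isPGroup 2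
  have h3 : ∀ g : G, g ∈ M → ∀ x ∈ (Cfsg.pCore 2 ↥M).map M.subtype,
      g * x * g⁻¹ ∈ (Cfsg.pCore 2 ↥M).map M.subtype := by
    rintro g hg _ ⟨x, hx, rfl⟩
    exact ⟨⟨g, hg⟩ * x * ⟨g, hg⟩⁻¹, hQn.conj_mem x hx ⟨g, hg⟩, rfl⟩
  refine ⟨?_, ?_, ?_, ?_, ?_, ?_⟩
  · exact hQp.map _
  · rintro _ ⟨x, hx, rfl⟩
    exact (hN _).1 x.2
  · intro g hg
    have hgM := (hN g).2 hg
    refine cj_le_of (h3 g hgM) ?_
    intro x hx
    have := h3 g⁻¹ (M.inv_mem hgM) x hx
    rwa [inv_inv] at this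
  · intro g hg hc
    have hgM := (hN g).2 hg
    refine ⟨⟨g, hgM⟩, ?_, rfl⟩
    apply hMc
    rw [mem_centralizer_iff]
    intro q hq
    apply Subtype.ext
    exact (hc q ⟨q, hq, rfl⟩).symm
  · intro R hR h1 h3 r hr
    have hRM : R ≤ M := fun r hr => (hN r).2 (h1 r hr)
    have h4 : (R.subgroupOf M).Normal := by
      refine ⟨fun x hx g => ?_⟩
      rw [Subgroup.mem_subgroupOf] at hx ⊢
      have := PairBase.conj_mem_of_cj (h3 g ((hN _).1 g.2)) hx
      simpa using this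
    have h5 : IsPGroup 2 (R.subgroupOf M) := hR.comap_of_injective M.subtype M.subtype_injective
    exact ⟨⟨r, hRM hr⟩, Cfsg.Agent.Lib.Cores.le_pCore h4 h5 (Subgroup.mem_subgroupOf.2 hr), rfl⟩
  · intro R hR hR1 h1 g hg
    have h3 : M ≤ Subgroup.normalizer (R : Set G) := by
      intro x hx
      rw [PairMain.mem_normalizer_iff_cj]
      exact h1 x ((hN x).1 hx)
    have h4 := hM.2 _ ⟨R, hR, hR1, rfl⟩ h3
    refine (hN g).1 ?_
    rw [← h4, PairMain.mem_normalizer_iff_cj]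
    exact hg

/-- `Base` from the pair analysis. -/
theorem base_of [Finite G] {P : Set (Subgroup G)} (hg : PairGeo.Geo P) {B : Subgroup G} (hB : B ∈ P)
    (hcard : Nat.card ↥B = 16) (hom : (PairGeo.Om B).ncard = 4) : Base B where
  comm := hg.comm B hB
  card := hcard
  exp := hg.exp4 B hB
  om := by
    have h1 : ((Om B : Subgroup G) : Set G) = PairGeo.Om B := by
      ext x
      rw [SetLike.mem_coe, mem_Om (hg.comm B hB), PairGeo.mem_Om]
    rw [← hom, ← h1]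
    rfl
  ti := fun g x hx hx1 hgx => hg.norm_of_conj hB hx hx1 hgx
  wc := by
    intro g hg'
    refine PairInst.eq_of_le_norm hg.toTIFam (hg.conj B hB g) hB ?_
    intro a ha
    exact PairMain.mem_normalizer_iff_cj.1 (hg' ha)

theorem adj_of [Finite G] {P : Set (Subgroup G)} (hg : PairGeo.Geo P) {A B : Subgroup G} (hA : A ∈ P)
    (hB : B ∈ P) (hbase : Base B) (hc : PairBase.Col A B) : Adj B A where
  base := hbase
  mem := by
    obtain ⟨g, hg'⟩ := hg.trans B hB A hA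
    exact ⟨g, hg'.symm⟩
  ne := hc.1
  ex := by
    obtain ⟨-, x, hx, y, hy, hx1, hy1, hxy⟩ := hc
    exact ⟨x, hx, hx1, hg.norm_of_comm hB hy hy1 hxy⟩

/-- The endgame of S1779: a pair of collinear conjugates. -/
theorem endgame [Finite G] {P : Set (Subgroup G)} (h : PairBase.TIFam P)
    (hex : ∃ A ∈ P, ∃ B ∈ P, PairBase.Col A B) {B₀ : Subgroup G} (hB₀ : B₀ ∈ P)
    (hM : Cfsg.IsMaximalTwoLocal (Subgroup.normalizer (B₀ : Set G)))
    (hMc : Cfsg.IsOfCharacteristicTwo ↥(Subgroup.normalizer (B₀ : Set G)))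
    (N : Subgroup G) [N.Normal] [IsSimpleGroup ↥N] (hN : Subgroup.centralizer (N : Set G) = ⊥) :
    ∃ (F : Type) (_ : Field F) (_ : Fintype F), Fintype.card F = 4 ∧
      Nonempty (↥N ≃* Matrix.ProjectiveSpecialLinearGroup (Fin 3) F) := by
  obtain ⟨hg, ⟨A, B, C, T⟩, hcard⟩ := PairMain.main h hex hB₀ hM hMc
  obtain ⟨g, hgB⟩ := h.trans B T.hB B₀ hB₀
  have T' := PairTwo.conj_of hg T g
  rw [hgB] at T'
  have ml := maxLoc_of (B := B₀) hM hMc (fun x => PairMain.mem_normalizer_iff_cj)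
  have hbase := base_of hg hB₀ (hcard B₀ hB₀).2.1 (hcard B₀ hB₀).1
  have hA := adj_of hg T'.hA hB₀ hbase T'.AB
  have hC := adj_of hg T'.hC hB₀ hbase T'.CB
  have hOm : ∀ {X : Subgroup G}, X ∈ P → ∀ {x : G}, x ∈ Om X ↔ x ∈ PairGeo.Om X := by
    intro X hX x
    rw [mem_Om (hg.comm X hX), PairGeo.mem_Om]
  obtain ⟨a, ha, ha1⟩ := hA.baseA.exists_ne
  obtain ⟨c, hc, hc1⟩ := hC.baseA.exists_ne
  obtain ⟨x, hx, hx1⟩ := hC.baseA.exists_ne
  obtain ⟨a, ha, ha1, -, -, -, -, -, hall⟩ := hA.exists_agree hC hx hx1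
  have hai := hA.Om_inv ha
  have hxi := hC.Om_inv hx
  have hk : ∀ b ∈ B₀, (a * x) * b = b * (a * x) := by
    intro b hb
    have h3 := comm_of_br_eq (hall b hb)
    rwa [hai] at h3
  obtain ⟨h1, h2⟩ := T'.br a ((hOm T'.hA).1 ha) x ((hOm T'.hC).1 hx) ha1 hx1
  have h3 : a * x * a⁻¹ * x⁻¹ = (a * x) * (a * x) := by
    rw [hai, hxi]; group
  rw [h3] at h1 h2
  obtain ⟨D, TD⟩ := hA.exists_TL ha ha1 ⟨hx1, _, hC.mem, hx⟩ hk h2 h1.2
  exact TD.psl34 ml N hN

end Cfsg.Agent.TIAbelian.End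
end
end

-- part: S1779
section
prune_inst 0xc4200000010002000000000020003c4292000002004b0001114004000c865c4000000620c0200b120002288440300048100000500010000020000000411900a080235022923cad04350009809001180c00000000000000000000000000041000000000000
set_option linter.all false
open scoped Cfsg.Agent.FastGrp

-- part: TIAbelian/CaseB3
section
set_option autoImplicit false
set_option linter.unusedSectionVars false
set_option linter.unusedSimpArgs false

namespace Cfsg.Agent.TIAbelian.CaseB3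

open Cfsg.Agent.TIAbelian.PairBase hiding TIFam
open Cfsg.Agent.TIAbelian.PairOmega
open Cfsg.Agent.TIAbelian.CaseBBase
open Cfsg.Agent.TIAbelian.CaseBGeo
open Cfsg.Agent.TIAbelian.CaseBK
open Cfsg.Agent.TIAbelian.PairGeo (Om mem_Om one_mem_Om inv_Om conj_mem_Om_cj mem_Om_cj)

variable {G : Type*} [Group G]

/-- The hypothesis (b1): two members commuting with `A` have commuting involutions. -/
def HB1 (P : Set (Subgroup G)) : Prop :=
  ∀ A ∈ P, ∀ B ∈ P, ∀ C ∈ P, Cm A B → Cm A C → Ap B C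

/-- The group generated by the `Om B`, `B` commuting with `A`. -/
def UA (P : Set (Subgroup G)) (A : Subgroup G) : Subgroup G :=
  Subgroup.closure {x : G | ∃ B ∈ P, Cm A B ∧ x ∈ Om B}

variable {P : Set (Subgroup G)} (h : Fam P)
include h

theorem UA_om {A B : Subgroup G} (hB : B ∈ P) (hAB : Cm A B) {x : G} (hx : x ∈ Om B) :
    x ∈ UA P A := Subgroup.subset_closure ⟨B, hB, hAB, hx⟩

theorem UA_comm [Finite G] (hb1 : HB1 P) {A : Subgroup G} (hA : A ∈ P) :
    ∀ x ∈ UA P A, ∀ y ∈ UA P A, x * y = y * x := by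
  have hgen : ∀ x ∈ {x : G | ∃ B ∈ P, Cm A B ∧ x ∈ Om B},
      ∀ y ∈ {x : G | ∃ B ∈ P, Cm A B ∧ x ∈ Om B}, x * y = y * x := by
    rintro x ⟨B, hB, hAB, hx⟩ y ⟨C, hC, hAC, hy⟩
    exact comm_om h hB hC (hb1 A hA B hB C hC hAB hAC) hx hy
  intro x hx y hy
  have h1 := Subgroup.isMulCommutative_closure hgen
  exact congrArg Subtype.val (h1.is_comm.comm ⟨x, hx⟩ ⟨y, hy⟩)

theorem UA_sq [Finite G] (hb1 : HB1 P) {A : Subgroup G} (hA : A ∈ P) {x : G} (hx : x ∈ UA P A) :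
    x * x = 1 := by
  have hc := UA_comm h hb1 hA
  have h2 : ∀ x ∈ UA P A, x * x = 1 := by
    intro x hx
    induction hx using Subgroup.closure_induction with
    | mem x hx =>
      obtain ⟨B, hB, hAB, hx⟩ := hx
      exact hx.2
    | one => simp
    | mul x y hx' hy' hx hy =>
      have e := hc x hx' y hy'
      have : x * y * (x * y) = x * (y * x) * y := by simp only [mul_assoc]
      rw [this, ← e]
      have : x * (x * y) * y = (x * x) * (y * y) := by simp only [mul_assoc]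
      rw [this, hx, hy, one_mul]
    | inv x _ hx => rw [← mul_inv_rev, hx, inv_one]
  exact h2 x hx

theorem UA_cent {A : Subgroup G} {a x : G} (ha : a ∈ A) (hx : x ∈ UA P A) : a * x = x * a := by
  have h2 : ∀ x ∈ UA P A, a * x = x * a := by
    intro x hx
    induction hx using Subgroup.closure_induction with
    | mem x hx =>
      obtain ⟨B, hB, hAB, hx⟩ := hx
      exact hAB a ha x hx.1
    | one => simp
    | mul x y _ _ hx hy => rw [← mul_assoc, hx, mul_assoc, hy, mul_assoc]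
    | inv x _ hx =>
      have : Commute a x := hx
      exact this.inv_right.eq
  exact h2 x hx

theorem UA_conj {A : Subgroup G} {g x : G} (hg : cj g A = A) (hx : x ∈ UA P A) :
    g * x * g⁻¹ ∈ UA P A := by
  have h2 : ∀ x ∈ UA P A, g * x * g⁻¹ ∈ UA P A := by
    intro x hx
    induction hx using Subgroup.closure_induction with
    | mem x hx =>
      obtain ⟨B, hB, hAB, hx⟩ := hx
      refine UA_om h (h.conj B hB g) ?_ (conj_mem_Om_cj hx)
      have := hAB.cj g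
      rwa [hg] at this
    | one => simp [Subgroup.one_mem]
    | mul x y _ _ hx hy =>
      have : g * (x * y) * g⁻¹ = (g * x * g⁻¹) * (g * y * g⁻¹) := by simp only [mul_assoc, _root_.inv_mul_cancel_left]
      rw [this]
      exact (UA P A).mul_mem hx hy
    | inv x _ hx =>
      have : g * x⁻¹ * g⁻¹ = (g * x * g⁻¹)⁻¹ := by simp only [mul_assoc, _root_.mul_inv_rev, _root_.inv_inv]
      rw [this]
      exact (UA P A).inv_mem hx
  exact h2 x hx

/-- A member with a nontrivial element in `UA A` commutes with `A`. -/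
theorem cm_of_UA {A C : Subgroup G} (hA : A ∈ P) (hC : C ∈ P) {x : G} (hx : x ∈ C) (hx1 : x ≠ 1)
    (hxU : x ∈ UA P A) : Cm A C := by
  obtain ⟨a, ha, haa⟩ := h.nonelem A hA
  exact (cm_of_comm h hC hA hx hx1 ha haa (UA_cent h ha hxU).symm).symm

/-- The far lemma. -/
theorem far_lemma [Finite G] (hb1 : HB1 P) {A B D : Subgroup G} (hA : A ∈ P) (hB : B ∈ P)
    (hD : D ∈ P) (hDA : Nb D A) (hAB : Cm A B) (hBD : ¬ Ap D B) :
    ∃ R ∈ P, R ≠ A ∧ Cm A R ∧ Nb R D ∧ Nb R B ∧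
      (∀ e ∈ Om D, ∀ u ∈ Om B, e * u * e * u ∈ Om R) ∧
      (∀ e ∈ Om D, ∀ u ∈ Om B, e ≠ 1 → u ≠ 1 → e * u * e * u ≠ 1) ∧
      (∀ u ∈ Om B, u ≠ 1 → Nb D (cj u D)) ∧
      (∀ e ∈ Om D, e ≠ 1 → Nb B (cj e B)) := by
  have hap_symm : ¬ Ap B D := fun h0 => hBD h0.symm
  -- the elements of `Om D` normalise `A`
  have eA : ∀ e ∈ Om D, cj e A = A := fun e he => om_norm h hA hD (Nb.ap hDA).symm he
  have k_ne : ∀ e ∈ Om D, ∀ u ∈ Om B, e ≠ 1 → u ≠ 1 → e * u * e * u ≠ 1 := by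
    intro e he u hu he1 hu1 h0
    apply hBD
    refine ⟨e, he.1, u, hu.1, he1, hu1, ?_⟩
    have h1 : e * u * (e * u) = 1 := by rw [← h0]; simp only [mul_assoc]
    have h2 : e * u = (e * u)⁻¹ := eq_inv_of_mul_eq_one_left h1
    rw [h2, mul_inv_rev, inv_Om he, inv_Om hu]
  have k_mem : ∀ e ∈ Om D, ∀ u ∈ Om B, e * u * e * u ∈ UA P A := by
    intro e he u hu
    have h1 := UA_om h hB hAB hu
    have h2 := UA_conj h (eA e he) h1
    rw [inv_Om he] at h2
    exact (UA P A).mul_mem h2 h1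
  have k_sq : ∀ e ∈ Om D, ∀ u ∈ Om B, (e * u * e * u) * (e * u * e * u) = 1 :=
    fun e he u hu => UA_sq h hb1 hA (k_mem e he u hu)
  -- (1) `D ≈ D^u` and `B ≈ B^e`
  obtain ⟨e₀, he₀, he₀1⟩ := exists_ne_one h hD
  obtain ⟨u₀, hu₀, hu₀1⟩ := exists_ne_one h hB
  have apD : ∀ u ∈ Om B, Ap D (cj u D) := by
    intro u hu
    refine ⟨e₀, he₀.1, u * e₀ * u⁻¹, conj_mem_cj he₀.1, he₀1, ?_, ?_⟩
    · intro h0
      apply he₀1
      have := congrArg (fun t => u⁻¹ * t * u) h0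
      simpa [mul_assoc] using this
    · rw [inv_Om hu]
      have h1 := k_sq e₀ he₀ u hu
      have h2 : (e₀ * (u * e₀ * u)) * (e₀ * (u * e₀ * u)) = 1 := by
        rw [← h1]; simp only [mul_assoc]
      have h3 : e₀ * (u * e₀ * u) = (e₀ * (u * e₀ * u))⁻¹ := eq_inv_of_mul_eq_one_left h2
      rw [h3]
      simp [mul_assoc, inv_Om he₀, inv_Om hu]
  have cmAe : ∀ e ∈ Om D, Cm A (cj e B) := by
    intro e he
    have := hAB.cj e
    rwa [eA e he] at this
  have apB : ∀ e ∈ Om D, Ap B (cj e B) := fun e he =>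
    hb1 A hA B hB _ (h.conj B hB e) hAB (cmAe e he)
  -- (2)
  obtain ⟨u₁, hu₁, hDu₁⟩ : ∃ u ∈ Om B, ¬ Cm D (cj u D) := by
    by_contra hcon
    push Not at hcon
    exact hBD (ap_of_cj_comm h hD hB hcon)
  obtain ⟨e₁, he₁, hBe₁⟩ : ∃ e ∈ Om D, ¬ Cm B (cj e B) := by
    by_contra hcon
    push Not at hcon
    exact hap_symm (ap_of_cj_comm h hB hD hcon)
  have he₁1 : e₁ ≠ 1 := by
    rintro rfl
    rw [cj_one] at hBe₁
    exact hBe₁ (cm_self h hB)
  -- (3)
  have step3 : ∀ u ∈ Om B, ¬ Cm D (cj u D) →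
      ∃ R ∈ P, Nb R D ∧ Cm A R ∧ ∀ e ∈ Om D, e * u * e * u ∈ Om R := by
    intro u hu hDu
    obtain ⟨R, hR, hRD, hRu, ⟨e, he, he1, hk⟩, _, hall⟩ :=
      lemK h hD (s := u) hu.2 (nb_of (apD u hu) hDu)
    rw [inv_Om hu] at hk
    have hu1 : u ≠ 1 := by
      rintro rfl
      rw [cj_one] at hDu
      exact hDu (cm_self h hD)
    have e1 : e * (u * e * u) = e * u * e * u := by simp only [mul_assoc]
    rw [e1] at hk
    have hAR : Cm A R := cm_of_UA h hA hR hk.1 (k_ne e he u hu he1 hu1) (k_mem e he u hu)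
    have hRB : Ap R B := hb1 A hA R hR B hB hAR hAB
    refine ⟨R, hR, hRD, hAR, ?_⟩
    intro e' he'
    have h1 := hall (fun v hv => (comm_om h hR hB hRB hv hu).symm) e' he'
    rw [inv_Om hu] at h1
    have e1 : e' * (u * e' * u) = e' * u * e' * u := by simp only [mul_assoc]
    rwa [e1] at h1
  have step3' : ∀ e ∈ Om D, ¬ Cm B (cj e B) →
      ∃ R ∈ P, Nb R B ∧ Cm A R ∧ ∀ u ∈ Om B, e * u * e * u ∈ Om R := by
    intro e he hBe
    obtain ⟨R, hR, hRB, hRe, ⟨u, hu, hu1, hk⟩, _, hall⟩ :=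
      lemK h hB (s := e) he.2 (nb_of (apB e he) hBe)
    rw [inv_Om he] at hk
    have he1 : e ≠ 1 := by
      rintro rfl
      rw [cj_one] at hBe
      exact hBe (cm_self h hB)
    have kk : ∀ u ∈ Om B, u * (e * u * e) = e * u * e * u := by
      intro u hu
      have h1 := k_sq e he u hu
      have h3 : e * u * e * u = (e * u * e * u)⁻¹ := eq_inv_of_mul_eq_one_left h1
      rw [h3]
      simp [mul_assoc, inv_Om he, inv_Om hu]
    rw [kk u hu] at hk
    have hAR : Cm A R := cm_of_UA h hA hR hk.1 (k_ne e he u hu he1 hu1) (k_mem e he u hu)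
    have hRD : Ap R D := ap_of_norm h hR hD he.1 he1 hRe
    refine ⟨R, hR, hRB, hAR, ?_⟩
    intro u' hu'
    have h1 := hall (fun v hv => (comm_om h hR hD hRD hv he).symm) u' hu'
    rw [inv_Om he, kk u' hu'] at h1
    exact h1
  obtain ⟨R, hR, hRD, hAR, hR1⟩ := step3 u₁ hu₁ hDu₁
  obtain ⟨R', hR', hRB', hAR', hR1'⟩ := step3' e₁ he₁ hBe₁
  have hu₁1 : u₁ ≠ 1 := by
    rintro rfl
    rw [cj_one] at hDu₁
    exact hDu₁ (cm_self h hD)
  have hRR' : R = R' :=
    eq_of_mem h hR hR' (hR1 e₁ he₁).1 (hR1' u₁ hu₁).1 (k_ne e₁ he₁ u₁ hu₁ he₁1 hu₁1)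
  subst hRR'
  have nbD : ∀ u ∈ Om B, u ≠ 1 → Nb D (cj u D) := by
    intro u hu hu1
    refine nb_of (apD u hu) ?_
    intro h0
    apply Nb.not_cm hRD
    obtain ⟨d, hd, hdd⟩ := h.nonelem D hD
    have hk := hR1' u hu
    refine cm_of_comm h hR hD hk.1 (k_ne e₁ he₁ u hu he₁1 hu1) hd hdd ?_
    have c1 : Commute d e₁ := h.comm D hD _ hd _ he₁.1
    have c2 : Commute d (u * e₁ * u) := by
      have := h0 d hd (u * e₁ * u⁻¹) (conj_mem_cj he₁.1)
      rw [inv_Om hu] at this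
      exact this
    have e2 : e₁ * u * e₁ * u = e₁ * (u * e₁ * u) := by simp only [mul_assoc]
    rw [e2]
    exact (c1.mul_right c2).eq.symm
  have nbB : ∀ e ∈ Om D, e ≠ 1 → Nb B (cj e B) := by
    intro e he he1
    refine nb_of (apB e he) ?_
    intro h0
    apply Nb.not_cm hRB'
    obtain ⟨b, hb, hbb⟩ := h.nonelem B hB
    have hk := hR1 e he
    refine cm_of_comm h hR hB hk.1 (k_ne e he u₁ hu₁ he1 hu₁1) hb hbb ?_
    have c1 : Commute b u₁ := h.comm B hB _ hb _ hu₁.1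
    have c2 : Commute b (e * u₁ * e) := by
      have := h0 b hb (e * u₁ * e⁻¹) (conj_mem_cj hu₁.1)
      rw [inv_Om he] at this
      exact this
    exact (c2.mul_right c1).eq.symm
  have hk_all : ∀ e ∈ Om D, ∀ u ∈ Om B, e * u * e * u ∈ Om R := by
    intro e he u hu
    by_cases hu1 : u = 1
    · subst hu1
      have : e * 1 * e * 1 = 1 := by simp [he.2]
      rw [this]
      exact one_mem_Om R
    obtain ⟨T, hT, hTD, hAT, hT1⟩ := step3 u hu (Nb.not_cm (nbD u hu hu1))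
    have : T = R := eq_of_mem h hT hR (hT1 e₁ he₁).1 (hR1' u hu).1 (k_ne e₁ he₁ u hu he₁1 hu1)
    rw [← this]
    exact hT1 e he
  refine ⟨R, hR, ?_, hAR, hRD, hRB', hk_all, k_ne, nbD, nbB⟩
  rintro rfl
  exact Nb.not_cm hRB' hAB

end Cfsg.Agent.TIAbelian.CaseB3
end

-- part: TIAbelian/CaseB6
section
set_option autoImplicit false
set_option linter.unusedSectionVars false

namespace Cfsg.Agent.TIAbelian.CaseB6

open Cfsg.Agent.TIAbelian.PairBase hiding TIFam
open Cfsg.Agent.TIAbelian.PairOmega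
open Cfsg.Agent.TIAbelian.CaseBBase
open Cfsg.Agent.TIAbelian.CaseBGeo
open Cfsg.Agent.TIAbelian.CaseBK
open Cfsg.Agent.TIAbelian.CaseB3
open Cfsg.Agent.TIAbelian.CaseB5Def
open Cfsg.Agent.TIAbelian.PairGeo (Om mem_Om one_mem_Om inv_Om conj_mem_Om_cj mem_Om_cj)

variable {G : Type*} [Group G]

variable {P : Set (Subgroup G)} (h : Four P)
include h

/-- Full lines. -/
theorem surj2 [Finite G] {X Y : Subgroup G} (hX : X ∈ P) (hY : Y ∈ P) (hn : Nb X Y) {y : G}
    (hy : y ∈ Om Y) (hy1 : y ≠ 1) {x₀ : G} (hx₀ : x₀ ∈ Om X) :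
    ∃ a ∈ X, a * y * a⁻¹ * y⁻¹ = x₀ := by
  have hF := h.toFam
  let f : ↥X →* ↥X := MonoidHom.mk'
    (fun a => ⟨a * y * (a : G)⁻¹ * y⁻¹, (brak hF hY hX hn.symm hy a.2).1⟩) (by
      intro a b
      apply Subtype.ext
      show (a * b : G) * y * (a * b : G)⁻¹ * y⁻¹ = (a * y * (a : G)⁻¹ * y⁻¹) * (b * y * (b : G)⁻¹ * y⁻¹)
      have h1 : (b * y * (b : G)⁻¹ * y⁻¹) ∈ X := (brak hF hY hX hn.symm hy b.2).1
      have h2 := h.comm X hX _ a.2 _ h1
      have h3 := h.comm X hX _ (brak hF hY hX hn.symm hy a.2).1 _ h1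
      rw [h3]
      have e1 : (a * b : G) * y * (a * b : G)⁻¹ * y⁻¹
          = (a * (b * y * (b : G)⁻¹ * y⁻¹)) * y * (a : G)⁻¹ * y⁻¹ := by simp only [mul_assoc, _root_.mul_inv_rev, _root_.inv_mul_cancel, _root_.mul_one]
      rw [e1, h2]
      simp only [mul_assoc])
  have hfv : ∀ a : ↥X, ((f a : ↥X) : G) = a * y * (a : G)⁻¹ * y⁻¹ := fun a => rfl
  have hker : ∀ a : ↥X, a ∈ f.ker ↔ (a : G) ∈ Om X := by
    intro a
    rw [MonoidHom.mem_ker]
    constructor
    · intro h1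
      have h2 := congrArg (fun t : ↥X => (t : G)) h1
      have h3 : (a : G) * y * (a : G)⁻¹ * y⁻¹ = 1 := h2
      rw [mul_inv_eq_one, mul_inv_eq_iff_eq_mul] at h3
      exact ⟨a.2, (norm_iff hF hY hX hn.symm a.2).1 (hF.norm_of_comm hY hy.1 hy1 h3)⟩
    · intro h1
      apply Subtype.ext
      show (a : G) * y * (a : G)⁻¹ * y⁻¹ = 1
      rw [comm_om hF hX hY (Nb.ap hn) h1 hy]
      simp
  have hkcard : Nat.card ↥f.ker = 4 := by
    rw [← h.card_om X hX, ← Nat.card_coe_set_eq]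
    refine Nat.card_congr ⟨fun a => ⟨(a : ↥X), (hker _).1 a.2⟩, fun x => ⟨⟨x, x.2.1⟩, (hker _).2 x.2⟩,
      fun a => rfl, fun x => rfl⟩
  have hrcard : Nat.card ↥f.range = 4 := by
    have h1 := f.ker.card_mul_index
    rw [Subgroup.index_ker, hkcard, h.card X hX] at h1
    omega
  have himg : (fun t : ↥X => (t : G)) '' (f.range : Set ↥X) = Om X := by
    refine Set.eq_of_subset_of_ncard_le ?_ ?_ (Set.toFinite _)
    · rintro _ ⟨_, ⟨a, rfl⟩, rfl⟩
      exact brak hF hY hX hn.symm hy a.2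
    · rw [h.card_om X hX, Set.ncard_image_of_injective _ Subtype.val_injective,
        ← Nat.card_coe_set_eq]
      exact hrcard.ge
  rw [← himg] at hx₀
  obtain ⟨_, ⟨a, rfl⟩, e⟩ := hx₀
  exact ⟨a, a.2, e⟩

omit h in
/-- The commutator `[e, u]` is multiplicative in `u`. -/
theorem k_mul {e u v : G} (he : e * e = 1) (hc : (e * v * e) * u = u * (e * v * e)) :
    e * (u * v) * e * (u * v) = (e * u * e * u) * (e * v * e * v) := by
  calc e * (u * v) * e * (u * v) = e * u * (e * e) * v * e * (u * v) := by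
        rw [he]; simp only [mul_assoc, one_mul]
    _ = e * u * e * ((e * v * e) * u) * v := by simp only [mul_assoc]
    _ = e * u * e * (u * (e * v * e)) * v := by rw [hc]
    _ = (e * u * e * u) * (e * v * e * v) := by simp only [mul_assoc]

/-- (L5) -/
theorem L5 [Finite G] (hb1 : HB1 P) {A D B₁ B₂ R₁ R₂ : Subgroup G} (hA : A ∈ P) (hD : D ∈ P)
    (hDA : Nb D A) (hB₁ : B₁ ∈ P) (hB₂ : B₂ ∈ P) (hR₁ : R₁ ∈ P) (hR₂ : R₂ ∈ P) (hAB₁ : Cm A B₁)
    (hAB₂ : Cm A B₂) (f₁ : ¬ Ap D B₁) (f₂ : ¬ Ap D B₂) (hR₁D : Nb R₁ D) (hR₂D : Nb R₂ D)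
    (k₁ : ∀ e ∈ Om D, ∀ u ∈ Om B₁, e * u * e * u ∈ Om R₁)
    (k₂ : ∀ e ∈ Om D, ∀ u ∈ Om B₂, e * u * e * u ∈ Om R₂) (hne : R₁ ≠ R₂) : ¬ Nb B₁ B₂ := by
  intro hn
  have hF := h.toFam
  have eA : ∀ e ∈ Om D, cj e A = A := fun e he => om_norm hF hA hD (Nb.ap hDA).symm he
  obtain ⟨δ, hδ, hδδ⟩ := h.nonelem D hD
  obtain ⟨e, he, he1⟩ := exists_ne_one hF hD
  obtain ⟨z, hz, hz1⟩ := exists_ne_one hF hR₁
  -- `z'` with `[δ, z'] = [δ, z]`
  have hw := brak hF hR₁ hD hR₁D hz hδ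
  obtain ⟨z', hz', hzz'⟩ := surj hF hR₂ hD hR₂D hδ hδδ hw
  have hw1 : δ * z * δ⁻¹ * z⁻¹ ≠ 1 := brak_ne hF hR₁ hD (Nb.not_cm hR₁D) hz.1 hz1 hδ hδδ
  have hz'1 : z' ≠ 1 := by
    rintro rfl
    apply hw1
    rw [← hzz']
    simp
  have hzz1 : z * z' ≠ 1 := by
    intro h0
    apply hne
    have h1 : z = z' := by
      have h2 := eq_inv_of_mul_eq_one_left h0
      rwa [inv_Om hz'] at h2
    exact eq_of_mem hF hR₁ hR₂ hz.1 (h1 ▸ hz'.1) hz1
  have hδz : δ * (z * z') = (z * z') * δ := by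
    rw [eq_comm_iff]
    have e1 : δ * (z * z') * δ⁻¹ = (δ * z * δ⁻¹ * z⁻¹) * (z * (δ * z' * δ⁻¹ * z'⁻¹)) * z' := by
      simp only [mul_assoc, _root_.inv_mul_cancel_left, _root_.inv_mul_cancel, _root_.mul_one]
    rw [e1, hzz', ← comm_om hF hD hR₁ (Nb.ap hR₁D).symm hw hz]
    have e2 : (δ * z * δ⁻¹ * z⁻¹) * ((δ * z * δ⁻¹ * z⁻¹) * z) * z'
        = ((δ * z * δ⁻¹ * z⁻¹) * (δ * z * δ⁻¹ * z⁻¹)) * z * z' := by simp only [mul_assoc]
    rw [e2, hw.2, one_mul]
  -- `u`, `u'`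
  have kU : ∀ {B : Subgroup G}, B ∈ P → Cm A B → ∀ u ∈ Om B, e * u * e ∈ UA P A := by
    intro B hB hAB u hu
    have h1 := UA_om hF hB hAB hu
    have h2 := UA_conj hF (eA e he) h1
    rwa [inv_Om he] at h2
  have k_surj : ∀ {B R : Subgroup G}, B ∈ P → R ∈ P → Cm A B → ¬ Ap D B →
      (∀ e ∈ Om D, ∀ u ∈ Om B, e * u * e * u ∈ Om R) → ∀ z ∈ Om R, ∃ u ∈ Om B, e * u * e * u = z := by
    intro B R hB hR hAB f k z hz
    have hinj : Set.InjOn (fun u => e * u * e * u) (Om B) := by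
      intro u hu v hv huv
      have huv' : e * u * e * u = e * v * e * v := huv
      have h1 : e * (u * v) * e * (u * v) = 1 := by
        rw [k_mul he.2 (UA_comm hF hb1 hA _ (kU hB hAB v hv) _ (UA_om hF hB hAB hu)), huv',
          (k e he v hv).2]
      by_contra hne
      have h2 : u * v ≠ 1 := by
        intro h3
        apply hne
        have h4 := eq_inv_of_mul_eq_one_left h3
        rwa [inv_Om hv] at h4
      apply f
      refine ⟨e, he.1, u * v, (mul_Om hF hB hu hv).1, he1, h2, ?_⟩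
      have h3 : (e * (u * v)) * (e * (u * v)) = 1 := by rw [← h1]; simp only [mul_assoc]
      have h4 : e * (u * v) = (e * (u * v))⁻¹ := eq_inv_of_mul_eq_one_left h3
      rw [h4, mul_inv_rev, inv_Om he, inv_Om (mul_Om hF hB hu hv)]
    have himg : (fun u => e * u * e * u) '' Om B = Om R := by
      refine Set.eq_of_subset_of_ncard_le ?_ ?_ (Set.toFinite _)
      · rintro _ ⟨u, hu, rfl⟩
        exact k e he u hu
      · rw [Set.InjOn.ncard_image hinj, h.card_om R hR, h.card_om B hB]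
    rw [← himg] at hz
    obtain ⟨u, hu, e1⟩ := hz
    exact ⟨u, hu, e1⟩
  obtain ⟨u, hu, hku⟩ := k_surj hB₁ hR₁ hAB₁ f₁ k₁ z hz
  obtain ⟨u', hu', hku'⟩ := k_surj hB₂ hR₂ hAB₂ f₂ k₂ z' hz'
  have hu1 : u ≠ 1 := by
    rintro rfl
    apply hz1
    rw [← hku]
    simp [he.2]
  have hu'1 : u' ≠ 1 := by
    rintro rfl
    apply hz'1
    rw [← hku']
    simp [he.2]
  -- `u u'` lies in a member
  obtain ⟨a, ha, hau⟩ := surj2 h hB₁ hB₂ hn hu' hu'1 hu
  set C := cj a B₂ with hCdef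
  have hC : C ∈ P := h.conj B₂ hB₂ a
  have huC : u * u' ∈ Om C := by
    have h1 := conj_mem_Om_cj (g := a) hu'
    have h2 : a * u' * a⁻¹ = u * u' := by rw [← hau]; simp only [mul_assoc, _root_.inv_mul_cancel, _root_.mul_one]
    rwa [h2] at h1
  have huu1 : u * u' ≠ 1 := by
    intro h0
    apply nb_ne hF hB₁ hn
    have h1 : u = u' := by
      have h2 := eq_inv_of_mul_eq_one_left h0
      rwa [inv_Om hu'] at h2
    exact eq_of_mem hF hB₁ hB₂ hu.1 (h1 ▸ hu'.1) hu1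
  have huuU : u * u' ∈ UA P A :=
    (UA P A).mul_mem (UA_om hF hB₁ hAB₁ hu) (UA_om hF hB₂ hAB₂ hu')
  have hAC : Cm A C := cm_of_UA hF hA hC huC.1 huu1 huuU
  have hkk : e * (u * u') * e * (u * u') = z * z' := by
    rw [k_mul he.2 (UA_comm hF hb1 hA _ (kU hB₂ hAB₂ u' hu') _ (UA_om hF hB₁ hAB₁ hu)), hku, hku']
  have fC : ¬ Ap D C := by
    intro h0
    apply hzz1
    rw [← hkk]
    have h1 := comm_om hF hD hC h0 he huC
    have h2 : e * (u * u') * e * (u * u') = e * ((u * u') * e) * (u * u') := by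
      simp only [mul_assoc]
    rw [h2, ← h1]
    have h3 : e * (e * (u * u')) * (u * u') = (e * e) * ((u * u') * (u * u')) := by
      simp only [mul_assoc]
    rw [h3, he.2, huC.2, one_mul]
  obtain ⟨T, hT, _, _, hTD, _, hTk, _⟩ := far_lemma hF hb1 hA hC hD hDA hAC fC
  have hzT := hTk e he _ huC
  rw [hkk] at hzT
  exact Nb.not_cm hTD (cm_of_comm hF hT hD hzT.1 hzz1 hδ hδδ hδz.symm)

theorem conj_ne_one {g x : G} (hx : x ≠ 1) : g * x * g⁻¹ ≠ 1 := by
  intro h0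
  apply hx
  have := congrArg (fun t => g⁻¹ * t * g) h0
  simpa [mul_assoc] using this

/-- (b6) -/
theorem b6 [Finite G] (hb1 : HB1 P) {A B D : Subgroup G} (hA : A ∈ P) (hB : B ∈ P) (hD : D ∈ P)
    (hDA : Nb D A) (hAB : Cm A B) (hBD : ¬ Ap D B)
    (htorus : ∃ τ : G, (∀ g : G, (∀ x ∈ A, g * x = x * g) → (∀ d ∈ D, g * d = d * g) →
      g * τ = τ * g) ∧ cj τ A = A ∧ cj τ D = D ∧ ∀ x ∈ Om A, x ≠ 1 → τ * x * τ⁻¹ ≠ x)
    (htwin : ∀ R ∈ P, Nb R D → Cm A R → ∀ p ∈ Om R, ∃ a ∈ Om A, (p ≠ 1 → a ≠ 1) ∧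
      ∀ d ∈ D, d * (a * p) = (a * p) * d) : False := by
  have hF := h.toFam
  obtain ⟨R, hR, hRA, hAR, hRD, hRB, hk, hkne, _, _⟩ := far_lemma hF hb1 hA hB hD hDA hAB hBD
  obtain ⟨τ, hτ, hτA, hτD, hτx⟩ := htorus
  -- the conjugates
  have hR' : cj τ R ∈ P := h.conj R hR τ
  have hB' : cj τ B ∈ P := h.conj B hB τ
  have hAR' : Cm A (cj τ R) := by
    have := hAR.cj τ
    rwa [hτA] at this
  have hAB' : Cm A (cj τ B) := by
    have := hAB.cj τ
    rwa [hτA] at this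
  have hBD' : ¬ Ap D (cj τ B) := by
    intro h0
    apply hBD
    rw [← ap_cj_iff τ, hτD]
    exact h0
  have hRD' : Nb (cj τ R) D := by
    have := CaseBGeo.Nb.cj hRD τ
    rwa [hτD] at this
  have hRB' : Nb (cj τ R) (cj τ B) := CaseBGeo.Nb.cj hRB τ
  have hτinv : ∀ e ∈ Om D, τ⁻¹ * e * τ ∈ Om D := by
    intro e he
    have h1 : e ∈ Om (cj τ D) := by rwa [hτD]
    exact mem_Om_cj.1 h1
  have hk' : ∀ e ∈ Om D, ∀ u ∈ Om (cj τ B), e * u * e * u ∈ Om (cj τ R) := by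
    intro e he u hu
    have h1 := conj_mem_Om_cj (g := τ) (hk _ (hτinv e he) _ (mem_Om_cj.1 hu))
    have h2 : τ * (τ⁻¹ * e * τ * (τ⁻¹ * u * τ) * (τ⁻¹ * e * τ) * (τ⁻¹ * u * τ)) * τ⁻¹
        = e * u * e * u := by simp only [mul_assoc, _root_.mul_inv_cancel_left, _root_.mul_inv_cancel, _root_.mul_one]
    rwa [h2] at h1
  -- the key relation
  have key : ∀ p ∈ Om R, p ≠ 1 → ∃ b ∈ Om A, b ≠ 1 ∧ τ * p * τ⁻¹ = b * p := by
    intro p hp hp1
    obtain ⟨a, ha, ha1, hap⟩ := htwin R hR hRD hAR p hp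
    have ha1 := ha1 hp1
    have h1 : (a * p) * τ = τ * (a * p) := by
      apply hτ
      · intro x hx
        have c1 : Commute x a := h.comm A hA x hx a ha.1
        have c2 : Commute x p := hAR x hx p hp.1
        exact (c1.mul_right c2).eq.symm
      · intro d hd
        exact (hap d hd).symm
    have haτ : τ * a * τ⁻¹ ∈ Om A := by
      have := conj_mem_Om_cj (g := τ) ha
      rwa [hτA] at this
    refine ⟨τ * a * τ⁻¹ * a, mul_Om hF hA haτ ha, ?_, ?_⟩
    · intro h0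
      apply hτx a ha ha1
      have h2 := eq_inv_of_mul_eq_one_left h0
      rwa [inv_Om ha] at h2
    · have h2 : τ * p * τ⁻¹ = (τ * a * τ⁻¹)⁻¹ * (τ * (a * p) * τ⁻¹) := by simp only [mul_assoc, _root_.mul_inv_rev, _root_.inv_inv, _root_.inv_mul_cancel_left]
      rw [h2, inv_Om haτ, ← h1]
      simp only [mul_assoc, mul_inv_cancel, mul_one]
  -- `R' ≠ R`
  have hne : R ≠ cj τ R := by
    intro h0
    obtain ⟨p, hp, hp1⟩ := exists_ne_one hF hR
    obtain ⟨b, hb, hb1', e⟩ := key p hp hp1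
    have h1 : τ * p * τ⁻¹ ∈ R := by
      rw [h0]
      exact conj_mem_cj hp.1
    rw [e] at h1
    have h2 : b ∈ R := by
      have := R.mul_mem h1 (R.inv_mem hp.1)
      simpa using this
    exact hRA (eq_of_mem hF hR hA h2 hb.1 hb1')
  -- `B ~ R'`
  have hBR' : Nb B (cj τ R) := by
    refine nb_of (hb1 A hA B hB _ hR' hAB hAR') ?_
    intro h0
    obtain ⟨p, hp, hp1⟩ := exists_ne_one hF hR
    obtain ⟨b, hb, hb1', e⟩ := key p hp hp1
    obtain ⟨c, hc, hcc⟩ := h.nonelem B hB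
    apply Nb.not_cm hRB
    refine cm_of_comm hF hR hB hp.1 hp1 hc hcc ?_
    have c1 : Commute c (τ * p * τ⁻¹) := h0 c hc _ (conj_mem_cj hp.1)
    have c2 : Commute c b := (hAB b hb.1 c hc).symm
    have h1 : p = b⁻¹ * (τ * p * τ⁻¹) := by rw [e, inv_mul_cancel_left]
    rw [h1]
    exact (c2.inv_right.mul_right c1).eq.symm
  -- `B' ~ R`
  have hB'R : Nb (cj τ B) R := by
    refine nb_of (hb1 A hA _ hB' _ hR hAB' hAR) ?_
    intro h0
    obtain ⟨p, hp, hp1⟩ := exists_ne_one hF hR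
    obtain ⟨b, hb, hb1', e⟩ := key p hp hp1
    obtain ⟨c, hc, hcc⟩ := h.nonelem (cj τ B) hB'
    apply Nb.not_cm hRB'
    refine cm_of_comm hF hR' hB' (conj_mem_cj hp.1) (conj_ne_one h hp1) hc hcc ?_
    have c1 : Commute c p := h0 c hc _ hp.1
    have c2 : Commute c b := (hAB' b hb.1 c hc).symm
    rw [e]
    exact (c2.mul_right c1).eq.symm
  -- `B` and `B'` commute
  have hBB' : Cm B (cj τ B) := by
    rcases cm_or_nb hF (hb1 A hA B hB _ hB' hAB hAB') with h1 | h1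
    · exact h1
    · exact absurd h1 (L5 h hb1 hA hD hDA hB hB' hR hR' hAB hAB' hBD hBD' hRD hRD' hk hk' hne)
  -- `B'' = B^{p'}`
  obtain ⟨p, hp, hpp⟩ := h.nonelem (cj τ R) hR'
  have hB'' : cj p B ∈ P := h.conj B hB p
  have hpA : cj p A = A := by
    obtain ⟨a, ha, ha1⟩ := exists_ne_one hF hA
    exact hF.norm_of_comm hA ha.1 ha1 (hAR' a ha.1 p hp).symm
  have hAB'' : Cm A (cj p B) := by
    have := hAB.cj p
    rwa [hpA] at this
  have hform : ∀ u ∈ Om (cj p B), ∃ w ∈ Om (cj τ R), ∃ v ∈ Om B, u = w * v ∧ (v ≠ 1 → w ≠ 1) := by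
    intro u hu
    have hv := mem_Om_cj.1 hu
    refine ⟨_, brak hF hB hR' hBR' hv hp, _, hv, by simp only [mul_assoc, _root_.mul_inv_cancel_left, _root_.mul_inv_cancel, _root_.mul_one, _root_.mul_inv_rev, _root_.inv_inv, _root_.inv_mul_cancel_left, _root_.inv_mul_cancel], ?_⟩
    intro h1
    exact brak_ne hF hB hR' (Nb.not_cm hBR') hv.1 h1 hp hpp
  have hkk : ∀ e ∈ Om D, ∀ w ∈ Om (cj τ R), ∀ v ∈ Om B,
      e * (w * v) * e * (w * v) = e * v * e * v := by
    intro e he w hw v hv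
    have c1 : e * w = w * e := comm_om hF hD hR' (Nb.ap hRD').symm he hw
    have c2 : w * v = v * w := comm_om hF hR' hB (Nb.ap hBR').symm hw hv
    have e1 : e * (w * v) * e * (w * v) = e * (w * v) * (e * w) * v := by simp only [mul_assoc]
    rw [e1, c1, c2]
    have e2 : e * (v * w) * (w * e) * v = e * v * (w * w) * e * v := by simp only [mul_assoc]
    rw [e2, hw.2, mul_one]
  have hk'' : ∀ e ∈ Om D, ∀ u ∈ Om (cj p B), e * u * e * u ∈ Om R := by
    intro e he u hu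
    obtain ⟨w, hw, v, hv, rfl, _⟩ := hform u hu
    rw [hkk e he w hw v hv]
    exact hk e he v hv
  -- a particular element
  obtain ⟨v, hv, hv1⟩ := exists_ne_one hF hB
  obtain ⟨e, he, he1⟩ := exists_ne_one hF hD
  have huB'' : p * v * p⁻¹ ∈ Om (cj p B) := conj_mem_Om_cj hv
  have hw := brak hF hB hR' hBR' hv hp
  have hw1 : p * v * p⁻¹ * v⁻¹ ≠ 1 := brak_ne hF hB hR' (Nb.not_cm hBR') hv.1 hv1 hp hpp
  have heq : p * v * p⁻¹ = (p * v * p⁻¹ * v⁻¹) * v := by simp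
  have hBD'' : ¬ Ap D (cj p B) := by
    intro h0
    apply hkne e he v hv he1 hv1
    rw [← hkk e he _ hw v hv, ← heq]
    have c1 := comm_om hF hD hB'' h0 he huB''
    have h2 : e * (p * v * p⁻¹) * e * (p * v * p⁻¹) = e * ((p * v * p⁻¹) * e) * (p * v * p⁻¹) := by
      simp only [mul_assoc]
    rw [h2, ← c1]
    have h3 : e * (e * (p * v * p⁻¹)) * (p * v * p⁻¹)
        = (e * e) * ((p * v * p⁻¹) * (p * v * p⁻¹)) := by simp only [mul_assoc]
    rw [h3, he.2, huB''.2, one_mul]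
  have hB''B' : Nb (cj p B) (cj τ B) := by
    refine nb_of (hb1 A hA _ hB'' _ hB' hAB'' hAB') ?_
    intro h0
    obtain ⟨c, hc, hcc⟩ := h.nonelem (cj τ B) hB'
    apply Nb.not_cm hRB'
    refine cm_of_comm hF hR' hB' hw.1 hw1 hc hcc ?_
    have c1 : Commute c (p * v * p⁻¹) := (h0 _ huB''.1 c hc).symm
    have c2 : Commute c v := (hBB' v hv.1 c hc).symm
    exact (c1.mul_right c2.inv_right).eq.symm
  exact L5 h hb1 hA hD hDA hB'' hB' hR hR' hAB'' hAB' hBD'' hBD' hRD hRD' hk'' hk' hne hB''B'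

end Cfsg.Agent.TIAbelian.CaseB6
end

-- part: TIAbelian/CaseBCore
section
set_option autoImplicit false
set_option linter.unusedSectionVars false

namespace Cfsg.Agent.TIAbelian.CaseBCore

open Cfsg.Agent.TIAbelian.PairBase hiding TIFam
open Cfsg.Agent.TIAbelian.PairOmega
open Cfsg.Agent.TIAbelian.CaseBBase
open Cfsg.Agent.TIAbelian.CaseBGeo
open Cfsg.Agent.TIAbelian.CaseBK
open Cfsg.Agent.TIAbelian.CaseB3
open Cfsg.Agent.TIAbelian.CaseB5Def
open Cfsg.Agent.TIAbelian.CaseB6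
open Cfsg.Agent.TIAbelian.CaseBTwo (TwoLines)
open Cfsg.Agent.TIAbelian.PairGeo (Om mem_Om one_mem_Om inv_Om conj_mem_Om_cj mem_Om_cj)

variable {G : Type*} [Group G]

/-- The far configuration implies `Four P`. -/
theorem four_of_far [Finite G] {P : Set (Subgroup G)} (h : Fam P) (hb1 : HB1 P)
    {A B D : Subgroup G} (hA : A ∈ P) (hB : B ∈ P) (hD : D ∈ P) (hDA : Nb D A) (hAB : Cm A B)
    (hBD : ¬ Ap D B) : Four P := by
  obtain ⟨R, hR, hRA, hAR, hRD, hRB, hk, hkne, _, _⟩ := far_lemma h hb1 hA hB hD hDA hAB hBD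
  have hG : CaseBTwo.Geo P := CaseBTwo.geo_of_nb h ⟨D, hD, A, hA, hDA⟩
  have T : TwoLines P D R B := by
    refine ⟨hD, hR, hB, hRD.symm, hRB.symm, ?_⟩
    intro x hx y hy hx1 hy1
    rw [inv_Om hx, inv_Om hy]
    exact ⟨hk x hx y hy, hkne x hx y hy hx1 hy1⟩
  obtain ⟨h4, h16, _⟩ := CaseBFinal.card_B hG T
  have h4' : (Om R).ncard = 4 := by
    rw [← h4, ← Nat.card_coe_set_eq]
    rfl
  refine { toGeo := hG, card := ?_, card_om := ?_ }
  · intro C hC
    obtain ⟨g, rfl⟩ := h.trans R hR C hC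
    rw [← h16]
    refine (Nat.card_congr ⟨fun x => ⟨g * x * g⁻¹, conj_mem_cj x.2⟩,
      fun y => ⟨g⁻¹ * y * g, mem_cj.1 y.2⟩, ?_, ?_⟩).symm
    · intro x
      apply Subtype.ext
      simp [mul_assoc]
    · intro y
      apply Subtype.ext
      simp only [mul_assoc, _root_.mul_inv_cancel_left, _root_.mul_inv_cancel, _root_.mul_one]
  · intro C hC
    rw [ncard_Om h hC hR, h4']

/-- The statement of `torus`. -/
def HTorus (P : Set (Subgroup G)) : Prop :=
  ∀ X ∈ P, ∀ D ∈ P, Nb X D → ∃ τ : G, (∀ g : G, (∀ x ∈ X, g * x = x * g) →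
    (∀ d ∈ D, g * d = d * g) → g * τ = τ * g) ∧ cj τ X = X ∧ cj τ D = D ∧
    ∀ x ∈ Om X, x ≠ 1 → τ * x * τ⁻¹ ≠ x

/-- The statement of `twin`. -/
def HTwin (P : Set (Subgroup G)) : Prop :=
  ∀ A ∈ P, ∀ D ∈ P, ∀ R ∈ P, Nb A D → Nb R D → Cm A R → ∀ p ∈ Om R, ∃ a ∈ Om A,
    (p ≠ 1 → a ≠ 1) ∧ ∀ d ∈ D, d * (a * p) = (a * p) * d

/-- Case b, modulo (b1) and (b5). -/
theorem no_comm_of [Finite G] {P : Set (Subgroup G)} (h : Fam P)
    (hloc : ∀ A ∈ P, ∃ Q, CaseBLoc.Loc P A Q) (hb1 : HB1 P)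
    (htorus : Four P → HTorus P) (htwin : Four P → HTwin P) {A B : Subgroup G} (hA : A ∈ P)
    (hB : B ∈ P) (hne : A ≠ B) : ¬ Cm A B := by
  intro hAB
  obtain ⟨A, hA, B, hB, D, hD, hne, hAB, hDA, hBD⟩ := CaseB2.b2 h hloc hb1 hA hB hne hAB
  have h4 := four_of_far h hb1 hA hB hD hDA hAB hBD
  exact b6 h4 hb1 hA hB hD hDA hAB hBD (htorus h4 A hA D hD hDA.symm)
    (fun R hR hRD hAR => htwin h4 A hA D hD R hR hDA.symm hRD hAR)

end Cfsg.Agent.TIAbelian.CaseBCore
end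

-- part: TIAbelian/CaseB1
section
set_option autoImplicit false
set_option maxHeartbeats 400000

namespace Cfsg.Agent.TIAbelian.CaseB1

open scoped commutatorElement
open Cfsg.Agent.TIAbelian.PairBase hiding TIFam
open Cfsg.Agent.TIAbelian.PairOmega
open Cfsg.Agent.TIAbelian.CaseBBase
open Cfsg.Agent.TIAbelian.CaseBGeo
open Cfsg.Agent.TIAbelian.CaseBLoc
open Cfsg.Agent.TIAbelian.CaseBK
open Cfsg.Agent.TIAbelian.PairGeo (Om mem_Om one_mem_Om inv_Om conj_mem_Om_cj mem_Om_cj)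

variable {G : Type*} [Group G] {P : Set (Subgroup G)}

theorem card_eq (h : Fam P) {A B : Subgroup G} (hA : A ∈ P) (hB : B ∈ P) :
    Nat.card A = Nat.card B := by
  obtain ⟨g, rfl⟩ := h.trans A hA B hB
  exact Nat.card_congr (A.equivMapOfInjective _ (MulAut.conj g).injective).toEquiv

/-- (S1782) members of the family contained in a common 2-group commute -/
theorem comm2 [Finite G] (h : Fam P) {S : Subgroup G} (hS : IsPGroup 2 S) {B C : Subgroup G}
    (hB : B ∈ P) (hC : C ∈ P) (hBS : B ≤ S) (hCS : C ≤ S) : Cm B C := by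
  classical
  have : Fact (Nat.Prime 2) := ⟨Nat.prime_two⟩
  by_cases hne : B = C
  · subst hne; exact h.comm B hB
  have hinj : Function.Injective (Subgroup.map S.subtype) :=
    Subgroup.map_injective S.subtype_injective
  have key := S1782.result hS {R : Subgroup S | R.map S.subtype ∈ P} (by
    intro s R hR
    show (R.map (MulAut.conj s).toMonoidHom).map S.subtype ∈ P
    have h1 : (R.map (MulAut.conj s).toMonoidHom).map S.subtype = cj (s : G) (R.map S.subtype) := by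
      unfold cj
      rw [Subgroup.map_map, Subgroup.map_map]
      congr 1
    rw [h1]
    exact h.conj _ hR s) (by
    intro R hR hF
    obtain ⟨c, hc, hcc⟩ := h.nonelem _ hR
    obtain ⟨r, hr, rfl⟩ := hc
    apply hcc
    have h1 := Lib.FrattiniPGroup.pow_mem_frattini (hS.to_subgroup R) (⟨r, hr⟩ : R)
    rw [hF, Subgroup.mem_bot] at h1
    have h2 : r ^ 2 = 1 := congrArg Subtype.val h1
    rw [← map_mul, ← pow_two, h2, map_one]) (by
    intro R hR T hT
    have h1 := card_eq h hR hT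
    rwa [Nat.card_congr (R.equivMapOfInjective _ S.subtype_injective).symm.toEquiv,
      Nat.card_congr (T.equivMapOfInjective _ S.subtype_injective).symm.toEquiv] at h1) (by
    intro R hR T hT
    by_cases h1 : R ⊓ T = ⊥
    · right; exact h1
    · left
      obtain ⟨⟨x, hxR, hxT⟩, hx1⟩ := Subgroup.ne_bot_iff_exists_ne_one.mp h1
      apply hinj
      refine h.ti _ hR _ hT (x : G) ⟨x, hxR, rfl⟩ ⟨x, hxT, rfl⟩ ?_
      intro h0
      exact hx1 (Subtype.ext (Subtype.ext h0)))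
    (B.subgroupOf S) (by
      show (B.subgroupOf S).map S.subtype ∈ P
      rw [Subgroup.subgroupOf_map_subtype, inf_eq_left.mpr hBS]; exact hB)
    (C.subgroupOf S) (by
      show (C.subgroupOf S).map S.subtype ∈ P
      rw [Subgroup.subgroupOf_map_subtype, inf_eq_left.mpr hCS]; exact hC) (by
      intro h1
      apply hne
      have h2 := congrArg (Subgroup.map S.subtype) h1
      rwa [Subgroup.subgroupOf_map_subtype, Subgroup.subgroupOf_map_subtype,
        inf_eq_left.mpr hBS, inf_eq_left.mpr hCS] at h2)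
  intro b hb c hc
  have h1 : ⁅(⟨b, hBS hb⟩ : S), (⟨c, hCS hc⟩ : S)⁆ ∈ ⁅B.subgroupOf S, C.subgroupOf S⁆ :=
    Subgroup.commutator_mem_commutator (Subgroup.mem_subgroupOf.mpr hb)
      (Subgroup.mem_subgroupOf.mpr hc)
  rw [key, Subgroup.mem_bot, commutatorElement_eq_one_iff_mul_comm] at h1
  exact congrArg Subtype.val h1

/-- the 2-group `Q B` -/
theorem isPGroup_sup [Finite G] (h : Fam P) {A Q : Subgroup G} (hl : Loc P A Q) {B : Subgroup G}
    (hB : B ∈ P) (hn : ∀ b ∈ B, cj b A = A) : IsPGroup 2 (Q ⊔ B : Subgroup G) := by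
  have : Fact (Nat.Prime 2) := ⟨Nat.prime_two⟩
  have hB2 : IsPGroup 2 B := by
    intro b
    obtain ⟨n, hn⟩ := h.two B hB b b.2
    exact ⟨n, Subtype.ext hn⟩
  refine hl.two.to_sup_of_normal_left' hB2 ?_
  intro b hb
  rw [Subgroup.mem_normalizer_iff_map_conj_eq]
  exact hl.norm b (hn b hb)

/-- (b0) -/
theorem b0 [Finite G] (h : Fam P) {A Q : Subgroup G} (hA : A ∈ P) (hl : Loc P A Q)
    {B : Subgroup G} (hB : B ∈ P) (hAB : Cm A B) : ∀ e ∈ Om B, e ∈ Q := by
  intro e he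
  by_contra heQ
  -- elements of `B` normalise `A`
  have hnA : ∀ b ∈ B, cj b A = A := by
    intro b hb
    obtain ⟨v, hv, hv1⟩ := exists_ne_one h hA
    exact h.norm_of_comm hA hv.1 hv1 (hAB v hv.1 b hb).symm
  -- an involution `y` of `B` in `Q`
  obtain ⟨y, hyB, hyQ, hy1, hyy⟩ : ∃ y ∈ B, y ∈ Q ∧ y ≠ 1 ∧ y * y = 1 := by
    obtain ⟨c, hc, hcc⟩ := h.nonelem B hB
    obtain ⟨n, hn⟩ := h.two B hB c hc
    obtain ⟨k, hk1, hk2⟩ := two_descend c n hn (fun t => t * t = 1) (by simp) hcc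
    exact ⟨_, B.mul_mem (B.pow_mem hc _) (B.pow_mem hc _),
      hl.sq B hB hnA _ (B.pow_mem hc _), hk1, hk2⟩
  obtain ⟨x, hxA, hx1, hxo, hex⟩ := hl.bs e (hnA e he.1) he.2 heQ
  have hxQ := hl.norm x hxA
  have hei : e⁻¹ = e := inv_Om he
  have hxe : e * x⁻¹ * e⁻¹ = x := by
    have h1 := congrArg (fun t => t⁻¹) hex
    simpa only [mul_assoc, _root_.mul_inv_rev, _root_.inv_inv] using h1
  have hey : e * y = y * e := h.comm B hB _ he.1 _ hyB
  set g : G := x * y * x⁻¹ with hg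
  have hgQ : g ∈ Q := conj_mem_of_cj hxQ hyQ
  have hgg : g * g = 1 := by
    have h1 : g * g = x * (y * y) * x⁻¹ := by rw [hg]; group
    rw [h1, hyy]; group
  have hgi : g⁻¹ = g := inv_eq_of_mul_eq_one_right hgg
  have hge : e * g * e⁻¹ = x⁻¹ * y * x := by
    calc e * g * e⁻¹ = (e * x * e⁻¹) * (e * y * e⁻¹) * (e * x⁻¹ * e⁻¹) := by rw [hg]; group
      _ = x⁻¹ * y * x := by rw [hex, hxe, hey, mul_inv_cancel_right]
  -- `B` and `B^g` commute
  have hcm : Cm B (cj g B) := by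
    have hS := isPGroup_sup h hl hB hnA
    refine comm2 h hS hB (h.conj B hB g) le_sup_right ?_
    rintro _ ⟨b, hb, rfl⟩
    show g * b * g⁻¹ ∈ Q ⊔ B
    exact mul_mem (mul_mem (Subgroup.mem_sup_left hgQ) (Subgroup.mem_sup_right hb))
      (inv_mem (Subgroup.mem_sup_left hgQ))
  have he1 : e * (g * e * g⁻¹) = (g * e * g⁻¹) * e := hcm e he.1 _ (conj_mem_cj he.1)
  -- `c = g (e g e⁻¹)⁻¹`
  set g' : G := e * g * e⁻¹ with hg'
  have hgg' : g' * g' = 1 := by
    have h1 : g' * g' = e * (g * g) * e⁻¹ := by rw [hg']; group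
    rw [h1, hgg]; group
  have hgi' : g'⁻¹ = g' := inv_eq_of_mul_eq_one_right hgg'
  have heg' : e * g' * e⁻¹ = g := by
    have h1 : e * g' * e⁻¹ = (e * e) * g * (e * e)⁻¹ := by rw [hg']; group
    rw [h1, he.2]; group
  -- `c := g * g'` commutes with `e`
  have hc1 : g * g' = g * e * g⁻¹ * e := by
    have h1 : g * g' = g * e * g * e⁻¹ := by rw [hg']; group
    rw [h1, hei, hgi]
  have hc2 : e * (g * g') = (g * g') * e := by
    rw [hc1]
    calc e * (g * e * g⁻¹ * e) = (e * (g * e * g⁻¹)) * e := by group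
      _ = g * e * g⁻¹ * e * e := by rw [he1]
  have hc3 : g' * g = g * g' := by
    have h1 : e * (g * g') * e⁻¹ = g' * g := by
      calc e * (g * g') * e⁻¹ = (e * g * e⁻¹) * (e * g' * e⁻¹) := by group
        _ = g' * g := by rw [heg', ← hg']
    rw [← h1, hc2, mul_inv_cancel_right]
  -- so `y` commutes with `x² y x⁻²`
  have hap : Ap B (cj (x * x) B) := by
    refine ⟨y, hyB, x * x * y * (x * x)⁻¹, conj_mem_cj hyB, hy1, ?_, ?_⟩
    · intro h0
      apply hy1
      have := congrArg (fun t => (x * x)⁻¹ * t * (x * x)) h0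
      simpa [mul_assoc] using this
    · have h1 : (x⁻¹ * y * x) * (x * y * x⁻¹) = (x * y * x⁻¹) * (x⁻¹ * y * x) := by
        rw [← hge]; exact hc3
      have h2 := congrArg (fun t => x * t * x⁻¹) h1
      have h3 : x * ((x⁻¹ * y * x) * (x * y * x⁻¹)) * x⁻¹ = y * (x * x * y * (x * x)⁻¹) := by group
      have h4 : x * ((x * y * x⁻¹) * (x⁻¹ * y * x)) * x⁻¹ = (x * x * y * (x * x)⁻¹) * y := by group
      rw [← h3, ← h4]; exact h2
  have hcomm := comm_om h hB (h.conj B hB (x * x)) hap he (conj_mem_Om_cj (g := x * x) he)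
  -- `x² e x⁻² = x⁴ e`
  have h4 : x * x * e * (x * x)⁻¹ = x * x * x * x * e := by
    have h5 : e * (x * x)⁻¹ = (x * x) * e := by
      have h6 : e * (x * x)⁻¹ * e⁻¹ = x * x := by
        calc e * (x * x)⁻¹ * e⁻¹ = (e * x⁻¹ * e⁻¹) * (e * x⁻¹ * e⁻¹) := by group
          _ = x * x := by rw [hxe]
      calc e * (x * x)⁻¹ = (e * (x * x)⁻¹ * e⁻¹) * e := by group
        _ = (x * x) * e := by rw [h6]
    rw [mul_assoc (x * x) e, h5]; group
  rw [h4] at hcomm
  -- so `e` commutes with `x⁴`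
  have h5 : e * (x * x * x * x) * e⁻¹ = x * x * x * x := by
    have h6 : e * (x * x * x * x) = x * x * x * x * e := by
      have h7 : e * (x * x * x * x) * e = x * x * x * x * e * e := by
        rw [mul_assoc]; exact hcomm
      exact mul_right_cancel h7
    rw [h6, mul_inv_cancel_right]
  have h6 : e * (x * x * x * x) * e⁻¹ = (x * x * x * x)⁻¹ := by
    calc e * (x * x * x * x) * e⁻¹ = (e * x * e⁻¹) * (e * x * e⁻¹) * (e * x * e⁻¹) * (e * x * e⁻¹) := by
          group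
      _ = (x * x * x * x)⁻¹ := by rw [hex]; group
  have h7 : x ^ 8 = 1 := by
    have h8 : (x * x * x * x) * (x * x * x * x) = 1 := by
      have h9 : x * x * x * x = (x * x * x * x)⁻¹ := h5.symm.trans h6
      calc (x * x * x * x) * (x * x * x * x) = (x * x * x * x) * (x * x * x * x)⁻¹ := by rw [← h9]
        _ = 1 := mul_inv_cancel _
    calc x ^ 8 = (x * x * x * x) * (x * x * x * x) := by
          simp only [pow_succ, pow_zero, one_mul, mul_assoc]
      _ = 1 := h8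
  have h8 : orderOf x ∣ 8 := orderOf_dvd_of_pow_eq_one h7
  have h9 : Nat.Coprime (orderOf x) 8 := by
    have : Nat.Coprime (orderOf x) (2 ^ 3) :=
      Nat.Coprime.pow_right 3 (Nat.coprime_two_right.mpr hxo)
    simpa using this
  have h10 : orderOf x = 1 := Nat.Coprime.eq_one_of_dvd h9 h8
  exact hx1 (orderOf_eq_one_iff.mp h10)

/-- (b1) -/
theorem b1 [Finite G] (h : Fam P) (hloc : ∀ A ∈ P, ∃ Q, Loc P A Q) :
    ∀ A ∈ P, ∀ B ∈ P, ∀ C ∈ P, Cm A B → Cm A C → Ap B C := by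
  intro A hA B hB C hC hAB hAC
  obtain ⟨Q, hl⟩ := hloc A hA
  have hnA : ∀ b ∈ C, cj b A = A := by
    intro b hb
    obtain ⟨v, hv, hv1⟩ := exists_ne_one h hA
    exact h.norm_of_comm hA hv.1 hv1 (hAC v hv.1 b hb).symm
  have hS := isPGroup_sup h hl hC hnA
  set S : Subgroup G := Q ⊔ C with hSdef
  set V : Subgroup G := Subgroup.closure {x : G | ∃ D ∈ P, D ≤ S ∧ x ∈ D} with hVdef
  have hgen : ∀ x ∈ {x : G | ∃ D ∈ P, D ≤ S ∧ x ∈ D}, ∀ y ∈ {x : G | ∃ D ∈ P, D ≤ S ∧ x ∈ D},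
      x * y = y * x := by
    rintro x ⟨D, hD, hDS, hx⟩ y ⟨E, hE, hES, hy⟩
    exact comm2 h hS hD hE hDS hES x hx y hy
  have hV : ∀ x ∈ V, ∀ y ∈ V, x * y = y * x := by
    intro x hx y hy
    have h1 := Subgroup.isMulCommutative_closure hgen
    exact congrArg Subtype.val (h1.is_comm.comm ⟨x, hx⟩ ⟨y, hy⟩)
  have hCV : C ≤ V := fun x hx => Subgroup.subset_closure ⟨C, hC, le_sup_right, hx⟩
  refine (ap_of_normV h hV hC hCV hB ?_).symm
  intro u hu
  have huS : u ∈ S := Subgroup.mem_sup_left (b0 h hA hl hB hAB u hu)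
  have hle : ∀ w ∈ S, ∀ y ∈ V, w * y * w⁻¹ ∈ V := by
    intro w hw y hy
    induction hy using Subgroup.closure_induction with
    | mem y hy =>
      obtain ⟨D, hD, hDS, hy⟩ := hy
      apply Subgroup.subset_closure
      refine ⟨cj w D, h.conj D hD w, ?_, conj_mem_cj hy⟩
      rintro _ ⟨d, hd, rfl⟩
      exact mul_mem (mul_mem hw (hDS hd)) (inv_mem hw)
    | one => simp [V.one_mem]
    | mul y z _ _ hy hz =>
      have : w * (y * z) * w⁻¹ = (w * y * w⁻¹) * (w * z * w⁻¹) := by simp only [mul_assoc, _root_.inv_mul_cancel_left]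
      rw [this]
      exact V.mul_mem hy hz
    | inv y _ hy =>
      have : w * y⁻¹ * w⁻¹ = (w * y * w⁻¹)⁻¹ := by simp only [mul_assoc, _root_.mul_inv_rev, _root_.inv_inv]
      rw [this]
      exact V.inv_mem hy
  ext x
  rw [mem_cj]
  constructor
  · intro hx
    have := hle u huS _ hx
    simpa [mul_assoc] using this
  · intro hx
    have := hle u⁻¹ (inv_mem huS) _ hx
    simpa [mul_assoc] using this

end Cfsg.Agent.TIAbelian.CaseB1
end

-- part: TIAbelian/CaseB5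
section
set_option autoImplicit false

namespace Cfsg.Agent.TIAbelian.CaseB5

open Cfsg.Agent.TIAbelian.PairBase hiding TIFam
open Cfsg.Agent.TIAbelian.PairOmega
open Cfsg.Agent.TIAbelian.CaseBBase
open Cfsg.Agent.TIAbelian.CaseBGeo
open Cfsg.Agent.TIAbelian.CaseB5Def
open Cfsg.Agent.TIAbelian.PairGeo (Om mem_Om one_mem_Om inv_Om conj_mem_Om_cj mem_Om_cj)

variable {G : Type*} [Group G]

section

variable {P : Set (Subgroup G)} (h : Four P)
include h

theorem card_OmS {C : Subgroup G} (hC : C ∈ P) :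
    Nat.card ↥(CaseBTwo.OmS h.toGeo hC) = 4 := h.card_om C hC

/-- A homomorphism from a member to an `Ω₁` whose kernel has exponent two is onto. -/
theorem surj_of_ker [Finite G] {C D : Subgroup G} (hC : C ∈ P) (hD : D ∈ P)
    (φ : ↥D →* ↥(CaseBTwo.OmS h.toGeo hC)) (hφ : ∀ d : ↥D, φ d = 1 → (d : G) * d = 1) :
    Function.Surjective φ := by
  have h1 : Nat.card ↥φ.ker ≤ 4 := by
    rw [← card_OmS h hD]
    refine Nat.card_le_card_of_injective
      (fun x : ↥φ.ker => (⟨((x : ↥D) : G), (x : ↥D).2, hφ _ x.2⟩ : ↥(CaseBTwo.OmS h.toGeo hD))) ?_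
    intro x y hxy
    apply Subtype.ext
    apply Subtype.ext
    exact congrArg (fun t : ↥(CaseBTwo.OmS h.toGeo hD) => (t : G)) hxy
  have h2 := φ.ker.card_mul_index
  rw [Subgroup.index_ker, h.card D hD] at h2
  have h3 : Nat.card ↥φ.range ≤ 4 := by
    rw [← card_OmS h hC]
    exact Subgroup.card_le_card_group _
  have h4 : Nat.card ↥φ.range = 4 := by
    have h5 : Nat.card ↥φ.ker * Nat.card ↥φ.range ≤ 4 * Nat.card ↥φ.range :=
      Nat.mul_le_mul_right _ h1
    omega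
  rw [← MonoidHom.range_eq_top]
  apply Subgroup.eq_top_of_card_eq
  rw [h4, card_OmS h hC]

/-- every element of `Ω₁(D)` is a square in `D` -/
theorem exists_sq [Finite G] {D : Subgroup G} (hD : D ∈ P) {s : G} (hs : s ∈ Om D) :
    ∃ d ∈ D, d * d = s := by
  let φ : ↥D →* ↥(CaseBTwo.OmS h.toGeo hD) := MonoidHom.mk'
    (fun d => ⟨(d : G) * d, h.sq_Om hD d.2⟩) (by
      intro a b
      apply Subtype.ext
      show (a : G) * b * (a * b) = a * a * (b * b)
      have e1 : (a : G) * b * (a * b) = a * (b * a) * b := by simp only [mul_assoc]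
      rw [e1, h.comm D hD b b.2 a a.2]
      simp only [mul_assoc])
  obtain ⟨d, hd⟩ := surj_of_ker h hD hD φ
    (fun d hd => congrArg (fun t : ↥(CaseBTwo.OmS h.toGeo hD) => (t : G)) hd) ⟨s, hs⟩
  exact ⟨d, d.2, congrArg (fun t : ↥(CaseBTwo.OmS h.toGeo hD) => (t : G)) hd⟩

/-- `d ↦ [d, x]` maps `D` onto `Ω₁(D)` for `x ∈ Ω₁(X)`, `x ≠ 1`. -/
theorem exists_brak [Finite G] {X D : Subgroup G} (hX : X ∈ P) (hD : D ∈ P) (hn : Nb X D) {x : G}
    (hx : x ∈ Om X) (hx1 : x ≠ 1) {s : G} (hs : s ∈ Om D) : ∃ d ∈ D, d * x * d⁻¹ * x⁻¹ = s := by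
  let φ : ↥D →* ↥(CaseBTwo.OmS h.toGeo hD) := MonoidHom.mk'
    (fun d => ⟨(d : G) * x * (d : G)⁻¹ * x⁻¹, h.brak X hX D hD hn x hx d d.2⟩) (by
      intro a b
      apply Subtype.ext
      show (a * b : G) * x * (a * b : G)⁻¹ * x⁻¹ = a * x * (a : G)⁻¹ * x⁻¹ * (b * x * (b : G)⁻¹ * x⁻¹)
      have hb := h.brak X hX D hD hn x hx b b.2
      have ha := h.brak X hX D hD hn x hx a a.2
      have e1 : (a * b : G) * x * (a * b : G)⁻¹ * x⁻¹ =
          (a * (b * x * (b : G)⁻¹ * x⁻¹)) * (x * (a : G)⁻¹ * x⁻¹) := by simp only [mul_assoc, _root_.mul_inv_rev, _root_.inv_mul_cancel_left]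
      rw [e1, h.comm D hD a a.2 _ hb.1]
      have e2 : (b * x * (b : G)⁻¹ * x⁻¹ * a) * (x * (a : G)⁻¹ * x⁻¹) =
          (b * x * (b : G)⁻¹ * x⁻¹) * (a * x * (a : G)⁻¹ * x⁻¹) := by simp only [mul_assoc]
      rw [e2, h.comm D hD _ hb.1 _ ha.1])
  have hker : ∀ d : ↥D, φ d = 1 → (d : G) * d = 1 := by
    intro d hd
    by_contra h0
    exact h.brak_ne hX hD hn hx.1 hx1 d.2 h0
      (congrArg (fun t : ↥(CaseBTwo.OmS h.toGeo hD) => (t : G)) hd)
  obtain ⟨d, hd⟩ := surj_of_ker h hD hD φ hker ⟨s, hs⟩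
  exact ⟨d, d.2, congrArg (fun t : ↥(CaseBTwo.OmS h.toGeo hD) => (t : G)) hd⟩

/-- The swap. -/
theorem exists_swap [Finite G] {X D : Subgroup G} (hX : X ∈ P) (hD : D ∈ P) (hn : Nb X D) {a : G}
    (ha : a ∈ X) (haa : a * a ≠ 1) : ∃ w : G,
      (∀ g : G, (∀ x ∈ X, g * x = x * g) → (∀ d ∈ D, g * d = d * g) → g * w = w * g) ∧
      cj w X = D ∧ cj w D = X ∧ (∀ x ∈ Om X, w * x * w⁻¹ ∈ Om D) ∧
      (∀ x ∈ Om X, a * (w * x * w⁻¹) * a⁻¹ * (w * x * w⁻¹)⁻¹ = x) ∧
      (∀ y ∈ Om D, w * y * w⁻¹ = a * y * a⁻¹ * y⁻¹) := by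
  obtain ⟨y₀, hy₀, hy₀1⟩ := CaseBTwo.exists_ne_Om h.toGeo hD
  set x₀ := a * y₀ * a⁻¹ * y₀⁻¹ with hx₀def
  have hx₀ : x₀ ∈ Om X := h.brak D hD X hX hn.symm y₀ hy₀ a ha
  have hx₀1 : x₀ ≠ 1 := h.brak_ne hD hX hn.symm hy₀.1 hy₀1 ha haa
  obtain ⟨d, hd, hdx⟩ := exists_brak h hX hD hn hx₀ hx₀1 hy₀
  have hdd : d * d ≠ 1 := by
    intro h0
    apply hy₀1
    rw [← hdx, ← h.comm_om X hX D hD hn x₀ hx₀ d ⟨hd, h0⟩]
    simp
  -- `cj a D = cj d X`
  have e1 : d * x₀ * d⁻¹ = a * y₀ * a⁻¹ := by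
    have e2 : d * x₀ * d⁻¹ = y₀ * x₀ := by
      rw [← hdx]
      simp only [mul_assoc, _root_.inv_mul_cancel, _root_.mul_one]
    rw [e2, ← h.comm_om X hX D hD hn x₀ hx₀ y₀ hy₀, hx₀def]
    simp only [mul_assoc, _root_.inv_mul_cancel, _root_.mul_one]
  have hcj : cj a D = cj d X := by
    refine h.ti _ (h.conj D hD a) _ (h.conj X hX d) (a * y₀ * a⁻¹) (conj_mem_cj hy₀.1) ?_ ?_
    · rw [← e1]
      exact conj_mem_cj hx₀.1
    · intro h0
      apply hy₀1
      have := congrArg (fun t => a⁻¹ * t * a) h0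
      simpa [mul_assoc] using this
  have haD : cj (a * a) D = D :=
    (h.norm_iff D hD X hX hn.symm (a * a) (X.mul_mem ha ha)).2 (h.exp4 X hX a ha)
  have hdX : cj (d * d) X = X :=
    (h.norm_iff X hX D hD hn (d * d) (D.mul_mem hd hd)).2 (h.exp4 D hD d hd)
  have hwX : cj (a * d * a) X = D := by
    rw [← cj_cj, cj_self ha, ← cj_cj, ← hcj, cj_cj, haD]
  have hwD : cj (a * d * a) D = X := by
    rw [← cj_cj, hcj, ← cj_cj, cj_cj d d X, hdX, cj_self ha]
  have hne : X ≠ D := h.nb_ne hX hn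
  have hint : ∀ g : G, g ∈ X → g ∈ D → g = 1 := by
    intro g hg1 hg2
    by_contra h0
    exact hne (h.ti X hX D hD g hg1 hg2 h0)
  -- action on `Om X`
  have hA : ∀ x ∈ Om X, a * d * a * x * (a * d * a)⁻¹ = d * x * d⁻¹ * x⁻¹ ∧
      a * (d * x * d⁻¹ * x⁻¹) * a⁻¹ * (d * x * d⁻¹ * x⁻¹)⁻¹ = x := by
    intro x hx
    set y := d * x * d⁻¹ * x⁻¹ with hydef
    have hy : y ∈ Om D := h.brak X hX D hD hn x hx d hd
    have hay := h.brak D hD X hX hn.symm y hy a ha
    have hax : a * x = x * a := h.comm X hX a ha x hx.1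
    have hxy : x * y = y * x := h.comm_om X hX D hD hn x hx y hy
    have hyx : d * x * d⁻¹ = y * x := by
      rw [hydef]
      simp [mul_assoc]
    -- `w x w⁻¹ = [a, y] y x`
    have f1 : a * d * a * x * (a * d * a)⁻¹ = (a * y * a⁻¹ * y⁻¹) * x * y := by
      have g1 : a * d * a * x * (a * d * a)⁻¹ = a * (d * (a * x * a⁻¹) * d⁻¹) * a⁻¹ := by
        simp only [mul_assoc, _root_.mul_inv_rev]
      rw [g1, hax, mul_inv_cancel_right, hyx]
      have g2 : a * (y * x) * a⁻¹ = (a * y * a⁻¹) * (a * x * a⁻¹) := by simp [mul_assoc]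
      rw [g2, hax, mul_inv_cancel_right]
      have g3 : a * y * a⁻¹ * y⁻¹ * x * y = a * y * a⁻¹ * (y⁻¹ * (x * y)) := by
        simp only [mul_assoc]
      rw [g3, hxy]
      simp [mul_assoc]
    have f2 : a * d * a * x * (a * d * a)⁻¹ ∈ D := by
      rw [← hwX]
      exact conj_mem_cj hx.1
    have f3 : (a * y * a⁻¹ * y⁻¹) * x = 1 := by
      apply hint
      · exact X.mul_mem hay.1 hx.1
      · have : (a * y * a⁻¹ * y⁻¹) * x = (a * d * a * x * (a * d * a)⁻¹) * y⁻¹ := by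
          rw [f1]
          simp only [mul_assoc, _root_.mul_inv_cancel, _root_.mul_one]
        rw [this]
        exact D.mul_mem f2 (D.inv_mem hy.1)
    refine ⟨?_, ?_⟩
    · rw [f1, f3, one_mul]
    · have := eq_inv_of_mul_eq_one_left f3
      rw [this, inv_Om hx]
  -- action on `Om D`
  have hB : ∀ y ∈ Om D, a * d * a * y * (a * d * a)⁻¹ = a * y * a⁻¹ * y⁻¹ := by
    intro y hy
    set x := a * y * a⁻¹ * y⁻¹ with hxdef
    have hx : x ∈ Om X := h.brak D hD X hX hn.symm y hy a ha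
    have hxy : x * y = y * x := h.comm_om X hX D hD hn x hx y hy
    set v := d * x * d⁻¹ * x⁻¹ with hvdef
    have hv : v ∈ Om D := h.brak X hX D hD hn x hx d hd
    have hxv : x * v = v * x := h.comm_om X hX D hD hn x hx v hv
    have hav := h.brak D hD X hX hn.symm v hv a ha
    have hax : a * x = x * a := h.comm X hX a ha x hx.1
    have hdy : d * y = y * d := h.comm D hD d hd y hy.1
    have hvy : v * y = y * v := h.comm D hD v hv.1 y hy.1
    have hyx : a * y * a⁻¹ = x * y := by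
      rw [hxdef]
      simp [mul_assoc]
    have hvx : d * x * d⁻¹ = v * x := by
      rw [hvdef]
      simp [mul_assoc]
    have f1 : a * d * a * y * (a * d * a)⁻¹ = (a * v * a⁻¹ * v⁻¹) * (v * y) := by
      have g1 : a * d * a * y * (a * d * a)⁻¹ = a * (d * (a * y * a⁻¹) * d⁻¹) * a⁻¹ := by
        simp only [mul_assoc, _root_.mul_inv_rev]
      have g2 : d * (x * y) * d⁻¹ = (d * x * d⁻¹) * (d * y * d⁻¹) := by simp [mul_assoc]
      have g3 : a * (v * x * y) * a⁻¹ = (a * v * a⁻¹) * (a * x * a⁻¹) * (a * y * a⁻¹) := by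
        simp only [mul_assoc, _root_.inv_mul_cancel_left]
      rw [g1, hyx, g2, hdy, mul_inv_cancel_right, hvx, g3, hax, mul_inv_cancel_right, hyx]
      have g4 : a * v * a⁻¹ * x * (x * y) = a * v * a⁻¹ * ((x * x) * y) := by
        simp only [mul_assoc]
      rw [g4, hx.2, one_mul]
      simp only [mul_assoc, _root_.inv_mul_cancel_left]
    have f2 : a * d * a * y * (a * d * a)⁻¹ ∈ X := by
      rw [← hwD]
      exact conj_mem_cj hy.1
    have f3 : v * y = 1 := by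
      apply hint
      · have : v * y = (a * v * a⁻¹ * v⁻¹)⁻¹ * (a * d * a * y * (a * d * a)⁻¹) := by
          rw [f1]
          simp only [mul_assoc, _root_.mul_inv_rev, _root_.inv_inv, _root_.inv_mul_cancel_left, _root_.mul_inv_cancel_left]
        rw [this]
        exact X.mul_mem (X.inv_mem hav.1) f2
      · exact D.mul_mem hv.1 hy.1
    have f4 : v = y := by
      have := eq_inv_of_mul_eq_one_left f3
      rw [this, inv_Om hy]
    rw [f1, f3, mul_one, f4]
  refine ⟨a * d * a, ?_, hwX, hwD, ?_, ?_, hB⟩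
  · intro g hg1 hg2
    have e1 := hg1 a ha
    have e2 := hg2 d hd
    calc g * (a * d * a) = (g * a) * d * a := by simp only [mul_assoc]
      _ = a * (g * d) * a := by rw [e1]; simp only [mul_assoc]
      _ = a * d * (g * a) := by rw [e2]; simp only [mul_assoc]
      _ = a * d * a * g := by rw [e1]; simp only [mul_assoc]
  · intro x hx
    rw [(hA x hx).1]
    exact h.brak X hX D hD hn x hx d hd
  · intro x hx
    rw [(hA x hx).1]
    exact (hA x hx).2

/-- The torus of the line `X D`. -/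
theorem torus [Finite G] {X D : Subgroup G} (hX : X ∈ P) (hD : D ∈ P) (hn : Nb X D) :
    ∃ τ : G, (∀ g : G, (∀ x ∈ X, g * x = x * g) → (∀ d ∈ D, g * d = d * g) → g * τ = τ * g) ∧
      cj τ X = X ∧ cj τ D = D ∧ ∀ x ∈ Om X, x ≠ 1 → τ * x * τ⁻¹ ≠ x := by
  -- two elements of `X` in different cosets
  obtain ⟨s, hs, hs1⟩ := CaseBTwo.exists_ne_Om h.toGeo hX
  obtain ⟨s', hs', hs'1, hs's⟩ := CaseBGeo.exists_two_Om h.toFam hX s
  obtain ⟨a₁, ha₁, ha₁s⟩ := exists_sq h hX hs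
  obtain ⟨a₂, ha₂, ha₂s⟩ := exists_sq h hX hs'
  obtain ⟨w₁, hw₁, c₁, d₁, -, -, f₁⟩ := exists_swap h hX hD hn ha₁ (by rw [ha₁s]; exact hs1)
  obtain ⟨w₂, hw₂, c₂, d₂, e₂, m₂, -⟩ := exists_swap h hX hD hn ha₂ (by rw [ha₂s]; exact hs'1)
  refine ⟨w₁ * w₂, ?_, ?_, ?_, ?_⟩
  · intro g hg1 hg2
    rw [← mul_assoc, hw₁ g hg1 hg2, mul_assoc, hw₂ g hg1 hg2, mul_assoc]
  · rw [← cj_cj, c₂, d₁]
  · rw [← cj_cj, d₂, c₁]
  · intro x hx hx1 h0
    set y := w₂ * x * w₂⁻¹ with hydef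
    have hy : y ∈ Om D := e₂ x hx
    have hy1 : y ≠ 1 := by
      intro h1
      apply hx1
      have := congrArg (fun t => w₂⁻¹ * t * w₂) (hydef.symm.trans h1)
      simpa [mul_assoc] using this
    have k1 : w₁ * w₂ * x * (w₁ * w₂)⁻¹ = w₁ * y * w₁⁻¹ := by
      rw [hydef]
      simp only [mul_assoc, _root_.mul_inv_rev]
    have k2 : a₁ * y * a₁⁻¹ * y⁻¹ = x := by
      rw [← f₁ y hy, ← k1, h0]
    have k3 : a₂ * y * a₂⁻¹ * y⁻¹ = x := m₂ x hx
    have k4 : a₁ * y * a₁⁻¹ = a₂ * y * a₂⁻¹ := mul_right_cancel (k2.trans k3.symm)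
    have k5 : y * (a₂⁻¹ * a₁) = (a₂⁻¹ * a₁) * y := by
      have := congrArg (fun t => a₂⁻¹ * t * a₁) k4
      simpa only [mul_assoc, _root_.inv_mul_cancel_left, _root_.inv_mul_cancel, _root_.mul_one] using this.symm
    have k6 : (a₂⁻¹ * a₁) * (a₂⁻¹ * a₁) = 1 :=
      h.sq_of_comm hD hX hn.symm hy.1 hy1 (X.mul_mem (X.inv_mem ha₂) ha₁) k5
    apply hs's
    have k7 : (a₂⁻¹ * a₁) * (a₂⁻¹ * a₁) = a₂⁻¹ * a₂⁻¹ * (a₁ * a₁) := by
      have : (a₂⁻¹ * a₁) * (a₂⁻¹ * a₁) = a₂⁻¹ * (a₁ * a₂⁻¹) * a₁ := by simp only [mul_assoc]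
      rw [this, h.comm X hX a₁ ha₁ _ (X.inv_mem ha₂)]
      simp only [mul_assoc]
    rw [k7, ha₁s] at k6
    have k8 : a₂⁻¹ * a₂⁻¹ = s' ⁻¹ := by rw [← ha₂s]; simp
    rw [k8] at k6
    exact (inv_mul_eq_one.1 k6)

/-- The elements of `Ω₁(D)`. -/
theorem fourD {D : Subgroup G} (hD : D ∈ P) {s s' : G} (hs : s ∈ Om D) (hs' : s' ∈ Om D)
    (hs1 : s ≠ 1) (hs'1 : s' ≠ 1) (hss : s ≠ s') {t : G} (ht : t ∈ Om D) :
    t = 1 ∨ t = s ∨ t = s' ∨ t = s * s' := by
  classical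
  have h1 : (({1, s, s', s * s'} : Finset G) : Set G) ⊆ Om D := by
    intro g hg
    simp only [Finset.coe_insert, Finset.coe_singleton, Set.mem_insert_iff,
      Set.mem_singleton_iff] at hg
    rcases hg with rfl | rfl | rfl | rfl
    · exact one_mem_Om D
    · exact hs
    · exact hs'
    · exact h.mul_Om hD hs hs'
  have h3 : s * s' ≠ 1 := by
    intro h0
    apply hss
    rw [eq_inv_of_mul_eq_one_left h0, inv_Om hs']
  have h2 : ({1, s, s', s * s'} : Finset G).card = 4 := by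
    rw [Finset.card_insert_of_notMem, Finset.card_insert_of_notMem,
      Finset.card_insert_of_notMem, Finset.card_singleton]
    · simp [hs1]
    · simp [hss, hs'1]
    · simp [hs1.symm, hs'1.symm, h3.symm]
  have h4 : (({1, s, s', s * s'} : Finset G) : Set G) = Om D := by
    refine Set.eq_of_subset_of_ncard_le h1 ?_ ?_
    · rw [Set.ncard_coe_finset, h2, h.card_om D hD]
    · apply Set.finite_of_ncard_pos
      rw [h.card_om D hD]
      norm_num
  rw [← h4] at ht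
  simpa only [_root_.Finset.coe_insert, _root_.Finset.coe_singleton, _root_.Set.mem_insert_iff, _root_.Set.mem_singleton_iff] using ht

/-- `[e, x] = e²` for all `e ∈ D` is impossible. -/
theorem not_all [Finite G] {X D : Subgroup G} (hX : X ∈ P) (hD : D ∈ P) (hn : Nb X D) {x : G}
    (hx : x ∈ Om X) (hx1 : x ≠ 1) (hall : ∀ e ∈ D, e * x * e⁻¹ * x⁻¹ = e * e) : False := by
  obtain ⟨τ, -, hτX, hτD, hτ⟩ := torus h hX hD hn
  have hx' : τ * x * τ⁻¹ ∈ Om X := by
    have := conj_mem_Om_cj (g := τ) hx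
    rwa [hτX] at this
  apply hτ x hx hx1
  obtain ⟨e, he, hee⟩ := h.nonelem D hD
  refine h.brak_inj hX hD hn hx'.1 hx.1 he hee ?_
  rw [hall e he]
  have h2 : τ⁻¹ * e * τ ∈ D := by
    rw [← mem_cj, hτD]
    exact he
  have h3 := congrArg (fun t => τ * t * τ⁻¹) (hall _ h2)
  simpa only [mul_assoc, _root_.mul_inv_rev, _root_.inv_inv, _root_.mul_right_inj, _root_.mul_inv_cancel_left, _root_.mul_inv_cancel, _root_.mul_one] using h3

/-- `[e, x] = e²` cannot hold for elements of two different nontrivial cosets. -/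
theorem not_two [Finite G] {X D : Subgroup G} (hX : X ∈ P) (hD : D ∈ P) (hn : Nb X D) {x : G}
    (hx : x ∈ Om X) (hx1 : x ≠ 1) {d e : G} (hd : d ∈ D) (he : e ∈ D) (hdd : d * d ≠ 1)
    (hee : e * e ≠ 1) (hde : d * d ≠ e * e) (h1 : d * x * d⁻¹ * x⁻¹ = d * d)
    (h2 : e * x * e⁻¹ * x⁻¹ = e * e) : False := by
  have hmul : ∀ a ∈ D, ∀ b ∈ D, a * x * a⁻¹ * x⁻¹ = a * a → b * x * b⁻¹ * x⁻¹ = b * b →
      a * b * x * (a * b)⁻¹ * x⁻¹ = a * b * (a * b) := by
    intro a ha b hb k1 k2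
    have e1 : a * b * x * (a * b)⁻¹ * x⁻¹ = a * (b * x * b⁻¹ * x⁻¹) * (x * a⁻¹ * x⁻¹) := by
      simp only [mul_assoc, _root_.mul_inv_rev, _root_.inv_mul_cancel_left]
    rw [e1, k2]
    have e2 : a * (b * b) * (x * a⁻¹ * x⁻¹) = a * (b * b) * a⁻¹ * (a * x * a⁻¹ * x⁻¹) := by
      simp only [mul_assoc, _root_.inv_mul_cancel_left]
    rw [e2, k1]
    have e3 : a * (b * b) * a⁻¹ * (a * a) = a * (b * (b * a)) := by simp [mul_assoc]
    rw [e3, h.comm D hD b hb a ha]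
    simp only [mul_assoc]
  refine not_all h hX hD hn hx hx1 ?_
  intro f hf
  have key : ∀ g ∈ D, g * x * g⁻¹ * x⁻¹ = g * g → g * g = f * f → f * x * f⁻¹ * x⁻¹ = f * f := by
    intro g hg k1 k2
    have hu : f * g⁻¹ ∈ Om D := by
      refine ⟨D.mul_mem hf (D.inv_mem hg), ?_⟩
      have e1 : f * g⁻¹ * (f * g⁻¹) = f * (g⁻¹ * f) * g⁻¹ := by simp only [mul_assoc]
      rw [e1, h.comm D hD _ (D.inv_mem hg) f hf]
      have e2 : f * (f * g⁻¹) * g⁻¹ = (f * f) * (g * g)⁻¹ := by simp [mul_assoc]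
      rw [e2, k2, mul_inv_cancel]
    have hux := h.comm_om X hX D hD hn x hx _ hu
    have k3 := hmul _ hu.1 g hg (by rw [hu.2, ← hux]; simp [mul_assoc]) k1
    simpa only [_root_.inv_mul_cancel_right] using k3
  rcases fourD h hD (h.sq_Om hD hd) (h.sq_Om hD he) hdd hee hde (h.sq_Om hD hf) with k | k | k | k
  · exact key 1 D.one_mem (by simp) (by rw [k, one_mul])
  · exact key d hd h1 k.symm
  · exact key e he h2 k.symm
  · refine key (d * e) (D.mul_mem hd he) (hmul d hd e he h1 h2) ?_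
    rw [k]
    have : d * e * (d * e) = d * (e * d) * e := by simp only [mul_assoc]
    rw [this, h.comm D hD e he d hd]
    simp only [mul_assoc]

/-- every `x ∈ Ω₁(X)#` is `x_δ` for some `δ` -/
theorem exists_delta [Finite G] {X D : Subgroup G} (hX : X ∈ P) (hD : D ∈ P) (hn : Nb X D) {x : G}
    (hx : x ∈ Om X) (hx1 : x ≠ 1) : ∃ d ∈ D, d * d ≠ 1 ∧ d * x * d⁻¹ * x⁻¹ = d * d := by
  obtain ⟨s, hs, hs1⟩ := CaseBTwo.exists_ne_Om h.toGeo hD
  obtain ⟨s', hs', hs'1, hs's⟩ := CaseBGeo.exists_two_Om h.toFam hD s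
  obtain ⟨a, ha, has⟩ := exists_sq h hD hs
  obtain ⟨b, hb, hbs⟩ := exists_sq h hD hs'
  have hss : s * s' ≠ 1 := by
    intro h0
    apply hs's
    rw [eq_inv_of_mul_eq_one_right h0, inv_Om hs]
  have hab : a * b * (a * b) = s * s' := by
    have : a * b * (a * b) = a * (b * a) * b := by simp only [mul_assoc]
    rw [this, h.comm D hD b hb a ha, ← has, ← hbs]
    simp only [mul_assoc]
  obtain ⟨x₁, hx₁, k₁⟩ := h.surj X hX D hD hn a ha (by rw [has]; exact hs1) (a * a) (h.sq_Om hD ha)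
  obtain ⟨x₂, hx₂, k₂⟩ := h.surj X hX D hD hn b hb (by rw [hbs]; exact hs'1) (b * b)
    (h.sq_Om hD hb)
  obtain ⟨x₃, hx₃, k₃⟩ := h.surj X hX D hD hn (a * b) (D.mul_mem ha hb) (by rw [hab]; exact hss)
    (a * b * (a * b)) (h.sq_Om hD (D.mul_mem ha hb))
  have n₁ : x₁ ≠ 1 := by
    rintro rfl
    apply hs1
    rw [← has, ← k₁]
    simp
  have n₂ : x₂ ≠ 1 := by
    rintro rfl
    apply hs'1
    rw [← hbs, ← k₂]
    simp
  have n₃ : x₃ ≠ 1 := by
    rintro rfl
    apply hss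
    rw [← hab, ← k₃]
    simp
  have n₁₂ : x₁ ≠ x₂ := by
    rintro rfl
    exact not_two h hX hD hn hx₁ n₁ ha hb (by rw [has]; exact hs1) (by rw [hbs]; exact hs'1)
      (by rw [has, hbs]; exact hs's.symm) k₁ k₂
  have n₁₃ : x₁ ≠ x₃ := by
    rintro rfl
    refine not_two h hX hD hn hx₁ n₁ ha (D.mul_mem ha hb) (by rw [has]; exact hs1)
      (by rw [hab]; exact hss) ?_ k₁ k₃
    rw [has, hab]
    intro h0
    exact hs'1 (mul_eq_left.1 h0.symm)
  have n₂₃ : x₂ ≠ x₃ := by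
    rintro rfl
    refine not_two h hX hD hn hx₂ n₂ hb (D.mul_mem ha hb) (by rw [hbs]; exact hs'1)
      (by rw [hab]; exact hss) ?_ k₂ k₃
    rw [hbs, hab]
    intro h0
    exact hs1 (mul_eq_right.1 h0.symm)
  have hx12 : x₁ * x₂ = x₃ := by
    rcases fourD h hX hx₁ hx₂ n₁ n₂ n₁₂ hx₃ with k | k | k | k
    · exact absurd k n₃
    · exact absurd k.symm n₁₃
    · exact absurd k.symm n₂₃
    · exact k.symm
  rcases fourD h hX hx₁ hx₂ n₁ n₂ n₁₂ hx with k | k | k | k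
  · exact absurd k hx1
  · rw [k]
    exact ⟨a, ha, by rw [has]; exact hs1, k₁⟩
  · rw [k]
    exact ⟨b, hb, by rw [hbs]; exact hs'1, k₂⟩
  · rw [k, hx12]
    exact ⟨a * b, D.mul_mem ha hb, by rw [hab]; exact hss, k₃⟩

/-- The table: `[e, x] = δ² e²` for `e` outside `Ω₁(D) ∪ δ Ω₁(D)` if `[δ, x] = δ²`. -/
theorem table [Finite G] {X D : Subgroup G} (hX : X ∈ P) (hD : D ∈ P) (hn : Nb X D) {x : G}
    (hx : x ∈ Om X) (hx1 : x ≠ 1) {d e : G} (hd : d ∈ D) (he : e ∈ D) (hdd : d * d ≠ 1)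
    (hee : e * e ≠ 1) (hde : d * d ≠ e * e) (h1 : d * x * d⁻¹ * x⁻¹ = d * d) :
    e * x * e⁻¹ * x⁻¹ = d * d * (e * e) := by
  rcases fourD h hD (h.sq_Om hD hd) (h.sq_Om hD he) hdd hee hde
    (h.brak X hX D hD hn x hx e he) with k | k | k | k
  · exact absurd k (h.brak_ne hX hD hn hx.1 hx1 he hee)
  · exfalso
    have k2 : e * x * e⁻¹ = d * x * d⁻¹ := mul_right_cancel (k.trans h1.symm)
    have k3 : x * (d⁻¹ * e) = (d⁻¹ * e) * x := by
      have := congrArg (fun t => d⁻¹ * t * e) k2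
      simpa only [mul_assoc, _root_.inv_mul_cancel_left, _root_.inv_mul_cancel, _root_.mul_one] using this.symm
    have k4 := h.sq_of_comm hX hD hn hx.1 hx1 (D.mul_mem (D.inv_mem hd) he) k3
    apply hde
    have k5 : (d⁻¹ * e) * (d⁻¹ * e) = d⁻¹ * d⁻¹ * (e * e) := by
      have : (d⁻¹ * e) * (d⁻¹ * e) = d⁻¹ * (e * d⁻¹) * e := by simp only [mul_assoc]
      rw [this, h.comm D hD e he _ (D.inv_mem hd)]
      simp only [mul_assoc]
    rw [k5] at k4
    have k6 : (d * d)⁻¹ * (e * e) = 1 := by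
      rw [← k4]
      simp
    exact inv_mul_eq_one.1 k6
  · exact (not_two h hX hD hn hx hx1 hd he hdd hee hde h1 k).elim
  · exact k

/-- Commuting neighbours of `D` act in the same way. -/
theorem twin [Finite G] {A D R : Subgroup G} (hA : A ∈ P) (hD : D ∈ P) (hR : R ∈ P)
    (hAD : Nb A D) (hRD : Nb R D) (hAR : Cm A R) :
    ∀ p ∈ Om R, ∃ a ∈ Om A, (p ≠ 1 → a ≠ 1) ∧ ∀ d ∈ D, d * (a * p) = (a * p) * d := by
  intro p hp
  by_cases hp1 : p = 1
  · subst hp1
    exact ⟨1, one_mem_Om A, fun h0 => absurd rfl h0, fun d _ => by simp⟩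
  obtain ⟨δ, hδ, hδδ, hδp⟩ := exists_delta h hR hD hRD hp hp1
  obtain ⟨a, ha, hδa⟩ := h.surj A hA D hD hAD δ hδ hδδ (δ * δ) (h.sq_Om hD hδ)
  have ha1 : a ≠ 1 := by
    rintro rfl
    apply hδδ
    rw [← hδa]
    simp
  refine ⟨a, ha, fun _ => ha1, ?_⟩
  have key : ∀ d ∈ D, d * a * d⁻¹ * a⁻¹ = d * p * d⁻¹ * p⁻¹ := by
    intro d hd
    by_cases hdd : d * d = 1
    · rw [← h.comm_om A hA D hD hAD a ha d ⟨hd, hdd⟩, ← h.comm_om R hR D hD hRD p hp d ⟨hd, hdd⟩]
      simp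
    · by_cases hdδ : δ * δ = d * d
      · -- `d ∈ δ Ω₁(D)`
        have hu : d * δ⁻¹ ∈ Om D := by
          refine ⟨D.mul_mem hd (D.inv_mem hδ), ?_⟩
          have e1 : d * δ⁻¹ * (d * δ⁻¹) = d * (δ⁻¹ * d) * δ⁻¹ := by simp only [mul_assoc]
          rw [e1, h.comm D hD _ (D.inv_mem hδ) d hd]
          have e2 : d * (d * δ⁻¹) * δ⁻¹ = (d * d) * (δ * δ)⁻¹ := by simp [mul_assoc]
          rw [e2, hdδ, mul_inv_cancel]
        have aux : ∀ X ∈ P, Nb X D → ∀ x ∈ Om X, d * x * d⁻¹ * x⁻¹ = δ * x * δ⁻¹ * x⁻¹ := by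
          intro X hX hn x hx
          have hux := h.comm_om X hX D hD hn x hx _ hu
          have hb := h.brak X hX D hD hn x hx δ hδ
          have e1 : d * x * d⁻¹ * x⁻¹ =
              (d * δ⁻¹) * (δ * x * δ⁻¹ * x⁻¹) * (x * (d * δ⁻¹)⁻¹ * x⁻¹) := by simp only [mul_assoc, _root_.inv_mul_cancel_left, _root_.mul_inv_rev, _root_.inv_inv]
          have e2 : x * (d * δ⁻¹)⁻¹ * x⁻¹ = (d * δ⁻¹)⁻¹ := by
            rw [inv_Om hu, hux]
            simp
          rw [e1, e2, h.comm D hD _ hu.1 _ hb.1]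
          simp only [mul_assoc, _root_.mul_inv_rev, _root_.inv_inv, _root_.inv_mul_cancel_left, _root_.mul_inv_cancel, _root_.mul_one]
        rw [aux A hA hAD a ha, aux R hR hRD p hp, hδa, hδp]
      · rw [table h hA hD hAD ha ha1 hδ hd hδδ hdd hdδ hδa,
          table h hR hD hRD hp hp1 hδ hd hδδ hdd hdδ hδp]
  intro d hd
  have k1 := key d hd
  have hap : a * p = p * a := hAR a ha.1 p hp.1
  have hva := h.brak A hA D hD hAD a ha d hd
  set v := d * a * d⁻¹ * a⁻¹ with hvdef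
  have e1 : d * a = v * a * d := by
    rw [hvdef]
    simp [mul_assoc]
  have e2 : d * p = v * p * d := by
    rw [k1]
    simp [mul_assoc]
  have e3 : a * v = v * a := h.comm_om A hA D hD hAD a ha v hva
  calc d * (a * p) = (d * a) * p := by rw [mul_assoc]
    _ = v * a * (d * p) := by rw [e1]; simp only [mul_assoc]
    _ = v * (a * v) * p * d := by rw [e2]; simp only [mul_assoc]
    _ = (v * v) * (a * p) * d := by rw [e3]; simp only [mul_assoc]
    _ = a * p * d := by rw [hva.2, one_mul]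

end

end Cfsg.Agent.TIAbelian.CaseB5
end

-- part: TIAbelian/CaseBMain
section
set_option autoImplicit false

namespace Cfsg.Agent.TIAbelian.CaseBMain

open Cfsg.Agent.TIAbelian.PairBase hiding TIFam
open Cfsg.Agent.TIAbelian.CaseBBase
open Cfsg.Agent.TIAbelian.CaseBGeo

variable {G : Type*} [Group G]

/-- Case b: two distinct members of the class do not commute elementwise. -/
theorem no_comm [Finite G] {P : Set (Subgroup G)} (h : Fam P)
    (hloc : ∀ A ∈ P, ∃ Q, CaseBLoc.Loc P A Q) {A B : Subgroup G} (hA : A ∈ P) (hB : B ∈ P)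
    (hne : A ≠ B) : ¬ Cm A B :=
  CaseBCore.no_comm_of h hloc (CaseB1.b1 h hloc)
    (fun h4 _ hX _ hD hn => CaseB5.torus h4 hX hD hn)
    (fun h4 _ hA _ hD _ hR hAD hRD hAR => CaseB5.twin h4 hA hD hR hAD hRD hAR) hA hB hne

end Cfsg.Agent.TIAbelian.CaseBMain
end

-- part: TIAbelian/FStar
section
set_option autoImplicit false

namespace Cfsg.Agent.TIAbelian.FStar

open Cfsg Subgroup

variable {G : Type*} [Group G]

/-- The hypotheses: `B` is an abelian 2-group with `N_G(B) = M`, weakly closed and TI. -/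
structure Hyp (M B : Subgroup G) : Prop where
  hO : pCore 2 G = ⊥
  char : IsOfCharacteristicTwo ↥M
  two : IsPGroup 2 ↥B
  comm : ∀ x ∈ B, ∀ y ∈ B, x * y = y * x
  norm : ∀ g ∈ M, ∀ b ∈ B, g * b * g⁻¹ ∈ B
  ti : ∀ g : G, ∀ x ∈ B, x ≠ 1 → g * x * g⁻¹ ∈ B → g ∈ M
  wc : ∀ g : G, (∀ b ∈ B, g * b * g⁻¹ ∈ M) → g ∈ M
  four : ∃ x ∈ B, ∃ y ∈ B, x * x = 1 ∧ y * y = 1 ∧ x ≠ 1 ∧ y ≠ 1 ∧ x ≠ y
  pair : ∀ g : G, g ∉ M → ∀ x ∈ B, x * x = 1 → x ≠ 1 → g * x * g⁻¹ ∈ M →
    ∃ k : G, g * x * g⁻¹ * x = k * x * k⁻¹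

variable {M B : Subgroup G}

theorem Hyp.cent (h : Hyp M B) {x g : G} (hx : x ∈ B) (hx1 : x ≠ 1) (hg : g * x = x * g) : g ∈ M := by
  apply h.ti g x hx hx1
  rwa [hg, mul_inv_cancel_right]

theorem Hyp.le (h : Hyp M B) : B ≤ M := by
  intro b hb
  obtain ⟨x, hx, -, -, -, -, hx1, -⟩ := h.four
  exact h.cent hx hx1 (h.comm b hb x hx)

/-- `O₂(M)` as a subgroup of `G`. -/
def QQ (M : Subgroup G) : Subgroup G := (pCore 2 ↥M).map M.subtype

theorem QQ_two : IsPGroup 2 ↥(QQ M) := (Cfsg.Agent.Lib.Cores.pCore_isPGroup 2).map _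

theorem QQ_norm {g q : G} (hg : g ∈ M) (hq : q ∈ QQ M) : g * q * g⁻¹ ∈ QQ M := by
  obtain ⟨q, hq, rfl⟩ := hq
  have : (pCore 2 ↥M).Normal := Cfsg.Agent.Lib.Cores.pCore_normal 2
  exact ⟨(⟨g, hg⟩ * q * ⟨g, hg⟩⁻¹ :), this.conj_mem q hq _, rfl⟩

theorem Hyp.charM (h : Hyp M B) {g : G} (hg : g ∈ M) (hc : ∀ q ∈ QQ M, g * q = q * g) : g ∈ QQ M := by
  have h1 : (⟨g, hg⟩ : M) ∈ centralizer (pCore 2 ↥M : Set ↥M) := by
    rw [mem_centralizer_iff]
    intro q hq
    apply Subtype.ext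
    exact (hc q ⟨q, hq, rfl⟩).symm
  exact ⟨⟨g, hg⟩, h.char h1, rfl⟩

/-- a normal subgroup of `G` contained in `M` is trivial -/
theorem Hyp.eq_bot_of_le (h : Hyp M B) [Finite G] {N : Subgroup G} (hN : N.Normal) (hNM : N ≤ M) : N = ⊥ := by
  have h1 : N ⊓ QQ M = ⊥ := by
    rw [← le_bot_iff, ← h.hO]
    apply Cfsg.Agent.Lib.GenFitting.le_pCore_of_normal_in_normal hN inf_le_left
    · intro n hn
      rw [mem_normalizer_iff]
      intro q
      constructor
      · rintro ⟨hq1, hq2⟩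
        exact ⟨hN.conj_mem q hq1 n, QQ_norm (hNM hn) hq2⟩
      · rintro ⟨hq1, hq2⟩
        have e1 : n⁻¹ * (n * q * n⁻¹) * n⁻¹⁻¹ = q := by simp [mul_assoc]
        have h3 := hN.conj_mem _ hq1 n⁻¹
        have h4 := QQ_norm (M.inv_mem (hNM hn)) hq2
        rw [e1] at h3 h4
        exact ⟨h3, h4⟩
    · exact QQ_two.to_le inf_le_right
  rw [eq_bot_iff]
  intro n hn
  rw [← h1]
  refine ⟨hn, h.charM (hNM hn) fun q hq => ?_⟩
  have h2 : n * q * n⁻¹ * q⁻¹ ∈ N ⊓ QQ M := by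
    refine mem_inf.2 ⟨?_, mul_mem (QQ_norm (hNM hn) hq) (inv_mem hq)⟩
    have : n * (q * n⁻¹ * q⁻¹) ∈ N := mul_mem hn (hN.conj_mem _ (inv_mem hn) q)
    simpa only [mul_assoc] using this
  rw [h1, mem_bot, mul_inv_eq_one, mul_inv_eq_iff_eq_mul] at h2
  exact h2

theorem eq_one_of_two_of_odd [Finite G] {K Q : Subgroup G} (hK : Odd (Nat.card K)) (hQ : IsPGroup 2 ↥Q) {z : G}
    (hz : z ∈ K) (hzQ : z ∈ Q) : z = 1 := by
  obtain ⟨n, hn⟩ := hQ ⟨z, hzQ⟩
  have hn' : z ^ 2 ^ n = 1 := by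
    have := congrArg Subtype.val hn
    simpa only [_root_.SubmonoidClass.mk_pow, _root_.OneMemClass.coe_one] using this
  have h1 : orderOf z ∣ 2 ^ n := orderOf_dvd_of_pow_eq_one hn'
  have h2 : orderOf z ∣ Nat.card K := by
    have := _root_.orderOf_dvd_natCard (⟨z, hz⟩ : K)
    rwa [Subgroup.orderOf_mk] at this
  have h3 : Nat.Coprime (2 ^ n) (Nat.card K) := Nat.Coprime.pow_left n (Nat.coprime_two_left.2 hK)
  have h4 : orderOf z ∣ 1 := by
    rw [← h3]
    exact Nat.dvd_gcd h1 h2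
  exact orderOf_eq_one_iff.1 (Nat.dvd_one.1 h4)

/-- a fixed point free involution inverts -/
theorem inverts [Finite G] {K : Subgroup G} (hK : K.Normal) {x : G} (hx : x * x = 1)
    (hfix : ∀ k ∈ K, k * x = x * k → k = 1) {k : G} (hk : k ∈ K) : x * k * x⁻¹ = k⁻¹ := by
  let φ : K →* K := ((MulAut.conjNormal x : MulAut K) : K ≃* K).toMonoidHom
  have hφ : ∀ k : K, ((φ k : K) : G) = x * k * x⁻¹ := fun k => by
    simp [φ]
  have h1 : MonoidHom.FixedPointFree φ := by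
    intro k hk
    apply Subtype.ext
    apply hfix k k.2
    have := hφ k
    rw [hk] at this
    have h2 := congrArg (· * x) this
    simpa only [mul_assoc, _root_.inv_mul_cancel, _root_.mul_one] using h2
  have h2 : Function.Involutive φ := by
    intro k
    apply Subtype.ext
    rw [hφ, hφ]
    have hxi : x⁻¹ = x := inv_eq_of_mul_eq_one_left hx
    rw [hxi]
    calc x * (x * (k : G) * x) * x = (x * x) * k * (x * x) := by simp only [mul_assoc]
      _ = k := by rw [hx]; simp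
  have h3 := h1.coe_eq_inv_of_involutive h2
  have h4 := congrFun h3 ⟨k, hk⟩
  have h5 := hφ ⟨k, hk⟩
  rw [h4] at h5
  exact h5.symm

/-- `O(G) = 1` -/
theorem Hyp.eq_bot_of_odd (h : Hyp M B) [Finite G] {K : Subgroup G} (hK : K.Normal) (ho : Odd (Nat.card K)) :
    K = ⊥ := by
  have hKM : ∀ k ∈ K, k ∈ M → k = 1 := by
    intro k hk hkM
    have h1 : k ∈ QQ M := by
      apply h.charM hkM
      intro q hq
      have h2 : k * q * k⁻¹ * q⁻¹ = 1 := by
        apply eq_one_of_two_of_odd ho (QQ_two (M := M))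
        · have : k * (q * k⁻¹ * q⁻¹) ∈ K := mul_mem hk (hK.conj_mem _ (inv_mem hk) q)
          simpa only [mul_assoc] using this
        · exact mul_mem (QQ_norm hkM hq) (inv_mem hq)
      rwa [mul_inv_eq_one, mul_inv_eq_iff_eq_mul] at h2
    exact eq_one_of_two_of_odd ho (QQ_two (M := M)) hk h1
  obtain ⟨x, hx, y, hy, hx2, hy2, hx1, hy1, hxy⟩ := h.four
  have hix : ∀ k ∈ K, x * k * x⁻¹ = k⁻¹ := fun k hk =>
    inverts hK hx2 (fun k hk hkx => hKM k hk (h.cent hx hx1 hkx)) hk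
  have hiy : ∀ k ∈ K, y * k * y⁻¹ = k⁻¹ := fun k hk =>
    inverts hK hy2 (fun k hk hkx => hKM k hk (h.cent hy hy1 hkx)) hk
  rw [eq_bot_iff]
  intro k hk
  rw [mem_bot]
  apply hKM k hk
  apply h.cent (x := x * y) (mul_mem hx hy)
  · intro h1
    apply hxy
    have h2 : x = y⁻¹ := eq_inv_of_mul_eq_one_left h1
    rw [h2]
    exact inv_eq_of_mul_eq_one_left hy2
  · have h1 : x * (y * k * y⁻¹) * x⁻¹ = k := by
      rw [hiy k hk, hix k⁻¹ (inv_mem hk), inv_inv]
    have h2 : x * y * k = k * (x * y) := by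
      have := congrArg (· * (x * y)) h1
      simpa only [mul_assoc, _root_.inv_mul_cancel_left, _root_.inv_mul_cancel, _root_.mul_one] using this
    exact h2.symm

/-- every 2-subgroup containing `B` lies in `M` -/
theorem Hyp.two_le (h : Hyp M B) [Finite G] {R : Subgroup G} (hR : IsPGroup 2 ↥R) (hBR : B ≤ R) : R ≤ M := by
  by_contra hRM
  have : Fact (Nat.Prime 2) := ⟨Nat.prime_two⟩
  have hnil : Group.IsNilpotent ↥R := hR.isNilpotent
  have h1 : M.subgroupOf R < ⊤ := by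
    rw [lt_top_iff_ne_top]
    intro h2
    exact hRM (subgroupOf_eq_top.1 h2)
  have h2 := Group.normalizerCondition_of_isNilpotent (G := ↥R) _ h1
  obtain ⟨g, hg, hgM⟩ := Set.exists_of_ssubset h2
  apply hgM
  rw [SetLike.mem_coe, mem_subgroupOf]
  apply h.wc
  intro b hb
  have h3 := (mem_normalizer_iff.1 hg ⟨b, hBR hb⟩).1 (by rw [mem_subgroupOf]; exact h.le hb)
  rw [mem_subgroupOf] at h3
  exact h3

/-- `O(N) = 1` for normal subgroups `N` -/
theorem Hyp.odd_in_normal (h : Hyp M B) [Finite G] {N K : Subgroup G} (hN : N.Normal) (hKN : K ≤ N)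
    (hn : N ≤ normalizer (K : Set G)) (ho : Odd (Nat.card K)) : K = ⊥ := by
  have h2 : Fact (Nat.Prime 2) := ⟨Nat.prime_two⟩
  have h1 : (pPrimeCore 2 ↥N).Characteristic := Cfsg.Agent.Lib.Cores.pPrimeCore_characteristic 2
  have h3 : ((pPrimeCore 2 ↥N).map N.subtype).Normal := inferInstance
  have h4 : Odd (Nat.card ((pPrimeCore 2 ↥N).map N.subtype)) := by
    rw [Nat.card_congr (Subgroup.equivMapOfInjective _ _ N.subtype_injective).symm.toEquiv]
    exact (Nat.coprime_two_right).1 (Cfsg.Agent.Lib.Cores.pPrimeCore_coprime 2)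
  have h5 := h.eq_bot_of_odd h3 h4
  rw [← le_bot_iff, ← h5]
  have h6 : K.subgroupOf N ≤ pPrimeCore 2 ↥N := by
    apply Cfsg.Agent.Lib.Cores.le_pPrimeCore
    · exact normal_subgroupOf_of_le_normalizer hn
    · rw [Nat.card_congr (subgroupOfEquivOfLe hKN).toEquiv]
      exact Nat.coprime_two_right.2 ho
  intro k hk
  exact ⟨⟨k, hKN hk⟩, h6 (mem_subgroupOf.2 hk), rfl⟩

/-- nontrivial normal subgroups meet `B` -/
theorem Hyp.meet (h : Hyp M B) [Finite G] {N : Subgroup G} (hN : N.Normal) (hN1 : N ≠ ⊥) :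
    ∃ b ∈ B, b ∈ N ∧ b ≠ 1 := by
  by_contra hcon
  have hcon : ∀ b ∈ B, b ∈ N → b = 1 := by
    intro b hb hbN
    by_contra h1
    exact hcon ⟨b, hb, hbN, h1⟩
  obtain ⟨x, hx, -, -, hx2, -, hx1, -⟩ := h.four
  have hBL : B ≤ N ⊔ B := le_sup_right
  have hNL : N ≤ N ⊔ B := le_sup_left
  have hB2 : IsPGroup 2 ↥(B.subgroupOf (N ⊔ B)) :=
    h.two.of_injective (subgroupOfEquivOfLe hBL).toMonoidHom (subgroupOfEquivOfLe hBL).injective
  obtain ⟨P, hP⟩ := hB2.exists_le_sylow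
  have hP2 : IsPGroup 2 ↥((P : Subgroup ↥(N ⊔ B)).map (N ⊔ B).subtype) := P.isPGroup'.map _
  have hBP : B ≤ (P : Subgroup ↥(N ⊔ B)).map (N ⊔ B).subtype := fun b hb =>
    ⟨⟨b, hBL hb⟩, hP (mem_subgroupOf.2 hb), rfl⟩
  have hPM := h.two_le hP2 hBP
  have hxP : (⟨x, hBL hx⟩ : ↥(N ⊔ B)) ∈ P := hP (mem_subgroupOf.2 hx)
  have hxo : orderOf (⟨x, hBL hx⟩ : ↥(N ⊔ B)) = 2 := by
    rw [Subgroup.orderOf_mk]
    exact orderOf_eq_prime (by rw [pow_two]; exact hx2) hx1
  obtain ⟨K, hK, hKo, hKc⟩ := Cfsg.Agent.S0215.result P ⟨x, hBL hx⟩ hxo hxP (by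
    rintro ⟨g, hg⟩ hgP
    apply Subtype.ext
    change g * x * g⁻¹ = x
    have hgP' : g * x * g⁻¹ ∈ (P : Subgroup ↥(N ⊔ B)).map (N ⊔ B).subtype := ⟨_, hgP, rfl⟩
    have hnM : g * x * g⁻¹ * x⁻¹ ∈ M := mul_mem (hPM hgP') (inv_mem (h.le hx))
    have hnN : g * x * g⁻¹ * x⁻¹ ∈ N := by
      obtain ⟨n, hn, b, hb, rfl⟩ := mem_sup_of_normal_left.1 hg
      have e1 : n * b * x * (n * b)⁻¹ * x⁻¹ = n * (x * n⁻¹ * x⁻¹) := by
        have h1 := h.comm b hb x hx
        have e2 : n * b * x * (n * b)⁻¹ * x⁻¹ = n * (b * x) * b⁻¹ * n⁻¹ * x⁻¹ := by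
          simp only [mul_inv_rev, mul_assoc]
        rw [e2, h1]
        simp only [mul_assoc, _root_.mul_inv_cancel, _root_.mul_one]
      rw [e1]
      exact mul_mem hn (hN.conj_mem _ (inv_mem hn) x)
    have hnB : ∀ b ∈ B, g * x * g⁻¹ * x⁻¹ * b = b * (g * x * g⁻¹ * x⁻¹) := by
      intro b hb
      have h1 : g * x * g⁻¹ * x⁻¹ * b * (g * x * g⁻¹ * x⁻¹)⁻¹ * b⁻¹ = 1 := by
        apply hcon
        · exact mul_mem (h.norm _ hnM b hb) (inv_mem hb)
        · have : g * x * g⁻¹ * x⁻¹ * (b * (g * x * g⁻¹ * x⁻¹)⁻¹ * b⁻¹) ∈ N :=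
            mul_mem hnN (hN.conj_mem _ (inv_mem hnN) b)
          simpa only [mul_assoc] using this
      rwa [mul_inv_eq_one, mul_inv_eq_iff_eq_mul] at h1
    have hgB : ∀ b ∈ B, g * x * g⁻¹ * b = b * (g * x * g⁻¹) := by
      intro b hb
      have e1 : g * x * g⁻¹ = g * x * g⁻¹ * x⁻¹ * x := by simp
      rw [e1]
      generalize g * x * g⁻¹ * x⁻¹ = n at hnB
      rw [mul_assoc, h.comm x hx b hb, ← mul_assoc, hnB b hb, mul_assoc]
    have hgM : g⁻¹ ∈ M := by
      apply h.wc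
      intro b hb
      apply h.cent hx hx1
      have h1 := congrArg (fun t => g⁻¹ * t * g) (hgB b hb)
      simpa only [mul_assoc, _root_.inv_inv, _root_.inv_mul_cancel, _root_.mul_one, _root_.inv_mul_cancel_left] using h1.symm
    have hgM : g ∈ M := by simpa using inv_mem hgM
    have h1 := hcon _ (mul_mem (h.norm g hgM x hx) (inv_mem hx)) hnN
    rwa [mul_inv_eq_one] at h1)
  have hKb : K.map (N ⊔ B).subtype ⊓ N = ⊥ := by
    apply h.odd_in_normal hN inf_le_right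
    · intro n hn
      rw [mem_normalizer_iff]
      have key : ∀ n ∈ N, ∀ k, k ∈ K.map (N ⊔ B).subtype ⊓ N → n * k * n⁻¹ ∈ K.map (N ⊔ B).subtype ⊓ N := by
        rintro n hn k ⟨⟨k, hk, rfl⟩, hkN⟩
        refine ⟨⟨⟨n, hNL hn⟩ * k * ⟨n, hNL hn⟩⁻¹, hK.conj_mem k hk _, rfl⟩, hN.conj_mem _ hkN n⟩
      intro k
      refine ⟨key n hn k, fun hk => ?_⟩
      have h3 := key n⁻¹ (inv_mem hn) _ hk
      simpa only [mul_assoc, _root_.Subgroup.mem_inf, _root_.Subgroup.mem_map, _root_.Subgroup.subtype_apply, _root_.Subtype.exists, _root_.exists_and_right, _root_.exists_eq_right, _root_.inv_mul_cancel_left, _root_.inv_inv, _root_.inv_mul_cancel, _root_.mul_one] using h3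
    · apply Odd.of_dvd_nat hKo
      have h1 : Nat.card ↥(K.map (N ⊔ B).subtype) = Nat.card K :=
        Nat.card_congr (K.equivMapOfInjective _ (N ⊔ B).subtype_injective).symm.toEquiv
      rw [← h1]
      exact card_dvd_of_le inf_le_left
  apply hN1
  apply h.eq_bot_of_le hN
  intro n hn
  apply h.cent hx hx1
  have h1 : x * n * x⁻¹ * n⁻¹ ∈ K.map (N ⊔ B).subtype ⊓ N := by
    refine mem_inf.2 ⟨⟨_, hKc ⟨n, hNL hn⟩, rfl⟩, mul_mem (hN.conj_mem n hn x) (inv_mem hn)⟩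
  rw [hKb, mem_bot, mul_inv_eq_one, mul_inv_eq_iff_eq_mul] at h1
  exact h1.symm

/-- a normal subgroup meets `B` in an involution -/
theorem Hyp.meet_two (h : Hyp M B) [Finite G] {N : Subgroup G} (hN : N.Normal) (hN1 : N ≠ ⊥) :
    ∃ x ∈ B, x ∈ N ∧ x ≠ 1 ∧ x * x = 1 := by
  obtain ⟨b, hb, hbN, hb1⟩ := h.meet hN hN1
  obtain ⟨n, hn'⟩ := h.two ⟨b, hb⟩
  have hn : b ^ 2 ^ n = 1 := by
    have := congrArg Subtype.val hn'
    simpa only [_root_.SubmonoidClass.mk_pow, _root_.OneMemClass.coe_one] using this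
  clear hn'
  induction n generalizing b with
  | zero => exact absurd (by simpa using hn) hb1
  | succ n ih =>
    by_cases h1 : b * b = 1
    · exact ⟨b, hb, hbN, hb1, h1⟩
    · apply ih (b * b) (mul_mem hb hb) (mul_mem hbN hbN) h1
      rw [← pow_two, ← pow_mul, ← pow_succ']
      exact hn

/-- two nontrivial normal subgroups meet -/
theorem Hyp.inf_ne_bot (h : Hyp M B) [Finite G] {N K : Subgroup G} (hN : N.Normal) (hN1 : N ≠ ⊥) (hK : K.Normal)
    (hK1 : K ≠ ⊥) : N ⊓ K ≠ ⊥ := by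
  intro h0
  obtain ⟨x, hx, hxN, hx1⟩ := h.meet hN hN1
  apply hK1
  apply h.eq_bot_of_le hK
  intro k hk
  apply h.cent hx hx1
  have h1 : k * x * k⁻¹ * x⁻¹ ∈ N ⊓ K := by
    refine mem_inf.2 ⟨mul_mem (hN.conj_mem x hxN k) (inv_mem hxN), ?_⟩
    have : k * (x * k⁻¹ * x⁻¹) ∈ K := mul_mem hk (hK.conj_mem _ (inv_mem hk) x)
    simpa only [mul_assoc] using this
  rw [h0, mem_bot, mul_inv_eq_one, mul_inv_eq_iff_eq_mul] at h1
  exact h1

/-- a nonabelian simple group is not a 2-group -/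
theorem not_two_group [Finite G] {D : Subgroup G} [IsSimpleGroup ↥D] (hna : ∃ a ∈ D, ∃ b ∈ D, a * b ≠ b * a) :
    ¬ IsPGroup 2 ↥D := by
  intro h2
  have : Fact (Nat.Prime 2) := ⟨Nat.prime_two⟩
  obtain ⟨a, ha, b, hb, hab⟩ := hna
  have h3 := h2.center_nontrivial
  rcases (inferInstance : (center ↥D).Normal).eq_bot_or_eq_top with h4 | h4
  · rw [h4] at h3
    exact (not_nontrivial _ h3)
  · apply hab
    have h5 : (⟨b, hb⟩ : D) ∈ center ↥D := by rw [h4]; trivial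
    have h6 := mem_center_iff.1 h5 ⟨a, ha⟩
    exact congrArg Subtype.val h6

/-- normal subgroups of a simple subgroup -/
theorem simple_cases {D R : Subgroup G} [IsSimpleGroup ↥D] (hRD : R ≤ D) (hn : ∀ d ∈ D, ∀ r ∈ R, d * r * d⁻¹ ∈ R) :
    R = ⊥ ∨ R = D := by
  have h1 : (R.subgroupOf D).Normal := by
    constructor
    intro r hr d
    rw [mem_subgroupOf] at hr ⊢
    exact hn d d.2 r hr
  rcases h1.eq_bot_or_eq_top with h2 | h2
  · left
    rw [Subgroup.subgroupOf_eq_bot] at h2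
    rw [eq_bot_iff]
    intro r hr
    have := h2.le_bot ⟨hr, hRD hr⟩
    exact this
  · right
    exact le_antisymm hRD (subgroupOf_eq_top.1 h2)

/-- simple subnormal subgroups of depth two do not centralise elements of `B` -/
theorem Hyp.not_cent (h : Hyp M B) [Finite G] {N D : Subgroup G} (hN : N.Normal) (hDN : D ≤ N)
    (hn : N ≤ normalizer (D : Set G)) (hs : IsSimpleGroup ↥D) (hna : ∃ a ∈ D, ∃ b ∈ D, a * b ≠ b * a) {b : G}
    (hb : b ∈ B) (hb1 : b ≠ 1) : ¬ ∀ d ∈ D, d * b = b * d := by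
  intro hc
  have hDM : D ≤ M := fun d hd => h.cent hb hb1 (hc d hd)
  have h2 := not_two_group hna
  have hDQ : ∀ x ∈ D, x ∈ QQ M → x = 1 := by
    rcases simple_cases (D := D) (R := D ⊓ QQ M) inf_le_left (by
      rintro d hd r ⟨hr, hrQ⟩
      exact mem_inf.2 ⟨mul_mem (mul_mem hd hr) (inv_mem hd), QQ_norm (hDM hd) hrQ⟩) with h3 | h3
    · intro x hx hxQ
      have : x ∈ D ⊓ QQ M := ⟨hx, hxQ⟩
      rw [h3] at this
      exact this
    · exfalso
      apply h2
      rw [← h3]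
      exact QQ_two.to_le inf_le_right
  -- `D` centralises `N ∩ Q`
  have hNQ : ∀ q ∈ QQ M, q ∈ N → ∀ d ∈ D, d * q = q * d := by
    intro q hq hqN d hd
    have h3 : d * q * d⁻¹ * q⁻¹ = 1 := by
      apply hDQ
      · have h4 := (mem_normalizer_iff.1 (hn hqN) d⁻¹).1 (inv_mem hd)
        have : d * (q * d⁻¹ * q⁻¹) ∈ D := mul_mem hd h4
        simpa only [mul_assoc] using this
      · exact mul_mem (QQ_norm (hDM hd) hq) (inv_mem hq)
    rwa [mul_inv_eq_one, mul_inv_eq_iff_eq_mul] at h3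
  have hQD : ∀ q ∈ QQ M, ∀ d ∈ D, q * d * q⁻¹ * d⁻¹ ∈ QQ M ∧ q * d * q⁻¹ * d⁻¹ ∈ N := by
    intro q hq d hd
    constructor
    · have h4 := QQ_norm (hDM hd) (inv_mem hq)
      have : q * (d * q⁻¹ * d⁻¹) ∈ QQ M := mul_mem hq h4
      simpa only [mul_assoc] using this
    · exact mul_mem (hN.conj_mem d (hDN hd) q) (inv_mem (hDN hd))
  have hall : ∀ q ∈ QQ M, ∀ d ∈ D, q * d * q⁻¹ * d⁻¹ = 1 := by
    intro q hq
    let φ : ↥D →* ↥(QQ M) := MonoidHom.mk' (fun d => ⟨q * d * q⁻¹ * (d : G)⁻¹, (hQD q hq d d.2).1⟩) (by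
      rintro ⟨d, hd⟩ ⟨e, he⟩
      apply Subtype.ext
      change q * (d * e) * q⁻¹ * (d * e)⁻¹ = (q * d * q⁻¹ * d⁻¹) * (q * e * q⁻¹ * e⁻¹)
      obtain ⟨h5, h6⟩ := hQD q hq e he
      have h7 := hNQ _ h5 h6 d hd
      have e1 : q * (d * e) * q⁻¹ * (d * e)⁻¹ = q * d * q⁻¹ * (q * e * q⁻¹ * e⁻¹) * d⁻¹ := by
        simp only [mul_assoc, _root_.mul_inv_rev, _root_.inv_mul_cancel_left]
      rw [e1]
      generalize q * e * q⁻¹ * e⁻¹ = c at h7
      have h8 : c * d⁻¹ = d⁻¹ * c := by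
        rw [mul_inv_eq_iff_eq_mul, mul_assoc, ← h7, inv_mul_cancel_left]
      rw [mul_assoc, h8, ← mul_assoc])
    rcases (inferInstance : φ.ker.Normal).eq_bot_or_eq_top with h5 | h5
    · exfalso
      exact h2 ((QQ_two (M := M)).of_injective φ ((MonoidHom.ker_eq_bot_iff φ).1 h5))
    · intro d hd
      have h6 : (⟨d, hd⟩ : D) ∈ φ.ker := by rw [h5]; trivial
      rw [MonoidHom.mem_ker] at h6
      exact congrArg Subtype.val h6
  obtain ⟨a, ha, c, hc', hac⟩ := hna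
  have h9 : ∀ d ∈ D, d = 1 := by
    intro d hd
    apply hDQ d hd
    apply h.charM (hDM hd)
    intro q hq
    have := hall q hq d hd
    rw [mul_inv_eq_one, mul_inv_eq_iff_eq_mul] at this
    exact this.symm
  apply hac
  rw [h9 a ha, h9 c hc']

/-- an involution without further commuting conjugates is isolated in every 2-subgroup -/
theorem iso_of_comm {H : Type*} [Group H] {t : H} (ht : t * t = 1)
    (hiso : ∀ g : H, g * t * g⁻¹ * t = t * (g * t * g⁻¹) → g * t * g⁻¹ = t) (n : ℕ) :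
    ∀ g : H, (g * t * g⁻¹ * t) ^ 2 ^ n = 1 → g * t * g⁻¹ = t := by
  have hti : t⁻¹ = t := inv_eq_of_mul_eq_one_left ht
  induction n with
  | zero =>
    intro g hg
    rw [pow_zero, pow_one] at hg
    rw [eq_inv_of_mul_eq_one_left hg, hti]
  | succ n ih =>
    intro g hg
    apply hiso
    set u := g * t * g⁻¹ with hu
    have hu2 : u * u = 1 := by
      rw [hu]
      calc g * t * g⁻¹ * (g * t * g⁻¹) = g * (t * t) * g⁻¹ := by simp [mul_assoc]
        _ = 1 := by rw [ht]; simp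
    have hui : u⁻¹ = u := inv_eq_of_mul_eq_one_left hu2
    have h1 := ih u (by
      rw [hui, show u * t * u * t = (u * t) ^ 2 by rw [pow_two, mul_assoc, mul_assoc, mul_assoc], ← pow_mul,
        ← pow_succ']
      exact hg)
    rw [hui] at h1
    calc u * t = u * t * (u * u) := by rw [hu2, mul_one]
      _ = (u * t * u) * u := by simp only [mul_assoc]
      _ = t * u := by rw [h1]

/-- There is a simple nonabelian normal subgroup. -/
theorem Hyp.exists_simple (h : Hyp M B) [Finite G] : ∃ N : Subgroup G, N.Normal ∧ IsSimpleGroup ↥N ∧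
    (∃ a ∈ N, ∃ b ∈ N, a * b ≠ b * a) := by
  have : Nontrivial G := by
    obtain ⟨x, hx, -, -, -, -, hx1, -⟩ := h.four
    exact ⟨x, 1, hx1⟩
  obtain ⟨N, -, hN1, hNn, hNmin⟩ := Cfsg.Agent.Lib.MinNormal.exists_minimal_normal_le (⊤ : Subgroup G) top_ne_bot
  have hN : N.Normal := normalizer_eq_top_iff.1 (top_le_iff.1 hNn)
  have hmin : ∀ K : Subgroup G, K.Normal → K ≤ N → K = ⊥ ∨ K = N := fun K hK hKN =>
    hNmin K hKN (by rw [normalizer_eq_top_iff.2 hK])
  obtain ⟨m, T, hm, hTN, hTs, hTn, hTc, hTcomm, hTinj, -, hTsup⟩ :=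
    Cfsg.Agent.Lib.MinNormal.exists_internal_decomposition N hN1 hmin
  obtain ⟨x, hx, hxN, hx1, hx2⟩ := h.meet_two hN hN1
  -- `Z(N) = 1`
  have hZ : N ⊓ centralizer (N : Set G) = ⊥ := by
    rcases hmin (N ⊓ centralizer (N : Set G)) inferInstance inf_le_left with h1 | h1
    · exact h1
    · exfalso
      apply hN1
      apply h.eq_bot_of_le hN
      intro n hn
      apply h.cent hx hx1
      have h2 : x ∈ N ⊓ centralizer (N : Set G) := by rw [h1]; exact hxN
      exact mem_centralizer_iff.1 h2.2 n hn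
  have hTna : ∀ i, ∃ a ∈ T i, ∃ b ∈ T i, a * b ≠ b * a := by
    intro i
    by_contra hcon
    have hcon : ∀ a ∈ T i, ∀ b ∈ T i, a * b = b * a := by
      intro a ha b hb
      by_contra h1
      exact hcon ⟨a, ha, b, hb, h1⟩
    have h1 : T i ≤ N ⊓ centralizer (N : Set G) := by
      refine le_inf (hTN i) ?_
      rw [le_centralizer_iff, ← hTsup]
      apply iSup_le
      intro j y hy
      rw [mem_centralizer_iff]
      intro a ha
      by_cases hij : i = j
      · rw [← hij] at hy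
        exact hcon a ha y hy
      · exact hTcomm i j hij a ha y hy
    rw [hZ, le_bot_iff] at h1
    have h2 := hTs i
    rw [h1] at h2
    exact not_nontrivial _ h2.toNontrivial
  have hTZ : ∀ i, ∀ a ∈ T i, (∀ b ∈ T i, a * b = b * a) → a = 1 := by
    intro i a ha hab
    have h1 := hTs i
    rcases simple_cases (D := T i) (R := T i ⊓ centralizer (T i : Set G)) inf_le_left (by
      rintro d hd r ⟨hr, hrc⟩
      refine mem_inf.2 ⟨mul_mem (mul_mem hd hr) (inv_mem hd), ?_⟩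
      have h2 := mem_centralizer_iff.1 hrc d hd
      rw [h2, mul_inv_cancel_right]
      exact hrc) with h2 | h2
    · have h3 : a ∈ T i ⊓ centralizer (T i : Set G) :=
        mem_inf.2 ⟨ha, mem_centralizer_iff.2 fun b hb => (hab b hb).symm⟩
      rw [h2] at h3
      exact h3
    · exfalso
      obtain ⟨a, ha, b, hb, hab⟩ := hTna i
      apply hab
      rw [← h2] at hb
      exact mem_centralizer_iff.1 hb.2 a ha
  have hone : ∀ i j : Fin m, i = j := by
    intro i j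
    by_contra hij
    have hsi := hTs i
    obtain ⟨t, ht, c, hc, hxtc⟩ : ∃ t ∈ T i, ∃ c, (∀ d ∈ T i, c * d = d * c) ∧ x = t * c := by
      have hx' : x ∈ ⨆ i, T i := by rw [hTsup]; exact hxN
      refine iSup_induction T (C := fun x => ∃ t ∈ T i, ∃ c, (∀ d ∈ T i, c * d = d * c) ∧ x = t * c) hx'
        ?_ ?_ ?_
      · intro k y hy
        by_cases hki : k = i
        · rw [hki] at hy
          exact ⟨y, hy, 1, fun d _ => by simp, by simp⟩
        · exact ⟨1, one_mem _, y, fun d hd => hTcomm k i hki y hy d hd, by simp⟩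
      · exact ⟨1, one_mem _, 1, fun d _ => by simp, by simp⟩
      · rintro _ _ ⟨t, ht, c, hc, rfl⟩ ⟨t', ht', c', hc', rfl⟩
        refine ⟨t * t', mul_mem ht ht', c * c', fun d hd => ?_, ?_⟩
        · rw [mul_assoc, hc' d hd, ← mul_assoc, hc d hd, mul_assoc]
        · calc t * c * (t' * c') = t * (c * t') * c' := by simp only [mul_assoc]
            _ = t * t' * (c * c') := by rw [hc t' ht']; simp only [mul_assoc]
    have ht1 : t ≠ 1 := by
      rintro rfl
      rw [one_mul] at hxtc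
      apply h.not_cent hN (hTN i) (hTn i) hsi (hTna i) hx hx1
      intro d hd
      rw [hxtc]
      exact (hc d hd).symm
    have hx2' : (t * t) * (c * c) = 1 := by
      rw [← hx2, hxtc]
      calc (t * t) * (c * c) = t * (t * c) * c := by simp only [mul_assoc]
        _ = t * (c * t) * c := by rw [hc t ht]
        _ = t * c * (t * c) := by simp only [mul_assoc]
    have htt : t * t = 1 := by
      apply hTZ i (t * t) (mul_mem ht ht)
      intro b hb
      rw [eq_inv_of_mul_eq_one_left hx2']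
      have h1 : (c * c) * b = b * (c * c) := by rw [mul_assoc, hc b hb, ← mul_assoc, hc b hb, mul_assoc]
      rw [inv_mul_eq_iff_eq_mul, ← mul_assoc, h1, mul_inv_cancel_right]
    have hcc : c * c = 1 := by rwa [htt, one_mul] at hx2'
    have hti : t⁻¹ = t := inv_eq_of_mul_eq_one_left htt
    have hiso : ∀ g ∈ T i, g * t * g⁻¹ * t = t * (g * t * g⁻¹) → g * t * g⁻¹ = t := by
      intro g hg hgt
      by_contra hne
      have hgx : g * x * g⁻¹ = g * t * g⁻¹ * c := by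
        rw [hxtc, show g * (t * c) * g⁻¹ = g * t * (c * g⁻¹) by simp only [mul_assoc], hc g⁻¹ (inv_mem hg)]
        simp only [mul_assoc]
      have hu : g * t * g⁻¹ ∈ T i := mul_mem (mul_mem hg ht) (inv_mem hg)
      have hw : g * x * g⁻¹ * x = g * t * g⁻¹ * t := by
        rw [hgx, hxtc]
        generalize g * t * g⁻¹ = u
        calc u * c * (t * c) = u * (c * t) * c := by simp only [mul_assoc]
          _ = u * t * (c * c) := by rw [hc t ht]; simp only [mul_assoc]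
          _ = u * t := by rw [hcc, mul_one]
      have hw' : x * (g * x * g⁻¹) = g * t * g⁻¹ * t := by
        rw [hgt, hgx, hxtc]
        generalize g * t * g⁻¹ = u at hu
        calc t * c * (u * c) = t * (c * u) * c := by simp only [mul_assoc]
          _ = t * u * (c * c) := by rw [hc u hu]; simp only [mul_assoc]
          _ = t * u := by rw [hcc, mul_one]
      have hgM' : g * x * g⁻¹ ∈ M := h.cent hx hx1 (hw.trans hw'.symm)
      have hwT : g * t * g⁻¹ * t ∈ T i := mul_mem hu ht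
      have hw1 : g * t * g⁻¹ * t ≠ 1 := by
        intro h1
        apply hne
        rw [eq_inv_of_mul_eq_one_left h1, hti]
      have hTj : ∀ d ∈ T j, d * (g * t * g⁻¹ * t) = (g * t * g⁻¹ * t) * d := fun d hd =>
        hTcomm j i (Ne.symm hij) d hd _ hwT
      by_cases hgM : g ∈ M
      · have hwB : g * t * g⁻¹ * t ∈ B := by
          rw [← hw]
          exact mul_mem (h.norm g hgM x hx) hx
        exact h.not_cent hN (hTN j) (hTn j) (hTs j) (hTna j) hwB hw1 hTj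
      · obtain ⟨k, hk⟩ := h.pair g hgM x hx hx2 hx1 hgM'
        rw [hw] at hk
        have hsj : IsSimpleGroup ↥((T j).map (MulAut.conj k⁻¹).toMonoidHom) := by
          have := hTs j
          exact (MulEquiv.isSimpleGroup_congr
            ((T j).equivMapOfInjective (MulAut.conj k⁻¹).toMonoidHom (MulAut.conj k⁻¹).injective)).1 this
        refine h.not_cent (D := (T j).map (MulAut.conj k⁻¹).toMonoidHom) hN ?_
          (Cfsg.Agent.Lib.MinNormal.le_normalizer_map_conj (hTn j) k⁻¹) hsj ?_ hx hx1 ?_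
        · rintro _ ⟨d, hd, rfl⟩
          exact hN.conj_mem d (hTN j hd) k⁻¹
        · obtain ⟨a, ha, b, hb, hab⟩ := hTna j
          refine ⟨_, ⟨a, ha, rfl⟩, _, ⟨b, hb, rfl⟩, ?_⟩
          intro h1
          rw [← map_mul, ← map_mul] at h1
          exact hab ((MulAut.conj k⁻¹).injective h1)
        · rintro _ ⟨d, hd, rfl⟩
          have h1 := hTj d hd
          rw [hk] at h1
          have h2 := congrArg (fun z => k⁻¹ * z * k) h1
          change k⁻¹ * d * k⁻¹⁻¹ * x = x * (k⁻¹ * d * k⁻¹⁻¹)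
          simpa only [mul_assoc, _root_.inv_inv, _root_.inv_mul_cancel, _root_.mul_one, _root_.inv_mul_cancel_left] using h2
    -- the Z*-theorem
    have hzP : IsPGroup 2 ↥(zpowers (⟨t, ht⟩ : ↥(T i))) := by
      refine IsPGroup.of_card_dvd_pow (n := 1) ?_
      rw [Nat.card_zpowers]
      apply orderOf_dvd_of_pow_eq_one
      apply Subtype.ext
      change t ^ 2 ^ 1 = 1
      rw [pow_one, pow_two, htt]
    obtain ⟨P, hP⟩ := hzP.exists_le_sylow
    have hto : orderOf (⟨t, ht⟩ : ↥(T i)) = 2 := by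
      rw [Subgroup.orderOf_mk]
      exact orderOf_eq_prime (by rw [pow_two]; exact htt) ht1
    have htP := hP (mem_zpowers _)
    obtain ⟨K, hK, hKo, hKc⟩ := Cfsg.Agent.S0215.result P ⟨t, ht⟩ hto htP (by
      intro g hgP
      have h1 : (⟨g * ⟨t, ht⟩ * g⁻¹ * ⟨t, ht⟩, mul_mem hgP htP⟩ : ↥(P : Subgroup ↥(T i))) ∈
        (⊤ : Subgroup ↥(P : Subgroup ↥(T i))) := trivial
      obtain ⟨n, hn⟩ := P.isPGroup' ⟨g * ⟨t, ht⟩ * g⁻¹ * ⟨t, ht⟩, mul_mem hgP htP⟩
      refine iso_of_comm (t := (⟨t, ht⟩ : ↥(T i))) (Subtype.ext htt) ?_ n g (congrArg Subtype.val hn)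
      rintro ⟨g, hg⟩ h2
      exact Subtype.ext (hiso g hg (congrArg Subtype.val h2)))
    rcases hK.eq_bot_or_eq_top with h1 | h1
    · apply ht1
      apply hTZ i t ht
      intro b hb
      have h2 := hKc ⟨b, hb⟩
      rw [h1, mem_bot] at h2
      have h3 : t * b * t⁻¹ * b⁻¹ = 1 := congrArg Subtype.val h2
      rwa [mul_inv_eq_one, mul_inv_eq_iff_eq_mul] at h3
    · have h2 := _root_.orderOf_dvd_natCard (⟨t, ht⟩ : ↥(T i))
      rw [hto] at h2
      rw [h1, card_top] at hKo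
      exact (Nat.not_odd_iff_even.2 (even_iff_two_dvd.2 h2)) hKo
  have hNT : N = T ⟨0, hm⟩ := by
    rw [← hTsup]
    apply le_antisymm
    · apply iSup_le
      intro i
      rw [hone i ⟨0, hm⟩]
    · exact le_iSup T _
  refine ⟨N, hN, ?_, ?_⟩
  · rw [hNT]; exact hTs _
  · rw [hNT]; exact hTna _

/-- **Main result**: `F*(G)` is a nonabelian simple group, contained in all nontrivial normal subgroups, with trivial
centralizer, and contains an involution of `B`. -/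
theorem Hyp.main (h : Hyp M B) [Finite G] : IsSimpleGroup ↥(generalizedFittingSubgroup G) ∧
    (∃ a ∈ generalizedFittingSubgroup G, ∃ b ∈ generalizedFittingSubgroup G, a * b ≠ b * a) ∧
    centralizer (generalizedFittingSubgroup G : Set G) = ⊥ ∧
    ∃ x ∈ B, x ∈ generalizedFittingSubgroup G ∧ x ≠ 1 ∧ x * x = 1 := by
  obtain ⟨N, hN, hNs, hna⟩ := h.exists_simple
  have hN1 : N ≠ ⊥ := by
    rintro rfl
    exact not_nontrivial _ hNs.toNontrivial
  have hC : centralizer (N : Set G) = ⊥ := by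
    by_contra h1
    apply h.inf_ne_bot hN hN1 inferInstance h1
    rcases simple_cases (D := N) (R := N ⊓ centralizer (N : Set G)) inf_le_left
      (fun d _ r hr => (inferInstance : (N ⊓ centralizer (N : Set G)).Normal).conj_mem r hr d) with h2 | h2
    · exact h2
    · exfalso
      obtain ⟨a, ha, b, hb, hab⟩ := hna
      apply hab
      rw [← h2] at hb
      exact mem_centralizer_iff.1 hb.2 a ha
  have hNc : IsComponent N := by
    refine ⟨hN.isSubnormal, Cfsg.Agent.SignalizersComponents.IntrinsicDiag.quasisimple_of_simple hNs ?_⟩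
    intro hcm
    obtain ⟨a, ha, b, hb, hab⟩ := hna
    exact hab (congrArg Subtype.val (hcm.is_comm.comm (⟨a, ha⟩ : ↥N) ⟨b, hb⟩))
  have hFN : generalizedFittingSubgroup G = N := by
    apply le_antisymm
    · rw [Cfsg.Agent.Lib.GenFitting.genFitting_def]
      apply sup_le
      · rw [Cfsg.Agent.Lib.GenFitting.layer_def]
        apply sSup_le
        intro K hK
        by_cases hKN : K = N
        · exact hKN.le
        · have h1 := Cfsg.Agent.SignalizersComponents.ComponentNormalize.component_comm_of_ne hK hNc hKN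
          rw [commutator_eq_bot_iff_le_centralizer, hC, le_bot_iff] at h1
          rw [h1]
          exact bot_le
      · have h1 := Cfsg.Agent.SignalizersComponents.FStarNormal.component_comm_fitting hNc
        rw [commutator_comm, commutator_eq_bot_iff_le_centralizer, hC, le_bot_iff] at h1
        rw [h1]
        exact bot_le
    · exact Cfsg.Agent.Lib.GenFitting.component_le_genFitting hNc
  rw [hFN]
  exact ⟨hNs, hna, hC, h.meet_two hN hN1⟩

end Cfsg.Agent.TIAbelian.FStar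
end

-- part: TIAbelian/FStarInst
section
set_option autoImplicit false

namespace Cfsg.Agent.TIAbelian.FStarInst

open Cfsg
open Cfsg.Agent.TIAbelian.PairBase Cfsg.Agent.TIAbelian.PairOmega Cfsg.Agent.TIAbelian.PairGeo
open Cfsg.Agent.TIAbelian.PairMain (mem_normalizer_iff_cj)

variable {G : Type*} [Group G]

/-- For a collinear pair and `t ∈ Ω₁(A)#`, commutation with `t` maps `B` onto `Ω₁(B)`. -/
theorem br_surj [Finite G] {P : Set (Subgroup G)} (h : Geo P) {A B : Subgroup G} (hA : A ∈ P) (hB : B ∈ P)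
    (hc : Col A B) (hOm : (Om B).ncard = 4) (hB16 : Nat.card ↥B = 16) {t : G} (ht : t ∈ Om A) (ht1 : t ≠ 1)
    {x : G} (hx : x ∈ Om B) : ∃ b ∈ B, b * t * b⁻¹ * t⁻¹ = x := by
  classical
  have hmem : ∀ b ∈ B, b * t * b⁻¹ * t⁻¹ ∈ Om B := fun b hb => h.brak A hA B hB hc t ht b hb
  let φ : ↥B →* ↥B := MonoidHom.mk' (fun b => ⟨(b : G) * t * (b : G)⁻¹ * t⁻¹, (hmem b b.2).1⟩) (by
    rintro ⟨b, hb⟩ ⟨c, hc'⟩
    apply Subtype.ext
    change b * c * t * (b * c)⁻¹ * t⁻¹ = (b * t * b⁻¹ * t⁻¹) * (c * t * c⁻¹ * t⁻¹)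
    have e1 : b * c * t * (b * c)⁻¹ * t⁻¹ = b * (c * t * c⁻¹ * t⁻¹) * t * b⁻¹ * t⁻¹ := by simp only [mul_assoc, _root_.mul_inv_rev, _root_.inv_mul_cancel, _root_.mul_one]
    have h1 := h.comm B hB b hb _ (hmem c hc').1
    have h2 := h.comm B hB _ (hmem b hb).1 _ (hmem c hc').1
    rw [e1, h1, h2]
    simp only [mul_assoc])
  have hφ : ∀ b : ↥B, ((φ b : ↥B) : G) = (b : G) * t * (b : G)⁻¹ * t⁻¹ := fun b => rfl
  have hker : (fun b : ↥B => (b : G)) '' (φ.ker : Set ↥B) = Om B := by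
    ext y
    constructor
    · rintro ⟨b, hb, rfl⟩
      have h1 : (b : G) * t * (b : G)⁻¹ * t⁻¹ = 1 := congrArg Subtype.val (MonoidHom.mem_ker.1 hb)
      rw [mul_inv_eq_one, mul_inv_eq_iff_eq_mul] at h1
      refine ⟨b.2, (h.norm_iff A hA B hB hc b b.2).1 ?_⟩
      exact h.norm_of_comm hA ht.1 ht1 h1
    · intro hy
      refine ⟨⟨y, hy.1⟩, ?_, rfl⟩
      rw [SetLike.mem_coe, MonoidHom.mem_ker]
      apply Subtype.ext
      change y * t * y⁻¹ * t⁻¹ = 1
      rw [← h.comm_om A hA B hB hc t ht y hy]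
      simp
  have hkc : Nat.card φ.ker = 4 := by
    rw [← hOm, ← hker, Set.ncard_image_of_injective _ Subtype.val_injective]
    rfl
  have hrc : Nat.card φ.range = 4 := by
    have h1 := Subgroup.card_mul_index φ.ker
    rw [Subgroup.index_ker, hkc, hB16] at h1
    omega
  have hrg : (fun b : ↥B => (b : G)) '' (φ.range : Set ↥B) = Om B := by
    apply Set.eq_of_subset_of_ncard_le
    · rintro _ ⟨_, ⟨b, rfl⟩, rfl⟩
      exact hmem b b.2
    · rw [hOm, Set.ncard_image_of_injective _ Subtype.val_injective]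
      exact hrc.ge
    · exact Set.toFinite _
  rw [← hrg] at hx
  obtain ⟨_, ⟨b, rfl⟩, rfl⟩ := hx
  exact ⟨b, b.2, rfl⟩

theorem hyp [Finite G] (hO : pCore 2 G = ⊥) {P : Set (Subgroup G)} (h : TIFam P)
    (hex : ∃ A ∈ P, ∃ B ∈ P, Col A B) {B₀ : Subgroup G} (hB₀ : B₀ ∈ P)
    (hM : IsMaximalTwoLocal (Subgroup.normalizer (B₀ : Set G)))
    (hMc : IsOfCharacteristicTwo ↥(Subgroup.normalizer (B₀ : Set G))) :
    FStar.Hyp (Subgroup.normalizer (B₀ : Set G)) B₀ := by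
  obtain ⟨hg, -, hcard⟩ := PairMain.main h hex hB₀ hM hMc
  refine ⟨hO, hMc, ?_, h.comm B₀ hB₀, ?_, ?_, ?_, ?_, ?_⟩
  · rintro ⟨x, hx⟩
    obtain ⟨n, hn⟩ := h.two B₀ hB₀ x hx
    exact ⟨n, Subtype.ext hn⟩
  · intro g hg b hb
    exact (Subgroup.mem_normalizer_iff.1 hg b).1 hb
  · intro g x hx hx1 hgx
    rw [mem_normalizer_iff_cj]
    refine h.ti _ (h.conj B₀ hB₀ g) B₀ hB₀ _ (conj_mem_cj hx) hgx ?_
    intro h0
    apply hx1
    have := congrArg (fun t => g⁻¹ * t * g) h0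
    simpa [mul_assoc] using this
  · intro g hgb
    rw [mem_normalizer_iff_cj]
    apply PairInst.eq_of_le_norm h (h.conj B₀ hB₀ g) hB₀
    intro a ha
    rw [mem_cj] at ha
    have h1 := hgb _ ha
    rw [← mem_normalizer_iff_cj]
    simpa [mul_assoc] using h1
  · obtain ⟨x, hx, hx1, hxx, -⟩ := h.noncyc B₀ hB₀ 1
    obtain ⟨y, hy, hy1, hyy, hyx⟩ := h.noncyc B₀ hB₀ x
    exact ⟨x, hx, y, hy, hxx, hyy, hx1, hy1, Ne.symm hyx⟩
  · intro g hgM x hx hxx hx1 hgx
    rw [mem_normalizer_iff_cj] at hgM hgx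
    have hA := h.conj B₀ hB₀ g
    have ht1 : g * x * g⁻¹ ≠ 1 := by
      intro h0
      apply hx1
      have := congrArg (fun t => g⁻¹ * t * g) h0
      simpa [mul_assoc] using this
    have hc : Col (cj g B₀) B₀ := PairInst.col_of_norm h hA hB₀ hgM (conj_mem_cj hx) ht1 hgx
    have ht : g * x * g⁻¹ ∈ Om (cj g B₀) := conj_mem_Om_cj ⟨hx, hxx⟩
    obtain ⟨b, hb, hbt⟩ := br_surj hg hA hB₀ hc (hcard B₀ hB₀).1 (hcard B₀ hB₀).2.1 ht ht1 ⟨hx, hxx⟩
    refine ⟨b * g, ?_⟩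
    have h1 := hg.comm_om _ hA B₀ hB₀ hc _ ht x ⟨hx, hxx⟩
    rw [h1]
    calc x * (g * x * g⁻¹) = b * (g * x * g⁻¹) * b⁻¹ * (g * x * g⁻¹)⁻¹ * (g * x * g⁻¹) := by rw [hbt]
      _ = b * g * x * (b * g)⁻¹ := by simp only [mul_assoc, _root_.mul_inv_rev, _root_.inv_inv, _root_.inv_mul_cancel_left, _root_.mul_inv_cancel, _root_.mul_one]

/-- **`F*(G)` is simple** (with trivial centralizer). -/
theorem fstar [Finite G] (hO : pCore 2 G = ⊥) {P : Set (Subgroup G)} (h : TIFam P)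
    (hex : ∃ A ∈ P, ∃ B ∈ P, Col A B) {B₀ : Subgroup G} (hB₀ : B₀ ∈ P)
    (hM : IsMaximalTwoLocal (Subgroup.normalizer (B₀ : Set G)))
    (hMc : IsOfCharacteristicTwo ↥(Subgroup.normalizer (B₀ : Set G))) :
    (generalizedFittingSubgroup G).Normal ∧ IsSimpleGroup ↥(generalizedFittingSubgroup G) ∧
      Subgroup.centralizer (generalizedFittingSubgroup G : Set G) = ⊥ := by
  obtain ⟨h1, -, h2, -⟩ := (hyp hO h hex hB₀ hM hMc).main
  exact ⟨Cfsg.Agent.Lib.GenFitting.genFitting_normal, h1, h2⟩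

end Cfsg.Agent.TIAbelian.FStarInst
end

-- part: S1779
section
set_option autoImplicit false
open Cfsg

namespace Cfsg.Agent.S1779

/-- Let G be a finite group with no nontrivial normal 2-subgroup, M a maximal 2-local subgroup of G such that C_M(O₂(M)) ≤ O₂(M), and B an abelian normal subgroup of M such that every G-conjugate of B equals B or meets B trivially. Then B is cyclic, or B is isomorphic to the direct product of two cyclic groups of order 4 and the generalized Fitting subgroup of G is isomorphic to the projective special linear group of dimension 3 over the field with 4 elements, or B is an elementary abelian 2-group. -/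
theorem result {G : Type*} [Group G] [Finite G] (hO : Cfsg.pCore 2 G = ⊥)
    (M : Subgroup G) (hM : Cfsg.IsMaximalTwoLocal M) (hMc : Cfsg.IsOfCharacteristicTwo ↥M)
    (B : Subgroup G) (hBM : B ≤ M) (hBn : ∀ m ∈ M, ∀ b ∈ B, m * b * m⁻¹ ∈ B) (hBa : IsMulCommutative ↥B)
    (hti : ∀ g : G, B.map (MulAut.conj g).toMonoidHom = B ∨ B.map (MulAut.conj g).toMonoidHom ⊓ B = ⊥) :
    IsCyclic ↥B ∨
      (Nonempty (↥B ≃* Multiplicative (ZMod 4) × Multiplicative (ZMod 4)) ∧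
        ∃ (F : Type) (_ : Field F) (_ : Fintype F), Fintype.card F = 4 ∧
          Nonempty (↥(Cfsg.generalizedFittingSubgroup G) ≃* Matrix.ProjectiveSpecialLinearGroup (Fin 3) F)) ∨
      Cfsg.IsElementaryAbelian 2 B := by
  by_cases hcyc : IsCyclic ↥B
  · exact Or.inl hcyc
  by_cases hel : Cfsg.IsElementaryAbelian 2 B
  · exact Or.inr (Or.inr hel)
  refine Or.inr (Or.inl ?_)
  obtain ⟨hN, htf, hex, -, -, -, -, hB⟩ :=
    Cfsg.Agent.TIAbelian.Reduce.reduce hO M hM hMc B hBM hBn hBa hti hcyc hel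
      (fun P h hloc A hA C hC hne => Cfsg.Agent.TIAbelian.CaseBMain.no_comm h hloc hA hC hne)
  refine ⟨hB, ?_⟩
  have hBP := Cfsg.Agent.TIAbelian.PairInst.self_mem_Cls B
  rw [← hN] at hM hMc
  obtain ⟨h1, h2, h3⟩ := Cfsg.Agent.TIAbelian.FStarInst.fstar hO htf hex hBP hM hMc
  exact Cfsg.Agent.TIAbelian.End.endgame htf hex hBP hM hMc (Cfsg.generalizedFittingSubgroup G) h3

end Cfsg.Agent.S1779
end
end
end
end
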