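import Cfsg.Agent.QrcE.Trans_mg
import Cfsg.Agent.S0051
import Cfsg.Agent.Mrg.Omega.Assembly
import Cfsg.Statements.S1824
import Cfsg.Agent.Mrg.Omega.FFBr.Final
set_option linter.all false

-- part: QrcE/COf
section
/-!
# S1824: the subgroup `C`

`H ∩ M` normalises `O²(M₀)` or `V`, `O₂(M₀) = C_T(V)`: there is `C ⊴ H ∩ M` with `T ∩ C = C_T(V)`.
-/

set_option autoImplicit false
set_option linter.unusedVariables false
set_option linter.style.haveILetI false

namespace Cfsg.Agent.QrcE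

open Subgroup Cfsg
open Cfsg.Agent.ZN (o2)
open Cfsg.Agent.ZN.ChoiceSit
open Cfsg.Agent.ZN.ChoiceBase (cj mem_cj cj_mono cj_le_iff cj_inv_cj cj_cj_inv card_cj cj_inf cj_centralizer
  mem_normalizer_iff_cj cj_cj cj_one normalizer_le_of_cj)
open Cfsg.Agent.MinSimple.VModule (oddGen mem_oddGen oddGen_le le_normalizer_oddGen)
open scoped commutatorElement

universe u

variable {G : Type u} [Group G]

/-- the elements of `N` centralising `Y` modulo `K`; `N` normalises `K` and `Y` -/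
def cMod (N Y K : Subgroup G) (hNK : N ≤ normalizer (K : Set G)) : Subgroup G where
  carrier := {x | x ∈ N ∧ ∀ y ∈ Y, x * y * x⁻¹ * y⁻¹ ∈ K}
  one_mem' := ⟨one_mem _, fun y hy => by simp⟩
  mul_mem' := by
    rintro a b ⟨ha, ha'⟩ ⟨hb, hb'⟩
    refine ⟨mul_mem ha hb, fun y hy => ?_⟩
    have e : a * b * y * (a * b)⁻¹ * y⁻¹ = (a * (b * y * b⁻¹ * y⁻¹) * a⁻¹) * (a * y * a⁻¹ * y⁻¹) := by group
    rw [e]
    exact mul_mem ((mem_normalizer_iff.1 (hNK ha) _).1 (hb' y hy)) (ha' y hy)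
  inv_mem' := by
    rintro a ⟨ha, ha'⟩
    refine ⟨inv_mem ha, fun y hy => ?_⟩
    have e : a⁻¹ * y * a⁻¹⁻¹ * y⁻¹ = a⁻¹ * (a * y * a⁻¹ * y⁻¹)⁻¹ * a⁻¹⁻¹ := by group
    rw [e]
    exact (mem_normalizer_iff.1 (hNK (inv_mem ha)) _).1 (inv_mem (ha' y hy))

theorem mem_cMod {N Y K : Subgroup G} {hNK : N ≤ normalizer (K : Set G)} {x : G} :
    x ∈ cMod N Y K hNK ↔ x ∈ N ∧ ∀ y ∈ Y, x * y * x⁻¹ * y⁻¹ ∈ K := Iff.rfl

theorem cMod_le {N Y K : Subgroup G} {hNK : N ≤ normalizer (K : Set G)} : cMod N Y K hNK ≤ N := fun _ hx => hx.1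

theorem cMod_normal {N Y K : Subgroup G} {hNK : N ≤ normalizer (K : Set G)} (hNY : N ≤ normalizer (Y : Set G)) :
    N ≤ normalizer ((cMod N Y K hNK : Subgroup G) : Set G) := by
  have key : ∀ m ∈ N, ∀ x ∈ cMod N Y K hNK, m * x * m⁻¹ ∈ cMod N Y K hNK := by
    intro m hm x hx
    rw [mem_cMod] at hx ⊢
    refine ⟨mul_mem (mul_mem hm hx.1) (inv_mem hm), fun y hy => ?_⟩
    have h1 : m⁻¹ * y * m⁻¹⁻¹ ∈ Y := (mem_normalizer_iff.1 (hNY (inv_mem hm)) y).1 hy
    have h2 := (mem_normalizer_iff.1 (hNK hm) _).1 (hx.2 _ h1)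
    have e : m * x * m⁻¹ * y * (m * x * m⁻¹)⁻¹ * y⁻¹ =
        m * (x * (m⁻¹ * y * m⁻¹⁻¹) * x⁻¹ * (m⁻¹ * y * m⁻¹⁻¹)⁻¹) * m⁻¹ := by group
    rw [e]
    exact h2
  intro m hm
  rw [mem_normalizer_iff]
  intro x
  refine ⟨key m hm x, fun h => ?_⟩
  have := key _ (inv_mem hm) _ h
  have e : m⁻¹ * (m * x * m⁻¹) * m⁻¹⁻¹ = x := by group
  rwa [e] at this

theorem exists_C [Finite G] (T : Sylow 2 G) {M M₀ H V : Subgroup G} (hTM₀ : (T : Subgroup G) ≤ M₀) (hM₀M : M₀ ≤ M)
    (hTH : (T : Subgroup G) ≤ H) (hR : o2 M₀ = (T : Subgroup G) ⊓ centralizer (V : Set G))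
    (hI : H ⊓ M ≤ normalizer (oddGen M₀ : Set G) ∨ H ⊓ M ≤ normalizer (V : Set G)) :
    ∃ C : Subgroup G, C ≤ H ⊓ M ∧ H ⊓ M ≤ normalizer (C : Set G) ∧
      (T : Subgroup G) ⊓ C = (T : Subgroup G) ⊓ centralizer (V : Set G) := by
  have hTM : (T : Subgroup G) ≤ H ⊓ M := le_inf hTH (hTM₀.trans hM₀M)
  rcases hI with hI | hI
  · set Y := oddGen M₀ with hY
    have hNK : H ⊓ M ≤ normalizer ((o2 Y : Subgroup G) : Set G) :=
      hI.trans (normalizer_le_of_cj (F := fun K => o2 K) ZN.ChoiceBase.pCore_cj Y)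
    refine ⟨cMod (H ⊓ M) Y (o2 Y) hNK, cMod_le, cMod_normal hI, ?_⟩
    have hYM₀ : Y ≤ M₀ := oddGen_le M₀
    have hM₀Y : M₀ ≤ normalizer (Y : Set G) := le_normalizer_oddGen M₀
    have hM₀K : M₀ ≤ normalizer ((o2 Y : Subgroup G) : Set G) :=
      hM₀Y.trans (normalizer_le_of_cj (F := fun K => o2 K) ZN.ChoiceBase.pCore_cj Y)
    have hM₀R : M₀ ≤ normalizer ((o2 M₀ : Subgroup G) : Set G) := le_normalizer_o2 M₀
    have hKR : o2 Y ≤ o2 M₀ := le_o2 (isPGroup_o2 Y) ((o2_le Y).trans hYM₀) hM₀K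
    have hRT : o2 M₀ ≤ (T : Subgroup G) := by rw [hR]; exact inf_le_left
    rw [← hR]
    apply le_antisymm
    · -- `S := {t ∈ T | [t, Y] ≤ O₂(M₀)}` is normalised by `T` and `Y`
      set S : Subgroup G := (T : Subgroup G) ⊓ cMod M₀ Y (o2 M₀) hM₀R with hS
      have hRS : o2 M₀ ≤ S := by
        refine le_inf hRT fun r hr => ?_
        rw [mem_cMod]
        refine ⟨o2_le M₀ hr, fun y hy => ?_⟩
        have h1 : y * r⁻¹ * y⁻¹ ∈ o2 M₀ := (mem_normalizer_iff.1 (hM₀R (hYM₀ hy)) _).1 (inv_mem hr)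
        have e : r * y * r⁻¹ * y⁻¹ = r * (y * r⁻¹ * y⁻¹) := by group
        rw [e]
        exact mul_mem hr h1
      have hS1 : S ≤ o2 M₀ := by
        refine le_o2 (T.isPGroup'.to_le inf_le_left) (inf_le_left.trans hTM₀) ?_
        rw [← PushGen.oddGen_sup_syl (PushGen.sylow_syl T hTM₀)]
        have e : oddGen (oddGen M₀ ⊔ (T : Subgroup G)) = oddGen M₀ := by
          rw [PushGen.oddGen_sup_syl (PushGen.sylow_syl T hTM₀)]
        refine sup_le ?_ ?_
        · intro y hy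
          refine ZN.ChoiceBase.mem_normalizer_of_cj_le ?_
          rintro _ ⟨s, hs, rfl⟩
          have h1 : s * y * s⁻¹ * y⁻¹ ∈ o2 M₀ := (mem_cMod.1 hs.2).2 y hy
          have h2 : (s * y * s⁻¹ * y⁻¹)⁻¹ * s ∈ S := mul_mem (inv_mem (hRS h1)) hs
          have e2 : (s * y * s⁻¹ * y⁻¹)⁻¹ * s = y * s * y⁻¹ := by group
          rw [e2] at h2
          exact h2
        · intro t ht
          rw [mem_normalizer_iff_cj, hS, cj_inf, mem_normalizer_iff_cj.1 (le_normalizer ht),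
            mem_normalizer_iff_cj.1 (cMod_normal hM₀Y (hTM₀ ht))]
      refine le_trans ?_ hS1
      intro t ht
      exact mem_inf.2 ⟨(mem_inf.1 ht).1, mem_cMod.2 ⟨hTM₀ (mem_inf.1 ht).1, fun y hy =>
        hKR ((mem_cMod.1 (mem_inf.1 ht).2).2 y hy)⟩⟩
    · refine le_inf hRT fun r hr => ?_
      rw [mem_cMod]
      refine ⟨hTM (hRT hr), fun y hy => ?_⟩
      -- `[R, Y] ≤ R ∩ Y ≤ O₂(Y)`
      have h0 : o2 M₀ ⊓ Y ≤ o2 Y := by
        refine le_o2 ((isPGroup_o2 M₀).to_le inf_le_left) inf_le_right ?_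
        intro z hz
        rw [mem_normalizer_iff_cj, cj_inf, mem_normalizer_iff_cj.1 (hM₀R (hYM₀ hz)),
          mem_normalizer_iff_cj.1 (le_normalizer hz)]
      apply h0
      refine mem_inf.2 ⟨?_, ?_⟩
      · have h1 : y * r⁻¹ * y⁻¹ ∈ o2 M₀ := (mem_normalizer_iff.1 (hM₀R (hYM₀ hy)) _).1 (inv_mem hr)
        have e : r * y * r⁻¹ * y⁻¹ = r * (y * r⁻¹ * y⁻¹) := by group
        rw [e]
        exact mul_mem hr h1
      · exact mul_mem ((mem_normalizer_iff.1 (hM₀Y (o2_le M₀ hr)) y).1 hy) (inv_mem hy)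
  · refine ⟨H ⊓ M ⊓ centralizer (V : Set G), inf_le_left, ?_, ?_⟩
    · intro m hm
      rw [mem_normalizer_iff_cj, cj_inf, mem_normalizer_iff_cj.1 (le_normalizer hm), cj_centralizer,
        mem_normalizer_iff_cj.1 (hI hm)]
    · rw [← inf_assoc, inf_eq_left.2 hTM]

end Cfsg.Agent.QrcE
end

-- part: QrcE/Gas
section
/-!
# S1824: `O₂(X) ∩ O²(X) ≤ R`

`R` is normalised by `T`, `[O₂(X), O²(X)] ≤ R` and `T ∩ O²(X) ≤ R O₂(X)`; then `O₂(X) ∩ O²(X) ≤ R` (Gaschütz).
-/

set_option autoImplicit false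
set_option linter.unusedVariables false
set_option linter.unusedSectionVars false
set_option linter.style.haveILetI false

namespace Cfsg.Agent.QrcE

open Subgroup Cfsg
open scoped commutatorElement

universe u

variable {X : Type u} [Group X]

theorem gas_aux [Finite X] (T : Sylow 2 X) {R Q : Subgroup X} [hQn : Q.Normal] (hRT : R ≤ (T : Subgroup X))
    (hQT : Q ≤ (T : Subgroup X)) (h1 : ⁅Q, OO X⁆ = ⊥) (h2 : ⁅R, Q⁆ = ⊥) (h3 : R ⊓ Q = ⊥)
    (h4 : (T : Subgroup X) ⊓ OO X ≤ R ⊔ Q) : Q ⊓ OO X = ⊥ := by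
  have hQO : ∀ q ∈ Q, ∀ l ∈ OO X, q * l = l * q := comm_eq_bot_iff.1 h1
  have hRQ : ∀ r ∈ R, ∀ q ∈ Q, r * q = q * r := comm_eq_bot_iff.1 h2
  haveI : (centralizer (Q : Set X)).Normal := normal_centralizer
  set K : Subgroup X := Q ⊓ centralizer (Q : Set X) with hK
  haveI hKn : K.Normal := inferInstance
  have hKQ : K ≤ Q := inf_le_left
  set G : Subgroup X := OO X ⊔ K with hG
  haveI hGn : G.Normal := inferInstance
  have hKG : K ≤ G := le_sup_right
  have hmemG : ∀ x ∈ G, ∃ l ∈ OO X, ∃ k ∈ K, l * k = x := fun x hx => mem_sup_of_normal_left.1 hx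
  haveI : (K.subgroupOf G).Normal := hKn.subgroupOf G
  have hKc : ∀ a ∈ K, ∀ b ∈ K, a * b = b * a := fun a ha b hb => mem_centralizer_iff.1 hb.2 a ha.1
  haveI : IsMulCommutative (K.subgroupOf G) := ⟨⟨fun a b => Subtype.ext (Subtype.ext (hKc _ a.2 _ b.2))⟩⟩
  have hKp : IsPGroup 2 K := T.isPGroup'.to_le (hKQ.trans hQT)
  have hKU : K.subgroupOf G ≤ (T : Subgroup X).subgroupOf G := fun x hx => hQT (hKQ hx)
  have hcop : (Nat.card (K.subgroupOf G)).Coprime ((T : Subgroup X).subgroupOf G).index := by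
    have e1 : Nat.card (K.subgroupOf G) = Nat.card K := Nat.card_congr (subgroupOfEquivOfLe hKG).toEquiv
    obtain ⟨n, hn⟩ := IsPGroup.iff_card.1 hKp
    have e2 : ((T : Subgroup X).subgroupOf G).index = (T : Subgroup X).relIndex G := rfl
    have e3 : ¬ 2 ∣ (T : Subgroup X).relIndex G := Lib.SylowNormalInf.not_dvd_relIndex T G
    rw [e1, hn, e2]
    exact Nat.Coprime.pow_left n ((Nat.Prime.coprime_iff_not_dvd Nat.prime_two).2 e3)
  have hAU : R.subgroupOf G ≤ (T : Subgroup X).subgroupOf G := fun x hx => hRT hx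
  have hAK : R.subgroupOf G ⊓ K.subgroupOf G = ⊥ := by
    rw [Subgroup.eq_bot_iff_forall]
    rintro x ⟨hx1, hx2⟩
    have : (x : X) ∈ R ⊓ Q := ⟨hx1, hKQ hx2⟩
    rw [h3, mem_bot] at this
    exact Subtype.ext this
  have hKA : K.subgroupOf G ⊔ R.subgroupOf G = (T : Subgroup X).subgroupOf G := by
    refine le_antisymm (sup_le hKU hAU) ?_
    rintro ⟨t, htG⟩ ht
    have ht' : t ∈ (T : Subgroup X) := ht
    obtain ⟨l, hl, k, hk, hlk⟩ := hmemG t htG
    have hl2 : l ∈ (T : Subgroup X) := by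
      have : l = t * k⁻¹ := by rw [← hlk]; group
      rw [this]
      exact mul_mem ht' (inv_mem (hQT (hKQ hk)))
    obtain ⟨r, hr, q, hq, hrq⟩ := mem_sup_of_normal_right.1 (h4 ⟨hl2, hl⟩)
    have hqK : q ∈ K := by
      refine ⟨hq, mem_centralizer_iff.2 fun y hy => ?_⟩
      have e1 : q = r⁻¹ * l := by rw [← hrq]; group
      have e2 : Commute y r := (hRQ r hr y hy).symm
      have e3 : Commute y l := hQO y hy l hl
      have e4 : Commute y q := by rw [e1]; exact e2.inv_right.mul_right e3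
      exact e4
    have hrG : r ∈ G := by
      have : r = t * (q * k)⁻¹ := by rw [← hlk, ← hrq]; group
      rw [this]
      exact mul_mem htG (inv_mem (hKG (mul_mem hqK hk)))
    have e : (⟨t, htG⟩ : G) = ⟨r, hrG⟩ * ⟨q * k, hKG (mul_mem hqK hk)⟩ := by
      apply Subtype.ext
      change t = r * (q * k)
      rw [← hlk, ← hrq]; group
    rw [e]
    exact mul_mem (mem_sup_right (show (⟨r, hrG⟩ : G) ∈ R.subgroupOf G from hr))
      (mem_sup_left (show (⟨q * k, _⟩ : G) ∈ K.subgroupOf G from mul_mem hqK hk))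
  obtain ⟨H, hH⟩ := S0051.result (K.subgroupOf G) ((T : Subgroup X).subgroupOf G) hKU hcop (R.subgroupOf G) hAU hAK hKA
  -- `O²(X) ≤ H`
  have hOH : OO X ≤ H.map G.subtype := by
    refine OO_le fun x hx => ?_
    have hxG : x ∈ G := mem_sup_left (mem_OO hx)
    have h5 : (⟨x, hxG⟩ : G) ∈ K.subgroupOf G ⊔ H := by rw [hH.sup_eq_top]; trivial
    obtain ⟨k, hk, y, hy, hky⟩ := mem_sup_of_normal_left.1 h5
    have hkK : (k : X) ∈ K := hk
    have hcomm : Commute k y := by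
      apply Subtype.ext
      change (k : X) * y = y * k
      obtain ⟨l, hl, k', hk', e⟩ := hmemG (y : X) y.2
      rw [← e, ← mul_assoc, hQO k (hKQ hkK) l hl, mul_assoc, hKc k hkK k' hk', mul_assoc]
    obtain ⟨n, hn⟩ := hKp ⟨k, hkK⟩
    have hn' : k ^ 2 ^ n = 1 := by
      apply Subtype.ext
      have := congrArg Subtype.val hn
      simpa using this
    have h6 : (⟨x, hxG⟩ : G) ^ 2 ^ n ∈ H := by
      rw [← hky, hcomm.mul_pow, hn', one_mul]
      exact pow_mem hy _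
    have h7 : Odd (orderOf (⟨x, hxG⟩ : G)) := by rwa [orderOf_mk]
    exact ⟨_, mem_of_odd h7 h6, rfl⟩
  rw [Subgroup.eq_bot_iff_forall]
  rintro z ⟨hzQ, hzO⟩
  have hzK : z ∈ K := ⟨hzQ, mem_centralizer_iff.2 fun y hy => hQO y hy z hzO⟩
  obtain ⟨y, hy, hyz⟩ := hOH hzO
  have h5 : y ∈ K.subgroupOf G ⊓ H := by
    refine mem_inf.2 ⟨?_, hy⟩
    rw [← hyz] at hzK
    exact hzK
  rw [hH.disjoint.eq_bot, mem_bot] at h5
  rw [← hyz, h5]
  rfl

/-- **the transfer lemma** -/
theorem pCore_inf_OO_le [Finite X] (T : Sylow 2 X) {R : Subgroup X} (hRT : R ≤ (T : Subgroup X))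
    (hTR : (T : Subgroup X) ≤ normalizer (R : Set X)) (hQL : ⁅pCore 2 X, OO X⁆ ≤ R)
    (h4 : (T : Subgroup X) ⊓ OO X ≤ R ⊔ pCore 2 X) : pCore 2 X ⊓ OO X ≤ R := by
  set Q : Subgroup X := pCore 2 X with hQ
  have hQT : Q ≤ (T : Subgroup X) := pCore_le T
  have hQLQ : ⁅Q, OO X⁆ ≤ Q := commutator_le_left _ _
  set N : Subgroup X := R ⊓ Q with hN
  have hNn : N.Normal := by
    rw [← normalizer_eq_top_iff, eq_top_iff, ← OO_sup T]
    refine sup_le ?_ ?_
    · have key : ∀ l ∈ OO X, ∀ y ∈ N, l * y * l⁻¹ ∈ N := by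
        intro l hl y hy
        have e : l * y * l⁻¹ = ⁅y, l⁆⁻¹ * y := by rw [commutatorElement_def]; group
        rw [e]
        have h5 : ⁅y, l⁆ ∈ ⁅Q, OO X⁆ := commutator_mem_commutator hy.2 hl
        exact mul_mem (inv_mem ⟨hQL h5, hQLQ h5⟩) hy
      intro l hl
      rw [mem_normalizer_iff]
      refine fun y => ⟨key l hl y, fun hy => ?_⟩
      have := key l⁻¹ (inv_mem hl) _ hy
      have e : l⁻¹ * (l * y * l⁻¹) * l⁻¹⁻¹ = y := by group
      rwa [e] at this
    · intro t ht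
      have h5 := hTR ht
      have h6 : t ∈ normalizer (Q : Set X) := by
        rw [normalizer_eq_top_iff.2 (inferInstance : Q.Normal)]; trivial
      rw [mem_normalizer_iff_map_conj_eq] at h5 h6 ⊢
      rw [hN, Subgroup.map_inf_eq _ _ _ (MulAut.conj t).injective, h5, h6]
  haveI := hNn
  set π := QuotientGroup.mk' N with hπ
  haveI : (Q.map π).Normal := (inferInstance : Q.Normal).map _ (QuotientGroup.mk'_surjective N)
  have hRQ : ⁅R, Q⁆ ≤ N := by
    rw [commutator_le]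
    intro r hr q hq
    have hrT := hRT hr
    have hqT := hQT hq
    refine mem_inf.2 ⟨?_, ?_⟩
    · rw [commutatorElement_def, mul_assoc, mul_assoc]
      refine mul_mem hr ?_
      rw [← mul_assoc]
      exact (mem_normalizer_iff.1 (hTR hqT) _).1 (inv_mem hr)
    · rw [commutatorElement_def]
      exact mul_mem ((inferInstance : Q.Normal).conj_mem q hq r) (inv_mem hq)
  have hbot : ∀ A : Subgroup X, A ≤ N → A.map π = ⊥ := fun A hA => by
    rw [Subgroup.map_eq_bot_iff, hπ, QuotientGroup.ker_mk']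
    exact hA
  have key := gas_aux (sylQ T N) (R := R.map π) (Q := Q.map π) (map_mono hRT) (map_mono hQT)
    (by rw [OO_quo, ← map_commutator]; exact hbot _ (le_inf hQL hQLQ))
    (by rw [← map_commutator]; exact hbot _ hRQ)
    (by
      rw [Subgroup.eq_bot_iff_forall]
      rintro y ⟨⟨r, hr, rfl⟩, q, hq, hqr⟩
      have h5 : r⁻¹ * q ∈ N := QuotientGroup.eq.1 hqr.symm
      have h6 : q ∈ R := by
        have : q = r * (r⁻¹ * q) := by group
        rw [this]
        exact mul_mem hr h5.1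
      rw [← hqr]
      exact (QuotientGroup.eq_one_iff q).2 ⟨h6, hq⟩)
    (by
      rintro y ⟨⟨t, ht, rfl⟩, hy⟩
      rw [OO_quo] at hy
      obtain ⟨l, hl, hlt⟩ := hy
      have h5 : t⁻¹ * l ∈ N := QuotientGroup.eq.1 hlt.symm
      have h6 : l ∈ (T : Subgroup X) := by
        have : l = t * (t⁻¹ * l) := by group
        rw [this]
        exact mul_mem ht (hRT h5.1)
      rw [← hlt, ← Subgroup.map_sup]
      exact ⟨l, h4 ⟨h6, hl⟩, rfl⟩)
  rintro z ⟨hzQ, hzO⟩
  have h5 : π z ∈ Q.map π ⊓ OO (X ⧸ N) := by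
    refine ⟨⟨z, hzQ, rfl⟩, ?_⟩
    rw [OO_quo]
    exact ⟨z, hzO, rfl⟩
  rw [key, mem_bot] at h5
  exact ((QuotientGroup.eq_one_iff z).1 h5).1

/-- `T ∩ C K = (T ∩ C) (T ∩ K)` -/
theorem sylow_prod [Finite X] (T : Sylow 2 X) {M C K : Subgroup X} [K.Normal] (hTM : (T : Subgroup X) ≤ M)
    (hCM : C ≤ M) (hC : M ≤ normalizer (C : Set X)) :
    (T : Subgroup X) ⊓ (C ⊔ K) ≤ ((T : Subgroup X) ⊓ C) ⊔ ((T : Subgroup X) ⊓ K) := by
  set π := QuotientGroup.mk' K with hπ
  have h1 : ¬ 2 ∣ ((T : Subgroup X) ⊓ C).relIndex C := by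
    haveI : (C.subgroupOf M).Normal := normal_subgroupOf_of_le_normalizer hC
    have h2 := Lib.SylowNormalInf.not_dvd_relIndex (T.subtype hTM) (C.subgroupOf M)
    have h3 : ((T.subtype hTM : Sylow 2 M) : Subgroup M) = (T : Subgroup X).subgroupOf M := rfl
    rwa [h3, relIndex_subgroupOf hCM, ← inf_relIndex_right] at h2
  have h2 : ((T : Subgroup X) ⊓ C).map π = (T : Subgroup X).map π ⊓ C.map π := by
    have h3 : ((T : Subgroup X) ⊓ C).map π ≤ (T : Subgroup X).map π ⊓ C.map π := map_inf_le _ _ _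
    refine le_antisymm h3 ?_
    have h4 : (((T : Subgroup X) ⊓ C).map π).relIndex ((T : Subgroup X).map π ⊓ C.map π) *
        ((T : Subgroup X).map π ⊓ C.map π).relIndex (C.map π) = (((T : Subgroup X) ⊓ C).map π).relIndex (C.map π) :=
      relIndex_mul_relIndex _ _ _ h3 inf_le_right
    have h5 : (((T : Subgroup X) ⊓ C).map π).relIndex (C.map π) ∣ ((T : Subgroup X) ⊓ C).relIndex C := by
      rw [← relIndex_comap, comap_map_eq]
      exact relIndex_dvd_of_le_left _ le_sup_left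
    have h6 : IsPGroup 2 ↥((T : Subgroup X).map π ⊓ C.map π) := (T.isPGroup'.map π).to_le inf_le_left
    obtain ⟨n, hn⟩ := IsPGroup.iff_card.1 h6
    have h7 : (((T : Subgroup X) ⊓ C).map π).relIndex ((T : Subgroup X).map π ⊓ C.map π) ∣ 2 ^ n := by
      rw [← hn]; exact relIndex_dvd_card _ _
    obtain ⟨j, -, hj⟩ := (Nat.dvd_prime_pow Nat.prime_two).1 h7
    have h8 : j = 0 := by
      by_contra h0
      exact h1 (((dvd_pow_self 2 h0).trans (hj ▸ Dvd.intro _ h4)).trans h5)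
    rw [h8, pow_zero] at hj
    exact relIndex_eq_one.1 hj
  rintro t ⟨ht, htC⟩
  obtain ⟨c, hc, k, hk, hck⟩ := mem_sup_of_normal_right.1 htC
  have h3 : π t ∈ (T : Subgroup X).map π ⊓ C.map π := by
    refine ⟨⟨t, ht, rfl⟩, c, hc, ?_⟩
    rw [← hck, map_mul, (QuotientGroup.eq_one_iff k).2 hk |> fun e => (show π k = 1 from e), mul_one]
  rw [← h2] at h3
  obtain ⟨s, hs, hst⟩ := h3
  have h4 : s⁻¹ * t ∈ K := QuotientGroup.eq.1 hst
  have e : t = s * (s⁻¹ * t) := by group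
  rw [e]
  have h5 : s⁻¹ * t ∈ (T : Subgroup X) := mul_mem (inv_mem (mem_inf.1 hs).1) ht
  exact mul_mem (mem_sup_left hs) (mem_sup_right (mem_inf.2 ⟨h5, h4⟩))

end Cfsg.Agent.QrcE
end

-- part: QrcE/Main
section
/-!
# S1824, case (e): `T ∩ O²(X) ≤ C_T(V)`

`V ≤ O₂(X)`, `U = ⟨V^X⟩` elementary abelian, `V` not normal in `X`, `q(T, V) > 2`, `J(T) ≤ C(V)`, `J(T) ≰ O₂(X)`,
`C` a subgroup normalised by `M` with `T ∩ C = C_T(V)`.  Then `T ∩ O²(X) ≤ C_T(V)`.
-/

set_option autoImplicit false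
set_option linter.unusedVariables false
set_option linter.unusedSectionVars false
set_option linter.style.haveILetI false

namespace Cfsg.Agent.QrcE

open Subgroup Cfsg Cfsg.Agent.MinSimple.MinParabolic Cfsg.Agent.Omega.FFBr Cfsg.Agent.PLocal.ThompsonJ
open Cfsg.Agent.ZN.ChoiceBase (AA cj cj_inf cj_centralizer mem_normalizer_iff_cj)
open scoped commutatorElement

universe u

variable {X : Type u} [Group X]

/-- **THEOREM E** -/
theorem Sit.inf_OO_le [Finite X] (hFF : AStmt.{u}) {T : Sylow 2 X} {M V : Subgroup X} (h : Sit T M V)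
    (hJ : ∀ A ∈ AA (T : Subgroup X), A ≤ centralizer (V : Set X))
    (hJ2 : ∃ A ∈ AA (T : Subgroup X), ¬ A ≤ pCore 2 X)
    {C : Subgroup X} (hCM : C ≤ M) (hC : M ≤ normalizer (C : Set X))
    (hTC : (T : Subgroup X) ⊓ C = (T : Subgroup X) ⊓ centralizer (V : Set X)) :
    (T : Subgroup X) ⊓ OO X ≤ centralizer (V : Set X) := by
  obtain ⟨A₀, hA₀, hA₀Q⟩ := hJ2
  set U : Subgroup X := normalClosure (V : Set X) with hU
  haveI hUn : U.Normal := normalClosure_normal
  set W : Subgroup X := ⁅U, OO X⁆ with hW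
  haveI hWn : W.Normal := commutator_normal U (OO X)
  have hWU : W ≤ U := commutator_le_left U (OO X)
  have hVU : V ≤ U := subset_normalClosure
  have hWW : ⁅W, OO X⁆ = W := comm_comm_eq h.U_isPGroup
  obtain ⟨D, hDn, hD⟩ := exists_chief (isElementaryAbelian_mono h.Uel hWU) hWW h.comm_ne
  haveI := hDn
  have hDL := h.comm_D hFF hA₀ hA₀Q hD
  have hB := h.comm_B hD hDL
  have hWQ := h.comm_WQ hD hDL
  obtain ⟨A, hAA₀, hAQ, hbest, -⟩ := h.exists_best hA₀ hA₀Q
  have hAe := isElementaryAbelian_mono hA₀.1 hAA₀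
  have hAT : A ≤ (T : Subgroup X) := hAA₀.trans hA₀.2.1
  have hAC : A ≤ C := by
    have h1 : A ≤ (T : Subgroup X) ⊓ C := by
      rw [hTC]
      exact le_inf hAT (hAA₀.trans (hJ A₀ hA₀))
    exact h1.trans inf_le_right
  -- `A` is an offender on `W / D`
  have hle : (cW D W (A : Set X)).relIndex W ≤ (pCore 2 X).relIndex A := by
    set A1 : Subgroup X := A ⊓ pCore 2 X with hA1
    have hfin : ∀ P Q : Subgroup X, P.relIndex Q ≠ 0 := fun P Q => by
      rw [relIndex]; exact index_ne_zero_of_finite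
    have h1 : (cW D W (A : Set X)).relIndex W ≤ (W ⊓ centralizer (A : Set X)).relIndex W :=
      relIndex_le_of_le_left (inf_centralizer_le_cW D W A) (hfin _ _)
    rw [inf_relIndex_left] at h1
    have hWA1 : W ≤ U ⊓ centralizer (A1 : Set X) := by
      refine le_inf hWU ?_
      rw [commutator_eq_bot_iff_le_centralizer] at hWQ
      exact hWQ.trans (centralizer_le (SetLike.coe_subset_coe.2 inf_le_right))
    have h2 : (centralizer (A : Set X)).relIndex W ≤ (centralizer (A : Set X)).relIndex (U ⊓ centralizer (A1 : Set X)) :=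
      relIndex_le_of_le_right hWA1 (hfin _ _)
    refine h1.trans (h2.trans ?_)
    have h3 := card_inf_mul_relIndex (U ⊓ centralizer (A1 : Set X)) (centralizer (A : Set X))
    have h4 : U ⊓ centralizer (A1 : Set X) ⊓ centralizer (A : Set X) = U ⊓ centralizer (A : Set X) := by
      rw [inf_assoc]
      congr 1
      exact inf_eq_right.2 (centralizer_le (SetLike.coe_subset_coe.2 inf_le_left))
    rw [h4] at h3
    have h5 := card_inf_mul_relIndex A (pCore 2 X)
    have h6 := hbest A1 inf_le_left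
    rw [← h3, ← h5] at h6
    have p1 : 0 < Nat.card A1 := Nat.card_pos
    have p2 : 0 < Nat.card ↥(U ⊓ centralizer (A : Set X)) := Nat.card_pos
    refine Nat.le_of_mul_le_mul_left (c := Nat.card A1 * Nat.card ↥(U ⊓ centralizer (A : Set X))) ?_
      (Nat.mul_pos p1 p2)
    calc Nat.card A1 * Nat.card ↥(U ⊓ centralizer (A : Set X)) *
          (centralizer (A : Set X)).relIndex (U ⊓ centralizer (A1 : Set X))
        = Nat.card A1 * (Nat.card ↥(U ⊓ centralizer (A : Set X)) *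
          (centralizer (A : Set X)).relIndex (U ⊓ centralizer (A1 : Set X))) := by ring
      _ ≤ Nat.card ↥(A ⊓ pCore 2 X) * (pCore 2 X).relIndex A * Nat.card ↥(U ⊓ centralizer (A : Set X)) := h6
      _ = _ := by rw [hA1]; ring
  have hlem := lemU_sec hFF h.min hD hAT hAe hAQ hle hC hAC
  letI := secAct D W
  set K : Subgroup X := ker X (sec D W) with hK
  have hTK : (T : Subgroup X) ⊓ K = pCore 2 X := hD.irrMod.inf_ker h.min
  have hTM : (T : Subgroup X) ≤ M := le_sup_right.trans (hD.irrMod.ker_sup_le h.min)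
  -- the commutator
  set C4 : Subgroup X := ⁅C, OO X ⊓ M⁆ with hC4
  have hC4C : C4 ≤ C := by
    rw [hC4, commutator_le]
    intro c hc l hl
    rw [commutatorElement_def, mul_assoc, mul_assoc]
    refine mul_mem hc ?_
    rw [← mul_assoc]
    exact (mem_normalizer_iff.1 (hC hl.2) _).1 (inv_mem hc)
  have hC4L : C4 ≤ OO X := by
    rw [hC4, commutator_le]
    intro c hc l hl
    rw [commutatorElement_def]
    exact mul_mem (OO_normal.conj_mem l hl.1 c) (inv_mem hl.1)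
  have hC4n : M ≤ normalizer (C4 : Set X) := by
    intro m hm
    have e1 := mem_normalizer_iff_cj.1 (hC hm)
    have e2 : cj m (OO X ⊓ M) = OO X ⊓ M := by
      rw [cj_inf]
      congr 1
      · exact mem_normalizer_iff_cj.1 ((normalizer_eq_top_iff.2 (OO_normal (X := X))) ▸ mem_top m)
      · exact mem_normalizer_iff_cj.1 (le_normalizer hm)
    rw [mem_normalizer_iff_cj, hC4, cj_commutator, e1, e2]
  -- `T ∩ L ≤ C4 (Q ∩ L)`
  have key : ∀ t ∈ (T : Subgroup X) ⊓ OO X, ∃ s ∈ (T : Subgroup X) ⊓ C4, ∃ q ∈ pCore 2 X ⊓ OO X, s * q = t := by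
    intro t ht
    obtain ⟨c, hc, k, hk, hck⟩ := mem_sup_of_normal_right.1 (hlem ht)
    have hkL : k ∈ OO X := by
      have : k = c⁻¹ * t := by rw [← hck]; group
      rw [this]
      exact mul_mem (inv_mem (hC4L hc)) ht.2
    have h1 : t ∈ (T : Subgroup X) ⊓ (C4 ⊔ (K ⊓ OO X)) := by
      refine ⟨ht.1, ?_⟩
      rw [← hck]
      exact mul_mem (mem_sup_left hc) (mem_sup_right (mem_inf.2 ⟨hk, hkL⟩))
    have h2 := sylow_prod T hTM (hC4C.trans hCM) hC4n h1
    have hTKL : (T : Subgroup X) ⊓ (K ⊓ OO X) = pCore 2 X ⊓ OO X := by rw [← inf_assoc, hTK]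
    rw [hTKL] at h2
    haveI : (pCore 2 X ⊓ OO X).Normal := inferInstance
    obtain ⟨s, hs, q, hq, hsq⟩ := mem_sup_of_normal_right.1 h2
    exact ⟨s, hs, q, hq, hsq⟩
  have hTC4 : (T : Subgroup X) ⊓ C4 ≤ (T : Subgroup X) ⊓ centralizer (V : Set X) := by
    rw [← hTC]
    exact inf_le_inf_left _ hC4C
  have hTR : (T : Subgroup X) ≤ normalizer (((T : Subgroup X) ⊓ centralizer (V : Set X) : Subgroup X) : Set X) := by
    intro t ht
    have h1 := h.TV ht
    rw [mem_normalizer_iff_cj] at h1 ⊢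
    rw [cj_inf, mem_normalizer_iff_cj.1 (le_normalizer ht), cj_centralizer, h1]
  have hQL : ⁅pCore 2 X, OO X⁆ ≤ (T : Subgroup X) ⊓ centralizer (V : Set X) := by
    refine le_inf ((commutator_le_left _ _).trans (pCore_le T)) ?_
    rw [commutator_eq_bot_iff_le_centralizer, le_centralizer_iff] at hB
    exact hB.trans (centralizer_le (SetLike.coe_subset_coe.2 hVU))
  have hfin := pCore_inf_OO_le T inf_le_left hTR hQL (by
    intro t ht
    obtain ⟨s, hs, q, hq, rfl⟩ := key t ht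
    exact mul_mem (mem_sup_left (hTC4 hs)) (mem_sup_right hq.1))
  intro t ht
  obtain ⟨s, hs, q, hq, rfl⟩ := key t ht
  exact mul_mem (hTC4 hs).2 (hfin hq).2

end Cfsg.Agent.QrcE
end

-- part: QrcE/Asm
section
/-!
# S1824: the assembly, modulo the case `V ≰ O₂(H)`
-/

set_option autoImplicit false
set_option linter.unusedVariables false
set_option linter.style.haveILetI false

namespace Cfsg.Agent.QrcE

open Subgroup Cfsg Cfsg.Agent.MinSimple.MinParabolic Cfsg.Agent.PLocal.ThompsonJ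
open Cfsg.Agent.ZN (o2 jj)
open Cfsg.Agent.ZN.ChoiceSit
open Cfsg.Agent.ZN.ChoiceBase (AA AA_nonempty le_jj jj_le jj_eq jj_eq_of_jj_le normalizer_le_jj
  cj mem_cj cj_mono cj_le_iff cj_inv_cj cj_cj_inv card_cj cj_inf cj_centralizer
  mem_normalizer_iff_cj cj_cj cj_one normalizer_le_of_cj)
open Cfsg.Agent.MinSimple.VModule (oddGen mem_oddGen oddGen_le le_normalizer_oddGen)
open scoped commutatorElement

universe u

variable {G : Type u} [Group G]

/-- overgroups of `T` properly contained in `H ∈ ℋ_*(T, M)` lie in `M` -/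
theorem le_of_calHMin [Finite G] (T : Sylow 2 G) {M H : Subgroup G} (hH : H ∈ calHMin (T : Subgroup G) M)
    {K : Subgroup G} (hTK : (T : Subgroup G) ≤ K) (hKH : K ≤ H) (hne : K ≠ H) : K ≤ M := by
  by_contra h
  apply hne
  obtain ⟨⟨⟨h1, h2⟩, h3⟩, h4⟩ := hH
  have h1' : o2 H ≠ ⊥ := fun h => h1 ((Subgroup.map_eq_bot_iff_of_injective _ H.subtype_injective).1 h)
  refine h4 K ⟨⟨?_, hTK⟩, h⟩ hKH
  have h5 := (Omega.MinPar.isLoc_of_le_normalizer T hTK (isPGroup_o2 H) h1' (hKH.trans (le_normalizer_o2 H))).o2_ne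
  intro h6
  apply h5
  change (pCore 2 K).map K.subtype = ⊥
  rw [h6, Subgroup.map_bot]

theorem isMin_of_calHMin [Finite G] (T : Sylow 2 G) {M H : Subgroup G} (hH : H ∈ calHMin (T : Subgroup G) M) :
    IsMin ((T : Subgroup G).subgroupOf H) (M.subgroupOf H) := by
  refine ⟨fun h => hH.1.2 (subgroupOf_eq_top.1 h), fun K hTK hK => ?_⟩
  have hTH : (T : Subgroup G) ≤ H := hH.1.1.2
  have h1 : K.map H.subtype ≤ M := by
    refine le_of_calHMin T hH ?_ (map_subtype_le K) fun h => hK ?_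
    · intro t ht
      exact ⟨⟨t, hTH ht⟩, hTK ht, rfl⟩
    · rw [eq_top_iff]
      intro x _
      have hx : (x : G) ∈ K.map H.subtype := by rw [h]; exact x.2
      obtain ⟨y, hy, hyx⟩ := hx
      rwa [← Subtype.ext hyx]
  intro x hx
  exact h1 ⟨x, hx, rfl⟩

theorem asm [Finite G] (hE : IsOfEvenCharacteristic G) (hFF : Omega.FFBr.AStmt.{u})
    (T : Sylow 2 G) {M M₀ H V : Subgroup G}
    (hTM₀ : (T : Subgroup G) ≤ M₀) (hM₀M : M₀ ≤ M) (hH : H ∈ calHMin (T : Subgroup G) M)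
    (hVM : V ≤ M₀) (hMV : M₀ ≤ normalizer (V : Set G)) (hVe : IsElementaryAbelian 2 V)
    (hR : o2 M₀ = (T : Subgroup G) ⊓ centralizer (V : Set G))
    (hI : H ⊓ M ≤ normalizer (oddGen M₀ : Set G) ∨ H ⊓ M ≤ normalizer (V : Set G))
    (hd : ¬ V ≤ o2 H → CubicParamLE (T : Subgroup G) V 2) :
    (∃ R₀ : Subgroup G, R₀ ≠ ⊥ ∧ R₀ ≤ o2 M₀ ∧ M₀ ⊔ H ≤ normalizer (R₀ : Set G)) ∨
      (¬ V ≤ o2 H ∧ CubicParamLE M₀ V 2) ∨ QuadParamLE M₀ V 2 := by
  have hTH : (T : Subgroup G) ≤ H := hH.1.1.2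
  have hHne : o2 H ≠ ⊥ := fun h => hH.1.1.1 ((Subgroup.map_eq_bot_iff_of_injective _ H.subtype_injective).1 h)
  have hTsyl : Syl (T : Subgroup G) H := PushGen.sylow_syl T hTH
  have hTne : (T : Subgroup G) ≠ ⊥ := fun h => hHne (le_bot_iff.1 (h ▸ o2_le_syl hTsyl))
  have hU : ∃ K : Subgroup G, K < H ∧ ∀ Y : Subgroup G, (T : Subgroup G) ≤ Y → Y < H → Y ≤ K :=
    ⟨H ⊓ M, lt_of_le_of_ne inf_le_left fun h => hH.1.2 (inf_eq_left.1 h),
      fun Y hTY hYH => le_inf hYH.le (le_of_calHMin T hH hTY hYH.le hYH.ne)⟩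
  have hRT : o2 M₀ ≤ (T : Subgroup G) := by rw [hR]; exact inf_le_left
  have hRn : M₀ ≤ normalizer ((o2 M₀ : Subgroup G) : Set G) := le_normalizer_o2 M₀
  by_cases hV0 : V = ⊥
  · left
    have h1 : o2 M₀ = (T : Subgroup G) := by
      rw [hR, hV0]
      refine inf_eq_left.2 fun t _ => mem_centralizer_iff.2 fun y hy => ?_
      rw [show y = 1 from hy, one_mul, mul_one]
    rw [h1] at hRn ⊢
    exact PushGen.main hE T hTM₀ hTH hHne hU hTne le_rfl
      ⟨le_sup_right, T.isPGroup', fun Q _ hQ hTQ => T.is_maximal' hQ hTQ⟩ hRn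
  have hV2 : IsPGroup 2 V := fun x => ⟨1, Subtype.ext (by simpa using hVe.2 x x.2)⟩
  have hVR : V ≤ o2 M₀ := le_o2 hV2 hVM hMV
  have hVT : V ≤ (T : Subgroup G) := hVR.trans hRT
  have hTV : (T : Subgroup G) ≤ normalizer (V : Set G) := hTM₀.trans hMV
  have hVH : V ≤ H := hVT.trans hTH
  have hRne : o2 M₀ ≠ ⊥ := fun h => hV0 (le_bot_iff.1 (h ▸ hVR))
  by_cases hVQ : V ≤ o2 H
  swap
  · exact Or.inr (Or.inl ⟨hVQ, cubic_mono hTM₀ (hd hVQ)⟩)
  by_cases hq : QuadParamLE (T : Subgroup G) V 2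
  · exact Or.inr (Or.inr (quad_mono hTM₀ hq))
  left
  by_cases hHV : H ≤ normalizer (V : Set G)
  · exact ⟨V, hV0, hVR, sup_le hMV hHV⟩
  have hJ : ∀ A ∈ AA (T : Subgroup G), A ≤ centralizer (V : Set G) := by
    intro A hA
    by_contra h
    exact hq (quad_of_AA hVe hVT hTV hA h)
  by_cases hJ2 : ∀ A ∈ AA (T : Subgroup G), A ≤ o2 H
  · have h1 : jj (T : Subgroup G) ≤ o2 H := by rw [jj_eq]; exact sSup_le hJ2
    have h2 : jj (T : Subgroup G) ≤ o2 M₀ := by
      rw [hR]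
      refine le_inf (jj_le _) ?_
      rw [jj_eq]
      exact sSup_le hJ
    have h3 := jj_eq_of_jj_le h1 (o2_le_syl hTsyl)
    have h4 := jj_eq_of_jj_le h2 hRT
    refine ⟨jj (T : Subgroup G), ?_, h2, sup_le ?_ ?_⟩
    · intro h
      apply hV0
      obtain ⟨A, hA⟩ := AA_nonempty (T : Subgroup G)
      have h5 : A = ⊥ := le_bot_iff.1 (h ▸ le_jj hA)
      have h6 := hA.2.2 V hVe hVT
      rw [h5, card_bot] at h6
      exact eq_bot_of_card_le V h6
    · rw [← h4]
      exact hRn.trans (normalizer_le_jj _)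
    · rw [← h3]
      exact (le_normalizer_o2 H).trans (normalizer_le_jj _)
  -- the group `X = H`
  have hJ3 : ∃ A ∈ AA (T : Subgroup G), ¬ A ≤ o2 H := by
    push Not at hJ2
    exact hJ2
  set T' : Sylow 2 ↥H := T.subtype hTH with hT'
  have hT'c : (T' : Subgroup H) = (T : Subgroup G).subgroupOf H := rfl
  set W : Subgroup H := V.subgroupOf H with hW
  have hWmap : W.map H.subtype = V := map_subgroupOf_eq_of_le hVH
  have hTW : (T' : Subgroup H) ≤ normalizer (W : Set H) := by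
    rw [hT'c]
    intro t ht
    rw [mem_normalizer_iff]
    intro v
    exact mem_normalizer_iff.1 (hTV ht) v
  have hnn : ¬ W.Normal := fun h => hHV ((normal_subgroupOf_iff' hVH).1 h)
  have hnoq : ¬ QuadParamLE (T' : Subgroup H) W 2 := by
    intro h
    rw [hT'c] at h
    exact hq (quad_map hVH h)
  have hWQ : W ≤ pCore 2 ↥H := (le_o2_iff hVH).2 hVQ
  have hWe : IsElementaryAbelian 2 W := isElementaryAbelian_comap hVe H.subtype_injective
  have hQn : (pCore 2 ↥H).Normal := pCore_normal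
  have hWg : ∀ g : H, cj g W ≤ (T' : Subgroup H) := by
    intro g
    refine le_trans ?_ (pCore_le T')
    rintro _ ⟨w, hw, rfl⟩
    exact hQn.conj_mem w (hWQ hw) g
  have hUel : IsElementaryAbelian 2 (normalClosure (W : Set H)) := by
    refine Uel_of hWe fun g => ?_
    by_contra hcon
    exact hnoq (quad_of_pair hWe (hWg g) (hWg g⁻¹) ((hWg g).trans hTW) ((hWg g⁻¹).trans hTW) hcon)
  have hmin : IsMin (T' : Subgroup H) (M.subgroupOf H) := by rw [hT'c]; exact isMin_of_calHMin T hH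
  have hsit : Sit T' (M.subgroupOf H) W := ⟨hmin, hWQ, hTW, hUel, hnn, hnoq⟩
  obtain ⟨C, hC1, hC2, hC3⟩ := exists_C T hTM₀ hM₀M hTH hR hI
  have hWc : centralizer (W : Set H) = (centralizer (V : Set G)).subgroupOf H := centralizer_subgroupOf hVH
  have hfin : (T' : Subgroup H) ⊓ OO H ≤ centralizer (W : Set H) := by
    refine hsit.inf_OO_le hFF ?_ ?_ (C := C.subgroupOf H) ?_ ?_ ?_
    · intro A hA
      rw [hT'c, mem_AA_sub hTH] at hA
      have := hJ _ hA
      rw [← hWmap, map_le_centralizer_iff] at this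
      exact this
    · obtain ⟨A, hA, hAQ⟩ := hJ3
      have hAH : A ≤ H := hA.2.1.trans hTH
      refine ⟨A.subgroupOf H, ?_, ?_⟩
      · rw [hT'c, mem_AA_sub hTH, map_subgroupOf_eq_of_le hAH]
        exact hA
      · rw [le_o2_iff hAH]; exact hAQ
    · intro x hx
      exact (hC1 hx).2
    · intro m hm
      rw [mem_normalizer_iff]
      intro x
      exact mem_normalizer_iff.1 (hC2 ⟨m.2, hm⟩) x
    · rw [hT'c, hWc]
      ext x
      have h9 := SetLike.ext_iff.1 hC3 (x : G)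
      simp only [mem_inf, mem_subgroupOf] at h9 ⊢
      exact h9
  refine PushGen.main hE T hTM₀ hTH hHne hU hRne hRT ?_ hRn
  refine syl_of_inf_le hTsyl hRT (hTM₀.trans hRn) ?_
  rw [hR]
  refine le_inf inf_le_left ?_
  rintro x ⟨hxT, hxO⟩
  rw [SetLike.mem_coe, ← OO_map] at hxO
  obtain ⟨y, hy, rfl⟩ := hxO
  have h1 : y ∈ centralizer (W : Set H) := hfin (mem_inf.2 ⟨by rw [hT'c]; exact hxT, hy⟩)
  rw [hWc] at h1
  exact h1

end Cfsg.Agent.QrcE
end

-- part: QrcE/DGen
section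
/-!
# S1824, case `V ≰ O₂(H)`: class two

`J ⊴ T`, `V ≤ J ≤ C(V)`; for every `x ∉ M` the group `X` is generated by `J`, `J^x` and `R ≤ O₂(X)`.  Then
`[D, U]` is centralised by `O²(X)` (`D = V ∩ O₂(X)`, `U = ⟨D^X⟩`).
-/

set_option autoImplicit false
set_option linter.unusedVariables false
set_option linter.unusedSectionVars false

namespace Cfsg.Agent.QrcE

open Subgroup Cfsg Cfsg.Agent.MinSimple.MinParabolic Cfsg.Agent.Omega.FFBr Cfsg.Agent.Qrc
open Cfsg.Agent.PLocal.ThompsonJ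
open Cfsg.Agent.ZN.ChoiceBase (cj mem_cj cj_mono cj_le_iff cj_inv_cj cj_cj_inv card_cj cj_inf cj_centralizer
  isElementaryAbelian_cj mem_normalizer_iff_cj cj_cj cj_one mem_normalizer_of_cj_le cj_normalizer)
open scoped commutatorElement

universe u

variable {X : Type u} [Group X]

/-- `A` normalises `N` and `[A, B] ≤ N`: `A` normalises `N B` -/
theorem cj_sup_le_of_comm {A N B : Subgroup X} (hAN : A ≤ normalizer (N : Set X)) (h : ⁅A, B⁆ ≤ N) {a : X}
    (ha : a ∈ A) : cj a (N ⊔ B) ≤ N ⊔ B := by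
  rw [cj, Subgroup.map_sup]
  refine sup_le ?_ ?_
  · exact (mem_normalizer_iff_cj.1 (hAN ha)).le.trans le_sup_left
  · rintro _ ⟨b, hb, rfl⟩
    have h1 : ⁅a, b⁆ ∈ N := h (commutator_mem_commutator ha hb)
    have e : (MulAut.conj a).toMonoidHom b = ⁅a, b⁆ * b := by
      rw [commutatorElement_def]
      change a * b * a⁻¹ = _
      group
    rw [e]
    exact mul_mem (mem_sup_left h1) (mem_sup_right hb)

theorem le_normalizer_sup_of_comm [Finite X] {A N B : Subgroup X} (hAN : A ≤ normalizer (N : Set X))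
    (h : ⁅A, B⁆ ≤ N) : A ≤ normalizer ((N ⊔ B : Subgroup X) : Set X) := fun _ ha =>
  mem_normalizer_of_cj_le (cj_sup_le_of_comm hAN h ha)

/-- **class two** -/
theorem comm_dd_le [Finite X] {T : Sylow 2 X} {M V J R : Subgroup X} (h : Dit T M V)
    (hTJ : (T : Subgroup X) ≤ normalizer (J : Set X)) (hJT : J ≤ (T : Subgroup X)) (hVJ : V ≤ J)
    (hJV : J ≤ centralizer (V : Set X)) (hR : R ≤ pCore 2 X)
    (gen : ∀ x : X, x ∉ M → ∀ K : Subgroup X, J ≤ K → cj x J ≤ K → R ≤ K → K = ⊤) :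
    ⁅dd V, uu V⁆ ≤ centralizer ((OO X : Subgroup X) : Set X) := by
  set Q : Subgroup X := pCore 2 X with hQ
  have hQn : Q.Normal := pCore_normal
  have hQT : Q ≤ (T : Subgroup X) := pCore_le T
  set J0 : Subgroup X := J ⊓ Q with hJ0
  have hJ0Q : J0 ≤ Q := inf_le_right
  have hJQ : ⁅J, Q⁆ ≤ J0 := by
    refine le_inf ?_ (commutator_le_right _ _)
    exact comm_le_of_norm (hQT.trans hTJ)
  have hTJ0 : (T : Subgroup X) ≤ normalizer (J0 : Set X) := by
    intro t ht
    rw [mem_normalizer_iff_cj, hJ0, cj_inf, mem_normalizer_iff_cj.1 (hTJ ht), hQ, cj_pCore]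
  have hcjJ0 : ∀ x : X, cj x J0 ≤ Q := by
    intro x
    have := cj_mono x hJ0Q
    rwa [hQ, cj_pCore] at this
  have hQJ0 : ∀ x : X, Q ≤ normalizer ((cj x J0 : Subgroup X) : Set X) := by
    intro x
    have h1 := cj_mono x (hQT.trans hTJ0)
    rwa [hQ, cj_pCore, cj_normalizer] at h1
  -- `J₀ J₀^x` is normal
  have hnorm : ∀ x : X, x ∉ M → (J0 ⊔ cj x J0).Normal := by
    intro x hx
    rw [← normalizer_eq_top_iff]
    refine gen x hx _ ?_ ?_ ?_
    · exact le_normalizer_sup_of_comm (hJT.trans hTJ0) ((commutator_mono le_rfl (hcjJ0 x)).trans hJQ)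
    · have h1 : cj x J ≤ normalizer ((cj x J0 : Subgroup X) : Set X) := by
        rw [← cj_normalizer]
        exact cj_mono x (hJT.trans hTJ0)
      have h2 : ⁅cj x J, J0⁆ ≤ cj x J0 := by
        have h3 := cj_mono x ((commutator_mono (le_refl J) (hcjJ0 x⁻¹)).trans hJQ)
        rwa [cj_commutator, cj_cj_inv] at h3
      rw [sup_comm]
      exact le_normalizer_sup_of_comm h1 h2
    · refine hR.trans ?_
      intro q hq
      refine mem_normalizer_of_cj_le ?_
      rw [cj, Subgroup.map_sup]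
      exact sup_le_sup (mem_normalizer_iff_cj.1 (hTJ0 (hQT hq))).le (mem_normalizer_iff_cj.1 (hQJ0 x hq)).le
  have hDJ0 : dd V ≤ J0 := inf_le_inf_right _ hVJ
  have huu : ∀ x : X, x ∉ M → uu V ≤ J0 ⊔ cj x J0 := by
    intro x hx
    have := hnorm x hx
    exact normalClosure_le_normal (hDJ0.trans le_sup_left)
  -- `[D, U] ≤ J₀^x`
  have hcomm : ∀ x : X, x ∉ M → ⁅dd V, uu V⁆ ≤ cj x J0 := by
    intro x hx
    refine (commutator_mono le_rfl (huu x hx)).trans ?_
    rw [commutator_le]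
    intro d hd u hu
    rw [← SetLike.mem_coe, coe_mul_of_left_le_normalizer_right J0 (cj x J0) (hJ0Q.trans (hQJ0 x))] at hu
    obtain ⟨a, ha, b, hb, rfl⟩ := hu
    have hab : a * d = d * a := (mem_centralizer_iff.1 (hJV (hJ0 ▸ ha : a ∈ J ⊓ Q).1) d hd.1).symm
    have hdQ : d ∈ Q := hd.2
    -- `[d, b] ∈ D ∩ J₀^x`
    have h1 : ⁅d, b⁆ ∈ cj x J0 := by
      have h2 : ⁅cj x J0, Q⁆ ≤ cj x J0 := comm_le_of_norm (hQJ0 x)
      rw [← commutatorElement_inv]
      exact inv_mem (h2 (commutator_mem_commutator hb hdQ))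
    have h2 : ⁅d, b⁆ ∈ V := by
      have h3 : ⁅V, Q⁆ ≤ V := comm_le_of_norm (hQT.trans h.TV)
      exact h3 (commutator_mem_commutator hd.1 (hcjJ0 x hb))
    have h3 : a * ⁅d, b⁆ = ⁅d, b⁆ * a :=
      (mem_centralizer_iff.1 (hJV (hJ0 ▸ ha : a ∈ J ⊓ Q).1) _ h2).symm
    have e : ⁅d, a * b⁆ = ⁅d, b⁆ := by
      have e1 : ⁅d, a * b⁆ = (d * a * d⁻¹ * a⁻¹) * (a * ⁅d, b⁆ * a⁻¹) := by
        rw [commutatorElement_def, commutatorElement_def]; group
      rw [e1, h3, ← hab]
      group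
    change ⁅d, a * b⁆ ∈ _
    rw [e]
    exact h1
  -- the group generated by `V^x`, `x ∉ M`
  set C : Subgroup X := centralizer ((⁅dd V, uu V⁆ : Subgroup X) : Set X) with hC
  have hVC : ∀ x : X, x ∉ M → cj x V ≤ C := by
    intro x hx
    rw [hC, le_centralizer_iff]
    refine (hcomm x hx).trans ?_
    rw [← cj_centralizer]
    exact cj_mono x (inf_le_left.trans hJV)
  rw [le_centralizer_iff]
  set Y : Subgroup X := ⨆ x : {x : X // x ∉ M}, cj (x : X) V with hY
  have hYC : Y ≤ C := iSup_le fun x => hVC x x.2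
  have hTM : (T : Subgroup X) ≤ M := by
    refine h.min.le_of _ le_rfl fun h1 => h.VQ ?_
    have hn : (T : Subgroup X).Normal := by rw [h1]; infer_instance
    exact h.VT.trans (Lib.Cores.le_pCore hn T.isPGroup')
  have hMY : M ≤ normalizer (Y : Set X) := by
    intro m hm
    refine mem_normalizer_of_cj_le ?_
    rw [cj, hY, Subgroup.map_iSup]
    refine iSup_le fun x => ?_
    have h1 : m * (x : X) ∉ M := fun h2 => x.2 ((M.mul_mem_cancel_left hm).1 h2)
    have h2 : cj m (cj (x : X) V) = cj (m * (x : X)) V := cj_cj m x V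
    change cj m (cj (x : X) V) ≤ _
    rw [h2]
    exact le_iSup (fun x : {x : X // x ∉ M} => cj (x : X) V) ⟨m * (x : X), h1⟩
  have hYn : normalizer (Y : Set X) = ⊤ := by
    by_contra hne
    have h1 : normalizer (Y : Set X) ≤ M := h.min.le_of _ (hTM.trans hMY) hne
    have h2 : Y ≤ M := le_normalizer.trans h1
    have h3 : normalClosure (V : Set X) ≤ M := by
      rw [normalClosure, closure_le]
      intro y hy
      obtain ⟨v, hv, hvy⟩ := Group.mem_conjugatesOfSet_iff.1 hy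
      obtain ⟨g, rfl⟩ := isConj_iff.1 hvy
      by_cases hg : g ∈ M
      · exact M.mul_mem (M.mul_mem hg (hTM (h.VT hv))) (M.inv_mem hg)
      · refine h2 ?_
        exact (le_iSup (fun x : {x : X // x ∉ M} => cj (x : X) V) ⟨g, hg⟩) ⟨v, hv, rfl⟩
    apply h.min.ne_top
    rw [eq_top_iff, ← OO_sup T]
    exact sup_le (h.OO_le_ncl.trans h3) hTM
  have hYnormal : Y.Normal := normalizer_eq_top_iff.1 hYn
  obtain ⟨x, hx⟩ : ∃ x : X, x ∉ M := by
    by_contra hcon
    push Not at hcon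
    exact h.min.ne_top (eq_top_iff.2 fun x _ => hcon x)
  have hVY : V ≤ Y := by
    intro v hv
    have h1 : x * v * x⁻¹ ∈ Y :=
      (le_iSup (fun x : {x : X // x ∉ M} => cj (x : X) V) ⟨x, hx⟩) ⟨v, hv, rfl⟩
    have h2 := hYnormal.conj_mem _ h1 x⁻¹
    have e : x⁻¹ * (x * v * x⁻¹) * x⁻¹⁻¹ = v := by group
    rwa [e] at h2
  exact (h.OO_le_ncl.trans (normalClosure_le_normal hVY)).trans hYC

end Cfsg.Agent.QrcE
end

-- part: QrcE/DWc
section
/-!
# S1824, case `V ≰ O₂(H)`: `J(T)` and the minimal subgroup `L` over `J(T) O₂(H)`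
-/

set_option autoImplicit false
set_option linter.unusedVariables false
set_option linter.unusedSectionVars false

namespace Cfsg.Agent.QrcE

open Subgroup Cfsg Cfsg.Agent.MinSimple.MinParabolic Cfsg.Agent.Omega.FFBr Cfsg.Agent.Qrc
open Cfsg.Agent.PLocal.ThompsonJ
open Cfsg.Agent.ZN (o2 jj)
open Cfsg.Agent.ZN.ChoiceSit (o2_le isPGroup_o2 le_o2 le_normalizer_o2 o2_le_syl Syl exists_syl syl_conj)
open Cfsg.Agent.ZN.ChoiceBase (AA AA_nonempty mem_AA_iff le_jj jj_le jj_eq jj_eq_of_jj_le normalizer_le_jj jj_mono mm_eq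
  mm_cj jj_cj mm mm_mono
  cj mem_cj cj_mono cj_le_iff cj_inv_cj cj_cj_inv card_cj cj_inf cj_centralizer isPGroup_cj
  isElementaryAbelian_cj mem_normalizer_iff_cj cj_cj cj_one mem_normalizer_of_cj_le cj_normalizer)
open scoped commutatorElement

universe u

variable {X : Type u} [Group X]

theorem cubic_of_quad {T V : Subgroup X} {r : ℕ} (h : QuadParamLE T V r) : CubicParamLE T V r := by
  obtain ⟨B, hB, h1, h2, h3⟩ := h
  exact ⟨B, hB, h1, by rw [h2, commutator_bot_left], h3⟩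

theorem cubic_map {H T V : Subgroup X} {r : ℕ} (hVH : V ≤ H)
    (h : CubicParamLE (T.subgroupOf H) (V.subgroupOf H) r) : CubicParamLE T V r := by
  obtain ⟨B, hBT, ⟨h1, h2, h3⟩, h4, h5⟩ := h
  set W : Subgroup H := V.subgroupOf H with hW
  have hV : V = W.map H.subtype := (map_subgroupOf_eq_of_le hVH).symm
  refine ⟨B.map H.subtype, ?_, ⟨?_, ?_, ?_⟩, ?_, ?_⟩
  · rw [map_le_iff_le_comap]; exact hBT
  · rw [hV, map_le_centralizer_iff]; exact h1
  · rintro _ ⟨b, hb, rfl⟩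
    have := h2 b hb
    rw [← comap_centralizer_map, ← hV] at this
    exact this
  · rintro _ ⟨b, hb, rfl⟩ _ ⟨c, hc, rfl⟩
    have := h3 b hb c hc
    rw [← comap_centralizer_map, ← hV] at this
    exact this
  · rw [hV, ← map_commutator, ← map_commutator, ← map_commutator, h4, Subgroup.map_bot]
  · have e1 : (V ⊓ centralizer ((B.map H.subtype : Subgroup X) : Set X)).relIndex V =
        (W ⊓ centralizer (B : Set H)).relIndex W := by
      conv_lhs => rw [hV]
      rw [← relIndex_comap, Subgroup.comap_inf, comap_centralizer_map,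
        comap_map_eq_self_of_injective H.subtype_injective]
    have e2 : (centralizer (V : Set X)).relIndex (B.map H.subtype) = (centralizer (W : Set H)).relIndex B := by
      rw [← relIndex_comap, hV, comap_centralizer_map]
    rw [e1, e2]
    exact h5

section

variable {T : Sylow 2 X} {M V : Subgroup X} (h : Dit T M V)
include h

theorem _root_.Cfsg.Agent.Qrc.Dit.T_le_M [Finite X] : (T : Subgroup X) ≤ M := by
  refine h.min.le_of _ le_rfl fun h1 => h.VQ ?_
  have hn : (T : Subgroup X).Normal := by rw [h1]; infer_instance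
  exact h.VT.trans (Lib.Cores.le_pCore hn T.isPGroup')

/-- a `T`-invariant 2-subgroup `K` with `V ≤ K` has `N(K) ≤ M` -/
theorem _root_.Cfsg.Agent.Qrc.Dit.normalizer_le [Finite X] {K : Subgroup X} (hVK : V ≤ K) (hK : IsPGroup 2 K)
    (hTK : (T : Subgroup X) ≤ normalizer (K : Set X)) : normalizer (K : Set X) ≤ M := by
  refine h.min.le_of _ hTK fun h1 => h.VQ ?_
  exact hVK.trans (Lib.Cores.le_pCore (normalizer_eq_top_iff.1 h1) hK)

theorem _root_.Cfsg.Agent.Qrc.Dit.noq : ¬ QuadParamLE (T : Subgroup X) V 2 := fun h1 => h.no (cubic_of_quad h1)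

theorem _root_.Cfsg.Agent.Qrc.Dit.AA_le [Finite X] {A : Subgroup X} (hA : A ∈ AA (T : Subgroup X)) :
    A ≤ centralizer (V : Set X) := by
  by_contra hcon
  exact h.noq (quad_of_AA h.el h.VT h.TV hA hcon)

theorem _root_.Cfsg.Agent.Qrc.Dit.le_AA [Finite X] {A : Subgroup X} (hA : A ∈ AA (T : Subgroup X)) : V ≤ A := by
  have h1 := h.AA_le hA
  have h2 : IsElementaryAbelian 2 (A ⊔ V : Subgroup X) :=
    PLocal.ElemAbSup.isElementaryAbelian_sup hA.1 h.el (le_centralizer_iff.1 h1)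
  have h3 := hA.2.2 _ h2 (sup_le hA.2.1 h.VT)
  have h4 : A = A ⊔ V := eq_of_le_of_card_ge le_sup_left h3
  rw [h4]
  exact le_sup_right

theorem _root_.Cfsg.Agent.Qrc.Dit.V_le_jj [Finite X] : V ≤ jj (T : Subgroup X) := by
  obtain ⟨A, hA⟩ := AA_nonempty (T : Subgroup X)
  exact (h.le_AA hA).trans (le_jj hA)

theorem _root_.Cfsg.Agent.Qrc.Dit.jj_le_centralizer [Finite X] : jj (T : Subgroup X) ≤ centralizer (V : Set X) := by
  rw [jj_eq]
  exact sSup_le fun A hA => h.AA_le hA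

theorem _root_.Cfsg.Agent.Qrc.Dit.T_le_jj : (T : Subgroup X) ≤ normalizer ((jj (T : Subgroup X) : Subgroup X) : Set X) :=
  le_normalizer.trans (normalizer_le_jj _)

theorem _root_.Cfsg.Agent.Qrc.Dit.jj_normalizer_le [Finite X] :
    normalizer ((jj (T : Subgroup X) : Subgroup X) : Set X) ≤ M :=
  h.normalizer_le h.V_le_jj (T.isPGroup'.to_le (jj_le _)) h.T_le_jj

end

/-- `J(T)` is weakly closed -/
theorem jj_wc [Finite X] {T : Subgroup X} {g : X} (hg : jj T ≤ cj g T) : g ∈ normalizer ((jj T : Subgroup X) : Set X) := by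
  have hm : mm (cj g T) = mm T := mm_cj g T
  have h1 : jj T ≤ jj (cj g T) := by
    rw [jj_eq, jj_eq (cj g T)]
    refine sSup_le fun A hA => le_sSup ?_
    rw [mem_AA_iff]
    exact ⟨hA.1, (le_jj hA).trans hg, by rw [hm]; exact (mm_eq hA).le⟩
  rw [jj_cj] at h1
  have h2 : jj T = cj g (jj T) := eq_of_le_of_card_ge h1 (card_cj g _).le
  rw [mem_normalizer_iff_cj]
  exact h2.symm

/-- conjugation of Sylow subgroups -/
theorem exists_cj_le [Finite X] (T : Sylow 2 X) {P : Subgroup X} (hP : IsPGroup 2 P) : ∃ g : X, P ≤ cj g (T : Subgroup X) := by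
  have hT : Syl (T : Subgroup X) ⊤ := PushGen.sylow_syl T le_top
  obtain ⟨S, hS, hPS⟩ := exists_syl hP (le_top : P ≤ ⊤)
  obtain ⟨x, -, hx⟩ := syl_conj hS hT
  refine ⟨x⁻¹, ?_⟩
  rw [← hx, cj_inv_cj]
  exact hPS

theorem exists_cj_le' [Finite X] (T : Sylow 2 X) {P M : Subgroup X} (hTM : (T : Subgroup X) ≤ M) (hP : IsPGroup 2 P)
    (hPM : P ≤ M) : ∃ g ∈ M, P ≤ cj g (T : Subgroup X) := by
  have hT : Syl (T : Subgroup X) M := PushGen.sylow_syl T hTM
  obtain ⟨S, hS, hPS⟩ := exists_syl hP hPM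
  obtain ⟨x, hxM, hx⟩ := syl_conj hS hT
  refine ⟨x⁻¹, inv_mem hxM, ?_⟩
  rw [← hx, cj_inv_cj]
  exact hPS

/-- **the minimal subgroup** `L` over `J(T) O₂(X)` not in `M` -/
theorem exists_L [Finite X] {T : Sylow 2 X} {M V : Subgroup X} (h : Dit T M V) :
    ∃ L : Subgroup X, jj (T : Subgroup X) ≤ L ∧ pCore 2 X ≤ L ∧ ¬ L ≤ M ∧
      (∀ Y : Subgroup X, jj (T : Subgroup X) ≤ Y → pCore 2 X ≤ Y → Y ≤ L → Y ≠ L → Y ≤ M) ∧
      Syl ((T : Subgroup X) ⊓ L) L := by
  set J := jj (T : Subgroup X) with hJ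
  set Q := pCore 2 X with hQ
  let S : Set (Subgroup X) := {L | J ≤ L ∧ Q ≤ L ∧ ¬ L ≤ M}
  obtain ⟨L, ⟨hJL, hQL, hLM⟩, hmin⟩ := Set.exists_min_image S (fun L => Nat.card L) (Set.toFinite _)
    ⟨⊤, le_top, le_top, fun h1 => h.min.ne_top (top_le_iff.1 h1)⟩
  have hminL : ∀ L' : Subgroup X, Nat.card L' = Nat.card L → ∀ Y : Subgroup X, J ≤ Y → Q ≤ Y → Y ≤ L' → Y ≠ L' →
      Y ≤ M := by
    intro L' hL' Y h1 h2 h3 h4
    by_contra h5
    have h6 := hmin Y ⟨h1, h2, h5⟩
    exact h4 (eq_of_le_of_card_ge h3 (by rw [hL']; exact h6))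
  have hJ2 : IsPGroup 2 J := T.isPGroup'.to_le (jj_le _)
  have hQn : Q.Normal := pCore_normal
  have hJQ2 : IsPGroup 2 (J ⊔ Q : Subgroup X) := T.isPGroup'.to_le (sup_le (jj_le _) (pCore_le T))
  obtain ⟨P, hP, hJQP⟩ := exists_syl hJQ2 (sup_le hJL hQL)
  obtain ⟨g, hg⟩ := exists_cj_le T hP.2.1
  have hgJ : g ∈ normalizer (J : Set X) := jj_wc ((le_sup_left.trans hJQP).trans hg)
  have hgM : g ∈ M := h.jj_normalizer_le hgJ
  have hJg : cj g⁻¹ J = J := mem_normalizer_iff_cj.1 (inv_mem hgJ)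
  have hQg : cj g⁻¹ Q = Q := cj_pCore g⁻¹
  refine ⟨cj g⁻¹ L, ?_, ?_, ?_, ?_, ?_⟩
  · rw [← hJg]; exact cj_mono _ hJL
  · rw [← hQg]; exact cj_mono _ hQL
  · intro h1
    apply hLM
    intro x hx
    have h2 : g⁻¹ * x * g⁻¹⁻¹ ∈ M := h1 ⟨x, hx, rfl⟩
    have h3 := M.mul_mem (M.mul_mem hgM h2) (M.inv_mem hgM)
    have e : g * (g⁻¹ * x * g⁻¹⁻¹) * g⁻¹ = x := by group
    rwa [e] at h3
  · exact hminL _ (card_cj g⁻¹ L)
  · have h1 : cj g⁻¹ P ≤ (T : Subgroup X) := by
      rw [cj_le_iff, inv_inv]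
      exact hg
    refine ⟨inf_le_right, T.isPGroup'.to_le inf_le_left, fun Z hZ hZ2 hTZ => ?_⟩
    have h2 : cj g⁻¹ P ≤ (T : Subgroup X) ⊓ cj g⁻¹ L := le_inf h1 (cj_mono _ hP.1)
    -- `cj g Z` is a 2-subgroup of `L` over `P`
    have h3 : P ≤ cj g Z := by
      have := cj_mono g (h2.trans hTZ)
      rwa [cj_cj_inv] at this
    have h4 : cj g Z ≤ L := by
      have := cj_mono g hZ
      rwa [cj_cj_inv] at this
    have h5 := hP.2.2 (cj g Z) h4 (isPGroup_cj g hZ2) h3
    refine le_antisymm ?_ hTZ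
    refine le_trans ?_ h2
    rw [← h5, cj_inv_cj]

end Cfsg.Agent.QrcE
end

-- part: QrcE/DRed
section
/-!
# S1824, case `V ≰ O₂(H)`: the reduction to class two
-/

set_option autoImplicit false
set_option linter.unusedVariables false
set_option linter.unusedSectionVars false

namespace Cfsg.Agent.QrcE

open Subgroup Cfsg Cfsg.Agent.MinSimple.MinParabolic Cfsg.Agent.Omega.FFBr Cfsg.Agent.Qrc
open Cfsg.Agent.PLocal.ThompsonJ
open Cfsg.Agent.ZN (o2 jj)
open Cfsg.Agent.ZN.ChoiceSit (o2_le isPGroup_o2 le_o2 le_normalizer_o2 o2_le_syl Syl exists_syl syl_conj syl_iff)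
open Cfsg.Agent.ZN.ChoiceBase (AA AA_nonempty mem_AA_iff le_jj jj_le jj_eq jj_eq_of_jj_le normalizer_le_jj jj_mono mm_eq
  mm_cj jj_cj mm mm_mono
  cj mem_cj cj_mono cj_le_iff cj_inv_cj cj_cj_inv card_cj cj_inf cj_centralizer isPGroup_cj
  isElementaryAbelian_cj mem_normalizer_iff_cj cj_cj cj_one mem_normalizer_of_cj_le cj_normalizer)
open scoped commutatorElement

universe u

variable {X : Type u} [Group X]

/-- the data of `exists_L` -/
structure LL (T : Sylow 2 X) (M V L : Subgroup X) : Prop where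
  d : Dit T M V
  JL : jj (T : Subgroup X) ≤ L
  QL : pCore 2 X ≤ L
  nLM : ¬ L ≤ M
  lmin : ∀ Y : Subgroup X, jj (T : Subgroup X) ≤ Y → pCore 2 X ≤ Y → Y ≤ L → Y ≠ L → Y ≤ M
  syl : Syl ((T : Subgroup X) ⊓ L) L

theorem exists_LL [Finite X] {T : Sylow 2 X} {M V : Subgroup X} (h : Dit T M V) : ∃ L : Subgroup X, LL T M V L := by
  obtain ⟨L, h1, h2, h3, h4, h5⟩ := exists_L h
  exact ⟨L, h, h1, h2, h3, h4, h5⟩

theorem map_conj_subtype {L : Subgroup X} (x : L) (K : Subgroup L) :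
    (cj x K).map L.subtype = cj (x : X) (K.map L.subtype) := by
  ext y
  constructor
  · rintro ⟨_, ⟨k, hk, rfl⟩, rfl⟩
    exact ⟨k, ⟨k, hk, rfl⟩, rfl⟩
  · rintro ⟨_, ⟨k, hk, rfl⟩, rfl⟩
    exact ⟨x * k * x⁻¹, ⟨k, hk, rfl⟩, rfl⟩

theorem comm_sup_le {Y : Type u} [Group Y] {A B C : Subgroup Y} [A.Normal] [hB : B.Normal] [hC : C.Normal] :
    ⁅A, B ⊔ C⁆ ≤ ⁅A, B⁆ ⊔ ⁅A, C⁆ := by
  rw [commutator_le]
  intro a ha x hx
  obtain ⟨b, hb, c, hc, rfl⟩ := mem_sup_of_normal_left.1 hx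
  have hn : (⁅A, C⁆).Normal := commutator_normal A C
  have e : ⁅a, b * c⁆ = ⁅a, b⁆ * (b * ⁅a, c⁆ * b⁻¹) := by
    rw [commutatorElement_def, commutatorElement_def, commutatorElement_def]; group
  rw [e]
  exact mul_mem (mem_sup_left (commutator_mem_commutator ha hb))
    (mem_sup_right (hn.conj_mem _ (commutator_mem_commutator ha hc) b))

namespace LL

variable [Finite X] {T : Sylow 2 X} {M V L : Subgroup X} (h : LL T M V L)
include h

theorem exists_T : ∃ S : Sylow 2 L, (S : Subgroup L) = (T : Subgroup X).subgroupOf L := by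
  obtain ⟨S, hS⟩ := syl_iff.1 h.syl
  refine ⟨S, ?_⟩
  have h1 : ((S : Subgroup L).map L.subtype).subgroupOf L = (S : Subgroup L) :=
    comap_map_eq_self_of_injective L.subtype_injective _
  rw [← h1, hS, inf_subgroupOf_right]

theorem VL : V ≤ L := h.d.V_le_jj.trans h.JL

theorem JT : jj (T : Subgroup X) ≤ (T : Subgroup X) ⊓ L := le_inf (jj_le _) h.JL

theorem isMin : IsMin ((T : Subgroup X).subgroupOf L) (M.subgroupOf L) := by
  refine ⟨fun h1 => h.nLM (subgroupOf_eq_top.1 h1), fun K hTK hK => ?_⟩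
  have h1 : K.map L.subtype ≤ M := by
    refine h.lmin _ ?_ ?_ (map_subtype_le K) fun h2 => hK ?_
    · intro t ht
      exact ⟨⟨t, h.JL ht⟩, hTK (show t ∈ (T : Subgroup X) from jj_le _ ht), rfl⟩
    · intro t ht
      exact ⟨⟨t, h.QL ht⟩, hTK (pCore_le T ht), rfl⟩
    · rw [eq_top_iff]
      intro x _
      have hx : (x : X) ∈ K.map L.subtype := by rw [h2]; exact x.2
      obtain ⟨y, hy, hyx⟩ := hx
      rwa [← Subtype.ext hyx]
  intro x hx
  exact h1 ⟨x, hx, rfl⟩

theorem sup_T : L ⊔ (T : Subgroup X) = ⊤ := by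
  by_contra h1
  exact h.nLM (le_sup_left.trans (h.d.min.le_of _ le_sup_right h1))

/-- a subgroup normalised by `T` and `L` is normal -/
theorem normal_of {K : Subgroup X} (hT : (T : Subgroup X) ≤ normalizer (K : Set X)) (hL : L ≤ normalizer (K : Set X)) :
    K.Normal := by
  rw [← normalizer_eq_top_iff, eq_top_iff, ← h.sup_T]
  exact sup_le hL hT

/-- generation -/
theorem gen (x : L) (hx : x ∉ M.subgroupOf L) (K : Subgroup L) (h1 : (jj (T : Subgroup X)).subgroupOf L ≤ K)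
    (h2 : cj x ((jj (T : Subgroup X)).subgroupOf L) ≤ K) (h3 : (pCore 2 X).subgroupOf L ≤ K) : K = ⊤ := by
  by_contra hK
  have hKM : K.map L.subtype ≤ M := by
    refine h.lmin _ ?_ ?_ (map_subtype_le K) fun h2 => hK ?_
    · intro t ht
      exact ⟨⟨t, h.JL ht⟩, h1 ht, rfl⟩
    · intro t ht
      exact ⟨⟨t, h.QL ht⟩, h3 ht, rfl⟩
    · rw [eq_top_iff]
      intro x _
      have hx : (x : X) ∈ K.map L.subtype := by rw [h2]; exact x.2
      obtain ⟨y, hy, hyx⟩ := hx
      rwa [← Subtype.ext hyx]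
  apply hx
  change (x : X) ∈ M
  -- `J^x ≤ M`
  have h4 : cj (x : X) (jj (T : Subgroup X)) ≤ M := by
    have h5 := map_mono (f := L.subtype) h2
    rw [map_conj_subtype, map_subgroupOf_eq_of_le h.JL] at h5
    exact h5.trans hKM
  have hJ2 : IsPGroup 2 (jj (T : Subgroup X)) := T.isPGroup'.to_le (jj_le _)
  obtain ⟨m, hm, hm2⟩ := exists_cj_le' T h.d.T_le_M (isPGroup_cj _ hJ2) h4
  have h5 : jj (T : Subgroup X) ≤ cj ((x : X)⁻¹ * m) (T : Subgroup X) := by
    have := cj_mono (x : X)⁻¹ hm2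
    rwa [cj_inv_cj, cj_cj] at this
  have h6 := h.d.jj_normalizer_le (jj_wc h5)
  have h7 := M.mul_mem h6 (M.inv_mem hm)
  rw [mul_inv_cancel_right] at h7
  have h8 := M.inv_mem h7
  rwa [inv_inv] at h8

theorem hTL {t : L} (ht : t ∈ (T : Subgroup X).subgroupOf L) : (t : X) ∈ (T : Subgroup X) := ht

theorem sub_norm {K : Subgroup X} (hK : (T : Subgroup X) ≤ normalizer (K : Set X)) :
    (T : Subgroup X).subgroupOf L ≤ normalizer ((K.subgroupOf L : Subgroup L) : Set L) := by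
  intro t ht
  rw [mem_normalizer_iff]
  intro v
  exact mem_normalizer_iff.1 (hK ht) (v : X)

/-- **case B** -/
theorem dit {S : Sylow 2 L} (hS : (S : Subgroup L) = (T : Subgroup X).subgroupOf L)
    (hV : ¬ V.subgroupOf L ≤ pCore 2 L) : Dit S (M.subgroupOf L) (V.subgroupOf L) := by
  have hVL := h.VL
  refine ⟨by rw [hS]; exact h.isMin, ?_, ?_, ?_, ?_, hV, ?_⟩
  · have h1 : pCore 2 X ≤ o2 L := by
      refine le_o2 (Lib.Cores.pCore_isPGroup 2) h.QL ?_
      have : (pCore 2 X).Normal := pCore_normal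
      exact le_normalizer_of_normal
    intro x hx
    have h2 : (x : X) ∈ centralizer ((pCore 2 X : Subgroup X) : Set X) := by
      rw [mem_centralizer_iff]
      intro q hq
      obtain ⟨y, hy, hyq⟩ := h1 hq
      have h3 := mem_centralizer_iff.1 hx y hy
      rw [← hyq]
      exact congrArg Subtype.val h3
    have h3 := h1 (h.d.c2 h2)
    obtain ⟨y, hy, hyx⟩ := h3
    rwa [← Subtype.ext hyx]
  · rw [hS]
    exact fun x hx => h.d.VT hx
  · rw [hS]
    exact h.sub_norm h.d.TV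
  · exact isElementaryAbelian_comap h.d.el L.subtype_injective
  · rw [hS]
    intro h1
    exact h.d.no (cubic_map hVL h1)

theorem caseB (hFF : AStmt.{u}) {S : Sylow 2 L} (hS : (S : Subgroup L) = (T : Subgroup X).subgroupOf L)
    (hV : ¬ V.subgroupOf L ≤ pCore 2 L) :
    ⁅dd (V.subgroupOf L), uu (V.subgroupOf L)⁆ ≤ centralizer ((OO L : Subgroup L) : Set L) := by
  refine comm_dd_le (h.dit hS hV) (J := (jj (T : Subgroup X)).subgroupOf L) (R := (pCore 2 X).subgroupOf L)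
    ?_ ?_ ?_ ?_ ?_ h.gen
  · rw [hS]; exact h.sub_norm h.d.T_le_jj
  · rw [hS]; exact fun x hx => (show (x : X) ∈ (T : Subgroup X) from jj_le _ hx)
  · exact fun x hx => h.d.V_le_jj hx
  · rw [centralizer_subgroupOf h.VL]
    exact fun x hx => h.d.jj_le_centralizer hx
  · refine Lib.Cores.le_pCore ?_ ?_
    · have : (pCore 2 X).Normal := pCore_normal
      exact normal_subgroupOf
    · exact (Lib.Cores.pCore_isPGroup (G := X) 2).comap_of_injective _ L.subtype_injective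

/-- **case A** -/
theorem caseA (hFF : AStmt.{u}) {S : Sylow 2 L} (hS : (S : Subgroup L) = (T : Subgroup X).subgroupOf L)
    (hV : V.subgroupOf L ≤ pCore 2 L) : False := by
  have hVL := h.VL
  set W0 : Subgroup L := V.subgroupOf L with hW0
  have hWmap : W0.map L.subtype = V := map_subgroupOf_eq_of_le hVL
  have hnormV : ¬ L ≤ normalizer (V : Set X) := fun h1 => h.nLM (h1.trans
    (h.d.normalizer_le le_rfl (T.isPGroup'.to_le h.d.VT) h.d.TV))
  have hSV : (S : Subgroup L) ≤ normalizer (W0 : Set L) := by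
    rw [hS]; exact h.sub_norm h.d.TV
  have hnoq : ¬ QuadParamLE (S : Subgroup L) W0 2 := by
    intro h1
    rw [hS] at h1
    exact h.d.noq (quad_map hVL h1)
  have hWe : IsElementaryAbelian 2 W0 := isElementaryAbelian_comap h.d.el L.subtype_injective
  have hQn : (pCore 2 ↥L).Normal := pCore_normal
  have hWg : ∀ g : L, cj g W0 ≤ (S : Subgroup L) := by
    intro g
    refine le_trans ?_ (pCore_le S)
    rintro _ ⟨w, hw, rfl⟩
    exact hQn.conj_mem w (hV hw) g
  have hUel : IsElementaryAbelian 2 (normalClosure (W0 : Set L)) := by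
    refine Uel_of hWe fun g => ?_
    by_contra hcon
    exact hnoq (quad_of_pair hWe (hWg g) (hWg g⁻¹) ((hWg g).trans hSV) ((hWg g⁻¹).trans hSV) hcon)
  have hsit : Sit S (M.subgroupOf L) W0 :=
    ⟨by rw [hS]; exact h.isMin, hV, hSV, hUel, fun h1 => hnormV ((normal_subgroupOf_iff' hVL).1 h1), hnoq⟩
  -- `J(T) ≰ O₂(L)`
  have hJTL : jj ((T : Subgroup X) ⊓ L) = jj (T : Subgroup X) := jj_eq_of_jj_le h.JT inf_le_left
  obtain ⟨A, hA, hAL⟩ : ∃ A ∈ AA (S : Subgroup L), ¬ A ≤ pCore 2 L := by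
    by_contra hcon
    push Not at hcon
    have h1 : jj ((T : Subgroup X) ⊓ L) ≤ o2 L := by
      rw [jj_eq]
      refine sSup_le fun A hA => ?_
      have hAL : A ≤ L := hA.2.1.trans inf_le_right
      have h2 : A.subgroupOf L ∈ AA (((T : Subgroup X) ⊓ L).subgroupOf L) := by
        rw [mem_AA_sub inf_le_right, map_subgroupOf_eq_of_le hAL]
        exact hA
      rw [inf_subgroupOf_right, ← hS] at h2
      have h3 := hcon _ h2
      exact (le_o2_iff hAL).1 h3
    have h2 := jj_eq_of_jj_le h1 (o2_le_syl h.syl)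
    apply h.nLM
    refine le_trans ?_ h.d.jj_normalizer_le
    rw [← hJTL, ← h2]
    exact (le_normalizer_o2 L).trans (normalizer_le_jj _)
  set U : Subgroup L := normalClosure (W0 : Set L) with hU
  have hUn : U.Normal := normalClosure_normal
  set W : Subgroup L := ⁅U, OO L⁆ with hW
  have hWn : W.Normal := commutator_normal U (OO L)
  have hWU : W ≤ U := commutator_le_left U (OO L)
  have hWW : ⁅W, OO L⁆ = W := comm_comm_eq hsit.U_isPGroup
  obtain ⟨D, hDn, hD⟩ := exists_chief (isElementaryAbelian_mono hUel hWU) hWW hsit.comm_ne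
  have hDL : ⁅D, OO L⁆ = ⊥ := hsit.comm_D hFF hA hAL hD
  set R : Subgroup L := (pCore 2 X).subgroupOf L with hR
  have hRn : R.Normal := by
    have : (pCore 2 X).Normal := pCore_normal
    exact normal_subgroupOf
  have hXn : (pCore 2 X).Normal := pCore_normal
  -- `V Q` is not normal
  have hVQ : ¬ (V ⊔ pCore 2 X).Normal := by
    intro h1
    apply h.d.VQ
    refine le_sup_left.trans (Lib.Cores.le_pCore h1 ?_)
    exact T.isPGroup'.to_le (sup_le h.d.VT (pCore_le T))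
  have hTVQ : (T : Subgroup X) ≤ normalizer ((V ⊔ pCore 2 X : Subgroup X) : Set X) := by
    intro t ht
    refine mem_normalizer_of_cj_le ?_
    rw [cj, Subgroup.map_sup]
    exact sup_le_sup (mem_normalizer_iff_cj.1 (h.d.TV ht)).le (cj_pCore t).le
  have hLgen : ∀ K : Subgroup X, (T : Subgroup X) ≤ normalizer (K : Set X) →
      (∀ l ∈ OO L, (l : X) ∈ normalizer (K : Set X)) → K.Normal := by
    intro K hTK hOK
    refine h.normal_of hTK ?_
    have h1 : (⊤ : Subgroup L) ≤ (normalizer (K : Set X)).comap L.subtype := by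
      rw [← OO_sup S]
      refine sup_le (fun l hl => hOK l hl) ?_
      rw [hS]
      exact fun t ht => hTK ht
    intro x hx
    exact h1 (mem_top (⟨x, hx⟩ : L))
  -- `W ≰ Q`
  have hWR : ¬ W ≤ R := by
    intro h1
    apply hVQ
    refine hLgen _ hTVQ ?_
    intro l hl
    refine mem_normalizer_of_cj_le ?_
    rw [cj, Subgroup.map_sup]
    refine sup_le ?_ ((cj_pCore (l : X)).le.trans le_sup_right)
    rintro _ ⟨v, hv, rfl⟩
    have h2 : ⁅(⟨v, hVL hv⟩ : L), l⁆ ∈ W :=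
      commutator_mem_commutator (subset_normalClosure (show (⟨v, hVL hv⟩ : L) ∈ (W0 : Set L) from hv)) hl
    have h3 : ((⁅(⟨v, hVL hv⟩ : L), l⁆ : L) : X) ∈ pCore 2 X := h1 h2
    have e : (MulAut.conj (l : X)).toMonoidHom v = ((⁅(⟨v, hVL hv⟩ : L), l⁆ : L) : X)⁻¹ * v := by
      rw [commutatorElement_def]
      change (l : X) * v * (l : X)⁻¹ = (v * (l : X) * v⁻¹ * (l : X)⁻¹)⁻¹ * v
      group
    rw [e]
    exact mul_mem (mem_sup_right (inv_mem h3)) (mem_sup_left hv)
  have hN : ⁅U ⊓ R, OO L⁆ = ⊥ := by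
    have hWR1 : (W ⊓ R) ⊔ D ≤ W := sup_le inf_le_left hD.le
    have hn1 : ((W ⊓ R) ⊔ D).Normal := inferInstance
    have h3 : W ⊓ R ≤ D := by
      rcases hD.irr _ hn1 le_sup_right hWR1 with h1 | h1
      · rw [← h1]; exact le_sup_left
      · exfalso
        apply hWR
        rw [← hWW]
        have h2 : ⁅W, OO L⁆ ≤ ⁅W ⊓ R, OO L⁆ ⊔ ⁅D, OO L⁆ := by
          conv_lhs => rw [← h1]
          rw [Subgroup.commutator_comm, Subgroup.commutator_comm (W ⊓ R), Subgroup.commutator_comm D]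
          exact comm_sup_le
        refine h2.trans ?_
        rw [hDL, sup_bot_eq]
        exact (commutator_le_left _ _).trans inf_le_right
    refine comm_eq_bot_of_le (hsit.U_isPGroup.to_le inf_le_left) (D := D) ?_ hDL
    refine le_trans ?_ h3
    exact le_inf (commutator_mono inf_le_left le_rfl) ((commutator_le_left _ _).trans inf_le_right)
  -- `D₀ = V ∩ Q` is normal
  have hD0 : (dd V).Normal := by
    refine hLgen _ h.d.T_le_dd ?_
    intro l hl
    refine mem_normalizer_of_cj_le ?_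
    rintro _ ⟨v, hv, rfl⟩
    have hvL : v ∈ L := hVL hv.1
    have h1 : (⟨v, hvL⟩ : L) ∈ U ⊓ R := ⟨subset_normalClosure (show (⟨v, hvL⟩ : L) ∈ (W0 : Set L) from hv.1), hv.2⟩
    have h2 := comm_eq_bot_iff.1 hN _ h1 l hl
    have h3 : v * (l : X) = (l : X) * v := congrArg Subtype.val h2
    have e : (MulAut.conj (l : X)).toMonoidHom v = v := by
      change (l : X) * v * (l : X)⁻¹ = v
      rw [← h3]; group
    rw [e]
    exact hv
  have h1 : ⁅pCore 2 X, OO X⁆ ≤ dd V := by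
    refine (commutator_mono le_rfl h.d.OO_le_ncl).trans (comm_normalClosure_le ?_)
    rw [commutator_comm]
    exact h.d.comm_V_le le_rfl
  have h2 : ⁅dd V, OO X⁆ = ⊥ := by
    rw [commutator_eq_bot_iff_le_centralizer]
    have h3 : normalClosure (V : Set X) ≤ centralizer ((dd V : Subgroup X) : Set X) := by
      have : (centralizer ((dd V : Subgroup X) : Set X)).Normal := normal_centralizer
      refine normalClosure_le_normal ?_
      intro v hv
      rw [SetLike.mem_coe, mem_centralizer_iff]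
      intro d hd
      exact (isElementaryAbelian_iff.1 h.d.el).1 d hd.1 v hv
    exact (le_centralizer_iff.1 h3).trans (centralizer_le h.d.OO_le_ncl)
  exact h.d.Q_noncentral (comm_eq_bot_of_le (Lib.Cores.pCore_isPGroup 2) h1 h2)

end LL

/-- the class two statement -/
def ClassTwo : Prop :=
  ∀ (Y : Type u) [Group Y] [Finite Y] (T : Sylow 2 Y) (M V : Subgroup Y), Dit T M V →
    ⁅dd V, uu V⁆ ≤ centralizer ((OO Y : Subgroup Y) : Set Y) → False

/-- **case (d)** -/
theorem d_main (hFF : AStmt.{u}) (hC : ClassTwo.{u}) [Finite X] {T : Sylow 2 X} {M V : Subgroup X} (h : Dit T M V) :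
    False := by
  obtain ⟨L, hL⟩ := exists_LL h
  obtain ⟨S, hS⟩ := hL.exists_T
  by_cases hV : V.subgroupOf L ≤ pCore 2 L
  · exact hL.caseA hFF hS hV
  · exact hC L S _ _ (hL.dit hS hV) (hL.caseB hFF hS hV)

end Cfsg.Agent.QrcE
end

-- part: QrcE/Fin
section
/-!
# S1824: the theorem, modulo `ClassTwo`
-/

set_option autoImplicit false
set_option linter.unusedVariables false

namespace Cfsg.Agent.QrcE

open Subgroup Cfsg Cfsg.Agent.MinSimple.MinParabolic Cfsg.Agent.PLocal.ThompsonJ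
open Cfsg.Agent.Qrc (Dit)
open Cfsg.Agent.ZN (o2 jj)
open Cfsg.Agent.ZN.ChoiceSit
open Cfsg.Agent.MinSimple.VModule (oddGen)

universe u

variable {G : Type u} [Group G]

theorem cubic_of_not_le [Finite G] (hE : IsOfEvenCharacteristic G) (hFF : Omega.FFBr.AStmt.{u}) (hC : ClassTwo.{u})
    (T : Sylow 2 G) {M M₀ H V : Subgroup G} (hH : H ∈ calHMin (T : Subgroup G) M)
    (hVM : V ≤ M₀) (hMV : M₀ ≤ normalizer (V : Set G)) (hTM₀ : (T : Subgroup G) ≤ M₀)
    (hVe : IsElementaryAbelian 2 V)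
    (hR : o2 M₀ = (T : Subgroup G) ⊓ centralizer (V : Set G)) (hVH : ¬ V ≤ o2 H) :
    CubicParamLE (T : Subgroup G) V 2 := by
  by_contra hno
  have hTH : (T : Subgroup G) ≤ H := hH.1.1.2
  have hHne : o2 H ≠ ⊥ := fun h => hH.1.1.1 ((Subgroup.map_eq_bot_iff_of_injective _ H.subtype_injective).1 h)
  have hV2 : IsPGroup 2 V := fun x => ⟨1, Subtype.ext (by simpa using hVe.2 x x.2)⟩
  have hVT : V ≤ (T : Subgroup G) := by
    refine (le_o2 hV2 hVM hMV).trans ?_
    rw [hR]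
    exact inf_le_left
  have hVle : V ≤ H := hVT.trans hTH
  have hTV : (T : Subgroup G) ≤ normalizer (V : Set G) := hTM₀.trans hMV
  refine d_main hFF hC (X := ↥H) (T := T.subtype hTH) (M := M.subgroupOf H) (V := V.subgroupOf H)
    ⟨isMin_of_calHMin T hH, ?_, fun x hx => hVT hx, ?_, isElementaryAbelian_comap hVe H.subtype_injective, ?_, ?_⟩
  · intro x hx
    have h1 : (x : G) ∈ centralizer ((o2 H : Subgroup G) : Set G) := by
      rw [mem_centralizer_iff]
      rintro _ ⟨q, hq, rfl⟩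
      exact congrArg Subtype.val (mem_centralizer_iff.1 hx q hq)
    obtain ⟨y, hy, hyx⟩ := PushGen.cent_o2 hE T hTH hHne h1
    rwa [← Subtype.ext hyx]
  · intro t ht
    rw [mem_normalizer_iff]
    intro v
    exact mem_normalizer_iff.1 (hTV ht) (v : G)
  · rw [le_o2_iff hVle]
    exact hVH
  · intro h1
    exact hno (cubic_map hVle h1)

/-- **the qrc-lemma** -/
theorem qrc [Finite G] (hE : IsOfEvenCharacteristic G) (hFF : Omega.FFBr.AStmt.{u}) (hC : ClassTwo.{u})
    (T : Sylow 2 G) {M M₀ H V : Subgroup G}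
    (hTM₀ : (T : Subgroup G) ≤ M₀) (hM₀M : M₀ ≤ M) (hH : H ∈ calHMin (T : Subgroup G) M)
    (hVM : V ≤ M₀) (hMV : M₀ ≤ normalizer (V : Set G)) (hVe : IsElementaryAbelian 2 V)
    (hR : o2 M₀ = (T : Subgroup G) ⊓ centralizer (V : Set G))
    (hI : H ⊓ M ≤ normalizer (oddGen M₀ : Set G) ∨ H ⊓ M ≤ normalizer (V : Set G)) :
    (∃ R₀ : Subgroup G, R₀ ≠ ⊥ ∧ R₀ ≤ o2 M₀ ∧ M₀ ⊔ H ≤ normalizer (R₀ : Set G)) ∨
      (¬ V ≤ o2 H ∧ CubicParamLE M₀ V 2) ∨ QuadParamLE M₀ V 2 :=
  asm hE hFF T hTM₀ hM₀M hH hVM hMV hVe hR hI fun h => cubic_of_not_le hE hFF hC T hH hVM hMV hTM₀ hVe hR h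

end Cfsg.Agent.QrcE
end

-- part: Qrc/DTwo
section
/-!
# S1824 (qrc-lemma), case `V ≰ O₂(H)`: `|V : V ∩ O₂(H)| ≥ 8` (helper55)
-/

set_option autoImplicit false
set_option linter.unusedVariables false
set_option linter.unusedSectionVars false

namespace Cfsg.Agent.Qrc

open Subgroup Cfsg Cfsg.Agent.MinSimple.MinParabolic Cfsg.Agent.Omega.FFBr Cfsg.Agent.QrcE
open Cfsg.Agent.PLocal.ThompsonJ
open Cfsg.Agent.ZN.ChoiceBase (cj mem_cj cj_mono cj_le_iff cj_inv_cj cj_cj_inv card_cj cj_inf cj_centralizer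
  isElementaryAbelian_cj)
open scoped commutatorElement

universe u

/-- a 2-group of order `> 2` generated by a conjugation invariant set of involutions contains two different
commuting ones -/
theorem exists_comm_pair {P : Type*} [Group P] [Finite P] (hP : IsPGroup 2 P) {S : Set P}
    (hS : ∀ s ∈ S, ∀ g : P, g * s * g⁻¹ ∈ S) (hgen : closure S = ⊤) (hcard : 2 < Nat.card P)
    (hS2 : ∀ s ∈ S, s ^ 2 = 1) :
    ∃ s ∈ S, ∃ s' ∈ S, s ≠ 1 ∧ s' ≠ 1 ∧ s ≠ s' ∧ s * s' = s' * s := by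
  have : Fact (Nat.Prime 2) := ⟨Nat.prime_two⟩
  by_cases hc : ∃ s ∈ S, s ∉ center P
  · obtain ⟨s, hs, hsc⟩ := hc
    have hnil : Group.IsNilpotent P := hP.isNilpotent
    have hC : centralizer ({s} : Set P) < ⊤ := by
      refine lt_top_iff_ne_top.2 fun h1 => hsc ?_
      rw [mem_center_iff]
      intro g
      have h2 : g ∈ centralizer ({s} : Set P) := by rw [h1]; trivial
      exact (mem_centralizer_iff.1 h2 s rfl).symm
    obtain ⟨g, hgN, hgC⟩ := SetLike.exists_of_lt (Group.normalizerCondition_of_isNilpotent _ hC)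
    have hs1 : s ≠ 1 := by
      rintro rfl
      exact hsc (one_mem _)
    have hsC : s ∈ centralizer ({s} : Set P) := by
      rw [mem_centralizer_iff]
      rintro _ rfl
      rfl
    have h2 : g * s * g⁻¹ ∈ centralizer ({s} : Set P) := (mem_normalizer_iff.1 hgN s).1 hsC
    refine ⟨s, hs, g * s * g⁻¹, hS s hs g, hs1, fun h3 => hs1 ?_, fun h3 => hgC ?_, mem_centralizer_iff.1 h2 s rfl⟩
    · rwa [conj_eq_one_iff] at h3
    · rw [mem_centralizer_iff]
      rintro _ rfl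
      rw [eq_mul_inv_iff_mul_eq] at h3
      exact h3
  · push Not at hc
    have h1 : ∃ s ∈ S, s ≠ 1 := by
      by_contra hcon
      push Not at hcon
      have h2 : closure S ≤ ⊥ := (closure_le _).2 fun s hs => by
        rw [hcon s hs]; exact one_mem _
      rw [hgen] at h2
      have h3 : Nat.card P ≤ 1 := by
        rw [← card_top (G := P), ← card_bot (G := P)]
        exact card_le_of_le h2
      omega
    obtain ⟨s, hs, hs1⟩ := h1
    have h2 : ∃ s' ∈ S, s' ≠ 1 ∧ s ≠ s' := by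
      by_contra hcon
      push Not at hcon
      have h2 : closure S ≤ zpowers s := (closure_le _).2 fun s' hs' => by
        by_cases h3 : s' = 1
        · rw [h3]; exact one_mem _
        · rw [← hcon s' hs' h3]; exact mem_zpowers s
      rw [hgen] at h2
      have h3 : Nat.card P ≤ orderOf s := by
        rw [← card_top (G := P), ← Nat.card_zpowers]
        exact card_le_of_le h2
      have h4 : orderOf s ≤ 2 := orderOf_le_of_pow_eq_one two_pos (hS2 s hs)
      omega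
    obtain ⟨s', hs', hs'1, hne⟩ := h2
    exact ⟨s, hs, s', hs', hs1, hs'1, hne, (mem_center_iff.1 (hc s hs) s').symm⟩

section

variable {X : Type u} [Group X]

theorem mul_mem_of_relIndex_le_two [Finite X] {K D : Subgroup X} (h : K.relIndex D ≤ 2) {a b : X} (ha : a ∈ D)
    (hb : b ∈ D) (ha' : a ∉ K) (hb' : b ∉ K) : a * b ∈ K := by
  have h0 := relIndex_pos' K D
  have h1 : K.relIndex D ≠ 1 := fun h1 => ha' (relIndex_eq_one.1 h1 ha)
  have h2 : (K.subgroupOf D).index = 2 := by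
    change K.relIndex D = 2
    omega
  have h3 := (mul_mem_iff_of_index_two h2 (a := ⟨a, ha⟩) (b := ⟨b, hb⟩)).2
    (by simp only [mem_subgroupOf]; tauto)
  exact h3

/-- two commuting involutions on `V` -/
theorem act_pair {V B : Subgroup X} (hBV : B ≤ normalizer (V : Set X)) {s s' : X} (hB : B = closure {s, s'})
    (h1 : s ^ 2 ∈ centralizer (V : Set X)) (h2 : s' ^ 2 ∈ centralizer (V : Set X))
    (h3 : s * s' * s⁻¹ * s'⁻¹ ∈ centralizer (V : Set X)) :
    (∀ b ∈ B, ∀ b' ∈ B, b * b' * b⁻¹ * b'⁻¹ ∈ centralizer (V : Set X)) ∧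
      ∀ b ∈ B, b ^ 2 ∈ centralizer (V : Set X) := by
  have hsB : s ∈ B := hB ▸ subset_closure (by simp)
  have hsB' : s' ∈ B := hB ▸ subset_closure (by simp)
  set C := centralizer (V : Set X) with hC
  have hCn : ∀ x ∈ normalizer (V : Set X), ∀ c ∈ C, x * c * x⁻¹ ∈ C := by
    intro x hx c hc
    rw [mem_centralizer_iff] at hc ⊢
    intro v hv
    have h4 : x⁻¹ * v * x ∈ V := by
      have := (mem_normalizer_iff.1 (inv_mem hx) v).1 hv
      simpa using this
    have h5 := hc _ h4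
    have e1 : v * (x * c * x⁻¹) = x * ((x⁻¹ * v * x) * c) * x⁻¹ := by group
    have e2 : x * c * x⁻¹ * v = x * (c * (x⁻¹ * v * x)) * x⁻¹ := by group
    rw [e1, e2, h5]
  -- `K t` : elements of `B` commuting with `t` mod `C`
  have key : ∀ t ∈ B, s * t * s⁻¹ * t⁻¹ ∈ C → s' * t * s'⁻¹ * t⁻¹ ∈ C → ∀ b ∈ B, b * t * b⁻¹ * t⁻¹ ∈ C := by
    intro t ht ha ha'
    let K : Subgroup X :=
      { carrier := {b | b ∈ B ∧ b * t * b⁻¹ * t⁻¹ ∈ C}
        one_mem' := ⟨one_mem _, by rw [show (1 : X) * t * 1⁻¹ * t⁻¹ = 1 by group]; exact one_mem _⟩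
        mul_mem' := by
          rintro a b ⟨ha, ha1⟩ ⟨hb, hb1⟩
          refine ⟨mul_mem ha hb, ?_⟩
          have e : a * b * t * (a * b)⁻¹ * t⁻¹ = (a * (b * t * b⁻¹ * t⁻¹) * a⁻¹) * (a * t * a⁻¹ * t⁻¹) := by
            group
          rw [e]
          exact mul_mem (hCn a (hBV ha) _ hb1) ha1
        inv_mem' := by
          rintro b ⟨hb, hb1⟩
          refine ⟨inv_mem hb, ?_⟩
          have e : b⁻¹ * t * b⁻¹⁻¹ * t⁻¹ = b⁻¹ * (b * t * b⁻¹ * t⁻¹)⁻¹ * b⁻¹⁻¹ := by group
          rw [e]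
          exact hCn _ (inv_mem (hBV hb)) _ (inv_mem hb1) }
    have hK : B ≤ K := by
      rw [hB, closure_le]
      rintro x (rfl | rfl)
      · exact ⟨hsB, ha⟩
      · exact ⟨hsB', ha'⟩
    exact fun b hb => (hK hb).2
  have h3' : s' * s * s'⁻¹ * s⁻¹ ∈ C := by
    have := inv_mem h3
    have e : (s * s' * s⁻¹ * s'⁻¹)⁻¹ = s' * s * s'⁻¹ * s⁻¹ := by group
    rwa [e] at this
  have k1 : ∀ b ∈ B, b * s * b⁻¹ * s⁻¹ ∈ C :=
    key s hsB (by rw [show s * s * s⁻¹ * s⁻¹ = 1 by group]; exact one_mem _) h3'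
  have k2 : ∀ b ∈ B, b * s' * b⁻¹ * s'⁻¹ ∈ C :=
    key s' hsB' h3 (by rw [show s' * s' * s'⁻¹ * s'⁻¹ = 1 by group]; exact one_mem _)
  have inv' : ∀ x y : X, x * y * x⁻¹ * y⁻¹ ∈ C → y * x * y⁻¹ * x⁻¹ ∈ C := by
    intro x y hxy
    have := inv_mem hxy
    have e : (x * y * x⁻¹ * y⁻¹)⁻¹ = y * x * y⁻¹ * x⁻¹ := by group
    rwa [e] at this
  have k3 : ∀ b ∈ B, ∀ b' ∈ B, b * b' * b⁻¹ * b'⁻¹ ∈ C := by
    intro b hb b' hb'
    exact key b' hb' (inv' _ _ (k1 b' hb')) (inv' _ _ (k2 b' hb')) b hb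
  refine ⟨k3, ?_⟩
  let K : Subgroup X :=
    { carrier := {b | b ∈ B ∧ b ^ 2 ∈ C}
      one_mem' := ⟨one_mem _, by rw [one_pow]; exact one_mem _⟩
      mul_mem' := by
        rintro a b ⟨ha, ha1⟩ ⟨hb, hb1⟩
        refine ⟨mul_mem ha hb, ?_⟩
        have e : (a * b) ^ 2 = (a * (b * a * b⁻¹ * a⁻¹) * a⁻¹) * (a ^ 2 * b ^ 2) := by
          rw [pow_two, pow_two, pow_two]; group
        rw [e]
        exact mul_mem (hCn a (hBV ha) _ (k3 b hb a ha)) (mul_mem ha1 hb1)
      inv_mem' := by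
        rintro b ⟨hb, hb1⟩
        refine ⟨inv_mem hb, ?_⟩
        rw [inv_pow]
        exact inv_mem hb1 }
  have hK : B ≤ K := by
    rw [hB, closure_le]
    rintro x (rfl | rfl)
    · exact ⟨hsB, h1⟩
    · exact ⟨hsB', h2⟩
  exact fun b hb => (hK hb).2

theorem relIndex_two_pow [Finite X] {B : Subgroup X} (hB : IsPGroup 2 B) (A : Subgroup X) :
    ∃ n : ℕ, A.relIndex B = 2 ^ n := by
  have : Fact (Nat.Prime 2) := ⟨Nat.prime_two⟩
  exact (hB.index (A.subgroupOf B))

namespace Dit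

variable {T : Sylow 2 X} {M V : Subgroup X} (h : Dit T M V)
include h

theorem isP [Finite X] : IsPGroup 2 V := T.isPGroup'.to_le h.VT

theorem q_two_pow [Finite X] : ∃ n : ℕ, (pCore 2 X).relIndex V = 2 ^ n := relIndex_two_pow h.isP _

theorem Q_le_N : pCore 2 X ≤ normalizer (V : Set X) := (pCore_le T).trans h.TV

theorem U_le_N : uu V ≤ normalizer (V : Set X) := h.uu_le.trans h.Q_le_N

/-- an element of `X` with `s ∈ D^g` -/
theorem mem_uu {g s : X} (hs : s ∈ cj g (dd V)) : s ∈ uu V := by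
  rw [mem_cj] at hs
  have h1 : g⁻¹ * s * g ∈ uu V := subset_normalClosure hs
  have h2 := (inferInstance : (uu V).Normal).conj_mem _ h1 g
  simpa [mul_assoc] using h2

/-- a pair of commuting involutions -/
theorem pair [Finite X] (hf : ∀ g : X, (centralizer (V : Set X)).relIndex (cj g (dd V)) ≤ 2)
    {s s' g g' : X} (hs : s ∈ cj g (dd V)) (hs' : s' ∈ cj g' (dd V)) (h1 : s ∉ centralizer (V : Set X))
    (h2 : s' ∉ centralizer (V : Set X)) (hne : s * s' ∉ centralizer (V : Set X))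
    (hcom : s * s' * s⁻¹ * s'⁻¹ ∈ centralizer (V : Set X)) : 4 < (pCore 2 X).relIndex V := by
  set C := centralizer (V : Set X) with hC
  set D := dd V with hD
  have hsQ : s ∈ pCore 2 X := h.cj_le_Q g hs
  have hsQ' : s' ∈ pCore 2 X := h.cj_le_Q g' hs'
  have hsq : s * s = 1 := by
    have := (isElementaryAbelian_iff.1 (h.elcj g)).2 s hs
    rwa [pow_two] at this
  have hsq' : s' * s' = 1 := by
    have := (isElementaryAbelian_iff.1 (h.elcj g')).2 s' hs'
    rwa [pow_two] at this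
  set B : Subgroup X := closure {s, s'} with hB
  have hsB : s ∈ B := subset_closure (by simp)
  have hsB' : s' ∈ B := subset_closure (by simp)
  have hBQ : B ≤ pCore 2 X := (closure_le _).2 (by rintro x (rfl | rfl); exacts [hsQ, hsQ'])
  have hBN : B ≤ normalizer (V : Set X) := hBQ.trans h.Q_le_N
  have hBD : B ≤ normalizer (D : Set X) := hBQ.trans h.Q_le_dd
  have hBp : IsPGroup 2 B := (Lib.Cores.pCore_isPGroup 2).to_le hBQ
  have hDe := isElementaryAbelian_iff.1 h.elD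
  -- the centralizer of `s` in `D`
  have idx : ∀ {t k : X}, t ∈ cj k D → (centralizer ({t} : Set X)).relIndex D ≤ 2 := by
    intro t k ht
    have h3 : centralizer ((cj k D : Subgroup X) : Set X) ≤ centralizer ({t} : Set X) :=
      centralizer_le (Set.singleton_subset_iff.2 ht)
    exact ((relIndex_le_of_le_left h3 (relIndex_pos' _ _).ne').trans (h.cent_le k)).trans (hf k⁻¹)
  -- `[D, s]` is centralised by elements commuting with `s` mod `C`
  have act : ∀ {t k : X}, t ∈ cj k D → ∀ b : X, b ∈ pCore 2 X → b * t * b⁻¹ * t⁻¹ ∈ C →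
      ∀ d ∈ D, b * (d * (t * d⁻¹ * t⁻¹)) = d * (t * d⁻¹ * t⁻¹) * b := by
    intro t k ht b hb hbt d hd
    have htQ : t ∈ pCore 2 X := h.cj_le_Q k ht
    have htd : ∀ x ∈ D, t * x * t⁻¹ ∈ D := fun x hx => (mem_normalizer_iff.1 (h.Q_le_dd htQ) x).1 hx
    have hd' : b * d * b⁻¹ ∈ D := (mem_normalizer_iff.1 (h.Q_le_dd hb) d).1 hd
    set d' := b * d * b⁻¹ with hd'e
    set c := b * t * b⁻¹ * t⁻¹ with hc
    have hcD : ∀ x ∈ D, c * x * c⁻¹ = x := by
      intro x hx
      have := mem_centralizer_iff.1 hbt x hx.1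
      rw [← this]
      group
    -- `z^b = [d', t]`
    have e1 : b * (d * (t * d⁻¹ * t⁻¹)) * b⁻¹ = d' * (t * d'⁻¹ * t⁻¹) := by
      calc b * (d * (t * d⁻¹ * t⁻¹)) * b⁻¹ = d' * (c * (t * d'⁻¹ * t⁻¹) * c⁻¹) := by
            rw [hd'e, hc]; group
        _ = d' * (t * d'⁻¹ * t⁻¹) := by rw [hcD _ (htd _ (inv_mem hd'))]
    have e2 : d' * (t * d'⁻¹ * t⁻¹) = d * (t * d⁻¹ * t⁻¹) := by
      by_cases hct : t * d = d * t
      · have e3 : d * (t * d⁻¹ * t⁻¹) = 1 := by
          have : t * d⁻¹ * t⁻¹ = (t * d * t⁻¹)⁻¹ := by group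
          rw [this, hct]
          group
        rw [← e1, e3]
        group
      by_cases hct' : t * d' = d' * t
      · exfalso
        apply hct
        have e3 : d' * (t * d'⁻¹ * t⁻¹) = 1 := by
          have : t * d'⁻¹ * t⁻¹ = (t * d' * t⁻¹)⁻¹ := by group
          rw [this, hct']
          group
        rw [e3] at e1
        have e4 : d * (t * d⁻¹ * t⁻¹) = 1 := by
          have : d * (t * d⁻¹ * t⁻¹) = b⁻¹ * (b * (d * (t * d⁻¹ * t⁻¹)) * b⁻¹) * b := by group
          rw [this, e1]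
          group
        have : d * t = (d * (t * d⁻¹ * t⁻¹)) * (t * d) := by group
        rw [this, e4, one_mul]
      have h3 : d' * d ∈ centralizer ({t} : Set X) := by
        refine mul_mem_of_relIndex_le_two (idx ht) hd' hd (fun h4 => hct' ?_) (fun h4 => hct ?_)
        · exact mem_centralizer_iff.1 h4 t rfl
        · exact mem_centralizer_iff.1 h4 t rfl
      have h4 : t * (d' * d) * t⁻¹ = d' * d := by
        rw [mem_centralizer_iff.1 h3 t rfl]
        group
      have hinv : ∀ x ∈ D, x⁻¹ = x := fun x hx => by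
        have := hDe.2 x hx
        rw [pow_two] at this
        exact inv_eq_of_mul_eq_one_left this
      -- `t d t⁻¹ = d * d' * t d' t⁻¹`
      rw [hinv d' hd', hinv d hd]
      have h5 : t * d' * t⁻¹ * (t * d * t⁻¹) = d' * d := by rw [← h4]; group
      have h6 : t * d * t⁻¹ = (t * d' * t⁻¹) * (d' * d) := by
        rw [← h5]
        have h7 := hDe.2 _ (htd d' hd')
        rw [pow_two] at h7
        rw [← mul_assoc, h7, one_mul]
      have h8 : d * (d' * d) = d' := by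
        rw [hDe.1 d' hd' d hd, ← mul_assoc]
        have := hDe.2 d hd
        rw [pow_two] at this
        rw [this, one_mul]
      rw [h6, hDe.1 (t * d' * t⁻¹) (htd d' hd') (d' * d) (mul_mem hd' hd), ← mul_assoc d, h8]
    rw [← mul_inv_eq_iff_eq_mul, e1, e2]
  have hcom' : s' * s * s'⁻¹ * s⁻¹ ∈ C := by
    have := inv_mem hcom
    have e : (s * s' * s⁻¹ * s'⁻¹)⁻¹ = s' * s * s'⁻¹ * s⁻¹ := by group
    rwa [e] at this
  -- `[D, s], [D, s'] ≤ C(B)`
  have cB : ∀ {t : X}, (∃ k, t ∈ cj k D) → s * t * s⁻¹ * t⁻¹ ∈ C → s' * t * s'⁻¹ * t⁻¹ ∈ C →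
      ∀ d ∈ D, d * (t * d⁻¹ * t⁻¹) ∈ centralizer (B : Set X) := by
    rintro t ⟨k, ht⟩ ha ha' d hd
    rw [← zpowers_le, le_centralizer_iff, hB, closure_le]
    rintro x hx
    have hx' : x * (d * (t * d⁻¹ * t⁻¹)) = d * (t * d⁻¹ * t⁻¹) * x := by
      rcases hx with rfl | rfl
      · exact act ht _ hsQ ha d hd
      · exact act ht _ hsQ' ha' d hd
    change x ∈ centralizer ((zpowers (d * (t * d⁻¹ * t⁻¹)) : Subgroup X) : Set X)
    rw [zpowers_eq_closure, centralizer_closure, mem_centralizer_iff]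
    rintro _ rfl
    exact hx'.symm
  have cBs : ∀ d ∈ D, d * (s * d⁻¹ * s⁻¹) ∈ centralizer (B : Set X) :=
    cB ⟨g, hs⟩ (by rw [show s * s * s⁻¹ * s⁻¹ = 1 by group]; exact one_mem _) hcom'
  have cBs' : ∀ d ∈ D, d * (s' * d⁻¹ * s'⁻¹) ∈ centralizer (B : Set X) :=
    cB ⟨g', hs'⟩ hcom (by rw [show s' * s' * s'⁻¹ * s'⁻¹ = 1 by group]; exact one_mem _)
  have cub : ⁅⁅D, B⁆, B⁆ = ⊥ := by
    rw [commutator_eq_bot_iff_le_centralizer]
    let K : Subgroup X :=
      { carrier := {b | b ∈ B ∧ ∀ d ∈ D, d * (b * d⁻¹ * b⁻¹) ∈ centralizer (B : Set X)}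
        one_mem' := ⟨one_mem _, fun d hd => by
          rw [show d * (1 * d⁻¹ * 1⁻¹) = 1 by group]; exact one_mem _⟩
        mul_mem' := by
          rintro a b ⟨ha, ha1⟩ ⟨hb, hb1⟩
          refine ⟨mul_mem ha hb, fun d hd => ?_⟩
          have h3 := ha1 d hd
          have h4 := hb1 d hd
          have h5 := mem_centralizer_iff.1 h4 a ha
          have e : d * (a * b * d⁻¹ * (a * b)⁻¹) = d * (a * d⁻¹ * a⁻¹) * (a * (d * (b * d⁻¹ * b⁻¹)) * a⁻¹) := by
            group
          rw [e, h5, mul_inv_cancel_right]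
          exact mul_mem h3 h4
        inv_mem' := by
          rintro b ⟨hb, hb1⟩
          refine ⟨inv_mem hb, fun d hd => ?_⟩
          have h4 := hb1 d hd
          have h5 := mem_centralizer_iff.1 h4 b⁻¹ (inv_mem hb)
          have e : d * (b⁻¹ * d⁻¹ * b⁻¹⁻¹) = (b⁻¹ * (d * (b * d⁻¹ * b⁻¹)) * b)⁻¹ := by group
          rw [e, h5]
          have e' : d * (b * d⁻¹ * b⁻¹) * b⁻¹ * b = d * (b * d⁻¹ * b⁻¹) := by group
          rw [e']
          exact inv_mem h4 }
    have hK : B ≤ K := by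
      rw [hB, closure_le]
      rintro x (rfl | rfl)
      · exact ⟨hsB, cBs⟩
      · exact ⟨hsB', cBs'⟩
    rw [commutator_le]
    intro d hd b hb
    have h3 := (hK hb).2 d hd
    rw [commutatorElement_def]
    have e : d * b * d⁻¹ * b⁻¹ = d * (b * d⁻¹ * b⁻¹) := by group
    rw [e]
    exact h3
  -- `|D : C_D(B)| ≤ 4`
  have hD4 : (centralizer (B : Set X)).relIndex D ≤ 4 := by
    have h3 : centralizer ({s} : Set X) ⊓ centralizer ({s'} : Set X) ≤ centralizer (B : Set X) := by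
      rw [hB, centralizer_closure]
      intro x hx
      rw [mem_centralizer_iff]
      rintro y (rfl | rfl)
      · exact mem_centralizer_iff.1 hx.1 _ rfl
      · exact mem_centralizer_iff.1 hx.2 _ rfl
    refine (relIndex_le_of_le_left h3 (relIndex_pos' _ _).ne').trans (relIndex_inf_le.trans ?_)
    exact Nat.mul_le_mul (idx hs) (idx hs')
  -- `|B : C_B(V)| ≥ 4`
  have hB4 : 4 ≤ C.relIndex B := by
    obtain ⟨n, hn⟩ := relIndex_two_pow hBp C
    rcases Nat.lt_or_ge 2 (C.relIndex B) with h3 | h3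
    · rw [hn] at h3 ⊢
      have : 2 ≤ n := by
        by_contra hcon
        interval_cases n <;> simp at h3
      calc 4 = 2 ^ 2 := rfl
        _ ≤ 2 ^ n := Nat.pow_le_pow_right two_pos this
    · exact absurd (mul_mem_of_relIndex_le_two h3 hsB hsB' h1 h2) hne
  obtain ⟨hcomB, hsqB⟩ := act_pair hBN hB (by rw [pow_two, hsq]; exact one_mem _)
    (by rw [pow_two, hsq']; exact one_mem _) hcom
  have h3 := h.neg hBQ (fun h3 => h1 (h3 hsB)) hsqB hcomB cub
  by_contra hcon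
  have h4 : (pCore 2 X).relIndex V * (centralizer (B : Set X)).relIndex D ≤ 4 * 4 :=
    Nat.mul_le_mul (not_lt.1 hcon) hD4
  have h5 : 4 ^ 2 ≤ (C.relIndex B) ^ 2 := Nat.pow_le_pow_left hB4 2
  have h6 : (C.relIndex B) ^ 2 < 4 * 4 := lt_of_lt_of_le h3 h4
  omega

theorem mem_uu_iff_closure : uu V = closure {x : X | ∃ g : X, x ∈ cj g (dd V)} := by
  apply le_antisymm
  · have hN : (closure {x : X | ∃ g : X, x ∈ cj g (dd V)}).Normal := by
      refine ⟨fun n hn k => ?_⟩
      have h1 : closure {x : X | ∃ g : X, x ∈ cj g (dd V)} ≤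
          (closure {x : X | ∃ g : X, x ∈ cj g (dd V)}).comap (MulAut.conj k).toMonoidHom := by
        rw [closure_le]
        rintro x ⟨g, hx⟩
        refine subset_closure ⟨k * g, ?_⟩
        rw [mem_cj] at hx ⊢
        simpa [mul_assoc] using hx
      exact h1 hn
    refine normalClosure_le_normal ?_
    intro x hx
    refine subset_closure ⟨1, ?_⟩
    rw [mem_cj]
    simpa using hx
  · rw [closure_le]
    rintro x ⟨g, hx⟩
    exact h.mem_uu hx

/-- **`|V : V ∩ O₂(X)| ≥ 8`** -/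
theorem eight_le [Finite X] (hFF : AStmt.{u}) : 8 ≤ (pCore 2 X).relIndex V := by
  obtain ⟨n, hn⟩ := h.q_two_pow
  by_contra hcon
  have hn2 : n ≤ 2 := by
    by_contra h1
    apply hcon
    rw [hn]
    calc 8 = 2 ^ 3 := rfl
      _ ≤ 2 ^ n := Nat.pow_le_pow_right two_pos (by omega)
  set C := centralizer (V : Set X) with hC
  set D := dd V with hD
  have hf : ∀ g : X, C.relIndex (cj g D) ≤ 2 := by
    intro g
    have h1 := h.f_lt g
    obtain ⟨k, hk⟩ := relIndex_two_pow ((Lib.Cores.pCore_isPGroup 2).to_le (h.cj_le_Q g)) C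
    change C.relIndex (cj g D) < _ at h1
    rw [hk] at h1 ⊢
    rw [hn] at h1
    have h2 : k < n := (Nat.pow_lt_pow_iff_right (by norm_num)).1 h1
    calc 2 ^ k ≤ 2 ^ 1 := Nat.pow_le_pow_right two_pos (by omega)
      _ = 2 := rfl
  have hU := h.le_U hFF
  change _ ≤ C.relIndex (uu V) at hU
  have hgenU := h.mem_uu_iff_closure
  have hn0 : n ≠ 0 := by
    rintro rfl
    have := h.one_lt
    rw [hn] at this
    simp at this
  have hn1 : n ≠ 1 := by
    rintro rfl
    have h1 : uu V ≤ C := by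
      rw [hgenU, closure_le]
      rintro x ⟨g, hx⟩
      have h2 := h.f_lt g
      rw [hn] at h2
      have h3 := relIndex_pos' C (cj g D)
      have h4 : C.relIndex (cj g D) = 1 := by
        change C.relIndex (cj g D) < _ at h2
        omega
      exact relIndex_eq_one.1 h4 hx
    rw [relIndex_eq_one.2 h1, hn] at hU
    omega
  have hn' : n = 2 := by omega
  subst hn'
  -- the group `U / C_U(V)`
  have hUN : uu V ≤ normalizer (V : Set X) := h.U_le_N
  have hCn : (C.subgroupOf (uu V)).Normal := by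
    refine ⟨fun c hc u => ?_⟩
    rw [mem_subgroupOf] at hc ⊢
    have hx := hUN u.2
    rw [hC, mem_centralizer_iff] at hc ⊢
    intro v hv
    have h4 : (u : X)⁻¹ * v * u ∈ V := by
      have := (mem_normalizer_iff.1 (inv_mem hx) v).1 hv
      simpa using this
    have h5 := hc _ h4
    simp only [coe_mul, InvMemClass.coe_inv]
    have e1 : v * ((u : X) * c * (u : X)⁻¹) = u * (((u : X)⁻¹ * v * u) * c) * (u : X)⁻¹ := by group
    have e2 : (u : X) * c * (u : X)⁻¹ * v = u * (c * ((u : X)⁻¹ * v * u)) * (u : X)⁻¹ := by group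
    rw [e1, e2, h5]
  set π := QuotientGroup.mk' (C.subgroupOf (uu V)) with hπ
  set S : Set (uu V ⧸ C.subgroupOf (uu V)) := π '' {u | ∃ g : X, (u : X) ∈ cj g D} with hS
  have hP : IsPGroup 2 (uu V ⧸ C.subgroupOf (uu V)) := h.uu_isPGroup.to_quotient _
  have hcard : 2 < Nat.card (uu V ⧸ C.subgroupOf (uu V)) := by
    change 2 < C.relIndex (uu V)
    rw [hn] at hU
    omega
  have hSc : ∀ s ∈ S, ∀ g, g * s * g⁻¹ ∈ S := by
    rintro _ ⟨u, ⟨k, hk⟩, rfl⟩ g
    obtain ⟨w, rfl⟩ := QuotientGroup.mk'_surjective _ g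
    refine ⟨w * u * w⁻¹, ⟨w * k, ?_⟩, by rw [map_mul, map_mul, map_inv]⟩
    rw [mem_cj] at hk ⊢
    simpa [mul_assoc] using hk
  have hSg : closure S = ⊤ := by
    rw [eq_top_iff, hS, ← MonoidHom.map_closure, ← MonoidHom.range_eq_top.2 (QuotientGroup.mk'_surjective _),
      MonoidHom.range_eq_map]
    refine map_mono ?_
    rintro ⟨u, hu⟩ -
    have h1 : uu V ≤ (closure {u : uu V | ∃ g : X, (u : X) ∈ cj g D}).map (uu V).subtype := by
      conv_lhs => rw [hgenU]
      rw [closure_le]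
      rintro x ⟨g, hx⟩
      exact ⟨⟨x, h.mem_uu hx⟩, subset_closure ⟨g, hx⟩, rfl⟩
    obtain ⟨y, hy, hyu⟩ := h1 hu
    have : y = ⟨u, hu⟩ := Subtype.ext hyu
    rwa [this] at hy
  have hS2 : ∀ s ∈ S, s ^ 2 = 1 := by
    rintro _ ⟨u, ⟨k, hk⟩, rfl⟩
    rw [← map_pow]
    have h1 : u ^ 2 = 1 := Subtype.ext ((isElementaryAbelian_iff.1 (h.elcj k)).2 _ hk)
    rw [h1, map_one]
  obtain ⟨s, ⟨u, ⟨g, hu⟩, rfl⟩, s', ⟨u', ⟨g', hu'⟩, rfl⟩, h1, h2, h3, h4⟩ := exists_comm_pair hP hSc hSg hcard hS2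
  have hone : ∀ w : uu V, π w = 1 ↔ (w : X) ∈ C := by
    intro w
    rw [← mem_subgroupOf]
    exact QuotientGroup.eq_one_iff w
  refine absurd hn (ne_of_gt ?_)
  refine h.pair hf hu hu' (fun h5 => h1 ((hone u).2 h5)) (fun h5 => h2 ((hone u').2 h5)) ?_ ?_
  · intro h5
    have h6 : π (u * u') = 1 := (hone _).2 h5
    rw [map_mul] at h6
    have h7 := hS2 _ ⟨u, ⟨g, hu⟩, rfl⟩
    rw [pow_two] at h7
    exact h3 (mul_left_cancel (h7.trans h6.symm))
  · have h6 : π (u * u' * u⁻¹ * u'⁻¹) = 1 := by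
      rw [map_mul, map_mul, map_mul, map_inv, map_inv, h4]
      group
    exact (hone _).1 h6

end Dit

end

end Cfsg.Agent.Qrc
end

-- part: Qrc/DClass
section
/-!
# S1824 (qrc-lemma), case `V ≰ O₂(H)`, `U = ⟨(V ∩ O₂(H))^H⟩` of class 2 modulo the centre (helper55)

The Chermak-Delgado measure `|B| |C_U(B)|` of the subgroups of `U`: the largest maximal `W` is normal in `X`, it is not
centralised by `O²(X)`, and `|D : C_D(W)| ≤ |W : C_W(D)|`.

* `Dit.false_of_comm` : `[D, U] ≤ C(⟨V^X⟩)` is impossible;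
* `Dit.class_two` : `[U, U] ≤ C(O²(X))` is impossible.
-/

set_option autoImplicit false
set_option linter.unusedVariables false
set_option linter.unusedSectionVars false

namespace Cfsg.Agent.Qrc

open Subgroup Cfsg Cfsg.Agent.MinSimple.MinParabolic Cfsg.Agent.Omega.FFBr Cfsg.Agent.QrcE
open Cfsg.Agent.PLocal.ThompsonJ
open Cfsg.Agent.ZN.ChoiceBase (cj mem_cj cj_mono cj_le_iff cj_inv_cj cj_cj_inv card_cj cj_inf cj_centralizer
  isElementaryAbelian_cj)
open scoped commutatorElement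

universe u

section

variable {X : Type u} [Group X]

/-- `|B| |C_U(B)|` -/
noncomputable def cd (U B : Subgroup X) : ℕ := Nat.card B * Nat.card ↥(U ⊓ centralizer (B : Set X))

theorem cd_sup [Finite X] (U B D : Subgroup X) : cd U B * cd U D ≤ cd U (B ⊔ D) * cd U (B ⊓ D) := by
  have h1 : Nat.card B * Nat.card D ≤ Nat.card ↥(B ⊓ D) * Nat.card ↥(B ⊔ D) :=
    Cfsg.Agent.PLocal.Timmesfeld.card_mul_card_le le_sup_left le_sup_right
  have h2 : Nat.card ↥(U ⊓ centralizer (B : Set X)) * Nat.card ↥(U ⊓ centralizer (D : Set X)) ≤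
      Nat.card ↥((U ⊓ centralizer (B : Set X)) ⊓ (U ⊓ centralizer (D : Set X))) *
        Nat.card ↥(U ⊓ centralizer ((B ⊓ D : Subgroup X) : Set X)) :=
    Cfsg.Agent.PLocal.Timmesfeld.card_mul_card_le
      (inf_le_inf_left _ (centralizer_le (SetLike.coe_subset_coe.2 inf_le_left)))
      (inf_le_inf_left _ (centralizer_le (SetLike.coe_subset_coe.2 inf_le_right)))
  have h3 : (U ⊓ centralizer (B : Set X)) ⊓ (U ⊓ centralizer (D : Set X)) ≤
      U ⊓ centralizer ((B ⊔ D : Subgroup X) : Set X) := by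
    refine le_inf (inf_le_left.trans inf_le_left) ?_
    rw [le_centralizer_iff]
    refine sup_le ?_ ?_
    · rw [le_centralizer_iff]
      exact inf_le_left.trans inf_le_right
    · rw [le_centralizer_iff]
      exact inf_le_right.trans inf_le_right
  have h4 := card_le_of_le h3
  unfold cd
  calc Nat.card B * Nat.card ↥(U ⊓ centralizer (B : Set X)) * (Nat.card D * Nat.card ↥(U ⊓ centralizer (D : Set X)))
      = (Nat.card B * Nat.card D) *
        (Nat.card ↥(U ⊓ centralizer (B : Set X)) * Nat.card ↥(U ⊓ centralizer (D : Set X))) := by ring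
    _ ≤ (Nat.card ↥(B ⊓ D) * Nat.card ↥(B ⊔ D)) *
        (Nat.card ↥(U ⊓ centralizer ((B ⊔ D : Subgroup X) : Set X)) *
          Nat.card ↥(U ⊓ centralizer ((B ⊓ D : Subgroup X) : Set X))) :=
        Nat.mul_le_mul h1 (h2.trans (Nat.mul_le_mul_right _ h4))
    _ = _ := by ring

theorem cd_pos [Finite X] (U B : Subgroup X) : 0 < cd U B := Nat.mul_pos Nat.card_pos Nat.card_pos

theorem cd_cj [Finite X] (U : Subgroup X) [U.Normal] (g : X) (B : Subgroup X) : cd U (cj g B) = cd U B := by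
  have h1 : U = cj g U := by
    ext x
    rw [mem_cj]
    constructor
    · intro hx
      have := (inferInstance : U.Normal).conj_mem x hx g⁻¹
      simpa using this
    · intro hx
      have := (inferInstance : U.Normal).conj_mem _ hx g
      simpa [mul_assoc] using this
  unfold cd
  rw [card_cj]
  congr 1
  have h2 : U ⊓ centralizer ((cj g B : Subgroup X) : Set X) = cj g (U ⊓ centralizer (B : Set X)) := by
    rw [cj_inf, ← cj_centralizer, ← h1]
  rw [h2, card_cj]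

/-- the largest subgroup of the Chermak-Delgado lattice -/
theorem exists_cd [Finite X] (U : Subgroup X) [hU : U.Normal] :
    ∃ W : Subgroup X, W ≤ U ∧ W.Normal ∧ (∀ B ≤ U, cd U B ≤ cd U W) ∧ ∀ B ≤ U, cd U W ≤ cd U B → B ≤ W := by
  obtain ⟨A, hA, hAmax⟩ := Set.exists_max_image {B : Subgroup X | B ≤ U} (cd U) (Set.toFinite _) ⟨U, le_refl U⟩
  obtain ⟨W, hW, hWmax⟩ := Set.exists_max_image {B : Subgroup X | B ≤ U ∧ cd U A ≤ cd U B} (fun B => Nat.card B)
    (Set.toFinite _) ⟨A, hA, le_rfl⟩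
  have hWU : W ≤ U := hW.1
  have h1 : ∀ B ≤ U, cd U B ≤ cd U W := fun B hB => (hAmax B hB).trans hW.2
  have h2 : ∀ B ≤ U, cd U W ≤ cd U B → B ≤ W := by
    intro B hB hle
    have h3 := cd_sup U B W
    have h4 := h1 (B ⊓ W) (inf_le_left.trans hB)
    have h5 : cd U W ≤ cd U (B ⊔ W) := by
      refine Nat.le_of_mul_le_mul_right (c := cd U W) ?_ (cd_pos U W)
      calc cd U W * cd U W ≤ cd U B * cd U W := Nat.mul_le_mul_right _ hle
        _ ≤ cd U (B ⊔ W) * cd U (B ⊓ W) := h3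
        _ ≤ cd U (B ⊔ W) * cd U W := Nat.mul_le_mul_left _ h4
    have h6 := hWmax (B ⊔ W) ⟨sup_le hB hWU, hW.2.trans h5⟩
    have h7 : W = B ⊔ W := eq_of_le_of_card_ge le_sup_right h6
    rw [h7]
    exact le_sup_left
  refine ⟨W, hWU, ⟨fun n hn g => ?_⟩, h1, h2⟩
  have h3 : cj g W ≤ U := by
    rintro _ ⟨w, hw, rfl⟩
    exact hU.conj_mem w (hWU hw) g
  have h4 : cj g W ≤ W := h2 _ h3 (le_of_eq (cd_cj U g W).symm)
  exact h4 ⟨n, hn, rfl⟩

/-- `C_U(W) ≤ W` for the largest subgroup of the lattice -/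
theorem cd_cent_le [Finite X] {U W : Subgroup X} (hWU : W ≤ U) (h2 : ∀ B ≤ U, cd U W ≤ cd U B → B ≤ W) :
    U ⊓ centralizer (W : Set X) ≤ W := by
  refine h2 _ inf_le_left ?_
  unfold cd
  rw [mul_comm (Nat.card W)]
  refine Nat.mul_le_mul_left _ (card_le_of_le (le_inf hWU ?_))
  rw [le_centralizer_iff]
  exact inf_le_right

/-- `|D : C_D(W)| ≤ |W : C_W(D)|` -/
theorem cd_index_le [Finite X] {U W D : Subgroup X} (hWU : W ≤ U) (hDU : D ≤ U) (h1 : ∀ B ≤ U, cd U B ≤ cd U W) :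
    (centralizer (W : Set X)).relIndex D ≤ (centralizer (D : Set X)).relIndex W := by
  have h2 := h1 (W ⊓ centralizer (D : Set X)) (inf_le_left.trans hWU)
  unfold cd at h2
  have h3 := card_inf_mul_relIndex D (centralizer (W : Set X))
  have h4 := card_inf_mul_relIndex W (centralizer (D : Set X))
  have h5 : Nat.card D * Nat.card ↥(U ⊓ centralizer (W : Set X)) ≤
      Nat.card ↥(D ⊓ (U ⊓ centralizer (W : Set X))) *
        Nat.card ↥(U ⊓ centralizer ((W ⊓ centralizer (D : Set X) : Subgroup X) : Set X)) :=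
    Cfsg.Agent.PLocal.Timmesfeld.card_mul_card_le
      (le_inf hDU (le_centralizer_iff.1 inf_le_right))
      (inf_le_inf_left _ (centralizer_le (SetLike.coe_subset_coe.2 inf_le_left)))
  rw [← inf_assoc, inf_eq_left.2 hDU] at h5
  have p1 : 0 < Nat.card ↥(D ⊓ centralizer (W : Set X)) := Nat.card_pos
  have p2 : 0 < Nat.card ↥(W ⊓ centralizer (D : Set X)) := Nat.card_pos
  have p3 : 0 < Nat.card ↥(U ⊓ centralizer (W : Set X)) := Nat.card_pos
  set i := (centralizer (W : Set X)).relIndex D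
  set j := (centralizer (D : Set X)).relIndex W
  set c := Nat.card ↥(U ⊓ centralizer (W : Set X))
  set c' := Nat.card ↥(U ⊓ centralizer ((W ⊓ centralizer (D : Set X) : Subgroup X) : Set X))
  set d := Nat.card ↥(D ⊓ centralizer (W : Set X))
  set w := Nat.card ↥(W ⊓ centralizer (D : Set X))
  -- `w c' ≤ |W| c`, `w j = |W|`, `d i = |D|`, `|D| c ≤ d c'`
  rw [← h3, mul_assoc] at h5
  have h6 : i * c ≤ c' := Nat.le_of_mul_le_mul_left h5 p1
  rw [← h4, mul_assoc] at h2
  have h7 : c' ≤ j * c := Nat.le_of_mul_le_mul_left h2 p2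
  exact Nat.le_of_mul_le_mul_right (h6.trans h7) p3

namespace Dit

variable {T : Sylow 2 X} {M V : Subgroup X} (h : Dit T M V)
include h

theorem D_le_U : dd V ≤ uu V := subset_normalClosure

theorem U_le_ncl : uu V ≤ normalClosure (V : Set X) :=
  normalClosure_le_normal (fun x hx => subset_normalClosure hx.1)

/-- **`[D, U] ≤ C(⟨V^X⟩)` is impossible** -/
theorem false_of_comm [Finite X] (hFF : AStmt.{u})
    (hc : ⁅dd V, uu V⁆ ≤ centralizer ((normalClosure (V : Set X) : Subgroup X) : Set X)) : False := by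
  set U := uu V with hU
  set D := dd V with hD
  set N : Subgroup X := normalClosure (V : Set X) with hN
  have hVN : V ≤ N := subset_normalClosure
  have hCN : (centralizer (N : Set X)).Normal := normal_centralizer
  have hUU : ⁅U, U⁆ ≤ centralizer (N : Set X) := by
    refine comm_normalClosure_le (A := U) (S := D) ?_
    rw [commutator_comm]
    exact hc
  have hCV : centralizer (N : Set X) ≤ centralizer (V : Set X) := centralizer_le hVN
  have hUV : ⁅U, U⁆ ≤ centralizer (V : Set X) := hUU.trans hCV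
  have hUQ : U ≤ pCore 2 X := h.uu_le
  obtain ⟨W, hWU, hWn, hW1, hW2⟩ := exists_cd U
  -- `W` is not centralised by `O²(X)`
  have hWne : ⁅W, OO X⁆ ≠ ⊥ := by
    intro h1
    have h2 : ⁅⁅OO X, U⁆, W⁆ = ⊥ := by
      refine commutator_commutator_eq_bot_of_rotate ?_ ?_
      · rw [← le_bot_iff, ← h1]
        exact commutator_mono (commutator_le_right U W) le_rfl
      · rw [h1, commutator_bot_left]
    have h3 : ⁅U, OO X⁆ ≤ W := by
      refine le_trans (le_inf (commutator_le_left _ _) ?_) (cd_cent_le hWU hW2)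
      rw [commutator_comm, ← commutator_eq_bot_iff_le_centralizer]
      exact h2
    apply h.U_noncentral
    rw [← comm_comm_eq h.uu_isPGroup, ← le_bot_iff, ← h1]
    exact commutator_mono h3 le_rfl
  have hq := noOver_normal hFF h.min (N := W) (h.uu_isPGroup.to_le hWU) hWne h.VT h.el
  have hDW := cd_index_le hWU h.D_le_U hW1
  have hne : ¬ W ≤ centralizer (V : Set X) := by
    intro h1
    rw [relIndex_eq_one.2 h1] at hq
    exact absurd h.one_lt (not_lt_of_ge hq)
  have hcom : ∀ b ∈ W, ∀ b' ∈ W, b * b' * b⁻¹ * b'⁻¹ ∈ centralizer (V : Set X) := fun b hb b' hb' =>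
    hUV (commutator_mem_commutator (hWU hb) (hWU hb'))
  have hUN : U ≤ normalizer (V : Set X) := h.U_le_N
  have hsqU : ∀ b ∈ U, b ^ 2 ∈ centralizer (V : Set X) := by
    let K : Subgroup X :=
      { carrier := {b | b ∈ U ∧ b ^ 2 ∈ centralizer (V : Set X)}
        one_mem' := ⟨one_mem _, by rw [one_pow]; exact one_mem _⟩
        mul_mem' := by
          rintro a b ⟨ha, ha1⟩ ⟨hb, hb1⟩
          refine ⟨mul_mem ha hb, ?_⟩
          have e : (a * b) ^ 2 = ⁅a, b⁆ * (b * a * a * b⁻¹) * b ^ 2 := by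
            rw [pow_two, pow_two, commutatorElement_def]; group
          have e2 : b * a * a * b⁻¹ = ⁅b, a ^ 2⁆ * a ^ 2 := by
            rw [pow_two, commutatorElement_def]; group
          rw [e, e2]
          exact mul_mem (mul_mem (hUV (commutator_mem_commutator ha hb))
            (mul_mem (hUV (commutator_mem_commutator hb (pow_mem ha 2))) ha1)) hb1
        inv_mem' := by
          rintro b ⟨hb, hb1⟩
          refine ⟨inv_mem hb, ?_⟩
          rw [inv_pow]
          exact inv_mem hb1 }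
    have hK : U ≤ K := by
      rw [hU, h.mem_uu_iff_closure, closure_le]
      rintro x ⟨g, hx⟩
      refine ⟨h.mem_uu hx, ?_⟩
      rw [(isElementaryAbelian_iff.1 (h.elcj g)).2 x hx]
      exact one_mem _
    exact fun b hb => (hK hb).2
  have hcub : ⁅⁅D, W⁆, W⁆ = ⊥ := by
    rw [commutator_eq_bot_iff_le_centralizer]
    refine (commutator_mono le_rfl hWU).trans (hc.trans (centralizer_le ?_))
    exact SetLike.coe_subset_coe.2 (hWU.trans h.U_le_ncl)
  have h1 := h.neg (hWU.trans hUQ) hne (fun b hb => hsqU b (hWU hb)) hcom hcub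
  have h2 : (centralizer (D : Set X)).relIndex W ≤ (centralizer (V : Set X)).relIndex W :=
    relIndex_le_of_le_left (centralizer_le (SetLike.coe_subset_coe.2 inf_le_left)) (relIndex_pos' _ _).ne'
  have h3 : (pCore 2 X).relIndex V * (centralizer (W : Set X)).relIndex D ≤
      ((centralizer (V : Set X)).relIndex W) ^ 2 := by
    rw [pow_two]
    exact Nat.mul_le_mul hq (hDW.trans h2)
  exact absurd h1 (not_lt_of_ge h3)

/-- **`[D, U] ≤ C(O²(X))` is impossible** -/
theorem class_two' [Finite X] (hFF : AStmt.{u}) (hc : ⁅dd V, uu V⁆ ≤ centralizer (OO X : Set X)) : False := by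
  refine h.false_of_comm hFF ?_
  set E := ⁅dd V, uu V⁆ with hE
  have h1 : OO X ≤ centralizer (E : Set X) := le_centralizer_iff.1 hc
  have h2 : (T : Subgroup X) ≤ normalizer (E : Set X) := by
    intro t ht
    have h3 : cj t E = E := by
      rw [hE]
      change (⁅dd V, uu V⁆).map _ = _
      rw [map_commutator]
      have h4 : (dd V).map (MulAut.conj t).toMonoidHom = dd V := by
        have := h.T_le_dd ht
        rwa [mem_normalizer_iff_map_conj_eq] at this
      have h5 : (uu V).map (MulAut.conj t).toMonoidHom = uu V := by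
        have : t ∈ normalizer ((uu V : Subgroup X) : Set X) := by
          rw [normalizer_eq_top]; trivial
        rwa [mem_normalizer_iff_map_conj_eq] at this
      rw [h4, h5]
    rw [mem_normalizer_iff_map_conj_eq]
    exact h3
  have h3 : E.Normal := by
    rw [← normalizer_eq_top_iff, eq_top_iff, ← OO_sup T]
    exact sup_le (h1.trans (centralizer_le_normalizer _)) h2
  have h4 : E ≤ V := by
    exact (comm_le_of_norm (h.uu_le.trans h.Q_le_dd)).trans (inf_le_left : dd V ≤ V)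
  have h5 : V ≤ centralizer (E : Set X) := by
    intro v hv
    rw [mem_centralizer_iff]
    exact fun e he => (isElementaryAbelian_iff.1 h.el).1 e (h4 he) v hv
  have h6 : (centralizer (E : Set X)).Normal := normal_centralizer
  rw [le_centralizer_iff]
  exact normalClosure_le_normal h5

/-- **`[U, U] ≤ C(O²(X))` is impossible** -/
theorem class_two [Finite X] (hFF : AStmt.{u}) (hc : ⁅uu V, uu V⁆ ≤ centralizer (OO X : Set X)) : False :=
  h.class_two' hFF ((commutator_mono h.D_le_U le_rfl).trans hc)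

end Dit

end

end Cfsg.Agent.Qrc
end

-- part: S1824
section
set_option autoImplicit false
open Cfsg

namespace Cfsg.Agent.S1824

/-- The qrc-lemma in the form used for simple QTKE-groups. Let G be a non-abelian finite simple QTKE-group, T a Sylow 2-subgroup of G and M a maximal 2-local subgroup of G containing T. Let T ≤ M₀ ≤ M, let H be a minimal member of the set of subgroups of G with nontrivial 2-core that contain T and are not contained in M, and let V be a 2-reduced elementary abelian normal 2-subgroup of M₀ with O₂(M₀) = C_T(V). Suppose H ∩ M normalizes O²(M₀) or normalizes V. Then one of the following holds: (1) some nontrivial subgroup of O₂(M₀) is normalized by both M₀ and H; (2) V ≰ O₂(H) and q̂(M₀/C_{M₀}(V), V) ≤ 2; (3) q(M₀/C_{M₀}(V), V) ≤ 2. Here q (resp. q̂) ≤ 2 means that some subgroup of M₀ inducing a nontrivial elementary abelian 2-group A on V acts quadratically (resp. cubically) on V with |V : C_V(A)| ≤ |A|². -/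
theorem result {G : Type*} [Group G] [Finite G] [IsSimpleGroup G]
    (hG : ¬ IsMulCommutative G) (hQ : Cfsg.IsQTKE G) (T : Sylow 2 G) (M M₀ H V : Subgroup G)
    (hM : M ∈ Cfsg.maxTwoLocalsContaining (T : Subgroup G))
    (hTM₀ : (T : Subgroup G) ≤ M₀) (hM₀M : M₀ ≤ M) (hH : H ∈ Cfsg.calHMin (T : Subgroup G) M)
    (hV : V ∈ Cfsg.calR2 M₀)
    (hR : (Cfsg.pCore 2 ↥M₀).map M₀.subtype = (T : Subgroup G) ⊓ Subgroup.centralizer (V : Set G))
    (hI : H ⊓ M ≤ Subgroup.normalizer (Cfsg.oddGenerated M₀ : Set G) ∨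
      H ⊓ M ≤ Subgroup.normalizer (V : Set G)) :
    (∃ R₀ : Subgroup G, R₀ ≠ ⊥ ∧ R₀ ≤ (Cfsg.pCore 2 ↥M₀).map M₀.subtype ∧
        M₀ ⊔ H ≤ Subgroup.normalizer (R₀ : Set G)) ∨
      (¬ V ≤ (Cfsg.pCore 2 ↥H).map H.subtype ∧ Cfsg.CubicParamLE M₀ V 2) ∨
      Cfsg.QuadParamLE M₀ V 2 := by
  exact Cfsg.Agent.QrcE.qrc hQ.2.2 Cfsg.Agent.Omega.FFBr.aStmt
    (fun _ _ _ _ _ _ h hc => h.class_two' Cfsg.Agent.Omega.FFBr.aStmt hc)
    T hTM₀ hM₀M hH hV.1 hV.2.1 hV.2.2.1 hR hI

end Cfsg.Agent.S1824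
end
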