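import Mathlib
import Cfsg.Agent.S1822
import Cfsg.Agent.Lib.CoprimeAbelian
import Cfsg.Agent.Lib.CoprimeCommutator
import Cfsg.Agent.Lib.CoprimeStab
import Cfsg.Agent.SignalizersComponents.InvariantHall
import Cfsg.Prelude.Def_QuasithinSetup
import Cfsg.Agent.H7.Faithful
import Cfsg.Agent.Lib.GoldschmidtFusion
import Cfsg.Agent.CharactersDeep.QuatSylow
import Cfsg.Agent.PLocal.SylowFixed
import Cfsg.Statements.S1852
import Cfsg.Agent.S1824
import Cfsg.Agent.FastGrp
import Cfsg.Agent.Prune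
set_option linter.all false
prune_inst 0x7ffcfefbaff8bddfffff7e7ffffddffffdfcffffffdffbfbfffdfbffffff6b6fffe5fbaf7fecd8fffef7e2be30f87b53f9feceffef6bdc7ffffd5ff45ffffd9fbfefbfad71f7bc3e0ffe6ffffbfb7fffffffffffffffffffffffffffffffffffffffffbfffff
open scoped Cfsg.Agent.FastGrp

-- part: H7/XiRep
section
/-!
# A small 2-group of automorphisms of `V` with few fixed points lost, normalizing a rank two `p`-group

Abstract part of S1852.
-/

set_option autoImplicit false

open scoped commutatorElement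

namespace Cfsg.Agent.H7.XiRep

open Subgroup Cfsg
open Cfsg.Agent.QTSolv.Data (Dat mem_normalizer_of_conj mem_normalizer_sup)

variable {H : Type*} [Group H]

/-! ### Indices of centralizers -/

/-- `|V : C_V(a)|` -/
noncomputable def ix (V : Subgroup H) (a : H) : ℕ := (centralizer ({a} : Set H)).relIndex V

theorem mem_cen {a x : H} : x ∈ centralizer ({a} : Set H) ↔ x * a = a * x := mem_centralizer_singleton_iff

theorem map_centralizer_conj (g a : H) :
    (centralizer ({a} : Set H)).map (MulAut.conj g).toMonoidHom = centralizer ({g * a * g⁻¹} : Set H) := by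
  ext y
  rw [mem_cen]
  constructor
  · rintro ⟨x, hx, rfl⟩
    have h3 : x * a = a * x := mem_cen.1 hx
    change g * x * g⁻¹ * (g * a * g⁻¹) = g * a * g⁻¹ * (g * x * g⁻¹)
    have e1 : g * x * g⁻¹ * (g * a * g⁻¹) = g * (x * a) * g⁻¹ := by group
    have e2 : g * a * g⁻¹ * (g * x * g⁻¹) = g * (a * x) * g⁻¹ := by group
    rw [e1, e2, h3]
  · intro hy
    refine ⟨g⁻¹ * y * g, ?_, by change g * (g⁻¹ * y * g) * g⁻¹ = y; group⟩
    change g⁻¹ * y * g ∈ centralizer ({a} : Set H)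
    rw [mem_cen]
    have e1 : g⁻¹ * y * g * a = g⁻¹ * (y * (g * a * g⁻¹)) * g := by group
    have e2 : a * (g⁻¹ * y * g) = g⁻¹ * ((g * a * g⁻¹) * y) * g := by group
    rw [e1, e2, hy]

theorem map_conj_of_mem_normalizer {V : Subgroup H} {g : H} (hg : g ∈ normalizer (V : Set H)) :
    V.map (MulAut.conj g).toMonoidHom = V := by
  apply le_antisymm
  · rintro _ ⟨x, hx, rfl⟩
    exact (mem_normalizer_iff.1 hg x).1 hx
  · intro x hx
    refine ⟨g⁻¹ * x * g, ?_, by change g * (g⁻¹ * x * g) * g⁻¹ = x; group⟩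
    have := (mem_normalizer_iff.1 (inv_mem hg) x).1 hx
    simpa using this

theorem ix_conj {V : Subgroup H} {g : H} (hg : g ∈ normalizer (V : Set H)) (a : H) : ix V (g * a * g⁻¹) = ix V a := by
  have h1 := relIndex_map_map_of_injective (centralizer ({a} : Set H)) V
    (f := (MulAut.conj g).toMonoidHom) (MulAut.conj g).injective
  rw [map_centralizer_conj, map_conj_of_mem_normalizer hg] at h1
  exact h1

theorem ix_ne_zero [Finite H] (V : Subgroup H) (a : H) : ix V a ≠ 0 := by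
  have h : Finite (↥V ⧸ (centralizer ({a} : Set H)).subgroupOf V) := inferInstance
  exact index_ne_zero_of_finite

theorem ix_eq_one {V : Subgroup H} {a : H} : ix V a = 1 ↔ a ∈ centralizer (V : Set H) := by
  rw [ix, relIndex_eq_one]
  constructor
  · intro h
    rw [mem_centralizer_iff]
    intro v hv
    exact mem_cen.1 (h hv)
  · intro h v hv
    rw [mem_cen]
    exact (mem_centralizer_iff.1 h) v hv

theorem card_eq (V : Subgroup H) (a : H) :
    Nat.card ↥(V ⊓ centralizer ({a} : Set H)) * ix V a = Nat.card V := by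
  have h1 := relIndex_mul_relIndex (⊥ : Subgroup H) (V ⊓ centralizer ({a} : Set H)) V bot_le inf_le_left
  rw [relIndex_bot_left, relIndex_bot_left, inf_relIndex_left] at h1
  exact h1

/-- if `a` inverts `x`, of odd order, then `|V : C_V(x)| ≤ |V : C_V(a)|²`. -/
theorem ix_le_sq [Finite H] {V : Subgroup H} {a x : H} (hx : x ∈ normalizer (V : Set H)) (ho : Odd (orderOf x))
    (hax : a * x * a⁻¹ = x⁻¹) : ix V x ≤ ix V a ^ 2 := by
  have h1 : centralizer ({a} : Set H) ⊓ centralizer ({x * a * x⁻¹} : Set H) ≤ centralizer ({x} : Set H) := by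
    rintro v ⟨h1, h2⟩
    replace h1 := mem_cen.1 h1
    replace h2 := mem_cen.1 h2
    have h3 : x * a * x⁻¹ * a⁻¹ = x * x := by
      have : x * a * x⁻¹ * a⁻¹ = x * (a * x * a⁻¹)⁻¹ := by group
      rw [this, hax, inv_inv]
    have hv : Commute v (x * x) := by
      rw [← h3]
      exact (show Commute v (x * a * x⁻¹) from h2).mul_right (show Commute v a from h1).inv_right
    obtain ⟨m, hm⟩ := exists_pow_eq_self_of_coprime (n := 2) (x := x) (by
      rw [Nat.coprime_two_left]; exact ho)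
    rw [mem_cen]
    rw [← hm, pow_two]
    exact (hv.pow_right m).eq
  calc ix V x ≤ (centralizer ({a} : Set H) ⊓ centralizer ({x * a * x⁻¹} : Set H)).relIndex V := by
        apply relIndex_le_of_le_left h1
        have h : Finite (↥V ⧸ (centralizer ({a} : Set H) ⊓ centralizer ({x * a * x⁻¹} : Set H)).subgroupOf V) :=
          inferInstance
        exact index_ne_zero_of_finite
    _ ≤ ix V a * ix V (x * a * x⁻¹) := relIndex_inf_le
    _ = ix V a ^ 2 := by rw [ix_conj hx, pow_two]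

/-- number of fixed points of a `p`-element modulo `p` -/
theorem card_modEq [Finite H] {p : ℕ} [Fact p.Prime] {A V : Subgroup H} (hA : IsPGroup p A)
    (hAV : A ≤ normalizer (V : Set H)) :
    Nat.card V ≡ Nat.card ↥(V ⊓ centralizer (A : Set H)) [MOD p] := by
  let act : MulAction A V :=
    { smul := fun a v => ⟨(a : H) * v * (a : H)⁻¹, (mem_normalizer_iff.1 (hAV a.2) v).1 v.2⟩
      one_smul := fun v => Subtype.ext (by change (1 : H) * v * (1 : H)⁻¹ = v; simp)
      mul_smul := fun a b v => Subtype.ext (by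
        change ((a : H) * b) * v * ((a : H) * b)⁻¹ = (a : H) * ((b : H) * v * (b : H)⁻¹) * (a : H)⁻¹
        group) }
  have hact : ∀ (a : A) (v : V), ((a • v : V) : H) = (a : H) * v * (a : H)⁻¹ := fun a v => rfl
  have h1 := hA.card_modEq_card_fixedPoints V
  have h2 : Nat.card (MulAction.fixedPoints A V) = Nat.card ↥(V ⊓ centralizer (A : Set H)) := by
    refine Nat.card_congr ⟨fun v => ⟨(v : V), (v : V).2, ?_⟩, fun v => ⟨⟨v, v.2.1⟩, ?_⟩, fun v => rfl, fun v => rfl⟩
    · refine mem_centralizer_iff.2 ?_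
      intro a ha
      have h3 := congrArg Subtype.val (v.2 ⟨a, ha⟩)
      rw [hact] at h3
      exact mul_inv_eq_iff_eq_mul.1 h3
    · intro a
      apply Subtype.ext
      rw [hact]
      exact mul_inv_eq_iff_eq_mul.2 ((mem_centralizer_iff.1 v.2.2) a a.2)
  rw [← h2]
  exact h1

theorem centralizer_zpowers (x : H) : centralizer ((zpowers x : Subgroup H) : Set H) = centralizer ({x} : Set H) := by
  ext y
  rw [mem_cen, mem_centralizer_iff]
  constructor
  · intro h
    exact (h x (mem_zpowers x)).symm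
  · rintro h _ ⟨k, rfl⟩
    exact ((show Commute y x from h).zpow_right k).eq.symm

/-- `|V : C_V(x)| ≡ 1` modulo `p` for `x` of order `p` acting on the 2-group `V`, `p` odd -/
theorem ix_modEq [Finite H] {p : ℕ} [hp : Fact p.Prime] (hp2 : p ≠ 2) {V : Subgroup H} {x : H} (hV : IsPGroup 2 V)
    (hx : x ∈ normalizer (V : Set H)) (hxp : x ^ p = 1) : ix V x ≡ 1 [MOD p] := by
  have hA : IsPGroup p (zpowers x) := by
    refine IsPGroup.of_card_dvd_pow (n := 1) ?_
    rw [Nat.card_zpowers, pow_one]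
    exact orderOf_dvd_of_pow_eq_one hxp
  have h1 := card_modEq hA ((zpowers_le).2 hx)
  rw [centralizer_zpowers, ← card_eq V x] at h1
  have hc : Nat.gcd p (Nat.card ↥(V ⊓ centralizer ({x} : Set H))) = 1 := by
    obtain ⟨n, hn⟩ := IsPGroup.iff_card.1 (hV.to_le (inf_le_left : V ⊓ centralizer ({x} : Set H) ≤ V))
    rw [hn]
    exact Nat.Coprime.pow_right n ((Nat.coprime_primes hp.out Nat.prime_two).2 hp2)
  have h2 : Nat.card ↥(V ⊓ centralizer ({x} : Set H)) * ix V x ≡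
      Nat.card ↥(V ⊓ centralizer ({x} : Set H)) * 1 [MOD p] := by
    rw [mul_one]; exact h1
  exact Nat.ModEq.cancel_left_of_coprime hc h2

theorem ix_pow [Finite H] {V : Subgroup H} (hV : IsPGroup 2 V) (a : H) : ∃ k : ℕ, ix V a = 2 ^ k := by
  have : Fact (Nat.Prime 2) := ⟨Nat.prime_two⟩
  exact hV.index _

/-! ### Involutions acting on `V` -/

/-- fixed points of an involution in a commutator `W = [V, x]`: if `a` inverts `x`, `a²` trivial on `W`, `x` fixed point
free on `W`, then `|W| = |C_W(a)|²`. -/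
theorem card_sq [Finite H] {W : Subgroup H} (hWc : ∀ v ∈ W, ∀ w ∈ W, v * w = w * v) (hW2 : ∀ v ∈ W, v * v = 1)
    {a x : H} (hx : x ∈ normalizer (W : Set H)) (ha : a ∈ normalizer (W : Set H)) (ho : Odd (orderOf x))
    (ha2 : a * a ∈ centralizer (W : Set H)) (hax : a * x * a⁻¹ = x⁻¹)
    (hf : W ⊓ centralizer ({x} : Set H) = ⊥) :
    Nat.card W = Nat.card ↥(W ⊓ centralizer ({a} : Set H)) ^ 2 := by
  apply le_antisymm
  · -- `|W : C_W(a)| ≤ |C_W(a)|`
    rw [← card_eq W a, pow_two]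
    refine Nat.mul_le_mul_left _ ?_
    -- the map `w ↦ w (a w a⁻¹)`
    let f : W →* ↥(W ⊓ centralizer ({a} : Set H)) :=
      { toFun := fun w => ⟨w * (a * w * a⁻¹), W.mul_mem w.2 ((mem_normalizer_iff.1 ha w).1 w.2), by
          refine mem_cen.2 ?_
          have h1 := (mem_centralizer_iff.1 ha2) w w.2
          have h2 : a * ((w : H) * (a * w * a⁻¹)) = (a * w * a⁻¹) * (a * a * w) * a⁻¹ := by group
          rw [h2, ← h1]
          have h3 : a * (w : H) * a⁻¹ * ((w : H) * (a * a)) * a⁻¹ = (a * (w : H) * a⁻¹ * (w : H)) * a := by group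
          rw [h3, hWc _ ((mem_normalizer_iff.1 ha w).1 w.2) w w.2]⟩
        map_one' := Subtype.ext (by simp only [_root_.OneMemClass.coe_one, _root_.mul_one, _root_.mul_inv_cancel])
        map_mul' := fun v w => Subtype.ext (by
          change (v : H) * w * (a * (v * w) * a⁻¹) = (v * (a * v * a⁻¹)) * (w * (a * w * a⁻¹))
          have e1 : a * ((v : H) * w) * a⁻¹ = (a * v * a⁻¹) * (a * w * a⁻¹) := by group
          rw [e1]
          have h4 := hWc w w.2 (a * v * a⁻¹) ((mem_normalizer_iff.1 ha v).1 v.2)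
          calc (v : H) * w * ((a * v * a⁻¹) * (a * w * a⁻¹)) = v * (w * (a * v * a⁻¹)) * (a * w * a⁻¹) := by group
            _ = v * ((a * v * a⁻¹) * w) * (a * w * a⁻¹) := by rw [h4]
            _ = _ := by group) }
    have hker : f.ker ≤ (centralizer ({a} : Set H)).subgroupOf W := by
      intro w hw
      have h1 : (w : H) * (a * w * a⁻¹) = 1 := congrArg Subtype.val hw
      have h2 : (w : H) * w = 1 := hW2 w w.2
      have h3 : a * (w : H) * a⁻¹ = w := mul_left_cancel (h1.trans h2.symm)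
      refine mem_cen.2 ?_
      exact (mul_inv_eq_iff_eq_mul.1 h3).symm
    calc ix W a ≤ f.ker.index := by
          refine Nat.le_of_dvd ?_ (index_dvd_of_le hker)
          exact Nat.pos_of_ne_zero index_ne_zero_of_finite
      _ = Nat.card f.range := index_ker f
      _ ≤ _ := card_le_card_group _
  · -- `C_W(a) ∩ C_W(x a x⁻¹) = 1`
    set A : Subgroup H := W ⊓ centralizer ({a} : Set H) with hA
    set B : Subgroup H := W ⊓ centralizer ({x * a * x⁻¹} : Set H) with hB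
    have hAB : A ⊓ B = ⊥ := by
      rw [eq_bot_iff, ← hf]
      rintro v ⟨⟨h0, h1⟩, ⟨-, h2⟩⟩
      refine ⟨h0, ?_⟩
      replace h1 := mem_cen.1 h1
      replace h2 := mem_cen.1 h2
      have h3 : x * a * x⁻¹ * a⁻¹ = x * x := by
        have : x * a * x⁻¹ * a⁻¹ = x * (a * x * a⁻¹)⁻¹ := by group
        rw [this, hax, inv_inv]
      have hv : Commute v (x * x) := by
        rw [← h3]
        exact (show Commute v (x * a * x⁻¹) from h2).mul_right (show Commute v a from h1).inv_right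
      obtain ⟨m, hm⟩ := exists_pow_eq_self_of_coprime (n := 2) (x := x) (by
        rw [Nat.coprime_two_left]; exact ho)
      refine mem_cen.2 ?_
      rw [← hm, pow_two]
      exact (hv.pow_right m).eq
    have hBA : A.map (MulAut.conj x).toMonoidHom = B := by
      rw [hA, hB, map_inf _ _ _ (MulAut.conj x).injective, map_centralizer_conj, map_conj_of_mem_normalizer hx]
    have hcB : Nat.card B = Nat.card A := by
      rw [← hBA]
      exact card_map_of_injective (f := (MulAut.conj x).toMonoidHom) (MulAut.conj x).injective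
    have hn : B ≤ normalizer (A : Set H) := by
      intro b hb
      rw [mem_normalizer_iff]
      intro w
      constructor
      · intro hw
        have : b * w * b⁻¹ = w := by rw [hWc b hb.1 w hw.1]; group
        rw [this]; exact hw
      · intro hw
        have h1 : w ∈ W := by
          have h2 := W.mul_mem (W.mul_mem (W.inv_mem hb.1) hw.1) hb.1
          have h3 : b⁻¹ * (b * w * b⁻¹) * b = w := by group
          rwa [h3] at h2
        have : b * w * b⁻¹ = w := by rw [hWc b hb.1 w h1]; group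
        rwa [this] at hw
    have h1 := Cfsg.Agent.SignalizersComponents.InvariantHall.card_sup_of_inf_eq_bot hn hAB
    rw [hcB, ← pow_two] at h1
    rw [← h1]
    exact card_le_of_le (sup_le inf_le_left inf_le_left)

/-- `V = C_V(A) × [V, A]` for an abelian group `V` with coprime action: orders and intersection. -/
theorem split [Finite H] {V A : Subgroup H} (hVc : ∀ v ∈ V, ∀ w ∈ V, v * w = w * v)
    (hAV : A ≤ normalizer (V : Set H)) (hcop : (Nat.card A).Coprime (Nat.card V)) :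
    ⁅V, A⁆ ≤ V ∧ (V ⊓ centralizer (A : Set H)) ⊓ ⁅V, A⁆ = ⊥ ∧ (V ⊓ centralizer (A : Set H)) ⊔ ⁅V, A⁆ = V ∧
      Nat.card ↥(V ⊓ centralizer (A : Set H)) * Nat.card ↥(⁅V, A⁆ : Subgroup H) = Nat.card V := by
  have h1 := Cfsg.Agent.Lib.CoprimeAbelian.inf_commutator_eq_bot A V hVc hAV hcop
  have h2 := Cfsg.Agent.Lib.CoprimeAbelian.sup_commutator_eq A V hVc hAV hcop
  have h0 : ⁅V, A⁆ ≤ V := Cfsg.Agent.Lib.CoprimeCommutator.commutator_le_left hAV
  refine ⟨h0, h1, h2, ?_⟩
  have hn : (⁅V, A⁆ : Subgroup H) ≤ normalizer ((V ⊓ centralizer (A : Set H) : Subgroup H) : Set H) := by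
    intro b hb
    have hbV := h0 hb
    rw [mem_normalizer_iff]
    intro w
    constructor
    · intro hw
      have : b * w * b⁻¹ = w := by rw [hVc b hbV w hw.1]; group
      rw [this]; exact hw
    · intro hw
      have h1 : w ∈ V := by
        have h2 := V.mul_mem (V.mul_mem (V.inv_mem hbV) hw.1) hbV
        have h3 : b⁻¹ * (b * w * b⁻¹) * b = w := by group
        rwa [h3] at h2
      have : b * w * b⁻¹ = w := by rw [hVc b hbV w h1]; group
      rwa [this] at hw
  have h3 := Cfsg.Agent.SignalizersComponents.InvariantHall.card_sup_of_inf_eq_bot hn h1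
  rw [← h3, h2]

theorem coprime_of_odd [Finite H] {V A : Subgroup H} (hV : IsPGroup 2 V) (hA : Odd (Nat.card A)) :
    (Nat.card A).Coprime (Nat.card V) := by
  obtain ⟨n, hn⟩ := IsPGroup.iff_card.1 hV
  rw [hn]
  exact Nat.Coprime.pow_right n ((Nat.coprime_two_right).2 hA)

/-- `|V : C_V(x)|` is a power of 4 when `x` is inverted by an involution on `V`. -/
theorem ix_eq_four_pow [Finite H] {V : Subgroup H} (hV : IsPGroup 2 V) (hVc : ∀ v ∈ V, ∀ w ∈ V, v * w = w * v)
    (hV2 : ∀ v ∈ V, v * v = 1) {a x : H} (hx : x ∈ normalizer (V : Set H)) (ha : a ∈ normalizer (V : Set H))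
    (ho : Odd (orderOf x)) (ha2 : a * a ∈ centralizer (V : Set H)) (hax : a * x * a⁻¹ = x⁻¹) :
    ∃ j : ℕ, ix V x = 4 ^ j := by
  have hcop : (Nat.card (zpowers x)).Coprime (Nat.card V) :=
    coprime_of_odd hV (by rw [Nat.card_zpowers]; exact ho)
  obtain ⟨h0, h1, h2, h3⟩ := split hVc ((zpowers_le).2 hx) hcop
  set W : Subgroup H := ⁅V, zpowers x⁆ with hW
  rw [centralizer_zpowers] at h1 h2 h3
  have hWix : Nat.card W = ix V x := by
    have h4 := card_eq V x
    rw [← h3] at h4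
    have h5 : 0 < Nat.card ↥(V ⊓ centralizer ({x} : Set H)) := Nat.card_pos
    exact (Nat.eq_of_mul_eq_mul_left h5 h4).symm
  have hxW : x ∈ normalizer (W : Set H) :=
    (Cfsg.Agent.Lib.CoprimeCommutator.right_le_normalizer_commutator V (zpowers x)) (mem_zpowers x)
  have haW : a ∈ normalizer (W : Set H) := by
    rw [← Subgroup.mem_toSubmonoid]
    have key : ∀ b : H, b ∈ normalizer (V : Set H) → b ∈ normalizer ((zpowers x : Subgroup H) : Set H) →
        ∀ w ∈ W, b * w * b⁻¹ ∈ W := by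
      intro b hb hbx
      have h4 : W ≤ W.comap (MulAut.conj b).toMonoidHom := by
        rw [hW, commutator_le]
        intro v hv y hy
        change b * ⁅v, y⁆ * b⁻¹ ∈ W
        have h5 : b * ⁅v, y⁆ * b⁻¹ = ⁅b * v * b⁻¹, b * y * b⁻¹⁆ := by
          simp only [commutatorElement_def]; group
        rw [h5]
        exact commutator_mem_commutator ((mem_normalizer_iff.1 hb v).1 hv) ((mem_normalizer_iff.1 hbx y).1 hy)
      intro w hw
      exact h4 hw
    have hax' : a ∈ normalizer ((zpowers x : Subgroup H) : Set H) := by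
      apply mem_normalizer_of_conj
      rintro _ ⟨k, rfl⟩
      refine ⟨-k, ?_⟩
      change x ^ (-k) = a * x ^ k * a⁻¹
      rw [← conj_zpow, hax, inv_zpow, zpow_neg]
    exact mem_normalizer_of_conj (key a ha hax')
  have h6 := card_sq (W := W) (fun v hv w hw => hVc v (h0 hv) w (h0 hw)) (fun v hv => hV2 v (h0 hv)) hxW haW ho
    (centralizer_le (show (W : Set H) ⊆ V from h0) ha2) hax (by
      rw [eq_bot_iff, ← h1]
      rintro w ⟨hw, hw2⟩
      exact ⟨⟨h0 hw, hw2⟩, hw⟩)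
  obtain ⟨j, hj⟩ := IsPGroup.iff_card.1 (hV.to_le (inf_le_left.trans h0 : W ⊓ centralizer ({a} : Set H) ≤ V))
  refine ⟨j, ?_⟩
  rw [← hWix, h6, hj, ← pow_mul, mul_comm, pow_mul]
  norm_num

/-! ### The configuration -/

/-- `P` and `S` act on the elementary abelian 2-group `V`, with the same kernel on `V` as on `P` for `S`. -/
structure Conf (p : ℕ) (P S F V : Subgroup H) : Prop where
  dat : Dat p P S F
  Vp : IsPGroup 2 V
  Vc : ∀ v ∈ V, ∀ w ∈ V, v * w = w * v
  V2 : ∀ v ∈ V, v * v = 1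
  PV : P ≤ normalizer (V : Set H)
  SV : S ≤ normalizer (V : Set H)
  S2 : IsPGroup 2 S
  ker : ∀ s ∈ S, s ∈ centralizer (V : Set H) → s ∈ centralizer (P : Set H)
  ker' : ∀ s ∈ S, s ∈ centralizer (P : Set H) → s ∈ centralizer (V : Set H)
  ne : ¬ P ≤ centralizer (V : Set H)

/-- **Burnside**: a `q`-group stabilizing the chain `P ≥ L ≥ F` centralizes `P`. -/
theorem burnside [Finite H] {p q : ℕ} {P S F A L : Subgroup H} (D : Dat p P S F) [Fact q.Prime] (hqp : q ≠ p)
    (hA : IsPGroup q A) (hAP : A ≤ normalizer (P : Set H)) (hAL : A ≤ normalizer (L : Set H)) (hLP : L ≤ P)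
    (h1 : ⁅P, A⁆ ≤ L) (h2 : ⁅L, A⁆ ≤ F) : A ≤ centralizer (P : Set H) := by
  have hpf : Fact p.Prime := ⟨D.prime⟩
  have hnd : ∀ Y : Subgroup H, Y ≤ P → ¬ q ∣ Nat.card Y := by
    intro Y hY hq
    obtain ⟨n, hn⟩ := IsPGroup.iff_card.1 (D.pgroup.to_le hY)
    rw [hn] at hq
    exact hqp ((Nat.prime_dvd_prime_iff_eq Fact.out D.prime).1 (Nat.Prime.dvd_of_dvd_pow Fact.out hq))
  have h3 : (P ⊓ centralizer (A : Set H)) ⊔ F = P := by
    apply le_antisymm (sup_le inf_le_left D.F_le)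
    intro k hk
    obtain ⟨m, hm, c, hc, rfl⟩ := Cfsg.Agent.Lib.CoprimeCommutator.exists_commutator_mul_fixed_of_isPGroup q A P hA
      hAP (hnd P le_rfl) k hk
    obtain ⟨m', hm', c', hc', rfl⟩ := Cfsg.Agent.Lib.CoprimeCommutator.exists_commutator_mul_fixed_of_isPGroup q A L
      hA hAL (hnd L hLP) m (h1 hm)
    exact mul_mem (mul_mem (mem_sup_right (h2 hm')) (mem_sup_left ⟨hLP hc'.1, hc'.2⟩)) (mem_sup_left hc)
  have h4 := D.ngen _ inf_le_left h3
  intro a ha
  rw [mem_centralizer_iff]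
  intro y hy
  have h5 : y ∈ P ⊓ centralizer (A : Set H) := by rw [h4]; exact hy
  exact ((mem_centralizer_iff.1 h5.2) a ha).symm

namespace Conf

variable {p : ℕ} {P S F V : Subgroup H}

theorem F_le_of_inf [Finite H] (C : Conf p P S F V) : P ⊓ centralizer (V : Set H) ≤ F := by
  set K : Subgroup H := P ⊓ centralizer (V : Set H) with hK
  have hSK : S ≤ normalizer (K : Set H) := by
    intro s hs
    apply mem_normalizer_of_conj
    intro y hy
    refine ⟨(mem_normalizer_iff.1 (C.dat.S_le hs) y).1 hy.1, ?_⟩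
    refine mem_centralizer_iff.2 ?_
    intro v hv
    have h1 : s⁻¹ * v * s ∈ V := by
      have := (mem_normalizer_iff.1 (inv_mem (C.SV hs)) v).1 hv
      simpa using this
    have h2 := (mem_centralizer_iff.1 hy.2) _ h1
    have e1 : v * (s * y * s⁻¹) = s * ((s⁻¹ * v * s) * y) * s⁻¹ := by group
    have e2 : s * y * s⁻¹ * v = s * (y * (s⁻¹ * v * s)) * s⁻¹ := by group
    rw [e1, e2, h2]
  rcases C.dat.irr (K ⊔ F) le_sup_right (sup_le inf_le_left C.dat.F_le)
    (fun s hs => mem_normalizer_sup (hSK hs) (C.dat.F_norm hs)) with h | h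
  · rw [← h]; exact le_sup_left
  · exfalso
    have h1 := C.dat.ngen K inf_le_left h
    apply C.ne
    rw [← h1]
    exact inf_le_right

theorem not_mem_centralizer [Finite H] (C : Conf p P S F V) {x : H} (hx : x ∈ P) (hxF : x ∉ F) :
    x ∉ centralizer (V : Set H) := fun h => hxF (C.F_le_of_inf ⟨hx, h⟩)

/-- the elements of `S` acting trivially on `L / L₀` -/
def trivOn (B L L₀ : Subgroup H) (h0 : B ≤ normalizer (L₀ : Set H)) : Subgroup H where
  carrier := {b | b ∈ B ∧ ∀ y ∈ L, ⁅y, b⁆ ∈ L₀}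
  one_mem' := ⟨one_mem _, fun y _ => by simp [L₀.one_mem]⟩
  mul_mem' := by
    rintro b c ⟨hb1, hb3⟩ ⟨hc1, hc3⟩
    refine ⟨mul_mem hb1 hc1, fun y hy => ?_⟩
    have e : ⁅y, b * c⁆ = ⁅y, b⁆ * (b * ⁅y, c⁆ * b⁻¹) := by
      simp only [commutatorElement_def]; group
    rw [e]
    exact L₀.mul_mem (hb3 y hy) ((mem_normalizer_iff.1 (h0 hb1) _).1 (hc3 y hy))
  inv_mem' := by
    rintro b ⟨hb1, hb3⟩
    refine ⟨inv_mem hb1, fun y hy => ?_⟩
    have e : ⁅y, b⁻¹⁆ = b⁻¹ * ⁅y, b⁆⁻¹ * b⁻¹⁻¹ := by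
      simp only [commutatorElement_def]; group
    rw [e]
    exact (mem_normalizer_iff.1 (inv_mem (h0 hb1)) _).1 (L₀.inv_mem (hb3 y hy))

/-- an element of `S` trivial on `P / F` centralizes `P` -/
theorem mem_centralizer_of_triv [Finite H] (C : Conf p P S F V) {a : H} (ha : a ∈ S)
    (h1 : ∀ y ∈ P, ⁅y, a⁆ ∈ F) : a ∈ centralizer (P : Set H) := by
  have h2f : Fact (Nat.Prime 2) := ⟨Nat.prime_two⟩
  have haP := C.dat.S_le ha
  have hA : IsPGroup 2 (zpowers a) := C.S2.to_le ((zpowers_le).2 ha)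
  have hAP : zpowers a ≤ normalizer (P : Set H) := (zpowers_le).2 haP
  refine (burnside C.dat (fun h => C.dat.odd h.symm) hA hAP hAP le_rfl ?_ ?_) (mem_zpowers a)
  · exact Cfsg.Agent.Lib.CoprimeCommutator.commutator_le_left hAP
  · rw [commutator_le]
    rintro y hy _ ⟨k, rfl⟩
    have haT : a ∈ trivOn S P F C.dat.F_norm := ⟨ha, h1⟩
    exact ((trivOn S P F C.dat.F_norm).zpow_mem haT k).2 y hy

/-- `⁅y, a⁆` is inverted by `a` when `a²` centralizes `P` -/
theorem inverted {a y : H} (ha2P : a * a ∈ centralizer (P : Set H)) (hy : y ∈ P) : a * ⁅y, a⁆ * a⁻¹ = ⁅y, a⁆⁻¹ := by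
  rw [commutatorElement_def]
  have h2 := (mem_centralizer_iff.1 ha2P) y⁻¹ (P.inv_mem hy)
  have e1 : a * (y * a * y⁻¹ * a⁻¹) * a⁻¹ = a * y * (a * y⁻¹ * a⁻¹ * a⁻¹) := by group
  have e2 : a * y⁻¹ * a⁻¹ * a⁻¹ = a⁻¹ * y⁻¹ := by
    have h3 : a * a * y⁻¹ = y⁻¹ * (a * a) := h2.symm
    calc a * y⁻¹ * a⁻¹ * a⁻¹ = a⁻¹ * (a * a * y⁻¹) * a⁻¹ * a⁻¹ := by group
      _ = a⁻¹ * (y⁻¹ * (a * a)) * a⁻¹ * a⁻¹ := by rw [h3]
      _ = _ := by group
  rw [e1, e2]
  group

theorem commutator_mem {L : Subgroup H} {a y : H} (ha : a ∈ normalizer (L : Set H)) (hy : y ∈ L) : ⁅y, a⁆ ∈ L := by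
  rw [commutatorElement_def]
  have e : y * a * y⁻¹ * a⁻¹ = y * (a * y⁻¹ * a⁻¹) := by group
  rw [e]
  exact L.mul_mem hy ((mem_normalizer_iff.1 ha _).1 (L.inv_mem hy))

/-- an element of `S` acting on `V` as an involution inverts an element of `P` outside `F` -/
theorem exists_inverted [Finite H] (C : Conf p P S F V) {a : H} (ha : a ∈ S) (ha2 : a * a ∈ centralizer (V : Set H))
    (hne : a ∉ centralizer (V : Set H)) : ∃ x ∈ P, x ∉ F ∧ a * x * a⁻¹ = x⁻¹ := by
  have haP := C.dat.S_le ha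
  have ha2P : a * a ∈ centralizer (P : Set H) := C.ker _ (S.mul_mem ha ha) ha2
  by_contra hcon
  push Not at hcon
  apply hne
  apply C.ker' a ha
  apply C.mem_centralizer_of_triv ha
  intro y hy
  by_contra hyF
  exact hcon _ (commutator_mem haP hy) hyF (inverted ha2P hy)

/-- an element acts as `±1` on a section of prime order when its square acts trivially -/
theorem sign {L₀ L : Subgroup H} {b : H} (hb0 : b ∈ normalizer (L₀ : Set H)) (hb : b ∈ normalizer (L : Set H))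
    (hL : L ≤ normalizer (L₀ : Set H)) (hLL : ⁅L, L⁆ ≤ L₀) (hle : L₀ ≤ L)
    (hirr : ∀ Y : Subgroup H, L₀ ≤ Y → Y ≤ L → Y = L₀ ∨ Y = L) (hb2 : ∀ y ∈ L, ⁅y, b * b⁆ ∈ L₀) :
    (∀ y ∈ L, ⁅y, b⁆ ∈ L₀) ∨ (∀ y ∈ L, y * (b * y * b⁻¹) ∈ L₀) := by
  -- the fixed points modulo `L₀`
  let Y : Subgroup H :=
    { carrier := {y | y ∈ L ∧ ⁅y, b⁆ ∈ L₀}
      one_mem' := ⟨one_mem _, by simp [L₀.one_mem]⟩
      mul_mem' := by
        rintro y z ⟨hy1, hy2⟩ ⟨hz1, hz2⟩
        refine ⟨mul_mem hy1 hz1, ?_⟩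
        have e : ⁅y * z, b⁆ = (y * ⁅z, b⁆ * y⁻¹) * ⁅y, b⁆ := by
          simp only [commutatorElement_def]; group
        rw [e]
        exact L₀.mul_mem ((mem_normalizer_iff.1 (hL hy1) _).1 hz2) hy2
      inv_mem' := by
        rintro y ⟨hy1, hy2⟩
        refine ⟨inv_mem hy1, ?_⟩
        have e : ⁅y⁻¹, b⁆ = y⁻¹ * ⁅y, b⁆⁻¹ * y⁻¹⁻¹ := by
          simp only [commutatorElement_def]; group
        rw [e]
        exact (mem_normalizer_iff.1 (inv_mem (hL hy1)) _).1 (L₀.inv_mem hy2) }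
  have hY : ∀ y, y ∈ Y ↔ y ∈ L ∧ ⁅y, b⁆ ∈ L₀ := fun y => Iff.rfl
  rcases hirr Y (fun y hy => ⟨hle hy, commutator_mem hb0 hy⟩) (fun y hy => hy.1) with h | h
  · right
    intro y hy
    rw [← h, hY]
    have hby : b * y * b⁻¹ ∈ L := (mem_normalizer_iff.1 hb y).1 hy
    refine ⟨L.mul_mem hy hby, ?_⟩
    -- `⁅y (b y b⁻¹), b⁆`
    have h1 := hb2 y⁻¹ (L.inv_mem hy)
    have h2 : ⁅y⁻¹, b * b⁆ = y⁻¹ * (b * b * y * b⁻¹ * b⁻¹) := by
      simp only [commutatorElement_def]; group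
    rw [h2] at h1
    have h3 : ⁅y * (b * y * b⁻¹), b⁆ = ⁅y, b * y * b⁻¹⁆ * ((b * y * b⁻¹) * (y * (b * b * y * b⁻¹ * b⁻¹)⁻¹) *
        (b * y * b⁻¹)⁻¹) := by
      simp only [commutatorElement_def]; group
    rw [h3]
    refine L₀.mul_mem (hLL (commutator_mem_commutator hy hby)) ?_
    refine (mem_normalizer_iff.1 (hL hby) _).1 ?_
    have h4 : y * (b * b * y * b⁻¹ * b⁻¹)⁻¹ = y * (y⁻¹ * (b * b * y * b⁻¹ * b⁻¹))⁻¹ * y⁻¹ := by group
    rw [h4]
    exact (mem_normalizer_iff.1 (hL hy) _).1 (L₀.inv_mem h1)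
  · left
    intro y hy
    rw [← h] at hy
    exact hy.2

/-- the elements acting trivially on a section of prime order have index at most two -/
theorem trivOn_relIndex {B L₀ L : Subgroup H} (hB0 : B ≤ normalizer (L₀ : Set H)) (hB : B ≤ normalizer (L : Set H))
    (hL : L ≤ normalizer (L₀ : Set H)) (hLL : ⁅L, L⁆ ≤ L₀) (hle : L₀ ≤ L)
    (hirr : ∀ Y : Subgroup H, L₀ ≤ Y → Y ≤ L → Y = L₀ ∨ Y = L) (hb2 : ∀ b ∈ B, ∀ y ∈ L, ⁅y, b * b⁆ ∈ L₀) :
    (trivOn B L L₀ hB0).relIndex B ∣ 2 := by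
  rw [relIndex_dvd_two_iff]
  by_cases h : ∀ b ∈ B, b ∈ trivOn B L L₀ hB0
  · exact ⟨1, one_mem _, fun b hb => Or.inr (h b hb)⟩
  · push Not at h
    obtain ⟨a, ha, haT⟩ := h
    have ha' : ∀ y ∈ L, y * (a * y * a⁻¹) ∈ L₀ := by
      rcases sign (hB0 ha) (hB ha) hL hLL hle hirr (hb2 a ha) with h | h
      · exact absurd ⟨ha, h⟩ haT
      · exact h
    refine ⟨a, ha, fun b hb => ?_⟩
    by_cases hbT : b ∈ trivOn B L L₀ hB0
    · exact Or.inr hbT
    · left
      have hb' : ∀ y ∈ L, y * (b * y * b⁻¹) ∈ L₀ := by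
        rcases sign (hB0 hb) (hB hb) hL hLL hle hirr (hb2 b hb) with h | h
        · exact absurd ⟨hb, h⟩ hbT
        · exact h
      refine ⟨mul_mem hb ha, fun y hy => ?_⟩
      have h1 := ha' y⁻¹ (L.inv_mem hy)
      have h2 := hb' y hy
      have h3 : ⁅y, b * a⁆ = (y * (b * y * b⁻¹)) * (b * (y⁻¹ * (a * y⁻¹ * a⁻¹)) * b⁻¹) := by
        simp only [commutatorElement_def]; group
      rw [h3]
      exact L₀.mul_mem h2 ((mem_normalizer_iff.1 (hB0 hb) _).1 h1)

theorem mem_normalizer_centralizer {V : Subgroup H} {a : H} {x : H} (h : x * a = a * x)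
    (hx : x ∈ normalizer (V : Set H)) : x ∈ normalizer ((V ⊓ centralizer ({a} : Set H) : Subgroup H) : Set H) := by
  rw [mem_normalizer_iff]
  intro v
  have e : x * v * x⁻¹ ∈ centralizer ({a} : Set H) ↔ v ∈ centralizer ({a} : Set H) := by
    rw [mem_cen, mem_cen]
    have h' : x⁻¹ * a = a * x⁻¹ := by
      calc x⁻¹ * a = x⁻¹ * (a * x) * x⁻¹ := by group
        _ = x⁻¹ * (x * a) * x⁻¹ := by rw [h]
        _ = a * x⁻¹ := by group
    constructor
    · intro h1
      have e1 : v * a = x⁻¹ * (x * v * x⁻¹ * a) * x := by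
        calc v * a = v * (a * x⁻¹) * x := by group
          _ = v * (x⁻¹ * a) * x := by rw [h']
          _ = _ := by group
      have e2 : a * v = x⁻¹ * (a * (x * v * x⁻¹)) * x := by
        calc a * v = (a * x⁻¹) * x * v := by group
          _ = (x⁻¹ * a) * x * v := by rw [h']
          _ = _ := by group
      rw [e1, e2, h1]
    · intro h1
      calc x * v * x⁻¹ * a = x * v * (x⁻¹ * a) := by group
        _ = x * v * (a * x⁻¹) := by rw [h']
        _ = x * (v * a) * x⁻¹ := by group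
        _ = x * (a * v) * x⁻¹ := by rw [h1]
        _ = (x * a) * v * x⁻¹ := by group
        _ = (a * x) * v * x⁻¹ := by rw [h]
        _ = _ := by group
  constructor
  · rintro ⟨h1, h2⟩
    exact ⟨(mem_normalizer_iff.1 hx v).1 h1, e.2 h2⟩
  · rintro ⟨h1, h2⟩
    exact ⟨(mem_normalizer_iff.1 hx v).2 h1, e.1 h2⟩

/-- **Reduction to a single involution.** -/
theorem exists_small [Finite H] (C : Conf p P S F V) (hp5 : 5 ≤ p) {B : Subgroup H} (hBS : B ≤ S)
    (hne : ¬ B ≤ centralizer (V : Set H)) (hsq : ∀ b ∈ B, b * b ∈ centralizer (V : Set H))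
    (hcomm : ∀ b ∈ B, ∀ b' ∈ B, b * b' * b⁻¹ * b'⁻¹ ∈ centralizer (V : Set H))
    (hidx : (centralizer (B : Set H)).relIndex V ≤ ((centralizer (V : Set H)).relIndex B) ^ 2) :
    ∃ a ∈ S, ∃ x ∈ P, x ∉ F ∧ a * a ∈ centralizer (V : Set H) ∧ a ∉ centralizer (V : Set H) ∧
      a * x * a⁻¹ = x⁻¹ ∧ ix V a ≤ 4 := by
  have hpf : Fact p.Prime := ⟨C.dat.prime⟩
  -- it is enough to find `a`
  suffices h : ∃ a ∈ B, a ∉ centralizer (V : Set H) ∧ ix V a ≤ 4 by
    obtain ⟨a, ha, haV, hix⟩ := h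
    obtain ⟨x, hx, hxF, hax⟩ := C.exists_inverted (hBS ha) (hsq a ha) haV
    exact ⟨a, hBS ha, x, hx, hxF, hsq a ha, haV, hax, hix⟩
  have hcen : ∀ a ∈ B, ix V a ≤ (centralizer (B : Set H)).relIndex V := by
    intro a ha
    apply relIndex_le_of_le_left (centralizer_le (Set.singleton_subset_iff.2 ha))
    have h : Finite (↥V ⧸ (centralizer (B : Set H)).subgroupOf V) := inferInstance
    exact index_ne_zero_of_finite
  by_cases hm : (centralizer (V : Set H)).relIndex B ≤ 2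
  · obtain ⟨a, ha, haV⟩ := SetLike.not_le_iff_exists.1 hne
    refine ⟨a, ha, haV, (hcen a ha).trans (hidx.trans ?_)⟩
    calc _ ≤ 2 ^ 2 := Nat.pow_le_pow_left hm 2
      _ = 4 := by norm_num
  have hFP := C.dat.F_le
  have hPF : P ≤ normalizer (F : Set H) := by
    intro y hy
    apply mem_normalizer_of_conj
    intro f hf
    have h1 := C.dat.F_central hf hy
    have h2 : y * f * y⁻¹ = f := by rw [← h1]; group
    rw [h2]; exact hf
  have hBP : B ≤ normalizer (P : Set H) := hBS.trans C.dat.S_le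
  have hBF : B ≤ normalizer (F : Set H) := hBS.trans C.dat.F_norm
  have hsqP : ∀ b ∈ B, b * b ∈ centralizer (P : Set H) := fun b hb =>
    C.ker _ (S.mul_mem (hBS hb) (hBS hb)) (hsq b hb)
  have hsqc : ∀ b ∈ B, ∀ y ∈ P, ⁅y, b * b⁆ = 1 := by
    intro b hb y hy
    rw [commutatorElement_eq_one_iff_mul_comm]
    exact (mem_centralizer_iff.1 (hsqP b hb)) y hy
  -- the fixed points of `b` modulo `F`
  let L (b : H) : Subgroup H :=
    { carrier := {y | y ∈ P ∧ ⁅y, b⁆ ∈ F}
      one_mem' := ⟨one_mem _, by simp [F.one_mem]⟩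
      mul_mem' := by
        rintro y z ⟨hy1, hy2⟩ ⟨hz1, hz2⟩
        refine ⟨mul_mem hy1 hz1, ?_⟩
        have e : ⁅y * z, b⁆ = (y * ⁅z, b⁆ * y⁻¹) * ⁅y, b⁆ := by
          simp only [commutatorElement_def]; group
        rw [e]
        exact F.mul_mem ((mem_normalizer_iff.1 (hPF hy1) _).1 hz2) hy2
      inv_mem' := by
        rintro y ⟨hy1, hy2⟩
        refine ⟨inv_mem hy1, ?_⟩
        have e : ⁅y⁻¹, b⁆ = y⁻¹ * ⁅y, b⁆⁻¹ * y⁻¹⁻¹ := by
          simp only [commutatorElement_def]; group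
        rw [e]
        exact (mem_normalizer_iff.1 (inv_mem (hPF hy1)) _).1 (F.inv_mem hy2) }
  have hL : ∀ b y, y ∈ L b ↔ y ∈ P ∧ ⁅y, b⁆ ∈ F := fun b y => Iff.rfl
  have hLP : ∀ b, L b ≤ P := fun b y hy => hy.1
  have hFL : ∀ b ∈ B, F ≤ L b := fun b hb y hy => ⟨hFP hy, commutator_mem (hBF hb) hy⟩
  -- if `L b = F` then `b` inverts `P / F`
  have hinv : ∀ b ∈ B, L b = F → ∀ y ∈ P, y * (b * y * b⁻¹) ∈ F := by
    intro b hb hLb y hy
    rw [← hLb, hL]
    have hby : b * y * b⁻¹ ∈ P := (mem_normalizer_iff.1 (hBP hb) y).1 hy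
    refine ⟨P.mul_mem hy hby, ?_⟩
    have h1 := hsqc b hb y⁻¹ (P.inv_mem hy)
    have h2 : ⁅y⁻¹, b * b⁆ = y⁻¹ * (b * b * y * b⁻¹ * b⁻¹) := by
      simp only [commutatorElement_def]; group
    rw [h2] at h1
    have h3 : ⁅y * (b * y * b⁻¹), b⁆ = ⁅y, b * y * b⁻¹⁆ * ((b * y * b⁻¹) * (y * (b * b * y * b⁻¹ * b⁻¹)⁻¹) *
        (b * y * b⁻¹)⁻¹) := by
      simp only [commutatorElement_def]; group
    have h4 : y * (b * b * y * b⁻¹ * b⁻¹)⁻¹ = y * (y⁻¹ * (b * b * y * b⁻¹ * b⁻¹))⁻¹ * y⁻¹ := by group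
    rw [h3, h4, h1]
    have h5 : b * y * b⁻¹ * (y * (1 : H)⁻¹ * y⁻¹) * (b * y * b⁻¹)⁻¹ = 1 := by group
    rw [h5, mul_one]
    exact C.dat.comm (commutator_mem_commutator hy hby)
  have htriv : ∀ b ∈ B, (∀ y ∈ P, ⁅y, b⁆ ∈ F) → b ∈ centralizer (V : Set H) := fun b hb h =>
    C.ker' b (hBS hb) (C.mem_centralizer_of_triv (hBS hb) h)
  -- some `b` has fixed points on `P / F`
  obtain ⟨b, hb, hbV, hbL⟩ : ∃ b ∈ B, b ∉ centralizer (V : Set H) ∧ L b ≠ F := by
    by_contra hcon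
    push Not at hcon
    obtain ⟨b1, hb1, hb1V⟩ := SetLike.not_le_iff_exists.1 hne
    apply hm
    apply Nat.le_of_dvd (by norm_num)
    rw [relIndex_dvd_two_iff]
    refine ⟨b1, hb1, fun b2 hb2 => ?_⟩
    by_cases hb2V : b2 ∈ centralizer (V : Set H)
    · exact Or.inr hb2V
    · left
      apply htriv _ (B.mul_mem hb2 hb1)
      intro y hy
      have h1 := hinv b1 hb1 (hcon b1 hb1 hb1V) y⁻¹ (P.inv_mem hy)
      have h2 := hinv b2 hb2 (hcon b2 hb2 hb2V) y hy
      have h3 : ⁅y, b2 * b1⁆ = (y * (b2 * y * b2⁻¹)) * (b2 * (y⁻¹ * (b1 * y⁻¹ * b1⁻¹)) * b2⁻¹) := by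
        simp only [commutatorElement_def]; group
      rw [h3]
      exact F.mul_mem h2 ((mem_normalizer_iff.1 (hBF hb2) _).1 h1)
  have hLne : L b ≠ P := by
    intro h
    apply hbV
    apply htriv b hb
    intro y hy
    rw [← h] at hy
    exact hy.2
  -- orders
  have hFpos : 0 < Nat.card F := Nat.card_pos
  have hLcard : Nat.card (L b) = p * Nat.card F := by
    obtain ⟨m, hm1⟩ := card_dvd_of_le (hFL b hb)
    obtain ⟨n, hn1⟩ := card_dvd_of_le (hLP b)
    have h1 := C.dat.card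
    rw [hn1, hm1] at h1
    have h2 : m * n = p ^ 2 := by
      have h3 : (m * n) * Nat.card F = p ^ 2 * Nat.card F := by rw [← h1]; ring
      exact Nat.eq_of_mul_eq_mul_right hFpos h3
    have h3 : m ∣ p ^ 2 := ⟨n, h2.symm⟩
    obtain ⟨k, hk, hmk⟩ := (Nat.dvd_prime_pow C.dat.prime).1 h3
    have hk0 : k ≠ 0 := by
      rintro rfl
      apply hbL
      rw [pow_zero] at hmk
      rw [hmk, mul_one] at hm1
      exact (Subgroup.eq_of_le_of_card_ge (hFL b hb) hm1.le).symm
    have hk2 : k ≠ 2 := by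
      rintro rfl
      apply hLne
      rw [hmk] at h2
      have hn : n = 1 := by
        have : p ^ 2 * n = p ^ 2 * 1 := by rw [h2, mul_one]
        exact Nat.eq_of_mul_eq_mul_left (pow_pos C.dat.prime.pos 2) this
      rw [hn, mul_one] at hn1
      exact Subgroup.eq_of_le_of_card_ge (hLP b) hn1.le
    have hk1 : k = 1 := by omega
    rw [hk1, pow_one] at hmk
    rw [hm1, hmk, mul_comm]
  have hprime : ∀ L₀ L₁ : Subgroup H, L₀ ≤ L₁ → Nat.card L₁ = p * Nat.card L₀ →
      ∀ Y : Subgroup H, L₀ ≤ Y → Y ≤ L₁ → Y = L₀ ∨ Y = L₁ := by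
    intro L₀ L₁ hle hc Y h1 h2
    have hpos : 0 < Nat.card L₀ := Nat.card_pos
    obtain ⟨m, hm1⟩ := card_dvd_of_le h1
    obtain ⟨n, hn1⟩ := card_dvd_of_le h2
    rw [hn1, hm1] at hc
    have h4 : m * n = p := by
      have h3 : (m * n) * Nat.card L₀ = p * Nat.card L₀ := by rw [← hc]; ring
      exact Nat.eq_of_mul_eq_mul_right hpos h3
    rcases (Nat.dvd_prime C.dat.prime).1 ⟨n, h4.symm⟩ with h5 | h5
    · left
      rw [h5, mul_one] at hm1
      exact (Subgroup.eq_of_le_of_card_ge h1 hm1.le).symm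
    · right
      rw [h5] at h4
      have hn : n = 1 := by
        have : p * n = p * 1 := by rw [h4, mul_one]
        exact Nat.eq_of_mul_eq_mul_left C.dat.prime.pos this
      rw [hn, mul_one] at hn1
      exact Subgroup.eq_of_le_of_card_ge h2 hn1.le
  have hirr1 := hprime F (L b) (hFL b hb) hLcard
  have hirr2 := hprime (L b) P (hLP b) (by rw [hLcard, C.dat.card]; ring)
  -- `B` normalizes `L b`, and `C_P(b)`
  have hbb : ∀ b' ∈ B, ∃ c ∈ centralizer (P : Set H), b = (b' * b * b'⁻¹) * c := by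
    intro b' hb'
    refine ⟨(b' * b * b'⁻¹)⁻¹ * b, ?_, by group⟩
    have h1 := hcomm b hb b' hb'
    have h2 : b * b' * b⁻¹ * b'⁻¹ ∈ centralizer (P : Set H) := by
      refine C.ker _ ?_ h1
      exact S.mul_mem (S.mul_mem (S.mul_mem (hBS hb) (hBS hb')) (S.inv_mem (hBS hb))) (S.inv_mem (hBS hb'))
    have h3 : (b' * b * b'⁻¹)⁻¹ * b = b⁻¹ * (b * b' * b⁻¹ * b'⁻¹) * b⁻¹⁻¹ := by group
    rw [h3, mem_centralizer_iff]
    intro y hy
    have h4 : b * y * b⁻¹ ∈ P := (mem_normalizer_iff.1 (hBP hb) y).1 hy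
    have h5 := (mem_centralizer_iff.1 h2) _ h4
    generalize b * b' * b⁻¹ * b'⁻¹ = t at h5
    calc y * (b⁻¹ * t * b⁻¹⁻¹) = b⁻¹ * ((b * y * b⁻¹) * t) * b := by group
      _ = b⁻¹ * (t * (b * y * b⁻¹)) * b := by rw [h5]
      _ = _ := by group
  have hBL : B ≤ normalizer (L b : Set H) := by
    intro b' hb'
    apply mem_normalizer_of_conj
    intro y hy
    have hy' : b' * y * b'⁻¹ ∈ P := (mem_normalizer_iff.1 (hBP hb') y).1 hy.1
    refine ⟨hy', ?_⟩
    obtain ⟨c, hc, hbc⟩ := hbb b' hb'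
    have h1 : ⁅b' * y * b'⁻¹, b⁆ = b' * ⁅y, b⁆ * b'⁻¹ := by
      have h2 := (mem_centralizer_iff.1 hc) _ (P.inv_mem hy')
      calc ⁅b' * y * b'⁻¹, b⁆ = (b' * y * b'⁻¹) * b * (b' * y * b'⁻¹)⁻¹ * b⁻¹ := by
            rw [commutatorElement_def]
        _ = (b' * y * b'⁻¹) * ((b' * b * b'⁻¹) * c) * (b' * y * b'⁻¹)⁻¹ * ((b' * b * b'⁻¹) * c)⁻¹ := by rw [← hbc]
        _ = (b' * y * b'⁻¹) * (b' * b * b'⁻¹) * (c * (b' * y * b'⁻¹)⁻¹) * c⁻¹ * (b' * b * b'⁻¹)⁻¹ := by group
        _ = (b' * y * b'⁻¹) * (b' * b * b'⁻¹) * ((b' * y * b'⁻¹)⁻¹ * c) * c⁻¹ * (b' * b * b'⁻¹)⁻¹ := by rw [h2]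
        _ = _ := by rw [commutatorElement_def]; group
    rw [h1]
    exact (mem_normalizer_iff.1 (hBF hb') _).1 hy.2
  have hPL : P ≤ normalizer (L b : Set H) := by
    intro y hy
    apply mem_normalizer_of_conj
    intro z hz
    have h1 : y * z * y⁻¹ = ⁅y, z⁆ * z := by rw [commutatorElement_def]; group
    rw [h1]
    exact mul_mem (hFL b hb (C.dat.comm (commutator_mem_commutator hy hz.1))) hz
  -- the two kernels
  have hK1 := trivOn_relIndex (B := B) (L₀ := F) (L := L b) hBF hBL ((hLP b).trans hPF)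
    ((commutator_mono (hLP b) (hLP b)).trans C.dat.comm) (hFL b hb) hirr1 (fun b' hb' y hy => by
      rw [hsqc b' hb' y (hLP b hy)]; exact F.one_mem)
  have hK2 := trivOn_relIndex (B := B) (L₀ := L b) (L := P) hBL hBP hPL
    (C.dat.comm.trans (hFL b hb)) (hLP b) hirr2 (fun b' hb' y hy => by
      rw [hsqc b' hb' y hy]; exact one_mem _)
  set K1 := trivOn B (L b) F hBF with hK1d
  set K2 := trivOn B P (L b) hBL with hK2d
  have hK : K1 ⊓ K2 ≤ centralizer (V : Set H) := by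
    have h2f : Fact (Nat.Prime 2) := ⟨Nat.prime_two⟩
    rintro c ⟨hc1, hc2⟩
    have hcB : c ∈ B := hc1.1
    apply C.ker' c (hBS hcB)
    have hA : IsPGroup 2 (zpowers c) := C.S2.to_le ((zpowers_le).2 (hBS hcB))
    refine (burnside (L := L b) C.dat (fun h => C.dat.odd h.symm) hA ((zpowers_le).2 (hBP hcB))
      ((zpowers_le).2 (hBL hcB)) (hLP b) ?_ ?_) (mem_zpowers c)
    · rw [commutator_le]
      rintro y hy _ ⟨k, rfl⟩
      exact (K2.zpow_mem hc2 k).2 y hy
    · rw [commutator_le]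
      rintro y hy _ ⟨k, rfl⟩
      exact (K1.zpow_mem hc1 k).2 y hy
  have hK1' : K1.relIndex B ≤ 2 := Nat.le_of_dvd (by norm_num) hK1
  have hK2' : K2.relIndex B ≤ 2 := Nat.le_of_dvd (by norm_num) hK2
  have hne0 : ∀ K : Subgroup H, K.relIndex B ≠ 0 := by
    intro K
    have h : Finite (↥B ⧸ K.subgroupOf B) := inferInstance
    exact index_ne_zero_of_finite
  have hm4 : (centralizer (V : Set H)).relIndex B ≤ 4 := by
    calc (centralizer (V : Set H)).relIndex B ≤ (K1 ⊓ K2).relIndex B := relIndex_le_of_le_left hK (hne0 _)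
      _ ≤ K1.relIndex B * K2.relIndex B := relIndex_inf_le
      _ ≤ 2 * 2 := Nat.mul_le_mul hK1' hK2'
      _ = 4 := by norm_num
  obtain ⟨a, ha, haK⟩ : ∃ a ∈ B, a ∉ K1 := by
    by_contra hcon
    push Not at hcon
    apply hm
    have h1 : K2 ≤ centralizer (V : Set H) := fun c hc => hK ⟨hcon c hc.1, hc⟩
    exact (relIndex_le_of_le_left h1 (hne0 _)).trans hK2'
  -- an element of `C_P(b)` outside `F` inverted by `a`
  have hCb : ∀ y ∈ P, y * b = b * y → a * y * a⁻¹ * b = b * (a * y * a⁻¹) := by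
    intro y hy hyb
    obtain ⟨c, hc, hbc⟩ := hbb a ha
    have hy' : a * y * a⁻¹ ∈ P := (mem_normalizer_iff.1 (hBP ha) y).1 hy
    have h2 := (mem_centralizer_iff.1 hc) _ hy'
    calc a * y * a⁻¹ * b = a * y * a⁻¹ * ((a * b * a⁻¹) * c) := by rw [← hbc]
      _ = a * (y * b) * a⁻¹ * c := by group
      _ = a * (b * y) * a⁻¹ * c := by rw [hyb]
      _ = (a * b * a⁻¹) * ((a * y * a⁻¹) * c) := by group
      _ = (a * b * a⁻¹) * (c * (a * y * a⁻¹)) := by rw [h2]
      _ = ((a * b * a⁻¹) * c) * (a * y * a⁻¹) := by group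
      _ = _ := by rw [← hbc]
  obtain ⟨y, hyP, hyb, hyF⟩ : ∃ y ∈ P, y * b = b * y ∧ ⁅y, a⁆ ∉ F := by
    by_contra hcon
    push Not at hcon
    have h2f : Fact (Nat.Prime 2) := ⟨Nat.prime_two⟩
    apply haK
    refine ⟨ha, fun y hy => ?_⟩
    have hA : IsPGroup 2 (zpowers b) := C.S2.to_le ((zpowers_le).2 (hBS hb))
    have hnd : ¬ 2 ∣ Nat.card (L b) := by
      intro hq
      obtain ⟨n, hn⟩ := IsPGroup.iff_card.1 (C.dat.pgroup.to_le (hLP b))
      rw [hn] at hq
      exact C.dat.odd ((Nat.prime_dvd_prime_iff_eq Nat.prime_two C.dat.prime).1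
        (Nat.Prime.dvd_of_dvd_pow Nat.prime_two hq)).symm
    obtain ⟨m, hm1, c, hc, rfl⟩ := Cfsg.Agent.Lib.CoprimeCommutator.exists_commutator_mul_fixed_of_isPGroup 2
      (zpowers b) (L b) hA ((zpowers_le).2 (hBL hb)) hnd y hy
    have h1 : m ∈ F := by
      have h2 : ⁅L b, zpowers b⁆ ≤ F := by
        rw [commutator_le]
        rintro y hy _ ⟨k, rfl⟩
        have h3 : b ∈ trivOn B (L b) F hBF := ⟨hb, fun y hy => hy.2⟩
        exact ((trivOn B (L b) F hBF).zpow_mem h3 k).2 y hy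
      exact h2 hm1
    have h2 : c * b = b * c := ((mem_centralizer_iff.1 hc.2) b (mem_zpowers b)).symm
    have h3 := hcon c hc.1.1 h2
    have e : ⁅m * c, a⁆ = (m * ⁅c, a⁆ * m⁻¹) * ⁅m, a⁆ := by
      simp only [commutatorElement_def]; group
    rw [e]
    exact F.mul_mem (F.mul_mem (F.mul_mem h1 h3) (F.inv_mem h1)) (commutator_mem (hBF ha) h1)
  obtain ⟨x, hxd⟩ : ∃ x, x = ⁅y, a⁆ := ⟨_, rfl⟩
  have hxP : x ∈ P := by rw [hxd]; exact commutator_mem (hBP ha) hyP
  have hxF : x ∉ F := by rw [hxd]; exact hyF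
  have hax : a * x * a⁻¹ = x⁻¹ := by rw [hxd]; exact inverted (hsqP a ha) hyP
  have hxb : x * b = b * x := by
    have h1 : x = y * (a * y * a⁻¹)⁻¹ := by rw [hxd, commutatorElement_def]; group
    have h2 : Commute (a * y * a⁻¹) b := hCb y hyP hyb
    have h3 : Commute y b := hyb
    rw [h1]
    exact (h3.mul_left h2.inv_left).eq
  have hxp : x ^ p = 1 := C.dat.pow_eq_one x hxP
  have hodd : Odd (orderOf x) := by
    have h1 : orderOf x ∣ p := orderOf_dvd_of_pow_eq_one hxp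
    have h2 : Odd p := C.dat.prime.odd_of_ne_two C.dat.odd
    exact Odd.of_dvd_nat h2 h1
  -- the two candidates
  by_contra hcon
  push Not at hcon
  have haV : a ∉ centralizer (V : Set H) := by
    intro h
    apply haK
    refine ⟨ha, fun y hy => ?_⟩
    have h1 := (mem_centralizer_iff.1 (C.ker a (hBS ha) h)) y hy.1
    have h2 : ⁅y, a⁆ = 1 := by rw [commutatorElement_eq_one_iff_mul_comm]; exact h1
    rw [h2]; exact F.one_mem
  have hb4 := hcon b hb hbV
  set V₁ : Subgroup H := V ⊓ centralizer ({b} : Set H) with hV₁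
  -- `|V₁ : C_{V₁}(a)| ≤ 2`
  have hmul : ix V₁ a * ix V b ≤ 16 := by
    have h1 : ix V₁ a * ix V b = (centralizer ({a} : Set H) ⊓ centralizer ({b} : Set H)).relIndex V := by
      rw [ix, ix, hV₁, inf_comm V, relIndex_inf_mul_relIndex]
    rw [h1]
    calc _ ≤ (centralizer (B : Set H)).relIndex V := by
          apply relIndex_le_of_le_left
          · exact le_inf (centralizer_le (Set.singleton_subset_iff.2 ha))
              (centralizer_le (Set.singleton_subset_iff.2 hb))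
          · have h : Finite (↥V ⧸ (centralizer (B : Set H)).subgroupOf V) := inferInstance
            exact index_ne_zero_of_finite
      _ ≤ _ := hidx
      _ ≤ 4 ^ 2 := Nat.pow_le_pow_left hm4 2
      _ = 16 := by norm_num
  obtain ⟨k, hk⟩ := ix_pow C.Vp b
  have hk3 : 8 ≤ ix V b := by
    rw [hk] at hb4 ⊢
    have : 3 ≤ k := by
      by_contra h
      have h1 : k ≤ 2 := by omega
      have h2 : 2 ^ k ≤ 2 ^ 2 := Nat.pow_le_pow_right (by norm_num) h1
      omega
    calc 8 = 2 ^ 3 := by norm_num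
      _ ≤ 2 ^ k := Nat.pow_le_pow_right (by norm_num) this
  have hV₁a : ix V₁ a ≤ 2 := by
    by_contra h
    push Not at h
    have : 3 * 8 ≤ ix V₁ a * ix V b := Nat.mul_le_mul h hk3
    omega
  have hxV := C.PV hxP
  have hxV₁ : x ∈ normalizer (V₁ : Set H) := mem_normalizer_centralizer hxb hxV
  have hx1 : ix V₁ x ≤ 4 := by
    calc ix V₁ x ≤ ix V₁ a ^ 2 := ix_le_sq hxV₁ hodd hax
      _ ≤ 2 ^ 2 := Nat.pow_le_pow_left hV₁a 2
      _ = 4 := by norm_num
  have hV₁p : IsPGroup 2 V₁ := C.Vp.to_le inf_le_left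
  have hx2 : ix V₁ x = 1 := by
    have h1 := ix_modEq C.dat.odd hV₁p hxV₁ hxp
    have h2 : 0 < ix V₁ x := Nat.pos_of_ne_zero (ix_ne_zero _ _)
    have h3 : ix V₁ x % p = ix V₁ x := Nat.mod_eq_of_lt (by omega)
    have h4 : 1 % p = 1 := Nat.mod_eq_of_lt (by omega)
    rw [Nat.ModEq, h3, h4] at h1
    exact h1
  rw [ix_eq_one] at hx2
  -- hence `x` centralizes `V`
  apply C.not_mem_centralizer hxP hxF
  rw [mem_centralizer_iff]
  intro v hv
  have hcop : (orderOf x).Coprime (Nat.card V) := by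
    obtain ⟨n, hn⟩ := IsPGroup.iff_card.1 C.Vp
    rw [hn]
    exact Nat.Coprime.pow_right n ((Nat.coprime_two_right).2 hodd)
  have hvV : ⁅v, x⁆ ∈ V := commutator_mem hxV hv
  refine (Cfsg.Agent.Lib.CoprimeStab.commute_of_commutator_commute hcop hvV ?_).eq
  -- `⁅v, x⁆ ∈ V₁`
  have hbVn : b ∈ normalizer (V : Set H) := C.SV (hBS hb)
  have hbv : b * v * b⁻¹ ∈ V := (mem_normalizer_iff.1 hbVn v).1 hv
  have hd : v * (b * v * b⁻¹) ∈ V₁ := by
    refine ⟨V.mul_mem hv hbv, ?_⟩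
    refine mem_cen.2 ?_
    have h1 := (mem_centralizer_iff.1 (hsq b hb)) v hv
    calc v * (b * v * b⁻¹) * b = (v * (b * v * b⁻¹)) * b := rfl
      _ = ((b * v * b⁻¹) * v) * b := by rw [C.Vc v hv _ hbv]
      _ = b * v * b⁻¹ * b⁻¹ * (b * (v * b)) := by group
      _ = b * v * b⁻¹ * v * b := by group
      _ = b * v * b⁻¹ * (v * (b * b)) * b⁻¹ := by group
      _ = b * v * b⁻¹ * ((b * b) * v) * b⁻¹ := by rw [h1]
      _ = b * (v * (b * v * b⁻¹)) := by group
  have h1 : v * (b * v * b⁻¹) * x = x * (v * (b * v * b⁻¹)) := (mem_centralizer_iff.1 hx2) _ hd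
  have hv' : x * v * x⁻¹ ∈ V := (mem_normalizer_iff.1 hxV v).1 hv
  have hbv' : b * (x * v * x⁻¹) * b⁻¹ ∈ V := (mem_normalizer_iff.1 hbVn _).1 hv'
  have h2 : (x * v * x⁻¹) * (b * (x * v * x⁻¹) * b⁻¹) = v * (b * v * b⁻¹) := by
    have h3 : b * (x * v * x⁻¹) * b⁻¹ = x * (b * v * b⁻¹) * x⁻¹ := by
      have h4 : b * x = x * b := hxb.symm
      have h5 : x⁻¹ * b⁻¹ = b⁻¹ * x⁻¹ := by rw [← mul_inv_rev, ← mul_inv_rev, h4]
      calc b * (x * v * x⁻¹) * b⁻¹ = (b * x) * v * (x⁻¹ * b⁻¹) := by group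
        _ = (x * b) * v * (b⁻¹ * x⁻¹) := by rw [h4, h5]
        _ = _ := by group
    rw [h3]
    calc x * v * x⁻¹ * (x * (b * v * b⁻¹) * x⁻¹) = (x * (v * (b * v * b⁻¹))) * x⁻¹ := by group
      _ = (v * (b * v * b⁻¹) * x) * x⁻¹ := by rw [h1]
      _ = _ := by group
  have hmem : ⁅v, x⁆ ∈ V₁ := by
    refine ⟨hvV, mem_cen.2 ?_⟩
    have e0 : ⁅v, x⁆ = v * (x * v * x⁻¹)⁻¹ := by rw [commutatorElement_def]; group
    set v' := x * v * x⁻¹ with hv'd
    have i1 : v'⁻¹ = v' := inv_eq_of_mul_eq_one_right (C.V2 v' hv')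
    rw [e0, i1]
    -- `b (v v') b⁻¹ = v v'`
    have h5 : b * (v * v') * b⁻¹ = v * v' := by
      have h6 : b * (v * v') * b⁻¹ = (b * v * b⁻¹) * (b * v' * b⁻¹) := by group
      rw [h6]
      -- from `v' (b v' b⁻¹) = v (b v b⁻¹)`
      have h7 : (b * v * b⁻¹) * (b * v' * b⁻¹) = v⁻¹ * (v * (b * v * b⁻¹)) * (v'⁻¹ * (v' * (b * v' * b⁻¹))) := by
        group
      rw [h7, h2, i1]
      have i2 : v⁻¹ = v := inv_eq_of_mul_eq_one_right (C.V2 v hv)
      rw [i2]
      set d := v * (b * v * b⁻¹) with hdd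
      have hdV : d ∈ V := hd.1
      calc v * d * (v' * d) = v * (d * v') * d := by group
        _ = v * (v' * d) * d := by rw [C.Vc d hdV v' hv']
        _ = v * v' * (d * d) := by group
        _ = v * v' := by rw [C.V2 d hdV, mul_one]
    calc v * v' * b = (b * (v * v') * b⁻¹) * b := by rw [h5]
      _ = b * (v * v') := by group
  exact (mem_centralizer_iff.1 hx2) _ hmem

end Conf

end Cfsg.Agent.H7.XiRep
end

-- part: H7/XiRepTwo
section
/-!
# The prime is 3 or 5, and for 5 the module is the sum of two modules with different kernels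
-/

set_option autoImplicit false

open scoped commutatorElement

namespace Cfsg.Agent.H7.XiRep

open Subgroup Cfsg
open Cfsg.Agent.QTSolv.Data (Dat mem_normalizer_of_conj mem_normalizer_sup)

variable {H : Type*} [Group H]

theorem eq_or_of_card [Finite H] {p : ℕ} (hp : p.Prime) {L₀ L₁ : Subgroup H} (hc : Nat.card L₁ = p * Nat.card L₀)
    {Y : Subgroup H} (h1 : L₀ ≤ Y) (h2 : Y ≤ L₁) : Y = L₀ ∨ Y = L₁ := by
  have hpos : 0 < Nat.card L₀ := Nat.card_pos
  obtain ⟨m, hm1⟩ := card_dvd_of_le h1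
  obtain ⟨n, hn1⟩ := card_dvd_of_le h2
  rw [hn1, hm1] at hc
  have h4 : m * n = p := by
    have h3 : (m * n) * Nat.card L₀ = p * Nat.card L₀ := by rw [← hc]; ring
    exact Nat.eq_of_mul_eq_mul_right hpos h3
  rcases (Nat.dvd_prime hp).1 ⟨n, h4.symm⟩ with h5 | h5
  · left
    rw [h5, mul_one] at hm1
    exact (Subgroup.eq_of_le_of_card_ge h1 hm1.le).symm
  · right
    rw [h5] at h4
    have hn : n = 1 := by
      have : p * n = p * 1 := by rw [h4, mul_one]
      exact Nat.eq_of_mul_eq_mul_left hp.pos this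
    rw [hn, mul_one] at hn1
    exact Subgroup.eq_of_le_of_card_ge h2 hn1.le

theorem card_mid [Finite H] {p : ℕ} (hp : p.Prime) {F L P : Subgroup H} (hc : Nat.card P = p ^ 2 * Nat.card F)
    (h1 : F ≤ L) (h2 : L ≤ P) (hF : L ≠ F) (hP : L ≠ P) : Nat.card L = p * Nat.card F := by
  have hFpos : 0 < Nat.card F := Nat.card_pos
  obtain ⟨m, hm1⟩ := card_dvd_of_le h1
  obtain ⟨n, hn1⟩ := card_dvd_of_le h2
  rw [hn1, hm1] at hc
  have h3 : m * n = p ^ 2 := by
    have h3 : (m * n) * Nat.card F = p ^ 2 * Nat.card F := by rw [← hc]; ring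
    exact Nat.eq_of_mul_eq_mul_right hFpos h3
  obtain ⟨k, hk, hmk⟩ := (Nat.dvd_prime_pow hp).1 (⟨n, h3.symm⟩ : m ∣ p ^ 2)
  have hk0 : k ≠ 0 := by
    rintro rfl
    apply hF
    rw [pow_zero] at hmk
    rw [hmk, mul_one] at hm1
    exact (Subgroup.eq_of_le_of_card_ge h1 hm1.le).symm
  have hk2 : k ≠ 2 := by
    rintro rfl
    apply hP
    rw [hmk] at h3
    have hn : n = 1 := by
      have : p ^ 2 * n = p ^ 2 * 1 := by rw [h3, mul_one]
      exact Nat.eq_of_mul_eq_mul_left (pow_pos hp.pos 2) this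
    rw [hn, mul_one] at hn1
    exact Subgroup.eq_of_le_of_card_ge h2 hn1.le
  have hk1 : k = 1 := by omega
  rw [hk1, pow_one] at hmk
  rw [hm1, hmk, mul_comm]

namespace Conf

variable {p : ℕ} {P S F V : Subgroup H}

theorem P_le_normalizer_F [Finite H] (C : Conf p P S F V) {L : Subgroup H} (hFL : F ≤ L) (hLP : L ≤ P) :
    P ≤ normalizer (L : Set H) := by
  intro y hy
  apply mem_normalizer_of_conj
  intro z hz
  have h1 : y * z * y⁻¹ = ⁅y, z⁆ * z := by rw [commutatorElement_def]; group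
  rw [h1]
  exact mul_mem (hFL (C.dat.comm (commutator_mem_commutator hy (hLP hz)))) hz

theorem pos_index (K L : Subgroup H) [Finite H] : K.relIndex L ≠ 0 := by
  have h : Finite (↥L ⧸ K.subgroupOf L) := inferInstance
  exact index_ne_zero_of_finite

/-- the prime is 3 or 5; for 5 some element has `|V : C_V(x)| = 16` -/
theorem five [Finite H] (C : Conf p P S F V) (hp5 : 5 ≤ p) {a x : H} (ha : a ∈ S) (hx : x ∈ P) (hxF : x ∉ F)
    (ha2 : a * a ∈ centralizer (V : Set H)) (hax : a * x * a⁻¹ = x⁻¹) (hix : ix V a ≤ 4) :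
    p = 5 ∧ ix V x = 16 := by
  have hpf : Fact p.Prime := ⟨C.dat.prime⟩
  have hxp : x ^ p = 1 := C.dat.pow_eq_one x hx
  have hodd : Odd (orderOf x) := by
    have h1 : orderOf x ∣ p := orderOf_dvd_of_pow_eq_one hxp
    have h2 : Odd p := C.dat.prime.odd_of_ne_two C.dat.odd
    exact Odd.of_dvd_nat h2 h1
  have h1 : ix V x ≤ 16 := by
    calc ix V x ≤ ix V a ^ 2 := ix_le_sq (C.PV hx) hodd hax
      _ ≤ 4 ^ 2 := Nat.pow_le_pow_left hix 2
      _ = 16 := by norm_num
  obtain ⟨j, hj⟩ := ix_eq_four_pow C.Vp C.Vc C.V2 (C.PV hx) (C.SV ha) hodd ha2 hax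
  have hne : ix V x ≠ 1 := fun h => C.not_mem_centralizer hx hxF (ix_eq_one.1 h)
  have h2 := ix_modEq C.dat.odd C.Vp (C.PV hx) hxp
  have hj2 : j ≤ 2 := by
    by_contra h
    push Not at h
    have h3 : 4 ^ 3 ≤ 4 ^ j := Nat.pow_le_pow_right (by norm_num) h
    rw [← hj] at h3
    omega
  have hj0 : j ≠ 0 := by
    rintro rfl
    exact hne (by rw [hj, pow_zero])
  have hdvd : p ∣ ix V x - 1 := (Nat.modEq_iff_dvd' (by rw [hj]; exact Nat.one_le_pow _ _ (by norm_num))).1 h2.symm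
  have hj' : j = 1 ∨ j = 2 := by omega
  rcases hj' with rfl | rfl
  · exfalso
    rw [hj] at hdvd
    norm_num at hdvd
    have := Nat.le_of_dvd (by norm_num) hdvd
    omega
  · rw [hj] at hdvd ⊢
    norm_num at hdvd
    refine ⟨?_, by norm_num⟩
    have h3 : p ∣ 3 * 5 := by norm_num; exact hdvd
    rcases (Nat.Prime.dvd_mul C.dat.prime).1 h3 with h4 | h4
    · exfalso
      have := Nat.le_of_dvd (by norm_num) h4
      omega
    · exact (Nat.prime_dvd_prime_iff_eq C.dat.prime Nat.prime_five).1 h4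

/-- a conjugate of `x` outside `⟨x⟩ F` -/
theorem exists_conj_not_mem [Finite H] (C : Conf p P S F V) {R : Subgroup H} (hFR : F ≤ R) (hRP : R ≤ P)
    (hRF : R ≠ F) (hRne : R ≠ P) : ∃ s ∈ S, R.map (MulAut.conj s).toMonoidHom ≠ R := by
  by_contra hcon
  push Not at hcon
  have h1 : S ≤ normalizer (R : Set H) := by
    intro s hs
    apply mem_normalizer_of_conj
    intro y hy
    rw [← hcon s hs]
    exact ⟨y, hy, rfl⟩
  rcases C.dat.irr R hFR hRP h1 with h | h
  · exact hRF h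
  · exact hRne h

/-- `F` centralizes `V` when `p = 5` and `|V : C_V(x)| = 16` -/
theorem F_le_centralizer [Finite H] (C : Conf 5 P S F V) {x : H} (hx : x ∈ P) (hxF : x ∉ F) (hix : ix V x = 16) :
    F ≤ centralizer (V : Set H) := by
  by_contra hF
  have hpf : Fact (Nat.Prime 5) := ⟨Nat.prime_five⟩
  have hFP := C.dat.F_le
  have hFc : Nat.card F = 5 := by
    rcases (Nat.dvd_prime Nat.prime_five).1 C.dat.F_card with h | h
    · exfalso
      apply hF
      rw [(Subgroup.eq_bot_iff_card F).2 h]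
      exact bot_le
    · exact h
  -- two generators
  set R : Subgroup H := zpowers x ⊔ F with hR
  have hFR : F ≤ R := le_sup_right
  have hRP : R ≤ P := sup_le ((zpowers_le).2 hx) hFP
  have hxR : x ∈ R := mem_sup_left (mem_zpowers x)
  have hRF : R ≠ F := fun h => hxF (h ▸ hxR)
  have hRne : R ≠ P := C.dat.ne_top_zpowers hx
  obtain ⟨s, hs, hsR⟩ := C.exists_conj_not_mem hFR hRP hRF hRne
  have hRc := card_mid C.dat.prime C.dat.card hFR hRP hRF hRne
  set x' : H := s * x * s⁻¹ with hx'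
  have hx'P : x' ∈ P := (mem_normalizer_iff.1 (C.dat.S_le hs) x).1 hx
  have hFs : F.map (MulAut.conj s).toMonoidHom = F := map_conj_of_mem_normalizer (C.dat.F_norm hs)
  have hx'R : x' ∉ R := by
    intro h
    apply hsR
    have h1 : R.map (MulAut.conj s).toMonoidHom ≤ R := by
      rw [hR, Subgroup.map_sup, hFs]
      refine sup_le ?_ hFR
      rw [MonoidHom.map_zpowers, zpowers_le]
      exact h
    refine Subgroup.eq_of_le_of_card_ge h1 ?_
    rw [card_map_of_injective (f := (MulAut.conj s).toMonoidHom) (MulAut.conj s).injective]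
  have hgen : zpowers x ⊔ zpowers x' = P := by
    apply C.dat.ngen _ (sup_le ((zpowers_le).2 hx) ((zpowers_le).2 hx'P))
    have h1 : R ≤ (zpowers x ⊔ zpowers x') ⊔ F := sup_le (le_sup_left.trans le_sup_left) le_sup_right
    have h2 : (zpowers x ⊔ zpowers x') ⊔ F ≤ P :=
      sup_le (sup_le ((zpowers_le).2 hx) ((zpowers_le).2 hx'P)) hFP
    rcases eq_or_of_card C.dat.prime (by rw [hRc, C.dat.card]; ring : Nat.card P = 5 * Nat.card R) h1 h2 with h | h
    · exfalso
      apply hx'R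
      rw [← h]
      exact mem_sup_left (mem_sup_right (mem_zpowers x'))
    · exact h
  have hix' : ix V x' = 16 := by rw [hx', ix_conj (C.SV hs), hix]
  -- `|V : C_V(F)| ≤ 256`
  have hFi : (centralizer (F : Set H)).relIndex V ≤ 256 := by
    have h1 : centralizer ({x} : Set H) ⊓ centralizer ({x'} : Set H) ≤ centralizer (F : Set H) := by
      have h2 : centralizer ({x} : Set H) ⊓ centralizer ({x'} : Set H) ≤ centralizer (P : Set H) := by
        rw [le_centralizer_iff, ← hgen, sup_le_iff, zpowers_le, zpowers_le]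
        constructor
        · rw [mem_centralizer_iff]
          rintro v ⟨hv, -⟩
          exact mem_cen.1 hv
        · rw [mem_centralizer_iff]
          rintro v ⟨-, hv⟩
          exact mem_cen.1 hv
      exact h2.trans (centralizer_le hFP)
    calc (centralizer (F : Set H)).relIndex V ≤
          (centralizer ({x} : Set H) ⊓ centralizer ({x'} : Set H)).relIndex V :=
          relIndex_le_of_le_left h1 (pos_index _ _)
      _ ≤ ix V x * ix V x' := relIndex_inf_le
      _ = 256 := by rw [hix, hix']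
  -- stabilizers in `P` of elements outside `C_V(F)`
  have hstab : ∀ v ∈ V, v ∉ centralizer (F : Set H) → 25 ∣ (centralizer ({v} : Set H)).relIndex P := by
    intro v hv hvF
    set K : Subgroup H := P ⊓ centralizer ({v} : Set H) with hK
    have hKP : K ≤ P := inf_le_left
    have hKF : K ⊓ F = ⊥ := by
      by_contra hne
      have h1 : K ⊓ F = F := by
        have h2 := card_dvd_of_le (inf_le_right : K ⊓ F ≤ F)
        rw [hFc] at h2
        rcases (Nat.dvd_prime Nat.prime_five).1 h2 with h3 | h3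
        · exact absurd ((Subgroup.eq_bot_iff_card _).2 h3) hne
        · exact Subgroup.eq_of_le_of_card_ge inf_le_right (by rw [h3, hFc])
      apply hvF
      rw [mem_centralizer_iff]
      intro f hf
      have h2 : f ∈ K ⊓ F := by rw [h1]; exact hf
      exact mem_cen.1 h2.1.2
    have hn : F ≤ normalizer (K : Set H) := by
      intro f hf
      apply mem_normalizer_of_conj
      intro k hk
      have h1 := C.dat.F_central hf (hKP hk)
      have h2 : f * k * f⁻¹ = k := by rw [h1]; group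
      rw [h2]; exact hk
    have h2 := Cfsg.Agent.SignalizersComponents.InvariantHall.card_sup_of_inf_eq_bot hn hKF
    have hKFP : K ⊔ F ≤ P := sup_le hKP hFP
    have hKFne : K ⊔ F ≠ P := by
      intro h
      have h3 := C.dat.ngen K hKP h
      apply hvF
      rw [mem_centralizer_iff]
      intro f hf
      have h4 : f ∈ K := by rw [h3]; exact hFP hf
      exact mem_cen.1 h4.2
    have hKc : Nat.card K ∣ 5 := by
      by_cases h : K ⊔ F = F
      · have h3 : K ≤ F := by rw [← h]; exact le_sup_left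
        exact hFc ▸ card_dvd_of_le h3
      · have h3 := card_mid C.dat.prime C.dat.card le_sup_right hKFP h hKFne
        rw [h2] at h3
        have h4 : Nat.card K = 5 := Nat.eq_of_mul_eq_mul_right (by rw [hFc]; norm_num) h3
        rw [h4]
    have h5 : Nat.card K * (centralizer ({v} : Set H)).relIndex P = 125 := by
      have h6 := relIndex_mul_relIndex (⊥ : Subgroup H) K P bot_le hKP
      rw [relIndex_bot_left, relIndex_bot_left, C.dat.card, hFc, hK, inf_relIndex_left] at h6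
      rw [hK, h6]
      norm_num
    obtain ⟨m, hm⟩ := hKc
    have h6 : Nat.card K * (centralizer ({v} : Set H)).relIndex P = Nat.card K * (25 * m) := by
      rw [h5]
      calc 125 = 25 * 5 := by norm_num
        _ = 25 * (Nat.card K * m) := by rw [← hm]
        _ = _ := by ring
    exact ⟨m, Nat.eq_of_mul_eq_mul_left Nat.card_pos h6⟩
  -- the action of `P` on `V ∖ C_V(F)`
  have hcount : 25 ∣ Nat.card {v : H // v ∈ V ∧ v ∉ centralizer (F : Set H)} := by
    have hPV := C.PV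
    have hinv : ∀ g ∈ P, ∀ v, v ∉ centralizer (F : Set H) → g * v * g⁻¹ ∉ centralizer (F : Set H) := by
      intro g hg v hv hgv
      apply hv
      rw [mem_centralizer_iff] at hgv ⊢
      intro f hf
      have h1 := hgv f hf
      have h2 := C.dat.F_central hf hg
      have h3 : f * g⁻¹ = g⁻¹ * f := by
        calc f * g⁻¹ = g⁻¹ * (g * f) * g⁻¹ := by group
          _ = g⁻¹ * (f * g) * g⁻¹ := by rw [h2]
          _ = _ := by group
      calc f * v = f * g⁻¹ * (g * v * g⁻¹) * g := by group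
        _ = g⁻¹ * (f * (g * v * g⁻¹)) * g := by rw [h3]; group
        _ = g⁻¹ * ((g * v * g⁻¹) * f) * g := by rw [h1]
        _ = v * (g⁻¹ * f) * g := by group
        _ = v * (f * g⁻¹) * g := by rw [h3]
        _ = _ := by group
    let Ω : Type _ := {v : H // v ∈ V ∧ v ∉ centralizer (F : Set H)}
    let act : MulAction P Ω :=
      { smul := fun g v => ⟨(g : H) * v * (g : H)⁻¹, (mem_normalizer_iff.1 (hPV g.2) v).1 v.2.1, hinv g g.2 v v.2.2⟩
        one_smul := fun v => Subtype.ext (by change (1 : H) * v * (1 : H)⁻¹ = v; simp)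
        mul_smul := fun a b v => Subtype.ext (by
          change ((a : H) * b) * v * ((a : H) * b)⁻¹ = (a : H) * ((b : H) * v * (b : H)⁻¹) * (a : H)⁻¹
          group) }
    have hact : ∀ (g : P) (v : Ω), ((g • v : Ω) : H) = (g : H) * v * (g : H)⁻¹ := fun g v => rfl
    have hst : ∀ v : Ω, MulAction.stabilizer P v = (centralizer ({(v : H)} : Set H)).subgroupOf P := by
      intro v
      ext g
      rw [MulAction.mem_stabilizer_iff, mem_subgroupOf, mem_cen, Subtype.ext_iff, hact]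
      exact mul_inv_eq_iff_eq_mul
    have horb : ∀ v : Ω, 25 ∣ Nat.card (MulAction.orbit P v) := by
      intro v
      have h1 := MulAction.index_stabilizer P v
      rw [hst v] at h1
      rw [Nat.card_coe_set_eq, ← h1]
      exact hstab v v.2.1 v.2.2
    have h1 := Nat.card_congr (MulAction.selfEquivSigmaOrbits P Ω)
    have hfin : Finite Ω := inferInstance
    have hfin2 : Fintype (Quotient (MulAction.orbitRel P Ω)) := Fintype.ofFinite _
    rw [Nat.card_sigma] at h1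
    rw [h1]
    apply Finset.dvd_sum
    rintro ω -
    exact horb _
  -- arithmetic
  have hcardV : Nat.card V = Nat.card ↥(V ⊓ centralizer (F : Set H)) +
      Nat.card {v : H // v ∈ V ∧ v ∉ centralizer (F : Set H)} := by
    have e : {v : H // v ∈ V} ≃ {v : H // v ∈ V ∧ v ∈ centralizer (F : Set H)} ⊕
        {v : H // v ∈ V ∧ v ∉ centralizer (F : Set H)} := by
      classical
      exact
        { toFun := fun v => if h : (v : H) ∈ centralizer (F : Set H) then Sum.inl ⟨v.1, v.2, h⟩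
            else Sum.inr ⟨v.1, v.2, h⟩
          invFun := fun w => match w with
            | Sum.inl v => ⟨v.1, v.2.1⟩
            | Sum.inr v => ⟨v.1, v.2.1⟩
          left_inv := fun v => by
            by_cases h : (v : H) ∈ centralizer (F : Set H) <;> simp [h]
          right_inv := fun w => by
            rcases w with ⟨v, hv, h⟩ | ⟨v, hv, h⟩ <;> simp [h] }
    have h1 := Nat.card_congr e
    rw [Nat.card_sum] at h1
    exact h1
  have hmulV : Nat.card ↥(V ⊓ centralizer (F : Set H)) * (centralizer (F : Set H)).relIndex V = Nat.card V := by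
    have h1 := relIndex_mul_relIndex (⊥ : Subgroup H) (V ⊓ centralizer (F : Set H)) V bot_le inf_le_left
    rw [relIndex_bot_left, relIndex_bot_left, inf_relIndex_left] at h1
    exact h1
  have h2f : Fact (Nat.Prime 2) := ⟨Nat.prime_two⟩
  obtain ⟨j, hj⟩ : ∃ j, (centralizer (F : Set H)).relIndex V = 2 ^ j := C.Vp.index _
  obtain ⟨n, hn⟩ := IsPGroup.iff_card.1 (C.Vp.to_le (inf_le_left : V ⊓ centralizer (F : Set H) ≤ V))
  rw [hj] at hFi hmulV
  have hj8 : j ≤ 8 := by
    by_contra h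
    push Not at h
    have h3 : 2 ^ 9 ≤ 2 ^ j := Nat.pow_le_pow_right (by norm_num) h
    omega
  have hj0 : j ≠ 0 := by
    rintro rfl
    rw [pow_zero, relIndex_eq_one] at hj
    exact hF (le_centralizer_iff.1 hj)
  rw [← hmulV, hn] at hcardV
  obtain ⟨t, ht⟩ := hcount
  rw [ht] at hcardV
  have h3 : 2 ^ n * (2 ^ j - 1) = 25 * t := by
    have h4 : 1 ≤ 2 ^ j := Nat.one_le_two_pow
    have h5 : 2 ^ n * (2 ^ j - 1) + 2 ^ n = 2 ^ n * 2 ^ j := by
      rw [← Nat.mul_succ]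
      congr 1
      omega
    omega
  have h4 : 25 ∣ 2 ^ j - 1 := by
    have h5 : Nat.Coprime 25 (2 ^ n) := Nat.Coprime.pow_right n (by norm_num)
    exact h5.dvd_of_dvd_mul_left ⟨t, h3⟩
  interval_cases j <;> revert h4 <;> simp_all only [_root_.le_sup_right, _root_.sup_le_iff, _root_.Subgroup.zpowers_le, _root_.and_self, _root_.ne_eq, _root_.sup_eq_right, _root_.not_false_eq_true, _root_.MulEquiv.toMonoidHom_eq_coe, _root_.Nat.reduceMul, _root_.Subgroup.mem_inf, _root_.pow_zero, _root_.mul_one, _root_.Nat.one_le_ofNat, _root_.Subgroup.relIndex_eq_one, _root_.zero_le, _root_.not_true_eq_false, _root_.pow_one, _root_.Nat.reduceLeDiff, _root_.one_ne_zero, _root_.Nat.add_one_sub_one, _root_.Nat.dvd_one, _root_.OfNat.ofNat_ne_one, _root_.implies_true, _root_.Nat.reducePow, _root_.OfNat.ofNat_ne_zero, _root_.Nat.reduceDvd, _root_.Std.le_refl] <;> omega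

end Conf

end Cfsg.Agent.H7.XiRep
end

-- part: H7/XiRepThree
section
/-!
# For `p = 5` there are exactly two maximal subgroups of `P` with fixed points outside `C_V(P)`
-/

set_option autoImplicit false

open scoped commutatorElement

namespace Cfsg.Agent.H7.XiRep

open Subgroup Cfsg
open Cfsg.Agent.QTSolv.Data (Dat mem_normalizer_of_conj mem_normalizer_sup)

variable {H : Type*} [Group H]

theorem exists_mul_of_sup {A B : Subgroup H} (h : A ≤ normalizer (B : Set H)) {x : H} (hx : x ∈ A ⊔ B) :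
    ∃ a ∈ A, ∃ b ∈ B, a * b = x := by
  have h1 : x ∈ ((A ⊔ B : Subgroup H) : Set H) := hx
  rw [coe_mul_of_left_le_normalizer_right A B h] at h1
  exact Set.mem_mul.1 h1

theorem mem_normalizer_commutator [Finite H] {V R : Subgroup H} {b : H} (hb : b ∈ normalizer (V : Set H))
    (hbR : b ∈ normalizer (R : Set H)) : b ∈ normalizer ((⁅V, R⁆ : Subgroup H) : Set H) := by
  have h4 : ⁅V, R⁆ ≤ (⁅V, R⁆ : Subgroup H).comap (MulAut.conj b).toMonoidHom := by
    rw [commutator_le]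
    intro v hv y hy
    change b * ⁅v, y⁆ * b⁻¹ ∈ (⁅V, R⁆ : Subgroup H)
    have h5 : b * ⁅v, y⁆ * b⁻¹ = ⁅b * v * b⁻¹, b * y * b⁻¹⁆ := by
      simp only [commutatorElement_def]; group
    rw [h5]
    exact commutator_mem_commutator ((mem_normalizer_iff.1 hb v).1 hv) ((mem_normalizer_iff.1 hbR y).1 hy)
  exact mem_normalizer_of_conj (fun w hw => h4 hw)

/-- an orbit on the nontrivial elements -/
theorem relIndex_lt_card [Finite H] {P W : Subgroup H} (hPW : P ≤ normalizer (W : Set H)) {w : H} (hw : w ∈ W)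
    (hw1 : w ≠ 1) : (centralizer ({w} : Set H)).relIndex P < Nat.card W := by
  let act : MulAction P W :=
    { smul := fun g v => ⟨(g : H) * v * (g : H)⁻¹, (mem_normalizer_iff.1 (hPW g.2) v).1 v.2⟩
      one_smul := fun v => Subtype.ext (by change (1 : H) * v * (1 : H)⁻¹ = v; simp)
      mul_smul := fun a b v => Subtype.ext (by
        change ((a : H) * b) * v * ((a : H) * b)⁻¹ = (a : H) * ((b : H) * v * (b : H)⁻¹) * (a : H)⁻¹
        group) }
  have hact : ∀ (g : P) (v : W), ((g • v : W) : H) = (g : H) * v * (g : H)⁻¹ := fun g v => rfl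
  have hst : MulAction.stabilizer P (⟨w, hw⟩ : W) = (centralizer ({w} : Set H)).subgroupOf P := by
    ext g
    rw [MulAction.mem_stabilizer_iff, mem_subgroupOf, mem_cen, Subtype.ext_iff, hact]
    exact mul_inv_eq_iff_eq_mul
  have h1 := MulAction.index_stabilizer P (⟨w, hw⟩ : W)
  rw [hst] at h1
  rw [relIndex, h1, ← Set.ncard_univ]
  apply Set.ncard_lt_ncard _ Set.finite_univ
  rw [Set.ssubset_univ_iff]
  intro h
  have h2 : (1 : W) ∈ MulAction.orbit P (⟨w, hw⟩ : W) := by rw [h]; exact Set.mem_univ _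
  obtain ⟨g, hg⟩ := h2
  apply hw1
  have h3 : (g : H) * w * (g : H)⁻¹ = 1 := by
    have h4 := congrArg Subtype.val hg
    exact h4
  have h4 : w = (g : H)⁻¹ * ((g : H) * w * (g : H)⁻¹) * g := by group
  rw [h4, h3]
  group

/-- a submodule of order 16 with the same stabilizer `Y` for all nontrivial elements. -/
structure Line (P F V W Y : Subgroup H) : Prop where
  WV : W ≤ V
  card : Nat.card W = 16
  norm : P ≤ normalizer (W : Set H)
  comm : W ≤ ⁅V, P⁆
  fix : ∀ w ∈ W, w ≠ 1 → P ⊓ centralizer ({w} : Set H) = Y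
  FY : F ≤ Y
  YP : Y ≤ P
  Ycard : Nat.card Y = 5 * Nat.card F

namespace Conf

variable {p : ℕ} {P S F V : Subgroup H}

theorem exists_gen [Finite H] (C : Conf p P S F V) {x : H} (hx : x ∈ P) (hxF : x ∉ F) :
    ∃ s ∈ S, zpowers x ⊔ zpowers (s * x * s⁻¹) = P := by
  have hFP := C.dat.F_le
  set R : Subgroup H := zpowers x ⊔ F with hR
  have hFR : F ≤ R := le_sup_right
  have hRP : R ≤ P := sup_le ((zpowers_le).2 hx) hFP
  have hxR : x ∈ R := mem_sup_left (mem_zpowers x)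
  have hRF : R ≠ F := fun h => hxF (h ▸ hxR)
  have hRne : R ≠ P := C.dat.ne_top_zpowers hx
  obtain ⟨s, hs, hsR⟩ := C.exists_conj_not_mem hFR hRP hRF hRne
  have hRc := card_mid C.dat.prime C.dat.card hFR hRP hRF hRne
  set x' : H := s * x * s⁻¹ with hx'
  have hx'P : x' ∈ P := (mem_normalizer_iff.1 (C.dat.S_le hs) x).1 hx
  have hFs : F.map (MulAut.conj s).toMonoidHom = F := map_conj_of_mem_normalizer (C.dat.F_norm hs)
  have hx'R : x' ∉ R := by
    intro h
    apply hsR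
    have h1 : R.map (MulAut.conj s).toMonoidHom ≤ R := by
      rw [hR, Subgroup.map_sup, hFs]
      refine sup_le ?_ hFR
      rw [MonoidHom.map_zpowers, zpowers_le]
      exact h
    refine Subgroup.eq_of_le_of_card_ge h1 ?_
    rw [card_map_of_injective (f := (MulAut.conj s).toMonoidHom) (MulAut.conj s).injective]
  refine ⟨s, hs, ?_⟩
  rw [← hx']
  apply C.dat.ngen _ (sup_le ((zpowers_le).2 hx) ((zpowers_le).2 hx'P))
  have h1 : R ≤ (zpowers x ⊔ zpowers x') ⊔ F := sup_le (le_sup_left.trans le_sup_left) le_sup_right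
  have h2 : (zpowers x ⊔ zpowers x') ⊔ F ≤ P :=
    sup_le (sup_le ((zpowers_le).2 hx) ((zpowers_le).2 hx'P)) hFP
  rcases eq_or_of_card C.dat.prime (by rw [hRc, C.dat.card]; ring : Nat.card P = p * Nat.card R) h1 h2 with h | h
  · exfalso
    apply hx'R
    rw [← h]
    exact mem_sup_left (mem_sup_right (mem_zpowers x'))
  · exact h

/-- the commutator of `x` is a line -/
theorem line [Finite H] (C : Conf 5 P S F V) (hFV : F ≤ centralizer (V : Set H)) {x : H} (hx : x ∈ P) (hxF : x ∉ F)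
    (hix : ix V x = 16) : ∃ W Y : Subgroup H, Line P F V W Y := by
  have hpf : Fact (Nat.Prime 5) := ⟨Nat.prime_five⟩
  have hFP := C.dat.F_le
  set R : Subgroup H := zpowers x ⊔ F with hR
  have hFR : F ≤ R := le_sup_right
  have hRP : R ≤ P := sup_le ((zpowers_le).2 hx) hFP
  have hxR : x ∈ R := mem_sup_left (mem_zpowers x)
  have hcR : V ⊓ centralizer (R : Set H) = V ⊓ centralizer ({x} : Set H) := by
    apply le_antisymm
    · exact inf_le_inf_left _ (centralizer_le (Set.singleton_subset_iff.2 hxR))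
    · rintro v ⟨hv, hvx⟩
      refine ⟨hv, ?_⟩
      have h1 : R ≤ centralizer ({v} : Set H) := by
        refine sup_le ?_ (hFV.trans (centralizer_le (Set.singleton_subset_iff.2 hv)))
        rw [zpowers_le, mem_cen]
        exact (mem_cen.1 hvx).symm
      refine mem_centralizer_iff.2 ?_
      intro r hr
      exact mem_cen.1 (h1 hr)
  have hPR : P ≤ normalizer (R : Set H) := C.P_le_normalizer_F hFR hRP
  have hRV : R ≤ normalizer (V : Set H) := hRP.trans C.PV
  have hRodd : Odd (Nat.card R) := by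
    obtain ⟨n, hn⟩ := IsPGroup.iff_card.1 (C.dat.pgroup.to_le hRP)
    rw [hn]
    exact Odd.pow (by decide)
  obtain ⟨h0, h1, h2, h3⟩ := split C.Vc hRV (coprime_of_odd C.Vp hRodd)
  set W : Subgroup H := ⁅V, R⁆ with hW
  rw [hcR] at h1 h2 h3
  have hWc : Nat.card W = 16 := by
    have h4 := card_eq V x
    rw [hix, ← h3] at h4
    have h5 : 0 < Nat.card ↥(V ⊓ centralizer ({x} : Set H)) := Nat.card_pos
    exact (Nat.eq_of_mul_eq_mul_left h5 h4).symm
  have hPW : P ≤ normalizer (W : Set H) := fun y hy => mem_normalizer_commutator (C.PV hy) (hPR hy)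
  have hWx : ∀ w ∈ W, w * x = x * w → w = 1 := by
    intro w hw hwx
    have h4 : w ∈ (V ⊓ centralizer ({x} : Set H)) ⊓ W := ⟨⟨h0 hw, mem_cen.2 hwx⟩, hw⟩
    rw [h1] at h4
    exact mem_bot.1 h4
  -- stabilizers
  have hstab : ∀ w ∈ W, w ≠ 1 → Nat.card ↥(P ⊓ centralizer ({w} : Set H)) = 5 * Nat.card F ∧
      F ≤ P ⊓ centralizer ({w} : Set H) := by
    intro w hw hw1
    have hFw : F ≤ P ⊓ centralizer ({w} : Set H) :=
      le_inf hFP (hFV.trans (centralizer_le (Set.singleton_subset_iff.2 (h0 hw))))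
    refine ⟨?_, hFw⟩
    apply card_mid C.dat.prime C.dat.card hFw inf_le_left
    · intro h
      have h4 := relIndex_lt_card hPW hw hw1
      rw [hWc] at h4
      have h5 := relIndex_mul_relIndex (⊥ : Subgroup H) (P ⊓ centralizer ({w} : Set H)) P bot_le inf_le_left
      rw [relIndex_bot_left, relIndex_bot_left, inf_relIndex_left, h, C.dat.card, mul_comm] at h5
      have h6 := Nat.eq_of_mul_eq_mul_right Nat.card_pos h5
      omega
    · intro h
      apply hw1
      apply hWx w hw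
      have h4 : x ∈ P ⊓ centralizer ({w} : Set H) := by rw [h]; exact hx
      exact (mem_cen.1 h4.2).symm
  -- an element of `W`
  obtain ⟨w, hw, hw1⟩ : ∃ w ∈ W, w ≠ 1 := by
    have h4 : W ≠ ⊥ := by
      intro h
      rw [h, card_bot] at hWc
      omega
    obtain ⟨a, ha⟩ := (Subgroup.ne_bot_iff_exists_ne_one (H := W)).1 h4
    exact ⟨a, a.2, fun h => ha (Subtype.ext h)⟩
  set Y : Subgroup H := P ⊓ centralizer ({w} : Set H) with hY
  obtain ⟨hYc, hFY⟩ := hstab w hw hw1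
  rw [← hY] at hYc hFY
  have hYP : Y ≤ P := inf_le_left
  have hPY : P ≤ normalizer (Y : Set H) := C.P_le_normalizer_F hFY hYP
  -- `Y` centralizes `W`
  set D : Subgroup H := W ⊓ centralizer (Y : Set H) with hD
  have hxD : x ∈ normalizer (D : Set H) := by
    apply mem_normalizer_of_conj
    rintro d ⟨hd1, hd2⟩
    refine ⟨(mem_normalizer_iff.1 (hPW hx) d).1 hd1, ?_⟩
    refine mem_centralizer_iff.2 ?_
    intro y hy
    have h4 : x⁻¹ * y * x ∈ Y := by
      have := (mem_normalizer_iff.1 (inv_mem (hPY hx)) y).1 hy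
      simpa using this
    have h5 := (mem_centralizer_iff.1 hd2) _ h4
    calc y * (x * d * x⁻¹) = x * ((x⁻¹ * y * x) * d) * x⁻¹ := by group
      _ = x * (d * (x⁻¹ * y * x)) * x⁻¹ := by rw [h5]
      _ = _ := by group
  have hDV : D ≤ V := inf_le_left.trans h0
  have hDix : ix D x = Nat.card D := by
    have h4 := card_eq D x
    have h5 : D ⊓ centralizer ({x} : Set H) = ⊥ := by
      rw [eq_bot_iff]
      rintro d ⟨hd1, hd2⟩
      exact mem_bot.2 (hWx d hd1.1 (mem_cen.1 hd2))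
    rw [h5, card_bot, one_mul] at h4
    exact h4
  have hDmod := ix_modEq C.dat.odd (C.Vp.to_le hDV) hxD (C.dat.pow_eq_one x hx)
  rw [hDix] at hDmod
  have hDdvd : Nat.card D ∣ 16 := by rw [← hWc]; exact card_dvd_of_le inf_le_left
  have hDne : Nat.card D ≠ 1 := by
    intro h
    rw [← Subgroup.eq_bot_iff_card] at h
    have h4 : w ∈ D := by
      refine ⟨hw, ?_⟩
      refine mem_centralizer_iff.2 ?_
      intro y hy
      exact mem_cen.1 hy.2
    rw [h] at h4
    exact hw1 (mem_bot.1 h4)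
  have hD16 : Nat.card D = 16 := by
    have h4 : Nat.card D ∈ Nat.divisors 16 := Nat.mem_divisors.2 ⟨hDdvd, by norm_num⟩
    have h5 : Nat.divisors 16 = {1, 2, 4, 8, 16} := by decide
    rw [h5] at h4
    simp only [Finset.mem_insert, Finset.mem_singleton] at h4
    rcases h4 with h4 | h4 | h4 | h4 | h4
    · exact absurd h4 hDne
    · rw [h4] at hDmod; exact absurd hDmod (by decide)
    · rw [h4] at hDmod; exact absurd hDmod (by decide)
    · rw [h4] at hDmod; exact absurd hDmod (by decide)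
    · exact h4
  have hDW : D = W := Subgroup.eq_of_le_of_card_ge inf_le_left (by rw [hD16, hWc])
  have hYW : ∀ w' ∈ W, Y ≤ P ⊓ centralizer ({w'} : Set H) := by
    intro w' hw' y hy
    refine ⟨hYP hy, ?_⟩
    have h4 : w' ∈ D := by rw [hDW]; exact hw'
    exact mem_cen.2 ((mem_centralizer_iff.1 h4.2) y hy)
  refine ⟨W, Y, h0, hWc, hPW, commutator_mono le_rfl hRP, ?_, hFY, hYP, hYc⟩
  intro w' hw' hw'1
  refine (Subgroup.eq_of_le_of_card_ge (hYW w' hw') ?_).symm
  rw [(hstab w' hw' hw'1).1, hYc]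

/-- conjugates of a line -/
theorem line_conj [Finite H] {W Y : Subgroup H} (L : Line P F V W Y) {s : H} (hP : s ∈ normalizer (P : Set H))
    (hF : s ∈ normalizer (F : Set H)) (hV : s ∈ normalizer (V : Set H)) :
    Line P F V (W.map (MulAut.conj s).toMonoidHom) (Y.map (MulAut.conj s).toMonoidHom) := by
  have hinj : Function.Injective (MulAut.conj s).toMonoidHom := (MulAut.conj s).injective
  have hPs := map_conj_of_mem_normalizer hP
  have hFs := map_conj_of_mem_normalizer hF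
  have hVs := map_conj_of_mem_normalizer hV
  refine ⟨?_, ?_, ?_, ?_, ?_, ?_, ?_, ?_⟩
  · calc W.map (MulAut.conj s).toMonoidHom ≤ V.map (MulAut.conj s).toMonoidHom := map_mono L.WV
      _ = V := hVs
  · rw [card_map_of_injective hinj, L.card]
  · intro y hy
    apply mem_normalizer_of_conj
    rintro _ ⟨w, hw, rfl⟩
    have hy' : s⁻¹ * y * s ∈ P := by
      have := (mem_normalizer_iff.1 (inv_mem hP) y).1 hy
      simpa using this
    have h1 := (mem_normalizer_iff.1 (L.norm hy') w).1 hw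
    refine ⟨_, h1, ?_⟩
    change s * (s⁻¹ * y * s * w * (s⁻¹ * y * s)⁻¹) * s⁻¹ = y * (s * w * s⁻¹) * y⁻¹
    group
  · calc W.map (MulAut.conj s).toMonoidHom ≤ (⁅V, P⁆ : Subgroup H).map (MulAut.conj s).toMonoidHom := map_mono L.comm
      _ = ⁅V, P⁆ := by rw [map_commutator, hVs, hPs]
  · rintro _ ⟨w, hw, rfl⟩ hne
    have hw1 : w ≠ 1 := by
      rintro rfl
      exact hne (map_one _)
    have h1 := L.fix w hw hw1
    rw [← h1, map_inf _ _ _ hinj, hPs, map_centralizer_conj]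
    rfl
  · calc F = F.map (MulAut.conj s).toMonoidHom := hFs.symm
      _ ≤ _ := map_mono L.FY
  · calc Y.map (MulAut.conj s).toMonoidHom ≤ P.map (MulAut.conj s).toMonoidHom := map_mono L.YP
      _ = P := hPs
  · rw [card_map_of_injective hinj, L.Ycard]

/-- **The two lines.** -/
theorem pair [Finite H] (C : Conf 5 P S F V) (hFV : F ≤ centralizer (V : Set H)) {x : H} (hx : x ∈ P) (hxF : x ∉ F)
    (hix : ix V x = 16) : ∃ W₁ Y₁ W₂ Y₂ : Subgroup H, Line P F V W₁ Y₁ ∧ Line P F V W₂ Y₂ ∧ Y₁ ≠ Y₂ ∧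
      ∀ Z : Subgroup H, Z ≤ P → Nat.card Z = 5 * Nat.card F →
        ¬ (V ⊓ centralizer (Z : Set H) ≤ centralizer (P : Set H)) → Z = Y₁ ∨ Z = Y₂ := by
  have hpf : Fact (Nat.Prime 5) := ⟨Nat.prime_five⟩
  have hFP := C.dat.F_le
  obtain ⟨W₁, Y₁, L₁⟩ := C.line hFV hx hxF hix
  have hFpos : 0 < Nat.card F := Nat.card_pos
  have hY1F : Y₁ ≠ F := by
    intro h
    have h1 := L₁.Ycard
    rw [h] at h1
    omega
  have hY1P : Y₁ ≠ P := by
    intro h
    have h1 := L₁.Ycard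
    rw [h, C.dat.card] at h1
    omega
  obtain ⟨s, hs, hsY⟩ := C.exists_conj_not_mem L₁.FY L₁.YP hY1F hY1P
  have L₂ := line_conj L₁ (C.dat.S_le hs) (C.dat.F_norm hs) (C.SV hs)
  set W₂ := W₁.map (MulAut.conj s).toMonoidHom with hW₂
  set Y₂ := Y₁.map (MulAut.conj s).toMonoidHom with hY₂
  refine ⟨W₁, Y₁, W₂, Y₂, L₁, L₂, hsY.symm, ?_⟩
  have hWW : W₁ ⊓ W₂ = ⊥ := by
    rw [eq_bot_iff]
    rintro w ⟨h1, h2⟩
    rw [mem_bot]
    by_contra hw1
    exact hsY ((L₂.fix w h2 hw1).symm.trans (L₁.fix w h1 hw1))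
  have hn : W₂ ≤ normalizer (W₁ : Set H) := by
    intro b hb
    apply mem_normalizer_of_conj
    intro w hw
    have h1 : b * w * b⁻¹ = w := by rw [C.Vc b (L₂.WV hb) w (L₁.WV hw)]; group
    rw [h1]; exact hw
  have hWcard := Cfsg.Agent.SignalizersComponents.InvariantHall.card_sup_of_inf_eq_bot hn hWW
  rw [L₁.card, L₂.card] at hWcard
  -- `|[V, P]| ≤ 256`
  have hPodd : Odd (Nat.card P) := by
    obtain ⟨n, hn⟩ := IsPGroup.iff_card.1 C.dat.pgroup
    rw [hn]
    exact Odd.pow (by decide)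
  obtain ⟨h0, h1, h2, h3⟩ := split C.Vc C.PV (coprime_of_odd C.Vp hPodd)
  have hidx : (centralizer (P : Set H)).relIndex V ≤ 256 := by
    obtain ⟨s', hs', hgen⟩ := C.exists_gen hx hxF
    have h4 : centralizer ({x} : Set H) ⊓ centralizer ({s' * x * s'⁻¹} : Set H) ≤ centralizer (P : Set H) := by
      rw [le_centralizer_iff, ← hgen, sup_le_iff, zpowers_le, zpowers_le]
      constructor
      · rw [mem_centralizer_iff]
        rintro v ⟨hv, -⟩
        exact mem_cen.1 hv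
      · rw [mem_centralizer_iff]
        rintro v ⟨-, hv⟩
        exact mem_cen.1 hv
    calc (centralizer (P : Set H)).relIndex V ≤
          (centralizer ({x} : Set H) ⊓ centralizer ({s' * x * s'⁻¹} : Set H)).relIndex V :=
          relIndex_le_of_le_left h4 (pos_index _ _)
      _ ≤ ix V x * ix V (s' * x * s'⁻¹) := relIndex_inf_le
      _ = 256 := by rw [ix_conj (C.SV hs'), hix]
  have hU : Nat.card ↥(⁅V, P⁆ : Subgroup H) ≤ 256 := by
    have h4 := relIndex_mul_relIndex (⊥ : Subgroup H) (V ⊓ centralizer (P : Set H)) V bot_le inf_le_left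
    rw [relIndex_bot_left, relIndex_bot_left, inf_relIndex_left, ← h3] at h4
    have h5 := Nat.eq_of_mul_eq_mul_left Nat.card_pos h4
    rw [← h5]
    exact hidx
  have hUW : W₁ ⊔ W₂ = ⁅V, P⁆ := by
    refine Subgroup.eq_of_le_of_card_ge (sup_le L₁.comm L₂.comm) ?_
    rw [hWcard]
    exact hU
  intro Z hZP hZc hZ
  obtain ⟨v, ⟨hvV, hvZ⟩, hvP⟩ := SetLike.not_le_iff_exists.1 hZ
  have hVn : ∀ A B : Subgroup H, A ≤ V → B ≤ V → A ≤ normalizer (B : Set H) := by
    intro A B hA hB a ha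
    apply mem_normalizer_of_conj
    intro b hb
    have h4 : a * b * a⁻¹ = b := by rw [C.Vc a (hA ha) b (hB hb)]; group
    rw [h4]; exact hb
  have hvV' : v ∈ (V ⊓ centralizer (P : Set H)) ⊔ (W₁ ⊔ W₂) := by rw [hUW, h2]; exact hvV
  obtain ⟨c, hc, u, hu, huv⟩ := exists_mul_of_sup (hVn _ _ inf_le_left (sup_le L₁.WV L₂.WV)) hvV'
  obtain ⟨w₁, hw₁, w₂, hw₂, hww⟩ := exists_mul_of_sup (hVn _ _ L₁.WV L₂.WV) hu
  have hz : ∀ z ∈ Z, w₁ * z = z * w₁ ∧ w₂ * z = z * w₂ := by
    intro z hz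
    have hzP := hZP hz
    have e1 : z * v = v * z := (mem_centralizer_iff.1 hvZ) z hz
    have e2 : z * c = c * z := (mem_centralizer_iff.1 hc.2) z hzP
    have e3 : z * (w₁ * w₂) = (w₁ * w₂) * z := by
      rw [hww]
      have h4 : u = c⁻¹ * v := by rw [← huv]; group
      rw [h4]
      have e4 : z * c⁻¹ = c⁻¹ * z := (show Commute z c from e2).inv_right.eq
      calc z * (c⁻¹ * v) = (z * c⁻¹) * v := by group
        _ = c⁻¹ * (z * v) := by rw [e4]; group
        _ = c⁻¹ * v * z := by rw [e1]; group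
    have m1 : w₁⁻¹ * (z * w₁ * z⁻¹) ∈ W₁ :=
      W₁.mul_mem (W₁.inv_mem hw₁) ((mem_normalizer_iff.1 (L₁.norm hzP) w₁).1 hw₁)
    have m2 : w₂ * (z * w₂ * z⁻¹)⁻¹ ∈ W₂ :=
      W₂.mul_mem hw₂ (W₂.inv_mem ((mem_normalizer_iff.1 (L₂.norm hzP) w₂).1 hw₂))
    have e5 : w₁⁻¹ * (z * w₁ * z⁻¹) = w₂ * (z * w₂ * z⁻¹)⁻¹ := by
      calc w₁⁻¹ * (z * w₁ * z⁻¹) = w₁⁻¹ * (z * (w₁ * w₂)) * w₂⁻¹ * z⁻¹ := by group
        _ = w₁⁻¹ * (w₁ * w₂ * z) * w₂⁻¹ * z⁻¹ := by rw [e3]
        _ = _ := by group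
    have m3 : w₁⁻¹ * (z * w₁ * z⁻¹) ∈ W₁ ⊓ W₂ := ⟨m1, by rw [e5]; exact m2⟩
    rw [hWW, mem_bot] at m3
    have e6 : z * w₁ * z⁻¹ = w₁ := by
      calc z * w₁ * z⁻¹ = w₁ * (w₁⁻¹ * (z * w₁ * z⁻¹)) := by group
        _ = w₁ := by rw [m3, mul_one]
    have e7 : z * w₁ = w₁ * z := mul_inv_eq_iff_eq_mul.1 e6
    refine ⟨e7.symm, ?_⟩
    calc w₂ * z = w₁⁻¹ * ((w₁ * w₂) * z) := by group
      _ = w₁⁻¹ * (z * (w₁ * w₂)) := by rw [e3]
      _ = w₁⁻¹ * (z * w₁) * w₂ := by group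
      _ = w₁⁻¹ * (w₁ * z) * w₂ := by rw [e7]
      _ = _ := by group
  by_cases hw1 : w₁ = 1
  · by_cases hw2 : w₂ = 1
    · exfalso
      apply hvP
      rw [← huv, ← hww, hw1, hw2, mul_one, mul_one]
      exact hc.2
    · right
      have h4 : Z ≤ Y₂ := by
        rw [← L₂.fix w₂ hw₂ hw2]
        exact fun z hz' => ⟨hZP hz', mem_cen.2 (hz z hz').2.symm⟩
      exact Subgroup.eq_of_le_of_card_ge h4 (by rw [L₂.Ycard, hZc])
  · left
    have h4 : Z ≤ Y₁ := by
      rw [← L₁.fix w₁ hw₁ hw1]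
      exact fun z hz' => ⟨hZP hz', mem_cen.2 (hz z hz').1.symm⟩
    exact Subgroup.eq_of_le_of_card_ge h4 (by rw [L₁.Ycard, hZc])

/-- an `r`-group normalizing `F` and `Y`, `|Y : F| = 5`, centralizes `Y`. -/
theorem fixes_line [Finite H] {F Y A : Subgroup H} (hFY : F ≤ Y) (hF : Nat.card F ∣ 5) (hY : Nat.card Y = 5 * Nat.card F)
    {r : ℕ} [hr : Fact r.Prime] (hr2 : r ≠ 2) (hr5 : r ≠ 5) (hA : IsPGroup r A) (hAF : A ≤ normalizer (F : Set H))
    (hAY : A ≤ normalizer (Y : Set H)) : Y ≤ centralizer (A : Set H) := by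
  have hr4 : ¬ r ∣ 4 := by
    intro h
    have h1 : r ∣ 2 ^ 2 := by norm_num; exact h
    exact hr2 ((Nat.prime_dvd_prime_iff_eq hr.out Nat.prime_two).1 (hr.out.dvd_of_dvd_pow h1))
  have hr5' : ¬ r ∣ 5 := fun h => hr5 ((Nat.prime_dvd_prime_iff_eq hr.out Nat.prime_five).1 h)
  have hFA : F ≤ centralizer (A : Set H) := by
    have h1 := card_modEq hA hAF
    have h2 : Nat.card ↥(F ⊓ centralizer (A : Set H)) ∣ Nat.card F := card_dvd_of_le inf_le_left
    have h3 : Nat.card ↥(F ⊓ centralizer (A : Set H)) = Nat.card F := by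
      rcases (Nat.dvd_prime Nat.prime_five).1 hF with h4 | h4
      · rw [h4] at h2 ⊢
        exact Nat.dvd_one.1 h2
      · rw [h4] at h1 h2 ⊢
        rcases (Nat.dvd_prime Nat.prime_five).1 h2 with h5 | h5
        · exfalso
          rw [h5] at h1
          exact hr4 ((Nat.modEq_iff_dvd' (by norm_num)).1 h1.symm)
        · exact h5
    have h4 := Subgroup.eq_of_le_of_card_ge (inf_le_left : F ⊓ centralizer (A : Set H) ≤ F) h3.ge
    rw [← h4]
    exact inf_le_right
  have h1 := card_modEq hA hAY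
  rcases eq_or_of_card Nat.prime_five hY (le_inf hFY hFA) (inf_le_left : Y ⊓ centralizer (A : Set H) ≤ Y) with h | h
  · exfalso
    rw [h, hY] at h1
    have h2 : r ∣ 5 * Nat.card F - Nat.card F := (Nat.modEq_iff_dvd' (by omega)).1 h1.symm
    have h3 : 5 * Nat.card F - Nat.card F = 4 * Nat.card F := by omega
    rw [h3] at h2
    rcases hr.out.dvd_mul.1 h2 with h4 | h4
    · exact hr4 h4
    · exact hr5' (h4.trans hF)
  · rw [← h]
    exact inf_le_right

/-- **The final argument.** -/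
theorem final [Finite H] (C : Conf 5 P S F V) (hFV : F ≤ centralizer (V : Set H)) {x : H} (hx : x ∈ P) (hxF : x ∉ F)
    (hix : ix V x = 16) {g : H} (hP : g ∈ normalizer (P : Set H)) (hF : g ∈ normalizer (F : Set H))
    (hV : g ∈ normalizer (V : Set H)) {r : ℕ} (hr : r.Prime) (hr2 : r ≠ 2) (hr5 : r ≠ 5)
    (hgr : g ^ r ∈ centralizer (P : Set H)) : g ∈ centralizer (P : Set H) := by
  have hrf : Fact r.Prime := ⟨hr⟩
  obtain ⟨W₁, Y₁, W₂, Y₂, L₁, L₂, hne, hpair⟩ := C.pair hFV hx hxF hix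
  have hFpos : 0 < Nat.card F := Nat.card_pos
  have hinj : ∀ y : H, Function.Injective (MulAut.conj y).toMonoidHom := fun y => (MulAut.conj y).injective
  -- the lines have fixed points
  have hfp : ∀ W Y : Subgroup H, Line P F V W Y → ¬ (V ⊓ centralizer (Y : Set H) ≤ centralizer (P : Set H)) := by
    intro W Y L hle
    obtain ⟨w, hw, hw1⟩ : ∃ w ∈ W, w ≠ 1 := by
      have h4 : W ≠ ⊥ := by
        intro h
        have h5 := L.card
        rw [h, card_bot] at h5
        omega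
      obtain ⟨a, ha⟩ := (Subgroup.ne_bot_iff_exists_ne_one (H := W)).1 h4
      exact ⟨a, a.2, fun h => ha (Subtype.ext h)⟩
    have h1 := L.fix w hw hw1
    have h2 : w ∈ centralizer (P : Set H) := by
      apply hle
      refine ⟨L.WV hw, ?_⟩
      refine mem_centralizer_iff.2 ?_
      intro y hy
      rw [← h1] at hy
      exact mem_cen.1 hy.2
    have h3 : P ⊓ centralizer ({w} : Set H) = P := by
      apply le_antisymm inf_le_left
      intro y hy
      exact ⟨hy, mem_cen.2 ((mem_centralizer_iff.1 h2) y hy)⟩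
    have h4 := L.Ycard
    rw [← h1, h3, C.dat.card] at h4
    omega
  -- elements normalizing everything permute the lines
  have hperm : ∀ y : H, y ∈ normalizer (P : Set H) → y ∈ normalizer (F : Set H) → y ∈ normalizer (V : Set H) →
      ∀ W Y : Subgroup H, Line P F V W Y →
        Y.map (MulAut.conj y).toMonoidHom = Y₁ ∨ Y.map (MulAut.conj y).toMonoidHom = Y₂ := by
    intro y h1 h2 h3 W Y L
    have L' := line_conj L h1 h2 h3
    exact hpair _ L'.YP L'.Ycard (hfp _ _ L')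
  have hmapmul : ∀ (a b : H) (Y : Subgroup H), (Y.map (MulAut.conj b).toMonoidHom).map (MulAut.conj a).toMonoidHom =
      Y.map (MulAut.conj (a * b)).toMonoidHom := by
    intro a b Y
    rw [Subgroup.map_map]
    congr 1
    ext z
    change a * (b * z * b⁻¹) * a⁻¹ = (a * b) * z * (a * b)⁻¹
    group
  -- `g` fixes both
  have hsame : ∀ Z₁ Z₂ : Subgroup H, Z₁ ≠ Z₂ → Z₁ ≤ P → Z₁.map (MulAut.conj g).toMonoidHom = Z₂ →
      Z₂.map (MulAut.conj g).toMonoidHom = Z₁ → False := by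
    intro Z₁ Z₂ h12 hZP h1 h2
    have hodd : ∀ k : ℕ, Z₁.map (MulAut.conj (g ^ (2 * k + 1))).toMonoidHom = Z₂ := by
      intro k
      induction k with
      | zero => simpa using h1
      | succ k ih =>
        have e : g ^ (2 * (k + 1) + 1) = g * (g * g ^ (2 * k + 1)) := by
          rw [← pow_succ', ← pow_succ']
          congr 1
        rw [e, ← hmapmul, ← hmapmul, ih, h2, h1]
    obtain ⟨k, hk⟩ := hr.odd_of_ne_two hr2
    have h3 := hodd k
    rw [← hk] at h3
    apply h12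
    rw [← h3]
    ext z
    constructor
    · intro hz
      refine ⟨z, hz, ?_⟩
      change g ^ r * z * (g ^ r)⁻¹ = z
      rw [← (mem_centralizer_iff.1 hgr) z (hZP hz)]
      group
    · rintro ⟨y, hy, rfl⟩
      change g ^ r * y * (g ^ r)⁻¹ ∈ Z₁
      rw [← (mem_centralizer_iff.1 hgr) y (hZP hy)]
      have : y * g ^ r * (g ^ r)⁻¹ = y := by group
      rw [this]; exact hy
  have hfix1 : Y₁.map (MulAut.conj g).toMonoidHom = Y₁ := by
    rcases hperm g hP hF hV W₁ Y₁ L₁ with h | h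
    · exact h
    · exfalso
      rcases hperm g hP hF hV W₂ Y₂ L₂ with h' | h'
      · exact hsame Y₁ Y₂ hne L₁.YP h h'
      · exact hne (map_injective (hinj g) (h.trans h'.symm))
  have hfix2 : Y₂.map (MulAut.conj g).toMonoidHom = Y₂ := by
    rcases hperm g hP hF hV W₂ Y₂ L₂ with h | h
    · exact absurd (map_injective (hinj g) (h.trans hfix1.symm)) hne.symm
    · exact h
  have hg1 : g ∈ normalizer (Y₁ : Set H) := by
    apply mem_normalizer_of_conj
    intro y hy
    rw [← hfix1]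
    exact ⟨y, hy, rfl⟩
  have hg2 : g ∈ normalizer (Y₂ : Set H) := by
    apply mem_normalizer_of_conj
    intro y hy
    rw [← hfix2]
    exact ⟨y, hy, rfl⟩
  -- the `r`-part of `g`
  obtain ⟨k, m, hm, hgm⟩ := Nat.exists_eq_pow_mul_and_not_dvd (orderOf_pos g).ne' r hr.ne_one
  have hA : IsPGroup r (zpowers (g ^ m)) := by
    refine IsPGroup.of_card_dvd_pow (n := k) ?_
    rw [Nat.card_zpowers]
    apply orderOf_dvd_of_pow_eq_one
    rw [← pow_mul, mul_comm, ← hgm, pow_orderOf_eq_one]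
  have hAn : ∀ K : Subgroup H, g ∈ normalizer (K : Set H) → zpowers (g ^ m) ≤ normalizer (K : Set H) := by
    intro K hK
    rw [zpowers_le]
    exact pow_mem hK m
  have hY12 : Y₁ ⊔ Y₂ = P := by
    rcases eq_or_of_card Nat.prime_five (by rw [L₁.Ycard, C.dat.card]; ring : Nat.card P = 5 * Nat.card Y₁)
      (le_sup_left : Y₁ ≤ Y₁ ⊔ Y₂) (sup_le L₁.YP L₂.YP) with h | h
    · exfalso
      apply hne
      have h1 : Y₂ ≤ Y₁ := by rw [← h]; exact le_sup_right
      exact (Subgroup.eq_of_le_of_card_ge h1 (by rw [L₁.Ycard, L₂.Ycard])).symm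
    · exact h
  have hgmP : P ≤ centralizer ((zpowers (g ^ m) : Subgroup H) : Set H) := by
    rw [← hY12]
    exact sup_le (fixes_line L₁.FY C.dat.F_card L₁.Ycard hr2 hr5 hA (hAn F hF) (hAn Y₁ hg1))
      (fixes_line L₂.FY C.dat.F_card L₂.Ycard hr2 hr5 hA (hAn F hF) (hAn Y₂ hg2))
  have hgm' : g ^ m ∈ centralizer (P : Set H) := (le_centralizer_iff.1 hgmP) (mem_zpowers _)
  have hcop : Nat.Coprime m r := ((Nat.Prime.coprime_iff_not_dvd hr).2 hm).symm
  have h1 : g = (g ^ m) ^ (Nat.gcdA m r) * (g ^ r) ^ (Nat.gcdB m r) := by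
    have h2 := Nat.gcd_eq_gcd_ab m r
    rw [Nat.Coprime.gcd_eq_one hcop] at h2
    calc g = g ^ (((1 : ℕ) : ℤ)) := by rw [Nat.cast_one, zpow_one]
      _ = g ^ ((m : ℤ) * Nat.gcdA m r + (r : ℤ) * Nat.gcdB m r) := by rw [← h2]
      _ = _ := by rw [zpow_add, zpow_mul, zpow_mul, zpow_natCast, zpow_natCast]
  rw [h1]
  exact mul_mem (zpow_mem hgm' _) (zpow_mem hgr _)

end Conf

end Cfsg.Agent.H7.XiRep
end

-- part: H7/XiDat
section
/-!
# The pair `(P, T ∩ N(P))` of a member `X` of `Ξ(G, T)`, with the Frattini argument for `N_G(X)`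
-/

set_option autoImplicit false

open scoped commutatorElement Pointwise

namespace Cfsg.Agent.H7.XiDat

open Subgroup Cfsg
open Cfsg.Agent.QTSolv Cfsg.Agent.QTSolv.Data Cfsg.Agent.QTSolv.Build
open Cfsg.Agent.QTUniq.Local

variable {G : Type*} [Group G] [Finite G]

/-- The pair `(P, T ∩ N(P))`, as in `QTSolv.Build.exists_dat`, with more properties. -/
theorem exists_dat' {T : Sylow 2 G} {X : Subgroup G} (hX : X ∈ Xi (T : Subgroup G)) :
    ∃ (p : ℕ) (P : Subgroup G), Dat p P ((T : Subgroup G) ⊓ normalizer (P : Set G)) (P ⊓ twoPhiCore X) ∧ P ≤ X ∧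
      X ≤ (pCore 2 ↥X).map X.subtype ⊔ P ∧ (∀ x ∈ P, x ∈ (pCore 2 ↥X).map X.subtype → x = 1) ∧
      ∀ g ∈ normalizer (X : Set G), ∃ o ∈ (pCore 2 ↥X).map X.subtype, o * g ∈ normalizer (P : Set G) := by
  obtain ⟨-, hTX, -, ⟨p, hp, hp2, hcase⟩, hirr⟩ := hX
  have hpf : Fact p.Prime := ⟨hp⟩
  have h2f : Fact (Nat.Prime 2) := ⟨Nat.prime_two⟩
  set O₂ : Subgroup X := pCore 2 ↥X with hO₂
  have hO₂n : O₂.Normal := Lib.Cores.pCore_normal 2
  have hO₂p : IsPGroup 2 O₂ := Lib.Cores.pCore_isPGroup 2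
  set O : Subgroup G := O₂.map X.subtype with hO
  have hOX : O ≤ X := map_subtype_le _
  have hOT : O ≤ (T : Subgroup G) := pCore_le hTX
  set π := QuotientGroup.mk' O₂ with hπ
  have hπs : Function.Surjective π := QuotientGroup.mk'_surjective O₂
  obtain ⟨hVp, hVcard, hVF, hVc⟩ := Frat.frat hcase
  set Φ : Subgroup (↥X ⧸ O₂) := frattini (↥X ⧸ O₂) with hΦ
  let P' : Sylow p X := default
  set P : Subgroup G := (P' : Subgroup X).map X.subtype with hP
  have hPX : P ≤ X := map_subtype_le _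
  have hPp : IsPGroup p P := P'.isPGroup'.map _
  -- `π` is bijective on `P'`
  have hdisj : Disjoint (P' : Subgroup X) O₂ := IsPGroup.disjoint_of_ne p 2 hp2 _ _ P'.isPGroup' hO₂p
  have hinj : ∀ x ∈ (P' : Subgroup X), ∀ y ∈ (P' : Subgroup X), π x = π y → x = y := by
    intro x hx y hy h
    have h1 : x * y⁻¹ ∈ O₂ := by
      rw [← QuotientGroup.eq_one_iff]
      change π (x * y⁻¹) = 1
      rw [map_mul, map_inv, h, mul_inv_cancel]
    have h3 := (disjoint_def.1 hdisj) ((P' : Subgroup X).mul_mem hx ((P' : Subgroup X).inv_mem hy)) h1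
    exact mul_inv_eq_one.1 h3
  have hsurj : ∀ v : ↥X ⧸ O₂, ∃ x ∈ (P' : Subgroup X), π x = v := by
    have h1 : (P' : Subgroup X).map π = ⊤ := by
      rw [← index_eq_one]
      have h3 : ((P' : Subgroup X).map π).index ∣ (P' : Subgroup X).index := index_map_dvd _ hπs
      obtain ⟨n, hn⟩ := hVp.index ((P' : Subgroup X).map π)
      cases n with
      | zero => rw [hn, pow_zero]
      | succ n =>
        exfalso
        apply P'.not_dvd_index
        refine dvd_trans ?_ h3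
        rw [hn]
        exact dvd_pow_self p (Nat.succ_ne_zero n)
    intro v
    have h3 : v ∈ (P' : Subgroup X).map π := by rw [h1]; exact mem_top v
    obtain ⟨x, hx, hxv⟩ := h3
    exact ⟨x, hx, hxv⟩
  -- `X = O P`
  have hXOP : X ≤ O ⊔ P := by
    intro x hx
    obtain ⟨y, hy, hyx⟩ := hsurj (π ⟨x, hx⟩)
    have h1 : (⟨x, hx⟩ : X) * y⁻¹ ∈ O₂ := by
      rw [← QuotientGroup.eq_one_iff]
      change π (⟨x, hx⟩ * y⁻¹) = 1
      rw [map_mul, map_inv, hyx, mul_inv_cancel]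
    have h3 : x = (x * (y : G)⁻¹) * y := by group
    rw [h3]
    exact mul_mem (mem_sup_left ⟨_, h1, rfl⟩) (mem_sup_right ⟨y, hy, rfl⟩)
  set F : Subgroup G := P ⊓ twoPhiCore X with hF
  have hmemPhi : ∀ x : G, x ∈ twoPhiCore X ↔ ∃ hx : x ∈ X, π ⟨x, hx⟩ ∈ Φ := by
    intro x
    constructor
    · rintro ⟨y, hy, rfl⟩
      exact ⟨y.2, hy⟩
    · rintro ⟨hx, h⟩
      exact ⟨⟨x, hx⟩, h, rfl⟩
  have hmemF : ∀ x : G, x ∈ F ↔ ∃ hx : x ∈ P, π ⟨x, hPX hx⟩ ∈ Φ := by
    intro x
    constructor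
    · rintro ⟨hx, h⟩
      obtain ⟨h1, h3⟩ := (hmemPhi x).1 h
      exact ⟨hx, h3⟩
    · rintro ⟨hx, h⟩
      exact ⟨hx, (hmemPhi x).2 ⟨hPX hx, h⟩⟩
  have hP'mem : ∀ x : G, ∀ hx : x ∈ P, (⟨x, hPX hx⟩ : X) ∈ (P' : Subgroup X) := by
    rintro _ ⟨y, hy, rfl⟩
    exact hy
  set S : Subgroup G := (T : Subgroup G) ⊓ normalizer (P : Set G) with hS
  have hTO : (T : Subgroup G) ≤ normalizer (O : Set G) := hTX.trans (normalizer_le X)
  -- Frattini
  have hfrat : ∀ t ∈ normalizer (X : Set G), ∃ o ∈ O, o * t ∈ normalizer (P : Set G) := by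
    intro t ht
    set φ : MulAut X := normalizerMonoidHom X ⟨t, ht⟩ with hφ
    have hφa : ∀ k : X, ((φ k : X) : G) = t * k * t⁻¹ := fun k => rfl
    obtain ⟨x, hx⟩ := MulAction.exists_smul_eq X (φ • P') P'
    -- `x = y o`
    obtain ⟨y, hy, hyx⟩ := hsurj (π x)
    set o : X := y⁻¹ * x with ho
    have hoO : o ∈ O₂ := by
      rw [← QuotientGroup.eq_one_iff]
      change π (y⁻¹ * x) = 1
      rw [map_mul, map_inv, hyx, inv_mul_cancel]
    refine ⟨(o : G), ⟨o, hoO, rfl⟩, ?_⟩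
    apply mem_normalizer_of_conj
    rintro _ ⟨z, hz, rfl⟩
    have h1 : MulAut.conj x (φ z) ∈ (P' : Subgroup X) := by
      have h3 : ((x • (φ • P') : Sylow p X) : Subgroup X) = P' := by rw [hx]
      rw [← h3, Sylow.coe_subgroup_smul]
      refine ⟨φ z, ?_, rfl⟩
      change _ ∈ ((φ • P' : Sylow p X) : Subgroup X)
      rw [Sylow.pointwise_smul_def]
      exact ⟨z, hz, rfl⟩
    have h3 : o * φ z * o⁻¹ ∈ (P' : Subgroup X) := by
      have h4 : o * φ z * o⁻¹ = y⁻¹ * (MulAut.conj x (φ z)) * y⁻¹⁻¹ := by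
        rw [ho, MulAut.conj_apply]; group
      rw [h4]
      exact (P' : Subgroup X).mul_mem ((P' : Subgroup X).mul_mem ((P' : Subgroup X).inv_mem hy) h1)
        ((P' : Subgroup X).inv_mem ((P' : Subgroup X).inv_mem hy))
    refine ⟨_, h3, ?_⟩
    change ((o * φ z * o⁻¹ : X) : G) = (o : G) * t * z * ((o : G) * t)⁻¹
    rw [Subgroup.coe_mul, Subgroup.coe_mul, hφa, Subgroup.coe_inv]
    group
  -- `T ≤ O S`
  have hTOS : ∀ t ∈ (T : Subgroup G), ∃ o ∈ O, o * t ∈ S := by
    intro t ht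
    obtain ⟨o, ho, h⟩ := hfrat t (hTX ht)
    exact ⟨o, ho, (T : Subgroup G).mul_mem (hOT ho) ht, h⟩
  -- `P ∩ O = 1`
  have hPO : ∀ x ∈ P, x ∈ O → x = 1 := by
    rintro _ ⟨y, hy, rfl⟩ ⟨z, hz, hzy⟩
    have h1 : z = y := Subtype.ext hzy
    rw [h1] at hz
    have h3 := (disjoint_def.1 hdisj) hy hz
    rw [h3]
    rfl
  -- elements of `P` with the same image are equal
  have hPinj : ∀ x (hx : x ∈ P) y (hy : y ∈ P), π ⟨x, hPX hx⟩ = π ⟨y, hPX hy⟩ → x = y := by
    intro x hx y hy h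
    exact congrArg Subtype.val (hinj _ (hP'mem x hx) _ (hP'mem y hy) h)
  -- the bijection of `P` with the quotient
  let ε : P → ↥X ⧸ O₂ := fun x => π ⟨x, hPX x.2⟩
  have hε : Function.Bijective ε := by
    constructor
    · intro x y h
      exact Subtype.ext (hPinj x x.2 y y.2 h)
    · intro v
      obtain ⟨x, hx, hxv⟩ := hsurj v
      exact ⟨⟨x, x, hx, rfl⟩, hxv⟩
  have hPcard : Nat.card P = Nat.card (↥X ⧸ O₂) := Nat.card_congr (Equiv.ofBijective ε hε)
  have hFcard : Nat.card F = Nat.card Φ := by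
    refine Nat.card_congr (Equiv.ofBijective (fun x : F => (⟨π ⟨x, hPX x.2.1⟩, ((hmemF x).1 x.2).2⟩ : Φ)) ⟨?_, ?_⟩)
    · intro x y h
      exact Subtype.ext (hPinj x x.2.1 y y.2.1 (congrArg Subtype.val h))
    · rintro ⟨v, hv⟩
      obtain ⟨x, hx, hxv⟩ := hsurj v
      refine ⟨⟨x, (hmemF x).2 ⟨⟨x, hx, rfl⟩, ?_⟩⟩, Subtype.ext hxv⟩
      change π x ∈ Φ
      rw [hxv]
      exact hv
  refine ⟨p, P, ?_, hPX, hXOP, hPO, hfrat⟩
  refine
    { prime := hp
      odd := hp2
      pgroup := hPp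
      S_le := inf_le_right
      F_le := inf_le_left
      F_norm := ?_
      irr := ?_
      card := by rw [hPcard, hFcard, hVcard]
      F_card := by rw [hFcard]; exact hVF
      comm := ?_
      pow := ?_
      ngen := ?_
      cent := ?_ }
  · intro s hs
    apply mem_normalizer_of_conj
    intro y hy
    exact ⟨(mem_normalizer_iff.1 hs.2 y).1 hy.1,
      (mem_normalizer_iff.1 (normalizer_le_twoPhi X (hTX hs.1)) y).1 hy.2⟩
  · intro Y hFY hYP hSY
    -- `T` normalises `O Y`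
    have hSn : ∀ s ∈ S, s ∈ normalizer ((O ⊔ Y : Subgroup G) : Set G) := fun s hs =>
      mem_normalizer_sup (hTO hs.1) (hSY hs)
    have hTn : (T : Subgroup G) ≤ normalizer ((O ⊔ Y : Subgroup G) : Set G) := by
      intro t ht
      obtain ⟨o, hoO, hot⟩ := hTOS t ht
      have h1 : t = o⁻¹ * (o * t) := by group
      rw [h1]
      exact mul_mem (le_normalizer (mem_sup_left (O.inv_mem hoO))) (hSn _ hot)
    have hXn : P ≤ normalizer (O : Set G) := by
      intro x hx
      exact (normalizer_le X) (le_normalizer (hPX hx))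
    have hYn : Y ≤ normalizer (O : Set G) := hYP.trans hXn
    -- modular law
    have hmod : ∀ x ∈ P, x ∈ O ⊔ Y → x ∈ Y := by
      intro x hx hxO
      rw [← SetLike.mem_coe, coe_mul_of_right_le_normalizer_left O Y hYn] at hxO
      obtain ⟨o, ho, y, hy, hoy⟩ := hxO
      have h1 : o * y = x := hoy
      have h3 : o = x * y⁻¹ := by rw [← h1]; group
      have h4 : o ∈ P := by rw [h3]; exact P.mul_mem hx (P.inv_mem (hYP hy))
      have h5 := hPO o h4 ho
      rw [h5, one_mul] at h1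
      rwa [← h1]
    have hPhi : twoPhiCore X ≤ O ⊔ Y := by
      intro x hx
      obtain ⟨hxX, h1⟩ := (hmemPhi x).1 hx
      obtain ⟨y, hy, hyx⟩ := hsurj (π ⟨x, hxX⟩)
      have h3 : (⟨x, hxX⟩ : X) * y⁻¹ ∈ O₂ := by
        rw [← QuotientGroup.eq_one_iff]
        change π (⟨x, hxX⟩ * y⁻¹) = 1
        rw [map_mul, map_inv, hyx, mul_inv_cancel]
      have h4 : (y : G) ∈ F := by
        refine (hmemF _).2 ⟨⟨y, hy, rfl⟩, ?_⟩
        change π y ∈ Φ
        rw [hyx]
        exact h1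
      have h5 : x = (x * (y : G)⁻¹) * y := by group
      rw [h5]
      exact mul_mem (mem_sup_left ⟨_, h3, rfl⟩) (mem_sup_right (hFY h4))
    rcases hirr (O ⊔ Y) hPhi (sup_le hOX (hYP.trans hPX)) hTn with h | h
    · left
      apply le_antisymm ?_ hFY
      intro y hy
      refine ⟨hYP hy, ?_⟩
      rw [← h]
      exact mem_sup_right hy
    · right
      apply le_antisymm hYP
      intro x hx
      apply hmod x hx
      rw [h]
      exact hPX hx
  · rw [commutator_le]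
    intro x hx y hy
    refine (hmemF _).2 ⟨?_, ?_⟩
    · rw [commutatorElement_def]
      exact P.mul_mem (P.mul_mem (P.mul_mem hx hy) (P.inv_mem hx)) (P.inv_mem hy)
    · have h1 := Lib.FrattiniPGroup.commutator_mem_frattini hVp (π ⟨x, hPX hx⟩) (π ⟨y, hPX hy⟩)
      rw [← map_commutatorElement] at h1
      exact h1
  · intro x hx
    refine (hmemF _).2 ⟨P.pow_mem hx p, ?_⟩
    have h1 := Lib.FrattiniPGroup.pow_mem_frattini hVp (π ⟨x, hPX hx⟩)
    rw [← map_pow] at h1
    exact h1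
  · intro Y hYP hY
    have h1 : (Y.subgroupOf X).map π ⊔ Φ = ⊤ := by
      rw [eq_top_iff]
      intro v _
      obtain ⟨x, hx, hxv⟩ := hsurj v
      have hxP : (x : G) ∈ Y ⊔ F := by
        rw [hY]
        exact ⟨x, hx, rfl⟩
      have h3 : x ∈ (Y ⊔ F).subgroupOf X := hxP
      rw [subgroupOf_sup (hYP.trans hPX) (inf_le_left.trans hPX : F ≤ X)] at h3
      have h4 : π x ∈ (Y.subgroupOf X ⊔ F.subgroupOf X).map π := ⟨x, h3, rfl⟩
      rw [Subgroup.map_sup, hxv] at h4
      refine (sup_le_sup_left ?_ _ : (Y.subgroupOf X).map π ⊔ (F.subgroupOf X).map π ≤ _) h4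
      rintro _ ⟨y, hy, rfl⟩
      obtain ⟨hyP, h5⟩ := (hmemF _).1 hy
      exact h5
    have h3 := frattini_nongenerating h1
    apply le_antisymm hYP
    intro x hx
    have h4 : π ⟨x, hPX hx⟩ ∈ (Y.subgroupOf X).map π := by rw [h3]; exact mem_top _
    obtain ⟨y, hy, hyx⟩ := h4
    have h5 : (y : G) = x := hPinj y (hYP hy) x hx hyx
    rw [← h5]
    exact hy
  · intro x hx
    rw [mem_centralizer_iff]
    intro y hy
    obtain ⟨hxP, h1⟩ := (hmemF x).1 hx
    have h3 := (mem_center_iff.1 (hVc h1)) (π ⟨y, hPX hy⟩)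
    rw [← map_mul, ← map_mul] at h3
    exact hPinj _ (P.mul_mem hy hxP) _ (P.mul_mem hxP hy) h3

end Cfsg.Agent.H7.XiDat
end

-- part: H7/XiConc
section
/-!
# The module `C_{V₁}(O₂(XT))`, `V₁ = Ω₁(Z(O₂(X)))`, for a member `X` of `Ξ(G, T)`
-/

set_option autoImplicit false

open scoped commutatorElement

namespace Cfsg.Agent.H7.XiConc

open Subgroup Cfsg
open Cfsg.Agent.QTSolv.Data (Dat mem_normalizer_of_conj mem_normalizer_sup)
open Cfsg.Agent.H7.XiRep Cfsg.Agent.H7.XiRep.Conf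
open Cfsg.Agent.QTSolv.Build (normalizer_le normalizer_le_twoPhi)
open Cfsg.Agent.QTUniq.Local
open Cfsg.Agent.H7.Faithful (omZ mem_omZ omZ_le omZ_le_centralizer normalizer_le_omZ exists_fixed_mod)

variable {G : Type*} [Group G] [Finite G]

/-- A member of `Ξ(G, T)` with a Sylow `p`-subgroup `P` -/
structure Setup (T : Sylow 2 G) (X : Subgroup G) (p : ℕ) (P : Subgroup G) : Prop where
  odd : oddGenerated X = X
  TX : (T : Subgroup G) ≤ normalizer (X : Set G)
  dat : Dat p P ((T : Subgroup G) ⊓ normalizer (P : Set G)) (P ⊓ twoPhiCore X)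
  PX : P ≤ X
  XOP : X ≤ pCoreTwoOf X ⊔ P
  PO : ∀ x ∈ P, x ∈ pCoreTwoOf X → x = 1
  frat : ∀ g ∈ normalizer (X : Set G), ∃ o ∈ pCoreTwoOf X, o * g ∈ normalizer (P : Set G)

theorem exists_setup {T : Sylow 2 G} {X : Subgroup G} (hX : X ∈ Xi (T : Subgroup G)) :
    ∃ (p : ℕ) (P : Subgroup G), Setup T X p P := by
  obtain ⟨p, P, h1, h2, h3, h4, h5⟩ := XiDat.exists_dat' hX
  exact ⟨p, P, hX.1, hX.2.1, h1, h2, h3, h4, h5⟩

theorem normalizer_O (X : Subgroup G) : normalizer (X : Set G) ≤ normalizer (pCoreTwoOf X : Set G) :=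
  normalizer_le X

omit [Finite G] in
theorem O_le (X : Subgroup G) : pCoreTwoOf X ≤ X := map_subtype_le _

theorem O_isPGroup (X : Subgroup G) : IsPGroup 2 ↥(pCoreTwoOf X) := map_pCore_isPGroup 2 X

/-- the kernel of `N_G(X)` on `X / O_2(X)` -/
def Kx (X : Subgroup G) : Subgroup G := trivOn (normalizer (X : Set G)) X (pCoreTwoOf X) (normalizer_O X)

theorem mem_Kx {X : Subgroup G} {k : G} :
    k ∈ Kx X ↔ k ∈ normalizer (X : Set G) ∧ ∀ y ∈ X, ⁅y, k⁆ ∈ pCoreTwoOf X := Iff.rfl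

theorem Kx_le (X : Subgroup G) : Kx X ≤ normalizer (X : Set G) := fun _ hk => (mem_Kx.1 hk).1

theorem normalizer_le_Kx (X : Subgroup G) : normalizer (X : Set G) ≤ normalizer (Kx X : Set G) := by
  intro g hg
  apply mem_normalizer_of_conj
  intro k hk
  obtain ⟨h1, h2⟩ := mem_Kx.1 hk
  refine mem_Kx.2 ⟨mul_mem (mul_mem hg h1) (inv_mem hg), fun y hy => ?_⟩
  have h3 : g⁻¹ * y * g ∈ X := by
    have := (mem_normalizer_iff.1 (inv_mem hg) y).1 hy
    simpa using this
  have h4 : ⁅y, g * k * g⁻¹⁆ = g * ⁅g⁻¹ * y * g, k⁆ * g⁻¹ := by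
    simp only [commutatorElement_def]; group
  rw [h4]
  exact (mem_normalizer_iff.1 (normalizer_O X hg) _).1 (h2 _ h3)

theorem O_le_Kx (X : Subgroup G) : pCoreTwoOf X ≤ Kx X := by
  intro o ho
  have hoX : o ∈ normalizer (X : Set G) := le_normalizer (O_le X ho)
  refine mem_Kx.2 ⟨hoX, fun y hy => ?_⟩
  rw [commutatorElement_def]
  exact mul_mem ((mem_normalizer_iff.1 (normalizer_O X (le_normalizer hy)) o).1 ho) (inv_mem ho)

/-- the module -/
def Vx (T : Sylow 2 G) (X : Subgroup G) : Subgroup G :=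
  omZ (pCoreTwoOf X) ⊓ centralizer (((T : Subgroup G) ⊓ Kx X : Subgroup G) : Set G)

theorem Vx_le_omZ (T : Sylow 2 G) (X : Subgroup G) : Vx T X ≤ omZ (pCoreTwoOf X) := inf_le_left

theorem Vx_le_O (T : Sylow 2 G) (X : Subgroup G) : Vx T X ≤ pCoreTwoOf X := (Vx_le_omZ T X).trans (omZ_le _)

theorem O_le_centralizer (T : Sylow 2 G) (X : Subgroup G) : pCoreTwoOf X ≤ centralizer (Vx T X : Set G) :=
  le_centralizer_iff.1 ((Vx_le_omZ T X).trans (omZ_le_centralizer _))

theorem Vx_comm (T : Sylow 2 G) (X : Subgroup G) : ∀ v ∈ Vx T X, ∀ w ∈ Vx T X, v * w = w * v := by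
  intro v hv w hw
  exact (mem_centralizer_iff.1 (omZ_le_centralizer _ (Vx_le_omZ T X hw))) v (Vx_le_O T X hv)

theorem Vx_sq (T : Sylow 2 G) (X : Subgroup G) : ∀ v ∈ Vx T X, v * v = 1 := by
  intro v hv
  have h1 := (mem_omZ.1 (Vx_le_omZ T X hv)).2
  rwa [pow_two] at h1

theorem Vx_isPGroup (T : Sylow 2 G) (X : Subgroup G) : IsPGroup 2 ↥(Vx T X) := (O_isPGroup X).to_le (Vx_le_O T X)

theorem mem_normalizer_centralizer' {A : Subgroup G} {g : G} (hg : g ∈ normalizer (A : Set G)) :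
    g ∈ normalizer (centralizer (A : Set G) : Set G) := by
  apply mem_normalizer_of_conj
  intro c hc
  rw [mem_centralizer_iff] at hc ⊢
  intro a ha
  have h1 : g⁻¹ * a * g ∈ A := by
    have := (mem_normalizer_iff.1 (inv_mem hg) a).1 ha
    simpa using this
  have h2 := hc _ h1
  calc a * (g * c * g⁻¹) = g * ((g⁻¹ * a * g) * c) * g⁻¹ := by group
    _ = g * (c * (g⁻¹ * a * g)) * g⁻¹ := by rw [h2]
    _ = _ := by group

omit [Finite G] in
theorem mem_normalizer_inf {A B : Subgroup G} {g : G} (hA : g ∈ normalizer (A : Set G))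
    (hB : g ∈ normalizer (B : Set G)) : g ∈ normalizer ((A ⊓ B : Subgroup G) : Set G) := by
  rw [mem_normalizer_iff]
  intro x
  exact ⟨fun h => ⟨(mem_normalizer_iff.1 hA x).1 h.1, (mem_normalizer_iff.1 hB x).1 h.2⟩,
    fun h => ⟨(mem_normalizer_iff.1 hA x).2 h.1, (mem_normalizer_iff.1 hB x).2 h.2⟩⟩

theorem mem_normalizer_Vx {T : Sylow 2 G} {X : Subgroup G} {g : G} (hg : g ∈ normalizer (X : Set G))
    (hgQ : g ∈ normalizer (((T : Subgroup G) ⊓ Kx X : Subgroup G) : Set G)) : g ∈ normalizer (Vx T X : Set G) :=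
  mem_normalizer_inf (normalizer_le_omZ _ (normalizer_O X hg)) (mem_normalizer_centralizer' hgQ)

namespace Setup

variable {T : Sylow 2 G} {X P : Subgroup G} {p : ℕ}

theorem O_le_T (D : Setup T X p P) : pCoreTwoOf X ≤ (T : Subgroup G) := Cfsg.Agent.QTSolv.Build.pCore_le D.TX

theorem O_le_TK (D : Setup T X p P) : pCoreTwoOf X ≤ (T : Subgroup G) ⊓ Kx X := le_inf D.O_le_T (O_le_Kx X)

/-- `T` normalizes `T ∩ K` -/
theorem T_le (D : Setup T X p P) : (T : Subgroup G) ≤ normalizer (((T : Subgroup G) ⊓ Kx X : Subgroup G) : Set G) :=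
  fun _ ht => mem_normalizer_inf (le_normalizer ht) (normalizer_le_Kx X (D.TX ht))

theorem X_le (D : Setup T X p P) : X ≤ normalizer (((T : Subgroup G) ⊓ Kx X : Subgroup G) : Set G) := by
  intro x hx
  apply mem_normalizer_of_conj
  rintro t ⟨ht, htK⟩
  have h1 : x * t * x⁻¹ = ⁅x, t⁆ * t := by rw [commutatorElement_def]; group
  rw [h1]
  exact mul_mem (D.O_le_TK ((mem_Kx.1 htK).2 x hx)) ⟨ht, htK⟩

theorem T_le_V (D : Setup T X p P) : (T : Subgroup G) ≤ normalizer (Vx T X : Set G) :=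
  fun _ ht => mem_normalizer_Vx (D.TX ht) (D.T_le ht)

theorem X_le_V (D : Setup T X p P) : X ≤ normalizer (Vx T X : Set G) :=
  fun _ hx => mem_normalizer_Vx (le_normalizer hx) (D.X_le hx)

/-- `O_2(X T) = T ∩ K` -/
theorem pCore_eq (D : Setup T X p P) :
    (pCore 2 ↥(X ⊔ (T : Subgroup G))).map (X ⊔ (T : Subgroup G)).subtype = (T : Subgroup G) ⊓ Kx X := by
  have hTM : (T : Subgroup G) ≤ X ⊔ (T : Subgroup G) := le_sup_right
  have hXM : X ≤ X ⊔ (T : Subgroup G) := le_sup_left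
  apply le_antisymm
  · have hQT := map_pCore_le_sylow T hTM
    intro q hq
    refine ⟨hQT hq, mem_Kx.2 ⟨D.TX (hQT hq), ?_⟩⟩
    set Q := (pCore 2 ↥(X ⊔ (T : Subgroup G))).map (X ⊔ (T : Subgroup G)).subtype with hQ
    have hn : X ⊔ (T : Subgroup G) ≤ normalizer (Q : Set G) := le_normalizer_map_pCore 2 _
    have h1 : X ⊓ Q ≤ pCoreTwoOf X := by
      refine le_map_pCore inf_le_left ((map_pCore_isPGroup 2 _).to_le inf_le_right) ?_
      intro x hx
      exact mem_normalizer_inf (le_normalizer hx) (hn (hXM hx))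
    intro y hy
    apply h1
    refine ⟨?_, ?_⟩
    · have e : ⁅y, q⁆ = y * (q * y⁻¹ * q⁻¹) := by rw [commutatorElement_def]; group
      rw [e]
      exact X.mul_mem hy ((mem_normalizer_iff.1 (D.TX (hQT hq)) _).1 (X.inv_mem hy))
    · rw [commutatorElement_def]
      exact Q.mul_mem ((mem_normalizer_iff.1 (hn (hXM hy)) q).1 hq) (Q.inv_mem hq)
  · refine le_map_pCore (inf_le_left.trans hTM) (T.isPGroup'.to_le inf_le_left) ?_
    exact sup_le D.X_le D.T_le

/-- elements of `T ∩ N(P)` trivial on `P / F` centralize `P` -/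
theorem mem_centralizer_of_triv (D : Setup T X p P) {s : G} (hs : s ∈ (T : Subgroup G) ⊓ normalizer (P : Set G))
    (h1 : ∀ y ∈ P, ⁅y, s⁆ ∈ P ⊓ twoPhiCore X) : s ∈ centralizer (P : Set G) := by
  have h2f : Fact (Nat.Prime 2) := ⟨Nat.prime_two⟩
  have hsP : s ∈ normalizer (P : Set G) := hs.2
  have hA : IsPGroup 2 (zpowers s) := T.isPGroup'.to_le ((zpowers_le).2 hs.1)
  have hAP : zpowers s ≤ normalizer (P : Set G) := (zpowers_le).2 hsP
  refine (burnside D.dat (fun h => D.dat.odd h.symm) hA hAP hAP le_rfl ?_ ?_) (mem_zpowers s)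
  · exact Cfsg.Agent.Lib.CoprimeCommutator.commutator_le_left hAP
  · rw [commutator_le]
    rintro y hy _ ⟨k, rfl⟩
    have haT : s ∈ trivOn ((T : Subgroup G) ⊓ normalizer (P : Set G)) P (P ⊓ twoPhiCore X) D.dat.F_norm := ⟨hs, h1⟩
    exact ((trivOn _ P (P ⊓ twoPhiCore X) D.dat.F_norm).zpow_mem haT k).2 y hy

/-- an element of `N(X)` centralizing `P` is trivial on `X / O_2(X)` -/
theorem mem_Kx_of_centralizer (D : Setup T X p P) {s : G} (hs : s ∈ normalizer (X : Set G))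
    (h : s ∈ centralizer (P : Set G)) : s ∈ Kx X := by
  refine mem_Kx.2 ⟨hs, fun y hy => ?_⟩
  have hOn : pCoreTwoOf X ≤ normalizer (P : Set G) ∨ True := Or.inr trivial
  have hPn : P ≤ normalizer (pCoreTwoOf X : Set G) := fun z hz => normalizer_O X (le_normalizer (D.PX hz))
  have hy' : y ∈ P ⊔ pCoreTwoOf X := by rw [sup_comm]; exact D.XOP hy
  obtain ⟨a, ha, o, ho, rfl⟩ := exists_mul_of_sup hPn hy'
  have h1 := (mem_centralizer_iff.1 h) a ha
  -- `⁅a o, s⁆ = a ⁅o, s⁆ a⁻¹`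
  have h2 : ⁅a * o, s⁆ = a * (o * (s * o⁻¹ * s⁻¹)) * a⁻¹ := by
    rw [commutatorElement_def]
    have h3 : s * (a * o)⁻¹ * s⁻¹ = (s * o⁻¹ * s⁻¹) * (s * a⁻¹ * s⁻¹) := by group
    have h4 : s * a⁻¹ * s⁻¹ = a⁻¹ := by
      calc s * a⁻¹ * s⁻¹ = a⁻¹ * (a * s) * a⁻¹ * s⁻¹ := by group
        _ = a⁻¹ * (s * a) * a⁻¹ * s⁻¹ := by rw [h1]
        _ = _ := by group
    calc a * o * s * (a * o)⁻¹ * s⁻¹ = a * o * (s * (a * o)⁻¹ * s⁻¹) := by group
      _ = a * o * ((s * o⁻¹ * s⁻¹) * a⁻¹) := by rw [h3, h4]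
      _ = _ := by group
  rw [h2]
  refine (mem_normalizer_iff.1 (hPn ha) _).1 ?_
  exact mul_mem ho ((mem_normalizer_iff.1 (normalizer_O X hs) _).1 (inv_mem ho))

/-- an element of `K ∩ N(P)` centralizes `P` -/
theorem mem_centralizer_of_mem_Kx (D : Setup T X p P) {s : G} (hs : s ∈ Kx X) (hsP : s ∈ normalizer (P : Set G)) :
    s ∈ centralizer (P : Set G) := by
  rw [mem_centralizer_iff]
  intro y hy
  have h1 := (mem_Kx.1 hs).2 y (D.PX hy)
  have h2 := D.PO _ (commutator_mem hsP hy) h1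
  exact (commutatorElement_eq_one_iff_mul_comm).1 h2

theorem exists_S (D : Setup T X p P) {t : G} (ht : t ∈ (T : Subgroup G)) :
    ∃ o ∈ pCoreTwoOf X, o * t ∈ (T : Subgroup G) ⊓ normalizer (P : Set G) := by
  obtain ⟨o, ho, h⟩ := D.frat t (D.TX ht)
  exact ⟨o, ho, mul_mem (D.O_le_T ho) ht, h⟩

theorem P_le_V (D : Setup T X p P) : P ≤ normalizer (Vx T X : Set G) := D.PX.trans D.X_le_V

theorem not_P_le (D : Setup T X p P) (hne : ¬ X ≤ centralizer (Vx T X : Set G)) : ¬ P ≤ centralizer (Vx T X : Set G) :=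
  fun h => hne (D.XOP.trans (sup_le (O_le_centralizer T X) h))

/-- `C_P(V) ≤ F`, more generally for the intersection of `P` with a group containing `C(V)` as a subgroup of
2-power index -/
theorem inf_le_F (D : Setup T X p P) (hne : ¬ X ≤ centralizer (Vx T X : Set G)) :
    P ⊓ centralizer (Vx T X : Set G) ≤ P ⊓ twoPhiCore X := by
  set V := Vx T X with hV
  set K : Subgroup G := P ⊓ centralizer (V : Set G) with hK
  have hSK : (T : Subgroup G) ⊓ normalizer (P : Set G) ≤ normalizer (K : Set G) := fun s hs =>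
    mem_normalizer_inf hs.2 (mem_normalizer_centralizer' (D.T_le_V hs.1))
  rcases D.dat.irr (K ⊔ (P ⊓ twoPhiCore X)) le_sup_right (sup_le inf_le_left D.dat.F_le)
    (fun s hs => mem_normalizer_sup (hSK hs) (D.dat.F_norm hs)) with h | h
  · rw [← h]; exact le_sup_left
  · exfalso
    have h1 := D.dat.ngen K inf_le_left h
    apply D.not_P_le hne
    rw [← h1]
    exact inf_le_right

/-- elements `t` of `T` in a subgroup `N ≥ O` with `N ∩ P ≤ F` normalized by `P` lie in `K` -/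
theorem mem_TK (D : Setup T X p P) {N : Subgroup G} (hO : pCoreTwoOf X ≤ N) (hN : P ≤ normalizer (N : Set G))
    (hNF : P ⊓ N ≤ P ⊓ twoPhiCore X) {t : G} (ht : t ∈ (T : Subgroup G)) (htN : t ∈ N) :
    t ∈ (T : Subgroup G) ⊓ Kx X := by
  obtain ⟨o, ho, hs⟩ := D.exists_S ht
  have hsN : o * t ∈ N := N.mul_mem (hO ho) htN
  have h1 : o * t ∈ centralizer (P : Set G) := by
    apply D.mem_centralizer_of_triv hs
    intro y hy
    apply hNF
    refine ⟨commutator_mem hs.2 hy, ?_⟩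
    rw [commutatorElement_def]
    exact N.mul_mem ((mem_normalizer_iff.1 (hN hy) _).1 hsN) (N.inv_mem hsN)
  have h2 := D.mem_Kx_of_centralizer (D.TX hs.1) h1
  refine ⟨ht, ?_⟩
  have h3 : t = o⁻¹ * (o * t) := by group
  rw [h3]
  exact (Kx X).mul_mem ((Kx X).inv_mem (O_le_Kx X ho)) h2

/-- `C_T(V) = T ∩ K` -/
theorem inf_centralizer (D : Setup T X p P) (hne : ¬ X ≤ centralizer (Vx T X : Set G)) :
    (T : Subgroup G) ⊓ centralizer (Vx T X : Set G) = (T : Subgroup G) ⊓ Kx X := by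
  apply le_antisymm
  · rintro t ⟨ht, htV⟩
    exact D.mem_TK (O_le_centralizer T X) (fun y hy => mem_normalizer_centralizer' (D.P_le_V hy)) (D.inf_le_F hne)
      ht htV
  · refine le_inf inf_le_left ?_
    exact le_centralizer_iff.1 inf_le_right

/-- `V` is 2-reduced for `X T` -/
theorem mem_calR2 (D : Setup T X p P) (hne : ¬ X ≤ centralizer (Vx T X : Set G)) :
    Vx T X ∈ calR2 (X ⊔ (T : Subgroup G)) := by
  have h2f : Fact (Nat.Prime 2) := ⟨Nat.prime_two⟩
  set V := Vx T X with hV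
  set M₀ : Subgroup G := X ⊔ (T : Subgroup G) with hM₀
  have hTM : (T : Subgroup G) ≤ M₀ := le_sup_right
  have hXM : X ≤ M₀ := le_sup_left
  have hVX : V ≤ X := (Vx_le_O T X).trans (O_le X)
  have hMV : M₀ ≤ normalizer (V : Set G) := sup_le D.X_le_V D.T_le_V
  refine ⟨hVX.trans hXM, hMV, ⟨⟨⟨fun a b => Subtype.ext (Vx_comm T X a a.2 b b.2)⟩⟩, fun a ha => ?_⟩, ?_⟩
  · rw [pow_two]
    exact Vx_sq T X a ha
  intro N hNM hMN hCN hk
  obtain ⟨k, hk⟩ := hk
  set C : Subgroup G := M₀ ⊓ centralizer (V : Set G) with hC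
  have hMC : M₀ ≤ normalizer (C : Set G) := fun m hm =>
    mem_normalizer_inf (le_normalizer hm) (mem_normalizer_centralizer' (hMV hm))
  have hOC : pCoreTwoOf X ≤ C := le_inf ((O_le X).trans hXM) (O_le_centralizer T X)
  have hCnorm : (C.subgroupOf N).Normal := (normal_subgroupOf_iff_le_normalizer hCN).2 (hNM.trans hMC)
  -- `P ∩ N ≤ C(V)`
  have h1 : P ⊓ N ≤ P ⊓ twoPhiCore X := by
    refine le_trans ?_ (D.inf_le_F hne)
    rintro y ⟨hy, hyN⟩
    refine ⟨hy, ?_⟩
    have h2 : (⟨y, hyN⟩ : N) ^ (2 ^ k) ∈ C.subgroupOf N := by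
      rw [← hk]
      exact pow_index_mem (C.subgroupOf N) _
    have h3 : y ^ (2 ^ k) ∈ C := h2
    have h4 : y ^ p = 1 := D.dat.pow_eq_one y hy
    have hcop : Nat.Coprime (2 ^ k) p := by
      apply Nat.Coprime.pow_left
      exact ((Nat.coprime_primes Nat.prime_two D.dat.prime).2 (fun h => D.dat.odd h.symm))
    have h5 : Nat.Coprime (orderOf y) (2 ^ k) := (Nat.Coprime.coprime_dvd_right (orderOf_dvd_of_pow_eq_one h4) hcop).symm
    obtain ⟨m, hm⟩ := exists_pow_eq_self_of_coprime (n := 2 ^ k) (x := y) h5.symm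
    rw [← hm]
    exact (C.pow_mem h3 m).2
  have hPN : P ≤ normalizer (N : Set G) := fun y hy => hMN (hXM (D.PX hy))
  have hTN : (T : Subgroup G) ⊓ N ≤ C := by
    rintro t ⟨ht, htN⟩
    have h2 := D.mem_TK (hOC.trans hCN) hPN h1 ht htN
    rw [← D.inf_centralizer hne] at h2
    exact ⟨hTM ht, h2.2⟩
  -- indices
  have h2 : ¬ 2 ∣ (T : Subgroup G).relIndex N :=
    Cfsg.Agent.CharactersDeep.QuatSylow.not_dvd_relIndex_of_le_normalizer T N M₀ hTM hNM hMN
  have h3 : C.relIndex N ∣ (T : Subgroup G).relIndex N := by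
    have h4 := relIndex_mul_relIndex ((T : Subgroup G) ⊓ N) C N hTN hCN
    rw [inf_relIndex_right] at h4
    exact ⟨_, by rw [mul_comm]; exact h4.symm⟩
  rw [hk] at h3
  have hk0 : k = 0 := by
    by_contra h
    exact h2 ((dvd_pow_self 2 h).trans h3)
  rw [hk0, pow_zero, relIndex_eq_one] at hk
  exact le_antisymm hk hCN

/-- the configuration -/
theorem conf (D : Setup T X p P) (hne : ¬ X ≤ centralizer (Vx T X : Set G)) :
    Conf p P ((T : Subgroup G) ⊓ normalizer (P : Set G)) (P ⊓ twoPhiCore X) (Vx T X) := by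
  refine ⟨D.dat, Vx_isPGroup T X, Vx_comm T X, Vx_sq T X, D.P_le_V, inf_le_left.trans D.T_le_V,
    T.isPGroup'.to_le inf_le_left, ?_, ?_, D.not_P_le hne⟩
  · intro s hs hsV
    have h1 : s ∈ (T : Subgroup G) ⊓ Kx X := by
      rw [← D.inf_centralizer hne]
      exact ⟨hs.1, hsV⟩
    exact D.mem_centralizer_of_mem_Kx h1.2 hs.2
  · intro s hs hsP
    have h1 : s ∈ (T : Subgroup G) ⊓ Kx X := ⟨hs.1, D.mem_Kx_of_centralizer (D.TX hs.1) hsP⟩
    rw [← D.inf_centralizer hne] at h1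
    exact h1.2

/-- `X` acts nontrivially on the module, by the `A × B` argument -/
theorem not_le_centralizer (D : Setup T X p P) (hm : moduleV X ≠ ⊥) : ¬ X ≤ centralizer (Vx T X : Set G) := by
  have h2f : Fact (Nat.Prime 2) := ⟨Nat.prime_two⟩
  intro hXV
  apply hm
  set O := pCoreTwoOf X with hO
  set V₁ := omZ O with hV₁
  set Q := (T : Subgroup G) ⊓ Kx X with hQ
  have hmod : moduleV X = ⁅V₁, X⁆ := rfl
  have hV₁O : V₁ ≤ O := omZ_le O
  have hQp : IsPGroup 2 Q := T.isPGroup'.to_le inf_le_left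
  have hNV₁ : normalizer (X : Set G) ≤ normalizer (V₁ : Set G) := (normalizer_O X).trans (normalizer_le_omZ O)
  rw [hmod, commutator_eq_bot_iff_le_centralizer, le_centralizer_iff, ← D.odd, oddGenerated, closure_le]
  rintro x ⟨hx, ho⟩
  by_contra hxV
  have hno : ¬ V₁ ≤ centralizer ({x} : Set G) := by
    intro h
    apply hxV
    refine mem_centralizer_iff.2 ?_
    intro v hv
    exact mem_cen.1 (h hv)
  obtain ⟨N, hNV, hQN, hNC, hcomm⟩ := exists_fixed_mod (C := centralizer ({x} : Set G)) hQp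
    (hV₁O.trans D.O_le_TK) (fun q hq => hNV₁ (D.TX hq.1)) hno
  apply hNC
  intro v hv
  rw [mem_cen]
  have hxV₁ : x ∈ normalizer (V₁ : Set G) := hNV₁ (le_normalizer hx)
  have hvV : ⁅v, x⁆ ∈ V₁ := commutator_mem hxV₁ (hNV hv)
  have hcop : (orderOf x).Coprime (Nat.card V₁) := by
    obtain ⟨n, hn⟩ := IsPGroup.iff_card.1 ((O_isPGroup X).to_le hV₁O)
    rw [hn]
    exact Nat.Coprime.pow_right n ((Nat.coprime_two_right).2 ho)
  refine (Cfsg.Agent.Lib.CoprimeStab.commute_of_commutator_commute hcop hvV ?_).eq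
  -- `⁅v, x⁆ ∈ V`
  have h1 : ⁅⁅N, Q⁆, zpowers x⁆ = ⊥ := by
    rw [commutator_eq_bot_iff_le_centralizer, centralizer_zpowers]; exact hcomm
  have h2 : ⁅⁅Q, zpowers x⁆, N⁆ = ⊥ := by
    rw [commutator_eq_bot_iff_le_centralizer]
    have h3 : ⁅Q, zpowers x⁆ ≤ O := by
      rw [commutator_comm, commutator_le]
      intro y hy q hq
      exact (mem_Kx.1 hq.2).2 y ((zpowers_le).2 hx hy)
    have h4 : O ≤ centralizer (V₁ : Set G) := le_centralizer_iff.1 (omZ_le_centralizer O)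
    exact (h3.trans h4).trans (centralizer_le hNV)
  have h3 : ⁅⁅zpowers x, N⁆, Q⁆ = ⊥ := commutator_commutator_eq_bot_of_rotate h1 h2
  rw [commutator_eq_bot_iff_le_centralizer] at h3
  have h4 : ⁅v, x⁆ ∈ Vx T X := by
    refine ⟨hvV, h3 ?_⟩
    rw [commutator_comm]
    exact commutator_mem_commutator hv (mem_zpowers x)
  exact (mem_centralizer_iff.1 (hXV hx)) _ h4

/-- `O²(X T) = X` -/
theorem oddGenerated_sup (D : Setup T X p P) : oddGenerated (X ⊔ (T : Subgroup G)) = X := by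
  apply le_antisymm
  · rw [oddGenerated, closure_le]
    rintro x ⟨hx, ho⟩
    -- `x = t y`
    have hn : X ⊔ (T : Subgroup G) ≤ normalizer (X : Set G) := sup_le le_normalizer D.TX
    have hnn : (X.subgroupOf (X ⊔ (T : Subgroup G))).Normal := (normal_subgroupOf_iff_le_normalizer le_sup_left).2 hn
    have hp : IsPGroup 2 (↥(X ⊔ (T : Subgroup G)) ⧸ X.subgroupOf (X ⊔ (T : Subgroup G))) := by
      intro q
      obtain ⟨y, rfl⟩ := QuotientGroup.mk_surjective q
      have hy : (y : G) ∈ (T : Subgroup G) ⊔ X := by rw [sup_comm]; exact y.2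
      obtain ⟨t, ht, z, hz, htz⟩ := exists_mul_of_sup D.TX hy
      obtain ⟨n, hn⟩ := T.isPGroup' ⟨t, ht⟩
      refine ⟨n, ?_⟩
      have h1 : (QuotientGroup.mk y : ↥(X ⊔ (T : Subgroup G)) ⧸ X.subgroupOf (X ⊔ (T : Subgroup G))) =
          QuotientGroup.mk ⟨t, mem_sup_right ht⟩ := by
        rw [eq_comm, QuotientGroup.eq, mem_subgroupOf]
        change t⁻¹ * (y : G) ∈ X
        rw [← htz]
        have : t⁻¹ * (t * z) = z := by group
        rw [this]; exact hz
      rw [h1, ← QuotientGroup.mk_pow]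
      have h2 : (⟨t, mem_sup_right ht⟩ : ↥(X ⊔ (T : Subgroup G))) ^ 2 ^ n = 1 := by
        apply Subtype.ext
        have h3 : t ^ 2 ^ n = 1 := congrArg Subtype.val hn
        exact h3
      rw [h2, QuotientGroup.mk_one]
    obtain ⟨n, hn⟩ := hp (QuotientGroup.mk (⟨x, hx⟩ : ↥(X ⊔ (T : Subgroup G))))
    rw [← QuotientGroup.mk_pow, QuotientGroup.eq_one_iff, mem_subgroupOf] at hn
    have h1 : x ^ 2 ^ n ∈ X := hn
    obtain ⟨m, hm⟩ := exists_pow_eq_self_of_coprime (n := 2 ^ n) (x := x)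
      (Nat.Coprime.pow_left n ((Nat.coprime_two_left).2 ho))
    rw [SetLike.mem_coe, ← hm]
    exact X.pow_mem h1 m
  · conv_lhs => rw [← D.odd]
    rw [oddGenerated, oddGenerated]
    apply Subgroup.closure_mono
    rintro x ⟨hx, ho⟩
    exact ⟨mem_sup_left hx, ho⟩

end Setup

end Cfsg.Agent.H7.XiConc
end

-- part: H7/XiFin
section
/-!
# Members `X` of `Ξ(G, T)` acting on a small module: `X` is a `{2, 3}`-group or `X / O₂(X)` is a 5-group.
-/

set_option autoImplicit false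

open scoped commutatorElement

namespace Cfsg.Agent.H7.XiFin

open Subgroup Cfsg
open Cfsg.Agent.QTSolv.Data (Dat mem_normalizer_of_conj mem_normalizer_sup)
open Cfsg.Agent.H7.XiRep Cfsg.Agent.H7.XiRep.Conf Cfsg.Agent.H7.XiConc Cfsg.Agent.H7.XiConc.Setup
open Cfsg.Agent.QTSolv.Build (normalizer_le normalizer_le_twoPhi)
open Cfsg.Agent.Lib.GoldschmidtFusion (exists_conj_le_in)

variable {G : Type*} [Group G] [Finite G]

/-- `A` induces a small elementary abelian group on `V` -/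
structure Good (V A : Subgroup G) : Prop where
  ne : ¬ A ≤ centralizer (V : Set G)
  sq : ∀ b ∈ A, b * b ∈ centralizer (V : Set G)
  comm : ∀ b ∈ A, ∀ b' ∈ A, b * b' * b⁻¹ * b'⁻¹ ∈ centralizer (V : Set G)
  idx : (centralizer (A : Set G)).relIndex V ≤ ((centralizer (V : Set G)).relIndex A) ^ 2

omit [Finite G] in
theorem mem_ker_iff {V : Subgroup G} (x : ↥(normalizer (V : Set G))) :
    normalizerMonoidHom V x = 1 ↔ (x : G) ∈ centralizer (V : Set G) := by
  constructor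
  · intro h
    rw [mem_centralizer_iff]
    intro v hv
    have h1 : ((normalizerMonoidHom V x ⟨v, hv⟩ : V) : G) = v := by rw [h]; rfl
    have h2 : (x : G) * v * (x : G)⁻¹ = v := h1
    calc v * (x : G) = ((x : G) * v * (x : G)⁻¹) * x := by rw [h2]
      _ = _ := by group
  · intro h
    ext v
    have h1 := (mem_centralizer_iff.1 h) v v.2
    change (x : G) * v * (x : G)⁻¹ = v
    rw [← h1]; group

theorem relIndex_eq_card {V A : Subgroup G} (hA : A ≤ normalizer (V : Set G)) :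
    (centralizer (V : Set G)).relIndex A =
      Nat.card ↥((A.subgroupOf (normalizer (V : Set G))).map (normalizerMonoidHom V)) := by
  rw [← relIndex_ker]
  have h1 : (normalizerMonoidHom V).ker = (centralizer (V : Set G)).subgroupOf (normalizer (V : Set G)) := by
    ext x
    rw [MonoidHom.mem_ker, mem_ker_iff, mem_subgroupOf]
  rw [h1, relIndex_subgroupOf hA]

theorem good_of_equiv {V A A' : Subgroup G} (hA : A ≤ normalizer (V : Set G)) (hA' : A' ≤ normalizer (V : Set G))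
    (h1 : ∀ b ∈ A, ∃ b' ∈ A', b⁻¹ * b' ∈ centralizer (V : Set G))
    (h2 : ∀ b' ∈ A', ∃ b ∈ A, b⁻¹ * b' ∈ centralizer (V : Set G)) (hgood : Good V A) : Good V A' := by
  have hφ : ∀ (b b' : G) (hb : b ∈ normalizer (V : Set G)) (hb' : b' ∈ normalizer (V : Set G)),
      b⁻¹ * b' ∈ centralizer (V : Set G) → normalizerMonoidHom V ⟨b', hb'⟩ = normalizerMonoidHom V ⟨b, hb⟩ := by
    intro b b' hb hb' h
    have h3 := (mem_ker_iff (V := V) ((⟨b, hb⟩ : ↥(normalizer (V : Set G)))⁻¹ * ⟨b', hb'⟩)).2 h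
    rw [map_mul, map_inv] at h3
    exact (inv_mul_eq_one.1 h3).symm
  have himg : (A.subgroupOf (normalizer (V : Set G))).map (normalizerMonoidHom V) =
      (A'.subgroupOf (normalizer (V : Set G))).map (normalizerMonoidHom V) := by
    apply le_antisymm
    · rintro _ ⟨⟨b, hb⟩, hbA, rfl⟩
      obtain ⟨b', hb', h⟩ := h1 b hbA
      exact ⟨⟨b', hA' hb'⟩, hb', hφ b b' hb (hA' hb') h⟩
    · rintro _ ⟨⟨b', hb'⟩, hbA, rfl⟩
      obtain ⟨b, hb, h⟩ := h2 b' hbA
      exact ⟨⟨b, hA hb⟩, hb, (hφ b b' (hA hb) hb' h).symm⟩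
  refine ⟨?_, ?_, ?_, ?_⟩
  · intro h
    apply hgood.ne
    intro b hb
    obtain ⟨b', hb', h3⟩ := h1 b hb
    have h4 : b = b' * (b⁻¹ * b')⁻¹ := by group
    rw [h4]
    exact mul_mem (h hb') (inv_mem h3)
  · intro b' hb'
    obtain ⟨b, hb, h3⟩ := h2 b' hb'
    have h4 := hφ b b' (hA hb) (hA' hb') h3
    have h5 := (mem_ker_iff (V := V) ((⟨b, hA hb⟩ : ↥(normalizer (V : Set G))) * ⟨b, hA hb⟩)).2 (hgood.sq b hb)
    refine (mem_ker_iff (V := V) ((⟨b', hA' hb'⟩ : ↥(normalizer (V : Set G))) * ⟨b', hA' hb'⟩)).1 ?_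
    rw [map_mul, h4, ← map_mul]
    exact h5
  · intro b₁' hb₁' b₂' hb₂'
    obtain ⟨b₁, hb₁, h3⟩ := h2 b₁' hb₁'
    obtain ⟨b₂, hb₂, h3'⟩ := h2 b₂' hb₂'
    have h4 := hφ b₁ b₁' (hA hb₁) (hA' hb₁') h3
    have h4' := hφ b₂ b₂' (hA hb₂) (hA' hb₂') h3'
    have h5 := (mem_ker_iff (V := V) ((⟨b₁, hA hb₁⟩ : ↥(normalizer (V : Set G))) * ⟨b₂, hA hb₂⟩ *
      (⟨b₁, hA hb₁⟩ : ↥(normalizer (V : Set G)))⁻¹ * (⟨b₂, hA hb₂⟩ : ↥(normalizer (V : Set G)))⁻¹)).2
        ((hgood.comm b₁ hb₁ b₂ hb₂ :))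
    refine (mem_ker_iff (V := V) ((⟨b₁', hA' hb₁'⟩ : ↥(normalizer (V : Set G))) * ⟨b₂', hA' hb₂'⟩ *
      (⟨b₁', hA' hb₁'⟩ : ↥(normalizer (V : Set G)))⁻¹ * (⟨b₂', hA' hb₂'⟩ : ↥(normalizer (V : Set G)))⁻¹)).1 ?_
    rw [map_mul, map_mul, map_mul, map_inv, map_inv, h4, h4', ← map_inv, ← map_inv, ← map_mul, ← map_mul, ← map_mul]
    exact h5
  · have h3 : (centralizer (A' : Set G)).relIndex V = (centralizer (A : Set G)).relIndex V := by
      have h4 : V ⊓ centralizer (A' : Set G) = V ⊓ centralizer (A : Set G) := by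
        apply le_antisymm
        · rintro v ⟨hv, hvA⟩
          refine ⟨hv, mem_centralizer_iff.2 ?_⟩
          intro b hb
          obtain ⟨b', hb', h5⟩ := h1 b hb
          have h6 := (mem_centralizer_iff.1 hvA) b' hb'
          have h7 := (mem_centralizer_iff.1 (inv_mem h5)) v hv
          have h8 : b = b' * (b⁻¹ * b')⁻¹ := by group
          rw [h8]
          calc b' * (b⁻¹ * b')⁻¹ * v = b' * ((b⁻¹ * b')⁻¹ * v) := by group
            _ = b' * (v * (b⁻¹ * b')⁻¹) := by rw [h7]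
            _ = (b' * v) * (b⁻¹ * b')⁻¹ := by group
            _ = (v * b') * (b⁻¹ * b')⁻¹ := by rw [h6]
            _ = _ := by group
        · rintro v ⟨hv, hvA⟩
          refine ⟨hv, mem_centralizer_iff.2 ?_⟩
          intro b' hb'
          obtain ⟨b, hb, h5⟩ := h2 b' hb'
          have h6 := (mem_centralizer_iff.1 hvA) b hb
          have h7 := (mem_centralizer_iff.1 h5) v hv
          have h8 : b' = b * (b⁻¹ * b') := by group
          rw [h8]
          calc b * (b⁻¹ * b') * v = b * ((b⁻¹ * b') * v) := by group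
            _ = b * (v * (b⁻¹ * b')) := by rw [h7]
            _ = (b * v) * (b⁻¹ * b') := by group
            _ = (v * b) * (b⁻¹ * b') := by rw [h6]
            _ = _ := by group
      rw [← inf_relIndex_left V (centralizer (A' : Set G)), ← inf_relIndex_left V (centralizer (A : Set G)), h4]
    rw [h3, relIndex_eq_card hA', ← himg, ← relIndex_eq_card hA]
    exact hgood.idx

theorem map_conj_centralizer' (A : Subgroup G) (m : G) :
    (centralizer (A : Set G)).map (MulAut.conj m).toMonoidHom =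
      centralizer ((A.map (MulAut.conj m).toMonoidHom : Subgroup G) : Set G) := by
  ext y
  rw [mem_centralizer_iff]
  constructor
  · rintro ⟨x, hx, rfl⟩ _ ⟨a, ha, rfl⟩
    have h3 := (mem_centralizer_iff.1 hx) a ha
    change m * a * m⁻¹ * (m * x * m⁻¹) = m * x * m⁻¹ * (m * a * m⁻¹)
    calc m * a * m⁻¹ * (m * x * m⁻¹) = m * (a * x) * m⁻¹ := by group
      _ = m * (x * a) * m⁻¹ := by rw [h3]
      _ = _ := by group
  · intro hy
    refine ⟨m⁻¹ * y * m, ?_, by change m * (m⁻¹ * y * m) * m⁻¹ = y; group⟩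
    refine mem_centralizer_iff.2 ?_
    intro a ha
    have h3 := hy (m * a * m⁻¹) ⟨a, ha, rfl⟩
    calc a * (m⁻¹ * y * m) = m⁻¹ * (m * a * m⁻¹ * y) * m := by group
      _ = m⁻¹ * (y * (m * a * m⁻¹)) * m := by rw [h3]
      _ = _ := by group

theorem good_conj {V A : Subgroup G} {m : G} (hm : m ∈ normalizer (V : Set G)) (hgood : Good V A) :
    Good V (A.map (MulAut.conj m).toMonoidHom) := by
  have hinj : Function.Injective (MulAut.conj m).toMonoidHom := (MulAut.conj m).injective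
  have hCV : m ∈ normalizer (centralizer (V : Set G) : Set G) := mem_normalizer_centralizer' hm
  have hVm := map_conj_of_mem_normalizer hm
  have hCm := map_conj_of_mem_normalizer hCV
  refine ⟨?_, ?_, ?_, ?_⟩
  · intro h
    apply hgood.ne
    rw [← hCm] at h
    exact (map_le_map_iff_of_injective hinj).1 h
  · rintro _ ⟨b, hb, rfl⟩
    have h1 := (mem_normalizer_iff.1 hCV _).1 (hgood.sq b hb)
    have h2 : (MulAut.conj m).toMonoidHom b * (MulAut.conj m).toMonoidHom b = m * (b * b) * m⁻¹ := by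
      rw [← map_mul]; rfl
    rw [h2]; exact h1
  · rintro _ ⟨b, hb, rfl⟩ _ ⟨b', hb', rfl⟩
    have h1 := (mem_normalizer_iff.1 hCV _).1 (hgood.comm b hb b' hb')
    have h2 : (MulAut.conj m).toMonoidHom b * (MulAut.conj m).toMonoidHom b' * ((MulAut.conj m).toMonoidHom b)⁻¹ *
        ((MulAut.conj m).toMonoidHom b')⁻¹ = m * (b * b' * b⁻¹ * b'⁻¹) * m⁻¹ := by
      rw [← map_mul, ← map_inv, ← map_inv, ← map_mul, ← map_mul]; rfl
    rw [h2]; exact h1
  · have h1 : (centralizer ((A.map (MulAut.conj m).toMonoidHom : Subgroup G) : Set G)).relIndex V =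
        (centralizer (A : Set G)).relIndex V := by
      have h2 := relIndex_map_map_of_injective (centralizer (A : Set G)) V hinj
      rw [map_conj_centralizer', hVm] at h2
      exact h2
    have h3 : (centralizer (V : Set G)).relIndex (A.map (MulAut.conj m).toMonoidHom) =
        (centralizer (V : Set G)).relIndex A := by
      have h2 := relIndex_map_map_of_injective (centralizer (V : Set G)) A hinj
      rw [hCm] at h2
      exact h2
    rw [h1, h3]
    exact hgood.idx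

variable {T : Sylow 2 G} {X P : Subgroup G} {p : ℕ}

/-- reduction to a subgroup of `T ∩ N(P)` -/
theorem exists_B (D : Setup T X p P) {B : Subgroup G} (hB : B ≤ X ⊔ (T : Subgroup G)) (hgood : Good (Vx T X) B) :
    ∃ B' ≤ (T : Subgroup G) ⊓ normalizer (P : Set G), Good (Vx T X) B' := by
  have h2f : Fact (Nat.Prime 2) := ⟨Nat.prime_two⟩
  set V := Vx T X with hV
  set M₀ : Subgroup G := X ⊔ (T : Subgroup G) with hM₀
  have hMV : M₀ ≤ normalizer (V : Set G) := sup_le D.X_le_V D.T_le_V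
  have hTM : (T : Subgroup G) ≤ M₀ := le_sup_right
  have hBV := hB.trans hMV
  -- a Sylow 2-subgroup of `B`
  obtain ⟨R, hRB, hRp, hR⟩ : ∃ R ≤ B, IsPGroup 2 R ∧ ∀ b ∈ B, ∃ r ∈ R, r⁻¹ * b ∈ centralizer (V : Set G) := by
    let S₀ : Sylow 2 ↥B := default
    set C : Subgroup ↥B := (centralizer (V : Set G)).subgroupOf B with hC
    have hCn : C.Normal := by
      refine ⟨fun c hc b => ?_⟩
      have h1 := (mem_normalizer_iff.1 (mem_normalizer_centralizer' (hBV b.2)) (c : G)).1 hc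
      exact h1
    have hq : IsPGroup 2 (⊤ : Subgroup (↥B ⧸ C)) := by
      rintro ⟨q, -⟩
      obtain ⟨b, rfl⟩ := QuotientGroup.mk_surjective q
      refine ⟨1, ?_⟩
      apply Subtype.ext
      change (QuotientGroup.mk b : ↥B ⧸ C) ^ (2 ^ 1) = 1
      rw [pow_one, ← QuotientGroup.mk_pow, QuotientGroup.eq_one_iff, mem_subgroupOf, pow_two]
      exact hgood.sq b b.2
    refine ⟨(S₀ : Subgroup ↥B).map B.subtype, map_subtype_le _, S₀.isPGroup'.map _, ?_⟩
    intro b hb
    obtain ⟨s, hs, c, hc, hbs⟩ := Cfsg.Agent.PLocal.SylowFixed.exists_mul_of_mk_mem C ⊤ hq S₀ (g := ⟨b, hb⟩)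
      (mem_top _)
    refine ⟨s, ⟨s, hs, rfl⟩, ?_⟩
    have h1 : b = (s : G) * c := congrArg Subtype.val hbs
    rw [h1]
    have h2 : (s : G)⁻¹ * ((s : G) * c) = c := by group
    rw [h2]
    exact hc
  have hRgood : Good V R := by
    refine good_of_equiv hBV (hRB.trans hBV) ?_ ?_ hgood
    · intro b hb
      obtain ⟨r, hr, h⟩ := hR b hb
      refine ⟨r, hr, ?_⟩
      have h1 : b⁻¹ * r = (r⁻¹ * b)⁻¹ := by group
      rw [h1]
      exact inv_mem h
    · intro r hr
      refine ⟨r, hRB hr, ?_⟩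
      rw [inv_mul_cancel]
      exact one_mem _
  -- conjugate into `T`
  have hTi : ¬ 2 ∣ (T : Subgroup G).relIndex M₀ :=
    Cfsg.Agent.CharactersDeep.QuatSylow.not_dvd_relIndex_of_le_normalizer T M₀ M₀ hTM le_rfl le_normalizer
  obtain ⟨m, hm, hmT⟩ := exists_conj_le_in (N := M₀) T.isPGroup' hTi (hRB.trans hB) hRp
  have hRm := good_conj (hMV hm) hRgood
  set R' := R.map (MulAut.conj m).toMonoidHom with hR'
  set O := pCoreTwoOf X with hO
  have hTO : (T : Subgroup G) ≤ normalizer (O : Set G) := D.TX.trans (normalizer_O X)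
  have hOV := O_le_centralizer T X
  have hOT := D.O_le_T
  refine ⟨((T : Subgroup G) ⊓ normalizer (P : Set G)) ⊓ (R' ⊔ O), inf_le_left, ?_⟩
  refine good_of_equiv (hmT.trans D.T_le_V) ((inf_le_left.trans inf_le_left).trans D.T_le_V) ?_ ?_ hRm
  · intro b hb
    obtain ⟨o, ho, hs⟩ := D.exists_S (hmT hb)
    refine ⟨o * b, ⟨hs, mul_mem (mem_sup_right ho) (mem_sup_left hb)⟩, ?_⟩
    have h1 : b⁻¹ * (o * b) = b⁻¹ * o * b⁻¹⁻¹ := by group
    rw [h1]
    exact hOV ((mem_normalizer_iff.1 (inv_mem (hTO (hmT hb))) o).1 ho)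
  · rintro b' ⟨-, hb'⟩
    obtain ⟨b, hb, o, ho, hbo⟩ := exists_mul_of_sup (hmT.trans hTO) hb'
    refine ⟨b, hb, ?_⟩
    rw [← hbo]
    have h1 : b⁻¹ * (b * o) = o := by group
    rw [h1]
    exact hOV ho

/-- the order of `X` -/
theorem card_X (D : Setup T X p P) : Nat.card X = Nat.card ↥(pCoreTwoOf X) * Nat.card P := by
  have h1 : pCoreTwoOf X ⊔ P = X := le_antisymm (sup_le (O_le X) D.PX) D.XOP
  have h2 := Cfsg.Agent.SignalizersComponents.InvariantHall.card_sup_of_inf_eq_bot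
    (X := pCoreTwoOf X) (Y := P) (fun z hz => normalizer_O X (le_normalizer (D.PX hz))) (by
      rw [eq_bot_iff]
      rintro x ⟨hx1, hx2⟩
      exact mem_bot.2 (D.PO x hx2 hx1))
  rw [h1] at h2
  exact h2

/-- **The conclusion.** -/
theorem concl (D : Setup T X p P) (hm : moduleV X ≠ ⊥) (hq : ∃ B ≤ X ⊔ (T : Subgroup G), Good (Vx T X) B) :
    (∀ q : ℕ, q.Prime → q ∣ Nat.card ↥X → q = 2 ∨ q = 3) ∨
    (IsPGroup 5 (↥X ⧸ Cfsg.pCore 2 ↥X) ∧
      ∀ r : ℕ, r.Prime → r ≠ 2 → r ≠ 5 → ∀ g ∈ Subgroup.normalizer (X : Set G),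
        (∀ x ∈ X, g ^ r * x * (g ^ r)⁻¹ * x⁻¹ ∈ Cfsg.pCoreTwoOf X) →
          ∀ x ∈ X, g * x * g⁻¹ * x⁻¹ ∈ Cfsg.pCoreTwoOf X) := by
  have h2f : Fact (Nat.Prime 2) := ⟨Nat.prime_two⟩
  have hpf : Fact p.Prime := ⟨D.dat.prime⟩
  have hne := D.not_le_centralizer hm
  have C := D.conf hne
  by_cases hp3 : p = 3
  · left
    intro q hqp hqX
    rw [card_X D] at hqX
    rcases (Nat.Prime.dvd_mul hqp).1 hqX with h | h
    · left
      obtain ⟨n, hn⟩ := IsPGroup.iff_card.1 (O_isPGroup X)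
      rw [hn] at h
      exact (Nat.prime_dvd_prime_iff_eq hqp Nat.prime_two).1 (hqp.dvd_of_dvd_pow h)
    · right
      obtain ⟨n, hn⟩ := IsPGroup.iff_card.1 D.dat.pgroup
      rw [hn, hp3] at h
      exact (Nat.prime_dvd_prime_iff_eq hqp Nat.prime_three).1 (hqp.dvd_of_dvd_pow h)
  right
  have hp5 : 5 ≤ p := by
    have h1 := D.dat.prime.two_le
    have h2 := D.dat.odd
    have h4 : p ≠ 4 := by
      rintro rfl
      exact absurd D.dat.prime (by norm_num)
    omega
  obtain ⟨B, hB, hgood⟩ := hq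
  obtain ⟨B', hB'S, hgood'⟩ := exists_B D hB hgood
  obtain ⟨a, ha, x, hx, hxF, ha2, -, hax, hixa⟩ := C.exists_small hp5 hB'S hgood'.ne hgood'.sq hgood'.comm hgood'.idx
  obtain ⟨rfl, hix⟩ := C.five hp5 ha hx hxF ha2 hax hixa
  have hFV := C.F_le_centralizer hx hxF hix
  have hXPO : ∀ y ∈ X, ∃ z ∈ P, ∃ o ∈ pCoreTwoOf X, z * o = y := by
    intro y hy
    have hPn : P ≤ normalizer (pCoreTwoOf X : Set G) := fun z hz => normalizer_O X (le_normalizer (D.PX hz))
    have hy' : y ∈ P ⊔ pCoreTwoOf X := by rw [sup_comm]; exact D.XOP hy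
    exact exists_mul_of_sup hPn hy'
  constructor
  · intro q
    obtain ⟨y, rfl⟩ := QuotientGroup.mk_surjective q
    obtain ⟨z, hz, o, ho, hzo⟩ := hXPO y y.2
    refine ⟨1, ?_⟩
    have h1 : (QuotientGroup.mk y : ↥X ⧸ pCore 2 ↥X) = QuotientGroup.mk ⟨z, D.PX hz⟩ := by
      rw [eq_comm, QuotientGroup.eq]
      obtain ⟨o', ho', ho'o⟩ := ho
      have h2 : (⟨z, D.PX hz⟩ : X)⁻¹ * y = o' := by
        apply Subtype.ext
        change z⁻¹ * (y : G) = o'
        have h3 : (o' : G) = o := ho'o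
        rw [← hzo, h3]; group
      rw [h2]; exact ho'
    rw [h1, pow_one, ← QuotientGroup.mk_pow]
    have h2 : (⟨z, D.PX hz⟩ : X) ^ 5 = 1 := Subtype.ext (D.dat.pow_eq_one z hz)
    rw [h2, QuotientGroup.mk_one]
  · intro r hr hr2 hr5 g hg hgr
    set O := pCoreTwoOf X with hO
    have hinv : ∀ a y : G, a * y * a⁻¹ * y⁻¹ = ⁅y, a⁆⁻¹ := by
      intro a y
      rw [commutatorElement_def]; group
    -- membership in the kernel
    have hKiff : ∀ k : G, k ∈ normalizer (X : Set G) →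
        ((∀ y ∈ X, k * y * k⁻¹ * y⁻¹ ∈ O) ↔ k ∈ Kx X) := by
      intro k hk
      constructor
      · intro h
        refine mem_Kx.2 ⟨hk, fun y hy => ?_⟩
        have h1 := h y hy
        rw [hinv] at h1
        exact inv_mem_iff.1 h1
      · intro h y hy
        rw [hinv]
        exact inv_mem ((mem_Kx.1 h).2 y hy)
    rw [hKiff g hg]
    have hgrK : g ^ r ∈ Kx X := (hKiff _ (pow_mem hg r)).1 hgr
    -- Frattini
    set Q := (T : Subgroup G) ⊓ Kx X with hQ
    have hQp : IsPGroup 2 Q := T.isPGroup'.to_le inf_le_left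
    have hKn := normalizer_le_Kx X
    have hQi : ¬ 2 ∣ Q.relIndex (Kx X) := by
      rw [hQ, inf_relIndex_right]
      exact Cfsg.Agent.CharactersDeep.QuatSylow.not_dvd_relIndex_of_le_normalizer T (Kx X) (normalizer (X : Set G))
        D.TX (Kx_le X) hKn
    have hQg : Q.map (MulAut.conj g).toMonoidHom ≤ Kx X := by
      rintro _ ⟨q, hq, rfl⟩
      exact (mem_normalizer_iff.1 (hKn hg) q).1 hq.2
    obtain ⟨k, hk, hkQ⟩ := exists_conj_le_in (N := Kx X) hQp hQi hQg (hQp.map _)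
    have hkg : k * g ∈ normalizer (Q : Set G) := by
      apply mem_normalizer_of_conj
      intro q hq
      apply hkQ
      refine ⟨g * q * g⁻¹, ⟨q, hq, rfl⟩, ?_⟩
      change k * (g * q * g⁻¹) * k⁻¹ = k * g * q * (k * g)⁻¹
      group
    have hkgX : k * g ∈ normalizer (X : Set G) := mul_mem (Kx_le X hk) hg
    obtain ⟨o, ho, hoP⟩ := D.frat (k * g) hkgX
    set h : G := o * (k * g) with hh
    have hoX : o ∈ normalizer (X : Set G) := le_normalizer (O_le X ho)
    have hhX : h ∈ normalizer (X : Set G) := mul_mem hoX hkgX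
    have hhV : h ∈ normalizer (Vx T X : Set G) :=
      mul_mem (D.X_le_V (O_le X ho)) (mem_normalizer_Vx hkgX hkg)
    have hhF : h ∈ normalizer ((P ⊓ twoPhiCore X : Subgroup G) : Set G) :=
      mem_normalizer_inf hoP (normalizer_le_twoPhi X hhX)
    -- `h ∈ K g`
    have hok : o * k ∈ Kx X := mul_mem (O_le_Kx X ho) hk
    have hhg : h = (o * k) * g := by rw [hh]; group
    -- `h ^ r ∈ K`
    have hhr : h ^ r ∈ Kx X := by
      have hn : ((Kx X).subgroupOf (normalizer (X : Set G))).Normal :=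
        (normal_subgroupOf_iff_le_normalizer (Kx_le X)).2 hKn
      have h1 : (QuotientGroup.mk (⟨h, hhX⟩ : ↥(normalizer (X : Set G))) :
          ↥(normalizer (X : Set G)) ⧸ (Kx X).subgroupOf (normalizer (X : Set G))) = QuotientGroup.mk ⟨g, hg⟩ := by
        rw [eq_comm, QuotientGroup.eq, mem_subgroupOf]
        change g⁻¹ * h ∈ Kx X
        rw [hhg]
        have h3 : g⁻¹ * ((o * k) * g) = g⁻¹ * (o * k) * g⁻¹⁻¹ := by group
        rw [h3]
        exact (mem_normalizer_iff.1 (inv_mem (hKn hg)) _).1 hok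
      have h2 : (QuotientGroup.mk ((⟨h, hhX⟩ : ↥(normalizer (X : Set G))) ^ r) :
          ↥(normalizer (X : Set G)) ⧸ (Kx X).subgroupOf (normalizer (X : Set G))) = 1 := by
        rw [QuotientGroup.mk_pow, h1, ← QuotientGroup.mk_pow, QuotientGroup.eq_one_iff, mem_subgroupOf]
        exact hgrK
      rw [QuotientGroup.eq_one_iff, mem_subgroupOf] at h2
      exact h2
    have hhrP : h ^ r ∈ centralizer (P : Set G) := D.mem_centralizer_of_mem_Kx hhr (pow_mem hoP r)
    have hhP := C.final hFV hx hxF hix hoP hhF hhV hr hr2 hr5 hhrP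
    have hhK := D.mem_Kx_of_centralizer hhX hhP
    have hg' : g = (o * k)⁻¹ * h := by rw [hhg]; group
    rw [hg']
    exact mul_mem (inv_mem hok) hhK

end Cfsg.Agent.H7.XiFin
end

-- part: S1852
section
set_option autoImplicit false
open Cfsg

namespace Cfsg.Agent.S1852

open Subgroup Cfsg.Agent.H7.XiConc Cfsg.Agent.H7.XiFin
open Cfsg.Agent.QTUniq.Local (pCore_ne_bot_of_twoLocal exists_maximal_twoLocal map_pCore_isPGroup)

/-- Let G be a non-abelian finite simple QTKE-group and T a Sylow 2-subgroup of G lying in at least two distinct maximal 2-local subgroups of G. Let X be a member of Ξ*(G, T) — X = O²(X) is T-invariant with O₂(XT) ≠ 1, X/O₂(X) is elementary abelian of order p² or extraspecial of order p³ for some odd prime p, T is irreducible on the Frattini quotient of X/O₂(X), and XT lies in no ⟨L, T⟩ with L ∈ ℒ(G, T) and L/O₂(L) quasisimple — that also lies in 𝒳 (F*(X) = O₂(X)) and acts nontrivially on Ω₁(Z(O₂(X))) (a faithful solvable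 uniqueness group). Then either X is a {2, 3}-group, or X/O₂(X) is a 5-group and the group of automorphisms of X/O₂(X) induced by N_G(X) is a {2, 5}-group (rendered: for every prime r other than 2 and 5, an element of N_G(X) whose r-th power acts trivially on X/O₂(X) itself acts trivially on X/O₂(X)). -/
theorem result {G : Type*} [Group G] [Finite G] [IsSimpleGroup G]
    (hG : ¬ IsMulCommutative G) (hQ : Cfsg.IsQTKE G) (T : Sylow 2 G) (X : Subgroup G)
    (hT : ∃ M₁ M₂ : Subgroup G, M₁ ∈ Cfsg.maxTwoLocalsContaining (T : Subgroup G) ∧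
      M₂ ∈ Cfsg.maxTwoLocalsContaining (T : Subgroup G) ∧ M₁ ≠ M₂)
    (hX : X ∈ Cfsg.XiStar (T : Subgroup G)) (hXf : X ∈ Cfsg.calXf G) :
    (∀ p : ℕ, p.Prime → p ∣ Nat.card ↥X → p = 2 ∨ p = 3) ∨
    (IsPGroup 5 (↥X ⧸ Cfsg.pCore 2 ↥X) ∧
      ∀ r : ℕ, r.Prime → r ≠ 2 → r ≠ 5 → ∀ g ∈ Subgroup.normalizer (X : Set G),
        (∀ x ∈ X, g ^ r * x * (g ^ r)⁻¹ * x⁻¹ ∈ Cfsg.pCoreTwoOf X) →
          ∀ x ∈ X, g * x * g⁻¹ * x⁻¹ ∈ Cfsg.pCoreTwoOf X) := by
  have h2f : Fact (Nat.Prime 2) := ⟨Nat.prime_two⟩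
  have hN := Cfsg.Agent.S1822.result hG hQ T X hX
  obtain ⟨p, P, D⟩ := exists_setup hX.1
  have hne := D.not_le_centralizer hXf.2
  refine concl D hXf.2 ?_
  set M : Subgroup G := normalizer (X : Set G) with hM
  set M₀ : Subgroup G := X ⊔ (T : Subgroup G) with hM₀
  have hMmem : M ∈ maxTwoLocalsContaining M₀ := by rw [hN]; rfl
  have hMT : M ∈ maxTwoLocalsContaining (T : Subgroup G) := ⟨hMmem.1, D.TX⟩
  -- another maximal 2-local over `T`
  obtain ⟨M₂, hM₂, hM₂ne⟩ : ∃ M₂ ∈ maxTwoLocalsContaining (T : Subgroup G), M₂ ≠ M := by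
    obtain ⟨M₁, M₂, h1, h2, h12⟩ := hT
    by_cases h : M₁ = M
    · exact ⟨M₂, h2, fun h' => h12 (h.trans h'.symm)⟩
    · exact ⟨M₁, h1, h⟩
  have hM₂' : M₂ ∈ calHOverNotLE (T : Subgroup G) M := by
    refine ⟨⟨pCore_ne_bot_of_twoLocal hM₂.1.1, hM₂.2⟩, fun h => hM₂ne ?_⟩
    exact (hM₂.1.2 M hMT.1.1 h).symm
  obtain ⟨H, hH⟩ : ∃ H : Subgroup G, H ∈ calHMin (T : Subgroup G) M := by
    classical
    have hfin : Set.Finite (calHOverNotLE (T : Subgroup G) M) := Set.toFinite _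
    obtain ⟨H, hH⟩ := hfin.exists_minimal ⟨M₂, hM₂'⟩
    exact ⟨H, hH.prop, fun K hK hKH => le_antisymm hKH (hH.2 hK hKH)⟩
  have hgood : ∀ B : Subgroup G, InducesElemAbelianTwoGroupOn B (Vx T X) →
      (Vx T X ⊓ centralizer (B : Set G)).relIndex (Vx T X) ≤ ((centralizer (Vx T X : Set G)).relIndex B) ^ 2 →
      Good (Vx T X) B := by
    intro B hB hidx
    refine ⟨hB.1, fun b hb => ?_, hB.2.2, ?_⟩
    · rw [← pow_two]
      exact hB.2.1 b hb
    · rw [inf_relIndex_left] at hidx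
      exact hidx
  rcases Cfsg.Agent.S1824.result hG hQ T M M₀ H (Vx T X) hMT le_sup_right (sup_le le_normalizer D.TX) hH
    (D.mem_calR2 hne) (by rw [D.pCore_eq, D.inf_centralizer hne])
    (Or.inl (by rw [D.oddGenerated_sup]; exact inf_le_right)) with h | ⟨-, h⟩ | h
  · exfalso
    obtain ⟨R₀, hR₀, hR₀Q, hR₀n⟩ := h
    have hR₀p : IsPGroup 2 R₀ := (map_pCore_isPGroup 2 M₀).to_le hR₀Q
    obtain ⟨M', hM', hle⟩ := exists_maximal_twoLocal (⟨R₀, hR₀p, hR₀, rfl⟩ : IsTwoLocal (normalizer (R₀ : Set G)))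
    have h1 : M' ∈ maxTwoLocalsContaining M₀ := ⟨hM', (le_sup_left.trans hR₀n).trans hle⟩
    rw [hN] at h1
    have h2 : M' = M := h1
    apply hH.1.2
    rw [← h2]
    exact (le_sup_right.trans hR₀n).trans hle
  · obtain ⟨B, hB, hind, -, hidx⟩ := h
    exact ⟨B, hB, hgood B hind hidx⟩
  · obtain ⟨B, hB, hind, -, hidx⟩ := h
    exact ⟨B, hB, hgood B hind hidx⟩

end Cfsg.Agent.S1852
end

private theorem dce_3e20b5ece413 : _root_.True := by
  try have : _root_.True := by simp only [_root_.Cfsg.Agent.H7.XiRep.Conf.trivOn.congr_simp]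
  try have : _root_.True := by simp only [_root_.Cfsg.Agent.H7.XiRep.ix.eq_1]
  exact _root_.True.intro
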