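import Mathlib
import Cfsg.Agent.Classification.RTwo.UThreeThree
import Cfsg.Statements.S1897
import Cfsg.Agent.LieClassical.PSLTwoSeven
import Cfsg.Agent.LieClassical.FieldTransfer
set_option linter.all false

-- part: H17/U33Table
section
/-!
An explicit homomorphism `SL_2(7) → SU_3(3)` with kernel `±1`: the table.

The image of the matrix `(a, b; c, d)` is read off from a table, and the table is checked against
right multiplication by two generators.
-/

set_option autoImplicit false

namespace Cfsg.Agent.H17.U33Table

open Matrix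
open Cfsg.Agent.Classification.RTwo.UThreeThree (K9 IsGood)

/-- The table: 36 bits for each element of `SL_2(7)`, up to the redundant entry. -/
def table : ℕ :=
  0xa11511069512099a129901252156062512a122a11a69020000101025290615112599012a9062522a2251606152511a1109611a22a9600995125210012000205120665212526092a222a22596099021a12aa11a220962000020206061a21529091a22a1100002010522a2206966021a2151152256901a1609151a21066a12151252906215990125010200001a1251209969022a11a069a115112a160625169011a1152a1251909215125660a12099a210695115221519061a10100011001a1151906522069511a21a120996602151259092a125111569011a1000100012256901150020101006091511a1a22069522066a12a2121a2156601a22a190925115290951109652211a960115099521a2100102010012512a6609062a21a1100001020909251152a210995211a19062a211511a96066012512a5225110962a2906252521099512152251606020001200096511a1112a12599096011a22a522096a229091521a21a12a260966012a21a100020002a2152106611596022590615125200101020011a69022a2512a1606125215990099a12512511069a11066a2152100210002021a66012a6091a12a21a2909152a2252209622511596021a12a990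1a215260622596022a0020202006092a2252a22096a1106652151202010000112a6601252a21a190615290925109652251196011511a521a2109996022a22512a99021a096a11a220202000021526061a25215120662a225260922522a690609252151066512a121a26062a1002200010a22a1106921a9902152a19091a21511a160921566021a010100002a12a21066690115225069522a22512521099a110965112522a290620002000122a96011a60615225199012a125069a22a110100022002a11a2606a1206651215160925269022522a21521a99060615225122a96011a2000200012522a2906a1109651151252109999012a125690115225a12a2106601010000221566021a1511a16092a19091a2069522a22a22a110690022000101a26062a1066512a1260925215122522a69021a9902155215120661526061a2020200002096a11a2212a99021a96022a2252a225260996011511a0965225111529092512a21a190612a660125020100001521a21099a22096a116092a225200202020022596022a1a215260621a12a99006652151269022522a151609252a120665122a11a2606010002200069a22a1121521a990099a125121252159902512a160611a69022a001010200906151252511069a11a2152106610002000266012a21a1a12a26099091521a2522096a2211596022512a125990096511a110200012001522516065210995122a290625296011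a22a66012512a11511a9601a19062a2a2109952190925115210000102052251109612512a660001020100099521a2111a9601155110965222511529099062a21a121a215660066a12a21a220695226091511a10020101002256901151a22a1909a225220961a29091526091a12a221a66012a002100020066a215212251159601519061a1069511522a12099a212151256602a125190969011a115010001100069a1151169022a11aa125120990102000012159901251512529062a16062511a160915111522569066021a215522a220691000020109091a22a1a21066a12200002020a11a2209699021a12a22a2259602526092a25120665216061a215209951252111a22a960511a110962516061529062522a212599012a00120002020000101022a11a6906062512a1990125215512099a12a1151106925290615111569011a9092a1251660215125a21a120995220695111a11519061000100010011000109061a1151511522069099a21a121256602152519092a111a1156902a26091a11521a2909096a22522960225115521066a2102000210012a21a6606062a11a2512a1206625215160922a69022599021521aa11069a22200010002a11069a2299021521a22a690225252151609512a120666062a11a2200010002020002100521066a21960225115096a225221521a29092a26091a112a21a6602519092a1125660215099a21a125115220699061a115100110001011a115690000000000000000000000000000000000000000000000000000000000000000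

/-- The code of the image of `(a, b; c, d)`. -/
def code (a b c d : ZMod 7) : ℕ :=
  if c = 0 then table >>> (36 * (a.val * 49 + b.val)) % 68719476736
  else table >>> (36 * (a.val * 49 + c.val * 7 + d.val)) % 68719476736

/-- The matrix with a given code. -/
def dec (k : ℕ) : Matrix (Fin 3) (Fin 3) K9 :=
  !![⟨((k % 4 : ℕ) : ZMod 3), ((k / 4 % 4 : ℕ) : ZMod 3)⟩,
     ⟨((k / 16 % 4 : ℕ) : ZMod 3), ((k / 64 % 4 : ℕ) : ZMod 3)⟩,
     ⟨((k / 256 % 4 : ℕ) : ZMod 3), ((k / 1024 % 4 : ℕ) : ZMod 3)⟩;
     ⟨((k / 4096 % 4 : ℕ) : ZMod 3), ((k / 16384 % 4 : ℕ) : ZMod 3)⟩,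
     ⟨((k / 65536 % 4 : ℕ) : ZMod 3), ((k / 262144 % 4 : ℕ) : ZMod 3)⟩,
     ⟨((k / 1048576 % 4 : ℕ) : ZMod 3), ((k / 4194304 % 4 : ℕ) : ZMod 3)⟩;
     ⟨((k / 16777216 % 4 : ℕ) : ZMod 3), ((k / 67108864 % 4 : ℕ) : ZMod 3)⟩,
     ⟨((k / 268435456 % 4 : ℕ) : ZMod 3), ((k / 1073741824 % 4 : ℕ) : ZMod 3)⟩,
     ⟨((k / 4294967296 % 4 : ℕ) : ZMod 3), ((k / 17179869184 % 4 : ℕ) : ZMod 3)⟩]

/-- The image of the generator `(1, 1; 0, 1)`. -/
def imU : Matrix (Fin 3) (Fin 3) K9 :=
  !![⟨2, 1⟩, ⟨0, 0⟩, ⟨1, 2⟩; ⟨1, 0⟩, ⟨1, 1⟩, ⟨1, 0⟩; ⟨1, 0⟩, ⟨2, 2⟩, ⟨1, 0⟩]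

/-- The image of the generator `(0, -1; 1, 0)`. -/
def imS : Matrix (Fin 3) (Fin 3) K9 :=
  !![⟨0, 0⟩, ⟨1, 2⟩, ⟨2, 1⟩; ⟨1, 1⟩, ⟨1, 0⟩, ⟨1, 0⟩; ⟨2, 2⟩, ⟨1, 0⟩, ⟨1, 0⟩]

set_option maxRecDepth 100000 in
theorem code_mul_U : ∀ a b c d : ZMod 7, a * d - b * c = 1 →
    dec (code a (a + b) c (c + d)) = dec (code a b c d) * imU := by
  decide +kernel

set_option maxRecDepth 100000 in
theorem code_mul_S : ∀ a b c d : ZMod 7, a * d - b * c = 1 →
    dec (code b (-a) d (-c)) = dec (code a b c d) * imS := by
  decide +kernel

set_option maxRecDepth 100000 in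
theorem code_good : ∀ a b c d : ZMod 7, a * d - b * c = 1 → IsGood (dec (code a b c d)) := by
  decide +kernel

set_option maxRecDepth 100000 in
theorem code_eq_one : ∀ a b c d : ZMod 7, a * d - b * c = 1 →
    dec (code a b c d) = 1 → b = 0 ∧ c = 0 ∧ a = d := by
  decide +kernel

set_option maxRecDepth 100000 in
theorem code_one : dec (code 1 0 0 1) = 1 := by
  decide +kernel

set_option maxRecDepth 100000 in
theorem code_scalar : ∀ a : ZMod 7, a * a = 1 → dec (code a 0 0 a) = 1 := by
  decide +kernel

end Cfsg.Agent.H17.U33Table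
end

-- part: S1897
section
set_option autoImplicit false
open Cfsg

namespace Cfsg.Agent.S1897

open Matrix Cfsg.Agent.H17.U33Table
open Cfsg.Agent.Classification.RTwo.UThreeThree (K9 IsGood card_k9 psuEquiv su_ext)
open Cfsg.Agent.LieClassical.PSLTwoSeven (fact7 genU genS coe_genU coe_genS det_eq up low coe_up
  coe_low genU_pow)

local notation "SL₂" => Matrix.SpecialLinearGroup (Fin 2) (ZMod 7)

/-- The homomorphism as a function. -/
def f (g : SL₂) : Matrix (Fin 3) (Fin 3) K9 := dec (code (g 0 0) (g 0 1) (g 1 0) (g 1 1))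

theorem f_def (g : SL₂) : f g = dec (code (g 0 0) (g 0 1) (g 1 0) (g 1 1)) := rfl

theorem f_mul_genU (g : SL₂) : f (g * genU) = f g * imU := by
  have h := code_mul_U _ _ _ _ (det_eq g)
  rw [f_def, f_def, ← h]
  simp [coe_genU, Matrix.SpecialLinearGroup.coe_mul, Matrix.mul_apply, Fin.sum_univ_two]

theorem f_mul_genS (g : SL₂) : f (g * genS) = f g * imS := by
  have h := code_mul_S _ _ _ _ (det_eq g)
  rw [f_def, f_def, ← h]
  simp [coe_genS, Matrix.SpecialLinearGroup.coe_mul, Matrix.mul_apply, Fin.sum_univ_two]

theorem f_one : f 1 = 1 := by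
  rw [f_def]
  simpa using code_one

/-- The subgroup of elements on which `f` is multiplicative. -/
def good : Subgroup SL₂ where
  carrier := {h | ∀ g, f (g * h) = f g * f h}
  one_mem' := by
    intro g
    rw [mul_one, f_one, mul_one]
  mul_mem' := by
    intro h k hh hk g
    rw [← mul_assoc, hk, hh, hk, mul_assoc]
  inv_mem' := by
    intro h hh g
    have h1 : f h⁻¹ * f h = 1 := by
      rw [← hh, inv_mul_cancel, f_one]
    have h2 : f h * f h⁻¹ = 1 := mul_eq_one_comm.mp h1
    calc f (g * h⁻¹) = f (g * h⁻¹) * (f h * f h⁻¹) := by rw [h2, mul_one]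
      _ = f (g * h⁻¹ * h) * f h⁻¹ := by rw [hh, mul_assoc]
      _ = f g * f h⁻¹ := by rw [inv_mul_cancel_right]

theorem mem_good {h : SL₂} : h ∈ good ↔ ∀ g, f (g * h) = f g * f h := Iff.rfl

theorem genU_mem : genU ∈ good := by
  have h : f genU = imU := by
    have := f_mul_genU 1
    rwa [one_mul, f_one, one_mul] at this
  intro g
  rw [f_mul_genU, h]

theorem genS_mem : genS ∈ good := by
  have h : f genS = imS := by
    have := f_mul_genS 1
    rwa [one_mul, f_one, one_mul] at this
  intro g
  rw [f_mul_genS, h]

theorem up_mem (x : ZMod 7) : up x ∈ good := by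
  have := fact7
  have : up x = genU ^ x.val := by rw [genU_pow, ZMod.natCast_zmod_val]
  rw [this]
  exact pow_mem genU_mem _

theorem low_mem (x : ZMod 7) : low x ∈ good := by
  have : low x * genS = genS * up (-x) := by
    ext i j
    fin_cases i <;> fin_cases j <;> simp [coe_up, coe_low, coe_genS,
      Matrix.SpecialLinearGroup.coe_mul, Matrix.mul_apply, Fin.sum_univ_two]
  have h2 : low x = genS * up (-x) * genS⁻¹ := by rw [← this, mul_inv_cancel_right]
  rw [h2]
  exact mul_mem (mul_mem genS_mem (up_mem _)) (inv_mem genS_mem)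

theorem mem_of_ne_zero (g : SL₂) (hg : g 1 0 ≠ 0) : g ∈ good := by
  have := fact7
  have hd := det_eq g
  have : g = up ((g 0 0 - 1) / g 1 0) * low (g 1 0) * up ((g 1 1 - 1) / g 1 0) := by
    ext i j
    fin_cases i <;> fin_cases j
    · simp [coe_up, coe_low, Matrix.SpecialLinearGroup.coe_mul, Matrix.mul_apply, Fin.sum_univ_two]
      field_simp
      ring
    · simp [coe_up, coe_low, Matrix.SpecialLinearGroup.coe_mul, Matrix.mul_apply, Fin.sum_univ_two]
      field_simp
      linear_combination (-1 : ZMod 7) * hd
    · simp [coe_up, coe_low, Matrix.SpecialLinearGroup.coe_mul, Matrix.mul_apply, Fin.sum_univ_two]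
    · simp [coe_up, coe_low, Matrix.SpecialLinearGroup.coe_mul, Matrix.mul_apply, Fin.sum_univ_two]
      field_simp
      ring
  rw [this]
  exact mul_mem (mul_mem (up_mem _) (low_mem _)) (up_mem _)

theorem mem_good_all (g : SL₂) : g ∈ good := by
  have := fact7
  by_cases hg : g 1 0 = 0
  · have hd := det_eq g
    have h2 : (g * genS) 1 0 ≠ 0 := by
      have : (g * genS) 1 0 = g 1 1 := by
        simp [coe_genS, Matrix.SpecialLinearGroup.coe_mul, Matrix.mul_apply, Fin.sum_univ_two]
      rw [this]
      intro h
      rw [hg, h] at hd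
      simp at hd
    have h3 := mem_of_ne_zero _ h2
    have h4 : g = g * genS * genS⁻¹ := by rw [mul_inv_cancel_right]
    rw [h4]
    exact mul_mem h3 (inv_mem genS_mem)
  · exact mem_of_ne_zero g hg

theorem f_mul (g h : SL₂) : f (g * h) = f g * f h := mem_good_all h g

theorem f_good (g : SL₂) : IsGood (f g) := code_good _ _ _ _ (det_eq g)

/-- The homomorphism `SL_2(7) → SU_3(3)`. -/
def phi : SL₂ →* Cfsg.SU 3 K9 3 where
  toFun g := (f_good g).su
  map_one' := by
    apply su_ext
    exact f_one
  map_mul' g h := by
    apply su_ext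
    exact f_mul g h

theorem coe_phi (g : SL₂) :
    ((phi g : Matrix.SpecialLinearGroup (Fin 3) K9) : Matrix (Fin 3) (Fin 3) K9) = f g := rfl

theorem phi_eq_one {g : SL₂} (h : phi g = 1) : g 0 1 = 0 ∧ g 1 0 = 0 ∧ g 0 0 = g 1 1 := by
  have h1 : f g = 1 := by rw [← coe_phi, h]; rfl
  exact code_eq_one _ _ _ _ (det_eq g) h1

theorem phi_eq_one_of {g : SL₂} (h1 : g 0 1 = 0) (h2 : g 1 0 = 0) (h3 : g 0 0 = g 1 1) :
    phi g = 1 := by
  have hd := det_eq g
  rw [h1, h2, ← h3] at hd
  have h4 : f g = 1 := by
    rw [f_def, h1, h2, ← h3]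
    exact code_scalar _ (by simpa using hd)
  apply su_ext
  exact h4

/-- The kernel of the homomorphism from `SL_2(7)` is its centre. -/
theorem ker_phi : phi.ker = Subgroup.center SL₂ := by
  ext g
  rw [MonoidHom.mem_ker, Matrix.SpecialLinearGroup.mem_center_iff]
  constructor
  · intro h
    obtain ⟨h1, h2, h3⟩ := phi_eq_one h
    have hd := det_eq g
    rw [h1, h2, ← h3] at hd
    refine ⟨g 0 0, ?_, ?_⟩
    · simp only [Fintype.card_fin]
      rw [sq]
      simpa using hd
    · ext i j
      fin_cases i <;> fin_cases j <;> simp [h1, h2, h3]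
  · rintro ⟨r, -, hr⟩
    have : ∀ i j, g i j = (Matrix.scalar (Fin 2) r) i j := by
      intro i j; rw [hr]
    exact phi_eq_one_of (by simp [this]) (by simp [this]) (by simp [this])

/-- The projective special unitary group PSU₃(3) (realised over the field with 9 elements) has a subgroup isomorphic to PSL₂(7). -/
theorem result {F : Type*} [Field F] [Fintype F] (hF : Fintype.card F = 9)
    {K : Type*} [Field K] [Fintype K] (hK : Fintype.card K = 7) :
    ∃ H : Subgroup (Cfsg.PSU 3 F 3), Nonempty (H ≃* Matrix.ProjectiveSpecialLinearGroup (Fin 2) K) := by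
  have := fact7
  let e : ZMod 7 ≃+* K := ZMod.ringEquivOfPrime K (by norm_num) hK
  obtain ⟨d⟩ : Nonempty (F ≃+* K9) := ⟨FiniteField.ringEquivOfCardEq (by rw [hF, card_k9])⟩
  let D : Cfsg.PSU 3 F 3 ≃* Cfsg.SU 3 K9 3 :=
    (psuEquiv hF).trans (LieClassical.FieldTransfer.suCongr 3 3 d)
  let g : SL₂ →* Cfsg.PSU 3 F 3 := D.symm.toMonoidHom.comp phi
  have hker : g.ker = Subgroup.center SL₂ := by
    rw [← ker_phi]
    ext x
    rw [MonoidHom.mem_ker, MonoidHom.mem_ker]
    change D.symm (phi x) = 1 ↔ _
    rw [MulEquiv.map_eq_one_iff]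
  refine ⟨g.range, ⟨?_⟩⟩
  refine (QuotientGroup.quotientKerEquivRange g).symm.trans ?_
  refine (QuotientGroup.quotientMulEquivOfEq hker).trans ?_
  exact LieClassical.FieldTransfer.pslCongr e

end Cfsg.Agent.S1897
end
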