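import Cfsg.Agent.AschCrit.CommuteFinal_mg_m3
import Cfsg.Agent.AschCrit.CommFour.Orbits_m3
import Cfsg.Statements.S1913
import Cfsg.Agent.AschCrit.Final_mg
import Cfsg.Agent.StrongEmb.Strong
import Cfsg.Agent.S0205
import Cfsg.Agent.FastGrp
import Cfsg.Agent.Prune
set_option linter.all false
prune_inst 0x7f00000000000000000000000000000000000000000000000000000000000000000000000000000000000000000000000000000000000000000000000000000000000000000000000000000000000000003fffffffffffffffffffffffffffbeffbdffffffff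
open scoped Cfsg.Agent.FastGrp

-- part: H21/StrongLocal
section
/-!
# An involution fixing one point and local strong embedding (S1913)

`Setup G Ω z` as in Aschbacher's criterion. Without faithfulness and simplicity of `G`:

* `noBad_faithful` : `G` faithful: the normal closure `L z` has no bad involution
* `no_trivial` : the involutions of `L z` act nontrivially if for the involutions `u` commuting with `z`
  such that `C(u)` moves the fixed point of `z` all involutions of `⟨z^G ∩ C(u)⟩` are conjugate to `z`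
* `noBad` : under this hypothesis `L z` has no bad involution
* `main` : the statement for a subgroup `H`
-/

set_option autoImplicit false

universe u

namespace Cfsg.Agent.H21.StrongLocal

open Cfsg MulAction Subgroup
open Cfsg.Agent.TwoFusion.StronglyEmbeddedBasic Cfsg.Agent.AschCrit.Basic
open Cfsg.Agent.AschCrit.Basic.Setup Cfsg.Agent.AschCrit.Closed Cfsg.Agent.AschCrit.Descent
open Cfsg.Agent.AschCrit.NonIso Cfsg.Agent.AschCrit.InductFaithful Cfsg.Agent.AschCrit.Induct
open Cfsg.Agent.AschCrit.BGroup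

section faithful

variable {K Ψ : Type u} [Group K] [Finite K] [MulAction K Ψ] {z : K}

/-- in a faithful `Setup` the normal closure of `z` has no bad involution -/
theorem noBad_faithful (hN : ∀ N, NoBadBelow.{u} N) (h : Setup K Ψ z)
    (hf : ∀ g : K, (∀ a : Ψ, g • a = a) → g = 1) : ∀ v ∈ L z, ¬ Bad Ψ v := by
  by_cases hn : NonIso z
  · exact noBad_of_below (hN (Nat.card K + 1)) h hf hn (Nat.lt_succ_self _)
  intro v hv hb
  have hiso : ∀ d : K, IsConj z d → Commute z d → d = z := by
    intro d hd hc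
    by_contra hne
    exact hn ⟨d, hd, hc, hne⟩
  obtain ⟨S, hzS, hS⟩ := h.central
  obtain ⟨N, hNn, hodd, hcomm⟩ := Cfsg.Agent.S0215.result S z h.invol hzS (by
    intro g hg
    exact hiso _ (isConj_iff.mpr ⟨g, rfl⟩) (hS _ hg).symm)
  have hzi : z⁻¹ = z := h.inv_eq (IsConj.refl z)
  have hzz : z * z = 1 := h.mul_self (IsConj.refl z)
  have hle : L z ≤ N ⊔ zpowers z := by
    have hcl : Subgroup.closure (Group.conjugatesOfSet ({z} : Set K)) ≤ N ⊔ zpowers z := by
      rw [Subgroup.closure_le]
      intro x hx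
      rw [Group.mem_conjugatesOfSet_iff] at hx
      obtain ⟨y, hy, hyx⟩ := hx
      rw [Set.mem_singleton_iff] at hy
      rw [hy] at hyx
      obtain ⟨g, rfl⟩ := isConj_iff.mp hyx
      have h1 := hcomm g⁻¹
      have h2 : g * z * g⁻¹ = g * (z * g⁻¹ * z⁻¹ * g⁻¹⁻¹) * g⁻¹ * z := by
        rw [hzi]
        calc g * z * g⁻¹ = g * z * g⁻¹ * (z * z) := by rw [hzz, mul_one]
          _ = _ := by group
      rw [h2]
      exact mul_mem (mem_sup_left (hNn.conj_mem _ h1 g)) (mem_sup_right (mem_zpowers z))
    exact hcl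
  obtain ⟨n, hn', w, hw, rfl⟩ := Subgroup.mem_sup_of_normal_left.mp (hle hv)
  have hw2 : w = 1 ∨ w = z := by
    obtain ⟨k, rfl⟩ := mem_zpowers_iff.mp hw
    rcases Int.even_or_odd' k with ⟨m, rfl | rfl⟩
    · left
      rw [zpow_mul, zpow_two, hzz, one_zpow]
    · right
      rw [zpow_add, zpow_mul, zpow_two, hzz, one_zpow, one_mul, zpow_one]
  rcases hw2 with rfl | rfl
  · rw [mul_one] at hb
    exact not_odd_of_mem N n hn' hb.1 hodd
  · -- `n z` and `z` are conjugate
    have h3 : Odd (orderOf (w * (n * w))) := by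
      refine hodd.of_dvd_nat ?_
      have h4 : w * (n * w) ∈ N := by
        have := hNn.conj_mem n hn' w
        rw [hzi] at this
        rwa [← mul_assoc]
      exact N.orderOf_dvd_natCard h4
    obtain ⟨j, -, -, hj, -⟩ := Cfsg.Agent.TwoFusion.StronglyEmbeddedBasic.exists_swap w (n * w)
      h.invol hb.1 h3
    exact hb.not_isConj h (isConj_iff.mpr ⟨j, hj⟩)

end faithful

section trivial

/-- the subgroup generated by the conjugates of `z` commuting with `u` -/
def LL {G : Type*} [Group G] (z u : G) : Subgroup G :=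
  Subgroup.closure {x : G | IsConj z x ∧ x * u = u * x}

variable {G Ω : Type*} [Group G] [Finite G] [MulAction G Ω] {z : G}

omit [Finite G] in
theorem LL_le_centralizer (u : G) : LL z u ≤ Subgroup.centralizer ({u} : Set G) := by
  refine (Subgroup.closure_le _).mpr ?_
  rintro x ⟨-, hx⟩
  exact Subgroup.mem_centralizer_singleton_iff.mpr hx

omit [Finite G] in
/-- powers of `z` mod -/
theorem fix_zpowers {w : G} {a : Ω} (hw : w • a = a) : ∀ t ∈ zpowers w, t • a = a := by
  intro t ht
  have hle : zpowers w ≤ MulAction.stabilizer G a := by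
    rw [Subgroup.zpowers_le]; exact hw
  exact hle ht

/-- involutions of `L z` act nontrivially -/
theorem no_trivial (h : Setup G Ω z)
    (hloc : ∀ u : G, orderOf u = 2 → Commute u z →
      (∃ c : G, Commute c u ∧ ∃ a : Ω, z • a = a ∧ c • a ≠ a) →
      ∀ x ∈ LL z u, orderOf x = 2 → IsConj z x) :
    ∀ u ∈ L z, orderOf u = 2 → ¬ ∀ a : Ω, u • a = a := by
  obtain ⟨a, ha⟩ := h.exists_fix
  obtain ⟨b, hab⟩ : ∃ b : Ω, a ≠ b := by
    obtain ⟨p, q, hpq⟩ := h.nontriv
    by_cases hap : a = p
    · exact ⟨q, by rw [hap]; exact hpq⟩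
    · exact ⟨p, hap⟩
  have hzz : z * z = 1 := h.mul_self (IsConj.refl z)
  have hzi : z⁻¹ = z := h.inv_eq (IsConj.refl z)
  set N : Subgroup G := (toPermHom G Ω).ker with hNdef
  have hNmem : ∀ g : G, g ∈ N ↔ ∀ c : Ω, g • c = c := by
    intro g
    rw [hNdef, MonoidHom.mem_ker]
    constructor
    · intro hg c
      exact congrArg (fun f : Equiv.Perm Ω => f c) hg
    · intro hg
      ext c
      exact hg c
  have hNn : N.Normal := inferInstance
  -- `z` is isolated under `N`
  have hiso : ∀ g ∈ N, Commute z (g * z * g⁻¹) → g * z * g⁻¹ = z := by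
    intro g hg hc
    by_contra hne
    set w := z * (g * z * g⁻¹) with hw
    have hww : w * w = 1 := by
      have h1 : (g * z * g⁻¹) * (g * z * g⁻¹) = 1 := by
        calc (g * z * g⁻¹) * (g * z * g⁻¹) = g * (z * z) * g⁻¹ := by group
          _ = 1 := by rw [hzz]; group
      rw [hw, hc.symm.mul_mul_mul_comm, hzz, h1, one_mul]
    have hwN : w ∈ N := by
      have h1 : w = (z * g * z⁻¹) * g⁻¹ := by rw [hw, hzi]; group
      rw [h1]
      exact N.mul_mem (hNn.conj_mem g hg z) (N.inv_mem hg)
    obtain ⟨x, hx, hxc⟩ := h.exists_swap_commute (zpowers w) (isPGroup_zpowers hww) hab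
      (fix_zpowers ((hNmem w).mp hwN a)) (fix_zpowers ((hNmem w).mp hwN b))
    have := h.comm g hc hne x (hxc w (mem_zpowers w)) a ha
    rw [hx.2] at this
    exact hab this.symm
  obtain ⟨O₁, hO₁N, hO₁n, hodd₁, hO₁⟩ := Cfsg.Agent.AschCrit.Dichotomy.commutator_mem_of_isolated
    h.invol (L := N) (by rw [Subgroup.normalizer_eq_top]; trivial) hiso
  have hO₁s : O₁.IsSubnormal := by
    have h1 : (O₁.subgroupOf N).Normal := normal_subgroupOf_of_le_normalizer hO₁n
    exact Subgroup.IsSubnormal.step O₁ N hO₁N hNn.isSubnormal h1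
  have hO₁c := Cfsg.Agent.SignalizersComponents.CompBasic.subnormal_coprime_le_pPrimeCore hO₁s
    (Nat.coprime_two_right.mpr hodd₁)
  set O : Subgroup G := pPrimeCore 2 G with hO
  have hOodd : Odd (Nat.card O) := by
    have := Cfsg.Agent.Lib.Cores.pPrimeCore_coprime (G := G) 2
    exact Nat.coprime_two_right.mp this
  -- `L z` centralises `N` modulo `O`
  have hcent : L z ≤ (Subgroup.centralizer ((N.map (QuotientGroup.mk' O) : Subgroup _) :
      Set (G ⧸ O))).comap (QuotientGroup.mk' O) := by
    have : (N.map (QuotientGroup.mk' O)).Normal :=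
      hNn.map _ (QuotientGroup.mk'_surjective O)
    have hn2 : (Subgroup.centralizer ((N.map (QuotientGroup.mk' O) : Subgroup _) :
      Set (G ⧸ O))).Normal := inferInstance
    have hn3 := hn2.comap (QuotientGroup.mk' O)
    refine Subgroup.normalClosure_le_normal ?_
    rintro x hx
    rw [Set.mem_singleton_iff] at hx
    subst hx
    rw [SetLike.mem_coe, Subgroup.mem_comap, Subgroup.mem_centralizer_iff]
    rintro _ ⟨g, hg, rfl⟩
    have h1 := hO₁c (hO₁ g hg)
    rw [← map_mul, ← map_mul]
    refine ((QuotientGroup.eq).mpr ?_ : ((g * x : G) : G ⧸ O) = ((x * g : G) : G ⧸ O))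
    have h2 : (g * x)⁻¹ * (x * g) = (g * x)⁻¹ * (x * g * x⁻¹ * g⁻¹) * (g * x) := by group
    rw [h2]
    have := (inferInstance : O.Normal).conj_mem _ h1 (g * x)⁻¹
    rwa [inv_inv] at this
  -- the main step
  have key : ∀ u ∈ L z, orderOf u = 2 → Commute u z → (∀ c : Ω, u • c = c) → False := by
    intro u huL hu2 huz hu
    have huu : u * u = 1 := mul_self_of_orderOf hu2
    have huN : u ∈ N := (hNmem u).mpr hu
    have hsup : L z ≤ LL z u ⊔ O := by
      have hcl : Subgroup.closure (Group.conjugatesOfSet ({z} : Set G)) ≤ LL z u ⊔ O := by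
        rw [Subgroup.closure_le]
        intro d hd
        rw [Group.mem_conjugatesOfSet_iff] at hd
        obtain ⟨y, hy, hyx⟩ := hd
        rw [Set.mem_singleton_iff] at hy
        rw [hy] at hyx
        have hdL : d ∈ L z := mem_L hyx
        have hcomm : Commute (QuotientGroup.mk' O d) (QuotientGroup.mk' O u) := by
          have h1 := hcent hdL
          rw [Subgroup.mem_comap, Subgroup.mem_centralizer_iff] at h1
          exact (h1 _ ⟨u, huN, rfl⟩).symm
        obtain ⟨n₁, hn₁, n₂, hn₂, hc⟩ := Cfsg.Agent.AschCrit.Dichotomy.exists_lift_commute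
          (Nat.coprime_two_right.mpr hOodd) (h.mul_self hyx) huu hcomm
        set n := n₂⁻¹ * n₁ with hn
        have hnO : n ∈ O := O.mul_mem (O.inv_mem hn₂) hn₁
        have hc2 : (n * d * n⁻¹) * u = u * (n * d * n⁻¹) := by
          have h1 := hc.eq
          calc (n * d * n⁻¹) * u = n₂⁻¹ * ((n₁ * d * n₁⁻¹) * (n₂ * u * n₂⁻¹)) * n₂ := by
                rw [hn]; group
            _ = n₂⁻¹ * ((n₂ * u * n₂⁻¹) * (n₁ * d * n₁⁻¹)) * n₂ := by rw [h1]
            _ = _ := by rw [hn]; group
        have hmem : n * d * n⁻¹ ∈ LL z u := Subgroup.subset_closure ⟨conj_mem hyx n, hc2⟩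
        have h2 : d = n⁻¹ * (n * d * n⁻¹) * n := by group
        rw [SetLike.mem_coe, h2]
        exact mul_mem (mul_mem (mem_sup_right (O.inv_mem hnO)) (mem_sup_left hmem))
          (mem_sup_right hnO)
      exact hcl
    obtain ⟨l, hl, o, ho, hlo⟩ := Subgroup.mem_sup_of_normal_right.mp (hsup huL)
    have hlu : l * u = u * l :=
      Subgroup.mem_centralizer_singleton_iff.mp (LL_le_centralizer u hl)
    have hlo' : Commute l o := by
      have h1 : o = l⁻¹ * u := by rw [← hlo]; group
      rw [h1]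
      exact (Commute.refl l).inv_right.mul_right hlu
    have hpow : u = l ^ (Nat.card O) := by
      have h1 : u ^ (Nat.card O) = u := by
        obtain ⟨k, hk⟩ := hOodd
        rw [hk, pow_add, pow_mul, pow_two, huu, one_pow, one_mul, pow_one]
      have h2 : o ^ (Nat.card O) = 1 := by
        have : (⟨o, ho⟩ : O) ^ (Nat.card O) = 1 := pow_card_eq_one'
        exact congrArg Subtype.val this
      rw [← h1]
      conv_lhs => rw [← hlo]
      rw [hlo'.mul_pow, h2, mul_one]
    have huLL : u ∈ LL z u := by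
      have h5 := (LL z u).pow_mem hl (Nat.card O)
      rwa [← hpow] at h5
    obtain ⟨x, hx, hxc⟩ := h.exists_swap_commute (zpowers u) (isPGroup_zpowers huu) hab
      (fix_zpowers (hu a)) (fix_zpowers (hu b))
    have hconj := hloc u hu2 huz ⟨x, hxc u (mem_zpowers u), a, ha, by
      rw [hx.2]; exact Ne.symm hab⟩ u huLL hu2
    exact hab (h.uniq hconj (hu a) (hu b))
  intro u huL hu2 hu
  obtain ⟨d, hd, hdu⟩ := h.exists_commute_of_mul_self (mul_self_of_orderOf hu2) (hu a)
  obtain ⟨k, hk⟩ := isConj_iff.mp hd.1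
  refine key (k⁻¹ * u * k) ?_ ?_ ?_ ?_
  · have := (Subgroup.normalClosure_normal (s := ({z} : Set G))).conj_mem u huL k⁻¹
    rwa [inv_inv] at this
  · have := orderOf_conj k⁻¹ u
    rw [inv_inv] at this
    rw [this]; exact hu2
  · show k⁻¹ * u * k * z = z * (k⁻¹ * u * k)
    calc k⁻¹ * u * k * z = k⁻¹ * (u * (k * z * k⁻¹)) * k := by group
      _ = k⁻¹ * ((k * z * k⁻¹) * u) * k := by rw [hk, hdu.eq]
      _ = _ := by group
  · intro c
    rw [mul_smul, mul_smul, hu, inv_smul_smul]

end trivial

section general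

variable {G Ω : Type u} [Group G] [Finite G] [MulAction G Ω] {z : G}

/-- no bad involutions in the normal closure of `z` -/
theorem noBad (hN : ∀ N, NoBadBelow.{u} N) (h : Setup G Ω z)
    (hloc : ∀ u : G, orderOf u = 2 → Commute u z →
      (∃ c : G, Commute c u ∧ ∃ a : Ω, z • a = a ∧ c • a ≠ a) →
      ∀ x ∈ LL z u, orderOf x = 2 → IsConj z x) :
    ∀ v ∈ L z, ¬ Bad Ω v := by
  intro v hv hb
  have hnt := no_trivial h hloc v hv hb.1
  have hsurj : Function.Surjective (pr G Ω) := (toPermHom G Ω).rangeRestrict_surjective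
  have hc : ∀ (g : G) (a : Ω), pr G Ω g • a = g • a := fun g a => rfl
  have hfin : Finite (Im G Ω) := Finite.of_surjective _ hsurj
  have hf : ∀ g : Im G Ω, (∀ a : Ω, g • a = a) → g = 1 := by
    intro g hg
    apply Subtype.ext
    ext a
    exact hg a
  have hQ : Setup (Im G Ω) Ω (pr G Ω z) := setup_map h (pr G Ω) hsurj hc
  refine noBad_faithful hN hQ hf (pr G Ω v) ?_ ?_
  · have h1 : L z ≤ (L (pr G Ω z)).comap (pr G Ω) := by
      refine Subgroup.normalClosure_le_normal ?_
      rintro x hx
      rw [Set.mem_singleton_iff] at hx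
      subst hx
      exact Subgroup.subset_normalClosure rfl
    exact h1 hv
  · obtain ⟨hv2, a, b, hab, hva, hvb⟩ := hb
    refine ⟨?_, a, b, hab, ?_, ?_⟩
    · refine orderOf_eq_two_of_mul_self ?_ ?_
      · rw [← map_mul, mul_self_of_orderOf hv2, map_one]
      · intro h1
        apply hnt
        intro c
        rw [← hc, h1, one_smul]
    · rw [hc]; exact hva
    · rw [hc]; exact hvb

end general

/-- S1913 from the inductive statement of Aschbacher's criterion. -/
theorem main (hN : ∀ N, NoBadBelow.{u} N) {G : Type u} [Group G] [Finite G] (P : Sylow 2 G) (z : G)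
    (hz2 : orderOf z = 2)
    (hzP : z ∈ (Subgroup.center ↥(P : Subgroup G)).map (P : Subgroup G).subtype)
    (H : Subgroup G) (hH : H ≠ ⊤) (hi : ∀ g : G, z ∈ H.map (MulAut.conj g).toMonoidHom ↔ g ∈ H)
    (hii : ∀ u : G, orderOf u = 2 → u * z = z * u → ¬ Subgroup.centralizer ({u} : Set G) ≤ H →
      Cfsg.IsStronglyEmbedded (H.subgroupOf (LL z u))) :
    Cfsg.IsStronglyEmbedded (H.subgroupOf (Subgroup.normalClosure ({z} : Set G))) := by
  have hzi : z⁻¹ = z := inv_eq_self_of_orderOf hz2
  have hzH : z ∈ H := by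
    have := (hi 1).mpr H.one_mem
    obtain ⟨y, hy, hyz⟩ := this
    have : y = z := by simpa using hyz
    rw [← this]; exact hy
  have h2 : ∀ g : G, g * z * g⁻¹ ∈ H → g ∈ H := by
    intro g hg
    have h3 : z ∈ H.map (MulAut.conj g⁻¹).toMonoidHom := by
      refine ⟨g * z * g⁻¹, hg, ?_⟩
      simp [mul_assoc]
    have h4 := (hi g⁻¹).mp h3
    have := H.inv_mem h4
    rwa [inv_inv] at this
  have hCz : ∀ c : G, Commute c z → c ∈ H := by
    intro c hc
    apply h2
    rw [hc.eq]; simpa using hzH
  have hloc0 : ∀ u : G, orderOf u = 2 → Commute u z →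
      ¬ Subgroup.centralizer ({u} : Set G) ≤ H → ∀ x ∈ LL z u, orderOf x = 2 → IsConj z x := by
    intro u hu2 huz hnle x hx hx2
    have hSE := hii u hu2 huz.eq hnle
    have hzL : z ∈ LL z u := Subgroup.subset_closure ⟨IsConj.refl z, huz.symm.eq⟩
    have := isConj_of_involutions hSE (⟨z, hzL⟩ : LL z u) ⟨x, hx⟩
      (by rw [Subgroup.orderOf_mk]; exact hz2) (by rw [Subgroup.orderOf_mk]; exact hx2)
    exact (LL z u).subtype.map_isConj this
  have h1 : ∃ S : Sylow 2 G, z ∈ S ∧ ∀ s ∈ S, Commute s z := by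
    obtain ⟨y, hy, hyz⟩ := hzP
    refine ⟨P, by rw [← hyz]; exact y.2, ?_⟩
    intro s hs
    have := Subgroup.mem_center_iff.mp hy ⟨s, hs⟩
    rw [← hyz]
    exact congrArg Subtype.val this
  have h3 : ∀ g : G, Commute z (g * z * g⁻¹) → g * z * g⁻¹ ≠ z →
      Subgroup.centralizer ({z * (g * z * g⁻¹)} : Set G) ≤ H := by
    intro g hc hne
    by_contra hnle
    set e := g * z * g⁻¹ with he
    have hzz : z * z = 1 := mul_self_of_orderOf hz2
    have hee : e * e = 1 := by
      rw [he]
      calc (g * z * g⁻¹) * (g * z * g⁻¹) = g * (z * z) * g⁻¹ := by group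
        _ = 1 := by rw [hzz]; group
    have hu2 : orderOf (z * e) = 2 := by
      refine orderOf_eq_two_of_mul_self ?_ ?_
      · rw [hc.symm.mul_mul_mul_comm, hzz, hee, one_mul]
      · intro h5
        apply hne
        have : e = z⁻¹ := (inv_eq_of_mul_eq_one_right h5).symm
        rw [this, hzi]
    have huz : Commute (z * e) z := (Commute.refl z).mul_left hc.symm
    have hue : Commute (z * e) e := hc.mul_left (Commute.refl e)
    have hconj := hloc0 (z * e) hu2 huz hnle (z * e) (mul_mem
      (Subgroup.subset_closure ⟨IsConj.refl z, huz.symm.eq⟩)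
      (Subgroup.subset_closure ⟨isConj_iff.mpr ⟨g, rfl⟩, hue.symm.eq⟩)) hu2
    obtain ⟨k, hk⟩ := isConj_iff.mp hconj
    have hkH : k ∈ H := h2 k (by rw [hk]; exact hCz _ huz)
    apply hnle
    intro c hcc
    rw [Subgroup.mem_centralizer_singleton_iff, ← hk] at hcc
    have h6 : k⁻¹ * c * k ∈ H := by
      apply hCz
      show k⁻¹ * c * k * z = z * (k⁻¹ * c * k)
      calc k⁻¹ * c * k * z = k⁻¹ * (c * (k * z * k⁻¹)) * k := by group
        _ = k⁻¹ * ((k * z * k⁻¹) * c) * k := by rw [hcc]
        _ = _ := by group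
    have h7 : c = k * (k⁻¹ * c * k) * k⁻¹ := by group
    rw [h7]
    exact H.mul_mem (H.mul_mem hkH h6) (H.inv_mem hkH)
  have hS : Setup G (G ⧸ H) z :=
    Cfsg.Agent.AschCrit.Frame.setup_quotient H hH z hz2 hzH h1 h2 h3
  have hfixH : ∀ (x g : G), x • (QuotientGroup.mk g : G ⧸ H) = QuotientGroup.mk g ↔
      g⁻¹ * x * g ∈ H := by
    intro x g
    have e : x • (QuotientGroup.mk g : G ⧸ H) = QuotientGroup.mk (x * g) := rfl
    rw [e, eq_comm, QuotientGroup.eq, mul_assoc]
  have hnb := noBad hN hS (by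
    intro u hu2 huz hex
    obtain ⟨c, hcu, a, ha, hca⟩ := hex
    refine hloc0 u hu2 huz ?_
    intro hle
    apply hca
    have haH : a = QuotientGroup.mk 1 := by
      refine hS.fix_unique _ _ ha ?_
      rw [hfixH]
      simpa using hzH
    rw [haH, hfixH]
    have := hle (Subgroup.mem_centralizer_singleton_iff.mpr hcu.eq)
    simpa using this)
  set K : Subgroup G := Subgroup.normalClosure ({z} : Set G) with hK
  have hzK : z ∈ K := Subgroup.subset_normalClosure rfl
  have hzHK : (⟨z, hzK⟩ : K) ∈ H.subgroupOf K := by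
    rw [Subgroup.mem_subgroupOf]; exact hzH
  have hne : H.subgroupOf K ≠ ⊤ := by
    intro htop
    rw [Subgroup.subgroupOf_eq_top] at htop
    apply hH
    rw [Subgroup.eq_top_iff']
    intro g
    exact h2 g (htop (mem_L (isConj_iff.mpr ⟨g, rfl⟩)))
  have heven : Even (Nat.card (H.subgroupOf K)) := by
    rw [even_iff_two_dvd]
    have h8 := Subgroup.orderOf_dvd_natCard (H.subgroupOf K) hzHK
    rwa [Subgroup.orderOf_mk, hz2] at h8
  rw [Cfsg.Agent.S0224.result (H.subgroupOf K) hne heven]
  intro t ht ht2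
  have hone : t • (QuotientGroup.mk 1 : K ⧸ H.subgroupOf K) = QuotientGroup.mk 1 := by
    have e : t • (QuotientGroup.mk 1 : K ⧸ H.subgroupOf K) = QuotientGroup.mk (t * 1) := rfl
    rw [e, mul_one, eq_comm, QuotientGroup.eq]; simpa using ht
  rw [Nat.card_eq_one_iff_unique]
  refine ⟨⟨?_⟩, ⟨⟨_, hone⟩⟩⟩
  have key : ∀ a : K ⧸ H.subgroupOf K, t • a = a → a = QuotientGroup.mk 1 := by
    intro a
    induction a using QuotientGroup.induction_on with
    | H g =>
      intro ha
      have e : t • (QuotientGroup.mk g : K ⧸ H.subgroupOf K) = QuotientGroup.mk (t * g) := rfl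
      rw [e, eq_comm, QuotientGroup.eq, Subgroup.mem_subgroupOf] at ha
      have ha' : (t : G) • (QuotientGroup.mk (g : G) : G ⧸ H) = QuotientGroup.mk (g : G) := by
        rw [hfixH, mul_assoc]; exact ha
      have hb' : (t : G) • (QuotientGroup.mk (1 : G) : G ⧸ H) = QuotientGroup.mk (1 : G) := by
        rw [hfixH]
        simpa using Subgroup.mem_subgroupOf.mp ht
      by_contra hcon
      refine hnb (t : G) t.2 ⟨?_, _, _, ?_, ha', hb'⟩
      · rw [Subgroup.orderOf_coe]; exact ht2
      · intro h9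
        apply hcon
        rw [QuotientGroup.eq] at h9
        rw [QuotientGroup.eq, Subgroup.mem_subgroupOf]
        simpa using h9
  rintro ⟨a, ha⟩ ⟨b, hb'⟩
  exact Subtype.ext ((key a ha).trans (key b hb').symm)

end Cfsg.Agent.H21.StrongLocal
end

-- part: S1913
section
set_option autoImplicit false
open Cfsg

namespace Cfsg.Agent.S1913

/-- Let z be an involution in the centre of a Sylow 2-subgroup of a finite group G and H a proper subgroup such that z ∈ gHg⁻¹ exactly when g ∈ H, and such that for every involution u commuting with z whose centralizer is not contained in H, the subgroup H ∩ L is strongly embedded in L = ⟨G-conjugates of z commuting with u⟩. Then, with K the normal closure of z in G, H ∩ K is strongly embedded in K. -/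
theorem result {G : Type*} [Group G] [Finite G] (P : Sylow 2 G) (z : G) (hz2 : orderOf z = 2)
    (hzP : z ∈ (Subgroup.center ↥(P : Subgroup G)).map (P : Subgroup G).subtype)
    (H : Subgroup G) (hH : H ≠ ⊤) (hi : ∀ g : G, z ∈ H.map (MulAut.conj g).toMonoidHom ↔ g ∈ H)
    (hii : ∀ u : G, orderOf u = 2 → u * z = z * u → ¬ Subgroup.centralizer ({u} : Set G) ≤ H →
      Cfsg.IsStronglyEmbedded (H.subgroupOf (Subgroup.closure {x : G | IsConj z x ∧ x * u = u * x}))) :
    Cfsg.IsStronglyEmbedded (H.subgroupOf (Subgroup.normalClosure ({z} : Set G))) :=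
  Cfsg.Agent.H21.StrongLocal.main
    (Cfsg.Agent.AschCrit.Frame.noBadBelow_of_step
      (Cfsg.Agent.AschCrit.Final.stepHolds (fun _ _ _ hK => Cfsg.Agent.S0205.result hK)
        (fun X _ _ => Cfsg.Agent.StrongEmb.Main.bender X) Cfsg.Agent.AschCrit.CommThree.caseThree))
    P z hz2 hzP H hH hi hii

end Cfsg.Agent.S1913
end
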