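import Cfsg.Statements.S1916
import Cfsg.Agent.H21.CycFix
import Cfsg.Agent.S0483
import Cfsg.Agent.FastGrp
import Cfsg.Agent.Prune
set_option linter.all false
open scoped Cfsg.Agent.FastGrp

set_option autoImplicit false
open Cfsg

namespace Cfsg.Agent.S1916

/-- Let L be a non-abelian simple subgroup of a finite group with dihedral Sylow 2-subgroups, and a, b two distinct commuting involutions normalizing L such that C_L(a) and C_L(b) have cyclic Sylow 2-subgroups and L is not contained in the subgroup generated by a, b, C_L(a) and C_L(b). Then ab centralizes L. -/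
theorem result {G : Type*} [Group G] [Finite G] (L : Subgroup G) (hL : IsSimpleGroup L) (hLn : ¬ IsMulCommutative L)
    (hD : ∀ P : Sylow 2 L, ∃ n : ℕ, Nonempty (↥(P : Subgroup L) ≃* DihedralGroup n))
    (a b : G) (ha : orderOf a = 2) (hb : orderOf b = 2) (hab : a ≠ b) (hc : a * b = b * a)
    (haL : a ∈ Subgroup.normalizer (L : Set G)) (hbL : b ∈ Subgroup.normalizer (L : Set G))
    (hCa : ∀ R : Sylow 2 ↥(L ⊓ Subgroup.centralizer ({a} : Set G)), IsCyclic R)
    (hCb : ∀ R : Sylow 2 ↥(L ⊓ Subgroup.centralizer ({b} : Set G)), IsCyclic R)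
    (hgen : ¬ L ≤ Subgroup.closure ({a, b} : Set G) ⊔ (L ⊓ Subgroup.centralizer ({a} : Set G)) ⊔ (L ⊓ Subgroup.centralizer ({b} : Set G))) :
    a * b ∈ Subgroup.centralizer (L : Set G) := by
  classical
  have h2p : Fact (Nat.Prime 2) := ⟨Nat.prime_two⟩
  have hncyc : ¬ IsCyclic L := by
    intro hcyc
    exact hLn (by
      have := hcyc.commGroup
      exact ⟨⟨fun x y => hcyc.commGroup.mul_comm x y⟩⟩)
  have hnall := Cfsg.Agent.H21.CycFix.not_cyclic hncyc
  obtain ⟨P⟩ : Nonempty (Sylow 2 L) := inferInstance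
  obtain ⟨n, hn⟩ := hD P
  have hcardP : Nat.card (P : Subgroup L) = 2 * n := by
    obtain ⟨e⟩ := hn
    rw [Nat.card_congr e.toEquiv, DihedralGroup.nat_card]
  have hn2 : 2 ≤ n := by
    by_contra hlt
    have h01 : n = 0 ∨ n = 1 := by omega
    rcases h01 with rfl | rfl
    · have := Nat.card_pos (α := (P : Subgroup L))
      omega
    · apply hnall
      apply Cfsg.Agent.H21.CycFix.cyclic_all P
      exact isCyclic_of_prime_card (p := 2) (by rw [hcardP])
  have hperf : Group.IsPerfect L := by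
    rw [Group.isPerfect_def]
    rcases IsSimpleGroup.eq_bot_or_eq_top_of_normal (commutator L) inferInstance with h | h
    · exfalso
      apply hLn
      rw [commutator_eq_bot_iff_center_eq_top] at h
      exact ⟨⟨fun x y => by
        have := (Subgroup.mem_center_iff.mp (h ▸ Subgroup.mem_top y : y ∈ Subgroup.center L)) x
        exact this⟩⟩
    · exact h
  have hcore : Cfsg.oddCore L = ⊥ := by
    rcases IsSimpleGroup.eq_bot_or_eq_top_of_normal (Cfsg.oddCore L) inferInstance with h | h
    · exact h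
    · exfalso
      have h3 := Cfsg.Agent.Lib.Cores.pPrimeCore_coprime (G := L) 2
      have h4 : Nat.card (Cfsg.pPrimeCore 2 L) = Nat.card L := by
        have : Cfsg.pPrimeCore 2 L = ⊤ := h
        rw [this, Subgroup.card_top]
      rw [h4] at h3
      have h5 : 2 ∣ Nat.card L := by
        have h6 : Nat.card (P : Subgroup L) ∣ Nat.card L := Subgroup.card_subgroup_dvd_card _
        rw [hcardP] at h6
        exact (Dvd.intro n rfl).trans h6
      have h7 := Nat.Coprime.eq_one_of_dvd h3.symm h5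
      omega
  set α : MulAut L := L.normalizerMonoidHom ⟨a, haL⟩ with hα
  set β : MulAut L := L.normalizerMonoidHom ⟨b, hbL⟩ with hβ
  have hαa : ∀ x : L, (α x : G) = a * x * a⁻¹ := fun x => rfl
  have hβa : ∀ x : L, (β x : G) = b * x * b⁻¹ := fun x => rfl
  have haa : a * a = 1 := by rw [← pow_two, ← ha, pow_orderOf_eq_one]
  have hbb : b * b = 1 := by rw [← pow_two, ← hb, pow_orderOf_eq_one]
  have hαα : α * α = 1 := by
    rw [hα, ← map_mul]
    have : (⟨a, haL⟩ * ⟨a, haL⟩ : Subgroup.normalizer (L : Set G)) = 1 := Subtype.ext haa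
    rw [this, map_one]
  have hββ : β * β = 1 := by
    rw [hβ, ← map_mul]
    have : (⟨b, hbL⟩ * ⟨b, hbL⟩ : Subgroup.normalizer (L : Set G)) = 1 := Subtype.ext hbb
    rw [this, map_one]
  have hαβ : α * β = β * α := by
    rw [hα, hβ, ← map_mul, ← map_mul]
    congr 1
    exact Subtype.ext hc
  have hfix : ∀ (c : G) (hcL : c ∈ Subgroup.normalizer (L : Set G)),
      (∀ R : Sylow 2 ↥(L ⊓ Subgroup.centralizer ({c} : Set G)), IsCyclic R) →
      ∀ S : Sylow 2 (Cfsg.Agent.GH.L2Aut.fixSub (L.normalizerMonoidHom ⟨c, hcL⟩)), IsCyclic S := by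
    intro c hcL hcyc S
    refine Cfsg.Agent.H21.CycFix.cyclic_of_inj
      (A := Cfsg.Agent.GH.L2Aut.fixSub (L.normalizerMonoidHom ⟨c, hcL⟩))
      (B := ↥(L ⊓ Subgroup.centralizer ({c} : Set G)))
      { toFun := fun x => ⟨((x : L) : G), x.1.2, ?_⟩
        map_one' := rfl
        map_mul' := fun _ _ => rfl } ?_ hcyc S
    · have h1 : (L.normalizerMonoidHom ⟨c, hcL⟩ x.1 : L) = x.1 := x.2
      have h2 : c * ((x : L) : G) * c⁻¹ = ((x : L) : G) := congrArg Subtype.val h1
      exact Subgroup.mem_centralizer_singleton_iff.mpr (mul_inv_eq_iff_eq_mul.mp h2).symm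
    · intro x y hxy
      apply Subtype.ext
      apply Subtype.ext
      exact congrArg (fun z : ↥(L ⊓ Subgroup.centralizer ({c} : Set G)) => (z : G)) hxy
  have hfa := hfix a haL hCa
  have hfb := hfix b hbL hCb
  have hmul : α * β = 1 := by
    rcases Cfsg.Agent.S0483.result P n hn2 hn with ⟨F, hF1, hF2, hodd, h3, ⟨e⟩⟩ | ⟨⟨e⟩⟩
    · have htwo := Cfsg.Agent.GH.L2Aut.two_ne_zero_of_odd hodd
      have e1 : L ≃* L ⧸ Cfsg.oddCore L :=
        (QuotientGroup.quotientBot (G := L)).symm.trans (QuotientGroup.quotientMulEquivOfEq hcore.symm)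
      refine Cfsg.Agent.H21.CycFix.mul_eq_one (Cfsg.Agent.GH.L2Aut.Rep.ofEquiv htwo (e1.trans e))
        hncyc ?_ hαα hββ hαβ hfa hfb
        (((L ⊓ Subgroup.centralizer ({a} : Set G)) ⊔
          (L ⊓ Subgroup.centralizer ({b} : Set G))).subgroupOf L) ?_ ?_ ?_
      · rw [Nat.card_eq_fintype_card]
        obtain ⟨k, hk⟩ := hodd
        omega
      · rw [Ne, Subgroup.subgroupOf_eq_top]
        intro hle
        apply hgen
        refine hle.trans (sup_le_sup_right ?_ _)
        exact le_sup_right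
      · intro x hx
        rw [Subgroup.mem_subgroupOf]
        refine Subgroup.mem_sup_left ⟨x.2, ?_⟩
        have h2 : a * (x : G) * a⁻¹ = (x : G) := congrArg Subtype.val (show α x = x from hx)
        exact Subgroup.mem_centralizer_singleton_iff.mpr (mul_inv_eq_iff_eq_mul.mp h2).symm
      · intro x hx
        rw [Subgroup.mem_subgroupOf]
        refine Subgroup.mem_sup_right ⟨x.2, ?_⟩
        have h2 : b * (x : G) * b⁻¹ = (x : G) := congrArg Subtype.val (show β x = x from hx)
        exact Subgroup.mem_centralizer_singleton_iff.mpr (mul_inv_eq_iff_eq_mul.mp h2).symm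
    · exfalso
      have e1 : L ≃* L ⧸ Cfsg.oddCore L :=
        (QuotientGroup.quotientBot (G := L)).symm.trans (QuotientGroup.quotientMulEquivOfEq hcore.symm)
      exact Cfsg.Agent.H21.CycFix.alt_seven (e1.trans e) hαα hfa
  rw [Subgroup.mem_centralizer_iff]
  intro x hx
  have h1 : (α * β) ⟨x, hx⟩ = ⟨x, hx⟩ := by rw [hmul]; rfl
  have h2 : a * (b * x * b⁻¹) * a⁻¹ = x := congrArg Subtype.val h1
  have h3 : a * b * x * (a * b)⁻¹ = x := by
    rw [← h2]
    conv_rhs => rw [← h2]
    have h4 : a * b * (a * (b * x * b⁻¹) * a⁻¹) * (a * b)⁻¹ = a * b * x * (a * b)⁻¹ := by rw [h2]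
    rw [h4]
    rw [h2]
    group
  exact (mul_inv_eq_iff_eq_mul.mp h3).symm

end Cfsg.Agent.S1916
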