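import Cfsg.Statements.S1921
import Cfsg.Agent.SignalizersComponents.Components
import Mathlib.Algebra.Group.Subgroup.Pointwise
set_option linter.all false

set_option autoImplicit false
open Cfsg

namespace Cfsg.Agent.S1921

open Subgroup Cfsg.Agent.SignalizersComponents.Components

/-- Let a be an involution of a finite group H and L a component of H with a L a⁻¹ ≠ L; put M = ⟨L, aLa⁻¹⟩ and let J be the subgroup generated by the elements x · a x a⁻¹ with x ∈ L (the diagonal). Then every element of M outside J·Z(M) generates M together with J. -/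
theorem result {H : Type*} [Group H] [Finite H] (a : H) (ha : orderOf a = 2) (L : Subgroup H) (hL : Cfsg.IsComponent L)
    (hLa : L.map (MulAut.conj a).toMonoidHom ≠ L) (x : H) (hxM : x ∈ L ⊔ L.map (MulAut.conj a).toMonoidHom)
    (hxJ : x ∉ Subgroup.closure {y : H | ∃ l ∈ L, y = l * (a * l * a⁻¹)} ⊔
      ((L ⊔ L.map (MulAut.conj a).toMonoidHom) ⊓ Subgroup.centralizer ((L ⊔ L.map (MulAut.conj a).toMonoidHom : Subgroup H) : Set H))) :
    Subgroup.closure {y : H | ∃ l ∈ L, y = l * (a * l * a⁻¹)} ⊔ Subgroup.zpowers x = L ⊔ L.map (MulAut.conj a).toMonoidHom := by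
  have hKc : IsComponent (L.map (MulAut.conj a).toMonoidHom) := isComponent_conj a hL
  have hcc : L.map (MulAut.conj a).toMonoidHom ≤ centralizer (L : Set H) :=
    component_le_centralizer_of_ne hKc hL hLa
  set K := L.map (MulAut.conj a).toMonoidHom with hK
  set J := Subgroup.closure {y : H | ∃ l ∈ L, y = l * (a * l * a⁻¹)} with hJ
  -- elements of `L` and `K` commute
  have hcomm : ∀ l ∈ L, ∀ k ∈ K, l * k = k * l := by
    intro l hl k hk
    exact mem_centralizer_iff.mp (hcc hk) l hl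
  have hKmem : ∀ l ∈ L, a * l * a⁻¹ ∈ K := by
    intro l hl
    exact ⟨l, hl, rfl⟩
  have hJmem : ∀ l ∈ L, l * (a * l * a⁻¹) ∈ J := by
    intro l hl
    exact subset_closure ⟨l, hl, rfl⟩
  have hJM : J ≤ L ⊔ K := by
    rw [hJ, closure_le]
    rintro y ⟨l, hl, rfl⟩
    exact mul_mem (mem_sup_left hl) (mem_sup_right (hKmem l hl))
  have hNM : J ⊔ zpowers x ≤ L ⊔ K := sup_le hJM (by rwa [zpowers_le])
  have hnorm : L ≤ normalizer (K : Set H) := by
    refine le_trans ?_ (centralizer_le_normalizer (K : Set H))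
    intro l hl
    rw [mem_centralizer_iff]
    intro k hk
    exact (hcomm l hl k hk).symm
  -- the decomposition of an element of `M`
  have hdec : ∀ y ∈ L ⊔ K, ∃ l ∈ L, ∃ j ∈ J, y = l * j := by
    intro y hy
    rw [← SetLike.mem_coe, coe_mul_of_left_le_normalizer_right L K hnorm] at hy
    obtain ⟨l, hl, k, hk, rfl⟩ := hy
    obtain ⟨m, hm, rfl⟩ := hk
    refine ⟨l * m⁻¹, mul_mem hl (inv_mem hm), m * (a * m * a⁻¹), hJmem m hm, ?_⟩
    show l * (a * m * a⁻¹) = l * m⁻¹ * (m * (a * m * a⁻¹))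
    group
  set N := J ⊔ zpowers x with hN
  -- `N ∩ L` is normal in `L`
  have hnor : (N.subgroupOf L).Normal := by
    constructor
    intro n hn g
    rw [mem_subgroupOf] at hn ⊢
    have h1 : ((g * n * g⁻¹ : L) : H) =
        ((g : H) * (a * g * a⁻¹)) * n * ((g : H) * (a * g * a⁻¹))⁻¹ := by
      have h2 := hcomm n n.2 _ (hKmem g g.2)
      calc ((g * n * g⁻¹ : L) : H) = g * n * (g : H)⁻¹ := rfl
        _ = g * (n * (a * g * a⁻¹)) * (a * g * a⁻¹)⁻¹ * (g : H)⁻¹ := by group
        _ = g * ((a * g * a⁻¹) * n) * (a * g * a⁻¹)⁻¹ * (g : H)⁻¹ := by rw [h2]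
        _ = _ := by group
    rw [h1]
    have h3 : (g : H) * (a * g * a⁻¹) ∈ N := mem_sup_left (hJmem g g.2)
    exact mul_mem (mul_mem h3 hn) (inv_mem h3)
  rcases quasisimple_normal hL.2 _ hnor with h | h
  · -- `L ≤ N`
    have hLN : L ≤ N := subgroupOf_eq_top.mp h
    apply le_antisymm hNM
    apply sup_le hLN
    rintro _ ⟨m, hm, rfl⟩
    have h1 : m⁻¹ * (m * (a * m * a⁻¹)) ∈ N :=
      mul_mem (inv_mem (hLN hm)) (mem_sup_left (hJmem m hm))
    show a * m * a⁻¹ ∈ N
    have h2 : m⁻¹ * (m * (a * m * a⁻¹)) = a * m * a⁻¹ := by group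
    rwa [h2] at h1
  · exfalso
    apply hxJ
    obtain ⟨l, hl, j, hj, hx⟩ := hdec x hxM
    have hlN : l ∈ N := by
      have h1 : l = x * j⁻¹ := by rw [hx]; group
      rw [h1]
      exact mul_mem (mem_sup_right (mem_zpowers x)) (inv_mem (mem_sup_left hj))
    have hlc : (⟨l, hl⟩ : L) ∈ center L := h (mem_subgroupOf.mpr hlN)
    have hlz : l ∈ centralizer ((L ⊔ K : Subgroup H) : Set H) := by
      rw [mem_centralizer_iff]
      intro y hy
      rw [coe_mul_of_left_le_normalizer_right L K hnorm] at hy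
      obtain ⟨m, hm, k, hk, rfl⟩ := hy
      have h1 : m * l = l * m := congrArg Subtype.val (mem_center_iff.mp hlc ⟨m, hm⟩)
      have h2 := hcomm l hl k hk
      show m * k * l = l * (m * k)
      rw [mul_assoc, ← h2, ← mul_assoc, h1, mul_assoc]
    rw [hx]
    refine mul_mem (mem_sup_right ⟨mem_sup_left hl, hlz⟩) (mem_sup_left hj)

end Cfsg.Agent.S1921
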