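import Cfsg.Agent.H30.StrongFusion
import Cfsg.Agent.H30.SlFree
import Cfsg.Agent.Walter.GlaubermanFusion
import Cfsg.Statements.S1953
set_option linter.all false

-- part: H30/LeastCR
section
/-!
# Normal centric subgroups of a fusion system and the least centric radical subgroup

`P` a Sylow `p`-subgroup of the finite group `G`, `Q ⊴ P` such that `N_G(Q)` controls strong fusion in `P`.

* `le_of_rad`: `Q` is contained in every centric radical subgroup `E` of `P`;
* `enlarge`: if `Q` is centric and `X / Q C(Q)` is a normal `p`-subgroup of `N(Q) / Q C(Q)` then `N(P ∩ X)` controls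
  strong fusion too;
* `exists_max`: a centric `Q` as above is contained in a centric radical one.
-/

set_option autoImplicit false

namespace Cfsg.Agent.H30.LeastCR

open Subgroup Cfsg.Agent.Lib.GoldschmidtFusion Cfsg.Agent.Lib.EssentialFusion
open Cfsg.Agent.H30.StrongFusion

variable {G : Type*} [Group G]

/-- `M` controls strong fusion in `P`. -/
def Ctl (P M : Subgroup G) : Prop :=
  ∀ A : Subgroup G, A ≤ P → ∀ g : G, A.map (MulAut.conj g).toMonoidHom ≤ P → Dec M A g

/-- All `p`-elements of `C_G(Q)` lie in `Q`. -/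
def Cen (p : ℕ) (Q : Subgroup G) : Prop :=
  ∀ y ∈ centralizer (Q : Set G), (∃ k : ℕ, y ^ p ^ k = 1) → y ∈ Q

/-- `N_G(E) / E C_G(E)` has no nontrivial normal `p`-subgroup. -/
def Rad (p : ℕ) (E : Subgroup G) : Prop :=
  ∀ A : Subgroup G, A ≤ normalizer (E : Set G) → normalizer (E : Set G) ≤ normalizer (A : Set G) →
    (∀ g ∈ A, ∃ k : ℕ, g ^ p ^ k ∈ centralizer (E : Set G)) → A ≤ XC E

theorem mem_XC {X : Subgroup G} {y : G} (hy : y ∈ XC X) : ∃ x ∈ X, ∃ c ∈ centralizer (X : Set G), y = x * c := by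
  have hy' : y ∈ ((XC X : Subgroup G) : Set G) := hy
  rw [XC, coe_mul_of_right_le_normalizer_left _ _ (centralizer_le_normalizer _)] at hy'
  obtain ⟨x, hx, c, hc, rfl⟩ := Set.mem_mul.1 hy'
  exact ⟨x, hx, c, hc, rfl⟩

/-- Powers of an element stabilizing a chain. -/
theorem conj_pow_stab {g x z : G} (h : g * x * g⁻¹ = x * z) (hz : g * z * g⁻¹ = z) (m : ℕ) :
    g ^ m * x * (g ^ m)⁻¹ = x * z ^ m := by
  induction m with
  | zero => simp
  | succ m ih =>
    have e1 : g ^ (m + 1) * x * (g ^ (m + 1))⁻¹ = g * (g ^ m * x * (g ^ m)⁻¹) * g⁻¹ := by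
      rw [pow_succ']; group
    have e2 : g * z ^ m * g⁻¹ = z ^ m := by rw [← conj_pow, hz]
    calc g ^ (m + 1) * x * (g ^ (m + 1))⁻¹ = g * (x * z ^ m) * g⁻¹ := by rw [e1, ih]
      _ = (g * x * g⁻¹) * (g * z ^ m * g⁻¹) := by group
      _ = x * z ^ (m + 1) := by rw [e2, h, pow_succ', mul_assoc]

theorem mem_centralizer_of_conj {E : Subgroup G} {g : G} (h : ∀ x ∈ E, g * x * g⁻¹ = x) :
    g ∈ centralizer (E : Set G) := by
  rw [mem_centralizer_iff]
  intro x hx
  calc x * g = (g * x * g⁻¹) * g := by rw [h x hx]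
    _ = g * x := by group

theorem conj_eq_of_mem {E : Subgroup G} {g x : G} (h : g ∈ centralizer (E : Set G)) (hx : x ∈ E) :
    g * x * g⁻¹ = x := conj_eq_of_mem_centralizer h hx

section Finite

variable [Finite G] {p : ℕ} [hp : Fact p.Prime]

/-- A power of an element stabilizing a chain centralizes. -/
theorem exists_pow_mem_centralizer {E Y : Subgroup G} (hY : IsPGroup p Y) {g : G}
    (hg : g ∈ centralizer (Y : Set G)) (h : ∀ x ∈ E, x⁻¹ * (g * x * g⁻¹) ∈ Y) :
    ∃ k : ℕ, g ^ p ^ k ∈ centralizer (E : Set G) := by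
  obtain ⟨n, hn⟩ := IsPGroup.iff_card.1 hY
  refine ⟨n, mem_centralizer_of_conj ?_⟩
  intro x hx
  have hz := h x hx
  set z := x⁻¹ * (g * x * g⁻¹) with hzdef
  have h1 : g * x * g⁻¹ = x * z := by rw [hzdef]; group
  rw [conj_pow_stab h1 (conj_eq_of_mem hg hz)]
  have h2 : (⟨z, hz⟩ : Y) ^ Nat.card Y = 1 := pow_card_eq_one'
  have h3 : z ^ p ^ n = 1 := by
    rw [← hn]
    have h3 := congrArg Subtype.val h2
    rwa [Subgroup.coe_pow] at h3
  rw [h3, mul_one]

omit [Finite G] hp in
/-- `Rad` from essential subgroups. -/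
theorem rad_of_coprime {E : Subgroup G}
    (h : ∀ A : Subgroup G, A ≤ normalizer (E : Set G) → normalizer (E : Set G) ≤ normalizer (A : Set G) →
      (∀ g ∈ A, Nat.Coprime (orderOf g) p → g ∈ centralizer (E : Set G)) → A ≤ XC E) : Rad p E := by
  intro A hA hN hk
  refine h A hA hN ?_
  intro g hg ho
  obtain ⟨k, hk⟩ := hk g hg
  have hco : Nat.Coprime (p ^ k) (orderOf g) := (Nat.Coprime.pow_left k ho.symm)
  have h1 : g ∈ zpowers (g ^ p ^ k) := by
    rw [mem_zpowers_pow_iff]
    exact hco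
  exact (zpowers_le.2 hk) h1

theorem Ess.rad {P : Sylow p G} {X : Subgroup G} (h : Ess P X) : Rad p X :=
  rad_of_coprime fun _ hA hN hc => ess_le_XC h hA hN hc

omit [Finite G] hp in
/-- The normalizer of `E` when `N_G(Q)` controls strong fusion. -/
theorem normalizer_dec {P Q E : Subgroup G} (hctl : Ctl P (normalizer (Q : Set G))) (hE : E ≤ P) {g : G}
    (hg : g ∈ normalizer (E : Set G)) :
    ∃ h ∈ normalizer (Q : Set G), h ∈ normalizer (E : Set G) ∧ ∃ c ∈ centralizer (E : Set G), g = h * c := by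
  obtain ⟨h, hh, c, hc, rfl⟩ := hctl E hE g (by rw [mem_normalizer_iff_map_conj.1 hg]; exact hE)
  refine ⟨h, hh, ?_, c, hc, rfl⟩
  have := mul_mem hg (inv_mem (centralizer_le_normalizer _ hc))
  simpa using this

/-- A subgroup `R ⊴ P` with `N_R(E) ≤ E` lies in `E`. -/
theorem le_of_inf_normalizer_le {P : Sylow p G} {R E : Subgroup G} (hRP : R ≤ P) (hE : E ≤ P)
    (hPR : (P : Subgroup G) ≤ normalizer (R : Set G)) (h : R ⊓ normalizer (E : Set G) ≤ E) : R ≤ E := by
  by_contra hcon
  have hlt : E < R ⊔ E := right_lt_sup.2 hcon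
  have hpg : IsPGroup p (R ⊔ E : Subgroup G) := P.isPGroup'.to_le (sup_le hRP hE)
  have h1 := lt_inf_normalizer hpg hlt
  obtain ⟨t, ht, htE⟩ := SetLike.exists_of_lt h1
  have ht' : t ∈ ((R ⊔ E : Subgroup G) : Set G) := ht.1
  rw [coe_mul_of_right_le_normalizer_left _ _ (hE.trans hPR)] at ht'
  obtain ⟨r, hr, e, he, rfl⟩ := Set.mem_mul.1 ht'
  apply htE
  refine mul_mem (h ⟨hr, ?_⟩) he
  have h2 : e ∈ normalizer (E : Set G) := le_normalizer he
  have := mul_mem (show r * e ∈ normalizer (E : Set G) from ht.2) (inv_mem h2)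
  simpa using this

/-- **A subgroup normal in the fusion system lies in every centric radical subgroup.** -/
theorem le_of_rad {P : Sylow p G} {Q E : Subgroup G} (hQP : Q ≤ P)
    (hPQ : (P : Subgroup G) ≤ normalizer (Q : Set G)) (hctl : Ctl (P : Subgroup G) (normalizer (Q : Set G)))
    (hE : E ≤ P) (hcE : centralizer (E : Set G) ⊓ P ≤ E) (hrad : Rad p E) : Q ≤ E := by
  refine le_of_inf_normalizer_le hQP hE hPQ ?_
  set A : Subgroup G := (Q ⊓ normalizer (E : Set G)) ⊔ centralizer (E : Set G) with hA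
  have hAN : A ≤ normalizer (E : Set G) := sup_le inf_le_right (centralizer_le_normalizer _)
  have hCn : normalizer (E : Set G) ≤ normalizer (centralizer (E : Set G) : Set G) := by
    rw [le_normalizer_iff]
    intro n hn y hy
    rw [← mem_normalizer_iff_map_conj.1 hn, mem_centralizer_map_conj]
    simpa [mul_assoc] using hy
  have hNA : normalizer (E : Set G) ≤ normalizer (A : Set G) := by
    intro g hg
    obtain ⟨h, hhQ, hhE, c, hc, rfl⟩ := normalizer_dec hctl hE hg
    have h1 : c ∈ A := (le_sup_right : centralizer (E : Set G) ≤ A) hc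
    refine mul_mem ?_ (le_normalizer h1)
    rw [mem_normalizer_iff_map_conj, hA, Subgroup.map_sup, mem_normalizer_iff_map_conj.1 (hCn hhE)]
    congr 1
    rw [Subgroup.map_inf _ _ _ (MulAut.conj h).injective, mem_normalizer_iff_map_conj.1 hhQ,
      mem_normalizer_iff_map_conj.1 (le_normalizer hhE)]
  have hpow : ∀ g ∈ A, ∃ k : ℕ, g ^ p ^ k ∈ centralizer (E : Set G) := by
    intro g hg
    have hg' : g ∈ ((A : Subgroup G) : Set G) := hg
    rw [hA, coe_mul_of_left_le_normalizer_right _ _ (inf_le_right.trans hCn)] at hg'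
    obtain ⟨q, hq, c, hc, rfl⟩ := Set.mem_mul.1 hg'
    obtain ⟨k, hk⟩ := P.isPGroup' ⟨q, hQP hq.1⟩
    have hk' : q ^ p ^ k = 1 := by simpa using congrArg Subtype.val hk
    refine ⟨k, ?_⟩
    -- `(q c)^m ∈ q^m C`
    have key : ∀ m : ℕ, ∃ c' ∈ centralizer (E : Set G), (q * c) ^ m = q ^ m * c' := by
      intro m
      induction m with
      | zero => exact ⟨1, one_mem _, by simp⟩
      | succ m ih =>
        obtain ⟨c', hc', h1⟩ := ih
        refine ⟨q⁻¹ * c' * q * c, mul_mem ?_ hc, ?_⟩
        · have := (mem_normalizer_iff.1 (hCn (inv_mem hq.2)) c').1 hc'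
          simpa using this
        · rw [pow_succ, h1, pow_succ]; group
    obtain ⟨c', hc', h1⟩ := key (p ^ k)
    rw [h1, hk', one_mul]
    exact hc'
  have hAX := hrad A hAN hNA hpow
  intro q hq
  obtain ⟨e, he, c, hc, hqe⟩ := mem_XC (hAX ((le_sup_left : Q ⊓ normalizer (E : Set G) ≤ A) hq))
  have hcP : c ∈ (P : Subgroup G) := by
    have : c = e⁻¹ * q := by rw [hqe]; group
    rw [this]
    exact mul_mem (inv_mem (hE he)) (hQP hq.1)
  rw [hqe]
  exact mul_mem he (hcE ⟨hc, hcP⟩)

omit [Finite G] hp in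
/-- Elements of `X`, `X / Q C(Q)` a `p`-group, `Q` a `p`-group, have a power in `C(Q)`. -/
theorem exists_pow_mem_cent {Q X : Subgroup G} (hQ : IsPGroup p Q) (hXN : X ≤ normalizer (Q : Set G))
    (hX : XC Q ≤ X) {k : ℕ} (hk : (XC Q).relIndex X = p ^ k) {x : G} (hx : x ∈ X) :
    ∃ j : ℕ, x ^ p ^ j ∈ centralizer (Q : Set G) := by
  have hn : ((XC Q).subgroupOf X).Normal := by
    rw [normal_subgroupOf_iff_le_normalizer hX]
    intro g hg
    rw [mem_normalizer_iff_map_conj]
    exact map_conj_XC (hXN hg)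
  have hpg : IsPGroup p (X ⧸ (XC Q).subgroupOf X) := IsPGroup.of_card hk
  obtain ⟨i, hi⟩ := hpg (QuotientGroup.mk (⟨x, hx⟩ : X))
  rw [← QuotientGroup.mk_pow, QuotientGroup.eq_one_iff, mem_subgroupOf] at hi
  have hi' : x ^ p ^ i ∈ XC Q := by simpa using hi
  obtain ⟨q, hq, c, hc, hqc⟩ := mem_XC hi'
  obtain ⟨j, hj⟩ := hQ ⟨q, hq⟩
  have hj' : q ^ p ^ j = 1 := by simpa using congrArg Subtype.val hj
  have hcomm : Commute q c := (mem_centralizer_iff.1 hc) q hq
  refine ⟨i + j, ?_⟩
  rw [pow_add, pow_mul, hqc, hcomm.mul_pow, hj', one_mul]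
  exact pow_mem hc _

/-- **Enlarging a centric normal subgroup of the fusion system.** -/
theorem enlarge (P : Sylow p G) {Q X : Subgroup G} (hQP : Q ≤ P)
    (hPQ : (P : Subgroup G) ≤ normalizer (Q : Set G)) (hctl : Ctl (P : Subgroup G) (normalizer (Q : Set G)))
    (hcen : Cen p Q) (hXN : X ≤ normalizer (Q : Set G))
    (hNX : normalizer (Q : Set G) ≤ normalizer (X : Set G))
    (hX : XC Q ≤ X) {k : ℕ} (hk : (XC Q).relIndex X = p ^ k) :
    Ctl (P : Subgroup G) (normalizer (((P : Subgroup G) ⊓ X : Subgroup G) : Set G)) := by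
  have hQp : IsPGroup p Q := P.isPGroup'.to_le hQP
  set R : Subgroup G := (P : Subgroup G) ⊓ X with hR
  have hPR : (P : Subgroup G) ≤ normalizer (R : Set G) := by
    intro x hx
    rw [mem_normalizer_iff_map_conj, hR, Subgroup.map_inf _ _ _ (MulAut.conj x).injective,
      map_conj_of_mem hx, mem_normalizer_iff_map_conj.1 (hNX (hPQ hx))]
  intro A hA g hg
  refine dec_of_conj P ?_ ?_ hA hg
  · intro g hg
    obtain ⟨h, hhQ, hhP, c, hc, rfl⟩ := normalizer_dec hctl le_rfl hg
    refine ⟨h, ?_, c, hc, rfl⟩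
    rw [mem_normalizer_iff_map_conj, hR, Subgroup.map_inf _ _ _ (MulAut.conj h).injective,
      mem_normalizer_iff_map_conj.1 hhP, mem_normalizer_iff_map_conj.1 (hNX hhQ)]
  · intro E hE g hg
    have hQE : Q ≤ E := le_of_rad hQP hPQ hctl hE.lt.le hE.centric (Ess.rad hE)
    have hCE : centralizer (E : Set G) ≤ centralizer (Q : Set G) := centralizer_le (by exact_mod_cast hQE)
    have hEN : E ≤ normalizer (Q : Set G) := hE.lt.le.trans hPQ
    -- `A = X ∩ N(E)`
    have hAX : X ⊓ normalizer (E : Set G) ≤ XC E := by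
      refine Ess.rad hE _ inf_le_right ?_ ?_
      · intro n hn
        obtain ⟨h, hhQ, hhE, c, hc, rfl⟩ := normalizer_dec hctl hE.lt.le hn
        have hcA : c ∈ X ⊓ normalizer (E : Set G) :=
          mem_inf.2 ⟨hX (centralizer_le_XC Q (hCE hc)), centralizer_le_normalizer _ hc⟩
        refine mul_mem ?_ (le_normalizer hcA)
        rw [mem_normalizer_iff_map_conj, Subgroup.map_inf _ _ _ (MulAut.conj h).injective,
          mem_normalizer_iff_map_conj.1 (hNX hhQ), mem_normalizer_iff_map_conj.1 (le_normalizer hhE)]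
      · rintro x ⟨hxX, hxE⟩
        obtain ⟨j, hj⟩ := exists_pow_mem_cent hQp hXN hX hk hxX
        have hxE' : x ^ p ^ j ∈ normalizer (E : Set G) := pow_mem hxE _
        obtain ⟨i, hi⟩ := exists_pow_mem_centralizer (p := p) (E := E) (Y := Q) hQp hj (by
          intro e he
          have h1 : e⁻¹ * (x ^ p ^ j * e * (x ^ p ^ j)⁻¹) ∈ E :=
            mul_mem (inv_mem he) ((mem_normalizer_iff.1 hxE' e).1 he)
          apply hcen
          · have hCn : e⁻¹ * x ^ p ^ j * e⁻¹⁻¹ ∈ centralizer (Q : Set G) := by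
              rw [← mem_normalizer_iff_map_conj.1 (inv_mem (hEN he)), mem_centralizer_map_conj]
              simpa [mul_assoc] using hj
            have h2 : e⁻¹ * (x ^ p ^ j * e * (x ^ p ^ j)⁻¹) = (e⁻¹ * x ^ p ^ j * e⁻¹⁻¹) * (x ^ p ^ j)⁻¹ := by
              group
            rw [h2]
            exact mul_mem hCn (inv_mem hj)
          · obtain ⟨i, hi⟩ := P.isPGroup' ⟨_, hE.lt.le h1⟩
            exact ⟨i, by simpa using congrArg Subtype.val hi⟩)
        exact ⟨j + i, by rw [pow_add, pow_mul]; exact hi⟩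
    have hRE : R ≤ E := by
      refine le_of_inf_normalizer_le inf_le_left hE.lt.le hPR ?_
      rintro r ⟨hr, hrE⟩
      obtain ⟨e, he, c, hc, hec⟩ := mem_XC (hAX (mem_inf.2 ⟨hr.2, hrE⟩))
      have hcP : c ∈ (P : Subgroup G) := by
        have : c = e⁻¹ * r := by rw [hec]; group
        rw [this]
        exact mul_mem (inv_mem (hE.lt.le he)) hr.1
      rw [hec]
      exact mul_mem he (hE.centric ⟨hc, hcP⟩)
    have hRXE : R = X ⊓ E := by
      apply le_antisymm
      · exact le_inf inf_le_right hRE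
      · exact le_inf (inf_le_right.trans hE.lt.le) inf_le_left
    obtain ⟨h, hhQ, hhE, c, hc, rfl⟩ := normalizer_dec hctl hE.lt.le hg
    refine ⟨h, ?_, c, hc, rfl⟩
    rw [mem_normalizer_iff_map_conj, hRXE, Subgroup.map_inf _ _ _ (MulAut.conj h).injective,
      mem_normalizer_iff_map_conj.1 (hNX hhQ), mem_normalizer_iff_map_conj.1 hhE]

omit [Finite G] hp in
theorem Cen.mono {Q R : Subgroup G} (h : Cen p Q) (hQR : Q ≤ R) : Cen p R := by
  intro y hy hk
  exact hQR (h y (centralizer_le (by exact_mod_cast hQR) hy) hk)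

/-- **The radical enlargement.** -/
theorem exists_max (P : Sylow p G) {Q₀ : Subgroup G} (hQP : Q₀ ≤ P)
    (hPQ : (P : Subgroup G) ≤ normalizer (Q₀ : Set G)) (hctl : Ctl (P : Subgroup G) (normalizer (Q₀ : Set G)))
    (hcen : Cen p Q₀) :
    ∃ Q : Subgroup G, Q ≤ P ∧ (P : Subgroup G) ≤ normalizer (Q : Set G) ∧
      Ctl (P : Subgroup G) (normalizer (Q : Set G)) ∧ Cen p Q ∧
      ∀ X : Subgroup G, X ≤ normalizer (Q : Set G) → normalizer (Q : Set G) ≤ normalizer (X : Set G) →
        XC Q ≤ X → (∃ k : ℕ, (XC Q).relIndex X = p ^ k) → X = XC Q := by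
  classical
  obtain ⟨Q, ⟨hQ₀, hQP', hPQ', hctl'⟩, hmax⟩ := Set.exists_max_image
    {Q : Subgroup G | Q₀ ≤ Q ∧ Q ≤ P ∧ (P : Subgroup G) ≤ normalizer (Q : Set G) ∧
      Ctl (P : Subgroup G) (normalizer (Q : Set G))} (fun Q => Nat.card Q) (Set.toFinite _)
    ⟨Q₀, le_rfl, hQP, hPQ, hctl⟩
  have hcen' : Cen p Q := hcen.mono hQ₀
  refine ⟨Q, hQP', hPQ', hctl', hcen', ?_⟩
  rintro X hXN hNX hX ⟨k, hk⟩
  set R : Subgroup G := (P : Subgroup G) ⊓ X with hR
  have hQX : Q ≤ X := (le_XC Q).trans hX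
  have hQR : Q ≤ R := le_inf hQP' hQX
  have hPR : (P : Subgroup G) ≤ normalizer (R : Set G) := by
    intro x hx
    rw [mem_normalizer_iff_map_conj, hR, Subgroup.map_inf _ _ _ (MulAut.conj x).injective,
      map_conj_of_mem hx, mem_normalizer_iff_map_conj.1 (hNX (hPQ' hx))]
  have hRmem := hmax R ⟨hQ₀.trans hQR, inf_le_left, hPR,
    enlarge P hQP' hPQ' hctl' hcen' hXN hNX hX hk⟩
  have hEq : Q = R := Subgroup.eq_of_le_of_card_ge hQR hRmem
  -- `R` is Sylow in `X`
  have hPN : ¬ p ∣ (P : Subgroup G).relIndex (normalizer (Q : Set G)) := by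
    intro h
    exact P.not_dvd_index (h.trans (relIndex_dvd_index_of_le hPQ'))
  have hn : (X.subgroupOf (normalizer (Q : Set G))).Normal := by
    rwa [normal_subgroupOf_iff_le_normalizer hXN]
  have hRX : ¬ p ∣ R.relIndex X := by
    rw [hR, inf_relIndex_right]
    intro hd
    apply hPN
    refine hd.trans ?_
    have e1 : (P : Subgroup G).relIndex X =
        ((P : Subgroup G).subgroupOf (normalizer (Q : Set G))).relIndex (X.subgroupOf (normalizer (Q : Set G))) := by
      rw [relIndex_subgroupOf hXN]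
    rw [e1]
    exact relIndex_dvd_index_of_normal_right _ _
  have h1 : (XC Q).relIndex X ∣ R.relIndex X := relIndex_dvd_of_le_left X (hEq ▸ le_XC Q)
  have hk0 : k = 0 := by
    by_contra hk0
    apply hRX
    refine dvd_trans ?_ h1
    rw [hk]
    exact dvd_pow_self p hk0
  rw [hk0, pow_zero, relIndex_eq_one] at hk
  exact le_antisymm hk hX

end Finite

end Cfsg.Agent.H30.LeastCR
end

-- part: H30/CentricControl
section
/-!
# A centric normal subgroup of the fusion system of an `SL(2, p)`-free group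

`concl`: if `p` is odd and no automizer of a `p`-subgroup of `G` involves `SL(2, p)`, then the Sylow `p`-subgroup `P`
has a subgroup `Q ⊴ P` containing all `p`-elements of `C_G(Q)` such that `N_G(Q)` controls strong fusion in `P`.
-/

set_option autoImplicit false

namespace Cfsg.Agent.H30.CentricControl

open Subgroup Cfsg
open Cfsg.Agent.Lib.GoldschmidtFusion Cfsg.Agent.Lib.EssentialFusion
open Cfsg.Agent.H30.StrongFusion Cfsg.Agent.H30.LeastCR Cfsg.Agent.H30.SlFree

universe u

/-- The conclusion. -/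
def Concl (p : ℕ) (G : Type*) [Group G] : Prop :=
  ∀ P : Sylow p G, ∃ Q : Subgroup G, Q ≤ P ∧ (P : Subgroup G) ≤ normalizer (Q : Set G) ∧
    Ctl (P : Subgroup G) (normalizer (Q : Set G)) ∧ Cen p Q

variable {G : Type*} [Group G]

theorem normalizer_le_normalizer_centralizer (X : Subgroup G) :
    normalizer (X : Set G) ≤ normalizer (centralizer (X : Set G) : Set G) := by
  rw [le_normalizer_iff]
  intro n hn y hy
  rw [← mem_normalizer_iff_map_conj.1 hn, mem_centralizer_map_conj]
  simpa [mul_assoc] using hy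

variable [Finite G] {p : ℕ} [hp : Fact p.Prime]

omit [Finite G] hp in
/-- A normal `p`-subgroup lies in every Sylow subgroup. -/
theorem le_sylow_of_normal (Z : Subgroup G) [hZn : Z.Normal] (hZ : IsPGroup p Z) (P : Sylow p G) :
    Z ≤ (P : Subgroup G) := by
  have h1 : IsPGroup p ((P : Subgroup G) ⊔ Z : Subgroup G) := P.isPGroup'.to_sup_of_normal_right hZ
  have h2 := P.is_maximal' h1 le_sup_left
  exact h2 ▸ le_sup_right

/-- Quotients by central `p`-subgroups. -/
theorem concl_of_quotient (Z : Subgroup G) [hZn : Z.Normal] (hZ : IsPGroup p Z) (hZc : Z ≤ center G)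
    (h : Concl p (G ⧸ Z)) (P : Sylow p G) :
    ∃ Q : Subgroup G, Z ≤ Q ∧ Q ≤ P ∧ (P : Subgroup G) ≤ normalizer (Q : Set G) ∧
      Ctl (P : Subgroup G) (normalizer (Q : Set G)) ∧ Cen p Q := by
  set π : G →* G ⧸ Z := QuotientGroup.mk' Z with hπ
  have hπs : Function.Surjective π := QuotientGroup.mk'_surjective Z
  have hπ1 : ∀ x : G, π x = 1 ↔ x ∈ Z := fun x => QuotientGroup.eq_one_iff x
  obtain ⟨Qb, hQb1, hQb2, hQb3, hQb4⟩ := h (P.mapSurjective hπs)
  rw [Sylow.coe_mapSurjective] at hQb1 hQb2 hQb3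
  have hZP : Z ≤ (P : Subgroup G) := le_sylow_of_normal Z hZ P
  have hPmem : ∀ x : G, π x ∈ (P : Subgroup G).map π → x ∈ (P : Subgroup G) := by
    rintro x ⟨y, hy, hyx⟩
    have h1 : π (y⁻¹ * x) = 1 := by rw [map_mul, map_inv, hyx, inv_mul_cancel]
    have h2 := hZP ((hπ1 _).1 h1)
    have := mul_mem hy h2
    simpa using this
  have hNQ : normalizer ((Qb.comap π : Subgroup G) : Set G) = (normalizer (Qb : Set (G ⧸ Z))).comap π := by
    ext x
    rw [mem_comap, mem_normalizer_iff, mem_normalizer_iff]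
    constructor
    · intro h1 y
      obtain ⟨y, rfl⟩ := hπs y
      simpa using h1 y
    · intro h1 y
      simpa using h1 (π y)
  have hPQ : (P : Subgroup G) ≤ normalizer ((Qb.comap π : Subgroup G) : Set G) := by
    rw [hNQ]
    intro x hx
    exact hQb2 ⟨x, hx, rfl⟩
  refine ⟨Qb.comap π, ?_, ?_, hPQ, ?_, ?_⟩
  · intro z hz
    rw [mem_comap, (hπ1 z).2 hz]
    exact one_mem _
  · intro x hx
    exact hPmem x (hQb1 hx)
  · -- control
    have step : ∀ X : Subgroup G, X ≤ P → Z ≤ X →
        ¬ p ∣ ((P : Subgroup G) ⊓ normalizer (X : Set G)).relIndex (normalizer (X : Set G)) →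
        ∀ g ∈ normalizer (X : Set G), Dec (normalizer ((Qb.comap π : Subgroup G) : Set G)) X g := by
      intro X hXP hZX hfull g hg
      have hXb : (X.map π).map (MulAut.conj (π g)).toMonoidHom ≤ (P : Subgroup G).map π := by
        rintro _ ⟨_, ⟨x, hx, rfl⟩, rfl⟩
        refine ⟨g * x * g⁻¹, hXP ((mem_normalizer_iff.1 hg x).1 hx), ?_⟩
        simp
      obtain ⟨hb, hhb, cb, hcb, hgb⟩ := hQb3 (X.map π) (Subgroup.map_mono hXP) (π g) hXb
      obtain ⟨h, rfl⟩ := hπs hb
      set D : Subgroup G := (centralizer ((X.map π : Subgroup (G ⧸ Z)) : Set (G ⧸ Z))).comap π with hD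
      have hdD : h⁻¹ * g ∈ D := by
        rw [hD, mem_comap, map_mul, map_inv, hgb]
        simpa using hcb
      have hDstab : ∀ d ∈ D, ∀ x ∈ X, x⁻¹ * (d * x * d⁻¹) ∈ Z := by
        intro d hd x hx
        rw [← hπ1]
        have h1 := (mem_centralizer_iff.1 (show π d ∈ centralizer _ from hd)) (π x) ⟨x, hx, rfl⟩
        rw [map_mul, map_mul, map_mul, map_inv, map_inv, ← h1]
        group
      have hDN : D ≤ normalizer (X : Set G) := by
        intro d hd
        rw [mem_normalizer_iff_map_conj]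
        apply map_conj_le_of_le_normalizer
        rintro _ ⟨x, hx, rfl⟩
        have h1 := mul_mem hx (hZX (hDstab d hd x hx))
        have e : x * (x⁻¹ * (d * x * d⁻¹)) = (MulAut.conj d).toMonoidHom x := by
          simp [mul_assoc]
        rwa [e] at h1
      have hND : normalizer (X : Set G) ≤ normalizer (D : Set G) := by
        rw [le_normalizer_iff]
        intro n hn d hd
        rw [hD, mem_comap, mem_centralizer_iff]
        rintro _ ⟨x, hx, rfl⟩
        have hx' : n⁻¹ * x * n ∈ X := by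
          have := (mem_normalizer_iff.1 (inv_mem hn) x).1 hx
          simpa using this
        have h1 := (mem_centralizer_iff.1 (show π d ∈ centralizer _ from hd)) (π (n⁻¹ * x * n)) ⟨_, hx', rfl⟩
        have h2 := congrArg (fun t => π n * t * (π n)⁻¹) h1
        simpa [mul_assoc] using h2
      have hCD : centralizer (X : Set G) ≤ D := by
        intro c hc
        rw [hD, mem_comap, mem_centralizer_iff]
        rintro _ ⟨x, hx, rfl⟩
        rw [← map_mul, ← map_mul, (mem_centralizer_iff.1 hc) x hx]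
      have hidx := Walter.GlaubermanFusion.not_dvd_relIndex_inf (p := p) hDN hND hfull
      obtain ⟨s, hs, c, hc, hsc⟩ := Walter.GlaubermanFusion.exists_mul_of_pprime_mem (p := p) inf_le_right hidx hCD
        (hDN.trans (normalizer_le_normalizer_centralizer X)) (by
          intro d hd ho
          refine mem_centralizer_of_stab (Y := Z) (P.isPGroup'.to_le hXP) ho ?_ ?_
          · rw [mem_centralizer_iff]
            intro z hz
            exact (mem_center_iff.1 (hZc hz) d).symm
          · intro x hx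
            exact mem_inf.2 ⟨hDstab d hd x hx, hZX (hDstab d hd x hx)⟩) hdD
      refine ⟨h * s, mul_mem ?_ (hPQ hs.1.1), c, hc, ?_⟩
      · rw [hNQ]; exact hhb
      · rw [mul_assoc, ← hsc]; group
    intro A hA g hg
    refine dec_of_conj P ?_ ?_ hA hg
    · refine step P le_rfl hZP ?_
      rw [inf_eq_left.2 le_normalizer]
      intro hd
      exact P.not_dvd_index (hd.trans (relIndex_dvd_index_of_le le_normalizer))
    · intro X hX
      refine step X hX.lt.le ?_ hX.full
      intro z hz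
      refine hX.centric (mem_inf.2 ⟨?_, hZP hz⟩)
      rw [mem_centralizer_iff]
      intro x _
      exact mem_center_iff.1 (hZc hz) x
  · rintro y hy ⟨k, hk⟩
    refine hQb4 (π y) ?_ ⟨k, by rw [← map_pow, hk, map_one]⟩
    rw [mem_centralizer_iff]
    intro q hq
    obtain ⟨q, rfl⟩ := hπs q
    rw [← map_mul, ← map_mul, (mem_centralizer_iff.1 hy) q hq]

/-- Groups with a normal abelian `p`-subgroup. -/
theorem concl_of_normal (Z : Subgroup G) [hZn : Z.Normal] (hZ : IsPGroup p Z)
    (hZab : Z ≤ centralizer (Z : Set G))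
    (h : Concl p (↥(centralizer (Z : Set G)) ⧸ (Z.subgroupOf (centralizer (Z : Set G))))) (P : Sylow p G) :
    ∃ Q : Subgroup G, Z ≤ Q ∧ Q ≤ P ∧ (P : Subgroup G) ≤ normalizer (Q : Set G) ∧
      Ctl (P : Subgroup G) (normalizer (Q : Set G)) ∧ Cen p Q := by
  set C : Subgroup G := centralizer (Z : Set G) with hC
  have hCn : C.Normal := by rw [hC]; infer_instance
  have hSi : ¬ p ∣ ((P : Subgroup G) ⊓ C).relIndex C := not_dvd_inf_relIndex C P
  have hSp : IsPGroup p (((P : Subgroup G) ⊓ C).subgroupOf C) :=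
    (P.isPGroup'.to_le inf_le_left).comap_of_injective C.subtype C.subtype_injective
  let S : Sylow p C := hSp.toSylow hSi
  have hS : ∀ x : C, x ∈ (S : Subgroup C) ↔ (x : G) ∈ (P : Subgroup G) := by
    intro x
    change (x : G) ∈ (P : Subgroup G) ⊓ C ↔ _
    exact ⟨fun h => h.1, fun h => ⟨h, x.2⟩⟩
  obtain ⟨Q', hZQ', hQ'S, hSQ', hctl', hcen'⟩ := concl_of_quotient (Z.subgroupOf C)
    (hZ.comap_of_injective C.subtype C.subtype_injective) (by
      intro z hz
      rw [mem_center_iff]
      intro x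
      exact Subtype.ext ((mem_centralizer_iff.1 x.2) z hz).symm) h S
  set V : Subgroup G := Q'.map C.subtype with hV
  have hVP : V ≤ (P : Subgroup G) ⊓ C := by
    rintro _ ⟨x, hx, rfl⟩
    exact mem_inf.2 ⟨(hS x).1 (hQ'S hx), x.2⟩
  have hNV : ∀ x : C, x ∈ normalizer (Q' : Set C) → (x : G) ∈ normalizer (V : Set G) := by
    intro x hx
    rw [mem_normalizer_iff_map_conj]
    apply map_conj_le_of_le_normalizer
    rintro _ ⟨_, ⟨v, hv, rfl⟩, rfl⟩
    exact ⟨x * v * x⁻¹, (mem_normalizer_iff.1 hx v).1 hv, by simp⟩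
  have hctrl : ∀ A : Subgroup G, A ≤ (P : Subgroup G) ⊓ C → ∀ n ∈ C,
      A.map (MulAut.conj n).toMonoidHom ≤ (P : Subgroup G) ⊓ C →
      ∃ h ∈ C ⊓ normalizer (V : Set G), ∃ c ∈ C ⊓ centralizer (A : Set G), n = h * c := by
    intro A hA n hn hAn
    obtain ⟨h, hh, c, hc, hhc⟩ := hctl' (A.subgroupOf C) (by
        intro x hx
        exact (hS x).2 (hA (show (x : G) ∈ A from hx)).1) ⟨n, hn⟩ (by
        rintro _ ⟨x, hx, rfl⟩
        rw [hS]
        have hx' : (x : G) ∈ A := hx
        exact (hAn (conj_mem_map_conj hx' n)).1)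
    refine ⟨h, mem_inf.2 ⟨h.2, hNV h hh⟩, c, mem_inf.2 ⟨c.2, ?_⟩, congrArg Subtype.val hhc⟩
    rw [mem_centralizer_iff]
    intro a ha
    have h1 := (mem_centralizer_iff.1 hc) ⟨a, (hA ha).2⟩ (show a ∈ A from ha)
    exact congrArg Subtype.val h1
  obtain ⟨hW1, hW2, hW3⟩ := normal_lift C P V hVP hctrl _ rfl
  set W : Subgroup G := closure (⋃ x ∈ normalizer (((P : Subgroup G) ⊓ C : Subgroup G) : Set G),
      ((V.map (MulAut.conj x).toMonoidHom : Subgroup G) : Set G)) with hW
  have hVW : V ≤ W := by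
    intro v hv
    apply Subgroup.subset_closure
    simp only [Set.mem_iUnion]
    refine ⟨1, one_mem _, ?_⟩
    rw [map_conj_one]
    exact hv
  have hZV : Z ≤ V := by
    intro z hz
    exact ⟨⟨z, hZab hz⟩, hZQ' hz, rfl⟩
  have hPPC : (P : Subgroup G) ≤ normalizer (((P : Subgroup G) ⊓ C : Subgroup G) : Set G) := by
    rw [le_normalizer_iff]
    intro x hx y hy
    exact mem_inf.2 ⟨mul_mem (mul_mem hx hy.1) (inv_mem hx), hCn.conj_mem _ hy.2 _⟩
  refine ⟨W, hZV.trans hVW, hW1.trans inf_le_left, hPPC.trans hW2, hW3, ?_⟩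
  rintro y hy ⟨k, hk⟩
  have hyV : y ∈ centralizer (V : Set G) := centralizer_le (by exact_mod_cast hVW) hy
  have hyC : y ∈ C := centralizer_le (by exact_mod_cast hZV) hyV
  apply hVW
  refine ⟨⟨y, hyC⟩, hcen' ⟨y, hyC⟩ ?_ ⟨k, Subtype.ext (by simpa using hk)⟩, rfl⟩
  rw [mem_centralizer_iff]
  intro q hq
  exact Subtype.ext ((mem_centralizer_iff.1 hyV) q ⟨q, hq, rfl⟩)

/-- **Main induction.** -/
theorem concl_of_free {p : ℕ} [hp : Fact p.Prime] (hp2 : p ≠ 2) (n : ℕ) :
    ∀ (G : Type u) [Group G] [Finite G], Nat.card G ≤ n → Free p G → Concl p G := by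
  induction n with
  | zero =>
    intro G _ _ hn _
    exact absurd hn (by have : 0 < Nat.card G := Nat.card_pos; omega)
  | succ n ih =>
    intro G _ _ hn hfree P
    by_cases hP : (P : Subgroup G) = ⊥
    · refine ⟨⊥, bot_le, ?_, ?_, ?_⟩
      · rw [hP]; exact le_normalizer
      · intro A _ g _
        refine ⟨g, ?_, 1, one_mem _, by simp⟩
        rw [mem_normalizer_iff_map_conj, Subgroup.map_bot]
      · rintro y - ⟨k, hk⟩
        have hpg : IsPGroup p (zpowers y) := by
          rintro ⟨x, hx⟩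
          obtain ⟨i, rfl⟩ := mem_zpowers_iff.1 hx
          refine ⟨k, Subtype.ext ?_⟩
          change (y ^ i) ^ p ^ k = 1
          rw [← zpow_natCast, ← zpow_mul, mul_comm, zpow_mul, zpow_natCast, hk, one_zpow]
        obtain ⟨R, hR⟩ := hpg.exists_le_sylow
        obtain ⟨g, hg⟩ := MulAction.exists_smul_eq G P R
        have h1 : (R : Subgroup G) = ⊥ := by
          rw [← hg, Sylow.coe_subgroup_smul, hP]
          ext x; simp
        rw [h1] at hR
        exact hR (mem_zpowers y)
    set Z : Subgroup G := centerThompsonAOf (P : Subgroup G) with hZdef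
    have hZP : Z ≤ P := PLocal.ThompsonJA.centerThompsonAOf_le _
    have hZ1 : Z ≠ ⊥ := PLocal.ThompsonJA.centerThompsonAOf_ne_bot _ P.isPGroup' hP
    have hZp : IsPGroup p Z := P.isPGroup'.to_le hZP
    have hZab : Z ≤ centralizer (Z : Set G) := by
      intro z hz
      rw [mem_centralizer_iff]
      intro y hy
      exact (PLocal.ThompsonJA.isMulCommutative_iff _).1
        (PLocal.ThompsonJA.isMulCommutative_centerThompsonAOf (P : Subgroup G)) y hy z hz
    set N : Subgroup G := normalizer (Z : Set G) with hN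
    have hPN : (P : Subgroup G) ≤ N :=
      le_normalizer.trans (PLocal.ThompsonJA.normalizer_le_normalizer_centerThompsonAOf _)
    have hZN : Z ≤ N := le_normalizer
    have hCN : centralizer (Z : Set G) ≤ N := centralizer_le_normalizer _
    let P₁ : Sylow p N := P.subtype hPN
    have hP₁ : ∀ x : N, x ∈ (P₁ : Subgroup N) ↔ (x : G) ∈ (P : Subgroup G) := fun x => Iff.rfl
    set Z₁ : Subgroup N := Z.subgroupOf N with hZ₁
    have hZ₁n : Z₁.Normal := by rw [hZ₁, hN]; infer_instance
    have hZ₁p : IsPGroup p Z₁ := hZp.comap_of_injective N.subtype N.subtype_injective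
    have hZ₁ab : Z₁ ≤ centralizer (Z₁ : Set N) := by
      intro z hz
      rw [mem_centralizer_iff]
      intro y hy
      exact Subtype.ext ((mem_centralizer_iff.1 (hZab (show (z : G) ∈ Z from hz))) y hy)
    have hfreeC : Free p ↥(centralizer (Z₁ : Set N)) := (hfree.of_subgroup N).of_subgroup _
    have hZC : IsPGroup p (Z₁.subgroupOf (centralizer (Z₁ : Set N))) :=
      hZ₁p.comap_of_injective _ (Subgroup.subtype_injective _)
    have hfreeQ : Free p (↥(centralizer (Z₁ : Set N)) ⧸ Z₁.subgroupOf (centralizer (Z₁ : Set N))) := by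
      refine hfreeC.of_surjective (QuotientGroup.mk' _) (QuotientGroup.mk'_surjective _) ?_
      rw [QuotientGroup.ker_mk']
      exact hZC
    have hcard : Nat.card (↥(centralizer (Z₁ : Set N)) ⧸ Z₁.subgroupOf (centralizer (Z₁ : Set N))) ≤ n := by
      have h1 := Subgroup.card_eq_card_quotient_mul_card_subgroup (Z₁.subgroupOf (centralizer (Z₁ : Set N)))
      have h2 : Nat.card ↥(centralizer (Z₁ : Set N)) ≤ Nat.card N := Subgroup.card_le_card_group _
      have h3 : Nat.card N ≤ Nat.card G := Subgroup.card_le_card_group _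
      have h4 : 1 < Nat.card (Z₁.subgroupOf (centralizer (Z₁ : Set N))) := by
        rw [Subgroup.one_lt_card_iff_ne_bot]
        intro hbot
        apply hZ1
        rw [eq_bot_iff]
        intro z hz
        have h5 : (⟨⟨z, hZN hz⟩, hZ₁ab (show (⟨z, hZN hz⟩ : N) ∈ Z₁ from hz)⟩ : ↥(centralizer (Z₁ : Set N))) ∈
            Z₁.subgroupOf (centralizer (Z₁ : Set N)) := hz
        rw [hbot, mem_bot] at h5
        rw [mem_bot]
        exact congrArg (fun t : ↥(centralizer (Z₁ : Set N)) => ((t : N) : G)) h5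
      have h5 : 0 < Nat.card (↥(centralizer (Z₁ : Set N)) ⧸ Z₁.subgroupOf (centralizer (Z₁ : Set N))) :=
        Nat.card_pos
      nlinarith
    obtain ⟨W₁, hZW₁, hW₁P, hPW₁, hctl₁, hcen₁⟩ := concl_of_normal Z₁ hZ₁p hZ₁ab (ih _ hcard hfreeQ) P₁
    set W : Subgroup G := W₁.map N.subtype with hW
    have hNW : ∀ x : N, x ∈ normalizer (W₁ : Set N) → (x : G) ∈ normalizer (W : Set G) := by
      intro x hx
      rw [mem_normalizer_iff_map_conj]
      apply map_conj_le_of_le_normalizer
      rintro _ ⟨_, ⟨v, hv, rfl⟩, rfl⟩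
      exact ⟨x * v * x⁻¹, (mem_normalizer_iff.1 hx v).1 hv, by simp⟩
    have hZW : Z ≤ W := by
      intro z hz
      exact ⟨⟨z, hZN hz⟩, hZW₁ hz, rfl⟩
    refine ⟨W, ?_, ?_, ?_, ?_⟩
    · rintro _ ⟨x, hx, rfl⟩
      exact (hP₁ x).1 (hW₁P hx)
    · intro x hx
      exact hNW ⟨x, hPN hx⟩ (hPW₁ ((hP₁ _).2 hx))
    · intro A hA g hg
      obtain ⟨m, hm, c, hc, rfl⟩ := Walter.GlaubermanFusion.ctrl hp2 (Nat.card G) G le_rfl
        hfree.not_involves P A g hA hg
      rw [← map_conj_map_conj, map_conj_of_mem_centralizer hc] at hg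
      obtain ⟨h, hh, d, hd, hhd⟩ := hctl₁ (A.subgroupOf N) (by
        intro x hx
        exact (hP₁ x).2 (hA (show (x : G) ∈ A from hx))) ⟨m, hm⟩ (by
        rintro _ ⟨x, hx, rfl⟩
        rw [hP₁]
        have hx' : (x : G) ∈ A := hx
        exact hg (conj_mem_map_conj hx' m))
      have hdA : (d : G) ∈ centralizer (A : Set G) := by
        rw [mem_centralizer_iff]
        intro a ha
        have h1 := (mem_centralizer_iff.1 hd) ⟨a, hPN (hA ha)⟩ (show a ∈ A from ha)
        exact congrArg Subtype.val h1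
      refine ⟨h, hNW h hh, d * c, mul_mem hdA hc, ?_⟩
      have h1 : m = h * d := congrArg Subtype.val hhd
      rw [h1, mul_assoc]
    · rintro y hy ⟨k, hk⟩
      have hyN : y ∈ N := hCN (centralizer_le (by exact_mod_cast hZW) hy)
      refine ⟨⟨y, hyN⟩, hcen₁ ⟨y, hyN⟩ ?_ ⟨k, Subtype.ext (by simpa using hk)⟩, rfl⟩
      rw [mem_centralizer_iff]
      intro q hq
      exact Subtype.ext ((mem_centralizer_iff.1 hy) q ⟨q, hq, rfl⟩)

end Cfsg.Agent.H30.CentricControl
end

-- part: S1953
section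
set_option autoImplicit false
open Cfsg

namespace Cfsg.Agent.S1953

open Cfsg.Agent.Lib.GoldschmidtFusion Cfsg.Agent.Lib.EssentialFusion
open Cfsg.Agent.H30.StrongFusion Cfsg.Agent.H30.LeastCR Cfsg.Agent.H30.SlFree Cfsg.Agent.H30.CentricControl

/-- Let p be an odd prime and P a Sylow p-subgroup of the finite group G, and suppose that for no p-subgroup Q of G does N_G(Q)/C_G(Q) have a section isomorphic to SL₂(p). Call a subgroup Q of P centric-radical when Z(Q) is a Sylow p-subgroup of C_G(Q) and the only normal subgroup X of N_G(Q) containing Q·C_G(Q) such that the index of Q·C_G(Q) in X is a power of p is Q·C_G(Q) itself (that is, N_G(Q)/Q·C_G(Q) has no nontrivial normal p-subgroup). Then there is a centric-radical subgroup Q of P contained in every centric-radical subgroup of P; it is normal in P, and N_G(Q) controls strong fusion in P: whenever a subgroup A of P has g A g⁻¹ ≤ P, the element g is a product h c with h in N_G(Q) and c centralizing A. -/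
theorem result {G : Type*} [Group G] [Finite G] {p : ℕ} [Fact p.Prime] (hp : p ≠ 2) (P : Sylow p G)
    (hfree : ∀ Q : Subgroup G, IsPGroup p ↥Q → ¬ ∃ (H K : Subgroup G) (_ : (K.subgroupOf H).Normal),
      Subgroup.centralizer (Q : Set G) ≤ K ∧ K ≤ H ∧ H ≤ Subgroup.normalizer (Q : Set G) ∧
      Nonempty ((↥H ⧸ K.subgroupOf H) ≃* Matrix.SpecialLinearGroup (Fin 2) (ZMod p)))
    (cr : Subgroup G → Prop)
    (hcr : ∀ Q : Subgroup G, cr Q ↔ (Q ≤ (P : Subgroup G) ∧
      (∃ R : Sylow p ↥(Subgroup.centralizer (Q : Set G)),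
        (R : Subgroup ↥(Subgroup.centralizer (Q : Set G))).map (Subgroup.centralizer (Q : Set G)).subtype = Q ⊓ Subgroup.centralizer (Q : Set G)) ∧
      ∀ X : Subgroup G, X ≤ Subgroup.normalizer (Q : Set G) →
        (∀ n ∈ Subgroup.normalizer (Q : Set G), X.map (MulAut.conj n).toMonoidHom = X) →
        Q ⊔ Subgroup.centralizer (Q : Set G) ≤ X → (∃ k : ℕ, (Q ⊔ Subgroup.centralizer (Q : Set G)).relIndex X = p ^ k) →
        X = Q ⊔ Subgroup.centralizer (Q : Set G))) :
    ∃ Q : Subgroup G, cr Q ∧ (∀ R : Subgroup G, cr R → Q ≤ R) ∧ (∀ x ∈ (P : Subgroup G), Q.map (MulAut.conj x).toMonoidHom = Q) ∧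
      ∀ A : Subgroup G, A ≤ (P : Subgroup G) → ∀ g : G, A.map (MulAut.conj g).toMonoidHom ≤ (P : Subgroup G) →
        ∃ h ∈ Subgroup.normalizer (Q : Set G), ∃ c ∈ Subgroup.centralizer (A : Set G), g = h * c := by
  have hp' : Fact p.Prime := inferInstance
  have hfree' : Free p G := fun Q hQ hA => hfree Q hQ hA.exists_section
  obtain ⟨Q₀, h1, h2, h3, h4⟩ := concl_of_free hp _ G le_rfl hfree' P
  obtain ⟨Q, hQP, hPQ, hctl, hcen, hmax⟩ := exists_max P h1 h2 h3 h4
  have hQp : IsPGroup p Q := P.isPGroup'.to_le hQP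
  refine ⟨Q, ?_, ?_, ?_, hctl⟩
  · rw [hcr]
    refine ⟨hQP, ?_, ?_⟩
    · obtain ⟨R⟩ : Nonempty (Sylow p ↥(Subgroup.centralizer (Q : Set G))) := inferInstance
      refine ⟨R, ?_⟩
      have hle : (R : Subgroup ↥(Subgroup.centralizer (Q : Set G))) ≤
          (Q ⊓ Subgroup.centralizer (Q : Set G)).subgroupOf (Subgroup.centralizer (Q : Set G)) := by
        intro x hx
        obtain ⟨k, hk⟩ := R.isPGroup' ⟨x, hx⟩
        have hk' : (x : G) ^ p ^ k = 1 := by
          simpa using congrArg (fun t : R => ((t : ↥(Subgroup.centralizer (Q : Set G))) : G)) hk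
        exact ⟨hcen x x.2 ⟨k, hk'⟩, x.2⟩
      have hpg : IsPGroup p ((Q ⊓ Subgroup.centralizer (Q : Set G)).subgroupOf (Subgroup.centralizer (Q : Set G))) :=
        (hQp.to_le inf_le_left).comap_of_injective _ (Subgroup.subtype_injective _)
      have hEq := R.is_maximal' hpg hle
      change (R : Subgroup ↥(Subgroup.centralizer (Q : Set G))).map _ = _
      rw [show (R : Subgroup ↥(Subgroup.centralizer (Q : Set G))) = _ from hEq.symm,
        Subgroup.subgroupOf_map_subtype, inf_eq_left.2 inf_le_right]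
    · intro X hX hXn hQX hk
      refine hmax X hX ?_ hQX hk
      intro n hn
      exact mem_normalizer_iff_map_conj.2 (hXn n hn)
  · intro E hE
    rw [hcr] at hE
    obtain ⟨hEP, ⟨R, hR⟩, hErad⟩ := hE
    have hcE : Subgroup.centralizer (E : Set G) ⊓ P ≤ E := by
      rintro y ⟨hy, hyP⟩
      -- `⟨y⟩` is a `p`-subgroup of `C(E)`
      have hRn : (R : Subgroup ↥(Subgroup.centralizer (E : Set G))).Normal := by
        constructor
        intro r hr c
        have hrE : (r : G) ∈ E ⊓ Subgroup.centralizer (E : Set G) := by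
          rw [← hR]; exact ⟨r, hr, rfl⟩
        have h5 : c * r * c⁻¹ = r := by
          apply Subtype.ext
          exact conj_eq_of_mem_centralizer c.2 hrE.1
        rw [h5]; exact hr
      obtain ⟨k, hk⟩ := P.isPGroup' ⟨y, hyP⟩
      have hk' : y ^ p ^ k = 1 := by simpa using congrArg Subtype.val hk
      have hpg : IsPGroup p (Subgroup.zpowers (⟨y, hy⟩ : ↥(Subgroup.centralizer (E : Set G)))) := by
        rintro ⟨x, hx⟩
        obtain ⟨i, rfl⟩ := Subgroup.mem_zpowers_iff.1 hx
        refine ⟨k, Subtype.ext ?_⟩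
        change ((⟨y, hy⟩ : ↥(Subgroup.centralizer (E : Set G))) ^ i) ^ p ^ k = 1
        rw [← zpow_natCast, ← zpow_mul, mul_comm, zpow_mul, zpow_natCast,
          show (⟨y, hy⟩ : ↥(Subgroup.centralizer (E : Set G))) ^ p ^ k = 1 from Subtype.ext (by simpa using hk'),
          one_zpow]
      have h6 : Subgroup.zpowers (⟨y, hy⟩ : ↥(Subgroup.centralizer (E : Set G))) ≤
          (R : Subgroup ↥(Subgroup.centralizer (E : Set G))) := by
        have h7 : IsPGroup p ((R : Subgroup ↥(Subgroup.centralizer (E : Set G))) ⊔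
            Subgroup.zpowers (⟨y, hy⟩ : ↥(Subgroup.centralizer (E : Set G))) : Subgroup _) :=
          R.isPGroup'.to_sup_of_normal_left hpg
        have h8 := R.is_maximal' h7 le_sup_left
        exact h8 ▸ le_sup_right
      have h7 : y ∈ E ⊓ Subgroup.centralizer (E : Set G) := by
        rw [← hR]
        exact ⟨⟨y, hy⟩, h6 (Subgroup.mem_zpowers _), rfl⟩
      exact h7.1
    have hErad' : Rad p E := by
      intro A hA hNA hpow
      set X : Subgroup G := A ⊔ XC E with hX
      have hXN : X ≤ Subgroup.normalizer (E : Set G) := sup_le hA (XC_le_normalizer E)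
      have h5 : X = E ⊔ Subgroup.centralizer (E : Set G) := by
        refine hErad X hXN ?_ le_sup_right ?_
        · intro n hn
          rw [hX, Subgroup.map_sup, map_conj_XC hn, mem_normalizer_iff_map_conj.1 (hNA hn)]
        · have hn : ((XC E).subgroupOf X).Normal := by
            rw [Subgroup.normal_subgroupOf_iff_le_normalizer le_sup_right]
            intro g hg
            rw [mem_normalizer_iff_map_conj]
            exact map_conj_XC (hXN hg)
          have hpg : IsPGroup p (X ⧸ (XC E).subgroupOf X) := by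
            intro x
            obtain ⟨⟨y, hy⟩, rfl⟩ := QuotientGroup.mk_surjective x
            have hy' : y ∈ ((A ⊔ XC E : Subgroup G) : Set G) := hy
            rw [Subgroup.coe_mul_of_left_le_normalizer_right _ _ (by
              intro a ha
              rw [mem_normalizer_iff_map_conj]
              exact map_conj_XC (hA ha))] at hy'
            obtain ⟨a, ha, c, hc, rfl⟩ := Set.mem_mul.1 hy'
            obtain ⟨k, hk⟩ := hpow a ha
            refine ⟨k, ?_⟩
            have haX : a ∈ X := (le_sup_left : A ≤ X) ha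
            have hcX : c ∈ X := (le_sup_right : XC E ≤ X) hc
            have h6 : (QuotientGroup.mk (⟨a * c, hy⟩ : X) : X ⧸ (XC E).subgroupOf X) =
                QuotientGroup.mk (⟨a, haX⟩ : X) := by
              rw [QuotientGroup.eq, Subgroup.mem_subgroupOf]
              have h7 : (((⟨a * c, hy⟩ : X)⁻¹ * ⟨a, haX⟩ : X) : G) = c⁻¹ := by
                change (a * c)⁻¹ * a = c⁻¹
                group
              rw [h7]
              exact inv_mem hc
            rw [h6, ← QuotientGroup.mk_pow, QuotientGroup.eq_one_iff, Subgroup.mem_subgroupOf]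
            exact centralizer_le_XC E (by simpa using hk)
          obtain ⟨n, hn'⟩ := IsPGroup.iff_card.1 hpg
          exact ⟨n, hn'⟩
      have h6 : A ≤ X := le_sup_left
      rw [h5] at h6
      exact h6
    exact le_of_rad hQP hPQ hctl hEP hcE hErad'
  · intro x hx
    exact mem_normalizer_iff_map_conj.1 (hPQ hx)

end Cfsg.Agent.S1953
end
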