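import Cfsg.Agent.H810.KMMain
import Cfsg.Statements.S2029
set_option linter.all false

-- part: H810/KMFinal
section
/-!
# The theorem of Klinger and Mason, the end of the proof (helper810)
-/

set_option autoImplicit false

namespace Cfsg.Agent.H810.KM

open Subgroup
open scoped commutatorElement
open Cfsg.Agent.SignalizersComponents.GoldschmidtGen (le_normalizer_of_conj_mem
  conj_mem_of_le_normalizer)

variable {G : Type*} [Group G]

theorem mem_centralizer_zpowers {z r : G} :
    r ∈ centralizer ((zpowers z : Subgroup G) : Set G) ↔ r * z = z * r := by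
  rw [mem_centralizer_iff]
  constructor
  · intro h
    exact (h z (Subgroup.mem_zpowers z)).symm
  · rintro h _ ⟨n, rfl⟩
    exact ((show Commute z r from h.symm).zpow_left n).eq

theorem conj_mem_centralizer_zpowers {z g r : G} (hg : z * g = g * z)
    (h : g * r * g⁻¹ ∈ centralizer ((zpowers z : Subgroup G) : Set G)) :
    r ∈ centralizer ((zpowers z : Subgroup G) : Set G) := by
  rw [mem_centralizer_zpowers] at h ⊢
  have h1 : g * (r * z) * g⁻¹ = g * (z * r) * g⁻¹ := by
    have hg' : g⁻¹ * z = z * g⁻¹ := by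
      rw [inv_mul_eq_iff_eq_mul, ← mul_assoc, ← hg, mul_inv_cancel_right]
    calc g * (r * z) * g⁻¹ = g * r * (z * g⁻¹) := by group
      _ = g * r * g⁻¹ * z := by rw [← hg']; group
      _ = z * (g * r * g⁻¹) := h
      _ = (z * g) * r * g⁻¹ := by group
      _ = g * (z * r) * g⁻¹ := by rw [hg]; group
  exact mul_left_cancel (mul_right_cancel h1)

/-- the four complements of `⟨z⟩` in `⟨z, t, s⟩` are conjugate -/
theorem Four.exists_conj [Finite G] {T₁ V A : Subgroup G} {z a t s x y : G}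
    (F : Four T₁ V z a t s x y) (E : Ex A T₁ z) (_hzt : z * t = t * z) (_hzs : z * s = s * z)
    {K : Subgroup G} (_hK : K ≤ V ⊔ zpowers z)
    (hi : K.relIndex (V ⊔ zpowers z) = 2) (hzK : z ∉ K) :
    ∃ g ∈ T₁, ∀ r ∈ centralizer (K : Set G), g * r * g⁻¹ ∈ centralizer (V : Set G) := by
  have hzm : z ∈ V ⊔ zpowers z := mem_sup_right (Subgroup.mem_zpowers z)
  have htm : t ∈ V ⊔ zpowers z := by
    apply mem_sup_left; rw [F.gen]; exact mem_sup_left (Subgroup.mem_zpowers t)
  have hsm : s ∈ V ⊔ zpowers z := by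
    apply mem_sup_left; rw [F.gen]; exact mem_sup_right (Subgroup.mem_zpowers s)
  have hor : ∀ u ∈ V ⊔ zpowers z, u ∈ K ∨ z * u ∈ K := by
    intro u hu
    by_cases h : u ∈ K
    · exact Or.inl h
    · right
      have h1 := (Subgroup.mul_mem_iff_of_index_two (H := K.subgroupOf (V ⊔ zpowers z)) hi
        (a := ⟨z, hzm⟩) (b := ⟨u, hu⟩)).2 (by
          rw [mem_subgroupOf, mem_subgroupOf]
          exact ⟨fun h' => absurd h' hzK, fun h' => absurd h' h⟩)
      rw [mem_subgroupOf] at h1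
      exact h1
  have hzx : x * z * x⁻¹ = z := by rw [← E.zc x F.hx, mul_inv_cancel_right]
  have hzy : y * z * y⁻¹ = z := by rw [← E.zc y F.hy, mul_inv_cancel_right]
  have key : ∀ g : G, ∀ t' ∈ K, ∀ s' ∈ K, g * t' * g⁻¹ = t → g * s' * g⁻¹ = s →
      ∀ r ∈ centralizer (K : Set G), g * r * g⁻¹ ∈ centralizer (V : Set G) := by
    intro g t' ht' s' hs' e1 e2 r hr
    rw [mem_centralizer_iff] at hr
    have h1 : V ≤ centralizer ({g * r * g⁻¹} : Set G) := by
      rw [F.gen]
      refine sup_le ?_ ?_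
      · rw [zpowers_le, mem_centralizer_singleton_iff, ← e1]
        calc g * t' * g⁻¹ * (g * r * g⁻¹) = g * (t' * r) * g⁻¹ := by group
          _ = g * r * g⁻¹ * (g * t' * g⁻¹) := by rw [hr t' ht']; group
      · rw [zpowers_le, mem_centralizer_singleton_iff, ← e2]
        calc g * s' * g⁻¹ * (g * r * g⁻¹) = g * (s' * r) * g⁻¹ := by group
          _ = g * r * g⁻¹ * (g * s' * g⁻¹) := by rw [hr s' hs']; group
    rw [mem_centralizer_iff]
    intro v hv
    exact mem_centralizer_singleton_iff.1 (h1 hv)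
  have hzzt : ∀ u : G, z * (z * u) = u := fun u => by rw [← mul_assoc, E.zz, one_mul]
  rcases hor t htm with h1 | h1 <;> rcases hor s hsm with h2 | h2
  · exact ⟨1, one_mem _, key 1 t h1 s h2 (by group) (by group)⟩
  · refine ⟨x, F.hx, key x t h1 (z * s) h2 F.xt ?_⟩
    calc x * (z * s) * x⁻¹ = (x * z * x⁻¹) * (x * s * x⁻¹) := by group
      _ = s := by rw [hzx, F.xs, hzzt]
  · refine ⟨y, F.hy, key y (z * t) h1 s h2 ?_ F.ys⟩
    calc y * (z * t) * y⁻¹ = (y * z * y⁻¹) * (y * t * y⁻¹) := by group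
      _ = t := by rw [hzy, F.yt, hzzt]
  · refine ⟨x * y, mul_mem F.hx F.hy, key (x * y) (z * t) h1 (z * s) h2 ?_ ?_⟩
    · calc x * y * (z * t) * (x * y)⁻¹ = x * ((y * z * y⁻¹) * (y * t * y⁻¹)) * x⁻¹ := by group
        _ = t := by rw [hzy, F.yt, hzzt, F.xt]
    · calc x * y * (z * s) * (x * y)⁻¹ = x * ((y * z * y⁻¹) * (y * s * y⁻¹)) * x⁻¹ := by group
        _ = (x * z * x⁻¹) * (x * s * x⁻¹) := by rw [hzy, F.ys]; group
        _ = s := by rw [hzx, F.xs, hzzt]

theorem Pair.three [Finite G] {m : ℕ} {A T₁ T₂ B₁ B₂ : Subgroup G} {z : G}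
    (H : Hyp 3 m G) (P : Pair A T₁ T₂ B₁ B₂ z 3 m) : False := by
  have h3 : Fact (Nat.Prime 3) := ⟨Nat.prime_three⟩
  have hm := H.three
  have hBne : ∀ B : Subgroup G, B.relIndex A = 3 → ¬ A ≤ B := by
    intro B hB hAB
    rw [relIndex_eq_one.2 hAB] at hB
    norm_num at hB
  obtain ⟨a, ha, ha1, ha2⟩ := exists_not_mem_union (hBne B₁ P.B1i) (hBne B₂ P.B2i)
  obtain ⟨V, t, s, x, y, hVT, F⟩ := P.exists_four H ha ha1 ha2
  obtain ⟨j, hj, hjm⟩ := P.exists_D H
  obtain ⟨D, hD⟩ : ∃ D, D = B₁ ⊓ B₂ := ⟨_, rfl⟩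
  rw [← hD] at hj
  have hDA : D ≤ A := by rw [hD]; exact inf_le_left.trans P.B1
  have hDe := elab_le P.hA hDA
  have hDp : IsPGroup 3 D := elab_pgroup hDe
  have hD1 : D ≠ ⊥ := ne_bot_of_card hj (by omega)
  have hTD : T₁ ⊔ T₂ ≤ centralizer (D : Set G) := by
    rw [hD]
    exact sup_le (P.TB1.trans (centralizer_le inf_le_left)) (P.TB2.trans (centralizer_le inf_le_right))
  have htV : t ∈ V := by rw [F.gen]; exact mem_sup_left (Subgroup.mem_zpowers t)
  have hsV : s ∈ V := by rw [F.gen]; exact mem_sup_right (Subgroup.mem_zpowers s)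
  have hcomm : ∀ a ∈ T₁, ∀ b ∈ T₂, a * b = b * a := fun a ha b hb =>
    mem_centralizer_iff.1 (P.TT hb) a ha
  have hzc : ∀ x ∈ T₁ ⊔ T₂, z * x = x * z := by
    intro x hx
    obtain ⟨a, ha, b, hb, rfl⟩ := mem_sup_comm hcomm hx
    calc z * (a * b) = (z * a) * b := by group
      _ = a * (z * b) := by rw [P.E1.zc a ha]; group
      _ = a * b * z := by rw [P.E2.zc b hb]; group
  have hzt := hzc t (hVT htV)
  have hzs := hzc s (hVT hsV)
  -- `O_3(N(D))`
  obtain ⟨R, hR⟩ := H.lcp.exists_core hDp hD1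
  have hzo := P.E1.order
  have hzA : z ∈ centralizer (A : Set G) := mem_centralizer_iff.2 P.E1.zA
  have hzD : zpowers z ≤ centralizer (D : Set G) := by
    rw [zpowers_le]; exact centralizer_le hDA hzA
  have hzco : (Nat.card (zpowers z)).Coprime 3 := by
    rw [Nat.card_zpowers, hzo]; norm_num
  have hnot : ¬ R ⊓ centralizer (D : Set G) ≤ centralizer ((zpowers z : Subgroup G) : Set G) := by
    intro hc
    have h1 := hR.faithful hDp hzco hzD hc
    rw [zpowers_eq_bot] at h1
    exact P.E1.z1 h1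
  obtain ⟨R₁, hR₁⟩ : ∃ R₁, R₁ = R ⊓ centralizer (D : Set G) := ⟨_, rfl⟩
  rw [← hR₁] at hnot
  have hR1p : IsPGroup 3 R₁ := by rw [hR₁]; exact hR.pgroup.to_le inf_le_left
  -- what centralises `D` normalises `R₁`
  have hCN : centralizer (D : Set G) ≤ normalizer (R₁ : Set G) := by
    have h1 : centralizer (D : Set G) ≤ normalizer (D : Set G) := centralizer_le_normalizer _
    rw [hR₁]
    exact le_normalizer_inf (h1.trans hR.norm) (le_normalizer_centralizer h1)
  have hE3 : Cfsg.IsElementaryAbelian 2 (V ⊔ zpowers z) := by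
    refine elab_sup F.el (elab_zpowers (by rw [pow_two]; exact P.E1.zz)) ?_
    rintro v hv _ ⟨n, rfl⟩
    exact ((show Commute v z from (hzc v (hVT hv)).symm).zpow_right n).eq
  have hE3D : V ⊔ zpowers z ≤ centralizer (D : Set G) := sup_le (hVT.trans hTD) hzD
  have hE31 : V ⊔ zpowers z ≠ ⊥ := by
    intro h
    have h1 : z ∈ V ⊔ zpowers z := mem_sup_right (Subgroup.mem_zpowers z)
    rw [h, mem_bot] at h1
    exact P.E1.z1 h1
  obtain ⟨K, hKE, hKi, hK⟩ := exists_noncomm_hyperplane (s := 2) (hs := ⟨Nat.prime_two⟩) hE3 hE31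
    (haveI : Fact (Nat.Prime 2) := ⟨Nat.prime_two⟩
     not_dvd_card_of_isPGroup (s := 2) (by norm_num) hR1p) (hE3D.trans hCN) hnot
  have hzK : z ∉ K := by
    intro h
    apply hK
    refine inf_le_right.trans (centralizer_le ?_)
    show zpowers z ≤ K
    rwa [zpowers_le]
  obtain ⟨g, hg, hgK⟩ := F.exists_conj P.E1 hzt hzs hKE hKi hzK
  have hgD : g ∈ centralizer (D : Set G) := hTD (mem_sup_left hg)
  -- `z` acts non-trivially on `C_{R₁}(V)`
  obtain ⟨Y, hY⟩ : ∃ Y, Y = R₁ ⊓ centralizer (V : Set G) := ⟨_, rfl⟩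
  have hYz : ¬ Y ≤ centralizer ((zpowers z : Subgroup G) : Set G) := by
    intro hc
    apply hK
    intro r hr
    refine conj_mem_centralizer_zpowers (P.E1.zc g hg) (hc ?_)
    rw [hY]
    exact ⟨conj_mem_of_le_normalizer hCN hgD hr.1, hgK r hr.2⟩
  have hYp : IsPGroup 3 Y := by rw [hY]; exact hR1p.to_le inf_le_left
  have haV : zpowers a ≤ normalizer (V : Set G) := by
    rw [zpowers_le]
    refine mem_normalizer_fintype ?_
    have h1 : V ≤ V.comap (MulAut.conj a).toMonoidHom := by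
      nth_rewrite 1 [F.gen]
      refine sup_le ?_ ?_
      · rw [zpowers_le, mem_comap]
        show a * t * a⁻¹ ∈ V
        rw [F.conjt]; exact hsV
      · rw [zpowers_le, mem_comap]
        show a * s * a⁻¹ ∈ V
        rw [F.conjs]; exact mul_mem htV hsV
    exact fun v hv => h1 hv
  have haD : zpowers a ≤ centralizer (D : Set G) := by
    rw [zpowers_le, mem_centralizer_iff]
    intro d hd
    exact elab_comm P.hA (hDA hd) ha
  have hzV : zpowers z ≤ centralizer (V : Set G) := by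
    rw [zpowers_le, mem_centralizer_iff]
    intro v hv
    exact (hzc v (hVT hv)).symm
  have hnorm : ∀ {L : Subgroup G}, L ≤ centralizer (D : Set G) → L ≤ normalizer (V : Set G) →
      L ≤ normalizer (Y : Set G) := by
    intro L h1 h2
    rw [hY]
    exact le_normalizer_inf (h1.trans hCN) (le_normalizer_centralizer h2)
  have haY := hnorm haD haV
  have hzY := hnorm hzD (hzV.trans (centralizer_le_normalizer _))
  have haz : a * z = z * a := P.E1.zA a ha
  have hao : orderOf a = 3 := orderOf_eq_prime (P.hA.2 a ha) (by rintro rfl; exact ha1 (one_mem _))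
  have hYaz : ¬ Y ⊓ centralizer ((zpowers a : Subgroup G) : Set G) ≤
      centralizer ((zpowers z : Subgroup G) : Set G) := by
    intro hc
    apply hYz
    rw [le_centralizer_iff]
    refine Lib.ThompsonPQ.thompson_p_times_q 3 (zpowers a) (zpowers z) Y ?_ hzco hYp ?_ haY hzY hc
    · exact elab_pgroup (elab_zpowers (P.hA.2 a ha))
    · rw [zpowers_le, mem_centralizer_iff]
      rintro _ ⟨n, rfl⟩
      exact ((show Commute a z from haz).symm.zpow_left n).eq
  obtain ⟨y₁, hy₁, hy₁z⟩ := SetLike.not_le_iff_exists.1 hYaz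
  obtain ⟨y0, hy0, hy0o, hy0z⟩ := exists_inverted (q := 3) (by norm_num)
    (hYp.to_le inf_le_left : IsPGroup 3 ↥(Y ⊓ centralizer ((zpowers a : Subgroup G) : Set G)))
    P.E1.zz
    (fun y hy => by
      refine ⟨conj_mem_of_le_normalizer hzY (Subgroup.mem_zpowers z) hy.1, ?_⟩
      have hza : z ∈ centralizer ((zpowers a : Subgroup G) : Set G) :=
        mem_centralizer_zpowers.2 haz.symm
      exact Subgroup.mul_mem _ (Subgroup.mul_mem _ hza hy.2) (Subgroup.inv_mem _ hza))
    ⟨y₁, hy₁, fun h => hy₁z (by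
      rw [mem_centralizer_iff]
      rintro _ ⟨n, rfl⟩
      exact ((show Commute z y₁ from h).zpow_left n).eq)⟩
  -- the new elementary abelian group
  have hy0A : y0 ∉ A := by
    intro h
    have h1 : y0 * z = z * y0 := P.E1.zA y0 h
    rw [← h1, mul_inv_cancel_right] at hy0z
    have h4 : y0 ^ 2 = 1 := by rw [pow_two]; nth_rewrite 2 [hy0z]; exact mul_inv_cancel y0
    have h5 := orderOf_dvd_of_pow_eq_one h4
    rw [hy0o] at h5
    norm_num at h5
  have haD' : a ∉ D := by
    rw [hD]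
    exact fun h => ha1 h.1
  obtain ⟨hD', hD'c⟩ := elab_adjoin hDe hao haD' (fun d hd => elab_comm P.hA (hDA hd) ha)
  have hD'A : D ⊔ zpowers a ≤ A := sup_le hDA (by rwa [zpowers_le])
  have hy0Y : y0 ∈ R₁ ⊓ centralizer (V : Set G) := by rw [← hY]; exact hy0.1
  have hy0D : y0 ∈ centralizer (D : Set G) := by
    have := hy0Y.1
    rw [hR₁] at this
    exact this.2
  obtain ⟨hD'', hD''c⟩ := elab_adjoin hD' hy0o (fun h => hy0A (hD'A h)) (by
    have h1 : D ⊔ zpowers a ≤ centralizer ({y0} : Set G) := by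
      refine sup_le ?_ ?_
      · intro d hd
        exact mem_centralizer_singleton_iff.2 (mem_centralizer_iff.1 hy0D d hd)
      · intro d hd
        exact mem_centralizer_singleton_iff.2 (mem_centralizer_iff.1 hy0.2 d hd)
    intro d hd
    exact mem_centralizer_singleton_iff.1 (h1 hd))
  have hcard : Nat.card (D ⊔ zpowers a ⊔ zpowers y0 : Subgroup G) = 3 ^ (j + 2) := by
    rw [hD''c, hD'c, hj, pow_succ, pow_succ]
  have hNV : D ⊔ zpowers a ⊔ zpowers y0 ≤ normalizer (V : Set G) := by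
    refine sup_le (sup_le ?_ haV) ?_
    · exact (le_centralizer_iff.1 (hVT.trans hTD)).trans (centralizer_le_normalizer _)
    · rw [zpowers_le]
      exact centralizer_le_normalizer _ hy0Y.2
  have hV1 : V ≠ ⊥ := by
    intro h
    rw [h, mem_bot] at htV hsV
    exact F.ts (htV.trans hsV.symm)
  have hle := H.max (j + 2) ⟨_, V, hD'', hcard, elab_pgroup F.el, hV1, hNV⟩
  have hjm' : j + 2 = m := by omega
  rw [hjm'] at hcard
  refine H.noV hD'' hcard F.el hNV fun h => ?_
  have h1 := mem_centralizer_iff.1 (comm_bot_iff.1 h htV) a (mem_sup_left (mem_sup_right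
    (Subgroup.mem_zpowers a)))
  have h2 := F.conjt
  rw [h1, mul_inv_cancel_right] at h2
  exact F.ts h2

theorem Hyp.false [Finite G] {p m : ℕ} [hp : Fact p.Prime] (H : Hyp p m G) (hP : Pk p m G) :
    False := by
  have h2 : Fact (Nat.Prime 2) := ⟨Nat.prime_two⟩
  have hm := H.three
  obtain ⟨A, T, hA, hAc, hT, hT1, hAT⟩ := hP
  have hA1 : A ≠ ⊥ := ne_bot_of_card hAc (by omega)
  obtain ⟨U, hU⟩ := H.lc2.exists_core hT hT1
  have hAU : A ≤ normalizer (U : Set G) := hAT.trans hU.norm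
  have hnot : ¬ U ≤ centralizer (A : Set G) := by
    intro hc
    apply hA1
    rw [eq_bot_iff]
    intro x hx
    have h1 : x ∈ U := hU.core x (hAT hx) fun r hr => (mem_centralizer_iff.1 (hc hr) x hx).symm
    have hd : Disjoint A U := IsPGroup.disjoint_of_ne p 2 H.odd A U (elab_pgroup hA) hU.pgroup
    exact hd.le_bot ⟨hx, h1⟩
  obtain ⟨B₁, hB1, hB1i, hB1n⟩ := exists_noncomm_hyperplane hA hA1
    (not_dvd_card_of_isPGroup (s := p) H.odd hU.pgroup) hAU hnot
  have hAB1 : A ≤ normalizer (B₁ : Set G) := le_normalizer_of_conj_mem fun a ha b hb => by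
    rw [elab_comm hA ha (hB1 hb), mul_inv_cancel_right]; exact hb
  obtain ⟨T₁, hT1U, hM1⟩ := exists_Mn (A := A)
    (hU.pgroup.to_le (inf_le_left : U ⊓ centralizer (B₁ : Set G) ≤ U))
    (le_normalizer_inf hAU (le_normalizer_centralizer hAB1)) (fun h => hB1n (comm_bot_iff.1 h))
  have hTB1 : T₁ ≤ centralizer (B₁ : Set G) := hT1U.trans inf_le_right
  have hB1c : Nat.card B₁ = p ^ (m - 1) := by
    refine card_hyperplane hB1 hB1i ?_
    rw [hAc]; congr 1; omega
  obtain ⟨B₂, hB2, hB2i, -, T₂, hM2, hTT, hTB2⟩ := H.pairUp hA hM1.two hM1.ne_bot hM1.norm hB1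
    (ne_bot_of_card hB1c (by omega)) hTB1
  obtain ⟨z₁, hE1⟩ := exists_ex H hA hAc hM1
  obtain ⟨z₂, hE2⟩ := exists_ex H hA hAc hM2
  have hz : z₂ = z₁ := by
    by_contra hne
    have hcomm : z₁ * z₂ = z₂ * z₁ := mem_centralizer_iff.1 (hTT hE2.zT) z₁ hE1.zT
    obtain ⟨he, hec⟩ := elab_adjoin (q := 2) (A := zpowers z₁)
      (elab_zpowers (by rw [pow_two]; exact hE1.zz)) hE2.order (fun h => by
        rcases hE1.mem_zpowers.1 h with h1 | h1
        · exact hE2.z1 h1
        · exact hne h1) (by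
        rintro _ ⟨n, rfl⟩
        exact ((show Commute z₁ z₂ from hcomm).zpow_left n).eq)
    have := H.le (r := 1) (k := m) hA hAc (by omega) he
      (by rw [hec, Nat.card_zpowers, hE1.order]; norm_num) (by
        refine sup_le ?_ ?_
        · rw [zpowers_le]; exact mem_centralizer_iff.2 hE1.zA
        · rw [zpowers_le]; exact mem_centralizer_iff.2 hE2.zA)
    omega
  rw [hz] at hE2
  have P : Pair A T₁ T₂ B₁ B₂ z₁ p m :=
    ⟨hA, hAc, hB1, hB2, hB1i, hB2i, hM1, hM2, hE1, hE2, hTB1, hTB2, hTT⟩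
  by_cases hp3 : p = 3
  · subst hp3
    exact P.three H
  · exact P.notThree H hp3

end Cfsg.Agent.H810.KM
end

-- part: S2029
section
set_option autoImplicit false
open Cfsg

namespace Cfsg.Agent.S2029

/-- Let p be an odd prime and G a finite group that is both of local characteristic p (p divides its order and every p-local subgroup N satisfies C_N(O_p(N)) ≤ O_p(N)) and of characteristic 2 type (even order and every 2-local subgroup M satisfies C_M(O_2(M)) ≤ O_2(M)). Then every 2-local subgroup of G has p-rank at most 2. -/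
theorem result {G : Type*} [Group G] [Finite G] (p : ℕ) [Fact p.Prime] (hp : p ≠ 2) (hGp : Cfsg.IsOfLocalCharacteristic p G) (hG2 : Cfsg.IsCharacteristicTwoType G) : Cfsg.TwoLocalPRankLE p 2 G := by
  classical
  by_contra hcon
  rw [Cfsg.TwoLocalPRankLE] at hcon
  push Not at hcon
  obtain ⟨H, ⟨T, hT, hT1, rfl⟩, hr⟩ := hcon
  rw [Cfsg.PRankLE] at hr
  push Not at hr
  obtain ⟨A, hAc, hAp, hA3⟩ := hr
  have hel : Cfsg.IsElementaryAbelian p (A.map (Subgroup.normalizer (T : Set G)).subtype) := by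
    refine H810.KM.elab_of ?_ ?_
    · rintro _ ⟨a, ha, rfl⟩ _ ⟨b, hb, rfl⟩
      have : (⟨a, ha⟩ : A) * ⟨b, hb⟩ = ⟨b, hb⟩ * ⟨a, ha⟩ := hAc.is_comm.comm _ _
      exact congrArg (fun t : A => ((t : ↥(Subgroup.normalizer (T : Set G))) : G)) this
    · rintro _ ⟨a, ha, rfl⟩
      exact congrArg (fun t : ↥(Subgroup.normalizer (T : Set G)) => (t : G)) (hAp a ha)
  have hc : Nat.card (A.map (Subgroup.normalizer (T : Set G)).subtype) = Nat.card A :=
    (Nat.card_congr (A.equivMapOfInjective _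
      (Subgroup.normalizer (T : Set G)).subtype_injective).toEquiv).symm
  have hpos : 1 < p := (Fact.out : p.Prime).one_lt
  obtain ⟨k, hk⟩ := IsPGroup.iff_card.1 (H810.KM.elab_pgroup hel)
  have hk3 : 3 ≤ k := by
    by_contra hlt
    have h1 : p ^ k ≤ p ^ 2 := Nat.pow_le_pow_right (by omega) (by omega)
    rw [← hk, hc] at h1
    omega
  have hbd : ∀ k, H810.KM.Pk p k G → k ≤ Nat.card G := by
    rintro k ⟨A, -, -, hA, -, -, -⟩
    have h1 : Nat.card A ≤ Nat.card G := Subgroup.card_le_card_group A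
    rw [hA] at h1
    exact (Nat.lt_pow_self hpos).le.trans h1
  have hPk : H810.KM.Pk p k G := ⟨_, T, hel, hk, hT, hT1, Subgroup.map_subtype_le A⟩
  have hm := Nat.findGreatest_spec (P := fun k => H810.KM.Pk p k G) (hbd k hPk) hPk
  have hle := Nat.le_findGreatest (P := fun k => H810.KM.Pk p k G) (hbd k hPk) hPk
  exact H810.KM.Hyp.false (p := p)
    (m := Nat.findGreatest (fun k => H810.KM.Pk p k G) (Nat.card G))
    ⟨hp, hGp.2, hG2.2, fun k' hk' => Nat.le_findGreatest (hbd k' hk') hk', hk3.trans hle⟩ hm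

end Cfsg.Agent.S2029
end
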