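import Cfsg.Statements.S2183
import Cfsg.Agent.H83.Count
import Cfsg.Agent.H83.TwDFour
import Cfsg.Agent.H82.RankTab
set_option linter.all false
-- import your own Cfsg.Agent.* helpers here

set_option autoImplicit false
open Cfsg

namespace Cfsg.Agent.S2183

open Cfsg.Agent.H83

/-- the ranks of the representatives -/
def f (R : List ℕ) : ℕ := if R = [23] then 10 else 12

theorem chk2 : Cfsg.Agent.H82.Rank.chk Cfsg.Lie.chevD4 [18, 13, 12] 12 = true := by decide +kernel


/-- The twisted group ³D₄(q), q even, realised inside the Chevalley group of type D₄ over the field K with q³ elements, has exactly two conjugacy classes of elements of order 2. -/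
theorem result {K : Type*} [Field K] [Fintype K] [CharP K 2] (q : ℕ) (hK : Fintype.card K = q ^ 3) :
    (ConjClasses.mk '' {g : ↥(Cfsg.Lie.twistedD4 K q) | orderOf g = 2}).ncard = 2 := by
  have h := Count.ncard_sub (K := K) Cfsg.Agent.Nodes.RGDTwD4.hp.inList f (fun t ht h2 => TwDFour.exists_rep hK ht h2)
    (TwDFour.reps_mem hK) (by decide +kernel) ?_ (by decide +kernel) (by decide +kernel)
  · exact h
  · intro R hR
    simp only [List.mem_cons, List.not_mem_nil, or_false] at hR
    rcases hR with rfl | rfl
    · exact Cfsg.Agent.H82.RankTab.rank_coe Cfsg.Agent.Nodes.RGDTwD4.hp.inList Cfsg.Agent.H82.RankTab.d4a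
    · exact Cfsg.Agent.H82.RankTab.rank_coe Cfsg.Agent.Nodes.RGDTwD4.hp.inList chk2

end Cfsg.Agent.S2183
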