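import Mathlib
import Cfsg.Agent.H353.TwoLong_m3
import Cfsg.Agent.H347.Aff.Alt
import Cfsg.Agent.H410.ASLie
import Cfsg.Agent.H57.TTS2208Main
import Cfsg.Agent.H384.Dim24
import Cfsg.Agent.GH.Cov.SylowThree_m3
import Cfsg.Agent.TwoGenCore.IsoMEleven
import Cfsg.Agent.S0679
import Cfsg.Agent.S0418
import Cfsg.Agent.ClassicalGeometry.PSL2Basic
import Cfsg.Agent.H57.TTS2213
import Cfsg.Agent.H88.RkRee_m3
import Cfsg.Agent.H57.TTHSOrder
import Cfsg.Statements.S2200
import Cfsg.Agent.H384.TwoTransMain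
import Cfsg.Agent.H603.SporElim
import Cfsg.Agent.S0000
import Cfsg.Agent.FastGrp
import Cfsg.Agent.Prune
set_option linter.all false
prune_inst 0x7ff2fcfb8ff93ddfffff7e7fffdddffdf9f85fffefdff9cbffe8ebff0f9f0306a9e5fbad8fe090fe0ef6e29410b87853fb7eeeffe86bdc7ffffd5ff45ffbee1ff7ffbd0c51d6a8341ffc6ffffbf0778e7f3fffffffffffffffffffffffffffbeffffffffffff
open scoped Cfsg.Agent.FastGrp

-- part: H57/TTSmall
section
/-!
# Groups whose Sylow 2-subgroups are cyclic, generalised quaternion or dihedral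

Elementary consequences: a cyclic subgroup of index at most 2 in a Sylow 2-subgroup, no elementary abelian
subgroup of order 8, not both a quaternion group of order 8 and a four-group.
-/

set_option autoImplicit false

namespace Cfsg.Agent.H57.TTSmall

open Subgroup

/-- cyclic, generalised quaternion or dihedral of order at least 4 -/
def Small (S : Type*) [Group S] : Prop :=
  IsCyclic S ∨ (∃ n : ℕ, Nonempty (S ≃* QuaternionGroup (2 ^ (n + 1)))) ∨
    (∃ n : ℕ, 1 ≤ n ∧ Nonempty (S ≃* DihedralGroup (2 ^ n)))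

section

variable {S S' : Type*} [Group S] [Group S']

theorem Small.congr (e : S ≃* S') (h : Small S) : Small S' := by
  rcases h with h | ⟨n, ⟨f⟩⟩ | ⟨n, hn, ⟨f⟩⟩
  · exact Or.inl (isCyclic_of_surjective e e.surjective)
  · exact Or.inr (Or.inl ⟨n, ⟨e.symm.trans f⟩⟩)
  · exact Or.inr (Or.inr ⟨n, hn, ⟨e.symm.trans f⟩⟩)

/-- `⟨c⟩` has index at most 2 -/
def Half (c : S) : Prop := Nat.card S ≤ 2 * orderOf c

theorem Small.exists_half [Finite S] (h : Small S) : ∃ c : S, Half c := by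
  rcases h with h | ⟨n, ⟨f⟩⟩ | ⟨n, hn, ⟨f⟩⟩
  · obtain ⟨g, hg⟩ := h.exists_generator
    refine ⟨g, ?_⟩
    unfold Half
    rw [orderOf_eq_card_of_forall_mem_zpowers hg]
    omega
  · have : NeZero (2 ^ (n + 1)) := ⟨by positivity⟩
    refine ⟨f.symm (QuaternionGroup.a 1), ?_⟩
    unfold Half
    have h1 : orderOf (f.symm (QuaternionGroup.a 1)) =
        orderOf (QuaternionGroup.a 1 : QuaternionGroup (2 ^ (n + 1))) :=
      orderOf_injective f.symm.toMonoidHom f.symm.injective _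
    rw [h1, QuaternionGroup.orderOf_a_one, Nat.card_congr f.toEquiv, Nat.card_eq_fintype_card, QuaternionGroup.card]
    omega
  · have : NeZero (2 ^ n) := ⟨by positivity⟩
    refine ⟨f.symm (DihedralGroup.r 1), ?_⟩
    unfold Half
    have h1 : orderOf (f.symm (DihedralGroup.r 1)) = orderOf (DihedralGroup.r 1 : DihedralGroup (2 ^ n)) :=
      orderOf_injective f.symm.toMonoidHom f.symm.injective _
    rw [h1, DihedralGroup.orderOf_r_one, Nat.card_congr f.toEquiv, DihedralGroup.nat_card]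

theorem Half.mul_mem [Finite S] {c : S} (h : Half c) {u v : S} (hu : u ∉ zpowers c) (hv : v ∉ zpowers c) :
    u * v ∈ zpowers c := by
  have h1 := (zpowers c).card_mul_index
  rw [Nat.card_zpowers] at h1
  have h2 : (zpowers c).index ≤ 2 := by
    by_contra hcon
    push Not at hcon
    have h3 : orderOf c * 3 ≤ orderOf c * (zpowers c).index := Nat.mul_le_mul_left _ hcon
    have h4 := orderOf_pos c
    unfold Half at h
    omega
  have h3 : (zpowers c).index ≠ 1 := by
    intro h4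
    rw [Subgroup.index_eq_one] at h4
    rw [h4] at hu
    exact hu (mem_top _)
  have h4 : (zpowers c).index ≠ 0 := Subgroup.index_ne_zero_of_finite
  have h5 : (zpowers c).index = 2 := by omega
  rw [Subgroup.mul_mem_iff_of_index_two h5]
  exact iff_of_false hu hv

/-- a cyclic group has at most one involution -/
theorem inv_unique {c u v : S} (hu : u ∈ zpowers c) (hv : v ∈ zpowers c) (huu : u * u = 1) (hvv : v * v = 1)
    (hu1 : u ≠ 1) (hv1 : v ≠ 1) : u = v := by
  obtain ⟨i, rfl⟩ := mem_zpowers_iff.1 hu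
  obtain ⟨j, rfl⟩ := mem_zpowers_iff.1 hv
  rw [← zpow_add, ← orderOf_dvd_iff_zpow_eq_one] at huu hvv
  rw [Ne, ← orderOf_dvd_iff_zpow_eq_one] at hu1 hv1
  rw [← mul_inv_eq_one, ← zpow_neg, ← zpow_add, ← orderOf_dvd_iff_zpow_eq_one]
  obtain ⟨a, ha⟩ := huu
  obtain ⟨b, hb⟩ := hvv
  rcases Int.even_or_odd' a with ⟨a', rfl | rfl⟩
  · exact absurd ⟨a', by linarith⟩ hu1
  rcases Int.even_or_odd' b with ⟨b', rfl | rfl⟩
  · exact absurd ⟨b', by linarith⟩ hv1
  exact ⟨a' - b', by linarith⟩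

theorem Small.no3 [Finite S] (h : Small S) {x y z : S} (hxx : x * x = 1) (hyy : y * y = 1) (hzz : z * z = 1)
    (hxy : x * y = y * x) (hxz : x * z = z * x) (hyz : y * z = z * y) (h1 : x ≠ 1) (h2 : y ≠ 1) (h3 : z ≠ 1)
    (h4 : x ≠ y) (h5 : x ≠ z) (h6 : y ≠ z) (h7 : x * y ≠ z) : False := by
  obtain ⟨c, hc⟩ := h.exists_half
  have sq : ∀ {u v : S}, u * v = v * u → u * u = 1 → v * v = 1 → u * v * (u * v) = 1 := by
    intro u v h1 h2 h3
    calc u * v * (u * v) = u * (v * u) * v := by group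
      _ = (u * u) * (v * v) := by rw [← h1]; group
      _ = 1 := by rw [h2, h3, one_mul]
  have ne : ∀ {u v : S}, v * v = 1 → u ≠ v → u * v ≠ 1 := by
    intro u v h1 h2 h3
    exact h2 ((eq_inv_of_mul_eq_one_left h3).trans (eq_inv_of_mul_eq_one_left h1).symm)
  by_cases hx : x ∈ zpowers c
  · by_cases hy : y ∈ zpowers c
    · exact h4 (inv_unique hx hy hxx hyy h1 h2)
    by_cases hz : z ∈ zpowers c
    · exact h5 (inv_unique hx hz hxx hzz h1 h3)
    have h8 := inv_unique hx (hc.mul_mem hy hz) hxx (sq hyz hyy hzz) h1 (ne hzz h6)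
    apply h7
    rw [h8, hyz, mul_assoc, hyy, mul_one]
  · by_cases hy : y ∈ zpowers c
    · by_cases hz : z ∈ zpowers c
      · exact h6 (inv_unique hy hz hyy hzz h2 h3)
      have h8 := inv_unique hy (hc.mul_mem hx hz) hyy (sq hxz hxx hzz) h2 (ne hzz h5)
      apply h7
      rw [h8, ← mul_assoc, hxx, one_mul]
    · by_cases hz : z ∈ zpowers c
      · exact h7 (inv_unique (hc.mul_mem hx hy) hz (sq hxy hxx hyy) hzz (ne hyy h4) h3)
      · have h8 := inv_unique (hc.mul_mem hx hy) (hc.mul_mem hx hz) (sq hxy hxx hyy) (sq hxz hxx hzz) (ne hyy h4)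
          (ne hzz h5)
        exact h6 (mul_left_cancel h8)

theorem no_comm {x y : S} (hx : x * x ≠ 1) (hyx : y * x * y⁻¹ = x⁻¹) (h : x * y = y * x) : False := by
  rw [← h, mul_inv_cancel_right] at hyx
  apply hx
  nth_rw 2 [hyx]
  exact mul_inv_cancel x

theorem Small.noQV [Finite S] (h : Small S) {x y : S} (hxy : x * x = y * y) (hx : x * x ≠ 1)
    (hyx : y * x * y⁻¹ = x⁻¹) {u v : S} (huu : u * u = 1) (hvv : v * v = 1) (hu : u ≠ 1) (hv : v ≠ 1)
    (huv : u ≠ v) : False := by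
  rcases h with h | ⟨n, ⟨f⟩⟩ | ⟨n, hn, ⟨f⟩⟩
  · obtain ⟨g, hg⟩ := h.exists_generator
    exact huv (inv_unique (hg u) (hg v) huu hvv hu hv)
  · have : NeZero (2 ^ (n + 1)) := ⟨by positivity⟩
    have key : ∀ t : S, t * t = 1 → t ≠ 1 → f t ∈ zpowers (QuaternionGroup.a 1 : QuaternionGroup (2 ^ (n + 1))) := by
      intro t htt ht
      have h1 : f t * f t = 1 := by rw [← map_mul, htt, map_one]
      cases hft : f t with
      | a i =>
        refine ⟨i.val, ?_⟩
        change (QuaternionGroup.a 1 : QuaternionGroup (2 ^ (n + 1))) ^ ((i.val : ℕ) : ℤ) = _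
        rw [zpow_natCast, QuaternionGroup.a_one_pow, ZMod.natCast_zmod_val]
      | xa i =>
        exfalso
        rw [hft] at h1
        have h2 := QuaternionGroup.orderOf_xa i
        have h3 : orderOf (QuaternionGroup.xa i : QuaternionGroup (2 ^ (n + 1))) ∣ 2 := by
          rw [orderOf_dvd_iff_pow_eq_one, pow_two]; exact h1
        rw [h2] at h3
        exact absurd (Nat.le_of_dvd (by norm_num) h3) (by norm_num)
    have hm : ∀ t : S, t * t = 1 → f t * f t = 1 := fun t ht => by rw [← map_mul, ht, map_one]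
    have hn1 : ∀ t : S, t ≠ 1 → f t ≠ 1 := fun t ht h => ht (f.injective (h.trans (map_one f).symm))
    exact huv (f.injective (inv_unique (key u huu hu) (key v hvv hv) (hm u huu) (hm v hvv) (hn1 u hu) (hn1 v hv)))
  · have hr : ∀ t : S, t * t ≠ 1 → ∃ i, f t = DihedralGroup.r i := by
      intro t ht
      cases hft : f t with
      | r i => exact ⟨i, rfl⟩
      | sr i =>
        exfalso
        apply ht
        apply f.injective
        rw [map_mul, hft, map_one, DihedralGroup.sr_mul_self]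
    obtain ⟨i, hi⟩ := hr x hx
    obtain ⟨j, hj⟩ := hr y (by rwa [← hxy])
    refine no_comm hx hyx (f.injective ?_)
    rw [map_mul, map_mul, hi, hj, DihedralGroup.r_mul_r, DihedralGroup.r_mul_r, add_comm]

end

/-! ### groups with small Sylow 2-subgroups -/

/-- all Sylow 2-subgroups are small -/
def Sm (D : Type*) [Group D] : Prop := ∀ S : Sylow 2 D, Small ↥(S : Subgroup D)

variable {D : Type*} [Group D]

theorem isPGroup_zpowers_of {x : D} {k : ℕ} (h : x ^ 2 ^ k = 1) : IsPGroup 2 (zpowers x) := by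
  rintro ⟨y, hy⟩
  obtain ⟨i, rfl⟩ := mem_zpowers_iff.1 hy
  refine ⟨k, Subtype.ext ?_⟩
  change (x ^ i) ^ 2 ^ k = 1
  rw [← zpow_natCast, ← zpow_mul, mul_comm, zpow_mul, zpow_natCast, h, one_zpow]

theorem Sm.no3 [Finite D] (h : Sm D) {x y z : D} (hxx : x * x = 1) (hyy : y * y = 1) (hzz : z * z = 1)
    (hxy : x * y = y * x) (hxz : x * z = z * x) (hyz : y * z = z * y) (h1 : x ≠ 1) (h2 : y ≠ 1) (h3 : z ≠ 1)
    (h4 : x ≠ y) (h5 : x ≠ z) (h6 : y ≠ z) (h7 : x * y ≠ z) : False := by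
  have hP : ∀ {t : D}, t * t = 1 → IsPGroup 2 (zpowers t) := fun {t} ht =>
    isPGroup_zpowers_of (k := 1) (by rw [pow_one, pow_two]; exact ht)
  have hn : ∀ {s t : D}, s * t = t * s → zpowers s ≤ normalizer (zpowers t : Set D) := by
    intro s t hst
    rw [zpowers_le]
    apply centralizer_le_normalizer
    rw [mem_centralizer_iff]
    intro w hw
    obtain ⟨i, rfl⟩ := mem_zpowers_iff.1 hw
    exact ((show Commute s t from hst).symm.zpow_left i).eq
  have h8 : IsPGroup 2 ↥(zpowers x ⊔ zpowers y) := (hP hxx).to_sup_of_normal_right' (hP hyy) (hn hxy)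
  have h9 : IsPGroup 2 ↥((zpowers x ⊔ zpowers y) ⊔ zpowers z) :=
    h8.to_sup_of_normal_right' (hP hzz) (sup_le (hn hxz) (hn hyz))
  obtain ⟨S, hS⟩ := h9.exists_le_sylow
  have hx : x ∈ (S : Subgroup D) := hS (mem_sup_left (mem_sup_left (mem_zpowers x)))
  have hy : y ∈ (S : Subgroup D) := hS (mem_sup_left (mem_sup_right (mem_zpowers y)))
  have hz : z ∈ (S : Subgroup D) := hS (mem_sup_right (mem_zpowers z))
  exact (h S).no3 (x := ⟨x, hx⟩) (y := ⟨y, hy⟩) (z := ⟨z, hz⟩) (Subtype.ext hxx) (Subtype.ext hyy) (Subtype.ext hzz)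
    (Subtype.ext hxy) (Subtype.ext hxz) (Subtype.ext hyz) (fun h => h1 (congrArg Subtype.val h))
    (fun h => h2 (congrArg Subtype.val h)) (fun h => h3 (congrArg Subtype.val h))
    (fun h => h4 (congrArg Subtype.val h)) (fun h => h5 (congrArg Subtype.val h))
    (fun h => h6 (congrArg Subtype.val h)) (fun h => h7 (congrArg Subtype.val h))

theorem Sm.noQV [Finite D] (h : Sm D) {x y : D} (hxy : x * x = y * y) (hx : x * x ≠ 1)
    (hyx : y * x * y⁻¹ = x⁻¹) {u v : D} (huu : u * u = 1) (hvv : v * v = 1) (hc : u * v = v * u) (hu : u ≠ 1)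
    (hv : v ≠ 1) (huv : u ≠ v) : False := by
  have hx4 : x * x * (x * x) = 1 := by
    have h1 : y * (x * x) * y⁻¹ = x⁻¹ * x⁻¹ := by
      calc y * (x * x) * y⁻¹ = (y * x * y⁻¹) * (y * x * y⁻¹) := by group
        _ = _ := by rw [hyx]
    rw [hxy] at h1
    have h2 : y * (y * y) * y⁻¹ = y * y := by group
    rw [h2, ← hxy] at h1
    nth_rw 1 [h1]
    group
  have hX : IsPGroup 2 (zpowers x) := isPGroup_zpowers_of (k := 2) (by
    calc x ^ 2 ^ 2 = x * x * (x * x) := by rw [show (2 : ℕ) ^ 2 = 2 + 2 from rfl, pow_add, pow_two]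
      _ = 1 := hx4)
  have hY : IsPGroup 2 (zpowers y) := isPGroup_zpowers_of (k := 2) (by
    calc y ^ 2 ^ 2 = y * y * (y * y) := by rw [show (2 : ℕ) ^ 2 = 2 + 2 from rfl, pow_add, pow_two]
      _ = 1 := by rw [← hxy]; exact hx4)
  have hYX : zpowers y ≤ normalizer (zpowers x : Set D) := by
    rw [zpowers_le, mem_normalizer_iff]
    intro g
    have h1 : ∀ g ∈ zpowers x, y * g * y⁻¹ ∈ zpowers x := by
      intro g hg
      obtain ⟨i, rfl⟩ := mem_zpowers_iff.1 hg
      rw [← conj_zpow, hyx]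
      exact zpow_mem (inv_mem (mem_zpowers x)) i
    refine ⟨h1 g, fun h2 => ?_⟩
    have h3 : y⁻¹ * x * y = x⁻¹ := by
      have h4 : x = y⁻¹ * x⁻¹ * y := by rw [← hyx]; group
      have h5 : x⁻¹ = (y⁻¹ * x⁻¹ * y)⁻¹ := congrArg _ h4
      rw [h5]; group
    obtain ⟨i, hi⟩ := mem_zpowers_iff.1 h2
    have h4 : g = y⁻¹ * (x ^ i) * (y⁻¹)⁻¹ := by rw [hi]; group
    rw [h4, ← conj_zpow, inv_inv, h3]
    exact zpow_mem (inv_mem (mem_zpowers x)) i
  have h8 : IsPGroup 2 ↥(zpowers y ⊔ zpowers x) := hY.to_sup_of_normal_right' hX hYX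
  obtain ⟨S, hS⟩ := h8.exists_le_sylow
  have hU : IsPGroup 2 (zpowers u) := isPGroup_zpowers_of (k := 1) (by rw [pow_one, pow_two]; exact huu)
  have hV : IsPGroup 2 (zpowers v) := isPGroup_zpowers_of (k := 1) (by rw [pow_one, pow_two]; exact hvv)
  have hUV : zpowers u ≤ normalizer (zpowers v : Set D) := by
    rw [zpowers_le]
    apply centralizer_le_normalizer
    rw [mem_centralizer_iff]
    intro w hw
    obtain ⟨i, rfl⟩ := mem_zpowers_iff.1 hw
    exact ((show Commute u v from hc).symm.zpow_left i).eq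
  have h9 : IsPGroup 2 ↥(zpowers u ⊔ zpowers v) := hU.to_sup_of_normal_right' hV hUV
  obtain ⟨P, hP⟩ := h9.exists_le_sylow
  obtain ⟨g, hg⟩ := MulAction.exists_smul_eq D P S
  have hmem : ∀ t ∈ (P : Subgroup D), g * t * g⁻¹ ∈ (S : Subgroup D) := by
    intro t ht
    rw [← hg, Sylow.coe_subgroup_smul]
    exact Subgroup.smul_mem_pointwise_smul t (MulAut.conj g) _ ht
  have hsq : ∀ {t : D}, t * t = 1 → g * t * g⁻¹ * (g * t * g⁻¹) = 1 := by
    intro t ht
    calc g * t * g⁻¹ * (g * t * g⁻¹) = g * (t * t) * g⁻¹ := by group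
      _ = 1 := by rw [ht]; group
  have h1 : ∀ {t : D}, t ≠ 1 → g * t * g⁻¹ ≠ 1 := by
    intro t ht h
    apply ht
    rw [conj_eq_one_iff] at h
    exact h
  exact (h S).noQV (x := ⟨x, hS (mem_sup_right (mem_zpowers x))⟩) (y := ⟨y, hS (mem_sup_left (mem_zpowers y))⟩)
    (Subtype.ext hxy) (fun h => hx (congrArg Subtype.val h)) (Subtype.ext hyx)
    (u := ⟨_, hmem u (hP (mem_sup_left (mem_zpowers u)))⟩) (v := ⟨_, hmem v (hP (mem_sup_right (mem_zpowers v)))⟩)
    (Subtype.ext (hsq huu)) (Subtype.ext (hsq hvv)) (fun h => h1 hu (congrArg Subtype.val h))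
    (fun h => h1 hv (congrArg Subtype.val h)) (fun h => huv (mul_left_cancel (mul_right_cancel (congrArg Subtype.val h))))

/-- a subgroup of order divisible by `2 ^ m` contains a 2-element of order at least `2 ^ (m - 1)` -/
theorem Sm.exists_order [Finite D] (h : Sm D) (K : Subgroup D) {m : ℕ} (hm : 2 ^ m ∣ Nat.card K) :
    ∃ g ∈ K, 2 ^ m ≤ 2 * orderOf g ∧ ∃ k, orderOf g = 2 ^ k := by
  obtain ⟨P, hP⟩ := Sylow.exists_subgroup_card_pow_prime 2 hm
  have hP2 : IsPGroup 2 P := IsPGroup.of_card hP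
  have hPK : IsPGroup 2 ↥(P.map K.subtype) := hP2.map _
  obtain ⟨S, hS⟩ := hPK.exists_le_sylow
  obtain ⟨c, hc⟩ := (h S).exists_half
  have hcard : Nat.card ↥(P.map K.subtype) = 2 ^ m := by
    rw [← hP]
    exact Nat.card_congr (P.equivMapOfInjective K.subtype K.subtype_injective).toEquiv.symm
  set Q := (P.map K.subtype).subgroupOf (S : Subgroup D) with hQ
  have hQc : Nat.card Q = 2 ^ m := by
    rw [← hcard]
    exact Nat.card_congr (Subgroup.subgroupOfEquivOfLe hS).toEquiv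
  have hind : (zpowers c).index ≤ 2 := by
    have h1 := (zpowers c).card_mul_index
    rw [Nat.card_zpowers] at h1
    by_contra hcon
    push Not at hcon
    have h3 : orderOf c * 3 ≤ orderOf c * (zpowers c).index := Nat.mul_le_mul_left _ hcon
    have h4 := orderOf_pos c
    unfold Half at hc
    omega
  have hrel : (zpowers c).relIndex Q ≤ 2 := by
    refine le_trans (Subgroup.relIndex_le_of_le_right (le_top : Q ≤ ⊤) ?_) ?_
    · rw [Subgroup.relIndex_top_right]; exact Subgroup.index_ne_zero_of_finite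
    · rw [Subgroup.relIndex_top_right]; exact hind
  set A := (zpowers c).subgroupOf Q with hA
  have hAc : IsCyclic A := by
    let f : A →* zpowers c :=
      { toFun := fun a => ⟨a.1.1, a.2⟩
        map_one' := rfl
        map_mul' := fun _ _ => rfl }
    refine isCyclic_of_injective f fun a b hab => ?_
    have h1 : (f a : ↥(S : Subgroup D)) = f b := by rw [hab]
    exact Subtype.ext (Subtype.ext h1)
  obtain ⟨a, ha⟩ := hAc.exists_generator
  have hord : orderOf a = Nat.card A := orderOf_eq_card_of_forall_mem_zpowers ha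
  have h1 := A.card_mul_index
  have h2 : A.index ≤ 2 := hrel
  rw [hQc, ← hord] at h1
  have h3 : orderOf (a.1.1.1 : D) = orderOf a := by
    rw [Subgroup.orderOf_coe, Subgroup.orderOf_coe, Subgroup.orderOf_coe]
  refine ⟨a.1.1.1, ?_, ?_, ?_⟩
  · obtain ⟨k, -, hk⟩ := Subgroup.mem_subgroupOf.1 a.1.2
    rw [← hk]
    exact k.2
  · rw [h3, ← h1, mul_comm]
    exact Nat.mul_le_mul_right _ h2
  · rw [h3]
    obtain ⟨k, -, hk⟩ := (Nat.dvd_prime_pow Nat.prime_two).1 (Dvd.intro _ h1)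
    exact ⟨k, hk⟩

end Cfsg.Agent.H57.TTSmall
end

-- part: H57/TTS2200A
section
/-!
# S2200: two-point stabilisers with small Sylow 2-subgroups; the alternating row
-/

set_option autoImplicit false

namespace Cfsg.Agent.H57.TTS2200

open MulAction Subgroup H384.TwoTrans TTSmall

universe u v

theorem sm_congr {D D' : Type*} [Group D] [Group D'] [Finite D] [Finite D'] (e : D ≃* D') (h : Sm D) : Sm D' := by
  intro S
  have hs : Function.Surjective e.symm.toMonoidHom := e.symm.surjective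
  have h1 := h (Sylow.mapSurjective hs S)
  rw [Sylow.coe_mapSurjective] at h1
  exact h1.congr ((S : Subgroup D').equivMapOfInjective e.symm.toMonoidHom e.symm.injective).symm

variable {G : Type u} {Ω : Type v} [Group G] [MulAction G Ω] {T : Subgroup G}

/-- all two-point stabilisers have small Sylow 2-subgroups -/
def SmG (G : Type u) (Ω : Type v) [Group G] [MulAction G Ω] : Prop :=
  ∀ a b : Ω, a ≠ b → Sm ↥(stabilizer G a ⊓ stabilizer G b)

theorem SmG.of [Finite G] (h2 : IsMultiplyPretransitive G Ω 2) {a b : Ω} (hab : a ≠ b)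
    (h : Sm ↥(stabilizer G a ⊓ stabilizer G b)) : SmG G Ω := by
  intro a' b' hab'
  obtain ⟨g, hga, hgb⟩ := (is_two_pretransitive_iff.1 h2) hab' hab
  have key : ∀ x : G, x ∈ stabilizer G a' ⊓ stabilizer G b' ↔ g * x * g⁻¹ ∈ stabilizer G a ⊓ stabilizer G b := by
    intro x
    simp only [mem_inf, mem_stabilizer_iff]
    rw [← hga, ← hgb]
    simp only [mul_smul, inv_smul_smul, smul_left_cancel_iff]
  have key2 : ∀ x : G, x ∈ stabilizer G a ⊓ stabilizer G b → g⁻¹ * x * g ∈ stabilizer G a' ⊓ stabilizer G b' := by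
    intro x hx
    rw [key]
    have h1 : g * (g⁻¹ * x * g) * g⁻¹ = x := by group
    rwa [h1]
  let e : ↥(stabilizer G a ⊓ stabilizer G b) ≃* ↥(stabilizer G a' ⊓ stabilizer G b') :=
    { toFun := fun x => ⟨g⁻¹ * x * g, key2 _ x.2⟩
      invFun := fun x => ⟨g * x * g⁻¹, (key _).1 x.2⟩
      left_inv := fun x => Subtype.ext (by change g * (g⁻¹ * x * g) * g⁻¹ = x; group)
      right_inv := fun x => Subtype.ext (by change g⁻¹ * (g * x * g⁻¹) * g = x; group)
      map_mul' := fun x y => Subtype.ext (by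
        change g⁻¹ * (x * y) * g = g⁻¹ * x * g * (g⁻¹ * y * g)
        group) }
  exact sm_congr e h

/-- no elementary abelian group of order 8 in a two-point stabiliser -/
theorem SmG.no3 [Finite G] (h : SmG G Ω) {a b : Ω} (hab : a ≠ b) {x y z : G} (hxa : x • a = a) (hxb : x • b = b)
    (hya : y • a = a) (hyb : y • b = b) (hza : z • a = a) (hzb : z • b = b)
    (hxx : x * x = 1) (hyy : y * y = 1) (hzz : z * z = 1)
    (hxy : x * y = y * x) (hxz : x * z = z * x) (hyz : y * z = z * y) (h1 : x ≠ 1) (h2 : y ≠ 1) (h3 : z ≠ 1)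
    (h4 : x ≠ y) (h5 : x ≠ z) (h6 : y ≠ z) (h7 : x * y ≠ z) : False :=
  (h a b hab).no3 (x := ⟨x, hxa, hxb⟩) (y := ⟨y, hya, hyb⟩) (z := ⟨z, hza, hzb⟩) (Subtype.ext hxx) (Subtype.ext hyy)
    (Subtype.ext hzz) (Subtype.ext hxy) (Subtype.ext hxz) (Subtype.ext hyz) (fun h => h1 (congrArg Subtype.val h))
    (fun h => h2 (congrArg Subtype.val h)) (fun h => h3 (congrArg Subtype.val h))
    (fun h => h4 (congrArg Subtype.val h)) (fun h => h5 (congrArg Subtype.val h))
    (fun h => h6 (congrArg Subtype.val h)) (fun h => h7 (congrArg Subtype.val h))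

/-- not both a quaternion group of order 8 and a four-group in a two-point stabiliser -/
theorem SmG.noQV [Finite G] (h : SmG G Ω) {a b : Ω} (hab : a ≠ b) {x y u v : G} (hxa : x • a = a) (hxb : x • b = b)
    (hya : y • a = a) (hyb : y • b = b) (hua : u • a = a) (hub : u • b = b) (hva : v • a = a) (hvb : v • b = b)
    (hxy : x * x = y * y) (hx : x * x ≠ 1) (hyx : y * x * y⁻¹ = x⁻¹) (huu : u * u = 1) (hvv : v * v = 1)
    (hc : u * v = v * u) (hu : u ≠ 1) (hv : v ≠ 1) (huv : u ≠ v) : False :=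
  (h a b hab).noQV (x := ⟨x, hxa, hxb⟩) (y := ⟨y, hya, hyb⟩) (Subtype.ext hxy)
    (fun h => hx (congrArg Subtype.val h)) (Subtype.ext hyx) (u := ⟨u, hua, hub⟩) (v := ⟨v, hva, hvb⟩)
    (Subtype.ext huu) (Subtype.ext hvv) (Subtype.ext hc) (fun h => hu (congrArg Subtype.val h))
    (fun h => hv (congrArg Subtype.val h)) (fun h => huv (congrArg Subtype.val h))

/-- a 2-element of large order in a two-point stabiliser of `T` -/
theorem SmG.exists_order [Finite G] (h : SmG G Ω) {a b : Ω} (hab : a ≠ b) (T : Subgroup G) {m : ℕ}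
    (hm : 2 ^ m ∣ Nat.card ↥(T ⊓ (stabilizer G a ⊓ stabilizer G b))) :
    ∃ g ∈ T, g • a = a ∧ g • b = b ∧ 2 ^ m ≤ 2 * orderOf g ∧ ∃ k, orderOf g = 2 ^ k := by
  obtain ⟨g, hg, h1, h2⟩ := (h a b hab).exists_order (T.subgroupOf (stabilizer G a ⊓ stabilizer G b)) (m := m) (by
    rw [← Subgroup.inf_subgroupOf_right]
    rwa [Nat.card_congr (Subgroup.subgroupOfEquivOfLe inf_le_right).toEquiv])
  rw [← Subgroup.orderOf_coe] at h1 h2
  exact ⟨g, hg, g.2.1, g.2.2, h1, h2⟩

/-! ### the alternating row -/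

/-- `A₁₀` inside the alternating group of a larger set -/
theorem exists_ten (A : AS G Ω T) (hT : 2 * Nat.card T = (Nat.card Ω).factorial) (h10 : 10 ≤ Nat.card Ω) :
    ∃ (j : Fin 10 ↪ Ω) (ψ : alternatingGroup (Fin 10) →* T), Function.Injective ψ ∧
      ∀ (σ : alternatingGroup (Fin 10)) (i : Fin 10), ψ σ • j i = j ((σ : Equiv.Perm (Fin 10)) i) := by
  classical
  have := A.finΩ
  have := A.faithfulT
  have := Fintype.ofFinite Ω
  have hr := H347.Aff.range_toPermHom_eq (T := T) (Ω := Ω) hT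
  obtain ⟨j⟩ : Nonempty (Fin 10 ↪ Ω) := by
    rw [Function.Embedding.nonempty_iff_card_le, Fintype.card_fin, ← Nat.card_eq_fintype_card]
    exact h10
  let f : Fin 10 ≃ {w : Ω // w ∈ Set.range j} := Equiv.ofInjective j j.injective
  let φ : Equiv.Perm (Fin 10) →* Equiv.Perm Ω := Equiv.Perm.extendDomainHom f
  have hφs : ∀ σ ∈ alternatingGroup (Fin 10), φ σ ∈ (toPermHom T Ω).range := by
    intro σ hσ
    rw [hr, Equiv.Perm.mem_alternatingGroup]
    rw [Equiv.Perm.mem_alternatingGroup] at hσ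
    change Equiv.Perm.sign (σ.extendDomain f) = 1
    rw [Equiv.Perm.sign_extendDomain, hσ]
  have hinj : Function.Injective (toPermHom T Ω) := toPerm_injective
  let E : T ≃* (toPermHom T Ω).range := MonoidHom.ofInjective hinj
  let φ' : alternatingGroup (Fin 10) →* (toPermHom T Ω).range :=
    { toFun := fun σ => ⟨φ σ, hφs _ σ.2⟩
      map_one' := Subtype.ext (map_one φ)
      map_mul' := fun σ τ => Subtype.ext (map_mul φ _ _) }
  refine ⟨j, E.symm.toMonoidHom.comp φ', ?_, ?_⟩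
  · intro σ τ h
    have h1 : φ' σ = φ' τ := E.symm.injective h
    have h2 : φ σ = φ τ := congrArg Subtype.val h1
    exact Subtype.ext (Equiv.Perm.extendDomainHom_injective f h2)
  · intro σ i
    have h1 : (E (E.symm (φ' σ)) : Equiv.Perm Ω) = φ σ := by rw [MulEquiv.apply_symm_apply]; rfl
    have h2 : ((E.symm (φ' σ) : T) • (j i : Ω)) = (E (E.symm (φ' σ)) : Equiv.Perm Ω) (j i) := rfl
    change (E.symm (φ' σ) : T) • (j i : Ω) = _
    rw [h2, h1]
    exact Equiv.Perm.extendDomain_apply_image (σ : Equiv.Perm (Fin 10)) f i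

open Equiv in
/-- three double transpositions -/
def p3 : Fin 3 → Perm (Fin 10) := ![swap (0 : Fin 10) 1 * swap (2 : Fin 10) 3, swap (2 : Fin 10) 3 * swap (4 : Fin 10) 5, swap (4 : Fin 10) 5 * swap (6 : Fin 10) 7]

theorem p3_mem (i : Fin 3) : p3 i ∈ alternatingGroup (Fin 10) := by
  rw [Equiv.Perm.mem_alternatingGroup]
  revert i
  decide

/-- three double transpositions -/
def s3 (i : Fin 3) : alternatingGroup (Fin 10) := ⟨p3 i, p3_mem i⟩

theorem s3_sq (i : Fin 3) : s3 i * s3 i = 1 := Subtype.ext (by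
  change p3 i * p3 i = 1
  revert i; decide)

theorem s3_comm (i k : Fin 3) : s3 i * s3 k = s3 k * s3 i := Subtype.ext (by
  change p3 i * p3 k = p3 k * p3 i
  revert i k; decide +kernel)

theorem s3_ne_one (i : Fin 3) : s3 i ≠ 1 := fun h => by
  have h1 : p3 i = 1 := congrArg Subtype.val h
  revert h1
  revert i
  decide

theorem s3_ne {i k : Fin 3} (h : i ≠ k) : s3 i ≠ s3 k := fun h' => by
  have h1 : p3 i = p3 k := congrArg Subtype.val h'
  revert h1 h
  revert i k
  decide

theorem s3_mul_ne : s3 0 * s3 1 ≠ s3 2 := fun h => by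
  have h1 : p3 0 * p3 1 = p3 2 := congrArg Subtype.val h
  revert h1
  decide

theorem s3_fix (i : Fin 3) : p3 i 8 = 8 ∧ p3 i 9 = 9 := by revert i; decide

/-- the alternating row: degree at most 9 -/
theorem alt_lt (A : AS G Ω T) (hS : SmG G Ω) (hT : 2 * Nat.card T = (Nat.card Ω).factorial) :
    Nat.card Ω < 10 := by
  by_contra hcon
  push Not at hcon
  have := A.finG
  obtain ⟨j, ψ, hψ, hj⟩ := exists_ten A hT hcon
  let X : Fin 3 → G := fun i => ψ (s3 i)
  have hmul : ∀ i k, X i * X k = (ψ (s3 i * s3 k) : G) := fun i k => by rw [map_mul]; rfl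
  have hinj : ∀ s t : alternatingGroup (Fin 10), (ψ s : G) = ψ t → s = t := fun s t h => hψ (Subtype.ext h)
  have hone : (ψ 1 : G) = 1 := by rw [map_one]; rfl
  have hfix : ∀ i (k : Fin 10), p3 i k = k → X i • j k = j k := by
    intro i k h
    have h1 := hj (s3 i) k
    change _ = j (p3 i k) at h1
    rw [h] at h1
    exact h1
  have hsq : ∀ i, X i * X i = 1 := by
    intro i
    rw [hmul, ← hone, s3_sq]
  have hcm : ∀ i k, X i * X k = X k * X i := by
    intro i k
    rw [hmul, hmul, s3_comm]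
  have hX1 : ∀ i, X i ≠ 1 := by
    intro i h
    rw [← hone] at h
    exact s3_ne_one i (hinj _ _ h)
  have hXn : ∀ {i k}, i ≠ k → X i ≠ X k := fun hik h => s3_ne hik (hinj _ _ h)
  have hX3 : X 0 * X 1 ≠ X 2 := by
    intro h
    rw [hmul] at h
    exact s3_mul_ne (hinj _ _ h)
  exact hS.no3 (a := j 8) (b := j 9) (fun h => absurd (j.injective h) (by decide)) (x := X 0) (y := X 1) (z := X 2)
    (hfix 0 8 (s3_fix 0).1) (hfix 0 9 (s3_fix 0).2) (hfix 1 8 (s3_fix 1).1) (hfix 1 9 (s3_fix 1).2)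
    (hfix 2 8 (s3_fix 2).1) (hfix 2 9 (s3_fix 2).2) (hsq 0) (hsq 1) (hsq 2) (hcm _ _) (hcm _ _) (hcm _ _) (hX1 0)
    (hX1 1) (hX1 2) (hXn (by decide)) (hXn (by decide)) (hXn (by decide)) hX3

end Cfsg.Agent.H57.TTS2200
end

-- part: H57/TTS2200P
section
/-!
# S2200: the row `PSL_d(q)`, `d ≥ 4` even, `q` odd
-/

set_option autoImplicit false

namespace Cfsg.Agent.H57.TTS2200

open Matrix
open scoped LinearAlgebra.Projectivization

section Blk

variable {ι κ : Type*} [Fintype ι] [DecidableEq ι] [Fintype κ] [DecidableEq κ] {μ : Type*} [Fintype μ] [DecidableEq μ]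
  {F : Type*} [Field F]

/-- `SL(ι) → SL(μ)`, `ι ⊕ κ ≃ μ` -/
def bl (E : ι ⊕ κ ≃ μ) : _root_.Matrix.SpecialLinearGroup ι F →* _root_.Matrix.SpecialLinearGroup μ F where
  toFun A := ⟨reindex E E (fromBlocks A.1 0 0 1), by
    rw [det_reindex_self, det_fromBlocks_zero₂₁, A.2, det_one, mul_one]⟩
  map_one' := by
    apply Subtype.ext
    change reindex E E (fromBlocks 1 0 0 1) = 1
    rw [fromBlocks_one, reindex_apply, submatrix_one_equiv]
  map_mul' A B := by
    apply Subtype.ext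
    change reindex E E (fromBlocks (A.1 * B.1) 0 0 1) = reindex E E _ * reindex E E _
    rw [reindex_apply, reindex_apply, reindex_apply, submatrix_mul_equiv, fromBlocks_multiply]
    simp only [_root_.Matrix.mul_zero, _root_.add_zero, _root_.Matrix.mul_one, _root_.Matrix.zero_mul, _root_.mul_one, _root_.zero_add]

theorem bl_apply (E : ι ⊕ κ ≃ μ) (A : _root_.Matrix.SpecialLinearGroup ι F) (i j : ι) :
    (bl E A).1 (E (Sum.inl i)) (E (Sum.inl j)) = A.1 i j := by
  change reindex E E _ _ _ = _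
  rw [reindex_apply, submatrix_apply, E.symm_apply_apply, E.symm_apply_apply, fromBlocks_apply₁₁]

theorem bl_apply_inr (E : ι ⊕ κ ≃ μ) (A : _root_.Matrix.SpecialLinearGroup ι F) (i : κ) (j : ι) :
    (bl E A).1 (E (Sum.inr i)) (E (Sum.inl j)) = 0 := by
  change reindex E E _ _ _ = _
  rw [reindex_apply, submatrix_apply, E.symm_apply_apply, E.symm_apply_apply, fromBlocks_apply₂₁]
  rfl

/-- the coordinate points -/
def pt (F : Type*) [Field F] (i : μ) : ℙ F (μ → F) :=
  Projectivization.mk F (Pi.single i 1) (by simp)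

omit [Fintype μ] in
theorem pt_injective : Function.Injective (pt F : μ → ℙ F (μ → F)) := by
  intro i j h
  unfold pt at h
  rw [Projectivization.mk_eq_mk_iff'] at h
  obtain ⟨c, hc⟩ := h
  by_contra hij
  have h1 := congrFun hc i
  rw [Pi.smul_apply, Pi.single_eq_same, Pi.single_eq_of_ne hij, smul_zero] at h1
  exact zero_ne_one h1

theorem bl_pt (E : ι ⊕ κ ≃ μ) (A : _root_.Matrix.SpecialLinearGroup ι F) {i : ι} (h : ∀ j, j ≠ i → A.1 j i = 0) :
    bl E A • pt F (E (Sum.inl i)) = pt F (E (Sum.inl i)) := by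
  unfold pt
  rw [Projectivization.smul_mk, Projectivization.mk_eq_mk_iff']
  refine ⟨A.1 i i, ?_⟩
  change _ = (bl E A).1 *ᵥ Pi.single (E (Sum.inl i)) 1
  rw [Matrix.mulVec_single_one]
  funext l
  obtain ⟨l, rfl⟩ := E.surjective l
  rw [Pi.smul_apply, Matrix.col_apply]
  rcases l with j | j
  · rw [bl_apply]
    by_cases hj : j = i
    · subst hj
      rw [Pi.single_eq_same, smul_eq_mul, mul_one]
    · rw [h j hj, Pi.single_eq_of_ne (fun h1 => hj (Sum.inl_injective (E.injective h1))), smul_zero]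
  · rw [bl_apply_inr, Pi.single_eq_of_ne (fun h1 => Sum.inr_ne_inl (E.injective h1)), smul_zero]

/-- the image in `PSL` is trivial only for scalar matrices -/
theorem bl_mk_eq_one (E : ι ⊕ κ ≃ μ) {A : _root_.Matrix.SpecialLinearGroup ι F}
    (h : ((bl E A : _root_.Matrix.SpecialLinearGroup μ F) : ProjectiveSpecialLinearGroup μ F) = 1) (i j : ι) : A.1 i i = A.1 j j := by
  have h1 : bl E A ∈ Subgroup.center (_root_.Matrix.SpecialLinearGroup μ F) := (QuotientGroup.eq_one_iff _).1 h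
  obtain ⟨r, -, hr⟩ := Matrix.SpecialLinearGroup.mem_center_iff.1 h1
  have h2 : ∀ i : ι, A.1 i i = r := by
    intro i
    rw [← bl_apply E A i i, ← hr, scalar_apply, diagonal_apply_eq]
  rw [h2, h2]

end Blk

/-! ### the matrices -/

section Mat

variable {F : Type*} [Field F]

/-- `i` -/
def mx (F : Type*) [Field F] : _root_.Matrix.SpecialLinearGroup (Fin 4) F :=
  ⟨!![1, 0, 0, 0; 0, 1, 0, 0; 0, 0, 0, 1; 0, 0, -1, 0], by
    simp only [det_succ_row_zero, Fin.sum_univ_succ, Fin.succAbove, _root_.Nat.succ_eq_add_one, _root_.Nat.reduceAdd, _root_.Fin.isValue, _root_.Matrix.of_apply, _root_.Matrix.cons_val', _root_.Matrix.cons_val_fin_one, _root_.Matrix.cons_val_zero, _root_.Matrix.submatrix_apply, _root_.Fin.succ_zero_eq_one, _root_.Matrix.cons_val_one, _root_.Matrix.submatrix_submatrix, _root_.Function.comp_apply, _root_.Fin.succ_one_eq_two, _root_.Matrix.cons_val, _root_.Matrix.det_unique, _root_.Fin.default_eq_zero, _root_.Fin.reduceSucc, _root_.Fin.castSucc_zero,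 _root_.Fin.coe_ofNat_eq_mod, _root_.Nat.zero_mod, _root_.pow_zero, _root_.one_mul, _root_.lt_self_iff_false, ↓ _root_.reduceIte, _root_.Fin.castSucc_one, _root_.Finset.univ_unique, _root_.Fin.val_succ, _root_.Fin.val_eq_zero, _root_.zero_add, _root_.pow_one, _root_.Fin.castSucc_succ, _root_.neg_mul, _root_.Fin.succ_pos, _root_.Finset.sum_neg_distrib, _root_.Finset.sum_singleton, _root_.not_lt_zero, _root_.Fin.reduceCastSucc, _root_.even_two, _root_.Even.neg_pow, _root_.one_pow, _root_.Fin.reduceLT, _root_.mul_one, _root_.MulZeroClass.mul_zero, _root_.mul_neg, _root_.neg_neg, _root_.neg_zero, _root_.add_zero, _root_.Matrix.cons_val_succ, _root_.MulZeroClass.zero_mul, _root_.Finset.sum_const_zero]⟩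

/-- `j` -/
def my {α β : F} (h : α ^ 2 + β ^ 2 = -1) : _root_.Matrix.SpecialLinearGroup (Fin 4) F :=
  ⟨!![1, 0, 0, 0; 0, 1, 0, 0; 0, 0, α, β; 0, 0, β, -α], by
    simp only [det_succ_row_zero, Fin.sum_univ_succ, Fin.succAbove, _root_.Nat.succ_eq_add_one, _root_.Nat.reduceAdd, _root_.Fin.isValue, _root_.Matrix.of_apply, _root_.Matrix.cons_val', _root_.Matrix.cons_val_fin_one, _root_.Matrix.cons_val_zero, _root_.Matrix.submatrix_apply, _root_.Fin.succ_zero_eq_one, _root_.Matrix.cons_val_one, _root_.Matrix.submatrix_submatrix, _root_.Function.comp_apply, _root_.Fin.succ_one_eq_two, _root_.Matrix.cons_val, _root_.Matrix.det_unique, _root_.Fin.default_eq_zero, _root_.Fin.reduceSucc, _root_.Fin.castSucc_zero, _root_.Fin.coe_ofNat_eq_mod, _root_.Nat.zero_mod, _root_.pow_zero, _root_.one_mul, _root_.lt_self_iff_false, ↓ _root_.reduceIte, _root_.Fin.castSucc_one, _root_.Finset.univ_unique, _root_.Fin.val_succ, _root_.Fin.val_eq_zero, _root_.zero_add, _root_.pow_one,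 _root_.Fin.castSucc_succ, _root_.neg_mul, _root_.Fin.succ_pos, _root_.Finset.sum_neg_distrib, _root_.Finset.sum_singleton, _root_.not_lt_zero, _root_.Fin.reduceCastSucc, _root_.even_two, _root_.Even.neg_pow, _root_.one_pow, _root_.Fin.reduceLT, _root_.mul_one, _root_.mul_neg, _root_.MulZeroClass.zero_mul, _root_.neg_zero, _root_.MulZeroClass.mul_zero, _root_.add_zero, _root_.Matrix.cons_val_succ, _root_.Finset.sum_const_zero]
    linear_combination -h⟩

/-- an involution -/
def mt (F : Type*) [Field F] : _root_.Matrix.SpecialLinearGroup (Fin 4) F :=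
  ⟨!![-1, 0, 0, 0; 0, 1, 0, 0; 0, 0, -1, 0; 0, 0, 0, 1], by
    simp only [det_succ_row_zero, Fin.sum_univ_succ, Fin.succAbove, _root_.Nat.succ_eq_add_one, _root_.Nat.reduceAdd, _root_.Fin.isValue, _root_.Matrix.of_apply, _root_.Matrix.cons_val', _root_.Matrix.cons_val_fin_one, _root_.Matrix.cons_val_zero, _root_.Matrix.submatrix_apply, _root_.Fin.succ_zero_eq_one, _root_.Matrix.cons_val_one, _root_.Matrix.submatrix_submatrix, _root_.Function.comp_apply, _root_.Fin.succ_one_eq_two, _root_.Matrix.cons_val, _root_.Matrix.det_unique, _root_.Fin.default_eq_zero, _root_.Fin.reduceSucc, _root_.Fin.castSucc_zero, _root_.Fin.coe_ofNat_eq_mod, _root_.Nat.zero_mod, _root_.pow_zero, _root_.one_mul, _root_.lt_self_iff_false, ↓ _root_.reduceIte, _root_.Fin.castSucc_one, _root_.Finset.univ_unique, _root_.Fin.val_succ, _root_.Fin.val_eq_zero, _root_.zero_add, _root_.pow_one, _root_.Fin.castSucc_succ, _root_.neg_mul, _root_.Fin.succ_pos, _root_.Finset.sum_neg_distrib,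 _root_.Finset.sum_singleton, _root_.not_lt_zero, _root_.Fin.reduceCastSucc, _root_.even_two, _root_.Even.neg_pow, _root_.one_pow, _root_.Fin.reduceLT, _root_.mul_neg, _root_.mul_one, _root_.MulZeroClass.mul_zero, _root_.neg_zero, _root_.add_zero, _root_.neg_neg, _root_.Matrix.cons_val_succ, _root_.MulZeroClass.zero_mul, _root_.Finset.sum_const_zero]⟩

theorem mx_sq {α β : F} (h : α ^ 2 + β ^ 2 = -1) : mx F * mx F = my h * my h := by
  apply Subtype.ext
  change !![1, 0, 0, 0; 0, 1, 0, 0; 0, 0, 0, 1; 0, 0, -1, 0] * !![1, 0, 0, 0; 0, 1, 0, 0; 0, 0, 0, 1; 0, 0, -1, 0] =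
    !![1, 0, 0, 0; 0, 1, 0, 0; 0, 0, α, β; 0, 0, β, -α] * !![1, 0, 0, 0; 0, 1, 0, 0; 0, 0, α, β; 0, 0, β, -α]
  ext i j
  (revert i j; simp only [Matrix.mul_apply, Fin.sum_univ_succ, _root_.Fin.forall_fin_succ, _root_.Matrix.of_apply, _root_.Matrix.cons_val', _root_.Matrix.cons_val_fin_one, Fin.isValue, _root_.Matrix.cons_val_zero, _root_.Matrix.cons_val_succ, _root_.Finset.univ_unique, _root_.Fin.default_eq_zero, _root_.Finset.sum_const, _root_.Finset.card_singleton, _root_.one_smul, _root_.add_right_inj, _root_.MulZeroClass.mul_zero, _root_.add_zero, _root_.mul_neg, _root_.mul_one, _root_.zero_add, _root_.forall_const, _root_.neg_zero, _root_.MulZeroClass.zero_mul, _root_.neg_mul, _root_.neg_neg, _root_.and_true, _root_.true_and]) <;> (repeat' with_reducible apply And.intro)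
  · linear_combination -h
  · ring
  · ring
  · linear_combination -h

theorem my_mx {α β : F} (h : α ^ 2 + β ^ 2 = -1) : mx F * my h * mx F = my h := by
  apply Subtype.ext
  change !![1, 0, 0, 0; 0, 1, 0, 0; 0, 0, 0, 1; 0, 0, -1, 0] * !![1, 0, 0, 0; 0, 1, 0, 0; 0, 0, α, β; 0, 0, β, -α] *
    !![1, 0, 0, 0; 0, 1, 0, 0; 0, 0, 0, 1; 0, 0, -1, 0] = !![1, 0, 0, 0; 0, 1, 0, 0; 0, 0, α, β; 0, 0, β, -α]
  ext i j
  (revert i j; simp only [Matrix.mul_apply, Fin.sum_univ_succ, _root_.Fin.forall_fin_succ, _root_.Matrix.cons_mul, _root_.Nat.succ_eq_add_one, Nat.reduceAdd, _root_.Matrix.vecMul_cons, _root_.Matrix.head_cons, _root_.one_smul, _root_.Matrix.tail_cons, _root_.zero_smul, _root_.Matrix.empty_vecMul, _root_.add_zero, _root_.zero_add, _root_.neg_smul, _root_.Matrix.neg_cons, _root_.neg_zero, _root_.Matrix.neg_empty, _root_.Matrix.empty_mul, _root_.Equiv.symm_apply_apply, _root_.Matrix.of_apply, _root_.Matrix.cons_val', _root_.Matrix.cons_val_fin_one, Fin.isValue,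 _root_.Matrix.cons_val_zero, _root_.Matrix.cons_val_succ, _root_.Finset.univ_unique, _root_.Fin.default_eq_zero, _root_.Finset.sum_const, _root_.Finset.card_singleton, _root_.mul_one, _root_.MulZeroClass.mul_zero, _root_.mul_neg, _root_.implies_true, _root_.and_true, _root_.true_and, _root_.neg_neg, _root_.and_self])

theorem mx_sq_apply : (mx F * mx F).1 = !![1, 0, 0, 0; 0, 1, 0, 0; 0, 0, -1, 0; 0, 0, 0, -1] := by
  change !![1, 0, 0, 0; 0, 1, 0, 0; 0, 0, 0, 1; 0, 0, -1, 0] * !![1, 0, 0, 0; 0, 1, 0, 0; 0, 0, 0, 1; 0, 0, -1, 0] = _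
  ext i j
  (revert i j; simp only [Matrix.mul_apply, Fin.sum_univ_succ, _root_.Fin.forall_fin_succ, _root_.Matrix.of_apply, _root_.Matrix.cons_val', _root_.Matrix.cons_val_fin_one, Fin.isValue, _root_.Matrix.cons_val_zero, _root_.Matrix.cons_val_succ, _root_.Finset.univ_unique, _root_.Fin.default_eq_zero, _root_.Finset.sum_const, _root_.Finset.card_singleton, _root_.one_smul, _root_.mul_one, _root_.MulZeroClass.mul_zero, _root_.add_zero, _root_.zero_add, _root_.mul_neg, _root_.implies_true, _root_.and_true, _root_.true_and, _root_.neg_zero, _root_.and_self])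

theorem mx_mt : mx F * mx F * mt F = mt F * (mx F * mx F) := by
  apply Subtype.ext
  change (mx F * mx F).1 * (mt F).1 = (mt F).1 * (mx F * mx F).1
  rw [mx_sq_apply]
  change _ * !![-1, 0, 0, 0; 0, 1, 0, 0; 0, 0, -1, 0; 0, 0, 0, 1] = !![-1, 0, 0, 0; 0, 1, 0, 0; 0, 0, -1, 0; 0, 0, 0, 1] * _
  ext i j
  (revert i j; simp only [Matrix.mul_apply, Fin.sum_univ_succ, _root_.Fin.forall_fin_succ, _root_.Matrix.of_apply, _root_.Matrix.cons_val', _root_.Matrix.cons_val_fin_one, Fin.isValue, _root_.Matrix.cons_val_zero, _root_.Matrix.cons_val_succ, _root_.Finset.univ_unique, _root_.Fin.default_eq_zero, _root_.Finset.sum_const, _root_.Finset.card_singleton, _root_.one_smul, _root_.mul_neg, _root_.mul_one, _root_.MulZeroClass.mul_zero, _root_.add_zero, _root_.zero_add, _root_.forall_const, _root_.true_and, _root_.neg_zero, _root_.and_self, _root_.implies_true])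

theorem mt_sq : mt F * mt F = 1 := by
  apply Subtype.ext
  change !![-1, 0, 0, 0; 0, 1, 0, 0; 0, 0, -1, 0; 0, 0, 0, 1] * !![-1, 0, 0, 0; 0, 1, 0, 0; 0, 0, -1, 0; 0, 0, 0, 1] = 1
  ext i j
  (revert i j; simp only [Matrix.mul_apply, Fin.sum_univ_succ, _root_.Fin.forall_fin_succ, _root_.Matrix.of_apply, _root_.Matrix.cons_val', _root_.Matrix.cons_val_fin_one, Fin.isValue, _root_.Matrix.cons_val_zero, _root_.Matrix.cons_val_succ, _root_.Finset.univ_unique, _root_.Fin.default_eq_zero, _root_.Finset.sum_const, _root_.Finset.card_singleton, _root_.one_smul, _root_.mul_neg, _root_.mul_one, _root_.MulZeroClass.mul_zero, _root_.add_zero, _root_.zero_add, _root_.IsEmpty.forall_iff, _root_.and_true, _root_.neg_neg, _root_.Matrix.one_apply_eq, Nat.reduceAdd, _root_.Fin.succ_zero_eq_one, _root_.ne_eq, _root_.zero_ne_one, _root_.not_false_eq_true, _root_.Matrix.one_apply_ne, _root_.neg_zero, _root_.Fin.succ_one_eq_two, Fin.reduceEq, Fin.reduceSucc, _root_.and_self,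 _root_.Fin.succ_ne_zero, _root_.neg_eq_zero, _root_.true_and])

theorem mx_four : mx F * mx F * (mx F * mx F) = 1 := by
  apply Subtype.ext
  change (mx F * mx F).1 * (mx F * mx F).1 = 1
  rw [mx_sq_apply]
  ext i j
  (revert i j; simp only [Matrix.mul_apply, Fin.sum_univ_succ, _root_.Fin.forall_fin_succ, _root_.Matrix.of_apply, _root_.Matrix.cons_val', _root_.Matrix.cons_val_fin_one, Fin.isValue, _root_.Matrix.cons_val_zero, _root_.Matrix.cons_val_succ, _root_.Finset.univ_unique, _root_.Fin.default_eq_zero, _root_.Finset.sum_const, _root_.Finset.card_singleton, _root_.one_smul, _root_.mul_one, _root_.MulZeroClass.mul_zero, _root_.add_zero, _root_.zero_add, _root_.mul_neg, _root_.IsEmpty.forall_iff, _root_.and_true, _root_.Matrix.one_apply_eq, Nat.reduceAdd, _root_.Fin.succ_zero_eq_one, _root_.ne_eq, _root_.zero_ne_one, _root_.not_false_eq_true, _root_.Matrix.one_apply_ne, _root_.neg_zero, _root_.Fin.succ_one_eq_two, Fin.reduceEq, Fin.reduceSucc, _root_.and_self,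 _root_.Fin.succ_ne_zero, _root_.neg_neg, _root_.true_and])

end Mat

universe u v

open MulAction Subgroup H384.TwoTrans TTSmall in
theorem psl_row {G : Type u} {Ω : Type v} [Group G] [MulAction G Ω] {T : Subgroup G} (A : AS G Ω T) (hS : SmG G Ω)
    (F : Type*) [Field F] [Fintype F] {d : ℕ} (hd : 3 ≤ d) (e : T ≃* Matrix.ProjectiveSpecialLinearGroup (Fin d) F)
    (hn : Nat.card Ω * (Fintype.card F - 1) = Fintype.card F ^ d - 1) (hev : Even (Nat.card Ω)) : False := by
  have := A.finG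
  obtain ⟨p, hchar⟩ := CharP.exists F
  obtain ⟨⟨f, hf0⟩, hp, hf⟩ := FiniteField.card F p
  have := Fact.mk hp
  simp only [PNat.mk_coe] at hf
  have hq2 : 2 ≤ Fintype.card F := Fintype.one_lt_card
  have hpF : p ∣ Fintype.card F := by
    rw [hf]; exact dvd_pow_self p (by omega)
  have hpn : ¬ p ∣ Nat.card Ω := by
    intro h
    have h1 : p ∣ Fintype.card F ^ d - 1 := by
      rw [← hn]; exact h.mul_right _
    have h2 : p ∣ Fintype.card F ^ d := hpF.trans (dvd_pow_self _ (by omega))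
    have h3 : 1 ≤ Fintype.card F ^ d := Nat.one_le_pow _ _ (by omega)
    have h4 := (Nat.dvd_sub_iff_right h3 h2).1 h1
    exact hp.one_lt.ne' (Nat.dvd_one.1 h4)
  have hp2 : p ≠ 2 := by
    rintro rfl
    exact hpn hev.two_dvd
  have hqodd : Odd (Fintype.card F) := by
    rw [hf]; exact (hp.odd_of_ne_two hp2).pow
  have hd2 : 2 ∣ d := by
    have h1 : Nat.card Ω = ∑ k ∈ Finset.range d, Fintype.card F ^ k := by
      rw [Nat.geomSum_eq hq2, ← hn, Nat.mul_div_cancel _ (by omega)]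
    have h2 : ((Nat.card Ω : ℕ) : ZMod 2) = 0 := (ZMod.natCast_eq_zero_iff _ _).2 hev.two_dvd
    rw [h1] at h2
    push_cast at h2
    have h3 : ((Fintype.card F : ℕ) : ZMod 2) = 1 := by
      obtain ⟨k, hk⟩ := hqodd
      rw [hk]
      push_cast
      have : (2 : ZMod 2) = 0 := by decide
      rw [this, zero_mul, zero_add]
    rw [h3] at h2
    simp only [one_pow, Finset.sum_const, Finset.card_range, nsmul_eq_mul, mul_one] at h2
    exact (ZMod.natCast_eq_zero_iff _ _).1 h2
  have hd4 : 4 ≤ d := by omega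
  obtain ⟨m, rfl⟩ : ∃ m, d = m + 1 + 1 := ⟨d - 2, by omega⟩
  obtain ⟨e', Φ, hΦ⟩ := H410.ASLie.psl_equiv A e hpn
  let E : Fin 4 ⊕ Fin (m + 1 + 1 - 4) ≃ Fin (m + 1 + 1) := Fintype.equivOfCardEq (by
    rw [Fintype.card_sum, Fintype.card_fin, Fintype.card_fin, Fintype.card_fin]; omega)
  have h20 : (2 : F) ≠ 0 := by
    intro h
    have h1 : ((2 : ℕ) : F) = 0 := by push_cast; exact h
    rw [CharP.cast_eq_zero_iff F p] at h1
    exact hp2 ((Nat.prime_dvd_prime_iff_eq hp Nat.prime_two).1 h1)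
  obtain ⟨α, β, hαβ⟩ : ∃ α β : F, α ^ 2 + β ^ 2 = -1 := by
    obtain ⟨a, b, hab⟩ := ZMod.sq_add_sq p (-1)
    refine ⟨ZMod.castHom (dvd_refl p) F a, ZMod.castHom (dvd_refl p) F b, ?_⟩
    rw [← map_pow, ← map_pow, ← map_add, hab, map_neg, map_one]
  let γ : Matrix.SpecialLinearGroup (Fin 4) F →* T :=
    e'.symm.toMonoidHom.comp ((QuotientGroup.mk' _).comp (bl E))
  let δ : Matrix.SpecialLinearGroup (Fin 4) F →* G := T.subtype.comp γ
  have hfix : ∀ (s : Matrix.SpecialLinearGroup (Fin 4) F) (i : Fin 4), (∀ j, j ≠ i → s.1 j i = 0) →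
      δ s • Φ.symm (pt F (E (Sum.inl i))) = Φ.symm (pt F (E (Sum.inl i))) := by
    intro s i h
    apply Φ.injective
    have h1 : Φ (δ s • Φ.symm (pt F (E (Sum.inl i)))) = e' (γ s) • Φ (Φ.symm (pt F (E (Sum.inl i)))) := hΦ (γ s) _
    rw [h1, Equiv.apply_symm_apply]
    change e' (e'.symm _) • _ = _
    rw [MulEquiv.apply_symm_apply]
    exact bl_pt E s h
  have hone : ∀ s, δ s = 1 → ∀ i j : Fin 4, s.1 i i = s.1 j j := by
    intro s h
    have h1 : γ s = 1 := Subtype.ext h
    have h2 : ((bl E s : Matrix.SpecialLinearGroup (Fin (m + 1 + 1)) F) :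
        Matrix.ProjectiveSpecialLinearGroup (Fin (m + 1 + 1)) F) = 1 := e'.symm.injective (h1.trans (map_one _).symm)
    exact bl_mk_eq_one E h2
  have hneg : (1 : F) ≠ -1 := by
    intro h
    apply h20
    linear_combination h
  have hab : Φ.symm (pt F (E (Sum.inl 0))) ≠ Φ.symm (pt F (E (Sum.inl 1))) := by
    intro h
    have h1 := Sum.inl_injective (E.injective (pt_injective (Φ.symm.injective h)))
    exact absurd h1 (by decide)
  refine hS.noQV hab (x := δ (mx F)) (y := δ (my hαβ)) (u := δ (mx F * mx F)) (v := δ (mt F))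
    (hfix _ 0 ?_) (hfix _ 1 ?_) (hfix _ 0 ?_) (hfix _ 1 ?_) (hfix _ 0 ?_) (hfix _ 1 ?_) (hfix _ 0 ?_) (hfix _ 1 ?_)
    ?_ ?_ ?_ ?_ ?_ ?_ ?_ ?_ ?_
  · change ∀ j, j ≠ 0 → !![1, 0, 0, 0; 0, 1, 0, 0; 0, 0, 0, 1; 0, 0, -1, 0] j 0 = (0 : F)
    intro j hj
    fin_cases j <;> simp at hj ⊢
  · change ∀ j, j ≠ 1 → !![1, 0, 0, 0; 0, 1, 0, 0; 0, 0, 0, 1; 0, 0, -1, 0] j 1 = (0 : F)
    intro j hj
    fin_cases j <;> simp at hj ⊢
  · change ∀ j, j ≠ 0 → !![1, 0, 0, 0; 0, 1, 0, 0; 0, 0, α, β; 0, 0, β, -α] j 0 = (0 : F)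
    intro j hj
    fin_cases j <;> simp at hj ⊢
  · change ∀ j, j ≠ 1 → !![1, 0, 0, 0; 0, 1, 0, 0; 0, 0, α, β; 0, 0, β, -α] j 1 = (0 : F)
    intro j hj
    fin_cases j <;> simp at hj ⊢
  · rw [mx_sq_apply]
    intro j hj
    fin_cases j <;> simp at hj ⊢
  · rw [mx_sq_apply]
    intro j hj
    fin_cases j <;> simp at hj ⊢
  · change ∀ j, j ≠ 0 → !![-1, 0, 0, 0; 0, 1, 0, 0; 0, 0, -1, 0; 0, 0, 0, 1] j 0 = (0 : F)
    intro j hj
    fin_cases j <;> simp at hj ⊢
  · change ∀ j, j ≠ 1 → !![-1, 0, 0, 0; 0, 1, 0, 0; 0, 0, -1, 0; 0, 0, 0, 1] j 1 = (0 : F)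
    intro j hj
    fin_cases j <;> simp at hj ⊢
  · rw [← map_mul, ← map_mul, mx_sq hαβ]
  · rw [← map_mul]
    intro h
    have h1 := hone _ h 0 2
    rw [mx_sq_apply] at h1
    exact hneg (by simpa using h1)
  · rw [mul_inv_eq_iff_eq_mul, ← map_mul]
    rw [eq_inv_mul_iff_mul_eq, ← map_mul, ← mul_assoc, my_mx]
  · rw [← map_mul, mx_four, map_one]
  · rw [← map_mul, mt_sq, map_one]
  · rw [← map_mul, ← map_mul, mx_mt]
  · intro h
    have h1 := hone _ h 0 2
    rw [mx_sq_apply] at h1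
    exact hneg (by simpa using h1)
  · intro h
    have h1 := hone _ h 0 1
    exact hneg (show (-1 : F) = 1 from h1).symm
  · intro h
    have h0 : δ (mx F * mx F * mt F) = 1 := by rw [map_mul, h, ← map_mul, mt_sq, map_one]
    have h1 := hone _ h0 0 1
    have h2 : (mx F * mx F * mt F).1 = (mx F * mx F).1 * (mt F).1 := rfl
    rw [h2, mx_sq_apply] at h1
    change (_ * !![-1, 0, 0, 0; 0, 1, 0, 0; 0, 0, -1, 0; 0, 0, 0, 1] : Matrix _ _ F) 0 0 =
      (_ * !![-1, 0, 0, 0; 0, 1, 0, 0; 0, 0, -1, 0; 0, 0, 0, 1] : Matrix _ _ F) 1 1 at h1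
    simp only [Matrix.mul_apply, Fin.sum_univ_succ, _root_.Fin.isValue, _root_.Matrix.of_apply, _root_.Matrix.cons_val', _root_.Matrix.cons_val_fin_one, _root_.Matrix.cons_val_zero, _root_.mul_neg, _root_.mul_one, _root_.Matrix.cons_val_succ, _root_.MulZeroClass.mul_zero, _root_.Finset.univ_unique, _root_.Fin.default_eq_zero, _root_.Finset.sum_const_zero, _root_.add_zero, _root_.Matrix.cons_val_one, _root_.zero_add] at h1
    exact hneg h1.symm

end Cfsg.Agent.H57.TTS2200
end

-- part: H57/TTS2200S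
section
/-!
# S2200: the row `Sp_{2m}(2)`
-/

set_option autoImplicit false

open Cfsg
open scoped Matrix

namespace Cfsg.Agent.H57.TTS2200

open Cfsg.Agent.ClassicalGeometry.SympBasic
open Cfsg.Agent.ClassicalGeometry.SympSiegel
open Cfsg.Agent.ClassicalGeometry.SympAutExists
open Cfsg.Agent.H249.SpTwo
open Cfsg.Agent.H57.TTSpFrame Cfsg.Agent.H57.TTSp
open Cfsg.Agent.H384.TwoTrans
open MulAction

universe u v w

variable {G : Type u} {Ω : Type v} [Group G] [MulAction G Ω] {T : Subgroup G}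
variable {F : Type w} [Field F] [Fintype F] {m : ℕ} (e : ↥T ≃* PSp m F)

local notation "V" => (Fin m ⊕ Fin m → F)
local notation "Sp" => Matrix.symplecticGroup (Fin m) F
local notation "f" => sympForm m F

theorem tr_comm {u v : V} (h : f v u = 0) : tr e u * tr e v = tr e v * tr e u := by
  have h1 := tr_conj e u v
  rw [h, zero_smul, add_zero, mul_inv_eq_iff_eq_mul] at h1
  exact h1

/-- a vector of norm 1 in a hyperbolic plane, and a vector not orthogonal to it -/
theorem exists_norm_one (hF : Fintype.card F = 2) {Q : V → F} (hQ : ∀ v w, Q (v + w) = Q v + Q w + f v w)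
    {x y : V} (h : f x y = 1) : ∃ u w : V, Q u = 1 ∧ f w u = 1 ∧ (∀ z, f z x = 0 → f z y = 0 → f z u = 0 ∧ f z w = 0) := by
  rcases F_cases hF (Q x) with h1 | h1
  · rcases F_cases hF (Q y) with h2 | h2
    · refine ⟨x + y, x, by rw [hQ, h1, h2, h, add_zero, zero_add], ?_, fun z hx hy => ⟨?_, hx⟩⟩
      · rw [sympForm_add_right, sympForm_self, zero_add, h]
      · rw [sympForm_add_right, hx, hy, add_zero]
    · exact ⟨y, x, h2, h, fun z hx hy => ⟨hy, hx⟩⟩
  · exact ⟨x, y, h1, by rw [f_symm hF, h], fun z hx hy => ⟨hx, hy⟩⟩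

theorem sp_row (A : AS G Ω T) (hS : SmG G Ω) (e : ↥T ≃* PSp m F) (hF : Fintype.card F = 2) (hm : 3 ≤ m)
    (hn : Nat.card Ω = 2 ^ (m - 1) * (2 ^ m + 1) ∨ Nat.card Ω = 2 ^ (m - 1) * (2 ^ m - 1)) : False := by
  have := A.finG
  have := A.nontrivialΩ
  obtain ⟨a, -, -⟩ := exists_pair_ne Ω
  obtain ⟨Q, hQ, htr, -⟩ := H249.SpTwo.main e A hF hm hn a
  replace htr : ∀ v, v ≠ 0 → (tr e v • a = a ↔ Q v = 1) := htr
  obtain ⟨v, x, hvx⟩ := exists_hyperbolic (F := F) (m := m) (by omega)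
  obtain ⟨c, g, e2, g2, H, hc⟩ := exists_Fr_sing hQ hF hm hvx
  have hQ0 : Q 0 = 0 := Q_zero hQ hF
  have n1 : ∀ {u : V}, Q u = 1 → u ≠ 0 := by
    rintro u hu rfl
    rw [hQ0] at hu
    exact zero_ne_one hu
  have hc0 : c ≠ 0 := by
    rintro rfl
    have := H.eg
    rw [sympForm_zero_left] at this
    exact zero_ne_one this
  obtain ⟨u1, w1, hu1, hw1, hp1⟩ := exists_norm_one hF hQ H.vx
  obtain ⟨u2, w, hu2, hw, hp2⟩ := exists_norm_one hF hQ H.eg2
  -- orthogonality
  have s1 : f c v = 0 := by rw [f_symm hF, H.ve]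
  have s2 : f c x = 0 := by rw [f_symm hF, H.xe]
  have cu1 : f c u1 = 0 := (hp1 c s1 s2).1
  have cu2 : f c u2 = 0 := (hp2 c H.ee2 H.eg2').1
  have cw : f c w = 0 := (hp2 c H.ee2 H.eg2').2
  have vu2 : f v u2 = 0 := (hp2 v H.ve2 H.vg2).1
  have xu2 : f x u2 = 0 := (hp2 x H.xe2 H.xg2).1
  have vw : f v w = 0 := (hp2 v H.ve2 H.vg2).2
  have xw : f x w = 0 := (hp2 x H.xe2 H.xg2).2
  have u2u1 : f u2 u1 = 0 := (hp1 u2 (by rw [f_symm hF, vu2]) (by rw [f_symm hF, xu2])).1
  have wu1 : f w u1 = 0 := (hp1 w (by rw [f_symm hF, vw]) (by rw [f_symm hF, xw])).1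
  have hu3 : Q (u1 + c) = 1 := by rw [hQ, hu1, hc, f_symm hF, cu1, add_zero, add_zero]
  have u3u1 : f (u1 + c) u1 = 0 := by rw [sympForm_add_left, sympForm_self, cu1, add_zero]
  have u3u2 : f (u1 + c) u2 = 0 := by rw [sympForm_add_left, cu2, f_symm hF, u2u1, add_zero]
  have cu3 : f c (u1 + c) = 0 := by rw [sympForm_add_right, cu1, sympForm_self, add_zero]
  have wu3 : f w (u1 + c) = 0 := by rw [sympForm_add_right, wu1, f_symm hF, cw, add_zero]
  -- the points
  have hb : tr e c • a ≠ a := by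
    intro h
    rw [htr c hc0, hc] at h
    exact zero_ne_one h
  have hfa : ∀ {u : V}, Q u = 1 → tr e u • a = a := fun hu => (htr _ (n1 hu)).2 hu
  have hfb : ∀ {u : V}, Q u = 1 → f c u = 0 → tr e u • (tr e c • a) = tr e c • a := by
    intro u hu hcu
    rw [← mul_smul, tr_comm e hcu, mul_smul, hfa hu]
  have hm1 : 1 ≤ m := by omega
  refine hS.no3 (Ne.symm hb) (x := tr e u1) (y := tr e u2) (z := tr e (u1 + c)) (hfa hu1) (hfb hu1 cu1) (hfa hu2)
    (hfb hu2 cu2) (hfa hu3) (hfb hu3 cu3) (tr_sq e hF _) (tr_sq e hF _) (tr_sq e hF _) (tr_comm e u2u1)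
    (tr_comm e u3u1) (tr_comm e u3u2) (tr_ne_one e hF hm1 (n1 hu1)) (tr_ne_one e hF hm1 (n1 hu2))
    (tr_ne_one e hF hm1 (n1 hu3)) ?_ ?_ ?_ ?_
  · intro h
    have h1 := tr_injective e hF hm1 (n1 hu1) (n1 hu2) h
    rw [← h1, wu1] at hw
    exact zero_ne_one hw
  · intro h
    have h1 := tr_injective e hF hm1 (n1 hu1) (n1 hu3) h
    exact hc0 (left_eq_add.1 h1)
  · intro h
    have h1 := tr_injective e hF hm1 (n1 hu2) (n1 hu3) h
    rw [h1, wu3] at hw
    exact zero_ne_one hw
  · intro h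
    have h1 : tau e (transv u1 1 * transv u2 1) = tau e (transv (u1 + c) 1) := by rw [map_mul]; exact h
    have h2 := congrArg (fun s : Sp => s • w) (tau_injective e hF hm1 h1)
    simp only [mul_smul, transv_smul, one_mul] at h2
    rw [hw, wu3, one_smul, zero_smul, add_zero, sympForm_add_left, wu1, u2u1, add_zero, zero_smul, add_zero] at h2
    exact n1 hu2 (left_eq_add.1 h2.symm)

end Cfsg.Agent.H57.TTS2200
end

-- part: H57/TTS2200B
section
/-!
# S2200: the rows `M22`, `M24`, `Co3` (elements of large 2-power order)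
-/

set_option autoImplicit false

open Cfsg

namespace Cfsg.Agent.H57.TTS2200

open MulAction Subgroup H384.TwoTrans TTSmall

universe u v

section order

/-- an element of order `2 ^ k` in a faithful action has an orbit of length `2 ^ k` -/
theorem two_pow_le_card {G Ω : Type*} [Group G] [MulAction G Ω] [FaithfulSMul G Ω] [Finite Ω] {g : G} {k : ℕ}
    (h : orderOf g = 2 ^ k) : 2 ^ k ≤ Nat.card Ω ∨ k = 0 := by
  classical
  have := Fintype.ofFinite Ω
  rcases Nat.eq_zero_or_pos k with h0 | hk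
  · exact Or.inr h0
  left
  by_contra hcon
  push Not at hcon
  have h1 : g ^ 2 ^ (k - 1) = 1 := by
    apply FaithfulSMul.eq_of_smul_eq_smul (α := Ω)
    intro x
    rw [one_smul, pow_smul_eq_iff_period_dvd]
    have h2 : period g x ∣ 2 ^ k := by rw [← h]; exact period_dvd_orderOf g x
    obtain ⟨j, hj, hj2⟩ := (Nat.dvd_prime_pow Nat.prime_two).1 h2
    have h3 : j ≠ k := by
      rintro rfl
      have h4 : period g x ≤ Nat.card Ω := by
        have h5 := minimalPeriod_eq_card (a := g) (b := x)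
        change Function.minimalPeriod (g • ·) x ≤ _
        rw [h5, ← Nat.card_eq_fintype_card]
        exact Nat.card_le_card_of_injective _ Subtype.val_injective
      omega
    rw [hj2]
    exact pow_dvd_pow 2 (by omega)
  have h2 := orderOf_dvd_of_pow_eq_one h1
  rw [h] at h2
  have h3 := (Nat.pow_dvd_pow_iff_le_right (by norm_num)).1 h2
  omega

end order

variable {G : Type u} {Ω : Type v} [Group G] [MulAction G Ω] {T : Subgroup G}

theorem card_inf (a b : Ω) : Nat.card ↥(T ⊓ (stabilizer G a ⊓ stabilizer G b)) =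
    Nat.card ↥(stabilizer T a ⊓ stabilizer T b) :=
  Nat.card_congr
    { toFun := fun x => ⟨⟨x.1, x.2.1⟩, x.2.2.1, x.2.2.2⟩
      invFun := fun x => ⟨x.1.1, x.1.2, x.2.1, x.2.2⟩
      left_inv := fun _ => rfl
      right_inv := fun _ => rfl }

/-- for even degree a two-point stabiliser contains a Sylow 2-subgroup of a point stabiliser -/
theorem pow_dvd (A : AS G Ω T) (hev : Even (Nat.card Ω)) {a b : Ω} (hab : a ≠ b) {κ m : ℕ}
    (h : Nat.card Ω * κ = Nat.card T) (hm : 2 ^ m ∣ κ) :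
    2 ^ m ∣ Nat.card ↥(T ⊓ (stabilizer G a ⊓ stabilizer G b)) := by
  have := A.finΩ
  have := A.nontrivialΩ
  rw [card_inf]
  have h1 := A.card_mul a
  rw [← h] at h1
  have h2 : Nat.card (stabilizer T a) = κ := Nat.eq_of_mul_eq_mul_left Nat.card_pos h1
  have h3 := A.card_orbit_mul a b
  rw [h2] at h3
  have h4 := A.card_orbit_dvd hab
  have h5 : Odd (Nat.card Ω - 1) := by
    obtain ⟨k, hk⟩ := hev
    have : 0 < Nat.card Ω := Nat.card_pos
    exact ⟨k - 1, by omega⟩
  have h6 : Odd (Nat.card (orbit (stabilizer T a) b)) := Odd.of_dvd_nat h5 h4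
  rw [← h3] at hm
  exact (Nat.Coprime.pow_left m (Nat.coprime_two_left.2 h6)).dvd_of_dvd_mul_left hm

/-- a 2-element of large order -/
theorem exists_elt (A : AS G Ω T) (hS : SmG G Ω) (hev : Even (Nat.card Ω)) {κ m : ℕ}
    (h : Nat.card Ω * κ = Nat.card T) (hm : 2 ^ m ∣ κ) :
    ∃ (t : T) (k : ℕ), orderOf t = 2 ^ k ∧ m ≤ k + 1 := by
  have := A.finG
  have := A.nontrivialΩ
  obtain ⟨a, b, hab⟩ := exists_pair_ne Ω
  obtain ⟨g, hg, -, -, h1, k, hk⟩ := hS.exists_order hab T (pow_dvd A hev hab h hm)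
  refine ⟨⟨g, hg⟩, k, ?_, ?_⟩
  · rw [← Subgroup.orderOf_coe]; exact hk
  · rw [hk, ← pow_succ'] at h1
    exact (Nat.pow_le_pow_iff_right (by norm_num)).1 h1

theorem numeric_row (A : AS G Ω T) (hS : SmG G Ω) (hev : Even (Nat.card Ω)) {κ m : ℕ}
    (h : Nat.card Ω * κ = Nat.card T) (hm : 2 ^ m ∣ κ) (hm0 : 2 ≤ m) (hlt : Nat.card Ω < 2 ^ (m - 1)) : False := by
  have := A.finΩ
  have := A.faithfulT
  obtain ⟨t, k, hk, hmk⟩ := exists_elt A hS hev h hm
  rcases two_pow_le_card (Ω := Ω) hk with h1 | h1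
  · have h2 : 2 ^ (m - 1) ≤ 2 ^ k := Nat.pow_le_pow_right (by norm_num) (by omega)
    omega
  · omega

theorem m22 (A : AS G Ω T) (hS : SmG G Ω) (hn : Nat.card Ω = 22) (hT : Nat.card T = 443520) : False :=
  numeric_row A hS (by rw [hn]; decide) (κ := 20160) (m := 6) (by rw [hn, hT]) (by norm_num) (by norm_num)
    (by rw [hn]; norm_num)

theorem m24 (A : AS G Ω T) (hS : SmG G Ω) (hn : Nat.card Ω = 24) (hT : Nat.card T = 244823040) : False :=
  numeric_row A hS (by rw [hn]; decide) (κ := 10200960) (m := 7) (by rw [hn, hT]) (by norm_num) (by norm_num)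
    (by rw [hn]; norm_num)

/-! ### `Co3` -/

section Lin

open Module Cfsg.Agent.CpAutCoFive
open Cfsg.Agent.SigZeroCo2.Rank (fix mem_fix)
open Cfsg.Agent.SigZeroCo2.Lin (rep Sp rep_injective)

/-- order of a 2-element in dimension `n` -/
theorem two_pow_le_finrank {V : Type*} [AddCommGroup V] [Module ℚ V] [FiniteDimensional ℚ V] {x : Module.End ℚ V}
    {k : ℕ} (hx : x ^ 2 ^ (k + 1) = 1) (hx1 : x ^ 2 ^ k ≠ 1) : 2 ^ k ≤ finrank ℚ V := by
  set u := x ^ 2 ^ k with hu
  have hu2 : u ^ 2 = 1 := by rw [hu, ← pow_mul, ← pow_succ]; exact hx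
  have hxu : Commute x u := (Commute.refl x).pow_right _
  have hadd := finrank_add (u := u) (r := 2) (by norm_num) hu2
  have hW : (2 ^ (k + 1) : ℕ).totient ∣ finrank ℚ (mv u 2) := by
    refine dvd_finrank_sub (by positivity) hx (fun w hw => mv_inv hxu hw) ?_
    intro p hp hpn v hv hv'
    have hp2 : p = 2 := (Nat.prime_dvd_prime_iff_eq hp Nat.prime_two).1 (hp.dvd_of_dvd_pow hpn)
    subst hp2
    rw [pow_succ, Nat.mul_div_cancel _ (by norm_num)] at hv'
    exact eq_zero_of_fix (by norm_num) hv' hv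
  rw [Nat.totient_prime_pow_succ Nat.prime_two] at hW
  have h1 : 2 ^ k * (2 - 1) = 2 ^ k := by norm_num
  rw [h1] at hW
  have hne : finrank ℚ (mv u 2) ≠ 0 := by
    intro h0
    rw [h0] at hadd
    have h1 : fix u = ⊤ := Submodule.eq_top_of_finrank_eq (by omega)
    apply hx1
    apply LinearMap.ext
    intro v
    have h2 : v ∈ fix u := by rw [h1]; trivial
    exact mem_fix.1 h2
  have h2 := Nat.le_of_dvd (Nat.pos_of_ne_zero hne) hW
  omega

theorem co0_order {g : Co0} {k : ℕ} (h : orderOf g = 2 ^ k) : k ≤ 5 := by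
  by_contra hcon
  push Not at hcon
  obtain ⟨j, rfl⟩ : ∃ j, k = j + 1 := ⟨k - 1, by omega⟩
  have h1 := two_pow_le_finrank (x := rep g) (k := j) (rep_pow_one h) (by
    rw [← map_pow]
    intro h4
    have h5 : g ^ 2 ^ j = 1 := rep_injective (by rw [h4, map_one])
    have h6 := orderOf_dvd_of_pow_eq_one h5
    rw [h, Nat.pow_dvd_pow_iff_le_right (by norm_num)] at h6
    omega)
  rw [finrank_Sp] at h1
  have h2 : 2 ^ 5 ≤ 2 ^ j := Nat.pow_le_pow_right (by norm_num) (by omega)
  omega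

theorem co3_order {x : Spor.Co3} {k : ℕ} (h : orderOf x = 2 ^ k) : k ≤ 5 := by
  have hle : Spor.Co3 ≤ Co0 := inf_le_left
  refine co0_order (g := inclusion hle x) ?_
  rw [orderOf_injective _ (inclusion_injective hle), h]

end Lin

theorem co3 (A : AS G Ω T) (hS : SmG G Ω) (hn : Nat.card Ω = 276) (hT : Nat.card T = 495766656000)
    (e : Spor.IsoCo3 T) : False := by
  obtain ⟨e⟩ := e
  obtain ⟨t, k, hk, hmk⟩ := exists_elt A hS (by rw [hn]; decide) (κ := 1796256000) (m := 8) (by rw [hn, hT])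
    (by norm_num)
  have h1 : orderOf (e t) = 2 ^ k := by
    rw [← hk]; exact orderOf_injective e.toMonoidHom e.injective t
  have h2 := co3_order h1
  omega

end Cfsg.Agent.H57.TTS2200
end

-- part: H57/TTS2200M
section
/-!
# S2200: the row `M12` on 12 points (the point stabiliser is `M11`, with semidihedral Sylow 2-subgroups)
-/

set_option autoImplicit false

open Cfsg

namespace Cfsg.Agent.H57.TTS2200

open MulAction Subgroup H384.TwoTrans TTSmall

universe u v

/-- a transitive group of degree 11 and order 7920 is `M11` -/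
theorem isM11_of {K α : Type*} [Group K] [Finite K] [Finite α] [MulAction K α] [FaithfulSMul K α]
    [IsPretransitive K α] (hα : Nat.card α = 11) (hK : Nat.card K = 7920) : Spor.IsoM11 K := by
  classical
  have := Fintype.ofFinite α
  have hα' : Fintype.card α = 11 := by rw [← Nat.card_eq_fintype_card, hα]
  let ψ : K ≃* (toPermHom K α).range := MonoidHom.ofInjective (f := toPermHom K α) toPerm_injective
  have hcard : Nat.card (toPermHom K α).range = 7920 := by rw [← hK]; exact (Nat.card_congr ψ.toEquiv).symm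
  have hG2 : IsPretransitive (toPermHom K α).range α := by
    refine ⟨fun x y => ?_⟩
    obtain ⟨g, hg⟩ := _root_.MulAction.exists_smul_eq K x y
    exact ⟨⟨toPermHom K α g, g, rfl⟩, hg⟩
  have hns : ¬ Group.IsSolvable (toPermHom K α).range := by
    intro h
    have h1 : Group.IsSolvable K := Group.isSolvable_of_isSolvable_injective
      (f := ψ.toMonoidHom) ψ.injective
    have h2 := H384.PrimeDeg.card_dvd h1 (p := 11) (by norm_num) hα
    rw [hK] at h2
    revert h2
    decide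
  have hna : ¬ alternatingGroup α ≤ (toPermHom K α).range := by
    intro h
    have h1 := Subgroup.card_dvd_of_le h
    have h2 : 2 * Nat.card (alternatingGroup α) = Nat.factorial 11 := by
      have : Nontrivial α := Fintype.one_lt_card_iff_nontrivial.1 (by omega)
      rw [Nat.card_eq_fintype_card, two_mul_card_alternatingGroup, Fintype.card_perm, hα']
    have h3 : Nat.factorial 11 = 39916800 := by decide
    have h4 := Nat.le_of_dvd Nat.card_pos h1
    omega
  rcases Cfsg.Agent.S0679.result hα' (toPermHom K α).range hns hna with ⟨h4, hst⟩ | ⟨⟨i⟩⟩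
  · have h5 := Cfsg.Agent.S0418.result hα' (toPermHom K α).range hst
    obtain ⟨j⟩ := Cfsg.Agent.TwoGenCore.IsoMEleven.isoM11 h5
    exact ⟨ψ.trans j⟩
  · exfalso
    have h1 := Cfsg.Agent.ClassicalGeometry.PSL2Basic.card_PSL2_odd (ZMod 11) (by rw [ZMod.card]; decide)
    rw [← Nat.card_congr i.toEquiv, hcard, ZMod.card] at h1
    norm_num at h1

/-- a semidihedral group contains a quaternion group and a four-group -/
theorem quasi {S : Type*} [Group S] (h : IsQuasiDihedral S) : ∃ x y u v : S, x * x = y * y ∧ x * x ≠ 1 ∧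
    y * x * y⁻¹ = x⁻¹ ∧ u * u = 1 ∧ v * v = 1 ∧ u * v = v * u ∧ u ≠ 1 ∧ v ≠ 1 ∧ u ≠ v := by
  obtain ⟨n, hn, -, x, y, hx, hy, hyx⟩ := h
  obtain ⟨k, rfl⟩ : ∃ k, n = k + 3 := ⟨n - 3, by omega⟩
  have e1 : k + 3 - 1 = k + 2 := by omega
  rw [e1] at hyx
  obtain ⟨q, hq⟩ : ∃ q, q = 2 ^ k := ⟨_, rfl⟩
  have hq1 : 1 ≤ q := by rw [hq]; exact Nat.one_le_two_pow
  have e2 : 2 ^ (k + 2) = 4 * q := by rw [hq, pow_add]; ring
  have e3 : 2 ^ (k + 3) = 8 * q := by rw [hq, pow_add]; ring
  rw [e2] at hyx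
  rw [e3] at hx
  have hyy : y * y = 1 := by
    have := pow_orderOf_eq_one y
    rwa [hy, pow_two] at this
  have hy1 : y ≠ 1 := by
    rintro rfl
    rw [orderOf_one] at hy
    omega
  have hyi : y⁻¹ = y := inv_eq_of_mul_eq_one_left hyy
  have hx8 : x ^ (8 * q) = 1 := by rw [← hx]; exact pow_orderOf_eq_one x
  have hne : ∀ i, 0 < i → i < 8 * q → x ^ i ≠ 1 := by
    intro i h0 h1 h2
    have h3 := Nat.le_of_dvd h0 (orderOf_dvd_of_pow_eq_one h2)
    omega
  have hpow : ∀ i, y * x ^ i * y⁻¹ = x ^ ((4 * q - 1) * i) := by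
    intro i
    rw [← conj_pow, hyx, ← pow_mul]
  -- conjugation of `x ^ (2 q)`, of order 4
  have h2q : y * x ^ (2 * q) * y⁻¹ = (x ^ (2 * q))⁻¹ := by
    rw [hpow, eq_inv_iff_mul_eq_one, ← pow_add]
    have h1 : (4 * q - 1) * (2 * q) + 2 * q = 8 * q * q := by
      have : (4 * q - 1) * (2 * q) + 2 * q = (4 * q - 1 + 1) * (2 * q) := by ring
      rw [this, Nat.sub_add_cancel (by omega)]; ring
    rw [h1, pow_mul, hx8, one_pow]
  have h4q : y * x ^ (4 * q) * y⁻¹ = x ^ (4 * q) := by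
    rw [hpow]
    have h1 : (4 * q - 1) * (4 * q) + 8 * q = 8 * q * (2 * q) + 4 * q := by
      have : (4 * q - 1) * (4 * q) + 8 * q = (4 * q - 1 + 1) * (4 * q) + 4 * q := by ring
      rw [this, Nat.sub_add_cancel (by omega)]; ring
    have h2 : x ^ ((4 * q - 1) * (4 * q)) * x ^ (8 * q) = x ^ (8 * q * (2 * q)) * x ^ (4 * q) := by
      rw [← pow_add, ← pow_add, h1]
    rwa [hx8, mul_one, pow_mul x (8 * q), hx8, one_pow, one_mul] at h2
  refine ⟨x ^ (2 * q), x * y, x ^ (4 * q), y, ?_, ?_, ?_, ?_, hyy, ?_, ?_, hy1, ?_⟩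
  · rw [← pow_add]
    have h1 : x * y * (x * y) = x * (y * x * y⁻¹) := by
      rw [hyi]; group
    rw [h1, hyx, ← pow_succ']
    congr 1
    omega
  · rw [← pow_add]
    exact hne _ (by omega) (by omega)
  · have h1 : x * y * x ^ (2 * q) * (x * y)⁻¹ = x * (y * x ^ (2 * q) * y⁻¹) * x⁻¹ := by group
    rw [h1, h2q]
    group
  · rw [← pow_add]
    have h1 : 4 * q + 4 * q = 8 * q := by ring
    rw [h1, hx8]
  · rw [mul_inv_eq_iff_eq_mul] at h4q
    exact h4q.symm
  · exact hne _ (by omega) (by omega)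
  · intro h
    -- then `y` commutes with `x`
    have h1 : y * x * y⁻¹ = x := by
      rw [← h]; group
    rw [hyx] at h1
    have h2 : x ^ (4 * q - 2) = 1 := by
      have h3 : x ^ (4 * q - 2) * x = x := by
        rw [← pow_succ]
        have : 4 * q - 2 + 1 = 4 * q - 1 := by omega
        rw [this, h1]
      exact mul_eq_right.1 h3
    exact hne _ (by omega) (by omega) h2

variable {G : Type u} {Ω : Type v} [Group G] [MulAction G Ω] {T : Subgroup G}

theorem m12 (A : AS G Ω T) (hS : SmG G Ω) (hn : Nat.card Ω = 12) (hT : Nat.card T = 95040) : False := by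
  have := A.finG
  have := A.finT
  have := A.finΩ
  have := A.nontrivialΩ
  have := A.faithfulT
  have h2 : Fact (Nat.Prime 2) := ⟨Nat.prime_two⟩
  obtain ⟨a, -, -⟩ := exists_pair_ne Ω
  have hK : Nat.card (stabilizer T a) = 7920 := by
    have h1 := A.card_mul a
    rw [hn, hT] at h1
    omega
  let α := SubMulAction.ofStabilizer T a
  have hα : Nat.card α = 11 := by
    rw [SubMulAction.nat_card_ofStabilizer_eq, hn]
  have hf : FaithfulSMul (stabilizer T a) α := by
    refine ⟨fun {g h} hgh => ?_⟩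
    apply Subtype.ext
    apply FaithfulSMul.eq_of_smul_eq_smul (α := Ω)
    intro x
    by_cases hx : x = a
    · rw [hx, g.2, h.2]
    · exact congrArg Subtype.val (hgh ⟨x, hx⟩)
  have htr : IsPretransitive (stabilizer T a) α := by
    have key : ∀ x y : Ω, x ≠ a → y ≠ a → ∃ g : stabilizer T a, g • x = y := by
      intro x y hx hy
      have h3 := A.card_orbit_dvd (Ne.symm hx)
      rw [hn] at h3
      rcases (Nat.dvd_prime (show Nat.Prime 11 by norm_num)).1 h3 with h4 | h4
      · exfalso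
        have h5 : ∀ z : Ω, z ≠ a → ∀ g : stabilizer T a, g • z = z := by
          intro z hz g
          have h6 := A.card_orbit_eq (Ne.symm hz) (Ne.symm hx)
          rw [h4, Nat.card_eq_one_iff_unique] at h6
          have := h6.1
          exact congrArg Subtype.val (Subsingleton.elim (⟨g • z, mem_orbit _ _⟩ : orbit (stabilizer T a) z)
            ⟨z, mem_orbit_self z⟩)
        have h6 : ∀ g : stabilizer T a, g = 1 := by
          intro g
          apply hf.eq_of_smul_eq_smul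
          intro z
          exact Subtype.ext (by rw [one_smul]; exact h5 z.1 z.2 g)
        have h7 : Nat.card (stabilizer T a) = 1 := by
          rw [Nat.card_eq_one_iff_unique]
          exact ⟨⟨fun g h => by rw [h6 g, h6 h]⟩, ⟨1⟩⟩
        rw [hK] at h7
        omega
      · have h5 : orbit (stabilizer T a) x = {z | z ≠ a} := by
          apply Set.eq_of_subset_of_ncard_le
          · rintro _ ⟨g, rfl⟩ h
            exact hx (smul_left_cancel g (h.trans g.2.symm))
          · rw [← Nat.card_coe_set_eq, ← Nat.card_coe_set_eq, h4]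
            exact le_of_eq hα
          · exact Set.toFinite _
        have h6 : y ∈ orbit (stabilizer T a) x := by rw [h5]; exact hy
        exact h6
    refine ⟨fun x y => ?_⟩
    obtain ⟨g, hg⟩ := key x.1 y.1 x.2 y.2
    exact ⟨g, Subtype.ext hg⟩
  have hM := isM11_of hα hK
  obtain ⟨P⟩ : Nonempty (Sylow 2 (stabilizer T a)) := inferInstance
  have hP := GH.Cov.SylowThree.mEleven hM (by rw [hK]; norm_num) P
  obtain ⟨⟨b, hb⟩, hbP⟩ := P.2.nonempty_fixed_point_of_prime_not_dvd_card α (by rw [hα]; norm_num)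
  obtain ⟨x, y, u, v, h1, h2, h3, h4, h5, h6, h7, h8, h9⟩ := quasi hP
  have hfa : ∀ s : ↥(P : Subgroup (stabilizer T a)), (s.1.1.1 : G) • a = a := fun s => s.1.2
  have hfb : ∀ s : ↥(P : Subgroup (stabilizer T a)), (s.1.1.1 : G) • b = b := fun s => congrArg Subtype.val (hbP s)
  let ι : ↥(P : Subgroup (stabilizer T a)) →* G :=
    (T.subtype.comp (stabilizer T a).subtype).comp (P : Subgroup (stabilizer T a)).subtype
  have hι : Function.Injective ι := fun s t h => Subtype.ext (Subtype.ext (Subtype.ext h))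
  refine hS.noQV (Ne.symm hb) (x := ι x) (y := ι y) (u := ι u) (v := ι v) (hfa x) (hfb x) (hfa y) (hfb y) (hfa u)
    (hfb u) (hfa v) (hfb v) ?_ ?_ ?_ ?_ ?_ ?_ ?_ ?_ ?_
  · rw [← map_mul, ← map_mul, h1]
  · rw [← map_mul]
    exact fun h => h2 (hι (h.trans (map_one ι).symm))
  · rw [← map_inv, ← map_inv, ← map_mul, ← map_mul, h3]
  · rw [← map_mul, h4, map_one]
  · rw [← map_mul, h5, map_one]
  · rw [← map_mul, ← map_mul, h6]
  · exact fun h => h7 (hι (h.trans (map_one ι).symm))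
  · exact fun h => h8 (hι (h.trans (map_one ι).symm))
  · exact fun h => h9 (hι h)

end Cfsg.Agent.H57.TTS2200
end

-- part: H57/TTS2200R
section
/-!
# S2200: the groups of Ree type, `PΓL₂(8)` on 28 points
-/

set_option autoImplicit false

open Cfsg

namespace Cfsg.Agent.H57.TTS2200

open MulAction Subgroup H384.TwoTrans TTSmall TTDesign TTRee

universe u v

variable {G : Type u} {Ω : Type v} [Group G] [MulAction G Ω] {T : Subgroup G}

/-- `L` acts as a group of Ree type -/
def ReeD (L : Subgroup G) (a b : Ω) : Prop :=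
  MulAction.IsMultiplyPretransitive ↥L Ω 2 ∧
    (∃! t : G, t ∈ L ⊓ MulAction.stabilizer G a ⊓ MulAction.stabilizer G b ∧ t ≠ 1 ∧
      2 < Nat.card {x : Ω // t • x = x}) ∧
    (∀ s t : ↥L, orderOf s = 2 → orderOf t = 2 → IsConj s t) ∧
    (∃ (t : ↥L) (K : Type) (_ : Field K) (_ : Fintype K), orderOf t = 2 ∧ Odd (Fintype.card K) ∧
      Nat.card Ω = Fintype.card K ^ 3 + 1 ∧
      Nonempty (↥(Subgroup.centralizer ({t} : Set ↥L)) ≃*
        Matrix.ProjectiveSpecialLinearGroup (Fin 2) K × Multiplicative (ZMod 2)))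

theorem ree_row (A : AS G Ω T) {a b : Ω} (hab : a ≠ b) {K : Type} [Field K] [Fintype K] {m : ℕ}
    (hK : Fintype.card K = 3 ^ (2 * m + 1)) (e : T ≃* ↥(Cfsg.Lie.twistedG2 K (3 ^ m)))
    (hn : Nat.card Ω = Fintype.card K ^ 3 + 1) : ReeD T a b := by
  have := A.finT
  have := A.finΩ
  obtain ⟨h1, h2, ⟨t, ht, h3⟩, -, h4⟩ := H88.ReeTwo.main A.transitive hK e hn
  refine ⟨h1, ?_, h4 A.simple A.nonab, t, K, inferInstance, inferInstance, ht, ?_, hn, h3⟩
  · obtain ⟨-, -, s, ⟨hs, hs1, hs2⟩, hs3⟩ := h2 a b hab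
    refine ⟨s, ⟨⟨⟨s.2, hs.1⟩, hs.2⟩, fun h => hs1 (Subtype.ext h), hs2⟩, ?_⟩
    rintro r ⟨⟨⟨hrT, hra⟩, hrb⟩, hr1, hr2⟩
    exact congrArg Subtype.val (hs3 ⟨r, hrT⟩ ⟨⟨hra, hrb⟩, fun h => hr1 (congrArg Subtype.val h), hr2⟩)
  · rw [hK]; exact Odd.pow (by decide)

/-- `PΓL₂(8)` on 28 points -/
theorem psl2_8_UT (A : AS G Ω T) (hn : Nat.card Ω = 28) {F : Type*} [Field F] [Fintype F] (hF : Fintype.card F = 8)
    (e : T ≃* Matrix.ProjectiveSpecialLinearGroup (Fin 2) F) {a b : Ω} (hab : a ≠ b) :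
    ∃ t : G, t ∈ stabilizer G a ⊓ stabilizer G b ∧ UT G Ω t ∧ Nat.card G = 1512 ∧
      (∀ s ∈ stabilizer G a ⊓ stabilizer G b, s ≠ 1 → s = t) := by
  have := A.finG
  have := A.finT
  have := A.finΩ
  obtain ⟨hT, hconj, hcent⟩ := TTL28.psl_facts hF e
  have h2 : Fact (Nat.Prime 2) := ⟨Nat.prime_two⟩
  obtain ⟨φ, hφ, -, hker⟩ := Cfsg.Agent.S2602.result (F := F) (p := 2) (f := 3) (by norm_num) (by rw [hF]; norm_num)
    (by norm_num)
  have hout : Nat.card (Cfsg.Out (Matrix.ProjectiveSpecialLinearGroup (Fin 2) F)) = 3 := by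
    have h1 := Subgroup.card_mul_index φ.ker
    rw [Subgroup.index_ker, MonoidHom.range_eq_top.2 hφ, Subgroup.card_top, hker,
      Nat.card_congr Multiplicative.toAdd, Nat.card_zmod] at h1
    rw [← h1]; norm_num
  have h4 := TTOut.AS.card_dvd A e
  rw [hout, hT] at h4
  have h5 := card_group (G := G) hab (fun c d hcd => A.two' a b c d hab hcd)
  rw [hn] at h5
  have h6 := Subgroup.card_subgroup_dvd_card T
  rw [hT] at h6
  obtain ⟨hD, hG⟩ : Nat.card ↥(stabilizer G a ⊓ stabilizer G b) = 2 ∧ Nat.card G = 1512 := by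
    have h7 : Nat.card ↥(stabilizer G a ⊓ stabilizer G b) ≤ 2 := by
      have := Nat.le_of_dvd (by norm_num) h4
      omega
    have h8 : 0 < Nat.card ↥(stabilizer G a ⊓ stabilizer G b) := Nat.card_pos
    generalize Nat.card ↥(stabilizer G a ⊓ stabilizer G b) = D at *
    interval_cases D
    · exfalso
      rw [h5] at h6
      revert h6
      decide
    · exact ⟨rfl, by omega⟩
  -- the involution
  obtain ⟨t, ht1⟩ : ∃ t : ↥(stabilizer G a ⊓ stabilizer G b), t ≠ 1 := by
    have : Nontrivial ↥(stabilizer G a ⊓ stabilizer G b) := by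
      rw [← Finite.one_lt_card_iff_nontrivial, hD]; norm_num
    exact exists_ne 1
  have huniq : ∀ s : ↥(stabilizer G a ⊓ stabilizer G b), s ≠ 1 → s = t := by
    intro s hs
    obtain ⟨x, y, hxy, hu⟩ := Nat.card_eq_two_iff.1 hD
    have h7 : ∀ z : ↥(stabilizer G a ⊓ stabilizer G b), z = x ∨ z = y := by
      intro z
      have : z ∈ ({x, y} : Set ↥(stabilizer G a ⊓ stabilizer G b)) := by rw [hu]; trivial
      simpa using this
    rcases h7 1 with h8 | h8 <;> rcases h7 s with h9 | h9 <;> rcases h7 t with h10 | h10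
    all_goals first
      | exact h9.trans h10.symm
      | exact absurd (h9.trans h8.symm) hs
      | exact absurd (h10.trans h8.symm) ht1
  have htt : (t : G) * t = 1 := by
    have h7 : t ^ 2 = 1 := by rw [← hD]; exact pow_card_eq_one'
    have h8 : ((t ^ 2 : ↥(stabilizer G a ⊓ stabilizer G b)) : G) = 1 := by rw [h7]; rfl
    rwa [pow_two] at h8
  have ht1' : (t : G) ≠ 1 := fun h => ht1 (Subtype.ext h)
  have hord : orderOf (t : G) = 2 := orderOf_two_iff.2 ⟨ht1', htt⟩
  have htT : (t : G) ∈ T := by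
    have hnT := A.normal
    have hidx : T.index = 3 := by
      have := T.card_mul_index
      rw [hT, hG] at this
      omega
    rw [← QuotientGroup.eq_one_iff]
    have h1 : orderOf ((t : G) : G ⧸ T) ∣ 2 := by
      apply orderOf_dvd_of_pow_eq_one
      rw [← QuotientGroup.mk_pow, pow_two, htt, QuotientGroup.mk_one]
    have h2 : orderOf ((t : G) : G ⧸ T) ∣ 3 := by
      rw [← hidx]
      exact _root_.orderOf_dvd_natCard _
    have h3 : orderOf ((t : G) : G ⧸ T) ∣ 1 := Nat.dvd_gcd h1 h2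
    rw [← orderOf_eq_one_iff]
    exact Nat.dvd_one.1 h3
  obtain ⟨h8, -⟩ := hcent ⟨t, htT⟩ (by rw [Subgroup.orderOf_mk]; exact hord)
  have h3 : 2 < Nat.card {x : Ω // (t : G) • x = x} := by
    by_contra hcon
    push Not at hcon
    set C := Subgroup.centralizer ({(t : G)} : Set G) with hC
    have hC8 : 8 ≤ Nat.card C := by
      rw [← h8]
      refine Nat.card_le_card_of_injective (fun x => (⟨x.1.1, mem_centralizer_singleton_iff.2
        (congrArg Subtype.val (mem_centralizer_singleton_iff.1 x.2))⟩ : C)) ?_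
      intro x y hxy
      have h9 : (x.1.1 : G) = y.1.1 := congrArg (fun z : C => (z : G)) hxy
      exact Subtype.ext (Subtype.ext h9)
    have hfin : Finite {x : Ω // (t : G) • x = x} := inferInstance
    have hfix : ∀ x : Ω, (t : G) • x = x → x = a ∨ x = b := by
      intro x hx
      by_contra hc
      push Not at hc
      have h9 : ({a, b, x} : Set Ω).ncard = 3 := Set.ncard_eq_three.2 ⟨_, _, _, hab, hc.1.symm, hc.2.symm, rfl⟩
      have h10 : ({a, b, x} : Set Ω) ⊆ {y | (t : G) • y = y} := by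
        rintro y (rfl | rfl | rfl)
        · exact t.2.1
        · exact t.2.2
        · exact hx
      have h11 := Set.ncard_le_ncard h10 (Set.toFinite _)
      rw [h9, ← Nat.card_coe_set_eq] at h11
      exact absurd (h11.trans hcon) (by norm_num)
    have hCt : ∀ g ∈ C, ∀ x : Ω, (t : G) • x = x → (t : G) • g • x = g • x := by
      intro g hg x hx
      rw [hC, mem_centralizer_singleton_iff] at hg
      rw [← mul_smul, ← hg, mul_smul, hx]
    have h9 := card_one C (orbit C a) (b := a) (mem_orbit_self a) (by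
      rintro g hg _ ⟨c, rfl⟩
      exact ⟨⟨g, hg⟩ * c, mul_smul _ _ _⟩) (by
      rintro _ ⟨c, rfl⟩
      exact ⟨c.1, c.2, rfl⟩)
    have h10 : (orbit C a : Set Ω).ncard ≤ 2 := by
      have h11 : (orbit C a : Set Ω) ⊆ {a, b} := by
        rintro _ ⟨c, rfl⟩
        exact hfix _ (hCt c.1 c.2 a t.2.1)
      have h12 := Set.ncard_le_ncard h11 (Set.toFinite _)
      rw [Set.ncard_pair hab] at h12
      exact h12
    have h11 : Nat.card ↥(C ⊓ stabilizer G a) ≤ 2 := by
      rw [← hD]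
      refine Subgroup.card_le_of_le ?_
      rintro g ⟨hg, hga⟩
      refine ⟨hga, ?_⟩
      rcases hfix _ (hCt g hg b t.2.2) with h12 | h12
      · exact absurd (smul_left_cancel g (h12.trans (show g • a = a from hga).symm)) hab.symm
      · exact h12
    have h12 : Nat.card C ≤ 2 * 2 := by
      rw [h9]
      exact Nat.mul_le_mul h10 h11
    omega
  refine ⟨t, t.2, UT.mk' (fun a b c d hab hcd => A.two' a b c d hab hcd) a b hab t ⟨t.2, ht1', h3⟩ ?_, hG, ?_⟩
  · intro s hs hs1 _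
    exact congrArg Subtype.val (huniq ⟨s, hs⟩ (fun h => hs1 (congrArg Subtype.val h)))
  · intro s hs hs1
    exact congrArg Subtype.val (huniq ⟨s, hs⟩ (fun h => hs1 (congrArg Subtype.val h)))

theorem psl2_8_row (A : AS G Ω T) (hn : Nat.card Ω = 28) {F : Type*} [Field F] [Fintype F] (hF : Fintype.card F = 8)
    (e : T ≃* Matrix.ProjectiveSpecialLinearGroup (Fin 2) F) {a b : Ω} (hab : a ≠ b) :
    Subgroup.centralizer ((⊤ : Subgroup G) : Set G) = ⊥ ∧ ReeD (⊤ : Subgroup G) a b := by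
  have := A.finG
  have := A.finT
  have := A.finΩ
  have := A.faithful
  have hnT := A.normal
  obtain ⟨t, ht, H, hG, huniq⟩ := psl2_8_UT A hn hF e hab
  have hT := (TTL28.psl_facts hF e).1
  obtain ⟨D, N, hC⟩ := TTS2213.exists_num (T := T) H
  generalize hk : Nat.card {x : Ω // t • x = x} = k at N hC
  rw [hn] at N
  have h := N.small (by simp only [_root_.Set.mem_insert_iff, _root_.Nat.reduceEqDiff, _root_.Set.mem_singleton_iff, _root_.or_self, _root_.or_false, _root_.or_true])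
  have hg := N.g_eq
  obtain ⟨h6, hD⟩ : k = 4 ∧ D = 2 := by
    rcases h with h | h | h | h
    · omega
    · refine ⟨h.2.1, ?_⟩
      rcases h.2.2 with h7 | h7
      · exact h7
      · rw [h7] at hg; omega
    · omega
    · omega
  subst h6 hD
  obtain ⟨hconj, K, _, _, hKodd, ⟨i⟩⟩ := TTL28.row28 H hF e hG hk hC
  refine ⟨?_, ?_, ⟨t, ⟨⟨⟨mem_top _, ht.1⟩, ht.2⟩, H.ne, H.three⟩, ?_⟩, ?_, ⟨t, mem_top t⟩, K, inferInstance,
    inferInstance, ?_, hKodd, ?_, ?_⟩
  · rw [eq_bot_iff, ← A.cent]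
    exact Subgroup.centralizer_le (fun x _ => mem_top x)
  · rw [is_two_pretransitive_iff]
    intro c d c' d' hcd hcd'
    obtain ⟨g, h1, h2⟩ := A.two' c d c' d' hcd hcd'
    exact ⟨⟨g, mem_top g⟩, h1, h2⟩
  · rintro s ⟨⟨⟨-, hsa⟩, hsb⟩, hs1, -⟩
    exact huniq s ⟨hsa, hsb⟩ hs1
  · intro s r hs hr
    obtain ⟨c, hc⟩ := isConj_iff.1 (hconj s.1 r.1 (by rw [Subgroup.orderOf_coe]; exact hs)
      (by rw [Subgroup.orderOf_coe]; exact hr))
    exact isConj_iff.2 ⟨⟨c, mem_top c⟩, Subtype.ext hc⟩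
  · rw [Subgroup.orderOf_mk]; exact H.orderOf_eq
  · have h1 := Cfsg.Agent.ClassicalGeometry.PSL2Basic.card_PSL2_odd (F := K) hKodd
    have h2 := Nat.card_congr i.toEquiv
    rw [hC, Nat.card_prod, Nat.card_congr Multiplicative.toAdd, Nat.card_zmod] at h2
    have h3 : Fintype.card K * (Fintype.card K ^ 2 - 1) = 24 := by
      rw [← h1, mul_comm]; omega
    have h4 : Fintype.card K ≤ 3 := by
      by_contra hcon
      push Not at hcon
      have h5 : 4 * (4 ^ 2 - 1) ≤ Fintype.card K * (Fintype.card K ^ 2 - 1) := by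
        refine Nat.mul_le_mul hcon ?_
        have := Nat.pow_le_pow_left (show 4 ≤ Fintype.card K from hcon) 2
        omega
      omega
    rw [hn]
    generalize Fintype.card K = q at *
    interval_cases q <;> omega
  · exact ⟨(centCongr (Subgroup.topEquiv (G := G)) ⟨t, mem_top t⟩).trans i⟩

end Cfsg.Agent.H57.TTS2200
end

-- part: H57/TTS2200Main
section
/-!
# S2200: the main theorem, from the classification of the 2-transitive groups
-/

set_option autoImplicit false

open Cfsg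

namespace Cfsg.Agent.H57.TTS2200

open MulAction Subgroup H384.TwoTrans TTSmall
open Cfsg.Agent.H57.TTS2208 (Ords)

universe u v

variable {G : Type u} {Ω : Type v} [Group G] [MulAction G Ω] {T : Subgroup G}

theorem hs (A : AS G Ω T) (hS : SmG G Ω) (hn : Nat.card Ω = 176) (hT : Nat.card T = 44352000)
    (e : Spor.IsoHS T) : False := by
  obtain ⟨t, k, hk, hmk⟩ := exists_elt A hS (by rw [hn]; decide) (κ := 252000) (m := 5) (by rw [hn, hT])
    (by norm_num)
  have h2 := TTHSOrder.hs_order e hk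
  omega

/-- the conclusion for a normal subgroup `L` -/
def Conc (L : Subgroup G) (a b : Ω) : Prop :=
  (∃ (F : Type) (_ : Field F) (_ : Fintype F), Nat.card Ω = Fintype.card F + 1 ∧
      Nonempty (↥L ≃* Matrix.ProjectiveSpecialLinearGroup (Fin 2) F)) ∨
    (∃ (F : Type) (_ : Field F) (_ : Fintype F) (q : ℕ), Fintype.card F = q ^ 2 ∧ Nat.card Ω = q ^ 3 + 1 ∧
      Nonempty (↥L ≃* Cfsg.PSU 3 F q)) ∨
    ReeD L a b ∨
    (Nat.card Ω = 6 ∧ Nonempty (↥L ≃* ↥(alternatingGroup (Fin 6)))) ∨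
    (Nat.card Ω = 8 ∧ Nonempty (↥L ≃* ↥(alternatingGroup (Fin 8)))) ∨
    (Nat.card Ω = 12 ∧ Cfsg.Spor.IsoM11 ↥L)

/-- the action of `T` is that of the alternating group -/
theorem alt_equiv (A : AS G Ω T) {n : ℕ} (hn : Nat.card Ω = n) (hT : 2 * Nat.card T = n.factorial) :
    Nonempty (↥T ≃* ↥(alternatingGroup (Fin n))) := by
  classical
  have := A.finΩ
  have := A.faithfulT
  have := Fintype.ofFinite Ω
  have hr := H347.Aff.range_toPermHom_eq (T := T) (Ω := Ω) (by rw [hn]; exact hT)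
  have e1 : T ≃* (toPermHom T Ω).range := MonoidHom.ofInjective (f := toPermHom T Ω) toPerm_injective
  have e2 : Ω ≃ Fin n := Fintype.equivFinOfCardEq (by rw [← Nat.card_eq_fintype_card, hn])
  exact ⟨(e1.trans (MulEquiv.subgroupCongr hr)).trans e2.altCongrHom⟩

theorem almost (A : AS G Ω T) (hS : SmG G Ω) (hev : Even (Nat.card Ω)) {a b : Ω} (hab : a ≠ b)
    (hK : Known2 T (Nat.card Ω)) (ho : Ords T) :
    ∃ L : Subgroup G, L.Normal ∧ Subgroup.centralizer (L : Set G) = ⊥ ∧ Conc L a b := by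
  have hfinT := A.finT
  have key : Conc T a b → ∃ L : Subgroup G, L.Normal ∧ Subgroup.centralizer (L : Set G) = ⊥ ∧ Conc L a b :=
    fun h => ⟨T, A.normal, A.cent, h⟩
  generalize hn : Nat.card Ω = n at hK
  rw [hn] at hev
  cases hK with
  | alt n hn5 e =>
    obtain ⟨e⟩ := e
    have hT : 2 * Nat.card T = n.factorial := by
      rw [Nat.card_congr e.toEquiv, Nat.card_eq_fintype_card]
      have : Nontrivial (Fin n) := Fin.nontrivial_iff_two_le.2 (by omega)
      rw [two_mul_card_alternatingGroup, Fintype.card_perm, Fintype.card_fin]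
    have h10 := alt_lt A hS (by rw [hn]; exact hT)
    rw [hn] at h10
    have h2 := hev.two_dvd
    obtain rfl | rfl : n = 6 ∨ n = 8 := by omega
    · exact key (Or.inr (Or.inr (Or.inr (Or.inl ⟨hn, ⟨e⟩⟩))))
    · exact key (Or.inr (Or.inr (Or.inr (Or.inr (Or.inl ⟨hn, ⟨e⟩⟩)))))
  | psl F d n hd hd2 e hn' =>
    obtain ⟨e⟩ := e
    rcases Nat.lt_or_ge 2 d with h3 | h3
    · exfalso
      refine psl_row A hS F h3 e (by rw [hn]; exact hn') (by rw [hn]; exact hev)
    · obtain rfl : d = 2 := by omega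
      refine key (Or.inl ⟨F, inferInstance, inferInstance, ?_, ⟨e⟩⟩)
      have hq : 1 < Fintype.card F := Fintype.one_lt_card
      have h4 : (Fintype.card F + 1) * (Fintype.card F - 1) = Fintype.card F ^ 2 - 1 := by
        have := Nat.sq_sub_sq (Fintype.card F) 1
        rw [one_pow] at this
        exact this.symm
      rw [hn]
      exact Nat.eq_of_mul_eq_mul_right (by omega) (hn'.trans h4.symm)
  | sp F m n hF hm e hn' =>
    exfalso
    obtain ⟨e⟩ := e
    exact sp_row A hS e hF hm (by rw [hn]; exact hn')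
  | psu F q n hq hF e hn' =>
    exact key (Or.inr (Or.inl ⟨F, inferInstance, inferInstance, q, hF, by rw [hn, hn'], e⟩))
  | sz F m n hm hF e hn' =>
    exfalso
    rw [hn', hF] at hev
    have h1 : Even ((2 ^ (2 * m + 1)) ^ 2) := by
      rw [← pow_mul]
      exact (even_two).pow_of_ne_zero (by omega)
    exact (Nat.not_even_iff_odd.2 h1.add_one) hev
  | ree K m n hm hK e hn' =>
    obtain ⟨e⟩ := e
    exact key (Or.inr (Or.inr (Or.inl (ree_row A hab hK e (by rw [hn, hn'])))))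
  | psl2_8 F hF e =>
    obtain ⟨e⟩ := e
    obtain ⟨h1, h2⟩ := psl2_8_row A hn hF e hab
    exact ⟨⊤, inferInstance, h1, Or.inr (Or.inr (Or.inl h2))⟩
  | psl2_9 F hF e =>
    obtain ⟨e⟩ := e
    have hT : Nat.card T = 360 := by
      have h1 := Cfsg.Agent.ClassicalGeometry.PSL2Basic.card_PSL2_odd (F := F) (by rw [hF]; decide)
      rw [hF] at h1
      rw [Nat.card_congr e.toEquiv]
      omega
    exact key (Or.inr (Or.inr (Or.inr (Or.inl ⟨hn, alt_equiv A hn (by rw [hT]; rfl)⟩))))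
  | psl2_11 F hF e => exact absurd hev (by decide)
  | psl4_2 F hF e =>
    obtain ⟨e⟩ := e
    have h1 := Cfsg.Agent.S0243.result (F := F) hF 4 (by norm_num)
    rw [Fin.prod_univ_four] at h1
    norm_num only [_root_.one_mul, _root_.Fin.coe_ofNat_eq_mod, _root_.pow_zero, _root_.Nat.add_one_sub_one, _root_.pow_one] at h1
    exact key (Or.inr (Or.inr (Or.inr (Or.inr (Or.inl ⟨hn, alt_equiv A hn (by
      rw [Nat.card_congr e.toEquiv, h1]
      rfl)⟩)))))
  | a7 e => exact absurd hev (by decide)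
  | m11 h => exact absurd hev (by decide)
  | m11' h => exact key (Or.inr (Or.inr (Or.inr (Or.inr (Or.inr ⟨hn, h⟩)))))
  | m12 h => exact (m12 A hS hn (ho.m12 h)).elim
  | m22 h => exact (m22 A hS hn (ho.m22 h)).elim
  | m23 h => exact absurd hev (by decide)
  | m24 h => exact (m24 A hS hn (ho.m24 h)).elim
  | hs h => exact (hs A hS hn (ho.hs h) h).elim
  | co3 h => exact (co3 A hS hn (ho.co3 h) h).elim

/-- S2200 from the classification of the 2-transitive groups -/
theorem main [Finite G] [Fintype Ω] [FaithfulSMul G Ω] (heven : Even (Fintype.card Ω))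
    (h2 : MulAction.IsMultiplyPretransitive G Ω 2) (a b : Ω) (hab : a ≠ b)
    (hS : ∀ S : Sylow 2 ↥(MulAction.stabilizer G a ⊓ MulAction.stabilizer G b),
      IsCyclic ↥(S : Subgroup ↥(MulAction.stabilizer G a ⊓ MulAction.stabilizer G b)) ∨
      (∃ n : ℕ, Nonempty (↥(S : Subgroup ↥(MulAction.stabilizer G a ⊓ MulAction.stabilizer G b)) ≃*
        QuaternionGroup (2 ^ (n + 1)))) ∨
      (∃ n : ℕ, 1 ≤ n ∧ Nonempty (↥(S : Subgroup ↥(MulAction.stabilizer G a ⊓ MulAction.stabilizer G b)) ≃*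
        DihedralGroup (2 ^ n))))
    (hK : ∀ T : Subgroup G, AS G Ω T → Known2 T (Nat.card Ω)) (ho : ∀ T : Subgroup G, Ords T) :
    (∃ N : Subgroup G, N.Normal ∧ (∀ x y : Ω, ∃ n ∈ N, n • x = y) ∧ ∀ x : Ω, ∀ n ∈ N, n • x = x → n = 1) ∨
    (∃ L : Subgroup G, L.Normal ∧ Subgroup.centralizer (L : Set G) = ⊥ ∧
      ((∃ (F : Type) (_ : Field F) (_ : Fintype F), Fintype.card Ω = Fintype.card F + 1 ∧ Nonempty (↥L ≃* Matrix.ProjectiveSpecialLinearGroup (Fin 2) F)) ∨
       (∃ (F : Type) (_ : Field F) (_ : Fintype F) (q : ℕ), Fintype.card F = q ^ 2 ∧ Fintype.card Ω = q ^ 3 + 1 ∧ Nonempty (↥L ≃* Cfsg.PSU 3 F q)) ∨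
       (MulAction.IsMultiplyPretransitive ↥L Ω 2 ∧
         (∃! t : G, t ∈ L ⊓ MulAction.stabilizer G a ⊓ MulAction.stabilizer G b ∧ t ≠ 1 ∧ 2 < Nat.card {x : Ω // t • x = x}) ∧
         (∀ s t : ↥L, orderOf s = 2 → orderOf t = 2 → IsConj s t) ∧
         (∃ (t : ↥L) (K : Type) (_ : Field K) (_ : Fintype K), orderOf t = 2 ∧ Odd (Fintype.card K) ∧ Fintype.card Ω = Fintype.card K ^ 3 + 1 ∧
            Nonempty (↥(Subgroup.centralizer ({t} : Set ↥L)) ≃* Matrix.ProjectiveSpecialLinearGroup (Fin 2) K × Multiplicative (ZMod 2)))) ∨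
       (Fintype.card Ω = 6 ∧ Nonempty (↥L ≃* ↥(alternatingGroup (Fin 6)))) ∨
       (Fintype.card Ω = 8 ∧ Nonempty (↥L ≃* ↥(alternatingGroup (Fin 8)))) ∨
       (Fintype.card Ω = 12 ∧ Cfsg.Spor.IsoM11 ↥L))) := by
  have hSm : SmG G Ω := SmG.of h2 hab hS
  rcases Nat.lt_or_ge (Nat.card Ω) 3 with h3 | h3
  · -- two points
    left
    rw [Nat.card_eq_fintype_card] at h3
    have h2' : 1 < Fintype.card Ω := Fintype.one_lt_card_iff.2 ⟨a, b, hab⟩
    have hc : Fintype.card Ω = 2 := by omega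
    have huniv : ∀ x : Ω, x = a ∨ x = b := by
      intro x
      by_contra hcon
      push Not at hcon
      have h4 : ({a, b, x} : Set Ω).ncard = 3 := Set.ncard_eq_three.2 ⟨_, _, _, hab, hcon.1.symm, hcon.2.symm, rfl⟩
      have h5 := Set.ncard_le_ncard (Set.subset_univ ({a, b, x} : Set Ω)) Set.finite_univ
      rw [h4, Set.ncard_univ, Nat.card_eq_fintype_card, hc] at h5
      omega
    obtain ⟨s, hsa, hsb⟩ := (is_two_pretransitive_iff.1 h2) hab hab.symm
    refine ⟨⊤, inferInstance, ?_, ?_⟩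
    · intro x y
      rcases huniv x with rfl | rfl <;> rcases huniv y with rfl | rfl
      · exact ⟨1, mem_top _, one_smul _ _⟩
      · exact ⟨s, mem_top _, hsa⟩
      · exact ⟨s, mem_top _, hsb⟩
      · exact ⟨1, mem_top _, one_smul _ _⟩
    · intro x n _ hnx
      apply FaithfulSMul.eq_of_smul_eq_smul (α := Ω)
      intro y
      rw [one_smul]
      by_contra hne
      have hyx : y ≠ x := by rintro rfl; exact hne hnx
      have hny : n • y ≠ x := fun h => hyx (smul_left_cancel n (h.trans hnx.symm))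
      rcases huniv x with rfl | rfl <;> rcases huniv y with rfl | rfl <;> rcases huniv (n • y) with h | h <;>
        first
        | exact hyx rfl
        | exact hne h
        | exact hny h
  rcases reduction h2 h3 with ⟨N, hN, -, -, -, htr, hsr⟩ | ⟨T, A⟩
  · exact Or.inl ⟨N, hN, htr, hsr⟩
  · right
    obtain ⟨L, hL, hLc, h⟩ := almost A hSm (by rw [Nat.card_eq_fintype_card]; exact heven) hab (hK T A) (ho T)
    refine ⟨L, hL, hLc, ?_⟩
    unfold Conc ReeD at h
    rw [Nat.card_eq_fintype_card] at h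
    exact h

end Cfsg.Agent.H57.TTS2200
end

-- part: S2200
section
set_option autoImplicit false
open Cfsg

namespace Cfsg.Agent.S2200

/-- Doubly transitive groups of even degree whose two-point stabilizer has cyclic, generalized quaternion or dihedral Sylow 2-subgroups. Let a finite group G act faithfully and 2-transitively on a finite set Ω with an even number of points, and suppose every Sylow 2-subgroup of the stabilizer of two points is cyclic, generalized quaternion or dihedral (the four-group counting as dihedral). Then either G has a normal subgroup acting regularly on Ω, or G has a normal subgroup L with trivial centralizer (so that G embeds in Aut(L)) such that one of the following holds: L ≅ PSL₂(F) and |Ω| = |F| + 1; L ≅ PSU₃(q) and |Ω| = q³ + 1; L acts on Ω as a group of Ree type — L is 2-transitive on Ω, the two-point stabilizer in L has exactly one non-identity element fixing more than two points, all involutions of L are conjugate, and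 some involution of L has centralizer in L isomorphic to PSL₂(K) × C₂ with |K| odd and |Ω| = |K|³ + 1; L ≅ A₆ and |Ω| = 6; L ≅ A₈ and |Ω| = 8; or L is the Mathieu group M₁₁ and |Ω| = 12. -/
theorem result {G Ω : Type*} [Group G] [Finite G] [Fintype Ω] [MulAction G Ω] [FaithfulSMul G Ω]
    (heven : Even (Fintype.card Ω)) (h2 : MulAction.IsMultiplyPretransitive G Ω 2) (a b : Ω) (hab : a ≠ b)
    (hS : ∀ S : Sylow 2 ↥(MulAction.stabilizer G a ⊓ MulAction.stabilizer G b), IsCyclic ↥(S : Subgroup ↥(MulAction.stabilizer G a ⊓ MulAction.stabilizer G b)) ∨ (∃ n : ℕ, Nonempty (↥(S : Subgroup ↥(MulAction.stabilizer G a ⊓ MulAction.stabilizer G b)) ≃* QuaternionGroup (2 ^ (n + 1)))) ∨ (∃ n : ℕ, 1 ≤ n ∧ Nonempty (↥(S : Subgroup ↥(MulAction.stabilizer G a ⊓ MulAction.stabilizer G b)) ≃* DihedralGroup (2 ^ n)))) :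
    (∃ N : Subgroup G, N.Normal ∧ (∀ x y : Ω, ∃ n ∈ N, n • x = y) ∧ ∀ x : Ω, ∀ n ∈ N, n • x = x → n = 1) ∨
    (∃ L : Subgroup G, L.Normal ∧ Subgroup.centralizer (L : Set G) = ⊥ ∧
      ((∃ (F : Type) (_ : Field F) (_ : Fintype F), Fintype.card Ω = Fintype.card F + 1 ∧ Nonempty (↥L ≃* Matrix.ProjectiveSpecialLinearGroup (Fin 2) F)) ∨
       (∃ (F : Type) (_ : Field F) (_ : Fintype F) (q : ℕ), Fintype.card F = q ^ 2 ∧ Fintype.card Ω = q ^ 3 + 1 ∧ Nonempty (↥L ≃* Cfsg.PSU 3 F q)) ∨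
       (MulAction.IsMultiplyPretransitive ↥L Ω 2 ∧
         (∃! t : G, t ∈ L ⊓ MulAction.stabilizer G a ⊓ MulAction.stabilizer G b ∧ t ≠ 1 ∧ 2 < Nat.card {x : Ω // t • x = x}) ∧
         (∀ s t : ↥L, orderOf s = 2 → orderOf t = 2 → IsConj s t) ∧
         (∃ (t : ↥L) (K : Type) (_ : Field K) (_ : Fintype K), orderOf t = 2 ∧ Odd (Fintype.card K) ∧ Fintype.card Ω = Fintype.card K ^ 3 + 1 ∧
            Nonempty (↥(Subgroup.centralizer ({t} : Set ↥L)) ≃* Matrix.ProjectiveSpecialLinearGroup (Fin 2) K × Multiplicative (ZMod 2)))) ∨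
       (Fintype.card Ω = 6 ∧ Nonempty (↥L ≃* ↥(alternatingGroup (Fin 6)))) ∨
       (Fintype.card Ω = 8 ∧ Nonempty (↥L ≃* ↥(alternatingGroup (Fin 8)))) ∨
       (Fintype.card Ω = 12 ∧ Cfsg.Spor.IsoM11 ↥L))) := by
  exact Cfsg.Agent.H57.TTS2200.main heven h2 a b hab hS
    (fun T A => Cfsg.Agent.H384.TwoTransMain.main (fun X _ _ _ => Cfsg.Agent.S0000.result) A)
    (fun T => by
      have : Finite T := inferInstance
      exact ⟨Cfsg.Agent.NotCT.Orders.m11, Cfsg.Agent.NotCT.Orders.m12, Cfsg.Agent.NotCT.Orders.m22,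
        Cfsg.Agent.NotCT.Orders.m23, Cfsg.Agent.NotCT.Orders.m24, Cfsg.Agent.NotCT.Orders.hs,
        Cfsg.Agent.NotCT.Orders.co3⟩)

end Cfsg.Agent.S2200
end
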