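import Cfsg.Agent.H90.R3.Line_mg
import Cfsg.Agent.OddOrderLocal.CNNil
import Cfsg.Statements.S2207
import Cfsg.Agent.H352.Order120
import Cfsg.Agent.S0547
import Cfsg.Agent.S0144
set_option linter.all false

-- part: H90/R3/Exist
section
/-!
# Rank three groups with a Frobenius suborbit: the data exist
-/

set_option autoImplicit false

namespace Cfsg.Agent.H90.R3

open Subgroup
open scoped Pointwise

/-- an invariant equivalence relation of a primitive group is trivial -/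
theorem no_equiv {G X : Type*} [Group G] [MulAction G X] (hprim : MulAction.IsPreprimitive G X) (E : X → X → Prop)
    (hr : ∀ P, E P P) (hs : ∀ {P Q}, E P Q → E Q P) (ht : ∀ {P Q R}, E P Q → E Q R → E P R)
    (hi : ∀ (g : G) {P Q}, E P Q → E (g • P) (g • Q)) {P Q R : X} (hPQ : E P Q) (hne : P ≠ Q) (hPR : ¬ E P R) : False := by
  have hB : MulAction.IsBlock G {S | E P S} := by
    rw [MulAction.isBlock_iff_smul_eq_or_disjoint]
    intro g
    have hmem : ∀ S, S ∈ g • {S | E P S} ↔ E (g • P) S := by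
      intro S
      rw [Set.mem_smul_set_iff_inv_smul_mem, Set.mem_setOf_eq]
      constructor
      · intro h
        have := hi g h
        rwa [smul_inv_smul] at this
      · intro h
        have := hi g⁻¹ h
        rwa [inv_smul_smul] at this
    by_cases h : E P (g • P)
    · left
      ext S
      rw [hmem, Set.mem_setOf_eq]
      exact ⟨fun h' => ht h h', fun h' => ht (hs h) h'⟩
    · right
      rw [Set.disjoint_left]
      intro S hS hS'
      rw [hmem] at hS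
      exact h (ht hS' (hs hS))
  rcases hprim.isTrivialBlock_of_isBlock hB with h | h
  · exact hne (h (hr P) hPQ)
  · have : R ∈ ({S | E P S} : Set X) := by rw [h]; exact Set.mem_univ R
    exact hPR this

theorem card_pairs {G X : Type*} [Group G] [MulAction G X] [Finite G] [Finite X] (P : X) (p : X → Prop) {m c : ℕ}
    (hm : Nat.card {Q // p Q} = m)
    (hc : ∀ Q, p Q → Nat.card {g : G // g • P = P ∧ g • Q = Q} = c)
    (hp : ∀ (g : G) Q, g • P = P → p Q → p (g • Q))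
    (ht : ∀ Q Q', p Q → p Q' → ∃ g : G, g • P = P ∧ g • Q = Q') (hne : ∃ Q, p Q) :
    Nat.card {g : G // g • P = P} = m * c := by
  obtain ⟨Q₀, hQ₀⟩ := hne
  have h := dc (α := {g : G // g • P = P}) (β := {Q // p Q}) (fun g Q => g.1 • Q₀ = Q.1) (x := 1) (y := c) ?_ ?_
  · rw [mul_one] at h
    rw [h, hm]
  · rintro ⟨g, hg⟩
    rw [Nat.card_eq_one_iff_unique]
    refine ⟨⟨?_⟩, ⟨⟨⟨g • Q₀, hp g Q₀ hg hQ₀⟩, rfl⟩⟩⟩
    rintro ⟨⟨a, ha⟩, ha'⟩ ⟨⟨b, hb⟩, hb'⟩
    exact Subtype.ext (Subtype.ext (ha'.symm.trans hb'))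
  · rintro ⟨Q, hQ⟩
    obtain ⟨g₀, h1, h2⟩ := ht Q₀ Q hQ₀ hQ
    rw [← hc Q₀ hQ₀, ← coset2 h1 h2]
    exact Nat.card_congr ⟨fun g => ⟨g.1.1, g.1.2, g.2⟩, fun g => ⟨⟨g.1, g.2.1⟩, g.2.2⟩, fun g => rfl, fun g => rfl⟩

theorem card_group {G X : Type*} [Group G] [MulAction G X] [Finite G] [Finite X] (P : X)
    (ht : ∀ Q : X, ∃ g : G, g • P = Q) :
    Nat.card G = Nat.card X * Nat.card {g : G // g • P = P} := by
  have h := dc (α := G) (β := X) (fun g Q => g • P = Q) (x := 1) (y := Nat.card {g : G // g • P = P}) ?_ ?_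
  · rw [mul_one] at h
    exact h
  · intro g
    rw [Nat.card_eq_one_iff_unique]
    exact ⟨⟨fun a b => Subtype.ext (a.2.symm.trans b.2)⟩, ⟨⟨g • P, rfl⟩⟩⟩
  · intro Q
    obtain ⟨g₀, h1⟩ := ht Q
    exact coset1 h1

theorem exists_dat {G X : Type*} [Group G] [Finite G] [Fintype X] [MulAction G X] [FaithfulSMul G X]
    (heven : Even (Nat.card G)) (hprim : MulAction.IsPreprimitive G X) (A : X)
    (h3 : Nat.card (MulAction.orbitRel.Quotient ↥(MulAction.stabilizer G A) X) = 3) (B : X) (hBA : B ≠ A)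
    (hfix : ∃ g ∈ MulAction.stabilizer G A, g ≠ 1 ∧ g • B = B)
    (hfrob : ∀ g ∈ MulAction.stabilizer G A, ∀ h ∈ MulAction.stabilizer G A, g • B = B → g • (h • B) = h • B →
      h • B ≠ B → g = 1) :
    ∃ (D : Dat G X) (n k l f d : ℕ), Num D n k l f d := by
  classical
  have tr : ∀ P Q : X, ∃ g : G, g • P = Q := fun P Q => MulAction.exists_smul_eq G P Q
  set Adj : X → X → Prop := fun P Q => ∃ g : G, g • A = P ∧ g • B = Q with hAdj
  -- the orbits of the stabilizer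
  let q : X → MulAction.orbitRel.Quotient ↥(MulAction.stabilizer G A) X := fun P => Quotient.mk'' P
  have hq : ∀ P P', q P = q P' ↔ ∃ h : G, h • A = A ∧ h • P' = P := by
    intro P P'
    rw [Quotient.eq'', MulAction.orbitRel_apply]
    constructor
    · rintro ⟨⟨h, hh⟩, h1⟩
      exact ⟨h, hh, h1⟩
    · rintro ⟨h, hh, h1⟩
      exact ⟨⟨h, hh⟩, h1⟩
  have hfin : Finite (MulAction.orbitRel.Quotient ↥(MulAction.stabilizer G A) X) := Quotient.finite _
  have hAB : q A ≠ q B := by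
    rw [Ne, hq]
    rintro ⟨h, h1, h2⟩
    apply hBA
    have : h • B = h • A := by rw [h2, h1]
    exact smul_left_cancel h this
  obtain ⟨C, hCA, hCB⟩ : ∃ C, q C ≠ q A ∧ q C ≠ q B := by
    by_contra hcon
    push Not at hcon
    have h4 : (Set.univ : Set (MulAction.orbitRel.Quotient ↥(MulAction.stabilizer G A) X)) ⊆ {q A, q B} := by
      intro c _
      obtain ⟨P, rfl⟩ := Quotient.exists_rep c
      by_cases h5 : q P = q A
      · exact Or.inl h5
      · exact Or.inr (hcon P h5)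
    have h5 := Set.ncard_le_ncard h4 (Set.toFinite _)
    rw [Set.ncard_univ, h3] at h5
    have h6 := Set.ncard_insert_le (q A) {q B}
    rw [Set.ncard_singleton] at h6
    omega
  have hcov : ∀ P, q P = q A ∨ q P = q B ∨ q P = q C := by
    intro P
    have h4 : ({q A, q B, q C} : Set (MulAction.orbitRel.Quotient ↥(MulAction.stabilizer G A) X)) = Set.univ := by
      apply Set.eq_of_subset_of_ncard_le (Set.subset_univ _)
      · rw [Set.ncard_univ, h3, Set.ncard_eq_three.2 ⟨q A, q B, q C, hAB, hCA.symm, hCB.symm, rfl⟩]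
    have h5 : q P ∈ ({q A, q B, q C} : Set (MulAction.orbitRel.Quotient ↥(MulAction.stabilizer G A) X)) := by
      rw [h4]; exact Set.mem_univ _
    exact h5
  have hqA : ∀ P, q P = q A → P = A := by
    intro P h
    obtain ⟨h, h1, h2⟩ := (hq _ _).1 h
    rw [← h2, h1]
  have hAdjA : ∀ P, Adj A P ↔ q P = q B := by
    intro P
    rw [hq]
  have hneA : ∀ P, P ≠ A → ¬ Adj A P → q P = q C := by
    intro P h1 h2
    rcases hcov P with h | h | h
    · exact absurd (hqA P h) h1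
    · exact absurd ((hAdjA P).2 h) h2
    · exact h
  have smul : ∀ (g : G) {P Q}, Adj P Q → Adj (g • P) (g • Q) := by
    rintro g P Q ⟨u, h1, h2⟩
    exact ⟨g * u, by rw [mul_smul, h1], by rw [mul_smul, h2]⟩
  have smul' : ∀ (g : G) {P Q}, Adj (g • P) (g • Q) ↔ Adj P Q := by
    intro g P Q
    refine ⟨fun h => ?_, smul g⟩
    have := smul g⁻¹ h
    rwa [inv_smul_smul, inv_smul_smul] at this
  have irr : ∀ P, ¬ Adj P P := by
    rintro P ⟨u, h1, h2⟩
    exact hBA (smul_left_cancel u (h2.trans h1.symm))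
  have hnon : ∀ {P Q}, P ≠ Q → ¬ Adj P Q → ∃ g : G, g • A = P ∧ g • C = Q := by
    intro P Q h1 h2
    obtain ⟨g, hg⟩ := tr A P
    have h4 : q (g⁻¹ • Q) = q C := by
      apply hneA
      · intro h5
        apply h1
        rw [← hg, ← h5, smul_inv_smul]
      · intro h5
        apply h2
        have := smul g h5
        rwa [smul_inv_smul, hg] at this
    obtain ⟨h, h5, h6⟩ := (hq _ _).1 h4
    exact ⟨g * h, by rw [mul_smul, h5, hg], by rw [mul_smul, h6, smul_inv_smul]⟩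
  have trA : ∀ {P Q P' Q'}, Adj P Q → Adj P' Q' → ∃ g : G, g • P = P' ∧ g • Q = Q' := by
    rintro P Q P' Q' ⟨u, rfl, rfl⟩ ⟨v, rfl, rfl⟩
    exact ⟨v * u⁻¹, by rw [mul_smul, inv_smul_smul], by rw [mul_smul, inv_smul_smul]⟩
  have trN : ∀ {P Q P' Q'}, P ≠ Q → ¬ Adj P Q → P' ≠ Q' → ¬ Adj P' Q' → ∃ g : G, g • P = P' ∧ g • Q = Q' := by
    intro P Q P' Q' h1 h2 h1' h2'
    obtain ⟨u, rfl, rfl⟩ := hnon h1 h2
    obtain ⟨v, rfl, rfl⟩ := hnon h1' h2'
    exact ⟨v * u⁻¹, by rw [mul_smul, inv_smul_smul], by rw [mul_smul, inv_smul_smul]⟩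
  -- symmetry
  have symm : ∀ {P Q}, Adj P Q → Adj Q P := by
    intro P Q hPQ
    obtain ⟨t, ht⟩ := exists_prime_orderOf_dvd_card' 2 heven.two_dvd
    have ht1 : t ≠ 1 := by
      rintro rfl
      simp at ht
    have ht2 : ∀ x : X, t • t • x = x := by
      intro x
      rw [← mul_smul, ← pow_two, ← ht, pow_orderOf_eq_one, one_smul]
    obtain ⟨x, hx⟩ : ∃ x : X, t • x ≠ x := by
      by_contra hcon
      push Not at hcon
      exact ht1 (FaithfulSMul.eq_of_smul_eq_smul (α := X) (fun x => by rw [hcon x, one_smul]))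
    by_cases hxy : Adj x (t • x)
    · have hyx : Adj (t • x) x := by
        have := smul t hxy
        rwa [ht2] at this
      obtain ⟨u, h1, h2⟩ := trA hxy hPQ
      have := smul u hyx
      rwa [h1, h2] at this
    · have hyx : ¬ Adj (t • x) x := by
        intro h
        apply hxy
        have := smul t h
        rwa [ht2] at this
      by_contra hQP
      have hne : Q ≠ P := by
        rintro rfl
        exact irr _ hPQ
      obtain ⟨u, h1, h2⟩ := trN (Ne.symm hx) hxy hne hQP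
      apply hyx
      rw [← smul' u, h1, h2]
      exact hPQ
  have free : ∀ {g : G} {P Q Q'}, g • P = P → Adj P Q → g • Q = Q → Adj P Q' → g • Q' = Q' → Q ≠ Q' → g = 1 := by
    rintro g P Q Q' hg ⟨u, rfl, rfl⟩ hgQ ⟨v, hv1, rfl⟩ hgQ' hne
    have h1 := hfrob (u⁻¹ * g * u) (by rw [MulAction.mem_stabilizer_iff, mul_smul, mul_smul, hg, inv_smul_smul])
      (u⁻¹ * v) (by rw [MulAction.mem_stabilizer_iff, mul_smul, hv1, inv_smul_smul])
      (by rw [mul_smul, mul_smul, hgQ, inv_smul_smul])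
      (by rw [mul_smul, mul_smul, mul_smul, smul_inv_smul, hgQ'])
      (by
        intro h
        apply hne
        rw [mul_smul, inv_smul_eq_iff] at h
        exact h.symm)
    have : g = u * (u⁻¹ * g * u) * u⁻¹ := by group
    rw [this, h1]
    group
  have nfree : ∀ {P Q}, Adj P Q → ∃ g : G, g ≠ 1 ∧ g • P = P ∧ g • Q = Q := by
    rintro P Q ⟨u, rfl, rfl⟩
    obtain ⟨g, hg, hg1, hgB⟩ := hfix
    rw [MulAction.mem_stabilizer_iff] at hg
    refine ⟨u * g * u⁻¹, ?_, ?_, ?_⟩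
    · intro h
      apply hg1
      have : g = u⁻¹ * (u * g * u⁻¹) * u := by group
      rw [this, h]
      group
    · rw [mul_smul, mul_smul, inv_smul_smul, hg]
    · rw [mul_smul, mul_smul, inv_smul_smul, hgB]
  have exA : ∀ P, ∃ Q, Adj P Q := by
    intro P
    obtain ⟨g, hg⟩ := tr A P
    exact ⟨g • B, g, hg, rfl⟩
  have hACn : ¬ Adj A C := fun h => hCB ((hAdjA C).1 h)
  have hCne : C ≠ A := fun h => hCA (by rw [h])
  have exN : ∀ P, ∃ Q, P ≠ Q ∧ ¬ Adj P Q := by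
    intro P
    obtain ⟨g, hg⟩ := tr A P
    refine ⟨g • C, ?_, ?_⟩
    · intro h
      rw [← hg] at h
      exact hCne (smul_left_cancel g h).symm
    · rw [← hg, smul']
      exact hACn
  have hAB' : Adj A B := (hAdjA B).2 rfl
  have blA : ∀ P, ∃ Q R, Adj P Q ∧ Adj P R ∧ Q ≠ R ∧ ¬ Adj Q R := by
    intro P
    by_contra hcon
    push Not at hcon
    have hall : ∀ S Q R, Adj S Q → Adj S R → Q ≠ R → Adj Q R := by
      intro S Q R h1 h2 h3
      obtain ⟨g, hg⟩ := tr S P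
      have h4 := hcon (g • Q) (g • R) (by rw [← hg]; exact smul g h1) (by rw [← hg]; exact smul g h2)
        (fun h => h3 (smul_left_cancel g h))
      exact (smul' g).1 h4
    refine no_equiv hprim (fun P Q => P = Q ∨ Adj P Q) (fun P => Or.inl rfl) ?_ ?_ ?_ (P := A) (Q := B) (R := C)
      (Or.inr hAB') hBA.symm ?_
    · rintro P Q (h | h)
      · exact Or.inl h.symm
      · exact Or.inr (symm h)
    · rintro P Q R (rfl | h) (rfl | h')
      · exact Or.inl rfl
      · exact Or.inr h'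
      · exact Or.inr h
      · by_cases h4 : P = R
        · exact Or.inl h4
        · exact Or.inr (hall Q P R (symm h) h' h4)
    · rintro g P Q (rfl | h)
      · exact Or.inl rfl
      · exact Or.inr (smul g h)
    · rintro (h | h)
      · exact hCne h.symm
      · exact hACn h
  have blN : ∀ P, ∃ Q R, P ≠ Q ∧ ¬ Adj P Q ∧ P ≠ R ∧ ¬ Adj P R ∧ Adj Q R := by
    intro P
    by_contra hcon
    push Not at hcon
    have hall : ∀ S Q R, S ≠ Q → ¬ Adj S Q → S ≠ R → ¬ Adj S R → ¬ Adj Q R := by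
      intro S Q R h1 h2 h3 h4 h5
      obtain ⟨g, hg⟩ := tr S P
      have h6 := hcon (g • Q) (g • R) (by rw [← hg]; exact fun h => h1 (smul_left_cancel g h))
        (by rw [← hg, smul']; exact h2) (by rw [← hg]; exact fun h => h3 (smul_left_cancel g h))
        (by rw [← hg, smul']; exact h4)
      exact h6 ((smul' g).2 h5)
    refine no_equiv hprim (fun P Q => ¬ Adj P Q) irr ?_ ?_ ?_ (P := A) (Q := C) (R := B)
      hACn hCne.symm (not_not.2 hAB')
    · intro P Q h h'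
      exact h (symm h')
    · intro P Q R h h' h4
      by_cases h5 : Q = P
      · subst h5
        exact h' h4
      · by_cases h6 : Q = R
        · subst h6
          exact h h4
        · exact hall Q P R h5 (fun h' => h (symm h')) h6 h' h4
    · intro g P Q h h'
      exact h ((smul' g).1 h')
  -- the kernels
  have hK := fun P => exists_kernel Adj smul trA free nfree blA P
  choose K hK1 hK2 hK3 hK4 using hK
  let D : Dat G X := ⟨Adj, K, symm, irr, smul, tr, trA, trN, free, nfree, exA, exN, blA, blN, fun {P g} => hK1 P g, hK2⟩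
  have cA : ∀ P, Nat.card {Q // Adj P Q} = Nat.card {Q // Adj A Q} := by
    intro P
    obtain ⟨g, hg⟩ := tr A P
    refine (Nat.card_congr ((MulAction.toPerm g).subtypeEquiv ?_)).symm
    intro Q
    rw [MulAction.toPerm_apply, ← hg, smul']
  have cN : ∀ P, Nat.card {Q // P ≠ Q ∧ ¬ Adj P Q} = Nat.card {Q // A ≠ Q ∧ ¬ Adj A Q} := by
    intro P
    obtain ⟨g, hg⟩ := tr A P
    refine (Nat.card_congr ((MulAction.toPerm g).subtypeEquiv ?_)).symm
    intro Q
    rw [MulAction.toPerm_apply, ← hg, smul', Ne, Ne, (MulAction.injective g).eq_iff]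
  have sA : ∀ {P Q}, Adj P Q → Nat.card {g : G // g • P = P ∧ g • Q = Q} = Nat.card {g : G // g • A = A ∧ g • B = B} := by
    rintro P Q ⟨u, h1, h2⟩
    exact conj2 h1 h2
  have sN : ∀ {P Q}, P ≠ Q → ¬ Adj P Q → Nat.card {g : G // g • P = P ∧ g • Q = Q} =
      Nat.card {g : G // g • A = A ∧ g • C = C} := by
    intro P Q hne hna
    obtain ⟨u, h1, h2⟩ := hnon hne hna
    exact conj2 h1 h2
  have cS : ∀ P : X, Nat.card {g : G // g • P = P} = Nat.card {Q // Adj A Q} * Nat.card {g : G // g • A = A ∧ g • B = B} := by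
    intro P
    exact card_pairs P (fun Q => Adj P Q) (cA P) (fun Q hQ => sA hQ)
      (fun g Q hg hQ => by have := smul g hQ; rwa [hg] at this) (fun Q Q' hQ hQ' => trA hQ hQ') (exA P)
  have cS' : ∀ P : X, Nat.card {g : G // g • P = P} =
      Nat.card {Q // A ≠ Q ∧ ¬ Adj A Q} * Nat.card {g : G // g • A = A ∧ g • C = C} := by
    intro P
    exact card_pairs P (fun Q => P ≠ Q ∧ ¬ Adj P Q) (cN P) (fun Q hQ => sN hQ.1 hQ.2)
      (fun g Q hg hQ => ⟨fun h => hQ.1 (smul_left_cancel g (hg.trans h)), fun h => hQ.2 ((smul' g).1 (by rw [hg]; exact h))⟩)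
      (fun Q Q' hQ hQ' => trN hQ.1 hQ.2 hQ'.1 hQ'.2) (exN P)
  refine ⟨D, Nat.card X, Nat.card {Q // Adj A Q}, Nat.card {Q // A ≠ Q ∧ ¬ Adj A Q},
    Nat.card {g : G // g • A = A ∧ g • B = B}, Nat.card {g : G // g • A = A ∧ g • C = C}, ?_⟩
  refine ⟨rfl, cA, cN, sA, sN, cS, ?_, ?_, ?_, ?_, ?_, ?_, ?_, ?_, ?_⟩
  · rw [← cS A, ← cS' A]
  · intro P
    rw [← cA P]
    exact hK3 P
  · rw [← hK3 A]
    exact (hK4 A B hAB').1
  · rw [← hK3 A]
    exact (hK4 A B hAB').2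
  · rw [card_group A (tr A), cS A]
  · have h4 : Nat.card {Q // ¬ Adj A Q} = Nat.card {Q // A ≠ Q ∧ ¬ Adj A Q} + 1 := by
      rw [← Finite.card_option]
      refine (Nat.card_congr ⟨fun o => o.elim ⟨A, irr A⟩ (fun Q => ⟨Q.1, Q.2.2⟩),
        fun Q => if h : A = Q.1 then none else some ⟨Q.1, h, Q.2⟩, ?_, ?_⟩).symm
      · rintro (_ | ⟨Q, hQ1, hQ2⟩)
        · simp
        · simp [hQ1]
      · rintro ⟨Q, hQ⟩
        by_cases h : A = Q
        · subst h
          simp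
        · simp [h]
    have h5 : Nat.card X = Nat.card {Q // Adj A Q} + Nat.card {Q // ¬ Adj A Q} := by
      rw [← Nat.card_sum]
      exact Nat.card_congr (Equiv.sumCompl _).symm
    rw [h5, h4]
    ring
  · obtain ⟨g, hg, hg1, hgB⟩ := hfix
    have : Nontrivial {g : G // g • A = A ∧ g • B = B} :=
      ⟨⟨1, one_smul _ _, one_smul _ _⟩, ⟨g, hg, hgB⟩, fun h => hg1 (congrArg Subtype.val h).symm⟩
    exact Finite.one_lt_card
  · obtain ⟨Q, R, hQ, hR, hne, -⟩ := blA A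
    have : Nontrivial {Q // Adj A Q} := ⟨⟨Q, hQ⟩, ⟨R, hR⟩, fun h => hne (congrArg Subtype.val h)⟩
    exact Finite.one_lt_card
  · have : Nonempty {Q // A ≠ Q ∧ ¬ Adj A Q} := ⟨⟨C, hCne.symm, hACn⟩⟩
    exact Finite.card_pos

end Cfsg.Agent.H90.R3
end

-- part: H90/R3/EvenLine
section
/-!
# Rank three groups with a Frobenius suborbit: lines when the complement has even order
-/

set_option autoImplicit false

namespace Cfsg.Agent.H90.R3

open Subgroup

variable {G X : Type*} [Group G] [MulAction G X] {D : Dat G X} {n k l f d : ℕ}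

section

variable [Finite G] [Finite X] (N : Num D n k l f d) (hf : Even f) {H : Subgroup G} (hH : IsLine D H)
include N hf hH

/-- an involution fixing a point of the line inverts `H` -/
theorem inv_line {R : X} {t : G} (hR : Fx H R) (ht : Inv G R t) {x : G} (hx : x ∈ H) : t * x * t = x⁻¹ :=
  inverts N hf ht (hH.le_K N hR hx)

theorem inv_nz {R : X} {t : G} (hR : Fx H R) (ht : Inv G R t) : Nz H t := by
  have h1 : ∀ x ∈ H, t * x * t⁻¹ ∈ H := by
    intro x hx
    rw [ht.inv_eq, inv_line N hf hH hR ht hx]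
    exact inv_mem hx
  intro x
  refine ⟨fun h => ?_, h1 x⟩
  have h2 := h1 _ h
  have h3 : t * (t * x * t⁻¹) * t⁻¹ = x := by
    rw [ht.inv_eq]
    calc t * (t * x * t) * t = (t * t) * x * (t * t) := by group
      _ = x := by rw [ht.2.1]; group
  rwa [h3] at h2

theorem K_nz {R : X} {x : G} (hR : Fx H R) (hx : x ∈ D.K R) : Nz H x := by
  have h1 : ∀ y ∈ H, x * y * x⁻¹ = y := by
    intro y hy
    rw [comm_K N hf hx (hH.le_K N hR hy), mul_inv_cancel_right]
  intro y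
  refine ⟨fun h => ?_, fun h => by rw [h1 y h]; exact h⟩
  have h2 : x⁻¹ ∈ D.K R := inv_mem hx
  have h3 : x * y * x⁻¹ ∈ D.K R := hH.le_K N hR h
  have h4 := comm_K N hf h2 h3
  have h5 : y = x * y * x⁻¹ := by
    calc y = x⁻¹ * (x * y * x⁻¹) * x := by group
      _ = x * y * x⁻¹ * x⁻¹ * x := by rw [h4]
      _ = _ := by group
  rw [h5]
  exact h

theorem exists_c : ∃ c : ℕ, ∀ {R : X} {t : G}, Fx H R → Inv G R t → Nat.card {S : X // Fx H S ∧ t • S = S} = c := by
  obtain ⟨R₀, hR₀⟩ : ∃ R₀ : X, Fx H R₀ := by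
    obtain ⟨P, Q, -⟩ := hH.ex
    obtain ⟨S, hS, -⟩ := hH.exists_ne P
    exact ⟨S, hS⟩
  obtain ⟨t₀, ht₀⟩ := exists_inv N hf R₀
  refine ⟨Nat.card {S : X // Fx H S ∧ t₀ • S = S}, ?_⟩
  intro R t hR ht
  obtain ⟨g, hg1, hg2⟩ := hH.tr1 N hR₀ hR
  have h1 := ht₀.conj g
  rw [hg1] at h1
  obtain ⟨x, hx1, hx2⟩ := conj_in N hf h1 ht
  have h3 : Nz H (x * g) := (K_nz N hf hH hR hx1).mul hg2
  have h4 : x * g * t₀ * (x * g)⁻¹ = t := by
    rw [← hx2]
    group
  refine (Nat.card_congr ((MulAction.toPerm (x * g)).subtypeEquiv ?_)).symm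
  intro S
  rw [MulAction.toPerm_apply, h3.fx_iff, ← h4, mul_smul (x * g * t₀), inv_smul_smul, mul_smul (x * g),
    (MulAction.injective (x * g)).eq_iff]

/-- the involutions of a line moving `P` to `R` -/
theorem swap_line {P : X} (hP : Fx H P) : ∃ m : ℕ, (∀ R : X, Fx H R → P ≠ R →
    Nat.card {t : G // (∃ S : X, Fx H S ∧ Inv G S t) ∧ t • P = R} = m) ∧ (m = 0 ∨ m = Nat.card H) := by
  obtain ⟨R₀, hR₀, hPR₀⟩ := hH.exists_ne P
  refine ⟨Nat.card {t : G // (∃ S : X, Fx H S ∧ Inv G S t) ∧ t • P = R₀}, ?_, ?_⟩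
  · intro R hR hPR
    obtain ⟨g, hg1, hg2, hg3⟩ := hH.tr2 N hP hR₀ hPR₀ hP hR hPR
    refine (Nat.card_congr ((MulAut.conj g).toEquiv.subtypeEquiv ?_)).symm
    intro t
    have hg1' : g⁻¹ • P = P := by rw [inv_smul_eq_iff, hg1]
    show _ ↔ (∃ S : X, Fx H S ∧ Inv G S (g * t * g⁻¹)) ∧ (g * t * g⁻¹) • P = R
    constructor
    · rintro ⟨⟨S, hS1, hS2⟩, h⟩
      exact ⟨⟨g • S, hg3.fx hS1, hS2.conj g⟩, by rw [mul_smul, mul_smul, hg1', h, hg2]⟩
    · rintro ⟨⟨S, hS1, hS2⟩, h⟩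
      refine ⟨⟨g⁻¹ • S, hg3.inv.fx hS1, ?_⟩, ?_⟩
      · have := hS2.conj g⁻¹
        have e : g⁻¹ * (g * t * g⁻¹) * g⁻¹⁻¹ = t := by group
        rwa [e] at this
      · rw [mul_smul, mul_smul, hg1', ← hg2] at h
        exact MulAction.injective g h
  · by_cases he : Nonempty {t : G // (∃ S : X, Fx H S ∧ Inv G S t) ∧ t • P = R₀}
    · right
      obtain ⟨⟨t₁, ⟨S₁, hS₁, ht₁⟩, h₁⟩⟩ := he
      have h₁' : t₁ • R₀ = P := by rw [← h₁, ← mul_smul, ht₁.2.1, one_smul]
      obtain ⟨x₀, hx₀, hx₀1⟩ := hH.exists_one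
      refine Nat.card_congr ⟨fun t => ⟨t₁ * t.1, ?_⟩, fun x => ⟨t₁ * x.1, ⟨S₁, hS₁, ?_⟩, ?_⟩, ?_, ?_⟩
      · obtain ⟨t, ⟨S, hS, ht⟩, h⟩ := t
        show t₁ * t ∈ H
        have h3 : (t₁ * t) • P = P := by rw [mul_smul, h, h₁']
        have h4 : (t₁ * t) • R₀ = R₀ := by
          rw [mul_smul, ← h, ← mul_smul t, ht.2.1, one_smul, h₁, h]
        refine hH.mem_of_fix N hP hR₀ hPR₀ (D.comm_mem (hH.le_K N hP hx₀) hx₀1 h3 ?_) h4
        have h5 := inv_line N hf hH hS ht hx₀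
        have h6 := inv_line N hf hH hS₁ ht₁ (inv_mem hx₀)
        calc t₁ * t * x₀ = t₁ * (t * x₀ * t) * t := by
              have : t * x₀ * t * t = t * x₀ := by rw [mul_assoc, ht.2.1, mul_one]
              rw [mul_assoc t₁ _ t, this, mul_assoc]
          _ = t₁ * x₀⁻¹ * t₁ * t₁ * t := by
              rw [h5, mul_assoc (t₁ * x₀⁻¹) t₁ t₁, ht₁.2.1, mul_one]
          _ = x₀ * (t₁ * t) := by rw [h6, inv_inv, mul_assoc]
      · exact inv_mul N hf ht₁ (hH.le_K N hS₁ x.2)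
      · rw [mul_smul, hP x.1 x.2, h₁]
      · intro t
        apply Subtype.ext
        show t₁ * (t₁ * t.1) = t.1
        rw [← mul_assoc, ht₁.2.1, one_mul]
      · intro x
        apply Subtype.ext
        show t₁ * (t₁ * x.1) = x.1
        rw [← mul_assoc, ht₁.2.1, one_mul]
    · left
      rw [Nat.card_eq_zero]
      left
      exact not_nonempty_iff.1 he

/-- the involutions fixing `P` and `R` -/
theorem fix_line {P : X} (hP : Fx H P) : ∃ m : ℕ, (∀ R : X, Fx H R → P ≠ R →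
    Nat.card {t : G // Inv G P t ∧ t • R = R} = m) ∧ (m = 0 ∨ m = Nat.card H) := by
  obtain ⟨R₀, hR₀, hPR₀⟩ := hH.exists_ne P
  refine ⟨Nat.card {t : G // Inv G P t ∧ t • R₀ = R₀}, ?_, ?_⟩
  · intro R hR hPR
    obtain ⟨g, hg1, hg2, hg3⟩ := hH.tr2 N hP hR₀ hPR₀ hP hR hPR
    refine (Nat.card_congr ((MulAut.conj g).toEquiv.subtypeEquiv ?_)).symm
    intro t
    show _ ↔ Inv G P (g * t * g⁻¹) ∧ (g * t * g⁻¹) • R = R
    have hg2' : g⁻¹ • R = R₀ := by rw [inv_smul_eq_iff, hg2]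
    constructor
    · rintro ⟨h1, h2⟩
      have := h1.conj g
      rw [hg1] at this
      exact ⟨this, by rw [mul_smul, mul_smul, hg2', h2, hg2]⟩
    · rintro ⟨h1, h2⟩
      refine ⟨?_, ?_⟩
      · have := h1.conj g⁻¹
        have e : g⁻¹ * (g * t * g⁻¹) * g⁻¹⁻¹ = t := by group
        rw [e] at this
        rwa [show g⁻¹ • P = P by rw [inv_smul_eq_iff, hg1]] at this
      · rw [mul_smul, mul_smul, hg2', ← hg2] at h2
        exact MulAction.injective g h2
  · by_cases he : Nonempty {t : G // Inv G P t ∧ t • R₀ = R₀}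
    · right
      obtain ⟨⟨t₁, ht₁, h₁⟩⟩ := he
      refine Nat.card_congr ⟨fun t => ⟨t₁ * t.1, ?_⟩, fun x => ⟨t₁ * x.1, ?_, ?_⟩, ?_, ?_⟩
      · obtain ⟨t, ht, h⟩ := t
        show t₁ * t ∈ H
        exact hH.mem_of_fix N hP hR₀ hPR₀ (mul_mem_K N hf ht₁ ht) (by rw [mul_smul, h, h₁])
      · exact inv_mul N hf ht₁ (hH.le_K N hP x.2)
      · rw [mul_smul, hR₀ x.1 x.2, h₁]
      · intro t
        apply Subtype.ext
        show t₁ * (t₁ * t.1) = t.1
        rw [← mul_assoc, ht₁.2.1, one_mul]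
      · intro x
        apply Subtype.ext
        show t₁ * (t₁ * x.1) = x.1
        rw [← mul_assoc, ht₁.2.1, one_mul]
    · left
      rw [Nat.card_eq_zero]
      left
      exact not_nonempty_iff.1 he

theorem line_count : ∃ c : ℕ, Nat.card {R : X // Fx H R} = c * c ∧ k = (c + 1) * Nat.card H ∧ 2 ≤ c ∧ Even d := by
  obtain ⟨P, hP⟩ : ∃ P : X, Fx H P := by
    obtain ⟨P, Q, -⟩ := hH.ex
    obtain ⟨S, hS, -⟩ := hH.exists_ne P
    exact ⟨S, hS⟩
  obtain ⟨Q, hQ, hPQ⟩ := hH.exists_ne P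
  obtain ⟨c, hc⟩ := exists_c N hf hH
  obtain ⟨m, hm1, hm2⟩ := swap_line N hf hH hP
  obtain ⟨m', hm'1, hm'2⟩ := fix_line N hf hH hP
  obtain ⟨t₀, ht₀⟩ := exists_inv N hf P
  have hk2 := N.k2
  have hj1 : 1 ≤ Nat.card H := Nat.card_pos
  set lam := Nat.card {R : X // Fx H R} with hlam
  have hlam1 : lam = Nat.card {R : X // Fx H R ∧ P ≠ R} + 1 := card_erase (fun R => Fx H R) hP
  have hlam2 : 1 ≤ Nat.card {R : X // Fx H R ∧ P ≠ R} := by
    have : Nonempty {R : X // Fx H R ∧ P ≠ R} := ⟨⟨Q, hQ, hPQ⟩⟩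
    exact Nat.card_pos
  -- count 1
  have c1 : Nat.card {t : G // ∃ S : X, Fx H S ∧ Inv G S t} * c = lam * k := by
    refine dc (α := {t : G // ∃ S : X, Fx H S ∧ Inv G S t}) (β := {R : X // Fx H R}) (fun t R => t.1 • R.1 = R.1) ?_ ?_
    · rintro ⟨t, S, hS, ht⟩
      rw [← hc hS ht]
      exact Nat.card_congr ⟨fun R => ⟨R.1.1, R.1.2, R.2⟩, fun R => ⟨⟨R.1, R.2.1⟩, R.2.2⟩, fun R => rfl, fun R => rfl⟩
    · rintro ⟨R, hR⟩
      rw [← card_inv N hf R]
      refine Nat.card_congr ⟨fun t => ⟨t.1.1, ?_⟩, fun t => ⟨⟨t.1, R, hR, t.2⟩, t.2.2.2⟩, fun t => rfl, fun t => rfl⟩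
      obtain ⟨⟨t, S, hS, ht⟩, h⟩ := t
      exact ⟨ht.1, ht.2.1, h⟩
  -- count 2
  have c2 : Nat.card {t : G // ∃ S : X, Fx H S ∧ Inv G S t} = k + (lam - 1) * m := by
    rw [card_split (fun t : G => ∃ S : X, Fx H S ∧ Inv G S t) (fun t => t • P = P)]
    congr 1
    · rw [← card_inv N hf P]
      refine Nat.card_congr (Equiv.subtypeEquivRight fun t => ?_)
      constructor
      · rintro ⟨⟨S, hS, ht⟩, h⟩
        exact ⟨ht.1, ht.2.1, h⟩
      · intro h
        exact ⟨⟨P, hP, h⟩, h.2.2⟩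
    · have h := dc (α := {t : G // (∃ S : X, Fx H S ∧ Inv G S t) ∧ ¬ t • P = P}) (β := {R : X // Fx H R ∧ P ≠ R})
        (fun t R => t.1 • P = R.1) (x := 1) (y := m) ?_ ?_
      · rw [mul_one] at h
        rw [h, hlam1, Nat.add_sub_cancel]
      · rintro ⟨t, ⟨S, hS, ht⟩, h⟩
        rw [Nat.card_eq_one_iff_unique]
        refine ⟨⟨fun a b => Subtype.ext (Subtype.ext (a.2.symm.trans b.2))⟩,
          ⟨⟨⟨t • P, (inv_nz N hf hH hS ht).fx hP, fun h' => h h'.symm⟩, rfl⟩⟩⟩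
      · rintro ⟨R, hR, hPR⟩
        rw [← hm1 R hR hPR]
        exact Nat.card_congr ⟨fun t => ⟨t.1.1, t.1.2.1, t.2⟩,
          fun t => ⟨⟨t.1, t.2.1, fun h => hPR (h.symm.trans t.2.2)⟩, t.2.2⟩, fun t => rfl, fun t => rfl⟩
  -- count 3
  have c3 : k * (c - 1) = (lam - 1) * m' := by
    have h := dc (α := {t : G // Inv G P t}) (β := {R : X // Fx H R ∧ P ≠ R}) (fun t R => t.1 • R.1 = R.1)
      (x := c - 1) (y := m') ?_ ?_
    · rw [card_inv N hf P] at h
      rw [h, hlam1, Nat.add_sub_cancel]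
    · rintro ⟨t, ht⟩
      have h1 := card_erase (fun S : X => Fx H S ∧ t • S = S) (a := P) ⟨hP, ht.2.2⟩
      rw [hc hP ht] at h1
      rw [h1, Nat.add_sub_cancel]
      exact Nat.card_congr ⟨fun R => ⟨R.1.1, ⟨R.1.2.1, R.2⟩, R.1.2.2⟩, fun R => ⟨⟨R.1, R.2.1.1, R.2.2⟩, R.2.1.2⟩,
        fun R => rfl, fun R => rfl⟩
    · rintro ⟨R, hR, hPR⟩
      rw [← hm'1 R hR hPR]
      exact Nat.card_congr ⟨fun t => ⟨t.1.1, t.1.2, t.2⟩, fun t => ⟨⟨t.1, t.2.1⟩, t.2.2⟩, fun t => rfl, fun t => rfl⟩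
  rw [c2] at c1
  have hc1 : 1 ≤ c := by
    rw [← hc hP ht₀]
    have : Nonempty {S : X // Fx H S ∧ t₀ • S = S} := ⟨⟨P, hP, ht₀.2.2⟩⟩
    exact Nat.card_pos
  obtain ⟨v, hv⟩ : ∃ v, lam = v + 1 := ⟨_, hlam1⟩
  have hv1 : 1 ≤ v := by omega
  -- `H` is a proper subgroup of the kernel
  obtain ⟨x₁, hx₁K, hx₁⟩ := hH.not_le N hP
  have hjk : Nat.card H ≠ k := by
    intro h
    apply hx₁
    have h1 : H = D.K P := by
      apply Subgroup.eq_of_le_of_card_ge (hH.le_K N hP)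
      rw [N.cK, h]
    rw [h1]
    exact hx₁K
  have hv' : lam - 1 = v := by omega
  rw [hv'] at c1 c3
  rcases hm2 with hm2 | hm2
  · -- all involutions act trivially
    exfalso
    rw [hm2, mul_zero, add_zero] at c1
    have h1 : c = lam := by
      have : k * c = k * lam := by rw [c1, mul_comm]
      exact Nat.eq_of_mul_eq_mul_left (by omega) this
    have h2 : ∀ t : G, Inv G P t → ∀ R : X, Fx H R → t • R = R := by
      intro t ht R hR
      have h3 := card_split (fun S : X => Fx H S) (fun S => t • S = S)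
      rw [hc hP ht, ← hlam, h1] at h3
      have h4 : Nat.card {x : X // Fx H x ∧ ¬ t • x = x} = 0 := by omega
      rw [Nat.card_eq_zero] at h4
      by_contra hcon
      rcases h4 with h4 | h4
      · exact h4.elim ⟨R, hR, hcon⟩
      · exact not_finite {x : X // Fx H x ∧ ¬ t • x = x}
    apply hx₁
    refine hH.mem_of_fix N hP hQ hPQ hx₁K ?_
    have h3 := h2 _ (inv_mul N hf ht₀ hx₁K) Q hQ
    have h4 := h2 _ ht₀ Q hQ
    rw [mul_smul, smul_eq_iff_eq_inv_smul, ht₀.inv_eq, h4] at h3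
    exact h3
  · rw [hm2] at c1
    rcases hm'2 with h | h
    · exfalso
      rw [h, mul_zero] at c3
      have h1 : c = 1 := by
        rcases Nat.mul_eq_zero.1 c3 with h1 | h1 <;> omega
      rw [h1, mul_one, hv] at c1
      apply hjk
      have h2 : v * Nat.card H = v * k := by
        have : (v + 1) * k = k + v * k := by ring
        omega
      exact Nat.eq_of_mul_eq_mul_left (by omega) h2
    · rw [h] at c3
      obtain ⟨e, he⟩ : ∃ e, c = e + 1 := ⟨c - 1, by omega⟩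
      have he' : c - 1 = e := by omega
      rw [he'] at c3
      rw [← c3] at c1
      have h1 : k * (c * c) = k * lam := by
        calc k * (c * c) = (k + k * e) * c := by rw [he]; ring
          _ = lam * k := c1
          _ = _ := mul_comm _ _
      have h2 : c * c = lam := Nat.eq_of_mul_eq_mul_left (by omega) h1
      have he1 : 1 ≤ e := by
        by_contra hlt
        have : e = 0 := by omega
        rw [this] at he
        rw [he] at h2
        omega
      have h3 : v = (c + 1) * e := by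
        have : v + 1 = (c + 1) * e + 1 := by rw [← hv, ← h2, he]; ring
        omega
      have h4 : e * k = e * ((c + 1) * Nat.card H) := by
        rw [mul_comm e k, c3, h3]
        ring
      refine ⟨c, h2.symm, Nat.eq_of_mul_eq_mul_left (by omega) h4, by omega, ?_⟩
      -- an involution of the stabilizer of two points
      have h5 : Nonempty {t : G // Inv G P t ∧ t • Q = Q} := by
        have := hm'1 Q hQ hPQ
        rw [h] at this
        exact (Nat.card_pos_iff.1 (by omega)).1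
      obtain ⟨⟨t, ht, htQ⟩⟩ := h5
      have h6 : Nat.card ↥(MulAction.stabilizer G P ⊓ MulAction.stabilizer G Q) = d := by
        rw [← N.sN hPQ (hH.nadj N hP hQ)]
        rfl
      rw [← h6, even_iff_two_dvd]
      have h7 : orderOf t = 2 := orderOf_eq_prime (by rw [pow_two, ht.2.1]) ht.1
      rw [← h7]
      exact Subgroup.orderOf_dvd_natCard _ (Subgroup.mem_inf.2 ⟨ht.2.2, htQ⟩)

end

/-! ### all lines through a point -/

section

variable [Finite G] [Finite X] (N : Num D n k l f d)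
include N

/-- the lines through a point -/
theorem lines_count {P : X} (hex : ∀ Q : X, P ≠ Q → ¬ D.Adj P Q → D.L P Q ≠ ⊥) {lam : ℕ}
    (hlam : ∀ Q : X, P ≠ Q → ¬ D.Adj P Q → Nat.card {R : X // Fx (D.L P Q) R} = lam + 1) :
    ∃ ν : ℕ, l = ν * lam ∧ 2 ≤ ν := by
  refine ⟨Nat.card {H : Subgroup G // ∃ Q : X, P ≠ Q ∧ ¬ D.Adj P Q ∧ D.L P Q = H}, ?_, ?_⟩
  · have h := dc (α := {H : Subgroup G // ∃ Q : X, P ≠ Q ∧ ¬ D.Adj P Q ∧ D.L P Q = H}) (β := {Q // P ≠ Q ∧ ¬ D.Adj P Q})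
      (fun H Q => D.L P Q.1 = H.1) (x := lam) (y := 1) ?_ ?_
    · rw [mul_one, N.cN] at h
      exact h.symm
    · rintro ⟨H, Q, hQ1, hQ2, rfl⟩
      have hH : IsLine D (D.L P Q) := ⟨hex Q hQ1 hQ2, P, Q, hQ1, hQ2, rfl⟩
      have hP : Fx (D.L P Q) P := fun x hx => D.K_le hx.1
      have h1 := hlam Q hQ1 hQ2
      rw [card_erase (fun R => Fx (D.L P Q) R) hP] at h1
      have h2 : Nat.card {R : X // Fx (D.L P Q) R ∧ P ≠ R} = lam := by omega
      rw [← h2]
      refine Nat.card_congr ⟨fun R => ⟨R.1.1, ?_, R.1.2.1⟩,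
        fun R => ⟨⟨R.1, R.2.2, hH.nadj N hP R.2.1⟩, hH.eq_L N hP R.2.1 R.2.2⟩, fun R => rfl, fun R => rfl⟩
      obtain ⟨⟨R, hR1, hR2⟩, hR3⟩ := R
      intro x hx
      have hR3 : D.L P R = D.L P Q := hR3
      rw [← hR3] at hx
      exact D.K_le hx.2
    · rintro ⟨Q, hQ1, hQ2⟩
      rw [Nat.card_eq_one_iff_unique]
      exact ⟨⟨fun a b => Subtype.ext (Subtype.ext (a.2.symm.trans b.2))⟩, ⟨⟨⟨_, Q, hQ1, hQ2, rfl⟩, rfl⟩⟩⟩
  · obtain ⟨Q, R, hQ1, hQ2, hR1, hR2, hQR⟩ := D.blN P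
    have : Nontrivial {H : Subgroup G // ∃ Q : X, P ≠ Q ∧ ¬ D.Adj P Q ∧ D.L P Q = H} := by
      refine ⟨⟨⟨_, Q, hQ1, hQ2, rfl⟩, ⟨_, R, hR1, hR2, rfl⟩, ?_⟩⟩
      intro h
      have h1 : D.L P Q = D.L P R := congrArg Subtype.val h
      have hH : IsLine D (D.L P Q) := ⟨hex Q hQ1 hQ2, P, Q, hQ1, hQ2, rfl⟩
      refine hH.nadj N (R := Q) (R' := R) (fun x hx => D.K_le hx.2) ?_ hQR
      intro x hx
      rw [h1] at hx
      exact D.K_le hx.2
    exact Finite.one_lt_card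

end

section

variable [Finite G] [Finite X] (N : Num D n k l f d) (hf : Even f)
include N hf

/-- two lines through `P` -/
theorem line_inf {P Q R : X} (hQ1 : P ≠ Q) (hQ2 : ¬ D.Adj P Q) (hR1 : P ≠ R) (hR2 : ¬ D.Adj P R)
    (hne : D.L P Q ≠ D.L P R) : D.L P Q ⊓ D.L P R = ⊥ := by
  by_contra hcon
  obtain ⟨⟨x, hxQ, hxR⟩, hx1⟩ := Subgroup.ne_bot_iff_exists_ne_one.1 hcon
  have hx1 : x ≠ 1 := fun h => hx1 (Subtype.ext h)
  have hLQ : IsLine D (D.L P Q) := ⟨fun h => hx1 (by rw [h] at hxQ; exact mem_bot.1 hxQ), P, Q, hQ1, hQ2, rfl⟩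
  have hLR : IsLine D (D.L P R) := ⟨fun h => hx1 (by rw [h] at hxR; exact mem_bot.1 hxR), P, R, hR1, hR2, rfl⟩
  have hQR : ¬ D.Adj Q R := N.clique hxQ.1 hx1 (D.K_le hxQ.2) (D.K_le hxR.2)
  have hneQR : Q ≠ R := by
    rintro rfl
    exact hne rfl
  obtain ⟨j, hj⟩ := N.exists_j
  -- the third line fixes `P`
  have h1 : ∀ y ∈ D.L Q R, y • P = P := by
    intro y hy
    have h2 : Fx (D.L P Q) (y • P) := by
      intro z hz
      rw [← mul_smul, comm_K N hf hz.2 hy.1, mul_smul, D.K_le hz.1]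
    have h3 : Fx (D.L P R) (y • P) := by
      intro z hz
      rw [← mul_smul, comm_K N hf hz.2 hy.2, mul_smul, D.K_le hz.1]
    by_contra hyP
    apply hne
    rw [← hLQ.eq_L N (R := P) (R' := y • P) (fun x hx => D.K_le hx.1) h2 (fun h => hyP h.symm),
      ← hLR.eq_L N (R := P) (R' := y • P) (fun x hx => D.K_le hx.1) h3 (fun h => hyP h.symm)]
  have h2 : D.L Q R ≤ D.L P Q := by
    intro y hy
    exact ⟨N.fix_mem hy.1 (h1 y hy), hy.1⟩
  have h3 : D.L Q R ≤ D.L P R := by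
    intro y hy
    exact ⟨N.fix_mem hy.1 (h1 y hy), hy.2⟩
  have h4 := Subgroup.eq_of_le_of_card_ge h2 (by rw [hj hQ1 hQ2, hj hneQR hQR])
  have h5 := Subgroup.eq_of_le_of_card_ge h3 (by rw [hj hR1 hR2, hj hneQR hQR])
  exact hne (h4.symm.trans h5)

theorem sq_dvd {P Q R : X} (hQ1 : P ≠ Q) (hQ2 : ¬ D.Adj P Q) (hR1 : P ≠ R) (hR2 : ¬ D.Adj P R)
    (hne : D.L P Q ≠ D.L P R) : Nat.card (D.L P Q) * Nat.card (D.L P R) ∣ k := by
  have h := line_inf N hf hQ1 hQ2 hR1 hR2 hne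
  have hcomm : ∀ (a : D.L P Q) (b : D.L P R), Commute ((D.L P Q).subtype a) ((D.L P R).subtype b) :=
    fun a b => comm_K N hf a.2.1 b.2.1
  have h1 : Function.Injective ((D.L P Q).subtype.noncommCoprod (D.L P R).subtype hcomm) := by
    rw [MonoidHom.noncommCoprod_injective]
    refine ⟨subtype_injective _, subtype_injective _, ?_⟩
    rw [disjoint_iff, range_subtype, range_subtype]
    exact h
  have h2 : Nat.card ((D.L P Q).subtype.noncommCoprod (D.L P R).subtype hcomm).range =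
      Nat.card (D.L P Q) * Nat.card (D.L P R) := by
    rw [← Nat.card_prod]
    exact (Nat.card_congr (MonoidHom.ofInjective h1).toEquiv).symm
  rw [← h2, ← N.cK P]
  apply Subgroup.card_dvd_of_le
  rintro x ⟨⟨a, b⟩, rfl⟩
  rw [MonoidHom.noncommCoprod_apply]
  exact mul_mem a.2.1 b.2.1

end

end Cfsg.Agent.H90.R3
end

-- part: H90/R3/EvenFree2
section
/-!
# Rank three groups with a Frobenius suborbit: even complement, kernel semiregular off its fixed point. Conclusion.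
-/

set_option autoImplicit false

namespace Cfsg.Agent.H90.R3

open Subgroup

variable {G X : Type*} [Group G] [MulAction G X] {D : Dat G X} {n k l f d : ℕ}

theorem Num.nonempty [Finite X] (N : Num D n k l f d) : Nonempty X := by
  have h1 := N.cX
  have h2 := N.sum
  exact (Nat.card_pos_iff.1 (by omega)).1

theorem Num.exists_u (N : Num D n k l f d) : ∃ u : ℕ, k = 1 + u * f ∧ 1 ≤ u := by
  obtain ⟨u, hu⟩ := N.dvd
  have hk := N.k2
  refine ⟨u, ?_, ?_⟩
  · rw [mul_comm]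
    omega
  · by_contra hlt
    have : u = 0 := by omega
    rw [this, mul_zero] at hu
    omega

theorem sum_dvd {α : Type*} [Fintype α] (φ : α → ℤ) {S : ℤ} {f : ℕ} (h1 : ∀ x, S ∣ φ x)
    (h2 : ∀ c : ℤ, f ∣ Nat.card {x // φ x = c}) : S * f ∣ ∑ x, φ x := by
  classical
  have h3 := Finset.sum_comp (s := (Finset.univ : Finset α)) (fun c : ℤ => c) φ
  rw [h3]
  apply Finset.dvd_sum
  intro c hc
  obtain ⟨x, -, rfl⟩ := Finset.mem_image.1 hc
  obtain ⟨e, he⟩ := h2 (φ x)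
  rw [Nat.card_eq_fintype_card, Fintype.card_subtype] at he
  rw [he, nsmul_eq_mul]
  obtain ⟨e', he'⟩ := h1 x
  refine ⟨e * e', ?_⟩
  rw [he']
  push_cast
  ring

section

variable [Finite G] [Fintype X] [DecidableEq X] (N : Num D n k l f d) (hf : Even f)
  (hD : ∀ {P Q : X} {x : G}, x ∈ D.K P → x • Q = Q → P ≠ Q → x = 1)
include N hf hD

/-- the case `d` odd -/
theorem free_odd (hd : Odd d) : n = 10 ∧ k = 3 ∧ f = 2 := by
  obtain ⟨g, hg, hfg, hg1⟩ := exists_g N hD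
  have hg2 := g_ge N hf hD hg hfg
  obtain ⟨m, ι, ι', hm, hι, hι', hn, hmo, -⟩ := basic_eq N hf hD hg
  obtain ⟨u, hu, hu1⟩ := N.exists_u
  have hsum := N.sum
  have hf2 := N.f2
  rw [hmo hd] at hn
  have hbound : n ≤ 2 + 4 * f := by
    have : g * ι' ≤ f := by rw [hfg]; exact Nat.mul_le_mul_left _ hι'
    omega
  have hg2' : g = 2 := by
    by_contra hne
    have h3 : 3 ≤ g := by omega
    have h4 : f ≤ k - 1 := by rw [hu]; nlinarith [Nat.sub_add_cancel (by omega : 1 ≤ 1 + u * f)]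
    have h5 : k * 3 ≤ k * g := Nat.mul_le_mul_left _ h3
    omega
  subst hg2'
  have hu' : u = 1 := by
    by_contra hne
    have h3 : 2 ≤ u := by omega
    have h4 : 2 * f ≤ u * f := Nat.mul_le_mul_right _ h3
    omega
  subst hu'
  obtain ⟨lam, mu, s, hsrg, hk, hmu, hs, -⟩ := N.exists_srg
  have hs1 : s = 1 := by
    by_contra hne
    have h3 : 2 ≤ s := by omega
    have h4 : f * 2 ≤ f * s := Nat.mul_le_mul_left _ h3
    omega
  subst hs1
  have hlam : lam = 0 := by omega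
  subst hlam
  rw [mul_one] at hmu
  subst hmu
  have hkd : k = 1 + 2 * mu := by omega
  have hnd : n = 4 + 6 * mu := by omega
  have hmu1 : 1 ≤ mu := by
    obtain ⟨c, hc⟩ := hd
    omega
  have : Nonempty X := N.nonempty
  rcases Graph.square_or hsrg (by rw [hkd]; push_cast; nlinarith) with h | ⟨S, hS, hSS, a, ha⟩
  · exfalso
    rw [hkd, hnd] at h
    push_cast at h
    nlinarith
  · have hS2 : S = mu + 2 := by
      have h3 : (S - (mu + 2)) * (S + (mu + 2)) = 0 := by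
        have : (S - (mu + 2)) * (S + (mu + 2)) = S * S - (mu + 2) * (mu + 2) := by ring
        rw [this, hSS, hkd]
        push_cast
        ring
      rcases mul_eq_zero.1 h3 with h4 | h4 <;> linarith
    have h12 : ((mu : ℤ) + 2) ∣ 12 := by
      rw [hS2, hkd, hnd] at ha
      push_cast at ha
      refine ⟨(a : ℤ) - (6 * mu - 5), ?_⟩
      nlinarith
    have h12' : mu + 2 ∣ 12 := by exact_mod_cast h12
    have h13 := Nat.le_of_dvd (by norm_num) h12'
    obtain ⟨c, hc⟩ := hd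
    have hc4 : c ≤ 4 := by omega
    interval_cases c
    · subst hc
      omega
    all_goals
      subst hc
      norm_num at h12'

/-- the count of fixed-point-free moves -/
theorem exists_a (hlam : ∀ {P Q R : X}, D.Adj P Q → D.Adj Q R → D.Adj R P → False) (P : X) :
    ∃ w : ℕ, Nat.card {p : D.K P × X // D.Adj p.2 (p.1.1 • p.2)} = l * (d * w) := by
  obtain ⟨C, hC1, hC2⟩ := D.exN P
  have hconst : ∀ Q, P ≠ Q → ¬ D.Adj P Q → Nat.card {x : D.K P // D.Adj Q (x.1 • Q)} =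
      Nat.card {x : D.K P // D.Adj C (x.1 • C)} := by
    intro Q hQ1 hQ2
    obtain ⟨g, hg1, hg2⟩ := D.trN hC1 hC2 hQ1 hQ2
    have hg1' : g⁻¹ • P = P := by rw [inv_smul_eq_iff, hg1]
    have hg2' : g⁻¹ • Q = C := by rw [inv_smul_eq_iff, hg2]
    refine Nat.card_congr ⟨fun x => ⟨⟨g⁻¹ * x.1.1 * g, ?_⟩, ?_⟩, fun x => ⟨⟨g * x.1.1 * g⁻¹, ?_⟩, ?_⟩, ?_, ?_⟩
    · have := D.conj_mem' x.1.2 hg1'
      rwa [inv_inv] at this
    · show D.Adj C ((g⁻¹ * x.1.1 * g) • C)
      rw [mul_smul, mul_smul, hg2, ← D.adj_smul_iff g, hg2, smul_inv_smul]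
      exact x.2
    · exact D.conj_mem' x.1.2 hg1
    · show D.Adj Q ((g * x.1.1 * g⁻¹) • Q)
      rw [mul_smul, mul_smul, hg2', ← hg2, D.adj_smul_iff]
      exact x.2
    · intro x; apply Subtype.ext; apply Subtype.ext; simp [mul_assoc]
    · intro x; apply Subtype.ext; apply Subtype.ext; simp [mul_assoc]
  have hdvd : d ∣ Nat.card {x : D.K P // D.Adj C (x.1 • C)} := by
    have h1 : Nat.card {x : D.K P // D.Adj C (x.1 • C)} = Nat.card {R : X // (∃ x ∈ D.K P, x • C = R) ∧ D.Adj C R} := by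
      apply Nat.card_congr
      refine Equiv.ofBijective (fun x => ⟨x.1.1 • C, ⟨x.1.1, x.1.2, rfl⟩, x.2⟩) ⟨?_, ?_⟩
      · intro x y hxy
        have h2 : x.1.1 • C = y.1.1 • C := congrArg Subtype.val hxy
        have h3 : (y.1.1⁻¹ * x.1.1) • C = C := by rw [mul_smul, h2, inv_smul_smul]
        have h4 := hD ((D.K P).mul_mem (inv_mem y.1.2) x.1.2) h3 hC1
        apply Subtype.ext
        apply Subtype.ext
        exact (inv_mul_eq_one.1 h4).symm
      · rintro ⟨R, ⟨x, hx, rfl⟩, hR⟩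
        exact ⟨⟨⟨x, hx⟩, hR⟩, rfl⟩
    have h2 : Nat.card ↥(MulAction.stabilizer G P ⊓ MulAction.stabilizer G C) = d := by rw [← N.sN hC1 hC2]; rfl
    rw [h1, ← h2]
    apply free_dvd
    · rintro e ⟨he1, he2⟩ R ⟨⟨x, hx, rfl⟩, hR⟩
      have he1 : e • P = P := he1
      have he2 : e • C = C := he2
      refine ⟨⟨e * x * e⁻¹, D.conj_mem' hx he1, ?_⟩, ?_⟩
      · have : e⁻¹ • C = C := by rw [inv_smul_eq_iff, he2]
        rw [mul_smul, mul_smul, this]
      · have := D.smul e hR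
        rwa [he2] at this
    · rintro e ⟨he1, he2⟩ R ⟨⟨x, hx, rfl⟩, hR⟩ heR
      have he1 : e • P = P := he1
      have he2 : e • C = C := he2
      have hx1 : x ≠ 1 := by
        rintro rfl
        rw [one_smul] at hR
        exact D.irr _ hR
      have h3 : e * x * e⁻¹ ∈ D.K P := D.conj_mem' hx he1
      have h4 : (x⁻¹ * (e * x * e⁻¹)) • C = C := by
        have : e⁻¹ • C = C := by rw [inv_smul_eq_iff, he2]
        rw [mul_smul, mul_smul, mul_smul, this, heR, inv_smul_smul]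
      have h5 := hD ((D.K P).mul_mem (inv_mem hx) h3) h4 hC1
      have h6 : e * x = x * e := by
        have := inv_mul_eq_one.1 h5
        calc e * x = (e * x * e⁻¹) * e := by group
          _ = x * e := by rw [← this]
      exact hD (D.comm_mem hx hx1 he1 h6) he2 hC1
  obtain ⟨w, hw⟩ := hdvd
  refine ⟨w, ?_⟩
  have h := dc (α := {p : D.K P × X // D.Adj p.2 (p.1.1 • p.2)}) (β := {Q // P ≠ Q ∧ ¬ D.Adj P Q})
    (fun p Q => p.1.2 = Q.1) (x := 1) (y := d * w) ?_ ?_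
  · rw [mul_one] at h
    rw [h, N.cN]
  · rintro ⟨⟨x, Q⟩, hxQ⟩
    have hxQ : D.Adj Q (x.1 • Q) := hxQ
    have h1 : P ≠ Q := by
      rintro rfl
      rw [D.K_le x.2] at hxQ
      exact D.irr _ hxQ
    have h2 : ¬ D.Adj P Q := by
      intro h3
      have h4 := D.smul x.1 h3
      rw [D.K_le x.2] at h4
      exact hlam h3 hxQ (D.symm h4)
    rw [Nat.card_eq_one_iff_unique]
    exact ⟨⟨fun a b => Subtype.ext (Subtype.ext (a.2.symm.trans b.2))⟩, ⟨⟨⟨Q, h1, h2⟩, rfl⟩⟩⟩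
  · rintro ⟨Q, hQ1, hQ2⟩
    rw [← hw, ← hconst Q hQ1 hQ2]
    refine Nat.card_congr ⟨fun p => ⟨p.1.1.1, ?_⟩, fun x => ⟨⟨⟨x.1, Q⟩, x.2⟩, rfl⟩, ?_, ?_⟩
    · obtain ⟨⟨⟨x, Q'⟩, h1⟩, h2⟩ := p
      have h2 : Q' = Q := h2
      subst h2
      exact h1
    · rintro ⟨⟨⟨x, Q'⟩, h1⟩, h2⟩
      have h2 : Q' = Q := h2
      subst h2
      rfl
    · rintro ⟨x, h1⟩
      rfl

omit hf in
/-- divisibility of the number of elements of the kernel with a given value -/
theorem dvd_value (P : X) (φ : G → ℤ) (hφ : ∀ g x : G, g • P = P → φ (g * x * g⁻¹) = φ x) (c : ℤ) :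
    f ∣ Nat.card {x : {x : G // x ∈ D.K P ∧ x ≠ 1} // φ x.1 = c} := by
  obtain ⟨B, hB⟩ := D.exA P
  have h1 : Nat.card {x : {x : G // x ∈ D.K P ∧ x ≠ 1} // φ x.1 = c} =
      Nat.card {R : X // ∃ x ∈ D.K P, x ≠ 1 ∧ φ x = c ∧ x • B = R} := by
    apply Nat.card_congr
    refine Equiv.ofBijective (fun x => ⟨x.1.1 • B, x.1.1, x.1.2.1, x.1.2.2, x.2, rfl⟩) ⟨?_, ?_⟩
    · intro x y hxy
      have h2 : x.1.1 • B = y.1.1 • B := congrArg Subtype.val hxy
      have h3 : (y.1.1⁻¹ * x.1.1) • B = B := by rw [mul_smul, h2, inv_smul_smul]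
      have h4 := D.K_free ((D.K P).mul_mem (inv_mem y.1.2.1) x.1.2.1) hB h3
      apply Subtype.ext
      apply Subtype.ext
      exact (inv_mul_eq_one.1 h4).symm
    · rintro ⟨R, x, hx, hx1, hxc, rfl⟩
      exact ⟨⟨⟨x, hx, hx1⟩, hxc⟩, rfl⟩
  have h2 : Nat.card ↥(MulAction.stabilizer G P ⊓ MulAction.stabilizer G B) = f := by rw [← N.sA hB]; rfl
  rw [h1, ← h2]
  apply free_dvd
  · rintro e ⟨he1, he2⟩ R ⟨x, hx, hx1, hxc, rfl⟩
    have he1 : e • P = P := he1
    have he2 : e • B = B := he2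
    refine ⟨e * x * e⁻¹, D.conj_mem' hx he1, ?_, ?_, ?_⟩
    · intro h
      apply hx1
      have : x = e⁻¹ * (e * x * e⁻¹) * e := by group
      rw [this, h]
      group
    · rw [hφ e x he1, hxc]
    · have : e⁻¹ • B = B := by rw [inv_smul_eq_iff, he2]
      rw [mul_smul, mul_smul, this]
  · rintro e ⟨he1, he2⟩ R ⟨x, hx, hx1, hxc, rfl⟩ heR
    have he1 : e • P = P := he1
    have he2 : e • B = B := he2
    have hne : B ≠ x • B := fun h => hx1 (D.K_free hx hB h.symm)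
    refine D.free he1 hB he2 ?_ heR hne
    have := D.smul x hB
    rwa [D.K_le hx] at this

end

end Cfsg.Agent.H90.R3
end

-- part: H90/R3/EvenFree3
section
/-!
# Rank three groups with a Frobenius suborbit: even complement, kernel semiregular off its fixed point, `d` even.
-/

set_option autoImplicit false

namespace Cfsg.Agent.H90.R3

open Subgroup

variable {G X : Type*} [Group G] [MulAction G X] {D : Dat G X} {n k l f d : ℕ}

theorem no_square {g d' S : ℤ} (hg : 2 ≤ g) (hd : 1 ≤ d') (hS : 0 < S)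
    (h : S * S = d' * d' * ((g - 1) * (g - 1)) + 1 + 2 * d' * (2 * g - 1)) : False := by
  have h1 : S < d' * (g - 1) + 3 := by
    by_contra hlt
    push Not at hlt
    have h0 : 0 ≤ d' * (g - 1) := mul_nonneg (by omega) (by omega)
    have h2 : (d' * (g - 1) + 3) * (d' * (g - 1) + 3) ≤ S * S := mul_le_mul hlt hlt (by omega) (by omega)
    nlinarith [mul_nonneg (by omega : (0 : ℤ) ≤ d') (by omega : (0 : ℤ) ≤ g - 2)]
  rcases eq_or_lt_of_le hd with h2 | h2
  · subst h2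
    have h3 : g < S := by
      by_contra hlt
      push Not at hlt
      nlinarith
    have h4 : S < g + 1 := by
      by_contra hlt
      push Not at hlt
      nlinarith
    omega
  · have h3 : d' * (g - 1) + 2 < S := by
      by_contra hlt
      push Not at hlt
      have h4 : S * S ≤ (d' * (g - 1) + 2) * (d' * (g - 1) + 2) := mul_le_mul hlt hlt (by omega) (by nlinarith)
      nlinarith
    omega

/-- an element of order three has no edges in a triangle free graph -/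
theorem no_edge_three [Finite X] (hlam : ∀ {P Q R : X}, D.Adj P Q → D.Adj Q R → D.Adj R P → False) {x : G}
    (hx : x ^ 3 = 1) : Nat.card {Q : X // D.Adj Q (x • Q)} = 0 := by
  rw [Nat.card_eq_zero]
  left
  refine ⟨?_⟩
  rintro ⟨Q, hQ⟩
  refine hlam hQ (D.smul x hQ) ?_
  have h1 := D.smul (x * x) hQ
  have h2 : (x * x) • x • Q = Q := by
    rw [← mul_smul, ← pow_two, ← pow_succ, hx, one_smul]
  rw [h2, mul_smul] at h1
  exact h1

section

variable [Finite G] [Fintype X] [DecidableEq X] (N : Num D n k l f d) (hf : Even f)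
  (hD : ∀ {P Q : X} {x : G}, x ∈ D.K P → x • Q = Q → P ≠ Q → x = 1)
include N hD

omit [DecidableEq X] in
theorem fix_one {P : X} {x : G} (hx : x ∈ D.K P) (hx1 : x ≠ 1) : Nat.card {Q : X // x • Q = Q} = 1 := by
  rw [Nat.card_eq_one_iff_unique]
  refine ⟨⟨?_⟩, ⟨⟨P, D.K_le hx⟩⟩⟩
  rintro ⟨Q, hQ⟩ ⟨R, hR⟩
  have h1 : ∀ S, x • S = S → S = P := by
    intro S hS
    by_contra hne
    exact hx1 (hD hx hS (Ne.symm hne))
  exact Subtype.ext ((h1 Q hQ).trans (h1 R hR).symm)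

include hf

/-- the case `lam = 0` -/
theorem free_even_core {g u : ℕ} (hd : Even d) (hg : l = k * g) (hfg : f = g * d) (hg2 : 2 ≤ g) (hu : k = 1 + u * f)
    (hu12 : u = 1 ∨ u = 2) (hdvd : ((g : ℤ) + 2) ∣ 2 * ((d * u : ℕ) : ℤ)) {mu : ℕ} (hmu : mu = d * u)
    (hsrg : Graph.Srg G X D.Adj n k 0 mu) : n = 16 ∧ k = 5 ∧ f = 4 := by
  classical
  have hne := N.nonempty
  have hsum := N.sum
  have hf2 := N.f2
  have hk2 := N.k2
  have hd2 : 2 ≤ d := by
    obtain ⟨c, hc⟩ := hd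
    have : d ≠ 0 := by
      rintro rfl
      rw [mul_zero] at hfg
      omega
    omega
  have hmu2 : 2 ≤ mu := by
    rw [hmu]
    rcases hu12 with h | h <;> rw [h] <;> omega
  have hkmu : k = 1 + mu * g := by
    rw [hu, hfg, hmu]
    ring
  have hn : n = 1 + k * (1 + g) := by
    rw [hsum, hg]
    ring
  have hlam : ∀ {P Q R : X}, D.Adj P Q → D.Adj Q R → D.Adj R P → False := by
    intro P Q R h1 h2 h3
    have h4 := hsrg.cL h1
    rw [Nat.card_eq_zero] at h4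
    rcases h4 with h4 | h4
    · exact h4.elim ⟨R, D.symm h3, h2⟩
    · exact not_finite {R // D.Adj P R ∧ D.Adj Q R}
  have hkZ : (k : ℤ) = 1 + mu * g := by exact_mod_cast hkmu
  have hgZ : (2 : ℤ) ≤ g := by exact_mod_cast hg2
  have hmuZ : (2 : ℤ) ≤ mu := by exact_mod_cast hmu2
  obtain ⟨S, hS0, hSS⟩ : ∃ S : ℤ, 0 < S ∧ S * S = (mu : ℤ) * mu + 4 * (k - mu) := by
    rcases Graph.square_or hsrg (by push_cast; nlinarith) with h | ⟨S, hS, hSS, -⟩
    · exfalso
      have hnZ : (n : ℤ) = 1 + k * (1 + g) := by exact_mod_cast hn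
      rw [hnZ] at h
      have h1 : (k : ℤ) * ((1 + g) * mu - 2) = 0 := by push_cast at h; linear_combination -h
      rcases mul_eq_zero.1 h1 with h2 | h2
      · omega
      · nlinarith
    · refine ⟨S, hS, ?_⟩
      rw [hSS]
      push_cast
      ring
  obtain ⟨m1, hm1⟩ : ∃ m1 : ℤ, (mu : ℤ) = 2 * m1 := by
    obtain ⟨c, hc⟩ := hd
    refine ⟨c * u, ?_⟩
    rw [hmu, hc]
    push_cast
    ring
  obtain ⟨S1, hS1⟩ : ∃ S1 : ℤ, S = 2 * S1 := by
    have h1 : Even (S * S) := by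
      rw [hSS, hm1]
      exact ⟨2 * (m1 * m1) + 2 * (k - 2 * m1), by ring⟩
    rcases Int.even_mul.1 h1 with ⟨c, hc⟩ | ⟨c, hc⟩ <;> exact ⟨c, by rw [hc]; ring⟩
  obtain ⟨v, hv⟩ : ∃ v : ℤ, S = mu + 2 * v := ⟨S1 - m1, by rw [hS1, hm1]; ring⟩
  have hv1 : 1 ≤ v := by
    by_contra hlt
    push Not at hlt
    nlinarith
  have hvv : v * v - 1 = (mu : ℤ) * (g - 1 - v) := by
    rw [hv, hkZ] at hSS
    nlinarith
  have hSne : S ≠ 0 := hS0.ne'
  -- the values on elements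
  have helem : ∀ x : G, S ∣ (Nat.card {P : X // D.Adj P (x • P)} : ℤ) + (mu + v) * (Nat.card {P : X // x • P = P}) -
      (k + (mu + v)) := by
    intro x
    have h1 := Graph.elem hsrg (s := S) (τ := -(mu + v)) hSne (by rw [hSS]; push_cast; ring)
      (by rw [hv]; push_cast; ring) x
    have e : (Nat.card {P : X // D.Adj P (x • P)} : ℤ) + (mu + v) * (Nat.card {P : X // x • P = P}) -
      (k + (mu + v)) = (Nat.card {P : X // D.Adj P (x • P)} : ℤ) - (-(mu + v)) * (Nat.card {P : X // x • P = P}) -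
      (k - (-(mu + v))) := by ring
    rw [e]
    exact h1
  obtain ⟨P⟩ := N.nonempty
  have hK : ∀ {x : G}, x ∈ D.K P → x ≠ 1 → S ∣ (Nat.card {P : X // D.Adj P (x • P)} : ℤ) - k := by
    intro x hx hx1
    have h1 := helem x
    rw [fix_one N hD hx hx1] at h1
    have e : (Nat.card {P : X // D.Adj P (x • P)} : ℤ) + (mu + v) * ((1 : ℕ) : ℤ) - (k + (mu + v)) =
      (Nat.card {P : X // D.Adj P (x • P)} : ℤ) - k := by push_cast; ring
    rwa [e] at h1
  -- the sum over the kernel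
  have iK : Fintype (D.K P) := Fintype.ofFinite _
  have iK' : Fintype {x : G // x ∈ D.K P ∧ x ≠ 1} := Fintype.ofFinite _
  have hcK : Fintype.card (D.K P) = k := by rw [← Nat.card_eq_fintype_card, N.cK]
  obtain ⟨w, hw⟩ := exists_a N hf hD hlam P
  have hsumγ : ∑ x : D.K P, (Nat.card {Q : X // D.Adj Q (x.1 • Q)} : ℤ) = l * (d * w) := by
    have e : Nat.card {p : D.K P × X // D.Adj p.2 (p.1.1 • p.2)} = ∑ x : D.K P, Nat.card {Q : X // D.Adj Q (x.1 • Q)} := by
      rw [← Nat.card_sigma]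
      exact Nat.card_congr ⟨fun p => ⟨p.1.1, p.1.2, p.2⟩, fun p => ⟨⟨p.1, p.2.1⟩, p.2.2⟩, fun _ => rfl, fun _ => rfl⟩
    rw [e] at hw
    exact_mod_cast hw
  have hγ1 : (Nat.card {Q : X // D.Adj Q ((1 : G) • Q)} : ℤ) = 0 := by
    have : IsEmpty {Q : X // D.Adj Q ((1 : G) • Q)} := ⟨fun Q => D.irr Q.1 (by have := Q.2; rwa [one_smul] at this)⟩
    rw [Nat.card_of_isEmpty]
    rfl
  have hπ1 : (Nat.card {Q : X // (1 : G) • Q = Q} : ℤ) = n := by
    rw [← N.cX]
    norm_cast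
    exact Nat.card_congr ⟨fun Q => Q.1, fun Q => ⟨Q, one_smul _ _⟩, fun _ => rfl, fun _ => rfl⟩
  -- split off the identity
  have hsplit : ∀ φ : G → ℤ, ∑ x : D.K P, φ x.1 = φ 1 + ∑ x : {x : G // x ∈ D.K P ∧ x ≠ 1}, φ x.1 := by
    intro φ
    rw [← Finset.add_sum_erase Finset.univ (fun x : D.K P => φ x.1) (Finset.mem_univ 1)]
    congr 1
    refine Finset.sum_bij' (fun x hx => ⟨x.1, x.2, fun h => (Finset.mem_erase.1 hx).1 (Subtype.ext h)⟩)
      (fun x _ => ⟨x.1, x.2.1⟩) ?_ ?_ ?_ ?_ ?_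
    · intro x _; exact Finset.mem_univ _
    · intro x _
      exact Finset.mem_erase.2 ⟨fun h => x.2.2 (congrArg Subtype.val h), Finset.mem_univ _⟩
    · intro x _; rfl
    · intro x _; rfl
    · intro x _; rfl
  have hcK' : (Fintype.card {x : G // x ∈ D.K P ∧ x ≠ 1} : ℤ) = k - 1 := by
    have h1 := hsplit (fun _ => 1)
    simp only [Finset.sum_const, Finset.card_univ, nsmul_eq_mul, mul_one] at h1
    rw [hcK] at h1
    linarith
  have hd1 : S * f ∣ ∑ x : {x : G // x ∈ D.K P ∧ x ≠ 1}, ((Nat.card {Q : X // D.Adj Q (x.1 • Q)} : ℤ) - k) := by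
    apply sum_dvd
    · rintro ⟨x, hx, hx1⟩
      exact hK hx hx1
    · intro c
      refine dvd_value N hD P (fun x => (Nat.card {Q : X // D.Adj Q (x • Q)} : ℤ) - k) ?_ c
      intro g x _
      show (Nat.card {Q : X // D.Adj Q ((g * x * g⁻¹) • Q)} : ℤ) - k = (Nat.card {Q : X // D.Adj Q (x • Q)} : ℤ) - k
      congr 2
      refine (Nat.card_congr ((MulAction.toPerm g).subtypeEquiv ?_)).symm
      intro Q
      rw [MulAction.toPerm_apply, mul_smul, mul_smul, inv_smul_smul, D.adj_smul_iff]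
  have hsum2 : ∑ x : {x : G // x ∈ D.K P ∧ x ≠ 1}, ((Nat.card {Q : X // D.Adj Q (x.1 • Q)} : ℤ) - k) =
      f * (k * (w - u)) := by
    rw [Finset.sum_sub_distrib, Finset.sum_const, Finset.card_univ, nsmul_eq_mul, hcK']
    have h1 := hsplit (fun x => (Nat.card {Q : X // D.Adj Q (x • Q)} : ℤ))
    rw [hsumγ, hγ1] at h1
    have h2 : (l : ℤ) * (d * w) = f * k * w := by rw [hg, hfg]; push_cast; ring
    have h3 : (k : ℤ) - 1 = u * f := by rw [hu]; push_cast; ring
    rw [h3]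
    linear_combination -h1 + h2
  have hC1 : S ∣ (k : ℤ) * (w - u) := by
    rw [hsum2] at hd1
    obtain ⟨c, hc⟩ := hd1
    refine ⟨c, ?_⟩
    have hf0 : (f : ℤ) ≠ 0 := by omega
    apply mul_left_cancel₀ hf0
    rw [hc]
    ring
  obtain ⟨b, hb⟩ := Graph.group hsrg (s := -S) (τ := v) (by omega) (by rw [neg_mul_neg, hSS]; push_cast; ring)
    (by rw [hv]; push_cast; ring) (D.K P)
  have hC2 : S * b = v * (1 + g) + 1 - f * (w - u) := by
    have e1 : ∑ x : D.K P, ((Nat.card {Q : X // D.Adj Q (x • Q)} : ℤ) - v * (Nat.card {Q : X // x • Q = Q}) - (k - v)) =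
        l * (d * w) - v * (n + (k - 1)) - k * (k - v) := by
      rw [Finset.sum_sub_distrib, Finset.sum_sub_distrib, ← Finset.mul_sum, Finset.sum_const, Finset.card_univ, hcK,
        nsmul_eq_mul]
      have h1 : ∑ x : D.K P, (Nat.card {Q : X // x • Q = Q} : ℤ) = n + (k - 1) := by
        have h2 := hsplit (fun x => (Nat.card {Q : X // x • Q = Q} : ℤ))
        have h3 : ∑ x : {x : G // x ∈ D.K P ∧ x ≠ 1}, (Nat.card {Q : X // x.1 • Q = Q} : ℤ) = k - 1 := by
          rw [← hcK', Finset.sum_congr rfl (fun x _ => by rw [fix_one N hD x.2.1 x.2.2]), Finset.sum_const,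
            Finset.card_univ]
          simp
        rw [h3, hπ1] at h2
        exact h2
      rw [h1]
      have h4 : ∑ x : D.K P, (Nat.card {Q : X // D.Adj Q (x • Q)} : ℤ) = l * (d * w) := hsumγ
      rw [h4]
    rw [e1, hcK] at hb
    have hk0 : (k : ℤ) ≠ 0 := by omega
    apply mul_left_cancel₀ hk0
    have h2 : (l : ℤ) * (d * w) = f * k * w := by rw [hg, hfg]; push_cast; ring
    have h3 : (k : ℤ) = 1 + u * f := by rw [hu]; push_cast; ring
    have h4 : (n : ℤ) = 1 + k * (1 + g) := by rw [hn]; push_cast; ring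
    rw [h2, h4] at hb
    linear_combination (1 : ℤ) * hb + ((k : ℤ)) * h3
  -- the arithmetic
  obtain ⟨z, hz1, hz2, hz3⟩ : ∃ z : ℤ, -2 ≤ z ∧ S ∣ (1 + mu * g) * z ∧ (mu : ℤ) * g * z = 2 * (f * (w - u)) := by
    rcases hu12 with h | h
    · subst h
      refine ⟨2 * (w - 1), by omega, ?_, ?_⟩
      · rw [← hkZ]
        obtain ⟨c, hc⟩ := hC1
        exact ⟨2 * c, by push_cast at hc; linear_combination 2 * hc⟩
      · rw [hmu, hfg]
        push_cast
        ring
    · subst h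
      refine ⟨w - 2, by omega, ?_, ?_⟩
      · rw [← hkZ]
        obtain ⟨c, hc⟩ := hC1
        exact ⟨c, by push_cast at hc; linear_combination hc⟩
      · rw [hmu, hfg]
        push_cast
        ring
  rw [hv] at hz2
  rcases NT.core hmuZ ⟨m1, by rw [hm1]; ring⟩ hgZ hv1 (by rw [hmu]; exact hdvd) hvv (Int.natCast_nonneg b) hz1 hz2
    (by rw [hz3, ← hv]; linear_combination 2 * hC2) with h | h | h
  · obtain ⟨h1, h2, -⟩ := h
    have h1 : g = 2 := by exact_mod_cast h1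
    have h2 : mu = 2 := by exact_mod_cast h2
    have hk5 : k = 5 := by rw [hkmu, h1, h2]
    have hn16 : n = 16 := by rw [hn, hk5, h1]
    refine ⟨hn16, hk5, ?_⟩
    have hd2' : d = 2 := by
      have : d * u = 2 := by rw [← hmu, h2]
      rcases hu12 with h | h
      · rw [h] at this; omega
      · rw [h] at this; omega
    rw [hfg, h1, hd2']
  · -- `k = 9`
    exfalso
    obtain ⟨h1, h2, h3⟩ := h
    have hk9 : k = 9 := by
      have : (k : ℤ) = 9 := by rw [hkZ, h1, h2]; norm_num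
      exact_mod_cast this
    obtain ⟨⟨x, hx⟩, ho⟩ := exists_prime_orderOf_dvd_card' (G := D.K P) 3 (by rw [N.cK, hk9]; norm_num)
    have hx3 : x ^ 3 = 1 := by
      have : (⟨x, hx⟩ : D.K P) ^ 3 = 1 := by rw [← ho, pow_orderOf_eq_one]
      exact congrArg Subtype.val this
    have hx1 : x ≠ 1 := by
      rintro rfl
      have : (⟨1, hx⟩ : D.K P) = 1 := rfl
      rw [this, orderOf_one] at ho
      omega
    have h4 := hK hx hx1
    rw [no_edge_three hlam hx3, hk9, hv, h2, h3] at h4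
    norm_num at h4
  · -- `k = 361`
    exfalso
    obtain ⟨h1, h2, h3⟩ := h
    have hg18 : g = 18 := by exact_mod_cast h1
    have hmu20 : mu = 20 := by exact_mod_cast h2
    have hk361 : k = 361 := by
      have : (k : ℤ) = 361 := by rw [hkZ, h1, h2]; norm_num
      exact_mod_cast this
    obtain ⟨B, hB⟩ := D.exA P
    have hcF : Nat.card ↥(MulAction.stabilizer G P ⊓ MulAction.stabilizer G B) = f := by rw [← N.sA hB]; rfl
    obtain ⟨⟨x, hxP, hxB⟩, ho⟩ := exists_prime_orderOf_dvd_card'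
      (G := ↥(MulAction.stabilizer G P ⊓ MulAction.stabilizer G B)) 3 (by rw [hcF, hfg, hg18]; exact ⟨6 * d, by ring⟩)
    have hxP : x • P = P := hxP
    have hxB : x • B = B := hxB
    have hx3 : x ^ 3 = 1 := by
      have : (⟨x, hxP, hxB⟩ : ↥(MulAction.stabilizer G P ⊓ MulAction.stabilizer G B)) ^ 3 = 1 := by
        rw [← ho, pow_orderOf_eq_one]
      exact congrArg Subtype.val this
    have hx1 : x ≠ 1 := by
      rintro rfl
      have : (⟨1, hxP, hxB⟩ : ↥(MulAction.stabilizer G P ⊓ MulAction.stabilizer G B)) = 1 := rfl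
      rw [this, orderOf_one] at ho
      omega
    have hd3 : ¬ 3 ∣ d := by
      have h4 : d * u = 20 := by rw [← hmu, hmu20]
      rcases hu12 with h | h
      · rw [h] at h4; omega
      · rw [h] at h4; omega
    have hfix : Nat.card {Q : X // x • Q = Q} = 2 := by
      rw [card_erase (fun Q => x • Q = Q) (a := P) hxP, card_erase (fun Q => x • Q = Q ∧ P ≠ Q) (a := B)
        ⟨hxB, Dat.ne_of_adj hB⟩]
      have : IsEmpty {Q : X // (x • Q = Q ∧ P ≠ Q) ∧ B ≠ Q} := by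
        refine ⟨?_⟩
        rintro ⟨Q, ⟨hQ1, hQ2⟩, hQ3⟩
        by_cases hPQ : D.Adj P Q
        · exact hx1 (D.free hxP hB hxB hPQ hQ1 hQ3)
        · apply hd3
          have hcE : Nat.card ↥(MulAction.stabilizer G P ⊓ MulAction.stabilizer G Q) = d := by
            rw [← N.sN hQ2 hPQ]; rfl
          have : Fact (Nat.Prime 3) := ⟨Nat.prime_three⟩
          have h4 : orderOf x ∣ d := by
            rw [← hcE]
            exact Subgroup.orderOf_dvd_natCard _ (Subgroup.mem_inf.2 ⟨hxP, hQ1⟩)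
          have h5 : orderOf x = 3 := orderOf_eq_prime hx3 hx1
          rwa [h5] at h4
      rw [Nat.card_of_isEmpty]
    have h4 := helem x
    rw [no_edge_three hlam hx3, hk361, hfix, hv, h2, h3] at h4
    norm_num at h4

/-- **the case `d` even** -/
theorem free_even (hd : Even d) : n = 16 ∧ k = 5 ∧ f = 4 := by
  obtain ⟨g, hg, hfg, hg1⟩ := exists_g N hD
  have hg2 := g_ge N hf hD hg hfg
  obtain ⟨m, ι, ι', hm, hι, hι', hn, -, hme⟩ := basic_eq N hf hD hg
  obtain ⟨u, hu, hu1⟩ := N.exists_u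
  have hsum := N.sum
  have hf2 := N.f2
  rw [hme hd] at hn
  have hE : (g + 2) * (ι + g * ι') = u * f * (1 + g) := by
    have h1 : (g + 2) * (1 + ι + g * ι') = (g + 2) + u * f * (1 + g) := by
      rw [← hn, hsum, hg, hu]
      ring
    have h2 : (g + 2) * (1 + ι + g * ι') = (g + 2) + (g + 2) * (ι + g * ι') := by ring
    omega
  have hu2 : u ≤ 2 := by
    by_contra hlt
    have h3 : 3 ≤ u := by omega
    have h4 : ι + g * ι' ≤ 2 * f := by
      have : g * ι' ≤ f := by rw [hfg]; exact Nat.mul_le_mul_left _ hι'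
      omega
    have h5 : (g + 2) * (ι + g * ι') ≤ (g + 2) * (2 * f) := Nat.mul_le_mul_left _ h4
    have h6 : 3 * f * (1 + g) ≤ u * f * (1 + g) := by
      apply Nat.mul_le_mul_right
      exact Nat.mul_le_mul_right _ h3
    nlinarith
  obtain ⟨lam, mu, s, hsrg, hk, hmu, hs, -⟩ := N.exists_srg
  have hsu : s ≤ u := by
    by_contra hlt
    have h3 : f * (u + 1) ≤ f * s := Nat.mul_le_mul_left _ (by omega)
    nlinarith
  have hd2 : 2 ≤ d := by
    obtain ⟨c, hc⟩ := hd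
    have : d ≠ 0 := by
      rintro rfl
      rw [mul_zero] at hfg
      omega
    omega
  by_cases hcase : u = 2 ∧ s = 1
  · exfalso
    obtain ⟨rfl, rfl⟩ := hcase
    rw [mul_one] at hmu hk
    subst hmu
    have hlam : lam = f := by omega
    subst hlam
    have := N.nonempty
    have hfZ : (lam : ℤ) = g * mu := by exact_mod_cast hfg
    have hkZ : (k : ℤ) = 1 + 2 * lam := by rw [hu]; push_cast; ring
    have hgZ : (2 : ℤ) ≤ g := by exact_mod_cast hg2
    have hdZ : (2 : ℤ) ≤ mu := by exact_mod_cast hd2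
    rcases Graph.square_or hsrg (by rw [hkZ, hfZ]; nlinarith) with h | ⟨S, hS, hSS, -⟩
    · rw [hkZ, hfZ] at h
      have hn1 : (1 : ℤ) ≤ n := by
        have : 1 ≤ n := by omega
        exact_mod_cast this
      have h1 : 0 ≤ ((n : ℤ) - 1) * (g * mu - mu) := mul_nonneg (by omega) (by nlinarith)
      nlinarith
    · obtain ⟨c, hc⟩ := hd
      have hcZ : (mu : ℤ) = 2 * c := by rw [hc]; push_cast; ring
      obtain ⟨S1, hS1⟩ : ∃ S1 : ℤ, S = 2 * S1 := by
        have h1 : Even (S * S) := by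
          rw [hSS, hkZ, hfZ, hcZ]
          exact ⟨2 * (g * c - c) * (g * c - c) + 2 * (1 + 2 * (g * (2 * c)) - 2 * c), by ring⟩
        rcases Int.even_mul.1 h1 with ⟨c', hc'⟩ | ⟨c', hc'⟩ <;> exact ⟨c', by rw [hc']; ring⟩
      refine no_square (g := g) (d' := c) (S := S1) hgZ (by omega) (by omega) ?_
      rw [hkZ, hfZ, hcZ, hS1] at hSS
      linarith
  · have hsu' : s = u := by omega
    subst hsu'
    have hlam : lam = 0 := by
      have : s * f = f * s := mul_comm _ _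
      omega
    subst hlam
    refine free_even_core N hf hD hd hg hfg hg2 hu (by omega) ?_ hmu hsrg
    have hEZ : ((g : ℤ) + 2) * (ι + g * ι') = s * f * (1 + g) := by exact_mod_cast hE
    have hfZ : (f : ℤ) = g * d := by exact_mod_cast hfg
    refine ⟨(ι + g * ι') - s * d * (g - 1), ?_⟩
    push_cast
    rw [hfZ] at hEZ
    linear_combination (-1 : ℤ) * hEZ

end

end Cfsg.Agent.H90.R3
end

-- part: H90/R3/EvenLine2
section
/-!
# Rank three groups with a Frobenius suborbit: lines when the complement has even order, conclusion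
-/

set_option autoImplicit false

namespace Cfsg.Agent.H90.R3

open Subgroup

variable {G X : Type*} [Group G] [MulAction G X] {D : Dat G X} {n k l f d : ℕ}

theorem nsq {S : ℤ} {a b : ℤ} (hS : 0 < S) (hb : 0 ≤ b) (h1 : b * b < a) (h2 : a < (b + 1) * (b + 1)) : S * S ≠ a := by
  rintro rfl
  have h3 : b < S := by nlinarith
  have h4 : S < b + 1 := by nlinarith
  omega

section

variable [Finite G] [Fintype X] [DecidableEq X] (N : Num D n k l f d) (hf : Even f)
include N hf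

theorem line_even {P Q : X} {x : G} (hx : x ∈ D.K P) (hxQ : x • Q = Q) (hPQ : P ≠ Q) (hx1 : x ≠ 1) :
    n = 16 ∧ k = 9 ∧ f = 4 := by
  have hadj := N.clique hx hx1 (D.K_le hx) hxQ
  obtain ⟨j, hj⟩ := N.exists_j
  have hj2 : 2 ≤ j := by
    rw [← hj hPQ hadj]
    have : Nontrivial (D.L P Q) := ⟨⟨⟨x, hx, N.fix_mem hx hxQ⟩, 1, fun h => hx1 (congrArg Subtype.val h)⟩⟩
    exact Finite.one_lt_card
  have hne : ∀ {P Q : X}, P ≠ Q → ¬ D.Adj P Q → D.L P Q ≠ ⊥ := by
    intro P Q h1 h2 h3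
    have h4 := hj h1 h2
    rw [h3, Subgroup.card_bot] at h4
    omega
  have hL : ∀ {P Q : X}, P ≠ Q → ¬ D.Adj P Q → IsLine D (D.L P Q) := fun h1 h2 => ⟨hne h1 h2, _, _, h1, h2, rfl⟩
  obtain ⟨c, hc1, hc2, hc3, hd⟩ := line_count N hf (hL hPQ hadj)
  rw [hj hPQ hadj] at hc2
  have hcc : ∀ Q : X, P ≠ Q → ¬ D.Adj P Q → Nat.card {R : X // Fx (D.L P Q) R} = (c * c - 1) + 1 := by
    intro Q h1 h2
    obtain ⟨c', h3, h4, h5, -⟩ := line_count N hf (hL h1 h2)
    rw [hj h1 h2] at h4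
    have h6 : c' + 1 = c + 1 := by
      apply Nat.eq_of_mul_eq_mul_right (m := j) (by omega)
      rw [← h4, ← hc2]
    have h7 : c' = c := by omega
    rw [h3, h7]
    have : 1 ≤ c * c := Nat.mul_pos (by omega) (by omega)
    omega
  obtain ⟨ν, hν, hν2⟩ := lines_count N (P := P) (fun Q h1 h2 => hne h1 h2) hcc
  -- `j` divides `c + 1`
  have hjc : j ∣ c + 1 := by
    obtain ⟨Q, R, hQ1, hQ2, hR1, hR2, hQR⟩ := D.blN P
    have h1 : D.L P Q ≠ D.L P R := by
      intro h1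
      refine (hL hQ1 hQ2).nadj N (R := Q) (R' := R) (fun x hx => D.K_le hx.2) ?_ hQR
      intro x hx
      rw [h1] at hx
      exact D.K_le hx.2
    have h2 := sq_dvd N hf hQ1 hQ2 hR1 hR2 h1
    rw [hj hQ1 hQ2, hj hR1 hR2, hc2] at h2
    exact Nat.dvd_of_mul_dvd_mul_right (by omega) h2
  have hk := odd_k N hf
  have hjo : Odd j := by
    rw [hc2] at hk
    exact (Nat.odd_mul.1 hk).2
  have hce : Even c := by
    rw [hc2] at hk
    have := (Nat.odd_mul.1 hk).1
    rw [Nat.odd_add_one, Nat.not_odd_iff_even] at this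
    exact this
  -- `j` divides `d`
  have hjd : j ∣ d := by
    have h1 : Nat.card ↥(MulAction.stabilizer G P ⊓ MulAction.stabilizer G Q) = d := by
      rw [← N.sN hPQ hadj]
      rfl
    rw [← h1, ← hj hPQ hadj]
    apply Subgroup.card_dvd_of_le
    exact fun x hx => ⟨D.K_le hx.1, D.K_le hx.2⟩
  obtain ⟨e, he⟩ := hjd
  have hee : Even e := by
    rw [he, Nat.even_mul] at hd
    rcases hd with h | h
    · exact absurd hjo (Nat.not_odd_iff_even.2 h)
    · exact h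
  have hf2 := N.f2
  have hsum := N.sum
  -- `f = ν (c - 1) e`
  obtain ⟨b, hb⟩ : ∃ b, c = b + 1 := ⟨c - 1, by omega⟩
  have hb1 : 1 ≤ b := by omega
  have hl : l = ν * ((c + 1) * b) := by
    rw [hν]
    congr 1
    have : c * c = (c + 1) * b + 1 := by rw [hb]; ring
    omega
  have hfe : f = ν * b * e := by
    have h1 := N.cS'
    rw [hc2, hl, he] at h1
    have h2 : (c + 1) * j * f = (c + 1) * j * (ν * b * e) := by
      rw [h1]
      ring
    exact Nat.eq_of_mul_eq_mul_left (Nat.mul_pos (by omega) (by omega)) h2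
  -- arithmetic
  have hdvd : f ∣ k - 1 := N.dvd
  have hcj : (c = 2 ∧ j = 3) ∨ (c = 4 ∧ j = 5) := by
    obtain ⟨a, ha⟩ := hjc
    have hao : Odd a := by
      have : Odd (c + 1) := hce.add_one
      rw [ha] at this
      exact (Nat.odd_mul.1 this).2
    have h1 : b ∣ k - 1 := (Dvd.intro_left ν rfl |>.trans (by rw [hfe]; exact dvd_mul_right _ _)).trans hdvd
    have h2 : k - 1 = b * j + (2 * j - 1) := by
      rw [hc2, hb]
      have : (b + 1 + 1) * j = b * j + 2 * j := by ring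
      omega
    have h3 : b ∣ 2 * j - 1 := by
      rw [h2] at h1
      exact (Nat.dvd_add_right (Dvd.intro _ rfl)).1 h1
    have h4 : b + 2 = j * a := by omega
    have ha1 : a = 1 := by
      obtain ⟨r, hr⟩ := hao
      by_contra hne
      have h5 : 3 ≤ a := by omega
      have h6 : j * 3 ≤ j * a := Nat.mul_le_mul_left _ h5
      have h7 := Nat.le_of_dvd (by omega) h3
      omega
    rw [ha1, mul_one] at h4
    have h5 : b ∣ 3 := by
      have : 2 * j - 1 = b * 2 + 3 := by omega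
      rw [this] at h3
      exact (Nat.dvd_add_right (Dvd.intro _ rfl)).1 h3
    have h6 := (Nat.dvd_prime Nat.prime_three).1 h5
    omega
  have hνe : ν * e ∣ 8 := by
    rcases hcj with ⟨rfl, rfl⟩ | ⟨rfl, rfl⟩
    · have hb' : b = 1 := by omega
      rw [hb', mul_one] at hfe
      rw [← hfe]
      have : k - 1 = 8 := by omega
      rwa [this] at hdvd
    · have hb' : b = 3 := by omega
      rw [hb'] at hfe
      have : k - 1 = 3 * 8 := by omega
      rw [this, hfe, mul_right_comm, mul_comm _ 3] at hdvd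
      exact Nat.dvd_of_mul_dvd_mul_left (by norm_num) hdvd
  obtain ⟨e', he'⟩ := hee
  obtain ⟨lam, mu, s, hsrg, hklam, hmu, hs, -⟩ := N.exists_srg
  have : Nonempty X := ⟨P⟩
  have hmuk : mu ≤ k := by
    have h1 := hsrg.cM hPQ hadj
    have h2 := hsrg.cA P
    rw [← h1, ← h2]
    exact Nat.card_le_card_of_injective (fun R : {R // D.Adj P R ∧ D.Adj Q R} => (⟨R.1, R.2.1⟩ : {R // D.Adj P R}))
      (fun a b hab => Subtype.ext (by have h := congrArg Subtype.val hab; exact h))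
  have he2 : 1 ≤ e' := by
    by_contra hlt
    have : e' = 0 := by omega
    rw [this] at he'
    rw [he'] at hfe
    omega
  have hcases : (ν = 2 ∧ e = 2) ∨ (ν = 2 ∧ e = 4) ∨ (ν = 4 ∧ e = 2) := by
    have h1 := Nat.le_of_dvd (by norm_num) hνe
    have h2 : ν ≤ 4 := by nlinarith
    have h3 : e ≤ 4 := by nlinarith
    have h4 : e' ≤ 2 := by omega
    interval_cases ν <;> interval_cases e' <;> simp_all
  have hsq := Graph.square_or hsrg
  have kill : ∀ {n' k' lam' mu' : ℕ} (r : ℤ), n = n' → k = k' → lam = lam' → mu = mu' → 0 ≤ r → 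
      ((n' : ℤ) - 1) * (lam' - mu') + 2 * k' ≠ 0 → r * r < ((lam' : ℤ) - mu') * (lam' - mu') + 4 * (k' - mu') →
      ((lam' : ℤ) - mu') * (lam' - mu') + 4 * (k' - mu') < (r + 1) * (r + 1) → False := by
    rintro n' k' lam' mu' r rfl rfl rfl rfl hr h1 h2 h3
    rcases hsq (lt_of_le_of_lt (mul_nonneg hr hr) h2) with h | ⟨S, hS, hSS, -⟩
    · exact h1 h
    · exact nsq hS hr h2 h3 hSS
  rcases hcj with ⟨rfl, rfl⟩ | ⟨rfl, rfl⟩
  · have hb' : b = 1 := by omega
    subst hb'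
    rcases hcases with ⟨rfl, rfl⟩ | ⟨rfl, rfl⟩ | ⟨rfl, rfl⟩
    · refine ⟨by omega, by omega, by omega⟩
    · exfalso
      have : d * 1 ≤ d * s := Nat.mul_le_mul_left _ hs
      omega
    · exfalso
      have hs1 : s = 1 := by
        have : f * s ≤ 8 := by omega
        rw [hfe] at this
        omega
      subst hs1
      exact kill (n' := 22) (k' := 9) (lam' := 0) (mu' := 6) 6 (by omega) (by omega) (by omega) (by omega) (by norm_num)
        (by norm_num) (by norm_num) (by norm_num)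
  · have hb' : b = 3 := by omega
    subst hb'
    rcases hcases with ⟨rfl, rfl⟩ | ⟨rfl, rfl⟩ | ⟨rfl, rfl⟩
    · exfalso
      have hs1 : s = 1 ∨ s = 2 := by
        have : f * s ≤ 24 := by omega
        rw [hfe] at this
        omega
      rcases hs1 with rfl | rfl
      · have hn : n = 56 := by omega
        have hk' : k = 25 := by omega
        have hl' : lam = 12 := by omega
        have hm' : mu = 10 := by omega
        rw [hn, hk', hl', hm'] at hsq
        rcases hsq (by norm_num) with h | ⟨S, hS, hSS, a, ha⟩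
        · norm_num at h
        · norm_num at hSS ha
          have hS8 : S = 8 := by
            have : (S - 8) * (S + 8) = 0 := by linear_combination hSS
            rcases mul_eq_zero.1 this with h | h <;> omega
          rw [hS8] at ha
          omega
      · exact kill (n' := 56) (k' := 25) (lam' := 0) (mu' := 20) 20 (by omega) (by omega) (by omega) (by omega)
          (by norm_num) (by norm_num) (by norm_num) (by norm_num)
    · exfalso
      have hs1 : s = 1 := by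
        have : f * s ≤ 24 := by omega
        rw [hfe] at this
        omega
      subst hs1
      exact kill (n' := 56) (k' := 25) (lam' := 0) (mu' := 20) 20 (by omega) (by omega) (by omega) (by omega)
          (by norm_num) (by norm_num) (by norm_num) (by norm_num)
    · exfalso
      have hs1 : s = 1 := by
        have : f * s ≤ 24 := by omega
        rw [hfe] at this
        omega
      subst hs1
      exact kill (n' := 86) (k' := 25) (lam' := 0) (mu' := 10) 12 (by omega) (by omega) (by omega) (by omega)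
          (by norm_num) (by norm_num) (by norm_num) (by norm_num)

end

end Cfsg.Agent.H90.R3
end

-- part: H90/R3/Odd
section
/-!
# Rank three groups with a Frobenius suborbit: odd complement
-/

set_option autoImplicit false

namespace Cfsg.Agent.H90.R3

open Subgroup

variable {G X : Type*} [Group G] [MulAction G X] {D : Dat G X} {n k l f d : ℕ}

section

variable [Finite G] [Finite X] (N : Num D n k l f d)
include N

/-- divisibility of the number of elements of the kernel with a given property -/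
theorem dvd_pred (P : X) (p : G → Prop) (hp : ∀ g x : G, g • P = P → p x → p (g * x * g⁻¹)) :
    f ∣ Nat.card {x : G // x ∈ D.K P ∧ x ≠ 1 ∧ p x} := by
  obtain ⟨B, hB⟩ := D.exA P
  have h1 : Nat.card {x : G // x ∈ D.K P ∧ x ≠ 1 ∧ p x} =
      Nat.card {R : X // ∃ x ∈ D.K P, x ≠ 1 ∧ p x ∧ x • B = R} := by
    apply Nat.card_congr
    refine Equiv.ofBijective (fun x => ⟨x.1 • B, x.1, x.2.1, x.2.2.1, x.2.2.2, rfl⟩) ⟨?_, ?_⟩
    · intro x y hxy
      have h2 : x.1 • B = y.1 • B := congrArg Subtype.val hxy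
      have h3 : (y.1⁻¹ * x.1) • B = B := by rw [mul_smul, h2, inv_smul_smul]
      have h4 := D.K_free ((D.K P).mul_mem (inv_mem y.2.1) x.2.1) hB h3
      apply Subtype.ext
      exact (inv_mul_eq_one.1 h4).symm
    · rintro ⟨R, x, hx, hx1, hxc, rfl⟩
      exact ⟨⟨x, hx, hx1, hxc⟩, rfl⟩
  have h2 : Nat.card ↥(MulAction.stabilizer G P ⊓ MulAction.stabilizer G B) = f := by rw [← N.sA hB]; rfl
  rw [h1, ← h2]
  apply free_dvd
  · rintro e ⟨he1, he2⟩ R ⟨x, hx, hx1, hxc, rfl⟩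
    have he1 : e • P = P := he1
    have he2 : e • B = B := he2
    refine ⟨e * x * e⁻¹, D.conj_mem' hx he1, ?_, hp e x he1 hxc, ?_⟩
    · intro h
      apply hx1
      have : x = e⁻¹ * (e * x * e⁻¹) * e := by group
      rw [this, h]
      group
    · have : e⁻¹ • B = B := by rw [inv_smul_eq_iff, he2]
      rw [mul_smul, mul_smul, this]
  · rintro e ⟨he1, he2⟩ R ⟨x, hx, hx1, hxc, rfl⟩ heR
    have he1 : e • P = P := he1
    have he2 : e • B = B := he2
    have hne : B ≠ x • B := fun h => hx1 (D.K_free hx hB h.symm)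
    refine D.free he1 hB he2 ?_ heR hne
    have := D.smul x hB
    rwa [D.K_le hx] at this

end

section

variable [Finite G] [Finite X] (N : Num D n k l f d) (hf : ¬ Even f)
include N hf

theorem even_k : Even k := by
  have hne : Nonempty X := by
    have h1 := N.cX
    have h2 := N.sum
    exact (Nat.card_pos_iff.1 (by omega)).1
  obtain ⟨P⟩ := hne
  obtain ⟨Q, hQ⟩ := D.exA P
  rw [Nat.not_even_iff_odd] at hf
  by_contra hk
  rw [Nat.not_even_iff_odd] at hk
  have h1 : Odd (l * d) := by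
    rw [← N.cS']
    exact hk.mul hf
  have h2 : Odd l := (Nat.odd_mul.1 h1).1
  have h3 : Odd (Nat.card G) := by
    rw [N.cG, N.sum]
    refine Odd.mul ?_ (hk.mul hf)
    rw [Nat.odd_iff] at hk h2 ⊢
    omega
  obtain ⟨g, hg1, hg2⟩ := D.trA hQ (D.symm hQ)
  obtain ⟨m, hm⟩ := h3
  have h4 : ∀ a : ℕ, (g ^ (2 * a)) • P = P := by
    intro a
    induction a with
    | zero => simp
    | succ a ih =>
      have : g ^ (2 * (a + 1)) = g ^ (2 * a) * (g * g) := by
        rw [mul_add, pow_add, mul_one, pow_two g]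
      rw [this, mul_smul, mul_smul, hg1, hg2, ih]
  have h5 : (g ^ (2 * m + 1)) • P = P := by
    rw [← hm, pow_card_eq_one', one_smul]
  rw [add_comm, pow_add, pow_one, mul_smul, h4, hg1] at h5
  exact Dat.ne_of_adj hQ h5.symm

/-- involutions of the point stabilizer lie in the kernel -/
theorem inv_mem_K {P : X} {t : G} (ht : Inv G P t) : t ∈ D.K P := by
  refine N.mem_K_of_pow ht.2.2 (a := 2) ?_ (by rw [pow_two, ht.2.1])
  rw [Nat.coprime_two_left, ← Nat.not_even_iff_odd]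
  exact hf

theorem odd_inv_dvd (P : X) : f ∣ Nat.card {t : G // Inv G P t} := by
  have h := dvd_pred N P (fun x => x * x = 1) (by
    intro g x _ hx
    calc g * x * g⁻¹ * (g * x * g⁻¹) = g * (x * x) * g⁻¹ := by group
      _ = 1 := by rw [hx]; group)
  have e : Nat.card {t : G // Inv G P t} = Nat.card {x : G // x ∈ D.K P ∧ x ≠ 1 ∧ x * x = 1} := by
    refine Nat.card_congr (Equiv.subtypeEquivRight fun t => ?_)
    constructor
    · intro h
      exact ⟨inv_mem_K N hf h, h.1, h.2.1⟩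
    · intro h
      exact ⟨h.2.1, h.2.2, D.K_le h.1⟩
  rw [e]
  exact h

theorem odd_exists_inv (P : X) : ∃ t : G, Inv G P t := by
  obtain ⟨⟨t, ht1⟩, ht⟩ := exists_prime_orderOf_dvd_card' (G := D.K P) 2 (by rw [N.cK]; exact (even_k N hf).two_dvd)
  refine ⟨t, ?_, ?_, D.K_le ht1⟩
  · rintro rfl
    have h2 : (⟨1, ht1⟩ : D.K P) = 1 := rfl
    rw [h2, orderOf_one] at ht
    omega
  · have h3 : (⟨t, ht1⟩ : D.K P) ^ 2 = 1 := by
      rw [← ht, pow_orderOf_eq_one]
    rw [← pow_two]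
    exact congrArg Subtype.val h3

end

/-- the number of involutions moving `P` to `Q` -/
theorem card_move2 [Finite G] [Finite X] (N : Num D n k l f d) (P : X) (T : G → Prop)
    (hT : ∀ g t : G, T t → T (g * t * g⁻¹)) :
    ∃ ι ι' : ℕ, (∀ Q, D.Adj P Q → Nat.card {t : G // T t ∧ t • P = Q} = ι) ∧
      (∀ Q, P ≠ Q → ¬ D.Adj P Q → Nat.card {t : G // T t ∧ t • P = Q} = ι') ∧
      Nat.card {t : G // T t} = Nat.card {t : G // T t ∧ t • P = P} + k * ι + l * ι' := by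
  obtain ⟨B, hB⟩ := D.exA P
  obtain ⟨C, hC1, hC2⟩ := D.exN P
  have hconj : ∀ (g : G) (Q : X), g • P = P → Nat.card {t : G // T t ∧ t • P = g • Q} =
      Nat.card {t : G // T t ∧ t • P = Q} := by
    intro g Q hg
    have hg' : g⁻¹ • P = P := by rw [inv_smul_eq_iff, hg]
    refine Nat.card_congr ⟨fun t => ⟨g⁻¹ * t.1 * g, ?_, ?_⟩, fun t => ⟨g * t.1 * g⁻¹, ?_, ?_⟩, ?_, ?_⟩
    · have := hT g⁻¹ _ t.2.1
      rwa [inv_inv] at this
    · rw [mul_smul, mul_smul, hg, t.2.2, inv_smul_smul]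
    · exact hT g _ t.2.1
    · rw [mul_smul, mul_smul, hg', t.2.2]
    · intro t; apply Subtype.ext; simp [mul_assoc]
    · intro t; apply Subtype.ext; simp [mul_assoc]
  have hA : ∀ Q, D.Adj P Q → Nat.card {t : G // T t ∧ t • P = Q} = Nat.card {t : G // T t ∧ t • P = B} := by
    intro Q hQ
    obtain ⟨g, hg1, rfl⟩ := D.trA hB hQ
    exact hconj g B hg1
  have hN : ∀ Q, P ≠ Q → ¬ D.Adj P Q → Nat.card {t : G // T t ∧ t • P = Q} = Nat.card {t : G // T t ∧ t • P = C} := by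
    intro Q hQ1 hQ2
    obtain ⟨g, hg1, rfl⟩ := D.trN hC1 hC2 hQ1 hQ2
    exact hconj g C hg1
  refine ⟨Nat.card {t : G // T t ∧ t • P = B}, Nat.card {t : G // T t ∧ t • P = C}, hA, hN, ?_⟩
  rw [card_split (fun t : G => T t) (fun t => D.Adj P (t • P)),
    card_split (fun t : G => T t ∧ ¬ D.Adj P (t • P)) (fun t => t • P = P)]
  have e1 : Nat.card {t : G // T t ∧ D.Adj P (t • P)} = k * Nat.card {t : G // T t ∧ t • P = B} := by
    have h := dc (α := {t : G // T t ∧ D.Adj P (t • P)}) (β := {Q // D.Adj P Q})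
      (fun t Q => t.1 • P = Q.1) (x := 1) (y := Nat.card {t : G // T t ∧ t • P = B}) ?_ ?_
    · rw [mul_one] at h
      rw [h, N.cA]
    · rintro ⟨t, ht1, ht2⟩
      rw [Nat.card_eq_one_iff_unique]
      refine ⟨⟨fun a b => Subtype.ext (Subtype.ext (a.2.symm.trans b.2))⟩, ⟨⟨⟨t • P, ht2⟩, rfl⟩⟩⟩
    · rintro ⟨Q, hQ⟩
      rw [← hA Q hQ]
      exact Nat.card_congr ⟨fun t => ⟨t.1.1, t.1.2.1, t.2⟩, fun t => ⟨⟨t.1, t.2.1, by rw [t.2.2]; exact hQ⟩, t.2.2⟩,
        fun t => rfl, fun t => rfl⟩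
  have e2 : Nat.card {t : G // (T t ∧ ¬ D.Adj P (t • P)) ∧ t • P = P} = Nat.card {t : G // T t ∧ t • P = P} := by
    refine Nat.card_congr (Equiv.subtypeEquivRight fun t => ?_)
    constructor
    · rintro ⟨⟨h1, -⟩, h⟩
      exact ⟨h1, h⟩
    · rintro ⟨h1, h⟩
      exact ⟨⟨h1, by rw [h]; exact D.irr P⟩, h⟩
  have e3 : Nat.card {t : G // (T t ∧ ¬ D.Adj P (t • P)) ∧ ¬ t • P = P} = l * Nat.card {t : G // T t ∧ t • P = C} := by
    have h := dc (α := {t : G // (T t ∧ ¬ D.Adj P (t • P)) ∧ ¬ t • P = P})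
      (β := {Q // P ≠ Q ∧ ¬ D.Adj P Q})
      (fun t Q => t.1 • P = Q.1) (x := 1) (y := Nat.card {t : G // T t ∧ t • P = C}) ?_ ?_
    · rw [mul_one] at h
      rw [h, N.cN]
    · rintro ⟨t, ⟨ht1, ht2⟩, ht3⟩
      rw [Nat.card_eq_one_iff_unique]
      refine ⟨⟨fun a b => Subtype.ext (Subtype.ext (a.2.symm.trans b.2))⟩,
        ⟨⟨⟨t • P, fun h => ht3 h.symm, ht2⟩, rfl⟩⟩⟩
    · rintro ⟨Q, hQ1, hQ2⟩
      rw [← hN Q hQ1 hQ2]
      exact Nat.card_congr ⟨fun t => ⟨t.1.1, t.1.2.1.1, t.2⟩,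
        fun t => ⟨⟨t.1, ⟨t.2.1, by rw [t.2.2]; exact hQ2⟩, fun h => hQ1 (h.symm.trans t.2.2)⟩, t.2.2⟩,
        fun t => rfl, fun t => rfl⟩
  rw [e1, e2, e3]
  ring

section

variable [Finite G] [Finite X] (N : Num D n k l f d) (hf : ¬ Even f)
  (hD : ∀ {P Q : X} {x : G}, x ∈ D.K P → x • Q = Q → P ≠ Q → x = 1)
include N hf hD

theorem odd_free : False := by
  have hne : Nonempty X := by
    have h1 := N.cX
    have h2 := N.sum
    exact (Nat.card_pos_iff.1 (by omega)).1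
  obtain ⟨P⟩ := hne
  obtain ⟨B, hB⟩ := D.exA P
  obtain ⟨C, hC1, hC2⟩ := D.exN P
  obtain ⟨g, hg, hfg, hg1⟩ := exists_g N hD
  obtain ⟨κ, hκ⟩ : ∃ κ, Nat.card {t : G // Inv G P t} = κ := ⟨_, rfl⟩
  have hκR : ∀ R : X, Nat.card {t : G // Inv G R t} = κ := by
    intro R
    obtain ⟨u, rfl⟩ := D.tr P R
    rw [← hκ]
    refine (Nat.card_congr ((MulAut.conj u).toEquiv.subtypeEquiv ?_)).symm
    intro t
    show Inv G P t ↔ Inv G (u • P) (u * t * u⁻¹)
    constructor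
    · exact fun h => h.conj u
    · intro h
      have := h.conj u⁻¹
      rw [inv_smul_smul] at this
      have e : u⁻¹ * (u * t * u⁻¹) * u⁻¹⁻¹ = t := by group
      rwa [e] at this
  have hκf : f ≤ κ := by
    rw [← hκ]
    obtain ⟨t, ht⟩ := odd_exists_inv N hf P
    have : Nonempty {t : G // Inv G P t} := ⟨⟨t, ht⟩⟩
    exact Nat.le_of_dvd Nat.card_pos (odd_inv_dvd N hf P)
  obtain ⟨ι, ι', h1, h2, h3⟩ := card_move2 N P (fun t => ∃ R : X, Inv G R t) (by
    rintro g t ⟨R, hR⟩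
    exact ⟨_, hR.conj g⟩)
  -- the number of involutions
  have h4 : Nat.card {t : G // ∃ R : X, Inv G R t} = n * κ := by
    have h := dc (α := {t : G // ∃ R : X, Inv G R t}) (β := X) (fun t R => t.1 • R = R) (x := 1) (y := κ) ?_ ?_
    · rw [mul_one, N.cX] at h
      exact h
    · rintro ⟨t, R, hR⟩
      rw [Nat.card_eq_one_iff_unique]
      refine ⟨⟨?_⟩, ⟨⟨R, hR.2.2⟩⟩⟩
      rintro ⟨a, ha⟩ ⟨b, hb⟩
      have ha : t • a = a := ha
      have hb : t • b = b := hb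
      apply Subtype.ext
      show a = b
      by_contra hab
      exact hR.1 (hD (inv_mem_K N hf ⟨hR.1, hR.2.1, ha⟩) hb hab)
    · intro Q
      rw [← hκR Q]
      exact Nat.card_congr ⟨fun t => ⟨t.1.1, by obtain ⟨⟨t, P, ht⟩, h⟩ := t; exact ⟨ht.1, ht.2.1, h⟩⟩,
        fun t => ⟨⟨t.1, Q, t.2⟩, t.2.2.2⟩, fun t => rfl, fun t => rfl⟩
  have h5 : Nat.card {t : G // (∃ R : X, Inv G R t) ∧ t • P = P} = κ := by
    rw [← hκ]
    refine Nat.card_congr (Equiv.subtypeEquivRight fun t => ?_)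
    constructor
    · rintro ⟨⟨R, hR⟩, h⟩
      exact ⟨hR.1, hR.2.1, h⟩
    · intro h
      exact ⟨⟨P, h⟩, h.2.2⟩
  rw [h4, h5, hg, N.sum, hg] at h3
  have hk := N.k2
  have h6 : (1 + g) * κ = ι + g * ι' := by
    have : k * ((1 + g) * κ) = k * (ι + g * ι') := by
      have e1 : (1 + k + k * g) * κ = κ + k * ((1 + g) * κ) := by ring
      have e2 : κ + k * ι + k * g * ι' = κ + k * (ι + g * ι') := by ring
      omega
    exact Nat.eq_of_mul_eq_mul_left (by omega) this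
  have hbd : ∀ {Q : X} {c : ℕ}, (∃ g : G, g • P = Q ∧ g • Q = P) → Nat.card {g : G // g • P = P ∧ g • Q = Q} = c →
      Nat.card {t : G // (∃ R : X, Inv G R t) ∧ t • P = Q} ≤ c := by
    rintro Q c ⟨g, h1, h2⟩ hc
    rw [← hc, ← coset2 h1 h2]
    refine Nat.card_le_card_of_injective (fun t : {t : G // (∃ R : X, Inv G R t) ∧ t • P = Q} =>
      (⟨t.1, t.2.2, ?_⟩ : {g : G // g • P = Q ∧ g • Q = P})) ?_
    · obtain ⟨⟨R, hR⟩, ht⟩ := t.2
      calc t.1 • Q = t.1 • (t.1 • P) := by rw [ht]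
        _ = P := by rw [← mul_smul, hR.2.1, one_smul]
    · intro a b hab
      have h3 := congrArg Subtype.val hab
      exact Subtype.ext h3
  have hι : ι ≤ f := by
    rw [← h1 B hB]
    exact hbd (D.trA hB (D.symm hB)) (N.sA hB)
  have hι' : ι' ≤ d := by
    rw [← h2 C hC1 hC2]
    exact hbd (D.trN hC1 hC2 hC1.symm (fun h => hC2 (D.symm h))) (N.sN hC1 hC2)
  have hf2 := N.f2
  have hg1' : g = 1 := by
    by_contra hne
    have h7 : 2 ≤ g := by omega
    have h8 : g * ι' ≤ f := by rw [hfg]; exact Nat.mul_le_mul_left _ hι'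
    have h9 : 3 * f ≤ (1 + g) * κ := by
      calc 3 * f ≤ (1 + g) * f := Nat.mul_le_mul_right _ (by omega)
        _ ≤ _ := Nat.mul_le_mul_left _ hκf
    omega
  subst hg1'
  rw [one_mul] at hfg
  have hι'f : ι' = f := by omega
  -- every element interchanging `P` and `C` is an involution
  have hall : ∀ g : G, g • P = C → g • C = P → g * g = 1 := by
    intro g hg1 hg2
    have hfin : Finite {t : G // t • P = C ∧ t • C = P} := inferInstance
    let φ : {t : G // (∃ R : X, Inv G R t) ∧ t • P = C} → {t : G // t • P = C ∧ t • C = P} := fun t =>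
      ⟨t.1, t.2.2, by
        obtain ⟨⟨R, hR⟩, ht⟩ := t.2
        calc t.1 • C = t.1 • (t.1 • P) := by rw [ht]
          _ = P := by rw [← mul_smul, hR.2.1, one_smul]⟩
    have hinj : Function.Injective φ := fun a b hab => Subtype.ext (by have h := congrArg Subtype.val hab; exact h)
    have hcard : Nat.card {t : G // (∃ R : X, Inv G R t) ∧ t • P = C} = Nat.card {t : G // t • P = C ∧ t • C = P} := by
      rw [h2 C hC1 hC2, hι'f, coset2 hg1 hg2, N.sN hC1 hC2, hfg]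
    have hbij : Function.Bijective φ := (Nat.bijective_iff_injective_and_card φ).2 ⟨hinj, hcard⟩
    obtain ⟨⟨t, ⟨R, hR⟩, ht⟩, hφ⟩ := hbij.2 ⟨g, hg1, hg2⟩
    have h7 : t = g := congrArg Subtype.val hφ
    rw [← h7]
    exact hR.2.1
  obtain ⟨t, ht1, ht2⟩ := D.trN hC1 hC2 hC1.symm (fun h => hC2 (D.symm h))
  have htt := hall t ht1 ht2
  -- `t` inverts the stabilizer of `P` and `C`
  have hinv : ∀ e : G, e • P = P → e • C = C → t * e * t = e⁻¹ := by
    intro e he1 he2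
    have h7 := hall (t * e) (by rw [mul_smul, he1, ht1]) (by rw [mul_smul, he2, ht2])
    rw [eq_inv_iff_mul_eq_one]
    calc t * e * t * e = t * e * (t * e) := by group
      _ = 1 := h7
  have hcomm : ∀ a b : G, a • P = P → a • C = C → b • P = P → b • C = C → a * b = b * a := by
    intro a b ha1 ha2 hb1 hb2
    have h7 := hinv (a * b) (by rw [mul_smul, hb1, ha1]) (by rw [mul_smul, hb2, ha2])
    have h8 : t * (a * b) * t = (t * a * t) * (t * b * t) := by
      calc t * (a * b) * t = t * a * (1 * b) * t := by group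
        _ = t * a * (t * t * b) * t := by rw [htt]
        _ = _ := by group
    rw [h7, hinv a ha1 ha2, hinv b hb1 hb2] at h8
    have h9 := congrArg (fun z => z⁻¹) h8
    simpa using h9
  -- the stabilizer of `P` and `C` fixes a neighbour of `P`
  have hcd : Nat.card ↥(MulAction.stabilizer G P ⊓ MulAction.stabilizer G C) = f := by
    rw [hfg, ← N.sN hC1 hC2]
    rfl
  have hnt : Nontrivial ↥(MulAction.stabilizer G P ⊓ MulAction.stabilizer G C) := by
    apply Finite.one_lt_card_iff_nontrivial.1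
    omega
  obtain ⟨⟨a, ha1, ha2⟩, ha⟩ := exists_ne (1 : ↥(MulAction.stabilizer G P ⊓ MulAction.stabilizer G C))
  have ha1 : a • P = P := ha1
  have ha2 : a • C = C := ha2
  have ha : a ≠ 1 := fun h => ha (Subtype.ext h)
  have haK : a ∉ D.K P := fun h => ha (hD h ha2 hC1)
  obtain ⟨Q, hQ, hQall⟩ : ∃ Q, D.Adj P Q ∧ ∀ e : G, e • P = P → e • C = C → e • Q = Q := by
    have h7 := haK
    rw [D.mem_K] at h7
    push Not at h7
    obtain ⟨-, Q, hQ1, hQ2⟩ := h7 ha1
    refine ⟨Q, hQ1, ?_⟩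
    intro e he1 he2
    by_contra hne
    apply ha
    refine D.free ha1 hQ1 hQ2 (Q' := e • Q) ?_ ?_ (fun h => hne h.symm)
    · have := D.smul e hQ1
      rwa [he1] at this
    · rw [← mul_smul, hcomm a e ha1 ha2 he1 he2, mul_smul, hQ2]
  -- the two stabilizers coincide
  have heq : MulAction.stabilizer G P ⊓ MulAction.stabilizer G C = MulAction.stabilizer G P ⊓ MulAction.stabilizer G Q := by
    apply Subgroup.eq_of_le_of_card_ge
    · rintro e ⟨he1, he2⟩
      exact ⟨he1, hQall e he1 he2⟩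
    · rw [hcd]
      have : Nat.card ↥(MulAction.stabilizer G P ⊓ MulAction.stabilizer G Q) = f := by rw [← N.sA hQ]; rfl
      rw [this]
  have hmem : ∀ e : G, (e • P = P ∧ e • C = C) ↔ (e • P = P ∧ e • Q = Q) := by
    intro e
    have := congrArg (fun S : Subgroup G => e ∈ S) heq
    simp only [Subgroup.mem_inf, MulAction.mem_stabilizer_iff, eq_iff_iff] at this
    exact this
  -- the fixed points
  have hfixQ : ∀ R, D.Adj P R → (∀ e : G, e • P = P → e • C = C → e • R = R) → R = Q := by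
    intro R hR1 hR2
    by_contra hne
    exact ha (D.free ha1 hR1 (hR2 a ha1 ha2) hQ (hQall a ha1 ha2) hne)
  have hfixC : ∀ R, P ≠ R → ¬ D.Adj P R → (∀ e : G, e • P = P → e • C = C → e • R = R) → R = C := by
    intro R hR1 hR2 hR3
    obtain ⟨x, hx, rfl⟩ : ∃ x ∈ D.K P, x • C = R := by
      have hbij : Function.Bijective (fun x : D.K P => (⟨x.1 • C, fun h => hC1
          (smul_left_cancel x.1 ((D.K_le x.2).trans h)), fun h => hC2 (by
          rw [← D.adj_smul_iff x.1, D.K_le x.2]; exact h)⟩ : {Q // P ≠ Q ∧ ¬ D.Adj P Q})) := by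
        rw [Nat.bijective_iff_injective_and_card]
        refine ⟨?_, ?_⟩
        · intro x y hxy
          have h8 : x.1 • C = y.1 • C := congrArg Subtype.val hxy
          have h9 : (y.1⁻¹ * x.1) • C = C := by rw [mul_smul, h8, inv_smul_smul]
          exact Subtype.ext (inv_mul_eq_one.1 (hD ((D.K P).mul_mem (inv_mem y.2) x.2) h9 hC1)).symm
        · rw [N.cK, N.cN, hg, mul_one]
      obtain ⟨x, hx⟩ := hbij.2 ⟨R, hR1, hR2⟩
      exact ⟨x.1, x.2, congrArg Subtype.val hx⟩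
    by_contra hne
    have hx1 : x ≠ 1 := by
      rintro rfl
      exact hne (one_smul _ _)
    apply haK
    refine D.comm_mem hx hx1 ha1 ?_
    have h7 := hR3 a ha1 ha2
    have ha2' : a⁻¹ • C = C := by rw [inv_smul_eq_iff, ha2]
    have h8 : (x⁻¹ * (a * x * a⁻¹)) • C = C := by
      rw [mul_smul, mul_smul, mul_smul, ha2', h7, inv_smul_smul]
    have h9 := hD ((D.K P).mul_mem (inv_mem hx) (D.conj_mem' hx ha1)) h8 hC1
    rw [inv_mul_eq_one] at h9
    rw [h9]
    nth_rw 2 [h9]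
    rw [inv_mul_cancel_right]
  have hall3 : ∀ R, (∀ e : G, e • P = P → e • C = C → e • R = R) → R = P ∨ R = Q ∨ R = C := by
    intro R hR
    by_cases h1 : P = R
    · exact Or.inl h1.symm
    · by_cases h2 : D.Adj P R
      · exact Or.inr (Or.inl (hfixQ R h2 hR))
      · exact Or.inr (Or.inr (hfixC R h1 h2 hR))
  have hQC : Q ≠ C := by
    rintro rfl
    exact hC2 hQ
  have hPQ := Dat.ne_of_adj hQ
  -- `t` fixes `Q`
  have htQ : t • Q = Q := by
    have h7 : ∀ e : G, e • P = P → e • C = C → e • (t • Q) = t • Q := by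
      intro e he1 he2
      have h8 := hQall (t⁻¹ * e * t) (by rw [mul_smul, mul_smul, ht1, he2, ← ht1, inv_smul_smul])
        (by rw [mul_smul, mul_smul, ht2, he1, ← ht2, inv_smul_smul])
      rw [mul_smul, mul_smul, inv_smul_eq_iff] at h8
      exact h8
    rcases hall3 _ h7 with h | h | h
    · exact absurd (smul_left_cancel t (h.trans ht2.symm)) hQC
    · exact h
    · exact absurd (smul_left_cancel t (h.trans ht1.symm)).symm hPQ
  have hCQ : D.Adj C Q := by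
    have := D.smul t hQ
    rwa [ht1, htQ] at this
  obtain ⟨s, hs1, hs2⟩ := D.trA hQ (D.symm hQ)
  have hsC : s • C = C := by
    have h7 : ∀ e : G, e • P = P → e • C = C → e • (s • C) = s • C := by
      intro e he1 he2
      obtain ⟨-, he3⟩ := (hmem e).1 ⟨he1, he2⟩
      have h8 := ((hmem (s⁻¹ * e * s)).2 ⟨by rw [mul_smul, mul_smul, hs1, he3, ← hs1, inv_smul_smul],
        by rw [mul_smul, mul_smul, hs2, he1, ← hs2, inv_smul_smul]⟩).2
      rw [mul_smul, mul_smul, inv_smul_eq_iff] at h8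
      exact h8
    rcases hall3 _ h7 with h | h | h
    · exact absurd (smul_left_cancel s (h.trans hs2.symm)).symm hQC
    · exact absurd (smul_left_cancel s (h.trans hs1.symm)).symm hC1
    · exact h
  have h7 := D.smul s hCQ
  rw [hsC, hs2] at h7
  exact hC2 (D.symm h7)

end

end Cfsg.Agent.H90.R3
end

-- part: H90/R3/OddLine
section
/-!
# Rank three groups with a Frobenius suborbit: odd complement, lines
-/

set_option autoImplicit false

namespace Cfsg.Agent.H90.R3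

open Subgroup

/-- double counting, inequality -/
theorem dc_le {α β : Type*} [Finite α] [Finite β] (r : α → β → Prop) {x y : ℕ}
    (h1 : ∀ a, Nat.card {b // r a b} = x) (h2 : ∀ b, Nat.card {a // r a b} ≤ y) :
    Nat.card α * x ≤ Nat.card β * y := by
  have e1 : Nat.card (Σ a : α, {b // r a b}) = Nat.card α * x := by
    have := Fintype.ofFinite α
    rw [Nat.card_sigma, Finset.sum_congr rfl (fun a _ => h1 a), Finset.sum_const, Finset.card_univ,
      smul_eq_mul, Nat.card_eq_fintype_card]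
  have e2 : Nat.card (Σ b : β, {a // r a b}) ≤ Nat.card β * y := by
    have := Fintype.ofFinite β
    rw [Nat.card_sigma, Nat.card_eq_fintype_card, ← Finset.card_univ, ← smul_eq_mul]
    exact Finset.sum_le_card_nsmul _ _ _ (fun b _ => h2 b)
  rw [← e1]
  refine le_trans (le_of_eq (Nat.card_congr ⟨fun p => ⟨p.2.1, p.1, p.2.2⟩, fun p => ⟨p.2.1, p.1, p.2.2⟩, ?_, ?_⟩)) e2
  · rintro ⟨a, b, h⟩; rfl
  · rintro ⟨a, b, h⟩; rfl

variable {G X : Type*} [Group G] [MulAction G X] {D : Dat G X} {n k l f d : ℕ}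

/-- the elements of order at most two of the centre of the kernel -/
def Dat.Z (D : Dat G X) (P : X) : Subgroup G where
  carrier := {z | z ∈ D.K P ∧ z * z = 1 ∧ ∀ y ∈ D.K P, z * y = y * z}
  mul_mem' := by
    rintro a b ⟨ha1, ha2, ha3⟩ ⟨hb1, hb2, hb3⟩
    refine ⟨mul_mem ha1 hb1, ?_, ?_⟩
    · calc a * b * (a * b) = a * (b * a) * b := by group
        _ = a * (a * b) * b := by rw [ha3 b hb1]
        _ = (a * a) * (b * b) := by group
        _ = 1 := by rw [ha2, hb2, one_mul]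
    · intro y hy
      rw [mul_assoc, hb3 y hy, ← mul_assoc, ha3 y hy, mul_assoc]
  one_mem' := ⟨one_mem _, one_mul _, fun y _ => by rw [one_mul, mul_one]⟩
  inv_mem' := by
    rintro a ⟨ha1, ha2, ha3⟩
    rw [show a⁻¹ = a from inv_eq_of_mul_eq_one_left ha2]
    exact ⟨ha1, ha2, ha3⟩

theorem Dat.mem_Z {P : X} {z : G} : z ∈ D.Z P ↔ z ∈ D.K P ∧ z * z = 1 ∧ ∀ y ∈ D.K P, z * y = y * z := Iff.rfl

theorem Dat.conj_mem_Z {P : X} {z : G} (hz : z ∈ D.Z P) (g : G) : g * z * g⁻¹ ∈ D.Z (g • P) := by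
  obtain ⟨h1, h2, h3⟩ := hz
  refine ⟨D.conj_mem h1 g, ?_, ?_⟩
  · calc g * z * g⁻¹ * (g * z * g⁻¹) = g * (z * z) * g⁻¹ := by group
      _ = 1 := by rw [h2]; group
  · intro y hy
    have h4 := D.conj_mem hy g⁻¹
    rw [inv_smul_smul] at h4
    have h5 := h3 _ h4
    calc g * z * g⁻¹ * y = g * (z * (g⁻¹ * y * g⁻¹⁻¹)) * g⁻¹ := by group
      _ = y * (g * z * g⁻¹) := by rw [h5]; group

theorem Dat.conj_Z {P : X} {z : G} (g : G) : g * z * g⁻¹ ∈ D.Z (g • P) ↔ z ∈ D.Z P := by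
  constructor
  · intro h
    have := Dat.conj_mem_Z h g⁻¹
    rw [inv_smul_smul] at this
    have e : g⁻¹ * (g * z * g⁻¹) * g⁻¹⁻¹ = z := by group
    rwa [e] at this
  · exact fun h => Dat.conj_mem_Z h g

theorem Dat.conj_Z' {P : X} {z g : G} (hg : g • P = P) (hz : z ∈ D.Z P) : g * z * g⁻¹ ∈ D.Z P := by
  have := Dat.conj_mem_Z hz g
  rwa [hg] at this

/-- the common part for two points -/
def Dat.W (D : Dat G X) (P Q : X) : Subgroup G := D.Z P ⊓ D.Z Q

theorem Dat.W_comm (D : Dat G X) (P Q : X) : D.W P Q = D.W Q P := inf_comm _ _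

section

variable [Finite G] [Finite X] (N : Num D n k l f d) (hf : ¬ Even f)
include N hf

theorem exists_Z (P : X) : ∃ z ∈ D.Z P, z ≠ 1 := by
  obtain ⟨z, hz, ho, hc⟩ := Cfsg.Agent.OddOrderLocal.CNNil.exists_central_orderOf_subgroup (D.nilp P) Nat.prime_two
    (by rw [N.cK]; exact (even_k N hf).two_dvd)
  refine ⟨z, ⟨hz, ?_, ?_⟩, ?_⟩
  · rw [← pow_two, ← ho, pow_orderOf_eq_one]
  · intro y hy
    exact (hc y hy).symm.eq
  · rintro rfl
    rw [orderOf_one] at ho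
    omega

theorem Z_fix {P R : X} (h : ∀ z ∈ D.Z P, z • R = R) : R = P := by
  refine N.lemN (P := P) (Y := D.Z P) (fun z hz => hz.1) ?_ ?_ h
  · intro h1
    obtain ⟨z, hz, hz1⟩ := exists_Z N hf P
    rw [h1] at hz
    exact hz1 (mem_bot.1 hz)
  · intro g hg y hy
    exact Dat.conj_Z' hg hy

/-- the centralizer of `H` is transitive on the points of the line -/
theorem line_C {H : Subgroup G} (hH : IsLine D H) {R S : X} (hR : Fx H R) (hS : Fx H S) :
    ∃ c : G, c • R = S ∧ ∀ x ∈ H, c * x = x * c := by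
  by_cases hRS : R = S
  · exact ⟨1, by rw [one_smul, hRS], fun x _ => by rw [one_mul, mul_one]⟩
  · obtain ⟨z, hz, hzR⟩ : ∃ z ∈ D.Z S, z • R ≠ R := by
      by_contra hcon
      push Not at hcon
      exact hRS (Z_fix N hf hcon)
    have hzc : ∀ x ∈ H, z * x = x * z := fun x hx => hz.2.2 x (hH.le_K N hS hx)
    have hzR' : Fx H (z • R) := by
      intro x hx
      rw [← mul_smul, ← hzc x hx, mul_smul, hR x hx]
    obtain ⟨g, hg1, hg2, hg3⟩ := hH.tr2 N hR hzR' (fun h => hzR h.symm) hR hS hRS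
    refine ⟨g * z * g⁻¹, ?_, ?_⟩
    · have : g⁻¹ • R = R := by rw [inv_smul_eq_iff, hg1]
      rw [mul_smul, mul_smul, this, hg2]
    · intro x hx
      have h1 : g⁻¹ * x * g ∈ H := by
        have := (hg3.inv x).2 hx
        rwa [inv_inv] at this
      have h2 := hzc _ h1
      calc g * z * g⁻¹ * x = g * (z * (g⁻¹ * x * g)) * g⁻¹ := by group
        _ = x * (g * z * g⁻¹) := by rw [h2]; group

/-- **Claim A** -/
theorem claimA {P Q : X} {z : G} (hz : z ∈ D.Z P) (hzQ : z • Q = Q) : z ∈ D.Z Q := by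
  by_cases hz1 : z = 1
  · rw [hz1]
    exact one_mem _
  by_cases hPQ : P = Q
  · rwa [← hPQ]
  have hadj := N.clique hz.1 hz1 (D.K_le hz.1) hzQ
  have hzL : z ∈ D.L P Q := (N.mem_L).2 ⟨hz.1, hzQ⟩
  have hH : IsLine D (D.L P Q) := ⟨fun h => hz1 (by rw [h] at hzL; exact mem_bot.1 hzL), P, Q, hPQ, hadj, rfl⟩
  obtain ⟨c, hc1, hc2⟩ := line_C N hf hH (R := P) (S := Q) (fun x hx => D.K_le hx.1) (fun x hx => D.K_le hx.2)
  have h1 := Dat.conj_mem_Z hz c
  rw [hc1, hc2 z hzL, mul_inv_cancel_right] at h1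
  exact h1

theorem mem_W {P Q : X} {z : G} : z ∈ D.W P Q ↔ z ∈ D.Z P ∧ z • Q = Q :=
  ⟨fun h => ⟨h.1, D.K_le h.2.1⟩, fun h => ⟨h.1, claimA N hf h.1 h.2⟩⟩

omit hf in
theorem card_Z_eq (P Q : X) : Nat.card (D.Z P) = Nat.card (D.Z Q) := by
  obtain ⟨g, rfl⟩ := D.tr P Q
  refine Nat.card_congr ((MulAut.conj g).toEquiv.subtypeEquiv ?_)
  intro x
  exact (Dat.conj_Z g).symm

/-- **Claim B** -/
theorem claimB_le {P Q : X} (hPQ : P ≠ Q) (hadj : ¬ D.Adj P Q) (hne : D.L P Q ≠ ⊥) :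
    Nat.card (D.Z P) ≤ 2 * Nat.card (D.W P Q) := by
  set H := D.L P Q with hHdef
  have hH : IsLine D H := ⟨hne, P, Q, hPQ, hadj, rfl⟩
  have hP : Fx H P := fun x hx => D.K_le hx.1
  have hQ : Fx H Q := fun x hx => D.K_le hx.2
  have hWH : D.W P Q = D.Z P ⊓ H := by
    ext z
    rw [mem_W N hf]
    constructor
    · rintro ⟨h1, h2⟩
      exact ⟨h1, (N.mem_L).2 ⟨h1.1, h2⟩⟩
    · rintro ⟨h1, h2⟩
      exact ⟨h1, hQ z h2⟩
  have hWR : ∀ R : X, Fx H R → D.Z R ⊓ H = D.Z P ⊓ H := by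
    intro R hR
    ext z
    constructor
    · rintro ⟨h1, h2⟩
      exact ⟨claimA N hf h1 (hP z h2), h2⟩
    · rintro ⟨h1, h2⟩
      exact ⟨claimA N hf h1 (hR z h2), h2⟩
  obtain ⟨w, hw⟩ : ∃ w, Nat.card (D.W P Q) = w := ⟨_, rfl⟩
  obtain ⟨z₀, hz₀⟩ : ∃ z₀, Nat.card (D.Z P) = z₀ := ⟨_, rfl⟩
  have hdiff : ∀ R : X, Fx H R → Nat.card {t : G // t ∈ D.Z R ∧ t ∉ H} = z₀ - w := by
    intro R hR
    have h1 := card_split (fun t : G => t ∈ D.Z R) (fun t => t ∈ H)
    have h2 : Nat.card {t : G // t ∈ D.Z R} = z₀ := by rw [← hz₀, card_Z_eq N P R]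
    have h3 : Nat.card {t : G // t ∈ D.Z R ∧ t ∈ H} = w := by
      rw [← hw, hWH, ← hWR R hR]
      rfl
    omega
  have hmemH : ∀ {R R' : X} {t : G}, Fx H R → Fx H R' → t ∈ D.Z R → t ∉ H → t • R' = R' → R = R' := by
    intro R R' t hR hR' ht htH h
    by_contra hne'
    exact htH (hH.mem_of_fix N hR hR' hne' ht.1 h)
  set lam := Nat.card {R : X // Fx H R} with hlam
  have hlam1 : lam = Nat.card {R : X // Fx H R ∧ P ≠ R} + 1 := card_erase (fun R => Fx H R) hP
  have hlam2 : 1 ≤ Nat.card {R : X // Fx H R ∧ P ≠ R} := by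
    have : Nonempty {R : X // Fx H R ∧ P ≠ R} := ⟨⟨Q, hQ, hPQ⟩⟩
    exact Nat.card_pos
  have c1 : Nat.card {t : G // ∃ R : X, Fx H R ∧ t ∈ D.Z R ∧ t ∉ H} * 1 = lam * (z₀ - w) := by
    refine dc (α := {t : G // ∃ R : X, Fx H R ∧ t ∈ D.Z R ∧ t ∉ H}) (β := {R : X // Fx H R})
      (fun t R => t.1 • R.1 = R.1) ?_ ?_
    · rintro ⟨t, R, hR, ht, htH⟩
      rw [Nat.card_eq_one_iff_unique]
      refine ⟨⟨fun a b => Subtype.ext (Subtype.ext ?_)⟩, ⟨⟨⟨R, hR⟩, D.K_le ht.1⟩⟩⟩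
      exact (hmemH hR a.1.2 ht htH a.2).symm.trans (hmemH hR b.1.2 ht htH b.2)
    · rintro ⟨R, hR⟩
      rw [← hdiff R hR]
      refine Nat.card_congr ⟨fun t => ⟨t.1.1, ?_⟩, fun t => ⟨⟨t.1, R, hR, t.2⟩, D.K_le t.2.1.1⟩, fun t => rfl, fun t => rfl⟩
      obtain ⟨⟨t, S, hS, ht, htH⟩, h⟩ := t
      have h3 := hmemH hS hR ht htH h
      subst h3
      exact ⟨ht, htH⟩
  have c2 : Nat.card {t : G // (∃ R : X, Fx H R ∧ t ∈ D.Z R ∧ t ∉ H) ∧ t • P = P} = z₀ - w := by
    rw [← hdiff P hP]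
    refine Nat.card_congr (Equiv.subtypeEquivRight fun t => ?_)
    constructor
    · rintro ⟨⟨R, hR, ht, htH⟩, h⟩
      have h3 := hmemH hR hP ht htH h
      subst h3
      exact ⟨ht, htH⟩
    · intro h
      exact ⟨⟨P, hP, h⟩, D.K_le h.1.1⟩
  have c3 : Nat.card {t : G // (∃ R : X, Fx H R ∧ t ∈ D.Z R ∧ t ∉ H) ∧ ¬ t • P = P} * 1 ≤ (lam - 1) * w := by
    have hl' : lam - 1 = Nat.card {R : X // Fx H R ∧ P ≠ R} := by omega
    rw [hl']
    refine dc_le (α := {t : G // (∃ R : X, Fx H R ∧ t ∈ D.Z R ∧ t ∉ H) ∧ ¬ t • P = P}) (β := {R : X // Fx H R ∧ P ≠ R})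
      (fun t R => t.1 • P = R.1) ?_ ?_
    · rintro ⟨t, ⟨S, hS, ht, htH⟩, h⟩
      rw [Nat.card_eq_one_iff_unique]
      refine ⟨⟨fun a b => Subtype.ext (Subtype.ext (a.2.symm.trans b.2))⟩, ⟨⟨⟨t • P, ?_, fun h' => h h'.symm⟩, rfl⟩⟩⟩
      intro x hx
      rw [← mul_smul, ← ht.2.2 x (hH.le_K N hS hx), mul_smul, hP x hx]
    · rintro ⟨R, hR, hPR⟩
      rcases isEmpty_or_nonempty {a : {t : G // (∃ R : X, Fx H R ∧ t ∈ D.Z R ∧ t ∉ H) ∧ ¬ t • P = P} // a.1 • P = R}
        with he | ⟨⟨⟨t₁, ⟨S₁, hS₁, ht₁, ht₁H⟩, h₁⟩, h₁'⟩⟩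
      · rw [Nat.card_of_isEmpty]
        exact Nat.zero_le _
      · have h₁' : t₁ • P = R := h₁'
        have h₁'' : t₁ • R = P := by rw [← h₁', ← mul_smul, ht₁.2.1, one_smul]
        obtain ⟨x₀, hx₀, hx₀1⟩ := hH.exists_one
        rw [← hw, hWH]
        refine Nat.card_le_card_of_injective (β := ↥(D.Z P ⊓ H)) (fun a => ⟨t₁ * a.1.1, ?_⟩) ?_
        · obtain ⟨⟨t, ⟨S, hS, ht, htH⟩, h⟩, h'⟩ := a
          have h' : t • P = R := h'
          have h'' : t • R = P := by rw [← h', ← mul_smul, ht.2.1, one_smul]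
          show t₁ * t ∈ D.Z P ⊓ H
          have h3 : (t₁ * t) • P = P := by rw [mul_smul, h', h₁'']
          have h4 : (t₁ * t) • R = R := by rw [mul_smul, h'', h₁']
          have h5 : t₁ * t ∈ H := by
            refine hH.mem_of_fix N hP hR hPR (D.comm_mem (hH.le_K N hP hx₀) hx₀1 h3 ?_) h4
            rw [mul_assoc, ht.2.2 x₀ (hH.le_K N hS hx₀), ← mul_assoc, ht₁.2.2 x₀ (hH.le_K N hS₁ hx₀), mul_assoc]
          have h6 : t • S₁ = S₁ := by
            have h7 := hS₁ _ h5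
            have h8 : t₁ • S₁ = S₁ := D.K_le ht₁.1
            rw [mul_smul] at h7
            exact smul_left_cancel t₁ (h7.trans h8.symm)
          have h7 := hmemH hS hS₁ ht htH h6
          subst h7
          rw [← hWR S hS]
          exact ⟨mul_mem ht₁ ht, h5⟩
        · intro a b hab
          have h3 : t₁ * a.1.1 = t₁ * b.1.1 := congrArg Subtype.val hab
          exact Subtype.ext (Subtype.ext (mul_left_cancel h3))
  have c4 := card_split (fun t : G => ∃ R : X, Fx H R ∧ t ∈ D.Z R ∧ t ∉ H) (fun t => t • P = P)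
  rw [c2] at c4
  rw [hz₀, hw]
  obtain ⟨v, hv⟩ : ∃ v, lam = v + 1 := ⟨_, hlam1⟩
  have hv1 : 1 ≤ v := by omega
  have hv' : lam - 1 = v := by omega
  rw [hv'] at c3
  rw [hv] at c1
  have h9 : v * (z₀ - w) ≤ v * w := by
    have : (v + 1) * (z₀ - w) = v * (z₀ - w) + (z₀ - w) := by ring
    omega
  have h10 := Nat.le_of_mul_le_mul_left h9 (by omega)
  omega

end

end Cfsg.Agent.H90.R3
end

-- part: H90/R3/OddLine2
section
/-!
# Rank three groups with a Frobenius suborbit: odd complement, lines, conclusion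
-/

set_option autoImplicit false

namespace Cfsg.Agent.H90.R3

open Subgroup

variable {G X : Type*} [Group G] [MulAction G X] {D : Dat G X} {n k l f d : ℕ}

/-- in a group of order two -/
theorem two_unique {H : Subgroup G} (h : Nat.card H = 2) {a b : G} (ha : a ∈ H) (hb : b ∈ H) (ha1 : a ≠ 1) (hb1 : b ≠ 1) :
    a = b := by
  have : Finite H := Nat.finite_of_card_ne_zero (by omega)
  have := Fintype.ofFinite H
  by_contra hab
  have h1 : 2 < Fintype.card H := by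
    rw [Fintype.two_lt_card_iff]
    exact ⟨1, ⟨a, ha⟩, ⟨b, hb⟩, fun h => ha1 (congrArg Subtype.val h).symm, fun h => hb1 (congrArg Subtype.val h).symm,
      fun h => hab (congrArg Subtype.val h)⟩
  rw [Nat.card_eq_fintype_card] at h
  omega

section

variable [Finite G] [Finite X] (N : Num D n k l f d) (hf : ¬ Even f)
  (hne : ∀ {P Q : X}, P ≠ Q → ¬ D.Adj P Q → D.L P Q ≠ ⊥)
include N hf hne

theorem claimB {P Q : X} (hPQ : P ≠ Q) (hadj : ¬ D.Adj P Q) : Nat.card (D.Z P) = 2 * Nat.card (D.W P Q) := by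
  apply le_antisymm (claimB_le N hf hPQ hadj (hne hPQ hadj))
  have h1 : Nat.card (D.W P Q) ∣ Nat.card (D.Z P) := Subgroup.card_dvd_of_le inf_le_left
  obtain ⟨c, hc⟩ := h1
  have h2 : 0 < Nat.card (D.Z P) := Nat.card_pos
  by_contra hlt
  have hc1 : c = 1 := by
    have h3 : c ≠ 0 := by
      rintro rfl
      omega
    have h4 : c < 2 := by
      by_contra h5
      have : Nat.card (D.W P Q) * 2 ≤ Nat.card (D.W P Q) * c := Nat.mul_le_mul_left _ (by omega)
      omega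
    omega
  rw [hc1, mul_one] at hc
  have h3 : D.W P Q = D.Z P := Subgroup.eq_of_le_of_card_ge inf_le_left (by rw [hc])
  apply hPQ
  symm
  apply Z_fix N hf
  intro z hz
  rw [← h3] at hz
  exact D.K_le hz.2.1

theorem W_card_eq {P Q P' Q' : X} (hPQ : P ≠ Q) (hadj : ¬ D.Adj P Q) (hPQ' : P' ≠ Q') (hadj' : ¬ D.Adj P' Q') :
    Nat.card (D.W P Q) = Nat.card (D.W P' Q') := by
  have h1 := claimB N hf hne hPQ hadj
  have h2 := claimB N hf hne hPQ' hadj'
  have h3 := card_Z_eq N P P'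
  omega

/-- **Claim C** -/
theorem claimC {P Q R : X} (hQ1 : P ≠ Q) (hQ2 : ¬ D.Adj P Q) (hR1 : P ≠ R) (hR2 : ¬ D.Adj P R)
    (hW : D.W P Q ≠ D.W P R) : D.W P Q ⊓ D.W P R = ⊥ := by
  by_contra hcon
  obtain ⟨⟨z, hzQ, hzR⟩, hz1⟩ := Subgroup.ne_bot_iff_exists_ne_one.1 hcon
  have hz1 : z ≠ 1 := fun h => hz1 (Subtype.ext h)
  have hQR : ¬ D.Adj Q R := N.clique hzQ.1.1 hz1 (D.K_le hzQ.2.1) (D.K_le hzR.2.1)
  have hneQR : Q ≠ R := by
    rintro rfl
    exact hW rfl
  obtain ⟨y, hy, hyP⟩ : ∃ y ∈ D.W Q R, y • P ≠ P := by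
    by_contra hcon'
    push Not at hcon'
    have h1 : D.W Q R ≤ D.W P Q := fun y hy => ⟨claimA N hf hy.1 (hcon' y hy), hy.1⟩
    have h2 : D.W Q R ≤ D.W P R := fun y hy => ⟨claimA N hf hy.1 (hcon' y hy), hy.2⟩
    have h3 := Subgroup.eq_of_le_of_card_ge h1 (by rw [W_card_eq N hf hne hQ1 hQ2 hneQR hQR])
    have h4 := Subgroup.eq_of_le_of_card_ge h2 (by rw [W_card_eq N hf hne hR1 hR2 hneQR hQR])
    exact hW (h3.symm.trans h4)
  -- the centralizer of `y` in `Z P`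
  have h1 : D.W P Q ≤ D.Z P ⊓ centralizer {y} := by
    intro x hx
    exact Subgroup.mem_inf.2 ⟨hx.1, mem_centralizer_singleton_iff.2 (hx.2.2.2 y hy.1.1)⟩
  have h2 : D.W P R ≤ D.Z P ⊓ centralizer {y} := by
    intro x hx
    exact Subgroup.mem_inf.2 ⟨hx.1, mem_centralizer_singleton_iff.2 (hx.2.2.2 y hy.2.1)⟩
  have h3 : D.Z P ⊓ centralizer {y} = D.Z P := by
    apply Subgroup.eq_of_le_of_card_ge inf_le_left
    obtain ⟨c, hc⟩ : Nat.card (D.W P Q) ∣ Nat.card ↥(D.Z P ⊓ centralizer {y}) := Subgroup.card_dvd_of_le h1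
    have h4 := claimB N hf hne hQ1 hQ2
    have h5 : c ≠ 1 := by
      rintro rfl
      rw [mul_one] at hc
      apply hW
      have h6 := Subgroup.eq_of_le_of_card_ge h1 (by rw [hc])
      have h7 := Subgroup.eq_of_le_of_card_ge h2 (by rw [hc, W_card_eq N hf hne hQ1 hQ2 hR1 hR2])
      exact h6.trans h7.symm
    have h6 : c ≠ 0 := by
      rintro rfl
      have : 0 < Nat.card ↥(D.Z P ⊓ centralizer {y}) := Nat.card_pos
      omega
    have h7 : Nat.card (D.W P Q) * 2 ≤ Nat.card (D.W P Q) * c := Nat.mul_le_mul_left _ (by omega)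
    rw [h4, hc]
    omega
  apply hyP
  apply Z_fix N hf
  intro z hz
  rw [← h3] at hz
  have h8 := mem_centralizer_singleton_iff.1 hz.2
  rw [← mul_smul, h8, mul_smul, D.K_le hz.1.1]

/-- the structure of the groups `Z P` -/
theorem Z_card : (∀ P, Nat.card (D.Z P) = 4) ∧ (∀ {P Q : X}, P ≠ Q → ¬ D.Adj P Q → Nat.card (D.W P Q) = 2) ∧ f = 3 := by
  have hne' : Nonempty X := by
    have h1 := N.cX
    have h2 := N.sum
    exact (Nat.card_pos_iff.1 (by omega)).1
  obtain ⟨P⟩ := hne'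
  obtain ⟨Q, R, hQ1, hQ2, hR1, hR2, hQR⟩ := D.blN P
  have hZf : f ∣ Nat.card (D.Z P) - 1 := by
    have h1 := dvd_pred N P (fun x => x ∈ D.Z P) (fun g x hg hx => Dat.conj_Z' hg hx)
    have h2 := card_erase (fun x : G => x ∈ D.Z P) (a := 1) (one_mem _)
    have h3 : Nat.card {x : G // x ∈ D.Z P ∧ 1 ≠ x} = Nat.card {x : G // x ∈ D.K P ∧ x ≠ 1 ∧ x ∈ D.Z P} := by
      refine Nat.card_congr (Equiv.subtypeEquivRight fun x => ?_)
      constructor
      · rintro ⟨h4, h5⟩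
        exact ⟨h4.1, h5.symm, h4⟩
      · rintro ⟨h4, h5, h6⟩
        exact ⟨h6, h5.symm⟩
    have h4 : Nat.card {x : G // x ∈ D.Z P} = Nat.card (D.Z P) := rfl
    rw [h4, h3] at h2
    rw [h2, Nat.add_sub_cancel]
    exact h1
  have hf2 := N.f2
  have hB := claimB N hf hne hQ1 hQ2
  have hw0 : 0 < Nat.card (D.W P Q) := Nat.card_pos
  have hw1 : Nat.card (D.W P Q) ≠ 1 := by
    intro h
    rw [hB, h] at hZf
    have := Nat.le_of_dvd (by norm_num) hZf
    omega
  have hWne : D.W P Q ≠ D.W P R := by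
    intro h
    obtain ⟨z, hz, hz1⟩ : ∃ z ∈ D.W P Q, z ≠ 1 := by
      have h1 : D.W P Q ≠ ⊥ := by
        intro h1
        rw [h1, Subgroup.card_bot] at hw1
        exact hw1 rfl
      obtain ⟨y, hy⟩ := (D.W P Q).ne_bot_iff_exists_ne_one.1 h1
      exact ⟨y.1, y.2, fun h => hy (Subtype.ext h)⟩
    have hz' := hz
    rw [h] at hz'
    exact N.clique hz.1.1 hz1 (D.K_le hz.2.1) (D.K_le hz'.2.1) hQR
  have hC := claimC N hf hne hQ1 hQ2 hR1 hR2 hWne
  have hw2 : Nat.card (D.W P Q) = 2 := by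
    have h1 : Nat.card (D.W P Q) * Nat.card (D.W P R) ≤ Nat.card (D.Z P) := by
      rw [← Nat.card_prod]
      refine Nat.card_le_card_of_injective (fun a : D.W P Q × D.W P R => (⟨a.1.1 * a.2.1, mul_mem a.1.2.1 a.2.2.1⟩ : D.Z P)) ?_
      rintro ⟨⟨a, ha⟩, ⟨b, hb⟩⟩ ⟨⟨a', ha'⟩, ⟨b', hb'⟩⟩ h
      have h : a * b = a' * b' := congrArg Subtype.val h
      have h2 : a'⁻¹ * a = b' * b⁻¹ := by
        rw [inv_mul_eq_iff_eq_mul, ← mul_assoc, ← h, mul_inv_cancel_right]
      have h3 : a'⁻¹ * a ∈ D.W P Q ⊓ D.W P R := by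
        refine Subgroup.mem_inf.2 ⟨(D.W P Q).mul_mem ((D.W P Q).inv_mem ha') ha, ?_⟩
        rw [h2]
        exact (D.W P R).mul_mem hb' ((D.W P R).inv_mem hb)
      rw [hC, mem_bot] at h3
      have h4 : a = a' := (inv_mul_eq_one.1 h3).symm
      subst h4
      have h5 : b = b' := mul_left_cancel h
      subst h5
      rfl
    rw [hB, W_card_eq N hf hne hR1 hR2 hQ1 hQ2] at h1
    have h2 := Nat.le_of_mul_le_mul_right h1 hw0
    omega
  have hZ4 : Nat.card (D.Z P) = 4 := by rw [hB, hw2]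
  refine ⟨fun R => by rw [← hZ4, card_Z_eq N R P], fun h1 h2 => by rw [← hw2, W_card_eq N hf hne h1 h2 hQ1 hQ2], ?_⟩
  rw [hZ4] at hZf
  rcases (Nat.dvd_prime Nat.prime_three).1 hZf with h | h <;> omega

theorem odd_line : False := by
  obtain ⟨hZ4, hW2, hf3⟩ := Z_card N hf hne
  have hne' : Nonempty X := by
    have h1 := N.cX
    have h2 := N.sum
    exact (Nat.card_pos_iff.1 (by omega)).1
  obtain ⟨P⟩ := hne'
  obtain ⟨C, hC1, hC2⟩ := D.exN P
  obtain ⟨j, hj⟩ := N.exists_j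
  have hl1 := N.l1
  -- `d = j`
  have hdj : d = j := by
    rw [← N.sN hC1 hC2, ← hj hC1 hC2]
    refine Nat.card_congr (Equiv.subtypeEquivRight fun e => ?_)
    constructor
    · rintro ⟨h1, h2⟩
      rw [N.mem_L]
      refine ⟨?_, h2⟩
      obtain ⟨z, hz, hz1⟩ : ∃ z ∈ D.W P C, z ≠ 1 := by
        have h3 : D.W P C ≠ ⊥ := by
          intro h3
          have := hW2 hC1 hC2
          rw [h3, Subgroup.card_bot] at this
          omega
        obtain ⟨y, hy⟩ := (D.W P C).ne_bot_iff_exists_ne_one.1 h3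
        exact ⟨y.1, y.2, fun h => hy (Subtype.ext h)⟩
      refine D.comm_mem hz.1.1 hz1 h1 ?_
      have h3 : e * z * e⁻¹ ∈ D.W P C := ⟨Dat.conj_Z' h1 hz.1, Dat.conj_Z' h2 hz.2⟩
      have h4 : e * z * e⁻¹ ≠ 1 := by
        intro h4
        apply hz1
        have : z = e⁻¹ * (e * z * e⁻¹) * e := by group
        rw [this, h4]
        group
      have h5 := two_unique (hW2 hC1 hC2) h3 hz h4 hz1
      rwa [mul_inv_eq_iff_eq_mul] at h5
    · intro h
      exact ⟨D.K_le h.1, D.K_le h.2⟩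
  have hexz : ∀ {P Q : X}, P ≠ Q → ¬ D.Adj P Q → ∃ z ∈ D.W P Q, z ≠ 1 := by
    intro P Q h1 h2
    have h3 : D.W P Q ≠ ⊥ := by
      intro h3
      have := hW2 h1 h2
      rw [h3, Subgroup.card_bot] at this
      omega
    obtain ⟨y, hy⟩ := (D.W P Q).ne_bot_iff_exists_ne_one.1 h3
    exact ⟨y.1, y.2, fun h => hy (Subtype.ext h)⟩
  have hZ3 : ∀ R : X, Nat.card {x : G // x ∈ D.Z R ∧ x ≠ 1} = 3 := by
    intro R
    have h2 := card_erase (fun x : G => x ∈ D.Z R) (a := 1) (one_mem _)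
    have h3 : Nat.card {x : G // x ∈ D.Z R ∧ 1 ≠ x} = Nat.card {x : G // x ∈ D.Z R ∧ x ≠ 1} :=
      Nat.card_congr (Equiv.subtypeEquivRight fun x => by rw [ne_comm])
    have h4 : Nat.card {x : G // x ∈ D.Z R} = Nat.card (D.Z R) := rfl
    rw [h4, h3, hZ4] at h2
    omega
  -- `ω`
  obtain ⟨z₀, hz₀, hz₀1⟩ := exists_Z N hf P
  obtain ⟨ω, hω⟩ : ∃ ω, Nat.card {Q : X // z₀ • Q = Q} = ω := ⟨_, rfl⟩
  have hfixconj : ∀ g x : G, Nat.card {Q : X // (g * x * g⁻¹) • Q = Q} = Nat.card {Q : X // x • Q = Q} := by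
    intro g x
    refine (Nat.card_congr ((MulAction.toPerm g).subtypeEquiv ?_)).symm
    intro Q
    rw [MulAction.toPerm_apply, mul_smul, mul_smul, inv_smul_smul, (MulAction.injective g).eq_iff]
  have hωP : ∀ z ∈ D.Z P, z ≠ 1 → Nat.card {Q : X // z • Q = Q} = ω := by
    intro z hz hz1
    have h1 := dvd_pred N P (fun x => x ∈ D.Z P ∧ Nat.card {Q : X // x • Q = Q} = ω) (by
      rintro g x hg ⟨h1, h2⟩
      exact ⟨Dat.conj_Z' hg h1, by rw [hfixconj, h2]⟩)
    have h2 : Nat.card {x : G // x ∈ D.K P ∧ x ≠ 1 ∧ x ∈ D.Z P ∧ Nat.card {Q : X // x • Q = Q} = ω} =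
        Nat.card {x : G // (x ∈ D.Z P ∧ x ≠ 1) ∧ Nat.card {Q : X // x • Q = Q} = ω} := by
      refine Nat.card_congr (Equiv.subtypeEquivRight fun x => ?_)
      constructor
      · rintro ⟨-, h3, h4, h5⟩
        exact ⟨⟨h4, h3⟩, h5⟩
      · rintro ⟨⟨h3, h4⟩, h5⟩
        exact ⟨h3.1, h4, h3, h5⟩
    rw [h2, hf3] at h1
    have h3 := card_split (fun x : G => x ∈ D.Z P ∧ x ≠ 1) (fun x => Nat.card {Q : X // x • Q = Q} = ω)
    rw [hZ3] at h3
    have h4 : 0 < Nat.card {x : G // (x ∈ D.Z P ∧ x ≠ 1) ∧ Nat.card {Q : X // x • Q = Q} = ω} := by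
      have : Nonempty {x : G // (x ∈ D.Z P ∧ x ≠ 1) ∧ Nat.card {Q : X // x • Q = Q} = ω} := ⟨⟨z₀, ⟨hz₀, hz₀1⟩, hω⟩⟩
      exact Nat.card_pos
    have h5 := Nat.le_of_dvd h4 h1
    have h6 : Nat.card {x : G // (x ∈ D.Z P ∧ x ≠ 1) ∧ ¬ Nat.card {Q : X // x • Q = Q} = ω} = 0 := by omega
    by_contra hcon
    rw [Nat.card_eq_zero] at h6
    rcases h6 with h6 | h6
    · exact h6.elim ⟨z, ⟨hz, hz1⟩, hcon⟩
    · exact not_finite {x : G // (x ∈ D.Z P ∧ x ≠ 1) ∧ ¬ Nat.card {Q : X // x • Q = Q} = ω}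
  have hωR : ∀ (R : X) (z : G), z ∈ D.Z R → z ≠ 1 → Nat.card {Q : X // z • Q = Q} = ω := by
    intro R z hz hz1
    obtain ⟨g, hg⟩ := D.tr R P
    have h1 := Dat.conj_mem_Z hz g
    rw [hg] at h1
    rw [← hfixconj g z]
    apply hωP _ h1
    intro h4
    apply hz1
    have : z = g⁻¹ * (g * z * g⁻¹) * g := by group
    rw [this, h4]
    group
  -- `3 (ω - 1) = l`
  have hfixP : ∀ z ∈ D.Z P, z ≠ 1 → Nat.card {Q : X // (P ≠ Q ∧ ¬ D.Adj P Q) ∧ z • Q = Q} = ω - 1 := by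
    intro z hz hz1
    have h1 := card_erase (fun Q : X => z • Q = Q) (a := P) (D.K_le hz.1)
    rw [hωP z hz hz1] at h1
    have h2 : Nat.card {Q : X // z • Q = Q ∧ P ≠ Q} = Nat.card {Q : X // (P ≠ Q ∧ ¬ D.Adj P Q) ∧ z • Q = Q} := by
      refine Nat.card_congr (Equiv.subtypeEquivRight fun Q => ?_)
      constructor
      · rintro ⟨h3, h4⟩
        exact ⟨⟨h4, N.clique hz.1 hz1 (D.K_le hz.1) h3⟩, h3⟩
      · rintro ⟨⟨h3, -⟩, h4⟩
        exact ⟨h4, h3⟩
    omega
  have hl : 3 * (ω - 1) = l := by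
    have h := dc (α := {z : G // z ∈ D.Z P ∧ z ≠ 1}) (β := {Q // P ≠ Q ∧ ¬ D.Adj P Q}) (fun z Q => z.1 • Q.1 = Q.1)
      (x := ω - 1) (y := 1) ?_ ?_
    · rw [hZ3, N.cN, mul_one] at h
      exact h
    · rintro ⟨z, hz, hz1⟩
      rw [← hfixP z hz hz1]
      exact Nat.card_congr ⟨fun Q => ⟨Q.1.1, Q.1.2, Q.2⟩, fun Q => ⟨⟨Q.1, Q.2.1⟩, Q.2.2⟩, fun _ => rfl, fun _ => rfl⟩
    · rintro ⟨Q, hQ1, hQ2⟩
      rw [Nat.card_eq_one_iff_unique]
      obtain ⟨z, hz, hz1⟩ := hexz hQ1 hQ2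
      refine ⟨⟨?_⟩, ⟨⟨⟨z, hz.1, hz1⟩, D.K_le hz.2.1⟩⟩⟩
      rintro ⟨⟨a, ha, ha1⟩, haQ⟩ ⟨⟨b, hb, hb1⟩, hbQ⟩
      apply Subtype.ext
      apply Subtype.ext
      exact two_unique (hW2 hQ1 hQ2) ((mem_W N hf).2 ⟨ha, haQ⟩) ((mem_W N hf).2 ⟨hb, hbQ⟩) ha1 hb1
  have hω2 : 2 ≤ ω := by omega
  -- elements with fixed points in the class of `z₀`
  have hTfix : ∀ {R S : X} {t : G}, t ∈ D.Z R → t • S = S → t ∈ D.Z S := fun h1 h2 => claimA N hf h1 h2
  -- parity
  have hpar : ∀ (t : G) (p : X → Prop), t * t = 1 → (∀ Q, p Q → p (t • Q)) → (∀ Q, p Q → t • Q ≠ Q) → t ≠ 1 →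
      2 ∣ Nat.card {Q // p Q} := by
    intro t p ht hp hnf ht1
    have h1 : Nat.card (Subgroup.zpowers t) = 2 := by
      rw [Nat.card_zpowers]
      exact orderOf_eq_prime (by rw [pow_two, ht]) ht1
    have hcases : ∀ g ∈ Subgroup.zpowers t, g = 1 ∨ g = t := by
      intro g hg
      by_cases hg1 : g = 1
      · exact Or.inl hg1
      · exact Or.inr (two_unique h1 hg (Subgroup.mem_zpowers t) hg1 ht1)
    rw [← h1]
    apply free_dvd
    · intro g hg Q hQ
      rcases hcases g hg with rfl | rfl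
      · rwa [one_smul]
      · exact hp Q hQ
    · intro g hg Q hQ h
      rcases hcases g hg with rfl | rfl
      · rfl
      · exact absurd h (hnf Q hQ)
  have hodd : 2 ∣ ω - 1 := by
    obtain ⟨z₁, hz₁, hz₁1, hz₁z₀⟩ : ∃ z₁ ∈ D.Z P, z₁ ≠ 1 ∧ z₁ ≠ z₀ := by
      by_contra hcon
      push Not at hcon
      have h1 : Nat.card {x : G // x ∈ D.Z P ∧ x ≠ 1} ≤ 1 := by
        rw [Finite.card_le_one_iff_subsingleton]
        refine ⟨?_⟩
        rintro ⟨a, ha, ha1⟩ ⟨b, hb, hb1⟩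
        exact Subtype.ext ((hcon a ha ha1).trans (hcon b hb hb1).symm)
      rw [hZ3] at h1
      omega
    rw [← hfixP z₀ hz₀ hz₀1]
    refine hpar z₁ _ hz₁.2.1 ?_ ?_ hz₁1
    · rintro Q ⟨⟨h1, h2⟩, h3⟩
      have h4 : z₁ • P = P := D.K_le hz₁.1
      have h5 : z₀ • z₁ • Q = z₁ • Q := by
        rw [← mul_smul, hz₀.2.2 z₁ hz₁.1, mul_smul, h3]
      refine ⟨⟨fun h => h1 (smul_left_cancel z₁ (h4.trans h)), fun h => h2 ?_⟩, h5⟩
      rw [← D.adj_smul_iff z₁, h4]
      exact h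
    · rintro Q ⟨⟨h1, h2⟩, h3⟩ h4
      exact hz₁z₀ (two_unique (hW2 h1 h2) ((mem_W N hf).2 ⟨hz₁, h4⟩) ((mem_W N hf).2 ⟨hz₀, h3⟩) hz₁1 hz₀1)
  obtain ⟨v, hv⟩ : ∃ v, ω = 2 * v + 1 := by
    obtain ⟨v, hv⟩ := hodd
    exact ⟨v, by omega⟩
  have hv1 : 1 ≤ v := by omega
  -- count 2
  have hTP : ∀ R : X, Nat.card {t : G // (∃ S : X, t ∈ D.Z S ∧ t ≠ 1) ∧ t • R = R} = 3 := by
    intro R
    rw [← hZ3 R]
    refine Nat.card_congr (Equiv.subtypeEquivRight fun t => ?_)
    constructor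
    · rintro ⟨⟨S, h1, h2⟩, h3⟩
      exact ⟨hTfix h1 h3, h2⟩
    · rintro ⟨h1, h2⟩
      exact ⟨⟨R, h1, h2⟩, D.K_le h1.1⟩
  have c2 : Nat.card {t : G // ∃ S : X, t ∈ D.Z S ∧ t ≠ 1} * ω = n * 3 := by
    rw [← N.cX]
    refine dc (α := {t : G // ∃ S : X, t ∈ D.Z S ∧ t ≠ 1}) (β := X) (fun t Q => t.1 • Q = Q) ?_ ?_
    · rintro ⟨t, S, ht, ht1⟩
      exact hωR S t ht ht1
    · intro Q
      rw [← hTP Q]
      exact Nat.card_congr ⟨fun t => ⟨t.1.1, t.1.2, t.2⟩, fun t => ⟨⟨t.1, t.2.1⟩, t.2.2⟩, fun t => rfl, fun t => rfl⟩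
  -- count 3
  obtain ⟨ι, ι', hι1, hι2, hι3⟩ := card_move2 N P (fun t => ∃ S : X, t ∈ D.Z S ∧ t ≠ 1) (by
    rintro g t ⟨S, hS, ht1⟩
    refine ⟨_, Dat.conj_mem_Z hS g, ?_⟩
    intro h4
    apply ht1
    have : t = g⁻¹ * (g * t * g⁻¹) * g := by group
    rw [this, h4]
    group)
  rw [hTP P] at hι3
  -- the elements commuting with `z₀`
  have hswap : ∀ {Q : X} {t : G}, z₀ • Q = Q → P ≠ Q → (∃ S : X, t ∈ D.Z S ∧ t ≠ 1) → t • P = Q →
      t * z₀ = z₀ * t ∧ t ≠ z₀ := by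
    rintro Q t hzQ hPQ ⟨S, hS, ht1⟩ htP
    have htQ : t • Q = P := by rw [← htP, ← mul_smul, hS.2.1, one_smul]
    have hadj := N.clique hz₀.1 hz₀1 (D.K_le hz₀.1) hzQ
    have hzW : z₀ ∈ D.W P Q := (mem_W N hf).2 ⟨hz₀, hzQ⟩
    have h1 := Dat.conj_mem_Z hzW.1 t
    have h2 := Dat.conj_mem_Z hzW.2 t
    rw [htP] at h1
    rw [htQ] at h2
    have h3 : t * z₀ * t⁻¹ ≠ 1 := by
      intro h4
      apply hz₀1
      have : z₀ = t⁻¹ * (t * z₀ * t⁻¹) * t := by group
      rw [this, h4]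
      group
    refine ⟨?_, ?_⟩
    · have h5 := two_unique (hW2 hPQ hadj) (Subgroup.mem_inf.2 ⟨h2, h1⟩) hzW h3 hz₀1
      rwa [mul_inv_eq_iff_eq_mul] at h5
    · rintro rfl
      apply hPQ
      rw [← htP, D.K_le hz₀.1]
  have hZtwo : ∀ R : X, z₀ ∈ D.Z R → Nat.card {t : G // (t ∈ D.Z R ∧ t ≠ 1) ∧ z₀ ≠ t} = 2 := by
    intro R hR
    have h1 := card_erase (fun t : G => t ∈ D.Z R ∧ t ≠ 1) (a := z₀) ⟨hR, hz₀1⟩
    rw [hZ3] at h1
    omega
  have hdiff : ∀ {R S : X} {t : G}, R ≠ S → z₀ • R = R → z₀ • S = S → (∃ S : X, t ∈ D.Z S ∧ t ≠ 1) → t • R = R →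
      t • S = S → t = z₀ := by
    rintro R S t hRS hzR hzS ⟨T, hT, ht1⟩ htR htS
    have h1 : z₀ ∈ D.Z R := claimA N hf hz₀ hzR
    have hadj := N.clique h1.1 hz₀1 hzR hzS
    exact two_unique (hW2 hRS hadj) ((mem_W N hf).2 ⟨hTfix hT htR, htS⟩) ((mem_W N hf).2 ⟨h1, hzS⟩) ht1 hz₀1
  have hA1 : Nat.card {t : G // (∃ S : X, t ∈ D.Z S ∧ t ≠ 1) ∧ t * z₀ = z₀ * t ∧ t ≠ z₀} * 1 = ω * 2 := by
    rw [← hω]
    refine dc (α := {t : G // (∃ S : X, t ∈ D.Z S ∧ t ≠ 1) ∧ t * z₀ = z₀ * t ∧ t ≠ z₀}) (β := {Q : X // z₀ • Q = Q})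
      (fun t Q => t.1 • Q.1 = Q.1) ?_ ?_
    · rintro ⟨t, ⟨S, hS, ht1⟩, htz, htz'⟩
      rw [Nat.card_eq_one_iff_unique]
      refine ⟨⟨?_⟩, ?_⟩
      · rintro ⟨⟨a, ha⟩, ha'⟩ ⟨⟨b, hb⟩, hb'⟩
        apply Subtype.ext
        apply Subtype.ext
        show a = b
        by_contra hab
        exact htz' (hdiff hab ha hb ⟨S, hS, ht1⟩ ha' hb')
      · by_contra hcon
        rw [not_nonempty_iff] at hcon
        have h1 := hpar t (fun Q => z₀ • Q = Q) hS.2.1 (by
          intro Q hQ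
          rw [← mul_smul, ← htz, mul_smul, hQ]) (by
          intro Q hQ hQ'
          exact hcon.elim ⟨⟨Q, hQ⟩, hQ'⟩) ht1
        rw [hω, hv] at h1
        omega
    · rintro ⟨R, hR⟩
      have hzR := claimA N hf hz₀ hR
      rw [← hZtwo R hzR]
      refine Nat.card_congr ⟨fun t => ⟨t.1.1, ?_⟩, fun t => ⟨⟨t.1, ?_⟩, D.K_le t.2.1.1.1⟩, fun t => rfl, fun t => rfl⟩
      · obtain ⟨⟨t, ⟨S, hS, ht1⟩, htz, htz'⟩, htR⟩ := t
        exact ⟨⟨hTfix hS htR, ht1⟩, fun h => htz' h.symm⟩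
      · obtain ⟨t, ⟨h1, h2⟩, h3⟩ := t
        exact ⟨⟨R, h1, h2⟩, h1.2.2 z₀ hzR.1, fun h => h3 h.symm⟩
  have hA2 := card_split (fun t : G => (∃ S : X, t ∈ D.Z S ∧ t ≠ 1) ∧ t * z₀ = z₀ * t ∧ t ≠ z₀) (fun t => t • P = P)
  have hA3 : Nat.card {t : G // ((∃ S : X, t ∈ D.Z S ∧ t ≠ 1) ∧ t * z₀ = z₀ * t ∧ t ≠ z₀) ∧ t • P = P} = 2 := by
    rw [← hZtwo P hz₀]
    refine Nat.card_congr (Equiv.subtypeEquivRight fun t => ?_)
    constructor
    · rintro ⟨⟨⟨S, hS, ht1⟩, htz, htz'⟩, htP⟩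
      exact ⟨⟨hTfix hS htP, ht1⟩, fun h => htz' h.symm⟩
    · rintro ⟨⟨h1, h2⟩, h3⟩
      exact ⟨⟨⟨P, h1, h2⟩, h1.2.2 z₀ hz₀.1, fun h => h3 h.symm⟩, D.K_le h1.1⟩
  have hA4 : Nat.card {t : G // ((∃ S : X, t ∈ D.Z S ∧ t ≠ 1) ∧ t * z₀ = z₀ * t ∧ t ≠ z₀) ∧ ¬ t • P = P} * 1 =
      (ω - 1) * ι' := by
    rw [← hfixP z₀ hz₀ hz₀1]
    refine dc (α := {t : G // ((∃ S : X, t ∈ D.Z S ∧ t ≠ 1) ∧ t * z₀ = z₀ * t ∧ t ≠ z₀) ∧ ¬ t • P = P})
      (β := {Q : X // (P ≠ Q ∧ ¬ D.Adj P Q) ∧ z₀ • Q = Q}) (fun t Q => t.1 • P = Q.1) ?_ ?_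
    · rintro ⟨t, ⟨⟨S, hS, ht1⟩, htz, htz'⟩, htP⟩
      rw [Nat.card_eq_one_iff_unique]
      have h1 : z₀ • (t • P) = t • P := by
        rw [← mul_smul, ← htz, mul_smul, D.K_le hz₀.1]
      exact ⟨⟨fun a b => Subtype.ext (Subtype.ext (a.2.symm.trans b.2))⟩,
        ⟨⟨⟨t • P, ⟨fun h => htP h.symm, N.clique hz₀.1 hz₀1 (D.K_le hz₀.1) h1⟩, h1⟩, rfl⟩⟩⟩
    · rintro ⟨Q, ⟨hQ1, hQ2⟩, hQ3⟩
      rw [← hι2 Q hQ1 hQ2]
      refine Nat.card_congr ⟨fun t => ⟨t.1.1, t.1.2.1.1, t.2⟩, fun t => ⟨⟨t.1, ⟨t.2.1, hswap hQ3 hQ1 t.2.1 t.2.2⟩, ?_⟩,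
        t.2.2⟩, fun t => rfl, fun t => rfl⟩
      intro h
      exact hQ1 (h.symm.trans t.2.2)
  -- arithmetic
  have hω1 : ω - 1 = 2 * v := by omega
  rw [hω1] at hA4 hl
  have hι'2 : ι' = 2 := by
    have h1 : 2 * v * ι' = 2 * v * 2 := by omega
    exact Nat.eq_of_mul_eq_mul_left (by omega) h1
  have hk : k = j * (2 * v) := by
    have h1 := N.cS'
    rw [hf3, hdj, ← hl] at h1
    have h2 : 3 * k = 3 * (j * (2 * v)) := by
      calc 3 * k = k * 3 := by ring
        _ = _ := by rw [h1]; ring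
    omega
  have hsum := N.sum
  have hkey : (2 * v + 1) * (j * ι + 6) = 3 * j + 6 := by
    have h1 : (2 * v) * ((2 * v + 1) * (j * ι + 6)) = (2 * v) * (3 * j + 6) := by
      rw [hι3, hv, hι'2, hsum, ← hl, hk] at c2
      have e1 : (3 + j * (2 * v) * ι + 3 * (2 * v) * 2) * (2 * v + 1) = 3 + 6 * v + (2 * v) * ((2 * v + 1) * (j * ι + 6)) := by ring
      have e2 : (1 + j * (2 * v) + 3 * (2 * v)) * 3 = 3 + 6 * v + (2 * v) * (3 * j + 6) := by ring
      omega
    exact Nat.eq_of_mul_eq_mul_left (by omega) h1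
  rcases Nat.eq_zero_or_pos ι with hι0 | hι0
  · rw [hι0, mul_zero, zero_add] at hkey
    have hj4 : j = 4 * v := by omega
    have hk1 := N.dvd
    have hk2 := N.k2
    rw [hf3] at hk1
    have h1 : k = 8 * (v * v) := by rw [hk, hj4]; ring
    have h2 : v % 3 = 0 ∨ v % 3 = 1 ∨ v % 3 = 2 := by omega
    have h3 : (v * v) % 3 = 0 ∨ (v * v) % 3 = 1 := by
      rw [Nat.mul_mod]
      rcases h2 with h | h | h <;> rw [h] <;> norm_num
    omega
  · have h1 : j * 1 ≤ j * ι := Nat.mul_le_mul_left _ hι0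
    have h2 : 3 * (j * ι + 6) ≤ (2 * v + 1) * (j * ι + 6) := Nat.mul_le_mul_right _ (by omega)
    omega

end

end Cfsg.Agent.H90.R3
end

-- part: S2207
section
set_option autoImplicit false
open Cfsg

namespace Cfsg.Agent.S2207

open H90.R3 in
/-- the possible parameters -/
theorem params {G X : Type*} [Group G] [Finite G] [Fintype X] [MulAction G X] {D : Dat G X} {n k l f d : ℕ}
    (N : Num D n k l f d) : (n = 10 ∧ k = 3 ∧ f = 2) ∨ (n = 16 ∧ k = 5 ∧ f = 4) ∨ (n = 16 ∧ k = 9 ∧ f = 4) := by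
  classical
  by_cases hf : Even f
  · by_cases hD : ∀ {P Q : X} {x : G}, x ∈ D.K P → x • Q = Q → P ≠ Q → x = 1
    · by_cases hd : Even d
      · exact Or.inr (Or.inl (free_even N hf hD hd))
      · exact Or.inl (free_odd N hf hD (Nat.not_even_iff_odd.1 hd))
    · push Not at hD
      obtain ⟨P, Q, x, hx, hxQ, hPQ, hx1⟩ := hD
      exact Or.inr (Or.inr (line_even N hf hx hxQ hPQ hx1))
  · exfalso
    by_cases hD : ∀ {P Q : X} {x : G}, x ∈ D.K P → x • Q = Q → P ≠ Q → x = 1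
    · exact odd_free N hf hD
    · push Not at hD
      obtain ⟨P, Q, x, hx, hxQ, hPQ, hx1⟩ := hD
      refine odd_line N hf ?_
      have hadj := N.clique hx hx1 (D.K_le hx) hxQ
      obtain ⟨j, hj⟩ := N.exists_j
      have hj2 : 2 ≤ j := by
        rw [← hj hPQ hadj]
        have : Nontrivial (D.L P Q) := ⟨⟨⟨x, hx, N.fix_mem hx hxQ⟩, 1, fun h => hx1 (congrArg Subtype.val h)⟩⟩
        exact Finite.one_lt_card
      intro P Q h1 h2 h3
      have h4 := hj h1 h2
      rw [h3, Subgroup.card_bot] at h4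
      omega

theorem exists_min_normal (G : Type*) [Group G] [Finite G] [Nontrivial G] :
    ∃ N : Subgroup G, N.Normal ∧ N ≠ ⊥ ∧ ∀ M : Subgroup G, M.Normal → M ≤ N → M = ⊥ ∨ M = N := by
  let S : Set (Subgroup G) := {N | N.Normal ∧ N ≠ ⊥}
  have hS : S.Nonempty := ⟨⊤, inferInstance, top_ne_bot⟩
  obtain ⟨N, hN⟩ := S.toFinite.exists_minimal hS
  refine ⟨N, hN.prop.1, hN.prop.2, ?_⟩
  intro M hM hMN
  by_cases h : M = ⊥
  · exact Or.inl h
  · exact Or.inr (le_antisymm hMN (hN.le_of_le ⟨hM, h⟩ hMN))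

theorem regular {G X : Type*} [Group G] [Finite G] [Fintype X] [MulAction G X] [FaithfulSMul G X] [Nonempty X]
    (hprim : MulAction.IsPreprimitive G X) (hs : Group.IsSolvable G) (hX : 1 < Nat.card X) :
    ∃ N : Subgroup G, N.Normal ∧ Nat.card N = Nat.card X ∧ (∀ x y : X, ∃! n : ↥N, (n : G) • x = y) ∧
      ∃ p d : ℕ, p.Prime ∧ Nat.card X = p ^ d := by
  have hnt : Nontrivial G := by
    by_contra hcon
    rw [not_nontrivial_iff_subsingleton] at hcon
    have : Nontrivial X := Finite.one_lt_card_iff_nontrivial.1 hX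
    obtain ⟨x, y, hxy⟩ := exists_pair_ne X
    obtain ⟨g, hg⟩ := MulAction.exists_smul_eq G x y
    apply hxy
    rw [← hg, Subsingleton.elim g 1, one_smul]
  obtain ⟨M, hM, hM1, hmin⟩ := exists_min_normal G
  obtain ⟨h1, h2, p, d, hp, hd, h3, h4⟩ := S0547.result hprim M hM1 hmin
  refine ⟨M, hM, h4.trans h3.symm, ?_, p, d, hp, h3⟩
  intro x y
  obtain ⟨m, hm⟩ := h1.exists_smul_eq x y
  refine ⟨m, hm, ?_⟩
  intro m' hm'
  have h5 : m⁻¹ * m' ∈ MulAction.stabilizer M x := by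
    rw [MulAction.mem_stabilizer_iff, mul_smul]
    have : m' • x = y := hm'
    rw [this, ← hm, inv_smul_smul]
  rw [h2, Subgroup.mem_bot] at h5
  exact (inv_mul_eq_one.1 h5).symm

/-- Primitive rank 3 groups whose point stabilizer acts as a Frobenius group on one of its two non-trivial orbits. Let a finite group G of even order act faithfully and primitively on a finite set X so that the stabilizer of a point A has exactly three orbits, and suppose that on one of its non-trivial orbits I the stabilizer of A acts faithfully as a Frobenius group: transitively, some non-identity element fixing a point of I, and no non-identity element fixing two points of I. Then either G ≅ A₅ and X has 10 points (the action on unordered pairs), or G is solvable and has a normal subgroup of order 16 acting regularly on X. -/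
theorem result {G X : Type*} [Group G] [Finite G] [Fintype X] [MulAction G X] [FaithfulSMul G X] (heven : Even (Nat.card G)) (hprim : MulAction.IsPreprimitive G X) (A : X)
    (h3 : Nat.card (MulAction.orbitRel.Quotient ↥(MulAction.stabilizer G A) X) = 3) (B : X) (hBA : B ≠ A)
    (hfaith : ∀ g ∈ MulAction.stabilizer G A, (∀ h ∈ MulAction.stabilizer G A, g • (h • B) = h • B) → g = 1)
    (hfix : ∃ g ∈ MulAction.stabilizer G A, g ≠ 1 ∧ g • B = B)
    (hfrob : ∀ g ∈ MulAction.stabilizer G A, ∀ h ∈ MulAction.stabilizer G A, g • B = B → g • (h • B) = h • B → h • B ≠ B → g = 1) :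
    (Nonempty (G ≃* ↥(alternatingGroup (Fin 5))) ∧ Fintype.card X = 10) ∨
    (IsSolvable G ∧ ∃ N : Subgroup G, N.Normal ∧ Nat.card N = 16 ∧ ∀ x y : X, ∃! n : ↥N, (n : G) • x = y) := by
  obtain ⟨D, n, k, l, f, d, N⟩ := H90.R3.exists_dat heven hprim A h3 B hBA hfix hfrob
  have hne : Nonempty X := ⟨A⟩
  have hcG := N.cG
  have hcX := N.cX
  rcases params N with ⟨hn, hk, hf⟩ | h
  · left
    rw [hn, hk, hf] at hcG
    refine ⟨H352.Order120.alt5_of_card_60 (by rw [hcG]) ?_, by rw [← Nat.card_eq_fintype_card, hcX, hn]⟩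
    intro hs
    obtain ⟨-, -, -, -, p, e, hp, he⟩ := regular hprim hs (by rw [hcX, hn]; norm_num)
    rw [hcX, hn] at he
    have h2 : 2 ∣ p ^ e := by rw [← he]; norm_num
    have h5 : 5 ∣ p ^ e := by rw [← he]; norm_num
    have h2' := (Nat.prime_dvd_prime_iff_eq Nat.prime_two hp).1 (Nat.prime_two.dvd_of_dvd_pow h2)
    have h5' := (Nat.prime_dvd_prime_iff_eq Nat.prime_five hp).1 (Nat.prime_five.dvd_of_dvd_pow h5)
    omega
  · right
    have hn : n = 16 := by omega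
    have hs : Group.IsSolvable G := by
      rcases h with ⟨h1, h2, h3⟩ | ⟨h1, h2, h3⟩
      · exact S0144.result 2 5 6 1 Nat.prime_two Nat.prime_five (by rw [hcG, h1, h2, h3]; norm_num)
      · exact S0144.result 2 3 6 2 Nat.prime_two Nat.prime_three (by rw [hcG, h1, h2, h3]; norm_num)
    obtain ⟨M, hM, h1, h2, -⟩ := regular hprim hs (by rw [hcX, hn]; norm_num)
    exact ⟨hs, M, hM, by rw [h1, hcX, hn], h2⟩

end Cfsg.Agent.S2207
end
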