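import Mathlib
import Cfsg.Prelude.Def_Involutions
import Cfsg.Agent.H91.PguCent
import Cfsg.Agent.Lib.KleinGen
import Cfsg.Agent.Lib.Cores
import Cfsg.Agent.StrongEmb.TwoRank
import Cfsg.Agent.H971.Bender
import Cfsg.Agent.StrongEmb.Strong
import Cfsg.Agent.BenderType.Classify
import Cfsg.Agent.SporadicStructure.PsuMatch
import Cfsg.Statements.S2212
import Cfsg.Agent.FastGrp
import Cfsg.Agent.Prune
set_option linter.all false
prune_inst 0x3fffffffffffffffffffffffffffbeffbdffffffff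
open scoped Cfsg.Agent.FastGrp

-- part: H91/PguSE
section
/-!
# Groups in which the centralisers of involutions have the property `CentProp`

If a finite group `G` of even order without normal Sylow 2-subgroup has centralisers of involutions as in
`PGU(3, q)` then `O(G) = 1` and the normaliser of a Sylow 2-subgroup is strongly embedded.
-/

set_option autoImplicit false

namespace Cfsg.Agent.H91.Pgu

open Cfsg Subgroup

variable {G : Type*} [Group G] {S : Type*} [Group S]

/-- the hypothesis -/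
def CentHyp (G S : Type*) [Group G] [Group S] : Prop :=
  ∀ x : G, orderOf x = 2 → CentProp ↥(centralizer ({x} : Set G)) S

theorem CentHyp.comm (hC : CentHyp G S) {x y g : G} (hx : orderOf x = 2) (hy : orderOf y = 2) (hxy : x * y = y * x)
    (hg : g * x = x * g) : g * y = y * g := by
  have h1 := (hC x hx).comm ⟨y, mem_centralizer_singleton_iff.2 hxy.symm⟩
    ⟨g, mem_centralizer_singleton_iff.2 hg⟩ (by rw [Subgroup.orderOf_mk, hy])
  exact (congrArg Subtype.val h1).symm

/-- commuting involutions have the same centraliser -/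
theorem CentHyp.centralizer_eq (hC : CentHyp G S) {x y : G} (hx : orderOf x = 2) (hy : orderOf y = 2)
    (hxy : x * y = y * x) : centralizer ({x} : Set G) = centralizer ({y} : Set G) := by
  ext g
  rw [mem_centralizer_singleton_iff, mem_centralizer_singleton_iff]
  exact ⟨fun h => hC.comm hx hy hxy h, fun h => hC.comm hy hx hxy.symm h⟩

/-- the 2-elements of the centraliser of an involution -/
theorem CentHyp.exists_Q [Finite G] (hC : CentHyp G S) {x : G} (hx : orderOf x = 2) :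
    ∃ Q : Subgroup G, (∀ g, g ∈ Q ↔ g * x = x * g ∧ ∃ k : ℕ, g ^ 2 ^ k = 1) ∧ IsPGroup 2 Q ∧ Nonempty (Q ≃* S) := by
  obtain ⟨Q, hn, h2, hodd, ⟨e⟩⟩ := (hC x hx).syl
  refine ⟨Q.map (centralizer ({x} : Set G)).subtype, fun g => ?_, h2.map _,
    ⟨(Q.equivMapOfInjective _ (centralizer ({x} : Set G)).subtype_injective).symm.trans e⟩⟩
  constructor
  · rintro ⟨a, ha, rfl⟩
    refine ⟨mem_centralizer_singleton_iff.1 a.2, ?_⟩
    obtain ⟨k, hk⟩ := h2 ⟨a, ha⟩
    have h3 := congrArg Subtype.val hk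
    exact ⟨k, congrArg Subtype.val h3⟩
  · rintro ⟨h1, k, hk⟩
    refine ⟨⟨g, mem_centralizer_singleton_iff.2 h1⟩, ?_, rfl⟩
    set a : centralizer ({x} : Set G) := ⟨g, mem_centralizer_singleton_iff.2 h1⟩ with ha
    have hak : a ^ 2 ^ k = 1 := Subtype.ext hk
    change a ∈ Q
    rw [← QuotientGroup.eq_one_iff, ← orderOf_eq_one_iff]
    have h3 : orderOf (a : centralizer ({x} : Set G) ⧸ Q) ∣ 2 ^ k := by
      apply orderOf_dvd_of_pow_eq_one
      rw [← QuotientGroup.mk_pow, hak, QuotientGroup.mk_one]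
    have h4 : orderOf (a : centralizer ({x} : Set G) ⧸ Q) ∣ Q.index := orderOf_dvd_natCard _
    have h5 : Nat.Coprime (2 ^ k) Q.index := Nat.Coprime.pow_left k (Nat.coprime_two_left.mpr hodd)
    exact Nat.Coprime.eq_one_of_dvd (h5.coprime_dvd_left h3) h4

/-- a Sylow 2-subgroup containing an involution consists of the 2-elements of its centraliser -/
theorem CentHyp.mem_sylow_iff [Finite G] (hC : CentHyp G S) (P : Sylow 2 G) {x : G} (hxP : x ∈ P)
    (hx : orderOf x = 2) {g : G} : g ∈ P ↔ g * x = x * g ∧ ∃ k : ℕ, g ^ 2 ^ k = 1 := by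
  have : Fact (Nat.Prime 2) := ⟨Nat.prime_two⟩
  -- a central involution of `P`
  obtain ⟨z, hz2, hzP, hzc⟩ : ∃ z : G, orderOf z = 2 ∧ z ∈ P ∧ ∀ y ∈ P, y * z = z * y := by
    have hnt : Nontrivial P := by
      refine ⟨⟨x, hxP⟩, 1, fun h => ?_⟩
      have h1 : x = 1 := congrArg Subtype.val h
      rw [h1, orderOf_one] at hx; omega
    have h1 := P.isPGroup'.center_nontrivial
    have h2 : IsPGroup 2 (center P) := P.isPGroup'.to_subgroup _
    obtain ⟨m, hm0, hm⟩ := h2.nontrivial_iff_card.1 h1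
    obtain ⟨z, hz⟩ := exists_prime_orderOf_dvd_card' 2 (G := center P)
      (by rw [hm]; exact dvd_pow_self 2 (by omega))
    refine ⟨((z : P) : G), ?_, (z : P).2, fun y hy => ?_⟩
    · rw [Subgroup.orderOf_coe, Subgroup.orderOf_coe, hz]
    · have h3 := Subgroup.mem_center_iff.1 z.2 ⟨y, hy⟩
      exact congrArg Subtype.val h3
  have hxz : x * z = z * x := hzc x hxP
  have hPle : ∀ y ∈ P, y * x = x * y := fun y hy => hC.comm hz2 hx hxz.symm (hzc y hy)
  obtain ⟨Q, hQ, hQ2, -⟩ := hC.exists_Q hx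
  have hPQ : (P : Subgroup G) ≤ Q := by
    intro y hy
    refine (hQ y).2 ⟨hPle y hy, ?_⟩
    obtain ⟨k, hk⟩ := P.isPGroup' ⟨y, hy⟩
    exact ⟨k, congrArg Subtype.val hk⟩
  have h1 : Q = P := P.is_maximal' hQ2 hPQ
  rw [← hQ g, h1]
  exact Iff.rfl

/-- Sylow 2-subgroups are isomorphic to `S` -/
theorem CentHyp.sylow_equiv [Finite G] (hC : CentHyp G S) (P : Sylow 2 G) {x : G}
    (hx : orderOf x = 2) : Nonempty ((P : Subgroup G) ≃* S) := by
  have : Fact (Nat.Prime 2) := ⟨Nat.prime_two⟩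
  obtain ⟨R, hR⟩ := (IsPGroup.of_card (p := 2) (G := Subgroup.zpowers x) (n := 1)
    (by rw [Nat.card_zpowers, hx, pow_one])).exists_le_sylow
  have hxR : x ∈ R := hR (mem_zpowers x)
  obtain ⟨Q, hQ, hQ2, ⟨e⟩⟩ := hC.exists_Q hx
  have h1 : (R : Subgroup G) = Q := by
    ext g
    rw [hQ g]
    exact hC.mem_sylow_iff R hxR hx
  exact ⟨(P.equiv R).trans ((MulEquiv.subgroupCongr h1).trans e)⟩

/-- `O(G) = 1` -/
theorem CentHyp.core_eq_bot [Finite G] (hC : CentHyp G S) {x y : G} (hx : orderOf x = 2) (hy : orderOf y = 2)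
    (hne : x ≠ y) (hxy : x * y = y * x) : pPrimeCore 2 G = ⊥ := by
  have hodd : Odd (Nat.card (pPrimeCore 2 G)) :=
    Nat.coprime_two_right.mp (Cfsg.Agent.Lib.Cores.pPrimeCore_coprime 2)
  have hxx : x * x = 1 := by have := pow_orderOf_eq_one x; rwa [hx, pow_two] at this
  have hyy : y * y = 1 := by have := pow_orderOf_eq_one y; rwa [hy, pow_two] at this
  have hxy2 : orderOf (x * y) = 2 := by
    apply orderOf_eq_prime
    · rw [pow_two]
      calc x * y * (x * y) = x * (y * x) * y := by group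
        _ = (x * x) * (y * y) := by rw [← hxy]; group
        _ = 1 := by rw [hxx, hyy, one_mul]
    · intro h
      apply hne
      calc x = x * (y * y) := by rw [hyy, mul_one]
        _ = (x * y) * y := by group
        _ = y := by rw [h, one_mul]
  have hn := Cfsg.Agent.Lib.Cores.pPrimeCore_normal (G := G) 2
  have hle : pPrimeCore 2 G ≤ centralizer ({x} : Set G) := by
    apply Cfsg.Agent.Lib.KleinGen.le_of_klein _ _ hodd x y hxx hyy hxy (fun h hh => hn.conj_mem h hh x)
      (fun h hh => hn.conj_mem h hh y) inf_le_right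
    · rw [hC.centralizer_eq hx hy hxy]; exact inf_le_right
    · rw [hC.centralizer_eq hx hxy2 (by
        calc x * (x * y) = x * (y * x) := by rw [hxy]
          _ = x * y * x := by group)]
      exact inf_le_right
  have h1 := (hC x hx).odd ((pPrimeCore 2 G).subgroupOf (centralizer ({x} : Set G))) (hn.subgroupOf _) (by
    rw [Nat.card_congr (subgroupOfEquivOfLe hle).toEquiv]; exact hodd)
  rw [subgroupOf_eq_bot] at h1
  rw [eq_bot_iff]
  exact fun g hg => disjoint_def.1 h1 hg (hle hg)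

/-- **The normaliser of a Sylow 2-subgroup is strongly embedded.** -/
theorem CentHyp.stronglyEmbedded [Finite G] (hC : CentHyp G S) (P : Sylow 2 G) {x : G} (hxP : x ∈ P)
    (hx : orderOf x = 2) (hP : ¬ (P : Subgroup G).Normal) :
    IsStronglyEmbedded (normalizer (P : Set G)) := by
  have : Fact (Nat.Prime 2) := ⟨Nat.prime_two⟩
  have hinv : ∀ t : G, orderOf t = 2 → t ∈ normalizer (P : Set G) → t ∈ P := by
    intro t ht htn
    have h1 : IsPGroup 2 (zpowers t) := IsPGroup.of_card (n := 1) (by rw [Nat.card_zpowers, ht, pow_one])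
    have h2 : t ∈ zpowers t ⊓ normalizer (P : Set G) := ⟨mem_zpowers t, htn⟩
    rw [h1.inf_normalizer_sylow P] at h2
    exact h2.2
  refine ⟨?_, ?_, ?_⟩
  · intro h
    exact hP (normalizer_eq_top_iff.1 h)
  · have hxN : x ∈ normalizer (P : Set G) := le_normalizer (H := (P : Subgroup G)) hxP
    have h1 : (2 : ℕ) ∣ Nat.card (normalizer (P : Set G)) := by
      have := orderOf_dvd_natCard (⟨x, hxN⟩ : normalizer (P : Set G))
      rwa [Subgroup.orderOf_mk, hx] at this
    exact even_iff_two_dvd.2 h1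
  · intro g hg
    by_contra hodd
    rw [Nat.not_odd_iff_even, even_iff_two_dvd] at hodd
    obtain ⟨t, ht⟩ := exists_prime_orderOf_dvd_card' 2 hodd
    obtain ⟨ht1, t', ht', htt⟩ := t.2
    have ht2 : orderOf (t : G) = 2 := by rw [Subgroup.orderOf_coe, ht]
    have htt' : g * t' * g⁻¹ = (t : G) := htt
    have ht'2 : orderOf t' = 2 := by
      rw [← ht2, ← htt']
      exact (orderOf_injective (MulAut.conj g).toMonoidHom (MulAut.conj g).injective t').symm
    have htP := hinv _ ht2 ht1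
    have ht'P := hinv _ ht'2 ht'
    apply hg
    change g ∈ normalizer ((P : Subgroup G) : Set G)
    rw [Subgroup.mem_normalizer_iff]
    intro h
    change h ∈ P ↔ g * h * g⁻¹ ∈ P
    rw [hC.mem_sylow_iff P ht'P ht'2, hC.mem_sylow_iff P htP ht2, ← htt']
    have e1 : ∀ k : ℕ, (g * h * g⁻¹) ^ k = g * h ^ k * g⁻¹ := fun k => conj_pow
    constructor
    · rintro ⟨h1, k, hk⟩
      refine ⟨?_, k, by rw [e1, hk]; group⟩
      calc g * h * g⁻¹ * (g * t' * g⁻¹) = g * (h * t') * g⁻¹ := by group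
        _ = _ := by rw [h1]; group
    · rintro ⟨h1, k, hk⟩
      refine ⟨?_, k, ?_⟩
      · calc h * t' = g⁻¹ * (g * h * g⁻¹ * (g * t' * g⁻¹)) * g := by group
          _ = _ := by rw [h1]; group
      · rw [e1] at hk
        calc h ^ 2 ^ k = g⁻¹ * (g * h ^ 2 ^ k * g⁻¹) * g := by group
          _ = _ := by rw [hk]; group

end Cfsg.Agent.H91.Pgu
end

-- part: H91/PguMain
section
/-!
# Characterisation of `PGU(3, q)`, `q > 2` even, by the centraliser of an involution
-/

set_option autoImplicit false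

universe u

namespace Cfsg.Agent.H91.Pgu

open Cfsg Cfsg.Agent.StrongEmb.Split Cfsg.Agent.StrongEmb.Basic Cfsg.Agent.StrongEmb.TwoRank
  Cfsg.Agent.TwoFusion.StronglyEmbeddedBasic Cfsg.Agent.SuzukiRankOne.Reduction

/-- A group with `O(G) = 1` and a strongly embedded subgroup and a Sylow 2-subgroup of type `PSU(3, 2^n)`. -/
theorem exists_equiv_invClosure {G : Type u} [Group G] [Finite G] {H : Subgroup G} (hH : IsStronglyEmbedded H)
    (hr : CommPair G) (hO : pPrimeCore 2 G = ⊥) (P : Sylow 2 G) {n : ℕ} (hn : 1 ≤ n)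
    (hP : Cfsg.Agent.BenderType.Inv.Ty (P : Subgroup G) ((2 ^ n) ^ 3) (2 ^ n)) :
    Odd (invClosure G).index ∧ ∃ (F : Type) (_ : Field F) (_ : Fintype F), Fintype.card F = 4 ^ n ∧
      Nonempty (invClosure G ≃* PSU 3 F (2 ^ n)) := by
  have : Fact (Nat.Prime 2) := ⟨Nat.prime_two⟩
  have hsim := isSimpleGroup_invClosure hH hO
  have hK := stronglyEmbedded_invClosure hH
  have hcp := commPair_invClosure hr
  have hcore : H.normalCore = ⊥ := by rw [normalCore_eq_oddCore hH hr]; exact hO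
  obtain ⟨Q', hQ', -⟩ := Cfsg.Agent.StrongEmb.Main.bender _ _ hK hcp (normalCore_eq_bot_of_simple hK.1)
  obtain ⟨Q, hQle, hQ, hQ2⟩ := Cfsg.Agent.H971.Bender.exists_isSplit_le hH hr hcore ⟨Q', hQ'⟩
  obtain ⟨t, ht, ht2⟩ := exists_involution_notMem hH
  have hidx : Odd Q.index :=
    Cfsg.Agent.SuzukiRankOne.Reduction.odd_index_of_le (setup_of_isSplit hH hQ ht ht2) le_rfl
  have hodd : Odd (invClosure G).index := Odd.of_dvd_nat hidx (Subgroup.index_dvd_of_le hQle)
  refine ⟨hodd, ?_⟩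
  obtain ⟨R⟩ : Nonempty (Sylow 2 (invClosure G)) := inferInstance
  have hRodd : Odd R.index := by
    rw [← Nat.not_even_iff_odd, even_iff_two_dvd]
    exact R.not_dvd_index
  have hR2 : IsPGroup 2 ((R : Subgroup (invClosure G)).map (invClosure G).subtype) := R.isPGroup'.map _
  have hRi : ¬ 2 ∣ ((R : Subgroup (invClosure G)).map (invClosure G).subtype).index := by
    rw [Subgroup.index_map_subtype, ← even_iff_two_dvd, Nat.not_even_iff_odd]
    exact hRodd.mul hodd
  have e : (P : Subgroup G) ≃* (R : Subgroup (invClosure G)) :=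
    (P.equiv (hR2.toSylow hRi)).trans
      ((R : Subgroup (invClosure G)).equivMapOfInjective _ (invClosure G).subtype_injective).symm
  exact Cfsg.Agent.BenderType.Classify.psu_of_concl
    (Cfsg.Agent.StrongEmb.Simple.of_isSplit hK hQ' hcp) R hn (hP.congr e)

section Final

variable {G : Type u} [Group G] [Finite G] {F : Type*} [Field F] [Fintype F] {q : ℕ}

/-- the action of `G` on a normal subgroup `L ≃* PSU 3 F q` -/
noncomputable def Psi (L : Subgroup G) [L.Normal] (e : L ≃* PSU 3 F q) : G →* MulAut (PSU 3 F q) :=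
  (MulAut.congr e).toMonoidHom.comp MulAut.conjNormal

omit [Finite G] [Fintype F] in
theorem Psi_apply (L : Subgroup G) [L.Normal] (e : L ≃* PSU 3 F q) (g : G) (y : L) :
    Psi L e g (e y) = e (MulAut.conjNormal g y) := by
  change e (MulAut.conjNormal g (e.symm (e y))) = _
  rw [MulEquiv.symm_apply_apply]

omit [Finite G] [Fintype F] in
theorem Psi_coe (L : Subgroup G) [L.Normal] (e : L ≃* PSU 3 F q) (l : L) :
    Psi L e (l : G) = MulAut.conj (e l) := by
  ext s
  obtain ⟨y, rfl⟩ := e.surjective s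
  rw [Psi_apply, MulAut.conj_apply, ← map_inv, ← map_mul, ← map_mul]
  rfl

/-- **The final step.** -/
theorem final [CharP F 2] (hF : Fintype.card F = q ^ 2) (hq : 2 < q) {S : Type*} [Group S] (hC : CentHyp G S)
    (hO : pPrimeCore 2 G = ⊥) (L : Subgroup G) [hL : L.Normal] (hodd : Odd L.index)
    (hinv : ∀ x : G, orderOf x = 2 → x ∈ L) (e : L ≃* PSU 3 F q)
    (hCe : ∀ (x : G) (y : GU 3 F q ⧸ Subgroup.center (GU 3 F q)), orderOf x = 2 → orderOf y = 2 →
      Nonempty (↥(Subgroup.centralizer ({x} : Set G)) ≃*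
        ↥(Subgroup.centralizer ({y} : Set (GU 3 F q ⧸ Subgroup.center (GU 3 F q)))))) :
    Nonempty (G ≃* (GU 3 F q ⧸ Subgroup.center (GU 3 F q))) := by
  have : Fact (Nat.Prime 2) := ⟨Nat.prime_two⟩
  have h32 : ¬ (3 = 3 ∧ q = 2) := by omega
  have hfinY := finite_PSU hF
  have hfinM := finite_MulAut hF
  set Ψ := Psi L e with hΨ
  -- an involution
  obtain ⟨x, hx⟩ : ∃ x : G, orderOf x = 2 := by
    obtain ⟨P⟩ : Nonempty (Sylow 2 (PSU 3 F q)) := inferInstance
    obtain ⟨n, hn, hqn⟩ := exists_eq_two_pow hF hq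
    subst hqn
    obtain ⟨-, -, -, -, -, ⟨a, b, hab, ha1, haa, -⟩, -⟩ := Cfsg.Agent.S1141.result hn hF P
    refine ⟨((e.symm (a : PSU 3 F (2 ^ n)) : L) : G), ?_⟩
    rw [Subgroup.orderOf_coe, e.symm.orderOf_eq, Subgroup.orderOf_coe]
    exact orderOf_eq_prime (by rw [pow_two, haa]) ha1
  have hxL := hinv x hx
  set t : PSU 3 F q := e ⟨x, hxL⟩ with ht
  have ht2 : orderOf t = 2 := by rw [ht, e.orderOf_eq, Subgroup.orderOf_mk, hx]
  -- injectivity
  have hinj : Function.Injective Ψ := by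
    rw [← MonoidHom.ker_eq_bot_iff, eq_bot_iff]
    have hkL : ∀ g ∈ Ψ.ker, g ∈ L → g = 1 := by
      intro g hg hgL
      have h1 : Ψ g = 1 := hg
      have h2 := Psi_coe L e ⟨g, hgL⟩
      rw [← hΨ, show ((⟨g, hgL⟩ : L) : G) = g from rfl, h1, ← map_one (MulAut.conj : PSU 3 F q →* _)] at h2
      have h3 := conj_injective hF hq h2
      have h4 : (1 : L) = ⟨g, hgL⟩ := e.injective (by rw [map_one, h3])
      exact (congrArg Subtype.val h4).symm
    have hk : Odd (Nat.card Ψ.ker) := by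
      by_contra hno
      rw [Nat.not_odd_iff_even, even_iff_two_dvd] at hno
      obtain ⟨s, hs⟩ := exists_prime_orderOf_dvd_card' 2 hno
      have hs2 : orderOf (s : G) = 2 := by rw [Subgroup.orderOf_coe, hs]
      have h1 := hkL s s.2 (hinv _ hs2)
      rw [h1, orderOf_one] at hs2
      omega
    rw [← hO]
    exact le_sSup ⟨inferInstance, Nat.coprime_two_right.mpr hk⟩
  -- factorisation
  have hfac : ∀ α : MulAut (PSU 3 F q), ∃ l : L, ((MulAut.conj (e l))⁻¹ * α) t = t := by
    intro α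
    obtain ⟨y, hy⟩ := exists_conj_inv hF hq ht2 (t := α t) (by rw [α.orderOf_eq, ht2])
    refine ⟨e.symm y, ?_⟩
    rw [MulEquiv.apply_symm_apply, MulAut.mul_apply, ← hy, MulAut.conj_inv_apply]
    group
  -- elements of the centraliser of `x`
  have hcx : ∀ c : G, c * x = x * c → ∀ s : PSU 3 F q, orderOf s = 2 → Commute s t → Ψ c s = s := by
    intro c hc s hs hst
    obtain ⟨y, rfl⟩ := e.surjective s
    have hy2 : orderOf (y : G) = 2 := by rw [Subgroup.orderOf_coe, ← e.orderOf_eq y, hs]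
    have hyx : (y : G) * x = x * y := by
      have h1 : e y * e ⟨x, hxL⟩ = e ⟨x, hxL⟩ * e y := hst
      rw [← map_mul, ← map_mul] at h1
      exact congrArg Subtype.val (e.injective h1)
    have h2 := hC.comm hx hy2 hyx.symm hc
    rw [hΨ, Psi_apply]
    congr 1
    apply Subtype.ext
    rw [MulAut.conjNormal_apply]
    rw [h2, mul_inv_cancel_right]
  have hmem : ∀ c : G, Ψ c t = t ↔ c * x = x * c := by
    intro c
    rw [hΨ, ht, Psi_apply, e.injective.eq_iff]
    rw [← mul_inv_eq_iff_eq_mul]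
    constructor
    · intro h
      have := congrArg Subtype.val h
      rwa [MulAut.conjNormal_apply] at this
    · intro h
      apply Subtype.ext
      rw [MulAut.conjNormal_apply]
      exact h
  -- `Ψ(G)` consists of linear automorphisms
  have hrho : ∀ g : G, Cfsg.Agent.KFacts.OutCyc.PSU.rho hF le_rfl h32 (Ψ g) = 1 := by
    intro g
    obtain ⟨l, hl⟩ := hfac (Ψ g)
    have hΨl : MulAut.conj (e l) = Ψ (l : G) := (Psi_coe L e l).symm
    have hc : (MulAut.conj (e l))⁻¹ * Ψ g = Ψ ((l : G)⁻¹ * g) := by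
      rw [hΨl, map_mul, map_inv]
    set c := (l : G)⁻¹ * g with hcdef
    rw [hc] at hl
    have hcx' := (hmem c).1 hl
    obtain ⟨A, hA⟩ := Cfsg.Agent.KFacts.OutCyc.PSU.rho_spec hF le_rfl h32 (Ψ c)
    have hsq : Cfsg.Agent.KFacts.OutCyc.PSU.rho hF le_rfl h32 (Ψ c) *
        Cfsg.Agent.KFacts.OutCyc.PSU.rho hF le_rfl h32 (Ψ c) = 1 :=
      rho_sq hF hq A _ ht2 (fun s hs hst => by rw [← hA]; exact hcx c hcx' s hs hst)
    have hL1 : ∀ l' : L, Cfsg.Agent.KFacts.OutCyc.PSU.rho hF le_rfl h32 (Ψ (l' : G)) = 1 := by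
      intro l'
      rw [hΨ, Psi_coe, Cfsg.Agent.KFacts.OutCyc.PSU.rho_conj]
    have hci : c ^ L.index ∈ L := by
      rw [← QuotientGroup.eq_one_iff, QuotientGroup.mk_pow]
      exact pow_card_eq_one'
    have h1 := hL1 ⟨_, hci⟩
    rw [show ((⟨c ^ L.index, hci⟩ : L) : G) = c ^ L.index from rfl, map_pow, map_pow] at h1
    have hc1 : Cfsg.Agent.KFacts.OutCyc.PSU.rho hF le_rfl h32 (Ψ c) = 1 := by
      rw [← orderOf_eq_one_iff]
      exact Nat.Coprime.eq_one_of_dvd
        ((Nat.coprime_two_left.mpr hodd).coprime_dvd_left (orderOf_dvd_of_pow_eq_one (by rw [pow_two]; exact hsq)))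
        (orderOf_dvd_of_pow_eq_one h1)
    have hg : g = l * c := by rw [hcdef]; group
    rw [hg, map_mul, map_mul, hL1 l, hc1, one_mul]
  -- surjectivity
  obtain ⟨y₀, hy₀⟩ := (mem_range_jU hF hq h32 (MulAut.conj t)).2
    (Cfsg.Agent.KFacts.OutCyc.PSU.rho_conj hF le_rfl h32 t)
  have hy₀2 : orderOf y₀ = 2 := by
    rw [← orderOf_injective _ (jU_injective hF hq), hy₀, orderOf_injective _ (conj_injective hF hq), ht2]
  have hcard : Nat.card (CC hF h32 t) = Nat.card (Subgroup.centralizer ({x} : Set G)) := by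
    obtain ⟨f⟩ := hCe x y₀ hx hy₀2
    rw [Nat.card_congr f.toEquiv, ← map_centralizer_eq hF hq h32 hy₀,
      Subgroup.card_map_of_injective (jU_injective hF hq)]
  have himg : (Subgroup.centralizer ({x} : Set G)).map Ψ = CC hF h32 t := by
    apply Subgroup.eq_of_le_of_card_ge
    · rintro _ ⟨c, hc, rfl⟩
      exact mem_CC.2 ⟨hrho c, (hmem c).2 (Subgroup.mem_centralizer_singleton_iff.1 hc)⟩
    · rw [hcard, Subgroup.card_map_of_injective hinj]
  have hrange : Ψ.range = (jU hF hq).range := by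
    ext α
    rw [mem_range_jU hF hq h32]
    constructor
    · rintro ⟨g, rfl⟩; exact hrho g
    · intro hα
      obtain ⟨l, hl⟩ := hfac α
      have h1 : (MulAut.conj (e l))⁻¹ * α ∈ CC hF h32 t := by
        refine mem_CC.2 ⟨?_, hl⟩
        rw [map_mul, map_inv, hα, Cfsg.Agent.KFacts.OutCyc.PSU.rho_conj, inv_one, one_mul]
      rw [← himg] at h1
      obtain ⟨c, -, hc⟩ := h1
      refine ⟨l * c, ?_⟩
      rw [map_mul, hc, hΨ, Psi_coe, mul_inv_cancel_left]
  exact ⟨((MonoidHom.ofInjective hinj).trans (MulEquiv.subgroupCongr hrange)).trans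
    (MonoidHom.ofInjective (jU_injective hF hq)).symm⟩

end Final

end Cfsg.Agent.H91.Pgu
end

-- part: S2212
section
set_option autoImplicit false
open Cfsg

namespace Cfsg.Agent.S2212

/-- Characterization of the three-dimensional projective unitary groups over finite fields of characteristic two by the centralizer of an involution. Let q = 2^n > 2 and let PGU₃(q) be the quotient of the full unitary group of a non-degenerate Hermitian form in three variables over the field with q² elements by its centre. Let G be a finite group of even order in which all involutions are conjugate, the centralizer of an involution is isomorphic to the centralizer of an involution in PGU₃(q), and a Sylow 2-subgroup is not normal. Then G ≅ PGU₃(q). -/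
theorem result {G : Type*} [Group G] [Finite G] {F : Type*} [Field F] [Fintype F] [CharP F 2] (q : ℕ) (hq : 2 < q) (hF : Fintype.card F = q ^ 2)
    (heven : Even (Nat.card G)) (hconj : ∀ s t : G, orderOf s = 2 → orderOf t = 2 → IsConj s t)
    (hC : ∀ (x : G) (y : (↥(Cfsg.GU 3 F q) ⧸ Subgroup.center ↥(Cfsg.GU 3 F q))), orderOf x = 2 → orderOf y = 2 →
      Nonempty (↥(Subgroup.centralizer ({x} : Set G)) ≃* ↥(Subgroup.centralizer ({y} : Set (↥(Cfsg.GU 3 F q) ⧸ Subgroup.center ↥(Cfsg.GU 3 F q))))))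
    (hS : ∀ P : Sylow 2 G, ¬ (P : Subgroup G).Normal) :
    Nonempty (G ≃* (↥(Cfsg.GU 3 F q) ⧸ Subgroup.center ↥(Cfsg.GU 3 F q))) := by
  have h2 : Fact (Nat.Prime 2) := ⟨Nat.prime_two⟩
  have h32 : ¬ (3 = 3 ∧ q = 2) := by omega
  obtain ⟨n, hn, hqn⟩ := Cfsg.Agent.H91.Pgu.exists_eq_two_pow hF hq
  have hfinY := Cfsg.Agent.H91.Pgu.finite_PSU hF
  obtain ⟨P₀⟩ : Nonempty (Sylow 2 (Cfsg.PSU 3 F q)) := inferInstance
  have hF2 : Fintype.card F = (2 ^ n) ^ 2 := by rw [hF, hqn]
  -- the Sylow 2-subgroup of `PSU(3, q)`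
  have hTy : Cfsg.Agent.BenderType.Inv.Ty ↥(P₀ : Subgroup (Cfsg.PSU 3 F q)) ((2 ^ n) ^ 3) (2 ^ n) := by
    subst hqn
    exact Cfsg.Agent.BenderType.Inv.ty_psu (by omega) hF2 P₀
  obtain ⟨a, b, hab, ha1, haa, hb1, hbb⟩ : ∃ a b : ↥(P₀ : Subgroup (Cfsg.PSU 3 F q)), a ≠ b ∧ a ≠ 1 ∧ a * a = 1 ∧
      b ≠ 1 ∧ b * b = 1 := by
    subst hqn
    exact (Cfsg.Agent.S1141.result hn hF P₀).2.2.2.2.2.1
  -- an involution of `PGU(3, q)`
  obtain ⟨y, hy⟩ : ∃ y : (↥(Cfsg.GU 3 F q) ⧸ Subgroup.center ↥(Cfsg.GU 3 F q)), orderOf y = 2 := by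
    obtain ⟨y, hy⟩ := (Cfsg.Agent.H91.Pgu.mem_range_jU hF hq h32 (MulAut.conj (a : Cfsg.PSU 3 F q))).2
      (Cfsg.Agent.KFacts.OutCyc.PSU.rho_conj hF le_rfl h32 _)
    refine ⟨y, ?_⟩
    rw [← orderOf_injective _ (Cfsg.Agent.H91.Pgu.jU_injective hF hq), hy,
      orderOf_injective _ (Cfsg.Agent.H91.Pgu.conj_injective hF hq), Subgroup.orderOf_coe]
    exact orderOf_eq_prime (by rw [pow_two, haa]) ha1
  have hH : Cfsg.Agent.H91.Pgu.CentHyp G ↥(P₀ : Subgroup (Cfsg.PSU 3 F q)) := by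
    intro x hx
    obtain ⟨f⟩ := hC x y hx hy
    exact (Cfsg.Agent.H91.Pgu.centProp_PGU hF hq hy P₀).congr f.symm
  obtain ⟨x, hx⟩ := exists_prime_orderOf_dvd_card' 2 (even_iff_two_dvd.1 heven)
  obtain ⟨P, hP⟩ := (IsPGroup.of_card (p := 2) (G := Subgroup.zpowers x) (n := 1)
    (by rw [Nat.card_zpowers, hx, pow_one])).exists_le_sylow
  have hxP : x ∈ P := hP (Subgroup.mem_zpowers x)
  obtain ⟨e⟩ := hH.sylow_equiv P hx
  have hTyP : Cfsg.Agent.BenderType.Inv.Ty ↥(P : Subgroup G) ((2 ^ n) ^ 3) (2 ^ n) := hTy.congr e.symm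
  -- two commuting involutions
  have hcomm : Cfsg.Agent.StrongEmb.TwoRank.CommPair G := by
    refine ⟨(e.symm a : G), (e.symm b : G), ?_, ?_, ?_, ?_⟩
    · rw [Subgroup.orderOf_coe, e.symm.orderOf_eq]
      exact orderOf_eq_prime (by rw [pow_two, haa]) ha1
    · rw [Subgroup.orderOf_coe, e.symm.orderOf_eq]
      exact orderOf_eq_prime (by rw [pow_two, hbb]) hb1
    · intro h
      exact hab (e.symm.injective (Subtype.ext h))
    · exact congrArg Subtype.val (hTyP.comm (e.symm a) (e.symm b) (by rw [← map_mul, haa, map_one])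
        (by rw [← map_mul, hbb, map_one]))
  obtain ⟨s, t, hs, ht, hst, hc⟩ := id hcomm
  have hO := hH.core_eq_bot hs ht hst hc
  obtain ⟨hodd, F', i1, i2, hF', ⟨e'⟩⟩ := Cfsg.Agent.H91.Pgu.exists_equiv_invClosure
    (hH.stronglyEmbedded P hxP hx (hS P)) hcomm hO P (by omega) hTyP
  have hcard : Fintype.card F' = Fintype.card F := by
    rw [hF', hF2, ← pow_mul, mul_comm, pow_mul]; norm_num
  obtain ⟨e''⟩ := Cfsg.Agent.SporadicStructure.PsuMatch.psu_iso_of_card hcard 3 (2 ^ n)
  have hn' := Cfsg.Agent.SuzukiRankOne.Reduction.invClosure_normal G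
  rw [← hqn] at e' e''
  refine Cfsg.Agent.H91.Pgu.final hF hq hH hO (Cfsg.Agent.SuzukiRankOne.Reduction.invClosure G) hodd ?_
    (e'.trans e'') hC
  intro z hz
  exact Cfsg.Agent.SuzukiRankOne.Reduction.mem_invClosure
    (by have := pow_orderOf_eq_one z; rwa [hz, pow_two] at this)

end Cfsg.Agent.S2212
end
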