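import Cfsg.Statements.S2271
import Mathlib.GroupTheory.SpecificGroups.Alternating
set_option linter.all false

set_option autoImplicit false
open Cfsg

namespace Cfsg.Agent.S2271

open Equiv Equiv.Perm Finset

section Agr

variable {n : ℕ}

/-- number of points where two permutations agree -/
def agr (c b : Perm (Fin n)) : ℕ := (univ.filter fun i => b i = c i).card

/-- number of fixed points -/
def fx (b : Perm (Fin n)) : ℕ := (univ.filter fun i => b i = i).card

theorem agr_comm (c b : Perm (Fin n)) : agr c b = agr b c := by
  unfold agr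
  congr 1
  ext i
  simp [eq_comm]

theorem agr_conj (c b h : Perm (Fin n)) : agr (h * c * h⁻¹) (h * b * h⁻¹) = agr c b := by
  unfold agr
  symm
  refine card_bij (fun i _ => h i) ?_ ?_ ?_
  · intro i hi
    simp only [mem_filter, mem_univ, true_and] at hi ⊢
    simp [Perm.mul_apply, hi]
  · intro i _ j _ hij
    exact h.injective hij
  · intro j hj
    have hj := (mem_filter.mp hj).2
    refine ⟨h⁻¹ j, ?_, by simp⟩
    rw [mem_filter]
    exact ⟨mem_univ _, h.injective hj⟩

theorem agr_one (b : Perm (Fin n)) : agr 1 b = fx b := rfl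

theorem fx_conj (b h : Perm (Fin n)) : fx (h * b * h⁻¹) = fx b := by
  have := agr_conj 1 b h
  rwa [mul_one, mul_inv_cancel, agr_one, agr_one] at this

theorem conj_app (g b : Perm (Fin n)) (x : Fin n) : (g * b * g⁻¹) (g x) = g (b x) := by
  simp [Perm.mul_apply]

theorem exists_even_extend (s : Finset (Fin n)) (f : Fin n → Fin n)
    (hf : Set.InjOn f s) (hs : s.card + 2 ≤ n) :
    ∃ g : Perm (Fin n), g ∈ alternatingGroup (Fin n) ∧ ∀ i ∈ s, g i = f i := by
  obtain ⟨g, hg⟩ := Finset.exists_equiv_extend_of_card_eq (α := Fin n) (β := Fin n) (t := univ)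
    (by simp) (s := s) (f := f) (by simp) hf
  let g' : Perm (Fin n) := g.trans ⟨fun x => x.1, fun x => ⟨x, mem_univ x⟩, fun x => rfl, fun x => rfl⟩
  have hg' : ∀ i ∈ s, g' i = f i := hg
  rcases Int.units_eq_one_or (sign g') with h | h
  · exact ⟨g', mem_alternatingGroup.mpr h, hg'⟩
  · have h2 : 1 < (sᶜ).card := by
      rw [card_compl, Fintype.card_fin]; omega
    obtain ⟨p, hp, q, hq, hpq⟩ := Finset.one_lt_card.mp h2
    refine ⟨g' * swap p q, ?_, ?_⟩
    · rw [mem_alternatingGroup, map_mul, h, sign_swap hpq, Int.units_mul_self]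
    · intro i hi
      rw [Perm.mul_apply, swap_apply_of_ne_of_ne, hg' i hi]
      · rintro rfl; exact (mem_compl.mp hp) hi
      · rintro rfl; exact (mem_compl.mp hq) hi

/-- the double count -/
theorem average (b c : Perm (Fin n)) (hn : 4 ≤ n) (K : ℕ)
    (hK : ∀ h ∈ alternatingGroup (Fin n), agr c (h * b * h⁻¹) = K) :
    (K : ℤ) * (n * (n - 1)) = (n - 1) * fx c * fx b + (n - fx c) * (n - fx b) := by
  classical
  let G : Finset (Perm (Fin n)) := univ.filter (fun g => g ∈ alternatingGroup (Fin n))
  have hGmem : ∀ g, g ∈ G ↔ g ∈ alternatingGroup (Fin n) := by intro g; simp [G]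
  let T : Fin n → Fin n → ℕ := fun x y => (G.filter fun g => b (g⁻¹ x) = g⁻¹ y).card
  have hGpos : 0 < G.card := card_pos.mpr ⟨1, (hGmem 1).mpr (one_mem _)⟩
  have hTinv : ∀ h ∈ alternatingGroup (Fin n), ∀ x y, T (h x) (h y) = T x y := by
    intro h hh x y
    refine card_bij (fun g _ => h⁻¹ * g) ?_ ?_ ?_
    · intro g hg
      simp only [mem_filter, hGmem] at hg ⊢
      refine ⟨mul_mem (inv_mem hh) hg.1, ?_⟩
      simpa [mul_inv_rev, Perm.mul_apply] using hg.2
    · intro g _ g' _ hgg
      exact mul_left_cancel hgg
    · intro g hg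
      simp only [mem_filter, hGmem] at hg
      refine ⟨h * g, ?_, by simp⟩
      simp only [mem_filter, hGmem]
      refine ⟨mul_mem hh hg.1, ?_⟩
      simpa [mul_inv_rev, Perm.mul_apply] using hg.2
  have h2t : ∀ x y x' y' : Fin n, x ≠ y → x' ≠ y' → T x y = T x' y' := by
    intro x y x' y' hxy hxy'
    obtain ⟨g, hg, hgs⟩ := exists_even_extend (n := n) {x, y}
      (fun z => if z = x then x' else y') (by
        intro u hu v hv huv
        simp only [coe_insert, coe_singleton, Set.mem_insert_iff, Set.mem_singleton_iff] at hu hv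
        rcases hu with rfl | rfl <;> rcases hv with rfl | rfl
        · rfl
        · simp [hxy.symm, hxy'] at huv
        · simp [hxy.symm, hxy'.symm] at huv
        · rfl) (by rw [card_pair hxy]; omega)
    have h1 := hgs x (by simp)
    have h2 := hgs y (by simp)
    simp only [if_true, hxy.symm, if_false] at h1 h2
    rw [← hTinv g hg x y, h1, h2]
  have h1t : ∀ x x' : Fin n, T x x = T x' x' := by
    intro x x'
    obtain ⟨g, hg, hgs⟩ := exists_even_extend (n := n) {x} (fun _ => x') (by
        intro u hu v hv huv
        simp only [coe_singleton, Set.mem_singleton_iff] at hu hv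
        rw [hu, hv]) (by rw [card_singleton]; omega)
    have h1 := hgs x (by simp)
    rw [← hTinv g hg x x, h1]
  have hrow : ∀ x : Fin n, ∑ y, T x y = G.card := by
    intro x
    have : ∑ y, T x y = ∑ y, ∑ g ∈ G, if b (g⁻¹ x) = g⁻¹ y then 1 else 0 := by
      refine sum_congr rfl fun y _ => ?_
      simp only [T, card_filter]
    rw [this, sum_comm, card_eq_sum_ones]
    refine sum_congr rfl fun g _ => ?_
    rw [Finset.sum_eq_single (g (b (g⁻¹ x)))]
    · simp
    · intro y _ hy
      rw [if_neg]
      intro h
      apply hy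
      rw [h]; simp
    · simp
  have hdiag : ∑ x, T x x = G.card * fx b := by
    have : ∑ x, T x x = ∑ x, ∑ g ∈ G, if b (g⁻¹ x) = g⁻¹ x then 1 else 0 := by
      refine sum_congr rfl fun y _ => ?_
      simp only [T, card_filter]
    rw [this, sum_comm, card_eq_sum_ones, sum_mul]
    refine sum_congr rfl fun g _ => ?_
    rw [one_mul, ← fx_conj b g]
    unfold fx
    rw [card_filter]
    refine sum_congr rfl fun x _ => ?_
    congr 1
    rw [Perm.mul_apply, Perm.mul_apply, eq_iff_iff]
    constructor
    · intro h; rw [h]; simp
    · intro h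
      apply g.injective
      rw [h]; simp
  have hgr : ∑ x, T x (c x) = G.card * K := by
    have : ∑ x, T x (c x) = ∑ x, ∑ g ∈ G, if b (g⁻¹ x) = g⁻¹ (c x) then 1 else 0 := by
      refine sum_congr rfl fun y _ => ?_
      simp only [T, card_filter]
    rw [this, sum_comm, card_eq_sum_ones, sum_mul]
    refine sum_congr rfl fun g hg => ?_
    rw [one_mul, ← hK g ((hGmem g).mp hg)]
    unfold agr
    rw [card_filter]
    refine sum_congr rfl fun x _ => ?_
    congr 1
    rw [Perm.mul_apply, Perm.mul_apply, eq_iff_iff]
    constructor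
    · intro h; rw [h]; simp
    · intro h
      apply g.injective
      rw [h]; simp
  let x0 : Fin n := ⟨0, by omega⟩
  let x1 : Fin n := ⟨1, by omega⟩
  have h01 : x0 ≠ x1 := by simp [x0, x1]
  set T0 := T x0 x0 with hT0
  set T1 := T x0 x1 with hT1
  have e1 : (n : ℤ) * T0 = G.card * fx b := by
    have : ∑ x, T x x = n * T0 := by
      rw [sum_congr rfl fun x _ => h1t x x0, sum_const, card_univ, Fintype.card_fin, smul_eq_mul]
    rw [hdiag] at this
    exact_mod_cast this.symm
  have e2 : (T0 : ℤ) + (n - 1) * T1 = G.card := by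
    have h3 := hrow x0
    rw [← Finset.add_sum_erase univ _ (mem_univ x0)] at h3
    rw [sum_congr rfl (g := fun _ => T1) (fun y hy => h2t x0 y x0 x1 (ne_of_mem_erase hy).symm h01),
      sum_const, card_erase_of_mem (mem_univ x0), card_univ, Fintype.card_fin, smul_eq_mul] at h3
    rw [← h3]
    push_cast
    rw [Nat.cast_sub (by omega)]
    push_cast
    ring
  have e3 : (G.card : ℤ) * K = fx c * T0 + (n - fx c) * T1 := by
    have h4 : ∀ x, T x (c x) = if c x = x then T0 else T1 := by
      intro x
      by_cases hx : c x = x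
      · rw [if_pos hx, hx]; exact h1t x x0
      · rw [if_neg hx]; exact h2t x (c x) x0 x1 (fun h => hx h.symm) h01
    rw [sum_congr rfl (fun x _ => h4 x), sum_ite, sum_const, sum_const, smul_eq_mul, smul_eq_mul] at hgr
    have h5 : (univ.filter fun x => ¬ c x = x).card = n - fx c := by
      have := card_filter_add_card_filter_not (s := (univ : Finset (Fin n))) (fun x => c x = x)
      rw [card_univ, Fintype.card_fin] at this
      unfold fx
      omega
    have h6 : fx c ≤ n := by
      have := card_filter_le (univ : Finset (Fin n)) (fun x => c x = x)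
      rw [card_univ, Fintype.card_fin] at this
      exact this
    rw [h5] at hgr
    have h7 : (univ.filter fun x => c x = x).card = fx c := rfl
    rw [h7] at hgr
    rw [← Nat.cast_mul, ← hgr]
    push_cast
    rw [Nat.cast_sub h6]
  have hG0 : (G.card : ℤ) ≠ 0 := by exact_mod_cast hGpos.ne'
  apply mul_left_cancel₀ hG0
  calc (G.card : ℤ) * (K * (n * (n - 1))) = (G.card * K) * (n * (n - 1)) := by ring
    _ = fx c * (n - 1) * (n * T0) + (n - fx c) * (n * ((n - 1) * T1)) := by rw [e3]; ring
    _ = fx c * (n - 1) * (n * T0) + (n - fx c) * (n * G.card - n * T0) := by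
        rw [← e2]; ring
    _ = G.card * ((n - 1) * fx c * fx b + (n - fx c) * (n - fx b)) := by rw [e1]; ring

theorem five_case : ∀ c b : Perm (Fin 5),
    (Finset.univ.filter fun i => c i = i).card = 1 →
    (Finset.univ.filter fun i => b i = i).card = 0 →
    ∃ g : Perm (Fin 5), sign g = 1 ∧
      (Finset.univ.filter fun i => (g * b * g⁻¹) i = c i).card ≠ 1 := by
  decide +kernel

theorem fx_add_two_le (b : Perm (Fin n)) (hb : b ≠ 1) : fx b + 2 ≤ n := by
  have h1 : 1 < b.support.card := one_lt_card_support_of_ne_one hb
  have := card_filter_add_card_filter_not (s := (univ : Finset (Fin n))) (fun x => b x = x)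
  rw [card_univ, Fintype.card_fin] at this
  have h2 : (univ.filter fun x => ¬ b x = x).card = b.support.card := by
    congr 1
  unfold fx
  omega

/-- two disjoint edges -/
theorem exists_edges (b : Perm (Fin n)) (hn : 5 ≤ n) (hb : b ≠ 1) (hf : fx b ≤ 1) :
    ∃ u v : Fin n, u ≠ b u ∧ v ≠ b v ∧ v ≠ u ∧ v ≠ b u ∧ b v ≠ u ∧ b v ≠ b u := by
  obtain ⟨u, hu⟩ : ∃ u, b u ≠ u := by
    by_contra hcon
    push Not at hcon
    exact hb (Equiv.ext hcon)
  let s : Finset (Fin n) := (univ.filter fun x => b x = x) ∪ {u, b u, b⁻¹ u}
  have hs : s.card < (univ : Finset (Fin n)).card := by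
    rw [card_univ, Fintype.card_fin]
    have h1 : s.card ≤ (univ.filter fun x => b x = x).card + ({u, b u, b⁻¹ u} : Finset (Fin n)).card :=
      card_union_le _ _
    have h2 : ({u, b u, b⁻¹ u} : Finset (Fin n)).card ≤ 3 := card_le_three
    have h3 : (univ.filter fun x => b x = x).card = fx b := rfl
    omega
  obtain ⟨v, -, hv⟩ := exists_mem_notMem_of_card_lt_card hs
  simp only [s, mem_union, mem_filter, mem_univ, true_and, mem_insert, mem_singleton, not_or] at hv
  obtain ⟨hv1, hv2, hv3, hv4⟩ := hv
  refine ⟨u, v, hu.symm, fun h => hv1 h.symm, hv2, hv3, ?_, fun h => hv2 (b.injective h)⟩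
  intro h
  apply hv4
  rw [← h]; simp

theorem main (hn : 5 ≤ n) (b c : Perm (Fin n)) (hb : b ≠ 1) (hc : c ≠ 1) (hbc : fx b ≤ fx c)
    (K : ℕ) (hK : ∀ h ∈ alternatingGroup (Fin n), agr c (h * b * h⁻¹) = K) : False := by
  have hav := average b c (by omega) K hK
  have hb2 := fx_add_two_le b hb
  have hc2 := fx_add_two_le c hc
  have hbz : (fx b : ℤ) + 2 ≤ n := by exact_mod_cast hb2
  have hcz : (fx c : ℤ) + 2 ≤ n := by exact_mod_cast hc2
  have hnz : (5 : ℤ) ≤ n := by exact_mod_cast hn
  have hbcz : (fx b : ℤ) ≤ fx c := by exact_mod_cast hbc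
  have hb0 : (0 : ℤ) ≤ fx b := by positivity
  rcases Nat.lt_or_ge (fx b) 2 with hlt | hge
  · rcases Nat.lt_or_ge (fx b) 1 with hlt1 | hge1
    · -- `fx b = 0`
      have h0 : fx b = 0 := by omega
      rw [h0] at hav
      have h1 : (K : ℤ) * (n - 1) = n - fx c := by
        have : (n : ℤ) * (K * (n - 1)) = n * (n - fx c) := by
          push_cast at hav
          linear_combination hav
        exact mul_left_cancel₀ (by positivity) this
      have hKpos : 1 ≤ (K : ℤ) := by
        by_contra hcon
        push Not at hcon
        have : (K : ℤ) = 0 := by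
          have : (0 : ℤ) ≤ K := by positivity
          omega
        rw [this] at h1
        linarith
      have hK1 : (K : ℤ) = 1 := by
        by_contra hcon
        have : 2 ≤ (K : ℤ) := by omega
        have hc0 : (0 : ℤ) ≤ fx c := by positivity
        nlinarith
      have hfc : fx c = 1 := by
        rw [hK1] at h1
        have : (fx c : ℤ) = 1 := by linarith
        exact_mod_cast this
      have hK1' : K = 1 := by exact_mod_cast hK1
      subst hK1'
      rcases Nat.lt_or_ge n 6 with hn6 | hn6
      · have h5 : n = 5 := by omega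
        subst h5
        obtain ⟨g, hg, hg2⟩ := five_case c b hfc h0
        exact hg2 (hK g (mem_alternatingGroup.mpr hg))
      · obtain ⟨u, v, h1, h2, h3, h4, h5, h6⟩ := exists_edges b hn hb (by omega)
        obtain ⟨x, y, k1, k2, k3, k4, k5, k6⟩ := exists_edges c hn hc (by omega)
        obtain ⟨g, hg, hgs⟩ := exists_even_extend (n := n) {u, b u, v, b v}
          (fun z => if z = u then x else if z = b u then c x else if z = v then y else c y) (by
            intro p hp q hq hpq
            simp only [coe_insert, coe_singleton, Set.mem_insert_iff, Set.mem_singleton_iff] at hp hq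
            rcases hp with rfl | rfl | rfl | rfl <;> rcases hq with rfl | rfl | rfl | rfl <;>
              simp_all [eq_comm]) (by
            have : ({u, b u, v, b v} : Finset (Fin n)).card ≤ 4 := card_le_four
            omega)
        have e1 := hgs u (by simp)
        have e2 := hgs (b u) (by simp)
        have e3 := hgs v (by simp)
        have e4 := hgs (b v) (by simp)
        simp only [if_true, h1.symm, if_false] at e1 e2
        simp only [h3, h4, h5, h6, h2.symm, if_true, if_false] at e3 e4
        have hag := hK g hg
        have h2le : ({x, y} : Finset (Fin n)) ⊆ univ.filter fun i => (g * b * g⁻¹) i = c i := by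
          intro i hi
          simp only [mem_insert, mem_singleton] at hi
          rw [mem_filter]
          refine ⟨mem_univ _, ?_⟩
          rcases hi with rfl | rfl
          · rw [← e1, conj_app, e2, e1]
          · rw [← e3, conj_app, e4, e3]
        have h3le := card_le_card h2le
        rw [card_pair k3.symm] at h3le
        unfold agr at hag
        omega
    · -- `fx b = 1`
      have h1 : fx b = 1 := by omega
      rw [h1] at hav
      have hK1 : (K : ℤ) = 1 := by
        have : ((n : ℤ) * (n - 1)) * K = (n * (n - 1)) * 1 := by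
          push_cast at hav
          linear_combination hav
        refine mul_left_cancel₀ ?_ this
        have : (n : ℤ) - 1 ≠ 0 := by omega
        have : (n : ℤ) ≠ 0 := by omega
        positivity
      have hK1' : K = 1 := by exact_mod_cast hK1
      subst hK1'
      -- fixed point of b and c, moved points
      obtain ⟨p, hp⟩ : ∃ p, b p = p := by
        have : 0 < (univ.filter fun i => b i = i).card := by
          show 0 < fx b
          omega
        obtain ⟨p, hp⟩ := card_pos.mp this
        exact ⟨p, (mem_filter.mp hp).2⟩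
      obtain ⟨q, hq⟩ : ∃ q, c q = q := by
        have : 0 < (univ.filter fun i => c i = i).card := by
          show 0 < fx c
          omega
        obtain ⟨p, hp⟩ := card_pos.mp this
        exact ⟨p, (mem_filter.mp hp).2⟩
      obtain ⟨u, hu⟩ : ∃ u, b u ≠ u := by
        by_contra hcon
        push Not at hcon
        exact hb (Equiv.ext hcon)
      obtain ⟨x, hx⟩ : ∃ u, c u ≠ u := by
        by_contra hcon
        push Not at hcon
        exact hc (Equiv.ext hcon)
      have hup : u ≠ p := by rintro rfl; exact hu hp
      have hbup : b u ≠ p := by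
        intro h
        apply hup
        apply b.injective
        rw [h, hp]
      have hxq : x ≠ q := by rintro rfl; exact hx hq
      have hcxq : c x ≠ q := by
        intro h
        apply hxq
        apply c.injective
        rw [h, hq]
      obtain ⟨g, hg, hgs⟩ := exists_even_extend (n := n) {u, b u, p}
          (fun z => if z = u then x else if z = b u then c x else q) (by
            have hb' : b u ≠ u := hu
            have hc' : c x ≠ x := hx
            clear hav hK hbz hcz hnz hbcz hb0 hK1 hb2 hc2 hbc
            intro r hr s hs hrs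
            simp only [coe_insert, coe_singleton, Set.mem_insert_iff, Set.mem_singleton_iff] at hr hs
            rcases hr with h | h | h <;> rcases hs with h' | h' | h' <;> subst h <;> subst h' <;>
              simp only [if_true, if_false, hb', hup.symm, hbup.symm] at hrs ⊢
            · exact absurd hrs.symm hc'
            · exact absurd hrs hxq
            · exact absurd hrs hc'
            · exact absurd hrs hcxq
            · exact absurd hrs.symm hxq
            · exact absurd hrs.symm hcxq) (by
            have : ({u, b u, p} : Finset (Fin n)).card ≤ 3 := card_le_three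
            omega)
      have e1 := hgs u (by simp)
      have e2 := hgs (b u) (by simp)
      have e3 := hgs p (by simp)
      simp only [if_true, hu, if_false] at e1 e2
      simp only [hup.symm, hbup.symm, if_false] at e3
      have hag := hK g hg
      have h2le : ({x, q} : Finset (Fin n)) ⊆ univ.filter fun i => (g * b * g⁻¹) i = c i := by
        intro i hi
        simp only [mem_insert, mem_singleton] at hi
        rw [mem_filter]
        refine ⟨mem_univ _, ?_⟩
        rcases hi with rfl | rfl
        · rw [← e1, conj_app, e2, e1]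
        · rw [← e3, conj_app, hp, e3, hq]
      have h3le := card_le_card h2le
      rw [card_pair hxq] at h3le
      unfold agr at hag
      omega
  · -- `2 ≤ fx b`
    obtain ⟨f, hf⟩ : ∃ f : Fin n → Fin n, Set.InjOn f (univ.filter fun i => b i = i : Finset (Fin n)) ∧
        ∀ i, b i = i → c (f i) = f i := by
      obtain ⟨t, ht, htc⟩ := exists_subset_card_eq (s := univ.filter fun i => c i = i) (n := fx b) hbc
      have e : {i // i ∈ (univ.filter fun i => b i = i)} ≃ {i // i ∈ t} := by
        refine Finset.equivOfCardEq ?_
        rw [htc]; rfl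
      refine ⟨fun i => if h : i ∈ (univ.filter fun i => b i = i) then (e ⟨i, h⟩ : Fin n) else i,
        ?_, ?_⟩
      · intro i hi j hj hij
        simp only [mem_coe] at hi hj
        simp only [dif_pos hi, dif_pos hj] at hij
        have := e.injective (Subtype.ext hij)
        exact congrArg Subtype.val this
      · intro i hi
        have hi' : i ∈ (univ.filter fun i => b i = i) := by simp [hi]
        simp only [dif_pos hi']
        exact (mem_filter.mp (ht (e ⟨i, hi'⟩).2)).2
    obtain ⟨g, hg, hgs⟩ := exists_even_extend _ f hf.1 hb2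
    have hag := hK g hg
    have hle : fx b ≤ K := by
      rw [← hag]
      unfold agr fx
      refine card_le_card_of_injOn g ?_ g.injective.injOn
      intro i hi
      have hi2 : b i = i := (mem_filter.mp hi).2
      rw [mem_coe, mem_filter]
      refine ⟨mem_univ _, ?_⟩
      rw [conj_app, hi2, hgs i hi, hf.2 i hi2]
    have hlez : (fx b : ℤ) ≤ K := by exact_mod_cast hle
    have hgez : (2 : ℤ) ≤ fx b := by exact_mod_cast hge
    -- K (n-1) = fc fb + n - fc - fb
    have h8 : (K : ℤ) * (n - 1) = fx c * fx b + n - fx c - fx b := by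
      have : (n : ℤ) * (K * (n - 1)) = n * (fx c * fx b + n - fx c - fx b) := by
        linear_combination hav
      exact mul_left_cancel₀ (by positivity) this
    nlinarith

end Agr

/-- Let n ≥ 5 and let a, b be non-identity permutations in the symmetric group S_n. Then the number of fixed points is not constant on the set of products a′b′ with a′ conjugate to a and b′ conjugate to b under the alternating group: there are even permutations g₁, h₁, g₂, h₂ such that (g₁ a g₁⁻¹)(h₁ b h₁⁻¹) and (g₂ a g₂⁻¹)(h₂ b h₂⁻¹) have different numbers of fixed points. -/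
theorem result (n : ℕ) (hn : 5 ≤ n) (a b : Equiv.Perm (Fin n)) (ha : a ≠ 1) (hb : b ≠ 1) :
    ∃ g₁ h₁ g₂ h₂ : Equiv.Perm (Fin n), g₁ ∈ alternatingGroup (Fin n) ∧ h₁ ∈ alternatingGroup (Fin n) ∧ g₂ ∈ alternatingGroup (Fin n) ∧ h₂ ∈ alternatingGroup (Fin n) ∧
      Nat.card (Function.fixedPoints ⇑(g₁ * a * g₁⁻¹ * (h₁ * b * h₁⁻¹))) ≠
        Nat.card (Function.fixedPoints ⇑(g₂ * a * g₂⁻¹ * (h₂ * b * h₂⁻¹))) := by
  by_contra hcon
  push Not at hcon
  have hcard : ∀ c d : Equiv.Perm (Fin n),
      Nat.card (Function.fixedPoints ⇑(c * d)) = agr c⁻¹ d := by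
    intro c d
    unfold agr
    rw [Nat.card_eq_fintype_card, Fintype.card_subtype]
    congr 1
    ext i
    simp only [mem_filter, mem_univ, true_and, Function.mem_fixedPoints, Function.IsFixedPt,
      Perm.mul_apply]
    rw [Equiv.Perm.eq_inv_iff_eq]
  have key : ∀ h ∈ alternatingGroup (Fin n), agr a⁻¹ (h * b * h⁻¹) = agr a⁻¹ b := by
    intro h hh
    have := hcon 1 h 1 1 (one_mem _) hh (one_mem _) (one_mem _)
    rw [hcard, hcard] at this
    simpa using this
  have ha' : a⁻¹ ≠ 1 := by simpa using ha
  rcases le_total (fx b) (fx a⁻¹) with hle | hle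
  · exact main hn b a⁻¹ hb ha' hle _ key
  · refine main hn a⁻¹ b ha' hb hle (agr a⁻¹ b) fun h hh => ?_
    have h1 := key h⁻¹ (inv_mem hh)
    rw [← agr_conj _ _ h, agr_comm] at h1
    rw [← h1]
    congr 1
    group

end Cfsg.Agent.S2271
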