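import Mathlib
import Cfsg.Agent.S0547
import Cfsg.Agent.S0548
import Cfsg.Agent.Lib.SubnormalJoin
import Mathlib.GroupTheory.SpecificGroups.Alternating.MaximalSubgroups
import Cfsg.Statements.S2276
set_option linter.all false

-- part: H106/RegPrim
section
set_option autoImplicit false

/-!
# Solvable primitive groups of degree `p ^ b` (`p` odd, `b ≥ 2`) contain no full cycle
-/

namespace Cfsg.Agent.H106.RegPrim

open Polynomial

/-- geometric sums in characteristic `p` -/
theorem geom_char {p : ℕ} [hp : Fact p.Prime] (s : ℕ) :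
    ∑ i ∈ Finset.range (p ^ s), (X : (ZMod p)[X]) ^ i = (X - 1) ^ (p ^ s - 1) := by
  have h1 : ((X : (ZMod p)[X]) - 1) * ∑ i ∈ Finset.range (p ^ s), (X : (ZMod p)[X]) ^ i = X ^ (p ^ s) - 1 :=
    mul_geom_sum X (p ^ s)
  have h2 : ((X : (ZMod p)[X]) - 1) ^ (p ^ s) = X ^ (p ^ s) - 1 := by
    rw [sub_pow_char_pow, one_pow]
  have hpos : 0 < p ^ s := pow_pos hp.out.pos s
  have h3 : ((X : (ZMod p)[X]) - 1) ^ (p ^ s) = (X - 1) * (X - 1) ^ (p ^ s - 1) := by
    rw [← pow_succ', Nat.sub_add_cancel hpos]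
  have hne : ((X : (ZMod p)[X]) - 1) ≠ 0 := X_sub_C_ne_zero (1 : ZMod p)
  apply mul_left_cancel₀ hne
  rw [h1, ← h2, h3]

/-- A linear map of order a power of `p` in dimension `b` over `ZMod p`. -/
theorem unipotent {p : ℕ} [hp : Fact p.Prime] {A : Type*} [AddCommGroup A] [Module (ZMod p) A]
    [Module.Finite (ZMod p) A] (T : Module.End (ZMod p) A) {s : ℕ} (hT : T ^ (p ^ s) = 1) {m : ℕ}
    (hm : Module.finrank (ZMod p) A ≤ m) : (T - 1) ^ m = 0 := by
  have h1 : (T - 1) ^ (p ^ s) = 0 := by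
    have h2 : (aeval T) (((X : (ZMod p)[X]) - 1) ^ (p ^ s)) = (aeval T) ((X : (ZMod p)[X]) ^ (p ^ s) - 1) := by
      rw [sub_pow_char_pow, one_pow]
    simpa [hT] using h2
  have h3 : IsNilpotent (T - 1) := ⟨_, h1⟩
  have h4 := LinearMap.aeval_self_charpoly (T - 1)
  rw [_root_.IsNilpotent.charpoly_eq_X_pow_finrank h3, map_pow, aeval_X] at h4
  exact pow_eq_zero_of_le hm h4

theorem le_pow {p b : ℕ} (hp : 3 ≤ p) (hb : 2 ≤ b) : b + 1 ≤ p ^ (b - 1) := by
  have h3 : ∀ n : ℕ, n + 3 ≤ 3 ^ (n + 1) := by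
    intro n
    induction n with
    | zero => norm_num
    | succ n ih => rw [pow_succ]; omega
  have h4 := h3 (b - 2)
  have h5 : 3 ^ (b - 2 + 1) ≤ p ^ (b - 2 + 1) := Nat.pow_le_pow_left hp _
  have h6 : b - 2 + 1 = b - 1 := by omega
  rw [h6] at h4 h5
  omega

theorem end_form {p b : ℕ} [hp : Fact p.Prime] (hp2 : p ≠ 2) (hb : 2 ≤ b)
    {A : Type*} [AddCommGroup A] [Module (ZMod p) A]
    [Module.Finite (ZMod p) A] (hr : Module.finrank (ZMod p) A = b) (T : Module.End (ZMod p) A)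
    (hT : T ^ (p ^ b) = 1) :
    T ^ (p ^ (b - 1)) = 1 ∧ ∑ i ∈ Finset.range (p ^ (b - 1)), T ^ i = 0 := by
  have hp3 : 3 ≤ p := by
    have := hp.out.two_le
    omega
  have hle := le_pow hp3 hb
  constructor
  · have h2 : (aeval T) (((X : (ZMod p)[X]) - 1) ^ (p ^ (b - 1))) =
        (aeval T) ((X : (ZMod p)[X]) ^ (p ^ (b - 1)) - 1) := by
      rw [sub_pow_char_pow, one_pow]
    have h3 := unipotent T hT (m := p ^ (b - 1)) (by rw [hr]; omega)
    rw [map_pow, map_sub, aeval_X, map_one, h3, map_sub, map_pow, aeval_X, map_one] at h2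
    exact (sub_eq_zero.1 h2.symm)
  · have h1 := congrArg (aeval T) (geom_char (p := p) (b - 1))
    rw [map_sum, map_pow, map_sub, aeval_X, map_one,
      unipotent T hT (m := p ^ (b - 1) - 1) (by rw [hr]; omega)] at h1
    rw [← h1]
    refine Finset.sum_congr rfl fun i _ => ?_
    rw [map_pow, aeval_X]

theorem addAut_form' {p b : ℕ} [hp : Fact p.Prime] (hp2 : p ≠ 2) (hb : 2 ≤ b)
    {A : Type*} [AddCommGroup A] [iM : Module (ZMod p) A] [Finite A] (hcard : Nat.card A = p ^ b)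
    (f : ℕ → A →+ A) (hf0 : f 0 = AddMonoidHom.id A) (hfs : ∀ n, f (n + 1) = (f n).comp (f 1))
    (hf : f (p ^ b) = AddMonoidHom.id A) :
    f (p ^ (b - 1)) = AddMonoidHom.id A ∧ ∀ v : A, ∑ i ∈ Finset.range (p ^ (b - 1)), f i v = 0 := by
  have hfr : Module.finrank (ZMod p) A = b := by
    have h1 := Module.natCard_eq_pow_finrank (K := ZMod p) (V := A)
    rw [Nat.card_zmod, hcard] at h1
    exact (Nat.pow_right_injective hp.out.two_le h1).symm
  let T : Module.End (ZMod p) A := (f 1).toZModLinearMap p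
  have hT : ∀ n x, (T ^ n) x = f n x := by
    intro n
    induction n with
    | zero =>
      intro x
      rw [pow_zero, hf0]
      rfl
    | succ n ih =>
      intro x
      rw [pow_succ, Module.End.mul_apply, ih, hfs]
      rfl
  obtain ⟨h1, h2⟩ := end_form hp2 hb hfr T (LinearMap.ext fun x => by rw [hT, hf]; rfl)
  constructor
  · ext x
    rw [← hT, h1]
    rfl
  · intro v
    have h3 := congrArg (fun g : Module.End (ZMod p) A => g v) h2
    simp only [LinearMap.sum_apply, hT] at h3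
    exact h3

theorem addAut_form {p b : ℕ} [hp : Fact p.Prime] (hp2 : p ≠ 2) (hb : 2 ≤ b)
    {A : Type*} [AddCommGroup A] [Finite A] (hcard : Nat.card A = p ^ b) (hV : ∀ v : A, p • v = 0)
    (f : ℕ → A →+ A) (hf0 : f 0 = AddMonoidHom.id A) (hfs : ∀ n, f (n + 1) = (f n).comp (f 1))
    (hf : f (p ^ b) = AddMonoidHom.id A) :
    f (p ^ (b - 1)) = AddMonoidHom.id A ∧ ∀ v : A, ∑ i ∈ Finset.range (p ^ (b - 1)), f i v = 0 :=
  addAut_form' (iM := AddCommGroup.zmodModule hV) hp2 hb hcard f hf0 hfs hf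

theorem mulAut_form {p b : ℕ} [hp : Fact p.Prime] (hp2 : p ≠ 2) (hb : 2 ≤ b)
    {V : Type*} [CommGroup V] [Finite V] (hcard : Nat.card V = p ^ b) (hV : ∀ v : V, v ^ p = 1)
    (f : MulAut V) (hf : f ^ (p ^ b) = 1) :
    f ^ (p ^ (b - 1)) = 1 ∧ ∀ v : V, ∏ i ∈ Finset.range (p ^ (b - 1)), (f ^ i) v = 1 := by
  have h := addAut_form (A := Additive V) hp2 hb hcard (fun v => hV v.toMul)
    (fun n => MonoidHom.toAdditive (f ^ n).toMonoidHom) rfl (fun n => by
      refine AddMonoidHom.ext fun x => ?_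
      change Additive.ofMul ((f ^ (n + 1)) x.toMul) = Additive.ofMul ((f ^ n) ((f ^ 1) x.toMul))
      rw [pow_succ, pow_one]
      rfl) (by
      refine AddMonoidHom.ext fun x => ?_
      change Additive.ofMul ((f ^ (p ^ b)) x.toMul) = x
      rw [hf]
      rfl)
  constructor
  · ext v
    exact congrArg (fun g : Additive V →+ Additive V => (g (Additive.ofMul v)).toMul) h.1
  · intro v
    exact h.2 (Additive.ofMul v)

/-- the group form -/
theorem pow_eq_one {G : Type*} [Group G] [Finite G] {p b : ℕ} [hp : Fact p.Prime] (hp2 : p ≠ 2)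
    (hb : 2 ≤ b) (M : Subgroup G) [M.Normal] (hMc : ∀ x ∈ M, ∀ y ∈ M, x * y = y * x)
    (hMp : ∀ x ∈ M, x ^ p = 1) (hcard : Nat.card M = p ^ b) (w m h : G) (hm : m ∈ M)
    (hw : w = m * h) (hwp : w ^ (p ^ b) = 1)
    (hf : ∀ k : ℕ, (∀ x ∈ M, h ^ k * x = x * h ^ k) → h ^ k = 1) : w ^ (p ^ (b - 1)) = 1 := by
  classical
  let iC : CommGroup M :=
    { (inferInstance : Group M) with
      mul_comm := fun x y => Subtype.ext (hMc x x.2 y y.2) }
  let c : G →* MulAut M := MulAut.conjNormal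
  have hcm : c m = 1 := by
    ext x
    change m * (x : G) * m⁻¹ = x
    rw [hMc m hm _ x.2, mul_inv_cancel_right]
  have hcw : c w = c h := by rw [hw, map_mul, hcm, one_mul]
  obtain ⟨h1, h2⟩ := mulAut_form hp2 hb hcard (fun v => Subtype.ext (by simpa using hMp v v.2)) (c h)
    (by rw [← hcw, ← map_pow, hwp, map_one])
  have hhk : h ^ (p ^ (b - 1)) = 1 := by
    apply hf
    intro x hx
    have h3 : c (h ^ (p ^ (b - 1))) ⟨x, hx⟩ = ⟨x, hx⟩ := by
      rw [map_pow, h1]
      rfl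
    have h4 : h ^ (p ^ (b - 1)) * x * (h ^ (p ^ (b - 1)))⁻¹ = x := congrArg Subtype.val h3
    exact mul_inv_eq_iff_eq_mul.1 h4
  have hpow : ∀ k : ℕ, w ^ k = ((∏ i ∈ Finset.range k, ((c h) ^ i) ⟨m, hm⟩ : M) : G) * h ^ k := by
    intro k
    induction k with
    | zero => simp
    | succ k ih =>
      have h3 : (((c h ^ k) ⟨m, hm⟩ : M) : G) = h ^ k * m * (h ^ k)⁻¹ := by
        rw [← map_pow]
        rfl
      rw [pow_succ, ih, Finset.prod_range_succ]
      change _ = ((∏ i ∈ Finset.range k, ((c h) ^ i) ⟨m, hm⟩ : M) : G) * (((c h ^ k) ⟨m, hm⟩ : M) : G) * _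
      rw [h3, hw, pow_succ]
      group
  rw [hpow, hhk, mul_one, h2]
  rfl

/-- A solvable primitive group of degree `p ^ b`, `p` odd and `b ≥ 2`, contains no element which is
transitive. -/
theorem false_of_solvable {G : Type*} [Group G] [Finite G] [Group.IsSolvable G] {Ω : Type*}
    [MulAction G Ω] [FaithfulSMul G Ω] (hprim : MulAction.IsPreprimitive G Ω) {p b : ℕ}
    [hp : Fact p.Prime] (hp2 : p ≠ 2) (hb : 2 ≤ b) (hcard : Nat.card Ω = p ^ b) (w : G)
    (hw : ∀ x y : Ω, ∃ k : ℕ, w ^ k • x = y) : False := by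
  classical
  have hpos : 0 < p ^ b := pow_pos hp.out.pos b
  have hfinΩ : Finite Ω := Nat.finite_of_card_ne_zero (by omega)
  have hne : Nonempty Ω := by
    rw [← not_isEmpty_iff]
    intro h
    rw [Nat.card_of_isEmpty] at hcard
    omega
  obtain ⟨ω⟩ := hne
  have hle := le_pow (p := p) (by have := hp.out.two_le; omega) hb
  have hlt : p ^ (b - 1) < p ^ b := Nat.pow_lt_pow_right hp.out.one_lt (by omega)
  have hnt : Nontrivial Ω := by
    rw [← Finite.one_lt_card_iff_nontrivial, hcard]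
    omega
  have hntG : Nontrivial G := by
    by_contra h
    rw [not_nontrivial_iff_subsingleton] at h
    obtain ⟨x, y, hxy⟩ := hnt
    obtain ⟨k, hk⟩ := hw x y
    apply hxy
    rw [← hk, Subsingleton.elim (w ^ k) 1, one_smul]
  obtain ⟨M, hMn, hM, hmin⟩ := Cfsg.Agent.Lib.SubnormalJoin.exists_minimal_normal G
  have hcomm := Cfsg.Agent.SolvableStructure.MinimalNormal.comm_of_minimal_normal M hM hmin
  obtain ⟨r, d, hr, hd, hMcard, hMr⟩ :=
    Cfsg.Agent.SolvableStructure.MinimalNormal.exists_prime_of_minimal_normal M hM hmin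
  obtain ⟨htr, hst, -⟩ := Cfsg.Agent.S0547.result hprim M hM hmin
  obtain ⟨hcompl, hcent, -⟩ := Cfsg.Agent.S0548.result hprim M hM hmin ω
  have hcΩ : Nat.card Ω = Nat.card M := by
    have hinj : Function.Bijective (fun m : M => m • ω) := by
      constructor
      · intro x y hxy
        have h1 : x⁻¹ * y ∈ MulAction.stabilizer M ω := by
          rw [MulAction.mem_stabilizer_iff, mul_smul]
          exact inv_smul_eq_iff.2 hxy.symm
        rw [hst ω, Subgroup.mem_bot] at h1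
        exact eq_of_inv_mul_eq_one h1
      · intro y
        exact MulAction.exists_smul_eq M ω y
    exact (Nat.card_congr (Equiv.ofBijective _ hinj)).symm
  rw [hcΩ, hMcard] at hcard
  have hrp : r = p := by
    have h1 : r ∣ p ^ b := by
      rw [← hcard]
      exact dvd_pow_self r hd.ne'
    exact (Nat.prime_dvd_prime_iff_eq hr hp.out).1 (hr.dvd_of_dvd_pow h1)
  subst hrp
  -- the decomposition of `w`
  obtain ⟨⟨m, h⟩, hmh⟩ := hcompl.2 w
  have hmh' : w = (m : G) * (h : G) := hmh.symm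
  -- the order of `w`
  have hper : Function.minimalPeriod (w • ·) ω = r ^ b := by
    have hfin : Fintype (MulAction.orbit (Subgroup.zpowers w) ω) := Fintype.ofFinite _
    rw [MulAction.minimalPeriod_eq_card, ← Nat.card_eq_fintype_card]
    have h1 : MulAction.orbit (Subgroup.zpowers w) ω = Set.univ := by
      rw [Set.eq_univ_iff_forall]
      intro y
      obtain ⟨k, hk⟩ := hw ω y
      exact ⟨⟨w ^ k, k, by simp⟩, hk⟩
    rw [h1, Nat.card_congr (Equiv.Set.univ Ω), hcΩ, hMcard, hcard]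
  have hwk : ∀ k : ℕ, w ^ k • ω = ω ↔ r ^ b ∣ k := by
    intro k
    rw [← hper]
    have h1 : (w ^ k • ω = ω) ↔ Function.IsPeriodicPt (w • ·) k ω := by
      rw [Function.IsPeriodicPt, Function.IsFixedPt, smul_iterate]
    rw [h1]
    exact Function.isPeriodicPt_iff_minimalPeriod_dvd
  have hwp : w ^ (r ^ b) = 1 := by
    apply FaithfulSMul.eq_of_smul_eq_smul (α := Ω)
    intro y
    obtain ⟨k, hk⟩ := hw ω y
    rw [← hk, ← mul_smul, ← pow_add, add_comm, pow_add, mul_smul, (hwk _).2 dvd_rfl, one_smul]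
  have h1 := pow_eq_one hp2 hb M hcomm hMr (hMcard.trans hcard) w m h m.2 hmh' hwp (by
    intro k hk
    have h2 : (h : G) ^ k ∈ MulAction.stabilizer G ω ⊓ Subgroup.centralizer (M : Set G) := by
      refine ⟨pow_mem h.2 k, ?_⟩
      intro x hx
      exact (hk x hx).symm
    rwa [hcent, Subgroup.mem_bot] at h2)
  have h2 := (hwk (r ^ (b - 1))).1 (by rw [h1, one_smul])
  have h3 := Nat.le_of_dvd (pow_pos hr.pos _) h2
  omega

end Cfsg.Agent.H106.RegPrim
end

-- part: H106/CycPrim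
section
set_option autoImplicit false

/-!
# Groups containing the full cycle of `ZMod (p ^ b)`
-/

namespace Cfsg.Agent.H106.CycPrim

open scoped Pointwise

theorem exists_nsmul {p b : ℕ} [hp : Fact p.Prime] {x : ZMod (p ^ b)} (hx : x ≠ 0) :
    ∃ n : ℕ, n • x = ((p ^ (b - 1) : ℕ) : ZMod (p ^ b)) := by
  have : NeZero (p ^ b) := ⟨(pow_pos hp.out.pos b).ne'⟩
  have hv0 : x.val ≠ 0 := by
    rw [Ne, ZMod.val_eq_zero]
    exact hx
  obtain ⟨i, y, hy, hiy⟩ := Nat.exists_eq_pow_mul_and_not_dvd hv0 p hp.out.ne_one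
  have hib : i < b := by
    by_contra h
    have h1 : p ^ b ≤ x.val := by
      rw [hiy]
      calc p ^ b ≤ p ^ i := Nat.pow_le_pow_right hp.out.pos (not_lt.1 h)
        _ ≤ p ^ i * y := Nat.le_mul_of_pos_right _ (Nat.pos_of_ne_zero (by
            rintro rfl
            exact hy (dvd_zero p)))
    exact absurd (ZMod.val_lt x) (not_lt.2 h1)
  have hcop : Nat.Coprime y (p ^ b) := by
    apply Nat.Coprime.pow_right
    rw [Nat.coprime_comm, Nat.Prime.coprime_iff_not_dvd hp.out]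
    exact hy
  refine ⟨((y : ZMod (p ^ b))⁻¹).val * p ^ (b - 1 - i), ?_⟩
  rw [nsmul_eq_mul]
  push_cast
  rw [ZMod.natCast_val, ZMod.cast_id', id_eq]
  have h1 : x = (p : ZMod (p ^ b)) ^ i * y := by
    conv_lhs => rw [← ZMod.natCast_zmod_val x, hiy]
    push_cast
    rfl
  rw [h1]
  have h2 : (y : ZMod (p ^ b)) * (y : ZMod (p ^ b))⁻¹ = 1 := ZMod.coe_mul_inv_eq_one y hcop
  have h3 : (p : ZMod (p ^ b)) ^ (b - 1) = p ^ (b - 1 - i) * p ^ i := by
    rw [← pow_add]
    congr 1
    omega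
  rw [h3]
  linear_combination ((p : ZMod (p ^ b)) ^ (b - 1 - i) * p ^ i) * h2

/-- A group containing the full cycle `x ↦ x + 1` and an element `u` with `u (x + p^(b-1)) = u x + 1` for
some `x` is primitive. -/
theorem isPreprimitive {p b : ℕ} [hp : Fact p.Prime] (G : Subgroup (Equiv.Perm (ZMod (p ^ b))))
    {c u : Equiv.Perm (ZMod (p ^ b))} (hc : ∀ x, c x = x + 1) (hcG : c ∈ G) (huG : u ∈ G)
    {x₀ : ZMod (p ^ b)} (hu : u (x₀ + ((p ^ (b - 1) : ℕ) : ZMod (p ^ b))) = u x₀ + 1) :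
    MulAction.IsPreprimitive G (ZMod (p ^ b)) := by
  have : NeZero (p ^ b) := ⟨(pow_pos hp.out.pos b).ne'⟩
  have hcpow : ∀ (n : ℕ) (x : ZMod (p ^ b)), (c ^ n) x = x + n := by
    intro n
    induction n with
    | zero => intro x; simp
    | succ n ih =>
      intro x
      rw [pow_succ, Equiv.Perm.mul_apply, ih, hc]
      push_cast
      ring
  -- translations
  let t : ZMod (p ^ b) → G := fun k => ⟨c ^ k.val, G.pow_mem hcG _⟩
  have ht : ∀ k x : ZMod (p ^ b), t k • x = x + k := by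
    intro k x
    change (c ^ k.val) x = x + k
    rw [hcpow, ZMod.natCast_val, ZMod.cast_id', id_eq]
  have htr : MulAction.IsPretransitive G (ZMod (p ^ b)) := by
    refine ⟨fun x y => ⟨t (y - x), ?_⟩⟩
    rw [ht]
    ring
  refine { isTrivialBlock_of_isBlock := ?_ }
  intro B hB
  by_cases hsub : B.Subsingleton
  · exact Or.inl hsub
  right
  rw [Set.not_subsingleton_iff] at hsub
  obtain ⟨a, ha, a', ha', haa⟩ := hsub
  -- the stabilizer of `B` in the translations
  have hstab : ∀ k : ZMod (p ^ b), (∃ x ∈ B, x + k ∈ B) → t k • B = B := by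
    rintro k ⟨x, hx, hxk⟩
    apply hB.smul_eq_of_nonempty
    refine ⟨x + k, ?_, hxk⟩
    rw [← ht k x]
    exact Set.smul_mem_smul_set hx
  have hmem : ∀ k : ZMod (p ^ b), t k • B = B → ∀ x ∈ B, x + k ∈ B := by
    intro k hk x hx
    rw [← hk, ← ht k x]
    exact Set.smul_mem_smul_set hx
  have hmul : ∀ k : ZMod (p ^ b), t k • B = B → ∀ n : ℕ, ∀ x ∈ B, x + n • k ∈ B := by
    intro k hk n
    induction n with
    | zero => intro x hx; simpa using hx
    | succ n ih =>
      intro x hx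
      have h1 := hmem k hk _ (ih x hx)
      rwa [add_assoc, ← succ_nsmul] at h1
  have hk0 : t (a' - a) • B = B := hstab _ ⟨a, ha, by simpa using ha'⟩
  obtain ⟨n, hn⟩ := exists_nsmul (sub_ne_zero.2 haa.symm)
  have hq : ∀ x ∈ B, x + ((p ^ (b - 1) : ℕ) : ZMod (p ^ b)) ∈ B := by
    intro x hx
    rw [← hn]
    exact hmul _ hk0 n x hx
  -- an element moving `a` to `x₀`
  let g : G := (t (x₀ - a))⁻¹ * t (x₀ - u x₀) * ⟨u, huG⟩ * t (x₀ - a)
  have hg : ∀ y : ZMod (p ^ b), g • y = u (y + (x₀ - a)) + (a - u x₀) := by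
    intro y
    change ((t (x₀ - a))⁻¹ * t (x₀ - u x₀) * ⟨u, huG⟩ * t (x₀ - a)) • y = _
    rw [mul_smul, mul_smul, mul_smul, inv_smul_eq_iff, ht, ht, ht]
    change u (y + (x₀ - a)) + (x₀ - u x₀) = u (y + (x₀ - a)) + (a - u x₀) + (x₀ - a)
    ring
  have hga : g • a = a := by
    rw [hg]
    have h1 : a + (x₀ - a) = x₀ := by ring
    rw [h1]
    ring
  have hgB : g • B = B := by
    apply hB.smul_eq_of_nonempty
    refine ⟨a, ?_, ha⟩
    rw [← hga]
    exact Set.smul_mem_smul_set ha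
  have h1 : g • (a + ((p ^ (b - 1) : ℕ) : ZMod (p ^ b))) ∈ B := by
    rw [← hgB]
    exact Set.smul_mem_smul_set (hq a ha)
  rw [hg] at h1
  have h2 : a + ((p ^ (b - 1) : ℕ) : ZMod (p ^ b)) + (x₀ - a) = x₀ + ((p ^ (b - 1) : ℕ) : ZMod (p ^ b)) := by
    ring
  rw [h2, hu] at h1
  have h3 : a + 1 ∈ B := by
    have : u x₀ + 1 + (a - u x₀) = a + 1 := by ring
    rwa [this] at h1
  have h4 := hmul _ (hstab 1 ⟨a, ha, h3⟩)
  rw [Set.eq_univ_iff_forall]
  intro y
  have h5 := h4 (y - a).val a ha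
  rw [nsmul_one, ZMod.natCast_val, ZMod.cast_id', id_eq] at h5
  simpa using h5

/-- ... and not solvable, if `p` is odd and `b ≥ 2`. -/
theorem not_isSolvable {p b : ℕ} [hp : Fact p.Prime] (hp2 : p ≠ 2) (hb : 2 ≤ b)
    (G : Subgroup (Equiv.Perm (ZMod (p ^ b))))
    {c u : Equiv.Perm (ZMod (p ^ b))} (hc : ∀ x, c x = x + 1) (hcG : c ∈ G) (huG : u ∈ G)
    {x₀ : ZMod (p ^ b)} (hu : u (x₀ + ((p ^ (b - 1) : ℕ) : ZMod (p ^ b))) = u x₀ + 1) :
    ¬ Group.IsSolvable G := by
  intro hsol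
  have : NeZero (p ^ b) := ⟨(pow_pos hp.out.pos b).ne'⟩
  have hprim := isPreprimitive G hc hcG huG hu
  refine Cfsg.Agent.H106.RegPrim.false_of_solvable hprim hp2 hb (Nat.card_zmod _) ⟨c, hcG⟩ ?_
  intro x y
  have hcpow : ∀ (n : ℕ) (x : ZMod (p ^ b)), (c ^ n) x = x + n := by
    intro n
    induction n with
    | zero => intro x; simp
    | succ n ih =>
      intro x
      rw [pow_succ, Equiv.Perm.mul_apply, ih, hc]
      push_cast
      ring
  refine ⟨(y - x).val, ?_⟩
  change (c ^ (y - x).val) x = y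
  rw [hcpow, ZMod.natCast_val, ZMod.cast_id', id_eq]
  ring

end Cfsg.Agent.H106.CycPrim
end

-- part: H106/LocPair
section
set_option autoImplicit false

/-!
# Pairs of permutations generating a non-solvable group, with product of order not a power of `p`
-/

namespace Cfsg.Agent.H106.LocPair

open Equiv Equiv.Perm Cfsg.Agent.H106.CycPrim
open scoped commutatorElement

/-- the property to be achieved -/
def Good {G : Type*} [Group G] (p : ℕ) (u v : G) : Prop :=
  (¬ ∃ k : ℕ, orderOf (u * v) = p ^ k) ∧ ¬ Group.IsSolvable (Subgroup.closure ({u, v} : Set G))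

theorem Good.symm {G : Type*} [Group G] {p : ℕ} {u v : G} (h : Good p u v) : Good p v u := by
  obtain ⟨h1, h2⟩ := h
  refine ⟨?_, ?_⟩
  · rintro ⟨k, hk⟩
    apply h1
    refine ⟨k, ?_⟩
    rw [← hk]
    have h3 : u * v = v⁻¹ * (v * u) * v := by group
    have h4 : u * v = MulAut.conj v⁻¹ (v * u) := by
      rw [MulAut.conj_apply, inv_inv, h3]
    rw [h4]
    exact (MulAut.conj v⁻¹ : G ≃* G).orderOf_eq (v * u)
  · rwa [Set.pair_comm]

theorem Good.conj {G : Type*} [Group G] {p : ℕ} {u v : G} (h : Good p u v) (g : G) :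
    Good p (g * u * g⁻¹) (g * v * g⁻¹) := by
  obtain ⟨h1, h2⟩ := h
  refine ⟨?_, ?_⟩
  · rintro ⟨k, hk⟩
    apply h1
    refine ⟨k, ?_⟩
    rw [← hk]
    have h4 : g * u * g⁻¹ * (g * v * g⁻¹) = MulAut.conj g (u * v) := by
      rw [MulAut.conj_apply]
      group
    rw [h4]
    exact ((MulAut.conj g : G ≃* G).orderOf_eq (u * v)).symm
  · intro hs
    apply h2
    have h5 : (Subgroup.closure ({u, v} : Set G)).map (MulAut.conj g : G ≃* G).toMonoidHom =
        Subgroup.closure ({g * u * g⁻¹, g * v * g⁻¹} : Set G) := by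
      rw [MonoidHom.map_closure, Set.image_pair]
      rfl
    rw [← h5] at hs
    let e := (Subgroup.closure ({u, v} : Set G)).equivMapOfInjective
      (MulAut.conj g : G ≃* G).toMonoidHom (MulAut.conj g).injective
    exact Group.isSolvable_of_surjective (f := e.symm.toMonoidHom) e.symm.surjective

/-- criterion for non-solvability -/
theorem not_isSolvable_of_key {G : Type*} [Group G] (H : Subgroup G) {x y z : G} (hx : x ∈ H) (hy : y ∈ H)
    (hz : z ∈ H) (hx1 : x ≠ 1) (key : x = z * ⁅x, y * x * y⁻¹⁆ * z⁻¹) : ¬ Group.IsSolvable H := by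
  refine _root_.not_isSolvable_of_mem_derivedSeries (g := (⟨x, hx⟩ : H)) (fun h => hx1 (congrArg Subtype.val h)) fun n => ?_
  have key' : (⟨x, hx⟩ : H) = ⟨z, hz⟩ * ⁅(⟨x, hx⟩ : H), ⟨y, hy⟩ * ⟨x, hx⟩ * (⟨y, hy⟩ : H)⁻¹⁆ * (⟨z, hz⟩ : H)⁻¹ :=
    Subtype.ext key
  induction n with
  | zero => exact Subgroup.mem_top _
  | succ n ih =>
    rw [key', (derivedSeries_normal _ _).mem_comm_iff, inv_mul_cancel_left]
    exact Subgroup.commutator_mem_commutator ih ((derivedSeries_normal _ _).conj_mem _ ih _)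

/-- an element with a point of period 2 does not have odd prime power order -/
theorem not_orderOf_of_period_two {T : Type*} (f : Perm T) {p : ℕ} (hp : Odd p) {x : T}
    (h1 : f (f x) = x) (h2 : f x ≠ x) : ¬ ∃ k : ℕ, orderOf f = p ^ k := by
  rintro ⟨k, hk⟩
  have h3 : f ^ (p ^ k) = 1 := by rw [← hk, pow_orderOf_eq_one]
  obtain ⟨m, hm⟩ := hp.pow (n := k)
  rw [hm, pow_succ, pow_mul] at h3
  have h4 : ∀ n : ℕ, ((f ^ 2) ^ n) (f x) = f x := by
    intro n
    induction n with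
    | zero => simp
    | succ n ih =>
      have h5 : (f ^ 2) (f x) = f x := by
        rw [pow_two, mul_apply, h1]
      rw [pow_succ, mul_apply, h5, ih]
  apply h2
  have h6 := congrFun (congrArg DFunLike.coe h3) x
  rw [mul_apply, h4] at h6
  exact h6

theorem not_isSolvable_alternating {T : Type*} [Fintype T] [DecidableEq T] (hT : 5 ≤ Fintype.card T) :
    ¬ Group.IsSolvable (alternatingGroup T) := by
  intro h
  have h1 : Group.IsSolvable (Perm T) := by
    refine Group.isSolvable_of_ker_le_range (alternatingGroup T).subtype (sign : Perm T →* ℤˣ) ?_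
    rw [Subgroup.range_subtype]
    intro x hx
    exact hx
  refine Equiv.Perm.not_isSolvable T ?_ h1
  rw [Cardinal.mk_fintype]
  exact_mod_cast hT

/-- extension of a partial injection to permutations of both signs -/
theorem exists_ext {T : Type*} [Fintype T] [DecidableEq T] {k : ℕ} (hk : k + 2 ≤ Fintype.card T)
    (x y : Fin k → T) (hx : Function.Injective x) (hy : Function.Injective y) :
    ∃ t1 t2 : Perm T, sign t1 ≠ sign t2 ∧ (∀ i, t1 (x i) = y i) ∧ ∀ i, t2 (x i) = y i := by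
  classical
  let e : {z // z ∈ Set.range x} ≃ {z // z ∈ Set.range y} :=
    (Equiv.ofInjective x hx).symm.trans (Equiv.ofInjective y hy)
  have h1 : ∀ i, e.extendSubtype (x i) = y i := by
    intro i
    rw [Equiv.extendSubtype_apply_of_mem e (x i) ⟨i, rfl⟩]
    have h2 : (Equiv.ofInjective x hx).symm ⟨x i, ⟨i, rfl⟩⟩ = i := by
      rw [Equiv.symm_apply_eq]
      rfl
    change ((Equiv.ofInjective y hy) ((Equiv.ofInjective x hx).symm ⟨x i, ⟨i, rfl⟩⟩) : T) = y i
    rw [h2]
    rfl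
  obtain ⟨a, ha, b, hb, hab⟩ : ∃ a ∈ (Finset.univ.image y)ᶜ, ∃ b ∈ (Finset.univ.image y)ᶜ, a ≠ b := by
    apply Finset.one_lt_card.1
    rw [Finset.card_compl, Finset.card_image_of_injective _ hy, Finset.card_univ, Fintype.card_fin]
    omega
  have hnot : ∀ c ∈ (Finset.univ.image y)ᶜ, ∀ i, y i ≠ c := by
    intro c hc i h
    rw [Finset.mem_compl] at hc
    exact hc (h ▸ Finset.mem_image_of_mem y (Finset.mem_univ i))
  refine ⟨e.extendSubtype, swap a b * e.extendSubtype, ?_, h1, ?_⟩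
  · rw [Perm.sign_mul, sign_swap hab]
    intro h
    rcases Int.units_eq_one_or (sign e.extendSubtype) with h2 | h2 <;> rw [h2] at h <;> exact absurd h (by decide)
  · intro i
    rw [mul_apply, h1, swap_apply_of_ne_of_ne (hnot a ha i) (hnot b hb i)]

section GeTwo

variable {p b : ℕ} [hp : Fact p.Prime]

/-- the full cycle -/
def cyc (N : ℕ) : Perm (ZMod N) := Equiv.addRight 1

theorem cyc_apply {N : ℕ} (x : ZMod N) : cyc N x = x + 1 := rfl

theorem good_of_constraints (hp2 : p ≠ 2) (hb : 2 ≤ b) (v : Perm (ZMod (p ^ b)))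
    (h : (v 0 = 0 ∧ v ((p ^ (b - 1) : ℕ) : ZMod (p ^ b)) = 1 ∧ v 1 = -1) ∨
      (v ((p ^ (b - 1) : ℕ) : ZMod (p ^ b)) = 2 ∧ v 2 = -1 ∧ v 0 = 1)) : Good p v (cyc (p ^ b)) := by
  have hodd : Odd p := hp.out.odd_of_ne_two hp2
  have hne : (-1 : ZMod (p ^ b)) ≠ 0 := by
    have h1 : Fact (1 < p ^ b) := ⟨Nat.one_lt_pow (by omega) hp.out.one_lt⟩
    exact neg_ne_zero.2 one_ne_zero
  have hne' : (-1 : ZMod (p ^ b)) ≠ 1 := by
    intro h1
    have h2 : ((2 : ℕ) : ZMod (p ^ b)) = 0 := by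
      push_cast
      linear_combination -h1
    rw [ZMod.natCast_eq_zero_iff] at h2
    have h3 : p ∣ 2 := (dvd_pow_self p (by omega)).trans h2
    exact hp2 ((Nat.prime_dvd_prime_iff_eq hp.out Nat.prime_two).1 h3)
  constructor
  · rcases h with ⟨h0, hq, h1⟩ | ⟨hq, h2, h0⟩
    · refine not_orderOf_of_period_two _ hodd (x := -1) ?_ ?_
      · simp only [mul_apply, cyc_apply, neg_add_cancel, h0, zero_add, h1]
      · simp only [mul_apply, cyc_apply, neg_add_cancel, h0]
        exact hne.symm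
    · refine not_orderOf_of_period_two _ hodd (x := -1) ?_ ?_
      · simp only [mul_apply, cyc_apply, neg_add_cancel, h0]
        rw [one_add_one_eq_two, h2]
      · simp only [mul_apply, cyc_apply, neg_add_cancel, h0]
        exact hne'.symm
  · refine not_isSolvable hp2 hb _ (c := cyc (p ^ b)) (u := v) cyc_apply
      (Subgroup.subset_closure (by simp)) (Subgroup.subset_closure (by simp)) (x₀ := 0) ?_
    rw [zero_add]
    rcases h with ⟨h0, hq, h1⟩ | ⟨hq, h2, h0⟩
    · rw [h0, hq, zero_add]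
    · rw [h0, hq, one_add_one_eq_two]

theorem natCast_ne {N a c : ℕ} (ha : a < N) (hc : c < N) (hac : a ≠ c) : (a : ZMod N) ≠ (c : ZMod N) := by
  intro h
  rw [ZMod.natCast_eq_natCast_iff'] at h
  rw [Nat.mod_eq_of_lt ha, Nat.mod_eq_of_lt hc] at h
  exact hac h

/-- the constraints on the conjugate of `u` -/
def Constr {N : ℕ} (q : ℕ) (v : Perm (ZMod N)) : Prop :=
  (v 0 = 0 ∧ v (q : ZMod N) = 1 ∧ v 1 = -1) ∨ (v (q : ZMod N) = 2 ∧ v 2 = -1 ∧ v 0 = 1)

theorem inj_four {N : ℕ} {a b c d : ZMod N} (h1 : a ≠ b) (h2 : a ≠ c) (h3 : a ≠ d) (h4 : b ≠ c)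
    (h5 : b ≠ d) (h6 : c ≠ d) : Function.Injective ![a, b, c, d] := by
  intro i j hij
  fin_cases i <;> fin_cases j <;> simp at hij ⊢ <;>
    first
      | exact h1 hij | exact h2 hij | exact h3 hij | exact h4 hij | exact h5 hij | exact h6 hij
      | exact h1 hij.symm | exact h2 hij.symm | exact h3 hij.symm | exact h4 hij.symm
      | exact h5 hij.symm | exact h6 hij.symm

theorem inj_five {N : ℕ} {a b c d e : ZMod N} (h1 : a ≠ b) (h2 : a ≠ c) (h3 : a ≠ d) (h4 : a ≠ e)
    (h5 : b ≠ c) (h6 : b ≠ d) (h7 : b ≠ e) (h8 : c ≠ d) (h9 : c ≠ e) (h10 : d ≠ e) :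
    Function.Injective ![a, b, c, d, e] := by
  intro i j hij
  fin_cases i <;> fin_cases j <;> simp at hij ⊢ <;>
    first
      | exact h1 hij | exact h2 hij | exact h3 hij | exact h4 hij | exact h5 hij | exact h6 hij
      | exact h7 hij | exact h8 hij | exact h9 hij | exact h10 hij
      | exact h1 hij.symm | exact h2 hij.symm | exact h3 hij.symm | exact h4 hij.symm
      | exact h5 hij.symm | exact h6 hij.symm
      | exact h7 hij.symm | exact h8 hij.symm | exact h9 hij.symm | exact h10 hij.symm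

theorem exists_placement (N q : ℕ) (hN9 : 9 ≤ N) (hq3 : 3 ≤ q) (hqN : q * 3 ≤ N)
    (u : Perm (ZMod N)) (hu1 : u ≠ 1) (htwo : ∀ x, u (u x) = x → u x = x) :
    ∃ t1 t2 : Perm (ZMod N), (∀ [Fintype (ZMod N)], sign t1 ≠ sign t2) ∧
      Constr q (t1 * u * t1⁻¹) ∧ Constr q (t2 * u * t2⁻¹) := by
  classical
  have hN0 : NeZero N := ⟨by omega⟩
  have hcard : Fintype.card (ZMod N) = N := ZMod.card N
  have hneg1 : (-1 : ZMod N) = ((N - 1 : ℕ) : ZMod N) := by
    rw [Nat.cast_sub (by omega)]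
    simp
  have hinv : ∀ x, u (u⁻¹ x) = x := fun x => by rw [← mul_apply, mul_inv_cancel, one_apply]
  have hinv' : ∀ x, u⁻¹ (u x) = x := fun x => by rw [← mul_apply, inv_mul_cancel, one_apply]
  have hconj : ∀ (t : Perm (ZMod N)) (x a c : ZMod N), t x = a → t (u x) = c → (t * u * t⁻¹) a = c := by
    intro t x a c h1 h2
    rw [mul_apply, mul_apply, ← h1, ← h2]
    congr 2
    rw [← mul_apply, inv_mul_cancel, one_apply]
  have c0 : ((0 : ℕ) : ZMod N) = 0 := Nat.cast_zero
  have c1 : ((1 : ℕ) : ZMod N) = 1 := Nat.cast_one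
  have c2 : ((2 : ℕ) : ZMod N) = 2 := by norm_num
  have k1 := natCast_ne (N := N) (a := 0) (c := 1) (by omega) (by omega) (by omega)
  have k2 := natCast_ne (N := N) (a := 0) (c := N - 1) (by omega) (by omega) (by omega)
  have k3 := natCast_ne (N := N) (a := 0) (c := q) (by omega) (by omega) (by omega)
  have k4 := natCast_ne (N := N) (a := 1) (c := N - 1) (by omega) (by omega) (by omega)
  have k5 := natCast_ne (N := N) (a := 1) (c := q) (by omega) (by omega) (by omega)
  have k6 := natCast_ne (N := N) (a := N - 1) (c := q) (by omega) (by omega) (by omega)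
  have k7 := natCast_ne (N := N) (a := 2) (c := 0) (by omega) (by omega) (by omega)
  have k8 := natCast_ne (N := N) (a := 2) (c := 1) (by omega) (by omega) (by omega)
  have k9 := natCast_ne (N := N) (a := 2) (c := N - 1) (by omega) (by omega) (by omega)
  have k10 := natCast_ne (N := N) (a := 2) (c := q) (by omega) (by omega) (by omega)
  rw [← hneg1] at k2 k4 k6 k9
  rw [c0] at k1 k2 k3 k7
  rw [c1] at k1 k4 k5 k8
  rw [c2] at k7 k8 k9 k10
  by_cases hfix : ∃ f, u f = f
  · obtain ⟨f, hf⟩ := hfix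
    obtain ⟨x, hx⟩ : ∃ x, u x ≠ x := by
      by_contra hcon
      push Not at hcon
      exact hu1 (Equiv.ext hcon)
    have h1 : f ≠ x := by
      rintro rfl
      exact hx hf
    have h2 : f ≠ u x := by
      intro h
      apply h1
      apply u.injective
      rw [← h, hf]
    have h3 : f ≠ u⁻¹ x := by
      intro h
      apply h1
      rw [← hinv x, ← h, hf]
    have h4 : x ≠ u⁻¹ x := by
      intro h
      apply hx
      conv_lhs => rw [h]
      exact hinv x
    have h5 : u x ≠ u⁻¹ x := by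
      intro h
      apply hx
      apply htwo
      rw [h]
      exact hinv x
    obtain ⟨t1, t2, hs, ht1, ht2⟩ := exists_ext (k := 4) (by rw [hcard]; omega) ![f, x, u x, u⁻¹ x]
      ![0, 1, -1, (q : ZMod N)] (inj_four h1 h2 h3 (Ne.symm hx) h4 h5)
      (inj_four k1 k2 k3 k4 k5 k6)
    refine ⟨t1, t2, ?_, ?_, ?_⟩
    · intro inst
      convert hs
    · left
      have e0 : t1 f = 0 := ht1 0
      have e1 : t1 x = 1 := ht1 1
      have e2 : t1 (u x) = -1 := ht1 2
      have e3 : t1 (u⁻¹ x) = q := ht1 3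
      exact ⟨hconj t1 f 0 0 e0 (by rw [hf]; exact e0), hconj t1 _ _ _ e3 (by rw [hinv]; exact e1),
        hconj t1 x _ _ e1 e2⟩
    · left
      have e0 : t2 f = 0 := ht2 0
      have e1 : t2 x = 1 := ht2 1
      have e2 : t2 (u x) = -1 := ht2 2
      have e3 : t2 (u⁻¹ x) = q := ht2 3
      exact ⟨hconj t2 f 0 0 e0 (by rw [hf]; exact e0), hconj t2 _ _ _ e3 (by rw [hinv]; exact e1),
        hconj t2 x _ _ e1 e2⟩
  · push Not at hfix
    obtain ⟨y, hy⟩ : ∃ y : ZMod N, y ∉ ({u⁻¹ (u⁻¹ 0), u⁻¹ 0, 0, u 0} : Finset (ZMod N)) := by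
      by_contra hcon
      push Not at hcon
      have h1 : (Finset.univ : Finset (ZMod N)) ⊆ {u⁻¹ (u⁻¹ 0), u⁻¹ 0, 0, u 0} := fun z _ => hcon z
      have h2 := Finset.card_le_card h1
      rw [Finset.card_univ, hcard] at h2
      have h3 : ({u⁻¹ (u⁻¹ 0), u⁻¹ 0, 0, u 0} : Finset (ZMod N)).card ≤ 4 := Finset.card_le_four
      omega
    obtain ⟨x, hx0⟩ : ∃ x : ZMod N, x = 0 := ⟨0, rfl⟩
    rw [← hx0] at hy
    simp only [Finset.mem_insert, Finset.mem_singleton, not_or] at hy
    obtain ⟨y1, y2, y3, y4⟩ := hy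
    have h1 : x ≠ u x := Ne.symm (hfix x)
    have h2 : x ≠ u y := by
      intro h
      apply y2
      rw [h, hinv']
    have h3 : x ≠ u⁻¹ x := by
      intro h
      apply hfix x
      conv_lhs => rw [h]
      exact hinv x
    have h4 : u x ≠ u y := fun h => y3 (u.injective h).symm
    have h5 : u x ≠ u⁻¹ x := by
      intro h
      apply hfix x
      apply htwo
      rw [h]
      exact hinv x
    have h6 : u y ≠ u⁻¹ x := by
      intro h
      apply y1
      rw [← h, hinv']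
    obtain ⟨t1, t2, hs, ht1, ht2⟩ := exists_ext (k := 5) (by rw [hcard]; omega) ![x, u x, y, u y, u⁻¹ x]
      ![2, -1, 0, 1, (q : ZMod N)]
      (inj_five h1 (Ne.symm y3) h2 h3 (Ne.symm y4) h4 h5 (Ne.symm (hfix y)) y2 h6)
      (inj_five k9 k7 k8 k10 (Ne.symm k2) (Ne.symm k4) k6 k1 k3 k5)
    refine ⟨t1, t2, ?_, ?_, ?_⟩
    · intro inst
      convert hs
    · right
      have e0 : t1 x = 2 := ht1 0
      have e1 : t1 (u x) = -1 := ht1 1
      have e2 : t1 y = 0 := ht1 2
      have e3 : t1 (u y) = 1 := ht1 3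
      have e4 : t1 (u⁻¹ x) = q := ht1 4
      exact ⟨hconj t1 _ _ _ e4 (by rw [hinv]; exact e0), hconj t1 x _ _ e0 e1, hconj t1 y _ _ e2 e3⟩
    · right
      have e0 : t2 x = 2 := ht2 0
      have e1 : t2 (u x) = -1 := ht2 1
      have e2 : t2 y = 0 := ht2 2
      have e3 : t2 (u y) = 1 := ht2 3
      have e4 : t2 (u⁻¹ x) = q := ht2 4
      exact ⟨hconj t2 _ _ _ e4 (by rw [hinv]; exact e0), hconj t2 x _ _ e0 e1, hconj t2 y _ _ e2 e3⟩

/-- Local pairs for `b ≥ 2`. -/
theorem loc_ge_two (hp2 : p ≠ 2) (hb : 2 ≤ b) (u : Perm (ZMod (p ^ b))) (hu : ∃ m : ℕ, u ^ (p ^ m) = 1)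
    (hu1 : u ≠ 1) : ∃ t1 t2 : Perm (ZMod (p ^ b)), (∀ [Fintype (ZMod (p ^ b))], sign t1 ≠ sign t2) ∧
      Good p (t1 * u * t1⁻¹) (cyc (p ^ b)) ∧ Good p (t2 * u * t2⁻¹) (cyc (p ^ b)) := by
  classical
  have hodd : Odd p := hp.out.odd_of_ne_two hp2
  have hp3 : 3 ≤ p := by
    have := hp.out.two_le
    omega
  have hN9 : 9 ≤ p ^ b := by
    calc 9 = 3 ^ 2 := by norm_num
      _ ≤ p ^ 2 := Nat.pow_le_pow_left hp3 2
      _ ≤ p ^ b := Nat.pow_le_pow_right (by omega) hb
  have hq3 : 3 ≤ p ^ (b - 1) := by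
    calc 3 = 3 ^ 1 := by norm_num
      _ ≤ p ^ 1 := Nat.pow_le_pow_left hp3 1
      _ ≤ p ^ (b - 1) := Nat.pow_le_pow_right (by omega) (by omega)
  have hqN : p ^ (b - 1) * 3 ≤ p ^ b := by
    calc p ^ (b - 1) * 3 ≤ p ^ (b - 1) * p := Nat.mul_le_mul_left _ hp3
      _ = p ^ b := by rw [← pow_succ]; congr 1; omega
  obtain ⟨m, hm⟩ := hu
  have htwo : ∀ x, u (u x) = x → u x = x := by
    intro x hx
    by_contra hne
    have h1 := not_orderOf_of_period_two u hodd hx hne
    apply h1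
    obtain ⟨k, -, hk⟩ := (Nat.dvd_prime_pow hp.out).1 (orderOf_dvd_of_pow_eq_one hm)
    exact ⟨k, hk⟩
  obtain ⟨t1, t2, hs, h1, h2⟩ := exists_placement (p ^ b) (p ^ (b - 1)) hN9 hq3 hqN u hu1 htwo
  exact ⟨t1, t2, hs, good_of_constraints hp2 hb _ h1, good_of_constraints hp2 hb _ h2⟩

end GeTwo

end Cfsg.Agent.H106.LocPair
end

-- part: H106/LocOne
section
set_option autoImplicit false

/-!
# Pairs of permutations: order `p` (`p ≥ 5`), and the small base cases for `p = 3`
-/

namespace Cfsg.Agent.H106.LocPair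

open Equiv Equiv.Perm Cfsg.Agent.H106.CycPrim
open scoped commutatorElement

/-- Local pairs for `b = 1`, `p ≥ 5`. -/
theorem loc_one {p : ℕ} [hp : Fact p.Prime] (hp5 : 5 ≤ p) :
    ∃ t1 t2 : Perm (ZMod (p ^ 1)), (∀ [Fintype (ZMod (p ^ 1))], sign t1 ≠ sign t2) ∧
      Good p (t1 * cyc (p ^ 1) * t1⁻¹) (cyc (p ^ 1)) ∧ Good p (t2 * cyc (p ^ 1) * t2⁻¹) (cyc (p ^ 1)) := by
  classical
  have hN0 : NeZero (p ^ 1) := ⟨(pow_pos hp.out.pos 1).ne'⟩
  have hcard : Fintype.card (ZMod (p ^ 1)) = p := by rw [ZMod.card, pow_one]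
  have hN5 : 5 ≤ p ^ 1 := by rw [pow_one]; exact hp5
  have hneg1 : (-1 : ZMod (p ^ 1)) = ((p ^ 1 - 1 : ℕ) : ZMod (p ^ 1)) := by
    rw [Nat.cast_sub (by omega), ZMod.natCast_self]
    simp
  have c0 : ((0 : ℕ) : ZMod (p ^ 1)) = 0 := Nat.cast_zero
  have c1 : ((1 : ℕ) : ZMod (p ^ 1)) = 1 := Nat.cast_one
  have c2 : ((2 : ℕ) : ZMod (p ^ 1)) = 2 := by norm_num
  have k1 := natCast_ne (N := p ^ 1) (a := 0) (c := 1) (by omega) (by omega) (by omega)
  have k2 := natCast_ne (N := p ^ 1) (a := 0) (c := p ^ 1 - 1) (by omega) (by omega) (by omega)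
  have k3 := natCast_ne (N := p ^ 1) (a := 0) (c := 2) (by omega) (by omega) (by omega)
  have k4 := natCast_ne (N := p ^ 1) (a := 1) (c := p ^ 1 - 1) (by omega) (by omega) (by omega)
  have k5 := natCast_ne (N := p ^ 1) (a := 1) (c := 2) (by omega) (by omega) (by omega)
  have k6 := natCast_ne (N := p ^ 1) (a := 2) (c := p ^ 1 - 1) (by omega) (by omega) (by omega)
  rw [← hneg1] at k2 k4 k6
  rw [c0] at k1 k2 k3
  rw [c1] at k1 k4 k5
  rw [c2] at k3 k5 k6
  set c : Perm (ZMod (p ^ 1)) := cyc (p ^ 1) with hc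
  have hcinv : ∀ x, c⁻¹ x = x - 1 := by
    intro x
    rw [Perm.inv_eq_iff_eq, hc, cyc_apply]
    ring
  let ρ : Perm (ZMod (p ^ 1)) := Equiv.neg _
  have hρ : ρ * c * ρ⁻¹ = c⁻¹ := by
    ext x
    rw [hcinv]
    change ρ (c (ρ⁻¹ x)) = x - 1
    have h1 : ρ⁻¹ x = -x := by
      rw [Perm.inv_eq_iff_eq]
      simp [ρ]
    rw [h1, hc, cyc_apply]
    simp only [ρ, Equiv.neg_apply]
    ring
  -- the general criterion
  have hcrit : ∀ v : Perm (ZMod (p ^ 1)), IsThreeCycle (v * c) → Good p v c := by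
    intro v hv
    constructor
    · rintro ⟨k, hk⟩
      rw [hv.orderOf] at hk
      rcases Nat.eq_zero_or_pos k with rfl | hk0
      · rw [pow_zero] at hk
        omega
      · have h1 : p ∣ 3 := by
          rw [hk]
          exact dvd_pow_self p (by omega)
        have := Nat.le_of_dvd (by norm_num) h1
        omega
    · intro hsol
      set H := Subgroup.closure ({v, c} : Set (Perm (ZMod (p ^ 1)))) with hH
      have hvH : v ∈ H := Subgroup.subset_closure (by simp)
      have hcH : c ∈ H := Subgroup.subset_closure (by simp)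
      have hprim := isPreprimitive (p := p) (b := 1) H (c := c) (u := c) (fun x => cyc_apply x) hcH hcH
        (x₀ := 0) (by
          rw [hc, cyc_apply, cyc_apply]
          simp)
      have h1 := alternatingGroup_le_of_isPreprimitive_of_isThreeCycle_mem hprim hv (H.mul_mem hvH hcH)
      apply not_isSolvable_alternating (T := ZMod (p ^ 1)) (by rw [hcard]; exact hp5)
      exact Group.isSolvable_of_isSolvable_injective (f := Subgroup.inclusion h1)
        (Subgroup.inclusion_injective h1)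
  have hsw : ∀ a b : ZMod (p ^ 1), c⁻¹ * swap a b * c = swap (a - 1) (b - 1) := by
    intro a b
    have h1 := Equiv.swap_apply_apply c⁻¹ a b
    rw [hcinv, hcinv] at h1
    rw [h1]
    group
  have key1 : swap 0 1 * ρ * c * (swap 0 1 * ρ)⁻¹ * c = swap 0 1 * swap 0 (-1) := by
    have h1 : swap 0 1 * ρ * c * (swap 0 1 * ρ)⁻¹ * c = swap 0 1 * (ρ * c * ρ⁻¹) * (swap 0 1)⁻¹ * c := by
      group
    rw [h1, hρ, swap_inv, mul_assoc, mul_assoc, ← mul_assoc c⁻¹, hsw]
    rw [sub_self, zero_sub, swap_comm (-1) 0]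
  have key2 : swap 0 1 * swap 1 2 * ρ * c * (swap 0 1 * swap 1 2 * ρ)⁻¹ * c = swap 0 2 * swap 0 (-1) := by
    have h1 : swap 0 1 * swap 1 2 * ρ * c * (swap 0 1 * swap 1 2 * ρ)⁻¹ * c =
        swap 0 1 * swap 1 2 * (ρ * c * ρ⁻¹) * (swap 1 2)⁻¹ * (swap 0 1)⁻¹ * c := by
      group
    rw [h1, hρ, swap_inv, swap_inv]
    have h2 : swap 0 1 * swap 1 2 * c⁻¹ * swap 1 2 * swap 0 1 * c =
        swap 0 1 * swap 1 2 * (c⁻¹ * swap 1 2 * c) * (c⁻¹ * swap 0 1 * c) := by group
    rw [h2, hsw, hsw]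
    rw [sub_self, zero_sub, swap_comm (-1) 0]
    have h3 : (2 : ZMod (p ^ 1)) - 1 = 1 := by ring
    rw [h3]
    congr 1
    rw [swap_comm 0 1, swap_comm (1 : ZMod (p ^ 1)) 2]
    exact swap_mul_swap_mul_swap k5.symm k3.symm
  refine ⟨swap 0 1 * ρ, swap 0 1 * swap 1 2 * ρ, ?_, ?_, ?_⟩
  · intro inst h
    rw [Perm.sign_mul, Perm.sign_mul, Perm.sign_mul, sign_swap k1, sign_swap k5] at h
    rcases Int.units_eq_one_or (sign ρ) with h2 | h2 <;> rw [h2] at h <;> exact absurd h (by decide)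
  · apply hcrit
    rw [key1]
    exact isThreeCycle_swap_mul_swap_same k1 k2 k4
  · apply hcrit
    rw [key2]
    exact isThreeCycle_swap_mul_swap_same k3 k2 k6

end Cfsg.Agent.H106.LocPair
end

-- part: H106/LocBase
section
set_option autoImplicit false
set_option maxRecDepth 20000

/-!
# Pairs of permutations: small base cases for `p = 3`
-/

namespace Cfsg.Agent.H106.LocPair

open Equiv Equiv.Perm
open scoped commutatorElement

theorem good_of_data {G : Type*} [Group G] (m : ℕ) (hm : ¬ 3 ∣ m) (v w y z : G)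
    (hy : y ∈ Subgroup.closure ({v, w} : Set G)) (hz : z ∈ Subgroup.closure ({v, w} : Set G))
    (hv1 : v ≠ 1) (key : v = z * ⁅v, y * v * y⁻¹⁆ * z⁻¹) (hpow : (v * w) ^ m = 1) (hvw1 : v * w ≠ 1) :
    Good 3 v w := by
  refine ⟨?_, not_isSolvable_of_key _ (Subgroup.subset_closure (by simp)) hy hz hv1 key⟩
  rintro ⟨k, hk⟩
  have h1 := orderOf_dvd_of_pow_eq_one hpow
  rw [hk] at h1
  rcases Nat.eq_zero_or_pos k with rfl | hk0
  · rw [pow_zero, orderOf_eq_one_iff] at hk
    exact hvw1 hk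
  · exact hm ((dvd_pow_self 3 hk0.ne').trans h1)

def tA1 : Perm (Fin 5) := ⟨![0, 3, 4, 1, 2], ![0, 3, 4, 1, 2], by decide, by decide⟩
def tA2 : Perm (Fin 5) := ⟨![0, 3, 4, 2, 1], ![0, 4, 3, 1, 2], by decide, by decide⟩
def uA : Perm (Fin 5) := ⟨![1, 2, 0, 3, 4], ![2, 0, 1, 3, 4], by decide, by decide⟩
def wA : Perm (Fin 5) := ⟨![1, 2, 0, 3, 4], ![2, 0, 1, 3, 4], by decide, by decide⟩

theorem goodA1 : Good 3 (tA1 * uA * tA1⁻¹) wA := by
  have h0 : (tA1 * uA * tA1⁻¹) ∈ Subgroup.closure ({(tA1 * uA * tA1⁻¹), wA} : Set (Perm (Fin 5))) := Subgroup.subset_closure (by simp)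
  have h1 : wA ∈ Subgroup.closure ({(tA1 * uA * tA1⁻¹), wA} : Set (Perm (Fin 5))) := Subgroup.subset_closure (by simp)
  refine good_of_data 5 (by norm_num) (tA1 * uA * tA1⁻¹) wA (wA * (tA1 * uA * tA1⁻¹) * wA) (wA * wA * (tA1 * uA * tA1⁻¹) * (tA1 * uA * tA1⁻¹)) ?_ ?_ (by decide) (by decide) ?_ (by decide)
  · exact (mul_mem (mul_mem h1 h0) h1)
  · exact (mul_mem (mul_mem (mul_mem h1 h1) h0) h0)
  · rw [pow_succ, pow_succ, pow_succ, pow_succ, pow_one]; decide

theorem goodA2 : Good 3 (tA2 * uA * tA2⁻¹) wA := by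
  have h0 : (tA2 * uA * tA2⁻¹) ∈ Subgroup.closure ({(tA2 * uA * tA2⁻¹), wA} : Set (Perm (Fin 5))) := Subgroup.subset_closure (by simp)
  have h1 : wA ∈ Subgroup.closure ({(tA2 * uA * tA2⁻¹), wA} : Set (Perm (Fin 5))) := Subgroup.subset_closure (by simp)
  refine good_of_data 5 (by norm_num) (tA2 * uA * tA2⁻¹) wA (wA * (tA2 * uA * tA2⁻¹) * wA) (wA * wA * (tA2 * uA * tA2⁻¹) * (tA2 * uA * tA2⁻¹)) ?_ ?_ (by decide) (by decide) ?_ (by decide)
  · exact (mul_mem (mul_mem h1 h0) h1)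
  · exact (mul_mem (mul_mem (mul_mem h1 h1) h0) h0)
  · rw [pow_succ, pow_succ, pow_succ, pow_succ, pow_one]; decide

def tC1 : Perm (Fin 6) := ⟨![0, 1, 3, 2, 5, 4], ![0, 1, 3, 2, 5, 4], by decide, by decide⟩
def tC2 : Perm (Fin 6) := ⟨![0, 1, 3, 2, 4, 5], ![0, 1, 3, 2, 4, 5], by decide, by decide⟩
def uC : Perm (Fin 6) := ⟨![1, 2, 0, 4, 5, 3], ![2, 0, 1, 5, 3, 4], by decide, by decide⟩
def wC : Perm (Fin 6) := ⟨![1, 2, 0, 3, 4, 5], ![2, 0, 1, 3, 4, 5], by decide, by decide⟩

theorem goodC1 : Good 3 (tC1 * uC * tC1⁻¹) wC := by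
  have h0 : (tC1 * uC * tC1⁻¹) ∈ Subgroup.closure ({(tC1 * uC * tC1⁻¹), wC} : Set (Perm (Fin 6))) := Subgroup.subset_closure (by simp)
  have h1 : wC ∈ Subgroup.closure ({(tC1 * uC * tC1⁻¹), wC} : Set (Perm (Fin 6))) := Subgroup.subset_closure (by simp)
  refine good_of_data 4 (by norm_num) (tC1 * uC * tC1⁻¹) wC (wC) (wC * wC * (tC1 * uC * tC1⁻¹) * wC) ?_ ?_ (by decide) (by decide) ?_ (by decide)
  · exact h1
  · exact (mul_mem (mul_mem (mul_mem h1 h1) h0) h1)
  · rw [pow_succ, pow_succ, pow_succ, pow_one]; decide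

theorem goodC2 : Good 3 (tC2 * uC * tC2⁻¹) wC := by
  have h0 : (tC2 * uC * tC2⁻¹) ∈ Subgroup.closure ({(tC2 * uC * tC2⁻¹), wC} : Set (Perm (Fin 6))) := Subgroup.subset_closure (by simp)
  have h1 : wC ∈ Subgroup.closure ({(tC2 * uC * tC2⁻¹), wC} : Set (Perm (Fin 6))) := Subgroup.subset_closure (by simp)
  refine good_of_data 4 (by norm_num) (tC2 * uC * tC2⁻¹) wC (wC) (wC * wC * (tC2 * uC * tC2⁻¹) * wC) ?_ ?_ (by decide) (by decide) ?_ (by decide)
  · exact h1
  · exact (mul_mem (mul_mem (mul_mem h1 h1) h0) h1)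
  · rw [pow_succ, pow_succ, pow_succ, pow_one]; decide

def tB1 : Perm (Fin 6) := ⟨![0, 1, 3, 2, 5, 4], ![0, 1, 3, 2, 5, 4], by decide, by decide⟩
def tB2 : Perm (Fin 6) := ⟨![0, 3, 4, 1, 5, 2], ![0, 3, 5, 1, 2, 4], by decide, by decide⟩
def uB : Perm (Fin 6) := ⟨![1, 2, 0, 4, 5, 3], ![2, 0, 1, 5, 3, 4], by decide, by decide⟩
def wB : Perm (Fin 6) := ⟨![1, 2, 0, 4, 5, 3], ![2, 0, 1, 5, 3, 4], by decide, by decide⟩

theorem goodB1 : Good 3 (tB1 * uB * tB1⁻¹) wB := by
  have h0 : (tB1 * uB * tB1⁻¹) ∈ Subgroup.closure ({(tB1 * uB * tB1⁻¹), wB} : Set (Perm (Fin 6))) := Subgroup.subset_closure (by simp)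
  have h1 : wB ∈ Subgroup.closure ({(tB1 * uB * tB1⁻¹), wB} : Set (Perm (Fin 6))) := Subgroup.subset_closure (by simp)
  refine good_of_data 5 (by norm_num) (tB1 * uB * tB1⁻¹) wB (wB * (tB1 * uB * tB1⁻¹) * wB) (wB * wB * (tB1 * uB * tB1⁻¹) * (tB1 * uB * tB1⁻¹)) ?_ ?_ (by decide) (by decide) ?_ (by decide)
  · exact (mul_mem (mul_mem h1 h0) h1)
  · exact (mul_mem (mul_mem (mul_mem h1 h1) h0) h0)
  · rw [pow_succ, pow_succ, pow_succ, pow_succ, pow_one]; decide

theorem goodB2 : Good 3 (tB2 * uB * tB2⁻¹) wB := by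
  have h0 : (tB2 * uB * tB2⁻¹) ∈ Subgroup.closure ({(tB2 * uB * tB2⁻¹), wB} : Set (Perm (Fin 6))) := Subgroup.subset_closure (by simp)
  have h1 : wB ∈ Subgroup.closure ({(tB2 * uB * tB2⁻¹), wB} : Set (Perm (Fin 6))) := Subgroup.subset_closure (by simp)
  refine good_of_data 5 (by norm_num) (tB2 * uB * tB2⁻¹) wB (wB * (tB2 * uB * tB2⁻¹) * wB) (wB * wB * (tB2 * uB * tB2⁻¹) * (tB2 * uB * tB2⁻¹)) ?_ ?_ (by decide) (by decide) ?_ (by decide)
  · exact (mul_mem (mul_mem h1 h0) h1)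
  · exact (mul_mem (mul_mem (mul_mem h1 h1) h0) h0)
  · rw [pow_succ, pow_succ, pow_succ, pow_succ, pow_one]; decide

end Cfsg.Agent.H106.LocPair
end

-- part: H106/LocTransfer
section
set_option autoImplicit false

/-!
# Transfer of local pairs of permutations to a larger set
-/

namespace Cfsg.Agent.H106.LocPair

open Equiv Equiv.Perm

theorem good_of_local {Ω T : Type*} {p : ℕ} (hp : p.Prime) (u w : Perm Ω) (v0 w0 : Perm T) (i : T → Ω)
    (hi : Function.Injective i) (hu : ∀ x, u (i x) = i (v0 x)) (hw : ∀ x, w (i x) = i (w0 x))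
    (h : Good p v0 w0) : Good p u w := by
  obtain ⟨h1, h2⟩ := h
  -- the group of pairs
  set K : Subgroup (Perm Ω × Perm T) := Subgroup.closure {(u, v0), (w, w0)} with hK
  have hcomp : ∀ k ∈ K, ∀ x, k.1 (i x) = i (k.2 x) := by
    intro k hk
    rw [hK] at hk
    refine Subgroup.closure_induction (p := fun k _ => ∀ x, k.1 (i x) = i (k.2 x)) ?_ ?_ ?_ ?_ hk
    · intro y hy x
      rcases hy with rfl | rfl
      · exact hu x
      · exact hw x
    · intro x
      rfl
    · intro y z _ _ hy hz x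
      rw [Prod.fst_mul, Prod.snd_mul, mul_apply, mul_apply, hz, hy]
    · intro y _ hy x
      rw [Prod.fst_inv, Prod.snd_inv, Perm.inv_eq_iff_eq, hy]
      rw [← mul_apply, mul_inv_cancel, one_apply]
  have hm1 : (u, v0) ∈ K := Subgroup.subset_closure (by simp)
  have hm2 : (w, w0) ∈ K := Subgroup.subset_closure (by simp)
  refine ⟨?_, ?_⟩
  · rintro ⟨k, hk⟩
    apply h1
    have h3 : (u * w) ^ (p ^ k) = 1 := by rw [← hk, pow_orderOf_eq_one]
    have h4 : (v0 * w0) ^ (p ^ k) = 1 := by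
      have h5 : ((u, v0) * (w, w0)) ^ (p ^ k) ∈ K := K.pow_mem (K.mul_mem hm1 hm2) _
      have h6 := hcomp _ h5
      rw [Prod.pow_fst, Prod.pow_snd, Prod.fst_mul, Prod.snd_mul] at h6
      ext x
      apply hi
      have h7 := h6 x
      simp only at h7
      rw [← h7, h3]
      rfl
    obtain ⟨j, -, hj⟩ := (Nat.dvd_prime_pow hp).1 (orderOf_dvd_of_pow_eq_one h4)
    exact ⟨j, hj⟩
  · intro hs
    apply h2
    -- first projection
    have hfst : K.map (MonoidHom.fst (Perm Ω) (Perm T)) = Subgroup.closure ({u, w} : Set (Perm Ω)) := by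
      rw [hK, MonoidHom.map_closure, Set.image_pair]
      rfl
    have hsnd : K.map (MonoidHom.snd (Perm Ω) (Perm T)) = Subgroup.closure ({v0, w0} : Set (Perm T)) := by
      rw [hK, MonoidHom.map_closure, Set.image_pair]
      rfl
    have hKs : Group.IsSolvable K := by
      rw [← hfst] at hs
      refine Group.isSolvable_of_isSolvable_injective
        (f := (MonoidHom.fst (Perm Ω) (Perm T)).subgroupMap K) ?_
      intro a b hab
      have h3 : (a : Perm Ω × Perm T).1 = (b : Perm Ω × Perm T).1 := congrArg Subtype.val hab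
      apply Subtype.ext
      apply Prod.ext h3
      ext x
      apply hi
      rw [← hcomp _ a.2, ← hcomp _ b.2, h3]
    rw [← hsnd]
    exact Group.isSolvable_of_surjective (f := (MonoidHom.snd (Perm Ω) (Perm T)).subgroupMap K)
      (MonoidHom.subgroupMap_surjective _ _)

theorem transfer {Ω T : Type*} [Fintype Ω] [DecidableEq Ω] [Fintype T] [DecidableEq T] {p : ℕ} (hp : p.Prime)
    (u w : Perm Ω) (i j : T → Ω) (hi : Function.Injective i) (hj : Function.Injective j) (u0 w0 : Perm T)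
    (hu : ∀ x, u (i x) = i (u0 x)) (hw : ∀ x, w (j x) = j (w0 x)) (t1 t2 : Perm T)
    (hs : sign t1 ≠ sign t2) (h1 : Good p (t1 * u0 * t1⁻¹) w0) (h2 : Good p (t2 * u0 * t2⁻¹) w0) :
    ∃ g : Perm Ω, sign g = 1 ∧ Good p u (g * w * g⁻¹) := by
  -- the general statement
  have hgen : ∀ (t : Perm T) (g : Perm Ω), Good p (t * u0 * t⁻¹) w0 → (∀ x, g (j x) = i (t⁻¹ x)) →
      Good p u (g * w * g⁻¹) := by
    intro t g ht hg
    refine good_of_local hp u (g * w * g⁻¹) (t * u0 * t⁻¹) w0 (fun x => i (t⁻¹ x))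
      (hi.comp (t⁻¹ : Perm T).injective) ?_ ?_ ht
    · intro x
      rw [hu, mul_apply, mul_apply]
      have h3 : t⁻¹ (t (u0 (t⁻¹ x))) = u0 (t⁻¹ x) := by
        rw [← mul_apply t⁻¹ t, inv_mul_cancel, one_apply]
      rw [h3]
    · intro x
      rw [← hg, mul_apply, mul_apply]
      have h3 : g⁻¹ (g (j x)) = j x := by rw [← mul_apply, inv_mul_cancel, one_apply]
      rw [h3, hw, hg]
  let e : {z // z ∈ Set.range j} ≃ {z // z ∈ Set.range i} :=
    (Equiv.ofInjective j hj).symm.trans (t1⁻¹.trans (Equiv.ofInjective i hi))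
  have he : ∀ x, e.extendSubtype (j x) = i (t1⁻¹ x) := by
    intro x
    rw [Equiv.extendSubtype_apply_of_mem e (j x) ⟨x, rfl⟩]
    have h3 : (Equiv.ofInjective j hj).symm ⟨j x, ⟨x, rfl⟩⟩ = x := by
      rw [Equiv.symm_apply_eq]
      rfl
    change ((Equiv.ofInjective i hi) (t1⁻¹ ((Equiv.ofInjective j hj).symm ⟨j x, ⟨x, rfl⟩⟩)) : Ω) = _
    rw [h3]
    rfl
  let s : Perm Ω := (t2⁻¹ * t1).extendDomain (Equiv.ofInjective i hi)
  have hss : sign s = -1 := by
    rw [Perm.sign_extendDomain, Perm.sign_mul, Perm.sign_inv]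
    rcases Int.units_eq_one_or (sign t1) with h | h <;> rcases Int.units_eq_one_or (sign t2) with h' | h' <;>
      rw [h, h'] at hs ⊢ <;> first | rfl | exact absurd rfl hs
  have hse : ∀ x, s (i x) = i (t2⁻¹ (t1 x)) := by
    intro x
    exact Perm.extendDomain_apply_image (t2⁻¹ * t1) (Equiv.ofInjective i hi) x
  rcases Int.units_eq_one_or (sign e.extendSubtype) with h | h
  · exact ⟨e.extendSubtype, h, hgen t1 _ h1 he⟩
  · refine ⟨s * e.extendSubtype, ?_, hgen t2 _ h2 ?_⟩
    · rw [Perm.sign_mul, hss, h]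
      rfl
    · intro x
      rw [mul_apply, he, hse]
      congr 2
      rw [← mul_apply, mul_inv_cancel, one_apply]

end Cfsg.Agent.H106.LocPair
end

-- part: H106/InvSub
section
set_option autoImplicit false

/-!
# Invariant subsets of prescribed `p`-power size for a permutation of `p`-power order
-/

namespace Cfsg.Agent.H106.InvSub

open Equiv Equiv.Perm

variable {Ω : Type*} [DecidableEq Ω] {p : ℕ}

theorem pow_fix_of_le (u : Perm Ω) {x : Ω} {a b : ℕ} (hab : a ≤ b) (h : (u ^ (p ^ a)) x = x) :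
    (u ^ (p ^ b)) x = x := by
  obtain ⟨c, rfl⟩ := Nat.exists_eq_add_of_le hab
  rw [pow_add, pow_mul]
  have h1 : ∀ n : ℕ, ((u ^ (p ^ a)) ^ n) x = x := by
    intro n
    induction n with
    | zero => simp
    | succ n ih => rw [pow_succ, mul_apply, h, ih]
  exact h1 _

theorem exists_maximal (u : Perm Ω) (X : Finset Ω) (hX : X.Nonempty) (m : ℕ)
    (hm : ∀ x ∈ X, (u ^ (p ^ m)) x = x) :
    ∃ x0 ∈ X, ∀ k, (u ^ (p ^ k)) x0 = x0 → ∀ y ∈ X, (u ^ (p ^ k)) y = y := by
  classical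
  let f : Ω → ℕ := fun x => if h : ∃ k, (u ^ (p ^ k)) x = x then Nat.find h else 0
  have hf : ∀ x ∈ X, (u ^ (p ^ (f x))) x = x ∧ ∀ k, (u ^ (p ^ k)) x = x → f x ≤ k := by
    intro x hx
    have h : ∃ k, (u ^ (p ^ k)) x = x := ⟨m, hm x hx⟩
    have h1 : f x = Nat.find h := dif_pos h
    rw [h1]
    exact ⟨Nat.find_spec h, fun k hk => Nat.find_min' h hk⟩
  obtain ⟨x0, hx0, hmax⟩ := Finset.exists_max_image X f hX
  refine ⟨x0, hx0, ?_⟩
  intro k hk y hy
  exact pow_fix_of_le u ((hmax y hy).trans ((hf x0 hx0).2 k hk)) (hf y hy).1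

theorem exists_orbit (hp : p.Prime) (u : Perm Ω) (X : Finset Ω) (hX : ∀ x, u x ∈ X ↔ x ∈ X) (x0 : Ω) (hx0 : x0 ∈ X)
    (m : ℕ) (h1 : (u ^ (p ^ (m + 1))) x0 = x0) (h2 : (u ^ (p ^ m)) x0 ≠ x0) :
    ∃ S ⊆ X, (∀ x, u x ∈ S ↔ x ∈ S) ∧ x0 ∈ S ∧ S.card = p ^ (m + 1) := by
  have hper : Function.minimalPeriod u x0 = p ^ (m + 1) := by
    have h3 : Function.minimalPeriod u x0 ∣ p ^ (m + 1) := by
      apply Function.IsPeriodicPt.minimalPeriod_dvd
      change u^[p ^ (m + 1)] x0 = x0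
      rw [iterate_eq_pow]
      exact h1
    obtain ⟨k, hk, hk'⟩ := (Nat.dvd_prime_pow hp).1 h3
    rcases Nat.lt_or_ge k (m + 1) with h4 | h4
    · exfalso
      apply h2
      apply pow_fix_of_le u (Nat.lt_succ_iff.1 h4)
      rw [← hk', ← iterate_eq_pow]
      exact Function.isPeriodicPt_minimalPeriod u x0
    · rw [hk', le_antisymm hk h4]
  have hinj : Set.InjOn (fun i : ℕ => (u ^ i) x0) (Finset.range (p ^ (m + 1)) : Set ℕ) := by
    intro a ha b hb hab
    have h3 := Function.iterate_injOn_Iio_minimalPeriod (f := u) (x := x0)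
    rw [hper] at h3
    apply h3
    · simpa using ha
    · simpa using hb
    · simp only [iterate_eq_pow]
      exact hab
  have hmem : ∀ i : ℕ, (u ^ i) x0 ∈ X := by
    intro i
    induction i with
    | zero => simpa using hx0
    | succ i ih =>
      rw [pow_succ', mul_apply, hX]
      exact ih
  have hpos : 0 < p ^ (m + 1) := pow_pos hp.pos _
  have hmod : ∀ i : ℕ, (u ^ (i % p ^ (m + 1))) x0 = (u ^ i) x0 := by
    intro i
    have h3 := Function.iterate_mod_minimalPeriod_eq (f := u) (x := x0) (n := i)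
    rw [hper, iterate_eq_pow, iterate_eq_pow] at h3
    exact h3
  have hS : ∀ y, y ∈ (Finset.range (p ^ (m + 1))).image (fun i : ℕ => (u ^ i) x0) ↔ ∃ i : ℕ, (u ^ i) x0 = y := by
    intro y
    rw [Finset.mem_image]
    constructor
    · rintro ⟨i, -, hi⟩
      exact ⟨i, hi⟩
    · rintro ⟨i, hi⟩
      exact ⟨i % p ^ (m + 1), Finset.mem_range.2 (Nat.mod_lt _ hpos), by rw [hmod, hi]⟩
  refine ⟨(Finset.range (p ^ (m + 1))).image (fun i : ℕ => (u ^ i) x0), ?_, ?_, ?_, ?_⟩
  · intro y hy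
    obtain ⟨i, rfl⟩ := (hS y).1 hy
    exact hmem i
  · intro x
    rw [hS, hS]
    constructor
    · rintro ⟨i, hi⟩
      refine ⟨i + (p ^ (m + 1) - 1), ?_⟩
      apply u.injective
      rw [← hi, ← mul_apply, ← pow_succ', add_assoc, Nat.sub_add_cancel hpos, pow_add, mul_apply, h1]
    · rintro ⟨i, rfl⟩
      exact ⟨i + 1, by rw [pow_succ', mul_apply]⟩
  · rw [hS]
    exact ⟨0, by simp⟩
  · rw [Finset.card_image_of_injOn hinj, Finset.card_range]

theorem exists_invariant (hp : p.Prime) (u : Perm Ω) : ∀ (m : ℕ) (X : Finset Ω), (∀ x, u x ∈ X ↔ x ∈ X) →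
    (∀ x ∈ X, (u ^ (p ^ m)) x = x) → p ^ m ≤ X.card → ∀ x0 ∈ X,
    (∀ k, (u ^ (p ^ k)) x0 = x0 → ∀ y ∈ X, (u ^ (p ^ k)) y = y) →
    ∃ S ⊆ X, (∀ x, u x ∈ S ↔ x ∈ S) ∧ x0 ∈ S ∧ S.card = p ^ m := by
  intro m
  induction m with
  | zero =>
    intro X hX hu hc x0 hx0 hmax
    refine ⟨{x0}, by simpa using hx0, ?_, by simp, by simp⟩
    have h1 : ∀ x ∈ X, u x = x := by
      intro x hx
      simpa using hu x hx
    intro x
    rw [Finset.mem_singleton, Finset.mem_singleton]
    constructor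
    · intro h
      apply u.injective
      rw [h, h1 x0 hx0]
    · rintro rfl
      exact h1 _ hx0
  | succ m ih =>
    intro X hX hu hc x0 hx0 hmax
    by_cases h : (u ^ (p ^ m)) x0 = x0
    · have hu' := hmax m h
      have hstep : ∀ j : ℕ, 1 ≤ j → j ≤ p → ∃ S ⊆ X, (∀ x, u x ∈ S ↔ x ∈ S) ∧ x0 ∈ S ∧ S.card = j * p ^ m := by
        intro j hj
        induction j, hj using Nat.le_induction with
        | base =>
          intro _
          rw [one_mul]
          refine ih X hX hu' ?_ x0 hx0 hmax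
          exact (Nat.pow_le_pow_right hp.pos (Nat.le_succ m)).trans hc
        | succ j hj ihj =>
          intro hjp
          obtain ⟨S, hSX, hS, hxS, hcS⟩ := ihj (by omega)
          have hcard : p ^ m ≤ (X \ S).card := by
            rw [Finset.card_sdiff_of_subset hSX, hcS]
            have h1 : (j + 1) * p ^ m ≤ p ^ (m + 1) := by
              rw [pow_succ, mul_comm (p ^ m) p]
              exact Nat.mul_le_mul_right _ hjp
            rw [add_mul, one_mul] at h1
            omega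
          have hne : (X \ S).Nonempty := by
            rw [← Finset.card_pos]
            exact lt_of_lt_of_le (pow_pos hp.pos m) hcard
          have hX' : ∀ x, u x ∈ X \ S ↔ x ∈ X \ S := by
            intro x
            rw [Finset.mem_sdiff, Finset.mem_sdiff, hX, hS]
          have hu'' : ∀ x ∈ X \ S, (u ^ (p ^ m)) x = x := fun x hx => hu' x (Finset.mem_sdiff.1 hx).1
          obtain ⟨x1, hx1, hmax1⟩ := exists_maximal u (X \ S) hne m hu''
          obtain ⟨S', hS'X, hS', hxS', hcS'⟩ := ih (X \ S) hX' hu'' hcard x1 hx1 hmax1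
          refine ⟨S ∪ S', ?_, ?_, Finset.mem_union_left _ hxS, ?_⟩
          · exact Finset.union_subset hSX (hS'X.trans Finset.sdiff_subset)
          · intro x
            rw [Finset.mem_union, Finset.mem_union, hS, hS']
          · rw [Finset.card_union_of_disjoint, hcS, hcS']
            · ring
            · exact Finset.disjoint_of_subset_right hS'X Finset.disjoint_sdiff
      obtain ⟨S, hSX, hS, hxS, hcS⟩ := hstep p hp.one_lt.le le_rfl
      exact ⟨S, hSX, hS, hxS, by rw [hcS, pow_succ, mul_comm]⟩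
    · exact exists_orbit hp u X hX x0 hx0 m (hu x0 hx0) h

/-- the form used: an injection from a type of size `p ^ m` -/
theorem exists_injection [Fintype Ω] (hp : p.Prime) (u : Perm Ω) (hu1 : u ≠ 1) (m : ℕ) (hu : u ^ (p ^ m) = 1)
    (hm : p ^ m ≤ Fintype.card Ω) (T : Type*) [Fintype T] (hT : Fintype.card T = p ^ m) :
    ∃ (i : T → Ω) (u0 : Perm T), Function.Injective i ∧ (∀ x, u (i x) = i (u0 x)) ∧ u0 ≠ 1 ∧ u0 ^ (p ^ m) = 1 := by
  obtain ⟨x1, hx1⟩ : ∃ x, u x ≠ x := by
    by_contra h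
    push Not at h
    exact hu1 (Equiv.ext h)
  obtain ⟨x0, -, hmax⟩ := exists_maximal u Finset.univ ⟨x1, Finset.mem_univ _⟩ m (fun x _ => by rw [hu]; rfl)
  have hx0 : u x0 ≠ x0 := by
    intro h
    apply hx1
    have h1 := hmax 0 (by simpa using h) x1 (Finset.mem_univ _)
    simpa using h1
  obtain ⟨S, -, hS, hxS, hcS⟩ := exists_invariant hp u m Finset.univ (by simp) (fun x _ => by rw [hu]; rfl)
    (by rwa [Finset.card_univ]) x0 (Finset.mem_univ _) hmax
  have e : T ≃ S := Fintype.equivOfCardEq (by rw [hT, Fintype.card_coe, hcS])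
  let v : Perm S := u.subtypePerm (fun x => hS x)
  have hv : ∀ x : S, ((v x : S) : Ω) = u x := fun x => rfl
  refine ⟨fun x => (e x : Ω), (e.trans v).trans e.symm, ?_, ?_, ?_, ?_⟩
  · intro a b hab
    exact e.injective (Subtype.ext hab)
  · intro x
    simp only [Equiv.trans_apply, Equiv.apply_symm_apply]
    rfl
  · intro h
    apply hx0
    have h1 := congrFun (congrArg DFunLike.coe h) (e.symm ⟨x0, hxS⟩)
    simp only [Equiv.trans_apply, Equiv.apply_symm_apply, one_apply] at h1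
    rw [e.symm.injective.eq_iff] at h1
    exact congrArg Subtype.val h1
  · have h1 : ∀ n : ℕ, ∀ x : T, (e ((((e.trans v).trans e.symm) ^ n) x) : Ω) = (u ^ n) (e x) := by
      intro n
      induction n with
      | zero => intro x; simp
      | succ n ihn =>
        intro x
        rw [pow_succ', pow_succ', mul_apply, mul_apply, ← ihn]
        simp only [Equiv.trans_apply, Equiv.apply_symm_apply]
        rfl
    ext x
    apply e.injective
    apply Subtype.ext
    rw [h1, hu]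
    rfl

end Cfsg.Agent.H106.InvSub
end

-- part: H106/PairMain
section
set_option autoImplicit false

/-!
# Any two non-trivial `p`-elements of `Sym(n)`, `n ≥ 5`, `p` odd, have conjugates forming a good pair
-/

namespace Cfsg.Agent.H106.LocPair

open Equiv Equiv.Perm Cfsg.Agent.H106.CycPrim

theorem exists_cycle_embedding {Ω : Type*} {p : ℕ} (hp : p.Prime) (w : Perm Ω) (m : ℕ)
    (h1 : w ^ (p ^ (m + 1)) = 1) (h2 : w ^ (p ^ m) ≠ 1) :
    ∃ j : ZMod (p ^ (m + 1)) → Ω, Function.Injective j ∧ ∀ k, w (j k) = j (cyc _ k) := by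
  classical
  have hN0 : NeZero (p ^ (m + 1)) := ⟨(pow_pos hp.pos _).ne'⟩
  obtain ⟨y0, hy0⟩ : ∃ y, (w ^ (p ^ m)) y ≠ y := by
    by_contra h
    push Not at h
    exact h2 (Equiv.ext h)
  have hper : Function.minimalPeriod w y0 = p ^ (m + 1) := by
    have h3 : Function.minimalPeriod w y0 ∣ p ^ (m + 1) := by
      apply Function.IsPeriodicPt.minimalPeriod_dvd
      change w^[p ^ (m + 1)] y0 = y0
      rw [iterate_eq_pow, h1]
      rfl
    obtain ⟨k, hk, hk'⟩ := (Nat.dvd_prime_pow hp).1 h3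
    rcases Nat.lt_or_ge k (m + 1) with h4 | h4
    · exfalso
      apply hy0
      apply InvSub.pow_fix_of_le w (Nat.lt_succ_iff.1 h4)
      rw [← hk', ← iterate_eq_pow]
      exact Function.isPeriodicPt_minimalPeriod w y0
    · rw [hk', le_antisymm hk h4]
  refine ⟨fun k => (w ^ k.val) y0, ?_, ?_⟩
  · intro a b hab
    have h3 := Function.iterate_injOn_Iio_minimalPeriod (f := w) (x := y0)
    rw [hper] at h3
    apply ZMod.val_injective
    apply h3
    · exact ZMod.val_lt a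
    · exact ZMod.val_lt b
    · simp only [iterate_eq_pow]
      exact hab
  · intro k
    change w ((w ^ k.val) y0) = (w ^ (cyc _ k).val) y0
    rw [← mul_apply, ← pow_succ', cyc_apply]
    have h3 := Function.iterate_mod_minimalPeriod_eq (f := w) (x := y0) (n := k.val + 1)
    rw [hper, iterate_eq_pow, iterate_eq_pow] at h3
    rw [← h3]
    congr 2
    rw [ZMod.val_add, ZMod.val_one_eq_one_mod, Nat.add_mod_mod]

/-- one 3-cycle and two fixed points -/
theorem embA {Ω : Type*} (u : Perm Ω) (hu3 : ∀ x, u (u (u x)) = x) (x y z : Ω) (hx : u x ≠ x) (hy : u y = y)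
    (hz : u z = z) (hyz : y ≠ z) : ∃ i : Fin 5 → Ω, Function.Injective i ∧ ∀ k, u (i k) = i (uA k) := by
  have h1 : u x ≠ y := fun h => hx (u.injective (by rw [h, hy]))
  have h2 : u x ≠ z := fun h => hx (u.injective (by rw [h, hz]))
  have h3 : x ≠ y := fun h => hx (by rw [h, hy])
  have h4 : x ≠ z := fun h => hx (by rw [h, hz])
  have h5 : u (u x) ≠ y := fun h => h1 (u.injective (by rw [h, hy]))
  have h6 : u (u x) ≠ z := fun h => h2 (u.injective (by rw [h, hz]))
  have h7 : x ≠ u (u x) := fun h => hx (by conv_lhs => rw [h, hu3])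
  have h8 : u x ≠ u (u x) := fun h => hx (u.injective h.symm)
  refine ⟨![x, u x, u (u x), y, z], ?_, ?_⟩
  · intro a b hab
    fin_cases a <;> fin_cases b <;> simp at hab ⊢ <;>
      first
        | exact hx hab | exact h1 hab | exact h2 hab | exact h3 hab | exact h4 hab | exact h5 hab
        | exact h6 hab | exact h7 hab | exact h8 hab | exact hyz hab
        | exact hx hab.symm | exact h1 hab.symm | exact h2 hab.symm | exact h3 hab.symm | exact h4 hab.symm
        | exact h5 hab.symm | exact h6 hab.symm | exact h7 hab.symm | exact h8 hab.symm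
        | exact hyz hab.symm
  · intro k
    fin_cases k
    · rfl
    · rfl
    · exact hu3 x
    · exact hy
    · exact hz

/-- two 3-cycles -/
theorem embB {Ω : Type*} (u : Perm Ω) (hu3 : ∀ x, u (u (u x)) = x) (x y : Ω) (hx : u x ≠ x) (hy : u y ≠ y)
    (h1 : y ≠ x) (h2 : y ≠ u x) (h3 : y ≠ u (u x)) :
    ∃ i : Fin 6 → Ω, Function.Injective i ∧ ∀ k, u (i k) = i (uB k) := by
  have h7 : x ≠ u (u x) := fun h => hx (by conv_lhs => rw [h, hu3])
  have h8 : u x ≠ u (u x) := fun h => hx (u.injective h.symm)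
  have h7' : y ≠ u (u y) := fun h => hy (by conv_lhs => rw [h, hu3])
  have h8' : u y ≠ u (u y) := fun h => hy (u.injective h.symm)
  have h9 : u y ≠ x := fun h => h3 (u.injective (by rw [h, hu3]))
  have h10 : u y ≠ u x := fun h => h1 (u.injective h)
  have h11 : u y ≠ u (u x) := fun h => h2 (u.injective h)
  have h12 : u (u y) ≠ x := fun h => h11 (u.injective (by rw [h, hu3]))
  have h13 : u (u y) ≠ u x := fun h => h9 (u.injective h)
  have h14 : u (u y) ≠ u (u x) := fun h => h10 (u.injective h)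
  refine ⟨![x, u x, u (u x), y, u y, u (u y)], ?_, ?_⟩
  · intro a b hab
    fin_cases a <;> fin_cases b <;> simp at hab ⊢ <;>
      first
        | exact hx hab | exact hy hab | exact h1 hab | exact h2 hab | exact h3 hab
        | exact h7 hab | exact h8 hab | exact h7' hab | exact h8' hab | exact h9 hab | exact h10 hab
        | exact h11 hab | exact h12 hab | exact h13 hab | exact h14 hab
        | exact hx hab.symm | exact hy hab.symm | exact h1 hab.symm | exact h2 hab.symm | exact h3 hab.symm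
        | exact h7 hab.symm | exact h8 hab.symm | exact h7' hab.symm | exact h8' hab.symm | exact h9 hab.symm
        | exact h10 hab.symm | exact h11 hab.symm | exact h12 hab.symm | exact h13 hab.symm
        | exact h14 hab.symm
  · intro k
    fin_cases k
    · rfl
    · rfl
    · exact hu3 x
    · rfl
    · rfl
    · exact hu3 y

/-- one 3-cycle and three fixed points -/
theorem embC {Ω : Type*} (u : Perm Ω) (hu3 : ∀ x, u (u (u x)) = x) (x y z t : Ω) (hx : u x ≠ x) (hy : u y = y)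
    (hz : u z = z) (ht : u t = t) (hyz : y ≠ z) (hyt : y ≠ t) (hzt : z ≠ t) :
    ∃ i : Fin 6 → Ω, Function.Injective i ∧ ∀ k, u (i k) = i (wC k) := by
  have h1 : u x ≠ y := fun h => hx (u.injective (by rw [h, hy]))
  have h2 : u x ≠ z := fun h => hx (u.injective (by rw [h, hz]))
  have h2' : u x ≠ t := fun h => hx (u.injective (by rw [h, ht]))
  have h3 : x ≠ y := fun h => hx (by rw [h, hy])
  have h4 : x ≠ z := fun h => hx (by rw [h, hz])
  have h4' : x ≠ t := fun h => hx (by rw [h, ht])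
  have h5 : u (u x) ≠ y := fun h => h1 (u.injective (by rw [h, hy]))
  have h6 : u (u x) ≠ z := fun h => h2 (u.injective (by rw [h, hz]))
  have h6' : u (u x) ≠ t := fun h => h2' (u.injective (by rw [h, ht]))
  have h7 : x ≠ u (u x) := fun h => hx (by conv_lhs => rw [h, hu3])
  have h8 : u x ≠ u (u x) := fun h => hx (u.injective h.symm)
  refine ⟨![x, u x, u (u x), y, z, t], ?_, ?_⟩
  · intro a b hab
    fin_cases a <;> fin_cases b <;> simp at hab ⊢ <;>
      first
        | exact hx hab | exact h1 hab | exact h2 hab | exact h2' hab | exact h3 hab | exact h4 hab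
        | exact h4' hab | exact h5 hab | exact h6' hab
        | exact h6 hab | exact h7 hab | exact h8 hab | exact hyz hab | exact hyt hab | exact hzt hab
        | exact hx hab.symm | exact h1 hab.symm | exact h2 hab.symm | exact h2' hab.symm | exact h3 hab.symm
        | exact h4 hab.symm | exact h4' hab.symm | exact h6' hab.symm
        | exact h5 hab.symm | exact h6 hab.symm | exact h7 hab.symm | exact h8 hab.symm
        | exact hyz hab.symm | exact hyt hab.symm | exact hzt hab.symm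
  · intro k
    fin_cases k
    · rfl
    · rfl
    · exact hu3 x
    · exact hy
    · exact hz
    · exact ht

/-- the symmetric reduction -/
theorem exists_good_symm {Ω : Type*} [Fintype Ω] [DecidableEq Ω] {p : ℕ} {u w : Perm Ω}
    (h : ∃ g : Perm Ω, sign g = 1 ∧ Good p w (g * u * g⁻¹)) :
    ∃ g : Perm Ω, sign g = 1 ∧ Good p u (g * w * g⁻¹) := by
  obtain ⟨g, hg, h1⟩ := h
  refine ⟨g⁻¹, by rw [Perm.sign_inv, hg], ?_⟩
  have h2 := h1.symm.conj g⁻¹
  have h3 : g⁻¹ * (g * u * g⁻¹) * (g⁻¹)⁻¹ = u := by group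
  rwa [h3] at h2

theorem main_three {Ω : Type*} [Fintype Ω] [DecidableEq Ω] (hΩ : 5 ≤ Fintype.card Ω) (u w : Perm Ω)
    (hu1 : u ≠ 1) (hw1 : w ≠ 1) (hu : u ^ 3 = 1) (hw : w ^ 3 = 1) :
    ∃ g : Perm Ω, sign g = 1 ∧ Good 3 u (g * w * g⁻¹) := by
  classical
  -- reduce to `fix w ≥ 2` or `fix u ≤ 1`
  have key : ∀ u w : Perm Ω, u ≠ 1 → w ≠ 1 → u ^ 3 = 1 → w ^ 3 = 1 →
      ((Finset.univ.filter (fun x => w x = x)).card ≤ 1 → (Finset.univ.filter (fun x => u x = x)).card ≤ 1) →
      ∃ g : Perm Ω, sign g = 1 ∧ Good 3 u (g * w * g⁻¹) := by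
    intro u w hu1 hw1 hu hw hcard
    have hu3 : ∀ x, u (u (u x)) = x := by
      intro x
      have := congrFun (congrArg DFunLike.coe hu) x
      rwa [pow_succ, pow_succ, pow_one, mul_apply, mul_apply, one_apply] at this
    have hw3 : ∀ x, w (w (w x)) = x := by
      intro x
      have := congrFun (congrArg DFunLike.coe hw) x
      rwa [pow_succ, pow_succ, pow_one, mul_apply, mul_apply, one_apply] at this
    obtain ⟨x, hx⟩ : ∃ x, u x ≠ x := by
      by_contra h
      push Not at h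
      exact hu1 (Equiv.ext h)
    obtain ⟨x', hx'⟩ : ∃ x, w x ≠ x := by
      by_contra h
      push Not at h
      exact hw1 (Equiv.ext h)
    by_cases hfu : (Finset.univ.filter (fun x => u x = x)).card ≤ 1
    · -- two 3-cycles of `u`
      obtain ⟨y, hy⟩ : ∃ y, y ∉ (Finset.univ.filter (fun x => u x = x)) ∪ {x, u x, u (u x)} := by
        by_contra h
        push Not at h
        have h1 := Finset.card_le_card (fun z _ => h z : (Finset.univ : Finset Ω) ⊆ _)
        have h2 := Finset.card_union_le (Finset.univ.filter (fun x => u x = x)) {x, u x, u (u x)}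
        have h3 : ({x, u x, u (u x)} : Finset Ω).card ≤ 3 := Finset.card_le_three
        rw [Finset.card_univ] at h1
        omega
      simp only [Finset.mem_union, Finset.mem_filter, Finset.mem_univ, true_and, Finset.mem_insert,
        Finset.mem_singleton, not_or] at hy
      obtain ⟨hy0, hy1, hy2, hy3⟩ := hy
      obtain ⟨i, hi, hui⟩ := embB u hu3 x y hx hy0 hy1 hy2 hy3
      have h6 : 6 ≤ Fintype.card Ω := by
        have := Fintype.card_le_of_injective i hi
        rwa [Fintype.card_fin] at this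
      by_cases hB : ∃ y', y' ∉ (Finset.univ.filter (fun x => w x = x)) ∪ {x', w x', w (w x')}
      · obtain ⟨y', hy'⟩ := hB
        simp only [Finset.mem_union, Finset.mem_filter, Finset.mem_univ, true_and, Finset.mem_insert,
          Finset.mem_singleton, not_or] at hy'
        obtain ⟨hy0', hy1', hy2', hy3'⟩ := hy'
        obtain ⟨j, hj, hwj⟩ := embB w hw3 x' y' hx' hy0' hy1' hy2' hy3'
        exact transfer Nat.prime_three u w i j hi hj uB wB hui hwj tB1 tB2 (by decide) goodB1 goodB2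
      · push Not at hB
        have h1 := Finset.card_le_card (fun z _ => hB z : (Finset.univ : Finset Ω) ⊆ _)
        have h2 := Finset.card_union_le (Finset.univ.filter (fun x => w x = x)) {x', w x', w (w x')}
        have h3 : ({x', w x', w (w x')} : Finset Ω).card ≤ 3 := Finset.card_le_three
        rw [Finset.card_univ] at h1
        have h4 : 2 < (Finset.univ.filter (fun x => w x = x)).card := by omega
        obtain ⟨a, b, c, ha, hb, hc, hab, hac, hbc⟩ := Finset.two_lt_card_iff.1 h4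
        simp only [Finset.mem_filter, Finset.mem_univ, true_and] at ha hb hc
        obtain ⟨j, hj, hwj⟩ := embC w hw3 x' a b c hx' ha hb hc hab hac hbc
        exact transfer Nat.prime_three u w i j hi hj uC wC hui hwj tC1 tC2 (by decide) goodC1 goodC2
    · have hfw : ¬ (Finset.univ.filter (fun x => w x = x)).card ≤ 1 := fun h => hfu (hcard h)
      obtain ⟨a, ha, b, hb, hab⟩ := Finset.one_lt_card.1 (not_le.1 hfu)
      obtain ⟨a', ha', b', hb', hab'⟩ := Finset.one_lt_card.1 (not_le.1 hfw)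
      simp only [Finset.mem_filter, Finset.mem_univ, true_and] at ha hb ha' hb'
      obtain ⟨i, hi, hui⟩ := embA u hu3 x a b hx ha hb hab
      obtain ⟨j, hj, hwj⟩ := embA w hw3 x' a' b' hx' ha' hb' hab'
      exact transfer Nat.prime_three u w i j hi hj uA wA hui hwj tA1 tA2 (by decide) goodA1 goodA2
  by_cases h : (Finset.univ.filter (fun x => u x = x)).card ≤ 1
  · exact key u w hu1 hw1 hu hw (fun _ => h)
  · exact exists_good_symm (key w u hw1 hu1 hw hu (fun h' => absurd h' h))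

theorem main_aux {Ω : Type*} [Fintype Ω] [DecidableEq Ω] (hΩ : 5 ≤ Fintype.card Ω) {p : ℕ} (hp : p.Prime)
    (hp3 : 3 ≤ p) (u w : Perm Ω) (hu1 : u ≠ 1) (m : ℕ) (hu : u ^ (p ^ (m + 1)) = 1)
    (hw : w ^ (p ^ (m + 1)) = 1) (hw' : w ^ (p ^ m) ≠ 1) :
    ∃ g : Perm Ω, sign g = 1 ∧ Good p u (g * w * g⁻¹) := by
  have hF : Fact p.Prime := ⟨hp⟩
  have hp2 : p ≠ 2 := by omega
  have hN0 : NeZero (p ^ (m + 1)) := ⟨(pow_pos hp.pos _).ne'⟩
  obtain ⟨j, hj, hwj⟩ := exists_cycle_embedding hp w m hw hw'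
  rcases Nat.eq_zero_or_pos m with rfl | hm
  · rw [pow_zero, pow_one] at hw'
    rcases eq_or_lt_of_le hp3 with h3 | h3
    · subst h3
      rw [zero_add, pow_one] at hu hw
      exact main_three hΩ u w hu1 hw' hu hw
    · have hp5 : 5 ≤ p := by
        rcases Nat.lt_or_ge p 5 with h | h
        · have : p = 4 := by omega
          subst this
          exact absurd hp (by norm_num)
        · exact h
      obtain ⟨i, hi, hui⟩ := exists_cycle_embedding hp u 0 hu (by rwa [pow_zero, pow_one])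
      obtain ⟨t1, t2, hs, h1, h2⟩ := loc_one (p := p) hp5
      exact transfer hp u w i j hi hj _ _ hui hwj t1 t2 hs h1 h2
  · have hcard : p ^ (m + 1) ≤ Fintype.card Ω := by
      have := Fintype.card_le_of_injective j hj
      rwa [ZMod.card] at this
    obtain ⟨i, u0, hi, hui, hu01, hu0⟩ := InvSub.exists_injection hp u hu1 (m + 1) hu hcard
      (ZMod (p ^ (m + 1))) (ZMod.card _)
    obtain ⟨t1, t2, hs, h1, h2⟩ := loc_ge_two (p := p) (b := m + 1) hp2 (by omega) u0 ⟨m + 1, hu0⟩ hu01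
    exact transfer hp u w i j hi hj _ _ hui hwj t1 t2 hs h1 h2

theorem main {Ω : Type*} [Fintype Ω] [DecidableEq Ω] (hΩ : 5 ≤ Fintype.card Ω) {p : ℕ} (hp : p.Prime)
    (hp3 : 3 ≤ p) (u w : Perm Ω) (hu1 : u ≠ 1) (hw1 : w ≠ 1) (hu : ∃ k : ℕ, orderOf u = p ^ k)
    (hw : ∃ k : ℕ, orderOf w = p ^ k) : ∃ g : Perm Ω, sign g = 1 ∧ Good p u (g * w * g⁻¹) := by
  obtain ⟨a, ha⟩ := hu
  obtain ⟨b, hb⟩ := hw
  -- the ordered case
  have key : ∀ (u w : Perm Ω) (a b : ℕ), u ≠ 1 → w ≠ 1 → orderOf u = p ^ a → orderOf w = p ^ b → a ≤ b →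
      ∃ g : Perm Ω, sign g = 1 ∧ Good p u (g * w * g⁻¹) := by
    intro u w a b hu1 hw1 ha hb hab
    obtain ⟨m, rfl⟩ : ∃ m, b = m + 1 := by
      cases b with
      | zero =>
        rw [pow_zero, orderOf_eq_one_iff] at hb
        exact absurd hb hw1
      | succ m => exact ⟨m, rfl⟩
    refine main_aux hΩ hp hp3 u w hu1 m ?_ ?_ ?_
    · rw [← orderOf_dvd_iff_pow_eq_one, ha]
      exact pow_dvd_pow p hab
    · rw [← orderOf_dvd_iff_pow_eq_one, hb]
    · rw [Ne, ← orderOf_dvd_iff_pow_eq_one, hb, Nat.pow_dvd_pow_iff_le_right hp.one_lt]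
      omega
  rcases le_total a b with hab | hab
  · exact key u w a b hu1 hw1 ha hb hab
  · exact exists_good_symm (key w u b a hw1 hu1 hb ha hab)

end Cfsg.Agent.H106.LocPair
end

-- part: S2276
section
set_option autoImplicit false
open Cfsg

namespace Cfsg.Agent.S2276

open Equiv Equiv.Perm Cfsg.Agent.H106.LocPair

/-- Let n ≥ 5, p ≥ 3 a prime, and u, w non-identity elements of p-power order in the alternating group A_n. Then there is g ∈ A_n such that u·(g w g⁻¹) does not have p-power order and ⟨u, g w g⁻¹⟩ is not solvable. -/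
theorem result (n : ℕ) (hn : 5 ≤ n) (p : ℕ) (hp : p.Prime) (hp3 : 3 ≤ p) (u w : alternatingGroup (Fin n)) (hu : u ≠ 1) (hw : w ≠ 1)
    (hu' : ∃ k : ℕ, orderOf u = p ^ k) (hw' : ∃ k : ℕ, orderOf w = p ^ k) :
    ∃ g : alternatingGroup (Fin n), (¬ ∃ k : ℕ, orderOf (u * (g * w * g⁻¹)) = p ^ k) ∧
      ¬ Group.IsSolvable ↥(Subgroup.closure ({u, g * w * g⁻¹} : Set (alternatingGroup (Fin n)))) := by
  have hord : ∀ x : alternatingGroup (Fin n), orderOf (x : Perm (Fin n)) = orderOf x :=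
    fun x => orderOf_injective (alternatingGroup (Fin n)).subtype Subtype.val_injective x
  have hne : ∀ x : alternatingGroup (Fin n), x ≠ 1 → (x : Perm (Fin n)) ≠ 1 :=
    fun x hx h => hx (Subtype.ext h)
  obtain ⟨g, hg, h1, h2⟩ := main (Ω := Fin n) (by rwa [Fintype.card_fin]) hp hp3 (u : Perm (Fin n)) (w : Perm (Fin n))
    (hne u hu) (hne w hw) (by simpa only [hord] using hu') (by simpa only [hord] using hw')
  refine ⟨⟨g, mem_alternatingGroup.2 hg⟩, ?_, ?_⟩
  · rintro ⟨k, hk⟩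
    apply h1
    refine ⟨k, ?_⟩
    rw [← hk, ← hord]
    rfl
  · intro hs
    apply h2
    have h3 : (Subgroup.closure ({u, ⟨g, mem_alternatingGroup.2 hg⟩ * w * (⟨g, mem_alternatingGroup.2 hg⟩)⁻¹} :
        Set (alternatingGroup (Fin n)))).map (alternatingGroup (Fin n)).subtype =
        Subgroup.closure ({(u : Perm (Fin n)), g * (w : Perm (Fin n)) * g⁻¹} : Set (Perm (Fin n))) := by
      rw [MonoidHom.map_closure, Set.image_pair]
      rfl
    rw [← h3]
    exact Group.isSolvable_of_surjective (f := (alternatingGroup (Fin n)).subtype.subgroupMap _)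
      (MonoidHom.subgroupMap_surjective _ _)

end Cfsg.Agent.S2276
end
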