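import Cfsg.Statements.S2333
import Cfsg.Agent.H119.SpBound
set_option linter.all false

set_option autoImplicit false
open Cfsg

namespace Cfsg.Agent.S2333

/-- For a finite field F of even order q and n ≥ 2 with (n, q) ≠ (2, 2), every irreducible complex representation of the symplectic group Sp_{2n}(F) of degree at least 2 has degree at least (q^n − 1)(q^n − q)/(2(q + 1)). -/
theorem result {F : Type*} [Field F] [Fintype F] [DecidableEq F] (n : ℕ) (hn : 2 ≤ n) (heven : Even (Fintype.card F)) (hex : (n, Fintype.card F) ≠ (2, 2)) :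
    (∀ (k : ℕ) (ρ : Representation ℂ (Matrix.symplecticGroup (Fin n) F) (Fin k → ℂ)), ρ.IsIrreducible → 2 ≤ k → (Fintype.card F ^ n - 1) * (Fintype.card F ^ n - Fintype.card F) / (2 * (Fintype.card F + 1)) ≤ k) := by
  intro k ρ hρ hk
  have h2 : (2 : F) = 0 := by
    have h1 : ((Fintype.card F : ℕ) : F) = 0 := FiniteField.cast_card_eq_zero F
    obtain ⟨m, -, n', hp, hc⟩ := FiniteField.card' F
    have hpm : m = 2 := by
      have h3 : 2 ∣ m ^ (n' : ℕ) := by
        rw [← hc]
        exact heven.two_dvd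
      exact ((Nat.prime_dvd_prime_iff_eq Nat.prime_two hp).1 (Nat.prime_two.dvd_of_dvd_pow h3)).symm
    subst hpm
    rw [hc] at h1
    push_cast at h1
    exact (pow_eq_zero_iff (n'.pos.ne')).1 h1
  have h1 := Cfsg.Agent.H119.SpBound.bound h2 ρ hρ (by simpa using hk)
  rw [Module.finrank_fin_fun] at h1
  refine le_trans (le_of_eq ?_) h1
  rw [← Cfsg.Agent.H119.bs_eq (Fintype.card_pos) n, Nat.mul_div_cancel_left _ (by positivity)]

end Cfsg.Agent.S2333
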