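import Cfsg.Statements.S2419
import Cfsg.Agent.H138.CoxGen
set_option linter.all false

set_option autoImplicit false
open Cfsg

namespace Cfsg.Agent.S2419

open Cfsg.Agent.H138.CoxGen Cfsg.Agent.ChevalleyStructure.CoxeterFaithful Cfsg.Agent.ChevalleyStructure.CoxeterElement

theorem genB2 {H : Subgroup (CoxeterMatrix.B 2).Group}
    (hS : ∀ g ∈ ([[0, 1], [0]] : List (List (Fin 2))), ev (CoxeterMatrix.B 2) g ∈ H) : H = ⊤ :=
  eq_top_of_check (rows := [[2, -2], [-1, 2]]) (cert := [([], [1]), ([], [1, 0])]) (by decide +kernel) (by decide +kernel)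
    (by decide +kernel) hS

theorem genG2 {H : Subgroup CoxeterMatrix.G₂.Group}
    (hS : ∀ g ∈ ([[0, 1], [0]] : List (List (Fin 2))), ev CoxeterMatrix.G₂ g ∈ H) : H = ⊤ :=
  eq_top_of_check (rows := [[2, -3], [-1, 2]]) (cert := [([], [1]), ([], [1, 0])]) (by decide +kernel) (by decide +kernel)
    (by decide +kernel) hS

theorem genD4 {H : Subgroup Cfsg.Lie.coxeterD4.Group}
    (hS : ∀ g ∈ ([[0, 1, 2, 3], [0], [2]] : List (List (Fin 4))), ev Cfsg.Lie.coxeterD4 g ∈ H) : H = ⊤ :=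
  eq_top_of_check (rows := [[2, -1, 0, 0], [-1, 2, -1, -1], [0, -1, 2, 0], [0, -1, 0, 2]]) (cert := [([], [1]), ([0], [0, 1]), ([], [2]), ([0, 2, 0], [0, 2, 0, 1])]) (by decide +kernel) (by decide +kernel)
    (by decide +kernel) hS

theorem genF4 {H : Subgroup CoxeterMatrix.F₄.Group}
    (hS : ∀ g ∈ ([[0, 1, 2, 3], [0], [2]] : List (List (Fin 4))), ev CoxeterMatrix.F₄ g ∈ H) : H = ⊤ :=
  eq_top_of_check (rows := [[2, -1, 0, 0], [-1, 2, -2, 0], [0, -1, 2, -1], [0, 0, -1, 2]]) (cert := [([], [1]), ([0], [0, 1]), ([], [2]), ([0], [0, 2])]) (by decide +kernel) (by decide +kernel)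
    (by decide +kernel) hS

theorem genE6 {H : Subgroup CoxeterMatrix.E₆.Group}
    (hS : ∀ g ∈ ([[0, 1, 2, 3, 4, 5], [0]] : List (List (Fin 6))), ev CoxeterMatrix.E₆ g ∈ H) : H = ⊤ :=
  eq_top_of_check (rows := [[2, 0, -1, 0, 0, 0], [0, 2, 0, -1, 0, 0], [-1, 0, 2, -1, 0, 0], [0, -1, -1, 2, -1, 0], [0, 0, 0, -1, 2, -1], [0, 0, 0, 0, -1, 2]]) (cert := [([], [1]), ([0, 0, 1, 0, 0, 0], [0, 0, 1, 0, 0, 0, 1]), ([0], [0, 1]), ([0, 0, 0, 0, 0], [0, 0, 0, 0, 0, 1]), ([0, 0, 0, 0, 0, 0], [0, 0, 0, 0, 0, 0, 1]), ([0, 0, 0, 0, 0, 0, 0], [0, 0, 0, 0, 0, 0, 0, 1])]) (by decide +kernel) (by decide +kernel)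
    (by decide +kernel) hS

theorem genE7 {H : Subgroup CoxeterMatrix.E₇.Group}
    (hS : ∀ g ∈ ([[0, 1, 2, 3, 4, 5, 6], [3]] : List (List (Fin 7))), ev CoxeterMatrix.E₇ g ∈ H) : H = ⊤ :=
  eq_top_of_check (rows := [[2, 0, -1, 0, 0, 0, 0], [0, 2, 0, -1, 0, 0, 0], [-1, 0, 2, -1, 0, 0, 0], [0, -1, -1, 2, -1, 0, 0], [0, 0, 0, -1, 2, -1, 0], [0, 0, 0, 0, -1, 2, -1], [0, 0, 0, 0, 0, -1, 2]]) (cert := [([0, 0, 0, 0, 1, 0, 0, 0, 0], [0, 0, 0, 0, 1, 0, 0, 0, 0, 1]), ([1, 0, 1, 0, 0, 0, 0, 0], [1, 0, 1, 0, 0, 0, 0, 0, 1]), ([1, 0, 0, 0, 0, 0], [1, 0, 0, 0, 0, 0, 1]), ([], [1]), ([0], [0, 1]), ([0, 0], [0, 0, 1]), ([0, 0, 0], [0, 0, 0, 1])]) (by decide +kernel) (by decide +kernel)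
    (by decide +kernel) hS

theorem genE8 {H : Subgroup CoxeterMatrix.E₈.Group}
    (hS : ∀ g ∈ ([[0, 1, 2, 3, 4, 5, 6, 7], [3]] : List (List (Fin 8))), ev CoxeterMatrix.E₈ g ∈ H) : H = ⊤ :=
  eq_top_of_check (rows := [[2, 0, -1, 0, 0, 0, 0, 0], [0, 2, 0, -1, 0, 0, 0, 0], [-1, 0, 2, -1, 0, 0, 0, 0], [0, -1, -1, 2, -1, 0, 0, 0], [0, 0, 0, -1, 2, -1, 0, 0], [0, 0, 0, 0, -1, 2, -1, 0], [0, 0, 0, 0, 0, -1, 2, -1], [0, 0, 0, 0, 0, 0, -1, 2]]) (cert := [([0, 0, 0, 0, 0, 1, 0, 0, 0, 0, 0, 0, 0, 0, 0], [0, 0, 0, 0, 0, 1, 0, 0, 0, 0, 0, 0, 0, 0, 0, 1]), ([1, 0, 1, 0, 0, 0, 0, 0, 0], [1, 0, 1, 0, 0, 0, 0, 0, 0, 1]), ([1, 0, 0, 0, 0, 0, 0], [1, 0, 0, 0, 0, 0, 0, 1]), ([], [1]), ([0], [0, 1]), ([0, 0], [0, 0, 1]), ([0, 0, 0], [0, 0, 0, 1]), ([0, 0, 0, 0], [0, 0, 0, 0, 1])]) (by decide +kernel) (by decide +kernel)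
    (by decide +kernel) hS

theorem ne_D4 : ev Cfsg.Lie.coxeterD4 [0] ≠ ev Cfsg.Lie.coxeterD4 [2] :=
  ev_ne (rows := [[2, -1, 0, 0], [-1, 2, -1, -1], [0, -1, 2, 0], [0, -1, 0, 2]]) (i := 0) (by decide +kernel) (by decide +kernel) (by decide +kernel)

theorem ne_F4 : ev CoxeterMatrix.F₄ [0] ≠ ev CoxeterMatrix.F₄ [2] :=
  ev_ne (rows := [[2, -1, 0, 0], [-1, 2, -2, 0], [0, -1, 2, -1], [0, 0, -1, 2]]) (i := 0) (by decide +kernel) (by decide +kernel) (by decide +kernel)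

theorem ev_single {l : ℕ} (M : CoxeterMatrix (Fin l)) (i : Fin l) : ev M [i] = M.simple i := by
  rw [ev, List.map_singleton, List.prod_singleton]

/-- One reflection. -/
theorem one_refl {l : ℕ} (M : CoxeterMatrix (Fin l)) (i : Fin l)
    (h : ∀ H : Subgroup M.Group, (∀ g ∈ [List.finRange l, [i]], ev M g ∈ H) → H = ⊤) :
    ∃ T : Finset M.Group, T.card = 1 ∧ (∀ t ∈ T, ∃ (g : M.Group) (i : Fin l), t = g * M.simple i * g⁻¹) ∧
      Subgroup.closure (({((List.finRange l).map M.simple).prod} : Set M.Group) ∪ ↑T) = ⊤ := by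
  refine ⟨{M.simple i}, Finset.card_singleton _, ?_, h _ ?_⟩
  · intro t ht
    rw [Finset.mem_singleton] at ht
    exact ⟨1, i, by rw [ht, one_mul, inv_one, mul_one]⟩
  · intro g hg
    simp only [List.mem_cons, List.not_mem_nil, or_false] at hg
    rcases hg with rfl | rfl
    · exact Subgroup.subset_closure (Or.inl rfl)
    · rw [ev_single]
      exact Subgroup.subset_closure (Or.inr (by simp))

/-- Two reflections. -/
theorem two_refl {l : ℕ} (M : CoxeterMatrix (Fin l)) (i j : Fin l) (hij : ev M [i] ≠ ev M [j])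
    (h : ∀ H : Subgroup M.Group, (∀ g ∈ [List.finRange l, [i], [j]], ev M g ∈ H) → H = ⊤) :
    ∃ T : Finset M.Group, T.card = 2 ∧ (∀ t ∈ T, ∃ (g : M.Group) (i : Fin l), t = g * M.simple i * g⁻¹) ∧
      Subgroup.closure (({((List.finRange l).map M.simple).prod} : Set M.Group) ∪ ↑T) = ⊤ := by
  classical
  rw [ev_single, ev_single] at hij
  refine ⟨{M.simple i, M.simple j}, Finset.card_pair hij, ?_, h _ ?_⟩
  · intro t ht
    rw [Finset.mem_insert, Finset.mem_singleton] at ht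
    rcases ht with ht | ht
    · exact ⟨1, i, by rw [ht, one_mul, inv_one, mul_one]⟩
    · exact ⟨1, j, by rw [ht, one_mul, inv_one, mul_one]⟩
  · intro g hg
    simp only [List.mem_cons, List.not_mem_nil, or_false] at hg
    rcases hg with rfl | rfl | rfl
    · exact Subgroup.subset_closure (Or.inl rfl)
    · rw [ev_single]
      exact Subgroup.subset_closure (Or.inr (by simp))
    · rw [ev_single]
      exact Subgroup.subset_closure (Or.inr (by simp))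

/-- The Coxeter groups of types B₂, G₂, E₆, E₇, E₈ are generated by the Coxeter element `s₁ s₂ ⋯ s_l` together with one suitable reflection (a conjugate of a simple reflection); for types D₄ and F₄ the Coxeter element together with two suitable reflections suffices. -/
theorem result (c : (Σ n : ℕ, CoxeterMatrix (Fin n)) × ℕ)
    (hc : c ∈ [(⟨2, CoxeterMatrix.B 2⟩, 1), (⟨2, CoxeterMatrix.G₂⟩, 1), (⟨4, Cfsg.Lie.coxeterD4⟩, 2), (⟨4, CoxeterMatrix.F₄⟩, 2),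
      (⟨6, CoxeterMatrix.E₆⟩, 1), (⟨7, CoxeterMatrix.E₇⟩, 1), (⟨8, CoxeterMatrix.E₈⟩, 1)]) :
    ∃ T : Finset c.1.2.Group, T.card = c.2 ∧ (∀ t ∈ T, ∃ (g : c.1.2.Group) (i : Fin c.1.1), t = g * c.1.2.simple i * g⁻¹) ∧
      Subgroup.closure (({((List.finRange c.1.1).map c.1.2.simple).prod} : Set c.1.2.Group) ∪ ↑T) = ⊤ := by
  simp only [List.mem_cons, List.not_mem_nil, or_false] at hc
  rcases hc with rfl | rfl | rfl | rfl | rfl | rfl | rfl
  · exact one_refl (CoxeterMatrix.B 2) 0 fun H h => genB2 h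
  · exact one_refl CoxeterMatrix.G₂ 0 fun H h => genG2 h
  · exact two_refl Cfsg.Lie.coxeterD4 0 2 ne_D4 fun H h => genD4 h
  · exact two_refl CoxeterMatrix.F₄ 0 2 ne_F4 fun H h => genF4 h
  · exact one_refl CoxeterMatrix.E₆ 0 fun H h => genE6 h
  · exact one_refl CoxeterMatrix.E₇ 3 fun H h => genE7 h
  · exact one_refl CoxeterMatrix.E₈ 3 fun H h => genE8 h

end Cfsg.Agent.S2419
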