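import Cfsg.Agent.H154.PGDataA
import Cfsg.Statements.S2489
import Cfsg.Agent.S0000
import Cfsg.Agent.OrdDiv.Table
import Cfsg.Agent.Lib.ListFast
import Cfsg.Agent.Prune
set_option linter.all false
prune_inst 0x7f00000000000000000000000000000000000000000000000000000000000000000000000000000000000000000000000000000000000000000000000000000000000000000000000000000000000000003fffffffffffffffffffffffffffbeffbdffffffff

/-- decoders of the packed data (elaboration time only) -/
private noncomputable def pk61d (b S i : Nat) : Nat := Nat.mod (Nat.shiftRight S (Nat.mul b i)) (Nat.shiftLeft (nat_lit 1) b)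
private noncomputable def pk61f {α : Type} (t : Nat) (f : Nat → α) : α := Nat.rec (f Nat.zero) (fun k _ => f (Nat.succ k)) t
private noncomputable def pk61l {α : Type} (f : Nat → α) (s e : Nat) (tl : List α) : List α :=
  pk61f e fun e => Nat.rec tl (fun k ih => List.cons (pk61f (Nat.sub e (Nat.succ k)) f) ih) (Nat.sub e s)

-- part: H154/PGDataB
section
/-!
# Prime graph test: the order of the Baby Monster (helper154)

Machine generated certificates: for every order `o` of a nonabelian simple group and every power `o ^ k`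
dividing `n`, a tree of forced adjacencies between the prime divisors of `n`.
-/

set_option autoImplicit false

namespace Cfsg.Agent.H154.PG.DataB

open Cfsg Cfsg.Agent.OrdDiv Cfsg.Agent.H154.PG

universe u

def l_b : List (ℕ × ℕ) := [(2, 41), (3, 13), (5, 6), (7, 2), (11, 1), (13, 1), (17, 1), (19, 1), (23, 1), (31, 1), (47, 1)]

def ords_b : List ℕ := [60, 168, 360, 504, 660, 1092, 2448, 2520, 3420, 4080, 5616, 6048, 6072, 7800, 7920, 9828, 14880, 20160, 25920, 29120, 32736, 51888, 58800, 62400, 95040, 126000, 175560, 181440, 262080, 372000, 443520, 604800, 976500, 979200, 1451520, 1814400, 3265920, 4245696, 4680000, 5515776, 6065280, 9999360, 10200960, 13685760, 17971200, 19958400, 42456960, 44352000, 50232960, 174182400, 197406720, 211341312, 239500800, 244823040, 251596800, 898128000, 987033600, 1018368000, 1056706560, 1425715200, 3113510400, 4585351680, 5859000000, 7254000000, 9196830720, 14742000000, 20158709760, 43589145600, 47377612800, 50778000000,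 448345497600, 495766656000, 653837184000, 4106059776000, 4952179814400, 10461394944000, 23499295948800, 25015379558400, 34693789777920, 42305421312000, 64561751654400, 177843714048000, 258492255436800, 273030912000000, 3201186852864000, 3311126603366400, 24815256521932800, 60822550204416000, 90745943887872000, 1216451004088320000, 4089470473293004800, 4157776806543360000, 50027557148216524800, 51615733565620224000, 361310134959341568000, 76532479683774853939200, 208114637736580743168000, 4154781481226426191177580544000000]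

noncomputable def certs_b : List (ℕ × ℕ × ℕ × List (ℕ × ℕ)) :=
  let y0 : List (ℕ × ℕ × ℕ × List (ℕ × ℕ)) := (by
  refine (?fq9002 : (pk61l (fun i0 => (_root_.Prod.mk (pk61d (nat_lit 78) 
    (nat_lit 0xb047ab20fb4000000001034d58371f000000000004e58bdd5c500000000002cc4fec34c0000000000ad91658ad0000000000039b363fa096000000000e302deea0050000000010e1b3be415a0000) i0) (_root_.Prod.mk (nat_lit 1) (_root_.Prod.mk (nat_lit 0) (pk61l (fun i1 => (_root_.Prod.mk (pk61d (nat_lit 6) 
    (nat_lit 0xc57d134bbd74c71434d134bbdf5c70c57d134bbd74c70c5bd74df44d1cb0c57d12ef5d33470c55cd2ef7d344715744d2ef7d31c30c54d136f7c75cb) i1) (pk61d (nat_lit 5) 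
    (nat_lit 0x39e739cce7388e7bdef739ce239e739cce73896b5ad6739d6239dad69ce7388e78c62739ce219ce738c63188e7bdee73dd62) i1))) (Nat.mul (nat_lit 10) i0) (Nat.mul (nat_lit 10) (Nat.succ i0)) List.nil))))) (nat_lit 0) (nat_lit 8) List.nil : List (ℕ × ℕ × ℕ × List (ℕ × ℕ)))
    = ?xq9002 → (List (ℕ × ℕ × ℕ × List (ℕ × ℕ)))) ?hq9002; (case hq9002 => (set_option maxRecDepth 1000000 in set_option simprocs false in conv => lhs; reduce; dsimp only)); intro _; exact ?xq9002 : List (ℕ × ℕ × ℕ × List (ℕ × ℕ)))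
  let y1 : List (ℕ × ℕ × ℕ × List (ℕ × ℕ)) := (by
  refine (?fq9003 : (fun tl : List (ℕ × ℕ × ℕ × List (ℕ × ℕ)) => pk61l (fun i0 => (_root_.Prod.mk (pk61d (nat_lit 57) 
    (nat_lit 0xa1327a431f400036057260d120000b052b04c0000000bc373bd00000005afbb329cc000003e147da17000001d631d620000000a1bf7766c000001d5bfa23000000099e7fe700000003f1b8e0800000016c058d00000000aafad980000000260eeeeb000000090209d660000003bc043c000000004c1dddd60000001cdb7fb50000000d0c6f2c00000000bd29aca8000000583f68000000002898765000000009631b00000000036eb11180000001121640000000006c17d0600000002ba727d80000001114eea00) i0) (_root_.Prod.mk (nat_lit 1) (_root_.Prod.mk (nat_lit 0) (pk61l (fun i1 => (_root_.Prod.mk (pk61d (nat_lit 6) 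
    (nat_lit 0xbdf5d344d2c7143) (pk61d (nat_lit 4) 
    (nat_lit 0x1086497532016543987201976485230154987632015439876208623975410197648325015439876210987654230198654723016987523401987643250197643825014398765210987653240198763524014398765201986543270198765423082497653101987643520143987652018976543208249765310198765423028497653102897654311098765324) i1)) (pk61d (nat_lit 5) 
    (nat_lit 0x39d6b59ce7388e7bdef739ce25ad6b5ace7588e75ace739ce239e7399ce7388ab3ada5294a25ad6b5ace7888e79ce6739ce25ad6b5ad675896b5ad6b59d6239d6739ceb6896b5ad6b59e228c6318c627888e78c4e739ce26adad6b5ad689ad6b5ad69da239e3139ce73896b5ad6b59ee25ad6b5ad67588a76aca5294a28c6318c631388e78c4e739ce239d6739ce7388ad6aca5294a25ad6b5ad6b588a55aca5294a22fd65294a5289ad6b5ad6b5a2) i1))) (Nat.mul (nat_lit 10) i0) (Nat.mul (nat_lit 10) (Nat.succ i0)) List.nil))))) (nat_lit 0) (nat_lit 28) tl)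
    = ?xq9003 → (List (ℕ × ℕ × ℕ × List (ℕ × ℕ)))) ?hq9003; (case hq9003 => (set_option maxRecDepth 1000000 in set_option simprocs false in conv => lhs; reduce; dsimp only)); intro _; exact ?xq9003 y0 : List (ℕ × ℕ × ℕ × List (ℕ × ℕ)))
  let y2 : List (ℕ × ℕ × ℕ × List (ℕ × ℕ)) := (by
  refine (?fq9004 : (fun tl : List (ℕ × ℕ × ℕ × List (ℕ × ℕ)) => pk61l (fun i0 => (_root_.Prod.mk (pk61d (nat_lit 32) 
    (nat_lit 0xb994660054fab0003efc10003cb310003ad4f000358858800eff10000e97b4000e467e000c98d0000bc430000a61d0000a61d00002fe7e8002a4c2000287d78001308a800112380000d0d400009ba78000989400005c8c8000542a00004769400040c8c00031d5800031d580001baf80) i0) (_root_.Prod.mk (pk61d (nat_lit 2) 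
    (nat_lit 0x55555655555566) i0) (_root_.Prod.mk (nat_lit 0) (pk61l (fun i1 => (_root_.Prod.mk (pk61d (nat_lit 6) 
    (nat_lit 0xbdf5d344d2c7143) (pk61d (nat_lit 4) 
    (nat_lit 0x198765423019876352401498765320129876534019876432501987654230198765324019865432701987654230149876532019876432598765432100198765432012987453601987654230198765324019876542301298765341029876534019865472301976543820129876534019875432602198765340198765324987654321001987654329876543210) i1)) (pk61d (nat_lit 5) 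
    (nat_lit 0xfde716ace2) (pk61d (nat_lit 3) 
    (nat_lit 0x49249141b6db65825124921b6db6989249248124924902db6db6124924704924924094492489249248092492002492492249248a849249240b6db6d84924924126db6d8692492612492450ffffff2136db6d8b6db6da1b6db6d82db6db609249200249249209249200) i1)))) (Nat.mul (nat_lit 10) i0) (Nat.mul (nat_lit 10) (Nat.succ i0)) List.nil))))) (nat_lit 0) (nat_lit 28) tl)
    = ?xq9004 → (List (ℕ × ℕ × ℕ × List (ℕ × ℕ)))) ?hq9004; (case hq9004 => (set_option maxRecDepth 1000000 in set_option simprocs false in conv => lhs; reduce; dsimp only)); intro _; exact ?xq9004 y1 : List (ℕ × ℕ × ℕ × List (ℕ × ℕ)))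
  let y3 : List (ℕ × ℕ × ℕ × List (ℕ × ℕ)) := (by
  refine (?fq9005 : (fun tl : List (ℕ × ℕ × ℕ × List (ℕ × ℕ)) => pk61l (fun i0 => (_root_.Prod.mk (pk61d (nat_lit 21) 
    (nat_lit 0xdd7c0589802c4c00ef1007733a24ea01275006c4802d6900fff00589802c4c0156e407b0c03d86017340079e00396c01956007fe0038e00195000ca800654002760013b000744002664) i0) (_root_.Prod.mk (pk61d (nat_lit 2) 
    (nat_lit 0x65655965557995) i0) (_root_.Prod.mk (nat_lit 0) (pk61l (fun i1 => (_root_.Prod.mk (pk61d (nat_lit 6) 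
    (nat_lit 0xbdf5d344d2c7143) (pk61d (nat_lit 4) 
    (nat_lit 0x198765432987654321001987654320129876453019765432898765432100198765432019876542301297654830198765324987654321001987654320198754623897654321001987654320129876543012987653401987654320128653947102897654301987653244298765310298765431080297654139876543210019876543201297654830198765324) i1)) (pk61d (nat_lit 6) 
    (nat_lit 0xbdf5d134b1c50c2) (pk61d (nat_lit 4) 
    (nat_lit 0x3333333330333333300033333333306666666640888888888033333330003333333330444444444084888888405555555550333333300033333333304444444340322222200033333333306544444440445555555033333333307777779570144544444025555555502111111100222222220014222222403333333000333333333088888888403555555550) i1)))) (Nat.mul (nat_lit 10) i0) (Nat.mul (nat_lit 10) (Nat.succ i0)) List.nil))))) (nat_lit 0) (nat_lit 28) tl)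
    = ?xq9005 → (List (ℕ × ℕ × ℕ × List (ℕ × ℕ)))) ?hq9005; (case hq9005 => (set_option maxRecDepth 1000000 in set_option simprocs false in conv => lhs; reduce; dsimp only)); intro _; exact ?xq9005 y2 : List (ℕ × ℕ × ℕ × List (ℕ × ℕ)))
  (by
  refine (?fq9006 : (fun tl : List (ℕ × ℕ × ℕ × List (ℕ × ℕ)) => pk61l (fun i0 => (_root_.Prod.mk (pk61d (nat_lit 13) 
    (nat_lit 0x1ef0f3c5ee2f417a0af83fc1ab89d84ec26408882940fc07e02d01680b405a02d016805402a007803c01e00f007803c) i0) (_root_.Prod.mk (pk61d (nat_lit 3) 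
    (nat_lit 0x125124a2494758d14758d1) i0) (_root_.Prod.mk (pk61d (nat_lit 4) 
    (nat_lit 0xb0000) i0) ((fun g0 : Nat → Nat => pk61l (fun i1 => (_root_.Prod.mk (pk61d (nat_lit 6) 
    (nat_lit 0xbdf5d344d2c7143) (pk61d (nat_lit 4) 
    (nat_lit 0x1029876543012987654301279865431987654320109876543201298765430129876435012987543698765432100198765432012987643501987653240129876543198765432010987654328297654310329876541042987653108297654310298765431080297654131987654320109876543282976543102987654104298765310829765431029876543108029765413) i1)) (pk61d (nat_lit 5) 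
    (nat_lit 0x9c5ab39462) (pk61d (nat_lit 3) 
    (nat_lit 0x5924924125b6db0492c9240db6db6016db6db12db6db06db6db61ffffffc36db6c00db6db6c6db6db60edb6db44b249240db6db6016db6db0524924004924900524924014924900924924018924940db6db6018db6db05249240249248029249200a49248049249200c4924a0) i1)))) (g0 i0) (g0 (Nat.succ i0)) List.nil) fun j => (pk61d (nat_lit 9) 
    (nat_lit 0x2431786c0df2ef72b6da2c75eacd529f4aa2d02773698cb24f228ec62280f0501400) j)))))) (nat_lit 0) (nat_lit 29) tl)
    = ?xq9006 → (List (ℕ × ℕ × ℕ × List (ℕ × ℕ)))) ?hq9006; (case hq9006 => (set_option maxRecDepth 1000000 in set_option simprocs false in conv => lhs; reduce; dsimp only)); intro _; exact ?xq9006 y3 : List (ℕ × ℕ × ℕ × List (ℕ × ℕ)))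

private noncomputable def _root_.Cfsg.Agent.LsF.ff11584_0 : {f // @Nat.factorial = f} := ⟨_, by first | (delta Nat.factorial Nat.brecOn.go Nat.brecOn Nat.factorial._f; rewrite [Cfsg.Agent.LsF.nmul_pat]; (try delta Nat.factorial.match_1); (try delta Nat.casesOn); first | dsimp -zeta only | exact rfl) | exact rfl⟩
private noncomputable def _root_.Cfsg.Agent.LsF.ff11584_1 : {f // @Cfsg.Agent.OrdDiv.candAlt = f} := ⟨_, by first | (delta Cfsg.Agent.OrdDiv.candAlt; rewrite [Cfsg.Agent.LsF.ff11584_0.2, Cfsg.Agent.LsF.nadd_pat, Cfsg.Agent.LsF.nmul_pat, Cfsg.Agent.LsF.nmod_pat, Cfsg.Agent.LsF.nbeq_pat, Cfsg.Agent.LsF.and_eq, Cfsg.Agent.LsF.flatMap_eq, Cfsg.Agent.LsF.filter_eq, Cfsg.Agent.LsF.range_eq, Cfsg.Agent.LsF.dBoolEq_eq, Cfsg.Agent.LsF.ite_eq]; exact rfl) | exact rfl⟩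
private noncomputable def _root_.Cfsg.Agent.LsF.ff11584_3 : {f // @Cfsg.Agent.OrdDiv.cand = f} := ⟨_, by first | (delta Cfsg.Agent.OrdDiv.cand; rewrite [Cfsg.Agent.LsF.nmul_pat, Cfsg.Agent.LsF.nmod_pat, Cfsg.Agent.LsF.nbeq_pat, Cfsg.Agent.LsF.and_eq, Cfsg.Agent.LsF.filter_eq]; exact rfl) | exact rfl⟩
private noncomputable def _root_.Cfsg.Agent.LsF.ff11584_4 : {f // @Cfsg.Agent.OrdDiv.glN = f} := ⟨_, by first | (delta Cfsg.Agent.OrdDiv.glN; rewrite [Cfsg.Agent.LsF.nsub_pat, Cfsg.Agent.LsF.npow_pat, Cfsg.Agent.LsF.map_eq, Cfsg.Agent.LsF.range_eq, Cfsg.Agent.LsF.prod_eq]; exact rfl) | exact rfl⟩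
private noncomputable def _root_.Cfsg.Agent.LsF.ff11584_5 : {f // @Cfsg.Agent.OrdDiv.fPSL = f} := ⟨_, by first | (delta Cfsg.Agent.OrdDiv.fPSL; rewrite [Cfsg.Agent.LsF.ff11584_4.2, Cfsg.Agent.LsF.nmul_pat, Cfsg.Agent.LsF.nsub_pat, Cfsg.Agent.LsF.ndiv_pat, Cfsg.Agent.LsF.and_eq, Cfsg.Agent.LsF.not_eq]; exact rfl) | exact rfl⟩
private noncomputable def _root_.Cfsg.Agent.LsF.ff11584_6 : {f // @Cfsg.Agent.OrdDiv.prB = f} := ⟨_, by first | (delta Cfsg.Agent.OrdDiv.prB; rewrite [Cfsg.Agent.LsF.nadd_pat, Cfsg.Agent.LsF.nmul_pat, Cfsg.Agent.LsF.nsub_pat, Cfsg.Agent.LsF.npow_pat, Cfsg.Agent.LsF.map_eq, Cfsg.Agent.LsF.range_eq, Cfsg.Agent.LsF.prod_eq]; exact rfl) | exact rfl⟩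
private noncomputable def _root_.Cfsg.Agent.LsF.ff11584_7 : {f // @Cfsg.Agent.OrdDiv.fPSp = f} := ⟨_, by first | (delta Cfsg.Agent.OrdDiv.fPSp; rewrite [Cfsg.Agent.LsF.ff11584_6.2, Cfsg.Agent.LsF.nmul_pat, Cfsg.Agent.LsF.nsub_pat, Cfsg.Agent.LsF.npow_pat, Cfsg.Agent.LsF.and_eq, Cfsg.Agent.LsF.not_eq]; exact rfl) | exact rfl⟩
private noncomputable def _root_.Cfsg.Agent.LsF.ff11584_8 : {f // @Cfsg.Agent.OrdDiv.prU = f} := ⟨_, by first | (delta Cfsg.Agent.OrdDiv.prU; rewrite [Cfsg.Agent.LsF.nadd_pat, Cfsg.Agent.LsF.nsub_pat, Cfsg.Agent.LsF.nmod_pat, Cfsg.Agent.LsF.npow_pat, Cfsg.Agent.LsF.map_eq, Cfsg.Agent.LsF.range_eq, Cfsg.Agent.LsF.prod_eq, Cfsg.Agent.LsF.dBoolEq_eq, Cfsg.Agent.LsF.ite_eq]; exact rfl) | exact rfl⟩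
private noncomputable def _root_.Cfsg.Agent.LsF.ff11584_9 : {f // @Cfsg.Agent.OrdDiv.fPSU = f} := ⟨_, by first | (delta Cfsg.Agent.OrdDiv.fPSU; rewrite [Cfsg.Agent.LsF.ff11584_8.2, Cfsg.Agent.LsF.nadd_pat, Cfsg.Agent.LsF.nmul_pat, Cfsg.Agent.LsF.nsub_pat, Cfsg.Agent.LsF.ndiv_pat, Cfsg.Agent.LsF.npow_pat, Cfsg.Agent.LsF.and_eq, Cfsg.Agent.LsF.not_eq]; exact rfl) | exact rfl⟩
private noncomputable def _root_.Cfsg.Agent.LsF.ff11584_10 : {f // @Cfsg.Agent.OrdDiv.fOOdd = f} := ⟨_, by first | (delta Cfsg.Agent.OrdDiv.fOOdd; rewrite [Cfsg.Agent.LsF.ff11584_6.2, Cfsg.Agent.LsF.nmul_pat, Cfsg.Agent.LsF.nmod_pat, Cfsg.Agent.LsF.npow_pat]; exact rfl) | exact rfl⟩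
private noncomputable def _root_.Cfsg.Agent.LsF.ff11584_11 : {f // @Cfsg.Agent.OrdDiv.fOPlus = f} := ⟨_, by first | (delta Cfsg.Agent.OrdDiv.fOPlus; rewrite [Cfsg.Agent.LsF.ff11584_6.2, Cfsg.Agent.LsF.nmul_pat, Cfsg.Agent.LsF.nsub_pat, Cfsg.Agent.LsF.npow_pat]; exact rfl) | exact rfl⟩
private noncomputable def _root_.Cfsg.Agent.LsF.ff11584_12 : {f // @Cfsg.Agent.OrdDiv.fOMinus = f} := ⟨_, by first | (delta Cfsg.Agent.OrdDiv.fOMinus; rewrite [Cfsg.Agent.LsF.ff11584_6.2, Cfsg.Agent.LsF.nadd_pat, Cfsg.Agent.LsF.nmul_pat, Cfsg.Agent.LsF.nsub_pat, Cfsg.Agent.LsF.npow_pat]; exact rfl) | exact rfl⟩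
private noncomputable def _root_.Cfsg.Agent.LsF.ff11584_13 : {f // @Cfsg.Agent.OrdDiv.one = f} := ⟨_, by first | (delta Cfsg.Agent.OrdDiv.one; rewrite [Cfsg.Agent.LsF.nadd_pat, Cfsg.Agent.LsF.nmul_pat, Cfsg.Agent.LsF.npow_pat]; exact rfl) | exact rfl⟩
private noncomputable def _root_.Cfsg.Agent.LsF.ff11584_14 : {f // @Cfsg.Agent.OrdDiv.fG2 = f} := ⟨_, by first | (delta Cfsg.Agent.OrdDiv.fG2; rewrite [Cfsg.Agent.LsF.ff11584_13.2, Cfsg.Agent.LsF.nmul_pat, Cfsg.Agent.LsF.nsub_pat, Cfsg.Agent.LsF.npow_pat]; exact rfl) | exact rfl⟩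
private noncomputable def _root_.Cfsg.Agent.LsF.ff11584_15 : {f // @Cfsg.Agent.OrdDiv.fF4 = f} := ⟨_, by first | (delta Cfsg.Agent.OrdDiv.fF4; rewrite [Cfsg.Agent.LsF.ff11584_13.2, Cfsg.Agent.LsF.nmul_pat, Cfsg.Agent.LsF.nsub_pat, Cfsg.Agent.LsF.npow_pat]; exact rfl) | exact rfl⟩
private noncomputable def _root_.Cfsg.Agent.LsF.ff11584_16 : {f // @Cfsg.Agent.OrdDiv.fE6 = f} := ⟨_, by first | (delta Cfsg.Agent.OrdDiv.fE6; rewrite [Cfsg.Agent.LsF.ff11584_13.2, Cfsg.Agent.LsF.nmul_pat, Cfsg.Agent.LsF.nsub_pat, Cfsg.Agent.LsF.npow_pat]; exact rfl) | exact rfl⟩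
private noncomputable def _root_.Cfsg.Agent.LsF.ff11584_17 : {f // @Cfsg.Agent.OrdDiv.fE7 = f} := ⟨_, by first | (delta Cfsg.Agent.OrdDiv.fE7; rewrite [Cfsg.Agent.LsF.ff11584_13.2, Cfsg.Agent.LsF.nmul_pat, Cfsg.Agent.LsF.nsub_pat, Cfsg.Agent.LsF.npow_pat]; exact rfl) | exact rfl⟩
private noncomputable def _root_.Cfsg.Agent.LsF.ff11584_18 : {f // @Cfsg.Agent.OrdDiv.fE8 = f} := ⟨_, by first | (delta Cfsg.Agent.OrdDiv.fE8; rewrite [Cfsg.Agent.LsF.ff11584_13.2, Cfsg.Agent.LsF.nmul_pat, Cfsg.Agent.LsF.nsub_pat, Cfsg.Agent.LsF.npow_pat]; exact rfl) | exact rfl⟩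
private noncomputable def _root_.Cfsg.Agent.LsF.ff11584_19 : {f // @Cfsg.Agent.OrdDiv.fTE6 = f} := ⟨_, by first | (delta Cfsg.Agent.OrdDiv.fTE6; rewrite [Cfsg.Agent.LsF.ff11584_13.2, Cfsg.Agent.LsF.nadd_pat, Cfsg.Agent.LsF.nmul_pat, Cfsg.Agent.LsF.nsub_pat, Cfsg.Agent.LsF.npow_pat]; exact rfl) | exact rfl⟩
private noncomputable def _root_.Cfsg.Agent.LsF.ff11584_20 : {f // @Cfsg.Agent.OrdDiv.fTD4 = f} := ⟨_, by first | (delta Cfsg.Agent.OrdDiv.fTD4; rewrite [Cfsg.Agent.LsF.ff11584_13.2, Cfsg.Agent.LsF.nadd_pat, Cfsg.Agent.LsF.nmul_pat, Cfsg.Agent.LsF.nsub_pat, Cfsg.Agent.LsF.npow_pat]; exact rfl) | exact rfl⟩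
private noncomputable def _root_.Cfsg.Agent.LsF.ff11584_21 : {f // @Cfsg.Agent.OrdDiv.fSz = f} := ⟨_, by first | (delta Cfsg.Agent.OrdDiv.fSz; rewrite [Cfsg.Agent.LsF.ff11584_13.2, Cfsg.Agent.LsF.nadd_pat, Cfsg.Agent.LsF.nmul_pat, Cfsg.Agent.LsF.nsub_pat, Cfsg.Agent.LsF.nmod_pat, Cfsg.Agent.LsF.npow_pat, Cfsg.Agent.LsF.and_eq]; exact rfl) | exact rfl⟩
private noncomputable def _root_.Cfsg.Agent.LsF.ff11584_22 : {f // @Cfsg.Agent.OrdDiv.fRee = f} := ⟨_, by first | (delta Cfsg.Agent.OrdDiv.fRee; rewrite [Cfsg.Agent.LsF.ff11584_13.2, Cfsg.Agent.LsF.nadd_pat, Cfsg.Agent.LsF.nmul_pat, Cfsg.Agent.LsF.nsub_pat, Cfsg.Agent.LsF.nmod_pat, Cfsg.Agent.LsF.npow_pat, Cfsg.Agent.LsF.and_eq]; exact rfl) | exact rfl⟩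
private noncomputable def _root_.Cfsg.Agent.LsF.ff11584_23 : {f // @Cfsg.Agent.OrdDiv.fTF4 = f} := ⟨_, by first | (delta Cfsg.Agent.OrdDiv.fTF4; rewrite [Cfsg.Agent.LsF.ff11584_13.2, Cfsg.Agent.LsF.nadd_pat, Cfsg.Agent.LsF.nmul_pat, Cfsg.Agent.LsF.nsub_pat, Cfsg.Agent.LsF.nmod_pat, Cfsg.Agent.LsF.npow_pat, Cfsg.Agent.LsF.and_eq]; exact rfl) | exact rfl⟩
private noncomputable def _root_.Cfsg.Agent.LsF.ff11584_24 : {f // @Cfsg.Agent.OrdDiv.cands = f} := ⟨_, by first | (delta Cfsg.Agent.OrdDiv.cands; rewrite [Cfsg.Agent.LsF.ff11584_1.2, Cfsg.Agent.LsF.ff11584_3.2, Cfsg.Agent.LsF.ff11584_5.2, Cfsg.Agent.LsF.ff11584_7.2, Cfsg.Agent.LsF.ff11584_9.2, Cfsg.Agent.LsF.ff11584_10.2, Cfsg.Agent.LsF.ff11584_11.2, Cfsg.Agent.LsF.ff11584_12.2, Cfsg.Agent.LsF.ff11584_14.2, Cfsg.Agent.LsF.ff11584_15.2, Cfsg.Agent.LsF.ff11584_16.2, Cfsg.Agent.LsF.ff11584_17.2, Cfsg.Agent.LsF.ff11584_18.2, Cfsg.Agent.LsF.ff11584_19.2, Cfsg.Agent.LsF.ff11584_20.2, Cfsg.Agent.LsF.ff11584_21.2,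 Cfsg.Agent.LsF.ff11584_22.2, Cfsg.Agent.LsF.ff11584_23.2, Cfsg.Agent.LsF.nmod_pat, Cfsg.Agent.LsF.nbeq_pat, Cfsg.Agent.LsF.map_eq, Cfsg.Agent.LsF.flatten_eq, Cfsg.Agent.LsF.filter_eq]; exact rfl) | exact rfl⟩
private noncomputable def _root_.Cfsg.Agent.LsF.ff11584_25 : {f // @Cfsg.Agent.H154.PG.memb = f} := ⟨_, by first | (delta Cfsg.Agent.H154.PG.memb List.brecOn List.brecOn.go Cfsg.Agent.H154.PG.memb._f; rewrite [Cfsg.Agent.LsF.or_eq]; (try delta Cfsg.Agent.H154.PG.memb.match_1); (try delta List.casesOn); first | dsimp -zeta only | exact rfl) | exact rfl⟩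
private noncomputable def _root_.Cfsg.Agent.LsF.ff11584_26 : {f // @Cfsg.Agent.OrdDiv.instDecidableEqGrp.decEq = f} := ⟨_, by first | (delta Cfsg.Agent.OrdDiv.instDecidableEqGrp.decEq; rewrite [Cfsg.Agent.LsF.instDecEq_eq, Cfsg.Agent.LsF.dite_eq]; (try delta Cfsg.Agent.OrdDiv.instDecidableEqGrp.decEq.match_1); (try delta Decidable.casesOn); exact rfl) | exact rfl⟩
private noncomputable def _root_.Cfsg.Agent.LsF.ff11584_27 : {f // @Cfsg.Agent.OrdDiv.instDecidableEqGrp = f} := ⟨_, by first | (delta Cfsg.Agent.OrdDiv.instDecidableEqGrp; rewrite [Cfsg.Agent.LsF.ff11584_26.2]; exact rfl) | exact rfl⟩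
private noncomputable def _root_.Cfsg.Agent.LsF.ff11584_28 : {f // @Cfsg.Agent.OrdDiv.ordN = f} := ⟨_, by first | (delta Cfsg.Agent.OrdDiv.ordN Option.map; rewrite [Cfsg.Agent.LsF.ff11584_0.2, Cfsg.Agent.LsF.ff11584_5.2, Cfsg.Agent.LsF.ff11584_7.2, Cfsg.Agent.LsF.ff11584_9.2, Cfsg.Agent.LsF.ff11584_10.2, Cfsg.Agent.LsF.ff11584_11.2, Cfsg.Agent.LsF.ff11584_12.2, Cfsg.Agent.LsF.ff11584_14.2, Cfsg.Agent.LsF.ff11584_15.2, Cfsg.Agent.LsF.ff11584_16.2, Cfsg.Agent.LsF.ff11584_17.2, Cfsg.Agent.LsF.ff11584_18.2, Cfsg.Agent.LsF.ff11584_19.2, Cfsg.Agent.LsF.ff11584_20.2, Cfsg.Agent.LsF.ff11584_21.2, Cfsg.Agent.LsF.ff11584_22.2, Cfsg.Agent.LsF.ff11584_23.2, Cfsg.Agent.LsF.ff11584_27.2, Cfsg.Agent.LsF.ndiv_pat, Cfsg.Agent.LsF.find?_eq, Cfsg.Agent.LsF.ogetD_eq, Cfsg.Agent.LsF.decide_eq]; (try delta Cfsg.Agent.OrdDiv.ordN.match_1); (try delta Cfsg.Agent.OrdDiv.ordN._sparseCasesOn_1); (try delta Option.getD.match_1); (try delta Option.casesOn); exact rfl) | exact rfl⟩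
private noncomputable def _root_.Cfsg.Agent.LsF.ff11584_31 : {f // @Cfsg.Agent.H154.PG.find = f} := ⟨_, by first | (delta Cfsg.Agent.H154.PG.find List.brecOn List.brecOn.go Cfsg.Agent.H154.PG.find._f; rewrite [Cfsg.Agent.LsF.and_eq, Cfsg.Agent.LsF.cond_eq]; (try delta Cfsg.Agent.H154.PG.find.match_1); (try delta List.casesOn); first | dsimp -zeta only | exact rfl) | exact rfl⟩
private noncomputable def _root_.Cfsg.Agent.LsF.ff11584_29 : {f // @Cfsg.Agent.H154.PG.dv = f} := ⟨_, by first | (delta Cfsg.Agent.H154.PG.dv; rewrite [Cfsg.Agent.LsF.nmod_pat]; exact rfl) | exact rfl⟩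
private noncomputable def _root_.Cfsg.Agent.LsF.ff11584_32 : {f // @Cfsg.Agent.H154.PG.primesOf = f} := ⟨_, by first | (delta Cfsg.Agent.H154.PG.primesOf; rewrite [Cfsg.Agent.LsF.ff11584_29.2, Cfsg.Agent.LsF.map_eq, Cfsg.Agent.LsF.filter_eq]; exact rfl) | exact rfl⟩
private noncomputable def _root_.Cfsg.Agent.LsF.ff11584_33 : {f // @Cfsg.Agent.H154.PG.run = f} := ⟨_, by first | (delta Cfsg.Agent.H154.PG.run List.brecOn Cfsg.Agent.H154.PG.run._f List.brecOn.go; rewrite [Cfsg.Agent.LsF.ff11584_25.2, Cfsg.Agent.LsF.and_eq, Cfsg.Agent.LsF.cond_eq]; (try delta Cfsg.Agent.H154.PG.run.match_1); (try delta List.casesOn); first | dsimp -zeta only | exact rfl) | exact rfl⟩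
private noncomputable def _root_.Cfsg.Agent.LsF.ff11584_34 : {f // @Cfsg.Agent.H154.PG.ex = f} := ⟨_, by first | (delta Cfsg.Agent.H154.PG.ex List.brecOn List.brecOn.go Cfsg.Agent.H154.PG.ex._f; rewrite [Cfsg.Agent.LsF.cond_eq]; (try delta Cfsg.Agent.H154.PG.ex.match_1); (try delta List.casesOn); first | dsimp -zeta only | exact rfl) | exact rfl⟩
private noncomputable def _root_.Cfsg.Agent.LsF.ff11584_35 : {f // @Cfsg.Agent.H154.PG.allLt = f} := ⟨_, by first | (delta Cfsg.Agent.H154.PG.allLt Nat.brecOn.go Nat.brecOn Cfsg.Agent.H154.PG.allLt._f; rewrite [Cfsg.Agent.LsF.and_eq]; (try delta Cfsg.Agent.H154.PG.anyLt.match_1); (try delta Nat.casesOn); first | dsimp -zeta only | exact rfl) | exact rfl⟩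
private noncomputable def _root_.Cfsg.Agent.LsF.ff11584_36 : {f // @Cfsg.Agent.H154.PG.anyLt = f} := ⟨_, by first | (delta Cfsg.Agent.H154.PG.anyLt Cfsg.Agent.H154.PG.anyLt._f Nat.brecOn.go Nat.brecOn; rewrite [Cfsg.Agent.LsF.or_eq]; (try delta Cfsg.Agent.H154.PG.anyLt.match_1); (try delta Nat.casesOn); first | dsimp -zeta only | exact rfl) | exact rfl⟩
private noncomputable def _root_.Cfsg.Agent.LsF.ff11584_37 : {f // @Cfsg.Agent.H154.PG.hall = f} := ⟨_, by first | (delta Cfsg.Agent.H154.PG.hall; rewrite [Cfsg.Agent.LsF.ff11584_36.2, Cfsg.Agent.LsF.ff11584_29.2, Cfsg.Agent.LsF.nadd_pat, Cfsg.Agent.LsF.nsub_pat, Cfsg.Agent.LsF.npow_pat, Cfsg.Agent.LsF.or_eq]; exact rfl) | exact rfl⟩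
private noncomputable def _root_.Cfsg.Agent.LsF.ff11584_38 : {f // @Cfsg.Agent.H154.PG.cfour = f} := ⟨_, by first | (delta Cfsg.Agent.H154.PG.cfour; rewrite [Cfsg.Agent.LsF.ff11584_36.2, Cfsg.Agent.LsF.ff11584_29.2, Cfsg.Agent.LsF.nadd_pat, Cfsg.Agent.LsF.nsub_pat, Cfsg.Agent.LsF.npow_pat, Cfsg.Agent.LsF.or_eq, Cfsg.Agent.LsF.all_eq]; exact rfl) | exact rfl⟩
private noncomputable def _root_.Cfsg.Agent.LsF.ff11584_39 : {f // @Cfsg.Agent.H154.PG.na = f} := ⟨_, by first | (delta Cfsg.Agent.H154.PG.na; rewrite [Cfsg.Agent.LsF.ff11584_29.2, Cfsg.Agent.LsF.ff11584_37.2, Cfsg.Agent.LsF.ff11584_38.2, Cfsg.Agent.LsF.nadd_pat, Cfsg.Agent.LsF.nsub_pat, Cfsg.Agent.LsF.npow_pat, Cfsg.Agent.LsF.and_eq, Cfsg.Agent.LsF.or_eq]; exact rfl) | exact rfl⟩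
private noncomputable def _root_.Cfsg.Agent.LsF.ff11584_40 : {f // @Cfsg.Agent.H154.PG.forced = f} := ⟨_, by first | (delta Cfsg.Agent.H154.PG.forced; rewrite [Cfsg.Agent.LsF.ff11584_35.2, Cfsg.Agent.LsF.ff11584_39.2, Cfsg.Agent.LsF.nadd_pat, Cfsg.Agent.LsF.nsub_pat, Cfsg.Agent.LsF.and_eq, Cfsg.Agent.LsF.or_eq, Cfsg.Agent.LsF.not_eq]; exact rfl) | exact rfl⟩
private noncomputable def _root_.Cfsg.Agent.LsF.ff11584_41 : {f // @Cfsg.Agent.H154.PG.val = f} := ⟨_, by first | (delta Cfsg.Agent.H154.PG.val Nat.brecOn.go Nat.brecOn Cfsg.Agent.H154.PG.val._f; rewrite [Cfsg.Agent.LsF.ff11584_29.2, Cfsg.Agent.LsF.nadd_pat, Cfsg.Agent.LsF.ndiv_pat, Cfsg.Agent.LsF.cond_eq]; (try delta Cfsg.Agent.H154.PG.val.match_1); (try delta Nat.casesOn); first | dsimp -zeta only | exact rfl) | exact rfl⟩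
private noncomputable def _root_.Cfsg.Agent.LsF.ff11584_42 : {f // @Cfsg.Agent.H154.PG.edge = f} := ⟨_, by first | (delta Cfsg.Agent.H154.PG.edge; rewrite [Cfsg.Agent.LsF.ff11584_34.2, Cfsg.Agent.LsF.ff11584_40.2, Cfsg.Agent.LsF.ff11584_41.2, Cfsg.Agent.LsF.nmul_pat, Cfsg.Agent.LsF.and_eq]; exact rfl) | exact rfl⟩
private noncomputable def _root_.Cfsg.Agent.LsF.ff11584_43 : {f // @Cfsg.Agent.H154.PG.chk = f} := ⟨_, by first | (delta Cfsg.Agent.H154.PG.chk; rewrite [Cfsg.Agent.LsF.ff11584_32.2, Cfsg.Agent.LsF.ff11584_33.2, Cfsg.Agent.LsF.ff11584_42.2, Cfsg.Agent.LsF.ff11584_25.2, Cfsg.Agent.LsF.ff11584_34.2, Cfsg.Agent.LsF.ff11584_29.2, Cfsg.Agent.LsF.ff11584_35.2, Cfsg.Agent.LsF.ff11584_39.2, Cfsg.Agent.LsF.ff11584_41.2, Cfsg.Agent.LsF.nadd_pat, Cfsg.Agent.LsF.nmul_pat, Cfsg.Agent.LsF.nsub_pat, Cfsg.Agent.LsF.and_eq, Cfsg.Agent.LsF.or_eq, Cfsg.Agent.LsF.not_eq, Cfsg.Agent.LsF.cond_eq, Cfsg.Agent.LsF.all_eq]; exact rfl) | exact rfl⟩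
private noncomputable def _root_.Cfsg.Agent.LsF.ff11584_44 : {f // @Cfsg.Agent.H154.PG.chkOrder = f} := ⟨_, by first | (delta Cfsg.Agent.H154.PG.chkOrder; rewrite [Cfsg.Agent.LsF.ff11584_31.2, Cfsg.Agent.LsF.ff11584_43.2, Cfsg.Agent.LsF.npow_pat, Cfsg.Agent.LsF.and_eq, Cfsg.Agent.LsF.or_eq]; exact rfl) | exact rfl⟩
set_option maxRecDepth 100000 in
/-- groups of the order of `B` -/
theorem all_b (T : OrderTable.{0})
    (hS : ∀ (S : Type) [Group S] [Finite S], IsSimpleGroup S → IsKnownSimple' S) :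
    AllSimple.{u} 4154781481226426191177580544000000 :=
  allSimple T hS (l := l_b) (by decide +kernel) (by decide) (L := ords_b) (by ((try (rewrite [Cfsg.Agent.LsF.ff11584_24.2, Cfsg.Agent.LsF.ff11584_25.2, Cfsg.Agent.LsF.ff11584_28.2, Cfsg.Agent.LsF.all_eq])); decide +kernel))
    (tr0 := [(3, 2), (5, 2), (7, 3), (17, 3), (19, 3), (31, 3), (47, 3), (23, 5), (11, 7), (13, 7)]) (by decide +kernel) (certs := certs_b) (by ((try (rewrite [Cfsg.Agent.LsF.ff11584_44.2, Cfsg.Agent.LsF.all_eq])); decide +kernel))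

end Cfsg.Agent.H154.PG.DataB
end

-- part: H154/PGDataM
section
/-!
# Prime graph test: the order of the Monster (helper154)

Machine generated certificates: for every order `o` of a nonabelian simple group and every power `o ^ k`
dividing `n`, a tree of forced adjacencies between the prime divisors of `n`.
-/

set_option autoImplicit false

namespace Cfsg.Agent.H154.PG.DataM

open Cfsg Cfsg.Agent.OrdDiv Cfsg.Agent.H154.PG

universe u

def l_m : List (ℕ × ℕ) := [(2, 46), (3, 20), (5, 9), (7, 6), (11, 2), (13, 3), (17, 1), (19, 1), (23, 1), (29, 1), (31, 1), (41, 1), (47, 1), (59, 1), (71, 1)]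

def ords_m : List ℕ := [60, 168, 360, 504, 660, 1092, 2448, 2520, 3420, 4080, 5616, 6048, 6072, 7800, 7920, 9828, 12180, 14880, 20160, 25920, 29120, 32736, 34440, 51888, 58800, 62400, 95040, 102660, 126000, 175560, 178920, 181440, 262080, 265680, 372000, 443520, 604800, 976500, 979200, 1451520, 1814400, 1876896, 2413320, 3265920, 4245696, 4680000, 5515776, 6065280, 9999360, 10200960, 13685760, 17971200, 19958400, 32537600, 42456960, 44352000, 50232960, 138297600, 174182400, 197406720, 211341312, 239500800, 244823040, 251596800, 898128000, 987033600, 1018368000, 1056706560, 1073740800, 1425715200, 1721606400, 3113510400, 4030387200, 4585351680, 5859000000, 7254000000, 9196830720, 14742000000, 20158709760, 43589145600, 47377612800, 50778000000, 145926144000, 237783237120, 448345497600, 460815505920, 495766656000, 653837184000, 2317591180800, 4106059776000, 4952179814400, 10151968619520, 10461394944000, 23499295948800, 25015379558400, 34693789777920, 42305421312000,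 50759843097600, 53443952640000, 64561751654400, 177843714048000, 228501000000000, 258492255436800, 273030912000000, 3201186852864000, 3311126603366400, 21032402889738240, 24815256521932800, 60822550204416000, 65784756654489600, 90745943887872000, 1216451004088320000, 4089470473293004800, 4157776806543360000, 25545471085854720000, 50027557148216524800, 51615733565620224000, 361310134959341568000, 562000363888803840000, 1120527288631296000000, 1289512799941305139200, 12926008369442488320000, 76532479683774853939200, 208114637736580743168000, 310224200866619719680000, 1255205709190661721292800, 7755605021665492992000000, 201645730563302817792000000, 5444434725209176080384000000, 152444172305856930250752000000, 4420880996869850977271808000000, 132626429906095529318154240000000, 4111419327088961408862781440000000, 4154781481226426191177580544000000, 131565418466846765083609006080000000, 808017424794512875886459904961710757005754368000000000]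

noncomputable def certs_m : List (ℕ × ℕ × ℕ × List (ℕ × ℕ)) :=
  let y0 : List (ℕ × ℕ × ℕ × List (ℕ × ℕ)) := (by
  refine (?fq9008 : (pk61l (fun i0 => (_root_.Prod.mk (pk61d (nat_lit 117) 
    (nat_lit 0x32ad5a155c6748ac18b9a5800000000ccd8b702aa33aaa57200000000000655ab42ab8ce915831734b000000001a27ec6e1f2d0cbbebbaa80000000006f99461a1e9e1432dcb600000000001ec92dd23d6966aced7000000) i0) (_root_.Prod.mk (nat_lit 1) (_root_.Prod.mk (nat_lit 0) (pk61l (fun i1 => (_root_.Prod.mk (pk61d (nat_lit 7) 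
    (nat_lit 0x61c29f3a5c9918eed7a91a2c1870a34bc776a4eaf3e4c591061c29f3a5c9918eed7a91a2c1870a74b93231ddaf527c68b061439d2e4c8c776bd49f1a2c1850e5c9918eed7a93e7468b) i1) (pk61d (nat_lit 5) 
    (nat_lit 0x5ad6d6b5ad5ad6b58a318c7b18c62b5ae225ad6d6b5ad5ad6b5896b5b5ad6ad6b5ad625ad6d6b5ab5ad6b5896b5b5ad5ad6b5ad62) i1))) (Nat.mul (nat_lit 14) i0) (Nat.mul (nat_lit 14) (Nat.succ i0)) List.nil))))) (nat_lit 0) (nat_lit 6) List.nil : List (ℕ × ℕ × ℕ × List (ℕ × ℕ)))
    = ?xq9008 → (List (ℕ × ℕ × ℕ × List (ℕ × ℕ)))) ?hq9008; (case hq9008 => (set_option maxRecDepth 1000000 in set_option simprocs false in conv => lhs; reduce; dsimp only)); intro _; exact ?xq9008 : List (ℕ × ℕ × ℕ × List (ℕ × ℕ)))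
  let y1 : List (ℕ × ℕ × ℕ × List (ℕ × ℕ)) := (by
  refine (?fq9009 : (fun tl : List (ℕ × ℕ × ℕ × List (ℕ × ℕ)) => pk61l (fun i0 => (_root_.Prod.mk (pk61d (nat_lit 93) 
    (nat_lit 0x232f0fcbb3e62c33588000000a6cc24f51bf75648c0000000335281867ec241ef000000004273359f30026ad80000000083629343d3dcd1c000000002c11eac83ed000000000000081a6ac1b8f80000000000000af2e19afc5266d00000000008bcf2b86d479b30000000003cbe70a033c0000000000000f3ba930acf83600000000004e58bdd5c5000000000000005989fd869800000000000002b645962b400000000000000b141df4dae31000000000000e6cd8fe825800000000000071816f7500280000000000010e1b3be415a0000000000000a1327a431f40000000000003a6db8cf01b0000000000001b02b930689000000000000058295826000000) i0) (_root_.Prod.mk (nat_lit 1) (_root_.Prod.mk (nat_lit 0) (pk61l (fun i1 => (_root_.Prod.mk (pk61d (nat_lit 7) 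
    (nat_lit 0x23bb5ea4f9d2e4c88d161c283) (pk61d (nat_lit 4) 
    (nat_lit 0x21765dcba9843021765dcba98430214765dcba98310247dcba968350124765dcba9830124dcba8769350124dcba9876350124765dcba983124a3dcb9876500213dcb9876a45012465dcba98730124dcba8769530124dcba8769530124dcba8769530124dcba98763501234dcba986571024dcba9835670124dcba98763501243dcba8795612043dcb98765a0124dcba9876350124dcba876935) i1)) (pk61d (nat_lit 6) 
    (nat_lit 0x297574d134b0c2) (pk61d (nat_lit 4) 
    (nat_lit 0x22233322222220222333222222202222777222222044445444444240222277722222204444444444424044444444444240222277722222201114411111111034444444444340222266222222204444444444422044444444444220444444444442204444444444424026646666666660444444444445604444444444424055555555555450888888888888804444444444424044444444444240) i1)))) (Nat.mul (nat_lit 14) i0) (Nat.mul (nat_lit 14) (Nat.succ i0)) List.nil))))) (nat_lit 0) (nat_lit 22) tl)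
    = ?xq9009 → (List (ℕ × ℕ × ℕ × List (ℕ × ℕ)))) ?hq9009; (case hq9009 => (set_option maxRecDepth 1000000 in set_option simprocs false in conv => lhs; reduce; dsimp only)); intro _; exact ?xq9009 y0 : List (ℕ × ℕ × ℕ × List (ℕ × ℕ)))
  let y2 : List (ℕ × ℕ × ℕ × List (ℕ × ℕ)) := (by
  refine (?fq9010 : (fun tl : List (ℕ × ℕ × ℕ × List (ℕ × ℕ)) => pk61l (fun i0 => (_root_.Prod.mk (pk61d (nat_lit 55) 
    (nat_lit 0x255c6df38204000bc373bd00000016beecca73000003e147da1700000758c7588000000cfd208ef920001437eeecd800000eadfd118000001d5bfa23000000309b63d00000005c54e4d558000099e7fe70000000fc6e38200000016c058d00000002abeb660000000260eeeeb0000004c1dddd600000093bb07bbc0000090209d66000000ef010f000000010dcd997b000000983bbbac00) i0) (_root_.Prod.mk (pk61d (nat_lit 2) 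
    (nat_lit 0x55565556556) i0) (_root_.Prod.mk (nat_lit 0) (pk61l (fun i1 => (_root_.Prod.mk (pk61d (nat_lit 7) 
    (nat_lit 0x23bb5ea4f9d2e4c88d161c283) (pk61d (nat_lit 4) 
    (nat_lit 0x120dcba987654301243dcba987650124dcba9876350241dcba9875360124dcba876953024369dcba87510124dcba987653dcba98765432100124dcba98765302143dcb98756a01243dcb98765a01243dcba9865701243dcba987560124dcba987653012439dcba8756dcba98765432100124dcba98765301243dcb98765a0123dcba98764501243dcba9865701436dcba98752dcba9876543210) i1)) (pk61d (nat_lit 6) 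
    (nat_lit 0xa5f5d344d2c7142) (pk61d (nat_lit 4) 
    (nat_lit 0x33333333333330555555555555505555555555555066666666666660555555555553301111851111111055555555555530333333333000003333333333333055555555555690599999999999907777577777777066666666666660555555555555305555565555556033333333300000333333333333305999999999999055544444444450655555555555702222522222222033333333300000) i1)))) (Nat.mul (nat_lit 14) i0) (Nat.mul (nat_lit 14) (Nat.succ i0)) List.nil))))) (nat_lit 0) (nat_lit 22) tl)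
    = ?xq9010 → (List (ℕ × ℕ × ℕ × List (ℕ × ℕ)))) ?hq9010; (case hq9010 => (set_option maxRecDepth 1000000 in set_option simprocs false in conv => lhs; reduce; dsimp only)); intro _; exact ?xq9010 y1 : List (ℕ × ℕ × ℕ × List (ℕ × ℕ)))
  let y3 : List (ℕ × ℕ × ℕ × List (ℕ × ℕ)) := (by
  refine (?fq9011 : (fun tl : List (ℕ × ℕ × ℕ × List (ℕ × ℕ)) => pk61l (fun i0 => (_root_.Prod.mk (pk61d (nat_lit 40) 
    (nat_lit 0x983bbbac00736dfed4006b4abe9a0068637960006863796000375cfc420021f9e040000bd29aca800b07ed00000a261d94000a261d940004b18d8000036eb1118002242c800002242c800001b05f4180015d393ec001114eea0001114eea0000f03ad40000b994660000b9946600) i0) (_root_.Prod.mk (pk61d (nat_lit 2) 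
    (nat_lit 0x56556565659) i0) (_root_.Prod.mk (nat_lit 0) (pk61l (fun i1 => (_root_.Prod.mk (pk61d (nat_lit 7) 
    (nat_lit 0x23bb5ea4f9d2e4c88d161c283) (pk61d (nat_lit 4) 
    (nat_lit 0x124dcba98765301243dcba986570142dcba875639dcba98765432100124dcba9876530124dcba98765301243dcba9765802143dcba8765901243dcba98765dcba98765432100124dcba98765301243dcba876950231dcba9876454dcba9876532100124dcba98765302143dcba8765902413dcba876953dcba9876542100123dcba98764501423dcba98756dcba98765432100124dcba987653) i1)) (pk61d (nat_lit 5) 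
    (nat_lit 0xff6f38b562) (pk61d (nat_lit 3) 
    (nat_lit 0x24924924922db5db6db68924924921e09249248000249249249219249249248db6db6db6c3fffffffff86db6db6db60924924800064924924923ffffffffd86d349249260924924900024924924923fffffffff8fffffffff6124924920006da49249261b6db6db6e0249249200019249249248) i1)))) (Nat.mul (nat_lit 14) i0) (Nat.mul (nat_lit 14) (Nat.succ i0)) List.nil))))) (nat_lit 0) (nat_lit 22) tl)
    = ?xq9011 → (List (ℕ × ℕ × ℕ × List (ℕ × ℕ)))) ?hq9011; (case hq9011 => (set_option maxRecDepth 1000000 in set_option simprocs false in conv => lhs; reduce; dsimp only)); intro _; exact ?xq9011 y2 : List (ℕ × ℕ × ℕ × List (ℕ × ℕ)))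
  let y4 : List (ℕ × ℕ × ℕ × List (ℕ × ℕ)) := (by
  refine (?fq9012 : (fun tl : List (ℕ × ℕ × ℕ × List (ℕ × ℕ)) => pk61l (fun i0 => (_root_.Prod.mk (pk61d (nat_lit 31) 
    (nat_lit 0x334ed08054fab0007ffff800fbf04001f7e08003efc100079662000eb53c001ac42c40358858801dfe20003bfc400077f88000e97b4001c8cfc003919f80064c68000c98d0001931a0002f10c000530e8000a61d000) i0) (_root_.Prod.mk (pk61d (nat_lit 2) 
    (nat_lit 0x57959e59e5e) i0) (_root_.Prod.mk (nat_lit 0) (pk61l (fun i1 => (_root_.Prod.mk (pk61d (nat_lit 7) 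
    (nat_lit 0x23bb5ea4f9d2e4c88d161c283) (pk61d (nat_lit 4) 
    (nat_lit 0x1243dcb98765a01243dcba987560124dcb876593a36dcba987542103dcba9876542100123dcba98764502143dcba9875601243dcba987564dcba9876532100124dcba9876533dcba9876542103dcba9876542100123dcba98764501243dcba986574dcba9876532100124dcba987653136dcba987542013dcba987654200123dcba98764501243dcba98756439dcba876521043dcba98765210) i1)) (pk61d (nat_lit 6) 
    (nat_lit 0xa5f5d344d2c7142) (pk61d (nat_lit 4) 
    (nat_lit 0x99999999999990555555555555608888888888839024222222220000444444444400005554444444445055555555555560655555555555603333333333000033333333333330444444444400004444444444000055544444444450777757777777703333333333000053333333333330224222222220004444444444400054544444444450655555555555601121111111100022222222222000) i1)))) (Nat.mul (nat_lit 14) i0) (Nat.mul (nat_lit 14) (Nat.succ i0)) List.nil))))) (nat_lit 0) (nat_lit 22) tl)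
    = ?xq9012 → (List (ℕ × ℕ × ℕ × List (ℕ × ℕ)))) ?hq9012; (case hq9012 => (set_option maxRecDepth 1000000 in set_option simprocs false in conv => lhs; reduce; dsimp only)); intro _; exact ?xq9012 y3 : List (ℕ × ℕ × ℕ × List (ℕ × ℕ)))
  let y5 : List (ℕ × ℕ × ℕ × List (ℕ × ℕ)) := (by
  refine (?fq9013 : (fun tl : List (ℕ × ℕ × ℕ × List (ℕ × ℕ)) => pk61l (fun i0 => (_root_.Prod.mk (pk61d (nat_lit 28) 
    (nat_lit 0xa61d00083e41002fe7e802a4c2002a4c200287d780287d780287d7801f07c001308a801308a801123800112380011238000d0d4000d0d40009ba780098940005c8c8005c8c8005c8c800542a00) i0) (_root_.Prod.mk (pk61d (nat_lit 2) 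
    (nat_lit 0x567967995e5) i0) (_root_.Prod.mk (nat_lit 0) (pk61l (fun i1 => (_root_.Prod.mk (pk61d (nat_lit 7) 
    (nat_lit 0x23bb5ea4f9d2e4c88d161c283) (pk61d (nat_lit 4) 
    (nat_lit 0x431dcba9876250143dcba987526012436dcba98754dcba9876532100124dcba9876533dcba9876542103dcba9876542100123dcba98764501243dcb87695a4dcba9876532100124dcba98765323dcba9876541023dcba987654100213dcba98764524dcba987653100124dcba98765301243dcba9865701243dcba8769523dcba9876541023dcba987654100213dcba98764510243dcba98765) i1)) (pk61d (nat_lit 6) 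
    (nat_lit 0x297d74d134b1c2) (pk61d (nat_lit 4) 
    (nat_lit 0x41141111111140441111111111504444464444444022222222220000222222222222203333333333000033333333330000444333333333407777777777748022222222220000222222222222203333333333300033333333333000434333333333402222222222200042222222222220666646666666607777777777774033333333333000333333333330004343333333334015555555555540) i1)))) (Nat.mul (nat_lit 14) i0) (Nat.mul (nat_lit 14) (Nat.succ i0)) List.nil))))) (nat_lit 0) (nat_lit 22) tl)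
    = ?xq9013 → (List (ℕ × ℕ × ℕ × List (ℕ × ℕ)))) ?hq9013; (case hq9013 => (set_option maxRecDepth 1000000 in set_option simprocs false in conv => lhs; reduce; dsimp only)); intro _; exact ?xq9013 y4 : List (ℕ × ℕ × ℕ × List (ℕ × ℕ)))
  let y6 : List (ℕ × ℕ × ℕ × List (ℕ × ℕ)) := (by
  refine (?fq9014 : (fun tl : List (ℕ × ℕ × ℕ × List (ℕ × ℕ)) => pk61l (fun i0 => (_root_.Prod.mk (pk61d (nat_lit 23) 
    (nat_lit 0x23b4a04769408191810323020646031d58063ab00c75601269841ca3a0375f006ebe00dd7c01baf802c4c00589800b13001626002c4c003bc4007733a093a80) i0) (_root_.Prod.mk (pk61d (nat_lit 3) 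
    (nat_lit 0x1168b4498d1b1a24c) i0) (_root_.Prod.mk (nat_lit 0) (pk61l (fun i1 => (_root_.Prod.mk (pk61d (nat_lit 7) 
    (nat_lit 0x23bb5ea4f9d2e4c88d161c283) (pk61d (nat_lit 4) 
    (nat_lit 0x23dcba987654100213dcba98764513dcba9876542013dcba987654201023dcba987645643dcba987521043dcba987652100431dcba9876250123dcba98765410243dcba9875643dcba98765210439dcba876521043dcba987652100431dcba98762534dcba9876521043dcba98765210463dcba987521043dcba987652100431dcba98762501243dcba9876501243dcba8765943dcba98765210) i1)) (pk61d (nat_lit 5) 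
    (nat_lit 0xfce2d39462) (pk61d (nat_lit 3) 
    (nat_lit 0x49249249002cb2492492892492492002492492480096c924924a112492492006db6db6d802b75b6db6e8b6db6db6d81dbb6db6db04924924900126924924006db6db6d802b75b6db6e804924924801b6db6db60069b6db6d801b6db6db600add6db6dba2db6db6db68f7fffffffe12492492400) i1)))) (Nat.mul (nat_lit 14) i0) (Nat.mul (nat_lit 14) (Nat.succ i0)) List.nil))))) (nat_lit 0) (nat_lit 22) tl)
    = ?xq9014 → (List (ℕ × ℕ × ℕ × List (ℕ × ℕ)))) ?hq9014; (case hq9014 => (set_option maxRecDepth 1000000 in set_option simprocs false in conv => lhs; reduce; dsimp only)); intro _; exact ?xq9014 y5 : List (ℕ × ℕ × ℕ × List (ℕ × ℕ)))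
  let y7 : List (ℕ × ℕ × ℕ × List (ℕ × ℕ)) := (by
  refine (?fq9015 : (fun tl : List (ℕ × ℕ × ℕ × List (ℕ × ℕ)) => pk61l (fun i0 => (_root_.Prod.mk (pk61d (nat_lit 20) 
    (nat_lit 0x93a8093a8093a806c4806c4805ad2040dd03ffc03ffc03ffc02c4c02c4c02c4c02c4c02c4c02bae82adc81ec301ec301ec301910417340) i0) (_root_.Prod.mk (pk61d (nat_lit 3) 
    (nat_lit 0x1a2892d1b1a24b44a) i0) (_root_.Prod.mk (nat_lit 0) (pk61l (fun i1 => (_root_.Prod.mk (pk61d (nat_lit 7) 
    (nat_lit 0x23bb5ea4f9d2e4c88d161c283) (pk61d (nat_lit 4) 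
    (nat_lit 0x439dcba876521043dcba987652100431dcba9876254dcba9876532100124dcba98765301243dcba8769501243dcb9876a53dcba9876542103dcba9876542100123dcba98764534dcba9876521043dcba98765210463dcba987521043dcba987652100431dcba98762501243cba98765d0124dcba9875366943dcba875210439dcba87652100431dcba98762501243dba976c5824dcba98765310) i1)) (pk61d (nat_lit 7) 
    (nat_lit 0x8ea4f9d264468b0e14182) (pk61d (nat_lit 4) 
    (nat_lit 0x2232222222200033333333333000633633333333604444444444000044444444444440969999999999606aaaaaaaaaaa605555555555000055555555550000666555555555603111111111100033333333333000323333333330003333333333300063363333333360bbbbbbbbbbbbb0477777777777701322222222200022322222222000633633333333608888888888868044444444444000) i1)))) (Nat.mul (nat_lit 14) i0) (Nat.mul (nat_lit 14) (Nat.succ i0)) List.nil))))) (nat_lit 0) (nat_lit 22) tl)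
    = ?xq9015 → (List (ℕ × ℕ × ℕ × List (ℕ × ℕ)))) ?hq9015; (case hq9015 => (set_option maxRecDepth 1000000 in set_option simprocs false in conv => lhs; reduce; dsimp only)); intro _; exact ?xq9015 y6 : List (ℕ × ℕ × ℕ × List (ℕ × ℕ)))
  let y8 : List (ℕ × ℕ × ℕ × List (ℕ × ℕ)) := (by
  refine (?fq9016 : (fun tl : List (ℕ × ℕ × ℕ × List (ℕ × ℕ)) => pk61l (fun i0 => (_root_.Prod.mk (pk61d (nat_lit 17) 
    (nat_lit 0x2e680f3c079e03cf01cb60e5b072d832ac10d107fe038e01c700e380654032a019500ca806540276013b009d804ec0) i0) (_root_.Prod.mk (pk61d (nat_lit 3) 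
    (nat_lit 0xb45a24968d8d1d63) i0) (_root_.Prod.mk (nat_lit 0) (pk61l (fun i1 => (_root_.Prod.mk (pk61d (nat_lit 7) 
    (nat_lit 0x23bb5ea4f9d2e4c88d161c283) (pk61d (nat_lit 4) 
    (nat_lit 0x124dcba98765323dcba9876541023dcba987654100213dcba987645643dcba987521043dcba987652100413dcba98762501243dca986b5701243dcb9876a51024dcba87659303dcba9876542103dcba987654210123dcba987645324dcba9876510243a5dcb9876102439dcba876510243dcba987651024903dcba87615643dcba987521043dcba9876521043dcba98765210463dcba9875210) i1)) (pk61d (nat_lit 6) 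
    (nat_lit 0xa5f5d134b1c50c2) (pk61d (nat_lit 4) 
    (nat_lit 0x44444444444440555555555550005555555555500065655555555560233333333330003333333333300063633333333360777777777776709999999999996048888888888840555555555550005555555555500056655555555560211111111111001112211111110022212222222200222222222222002216222222226023333333333000333333333330003333333333300032333333333000) i1)))) (Nat.mul (nat_lit 14) i0) (Nat.mul (nat_lit 14) (Nat.succ i0)) List.nil))))) (nat_lit 0) (nat_lit 22) tl)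
    = ?xq9016 → (List (ℕ × ℕ × ℕ × List (ℕ × ℕ)))) ?hq9016; (case hq9016 => (set_option maxRecDepth 1000000 in set_option simprocs false in conv => lhs; reduce; dsimp only)); intro _; exact ?xq9016 y7 : List (ℕ × ℕ × ℕ × List (ℕ × ℕ)))
  let y9 : List (ℕ × ℕ × ℕ × List (ℕ × ℕ)) := (by
  refine (?fq9017 : (fun tl : List (ℕ × ℕ × ℕ × List (ℕ × ℕ)) => pk61l (fun i0 => (_root_.Prod.mk (pk61d (nat_lit 15) 
    (nat_lit 0x27604ec07440be5133226644cc87bc0f781e783cf079e0bdc17a02f405e80bd017a02f4057c0af815f0) i0) (_root_.Prod.mk (pk61d (nat_lit 3) 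
    (nat_lit 0x1125a28b44eb1a2d1) i0) (_root_.Prod.mk (nat_lit 0) (pk61l (fun i1 => (_root_.Prod.mk (pk61d (nat_lit 7) 
    (nat_lit 0x23bb5ea4f9d2e4c88d161c283) (pk61d (nat_lit 4) 
    (nat_lit 0x43dcba987652100431dcba98762501243dcba8769501243dcba9765813dcba9876542013dcba987654200123dcba98764524dcba987653100124dcba98765323dcba9876541023dcba987654100213dcba98764501243dcba986576143dcba987520143dcba9876520143dcba98765201643dcba987520143dcba98765201043dcba987625123dcba9876540123dcba98765400123dcba987645) i1)) (pk61d (nat_lit 5) 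
    (nat_lit 0x39ce739ce739ce210a273c4e739ce739e22fffffffffffffff88bbdef7bdef7bdef7a26b5ad6b5ad6b5a2109ad6b5ad6b5ad688428b62d6b5ad6b5ad8896b5ad6b5ad6b588425ad6b5ad6b5ad6b589ad6b5ad6b5ad688426b5ad6b5ad6b5a210a2d8b5ad6b5ad6b622bdef78def7bdef7b884739ce739ce739c4239ce739ce739ce7108e739ce739ce739c4238ce739ce739ce7108e739ce739ce739c423c4e739ce739ce7889ad6b5ad6b5ad6b4426b5ad6b5ad6b5ad10a2d6b5ad6b5ad6b622) i1))) (Nat.mul (nat_lit 14) i0) (Nat.mul (nat_lit 14) (Nat.succ i0)) List.nil))))) (nat_lit 0) (nat_lit 22) tl)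
    = ?xq9017 → (List (ℕ × ℕ × ℕ × List (ℕ × ℕ)))) ?hq9017; (case hq9017 => (set_option maxRecDepth 1000000 in set_option simprocs false in conv => lhs; reduce; dsimp only)); intro _; exact ?xq9017 y8 : List (ℕ × ℕ × ℕ × List (ℕ × ℕ)))
  let y10 : List (ℕ × ℕ × ℕ × List (ℕ × ℕ)) := (by
  refine (?fq9018 : (fun tl : List (ℕ × ℕ × ℕ × List (ℕ × ℕ)) => pk61l (fun i0 => (_root_.Prod.mk (pk61d (nat_lit 12) 
    (nat_lit 0xff0d5c9d89d89d89d89d89d89904444444442942941f81f81f81f81f81f8168168) i0) (_root_.Prod.mk (pk61d (nat_lit 4) 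
    (nat_lit 0x1165432113212165432198) i0) (_root_.Prod.mk (nat_lit 0) (pk61l (fun i1 => (_root_.Prod.mk (pk61d (nat_lit 7) 
    (nat_lit 0x23bb5ea4f9d2e4c88d161c283) (pk61d (nat_lit 4) 
    (nat_lit 0x1243dcba9875620143dcba98756643dcba987521043dcba9876521043dcba98765210463dcba987521043dcba987652100431dcba98762501243dcba9875613dcba9876542013dcba987654200123dcba98764524dcba987653100124dcba9876536143dcba987520143dcba9876520143dcba98765201643dcba987520143dcba98765201043dcba98762562943dcba87510243dcba9876510) i1)) (pk61d (nat_lit 5) 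
    (nat_lit 0x9c5ab39462) (pk61d (nat_lit 3) 
    (nat_lit 0xdb6db6db6e16ffffffff84db6db6d801b6db6db6006db6db6d801a6db6db6006db6db6d803379b6db6f0db6db6db6e2db6db6da00b6db6db68035d6db6db709249249200249249249202db6db6db01b6db6db6c06db6db6db0196db6db6c06db6db6db01e6db6db6f008a492492012492492480) i1)))) (Nat.mul (nat_lit 14) i0) (Nat.mul (nat_lit 14) (Nat.succ i0)) List.nil))))) (nat_lit 0) (nat_lit 22) tl)
    = ?xq9018 → (List (ℕ × ℕ × ℕ × List (ℕ × ℕ)))) ?hq9018; (case hq9018 => (set_option maxRecDepth 1000000 in set_option simprocs false in conv => lhs; reduce; dsimp only)); intro _; exact ?xq9018 y9 : List (ℕ × ℕ × ℕ × List (ℕ × ℕ)))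
  (by
  refine (?fq9019 : (fun tl : List (ℕ × ℕ × ℕ × List (ℕ × ℕ)) => pk61l (fun i0 => (_root_.Prod.mk (pk61d (nat_lit 9) 
    (nat_lit 0x2d168b45a2d168b42a150a8542a1503c1e0f0783c1e0f0783c) i0) (_root_.Prod.mk (pk61d (nat_lit 4) 
    (nat_lit 0x7654321654321987654321) i0) (_root_.Prod.mk (nat_lit 0) (pk61l (fun i1 => (_root_.Prod.mk (pk61d (nat_lit 7) 
    (nat_lit 0x23bb5ea4f9d2e4c88d161c283) (pk61d (nat_lit 4) 
    (nat_lit 0x243dcba98765102943dcba8765102d43cba9876510243dcba98765102943dcba876510243dcba987651029043dcba876156143dcba987520143dcba9876520143dcba98765201643dcba987520143dcba98765201043dcba98762596243dcba87510243dcba9876510243dcba98765109243dcba8765102d43cba9876510243dcba98765102943dcba876510243dcba987651029043dcba87615) i1)) (pk61d (nat_lit 5) 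
    (nat_lit 0x294a5294a5294a5108a3294a5294a52944228ca5294a5294a5108a5294a5294a52944228ca5294a5294a5108a5294a5294a52944228e25294a5294a58886739ce739ce739c4239ce739ce739ce7108e739ce739ce739c4238ce739ce739ce7108e739ce739ce739c423c4e739ce739ce788863294a5294a529442294a5294a5294a5108a5294a5294a529442194a5294a5294a5108a3294a5294a529442294a5294a5294a5108a3294a5294a529442294a5294a5294a5108a3894a5294a529622) i1))) (Nat.mul (nat_lit 14) i0) (Nat.mul (nat_lit 14) (Nat.succ i0)) List.nil))))) (nat_lit 0) (nat_lit 22) tl)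
    = ?xq9019 → (List (ℕ × ℕ × ℕ × List (ℕ × ℕ)))) ?hq9019; (case hq9019 => (set_option maxRecDepth 1000000 in set_option simprocs false in conv => lhs; reduce; dsimp only)); intro _; exact ?xq9019 y10 : List (ℕ × ℕ × ℕ × List (ℕ × ℕ)))

set_option maxRecDepth 100000 in
/-- groups of the order of `M` -/
theorem all_m (T : OrderTable.{0})
    (hS : ∀ (S : Type) [Group S] [Finite S], IsSimpleGroup S → IsKnownSimple' S) :
    AllSimple.{u} 808017424794512875886459904961710757005754368000000000 :=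
  allSimple T hS (l := l_m) (by decide +kernel) (by decide) (L := ords_m) (by ((try (rewrite [Cfsg.Agent.LsF.ff11584_24.2, Cfsg.Agent.LsF.ff11584_25.2, Cfsg.Agent.LsF.ff11584_28.2, Cfsg.Agent.LsF.all_eq])); decide +kernel))
    (tr0 := [(3, 2), (5, 2), (7, 2), (11, 2), (13, 2), (59, 2), (29, 3), (31, 3), (47, 3), (71, 3), (17, 5), (23, 5), (41, 5), (19, 11)]) (by decide +kernel) (certs := certs_m) (by ((try (rewrite [Cfsg.Agent.LsF.ff11584_44.2, Cfsg.Agent.LsF.all_eq])); decide +kernel))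

end Cfsg.Agent.H154.PG.DataM
end

-- part: S2489
section
set_option autoImplicit false
open Cfsg

namespace Cfsg.Agent.S2489

/-- Let G be a finite group whose order is the order of one of the twenty-six sporadic simple groups and suppose its prime graph (vertices the prime divisors of the order, distinct p, q joined when there is an element of order pq) is disconnected: the prime divisors split into two non-empty parts with no element of order pq for p in one part and q in the other. Then G is simple. -/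
theorem result {G : Type*} [Group G] [Finite G]
    (hord : Nat.card G ∈ ({7920, 95040, 443520, 10200960, 244823040, 175560, 604800, 50232960, 86775571046077562880, 4157776806543360000, 42305421312000, 495766656000, 64561751654400, 4089470473293004800, 1255205709190661721292800, 44352000, 898128000, 4030387200, 145926144000, 448345497600, 460815505920, 273030912000000, 51765179004000000, 90745943887872000, 4154781481226426191177580544000000, 808017424794512875886459904961710757005754368000000000} : Finset ℕ))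
    (hdisc : (∃ A : Set ℕ, (∃ a ∈ A, a.Prime ∧ a ∣ Nat.card G) ∧ (∃ b ∉ A, b.Prime ∧ b ∣ Nat.card G) ∧
      ∀ a ∈ A, ∀ b ∉ A, a.Prime → b.Prime → a ∣ Nat.card G → b ∣ Nat.card G → ¬ ∃ g : G, orderOf g = a * b)) :
    IsSimpleGroup G := by
  have hS : ∀ (S : Type) [Group S] [Finite S], IsSimpleGroup S → Cfsg.IsKnownSimple' S := by
    intro S _ _ _
    exact Cfsg.Agent.S0000.result
  simp only [Finset.mem_insert, Finset.mem_singleton] at hord
  rcases hord with h | h | h | h | h | h | h | h | h | h | h | h | h | h | h | h | h | h | h | h | h | h | h | h | h | h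
  · exact Cfsg.Agent.H154.PG.DataA.all_m11 Cfsg.Agent.OrdDiv.table hS G h hdisc
  · exact Cfsg.Agent.H154.PG.DataA.all_m12 Cfsg.Agent.OrdDiv.table hS G h hdisc
  · exact Cfsg.Agent.H154.PG.DataA.all_m22 Cfsg.Agent.OrdDiv.table hS G h hdisc
  · exact Cfsg.Agent.H154.PG.DataA.all_m23 Cfsg.Agent.OrdDiv.table hS G h hdisc
  · exact Cfsg.Agent.H154.PG.DataA.all_m24 Cfsg.Agent.OrdDiv.table hS G h hdisc
  · exact Cfsg.Agent.H154.PG.DataA.all_j1 Cfsg.Agent.OrdDiv.table hS G h hdisc
  · exact Cfsg.Agent.H154.PG.DataA.all_j2 Cfsg.Agent.OrdDiv.table hS G h hdisc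
  · exact Cfsg.Agent.H154.PG.DataA.all_j3 Cfsg.Agent.OrdDiv.table hS G h hdisc
  · exact Cfsg.Agent.H154.PG.DataA.all_j4 Cfsg.Agent.OrdDiv.table hS G h hdisc
  · exact Cfsg.Agent.H154.PG.DataA.all_co1 Cfsg.Agent.OrdDiv.table hS G h hdisc
  · exact Cfsg.Agent.H154.PG.DataA.all_co2 Cfsg.Agent.OrdDiv.table hS G h hdisc
  · exact Cfsg.Agent.H154.PG.DataA.all_co3 Cfsg.Agent.OrdDiv.table hS G h hdisc
  · exact Cfsg.Agent.H154.PG.DataA.all_fi22 Cfsg.Agent.OrdDiv.table hS G h hdisc
  · exact Cfsg.Agent.H154.PG.DataA.all_fi23 Cfsg.Agent.OrdDiv.table hS G h hdisc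
  · exact Cfsg.Agent.H154.PG.DataA.all_fi24p Cfsg.Agent.OrdDiv.table hS G h hdisc
  · exact Cfsg.Agent.H154.PG.DataA.all_hs Cfsg.Agent.OrdDiv.table hS G h hdisc
  · exact Cfsg.Agent.H154.PG.DataA.all_mcl Cfsg.Agent.OrdDiv.table hS G h hdisc
  · exact Cfsg.Agent.H154.PG.DataA.all_he Cfsg.Agent.OrdDiv.table hS G h hdisc
  · exact Cfsg.Agent.H154.PG.DataA.all_ru Cfsg.Agent.OrdDiv.table hS G h hdisc
  · exact Cfsg.Agent.H154.PG.DataA.all_suz Cfsg.Agent.OrdDiv.table hS G h hdisc
  · exact Cfsg.Agent.H154.PG.DataA.all_opn Cfsg.Agent.OrdDiv.table hS G h hdisc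
  · exact Cfsg.Agent.H154.PG.DataA.all_hn Cfsg.Agent.OrdDiv.table hS G h hdisc
  · exact Cfsg.Agent.H154.PG.DataA.all_ly Cfsg.Agent.OrdDiv.table hS G h hdisc
  · exact Cfsg.Agent.H154.PG.DataA.all_th Cfsg.Agent.OrdDiv.table hS G h hdisc
  · exact Cfsg.Agent.H154.PG.DataB.all_b Cfsg.Agent.OrdDiv.table hS G h hdisc
  · exact Cfsg.Agent.H154.PG.DataM.all_m Cfsg.Agent.OrdDiv.table hS G h hdisc

end Cfsg.Agent.S2489
end
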