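import Mathlib
import Cfsg.Agent.OddHalf.Small.G23
import Cfsg.Agent.LieRecognition.ReeSeven
import Cfsg.Statements.S2518
import Cfsg.Agent.H160.PSLTwo
import Cfsg.Agent.ClassicalGeometry.PSL2Basic
set_option linter.all false

-- part: H160/Cyclic
section
/-!
# Centralizers of matrices with a cyclic vector

* `exists_aeval` : a matrix which commutes with a matrix `X` with a cyclic vector is a polynomial in `X`;
* `pow_eq_self` : over `ZMod p`, `X ^ (p ^ k) = X` implies `f(X) ^ (p ^ k) = f(X)`.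
-/

set_option autoImplicit false

namespace Cfsg.Agent.H160.Cyclic

open Matrix Polynomial

theorem exists_aeval {n : ℕ} {K : Type*} [Field K] {X P P' C : Matrix (Fin (n + 1)) (Fin (n + 1)) K}
    (hP : ∀ i, ∀ j : Fin n, (X * P) i j.castSucc = P i j.succ) (hP' : P * P' = 1)
    (hC : C * X = X * C) : ∃ f : K[X], C = aeval X f := by
  set v : Fin (n + 1) → K := fun i => P i 0 with hv
  have hcol : ∀ j : Fin (n + 1), (fun i => P i j) = (X ^ (j : ℕ)) *ᵥ v := by
    intro j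
    induction j using Fin.induction with
    | zero => simp [hv]
    | succ j ih =>
      have h1 : (fun i => P i j.succ) = X *ᵥ (fun i => P i j.castSucc) := by
        ext i
        rw [← hP i j]
        rfl
      rw [h1, ih, Matrix.mulVec_mulVec, Fin.val_succ, pow_succ']
      rfl
  set a : Fin (n + 1) → K := P' *ᵥ (C *ᵥ v) with ha
  have hPa : P *ᵥ a = C *ᵥ v := by rw [ha, Matrix.mulVec_mulVec, hP', Matrix.one_mulVec]
  set f : K[X] := ∑ j : Fin (n + 1), Polynomial.C (a j) * (Polynomial.X : K[X]) ^ (j : ℕ) with hf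
  have hfv : (aeval X f) *ᵥ v = C *ᵥ v := by
    rw [← hPa, hf, map_sum, Matrix.sum_mulVec]
    ext i
    rw [Finset.sum_apply, Matrix.mulVec, dotProduct]
    refine Finset.sum_congr rfl fun j _ => ?_
    rw [map_mul, map_pow, Polynomial.aeval_X, Polynomial.aeval_C, ← Algebra.smul_def,
      Matrix.smul_mulVec, ← hcol j, Pi.smul_apply, smul_eq_mul, mul_comm]
  refine ⟨f, ?_⟩
  have hcomm : (C - aeval X f) * X = X * (C - aeval X f) := by
    rw [Matrix.sub_mul, Matrix.mul_sub, hC]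
    congr 1
    have h : aeval X (f * Polynomial.X) = aeval X f * X := by rw [map_mul, Polynomial.aeval_X]
    have h' : aeval X (Polynomial.X * f) = X * aeval X f := by rw [map_mul, Polynomial.aeval_X]
    rw [← h, ← h', mul_comm]
  have hcomm' : ∀ k : ℕ, (C - aeval X f) * X ^ k = X ^ k * (C - aeval X f) := by
    intro k
    exact (Commute.pow_right (show Commute (C - aeval X f) X from hcomm) k)
  have hD : (C - aeval X f) * P = 0 := by
    ext i j
    have h1 : ((C - aeval X f) * P) i j = ((C - aeval X f) *ᵥ (fun i => P i j)) i := rfl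
    rw [h1, hcol j, Matrix.mulVec_mulVec, hcomm', ← Matrix.mulVec_mulVec, Matrix.sub_mulVec, hfv,
      sub_self, Matrix.mulVec_zero]
    rfl
  have h2 : (C - aeval X f) * (P * P') = 0 := by rw [← Matrix.mul_assoc, hD, Matrix.zero_mul]
  rw [hP', Matrix.mul_one] at h2
  exact sub_eq_zero.1 h2

theorem pow_expand (p : ℕ) [Fact p.Prime] (k : ℕ) (f : (ZMod p)[X]) :
    f ^ (p ^ k) = expand (ZMod p) (p ^ k) f := by
  induction k with
  | zero => simp
  | succ k ih =>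
    rw [pow_succ, pow_mul, ih, ← ZMod.expand_card, Polynomial.expand_expand, mul_comm]

theorem pow_eq_self {p : ℕ} [Fact p.Prime] {A : Type*} [Ring A] [Algebra (ZMod p) A] {k : ℕ} {X : A}
    (hX : X ^ (p ^ k) = X) (f : (ZMod p)[X]) : (aeval X f) ^ (p ^ k) = aeval X f := by
  rw [← map_pow, pow_expand, Polynomial.expand_aeval, hX]

end Cfsg.Agent.H160.Cyclic
end

-- part: H160/G2Three
section
/-!
# Element orders of `G₂(3)`

No element of `G₂(3)` has order `14, 21, 26, 39, 91`; there is an element of order 6.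
-/

set_option autoImplicit false
set_option maxRecDepth 100000
set_option Elab.async false

namespace Cfsg.Agent.H160.G2Three

open Cfsg.Lie
open Cfsg.Agent.GTwoThree.Model
open Cfsg.Agent.OddHalf.Small.G23Data Cfsg.Agent.OddHalf.Small.G23Check
open Cfsg.Agent.LieRecognition.ReeSeven (Good wb am lm xMat_good wb_mul wb_one trace_lm_am)
open Cfsg.Agent.LieRecognition.ReeSevenEntries (pos_bijective)
open Cfsg.Agent.OddHalf.Small.G23 (z cent exists_conj card_G)

/-! ### The 7-dimensional representation -/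

theorem good' {g : GL chevG2.Idx (ZMod 3)} (hg : g ∈ chevG2.group (ZMod 3)) :
    Good (K := ZMod 3) (g : Matrix chevG2.Idx chevG2.Idx (ZMod 3)) := by
  have hfin : Finite (GL chevG2.Idx (ZMod 3)) := inferInstance
  have hpow : ∀ (h : GL chevG2.Idx (ZMod 3)) (n : ℕ),
      Good (K := ZMod 3) (h : Matrix chevG2.Idx chevG2.Idx (ZMod 3)) →
      Good (K := ZMod 3) ((h ^ n : GL chevG2.Idx (ZMod 3)) : Matrix chevG2.Idx chevG2.Idx (ZMod 3)) := by
    intro h n hh
    induction n with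
    | zero =>
      rw [pow_zero]
      exact Good.one
    | succ n ih =>
      rw [pow_succ]
      exact Good.mul ih hh
  rw [ChevalleyDatum.group] at hg
  induction hg using Subgroup.closure_induction with
  | mem x hx =>
    obtain ⟨r, t, h⟩ := hx
    rw [h]
    exact xMat_good r t
  | one => exact Good.one
  | mul x y _ _ hx hy => exact Good.mul hx hy
  | inv x _ hx =>
    have h1 : x⁻¹ = x ^ (orderOf x - 1) := by
      have h2 := orderOf_pos x
      rw [inv_eq_iff_mul_eq_one, ← pow_succ', Nat.sub_add_cancel h2, pow_orderOf_eq_one]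
    rw [h1]
    exact hpow x _ hx

theorem good {g : GL I14 (ZMod 3)} (hg : g ∈ Gp) :
    Good (K := ZMod 3) (g : Matrix I14 I14 (ZMod 3)) := good' hg

/-- the 7-dimensional representation -/
def W (g : ↥Gp) : Matrix (Fin 7) (Fin 7) (ZMod 3) :=
  wb (K := ZMod 3) ((g : GL I14 (ZMod 3)) : Matrix I14 I14 (ZMod 3))

theorem W_mul (g h : ↥Gp) : W (g * h) = W g * W h :=
  wb_mul (good h.2).zero

theorem W_one : W 1 = 1 := wb_one

/-- The representation as a homomorphism. -/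
def Whom : ↥Gp →* Matrix (Fin 7) (Fin 7) (ZMod 3) where
  toFun := W
  map_one' := W_one
  map_mul' := W_mul

theorem W_pow (g : ↥Gp) (n : ℕ) : W (g ^ n) = W g ^ n := map_pow Whom g n

theorem eq_one_of_W {g : ↥Gp} (h : W g = 1) : g = 1 := by
  have hg := good g.2
  have h1 : ∀ k j : Fin 7 ⊕ Fin 7,
      ((g : GL I14 (ZMod 3)) : Matrix I14 I14 (ZMod 3))
        (Cfsg.Agent.LieRecognition.ReeSevenEntries.pos k)
        (Cfsg.Agent.LieRecognition.ReeSevenEntries.pos j) = if k = j then 1 else 0 := by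
    intro k j
    have h2 := hg.eqv j
    have h3 : wb (K := ZMod 3) ((g : GL I14 (ZMod 3)) : Matrix I14 I14 (ZMod 3)) = 1 := h
    rw [h3, one_mul, mul_one] at h2
    have h4 := congrArg (fun Y => (lm (ZMod 3) k * Y).trace) h2
    simp only [Matrix.mul_sum, Matrix.trace_sum, Matrix.mul_smul, Matrix.trace_smul, trace_lm_am,
      smul_eq_mul, mul_ite, mul_one, mul_zero, Finset.sum_ite_eq', Finset.mem_univ, if_true] at h4
    rw [← h4]
    simp only [eq_comm]
  apply Subtype.ext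
  apply Units.ext
  ext i j
  obtain ⟨i, rfl⟩ := pos_bijective.2 i
  obtain ⟨j, rfl⟩ := pos_bijective.2 j
  have h5 := h1 i j
  exact h5.trans (Cfsg.Agent.LieRecognition.ReeSeven.one_pos (K := ZMod 3) i j).symm

theorem W_inj {g h : ↥Gp} (e : W g = W h) : g = h := by
  have h1 : W (g * h⁻¹) = 1 := by
    rw [W_mul, e, ← W_mul, mul_inv_cancel, W_one]
  exact mul_inv_eq_one.1 (eq_one_of_W h1)

/-! ### Explicit matrices -/

theorem W_wx (r : Fin 12) (t : Fin 3) :
    W (ev y (wx r.val t.val)) = wb (K := ZMod 3) (xm r ((t.val : ℕ) : ZMod 3)) := by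
  unfold W
  rw [ev_y, θ_x]

theorem m0 : W (ev y [0]) = !![1, 0, 0, 0, 0, 0, 0; 0, 1, 0, 0, 0, 0, 0; 0, 0, 1, 0, 0, 0, 0;
    0, 0, 0, 1, 0, 0, 0; 0, 0, 0, 0, 1, 0, 0; 0, 0, 0, 2, 0, 1, 0; 0, 0, 1, 0, 0, 0, 1] := by
  refine (W_wx 0 1).trans ?_
  decide +kernel

theorem m8 : W (ev y [8]) = !![1, 2, 0, 0, 0, 0, 0; 0, 1, 0, 0, 0, 0, 0; 0, 0, 1, 1, 0, 0, 0;
    0, 0, 0, 1, 0, 0, 0; 2, 2, 0, 0, 1, 0, 0; 0, 0, 0, 0, 0, 1, 0; 0, 0, 0, 0, 0, 2, 1] := by
  refine (W_wx 4 1).trans ?_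
  decide +kernel

theorem m18 : W (ev y [18]) = !![1, 0, 0, 0, 0, 0, 2; 0, 1, 0, 0, 0, 1, 0; 0, 0, 1, 0, 2, 0, 0;
    2, 0, 0, 1, 0, 0, 2; 0, 0, 0, 0, 1, 0, 0; 0, 0, 0, 0, 0, 1, 0; 0, 0, 0, 0, 0, 0, 1] := by
  refine (W_wx 9 1).trans ?_
  decide +kernel

theorem m2 : W (ev y [2]) = !![1, 0, 0, 0, 0, 0, 0; 0, 1, 0, 0, 0, 0, 0; 0, 0, 1, 0, 0, 0, 0;
    0, 0, 0, 1, 0, 0, 0; 0, 0, 0, 2, 1, 0, 0; 0, 0, 0, 0, 0, 1, 0; 0, 1, 0, 0, 0, 0, 1] := by
  refine (W_wx 1 1).trans ?_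
  decide +kernel

theorem m6 : W (ev y [6]) = !![1, 0, 2, 0, 0, 0, 0; 0, 1, 0, 2, 0, 0, 0; 0, 0, 1, 0, 0, 0, 0;
    0, 0, 0, 1, 0, 0, 0; 0, 0, 0, 0, 1, 0, 0; 2, 0, 2, 0, 0, 1, 0; 0, 0, 0, 0, 1, 0, 1] := by
  refine (W_wx 3 1).trans ?_
  decide +kernel

theorem m22 : W (ev y [22]) = !![1, 0, 0, 0, 0, 0, 0; 0, 1, 0, 0, 0, 0, 0; 0, 0, 1, 0, 0, 0, 1;
    0, 0, 0, 1, 0, 2, 0; 0, 0, 0, 0, 1, 0, 0; 0, 0, 0, 0, 0, 1, 0; 0, 0, 0, 0, 0, 0, 1] := by
  refine (W_wx 11 1).trans ?_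
  decide +kernel

/-- the matrix of the element of order 13 -/
def X13 : Matrix (Fin 7) (Fin 7) (ZMod 3) :=
  !![1, 2, 0, 0, 0, 2, 2; 0, 1, 0, 0, 0, 1, 0; 2, 0, 1, 1, 2, 0, 2; 2, 0, 0, 1, 0, 0, 2;
    2, 2, 0, 0, 1, 2, 1; 1, 0, 0, 2, 0, 1, 1; 2, 0, 1, 1, 2, 2, 0]

/-- the matrix of the element of order 7 -/
def X7 : Matrix (Fin 7) (Fin 7) (ZMod 3) :=
  !![1, 0, 2, 0, 0, 0, 2; 0, 1, 0, 2, 0, 1, 0; 0, 0, 1, 0, 0, 0, 1; 0, 0, 0, 1, 0, 2, 0;
    0, 0, 0, 2, 1, 1, 0; 2, 0, 2, 2, 0, 2, 2; 0, 1, 1, 2, 1, 1, 2]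

/-- the element of order 13 -/
def x13 : ↥Gp := ev y [0, 8, 18]

/-- the element of order 7 -/
def x7 : ↥Gp := ev y [0, 2, 6, 22]

theorem W_x13 : W x13 = X13 := by
  have h : x13 = ev y [0] * (ev y [8] * ev y [18]) := by
    rw [← ev_append, ← ev_append]
    rfl
  rw [h, W_mul, W_mul, m0, m8, m18]
  decide +kernel

theorem W_x7 : W x7 = X7 := by
  have h : x7 = (ev y [0] * ev y [2]) * (ev y [6] * ev y [22]) := by
    rw [← ev_append, ← ev_append, ← ev_append]
    rfl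
  rw [h, W_mul, W_mul, W_mul, m0, m2, m6, m22]
  have h1 : (!![1, 0, 0, 0, 0, 0, 0; 0, 1, 0, 0, 0, 0, 0; 0, 0, 1, 0, 0, 0, 0;
    0, 0, 0, 1, 0, 0, 0; 0, 0, 0, 0, 1, 0, 0; 0, 0, 0, 2, 0, 1, 0; 0, 0, 1, 0, 0, 0, 1] :
      Matrix (Fin 7) (Fin 7) (ZMod 3)) * !![1, 0, 0, 0, 0, 0, 0; 0, 1, 0, 0, 0, 0, 0; 0, 0, 1, 0, 0, 0, 0;
    0, 0, 0, 1, 0, 0, 0; 0, 0, 0, 2, 1, 0, 0; 0, 0, 0, 0, 0, 1, 0; 0, 1, 0, 0, 0, 0, 1] =
      !![1, 0, 0, 0, 0, 0, 0; 0, 1, 0, 0, 0, 0, 0; 0, 0, 1, 0, 0, 0, 0;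
    0, 0, 0, 1, 0, 0, 0; 0, 0, 0, 2, 1, 0, 0; 0, 0, 0, 2, 0, 1, 0; 0, 1, 1, 0, 0, 0, 1] := by
    decide +kernel
  rw [h1]
  decide +kernel

theorem pow_x13 : x13 ^ 13 = 1 := by
  have h : ∀ n, ev y ((List.replicate n [0, 8, 18]).flatten) = x13 ^ n := by
    intro n
    induction n with
    | zero => rfl
    | succ n ih => rw [List.replicate_succ, List.flatten_cons, ev_append, ih, pow_succ']; rfl
  rw [← h]
  exact eq_of_eqc (w := (List.replicate 13 [0, 8, 18]).flatten) (w' := []) (by decide +kernel)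

theorem pow_x7 : x7 ^ 7 = 1 := by
  have h : ∀ n, ev y ((List.replicate n [0, 2, 6, 22]).flatten) = x7 ^ n := by
    intro n
    induction n with
    | zero => rfl
    | succ n ih => rw [List.replicate_succ, List.flatten_cons, ev_append, ih, pow_succ']; rfl
  rw [← h]
  exact eq_of_eqc (w := (List.replicate 7 [0, 2, 6, 22]).flatten) (w' := []) (by decide +kernel)

theorem orderOf_x13 : orderOf x13 = 13 := by
  refine orderOf_eq_prime (hp := ⟨by norm_num⟩) pow_x13 ?_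
  exact ne_of_nec (w := [0, 8, 18]) (w' := []) (by decide +kernel)

theorem orderOf_x7 : orderOf x7 = 7 := by
  refine orderOf_eq_prime (hp := ⟨by norm_num⟩) pow_x7 ?_
  exact ne_of_nec (w := [0, 2, 6, 22]) (w' := []) (by decide +kernel)

/-- An element of `G₂(3)` which commutes with `x13` has order dividing 26. -/
theorem comm_x13 {c : ↥Gp} (h : c * x13 = x13 * c) : c ^ 26 = 1 := by
  have hX : W c * X13 = X13 * W c := by
    rw [← W_x13, ← W_mul, h, W_mul]
  obtain ⟨f, hf⟩ := Cyclic.exists_aeval (n := 6) (X := X13)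
    (P := !![0, 0, 1, 1, 2, 0, 1; 0, 0, 0, 2, 2, 1, 2; 0, 2, 2, 1, 1, 1, 0; 0, 0, 1, 2, 1, 1, 1;
      1, 1, 0, 1, 1, 2, 0; 0, 0, 2, 0, 2, 1, 0; 0, 2, 1, 0, 1, 0, 2])
    (P' := !![2, 1, 2, 1, 1, 0, 2; 0, 1, 2, 1, 0, 2, 0; 2, 1, 2, 0, 0, 0, 1; 0, 2, 1, 1, 0, 2, 2;
      0, 1, 1, 0, 0, 1, 2; 2, 2, 0, 0, 0, 2, 0; 2, 1, 1, 2, 0, 2, 2])
    (by decide +kernel) (by decide +kernel) hX
  have h2 : x13 ^ (3 ^ 3) = x13 := by
    rw [show 3 ^ 3 = 13 * 2 + 1 by norm_num, pow_add, pow_mul, pow_x13, one_pow, one_mul, pow_one]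
  have h3 : X13 ^ (3 ^ 3) = X13 := by
    have h := congrArg W h2
    rw [W_pow, W_x13] at h
    exact h
  have h4 : W c ^ (3 ^ 3) = W c := by
    rw [hf]
    exact Cyclic.pow_eq_self h3 f
  have h5 : c ^ (3 ^ 3) = c := W_inj ((W_pow c (3 ^ 3)).trans h4)
  have h6 : c ^ 26 * c = 1 * c := by
    rw [← pow_succ, one_mul]
    exact h5
  exact mul_right_cancel h6

/-- An element of `G₂(3)` which commutes with `x7` has order dividing 728. -/
theorem comm_x7 {c : ↥Gp} (h : c * x7 = x7 * c) : c ^ 728 = 1 := by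
  have hX : W c * X7 = X7 * W c := by
    rw [← W_x7, ← W_mul, h, W_mul]
  obtain ⟨f, hf⟩ := Cyclic.exists_aeval (n := 6) (X := X7)
    (P := !![0, 0, 2, 1, 2, 1, 0; 0, 0, 0, 2, 2, 0, 0; 0, 0, 1, 1, 2, 1, 1; 0, 0, 0, 1, 0, 2, 0;
      1, 1, 1, 0, 0, 1, 1; 0, 0, 2, 1, 1, 2, 0; 0, 1, 0, 1, 2, 0, 2])
    (P' := !![0, 2, 1, 0, 1, 2, 2; 2, 1, 1, 1, 0, 2, 1; 2, 1, 0, 2, 0, 0, 0; 1, 1, 0, 2, 0, 2, 0;
      2, 1, 0, 1, 0, 1, 0; 1, 1, 0, 1, 0, 2, 0; 1, 1, 1, 2, 0, 0, 0])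
    (by decide +kernel) (by decide +kernel) hX
  have h2 : x7 ^ (3 ^ 6) = x7 := by
    rw [show 3 ^ 6 = 7 * 104 + 1 by norm_num, pow_add, pow_mul, pow_x7, one_pow, one_mul, pow_one]
  have h3 : X7 ^ (3 ^ 6) = X7 := by
    have h := congrArg W h2
    rw [W_pow, W_x7] at h
    exact h
  have h4 : W c ^ (3 ^ 6) = W c := by
    rw [hf]
    exact Cyclic.pow_eq_self h3 f
  have h5 : c ^ (3 ^ 6) = c := W_inj ((W_pow c (3 ^ 6)).trans h4)
  have h6 : c ^ 728 * c = 1 * c := by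
    rw [← pow_succ, one_mul]
    exact h5
  exact mul_right_cancel h6

/-! ### Conjugation by Sylow's theorem -/

open scoped Pointwise in
theorem exists_conj_comm {G : Type*} [Group G] [Finite G] (p : ℕ) [hp : Fact p.Prime]
    (hp2 : ¬ p ^ 2 ∣ Nat.card G) {x g : G} (hx : orderOf x = p) (hg : p ∣ orderOf g) :
    ∃ h : G, (h * g * h⁻¹) * x = x * (h * g * h⁻¹) := by
  have key : ∀ w : G, orderOf w = p → ∃ P : Sylow p G, (P : Subgroup G) = Subgroup.zpowers w := by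
    intro w hw
    have h1 : IsPGroup p ↥(Subgroup.zpowers w) :=
      IsPGroup.of_card (n := 1) (by rw [Nat.card_zpowers, hw, pow_one])
    obtain ⟨P, hP⟩ := h1.exists_le_sylow
    refine ⟨P, ?_⟩
    obtain ⟨k, hk⟩ := IsPGroup.iff_card.mp P.isPGroup'
    have hk' : Nat.card ↥(P : Subgroup G) = p ^ k := hk
    have h2 : p ^ k ∣ Nat.card G := by rw [← hk']; exact Subgroup.card_subgroup_dvd_card _
    have h3 : k ≤ 1 := by
      by_contra hcon
      exact hp2 ((pow_dvd_pow p (by omega)).trans h2)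
    refine (Subgroup.eq_of_le_of_card_ge hP ?_).symm
    rw [hk', Nat.card_zpowers, hw]
    calc p ^ k ≤ p ^ 1 := Nat.pow_le_pow_right hp.out.pos h3
      _ = p := pow_one p
  obtain ⟨m, hm⟩ := hg
  have hpos := orderOf_pos g
  have hm0 : m ≠ 0 := by
    rintro rfl
    rw [mul_zero] at hm
    omega
  have hu : orderOf (g ^ m) = p := by
    rw [orderOf_pow_of_dvd hm0 ⟨p, by rw [hm, mul_comm]⟩, hm, Nat.mul_div_cancel _ (Nat.pos_of_ne_zero hm0)]
  obtain ⟨P, hP⟩ := key x hx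
  obtain ⟨Q, hQ⟩ := key (g ^ m) hu
  obtain ⟨h, hh⟩ := MulAction.exists_smul_eq G Q P
  refine ⟨h, ?_⟩
  have h1 : x ∈ (P : Subgroup G) := by rw [hP]; exact Subgroup.mem_zpowers x
  rw [← hh] at h1
  have h2 : h⁻¹ * x * h ∈ (Q : Subgroup G) := by
    have h3 := Subgroup.mem_pointwise_smul_iff_inv_smul_mem.1 (show x ∈ MulAut.conj h • (Q : Subgroup G) from h1)
    have h4 : (MulAut.conj h)⁻¹ • x = h⁻¹ * x * h := by
      rw [← map_inv, MulAut.smul_def, MulAut.conj_apply, inv_inv]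
    rwa [h4] at h3
  rw [hQ] at h2
  obtain ⟨j, hj⟩ := Subgroup.mem_zpowers_iff.1 h2
  have h5 : x = h * (g ^ m) ^ j * h⁻¹ := by
    rw [hj]
    group
  have h6 : Commute g ((g ^ m) ^ j) := ((Commute.refl g).pow_right m).zpow_right j
  rw [h5]
  calc (h * g * h⁻¹) * (h * (g ^ m) ^ j * h⁻¹) = h * (g * (g ^ m) ^ j) * h⁻¹ := by group
    _ = h * ((g ^ m) ^ j * g) * h⁻¹ := by rw [h6.eq]
    _ = _ := by group

/-! ### The orders -/

theorem not_thirteen {g : ↥Gp} {m : ℕ} (hm : ¬ m ∣ 2) : orderOf g ≠ 13 * m := by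
  intro hg
  have hf : Fact (Nat.Prime 13) := ⟨by norm_num⟩
  obtain ⟨h, hh⟩ := exists_conj_comm 13 (x := x13) (g := g) (by rw [card_G]; decide) orderOf_x13
    (by rw [hg]; exact dvd_mul_right _ _)
  have h1 := comm_x13 hh
  rw [conj_pow, conj_eq_one_iff] at h1
  have h2 := orderOf_dvd_of_pow_eq_one h1
  rw [hg, show 26 = 13 * 2 by norm_num] at h2
  exact hm (Nat.dvd_of_mul_dvd_mul_left (by norm_num) h2)

theorem not_seven {g : ↥Gp} {m : ℕ} (hm : ¬ m ∣ 104) : orderOf g ≠ 7 * m := by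
  intro hg
  have hf : Fact (Nat.Prime 7) := ⟨by norm_num⟩
  obtain ⟨h, hh⟩ := exists_conj_comm 7 (x := x7) (g := g) (by rw [card_G]; decide) orderOf_x7
    (by rw [hg]; exact dvd_mul_right _ _)
  have h1 := comm_x7 hh
  rw [conj_pow, conj_eq_one_iff] at h1
  have h2 := orderOf_dvd_of_pow_eq_one h1
  rw [hg, show 728 = 7 * 104 by norm_num] at h2
  exact hm (Nat.dvd_of_mul_dvd_mul_left (by norm_num) h2)

/-- the representatives of the elements of `C(z)` -/
def wr (i a d : ℕ) : List ℕ := NL.getD i [] ++ (wx 6 a ++ wx 9 d)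

theorem C_check2 : ∀ i ∈ NZ, ∀ a < 3, ∀ d < 3, eqc (wr i a d) [] = true ∨
    (nec ((List.replicate 7 (wr i a d)).flatten) [] = true ∧
      nec ((List.replicate 13 (wr i a d)).flatten) [] = true) := by
  decide +kernel

theorem not_comm_z {g : ↥Gp} (hg : g * z = z * g) {m : ℕ} (hm : m = 7 ∨ m = 13) :
    orderOf g ≠ m := by
  intro ho
  obtain ⟨a, d, i, hi, a', d', a'', d'', rfl, e⟩ := cent hg
  set u := ev y (wx 6 a.val ++ wx 9 d.val) with hu
  set n := ev y (NL.getD i []) with hn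
  set v := ev y (wx 6 a'.val ++ wx 9 d'.val) with hv
  have e1 : u⁻¹ * (u * n * v) * u = ev y (wr i a''.val d''.val) := by
    rw [wr, ev_append, ← e, ← hn]
    group
  have ho' : orderOf (u⁻¹ * (u * n * v) * u) = m := by
    have e2 : u⁻¹ * (u * n * v) * u = MulAut.conj u⁻¹ (u * n * v) := by
      show _ = u⁻¹ * (u * n * v) * u⁻¹⁻¹
      rw [inv_inv]
    rw [e2, MulEquiv.orderOf_eq]
    exact ho
  rw [e1] at ho'
  have hpow : ∀ (w : List ℕ) (n : ℕ), ev y ((List.replicate n w).flatten) = (ev y w) ^ n := by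
    intro w n
    induction n with
    | zero => rfl
    | succ n ih => rw [List.replicate_succ, List.flatten_cons, ev_append, ih, pow_succ']
  rcases C_check2 i hi a''.val a''.2 d''.val d''.2 with h | ⟨h7, h13⟩
  · have h1 : ev y (wr i a''.val d''.val) = 1 := eq_of_eqc h
    rw [h1, orderOf_one] at ho'
    omega
  · rcases hm with rfl | rfl
    · apply ne_of_nec h7
      rw [hpow, ← ho', pow_orderOf_eq_one]
      rfl
    · apply ne_of_nec h13
      rw [hpow, ← ho', pow_orderOf_eq_one]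
      rfl

theorem not_two {g : ↥Gp} {m : ℕ} (hm : m = 7 ∨ m = 13) : orderOf g ≠ 2 * m := by
  intro hg
  have h2 : orderOf (g ^ m) = 2 := by
    rw [orderOf_pow_of_dvd (by omega) ⟨2, by rw [hg, mul_comm]⟩, hg]
    exact Nat.mul_div_cancel _ (by omega)
  have hm' : orderOf (g ^ 2) = m := by
    rw [orderOf_pow_of_dvd (by omega) ⟨m, hg⟩, hg]
    exact Nat.mul_div_cancel_left _ (by omega)
  obtain ⟨c, hc⟩ := exists_conj h2
  have h3 : orderOf (c * g ^ 2 * c⁻¹) = m := by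
    have e2 : c * g ^ 2 * c⁻¹ = MulAut.conj c (g ^ 2) := rfl
    rw [e2, MulEquiv.orderOf_eq, hm']
  refine not_comm_z (g := c * g ^ 2 * c⁻¹) ?_ hm h3
  rw [← hc]
  have h4 : g ^ 2 * g ^ m = g ^ m * g ^ 2 := by rw [← pow_add, ← pow_add, add_comm]
  calc c * g ^ 2 * c⁻¹ * (c * g ^ m * c⁻¹) = c * (g ^ 2 * g ^ m) * c⁻¹ := by group
    _ = c * (g ^ m * g ^ 2) * c⁻¹ := by rw [h4]
    _ = _ := by group

/-- an element of order 6 -/
theorem exists_six : ∃ g : ↥Gp, orderOf g = 6 := by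
  refine ⟨ev y [0, 23], ?_⟩
  have h : ∀ n, ev y ((List.replicate n [0, 23]).flatten) = (ev y [0, 23]) ^ n := by
    intro n
    induction n with
    | zero => rfl
    | succ n ih => rw [List.replicate_succ, List.flatten_cons, ev_append, ih, pow_succ']
  have h6 : (ev y [0, 23]) ^ 6 = 1 := by
    rw [← h]
    exact eq_of_eqc (w := (List.replicate 6 [0, 23]).flatten) (w' := []) (by decide +kernel)
  have h2 : (ev y [0, 23]) ^ 2 ≠ 1 := by
    rw [← h]
    exact ne_of_nec (w := (List.replicate 2 [0, 23]).flatten) (w' := []) (by decide +kernel)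
  have h3 : (ev y [0, 23]) ^ 3 ≠ 1 := by
    rw [← h]
    exact ne_of_nec (w := (List.replicate 3 [0, 23]).flatten) (w' := []) (by decide +kernel)
  have h5 := orderOf_dvd_of_pow_eq_one h6
  have h7 : orderOf (ev y [0, 23] : ↥Gp) ∈ Nat.divisors 6 := by
    rw [Nat.mem_divisors]
    exact ⟨h5, by norm_num⟩
  have h8 : Nat.divisors 6 = {1, 2, 3, 6} := by decide
  rw [h8] at h7
  simp only [Finset.mem_insert, Finset.mem_singleton] at h7
  rcases h7 with h | h | h | h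
  · exact absurd (orderOf_dvd_iff_pow_eq_one.1 (by rw [h]; norm_num)) h2
  · exact absurd (orderOf_dvd_iff_pow_eq_one.1 (by rw [h])) h2
  · exact absurd (orderOf_dvd_iff_pow_eq_one.1 (by rw [h])) h3
  · exact h

/-- The element orders `r s` of `G₂(3)`, `r`, `s` different primes. -/
theorem mul_primes {g : ↥Gp} {r s : ℕ} (hr : r.Prime) (hs : s.Prime) (hrs : r ≠ s)
    (hg : orderOf g = r * s) : r * s = 6 := by
  have hcard : ∀ q : ℕ, q.Prime → q ∣ r * s → q = 2 ∨ q = 3 ∨ q = 7 ∨ q = 13 := by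
    intro q hq hqd
    have h1 : q ∣ Nat.card ↥Gp := (hg ▸ hqd).trans (orderOf_dvd_natCard g)
    rw [card_G, show 2 ^ 6 * 66339 = 2 ^ 6 * (3 ^ 6 * (7 * 13)) by norm_num] at h1
    rcases (Nat.Prime.dvd_mul hq).1 h1 with h | h
    · left
      exact (Nat.prime_dvd_prime_iff_eq hq Nat.prime_two).1 (hq.dvd_of_dvd_pow h)
    · rcases (Nat.Prime.dvd_mul hq).1 h with h | h
      · right; left
        exact (Nat.prime_dvd_prime_iff_eq hq Nat.prime_three).1 (hq.dvd_of_dvd_pow h)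
      · rcases (Nat.Prime.dvd_mul hq).1 h with h | h
        · right; right; left
          exact (Nat.prime_dvd_prime_iff_eq hq (by norm_num)).1 h
        · right; right; right
          exact (Nat.prime_dvd_prime_iff_eq hq (by norm_num)).1 h
  have h1 := hcard r hr (dvd_mul_right _ _)
  have h2 := hcard s hs (dvd_mul_left _ _)
  rcases h1 with rfl | rfl | rfl | rfl <;> rcases h2 with rfl | rfl | rfl | rfl
  · exact absurd rfl hrs
  · rfl
  · exact absurd hg (not_two (Or.inl rfl))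
  · exact absurd hg (not_two (Or.inr rfl))
  · rfl
  · exact absurd rfl hrs
  · exact absurd (hg.trans (mul_comm _ _)) (not_seven (by decide))
  · exact absurd (hg.trans (mul_comm _ _)) (not_thirteen (by decide))
  · exact absurd (hg.trans (mul_comm _ _)) (not_two (Or.inl rfl))
  · exact absurd hg (not_seven (by decide))
  · exact absurd rfl hrs
  · exact absurd (hg.trans (mul_comm _ _)) (not_thirteen (by decide))
  · exact absurd (hg.trans (mul_comm _ _)) (not_two (Or.inr rfl))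
  · exact absurd hg (not_thirteen (by decide))
  · exact absurd hg (not_thirteen (by decide))
  · exact absurd rfl hrs

end Cfsg.Agent.H160.G2Three
end

-- part: S2518
section
set_option autoImplicit false
open Cfsg

namespace Cfsg.Agent.S2518

theorem dvd_pow_iff {r p a : ℕ} (hr : r.Prime) (hp : p.Prime) (ha : a ≠ 0) : r ∣ p ^ a ↔ r = p := by
  constructor
  · intro h
    exact (Nat.prime_dvd_prime_iff_eq hr hp).1 (hr.dvd_of_dvd_pow h)
  · rintro rfl
    exact dvd_pow_self _ ha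

theorem primes_iff {r : ℕ} (hr : r.Prime) {n a b c d : ℕ} (ha : a ≠ 0) (hb : b ≠ 0) (hc : c ≠ 0)
    (hd : d ≠ 0) (hn : n = 2 ^ a * (3 ^ b * (7 ^ c * 13 ^ d))) :
    r ∣ n ↔ r = 2 ∨ r = 3 ∨ r = 7 ∨ r = 13 := by
  rw [hn, hr.dvd_mul, hr.dvd_mul, hr.dvd_mul, dvd_pow_iff hr Nat.prime_two ha,
    dvd_pow_iff hr Nat.prime_three hb, dvd_pow_iff hr (by norm_num) hc,
    dvd_pow_iff hr (by norm_num) hd]

/-- Let F₃ be the field with 3 elements and F₁₃ the field with 13 elements. The Chevalley group G₂(F₃) and PSL(2, F₁₃) have the same prime graph: the same prime divisors of their orders, and for distinct primes r, s an element of order rs in one iff in the other. -/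
theorem result {F : Type*} [Field F] [Fintype F] (hF : Fintype.card F = 3) {E : Type*} [Field E] [Fintype E] (hE : Fintype.card E = 13) :
    ((∀ r : ℕ, r.Prime → (r ∣ Nat.card ↥(Cfsg.Lie.chevG2.group F) ↔ r ∣ Nat.card (Matrix.ProjectiveSpecialLinearGroup (Fin 2) E))) ∧
      (∀ r s : ℕ, r.Prime → s.Prime → r ≠ s → ((∃ x : ↥(Cfsg.Lie.chevG2.group F), orderOf x = r * s) ↔ (∃ y : (Matrix.ProjectiveSpecialLinearGroup (Fin 2) E), orderOf y = r * s)))) := by
  have hF' : Fintype.card (ZMod 3) = Fintype.card F := by rw [hF]; rfl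
  let φ : ZMod 3 ≃+* F := FiniteField.ringEquivOfCardEq hF'
  have e : ↥(Cfsg.Lie.chevG2.group (ZMod 3)) ≃* ↥(Cfsg.Lie.chevG2.group F) :=
    Cfsg.Agent.ChevalleyStructure.FieldIso.groupEquiv Cfsg.Lie.chevG2 φ
  have hcG : Nat.card ↥(Cfsg.Lie.chevG2.group F) = 2 ^ 6 * (3 ^ 6 * (7 ^ 1 * 13 ^ 1)) := by
    rw [← Nat.card_congr e.toEquiv]
    exact (Cfsg.Agent.OddHalf.Small.G23.card_G).trans (by norm_num)
  have hodd : Odd (Fintype.card E) := by rw [hE]; decide
  have hcL : Nat.card (Matrix.ProjectiveSpecialLinearGroup (Fin 2) E) =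
      2 ^ 2 * (3 ^ 1 * (7 ^ 1 * 13 ^ 1)) := by
    have h := Cfsg.Agent.ClassicalGeometry.PSL2Basic.card_PSL2_odd E hodd
    rw [hE] at h
    omega
  have hchar : CharP E 13 := by
    obtain ⟨p, hp⟩ := CharP.exists E
    have hpp : Fact p.Prime := ⟨CharP.char_is_prime E p⟩
    obtain ⟨n, hn, hn'⟩ := FiniteField.card E p
    rw [hE] at hn'
    have h13 : p ∣ 13 := by
      rw [hn']
      exact dvd_pow_self _ n.ne_zero
    rw [← (Nat.prime_dvd_prime_iff_eq hpp.out (by norm_num)).1 h13]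
    exact hp
  have hf13 : Fact (Nat.Prime 13) := ⟨by norm_num⟩
  refine ⟨fun r hr => ?_, fun r s hr hs hrs => ⟨?_, ?_⟩⟩
  · rw [primes_iff hr (by norm_num) (by norm_num) (by norm_num) (by norm_num) hcG,
      primes_iff hr (by norm_num) (by norm_num) (by norm_num) (by norm_num) hcL]
  · rintro ⟨x, hx⟩
    have h1 : orderOf (e.symm x) = r * s := by rw [MulEquiv.orderOf_eq]; exact hx
    have h2 := Cfsg.Agent.H160.G2Three.mul_primes hr hs hrs h1
    rw [h2]
    obtain ⟨y, hy⟩ := Cfsg.Agent.H160.PSLTwo.exists_orderOf hodd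
    rw [hE] at hy
    exact ⟨y, hy⟩
  · rintro ⟨y, hy⟩
    have h6 : r * s = 6 := by
      have h := Cfsg.Agent.H160.PSLTwo.orderOf_dvd 13 hodd y
      rw [hE, hy] at h
      have hr2 := hr.two_le
      have hs2 := hs.two_le
      have hnp : ∀ q : ℕ, q.Prime → ¬ r * s ∣ q := by
        intro q hq hd
        rcases (Nat.dvd_prime hq).1 hd with h | h
        · nlinarith
        · rw [← h] at hq
          exact Nat.not_prime_mul (by omega) (by omega) hq
      rcases h with h | h | h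
      · exact absurd h (hnp 13 (by norm_num))
      · have h' : r * s ∣ 6 := h
        have h7 : r * s ∈ Nat.divisors 6 := by
          rw [Nat.mem_divisors]
          exact ⟨h', by norm_num⟩
        have h8 : Nat.divisors 6 = {1, 2, 3, 6} := by decide
        rw [h8] at h7
        simp only [Finset.mem_insert, Finset.mem_singleton] at h7
        rcases h7 with h | h | h | h
        · nlinarith
        · nlinarith
        · nlinarith
        · exact h
      · exact absurd h (hnp 7 (by norm_num))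
    rw [h6]
    obtain ⟨g, hg⟩ := Cfsg.Agent.H160.G2Three.exists_six
    exact ⟨e g, (MulEquiv.orderOf_eq e g).trans hg⟩

end Cfsg.Agent.S2518
end
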