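import Mathlib
import Cfsg.Agent.H156.SqPSp
import Cfsg.Agent.TitsThree.KSideO
import Cfsg.Agent.H206.OrthBal
import Cfsg.Agent.Nodes.WittInst
import Cfsg.Agent.Nodes.TyChart
import Cfsg.Agent.Nodes.RGDOrth
import Cfsg.Agent.OddHalf.NI.OmegaRows
import Cfsg.Agent.UGT.U2.Rec.Congr
import Cfsg.Agent.S0295
import Cfsg.Agent.OddHalf.LongSL.Orth
import Cfsg.Agent.H162.GaussReg
import Cfsg.Agent.H162.GaussMain
import Cfsg.Agent.OddHalf.NI.OmegaPlus
import Cfsg.Agent.S0296
import Cfsg.Statements.S2523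
import Cfsg.Agent.H162.GaussExcMain
import Cfsg.Agent.H162.GaussPSL
set_option linter.all false

-- part: H156/SqOrth
section
/-!
Torus elements of orthogonal groups (for S2523, tasks 269-270).
-/

set_option autoImplicit false
set_option linter.unusedSectionVars false

namespace Cfsg.Agent.H156.SqOrth

open Matrix QuadraticMap
open Cfsg.Agent.LieClassical Cfsg.Agent.LieClassical.OrthCore Cfsg.Agent.LieClassical.OrthTrans
open Cfsg.Agent.LieClassical.OrthSimple
open Cfsg.Agent.TitsThree Cfsg.Agent.TitsThree.Siegel Cfsg.Agent.TitsThree.SiegelGen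
  Cfsg.Agent.TitsThree.WittFrame Cfsg.Agent.TitsThree.WittWeyl Cfsg.Agent.TitsThree.WBridge
  Cfsg.Agent.TitsThree.KSideO
open Cfsg.Agent.Nodes
open Cfsg.Agent.Nodes.WittRoot (Amb Mono)
open Cfsg.Agent.H156.SqPhi Cfsg.Agent.H156.SqBlk Cfsg.Agent.H156.SqTor Cfsg.Agent.H156.SqFix

section General

variable {F : Type*} [Field F] {V : Type*} [AddCommGroup V] [Module F V] {H : HForm F V} {N k : ℕ}
  {Fr : Frame H (Fin N)} {G0 : Subgroup (V ≃ₗ[F] V)}

theorem tor_mem_of_prod (hσ : ∀ c, H.σ c = c) (hA : Amb Fr G0) {χ : Fin N → Fˣ} (h : ∏ i, χ i = 1) :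
    tor Fr χ ∈ G0 := by
  have h1 : (diagonal fun i => (χ i : F)).det = 1 := by
    rw [det_diagonal]
    have h0 := congrArg (fun u : Fˣ => (u : F)) h
    simpa [Units.coe_prod] using h0
  have h2 : DD χ = SpecialLinearGroup.toGL ⟨diagonal fun i => (χ i : F), h1⟩ := Units.ext rfl
  unfold tor
  rw [h2]
  exact Phi_mem Function.injective_id hσ hA.X_mem _

/-- the torus elements `diag(d, 1, ..., 1; d⁻¹)` -/
theorem hgl_of (hσ : ∀ c, H.σ c = c) (hA : Amb Fr G0) (hk : k + 2 ≤ N) (hk' : k + 3 ≤ N) (d : Fˣ) :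
    ∃ χ' : Fin N → Fˣ, tor Fr χ' ∈ G0 ∧ ∀ i : Fin (k + 2), χ' (Fin.castLE hk i) = if i = 0 then d else 1 := by
  have hne : (⟨0, by omega⟩ : Fin N) ≠ ⟨k + 2, by omega⟩ := by simp [Fin.ext_iff]
  refine ⟨Pi.mulSingle ⟨0, by omega⟩ d * Pi.mulSingle ⟨k + 2, by omega⟩ d⁻¹, tor_mem_of_prod hσ hA ?_, fun i => ?_⟩
  · simp only [Pi.mul_apply, Finset.prod_mul_distrib]
    rw [Finset.prod_pi_mulSingle', Finset.prod_pi_mulSingle', if_pos (Finset.mem_univ _),
      if_pos (Finset.mem_univ _), mul_inv_cancel]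
  · have h2 : Fin.castLE hk i ≠ ⟨k + 2, by omega⟩ := by
      intro h
      have h3 := congrArg Fin.val h
      simp only [Fin.val_castLE] at h3
      have := i.2
      omega
    rw [Pi.mul_apply, Pi.mulSingle_eq_of_ne h2, mul_one, Pi.mulSingle_apply]
    congr 1
    rw [Fin.ext_iff, Fin.ext_iff]
    rfl

/-- signs -/
def sg (x : Fin N × Bool) : ℤ := if x.2 then 1 else -1

theorem lam_zpow (g : Fˣ) (e : Fin N → ℤ) (x : Fin N × Bool) :
    lam (fun i => g ^ e i) x = ((g ^ (sg x * e x.1) : Fˣ) : F) := by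
  unfold lam sg
  split_ifs
  · rw [one_mul]
  · rw [neg_one_mul, _root_.zpow_neg]

theorem lam_mul_zpow (g : Fˣ) (e : Fin N → ℤ) (x y : Fin N × Bool) :
    lam (fun i => g ^ e i) x * lam (fun i => g ^ e i) y = ((g ^ (sg x * e x.1 + sg y * e y.1) : Fˣ) : F) := by
  rw [lam_zpow, lam_zpow, _root_.zpow_add, Units.val_mul]

theorem zpow_ne_one {G : Type*} [Group G] {g : G} (hg : 8 ≤ orderOf g) {n : ℤ} (h0 : n ≠ 0) (hn : n.natAbs < 8) :
    g ^ n ≠ 1 := by
  intro h
  have h1 := orderOf_dvd_iff_zpow_eq_one.2 h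
  have h2 := Int.natAbs_dvd_natAbs.2 h1
  rw [Int.natAbs_natCast] at h2
  have h3 := Nat.le_of_dvd (Int.natAbs_pos.2 h0) h2
  omega

theorem exists_gen {F : Type*} [Field F] [Fintype F] (hF : 9 ≤ Fintype.card F) : ∃ g : Fˣ, 8 ≤ orderOf g := by
  classical
  obtain ⟨g, hg⟩ := IsCyclic.exists_generator (α := Fˣ)
  refine ⟨g, ?_⟩
  have h1 : orderOf g = Nat.card Fˣ := orderOf_eq_card_of_forall_mem_zpowers hg
  rw [h1, Nat.card_eq_fintype_card, Fintype.card_units]
  omega

end General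

section Orth

variable {F : Type*} [Field F] {V : Type*} [AddCommGroup V] [Module F V] {Q : QuadraticForm F V} {m : ℕ}
  (W : WFrame (KSideO.PO Q) m)

theorem tor_mem_O (χ : Fin m → Fˣ) : tor (toFrame W) χ ∈ O Q := by
  rw [mem_O]
  intro v
  have hiso : ∀ x y, polar Q (tor (toFrame W) χ x) (tor (toFrame W) χ y) = polar Q x y :=
    isIso_Phi (toFrame W) Function.injective_id (fun c => rfl) (DD χ)
  have hadd : ∀ x y, Q (tor (toFrame W) χ x) = Q x → Q (tor (toFrame W) χ y) = Q y →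
      Q (tor (toFrame W) χ (x + y)) = Q (x + y) := by
    intro x y hx hy
    rw [map_add, Q_add, Q_add, hx, hy, hiso]
  have hsum : ∀ (s : Finset (Fin m)) (f : Fin m → V), (∀ i, Q (tor (toFrame W) χ (f i)) = Q (f i)) →
      Q (tor (toFrame W) χ (∑ i ∈ s, f i)) = Q (∑ i ∈ s, f i) := by
    intro s f hf
    induction s using Finset.induction_on with
    | empty => rw [Finset.sum_empty, map_zero]
    | insert i s hi ih => rw [Finset.sum_insert hi]; exact hadd _ _ (hf i) ih
  obtain ⟨a, b, w, hw, e⟩ := W.span v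
  rw [e]
  refine hadd _ _ (hadd _ _ (hsum _ _ fun i => ?_) (hsum _ _ fun i => ?_)) ?_
  · have h1 : tor (toFrame W) χ (W.e i) = (χ i : F) • W.e i := tor_true (toFrame W) χ i
    rw [map_smul, h1, QuadraticMap.map_smul, QuadraticMap.map_smul, QuadraticMap.map_smul, (sing_iff Q).1 (W.e_sing i),
      smul_zero, smul_zero]
  · have h1 : tor (toFrame W) χ (W.f i) = ((χ i)⁻¹ : Fˣ) • W.f i := tor_false (toFrame W) χ i
    rw [map_smul, h1, Units.smul_def, QuadraticMap.map_smul, QuadraticMap.map_smul, QuadraticMap.map_smul,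
      (sing_iff Q).1 (W.f_sing i), smul_zero, smul_zero]
  · rw [tor_V0 (toFrame W) χ hw]

theorem tor_sq_mem (hG : Good Q) (χ : Fin m → Fˣ) : tor (toFrame W) (χ * χ) ∈ E Q := by
  rw [tor_mul]
  exact H206.OrthBal.sq_mem_E hG (tor_mem_O W χ)

end Orth

end Cfsg.Agent.H156.SqOrth
end

-- part: H156/SqPOdd
section
/-!
`PΩ_{2m+1}(F)`, `m ≥ 3`, `|F| ≥ 9` odd, is the square of a conjugacy class (S2523, task 269).
-/

set_option autoImplicit false
set_option linter.unusedSectionVars false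

namespace Cfsg.Agent.H156.SqPOdd

open CoxeterSystem Cfsg.Agent.ChevalleyStructure.CoxeterGeom Cfsg.Agent.Tits.Roots Cfsg.Agent.Tits.Core
  Cfsg.Agent.Nodes.Reps Cfsg.Agent.Nodes.BNOf Cfsg.Agent.Nodes.StabComb
  Cfsg.Agent.Nodes.RGDLib Cfsg.Agent.Nodes.Bruhat Cfsg.Agent.Nodes.OppDec Cfsg.Agent.Nodes.LeviDec
open QuadraticMap
open Cfsg.Agent.LieClassical Cfsg.Agent.LieClassical.OrthCore Cfsg.Agent.LieClassical.OrthTrans
open Cfsg.Agent.LieClassical.OrthSimple Cfsg.Agent.LieClassical.OrthFinite Cfsg.Agent.LieClassical.OrthForms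
open Cfsg.Agent.Nodes
open Cfsg.Agent.Nodes.TypeC
open Cfsg.Agent.TitsThree Cfsg.Agent.TitsThree.Siegel Cfsg.Agent.TitsThree.SiegelGen
  Cfsg.Agent.TitsThree.WittFrame Cfsg.Agent.TitsThree.WittWeyl Cfsg.Agent.TitsThree.WBridge
  Cfsg.Agent.TitsThree.KSideO
open Cfsg.Agent.Nodes.WittRoot (XG ZG PG PG_ne PG_self Amb Mono)
open Cfsg.Agent.Nodes.WittRGD (Tor b_ne_zero)
open Cfsg.Agent.H162.GaussSL Cfsg.Agent.H162.GaussReg Cfsg.Agent.H162.GaussLevi Cfsg.Agent.H162.GaussMain
open Cfsg.Agent.H156.SqPhi Cfsg.Agent.H156.SqBlk Cfsg.Agent.H156.SqTor Cfsg.Agent.H156.SqFix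
open Cfsg.Agent.H156.SqOrth
open Cfsg.Agent.OddHalf.NI Cfsg.Agent.OddHalf.NI.OmegaRows Cfsg.Agent.OddHalf.NI.OmegaNodes

/-- the exponents -/
def ex (k : ℕ) (i : Fin (k + 3)) : ℤ := if (i : ℕ) < k + 2 then 1 else 2

theorem ne_zero_of {k : ℕ} {a b : Fin (k + 3) × Bool} (hab : a.1 ≠ b.1)
    (h : ¬ (a.2 ≠ b.2 ∧ (a.1 : ℕ) < k + 2 ∧ (b.1 : ℕ) < k + 2)) :
    SqOrth.sg a * (ex k a.1 + ex k a.1) + SqOrth.sg b * (ex k b.1 + ex k b.1) ≠ 0 ∧
      (SqOrth.sg a * (ex k a.1 + ex k a.1) + SqOrth.sg b * (ex k b.1 + ex k b.1)).natAbs < 8 := by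
  obtain ⟨a, s⟩ := a
  obtain ⟨b, t⟩ := b
  have h1 := a.2
  have h2 := b.2
  have h3 : (a : ℕ) ≠ b := fun e => hab (Fin.ext e)
  simp only at h1 h2 h3 h
  unfold SqOrth.sg ex
  rcases Nat.lt_or_ge (a : ℕ) (k + 2) with ha | ha <;> rcases Nat.lt_or_ge (b : ℕ) (k + 2) with hb | hb
  · have hst : s = t := by
      by_contra hst
      exact h ⟨hst, ha, hb⟩
    subst hst
    simp only [if_pos ha, if_pos hb]
    cases s <;> simp
  · simp only [if_pos ha, if_neg (not_lt.2 hb)]
    cases s <;> cases t <;> simp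
  · simp only [if_neg (not_lt.2 ha), if_pos hb]
    cases s <;> cases t <;> simp
  · omega

theorem ne_zero_of' {k : ℕ} (a : Fin (k + 3) × Bool) :
    SqOrth.sg a * (ex k a.1 + ex k a.1) ≠ 0 ∧ (SqOrth.sg a * (ex k a.1 + ex k a.1)).natAbs < 8 := by
  unfold SqOrth.sg ex
  split_ifs <;> constructor <;> norm_num

theorem square_podd0 {F : Type} [Field F] [Fintype F] (hF : 9 ≤ Fintype.card F) (hodd : Odd (Fintype.card F))
    (m : ℕ) (hm : 3 ≤ m) : ∃ c : Cfsg.POmega F (Cfsg.quadFormOdd m F), ∀ g, ∃ x y,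
      g = (x * c * x⁻¹) * (y * c * y⁻¹) := by
  obtain ⟨k, rfl⟩ : ∃ k, m = k + 3 := ⟨m - 3, by omega⟩
  have hsimp : IsSimpleGroup (Cfsg.POmega F (Cfsg.quadFormOdd (k + 3) F)) := S0295.result hodd (k + 3) (by omega)
  obtain ⟨p, hp, hc, hp2⟩ := exists_char hodd
  have : Fact p.Prime := ⟨hp⟩
  rw [← coe_oddForm] at hsimp ⊢
  have h2 : (2 : F) ≠ 0 := Cfsg.Agent.OddHalf.LongSL.Orth.two_ne hp2
  have hG : Good (oddForm (k + 3) F) := by
    apply good_of_finite (nondeg_oddForm (k + 3) F h2)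
    rw [Module.finrank_fintype_fun_eq_card, Fintype.card_sum, Fintype.card_sum, Fintype.card_fin,
      Fintype.card_unit]
    omega
  have hA := RGDOrth.amb (wodd (k + 3) F) h2
  obtain ⟨p0, hp0⟩ : ∃ p0 : (toFrame (wodd (k + 3) F)).Adm, p0.c ≠ 0 := by
    refine ⟨(embOdd (k + 3) F).ngt ⟨1, -1 ^ 2, rfl⟩, ?_⟩
    change (1 : F)⁻¹ * (-1 ^ 2) ≠ 0
    simp
  have : Finite (Unit ⊕ (Fin (k + 3) ⊕ Fin (k + 3)) → F) := inferInstance
  have : Finite ↥(E (oddForm (k + 3) F)) := Finite.of_injective (fun g : ↥(E (oddForm (k + 3) F)) =>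
      (g.1 : (Unit ⊕ (Fin (k + 3) ⊕ Fin (k + 3)) → F) → (Unit ⊕ (Fin (k + 3) ⊕ Fin (k + 3)) → F)))
      fun x y h => Subtype.ext (DFunLike.coe_injective h)
  have : Finite (CoxeterMatrix.B (k + 3)).Group := TypeC.finite_W (CoxeterMatrix.B (k + 3)).toCoxeterSystem
  have hAT := WittAll.AmbT.of_amb hA p
  have hσ : ∀ c, (HO (oddForm (k + 3) F)).σ c = c := fun c => rfl
  have R := rgd_restrict (WittAll.rgdC hAT (p0 := p0) hp0
    (CoxeterMatrix.B (k + 3)).toCoxeterSystem) (E (oddForm (k + 3) F)) (fun x _ => hA.rg_le x)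
    (fun i => WittAll.nn_mem hAT p0 i)
  have hG1 := ClsOrth.genE hA hp0 (by omega) (CoxeterMatrix.B (k + 3)).toCoxeterSystem
  have C := coordE (nodeO (k + 3)) hA
  have hconn := Chart.Ty.irrC (k + 3) (by omega)
  obtain ⟨g, hg⟩ := exists_gen hF
  have hs : tor (toFrame (wodd (k + 3) F)) (fun i => g ^ (ex k i + ex k i)) ∈ E (oddForm (k + 3) F) := by
    have h1 : (fun i => g ^ (ex k i + ex k i)) = (fun i => g ^ ex k i) * (fun i => g ^ ex k i) := by
      funext i
      rw [Pi.mul_apply, zpow_add]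
    rw [h1]
    exact tor_sq_mem (wodd (k + 3) F) hG _
  have hk : k + 2 ≤ k + 3 := by omega
  have D := blkTor (cs := (CoxeterMatrix.B (k + 3)).toCoxeterSystem) (h := isCartan (k + 3))
    (rg := WittRoot.rg (toFrame (wodd (k + 3) F))) (k := k) hσ hA hk
    (fun i j hij => hJ1C hk i j hij) (fun r hr => hJ2C hk hr) (χ := fun i => g ^ (ex k i + ex k i))
    hs (a := g ^ (2 : ℤ)) (fun i => by
      unfold ex
      rw [if_pos (by simp)]
      rfl)
    (noFixC hσ hs hA.iso (tor_apply _ _) (fun w hw => tor_V0 _ _ hw)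
      (fun x y hxy h => by
        rw [lam_mul_zpow]
        intro h1
        obtain ⟨h3, h4⟩ := ne_zero_of hxy h
        exact zpow_ne_one hg h3 h4 (Units.ext h1))
      (fun x q hw _ => by
        have h0 : lam (fun i => g ^ (ex k i + ex k i)) x ≠ 1 := by
          rw [lam_zpow]
          intro h1
          obtain ⟨h3, h4⟩ := ne_zero_of' (k := k) x
          exact zpow_ne_one hg h3 h4 (Units.ext h1)
        have h1 : q.w = 0 := by
          have h5 : (lam (fun i => g ^ (ex k i + ex k i)) x - 1) • q.w = 0 := by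
            rw [sub_smul, hw, one_smul, sub_self]
          exact (smul_eq_zero.1 h5).resolve_left (sub_ne_zero.2 h0)
        have h2 : q.c = -(oddForm (k + 3) F) q.w := q.ok.2
        apply Frame.Adm.ext
        · exact h1
        · rw [h2, h1, QuadraticMap.map_zero, neg_zero]
          rfl))
    (hgl_of hσ hA hk (by omega))
    ⟨Finset.univ, fun _ => Finset.mem_univ _, fun j hj => absurd (Finset.mem_univ j) hj,
      exists_monoZ hA hp0 Finset.univ⟩
  exact square R (toPOmega hG) (toPOmega_surjective hG) (WittInst.ker_toPOmega hG)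
    fun g hg => main R hG1 C hconn (by
      rw [Cardinal.mk_fintype]
      exact_mod_cast (by omega : 4 ≤ Fintype.card F)) D hg

/-- **`PΩ_{2m+1}(F)`, `m ≥ 3`, is the square of a conjugacy class.** -/
theorem square_podd {F : Type*} [Field F] [Fintype F] (hF : 9 ≤ Fintype.card F) (hodd : Odd (Fintype.card F))
    (m : ℕ) (hm : 3 ≤ m) : ∃ c : Cfsg.POmega F (Cfsg.quadFormOdd m F), ∀ g, ∃ x y,
      g = (x * c * x⁻¹) * (y * c * y⁻¹) := by
  let _ : Fintype (Shrink.{0} F) := Fintype.ofEquiv F (equivShrink.{0} F)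
  have hc : Fintype.card (Shrink.{0} F) = Fintype.card F := Fintype.card_congr (equivShrink.{0} F).symm
  obtain ⟨c, hc⟩ := square_podd0 (F := Shrink.{0} F) (by rw [hc]; exact hF) (by rw [hc]; exact hodd) m hm
  obtain ⟨e⟩ := UGT.U2.Rec.Congr.nonempty_POmegaOdd (Shrink.ringEquiv.{0} F) m
  refine ⟨e c, fun g => ?_⟩
  obtain ⟨x, y, h⟩ := hc (e.symm g)
  refine ⟨e x, e y, ?_⟩
  apply e.symm.injective
  rw [h]
  simp only [map_mul, map_inv, MulEquiv.symm_apply_apply]

end Cfsg.Agent.H156.SqPOdd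
end

-- part: H12/SLFrame
section
/-!
# The linear group of a Witt frame of orthogonal type (helper12, for S2523)

`ph Fr hf : GL_k(F) →* GL(V)` for an injective `f : Fin k → ι` : natural on `⟨e_{f i}⟩`, dual on `⟨f_{f i}⟩`,
trivial on the orthogonal complement; `ph_transvection` : the image of `1 + c E_ij` is `X (f i, +) (f j, -) c`;
`ph_mem_O` : the images are isometries; `ph_e`, `ph_f`, `ph_of_ne` : the action on the frame; `phE` : the
homomorphism `SL_k(F) →* E Q` for `W : WFrame (PO Q) m`.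
-/

set_option autoImplicit false

namespace Cfsg.Agent.H12.SLFrame

open QuadraticMap Matrix
open Matrix (SpecialLinearGroup)
open Cfsg.Agent.LieClassical.OrthCore
open Cfsg.Agent.TitsThree.Siegel Cfsg.Agent.TitsThree.WittFrame Cfsg.Agent.TitsThree.WittWeyl
open Cfsg.Agent.TitsThree.KSideO Cfsg.Agent.TitsThree.WBridge
open Cfsg.Agent.OddHalf.LongSL.OrthPhi Cfsg.Agent.OddHalf.LongSL.Orth

variable {F V : Type*} [Field F] [AddCommGroup V] [Module F V] {Q : QuadraticForm F V} {ι : Type*} [DecidableEq ι]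
  (Fr : Frame (HO Q) ι) {k : ℕ} (f : Fin k → ι)

/-- the coefficients at the `e` -/
def pe : V →ₗ[F] (Fin k → F) := LinearMap.pi fun j => (polarBilin Q).flip (Fr.b (f j, false))

/-- the coefficients at the `f` -/
def pf : V →ₗ[F] (Fin k → F) := LinearMap.pi fun j => (polarBilin Q).flip (Fr.b (f j, true))

theorem pe_apply (v : V) (j : Fin k) : pe Fr f v j = polar Q v (Fr.b (f j, false)) := rfl

theorem pf_apply (v : V) (j : Fin k) : pf Fr f v j = polar Q v (Fr.b (f j, true)) := rfl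

/-- the combinations of the `e` -/
def ce : (Fin k → F) →ₗ[F] V := Fintype.linearCombination F fun i => Fr.b (f i, true)

/-- the combinations of the `f` -/
def cf' : (Fin k → F) →ₗ[F] V := Fintype.linearCombination F fun i => Fr.b (f i, false)

theorem ce_apply (c : Fin k → F) : ce Fr f c = ∑ i, c i • Fr.b (f i, true) := rfl

theorem cf'_apply (c : Fin k → F) : cf' Fr f c = ∑ i, c i • Fr.b (f i, false) := rfl

theorem polar_sum_left {α : Type*} (s : Finset α) (g : α → V) (w : V) :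
    polar Q (∑ i ∈ s, g i) w = ∑ i ∈ s, polar Q (g i) w := by
  classical
  induction s using Finset.induction_on with
  | empty => simp
  | insert i s hi ih => rw [Finset.sum_insert hi, Finset.sum_insert hi, polar_add_left, ih]

variable {f} (hf : Function.Injective f)

include hf

theorem pe_ce (c : Fin k → F) : pe Fr f (ce Fr f c) = c := by
  funext j
  rw [pe_apply, ce_apply, polar_sum_left, Finset.sum_eq_single j]
  · rw [polar_smul_left, smul_eq_mul]
    have : polar Q (Fr.b (f j, true)) (Fr.b (f j, false)) = 1 := p_self_neg Fr (f j, true)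
    rw [this, mul_one]
  · intro i _ hij
    rw [polar_smul_left, p_ne Fr (z := (f i, true)) (w := (f j, false)) (fun h => hij (hf h)), smul_zero]
  · intro h; exact absurd (Finset.mem_univ _) h

theorem pf_cf (c : Fin k → F) : pf Fr f (cf' Fr f c) = c := by
  funext j
  rw [pf_apply, cf'_apply, polar_sum_left, Finset.sum_eq_single j]
  · rw [polar_smul_left, smul_eq_mul]
    have : polar Q (Fr.b (f j, false)) (Fr.b (f j, true)) = 1 := p_self_neg Fr (f j, false)
    rw [this, mul_one]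
  · intro i _ hij
    rw [polar_smul_left, p_ne Fr (z := (f i, false)) (w := (f j, true)) (fun h => hij (hf h)), smul_zero]
  · intro h; exact absurd (Finset.mem_univ _) h

theorem pe_cf (c : Fin k → F) : pe Fr f (cf' Fr f c) = 0 := by
  funext j
  rw [pe_apply, cf'_apply, polar_sum_left]
  refine Finset.sum_eq_zero fun i _ => ?_
  rw [polar_smul_left]
  by_cases hij : i = j
  · subst hij
    rw [p_self, smul_zero]
  · rw [p_ne Fr (z := (f i, false)) (w := (f j, false)) (fun h => hij (hf h)), smul_zero]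

theorem pf_ce (c : Fin k → F) : pf Fr f (ce Fr f c) = 0 := by
  funext j
  rw [pf_apply, ce_apply, polar_sum_left]
  refine Finset.sum_eq_zero fun i _ => ?_
  rw [polar_smul_left]
  by_cases hij : i = j
  · subst hij
    rw [p_self, smul_zero]
  · rw [p_ne Fr (z := (f i, true)) (w := (f j, true)) (fun h => hij (hf h)), smul_zero]

omit hf

variable (f)

/-- the linear map of a matrix -/
def phL (A : GL (Fin k) F) : V →ₗ[F] V :=
  LinearMap.id + (ce Fr f).comp ((Matrix.toLin' (A.1 - 1)).comp (pe Fr f)) +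
    (cf' Fr f).comp ((Matrix.toLin' ((A⁻¹).1 - 1)ᵀ).comp (pf Fr f))

theorem phL_apply (A : GL (Fin k) F) (v : V) : phL Fr f A v =
    v + ce Fr f ((A.1 - 1) *ᵥ pe Fr f v) + cf' Fr f (((A⁻¹).1 - 1)ᵀ *ᵥ pf Fr f v) := by
  simp only [phL, LinearMap.add_apply, LinearMap.comp_apply, LinearMap.id_apply, Matrix.toLin'_apply]

variable {f}

include hf

theorem pe_phL (A : GL (Fin k) F) (v : V) : pe Fr f (phL Fr f A v) = A.1 *ᵥ pe Fr f v := by
  rw [phL_apply, map_add, map_add, pe_ce Fr hf, pe_cf Fr hf, add_zero, sub_mulVec, one_mulVec]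
  abel

theorem pf_phL (A : GL (Fin k) F) (v : V) : pf Fr f (phL Fr f A v) = (A⁻¹).1ᵀ *ᵥ pf Fr f v := by
  rw [phL_apply, map_add, map_add, pf_ce Fr hf, pf_cf Fr hf, add_zero, transpose_sub, transpose_one, sub_mulVec,
    one_mulVec]
  abel

theorem phL_mul (A B : GL (Fin k) F) (v : V) :
    phL Fr f (A * B) v = phL Fr f A (phL Fr f B v) := by
  rw [phL_apply Fr f A, pe_phL Fr hf, pf_phL Fr hf, phL_apply Fr f B, phL_apply Fr f (A * B)]
  have h1 : ((A * B).1 - 1) *ᵥ pe Fr f v = (B.1 - 1) *ᵥ pe Fr f v + (A.1 - 1) *ᵥ (B.1 *ᵥ pe Fr f v) := by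
    have h0 : (A * B).1 = A.1 * B.1 := rfl
    rw [mulVec_mulVec, ← add_mulVec, h0, sub_mul, one_mul]
    congr 1
    abel
  have h2 : (((A * B)⁻¹).1 - 1)ᵀ *ᵥ pf Fr f v =
      ((B⁻¹).1 - 1)ᵀ *ᵥ pf Fr f v + ((A⁻¹).1 - 1)ᵀ *ᵥ ((B⁻¹).1ᵀ *ᵥ pf Fr f v) := by
    have h0 : ((A * B)⁻¹).1 = (B⁻¹).1 * (A⁻¹).1 := by rw [_root_.mul_inv_rev]; rfl
    rw [mulVec_mulVec, ← add_mulVec, h0, ← transpose_mul, ← transpose_add, mul_sub, mul_one]
    congr 2
    abel
  rw [h1, h2, map_add, map_add]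
  abel

omit hf in
theorem phL_one (v : V) : phL Fr f (1 : GL (Fin k) F) v = v := by
  rw [phL_apply, inv_one]
  have : (1 : GL (Fin k) F).1 - 1 = 0 := sub_self _
  rw [this, transpose_zero, zero_mulVec, zero_mulVec, map_zero, map_zero, add_zero, add_zero]

/-- **The homomorphism `GL(k,F) → GL(V)`.** -/
def ph : GL (Fin k) F →* (V ≃ₗ[F] V) :=
  (LinearMap.GeneralLinearGroup.generalLinearEquiv F V).toMonoidHom.comp
    (MonoidHom.toHomUnits
      { toFun := phL Fr f
        map_one' := LinearMap.ext fun v => phL_one Fr v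
        map_mul' := fun A B => LinearMap.ext fun v => phL_mul Fr hf A B v })

theorem ph_apply (A : GL (Fin k) F) (v : V) : ph Fr hf A v = phL Fr f A v := rfl

theorem ph_transvection {i j : Fin k} (hij : i ≠ j) (c : F) :
    ph Fr hf ((SpecialLinearGroup.transvection hij c : SpecialLinearGroup (Fin k) F) : GL (Fin k) F) =
      Fr.X (f i, true) (f j, false) c := by
  have hne : ((f i, true) : ι × Bool).1 ≠ ((f j, false) : ι × Bool).1 := fun h => hij (hf h)
  ext v
  rw [ph_apply, X_apply Fr hne, phL_apply]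
  have hinv : (SpecialLinearGroup.transvection hij c : SpecialLinearGroup (Fin k) F)⁻¹ =
      SpecialLinearGroup.transvection hij (-c) := by
    rw [inv_eq_iff_mul_eq_one]
    apply Subtype.ext
    change (1 + single i j c) * (1 + single i j (-c)) = 1
    rw [mul_add, add_mul, add_mul, single_mul_single_of_ne _ _ _ _ (Ne.symm hij)]
    rw [mul_one, one_mul, mul_one, add_zero, add_assoc, ← Matrix.single_add]
    simp
  have h1 : ((SpecialLinearGroup.transvection hij c : SpecialLinearGroup (Fin k) F) : GL (Fin k) F).1 - 1 =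
      single i j c := by
    change (1 + single i j c) - 1 = _
    abel
  have h2 : (((SpecialLinearGroup.transvection hij c : SpecialLinearGroup (Fin k) F) : GL (Fin k) F)⁻¹).1 - 1 =
      single i j (-c) := by
    have h3 : ((SpecialLinearGroup.transvection hij c : SpecialLinearGroup (Fin k) F) : GL (Fin k) F)⁻¹ =
      ((SpecialLinearGroup.transvection hij (-c) : SpecialLinearGroup (Fin k) F) : GL (Fin k) F) := by
      rw [← hinv]
      exact (map_inv (SpecialLinearGroup.toGL) _).symm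
    rw [h3]
    change (1 + single i j (-c)) - 1 = _
    abel
  rw [h1, h2, transpose_single, single_mulVec_eq, single_mulVec_eq, ce_apply, cf'_apply]
  unfold Frame.sc
  rw [eta_one]
  have e1 : (HO Q).ε = 1 := rfl
  have e2 : ∀ c, (HO Q).σ c = c := fun c => rfl
  have e3 : ∀ v w, (HO Q).h v w = polar Q v w := fun v w => rfl
  simp only [e1, e2, e3, inv_one]
  rw [Finset.sum_eq_single i, Finset.sum_eq_single j]
  · simp only [Pi.smul_apply, Pi.single_eq_same, smul_eq_mul, mul_one, pe_apply, pf_apply]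
    module
  · intro l _ hl
    simp [hl]
  · intro h; exact absurd (Finset.mem_univ _) h
  · intro l _ hl
    simp [hl]
  · intro h; exact absurd (Finset.mem_univ _) h

/-! ### The action on the frame -/

theorem pe_b_true (i : Fin k) : pe Fr f (Fr.b (f i, true)) = Pi.single i 1 := by
  have := pe_ce Fr hf (Pi.single i 1)
  rw [ce_apply, Finset.sum_eq_single i] at this
  · rwa [Pi.single_eq_same, one_smul] at this
  · intro l _ hl; rw [Pi.single_eq_of_ne hl, zero_smul]
  · intro h; exact absurd (Finset.mem_univ _) h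

theorem pf_b_true (i : Fin k) : pf Fr f (Fr.b (f i, true)) = 0 := by
  have := pf_ce Fr hf (Pi.single i 1)
  rw [ce_apply, Finset.sum_eq_single i] at this
  · rwa [Pi.single_eq_same, one_smul] at this
  · intro l _ hl; rw [Pi.single_eq_of_ne hl, zero_smul]
  · intro h; exact absurd (Finset.mem_univ _) h

theorem pf_b_false (i : Fin k) : pf Fr f (Fr.b (f i, false)) = Pi.single i 1 := by
  have := pf_cf Fr hf (Pi.single i 1)
  rw [cf'_apply, Finset.sum_eq_single i] at this
  · rwa [Pi.single_eq_same, one_smul] at this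
  · intro l _ hl; rw [Pi.single_eq_of_ne hl, zero_smul]
  · intro h; exact absurd (Finset.mem_univ _) h

theorem pe_b_false (i : Fin k) : pe Fr f (Fr.b (f i, false)) = 0 := by
  have := pe_cf Fr hf (Pi.single i 1)
  rw [cf'_apply, Finset.sum_eq_single i] at this
  · rwa [Pi.single_eq_same, one_smul] at this
  · intro l _ hl; rw [Pi.single_eq_of_ne hl, zero_smul]
  · intro h; exact absurd (Finset.mem_univ _) h

theorem ph_of_ne (A : GL (Fin k) F) {z : ι × Bool} (hz : ∀ i, f i ≠ z.1) : ph Fr hf A (Fr.b z) = Fr.b z := by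
  rw [ph_apply, phL_apply]
  have h1 : pe Fr f (Fr.b z) = 0 := funext fun j => p_ne Fr (w := (f j, false)) (fun h => hz j h.symm)
  have h2 : pf Fr f (Fr.b z) = 0 := funext fun j => p_ne Fr (w := (f j, true)) (fun h => hz j h.symm)
  rw [h1, h2, mulVec_zero, mulVec_zero, map_zero, map_zero, add_zero, add_zero]

/-- the scalar matrices -/
def scl (k : ℕ) (a : Fˣ) : GL (Fin k) F where
  val := (a : F) • 1
  inv := ((a⁻¹ : Fˣ) : F) • 1
  val_inv := by rw [smul_mul_smul_comm, mul_one, ← Units.val_mul, mul_inv_cancel, Units.val_one, one_smul]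
  inv_val := by rw [smul_mul_smul_comm, mul_one, ← Units.val_mul, inv_mul_cancel, Units.val_one, one_smul]

omit hf in
theorem scl_mul (a b : Fˣ) : scl k a * scl k b = scl k (a * b) := by
  apply Units.ext
  change ((a : F) • (1 : Matrix (Fin k) (Fin k) F)) * ((b : F) • 1) = ((a * b : Fˣ) : F) • 1
  rw [smul_mul_smul_comm, mul_one, Units.val_mul]

omit hf in
theorem scl_comm (a : Fˣ) (A : GL (Fin k) F) : scl k a * A = A * scl k a := by
  apply Units.ext
  change ((a : F) • (1 : Matrix (Fin k) (Fin k) F)) * A.1 = A.1 * ((a : F) • 1)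
  rw [smul_mul_assoc, one_mul, mul_smul_comm, mul_one]

theorem ph_scl_true (a : Fˣ) (i : Fin k) : ph Fr hf (scl k a) (Fr.b (f i, true)) = (a : F) • Fr.b (f i, true) := by
  rw [ph_apply, phL_apply, pe_b_true Fr hf, pf_b_true Fr hf, mulVec_zero, map_zero, add_zero]
  change _ + ce Fr f (((a : F) • (1 : Matrix (Fin k) (Fin k) F) - 1) *ᵥ Pi.single i 1) = _
  rw [sub_mulVec, smul_mulVec, one_mulVec, map_sub, map_smul]
  have : ce Fr f (Pi.single i 1) = Fr.b (f i, true) := by
    rw [ce_apply, Finset.sum_eq_single i]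
    · rw [Pi.single_eq_same, one_smul]
    · intro l _ hl; rw [Pi.single_eq_of_ne hl, zero_smul]
    · intro h; exact absurd (Finset.mem_univ _) h
  rw [this]
  abel

theorem ph_scl_false (a : Fˣ) (i : Fin k) :
    ph Fr hf (scl k a) (Fr.b (f i, false)) = ((a⁻¹ : Fˣ) : F) • Fr.b (f i, false) := by
  rw [ph_apply, phL_apply, pe_b_false Fr hf, pf_b_false Fr hf, mulVec_zero, map_zero, add_zero]
  change _ + cf' Fr f ((((a⁻¹ : Fˣ) : F) • (1 : Matrix (Fin k) (Fin k) F) - 1)ᵀ *ᵥ Pi.single i 1) = _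
  rw [transpose_sub, transpose_smul, transpose_one, sub_mulVec, smul_mulVec, one_mulVec, map_sub, map_smul]
  have : cf' Fr f (Pi.single i 1) = Fr.b (f i, false) := by
    rw [cf'_apply, Finset.sum_eq_single i]
    · rw [Pi.single_eq_same, one_smul]
    · intro l _ hl; rw [Pi.single_eq_of_ne hl, zero_smul]
    · intro h; exact absurd (Finset.mem_univ _) h
  rw [this]
  abel

/-! ### Isometries -/

theorem Q_ce_cf (hQ : ∀ z, Q (Fr.b z) = 0) (c d : Fin k → F) : Q (ce Fr f c + cf' Fr f d) = c ⬝ᵥ d := by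
  have h1 : ∀ s : Finset (Fin k), Q (∑ i ∈ s, c i • Fr.b (f i, true)) = 0 := by
    intro s
    induction s using Finset.induction_on with
    | empty => simp
    | insert i s hi ih =>
      rw [Finset.sum_insert hi, Q_add, ih, QuadraticMap.map_smul, hQ, smul_zero, add_zero, polar_comm, polar_sum_left,
        Finset.sum_eq_zero, add_zero]
      intro j hj
      rw [polar_smul_left, polar_smul_right, p_ne Fr (z := (f j, true)) (w := (f i, true))
        (fun h => hi (by rw [← hf h]; exact hj)), smul_zero, smul_zero]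
  have h2 : ∀ s : Finset (Fin k), Q (∑ i ∈ s, d i • Fr.b (f i, false)) = 0 := by
    intro s
    induction s using Finset.induction_on with
    | empty => simp
    | insert i s hi ih =>
      rw [Finset.sum_insert hi, Q_add, ih, QuadraticMap.map_smul, hQ, smul_zero, add_zero, polar_comm, polar_sum_left,
        Finset.sum_eq_zero, add_zero]
      intro j hj
      rw [polar_smul_left, polar_smul_right, p_ne Fr (z := (f j, false)) (w := (f i, false))
        (fun h => hi (by rw [← hf h]; exact hj)), smul_zero, smul_zero]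
  rw [Q_add, ce_apply, cf'_apply, h1, h2, polar_comm, polar_sum_left]
  rw [zero_add, zero_add]
  unfold dotProduct
  refine Finset.sum_congr rfl fun i _ => ?_
  have h3 : polar Q (Fr.b (f i, false)) (∑ j, c j • Fr.b (f j, true)) = c i := by
    rw [polar_comm, ← ce_apply, ← pe_apply, pe_ce Fr hf]
  rw [polar_smul_left, h3, smul_eq_mul, mul_comm]

theorem ph_mem_O (hQ : ∀ z, Q (Fr.b z) = 0) (A : GL (Fin k) F) : ph Fr hf A ∈ O Q := by
  intro v
  rw [ph_apply, phL_apply]
  obtain ⟨c, hc⟩ : ∃ c, c = (A.1 - 1) *ᵥ pe Fr f v := ⟨_, rfl⟩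
  obtain ⟨d, hd⟩ : ∃ d, d = ((A⁻¹).1 - 1)ᵀ *ᵥ pf Fr f v := ⟨_, rfl⟩
  rw [← hc, ← hd, add_assoc, Q_add, Q_ce_cf Fr hf hQ, polar_add_right]
  have h1 : polar Q v (ce Fr f c) = c ⬝ᵥ pf Fr f v := by
    rw [polar_comm, ce_apply, polar_sum_left]
    refine Finset.sum_congr rfl fun i _ => ?_
    rw [polar_smul_left, polar_comm, smul_eq_mul]
    rfl
  have h2 : polar Q v (cf' Fr f d) = pe Fr f v ⬝ᵥ d := by
    rw [dotProduct_comm, polar_comm, cf'_apply, polar_sum_left]
    refine Finset.sum_congr rfl fun i _ => ?_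
    rw [polar_smul_left, polar_comm, smul_eq_mul]
    rfl
  have h3 : c ⬝ᵥ d = (A.1 *ᵥ pe Fr f v - pe Fr f v) ⬝ᵥ ((A⁻¹).1ᵀ *ᵥ pf Fr f v - pf Fr f v) := by
    rw [hc, hd, transpose_sub, transpose_one, sub_mulVec, sub_mulVec, one_mulVec, one_mulVec]
  have h4 : (A.1 *ᵥ pe Fr f v) ⬝ᵥ ((A⁻¹).1ᵀ *ᵥ pf Fr f v) = pe Fr f v ⬝ᵥ pf Fr f v := by
    rw [mulVec_transpose, dotProduct_comm, ← dotProduct_mulVec, mulVec_mulVec]
    have : (A⁻¹).1 * A.1 = 1 := A.inv_mul
    rw [this, one_mulVec, dotProduct_comm]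
  have h5 : c ⬝ᵥ pf Fr f v = (A.1 *ᵥ pe Fr f v) ⬝ᵥ pf Fr f v - pe Fr f v ⬝ᵥ pf Fr f v := by
    rw [hc, sub_mulVec, one_mulVec, sub_dotProduct]
  have h6 : pe Fr f v ⬝ᵥ d = pe Fr f v ⬝ᵥ ((A⁻¹).1ᵀ *ᵥ pf Fr f v) - pe Fr f v ⬝ᵥ pf Fr f v := by
    rw [hd, transpose_sub, transpose_one, sub_mulVec, one_mulVec, dotProduct_sub]
  rw [h1, h2, h3, sub_dotProduct, dotProduct_sub, dotProduct_sub, h4, h5, h6]
  ring

end Cfsg.Agent.H12.SLFrame
end

-- part: H12/SquarePlus
section
/-!
# `PΩ⁺_{2m}(F)` is the square of a class, `|F| ≥ 9`, `m ≥ 4` (helper12; S2523, task 270)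
-/

set_option autoImplicit false
set_option linter.unusedSectionVars false

namespace Cfsg.Agent.H12.SquarePlus

open CoxeterSystem Cfsg.Agent.ChevalleyStructure.CoxeterGeom Cfsg.Agent.Tits.Roots Cfsg.Agent.Tits.Core
open Cfsg.Agent.Nodes.Reps Cfsg.Agent.Nodes.BNOf Cfsg.Agent.Nodes.StabComb Cfsg.Agent.Nodes.RGDLib
  Cfsg.Agent.Nodes.Bruhat
open QuadraticMap
open Matrix (SpecialLinearGroup)
open Cfsg.Agent.LieClassical Cfsg.Agent.LieClassical.OrthCore Cfsg.Agent.LieClassical.OrthTrans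
open Cfsg.Agent.LieClassical.OrthSimple Cfsg.Agent.LieClassical.OrthFinite Cfsg.Agent.LieClassical.OrthForms
open Cfsg.Agent.TitsThree Cfsg.Agent.TitsThree.Siegel Cfsg.Agent.TitsThree.SiegelGen
  Cfsg.Agent.TitsThree.WittFrame Cfsg.Agent.TitsThree.WittWeyl Cfsg.Agent.TitsThree.WBridge
  Cfsg.Agent.TitsThree.KSideO
open Cfsg.Agent.Nodes
open Cfsg.Agent.Nodes.TypeC (wt wt_apply)
open Cfsg.Agent.Nodes.TypeD (ee pd nx bt bt_apply Ok)
open Cfsg.Agent.Nodes.WittRoot (Amb XG Mono XG_swap)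
open Cfsg.Agent.Nodes.WittRGD (Tor mem_Tor b_ne_zero)
open Cfsg.Agent.OddHalf.LongSL.OrthPhi Cfsg.Agent.OddHalf.LongSL.Orth
open Cfsg.Agent.OddHalf.NI Cfsg.Agent.OddHalf.NI.OmegaPlus
open Cfsg.Agent.OddHalf.NI.Mult (up lo dg Coord)
open Cfsg.Agent.H162 Cfsg.Agent.H162.GaussSL Cfsg.Agent.H162.GaussReg Cfsg.Agent.H162.GaussMain
  Cfsg.Agent.H162.GaussLevi
open Cfsg.Agent.H12.SLFrame

/-! ### Combinatorics of the roots -/

section Comb

variable {n : ℕ}

/-- the total sum of the coordinates -/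
def tot (u : Fin (n + 2) → ℤ) : ℤ := ∑ j, u j

theorem tot_wt (z : Fin (n + 2) × Bool) : tot (wt z) = if z.2 then 1 else -1 := by
  unfold tot wt
  rw [Finset.sum_pi_single', if_pos (Finset.mem_univ _)]

theorem tot_add (u v : Fin (n + 2) → ℤ) : tot (u + v) = tot u + tot v := by
  unfold tot
  exact Finset.sum_add_distrib

theorem tot_bt (i : Fin (n + 2)) : tot (bt i) = if (i : ℕ) + 1 < n + 2 then 0 else 2 := by
  unfold bt
  rw [tot_add, tot_wt, tot_wt]
  unfold nx
  split_ifs <;> simp_all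

theorem tot_ee (x : Fin (n + 2) → ℤ) : tot (ee x) = 2 * x (Fin.last (n + 1)) := by
  have h1 : tot (ee x) = ∑ i, x i * tot (bt i) := by
    unfold tot ee
    simp only [Finset.sum_apply, Pi.smul_apply, smul_eq_mul]
    rw [Finset.sum_comm]
    exact Finset.sum_congr rfl fun i _ => by rw [Finset.mul_sum]
  rw [h1, Finset.sum_eq_single (Fin.last (n + 1))]
  · rw [tot_bt, if_neg (by simp)]; ring
  · intro i _ hi
    have : (i : ℕ) + 1 < n + 2 := by
      have h2 := i.2
      have h3 : (i : ℕ) ≠ n + 1 := fun h => hi (Fin.ext h)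
      omega
    rw [tot_bt, if_pos this, mul_zero]
  · intro h; exact absurd (Finset.mem_univ _) h

theorem ee_last (x : Fin (n + 2) → ℤ) : ee x (Fin.last (n + 1)) = x (Fin.last (n + 1)) - x (pd n) := by
  have h1 : ee x (Fin.last (n + 1)) = ∑ i, x i * bt i (Fin.last (n + 1)) := by
    unfold ee
    simp only [Finset.sum_apply, Pi.smul_apply, smul_eq_mul]
  have hne : (Fin.last (n + 1) : Fin (n + 2)) ≠ pd n := by
    intro h; have := congrArg Fin.val h; simp [pd] at this
  rw [h1, ← Finset.sum_subset (Finset.subset_univ {Fin.last (n + 1), pd n}), Finset.sum_pair hne]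
  · rw [bt_apply, bt_apply]
    simp [pd]
    ring
  · intro i _ hi
    simp only [Finset.mem_insert, Finset.mem_singleton, not_or] at hi
    have h2 : (i : ℕ) ≠ n + 1 := fun h => hi.1 (Fin.ext h)
    have h3 : (i : ℕ) ≠ n := fun h => hi.2 (Fin.ext h)
    have := i.2
    rw [bt_apply, if_pos (by omega), if_neg (by simp; omega), if_neg (by simp; omega), mul_zero]

theorem partial_ee (x : Fin (n + 2) → ℤ) {m : Fin (n + 2)} (hm : (m : ℕ) < n) :
    ∑ j ∈ Finset.Iic m, ee x j = x m := by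
  have h1 : ∑ j ∈ Finset.Iic m, ee x j = ∑ i, x i * ∑ j ∈ Finset.Iic m, bt i j := by
    unfold ee
    simp only [Finset.sum_apply, Pi.smul_apply, smul_eq_mul]
    rw [Finset.sum_comm]
    exact Finset.sum_congr rfl fun i _ => by rw [Finset.mul_sum]
  rw [h1, Finset.sum_eq_single m]
  · rw [TypeD.sum_bt, if_pos (by omega), if_pos rfl, mul_one]
  · intro i _ hi
    rw [TypeD.sum_bt]
    split_ifs with h2 h3 h4 h5
    · exact absurd h3.symm hi
    · rw [mul_zero]
    · omega
    · omega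
    · rw [mul_zero]
  · intro h; exact absurd (Finset.mem_univ _) h

variable (k : ℕ)

/-- the nodes of the block -/
def J : Set (Fin (k + 1 + 2)) := {i | i.1 < k + 1}

/-- the indices of the block -/
def f (i : Fin (k + 2)) : Fin (k + 1 + 2) := ⟨i.1, by omega⟩

theorem f_injective : Function.Injective (f k) := fun i j h => Fin.ext (by simpa [f] using congrArg Fin.val h)

variable {k}

theorem f_ne_last (i : Fin (k + 2)) : f k i ≠ Fin.last (k + 2) := by
  intro h
  have := congrArg Fin.val h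
  have := i.2
  simp [f] at *
  omega

theorem eq_last_or (j : Fin (k + 1 + 2)) : j = Fin.last (k + 2) ∨ ∃ i, j = f k i := by
  by_cases h : (j : ℕ) < k + 2
  · exact Or.inr ⟨⟨j, h⟩, rfl⟩
  · exact Or.inl (Fin.ext (by simp; omega))

theorem wt_last (z : Fin (k + 1 + 2) × Bool) (hz : z.1 ≠ Fin.last (k + 2)) : wt z (Fin.last (k + 1 + 1)) = 0 := by
  rw [wt_apply, if_neg (fun h => hz h.symm)]

/-- the roots of the block -/
theorem exists_of_block {x : Fin (k + 1 + 2) → ℤ} {a b : Fin (k + 1 + 2) × Bool} (hab : Ok a b)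
    (e : ee x = wt a + wt b) (h0 : ∀ l, l ∉ J k → x l = 0) :
    ∃ i j, i ≠ j ∧ ee x = wt (f k i, true) + wt (f k j, false) := by
  have h1 : x (Fin.last (k + 1 + 1)) = 0 := h0 _ (by simp [J])
  have h2 : x (pd (k + 1)) = 0 := h0 _ (by simp [J, pd])
  have h3 := tot_ee x
  have h4 := ee_last x
  rw [h1, mul_zero, e, tot_add, tot_wt, tot_wt] at h3
  rw [h1, h2, sub_zero, e, Pi.add_apply, wt_apply, wt_apply] at h4
  have ha : a.1 ≠ Fin.last (k + 2) := by
    intro h
    rw [if_pos h.symm, if_neg (fun h' => hab (h.trans h')), add_zero] at h4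
    split_ifs at h4 <;> omega
  have hb : b.1 ≠ Fin.last (k + 2) := by
    intro h
    rw [if_neg (fun h' => hab (h'.symm.trans h.symm)), if_pos h.symm, zero_add] at h4
    split_ifs at h4 <;> omega
  obtain ⟨a1, s⟩ := a
  obtain ⟨b1, t⟩ := b
  obtain ⟨i, rfl⟩ := (eq_last_or a1).resolve_left ha
  obtain ⟨j, rfl⟩ := (eq_last_or b1).resolve_left hb
  have hij : i ≠ j := fun h => hab (by rw [h])
  cases s <;> cases t
  · simp at h3
  · exact ⟨j, i, hij.symm, e.trans (add_comm (wt (f k i, false)) (wt (f k j, true)))⟩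
  · exact ⟨i, j, hij, e⟩
  · simp at h3

theorem block_zero {x : Fin (k + 1 + 2) → ℤ} {i j : Fin (k + 2)}
    (e : ee x = wt (f k i, true) + wt (f k j, false)) (l : Fin (k + 1 + 2)) (hl : l ∉ J k) : x l = 0 := by
  have h3 := tot_ee x
  have h4 := ee_last x
  rw [e, tot_add, tot_wt, tot_wt] at h3
  rw [e, Pi.add_apply, wt_last _ (f_ne_last i), wt_last _ (f_ne_last j)] at h4
  have h5 : x (Fin.last (k + 1 + 1)) = 0 := by simp at h3; omega
  have h6 : x (pd (k + 1)) = 0 := by rw [h5] at h4; omega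
  have hl' : ¬ (l : ℕ) < k + 1 := hl
  have := l.2
  by_cases h7 : (l : ℕ) = k + 1
  · have : l = pd (k + 1) := Fin.ext h7
    rw [this, h6]
  · have : l = Fin.last (k + 1 + 1) := Fin.ext (by simp; omega)
    rw [this, h5]

theorem lt_of_pos {x : Fin (k + 1 + 2) → ℤ} {i j : Fin (k + 2)} (hij : i ≠ j)
    (e : ee x = wt (f k i, true) + wt (f k j, false)) (h0 : 0 ≤ x) : i < j := by
  by_contra hcon
  have hji : j < i := lt_of_le_of_ne (not_lt.1 hcon) hij.symm
  have hi := i.2
  have hji' : (j : ℕ) < i := hji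
  have h1 := partial_ee x (m := f k j) (by simp [f]; omega)
  have h2 : ∑ l ∈ Finset.Iic (f k j), ee x l = -1 := by
    rw [e]
    simp only [Pi.add_apply, Finset.sum_add_distrib, wt, Finset.sum_pi_single', Finset.mem_Iic]
    rw [if_neg (not_le.2 (show f k j < f k i from hji')), if_pos le_rfl]
    simp
  have h3 : 0 ≤ x (f k j) := h0 (f k j)
  rw [← h1, h2] at h3
  exact absurd h3 (by norm_num)

end Comb

/-! ### The block -/

section Block

variable {F V : Type*} [Field F] [AddCommGroup V] [Module F V] {Q : QuadraticForm F V} {k : ℕ}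
  (W : WFrame (KSideO.PO Q) (k + 1 + 2))

theorem Q_b (z : Fin (k + 1 + 2) × Bool) : Q ((toFrame W).b z) = 0 := (sing_iff Q).1 (b_sing W z)

theorem X_mem_E (x y : Fin (k + 1 + 2) × Bool) (t : F) : (toFrame W).X x y t ∈ E Q := by
  by_cases h : x.1 ≠ y.1
  · rw [← Phi_u (toFrame W) h t]
    exact Phi_mem' W _ _
  · rw [Frame.X, dif_neg h]; exact Subgroup.one_mem _

theorem ph_mem_E (A : SpecialLinearGroup (Fin (k + 2)) F) :
    ph (toFrame W) (f_injective k) (A : GL (Fin (k + 2)) F) ∈ E Q := by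
  have h1 : (⊤ : Subgroup (SpecialLinearGroup (Fin (k + 2)) F)) ≤
      (E Q).comap ((ph (toFrame W) (f_injective k)).comp SpecialLinearGroup.toGL) := by
    rw [← Cfsg.Agent.LieClassical.SLGen.closure_transvections, Subgroup.closure_le]
    rintro _ ⟨i, j, hij, c, rfl⟩
    change ph (toFrame W) (f_injective k) _ ∈ E Q
    rw [ph_transvection]
    exact X_mem_E W _ _ _
  exact h1 (Subgroup.mem_top A)

/-- the homomorphism of the block -/
def phE : SpecialLinearGroup (Fin (k + 2)) F →* E Q :=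
  ((ph (toFrame W) (f_injective k)).comp SpecialLinearGroup.toGL).codRestrict (E Q) (ph_mem_E W)

theorem coe_phE (A : SpecialLinearGroup (Fin (k + 2)) F) :
    ((phE W A : E Q) : V ≃ₗ[F] V) = ph (toFrame W) (f_injective k) (A : GL (Fin (k + 2)) F) := rfl

theorem phE_tv {i j : Fin (k + 2)} (hij : i ≠ j) (c : F) :
    ((phE W (SpecialLinearGroup.transvection hij c) : E Q) : V ≃ₗ[F] V) =
      (toFrame W).X (f k i, true) (f k j, false) c := ph_transvection (toFrame W) (f_injective k) hij c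

theorem ok_ff {i j : Fin (k + 2)} (hij : i ≠ j) (s t : Bool) :
    ((f k i, s) : Fin (k + 1 + 2) × Bool).1 ≠ ((f k j, t) : Fin (k + 1 + 2) × Bool).1 :=
  fun h => hij (f_injective k h)

theorem mem_X_tv {i j : Fin (k + 2)} (hij : i ≠ j) {x : Fin (k + 1 + 2) → ℤ}
    (e : ee x = wt (f k i, true) + wt (f k j, false)) {g : E Q} :
    g ∈ OmegaPlus.X W x ↔ ∃ c, g = phE W (SpecialLinearGroup.transvection hij c) := by
  rw [OmegaPlus.X, Subgroup.mem_subgroupOf, WittRGDD.rg_eq (toFrame W) (ok_ff hij true false) e]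
  constructor
  · rintro ⟨t, ht⟩
    exact ⟨t, Subtype.ext (by rw [phE_tv, ht])⟩
  · rintro ⟨t, rfl⟩
    exact ⟨t, phE_tv W hij t⟩

/-! ### The element `s₀` -/

variable (hG : Good Q) (b : Fˣ)

include hG in
theorem s0_mem : ph (toFrame W) (f_injective k) (scl (k + 2) (b * b)) ∈ E Q := by
  rw [← scl_mul, map_mul]
  exact Cfsg.Agent.H206.OrthBal.sq_mem_E hG (ph_mem_O _ _ (Q_b W) _)

/-- the semisimple element -/
def s0 : E Q := ⟨ph (toFrame W) (f_injective k) (scl (k + 2) (b * b)), s0_mem W hG b⟩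

/-- its characters -/
def ch (z : Fin (k + 1 + 2) × Bool) : Fˣ :=
  if z.1 = Fin.last (k + 2) then 1 else if z.2 then b * b else (b * b)⁻¹

theorem s0_b (z : Fin (k + 1 + 2) × Bool) :
    ((s0 W hG b : E Q) : V ≃ₗ[F] V) ((toFrame W).b z) = ((ch b z : Fˣ) : F) • (toFrame W).b z := by
  obtain ⟨z1, s⟩ := z
  rcases eq_last_or z1 with rfl | ⟨i, rfl⟩
  · unfold ch
    rw [if_pos rfl, Units.val_one, one_smul]
    exact ph_of_ne (toFrame W) (f_injective k) _ fun i => f_ne_last i
  · unfold ch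
    rw [if_neg (f_ne_last i)]
    cases s
    · exact ph_scl_false (toFrame W) (f_injective k) _ i
    · exact ph_scl_true (toFrame W) (f_injective k) _ i

theorem s0_mem_T : s0 W hG b ∈ OmegaPlus.T W := by
  rw [mem_T]
  exact fun z => ⟨_, (ch b z).ne_zero, s0_b W hG b z⟩

theorem s0_comm (A : SpecialLinearGroup (Fin (k + 2)) F) : s0 W hG b * phE W A = phE W A * s0 W hG b := by
  apply Subtype.ext
  change ph (toFrame W) (f_injective k) _ * ph (toFrame W) (f_injective k) _ =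
    ph (toFrame W) (f_injective k) _ * ph (toFrame W) (f_injective k) _
  rw [← map_mul, ← map_mul, scl_comm]

variable {b}

theorem ch_ne (h1 : b * b ≠ 1) (h2 : (b * b) * (b * b) ≠ 1) {x : Fin (k + 1 + 2) → ℤ}
    {a c : Fin (k + 1 + 2) × Bool} (hac : Ok a c) (e : ee x = wt a + wt c) {l : Fin (k + 1 + 2)} (hl : l ∉ J k)
    (hx : x l ≠ 0) : ch b a * ch b c ≠ 1 := by
  obtain ⟨a1, s⟩ := a
  obtain ⟨c1, t⟩ := c
  have h1' : (b * b)⁻¹ ≠ 1 := inv_ne_one.2 h1
  have h2' : (b * b)⁻¹ * (b * b)⁻¹ ≠ 1 := by rw [← mul_inv]; exact inv_ne_one.2 h2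
  rcases eq_last_or a1 with rfl | ⟨i, rfl⟩
  · rcases eq_last_or c1 with rfl | ⟨j, rfl⟩
    · exact absurd rfl hac
    · unfold ch
      rw [if_pos rfl, if_neg (f_ne_last j), one_mul]
      split_ifs
      · exact h1
      · exact h1'
  · rcases eq_last_or c1 with rfl | ⟨j, rfl⟩
    · unfold ch
      rw [if_pos rfl, if_neg (f_ne_last i), mul_one]
      split_ifs
      · exact h1
      · exact h1'
    · unfold ch
      rw [if_neg (f_ne_last i), if_neg (f_ne_last j)]
      cases s <;> cases t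
      · exact h2'
      · exact absurd (block_zero (e.trans (add_comm (wt (f k i, false)) (wt (f k j, true)))) l hl) hx
      · exact absurd (block_zero e l hl) hx
      · exact h2

theorem iso_of_mem {g : V ≃ₗ[F] V} (hg : g ∈ E Q) : (HO Q).IsIso g := fun v w => polar_map (E_le_O hg) v w

theorem conj_X' {g : V ≃ₗ[F] V} (hg : g ∈ E Q) {x y x' y' : Fin (k + 1 + 2) × Bool} (h : x.1 ≠ y.1)
    (h' : x'.1 ≠ y'.1) {l m : F} (hx : g ((toFrame W).b x) = l • (toFrame W).b x')
    (hy : g ((toFrame W).b y) = m • (toFrame W).b y') (t : F) :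
    g * (toFrame W).X x y t * g⁻¹ = (toFrame W).X x' y' (l * m * t) := by
  rw [conj_X (toFrame W) (iso_of_mem hg) h h' hx hy t, eta_one, eta_one, inv_one, mul_one, mul_one]
  rfl

theorem nofix {Wc : Type*} [Group Wc] (cs : CoxeterSystem (TypeD.M (k + 1)) Wc) (h1 : b * b ≠ 1)
    (h2 : (b * b) * (b * b) ≠ 1) : NoFix cs (TypeD.isCartan (k + 1)) (OmegaPlus.X W) (J k) (s0 W hG b) := by
  rintro r hr ⟨l, hl, hrl⟩ g hg hfix
  obtain ⟨a, c, hac, e⟩ := TypeD.exists_of_isRoot cs hr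
  rw [OmegaPlus.X, Subgroup.mem_subgroupOf, WittRGDD.rg_eq (toFrame W) hac e] at hg
  obtain ⟨t, ht⟩ := hg
  have h3 := ch_ne h1 h2 hac e hl hrl
  have h4 := conj_X' W (s0 W hG b).2 (x := a) (y := c) (x' := a) (y' := c) hac hac (s0_b W hG b a)
    (s0_b W hG b c) t
  have h5 := congrArg Subtype.val hfix
  have h6 : (toFrame W).X a c (((ch b a : Fˣ) : F) * ((ch b c : Fˣ) : F) * t) = (toFrame W).X a c t := by
    rw [← h4, ← ht]
    exact h5
  have h7 : ((ch b a : Fˣ) : F) * ((ch b c : Fˣ) : F) * t = t := by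
    have h8 : (toFrame W).X a c (((ch b a : Fˣ) : F) * ((ch b c : Fˣ) : F) * t) ((toFrame W).b (neg c)) =
      (toFrame W).X a c t ((toFrame W).b (neg c)) := by rw [h6]
    rw [X_apply_neg _ hac, X_apply_neg _ hac, add_right_inj] at h8
    have h9 : (((ch b a : Fˣ) : F) * ((ch b c : Fˣ) : F) * t - t) • (toFrame W).b a = 0 := by
      rw [sub_smul, h8, sub_self]
    exact sub_eq_zero.1 ((smul_eq_zero.1 h9).resolve_right (b_ne_zero _))
  have h8 : t = 0 := by
    by_contra h0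
    apply h3
    apply Units.ext
    rw [Units.val_mul, Units.val_one]
    exact mul_right_cancel₀ h0 (h7.trans (one_mul t).symm)
  apply Subtype.ext
  rw [ht, h8, Frame.X_zero]
  rfl

/-! ### The diagonal automorphism -/

theorem ok_fl : ((f k 0, true) : Fin (k + 1 + 2) × Bool).1 ≠ ((Fin.last (k + 2), false) : Fin (k + 1 + 2) × Bool).1 :=
  f_ne_last 0

/-- the torus element inducing `diag(d, 1, …, 1)` -/
def yd (d : Fˣ) : E Q := phi W (ok_fl (k := k)) (dg d)

theorem yd_true (d : Fˣ) (i : Fin (k + 2)) : ((yd W d : E Q) : V ≃ₗ[F] V) ((toFrame W).b (f k i, true)) =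
    (if i = 0 then (d : F) else 1) • (toFrame W).b (f k i, true) := by
  unfold yd
  rw [coe_phi, Phi_dg, cf_add, cf_wt, cf_wt]
  rw [if_neg (show ¬ ((f k i, true) : Fin (k + 1 + 2) × Bool).1 = Fin.last (k + 2) from f_ne_last i), add_zero]
  by_cases h : i = 0
  · subst h
    simp
  · rw [if_neg (fun h' => h (f_injective k h')), if_neg h, zpow_zero, Units.val_one]

theorem yd_false (d : Fˣ) (i : Fin (k + 2)) : ((yd W d : E Q) : V ≃ₗ[F] V) ((toFrame W).b (f k i, false)) =
    (if i = 0 then ((d⁻¹ : Fˣ) : F) else 1) • (toFrame W).b (f k i, false) := by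
  unfold yd
  rw [coe_phi, Phi_dg, cf_add, cf_wt, cf_wt]
  rw [if_neg (show ¬ ((f k i, false) : Fin (k + 1 + 2) × Bool).1 = Fin.last (k + 2) from f_ne_last i), add_zero]
  by_cases h : i = 0
  · subst h
    simp
  · rw [if_neg (fun h' => h (f_injective k h')), if_neg h, zpow_zero, Units.val_one]

theorem yd_diag (d : Fˣ) (z : Fin (k + 1 + 2) × Bool) : ∃ c : F, ((yd W d : E Q) : V ≃ₗ[F] V) ((toFrame W).b z) =
    c • (toFrame W).b z := by
  unfold yd
  rw [coe_phi]
  exact ⟨_, Phi_dg W _ d z⟩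

theorem phE_hom_ext {g : E Q} {f' : SpecialLinearGroup (Fin (k + 2)) F →* SpecialLinearGroup (Fin (k + 2)) F}
    (h : ∀ i j (hij : i ≠ j) (c : F), ((g : V ≃ₗ[F] V) * (toFrame W).X (f k i, true) (f k j, false) c *
      (g : V ≃ₗ[F] V)⁻¹) = ((phE W (f' (SpecialLinearGroup.transvection hij c)) : E Q) : V ≃ₗ[F] V))
    (A : SpecialLinearGroup (Fin (k + 2)) F) : g * phE W A * g⁻¹ = phE W (f' A) := by
  have h1 : (MulAut.conj g).toMonoidHom.comp (phE W) = (phE W).comp f' := by
    refine hom_ext fun i j hij c => ?_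
    apply Subtype.ext
    change (g : V ≃ₗ[F] V) * ((phE W (SpecialLinearGroup.transvection hij c) : E Q) : V ≃ₗ[F] V) *
      (g : V ≃ₗ[F] V)⁻¹ = _
    rw [phE_tv]
    exact h i j hij c
  exact DFunLike.congr_fun h1 A

theorem yd_conj (d : Fˣ) (A : SpecialLinearGroup (Fin (k + 2)) F) :
    yd W d * phE W A * (yd W d)⁻¹ = phE W (gc (dd (k + 1) d) A) := by
  refine phE_hom_ext W (f' := gcHom (dd (k + 1) d)) (fun i j hij c => ?_) A
  rw [conj_X' W (yd W d).2 (ok_ff hij true false) (ok_ff hij true false) (yd_true W d i) (yd_false W d j),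
    gcHom_apply, gc_dd_transvection, phE_tv]
  congr 1
  ring

variable (hV : ∀ w ∈ W.V0, w = 0)

include hV

theorem ext_b' {g l : E Q} (h : ∀ z, (g : V ≃ₗ[F] V) ((toFrame W).b z) = (l : V ≃ₗ[F] V) ((toFrame W).b z)) :
    g = l := by
  apply Subtype.ext
  apply ext_b W h
  intro w hw
  rw [hV w hw, map_zero, map_zero]

theorem yd_s0 (b d : Fˣ) : yd W d * s0 W hG b * (yd W d)⁻¹ = s0 W hG b := by
  rw [mul_inv_eq_iff_eq_mul]
  apply ext_b' W hV
  intro z
  obtain ⟨c, hc⟩ := yd_diag W d z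
  change ((yd W d : E Q) : V ≃ₗ[F] V) (((s0 W hG b : E Q) : V ≃ₗ[F] V) ((toFrame W).b z)) =
    ((s0 W hG b : E Q) : V ≃ₗ[F] V) (((yd W d : E Q) : V ≃ₗ[F] V) ((toFrame W).b z))
  rw [s0_b, hc, map_smul, map_smul, s0_b, hc, smul_smul, smul_smul, mul_comm]

omit hV

/-! ### The element inverting `s₀` -/

theorem polar_v (i : Fin (k + 1 + 2)) (z : Fin (k + 1 + 2) × Bool) :
    polar Q ((toFrame W).b (i, true) + (-1 : F) • (toFrame W).b (i, false)) ((toFrame W).b z) =
      if z.1 = i then (if z.2 then -1 else 1) else 0 := by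
  obtain ⟨j, s⟩ := z
  rw [polar_add_left, polar_smul_left]
  by_cases h : j = i
  · subst h
    have h1 : polar Q ((toFrame W).b (j, true)) ((toFrame W).b (j, false)) = 1 := p_self_neg (toFrame W) (j, true)
    have h2 : polar Q ((toFrame W).b (j, false)) ((toFrame W).b (j, true)) = 1 := p_self_neg (toFrame W) (j, false)
    cases s
    · rw [h1, p_self]; simp
    · rw [h2, p_self]; simp
  · rw [p_ne (toFrame W) (z := (i, true)) (w := (j, s)) (Ne.symm h),
      p_ne (toFrame W) (z := (i, false)) (w := (j, s)) (Ne.symm h)]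
    simp [h]

theorem Q_v (i : Fin (k + 1 + 2)) : Q ((toFrame W).b (i, true) + (-1 : F) • (toFrame W).b (i, false)) = -1 := by
  have h1 : polar Q ((toFrame W).b (i, true)) ((toFrame W).b (i, false)) = 1 := p_self_neg (toFrame W) (i, true)
  rw [Q_add, QuadraticMap.map_smul, Q_b, Q_b, polar_smul_right, h1]
  simp

theorem Q_v_ne (i : Fin (k + 1 + 2)) : Q ((toFrame W).b (i, true) + (-1 : F) • (toFrame W).b (i, false)) ≠ 0 := by
  rw [Q_v]; exact neg_ne_zero.2 one_ne_zero

theorem refl_v (i : Fin (k + 1 + 2)) (z : Fin (k + 1 + 2) × Bool) :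
    OrthCore.refl Q _ (Q_v_ne W i) ((toFrame W).b z) = (toFrame W).b (if z.1 = i then neg z else z) := by
  obtain ⟨j, s⟩ := z
  rw [OrthCore.refl_apply, polar_v, Q_v]
  by_cases h : j = i
  · subst h
    simp only [if_true]
    cases s
    · simp only [Bool.false_eq_true, if_false]
      change _ = (toFrame W).b (j, true)
      module
    · simp only [if_true]
      change _ = (toFrame W).b (j, false)
      module
  · rw [if_neg h, if_neg h, mul_zero, zero_smul, sub_zero]

include hG in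
theorem exists_swap : ∀ l : List (Fin (k + 1 + 2)), l.Nodup → ∃ g ∈ O Q,
    (∀ z, g ((toFrame W).b z) = (toFrame W).b (if z.1 ∈ l then neg z else z)) ∧ (Even l.length → g ∈ E Q) ∧
      (¬ Even l.length → ∀ v (hv : Q v ≠ 0), Q v = -1 → OrthCore.refl Q v hv * g ∈ E Q) := by
  intro l
  induction l with
  | nil =>
    intro _
    exact ⟨1, one_mem _, fun z => by simp, fun _ => one_mem _, fun h => absurd (by simp) h⟩
  | cons i l ih =>
    intro hl
    obtain ⟨hil, hl'⟩ := List.nodup_cons.1 hl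
    obtain ⟨g, hg, h1, h2, h3⟩ := ih hl'
    refine ⟨OrthCore.refl Q _ (Q_v_ne W i) * g, mul_mem (refl_mem_O _) hg, fun z => ?_, fun he => ?_,
      fun ho v hv hvv => ?_⟩
    · change OrthCore.refl Q _ (Q_v_ne W i) (g ((toFrame W).b z)) = _
      rw [h1, refl_v]
      congr 1
      by_cases hzi : z.1 = i
      · have h4 : z.1 ∉ l := by rw [hzi]; exact hil
        rw [if_neg h4, if_pos hzi, if_pos (by rw [hzi]; simp)]
      · by_cases hzl : z.1 ∈ l
        · rw [if_pos hzl, if_neg (show ¬ (neg z).1 = i from hzi), if_pos (by simp [hzl])]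
        · rw [if_neg hzl, if_neg hzi, if_neg (by simp [hzi, hzl])]
    · refine h3 ?_ _ (Q_v_ne W i) (Q_v W i)
      intro h4
      rw [List.length_cons, Nat.even_add_one] at he
      exact he h4
    · rw [List.length_cons, Nat.even_add_one, not_not] at ho
      rw [← mul_assoc]
      exact mul_mem (hG.refl_mul_refl_mem (Q_v_ne W i) hv (by rw [Q_v, hvv])) (h2 ho)

include hG in
theorem exists_sigma : ∃ g : E Q,
    (∀ i s, (g : V ≃ₗ[F] V) ((toFrame W).b (f k i, s)) = (toFrame W).b (f k i, !s)) ∧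
      ∀ s, ∃ s', (g : V ≃ₗ[F] V) ((toFrame W).b (Fin.last (k + 2), s)) = (toFrame W).b (Fin.last (k + 2), s') := by
  have hnd : ((List.finRange (k + 2)).map (f k)).Nodup := (List.nodup_finRange _).map (f_injective k)
  have hmem : ∀ i, f k i ∈ (List.finRange (k + 2)).map (f k) := fun i =>
    List.mem_map.2 ⟨i, List.mem_finRange i, rfl⟩
  have hlast : Fin.last (k + 2) ∉ (List.finRange (k + 2)).map (f k) := by
    intro h
    obtain ⟨i, -, hi⟩ := List.mem_map.1 h
    exact f_ne_last i hi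
  have hlen : ((List.finRange (k + 2)).map (f k)).length = k + 2 := by
    rw [List.length_map, List.length_finRange]
  by_cases he : Even (k + 2)
  · obtain ⟨g, -, h1, h2, -⟩ := exists_swap W hG _ hnd
    refine ⟨⟨g, h2 (by rw [hlen]; exact he)⟩, fun i s => ?_, fun s => ⟨s, ?_⟩⟩
    · change g _ = _
      rw [h1, if_pos (hmem i)]; rfl
    · change g _ = _
      rw [h1, if_neg hlast]
  · obtain ⟨g, -, h1, h2, -⟩ := exists_swap W hG (Fin.last (k + 2) :: (List.finRange (k + 2)).map (f k))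
      (List.nodup_cons.2 ⟨hlast, hnd⟩)
    refine ⟨⟨g, h2 (by rw [List.length_cons, hlen, Nat.even_add_one]; exact he)⟩, fun i s => ?_, fun s => ⟨!s, ?_⟩⟩
    · change g _ = _
      rw [h1, if_pos (List.mem_cons_of_mem _ (hmem i))]; rfl
    · change g _ = _
      rw [h1, if_pos (by simp)]; rfl

/-- the transposed inverse -/
def trInv (n : ℕ) (K : Type*) [Field K] : SpecialLinearGroup (Fin n) K →* SpecialLinearGroup (Fin n) K where
  toFun A := (tr A)⁻¹
  map_one' := by rw [tr_one, inv_one]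
  map_mul' A B := by rw [tr_mul, mul_inv_rev]

theorem trInv_tv {n : ℕ} {K : Type*} [Field K] {i j : Fin n} (hij : i ≠ j) (c : K) :
    trInv n K (SpecialLinearGroup.transvection hij c) = SpecialLinearGroup.transvection hij.symm (-c) := by
  change (tr (SpecialLinearGroup.transvection hij c))⁻¹ = _
  rw [inv_eq_iff_mul_eq_one]
  apply Subtype.ext
  change Matrix.transpose (1 + Matrix.single i j c) * (1 + Matrix.single j i (-c)) = 1
  rw [Matrix.transpose_add, Matrix.transpose_one, Matrix.transpose_single, mul_add, add_mul, add_mul,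
    Matrix.single_mul_single_of_ne _ _ _ _ hij]
  rw [mul_one, one_mul, mul_one, add_zero, add_assoc, ← Matrix.single_add]
  simp

theorem sigma_conj {g : E Q} (hg : ∀ i s, (g : V ≃ₗ[F] V) ((toFrame W).b (f k i, s)) = (toFrame W).b (f k i, !s))
    (A : SpecialLinearGroup (Fin (k + 2)) F) : g * phE W A * g⁻¹ = phE W ((tr A)⁻¹) := by
  refine phE_hom_ext W (f' := trInv (k + 2) F) (fun i j hij c => ?_) A
  have h1 := conj_X' W g.2 (ok_ff hij true false) (ok_ff hij false true) (l := 1) (m := 1)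
    (by rw [hg, one_smul]; rfl) (by rw [hg, one_smul]; rfl) c
  rw [h1, trInv_tv, phE_tv, Frame.X_swap _ (ok_ff hij false true), eta_one, eta_one]
  have e1 : (HO Q).ε = 1 := rfl
  have e2 : ∀ c, (HO Q).σ c = c := fun c => rfl
  rw [e1, e2]
  congr 1
  ring

/-! ### The block datum -/

theorem tv_mem_UT {n : ℕ} {K : Type*} [Field K] {i j : Fin n} (hij : i < j) (c : K) :
    SpecialLinearGroup.transvection hij.ne c ∈ UT n K := by
  rw [mem_UT]
  constructor
  · intro a b hab
    change (1 + Matrix.single i j c) a b = 0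
    rw [Matrix.add_apply, Matrix.one_apply_ne hab.ne', Matrix.single_apply_of_ne, add_zero]
    rintro ⟨rfl, rfl⟩
    exact absurd hab (not_lt.2 hij.le)
  · intro a
    change (1 + Matrix.single i j c) a a = 1
    rw [Matrix.add_apply, Matrix.one_apply_eq, Matrix.single_apply_of_ne, add_zero]
    rintro ⟨rfl, h⟩
    exact hij.ne h.symm

theorem tv_mem_LT {n : ℕ} {K : Type*} [Field K] {i j : Fin n} (hij : i < j) (c : K) :
    SpecialLinearGroup.transvection hij.ne' c ∈ LT n K := by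
  rw [mem_LT]
  constructor
  · intro a b hab
    change (1 + Matrix.single j i c) a b = 0
    rw [Matrix.add_apply, Matrix.one_apply_ne hab.ne, Matrix.single_apply_of_ne, add_zero]
    rintro ⟨rfl, rfl⟩
    exact absurd hab (not_lt.2 hij.le)
  · intro a
    change (1 + Matrix.single j i c) a a = 1
    rw [Matrix.add_apply, Matrix.one_apply_eq, Matrix.single_apply_of_ne, add_zero]
    rintro ⟨rfl, h⟩
    exact hij.ne h

theorem exists_root {Wc : Type*} [Group Wc] (cs : CoxeterSystem (TypeD.M (k + 1)) Wc) {i j : Fin (k + 2)}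
    (hij : i ≠ j) : ∃ x ∈ RootsJ cs (TypeD.isCartan (k + 1)) (J k), ee x = wt (f k i, true) + wt (f k j, false) := by
  obtain ⟨x, hx, e⟩ := TypeD.rt_of_ok (cs := cs) (a := (f k i, true)) (b := (f k j, false)) (ok_ff hij true false)
  exact ⟨x, ⟨hx, fun l hl => block_zero e l hl⟩, e⟩

include hG in
theorem blk (hV : ∀ w ∈ W.V0, w = 0) {Wc : Type*} [Group Wc] (cs : CoxeterSystem (TypeD.M (k + 1)) Wc) {b : Fˣ}
    (h1 : b * b ≠ 1) (h2 : (b * b) * (b * b) ≠ 1) :
    Blk cs (TypeD.isCartan (k + 1)) (OmegaPlus.T W) (OmegaPlus.X W) (J k) F k (s0 W hG b) (phE W) where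
  mem := s0_mem_T W hG b
  fix := nofix W hG cs h1 h2
  comm := s0_comm W hG b
  range A := by
    have h1 : (⊤ : Subgroup (SpecialLinearGroup (Fin (k + 2)) F)) ≤
        (LJ cs (TypeD.isCartan (k + 1)) (OmegaPlus.T W) (OmegaPlus.X W) (J k)).comap (phE W) := by
      rw [← Cfsg.Agent.LieClassical.SLGen.closure_transvections, Subgroup.closure_le]
      rintro _ ⟨i, j, hij, c, rfl⟩
      obtain ⟨x, hx, e⟩ := exists_root cs hij
      exact X_le_LJ hx ((mem_X_tv W hij e).2 ⟨c, rfl⟩)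
    exact h1 (Subgroup.mem_top A)
  up := by
    rintro r ⟨hr, h0, hJ⟩ g hg
    obtain ⟨a, c, hac, e⟩ := TypeD.exists_of_isRoot cs hr
    obtain ⟨i, j, hij, e'⟩ := exists_of_block hac e hJ
    obtain ⟨t, rfl⟩ := (mem_X_tv W hij e').1 hg
    exact ⟨_, tv_mem_UT (lt_of_pos hij e' h0) t, rfl⟩
  lo := by
    rintro r ⟨hr, h0, hJ⟩ g hg
    obtain ⟨a, c, hac, e⟩ := TypeD.exists_of_isRoot cs hr
    obtain ⟨i, j, hij, e'⟩ := exists_of_block hac e hJ
    have e2 : ee (-r) = wt (f k j, true) + wt (f k i, false) := by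
      rw [TypeD.ee_neg, e', show ((f k j, true) : Fin (k + 1 + 2) × Bool) = TypeC.ng (f k j, false) from rfl,
        show ((f k i, false) : Fin (k + 1 + 2) × Bool) = TypeC.ng (f k i, true) from rfl, TypeC.wt_ng, TypeC.wt_ng]
      abel
    obtain ⟨t, rfl⟩ := (mem_X_tv W hij.symm e2).1 hg
    exact ⟨_, tv_mem_LT (lt_of_pos hij e' h0) t, rfl⟩
  gl := gl_of_dd (n := k + 1) (s0_comm W hG b) fun d => ⟨yd W d, yd_s0 W hG hV b d, yd_conj W d⟩
  inv := by
    obtain ⟨g, hg, hg'⟩ := exists_sigma W hG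
    refine ⟨g, ?_, ?_⟩
    · have h3 : s0 W hG b * g * s0 W hG b = g := by
        apply ext_b' W hV
        rintro ⟨z, s⟩
        change ((s0 W hG b : E Q) : V ≃ₗ[F] V) ((g : V ≃ₗ[F] V) (((s0 W hG b : E Q) : V ≃ₗ[F] V)
          ((toFrame W).b (z, s)))) = (g : V ≃ₗ[F] V) ((toFrame W).b (z, s))
        rw [s0_b, map_smul, map_smul]
        rcases eq_last_or z with rfl | ⟨i, rfl⟩
        · obtain ⟨s', hs'⟩ := hg' s
          rw [hs', s0_b]
          unfold ch
          rw [if_pos rfl, if_pos rfl, Units.val_one, one_smul, one_smul]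
        · rw [hg, s0_b, smul_smul, ← Units.val_mul]
          have : ch b (f k i, s) * ch b (f k i, !s) = 1 := by
            unfold ch
            rw [if_neg (f_ne_last i), if_neg (f_ne_last i)]
            cases s <;> simp
          rw [this, Units.val_one, one_smul]
      have h4 : s0 W hG b * g = g * (s0 W hG b)⁻¹ := by
        rw [eq_mul_inv_iff_mul_eq]; exact h3
      calc g * s0 W hG b * g⁻¹ = (s0 W hG b)⁻¹ * (s0 W hG b * g * s0 W hG b) * g⁻¹ := by group
        _ = (s0 W hG b)⁻¹ := by rw [h3]; group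
    · obtain ⟨x, hx⟩ := exists_tr_inv (K := F) (n := k + 2) (by omega)
      exact ⟨x, by rw [sigma_conj W hg, hx]⟩

end Block

/-! ### The theorem -/

section Main

variable {F : Type*} [Field F] [Fintype F]

theorem exists_unit (hF : 9 ≤ Fintype.card F) : ∃ b : Fˣ, b * b ≠ 1 ∧ (b * b) * (b * b) ≠ 1 := by
  classical
  obtain ⟨g, hg⟩ := IsCyclic.exists_generator (α := Fˣ)
  have h1 : orderOf g = Fintype.card F - 1 := by
    rw [orderOf_eq_card_of_forall_mem_zpowers hg, Nat.card_eq_fintype_card, Fintype.card_units]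
  have h4 : (g * g) * (g * g) ≠ 1 := by
    intro h
    have h2 : g ^ 4 = 1 := by
      rw [← h, pow_succ, pow_succ, pow_two, mul_assoc]
    have h3 := orderOf_le_of_pow_eq_one (by norm_num) h2
    omega
  refine ⟨g, fun h => h4 (by rw [h, one_mul]), h4⟩

theorem square_pplus (hF : 9 ≤ Fintype.card F) (m : ℕ) (hm : 4 ≤ m) :
    ∃ c : Cfsg.POmega F (Cfsg.quadFormPlus m F), ∀ g, ∃ x y, g = (x * c * x⁻¹) * (y * c * y⁻¹) := by
  obtain ⟨k, rfl⟩ : ∃ k, m = k + 1 + 2 := ⟨m - 3, by omega⟩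
  have hsimple : IsSimpleGroup (Cfsg.POmega F (Cfsg.quadFormPlus (k + 1 + 2) F)) := Cfsg.Agent.S0296.result _ hm
  rw [← coe_plusForm] at hsimple ⊢
  have hG : Good (plusForm (k + 1 + 2) F) := by
    apply good_of_finite (nondeg_plusForm (k + 1 + 2) F)
    rw [Module.finrank_fintype_fun_eq_card, Fintype.card_sum, Fintype.card_fin]
    omega
  obtain ⟨p, hp⟩ := CharP.exists F
  have hpp : Fact p.Prime := ⟨CharP.char_is_prime F p⟩
  let W := WittInst.wplus (k + 1 + 2) F
  have h0 : ∀ q : (toFrame W).Adm, q = 1 := WittInst.adm_plus (k + 1 + 2)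
  have hV : ∀ w ∈ W.V0, w = 0 := fun w hw => V0_eq W h0 hw
  have hA : Amb (toFrame W) (E (plusForm (k + 1 + 2) F)) := WittInst.amb_plus (k + 1 + 2)
  let cs := (TypeD.M (k + 1)).toCoxeterSystem
  have hfinV : Finite ((Fin (k + 1 + 2) ⊕ Fin (k + 1 + 2) → F) ≃ₗ[F] (Fin (k + 1 + 2) ⊕ Fin (k + 1 + 2) → F)) :=
    Finite.of_injective (fun g => (g : (Fin (k + 1 + 2) ⊕ Fin (k + 1 + 2) → F) → (Fin (k + 1 + 2) ⊕ Fin (k + 1 + 2) → F)))
      DFunLike.coe_injective
  have hfinW := TypeD.finite_W cs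
  have R : RGD cs (TypeD.isCartan (k + 1)) p (OmegaPlus.T W)
      (fun i => ⟨WittRGDD.nn (toFrame W) i, WittRGDD.nn_mem hA i⟩) (OmegaPlus.X W) :=
    rgd_restrict (WittAll.rgdD hA h0 cs) (E (plusForm (k + 1 + 2) F)) (fun x _ => OmegaPlus.rg_le W x)
      (fun i => WittRGDD.nn_mem hA i)
  have hG1 : G1 cs (TypeD.isCartan (k + 1)) (OmegaPlus.X W) = ⊤ := by
    have h1 := WittInst.G1D_eq_top W (MonoidHom.id (E (plusForm (k + 1 + 2) F))) Function.surjective_id h0 cs
    have h2 : WittInst.XD W (MonoidHom.id (E (plusForm (k + 1 + 2) F))) = OmegaPlus.X W := by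
      funext x
      exact Subgroup.map_id _
    rwa [h2] at h1
  obtain ⟨b, hb1, hb2⟩ := exists_unit hF
  have D := blk W hG hV cs hb1 hb2
  have hK : (4 : Cardinal) ≤ Cardinal.mk F := by
    rw [Cardinal.mk_fintype]
    exact_mod_cast (by omega : 4 ≤ Fintype.card F)
  exact square R (toPOmega hG) (toPOmega_surjective hG) (WittInst.ker_toPOmega hG)
    (c₀ := s0 W hG b * phE W (JS (k + 2) F))
    fun g hg => main R hG1 (OmegaPlus.coord W) (Chart.Ty.irrD (k + 1) (by omega)) hK D hg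

end Main

end Cfsg.Agent.H12.SquarePlus
end

-- part: S2523
section
set_option autoImplicit false
open Cfsg

namespace Cfsg.Agent.S2523

theorem transfer {G H : Type*} [Group G] [Group H] (e : G ≃* H)
    (h : ∃ c : H, ∀ g : H, ∃ x y : H, g = (x * c * x⁻¹) * (y * c * y⁻¹)) :
    ∃ c : G, ∀ g : G, ∃ x y : G, g = (x * c * x⁻¹) * (y * c * y⁻¹) := by
  obtain ⟨c, hc⟩ := h
  refine ⟨e.symm c, fun g => ?_⟩
  obtain ⟨x, y, hxy⟩ := hc (e g)
  refine ⟨e.symm x, e.symm y, ?_⟩
  apply e.injective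
  simp only [map_mul, map_inv, MulEquiv.apply_symm_apply]
  exact hxy

/-- Let F be a finite field with at least 9 elements and let G be one of PSL(n, F) (n ≥ 2), PSp(2m, F) (m ≥ 2), PΩ(2m+1, F) (m ≥ 3, here q odd), PΩ⁺(2m, F) (m ≥ 4), or the Chevalley group of type G₂, F₄, E₆, E₇ or E₈ over F. Then G is the square of one of its conjugacy classes (Thompson's conjecture on products of conjugacy classes, not his conjecture on class sizes): there is a conjugacy class C of G with C·C = G, i.e. every element of G is a product of two elements of C. -/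
theorem result {F : Type*} [Field F] [Fintype F] (hF : 9 ≤ Fintype.card F) {G : Type*} [Group G] [Finite G]
    (hG : (∃ n : ℕ, 2 ≤ n ∧ Nonempty (G ≃* Matrix.ProjectiveSpecialLinearGroup (Fin n) F)) ∨
      (∃ m : ℕ, 2 ≤ m ∧ Nonempty (G ≃* Cfsg.PSp m F)) ∨
      (∃ m : ℕ, 3 ≤ m ∧ Odd (Fintype.card F) ∧ Nonempty (G ≃* Cfsg.POmega F (Cfsg.quadFormOdd m F))) ∨
      (∃ m : ℕ, 4 ≤ m ∧ Nonempty (G ≃* Cfsg.POmega F (Cfsg.quadFormPlus m F))) ∨
      Nonempty (G ≃* ↥(Cfsg.Lie.chevG2.group F)) ∨ Nonempty (G ≃* ↥(Cfsg.Lie.chevF4.group F)) ∨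
      Nonempty (G ≃* ↥(Cfsg.Lie.chevE6.group F)) ∨ Nonempty (G ≃* ↥(Cfsg.Lie.chevE7.group F)) ∨ Nonempty (G ≃* ↥(Cfsg.Lie.chevE8.group F))) :
    ∃ c : G, ∀ g : G, ∃ x y : G, g = (x * c * x⁻¹) * (y * c * y⁻¹) := by
  rcases hG with ⟨n, hn, ⟨e⟩⟩ | ⟨m, hm, ⟨e⟩⟩ | ⟨m, hm, ho, ⟨e⟩⟩ | ⟨m, hm, ⟨e⟩⟩ | ⟨⟨e⟩⟩ | ⟨⟨e⟩⟩ | ⟨⟨e⟩⟩ | ⟨⟨e⟩⟩ | ⟨⟨e⟩⟩
  · exact transfer e (H162.GaussPSL.square_psl hF hn)
  · exact transfer e (H156.SqPSp.square_psp hF m hm)
  · exact transfer e (H156.SqPOdd.square_podd hF ho m hm)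
  · exact transfer e (H12.SquarePlus.square_pplus hF m hm)
  · exact transfer e (H162.GaussExcMain.square_G2 hF)
  · exact transfer e (H162.GaussExcMain.square_F4 hF)
  · exact transfer e (H162.GaussExcMain.square_E6 hF)
  · exact transfer e (H162.GaussExcMain.square_E7 hF)
  · exact transfer e (H162.GaussExcMain.square_E8 hF)

end Cfsg.Agent.S2523
end
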