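import Cfsg.Agent.H188.ModW
import Cfsg.Statements.S2650
set_option linter.all false

-- part: H188/Park
section
/-!
# A Parker cocycle on the code words vanishing at `none` (helper188)

`th a b` is linear in `b`, `th (a + b) c = th a c + th b c + |a ∩ b ∩ c|` and `th a a = |a| / 4`.
-/

set_option autoImplicit false

namespace Cfsg.Agent.H188.Park

open Cfsg Cfsg.Agent.SporadicA.GolayBase Cfsg.Agent.SporadicA.GolayPerm
open Cfsg.Agent.H188.Lin Cfsg.Agent.H188.Tab Cfsg.Agent.H188.Setup Cfsg.Agent.H188.Words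
open Cfsg.Agent.H188.ModV Cfsg.Agent.H188.ModW

/-- Words of length 24. -/
abbrev WW : Type := GolayPt → ZMod 2

/-- The scalar product. -/
def dt (u v : WW) : ZMod 2 := ∑ p, u p * v p

theorem dt_add_left (u v w : WW) : dt (u + v) w = dt u w + dt v w := by
  unfold dt
  rw [← Finset.sum_add_distrib]
  exact Finset.sum_congr rfl fun p _ => by rw [Pi.add_apply, add_mul]

theorem dt_comm (u v : WW) : dt u v = dt v u := by
  unfold dt
  exact Finset.sum_congr rfl fun p _ => mul_comm _ _

theorem dt_add_right (u v w : WW) : dt u (v + w) = dt u v + dt u w := by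
  rw [dt_comm, dt_add_left, dt_comm v, dt_comm w]

theorem dt_zero_right (u : WW) : dt u 0 = 0 := by
  unfold dt
  exact Finset.sum_eq_zero fun p _ => by rw [Pi.zero_apply, mul_zero]

theorem dt_perm (σ : Equiv.Perm GolayPt) (u v : WW) : dt (u ∘ ⇑σ⁻¹) (v ∘ ⇑σ⁻¹) = dt u v := by
  unfold dt
  exact Equiv.sum_comp σ⁻¹ fun p => u p * v p

theorem word_and (m n : ℕ) : word (m &&& n) = word m * word n := by
  funext p
  rw [Pi.mul_apply, word_apply, word_apply, word_apply, Nat.testBit_and]
  cases m.testBit (idx p) <;> cases n.testBit (idx p) <;> decide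

theorem dt_word (m n : ℕ) : dt (word m) (word n) = ((popcount (m &&& n) : ℕ) : ZMod 2) := by
  have h : ∀ p, word m p * word n p = if p ∈ fin (m &&& n) then 1 else 0 := by
    intro p
    rw [← Pi.mul_apply, ← word_and, word_apply]
    simp only [mem_fin]
  unfold dt
  rw [Finset.sum_congr rfl fun p _ => h p, Finset.sum_boole, ← card_fin]
  congr 2
  ext p
  simp

theorem two_eq {x y : ZMod 2} (h : x + y = 0) : x = y := by
  revert x y; decide

theorem add_self (x : ZMod 2) : x + x = 0 := by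
  revert x; decide

theorem mul_self' (x : ZMod 2) : x * x = x := by
  revert x; decide

theorem dt_code {u v : WW} (hu : u ∈ golayCode) (hv : v ∈ golayCode) : dt u v = 0 := by
  rw [← word_maskW u, ← word_maskW v, dt_word]
  have hu' : fin (maskW u) ∈ supports (golayCode : Set WW) := by
    rw [fin_mem_supports_iff (maskW_lt _)]
    exact (mem_golayCode_iff u).1 hu
  have hv' : fin (maskW v) ∈ supports (golayCode : Set WW) := by
    rw [fin_mem_supports_iff (maskW_lt _)]
    exact (mem_golayCode_iff v).1 hv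
  have h1 := card_symmDiff_add (fin (maskW u)) (fin (maskW v))
  have h2 := card_of_mem_supports hu'
  have h3 := card_of_mem_supports hv'
  have h4 := card_of_mem_supports (symmDiff_mem_supports hu' hv')
  rw [← fin_and, card_fin (maskW u &&& maskW v)] at h1
  have h5 : popcount (maskW u &&& maskW v) % 2 = 0 := by omega
  rw [ZMod.natCast_eq_zero_iff]
  exact Nat.dvd_of_mod_eq_zero h5

/-- The code words vanishing at `none`. -/
def VS : Submodule (ZMod 2) WW := golayCode ⊓ LinearMap.ker (LinearMap.proj (R := ZMod 2) (φ := fun _ : GolayPt => ZMod 2) none)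

theorem mem_VS {w : WW} : w ∈ VS ↔ w ∈ golayCode ∧ w none = 0 := Iff.rfl

/-! ### The cocycle -/

/-- The functionals. -/
def fl : List ℕ := [0, 0, 0, 0, 1972, 0, 493, 435, 797, 0, 1355]

/-- The quadratic map. -/
def thr : List ℕ → List ℕ → ℕ → ℕ
  | f :: fs, b :: bs, a => (a % 2 * (f ^^^ (b &&& linc bs (a / 2)))) ^^^ thr fs bs (a / 2)
  | _, _, _ => 0

/-- The diagonal part of the product. -/
def diagR : List ℕ → ℕ → ℕ → ℕ
  | [], _, _ => 0
  | b :: bs, a, a' => (a % 2 * (a' % 2) * b) ^^^ diagR bs (a / 2) (a' / 2)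

theorem and_xor (x y z : ℕ) : x &&& (y ^^^ z) = (x &&& y) ^^^ (x &&& z) := by
  apply Nat.eq_of_testBit_eq
  intro i
  simp only [Nat.testBit_and, Nat.testBit_xor]
  cases x.testBit i <;> cases y.testBit i <;> cases z.testBit i <;> rfl

theorem xor_and (x y z : ℕ) : (x ^^^ y) &&& z = (x &&& z) ^^^ (y &&& z) := by
  rw [Nat.and_comm, and_xor, Nat.and_comm z x, Nat.and_comm z y]

theorem thr_xor : ∀ (fs bs : List ℕ) (a a' : ℕ), fs.length = bs.length →
    thr fs bs (a ^^^ a') ^^^ thr fs bs a ^^^ thr fs bs a' ^^^ (linc bs a &&& linc bs a') = diagR bs a a'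
  | [], [], _, _, _ => by
    show 0 ^^^ 0 ^^^ 0 ^^^ (0 &&& 0) = 0
    decide
  | f :: fs, b :: bs, a, a', h => by
    have ih := thr_xor fs bs (a / 2) (a' / 2) (by simpa using h)
    show ((a ^^^ a') % 2 * (f ^^^ (b &&& linc bs ((a ^^^ a') / 2)))) ^^^ thr fs bs ((a ^^^ a') / 2) ^^^
      ((a % 2 * (f ^^^ (b &&& linc bs (a / 2)))) ^^^ thr fs bs (a / 2)) ^^^
      ((a' % 2 * (f ^^^ (b &&& linc bs (a' / 2)))) ^^^ thr fs bs (a' / 2)) ^^^
      (((a % 2 * b) ^^^ linc bs (a / 2)) &&& ((a' % 2 * b) ^^^ linc bs (a' / 2))) =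
      (a % 2 * (a' % 2) * b) ^^^ diagR bs (a / 2) (a' / 2)
    rw [xor_div_two, xor_mod_two, linc_xor, ← ih]
    have hx : a % 2 < 2 := Nat.mod_lt _ (by norm_num)
    have hy : a' % 2 < 2 := Nat.mod_lt _ (by norm_num)
    generalize linc bs (a / 2) = L
    generalize linc bs (a' / 2) = L'
    generalize thr fs bs (a / 2 ^^^ a' / 2) = t0
    generalize thr fs bs (a / 2) = t1
    generalize thr fs bs (a' / 2) = t2
    interval_cases a % 2 <;> interval_cases a' % 2
    · simp
    · simp only [Nat.zero_xor, one_mul, zero_mul, and_xor, xor_and]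
      apply Nat.eq_of_testBit_eq
      intro i
      simp only [Nat.testBit_and, Nat.testBit_xor]
      cases f.testBit i <;> cases b.testBit i <;> cases L.testBit i <;> cases L'.testBit i <;>
        cases t0.testBit i <;> cases t1.testBit i <;> cases t2.testBit i <;> rfl
    · simp only [Nat.xor_zero, Nat.zero_xor, one_mul, zero_mul, mul_zero, and_xor, xor_and]
      apply Nat.eq_of_testBit_eq
      intro i
      simp only [Nat.testBit_and, Nat.testBit_xor]
      cases f.testBit i <;> cases b.testBit i <;> cases L.testBit i <;> cases L'.testBit i <;>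
        cases t0.testBit i <;> cases t1.testBit i <;> cases t2.testBit i <;> rfl
    · simp only [Nat.xor_self, one_mul, zero_mul, and_xor, xor_and, Nat.zero_xor]
      apply Nat.eq_of_testBit_eq
      intro i
      simp only [Nat.testBit_and, Nat.testBit_xor]
      cases f.testBit i <;> cases b.testBit i <;> cases L.testBit i <;> cases L'.testBit i <;>
        cases t0.testBit i <;> cases t1.testBit i <;> cases t2.testBit i <;> rfl
  | [], _ :: _, _, _, h => by simp at h
  | _ :: _, [], _, _, h => by simp at h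

theorem diagR_code : ∀ (bs : List ℕ) (a a' : ℕ), (∀ b ∈ bs, isCode b = true) →
    isCode (diagR bs a a') = true
  | [], _, _, _ => isCode_zero
  | b :: bs, a, a', h => by
    unfold diagR
    refine isCode_xor ?_ (diagR_code bs _ _ fun x hx => h x (List.mem_cons_of_mem _ hx))
    have hx : a % 2 < 2 := Nat.mod_lt _ (by norm_num)
    have hy : a' % 2 < 2 := Nat.mod_lt _ (by norm_num)
    have hb := h b List.mem_cons_self
    interval_cases a % 2 <;> interval_cases a' % 2
    · rw [zero_mul, zero_mul]; exact isCode_zero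
    · rw [zero_mul, zero_mul]; exact isCode_zero
    · rw [mul_zero, zero_mul]; exact isCode_zero
    · rw [one_mul, one_mul]; exact hb

/-- The coordinates of a word. -/
def crd (v : WW) : ℕ := crdV (maskW v)

theorem enc_crd {v : WW} (hv : v ∈ VS) : encV (crd v) = maskW v := by
  obtain ⟨h1, h2⟩ := mem_VS.1 hv
  rw [mem_golayCode_iff] at h1
  obtain ⟨i, hi, h4⟩ := isCode_iff_exists.1 h1
  have h5 := encV_surj_aux i hi
  rw [Bool.or_eq_true] at h5
  unfold crd
  rcases h5 with h5 | h5
  · exfalso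
    have h6 : (maskW v).testBit (idx none) = true := by
      rw [h4]
      show (enc i).testBit 23 = true
      rw [Nat.testBit_eq_decide_div_mod_eq, ← Nat.shiftRight_eq_div_pow, Nat.eq_of_beq_eq_true h5]
      rfl
    rw [testBit_maskW, h2] at h6
    simp at h6
  · rw [h4]
    exact Nat.eq_of_beq_eq_true h5

theorem crd_lt (v : WW) : crd v < 2048 := crdV_lt _

theorem crd_add {u v : WW} (hu : u ∈ VS) (hv : v ∈ VS) : crd (u + v) = crd u ^^^ crd v := by
  have h1 : encV (crd (u + v)) = encV (crd u ^^^ crd v) := by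
    rw [enc_crd (VS.add_mem hu hv), encV_xor, enc_crd hu, enc_crd hv, maskW_add]
  have h2 := Nat.eq_of_beq_eq_true (encV_inj_aux _ (crd_lt (u + v)))
  have h3 := Nat.eq_of_beq_eq_true (encV_inj_aux (crd u ^^^ crd v)
    (Nat.xor_lt_two_pow (n := 11) (crd_lt u) (crd_lt v)))
  rw [← h2, h1, h3]

/-- The quadratic map on words. -/
def Th (v : WW) : WW := word (thr fl Vb (crd v))

theorem Vb_code : ∀ b ∈ Vb, isCode b = true := by
  have h : (Vb.all isCode) = true := by decide +kernel
  exact List.all_eq_true.1 h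

theorem Th_add {u v : WW} (hu : u ∈ VS) (hv : v ∈ VS) :
    ∃ r ∈ golayCode, Th (u + v) + Th u + Th v + u * v = r := by
  refine ⟨word (diagR Vb (crd u) (crd v)), ?_, ?_⟩
  · have h := diagR_code Vb (crd u) (crd v) Vb_code
    rw [mem_golayCode_iff, maskW_word (isCode_lt h)]
    exact h
  · have h1 : u * v = word (linc Vb (crd u) &&& linc Vb (crd v)) := by
      rw [word_and]
      have h2 : linc Vb (crd u) = maskW u := enc_crd hu
      have h3 : linc Vb (crd v) = maskW v := enc_crd hv
      rw [h2, h3, word_maskW, word_maskW]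
    rw [← thr_xor fl Vb (crd u) (crd v) rfl, word_xor, word_xor, word_xor, h1, ← crd_add hu hv]
    rfl

/-- The cocycle. -/
def th (u v : WW) : ZMod 2 := dt (Th u) v

theorem th_add_right (u v w : WW) : th u (v + w) = th u v + th u w := dt_add_right _ _ _

theorem th_add_left {u v w : WW} (hu : u ∈ VS) (hv : v ∈ VS) (hw : w ∈ VS) :
    th (u + v) w = th u w + th v w + dt (u * v) w := by
  obtain ⟨r, hr, h⟩ := Th_add hu hv
  have h1 : dt (Th (u + v) + Th u + Th v + u * v) w = 0 := by
    rw [h]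
    exact dt_code hr (mem_VS.1 hw).1
  rw [dt_add_left, dt_add_left, dt_add_left] at h1
  unfold th
  have : ∀ a b c d : ZMod 2, a + b + c + d = 0 → a = b + c + d := by decide
  exact this _ _ _ _ h1

/-- A quarter of the weight. -/
def om (v : WW) : ZMod 2 := (((support₂ v).card / 4 : ℕ) : ZMod 2)

theorem diag_check : ∀ a, a < 2 ^ 11 →
    Nat.beq (popcount (thr fl Vb a &&& encV a) % 2) ((popcount (encV a) / 4) % 2) = true := by
  apply allR_zero_spec
  decide +kernel

theorem th_diag {v : WW} (hv : v ∈ VS) : th v v = om v := by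
  have h1 : v = word (encV (crd v)) := by rw [enc_crd hv, word_maskW]
  have h2 := Nat.eq_of_beq_eq_true (diag_check (crd v) (crd_lt v))
  have h3 : th v v = dt (word (thr fl Vb (crd v))) (word (encV (crd v))) := by
    rw [← h1]; rfl
  rw [h3, dt_word]
  unfold om
  rw [card_eq_popcount, maskOf_support₂, ← enc_crd hv]
  exact (ZMod.natCast_eq_natCast_iff' _ _ 2).2 h2

theorem dt_mul_self (u v : WW) : dt (u * v) u = dt u v := by
  unfold dt
  refine Finset.sum_congr rfl fun p _ => ?_
  rw [Pi.mul_apply, mul_assoc, mul_comm (v p), ← mul_assoc, mul_self']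

theorem dt_mul_self' (u v : WW) : dt (u * v) v = dt u v := by
  unfold dt
  refine Finset.sum_congr rfl fun p _ => ?_
  rw [Pi.mul_apply, mul_assoc, mul_self']

theorem th_symm {u v : WW} (hu : u ∈ VS) (hv : v ∈ VS) :
    th u v + th v u = om (u + v) + om u + om v := by
  have h1 := th_diag (VS.add_mem hu hv)
  rw [th_add_left hu hv (VS.add_mem hu hv), th_add_right, th_add_right, dt_add_right,
    dt_mul_self, dt_mul_self', add_self, th_diag hu, th_diag hv] at h1
  rw [← h1]
  have : ∀ a b c d : ZMod 2, a + b = c + a + (b + d) + 0 + c + d := by decide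
  exact this _ _ _ _

end Cfsg.Agent.H188.Park
end

-- part: H188/ParkGrp
section
/-!
# The extension `2 ^ 11 · M23` from the Parker cocycle (helper188)
-/

set_option autoImplicit false

namespace Cfsg.Agent.H188.ParkGrp

open Cfsg Cfsg.Agent.SporadicA.GolayBase Cfsg.Agent.SporadicA.GolayPerm
open Cfsg.Agent.H188.Lin Cfsg.Agent.H188.Tab Cfsg.Agent.H188.Words
open Cfsg.Agent.H188.ModV Cfsg.Agent.H188.ModW Cfsg.Agent.H188.Park

theorem mv_mem (s : Spor.M23) {v : WW} (hv : v ∈ VS) : v ∘ ⇑((s : Equiv.Perm GolayPt)⁻¹) ∈ VS := by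
  obtain ⟨h1, h2⟩ := mem_VS.1 hv
  refine mem_VS.2 ⟨(mem_M24_iff_comp_mem (s : Equiv.Perm GolayPt)).1 s.2.1 v h1, ?_⟩
  have h3 : (s : Equiv.Perm GolayPt) none = none := s.2.2
  have h4 : ((s : Equiv.Perm GolayPt)⁻¹) none = none := by
    conv_lhs => rw [← h3]
    exact Equiv.symm_apply_apply _ _
  show v (((s : Equiv.Perm GolayPt)⁻¹) none) = 0
  rw [h4]
  exact h2

/-- The action on words. -/
def mv (s : Spor.M23) (v : VS) : VS := ⟨(v : WW) ∘ ⇑((s : Equiv.Perm GolayPt)⁻¹), mv_mem s v.2⟩

theorem mv_one (v : VS) : mv 1 v = v := rfl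

theorem mv_mul (s t : Spor.M23) (v : VS) : mv (s * t) v = mv s (mv t v) := by
  apply Subtype.ext
  show (v : WW) ∘ ⇑(((s * t : Spor.M23) : Equiv.Perm GolayPt)⁻¹) = _
  rw [Subgroup.coe_mul, mul_inv_rev]
  rfl

theorem mv_add (s : Spor.M23) (u v : VS) : mv s (u + v) = mv s u + mv s v := rfl

theorem mv_inv_mv (s : Spor.M23) (v : VS) : mv s⁻¹ (mv s v) = v := by
  rw [← mv_mul, inv_mul_cancel, mv_one]

theorem mv_mv_inv (s : Spor.M23) (v : VS) : mv s (mv s⁻¹ v) = v := by
  rw [← mv_mul, mul_inv_cancel, mv_one]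

open scoped Pointwise in
theorem om_mv (s : Spor.M23) (v : VS) : om (mv s v : WW) = om (v : WW) := by
  have h1 : support₂ (mv s v : WW) = (s : Equiv.Perm GolayPt) • support₂ (v : WW) :=
    (smul_support₂ (s : Equiv.Perm GolayPt) (v : WW)).symm
  unfold om
  rw [h1, Finset.card_smul_finset]

theorem dt_mv (s : Spor.M23) (u v w : VS) :
    dt ((mv s u : WW) * (mv s v : WW)) (mv s w : WW) = dt ((u : WW) * (v : WW)) (w : WW) :=
  dt_perm (s : Equiv.Perm GolayPt) ((u : WW) * (v : WW)) (w : WW)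

/-- The cocycle on `VS`. -/
def tv (u v : VS) : ZMod 2 := th u v

theorem tv_add_right (u v w : VS) : tv u (v + w) = tv u v + tv u w := th_add_right _ _ _

theorem tv_add_left (u v w : VS) :
    tv (u + v) w = tv u w + tv v w + dt ((u : WW) * (v : WW)) (w : WW) := th_add_left u.2 v.2 w.2

theorem tv_symm (u v : VS) : tv u v + tv v u = om ((u + v : VS) : WW) + om (u : WW) + om (v : WW) :=
  th_symm u.2 v.2

theorem tv_diag (u : VS) : tv u u = om (u : WW) := th_diag u.2

/-- The coboundary condition. -/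
def dl (s : Spor.M23) (u v : VS) : ZMod 2 := tv (mv s u) (mv s v) + tv u v

theorem dl_symm (s : Spor.M23) (u v : VS) : dl s u v = dl s v u := by
  unfold dl
  have h1 := tv_symm (mv s u) (mv s v)
  have h2 := tv_symm u v
  rw [← mv_add, om_mv, om_mv, om_mv, ← h2] at h1
  have : ∀ a b c d : ZMod 2, a + b = c + d → a + c = b + d := by decide
  exact this _ _ _ _ h1

theorem dl_diag (s : Spor.M23) (u : VS) : dl s u u = 0 := by
  unfold dl
  rw [tv_diag, tv_diag, om_mv, add_self]

theorem dl_cocycle (s : Spor.M23) (u v w : VS) :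
    dl s u v + dl s (u + v) w = dl s v w + dl s u (v + w) := by
  unfold dl
  rw [mv_add, mv_add, tv_add_left, tv_add_left, tv_add_right, tv_add_right, dt_mv]
  have : ∀ a b c d e f g : ZMod 2, a + b + (c + d + e + (f + g + e)) = d + g + (a + c + (b + f)) := by
    decide
  exact this _ _ _ _ _ _ _

/-- The elements of the extension. -/
@[ext] structure PE : Type where
  s : Spor.M23
  q : VS → ZMod 2
  h : ∀ u v : VS, q (u + v) = q u + q v + dl s u v

namespace PE

theorem dl_one (u v : VS) : dl 1 u v = 0 := by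
  unfold dl
  rw [mv_one, mv_one, add_self]

theorem dl_mul (s t : Spor.M23) (u v : VS) : dl (s * t) u v = dl s (mv t u) (mv t v) + dl t u v := by
  unfold dl
  rw [mv_mul, mv_mul]
  have : ∀ a b c : ZMod 2, a + c = a + b + (b + c) := by decide
  exact this _ _ _

instance instMulPE : Mul PE where
  mul x y := ⟨x.s * y.s, fun v => y.q v + x.q (mv y.s v), fun u v => by
    rw [mv_add, x.h, y.h, dl_mul]
    ring⟩

instance instOnePE : One PE where
  one := ⟨1, fun _ => 0, fun u v => by rw [dl_one]; decide⟩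

instance instInvPE : Inv PE where
  inv x := ⟨x.s⁻¹, fun v => x.q (mv x.s⁻¹ v), fun u v => by
    have h1 := dl_mul x.s x.s⁻¹ u v
    rw [mul_inv_cancel, dl_one] at h1
    have h2 : dl x.s (mv x.s⁻¹ u) (mv x.s⁻¹ v) = dl x.s⁻¹ u v := two_eq h1.symm
    rw [mv_add, x.h, h2]⟩

theorem mul_s (x y : PE) : (x * y).s = x.s * y.s := rfl
theorem mul_q (x y : PE) (v : VS) : (x * y).q v = y.q v + x.q (mv y.s v) := rfl
theorem one_s : (1 : PE).s = 1 := rfl
theorem one_q (v : VS) : (1 : PE).q v = 0 := rfl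
theorem inv_s (x : PE) : (x⁻¹).s = x.s⁻¹ := rfl
theorem inv_q (x : PE) (v : VS) : (x⁻¹).q v = x.q (mv x.s⁻¹ v) := rfl

instance instGroupPE : Group PE where
  mul_assoc x y z := by
    apply PE.ext
    · exact mul_assoc _ _ _
    · funext v
      simp only [mul_q, mul_s, mv_mul]
      ring
  one_mul x := by
    apply PE.ext
    · exact one_mul _
    · funext v
      rw [mul_q, one_q, add_zero]
  mul_one x := by
    apply PE.ext
    · exact mul_one _
    · funext v
      rw [mul_q, one_q, one_s, mv_one, zero_add]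
  inv_mul_cancel x := by
    apply PE.ext
    · exact inv_mul_cancel _
    · funext v
      rw [mul_q, inv_q, mv_inv_mv, one_q, add_self]

/-- The projection. -/
def pr : PE →* Spor.M23 where
  toFun := PE.s
  map_one' := rfl
  map_mul' _ _ := rfl

theorem pr_apply (x : PE) : pr x = x.s := rfl

instance instFinitePE : Finite PE := by
  have : Function.Injective (fun x : PE => (x.s, x.q)) := by
    intro x y h
    exact PE.ext (congrArg Prod.fst h) (congrArg Prod.snd h)
  exact Finite.of_injective _ this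

end PE

/-! ### The projection is onto -/

/-- The elementary abelian extension given by a symmetric cocycle. -/
@[ext] structure Tw (s : Spor.M23) : Type where
  v : VS
  x : ZMod 2

namespace Tw

variable {s : Spor.M23}

theorem dl_zero (u : VS) : dl s u 0 = 0 := by
  have h := dl_cocycle s u 0 0
  rw [add_zero, add_zero, dl_diag s 0] at h
  have h2 := dl_cocycle s 0 0 u
  rw [add_zero, dl_diag s 0, zero_add, zero_add] at h2
  have h3 := dl_cocycle s u 0 u
  rw [add_zero, zero_add, dl_diag, dl_symm s 0 u] at h3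
  have : ∀ a : ZMod 2, a + 0 = a + 0 → True := by decide
  -- `dl s u 0 = dl s 0 0` from the cocycle identity
  have h4 : dl s u 0 + dl s (u + 0) 0 = dl s 0 0 + dl s u (0 + 0) := dl_cocycle s u 0 0
  rw [add_zero, add_zero, dl_diag s 0, zero_add] at h4
  have : ∀ a : ZMod 2, a + a = a → a = 0 := by decide
  exact this _ h4

instance instAddTw : Add (Tw s) := ⟨fun a b => ⟨a.v + b.v, a.x + b.x + dl s a.v b.v⟩⟩
instance instZeroTw : Zero (Tw s) := ⟨⟨0, 0⟩⟩
instance instNegTw : Neg (Tw s) := ⟨fun a => a⟩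

theorem add_v (a b : Tw s) : (a + b).v = a.v + b.v := rfl
theorem add_x (a b : Tw s) : (a + b).x = a.x + b.x + dl s a.v b.v := rfl
theorem zero_v : (0 : Tw s).v = 0 := rfl
theorem zero_x : (0 : Tw s).x = 0 := rfl

theorem VS_add_self (v : VS) : v + v = 0 := by
  apply Subtype.ext
  funext p
  exact add_self _

theorem neg_add (a : Tw s) : -a + a = 0 := by
  show a + a = 0
  apply Tw.ext
  · rw [add_v, VS_add_self]; rfl
  · rw [add_x, dl_diag, add_self, add_zero]; rfl

theorem add_assoc' (a b c : Tw s) : a + b + c = a + (b + c) := by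
  apply Tw.ext
  · simp only [add_v, add_assoc]
  · simp only [add_v, add_x]
    have h := dl_cocycle s a.v b.v c.v
    have : ∀ a b c d e f g : ZMod 2, d + e = f + g → a + b + d + c + e = a + (b + c + f) + g := by
      decide
    exact this _ _ _ _ _ _ _ h

theorem add_comm' (a b : Tw s) : a + b = b + a := by
  apply Tw.ext
  · simp only [add_v, add_comm]
  · simp only [add_x]
    rw [dl_symm s, add_comm a.x]

instance instAddCommGroupTw : AddCommGroup (Tw s) where
  add_assoc := add_assoc'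
  zero_add a := by
    apply Tw.ext
    · rw [add_v, zero_v, zero_add]
    · rw [add_x, zero_x, zero_v, dl_symm, dl_zero, zero_add, add_zero]
  add_zero a := by
    apply Tw.ext
    · rw [add_v, zero_v, add_zero]
    · rw [add_x, zero_x, zero_v, dl_zero, add_zero, add_zero]
  nsmul := nsmulRec
  zsmul := zsmulRec
  neg_add_cancel := neg_add
  add_comm := add_comm'

instance instModuleTw : Module (ZMod 2) (Tw s) :=
  AddCommGroup.zmodModule (n := 2) fun a => by
    rw [two_nsmul]
    exact neg_add a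

/-- The projection. -/
def proj : Tw s →ₗ[ZMod 2] VS :=
  AddMonoidHom.toZModLinearMap 2 { toFun := Tw.v, map_zero' := rfl, map_add' := fun _ _ => rfl }

theorem proj_apply (a : Tw s) : proj a = a.v := rfl

end Tw

theorem exists_q (s : Spor.M23) : ∃ q : VS → ZMod 2, ∀ u v, q (u + v) = q u + q v + dl s u v := by
  have hs : LinearMap.range (Tw.proj (s := s)) = ⊤ := by
    rw [LinearMap.range_eq_top]
    intro v
    exact ⟨⟨v, 0⟩, rfl⟩
  obtain ⟨g, hg⟩ := LinearMap.exists_rightInverse_of_surjective (Tw.proj (s := s)) hs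
  have h1 : ∀ v, (g v).v = v := fun v => LinearMap.congr_fun hg v
  refine ⟨fun v => (g v).x, fun u v => ?_⟩
  show (g (u + v)).x = _
  rw [map_add, Tw.add_x, h1, h1]

theorem pr_surj : Function.Surjective PE.pr := by
  intro s
  obtain ⟨q, hq⟩ := exists_q s
  exact ⟨⟨s, q, hq⟩, rfl⟩

/-! ### The kernel -/

/-- The element of the kernel given by a word. -/
def kerE (w : WW) : PE := ⟨1, fun v => dt w v, fun u v => by
  rw [PE.dl_one, add_zero]
  exact dt_add_right _ _ _⟩

theorem kerE_mem (w : WW) : kerE w ∈ PE.pr.ker := rfl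

theorem kerE_add (w w' : WW) : kerE (w + w') = kerE w * kerE w' := by
  apply PE.ext
  · exact (one_mul 1).symm
  · funext v
    rw [PE.mul_q]
    show dt (w + w') v = dt w' v + dt w (mv 1 v)
    rw [dt_add_left, mv_one, add_comm]

/-- The map from words to the kernel. -/
def thk : WW →+ Additive ↥PE.pr.ker where
  toFun w := Additive.ofMul ⟨kerE w, kerE_mem w⟩
  map_zero' := by
    apply Additive.toMul.injective
    apply Subtype.ext
    apply PE.ext
    · rfl
    · funext v
      show dt 0 v = 0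
      rw [dt_comm, dt_zero_right]
  map_add' w w' := by
    apply Additive.toMul.injective
    apply Subtype.ext
    exact kerE_add w w'

theorem thk_coe (w : WW) : ((thk w).toMul : PE) = kerE w := rfl

theorem thk_surj : Function.Surjective thk := by
  intro n
  obtain ⟨n, hn⟩ : ∃ m : ↥PE.pr.ker, n = Additive.ofMul m := ⟨n.toMul, rfl⟩
  subst hn
  obtain ⟨⟨s, q, hq⟩, hs⟩ := n
  have hs' : s = 1 := hs
  subst hs'
  have hadd : ∀ u v, q (u + v) = q u + q v := by
    intro u v
    rw [hq, PE.dl_one, add_zero]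
  have h0 : q 0 = 0 := by
    have := hadd 0 0
    rw [add_zero, add_self] at this
    exact this
  let f : VS →ₗ[ZMod 2] ZMod 2 :=
    AddMonoidHom.toZModLinearMap 2 { toFun := q, map_zero' := h0, map_add' := hadd }
  obtain ⟨g, hg⟩ := LinearMap.exists_extend f
  refine ⟨fun p => g (Pi.single p 1), ?_⟩
  apply Additive.toMul.injective
  apply Subtype.ext
  apply PE.ext
  · rfl
  · funext v
    show dt (fun p => g (Pi.single p 1)) (v : WW) = q v
    have h1 : q v = g (v : WW) := (LinearMap.congr_fun hg v).symm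
    have h2 : (v : WW) = ∑ p, (v : WW) p • (Pi.single p (1 : ZMod 2) : WW) := by
      funext r
      rw [Finset.sum_apply]
      simp [Pi.single_apply]
    rw [h1]
    conv_rhs => rw [h2]
    rw [map_sum]
    unfold dt
    refine Finset.sum_congr rfl fun p _ => ?_
    rw [map_smul, smul_eq_mul, mul_comm]

theorem perp_check : ∀ a, a < 2 ^ 11 → (Nat.beq a 0 ||
    Vb.any (fun b => Nat.beq (popcount (encW a &&& b) % 2) 1)) = true := by
  apply allR_zero_spec
  decide +kernel

theorem Vb_mem {b : ℕ} (hb : b ∈ Vb) : word b ∈ VS := by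
  have h : (Vb.all fun m => isCode m && Nat.blt m (2 ^ 23)) = true := by decide +kernel
  rw [List.all_eq_true] at h
  have h1 := h b hb
  rw [Bool.and_eq_true] at h1
  have h2 : b < 2 ^ 23 := Nat.blt_eq.mp h1.2
  refine mem_VS.2 ⟨?_, word_none h2⟩
  rw [mem_golayCode_iff, maskW_word (by omega)]
  exact h1.1

theorem dt_of_inD {w : WW} (h : w ∈ golayCode ∨ w + Pi.single none 1 ∈ golayCode) {v : WW} (hv : v ∈ VS) :
    dt w v = 0 := by
  obtain ⟨h1, h2⟩ := mem_VS.1 hv
  rcases h with h | h
  · exact dt_code h h1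
  · have h3 := dt_code h h1
    rw [dt_add_left] at h3
    have h4 : dt (Pi.single none 1) v = 0 := by
      unfold dt
      rw [Finset.sum_eq_single none]
      · rw [h2, mul_zero]
      · intro p _ hp
        rw [Pi.single_apply, if_neg hp, zero_mul]
      · intro hn
        exact absurd (Finset.mem_univ _) hn
    rw [h4, add_zero] at h3
    exact h3

theorem thk_ker (w : WW) : thk w = 0 ↔ (w ∈ golayCode ∨ w + Pi.single none 1 ∈ golayCode) := by
  have key : thk w = 0 ↔ ∀ v ∈ VS, dt w v = 0 := by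
    constructor
    · intro h v hv
      have h1 : kerE w = 1 := by
        have := congrArg (fun x : Additive ↥PE.pr.ker => (x.toMul : PE)) h
        exact this
      have h2 := congrArg (fun x : PE => x.q ⟨v, hv⟩) h1
      exact h2
    · intro h
      apply Additive.toMul.injective
      apply Subtype.ext
      apply PE.ext
      · rfl
      · funext v
        exact h v v.2
  rw [key]
  constructor
  · intro h
    have h1 := inD_red (maskW_lt w)
    have h2 : word (maskW w ^^^ encW (redW (maskW w))) = w + word (encW (redW (maskW w))) := by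
      rw [word_xor, word_maskW]
    have h3 := (inD_iff (Nat.xor_lt_two_pow (maskW_lt w) (encW_lt _))).1 h1
    rw [h2] at h3
    have h4 : ∀ v ∈ VS, dt (word (encW (redW (maskW w)))) v = 0 := by
      intro v hv
      have h5 := dt_of_inD h3 hv
      rw [dt_add_left, h v hv, zero_add] at h5
      exact h5
    have h5 := perp_check (redW (maskW w)) (redW_lt _)
    rw [Bool.or_eq_true] at h5
    rcases h5 with h5 | h5
    · rw [Nat.eq_of_beq_eq_true h5] at h1
      have h6 : encW 0 = 0 := by decide +kernel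
      rw [h6, Nat.xor_zero] at h1
      have h7 := (inD_iff (maskW_lt w)).1 h1
      rwa [word_maskW] at h7
    · exfalso
      rw [List.any_eq_true] at h5
      obtain ⟨b, hb, h6⟩ := h5
      have h7 := h4 _ (Vb_mem hb)
      rw [dt_word, ZMod.natCast_eq_zero_iff] at h7
      have h8 := Nat.eq_of_beq_eq_true h6
      omega
  · intro h v hv
    exact dt_of_inD h hv

theorem thk_conj (g : PE) (w : WW) :
    ((thk (w ∘ ⇑((PE.pr g : Equiv.Perm GolayPt)⁻¹))).toMul : PE) = g * ((thk w).toMul : PE) * g⁻¹ := by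
  rw [thk_coe, thk_coe, eq_mul_inv_iff_mul_eq]
  apply PE.ext
  · show 1 * g.s = g.s * 1
    rw [one_mul, mul_one]
  · funext v
    rw [PE.mul_q, PE.mul_q]
    show g.q v + dt (w ∘ ⇑((g.s : Equiv.Perm GolayPt)⁻¹)) ((v : WW) ∘ ⇑((g.s : Equiv.Perm GolayPt)⁻¹)) =
      dt w v + g.q (mv 1 v)
    rw [dt_perm, mv_one, add_comm]

end Cfsg.Agent.H188.ParkGrp
end

-- part: H188/ParkNS
section
/-!
# The Parker extension `2 ^ 11 · M23` does not split (helper188)
-/

set_option autoImplicit false

namespace Cfsg.Agent.H188.ParkNS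

open Cfsg Cfsg.Agent.SporadicA.GolayBase Cfsg.Agent.SporadicA.GolayPerm
open Cfsg.Agent.H188.Coll Cfsg.Agent.H188.Lin Cfsg.Agent.H188.Tab Cfsg.Agent.H188.Words
open Cfsg.Agent.H188.ModV Cfsg.Agent.H188.ModW Cfsg.Agent.H188.Park Cfsg.Agent.H188.ParkGrp

/-- The cocycle on masks. -/
def tvn (m n : ℕ) : ℕ := popcount (thr fl Vb (crdV m) &&& n)

theorem tv_eq {u v : VS} {m n : ℕ} (hm : m < 2 ^ 24) (hu : (u : WW) = word m) (hv : (v : WW) = word n) :
    tv u v = (tvn m n : ℕ) := by
  show dt (word (thr fl Vb (crdV (maskW (u : WW))))) (v : WW) = _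
  rw [hu, hv, maskW_word hm, dt_word]
  rfl

theorem mv_eq {s : Spor.M23} {P : ℕ} (hs : IsT s P) (hP : isPerm P = true) {u : VS} {m : ℕ}
    (hu : (u : WW) = word m) : (mv s u : WW) = word (pimg P m) := by
  show (u : WW) ∘ ⇑((s : Equiv.Perm GolayPt)⁻¹) = _
  rw [hu, word_pimg' hP hs]

/-- The coboundary condition on masks. -/
def dln (P m n : ℕ) : ℕ := tvn (pimg P m) (pimg P n) + tvn m n

theorem dl_eq {s : Spor.M23} {P : ℕ} (hs : IsT s P) (hP : isPerm P = true) {u v : VS} {m n : ℕ}
    (hm : m < 2 ^ 24) (hu : (u : WW) = word m) (hv : (v : WW) = word n) :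
    dl s u v = (dln P m n : ℕ) := by
  unfold dl dln
  rw [tv_eq (pimg_lt hP m) (mv_eq hs hP hu) (mv_eq hs hP hv), tv_eq hm hu hv, Nat.cast_add]

/-- Two elements of order four generating a quaternion group. -/
def ta : ℕ := 978086364944178362583403112838924512
@[inherit_doc ta] def tb' : ℕ := 967973658722934229780207008553011296

theorem ok_a : okT ta = true := by decide +kernel
theorem ok_b : okT tb' = true := by decide +kernel

theorem rel1 : mkT ta ok_a * mkT ta ok_a = mkT tb' ok_b * mkT tb' ok_b := by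
  have h1 := (isT_mkT ta ok_a).mul (isT_mkT ta ok_a)
  have h2 := (isT_mkT tb' ok_b).mul (isT_mkT tb' ok_b)
  have h : pcomp ta ta = pcomp tb' tb' := by decide +kernel
  rw [h] at h1
  exact h1.eq h2

theorem rel2 : mkT ta ok_a * mkT tb' ok_b * mkT ta ok_a = mkT tb' ok_b := by
  have h1 := ((isT_mkT ta ok_a).mul (isT_mkT tb' ok_b)).mul (isT_mkT ta ok_a)
  have h2 := isT_mkT tb' ok_b
  have h : pcomp (pcomp ta tb') ta = tb' := by decide +kernel
  rw [h] at h1
  exact h1.eq h2

/-- Two code words. -/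
def m1 : ℕ := 262637
@[inherit_doc m1] def m2 : ℕ := 10558

theorem mem1 : word m1 ∈ VS := Vb_mem (by decide +kernel)
theorem mem2 : word m2 ∈ VS := Vb_mem (by decide +kernel)

theorem num_eq : (dln ta m1 (pimg ta m1) + dln ta m2 (pimg tb' (pimg ta m2)) + dln tb' m1 (pimg tb' m1) +
    dln tb' m2 (pimg ta m2)) % 2 = 1 := by decide +kernel

theorem lift_exists {H : Subgroup PE} (h : H ⊔ PE.pr.ker = ⊤) (s : Spor.M23) : ∃ x ∈ H, x.s = s := by
  obtain ⟨x, hx⟩ := pr_surj s
  have h1 : x ∈ (↑(H ⊔ PE.pr.ker) : Set PE) := by rw [h]; trivial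
  rw [Subgroup.mul_normal] at h1
  obtain ⟨y, hy, z, hz, hyz⟩ := h1
  refine ⟨y, hy, ?_⟩
  have hz' : PE.pr z = 1 := hz
  have h2 : PE.pr x = PE.pr y * PE.pr z := by rw [← hyz]; exact map_mul _ _ _
  rw [hz', mul_one, hx] at h2
  exact h2.symm

theorem eq_of {H : Subgroup PE} (h : H ⊓ PE.pr.ker = ⊥) {x y : PE} (hx : x ∈ H) (hy : y ∈ H)
    (hs : x.s = y.s) : x = y := by
  have h1 : x * y⁻¹ ∈ H ⊓ PE.pr.ker := by
    refine ⟨H.mul_mem hx (H.inv_mem hy), ?_⟩
    show PE.pr (x * y⁻¹) = 1
    rw [map_mul, map_inv, PE.pr_apply, PE.pr_apply, hs, mul_inv_cancel]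
  rw [h, Subgroup.mem_bot, mul_inv_eq_one] at h1
  exact h1

theorem nonsplit (H : Subgroup PE) (h1 : H ⊓ PE.pr.ker = ⊥) : H ⊔ PE.pr.ker ≠ ⊤ := by
  intro h2
  obtain ⟨x, hx, hxs⟩ := lift_exists h2 (mkT ta ok_a)
  obtain ⟨y, hy, hys⟩ := lift_exists h2 (mkT tb' ok_b)
  have r1 : x * x = y * y := by
    refine eq_of h1 (H.mul_mem hx hx) (H.mul_mem hy hy) ?_
    rw [PE.mul_s, PE.mul_s, hxs, hys]
    exact rel1
  have r2 : x * y * x = y := by
    refine eq_of h1 (H.mul_mem (H.mul_mem hx hy) hx) hy ?_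
    rw [PE.mul_s, PE.mul_s, hxs, hys]
    exact rel2
  have hPa : isPerm ta = true := (okT_iff.1 ok_a).1.1
  have hPb : isPerm tb' = true := (okT_iff.1 ok_b).1.1
  have Ta := isT_mkT ta ok_a
  have Tb := isT_mkT tb' ok_b
  rw [← hxs] at Ta
  rw [← hys] at Tb
  obtain ⟨v1, e1⟩ : ∃ v : VS, (v : WW) = word m1 := ⟨⟨_, mem1⟩, rfl⟩
  obtain ⟨v2, e2⟩ : ∃ v : VS, (v : WW) = word m2 := ⟨⟨_, mem2⟩, rfl⟩
  have q1 : (x * x).q v1 = (y * y).q v1 := by rw [r1]
  have q2 : (x * y * x).q v2 = y.q v2 := by rw [r2]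
  rw [PE.mul_q, PE.mul_q] at q1
  rw [PE.mul_q, PE.mul_q] at q2
  have ea1 := mv_eq Ta hPa e1
  have eb1 := mv_eq Tb hPb e1
  have ea2 := mv_eq Ta hPa e2
  have eba2 := mv_eq Tb hPb ea2
  have s1 : v1 + mv x.s v1 = v2 + mv y.s (mv x.s v2) := by
    apply Subtype.ext
    show (v1 : WW) + (mv x.s v1 : WW) = (v2 : WW) + (mv y.s (mv x.s v2) : WW)
    rw [e1, ea1, e2, eba2, ← word_xor, ← word_xor]
    congr 1
  have s2 : v1 + mv y.s v1 = v2 + mv x.s v2 := by
    apply Subtype.ext
    show (v1 : WW) + (mv y.s v1 : WW) = (v2 : WW) + (mv x.s v2 : WW)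
    rw [e1, eb1, e2, ea2, ← word_xor, ← word_xor]
    congr 1
  have t1 := x.h v1 (mv x.s v1)
  have t2 := x.h v2 (mv y.s (mv x.s v2))
  have t3 := y.h v1 (mv y.s v1)
  have t4 := y.h v2 (mv x.s v2)
  rw [s1] at t1
  rw [s2] at t3
  have l1 : m1 < 2 ^ 24 := by decide
  have l2 : m2 < 2 ^ 24 := by decide
  rw [dl_eq Ta hPa l1 e1 ea1] at t1
  rw [dl_eq Ta hPa l2 e2 eba2] at t2
  rw [dl_eq Tb hPb l1 e1 eb1] at t3
  rw [dl_eq Tb hPb l2 e2 ea2] at t4
  have hnum : ((dln ta m1 (pimg ta m1) : ℕ) : ZMod 2) + ((dln ta m2 (pimg tb' (pimg ta m2)) : ℕ) : ZMod 2) +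
      ((dln tb' m1 (pimg tb' m1) : ℕ) : ZMod 2) + ((dln tb' m2 (pimg ta m2) : ℕ) : ZMod 2) = 1 := by
    rw [← Nat.cast_add, ← Nat.cast_add, ← Nat.cast_add]
    have := num_eq
    rw [← Nat.cast_one, ZMod.natCast_eq_natCast_iff']
    exact this
  generalize ((dln ta m1 (pimg ta m1) : ℕ) : ZMod 2) = d1 at *
  generalize ((dln ta m2 (pimg tb' (pimg ta m2)) : ℕ) : ZMod 2) = d2 at *
  generalize ((dln tb' m1 (pimg tb' m1) : ℕ) : ZMod 2) = d3 at *
  generalize ((dln tb' m2 (pimg ta m2) : ℕ) : ZMod 2) = d4 at *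
  -- `z1 = A + A' + d1`, `z1 = B + B' + d2`, and so on
  generalize x.q (v2 + mv y.s (mv x.s v2)) = z1 at *
  generalize y.q (v2 + mv x.s v2) = z2 at *
  generalize x.q v1 = a1 at *
  generalize x.q (mv x.s v1) = a2 at *
  generalize x.q v2 = a3 at *
  generalize x.q (mv y.s (mv x.s v2)) = a4 at *
  generalize y.q v1 = b1 at *
  generalize y.q (mv y.s v1) = b2 at *
  generalize y.q v2 = b3 at *
  generalize y.q (mv x.s v2) = b4 at *
  have c1 : d1 = z1 + (a1 + a2) := by
    have : ∀ z a b d : ZMod 2, z = a + b + d → d = z + (a + b) := by decide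
    exact this _ _ _ _ t1
  have c2 : d2 = z1 + (a3 + a4) := by
    have : ∀ z a b d : ZMod 2, z = a + b + d → d = z + (a + b) := by decide
    exact this _ _ _ _ t2
  have c3 : d3 = z2 + (b1 + b2) := by
    have : ∀ z a b d : ZMod 2, z = a + b + d → d = z + (a + b) := by decide
    exact this _ _ _ _ t3
  have c4 : d4 = z2 + (b3 + b4) := by
    have : ∀ z a b d : ZMod 2, z = a + b + d → d = z + (a + b) := by decide
    exact this _ _ _ _ t4
  rw [c1, c2, c3, c4] at hnum
  have c5 : b3 = a3 + (b4 + a4) := q2.symm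
  have two : ∀ z : ZMod 2, z + z = 0 := Park.add_self
  have c6 : z1 + (a1 + a2) + (z1 + (a3 + a4)) + (z2 + (b1 + b2)) + (z2 + (b3 + b4)) =
      (z1 + z1) + (z2 + z2) + (a1 + a2 + (b1 + b2)) + (a3 + (b4 + a4) + b3) := by ring
  rw [c6, two z1, two z2, q1, two (b1 + b2), c5, two (a3 + (b4 + a4))] at hnum
  exact absurd hnum (by decide)

end Cfsg.Agent.H188.ParkNS
end

-- part: S2650
section
set_option autoImplicit false
open Cfsg

namespace Cfsg.Agent.S2650

/-- A non-split extension of the Mathieu group M₂₃ by its cocode module exists. There is a finite group E with a normal subgroup N, an isomorphism φ from E/N onto M₂₃ = `Spor.M23` (the stabiliser of the extra point `none` in M₂₄ acting on the 24 points `GolayPt`), and a surjective additive homomorphism θ from the binary words on `GolayPt` onto N whose kernel consists of the words of the Golay code `golayCode` and their translates by the unit vector at `none` (so N is elementary abelian of order 2¹¹), such that θ carries the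 coordinate permutation w ↦ w ∘ σ⁻¹, σ = φ(gN), to conjugation by g on N — and such that N has no complement in E. -/
theorem result :
    ∃ (E : Type) (_ : Group E) (_ : Finite E) (N : Subgroup E) (_ : N.Normal)
      (φ : E ⧸ N ≃* ↥Cfsg.Spor.M23) (θ : (Cfsg.GolayPt → ZMod 2) →+ Additive ↥N),
      Function.Surjective θ ∧
      (∀ w : Cfsg.GolayPt → ZMod 2, θ w = 0 ↔ (w ∈ Cfsg.golayCode ∨ w + Pi.single none 1 ∈ Cfsg.golayCode)) ∧
      (∀ (g : E) (w : Cfsg.GolayPt → ZMod 2),
        ((θ (w ∘ ⇑(((φ (QuotientGroup.mk g) : ↥Cfsg.Spor.M23) : Equiv.Perm Cfsg.GolayPt)⁻¹))).toMul : E)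
          = g * ((θ w).toMul : E) * g⁻¹) ∧
      ∀ H : Subgroup E, H ⊓ N = ⊥ → H ⊔ N ≠ ⊤ := by
  refine ⟨H188.ParkGrp.PE, H188.ParkGrp.PE.instGroupPE, H188.ParkGrp.PE.instFinitePE,
    H188.ParkGrp.PE.pr.ker, inferInstance,
    QuotientGroup.quotientKerEquivOfSurjective H188.ParkGrp.PE.pr H188.ParkGrp.pr_surj,
    H188.ParkGrp.thk, H188.ParkGrp.thk_surj, H188.ParkGrp.thk_ker, fun g w => ?_,
    H188.ParkNS.nonsplit⟩
  exact H188.ParkGrp.thk_conj g w

end Cfsg.Agent.S2650
end
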