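import Cfsg.Agent.PLocal.QuadraticDickson
import Mathlib
import Cfsg.Agent.Lib.Cores
import Cfsg.Agent.Classification.IdU.GenSylow
import Cfsg.Agent.PLocal.ThompsonJA
import Cfsg.Agent.PLocal.PStableQuot
import Cfsg.Agent.PLocal.StableOfNotInvolves
import Cfsg.Agent.H571.SylowNumber
import Cfsg.Agent.S0653
import Cfsg.Agent.H990.LLemma
import Cfsg.Agent.S0656
import Cfsg.Statements.S2756
set_option linter.all false

-- part: H36/SLPair
section
/-!
# Two quadratic elements: a proper subgroup of even order containing one of them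

`K = ⟨a, b⟩` acts on a finite `p`-group `P` (`p` odd), `a` and `b` quadratically, and not as a `p`-group.
Then `K` maps onto a subgroup of `SL₂(E)` generated by `[1 λ; 0 1]` and `[1 0; 1 1]` (`exists_sl_map`), hence
has a proper subgroup of even order containing `a` and every normal `p`-subgroup (`exists_even_proper`).
-/

set_option autoImplicit false

namespace Cfsg.Agent.H36.SLPair

open Matrix
open Cfsg.Agent.PLocal.QuadraticPair
open Cfsg.Agent.PLocal.QuadraticNatural
open Cfsg.Agent.PLocal.QuadraticSection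
open scoped commutatorElement

universe u v

/-- `K` maps to `SL₂(E)` with `a ↦ [1 λ; 0 1]`, `b ↦ [1 0; 1 1]`, `λ ≠ 0`, `E` a finite field of
characteristic `p`. -/
def HasSLMap (p : ℕ) {K : Type v} [Group K] (a b : K) : Prop :=
  ∃ (E : Type u) (_ : Field E) (_ : Fintype E) (_ : CharP E p)
    (φ : K →* SpecialLinearGroup (Fin 2) E) (lam : E), lam ≠ 0 ∧ φ a = upp lam ∧ φ b = low 1

theorem irreducible_case_comm {p : ℕ} [Fact p.Prime]
    {K : Type v} [Group K] {P : Type u} [CommGroup P] [Finite P] [Module (ZMod p) (Additive P)]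
    (α : K →* MulAut P) (a b : K) (hab : Subgroup.closure ({a, b} : Set K) = ⊤)
    (ha : ∀ x, α a (x⁻¹ * α a x) = x⁻¹ * α a x) (hb : ∀ x, α b (x⁻¹ * α b x) = x⁻¹ * α b x)
    (hnt : ∃ k x, α k x ≠ x)
    (hirr : ∀ N : Subgroup P, N.Normal → (∀ k, ∀ x ∈ N, α k x ∈ N) → N = ⊥ ∨ N = ⊤) :
    HasSLMap.{u, v} p a b := by
  classical
  let ρ : K →* Module.End (ZMod p) (Additive P) :=
    { toFun := fun k => (MonoidHom.toAdditive (α k).toMonoidHom).toZModLinearMap p
      map_one' := by
        apply LinearMap.ext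
        intro x
        rw [map_one, Module.End.one_apply]
        rfl
      map_mul' := by
        intro k l
        apply LinearMap.ext
        intro x
        rw [map_mul, Module.End.mul_apply]
        rfl }
  have hρ : ∀ k x, ρ k x = Additive.ofMul (α k (Additive.toMul x)) := fun k x => rfl
  have hsub : ∀ (k : K) (x : Additive P), ρ k x - x =
      Additive.ofMul ((Additive.toMul x)⁻¹ * α k (Additive.toMul x)) := by
    intro k x
    rw [hρ, sub_eq_add_neg, add_comm]
    rfl
  obtain ⟨E, iF, iFt, iC, e, φ, lam, hlam, hφ, hφa, hφb⟩ :=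
    exists_sl_two_structure ρ a b hab
      (by
        intro x
        rw [hsub, hρ]
        exact congrArg Additive.ofMul (ha _))
      (by
        intro x
        rw [hsub, hρ]
        exact congrArg Additive.ofMul (hb _))
      (by
        intro W hW
        let N : Subgroup P := AddSubgroup.toSubgroup' W.toAddSubgroup
        have hNW : ∀ x : P, x ∈ N ↔ Additive.ofMul x ∈ W := fun x => Iff.rfl
        have hNn : N.Normal := ⟨fun x hx g => by
          rw [mul_comm g x, mul_inv_cancel_right]; exact hx⟩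
        rcases hirr N hNn (by
          intro k x hx
          rw [hNW] at hx ⊢
          exact hW k _ hx) with h | h
        · left
          rw [eq_bot_iff]
          intro x hx
          have h1 : Additive.toMul x ∈ N := hx
          rw [h, Subgroup.mem_bot] at h1
          rw [Submodule.mem_bot]
          exact Additive.toMul.injective h1
        · right
          rw [eq_top_iff]
          intro x _
          have h1 : Additive.toMul x ∈ N := by rw [h]; trivial
          exact h1)
      (by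
        obtain ⟨k, x, hx⟩ := hnt
        exact ⟨k, Additive.ofMul x, fun h => hx (Additive.ofMul.injective h)⟩)
  exact ⟨E, iF, iFt, iC, φ, lam, hlam, Subtype.ext hφa, Subtype.ext hφb⟩

theorem irreducible_case_aux {p : ℕ} [Fact p.Prime]
    {K : Type v} [Group K] {P : Type u} [inst : Group P] [Finite P]
    (hmc : ∀ x y : P, x * y = y * x) (hexp : ∀ x : P, x ^ p = 1)
    (α : K →* MulAut P) (a b : K) (hab : Subgroup.closure ({a, b} : Set K) = ⊤)
    (ha : ∀ x, α a (x⁻¹ * α a x) = x⁻¹ * α a x) (hb : ∀ x, α b (x⁻¹ * α b x) = x⁻¹ * α b x)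
    (hnt : ∃ k x, α k x ≠ x)
    (hirr : ∀ N : Subgroup P, N.Normal → (∀ k, ∀ x ∈ N, α k x ∈ N) → N = ⊥ ∨ N = ⊤) :
    HasSLMap.{u, v} p a b := by
  let instCG : CommGroup P := { inst with mul_comm := hmc }
  let instMod : Module (ZMod p) (Additive P) := AddCommGroup.zmodModule (by
    intro x
    have h1 := hexp (Additive.toMul x)
    apply Additive.toMul.injective
    rw [toMul_nsmul, h1, toMul_zero])
  exact irreducible_case_comm (P := P) α a b hab ha hb hnt hirr

theorem irreducible_case {p : ℕ} [Fact p.Prime]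
    {K : Type v} [Group K] {P : Type u} [Group P] [Finite P] (hP : IsPGroup p P)
    (α : K →* MulAut P) (a b : K) (hab : Subgroup.closure ({a, b} : Set K) = ⊤)
    (ha : ∀ x, α a (x⁻¹ * α a x) = x⁻¹ * α a x) (hb : ∀ x, α b (x⁻¹ * α b x) = x⁻¹ * α b x)
    (hnt : ∃ k x, α k x ≠ x)
    (hirr : ∀ N : Subgroup P, N.Normal → (∀ k, ∀ x ∈ N, α k x ∈ N) → N = ⊥ ∨ N = ⊤) :
    HasSLMap.{u, v} p a b := by
  classical
  have hPnt : Nontrivial P := by
    obtain ⟨k, x, hx⟩ := hnt
    exact ⟨⟨_, _, hx⟩⟩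
  have hnil : Group.IsNilpotent P := hP.isNilpotent
  have hcomm : commutator P = ⊥ := by
    rcases hirr (commutator P) inferInstance (by
      intro k x hx
      have h1 : (commutator P).map (α k).toMonoidHom = commutator P :=
        Subgroup.characteristic_iff_map_eq.1 inferInstance (α k)
      rw [← h1]
      exact Subgroup.mem_map_of_mem _ hx) with h | h
    · exact h
    · exact absurd h (Group.IsSolvable.commutator_lt_top_of_nontrivial P).ne
  have hmc : ∀ x y : P, x * y = y * x := by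
    intro x y
    have h1 : ⁅x, y⁆ ∈ commutator P :=
      Subgroup.commutator_mem_commutator (Subgroup.mem_top x) (Subgroup.mem_top y)
    rw [hcomm, Subgroup.mem_bot, commutatorElement_eq_one_iff_mul_comm] at h1
    exact h1
  have hexp : ∀ x : P, x ^ p = 1 := by
    let N : Subgroup P :=
      { carrier := {x | x ^ p = 1}
        mul_mem' := by
          intro x y hx hy
          change (x * y) ^ p = 1
          rw [(show Commute x y from hmc x y).mul_pow, show x ^ p = 1 from hx,
            show y ^ p = 1 from hy, one_mul]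
        one_mem' := by
          change (1 : P) ^ p = 1
          rw [one_pow]
        inv_mem' := by
          intro x hx
          change x⁻¹ ^ p = 1
          rw [inv_pow, show x ^ p = 1 from hx, inv_one] }
    have hNn : N.Normal := ⟨fun x hx g => by
      rw [hmc g x, mul_inv_cancel_right]; exact hx⟩
    have hN := hirr N hNn (by
      intro k x hx
      change (α k x) ^ p = 1
      rw [← map_pow, show x ^ p = 1 from hx, map_one])
    rcases hN with h | h
    · exfalso
      obtain ⟨n, hn⟩ := IsPGroup.iff_card.1 hP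
      have hn0 : n ≠ 0 := by
        rintro rfl
        rw [pow_zero] at hn
        have := Finite.one_lt_card_iff_nontrivial.2 hPnt
        omega
      obtain ⟨x, hx⟩ := exists_prime_orderOf_dvd_card' (G := P) p (by
        rw [hn]; exact dvd_pow_self p hn0)
      have hxN : x ∈ N := by
        change x ^ p = 1
        rw [← hx, pow_orderOf_eq_one]
      rw [h, Subgroup.mem_bot] at hxN
      rw [hxN, orderOf_one] at hx
      exact (Fact.out : p.Prime).one_lt.ne hx
    · intro x
      have : x ∈ N := by rw [h]; trivial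
      exact this
  exact irreducible_case_aux hmc hexp α a b hab ha hb hnt hirr

/-- Two quadratic generators `a, b` of a group `K` acting on a finite `p`-group, not as a `p`-group. -/
theorem exists_sl_map {p : ℕ} [Fact p.Prime]
    {K : Type v} [Group K] {P : Type u} [Group P] [Finite P] (hP : IsPGroup p P)
    (α : K →* MulAut P) (a b : K) (hab : Subgroup.closure ({a, b} : Set K) = ⊤)
    (ha : ∀ x, α a (x⁻¹ * α a x) = x⁻¹ * α a x) (hb : ∀ x, α b (x⁻¹ * α b x) = x⁻¹ * α b x)
    (hnp : ¬ ∀ k, ∃ n, (α k) ^ p ^ n = 1) :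
    HasSLMap.{u, v} p a b := by
  classical
  obtain ⟨n, hn⟩ : ∃ n, n = Nat.card P := ⟨_, rfl⟩
  induction n using Nat.strong_induction_on generalizing P with
  | _ n ih =>
    by_cases hirr : ∀ N : Subgroup P, N.Normal → (∀ k, ∀ x ∈ N, α k x ∈ N) → N = ⊥ ∨ N = ⊤
    · refine irreducible_case hP α a b hab ha hb ?_ hirr
      by_contra hcon
      push Not at hcon
      apply hnp
      intro k
      refine ⟨0, ?_⟩
      ext x
      rw [pow_zero, pow_one, MulAut.one_apply, hcon]
    · push Not at hirr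
      obtain ⟨N, hNn, hN, hN1, hN2⟩ := hirr
      have hmul : Nat.card P = Nat.card (P ⧸ N) * Nat.card N :=
        Subgroup.card_eq_card_quotient_mul_card_subgroup N
      have hNpos : 0 < Nat.card N := Nat.card_pos
      have hQpos : 0 < Nat.card (P ⧸ N) := Nat.card_pos
      have hNone : 1 < Nat.card N := by
        rw [Subgroup.one_lt_card_iff_ne_bot]
        exact hN1
      have hNlt : Nat.card N < n := by
        rw [hn]
        refine lt_of_le_of_ne (Subgroup.card_le_card_group N) ?_
        intro h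
        exact hN2 (Subgroup.eq_top_of_card_eq N h)
      have hQlt : Nat.card (P ⧸ N) < n := by
        rw [hn, hmul]
        exact lt_mul_of_one_lt_right hQpos hNone
      by_cases c1 : ∀ k, ∃ n, (restrictAction α N hN k) ^ p ^ n = 1
      · by_cases c2 : ∀ k, ∃ n, (quotientAction α N hN k) ^ p ^ n = 1
        · exact absurd (pow_eq_one_of_restrict_of_quotient hP α N hN c1 c2) hnp
        · refine ih _ hQlt (hP.to_quotient N) (quotientAction α N hN) ?_ ?_ c2 rfl
          · intro x
            obtain ⟨x, rfl⟩ := QuotientGroup.mk_surjective x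
            rw [quotientAction_mk, ← QuotientGroup.mk_inv, ← QuotientGroup.mk_mul,
              quotientAction_mk, ha]
          · intro x
            obtain ⟨x, rfl⟩ := QuotientGroup.mk_surjective x
            rw [quotientAction_mk, ← QuotientGroup.mk_inv, ← QuotientGroup.mk_mul,
              quotientAction_mk, hb]
      · refine ih _ hNlt (hP.to_subgroup N) (restrictAction α N hN) ?_ ?_ c1 rfl
        · intro x
          apply Subtype.ext
          exact ha x
        · intro x
          apply Subtype.ext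
          exact hb x

/-- The upper triangular subgroup of `SL₂`. -/
def upper (E : Type*) [CommRing E] : Subgroup (SpecialLinearGroup (Fin 2) E) where
  carrier := {g | g.1 1 0 = 0}
  one_mem' := by
    change (1 : SpecialLinearGroup (Fin 2) E).1 1 0 = 0
    simp
  mul_mem' := by
    intro g h hg hh
    change (g * h).1 1 0 = 0
    change g.1 1 0 = 0 at hg
    change h.1 1 0 = 0 at hh
    change (g.1 * h.1) 1 0 = 0
    rw [Matrix.mul_apply, Fin.sum_univ_two, hg, hh]
    simp
  inv_mem' := by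
    intro g hg
    change g.1 1 0 = 0 at hg
    have h1 : (g⁻¹).1 = Matrix.adjugate g.1 := rfl
    change (g⁻¹).1 1 0 = 0
    rw [h1, Matrix.adjugate_fin_two]
    simp [hg]

theorem mem_upper {E : Type*} [CommRing E] {g : SpecialLinearGroup (Fin 2) E} :
    g ∈ upper E ↔ g.1 1 0 = 0 := Iff.rfl

/-- An involution of `SL₂(E)`, characteristic not two, is `-1`. -/
theorem eq_neg_one {E : Type*} [Field E] (h2 : (2 : E) ≠ 0) {g : SpecialLinearGroup (Fin 2) E}
    (hg : g ^ 2 = 1) (hg1 : g ≠ 1) : g = -1 := by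
  have hdet : g.1 0 0 * g.1 1 1 - g.1 0 1 * g.1 1 0 = 1 := by
    rw [← Matrix.det_fin_two]; exact g.2
  have hm : g.1 * g.1 = 1 := by
    have := congrArg Subtype.val hg
    rw [pow_two] at this
    exact this
  have e00 : g.1 0 0 * g.1 0 0 + g.1 0 1 * g.1 1 0 = 1 := by
    have := congrFun (congrFun hm 0) 0
    rw [Matrix.mul_apply, Fin.sum_univ_two] at this
    simpa using this
  have e01 : g.1 0 0 * g.1 0 1 + g.1 0 1 * g.1 1 1 = 0 := by
    have := congrFun (congrFun hm 0) 1
    rw [Matrix.mul_apply, Fin.sum_univ_two] at this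
    simpa using this
  have e10 : g.1 1 0 * g.1 0 0 + g.1 1 1 * g.1 1 0 = 0 := by
    have := congrFun (congrFun hm 1) 0
    rw [Matrix.mul_apply, Fin.sum_univ_two] at this
    simpa using this
  have e11 : g.1 1 0 * g.1 0 1 + g.1 1 1 * g.1 1 1 = 1 := by
    have := congrFun (congrFun hm 1) 1
    rw [Matrix.mul_apply, Fin.sum_univ_two] at this
    simpa using this
  have htr : g.1 0 0 + g.1 1 1 ≠ 0 := by
    intro h0
    have h1 : g.1 1 1 = - g.1 0 0 := by linear_combination h0
    rw [h1] at hdet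
    apply h2
    linear_combination -e00 - hdet
  have h01 : g.1 0 1 = 0 := by
    have : g.1 0 1 * (g.1 0 0 + g.1 1 1) = 0 := by linear_combination e01
    rcases mul_eq_zero.1 this with h | h
    · exact h
    · exact absurd h htr
  have h10 : g.1 1 0 = 0 := by
    have : g.1 1 0 * (g.1 0 0 + g.1 1 1) = 0 := by linear_combination e10
    rcases mul_eq_zero.1 this with h | h
    · exact h
    · exact absurd h htr
  rw [h01, h10] at hdet e00
  have hsq : (g.1 0 0 - 1) * (g.1 0 0 + 1) = 0 := by linear_combination e00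
  have hne : g.1 0 0 * (g.1 1 1 - g.1 0 0) = 0 := by linear_combination hdet - e00
  have h00 : g.1 0 0 ≠ 0 := by
    intro h; rw [h] at e00; simp at e00
  have h11 : g.1 1 1 = g.1 0 0 := by
    rcases mul_eq_zero.1 hne with h | h
    · exact absurd h h00
    · linear_combination h
  rcases mul_eq_zero.1 hsq with h | h
  · exfalso
    apply hg1
    apply Subtype.ext
    have h0 : g.1 0 0 = 1 := by linear_combination h
    ext i j
    fin_cases i <;> fin_cases j <;> simp [h01, h10, h11, h0]
  · apply Subtype.ext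
    have h0 : g.1 0 0 = -1 := by linear_combination h
    ext i j
    fin_cases i <;> fin_cases j <;> simp [h01, h10, h11, h0]

/-- `K = ⟨a, b⟩` acting quadratically and not as a `p`-group has a proper subgroup of even order
containing `a` and all normal `p`-subgroups. -/
theorem exists_even_proper {p : ℕ} [Fact p.Prime] (hp : p ≠ 2)
    {K : Type v} [Group K] [Finite K] {a b : K} (hab : Subgroup.closure ({a, b} : Set K) = ⊤)
    (h : HasSLMap.{u, v} p a b) :
    ∃ X : Subgroup K, a ∈ X ∧ X ≠ ⊤ ∧ 2 ∣ Nat.card X ∧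
      ∀ R : Subgroup K, R.Normal → IsPGroup p R → R ≤ X := by
  classical
  obtain ⟨E, iF, iFt, iC, φ, lam, hlam, hφa, hφb⟩ := h
  have h2 : (2 : E) ≠ 0 := by
    intro h
    have h3 : ((2 : ℕ) : E) = 0 := by exact_mod_cast h
    rw [CharP.cast_eq_zero_iff E p] at h3
    exact hp ((Nat.prime_dvd_prime_iff_eq Fact.out Nat.prime_two).1 h3)
  refine ⟨(upper E).comap φ, ?_, ?_, ?_, ?_⟩
  · rw [Subgroup.mem_comap, hφa, mem_upper, coe_upp]
    rfl
  · intro htop
    have h1 : b ∈ (upper E).comap φ := by rw [htop]; trivial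
    rw [Subgroup.mem_comap, hφb, mem_upper, coe_low] at h1
    exact one_ne_zero h1
  · have hrange : φ.range = Subgroup.closure {upp lam, low 1} := by
      rw [MonoidHom.range_eq_map, ← hab, MonoidHom.map_closure, Set.image_pair, hφa, hφb]
    obtain ⟨D, hDle, ⟨δ⟩⟩ := Cfsg.Agent.S0274.result p hp φ.range
      (one_lt_card_sylow φ.range lam hlam hrange)
    -- an involution of `D`
    have hneg : (-1 : SpecialLinearGroup (Fin 2) (ZMod p)) ≠ 1 := by
      intro h
      have h1 := congrArg (fun g : SpecialLinearGroup (Fin 2) (ZMod p) => g.1 0 0) h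
      simp at h1
      have h4 : ((2 : ℕ) : ZMod p) = 0 := by
        push_cast
        linear_combination -h1
      rw [CharP.cast_eq_zero_iff (ZMod p) p] at h4
      exact hp ((Nat.prime_dvd_prime_iff_eq Fact.out Nat.prime_two).1 h4)
    have hneg2 : (-1 : SpecialLinearGroup (Fin 2) (ZMod p)) ^ 2 = 1 := by simp
    let z : SpecialLinearGroup (Fin 2) E := (δ.symm (-1) : D)
    have hz1 : z ≠ 1 := by
      intro h
      apply hneg
      have : δ.symm (-1) = 1 := Subtype.ext h
      rw [← map_one δ.symm] at this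
      exact δ.symm.injective this
    have hz2 : z ^ 2 = 1 := by
      have h1 : (δ.symm (-1)) ^ 2 = 1 := by rw [← map_pow, hneg2, map_one]
      exact congrArg Subtype.val h1
    have hz : z = -1 := eq_neg_one h2 hz2 hz1
    obtain ⟨k, hk⟩ : z ∈ φ.range := hDle (δ.symm (-1)).2
    have hkX : k ∈ (upper E).comap φ := by
      rw [Subgroup.mem_comap, hk, hz, mem_upper]
      simp
    have h3 : orderOf z = 2 := orderOf_eq_prime hz2 hz1
    have h4 : 2 ∣ orderOf k := by
      rw [← h3, ← hk]
      exact orderOf_map_dvd φ k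
    exact h4.trans (Subgroup.orderOf_dvd_natCard _ hkX)
  · intro R hR hRp r hr
    -- normal `p`-subgroups act trivially
    have ha : ∃ n : ℕ, (φ (r * a)) ^ p ^ n = 1 := by
      obtain ⟨n, hn⟩ := hRp ⟨r, hr⟩
      have hr' : r ^ p ^ n = 1 := congrArg Subtype.val hn
      have h1 : ∃ n : ℕ, (φ (r * a)) ^ p ^ n = 1 := by
        obtain ⟨m, hm⟩ := hRp.exists_card_eq
        have h3 : φ ((r * a) ^ p) ∈ R.map φ := by
          have h4 : φ (a ^ p) = 1 := by
            rw [map_pow, hφa, upp_pow, CharP.cast_eq_zero, zero_mul, upp_zero]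
          have h5 : (r * a) ^ p * (a ^ p)⁻¹ ∈ R := by
            rw [← QuotientGroup.eq_one_iff]
            have h6 : (QuotientGroup.mk (r * a) : K ⧸ R) = QuotientGroup.mk a := by
              rw [QuotientGroup.mk_mul, (QuotientGroup.eq_one_iff r).mpr hr, one_mul]
            rw [QuotientGroup.mk_mul, QuotientGroup.mk_inv, QuotientGroup.mk_pow, h6,
              QuotientGroup.mk_pow, mul_inv_cancel]
          have h6 := Subgroup.mem_map_of_mem φ h5
          rw [map_mul, map_inv, h4, inv_one, mul_one] at h6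
          exact h6
        obtain ⟨s, hs, hs2⟩ := h3
        obtain ⟨j, hj⟩ := hRp ⟨s, hs⟩
        refine ⟨1 + j, ?_⟩
        rw [pow_add, pow_mul, pow_one, ← map_pow, ← hs2, ← map_pow,
          show s ^ p ^ j = 1 from congrArg Subtype.val hj, map_one]
      exact h1
    have hr0 : ∃ n : ℕ, (φ r) ^ p ^ n = 1 := by
      obtain ⟨n, hn⟩ := hRp ⟨r, hr⟩
      refine ⟨n, ?_⟩
      rw [← map_pow, show r ^ p ^ n = 1 from congrArg Subtype.val hn, map_one]
    obtain ⟨n, hn⟩ := ha
    obtain ⟨m, hm⟩ := hr0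
    have t1 := trace_eq_two _ n hn
    have t2 := trace_eq_two _ m hm
    rw [map_mul, hφa, Matrix.SpecialLinearGroup.coe_mul, coe_upp] at t1
    rw [Matrix.mul_apply, Matrix.mul_apply, Fin.sum_univ_two, Fin.sum_univ_two] at t1
    simp at t1
    rw [Subgroup.mem_comap, mem_upper]
    have h7 : (φ r).1 1 0 * lam = 0 := by
      linear_combination t1 - t2
    rcases mul_eq_zero.1 h7 with h | h
    · exact h
    · exact absurd h hlam

end Cfsg.Agent.H36.SLPair
end

-- part: H36/HasInv
section
/-!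
# Groups in which some nonidentity `p`-element is inverted
-/

set_option autoImplicit false
set_option linter.dupNamespace false

namespace Cfsg.Agent.H36.HasInv

open Subgroup Cfsg

/-- Some nonidentity `p`-element is inverted by some element. -/
def HasInv (p : ℕ) (G : Type*) [Group G] : Prop :=
  ∃ x g : G, x ≠ 1 ∧ (∃ k : ℕ, x ^ p ^ k = 1) ∧ g * x * g⁻¹ = x⁻¹

variable {p : ℕ} {G H : Type*} [Group G] [Group H]

theorem HasInv.map (f : G →* H) (hf : Function.Injective f) (h : HasInv p G) : HasInv p H := by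
  obtain ⟨x, g, hx, ⟨k, hk⟩, hg⟩ := h
  refine ⟨f x, f g, fun h => hx (hf (by rw [h, map_one])), ⟨k, by rw [← map_pow, hk, map_one]⟩, ?_⟩
  rw [← map_inv, ← map_inv, ← map_mul, ← map_mul, hg]

theorem HasInv.of_subgroup {K : Subgroup G} (h : HasInv p K) : HasInv p G :=
  h.map K.subtype K.subtype_injective

theorem HasInv.mono {K L : Subgroup G} (hKL : K ≤ L) (h : HasInv p K) : HasInv p L :=
  h.map (Subgroup.inclusion hKL) (Subgroup.inclusion_injective hKL)

theorem hasInv_subgroup {K : Subgroup G} {x g : G} (hx : x ∈ K) (hg : g ∈ K) (hx1 : x ≠ 1)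
    (hxp : ∃ k : ℕ, x ^ p ^ k = 1) (hinv : g * x * g⁻¹ = x⁻¹) : HasInv p K := by
  obtain ⟨k, hk⟩ := hxp
  exact ⟨⟨x, hx⟩, ⟨g, hg⟩, fun h => hx1 (congrArg Subtype.val h), ⟨k, Subtype.ext hk⟩,
    Subtype.ext hinv⟩

/-- Passing to a quotient in which `x` survives. -/
theorem HasInv.of_image (f : G →* H) {x g : G} (hx1 : f x ≠ 1) (hxp : ∃ k : ℕ, x ^ p ^ k = 1)
    (hinv : g * x * g⁻¹ = x⁻¹) : HasInv p H := by
  obtain ⟨k, hk⟩ := hxp
  refine ⟨f x, f g, hx1, ⟨k, by rw [← map_pow, hk, map_one]⟩, ?_⟩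
  rw [← map_inv, ← map_inv, ← map_mul, ← map_mul, hinv]

/-- An odd power of an element inverting `x` inverts `x`. -/
theorem pow_odd_inv {x g : G} (h : g * x * g⁻¹ = x⁻¹) (n : ℕ) (hn : Odd n) :
    g ^ n * x * (g ^ n)⁻¹ = x⁻¹ := by
  have h2 : g ^ 2 * x * (g ^ 2)⁻¹ = x := by
    have : g ^ 2 * x * (g ^ 2)⁻¹ = g * (g * x * g⁻¹) * g⁻¹ := by rw [pow_two]; group
    rw [this, h]
    have h3 : g * x⁻¹ * g⁻¹ = (g * x * g⁻¹)⁻¹ := by group
    rw [h3, h, inv_inv]
  have h4 : ∀ m : ℕ, (g ^ 2) ^ m * x * ((g ^ 2) ^ m)⁻¹ = x := by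
    intro m
    induction m with
    | zero => simp
    | succ m ih =>
      calc (g ^ 2) ^ (m + 1) * x * ((g ^ 2) ^ (m + 1))⁻¹
          = (g ^ 2) ^ m * (g ^ 2 * x * (g ^ 2)⁻¹) * ((g ^ 2) ^ m)⁻¹ := by
            rw [pow_succ]; group
        _ = x := by rw [h2, ih]
  obtain ⟨m, rfl⟩ := hn
  calc g ^ (2 * m + 1) * x * (g ^ (2 * m + 1))⁻¹
      = g * ((g ^ 2) ^ m * x * ((g ^ 2) ^ m)⁻¹) * g⁻¹ := by
        rw [pow_succ', pow_mul]; group
    _ = x⁻¹ := by rw [h4, h]

/-- A `2`-element acting nontrivially on a `p`-group inverts a nonidentity element. -/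
theorem hasInv_of_action {R : Subgroup G} (hR : IsPGroup p R) {g : G}
    (hg : g ∈ normalizer (R : Set G)) (h2 : ∃ k : ℕ, g ^ 2 ^ k = 1)
    (hc : g ∉ centralizer (R : Set G)) : HasInv p G := by
  classical
  have hex : ∃ k : ℕ, g ^ 2 ^ k ∈ centralizer (R : Set G) := by
    obtain ⟨k, hk⟩ := h2
    exact ⟨k, by rw [hk]; exact one_mem _⟩
  obtain ⟨k, hk, hmin⟩ : ∃ k, g ^ 2 ^ k ∈ centralizer (R : Set G) ∧
      ∀ m < k, g ^ 2 ^ m ∉ centralizer (R : Set G) :=
    ⟨Nat.find hex, Nat.find_spec hex, fun m hm => Nat.find_min hex hm⟩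
  have hk0 : k ≠ 0 := by
    rintro rfl
    rw [pow_zero, pow_one] at hk
    exact hc hk
  obtain ⟨m, rfl⟩ := Nat.exists_eq_succ_of_ne_zero hk0
  have hm := hmin m (Nat.lt_succ_self m)
  set h := g ^ 2 ^ m with hh
  have hsq : h ^ 2 ∈ centralizer (R : Set G) := by
    rw [hh, ← pow_mul, ← pow_succ]
    exact hk
  have hhN : h ∈ normalizer (R : Set G) := pow_mem hg _
  have hne : ∃ c ∈ R, h * c * h⁻¹ ≠ c := by
    by_contra hcon
    push Not at hcon
    apply hm
    rw [mem_centralizer_iff]
    intro c hcR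
    have := hcon c hcR
    calc c * h = (h * c * h⁻¹) * h := by rw [this]
      _ = h * c := by group
  obtain ⟨c, hcR, hcne⟩ := hne
  have hcR' : h * c * h⁻¹ ∈ R := (mem_normalizer_iff.1 hhN c).1 hcR
  have hdR : c * (h * c * h⁻¹)⁻¹ ∈ R := R.mul_mem hcR (R.inv_mem hcR')
  refine ⟨c * (h * c * h⁻¹)⁻¹, h, ?_, ?_, ?_⟩
  · intro h0
    apply hcne
    exact (mul_inv_eq_one.1 h0).symm
  · obtain ⟨j, hj⟩ := hR ⟨_, hdR⟩
    exact ⟨j, congrArg Subtype.val hj⟩
  · have h3 : h ^ 2 * c * (h ^ 2)⁻¹ = c := by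
      have := mem_centralizer_iff.1 hsq c hcR
      rw [← this, mul_inv_cancel_right]
    calc h * (c * (h * c * h⁻¹)⁻¹) * h⁻¹
        = (h * c * h⁻¹) * (h ^ 2 * c * (h ^ 2)⁻¹)⁻¹ := by group
      _ = (c * (h * c * h⁻¹)⁻¹)⁻¹ := by rw [h3]; group

/-- An inverted `p`-element of a homomorphic image, `p` odd, gives one of the group. -/
theorem HasInv.of_surjective [Finite G] [hp : Fact p.Prime] (hp2 : p ≠ 2) (f : G →* H)
    (hf : Function.Surjective f) (h : HasInv p H) : HasInv p G := by
  classical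
  obtain ⟨x, g', hx1, ⟨k, hk⟩, hinv⟩ := h
  obtain ⟨g, rfl⟩ := hf g'
  set M : Subgroup G := (zpowers x).comap f with hM
  obtain ⟨P⟩ : Nonempty (Sylow p M) := inferInstance
  set R : Subgroup G := (P : Subgroup M).map M.subtype with hR
  have hRp : IsPGroup p R := P.isPGroup'.map _
  have hRM : R ≤ M := Subgroup.map_subtype_le _
  have hRi : ¬ p ∣ R.relIndex M := by
    rw [hR, Subgroup.relIndex, Subgroup.subgroupOf, Subgroup.comap_map_eq_self_of_injective
      M.subtype_injective]
    exact P.not_dvd_index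
  -- `f(R) = ⟨x⟩`
  have hxR : x ∈ R.map f := by
    have hxp : IsPGroup p (zpowers x) := by
      rintro ⟨y, hy⟩
      obtain ⟨m, rfl⟩ := mem_zpowers_iff.1 hy
      refine ⟨k, Subtype.ext ?_⟩
      change (x ^ m) ^ p ^ k = 1
      rw [← zpow_natCast, ← zpow_mul, mul_comm, zpow_mul, zpow_natCast, hk, one_zpow]
    -- the image of a Sylow subgroup under the surjection `M → ⟨x⟩` is Sylow
    let fM : M →* zpowers x := f.subgroupComap (zpowers x)
    have hfM : Function.Surjective fM := by
      rintro ⟨y, hy⟩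
      obtain ⟨z, rfl⟩ := hf y
      exact ⟨⟨z, hy⟩, rfl⟩
    have h1 : ((P.mapSurjective hfM : Sylow p (zpowers x)) : Subgroup (zpowers x)) = ⊤ := by
      have h2 : IsPGroup p (⊤ : Subgroup (zpowers x)) := hxp.of_equiv topEquiv.symm
      exact ((P.mapSurjective hfM).is_maximal' h2 le_top).symm
    have h4 : (⟨x, mem_zpowers x⟩ : zpowers x) ∈
        ((P.mapSurjective hfM : Sylow p (zpowers x)) : Subgroup (zpowers x)) := by
      rw [h1]; trivial
    rw [Sylow.coe_mapSurjective] at h4
    obtain ⟨y, hy, hy2⟩ := h4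
    exact ⟨y, ⟨y, hy, rfl⟩, congrArg Subtype.val hy2⟩
  -- Frattini
  have hgM : ∀ y ∈ M, g * y * g⁻¹ ∈ M := by
    intro y hy
    rw [hM, mem_comap] at hy ⊢
    obtain ⟨m, hm⟩ := mem_zpowers_iff.1 hy
    rw [map_mul, map_mul, map_inv, ← hm, ← conj_zpow, hinv]
    exact zpow_mem (inv_mem (mem_zpowers x)) m
  obtain ⟨m, hmM, hmR⟩ := Classification.IdU.GenSylow.frattini hRp hRM hRi hgM
  set n := m⁻¹ * g with hn
  have hfn : f n * x * (f n)⁻¹ = x⁻¹ := by
    have hmx : f m ∈ zpowers x := hmM
    obtain ⟨j, hj⟩ := mem_zpowers_iff.1 hmx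
    rw [hn, map_mul, map_inv, ← hj]
    calc (x ^ j)⁻¹ * f g * x * ((x ^ j)⁻¹ * f g)⁻¹ = (x ^ j)⁻¹ * (f g * x * (f g)⁻¹) * x ^ j := by
          group
      _ = x⁻¹ := by rw [hinv]; group
  have hnR : n ∈ normalizer (R : Set G) := by
    have h1 : R.map (MulAut.conj n).toMonoidHom ≤ R := by
      rintro _ ⟨y, hy, rfl⟩
      exact hmR y hy
    rw [mem_normalizer_iff_map_conj_eq]
    exact Subgroup.eq_of_le_of_card_ge h1
      (Nat.card_congr (R.equivMapOfInjective (MulAut.conj n).toMonoidHom
        (MulAut.conj n).injective).toEquiv).le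
  -- make `n` a `2`-element
  obtain ⟨e, r, hr, her⟩ := Nat.exists_eq_two_pow_mul_odd (orderOf_pos n).ne'
  have hn2 : ∃ k : ℕ, (n ^ r) ^ 2 ^ k = 1 := ⟨e, by
    rw [← pow_mul, mul_comm, ← her, pow_orderOf_eq_one]⟩
  refine hasInv_of_action hRp (pow_mem hnR r) hn2 ?_
  intro hcen
  obtain ⟨y, hy, hyx⟩ := hxR
  have h1 := pow_odd_inv hfn r hr
  have h2 := mem_centralizer_iff.1 hcen y hy
  have h3 : x * f (n ^ r) = f (n ^ r) * x := by
    rw [← hyx, ← map_mul, h2, map_mul]
  rw [map_pow] at h3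
  rw [← h3, mul_inv_cancel_right] at h1
  -- `x = x⁻¹`
  apply hx1
  have h4 : x ^ 2 = 1 := by rw [pow_two]; nth_rewrite 2 [h1]; exact mul_inv_cancel x
  have h5 : (p ^ k).Coprime 2 := by
    apply Nat.Coprime.pow_left
    rw [Nat.coprime_primes hp.out Nat.prime_two]
    exact hp2
  have h6 : orderOf x ∣ Nat.gcd (p ^ k) 2 :=
    Nat.dvd_gcd (orderOf_dvd_of_pow_eq_one hk) (orderOf_dvd_of_pow_eq_one h4)
  rw [h5] at h6
  exact orderOf_eq_one_iff.1 (Nat.dvd_one.1 h6)

end Cfsg.Agent.H36.HasInv
end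

-- part: H36/RealLocal
section
/-!
# Inverted `p`-elements are detected in the normalizer of `Z(J(T))`

For odd `p`, if some nonidentity `p`-element of the finite group `G` is inverted in `G`, then some
nonidentity `p`-element of `N_G(Z(J(T)))` is inverted there, `T` a Sylow `p`-subgroup.
-/

set_option autoImplicit false

namespace Cfsg.Agent.H36.RealLocal

open Subgroup Cfsg Cfsg.Agent.H36.HasInv Cfsg.Agent.PLocal.ThompsonJA
open scoped Pointwise

universe u

variable {p : ℕ}

theorem map_center_of_injOn {G H : Type*} [Group G] [Group H] (f : G →* H) (T : Subgroup G)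
    (hf : Set.InjOn f T) : (centerThompsonAOf T).map f = centerThompsonAOf (T.map f) := by
  have h1 : Function.Injective (f.comp T.subtype) := fun a b h => Subtype.ext (hf a.2 b.2 h)
  have h2 := map_centerThompsonAOf T.subtype T.subtype_injective (⊤ : Subgroup T)
  have h3 := map_centerThompsonAOf (f.comp T.subtype) h1 (⊤ : Subgroup T)
  have e1 : (⊤ : Subgroup T).map T.subtype = T := by
    rw [← MonoidHom.range_eq_map, Subgroup.range_subtype]
  rw [e1] at h2
  rw [← h2, Subgroup.map_map, h3, ← Subgroup.map_map, e1]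

/-- The statement for one group. -/
def Good (p : ℕ) (G : Type u) [Group G] : Prop :=
  ∀ T : Sylow p G, HasInv p G →
    HasInv p (normalizer (centerThompsonAOf (T : Subgroup G) : Set G))

theorem sub_step {G : Type u} [Group G] {H : Subgroup G} (hH : Good p H) (P : Sylow p H)
    (h : HasInv p H) :
    HasInv p (normalizer (centerThompsonAOf ((P : Subgroup H).map H.subtype) : Set G)) := by
  have h1 := hH P h
  set N := normalizer (centerThompsonAOf (P : Subgroup H) : Set H) with hN
  have h2 : N.map H.subtype ≤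
      normalizer (centerThompsonAOf ((P : Subgroup H).map H.subtype) : Set G) := by
    rw [← map_centerThompsonAOf H.subtype H.subtype_injective]
    exact Subgroup.le_normalizer_map H.subtype
  have h3 : HasInv p (N.map H.subtype) :=
    h1.map (N.equivMapOfInjective H.subtype H.subtype_injective).toMonoidHom
      (N.equivMapOfInjective H.subtype H.subtype_injective).injective
  exact h3.mono h2

/-- A minimal counterexample. -/
structure Ctx (p : ℕ) (G : Type u) [Group G] (T : Sylow p G) : Prop where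
  ih : ∀ (H : Type u) [Group H] [Finite H], Nat.card H < Nat.card G → Good p H
  inv : HasInv p G
  not : ¬ HasInv p (normalizer (centerThompsonAOf (T : Subgroup G) : Set G))

variable {G : Type u} [Group G] [Finite G] {T : Sylow p G}

theorem card_lt_of_ne_top {H : Subgroup G} (hH : H ≠ ⊤) : Nat.card H < Nat.card G := by
  refine lt_of_le_of_ne (Subgroup.card_le_card_group H) ?_
  intro h
  exact hH (Subgroup.eq_top_of_card_eq H h)

theorem Ctx.not_of_sub (c : Ctx p G T) {H : Subgroup G} (hT : (T : Subgroup G) ≤ H) (hH : H ≠ ⊤) :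
    ¬ HasInv p H := by
  intro h
  have h1 := sub_step (c.ih H (card_lt_of_ne_top hH)) (T.subtype hT) h
  rw [Sylow.coe_subtype, Subgroup.subgroupOf_map_subtype, inf_eq_left.2 hT] at h1
  exact c.not h1

omit [Finite G] in
theorem normalizer_map_conj (g : G) (A : Subgroup G) :
    (normalizer (A : Set G)).map (MulAut.conj g).toMonoidHom =
      normalizer ((A.map (MulAut.conj g).toMonoidHom : Subgroup G) : Set G) :=
  Subgroup.map_equiv_normalizer_eq A (MulAut.conj g)

theorem Ctx.not_conj [Fact p.Prime] (c : Ctx p G T) (T' : Sylow p G) :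
    ¬ HasInv p (normalizer (centerThompsonAOf (T' : Subgroup G) : Set G)) := by
  intro h
  obtain ⟨g, hg⟩ := MulAction.exists_smul_eq G T' T
  apply c.not
  have h1 : (T : Subgroup G) = (T' : Subgroup G).map (MulAut.conj g).toMonoidHom := by
    rw [← hg]; rfl
  rw [h1, ← map_centerThompsonAOf _ (MulAut.conj g).injective, ← normalizer_map_conj]
  exact h.map ((normalizer (centerThompsonAOf (T' : Subgroup G) : Set G)).equivMapOfInjective
    (MulAut.conj g).toMonoidHom (MulAut.conj g).injective).toMonoidHom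
    ((normalizer (centerThompsonAOf (T' : Subgroup G) : Set G)).equivMapOfInjective
    (MulAut.conj g).toMonoidHom (MulAut.conj g).injective).injective

/-- The largest exponent of `p` in the order of the normalizer. -/
noncomputable def expo (p : ℕ) {G : Type*} [Group G] (Q : Subgroup G) : ℕ :=
  (Nat.card (normalizer (Q : Set G))).factorization p

theorem Ctx.pCore_ne_bot [hp : Fact p.Prime] (c : Ctx p G T) : pCore p G ≠ ⊥ := by
  classical
  -- the family of nontrivial `p`-subgroups whose normalizer inverts something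
  have hne : ({Q : Subgroup G | Q ≠ ⊥ ∧ IsPGroup p Q ∧
      HasInv p (normalizer (Q : Set G))}).Nonempty := by
    obtain ⟨x, g, hx, hxp, hinv⟩ := c.inv
    refine ⟨zpowers x, ?_, ?_, ?_⟩
    · rwa [Ne, zpowers_eq_bot]
    · obtain ⟨k, hk⟩ := hxp
      rintro ⟨y, hy⟩
      obtain ⟨m, rfl⟩ := mem_zpowers_iff.1 hy
      refine ⟨k, Subtype.ext ?_⟩
      change (x ^ m) ^ p ^ k = 1
      rw [← zpow_natCast, ← zpow_mul, mul_comm, zpow_mul, zpow_natCast, hk, one_zpow]
    · refine hasInv_subgroup (le_normalizer (mem_zpowers x)) ?_ hx hxp hinv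
      rw [mem_normalizer_iff_map_conj_eq, MonoidHom.map_zpowers]
      change zpowers (g * x * g⁻¹) = _
      rw [hinv, zpowers_inv]
  obtain ⟨Q, ⟨hQ1, hQp, hQi⟩, hmax⟩ := Set.exists_max_image _ (expo p) (Set.toFinite _) hne
  by_cases hN : normalizer (Q : Set G) = ⊤
  · have hQn : Q.Normal := normalizer_eq_top_iff.1 hN
    intro h
    apply hQ1
    rw [eq_bot_iff, ← h]
    exact Lib.Cores.le_pCore hQn hQp
  · exfalso
    obtain ⟨P⟩ : Nonempty (Sylow p (normalizer (Q : Set G))) := inferInstance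
    have h1 := sub_step (c.ih _ (card_lt_of_ne_top hN)) P hQi
    set S := (P : Subgroup (normalizer (Q : Set G))).map (normalizer (Q : Set G)).subtype with hS
    have hSp : IsPGroup p S := P.isPGroup'.map _
    have hQS : Q ≤ S := by
      have h2 : Q.subgroupOf (normalizer (Q : Set G)) ≤ (P : Subgroup _) := by
        have h3 : (Q.subgroupOf (normalizer (Q : Set G))).Normal := by infer_instance
        have h4 : IsPGroup p (Q.subgroupOf (normalizer (Q : Set G))) :=
          hQp.of_equiv (Subgroup.subgroupOfEquivOfLe le_normalizer).symm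
        exact (Lib.Cores.le_pCore h3 h4).trans (Lib.Cores.pCore_le_sylow P)
      intro q hq
      exact ⟨⟨q, le_normalizer hq⟩, h2 hq, rfl⟩
    have hS1 : S ≠ ⊥ := fun h => hQ1 (le_bot_iff.1 (h ▸ hQS))
    have hcard : Nat.card S = p ^ expo p Q := by
      rw [hS, Nat.card_congr ((P : Subgroup (normalizer (Q : Set G))).equivMapOfInjective _
        (normalizer (Q : Set G)).subtype_injective).symm.toEquiv]
      exact P.card_eq_multiplicity
    have hmem : centerThompsonAOf S ∈ {Q : Subgroup G | Q ≠ ⊥ ∧ IsPGroup p Q ∧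
        HasInv p (normalizer (Q : Set G))} :=
      ⟨centerThompsonAOf_ne_bot S hSp hS1, hSp.to_le (centerThompsonAOf_le S), h1⟩
    have hle := hmax _ hmem
    obtain ⟨T₁, hT₁⟩ := hSp.exists_le_sylow
    by_cases hST : S = (T₁ : Subgroup G)
    · rw [hST] at h1
      exact c.not_conj T₁ h1
    · -- normalizers grow
      have hnil : Group.IsNilpotent T₁ := T₁.isPGroup'.isNilpotent
      have hlt : S.subgroupOf (T₁ : Subgroup G) < ⊤ := by
        rw [lt_top_iff_ne_top, Ne, subgroupOf_eq_top]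
        intro h
        exact hST (le_antisymm hT₁ h)
      have h2 := Group.normalizerCondition_of_isNilpotent _ hlt
      obtain ⟨t, ht1, ht2⟩ := SetLike.exists_of_lt h2
      have htN : (t : G) ∈ normalizer (S : Set G) := by
        rw [mem_normalizer_iff]
        intro y
        constructor
        · intro hy
          have := (mem_normalizer_iff.1 ht1 ⟨y, hT₁ hy⟩).1 hy
          exact this
        · intro hy
          have hy' : y ∈ (T₁ : Subgroup G) := by
            have h3 : (t : G) * y * (t : G)⁻¹ ∈ (T₁ : Subgroup G) := hT₁ hy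
            have h4 : y = (t : G)⁻¹ * ((t : G) * y * (t : G)⁻¹) * (t : G) := by group
            rw [h4]
            exact mul_mem (mul_mem (inv_mem t.2) h3) t.2
          exact (mem_normalizer_iff.1 ht1 ⟨y, hy'⟩).2 hy
      have htS : (t : G) ∉ S := ht2
      set U := S ⊔ zpowers (t : G) with hU
      have hUT : U ≤ (T₁ : Subgroup G) := sup_le hT₁ (by rw [zpowers_le]; exact t.2)
      have hUp : IsPGroup p U := T₁.isPGroup'.to_le hUT
      have hUN : U ≤ normalizer (centerThompsonAOf S : Set G) := by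
        refine le_trans ?_ (normalizer_le_normalizer_centerThompsonAOf S)
        exact sup_le le_normalizer (by rw [zpowers_le]; exact htN)
      have hSU : S < U := by
        refine lt_of_le_of_ne le_sup_left ?_
        intro h
        apply htS
        rw [h]
        exact (le_sup_right : zpowers (t : G) ≤ U) (mem_zpowers _)
      obtain ⟨m, hm⟩ := IsPGroup.iff_card.1 hUp
      have h5 : Nat.card S < Nat.card U :=
        lt_of_le_of_ne (Nat.le_of_dvd Nat.card_pos (Subgroup.card_dvd_of_le hSU.le))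
          (fun h => hSU.ne (Subgroup.eq_of_le_of_card_ge hSU.le h.ge))
      rw [hm, hcard] at h5
      have h6 : expo p Q < m := (Nat.pow_lt_pow_iff_right hp.out.one_lt).1 h5
      have h7 : p ^ m ∣ Nat.card (normalizer (centerThompsonAOf S : Set G)) := by
        rw [← hm]
        exact Subgroup.card_dvd_of_le hUN
      have h8 : m ≤ expo p (centerThompsonAOf S) :=
        (hp.out.pow_dvd_iff_le_factorization Nat.card_pos.ne').1 h7
      omega

/-- `O_{p'}(G) = 1`. -/
theorem Ctx.pPrimeCore_eq_bot [hp : Fact p.Prime] (hp2 : p ≠ 2) (c : Ctx p G T) :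
    pPrimeCore p G = ⊥ := by
  classical
  by_contra hne
  set N := pPrimeCore p G with hN
  have hNn : N.Normal := Lib.Cores.pPrimeCore_normal p
  have hcop : (Nat.card N).Coprime p := Lib.Cores.pPrimeCore_coprime p
  let f : G →* G ⧸ N := QuotientGroup.mk' N
  have hf : Function.Surjective f := QuotientGroup.mk'_surjective N
  have hker : f.ker = N := QuotientGroup.ker_mk' N
  have hlt : Nat.card (G ⧸ N) < Nat.card G := by
    rw [Subgroup.card_eq_card_quotient_mul_card_subgroup N]
    exact lt_mul_of_one_lt_right Nat.card_pos ((Subgroup.one_lt_card_iff_ne_bot N).2 hne)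
  have hinj : Set.InjOn f (T : Subgroup G) := by
    intro x hx y hy hxy
    have h1 : x⁻¹ * y ∈ N := by
      rw [← hker, MonoidHom.mem_ker, map_mul, map_inv, hxy, inv_mul_cancel]
    have h2 : x⁻¹ * y ∈ (T : Subgroup G) := mul_mem (inv_mem hx) hy
    obtain ⟨k, hk⟩ := T.isPGroup' ⟨_, h2⟩
    have h3 : (x⁻¹ * y) ^ p ^ k = 1 := congrArg Subtype.val hk
    have h4 : orderOf (x⁻¹ * y) ∣ Nat.gcd (Nat.card N) (p ^ k) :=
      Nat.dvd_gcd (Subgroup.orderOf_dvd_natCard N h1) (orderOf_dvd_of_pow_eq_one h3)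
    rw [Nat.Coprime.pow_right k hcop, Nat.dvd_one, orderOf_eq_one_iff] at h4
    exact (inv_mul_eq_one.1 h4)
  have h1 : HasInv p (G ⧸ N) := by
    obtain ⟨x, g, hx, ⟨k, hk⟩, hinv⟩ := c.inv
    refine HasInv.of_image f (x := x) (g := g) ?_ ⟨k, hk⟩ hinv
    intro h
    have h1 : x ∈ N := by rw [← hker]; exact h
    apply hx
    have h4 : orderOf x ∣ Nat.gcd (Nat.card N) (p ^ k) :=
      Nat.dvd_gcd (Subgroup.orderOf_dvd_natCard N h1) (orderOf_dvd_of_pow_eq_one hk)
    rwa [Nat.Coprime.pow_right k hcop, Nat.dvd_one, orderOf_eq_one_iff] at h4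
  have h2 := c.ih _ hlt (T.mapSurjective hf) h1
  rw [Sylow.coe_mapSurjective, ← map_center_of_injOn f T hinj,
    ← PLocal.PStableQuot.map_normalizer f hf (by rw [hker]; exact hcop) _
      (T.isPGroup'.to_le (centerThompsonAOf_le _))] at h2
  apply c.not
  exact h2.of_surjective hp2
    (f.subgroupMap (normalizer (centerThompsonAOf (T : Subgroup G) : Set G)))
    (f.subgroupMap_surjective _)

omit [Finite G] in
/-- `T` is not normal. -/
theorem Ctx.not_le_pCore (c : Ctx p G T) : ¬ (T : Subgroup G) ≤ pCore p G := by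
  intro h
  apply c.not
  have h1 : (T : Subgroup G) = pCore p G := le_antisymm h (Lib.Cores.pCore_le_sylow T)
  have h2 : (T : Subgroup G).Normal := by rw [h1]; exact Lib.Cores.pCore_normal p
  have h3 : normalizer (centerThompsonAOf (T : Subgroup G) : Set G) = ⊤ := by
    rw [eq_top_iff, ← normalizer_eq_top_iff.2 h2]
    exact normalizer_le_normalizer_centerThompsonAOf _
  rw [h3]
  exact c.inv.map (topEquiv (G := G)).symm.toMonoidHom (topEquiv (G := G)).symm.injective

/-- `G / O_p(G)` inverts no `p`-element. -/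
theorem Ctx.quotient [hp : Fact p.Prime] (hp2 : p ≠ 2) (c : Ctx p G T) :
    ¬ HasInv p (G ⧸ pCore p G) := by
  classical
  intro h1
  have hNn : (pCore p G).Normal := Lib.Cores.pCore_normal p
  let f : G →* G ⧸ pCore p G := QuotientGroup.mk' (pCore p G)
  have hf : Function.Surjective f := QuotientGroup.mk'_surjective _
  have hker : f.ker = pCore p G := QuotientGroup.ker_mk' _
  have hlt : Nat.card (G ⧸ pCore p G) < Nat.card G := by
    rw [Subgroup.card_eq_card_quotient_mul_card_subgroup (pCore p G)]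
    exact lt_mul_of_one_lt_right Nat.card_pos
      ((Subgroup.one_lt_card_iff_ne_bot _).2 c.pCore_ne_bot)
  have h2 := c.ih _ hlt (T.mapSurjective hf) h1
  set W := centerThompsonAOf ((T.mapSurjective hf : Sylow p (G ⧸ pCore p G)) :
    Subgroup (G ⧸ pCore p G)) with hW
  have hTX : (T : Subgroup G) ≤ (normalizer (W : Set (G ⧸ pCore p G))).comap f := by
    rw [← Subgroup.map_le_iff_le_comap, ← Sylow.coe_mapSurjective (hf := hf)]
    exact (le_normalizer).trans (normalizer_le_normalizer_centerThompsonAOf _)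
  have hX : (normalizer (W : Set (G ⧸ pCore p G))).comap f ≠ ⊤ := by
    intro htop
    have h3 : normalizer (W : Set (G ⧸ pCore p G)) = ⊤ := by
      rw [eq_top_iff]
      intro y _
      obtain ⟨x, rfl⟩ := hf y
      have : x ∈ (normalizer (W : Set (G ⧸ pCore p G))).comap f := by rw [htop]; trivial
      exact this
    have h4 : W.Normal := normalizer_eq_top_iff.1 h3
    have hWp : IsPGroup p W := (Sylow.isPGroup' _).to_le (centerThompsonAOf_le _)
    have h5 : W ≤ pCore p (G ⧸ pCore p G) := Lib.Cores.le_pCore h4 hWp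
    rw [Lib.Cores.pCore_quotient_pCore, le_bot_iff] at h5
    have h6 : ((T.mapSurjective hf : Sylow p (G ⧸ pCore p G)) : Subgroup (G ⧸ pCore p G)) = ⊥ := by
      by_contra h7
      exact centerThompsonAOf_ne_bot _ (Sylow.isPGroup' _) h7 h5
    rw [Sylow.coe_mapSurjective, Subgroup.map_eq_bot_iff, hker] at h6
    exact c.not_le_pCore h6
  apply c.not_of_sub hTX hX
  exact h2.of_surjective hp2 (f.subgroupComap _) (by
    rintro ⟨y, hy⟩
    obtain ⟨x, rfl⟩ := hf y
    exact ⟨⟨x, hy⟩, rfl⟩)

/-- `C_G(O_p(G)) ≤ O_p(G)`. -/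
theorem Ctx.centralizer_le [hp : Fact p.Prime] (hp2 : p ≠ 2) (c : Ctx p G T) :
    centralizer (pCore p G : Set G) ≤ pCore p G := by
  classical
  have hQn : (pCore p G).Normal := Lib.Cores.pCore_normal p
  have hQp : IsPGroup p (pCore p G) := Lib.Cores.pCore_isPGroup p
  set C := centralizer (pCore p G : Set G) with hC
  have hCn : C.Normal := by rw [hC]; infer_instance
  set K := C ⊔ pCore p G with hK
  have hKn : K.Normal := by rw [hK]; infer_instance
  have hfr := H571.SylowNumber.normalizer_inf_sup_eq_top T K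
  set S := (T : Subgroup G) ⊓ K with hS
  have hQS : pCore p G ≤ S := le_inf (Lib.Cores.pCore_le_sylow T) le_sup_right
  have hTN : (T : Subgroup G) ≤ normalizer (S : Set G) := by
    intro t ht
    rw [mem_normalizer_iff]
    intro y
    rw [hS, mem_inf, mem_inf]
    constructor
    · rintro ⟨h1, h2⟩
      exact ⟨mul_mem (mul_mem ht h1) (inv_mem ht), hKn.conj_mem y h2 t⟩
    · rintro ⟨h1, h2⟩
      have e : y = t⁻¹ * (t * y * t⁻¹) * t := by group
      constructor
      · rw [e]; exact mul_mem (mul_mem (inv_mem ht) h1) ht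
      · rw [e]
        have := hKn.conj_mem _ h2 t⁻¹
        rwa [inv_inv] at this
  have hNtop : normalizer (S : Set G) = ⊤ := by
    by_contra hne
    apply c.not_of_sub hTN hne
    obtain ⟨x, g, hx, ⟨k, hk⟩, hinv⟩ := c.inv
    have hxQ : x ∈ pCore p G := by
      by_contra hxQ
      apply c.quotient hp2
      refine HasInv.of_image (QuotientGroup.mk' (pCore p G)) (x := x) (g := g) ?_ ⟨k, hk⟩ hinv
      intro h
      exact hxQ ((QuotientGroup.eq_one_iff x).1 h)
    -- `g = c n`
    have h1 : C ⊔ normalizer (S : Set G) = ⊤ := by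
      rw [eq_top_iff, ← hfr, hK]
      refine sup_le le_sup_right (sup_le le_sup_left ?_)
      exact hQS.trans (le_normalizer.trans le_sup_right)
    have h2 : g ∈ C ⊔ normalizer (S : Set G) := by rw [h1]; trivial
    obtain ⟨d, hd, n, hn, rfl⟩ := Subgroup.mem_sup_of_normal_left.1 h2
    have hnx : n * x * n⁻¹ = x⁻¹ := by
      have h3 : x⁻¹ = d⁻¹ * x⁻¹ * d := by
        have := mem_centralizer_iff.1 hd x⁻¹ (inv_mem hxQ)
        rw [mul_assoc, this, inv_mul_cancel_left]
      rw [h3, ← hinv]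
      group
    exact hasInv_subgroup (le_normalizer (hQS hxQ)) hn hx ⟨k, hk⟩ hnx
  have hSn : S.Normal := normalizer_eq_top_iff.1 hNtop
  have hSQ : S ≤ pCore p G := Lib.Cores.le_pCore hSn (T.isPGroup'.to_le inf_le_left)
  -- the Sylow `p`-subgroup of `C` is central
  obtain ⟨P⟩ : Nonempty (Sylow p C) := inferInstance
  have hPQ : (P : Subgroup C).map C.subtype ≤ pCore p G := by
    obtain ⟨T', hT'⟩ := (P.isPGroup'.map C.subtype).exists_le_sylow
    obtain ⟨g, hg⟩ := MulAction.exists_smul_eq G T T'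
    intro x hx
    have h1 : g⁻¹ * x * g ∈ (T : Subgroup G) := by
      have h2 := hT' hx
      rw [← hg, Sylow.coe_subgroup_smul, Subgroup.mem_pointwise_smul_iff_inv_smul_mem] at h2
      have h5 : (MulAut.conj g)⁻¹ • x = g⁻¹ * x * g := by
        rw [← map_inv, MulAut.smul_def, MulAut.conj_apply, inv_inv]
      rwa [h5] at h2
    have h2 : g⁻¹ * x * g ∈ K := by
      have h3 : x ∈ C := by
        obtain ⟨y, _, rfl⟩ := hx
        exact y.2
      have := hCn.conj_mem x h3 g⁻¹
      rw [inv_inv] at this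
      exact (le_sup_left : C ≤ K) this
    have h3 := hQn.conj_mem _ (hSQ ⟨h1, h2⟩) g
    have e : g * (g⁻¹ * x * g) * g⁻¹ = x := by group
    rwa [e] at h3
  have hPc : ∀ y ∈ (P : Subgroup C), ∀ z : C, y * z = z * y := by
    intro y hy z
    apply Subtype.ext
    exact mem_centralizer_iff.1 z.2 y (hPQ ⟨y, hy, rfl⟩)
  have hNC : normalizer ((P : Subgroup C) : Set C) ≤ centralizer ((P : Subgroup C) : Set C) := by
    intro z _
    rw [mem_centralizer_iff]
    intro y hy
    exact hPc y hy z
  have hcompl := MonoidHom.ker_transferSylow_isComplement' P hNC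
  have hnd := MonoidHom.not_dvd_card_ker_transferSylow P hNC
  have hkn : (MonoidHom.transferSylow P hNC).ker.Normal := by infer_instance
  have hkle : (MonoidHom.transferSylow P hNC).ker ≤ pPrimeCore p C := by
    apply Lib.Cores.le_pPrimeCore hkn
    exact ((Nat.Prime.coprime_iff_not_dvd hp.out).2 hnd).symm
  have hpp : pPrimeCore p C = ⊥ := by
    have h1 := Lib.Cores.map_subtype_pPrimeCore p hCn
    rw [c.pPrimeCore_eq_bot hp2, inf_bot_eq] at h1
    exact (Subgroup.map_eq_bot_iff_of_injective _ C.subtype_injective).1 h1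
  rw [hpp, le_bot_iff] at hkle
  rw [hkle] at hcompl
  have hPtop : (P : Subgroup C) = ⊤ := by
    rw [Subgroup.isComplement'_bot_left] at hcompl
    exact hcompl
  intro x hx
  apply hPQ
  exact ⟨⟨x, hx⟩, by rw [hPtop]; trivial, rfl⟩

/-- Proper overgroups of `T` have odd order. -/
theorem Ctx.odd [hp : Fact p.Prime] (hp2 : p ≠ 2) (c : Ctx p G T) {H : Subgroup G}
    (hT : (T : Subgroup G) ≤ H) (hH : H ≠ ⊤) : ¬ 2 ∣ Nat.card H := by
  classical
  intro h2
  have hfact : Fact (Nat.Prime 2) := ⟨Nat.prime_two⟩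
  obtain ⟨t, ht⟩ := exists_prime_orderOf_dvd_card' (G := H) 2 h2
  apply c.not_of_sub hT hH
  have hQn : (pCore p G).Normal := Lib.Cores.pCore_normal p
  have hQp : IsPGroup p (pCore p G) := Lib.Cores.pCore_isPGroup p
  have hQH : pCore p G ≤ H := (Lib.Cores.pCore_le_sylow T).trans hT
  have hn : ((pCore p G).subgroupOf H).Normal := by infer_instance
  refine hasInv_of_action (R := (pCore p G).subgroupOf H) (g := t) ?_ ?_ ?_ ?_
  · exact hQp.of_equiv (Subgroup.subgroupOfEquivOfLe hQH).symm
  · rw [normalizer_eq_top_iff.2 hn]; trivial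
  · exact ⟨1, by rw [pow_one, ← ht, pow_orderOf_eq_one]⟩
  · intro hc
    have h1 : (t : G) ∈ centralizer (pCore p G : Set G) := by
      rw [mem_centralizer_iff]
      intro y hy
      exact congrArg Subtype.val (mem_centralizer_iff.1 hc ⟨y, hQH hy⟩ hy)
    have h2 := c.centralizer_le hp2 h1
    obtain ⟨k, hk⟩ := hQp ⟨_, h2⟩
    have h3 : (t : G) ^ p ^ k = 1 := congrArg Subtype.val hk
    have h4 : orderOf (t : G) = 2 := by rw [Subgroup.orderOf_coe, ht]
    have h5 : 2 ∣ p ^ k := by rw [← h4]; exact orderOf_dvd_of_pow_eq_one h3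
    have h6 := Nat.prime_two.dvd_of_dvd_pow h5
    exact hp2 ((Nat.prime_dvd_prime_iff_eq Nat.prime_two hp.out).1 h6).symm

/-- A group of odd order involves no `SL₂(p)`. -/
theorem not_inv_of_odd [hp : Fact p.Prime] (hp2 : p ≠ 2) {H : Type*} [Group H] [Finite H]
    (h : ¬ 2 ∣ Nat.card H) :
    ¬ PLocal.StableOfNotInvolves.Inv H (Matrix.SpecialLinearGroup (Fin 2) (ZMod p)) := by
  rintro ⟨K, f, hf⟩
  apply h
  have h1 : Nat.card (Matrix.SpecialLinearGroup (Fin 2) (ZMod p)) ∣ Nat.card K :=
    Subgroup.card_dvd_of_surjective f hf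
  have hneg : (-1 : Matrix.SpecialLinearGroup (Fin 2) (ZMod p)) ≠ 1 := by
    intro h
    have h1 := congrArg (fun g : Matrix.SpecialLinearGroup (Fin 2) (ZMod p) => g.1 0 0) h
    simp at h1
    have h4 : ((2 : ℕ) : ZMod p) = 0 := by
      push_cast
      linear_combination -h1
    rw [CharP.cast_eq_zero_iff (ZMod p) p] at h4
    exact hp2 ((Nat.prime_dvd_prime_iff_eq Fact.out Nat.prime_two).1 h4)
  have hneg2 : (-1 : Matrix.SpecialLinearGroup (Fin 2) (ZMod p)) ^ 2 = 1 := by simp
  have h3 : orderOf (-1 : Matrix.SpecialLinearGroup (Fin 2) (ZMod p)) = 2 :=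
    orderOf_eq_prime hneg2 hneg
  have h4 := orderOf_dvd_natCard (-1 : Matrix.SpecialLinearGroup (Fin 2) (ZMod p))
  rw [h3] at h4
  exact h4.trans (h1.trans (Subgroup.card_subgroup_dvd_card K))

/-- Proper overgroups of `T` normalize `Z(J(T))`. -/
theorem Ctx.le_norm [hp : Fact p.Prime] (hp2 : p ≠ 2) (c : Ctx p G T) {H : Subgroup G}
    (hT : (T : Subgroup G) ≤ H) (hH : H ≠ ⊤) :
    H ≤ normalizer (centerThompsonAOf (T : Subgroup G) : Set G) := by
  classical
  have hodd := c.odd hp2 hT hH
  have hQn : (pCore p G).Normal := Lib.Cores.pCore_normal p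
  have hQp : IsPGroup p (pCore p G) := Lib.Cores.pCore_isPGroup p
  have hQH : pCore p G ≤ H := (Lib.Cores.pCore_le_sylow T).trans hT
  have hn : ((pCore p G).subgroupOf H).Normal := by infer_instance
  have hle : (pCore p G).subgroupOf H ≤ pCore p H :=
    Lib.Cores.le_pCore hn (hQp.of_equiv (Subgroup.subgroupOfEquivOfLe hQH).symm)
  have hc : centralizer (pCore p H : Set H) ≤ pCore p H := by
    refine le_trans ?_ hle
    intro x hx
    have h1 : (x : G) ∈ centralizer (pCore p G : Set G) := by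
      rw [mem_centralizer_iff]
      intro y hy
      exact congrArg Subtype.val (mem_centralizer_iff.1 hx ⟨y, hQH hy⟩ (hle hy))
    exact c.centralizer_le hp2 h1
  have h1 := S0653.result hp2 hc
    (fun P _ hP => PLocal.StableOfNotInvolves.isPStableOn_of_not_involves hp2
      (not_inv_of_odd hp2 hodd) P hP) (T.subtype hT)
  have h2 : (centerThompsonAOf ((T.subtype hT : Sylow p H) : Subgroup H)).Normal := by
    infer_instance
  have h3 : (centerThompsonAOf ((T.subtype hT : Sylow p H) : Subgroup H)).map H.subtype =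
      centerThompsonAOf (T : Subgroup G) := by
    rw [map_centerThompsonAOf H.subtype H.subtype_injective, Sylow.coe_subtype,
      Subgroup.subgroupOf_map_subtype, inf_eq_left.2 hT]
  rw [← h3]
  have h4 := Subgroup.le_normalizer_map (H := centerThompsonAOf ((T.subtype hT : Sylow p H) :
    Subgroup H)) H.subtype
  rw [normalizer_eq_top_iff.2 h2] at h4
  refine le_trans ?_ h4
  rw [← MonoidHom.range_eq_map, Subgroup.range_subtype]

open scoped commutatorElement in
/-- There is no minimal counterexample. -/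
theorem Ctx.false [hp : Fact p.Prime] (hp2 : p ≠ 2) (c : Ctx p G T) : False := by
  classical
  set M := normalizer (centerThompsonAOf (T : Subgroup G) : Set G) with hM
  have hTM : (T : Subgroup G) ≤ M :=
    le_normalizer.trans (normalizer_le_normalizer_centerThompsonAOf _)
  have hMtop : M ≠ ⊤ := by
    intro h
    apply c.not
    rw [← hM, h]
    exact c.inv.map (topEquiv (G := G)).symm.toMonoidHom (topEquiv (G := G)).symm.injective
  -- a normal `p`-subgroup on which `G` is not `p`-stable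
  obtain ⟨B, hBn, hBp, hB⟩ : ∃ (B : Subgroup G) (_ : B.Normal), IsPGroup p B ∧
      ¬ IsPStableOn p B := by
    by_contra hcon
    push Not at hcon
    have h1 := S0653.result hp2 (c.centralizer_le hp2) (fun P hPn hP => hcon P hPn hP) T
    have h2 : (centerThompsonAOf (T : Subgroup G)).Normal := by infer_instance
    exact hMtop (normalizer_eq_top_iff.2 h2)
  unfold IsPStableOn at hB
  push Not at hB
  obtain ⟨a, hquad, hna⟩ := hB
  set C := centralizer (B : Set G) with hC
  have hCn : C.Normal := by rw [hC]; infer_instance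
  let f : G →* G ⧸ C := QuotientGroup.mk' C
  have hf : Function.Surjective f := QuotientGroup.mk'_surjective C
  have hker : f.ker = C := QuotientGroup.ker_mk' C
  have hfa : f a ∉ pCore p (G ⧸ C) := hna
  have hCM : C ≤ M := by
    by_cases h : C ⊔ (T : Subgroup G) = ⊤
    · exfalso
      apply hfa
      have h1 : IsPGroup p (G ⧸ C) := by
        have h2 : (T : Subgroup G).map f = ⊤ := by
          have h3 : (C ⊔ (T : Subgroup G)).map f = ⊤ := by
            rw [h, ← MonoidHom.range_eq_map, MonoidHom.range_eq_top.2 hf]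
          rw [Subgroup.map_sup, (Subgroup.map_eq_bot_iff C).2 hker.ge, bot_sup_eq] at h3
          exact h3
        have h4 := T.isPGroup'.map f
        rw [h2] at h4
        exact h4.of_equiv topEquiv
      rw [(Lib.Cores.pCore_eq_top_iff p).2 h1]
      trivial
    · exact le_sup_left.trans (c.le_norm hp2 le_sup_right h)
  have hcomap : (M.map f).comap f = M := by
    rw [Subgroup.comap_map_eq, hker, sup_eq_left.2 hCM]
  have hNtop : M.map f ≠ ⊤ := by
    intro h
    rw [h, Subgroup.comap_top] at hcomap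
    exact hMtop hcomap.symm
  have hodd : ¬ 2 ∣ Nat.card (M.map f) := by
    intro h
    exact c.odd hp2 hTM hMtop (h.trans (Subgroup.card_dvd_of_surjective (f.subgroupMap M)
      (f.subgroupMap_surjective M)))
  -- the element `a` has `p`-power order modulo `C`
  have hcomm : ∀ b ∈ B, ⁅b, a⁆ ∈ B ∧ Commute ⁅b, a⁆ a := by
    intro b hb
    refine ⟨?_, ?_⟩
    · rw [commutatorElement_def]
      have := hBn.conj_mem _ (inv_mem hb) a
      have e : b * a * b⁻¹ * a⁻¹ = b * (a * b⁻¹ * a⁻¹) := by group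
      rw [e]
      exact mul_mem hb this
    · have h1 : ⁅⁅b, a⁆, a⁆ ∈ ⁅⁅B, Subgroup.zpowers a⁆, Subgroup.zpowers a⁆ :=
        Subgroup.commutator_mem_commutator
          (Subgroup.commutator_mem_commutator hb (mem_zpowers a)) (mem_zpowers a)
      rw [hquad, mem_bot, commutatorElement_eq_one_iff_mul_comm] at h1
      exact h1
  obtain ⟨k, hk⟩ := PLocal.StableOfNotInvolves.exists_pow_mem_centralizer_of_commute hBp hcomm
  have hfak : (f a) ^ p ^ k = 1 := by
    rw [← map_pow, ← MonoidHom.mem_ker, hker]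
    exact hk
  have hAp : IsPGroup p (zpowers (f a)) := by
    rintro ⟨y, hy⟩
    obtain ⟨m, rfl⟩ := mem_zpowers_iff.1 hy
    refine ⟨k, Subtype.ext ?_⟩
    change ((f a) ^ m) ^ p ^ k = 1
    rw [← zpow_natCast, ← zpow_mul, mul_comm, zpow_mul, zpow_natCast, hfak, one_zpow]
  obtain ⟨y, L, L₀, hL₀, hAL, hRL, hne, hmax, hti⟩ :=
    H990.LLem.exists_lifted (T.mapSurjective hf) (M.map f)
      (by rw [Sylow.coe_mapSurjective]; exact Subgroup.map_mono hTM) hNtop
      (by
        intro K hK hKtop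
        rw [Sylow.coe_mapSurjective, Subgroup.map_le_iff_le_comap] at hK
        have h1 : K.comap f ≠ ⊤ := by
          intro h
          apply hKtop
          rw [eq_top_iff]
          intro z _
          obtain ⟨w, rfl⟩ := hf z
          have : w ∈ K.comap f := by rw [h]; trivial
          exact this
        have h2 := c.le_norm hp2 hK h1
        rw [← Subgroup.map_comap_eq_self_of_surjective hf K]
        exact Subgroup.map_mono h2)
      hAp (by rw [zpowers_le]; exact hfa)
  have hL₀L : L₀ ≤ L := by rw [hL₀]; exact inf_le_left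
  obtain ⟨x, hxL, hxL₀⟩ := SetLike.exists_of_lt (lt_of_le_of_ne hL₀L hne)
  set R := pCore p (G ⧸ C) with hR
  have hRn : R.Normal := Lib.Cores.pCore_normal p
  have hRp : IsPGroup p R := Lib.Cores.pCore_isPGroup p
  set a' := f a with ha'
  set b' := x * a' * x⁻¹ with hb'
  have ha'L₀ : a' ∈ L₀ := hAL (mem_zpowers a')
  have ha'L : a' ∈ L := hL₀L ha'L₀
  have hb'L : b' ∈ L := mul_mem (mul_mem hxL ha'L) (inv_mem hxL)
  set K := closure ({a', b'} : Set (G ⧸ C)) with hK
  have ha'K : a' ∈ K := subset_closure (by simp)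
  have hb'K : b' ∈ K := subset_closure (by simp)
  have hKL : K ≤ L := by
    rw [hK, closure_le]
    rintro z (rfl | rfl)
    · exact ha'L
    · exact hb'L
  have hKR : K ⊔ R = L := by
    by_contra h
    have h1 := hmax (K ⊔ R) (by rw [zpowers_le]; exact (le_sup_left : K ≤ K ⊔ R) ha'K)
      le_sup_right (sup_le hKL (hRL.trans hL₀L)) h
    have h2 : b' ∈ L₀ := h1 ((le_sup_left : K ≤ K ⊔ R) hb'K)
    have h3 : x⁻¹ ∈ L₀ := by
      apply hti _ (inv_mem hxL)
      rw [zpowers_le, H990.Norm.mem_cj, inv_inv]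
      exact h2
    exact hxL₀ (by rw [← inv_inv x]; exact inv_mem h3)
  -- the action on `B`
  let φ : G →* MulAut B := MulAut.conjNormal
  have hφ : ∀ (g : G) (v : B), ((φ g v : B) : G) = g * v * g⁻¹ := fun g v =>
    MulAut.conjNormal_apply g v
  have hφC : ∀ g, φ g = 1 ↔ g ∈ C := by
    intro g
    rw [hC, mem_centralizer_iff]
    constructor
    · intro h v hv
      have h1 := hφ g ⟨v, hv⟩
      rw [h] at h1
      have h2 : v = g * v * g⁻¹ := h1
      calc v * g = (g * v * g⁻¹) * g := by rw [← h2]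
        _ = g * v := by group
    · intro h
      ext v
      rw [hφ]
      have := h v v.2
      change g * v * g⁻¹ = v
      rw [← this, mul_inv_cancel_right]
  let ψ : G ⧸ C →* MulAut B := QuotientGroup.lift C φ (fun g hg => (hφC g).2 hg)
  have hψ : ∀ g : G, ψ (f g) = φ g := fun g => rfl
  have hψi : ∀ z, ψ z = 1 → z = 1 := by
    intro z hz
    obtain ⟨g, rfl⟩ := hf z
    rw [hψ, hφC] at hz
    exact (QuotientGroup.eq_one_iff g).2 hz
  have hqa : ∀ v : B, ψ a' (v⁻¹ * ψ a' v) = v⁻¹ * ψ a' v := by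
    intro v
    rw [ha', hψ]
    apply Subtype.ext
    have h1 := (hcomm _ (inv_mem v.2)).2
    rw [hφ]
    have e : (((v⁻¹ * φ a v : B) : G)) = ⁅(v : G)⁻¹, a⁆ := by
      rw [Subgroup.coe_mul, Subgroup.coe_inv, hφ, commutatorElement_def, inv_inv]
      group
    rw [e, ← h1.eq, mul_inv_cancel_right]
  have hqb : ∀ v : B, ψ b' (v⁻¹ * ψ b' v) = v⁻¹ * ψ b' v := by
    intro v
    obtain ⟨w, rfl⟩ := (ψ x).surjective v
    have e1 : ψ b' (ψ x w) = ψ x (ψ a' w) := by
      rw [← MulAut.mul_apply, ← MulAut.mul_apply, ← map_mul, ← map_mul, hb',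
        inv_mul_cancel_right]
    have e2 : ∀ w' : B, ψ b' (ψ x w') = ψ x (ψ a' w') := by
      intro w'
      rw [← MulAut.mul_apply, ← MulAut.mul_apply, ← map_mul, ← map_mul, hb',
        inv_mul_cancel_right]
    rw [e1, ← map_inv, ← map_mul, e2, hqa]
  let α : K →* MulAut B := ψ.comp K.subtype
  have hab : closure ({⟨a', ha'K⟩, ⟨b', hb'K⟩} : Set K) = ⊤ := by
    apply Subgroup.map_injective K.subtype_injective
    rw [MonoidHom.map_closure, Set.image_pair, ← MonoidHom.range_eq_map, Subgroup.range_subtype]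
    exact hK.symm
  have hnp : ¬ ∀ k : K, ∃ n, (α k) ^ p ^ n = 1 := by
    intro hall
    have hKp : IsPGroup p K := by
      intro k
      obtain ⟨n, hn⟩ := hall k
      refine ⟨n, Subtype.ext ?_⟩
      apply hψi
      have : α (k ^ p ^ n) = 1 := by rw [map_pow, hn]
      exact this
    have hLp : IsPGroup p L := by
      rw [← hKR]
      exact hKp.to_sup_of_normal_right hRp
    have hnil : Group.IsNilpotent L := hLp.isNilpotent
    have hlt : L₀.subgroupOf L < ⊤ := by
      rw [lt_top_iff_ne_top, Ne, subgroupOf_eq_top]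
      intro h
      exact hne (le_antisymm hL₀L h)
    obtain ⟨l, hl1, hl2⟩ := SetLike.exists_of_lt (Group.normalizerCondition_of_isNilpotent _ hlt)
    apply hl2
    change (l : G ⧸ C) ∈ L₀
    apply hti _ l.2
    refine hAL.trans ?_
    intro z hz
    rw [H990.Norm.mem_cj]
    have h1 := (mem_normalizer_iff.1 (inv_mem hl1) ⟨z, hL₀L hz⟩).1 hz
    have h2 : ((l⁻¹ * ⟨z, hL₀L hz⟩ * (l⁻¹)⁻¹ : L) : G ⧸ C) ∈ L₀ := h1
    have e : ((l⁻¹ * ⟨z, hL₀L hz⟩ * (l⁻¹)⁻¹ : L) : G ⧸ C) =
        (l : G ⧸ C)⁻¹ * z * (l : G ⧸ C) := by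
      rw [inv_inv]; rfl
    rwa [e] at h2
  have hSL := SLPair.exists_sl_map hBp α ⟨a', ha'K⟩ ⟨b', hb'K⟩ hab hqa hqb hnp
  obtain ⟨X, haX, hXtop, hX2, hXR⟩ := SLPair.exists_even_proper hp2 hab hSL
  have hXRK : R.subgroupOf K ≤ X := by
    apply hXR
    · infer_instance
    · exact hRp.comap_of_injective K.subtype K.subtype_injective
  have hne' : X.map K.subtype ⊔ R ≠ L := by
    intro h
    apply hXtop
    rw [eq_top_iff]
    intro k _
    have h1 : (k : G ⧸ C) ∈ X.map K.subtype ⊔ R := by rw [h]; exact hKL k.2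
    obtain ⟨z, ⟨z', hz', rfl⟩, r, hr, hzr⟩ := Subgroup.mem_sup_of_normal_right.1 h1
    have h2 : z'⁻¹ * k ∈ R.subgroupOf K := by
      rw [mem_subgroupOf]
      have e : ((z'⁻¹ * k : K) : G ⧸ C) = r := by
        rw [Subgroup.coe_mul, Subgroup.coe_inv, ← hzr]
        exact inv_mul_cancel_left _ _
      rw [e]
      exact hr
    have h3 := mul_mem hz' (hXRK h2)
    rwa [mul_inv_cancel_left] at h3
  have h1 := hmax (X.map K.subtype ⊔ R)
    (by
      rw [zpowers_le]
      exact (le_sup_left : X.map K.subtype ≤ X.map K.subtype ⊔ R) ⟨_, haX, rfl⟩)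
    le_sup_right
    (sup_le ((Subgroup.map_subtype_le X).trans hKL) (hRL.trans hL₀L)) hne'
  have h2 : X.map K.subtype ≤ MulAut.conj y • M.map f := by
    refine (le_sup_left.trans h1).trans ?_
    rw [hL₀]
    exact inf_le_right
  apply hodd
  have h3 : Nat.card (X.map K.subtype) = Nat.card X :=
    (Nat.card_congr (X.equivMapOfInjective K.subtype K.subtype_injective).toEquiv).symm
  have h4 : Nat.card ↥(MulAut.conj y • M.map f) = Nat.card (M.map f) :=
    (Nat.card_congr ((M.map f).equivMapOfInjective (MulAut.conj y).toMonoidHom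
      (MulAut.conj y).injective).toEquiv).symm
  rw [← h4]
  rw [← h3] at hX2
  exact hX2.trans (Subgroup.card_dvd_of_le h2)

/-- **If some nonidentity `p`-element of `G` is inverted, `p` odd, then one of `N_G(Z(J(T)))` is
inverted in `N_G(Z(J(T)))`.** -/
theorem main [hp : Fact p.Prime] (hp2 : p ≠ 2) (G : Type u) [Group G] [Finite G] : Good p G := by
  obtain ⟨n, hn⟩ : ∃ n, n = Nat.card G := ⟨_, rfl⟩
  induction n using Nat.strong_induction_on generalizing G with
  | _ n ih =>
    intro T hinv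
    by_contra hcon
    have c : Ctx p G T :=
      ⟨fun H _ _ hlt => ih (Nat.card H) (by rw [hn]; exact hlt) H rfl, hinv, hcon⟩
    exact c.false hp2

end Cfsg.Agent.H36.RealLocal
end

-- part: H36/RealTwo
section
/-!
# Normal Sylow `2`-subgroups and inverted elements of odd prime power order
-/

set_option autoImplicit false

namespace Cfsg.Agent.H36.RealTwo

open Subgroup Cfsg Cfsg.Agent.H36.HasInv

variable {G : Type*} [Group G] [Finite G]

theorem odd_of_ne_two {q : ℕ} [hq : Fact q.Prime] (hq2 : q ≠ 2) {x : G}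
    (hx : ∃ k : ℕ, x ^ q ^ k = 1) (h2 : ∃ k : ℕ, x ^ 2 ^ k = 1) : x = 1 := by
  obtain ⟨k, hk⟩ := hx
  obtain ⟨m, hm⟩ := h2
  have h5 : (q ^ k).Coprime (2 ^ m) := by
    apply Nat.Coprime.pow
    rw [Nat.coprime_primes hq.out Nat.prime_two]
    exact hq2
  have h6 : orderOf x ∣ Nat.gcd (q ^ k) (2 ^ m) :=
    Nat.dvd_gcd (orderOf_dvd_of_pow_eq_one hk) (orderOf_dvd_of_pow_eq_one hm)
  rw [h5] at h6
  exact orderOf_eq_one_iff.1 (Nat.dvd_one.1 h6)

/-- A Sylow `2`-subgroup that is normal is the whole of `O_2(G)`. -/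
theorem sylow_le_pCore (h : ∀ P : Sylow 2 G, (P : Subgroup G).Normal) (P : Sylow 2 G) :
    (P : Subgroup G) ≤ pCore 2 G := Lib.Cores.le_pCore (h P) P.isPGroup'

theorem mem_pCore_of_pow (h : ∀ P : Sylow 2 G, (P : Subgroup G).Normal) {g : G}
    (hg : ∃ k : ℕ, g ^ 2 ^ k = 1) : g ∈ pCore 2 G := by
  have hp : IsPGroup 2 (zpowers g) := by
    obtain ⟨k, hk⟩ := hg
    rintro ⟨y, hy⟩
    obtain ⟨m, rfl⟩ := mem_zpowers_iff.1 hy
    refine ⟨k, Subtype.ext ?_⟩
    change (g ^ m) ^ 2 ^ k = 1
    rw [← zpow_natCast, ← zpow_mul, mul_comm, zpow_mul, zpow_natCast, hk, one_zpow]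
  have hfact : Fact (Nat.Prime 2) := ⟨Nat.prime_two⟩
  obtain ⟨P, hP⟩ := hp.exists_le_sylow
  exact sylow_le_pCore h P (hP (mem_zpowers g))

theorem not_hasInv_of_normal (h : ∀ P : Sylow 2 G, (P : Subgroup G).Normal) {q : ℕ}
    [hq : Fact q.Prime] (hq2 : q ≠ 2) : ¬ HasInv q G := by
  rintro ⟨x, g, hx, hxp, hinv⟩
  obtain ⟨e, r, hr, her⟩ := Nat.exists_eq_two_pow_mul_odd (orderOf_pos g).ne'
  have hg2 : ∃ k : ℕ, (g ^ r) ^ 2 ^ k = 1 := ⟨e, by
    rw [← pow_mul, mul_comm, ← her, pow_orderOf_eq_one]⟩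
  have h1 := pow_odd_inv hinv r hr
  have hR := mem_pCore_of_pow h hg2
  have hn : (pCore 2 G).Normal := Lib.Cores.pCore_normal 2
  set t := g ^ r with ht
  have h2 : x * t * x⁻¹ * t⁻¹ ∈ pCore 2 G := mul_mem (hn.conj_mem _ hR x) (inv_mem hR)
  have h3 : x * t * x⁻¹ * t⁻¹ = x ^ 2 := by
    have e : x * t * x⁻¹ * t⁻¹ = x * (t * x * t⁻¹)⁻¹ := by group
    rw [e, h1, inv_inv, pow_two]
  rw [h3] at h2
  have hfact : Fact (Nat.Prime 2) := ⟨Nat.prime_two⟩
  obtain ⟨k, hk⟩ := Lib.Cores.pCore_isPGroup (G := G) 2 ⟨_, h2⟩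
  have hk' : (x ^ 2) ^ 2 ^ k = 1 := congrArg Subtype.val hk
  apply hx
  apply odd_of_ne_two hq2 hxp
  refine ⟨1 + k, ?_⟩
  rw [pow_add, pow_mul, pow_one]
  exact hk'

theorem normal_sub (h : ∀ P : Sylow 2 G, (P : Subgroup G).Normal) (N : Subgroup G)
    (P : Sylow 2 N) : (P : Subgroup N).Normal := by
  have hfact : Fact (Nat.Prime 2) := ⟨Nat.prime_two⟩
  have hn : (pCore 2 G).Normal := Lib.Cores.pCore_normal 2
  have h1 : (P : Subgroup N) ≤ (pCore 2 G).subgroupOf N := by
    intro y hy
    rw [mem_subgroupOf]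
    apply mem_pCore_of_pow h
    obtain ⟨k, hk⟩ := P.isPGroup' ⟨y, hy⟩
    refine ⟨k, ?_⟩
    have := congrArg (fun z : (P : Subgroup N) => ((z : N) : G)) hk
    exact this
  have h2 : IsPGroup 2 ((pCore 2 G).subgroupOf N) :=
    (Lib.Cores.pCore_isPGroup 2).comap_of_injective N.subtype N.subtype_injective
  rw [← P.is_maximal' h2 h1]
  infer_instance

theorem normal_of_not_hasInv (h : ∀ (q : ℕ) [Fact q.Prime], q ≠ 2 → ¬ HasInv q G)
    (P : Sylow 2 G) : (P : Subgroup G).Normal := by
  classical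
  have hfact : Fact (Nat.Prime 2) := ⟨Nat.prime_two⟩
  have hn : (pCore 2 G).Normal := Lib.Cores.pCore_normal 2
  by_cases hle : (P : Subgroup G) ≤ pCore 2 G
  · rw [le_antisymm hle (Lib.Cores.pCore_le_sylow P)]
    exact hn
  exfalso
  let f : G →* G ⧸ pCore 2 G := QuotientGroup.mk' (pCore 2 G)
  have hf : Function.Surjective f := QuotientGroup.mk'_surjective _
  have hker : f.ker = pCore 2 G := QuotientGroup.ker_mk' _
  have hPp : IsPGroup 2 ((P : Subgroup G).map f) := P.isPGroup'.map f
  have hPne : (P : Subgroup G).map f ≠ ⊥ := by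
    rw [Ne, Subgroup.map_eq_bot_iff, hker]
    exact hle
  obtain ⟨m, hm⟩ := IsPGroup.iff_card.1 hPp
  have hm0 : m ≠ 0 := by
    rintro rfl
    rw [pow_zero, Subgroup.card_eq_one] at hm
    exact hPne hm
  obtain ⟨t, ht⟩ := exists_prime_orderOf_dvd_card' (G := (P : Subgroup G).map f) 2 (by
    rw [hm]; exact dvd_pow_self 2 hm0)
  have ht2 : orderOf (t : G ⧸ pCore 2 G) = 2 := by rw [Subgroup.orderOf_coe, ht]
  have ht1 : (t : G ⧸ pCore 2 G) ≠ 1 := by
    intro h; rw [h, orderOf_one] at ht2; omega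
  obtain ⟨g, hg⟩ := S0656.exists_conj_not_pGroup (p := 2)
    (Lib.Cores.pCore_quotient_pCore (G := G) 2) (t : G ⧸ pCore 2 G) ht1 ⟨1, by rw [ht2, pow_one]⟩
  obtain ⟨τ, hτ⟩ : ∃ τ : G ⧸ pCore 2 G, τ = t := ⟨_, rfl⟩
  rw [← hτ] at hg ht2 ht1
  set s := g * τ * g⁻¹ with hs
  have hss : s * s = 1 := by
    have : τ * τ = 1 := by
      have h := pow_orderOf_eq_one τ
      rwa [ht2, pow_two] at h
    rw [hs]
    calc g * τ * g⁻¹ * (g * τ * g⁻¹) = g * (τ * τ) * g⁻¹ := by group
      _ = 1 := by rw [this]; group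
  have htt : τ * τ = 1 := by
    have h := pow_orderOf_eq_one τ
    rwa [ht2, pow_two] at h
  have hti : τ⁻¹ = τ := inv_eq_of_mul_eq_one_right htt
  have hsi : s⁻¹ = s := inv_eq_of_mul_eq_one_right hss
  have hconj : τ * (τ * s) * τ⁻¹ = (τ * s)⁻¹ := by
    rw [mul_inv_rev, hti, hsi, ← mul_assoc, htt, one_mul]
  -- `τ s` is not a `2`-element
  have hns : ¬ ∃ k : ℕ, (τ * s) ^ 2 ^ k = 1 := by
    rintro ⟨k, hk⟩
    apply hg
    have hA : IsPGroup 2 (zpowers (τ * s)) := by
      rintro ⟨y, hy⟩
      obtain ⟨j, rfl⟩ := mem_zpowers_iff.1 hy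
      refine ⟨k, Subtype.ext ?_⟩
      change ((τ * s) ^ j) ^ 2 ^ k = 1
      rw [← zpow_natCast, ← zpow_mul, mul_comm, zpow_mul, zpow_natCast, hk, one_zpow]
    have hB : IsPGroup 2 (zpowers τ) := by
      apply IsPGroup.of_card (n := 1)
      rw [Nat.card_zpowers, ht2, pow_one]
    have hBN : zpowers τ ≤ normalizer (zpowers (τ * s) : Set (G ⧸ pCore 2 G)) := by
      rw [zpowers_le, mem_normalizer_iff_map_conj_eq, MonoidHom.map_zpowers]
      change zpowers (τ * (τ * s) * τ⁻¹) = _
      rw [hconj, zpowers_inv]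
    have hU : IsPGroup 2 (zpowers τ ⊔ zpowers (τ * s) : Subgroup _) :=
      hB.to_sup_of_normal_right' hA hBN
    refine hU.to_le ?_
    rw [closure_le]
    rintro z (rfl | rfl)
    · exact (le_sup_left : zpowers z ≤ _) (mem_zpowers z)
    · have h1 : τ ∈ zpowers τ ⊔ zpowers (τ * s) :=
        (le_sup_left : zpowers τ ≤ _) (mem_zpowers τ)
      have h2 : τ * s ∈ zpowers τ ⊔ zpowers (τ * s) :=
        (le_sup_right : zpowers (τ * s) ≤ _) (mem_zpowers _)
      have h3 := mul_mem h1 h2
      have e : τ * (τ * s) = s := by rw [← mul_assoc, htt, one_mul]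
      rw [e] at h3
      exact h3
  -- an odd prime divisor of the order
  obtain ⟨q, hq, hqd, hq2⟩ : ∃ q : ℕ, q.Prime ∧ q ∣ orderOf (τ * s) ∧ q ≠ 2 := by
    by_contra hcon
    push Not at hcon
    apply hns
    refine ⟨(orderOf (τ * s)).primeFactorsList.length, ?_⟩
    have h1 : orderOf (τ * s) = 2 ^ (orderOf (τ * s)).primeFactorsList.length :=
      Nat.eq_prime_pow_of_unique_prime_dvd (orderOf_pos _).ne' (fun {d} hd hdd => hcon d hd hdd)
    rw [← h1, pow_orderOf_eq_one]
  have hqf : Fact q.Prime := ⟨hq⟩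
  obtain ⟨c, hc⟩ := hqd
  have hc0 : c ≠ 0 := by
    rintro rfl
    rw [mul_zero] at hc
    exact (orderOf_pos (τ * s)).ne' hc
  apply h q hq2
  refine HasInv.of_surjective hq2 f hf ⟨(τ * s) ^ c, τ, ?_, ⟨1, ?_⟩, ?_⟩
  · intro h1
    have h2 := orderOf_dvd_of_pow_eq_one h1
    rw [hc] at h2
    have h3 := Nat.le_of_dvd (Nat.pos_of_ne_zero hc0) h2
    have h4 := hq.two_le
    have h5 : 2 * c ≤ q * c := Nat.mul_le_mul_right c h4
    omega
  · rw [pow_one, ← pow_mul, mul_comm, ← hc, pow_orderOf_eq_one]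
  · rw [← conj_pow, hconj, inv_pow]

end Cfsg.Agent.H36.RealTwo
end

-- part: S2756
section
set_option autoImplicit false
open Cfsg

namespace Cfsg.Agent.S2756

/-- For a finite group G the following are equivalent: (a) G has a normal Sylow 2-subgroup; (b) for every odd prime q dividing the order of G and every Sylow q-subgroup T, the normalizer of Z(J(T)) has a normal Sylow 2-subgroup; (c) for every odd prime q and every Sylow q-subgroup T, no nonidentity element of T is inverted by an element of the normalizer of Z(J(T)). Here J(T) is the Thompson subgroup generated by the abelian subgroups of T of largest order. Stated as the two equivalences (a) ⇔ (b) and (a) ⇔ (c). -/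
theorem result {G : Type*} [Group G] [Finite G] : ((∀ P : Sylow 2 G, (P : Subgroup G).Normal) ↔ ∀ (q : ℕ) [Fact q.Prime], q ≠ 2 → q ∣ Nat.card G → ∀ T : Sylow q G, ∀ P : Sylow 2 ↥(Subgroup.normalizer (Cfsg.centerThompsonAOf (T : Subgroup G) : Set G)), (P : Subgroup ↥(Subgroup.normalizer (Cfsg.centerThompsonAOf (T : Subgroup G) : Set G))).Normal) ∧ ((∀ P : Sylow 2 G, (P : Subgroup G).Normal) ↔ ∀ (q : ℕ) [Fact q.Prime], q ≠ 2 → ∀ T : Sylow q G, ∀ x ∈ (T : Subgroup G), x ≠ 1 → ∀ g ∈ Subgroup.normalizer (Cfsg.centerThompsonAOf (T : Subgroup G) : Set G), g * x * g⁻¹ ≠ x⁻¹) := by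
  classical
  have key : ∀ (q : ℕ) [Fact q.Prime], q ≠ 2 → ∀ T : Sylow q G,
      (∀ x ∈ (T : Subgroup G), x ≠ 1 →
        ∀ g ∈ Subgroup.normalizer (Cfsg.centerThompsonAOf (T : Subgroup G) : Set G),
          g * x * g⁻¹ ≠ x⁻¹) ↔
        ¬ H36.HasInv.HasInv q
          (Subgroup.normalizer (Cfsg.centerThompsonAOf (T : Subgroup G) : Set G)) := by
    intro q _ hq T
    set N := Subgroup.normalizer (Cfsg.centerThompsonAOf (T : Subgroup G) : Set G) with hN
    have hTN : (T : Subgroup G) ≤ N :=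
      Subgroup.le_normalizer.trans
        (PLocal.ThompsonJA.normalizer_le_normalizer_centerThompsonAOf _)
    constructor
    · rintro h ⟨x, g, hx, ⟨k, hk⟩, hinv⟩
      -- conjugate `x` into `T`
      have hp : IsPGroup q (Subgroup.zpowers x) := by
        rintro ⟨y, hy⟩
        obtain ⟨m, rfl⟩ := Subgroup.mem_zpowers_iff.1 hy
        refine ⟨k, Subtype.ext ?_⟩
        change (x ^ m) ^ q ^ k = 1
        rw [← zpow_natCast, ← zpow_mul, mul_comm, zpow_mul, zpow_natCast, hk, one_zpow]
      obtain ⟨P, hP⟩ := hp.exists_le_sylow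
      obtain ⟨n, hn⟩ := MulAction.exists_smul_eq N (T.subtype hTN) P
      have h1 : n⁻¹ * x * n ∈ ((T.subtype hTN : Sylow q N) : Subgroup N) := by
        have h2 := hP (Subgroup.mem_zpowers x)
        rw [← hn, Sylow.coe_subgroup_smul, Subgroup.mem_pointwise_smul_iff_inv_smul_mem] at h2
        have h5 : (MulAut.conj n)⁻¹ • x = n⁻¹ * x * n := by
          rw [← map_inv, MulAut.smul_def, MulAut.conj_apply, inv_inv]
        rwa [h5] at h2
      have h2 : ((n⁻¹ * x * n : N) : G) ∈ (T : Subgroup G) := h1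
      refine h _ h2 ?_ ((n⁻¹ * g * n : N) : G) (n⁻¹ * g * n : N).2 ?_
      · intro h3
        have h4 : n⁻¹ * x * n = 1 := Subtype.ext h3
        apply hx
        calc x = n * (n⁻¹ * x * n) * n⁻¹ := by group
          _ = 1 := by rw [h4]; group
      · have h3 : (n⁻¹ * g * n) * (n⁻¹ * x * n) * (n⁻¹ * g * n)⁻¹ = (n⁻¹ * x * n)⁻¹ := by
          calc (n⁻¹ * g * n) * (n⁻¹ * x * n) * (n⁻¹ * g * n)⁻¹ = n⁻¹ * (g * x * g⁻¹) * n := by group
            _ = (n⁻¹ * x * n)⁻¹ := by rw [hinv]; group
        exact congrArg Subtype.val h3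
    · intro h x hx hx1 g hg hinv
      apply h
      obtain ⟨k, hk⟩ := T.isPGroup' ⟨x, hx⟩
      exact H36.HasInv.hasInv_subgroup (hTN hx) hg hx1 ⟨k, congrArg Subtype.val hk⟩ hinv
  have hac : (∀ P : Sylow 2 G, (P : Subgroup G).Normal) →
      ∀ (q : ℕ) [Fact q.Prime], q ≠ 2 → ∀ T : Sylow q G,
        ¬ H36.HasInv.HasInv q
          (Subgroup.normalizer (Cfsg.centerThompsonAOf (T : Subgroup G) : Set G)) := by
    intro h q _ hq T hinv
    exact H36.RealTwo.not_hasInv_of_normal h hq hinv.of_subgroup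
  have hca : (∀ (q : ℕ) [Fact q.Prime], q ≠ 2 → ∀ T : Sylow q G,
        ¬ H36.HasInv.HasInv q
          (Subgroup.normalizer (Cfsg.centerThompsonAOf (T : Subgroup G) : Set G))) →
      (∀ P : Sylow 2 G, (P : Subgroup G).Normal) := by
    intro h
    apply H36.RealTwo.normal_of_not_hasInv
    intro q _ hq hinv
    obtain ⟨T⟩ : Nonempty (Sylow q G) := inferInstance
    exact h q hq T (H36.RealLocal.main hq G T hinv)
  refine ⟨⟨?_, ?_⟩, ⟨?_, ?_⟩⟩
  · intro h q _ hq hqd T P
    exact H36.RealTwo.normal_sub h _ P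
  · intro h
    apply hca
    intro q _ hq T hinv
    by_cases hqd : q ∣ Nat.card G
    · exact H36.RealTwo.not_hasInv_of_normal (h q hq hqd T) hq hinv
    · obtain ⟨x, g, hx, ⟨k, hk⟩, -⟩ := hinv
      apply hx
      have h1 : orderOf x ∣ q ^ k := orderOf_dvd_of_pow_eq_one hk
      obtain ⟨j, hj, hj2⟩ := (Nat.dvd_prime_pow Fact.out).1 h1
      rcases Nat.eq_zero_or_pos j with rfl | hj0
      · rwa [pow_zero, orderOf_eq_one_iff] at hj2
      · exfalso
        apply hqd
        have h3 : q ∣ orderOf x := by rw [hj2]; exact dvd_pow_self q hj0.ne'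
        exact h3.trans ((orderOf_dvd_natCard x).trans (Subgroup.card_subgroup_dvd_card _))
  · intro h q _ hq T
    exact (key q hq T).2 (hac h q hq T)
  · intro h
    apply hca
    intro q _ hq T
    exact (key q hq T).1 (h q hq T)

end Cfsg.Agent.S2756
end
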