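import Cfsg.Agent.H219.CaseTwo
import Cfsg.Agent.H219.RedThree
import Cfsg.Agent.H219.LOne_mg
import Cfsg.Statements.S2793
set_option linter.all false

-- part: H219/LTwo
section
/-!
The second half of the centric case.
-/

set_option autoImplicit false

namespace Cfsg.Agent.H219.LTwo

open Subgroup
open Cfsg.Agent.Lib.GoldschmidtFusion
open Cfsg.Agent.H219.Conf Cfsg.Agent.H219.Finish Cfsg.Agent.H219.CaseOne Cfsg.Agent.H219.CaseTwo

variable {G : Type*} [Group G] [Finite G] {p : ℕ} [hpf : Fact p.Prime] {lam : ZMod p}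

theorem l_two (hp : p ≠ 2) (hlam : lam ≠ 0) {S Z B : Subgroup G} (hS : IsPGroup p S)
    (hi : ¬ p ∣ S.index) (hSH : S ≤ normalizer (Z : Set G)) (htop : normalizer (Z : Set G) ≠ ⊤)
    (huniq : ∀ M : Subgroup G, M ≠ ⊤ → S ≤ M → M ≤ normalizer (Z : Set G))
    (hBn : B.Normal) (hBab : ∀ x ∈ B, ∀ y ∈ B, x * y = y * x) (hBexp : ∀ x ∈ B, x ^ p = 1)
    (hV : Z ⊓ B ≠ ⊥) (hcore : ∀ N : Subgroup G, N.Normal → N ≤ Z ⊓ B → N = ⊥)
    {a : G} (haS : a ∈ S) (haq : Quad p B a) (haY : a ∉ Cfsg.pCore p G) :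
    FConf p lam S (normalizer (Z : Set G)) Z := by
  classical
  have hHB : normalizer (Z : Set G) ≤ normalizer ((Z ⊓ B : Subgroup G) : Set G) := by
    refine le_trans (le_inf le_rfl ?_) inf_le_normalizer_inf
    rw [normalizer_eq_top_iff.2 hBn]
    exact le_top
  obtain ⟨V, ⟨hV1, hV2, hV3⟩, hVmin⟩ := (Set.toFinite {V : Subgroup G | V ≤ Z ⊓ B ∧ V ≠ ⊥ ∧
    normalizer (Z : Set G) ≤ normalizer (V : Set G)}).exists_minimal ⟨Z ⊓ B, le_rfl, hV, hHB⟩
  have st : Setup p S Z B V := by
    refine ⟨hS, hi, hSH, htop, huniq, hBn, hBab, hBexp, hV1.trans inf_le_left,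
      hV1.trans inf_le_right, hV2, hV3, ?_⟩
    intro h
    exact hV2 (hcore V (normalizer_eq_top_iff.1 h) hV1)
  by_cases hcase : ∃ d ∈ normalizer (Z : Set G), Quad p B d ∧ d ∉ centralizer (V : Set G)
  · obtain ⟨d, hd, hdq, hdV⟩ := hcase
    refine case_one hp hlam st ?_ hd hdq hdV
    intro U hU hU1 hHU
    exact le_antisymm hU (hVmin ⟨hU.trans hV1, hU1, hHU⟩ hU)
  · push Not at hcase
    exact case_two hp hlam st hcase haS haq haY

end Cfsg.Agent.H219.LTwo
end

-- part: H219/Ind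
section
/-!
The relative fusion theorem, from the centric case.
-/

set_option autoImplicit false

namespace Cfsg.Agent.H219.Ind

open Subgroup Cfsg
open Cfsg.Agent.PLocal
open Cfsg.Agent.Lib.GoldschmidtFusion
open Cfsg.Agent.Walter.GlaubermanFusion
open Cfsg.Agent.H219.Conf Cfsg.Agent.H219.Red

universe u

/-- The centric case. -/
def CentCase (p : ℕ) (lam : ZMod p) : Prop :=
  ∀ (G : Type u) [Group G] [Finite G] (S Z : Subgroup G), Hyp p S Z →
    centralizer (pCore p G : Set G) ≤ pCore p G → normalizer (Z : Set G) ≠ ⊤ →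
    (∀ M : Subgroup G, M ≠ ⊤ → S ≤ M → M ≤ normalizer (Z : Set G)) →
      FConf p lam S (normalizer (Z : Set G)) Z

theorem rt_of_cent {p : ℕ} [hpf : Fact p.Prime] {lam : ZMod p} (hcc : CentCase.{u} p lam) :
    ∀ (n : ℕ) (G : Type u) [Group G] [Finite G], Nat.card G ≤ n → RT p lam G := by
  intro n
  induction n with
  | zero =>
    intro G _ _ hn
    exact absurd hn (by have : 0 < Nat.card G := Nat.card_pos; omega)
  | succ n ih =>
    intro G _ _ hn
    have IH : ∀ K : Subgroup G, K ≠ ⊤ → RT p lam K := by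
      intro K hK
      refine ih K ?_
      have h2 := ConjFunctor.card_lt_card_of_lt (lt_top_iff_ne_top.2 hK)
      rw [Subgroup.card_top] at h2
      omega
    have IHq : ∀ K : Subgroup G, ∀ _ : K.Normal, K ≠ ⊥ → RT p lam (G ⧸ K) := by
      intro K hKn hK
      refine ih _ ?_
      have h1 : Nat.card K * Nat.card (G ⧸ K) = Nat.card G := by
        rw [mul_comm]
        exact (Subgroup.card_eq_card_quotient_mul_card_subgroup _).symm
      have h2 : 1 < Nat.card K := by
        rw [Subgroup.one_lt_card_iff_ne_bot]; exact hK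
      have h3 : 0 < Nat.card (G ⧸ K) := Nat.card_pos
      nlinarith
    intro S Z h
    by_cases hO' : pPrimeCore p G = ⊥
    swap
    · have hn : (pPrimeCore p G).Normal := Lib.Cores.pPrimeCore_normal p
      refine step_zero (φ := QuotientGroup.mk' (pPrimeCore p G)) (QuotientGroup.mk'_surjective _) ?_
        (IHq _ hn hO') h
      rw [QuotientGroup.ker_mk']
      exact Lib.Cores.pPrimeCore_coprime p
    by_cases hO : pCore p G = ⊥
    · exact RedThree.step_three IH h hO
    have hYn : (pCore p G).Normal := Lib.Cores.pCore_normal p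
    by_cases hCP : centralizer (pCore p G : Set G) ⊔ S = ⊤
    · exact RedTwo.step_two IH (IHq _ hYn hO) h hCP
    rcases RedCent.step_cent IH hO' h hCP with h1 | hcent
    · exact h1
    by_cases hF : FConf p lam S (normalizer (Z : Set G)) Z
    · exact Or.inr hF
    by_cases hH : normalizer (Z : Set G) = ⊤
    · exact Or.inl (ctl_of_top hH)
    right
    refine hcc G S Z h hcent hH ?_
    intro M hM hSM m hm
    have hYS : pCore p G ≤ S := Lib.Cores.pCore_le_sylow (h.pS.toSylow h.syl)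
    obtain ⟨n, hn, c, hc, rfl⟩ := good_of_proper IH h hF hM hSM hYS hm (by
      rw [mem_normalizer_iff_map_conj.1 (by rw [normalizer_eq_top_iff.2 hYn]; trivial)]
      exact hYS)
    exact mul_mem hn (h.le_norm (hYS (hcent hc)))

end Cfsg.Agent.H219.Ind
end

-- part: H219/Cent
section
/-!
The centric case, and the relative fusion theorem.
-/

set_option autoImplicit false

namespace Cfsg.Agent.H219.Cent

open Subgroup Cfsg
open scoped commutatorElement
open Cfsg.Agent.PLocal
open Cfsg.Agent.Lib.GoldschmidtFusion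
open Cfsg.Agent.H219.Conf Cfsg.Agent.H219.Red Cfsg.Agent.H219.Ind Cfsg.Agent.H219.Finish

universe u

/-- The elements of order dividing `p` of an abelian subgroup. -/
def om {G : Type*} [Group G] (p : ℕ) (B : Subgroup G) (hB : ∀ x ∈ B, ∀ y ∈ B, x * y = y * x) :
    Subgroup G where
  carrier := {x | x ∈ B ∧ x ^ p = 1}
  mul_mem' := by
    rintro x y ⟨hx1, hx2⟩ ⟨hy1, hy2⟩
    refine ⟨B.mul_mem hx1 hy1, ?_⟩
    rw [(show Commute x y from hB x hx1 y hy1).mul_pow, hx2, hy2, one_mul]
  one_mem' := ⟨B.one_mem, one_pow p⟩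
  inv_mem' := by
    rintro x ⟨hx1, hx2⟩
    exact ⟨B.inv_mem hx1, by rw [inv_pow, hx2, inv_one]⟩

theorem cent_case {p : ℕ} [hpf : Fact p.Prime] (hp : p ≠ 2) {lam : ZMod p} (hlam : lam ≠ 0) :
    CentCase.{u} p lam := by
  intro G _ _ S Z h hcent htop huniq
  obtain ⟨B, hBn, hBY, hcon, hBB, a, haS, haY, haq⟩ := LOne.l_one hp h hcent htop
  set Y₀ := (Z ⊓ B).normalCore with hY₀
  have hY₀n : Y₀.Normal := by rw [hY₀]; infer_instance
  have hY₀le : Y₀ ≤ Z ⊓ B := normalCore_le _
  have hY₀Z : Y₀ ≤ Z := hY₀le.trans inf_le_left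
  have hY₀B : Y₀ ≤ B := hY₀le.trans inf_le_right
  have hY₀S : Y₀ ≤ S := hY₀Z.trans h.le
  set φ := QuotientGroup.mk' Y₀ with hφ
  have hφs : Function.Surjective φ := QuotientGroup.mk'_surjective Y₀
  have hker : φ.ker = Y₀ := QuotientGroup.ker_mk' Y₀
  have hcZ : (Z.map φ).comap φ = Z := by rw [comap_map_eq, hker, sup_eq_left.2 hY₀Z]
  have hcB : (B.map φ).comap φ = B := by rw [comap_map_eq, hker, sup_eq_left.2 hY₀B]
  have hcS : (S.map φ).comap φ = S := by rw [comap_map_eq, hker, sup_eq_left.2 hY₀S]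
  have hcN : (normalizer ((Z.map φ : Subgroup (G ⧸ Y₀)) : Set (G ⧸ Y₀))).comap φ =
      normalizer (Z : Set G) := by
    rw [comap_normalizer_eq_of_surjective _ hφs, hcZ]
  have hBb : ∀ x ∈ B.map φ, ∀ y ∈ B.map φ, x * y = y * x := by
    rintro _ ⟨x, hx, rfl⟩ _ ⟨y, hy, rfl⟩
    have h1 : ⁅x, y⁆ ∈ Y₀ := by
      have h2 : (⁅B, B⁆ : Subgroup G) ≤ Y₀ :=
        (normal_le_normalCore (hN := Subgroup.commutator_normal B B)).2 hBB
      exact h2 (commutator_mem_commutator hx hy)
    rw [← commutatorElement_eq_one_iff_mul_comm, ← map_commutatorElement, ← MonoidHom.mem_ker, hker]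
    exact h1
  have hBp : IsPGroup p B := (Lib.Cores.pCore_isPGroup p).to_le hBY
  have hY₀p : IsPGroup p Y₀ := hBp.to_le hY₀B
  set Bo := om p (B.map φ) hBb with hBo
  have hBon : Bo.Normal := by
    refine ⟨fun x hx g => ⟨(hBn.map φ hφs).conj_mem x hx.1 g, ?_⟩⟩
    rw [conj_pow, hx.2]; group
  have key : FConf p lam (S.map φ) (normalizer ((Z.map φ : Subgroup (G ⧸ Y₀)) : Set (G ⧸ Y₀)))
      (Z.map φ) := by
    refine LTwo.l_two (B := Bo) (a := φ a) hp hlam (h.pS.map φ) ?_ ?_ ?_ ?_ hBon ?_ ?_ ?_ ?_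
      ⟨a, haS, rfl⟩ ?_ ?_
    · intro hd
      exact h.syl (hd.trans (S.index_map_dvd hφs))
    · rintro _ ⟨s, hs, rfl⟩
      exact Subgroup.le_normalizer_map φ ⟨s, h.le_norm hs, rfl⟩
    · intro ht
      rw [ht, comap_top] at hcN
      exact htop hcN.symm
    · intro M hM hSM
      have h1 : M.comap φ ≠ ⊤ := by
        intro ht
        apply hM
        rw [← Subgroup.map_comap_eq_self_of_surjective hφs M, ht,
          Subgroup.map_top_of_surjective φ hφs]
      have h2 : S ≤ M.comap φ := by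
        rw [← hcS]; exact comap_mono hSM
      have h3 := huniq _ h1 h2
      rw [← hcN] at h3
      exact (Subgroup.comap_le_comap_of_surjective hφs).1 h3
    · intro x hx y hy
      exact hBb x hx.1 y hy.1
    · intro x hx
      exact hx.2
    · -- `Z̄ ∩ Ω₁(B̄) ≠ 1`
      obtain ⟨z, hz, hzY⟩ : ∃ z ∈ Z ⊓ B, z ∉ Y₀ := by
        by_contra hno
        push Not at hno
        apply hcon
        have : Z ⊓ B = Y₀ := le_antisymm hno hY₀le
        rw [this]
        exact hY₀n
      have hne : φ z ≠ 1 := by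
        intro h1
        rw [← MonoidHom.mem_ker, hker] at h1
        exact hzY h1
      have hzp : ∃ n, (φ z) ^ p ^ n = 1 := by
        obtain ⟨n, hn⟩ := hBp ⟨z, hz.2⟩
        have h1 : z ^ p ^ n = 1 := congrArg Subtype.val hn
        exact ⟨n, by rw [← map_pow, h1, map_one]⟩
      obtain ⟨n, hn⟩ := hzp
      have h2 : ∃ m, (φ z) ^ p ^ m ≠ 1 ∧ (φ z) ^ p ^ (m + 1) = 1 := by
        classical
        have hex : ∃ n, (φ z) ^ p ^ n = 1 := ⟨n, hn⟩
        have h3 := Nat.find_spec hex
        have h4 : Nat.find hex ≠ 0 := by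
          intro h0
          rw [h0, pow_zero, pow_one] at h3
          exact hne h3
        obtain ⟨m, hm⟩ := Nat.exists_eq_succ_of_ne_zero h4
        refine ⟨m, Nat.find_min hex (by omega), ?_⟩
        rw [hm] at h3
        exact h3
      obtain ⟨m, hm1, hm2⟩ := h2
      intro hbot
      apply hm1
      have h5 : (φ z) ^ p ^ m ∈ Z.map φ ⊓ Bo := by
        have h6 : φ z ∈ Z.map φ := ⟨z, hz.1, rfl⟩
        have h7 : φ z ∈ B.map φ := ⟨z, hz.2, rfl⟩
        refine ⟨pow_mem h6 _, pow_mem h7 _, ?_⟩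
        rw [← pow_mul, ← pow_succ]
        exact hm2
      rw [hbot, mem_bot] at h5
      exact h5
    · intro N hN hNle
      have h1 : N.comap φ ≤ Z ⊓ B := by
        intro x hx
        have h2 := hNle hx
        refine ⟨?_, ?_⟩
        · rw [SetLike.mem_coe, ← hcZ]; exact h2.1
        · rw [SetLike.mem_coe, ← hcB]; exact h2.2.1
      have hNn : (N.comap φ).Normal := hN.comap φ
      have h2 : N.comap φ ≤ Y₀ := (normal_le_normalCore (hN := hNn)).2 h1
      rw [eq_bot_iff]
      intro x hx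
      obtain ⟨x, rfl⟩ := hφs x
      have h3 : x ∈ Y₀ := h2 hx
      rw [mem_bot, ← MonoidHom.mem_ker, hker]
      exact h3
    · refine ⟨?_, ?_⟩
      · obtain ⟨n, hn⟩ := h.pS ⟨a, haS⟩
        have h1 : a ^ p ^ n = 1 := congrArg Subtype.val hn
        exact ⟨n, by rw [← map_pow, h1, map_one]⟩
      · rintro _ ⟨⟨x, hx, rfl⟩, -⟩
        have := congrArg φ (haq x hx)
        simpa only [map_mul, map_inv] using this
    · intro haC
      apply haY
      have hn : ((pCore p (G ⧸ Y₀)).comap φ).Normal :=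
        (Lib.Cores.pCore_normal (G := G ⧸ Y₀) p).comap φ
      have hp' : IsPGroup p ((pCore p (G ⧸ Y₀)).comap φ) := by
        refine (Lib.Cores.pCore_isPGroup (G := G ⧸ Y₀) p).comap_of_ker_isPGroup φ ?_
        rw [hker]; exact hY₀p
      exact Lib.Cores.le_pCore hn hp' haC
  have h1 := key.comap hφs (le_rfl : Z.map φ ≤ Z.map φ)
  rw [hcS, hcN] at h1
  exact h1

theorem rt {p : ℕ} [hpf : Fact p.Prime] (hp : p ≠ 2) {lam : ZMod p} (hlam : lam ≠ 0)
    (G : Type u) [Group G] [Finite G] : RT p lam G :=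
  rt_of_cent (cent_case hp hlam) (Nat.card G) G le_rfl

end Cfsg.Agent.H219.Cent
end

-- part: S2793
section
set_option autoImplicit false
open Cfsg

namespace Cfsg.Agent.S2793

/-- Let p be an odd prime, S a Sylow p-subgroup of the finite group G, J(S) the subgroup generated by the abelian subgroups of S of largest order, and suppose Z(J(S)) does not control strong fusion in G. Put H = N_G(Z(J(S))). Then the group F(p) of upper triangular 3 × 3 matrices (a b c; 0 a⁻¹ d; 0 0 1) over the field with p elements is involved in H, and Z(J(S)) contains a subgroup C of order p with |N_H(C) : C_H(C)| = p − 1. -/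
theorem result {G : Type*} [Group G] [Finite G] {p : ℕ} [Fact p.Prime] (hp : p ≠ 2) (S : Sylow p G) (h : ¬ Cfsg.ControlsStrongFusion p (Cfsg.centerThompsonAOf (S : Subgroup G))) (H : Subgroup G) (hH : H = Subgroup.normalizer ((Cfsg.centerThompsonAOf (S : Subgroup G)) : Set G)) : Cfsg.Involves ↥(Cfsg.fOver (ZMod p)) ↥H ∧ ∃ C : Subgroup G, C ≤ (Cfsg.centerThompsonAOf (S : Subgroup G)) ∧ Nat.card C = p ∧ (H ⊓ Subgroup.centralizer (C : Set G)).relIndex (H ⊓ Subgroup.normalizer (C : Set G)) = p - 1 := by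
  obtain ⟨g, hg⟩ := IsCyclic.exists_ofOrder_eq_natCard (α := (ZMod p)ˣ)
  have hlam : orderOf (g : ZMod p) = p - 1 := by
    rw [orderOf_units, hg, Nat.card_eq_fintype_card, ZMod.card_units]
  have hyp : H219.Red.Hyp p (S : Subgroup G) (Cfsg.centerThompsonAOf (S : Subgroup G)) :=
    ⟨S.isPGroup', S.not_dvd_index, le_rfl, le_rfl⟩
  rcases H219.Cent.rt hp (lam := (g : ZMod p)) g.ne_zero G (S : Subgroup G)
    (Cfsg.centerThompsonAOf (S : Subgroup G)) hyp with h1 | h1
  · exfalso
    apply h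
    refine ⟨S, hyp.le, fun A hA => ⟨hA, fun y hy => ?_⟩⟩
    obtain ⟨n, hn, c, hc, hnc⟩ := h1 (Subgroup.closure A) ((Subgroup.closure_le _).2 hA) y (by
      rw [MonoidHom.map_closure, Subgroup.closure_le]
      exact hy)
    refine ⟨n, hn, fun a ha => ?_⟩
    have h2 := Lib.GoldschmidtFusion.conj_eq_of_mem_centralizer hc (Subgroup.subset_closure ha)
    calc y * a * y⁻¹ = n * (c * a * c⁻¹) * n⁻¹ := by rw [hnc]; group
      _ = n * a * n⁻¹ := by rw [h2]
  · subst hH
    refine ⟨Lib.Involves.involves_iff.1 (H219.FInv.involves_f hp hlam S.isPGroup' hyp.le_norm h1), ?_⟩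
    exact H219.RelIdx.exists_C hlam S.isPGroup' le_rfl h1

end Cfsg.Agent.S2793
end
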