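import Mathlib
import Cfsg.Agent.H221.PReduced
import Cfsg.Agent.PLocal.SubnormalCore
import Cfsg.Statements.S2804
set_option linter.all false

-- part: H221/PReducedSubnormal
section
/-!
# `[V, O^p(K)]` for `V` p-reduced normal and `K` subnormal

* `mem_of_mem_sup_of_coprime`: for `V` a normal `p`-subgroup and `K` subnormal, the elements of order
  prime to `p` of `V K` lie in `K`;
* `le_normalizer_pResidual`: so `V` normalizes `O^p(K)`;
* `commutator_isPReducedNormal`: `[V, O^p(K)]` is a `p`-reduced normal subgroup of `K`.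
-/

set_option autoImplicit false

namespace Cfsg.Agent.H221.PReducedSubnormal

open Cfsg Subgroup
open scoped commutatorElement
open Cfsg.Agent.Lib.Cores
open Cfsg.Agent.H221.PReduced

variable {L : Type*} [Group L] {p : ℕ}

/-- An element of order prime to `p` lies in `K` as soon as some `p`-power power does. -/
theorem mem_of_pow_mem {K : Subgroup L} {x : L} (hx : Nat.Coprime (orderOf x) p) {k : ℕ}
    (h : x ^ p ^ k ∈ K) : x ∈ K := by
  have h1 : (orderOf x).Coprime (p ^ k) := Nat.Coprime.pow_right k hx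
  obtain ⟨m, hm⟩ := exists_pow_eq_self_of_coprime h1.symm
  rw [← hm]
  exact K.pow_mem h m

theorem mem_of_mem_sup_of_coprime {V : Subgroup L} (hV : V.Normal) (hVp : IsPGroup p V)
    {K : Subgroup L} (hK : K.IsSubnormal) {x : L} (hx : Nat.Coprime (orderOf x) p)
    (hxK : x ∈ V ⊔ K) : x ∈ K := by
  induction hK with
  | top => exact mem_top x
  | step H K hHK hKs hN ih =>
    have hxK' : x ∈ K := ih (sup_le_sup_left hHK V hxK)
    obtain ⟨v, hv, h, hh, rfl⟩ := mem_sup_of_normal_left.1 hxK
    have hvK : v ∈ K := by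
      have := K.mul_mem hxK' (K.inv_mem (hHK hh))
      rwa [mul_inv_cancel_right] at this
    obtain ⟨k, hk⟩ := hVp ⟨v, hv⟩
    have hk' : v ^ p ^ k = 1 := congrArg Subtype.val hk
    have h1 : ((⟨v, hvK⟩ * ⟨h, hHK hh⟩ : K)) ^ p ^ k ∈ H.subgroupOf K := by
      rw [← QuotientGroup.eq_one_iff, QuotientGroup.mk_pow, QuotientGroup.mk_mul]
      have h2 : ((⟨h, hHK hh⟩ : K) : K ⧸ H.subgroupOf K) = 1 :=
        (QuotientGroup.eq_one_iff _).2 hh
      rw [h2, mul_one, ← QuotientGroup.mk_pow]
      have h3 : (⟨v, hvK⟩ : K) ^ p ^ k = 1 := Subtype.ext hk'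
      rw [h3]
      rfl
    have h4 : (v * h) ^ p ^ k ∈ H := h1
    exact mem_of_pow_mem hx h4

theorem map_pResidual_eq (K : Subgroup L) :
    (pResidual p ↥K).map K.subtype = closure {g : L | g ∈ K ∧ Nat.Coprime (orderOf g) p} := by
  rw [pResidual, MonoidHom.map_closure]
  congr 1
  ext g
  constructor
  · rintro ⟨x, hx, rfl⟩
    refine ⟨x.2, ?_⟩
    change Nat.Coprime (orderOf (x : L)) p
    rw [Subgroup.orderOf_coe]
    exact hx
  · rintro ⟨h1, h2⟩
    refine ⟨⟨g, h1⟩, ?_, rfl⟩
    change Nat.Coprime (orderOf (⟨g, h1⟩ : K)) p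
    rw [← Subgroup.orderOf_coe]
    exact h2

theorem orderOf_conj (g x : L) : orderOf (g * x * g⁻¹) = orderOf x := by
  have h := (MulAut.conj g).orderOf_eq x
  simpa using h

/-- A subgroup whose elements conjugate generators into `closure S` normalizes `closure S`. -/
theorem le_normalizer_closure {S : Set L} {V : Subgroup L}
    (h : ∀ v ∈ V, ∀ x ∈ S, v * x * v⁻¹ ∈ closure S) : V ≤ normalizer (closure S : Set L) := by
  have key : ∀ v ∈ V, ∀ x ∈ closure S, v * x * v⁻¹ ∈ closure S := by
    intro v hv x hx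
    have h1 : closure S ≤ (closure S).comap (MulAut.conj v).toMonoidHom := by
      conv_lhs => rw [show closure S = closure S from rfl]
      rw [closure_le]
      intro y hy
      exact h v hv y hy
    exact h1 hx
  intro v hv
  rw [mem_normalizer_iff]
  intro x
  refine ⟨key v hv x, fun hx => ?_⟩
  have h1 := key v⁻¹ (V.inv_mem hv) _ hx
  have h2 : v⁻¹ * (v * x * v⁻¹) * v⁻¹⁻¹ = x := by group
  rwa [h2] at h1

theorem le_normalizer_pResidual {V : Subgroup L} (hV : V.Normal) (hVp : IsPGroup p V)
    {K : Subgroup L} (hK : K.IsSubnormal) :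
    V ⊔ K ≤ normalizer (((pResidual p ↥K).map K.subtype : Subgroup L) : Set L) := by
  rw [map_pResidual_eq]
  apply le_normalizer_closure
  rintro v hv x ⟨hx, hxo⟩
  refine subset_closure ⟨?_, ?_⟩
  · apply mem_of_mem_sup_of_coprime hV hVp hK
    · rw [orderOf_conj]; exact hxo
    · exact (V ⊔ K).mul_mem ((V ⊔ K).mul_mem hv ((le_sup_right : K ≤ V ⊔ K) hx))
        ((V ⊔ K).inv_mem hv)
  · rw [orderOf_conj]; exact hxo

theorem commutator_isPReducedNormal [Finite L] [Fact p.Prime] (V : Subgroup L)
    (hV : IsPReducedNormal p V) (K : Subgroup L) (hK : K.IsSubnormal) :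
    ⁅V, (pResidual p ↥K).map K.subtype⁆ ≤ K ∧
      IsPReducedNormal p ((⁅V, (pResidual p ↥K).map K.subtype⁆).subgroupOf K) := by
  have hp : p.Prime := Fact.out
  have hVn : V.Normal := hV.1
  have hVe := PLocal.ThompsonJ.isElementaryAbelian_iff.1 hV.2.1
  have hVp : IsPGroup p V := isPGroup_of_isElementaryAbelian hV.2.1
  set E := (pResidual p ↥K).map K.subtype with hE
  have hEK : E ≤ K := map_subtype_le _
  have hnorm : V ⊔ K ≤ normalizer (E : Set L) := le_normalizer_pResidual hV.1 hVp hK
  set W := ⁅V, E⁆ with hW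
  have hWV : W ≤ V := commutator_le_left V E
  have hWE : W ≤ E := by
    rw [hW, commutator_comm, commutator_le]
    intro e he v hv
    rw [commutatorElement_def, mul_assoc, mul_assoc]
    refine E.mul_mem he ?_
    have := (mem_normalizer_iff.1 (hnorm (le_sup_left (a := V) (b := K) hv)) e⁻¹).1 (E.inv_mem he)
    rwa [mul_assoc] at this
  have hWK : W ≤ K := hWE.trans hEK
  refine ⟨hWK, ?_⟩
  have hKW : K ≤ normalizer (W : Set L) := by
    rw [hW]
    have h1 : ∀ g ∈ K, ∀ x ∈ (⁅V, E⁆ : Subgroup L), g * x * g⁻¹ ∈ (⁅V, E⁆ : Subgroup L) := by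
      intro g hg x hx
      have h2 : ⁅V, E⁆ ≤ (⁅V, E⁆ : Subgroup L).comap (MulAut.conj g).toMonoidHom := by
        rw [commutator_le]
        intro v hv e he
        change g * ⁅v, e⁆ * g⁻¹ ∈ ⁅V, E⁆
        rw [conjugate_commutatorElement v e g]
        exact commutator_mem_commutator (hVn.conj_mem v hv g)
          ((mem_normalizer_iff.1 (hnorm (le_sup_right (a := V) (b := K) hg)) e).1 he)
      exact h2 hx
    intro g hg
    rw [mem_normalizer_iff]
    intro x
    refine ⟨h1 g hg x, fun hx => ?_⟩
    have h3 := h1 g⁻¹ (K.inv_mem hg) _ hx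
    have h4 : g⁻¹ * (g * x * g⁻¹) * g⁻¹⁻¹ = x := by group
    rwa [h4] at h3
  rw [isPReducedNormal_iff]
  refine ⟨(normal_subgroupOf_iff_le_normalizer hWK).2 hKW, ?_, ?_⟩
  · rw [PLocal.ThompsonJ.isElementaryAbelian_iff]
    exact ⟨fun a ha b hb => Subtype.ext (hVe.1 a (hWV ha) b (hWV hb)),
      fun a ha => Subtype.ext (hVe.2 a (hWV ha))⟩
  · intro D hD hpow
    -- `p'`-elements of `D` centralize `V`
    have hcop : ∀ x ∈ D, Nat.Coprime (orderOf (x : L)) p → (x : L) ∈ centralizer (V : Set L) := by
      intro x hx hxo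
      obtain ⟨k, hk⟩ := hpow x hx
      have hxo' : Nat.Coprime (orderOf x) p := by rwa [Subgroup.orderOf_coe] at hxo
      have hxW : x ∈ centralizer ((W.subgroupOf K : Subgroup K) : Set K) :=
        mem_of_pow_mem hxo' hk
      have hxE : (x : L) ∈ E := by
        rw [hE, map_pResidual_eq]
        exact subset_closure ⟨x.2, hxo⟩
      rw [mem_centralizer_iff]
      intro v hv
      have hw : ⁅v, (x : L)⁆ ∈ W := commutator_mem_commutator hv hxE
      set w := ⁅v, (x : L)⁆ with hwdef
      have hwK : w ∈ K := hWK hw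
      have hcomm : Commute w (x : L) := by
        have := mem_centralizer_iff.1 hxW ⟨w, hwK⟩ (show _ ∈ _ from hw)
        exact congrArg Subtype.val this
      have h1 : v * (x : L) * v⁻¹ = w * x := by
        rw [hwdef, commutatorElement_def]; group
      have h2 : w ^ orderOf (x : L) = 1 := by
        have h3 : (v * (x : L) * v⁻¹) ^ orderOf (x : L) = 1 := by
          rw [conj_pow, pow_orderOf_eq_one]; group
        rw [h1, hcomm.mul_pow, pow_orderOf_eq_one, mul_one] at h3
        exact h3
      have h4 : w ^ p = 1 := hVe.2 w (hWV hw)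
      have h5 : w = 1 := by
        have h6 := pow_gcd_eq_one.2 ⟨h2, h4⟩
        rwa [Nat.Coprime.gcd_eq_one hxo, pow_one] at h6
      rw [h5, one_mul] at h1
      calc v * (x : L) = v * (x : L) * v⁻¹ * v := by group
        _ = (x : L) * v := by rw [h1]
    -- all elements of `D` have a `p`-power power centralizing `V`
    have hpow' : ∀ x ∈ D, ∃ k : ℕ, (x : L) ^ p ^ k ∈ centralizer (V : Set L) := by
      intro x hx
      refine ⟨(orderOf (x : L)).factorization p, ?_⟩
      have h1 := hcop (x ^ p ^ (orderOf (x : L)).factorization p) (D.pow_mem hx _) (by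
        rw [Subgroup.coe_pow, orderOf_pow_of_dvd (pow_ne_zero _ hp.ne_zero)
          (Nat.ordProj_dvd _ _)]
        exact (Nat.coprime_ordCompl hp (orderOf_pos _).ne').symm)
      exact h1
    have hC : (centralizer (V : Set L)).Normal := inferInstance
    have hDle : (D.map K.subtype).map (QuotientGroup.mk' (centralizer (V : Set L))) ≤
        pCore p (L ⧸ centralizer (V : Set L)) := by
      refine PLocal.SubnormalCore.le_pCore_of_normal_subnormal
        (K := K.map (QuotientGroup.mk' (centralizer (V : Set L)))) ?_ ?_ ?_ ?_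
      · exact map_mono (map_subtype_le _)
      · rw [normal_subgroupOf_iff_le_normalizer (map_mono (map_subtype_le _))]
        have h1 : K ≤ normalizer ((D.map K.subtype : Subgroup L) : Set L) := by
          rw [← normal_subgroupOf_iff_le_normalizer (map_subtype_le _)]
          have h2 : ((D.map K.subtype).subgroupOf K) = D :=
            comap_map_eq_self_of_injective K.subtype_injective _
          rw [h2]
          exact hD
        exact (map_mono h1).trans (le_normalizer_map _)
      · exact hK.map (QuotientGroup.mk'_surjective _)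
      · rintro ⟨_, y, ⟨x, hx, rfl⟩, rfl⟩
        obtain ⟨k, hk⟩ := hpow' x hx
        refine ⟨k, Subtype.ext ?_⟩
        change (QuotientGroup.mk' (centralizer (V : Set L)) (x : L)) ^ p ^ k = 1
        rw [← map_pow]
        exact (QuotientGroup.eq_one_iff _).2 hk
    obtain ⟨_, hO⟩ := hV.2.2
    rw [hO, le_bot_iff, Subgroup.map_eq_bot_iff, QuotientGroup.ker_mk'] at hDle
    intro d hd
    rw [mem_centralizer_iff]
    intro w hw
    apply Subtype.ext
    exact mem_centralizer_iff.1 (hDle (mem_map_of_mem _ hd)) w (hWV hw)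

end Cfsg.Agent.H221.PReducedSubnormal
end

-- part: S2804
section
set_option autoImplicit false
open Cfsg

namespace Cfsg.Agent.S2804

/-- Let L be a finite group and p a prime with C_L(O_p(L)) ≤ O_p(L), V a p-reduced normal subgroup of L and K a subnormal subgroup of L. Then [V, O^p(K)] is contained in K and is a p-reduced normal subgroup of K, where O^p(K) is the subgroup of K generated by its elements of order prime to p. -/
theorem result {L : Type*} [Group L] [Finite L] {p : ℕ} [Fact p.Prime] (hchar : Subgroup.centralizer (Cfsg.pCore p L : Set L) ≤ Cfsg.pCore p L) (V : Subgroup L) (hV : Cfsg.IsPReducedNormal p V) (K : Subgroup L) (hK : K.IsSubnormal) : ⁅V, (Cfsg.pResidual p ↥K).map K.subtype⁆ ≤ K ∧ Cfsg.IsPReducedNormal p ((⁅V, (Cfsg.pResidual p ↥K).map K.subtype⁆).subgroupOf K) :=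
  Cfsg.Agent.H221.PReducedSubnormal.commutator_isPReducedNormal V hV K hK

end Cfsg.Agent.S2804
end
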