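import Mathlib
import Cfsg.Agent.H227.WeakChar
import Cfsg.Agent.H222.SylowJoin
import Cfsg.Agent.PLocal.StableClosure
import Cfsg.Agent.PLocal.OffenderStep
import Cfsg.Statements.S2806
set_option linter.all false

-- part: H222/RelTrace
section
/-!
# The relative trace `C_V(T) → C_V(K)` for an abelian `p`-group `V`, `|K : T|` prime to `p`
-/

set_option autoImplicit false

namespace Cfsg.Agent.H222.RelTrace

open Subgroup

/-- **Relative trace.** `V` an abelian `p`-group normalised by `K`, `T ≤ K` of index prime to `p`. There is a retraction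
`π` of `C_V(T)` onto `C_V(K)` with `v⁻¹ π(v)` in every subgroup containing the commutators of `v` with `K`, and
commuting with the conjugation by every element normalising `V`, `K` and `T`. -/
theorem exists_retraction {G : Type*} [Group G] [Finite G] {p : ℕ} [hp : Fact p.Prime]
    (V K T : Subgroup G) (hVp : IsPGroup p ↥V) (hVc : ∀ a ∈ V, ∀ b ∈ V, a * b = b * a)
    (hKV : K ≤ normalizer (V : Set G)) (hTK : T ≤ K) (hidx : ¬ p ∣ T.relIndex K) :
    ∃ π : G → G,
      (∀ v ∈ V, v ∈ centralizer (T : Set G) → π v ∈ V ∧ π v ∈ centralizer (K : Set G)) ∧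
      (∀ v ∈ V, v ∈ centralizer (K : Set G) → π v = v) ∧
      (∀ v ∈ V, v ∈ centralizer (T : Set G) → ∀ w ∈ V, w ∈ centralizer (T : Set G) →
        π (v * w) = π v * π w) ∧
      (∀ v ∈ V, v ∈ centralizer (T : Set G) → ∀ A : Subgroup G,
        (∀ k ∈ K, v⁻¹ * (k * v * k⁻¹) ∈ A) → v⁻¹ * π v ∈ A) ∧
      (∀ t : G, t ∈ normalizer (V : Set G) → t ∈ normalizer (K : Set G) →
        t ∈ normalizer (T : Set G) → ∀ v ∈ V, v ∈ centralizer (T : Set G) →
          π (t * v * t⁻¹) = t * π v * t⁻¹) := by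
  classical
  letI cV : CommGroup ↥V :=
    { (inferInstance : Group ↥V) with
      mul_comm := fun a b => Subtype.ext (hVc a a.2 b b.2) }
  haveI : Fintype (↥K ⧸ T.subgroupOf K) := Fintype.ofFinite _
  -- the conjugate of `v` by `k`
  let cj : ↥V → ↥K → ↥V := fun v k => ⟨(k : G) * v * (k : G)⁻¹,
    (Subgroup.mem_normalizer_iff.mp (hKV k.2) v).mp v.2⟩
  let tr : ↥V → ↥V := fun v => ∏ x : ↥K ⧸ T.subgroupOf K, cj v x.out
  -- independence of representatives
  have hrep : ∀ v : ↥V, (v : G) ∈ centralizer (T : Set G) → ∀ k k' : ↥K,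
      (QuotientGroup.mk k : ↥K ⧸ T.subgroupOf K) = QuotientGroup.mk k' → cj v k = cj v k' := by
    intro v hv k k' h
    rw [QuotientGroup.eq, Subgroup.mem_subgroupOf] at h
    have h1 := Subgroup.mem_centralizer_iff.mp hv _ h
    apply Subtype.ext
    show (k : G) * v * (k : G)⁻¹ = (k' : G) * v * (k' : G)⁻¹
    have h2 : (k' : G) = (k : G) * (((k⁻¹ * k' : ↥K)) : G) := by simp
    rw [h2]
    generalize ((k⁻¹ * k' : ↥K) : G) = s at h1 ⊢
    rw [mul_assoc (k : G) s, h1]; group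
  set m : ℕ := T.relIndex K with hm
  have hmcard : Fintype.card (↥K ⧸ T.subgroupOf K) = m := by
    rw [hm, Subgroup.relIndex, Subgroup.index, Nat.card_eq_fintype_card]
  obtain ⟨e, he⟩ := IsPGroup.iff_card.mp hVp
  have hcop : m.Coprime (p ^ e) := Nat.Coprime.pow_right e ((Nat.Prime.coprime_iff_not_dvd hp.out).mpr hidx).symm
  obtain ⟨m', hm'⟩ : ∃ m' : ℕ, ∀ v : ↥V, v ^ (m * m') = v := by
    rcases Nat.eq_zero_or_pos e with h0 | h0
    · refine ⟨0, fun v => ?_⟩
      have : Nat.card V = 1 := by rw [he, h0, pow_zero]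
      haveI := (Nat.card_eq_one_iff_unique.mp this).1
      exact Subsingleton.elim _ _
    · obtain ⟨m', -, h⟩ := Nat.exists_mul_mod_eq_one_of_coprime hcop (Nat.one_lt_pow h0.ne' hp.out.one_lt)
      refine ⟨m', fun v => ?_⟩
      have h3 : v ^ (p ^ e) = 1 := by rw [← he]; exact pow_card_eq_one'
      conv_lhs => rw [← Nat.div_add_mod (m * m') (p ^ e), h, pow_add, pow_mul, h3, one_pow, one_mul, pow_one]
  let πV : ↥V → ↥V := fun v => (tr v) ^ m'
  refine ⟨fun g => if h : g ∈ V then ((πV ⟨g, h⟩ : ↥V) : G) else 1, ?_, ?_, ?_, ?_, ?_⟩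
  · intro v hv hvT
    simp only [dif_pos hv]
    refine ⟨(πV ⟨v, hv⟩).2, ?_⟩
    rw [Subgroup.mem_centralizer_iff]
    intro k hk
    have key : cj (tr ⟨v, hv⟩) ⟨k, hk⟩ = tr ⟨v, hv⟩ := by
      have hhom : ∀ (ι : Type _) (s : Finset ι) (f : ι → ↥V), cj (∏ i ∈ s, f i) ⟨k, hk⟩ = ∏ i ∈ s, cj (f i) ⟨k, hk⟩ := by
        intro ι s f
        let φ : ↥V →* ↥V :=
          { toFun := fun v => cj v ⟨k, hk⟩
            map_one' := by apply Subtype.ext; simp [cj]
            map_mul' := by intro a b; apply Subtype.ext; simp [cj] }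
        exact map_prod φ f s
      show cj (∏ x : ↥K ⧸ T.subgroupOf K, cj ⟨v, hv⟩ x.out) ⟨k, hk⟩ = ∏ x : ↥K ⧸ T.subgroupOf K, cj ⟨v, hv⟩ x.out
      rw [hhom]
      refine Fintype.prod_equiv (MulAction.toPerm (⟨k, hk⟩ : ↥K)) _ _ (fun x => ?_)
      have h1 : cj (cj ⟨v, hv⟩ x.out) ⟨k, hk⟩ = cj ⟨v, hv⟩ (⟨k, hk⟩ * x.out) := by
        apply Subtype.ext
        simp only [cj, Subgroup.coe_mul]
        group
      rw [h1]
      apply hrep ⟨v, hv⟩ hvT
      have h2 : (MulAction.toPerm (⟨k, hk⟩ : ↥K)) x = (QuotientGroup.mk (⟨k, hk⟩ * x.out) : ↥K ⧸ T.subgroupOf K) := by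
        rw [MulAction.toPerm_apply]
        conv_lhs => rw [← QuotientGroup.out_eq' x]
        rfl
      rw [h2, QuotientGroup.out_eq']
    have h2 : cj (πV ⟨v, hv⟩) ⟨k, hk⟩ = πV ⟨v, hv⟩ := by
      have h3 : ∀ (w : ↥V) (j : ℕ), cj (w ^ j) ⟨k, hk⟩ = (cj w ⟨k, hk⟩) ^ j := by
        intro w j
        apply Subtype.ext
        simp only [cj, Subgroup.coe_pow, conj_pow]
      show cj ((tr ⟨v, hv⟩) ^ m') ⟨k, hk⟩ = _
      rw [h3, key]
    have h3 := congrArg (Subtype.val) h2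
    simp only [cj] at h3
    rw [mul_inv_eq_iff_eq_mul] at h3
    exact h3
  · intro v hv hvK
    simp only [dif_pos hv]
    have h1 : tr ⟨v, hv⟩ = ⟨v, hv⟩ ^ m := by
      show ∏ x : ↥K ⧸ T.subgroupOf K, cj ⟨v, hv⟩ x.out = _
      rw [← hmcard, ← Finset.card_univ]
      apply Finset.prod_eq_pow_card
      intro x _
      apply Subtype.ext
      simp only [cj]
      rw [Subgroup.mem_centralizer_iff] at hvK
      rw [hvK _ (Quotient.out x).2]; group
    show ((tr ⟨v, hv⟩) ^ m' : ↥V) = v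
    rw [h1, ← pow_mul]
    exact congrArg Subtype.val (hm' ⟨v, hv⟩)
  · intro v hv hvT w hw hwT
    simp only [dif_pos hv, dif_pos hw, dif_pos (V.mul_mem hv hw)]
    have h1 : tr ⟨v * w, V.mul_mem hv hw⟩ = tr ⟨v, hv⟩ * tr ⟨w, hw⟩ := by
      show ∏ x : ↥K ⧸ T.subgroupOf K, cj _ x.out = (∏ x : ↥K ⧸ T.subgroupOf K, cj _ x.out) *
        ∏ x : ↥K ⧸ T.subgroupOf K, cj _ x.out
      rw [← Finset.prod_mul_distrib]
      apply Finset.prod_congr rfl
      intro x _
      apply Subtype.ext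
      simp only [cj, Subgroup.coe_mul]
      group
    show (((tr ⟨v * w, V.mul_mem hv hw⟩) ^ m' : ↥V) : G) = ((tr ⟨v, hv⟩) ^ m' : ↥V) * ((tr ⟨w, hw⟩) ^ m' : ↥V)
    rw [h1, mul_pow, Subgroup.coe_mul]
  · intro v hv hvT A hA
    simp only [dif_pos hv]
    have h1 : (⟨v, hv⟩ : ↥V)⁻¹ * πV ⟨v, hv⟩ = (∏ x : ↥K ⧸ T.subgroupOf K, ((⟨v, hv⟩ : ↥V)⁻¹ * cj ⟨v, hv⟩ x.out)) ^ m' := by
      rw [Finset.prod_mul_distrib, Finset.prod_const, Finset.card_univ, hmcard, mul_pow, ← pow_mul, inv_pow, hm']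
    have h2 : ((⟨v, hv⟩ : ↥V)⁻¹ * πV ⟨v, hv⟩) ∈ A.subgroupOf V := by
      rw [h1]
      apply Subgroup.pow_mem
      apply Subgroup.prod_mem
      intro x _
      rw [Subgroup.mem_subgroupOf]
      exact hA _ (Quotient.out x).2
    exact h2
  · intro t htV htK htT v hv hvT
    have htv : t * v * t⁻¹ ∈ V := (Subgroup.mem_normalizer_iff.mp htV v).mp hv
    simp only [dif_pos hv, dif_pos htv]
    -- conjugation by `t` on `K`
    have hcK : ∀ k : G, k ∈ K → t⁻¹ * k * t ∈ K := by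
      intro k hk
      have := (Subgroup.mem_normalizer_iff.mp htK (t⁻¹ * k * t)).mpr (by
        have : t * (t⁻¹ * k * t) * t⁻¹ = k := by group
        rw [this]; exact hk)
      exact this
    have hcK' : ∀ k : G, k ∈ K → t * k * t⁻¹ ∈ K := fun k hk =>
      (Subgroup.mem_normalizer_iff.mp htK k).mp hk
    have htvT : t * v * t⁻¹ ∈ centralizer (T : Set G) := by
      rw [Subgroup.mem_centralizer_iff] at hvT ⊢
      intro s hs
      have h1 : t⁻¹ * s * t ∈ T := by
        have := (Subgroup.mem_normalizer_iff.mp htT (t⁻¹ * s * t)).mpr (by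
          have : t * (t⁻¹ * s * t) * t⁻¹ = s := by group
          rw [this]; exact hs)
        exact this
      have h2 := hvT _ h1
      calc s * (t * v * t⁻¹) = t * ((t⁻¹ * s * t) * v) * t⁻¹ := by group
        _ = t * (v * (t⁻¹ * s * t)) * t⁻¹ := by rw [h2]
        _ = t * v * t⁻¹ * s := by group
    let θ : (↥K ⧸ T.subgroupOf K) → (↥K ⧸ T.subgroupOf K) := fun x =>
      QuotientGroup.mk ⟨t * (x.out : ↥K) * t⁻¹, hcK' _ (Quotient.out x).2⟩
    have hθ : Function.Injective θ := by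
      intro x y hxy
      rw [QuotientGroup.eq, Subgroup.mem_subgroupOf] at hxy
      have h1 : ((⟨t * (x.out : ↥K) * t⁻¹, hcK' _ (Quotient.out x).2⟩ : ↥K)⁻¹ *
          ⟨t * (y.out : ↥K) * t⁻¹, hcK' _ (Quotient.out y).2⟩ : ↥K) = (⟨t * ((x.out⁻¹ * y.out : ↥K) : G) * t⁻¹,
            hcK' _ (x.out⁻¹ * y.out : ↥K).2⟩ : ↥K) := by
        apply Subtype.ext
        simp only [Subgroup.coe_mul, Subgroup.coe_inv]
        group
      rw [h1] at hxy
      have h2 : ((x.out⁻¹ * y.out : ↥K) : G) ∈ T := (Subgroup.mem_normalizer_iff.mp htT _).mpr hxy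
      have h3 : (QuotientGroup.mk x.out : ↥K ⧸ T.subgroupOf K) = QuotientGroup.mk y.out := by
        rw [QuotientGroup.eq, Subgroup.mem_subgroupOf]; exact h2
      rwa [QuotientGroup.out_eq', QuotientGroup.out_eq'] at h3
    have htr : ((tr ⟨t * v * t⁻¹, htv⟩ : ↥V) : G) = t * (tr ⟨v, hv⟩ : ↥V) * t⁻¹ := by
      let cV' : ↥V →* ↥V :=
        { toFun := fun w => ⟨t * w * t⁻¹, (Subgroup.mem_normalizer_iff.mp htV w).mp w.2⟩
          map_one' := by apply Subtype.ext; simp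
          map_mul' := by intro a b; apply Subtype.ext; simp }
      have h1 : tr ⟨t * v * t⁻¹, htv⟩ = cV' (tr ⟨v, hv⟩) := by
        show ∏ x : ↥K ⧸ T.subgroupOf K, cj _ x.out = cV' (∏ x : ↥K ⧸ T.subgroupOf K, cj _ x.out)
        rw [map_prod]
        symm
        refine Fintype.prod_equiv (Equiv.ofBijective θ (Finite.injective_iff_bijective.mp hθ)) _ _ (fun x => ?_)
        have h2 : cV' (cj ⟨v, hv⟩ x.out) = cj ⟨t * v * t⁻¹, htv⟩ ⟨t * (x.out : ↥K) * t⁻¹, hcK' _ (Quotient.out x).2⟩ := by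
          apply Subtype.ext
          show t * ((x.out : ↥K) * v * ((x.out : ↥K) : G)⁻¹) * t⁻¹ =
            (t * (x.out : ↥K) * t⁻¹) * (t * v * t⁻¹) * (t * (x.out : ↥K) * t⁻¹)⁻¹
          group
        rw [h2]
        apply hrep _ htvT
        rw [QuotientGroup.out_eq']
        rfl
      rw [h1]; rfl
    show (((tr ⟨t * v * t⁻¹, htv⟩) ^ m' : ↥V) : G) = t * ((tr ⟨v, hv⟩) ^ m' : ↥V) * t⁻¹
    rw [Subgroup.coe_pow, Subgroup.coe_pow, htr, conj_pow]

end Cfsg.Agent.H222.RelTrace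
end

-- part: H222/Kieler
section
/-!
# The Kieler Lemma

`H` of characteristic `p` (or of local characteristic `p`), `T` a Sylow `p`-subgroup, `L` subnormal:
`C_L(Ω₁ Z(T)) = C_L(Ω₁ Z(T ∩ L))`.
-/

set_option autoImplicit false

namespace Cfsg.Agent.H222.Kieler

open Subgroup Cfsg H227.Weak
open scoped commutatorElement

universe u

variable {H : Type u} [Group H] {p : ℕ}

/-- `Ω₁(Z(T))` -/
abbrev Om (p : ℕ) (T : Subgroup H) : Subgroup H := omegaOne p (T ⊓ centralizer (T : Set H))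

theorem center_comm (T : Subgroup H) : ∀ a ∈ T ⊓ centralizer (T : Set H),
    ∀ b ∈ T ⊓ centralizer (T : Set H), a * b = b * a := by
  intro a ha b hb
  exact (Subgroup.mem_centralizer_iff.mp hb.2 a ha.1)

theorem mem_Om {T : Subgroup H} {x : H} :
    x ∈ Om p T ↔ x ∈ T ∧ x ∈ centralizer (T : Set H) ∧ x ^ p = 1 := by
  rw [Om, PLocal.StableClosure.mem_omegaOne_iff_of_comm (center_comm T), Subgroup.mem_inf, and_assoc]

theorem Om_le (T : Subgroup H) : Om p T ≤ T := fun _ hx => (mem_Om.mp hx).1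

theorem le_normalizer_of_conj' {A K : Subgroup H} (h : ∀ a ∈ A, ∀ k ∈ K, a * k * a⁻¹ ∈ K) :
    A ≤ normalizer (K : Set H) := SylowJoin.le_normalizer_of_conj h

variable [Finite H] [hp : Fact p.Prime]

/-- whatever normalizes `T` normalizes `Ω₁(Z(T))` -/
theorem normalizer_le_normalizer_Om (T : Subgroup H) :
    normalizer (T : Set H) ≤ normalizer ((Om p T : Subgroup H) : Set H) := by
  apply le_normalizer_of_conj'
  intro a ha k hk
  rw [mem_Om] at hk ⊢
  refine ⟨(Subgroup.mem_normalizer_iff.mp ha k).mp hk.1,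
    (Subgroup.mem_normalizer_iff.mp (normalizer_le_normalizer_centralizer T ha) k).mp hk.2.1, ?_⟩
  rw [conj_pow, hk.2.2]; simp

theorem Om_ne_bot {T : Subgroup H} (hT : IsPGroup p ↥T) (h : T ≠ ⊥) : Om p T ≠ ⊥ := by
  haveI : Nontrivial ↥T := (Subgroup.nontrivial_iff_ne_bot T).mpr h
  have h1 : Nontrivial (center ↥T) := hT.center_nontrivial
  have h2 : IsPGroup p (center ↥T) := hT.to_subgroup _
  obtain ⟨k, hk⟩ := IsPGroup.iff_card.mp h2
  have h3 : p ∣ Nat.card (center ↥T) := by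
    rcases Nat.eq_zero_or_pos k with h0 | h0
    · rw [h0, pow_zero] at hk
      exact absurd hk Finite.one_lt_card.ne'
    · rw [hk]; exact dvd_pow_self p h0.ne'
  obtain ⟨x, hx⟩ := exists_prime_orderOf_dvd_card' p h3
  intro hbot
  have h4 : ((x : ↥T) : H) ∈ Om p T := by
    rw [mem_Om]
    refine ⟨(x : ↥T).2, ?_, ?_⟩
    · rw [Subgroup.mem_centralizer_iff]
      intro y hy
      exact congrArg Subtype.val (Subgroup.mem_center_iff.mp x.2 ⟨y, hy⟩)
    · have h5 : x ^ p = 1 := by rw [← hx]; exact pow_orderOf_eq_one x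
      have h6 := congrArg (fun z : center ↥T => ((z : ↥T) : H)) h5
      simpa using h6
  rw [hbot, Subgroup.mem_bot] at h4
  have h5 : x = 1 := Subtype.ext (Subtype.ext h4)
  rw [h5, orderOf_one] at hx
  exact hp.out.one_lt.ne hx

/-- characteristic `p` passes to normal subgroups -/
theorem Ch.of_normal {X L : Subgroup H} (hX : Ch p X) (hLX : L ≤ X)
    (hn : X ≤ normalizer (L : Set H)) : Ch p L := by
  set E := pCoreOf p X with hE
  set R := pCoreOf p L with hR
  have hEp : IsPGroup p E := isPGroup_pCoreOf X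
  have hXE : X ≤ normalizer (E : Set H) :=
    le_normalizer.trans (normalizer_le_normalizer_pCoreOf p X)
  have hXR : X ≤ normalizer (R : Set H) := hn.trans (normalizer_le_normalizer_pCoreOf p L)
  have hEL : E ⊓ L ≤ R := by
    apply le_pCoreOf (hEp.to_le inf_le_left) inf_le_right
    apply le_normalizer_of_conj'
    intro a ha k hk
    exact ⟨(Subgroup.mem_normalizer_iff.mp (hXE (hLX ha)) k).mp hk.1,
      L.mul_mem (L.mul_mem ha hk.2) (L.inv_mem ha)⟩
  refine isPGroup_of_forall fun x hx hxc => ?_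
  have hC : ∀ e ∈ E, ∀ c ∈ L ⊓ centralizer (R : Set H), ⁅e, c⁆ ∈ R := by
    intro e he c hc
    apply hEL
    refine ⟨?_, ?_⟩
    · have : ⁅e, c⁆ = e * (c * e⁻¹ * c⁻¹) := by rw [commutatorElement_def]; group
      rw [this]
      exact E.mul_mem he ((Subgroup.mem_normalizer_iff.mp (hXE (hLX hc.1)) _).mp (E.inv_mem he))
    · have : ⁅e, c⁆ = (e * c * e⁻¹) * c⁻¹ := by rw [commutatorElement_def]
      rw [this]
      exact L.mul_mem ((Subgroup.mem_normalizer_iff.mp (hn (pCoreOf_le p X he)) _).mp hc.1) (L.inv_mem hc.1)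
  have hxX : zpowers x ≤ L ⊓ centralizer (R : Set H) := by rwa [zpowers_le]
  have h1 : ⁅⁅E, zpowers x⁆, zpowers x⁆ = ⊥ := by
    rw [Subgroup.commutator_eq_bot_iff_le_centralizer]
    refine le_trans (b := R) ?_ ?_
    · rw [Subgroup.commutator_le]
      intro e he c hc
      exact hC e he c (hxX hc)
    · rw [Subgroup.le_centralizer_iff]
      exact hxX.trans inf_le_right
  have h2 : ⁅E, zpowers x⁆ = ⊥ := by
    apply Lib.ThompsonPQ.commutator_eq_bot_of_coprime _ _ h1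
    · rw [Nat.card_zpowers]
      obtain ⟨k, hk⟩ := IsPGroup.iff_card.mp hEp
      rw [hk]
      exact Nat.Coprime.pow_right k hxc
    · exact (hxX.trans inf_le_left).trans (hLX.trans hXE)
  rw [Subgroup.commutator_comm, Subgroup.commutator_eq_bot_iff_le_centralizer] at h2
  exact eq_one_of_coprime hX ⟨hLX hx.1, h2 (mem_zpowers x)⟩ hxc

/-- `O_p(L) = O_p(X) ∩ L` is in each Sylow `p`-subgroup of `L`. -/
theorem pCoreOf_le_of_sylow {L T : Subgroup H} (hT : IsPGroup p ↥T) (hi : ¬ p ∣ T.relIndex L) :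
    pCoreOf p L ≤ T := by
  have h1 : pCore p ↥L ≤ T.subgroupOf L :=
    Lib.Cores.pCore_le_sylow ((hT.comap_of_injective L.subtype L.subtype_injective).toSylow hi)
  rintro _ ⟨x, hx, rfl⟩
  exact h1 hx

/-- `C_L(O_p(L)) ≤ O_p(L)` when `Ch p L`. -/
theorem Ch.centralizer_le {L : Subgroup H} (hL : Ch p L) :
    L ⊓ centralizer ((pCoreOf p L : Subgroup H) : Set H) ≤ pCoreOf p L := by
  have h := (pCoreOf_centralizer_iff (p := p) L).mpr hL
  rintro x ⟨hx, hxc⟩
  have h1 : (⟨x, hx⟩ : ↥L) ∈ centralizer (pCore p ↥L : Set ↥L) := by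
    rw [Subgroup.mem_centralizer_iff]
    intro y hy
    apply Subtype.ext
    exact Subgroup.mem_centralizer_iff.mp hxc _ ⟨y, hy, rfl⟩
  exact ⟨⟨x, hx⟩, h h1, rfl⟩

theorem not_dvd_relIndex_inf {X T L : Subgroup H} (hT : IsPGroup p ↥T) (hTX : T ≤ X)
    (hi : ¬ p ∣ T.relIndex X) (hLX : L ≤ X) (hn : X ≤ normalizer (L : Set H)) :
    ¬ p ∣ (T ⊓ L).relIndex L := by
  have h1 : (L.subgroupOf X).IsSubnormal := ((normal_subgroupOf_iff_le_normalizer hLX).mpr hn).isSubnormal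
  have h2 := SylowJoin.not_dvd_relIndex_of_subnormal
    (hT.comap_of_injective X.subtype X.subtype_injective) (S := T.subgroupOf X) hi h1
  rw [Subgroup.inf_relIndex_right]
  have h3 : (T.subgroupOf X).relIndex (L.subgroupOf X) = T.relIndex L := by
    rw [Subgroup.subgroupOf, Subgroup.subgroupOf, Subgroup.relIndex_comap, Subgroup.map_comap_eq,
      Subgroup.range_subtype, inf_eq_right.mpr hLX]
  rwa [h3] at h2

/-- Half of the Kieler lemma: `Z(T) ≤ C(L) Ω₁Z(T ∩ L)`. -/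
theorem exists_mul {X T L : Subgroup H} (hX : Ch p X) (hT : IsPGroup p ↥T) (hTX : T ≤ X)
    (hi : ¬ p ∣ T.relIndex X) (hLX : L ≤ X) (hn : X ≤ normalizer (L : Set H)) {z : H}
    (hz : z ∈ Om p T) : ∃ c ∈ centralizer (L : Set H), ∃ d ∈ Om p (T ⊓ L), z = c * d := by
  have hL : Ch p L := Ch.of_normal hX hLX hn
  have hiL := not_dvd_relIndex_inf hT hTX hi hLX hn
  set R := pCoreOf p L with hR
  have hRp : IsPGroup p ↥R := isPGroup_pCoreOf L
  have hRT : R ≤ T ⊓ L := pCoreOf_le_of_sylow (hT.to_le inf_le_left) hiL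
  have hXR : X ≤ normalizer (R : Set H) := hn.trans (normalizer_le_normalizer_pCoreOf p L)
  have hz' := mem_Om.mp hz
  have hzR : z ∈ centralizer (R : Set H) := (centralizer_le (hRT.trans inf_le_left)) hz'.2.1
  -- the commutators `[x, z]`, `x ∈ L`
  have hcom : ∀ x ∈ L, x * z * x⁻¹ * z⁻¹ ∈ Om p R := by
    intro x hx
    have hC : x * z * x⁻¹ * z⁻¹ ∈ centralizer (R : Set H) := by
      apply Subgroup.mul_mem _ _ (Subgroup.inv_mem _ hzR)
      exact (Subgroup.mem_normalizer_iff.mp (normalizer_le_normalizer_centralizer R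
        (hXR (hLX hx))) z).mp hzR
    have hLm : x * z * x⁻¹ * z⁻¹ ∈ L := by
      have : x * z * x⁻¹ * z⁻¹ = x * (z * x⁻¹ * z⁻¹) := by group
      rw [this]
      exact L.mul_mem hx ((Subgroup.mem_normalizer_iff.mp (hn (hTX hz'.1)) _).mp (L.inv_mem hx))
    have hwR : x * z * x⁻¹ * z⁻¹ ∈ R := Ch.centralizer_le hL ⟨hLm, hC⟩
    rw [mem_Om]
    refine ⟨hwR, hC, ?_⟩
    have h1 : Commute (x * z * x⁻¹ * z⁻¹) z := (Subgroup.mem_centralizer_iff.mp hzR _ hwR)
    have h2 : (x * z * x⁻¹ * z⁻¹ * z) ^ p = 1 := by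
      have : x * z * x⁻¹ * z⁻¹ * z = x * z * x⁻¹ := by group
      rw [this, conj_pow, hz'.2.2]; simp
    rwa [h1.mul_pow, hz'.2.2, mul_one] at h2
  -- the module
  set A := Om p R with hA
  have hAz : zpowers z ≤ centralizer (A : Set H) := by
    rw [zpowers_le]
    exact centralizer_le (Om_le R) hzR
  have hVmem : ∀ v : H, v ∈ A ⊔ zpowers z ↔ ∃ a ∈ A, ∃ y ∈ zpowers z, a * y = v := fun v =>
    SignalizersComponents.CoprimeBasic.mem_sup_iff (hAz.trans (Subgroup.centralizer_le_normalizer _)) v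
  have hAc : ∀ a ∈ A, ∀ b ∈ A, a * b = b * a := fun a ha b hb =>
    Subgroup.mem_centralizer_iff.mp (mem_Om.mp hb).2.1 a (mem_Om.mp ha).1
  have hVc : ∀ a ∈ A ⊔ zpowers z, ∀ b ∈ A ⊔ zpowers z, a * b = b * a := by
    intro a ha b hb
    obtain ⟨a₁, ha₁, y₁, hy₁, rfl⟩ := (hVmem a).mp ha
    obtain ⟨a₂, ha₂, y₂, hy₂, rfl⟩ := (hVmem b).mp hb
    have h1 : a₂ * y₁ = y₁ * a₂ := Subgroup.mem_centralizer_iff.mp (hAz hy₁) a₂ ha₂
    have h2 : a₁ * y₂ = y₂ * a₁ := Subgroup.mem_centralizer_iff.mp (hAz hy₂) a₁ ha₁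
    have h3 : y₁ * y₂ = y₂ * y₁ := by
      obtain ⟨i, rfl⟩ := Subgroup.mem_zpowers_iff.mp hy₁
      obtain ⟨j, rfl⟩ := Subgroup.mem_zpowers_iff.mp hy₂
      exact (Commute.refl z).zpow_zpow i j
    have h4 := hAc a₁ ha₁ a₂ ha₂
    calc a₁ * y₁ * (a₂ * y₂) = a₁ * (y₁ * a₂) * y₂ := by group
      _ = a₁ * (a₂ * y₁) * y₂ := by rw [h1]
      _ = (a₁ * a₂) * (y₁ * y₂) := by group
      _ = (a₂ * a₁) * (y₂ * y₁) := by rw [h4, h3]
      _ = a₂ * (a₁ * y₂) * y₁ := by group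
      _ = a₂ * (y₂ * a₁) * y₁ := by rw [h2]
      _ = a₂ * y₂ * (a₁ * y₁) := by group
  have hVp : IsPGroup p ↥(A ⊔ zpowers z) := by
    apply hT.to_le
    apply sup_le ((Om_le R).trans (hRT.trans inf_le_left))
    rw [zpowers_le]; exact hz'.1
  have hLV : L ≤ normalizer ((A ⊔ zpowers z : Subgroup H) : Set H) := by
    apply le_normalizer_of_conj'
    intro x hx v hv
    have h1 : (A ⊔ zpowers z).map (MulAut.conj x).toMonoidHom ≤ A ⊔ zpowers z := by
      rw [Subgroup.map_sup]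
      apply sup_le
      · rintro _ ⟨a, ha, rfl⟩
        exact le_sup_left (α := Subgroup H) ((Subgroup.mem_normalizer_iff.mp
          (normalizer_le_normalizer_Om R (hXR (hLX hx))) a).mp ha)
      · rw [Subgroup.map_le_iff_le_comap, zpowers_le, Subgroup.mem_comap]
        have h2 : (MulAut.conj x).toMonoidHom z = (x * z * x⁻¹ * z⁻¹) * z := by simp
        rw [h2]
        exact Subgroup.mul_mem _ (le_sup_left (α := Subgroup H) (hcom x hx))
          (le_sup_right (α := Subgroup H) (mem_zpowers z))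
    exact h1 ⟨v, hv, rfl⟩
  obtain ⟨π, h1, -, -, h4, -⟩ := RelTrace.exists_retraction (p := p) (A ⊔ zpowers z) L (T ⊓ L) hVp hVc
    hLV inf_le_right hiL
  have hzV : z ∈ A ⊔ zpowers z := le_sup_right (α := Subgroup H) (mem_zpowers z)
  have hzT : z ∈ centralizer ((T ⊓ L : Subgroup H) : Set H) := centralizer_le inf_le_left hz'.2.1
  have h5 := h1 z hzV hzT
  have h6 : z⁻¹ * π z ∈ A := by
    apply h4 z hzV hzT
    intro k hk
    have h7 : z⁻¹ * (k * z * k⁻¹) = z⁻¹ * (k * z * k⁻¹ * z⁻¹) * z := by group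
    have h8 : z⁻¹ * (k * z * k⁻¹ * z⁻¹) = (k * z * k⁻¹ * z⁻¹) * z⁻¹ := by
      have h9 : (k * z * k⁻¹ * z⁻¹) * z = z * (k * z * k⁻¹ * z⁻¹) :=
        Subgroup.mem_centralizer_iff.mp (hAz (mem_zpowers z)) _ (hcom k hk)
      rw [inv_mul_eq_iff_eq_mul, ← mul_assoc, ← h9]; group
    rw [h7, h8, inv_mul_cancel_right]
    exact hcom k hk
  refine ⟨π z, h5.2, (π z)⁻¹ * z, ?_, by group⟩
  have h7 : (π z)⁻¹ * z ∈ A := by
    have h8 := A.inv_mem h6
    have h9 : (z⁻¹ * π z)⁻¹ = (π z)⁻¹ * z := by group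
    rwa [h9] at h8
  rw [mem_Om]
  refine ⟨hRT (Om_le R h7), ?_, (mem_Om.mp h7).2.2⟩
  exact Subgroup.mul_mem _ (Subgroup.inv_mem _ (centralizer_le inf_le_right h5.2)) hzT

/-- **Kieler Lemma**, normal subgroup, characteristic `p`. -/
theorem kieler_normal {X T L : Subgroup H} (hX : Ch p X) (hT : IsPGroup p ↥T) (hTX : T ≤ X)
    (hi : ¬ p ∣ T.relIndex X) (hLX : L ≤ X) (hn : X ≤ normalizer (L : Set H)) {x : H}
    (hx : x ∈ L) : x ∈ centralizer (Om p T : Set H) ↔ x ∈ centralizer (Om p (T ⊓ L) : Set H) := by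
  have hiL := not_dvd_relIndex_inf hT hTX hi hLX hn
  constructor
  swap
  · intro h
    rw [Subgroup.mem_centralizer_iff] at h ⊢
    intro z hz
    obtain ⟨c, hc, d, hd, rfl⟩ := exists_mul hX hT hTX hi hLX hn hz
    have h1 : x * c = c * x := Subgroup.mem_centralizer_iff.mp hc x hx
    have h2 := h d hd
    rw [mul_assoc, h2, ← mul_assoc, ← h1, mul_assoc]
  · intro h
    set Z := Om p T with hZ
    set K := L ⊓ centralizer (Z : Set H) with hK
    have hZp : IsPGroup p ↥Z := hT.to_le (Om_le T)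
    have hL : Ch p L := Ch.of_normal hX hLX hn
    have hZL : Z ≤ normalizer (L : Set H) := (Om_le T).trans (hTX.trans hn)
    have hKch : Ch p K := Ch.inf_centralizer hL hZp hZL
    -- `T ∩ L` is a Sylow subgroup of `K`
    have hTK : T ⊓ L ≤ K := by
      refine le_inf inf_le_right ?_
      rw [Subgroup.le_centralizer_iff]
      intro z hz
      exact centralizer_le inf_le_left (mem_Om.mp hz).2.1
    have hiK : ¬ p ∣ (T ⊓ L).relIndex K := by
      intro hd
      apply hiL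
      rw [← Subgroup.relIndex_mul_relIndex _ _ _ hTK (inf_le_left : K ≤ L)]
      exact Dvd.dvd.mul_right hd _
    set R := pCoreOf p K with hR
    have hRT : R ≤ T ⊓ L := pCoreOf_le_of_sylow (hT.to_le inf_le_left) hiK
    have hRp : IsPGroup p ↥R := isPGroup_pCoreOf K
    set V := Om p R with hV
    have hVc : ∀ a ∈ V, ∀ b ∈ V, a * b = b * a := fun a ha b hb =>
      Subgroup.mem_centralizer_iff.mp (mem_Om.mp hb).2.1 a (mem_Om.mp ha).1
    have hKV : normalizer (K : Set H) ≤ normalizer (V : Set H) :=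
      (normalizer_le_normalizer_pCoreOf p K).trans (normalizer_le_normalizer_Om R)
    -- `Z₀ ≤ V`
    have hZ0 : ∀ y ∈ Om p (T ⊓ L), y ∈ V := by
      intro y hy
      have hy' := mem_Om.mp hy
      have h1 : y ∈ centralizer (R : Set H) := centralizer_le hRT hy'.2.1
      rw [mem_Om]
      exact ⟨Ch.centralizer_le hKch ⟨hTK hy'.1, h1⟩, h1, hy'.2.2⟩
    have hTnK : T ≤ normalizer (K : Set H) := by
      apply le_normalizer_of_conj'
      intro a ha k hk
      refine ⟨(Subgroup.mem_normalizer_iff.mp (hn (hTX ha)) k).mp hk.1, ?_⟩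
      have ha' : a ∈ centralizer (Z : Set H) := by
        rw [Subgroup.mem_centralizer_iff]
        intro z hz
        exact (Subgroup.mem_centralizer_iff.mp (mem_Om.mp hz).2.1 a ha).symm
      exact Subgroup.mul_mem _ (Subgroup.mul_mem _ ha' hk.2) (Subgroup.inv_mem _ ha')
    have hTnTL : T ≤ normalizer ((T ⊓ L : Subgroup H) : Set H) := by
      apply le_normalizer_of_conj'
      intro a ha k hk
      exact ⟨T.mul_mem (T.mul_mem ha hk.1) (T.inv_mem ha),
        (Subgroup.mem_normalizer_iff.mp (hn (hTX ha)) k).mp hk.2⟩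
    obtain ⟨π, h1, h2, h3, h4, h5⟩ := RelTrace.exists_retraction (p := p) V K (T ⊓ L)
      (hRp.to_le (Om_le R)) hVc (le_normalizer.trans hKV) hTK hiK
    -- the kernel of `π` on `Z₀`
    let D : Subgroup H :=
      { carrier := {y | y ∈ Om p (T ⊓ L) ∧ π y = 1}
        one_mem' := ⟨one_mem _, h2 1 (one_mem _) (one_mem _)⟩
        mul_mem' := by
          rintro a b ⟨ha, ha1⟩ ⟨hb, hb1⟩
          refine ⟨mul_mem ha hb, ?_⟩
          rw [h3 a (hZ0 a ha) (mem_Om.mp ha).2.1 b (hZ0 b hb) (mem_Om.mp hb).2.1, ha1, hb1, one_mul]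
        inv_mem' := by
          rintro a ⟨ha, ha1⟩
          refine ⟨inv_mem ha, ?_⟩
          have h6 := h3 a (hZ0 a ha) (mem_Om.mp ha).2.1 a⁻¹ (hZ0 _ (inv_mem ha)) (mem_Om.mp (inv_mem ha)).2.1
          rw [mul_inv_cancel, ha1, one_mul, h2 1 (one_mem _) (one_mem _)] at h6
          exact h6.symm }
    have hDmem : ∀ y, y ∈ D ↔ y ∈ Om p (T ⊓ L) ∧ π y = 1 := fun y => Iff.rfl
    have hTD : T ≤ normalizer (D : Set H) := by
      apply le_normalizer_of_conj'
      intro a ha k hk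
      rw [hDmem] at hk ⊢
      refine ⟨(Subgroup.mem_normalizer_iff.mp (normalizer_le_normalizer_Om _ (hTnTL ha)) k).mp hk.1, ?_⟩
      rw [h5 a (hKV (hTnK ha)) (hTnK ha) (hTnTL ha) k (hZ0 k hk.1) (mem_Om.mp hk.1).2.1, hk.2]
      simp
    have hDbot : D = ⊥ := by
      by_contra hne
      -- `C_D(T) ≠ 1`
      have hDT : D ≤ T := fun y hy => (Om_le _ hy.1).1
      have h6 := PLocal.OffenderStep.inf_centralizer_ne_bot D T (hT.to_le hDT) hT hTD hne
      obtain ⟨y, ⟨hyD, hyT⟩, hy1⟩ : ∃ y ∈ D ⊓ centralizer (T : Set H), y ≠ 1 := by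
        by_contra hcon
        push Not at hcon
        exact h6 (le_bot_iff.mp (fun z hz => Subgroup.mem_bot.mpr (hcon z hz)))
      apply hy1
      have hyZ : y ∈ Z := by
        rw [hZ, mem_Om]
        exact ⟨hDT hyD, hyT, (mem_Om.mp hyD.1).2.2⟩
      have hyK : y ∈ centralizer (K : Set H) := by
        rw [Subgroup.mem_centralizer_iff]
        intro k hk
        exact (Subgroup.mem_centralizer_iff.mp hk.2 y hyZ).symm
      rw [← h2 y (hZ0 y hyD.1) hyK]
      exact hyD.2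
    rw [Subgroup.mem_centralizer_iff]
    intro y hy
    -- `y = π y`
    have hyV := hZ0 y hy
    have hyT := (mem_Om.mp hy).2.1
    have h6 := h1 y hyV hyT
    have hπy : π y ∈ Om p (T ⊓ L) := by
      rw [mem_Om]
      refine ⟨hRT (Om_le R h6.1), ?_, (mem_Om.mp h6.1).2.2⟩
      exact centralizer_le hTK h6.2
    have h7 : y * (π y)⁻¹ ∈ D := by
      rw [hDmem]
      refine ⟨mul_mem hy (inv_mem hπy), ?_⟩
      have hinv := inv_mem hπy
      rw [h3 y hyV hyT (π y)⁻¹ (hZ0 _ hinv) (mem_Om.mp hinv).2.1,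
        h2 (π y)⁻¹ (hZ0 _ hinv) (inv_mem h6.2), mul_inv_cancel]
    rw [hDbot, Subgroup.mem_bot, mul_inv_eq_one] at h7
    rw [h7]
    have hxK : x ∈ K := ⟨hx, h⟩
    exact (Subgroup.mem_centralizer_iff.mp h6.2 x hxK).symm

/-- local characteristic `p` of a subgroup `X` (without the condition on the order) -/
def LC (p : ℕ) (X : Subgroup H) : Prop :=
  ∀ R : Subgroup H, IsPGroup p ↥R → R ≤ X → R ≠ ⊥ → Ch p (X ⊓ normalizer (R : Set H))

theorem LC.of_normal {X L : Subgroup H} (hX : LC p X) (hLX : L ≤ X)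
    (hn : X ≤ normalizer (L : Set H)) : LC p L := by
  intro R hR hRL hR1
  refine Ch.of_normal (hX R hR (hRL.trans hLX) hR1) (inf_le_inf_right _ hLX) ?_
  apply le_normalizer_of_conj'
  intro a ha k hk
  exact ⟨(Subgroup.mem_normalizer_iff.mp (hn ha.1) k).mp hk.1,
    Subgroup.mul_mem _ (Subgroup.mul_mem _ ha.2 hk.2) (Subgroup.inv_mem _ ha.2)⟩

/-- **Kieler Lemma**, normal subgroup, local characteristic `p`. -/
theorem kieler_local_normal {X T L : Subgroup H} (hX : LC p X) (hT : IsPGroup p ↥T) (hTX : T ≤ X)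
    (hi : ¬ p ∣ T.relIndex X) (hLX : L ≤ X) (hn : X ≤ normalizer (L : Set H)) (hne : T ⊓ L ≠ ⊥)
    {x : H} (hx : x ∈ L) : x ∈ centralizer (Om p T : Set H) ↔ x ∈ centralizer (Om p (T ⊓ L) : Set H) := by
  have hTne : T ≠ ⊥ := fun h => hne (by rw [h, bot_inf_eq])
  -- reduction to `X ∩ N(Z)`
  have key : ∀ Z : Subgroup H, IsPGroup p ↥Z → Z ≤ X → Z ≠ ⊥ → T ≤ normalizer (Z : Set H) →
      x ∈ centralizer (Z : Set H) →
      (x ∈ centralizer (Om p T : Set H) ↔ x ∈ centralizer (Om p (T ⊓ L) : Set H)) := by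
    intro Z hZ hZX hZ1 hTZ hxZ
    have hM : Ch p (X ⊓ normalizer (Z : Set H)) := hX Z hZ hZX hZ1
    have hTM : T ≤ X ⊓ normalizer (Z : Set H) := le_inf hTX hTZ
    have h1 := kieler_normal (L := L ⊓ normalizer (Z : Set H)) hM hT hTM (fun hd => hi (by
      rw [← Subgroup.relIndex_mul_relIndex _ _ _ hTM (inf_le_left)]
      exact Dvd.dvd.mul_right hd _)) (inf_le_inf_right _ hLX) (by
        apply le_normalizer_of_conj'
        intro a ha k hk
        exact ⟨(Subgroup.mem_normalizer_iff.mp (hn ha.1) k).mp hk.1,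
          Subgroup.mul_mem _ (Subgroup.mul_mem _ ha.2 hk.2) (Subgroup.inv_mem _ ha.2)⟩)
      (x := x) ⟨hx, Subgroup.centralizer_le_normalizer _ hxZ⟩
    have h2 : T ⊓ (L ⊓ normalizer (Z : Set H)) = T ⊓ L := by
      rw [← inf_assoc, inf_eq_left]
      exact inf_le_left.trans hTZ
    rwa [h2] at h1
  constructor
  · intro h
    refine (key (Om p T) (hT.to_le (Om_le T)) ((Om_le T).trans hTX) (Om_ne_bot hT hTne)
      (le_normalizer.trans (normalizer_le_normalizer_Om T)) h).mp h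
  · intro h
    have hTL : IsPGroup p ↥(T ⊓ L : Subgroup H) := hT.to_le inf_le_left
    refine (key (Om p (T ⊓ L)) (hTL.to_le (Om_le _)) ((Om_le _).trans (inf_le_left.trans hTX))
      (Om_ne_bot hTL hne) ?_ h).mpr h
    refine le_trans ?_ (normalizer_le_normalizer_Om _)
    apply le_normalizer_of_conj'
    intro a ha k hk
    exact ⟨T.mul_mem (T.mul_mem ha hk.1) (T.inv_mem ha),
      (Subgroup.mem_normalizer_iff.mp (hn (hTX ha)) k).mp hk.2⟩

/-- **Kieler Lemma**, subnormal subgroup, local characteristic `p`. -/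
theorem kieler_subnormal {T : Subgroup H} (hX : LC p (⊤ : Subgroup H)) (hT : IsPGroup p ↥T)
    (hi : ¬ p ∣ T.index) {L : Subgroup H} (hL : L.IsSubnormal) (hne : T ⊓ L ≠ ⊥) :
    LC p L ∧ ∀ x ∈ L, (x ∈ centralizer (Om p T : Set H) ↔ x ∈ centralizer (Om p (T ⊓ L) : Set H)) := by
  induction hL with
  | top =>
    rw [inf_top_eq]
    exact ⟨hX, fun _ _ => Iff.rfl⟩
  | step L K hLK hK hN ih =>
    have hne' : T ⊓ K ≠ ⊥ := fun h => hne (le_bot_iff.mp (h ▸ inf_le_inf_left T hLK))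
    obtain ⟨h1, h2⟩ := ih hne'
    have hn : K ≤ normalizer (L : Set H) := (normal_subgroupOf_iff_le_normalizer hLK).mp hN
    have h3 : T ⊓ K ⊓ L = T ⊓ L := by rw [inf_assoc, inf_eq_right.mpr hLK]
    refine ⟨h1.of_normal hLK hn, fun x hx => (h2 x (hLK hx)).trans ?_⟩
    have h4 := kieler_local_normal h1 (hT.to_le (inf_le_left : T ⊓ K ≤ T)) inf_le_right (by
      rw [Subgroup.inf_relIndex_right]
      exact SylowJoin.not_dvd_relIndex_of_subnormal hT hi hK) hLK hn (by rwa [h3]) hx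
    rwa [h3] at h4

end Cfsg.Agent.H222.Kieler
end

-- part: H222/PointStab
section
/-!
# Point stabilizers of joins of subnormal subgroups
-/

set_option autoImplicit false

namespace Cfsg.Agent.H222.PointStab

open Subgroup Cfsg H227.Weak H222.Kieler

universe u

variable {H : Type u} [Group H] {p : ℕ}

/-- A subnormal subgroup of index prime to `p` contains all `p`-elements. -/
theorem mem_of_subnormal [Finite H] [hp : Fact p.Prime] {E : Subgroup H} (hE : E.IsSubnormal)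
    (hi : ¬ p ∣ E.index) {x : H} (hx : ∃ k, orderOf x = p ^ k) : x ∈ E := by
  induction hE with
  | top => exact Subgroup.mem_top x
  | step E K hEK hK hN ih =>
    have h1 : E.relIndex K * K.index = E.index := Subgroup.relIndex_mul_index hEK
    have hxK : x ∈ K := ih (fun hd => hi (h1 ▸ Dvd.dvd.mul_left hd _))
    have h2 : ¬ p ∣ E.relIndex K := fun hd => hi (h1 ▸ Dvd.dvd.mul_right hd _)
    obtain ⟨k, hk⟩ := hx
    have h3 : ((⟨x, hxK⟩ : ↥K) : ↥K) ^ (E.relIndex K) ∈ E.subgroupOf K := by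
      exact Subgroup.pow_index_mem (E.subgroupOf K) ⟨x, hxK⟩
    have h4 : x ^ (E.relIndex K) ∈ E := h3
    have h5 : x ^ (p ^ k) = 1 := by rw [← hk]; exact pow_orderOf_eq_one x
    have hcop : (E.relIndex K).Coprime (p ^ k) :=
      Nat.Coprime.pow_right k ((Nat.Prime.coprime_iff_not_dvd hp.out).mpr h2).symm
    have hg := Nat.gcd_eq_gcd_ab (E.relIndex K) (p ^ k)
    rw [hcop] at hg
    have hx1 : x = (x ^ (E.relIndex K)) ^ (Nat.gcdA (E.relIndex K) (p ^ k)) *
        (x ^ (p ^ k)) ^ (Nat.gcdB (E.relIndex K) (p ^ k)) := by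
      rw [← zpow_natCast x (E.relIndex K), ← zpow_natCast x (p ^ k), ← zpow_mul, ← zpow_mul,
        ← zpow_add, ← hg]
      simp
    rw [hx1, h5, one_zpow, mul_one]
    exact E.zpow_mem h4 _

/-- the subgroup generated by the `p`-elements of `X` in `C(Z)` -/
def PS (p : ℕ) (Z X : Subgroup H) : Subgroup H :=
  closure {x : H | x ∈ X ⊓ centralizer (Z : Set H) ∧ ∃ k : ℕ, orderOf x = p ^ k}

theorem PS_le (Z X : Subgroup H) : PS p Z X ≤ X ⊓ centralizer (Z : Set H) := by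
  rw [PS, closure_le]
  exact fun x hx => hx.1

theorem PS_mono {Z X Y : Subgroup H} (h : X ≤ Y) : PS p Z X ≤ PS p Z Y :=
  closure_mono (fun _ hx => ⟨⟨h hx.1.1, hx.1.2⟩, hx.2⟩)

theorem mem_PS {Z X : Subgroup H} {x : H} (hx : x ∈ X) (hxZ : x ∈ centralizer (Z : Set H))
    (hk : ∃ k : ℕ, orderOf x = p ^ k) : x ∈ PS p Z X := Subgroup.subset_closure ⟨⟨hx, hxZ⟩, hk⟩

theorem le_normalizer_PS (Z X : Subgroup H) : X ⊓ centralizer (Z : Set H) ≤ normalizer (PS p Z X : Set H) := by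
  apply SylowJoin.le_normalizer_of_conj
  intro a ha k hk
  have h1 : (PS p Z X).map (MulAut.conj a).toMonoidHom ≤ PS p Z X := by
    rw [PS, Subgroup.map_le_iff_le_comap, closure_le]
    rintro x ⟨hx, k, hk⟩
    apply Subgroup.subset_closure
    refine ⟨Subgroup.mul_mem _ (Subgroup.mul_mem _ ha hx) (Subgroup.inv_mem _ ha), k, ?_⟩
    rw [← hk]
    exact orderOf_injective (MulAut.conj a).toMonoidHom (MulAut.conj a).injective x
  exact h1 ⟨k, hk, rfl⟩

theorem PS_sup [Finite H] [hp : Fact p.Prime] (T : Sylow p H) {L₁ L₂ : Subgroup H}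
    (h₁ : L₁.IsSubnormal) (h₂ : L₂.IsSubnormal) (Z : Subgroup H)
    (hTZ : (T : Subgroup H) ≤ centralizer (Z : Set H)) :
    PS p Z (L₁ ⊔ L₂) = PS p Z L₁ ⊔ PS p Z L₂ := by
  apply le_antisymm
  swap
  · exact sup_le (PS_mono le_sup_left) (PS_mono le_sup_right)
  set C : Subgroup H := centralizer (Z : Set H) with hC
  set E : Subgroup H := PS p Z L₁ ⊔ PS p Z L₂ with hE
  set X : Subgroup H := (L₁ ⊔ L₂) ⊓ C with hX
  have hEX : E ≤ X := sup_le ((PS_le Z L₁).trans (inf_le_inf_right _ le_sup_left))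
    ((PS_le Z L₂).trans (inf_le_inf_right _ le_sup_right))
  have hsub : ∀ L : Subgroup H, L.IsSubnormal → L ≤ L₁ ⊔ L₂ → ((PS p Z L).subgroupOf X).IsSubnormal := by
    intro L hL hLs
    refine Subgroup.IsSubnormal.step _ ((L ⊓ C).subgroupOf X) ?_ ?_ ?_
    · exact Subgroup.comap_mono (PS_le Z L)
    · have h3 : (L ⊓ C).subgroupOf X = L.subgroupOf X := by
        ext ⟨x, hx⟩
        simp only [Subgroup.mem_subgroupOf, Subgroup.mem_inf, and_iff_left_iff_imp]
        exact fun _ => hx.2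
      rw [h3]
      exact hL.comap X.subtype
    · apply Subgroup.normal_subgroupOf_of_le_normalizer
      apply SylowJoin.le_normalizer_of_conj
      rintro ⟨a, haX⟩ ha ⟨k, hkX⟩ hk
      rw [Subgroup.mem_subgroupOf] at ha hk ⊢
      exact (Subgroup.mem_normalizer_iff.mp (le_normalizer_PS Z L ha) k).mp hk
  have hEs : (E.subgroupOf X).IsSubnormal := by
    rw [hE, Subgroup.subgroupOf_sup ((le_sup_left : PS p Z L₁ ≤ E).trans hEX) ((le_sup_right : PS p Z L₂ ≤ E).trans hEX)]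
    exact Lib.SubnormalJoin.isSubnormal_sup (hsub L₁ h₁ le_sup_left) (hsub L₂ h₂ le_sup_right)
  -- `T ∩ L ≤ E`
  have hTL : (T : Subgroup H) ⊓ (L₁ ⊔ L₂) ≤ E := by
    rw [SylowJoin.sylow_inf_sup T h₁ h₂]
    refine sup_le_sup ?_ ?_
    · intro x hx
      exact mem_PS hx.2 (hTZ hx.1) (by
        obtain ⟨k, hk⟩ := IsPGroup.iff_orderOf.mp T.isPGroup' ⟨x, hx.1⟩
        exact ⟨k, by rwa [Subgroup.orderOf_mk] at hk⟩)
    · intro x hx
      exact mem_PS hx.2 (hTZ hx.1) (by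
        obtain ⟨k, hk⟩ := IsPGroup.iff_orderOf.mp T.isPGroup' ⟨x, hx.1⟩
        exact ⟨k, by rwa [Subgroup.orderOf_mk] at hk⟩)
  have hLs : (L₁ ⊔ L₂).IsSubnormal := Lib.SubnormalJoin.isSubnormal_sup h₁ h₂
  have hi1 := SylowJoin.not_dvd_relIndex_of_subnormal T.isPGroup' T.not_dvd_index hLs
  have hi : ¬ p ∣ (E.subgroupOf X).index := by
    intro hd
    apply hi1
    rw [← Subgroup.inf_relIndex_right]
    have h2 : (T : Subgroup H) ⊓ (L₁ ⊔ L₂) ≤ X := hTL.trans hEX
    rw [← Subgroup.relIndex_mul_relIndex _ _ _ h2 (inf_le_left : X ≤ L₁ ⊔ L₂),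
      ← Subgroup.relIndex_mul_relIndex _ _ _ hTL hEX]
    exact Dvd.dvd.mul_right (Dvd.dvd.mul_left hd _) _
  rw [PS, closure_le]
  rintro x ⟨hx, k, hk⟩
  have h3 := mem_of_subnormal (p := p) hEs hi (x := (⟨x, hx⟩ : ↥X)) ⟨k, by rwa [Subgroup.orderOf_mk]⟩
  exact h3

theorem pointStabilizer_eq [Finite H] [hp : Fact p.Prime] (hH : LC p (⊤ : Subgroup H)) (T : Sylow p H)
    {L : Subgroup H} (hL : L.IsSubnormal) :
    pointStabilizer p L ((T : Subgroup H) ⊓ L) = PS p (Om p (T : Subgroup H)) L := by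
  rw [pointStabilizer, PS]
  congr 1
  ext x
  simp only [Set.mem_setOf_eq]
  by_cases hne : (T : Subgroup H) ⊓ L = ⊥
  · -- then `L` is a `p'`-group
    have h1 := SylowJoin.not_dvd_relIndex_of_subnormal T.isPGroup' T.not_dvd_index hL
    rw [← Subgroup.inf_relIndex_right, hne, Subgroup.relIndex_bot_left] at h1
    have h2 : ∀ x : H, x ∈ L → (∃ k : ℕ, orderOf x = p ^ k) → x = 1 := by
      rintro x hx ⟨k, hk⟩
      rcases Nat.eq_zero_or_pos k with h0 | h0
      · rw [h0, pow_zero] at hk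
        exact orderOf_eq_one_iff.mp hk
      · exfalso
        apply h1
        have h3 := Subgroup.orderOf_dvd_natCard L hx
        exact (dvd_pow_self p h0.ne').trans (hk ▸ h3)
    constructor
    · rintro ⟨hx, hk⟩
      have := h2 x hx.1 hk
      subst this
      exact ⟨one_mem _, hk⟩
    · rintro ⟨hx, hk⟩
      have := h2 x hx.1 hk
      subst this
      exact ⟨one_mem _, hk⟩
  · have h1 := (kieler_subnormal hH T.isPGroup' T.not_dvd_index hL hne).2
    constructor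
    · rintro ⟨hx, hk⟩
      exact ⟨⟨hx.1, (h1 x hx.1).mpr hx.2⟩, hk⟩
    · rintro ⟨hx, hk⟩
      exact ⟨⟨hx.1, (h1 x hx.1).mp hx.2⟩, hk⟩

theorem LC_of_local [Finite H] [hp : Fact p.Prime] (hH : IsOfLocalCharacteristic p H) :
    LC p (⊤ : Subgroup H) := by
  intro R hR _ hR1
  rw [top_inf_eq, ← pCoreOf_centralizer_iff]
  exact hH.2 R hR hR1

theorem pointStabilizer_sup [Finite H] [hp : Fact p.Prime] (hH : IsOfLocalCharacteristic p H)
    (T : Sylow p H) (L₁ L₂ : Subgroup H) (h₁ : L₁.IsSubnormal) (h₂ : L₂.IsSubnormal) :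
    pointStabilizer p (L₁ ⊔ L₂) ((T : Subgroup H) ⊓ (L₁ ⊔ L₂)) =
      pointStabilizer p L₁ ((T : Subgroup H) ⊓ L₁) ⊔ pointStabilizer p L₂ ((T : Subgroup H) ⊓ L₂) := by
  have h := LC_of_local hH
  rw [pointStabilizer_eq h T (Lib.SubnormalJoin.isSubnormal_sup h₁ h₂), pointStabilizer_eq h T h₁,
    pointStabilizer_eq h T h₂]
  apply PS_sup T h₁ h₂
  rw [Subgroup.le_centralizer_iff]
  exact fun z hz => (mem_Om.mp hz).2.1

end Cfsg.Agent.H222.PointStab
end

-- part: S2806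
section
set_option autoImplicit false
open Cfsg

namespace Cfsg.Agent.S2806

/-- Let H be a finite group of local characteristic p, T a Sylow p-subgroup, and L₁, L₂ subnormal subgroups of H generating the subgroup L. Then the point stabilizer of L with respect to T ∩ L is generated by the point stabilizers of L₁ and L₂ with respect to T ∩ L₁ and T ∩ L₂ (point stabilizer of X w.r.t. R: the subgroup generated by the p-elements of X centralizing Ω₁(Z(R))). -/
theorem result {H : Type*} [Group H] [Finite H] {p : ℕ} [Fact p.Prime] (hH : Cfsg.IsOfLocalCharacteristic p H) (T : Sylow p H) (L₁ L₂ : Subgroup H) (h₁ : L₁.IsSubnormal) (h₂ : L₂.IsSubnormal) : Cfsg.pointStabilizer p (L₁ ⊔ L₂) ((T : Subgroup H) ⊓ (L₁ ⊔ L₂)) = Cfsg.pointStabilizer p L₁ ((T : Subgroup H) ⊓ L₁) ⊔ Cfsg.pointStabilizer p L₂ ((T : Subgroup H) ⊓ L₂) := by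
  exact H222.PointStab.pointStabilizer_sup hH T L₁ L₂ h₁ h₂

end Cfsg.Agent.S2806
end
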