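import Mathlib
import Cfsg.Prelude.Def_LocalStructure
import Cfsg.Agent.Transfer.Residual
import Cfsg.Agent.S0064
import Cfsg.Agent.H223.OpTrivial
import Cfsg.Statements.S2814
set_option linter.all false

-- part: H223/SubClosure
section
/-!
# The subnormal closure

* `isSubnormal_sInf`: an intersection of subnormal subgroups of a finite group is subnormal;
* `subnormalClosure_isSubnormal`, `le_subnormalClosure`, `subnormalClosure_le`;
* `normalClosure_eq`: `K` is generated by the `K`-conjugates of `A`;
* `normalizer_le`: `N(A) ≤ N(K)`;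
* `sup_pResidual`: `K = A O^p(K)`;
* `commutator_pResidual`: `O^p(K) = [O^p(K), A]` if `A` is a `p`-group.
-/

set_option autoImplicit false
set_option linter.style.haveILetI false

namespace Cfsg.Agent.H223.SubClosure

open scoped commutatorElement
open Cfsg Subgroup
open Cfsg.Agent.Transfer.Residual Cfsg.Agent.Lib.CoprimeCommutator

variable {G : Type*} [Group G]

/-- An intersection of subnormal subgroups of a finite group is subnormal. -/
theorem isSubnormal_sInf [Finite G] (S : Set (Subgroup G)) (hS : ∀ A ∈ S, A.IsSubnormal) :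
    (sInf S).IsSubnormal := by
  have hfin : S.Finite := Set.toFinite S
  revert hS
  refine Set.Finite.induction_on
    (motive := fun T _ => (∀ A ∈ T, A.IsSubnormal) → (sInf T).IsSubnormal) S hfin ?_ ?_
  · intro _
    rw [sInf_empty]; exact Subgroup.IsSubnormal.top
  · intro A T _ _ ih hS
    rw [sInf_insert]
    exact (hS A (Set.mem_insert _ _)).inf (ih fun B hB => hS B (Set.mem_insert_of_mem _ hB))

theorem subnormalClosure_isSubnormal [Finite G] (A : Subgroup G) :
    (subnormalClosure A).IsSubnormal := isSubnormal_sInf _ fun _ hK => hK.2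

theorem le_subnormalClosure (A : Subgroup G) : A ≤ subnormalClosure A :=
  le_sInf fun _ hK => hK.1

theorem subnormalClosure_le {A K : Subgroup G} (h : A ≤ K) (hK : K.IsSubnormal) :
    subnormalClosure A ≤ K := sInf_le ⟨h, hK⟩

/-- The subnormal closure has no proper subnormal subgroup containing `A`. -/
theorem eq_top_of_isSubnormal [Finite G] {A : Subgroup G} {N : Subgroup ↥(subnormalClosure A)}
    (hN : N.IsSubnormal) (hA : A.subgroupOf (subnormalClosure A) ≤ N) : N = ⊤ := by
  have h1 : (N.map (subnormalClosure A).subtype).IsSubnormal :=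
    hN.trans' (subnormalClosure_isSubnormal A)
  have h2 : A ≤ N.map (subnormalClosure A).subtype := by
    have := Subgroup.map_mono (f := (subnormalClosure A).subtype) hA
    rwa [map_subgroupOf_eq_of_le (le_subnormalClosure A)] at this
  have h3 := subnormalClosure_le h2 h1
  rw [eq_top_iff]
  intro x _
  obtain ⟨y, hy, hyx⟩ := h3 x.2
  have : y = x := Subtype.ext hyx
  rwa [← this]

theorem normalClosure_eq [Finite G] (A : Subgroup G) :
    normalClosure ((A.subgroupOf (subnormalClosure A) : Subgroup _) : Set ↥(subnormalClosure A)) =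
      ⊤ :=
  eq_top_of_isSubnormal (Subgroup.Normal.isSubnormal inferInstance) subset_normalClosure

/-- `N(A) ≤ N(K)`. -/
theorem normalizer_le (A : Subgroup G) :
    normalizer (A : Set G) ≤ normalizer (subnormalClosure A : Set G) := by
  have key : ∀ g ∈ normalizer (A : Set G), ∀ x ∈ subnormalClosure A,
      g * x * g⁻¹ ∈ subnormalClosure A := by
    intro g hg x hx
    rw [subnormalClosure, mem_sInf]
    rintro K ⟨hAK, hK⟩
    have h1 : (K.comap (MulAut.conj g).toMonoidHom).IsSubnormal := hK.comap _
    have h2 : A ≤ K.comap (MulAut.conj g).toMonoidHom := by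
      intro a ha
      exact hAK ((mem_normalizer_iff.mp hg a).mp ha)
    exact subnormalClosure_le h2 h1 hx
  intro g hg
  rw [mem_normalizer_iff]
  intro x
  refine ⟨key g hg x, fun h => ?_⟩
  have h1 := key g⁻¹ (inv_mem hg) _ h
  have h2 : g⁻¹ * (g * x * g⁻¹) * g⁻¹⁻¹ = x := by group
  rwa [h2] at h1

/-- A subgroup of a finite group that contains `O^p` is subnormal. -/
theorem isSubnormal_of_pResidual_le [Finite G] {p : ℕ} [Fact p.Prime] {B : Subgroup G}
    (h : pResidual p G ≤ B) : B.IsSubnormal := by
  haveI := pResidual_normal (G := G) p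
  have h1 : IsPGroup p (G ⧸ pResidual p G) := isPGroup_quotient_pResidual
  have h2 : Group.IsNilpotent (G ⧸ pResidual p G) := h1.isNilpotent
  have h3 := (Cfsg.Agent.S0064.result.mp h2) (B.map (QuotientGroup.mk' (pResidual p G)))
  have h4 := h3.comap (QuotientGroup.mk' (pResidual p G))
  rwa [comap_map_eq, QuotientGroup.ker_mk', sup_eq_left.mpr h] at h4

/-- `K = A O^p(K)` inside `K`. -/
theorem sup_pResidual_top [Finite G] (p : ℕ) [Fact p.Prime] (A : Subgroup G) :
    A.subgroupOf (subnormalClosure A) ⊔ pResidual p ↥(subnormalClosure A) = ⊤ :=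
  eq_top_of_isSubnormal (isSubnormal_of_pResidual_le (p := p) le_sup_right) le_sup_left

/-- `K = A O^p(K)`. -/
theorem sup_pResidual [Finite G] (p : ℕ) [Fact p.Prime] (A : Subgroup G) :
    A ⊔ (pResidual p ↥(subnormalClosure A)).map (subnormalClosure A).subtype =
      subnormalClosure A := by
  have h := congrArg (Subgroup.map (subnormalClosure A).subtype) (sup_pResidual_top p A)
  rwa [Subgroup.map_sup, map_subgroupOf_eq_of_le (le_subnormalClosure A),
    ← MonoidHom.range_eq_map, range_subtype] at h

/-- In a finite group `K` in which the `p`-subgroup `A` lies in no proper normal subgroup and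
`K = A O^p(K)`: `O^p(K) = [O^p(K), A]`. -/
theorem commutator_pResidual_of_top {K : Type*} [Group K] [Finite K] {p : ℕ} [Fact p.Prime]
    {A : Subgroup K} (hA : IsPGroup p A) (h1 : A ⊔ pResidual p K = ⊤)
    (h2 : ∀ N : Subgroup K, N.Normal → A ≤ N → N = ⊤) :
    ⁅pResidual p K, A⁆ = pResidual p K := by
  have hRn : (pResidual p K).Normal := pResidual_normal p
  apply le_antisymm
  · refine commutator_le_left ?_
    rw [normalizer_eq_top]; exact le_top
  set D : Subgroup K := ⁅pResidual p K, A⁆ with hD
  have hDn : D.Normal := by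
    rw [← normalizer_eq_top_iff, eq_top_iff, ← h1]
    exact sup_le (right_le_normalizer_commutator _ _) (left_le_normalizer_commutator _ _)
  -- `A ⊔ D` is normal
  have hADn : (A ⊔ D).Normal := by
    rw [← normalizer_eq_top_iff, eq_top_iff, ← h1]
    refine sup_le (le_sup_left.trans le_normalizer) ?_
    have key : ∀ r ∈ pResidual p K, ∀ x ∈ A ⊔ D, r * x * r⁻¹ ∈ A ⊔ D := by
      intro r hr x hx
      have hle : A ⊔ D ≤ (A ⊔ D).comap (MulAut.conj r).toMonoidHom := by
        refine sup_le ?_ ?_
        · intro a ha
          have h3 : (MulAut.conj r).toMonoidHom a = ⁅r, a⁆ * a := by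
            change r * a * r⁻¹ = _
            simp only [commutatorElement_def]; group
          rw [mem_comap, h3]
          exact mul_mem (le_sup_right (a := A) (commutator_mem_commutator hr ha))
            (le_sup_left (b := D) ha)
        · intro d hd
          exact le_sup_right (a := A) (hDn.conj_mem d hd r)
      exact hle hx
    intro r hr
    rw [mem_normalizer_iff]
    intro x
    refine ⟨key r hr x, fun h => ?_⟩
    have h3 := key r⁻¹ (inv_mem hr) _ h
    have h4 : r⁻¹ * (r * x * r⁻¹) * r⁻¹⁻¹ = x := by group
    rwa [h4] at h3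
  have hAD : A ⊔ D = ⊤ := h2 _ hADn le_sup_left
  -- so `K / D` is a `p`-group
  refine pResidual_le_of_isPGroup_quotient ?_
  have h5 : (A.map (QuotientGroup.mk' D)) = ⊤ := by
    have := congrArg (Subgroup.map (QuotientGroup.mk' D)) hAD
    rwa [Subgroup.map_sup, (Subgroup.map_eq_bot_iff D).mpr (by rw [QuotientGroup.ker_mk']),
      sup_bot_eq, Subgroup.map_top_of_surjective _ (QuotientGroup.mk'_surjective D)] at this
  have h6 : IsPGroup p (A.map (QuotientGroup.mk' D)) := hA.map _
  rw [h5] at h6
  exact h6.of_equiv Subgroup.topEquiv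

/-- `O^p(K) = [O^p(K), A]` if `A` is a `p`-group. -/
theorem commutator_pResidual [Finite G] {p : ℕ} [Fact p.Prime] {A : Subgroup G}
    (hA : IsPGroup p A) :
    ⁅(pResidual p ↥(subnormalClosure A)).map (subnormalClosure A).subtype, A⁆ =
      (pResidual p ↥(subnormalClosure A)).map (subnormalClosure A).subtype := by
  have hA' : IsPGroup p (A.subgroupOf (subnormalClosure A)) :=
    hA.comap_of_injective _ (subtype_injective _)
  have h1 := commutator_pResidual_of_top hA' (sup_pResidual_top p A)
    (fun N hN hAN => eq_top_of_isSubnormal hN.isSubnormal hAN)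
  have h2 := congrArg (Subgroup.map (subnormalClosure A).subtype) h1
  rwa [Subgroup.map_commutator, map_subgroupOf_eq_of_le (le_subnormalClosure A)] at h2

end Cfsg.Agent.H223.SubClosure
end

-- part: S2814
section
set_option autoImplicit false
open Cfsg

namespace Cfsg.Agent.S2814

/-- Let A be a subgroup of the finite group H and K the subnormal closure of A (intersection of the subnormal subgroups containing A). Then K is the normal closure of A inside K and N_H(A) ≤ N_H(K); K = A·O^p(K), O^p(K) being generated by the elements of K of order prime to p; and if A is a p-group, O^p(K) = [O^p(K), A]. -/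
theorem result {H : Type*} [Group H] [Finite H] {p : ℕ} [Fact p.Prime] (A : Subgroup H) (K : Subgroup H) (hK : K = Cfsg.subnormalClosure A) : (Subgroup.normalClosure ((A.subgroupOf K : Subgroup ↥K) : Set ↥K)).map K.subtype = K ∧ Subgroup.normalizer (A : Set H) ≤ Subgroup.normalizer (K : Set H) ∧ A ⊔ (Cfsg.pResidual p ↥K).map K.subtype = K ∧ (IsPGroup p ↥A → ⁅(Cfsg.pResidual p ↥K).map K.subtype, A⁆ = (Cfsg.pResidual p ↥K).map K.subtype) := by
  subst hK
  refine ⟨?_, Cfsg.Agent.H223.SubClosure.normalizer_le A,
    Cfsg.Agent.H223.SubClosure.sup_pResidual p A,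
    fun hA => Cfsg.Agent.H223.SubClosure.commutator_pResidual hA⟩
  rw [Cfsg.Agent.H223.SubClosure.normalClosure_eq, ← MonoidHom.range_eq_map,
    Subgroup.range_subtype]

end Cfsg.Agent.S2814
end
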