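import Cfsg.Statements.S2817
import Cfsg.Agent.H223.FStarSub
set_option linter.all false

set_option autoImplicit false
set_option linter.style.haveILetI false
open Cfsg
open scoped commutatorElement

namespace Cfsg.Agent.S2817

open Subgroup
open Cfsg.Agent.H223.OpTrivial Cfsg.Agent.H223.FStarSub
open Cfsg.Agent.Lib.CoprimeCommutator (left_le_normalizer_commutator right_le_normalizer_commutator)

variable {G : Type*} [Group G]

/-- The norm map: if `L = [L,Q]` then a `Q`-fixed element `z` of `L` satisfies `z ^ |Q| ∈ L'`. -/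
theorem pow_card_mem_commutator {L Q : Subgroup G} (hQL : Q ≤ normalizer (L : Set G)) [Finite Q]
    (hLQ : ⁅L, Q⁆ = L) {z : G} (hzL : z ∈ L) (hzQ : ∀ q ∈ Q, q * z * q⁻¹ = z) :
    z ^ Nat.card Q ∈ ⁅L, L⁆ := by
  classical
  haveI : Fintype Q := Fintype.ofFinite Q
  let φ : Q → MulAut L := fun q => L.normalizerMonoidHom ⟨q, hQL q.2⟩
  have hφ : ∀ (q : Q) (x : L), ((φ q x : L) : G) = q * x * (q : G)⁻¹ := fun q x => rfl
  let N : L →* Abelianization L := ∏ q : Q, (Abelianization.of.comp (φ q).toMonoidHom)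
  have hN : ∀ x : L, N x = ∏ q : Q, Abelianization.of (φ q x) := by
    intro x
    show (∏ q : Q, (Abelianization.of.comp (φ q).toMonoidHom)) x = _
    rw [MonoidHom.finsetProd_apply]
    rfl
  have hinv : ∀ (q₀ : Q) (x : L), N (φ q₀ x) = N x := by
    intro q₀ x
    rw [hN, hN]
    refine Fintype.prod_equiv (Equiv.mulRight q₀) _ _ fun q => ?_
    congr 1
    apply Subtype.ext
    rw [hφ, hφ, hφ]
    show (q : G) * (q₀ * x * (q₀ : G)⁻¹) * (q : G)⁻¹ = ((q * q₀ : Q) : G) * x * ((q * q₀ : Q) : G)⁻¹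
    rw [Subgroup.coe_mul]; group
  have hker : L ≤ N.ker.map L.subtype := by
    conv_lhs => rw [← hLQ]
    rw [Subgroup.commutator_le]
    intro x hx q hq
    refine ⟨⟨x, hx⟩ * (φ ⟨q, hq⟩ ⟨x, hx⟩)⁻¹, ?_, ?_⟩
    · show (⟨x, hx⟩ * (φ ⟨q, hq⟩ ⟨x, hx⟩)⁻¹ : L) ∈ N.ker
      rw [MonoidHom.mem_ker, map_mul, map_inv, hinv, mul_inv_cancel]
    · show x * (q * x * q⁻¹)⁻¹ = ⁅x, q⁆
      rw [commutatorElement_def]; group
  obtain ⟨z', hz', hzz⟩ := hker hzL
  have hz1 : z' = ⟨z, hzL⟩ := Subtype.ext hzz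
  subst hz1
  have hz2 : N ⟨z, hzL⟩ = 1 := hz'
  have hz3 : N ⟨z, hzL⟩ = Abelianization.of ((⟨z, hzL⟩ : L) ^ Nat.card Q) := by
    rw [hN, map_pow]
    have : ∀ q : Q, Abelianization.of (φ q ⟨z, hzL⟩) = Abelianization.of (⟨z, hzL⟩ : L) := by
      intro q
      congr 1
      apply Subtype.ext
      rw [hφ]
      exact hzQ q q.2
    rw [Finset.prod_congr rfl fun q _ => this q, Finset.prod_const, Finset.card_univ,
      Nat.card_eq_fintype_card]
  rw [hz3] at hz2
  have hz4 : (⟨z, hzL⟩ : L) ^ Nat.card Q ∈ commutator L := by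
    rw [← Abelianization.ker_of]
    exact hz2
  rw [← Subgroup.map_subtype_commutator]
  exact ⟨_, hz4, rfl⟩

/-- `Z(L) ∩ L' ≤ Φ(L)`, in the ambient group. -/
theorem mem_frattini_of_mem_center {K : Type*} [Group K] {z : K} (hz : z ∈ Subgroup.center K)
    (hz' : z ∈ commutator K) : z ∈ frattini K := by
  refine (Subgroup.mem_iInf.2 fun M => Subgroup.mem_iInf.2 fun hM => ?_ :
    z ∈ ⨅ M : Subgroup K, ⨅ _ : M ∈ {H : Subgroup K | IsCoatom H}, M)
  by_contra hzM
  have hM' : IsCoatom M := hM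
  have hsup : M ⊔ Subgroup.zpowers z = ⊤ := by
    apply hM'.2
    refine lt_of_le_of_ne le_sup_left fun h => hzM ?_
    rw [h]
    exact (le_sup_right : Subgroup.zpowers z ≤ _) (Subgroup.mem_zpowers z)
  have hZ : Subgroup.zpowers z ≤ normalizer (M : Set K) := by
    rw [Subgroup.zpowers_le]
    rw [mem_normalizer_iff]
    intro m
    have : z * m * z⁻¹ = m := by
      rw [← (Subgroup.mem_center_iff.1 hz) m]; group
    rw [this]
  have hMn : M.Normal := by
    rw [← Subgroup.normalizer_eq_top_iff, eq_top_iff, ← hsup]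
    exact sup_le Subgroup.le_normalizer hZ
  exact hzM ((hMn.commutator_le_of_self_sup_commutative_eq_top hsup inferInstance) hz')

/-- Let H be a finite group and p a prime with O_p(H) = 1, Q a p-subgroup of H, L = [F*(H), Q], and F the largest normal subgroup of F*(H) centralized by Q (a normal subgroup of F*(H) centralized by Q and containing every such). Then F = C_{F*(H)}(LQ); L = [L, Q]; L ∩ F ≤ Φ(L); every p-subgroup B of N_H(Q) with [L, B] ≤ F satisfies [L, B] = 1; and C_H(FL) has order prime to p. -/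
theorem result {H : Type*} [Group H] [Finite H] {p : ℕ} [Fact p.Prime] (hO : Cfsg.pCore p H = ⊥) (Q : Subgroup H) (hQ : IsPGroup p ↥Q) (L : Subgroup H) (hL : L = ⁅Cfsg.generalizedFittingSubgroup H, Q⁆) (F : Subgroup H) (hF : F ≤ Cfsg.generalizedFittingSubgroup H ∧ Cfsg.generalizedFittingSubgroup H ≤ Subgroup.normalizer (F : Set H) ∧ Q ≤ Subgroup.centralizer (F : Set H) ∧ ∀ N : Subgroup H, N ≤ Cfsg.generalizedFittingSubgroup H → Cfsg.generalizedFittingSubgroup H ≤ Subgroup.normalizer (N : Set H) → Q ≤ Subgroup.centralizer (N : Set H) → N ≤ F) : F = Cfsg.generalizedFittingSubgroup H ⊓ Subgroup.centralizer ((L ⊔ Q : Subgroup H) : Set H) ∧ ⁅L, Q⁆ = L ∧ L ⊓ F ≤ (frattini ↥L).map L.subtype ∧ (∀ B : Subgroup H, IsPGroup p ↥B → B ≤ Subgroup.normalizer (Q : Set H) → ⁅L, B⁆ ≤ F → ⁅L, B⁆ = ⊥) ∧ (Nat.card ↥(Subgroup.centralizer ((F ⊔ L : Subgroup H) : Set H))).Coprime p := by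
  obtain ⟨hFX, hXF, hQF, hFmax⟩ := hF
  set X := Cfsg.generalizedFittingSubgroup H with hX
  haveI hXn : X.Normal := Cfsg.Agent.Lib.GenFitting.genFitting_normal
  have hNX : ∀ A : Subgroup H, A ≤ normalizer (X : Set H) := fun A => by
    rw [normalizer_eq_top]; exact le_top
  have hLQ : ⁅L, Q⁆ = L := by
    rw [hL]; exact (commutator_genFitting_stable hO hQ).symm
  have hLX : L ≤ X := by rw [hL]; exact commutator_le_of_norm (hNX Q)
  have hXL : X ≤ normalizer (L : Set H) := by
    rw [hL]; exact left_le_normalizer_commutator X Q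
  have hQL : Q ≤ normalizer (L : Set H) := by
    rw [hL]; exact right_le_normalizer_commutator X Q
  -- (1)
  have hXQ : ∀ x ∈ X, ∀ q ∈ Q, x * q * x⁻¹ ∈ L ⊔ Q := by
    intro x hx q hq
    have h1 : x * q * x⁻¹ = ⁅x, q⁆ * q := by simp only [commutatorElement_def]; group
    rw [h1]
    exact mul_mem (mem_sup_left (by rw [hL]; exact commutator_mem_commutator hx hq))
      (mem_sup_right hq)
  have hXLQ : ∀ x ∈ X, ∀ g ∈ L ⊔ Q, x * g * x⁻¹ ∈ L ⊔ Q := by
    intro x hx g hg
    have hle : L ⊔ Q ≤ (L ⊔ Q).comap (MulAut.conj x).toMonoidHom := by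
      refine sup_le ?_ ?_
      · intro y hy
        exact mem_sup_left ((mem_normalizer_iff.1 (hXL hx) y).1 hy)
      · intro y hy
        exact hXQ x hx y hy
    exact hle hg
  have h1a : F ≤ X ⊓ centralizer ((L ⊔ Q : Subgroup H) : Set H) := by
    refine le_inf hFX ?_
    have hFQ : ⁅F, Q⁆ = ⊥ := by
      rw [Subgroup.commutator_comm, commutator_eq_bot_iff_le_centralizer]
      exact hQF
    have h2 : ⁅⁅X, Q⁆, F⁆ = ⊥ := by
      apply Subgroup.commutator_commutator_eq_bot_of_rotate
      · rw [Subgroup.commutator_comm Q F, hFQ, commutator_bot_left]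
      · have : ⁅F, X⁆ ≤ F := commutator_le_of_norm hXF
        rw [eq_bot_iff, ← hFQ]
        exact commutator_mono this le_rfl
    rw [← Subgroup.le_centralizer_iff]
    refine sup_le ?_ hQF
    rw [← commutator_eq_bot_iff_le_centralizer, hL]
    exact h2
  have h1b : X ⊓ centralizer ((L ⊔ Q : Subgroup H) : Set H) ≤ F := by
    refine hFmax _ inf_le_left ?_ ?_
    · have key : ∀ x ∈ X, ∀ g ∈ X ⊓ centralizer ((L ⊔ Q : Subgroup H) : Set H),
          x * g * x⁻¹ ∈ X ⊓ centralizer ((L ⊔ Q : Subgroup H) : Set H) := by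
        rintro x hx g ⟨hg1, hg2⟩
        refine ⟨hXn.conj_mem g hg1 x, ?_⟩
        show x * g * x⁻¹ ∈ centralizer ((L ⊔ Q : Subgroup H) : Set H)
        rw [mem_centralizer_iff]
        intro y hy
        have hy' : x⁻¹ * y * x ∈ L ⊔ Q := by
          have := hXLQ x⁻¹ (inv_mem hx) y hy
          simpa using this
        have h2 := (mem_centralizer_iff.1 hg2) _ hy'
        calc y * (x * g * x⁻¹) = x * ((x⁻¹ * y * x) * g) * x⁻¹ := by group
          _ = x * (g * (x⁻¹ * y * x)) * x⁻¹ := by rw [h2]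
          _ = x * g * x⁻¹ * y := by group
      intro x hx
      rw [mem_normalizer_iff]
      intro g
      refine ⟨key x hx g, fun hg => ?_⟩
      have := key x⁻¹ (inv_mem hx) _ hg
      have e : x⁻¹ * (x * g * x⁻¹) * x⁻¹⁻¹ = g := by group
      rwa [e] at this
    · rw [Subgroup.le_centralizer_iff]
      refine inf_le_right.trans ?_
      exact centralizer_le (fun y hy => (le_sup_right : Q ≤ L ⊔ Q) hy)
  have h1 : F = X ⊓ centralizer ((L ⊔ Q : Subgroup H) : Set H) := le_antisymm h1a h1b
  have hFL : F ≤ centralizer (L : Set H) := by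
    refine h1a.trans (inf_le_right.trans ?_)
    exact centralizer_le (fun y hy => (le_sup_left : L ≤ L ⊔ Q) hy)
  have hFQ : F ≤ centralizer (Q : Set H) := by
    refine h1a.trans (inf_le_right.trans ?_)
    exact centralizer_le (fun y hy => (le_sup_right : Q ≤ L ⊔ Q) hy)
  -- subnormal subgroups of `F*`
  have hsub : ∀ A : Subgroup H, A ≤ X → X ≤ normalizer (A : Set H) → A.IsSubnormal :=
    fun A h2 h3 => IsSubnormal.step A X h2 hXn.isSubnormal
      ((Subgroup.normal_subgroupOf_iff_le_normalizer h2).2 h3)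
  have hpc : ∀ A : Subgroup H, A.IsSubnormal → Cfsg.pCore p ↥A = ⊥ := by
    intro A hA
    have h2 := Cfsg.Agent.SignalizersComponents.CompBasic.map_subtype_pCore_of_subnormal p hA
    rwa [hO, inf_bot_eq, Subgroup.map_eq_bot_iff_of_injective _ (subtype_injective _)] at h2
  have hLsn : L.IsSubnormal := hsub L hLX hXL
  have hLp : Cfsg.pCore p ↥L = ⊥ := hpc L hLsn
  -- `L ∩ F ≤ Z(L) ∩ L'`
  have hLF : ∀ z ∈ L ⊓ F, z ∈ ⁅L, L⁆ := by
    rintro z ⟨hzL, hzF⟩
    have h2 : z ^ Nat.card Q ∈ ⁅L, L⁆ := by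
      refine pow_card_mem_commutator hQL hLQ hzL ?_
      intro q hq
      have := (mem_centralizer_iff.1 (hFQ hzF)) q hq
      rw [this]; group
    obtain ⟨k, hk⟩ := IsPGroup.iff_card.1 hQ
    rw [hk] at h2
    -- `z` has order prime to `p`
    have h3 : (orderOf z).Coprime p := by
      rw [Nat.coprime_comm, (Fact.out : p.Prime).coprime_iff_not_dvd]
      rintro ⟨m, hm⟩
      have hzc : (⟨z, hzL⟩ : L) ∈ Subgroup.center L := by
        rw [Subgroup.mem_center_iff]
        intro y
        exact Subtype.ext ((mem_centralizer_iff.1 (hFL hzF)) y y.2)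
      have hcn : Group.IsNilpotent (Subgroup.center L) := by
        letI : CommGroup (Subgroup.center L) :=
          { (inferInstance : Group (Subgroup.center L)) with
            mul_comm := fun a b => Subtype.ext ((Subgroup.mem_center_iff.1 b.2) a) }
        infer_instance
      have h4 := Cfsg.Agent.Lib.GenFitting.mem_pCore_of_mem_nilpotent_normal (p := p) (k := 1)
        (inferInstance : (Subgroup.center L).Normal) hcn (pow_mem hzc m) (by
          apply Subtype.ext
          show (z ^ m) ^ p ^ 1 = 1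
          rw [pow_one, ← pow_mul, mul_comm, ← hm, pow_orderOf_eq_one])
      rw [hLp, mem_bot] at h4
      have h5 : z ^ m = 1 := congrArg Subtype.val h4
      have h6 := orderOf_dvd_of_pow_eq_one h5
      have hpos : 0 < orderOf z := orderOf_pos z
      have hmpos : 0 < m := by
        rcases Nat.eq_zero_or_pos m with h | h
        · rw [h, mul_zero] at hm; omega
        · exact h
      have h7 := Nat.le_of_dvd hmpos h6
      rw [hm] at h7
      have h8 := (Fact.out : p.Prime).one_lt
      nlinarith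
    have h4 : (orderOf z).Coprime (p ^ k) := h3.pow_right k
    obtain ⟨n, hn⟩ := (exists_pow_eq_self_of_coprime h4.symm : ∃ n : ℕ, (z ^ (p ^ k)) ^ n = z)
    rw [← hn]
    exact pow_mem h2 n
  refine ⟨h1, hLQ, ?_, ?_, ?_⟩
  · intro z hz
    have h2 := hLF z hz
    obtain ⟨hzL, hzF⟩ := hz
    refine ⟨⟨z, hzL⟩, ?_, rfl⟩
    refine mem_frattini_of_mem_center ?_ ?_
    · rw [Subgroup.mem_center_iff]
      intro y
      exact Subtype.ext ((mem_centralizer_iff.1 (hFL hzF)) y y.2)
    · rw [← Subgroup.map_subtype_commutator] at h2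
      obtain ⟨y, hy, hyz⟩ := h2
      have : y = ⟨z, hzL⟩ := Subtype.ext hyz
      rwa [← this]
  · intro B hB hBQ hBF
    have hBL : B ≤ normalizer (L : Set H) := by
      intro b hb
      have key : ∀ b ∈ B, ∀ x ∈ L, b * x * b⁻¹ ∈ L := by
        intro b hb x hx
        have hle : L ≤ L.comap (MulAut.conj b).toMonoidHom := by
          rw [← Subgroup.map_le_iff_le_comap]
          conv_lhs => rw [hL]
          rw [Subgroup.map_commutator, hL]
          apply commutator_mono
          · rintro _ ⟨y, hy, rfl⟩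
            exact hXn.conj_mem y hy b
          · rintro _ ⟨y, hy, rfl⟩
            exact (mem_normalizer_iff.1 (hBQ hb) y).1 hy
        exact hle hx
      rw [mem_normalizer_iff]
      intro x
      refine ⟨key b hb x, fun h => ?_⟩
      have := key b⁻¹ (inv_mem hb) _ h
      have e : b⁻¹ * (b * x * b⁻¹) * b⁻¹⁻¹ = x := by group
      rwa [e] at this
    have h2 : ⁅L, B⁆ ≤ L ⊓ F := le_inf (commutator_le_of_norm hBL) hBF
    have h3 : ⁅⁅L, L⁆, B⁆ = ⊥ := by
      have h4 : ⁅⁅L, B⁆, L⁆ = ⊥ := by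
        rw [commutator_eq_bot_iff_le_centralizer]
        exact (h2.trans inf_le_right).trans hFL
      apply Subgroup.commutator_commutator_eq_bot_of_rotate
      · exact h4
      · rw [Subgroup.commutator_comm B L]; exact h4
    refine quadratic_trivial L hLp B hB hBL ?_
    rw [eq_bot_iff, ← h3]
    exact commutator_mono (fun z hz => hLF z (h2 hz)) le_rfl
  · set C := centralizer ((F ⊔ L : Subgroup H) : Set H) with hC
    rw [Nat.coprime_comm, (Fact.out : p.Prime).coprime_iff_not_dvd]
    intro hdvd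
    obtain ⟨⟨x, hxC⟩, hx⟩ := exists_prime_orderOf_dvd_card' p hdvd
    have hxo : orderOf x = p := by rw [← hx]; exact (Subgroup.orderOf_mk x hxC).symm
    set Z := Subgroup.zpowers x with hZ
    have hZp : IsPGroup p Z := by
      apply IsPGroup.of_card (n := 1)
      rw [Nat.card_zpowers, hxo, pow_one]
    have hZC : Z ≤ C := by rw [hZ, Subgroup.zpowers_le]; exact hxC
    -- `D = C ∩ F*`
    set D := X ⊓ C with hD
    have hnormFL : ∀ A : Subgroup H, A ≤ normalizer (F : Set H) → A ≤ normalizer (L : Set H) →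
        ∀ a ∈ A, ∀ c ∈ C, a * c * a⁻¹ ∈ C := by
      intro A hAF hAL a ha c hc
      rw [hC, mem_centralizer_iff]
      intro y hy
      have hle : F ⊔ L ≤ (F ⊔ L).comap (MulAut.conj a⁻¹).toMonoidHom := by
        refine sup_le ?_ ?_
        · intro y hy
          exact mem_sup_left ((mem_normalizer_iff.1 (hAF (inv_mem ha)) y).1 hy)
        · intro y hy
          exact mem_sup_right ((mem_normalizer_iff.1 (hAL (inv_mem ha)) y).1 hy)
      have hy' : a⁻¹ * y * a ∈ F ⊔ L := by
        have := hle hy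
        simpa using this
      have h2 := (mem_centralizer_iff.1 hc) _ hy'
      calc y * (a * c * a⁻¹) = a * ((a⁻¹ * y * a) * c) * a⁻¹ := by group
        _ = a * (c * (a⁻¹ * y * a)) * a⁻¹ := by rw [h2]
        _ = a * c * a⁻¹ * y := by group
    have hmk : ∀ A : Subgroup H, (∀ a ∈ A, ∀ c ∈ D, a * c * a⁻¹ ∈ D) →
        A ≤ normalizer (D : Set H) := by
      intro A hA a ha
      rw [mem_normalizer_iff]
      intro g
      refine ⟨hA a ha g, fun hg => ?_⟩
      have := hA a⁻¹ (inv_mem ha) _ hg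
      have e : a⁻¹ * (a * g * a⁻¹) * a⁻¹⁻¹ = g := by group
      rwa [e] at this
    have hXD : X ≤ normalizer (D : Set H) := hmk X fun a ha c hc =>
      ⟨hXn.conj_mem c hc.1 a, hnormFL X hXF hXL a ha c hc.2⟩
    have hQF' : Q ≤ normalizer (F : Set H) := hQF.trans (centralizer_le_normalizer _)
    have hQD : Q ≤ normalizer (D : Set H) := hmk Q fun a ha c hc =>
      ⟨hXn.conj_mem c hc.1 a, hnormFL Q hQF' hQL a ha c hc.2⟩
    have hDsn : D.IsSubnormal := hsub D inf_le_left hXD
    have hsplit := split_of_fitting_sup_layer (p := p) hQ hQD (hpc D hDsn)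
      (Cfsg.Agent.SignalizersComponents.FStarNormal.fitting_sup_layer_eq_top hDsn inf_le_left)
    have hLC : C ≤ centralizer (L : Set H) :=
      centralizer_le (fun y hy => (le_sup_right : L ≤ F ⊔ L) hy)
    have hFC : C ≤ centralizer (F : Set H) :=
      centralizer_le (fun y hy => (le_sup_left : F ≤ F ⊔ L) hy)
    -- `Z` centralizes `D`
    have hZD : D ≤ centralizer (Z : Set H) := by
      rw [← hsplit]
      refine sup_le ?_ ?_
      · have h2 : ⁅D, Q⁆ ≤ L := by rw [hL]; exact commutator_mono inf_le_left le_rfl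
        exact h2.trans (Subgroup.le_centralizer_iff.1 (hZC.trans hLC))
      · have h2 : D ⊓ centralizer (Q : Set H) ≤ F := by
          refine le_trans ?_ h1b
          rintro y ⟨⟨hy1, hy2⟩, hy3⟩
          refine ⟨hy1, ?_⟩
          show y ∈ centralizer ((L ⊔ Q : Subgroup H) : Set H)
          have h4 : L ⊔ Q ≤ centralizer ({y} : Set H) := by
            refine sup_le ?_ ?_
            · intro l hl
              rw [mem_centralizer_singleton_iff]
              exact (mem_centralizer_iff.1 (hLC hy2)) l hl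
            · intro q hq
              rw [mem_centralizer_singleton_iff]
              exact (mem_centralizer_iff.1 hy3) q hq
          rw [mem_centralizer_iff]
          intro w hw
          exact mem_centralizer_singleton_iff.1 (h4 hw)
        exact h2.trans (Subgroup.le_centralizer_iff.1 (hZC.trans hFC))
    have h2 : ⁅X, Z⁆ ≤ D := by
      rw [Subgroup.commutator_le]
      intro g hg z hz
      refine ⟨?_, ?_⟩
      · have : ⁅g, z⁆ = g * (z * g⁻¹ * z⁻¹) := by rw [commutatorElement_def]; group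
        show ⁅g, z⁆ ∈ X
        rw [this]
        exact mul_mem hg (hXn.conj_mem _ (inv_mem hg) z)
      · show ⁅g, z⁆ ∈ C
        have : ⁅g, z⁆ = (g * z * g⁻¹) * z⁻¹ := by rw [commutatorElement_def]
        rw [this]
        exact mul_mem (hnormFL X hXF hXL g hg z (hZC hz)) (inv_mem (hZC hz))
    have h3 : ⁅⁅X, Z⁆, Z⁆ = ⊥ := by
      rw [commutator_eq_bot_iff_le_centralizer]
      exact h2.trans hZD
    have h4 : ⁅X, Z⁆ = ⊥ :=
      quadratic_trivial X (hpc X hXn.isSubnormal) Z hZp (hNX Z) h3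
    have h5 : Z = ⊥ := eq_bot_of_commutator_genFitting hO hZp h4
    have h6 : x = 1 := by
      have : x ∈ Z := Subgroup.mem_zpowers x
      rw [h5, mem_bot] at this
      exact this
    rw [h6, orderOf_one] at hxo
    exact (Fact.out : p.Prime).one_lt.ne hxo

end Cfsg.Agent.S2817
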