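import Cfsg.Statements.S2820
import Cfsg.Agent.PLocal.SubnormalCore
set_option linter.all false

set_option autoImplicit false
open Cfsg
open scoped commutatorElement

namespace Cfsg.Agent.S2820

/-- Elements of order prime to `p` of `Q B`, `Q = O_p(H)` and `B` subnormal, lie in `B`. -/
theorem mem_of_coprime {H : Type*} [Group H] [Finite H] {p : ℕ} [Fact p.Prime] {B : Subgroup H}
    (hB : B.IsSubnormal) : ∀ x : H, (orderOf x).Coprime p → x ∈ B ⊔ pCore p H → x ∈ B := by
  haveI hQn : (pCore p H).Normal := Lib.Cores.pCore_normal p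
  induction hB with
  | top => intro x _ _; trivial
  | step B B₁ hle _ hN ih =>
    intro x hx hxB
    have hx1 : x ∈ B₁ := ih x hx ((sup_le_sup_right hle _) hxB)
    rw [Subgroup.mem_sup_of_normal_right] at hxB
    obtain ⟨b, hb, q, hq, rfl⟩ := hxB
    have hq1 : q ∈ B₁ := by
      have := mul_mem (inv_mem (hle hb)) hx1
      simpa using this
    -- pass to the quotient `B₁ / B`
    let π : ↥B₁ →* ↥B₁ ⧸ B.subgroupOf B₁ := QuotientGroup.mk' _
    obtain ⟨n, hn⟩ := (Lib.Cores.pCore_isPGroup (G := H) p) ⟨q, hq⟩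
    have hn' : q ^ p ^ n = 1 := by
      have := congrArg Subtype.val hn
      simpa using this
    have h1 : π ⟨b * q, hx1⟩ = π ⟨q, hq1⟩ := by
      have h2 : (⟨b * q, hx1⟩ : B₁) = ⟨b, hle hb⟩ * ⟨q, hq1⟩ := rfl
      rw [h2, map_mul]
      have h3 : π ⟨b, hle hb⟩ = 1 := by
        rw [QuotientGroup.mk'_apply, QuotientGroup.eq_one_iff]
        exact hb
      rw [h3, one_mul]
    have h2 : (π ⟨b * q, hx1⟩) ^ p ^ n = 1 := by
      rw [h1, ← map_pow]
      have : (⟨q, hq1⟩ : B₁) ^ p ^ n = 1 := Subtype.ext hn'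
      rw [this, map_one]
    have h3 : (π ⟨b * q, hx1⟩) ^ (orderOf (b * q)) = 1 := by
      rw [← map_pow]
      have : (⟨b * q, hx1⟩ : B₁) ^ (orderOf (b * q)) = 1 :=
        Subtype.ext (pow_orderOf_eq_one (b * q))
      rw [this, map_one]
    have h4 : orderOf (π ⟨b * q, hx1⟩) ∣ 1 := by
      have hc : (orderOf (b * q)).Coprime (p ^ n) := hx.pow_right n
      rw [← hc]
      exact Nat.dvd_gcd (orderOf_dvd_of_pow_eq_one h3) (orderOf_dvd_of_pow_eq_one h2)
    have h5 : π ⟨b * q, hx1⟩ = 1 := orderOf_eq_one_iff.1 (Nat.dvd_one.1 h4)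
    rw [QuotientGroup.mk'_apply, QuotientGroup.eq_one_iff] at h5
    exact h5

/-- Let A and B be subnormal subgroups of the finite group H with A a p-group and B = O^p(B) (B generated by its elements of order prime to p). Then A normalizes B and B = O^p(AB), the subgroup of ⟨A, B⟩ generated by its elements of order prime to p. -/
theorem result {H : Type*} [Group H] [Finite H] {p : ℕ} [Fact p.Prime] (A B : Subgroup H) (hA : A.IsSubnormal) (hB : B.IsSubnormal) (hAp : IsPGroup p ↥A) (hBres : (Cfsg.pResidual p ↥B).map B.subtype = B) : A ≤ Subgroup.normalizer (B : Set H) ∧ (Cfsg.pResidual p ↥(A ⊔ B)).map (A ⊔ B).subtype = B := by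
  have hAQ : A ≤ pCore p H := PLocal.SubnormalCore.le_pCore_of_isSubnormal hA hAp
  haveI hQn : (pCore p H).Normal := Lib.Cores.pCore_normal p
  have hgen : ∀ K : Subgroup H, (Cfsg.pResidual p ↥K).map K.subtype =
      Subgroup.closure {x : H | x ∈ K ∧ (orderOf x).Coprime p} := by
    intro K
    unfold Cfsg.pResidual
    rw [MonoidHom.map_closure]
    congr 1
    ext x
    constructor
    · rintro ⟨⟨y, hy⟩, hyc, rfl⟩
      refine ⟨hy, ?_⟩
      have : orderOf (⟨y, hy⟩ : K) = orderOf y := Subgroup.orderOf_mk y hy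
      show (orderOf y).Coprime p
      rw [← this]
      exact hyc
    · rintro ⟨hx, hxc⟩
      refine ⟨⟨x, hx⟩, ?_, rfl⟩
      show (orderOf (⟨x, hx⟩ : K)).Coprime p
      rw [Subgroup.orderOf_mk]
      exact hxc
  have hconj : ∀ a ∈ A, ∀ x ∈ B, a * x * a⁻¹ ∈ B := by
    intro a ha x hx
    rw [← hBres, hgen] at hx
    induction hx using Subgroup.closure_induction with
    | mem x hx =>
      apply mem_of_coprime (p := p) hB
      · have : orderOf (a * x * a⁻¹) = orderOf x := by
          have := MulEquiv.orderOf_eq (MulAut.conj a) x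
          simpa using this
        rw [this]
        exact hx.2
      · have : a * x * a⁻¹ = x * ((x⁻¹ * a * x) * a⁻¹) := by group
        rw [this]
        refine mul_mem (Subgroup.mem_sup_left hx.1) (Subgroup.mem_sup_right ?_)
        refine mul_mem ?_ (inv_mem (hAQ ha))
        have := hQn.conj_mem a (hAQ ha) x⁻¹
        simpa using this
    | one => simp
    | mul x y _ _ hx hy =>
      have : a * (x * y) * a⁻¹ = (a * x * a⁻¹) * (a * y * a⁻¹) := by group
      rw [this]; exact mul_mem hx hy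
    | inv x _ hx =>
      have : a * x⁻¹ * a⁻¹ = (a * x * a⁻¹)⁻¹ := by group
      rw [this]; exact inv_mem hx
  refine ⟨?_, ?_⟩
  · intro a ha
    rw [Subgroup.mem_normalizer_iff]
    intro x
    refine ⟨hconj a ha x, fun h => ?_⟩
    have := hconj a⁻¹ (inv_mem ha) _ h
    have e : a⁻¹ * (a * x * a⁻¹) * a⁻¹⁻¹ = x := by group
    rwa [e] at this
  · apply le_antisymm
    · rw [hgen, Subgroup.closure_le]
      rintro x ⟨hx, hxc⟩
      apply mem_of_coprime (p := p) hB x hxc
      exact (sup_le ((hAQ).trans le_sup_right) le_sup_left : A ⊔ B ≤ B ⊔ pCore p H) hx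
    · rw [hgen]
      conv_lhs => rw [← hBres, hgen]
      apply Subgroup.closure_mono
      rintro x ⟨hx, hxc⟩
      exact ⟨Subgroup.mem_sup_right hx, hxc⟩

end Cfsg.Agent.S2820
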