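import Cfsg.Statements.S2821
import Cfsg.Agent.H224.YL
import Cfsg.Agent.ClassTwoFusion.Gen
set_option linter.all false

set_option autoImplicit false
open Cfsg

namespace Cfsg.Agent.S2821

/-- Let H be a finite group, p a prime, T a Sylow p-subgroup and L a subgroup of characteristic p containing T; let Y_L be the largest p-reduced normal subgroup of L (the join of the normal elementary abelian p-subgroups V of L with O_p(L/C_L(V)) = 1). Then T₀ := C_T(Y_L) is a Sylow p-subgroup of C_H(Y_L); moreover O_p(L) ≤ T₀ ≤ C_L(Y_L) and Ω₁(Z(T)) ≤ Z_L ≤ Y_L ≤ Ω₁(Z(O_p(L))), where Z_L is generated by the Ω₁(Z(S)) over the Sylow p-subgroups S of L. -/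
theorem result {H : Type*} [Group H] [Finite H] {p : ℕ} [Fact p.Prime] (T : Sylow p H) (L : Subgroup H) (hTL : (T : Subgroup H) ≤ L) (hL : Subgroup.centralizer (Cfsg.pCore p ↥L : Set ↥L) ≤ Cfsg.pCore p ↥L) (T₀ : Subgroup H) (hT₀ : T₀ = (T : Subgroup H) ⊓ Subgroup.centralizer (((Cfsg.largestPReducedOf p L) : Subgroup H) : Set H)) : (∃ P : Sylow p ↥(Subgroup.centralizer (((Cfsg.largestPReducedOf p L) : Subgroup H) : Set H)), (P : Subgroup ↥(Subgroup.centralizer (((Cfsg.largestPReducedOf p L) : Subgroup H) : Set H))) = T₀.subgroupOf (Subgroup.centralizer (((Cfsg.largestPReducedOf p L) : Subgroup H) : Set H))) ∧ (Cfsg.pCoreOf p L) ≤ T₀ ∧ T₀ ≤ L ⊓ Subgroup.centralizer (((Cfsg.largestPReducedOf p L) : Subgroup H) : Set H) ∧ (Cfsg.omegaOne p ((T : Subgroup H) ⊓ Subgroup.centralizer (((T : Subgroup H) : Subgroup H) : Set H))) ≤ Cfsg.sylowCenterClosure p L ∧ Cfsg.sylowCenterClosure p L ≤ (Cfsg.largestPReducedOf p L) ∧ (Cfsg.largestPReducedOf p L) ≤ (Cfsg.omegaOne p ((Cfsg.pCoreOf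 p L) ⊓ Subgroup.centralizer (((Cfsg.pCoreOf p L) : Subgroup H) : Set H))) := by
  have hOT : Cfsg.pCoreOf p L ≤ T := by
    rintro _ ⟨x, hx, rfl⟩
    exact Lib.Cores.pCore_le_sylow (T.subtype hTL) hx
  refine ⟨?_, ?_, ?_, ?_, H224.YL.sylowCenterClosure_le_largestPReducedOf hL,
    H224.YL.largestPReducedOf_le_omegaOne p L⟩
  · set C := Subgroup.centralizer (((Cfsg.largestPReducedOf p L) : Subgroup H) : Set H) with hC
    have hnorm : ∀ y ∈ (T : Subgroup H), ∀ k ∈ C, y * k * y⁻¹ ∈ C := by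
      intro g hg x hx
      have hgn : g ∈ Subgroup.normalizer (Cfsg.largestPReducedOf p L : Set H) :=
        H224.YL.le_normalizer_largestPReducedOf p L (hTL hg)
      rw [hC, Subgroup.mem_centralizer_iff]
      intro y hy
      have h1 : g⁻¹ * y * g ∈ Cfsg.largestPReducedOf p L := by
        have := (Subgroup.mem_normalizer_iff.1 (inv_mem hgn) y).1 hy
        simpa using this
      have h2 := (Subgroup.mem_centralizer_iff.1 hx) _ h1
      calc y * (g * x * g⁻¹) = g * ((g⁻¹ * y * g) * x) * g⁻¹ := by group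
        _ = g * (x * (g⁻¹ * y * g)) * g⁻¹ := by rw [h2]
        _ = g * x * g⁻¹ * y := by group
    have h1 := ClassTwoFusion.Gen.not_dvd_relIndex T hnorm
    have h2 : IsPGroup p (((T : Subgroup H) ⊓ C).subgroupOf C) := by
      have h3 : IsPGroup p (((T : Subgroup H) ⊓ C : Subgroup H)) :=
        T.isPGroup'.to_le inf_le_left
      exact h3.comap_of_injective C.subtype C.subtype_injective
    rw [← hT₀] at h1 h2
    exact ⟨h2.toSylow h1, rfl⟩
  · rw [hT₀]
    exact le_inf hOT (H224.YL.pCoreOf_le_centralizer p L)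
  · rw [hT₀]
    exact inf_le_inf_right _ hTL
  · refine le_trans ?_ (le_iSup _ (T.subtype hTL))
    have : ((T.subtype hTL : Sylow p L) : Subgroup L).map L.subtype = T := by
      rw [Sylow.coe_subtype, Subgroup.subgroupOf_map_subtype]
      exact inf_eq_left.2 hTL
    rw [this]

end Cfsg.Agent.S2821
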