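import Cfsg.Statements.S2824
import Cfsg.Agent.H225.Basic
set_option linter.all false

set_option autoImplicit false
open Cfsg

namespace Cfsg.Agent.S2824

/-- Let H be a finite group, p a prime, T a Sylow p-subgroup, L and M subgroups of characteristic p containing T, Y_L the largest p-reduced normal subgroup of L and T₀ = C_T(Y_L). If M·C_H(Y_L) = L·C_H(Y_L), then L* := N_M(T₀) has Y_{L*} = Y_L and L·C_H(Y_L) = L*·C_H(Y_L). -/
theorem result {H : Type*} [Group H] [Finite H] {p : ℕ} [Fact p.Prime] (T : Sylow p H) (L M : Subgroup H) (hTL : (T : Subgroup H) ≤ L) (hTM : (T : Subgroup H) ≤ M) (hL : Subgroup.centralizer (Cfsg.pCore p ↥L : Set ↥L) ≤ Cfsg.pCore p ↥L) (hM : Subgroup.centralizer (Cfsg.pCore p ↥M : Set ↥M) ≤ Cfsg.pCore p ↥M) (T₀ : Subgroup H) (hT₀ : T₀ = (T : Subgroup H) ⊓ Subgroup.centralizer (((Cfsg.largestPReducedOf p L) : Subgroup H) : Set H)) (hfac : M ⊔ Subgroup.centralizer (((Cfsg.largestPReducedOf p L) : Subgroup H) : Set H) = L ⊔ Subgroup.centralizer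 (((Cfsg.largestPReducedOf p L) : Subgroup H) : Set H)) (Ls : Subgroup H) (hLs : Ls = M ⊓ Subgroup.normalizer ((T₀ : Subgroup H) : Set H)) : (Cfsg.largestPReducedOf p Ls) = (Cfsg.largestPReducedOf p L) ∧ L ⊔ Subgroup.centralizer (((Cfsg.largestPReducedOf p L) : Subgroup H) : Set H) = Ls ⊔ Subgroup.centralizer (((Cfsg.largestPReducedOf p L) : Subgroup H) : Set H) := by
  set Y := Cfsg.largestPReducedOf p L with hY
  set C := Subgroup.centralizer (Y : Set H) with hC
  have hOT : Cfsg.pCoreOf p L ≤ T := by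
    rintro _ ⟨x, hx, rfl⟩
    exact Lib.Cores.pCore_le_sylow (T.subtype hTL) hx
  have hYO : Y ≤ Cfsg.pCoreOf p L := H224.YL.largestPReducedOf_le_pCoreOf p L
  have hYL : Y ≤ L := H224.YL.largestPReducedOf_le p L
  have hLY : L ≤ Subgroup.normalizer (Y : Set H) := H224.YL.le_normalizer_largestPReducedOf p L
  have hCY : C ≤ Subgroup.normalizer (Y : Set H) := Subgroup.centralizer_le_normalizer _
  have hMY : M ≤ Subgroup.normalizer (Y : Set H) :=
    (le_sup_left : M ≤ M ⊔ C).trans (hfac.le.trans (sup_le hLY hCY))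
  have hNC := H225.Basic.normalizer_le_normalizer_centralizer Y
  have hOT0 : Cfsg.pCoreOf p L ≤ T₀ := by
    rw [hT₀]; exact le_inf hOT (H224.YL.pCoreOf_le_centralizer p L)
  have hT0T : T₀ ≤ T := by rw [hT₀]; exact inf_le_left
  have hT0C : T₀ ≤ C := by rw [hT₀]; exact inf_le_right
  have hTT0 : (T : Subgroup H) ≤ Subgroup.normalizer (T₀ : Set H) := by
    refine H225.Basic.mem_normalizer_of_forall fun g hg x hx => ?_
    rw [hT₀, Subgroup.mem_inf] at hx ⊢
    exact ⟨mul_mem (mul_mem hg hx.1) (inv_mem hg),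
      (Subgroup.mem_normalizer_iff.1 (hNC (hLY (hTL hg))) x).1 hx.2⟩
  have hTLs : (T : Subgroup H) ≤ Ls := by rw [hLs]; exact le_inf hTM hTT0
  have hLsM : Ls ≤ M := by rw [hLs]; exact inf_le_left
  have hLsN : Ls ≤ Subgroup.normalizer (T₀ : Set H) := by rw [hLs]; exact inf_le_right
  -- Frattini
  have hMLs : M ≤ Ls ⊔ C := by
    intro m hm
    obtain ⟨k, hk, hkr⟩ := ClassTwoFusion.Gen.exists_mul_conj T (K := M ⊓ C) (R := T₀) (x := m)
      (by
        intro y hy k hk
        rw [Subgroup.mem_inf] at hk ⊢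
        exact ⟨mul_mem (mul_mem (hTM hy) hk.1) (inv_mem (hTM hy)),
          (Subgroup.mem_normalizer_iff.1 (hNC (hLY (hTL hy))) k).1 hk.2⟩)
      (T.isPGroup'.to_le hT0T)
      (by
        intro r hr
        refine Subgroup.mem_sup_left (Subgroup.mem_inf.2
          ⟨mul_mem (mul_mem hm (hTM (hT0T hr))) (inv_mem hm), ?_⟩)
        exact (Subgroup.mem_normalizer_iff.1 (hNC (hMY hm)) r).1 (hT0C hr))
    have h1 : k * m ∈ Subgroup.normalizer (T₀ : Set H) := by
      refine H225.Basic.mem_normalizer_of_conj_mem fun r hr => ?_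
      have h2 := hkr r hr
      rw [hT₀]
      refine ⟨h2, ?_⟩
      exact (Subgroup.mem_normalizer_iff.1 (hNC (hMY (mul_mem hk.1 hm))) r).1 (hT0C hr)
    have h2 : k * m ∈ Ls := by rw [hLs]; exact ⟨mul_mem hk.1 hm, h1⟩
    have h3 : m = k⁻¹ * (k * m) := by group
    rw [h3]
    exact mul_mem (Subgroup.mem_sup_right (inv_mem hk.2)) (Subgroup.mem_sup_left h2)
  have hsup : L ⊔ C = Ls ⊔ C := by
    rw [← hfac]
    exact le_antisymm (sup_le hMLs le_sup_right) (sup_le_sup_right hLsM _)
  refine ⟨le_antisymm ?_ ?_, hsup⟩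
  · set W := Cfsg.largestPReducedOf p Ls with hW
    have hYW : Y ≤ W := by
      refine H224.YL.largestPReducedOf_le_of_sup_eq ?_ hsup.symm
      exact hYO.trans (hOT.trans hTLs)
    have hT0O : T₀ ≤ Cfsg.pCoreOf p Ls := by
      have h1 : T₀.subgroupOf Ls ≤ Cfsg.pCore p Ls := by
        refine Lib.Cores.le_pCore
          ((Subgroup.normal_subgroupOf_iff_le_normalizer (hT0T.trans hTLs)).2 hLsN) ?_
        exact (T.isPGroup'.to_le hT0T).comap_of_injective Ls.subtype Ls.subtype_injective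
      intro x hx
      exact ⟨⟨x, hTLs (hT0T hx)⟩, h1 hx, rfl⟩
    have hWT : W ≤ T := by
      refine (H224.YL.largestPReducedOf_le_pCoreOf p Ls).trans ?_
      rintro _ ⟨x, hx, rfl⟩
      exact Lib.Cores.pCore_le_sylow (T.subtype hTLs) hx
    have hT0W : T₀ ≤ Subgroup.centralizer (W : Set H) :=
      hT0O.trans (H224.YL.pCoreOf_le_centralizer p Ls)
    have hWCO : W ≤ Subgroup.centralizer (Cfsg.pCoreOf p L : Set H) :=
      Subgroup.le_centralizer_iff.1 (hOT0.trans hT0W)
    have hWO : W ≤ Cfsg.pCoreOf p L := by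
      intro w hw
      have h1 : (⟨w, hTL (hWT hw)⟩ : L) ∈ Subgroup.centralizer (Cfsg.pCore p L : Set L) := by
        rw [Subgroup.mem_centralizer_iff]
        intro y hy
        exact Subtype.ext ((Subgroup.mem_centralizer_iff.1 (hWCO hw)) y ⟨y, hy, rfl⟩)
      exact ⟨_, hL h1, rfl⟩
    have hLO : L ≤ Subgroup.normalizer (Cfsg.pCoreOf p L : Set H) := by
      rw [← Subgroup.normal_subgroupOf_iff_le_normalizer (show Cfsg.pCoreOf p L ≤ L from
        Subgroup.map_subtype_le _)]
      have : (Cfsg.pCoreOf p L).subgroupOf L = Cfsg.pCore p L :=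
        Subgroup.comap_map_eq_self_of_injective L.subtype_injective _
      rw [this]; exact Lib.Cores.pCore_normal p
    have hWp : ∀ w ∈ W, w ^ p = 1 := (H224.YL.isElementaryAbelian_largestPReducedOf p Ls).2
    set V := H225.Basic.conjClosure L W with hV
    refine (H225.Basic.le_conjClosure L W).trans ?_
    have hVO : V ≤ Cfsg.pCoreOf p L := H225.Basic.conjClosure_le hWO hLO
    refine H224.YL.le_largestPReducedOf (hVO.trans (Subgroup.map_subtype_le _))
      (H225.Basic.le_normalizer_conjClosure L W)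
      (H225.Basic.isElementaryAbelian_conjClosure hWO hWCO hLO hWp) ?_
    intro D hDL hLD hk
    have hWV : W ≤ V := H225.Basic.le_conjClosure L W
    have hDC : D ≤ C := by
      refine H224.YL.le_centralizer_largestPReducedOf hDL hLD fun x hx => ?_
      obtain ⟨k, hk⟩ := hk x hx
      exact ⟨k, Subgroup.centralizer_le (hYW.trans hWV) hk⟩
    refine H225.Basic.le_centralizer_conjClosure hLD ?_
    refine H225.Basic.le_centralizer_of_fixed T (V := V) ?_ hk hWV ?_
    · intro y hy k hk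
      exact (Subgroup.mem_normalizer_iff.1 (hLD (hTL hy)) k).1 hk
    · refine le_trans ?_ hT0W
      rw [hT₀]
      exact inf_le_inf_left _ hDC
  · refine H224.YL.largestPReducedOf_le_of_sup_eq ?_ hsup.symm
    exact hYO.trans (hOT.trans hTLs)

end Cfsg.Agent.S2824
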