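import Cfsg.Agent.H225.Basic
import Cfsg.Agent.H225.AxB
import Cfsg.Statements.S2825
set_option linter.all false

-- part: H225/Red
section
/-!
# `p`-reduced subgroups of normal and subnormal subgroups (ambient formulation)

`Red p L V`: `V` is a `p`-reduced normal subgroup of the subgroup `L` of `H`.

* `Red.meet`: `L ⊴ G`, `Red p G M` imply `Red p L (M ⊓ L)` and `C_L(M ∩ L) = C_L(M)`; `Red.meet_subnormal` for subnormal `L`.
* `centralizer_largest_normal`: `L ⊴ G` implies `C_L(Y_L) = C_L(Y_G)`; `centralizer_largest_subnormal`.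
-/

set_option autoImplicit false

namespace Cfsg.Agent.H225.Red

open Cfsg Subgroup Cfsg.Agent.H225.Basic

variable {H : Type*} [Group H]

/-- all elements of `D` have a `p`-power power in `C` -/
def PMod (p : ℕ) (C D : Subgroup H) : Prop := ∀ x ∈ D, ∃ k : ℕ, x ^ p ^ k ∈ C

/-- `V` is a `p`-reduced normal subgroup of `L` -/
structure Red (p : ℕ) (L V : Subgroup H) : Prop where
  le : V ≤ L
  norm : L ≤ normalizer (V : Set H)
  elem : IsElementaryAbelian p V
  red : ∀ D : Subgroup H, D ≤ L → L ≤ normalizer (D : Set H) →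
    PMod p (centralizer (V : Set H)) D → D ≤ centralizer (V : Set H)

theorem Red.le_largest {p : ℕ} {L V : Subgroup H} (h : Red p L V) :
    V ≤ largestPReducedOf p L :=
  H224.YL.le_largestPReducedOf h.le h.norm h.elem h.red

theorem red_largest (p : ℕ) (L : Subgroup H) : Red p L (largestPReducedOf p L) where
  le := H224.YL.largestPReducedOf_le p L
  norm := H224.YL.le_normalizer_largestPReducedOf p L
  elem := H224.YL.isElementaryAbelian_largestPReducedOf p L
  red := fun _ hD hn hk => H224.YL.le_centralizer_largestPReducedOf hD hn hk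

theorem isElementaryAbelian_mono {p : ℕ} {A B : Subgroup H} (h : A ≤ B)
    (hB : IsElementaryAbelian p B) : IsElementaryAbelian p A := by
  refine ⟨⟨⟨?_⟩⟩, fun a ha => hB.2 a (h ha)⟩
  rintro ⟨x, hx⟩ ⟨y, hy⟩
  have := hB.1.is_comm.comm ⟨x, h hx⟩ ⟨y, h hy⟩
  have h2 : x * y = y * x := congrArg Subtype.val this
  exact Subtype.ext h2

theorem pow_mul_of_normalizer {C : Subgroup H} {a b : H} (ha : a ∈ normalizer (C : Set H))
    (hb : b ∈ C) (n : ℕ) : ∃ c ∈ C, (a * b) ^ n = a ^ n * c := by
  induction n with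
  | zero => exact ⟨1, one_mem _, by simp⟩
  | succ n ih =>
    obtain ⟨c, hc, h6⟩ := ih
    refine ⟨(a⁻¹ * c * a) * b, mul_mem ?_ hb, ?_⟩
    · have := (mem_normalizer_iff.1 (inv_mem ha) c).1 hc
      simpa using this
    · rw [pow_succ, h6, pow_succ]; group

theorem PMod.sup {p : ℕ} {C A B : Subgroup H}
    (hBC : B ≤ normalizer (C : Set H)) (hAB : A ≤ normalizer (B : Set H))
    (hA : PMod p C A) (hB : PMod p C B) : PMod p C (A ⊔ B) := by
  intro x hx
  obtain ⟨a, ha, b, hb, rfl⟩ := H224.YL.exists_mul_of_mem_sup hAB hx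
  obtain ⟨k, hk⟩ := hA a ha
  obtain ⟨b', hb', e⟩ := pow_mul_of_normalizer (hAB ha) hb (p ^ k)
  obtain ⟨j, hj⟩ := hB b' hb'
  have h1 : b'⁻¹ * a ^ p ^ k * b' ∈ C := by
    have := (mem_normalizer_iff.1 (inv_mem (hBC hb')) _).1 hk
    simpa using this
  obtain ⟨c, hc, e2⟩ := pow_mul_of_normalizer (hBC hb') h1 (p ^ j)
  refine ⟨k + j, ?_⟩
  have e3 : a ^ p ^ k * b' = b' * (b'⁻¹ * a ^ p ^ k * b') := by group
  rw [pow_add, pow_mul, e, e3, e2]
  exact mul_mem hj hc

theorem PMod.map_conj {p : ℕ} {C D : Subgroup H} {g : H} (hg : g ∈ normalizer (C : Set H))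
    (h : PMod p C D) : PMod p C (D.map (MulAut.conj g).toMonoidHom) := by
  rintro _ ⟨x, hx, rfl⟩
  obtain ⟨k, hk⟩ := h x hx
  refine ⟨k, ?_⟩
  show (g * x * g⁻¹) ^ p ^ k ∈ C
  rw [conj_pow]
  exact (mem_normalizer_iff.1 hg _).1 hk

theorem PMod.mono {p : ℕ} {C C' D D' : Subgroup H} (hC : C ≤ C') (hD : D' ≤ D)
    (h : PMod p C D) : PMod p C' D' := fun x hx =>
  let ⟨k, hk⟩ := h x (hD hx)
  ⟨k, hC hk⟩

theorem le_normalizer_map_conj {L D : Subgroup H} {g : H} (hg : g ∈ normalizer (L : Set H))
    (h : L ≤ normalizer (D : Set H)) :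
    L ≤ normalizer (D.map (MulAut.conj g).toMonoidHom : Set H) := by
  refine mem_normalizer_of_forall fun x hx y hy => ?_
  obtain ⟨d, hd, rfl⟩ := hy
  have h1 : g⁻¹ * x * g ∈ L := by
    have := (mem_normalizer_iff.1 (inv_mem hg) x).1 hx
    simpa using this
  refine ⟨(g⁻¹ * x * g) * d * (g⁻¹ * x * g)⁻¹, (mem_normalizer_iff.1 (h h1) d).1 hd, ?_⟩
  show g * ((g⁻¹ * x * g) * d * (g⁻¹ * x * g)⁻¹) * g⁻¹ = x * (g * d * g⁻¹) * x⁻¹
  group

/-- The property "no normal subgroup which is a `p`-group modulo `C`" passes to normal subgroups. -/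
theorem red_of_normal [Finite H] {p : ℕ} {G L C : Subgroup H} (hLG : L ≤ G)
    (hGL : G ≤ normalizer (L : Set H)) (hGC : G ≤ normalizer (C : Set H))
    (h : ∀ D : Subgroup H, D ≤ G → G ≤ normalizer (D : Set H) → PMod p C D → D ≤ C) :
    ∀ D : Subgroup H, D ≤ L → L ≤ normalizer (D : Set H) → PMod p C D → D ≤ C := by
  set S : Set (Subgroup H) := {D | D ≤ L ∧ L ≤ normalizer (D : Set H) ∧ PMod p C D} with hS
  have hsup : sSup S ≤ L ∧ L ≤ normalizer ((sSup S : Subgroup H) : Set H) ∧ PMod p C (sSup S) := by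
    refine Lib.Cores.sSup_induction_of_finite
      (P := fun D => D ≤ L ∧ L ≤ normalizer (D : Set H) ∧ PMod p C D) S ?_ ?_ ?_
    · refine ⟨bot_le, ?_, ?_⟩
      · refine mem_normalizer_of_forall fun g _ x hx => ?_
        rw [mem_bot] at hx ⊢
        rw [hx]; group
      · intro x hx
        rw [mem_bot] at hx
        exact ⟨0, by rw [hx, one_pow]; exact one_mem _⟩
    · exact fun D hD => hD
    · rintro A B ⟨hA1, hA2, hA3⟩ ⟨hB1, hB2, hB3⟩
      refine ⟨sup_le hA1 hB1, (le_inf hA2 hB2).trans
        (Subgroup.normalizer_inf_normalizer_le_normalizer_sup A B), ?_⟩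
      exact PMod.sup ((hB1.trans hLG).trans hGC) (hA1.trans hB2) hA3 hB3
  have hG : G ≤ normalizer ((sSup S : Subgroup H) : Set H) := by
    refine mem_normalizer_of_forall fun g hg x hx => ?_
    have h1 : (sSup S).map (MulAut.conj g).toMonoidHom ≤ sSup S := by
      rw [sSup_eq_iSup', Subgroup.map_iSup, ← sSup_eq_iSup']
      refine iSup_le fun D => ?_
      obtain ⟨D, hD1, hD2, hD3⟩ := D
      refine le_sSup (a := D.map (MulAut.conj g).toMonoidHom) ⟨?_, ?_, ?_⟩
      · rintro _ ⟨d, hd, rfl⟩
        exact (mem_normalizer_iff.1 (hGL hg) d).1 (hD1 hd)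
      · exact le_normalizer_map_conj (hGL hg) hD2
      · exact hD3.map_conj (hGC hg)
    exact h1 ⟨x, hx, rfl⟩
  intro D hD1 hD2 hD3
  exact (le_sSup (a := D) (show D ∈ S from ⟨hD1, hD2, hD3⟩)).trans (h _ (hsup.1.trans hLG) hG hsup.2.2)

theorem normalizer_inf_le (A B : Subgroup H) :
    normalizer (A : Set H) ⊓ normalizer (B : Set H) ≤ normalizer ((A ⊓ B : Subgroup H) : Set H) := by
  refine mem_normalizer_of_forall fun g hg x hx => ?_
  rw [mem_inf] at hg hx ⊢
  exact ⟨(mem_normalizer_iff.1 hg.1 x).1 hx.1, (mem_normalizer_iff.1 hg.2 x).1 hx.2⟩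

/-- `L ⊴ G` and `M` `p`-reduced for `G`: `C_L(M ∩ L) = C_L(M)`. -/
theorem Red.centralizer_meet {p : ℕ} {G L M : Subgroup H} (hM : Red p G M)
    (hLG : L ≤ G) (hGL : G ≤ normalizer (L : Set H)) :
    L ⊓ centralizer ((M ⊓ L : Subgroup H) : Set H) = L ⊓ centralizer (M : Set H) := by
  apply le_antisymm
  · refine le_inf inf_le_left ?_
    set R := L ⊓ centralizer ((M ⊓ L : Subgroup H) : Set H) with hR
    have hGML : G ≤ normalizer ((M ⊓ L : Subgroup H) : Set H) :=
      (le_inf hM.norm hGL).trans (normalizer_inf_le M L)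
    refine hM.red R (inf_le_left.trans hLG) ?_ ?_
    · exact (le_inf hGL (hGML.trans (normalizer_le_normalizer_centralizer _))).trans
        (normalizer_inf_le _ _)
    · intro x hx
      rw [hR, mem_inf] at hx
      refine ⟨1, ?_⟩
      rw [pow_one, mem_centralizer_iff]
      intro m hm
      -- `c = m x m⁻¹ x⁻¹ ∈ M ∩ L` commutes with `x`
      have hxG := hLG hx.1
      have hc1 : m * x * m⁻¹ * x⁻¹ ∈ M := by
        have := (mem_normalizer_iff.1 (hM.norm hxG) m⁻¹).1 (inv_mem hm)
        have e : m * x * m⁻¹ * x⁻¹ = m * (x * m⁻¹ * x⁻¹) := by group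
        rw [e]; exact mul_mem hm this
      have hc2 : m * x * m⁻¹ * x⁻¹ ∈ L :=
        mul_mem ((mem_normalizer_iff.1 (hGL (hM.le hm)) x).1 hx.1) (inv_mem hx.1)
      set c := m * x * m⁻¹ * x⁻¹ with hc
      have hcx : Commute c x := (mem_centralizer_iff.1 hx.2) c (mem_inf.2 ⟨hc1, hc2⟩)
      have hcp : c ^ p = 1 := hM.elem.2 c hc1
      -- `m x m⁻¹ = c x`
      have e1 : m * x * m⁻¹ = c * x := by rw [hc]; group
      have e2 : m * x ^ p * m⁻¹ = x ^ p := by
        rw [← conj_pow, e1, hcx.mul_pow, hcp, one_mul]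
      exact mul_inv_eq_iff_eq_mul.1 e2
  · exact inf_le_inf_left _ (Subgroup.centralizer_le inf_le_left)

/-- `L ⊴ G` and `M` `p`-reduced for `G`: `M ∩ L` is `p`-reduced for `L`. -/
theorem Red.meet [Finite H] {p : ℕ} {G L M : Subgroup H} (hM : Red p G M)
    (hLG : L ≤ G) (hGL : G ≤ normalizer (L : Set H)) : Red p L (M ⊓ L) where
  le := inf_le_right
  norm := (le_inf (hLG.trans hM.norm) (hLG.trans hGL)).trans (normalizer_inf_le M L)
  elem := isElementaryAbelian_mono inf_le_left hM.elem
  red := by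
    intro D hD1 hD2 hD3
    have h1 := hM.centralizer_meet hLG hGL
    have h2 : D ≤ centralizer (M : Set H) := by
      refine red_of_normal hLG hGL (hM.norm.trans (normalizer_le_normalizer_centralizer M))
        hM.red D hD1 hD2 ?_
      intro x hx
      obtain ⟨k, hk⟩ := hD3 x hx
      have h3 : x ^ p ^ k ∈ L ⊓ centralizer ((M ⊓ L : Subgroup H) : Set H) :=
        mem_inf.2 ⟨pow_mem (hD1 hx) _, hk⟩
      rw [h1] at h3
      exact ⟨k, (mem_inf.1 h3).2⟩
    exact h2.trans (Subgroup.centralizer_le inf_le_left)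

/-- `L ⊴ G`: `C_L(Y_L) = C_L(Y_G)`. -/
theorem centralizer_largest_normal [Finite H] {p : ℕ} [Fact p.Prime] {G L : Subgroup H}
    (hLG : L ≤ G) (hGL : G ≤ normalizer (L : Set H)) :
    L ⊓ centralizer (largestPReducedOf p L : Set H) =
      L ⊓ centralizer (largestPReducedOf p G : Set H) := by
  apply le_antisymm
  · have h1 := (red_largest p G).meet hLG hGL
    rw [← (red_largest p G).centralizer_meet hLG hGL]
    exact inf_le_inf_left _ (Subgroup.centralizer_le h1.le_largest)
  · -- a minimal `G`-invariant `V ≤ Y_L` with `C_L(V) = C_L(Y_L)`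
    set Y := largestPReducedOf p L with hY
    have hYr := red_largest p L
    rw [← hY] at hYr
    -- `Y_L` is normalized by `G`
    have hGY : G ≤ normalizer (Y : Set H) := by
      refine mem_normalizer_of_forall fun g hg x hx => ?_
      have h1 : Red p L (Y.map (MulAut.conj g).toMonoidHom) := by
        have hconj : ∀ z : H, z ∈ centralizer (Y.map (MulAut.conj g).toMonoidHom : Set H) ↔
            g⁻¹ * z * g ∈ centralizer (Y : Set H) := by
          intro z
          rw [mem_centralizer_iff, mem_centralizer_iff]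
          constructor
          · intro h y hy
            have := h (g * y * g⁻¹) ⟨y, hy, rfl⟩
            calc y * (g⁻¹ * z * g) = g⁻¹ * (g * y * g⁻¹ * z) * g := by group
              _ = g⁻¹ * (z * (g * y * g⁻¹)) * g := by rw [this]
              _ = g⁻¹ * z * g * y := by group
          · rintro h _ ⟨y, hy, rfl⟩
            have := h y hy
            show g * y * g⁻¹ * z = z * (g * y * g⁻¹)
            calc g * y * g⁻¹ * z = g * (y * (g⁻¹ * z * g)) * g⁻¹ := by group
              _ = g * ((g⁻¹ * z * g) * y) * g⁻¹ := by rw [this]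
              _ = z * (g * y * g⁻¹) := by group
        refine ⟨?_, le_normalizer_map_conj (hGL hg) hYr.norm, ?_, ?_⟩
        · rintro _ ⟨y, hy, rfl⟩
          exact (mem_normalizer_iff.1 (hGL hg) y).1 (hYr.le hy)
        · refine ⟨⟨⟨?_⟩⟩, ?_⟩
          · rintro ⟨_, y, hy, rfl⟩ ⟨_, z, hz, rfl⟩
            have h1 := hYr.elem.1.is_comm.comm ⟨y, hy⟩ ⟨z, hz⟩
            have h2 : y * z = z * y := congrArg Subtype.val h1
            refine Subtype.ext ?_
            show MulAut.conj g y * MulAut.conj g z = MulAut.conj g z * MulAut.conj g y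
            rw [← map_mul, h2, map_mul]
          · rintro _ ⟨y, hy, rfl⟩
            show (MulAut.conj g y) ^ p = 1
            rw [← map_pow, hYr.elem.2 y hy, map_one]
        · intro D hD1 hD2 hD3
          have hgi := inv_mem (hGL hg)
          have h2 := hYr.red (D.map (MulAut.conj g⁻¹).toMonoidHom) (by
            rintro _ ⟨d, hd, rfl⟩
            exact (mem_normalizer_iff.1 hgi d).1 (hD1 hd)) (le_normalizer_map_conj hgi hD2) (by
            rintro _ ⟨d, hd, rfl⟩
            obtain ⟨k, hk⟩ := hD3 d hd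
            rw [hconj] at hk
            refine ⟨k, ?_⟩
            show (g⁻¹ * d * g⁻¹⁻¹) ^ p ^ k ∈ _
            rw [conj_pow, inv_inv]; exact hk)
          intro d hd
          rw [hconj]
          have := h2 ⟨d, hd, rfl⟩
          have e : (MulAut.conj g⁻¹).toMonoidHom d = g⁻¹ * d * g := by
            show g⁻¹ * d * g⁻¹⁻¹ = _
            rw [inv_inv]
          rwa [e] at this
      exact h1.le_largest ⟨x, hx, rfl⟩
    -- minimality
    have hex : ∃ V : Subgroup H, (V ≤ Y ∧ G ≤ normalizer (V : Set H) ∧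
        L ⊓ centralizer (V : Set H) = L ⊓ centralizer (Y : Set H)) ∧
        ∀ V' : Subgroup H, (V' ≤ Y ∧ G ≤ normalizer (V' : Set H) ∧
          L ⊓ centralizer (V' : Set H) = L ⊓ centralizer (Y : Set H)) → V' ≤ V → V' = V := by
      have hfin : {V : Subgroup H | V ≤ Y ∧ G ≤ normalizer (V : Set H) ∧
          L ⊓ centralizer (V : Set H) = L ⊓ centralizer (Y : Set H)}.Finite := Set.toFinite _
      obtain ⟨V, hV⟩ := hfin.exists_minimal ⟨Y, le_rfl, hGY, rfl⟩
      exact ⟨V, hV.1, fun V' h1 h2 => le_antisymm h2 (hV.2 h1 h2)⟩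
    obtain ⟨V, ⟨hVY, hGV, hVC⟩, hmin⟩ := hex
    have hVe : IsElementaryAbelian p V := isElementaryAbelian_mono hVY hYr.elem
    have hred : Red p G V := by
      refine ⟨(hVY.trans hYr.le).trans hLG, hGV, hVe, ?_⟩
      intro D hD1 hD2 hD3
      have hN := hGV.trans (normalizer_le_normalizer_centralizer V)
      -- `D ∩ L` centralizes `V`
      have hDL : D ⊓ L ≤ centralizer (V : Set H) := by
        refine le_trans ?_ (Subgroup.centralizer_le hVY)
        refine hYr.red (D ⊓ L) inf_le_right
          ((le_inf (hLG.trans hD2) (hLG.trans hGL)).trans (normalizer_inf_le _ _)) ?_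
        intro x hx
        rw [mem_inf] at hx
        obtain ⟨k, hk⟩ := hD3 x hx.1
        have h3 : x ^ p ^ k ∈ L ⊓ centralizer (V : Set H) :=
          mem_inf.2 ⟨pow_mem hx.2 _, hk⟩
        rw [hVC] at h3
        exact ⟨k, (mem_inf.1 h3).2⟩
      -- `V' = C_V(D)`
      have hV' : V ⊓ centralizer (D : Set H) = V := by
        refine hmin _ ⟨inf_le_left.trans hVY, ?_, ?_⟩ inf_le_left
        · exact (le_inf hGV (hD2.trans (normalizer_le_normalizer_centralizer D))).trans
            (normalizer_inf_le _ _)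
        · rw [← hVC]
          apply le_antisymm
          · refine le_inf inf_le_left ?_
            set A := L ⊓ centralizer ((V ⊓ centralizer (D : Set H) : Subgroup H) : Set H) with hA
            -- `A` is a `p`-group modulo `C(V)` and `L`-invariant
            have hpe : ∀ y ∈ A, Nat.Coprime (orderOf y) p → y ∈ centralizer (V : Set H) := by
              intro y hy hyp
              rw [hA, mem_inf] at hy
              refine AxB.axb (D := D) (H224.YL.isPGroup_of_isElementaryAbelian hVe)
                (hD1.trans hGV) hD3 (hGV (hLG hy.1)) hyp ?_ ?_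
              · intro d hd
                apply hDL
                have h4 : y * d⁻¹ * y⁻¹ ∈ D :=
                  (mem_normalizer_iff.1 (hD2 (hLG hy.1)) d⁻¹).1 (inv_mem hd)
                have h5 : d * y * d⁻¹ ∈ L := (mem_normalizer_iff.1 (hGL (hD1 hd)) y).1 hy.1
                refine mem_inf.2 ⟨?_, mul_mem h5 (inv_mem hy.1)⟩
                have e : d * y * d⁻¹ * y⁻¹ = d * (y * d⁻¹ * y⁻¹) := by group
                rw [e]; exact mul_mem hd h4
              · intro v hv hvd
                have : v ∈ V ⊓ centralizer (D : Set H) := by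
                  rw [mem_inf, mem_centralizer_iff]
                  exact ⟨hv, fun d hd => hvd d hd⟩
                exact ((mem_centralizer_iff.1 hy.2) v this).symm
            refine le_trans ?_ (Subgroup.centralizer_le hVY)
            refine hYr.red A inf_le_left ?_ ?_
            · have h6 : G ≤ normalizer ((V ⊓ centralizer (D : Set H) : Subgroup H) : Set H) :=
                (le_inf hGV (hD2.trans (normalizer_le_normalizer_centralizer D))).trans
                  (normalizer_inf_le _ _)
              exact hLG.trans ((le_inf hGL (h6.trans (normalizer_le_normalizer_centralizer _))).trans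
                (normalizer_inf_le _ _))
            · intro x hx
              -- `x = p'-part * p-part`
              obtain ⟨k, m, hm, hkm⟩ : ∃ k m : ℕ, Nat.Coprime m p ∧ orderOf x = p ^ k * m := by
                obtain ⟨k, m, hm, h⟩ := Nat.exists_eq_pow_mul_and_not_dvd
                  (orderOf_pos x).ne' p (Fact.out : p.Prime).ne_one
                exact ⟨k, m, ((Nat.Prime.coprime_iff_not_dvd Fact.out).2 hm).symm, h⟩
              have h7 : orderOf (x ^ p ^ k) = m := by
                rw [orderOf_pow, hkm, Nat.gcd_mul_right_left]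
                exact Nat.mul_div_cancel_left _ (pow_pos (Fact.out : p.Prime).pos k)
              have h8 := hpe (x ^ p ^ k) (pow_mem hx _) (by rw [h7]; exact hm)
              have h9 : x ^ p ^ k ∈ L ⊓ centralizer (V : Set H) :=
                mem_inf.2 ⟨pow_mem (mem_inf.1 hx).1 _, h8⟩
              rw [hVC] at h9
              exact ⟨k, (mem_inf.1 h9).2⟩
          · exact inf_le_inf_left _ (Subgroup.centralizer_le inf_le_left)
      have h10 : V ≤ centralizer (D : Set H) := by rw [← hV']; exact inf_le_right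
      exact Subgroup.le_centralizer_iff.1 h10
    rw [← hVC]
    exact inf_le_inf_left _ (Subgroup.centralizer_le hred.le_largest)

end Cfsg.Agent.H225.Red
end

-- part: S2825
section
set_option autoImplicit false
open Cfsg

namespace Cfsg.Agent.S2825

open Subgroup Cfsg.Agent.H225.Red Cfsg.Agent.H225.Basic

theorem isPReducedNormal_of_red {H : Type*} [Group H] {p : ℕ} {L V : Subgroup H} (h : Red p L V) :
    IsPReducedNormal p (V.subgroupOf L) := by
  have hcen : ∀ x : L, x ∈ centralizer (V.subgroupOf L : Set L) ↔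
      (x : H) ∈ centralizer (V : Set H) := by
    intro x
    rw [mem_centralizer_iff, mem_centralizer_iff]
    constructor
    · intro h' v hv
      exact congrArg Subtype.val (h' ⟨v, h.le hv⟩ hv)
    · intro h v hv
      exact Subtype.ext (h v hv)
  rw [H224.YL.isPReducedNormal_iff]
  refine ⟨?_, ⟨⟨⟨?_⟩⟩, ?_⟩, ?_⟩
  · exact (Subgroup.normal_subgroupOf_iff_le_normalizer h.le).2 h.norm
  · rintro ⟨⟨x, hx1⟩, hx⟩ ⟨⟨y, hy1⟩, hy⟩
    have := h.elem.1.is_comm.comm ⟨x, hx⟩ ⟨y, hy⟩
    have h2 : x * y = y * x := congrArg Subtype.val this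
    exact Subtype.ext (Subtype.ext h2)
  · rintro ⟨x, hx1⟩ hx
    exact Subtype.ext (h.elem.2 x hx)
  · intro D hD _ hk
    have h1 := h.red (D.map L.subtype) (Subgroup.map_subtype_le _) ?_ ?_
    · intro x hx
      rw [hcen]
      exact h1 ⟨x, hx, rfl⟩
    · rw [← Subgroup.normal_subgroupOf_iff_le_normalizer (Subgroup.map_subtype_le _)]
      have : (D.map L.subtype).subgroupOf L = D :=
        Subgroup.comap_map_eq_self_of_injective L.subtype_injective D
      rw [this]; exact hD
    · rintro _ ⟨x, hx, rfl⟩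
      obtain ⟨k, hk⟩ := hk x hx
      rw [hcen] at hk
      exact ⟨k, hk⟩

theorem red_top_iff {H : Type*} [Group H] {p : ℕ} {V : Subgroup H} :
    Red p ⊤ V ↔ IsPReducedNormal p V := by
  rw [H224.YL.isPReducedNormal_iff]
  constructor
  · intro h
    refine ⟨normalizer_eq_top_iff.1 (top_le_iff.1 h.norm), h.elem, ?_⟩
    intro D hD _ hk
    exact h.red D le_top (by rw [normalizer_eq_top_iff.2 hD]) hk
  · rintro ⟨h1, h2, h3⟩
    refine ⟨le_top, by rw [normalizer_eq_top_iff.2 h1], h2, ?_⟩
    intro D _ hD hk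
    have hn : (centralizer (V : Set H)).Normal := by
      haveI := h1
      infer_instance
    have hDn : D.Normal := normalizer_eq_top_iff.1 (top_le_iff.1 hD)
    have := h3 (D ⊔ centralizer (V : Set H)) (Subgroup.sup_normal _ _) le_sup_right ?_
    · exact le_sup_left.trans this
    · refine PMod.sup (C := centralizer (V : Set H)) (by rw [normalizer_eq_top_iff.2 hn]; exact le_top)
        (by rw [normalizer_eq_top_iff.2 hn]; exact le_top) hk ?_
      intro x hx
      exact ⟨0, by simpa using hx⟩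

/-- Let L be a subnormal subgroup of the finite group H, p a prime, Y_H and Y_L the largest p-reduced normal subgroups. Then Y_H ∩ L = Y_H ∩ Y_L and this subgroup is a p-reduced normal subgroup of L; C_L(Y_L) = C_L(Y_H) = C_L(Y_H ∩ L); and if O^p(H) ≤ L, then [Y_L, L] = 1 if and only if [Y_H, H] = 1. -/
theorem result {H : Type*} [Group H] [Finite H] {p : ℕ} [Fact p.Prime] (L : Subgroup H) (hL : L.IsSubnormal) : Cfsg.largestPReduced p H ⊓ L = Cfsg.largestPReduced p H ⊓ (Cfsg.largestPReducedOf p L) ∧ Cfsg.IsPReducedNormal p ((Cfsg.largestPReduced p H ⊓ L).subgroupOf L) ∧ L ⊓ Subgroup.centralizer ((Cfsg.largestPReducedOf p L : Subgroup H) : Set H) = L ⊓ Subgroup.centralizer (Cfsg.largestPReduced p H : Set H) ∧ L ⊓ Subgroup.centralizer (Cfsg.largestPReduced p H : Set H) = L ⊓ Subgroup.centralizer ((Cfsg.largestPReduced p H ⊓ L : Subgroup H) : Set H) ∧ (Cfsg.pResidual p H ≤ L → (⁅(Cfsg.largestPReducedOf p L), L⁆ = ⊥ ↔ ⁅Cfsg.largestPReduced p H, (⊤ : Subgroup H)⁆ = ⊥)) := by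
  set Y := Cfsg.largestPReduced p H with hYdef
  have hY : Red p ⊤ Y := red_top_iff.2 (H224.YL.isPReducedNormal_largestPReduced p)
  have main : Red p L (Y ⊓ L) ∧
      L ⊓ centralizer ((Y ⊓ L : Subgroup H) : Set H) = L ⊓ centralizer (Y : Set H) ∧
      L ⊓ centralizer (largestPReducedOf p L : Set H) = L ⊓ centralizer (Y : Set H) := by
    induction hL with
    | top =>
      have h1 : largestPReducedOf p (⊤ : Subgroup H) = Y := by
        apply le_antisymm
        · exact H224.YL.le_largestPReduced (red_top_iff.1 (red_largest p ⊤))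
        · exact hY.le_largest
      rw [h1, inf_top_eq]
      exact ⟨hY, rfl, rfl⟩
    | step L K hLK _ hN ih =>
      obtain ⟨ih1, ih2, ih3⟩ := ih
      have hKL : K ≤ normalizer (L : Set H) :=
        (Subgroup.normal_subgroupOf_iff_le_normalizer hLK).1 hN
      have e1 : Y ⊓ K ⊓ L = Y ⊓ L := by rw [inf_assoc, inf_eq_right.2 hLK]
      have e2 : ∀ Z : Subgroup H, L ⊓ Z = L ⊓ (K ⊓ Z) := by
        intro Z
        rw [← inf_assoc, inf_eq_left.2 hLK]
      have h1 := ih1.meet hLK hKL
      have h2 := ih1.centralizer_meet hLK hKL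
      rw [e1] at h1 h2
      refine ⟨h1, ?_, ?_⟩
      · rw [h2, e2, ih2, ← e2]
      · rw [centralizer_largest_normal hLK hKL, e2, ih3, ← e2]
  obtain ⟨h1, h2, h3⟩ := main
  refine ⟨?_, isPReducedNormal_of_red h1, h3, h2.symm, ?_⟩
  · apply le_antisymm
    · exact le_inf inf_le_left h1.le_largest
    · exact inf_le_inf_left _ (H224.YL.largestPReducedOf_le p L)
  · intro hres
    rw [commutator_eq_bot_iff_le_centralizer, commutator_eq_bot_iff_le_centralizer,
      Subgroup.le_centralizer_iff, Subgroup.le_centralizer_iff (H := Y)]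
    constructor
    · intro h
      have h4 : L ≤ centralizer (Y : Set H) := by
        have : L ≤ L ⊓ centralizer (Y : Set H) := by
          rw [← h3]; exact le_inf le_rfl h
        exact this.trans inf_le_right
      refine hY.red ⊤ le_rfl Subgroup.le_normalizer ?_
      intro x _
      obtain ⟨k, m, hm, hkm⟩ : ∃ k m : ℕ, Nat.Coprime m p ∧ orderOf x = p ^ k * m := by
        obtain ⟨k, m, hm, h⟩ := Nat.exists_eq_pow_mul_and_not_dvd
          (orderOf_pos x).ne' p (Fact.out : p.Prime).ne_one
        exact ⟨k, m, ((Nat.Prime.coprime_iff_not_dvd Fact.out).2 hm).symm, h⟩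
      have h7 : orderOf (x ^ p ^ k) = m := by
        rw [orderOf_pow, hkm, Nat.gcd_mul_right_left]
        exact Nat.mul_div_cancel_left _ (pow_pos (Fact.out : p.Prime).pos k)
      refine ⟨k, h4 (hres (Subgroup.subset_closure ?_))⟩
      show Nat.Coprime (orderOf (x ^ p ^ k)) p
      rw [h7]; exact hm
    · intro h
      have h5 : L ≤ L ⊓ centralizer (largestPReducedOf p L : Set H) := by
        rw [h3]
        exact le_inf le_rfl (le_top.trans h)
      exact h5.trans inf_le_right

end Cfsg.Agent.S2825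
end
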