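import Cfsg.Statements.S2829
import Cfsg.Agent.H990.PClosed
set_option linter.all false

set_option autoImplicit false
open Cfsg

namespace Cfsg.Agent.S2829

/-- Every strongly p-irreducible finite group is p-irreducible. -/
theorem result {H : Type*} [Group H] [Finite H] {p : ℕ} [Fact p.Prime] (hH : Cfsg.IsStronglyPIrreducible p H) : Cfsg.IsPIrreducible p H := by
  exact Cfsg.Agent.H990.PClosed.isPIrreducible_of_strongly hH

end Cfsg.Agent.S2829
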