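import Cfsg.Statements.S2830
import Cfsg.Agent.H990.PIrr
set_option linter.all false

set_option autoImplicit false
open Cfsg

namespace Cfsg.Agent.S2830

open Subgroup Cfsg.Agent.H990.PClosed Cfsg.Agent.H990.PIrr

theorem core {G : Type*} [Group G] [Finite G] {p : ℕ} [Fact p.Prime] (V H : Subgroup G)
    (hH : Cfsg.IsPIrreducible p ↥H)
    (hnc : ¬ (Cfsg.pResidual p ↥H).map H.subtype ≤ Subgroup.centralizer (V : Set G))
    [hn : ((Subgroup.centralizer (V : Set G)).subgroupOf H).Normal] (T : Subgroup G) (hTH : T ≤ H)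
    (hT : IsPGroup p ↥T) : T ⊓ Subgroup.centralizer (V : Set G) ≤ Cfsg.pCoreOf p H := by
  have hnc' : ¬ pResidual p ↥H ≤ (Subgroup.centralizer (V : Set G)).subgroupOf H := by
    intro h
    exact hnc ((map_mono h).trans (by rw [subgroupOf_map_subtype]; exact inf_le_left))
  have hcl := isPClosed_of_not_le hH hn hnc'
  rw [isPClosed_normal_iff hn] at hcl
  have h1 := hcl ((T ⊓ Subgroup.centralizer (V : Set G)).subgroupOf H)
    (subgroupOf_mono H inf_le_right)
    (hT.to_le inf_le_left).comap_subtype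
  have h2 := map_mono (f := H.subtype) h1
  rwa [map_subgroupOf_eq_of_le (inf_le_left.trans hTH)] at h2

/-- Let H act by conjugation on the elementary abelian p-subgroup V of a finite group G (H ≤ N(V)), with H p-irreducible and O^p(H) not centralizing V. Then C_H(V) is p-closed and C_T(V) ≤ O_p(H) for every p-subgroup T of H. If in addition O_p(H) centralizes V, then C_T(V) = T ∩ O_p(H) for every p-subgroup T of H, and V is p-reduced for H: O_p(H/C_H(V)) = 1. -/
theorem result {G : Type*} [Group G] [Finite G] {p : ℕ} [Fact p.Prime] (V H : Subgroup G) (hV : Cfsg.IsElementaryAbelian p V) (hHV : H ≤ Subgroup.normalizer (V : Set G)) (hH : Cfsg.IsPIrreducible p ↥H) (hnc : ¬ (Cfsg.pResidual p ↥H).map H.subtype ≤ Subgroup.centralizer (V : Set G)) [hn : ((Subgroup.centralizer (V : Set G)).subgroupOf H).Normal] : Cfsg.IsPClosed p ↥(H ⊓ Subgroup.centralizer (V : Set G)) ∧ (∀ T : Subgroup G, T ≤ H → IsPGroup p ↥T → T ⊓ Subgroup.centralizer (V : Set G) ≤ Cfsg.pCoreOf p H) ∧ (Cfsg.pCoreOf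 p H ≤ Subgroup.centralizer (V : Set G) → (∀ T : Subgroup G, T ≤ H → IsPGroup p ↥T → T ⊓ Subgroup.centralizer (V : Set G) = T ⊓ Cfsg.pCoreOf p H) ∧ Cfsg.pCore p (↥H ⧸ (Subgroup.centralizer (V : Set G)).subgroupOf H) = ⊥) := by

  have hC : Subgroup.centralizer (V : Set G) ⊓ H ≤ H := inf_le_right
  have hnc' : ¬ Cfsg.pResidual p ↥H ≤ (Subgroup.centralizer (V : Set G)).subgroupOf H := by
    intro h
    exact hnc ((Subgroup.map_mono h).trans (by rw [Subgroup.subgroupOf_map_subtype]; exact inf_le_left))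
  have key := core (p := p) V H hH hnc
  have hHC : H ≤ Subgroup.normalizer ((H ⊓ Subgroup.centralizer (V : Set G) : Subgroup G) : Set G) :=
    Cfsg.Agent.H990.Norm.le_normalizer_inf Subgroup.le_normalizer
      (Cfsg.Agent.H990.Norm.le_normalizer_centralizer hHV)
  refine ⟨?_, fun T hTH hT => key T hTH hT, fun hO => ⟨fun T hTH hT => ?_, ?_⟩⟩
  · rw [Cfsg.Agent.H990.PClosed.isPClosed_subgroup_iff]
    intro T hT hTp
    have h1 : T ≤ Cfsg.pCoreOf p H := by
      have := key T (hT.trans inf_le_left) hTp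
      rwa [inf_eq_left.2 (hT.trans inf_le_right)] at this
    exact (le_inf hT h1).trans (Cfsg.Agent.H990.PClosed.pCore_le_of_mono inf_le_left)
  · apply le_antisymm
    · exact le_inf inf_le_left (key T hTH hT)
    · exact le_inf inf_le_left (inf_le_right.trans hO)
  · apply Cfsg.Agent.H990.PIrr.pCore_quotient_eq_bot_of_irr hH hnc'
    intro x hx
    exact hO (Subgroup.mem_map_of_mem _ hx)

end Cfsg.Agent.S2830
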