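import Cfsg.Agent.H230.RelTwo
import Cfsg.Statements.S2854
import Cfsg.Agent.H229.Asym
set_option linter.all false

-- part: H230/FrakH
section
/-!
# The core of the arguments on `ℌ_G(O_p(M))`

`A` plays the role of `O_p(M)`, `Y` the role of `Y_M`. A subgroup `H ≥ A` such that `Y ≰ O_p(H)` while
`Y ≤ O_p(L)` for every proper subgroup `L` of `H` containing `A`.
-/

set_option autoImplicit false
open Cfsg

namespace Cfsg.Agent.H230

open Cfsg.Agent.Lib.Cores Cfsg.Agent.Transfer.Residual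

/-- `p`-irreducibility passes to images under surjections with `p`-group kernel. -/
theorem isPIrreducible_map {G : Type*} [Group G] {K : Type*} [Group K] {p : ℕ} [Finite G] [Finite K]
    [Fact p.Prime] {f : G →* K} (hf : Function.Surjective f) (hk : IsPGroup p f.ker)
    (h : IsPIrreducible p G) : IsPIrreducible p K := by
  refine ⟨fun hc => h.1 ((isPClosed_iff_of_surjective hf hk).2 hc), ?_⟩
  intro N hN hNc
  have h0 : (N.comap f).map f = N := Subgroup.map_comap_eq_self_of_surjective hf N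
  have h1 : ¬ IsPClosed p ↥(N.comap f) := by
    intro hc
    apply hNc
    have := (isPClosed_iff_of_surjective (f.subgroupMap_surjective (N.comap f))
      (isPGroup_ker_subgroupMap hk (N.comap f))).1 hc
    rwa [h0] at this
  have h2 := h.2 _ (hN.comap f) h1
  rw [← map_pResidual_of_surjective f hf, Subgroup.map_le_iff_le_comap]
  exact h2

variable {G : Type*} [Group G]

/-- `O^p(N L) ≤ N` for a `p`-group `L` normalising `N`. -/
theorem resOf_sup_le [Finite G] {p : ℕ} [Fact p.Prime] {N L : Subgroup G}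
    (hn : L ≤ Subgroup.normalizer (N : Set G)) (hL : IsPGroup p ↥L) : resOf p (N ⊔ L) ≤ N := by
  have h1 : (N.subgroupOf (N ⊔ L)).Normal :=
    (Subgroup.normal_subgroupOf_iff_le_normalizer le_sup_left).2 (sup_le Subgroup.le_normalizer hn)
  have h2 : IsPGroup p ↥(L.subgroupOf (N ⊔ L)) := hL.comap_of_injective _ (Subgroup.subtype_injective _)
  have h3 : pResidual p ↥(N ⊔ L) ≤ N.subgroupOf (N ⊔ L) ⊔ L.subgroupOf (N ⊔ L) := by
    rw [← Subgroup.subgroupOf_sup le_sup_left le_sup_right, Subgroup.subgroupOf_self]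
    exact le_top
  have h4 := Subgroup.map_mono (f := (N ⊔ L).subtype) (pResidual_le_of_le_sup h2 h3)
  rw [Subgroup.subgroupOf_map_subtype, inf_eq_left.2 le_sup_left] at h4
  exact h4

theorem resOf_sup_eq [Finite G] {p : ℕ} [Fact p.Prime] {N L : Subgroup G}
    (hn : L ≤ Subgroup.normalizer (N : Set G)) (hL : IsPGroup p ↥L) : resOf p (N ⊔ L) = resOf p N := by
  apply le_antisymm _ (resOf_mono le_sup_left)
  rw [resOf_eq_closure, Subgroup.closure_le]
  rintro x ⟨hx, hxp⟩
  exact mem_resOf_of_coprime (resOf_sup_le hn hL (mem_resOf_of_coprime hx hxp)) hxp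

/-- Commutators of mutually normalising subgroups. -/
theorem commutator_le_of_le_normalizer {A B : Subgroup G} (h : B ≤ Subgroup.normalizer (A : Set G)) :
    ⁅A, B⁆ ≤ A := by
  rw [Subgroup.commutator_le]
  intro a ha b hb
  show a * b * a⁻¹ * b⁻¹ ∈ A
  have h1 := (Subgroup.mem_normalizer_iff.1 (h hb) a⁻¹).1 (inv_mem ha)
  have e : a * b * a⁻¹ * b⁻¹ = a * (b * a⁻¹ * b⁻¹) := by group
  rw [e]
  exact A.mul_mem ha h1

/-- The dichotomy for normal subgroups `N` of `H`. -/
theorem frakH_dichotomy {p : ℕ} {A Y H : Subgroup G} (hYA : Y ≤ A) (hAH : A ≤ H)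
    (hmin : ∀ L : Subgroup G, A ≤ L → L < H → Y ≤ pCoreOf p L) {N : Subgroup G} (hNH : N ≤ H)
    (hN : H ≤ Subgroup.normalizer (N : Set G)) : N ⊔ A = H ∨ ⁅N, Y⁆ ≤ pCoreOf p H := by
  by_cases h : N ⊔ A = H
  · exact Or.inl h
  right
  have hlt : N ⊔ A < H := lt_of_le_of_ne (sup_le hNH hAH) h
  have h1 : Y ≤ pCoreOf p (N ⊔ A) := hmin _ le_sup_right hlt
  have h2 : ⁅N, Y⁆ ≤ N := commutator_le_of_le_normalizer ((hYA.trans hAH).trans hN)
  have h3 : ⁅N, Y⁆ ≤ pCoreOf p (N ⊔ A) := by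
    rw [Subgroup.commutator_comm]
    refine (Subgroup.commutator_mono h1 le_rfl).trans ?_
    exact commutator_le_of_le_normalizer (le_sup_left.trans (le_normalizer_pCoreOf p (N ⊔ A)))
  have h4 : N ⊓ pCoreOf p (N ⊔ A) ≤ pCoreOf p N := by
    apply le_pCoreOf inf_le_left
    · intro x hx
      rw [← map_conj_eq_iff_mem_normalizer, Subgroup.map_inf _ _ _ (MulAut.conj x).injective,
        map_conj_eq_iff_mem_normalizer.2 (Subgroup.le_normalizer hx),
        map_conj_eq_iff_mem_normalizer.2 (le_normalizer_pCoreOf p (N ⊔ A) (le_sup_left (a := N) hx))]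
    · exact (isPGroup_pCoreOf p (N ⊔ A)).to_le inf_le_right
  exact (le_inf h2 h3).trans (h4.trans (pCoreOf_le_pCoreOf hNH hN))

/-- The normal closure of `Y` in `H`, in the ambient group. -/
def relNC (Y H : Subgroup G) : Subgroup G :=
  (Subgroup.normalClosure ((Y.subgroupOf H : Subgroup ↥H) : Set ↥H)).map H.subtype

theorem relNC_le (Y H : Subgroup G) : relNC Y H ≤ H := Subgroup.map_subtype_le _

theorem le_relNC {Y H : Subgroup G} (h : Y ≤ H) : Y ≤ relNC Y H := by
  intro y hy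
  exact ⟨⟨y, h hy⟩, Subgroup.subset_normalClosure (show (⟨y, h hy⟩ : ↥H) ∈ Y.subgroupOf H from hy), rfl⟩

theorem le_normalizer_relNC (Y H : Subgroup G) : H ≤ Subgroup.normalizer (relNC Y H : Set G) := by
  rw [← Subgroup.normal_subgroupOf_iff_le_normalizer (relNC_le Y H)]
  unfold relNC
  rw [Subgroup.subgroupOf, Subgroup.comap_map_eq_self_of_injective (Subgroup.subtype_injective H)]
  exact Subgroup.normalClosure_normal

theorem relNC_le_of_normal {Y H N : Subgroup G} (hYN : Y ≤ N) (hN : H ≤ Subgroup.normalizer (N : Set G)) :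
    relNC Y H ≤ N := by
  unfold relNC
  rw [Subgroup.map_le_iff_le_comap]
  have h1 : (N.subgroupOf H).Normal := by
    have h2 : ((N ⊓ H).subgroupOf H).Normal := by
      rw [Subgroup.normal_subgroupOf_iff_le_normalizer inf_le_right]
      intro x hx
      rw [← map_conj_eq_iff_mem_normalizer, Subgroup.map_inf _ _ _ (MulAut.conj x).injective,
        map_conj_eq_iff_mem_normalizer.2 (Subgroup.le_normalizer hx),
        map_conj_eq_iff_mem_normalizer.2 (hN hx)]
    rwa [Subgroup.inf_subgroupOf_right] at h2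
  exact @Subgroup.normalClosure_le_normal _ _ _ (N.subgroupOf H) h1 (Subgroup.comap_mono hYN)

/-- `[K, Y] ≤ O_p(H)` implies that `K` normalises `O_p(H) Y`. -/
theorem le_normalizer_sup_of_commutator_le {O Y K : Subgroup G} (hO : K ≤ Subgroup.normalizer (O : Set G))
    (hc : ⁅K, Y⁆ ≤ O) : K ≤ Subgroup.normalizer ((O ⊔ Y : Subgroup G) : Set G) := by
  have key : ∀ k ∈ K, (O ⊔ Y).map (MulAut.conj k).toMonoidHom ≤ O ⊔ Y := by
    intro k hk
    rw [Subgroup.map_sup]
    apply sup_le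
    · rw [map_conj_eq_iff_mem_normalizer.2 (hO hk)]; exact le_sup_left
    · rintro _ ⟨y, hy, rfl⟩
      show k * y * k⁻¹ ∈ O ⊔ Y
      have h3 : k * y * k⁻¹ * y⁻¹ ∈ O := hc (Subgroup.commutator_mem_commutator hk hy)
      have e : k * y * k⁻¹ = (k * y * k⁻¹ * y⁻¹) * y := by group
      rw [e]
      exact Subgroup.mul_mem_sup h3 hy
  intro k hk
  rw [← map_conj_eq_iff_mem_normalizer]
  apply le_antisymm (key k hk)
  have := Subgroup.map_mono (f := (MulAut.conj k).toMonoidHom) (key k⁻¹ (inv_mem hk))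
  rw [Subgroup.map_map] at this
  have e2 : (MulAut.conj k).toMonoidHom.comp (MulAut.conj k⁻¹).toMonoidHom = MonoidHom.id G := by
    ext y; simp [mul_assoc]
  rwa [e2, Subgroup.map_id] at this

theorem isPGroup_sup_of_le_normalizer {p : ℕ} {A B : Subgroup G} (hA : IsPGroup p ↥A) (hB : IsPGroup p ↥B)
    (h : B ≤ Subgroup.normalizer (A : Set G)) : IsPGroup p ↥(A ⊔ B : Subgroup G) := by
  rw [sup_comm]
  exact IsPGroup.to_sup_of_normal_right' hB hA h

set_option linter.unusedSectionVars false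

section FrakH

variable {p : ℕ} [Fact p.Prime] {A Y H : Subgroup G} (hA : IsPGroup p ↥A) (hYA : Y ≤ A) (hAH : A ≤ H)
    (hYH : ¬ Y ≤ pCoreOf p H) (hmin : ∀ L : Subgroup G, A ≤ L → L < H → Y ≤ pCoreOf p L)

include hA hYA hAH hYH

omit [Fact p.Prime] in
theorem frakH_not_le_normalizer {K : Subgroup G} (hKH : K ≤ H) (hK : H ≤ Subgroup.normalizer (K : Set G))
    (hYK : Y ≤ K) : ¬ K ≤ Subgroup.normalizer ((pCoreOf p H ⊔ Y : Subgroup G) : Set G) := by
  intro hc
  apply hYH
  -- `Y O_p(H)` is a normal `p`-subgroup of `K O_p(H)`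
  have hOH := pCoreOf_le' p H
  have hHO := le_normalizer_pCoreOf p H
  have hYp : IsPGroup p ↥Y := hA.to_le hYA
  have h1 : IsPGroup p ↥(pCoreOf p H ⊔ Y : Subgroup G) :=
    isPGroup_sup_of_le_normalizer (isPGroup_pCoreOf p H) hYp ((hYA.trans hAH).trans hHO)
  have h2 : K ⊔ pCoreOf p H ≤ Subgroup.normalizer ((pCoreOf p H ⊔ Y : Subgroup G) : Set G) :=
    sup_le hc (le_sup_left.trans Subgroup.le_normalizer)
  have h3 : pCoreOf p H ⊔ Y ≤ pCoreOf p (K ⊔ pCoreOf p H) :=
    le_pCoreOf (sup_le le_sup_right (hYK.trans le_sup_left)) h2 h1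
  have h4 : pCoreOf p (K ⊔ pCoreOf p H) ≤ pCoreOf p H := by
    apply pCoreOf_le_pCoreOf (sup_le hKH hOH)
    intro x hx
    rw [← map_conj_eq_iff_mem_normalizer, Subgroup.map_sup, map_conj_eq_iff_mem_normalizer.2 (hK hx),
      map_conj_eq_iff_mem_normalizer.2 (hHO hx)]
  exact le_sup_right.trans (h3.trans h4)

omit [Fact p.Prime] in
/-- `Y` is not centralized modulo `O_p(H)` by a normal subgroup `K` of `H` containing `Y`. -/
theorem frakH_not_commutator_le {K : Subgroup G} (hKH : K ≤ H) (hK : H ≤ Subgroup.normalizer (K : Set G))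
    (hYK : Y ≤ K) : ¬ ⁅K, Y⁆ ≤ pCoreOf p H := fun hc =>
  frakH_not_le_normalizer hA hYA hAH hYH hKH hK hYK
    (le_normalizer_sup_of_commutator_le (hKH.trans (le_normalizer_pCoreOf p H)) hc)

include hmin

omit [Fact p.Prime] in
/-- `H = ⟨Y^H⟩ A`. -/
theorem frakH_relNC_sup : relNC Y H ⊔ A = H := by
  rcases frakH_dichotomy hYA hAH hmin (relNC_le Y H) (le_normalizer_relNC Y H) with h | h
  · exact h
  · exact absurd h (frakH_not_commutator_le hA hYA hAH hYH (relNC_le Y H) (le_normalizer_relNC Y H)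
      (le_relNC (hYA.trans hAH)))

omit [Fact p.Prime] in
/-- `H = ⟨A^H⟩`. -/
theorem frakH_relNC_eq : relNC A H = H := by
  apply le_antisymm (relNC_le A H)
  conv_lhs => rw [← frakH_relNC_sup hA hYA hAH hYH hmin]
  exact sup_le (relNC_le_of_normal (hYA.trans (le_relNC hAH)) (le_normalizer_relNC A H)) (le_relNC hAH)

/-- `H = O^p(H) A`, and `[O^p(H), Y]` is not contained in `O_p(H)`. -/
theorem frakH_resOf_not_le [Finite G]
    (hT : ∀ T : Subgroup G, A ≤ T → IsPGroup p ↥T → T ≤ Subgroup.normalizer (Y : Set G)) :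
    ¬ ⁅resOf p H, Y⁆ ≤ pCoreOf p H := by
  intro h
  obtain ⟨T, hTH, hAT⟩ := exists_isSylowOf_ge hAH hA
  have hTY := hT T hAT hTH.isPGroup
  have hHO := le_normalizer_pCoreOf p H
  -- `O^p(H)` and `T` normalise `Y O_p(H)`
  apply frakH_not_le_normalizer hA hYA hAH hYH le_rfl Subgroup.le_normalizer (hYA.trans hAH)
  conv_lhs => rw [← hTH.resOf_sup]
  apply sup_le
  · exact le_normalizer_sup_of_commutator_le ((resOf_le p H).trans hHO) h
  · intro x hx
    rw [← map_conj_eq_iff_mem_normalizer, Subgroup.map_sup,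
      map_conj_eq_iff_mem_normalizer.2 (hTY hx), map_conj_eq_iff_mem_normalizer.2 (hHO (hTH.le hx))]

theorem frakH_resOf_sup [Finite G]
    (hT : ∀ T : Subgroup G, A ≤ T → IsPGroup p ↥T → T ≤ Subgroup.normalizer (Y : Set G)) :
    resOf p H ⊔ A = H := by
  rcases frakH_dichotomy hYA hAH hmin (resOf_le p H) (le_normalizer_resOf p H) with h | h
  · exact h
  · exact absurd h (frakH_resOf_not_le hA hYA hAH hYH hmin hT)

omit [Fact p.Prime] in
/-- For `N ⊴ H`, `N A = H` or `N` centralizes `⟨Y^H⟩` modulo `O_p(H)`. -/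
theorem frakH_dichotomy' {N : Subgroup G} (hNH : N ≤ H)
    (hN : H ≤ Subgroup.normalizer (N : Set G)) : N ⊔ A = H ∨ ⁅N, relNC Y H⁆ ≤ pCoreOf p H := by
  rcases frakH_dichotomy hYA hAH hmin hNH hN with h | h
  · exact Or.inl h
  right
  -- the elements `x` of `H` with `[N, x] ≤ O_p(H)` form a normal subgroup containing `Y`
  have hHO := le_normalizer_pCoreOf p H
  have hOH := pCoreOf_le' p H
  let C : Subgroup G :=
    { carrier := {x | x ∈ H ∧ ∀ n ∈ N, n * x * n⁻¹ * x⁻¹ ∈ pCoreOf p H}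
      one_mem' := ⟨H.one_mem, fun n _ => by
        have : n * 1 * n⁻¹ * 1⁻¹ = 1 := by group
        rw [this]; exact Subgroup.one_mem _⟩
      mul_mem' := by
        rintro a b ⟨ha, ha'⟩ ⟨hb, hb'⟩
        refine ⟨H.mul_mem ha hb, fun n hn => ?_⟩
        have e : n * (a * b) * n⁻¹ * (a * b)⁻¹ = (n * a * n⁻¹ * a⁻¹) * (a * (n * b * n⁻¹ * b⁻¹) * a⁻¹) := by group
        rw [e]
        exact Subgroup.mul_mem _ (ha' n hn) ((Subgroup.mem_normalizer_iff.1 (hHO ha) _).1 (hb' n hn))
      inv_mem' := by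
        rintro a ⟨ha, ha'⟩
        refine ⟨H.inv_mem ha, fun n hn => ?_⟩
        have e : n * a⁻¹ * n⁻¹ * a⁻¹⁻¹ = a⁻¹ * (n * a * n⁻¹ * a⁻¹)⁻¹ * a⁻¹⁻¹ := by group
        rw [e]
        exact (Subgroup.mem_normalizer_iff.1 (hHO (H.inv_mem ha)) _).1 (inv_mem (ha' n hn)) }
  have hYC : Y ≤ C := by
    intro y hy
    exact ⟨hAH (hYA hy), fun n hn => h (Subgroup.commutator_mem_commutator hn hy)⟩
  have hCn : H ≤ Subgroup.normalizer (C : Set G) := by
    have key : ∀ x ∈ H, C.map (MulAut.conj x).toMonoidHom ≤ C := by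
      rintro x hx _ ⟨c, ⟨hc, hc'⟩, rfl⟩
      refine ⟨H.mul_mem (H.mul_mem hx hc) (H.inv_mem hx), fun n hn => ?_⟩
      show n * (x * c * x⁻¹) * n⁻¹ * (x * c * x⁻¹)⁻¹ ∈ pCoreOf p H
      have hn' : x⁻¹ * n * x⁻¹⁻¹ ∈ N := (Subgroup.mem_normalizer_iff.1 (hN (H.inv_mem hx)) n).1 hn
      have e : n * (x * c * x⁻¹) * n⁻¹ * (x * c * x⁻¹)⁻¹ =
        x * ((x⁻¹ * n * x⁻¹⁻¹) * c * (x⁻¹ * n * x⁻¹⁻¹)⁻¹ * c⁻¹) * x⁻¹ := by group
      rw [e]
      exact (Subgroup.mem_normalizer_iff.1 (hHO hx) _).1 (hc' _ hn')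
    intro x hx
    rw [← map_conj_eq_iff_mem_normalizer]
    apply le_antisymm (key x hx)
    have := Subgroup.map_mono (f := (MulAut.conj x).toMonoidHom) (key x⁻¹ (inv_mem hx))
    rw [Subgroup.map_map] at this
    have e2 : (MulAut.conj x).toMonoidHom.comp (MulAut.conj x⁻¹).toMonoidHom = MonoidHom.id G := by
      ext y; simp [mul_assoc]
    rwa [e2, Subgroup.map_id] at this
  rw [Subgroup.commutator_le]
  intro n hn x hx
  exact (relNC_le_of_normal hYC hCn hx).2 n hn

/-- A member of `ℌ_G(O_p(M))` is `p`-irreducible. -/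
theorem frakH_isPIrreducible [Finite G] : IsPIrreducible p ↥H := by
  have hnc : ¬ IsPClosed p ↥H := by
    intro hc
    rw [isPClosed_iff] at hc
    apply hYH
    refine hYA.trans ?_
    have h1 := hc (A.subgroupOf H) (hA.comap_of_injective H.subtype (Subgroup.subtype_injective H))
    have h2 := Subgroup.map_mono (f := H.subtype) h1
    rwa [Subgroup.subgroupOf_map_subtype, inf_eq_left.2 hAH] at h2
  refine ⟨hnc, ?_⟩
  intro N' hN' hNc
  -- pass to the ambient group
  set N : Subgroup G := N'.map H.subtype with hNdef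
  have hNH : N ≤ H := Subgroup.map_subtype_le _
  have hNsub : N.subgroupOf H = N' := by
    rw [hNdef, Subgroup.subgroupOf, Subgroup.comap_map_eq_self_of_injective (Subgroup.subtype_injective H)]
  have hN : H ≤ Subgroup.normalizer (N : Set G) := by
    rw [← Subgroup.normal_subgroupOf_iff_le_normalizer hNH, hNsub]
    exact hN'
  suffices h : resOf p H ≤ N by
    have := Subgroup.comap_mono (f := H.subtype) h
    unfold resOf at this
    rw [Subgroup.comap_map_eq_self_of_injective (Subgroup.subtype_injective H)] at this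
    rw [← hNsub]
    exact this
  rcases frakH_dichotomy' hA hYA hAH hYH hmin hNH hN with h | h
  · conv_lhs => rw [← h]
    exact resOf_sup_le (hAH.trans hN) hA
  · exfalso
    apply hNc
    have hHO := le_normalizer_pCoreOf p H
    obtain ⟨T, hTH, hAT⟩ := exists_isSylowOf_ge hAH hA
    have hTN : IsSylowOf p (T ⊓ N) N := hTH.inf_normal hNH hN
    -- `(T ∩ N) O_p(H)` is normal in `H`
    have hW : H ≤ Subgroup.normalizer ((pCoreOf p H ⊔ (T ⊓ N) : Subgroup G) : Set G) := by
      conv_lhs => rw [← frakH_relNC_sup hA hYA hAH hYH hmin]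
      apply sup_le
      · apply le_normalizer_sup_of_commutator_le ((relNC_le Y H).trans hHO)
        rw [Subgroup.commutator_comm]
        exact (Subgroup.commutator_mono inf_le_right le_rfl).trans h
      · intro x hx
        rw [← map_conj_eq_iff_mem_normalizer, Subgroup.map_sup,
          map_conj_eq_iff_mem_normalizer.2 (hHO (hAH hx)), Subgroup.map_inf _ _ _ (MulAut.conj x).injective,
          map_conj_eq_iff_mem_normalizer.2 (hN (hAH hx)),
          map_conj_eq_iff_mem_normalizer.2 (Subgroup.le_normalizer (hAT hx))]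
    have hWle : pCoreOf p H ⊔ (T ⊓ N) ≤ T := sup_le hTH.pCoreOf_le inf_le_left
    have hTO : T ⊓ N ≤ pCoreOf p H :=
      le_sup_right.trans (le_pCoreOf (hWle.trans hTH.le) hW (hTH.isPGroup.to_le hWle))
    have hTN2 : T ⊓ N = pCoreOf p H ⊓ N := by
      apply le_antisymm (le_inf hTO inf_le_right)
      exact inf_le_inf_right _ hTH.pCoreOf_le
    have hnorm : N ≤ Subgroup.normalizer ((T ⊓ N : Subgroup G) : Set G) := by
      rw [hTN2]
      intro x hx
      rw [← map_conj_eq_iff_mem_normalizer, Subgroup.map_inf _ _ _ (MulAut.conj x).injective,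
        map_conj_eq_iff_mem_normalizer.2 (hHO (hNH hx)),
        map_conj_eq_iff_mem_normalizer.2 (Subgroup.le_normalizer hx)]
    -- hence `N` is `p`-closed; transfer to `N'`
    have hNcl : IsPClosed p ↥N := by
      obtain ⟨P, hP⟩ := hTN
      apply isPClosed_of_sylow_normal P
      have h3 : (P : Subgroup ↥N) = (T ⊓ N).subgroupOf N := by
        rw [← hP, Subgroup.subgroupOf, Subgroup.comap_map_eq_self_of_injective (Subgroup.subtype_injective N)]
      rw [h3, Subgroup.normal_subgroupOf_iff_le_normalizer inf_le_right]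
      exact hnorm
    have hsurj := H.subtype.subgroupMap_surjective N'
    have hk : IsPGroup p (H.subtype.subgroupMap N').ker := by
      apply isPGroup_ker_subgroupMap
      rw [Subgroup.ker_subtype]
      exact IsPGroup.of_bot
    exact (isPClosed_iff_of_surjective hsurj hk).2 hNcl

/-- The statement on `H P` for a `p`-group `P` normalised by `H`. -/
theorem frakH_sup_main [Finite G]
    (hT : ∀ T : Subgroup G, A ≤ T → IsPGroup p ↥T → T ≤ Subgroup.normalizer (A : Set G))
    {P : Subgroup G} (hP : IsPGroup p ↥P) (hHP : H ≤ Subgroup.normalizer (P : Set G)) :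
    P ≤ pCoreOf p (H ⊔ P) ∧ pCoreOf p (H ⊔ P) ≤ Subgroup.normalizer (A : Set G) ∧
      (H.subgroupOf (H ⊔ P)).Normal ∧ resOf p H = resOf p (H ⊔ P) ∧ IsPIrreducible p ↥(H ⊔ P : Subgroup G) := by
  have hPn : H ⊔ P ≤ Subgroup.normalizer (P : Set G) := sup_le hHP Subgroup.le_normalizer
  have h1 : P ≤ pCoreOf p (H ⊔ P) := le_pCoreOf le_sup_right hPn hP
  have h2 : pCoreOf p (H ⊔ P) ≤ Subgroup.normalizer (A : Set G) := by
    obtain ⟨T, hTH, hAT⟩ := exists_isSylowOf_ge (hAH.trans (le_sup_left : H ≤ H ⊔ P)) hA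
    exact hTH.pCoreOf_le.trans (hT T hAT hTH.isPGroup)
  -- `P` normalises `H = ⟨A^H⟩`
  have h3 : P ≤ Subgroup.normalizer (H : Set G) := by
    have hPA : P ≤ Subgroup.normalizer (A : Set G) := h1.trans h2
    have key : ∀ x ∈ P, H.map (MulAut.conj x).toMonoidHom ≤ H := by
      intro x hx
      rw [Subgroup.map_le_iff_le_comap]
      conv_lhs => rw [← frakH_relNC_eq hA hYA hAH hYH hmin]
      unfold relNC
      rw [Subgroup.map_le_iff_le_comap, Subgroup.normalClosure, Subgroup.closure_le]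
      intro y hy
      rw [Group.mem_conjugatesOfSet_iff] at hy
      obtain ⟨a, ha, hay⟩ := hy
      obtain ⟨h, rfl⟩ := isConj_iff.1 hay
      show x * ((h : G) * (a : G) * (h : G)⁻¹) * x⁻¹ ∈ H
      have hx' : (h : G)⁻¹ * x * (h : G)⁻¹⁻¹ ∈ P :=
        (Subgroup.mem_normalizer_iff.1 (hHP (inv_mem h.2)) x).1 hx
      have ha' := (Subgroup.mem_normalizer_iff.1 (hPA hx') (a : G)).1 ha
      have e : x * ((h : G) * (a : G) * (h : G)⁻¹) * x⁻¹ =
        (h : G) * (((h : G)⁻¹ * x * (h : G)⁻¹⁻¹) * (a : G) * ((h : G)⁻¹ * x * (h : G)⁻¹⁻¹)⁻¹) * (h : G)⁻¹ := by group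
      rw [e]
      exact H.mul_mem (H.mul_mem h.2 (hAH ha')) (inv_mem h.2)
    intro x hx
    rw [← map_conj_eq_iff_mem_normalizer]
    apply le_antisymm (key x hx)
    have := Subgroup.map_mono (f := (MulAut.conj x).toMonoidHom) (key x⁻¹ (inv_mem hx))
    rw [Subgroup.map_map] at this
    have e2 : (MulAut.conj x).toMonoidHom.comp (MulAut.conj x⁻¹).toMonoidHom = MonoidHom.id G := by
      ext y; simp [mul_assoc]
    rwa [e2, Subgroup.map_id] at this
  refine ⟨h1, h2, ?_, (resOf_sup_eq h3 hP).symm, ?_⟩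
  · rw [Subgroup.normal_subgroupOf_iff_le_normalizer le_sup_left]
    exact sup_le Subgroup.le_normalizer h3
  · -- `H P / P ≅ H / (H ∩ P)`
    have hPnorm : (P.subgroupOf (H ⊔ P)).Normal :=
      (Subgroup.normal_subgroupOf_iff_le_normalizer le_sup_right).2 hPn
    let g : ↥(H ⊔ P : Subgroup G) →* ↥(H ⊔ P : Subgroup G) ⧸ P.subgroupOf (H ⊔ P) :=
      QuotientGroup.mk' (P.subgroupOf (H ⊔ P))
    have hg : Function.Surjective g := QuotientGroup.mk'_surjective _
    have hgk : IsPGroup p g.ker := by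
      rw [QuotientGroup.ker_mk']
      exact hP.comap_of_injective _ (Subgroup.subtype_injective _)
    let f : ↥H →* ↥(H ⊔ P : Subgroup G) ⧸ P.subgroupOf (H ⊔ P) :=
      g.comp (Subgroup.inclusion (le_sup_left : H ≤ H ⊔ P))
    have hf : Function.Surjective f := by
      intro y
      obtain ⟨x, rfl⟩ := hg y
      have hx : x ∈ H.subgroupOf (H ⊔ P) ⊔ P.subgroupOf (H ⊔ P) := by
        rw [← Subgroup.subgroupOf_sup le_sup_left le_sup_right, Subgroup.subgroupOf_self]
        exact Subgroup.mem_top _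
      rw [Subgroup.mem_sup_of_normal_right] at hx
      obtain ⟨a, ha, b, hb, rfl⟩ := hx
      refine ⟨⟨a, ha⟩, ?_⟩
      show g (Subgroup.inclusion (le_sup_left : H ≤ H ⊔ P) ⟨a, ha⟩) = g (a * b)
      have hb1 : g b = 1 := (QuotientGroup.eq_one_iff b).2 hb
      rw [map_mul, hb1, mul_one]
      rfl
    have hfk : IsPGroup p f.ker := by
      rintro ⟨⟨x, hx⟩, hxk⟩
      have h5 : x ∈ P := by
        have h6 : (Subgroup.inclusion (le_sup_left : H ≤ H ⊔ P) ⟨x, hx⟩) ∈ g.ker := hxk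
        rw [QuotientGroup.ker_mk'] at h6
        exact h6
      obtain ⟨k, hk⟩ := hP ⟨x, h5⟩
      refine ⟨k, ?_⟩
      apply Subtype.ext
      apply Subtype.ext
      have h7 := congrArg Subtype.val hk
      exact h7
    exact isPIrreducible_of_surjective hg hgk
      (isPIrreducible_map hf hfk (frakH_isPIrreducible hA hYA hAH hYH hmin))

end FrakH

end Cfsg.Agent.H230
end

-- part: S2854
section
set_option autoImplicit false
open Cfsg

namespace Cfsg.Agent.S2854

/-- Standing hypotheses: G a finite group, S a Sylow p-subgroup, Q a nontrivial large p-subgroup of G contained in S, M a subgroup containing S with the basic property (M ∈ 𝔐_G(S)); Y_M the largest p-reduced normal subgroup of M and M† = M·C_G(Y_M). Suppose Y_M is asymmetric in G, H ∈ ℌ_G(O_p(M)), and H ≤ N_G(gQg⁻¹) for some g ∈ G. Then gQg⁻¹ ≤ O_p(H·gQg⁻¹) ≤ N_G(O_p(M)) ≤ N_G(Y_M) = M†; H is normal in H·gQg⁻¹ with O^p(H) = O^p(H·gQg⁻¹); and H·gQg⁻¹ is p-irreducible. -/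
theorem result {G : Type*} [Group G] [Finite G] {p : ℕ} [Fact p.Prime] (S : Sylow p G) (Q : Subgroup G) (hQp : IsPGroup p ↥Q) (hQ1 : Q ≠ ⊥) (hQS : Q ≤ (S : Subgroup G)) (hQ : Cfsg.IsLarge Q) (M : Subgroup G) (hSM : (S : Subgroup G) ≤ M) (hM : Cfsg.IsInFrakM p M) (hasym : ¬ Cfsg.IsSymmetricIn (Cfsg.largestPReducedOf p M)) (H : Subgroup G) (hH : Cfsg.IsInFrakH p M H) (g : G) (hHQ : H ≤ Subgroup.normalizer ((((Q : Subgroup G).map (MulAut.conj (g : G)).toMonoidHom) : Subgroup G) : Set G)) : ((Q : Subgroup G).map (MulAut.conj (g : G)).toMonoidHom) ≤ Cfsg.pCoreOf p (H ⊔ ((Q : Subgroup G).map (MulAut.conj (g : G)).toMonoidHom)) ∧ Cfsg.pCoreOf p (H ⊔ ((Q : Subgroup G).map (MulAut.conj (g : G)).toMonoidHom)) ≤ Subgroup.normalizer (((Cfsg.pCoreOf p M) : Subgroup G) : Set G) ∧ Subgroup.normalizer (((Cfsg.pCoreOf p M) : Subgroup G) : Set G) ≤ Subgroup.normalizer (((Cfsg.largestPReducedOf p M) : Subgroup G) : Set G) ∧ Subgroup.normalizer (((Cfsg.largestPReducedOf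 p M) : Subgroup G) : Set G) = (M ⊔ Subgroup.centralizer (((Cfsg.largestPReducedOf p M) : Subgroup G) : Set G)) ∧ (H.subgroupOf (H ⊔ ((Q : Subgroup G).map (MulAut.conj (g : G)).toMonoidHom))).Normal ∧ (Cfsg.pResidual p ↥H).map H.subtype = (Cfsg.pResidual p ↥(H ⊔ ((Q : Subgroup G).map (MulAut.conj (g : G)).toMonoidHom))).map (H ⊔ ((Q : Subgroup G).map (MulAut.conj (g : G)).toMonoidHom)).subtype ∧ Cfsg.IsPIrreducible p ↥(H ⊔ ((Q : Subgroup G).map (MulAut.conj (g : G)).toMonoidHom)) := by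
  have h : H229.Setup p S Q M := ⟨⟨hQp, hQ1, hQ⟩, hQS, hSM, hM⟩
  obtain ⟨-, hAH, hYH, hmin⟩ := hH
  have hPp : IsPGroup p ↥(Q.map (MulAut.conj g).toMonoidHom) := hQp.map _
  have hT : ∀ T : Subgroup G, pCoreOf p M ≤ T → IsPGroup p ↥T →
      T ≤ Subgroup.normalizer (pCoreOf p M : Set G) := fun T hPT hTp =>
    Subgroup.le_normalizer.trans (h.norm_le_norm_core hasym hTp hPT)
  obtain ⟨h1, h2, h3, h4, h5⟩ := H230.frakH_sup_main (H229.isPGroup_pCoreOf p M)
    (H229.largest_le_pCoreOf p M) hAH hYH hmin hT hPp hHQ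
  refine ⟨h1, h2, ?_, ?_, h3, h4, h5⟩
  · exact h.norm_core_le.trans H229.Setup.dag_le_norm
  · exact h.dag_eq.symm

end Cfsg.Agent.S2854
end
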