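import Cfsg.Agent.H230.RelTwo
import Cfsg.Statements.S2855
set_option linter.all false

-- part: H230/MinFamily
section
/-!
# `p`-minimal groups and transitive families
-/

set_option autoImplicit false
open Cfsg

namespace Cfsg.Agent.H230

open Cfsg.Agent.Lib.Cores Cfsg.Agent.Transfer.Residual

/-- A convenient form of `IsMinimalOver` for finite groups. -/
theorem isMinimalOver_iff {G : Type*} [Group G] [Finite G] {Y : Subgroup G} :
    IsMinimalOver Y ↔ Subgroup.normalClosure (Y : Set G) = ⊤ ∧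
      ∃ N : Subgroup G, N ≠ ⊤ ∧ Y ≤ N ∧ ∀ M : Subgroup G, Y ≤ M → M ≠ ⊤ → M ≤ N := by
  unfold IsMinimalOver
  constructor
  · rintro ⟨h1, N, ⟨hN, hYN⟩, hu⟩
    refine ⟨h1, N, hN.1, hYN, ?_⟩
    intro M hYM hM
    rcases eq_top_or_exists_le_coatom M with h | ⟨C, hC, hMC⟩
    · exact absurd h hM
    · have := hu C ⟨hC, hYM.trans hMC⟩
      rw [← this]
      exact hMC
  · rintro ⟨h1, N, hN, hYN, hu⟩
    refine ⟨h1, N, ⟨⟨hN, ?_⟩, hYN⟩, ?_⟩
    · intro B hB
      by_contra hne
      exact absurd (hu B (hYN.trans hB.le) hne) (not_le_of_gt hB)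
    · rintro M ⟨hM, hYM⟩
      have h2 := hu M hYM hM.1
      rcases hM.le_iff.1 h2 with h | h
      · exact absurd h hN
      · exact h.symm

/-- `IsMinimalOver` and surjections whose kernel lies in `Y`. -/
theorem isMinimalOver_map_iff {G : Type*} [Group G] [Finite G] {K : Type*} [Group K] [Finite K]
    {f : G →* K} (hf : Function.Surjective f) {Y : Subgroup G} (hY : f.ker ≤ Y) :
    IsMinimalOver (Y.map f) ↔ IsMinimalOver Y := by
  have hcm : ∀ M : Subgroup G, Y ≤ M → (M.map f).comap f = M := by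
    intro M hM
    rw [Subgroup.comap_map_eq, sup_eq_left]
    exact hY.trans hM
  rw [isMinimalOver_iff, isMinimalOver_iff]
  have hnc : Subgroup.normalClosure ((Y.map f : Subgroup K) : Set K) =
      (Subgroup.normalClosure (Y : Set G)).map f := by
    rw [Subgroup.map_normalClosure _ _ hf, Subgroup.coe_map]
  constructor
  · rintro ⟨h1, N, hN, hYN, hu⟩
    refine ⟨?_, N.comap f, ?_, Subgroup.map_le_iff_le_comap.1 hYN, ?_⟩
    · rw [hnc] at h1
      rw [← hcm _ Subgroup.subset_normalClosure, h1, Subgroup.comap_top]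
    · intro h
      apply hN
      rw [← Subgroup.map_comap_eq_self_of_surjective hf N, h, Subgroup.map_top_of_surjective f hf]
    · intro M hYM hM
      rw [← Subgroup.map_le_iff_le_comap]
      apply hu _ (Subgroup.map_mono hYM)
      intro h
      apply hM
      rw [← hcm M hYM, h, Subgroup.comap_top]
  · rintro ⟨h1, N, hN, hYN, hu⟩
    refine ⟨?_, N.map f, ?_, Subgroup.map_mono hYN, ?_⟩
    · rw [hnc, h1, Subgroup.map_top_of_surjective f hf]
    · intro h
      apply hN
      rw [← hcm N hYN, h, Subgroup.comap_top]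
    · intro M hYM hM
      rw [← Subgroup.map_comap_eq_self_of_surjective hf M]
      apply Subgroup.map_mono
      apply hu _ (Subgroup.map_le_iff_le_comap.1 hYM)
      intro h
      apply hM
      rw [← Subgroup.map_comap_eq_self_of_surjective hf M, h, Subgroup.map_top_of_surjective f hf]

/-- `p`-minimality under a surjection with `p`-group kernel. -/
theorem pminimal_iff_of_surjective {G : Type*} [Group G] [Finite G] {K : Type*} [Group K] [Finite K]
    {p : ℕ} [Fact p.Prime] {f : G →* K} (hf : Function.Surjective f) (hk : IsPGroup p f.ker) :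
    (∀ T : Sylow p K, IsMinimalOver (T : Subgroup K)) ↔ (∀ T : Sylow p G, IsMinimalOver (T : Subgroup G)) := by
  constructor
  · intro h T
    rw [← isMinimalOver_map_iff hf (hk.le_sylow_of_normal T)]
    exact h (T.mapSurjective hf)
  · intro h T
    obtain ⟨S, hS⟩ := Sylow.mapSurjective_surjective hf p T
    rw [← hS]
    rw [Sylow.coe_mapSurjective, isMinimalOver_map_iff hf (hk.le_sylow_of_normal S)]
    exact h S

theorem isSylowOf_top {G : Type*} [Group G] {p : ℕ} (T : Sylow p G) :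
    IsSylowOf p (T : Subgroup G) (⊤ : Subgroup G) := by
  rw [isSylowOf_iff_maximal]
  exact ⟨le_top, T.2, fun R _ hR hTR => T.3 hR hTR⟩

variable {H : Type*} [Group H]

theorem rel_minimal [Finite H] {E Y : Subgroup H} (hYE : Y ≤ E) (h : IsMinimalOver (Y.subgroupOf E)) :
    (∀ M : Subgroup H, M ≤ E → Y ≤ M → E ≤ Subgroup.normalizer (M : Set H) → M = E) ∧
      ∃ L : Subgroup H, L ≤ E ∧ L ≠ E ∧ Y ≤ L ∧
        ∀ M : Subgroup H, M ≤ E → Y ≤ M → M ≠ E → M ≤ L := by
  rw [isMinimalOver_iff] at h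
  obtain ⟨h1, N, hN, hYN, hu⟩ := h
  constructor
  · intro M hME hYM hn
    have h2 : (M.subgroupOf E).Normal := (Subgroup.normal_subgroupOf_iff_le_normalizer hME).2 hn
    have h3 : Subgroup.normalClosure ((Y.subgroupOf E : Subgroup ↥E) : Set ↥E) ≤ M.subgroupOf E :=
      Subgroup.normalClosure_le_normal (Subgroup.comap_mono hYM)
    rw [h1, top_le_iff, Subgroup.subgroupOf_eq_top] at h3
    exact le_antisymm hME h3
  · refine ⟨N.map E.subtype, Subgroup.map_subtype_le _, ?_, ?_, ?_⟩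
    · intro h
      apply hN
      have h2 := congrArg (Subgroup.comap E.subtype) h
      rw [Subgroup.comap_map_eq_self_of_injective (Subgroup.subtype_injective E)] at h2
      rw [h2]
      exact Subgroup.subgroupOf_self E
    · have := Subgroup.map_mono (f := E.subtype) hYN
      rwa [Subgroup.subgroupOf_map_subtype, inf_eq_left.2 hYE] at this
    · intro M hME hYM hM
      have h2 : M.subgroupOf E ≤ N := by
        apply hu (M.subgroupOf E) (Subgroup.comap_mono hYM)
        intro h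
        exact hM (le_antisymm hME (Subgroup.subgroupOf_eq_top.1 h))
      have := Subgroup.map_mono (f := E.subtype) h2
      rwa [Subgroup.subgroupOf_map_subtype, inf_eq_left.2 hME] at this

theorem map_conj_one (A : Subgroup H) : A.map (MulAut.conj (1 : H)).toMonoidHom = A := by
  have e : (MulAut.conj (1 : H)).toMonoidHom = MonoidHom.id H := by ext; simp
  rw [e, Subgroup.map_id]

theorem map_conj_mul (A : Subgroup H) (a b : H) :
    A.map (MulAut.conj (a * b)).toMonoidHom =
      (A.map (MulAut.conj b).toMonoidHom).map (MulAut.conj a).toMonoidHom := by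
  rw [Subgroup.map_map]
  congr 1
  ext y; simp [mul_assoc]

theorem map_conj_inv_cancel (A : Subgroup H) (a : H) :
    (A.map (MulAut.conj a).toMonoidHom).map (MulAut.conj a⁻¹).toMonoidHom = A := by
  rw [← map_conj_mul, inv_mul_cancel, map_conj_one]

theorem map_conj_cancel_inv (A : Subgroup H) (a : H) :
    (A.map (MulAut.conj a⁻¹).toMonoidHom).map (MulAut.conj a).toMonoidHom = A := by
  rw [← map_conj_mul, mul_inv_cancel, map_conj_one]

theorem map_conj_of_mem {A : Subgroup H} {a : H} (ha : a ∈ A) : A.map (MulAut.conj a).toMonoidHom = A :=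
  map_conj_eq_iff_mem_normalizer.2 (Subgroup.le_normalizer ha)

theorem sSup_family_normal {𝒦 : Set (Subgroup H)}
    (hinv : ∀ h : H, ∀ E ∈ 𝒦, E.map (MulAut.conj h).toMonoidHom ∈ 𝒦) :
    (⊤ : Subgroup H) ≤ Subgroup.normalizer ((sSup 𝒦 : Subgroup H) : Set H) := by
  have key : ∀ h : H, (sSup 𝒦).map (MulAut.conj h).toMonoidHom ≤ sSup 𝒦 := by
    intro h
    rw [Subgroup.map_le_iff_le_comap]
    apply sSup_le
    intro E hE
    rw [← Subgroup.map_le_iff_le_comap]
    exact le_sSup (hinv h E hE)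
  intro h _
  rw [← map_conj_eq_iff_mem_normalizer]
  apply le_antisymm (key h)
  have := Subgroup.map_mono (f := (MulAut.conj h).toMonoidHom) (key h⁻¹)
  rwa [map_conj_cancel_inv] at this

/-- A Sylow subgroup is transitive on the family. -/
theorem sylow_transitive [Finite H] {p : ℕ} [Fact p.Prime] {𝒦 : Set (Subgroup H)}
    (htr : ∀ E ∈ 𝒦, ∀ K ∈ 𝒦, ∃ h : H, K = E.map (MulAut.conj h).toMonoidHom)
    (hres : pResidual p H ≤ sSup 𝒦) (hnorm : ∀ E ∈ 𝒦, sSup 𝒦 ≤ Subgroup.normalizer (E : Set H))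
    (T : Sylow p H) {E K : Subgroup H} (hE : E ∈ 𝒦) (hK : K ∈ 𝒦) :
    ∃ t ∈ (T : Subgroup H), K = E.map (MulAut.conj t).toMonoidHom := by
  obtain ⟨h, hh⟩ := htr E hE K hK
  -- `h = t r`, equivalently `h⁻¹ = r' t'`
  have h1 : h⁻¹ ∈ pResidual p H ⊔ (T : Subgroup H) := by
    rw [pResidual_sup_sylow T]; exact Subgroup.mem_top _
  have hn := pResidual_normal (G := H) p
  rw [Subgroup.mem_sup_of_normal_left] at h1
  obtain ⟨r, hr, t, ht, hrt⟩ := h1
  refine ⟨t⁻¹, inv_mem ht, ?_⟩
  have h2 : h = t⁻¹ * r⁻¹ := by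
    have := congrArg (fun x => x⁻¹) hrt
    simpa using this.symm
  have h3 : E.map (MulAut.conj r⁻¹).toMonoidHom = E :=
    map_conj_eq_iff_mem_normalizer.2 (hnorm E hE (hres (inv_mem hr)))
  rw [hh, h2, map_conj_mul, h3]

theorem sylow_inf_family [Finite H] {p : ℕ} [Fact p.Prime] {𝒦 : Set (Subgroup H)}
    (hinv : ∀ h : H, ∀ E ∈ 𝒦, E.map (MulAut.conj h).toMonoidHom ∈ 𝒦)
    (hnorm : ∀ E ∈ 𝒦, sSup 𝒦 ≤ Subgroup.normalizer (E : Set H))
    (T : Sylow p H) {E : Subgroup H} (hE : E ∈ 𝒦) : IsSylowOf p ((T : Subgroup H) ⊓ E) E := by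
  have h1 := (isSylowOf_top T).inf_normal (N := sSup 𝒦) le_top (sSup_family_normal hinv)
  have h2 := h1.inf_normal (N := E) (le_sSup hE) (hnorm E hE)
  rwa [inf_assoc, inf_eq_right.2 (le_sSup hE)] at h2

/-- The first half of the statement, when `O_p(H)` has been factored out. -/
theorem minimal_of_family [Finite H] {p : ℕ} [Fact p.Prime] {𝒦 : Set (Subgroup H)} (hne : 𝒦.Nonempty)
    (hinv : ∀ h : H, ∀ E ∈ 𝒦, E.map (MulAut.conj h).toMonoidHom ∈ 𝒦)
    (htr : ∀ E ∈ 𝒦, ∀ K ∈ 𝒦, ∃ h : H, K = E.map (MulAut.conj h).toMonoidHom)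
    (hres : pResidual p H ≤ sSup 𝒦) (hnorm : ∀ E ∈ 𝒦, sSup 𝒦 ≤ Subgroup.normalizer (E : Set H))
    (hmin : ∀ E ∈ 𝒦, ∀ T : Sylow p ↥E, IsMinimalOver (T : Subgroup ↥E)) (T : Sylow p H) :
    IsMinimalOver (T : Subgroup H) := by
  classical
  have hRT : sSup 𝒦 ⊔ (T : Subgroup H) = ⊤ := by
    rw [eq_top_iff, ← pResidual_sup_sylow T]
    exact sup_le_sup_right hres _
  have hrel : ∀ E ∈ 𝒦, (∀ M : Subgroup H, M ≤ E → (T : Subgroup H) ⊓ E ≤ M →
        E ≤ Subgroup.normalizer (M : Set H) → M = E) ∧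
      ∃ L : Subgroup H, L ≤ E ∧ L ≠ E ∧ (T : Subgroup H) ⊓ E ≤ L ∧
        ∀ M : Subgroup H, M ≤ E → (T : Subgroup H) ⊓ E ≤ M → M ≠ E → M ≤ L := by
    intro E hE
    obtain ⟨P, hP⟩ := sylow_inf_family hinv hnorm T hE
    apply rel_minimal inf_le_right
    have : ((T : Subgroup H) ⊓ E).subgroupOf E = (P : Subgroup ↥E) := by
      rw [← hP, Subgroup.subgroupOf, Subgroup.comap_map_eq_self_of_injective (Subgroup.subtype_injective E)]
    rw [this]
    exact hmin E hE P
  -- the unique maximal subgroups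
  have hex : ∀ E : Subgroup H, ∃ L : Subgroup H, E ∈ 𝒦 → (L ≤ E ∧ L ≠ E ∧ (T : Subgroup H) ⊓ E ≤ L ∧
        ∀ M : Subgroup H, M ≤ E → (T : Subgroup H) ⊓ E ≤ M → M ≠ E → M ≤ L) := by
    intro E
    by_cases hE : E ∈ 𝒦
    · obtain ⟨L, hL⟩ := (hrel E hE).2
      exact ⟨L, fun _ => hL⟩
    · exact ⟨⊥, fun h => absurd h hE⟩
  choose P hP using hex
  -- proper overgroups of `T` contain no member of the family
  have hproper : ∀ M : Subgroup H, (T : Subgroup H) ≤ M → M ≠ ⊤ → ∀ E ∈ 𝒦, ¬ E ≤ M := by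
    intro M hTM hM E hE hEM
    apply hM
    rw [eq_top_iff, ← hRT]
    refine sup_le (sSup_le ?_) hTM
    intro K hK
    obtain ⟨t, ht, rfl⟩ := sylow_transitive htr hres hnorm T hE hK
    calc E.map (MulAut.conj t).toMonoidHom ≤ M.map (MulAut.conj t).toMonoidHom := Subgroup.map_mono hEM
      _ = M := map_conj_of_mem (hTM ht)
  -- the stabilizer of the function `P`
  let N : Subgroup H :=
    { carrier := {h | ∀ E ∈ 𝒦, (P E).map (MulAut.conj h).toMonoidHom = P (E.map (MulAut.conj h).toMonoidHom)}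
      one_mem' := by
        intro E _
        rw [map_conj_one, map_conj_one]
      mul_mem' := by
        intro a b ha hb E hE
        rw [map_conj_mul, map_conj_mul, hb E hE, ha _ (hinv b E hE)]
      inv_mem' := by
        intro a ha E hE
        have h1 := ha _ (hinv a⁻¹ E hE)
        rw [map_conj_cancel_inv] at h1
        rw [← h1, map_conj_inv_cancel] }
  have hmemN : ∀ h : H, h ∈ N ↔ ∀ E ∈ 𝒦, (P E).map (MulAut.conj h).toMonoidHom =
      P (E.map (MulAut.conj h).toMonoidHom) := fun h => Iff.rfl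
  have hNtop : N ≠ ⊤ := by
    intro hN
    obtain ⟨E, hE⟩ := hne
    obtain ⟨h1, h2, h3, h4⟩ := hP E hE
    apply h2
    apply (hrel E hE).1 _ h1 h3
    intro e he
    rw [← map_conj_eq_iff_mem_normalizer]
    have h5 : e ∈ N := by rw [hN]; exact Subgroup.mem_top _
    rw [(hmemN e).1 h5 E hE, map_conj_of_mem he]
  have hhalf : ∀ M : Subgroup H, (T : Subgroup H) ≤ M → M ≠ ⊤ → ∀ m ∈ M, ∀ E ∈ 𝒦,
      (P E).map (MulAut.conj m).toMonoidHom ≤ P (E.map (MulAut.conj m).toMonoidHom) := by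
    intro M hTM hM m hm E hE
    obtain ⟨h1, h2, h3, h4⟩ := hP E hE
    obtain ⟨g1, g2, g3, g4⟩ := hP _ (hinv m E hE)
    have hMP : M ⊓ E ≤ P E := by
      apply h4 _ inf_le_right (inf_le_inf_right _ hTM)
      intro h
      exact hproper M hTM hM E hE (inf_eq_right.1 h)
    apply g4
    · exact Subgroup.map_mono h1
    · have h5 : (M ⊓ E).map (MulAut.conj m).toMonoidHom ≤ (P E).map (MulAut.conj m).toMonoidHom :=
        Subgroup.map_mono hMP
      rw [Subgroup.map_inf _ _ _ (MulAut.conj m).injective, map_conj_of_mem hm] at h5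
      exact (inf_le_inf_right _ hTM).trans h5
    · intro h
      apply h2
      have := congrArg (fun A : Subgroup H => A.map (MulAut.conj m⁻¹).toMonoidHom) h
      simpa only [map_conj_inv_cancel] using this
  have hall : ∀ M : Subgroup H, (T : Subgroup H) ≤ M → M ≠ ⊤ → M ≤ N := by
    intro M hTM hM m hm
    rw [hmemN]
    intro E hE
    apply le_antisymm (hhalf M hTM hM m hm E hE)
    have h1 := hhalf M hTM hM m⁻¹ (inv_mem hm) _ (hinv m E hE)
    rw [map_conj_inv_cancel] at h1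
    have h2 := Subgroup.map_mono (f := (MulAut.conj m).toMonoidHom) h1
    rwa [map_conj_cancel_inv] at h2
  have hTtop : (T : Subgroup H) ≠ ⊤ := by
    intro h
    obtain ⟨E, hE⟩ := hne
    obtain ⟨h1, h2, h3, h4⟩ := hP E hE
    rw [h, top_inf_eq] at h3
    exact h2 (le_antisymm h1 h3)
  rw [isMinimalOver_iff]
  refine ⟨?_, N, hNtop, hall _ le_rfl hTtop, hall⟩
  have hTL : (T : Subgroup H) ≤ Subgroup.normalClosure ((T : Subgroup H) : Set H) :=
    Subgroup.subset_normalClosure
  rw [eq_top_iff, ← hRT]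
  refine sup_le (sSup_le ?_) hTL
  intro E hE
  have h1 := (hrel E hE).1 (Subgroup.normalClosure ((T : Subgroup H) : Set H) ⊓ E) inf_le_right
    (inf_le_inf_right _ hTL) ?_
  · rw [← h1]; exact inf_le_left
  · intro e he
    rw [← map_conj_eq_iff_mem_normalizer, Subgroup.map_inf _ _ _ (MulAut.conj e).injective,
      map_conj_of_mem he]
    congr 1
    rw [map_conj_eq_iff_mem_normalizer]
    rw [Subgroup.normalizer_eq_top]
    exact Subgroup.mem_top _

end Cfsg.Agent.H230
end

-- part: H230/IrrFamily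
section
/-!
# Strongly `p`-irreducible groups and transitive families
-/

set_option autoImplicit false
open Cfsg

namespace Cfsg.Agent.H230

open Cfsg.Agent.Lib.Cores Cfsg.Agent.Transfer.Residual

variable {H : Type*} [Group H] [Finite H] {p : ℕ} [Fact p.Prime]

set_option linter.unusedSectionVars false

/-- An element inducing on the strongly `p`-irreducible group `E` (with `O_p(E) = 1`) a map `e ↦ [d, e]` with values
commuting with `E` and without nontrivial `p`-elements centralizes `E`. -/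
theorem centralizes_of_central {E : Subgroup H} (hE : IsStronglyPIrreducible p ↥E)
    (hE1 : pCore p ↥E = ⊥) {d : H}
    (hc : ∀ e ∈ E, ∀ f ∈ E, (d * e * d⁻¹ * e⁻¹) * f = f * (d * e * d⁻¹ * e⁻¹))
    (hp : ∀ e ∈ E, ∀ k : ℕ, (d * e * d⁻¹ * e⁻¹) ^ p ^ k = 1 → d * e * d⁻¹ * e⁻¹ = 1) :
    ∀ e ∈ E, d * e * d⁻¹ = e := by
  let ζ : ↥E →* H := MonoidHom.mk' (fun e => d * (e : H) * d⁻¹ * (e : H)⁻¹) (by
    intro a b
    have h1 := hc b b.2 (a : H)⁻¹ (inv_mem a.2)
    show d * ((a : H) * (b : H)) * d⁻¹ * ((a : H) * (b : H))⁻¹ =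
      (d * (a : H) * d⁻¹ * (a : H)⁻¹) * (d * (b : H) * d⁻¹ * (b : H)⁻¹)
    calc d * ((a : H) * (b : H)) * d⁻¹ * ((a : H) * (b : H))⁻¹
        = (d * (a : H) * d⁻¹) * ((d * (b : H) * d⁻¹ * (b : H)⁻¹) * (a : H)⁻¹) := by group
      _ = (d * (a : H) * d⁻¹) * ((a : H)⁻¹ * (d * (b : H) * d⁻¹ * (b : H)⁻¹)) := by rw [h1]
      _ = _ := by group)
  have hζ : ∀ e : ↥E, ζ e = d * (e : H) * d⁻¹ * (e : H)⁻¹ := fun e => rfl
  have hpk : ∀ P : Subgroup ↥E, IsPGroup p ↥P → P ≤ ζ.ker := by
    intro P hP x hx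
    obtain ⟨k, hk⟩ := hP ⟨x, hx⟩
    have hk' : x ^ p ^ k = 1 := congrArg Subtype.val hk
    rw [MonoidHom.mem_ker, hζ]
    apply hp x x.2 k
    rw [← hζ, ← map_pow, hk', map_one]
  have htop : ζ.ker = ⊤ := by
    obtain ⟨P⟩ := (Sylow.nonempty : Nonempty (Sylow p ↥E))
    by_cases hcase : ⁅ζ.ker, (⊤ : Subgroup ↥E)⁆ ≤ pCore p ↥E
    · exfalso
      rw [hE1, le_bot_iff, Subgroup.commutator_eq_bot_iff_le_centralizer] at hcase
      apply hE.1
      apply isPClosed_of_sylow_normal P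
      have h1 : (P : Subgroup ↥E) ≤ Subgroup.center ↥E := by
        refine (hpk P P.2).trans (hcase.trans ?_)
        rw [Subgroup.coe_top, Subgroup.centralizer_univ]
      constructor
      intro x hx g
      have := Subgroup.mem_center_iff.1 (h1 hx) g
      rw [this, mul_inv_cancel_right]
      exact hx
    · have h1 := hE.2 _ (MonoidHom.normal_ker ζ) hcase
      rw [eq_top_iff, ← pResidual_sup_sylow P]
      exact sup_le h1 (hpk P P.2)
  intro e he
  have h1 : (⟨e, he⟩ : ↥E) ∈ ζ.ker := by rw [htop]; exact Subgroup.mem_top _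
  rw [MonoidHom.mem_ker, hζ] at h1
  exact mul_inv_eq_one.1 h1

omit [Fact p.Prime] in
theorem eq_one_of_central_pelement {R : Subgroup H} (hR : pCoreOf p R = ⊥) {z : H} (hz : z ∈ R)
    (hc : ∀ r ∈ R, z * r = r * z) {k : ℕ} (hk : z ^ p ^ k = 1) : z = 1 := by
  have h1 : Subgroup.zpowers z ≤ pCoreOf p R := by
    apply le_pCoreOf
    · rwa [Subgroup.zpowers_le]
    · intro r hr
      rw [← map_conj_eq_iff_mem_normalizer, MonoidHom.map_zpowers]
      congr 1
      show r * z * r⁻¹ = z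
      rw [← hc r hr, mul_inv_cancel_right]
    · rintro ⟨x, n, rfl⟩
      refine ⟨k, ?_⟩
      ext
      show (z ^ n) ^ p ^ k = 1
      rw [← zpow_natCast, ← zpow_mul, mul_comm, zpow_mul, zpow_natCast, hk, one_zpow]
  rw [hR, le_bot_iff, Subgroup.zpowers_eq_bot] at h1
  exact h1

/-- Relative form of the defining property of strongly `p`-irreducible groups. -/
theorem resOf_le_of_not {E N : Subgroup H} (hE : IsStronglyPIrreducible p ↥E) (hE1 : pCore p ↥E = ⊥)
    (hNE : N ≤ E) (hn : E ≤ Subgroup.normalizer (N : Set H)) (h : ⁅N, E⁆ ≠ ⊥) : resOf p E ≤ N := by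
  have h1 : (N.subgroupOf E).Normal := (Subgroup.normal_subgroupOf_iff_le_normalizer hNE).2 hn
  have h2 : ¬ ⁅N.subgroupOf E, (⊤ : Subgroup ↥E)⁆ ≤ pCore p ↥E := by
    rw [hE1, le_bot_iff]
    intro hb
    apply h
    have := congrArg (Subgroup.map E.subtype) hb
    rwa [Subgroup.map_commutator, Subgroup.subgroupOf_map_subtype, inf_eq_left.2 hNE,
      ← MonoidHom.range_eq_map, Subgroup.range_subtype, Subgroup.map_bot] at this
  have h3 := Subgroup.map_mono (f := E.subtype) (hE.2 _ h1 h2)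
  rw [Subgroup.subgroupOf_map_subtype, inf_eq_left.2 hNE] at h3
  exact h3

omit [Finite H] [Fact p.Prime] in
theorem resOf_le_resOf_of_le {E K : Subgroup H} (h : resOf p E ≤ K) : resOf p E ≤ resOf p K := by
  rw [resOf_eq_closure, Subgroup.closure_le]
  rintro x ⟨hx, hxp⟩
  exact mem_resOf_of_coprime (h (mem_resOf_of_coprime hx hxp)) hxp

omit [Fact p.Prime] in
theorem resOf_eq_of_conj {E K : Subgroup H} {h : H} (hK : K = E.map (MulAut.conj h).toMonoidHom)
    (hle : resOf p E ≤ resOf p K) : resOf p E = resOf p K := by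
  apply Subgroup.eq_of_le_of_card_ge hle
  rw [hK, resOf_map_equiv p (MulAut.conj h)]
  exact (Subgroup.card_map_of_injective (MulAut.conj h).injective).le

section Family

variable {𝒦 : Set (Subgroup H)} (hne : 𝒦.Nonempty)
    (hinv : ∀ h : H, ∀ E ∈ 𝒦, E.map (MulAut.conj h).toMonoidHom ∈ 𝒦)
    (htr : ∀ E ∈ 𝒦, ∀ K ∈ 𝒦, ∃ h : H, K = E.map (MulAut.conj h).toMonoidHom)
    (hres : pResidual p H ≤ sSup 𝒦) (hnorm : ∀ E ∈ 𝒦, sSup 𝒦 ≤ Subgroup.normalizer (E : Set H))
    (hcore : pCore p H = ⊥) (hirr : ∀ E ∈ 𝒦, IsStronglyPIrreducible p ↥E)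

include hinv hcore

omit [Fact p.Prime] in
theorem pCoreOf_sSup_eq_bot : pCoreOf p (sSup 𝒦) = ⊥ := by
  have h1 := pCoreOf_le_pCoreOf (p := p) (N := sSup 𝒦) (A := ⊤) le_top (sSup_family_normal hinv)
  rwa [pCoreOf_top, hcore, le_bot_iff] at h1

include hnorm

omit [Fact p.Prime] in
theorem pCoreOf_member_eq_bot {E : Subgroup H} (hE : E ∈ 𝒦) : pCoreOf p E = ⊥ := by
  have h1 := pCoreOf_le_pCoreOf (p := p) (N := E) (A := sSup 𝒦) (le_sSup hE) (hnorm E hE)
  rwa [pCoreOf_sSup_eq_bot hinv hcore, le_bot_iff] at h1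

omit [Fact p.Prime] in
theorem pCore_member_eq_bot {E : Subgroup H} (hE : E ∈ 𝒦) : pCore p ↥E = ⊥ := by
  have h1 := pCoreOf_member_eq_bot hinv hnorm hcore hE
  unfold pCoreOf at h1
  rwa [Subgroup.map_eq_bot_iff_of_injective _ (Subgroup.subtype_injective E)] at h1

include htr hirr

theorem family_commute {E K : Subgroup H} (hE : E ∈ 𝒦) (hK : K ∈ 𝒦) :
    resOf p E = resOf p K ∨ ⁅E, K⁆ = ⊥ := by
  have hEn : K ≤ Subgroup.normalizer (E : Set H) := (le_sSup hK).trans (hnorm E hE)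
  have hKn : E ≤ Subgroup.normalizer (K : Set H) := (le_sSup hE).trans (hnorm K hK)
  have hE1 := pCore_member_eq_bot hinv hnorm hcore hE
  have hK1 := pCore_member_eq_bot hinv hnorm hcore hK
  have hn1 : E ≤ Subgroup.normalizer ((E ⊓ K : Subgroup H) : Set H) := by
    intro e he
    rw [← map_conj_eq_iff_mem_normalizer, Subgroup.map_inf _ _ _ (MulAut.conj e).injective,
      map_conj_of_mem he, map_conj_eq_iff_mem_normalizer.2 (hKn he)]
  have hn2 : K ≤ Subgroup.normalizer ((E ⊓ K : Subgroup H) : Set H) := by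
    intro e he
    rw [← map_conj_eq_iff_mem_normalizer, Subgroup.map_inf _ _ _ (MulAut.conj e).injective,
      map_conj_of_mem he, map_conj_eq_iff_mem_normalizer.2 (hEn he)]
  by_cases h1 : ⁅E ⊓ K, E⁆ = ⊥
  · by_cases h2 : ⁅E ⊓ K, K⁆ = ⊥
    · right
      rw [Subgroup.commutator_eq_bot_iff_le_centralizer] at h1 h2
      have key : ∀ k ∈ K, ∀ e ∈ E, k * e * k⁻¹ = e := by
        intro k hk
        have hmem : ∀ e ∈ E, k * e * k⁻¹ * e⁻¹ ∈ E ⊓ K := by
          intro e he
          constructor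
          · exact E.mul_mem ((Subgroup.mem_normalizer_iff.1 (hEn hk) e).1 he) (inv_mem he)
          · have : k * e * k⁻¹ * e⁻¹ = k * (e * k⁻¹ * e⁻¹) := by group
            rw [this]
            exact K.mul_mem hk ((Subgroup.mem_normalizer_iff.1 (hKn he) k⁻¹).1 (inv_mem hk))
        apply centralizes_of_central (hirr E hE) hE1
        · intro e he f hf
          exact ((Subgroup.mem_centralizer_iff.1 (h1 (hmem e he))) f hf).symm
        · intro e he n hn
          apply eq_one_of_central_pelement (pCoreOf_member_eq_bot hinv hnorm hcore hE) (hmem e he).1 _ hn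
          intro f hf
          exact ((Subgroup.mem_centralizer_iff.1 (h1 (hmem e he))) f hf).symm
      rw [Subgroup.commutator_eq_bot_iff_le_centralizer]
      intro e he
      rw [Subgroup.mem_centralizer_iff]
      intro k hk
      exact mul_inv_eq_iff_eq_mul.1 (key k hk e he)
    · left
      have h3 := resOf_le_of_not (hirr K hK) hK1 inf_le_right hn2 h2
      obtain ⟨h, hh⟩ := htr K hK E hE
      exact (resOf_eq_of_conj hh (resOf_le_resOf_of_le (h3.trans inf_le_left))).symm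
  · left
    have h3 := resOf_le_of_not (hirr E hE) hE1 inf_le_left hn1 h1
    obtain ⟨h, hh⟩ := htr E hE K hK
    exact resOf_eq_of_conj hh (resOf_le_resOf_of_le (h3.trans inf_le_right))

include hne hres

theorem family_irreducible : IsPIrreducible p H := by
  obtain ⟨E₀, hE₀⟩ := hne
  refine ⟨fun hc => (hirr E₀ hE₀).1 (IsPClosed.subgroup hc E₀), ?_⟩
  intro N hN hNc
  have hRn : (sSup 𝒦).Normal := Subgroup.normalizer_eq_top_iff.1 (top_le_iff.1 (sSup_family_normal hinv))
  have hNn : ∀ x : H, x ∈ Subgroup.normalizer (N : Set H) := by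
    intro x
    rw [Subgroup.normalizer_eq_top]
    exact Subgroup.mem_top _
  by_cases hcase : ∃ E ∈ 𝒦, ⁅N ⊓ E, E⁆ ≠ ⊥
  · -- `O^p(E) ≤ N` for one, hence for all members
    obtain ⟨E, hE, hEc⟩ := hcase
    have h1 : resOf p E ≤ N := by
      refine (resOf_le_of_not (hirr E hE) (pCore_member_eq_bot hinv hnorm hcore hE) inf_le_right ?_ hEc).trans
        inf_le_left
      intro e he
      rw [← map_conj_eq_iff_mem_normalizer, Subgroup.map_inf _ _ _ (MulAut.conj e).injective,
        map_conj_of_mem he, map_conj_eq_iff_mem_normalizer.2 (hNn e)]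
    have h2 : ∀ K ∈ 𝒦, resOf p K ≤ N := by
      intro K hK
      obtain ⟨h, rfl⟩ := htr E hE K hK
      rw [resOf_map_equiv p (MulAut.conj h), ← map_conj_eq_iff_mem_normalizer.2 (hNn h)]
      exact Subgroup.map_mono h1
    -- in `H / N` the images of the members are normal `p`-subgroups of the image of `R`
    have h3 : ∀ K ∈ 𝒦, IsPGroup p ↥(K.map (QuotientGroup.mk' N)) := by
      intro K hK
      rintro ⟨_, ⟨x, hx, rfl⟩⟩
      obtain ⟨k, hk⟩ := exists_pow_prime_pow_coprime p x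
      refine ⟨k, ?_⟩
      ext
      show (QuotientGroup.mk' N x) ^ p ^ k = 1
      rw [← map_pow]
      exact (QuotientGroup.eq_one_iff _).2 (h2 K hK (mem_resOf_of_coprime (K.pow_mem hx _) hk))
    have h4 : IsPGroup p ↥((sSup 𝒦).map (QuotientGroup.mk' N)) := by
      have h5 : (sSup 𝒦).map (QuotientGroup.mk' N) ≤ pCoreOf p ((sSup 𝒦).map (QuotientGroup.mk' N)) := by
        rw [Subgroup.map_le_iff_le_comap]
        apply sSup_le
        intro K hK
        rw [← Subgroup.map_le_iff_le_comap]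
        apply le_pCoreOf (Subgroup.map_mono (le_sSup hK)) _ (h3 K hK)
        exact (Subgroup.map_mono (hnorm K hK)).trans (Subgroup.le_normalizer_map _)
      exact (isPGroup_pCoreOf p _).to_le h5
    -- conclude
    rw [pResidual_def, Subgroup.closure_le]
    intro x hx
    have hxR : x ∈ sSup 𝒦 := hres (mem_pResidual_of_coprime hx)
    obtain ⟨k, hk⟩ := IsPGroup.iff_orderOf.1 h4 ⟨_, Subgroup.mem_map_of_mem _ hxR⟩
    rw [Subgroup.orderOf_mk] at hk
    have h6 : Nat.Coprime (orderOf (QuotientGroup.mk' N x)) p :=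
      Nat.Coprime.coprime_dvd_left (orderOf_map_dvd _ x) hx
    have h7 : orderOf (QuotientGroup.mk' N x) = 1 := by
      rw [hk] at h6 ⊢
      rcases Nat.eq_zero_or_pos k with rfl | hk0
      · simp
      · exfalso
        have := Nat.Coprime.coprime_dvd_left (dvd_pow_self p hk0.ne') h6
        rw [Nat.coprime_self] at this
        exact (Fact.out : p.Prime).one_lt.ne' this
    exact (QuotientGroup.eq_one_iff x).1 (orderOf_eq_one_iff.1 h7)
  · -- `N` centralizes `R`, hence is `p`-closed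
    exfalso
    push Not at hcase
    have hcm : ∀ n ∈ N, ∀ x : H, n * x * n⁻¹ * x⁻¹ ∈ N := by
      intro n hn x
      have : n * x * n⁻¹ * x⁻¹ = n * (x * n⁻¹ * x⁻¹) := by group
      rw [this]
      exact N.mul_mem hn (hN.conj_mem _ (inv_mem hn) x)
    -- step 1: `N ∩ R` centralizes `R`
    have s1 : ∀ n ∈ N ⊓ sSup 𝒦, ∀ E ∈ 𝒦, ∀ e ∈ E, n * e * n⁻¹ = e := by
      intro n hn E hE
      have hmem : ∀ e ∈ E, n * e * n⁻¹ * e⁻¹ ∈ N ⊓ E := by
        intro e he
        refine ⟨hcm n hn.1 e, E.mul_mem ((Subgroup.mem_normalizer_iff.1 (hnorm E hE hn.2) e).1 he) (inv_mem he)⟩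
      have h1 := hcase E hE
      rw [Subgroup.commutator_eq_bot_iff_le_centralizer] at h1
      apply centralizes_of_central (hirr E hE) (pCore_member_eq_bot hinv hnorm hcore hE)
      · intro e he f hf
        exact ((Subgroup.mem_centralizer_iff.1 (h1 (hmem e he))) f hf).symm
      · intro e he k hk
        apply eq_one_of_central_pelement (pCoreOf_member_eq_bot hinv hnorm hcore hE) (hmem e he).2 _ hk
        intro f hf
        exact ((Subgroup.mem_centralizer_iff.1 (h1 (hmem e he))) f hf).symm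
    have toR : ∀ n : H, (∀ E ∈ 𝒦, ∀ e ∈ E, n * e * n⁻¹ = e) → ∀ r ∈ sSup 𝒦, n * r = r * n := by
      intro n hn r hr
      have h1 : sSup 𝒦 ≤ Subgroup.centralizer ({n} : Set H) := by
        apply sSup_le
        intro E hE e he
        rw [Subgroup.mem_centralizer_iff]
        rintro _ rfl
        have := hn E hE e he
        exact mul_inv_eq_iff_eq_mul.1 this
      exact (Subgroup.mem_centralizer_iff.1 (h1 hr)) n rfl
    have s2 : ∀ n ∈ N ⊓ sSup 𝒦, ∀ r ∈ sSup 𝒦, n * r = r * n := fun n hn => toR n (s1 n hn)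
    -- step 2: `N` centralizes `R`
    have s3 : ∀ n ∈ N, ∀ E ∈ 𝒦, ∀ e ∈ E, n * e * n⁻¹ = e := by
      intro n hn E hE
      have hmem : ∀ e ∈ E, n * e * n⁻¹ * e⁻¹ ∈ N ⊓ sSup 𝒦 := by
        intro e he
        have heR : e ∈ sSup 𝒦 := le_sSup hE he
        exact ⟨hcm n hn e, (sSup 𝒦).mul_mem (hRn.conj_mem e heR n) (inv_mem heR)⟩
      apply centralizes_of_central (hirr E hE) (pCore_member_eq_bot hinv hnorm hcore hE)
      · intro e he f hf
        exact s2 _ (hmem e he) f (le_sSup hE hf)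
      · intro e he k hk
        exact eq_one_of_central_pelement (pCoreOf_sSup_eq_bot hinv hcore) (hmem e he).2 (s2 _ (hmem e he)) hk
    have s4 : ∀ n ∈ N, ∀ r ∈ sSup 𝒦, n * r = r * n := fun n hn => toR n (s3 n hn)
    -- conclude: a Sylow subgroup of `N` is normal
    apply hNc
    obtain ⟨P⟩ := (Sylow.nonempty : Nonempty (Sylow p ↥N))
    apply isPClosed_of_sylow_normal P
    have hPn : (P : Subgroup ↥N) ⊔ pResidual p ↥N ≤ Subgroup.normalizer ((P : Subgroup ↥N) : Set ↥N) := by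
      apply sup_le Subgroup.le_normalizer
      intro x hx
      have hxR : (x : H) ∈ sSup 𝒦 := hres (pResidual_subgroup_le p N ⟨x, hx, rfl⟩)
      rw [← map_conj_eq_iff_mem_normalizer]
      have hfix : ∀ y : ↥N, x * y * x⁻¹ = y := by
        intro y
        ext
        have := s4 y y.2 x hxR
        show (x : H) * (y : H) * (x : H)⁻¹ = y
        rw [← this, mul_inv_cancel_right]
      have e : (MulAut.conj x).toMonoidHom = MonoidHom.id ↥N := by
        ext y
        have := hfix y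
        exact congrArg Subtype.val this
      rw [e, Subgroup.map_id]
    rw [sup_comm, pResidual_sup_sylow P, top_le_iff] at hPn
    exact Subgroup.normalizer_eq_top_iff.1 hPn

end Family

end Cfsg.Agent.H230
end

-- part: S2855
section
set_option autoImplicit false
open Cfsg

namespace Cfsg.Agent.S2855

open Cfsg.Agent.H230 Cfsg.Agent.Lib.Cores Cfsg.Agent.Transfer.Residual

section Quot

variable {H : Type*} [Group H] {p : ℕ}

/-- The family of images in `H / O_p(H)`. -/
theorem quot_inv {𝒦 : Set (Subgroup H)} {L : Type*} [Group L] {π : H →* L} (hπ : Function.Surjective π)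
    (hinv : ∀ h : H, ∀ E ∈ 𝒦, E.map (MulAut.conj h).toMonoidHom ∈ 𝒦) :
    ∀ h : L, ∀ E ∈ (fun E : Subgroup H => E.map π) '' 𝒦,
      E.map (MulAut.conj h).toMonoidHom ∈ (fun E : Subgroup H => E.map π) '' 𝒦 := by
  rintro h _ ⟨E, hE, rfl⟩
  obtain ⟨g, rfl⟩ := hπ h
  refine ⟨_, hinv g E hE, ?_⟩
  show (E.map (MulAut.conj g).toMonoidHom).map π = (E.map π).map (MulAut.conj (π g)).toMonoidHom
  rw [Subgroup.map_map, Subgroup.map_map]
  congr 1
  ext x
  simp

theorem quot_tr {𝒦 : Set (Subgroup H)} {L : Type*} [Group L] {π : H →* L}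
    (htr : ∀ E ∈ 𝒦, ∀ K ∈ 𝒦, ∃ h : H, K = E.map (MulAut.conj h).toMonoidHom) :
    ∀ E ∈ (fun E : Subgroup H => E.map π) '' 𝒦, ∀ K ∈ (fun E : Subgroup H => E.map π) '' 𝒦,
      ∃ h : L, K = E.map (MulAut.conj h).toMonoidHom := by
  rintro _ ⟨E, hE, rfl⟩ _ ⟨K, hK, rfl⟩
  obtain ⟨h, rfl⟩ := htr E hE K hK
  refine ⟨π h, ?_⟩
  show (E.map (MulAut.conj h).toMonoidHom).map π = (E.map π).map (MulAut.conj (π h)).toMonoidHom
  rw [Subgroup.map_map, Subgroup.map_map]
  congr 1
  ext x
  simp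

theorem quot_sSup {𝒦 : Set (Subgroup H)} {L : Type*} [Group L] {π : H →* L} :
    sSup ((fun E : Subgroup H => E.map π) '' 𝒦) = (sSup 𝒦).map π := by
  apply le_antisymm
  · apply sSup_le
    rintro _ ⟨E, hE, rfl⟩
    exact Subgroup.map_mono (le_sSup hE)
  · rw [Subgroup.map_le_iff_le_comap]
    apply sSup_le
    intro E hE
    rw [← Subgroup.map_le_iff_le_comap]
    exact le_sSup ⟨E, hE, rfl⟩

end Quot

/-- Let H be a finite group, p a prime, and 𝒦 a nonempty set of subgroups of H permuted transitively by conjugation, with R the subgroup generated by the members of 𝒦. Suppose O^p(H) ≤ R, each E ∈ 𝒦 has E·O_p(H) normal in R·O_p(H), and each E ∈ 𝒦 is p-minimal (generated by the conjugates of a Sylow p-subgroup T_E of E, with T_E in exactly one maximal subgroup of E). Then H is p-minimal in the same sense. If instead each E ∈ 𝒦 is strongly p-irreducible, then H is p-irreducible and, for E, K ∈ 𝒦, either O^p(E·O_p(H)) = O^p(K·O_p(H)) or [E, K] ≤ O_p(H). -/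
theorem result {H : Type*} [Group H] [Finite H] {p : ℕ} [Fact p.Prime] (𝒦 : Set (Subgroup H)) (hne : 𝒦.Nonempty) (hinv : ∀ h : H, ∀ E ∈ 𝒦, E.map (MulAut.conj h).toMonoidHom ∈ 𝒦) (htr : ∀ E ∈ 𝒦, ∀ K ∈ 𝒦, ∃ h : H, K = E.map (MulAut.conj h).toMonoidHom) (hres : Cfsg.pResidual p H ≤ sSup 𝒦) (hnorm : ∀ E ∈ 𝒦, sSup 𝒦 ⊔ Cfsg.pCore p H ≤ Subgroup.normalizer ((E ⊔ Cfsg.pCore p H : Subgroup H) : Set H)) : ((∀ E ∈ 𝒦, ∀ T : Sylow p ↥E, Cfsg.IsMinimalOver (T : Subgroup ↥E)) → ∀ T : Sylow p H, Cfsg.IsMinimalOver (T : Subgroup H)) ∧ ((∀ E ∈ 𝒦, Cfsg.IsStronglyPIrreducible p ↥E) → Cfsg.IsPIrreducible p H ∧ ∀ E ∈ 𝒦, ∀ K ∈ 𝒦, (Cfsg.pResidual p ↥(E ⊔ Cfsg.pCore p H)).map (E ⊔ Cfsg.pCore p H).subtype = (Cfsg.pResidual p ↥(K ⊔ Cfsg.pCore p H)).map (K ⊔ Cfsg.pCore p H).subtype ∨ ⁅E, K⁆ ≤ Cfsg.pCore p H) := by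
  have hQn : (pCore p H).Normal := pCore_normal p H
  let π : H →* H ⧸ pCore p H := QuotientGroup.mk' (pCore p H)
  have hπ : Function.Surjective π := QuotientGroup.mk'_surjective _
  have hker : π.ker = pCore p H := QuotientGroup.ker_mk' _
  have hkp : IsPGroup p π.ker := by rw [hker]; exact pCore_isPGroup p
  let 𝒦' : Set (Subgroup (H ⧸ pCore p H)) := (fun E : Subgroup H => E.map π) '' 𝒦
  have hne' : 𝒦'.Nonempty := hne.image _
  have hinv' := quot_inv hπ hinv
  have htr' := quot_tr (π := π) htr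
  have hsup : sSup 𝒦' = (sSup 𝒦).map π := quot_sSup
  have hres' : pResidual p (H ⧸ pCore p H) ≤ sSup 𝒦' := by
    rw [hsup, ← map_pResidual_of_surjective π hπ]
    exact Subgroup.map_mono hres
  have hEQ : ∀ E : Subgroup H, (E ⊔ pCore p H).map π = E.map π := by
    intro E
    rw [Subgroup.map_sup]
    have : (pCore p H).map π = ⊥ := by rw [Subgroup.map_eq_bot_iff, hker]
    rw [this, sup_bot_eq]
  have hnorm' : ∀ E ∈ 𝒦', sSup 𝒦' ≤ Subgroup.normalizer (E : Set (H ⧸ pCore p H)) := by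
    rintro _ ⟨E, hE, rfl⟩
    show sSup 𝒦' ≤ Subgroup.normalizer ((E.map π : Subgroup (H ⧸ pCore p H)) : Set (H ⧸ pCore p H))
    rw [hsup, ← hEQ E]
    refine le_trans (Subgroup.map_mono (le_sup_left.trans (hnorm E hE))) ?_
    exact Subgroup.le_normalizer_map _
  constructor
  · intro hmin
    rw [← pminimal_iff_of_surjective hπ hkp]
    apply minimal_of_family hne' hinv' htr' hres' hnorm'
    rintro _ ⟨E, hE, rfl⟩
    exact (pminimal_iff_of_surjective (π.subgroupMap_surjective E) (isPGroup_ker_subgroupMap hkp E)).2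
      (hmin E hE)
  · intro hirr
    have hcore' : pCore p (H ⧸ pCore p H) = ⊥ := pCore_quotient_pCore p
    have hirr' : ∀ E ∈ 𝒦', IsStronglyPIrreducible p ↥E := by
      rintro _ ⟨E, hE, rfl⟩
      exact isStronglyPIrreducible_map (π.subgroupMap_surjective E) (isPGroup_ker_subgroupMap hkp E) (hirr E hE)
    refine ⟨isPIrreducible_of_surjective hπ hkp
      (family_irreducible hne' hinv' htr' hres' hnorm' hcore' hirr'), ?_⟩
    intro E hE K hK
    have key : ∀ E K : Subgroup H, resOf p (E.map π) ≤ K.map π →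
        resOf p (E ⊔ pCore p H) ≤ resOf p (K ⊔ pCore p H) := by
      intro E K h
      apply resOf_le_resOf_of_le
      have h1 : (resOf p (E ⊔ pCore p H)).map π ≤ K.map π := by
        rw [← resOf_map, hEQ]
        exact h
      rw [Subgroup.map_le_iff_le_comap, Subgroup.comap_map_eq, hker] at h1
      exact h1
    rcases family_commute hinv' htr' hnorm' hcore' hirr' (E := E.map π) (K := K.map π) ⟨E, hE, rfl⟩
      ⟨K, hK, rfl⟩ with h | h
    · left
      apply le_antisymm
      · exact key E K (h.le.trans (resOf_le p _))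
      · exact key K E (h.ge.trans (resOf_le p _))
    · right
      rw [← Subgroup.map_commutator, Subgroup.map_eq_bot_iff, hker] at h
      exact h

end Cfsg.Agent.S2855
end
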