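import Cfsg.Agent.H231.WClos
import Cfsg.Statements.S2859
set_option linter.all false

-- part: H231/Fact
section
/-!
# A factorization of the weak closure
-/

set_option autoImplicit false
set_option linter.unusedSectionVars false

namespace Cfsg.Agent.H231

open Subgroup Cfsg H230 H227.Weak
open scoped commutatorElement

variable {G : Type*} [Group G] [Finite G] {p : ℕ} [Fact p.Prime]

theorem resOf_cj (p : ℕ) (g : G) (A : Subgroup G) : resOf p (cj g A) = cj g (resOf p A) :=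
  resOf_map_equiv p (MulAut.conj g) A

/-- the one-sided part -/
theorem fact_one {Q : Subgroup G} (hQ : IsPGroup p Q) (hwc : IsWeaklyClosedSubgroup p Q)
    {Hc : Subgroup G} (hHc : Hc = weakClosure Q ⊤) {H₁ H₂ : Subgroup G}
    (hn₁ : H₁ ≤ Hc ∧ Hc ≤ normalizer (H₁ : Set G)) (hn₂ : H₂ ≤ Hc ∧ Hc ≤ normalizer (H₂ : Set G))
    (hprod : H₁ ⊔ H₂ = Hc) (hcomm : ⁅H₁, H₂⁆ ≤ normalizer (Q : Set G)) {K₁ : Subgroup G}
    (hK₁ : K₁ = resOf p (weakClosure Q (H₁ ⊔ Q))) :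
    (⁅K₁, Q⁆ = K₁ ∧ ⁅K₁, H₁⁆ = K₁ ∧ K₁ ≤ ⁅H₁, H₁⁆ ∧ Hc ≤ normalizer (K₁ : Set G)) ∧
      ⁅K₁, H₂⁆ ≤ pCoreOf p Hc := by
  have hQc : Q ≤ Hc := by rw [hHc]; exact le_wClos hQ hwc le_top
  set D := ⁅H₁, H₂⁆ with hD
  have hD1 : D ≤ H₁ := commutator_le_of_le_normalizer (hn₂.1.trans hn₁.2)
  have hD2 : D ≤ H₂ := commutator_le_of_le_normalizer' (hn₁.1.trans hn₂.2)
  have hDc : Hc ≤ normalizer (D : Set G) := le_normalizer_commutator hn₁.2 hn₂.2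
  have hDle : D ≤ Hc := hD1.trans hn₁.1
  -- `P = O_p(D)`
  set P := pCoreOf p D with hP
  have hPD : P ≤ D := H227.Weak.pCoreOf_le p D
  have hPp : IsPGroup p P := isPGroup_pCoreOf D
  have hPc : Hc ≤ normalizer (P : Set G) :=
    hDc.trans (H227.Weak.normalizer_le_normalizer_pCoreOf p D)
  -- `[D, Q^h] ≤ P`
  have hDQ : ∀ h ∈ Hc, ⁅D, cj h Q⁆ ≤ P := by
    intro h hh
    have h1 : D ≤ normalizer ((cj h Q : Subgroup G) : Set G) := by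
      have := le_normalizer_cj (g := h) hcomm
      rwa [cj_eq_self_iff.2 (hDc hh)] at this
    have h2 : cj h Q ≤ normalizer (D : Set G) := by
      have := cj_mono h hQc
      rw [cj_eq_self_of_mem hh] at this
      exact this.trans hDc
    have h3 : ⁅D, cj h Q⁆ ≤ D ⊓ cj h Q :=
      le_inf (commutator_le_of_le_normalizer h2) (commutator_le_of_le_normalizer' h1)
    refine h3.trans (le_pCoreOf ?_ inf_le_left ?_)
    · exact (isPGroup_cj hQ h).to_le inf_le_right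
    · exact le_normalizer_inf le_normalizer h1
  have hDHc : ⁅D, Hc⁆ ≤ P := by
    have hH : Hc = ⨆ k : Hc, cj (k : G) Q := by
      have h1 := weakClosure_eq hQ hwc hQc
      have h2 : weakClosure Q Hc = Hc := by rw [hHc]; exact wClos_wClos hQ hwc le_top
      rw [h2] at h1
      exact h1
    have h3 : ⁅D, ⨆ k : Hc, cj (k : G) Q⁆ ≤ P := by
      refine commutator_iSup_le (fun k => ?_) fun k => hDQ k k.2
      have := cj_mono (k : G) hQc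
      rw [cj_eq_self_of_mem k.2] at this
      exact this.trans hPc
    rwa [← hH] at h3
  -- `L = L₁`
  have hQK : Q ≤ H₁ ⊔ Q := le_sup_right
  set L := weakClosure Q (H₁ ⊔ Q) with hL
  have hKL : K₁ ≤ L := by rw [hK₁]; exact resOf_le p L
  have hLle : L ≤ H₁ ⊔ Q := wClos_le hQ hwc hQK
  have hKH : K₁ ≤ H₁ := by
    rw [hK₁]
    exact resOf_le_of_sup_eq hQ (hQc.trans hn₁.2) hLle
  have hKQ : ⁅K₁, Q⁆ = K₁ := by rw [hK₁]; exact commutator_resOf_wClos hQ hwc hQK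
  have hNL : H₁ ⊔ Q ≤ normalizer (L : Set G) := le_normalizer_wClos hQ hwc hQK
  have hNK : H₁ ⊔ Q ≤ normalizer (K₁ : Set G) := by
    rw [hK₁]; exact hNL.trans (normalizer_le_normalizer_resOf p L)
  have hres : resOf p K₁ = K₁ := by rw [hK₁]; exact resOf_resOf L
  -- `C = [K₁, H₁]`
  set C := ⁅K₁, H₁⁆ with hC
  have hCK : C ≤ K₁ := commutator_le_of_le_normalizer (le_sup_left.trans hNK)
  have hCH1 : H₁ ≤ normalizer (C : Set G) :=
    le_normalizer_commutator (le_sup_left.trans hNK) le_normalizer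
  have hCQ : Q ≤ normalizer (C : Set G) :=
    le_normalizer_commutator (le_sup_right.trans hNK) (hQc.trans hn₁.2)
  have hCc : C ≤ Hc := hCK.trans (hKH.trans hn₁.1)
  have hCD : K₁ ≤ C ⊔ D := by
    have hX1 : H₁ ≤ normalizer ((C ⊔ D : Subgroup G) : Set G) :=
      le_normalizer_sup hCH1 (hn₁.1.trans hDc)
    have hX2 : H₂ ≤ normalizer ((C ⊔ D : Subgroup G) : Set G) := by
      apply le_normalizer_of_commutator_le
      refine sup_commutator_le (le_sup_left.trans le_normalizer)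
          (le_sup_right.trans le_normalizer) ?_ ?_
      · exact (commutator_mono (hCK.trans hKH) le_rfl).trans le_sup_right
      · exact (commutator_le_of_le_normalizer (hn₂.1.trans hDc)).trans le_sup_right
    have h1 : ⁅K₁, H₁ ⊔ H₂⁆ ≤ C ⊔ D := by
      refine commutator_sup_le hX1 hX2 le_sup_left ?_
      exact (commutator_mono hKH le_rfl).trans le_sup_right
    calc K₁ = ⁅K₁, Q⁆ := hKQ.symm
      _ ≤ ⁅K₁, H₁ ⊔ H₂⁆ := commutator_mono le_rfl (hQc.trans hprod.ge)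
      _ ≤ C ⊔ D := h1
  have hCP : K₁ ≤ C ⊔ P := by
    have hX1 : C ≤ normalizer ((C ⊔ P : Subgroup G) : Set G) := le_sup_left.trans le_normalizer
    have hX2 : D ≤ normalizer ((C ⊔ P : Subgroup G) : Set G) :=
      le_normalizer_sup (hD1.trans hCH1) (hDle.trans hPc)
    calc K₁ = ⁅K₁, Q⁆ := hKQ.symm
      _ ≤ ⁅C ⊔ D, Q⁆ := commutator_mono hCD le_rfl
      _ ≤ C ⊔ P := by
        refine sup_commutator_le hX1 hX2 ?_ ?_
        · exact (commutator_le_of_le_normalizer hCQ).trans le_sup_left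
        · exact ((commutator_mono le_rfl hQc).trans hDHc).trans le_sup_right
  have hPn : P ≤ normalizer (C : Set G) := hPD.trans (hD1.trans hCH1)
  have hKC : K₁ = C := by
    apply le_antisymm _ hCK
    rw [← hres]
    exact resOf_le_of_sup_eq hPp hPn hCP
  have hKder : K₁ ≤ ⁅H₁, H₁⁆ := by
    rw [hKC]; exact commutator_mono hKH le_rfl
  -- `[K₁, H₂] ≤ P`
  have hK2 : ⁅K₁, H₂⁆ ≤ P := by
    refine (commutator_mono hKder le_rfl).trans ?_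
    refine three_subgroups (hn₁.1.trans hPc) (hn₁.1.trans hPc) (hn₂.1.trans hPc) ?_ ?_
    · exact (commutator_mono le_rfl hn₁.1).trans hDHc
    · rw [commutator_comm H₂ H₁]
      exact (commutator_mono le_rfl hn₁.1).trans hDHc
  refine ⟨⟨hKQ, hKC.symm, hKder, ?_⟩, ?_⟩
  · -- `K₁` is normal in `Hc`
    rw [← hprod]
    refine sup_le (le_sup_left.trans hNK) ?_
    have hP1 : P ≤ normalizer (K₁ : Set G) := hPD.trans (hD1.trans (le_sup_left.trans hNK))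
    have key : ∀ h ∈ H₂, cj h K₁ ≤ K₁ := by
      intro h hh
      have h1 : cj h K₁ ≤ K₁ ⊔ P := by
        rintro _ ⟨k, hk, rfl⟩
        have h2 : ⁅h, k⁆ ∈ P := hK2 (by rw [commutator_comm]; exact commutator_mem_commutator hh hk)
        have h3 : (MulAut.conj h).toMonoidHom k = ⁅h, k⁆ * k := by
          simp [commutatorElement_def]
        rw [h3]
        exact mul_mem (mem_sup_right h2) (mem_sup_left hk)
      calc cj h K₁ = cj h (resOf p K₁) := by rw [hres]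
        _ = resOf p (cj h K₁) := (resOf_cj p h K₁).symm
        _ ≤ K₁ := resOf_le_of_sup_eq hPp hP1 h1
    intro h hh
    rw [← cj_eq_self_iff]
    apply le_antisymm (key h hh)
    rw [← cj_le_cj_iff (g := h⁻¹), cj_inv_cj]
    exact key h⁻¹ (inv_mem hh)
  · exact hK2.trans (le_pCoreOf hPp (hPD.trans hDle) hPc)

theorem fact_main {Q : Subgroup G} (hQ : IsPGroup p Q) (hwc : IsWeaklyClosedSubgroup p Q)
    {Hc : Subgroup G} (hHc : Hc = weakClosure Q ⊤) {H₁ H₂ : Subgroup G}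
    (hn₁ : H₁ ≤ Hc ∧ Hc ≤ normalizer (H₁ : Set G)) (hn₂ : H₂ ≤ Hc ∧ Hc ≤ normalizer (H₂ : Set G))
    (hprod : H₁ ⊔ H₂ = Hc) (hcomm : ⁅H₁, H₂⁆ ≤ normalizer (Q : Set G)) {K₁ K₂ : Subgroup G}
    (hK₁ : K₁ = resOf p (weakClosure Q (H₁ ⊔ Q))) (hK₂ : K₂ = resOf p (weakClosure Q (H₂ ⊔ Q))) :
    (⁅K₁, Q⁆ = K₁ ∧ ⁅K₁, H₁⁆ = K₁ ∧ K₁ ≤ ⁅H₁, H₁⁆ ∧ Hc ≤ normalizer (K₁ : Set G)) ∧
      (⁅K₂, Q⁆ = K₂ ∧ ⁅K₂, H₂⁆ = K₂ ∧ K₂ ≤ ⁅H₂, H₂⁆ ∧ Hc ≤ normalizer (K₂ : Set G)) ∧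
      K₁ ⊔ K₂ = resOf p Hc ∧ ⁅K₁, K₂⁆ ≤ pCoreOf p Hc := by
  have hQc : Q ≤ Hc := by rw [hHc]; exact le_wClos hQ hwc le_top
  obtain ⟨h1, h1'⟩ := fact_one hQ hwc hHc hn₁ hn₂ hprod hcomm hK₁
  obtain ⟨h2, h2'⟩ := fact_one hQ hwc hHc hn₂ hn₁ (by rw [sup_comm, hprod])
    (by rw [commutator_comm]; exact hcomm) hK₂
  have hKH2 : K₂ ≤ H₂ := h2.2.2.1.trans (commutator_le_of_le le_rfl le_rfl)
  have hLle1 : weakClosure Q (H₁ ⊔ Q) ≤ Hc :=
    (wClos_le hQ hwc le_sup_right).trans (sup_le hn₁.1 hQc)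
  have hLle2 : weakClosure Q (H₂ ⊔ Q) ≤ Hc :=
    (wClos_le hQ hwc le_sup_right).trans (sup_le hn₂.1 hQc)
  refine ⟨h1, h2, ?_, (commutator_mono le_rfl hKH2).trans h1'⟩
  apply le_antisymm
  · refine sup_le ?_ ?_
    · rw [hK₁]; exact resOf_mono hLle1
    · rw [hK₂]; exact resOf_mono hLle2
  · have hN : Hc ≤ normalizer ((K₁ ⊔ K₂ : Subgroup G) : Set G) :=
      le_normalizer_sup h1.2.2.2 h2.2.2.2
    have e1 : (K₁ ⊔ K₂) ⊔ Q = weakClosure Q (H₁ ⊔ Q) ⊔ K₂ := by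
      rw [← wClos_eq hQ hwc (K := H₁ ⊔ Q) le_sup_right, ← hK₁, sup_assoc, sup_comm K₂ Q, sup_assoc]
    have e2 : (K₁ ⊔ K₂) ⊔ Q = weakClosure Q (H₂ ⊔ Q) ⊔ K₁ := by
      rw [← wClos_eq hQ hwc (K := H₂ ⊔ Q) le_sup_right, ← hK₂, sup_comm K₁ K₂, sup_assoc,
        sup_comm K₁ Q, sup_assoc]
    have n1 : H₁ ≤ normalizer (((K₁ ⊔ K₂) ⊔ Q : Subgroup G) : Set G) := by
      rw [e1]
      exact le_normalizer_sup (le_sup_left.trans (le_normalizer_wClos hQ hwc le_sup_right))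
        (hn₁.1.trans h2.2.2.2)
    have n2 : H₂ ≤ normalizer (((K₁ ⊔ K₂) ⊔ Q : Subgroup G) : Set G) := by
      rw [e2]
      exact le_normalizer_sup (le_sup_left.trans (le_normalizer_wClos hQ hwc le_sup_right))
        (hn₂.1.trans h1.2.2.2)
    have h3 : Hc ≤ (K₁ ⊔ K₂) ⊔ Q := by
      have h4 : Hc ≤ normalizer (((K₁ ⊔ K₂) ⊔ Q : Subgroup G) : Set G) := by
        rw [← hprod]; exact sup_le n1 n2
      rw [hHc] at h4 ⊢
      exact wClos_le_of_normalizer' hQ hwc le_top le_sup_right h4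
    exact resOf_le_of_sup_eq hQ (hQc.trans hN) h3

end Cfsg.Agent.H231
end

-- part: S2859
section
set_option autoImplicit false
open Cfsg

namespace Cfsg.Agent.S2859

/-- Let Q be a nontrivial p-subgroup of the finite group H that is a weakly closed subgroup, H° the weak closure of Q in H (generated by the conjugates of Q) and H_∘ = O^p(H°). Suppose H₁, H₂ are normal subgroups of H° with H° = H₁H₂ and [H₁, H₂] ≤ N_H(Q), and put Kᵢ = O^p of the weak closure of Q in HᵢQ. Then for i = 1, 2: Kᵢ = [Kᵢ, Q] = [Kᵢ, Hᵢ] ≤ Hᵢ′ and Kᵢ is normal in H°; H_∘ = K₁K₂; and [K₁, K₂] ≤ O_p(H°). -/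
theorem result {G : Type*} [Group G] [Finite G] {p : ℕ} [Fact p.Prime] (Q : Subgroup G) (hQp : IsPGroup p ↥Q) (hQ1 : Q ≠ ⊥) (hwc : Cfsg.IsWeaklyClosedSubgroup p Q) (Hc : Subgroup G) (hHc : Hc = Cfsg.weakClosure Q ⊤) (H₁ H₂ : Subgroup G) (hn₁ : H₁ ≤ Hc ∧ Hc ≤ Subgroup.normalizer ((H₁ : Subgroup G) : Set G)) (hn₂ : H₂ ≤ Hc ∧ Hc ≤ Subgroup.normalizer ((H₂ : Subgroup G) : Set G)) (hprod : H₁ ⊔ H₂ = Hc) (hcomm : ⁅H₁, H₂⁆ ≤ Subgroup.normalizer ((Q : Subgroup G) : Set G)) (K₁ K₂ : Subgroup G) (hK₁ : K₁ = ((Cfsg.pResidual p ↥(Cfsg.weakClosure Q (H₁ ⊔ Q))).map ((Cfsg.weakClosure Q (H₁ ⊔ Q))).subtype)) (hK₂ : K₂ = ((Cfsg.pResidual p ↥(Cfsg.weakClosure Q (H₂ ⊔ Q))).map ((Cfsg.weakClosure Q (H₂ ⊔ Q))).subtype)) : (⁅K₁, Q⁆ = K₁ ∧ ⁅K₁, H₁⁆ = K₁ ∧ K₁ ≤ ⁅H₁, H₁⁆ ∧ Hc ≤ Subgroup.normalizer ((K₁ : Subgroup G) : Set G)) ∧ (⁅K₂, Q⁆ = K₂ ∧ ⁅K₂, H₂⁆ = K₂ ∧ K₂ ≤ ⁅H₂, H₂⁆ ∧ Hc ≤ Subgroup.normalizer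 ((K₂ : Subgroup G) : Set G)) ∧ K₁ ⊔ K₂ = ((Cfsg.pResidual p ↥Hc).map (Hc).subtype) ∧ ⁅K₁, K₂⁆ ≤ (Cfsg.pCoreOf p Hc) := by
  exact Cfsg.Agent.H231.fact_main hQp hwc hHc hn₁ hn₂ hprod hcomm hK₁ hK₂

end Cfsg.Agent.S2859
end
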