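import Cfsg.Agent.H231.QsSec
import Cfsg.Statements.S2860
set_option linter.all false

-- part: H231/QsMain
section
/-!
# A large subgroup acting on a module with a quasisimple section
-/

set_option autoImplicit false
set_option linter.unusedSectionVars false

namespace Cfsg.Agent.H231

open Subgroup Cfsg H230 H227.Weak
open scoped commutatorElement

variable {G : Type*} [Group G] [Finite G] {p : ℕ} [Fact p.Prime]

theorem isPGroup_of_elementary {A : Subgroup G} (hA : IsElementaryAbelian p A) : IsPGroup p A := by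
  intro x
  refine ⟨1, ?_⟩
  ext
  simpa using hA.2 x x.2

theorem qs_main {Q : Subgroup G} (hQp : IsPGroup p ↥Q) (hQ1 : Q ≠ ⊥) (hQ : IsLarge Q)
    {U : Subgroup G} (hU : IsElementaryAbelian p U) (hU1 : U ≠ ⊥) {E : Subgroup G} (hQE : Q ≤ E)
    (hEU : E ≤ normalizer (U : Set G)) (hQn : ¬ E ≤ normalizer (Q : Set G))
    [hn : ((centralizer (U : Set G)).subgroupOf E).Normal]
    (hred : pCore p (↥E ⧸ (centralizer (U : Set G)).subgroupOf E) = ⊥)
    (hqs : IsQuasisimple ↥(((pResidual p ↥E) ⊔ (centralizer (U : Set G)).subgroupOf E).map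
      (QuotientGroup.mk' ((centralizer (U : Set G)).subgroupOf E))))
    {Er : Subgroup G} (hEr : Er = resOf p (weakClosure Q E))
    [hn2 : ((centralizer (U : Set G)).subgroupOf Er).Normal] :
    resOf p E ⊔ (E ⊓ centralizer (U : Set G)) = Er ⊔ (E ⊓ centralizer (U : Set G)) ∧
      ⁅Er, Er⁆ = Er ∧ resOf p Er = Er ∧
      IsQuasisimple (↥Er ⧸ (centralizer (U : Set G)).subgroupOf Er) ∧
      IsQuasisimple (↥Er ⧸ pCore p ↥Er) ∧
      ∀ Y : Subgroup G, Y ≤ E → IsPGroup p ↥Y → ¬ Y ≤ centralizer (U : Set G) →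
        ⁅Er, Y⁆ = Er := by
  have hUp := isPGroup_of_elementary hU
  have hwc := large_wc hQp hQ1 hQ
  set N := (centralizer (U : Set G)).subgroupOf E with hN
  set C := E ⊓ centralizer (U : Set G) with hC
  have hNC : N.map E.subtype = C := by
    rw [hN, Subgroup.subgroupOf_map_subtype, inf_comm]
  have hCE : C ≤ E := inf_le_left
  -- the residual of the quotient
  have hFq : IsQuasisimple ↥(pResidual p (↥E ⧸ N)) := by
    have e : ((pResidual p ↥E) ⊔ N).map (QuotientGroup.mk' N) = pResidual p (↥E ⧸ N) := by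
      rw [Subgroup.map_sup,
        Transfer.Residual.map_pResidual_of_surjective _ (QuotientGroup.mk'_surjective N)]
      rw [sup_eq_left, Subgroup.map_le_iff_le_comap]
      intro x hx
      rw [Subgroup.mem_comap, (QuotientGroup.eq_one_iff (N := N) x).2 hx |> fun h => (show
        QuotientGroup.mk' N x = 1 from h)]
      exact one_mem _
    rwa [e] at hqs
  have hFim : im N (resOf p E) = pResidual p (↥E ⧸ N) := by
    rw [im_resOf le_rfl, ← resOf_top]
    congr 1
    unfold im
    rw [Subgroup.subgroupOf_self, ← MonoidHom.range_eq_map, MonoidHom.range_eq_top]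
    exact QuotientGroup.mk'_surjective N
  set K := Er with hK
  set Ec := weakClosure Q E with hEc
  have hQEc : Q ≤ Ec := le_wClos hQp hwc hQE
  have hEcE : Ec ≤ E := wClos_le hQp hwc hQE
  have hEEc : E ≤ normalizer (Ec : Set G) := le_normalizer_wClos hQp hwc hQE
  have hKEc : K ≤ Ec := by rw [hEr]; exact resOf_le p Ec
  have hKE : K ≤ E := hKEc.trans hEcE
  have hEK : E ≤ normalizer (K : Set G) := by
    rw [hEr]; exact hEEc.trans (normalizer_le_normalizer_resOf p Ec)
  have hresK : resOf p K = K := by rw [hEr]; exact resOf_resOf Ec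
  have hKQ : ⁅K, Q⁆ = K := by rw [hEr]; exact commutator_resOf_wClos hQp hwc hQE
  -- `P = O_p(C)`
  set P := pCoreOf p C with hP
  have hPC : P ≤ C := H227.Weak.pCoreOf_le p C
  have hPp : IsPGroup p P := isPGroup_pCoreOf C
  have hEC : E ≤ normalizer (C : Set G) :=
    le_normalizer_inf le_normalizer (hEU.trans (normalizer_le_normalizer_centralizer U))
  have hEP : E ≤ normalizer (P : Set G) :=
    hEC.trans (H227.Weak.normalizer_le_normalizer_pCoreOf p C)
  have hCEc : ⁅C, Ec⁆ ≤ P := large_commutator_le hQp hQ1 hQ hUp hU1 hQE hEU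
  -- `Q` acts nontrivially
  have hQC : ¬ Q ≤ centralizer (U : Set G) := fun h =>
    hQn (hEU.trans (large_normalizer_le hQ hU1 h))
  have hYim : ∀ Y : Subgroup G, Y ≤ E → ¬ Y ≤ centralizer (U : Set G) → im N Y ≠ ⊥ := by
    intro Y hYE hY h
    rw [im_eq_bot_iff hYE, hNC] at h
    exact hY (h.trans inf_le_right)
  have himK : im N K = pResidual p (↥E ⧸ N) := by
    rw [hEr, im_resOf hEcE]
    exact resOf_eq_residual hred hFq (im_isPGroup hQp) (hYim Q hQE hQC) (im_mono hQEc)
      (im_normal hEcE hEEc)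
  have hmod : ∀ B : Subgroup G, B ≤ K → im N B = im N K → K ≤ B ⊔ (C ⊓ K) := by
    intro B hB h
    have h1 : K ≤ B ⊔ C := by
      rw [← hNC, ← im_le_iff hKE (hB.trans hKE), h]
    intro x hx
    obtain ⟨b, hb, c, hc, rfl⟩ := exists_mul_of_mem_sup' ((hB.trans hKE).trans hEC) (h1 hx)
    refine mul_mem (mem_sup_left hb) (mem_sup_right ⟨hc, ?_⟩)
    have := mul_mem (inv_mem (hB hb)) hx
    simpa using this
  have hperf : ⁅K, K⁆ = K := by
    have hB : ⁅K, K⁆ ≤ K := commutator_le_of_le le_rfl le_rfl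
    apply le_antisymm hB
    have h1 : im N ⁅K, K⁆ = im N K := by
      rw [im_commutator hKE hKE, himK]
      exact commutator_self_of_isPerfect hFq.1
    have h2 := hmod _ hB h1
    have hEB : E ≤ normalizer ((⁅K, K⁆ : Subgroup G) : Set G) := le_normalizer_commutator hEK hEK
    have h3 : K ≤ ⁅K, K⁆ ⊔ P := by
      calc K = ⁅K, Q⁆ := hKQ.symm
        _ ≤ ⁅⁅K, K⁆ ⊔ (C ⊓ K), Q⁆ := commutator_mono h2 le_rfl
        _ ≤ ⁅K, K⁆ ⊔ P := by
          have hn' : E ≤ normalizer ((⁅K, K⁆ ⊔ P : Subgroup G) : Set G) :=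
            le_normalizer_sup hEB hEP
          refine sup_commutator_le ((hB.trans hKE).trans hn')
            (inf_le_right.trans (hKE.trans hn')) ?_ ?_
          · exact (commutator_le_of_le_normalizer (hQE.trans hEB)).trans le_sup_left
          · exact ((commutator_mono inf_le_left hQEc).trans hCEc).trans le_sup_right
    exact hresK.ge.trans (resOf_le_of_sup_eq hPp ((hPC.trans hCE).trans hEB) h3)
  have hY : ∀ Y : Subgroup G, Y ≤ E → IsPGroup p ↥Y → ¬ Y ≤ centralizer (U : Set G) →
      ⁅K, Y⁆ = K := by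
    intro Y hYE hYp hYU
    have hB : ⁅K, Y⁆ ≤ K := commutator_le_of_le_normalizer (hYE.trans hEK)
    apply le_antisymm hB
    have h1 : im N ⁅K, Y⁆ = im N K := by
      rw [im_commutator hKE hYE, himK]
      exact commutator_residual_eq hred hFq (im_isPGroup hYp) (hYim Y hYE hYU)
    have h2 := hmod _ hB h1
    have hKB : K ≤ normalizer ((⁅K, Y⁆ : Subgroup G) : Set G) := le_normalizer_commutator_left K Y
    have h3 : K ≤ ⁅K, Y⁆ ⊔ (P ⊓ K) := by
      calc K = ⁅K, K⁆ := hperf.symm
        _ ≤ ⁅⁅K, Y⁆ ⊔ (C ⊓ K), K⁆ := commutator_mono h2 le_rfl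
        _ ≤ ⁅K, Y⁆ ⊔ (P ⊓ K) := by
          have hn' : K ≤ normalizer ((⁅K, Y⁆ ⊔ (P ⊓ K) : Subgroup G) : Set G) :=
            le_normalizer_sup hKB (le_normalizer_inf (hKE.trans hEP) le_normalizer)
          refine sup_commutator_le (hB.trans hn') (inf_le_right.trans hn') ?_ ?_
          · exact (commutator_le_of_le_normalizer hKB).trans le_sup_left
          · refine le_trans (le_inf ?_ ?_) le_sup_right
            · exact (commutator_mono inf_le_left hKEc).trans hCEc
            · exact commutator_le_of_le inf_le_right le_rfl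
    have hPKp : IsPGroup p (P ⊓ K : Subgroup G) := hPp.to_le inf_le_left
    have hPKn : P ⊓ K ≤ normalizer ((⁅K, Y⁆ : Subgroup G) : Set G) := inf_le_right.trans hKB
    exact hresK.ge.trans (resOf_le_of_sup_eq hPKp hPKn h3)
  have hker : ((centralizer (U : Set G)).subgroupOf K).map K.subtype = C ⊓ K := by
    rw [Subgroup.subgroupOf_map_subtype, hC]
    ext x
    simp only [Subgroup.mem_inf]
    exact ⟨fun h => ⟨⟨hKE h.2, h.1⟩, h.2⟩, fun h => ⟨h.1.2, h.2⟩⟩
  -- `K / C_K(U)` is isomorphic to the residual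
  have hq1 : IsQuasisimple (↥K ⧸ (centralizer (U : Set G)).subgroupOf K) := by
    let f : ↥K →* ↥E ⧸ N := (QuotientGroup.mk' N).comp (Subgroup.inclusion hKE)
    have hf1 : f.ker = (centralizer (U : Set G)).subgroupOf K := by
      ext x
      rw [MonoidHom.mem_ker]
      show QuotientGroup.mk' N (Subgroup.inclusion hKE x) = 1 ↔ _
      rw [← MonoidHom.mem_ker, QuotientGroup.ker_mk']
      rfl
    have hf2 : f.range = pResidual p (↥E ⧸ N) := by
      rw [← himK]
      unfold im
      rw [MonoidHom.range_comp]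
      congr 1
      ext x
      constructor
      · rintro ⟨y, rfl⟩
        exact y.2
      · intro hx
        exact ⟨⟨x, hx⟩, rfl⟩
    rw [← CpQuot.Congr.isQuasisimple_iff (MulEquiv.subgroupCongr hf2)] at hFq
    rw [← CpQuot.Congr.isQuasisimple_iff (QuotientGroup.quotientKerEquivRange f)] at hFq
    rw [← CpQuot.Congr.isQuasisimple_iff (QuotientGroup.quotientMulEquivOfEq hf1)]
    exact hFq
  -- `K / O_p(K)`
  have hPK : pCoreOf p K ≤ C := by
    have h1 : im N (pCoreOf p K) = ⊥ := by
      rw [eq_bot_iff, ← hred]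
      refine Lib.Cores.le_pCore (im_normal ((H227.Weak.pCoreOf_le p K).trans hKE) ?_)
        (im_isPGroup (isPGroup_pCoreOf K))
      exact hEK.trans (H227.Weak.normalizer_le_normalizer_pCoreOf p K)
    rwa [im_eq_bot_iff ((H227.Weak.pCoreOf_le p K).trans hKE), hNC] at h1
  have hCK : ⁅C ⊓ K, K⁆ ≤ pCoreOf p K := by
    refine le_trans (le_inf ((commutator_mono inf_le_left hKEc).trans hCEc)
      (commutator_le_of_le inf_le_right le_rfl)) (le_pCoreOf (hPp.to_le inf_le_left) inf_le_right
        (le_normalizer_inf (hKE.trans hEP) le_normalizer))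
  have hq2 : IsQuasisimple (↥K ⧸ pCore p ↥K) := by
    set O := pCore p ↥K with hO
    set Z := (centralizer (U : Set G)).subgroupOf K with hZ
    have hOZ : O ≤ Z := by
      rw [← Subgroup.map_le_map_iff_of_injective (f := K.subtype) K.subtype_injective, hker]
      exact le_inf hPK (Subgroup.map_subtype_le _)
    have hperfK : Group.IsPerfect ↥K := isPerfect_of_commutator_self hperf
    have hperfQ : Group.IsPerfect (↥K ⧸ O) := by
      refine ⟨?_⟩
      have h1 := congrArg (Subgroup.map (QuotientGroup.mk' O)) hperfK.commutator_eq_top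
      rw [commutator_def, Subgroup.map_commutator, ← MonoidHom.range_eq_map,
        MonoidHom.range_eq_top.2 (QuotientGroup.mk'_surjective O)] at h1
      rw [commutator_def]; exact h1
    have hZn : (Z.map (QuotientGroup.mk' O)).Normal :=
      hn2.map _ (QuotientGroup.mk'_surjective O)
    refine SignalizersComponents.PCompQuot.quasisimple_of_central_quotient hperfQ
      (N := Z.map (QuotientGroup.mk' O)) ?_ ?_
    · rintro _ ⟨z, hz, rfl⟩
      rw [Subgroup.mem_center_iff]
      intro y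
      obtain ⟨k, rfl⟩ := QuotientGroup.mk'_surjective O y
      have h1 : ⁅(z : G), (k : G)⁆ ∈ pCoreOf p K := hCK (commutator_mem_commutator
        (by rw [← hker]; exact ⟨z, hz, rfl⟩) k.2)
      have h2 : ⁅z, k⁆ ∈ O := by
        obtain ⟨w, hw, hwe⟩ := h1
        have : w = ⁅z, k⁆ := Subtype.ext hwe
        rw [← this]; exact hw
      have h3 : ⁅QuotientGroup.mk' O z, QuotientGroup.mk' O k⁆ = 1 := by
        rw [← map_commutatorElement]
        exact (QuotientGroup.eq_one_iff _).2 h2
      exact (commutatorElement_eq_one_iff_mul_comm.1 h3).symm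
    · have e := QuotientGroup.quotientQuotientEquivQuotient O Z hOZ
      rw [CpQuot.Congr.isQuasisimple_iff e]
      exact hq1
  refine ⟨?_, hperf, hresK, hq1, hq2, hY⟩
  apply le_antisymm
  · refine sup_le ?_ le_sup_right
    have := (im_le_iff (N := N) (resOf_le p E) hKE).1 (by rw [hFim, himK])
    rwa [hNC] at this
  · refine sup_le ?_ le_sup_right
    have := (im_le_iff (N := N) hKE (resOf_le p E)).1 (by rw [hFim, himK])
    rwa [hNC] at this

end Cfsg.Agent.H231
end

-- part: S2860
section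
set_option autoImplicit false
open Cfsg

namespace Cfsg.Agent.S2860

/-- Let Q be a nontrivial large p-subgroup of the finite group H, U a nontrivial elementary abelian p-subgroup of H, and Q ≤ E ≤ N_H(U) with Q not normal in E. Suppose O_p(E/C_E(U)) = 1 and O^p(E)·C_E(U)/C_E(U) is quasisimple. Let E° be the weak closure of Q in E (generated by the conjugates of Q inside E) and E_∘ = O^p(E°). Then O^p(E)·C_E(U) = E_∘·C_E(U); E_∘ is perfect and equals O^p(E_∘); E_∘/C_{E_∘}(U) and E_∘/O_p(E_∘) are quasisimple; and E_∘ = [E_∘, Y] for every p-subgroup Y of E not centralizing U. -/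
theorem result {G : Type*} [Group G] [Finite G] {p : ℕ} [Fact p.Prime] (Q : Subgroup G) (hQp : IsPGroup p ↥Q) (hQ1 : Q ≠ ⊥) (hQ : Cfsg.IsLarge Q) (U : Subgroup G) (hU : Cfsg.IsElementaryAbelian p U) (hU1 : U ≠ ⊥) (E : Subgroup G) (hQE : Q ≤ E) (hEU : E ≤ Subgroup.normalizer ((U : Subgroup G) : Set G)) (hQn : ¬ E ≤ Subgroup.normalizer ((Q : Subgroup G) : Set G)) [hn : ((Subgroup.centralizer ((U : Subgroup G) : Set G)).subgroupOf E).Normal] (hred : Cfsg.pCore p (↥E ⧸ (Subgroup.centralizer ((U : Subgroup G) : Set G)).subgroupOf E) = ⊥) (hqs : Cfsg.IsQuasisimple ↥(((Cfsg.pResidual p ↥E) ⊔ (Subgroup.centralizer ((U : Subgroup G) : Set G)).subgroupOf E).map (QuotientGroup.mk' ((Subgroup.centralizer ((U : Subgroup G) : Set G)).subgroupOf E)))) (Er : Subgroup G) (hEr : Er = ((Cfsg.pResidual p ↥(Cfsg.weakClosure Q E)).map ((Cfsg.weakClosure Q E)).subtype)) [hn2 : ((Subgroup.centralizer ((U : Subgroup G) : Set G)).subgroupOf Er).Normal] : ((Cfsg.pResidual p ↥E).map (E).subtype) ⊔ (E ⊓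 Subgroup.centralizer ((U : Subgroup G) : Set G)) = Er ⊔ (E ⊓ Subgroup.centralizer ((U : Subgroup G) : Set G)) ∧ ⁅Er, Er⁆ = Er ∧ ((Cfsg.pResidual p ↥Er).map (Er).subtype) = Er ∧ Cfsg.IsQuasisimple (↥Er ⧸ (Subgroup.centralizer ((U : Subgroup G) : Set G)).subgroupOf Er) ∧ Cfsg.IsQuasisimple (↥Er ⧸ Cfsg.pCore p ↥Er) ∧ ∀ Y : Subgroup G, Y ≤ E → IsPGroup p ↥Y → ¬ Y ≤ Subgroup.centralizer ((U : Subgroup G) : Set G) → ⁅Er, Y⁆ = Er := by
  exact Cfsg.Agent.H231.qs_main hQp hQ1 hQ hU hU1 hQE hEU hQn hred hqs hEr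

end Cfsg.Agent.S2860
end
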