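import Cfsg.Agent.H231.Rel
import Cfsg.Agent.LieClassical.SLTwoUnipotent
import Cfsg.Agent.ClassicalGeometry.DiagNormal
import Cfsg.Agent.H438.SzMax
import Mathlib.GroupTheory.SpecificGroups.Dihedral
import Cfsg.Statements.S2861
import Cfsg.Agent.H229.PRed
set_option linter.all false

-- part: H231/BorelUniq
section
/-!
# The unique elementary abelian normal `p`-subgroup of a Borel subgroup

For `X = SL₂(q)`, `Sz(q)` (`q` a power of `p`) and a subgroup `Y` of `X`, elementary abelian of order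
`q`: `Y` is the only nontrivial elementary abelian normal `p`-subgroup of `N_X(Y)`.
-/

set_option autoImplicit false
set_option linter.unusedSectionVars false

namespace Cfsg.Agent.H231

open Subgroup Cfsg H227.Weak
open scoped commutatorElement

/-- every elementary abelian `p`-subgroup `Y` of order `n` of `X` is the unique nontrivial elementary
abelian normal `p`-subgroup of its normalizer. -/
def BorelUniq (p : ℕ) (X : Type*) [Group X] (n : ℕ) : Prop :=
  ∀ Y V : Subgroup X, IsElementaryAbelian p Y → Nat.card Y = n → IsElementaryAbelian p V → V ≠ ⊥ →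
    V ≤ normalizer (Y : Set X) → normalizer (Y : Set X) ≤ normalizer (V : Set X) → V = Y

theorem ea_of_map' {X X' : Type*} [Group X] [Group X'] {p : ℕ} {A : Subgroup X}
    (h : IsElementaryAbelian p A) (f : X →* X') : IsElementaryAbelian p (A.map f) := by
  obtain ⟨h1, h2⟩ := h
  refine ⟨⟨⟨?_⟩⟩, ?_⟩
  · rintro ⟨_, a, ha, rfl⟩ ⟨_, b, hb, rfl⟩
    apply Subtype.ext
    have := congrArg Subtype.val (h1.is_comm.comm (⟨a, ha⟩ : ↥A) ⟨b, hb⟩)
    have h3 : a * b = b * a := this
    show f a * f b = f b * f a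
    rw [← map_mul, h3, map_mul]
  · rintro _ ⟨a, ha, rfl⟩
    rw [← map_pow, h2 a ha, map_one]

theorem normalizer_map_equiv' {X X' : Type*} [Group X] [Group X'] (e : X ≃* X') (A : Subgroup X) :
    normalizer ((A.map e.toMonoidHom : Subgroup X') : Set X') =
      (normalizer (A : Set X)).map e.toMonoidHom :=
  (Subgroup.map_equiv_normalizer_eq A e).symm

theorem BorelUniq.congr {p n : ℕ} {X X' : Type*} [Group X] [Group X'] (e : X ≃* X')
    (h : BorelUniq p X' n) : BorelUniq p X n := by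
  intro Y V hY hYc hV hV1 hVY hYV
  have hinj : Function.Injective e.toMonoidHom := e.injective
  apply Subgroup.map_injective hinj
  refine h _ _ (ea_of_map' hY _) ?_ (ea_of_map' hV _) ?_ ?_ ?_
  · rw [← hYc]
    exact Subgroup.card_map_of_injective hinj
  · intro h1
    exact hV1 ((Subgroup.map_eq_bot_iff_of_injective _ hinj).1 h1)
  · rw [normalizer_map_equiv']
    exact Subgroup.map_mono hVY
  · rw [normalizer_map_equiv', normalizer_map_equiv']
    exact Subgroup.map_mono hYV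

theorem ea_isPGroup' {G : Type*} [Group G] {p : ℕ} {A : Subgroup G} (h : IsElementaryAbelian p A) :
    IsPGroup p ↥A := by
  intro a
  refine ⟨1, Subtype.ext ?_⟩
  simpa using h.2 a a.2

section SL2

open LieClassical.SLTwoUnipotent Matrix

variable {F : Type*} [Field F]

/-- the diagonal matrix -/
def dg (t : Fˣ) : SpecialLinearGroup (Fin 2) F :=
  ⟨!![(t : F), 0; 0, (t⁻¹ : Fˣ)], by simp [Matrix.det_fin_two]⟩

theorem coe_dg (t : Fˣ) : ((dg t : SpecialLinearGroup (Fin 2) F) : Matrix (Fin 2) (Fin 2) F) =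
    !![(t : F), 0; 0, (t⁻¹ : Fˣ)] := rfl

theorem dg_mul_u (t : Fˣ) (x : F) : dg t * u x = u ((t : F) ^ 2 * x) * dg t := by
  apply ext_coe
  rw [LieClassical.SLTwoUnipotent.coe_mul, LieClassical.SLTwoUnipotent.coe_mul, coe_u, coe_u,
    coe_dg]
  ext i j
  fin_cases i <;> fin_cases j <;> simp [Matrix.mul_apply, Fin.sum_univ_two]
  field_simp

theorem dg_conj (t : Fˣ) (x : F) : dg t * u x * (dg t)⁻¹ = u ((t : F) ^ 2 * x) := by
  rw [dg_mul_u, mul_assoc, mul_inv_cancel, mul_one]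

theorem dg_mem (t : Fˣ) :
    dg t ∈ normalizer (upperUnipSL F : Set (SpecialLinearGroup (Fin 2) F)) := by
  rw [mem_normalizer_upperUnipSL_iff, coe_dg]
  simp

theorem borelUniq_SL2 [Finite F] {p : ℕ} [Fact p.Prime] [CharP F p] :
    BorelUniq p (SpecialLinearGroup (Fin 2) F) (Nat.card F) := by
  have hfin : Finite (SpecialLinearGroup (Fin 2) F) := inferInstance
  have := Fintype.ofFinite F
  intro Y V hY hYc hV hV1 hVY hYV
  -- a Sylow subgroup containing `Y`
  obtain ⟨P, hP⟩ := (ea_isPGroup' hY).exists_le_sylow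
  obtain ⟨a, ha⟩ := exists_smul_upperUnipSylowSL_eq (F := F) p P
  have hPa : cj a (upperUnipSL F) = (P : Subgroup (SpecialLinearGroup (Fin 2) F)) := by
    rw [← ha]
    rfl
  have hPc : Nat.card (P : Subgroup (SpecialLinearGroup (Fin 2) F)) = Nat.card F := by
    rw [← hPa, cj, Subgroup.card_map_of_injective (MulAut.conj a).injective]
    exact card_upperUnipSL
  have hYP : Y = P := Subgroup.eq_of_le_of_card_ge hP (by rw [hPc, hYc])
  -- reduce to `Y = U`
  have hY' : cj a⁻¹ Y = upperUnipSL F := by rw [hYP, ← hPa, cj_inv_cj]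
  rw [← cj_inj (g := a⁻¹), hY']
  set V' := cj a⁻¹ V with hV'
  have h1 : V' ≤ normalizer (upperUnipSL F : Set (SpecialLinearGroup (Fin 2) F)) := by
    rw [← hY', ← cj_normalizer]; exact cj_mono _ hVY
  have h2 : normalizer (upperUnipSL F : Set (SpecialLinearGroup (Fin 2) F)) ≤
      normalizer (V' : Set (SpecialLinearGroup (Fin 2) F)) := by
    rw [← hY', ← cj_normalizer, ← cj_normalizer]; exact cj_mono _ hYV
  have hV'p : IsPGroup p V' := isPGroup_cj (ea_isPGroup' hV) _
  have hV'1 : V' ≠ ⊥ := by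
    intro h
    apply hV1
    rw [← cj_cj_inv a V, ← hV', h]
    exact Subgroup.map_bot _
  have hV'U : V' ≤ upperUnipSL F := by
    have h3 : IsPGroup p (upperUnipSL F) := by
      have := (upperUnipSylowSL F p).2
      rwa [coe_upperUnipSylowSL] at this
    have h4 : IsPGroup p (upperUnipSL F ⊔ V' : Subgroup _) :=
      isPGroup_sup_of_le_normalizer h3 hV'p h1
    have h5 := (upperUnipSylowSL F p).3 h4 (by rw [coe_upperUnipSylowSL]; exact le_sup_left)
    rw [coe_upperUnipSylowSL] at h5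
    exact le_sup_right.trans h5.le
  apply le_antisymm hV'U
  obtain ⟨⟨v, hv⟩, hv0⟩ := Subgroup.ne_bot_iff_exists_ne_one.1 hV'1
  have hv1 : v ≠ 1 := fun h => hv0 (Subtype.ext h)
  obtain ⟨b, rfl⟩ := mem_upperUnipSL_iff_exists.1 (hV'U hv)
  have hb : b ≠ 0 := fun h => hv1 (by rw [h, u_zero])
  have hsq : ∀ t : F, u (t ^ 2 * b) ∈ V' := by
    intro t
    by_cases ht : t = 0
    · subst ht
      have : u ((0 : F) ^ 2 * b) = 1 := by rw [zero_pow two_ne_zero, zero_mul, u_zero]
      rw [this]; exact one_mem _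
    · have h3 := (mem_normalizer_iff.1 (h2 (dg_mem (Units.mk0 t ht))) (u b)).1 hv
      rw [dg_conj] at h3
      exact h3
  intro g hg
  obtain ⟨x, rfl⟩ := mem_upperUnipSL_iff_exists.1 hg
  obtain ⟨s, t, hst⟩ : ∃ s t : F, s ^ 2 + t ^ 2 = x / b := by
    by_cases h20 : (2 : F) = 0
    · have hchar : ringChar F = 2 := by
        have h3 : CharP F 2 := by
          refine CharTwo.of_one_ne_zero_of_two_eq_zero one_ne_zero h20
        exact ringChar.eq F 2 |>.symm ▸ rfl
      obtain ⟨s, hs⟩ := FiniteField.isSquare_of_char_two hchar (x / b)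
      exact ⟨s, 0, by rw [hs]; ring⟩
    · obtain ⟨s, t, h3⟩ := ClassicalGeometry.DiagNormal.exists_mul_sq_add_mul_sq_eq h20
        (one_ne_zero) (one_ne_zero) (x / b)
      exact ⟨s, t, by simpa using h3⟩
  have hx : x = s ^ 2 * b + t ^ 2 * b := by
    rw [← add_mul, hst, div_mul_cancel₀ _ hb]
  rw [hx, u_add]
  exact mul_mem (hsq s) (hsq t)

end SL2

section Sz

open LieRecognition.SzMatrix

variable {F : Type*} [Field F] {θ : F →+* F} {e : ℕ}

theorem good_sq_eq_one (H : Good F θ e) {g : ↥(Cfsg.Lie.Sz F e)} (hg : g ∈ H.borel)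
    (h : g ^ 2 = 1) : ∃ b, g = H.u 0 b := by
  obtain ⟨a, b, k, rfl⟩ := (H.mem_borel_iff' g).1 hg
  have h1 : H.u a b * H.d k * (H.u a b * H.d k) =
      H.u (a + a * k ^ 2 * (θ k)⁻¹) (b + b * θ k + a * θ (a * k ^ 2 * (θ k)⁻¹)) * H.d (k * k) := by
    calc H.u a b * H.d k * (H.u a b * H.d k) = H.u a b * (H.d k * H.u a b) * H.d k := by group
      _ = H.u a b * H.u (a * k ^ 2 * (θ k)⁻¹) (b * θ k) * (H.d k * H.d k) := by
        rw [H.d_mul_u]; group
      _ = _ := by rw [H.u_mul, H.d_mul]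
  rw [sq, h1] at h
  have h2 : H.u (a + a * k ^ 2 * (θ k)⁻¹) (b + b * θ k + a * θ (a * k ^ 2 * (θ k)⁻¹)) *
      H.d (k * k) = H.u 0 0 * H.d 1 := by rw [h, H.u_zero, H.d_one, one_mul]
  obtain ⟨h3, h4, h5⟩ := H.u_mul_d_inj h2
  have hk : k = 1 := by
    apply Units.ext
    have h6 : (k : F) * k = 1 := by
      have := congrArg Units.val h5
      simpa using this
    have h7 : ((k : F) - 1) ^ 2 = 0 := by
      have h2 := H.two
      linear_combination h6 - ((k : F) - 1) * h2
    have h8 := pow_eq_zero_iff (two_ne_zero) |>.1 h7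
    simpa using sub_eq_zero.1 h8
  subst hk
  have h6 : a * θ a = 0 := by
    have h9 : b + b = 0 := H.add_self b
    simpa [h9] using h4
  have ha : a = 0 := by
    rcases mul_eq_zero.1 h6 with h7 | h7
    · exact h7
    · exact (map_eq_zero θ).1 h7
  subst ha
  exact ⟨b, by rw [H.d_one, mul_one]⟩

theorem borelUniq_Sz {F : Type*} [Field F] [Fintype F] {m : ℕ}
    (hF : Fintype.card F = 2 ^ (2 * m + 1)) :
    BorelUniq 2 ↥(Cfsg.Lie.Sz F (2 ^ (m + 1))) (Fintype.card F) := by
  have hfin : Finite ↥(Cfsg.Lie.Sz F (2 ^ (m + 1))) := inferInstance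
  have h2p : Fact (Nat.Prime 2) := ⟨Nat.prime_two⟩
  set H := good hF with hH
  have hcu : Nat.card H.unip = (2 ^ (2 * m + 1)) ^ 2 := by
    rw [H.card_unip, Nat.card_eq_fintype_card, hF]
  have hpg : IsPGroup 2 H.unip := by
    apply IsPGroup.of_card (n := (2 * m + 1) * 2)
    rw [hcu, ← pow_mul]
  have hidxS : ¬ 2 ∣ H.unip.index := by
    have h1 := Subgroup.card_mul_index H.unip
    rw [H438.SzMax.card_sz hF, hcu, mul_assoc] at h1
    have h2 := Nat.eq_of_mul_eq_mul_left (by positivity) h1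
    rw [h2]
    intro h
    have h0 : 2 ∣ 2 ^ (2 * m + 1) := dvd_pow_self 2 (by omega)
    have h1' : 1 ≤ 2 ^ (2 * m + 1) := Nat.one_le_two_pow
    rcases (Nat.Prime.dvd_mul Nat.prime_two).mp h with h | h
    · omega
    · have h2 : 2 ∣ (2 ^ (2 * m + 1)) ^ 2 := dvd_pow h0 (by omega)
      omega
  set T : Sylow 2 ↥(Cfsg.Lie.Sz F (2 ^ (m + 1))) := hpg.toSylow hidxS with hT
  have hTU : (T : Subgroup _) = H.unip := rfl
  intro Y V hY hYc hV hV1 hVY hYV
  obtain ⟨a, ha⟩ := exists_cj_le_sylow T (ea_isPGroup' hY)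
  rw [hTU] at ha
  rw [← cj_inj (g := a)]
  set Y' := cj a Y with hY'
  set V' := cj a V with hV'
  have hY'e : IsElementaryAbelian 2 Y' := ea_of_map' hY _
  have hV'e : IsElementaryAbelian 2 V' := ea_of_map' hV _
  have h1 : V' ≤ normalizer (Y' : Set ↥(Cfsg.Lie.Sz F (2 ^ (m + 1)))) := by
    rw [← cj_normalizer]; exact cj_mono _ hVY
  have h2 : normalizer (Y' : Set ↥(Cfsg.Lie.Sz F (2 ^ (m + 1)))) ≤ normalizer (V' : Set ↥(Cfsg.Lie.Sz F (2 ^ (m + 1)))) := by
    rw [← cj_normalizer, ← cj_normalizer]; exact cj_mono _ hYV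
  have hV'1 : V' ≠ ⊥ := by
    intro h
    apply hV1
    rw [← cj_inv_cj a V, ← hV', h]
    exact Subgroup.map_bot _
  -- `Y'` is `{u 0 b}`
  let z : Multiplicative F →* ↥(Cfsg.Lie.Sz F (2 ^ (m + 1))) :=
    { toFun := fun b => H.u 0 b.toAdd
      map_one' := H.u_zero
      map_mul' := by
        intro b c
        rw [H.u_mul]
        simp }
  have hz : ∀ g : ↥(Cfsg.Lie.Sz F (2 ^ (m + 1))), g ∈ z.range ↔ ∃ b, g = H.u 0 b := by
    intro g
    constructor
    · rintro ⟨b, rfl⟩; exact ⟨b.toAdd, rfl⟩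
    · rintro ⟨b, rfl⟩; exact ⟨Multiplicative.ofAdd b, rfl⟩
  have hzinj : Function.Injective z := by
    intro b c hbc
    exact (H.u_inj hbc).2
  have hzc : Nat.card z.range = Fintype.card F := by
    rw [← Nat.card_congr (MonoidHom.ofInjective hzinj).toEquiv, Nat.card_eq_fintype_card]
    exact Fintype.card_congr Multiplicative.toAdd
  have hY'c : Nat.card Y' = Fintype.card F := by
    rw [← hYc]
    exact Subgroup.card_map_of_injective (MulAut.conj a).injective
  have hY'z : Y' = z.range := by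
    refine Subgroup.eq_of_le_of_card_ge ?_ (by rw [hzc, hY'c])
    intro y hy
    rw [hz]
    exact good_sq_eq_one H (H.unip_le_borel (ha hy)) (hY'e.2 y hy)
  have hdz : ∀ (k : Fˣ) (b : F), H.d k * H.u 0 b * (H.d k)⁻¹ = H.u 0 (b * theta hF k) := by
    intro k b
    rw [H.d_mul_u, mul_assoc, mul_inv_cancel, mul_one]
    simp
  -- `N(Y') = B`
  have hBN : H.borel ≤ normalizer (Y' : Set ↥(Cfsg.Lie.Sz F (2 ^ (m + 1)))) := by
    have key : ∀ g ∈ H.borel, cj g Y' ≤ Y' := by
      intro g hg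
      rintro _ ⟨y, hy, rfl⟩
      rw [hY'z, hz]
      refine good_sq_eq_one H ?_ ?_
      · exact mul_mem (mul_mem hg (H.unip_le_borel (ha hy))) (inv_mem hg)
      · rw [← map_pow, hY'e.2 y hy, map_one]
    intro g hg
    rw [← cj_eq_self_iff]
    apply le_antisymm (key g hg)
    rw [← cj_le_cj_iff (g := g⁻¹), cj_inv_cj]
    exact key g⁻¹ (inv_mem hg)
  have hNB : normalizer (Y' : Set ↥(Cfsg.Lie.Sz F (2 ^ (m + 1)))) = H.borel := by
    have hco := H438.SzMax.isCoatom_borel hF
    rcases eq_or_lt_of_le hBN with h | h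
    · exact h.symm
    · exfalso
      have htop := hco.2 _ h
      have hw : H.w ∈ normalizer (Y' : Set ↥(Cfsg.Lie.Sz F (2 ^ (m + 1)))) := by rw [htop]; trivial
      have h3 : H.u 0 1 ∈ Y' := by rw [hY'z, hz]; exact ⟨1, rfl⟩
      have h4 : (H.w)⁻¹ * H.u 0 1 * H.w ∈ Y' := by
        have := (mem_normalizer_iff.1 (inv_mem hw) (H.u 0 1)).1 h3
        simpa using this
      have h5 := H.inter_trivial _ (ha h3) (H.unip_le_borel (ha h4))
      have h6 : H.u 0 1 = H.u 0 0 := by rw [h5, H.u_zero]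
      exact one_ne_zero (H.u_inj h6).2
  have hV'z : V' ≤ z.range := by
    intro v hv
    rw [hz]
    exact good_sq_eq_one H (hNB ▸ h1 hv) (hV'e.2 v hv)
  rw [hY'z]
  apply le_antisymm hV'z
  obtain ⟨⟨v, hv⟩, hv0⟩ := Subgroup.ne_bot_iff_exists_ne_one.1 hV'1
  have hv1 : v ≠ 1 := fun h => hv0 (Subtype.ext h)
  obtain ⟨b, rfl⟩ := (hz v).1 (hV'z hv)
  have hb : b ≠ 0 := fun h => hv1 (by rw [h, H.u_zero])
  have hsurj : Function.Surjective (theta hF) :=
    Finite.injective_iff_surjective.1 (theta hF).injective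
  rintro g hg
  obtain ⟨c, rfl⟩ := (hz g).1 hg
  by_cases hc : c = 0
  · rw [hc, H.u_zero]; exact one_mem _
  · obtain ⟨k, hk⟩ := hsurj (c / b)
    have hk0 : k ≠ 0 := by
      rintro rfl
      rw [map_zero] at hk
      exact div_ne_zero hc hb hk.symm
    have h3 : H.d (Units.mk0 k hk0) ∈ normalizer ((V' : Subgroup _) : Set ↥(Cfsg.Lie.Sz F (2 ^ (m + 1)))) :=
      h2 (hBN (H.d_mem_borel _))
    have h4 := (mem_normalizer_iff.1 h3 (H.u 0 b)).1 hv
    rw [hdz, Units.val_mk0, hk, mul_div_cancel₀ _ hb] at h4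
    exact h4

end Sz

end Cfsg.Agent.H231
end

-- part: H231/FrakL
section
/-!
# The normalizer of `Y` in `L ∈ 𝔏_G(Y)`
-/

set_option autoImplicit false
set_option linter.unusedSectionVars false

namespace Cfsg.Agent.H231

open Subgroup Cfsg H227.Weak H230
open scoped commutatorElement

/-- groups of order `2 r` -/
theorem dihedral_uniq {X : Type*} [Group X] [Finite X] {r : ℕ} (hr : r.Prime) (hr2 : r ≠ 2)
    (hX : Nat.card X = 2 * r) {Y V : Subgroup X} (hY : IsPGroup 2 Y) (hY1 : Y ≠ ⊥)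
    (hYn : ¬ Y.Normal) (hV1 : V ≠ ⊥) (hVY : V ≤ normalizer (Y : Set X)) : V = Y := by
  have h2 : Fact (Nat.Prime 2) := ⟨Nat.prime_two⟩
  -- `|Y| = 2`
  have hYc : Nat.card Y = 2 := by
    obtain ⟨k, hk⟩ := IsPGroup.iff_card.1 hY
    have h1 : Nat.card Y ∣ 2 * r := hX ▸ Subgroup.card_subgroup_dvd_card Y
    have hk0 : k ≠ 0 := by
      rintro rfl
      rw [pow_zero, Subgroup.card_eq_one] at hk
      exact hY1 hk
    have hk1 : k < 2 := by
      by_contra h
      have h3 : 2 ^ 2 ∣ 2 * r := (pow_dvd_pow 2 (by omega)).trans (hk ▸ h1)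
      have h4 : 2 ∣ r := by
        have : 2 * 2 ∣ 2 * r := by simpa [sq] using h3
        exact Nat.dvd_of_mul_dvd_mul_left (by norm_num) this
      exact hr2 ((Nat.prime_dvd_prime_iff_eq Nat.prime_two hr).1 h4).symm
    have : k = 1 := by omega
    rw [hk, this, pow_one]
  have hNY : normalizer (Y : Set X) = Y := by
    obtain ⟨a, ha⟩ : 2 ∣ Nat.card ↥(normalizer (Y : Set X)) := by
      rw [← hYc]; exact Subgroup.card_dvd_of_le le_normalizer
    have h1 : Nat.card ↥(normalizer (Y : Set X)) ∣ 2 * r :=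
      hX ▸ Subgroup.card_subgroup_dvd_card _
    rw [ha] at h1
    have h3 : a ∣ r := Nat.dvd_of_mul_dvd_mul_left (by norm_num) h1
    rcases (Nat.dvd_prime hr).1 h3 with h4 | h4
    · symm
      apply Subgroup.eq_of_le_of_card_ge le_normalizer
      rw [ha, hYc, h4]
    · exfalso
      have h5 : normalizer (Y : Set X) = ⊤ := by
        apply Subgroup.eq_top_of_card_eq
        rw [ha, h4, hX]
      exact hYn (Subgroup.normalizer_eq_top_iff.1 h5)
  rw [hNY] at hVY
  apply Subgroup.eq_of_le_of_card_ge hVY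
  rw [hYc]
  by_contra h
  have h6 : 0 < Nat.card V := Nat.card_pos
  have h7 : Nat.card V = 1 := by omega
  exact hV1 (Subgroup.card_eq_one.1 h7)

section main

variable {G : Type*} [Group G] [Finite G] {p : ℕ} [Fact p.Prime]

theorem relIndex_eq_card_map {Y L : Subgroup G} (hYL : Y ≤ L) :
    Nat.card ((Y.subgroupOf L).map (QuotientGroup.mk' (pCore p ↥L))) =
      (Y ⊓ pCoreOf p L).relIndex Y := by
  rw [← Subgroup.relIndex_ker, QuotientGroup.ker_mk',
    ← Subgroup.relIndex_map_map_of_injective _ _ L.subtype_injective,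
    Subgroup.map_subgroupOf_eq_of_le hYL]
  rw [inf_comm, Subgroup.inf_relIndex_right]
  rfl

theorem frakL_main {Y L NL : Subgroup G} (hYe : IsElementaryAbelian p Y) (hYL : Y ≤ L)
    (hA : pCoreOf p L ≤ normalizer (Y : Set G)) (hmin : IsMinimalOver (Y.subgroupOf L))
    (hmax : L ⊓ normalizer (Y : Set G) < L ∧ ∀ X : Subgroup G, Y ≤ X → X < L →
      X ≤ L ⊓ normalizer (Y : Set G))
    (hiso : (∃ (F : Type) (_ : Field F) (_ : Fintype F),
        Fintype.card F = (Y ⊓ pCoreOf p L).relIndex Y ∧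
          Nonempty (↥L ⧸ pCore p ↥L ≃* Matrix.SpecialLinearGroup (Fin 2) F)) ∨
      (p = 2 ∧ ∃ (F : Type) (_ : Field F) (_ : Fintype F) (m : ℕ),
        Fintype.card F = 2 ^ (2 * m + 1) ∧
          Fintype.card F = (Y ⊓ pCoreOf p L).relIndex Y ∧
            Nonempty (↥L ⧸ pCore p ↥L ≃* ↥(Lie.Sz F (2 ^ (m + 1))))) ∨
      (p = 2 ∧ ∃ r : ℕ, r.Prime ∧ r ≠ 2 ∧ Nonempty (↥L ⧸ pCore p ↥L ≃* DihedralGroup r)))
    (hNL : NL = L ⊓ normalizer (Y : Set G)) [hn : ((pCoreOf p L).subgroupOf NL).Normal] :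
    ((Y.subgroupOf NL).map (QuotientGroup.mk' ((pCoreOf p L).subgroupOf NL))) ≠ ⊥ ∧
      ((Y.subgroupOf NL).map (QuotientGroup.mk' ((pCoreOf p L).subgroupOf NL))).Normal ∧
      IsElementaryAbelian p
        ((Y.subgroupOf NL).map (QuotientGroup.mk' ((pCoreOf p L).subgroupOf NL))) ∧
      ∀ (V : Subgroup (↥NL ⧸ (pCoreOf p L).subgroupOf NL)), V.Normal → IsElementaryAbelian p V →
        V ≠ ⊥ → V = ((Y.subgroupOf NL).map (QuotientGroup.mk' ((pCoreOf p L).subgroupOf NL))) := by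
  set A := pCoreOf p L with hAdef
  have hAL : A ≤ L := H227.Weak.pCoreOf_le p L
  have hAp : IsPGroup p A := isPGroup_pCoreOf L
  have hLA : L ≤ normalizer (A : Set G) :=
    le_normalizer.trans (H227.Weak.normalizer_le_normalizer_pCoreOf p L)
  have hYp := ea_isPGroup' hYe
  have hNLL : NL ≤ L := hNL ▸ inf_le_left
  have hNLY : NL ≤ normalizer (Y : Set G) := hNL ▸ inf_le_right
  have hYNL : Y ≤ NL := hNL ▸ le_inf hYL le_normalizer
  have hANL : A ≤ NL := hNL ▸ le_inf hAL hA
  -- `Y ≰ A`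
  have hYA : ¬ Y ≤ A := by
    intro h
    have h1 : Y.subgroupOf L ≤ pCore p ↥L := by
      rw [← Subgroup.map_le_map_iff_of_injective (f := L.subtype) L.subtype_injective,
        Subgroup.map_subgroupOf_eq_of_le hYL]
      exact h
    have h2 : (⊤ : Subgroup ↥L) ≤ pCore p ↥L := by
      rw [← hmin.1]
      exact Subgroup.normalClosure_le_normal h1
    have h3 : L ≤ A := by
      have h4 := Subgroup.map_mono (f := L.subtype) h2
      rwa [← MonoidHom.range_eq_map, Subgroup.range_subtype] at h4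
    exact absurd (le_inf le_rfl (h3.trans hA)) hmax.1.not_ge
  -- `Y A` is not normal in `L`
  have hYAn : ¬ L ≤ normalizer ((Y ⊔ A : Subgroup G) : Set G) := by
    intro h
    refine hYA (le_sup_left.trans (le_pCoreOf ?_ (sup_le hYL hAL) h))
    exact isPGroup_sup_of_le_normalizer hYp hAp hA
  have hNYA : L ⊓ normalizer ((Y ⊔ A : Subgroup G) : Set G) = NL := by
    apply le_antisymm
    · rw [hNL]
      apply hmax.2
      · exact le_inf hYL (le_sup_left.trans le_normalizer)
      · refine lt_of_le_of_ne inf_le_left fun h => hYAn ?_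
        rw [← h]; exact inf_le_right
    · exact le_inf hNLL (le_normalizer_sup hNLY (hNLL.trans hLA))
  -- the quotient
  set π := QuotientGroup.mk' (pCore p ↥L) with hπ
  set YX := (Y.subgroupOf L).map π with hYX
  have hYXc : Nat.card YX = (Y ⊓ A).relIndex Y := relIndex_eq_card_map hYL
  have hmemYX : ∀ x : ↥L, π x ∈ YX ↔ (x : G) ∈ Y ⊔ A := by
    intro x
    have h1 : π x ∈ YX ↔ x ∈ Y.subgroupOf L ⊔ pCore p ↥L := by
      rw [hYX, ← Subgroup.mem_comap, Subgroup.comap_map_eq, QuotientGroup.ker_mk']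
    rw [h1, ← Subgroup.map_subgroupOf_eq_of_le (sup_le hYL hAL), subgroupOf_sup hYL hAL]
    have h2 : A.subgroupOf L = pCore p ↥L := by
      apply Subgroup.map_injective L.subtype_injective
      rw [Subgroup.map_subgroupOf_eq_of_le hAL]; rfl
    rw [h2]
    constructor
    · intro h; exact ⟨x, h, rfl⟩
    · rintro ⟨y, hy, hyx⟩
      rwa [← Subtype.ext hyx]
  have hYX1 : YX ≠ ⊥ := by
    intro h
    apply hYA
    intro y hy
    have h1 : π ⟨y, hYL hy⟩ ∈ YX := ⟨⟨y, hYL hy⟩, hy, rfl⟩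
    rw [h, Subgroup.mem_bot, ← MonoidHom.mem_ker, QuotientGroup.ker_mk'] at h1
    exact ⟨_, h1, rfl⟩
  have hYXe : IsElementaryAbelian p YX := by
    refine ea_of_map' ?_ _
    refine ⟨⟨⟨fun a b => ?_⟩⟩, fun a ha => ?_⟩
    · have := congrArg Subtype.val (hYe.1.is_comm.comm (⟨a.1, a.2⟩ : ↥Y) ⟨b.1, b.2⟩)
      exact Subtype.ext (Subtype.ext this)
    · exact Subtype.ext (hYe.2 a ha)
  have hYXn : ¬ YX.Normal := by
    intro h
    apply hYAn
    intro l hl
    rw [mem_normalizer_iff]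
    have key : ∀ l ∈ L, ∀ x ∈ Y ⊔ A, l * x * l⁻¹ ∈ Y ⊔ A := by
      intro l hl x hx
      have hxL : x ∈ L := (sup_le hYL hAL) hx
      have h1 := h.conj_mem _ ((hmemYX ⟨x, hxL⟩).2 hx) (π ⟨l, hl⟩)
      rw [← map_inv, ← map_mul, ← map_mul, hmemYX] at h1
      exact h1
    intro x
    refine ⟨key l hl x, fun hx => ?_⟩
    have := key l⁻¹ (inv_mem hl) _ hx
    simpa [mul_assoc] using this
  -- the map on `NL`
  let f : ↥NL →* ↥L ⧸ pCore p ↥L := π.comp (Subgroup.inclusion hNLL)
  have hker : f.ker = A.subgroupOf NL := by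
    ext x
    rw [MonoidHom.mem_ker]
    show π (Subgroup.inclusion hNLL x) = 1 ↔ _
    rw [← MonoidHom.mem_ker, QuotientGroup.ker_mk', mem_subgroupOf]
    constructor
    · intro h; exact ⟨_, h, rfl⟩
    · rintro ⟨y, hy, hyx⟩
      have : y = Subgroup.inclusion hNLL x := Subtype.ext hyx
      rwa [← this]
  have hrange : f.range = normalizer (YX : Set (↥L ⧸ pCore p ↥L)) := by
    ext x
    obtain ⟨l, rfl⟩ := QuotientGroup.mk'_surjective (pCore p ↥L) x
    constructor
    · rintro ⟨n, hn⟩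
      rw [← hn]
      have h1 : (n : G) ∈ normalizer ((Y ⊔ A : Subgroup G) : Set G) := by
        have := hNYA.ge n.2
        exact this.2
      rw [mem_normalizer_iff]
      intro y
      obtain ⟨y, rfl⟩ := QuotientGroup.mk'_surjective (pCore p ↥L) y
      show π y ∈ YX ↔ π (Subgroup.inclusion hNLL n) * π y * (π (Subgroup.inclusion hNLL n))⁻¹ ∈ YX
      rw [← map_inv, ← map_mul, ← map_mul, hmemYX, hmemYX]
      exact mem_normalizer_iff.1 h1 y
    · intro h
      have h1 : (l : G) ∈ NL := by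
        rw [← hNYA]
        refine ⟨l.2, ?_⟩
        rw [mem_normalizer_iff] at h
        have key : ∀ x : G, x ∈ Y ⊔ A ↔ (l : G) * x * (l : G)⁻¹ ∈ Y ⊔ A := by
          intro x
          constructor
          · intro hx
            have hxL : x ∈ L := (sup_le hYL hAL) hx
            have h2 := (h (π ⟨x, hxL⟩)).1 ((hmemYX _).2 hx)
            rw [← hπ, ← map_inv, ← map_mul, ← map_mul, hmemYX] at h2
            exact h2
          · intro hx
            have hxL' : (l : G) * x * (l : G)⁻¹ ∈ L := (sup_le hYL hAL) hx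
            have hxL : x ∈ L := by
              have := mul_mem (mul_mem (inv_mem l.2) hxL') l.2
              simpa [mul_assoc] using this
            have h2 := (h (π ⟨x, hxL⟩)).2 (by
              rw [← hπ, ← map_inv, ← map_mul, ← map_mul, hmemYX]
              exact hx)
            exact (hmemYX _).1 h2
        exact mem_normalizer_iff.2 key
      exact ⟨⟨l, h1⟩, rfl⟩
  let g : ↥NL ⧸ A.subgroupOf NL →* ↥L ⧸ pCore p ↥L :=
    QuotientGroup.lift (A.subgroupOf NL) f (fun x hx => by rw [← hker] at hx; exact hx)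
  have hg : ∀ x, g (QuotientGroup.mk' _ x) = f x := fun x => rfl
  have hginj : Function.Injective g := by
    rw [← MonoidHom.ker_eq_bot_iff, eq_bot_iff]
    intro x hx
    obtain ⟨x, rfl⟩ := QuotientGroup.mk'_surjective _ x
    rw [MonoidHom.mem_ker, hg, ← MonoidHom.mem_ker, hker] at hx
    rw [Subgroup.mem_bot]
    exact (QuotientGroup.eq_one_iff _).2 hx
  have hgrange : g.range = normalizer (YX : Set (↥L ⧸ pCore p ↥L)) := by
    rw [← hrange]
    ext x
    constructor
    · rintro ⟨y, rfl⟩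
      obtain ⟨y, rfl⟩ := QuotientGroup.mk'_surjective _ y
      exact ⟨y, rfl⟩
    · rintro ⟨y, rfl⟩
      exact ⟨QuotientGroup.mk' _ y, rfl⟩
  set Yb := (Y.subgroupOf NL).map (QuotientGroup.mk' (A.subgroupOf NL)) with hYb
  have hYbg : Yb.map g = YX := by
    rw [hYb, Subgroup.map_map]
    ext x
    constructor
    · rintro ⟨y, hy, rfl⟩
      exact ⟨Subgroup.inclusion hNLL y, hy, rfl⟩
    · rintro ⟨y, hy, rfl⟩
      exact ⟨⟨y, hYNL hy⟩, hy, rfl⟩
  refine ⟨?_, ?_, ?_, ?_⟩
  · intro h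
    apply hYX1
    rw [← hYbg, h, Subgroup.map_bot]
  · have h1 : (Y.subgroupOf NL).Normal := (normal_subgroupOf_iff_le_normalizer hYNL).2 hNLY
    exact h1.map _ (QuotientGroup.mk'_surjective _)
  · refine ea_of_map' ?_ _
    refine ⟨⟨⟨fun a b => ?_⟩⟩, fun a ha => ?_⟩
    · have := congrArg Subtype.val (hYe.1.is_comm.comm (⟨a.1, a.2⟩ : ↥Y) ⟨b.1, b.2⟩)
      exact Subtype.ext (Subtype.ext this)
    · exact Subtype.ext (hYe.2 a ha)
  · intro V hVn hVe hV1
    apply Subgroup.map_injective hginj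
    rw [hYbg]
    have hVg1 : V.map g ≠ ⊥ := fun h => hV1 ((Subgroup.map_eq_bot_iff_of_injective _ hginj).1 h)
    have hVge : IsElementaryAbelian p (V.map g) := ea_of_map' hVe g
    have hVle : V.map g ≤ normalizer (YX : Set (↥L ⧸ pCore p ↥L)) := by
      rw [← hgrange]; exact Subgroup.map_le_range g V
    have hVn' : normalizer (YX : Set (↥L ⧸ pCore p ↥L)) ≤
        normalizer ((V.map g : Subgroup _) : Set (↥L ⧸ pCore p ↥L)) := by
      rw [← hgrange]
      rintro _ ⟨x, rfl⟩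
      have key : ∀ x, ∀ v ∈ V.map g, g x * v * (g x)⁻¹ ∈ V.map g := by
        rintro x _ ⟨v, hv, rfl⟩
        exact ⟨x * v * x⁻¹, hVn.conj_mem v hv x, by simp⟩
      rw [mem_normalizer_iff]
      intro v
      refine ⟨key x v, fun h => ?_⟩
      have := key x⁻¹ _ h
      simpa [mul_assoc] using this
    rcases hiso with ⟨F, hF1, hF2, hFc, ⟨e⟩⟩ | ⟨hp2, F, hF1, hF2, m, hFm, hFc, ⟨e⟩⟩ |
        ⟨hp2, r, hr, hr2, ⟨e⟩⟩
    · -- `SL₂(q)`
      have hcard : Nat.card YX = Nat.card F := by rw [hYXc, ← hFc, Nat.card_eq_fintype_card]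
      have hchar : CharP F p := by
        obtain ⟨k, hk⟩ := IsPGroup.iff_card.1 (ea_isPGroup' hYXe)
        have hk0 : k ≠ 0 := by
          rintro rfl
          rw [pow_zero, hcard] at hk
          exact absurd hk (Finite.one_lt_card (α := F)).ne'
        obtain ⟨q, hq⟩ := CharP.exists F
        have hqp : q.Prime := CharP.char_is_prime F q
        obtain ⟨n, hn1, hn2⟩ := FiniteField.card F q
        have h3 : (q : ℕ) ∣ p ^ k := by
          rw [← hk, hcard, Nat.card_eq_fintype_card, hn2]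
          exact dvd_pow_self q n.ne_zero
        have h4 : q = p := (Nat.prime_dvd_prime_iff_eq hqp Fact.out).1 (hqp.dvd_of_dvd_pow h3)
        rwa [h4] at hq
      exact (borelUniq_SL2 (F := F) (p := p)).congr e YX (V.map g) hYXe hcard hVge hVg1 hVle hVn'
    · subst hp2
      have hcard : Nat.card YX = Fintype.card F := by rw [hYXc, ← hFc]
      exact (borelUniq_Sz (F := F) hFm).congr e YX (V.map g) hYXe hcard hVge hVg1 hVle hVn'
    · subst hp2
      have hcard : Nat.card (↥L ⧸ pCore 2 ↥L) = 2 * r := by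
        rw [Nat.card_congr e.toEquiv, DihedralGroup.nat_card]
      exact dihedral_uniq hr hr2 hcard (ea_isPGroup' hYXe) hYX1 hYXn hVg1 hVle

end main

end Cfsg.Agent.H231
end

-- part: S2861
section
set_option autoImplicit false
open Cfsg

namespace Cfsg.Agent.S2861

/-- Standing hypotheses: G a finite group, S a Sylow p-subgroup, Q a nontrivial large p-subgroup of G contained in S, M a subgroup containing S with the basic property (M ∈ 𝔐_G(S)); Y_M the largest p-reduced normal subgroup of M and M† = M·C_G(Y_M). Let L ∈ 𝔏_G(Y_M) (L ∈ 𝔏_G(Y_M): Y_M ≤ L; O_p(L) is the normal closure in L of Y_M ∩ O_p(L) and normalizes Y_M; L is Y_M-minimal of characteristic p with N_L(Y_M) its unique maximal subgroup over Y_M; and L/O_p(L) ≅ SL₂(q) with q = |Y_M : Y_M ∩ O_p(L)|, or p = 2 and L/O_p(L) is a Suzuki group Sz(q) or dihedral of order 2r, r an odd prime) and A = O_p(L). Then Y_M·A/A is the unique nontrivial elementary abelian normal p-subgroup of N_L(Y_M)/A.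 -/
theorem result {G : Type*} [Group G] [Finite G] {p : ℕ} [Fact p.Prime] (S : Sylow p G) (Q : Subgroup G) (hQp : IsPGroup p ↥Q) (hQ1 : Q ≠ ⊥) (hQS : Q ≤ (S : Subgroup G)) (hQ : Cfsg.IsLarge Q) (M : Subgroup G) (hSM : (S : Subgroup G) ≤ M) (hM : Cfsg.IsInFrakM p M) (L : Subgroup G) (hL : Cfsg.IsInFrakL p M L) (NL : Subgroup G) (hNL : NL = L ⊓ Subgroup.normalizer (((Cfsg.largestPReducedOf p M) : Subgroup G) : Set G)) [hn : (((Cfsg.pCoreOf p L)).subgroupOf NL).Normal] : let Ybar : Subgroup (↥NL ⧸ ((Cfsg.pCoreOf p L)).subgroupOf NL) := (((Cfsg.largestPReducedOf p M)).subgroupOf NL).map (QuotientGroup.mk' (((Cfsg.pCoreOf p L)).subgroupOf NL)); Ybar ≠ ⊥ ∧ Ybar.Normal ∧ Cfsg.IsElementaryAbelian p Ybar ∧ ∀ (V : Subgroup (↥NL ⧸ ((Cfsg.pCoreOf p L)).subgroupOf NL)), V.Normal → Cfsg.IsElementaryAbelian p V → V ≠ ⊥ → V = Ybar := by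
  intro Ybar
  obtain ⟨hYL, _, hA, hmin, _, hmax, hiso⟩ := hL
  exact Cfsg.Agent.H231.frakL_main (Cfsg.Agent.H229.largest_ea p M) hYL hA hmin hmax hiso hNL

end Cfsg.Agent.S2861
end
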