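import Cfsg.Agent.H231.Rel
import Cfsg.Agent.H229.FrakH
import Cfsg.Agent.H231.QsSec
import Cfsg.Agent.H990.PIrr
import Cfsg.Agent.H568.Sn
import Cfsg.Statements.S2862
set_option linter.all false

-- part: H231/ALMod
section
/-!
# Asymmetric L-lemma: the action on one noncentral chief factor

`V` a minimal normal abelian `p`-subgroup of `X`, not central, `Y ≤ A`, `X = ⟨Y^g, A⟩ = ⟨Y, A^g⟩`, `A` centralizes `Y`
and `[V, Y]`.
-/

set_option autoImplicit false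
set_option linter.unusedSectionVars false

namespace Cfsg.Agent.H231.AL

open Cfsg Subgroup
open Cfsg.Agent.H229 (cj mem_cj cj_mono cj_le_of_norm mem_norm cj_comm cj_centralizer cj_inf cj_sup cj_inv_cj cj_cj_inv
  le_norm_iff_comm_le le_norm_iff mem_sup_of_norm cj_le_iff le_cj_iff cj_eq_bot le_centralizer_comm centralizer_le_norm
  norm_le_norm_centralizer ncl cj_le_ncl le_ncl ncl_le_iff le_norm_ncl ncl_le card_cj cj_eq_of_le)

variable {X : Type*} [Group X]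

/-- module data -/
structure MData (V Y A : Subgroup X) (g : X) : Prop where
  norm : V.Normal
  ab : V ≤ centralizer (V : Set X)
  min : ∀ Z : Subgroup X, Z.Normal → Z ≤ V → Z = ⊥ ∨ Z = V
  ncen : ¬ V ≤ center X
  YA : Y ≤ A
  AY : A ≤ centralizer (Y : Set X)
  AE : A ≤ centralizer ((⁅V, Y⁆ : Subgroup X) : Set X)
  gen1 : cj g Y ⊔ A = ⊤
  gen2 : Y ⊔ cj g A = ⊤

theorem normal_of_top_le {N : Subgroup X} (h : ⊤ ≤ normalizer (N : Set X)) : N.Normal :=
  normalizer_eq_top_iff.1 (top_le_iff.1 h)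

theorem top_le_of_normal {N : Subgroup X} (h : N.Normal) : ⊤ ≤ normalizer (N : Set X) :=
  (normalizer_eq_top_iff.2 h).ge

theorem comm_eq_bot_iff' {A B : Subgroup X} : ⁅A, B⁆ = ⊥ ↔ B ≤ centralizer (A : Set X) := by
  rw [commutator_eq_bot_iff_le_centralizer, le_centralizer_iff]

theorem cen_anti {A B : Subgroup X} (h : A ≤ B) : centralizer (B : Set X) ≤ centralizer (A : Set X) :=
  centralizer_le h

namespace MData

variable {V Y A : Subgroup X} {g : X} (h : MData V Y A g)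

include h

theorem cjV (x : X) : cj x V = V := mem_norm.1 (top_le_of_normal h.norm (mem_top x))

theorem eq_bot_of_cen {Z : Subgroup X} (hZ : Z ≤ V) (hc : ⊤ ≤ centralizer (Z : Set X)) : Z = ⊥ := by
  have h1 : Z ≤ center X := by
    intro z hz
    rw [mem_center_iff]
    intro x
    exact (mem_centralizer_iff.1 (hc (mem_top x)) z hz).symm
  have hn : (V ⊓ center X).Normal := by
    have := h.norm
    infer_instance
  rcases h.min _ hn inf_le_left with h2 | h2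
  · rw [eq_bot_iff, ← h2]; exact le_inf hZ h1
  · exact absurd (inf_eq_left.1 h2) h.ncen

theorem comm_top : ⁅V, (⊤ : Subgroup X)⁆ = V := by
  have := h.norm
  rcases h.min ⁅V, (⊤ : Subgroup X)⁆ inferInstance (commutator_le_left V ⊤) with h1 | h1
  · exfalso
    apply h.ncen
    rw [comm_eq_bot_iff'] at h1
    intro v hv
    rw [mem_center_iff]
    intro x
    exact (mem_centralizer_iff.1 (h1 (mem_top x)) v hv).symm
  · exact h1

theorem E_le : ⁅V, Y⁆ ≤ V := by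
  have := h.norm
  exact commutator_le_left V Y

theorem comm_le (B : Subgroup X) : ⁅V, B⁆ ≤ V := by
  have := h.norm
  exact commutator_le_left V B

theorem cj_E : cj g ⁅V, Y⁆ = ⁅V, cj g Y⁆ := by rw [cj_comm, h.cjV]

theorem cjE_le : cj g ⁅V, Y⁆ ≤ V := by rw [h.cj_E]; exact h.comm_le _

theorem Y_cen_E : Y ≤ centralizer ((⁅V, Y⁆ : Subgroup X) : Set X) := h.YA.trans h.AE

theorem E_cen_Y : ⁅V, Y⁆ ≤ centralizer (Y : Set X) := le_centralizer_comm h.Y_cen_E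

theorem cjA_cen : cj g A ≤ centralizer ((cj g ⁅V, Y⁆ : Subgroup X) : Set X) := by
  rw [← cj_centralizer]
  exact cj_mono h.AE

theorem cjY_cen : cj g Y ≤ centralizer ((cj g ⁅V, Y⁆ : Subgroup X) : Set X) :=
  (cj_mono h.YA).trans h.cjA_cen

theorem E_inf : ⁅V, Y⁆ ⊓ cj g ⁅V, Y⁆ = ⊥ := by
  apply h.eq_bot_of_cen (inf_le_left.trans h.E_le)
  rw [← h.gen1]
  exact sup_le (h.cjY_cen.trans (cen_anti inf_le_right)) (h.AE.trans (cen_anti inf_le_left))

theorem cjE_inf_cen : cj g ⁅V, Y⁆ ⊓ centralizer (Y : Set X) = ⊥ := by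
  apply h.eq_bot_of_cen (inf_le_left.trans h.cjE_le)
  rw [← h.gen2]
  exact sup_le (le_centralizer_comm inf_le_right) (h.cjA_cen.trans (cen_anti inf_le_left))

theorem norm_of {P B : Subgroup X} (h1 : ⁅V, B⁆ ≤ P) (h2 : P ≤ V) : B ≤ normalizer (P : Set X) := by
  rw [le_norm_iff_comm_le, commutator_comm]
  exact (commutator_mono h2 le_rfl).trans h1

theorem commA_le : ⁅V, A⁆ ≤ centralizer (Y : Set X) := by
  rw [← commutator_eq_bot_iff_le_centralizer]
  apply commutator_commutator_eq_bot_of_rotate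
  · rw [comm_eq_bot_iff'.2 (le_centralizer_comm h.AY), commutator_bot_left]
  · rw [commutator_comm Y V, comm_eq_bot_iff']
    exact h.AE

theorem le1 : V ≤ cj g ⁅V, Y⁆ ⊔ (V ⊓ centralizer (Y : Set X)) := by
  have hle : cj g ⁅V, Y⁆ ⊔ (V ⊓ centralizer (Y : Set X)) ≤ V := sup_le h.cjE_le inf_le_left
  have h1 : ⁅V, cj g Y⁆ ≤ cj g ⁅V, Y⁆ ⊔ (V ⊓ centralizer (Y : Set X)) := by
    rw [← h.cj_E]; exact le_sup_left
  have h2 : ⁅V, A⁆ ≤ cj g ⁅V, Y⁆ ⊔ (V ⊓ centralizer (Y : Set X)) :=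
    (le_inf (h.comm_le A) h.commA_le).trans le_sup_right
  nth_rewrite 1 [← h.comm_top]
  rw [← h.gen1]
  exact commutator_sup_le (h.norm_of h1 hle) (h.norm_of h2 hle) h1 h2

theorem le2 : V ≤ ⁅V, Y⁆ ⊔ (V ⊓ centralizer ((cj g Y : Subgroup X) : Set X)) := by
  have hle : ⁅V, Y⁆ ⊔ (V ⊓ centralizer ((cj g Y : Subgroup X) : Set X)) ≤ V := sup_le h.E_le inf_le_left
  have h1 : ⁅V, Y⁆ ≤ ⁅V, Y⁆ ⊔ (V ⊓ centralizer ((cj g Y : Subgroup X) : Set X)) := le_sup_left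
  have h2 : ⁅V, cj g A⁆ ≤ ⁅V, Y⁆ ⊔ (V ⊓ centralizer ((cj g Y : Subgroup X) : Set X)) := by
    refine (le_inf (h.comm_le _) ?_).trans le_sup_right
    rw [← h.cjV g, ← cj_comm, ← cj_centralizer]
    exact cj_mono h.commA_le
  nth_rewrite 1 [← h.comm_top]
  rw [← h.gen2]
  exact commutator_sup_le (h.norm_of h1 hle) (h.norm_of h2 hle) h1 h2

theorem V_norm {B : Subgroup X} (hB : B ≤ V) : V ≤ normalizer (B : Set X) :=
  (h.ab.trans (cen_anti hB)).trans (centralizer_le_norm B)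

theorem cenY_le : V ⊓ centralizer (Y : Set X) ≤
    ⁅V, Y⁆ ⊔ (V ⊓ centralizer ((Y ⊔ cj g Y : Subgroup X) : Set X)) := by
  intro v hv
  have h1 := h.le2 hv.1
  rw [mem_sup_of_norm (inf_le_left.trans (h.V_norm h.E_le))] at h1
  obtain ⟨e, he, c, hc, rfl⟩ := h1
  refine mul_mem (mem_sup_left he) (mem_sup_right ⟨hc.1, ?_⟩)
  have h2 : c ∈ centralizer (Y : Set X) := by
    have e1 : c = e⁻¹ * (e * c) := by group
    rw [e1]
    exact mul_mem (inv_mem (h.E_cen_Y he)) hv.2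
  have h3 : Y ⊔ cj g Y ≤ centralizer ({c} : Set X) := by
    refine sup_le ?_ ?_
    · intro y hy; rw [mem_centralizer_singleton_iff]
      exact mem_centralizer_iff.1 h2 y hy
    · intro y hy; rw [mem_centralizer_singleton_iff]
      exact mem_centralizer_iff.1 hc.2 y hy
  exact mem_centralizer_iff.2 fun y hy => mem_centralizer_singleton_iff.1 (h3 hy)

theorem V_le : V ≤ (⁅V, Y⁆ ⊔ cj g ⁅V, Y⁆) ⊔ (V ⊓ centralizer ((Y ⊔ cj g Y : Subgroup X) : Set X)) := by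
  refine h.le1.trans (sup_le (le_sup_right.trans le_sup_left) (h.cenY_le.trans ?_))
  exact sup_le (le_sup_left.trans le_sup_left) le_sup_right

theorem commL : ⁅V, Y ⊔ cj g Y⁆ ≤ ⁅V, Y⁆ ⊔ cj g ⁅V, Y⁆ := by
  have hle : ⁅V, Y⁆ ⊔ cj g ⁅V, Y⁆ ≤ V := sup_le h.E_le h.cjE_le
  have h1 : ⁅V, Y⁆ ≤ ⁅V, Y⁆ ⊔ cj g ⁅V, Y⁆ := le_sup_left
  have h2 : ⁅V, cj g Y⁆ ≤ ⁅V, Y⁆ ⊔ cj g ⁅V, Y⁆ := by rw [← h.cj_E]; exact le_sup_right
  exact commutator_sup_le (h.norm_of h1 hle) (h.norm_of h2 hle) h1 h2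

theorem commL_cen : ⁅V, Y ⊔ cj g Y⁆ ⊓ centralizer (Y : Set X) ≤ ⁅V, Y⁆ := by
  intro v hv
  have h1 := h.commL hv.1
  rw [mem_sup_of_norm (h.cjE_le.trans (h.V_norm h.E_le))] at h1
  obtain ⟨e, he, c, hc, rfl⟩ := h1
  have h2 : c ∈ cj g ⁅V, Y⁆ ⊓ centralizer (Y : Set X) := by
    refine mem_inf.2 ⟨hc, ?_⟩
    have e1 : c = e⁻¹ * (e * c) := by group
    rw [e1]
    exact mul_mem (inv_mem (h.E_cen_Y he)) hv.2
  rw [h.cjE_inf_cen, mem_bot] at h2
  rw [h2, mul_one]; exact he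

section fin

variable [Finite X] {p : ℕ} [Fact p.Prime]

theorem E_ne_bot (hV : IsPGroup p ↥V) (hA : IsPGroup p ↥A) : ⁅V, Y⁆ ≠ ⊥ := by
  intro hE
  have hV1 : V ≠ ⊥ := by
    rintro rfl
    exact h.ncen bot_le
  have h1 : cj g Y ≤ centralizer (V : Set X) := by
    rw [← comm_eq_bot_iff', ← h.cj_E, hE]
    exact Subgroup.map_bot _
  have h2 := PLocal.OffenderStep.inf_centralizer_ne_bot (p := p) V A hV hA
    (le_top.trans (top_le_of_normal h.norm)) hV1
  apply h2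
  apply h.eq_bot_of_cen inf_le_left
  rw [← h.gen1]
  exact sup_le (h1.trans (cen_anti inf_le_left)) (le_centralizer_comm inf_le_right)

/-- `⟨L₀, A⟩ ≠ X`. -/
theorem sup_ne_top (hV : IsPGroup p ↥V) (hA : IsPGroup p ↥A) {R L₀ : Subgroup X} (hR : IsPGroup p ↥R)
    (hYR : Y ≤ R) (hL : L₀ ≤ Y ⊔ cj g Y) (hLR : L₀ ≤ normalizer (R : Set X))
    (hRL : R ≤ Y ⊔ cj g Y) : L₀ ⊔ A ≠ ⊤ := by
  intro htop
  set L := Y ⊔ cj g Y with hLdef
  have hE := h.E_ne_bot hV hA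
  have hVL : ⁅V, L⁆ ≠ ⊥ := by
    intro h1
    apply hE
    rw [eq_bot_iff, ← h1]
    exact commutator_mono le_rfl le_sup_left
  have hLn : L ≤ normalizer ((⁅V, L⁆ : Subgroup X) : Set X) := le_normalizer_commutator_right V L
  have hpVL : IsPGroup p ↥(⁅V, L⁆ : Subgroup X) := hV.to_le (h.comm_le L)
  have h2 := PLocal.OffenderStep.inf_centralizer_ne_bot (p := p) ⁅V, L⁆ R hpVL hR
    (hRL.trans hLn) hVL
  set V' := ⁅V, L⁆ ⊓ centralizer (R : Set X) with hV'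
  have h3 : V' ≤ ⁅V, Y⁆ := (inf_le_inf_left _ (cen_anti hYR)).trans h.commL_cen
  have h4 : A ≤ normalizer (V' : Set X) := (h.AE.trans (cen_anti h3)).trans (centralizer_le_norm _)
  have h5 : L₀ ≤ normalizer (V' : Set X) :=
    le_normalizer_inf (hL.trans hLn) (hLR.trans (norm_le_norm_centralizer R))
  have h6 : V'.Normal := normal_of_top_le (by rw [← htop]; exact sup_le h5 h4)
  rcases h.min V' h6 (h3.trans h.E_le) with h7 | h7
  · exact h2 h7
  · apply hE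
    rw [commutator_eq_bot_iff_le_centralizer, ← h7]
    exact (h3.trans h.E_cen_Y)

/-- no `O^p(L)` acting trivially -/
theorem not_cen (hV : IsPGroup p ↥V) (hA : IsPGroup p ↥A) {R : Subgroup X}
    (hR : Y ⊔ cj g Y ≤ R ⊔ Y) : ⁅V, R⁆ ≠ ⊥ := by
  intro h1
  apply h.E_ne_bot hV hA
  have h2 : ⁅V, R ⊔ Y⁆ ≤ ⁅V, Y⁆ := by
    apply commutator_sup_le
    · exact h.norm_of (h1.trans_le bot_le) h.E_le
    · exact h.norm_of le_rfl h.E_le
    · exact h1.trans_le bot_le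
    · exact le_rfl
  have h3 : cj g ⁅V, Y⁆ ≤ ⁅V, Y⁆ := by
    rw [h.cj_E]
    exact (commutator_mono le_rfl (le_sup_right.trans hR)).trans h2
  have h4 := h.E_inf
  rw [inf_eq_right.2 h3, cj_eq_bot] at h4
  exact h4

end fin

theorem cen_of {D : Subgroup X} (hD : D ≤ Y) (hDn : D ≤ normalizer ((cj g Y : Subgroup X) : Set X)) :
    ⁅V, D⁆ = ⊥ := by
  rw [commutator_comm, commutator_eq_bot_iff_le_centralizer]
  apply le_centralizer_comm
  refine h.V_le.trans ?_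
  refine sup_le (sup_le ?_ ?_) ?_
  · exact le_centralizer_comm (hD.trans h.Y_cen_E)
  · rw [← commutator_eq_bot_iff_le_centralizer, eq_bot_iff, ← h.E_inf]
    refine le_inf ?_ ?_
    · exact commutator_mono h.cjE_le hD
    · rw [commutator_comm, ← le_norm_iff_comm_le, h.cj_E]
      exact le_normalizer_commutator (le_top.trans (top_le_of_normal h.norm)) hDn
  · exact inf_le_right.trans (cen_anti (hD.trans le_sup_left))

/-- `[W, A]` acts trivially. -/
theorem comm_comm_eq_bot {W L₀ : Subgroup X} [Finite X] (hL : L₀ ≤ Y ⊔ cj g Y) (hYW : Y ≤ W) (hWA : W ≤ A)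
    (hLW : L₀ ≤ normalizer (W : Set X)) (hW : W ≤ ncl (L₀ ⊔ A) Y) : ⁅V, ⁅W, A⁆⁆ = ⊥ := by
  set L := Y ⊔ cj g Y with hLdef
  set E := ⁅V, Y⁆ with hE
  have hLn : L ≤ normalizer ((⁅V, L⁆ : Subgroup X) : Set X) := le_normalizer_commutator_right V L
  have hEL : ∀ x ∈ L₀, cj x E = E := by
    intro x hx
    have h1 : Y ≤ cj x A := by
      refine hYW.trans ?_
      rw [← mem_norm.1 (hLW hx)]
      exact cj_mono hWA
    have h2 : cj x A ≤ centralizer ((cj x E : Subgroup X) : Set X) := by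
      rw [← cj_centralizer]; exact cj_mono h.AE
    apply cj_eq_of_le
    refine le_trans (le_inf ?_ (le_centralizer_comm (h1.trans h2))) h.commL_cen
    refine (cj_mono (commutator_mono le_rfl (le_sup_left : Y ≤ L))).trans ?_
    exact cj_le_of_norm (hLn (hL hx))
  have hLE : L₀ ≤ normalizer (E : Set X) := fun x hx => mem_norm.2 (hEL x hx)
  have hPE : L₀ ⊔ A ≤ normalizer (E : Set X) := sup_le hLE (h.AE.trans (centralizer_le_norm _))
  -- `C_V(Y)` is invariant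
  have hcY : V ⊓ centralizer (Y : Set X) = E ⊔ (V ⊓ centralizer (L : Set X)) := by
    apply le_antisymm h.cenY_le
    refine sup_le (le_inf h.E_le h.E_cen_Y) ?_
    exact inf_le_inf_left _ (cen_anti le_sup_left)
  have hP : L₀ ⊔ A ≤ normalizer ((V ⊓ centralizer (Y : Set X) : Subgroup X) : Set X) := by
    refine sup_le ?_ ?_
    · rw [hcY]
      refine le_normalizer_sup hLE ?_
      refine le_trans ?_ (centralizer_le_norm _)
      exact le_centralizer_comm (inf_le_right.trans (cen_anti hL))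
    · refine le_normalizer_inf (le_top.trans (top_le_of_normal h.norm)) ?_
      exact (h.AY.trans (centralizer_le_norm _)).trans (norm_le_norm_centralizer _)
  have hWc : W ≤ centralizer ((V ⊓ centralizer (Y : Set X) : Subgroup X) : Set X) := by
    refine hW.trans (ncl_le (hP.trans (norm_le_norm_centralizer _)) ?_)
    exact le_centralizer_comm inf_le_right
  have hWE : ⁅V, W⁆ ≤ E := by
    refine (commutator_mono le_rfl hW).trans ?_
    apply commutator_iSup_le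
    · rintro ⟨x, hx⟩
      show cj x Y ≤ _
      rw [← mem_norm.1 (hPE hx), ← H229.cj_normalizer]
      exact cj_mono (h.norm_of le_rfl h.E_le)
    · rintro ⟨x, hx⟩
      show ⁅V, cj x Y⁆ ≤ _
      rw [← h.cjV x, ← cj_comm]
      exact cj_le_of_norm (hPE hx)
  rw [commutator_comm]
  apply commutator_commutator_eq_bot_of_rotate
  · rw [commutator_eq_bot_iff_le_centralizer, commutator_comm]
    exact (le_inf (h.comm_le A) h.commA_le).trans (le_centralizer_comm hWc)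
  · rw [eq_bot_iff]
    refine (commutator_mono hWE le_rfl).trans ?_
    rw [← eq_bot_iff, comm_eq_bot_iff']
    exact h.AE

end MData

end Cfsg.Agent.H231.AL
end

-- part: H231/ALChief
section
/-!
# Asymmetric L-lemma: chief factors of `H` inside `O_p(H)` and the passage to `H / W`
-/

set_option autoImplicit false
set_option linter.unusedSectionVars false

namespace Cfsg.Agent.H231.AL

open Cfsg Subgroup
open scoped commutatorElement
open Cfsg.Agent.H230 (resOf resOf_le mem_resOf_of_coprime resOf_eq_closure)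
open Cfsg.Agent.H229 (cj mem_cj cj_mono cj_le_of_norm mem_norm cj_comm cj_centralizer cj_inf cj_sup cj_inv_cj cj_cj_inv
  le_norm_iff_comm_le le_norm_iff mem_sup_of_norm cj_le_iff le_cj_iff cj_eq_bot le_centralizer_comm centralizer_le_norm
  norm_le_norm_centralizer ncl cj_le_ncl le_ncl ncl_le_iff le_norm_ncl ncl_le card_cj cj_eq_of_le ChP
  isPGroup_pCoreOf pCoreOf_le le_norm_pCoreOf le_pCoreOf cj_normalizer)

variable {G : Type*} [Group G]

/-- chief factor of `H` inside `O_p(H)` -/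
structure Chief (p : ℕ) (H V W : Subgroup G) : Prop where
  le : V ≤ pCoreOf p H
  nV : H ≤ normalizer (V : Set G)
  nW : H ≤ normalizer (W : Set G)
  lt : W < V
  min : ∀ Z : Subgroup G, H ≤ normalizer (Z : Set G) → W ≤ Z → Z ≤ V → Z = W ∨ Z = V

theorem comm_eq_one {p : ℕ} {n x : G} (hc : Commute ⁅n, x⁆ x) (hx : (orderOf x).Coprime p)
    (hp : ∃ k : ℕ, ⁅n, x⁆ ^ p ^ k = 1) : ⁅n, x⁆ = 1 := by
  set c := ⁅n, x⁆ with hcdef
  have h1 : n * x * n⁻¹ = c * x := by rw [hcdef, commutatorElement_def]; group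
  have h2 : c ^ orderOf x = 1 := by
    have h3 : (n * x * n⁻¹) ^ orderOf x = 1 := by
      rw [conj_pow, pow_orderOf_eq_one]; group
    rwa [h1, hc.mul_pow, pow_orderOf_eq_one, mul_one] at h3
  obtain ⟨k, hk⟩ := hp
  rw [← orderOf_eq_one_iff]
  exact Nat.dvd_one.1 ((hx.pow_right k).symm ▸ Nat.dvd_gcd (orderOf_dvd_of_pow_eq_one hk) (orderOf_dvd_of_pow_eq_one h2))

/-- a group stabilizing `N ≥ N₂ ≥ 1`: `O^p` centralizes the `p`-group `N`. -/
theorem resOf_cen_of_chain {p : ℕ} [Finite G] [Fact p.Prime] {D N N₂ : Subgroup G} (hN : IsPGroup p ↥N)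
    (h1 : ⁅N, D⁆ ≤ N₂) (h12 : N₂ ≤ N) (h2 : resOf p D ≤ centralizer (N₂ : Set G)) :
    resOf p D ≤ centralizer (N : Set G) := by
  rw [resOf_eq_closure, closure_le]
  rintro x ⟨hx, hxo⟩
  have hxR : x ∈ resOf p D := mem_resOf_of_coprime hx hxo
  refine mem_centralizer_iff.2 fun n hn => ?_
  have h3 : ⁅n, x⁆ ∈ N₂ := h1 (commutator_mem_commutator hn hx)
  have h4 : ⁅n, x⁆ = 1 := by
    apply comm_eq_one _ hxo
    · obtain ⟨k, hk⟩ := hN ⟨_, h12 h3⟩
      exact ⟨k, by simpa using congrArg Subtype.val hk⟩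
    · exact mem_centralizer_iff.1 (h2 hxR) _ h3
  exact commutatorElement_eq_one_iff_mul_comm.1 h4

theorem isPGroup_of_resOf_eq_bot {p : ℕ} [Finite G] [Fact p.Prime] {D : Subgroup G} (h : resOf p D = ⊥) :
    IsPGroup p ↥D := by
  intro x
  obtain ⟨k, hk⟩ := H229.pow_mem_resOf (p := p) x.2
  rw [h, mem_bot] at hk
  exact ⟨k, Subtype.ext (by simpa using hk)⟩

theorem resOf_eq_bot {p : ℕ} [Finite G] [Fact p.Prime] {D : Subgroup G} (h : IsPGroup p ↥(resOf p D)) :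
    resOf p D = ⊥ := by
  rw [eq_bot_iff, resOf_eq_closure, closure_le]
  rintro x ⟨hx, hxo⟩
  obtain ⟨k, hk⟩ := h ⟨x, mem_resOf_of_coprime hx hxo⟩
  have h1 : x ^ p ^ k = 1 := by simpa using congrArg Subtype.val hk
  have h2 : orderOf x = 1 :=
    Nat.dvd_one.1 ((hxo.pow_right k) ▸ Nat.dvd_gcd dvd_rfl (orderOf_dvd_of_pow_eq_one h1))
  rw [orderOf_eq_one_iff] at h2
  rw [h2]; exact one_mem _

/-- a subgroup of `H` centralizing all chief factors of `H` inside `O_p(H)` lies in `O_p(H)` (`H` of characteristic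
`p`). -/
theorem le_pCoreOf_of_chief {p : ℕ} [Finite G] [Fact p.Prime] {H D : Subgroup G} (hH : ChP p H) (hD : D ≤ H)
    (h : ∀ V W : Subgroup G, Chief p H V W → ⁅V, D⁆ ≤ W) : D ≤ pCoreOf p H := by
  set D' := ncl H D with hD'
  have hD'H : D' ≤ H := H229.ncl_le_self hD
  have h1 : ∀ V W : Subgroup G, Chief p H V W → ⁅V, D'⁆ ≤ W := by
    intro V W hVW
    apply commutator_iSup_le
    · rintro ⟨x, hx⟩
      show cj x D ≤ _
      exact ((cj_mono hD).trans (cj_le_of_norm (le_normalizer hx))).trans hVW.nW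
    · rintro ⟨x, hx⟩
      show ⁅V, cj x D⁆ ≤ _
      rw [← mem_norm.1 (hVW.nV hx), ← cj_comm]
      exact (cj_mono (h V W hVW)).trans (cj_le_of_norm (hVW.nW hx))
  have key : ∀ n : ℕ, ∀ N : Subgroup G, Nat.card N = n → H ≤ normalizer (N : Set G) → N ≤ pCoreOf p H →
      resOf p D' ≤ centralizer (N : Set G) := by
    intro n
    induction n using Nat.strong_induction_on with
    | _ n ih =>
      intro N hn hNn hNK
      by_cases hN : N = ⊥
      · rw [hN]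
        intro x _
        rw [mem_centralizer_iff]
        rintro y hy
        rw [SetLike.mem_coe, mem_bot] at hy
        rw [hy]; simp
      · let 𝒮 : Set (Subgroup G) := {Z | H ≤ normalizer (Z : Set G) ∧ Z < N}
        have hne : 𝒮.Nonempty := ⟨⊥, by
          refine ⟨fun x _ => ?_, bot_lt_iff_ne_bot.2 hN⟩
          rw [mem_norm]; exact H229.cj_bot x⟩
        obtain ⟨N₂, hN₂⟩ := (Set.toFinite 𝒮).exists_maximal hne
        obtain ⟨⟨hN1, hN2⟩, hmax⟩ := hN₂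
        have hch : Chief p H N N₂ := by
          refine ⟨hNK, hNn, hN1, hN2, fun Z hZ h2 h3 => ?_⟩
          by_cases hZN : Z = N
          · exact Or.inr hZN
          · exact Or.inl (le_antisymm (hmax ⟨hZ, lt_of_le_of_ne h3 hZN⟩ h2) h2)
        have h3 := h1 _ _ hch
        have hlt : Nat.card N₂ < n := by
          rw [← hn]
          exact Set.ncard_lt_ncard (s := (N₂ : Set G)) (t := (N : Set G)) hN2 (Set.toFinite _)
        have h4 := ih _ hlt N₂ rfl hN1 (hN2.le.trans hNK)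
        exact resOf_cen_of_chain ((isPGroup_pCoreOf p H).to_le hNK) h3 hN2.le h4
  have h2 := key _ (pCoreOf p H) rfl (le_norm_pCoreOf p H) le_rfl
  have h3 : resOf p D' ≤ pCoreOf p H := (le_inf ((resOf_le p _).trans hD'H) h2).trans hH
  have h4 : IsPGroup p ↥D' :=
    isPGroup_of_resOf_eq_bot (resOf_eq_bot ((isPGroup_pCoreOf p H).to_le h3))
  exact (le_ncl H D).trans (le_pCoreOf hD'H (le_norm_ncl H D) h4)

/-! ### passage to the quotient -/

section im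

variable [Finite G] {E : Subgroup G} {N : Subgroup E} [N.Normal]

theorem im_sup {A B : Subgroup G} (hA : A ≤ E) (hB : B ≤ E) : im N (A ⊔ B) = im N A ⊔ im N B := by
  unfold im
  rw [subgroupOf_sup hA hB, Subgroup.map_sup]

theorem im_self : im N E = ⊤ := by
  unfold im
  rw [subgroupOf_self, ← MonoidHom.range_eq_map, MonoidHom.range_eq_top]
  exact QuotientGroup.mk'_surjective N

theorem im_bot : im N (⊥ : Subgroup G) = ⊥ := by
  unfold im
  rw [bot_subgroupOf, Subgroup.map_bot]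

theorem im_cj {g : G} (hg : g ∈ E) (B : Subgroup G) :
    im N (cj g B) = cj (QuotientGroup.mk' N ⟨g, hg⟩) (im N B) := by
  have h1 : (cj g B).subgroupOf E = cj (⟨g, hg⟩ : ↥E) (B.subgroupOf E) := by
    ext x
    rw [mem_subgroupOf, mem_cj, mem_cj, mem_subgroupOf]
    rfl
  unfold im
  rw [h1]
  ext x
  rw [mem_cj]
  constructor
  · rintro ⟨y, hy, rfl⟩
    refine ⟨_, mem_cj.1 hy, ?_⟩
    simp only [map_mul, map_inv]
  · rintro ⟨y, hy, h2⟩
    refine ⟨⟨g, hg⟩ * y * ⟨g, hg⟩⁻¹, H229.conj_mem_cj hy, ?_⟩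
    rw [map_mul, map_mul, map_inv, h2]
    group

theorem im_cen {A B : Subgroup G} (hA : A ≤ E) (hB : B ≤ E) (h : A ≤ centralizer (B : Set G)) :
    im N A ≤ centralizer (im N B : Set (E ⧸ N)) := by
  rw [← commutator_eq_bot_iff_le_centralizer] at h ⊢
  rw [← im_commutator hA hB, h, im_bot]

theorem im_norm {A B : Subgroup G} (hA : A ≤ E) (hB : B ≤ E) (h : A ≤ normalizer (B : Set G)) :
    im N A ≤ normalizer (im N B : Set (E ⧸ N)) := by
  rw [le_norm_iff_comm_le] at h ⊢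
  rw [← im_commutator hA hB]
  exact im_mono h

/-- preimage -/
def pre (Z : Subgroup (E ⧸ N)) : Subgroup G := (Z.comap (QuotientGroup.mk' N)).map E.subtype

theorem pre_le (Z : Subgroup (E ⧸ N)) : pre Z ≤ E := Subgroup.map_subtype_le _

theorem im_pre (Z : Subgroup (E ⧸ N)) : im N (pre Z) = Z := by
  unfold im pre
  have e : ((Z.comap (QuotientGroup.mk' N)).map E.subtype).subgroupOf E = Z.comap (QuotientGroup.mk' N) :=
    Subgroup.comap_map_eq_self_of_injective E.subtype_injective _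
  rw [e, Subgroup.map_comap_eq_self_of_surjective (QuotientGroup.mk'_surjective N)]

theorem le_pre_iff {B : Subgroup G} (hB : B ≤ E) {Z : Subgroup (E ⧸ N)} : B ≤ pre Z ↔ im N B ≤ Z := by
  constructor
  · intro h
    rw [← im_pre Z]; exact im_mono h
  · intro h x hx
    exact ⟨⟨x, hB hx⟩, h ⟨⟨x, hB hx⟩, hx, rfl⟩, rfl⟩

theorem pre_norm {Z : Subgroup (E ⧸ N)} {A : Subgroup G} (hA : A ≤ E)
    (h : im N A ≤ normalizer (Z : Set (E ⧸ N))) : A ≤ normalizer (pre Z : Set G) := by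
  rw [le_norm_iff_comm_le] at h ⊢
  rw [le_pre_iff (commutator_le_of_le hA (pre_le Z)), im_commutator hA (pre_le Z), im_pre]
  exact h

theorem im_ncl_le {P Y : Subgroup G} (hP : P ≤ E) (hY : Y ≤ P) : im N (ncl P Y) ≤ ncl (im N P) (im N Y) := by
  rw [← le_pre_iff ((H229.ncl_le_self hY).trans hP)]
  apply ncl_le
  · exact pre_norm hP (le_norm_ncl _ _)
  · rw [le_pre_iff (hY.trans hP)]
    exact le_ncl _ _

end im

/-- data in `G` -/
structure GData (p : ℕ) (H A Y L : Subgroup G) (g : G) : Prop where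
  pA : IsPGroup p ↥A
  AH : A ≤ H
  YA : Y ≤ A
  AY : A ≤ centralizer (Y : Set G)
  KY : ⁅pCoreOf p H, Y⁆ ≤ Y
  gH : g ∈ H
  L_eq : Y ⊔ cj g Y = L
  gen1 : cj g Y ⊔ A = H
  gen2 : Y ⊔ cj g A = H

theorem eq_bot_of_comm_self {p : ℕ} [Finite G] [Fact p.Prime] {V : Subgroup G} (hV : IsPGroup p ↥V)
    (h : ⁅V, V⁆ = V) : V = ⊥ := by
  by_contra hne
  have hnil : Group.IsNilpotent ↥V := hV.isNilpotent
  have hnt : Nontrivial ↥V := (Subgroup.nontrivial_iff_ne_bot V).2 hne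
  have h1 : commutator ↥V < ⊤ := Group.IsSolvable.commutator_lt_top_of_nontrivial ↥V
  apply h1.ne
  apply Subgroup.map_injective V.subtype_injective
  rw [_root_.commutator_def, Subgroup.map_commutator, ← MonoidHom.range_eq_map, range_subtype, h]

namespace GData

variable {p : ℕ} [Finite G] [Fact p.Prime] {H A Y L : Subgroup G} {g : G} (h : GData p H A Y L g)

include h

theorem YH : Y ≤ H := h.YA.trans h.AH

theorem cjH : cj g H = H := mem_norm.1 (le_normalizer h.gH)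

theorem cjYH : cj g Y ≤ H := by rw [← h.cjH]; exact cj_mono h.YH

theorem LH : L ≤ H := by rw [← h.L_eq]; exact sup_le h.YH h.cjYH

theorem imYL {N : Subgroup H} [N.Normal] :
    im N Y ⊔ cj (QuotientGroup.mk' N ⟨g, h.gH⟩) (im N Y) = im N L := by
  rw [← im_cj, ← im_sup h.YH h.cjYH, h.L_eq]

theorem mdata {V W : Subgroup G} (hV : Chief p H V W) (hnc : ¬ ⁅V, H⁆ ≤ W)
    [hN : (W.subgroupOf H).Normal] :
    MData (im (W.subgroupOf H) V) (im (W.subgroupOf H) Y) (im (W.subgroupOf H) A)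
      (QuotientGroup.mk' (W.subgroupOf H) ⟨g, h.gH⟩) := by
  have hVH : V ≤ H := hV.le.trans (pCoreOf_le p H)
  have hWH : W ≤ H := hV.lt.le.trans hVH
  have hmapW : (W.subgroupOf H).map H.subtype = W := Subgroup.map_subgroupOf_eq_of_le hWH
  have hnorm : (im (W.subgroupOf H) V).Normal := im_normal hVH hV.nV
  have hmin : ∀ Z : Subgroup (H ⧸ W.subgroupOf H), Z.Normal → Z ≤ im (W.subgroupOf H) V →
      Z = ⊥ ∨ Z = im (W.subgroupOf H) V := by
    intro Z hZ hZV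
    have h1 : H ≤ normalizer (pre Z : Set G) :=
      pre_norm le_rfl (le_top.trans (top_le_of_normal hZ))
    have h2 : W ≤ pre Z := by
      rw [le_pre_iff hWH, (im_eq_bot_iff hWH).2 hmapW.ge]; exact bot_le
    have h3 : pre Z ≤ V := by
      rw [← im_pre Z, im_le_iff (pre_le Z) hVH, hmapW, sup_eq_left.2 hV.lt.le] at hZV
      exact hZV
    rcases hV.min _ h1 h2 h3 with h4 | h4
    · left
      rw [← im_pre Z, h4, im_eq_bot_iff hWH, hmapW]
    · right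
      rw [← im_pre Z, h4]
  have hp : IsPGroup p ↥(im (W.subgroupOf H) V) := im_isPGroup ((isPGroup_pCoreOf p H).to_le hV.le)
  refine ⟨hnorm, ?_, hmin, ?_, im_mono h.YA, im_cen h.AH h.YH h.AY, ?_, ?_, ?_⟩
  · rcases hmin ⁅im (W.subgroupOf H) V, im (W.subgroupOf H) V⁆ inferInstance (commutator_le_left _ _) with h1 | h1
    · exact commutator_eq_bot_iff_le_centralizer.1 h1
    · rw [eq_bot_of_comm_self hp h1]; exact bot_le
  · intro h1
    apply hnc
    rw [← hmapW, ← im_eq_bot_iff (commutator_le_of_le hVH le_rfl), im_commutator hVH le_rfl,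
      commutator_eq_bot_iff_le_centralizer]
    exact h1.trans (center_le_centralizer _)
  · rw [← im_commutator hVH h.YH]
    apply im_cen h.AH (commutator_le_of_le hVH h.YH)
    refine h.AY.trans (cen_anti ?_)
    exact (commutator_mono hV.le le_rfl).trans h.KY
  · rw [← im_cj, ← im_sup h.cjYH h.AH, h.gen1, im_self]
  · rw [← im_cj, ← im_sup h.YH, h.gen2, im_self]
    rw [← h.cjH]; exact cj_mono h.AH

theorem normalW {V W : Subgroup G} (hV : Chief p H V W) : (W.subgroupOf H).Normal :=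
  (normal_subgroupOf_iff_le_normalizer (hV.lt.le.trans (hV.le.trans (pCoreOf_le p H)))).2 hV.nW

theorem comm_le_iff {V W B : Subgroup G} (hV : Chief p H V W) (hB : B ≤ H) [hN : (W.subgroupOf H).Normal] :
    ⁅im (W.subgroupOf H) V, im (W.subgroupOf H) B⁆ = ⊥ ↔ ⁅V, B⁆ ≤ W := by
  have hVH : V ≤ H := hV.le.trans (pCoreOf_le p H)
  have hWH : W ≤ H := hV.lt.le.trans hVH
  rw [← im_commutator hVH hB, im_eq_bot_iff (commutator_le_of_le hVH hB), Subgroup.map_subgroupOf_eq_of_le hWH]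

theorem pV {V W : Subgroup G} (hV : Chief p H V W) [hN : (W.subgroupOf H).Normal] :
    IsPGroup p ↥(im (W.subgroupOf H) V) := im_isPGroup ((isPGroup_pCoreOf p H).to_le hV.le)

/-- `⟨L₀, A⟩ < H`. -/
theorem sup_lt {V W : Subgroup G} (hV : Chief p H V W) (hnc : ¬ ⁅V, H⁆ ≤ W) {L₀ R : Subgroup G}
    (hR : IsPGroup p ↥R) (hYR : Y ≤ R) (hL : L₀ ≤ L) (hLR : L₀ ≤ normalizer (R : Set G)) (hRL : R ≤ L) :
    L₀ ⊔ A < H := by
  have hN := h.normalW hV
  refine lt_of_le_of_ne (sup_le (hL.trans h.LH) h.AH) fun h1 => ?_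
  have h2 := h.mdata hV hnc
  refine h2.sup_ne_top (h.pV hV) (im_isPGroup h.pA) (R := im _ R) (L₀ := im _ L₀) (im_isPGroup hR) (im_mono hYR)
    ?_ ?_ ?_ ?_
  · rw [h.imYL]; exact im_mono hL
  · exact im_norm (hL.trans h.LH) (hRL.trans h.LH) hLR
  · rw [h.imYL]; exact im_mono hRL
  · rw [← im_sup (hL.trans h.LH) h.AH, h1, im_self]

/-- (c) -/
theorem not_comm_le {V W : Subgroup G} (hV : Chief p H V W) (hnc : ¬ ⁅V, H⁆ ≤ W) {R : Subgroup G}
    (hRH : R ≤ H) (hR : L ≤ R ⊔ Y) : ¬ ⁅V, R⁆ ≤ W := by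
  have hN := h.normalW hV
  rw [← h.comm_le_iff hV hRH]
  have h2 := h.mdata hV hnc
  refine h2.not_cen (h.pV hV) (im_isPGroup h.pA) ?_
  rw [h.imYL, ← im_sup hRH h.YH]
  exact im_mono hR

/-- (d) -/
theorem comm_le_of {V W : Subgroup G} (hV : Chief p H V W) (hnc : ¬ ⁅V, H⁆ ≤ W) {D : Subgroup G}
    (hD : D ≤ Y) (hDn : D ≤ normalizer (cj g Y : Set G)) : ⁅V, D⁆ ≤ W := by
  have hN := h.normalW hV
  rw [← h.comm_le_iff hV (hD.trans h.YH)]
  refine (h.mdata hV hnc).cen_of (im_mono hD) ?_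
  rw [← im_cj]
  exact im_norm (hD.trans h.YH) h.cjYH hDn

/-- `[V, [⟨Y^P⟩, A]] ≤ W`, `P = ⟨L₀, A⟩`. -/
theorem comm_comm_le {V W : Subgroup G} (hV : Chief p H V W) (hnc : ¬ ⁅V, H⁆ ≤ W) {L₀ : Subgroup G}
    (hL : L₀ ≤ L) (hWA : ncl (L₀ ⊔ A) Y ≤ A) : ⁅V, ⁅ncl (L₀ ⊔ A) Y, A⁆⁆ ≤ W := by
  have hN := h.normalW hV
  have hWH := hWA.trans h.AH
  have hPH : L₀ ⊔ A ≤ H := sup_le (hL.trans h.LH) h.AH
  rw [← h.comm_le_iff hV (commutator_le_of_le hWH h.AH), im_commutator hWH h.AH]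
  refine (h.mdata hV hnc).comm_comm_eq_bot (L₀ := im _ L₀) ?_ (im_mono (le_ncl _ _)) (im_mono hWA) ?_ ?_
  · rw [h.imYL]; exact im_mono hL
  · exact im_norm (hL.trans h.LH) hWH (le_sup_left.trans (le_norm_ncl _ _))
  · refine (im_ncl_le hPH (h.YA.trans le_sup_right)).trans ?_
    rw [im_sup (hL.trans h.LH) h.AH]

end GData

end Cfsg.Agent.H231.AL
end

-- part: H231/ALMain
section
/-!
# The asymmetric L-lemma
-/

set_option autoImplicit false
set_option linter.unusedSectionVars false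

namespace Cfsg.Agent.H231.AL

open Cfsg Subgroup
open scoped commutatorElement
open Cfsg.Agent.H230 (resOf resOf_le mem_resOf_of_coprime resOf_eq_closure resOf_mono IsSylowOf exists_isSylowOf_ge
  le_normalizer_resOf)
open Cfsg.Agent.H229 (cj mem_cj cj_mono cj_le_of_norm mem_norm cj_comm cj_centralizer cj_inf cj_sup cj_inv_cj cj_cj_inv
  le_norm_iff_comm_le le_norm_iff mem_sup_of_norm cj_le_iff le_cj_iff cj_eq_bot le_centralizer_comm centralizer_le_norm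
  norm_le_norm_centralizer ncl cj_le_ncl le_ncl ncl_le_iff le_norm_ncl ncl_le card_cj cj_eq_of_le ChP
  isPGroup_pCoreOf pCoreOf_le le_norm_pCoreOf le_pCoreOf cj_normalizer cj_mul pCoreOf_inf_le cj_mem_self
  pCoreOf_le_pCoreOf ncl_le_self)

theorem exists_min {X : Type*} [Group X] [Finite X] {p : ℕ} [Fact p.Prime] {Y : Subgroup X} (hYp : IsPGroup p ↥Y)
    (hY : ¬ Y ≤ pCore p X) (hmin : ∀ K : Subgroup X, K ≠ ⊤ → Y ≤ K → Y ≤ pCoreOf p K) : IsMinimalOver Y := by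
  obtain ⟨M, hM, hYM, hu⟩ := Solvable.Zipper.zipper Y (fun K hK hYK => by
    have h1 := hmin K hK.ne hYK
    refine H568.Sn.subnormal_of_le_normal (p := p) (N := pCore p ↥K) (Lib.Cores.pCore_normal p)
      (Lib.Cores.pCore_isPGroup p) ?_
    intro x hx
    obtain ⟨y, hy, hyx⟩ := h1 (mem_subgroupOf.1 hx)
    rwa [← Subtype.ext hyx]) (fun hs => hY (PLocal.SubnormalCore.le_pCore_of_isSubnormal hs hYp))
  refine ⟨?_, M, ⟨hM, hYM⟩, fun K hK => hu K hK.1 hK.2⟩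
  by_contra hne
  apply hY
  have h1 := hmin _ hne subset_normalClosure
  have h2 : pCoreOf p (normalClosure (Y : Set X)) ≤ pCoreOf p (⊤ : Subgroup X) :=
    pCoreOf_le_pCoreOf le_top (top_le_of_normal normalClosure_normal)
  have h3 : pCoreOf p (⊤ : Subgroup X) ≤ pCore p X :=
    Lib.Cores.le_pCore (normal_of_top_le (le_norm_pCoreOf p ⊤)) (isPGroup_pCoreOf p ⊤)
  exact h1.trans (h2.trans h3)

variable {G : Type*} [Group G]

theorem comm_norm_of {K P B : Subgroup G} (h1 : ⁅K, B⁆ ≤ P) (h2 : P ≤ K) : B ≤ normalizer (P : Set G) := by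
  rw [le_norm_iff_comm_le, commutator_comm]
  exact (commutator_mono h2 le_rfl).trans h1

/-- Frattini argument for a weakly closed `p`-subgroup. -/
theorem frattini_wc {p : ℕ} [Finite G] [Fact p.Prime] {A P : Subgroup G} (hA : IsPGroup p ↥A) (hAP : A ≤ P)
    (wc : ∀ R : Subgroup G, IsPGroup p ↥R → A ≤ R → ∀ g : G, cj g A ≤ R → cj g A = A) {x : G} (hx : x ∈ P) :
    ∃ y ∈ ncl P A, ∃ n ∈ normalizer (A : Set G), x = y * n := by
  obtain ⟨T, hT, hAT⟩ := exists_isSylowOf_ge (p := p) (le_ncl P A) hA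
  have h1 : IsSylowOf p (cj x T) (cj x (ncl P A)) := hT.map_equiv (MulAut.conj x)
  rw [mem_norm.1 (le_norm_ncl P A hx)] at h1
  obtain ⟨c, hc, hcT⟩ := h1.exists_conj hT
  have h2 : cj (c * x) A ≤ T := by
    rw [cj_mul, ← hcT]
    exact cj_mono (cj_mono hAT)
  have h3 := wc T hT.isPGroup hAT _ h2
  exact ⟨c⁻¹, inv_mem hc, c * x, mem_norm.2 h3, by group⟩

theorem ncl_ncl_wc {p : ℕ} [Finite G] [Fact p.Prime] {A P : Subgroup G} (hA : IsPGroup p ↥A) (hAP : A ≤ P)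
    (wc : ∀ R : Subgroup G, IsPGroup p ↥R → A ≤ R → ∀ g : G, cj g A ≤ R → cj g A = A) :
    ncl (ncl P A) A = ncl P A := by
  apply le_antisymm (ncl_le_self (le_ncl P A))
  rw [ncl_le_iff]
  intro x hx
  obtain ⟨y, hy, n, hn, rfl⟩ := frattini_wc hA hAP wc hx
  rw [cj_mul, mem_norm.1 hn]
  exact cj_le_ncl hy

/-- the hypotheses of the asymmetric L-lemma -/
structure Hyp (p : ℕ) (A Y H L : Subgroup G) : Prop where
  pA : IsPGroup p ↥A
  YA : Y ≤ A
  AY : A ≤ centralizer (Y : Set G)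
  nrm : ∀ R : Subgroup G, IsPGroup p ↥R → A ≤ R → R ≤ normalizer (Y : Set G)
  inf : ∀ R : Subgroup G, IsPGroup p ↥R → A ≤ R → R ⊓ centralizer (Y : Set G) ≤ A
  nA : normalizer (A : Set G) ≤ normalizer (Y : Set G)
  wc : ∀ R : Subgroup G, IsPGroup p ↥R → A ≤ R → ∀ g : G, cj g A ≤ R → cj g A = A
  asym : ¬ IsSymmetricIn Y
  chp : ChP p H
  AH : A ≤ H
  YO : ¬ Y ≤ pCoreOf p H
  minH : ∀ P : Subgroup G, A ≤ P → P < H → Y ≤ pCoreOf p P
  LH : L ≤ H
  YL : Y ≤ L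
  YLO : ¬ Y ≤ pCoreOf p L
  minL : ∀ L' : Subgroup G, L' ≤ L → Y ≤ L' → ¬ Y ≤ pCoreOf p L' → L' = L

namespace Hyp

variable {p : ℕ} [Finite G] [Fact p.Prime] {A Y H L : Subgroup G} (h : Hyp p A Y H L)

include h

theorem YY : Y ≤ centralizer (Y : Set G) := h.YA.trans h.AY

theorem pY : IsPGroup p ↥Y := h.pA.to_le h.YA

theorem core_norm {P : Subgroup G} (hAP : A ≤ P) : pCoreOf p P ≤ normalizer (Y : Set G) :=
  le_sup_left.trans (h.nrm (pCoreOf p P ⊔ A)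
    (H229.isPGroup_sup_of_norm (isPGroup_pCoreOf p P) h.pA (hAP.trans (le_norm_pCoreOf p P))) le_sup_right)

theorem core_inf {P : Subgroup G} (hAP : A ≤ P) : pCoreOf p P ⊓ centralizer (Y : Set G) ≤ A :=
  (inf_le_inf_right _ le_sup_left).trans (h.inf (pCoreOf p P ⊔ A)
    (H229.isPGroup_sup_of_norm (isPGroup_pCoreOf p P) h.pA (hAP.trans (le_norm_pCoreOf p P))) le_sup_right)

theorem LA : L ⊔ A = H := by
  by_contra hne
  have hlt : L ⊔ A < H := lt_of_le_of_ne (sup_le h.LH h.AH) hne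
  exact h.YLO ((le_inf (h.minH _ le_sup_right hlt) h.YL).trans (pCoreOf_inf_le le_sup_left))

theorem minOver : IsMinimalOver (Y.subgroupOf L) := by
  apply exists_min (p := p) (h.pY.comap_of_injective L.subtype L.subtype_injective)
  · intro h1
    apply h.YLO
    have h2 := Subgroup.map_mono (f := L.subtype) h1
    rwa [show Y.comap L.subtype = Y.subgroupOf L from rfl, Subgroup.subgroupOf_map_subtype, inf_eq_left.2 h.YL] at h2
  · intro K hK hYK
    have h1 : K.map L.subtype ≤ L := Subgroup.map_subtype_le _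
    have h2 : Y ≤ K.map L.subtype := by
      have h3 := Subgroup.map_mono (f := L.subtype) hYK
      rwa [show Y.comap L.subtype = Y.subgroupOf L from rfl, Subgroup.subgroupOf_map_subtype,
        inf_eq_left.2 h.YL] at h3
    have h4 : Y ≤ pCoreOf p (K.map L.subtype) := by
      by_contra h5
      apply hK
      have h6 := h.minL _ h1 h2 h5
      apply Subgroup.map_injective L.subtype_injective
      rw [h6, ← MonoidHom.range_eq_map, range_subtype]
    have h7 : (pCoreOf p (K.map L.subtype)).subgroupOf L ≤ pCoreOf p K := by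
      apply le_pCoreOf
      · intro x hx
        obtain ⟨y, hy, hyx⟩ := pCoreOf_le _ _ (mem_subgroupOf.1 hx)
        rwa [← Subtype.ext hyx]
      · rw [le_norm_iff]
        intro k hk x hx
        rw [mem_subgroupOf] at hx ⊢
        exact (le_norm_iff.1 (le_norm_pCoreOf p (K.map L.subtype))) k ⟨k, hk, rfl⟩ x hx
      · exact (isPGroup_pCoreOf p _).comap_of_injective L.subtype L.subtype_injective
    exact le_trans (fun x hx => h4 hx) h7

theorem ncl_LY : ncl L Y = L := by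
  rw [← H229.normalClosure_map h.YL, h.minOver.1, ← MonoidHom.range_eq_map, range_subtype]

/-- existence of `L₀` -/
theorem exists_L₀ : ∃ L₀ : Subgroup G, L₀ < L ∧ Y ≤ L₀ ∧ ∀ X : Subgroup G, Y ≤ X → X < L → X ≤ L₀ := by
  obtain ⟨-, M, hM, hYM, hmax⟩ := H990.PIrr.isMinimalOver_iff.1 h.minOver
  refine ⟨M.map L.subtype, lt_of_le_of_ne (Subgroup.map_subtype_le _) ?_, ?_, ?_⟩
  · intro h1
    apply hM
    apply Subgroup.map_injective L.subtype_injective
    rw [h1, ← MonoidHom.range_eq_map, range_subtype]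
  · intro y hy
    exact ⟨⟨y, h.YL hy⟩, hYM hy, rfl⟩
  · intro X hYX hXL
    have h1 : X.subgroupOf L ≤ M := by
      apply hmax _ (Subgroup.comap_mono hYX)
      intro h2
      exact hXL.not_ge (subgroupOf_eq_top.1 h2)
    intro x hx
    exact ⟨⟨x, hXL.le hx⟩, h1 hx, rfl⟩

end Hyp

/-- hypotheses with a maximal `L₀` -/
structure Hyp0 (p : ℕ) (A Y H L L₀ : Subgroup G) : Prop extends Hyp p A Y H L where
  lt : L₀ < L
  YL₀ : Y ≤ L₀
  max : ∀ X : Subgroup G, Y ≤ X → X < L → X ≤ L₀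

namespace Hyp0

variable {p : ℕ} [Finite G] [Fact p.Prime] {A Y H L L₀ : Subgroup G} (h : Hyp0 p A Y H L L₀)

include h

theorem norm_L₀ : L ⊓ normalizer (L₀ : Set G) ≤ L₀ := by
  apply h.max _ (h.YL₀.trans (le_inf h.lt.le le_normalizer))
  refine lt_of_le_of_ne inf_le_left fun h1 => ?_
  have h2 : L ≤ normalizer (L₀ : Set G) := inf_eq_left.1 h1
  have h3 := ncl_le h2 h.YL₀
  rw [h.ncl_LY] at h3
  exact h.lt.not_ge h3

theorem sup_cj {g : G} (hg : g ∈ L) (hg0 : g ∉ L₀) : Y ⊔ cj g Y = L := by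
  by_contra hne
  have hle : Y ⊔ cj g Y ≤ L := sup_le h.YL ((cj_mono h.YL).trans (cj_mem_self hg).le)
  have h1 := h.max _ le_sup_left (lt_of_le_of_ne hle hne)
  have h2 : Y ≤ cj g⁻¹ L₀ := by rw [← cj_le_iff]; exact le_sup_right.trans h1
  have h3 : cj g⁻¹ L₀ < L := by
    refine lt_of_le_of_ne ?_ ?_
    · refine (cj_mono h.lt.le).trans (cj_mem_self (inv_mem hg)).le
    · intro h4
      have h5 := card_cj g⁻¹ L₀
      rw [h4] at h5
      exact h.lt.ne (Subgroup.eq_of_le_of_card_ge h.lt.le h5.le)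
  have h4 : g⁻¹ ∈ normalizer (L₀ : Set G) := mem_norm.2 (cj_eq_of_le (h.max _ h2 h3))
  exact hg0 (inv_mem_iff.1 (h.norm_L₀ (mem_inf.2 ⟨inv_mem hg, h4⟩)))

theorem gen1 {g : G} (hg : g ∈ L) (hg0 : g ∉ L₀) : cj g Y ⊔ A = H := by
  have hle : cj g Y ≤ L := (cj_mono h.YL).trans (cj_mem_self hg).le
  apply le_antisymm (sup_le (hle.trans h.LH) h.AH)
  rw [← h.LA, ← h.sup_cj hg hg0]
  exact sup_le (sup_le (h.YA.trans le_sup_right) le_sup_left) le_sup_right

theorem gen2 {g : G} (hg : g ∈ L) (hg0 : g ∉ L₀) : Y ⊔ cj g A = H := by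
  have h1 := h.gen1 (inv_mem hg) (fun h2 => hg0 (by simpa using h2))
  have h2 := congrArg (cj g) h1
  rwa [cj_sup, cj_cj_inv, cj_mem_self (h.LH hg)] at h2

theorem gdata {g : G} (hg : g ∈ L) (hg0 : g ∉ L₀) : GData p H A Y L g where
  pA := h.pA
  AH := h.AH
  YA := h.YA
  AY := h.AY
  KY := le_norm_iff_comm_le.1 (h.core_norm h.AH)
  gH := h.LH hg
  L_eq := h.sup_cj hg hg0
  gen1 := h.gen1 hg hg0
  gen2 := h.gen2 hg hg0

theorem exists_g : ∃ g ∈ L, g ∉ L₀ := SetLike.exists_of_lt h.lt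

theorem exists_noncentral : ∃ V W : Subgroup G, Chief p H V W ∧ ¬ ⁅V, H⁆ ≤ W := by
  by_contra hn
  apply h.YO
  refine h.YL.trans (h.LH.trans (le_pCoreOf_of_chief h.chp le_rfl fun V W hVW => ?_))
  by_contra h1
  exact hn ⟨V, W, hVW, h1⟩

/-- `⟨L₀, A⟩ < H`. -/
theorem P_lt : L₀ ⊔ A < H := by
  obtain ⟨g, hg, hg0⟩ := h.exists_g
  obtain ⟨V, W, hVW, hnc⟩ := h.exists_noncentral
  refine (h.gdata hg hg0).sup_lt hVW hnc (R := pCoreOf p L₀) (isPGroup_pCoreOf p L₀) ?_ h.lt.le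
    (le_norm_pCoreOf p L₀) ((pCoreOf_le p L₀).trans h.lt.le)
  by_contra h1
  exact h.lt.ne (h.minL L₀ h.lt.le h.YL₀ h1)

theorem Y_le_P : Y ≤ pCoreOf p (L₀ ⊔ A) := h.minH _ le_sup_right h.P_lt

theorem YleP : Y ≤ L₀ ⊔ A := h.YL₀.trans le_sup_left

theorem W_le_core : ncl (L₀ ⊔ A) Y ≤ pCoreOf p (L₀ ⊔ A) := ncl_le (le_norm_pCoreOf _ _) h.Y_le_P

theorem W_cen : ncl (L₀ ⊔ A) Y ≤ centralizer (Y : Set G) := by
  rw [ncl_le_iff]
  intro x hx
  have h1 : pCoreOf p (L₀ ⊔ A) ≤ normalizer (Y : Set G) := h.core_norm le_sup_right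
  apply H229.comm_of_asym h.asym
  · exact ((cj_mono h.Y_le_P).trans (cj_le_of_norm (le_norm_pCoreOf _ _ hx))).trans h1
  · rw [← cj_normalizer]
    refine le_trans ?_ (cj_mono h1)
    rw [mem_norm.1 (le_norm_pCoreOf p _ hx)]
    exact h.Y_le_P

theorem W_ab : ncl (L₀ ⊔ A) Y ≤ centralizer ((ncl (L₀ ⊔ A) Y : Subgroup G) : Set G) :=
  ncl_le ((le_norm_ncl _ _).trans (norm_le_norm_centralizer _)) (le_centralizer_comm h.W_cen)

theorem W_le_A : ncl (L₀ ⊔ A) Y ≤ A := (le_inf h.W_le_core h.W_cen).trans (h.core_inf le_sup_right)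

theorem comm_WA : ⁅ncl (L₀ ⊔ A) Y, A⁆ ≤ pCoreOf p H := by
  obtain ⟨g, hg, hg0⟩ := h.exists_g
  have hD : ⁅ncl (L₀ ⊔ A) Y, A⁆ ≤ H := commutator_le_of_le (h.W_le_A.trans h.AH) h.AH
  apply le_pCoreOf_of_chief h.chp hD
  intro V W hVW
  by_cases hc : ⁅V, H⁆ ≤ W
  · exact (commutator_mono le_rfl hD).trans hc
  · exact (h.gdata hg hg0).comm_comm_le hVW hc h.lt.le h.W_le_A

theorem K_norm_Y : pCoreOf p H ≤ normalizer (Y : Set G) := h.core_norm h.AH

theorem E_le_Y : ⁅pCoreOf p H, Y⁆ ≤ Y := le_norm_iff_comm_le.1 h.K_norm_Y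

theorem K_norm : H ≤ normalizer (pCoreOf p H : Set G) := le_norm_pCoreOf p H

theorem YH : Y ≤ H := h.YA.trans h.AH

theorem comm_K_le {B : Subgroup G} (hB : B ≤ H) : ⁅pCoreOf p H, B⁆ ≤ pCoreOf p H := by
  rw [commutator_comm]; exact le_norm_iff_comm_le.1 (hB.trans h.K_norm)

theorem cj_E {x : G} (hx : x ∈ H) : cj x ⁅pCoreOf p H, Y⁆ = ⁅pCoreOf p H, cj x Y⁆ := by
  rw [cj_comm, mem_norm.1 (h.K_norm hx)]

theorem cj_YL {g : G} (hg : g ∈ L) : cj g Y ≤ L := (cj_mono h.YL).trans (cj_mem_self hg).le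

theorem comm_KL {g : G} (hg : g ∈ L) (hg0 : g ∉ L₀) :
    ⁅pCoreOf p H, L⁆ ≤ ⁅pCoreOf p H, Y⁆ ⊔ cj g ⁅pCoreOf p H, Y⁆ := by
  have hle : ⁅pCoreOf p H, Y⁆ ⊔ cj g ⁅pCoreOf p H, Y⁆ ≤ pCoreOf p H := by
    refine sup_le (h.comm_K_le h.YH) ?_
    rw [h.cj_E (h.LH hg)]
    exact h.comm_K_le ((h.cj_YL hg).trans h.LH)
  have h1 : ⁅pCoreOf p H, Y⁆ ≤ ⁅pCoreOf p H, Y⁆ ⊔ cj g ⁅pCoreOf p H, Y⁆ := le_sup_left
  have h2 : ⁅pCoreOf p H, cj g Y⁆ ≤ ⁅pCoreOf p H, Y⁆ ⊔ cj g ⁅pCoreOf p H, Y⁆ := by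
    rw [← h.cj_E (h.LH hg)]; exact le_sup_right
  nth_rewrite 1 [← h.sup_cj hg hg0]
  exact commutator_sup_le (comm_norm_of h1 hle) (comm_norm_of h2 hle) h1 h2

theorem cjE_cen {g : G} (hg : g ∈ L) (hg0 : g ∉ L₀) :
    cj g ⁅pCoreOf p H, Y⁆ ⊓ centralizer (Y : Set G) ≤ ⁅pCoreOf p H, Y⁆ := by
  intro e he
  rw [mem_inf] at he
  have h1 : H ≤ centralizer ({e} : Set G) := by
    rw [← h.gen2 hg hg0]
    refine sup_le ?_ ?_
    · intro y hy
      rw [mem_centralizer_singleton_iff]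
      exact mem_centralizer_iff.1 he.2 y hy
    · have h2 : cj g A ≤ centralizer (cj g ⁅pCoreOf p H, Y⁆ : Set G) := by
        rw [← cj_centralizer]
        exact cj_mono (h.AY.trans (cen_anti h.E_le_Y))
      intro y hy
      rw [mem_centralizer_singleton_iff]
      exact (mem_centralizer_iff.1 (h2 hy) e he.1).symm
  have h3 := mem_centralizer_singleton_iff.1 (h1 (h.LH hg))
  have h4 := mem_cj.1 he.1
  rwa [mul_assoc, ← h3, inv_mul_cancel_left] at h4

theorem K_norm_E : pCoreOf p H ≤ normalizer ((⁅pCoreOf p H, Y⁆ : Subgroup G) : Set G) := le_normalizer_commutator_left _ _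

theorem cjE_le_K {g : G} (hg : g ∈ L) : cj g ⁅pCoreOf p H, Y⁆ ≤ pCoreOf p H := by
  rw [h.cj_E (h.LH hg)]
  exact h.comm_K_le ((h.cj_YL hg).trans h.LH)

theorem EE_cen {g : G} (hg : g ∈ L) (hg0 : g ∉ L₀) :
    (⁅pCoreOf p H, Y⁆ ⊔ cj g ⁅pCoreOf p H, Y⁆) ⊓ centralizer (Y : Set G) ≤ ⁅pCoreOf p H, Y⁆ := by
  intro x hx
  rw [mem_inf, mem_sup_of_norm ((h.cjE_le_K hg).trans h.K_norm_E)] at hx
  obtain ⟨⟨e, he, c, hc, rfl⟩, h2⟩ := hx
  have h3 : c ∈ centralizer (Y : Set G) := by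
    have e1 : c = e⁻¹ * (e * c) := by group
    rw [e1]
    exact mul_mem (inv_mem (h.YY (h.E_le_Y he))) h2
  exact mul_mem he (h.cjE_cen hg hg0 (mem_inf.2 ⟨hc, h3⟩))

theorem KC_le {g : G} (hg : g ∈ L) (hg0 : g ∉ L₀) :
    pCoreOf p H ⊓ centralizer (Y : Set G) ≤ ⁅pCoreOf p H, Y⁆ ⊔ (pCoreOf p H ⊓ centralizer (L : Set G)) := by
  intro k hk
  rw [mem_inf] at hk
  have h1 : ⁅k⁻¹, g⁆ ∈ ⁅pCoreOf p H, L⁆ := commutator_mem_commutator (inv_mem hk.1) hg
  have h2 := h.comm_KL hg hg0 h1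
  rw [mem_sup_of_norm ((h.cjE_le_K hg).trans h.K_norm_E)] at h2
  obtain ⟨e, he, c, hc, h3⟩ := h2
  have h4 : k * e = (g * k * g⁻¹) * c⁻¹ := by
    have : e = ⁅k⁻¹, g⁆ * c⁻¹ := by rw [← h3]; group
    rw [this, commutatorElement_def]; group
  have h5 : k * e ∈ centralizer (Y : Set G) := mul_mem hk.2 (h.YY (h.E_le_Y he))
  have h6 : k * e ∈ centralizer (cj g Y : Set G) := by
    rw [h4]
    refine mul_mem ?_ (inv_mem ?_)
    · rw [← cj_centralizer]; exact H229.conj_mem_cj hk.2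
    · rw [← cj_centralizer]
      exact cj_mono (h.E_le_Y.trans h.YY) hc
  have h7 : L ≤ centralizer ({k * e} : Set G) := by
    rw [← h.sup_cj hg hg0]
    refine sup_le ?_ ?_
    · intro y hy; rw [mem_centralizer_singleton_iff]; exact mem_centralizer_iff.1 h5 y hy
    · intro y hy; rw [mem_centralizer_singleton_iff]; exact mem_centralizer_iff.1 h6 y hy
  have h8 : k * e ∈ pCoreOf p H ⊓ centralizer (L : Set G) := by
    refine mem_inf.2 ⟨mul_mem hk.1 (h.comm_K_le h.YH he), ?_⟩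
    exact mem_centralizer_iff.2 fun y hy => mem_centralizer_singleton_iff.1 (h7 hy)
  have h9 : k = (k * e) * e⁻¹ := by group
  rw [h9]
  exact mul_mem (mem_sup_right h8) (mem_sup_left (inv_mem he))

theorem P_norm_E : L₀ ⊔ A ≤ normalizer ((⁅pCoreOf p H, Y⁆ : Subgroup G) : Set G) := by
  obtain ⟨g, hg, hg0⟩ := h.exists_g
  refine sup_le ?_ ((h.AY.trans (cen_anti h.E_le_Y)).trans (centralizer_le_norm _))
  intro x hx
  rw [mem_norm]
  apply cj_eq_of_le
  have hxL := h.lt.le hx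
  refine le_trans (le_inf ?_ ?_) (h.EE_cen hg hg0)
  · rw [h.cj_E (h.LH hxL)]
    exact (commutator_mono le_rfl (h.cj_YL hxL)).trans (h.comm_KL hg hg0)
  · refine (cj_mono h.E_le_Y).trans ?_
    exact (cj_le_ncl (mem_sup_left hx)).trans h.W_cen

theorem P_le_H : L₀ ⊔ A ≤ H := h.P_lt.le

/-- `U = W ∩ O_p(H)` -/
theorem P_norm_U : L₀ ⊔ A ≤ normalizer ((ncl (L₀ ⊔ A) Y ⊓ pCoreOf p H : Subgroup G) : Set G) :=
  le_normalizer_inf (le_norm_ncl _ _) (h.P_le_H.trans h.K_norm)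

theorem comm_UL₀ : ⁅ncl (L₀ ⊔ A) Y ⊓ pCoreOf p H, L₀⁆ ≤ ⁅pCoreOf p H, Y⁆ := by
  obtain ⟨g, hg, hg0⟩ := h.exists_g
  rw [commutator_le]
  intro u hu x hx
  rw [mem_inf] at hu
  have h1 := h.KC_le hg hg0 (mem_inf.2 ⟨hu.2, h.W_cen hu.1⟩)
  rw [mem_sup_of_norm (inf_le_left.trans h.K_norm_E)] at h1
  obtain ⟨e, he, c, hc, rfl⟩ := h1
  rw [mem_inf] at hc
  have h2 : c * x = x * c := ((mem_centralizer_iff.1 hc.2) x (h.lt.le hx)).symm
  have h3 : ⁅e * c, x⁆ = e * (x * e⁻¹ * x⁻¹) := by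
    rw [commutatorElement_def]
    calc e * c * x * (e * c)⁻¹ * x⁻¹ = e * (c * x) * c⁻¹ * e⁻¹ * x⁻¹ := by group
      _ = e * (x * c) * c⁻¹ * e⁻¹ * x⁻¹ := by rw [h2]
      _ = _ := by group
  rw [h3]
  exact mul_mem he ((le_norm_iff.1 h.P_norm_E) x (mem_sup_left hx) _ (inv_mem he))

theorem comm_U_res : ⁅ncl (L₀ ⊔ A) Y ⊓ pCoreOf p H, resOf p (L₀ ⊔ A)⁆ ≤ ⁅pCoreOf p H, Y⁆ := by
  have h1 : resOf p (L₀ ⊔ A) ≤ ncl (L₀ ⊔ A) L₀ := by
    apply resOf_le_of_sup_eq h.pA (le_sup_right.trans (le_norm_ncl _ _))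
    exact sup_le_sup_right (le_ncl _ _) _
  refine (commutator_mono le_rfl h1).trans ?_
  apply commutator_iSup_le
  · rintro ⟨x, hx⟩
    show cj x L₀ ≤ _
    exact ((cj_mono le_sup_left).trans (cj_le_of_norm (le_normalizer hx))).trans h.P_norm_E
  · rintro ⟨x, hx⟩
    show ⁅_, cj x L₀⁆ ≤ _
    rw [← mem_norm.1 (h.P_norm_U hx), ← cj_comm]
    exact (cj_mono h.comm_UL₀).trans (cj_le_of_norm (h.P_norm_E hx))

theorem comm_W_ncl : ⁅ncl (L₀ ⊔ A) Y, ncl (L₀ ⊔ A) A⁆ ≤ ncl (L₀ ⊔ A) Y ⊓ pCoreOf p H := by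
  have h0 : ⁅ncl (L₀ ⊔ A) Y, A⁆ ≤ ncl (L₀ ⊔ A) Y ⊓ pCoreOf p H := by
    refine le_inf ?_ h.comm_WA
    rw [commutator_comm]
    exact le_norm_iff_comm_le.1 (le_sup_right.trans (le_norm_ncl _ _))
  apply commutator_iSup_le
  · rintro ⟨x, hx⟩
    show cj x A ≤ _
    exact ((cj_mono le_sup_right).trans (cj_le_of_norm (le_normalizer hx))).trans h.P_norm_U
  · rintro ⟨x, hx⟩
    show ⁅_, cj x A⁆ ≤ _
    have h1 : cj x (ncl (L₀ ⊔ A) Y) = ncl (L₀ ⊔ A) Y := mem_norm.1 (le_norm_ncl _ _ hx)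
    nth_rewrite 1 [← h1]
    rw [← cj_comm]
    exact (cj_mono h0).trans (cj_le_of_norm (h.P_norm_U hx))

/-- `P° ≤ C(Y)`. -/
theorem ncl_A_cen : ncl (L₀ ⊔ A) A ≤ centralizer (Y : Set G) := by
  have h1 : ncl (L₀ ⊔ A) A ≤ L₀ ⊔ A := ncl_le_self le_sup_right
  have h2 : resOf p (ncl (L₀ ⊔ A) A) ⊔ A = ncl (L₀ ⊔ A) A :=
    H229.sup_eq_of_ncl (p := p) (resOf_le p _) (le_normalizer_resOf p _) (fun _ hx => H229.pow_mem_resOf hx)
      (le_ncl _ _) (ncl_ncl_wc h.pA le_sup_right h.wc)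
  have h3 : ncl (L₀ ⊔ A) A ≤ centralizer ((⁅pCoreOf p H, Y⁆ : Subgroup G) : Set G) :=
    ncl_le (h.P_norm_E.trans (norm_le_norm_centralizer _)) (h.AY.trans (cen_anti h.E_le_Y))
  set R := resOf p (ncl (L₀ ⊔ A) A) with hR
  have hRP : R ≤ ncl (L₀ ⊔ A) A := resOf_le p _
  have hRR : resOf p R = R := resOf_resOf _
  have hpW : IsPGroup p ↥(ncl (L₀ ⊔ A) Y) := h.pA.to_le h.W_le_A
  have h4 : ⁅ncl (L₀ ⊔ A) Y ⊓ pCoreOf p H, R⁆ ≤ ⁅pCoreOf p H, Y⁆ :=
    (commutator_mono le_rfl (resOf_mono h1)).trans h.comm_U_res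
  have h5 : R ≤ centralizer ((ncl (L₀ ⊔ A) Y ⊓ pCoreOf p H : Subgroup G) : Set G) := by
    have h6 := resOf_cen_of_chain (p := p) (D := R) (N := ncl (L₀ ⊔ A) Y ⊓ pCoreOf p H)
      (N₂ := ⁅pCoreOf p H, Y⁆) (hpW.to_le inf_le_left) h4
      (le_inf (h.E_le_Y.trans (le_ncl _ _)) (h.comm_K_le h.YH)) (by rw [hRR]; exact hRP.trans h3)
    rwa [hRR] at h6
  have h7 : R ≤ centralizer ((ncl (L₀ ⊔ A) Y : Subgroup G) : Set G) := by
    have h6 := resOf_cen_of_chain (p := p) (D := R) (N := ncl (L₀ ⊔ A) Y)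
      (N₂ := ncl (L₀ ⊔ A) Y ⊓ pCoreOf p H) hpW ((commutator_mono le_rfl hRP).trans h.comm_W_ncl)
      inf_le_left (by rw [hRR]; exact h5)
    rwa [hRR] at h6
  rw [← h2]
  exact sup_le (h7.trans (cen_anti (le_ncl _ _))) h.AY

theorem P_norm_Y : L₀ ⊔ A ≤ normalizer (Y : Set G) := by
  intro x hx
  obtain ⟨y, hy, n, hn, rfl⟩ := frattini_wc h.pA le_sup_right h.wc hx
  exact mul_mem (centralizer_le_norm _ (h.ncl_A_cen hy)) (h.nA hn)

theorem L_not_norm : ¬ L ≤ normalizer (Y : Set G) := fun h1 => h.YLO (le_pCoreOf h.YL h1 h.pY)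

/-- `L₀ = N_L(Y)` -/
theorem L₀_eq : L₀ = L ⊓ normalizer (Y : Set G) := by
  apply le_antisymm (le_inf h.lt.le (le_sup_left.trans h.P_norm_Y))
  apply h.max _ (le_inf h.YL le_normalizer)
  exact lt_of_le_of_ne inf_le_left fun h1 => h.L_not_norm (inf_eq_left.1 h1)

theorem not_mem {g : G} (hg : g ∉ normalizer (Y : Set G)) : g ∉ L₀ := by
  rw [h.L₀_eq, mem_inf]
  exact fun h1 => hg h1.2

/-- `L` has characteristic `p`. -/
theorem chp_L : ChP p L := by
  obtain ⟨g, hg, hg0⟩ := h.exists_g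
  set K := pCoreOf p H with hK
  have h1 : ⁅K, L⁆ ≤ L := by
    refine (h.comm_KL hg hg0).trans (sup_le (h.E_le_Y.trans h.YL) ?_)
    exact (cj_mono h.E_le_Y).trans (h.cj_YL hg)
  have h2 : ⁅K, L⁆ ≤ pCoreOf p L :=
    le_pCoreOf h1 (le_normalizer_commutator_right _ _) ((isPGroup_pCoreOf p H).to_le (h.comm_K_le h.LH))
  have h3 := resOf_cen_of_chain (p := p) (D := L ⊓ centralizer (pCoreOf p L : Set G)) (N := K) (N₂ := ⁅K, L⁆)
    (isPGroup_pCoreOf p H) (commutator_mono le_rfl inf_le_left) (h.comm_K_le h.LH)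
    ((resOf_le p _).trans (inf_le_right.trans (cen_anti h2)))
  have h4 : resOf p (L ⊓ centralizer (pCoreOf p L : Set G)) ≤ pCoreOf p H :=
    (le_inf ((resOf_le p _).trans (inf_le_left.trans h.LH)) h3).trans h.chp
  have h5 : IsPGroup p ↥(L ⊓ centralizer (pCoreOf p L : Set G) : Subgroup G) :=
    isPGroup_of_resOf_eq_bot (resOf_eq_bot ((isPGroup_pCoreOf p H).to_le h4))
  refine le_pCoreOf inf_le_left ?_ h5
  exact le_normalizer_inf le_normalizer ((le_norm_pCoreOf p L).trans (norm_le_norm_centralizer _))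

theorem L_eq_res : resOf p L ⊔ Y = L :=
  H229.sup_eq_of_ncl (p := p) (resOf_le p _) (le_normalizer_resOf p _) (fun _ hx => H229.pow_mem_resOf hx)
    h.YL h.ncl_LY

theorem not_comm_le {V W : Subgroup G} (hV : Chief p H V W) (hnc : ¬ ⁅V, H⁆ ≤ W) : ¬ ⁅V, resOf p L⁆ ≤ W := by
  obtain ⟨g, hg, hg0⟩ := h.exists_g
  exact (h.gdata hg hg0).not_comm_le hV hnc ((resOf_le p L).trans h.LH) h.L_eq_res.ge

theorem core_L_norm : pCoreOf p L ≤ normalizer (Y : Set G) := by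
  have h1 : Y ⊔ pCoreOf p L ≤ L := sup_le h.YL (pCoreOf_le p L)
  have h2 : Y ⊔ pCoreOf p L ≤ L₀ := by
    apply h.max _ le_sup_left
    refine lt_of_le_of_ne h1 fun h3 => ?_
    apply h.YLO
    have h4 : IsPGroup p ↥(pCoreOf p L ⊔ Y : Subgroup G) :=
      H229.isPGroup_sup_of_norm (isPGroup_pCoreOf p L) h.pY (h.YL.trans (le_norm_pCoreOf p L))
    rw [sup_comm, h3] at h4
    exact h.YL.trans (le_pCoreOf le_rfl le_normalizer h4)
  refine (le_sup_right.trans h2).trans ?_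
  rw [h.L₀_eq]; exact inf_le_right

theorem ncl_le_core : ncl L (pCoreOf p L ⊓ Y) ≤ pCoreOf p H := by
  obtain ⟨g, hg, hg0⟩ := h.exists_g
  apply ncl_le (h.LH.trans h.K_norm)
  apply le_pCoreOf_of_chief h.chp (inf_le_right.trans h.YH)
  intro V W hVW
  by_cases hc : ⁅V, H⁆ ≤ W
  · exact (commutator_mono le_rfl (inf_le_right.trans h.YH)).trans hc
  · apply (h.gdata hg hg0).comm_le_of hVW hc inf_le_right
    refine inf_le_left.trans ?_
    rw [← mem_norm.1 (le_norm_pCoreOf p L hg), ← cj_normalizer]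
    exact cj_mono h.core_L_norm

end Hyp0

end Cfsg.Agent.H231.AL
end

-- part: S2862
section
set_option autoImplicit false
open Cfsg

namespace Cfsg.Agent.S2862

/-- Standing hypotheses: G a finite group, S a Sylow p-subgroup, Q a nontrivial large p-subgroup of G contained in S, M a subgroup containing S with the basic property (M ∈ 𝔐_G(S)); Y_M the largest p-reduced normal subgroup of M and M† = M·C_G(Y_M). Suppose Y_M is char-p-tall and asymmetric in G, H ∈ ℌ_G(O_p(M)), and L is minimal among the subgroups of H containing Y_M with Y_M ≰ O_p(L). Then H = ⟨L, O_p(M)⟩ = ⟨hY_Mh⁻¹, O_p(M)⟩ for every h ∈ L outside N_L(Y_M); L is Y_M-minimal and of characteristic p, with N_L(Y_M) the unique maximal subgroup of L containing Y_M; [V, O^p(L)] ≠ 1 for every noncentral chief factor V/W of H inside O_p(H) (that is, O^p(L) does not act trivially on V/W); and the normal closure of O_p(L) ∩ Y_M in L lies in O_p(H).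 -/
theorem result {G : Type*} [Group G] [Finite G] {p : ℕ} [Fact p.Prime] (S : Sylow p G) (Q : Subgroup G) (hQp : IsPGroup p ↥Q) (hQ1 : Q ≠ ⊥) (hQS : Q ≤ (S : Subgroup G)) (hQ : Cfsg.IsLarge Q) (M : Subgroup G) (hSM : (S : Subgroup G) ≤ M) (hM : Cfsg.IsInFrakM p M) (htall : Cfsg.IsCharPTall p (Cfsg.largestPReducedOf p M)) (hasym : ¬ Cfsg.IsSymmetricIn (Cfsg.largestPReducedOf p M)) (H : Subgroup G) (hH : Cfsg.IsInFrakH p M H) (L : Subgroup G) (hLH : L ≤ H) (hYL : (Cfsg.largestPReducedOf p M) ≤ L) (hYO : ¬ (Cfsg.largestPReducedOf p M) ≤ (Cfsg.pCoreOf p L)) (hmin : ∀ L' : Subgroup G, L' ≤ L → (Cfsg.largestPReducedOf p M) ≤ L' → ¬ (Cfsg.largestPReducedOf p M) ≤ (Cfsg.pCoreOf p L') → L' = L) : (L ⊔ (Cfsg.pCoreOf p M) = H ∧ ∀ h ∈ L, h ∉ Subgroup.normalizer (((Cfsg.largestPReducedOf p M) : Subgroup G) : Set G) → (((Cfsg.largestPReducedOf p M) : Subgroup G).map (MulAut.conj (h : G)).toMonoidHom) ⊔ (Cfsg.pCoreOf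 p M) = H) ∧ (Cfsg.IsMinimalOver (((Cfsg.largestPReducedOf p M)).subgroupOf L) ∧ Subgroup.centralizer (Cfsg.pCore p ↥L : Set ↥L) ≤ Cfsg.pCore p ↥L ∧ L ⊓ Subgroup.normalizer (((Cfsg.largestPReducedOf p M) : Subgroup G) : Set G) < L ∧ ∀ X : Subgroup G, (Cfsg.largestPReducedOf p M) ≤ X → X < L → X ≤ L ⊓ Subgroup.normalizer (((Cfsg.largestPReducedOf p M) : Subgroup G) : Set G)) ∧ (∀ V W' : Subgroup G, V ≤ (Cfsg.pCoreOf p H) → H ≤ Subgroup.normalizer ((V : Subgroup G) : Set G) → H ≤ Subgroup.normalizer ((W' : Subgroup G) : Set G) → W' < V → (∀ Z' : Subgroup G, H ≤ Subgroup.normalizer ((Z' : Subgroup G) : Set G) → W' ≤ Z' → Z' ≤ V → Z' = W' ∨ Z' = V) → ¬ ⁅V, H⁆ ≤ W' → ¬ ⁅V, ((Cfsg.pResidual p ↥L).map (L).subtype)⁆ ≤ W') ∧ (Subgroup.normalClosure (((((Cfsg.pCoreOf p L) ⊓ (Cfsg.largestPReducedOf p M)).subgroupOf L : Subgroup ↥L)) : Set ↥L)).map L.subtype ≤ (Cfsg.pCoreOf p H) := by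
  have h : H229.Setup p S Q M := ⟨⟨hQp, hQ1, hQ⟩, hQS, hSM, hM⟩
  have hyp : H231.AL.Hyp p (pCoreOf p M) (largestPReducedOf p M) H L :=
    { pA := H229.isPGroup_pCoreOf p M
      YA := H229.largest_le_pCoreOf p M
      AY := H229.pCoreOf_le_centralizer_largest p M
      nrm := fun R hR hAR => (h.le_dag_of_core_le hasym hR hAR).trans H229.Setup.dag_le_norm
      inf := fun R hR hAR => (h.inf_cent_eq' hasym hR hAR).le
      nA := h.norm_core_le.trans H229.Setup.dag_le_norm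
      wc := fun R hR hAR g hg => h.core_weaklyClosed hasym hR hAR hg
      asym := hasym
      chp := H229.chP_iff.2 hH.1
      AH := hH.2.1
      YO := hH.2.2.1
      minH := hH.2.2.2
      LH := hLH
      YL := hYL
      YLO := hYO
      minL := hmin }
  obtain ⟨L₀, hlt, hYL₀, hmax⟩ := hyp.exists_L₀
  have h0 : H231.AL.Hyp0 p (pCoreOf p M) (largestPReducedOf p M) H L L₀ := ⟨hyp, hlt, hYL₀, hmax⟩
  refine ⟨⟨hyp.LA, fun g hg hgn => h0.gen1 hg (h0.not_mem hgn)⟩,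
    ⟨hyp.minOver, H229.chP_iff.1 h0.chp_L, ?_, fun X hX hXL => ?_⟩, ?_, ?_⟩
  · rw [← h0.L₀_eq]; exact hlt
  · rw [← h0.L₀_eq]; exact hmax X hX hXL
  · intro V W' hV h1 h2 h3 h4 hnc
    exact h0.not_comm_le ⟨hV, h1, h2, h3, h4⟩ hnc
  · rw [H229.normalClosure_map (inf_le_left.trans (H229.pCoreOf_le p L))]
    exact h0.ncl_le_core

end Cfsg.Agent.S2862
end
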