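import Cfsg.Agent.H227.YMin2
import Cfsg.Agent.Lib.AutSL2
import Mathlib.GroupTheory.SpecificGroups.Dihedral
import Cfsg.Agent.OddCyclic.ClaimC.Sz
import Cfsg.Statements.S2863
import Cfsg.Agent.H224.YL
set_option linter.all false

-- part: H227/FrakL
section
/-!
# The action of a `Y`-minimal group `L` on `O_p(L)/C_Y(L)`

Setting: `L` of characteristic `p`, `Y`-minimal, `N_L(Y)` maximal, `Y` elementary abelian, `P = O_p(L)` normalizes
`Y` and is the normal closure of `P ∩ Y`; `Z = Y ∩ Z(L)`.  We prove that a product of two elements of `L ∖ P` lying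
in two different conjugates of `Y` has no nontrivial fixed point on `P/Z`.
-/

set_option autoImplicit false
set_option linter.unusedSectionVars false

namespace Cfsg.Agent.H227.FrakL

open Subgroup Cfsg
open Cfsg.Agent.H227.Weak (cj mem_cj cj_cj cj_eq_self_iff cj_le_iff cj_mono cj_cj_inv cj_inv_cj
  conj_mem_cj cj_eq_iff cj_inj cj_normal cj_sup cj_inf cj_eq_self_of_mem cj_commutator cj_one)

/-- the setting -/
structure Setup (p : ℕ) {L : Type*} [Group L] (Y : Subgroup L) : Prop where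
  char : centralizer (pCore p L : Set L) ≤ pCore p L
  coatom : IsCoatom (normalizer (Y : Set L))
  el : IsElementaryAbelian p Y
  min : IsMinimalOver Y
  norm : pCore p L ≤ normalizer (Y : Set L)
  gen : pCore p L = normalClosure (((pCore p L ⊓ Y : Subgroup L)) : Set L)

/-- `h` acts on `P/Z` without nontrivial fixed points -/
def Fp (p : ℕ) {L : Type*} [Group L] (Y : Subgroup L) (h : L) : Prop :=
  ∀ x ∈ pCore p L, h * x * h⁻¹ * x⁻¹ ∈ Y ⊓ center L → x ∈ Y ⊓ center L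

variable {L : Type*} [Group L] [Finite L] {p : ℕ} [hp : Fact p.Prime] {Y : Subgroup L}

theorem mem_center_comm {x : L} (hx : x ∈ Y ⊓ center L) (y : L) : y * x = x * y :=
  mem_center_iff.1 hx.2 y

theorem Z_normal (Y : Subgroup L) : (Y ⊓ center L).Normal := by
  constructor
  intro x hx y
  rw [mem_center_comm hx y, mul_inv_cancel_right]
  exact hx

theorem cj_Z (g : L) (Y : Subgroup L) : cj g (Y ⊓ center L) = Y ⊓ center L := by
  have := Z_normal Y
  exact cj_normal g _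

theorem Z_le_cj (g : L) (Y : Subgroup L) : Y ⊓ center L ≤ cj g Y := by
  rw [← cj_Z g Y]
  exact cj_mono g inf_le_left

namespace Setup

variable (S : Setup p Y)
include S

theorem exists_not_mem : ∃ g : L, g ∉ normalizer (Y : Set L) := by
  by_contra! h
  exact S.coatom.1 (eq_top_iff.2 fun g _ => h g)

theorem Pn : (pCore p L).Normal := Lib.Cores.pCore_normal p

theorem Z_le_P : Y ⊓ center L ≤ pCore p L := by
  refine inf_le_right.trans (le_trans ?_ S.char)
  intro z hz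
  rw [mem_centralizer_iff]
  intro x _
  exact mem_center_iff.1 hz x

theorem main {g : L} (hg : g ∉ normalizer (Y : Set L)) :
    ⁅pCore p L, pCore p L⁆ ≤ Y ⊓ center L ∧ Y ⊓ cj g Y = Y ⊓ center L := by
  obtain ⟨-, h1, -, h2, h3, -⟩ :=
    YMin.commutators S.char _ S.coatom Y le_normalizer S.el S.min S.norm _ S.gen g hg
  rw [← h1] at h2
  exact ⟨h2, h3⟩

theorem comm_mem {x y : L} (hx : x ∈ pCore p L) (hy : y ∈ pCore p L) :
    x * y * x⁻¹ * y⁻¹ ∈ Y ⊓ center L := by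
  obtain ⟨g, hg⟩ := S.exists_not_mem
  exact (S.main hg).1 (commutator_mem_commutator hx hy)

theorem inf_cj {g : L} (hg : g ∉ normalizer (Y : Set L)) : Y ⊓ cj g Y = Y ⊓ center L :=
  (S.main hg).2

theorem cj_inf_cj {a b : L} (hab : cj a Y ≠ cj b Y) : cj a Y ⊓ cj b Y = Y ⊓ center L := by
  have h1 : a⁻¹ * b ∉ normalizer (Y : Set L) := by
    intro h
    apply hab
    rw [← cj_eq_self_iff, ← cj_cj, cj_eq_iff, inv_inv] at h
    exact h.symm
  have h2 := congrArg (cj a) (S.inf_cj h1)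
  rwa [Weak.cj_inf, cj_cj, mul_inv_cancel_left, cj_Z] at h2

theorem P_le_norm_cj (g : L) : pCore p L ≤ normalizer ((cj g Y : Subgroup L) : Set L) := by
  have := S.Pn
  have h := Weak.le_normalizer_cj (g := g) S.norm
  rwa [cj_normal g (pCore p L)] at h

theorem exists_mul {g : L} (hg : g ∉ normalizer (Y : Set L)) {x : L} (hx : x ∈ pCore p L) :
    ∃ b ∈ pCore p L ⊓ Y, ∃ c ∈ pCore p L ⊓ cj g Y, x = b * c := by
  have hPn := S.Pn
  have hPY : ⁅pCore p L, Y⁆ ≤ pCore p L ⊓ Y :=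
    le_inf (commutator_le_left _ _) (Weak.commutator_le_of_le_normalizer' S.norm)
  have hPYg : ⁅pCore p L, cj g Y⁆ ≤ pCore p L ⊓ cj g Y :=
    le_inf (commutator_le_left _ _) (Weak.commutator_le_of_le_normalizer' (S.P_le_norm_cj g))
  have hBC : ((pCore p L ⊓ Y) ⊔ (pCore p L ⊓ cj g Y)).Normal := by
    rw [← normalizer_eq_top_iff, eq_top_iff,
      ← YMin.sup_cj_eq_top S.coatom le_normalizer S.min hg]
    refine sup_le ?_ ?_
    · apply Weak.le_normalizer_of_commutator_le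
      exact (commutator_mono (sup_le inf_le_left inf_le_left) le_rfl).trans
        (hPY.trans le_sup_left)
    · apply Weak.le_normalizer_of_commutator_le
      exact (commutator_mono (sup_le inf_le_left inf_le_left) le_rfl).trans
        (hPYg.trans le_sup_right)
  have h1 : pCore p L ≤ (pCore p L ⊓ Y) ⊔ (pCore p L ⊓ cj g Y) := by
    conv_lhs => rw [S.gen]
    exact normalClosure_le_normal (le_sup_left : pCore p L ⊓ Y ≤ _)
  have h2 : pCore p L ⊓ cj g Y ≤ normalizer ((pCore p L ⊓ Y : Subgroup L) : Set L) := by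
    intro x hx
    rw [← cj_eq_self_iff, Weak.cj_inf, cj_normal x (pCore p L),
      cj_eq_self_iff.2 (S.norm (mem_inf.1 hx).1)]
  exact Weak.exists_mul_of_mem_sup h2 (h1 hx)

theorem Yc {x y : L} (hx : x ∈ Y) (hy : y ∈ Y) : x * y = y * x := by
  have hYc : IsMulCommutative Y := S.el.1
  exact congrArg Subtype.val (hYc.is_comm.comm (⟨x, hx⟩ : Y) ⟨y, hy⟩)

theorem cjYc {g x y : L} (hx : x ∈ cj g Y) (hy : y ∈ cj g Y) : x * y = y * x := by
  rw [mem_cj] at hx hy
  have h2 := S.Yc hx hy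
  have h3 : g⁻¹ * (x * y) * g = g⁻¹ * (y * x) * g := by simpa [mul_assoc] using h2
  simpa using h3

/-- an element centralizing `P/Z` lies in `P` -/
theorem mem_P_of_forall {y : L} (hy : ∀ x ∈ pCore p L, y * x * y⁻¹ * x⁻¹ ∈ Y ⊓ center L) :
    y ∈ pCore p L := by
  have hPn := S.Pn
  have hZn := Z_normal Y
  have hPp : IsPGroup p (pCore p L) := Lib.Cores.pCore_isPGroup p
  let D : Subgroup L :=
    { carrier := {d | ∀ x ∈ pCore p L, d * x * d⁻¹ * x⁻¹ ∈ Y ⊓ center L}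
      one_mem' := by intro x _; simp
      mul_mem' := by
        intro a b ha hb x hx
        have h1 := ha _ (hPn.conj_mem x hx b)
        have h2 := hb x hx
        have : a * b * x * (a * b)⁻¹ * x⁻¹ = (a * (b * x * b⁻¹) * a⁻¹ * (b * x * b⁻¹)⁻¹) *
            (b * x * b⁻¹ * x⁻¹) := by group
        rw [this]
        exact mul_mem h1 h2
      inv_mem' := by
        intro a ha x hx
        have h1 := ha _ (hPn.conj_mem x hx a⁻¹)
        have : a⁻¹ * x * a⁻¹⁻¹ * x⁻¹ = (a * (a⁻¹ * x * a⁻¹⁻¹) * a⁻¹ * (a⁻¹ * x * a⁻¹⁻¹)⁻¹)⁻¹ := by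
          group
        rw [this]
        exact inv_mem h1 }
  have hDn : D.Normal := by
    constructor
    intro d hd g x hx
    have h1 := hd _ (hPn.conj_mem x hx g⁻¹)
    have : g * d * g⁻¹ * x * (g * d * g⁻¹)⁻¹ * x⁻¹ =
        g * (d * (g⁻¹ * x * g⁻¹⁻¹) * d⁻¹ * (g⁻¹ * x * g⁻¹⁻¹)⁻¹) * g⁻¹ := by group
    rw [this]
    exact hZn.conj_mem _ h1 g
  have hDp : IsPGroup p D := by
    refine Weak.isPGroup_of_forall fun d hd hdc => ?_
    refine Weak.eq_one_of_coprime hPp (S.char ?_) hdc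
    rw [mem_centralizer_iff]
    intro x hx
    have hz := hd x hx
    set z := d * x * d⁻¹ * x⁻¹ with hzd
    have h1 : ∀ n : ℕ, d ^ n * x * (d ^ n)⁻¹ = z ^ n * x := by
      intro n
      induction n with
      | zero => simp
      | succ n ih =>
        have e1 : d ^ (n + 1) * x * (d ^ (n + 1))⁻¹ = d * (d ^ n * x * (d ^ n)⁻¹) * d⁻¹ := by
          rw [pow_succ']; group
        have e2 : d * z ^ n = z ^ n * d := mem_center_comm (pow_mem hz n) d
        have e3 : d * x * d⁻¹ = z * x := by rw [hzd]; group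
        rw [e1, ih, ← mul_assoc, e2, mul_assoc, mul_assoc, ← mul_assoc d x, e3, ← mul_assoc, pow_succ]
    have h2 := h1 (orderOf d)
    rw [pow_orderOf_eq_one, one_mul, inv_one, mul_one] at h2
    have h3 : z ^ orderOf d = 1 := by
      have : z ^ orderOf d * x = 1 * x := by rw [← h2, one_mul]
      exact mul_right_cancel this
    have h4 : z = 1 := by
      refine Weak.eq_one_of_coprime hPp (S.Z_le_P hz) ?_
      exact Nat.Coprime.coprime_dvd_left (orderOf_dvd_of_pow_eq_one h3) hdc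
    have h5 : d * x * d⁻¹ = x := by
      have : d * x * d⁻¹ = z * x := by rw [hzd]; group
      rw [this, h4, one_mul]
    rw [mul_inv_eq_iff_eq_mul] at h5
    exact h5.symm
  exact Lib.Cores.le_pCore hDn hDp (show y ∈ D from hy)

/-- `Y ∩ N_L(Y^g) ≤ P` for `g ∉ N_L(Y)` -/
theorem mem_P_of_normalizes {g : L} (hg : g ∉ normalizer (Y : Set L)) {y : L} (hy : y ∈ Y)
    (hyg : y ∈ normalizer ((cj g Y : Subgroup L) : Set L)) : y ∈ pCore p L := by
  refine S.mem_P_of_forall fun x hx => ?_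
  obtain ⟨b, hb, c, hc, rfl⟩ := S.exists_mul hg hx
  have h1 : y * b * y⁻¹ = b := by rw [S.Yc hy hb.2, mul_inv_cancel_right]
  have h2 : y * c * y⁻¹ * c⁻¹ ∈ Y ⊓ center L := by
    rw [← S.inf_cj hg]
    refine mem_inf.2 ⟨?_, ?_⟩
    · have : c * y⁻¹ * c⁻¹ ∈ Y := (mem_normalizer_iff.1 (S.norm hc.1) _).1 (inv_mem hy)
      have h3 := mul_mem hy this
      simpa [mul_assoc] using h3
    · exact mul_mem ((mem_normalizer_iff.1 hyg _).1 hc.2) (inv_mem hc.2)
  have h3 : y * (b * c) * y⁻¹ * (b * c)⁻¹ = (y * b * y⁻¹) * (y * c * y⁻¹ * c⁻¹) * b⁻¹ := by group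
  rw [h3, h1, mem_center_comm h2, mul_inv_cancel_right]
  exact h2

theorem not_mem_center_of {y : L} (hy : y ∉ pCore p L) : y ∉ Y ⊓ center L :=
  fun h => hy (S.Z_le_P h)

/-- `C_{P/Z}(y) = (P ∩ Y)/Z` for `y ∈ Y ∖ P` -/
theorem mem_Y_of_comm {y x : L} (hy : y ∈ Y) (hyP : y ∉ pCore p L) (hx : x ∈ pCore p L)
    (hyx : y * x * y⁻¹ * x⁻¹ ∈ Y ⊓ center L) : x ∈ Y := by
  have hPn := S.Pn
  have hZn := Z_normal Y
  obtain ⟨g, hg⟩ := S.exists_not_mem
  obtain ⟨b, hb, c, hc, rfl⟩ := S.exists_mul hg hx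
  refine Y.mul_mem hb.2 ?_
  -- `[y, c] ∈ Z`
  have h1 : y * b * y⁻¹ = b := by rw [S.Yc hy hb.2, mul_inv_cancel_right]
  have hyc : y * c * y⁻¹ * c⁻¹ ∈ Y ⊓ center L := by
    have h3 : y * c * y⁻¹ * c⁻¹ = b⁻¹ * (y * (b * c) * y⁻¹ * (b * c)⁻¹) * b := by
      have : y * (b * c) * y⁻¹ * (b * c)⁻¹ = (y * b * y⁻¹) * (y * c * y⁻¹ * c⁻¹) * b⁻¹ := by group
      rw [this, h1]; group
    rw [h3, mem_center_comm hyx, inv_mul_cancel_right]
    exact hyx
  -- the subgroup of `e` with `[e, c] ∈ Z`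
  let E : Subgroup L :=
    { carrier := {e | e * c * e⁻¹ * c⁻¹ ∈ Y ⊓ center L}
      one_mem' := by
        change (1 : L) * c * 1⁻¹ * c⁻¹ ∈ Y ⊓ center L
        simp
      mul_mem' := by
        intro a b (ha : a * c * a⁻¹ * c⁻¹ ∈ Y ⊓ center L) (hb : b * c * b⁻¹ * c⁻¹ ∈ Y ⊓ center L)
        change a * b * c * (a * b)⁻¹ * c⁻¹ ∈ Y ⊓ center L
        have : a * b * c * (a * b)⁻¹ * c⁻¹ = (a * (b * c * b⁻¹ * c⁻¹) * a⁻¹) *
            (a * c * a⁻¹ * c⁻¹) := by group
        rw [this]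
        exact mul_mem (hZn.conj_mem _ hb a) ha
      inv_mem' := by
        intro a (ha : a * c * a⁻¹ * c⁻¹ ∈ Y ⊓ center L)
        change a⁻¹ * c * a⁻¹⁻¹ * c⁻¹ ∈ Y ⊓ center L
        have : a⁻¹ * c * a⁻¹⁻¹ * c⁻¹ = (a⁻¹ * (a * c * a⁻¹ * c⁻¹) * a⁻¹⁻¹)⁻¹ := by group
        rw [this]
        exact inv_mem (hZn.conj_mem _ ha a⁻¹) }
  have hEg : cj g Y ≤ E := by
    intro e he
    change e * c * e⁻¹ * c⁻¹ ∈ Y ⊓ center L
    rw [S.cjYc he hc.2, mul_inv_cancel_right, mul_inv_cancel]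
    exact one_mem _
  have hEy : y ∈ E := hyc
  have hET : E = ⊤ := by
    by_contra hne
    have h2 : cj g⁻¹ E ≠ ⊤ := by
      intro h
      rw [cj_eq_iff] at h
      exact hne (h.trans (cj_normal _ ⊤))
    have h3 := YMin.le_of_ne_top S.coatom le_normalizer S.min h2 (cj_le_iff.1 hEg)
    have h4 : E ≤ normalizer ((cj g Y : Subgroup L) : Set L) := by
      have := cj_mono g h3
      rwa [cj_cj_inv, Weak.cj_normalizer] at this
    exact hyP (S.mem_P_of_normalizes hg hy (h4 hEy))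
  -- `C_L(c)` is normal
  have hCn : (centralizer ({c} : Set L)).Normal := by
    constructor
    intro e he f
    rw [mem_centralizer_singleton_iff] at he ⊢
    have hf : f⁻¹ ∈ E := hET ▸ mem_top _
    change f⁻¹ * c * f⁻¹⁻¹ * c⁻¹ ∈ Y ⊓ center L at hf
    set z := f⁻¹ * c * f⁻¹⁻¹ * c⁻¹ with hz
    have h2 : f⁻¹ * c * f = z * c := by rw [hz]; group
    clear_value z
    have h3 : e * (z * c) = z * c * e := by
      have e1 := mem_center_comm hf e
      calc e * (z * c) = e * z * c := by rw [mul_assoc]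
        _ = z * (e * c) := by rw [e1, mul_assoc]
        _ = z * c * e := by rw [he, mul_assoc]
    have h4 : c = f * (z * c) * f⁻¹ := by rw [← h2]; group
    calc f * e * f⁻¹ * c = f * e * f⁻¹ * (f * (z * c) * f⁻¹) := by rw [← h4]
      _ = f * (e * (z * c)) * f⁻¹ := by group
      _ = f * (z * c * e) * f⁻¹ := by rw [h3]
      _ = f * (z * c) * f⁻¹ * (f * e * f⁻¹) := by group
      _ = c * (f * e * f⁻¹) := by rw [← h4]
  have hYC : Y ≤ centralizer ({c} : Set L) := by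
    have h2 : cj g Y ≤ centralizer ({c} : Set L) := by
      intro e he
      rw [mem_centralizer_singleton_iff]
      exact S.cjYc he hc.2
    have h3 := cj_le_iff.1 h2
    rwa [cj_normal g⁻¹ (centralizer ({c} : Set L))] at h3
  have hCT := YMin.eq_top_of_normal S.min hCn hYC
  have hcc : c ∈ center L := by
    rw [mem_center_iff]
    intro e
    exact mem_centralizer_singleton_iff.1 (hCT ▸ mem_top e : e ∈ centralizer ({c} : Set L))
  have h5 : g⁻¹ * c * g = c := by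
    rw [mul_assoc, ← mem_center_iff.1 hcc g, inv_mul_cancel_left]
  have h6 := mem_cj.1 hc.2
  rwa [h5] at h6

theorem mem_cjY_of_comm {g y x : L} (hy : y ∈ cj g Y) (hyP : y ∉ pCore p L) (hx : x ∈ pCore p L)
    (hyx : y * x * y⁻¹ * x⁻¹ ∈ Y ⊓ center L) : x ∈ cj g Y := by
  have hPn := S.Pn
  have hZn := Z_normal Y
  rw [mem_cj] at hy ⊢
  refine S.mem_Y_of_comm hy ?_ ?_ ?_
  · intro h
    apply hyP
    have := hPn.conj_mem _ h g
    simpa [mul_assoc] using this
  · simpa using hPn.conj_mem _ hx g⁻¹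
  · have := hZn.conj_mem _ hyx g⁻¹
    have h2 : g⁻¹ * y * g * (g⁻¹ * x * g) * (g⁻¹ * y * g)⁻¹ * (g⁻¹ * x * g)⁻¹ =
        g⁻¹ * (y * x * y⁻¹ * x⁻¹) * g⁻¹⁻¹ := by group
    rw [h2]
    exact this

/-- the fixed point property depends only on the coset modulo `P` -/
theorem fp_congr {h n : L} (hn : n ∈ pCore p L) (hh : Fp p Y h) : Fp p Y (h * n) := by
  intro x hx hhx
  have hZn := Z_normal Y
  apply hh x hx
  have h1 : n * x * n⁻¹ * x⁻¹ ∈ Y ⊓ center L := S.comm_mem hn hx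
  have h2 : h * n * x * (h * n)⁻¹ * x⁻¹ = (h * (n * x * n⁻¹ * x⁻¹) * h⁻¹) *
      (h * x * h⁻¹ * x⁻¹) := by group
  rw [h2] at hhx
  have h3 := mul_mem (inv_mem (hZn.conj_mem _ h1 h)) hhx
  rwa [inv_mul_cancel_left] at h3

theorem fp_conj {h : L} (g : L) (hh : Fp p Y (g * h * g⁻¹)) : Fp p Y h := by
  intro x hx hhx
  have hZn := Z_normal Y
  have hPn := S.Pn
  have h1 := hh (g * x * g⁻¹) (hPn.conj_mem x hx g) (by
    have h2 := hZn.conj_mem _ hhx g
    have h3 : g * h * g⁻¹ * (g * x * g⁻¹) * (g * h * g⁻¹)⁻¹ * (g * x * g⁻¹)⁻¹ =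
        g * (h * x * h⁻¹ * x⁻¹) * g⁻¹ := by group
    rw [h3]
    exact h2)
  have h2 := hZn.conj_mem _ h1 g⁻¹
  have h3 : g⁻¹ * (g * x * g⁻¹) * g⁻¹⁻¹ = x := by group
  rwa [h3] at h2

theorem fp_of_pow {h : L} (n : ℕ) (hh : Fp p Y (h ^ n)) : Fp p Y h := by
  intro x hx hhx
  have hZn := Z_normal Y
  apply hh x hx
  set z := h * x * h⁻¹ * x⁻¹ with hz
  have h1 : ∀ n : ℕ, h ^ n * x * (h ^ n)⁻¹ = z ^ n * x := by
    intro n
    induction n with
    | zero => simp
    | succ n ih =>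
      have e1 : h ^ (n + 1) * x * (h ^ (n + 1))⁻¹ = h * (h ^ n * x * (h ^ n)⁻¹) * h⁻¹ := by
        rw [pow_succ']; group
      have e2 : h * z ^ n = z ^ n * h := mem_center_comm (pow_mem hhx n) h
      have e3 : h * x * h⁻¹ = z * x := by rw [hz]; group
      rw [e1, ih, ← mul_assoc, e2, mul_assoc, mul_assoc, ← mul_assoc h x, e3, ← mul_assoc, pow_succ]
  rw [h1 n, mul_inv_cancel_right]
  exact pow_mem hhx n

/-- **Products of two elements from different conjugates of `Y`.** -/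
theorem fp_mul {a b y₁ y₂ : L} (hab : cj a Y ≠ cj b Y) (h1 : y₁ ∈ cj a Y) (h2 : y₂ ∈ cj b Y)
    (h1P : y₁ ∉ pCore p L) (h2P : y₂ ∉ pCore p L) : Fp p Y (y₁ * y₂) := by
  intro x hx hhx
  have hPn := S.Pn
  have hZn := Z_normal Y
  -- `[y₂, x] = z [y₁⁻¹, x]`
  have e1 : y₂ * x * y₂⁻¹ * x⁻¹ =
      (y₁⁻¹ * (y₁ * y₂ * x * (y₁ * y₂)⁻¹ * x⁻¹) * y₁⁻¹⁻¹) * (y₁⁻¹ * x * y₁⁻¹⁻¹ * x⁻¹) := by group
  have hz := hZn.conj_mem _ hhx y₁⁻¹
  have m2 : y₂ * x * y₂⁻¹ * x⁻¹ ∈ cj b Y := by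
    have : x * y₂⁻¹ * x⁻¹ ∈ cj b Y :=
      (mem_normalizer_iff.1 (S.P_le_norm_cj b hx) _).1 (inv_mem h2)
    have h3 := mul_mem h2 this
    simpa [mul_assoc] using h3
  have m1 : y₁⁻¹ * x * y₁⁻¹⁻¹ * x⁻¹ ∈ cj a Y := by
    have : x * y₁⁻¹⁻¹ * x⁻¹ ∈ cj a Y :=
      (mem_normalizer_iff.1 (S.P_le_norm_cj a hx) _).1 (inv_mem (inv_mem h1))
    have h3 := mul_mem (inv_mem h1) this
    simpa [mul_assoc] using h3
  have m2' : y₂ * x * y₂⁻¹ * x⁻¹ ∈ cj a Y := by
    rw [e1]
    exact mul_mem (Z_le_cj a Y hz) m1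
  have k2 : y₂ * x * y₂⁻¹ * x⁻¹ ∈ Y ⊓ center L := by
    rw [← S.cj_inf_cj hab]
    exact mem_inf.2 ⟨m2', m2⟩
  have k1 : y₁⁻¹ * x * y₁⁻¹⁻¹ * x⁻¹ ∈ Y ⊓ center L := by
    rw [e1] at k2
    have := mul_mem (inv_mem hz) k2
    rwa [inv_mul_cancel_left] at this
  have x2 := S.mem_cjY_of_comm h2 h2P hx k2
  have x1 := S.mem_cjY_of_comm (inv_mem h1) (fun h => h1P (by simpa using inv_mem h)) hx k1
  rw [← S.cj_inf_cj hab]
  exact mem_inf.2 ⟨x1, x2⟩

/-- elements central modulo `P` -/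
theorem fp_central {h y : L} (hc : ∀ e : L, h * e * h⁻¹ * e⁻¹ ∈ pCore p L) (hy : y ∈ Y)
    (hhy : Fp p Y (h * y)) : Fp p Y h := by
  intro x hx hhx
  have hPn := S.Pn
  have hZn := Z_normal Y
  -- `x' = [y, x]`
  set x' := y * x * y⁻¹ * x⁻¹ with hx'
  have hx'P : x' ∈ pCore p L := mul_mem (hPn.conj_mem _ hx y) (inv_mem hx)
  have hx'Y : x' ∈ Y := by
    have : x * y⁻¹ * x⁻¹ ∈ Y := (mem_normalizer_iff.1 (S.norm hx) _).1 (inv_mem hy)
    have h3 := mul_mem hy this
    simpa [hx', mul_assoc] using h3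
  -- `h` fixes `x'` modulo `Z`
  have k1 : h * x' * h⁻¹ * x'⁻¹ ∈ Y ⊓ center L := by
    set n := h * y * h⁻¹ * y⁻¹ with hn
    have hnP : n ∈ pCore p L := hc y
    set z := h * x * h⁻¹ * x⁻¹ with hz
    have e1 : h * y * h⁻¹ = n * y := by rw [hn]; group
    have e2 : h * x * h⁻¹ = z * x := by rw [hz]; group
    have e3 : h * x' * h⁻¹ = (h * y * h⁻¹) * (h * x * h⁻¹) * (h * y * h⁻¹)⁻¹ * (h * x * h⁻¹)⁻¹ := by
      rw [hx']; group
    have ez : ∀ w : L, w * z = z * w := fun w => mem_center_comm hhx w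
    have e4 : (n * y) * (z * x) * (n * y)⁻¹ * (z * x)⁻¹ = n * (y * x * y⁻¹) * n⁻¹ * x⁻¹ := by
      have : (n * y) * (z * x) = z * (n * y * x) := by
        rw [← mul_assoc (n * y) z x, ez, mul_assoc]
      rw [this, mul_inv_rev z x]
      have h5 : z * (n * y * x) * (n * y)⁻¹ * (x⁻¹ * z⁻¹) =
          z * (n * (y * x * y⁻¹) * n⁻¹ * x⁻¹) * z⁻¹ := by group
      rw [h5, ← ez, mul_inv_cancel_right]
    have e5 : n * (y * x * y⁻¹) * n⁻¹ * (y * x * y⁻¹)⁻¹ ∈ Y ⊓ center L :=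
      S.comm_mem hnP (hPn.conj_mem _ hx y)
    have e6 : h * x' * h⁻¹ * x'⁻¹ = n * (y * x * y⁻¹) * n⁻¹ * (y * x * y⁻¹)⁻¹ := by
      rw [e3, e1, e2, e4, hx']; group
    rw [e6]
    exact e5
  have k2 : x' ∈ Y ⊓ center L := by
    apply hhy x' hx'P
    have : h * y * x' * (h * y)⁻¹ * x'⁻¹ = h * (y * x' * y⁻¹) * h⁻¹ * x'⁻¹ := by group
    rw [this, S.Yc hy hx'Y, mul_inv_cancel_right]
    exact k1
  -- hence `h y` fixes `x`
  apply hhy x hx
  have : h * y * x * (h * y)⁻¹ * x⁻¹ = (h * x' * h⁻¹) * (h * x * h⁻¹ * x⁻¹) := by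
    rw [hx']; group
  rw [this]
  exact mul_mem (hZn.conj_mem _ k2 h) hhx

end Setup

end Cfsg.Agent.H227.FrakL
end

-- part: H227/FrakSL2
section
/-!
# The action of a `Y`-minimal group `L` on `O_p(L)/C_Y(L)`: the case `L/O_p(L) ≅ SL₂(q)`
-/

set_option autoImplicit false
set_option linter.unusedSectionVars false

namespace Cfsg.Agent.H227.FrakL

open Subgroup Cfsg
open Cfsg.Agent.H227.Weak (cj mem_cj cj_cj cj_eq_self_iff cj_le_iff cj_mono cj_cj_inv cj_inv_cj
  conj_mem_cj cj_eq_iff cj_inj cj_normal cj_sup cj_inf cj_eq_self_of_mem cj_commutator cj_one)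
open Cfsg.Agent.Lib.SL2Mat Cfsg.Agent.Lib.AutSL2

section mat

variable {F : Type*} [Field F]

theorem tr_conj (g x : Matrix.SpecialLinearGroup (Fin 2) F) :
    ent (g * x * g⁻¹) 0 0 + ent (g * x * g⁻¹) 1 1 = ent x 0 0 + ent x 1 1 := by
  have h := det_eq g
  rw [ent_inv g]
  simp only [ent_mul, mk_00, mk_01, mk_10, mk_11]
  linear_combination (ent x 0 0 + ent x 1 1) * h

theorem conj_of_ne (x : Matrix.SpecialLinearGroup (Fin 2) F) (hc : ent x 1 0 ≠ 0)
    (htr : ent x 0 0 + ent x 1 1 ≠ 2) :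
    ∃ (g : Matrix.SpecialLinearGroup (Fin 2) F) (s t : F), s ≠ 0 ∧ t ≠ 0 ∧
      g * x * g⁻¹ = up s * lo t := by
  refine ⟨up ((ent x 1 1 - 1) / ent x 1 0), (ent x 1 1 - 1) / ent x 1 0 +
    (ent x 0 0 - 1) / ent x 1 0, ent x 1 0, ?_, hc, ?_⟩
  · intro h
    apply htr
    field_simp at h
    linear_combination h
  · have h1 := eq_up_lo_up x hc
    generalize (ent x 0 0 - 1) / ent x 1 0 = s1 at h1 ⊢
    generalize (ent x 1 1 - 1) / ent x 1 0 = s2 at h1 ⊢
    calc up s2 * x * (up s2)⁻¹ = up s2 * (up s1 * lo (ent x 1 0) * up s2) * (up s2)⁻¹ := by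
          rw [← h1]
      _ = up s2 * up s1 * lo (ent x 1 0) := by group
      _ = _ := by rw [up_mul]

theorem conj_of_ne' (x : Matrix.SpecialLinearGroup (Fin 2) F) (hb : ent x 0 1 ≠ 0)
    (htr : ent x 0 0 + ent x 1 1 ≠ 2) :
    ∃ (g : Matrix.SpecialLinearGroup (Fin 2) F) (s t : F), s ≠ 0 ∧ t ≠ 0 ∧
      g * x * g⁻¹ = up s * lo t := by
  set w : Matrix.SpecialLinearGroup (Fin 2) F := wm 1 one_ne_zero with hw
  have h1 : ent (w * x * w⁻¹) 1 0 ≠ 0 := by
    rw [ent_inv w]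
    simp only [hw, ent_mul, mk_00, mk_10, wm_00, wm_01, wm_10, wm_11]
    simpa using hb
  obtain ⟨g, s, t, hs, ht, h2⟩ := conj_of_ne (w * x * w⁻¹) h1 (by rwa [tr_conj])
  refine ⟨g * w, s, t, hs, ht, ?_⟩
  rw [← h2]; group

theorem sl2_cases (x : Matrix.SpecialLinearGroup (Fin 2) F) (htr : ent x 0 0 + ent x 1 1 ≠ 2) :
    (∃ (g : Matrix.SpecialLinearGroup (Fin 2) F) (s t : F), s ≠ 0 ∧ t ≠ 0 ∧
      g * x * g⁻¹ = up s * lo t) ∨
    ((∀ e, x * e = e * x) ∧ ∃ (g : Matrix.SpecialLinearGroup (Fin 2) F) (s t : F),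
      s ≠ 0 ∧ t ≠ 0 ∧ g * (x * up 1) * g⁻¹ = up s * lo t) := by
  by_cases hc : ent x 1 0 = 0
  swap
  · exact Or.inl (conj_of_ne x hc htr)
  by_cases hb : ent x 0 1 = 0
  swap
  · exact Or.inl (conj_of_ne' x hb htr)
  by_cases had : ent x 0 0 = ent x 1 1
  · right
    have hd := det_eq x
    have h1 : ent x 0 0 = -1 := by
      rw [hb, ← had] at hd
      have h2 : (ent x 0 0 - 1) * (ent x 0 0 + 1) = 0 := by linear_combination hd
      rcases mul_eq_zero.1 h2 with h3 | h3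
      · exfalso
        apply htr
        rw [← had]
        linear_combination 2 * h3
      · linear_combination h3
    have h2 : ent x 1 1 = -1 := by rw [← had, h1]
    refine ⟨fun e => ?_, ?_⟩
    · refine ext_ent ?_ ?_ ?_ ?_ <;> simp [ent_mul, hb, hc, h1, h2]
    · apply conj_of_ne'
      · rw [ent_mul, hb, h1, up_01, up_11]; simp
      · rw [ent_mul, ent_mul, hb, hc, up_00, up_10, up_01, up_11]
        simpa using htr
  · left
    set x' := up 1 * x * (up 1)⁻¹ with hx'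
    have h1 : ent x' 0 1 ≠ 0 := by
      rw [hx', up_inv]
      simp only [ent_mul, up_00, up_01, up_11, hb, hc]
      intro h
      apply had
      linear_combination -h
    obtain ⟨g, s, t, hs, ht, h2⟩ := conj_of_ne' x' h1 (by rwa [hx', tr_conj])
    refine ⟨g * up 1, s, t, hs, ht, ?_⟩
    rw [← h2, hx']; group

theorem lo_pow (b : F) (n : ℕ) : lo b ^ n = lo (n * b) := by
  induction n with
  | zero => simp [lo_zero]
  | succ n ih => rw [pow_succ, ih, lo_mul]; congr 1; push_cast; ring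

theorem pow_eq_one {p : ℕ} [CharP F p] (x : Matrix.SpecialLinearGroup (Fin 2) F)
    (htr : ent x 0 0 + ent x 1 1 = 2) : x ^ p = 1 := by
  by_cases hc : ent x 1 0 = 0
  · have hd := det_eq x
    have h1 : ent x 0 0 = 1 := by
      have h2 : (ent x 0 0 - 1) ^ 2 = 0 := by
        rw [hc] at hd
        linear_combination ent x 0 0 * htr - hd
      have := pow_eq_zero_iff (two_ne_zero) |>.1 h2
      linear_combination this
    have h2 : ent x 1 1 = 1 := by rw [h1] at htr; linear_combination htr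
    have h3 : x = up (ent x 0 1) := by
      refine ext_ent ?_ ?_ ?_ ?_ <;> simp [hc, h1, h2]
    rw [h3, up_pow, CharP.cast_eq_zero, zero_mul, up_zero]
  · have h1 := eq_up_lo_up x hc
    set s1 := (ent x 0 0 - 1) / ent x 1 0 with hs1
    set s2 := (ent x 1 1 - 1) / ent x 1 0 with hs2
    have h2 : s1 + s2 = 0 := by
      rw [hs1, hs2]
      field_simp
      linear_combination htr
    have h3 : s1 = -s2 := by linear_combination h2
    have h4 : x = (up s2)⁻¹ * lo (ent x 1 0) * up s2 := by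
      rw [up_inv, ← h3]; exact h1
    rw [h4]
    have h5 : ((up s2)⁻¹ * lo (ent x 1 0) * up s2) ^ p = (up s2)⁻¹ * lo (ent x 1 0) ^ p * up s2 := by
      have := conj_pow (i := p) (a := (up s2)⁻¹) (b := lo (ent x 1 0))
      simpa using this
    rw [h5, lo_pow, CharP.cast_eq_zero, zero_mul, lo_zero]
    simp

theorem wm_conj (t : F) : wm 1 one_ne_zero * up (-t) * (wm 1 one_ne_zero)⁻¹ = lo t := by
  rw [ent_inv (wm 1 one_ne_zero)]
  refine ext_ent ?_ ?_ ?_ ?_ <;> simp [ent_mul]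

end mat

variable {L : Type*} [Group L] [Finite L] {p : ℕ} [hp : Fact p.Prime] {Y : Subgroup L}

theorem Setup.fp_sl2_aux (S : Setup p Y) {F : Type*} [Field F] [Finite F] [CharP F p]
    (φ : L →* Matrix.SpecialLinearGroup (Fin 2) F) (hφ : Function.Surjective φ)
    (hker : φ.ker = pCore p L) (hY : ∀ b : F, ∃ y ∈ Y, φ y = up b) (hY' : ∀ y ∈ Y, ∃ b : F, φ y = up b)
    {h : L} (hnp : ¬ ∃ k : ℕ, orderOf h = p ^ k) : Fp p Y h := by
  have memP : ∀ x : L, x ∈ pCore p L ↔ φ x = 1 := fun x => by rw [← hker, MonoidHom.mem_ker]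
  -- good elements
  have key : ∀ (h : L), (∃ (g : Matrix.SpecialLinearGroup (Fin 2) F) (s t : F), s ≠ 0 ∧ t ≠ 0 ∧
      g * φ h * g⁻¹ = up s * lo t) → Fp p Y h := by
    rintro h ⟨G, s, t, hs, ht, hG⟩
    obtain ⟨g, rfl⟩ := hφ G
    obtain ⟨ω, hω⟩ := hφ (wm 1 one_ne_zero)
    obtain ⟨y₁, hy₁, e1⟩ := hY s
    obtain ⟨y₂, hy₂, e2⟩ := hY (-t)
    apply S.fp_conj g
    have e3 : φ (ω * y₂ * ω⁻¹) = lo t := by
      rw [map_mul, map_mul, map_inv, hω, e2, wm_conj]
    have h1 : g * h * g⁻¹ = (y₁ * (ω * y₂ * ω⁻¹)) * ((y₁ * (ω * y₂ * ω⁻¹))⁻¹ * (g * h * g⁻¹)) := by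
      group
    rw [h1]
    refine S.fp_congr ?_ ?_
    · rw [memP, map_mul, map_inv, map_mul, e1, e3, ← hG, map_mul, map_mul, map_inv, inv_mul_cancel]
    · refine S.fp_mul (a := 1) (b := ω) ?_ ?_ (conj_mem_cj hy₂) ?_ ?_
      · rw [cj_one]
        intro heq
        obtain ⟨y, hy, ey⟩ := hY (-1)
        have h2 : ω * y * ω⁻¹ ∈ Y := by rw [heq]; exact conj_mem_cj hy
        obtain ⟨b, hb⟩ := hY' _ h2
        rw [map_mul, map_mul, map_inv, hω, ey, wm_conj] at hb
        have := congrArg (fun x => ent x 1 0) hb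
        simp at this
      · rwa [cj_one]
      · rw [memP, e1]
        intro h2
        apply hs
        have := congrArg (fun x => ent x 0 1) h2
        simpa using this
      · rw [memP, e3]
        intro h2
        apply ht
        have := congrArg (fun x => ent x 1 0) h2
        simpa using this
  by_cases htr : ent (φ h) 0 0 + ent (φ h) 1 1 = 2
  · exfalso
    apply hnp
    have h1 := pow_eq_one (p := p) (φ h) htr
    rw [← map_pow, ← memP] at h1
    obtain ⟨k, hk⟩ := (Lib.Cores.pCore_isPGroup (G := L) p) ⟨_, h1⟩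
    have h2 : h ^ p ^ (k + 1) = 1 := by
      have := congrArg Subtype.val hk
      rw [pow_succ', pow_mul]
      simpa using this
    obtain ⟨j, -, hj⟩ := (Nat.dvd_prime_pow hp.out).1 (orderOf_dvd_of_pow_eq_one h2)
    exact ⟨j, hj⟩
  · rcases sl2_cases (φ h) htr with h1 | ⟨h1, h2⟩
    · exact key h h1
    · obtain ⟨y, hy, ey⟩ := hY 1
      refine S.fp_central (y := y) (fun e => ?_) hy (key _ ?_)
      · rw [memP, map_mul, map_mul, map_mul, map_inv, map_inv, h1, mul_inv_cancel_right,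
          mul_inv_cancel]
      · rw [map_mul, ey]
        exact h2

theorem Setup.fp_sl2 (S : Setup p Y) {F : Type*} [Field F] [Finite F]
    (φ : L →* Matrix.SpecialLinearGroup (Fin 2) F) (hφ : Function.Surjective φ)
    (hker : φ.ker = pCore p L) (hcard : Nat.card F = (Y ⊓ pCore p L).relIndex Y)
    {h : L} (hnp : ¬ ∃ k : ℕ, orderOf h = p ^ k) : Fp p Y h := by
  have := Fintype.ofFinite F
  have hYp : IsPGroup p Y := fun y => ⟨1, Subtype.ext (by simpa using S.el.2 y y.2)⟩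
  have hMp : IsPGroup p (Y.map φ) := hYp.map φ
  have hc : Nat.card (Y.map φ) = Nat.card F := by
    rw [hcard, inf_relIndex_left, ← hker, relIndex_ker]
  obtain ⟨n, hn⟩ := IsPGroup.iff_card.1 hMp
  have hch : CharP F p := by
    refine charP_of_card_eq_prime_pow (f := n) ?_
    rw [← Nat.card_eq_fintype_card, ← hc, hn]
  obtain ⟨Q, hQ⟩ := hMp.exists_le_sylow
  obtain ⟨g, hg⟩ := MulAction.exists_smul_eq (Matrix.SpecialLinearGroup (Fin 2) F) Q (sylU F p)
  have hcU : Nat.card (upG F) = Nat.card F := by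
    refine (Nat.card_congr (Equiv.ofBijective (fun b : F => (⟨up b, up_mem b⟩ : upG F)) ⟨?_, ?_⟩)).symm
    · intro a b hab
      exact up_inj (congrArg Subtype.val hab)
    · rintro ⟨_, b, rfl⟩
      exact ⟨b, rfl⟩
  have hcQ : Nat.card Q = Nat.card F := by
    rw [← hcU]
    exact Q.card_eq_multiplicity.trans (sylU F p).card_eq_multiplicity.symm
  have hMQ : Y.map φ = Q := by
    apply Subgroup.eq_of_le_of_card_ge hQ
    rw [hcQ, hc]
  let φ' : L →* Matrix.SpecialLinearGroup (Fin 2) F := (MulAut.conj g).toMonoidHom.comp φ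
  have hφ'v : ∀ x, φ' x = g * φ x * g⁻¹ := fun x => rfl
  have hmem : ∀ x, x ∈ Q ↔ g * x * g⁻¹ ∈ upG F := by
    intro x
    have h1 : g * x * g⁻¹ ∈ g • Q ↔ x ∈ Q := by
      rw [mem_smul_sylow]
      have : g⁻¹ * (g * x * g⁻¹) * g = x := by group
      rw [this]
    rw [← h1, hg]
    rfl
  refine S.fp_sl2_aux φ' ((MulAut.conj g).surjective.comp hφ) ?_ ?_ ?_ hnp
  · rw [← hker]
    ext x
    rw [MonoidHom.mem_ker, MonoidHom.mem_ker, hφ'v, conj_eq_one_iff]
  · intro b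
    have h1 : g⁻¹ * up b * g ∈ Q := by
      rw [hmem]
      have : g * (g⁻¹ * up b * g) * g⁻¹ = up b := by group
      rw [this]
      exact up_mem b
    have h2 : g⁻¹ * up b * g ∈ Y.map φ := by rw [hMQ]; exact h1
    obtain ⟨y, hy, ey⟩ := h2
    refine ⟨y, hy, ?_⟩
    rw [hφ'v, ey]
    group
  · intro y hy
    have h1 : φ y ∈ Q := by
      have : φ y ∈ Y.map φ := mem_map_of_mem _ hy
      rw [hMQ] at this
      exact this
    obtain ⟨b, hb⟩ := (hmem _).1 h1
    exact ⟨b, hb.symm⟩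

end Cfsg.Agent.H227.FrakL
end

-- part: H227/FrakInv
section
/-!
# The action of a `Y`-minimal group `L` on `O_2(L)/C_Y(L)`: `L/O_2(L)` with one class of involutions, in which the
elements of odd prime order are inverted by involutions
-/

set_option autoImplicit false
set_option linter.unusedSectionVars false

namespace Cfsg.Agent.H227.FrakL

open Subgroup Cfsg
open Cfsg.Agent.H227.Weak (cj mem_cj cj_cj cj_eq_self_iff cj_le_iff cj_mono cj_cj_inv cj_inv_cj
  conj_mem_cj cj_eq_iff cj_inj cj_normal cj_sup cj_inf cj_eq_self_of_mem cj_commutator cj_one)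

section invol

variable {L : Type*} [Group L] [Finite L] {Y : Subgroup L}

theorem Setup.fp_invol [Fact (Nat.Prime 2)] (S : Setup 2 Y) {J : Type*} [Group J] (φ : L →* J)
    (hφ : Function.Surjective φ) (hker : φ.ker = pCore 2 L)
    (hconj : ∀ s t : J, s * s = 1 → s ≠ 1 → t * t = 1 → t ≠ 1 → ∃ g, g * s * g⁻¹ = t)
    (hinv : ∀ (x : J) (r : ℕ), r.Prime → r ≠ 2 → orderOf x = r →
      ∃ t, t * t = 1 ∧ t ≠ 1 ∧ t * x * t⁻¹ = x⁻¹)
    {h : L} (hnp : ¬ ∃ k : ℕ, orderOf h = 2 ^ k) : Fp 2 Y h := by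
  have memP : ∀ x : L, x ∈ pCore 2 L ↔ φ x = 1 := fun x => by rw [← hker, MonoidHom.mem_ker]
  -- an odd prime divisor
  obtain ⟨r, hr, hr2, hrn⟩ : ∃ r : ℕ, r.Prime ∧ r ≠ 2 ∧ r ∣ orderOf h := by
    by_contra! hcon
    apply hnp
    refine ⟨_, Nat.eq_prime_pow_of_unique_prime_dvd (orderOf_pos h).ne' ?_⟩
    intro d hd hdn
    by_contra hne
    exact hcon d hd hne hdn
  set n := orderOf h / r with hn
  apply S.fp_of_pow n
  have hrn' : orderOf (h ^ n) = r := by
    rw [hn, orderOf_pow_of_dvd (Nat.div_pos (Nat.le_of_dvd (orderOf_pos h) hrn) hr.pos).ne'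
      (Nat.div_dvd_of_dvd hrn), Nat.div_div_self hrn (orderOf_pos h).ne']
  set h' := h ^ n with hh'
  have hx : orderOf (φ h') = r := by
    have h1 : orderOf (φ h') ∣ r := hrn' ▸ orderOf_map_dvd φ h'
    rcases (Nat.dvd_prime hr).1 h1 with h2 | h2
    · exfalso
      have h3 : φ h' = 1 := orderOf_eq_one_iff.1 h2
      rw [← memP] at h3
      have h4 := Weak.eq_one_of_coprime (p := 2) (Lib.Cores.pCore_isPGroup (G := L) 2) h3 (by
        rw [hrn']
        exact (Nat.coprime_primes hr Nat.prime_two).2 hr2)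
      rw [h4, orderOf_one] at hrn'
      exact hr.one_lt.ne hrn'
    · exact h2
  obtain ⟨t, htt, ht1, htx⟩ := hinv _ r hr hr2 hx
  set x := φ h' with hxd
  have hti : t⁻¹ = t := inv_eq_of_mul_eq_one_left htt
  have hx1 : x * x ≠ 1 := by
    intro h1
    have h2 : orderOf x ∣ 2 := orderOf_dvd_of_pow_eq_one (by rw [pow_two, h1])
    rw [hx] at h2
    exact hr2 ((Nat.prime_dvd_prime_iff_eq hr Nat.prime_two).1 h2)
  have htx' : t * x * t = x⁻¹ := by rw [hti] at htx; exact htx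
  have hux : (t * x) * (t * x) = 1 := by
    rw [← mul_assoc, htx', inv_mul_cancel]
  have hu1 : t * x ≠ 1 := by
    intro h1
    apply hx1
    have h2 : x = t := by rw [← hti]; exact (inv_eq_of_mul_eq_one_right h1).symm
    rw [h2, htt]
  -- an element of `Y ∖ P`
  obtain ⟨y, hy, hyP⟩ : ∃ y ∈ Y, y ∉ pCore 2 L := by
    by_contra! hcon
    have h1 := YMin.eq_top_of_normal S.min S.Pn hcon
    have h2 : h' ∈ pCore 2 L := h1 ▸ mem_top _
    rw [memP] at h2
    rw [hxd, h2, orderOf_one] at hx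
    exact hr.one_lt.ne hx
  have hyy : φ y * φ y = 1 := by
    rw [← map_mul, ← pow_two, S.el.2 y hy, map_one]
  have hy1 : φ y ≠ 1 := fun h => hyP ((memP y).2 h)
  obtain ⟨a, ha⟩ := hconj _ _ hyy hy1 htt ht1
  obtain ⟨b, hb⟩ := hconj _ _ hyy hy1 hux hu1
  obtain ⟨a, rfl⟩ := hφ a
  obtain ⟨b, rfl⟩ := hφ b
  have ea : φ (a * y * a⁻¹) = t := by rw [map_mul, map_mul, map_inv, ha]
  have eb : φ (b * y * b⁻¹) = t * x := by rw [map_mul, map_mul, map_inv, hb]
  have h1 : h' = ((a * y * a⁻¹) * (b * y * b⁻¹)) * (((a * y * a⁻¹) * (b * y * b⁻¹))⁻¹ * h') := by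
    group
  rw [h1]
  refine S.fp_congr ?_ (S.fp_mul (a := a) (b := b) ?_ (conj_mem_cj hy) (conj_mem_cj hy) ?_ ?_)
  · rw [memP, map_mul, map_inv, map_mul, ea, eb, ← mul_assoc, htt, one_mul, inv_mul_cancel]
  · intro heq
    have h2 : (a * y * a⁻¹) * (b * y * b⁻¹) = (b * y * b⁻¹) * (a * y * a⁻¹) :=
      S.cjYc (heq ▸ conj_mem_cj hy) (conj_mem_cj hy)
    have h3 := congrArg φ h2
    rw [map_mul φ (a * y * a⁻¹), map_mul φ (b * y * b⁻¹), ea, eb, ← mul_assoc, htt, one_mul,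
      htx'] at h3
    apply hx1
    rw [mul_eq_one_iff_eq_inv]
    exact h3
  · rw [memP, ea]; exact ht1
  · rw [memP, eb]; exact hu1

end invol

section dihedral

theorem dihedral_conj {r : ℕ} (hr : Odd r) (s t : DihedralGroup r) (hs : s * s = 1) (hs1 : s ≠ 1)
    (ht : t * t = 1) (ht1 : t ≠ 1) : ∃ g, g * s * g⁻¹ = t := by
  have hu : IsUnit (2 : ZMod r) := by
    have : IsUnit ((2 : ℕ) : ZMod r) :=
      (ZMod.isUnit_iff_coprime 2 r).2 (Nat.coprime_two_left.2 hr)
    exact_mod_cast this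
  have key : ∀ i : ZMod r, i + i = 0 → i = 0 := by
    intro i hi
    rw [← two_mul] at hi
    exact (hu.mul_right_eq_zero).1 hi
  obtain ⟨u, hu'⟩ := hu
  have hu2 : (2 : ZMod r) * (u⁻¹ : (ZMod r)ˣ) = 1 := by rw [← hu', Units.mul_inv]
  rcases s with i | i
  · exfalso
    apply hs1
    rw [DihedralGroup.r_mul_r, DihedralGroup.one_def] at hs
    rw [DihedralGroup.one_def, key i (DihedralGroup.r.inj hs)]
  rcases t with j | j
  · exfalso
    apply ht1
    rw [DihedralGroup.r_mul_r, DihedralGroup.one_def] at ht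
    rw [DihedralGroup.one_def, key j (DihedralGroup.r.inj ht)]
  refine ⟨DihedralGroup.r ((i - j) * (u⁻¹ : (ZMod r)ˣ)), ?_⟩
  rw [DihedralGroup.r_mul_sr, DihedralGroup.inv_r, DihedralGroup.sr_mul_r]
  congr 1
  linear_combination (-(i - j)) * hu2

theorem dihedral_inv {r : ℕ} (x : DihedralGroup r) (q : ℕ) (hq2 : q ≠ 2)
    (hx : orderOf x = q) : ∃ t : DihedralGroup r, t * t = 1 ∧ t ≠ 1 ∧ t * x * t⁻¹ = x⁻¹ := by
  rcases x with i | i
  · refine ⟨DihedralGroup.sr 0, ?_, ?_, ?_⟩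
    · rw [DihedralGroup.sr_mul_sr, sub_zero, DihedralGroup.one_def]
    · rw [DihedralGroup.one_def]; intro h; cases h
    · rw [DihedralGroup.inv_sr, DihedralGroup.inv_r, DihedralGroup.sr_mul_r,
        DihedralGroup.sr_mul_sr]
      simp
  · exfalso
    rw [DihedralGroup.orderOf_sr] at hx
    exact hq2 hx.symm

end dihedral

end Cfsg.Agent.H227.FrakL
end

-- part: H227/FrakSz
section
/-!
# Suzuki groups: the elements of odd prime order are inverted by involutions

and `Sz(2)` is not the normal closure of an elementary abelian 2-subgroup.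
-/

set_option autoImplicit false
set_option linter.unusedSectionVars false

namespace Cfsg.Agent.H227.FrakSz

open Subgroup Cfsg
open Cfsg.Agent.H227.Weak (cj mem_cj)
open Cfsg.Agent.ThreePrime Cfsg.Agent.ThreePrime.SzRel

theorem exists_inv_of_torus {J : Type*} [Group J] [Finite J] {r : ℕ} (hr : r.Prime)
    {U : Subgroup J} (hU : ¬ r ∣ U.index) {t : J} (htt : t * t = 1) (ht1 : t ≠ 1)
    (ht : ∀ u ∈ U, t * u * t⁻¹ = u⁻¹) {x : J} (hx : orderOf x = r) :
    ∃ t : J, t * t = 1 ∧ t ≠ 1 ∧ t * x * t⁻¹ = x⁻¹ := by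
  have : Fact r.Prime := ⟨hr⟩
  obtain ⟨P⟩ : Nonempty (Sylow r U) := inferInstance
  have hP : ¬ r ∣ ((P : Subgroup U).map U.subtype).index := by
    have h1 : ((P : Subgroup U).map U.subtype).relIndex U * U.index
        = ((P : Subgroup U).map U.subtype).index :=
      Subgroup.relIndex_mul_index (Subgroup.map_subtype_le _)
    rw [← h1]
    have h2 : ((P : Subgroup U).map U.subtype).relIndex U = (P : Subgroup U).index := by
      rw [Subgroup.relIndex, Subgroup.subgroupOf, Subgroup.comap_map_eq_self_of_injective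
        U.subtype_injective]
    rw [h2]
    intro h
    rcases hr.dvd_mul.1 h with h | h
    · exact P.not_dvd_index h
    · exact hU h
  have hPp : IsPGroup r ((P : Subgroup U).map U.subtype) := Weak.sylow_map_isPGroup P
  have hxp : IsPGroup r (zpowers x) := by
    refine IsPGroup.of_card (n := 1) ?_
    rw [Nat.card_zpowers, hx, pow_one]
  obtain ⟨g, hg⟩ := Weak.exists_cj_le_sylow (hPp.toSylow hP) hxp
  have hgx : g * x * g⁻¹ ∈ U := by
    have h1 : g * x * g⁻¹ ∈ cj g (zpowers x) := Weak.conj_mem_cj (mem_zpowers x)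
    exact Subgroup.map_subtype_le _ (hg h1)
  have h2 := ht _ hgx
  refine ⟨g⁻¹ * t * g, ?_, ?_, ?_⟩
  · have : g⁻¹ * t * g * (g⁻¹ * t * g) = g⁻¹ * (t * t) * g := by group
    rw [this, htt]; group
  · intro h
    apply ht1
    have : t = g * (g⁻¹ * t * g) * g⁻¹ := by group
    rw [this, h]; group
  · have h3 : g⁻¹ * t * g * x * (g⁻¹ * t * g)⁻¹ = g⁻¹ * (t * (g * x * g⁻¹) * t⁻¹) * g := by group
    rw [h3, h2]; group

theorem no_closure {J : Type*} [Group J] [Finite J] (hJ : Nat.card J = 20) {u : J}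
    (hu : u * u ≠ 1) (hu4 : (u * u) * (u * u) = 1) (T : Subgroup J) (hT : ∀ t ∈ T, t * t = 1)
    (hn : normalClosure (T : Set J) = ⊤) : False := by
  have h5 : Fact (Nat.Prime 5) := ⟨by norm_num⟩
  obtain ⟨R⟩ : Nonempty (Sylow 5 J) := inferInstance
  have hfac : (20 : ℕ).factorization 5 = 1 := by
    have : (20 : ℕ) = 2 ^ 2 * 5 ^ 1 := by norm_num
    rw [this, Nat.factorization_mul (by norm_num) (by norm_num),
      Nat.Prime.factorization_pow Nat.prime_two, Nat.Prime.factorization_pow h5.out]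
    simp
  have hR : Nat.card R = 5 := by
    rw [R.card_eq_multiplicity, hJ, hfac]
    rfl
  have hRi : (R : Subgroup J).index = 4 := by
    have h1 := Subgroup.card_mul_index (R : Subgroup J)
    change Nat.card R * _ = _ at h1
    rw [hR, hJ] at h1
    omega
  have hRn : (R : Subgroup J).Normal := by
    have h1 := card_sylow_modEq_one 5 J
    have h2 := Sylow.card_dvd_index R
    rw [hRi] at h2
    have h3 : Nat.card (Sylow 5 J) ≤ 4 := Nat.le_of_dvd (by norm_num) h2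
    have h4 : Nat.card (Sylow 5 J) = 1 := by
      have : Nat.card (Sylow 5 J) % 5 = 1 % 5 := h1
      omega
    have h6 : Subsingleton (Sylow 5 J) := (Nat.card_eq_one_iff_unique.1 h4).1
    exact Sylow.normal_of_subsingleton R
  have hq : Nat.card (J ⧸ (R : Subgroup J)) = 2 ^ 2 := by
    have : Nat.card (J ⧸ (R : Subgroup J)) = (R : Subgroup J).index := rfl
    rw [this, hRi]
    norm_num
  have h2 : Fact (Nat.Prime 2) := ⟨Nat.prime_two⟩
  have hcomm : ∀ a b : J ⧸ (R : Subgroup J), a * b = b * a :=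
    (IsPGroup.isMulCommutative_of_card_eq_prime_sq hq).is_comm.comm
  let K : Subgroup J :=
    { carrier := {x | (QuotientGroup.mk' (R : Subgroup J) x) * (QuotientGroup.mk' (R : Subgroup J) x) = 1}
      one_mem' := by simp
      mul_mem' := by
        intro a b ha hb
        simp only [Set.mem_ofPred_eq] at ha hb ⊢
        set a' := QuotientGroup.mk' (R : Subgroup J) a
        set b' := QuotientGroup.mk' (R : Subgroup J) b
        rw [map_mul]
        calc a' * b' * (a' * b') = (a' * a') * (b' * b') := by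
              rw [mul_assoc a' b', ← mul_assoc b' a' b', hcomm b' a']; group
          _ = 1 := by rw [ha, hb, one_mul]
      inv_mem' := by
        intro a ha
        simp only [Set.mem_ofPred_eq] at ha ⊢
        rw [map_inv, ← mul_inv_rev, ha, inv_one] }
  have hKn : K.Normal := by
    constructor
    intro a (ha : (QuotientGroup.mk' (R : Subgroup J) a) * (QuotientGroup.mk' (R : Subgroup J) a) = 1) g
    change (QuotientGroup.mk' (R : Subgroup J) (g * a * g⁻¹)) *
      (QuotientGroup.mk' (R : Subgroup J) (g * a * g⁻¹)) = 1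
    rw [← map_mul]
    have : g * a * g⁻¹ * (g * a * g⁻¹) = g * (a * a) * g⁻¹ := by group
    rw [this, map_mul, map_mul, map_mul, ha, mul_one, ← map_mul, mul_inv_cancel, map_one]
  have hTK : T ≤ K := by
    intro t ht
    change (QuotientGroup.mk' (R : Subgroup J) t) * (QuotientGroup.mk' (R : Subgroup J) t) = 1
    rw [← map_mul, hT t ht, map_one]
  have hKT : K = ⊤ := by
    rw [eq_top_iff, ← hn]
    exact normalClosure_le_normal hTK
  have huK : u ∈ K := hKT ▸ mem_top _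
  change (QuotientGroup.mk' (R : Subgroup J) u) * (QuotientGroup.mk' (R : Subgroup J) u) = 1 at huK
  rw [← map_mul] at huK
  have huR : u * u ∈ (R : Subgroup J) := (QuotientGroup.eq_one_iff _).1 huK
  have ho : orderOf (u * u) = 2 := orderOf_eq_prime (by rw [pow_two, hu4]) hu
  have h6 : orderOf (⟨u * u, huR⟩ : (R : Subgroup J)) ∣ Nat.card R := orderOf_dvd_natCard _
  rw [← Subgroup.orderOf_coe] at h6
  change orderOf (u * u) ∣ _ at h6
  rw [ho, hR] at h6
  omega

theorem sz_two {F : Type*} [Field F] [Fintype F] (hF : Fintype.card F = 2 ^ (2 * 0 + 1))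
    (T : Subgroup ↥(Lie.Sz F (2 ^ (0 + 1)))) (hT : ∀ t ∈ T, t * t = 1)
    (hn : normalClosure (T : Set ↥(Lie.Sz F (2 ^ (0 + 1)))) = ⊤) : False := by
  have H := LieRecognition.SzMatrix.good hF
  have D := Cfsg.Agent.S1163.data_sz H
  have hcF : Nat.card F = 2 := by rw [Nat.card_eq_fintype_card, hF]; norm_num
  have hcu : Nat.card H.unip = 4 := by rw [H.card_unip, hcF]; norm_num
  have hcb : Nat.card H.borel = 4 := by rw [H.card_borel, hcF]; norm_num
  have hidx : H.borel.index = 5 := by rw [D.index, hcu]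
  have hcard : Nat.card ↥(Lie.Sz F (2 ^ (0 + 1))) = 20 := by
    rw [← Subgroup.card_mul_index H.borel, hcb, hidx]
  have hfin : Finite ↥(Lie.Sz F (2 ^ (0 + 1))) := inferInstance
  let R := ofGood H
  have e1 : R.u 1 0 * R.u 1 0 = R.u 0 1 := by
    rw [R.u_mul_self, map_one, mul_one]
  refine no_closure hcard (u := R.u 1 0) ?_ ?_ T hT hn
  · rw [e1]
    exact R.u_ne_one one_ne_zero
  · rw [e1, R.u_mul_self]
    rw [zero_mul, R.u_zero]

theorem sz_inv {F : Type} [Field F] [Fintype F] {m : ℕ} (hm : 1 ≤ m)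
    (hF : Fintype.card F = 2 ^ (2 * m + 1)) (x : ↥(Lie.Sz F (2 ^ (m + 1)))) (r : ℕ) (hr : r.Prime)
    (hr2 : r ≠ 2) (hx : orderOf x = r) : ∃ t, t * t = 1 ∧ t ≠ 1 ∧ t * x * t⁻¹ = x⁻¹ := by
  have hfin : Finite ↥(Lie.Sz F (2 ^ (m + 1))) := inferInstance
  obtain ⟨q, hq⟩ : ∃ q, q = 2 ^ (2 * m + 1) := ⟨_, rfl⟩
  obtain ⟨s, hs⟩ : ∃ s, s = 2 ^ (m + 1) := ⟨_, rfl⟩
  have hcard : Nat.card ↥(Lie.Sz F (2 ^ (m + 1))) = q ^ 2 * (q - 1) * (q ^ 2 + 1) := by
    rw [hq]
    exact (Cfsg.Agent.S1163.result hm hF).1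
  have hss : s * s = 2 * q := by rw [hs, hq, ← pow_add, ← pow_succ']; congr 1; ring
  have hsq : s < q := by
    rw [hs, hq]; exact Nat.pow_lt_pow_right (by norm_num) (by omega)
  have hq1 : 1 < q := by rw [hq]; exact Nat.one_lt_two_pow (by omega)
  have hfac : (q + s + 1) * (q - s + 1) = q ^ 2 + 1 := by
    obtain ⟨y, hy⟩ : ∃ y, q = s + y := ⟨q - s, by omega⟩
    have h5 : q - s = y := by omega
    rw [h5, hy]
    rw [hy] at hss
    nlinarith
  have hrq : ¬ r ∣ q := by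
    intro h
    rw [hq] at h
    exact hr2 ((Nat.prime_dvd_prime_iff_eq hr Nat.prime_two).1 (hr.dvd_of_dvd_pow h))
  have hr2' : ¬ r ∣ 2 := fun h => hr2 ((Nat.prime_dvd_prime_iff_eq hr Nat.prime_two).1 h)
  have hdvd : r ∣ q ^ 2 * (q - 1) * (q ^ 2 + 1) := by
    rw [← hcard, ← hx]
    exact _root_.orderOf_dvd_natCard x
  have hdvd' : r ∣ (q - 1) ∨ r ∣ (q ^ 2 + 1) := by
    rcases hr.dvd_mul.1 hdvd with h | h
    · rcases hr.dvd_mul.1 h with h | h
      · exact absurd (hr.dvd_of_dvd_pow h) hrq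
      · exact Or.inl h
    · exact Or.inr h
  have hq2 : q ^ 2 + 1 = (q - 1) * (q + 1) + 2 := by
    obtain ⟨y, hy⟩ : ∃ y, q = y + 1 := ⟨q - 1, by omega⟩
    rw [hy]; simp; ring
  by_cases h1 : r ∣ q - 1
  · -- the split torus
    let R := ofGood (LieRecognition.SzMatrix.good hF)
    have hDc : Nat.card R.D = q - 1 := by
      have h2 : Nat.card R.D = Nat.card Fˣ := by
        refine (Nat.card_congr (Equiv.ofBijective
          (fun k : Fˣ => (⟨R.d k, R.d_mem k⟩ : R.D)) ⟨?_, ?_⟩)).symm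
        · intro a b hab
          exact R.d_inj (congrArg Subtype.val hab)
        · rintro ⟨_, k, rfl⟩
          exact ⟨k, rfl⟩
      rw [h2, Nat.card_units, Nat.card_eq_fintype_card, hF, hq]
    have hDi : R.D.index = q ^ 2 * (q ^ 2 + 1) := by
      have h2 := Subgroup.card_mul_index R.D
      rw [hDc, hcard] at h2
      have h3 : 0 < q - 1 := by omega
      have h4 : (q - 1) * R.D.index = (q - 1) * (q ^ 2 * (q ^ 2 + 1)) := by rw [h2]; ring
      exact Nat.eq_of_mul_eq_mul_left h3 h4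
    refine exists_inv_of_torus hr (U := R.D) ?_ R.w_mul_w (OddCyclic.FFSz.w_ne_one R) ?_ hx
    · rw [hDi]
      intro h2
      rcases hr.dvd_mul.1 h2 with h2 | h2
      · exact hrq (hr.dvd_of_dvd_pow h2)
      · rw [hq2] at h2
        exact hr2' ((Nat.dvd_add_right (h1.mul_right _)).1 h2)
    · rintro _ ⟨k, rfl⟩
      exact OddCyclic.FFSz.w_inv_d R k
  · -- the other tori
    have h2 : r ∣ q ^ 2 + 1 := hdvd'.resolve_left h1
    have hrq1 : ¬ r ∣ q + 1 := by
      intro h3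
      rw [hq2] at h2
      exact hr2' ((Nat.dvd_add_right (h3.mul_left _)).1 h2)
    obtain ⟨i⟩ := OddCyclic.ClaimC.SzIso.iso hm hF
    have hfin' : Finite ↥(Cfsg.Sz F m) := Finite.of_equiv _ i.symm.toEquiv
    have hcard' : Nat.card ↥(Cfsg.Sz F m) = q ^ 2 * (q - 1) * (q ^ 2 + 1) := by
      rw [← hcard]; exact Nat.card_congr i.toEquiv
    have hodds : Odd (q + s + 1) ∧ Odd (q - s + 1) := by
      have e1 : Even q := by rw [hq]; exact (Nat.even_pow.2 ⟨even_two, by omega⟩)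
      have e2 : Even s := by rw [hs]; exact (Nat.even_pow.2 ⟨even_two, by omega⟩)
      obtain ⟨a, ha⟩ := e1
      obtain ⟨b, hb⟩ := e2
      exact ⟨⟨a + b, by omega⟩, ⟨a - b, by omega⟩⟩
    have key : ∀ c d : ℕ, c ∈ ({q + s + 1, q - s + 1} : Set ℕ) → Odd c → r ∣ c →
        c * d = q ^ 2 + 1 → c + d = 2 * (q + 1) →
        ∃ t : ↥(Cfsg.Sz F m), t * t = 1 ∧ t ≠ 1 ∧ t * i.symm x * t⁻¹ = (i.symm x)⁻¹ := by
      intro c d hc hco hrc hcd hcd'
      rw [hq, hs] at hc
      obtain ⟨U, hU1, hU2, hU3, hU4⟩ := Cfsg.Agent.S0333.result hm hF c hc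
      obtain ⟨t, ht1, ht2, ht3⟩ := OddCyclic.ClaimC.Sz.inverts_torus hco hU1 hU2 hU3 hU4
      have hUi : U.index = q ^ 2 * (q - 1) * d := by
        have h3 := Subgroup.card_mul_index U
        rw [hU2, hcard', ← hcd] at h3
        have h4 : c * U.index = c * (q ^ 2 * (q - 1) * d) := by rw [h3]; ring
        exact Nat.eq_of_mul_eq_mul_left (Odd.pos hco) h4
      refine exists_inv_of_torus hr (U := U) ?_ ht1 ht2 ht3 ?_
      · rw [hUi]
        intro h3
        rcases hr.dvd_mul.1 h3 with h3 | h3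
        · rcases hr.dvd_mul.1 h3 with h3 | h3
          · exact hrq (hr.dvd_of_dvd_pow h3)
          · exact h1 h3
        · have h4 : r ∣ 2 * (q + 1) := hcd' ▸ dvd_add hrc h3
          rcases hr.dvd_mul.1 h4 with h5 | h5
          · exact hr2' h5
          · exact hrq1 h5
      · rw [MulEquiv.orderOf_eq, hx]
    obtain ⟨t, ht1, ht2, ht3⟩ : ∃ t : ↥(Cfsg.Sz F m), t * t = 1 ∧ t ≠ 1 ∧
        t * i.symm x * t⁻¹ = (i.symm x)⁻¹ := by
      rw [← hfac] at h2
      rcases hr.dvd_mul.1 h2 with h3 | h3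
      · exact key _ (q - s + 1) (by simp) hodds.1 h3 hfac (by omega)
      · exact key _ (q + s + 1) (by simp) hodds.2 h3 (by rw [mul_comm, hfac]) (by omega)
    refine ⟨i t, ?_, ?_, ?_⟩
    · rw [← map_mul, ht1, map_one]
    · intro h
      exact ht2 (i.injective (by rw [h, map_one]))
    · have h3 := congrArg i ht3
      rw [map_mul, map_mul, map_inv, map_inv, MulEquiv.apply_symm_apply] at h3
      exact h3

end Cfsg.Agent.H227.FrakSz
end

-- part: H227/FrakMain
section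
/-!
# S2863: non-`p`-elements of `L ∈ 𝔏_G(Y_M)` act fixed-point-freely on `O_p(L)/C_{Y_M}(L)`
-/

set_option autoImplicit false
set_option linter.unusedSectionVars false

namespace Cfsg.Agent.H227.FrakMain

open Subgroup Cfsg
open Cfsg.Agent.H227.FrakL

theorem fp {L : Type*} [Group L] [Finite L] {p : ℕ} [hp : Fact p.Prime] {Y : Subgroup L}
    (S : Setup p Y) [(pCore p L).Normal]
    (hquot : (∃ (F : Type) (_ : Field F) (_ : Fintype F),
        Fintype.card F = (Y ⊓ pCore p L).relIndex Y ∧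
          Nonempty (L ⧸ pCore p L ≃* Matrix.SpecialLinearGroup (Fin 2) F)) ∨
      (p = 2 ∧ ∃ (F : Type) (_ : Field F) (_ : Fintype F) (m : ℕ),
        Fintype.card F = 2 ^ (2 * m + 1) ∧
          Nonempty (L ⧸ pCore p L ≃* ↥(Lie.Sz F (2 ^ (m + 1))))) ∨
      (p = 2 ∧ ∃ r : ℕ, r.Prime ∧ r ≠ 2 ∧ Nonempty (L ⧸ pCore p L ≃* DihedralGroup r)))
    {h : L} (hnp : ¬ ∃ k : ℕ, orderOf h = p ^ k) : Fp p Y h := by
  have hsurj : ∀ {J : Type} [Group J] (e : L ⧸ pCore p L ≃* J),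
      Function.Surjective (e.toMonoidHom.comp (QuotientGroup.mk' (pCore p L))) :=
    fun e => e.surjective.comp (QuotientGroup.mk'_surjective _)
  have hker : ∀ {J : Type} [Group J] (e : L ⧸ pCore p L ≃* J),
      (e.toMonoidHom.comp (QuotientGroup.mk' (pCore p L))).ker = pCore p L := by
    intro J _ e
    ext x
    rw [MonoidHom.mem_ker]
    change e (QuotientGroup.mk' (pCore p L) x) = 1 ↔ _
    rw [EmbeddingLike.map_eq_one_iff, ← MonoidHom.mem_ker, QuotientGroup.ker_mk']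
  rcases hquot with ⟨F, iF, iF', hcard, ⟨e⟩⟩ | ⟨rfl, F, iF, iF', m, hF, ⟨e⟩⟩ | ⟨rfl, r, hr, hr2, ⟨e⟩⟩
  · exact S.fp_sl2 _ (hsurj e) (hker e) (by rw [Nat.card_eq_fintype_card, hcard]) hnp
  · rcases Nat.eq_zero_or_pos m with rfl | hm
    · exfalso
      refine FrakSz.sz_two hF (Y.map (e.toMonoidHom.comp (QuotientGroup.mk' (pCore 2 L)))) ?_ ?_
      · rintro _ ⟨y, hy, rfl⟩
        rw [← map_mul, ← pow_two, S.el.2 y hy, map_one]
      · have h1 := Subgroup.map_normalClosure (Y : Set L)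
          (e.toMonoidHom.comp (QuotientGroup.mk' (pCore 2 L))) (hsurj e)
        rw [S.min.1, Subgroup.map_top_of_surjective _ (hsurj e)] at h1
        rw [Subgroup.coe_map]
        exact h1.symm
    · refine S.fp_invol _ (hsurj e) (hker e) ?_ (FrakSz.sz_inv hm hF) hnp
      have hfin : Finite ↥(Lie.Sz F (2 ^ (m + 1))) := inferInstance
      intro s t hs hs1 ht ht1
      exact OddCyclic.FFSz.conj_inv ⟨F, iF, iF', m, hm, hF, ⟨MulEquiv.refl _⟩⟩ hs hs1 ht ht1
  · refine S.fp_invol _ (hsurj e) (hker e) (dihedral_conj (hr.odd_of_ne_two hr2)) ?_ hnp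
    intro x q _ hq2 hx
    exact dihedral_inv x q hq2 hx

theorem main {G : Type*} [Group G] [Finite G] {p : ℕ} [Fact p.Prime] {Y L : Subgroup G}
    (hel : IsElementaryAbelian p Y) (hYL : Y ≤ L)
    (hgen : pCoreOf p L = (Subgroup.normalClosure
        (((Y ⊓ pCoreOf p L).subgroupOf L : Subgroup ↥L) : Set ↥L)).map L.subtype)
    (hnorm : pCoreOf p L ≤ Subgroup.normalizer (Y : Set G))
    (hmin : IsMinimalOver (Y.subgroupOf L))
    (hchar : Subgroup.centralizer (pCore p ↥L : Set ↥L) ≤ pCore p ↥L)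
    (hmax : L ⊓ Subgroup.normalizer (Y : Set G) < L ∧
      ∀ X : Subgroup G, Y ≤ X → X < L → X ≤ L ⊓ Subgroup.normalizer (Y : Set G))
    (hquot : (∃ (F : Type) (_ : Field F) (_ : Fintype F),
        Fintype.card F = (Y ⊓ pCoreOf p L).relIndex Y ∧
          Nonempty (↥L ⧸ pCore p ↥L ≃* Matrix.SpecialLinearGroup (Fin 2) F)) ∨
      (p = 2 ∧ ∃ (F : Type) (_ : Field F) (_ : Fintype F) (m : ℕ),
        Fintype.card F = 2 ^ (2 * m + 1) ∧
          Fintype.card F = (Y ⊓ pCoreOf p L).relIndex Y ∧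
            Nonempty (↥L ⧸ pCore p ↥L ≃* ↥(Lie.Sz F (2 ^ (m + 1))))) ∨
      (p = 2 ∧ ∃ r : ℕ, r.Prime ∧ r ≠ 2 ∧ Nonempty (↥L ⧸ pCore p ↥L ≃* DihedralGroup r)))
    {h : G} (hh : h ∈ L) (hnp : ¬ ∃ k : ℕ, orderOf h = p ^ k) :
    ∀ a ∈ pCoreOf p L, h * a * h⁻¹ * a⁻¹ ∈ Y ⊓ Subgroup.centralizer ((L : Subgroup G) : Set G) →
      a ∈ Y ⊓ Subgroup.centralizer ((L : Subgroup G) : Set G) := by
  have hcomap : (pCoreOf p L).subgroupOf L = pCore p ↥L := by
    rw [subgroupOf, pCoreOf, comap_map_eq_self_of_injective L.subtype_injective]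
  have hinf : (Y ⊓ pCoreOf p L).subgroupOf L = pCore p ↥L ⊓ Y.subgroupOf L := by
    rw [← hcomap, inf_comm]
    rfl
  have hnr : normalizer ((Y.subgroupOf L : Subgroup ↥L) : Set ↥L) =
      (L ⊓ Subgroup.normalizer (Y : Set G)).subgroupOf L := by
    ext x
    rw [mem_subgroupOf, mem_inf, mem_normalizer_iff, mem_normalizer_iff]
    constructor
    · intro h1
      refine ⟨x.2, fun y => ⟨fun hy => ?_, fun hy => ?_⟩⟩
      · have := (h1 ⟨y, hYL hy⟩).1 hy
        exact this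
      · have hyL : y ∈ L := by
          have := L.mul_mem (L.mul_mem (L.inv_mem x.2) (hYL hy)) x.2
          simpa [mul_assoc] using this
        exact (h1 ⟨y, hyL⟩).2 hy
    · rintro ⟨-, h1⟩ y
      exact h1 y
  have S : Setup p (Y.subgroupOf L) :=
    { char := hchar
      coatom := by
        rw [hnr]
        refine ⟨fun h1 => ?_, fun X hX => ?_⟩
        · rw [subgroupOf_eq_top] at h1
          exact absurd h1 (not_le_of_gt hmax.1)
        · by_contra hne
          have hY' : Y.subgroupOf L ≤ X := by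
            refine le_trans ?_ hX.le
            intro y hy
            exact mem_inf.2 ⟨y.2, le_normalizer hy⟩
          have h2 : Y ≤ X.map L.subtype := by
            rw [← Subgroup.map_subgroupOf_eq_of_le hYL]
            exact Subgroup.map_mono hY'
          have h3 : X.map L.subtype < L := by
            refine lt_of_le_of_ne (Subgroup.map_subtype_le _) fun h3 => hne ?_
            rw [eq_top_iff]
            rintro ⟨x, hx⟩ -
            rw [← h3] at hx
            obtain ⟨y, hy, hyx⟩ := hx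
            have : y = ⟨x, h3 ▸ ⟨y, hy, hyx⟩⟩ := Subtype.ext hyx
            rw [← this]
            exact hy
          have h4 := hmax.2 _ h2 h3
          have h5 : X ≤ (L ⊓ Subgroup.normalizer (Y : Set G)).subgroupOf L := by
            intro x hx
            exact h4 ⟨x, hx, rfl⟩
          exact absurd h5 (not_le_of_gt hX)
      el := by
        refine ⟨⟨⟨?_⟩⟩, ?_⟩
        · rintro ⟨x, hx⟩ ⟨y, hy⟩
          have h3 := congrArg Subtype.val (hel.1.is_comm.comm (⟨x, hx⟩ : Y) ⟨y, hy⟩)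
          exact Subtype.ext (Subtype.ext h3)
        · intro x hx
          exact Subtype.ext (by simpa using hel.2 _ hx)
      min := hmin
      norm := by
        rw [hnr]
        intro x hx
        exact mem_inf.2 ⟨x.2, hnorm ⟨x, hx, rfl⟩⟩
      gen := by
        rw [← hinf]
        exact Subgroup.map_injective L.subtype_injective hgen }
  have hn : (pCore p ↥L).Normal := S.Pn
  have hrel : (Y ⊓ pCoreOf p L).relIndex Y = (Y.subgroupOf L ⊓ pCore p ↥L).relIndex (Y.subgroupOf L) := by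
    rw [inf_comm (Y.subgroupOf L), ← hinf]
    exact (Subgroup.relIndex_subgroupOf hYL).symm
  have key : Fp p (Y.subgroupOf L) (⟨h, hh⟩ : ↥L) := by
    refine fp S ?_ ?_
    · rcases hquot with ⟨F, iF, iF', h1, h2⟩ | ⟨h0, F, iF, iF', m, h1, -, h2⟩ | h1
      · exact Or.inl ⟨F, iF, iF', h1.trans hrel, h2⟩
      · exact Or.inr (Or.inl ⟨h0, F, iF, iF', m, h1, h2⟩)
      · exact Or.inr (Or.inr h1)
    · rwa [← Subgroup.orderOf_coe]
  have hZ : ∀ x : ↥L, x ∈ Y.subgroupOf L ⊓ center ↥L ↔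
      (x : G) ∈ Y ⊓ Subgroup.centralizer ((L : Subgroup G) : Set G) := by
    intro x
    rw [mem_inf, mem_inf, mem_subgroupOf, mem_center_iff, mem_centralizer_iff]
    constructor
    · rintro ⟨h1, h2⟩
      exact ⟨h1, fun y hy => congrArg Subtype.val (h2 ⟨y, hy⟩)⟩
    · rintro ⟨h1, h2⟩
      exact ⟨h1, fun y => Subtype.ext (h2 y y.2)⟩
  rintro _ ⟨a, ha, rfl⟩ hha
  exact (hZ a).1 (key a ha ((hZ _).2 hha))

end Cfsg.Agent.H227.FrakMain
end

-- part: S2863
section
set_option autoImplicit false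
open Cfsg

namespace Cfsg.Agent.S2863

/-- Standing hypotheses: G a finite group, S a Sylow p-subgroup, Q a nontrivial large p-subgroup of G contained in S, M a subgroup containing S with the basic property (M ∈ 𝔐_G(S)); Y_M the largest p-reduced normal subgroup of M and M† = M·C_G(Y_M). Let L ∈ 𝔏_G(Y_M) (L ∈ 𝔏_G(Y_M): Y_M ≤ L; O_p(L) is the normal closure in L of Y_M ∩ O_p(L) and normalizes Y_M; L is Y_M-minimal of characteristic p with N_L(Y_M) its unique maximal subgroup over Y_M; and L/O_p(L) ≅ SL₂(q) with q = |Y_M : Y_M ∩ O_p(L)|, or p = 2 and L/O_p(L) is a Suzuki group Sz(q) or dihedral of order 2r, r an odd prime), A = O_p(L), and C = C_{Y_M}(L). Then every element h of L whose order is not a power of p acts without nontrivial fixed points on A/C: for a ∈ A, hah⁻¹a⁻¹ ∈ C implies a ∈ C. -/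
theorem result {G : Type*} [Group G] [Finite G] {p : ℕ} [Fact p.Prime] (S : Sylow p G) (Q : Subgroup G) (hQp : IsPGroup p ↥Q) (hQ1 : Q ≠ ⊥) (hQS : Q ≤ (S : Subgroup G)) (hQ : Cfsg.IsLarge Q) (M : Subgroup G) (hSM : (S : Subgroup G) ≤ M) (hM : Cfsg.IsInFrakM p M) (L : Subgroup G) (hL : Cfsg.IsInFrakL p M L) (h : G) (hh : h ∈ L) (hnp : ¬ ∃ k : ℕ, orderOf h = p ^ k) : ∀ a ∈ (Cfsg.pCoreOf p L), h * a * h⁻¹ * a⁻¹ ∈ (Cfsg.largestPReducedOf p M) ⊓ Subgroup.centralizer ((L : Subgroup G) : Set G) → a ∈ (Cfsg.largestPReducedOf p M) ⊓ Subgroup.centralizer ((L : Subgroup G) : Set G) := by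
  have h1 := hL
  obtain ⟨hYL, hgen, hnorm, hmin, hchar, hmax, hquot⟩ := h1
  have hYel := H224.YL.isElementaryAbelian_largest (L := ↥M) p
  set YM := Cfsg.largestPReducedOf p M with hYM
  have hel : Cfsg.IsElementaryAbelian p YM := by
    have h2 : Cfsg.IsElementaryAbelian p ((Cfsg.largestPReduced p ↥M).map M.subtype) := by
      refine ⟨⟨⟨?_⟩⟩, ?_⟩
      · rintro ⟨_, x, hx, rfl⟩ ⟨_, y, hy, rfl⟩
        have h3 := congrArg Subtype.val (hYel.1.is_comm.comm (⟨x, hx⟩ : (Cfsg.largestPReduced p ↥M))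
          ⟨y, hy⟩)
        exact Subtype.ext (congrArg (fun z : ↥M => (z : G)) h3)
      · rintro _ ⟨x, hx, rfl⟩
        rw [← map_pow, hYel.2 x hx, map_one]
    exact h2
  exact H227.FrakMain.main hel hYL hgen hnorm hmin hchar hmax hquot hh hnp

end Cfsg.Agent.S2863
end
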