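import Cfsg.Statements.S2874
import Cfsg.Agent.Lib.VonDyck
import Mathlib.LinearAlgebra.Matrix.GeneralLinearGroup.Defs
import Mathlib.Data.ZMod.Basic
import Mathlib.Tactic
set_option linter.all false

set_option autoImplicit false
set_option linter.style.haveILetI false
set_option linter.unusedVariables false
set_option linter.unusedSectionVars false
open Cfsg

namespace Cfsg.Agent.S2874

open Matrix

/-! ### the ring -/

theorem three_unit (k : ℕ) : ∃ t : ZMod (2 ^ k), 3 * t = 1 := by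
  have h : IsUnit ((3 : ℕ) : ZMod (2 ^ k)) := by
    rw [ZMod.isUnit_iff_coprime]
    exact Nat.Coprime.pow_right _ (by norm_num)
  obtain ⟨t, ht⟩ := h.exists_right_inv
  exact ⟨t, by exact_mod_cast ht⟩

/-- Reduction modulo two. -/
def red (k : ℕ) (hk : 1 ≤ k) : ZMod (2 ^ k) →+* ZMod 2 :=
  ZMod.castHom (dvd_pow_self 2 (by omega)) (ZMod 2)

theorem red_eq_zero {k : ℕ} (hk : 1 ≤ k) (x : ZMod (2 ^ k)) (h : red k hk x = 0) : ∃ y, x = 2 * y := by
  haveI : NeZero (2 ^ k) := ⟨by positivity⟩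
  have h1 : ((x.val : ℕ) : ZMod (2 ^ k)) = x := ZMod.natCast_zmod_val x
  rw [← h1, map_natCast, ZMod.natCast_eq_zero_iff] at h
  obtain ⟨y, hy⟩ := h
  refine ⟨(y : ZMod (2 ^ k)), ?_⟩
  rw [← h1, hy]
  push_cast
  rfl

theorem isUnit_of_red {k : ℕ} (hk : 1 ≤ k) (x : ZMod (2 ^ k)) (h : red k hk x ≠ 0) : IsUnit x := by
  haveI : NeZero (2 ^ k) := ⟨by positivity⟩
  have h1 : ((x.val : ℕ) : ZMod (2 ^ k)) = x := ZMod.natCast_zmod_val x
  rw [← h1, map_natCast, Ne, ZMod.natCast_eq_zero_iff] at h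
  rw [← h1, ZMod.isUnit_iff_coprime]
  apply Nat.Coprime.pow_right
  exact ((Nat.Prime.coprime_iff_not_dvd Nat.prime_two).2 h).symm

theorem two_mul_eq_zero {k : ℕ} (hk : 1 ≤ k) (x : ZMod (2 ^ k)) (h : 2 * x = 0) : x = 0 ∨ x = 2 ^ (k - 1) := by
  haveI : NeZero (2 ^ k) := ⟨by positivity⟩
  obtain ⟨n, hn, h1⟩ : ∃ n : ℕ, n < 2 ^ k ∧ ((n : ℕ) : ZMod (2 ^ k)) = x := ⟨x.val, ZMod.val_lt x, ZMod.natCast_zmod_val x⟩
  have h3 : 2 ^ k = 2 * 2 ^ (k - 1) := by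
    rw [← pow_succ']
    congr 1
    omega
  have h4 : 2 ^ k ∣ 2 * n := by
    rw [← ZMod.natCast_eq_zero_iff]
    push_cast
    rw [h1]; exact h
  rw [← h1]
  have h5 : 2 ^ (k - 1) ∣ n := by
    rw [h3] at h4
    exact Nat.dvd_of_mul_dvd_mul_left (by norm_num) h4
  obtain ⟨y, hy⟩ := h5
  have h6 : y < 2 := by
    rw [hy, h3] at hn
    have : 2 ^ (k - 1) * y < 2 ^ (k - 1) * 2 := by linarith
    exact Nat.lt_of_mul_lt_mul_left this
  rw [hy]
  interval_cases y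
  · left; simp
  · right; simp

/-- The additive kernel of reduction is nilpotent: powers of `1 + 2 M`. -/
theorem one_add_pow {R A : Type*} [CommRing R] [Ring A] [Algebra R A] (M : A) (j : ℕ) :
    ∃ N : A, (1 + 2 * M) ^ (2 ^ j) = 1 + 2 ^ (j + 1) * N := by
  induction j with
  | zero => exact ⟨M, by simp⟩
  | succ j ih =>
    obtain ⟨N, hN⟩ := ih
    have hc : Commute (2 : A) N := Commute.ofNat_left 2 N
    refine ⟨N + 2 ^ j * (N * N), ?_⟩
    rw [pow_succ, pow_mul, hN, pow_two]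
    have h2 : (2 ^ (j + 1) : A) * N = N * 2 ^ (j + 1) := (hc.pow_left (j + 1)).eq
    have h3 : (1 + 2 ^ (j + 1) * N) * (1 + 2 ^ (j + 1) * N) = 1 + 2 * (2 ^ (j + 1) * N) + 2 ^ (j + 1) * (N * 2 ^ (j + 1)) * N := by
      noncomm_ring
    rw [h3, ← h2]
    rw [show (2 : A) ^ (j + 1 + 1) = 2 * 2 ^ (j + 1) by rw [pow_succ' 2 (j + 1)]]
    rw [show (2 : A) ^ (j + 1) * (2 ^ (j + 1) * N) * N = 2 * 2 ^ (j + 1) * (2 ^ j * (N * N)) by
      rw [show (2 : A) ^ (j + 1) * (2 ^ (j + 1) * N) * N = (2 ^ (j + 1) * 2 ^ (j + 1)) * (N * N) by noncomm_ring,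
        ← mul_assoc (2 * 2 ^ (j + 1)) (2 ^ j) (N * N)]
      congr 1
      rw [← pow_succ', ← pow_add, ← pow_add]
      congr 1
      omega]
    noncomm_ring

/-- An element of order dividing three of `GL₂(ℤ/2ᵏ)` that is trivial modulo two is trivial. -/
theorem eq_one_of_red {k : ℕ} (hk : 1 ≤ k) (g : Matrix (Fin 2) (Fin 2) (ZMod (2 ^ k))) (h3 : g ^ 3 = 1)
    (h : g.map (red k hk) = 1) : g = 1 := by
  have h1 : ∀ i j, ∃ y, g i j - (1 : Matrix (Fin 2) (Fin 2) (ZMod (2 ^ k))) i j = 2 * y := by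
    intro i j
    apply red_eq_zero hk
    have h2 := congrFun (congrFun h i) j
    rw [Matrix.map_apply] at h2
    rw [map_sub, h2]
    by_cases hij : i = j
    · subst hij; simp
    · simp [hij]
  choose y hy using h1
  have h4 : g = 1 + 2 * (Matrix.of y) := by
    ext i j
    have h5 := hy i j
    have h6 : (2 * Matrix.of y : Matrix (Fin 2) (Fin 2) (ZMod (2 ^ k))) i j = 2 * y i j := by
      rw [two_mul, Matrix.add_apply, Matrix.of_apply, two_mul]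
    rw [Matrix.add_apply, h6, ← h5]
    ring
  obtain ⟨N, hN⟩ := one_add_pow (R := ZMod (2 ^ k)) (Matrix.of y) k
  have h5 : (2 : Matrix (Fin 2) (Fin 2) (ZMod (2 ^ k))) ^ (k + 1) = 0 := by
    have h6 : ((2 ^ k : ℕ) : Matrix (Fin 2) (Fin 2) (ZMod (2 ^ k))) = 0 := CharP.cast_eq_zero _ _
    rw [pow_succ]
    push_cast at h6
    rw [h6, zero_mul]
  rw [← h4, h5, zero_mul, add_zero] at hN
  have h7 : orderOf g ∣ Nat.gcd 3 (2 ^ k) :=
    Nat.dvd_gcd (orderOf_dvd_of_pow_eq_one h3) (orderOf_dvd_of_pow_eq_one hN)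
  have h8 : Nat.gcd 3 (2 ^ k) = 1 := Nat.Coprime.pow_right _ (by norm_num)
  rw [h8] at h7
  exact orderOf_eq_one_iff.1 (Nat.dvd_one.1 h7)

theorem f2_facts : ∀ m : Matrix (Fin 2) (Fin 2) (ZMod 2), m ^ 3 = 1 → m ≠ 1 →
    m 1 0 = 1 ∧ (m - 1).det = 1 := by decide

/-! ### elements of order three -/

/-- The companion matrix. -/
def W (R : Type*) [CommRing R] : Matrix (Fin 2) (Fin 2) R := !![0, -1; 1, -1]

/-- Every element of order three is conjugate to the companion matrix. -/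
theorem exists_conj {k : ℕ} (hk : 1 ≤ k) (g : GL (Fin 2) (ZMod (2 ^ k))) (h3 : g ^ 3 = 1) (h1 : g ≠ 1) :
    ∃ P : GL (Fin 2) (ZMod (2 ^ k)), ((P⁻¹ * g * P : GL (Fin 2) (ZMod (2 ^ k))) : Matrix (Fin 2) (Fin 2) (ZMod (2 ^ k))) =
      W (ZMod (2 ^ k)) := by
  set m : Matrix (Fin 2) (Fin 2) (ZMod (2 ^ k)) := (g : Matrix (Fin 2) (Fin 2) (ZMod (2 ^ k))) with hm
  have hm3 : m ^ 3 = 1 := by
    have := congrArg (fun x : GL (Fin 2) (ZMod (2 ^ k)) => (x : Matrix (Fin 2) (Fin 2) (ZMod (2 ^ k)))) h3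
    simpa using this
  have hm1 : m ≠ 1 := by
    intro h
    apply h1
    apply Units.ext
    rw [← hm, h]; rfl
  have hr1 : m.map (red k hk) ≠ 1 := fun h => hm1 (eq_one_of_red hk m hm3 h)
  have hr3 : (m.map (red k hk)) ^ 3 = 1 := by
    have : (red k hk).mapMatrix (m ^ 3) = (red k hk).mapMatrix 1 := by rw [hm3]
    rw [map_pow, map_one] at this
    exact this
  obtain ⟨f1, f2⟩ := f2_facts _ hr3 hr1
  have hu : IsUnit (m 1 0) := by
    apply isUnit_of_red hk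
    rw [Matrix.map_apply] at f1
    rw [f1]; decide
  have hd : IsUnit ((m - 1).det) := by
    apply isUnit_of_red hk
    have : red k hk (m - 1).det = ((red k hk).mapMatrix (m - 1)).det := by rw [RingHom.map_det]
    rw [this, map_sub, map_one]
    have : ((red k hk).mapMatrix m - 1).det = 1 := f2
    rw [this]; decide
  -- `m² + m + 1 = 0`
  have hq : m * m + m + 1 = 0 := by
    have h4 : (m - 1) * (m * m + m + 1) = 0 := by
      have : (m - 1) * (m * m + m + 1) = m ^ 3 - 1 := by noncomm_ring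
      rw [this, hm3, sub_self]
    have h5 : IsUnit (m - 1) := (Matrix.isUnit_iff_isUnit_det _).2 hd
    exact (IsUnit.mul_right_eq_zero h5).1 h4
  obtain ⟨u, hu'⟩ := hu.exists_right_inv
  -- the base change
  let P : Matrix (Fin 2) (Fin 2) (ZMod (2 ^ k)) := !![1, m 0 0; 0, m 1 0]
  let P' : Matrix (Fin 2) (Fin 2) (ZMod (2 ^ k)) := !![1, -(m 0 0 * u); 0, u]
  have hPP' : P * P' = 1 := by
    ext i j
    fin_cases i <;> fin_cases j <;> simp [P, P', Matrix.mul_apply, Fin.sum_univ_two]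
    · exact hu'
  have hP'P : P' * P = 1 := by
    ext i j
    fin_cases i <;> fin_cases j <;> simp [P, P', Matrix.mul_apply, Fin.sum_univ_two]
    · linear_combination (-m 0 0) * hu'
    · linear_combination hu'
  have e00 : m 0 0 * m 0 0 + m 0 1 * m 1 0 + m 0 0 + 1 = 0 := by
    have := congrFun (congrFun hq 0) 0
    simpa [Matrix.mul_apply, Fin.sum_univ_two] using this
  have e10 : m 1 0 * m 0 0 + m 1 1 * m 1 0 + m 1 0 = 0 := by
    have := congrFun (congrFun hq 1) 0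
    simpa [Matrix.mul_apply, Fin.sum_univ_two] using this
  refine ⟨⟨P, P', hPP', hP'P⟩, ?_⟩
  have key : m * P = P * W (ZMod (2 ^ k)) := by
    ext i j
    fin_cases i <;> fin_cases j <;> simp [P, W, Matrix.mul_apply, Fin.sum_univ_two]
    · linear_combination e00
    · linear_combination e10
  have : ((⟨P, P', hPP', hP'P⟩ : GL (Fin 2) (ZMod (2 ^ k)))⁻¹ * g * ⟨P, P', hPP', hP'P⟩ : GL (Fin 2) (ZMod (2 ^ k))).1 =
      P' * m * P := rfl
  rw [this, mul_assoc, key, ← mul_assoc, hP'P, one_mul]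

/-! ### the four-group -/

section Eq
variable {R : Type*} [CommRing R] (p q r s t : R) (h3 : 3 * t = 1)
  (e1 : p*p + q*r = 1) (e2 : p * q + q * s = 0) (e3 : r * p + s * r = 0) (e4 : r * q + s * s = 1)
  (f1 : p*(r+s) + q*(r+s-p-q) = s - q)
  (f2 : -(p*r) + q*(p - r) = p+q-r-s)
  (f3 : r*(r+s) + s*(r+s-p-q) = -q)
  (f4 : -(r*r) + s*(p - r) = p + q)
include h3 e1 e2 e3 e4 f1 f2 f3 f4
theorem eq1 : s = 2 - p := by grind
theorem eq2 : r = (p - 1) + q := by grind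
theorem eq3 : 2 * (p - 1) = 0 := by grind
theorem eq4 : 2 * q = 0 := by grind
end Eq

/-- The four matrices. -/
def V {R : Type*} [CommRing R] (x y : R) : Matrix (Fin 2) (Fin 2) R := !![1 + x, y; x + y, 1 - x]

/-- `W⁻¹`. -/
def W' (R : Type*) [CommRing R] : Matrix (Fin 2) (Fin 2) R := !![-1, 1; -1, 0]

theorem WW' (R : Type*) [CommRing R] : W R * W' R = 1 := by
  ext i j; fin_cases i <;> fin_cases j <;> simp [W, W', Matrix.mul_apply, Fin.sum_univ_two]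
theorem W'W (R : Type*) [CommRing R] : W' R * W R = 1 := by
  ext i j; fin_cases i <;> fin_cases j <;> simp [W, W', Matrix.mul_apply, Fin.sum_univ_two]

/-- `W` as a unit. -/
def WG (R : Type*) [CommRing R] : GL (Fin 2) R := ⟨W R, W' R, WW' R, W'W R⟩

theorem form {k : ℕ} (hk : 1 ≤ k) (a : GL (Fin 2) (ZMod (2 ^ k))) (ha : a * a = 1)
    (hr : a * (WG _ * a * (WG _)⁻¹) = WG _ * (WG _ * a * (WG _)⁻¹) * (WG _)⁻¹) :
    ∃ x y : ZMod (2 ^ k), (x = 0 ∨ x = 2 ^ (k - 1)) ∧ (y = 0 ∨ y = 2 ^ (k - 1)) ∧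
      (a : Matrix (Fin 2) (Fin 2) (ZMod (2 ^ k))) = V x y := by
  set m : Matrix (Fin 2) (Fin 2) (ZMod (2 ^ k)) := (a : Matrix (Fin 2) (Fin 2) (ZMod (2 ^ k))) with hm
  have hmm : m * m = 1 := congrArg Units.val ha
  have hrr : m * (W _ * m * W' _) = W _ * (W _ * m * W' _) * W' _ := congrArg Units.val hr
  obtain ⟨t, ht⟩ := three_unit k
  have e1 := congrFun (congrFun hmm 0) 0
  have e2 := congrFun (congrFun hmm 0) 1
  have e3 := congrFun (congrFun hmm 1) 0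
  have e4 := congrFun (congrFun hmm 1) 1
  have f1 := congrFun (congrFun hrr 0) 0
  have f2 := congrFun (congrFun hrr 0) 1
  have f3 := congrFun (congrFun hrr 1) 0
  have f4 := congrFun (congrFun hrr 1) 1
  simp only [W, W', Matrix.mul_apply, Fin.sum_univ_two, Matrix.of_apply, Matrix.cons_val', Matrix.cons_val_zero,
    Matrix.cons_val_one, Matrix.cons_val_fin_one, Matrix.one_apply_eq] at e1 e2 e3 e4 f1 f2 f3 f4
  rw [Matrix.one_apply_ne (by decide)] at e2 e3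
  have g1 : m 0 0 * (m 1 0 + m 1 1) + m 0 1 * (m 1 0 + m 1 1 - m 0 0 - m 0 1) = m 1 1 - m 0 1 := by
    linear_combination f1
  have g2 : -(m 0 0 * m 1 0) + m 0 1 * (m 0 0 - m 1 0) = m 0 0 + m 0 1 - m 1 0 - m 1 1 := by
    linear_combination f2
  have g3 : m 1 0 * (m 1 0 + m 1 1) + m 1 1 * (m 1 0 + m 1 1 - m 0 0 - m 0 1) = - m 0 1 := by
    linear_combination f3
  have g4 : -(m 1 0 * m 1 0) + m 1 1 * (m 0 0 - m 1 0) = m 0 0 + m 0 1 := by
    linear_combination f4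
  have r1 := eq1 _ _ _ _ t ht e1 e2 e3 e4 g1 g2 g3 g4
  have r2 := eq2 _ _ _ _ t ht e1 e2 e3 e4 g1 g2 g3 g4
  have r3 := eq3 _ _ _ _ t ht e1 e2 e3 e4 g1 g2 g3 g4
  have r4 := eq4 _ _ _ _ t ht e1 e2 e3 e4 g1 g2 g3 g4
  refine ⟨m 0 0 - 1, m 0 1, two_mul_eq_zero hk _ r3, two_mul_eq_zero hk _ r4, ?_⟩
  ext i j
  fin_cases i <;> fin_cases j <;> simp [V]
  · exact r2
  · rw [r1]; ring

theorem two_mul_h {k : ℕ} (hk : 1 ≤ k) : (2 : ZMod (2 ^ k)) ^ (k - 1) + 2 ^ (k - 1) = 0 := by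
  rw [← two_mul, ← pow_succ', show k - 1 + 1 = k by omega]
  have : ((2 ^ k : ℕ) : ZMod (2 ^ k)) = 0 := CharP.cast_eq_zero _ _
  exact_mod_cast this

/-- Conjugation by `W`. -/
theorem W_conj {R : Type*} [CommRing R] (x y : R) : W R * V x y * W' R = V y (-(x + y)) := by
  ext i j
  fin_cases i <;> fin_cases j <;> simp [W, W', V, Matrix.mul_apply, Fin.sum_univ_two] <;> ring

theorem conj_aux {G : Type*} [Group G] (P X g : G) :
    (P * X⁻¹ * X⁻¹)⁻¹ * g * (P * X⁻¹ * X⁻¹) = X * (X * (P⁻¹ * g * P) * X⁻¹) * X⁻¹ := by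
  simp only [_root_.mul_inv_rev, inv_inv, mul_assoc]

theorem exists_std {k : ℕ} (hk : 1 ≤ k) (g a : GL (Fin 2) (ZMod (2 ^ k))) (hg : g ^ 3 = 1) (hg1 : g ≠ 1)
    (ha : a * a = 1) (ha1 : a ≠ 1) (hr : a * (g * a * g⁻¹) = g * (g * a * g⁻¹) * g⁻¹) :
    ∃ P : GL (Fin 2) (ZMod (2 ^ k)), P⁻¹ * g * P = WG _ ∧
      ((P⁻¹ * a * P : GL (Fin 2) (ZMod (2 ^ k))) : Matrix (Fin 2) (Fin 2) (ZMod (2 ^ k))) = V 0 (2 ^ (k - 1)) := by
  obtain ⟨P, hP⟩ := exists_conj hk g hg hg1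
  have hPg : P⁻¹ * g * P = WG _ := Units.ext hP
  set b := P⁻¹ * a * P with hb
  have hbb : b * b = 1 := by
    rw [hb]
    calc P⁻¹ * a * P * (P⁻¹ * a * P) = P⁻¹ * (a * a) * P := by group
      _ = 1 := by rw [ha]; group
  have hb1 : b ≠ 1 := by
    intro h
    apply ha1
    have : a = P * b * P⁻¹ := by rw [hb]; group
    rw [this, h]; group
  have hbr : b * (WG _ * b * (WG _)⁻¹) = WG _ * (WG _ * b * (WG _)⁻¹) * (WG _)⁻¹ := by
    rw [← hPg, hb]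
    calc P⁻¹ * a * P * (P⁻¹ * g * P * (P⁻¹ * a * P) * (P⁻¹ * g * P)⁻¹) = P⁻¹ * (a * (g * a * g⁻¹)) * P := by group
      _ = P⁻¹ * (g * (g * a * g⁻¹) * g⁻¹) * P := by rw [hr]
      _ = _ := by group
  obtain ⟨x, y, hx, hy, hV⟩ := form hk b hbb hbr
  set h : ZMod (2 ^ k) := 2 ^ (k - 1) with hh
  have hh2 : h + h = 0 := two_mul_h hk
  have hneg : -h = h := by
    rw [neg_eq_iff_add_eq_zero]; exact hh2
  have hV00 : (V 0 0 : Matrix (Fin 2) (Fin 2) (ZMod (2 ^ k))) = 1 := by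
    ext i j; fin_cases i <;> fin_cases j <;> simp [V]
  rcases hx with hx | hx
  · rcases hy with hy | hy
    · exfalso
      apply hb1
      apply Units.ext
      rw [hV, hx, hy, hV00]; rfl
    · exact ⟨P, hPg, by rw [hV, hx, hy]⟩
  · rcases hy with hy | hy
    · -- `(h, 0) → (0, -h)`
      refine ⟨P * (WG _)⁻¹, ?_, ?_⟩
      · calc (P * (WG _)⁻¹)⁻¹ * g * (P * (WG _)⁻¹) = WG _ * (P⁻¹ * g * P) * (WG _)⁻¹ := by group
          _ = WG _ := by rw [hPg]; group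
      · have e1 : (P * (WG _)⁻¹)⁻¹ * a * (P * (WG _)⁻¹) = WG _ * b * (WG _)⁻¹ := by rw [hb]; group
        rw [e1]
        have e2 : ((WG _ * b * (WG _)⁻¹ : GL (Fin 2) (ZMod (2 ^ k))) : Matrix (Fin 2) (Fin 2) (ZMod (2 ^ k))) =
            W _ * b.1 * W' _ := rfl
        rw [e2, hV, W_conj, hx, hy, add_zero, hneg]
    · -- `(h, h) → (h, -2h) = (h, 0) → (0, -h)`
      refine ⟨P * (WG _)⁻¹ * (WG _)⁻¹, ?_, ?_⟩
      · calc (P * (WG _)⁻¹ * (WG _)⁻¹)⁻¹ * g * (P * (WG _)⁻¹ * (WG _)⁻¹) = WG _ * (WG _ * (P⁻¹ * g * P) * (WG _)⁻¹) * (WG _)⁻¹ := conj_aux _ _ _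
          _ = WG _ := by rw [hPg]; group
      · have e1 : (P * (WG _)⁻¹ * (WG _)⁻¹)⁻¹ * a * (P * (WG _)⁻¹ * (WG _)⁻¹) = WG _ * (WG _ * b * (WG _)⁻¹) * (WG _)⁻¹ := conj_aux _ _ _
        rw [e1]
        have e2 : ((WG _ * (WG _ * b * (WG _)⁻¹) * (WG _)⁻¹ : GL (Fin 2) (ZMod (2 ^ k))) : Matrix (Fin 2) (Fin 2) (ZMod (2 ^ k))) =
            W _ * (W _ * b.1 * W' _) * W' _ := rfl
        rw [e2, hV, W_conj, W_conj, hx, hy, hh2, neg_zero, add_zero, hneg]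

theorem a4_rel : (Lib.VonDyck.a4 * (Lib.VonDyck.b4 * Lib.VonDyck.a4 * Lib.VonDyck.b4⁻¹)) =
    Lib.VonDyck.b4 * (Lib.VonDyck.b4 * Lib.VonDyck.a4 * Lib.VonDyck.b4⁻¹) * Lib.VonDyck.b4⁻¹ := by decide

theorem exists_gen {k : ℕ} (hk : 1 ≤ k) (H : Subgroup (GL (Fin 2) (ZMod (2 ^ k))))
    (h : Nonempty (↥H ≃* ↥(alternatingGroup (Fin 4)))) :
    ∃ P a : GL (Fin 2) (ZMod (2 ^ k)), (a : Matrix (Fin 2) (Fin 2) (ZMod (2 ^ k))) = V 0 (2 ^ (k - 1)) ∧
      H = (Subgroup.closure {a, WG (ZMod (2 ^ k))}).map (MulAut.conj P).toMonoidHom := by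
  obtain ⟨e⟩ := h
  set g : GL (Fin 2) (ZMod (2 ^ k)) := (e.symm Lib.VonDyck.b4 : GL (Fin 2) (ZMod (2 ^ k))) with hgdef
  set a : GL (Fin 2) (ZMod (2 ^ k)) := (e.symm Lib.VonDyck.a4 : GL (Fin 2) (ZMod (2 ^ k))) with hadef
  have hinj : Function.Injective (H.subtype.comp e.symm.toMonoidHom) :=
    H.subtype_injective.comp e.symm.injective
  have hg : (H.subtype.comp e.symm.toMonoidHom) Lib.VonDyck.b4 = g := rfl
  have ha : (H.subtype.comp e.symm.toMonoidHom) Lib.VonDyck.a4 = a := rfl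
  set f := H.subtype.comp e.symm.toMonoidHom with hf
  have hg3 : g ^ 3 = 1 := by rw [← hg, ← map_pow, Lib.VonDyck.b4_pow, map_one]
  have hg1 : g ≠ 1 := by
    intro h
    rw [← hg, map_eq_one_iff f hinj] at h
    exact Lib.VonDyck.b4_ne h
  have ha2 : a * a = 1 := by rw [← ha, ← map_mul, ← pow_two, Lib.VonDyck.a4_sq, map_one]
  have ha1 : a ≠ 1 := by
    intro h
    rw [← ha, map_eq_one_iff f hinj] at h
    exact Lib.VonDyck.a4_ne h
  have hr : a * (g * a * g⁻¹) = g * (g * a * g⁻¹) * g⁻¹ := by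
    have := congrArg f a4_rel
    simpa only [map_mul, map_inv, hg, ha] using this
  obtain ⟨P, hP1, hP2⟩ := exists_std hk g a hg3 hg1 ha2 ha1 hr
  refine ⟨P, P⁻¹ * a * P, hP2, ?_⟩
  have hH : H = Subgroup.closure {a, g} := by
    have h1 : H = f.range := by
      rw [hf, MonoidHom.range_comp, MonoidHom.range_eq_top.2 (show Function.Surjective e.symm.toMonoidHom from e.symm.surjective),
        ← MonoidHom.range_eq_map, Subgroup.range_subtype]
    rw [h1, MonoidHom.range_eq_map, ← Lib.VonDyck.closure_a4_b4, MonoidHom.map_closure, Set.image_pair, ha, hg]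
  rw [MonoidHom.map_closure, Set.image_pair, ← hP1, hH]
  congr 1
  have e1 : (MulAut.conj P).toMonoidHom (P⁻¹ * a * P) = a := by
    change P * (P⁻¹ * a * P) * P⁻¹ = a
    group
  have e2 : (MulAut.conj P).toMonoidHom (P⁻¹ * g * P) = g := by
    change P * (P⁻¹ * g * P) * P⁻¹ = g
    group
  rw [e1, e2]

/-- For k ≥ 2, any two subgroups of GL₂(ℤ/2ᵏℤ) (the automorphism group of the homocyclic group ℤ/2ᵏ × ℤ/2ᵏ) that are isomorphic to the alternating group of degree 4 are conjugate. -/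
theorem result (k : ℕ) (hk : 2 ≤ k) (H₁ H₂ : Subgroup (GL (Fin 2) (ZMod (2 ^ k)))) (h₁ : Nonempty (↥H₁ ≃* ↥(alternatingGroup (Fin 4)))) (h₂ : Nonempty (↥H₂ ≃* ↥(alternatingGroup (Fin 4)))) : ∃ g : GL (Fin 2) (ZMod (2 ^ k)), H₂ = H₁.map (MulAut.conj g).toMonoidHom := by
  obtain ⟨P, a, ha, hP⟩ := exists_gen (by omega) H₁ h₁
  obtain ⟨Q, b, hb, hQ⟩ := exists_gen (by omega) H₂ h₂
  have hab : a = b := Units.ext (ha.trans hb.symm)
  subst hab
  refine ⟨Q * P⁻¹, ?_⟩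
  rw [hQ, hP, Subgroup.map_map]
  congr 1
  ext1 x
  change Q * x * Q⁻¹ = (Q * P⁻¹) * (P * x * P⁻¹) * (Q * P⁻¹)⁻¹
  group

end Cfsg.Agent.S2874
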