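import Cfsg.Statements.S2880
import Cfsg.Agent.H235.ExtraCount
set_option linter.all false

set_option autoImplicit false
open Cfsg

namespace Cfsg.Agent.S2880

/-- Let E be an extraspecial 2-group of order 2^(2m+1) of plus type, that is, containing an elementary abelian subgroup of order 2^(m+1) (equivalently, a central product of m dihedral groups of order 8). Then E has exactly 2^(2m) − 2^m elements of order 4. -/
theorem result {E : Type*} [Group E] [Finite E] (m : ℕ) (hm : 1 ≤ m) (hE : Cfsg.IsExtraspecial 2 E) (hcard : Nat.card E = 2 ^ (2 * m + 1)) (hplus : ∃ A : Subgroup E, Cfsg.IsElementaryAbelian 2 A ∧ Nat.card A = 2 ^ (m + 1)) : Nat.card {x : E // orderOf x = 4} = 2 ^ (2 * m) - 2 ^ m := by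
  classical
  have : Fintype E := Fintype.ofFinite E
  obtain ⟨z, B⟩ := Cfsg.Agent.H235.ExtraCount.bas_of hE
  obtain ⟨A, hA, hAc⟩ := hplus
  refine Cfsg.Agent.H235.ExtraCount.count m B hcard A ?_ ?_ hAc
  · intro a ha b hb
    have := hA.1
    exact congrArg Subtype.val (mul_comm' (⟨a, ha⟩ : A) ⟨b, hb⟩)
  · intro a ha
    rw [← pow_two]
    exact hA.2 a ha

end Cfsg.Agent.S2880
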