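import Cfsg.Statements.S2881
import Cfsg.Agent.S2880
set_option linter.all false

set_option autoImplicit false
open Cfsg

namespace Cfsg.Agent.S2881

/-- Let E be an extraspecial 2-group of order 2^(2m+1) of plus type (containing an elementary abelian subgroup of order 2^(m+1)), and let ω be an automorphism of E of order 5 whose fixed points are exactly the centre of E. Then m is divisible by 4. -/
theorem result {E : Type*} [Group E] [Finite E] (m : ℕ) (hm : 1 ≤ m) (hE : Cfsg.IsExtraspecial 2 E) (hcard : Nat.card E = 2 ^ (2 * m + 1)) (hplus : ∃ A : Subgroup E, Cfsg.IsElementaryAbelian 2 A ∧ Nat.card A = 2 ^ (m + 1)) (ω : E ≃* E) (hω : orderOf ω = 5) (hfix : ∀ x : E, ω x = x ↔ x ∈ Subgroup.center E) : 4 ∣ m := by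
  classical
  have : Fintype E := Fintype.ofFinite E
  have hN := Cfsg.Agent.S2880.result m hm hE hcard hplus
  set X := {x : E // orderOf x = 4} with hX
  -- the action of `⟨ω⟩` on the elements of order 4
  let f : Equiv.Perm X :=
    { toFun := fun x => ⟨ω x, by rw [MulEquiv.orderOf_eq]; exact x.2⟩
      invFun := fun x => ⟨ω.symm x, by rw [MulEquiv.orderOf_eq]; exact x.2⟩
      left_inv := fun x => Subtype.ext (ω.symm_apply_apply x)
      right_inv := fun x => Subtype.ext (ω.apply_symm_apply x) }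
  have hf : ∀ x : X, ((f x : X) : E) = ω x := fun x => rfl
  have hfp : ∀ (n : ℕ) (x : X), (((f ^ n) x : X) : E) = (ω ^ n) x := by
    intro n
    induction n with
    | zero => intro x; rfl
    | succ n ih =>
      intro x
      rw [pow_succ, pow_succ, Equiv.Perm.mul_apply, ih, hf]
      rfl
  have hf5 : f ^ 5 = 1 := by
    ext x
    rw [hfp, ← hω, pow_orderOf_eq_one]
    rfl
  have hnofix : ∀ x : X, f x ≠ x := by
    intro x hx
    have h1 : ω (x : E) = x := congrArg Subtype.val hx
    have h2 := (hfix x).1 h1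
    have h3 := x.2
    have h4 : (x : E) ^ 2 = 1 := Cfsg.Agent.Transfer.Extraspecial.pow_eq_one_of_mem_center hE h2
    have h5 : orderOf (x : E) ∣ 2 := orderOf_dvd_of_pow_eq_one h4
    rw [h3] at h5
    norm_num at h5
  have hdvd : 5 ∣ Nat.card X := by
    have hp : Fact (Nat.Prime 5) := ⟨by norm_num⟩
    have h2 := Equiv.Perm.card_compl_support_modEq (σ := f) (p := 5) (n := 1) (by rw [pow_one]; exact hf5)
    have h3 : (f.support)ᶜ = ∅ := by
      ext x
      simp [hnofix x]
    rw [h3, Finset.card_empty] at h2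
    have h1 : Nat.card X ≡ 0 [MOD 5] := by
      rw [Nat.card_eq_fintype_card]
      exact h2.symm
    exact (Nat.modEq_zero_iff_dvd).1 h1
  rw [hN] at hdvd
  have h1 : 2 ^ (2 * m) - 2 ^ m = 2 ^ m * (2 ^ m - 1) := by
    rw [Nat.mul_sub, mul_one, ← pow_add, two_mul]
  rw [h1] at hdvd
  have hp5 : Nat.Prime 5 := by norm_num
  have h2 : 5 ∣ 2 ^ m - 1 := by
    rcases hp5.dvd_mul.1 hdvd with h | h
    · have := hp5.dvd_of_dvd_pow h
      norm_num at this
    · exact h
  -- `2 ^ m ≡ 1 (mod 5)` forces `4 ∣ m`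
  have h3 : 2 ^ m % 5 = 1 := by
    have h4 : 1 ≤ 2 ^ m := Nat.one_le_two_pow
    omega
  have h4 : m = 4 * (m / 4) + m % 4 := (Nat.div_add_mod m 4).symm
  have h5 : 2 ^ m % 5 = 2 ^ (m % 4) % 5 := by
    conv_lhs => rw [h4, pow_add, pow_mul]
    rw [Nat.mul_mod, Nat.pow_mod]
    norm_num
  rw [h5] at h3
  have h6 : m % 4 < 4 := Nat.mod_lt _ (by norm_num)
  interval_cases h7 : m % 4
  · exact Nat.dvd_of_mod_eq_zero h7
  · norm_num at h3
  · norm_num at h3
  · norm_num at h3

end Cfsg.Agent.S2881
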