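import Cfsg.Statements.S2888
import Cfsg.Agent.S0000
import Cfsg.Agent.H226.ParG
import Cfsg.Agent.H226.Rows
import Cfsg.Agent.H5.Piv.Main
import Cfsg.Agent.H237.OSevenG
set_option linter.all false

set_option autoImplicit false
open Cfsg

namespace Cfsg.Agent.S2888

/-- Let p be a prime and G a finite group of parabolic characteristic p all of whose 2-local and p-local subgroups are K-groups. Let H be a subgroup of G of index prime to p with H = N_G(F*(H)) and F*(H) a simple group of Lie type in characteristic p of Lie rank at least two. If some p-local subgroup of G contains a Sylow p-subgroup of H but is not contained in H, then one of the following holds: p = 2 and (F*(G), F*(H)) is one of (M₁₁, A₆), (PSL₄(3), PSU₄(2)), (G₂(3), PSU₃(3)), (M₂₃, PSL₃(4)), (A₁₀, PSL₄(2)), (PΩ₈⁺(3), Ω₈⁺(2)); p = 3 and (F*(G), F*(H)) is one of (F₄(2), PSL₄(3)), (PSU₆(2),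 PSU₄(3)), (McL, PSU₄(3)), (Co₂, PSU₄(3)), (²E₆(2), PΩ₇(3)), (Fi₂₂, PΩ₇(3)), (Fi₂₃, PΩ₈⁺(3)), (B, PΩ₈⁺(3)) with B the Baby Monster; p = 5, G is the Lyons group and F*(H) ≅ G₂(5); or p ∈ {3, 5, 7, 13} and F*(H) ≅ PSL₃(p). -/
theorem result {G : Type*} [Group G] [Finite G] {p : ℕ} [Fact p.Prime] (hK2 : Cfsg.IsKpGroup 2 G) (hKp : Cfsg.IsKpGroup p G) (hpar : Cfsg.IsOfParabolicCharacteristic p G) (H : Subgroup G) (hidx : ¬ p ∣ H.index) (hN : Subgroup.normalizer (((Cfsg.generalizedFittingSubgroup ↥H).map H.subtype : Subgroup G) : Set G) = H) (hF : Cfsg.IsLieRankAtLeastTwoChar p ↥(Cfsg.generalizedFittingSubgroup ↥H)) (hloc : ∃ R : Subgroup G, IsPGroup p R ∧ R ≠ ⊥ ∧ (∃ T : Sylow p ↥H, (T : Subgroup ↥H).map H.subtype ≤ Subgroup.normalizer (R : Set G)) ∧ ¬ Subgroup.normalizer (R : Set G) ≤ H) : (p = 2 ∧ ((Cfsg.Spor.IsoM11 ↥(Cfsg.generalizedFittingSubgroup G)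 ∧ Nonempty (↥(Cfsg.generalizedFittingSubgroup ↥H) ≃* ↥(alternatingGroup (Fin 6)))) ∨ ((∃ (F : Type) (_ : Field F) (_ : Fintype F), Fintype.card F = 3 ∧ Nonempty (↥(Cfsg.generalizedFittingSubgroup G) ≃* Matrix.ProjectiveSpecialLinearGroup (Fin 4) F)) ∧ (∃ (F : Type) (_ : Field F) (_ : Fintype F), Fintype.card F = 2 ^ 2 ∧ Nonempty (↥(Cfsg.generalizedFittingSubgroup ↥H) ≃* Cfsg.PSU 4 F 2))) ∨ ((∃ (F : Type) (_ : Field F) (_ : Fintype F), Fintype.card F = 3 ∧ Nonempty (↥(Cfsg.generalizedFittingSubgroup G) ≃* ↥(Cfsg.Lie.chevG2.group F))) ∧ (∃ (F : Type) (_ : Field F) (_ : Fintype F), Fintype.card F = 3 ^ 2 ∧ Nonempty (↥(Cfsg.generalizedFittingSubgroup ↥H) ≃* Cfsg.PSU 3 F 3))) ∨ (Cfsg.Spor.IsoM23 ↥(Cfsg.generalizedFittingSubgroup G) ∧ (∃ (F : Type) (_ : Field F) (_ : Fintype F), Fintype.card F = 4 ∧ Nonempty (↥(Cfsg.generalizedFittingSubgroup ↥H) ≃* Matrix.ProjectiveSpecialLinearGroup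 (Fin 3) F))) ∨ (Nonempty (↥(Cfsg.generalizedFittingSubgroup G) ≃* ↥(alternatingGroup (Fin 10))) ∧ (∃ (F : Type) (_ : Field F) (_ : Fintype F), Fintype.card F = 2 ∧ Nonempty (↥(Cfsg.generalizedFittingSubgroup ↥H) ≃* Matrix.ProjectiveSpecialLinearGroup (Fin 4) F))) ∨ ((∃ (F : Type) (_ : Field F) (_ : Fintype F), Fintype.card F = 3 ∧ Nonempty (↥(Cfsg.generalizedFittingSubgroup G) ≃* Cfsg.POmega F (Cfsg.quadFormPlus 4 F))) ∧ (∃ (F : Type) (_ : Field F) (_ : Fintype F), Fintype.card F = 2 ∧ Nonempty (↥(Cfsg.generalizedFittingSubgroup ↥H) ≃* Cfsg.POmega F (Cfsg.quadFormPlus 4 F)))))) ∨ (p = 3 ∧ (((∃ (F : Type) (_ : Field F) (_ : Fintype F), Fintype.card F = 2 ∧ Nonempty (↥(Cfsg.generalizedFittingSubgroup G) ≃* ↥(Cfsg.Lie.chevF4.group F))) ∧ (∃ (F : Type) (_ : Field F) (_ : Fintype F), Fintype.card F = 3 ∧ Nonempty (↥(Cfsg.generalizedFittingSubgroup ↥H) ≃*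 Matrix.ProjectiveSpecialLinearGroup (Fin 4) F))) ∨ ((∃ (F : Type) (_ : Field F) (_ : Fintype F), Fintype.card F = 2 ^ 2 ∧ Nonempty (↥(Cfsg.generalizedFittingSubgroup G) ≃* Cfsg.PSU 6 F 2)) ∧ (∃ (F : Type) (_ : Field F) (_ : Fintype F), Fintype.card F = 3 ^ 2 ∧ Nonempty (↥(Cfsg.generalizedFittingSubgroup ↥H) ≃* Cfsg.PSU 4 F 3))) ∨ (Cfsg.Spor.IsoMcL ↥(Cfsg.generalizedFittingSubgroup G) ∧ (∃ (F : Type) (_ : Field F) (_ : Fintype F), Fintype.card F = 3 ^ 2 ∧ Nonempty (↥(Cfsg.generalizedFittingSubgroup ↥H) ≃* Cfsg.PSU 4 F 3))) ∨ (Cfsg.Spor.IsoCo2 ↥(Cfsg.generalizedFittingSubgroup G) ∧ (∃ (F : Type) (_ : Field F) (_ : Fintype F), Fintype.card F = 3 ^ 2 ∧ Nonempty (↥(Cfsg.generalizedFittingSubgroup ↥H) ≃* Cfsg.PSU 4 F 3))) ∨ ((∃ (L : Type) (_ : Field L) (_ : Fintype L), Fintype.card L = 2 ^ 2 ∧ Nonempty (↥(Cfsg.generalizedFittingSubgroup G) ≃* ↥(Cfsg.Lie.twistedE6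 L 2))) ∧ (∃ (F : Type) (_ : Field F) (_ : Fintype F), Fintype.card F = 3 ∧ Nonempty (↥(Cfsg.generalizedFittingSubgroup ↥H) ≃* Cfsg.POmega F (Cfsg.quadFormOdd 3 F)))) ∨ (Cfsg.Spor.IsoFi22 ↥(Cfsg.generalizedFittingSubgroup G) ∧ (∃ (F : Type) (_ : Field F) (_ : Fintype F), Fintype.card F = 3 ∧ Nonempty (↥(Cfsg.generalizedFittingSubgroup ↥H) ≃* Cfsg.POmega F (Cfsg.quadFormOdd 3 F)))) ∨ (Cfsg.Spor.IsoFi23 ↥(Cfsg.generalizedFittingSubgroup G) ∧ (∃ (F : Type) (_ : Field F) (_ : Fintype F), Fintype.card F = 3 ∧ Nonempty (↥(Cfsg.generalizedFittingSubgroup ↥H) ≃* Cfsg.POmega F (Cfsg.quadFormPlus 4 F)))) ∨ (Cfsg.Spor.IsoB ↥(Cfsg.generalizedFittingSubgroup G) ∧ (∃ (F : Type) (_ : Field F) (_ : Fintype F), Fintype.card F = 3 ∧ Nonempty (↥(Cfsg.generalizedFittingSubgroup ↥H) ≃* Cfsg.POmega F (Cfsg.quadFormPlus 4 F)))))) ∨ (p = 5 ∧ Cfsg.Spor.IsoLy G ∧ (∃ (F : Type)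 (_ : Field F) (_ : Fintype F), Fintype.card F = 5 ∧ Nonempty (↥(Cfsg.generalizedFittingSubgroup ↥H) ≃* ↥(Cfsg.Lie.chevG2.group F)))) ∨ ((p = 3 ∨ p = 5 ∨ p = 7 ∨ p = 13) ∧ (∃ (F : Type) (_ : Field F) (_ : Fintype F), Fintype.card F = p ∧ Nonempty (↥(Cfsg.generalizedFittingSubgroup ↥H) ≃* Matrix.ProjectiveSpecialLinearGroup (Fin 3) F))) := by
  exact Cfsg.Agent.H226.ParG.s2888 (fun X _ _ _ => Cfsg.Agent.S0000.result (G := X)) Cfsg.Agent.H226.Rows.par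
    (fun X _ _ hX => Cfsg.Agent.H237.OSevenG.not_parabolic_o73 hX) Cfsg.Agent.H5.Piv.pivLemma hpar H hidx hN hF hloc

end Cfsg.Agent.S2888
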