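import Cfsg.Statements.S3802
import Cfsg.Agent.Lib.SubnormalJoin
set_option linter.all false

set_option autoImplicit false
open Cfsg

namespace Cfsg.Agent.S3802

/-- Let G be a finite group, M a maximal subgroup of G and N a subnormal subgroup of G contained in M. Then N is contained in every conjugate of M, that is, N lies in the core of M in G. -/
theorem result {G : Type*} [Group G] [Finite G] (M N : Subgroup G) (hM : IsCoatom M) (hN : N.IsSubnormal) (hNM : N ≤ M) :
    N ≤ Subgroup.normalCore M := by
  classical
  set C : Subgroup G := Subgroup.normalCore M with hC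
  have hCn : C.Normal := Subgroup.normalCore_normal M
  let q : G →* G ⧸ C := QuotientGroup.mk' C
  have hq : Function.Surjective q := QuotientGroup.mk'_surjective C
  have hker : q.ker = C := QuotientGroup.ker_mk' C
  have hcomap : (M.map q).comap q = M := by
    rw [Subgroup.comap_map_eq, hker]
    exact sup_eq_left.mpr (Subgroup.normalCore_le M)
  have hnt : Nontrivial (G ⧸ C) := by
    rw [QuotientGroup.nontrivial_iff]
    intro h
    exact hM.1 (top_le_iff.mp (h ▸ Subgroup.normalCore_le M))
  obtain ⟨K, hKn, hKne, hKmin⟩ := Lib.SubnormalJoin.exists_minimal_normal (G ⧸ C)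
  have hNq : (N.map q).IsSubnormal := hN.map hq
  have hKnorm := Lib.SubnormalJoin.le_normalizer_of_minimal_normal (N.map q) K hNq hKn hKmin
  have hKM : ¬ K ≤ M.map q := by
    intro h
    have h1 : K.comap q ≤ M := by
      rw [← hcomap]; exact Subgroup.comap_mono h
    have h2 : K.comap q ≤ C := by
      have := hKn.comap q
      exact Subgroup.normal_le_normalCore.mpr h1
    apply hKne
    rw [eq_bot_iff]
    intro x hx
    obtain ⟨g, rfl⟩ := hq x
    have : g ∈ C := h2 hx
    rw [Subgroup.mem_bot]
    exact (QuotientGroup.eq_one_iff g).mpr this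
  have hsup : M ⊔ K.comap q = ⊤ := by
    apply hM.2
    refine lt_of_le_of_ne le_sup_left ?_
    intro h
    apply hKM
    have h1 : K.comap q ≤ M := by
      rw [h]; exact le_sup_right
    intro x hx
    obtain ⟨g, rfl⟩ := hq x
    exact Subgroup.mem_map_of_mem q (h1 hx)
  intro n hn g
  have hKc : (K.comap q).Normal := hKn.comap q
  have hg : g ∈ M ⊔ K.comap q := by rw [hsup]; trivial
  rw [Subgroup.mem_sup_of_normal_right] at hg
  obtain ⟨m, hm, k, hk, rfl⟩ := hg
  have h1 : q (k * n * k⁻¹) ∈ N.map q := by
    rw [map_mul, map_mul, map_inv]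
    exact (Subgroup.mem_normalizer_iff.mp (hKnorm hk) (q n)).mp (Subgroup.mem_map_of_mem q hn)
  have h2 : k * n * k⁻¹ ∈ M := by
    rw [← hcomap]
    exact Subgroup.map_mono hNM h1
  have h3 : m * k * n * (m * k)⁻¹ = m * (k * n * k⁻¹) * m⁻¹ := by group
  rw [h3]
  exact M.mul_mem (M.mul_mem hm h2) (M.inv_mem hm)

end Cfsg.Agent.S3802
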