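import Cfsg.Agent.Lib.Cores
import Cfsg.Agent.Lib.ThompsonPQ
import Cfsg.Agent.Lib.KleinGen
import Cfsg.Agent.S1313
import Cfsg.Statements.S2924
import Cfsg.Agent.ThreePrime.CoreConj
import Cfsg.Agent.Classification.LocalCore
import Cfsg.Agent.SignalizersComponents.CharP
import Cfsg.Agent.S0217
set_option linter.all false

-- part: H246/CoreBalance
section
/-!
# Odd signalizers inverted by an involution, in a group without components

Let `H` be a finite group with `E(H) = 1`, `z` an element of `H` with `z² = 1` inverting `O(H)`,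
`x` a 2-element of `H`, and `D` a subgroup of `C_H(x)` of odd order, normalized by `C_H(x)` and
inverted by `z`. Then `D ≤ O(H)`.
-/

set_option autoImplicit false
set_option linter.style.haveILetI false

namespace Cfsg.Agent.H246.CoreBalance

open Subgroup Cfsg Cfsg.Agent.Lib.Cores

/-- `F(H) ≤ O_p(H) O_{p'}(H)`. -/
theorem fitting_le (H : Type*) [Group H] [Finite H] (p : ℕ) [hp : Fact p.Prime] :
    fittingSubgroup H ≤ pCore p H ⊔ pPrimeCore p H := by
  rw [fittingSubgroup_eq_iSup_pCore]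
  refine iSup_le fun q => ?_
  by_cases hq : (q : ℕ) = p
  · rw [hq]
    exact le_sup_left
  · refine le_trans ?_ le_sup_right
    haveI : Fact (q : ℕ).Prime := ⟨q.2⟩
    refine le_pPrimeCore (Cfsg.Agent.Lib.Cores.pCore_normal _) ?_
    obtain ⟨n, hn⟩ := IsPGroup.iff_card.1 (pCore_isPGroup (G := H) (q : ℕ))
    rw [hn]
    exact Nat.Coprime.pow_left n ((Nat.coprime_primes q.2 hp.out).2 hq)

/-- a subgroup of odd order inside `F(H)` lies in `O(H)` -/
theorem le_core_of_le_fitting {H : Type*} [Group H] [Finite H] (p : ℕ) [hp : Fact p.Prime]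
    {D : Subgroup H} (hD : (Nat.card D).Coprime p) (h : D ≤ fittingSubgroup H) :
    D ≤ pPrimeCore p H := by
  haveI := pCore_normal (G := H) p
  haveI := pPrimeCore_normal (G := H) p
  intro d hd
  obtain ⟨u, hu, o, ho, huo⟩ := mem_sup_of_normal_left.1 (fitting_le H p (h hd))
  have hcomm : Commute u o := by
    have h1 : ⁅pCore p H, pPrimeCore p H⁆ = ⊥ := by
      rw [eq_bot_iff, ← pCore_inf_pPrimeCore (G := H) p]
      exact commutator_le_inf _ _
    exact (mem_centralizer_iff.1 (commutator_eq_bot_iff_le_centralizer.1 h1 hu) o ho).symm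
  have hdo : (orderOf d).Coprime p :=
    Nat.Coprime.coprime_dvd_left (by
      have := orderOf_dvd_natCard (⟨d, hd⟩ : D)
      rwa [← Subgroup.orderOf_coe] at this) hD
  obtain ⟨k, hk⟩ := (pCore_isPGroup (G := H) p) ⟨u, hu⟩
  have hk' : u ^ p ^ k = 1 := by
    simpa using congrArg Subtype.val hk
  have hun : u ^ orderOf d = 1 := by
    have h2 : (u * o) ^ orderOf d = 1 := by rw [huo, pow_orderOf_eq_one]
    rw [hcomm.mul_pow] at h2
    have h3 : u ^ orderOf d = (o ^ orderOf d)⁻¹ := eq_inv_of_mul_eq_one_left h2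
    have h4 : u ^ orderOf d ∈ pCore p H ⊓ pPrimeCore p H :=
      mem_inf.2 ⟨pow_mem hu _, by rw [h3]; exact inv_mem (pow_mem ho _)⟩
    rw [pCore_inf_pPrimeCore] at h4
    exact h4
  have hu1 : u = 1 := by
    have h5 : orderOf u ∣ Nat.gcd (orderOf d) (p ^ k) :=
      Nat.dvd_gcd (orderOf_dvd_of_pow_eq_one hun) (orderOf_dvd_of_pow_eq_one hk')
    rw [Nat.Coprime.pow_right k hdo] at h5
    exact orderOf_eq_one_iff.1 (Nat.dvd_one.1 h5)
  rw [← huo, hu1, one_mul]
  exact ho

/-- an element of odd order whose square lies in a subgroup lies in it -/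
theorem mem_of_sq_mem {H : Type*} [Group H] [Finite H] {C D : Subgroup H} (hD : Odd (Nat.card D))
    {d : H} (hd : d ∈ D) (h : d * d ∈ C) : d ∈ C := by
  have ho : Odd (orderOf d) := Odd.of_dvd_nat hD (by
      have := orderOf_dvd_natCard (⟨d, hd⟩ : D)
      rwa [← Subgroup.orderOf_coe] at this)
  obtain ⟨m, hm⟩ := ho
  have h1 : d = (d * d) ^ (m + 1) := by
    have h2 : d ^ (2 * m + 1) = 1 := by rw [← hm]; exact pow_orderOf_eq_one d
    calc d = d * d ^ (2 * m + 1) := by rw [h2, mul_one]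
      _ = (d * d) ^ (m + 1) := by
        rw [← sq, ← pow_mul, ← pow_succ']
        congr 1
  rw [h1]
  exact pow_mem h _

/-- **Main lemma.** -/
theorem le_core_of_inverted {H : Type*} [Group H] [Finite H] (hE : layer H = ⊥) {z x : H}
    (hzO : ∀ o ∈ pPrimeCore 2 H, z * o * z⁻¹ = o⁻¹)
    (hx : x * x = 1) {D : Subgroup H} (hDx : ∀ d ∈ D, d * x = x * d)
    (hDn : ∀ c : H, c * x = x * c → ∀ d ∈ D, c * d * c⁻¹ ∈ D) (hD : Odd (Nat.card D))
    (hzD : ∀ d ∈ D, z * d * z⁻¹ = d⁻¹) : D ≤ pPrimeCore 2 H := by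
  classical
  haveI := pCore_normal (G := H) 2
  haveI := pPrimeCore_normal (G := H) 2
  have hD2 : (Nat.card D).Coprime 2 := Nat.coprime_two_right.2 hD
  -- `D` centralizes `O(H)`
  have h1 : D ≤ centralizer (pPrimeCore 2 H : Set H) := by
    intro d hd
    refine mem_of_sq_mem hD hd ?_
    rw [mem_centralizer_iff]
    intro o ho
    have e1 : z * o * z⁻¹ = o⁻¹ := hzO o ho
    have ho' : d * o * d⁻¹ ∈ pPrimeCore 2 H := Normal.conj_mem inferInstance o ho d
    have e2 : z * (d * o * d⁻¹) * z⁻¹ = (d * o * d⁻¹)⁻¹ := hzO _ ho'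
    have e3 : z * (d * o * d⁻¹) * z⁻¹ = d⁻¹ * o⁻¹ * d := by
      calc z * (d * o * d⁻¹) * z⁻¹ = (z * d * z⁻¹) * (z * o * z⁻¹) * (z * d * z⁻¹)⁻¹ := by group
        _ = d⁻¹ * o⁻¹ * d⁻¹⁻¹ := by rw [hzD d hd, e1]
        _ = d⁻¹ * o⁻¹ * d := by group
    have e4 : d * o * d⁻¹ = d⁻¹ * o * d := by
      have : (d * o * d⁻¹)⁻¹ = (d⁻¹ * o * d)⁻¹ := by
        rw [← e2, e3]
        group
      exact inv_injective this
    calc o * (d * d) = d * (d⁻¹ * o * d) * d := by group
      _ = d * (d * o * d⁻¹) * d := by rw [e4]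
      _ = d * d * o := by group
  -- `D` centralizes `O₂(H)`
  have h2 : D ≤ centralizer (pCore 2 H : Set H) := by
    refine Cfsg.Agent.Lib.ThompsonPQ.thompson_p_times_q 2 (zpowers x) D (pCore 2 H) ?_ hD2
      (pCore_isPGroup 2) ?_ ?_ ?_ ?_
    · rw [IsPGroup.iff_card]
      have h3 : Nat.card (zpowers x) ∣ 2 := by
        rw [Nat.card_zpowers]
        exact orderOf_dvd_of_pow_eq_one (by rw [sq]; exact hx)
      rcases (Nat.dvd_prime Nat.prime_two).1 h3 with h4 | h4
      · exact ⟨0, by rw [h4]; rfl⟩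
      · exact ⟨1, by rw [h4]; rfl⟩
    · rw [zpowers_le, mem_centralizer_iff]
      exact hDx
    · rw [normalizer_eq_top]
      exact le_top
    · rw [normalizer_eq_top]
      exact le_top
    · intro u hu0
      obtain ⟨hu, hux⟩ := mem_inf.1 hu0
      have hux' : u * x = x * u :=
        ((mem_centralizer_iff.1 hux) x (mem_zpowers x)).symm
      rw [mem_centralizer_iff]
      intro d hd
      have h5 : d * u * d⁻¹ * u⁻¹ ∈ D ⊓ pCore 2 H := by
        refine mem_inf.2 ⟨?_, ?_⟩
        · have := D.mul_mem hd (hDn u hux' _ (D.inv_mem hd))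
          have e : d * u * d⁻¹ * u⁻¹ = d * (u * d⁻¹ * u⁻¹) := by group
          rw [e]
          exact this
        · exact mul_mem (Normal.conj_mem inferInstance u hu d) (inv_mem hu)
      have h6 : D ⊓ pCore 2 H = ⊥ := by
        obtain ⟨n, hn⟩ := IsPGroup.iff_card.mp (pCore_isPGroup (G := H) 2)
        refine (disjoint_of_coprime_natCard ?_).eq_bot
        rw [hn]
        exact Nat.Coprime.pow_right n hD2
      rw [h6, mem_bot] at h5
      calc d * u = (d * u * d⁻¹ * u⁻¹) * u * d := by group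
        _ = u * d := by rw [h5, one_mul]
  -- so `D` centralizes `F*(H)`
  have h3 : D ≤ centralizer (generalizedFittingSubgroup H : Set H) := by
    rw [le_centralizer_iff]
    unfold generalizedFittingSubgroup
    rw [hE, bot_sup_eq]
    refine (fitting_le H 2).trans (sup_le ?_ ?_)
    · exact le_centralizer_iff.1 h2
    · exact le_centralizer_iff.1 h1
  have h4 : D ≤ fittingSubgroup H := by
    have := h3.trans (Cfsg.Agent.S1313.centralizer_le H)
    unfold generalizedFittingSubgroup at this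
    rwa [hE, bot_sup_eq] at this
  exact le_core_of_le_fitting 2 hD2 h4

end Cfsg.Agent.H246.CoreBalance
end

-- part: S2924
section
set_option autoImplicit false
open Cfsg

namespace Cfsg.Agent.S2924

open Subgroup Cfsg.Agent.Lib.Cores Cfsg.Agent.ThreePrime

/-- the signalizer -/
abbrev Th {X : Type*} [Group X] (y : X) : Subgroup X :=
  (Cfsg.oddCore ↥(Subgroup.centralizer ({y} : Set X))).map (Subgroup.centralizer ({y} : Set X)).subtype

theorem Th_eq {X : Type*} [Group X] (y : X) : Th y = centralizerPPrimeCore 2 y := rfl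

theorem Th_odd {X : Type*} [Group X] [Finite X] (y : X) : Odd (Nat.card (Th y)) := by
  have := CoreConj.core_card 2 y
  rw [← Nat.not_even_iff_odd, even_iff_two_dvd]
  exact this

theorem mem_cent {X : Type*} [Group X] {y c : X} : c ∈ centralizer ({y} : Set X) ↔ c * y = y * c := by
  rw [mem_centralizer_iff]
  constructor
  · intro h
    exact (h y rfl).symm
  · rintro h _ rfl
    exact h.symm

theorem Th_comm {X : Type*} [Group X] {y d : X} (hd : d ∈ Th y) : d * y = y * d := by
  obtain ⟨e, he, rfl⟩ := hd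
  exact mem_cent.1 e.2

theorem Th_norm {X : Type*} [Group X] [Finite X] {y d c : X} (hc : c * y = y * c) (hd : d ∈ Th y) :
    c * d * c⁻¹ ∈ Th y := by
  have h1 : c ∈ centralizer ({y} : Set X) := mem_cent.2 hc
  have := mem_normalizer_iff.1 (CoreConj.core_normalized 2 y h1) d
  exact this.1 hd

theorem mem_of_subgroupOf {X : Type*} [Group X] {C H : Subgroup X} {d : C}
    (h : d ∈ H.subgroupOf C) : (d : X) ∈ H := h

theorem card_zpowers_inv {X : Type*} [Group X] {x : X} (hx : x * x = 1) :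
    IsPGroup 2 (zpowers x) := by
  rw [IsPGroup.iff_orderOf]
  intro g
  obtain ⟨k, hk⟩ := mem_zpowers_iff.1 g.2
  have hg : g * g = 1 := by
    apply Subtype.ext
    rw [Subgroup.coe_mul, Subgroup.coe_one, ← hk]
    calc x ^ k * x ^ k = (x * x) ^ k := ((Commute.refl x).mul_zpow k).symm
      _ = 1 := by rw [hx, one_zpow]
  have h3 : orderOf g ∣ 2 := orderOf_dvd_of_pow_eq_one (by rw [sq]; exact hg)
  rcases (Nat.dvd_prime Nat.prime_two).1 h3 with h4 | h4
  · exact ⟨0, by rw [h4]; rfl⟩
  · exact ⟨1, by rw [h4]; rfl⟩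

/-- if `C(z)` has characteristic `2` then `O(C(x)) ∩ C(z) = 1` for every involution `x` of
`C(z)` -/
theorem inf_eq_bot {X : Type*} [Group X] [Finite X] {z x : X}
    (hz : Cfsg.generalizedFittingSubgroup ↥(Subgroup.centralizer ({z} : Set X)) =
      Cfsg.pCore 2 ↥(Subgroup.centralizer ({z} : Set X))) (hx : x * x = 1) (hxz : x * z = z * x) :
    Th x ⊓ centralizer ({z} : Set X) = ⊥ := by
  have hxC : x ∈ centralizer ({z} : Set X) := mem_cent.2 hxz
  have hcard : Nat.card ((Th x).subgroupOf (centralizer ({z} : Set X))) ∣ Nat.card (Th x) := by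
    have h1 : Nat.card ((Th x).subgroupOf (centralizer ({z} : Set X))) =
        Nat.card (((Th x).subgroupOf (centralizer ({z} : Set X))).map
          (centralizer ({z} : Set X)).subtype) :=
      (card_map_of_injective (subtype_injective _)).symm
    rw [h1, subgroupOf_map_subtype]
    exact card_dvd_of_le inf_le_left
  have hbot : (Th x).subgroupOf (centralizer ({z} : Set X)) = ⊥ := by
    refine Cfsg.Agent.Classification.LocalCore.eq_bot_of_le_centralizer 2
      (Cfsg.Agent.SignalizersComponents.CharP.centralizer_pCore_le_of_genFitting_eq hz)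
      (zpowers ⟨x, hxC⟩) _ (card_zpowers_inv (Subtype.ext hx)) ?_ ?_ ?_
    · rw [Nat.coprime_two_right]
      exact Odd.of_dvd_nat (Th_odd x) hcard
    · rw [le_centralizer_iff, zpowers_le, mem_centralizer_iff]
      intro d hd
      exact Subtype.ext (Th_comm (mem_of_subgroupOf hd))
    · intro c hc
      have hc' : (c : X) * x = x * c :=
        (congrArg Subtype.val ((mem_centralizer_iff.1 hc) ⟨x, hxC⟩ (mem_zpowers _))).symm
      rw [mem_normalizer_iff]
      intro d
      constructor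
      · intro hd
        exact Th_norm hc' (mem_of_subgroupOf hd)
      · intro hd
        have hci : (c : X)⁻¹ * x = x * (c : X)⁻¹ := by
          calc (c : X)⁻¹ * x = (c : X)⁻¹ * (x * c) * (c : X)⁻¹ := by group
            _ = (c : X)⁻¹ * (c * x) * (c : X)⁻¹ := by rw [hc']
            _ = x * (c : X)⁻¹ := by group
        have h5 : (c : X)⁻¹ * ((c : X) * d * (c : X)⁻¹) * ((c : X)⁻¹)⁻¹ ∈ Th x :=
          Th_norm hci (mem_of_subgroupOf hd)
        have e : (c : X)⁻¹ * ((c : X) * d * (c : X)⁻¹) * ((c : X)⁻¹)⁻¹ = (d : X) := by group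
        rw [e] at h5
        exact h5
  rw [eq_bot_iff]
  intro d hd
  obtain ⟨h1, h2⟩ := mem_inf.1 hd
  have : (⟨d, h2⟩ : centralizer ({z} : Set X)) ∈ (Th x).subgroupOf (centralizer ({z} : Set X)) := by
    rw [mem_subgroupOf]
    exact h1
  rw [hbot, mem_bot] at this
  exact mem_bot.2 (congrArg Subtype.val this)

/-- `z` inverts `O(C(x))` -/
theorem inverted {X : Type*} [Group X] [Finite X] {z x : X}
    (hz : Cfsg.generalizedFittingSubgroup ↥(Subgroup.centralizer ({z} : Set X)) =
      Cfsg.pCore 2 ↥(Subgroup.centralizer ({z} : Set X))) (hz2 : z * z = 1) (hx : x * x = 1)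
    (hxz : x * z = z * x) : ∀ d ∈ Th x, z * d * z⁻¹ = d⁻¹ := by
  intro d hd
  obtain ⟨c, hc, k, hk, hcz, hkz, rfl⟩ :=
    Cfsg.Agent.Lib.KleinGen.exists_centralizer_mul_inverted (Th x) (Th_odd x) z hz2
      (fun h hh => Th_norm hxz.symm hh) hd
  have hc1 : c ∈ Th x ⊓ centralizer ({z} : Set X) :=
    mem_inf.2 ⟨hc, mem_cent.2 hcz.symm⟩
  rw [inf_eq_bot hz hx hxz, mem_bot] at hc1
  rw [hc1, one_mul]
  exact hkz

/-- **Balance** -/
theorem balance {X : Type*} [Group X] [Finite X] {z x y : X}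
    (hz : Cfsg.generalizedFittingSubgroup ↥(Subgroup.centralizer ({z} : Set X)) =
      Cfsg.pCore 2 ↥(Subgroup.centralizer ({z} : Set X))) (hz2 : z * z = 1) (hx : x * x = 1)
    (hy : y * y = 1) (hxz : x * z = z * x) (hyz : y * z = z * y) (hxy : x * y = y * x)
    (hE : layer ↥(centralizer ({y} : Set X)) = ⊥) :
    Th x ⊓ centralizer ({y} : Set X) ≤ Th y := by
  have hzC : z ∈ centralizer ({y} : Set X) := mem_cent.2 hyz.symm
  have hxC : x ∈ centralizer ({y} : Set X) := mem_cent.2 hxy
  have hcard : Nat.card ((Th x).subgroupOf (centralizer ({y} : Set X))) ∣ Nat.card (Th x) := by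
    have h1 : Nat.card ((Th x).subgroupOf (centralizer ({y} : Set X))) =
        Nat.card (((Th x).subgroupOf (centralizer ({y} : Set X))).map
          (centralizer ({y} : Set X)).subtype) :=
      (card_map_of_injective (subtype_injective _)).symm
    rw [h1, subgroupOf_map_subtype]
    exact card_dvd_of_le inf_le_left
  have key : (Th x).subgroupOf (centralizer ({y} : Set X)) ≤
      pPrimeCore 2 ↥(centralizer ({y} : Set X)) := by
    refine Cfsg.Agent.H246.CoreBalance.le_core_of_inverted hE (z := ⟨z, hzC⟩) (x := ⟨x, hxC⟩)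
      ?_ (Subtype.ext hx) ?_ ?_ (Odd.of_dvd_nat (Th_odd x) hcard) ?_
    · intro o ho
      exact Subtype.ext (inverted hz hz2 hy hyz (o : X) ⟨o, ho, rfl⟩)
    · intro d hd
      exact Subtype.ext (Th_comm (mem_of_subgroupOf hd))
    · intro c hc d hd
      exact Th_norm (congrArg Subtype.val hc) (mem_of_subgroupOf hd)
    · intro d hd
      exact Subtype.ext (inverted hz hz2 hx hxz (d : X) (mem_of_subgroupOf hd))
  intro d hd
  obtain ⟨h1, h2⟩ := mem_inf.1 hd
  exact ⟨⟨d, h2⟩, key (mem_subgroupOf.2 h1), rfl⟩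

/-- Let X be a finite group and Y an elementary abelian 2-subgroup of X of order at least 8 such that C_X(x) has no components (E(C_X(x)) = 1) for every nontrivial x ∈ Y, and F*(C_X(z)) = O₂(C_X(z)) for some nontrivial z ∈ Y. Then the subgroup generated by the cores O(C_X(y)), y ∈ Y nontrivial, has odd order and is normalized by N_X(Y). -/
theorem result {X : Type*} [Group X] [Finite X] (Y : Subgroup X) (hY : Cfsg.IsElementaryAbelian 2 Y) (h8 : 8 ≤ Nat.card ↥Y) (hE : ∀ x ∈ Y, x ≠ 1 → Cfsg.layer ↥(Subgroup.centralizer ({x} : Set X)) = ⊥) (hz : ∃ z ∈ Y, z ≠ 1 ∧ Cfsg.generalizedFittingSubgroup ↥(Subgroup.centralizer ({z} : Set X)) = Cfsg.pCore 2 ↥(Subgroup.centralizer ({z} : Set X))) : Odd (Nat.card ↥(⨆ y : {y : X // y ∈ Y ∧ y ≠ 1}, (Cfsg.oddCore ↥(Subgroup.centralizer ({(y : X)} : Set X))).map (Subgroup.centralizer ({(y : X)} : Set X)).subtype)) ∧ Subgroup.normalizer (Y : Set X) ≤ Subgroup.normalizer ((⨆ y : {y : X // y ∈ Y ∧ y ≠ 1}, (Cfsg.oddCore ↥(Subgroup.centralizer ({(y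 : X)} : Set X))).map (Subgroup.centralizer ({(y : X)} : Set X)).subtype : Subgroup X) : Set X) := by
  obtain ⟨hYc, hY2⟩ := hY
  obtain ⟨z, hzY, hz1, hz⟩ := hz
  have hYc' : ∀ a ∈ Y, ∀ b ∈ Y, a * b = b * a := by
    intro a ha b hb
    exact congrArg Subtype.val (hYc.is_comm.comm (⟨a, ha⟩ : Y) ⟨b, hb⟩)
  have hsq : ∀ a ∈ Y, a * a = 1 := by
    intro a ha
    rw [← sq]
    exact hY2 a ha
  constructor
  · have := (Cfsg.Agent.S0217.result (p := 2) Y hYc' hY2 (by simpa using h8) (fun y => Th y)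
      (fun a ha ha1 => by
        intro d hd
        exact mem_cent.2 (Th_comm hd))
      (fun a ha ha1 => CoreConj.core_card 2 a)
      (fun a ha ha1 b hb x hx => Th_norm (hYc' b hb a ha) hx)
      (fun a ha ha1 => by
        have hinv := inverted hz (hsq z hzY) (hsq a ha) (hYc' a ha z hzY)
        have hcomm : ∀ u ∈ Th a, ∀ v ∈ Th a, u * v = v * u := by
          intro u hu v hv
          have e1 := hinv _ ((Th a).mul_mem hu hv)
          have e2 : z * (u * v) * z⁻¹ = u⁻¹ * v⁻¹ := by
            calc z * (u * v) * z⁻¹ = (z * u * z⁻¹) * (z * v * z⁻¹) := by group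
              _ = u⁻¹ * v⁻¹ := by rw [hinv u hu, hinv v hv]
          rw [e2] at e1
          have e3 : (v * u)⁻¹ = (u * v)⁻¹ := by
            rw [mul_inv_rev]
            exact e1
          exact (inv_injective e3).symm
        exact Group.isSolvable_of_comm fun u v => Subtype.ext (hcomm u u.2 v v.2))
      (fun a ha ha1 b hb hb1 => balance hz (hsq z hzY) (hsq a ha) (hsq b hb) (hYc' a ha z hzY)
        (hYc' b hb z hzY) (hYc' a ha b hb) (hE b hb hb1))).1
    rw [← Nat.not_even_iff_odd, even_iff_two_dvd]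
    exact this
  · have hmap : ∀ n ∈ normalizer (Y : Set X), ∀ w ∈ (⨆ y : {y : X // y ∈ Y ∧ y ≠ 1}, Th (y : X)),
        n * w * n⁻¹ ∈ (⨆ y : {y : X // y ∈ Y ∧ y ≠ 1}, Th (y : X)) := by
      intro n hn w hw
      have h1 : (⨆ y : {y : X // y ∈ Y ∧ y ≠ 1}, Th (y : X)) ≤
          (⨆ y : {y : X // y ∈ Y ∧ y ≠ 1}, Th (y : X)).comap (MulAut.conj n).toMonoidHom := by
        refine iSup_le fun y => ?_
        intro d hd
        have h2 : n * (y : X) * n⁻¹ ∈ Y := (mem_normalizer_iff.1 hn _).1 y.2.1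
        have h3 : n * (y : X) * n⁻¹ ≠ 1 := by
          intro h
          apply y.2.2
          have : (y : X) = n⁻¹ * (n * (y : X) * n⁻¹) * n := by group
          rw [this, h]
          group
        rw [mem_comap]
        refine (le_iSup (fun y : {y : X // y ∈ Y ∧ y ≠ 1} => Th (y : X)) ⟨_, h2, h3⟩) ?_
        have h4 := CoreConj.core_conj (G := X) 2 (y : X) n
        show _ ∈ centralizerPPrimeCore 2 (n * (y : X) * n⁻¹)
        rw [h4]
        exact ⟨d, hd, rfl⟩
      exact h1 hw
    intro n hn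
    rw [mem_normalizer_iff]
    intro w
    constructor
    · exact hmap n hn w
    · intro hw
      have := hmap n⁻¹ (inv_mem hn) _ hw
      have e : n⁻¹ * (n * w * n⁻¹) * n⁻¹⁻¹ = w := by group
      rw [e] at this
      exact this

end Cfsg.Agent.S2924
end
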