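import Mathlib
import Cfsg.Agent.TwoFusion.FpfThree
import Cfsg.Agent.TwoFusion.FpfAbelian
import Cfsg.Agent.OddCyclic.FpfThree
import Cfsg.Agent.TwoFusion.U34Sylow
import Cfsg.Agent.Lib.FieldFour
import Cfsg.Agent.TypeL3.Model
import Cfsg.Agent.SylowL.SylowPSL
import Cfsg.Statements.S2933
set_option linter.all false

-- part: H248/FourAct
section
/-!
# A 2-group with commuting operators `α` (order 3, fixed-point-free) and `τ` (order 2, fixing a central four-group) (helper248)

`Hyp τ α V` : `τ² = 1`, `α³ = 1`, `τα = ατ`, `α` is fixed-point-free, and the fixed points of `τ` are a central elementary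
abelian subgroup `V` of order 4. Then `T` is elementary abelian of order 16, or abelian with at most three involutions,
or of order 64 with `Z(T) = V`, all squares in `V`.
-/

set_option autoImplicit false

namespace Cfsg.Agent.H248.FourAct

open Subgroup Cfsg.Agent.TwoFusion.FpfThree

open scoped commutatorElement

/-- the elements of a subgroup of order four invariant under a fixed-point-free automorphism of order three -/
theorem four_cases {T : Type*} [Group T] [Finite T] {α : T →* T} (hf : Fpf3 α) {V : Subgroup T}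
    (hV : ∀ v ∈ V, α v ∈ V) (hc : Nat.card ↥V = 4) {z : T} (hz : z ∈ V) (hz1 : z ≠ 1) {v : T} (hv : v ∈ V) :
    v = 1 ∨ v = z ∨ v = α z ∨ v = α (α z) := by
  classical
  have ha1 : α z ∈ V := hV _ hz
  have ha2 : α (α z) ∈ V := hV _ ha1
  have n1 : α z ≠ z := fun e => hz1 (hf.fpf z e)
  have n2 : α z ≠ 1 := fun e => hz1 (hf.map_eq_one e)
  have n3 : α (α z) ≠ 1 := fun e => n2 (hf.map_eq_one e)
  have n4 : α (α z) ≠ α z := fun e => n1 (hf.injective e)
  have n5 : α (α z) ≠ z := fun e => n1 (by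
    have := hf.cube z
    rw [e] at this
    exact this)
  let s : Finset T := {1, z, α z, α (α z)}
  have hs : s.card = 4 := by
    have m1 : (1 : T) ∉ ({z, α z, α (α z)} : Finset T) := by
      simp only [Finset.mem_insert, Finset.mem_singleton, not_or]
      exact ⟨hz1.symm, n2.symm, n3.symm⟩
    have m2 : z ∉ ({α z, α (α z)} : Finset T) := by
      simp only [Finset.mem_insert, Finset.mem_singleton, not_or]
      exact ⟨n1.symm, n5.symm⟩
    have m3 : α z ∉ ({α (α z)} : Finset T) := by
      simp only [Finset.mem_singleton]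
      exact n4.symm
    change (insert (1 : T) (insert z (insert (α z) ({α (α z)} : Finset T)))).card = 4
    rw [Finset.card_insert_of_notMem m1, Finset.card_insert_of_notMem m2, Finset.card_insert_of_notMem m3,
      Finset.card_singleton]
  have hsV : (s : Set T) ⊆ V := by
    intro y hy
    simp only [s, Finset.coe_insert, Finset.coe_singleton, Set.mem_insert_iff, Set.mem_singleton_iff] at hy
    rcases hy with rfl | rfl | rfl | rfl
    · exact V.one_mem
    · exact hz
    · exact ha1
    · exact ha2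
  have heq : (s : Set T) = V := by
    refine Set.eq_of_subset_of_ncard_le hsV ?_ (Set.toFinite _)
    rw [← Nat.card_coe_set_eq, Set.ncard_coe_finset, hs]
    exact hc.le
  have : v ∈ (s : Set T) := by rw [heq]; exact hv
  simpa only [s, Finset.coe_insert, Finset.coe_singleton, Set.mem_insert_iff, Set.mem_singleton_iff] using this

/-- a `p`-power-order map has as many fixed points as the cardinality of the set modulo `p` -/
theorem card_fixed {X : Type*} [Finite X] {p : ℕ} [Fact p.Prime] (f : X → X) (hf : f^[p] = id) :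
    Nat.card X ≡ Nat.card {x : X // f x = x} [MOD p] := by
  classical
  have := Fintype.ofFinite X
  let g : Function.End X := f
  have hg : ∀ n : ℕ, g ^ n = (f^[n] : X → X) := by
    intro n
    induction n with
    | zero => rfl
    | succ n ih =>
      rw [pow_succ, ih, Function.iterate_succ]
      rfl
  have h1 := Equiv.Perm.card_fixedPoints_modEq (α := X) (f := g) (p := p) (n := 1) (by
    rw [pow_one, hg, hf]
    rfl)
  rw [Nat.card_eq_fintype_card, Nat.card_eq_fintype_card]
  exact h1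

/-- an automorphism of order two of a nontrivial 2-group has a nontrivial fixed point -/
theorem exists_fixed {Q : Type*} [Group Q] [Finite Q] (hQ : IsPGroup 2 Q) (hne : ∃ x : Q, x ≠ 1) (τ : Q → Q)
    (h1 : τ 1 = 1) (tt : ∀ x, τ (τ x) = x) : ∃ x : Q, x ≠ 1 ∧ τ x = x := by
  have hf := card_fixed (p := 2) τ (by funext x; exact tt x)
  obtain ⟨n, hn⟩ := IsPGroup.iff_card.1 hQ
  have hn0 : n ≠ 0 := by
    rintro rfl
    obtain ⟨x, hx⟩ := hne
    rw [pow_zero, Nat.card_eq_one_iff_unique] at hn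
    exact hx (hn.1.elim _ _)
  by_contra hcon
  push Not at hcon
  have h2 : Nat.card {x : Q // τ x = x} = 1 := by
    rw [Nat.card_eq_one_iff_unique]
    refine ⟨⟨fun a b => Subtype.ext ?_⟩, ⟨1, h1⟩⟩
    have ha : (a : Q) = 1 := by
      by_contra h
      exact hcon _ h a.2
    have hb : (b : Q) = 1 := by
      by_contra h
      exact hcon _ h b.2
    rw [ha, hb]
  rw [h2, hn] at hf
  have h3 : 2 ∣ 2 ^ n := dvd_pow_self 2 hn0
  have h4 := (Nat.modEq_zero_iff_dvd.2 h3).symm.trans hf
  exact absurd h4 (by decide)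

/-- `|V| ≡ 1` modulo 3 -/
theorem card_mod_three {T : Type*} [Group T] [Finite T] {α : T →* T} (hf : Fpf3 α) {V : Subgroup T}
    (hV : ∀ v ∈ V, α v ∈ V) : Nat.card ↥V ≡ 1 [MOD 3] := by
  have : Fact (Nat.Prime 3) := ⟨Nat.prime_three⟩
  have h1 := card_fixed (p := 3) (fun v : ↥V => (⟨α v, hV v v.2⟩ : ↥V)) (by
    funext v
    exact Subtype.ext (hf.cube v))
  have h2 : Nat.card {v : ↥V // (⟨α v, hV v v.2⟩ : ↥V) = v} = 1 := by
    rw [Nat.card_eq_one_iff_unique]
    refine ⟨⟨fun a b => ?_⟩, ⟨1, Subtype.ext (map_one α)⟩⟩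
    have ha : ((a : ↥V) : T) = 1 := hf.fpf _ (congrArg Subtype.val a.2)
    have hb : ((b : ↥V) : T) = 1 := hf.fpf _ (congrArg Subtype.val b.2)
    exact Subtype.ext (Subtype.ext (ha.trans hb.symm))
  rw [h2] at h1
  exact h1

theorem exists_repr' {A : Type*} [Group A] [Finite A] (hab : ∀ x y : A, x * y = y * x) (hA : IsPGroup 2 A)
    {α : A →* A} (h : Fpf3 α) (hs : Nat.card {x : A // x ^ 2 = 1} ≤ 4) :
    ∃ a : A, ∀ b : A, ∃ i j : ℤ, b = a ^ i * (α a) ^ j := by
  let _ : CommGroup A := { (inferInstance : Group A) with mul_comm := hab }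
  exact Cfsg.Agent.TwoFusion.FpfAbelian.exists_repr hA
    (Cfsg.Agent.TwoFusion.FpfPowBasic.fpfPow_of_fpf3 h) hs

theorem exists_mulEquiv' {A : Type*} [Group A] [Finite A] (hab : ∀ x y : A, x * y = y * x) (hA : IsPGroup 2 A)
    {α : A →* A} (h : Fpf3 α) (hs : Nat.card {x : A // x ^ 2 = 1} ≤ 4) :
    ∃ n : ℕ, Nonempty (A ≃* Multiplicative (ZMod (2 ^ n) × ZMod (2 ^ n))) := by
  let _ : CommGroup A := { (inferInstance : Group A) with mul_comm := hab }
  exact Cfsg.Agent.TwoFusion.FpfAbelian.exists_mulEquiv hA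
    (Cfsg.Agent.TwoFusion.FpfPowBasic.fpfPow_of_fpf3 h) hs

/-- the hypothesis -/
structure Hyp {T : Type*} [Group T] (τ α : T →* T) (V : Subgroup T) : Prop where
  tt : ∀ x, τ (τ x) = x
  fpf : Fpf3 α
  comm : ∀ x, τ (α x) = α (τ x)
  card : Nat.card ↥V = 4
  sq : ∀ v ∈ V, v * v = 1
  cen : ∀ v ∈ V, ∀ x, v * x = x * v
  fix : ∀ x, τ x = x ↔ x ∈ V

namespace Hyp

variable {T : Type*} [Group T] {τ α : T →* T} {V : Subgroup T}

theorem alpha_mem (h : Hyp τ α V) {v : T} (hv : v ∈ V) : α v ∈ V := by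
  rw [← h.fix, h.comm, (h.fix v).2 hv]

theorem mmc (hab : ∀ x y : T, x * y = y * x) (a b c d : T) : a * b * (c * d) = a * c * (b * d) := by
  rw [mul_assoc, ← mul_assoc b c d, hab b c, mul_assoc c b d, ← mul_assoc]

/-- `θ x = x⁻¹ τ(x)` on an abelian group -/
theorem theta_mul (hab : ∀ x y : T, x * y = y * x) (x y : T) :
    (x * y)⁻¹ * τ (x * y) = (x⁻¹ * τ x) * (y⁻¹ * τ y) := by
  rw [map_mul, mul_inv_rev, hab y⁻¹ x⁻¹, mmc hab]

theorem mem_of_theta (h : Hyp τ α V) {x y : T} (e : x⁻¹ * τ x = y⁻¹ * τ y) : x * y⁻¹ ∈ V := by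
  rw [← h.fix, map_mul, map_inv]
  have h1 : τ x = x * (y⁻¹ * τ y) := by rw [← e]; group
  rw [h1, mul_assoc, mul_assoc, mul_inv_cancel, mul_one]

/-- the abelian case -/
theorem abelian [Finite T] (hT : IsPGroup 2 T) (h : Hyp τ α V) (hab : ∀ x y : T, x * y = y * x) :
    (Nat.card T = 16 ∧ ∀ x : T, x * x = 1) ∨ ∀ x : T, x * x = 1 → x ∈ V := by
  by_cases h1 : ∀ x : T, x * x = 1 → x ∈ V
  · exact Or.inr h1
  left
  push Not at h1
  obtain ⟨w, hw, hwV⟩ := h1
  -- the element `v₀ = θ w`
  have hv0 : w⁻¹ * τ w ∈ V := by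
    rw [← h.fix, map_mul, map_inv, h.tt]
    have h2 : w⁻¹ = w := inv_eq_of_mul_eq_one_left hw
    have h3 : (τ w)⁻¹ = τ w := by rw [← map_inv, h2]
    rw [h3, h2, hab]
  have hv1 : w⁻¹ * τ w ≠ 1 := by
    intro e
    exact hwV ((h.fix w).1 (inv_mul_eq_one.1 e).symm)
  -- every element of `V` is `θ` of an involution
  have hθV : ∀ v ∈ V, ∃ u : T, u * u = 1 ∧ u⁻¹ * τ u = v := by
    intro v hv
    rcases four_cases h.fpf (fun v hv => h.alpha_mem hv) h.card hv0 hv1 hv with rfl | rfl | rfl | rfl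
    · exact ⟨1, mul_one 1, by simp⟩
    · exact ⟨w, hw, rfl⟩
    · refine ⟨α w, by rw [← map_mul, hw, map_one], ?_⟩
      rw [h.comm, map_mul, map_inv]
    · refine ⟨α (α w), by rw [← map_mul, ← map_mul, hw, map_one, map_one], ?_⟩
      rw [h.comm, h.comm, map_mul, map_inv, map_mul, map_inv]
  -- every `θ x` is in `V`
  have hinv : ∀ x : T, τ (x⁻¹ * τ x) = (x⁻¹ * τ x)⁻¹ := by
    intro x
    rw [map_mul, map_inv, h.tt, mul_inv_rev, inv_inv]
  have hN4 : ∀ x : T, (x⁻¹ * τ x) * (x⁻¹ * τ x) ∈ V → x⁻¹ * τ x ∈ V := by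
    intro x hx
    -- `n = θ x`, `θ (x²) = n² = θ u` with `u² = 1`
    obtain ⟨u, hu, hu2⟩ := hθV _ hx
    have e1 : (x * x)⁻¹ * τ (x * x) = u⁻¹ * τ u := by rw [theta_mul hab, hu2]
    have h2 := h.mem_of_theta e1
    have h3 : (x * x) * (x * x) = 1 := by
      have h4 := h.sq _ h2
      have h5 : u⁻¹ = u := inv_eq_of_mul_eq_one_left hu
      rw [h5] at h4
      rw [mmc hab, hu, mul_one] at h4
      exact h4
    -- `θ n = n⁻² ` and `n² = θ(x²)`
    have h6 : (x⁻¹ * τ x) * (x⁻¹ * τ x) * ((x⁻¹ * τ x) * (x⁻¹ * τ x)) = 1 := by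
      have := h.sq _ hx
      exact this
    have e2 : (x⁻¹ * τ x)⁻¹ * τ (x⁻¹ * τ x) = (x * x)⁻¹ * τ (x * x) := by
      rw [hinv, theta_mul hab]
      rw [← mul_inv_rev]
      exact inv_eq_of_mul_eq_one_left h6
    have h7 := h.mem_of_theta e2
    -- so `n² = 1`
    have h8 : (x⁻¹ * τ x) * (x⁻¹ * τ x) = 1 := by
      have h9 := h.sq _ h7
      have h10 : (x * x)⁻¹ * (x * x)⁻¹ = 1 := by rw [← mul_inv_rev, h3, inv_one]
      rw [mmc hab, h10, mul_one] at h9
      exact h9
    rw [← h.fix, hinv]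
    exact inv_eq_of_mul_eq_one_left h8
  have hNV : ∀ x : T, x⁻¹ * τ x ∈ V := by
    -- by descent on the order of `θ x`
    have key : ∀ k : ℕ, ∀ x : T, (x⁻¹ * τ x) ^ 2 ^ k = 1 → x⁻¹ * τ x ∈ V := by
      intro k
      induction k with
      | zero =>
        intro x hx
        rw [pow_zero, pow_one] at hx
        rw [hx]
        exact V.one_mem
      | succ k ih =>
        intro x hx
        refine hN4 x ?_
        have e : (x⁻¹ * τ x) * (x⁻¹ * τ x) = (x * x)⁻¹ * τ (x * x) := (theta_mul hab x x).symm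
        rw [e]
        refine ih _ ?_
        rw [← e, ← pow_two, ← pow_mul, ← pow_succ']
        exact hx
    intro x
    obtain ⟨k, hk⟩ := hT (x⁻¹ * τ x)
    exact key k x hk
  -- every element is an involution
  have hsq : ∀ x : T, x * x = 1 := by
    intro x
    obtain ⟨u, hu, hu2⟩ := hθV _ (hNV x)
    have h2 := h.mem_of_theta hu2.symm
    have h3 := h.sq _ h2
    have h5 : u⁻¹ = u := inv_eq_of_mul_eq_one_left hu
    rw [h5] at h3
    rw [mmc hab, hu, mul_one] at h3
    exact h3
  refine ⟨?_, hsq⟩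
  -- the order
  let θ : T →* T :=
    { toFun := fun x => x⁻¹ * τ x
      map_one' := by simp
      map_mul' := theta_mul hab }
  have hker : θ.ker = V := by
    ext x
    rw [MonoidHom.mem_ker, ← h.fix]
    change x⁻¹ * τ x = 1 ↔ _
    rw [inv_mul_eq_one, eq_comm]
  have hran : θ.range = V := by
    apply le_antisymm
    · rintro _ ⟨x, rfl⟩
      exact hNV x
    · intro v hv
      obtain ⟨u, -, hu⟩ := hθV v hv
      exact ⟨u, hu⟩
  have h2 := Subgroup.card_mul_index θ.ker
  rw [Subgroup.index_ker, hker, hran, h.card] at h2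
  omega

theorem card_sq_le [Finite T] (h : Hyp τ α V) (h1 : ∀ x : T, x * x = 1 → x ∈ V) :
    Nat.card {x : T // x ^ 2 = 1} ≤ 4 := by
  rw [← h.card]
  refine Nat.card_le_card_of_injective (fun x : {x : T // x ^ 2 = 1} => (⟨x, h1 x (by rw [← pow_two]; exact x.2)⟩ : ↥V)) ?_
  intro a b e
  exact Subtype.ext (congrArg (fun z : ↥V => (z : T)) e)

/-- **the quotient by a central subgroup `K ≥ V` containing the commutators** -/
theorem quot [Finite T] (hT : IsPGroup 2 T) (h : Hyp τ α V) (hna : ¬ ∀ x y : T, x * y = y * x) (K : Subgroup T)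
    (hKc : ∀ k ∈ K, ∀ x, k * x = x * k) (hVK : V ≤ K) (hKτ : ∀ k ∈ K, τ k ∈ K) (hKα : ∀ k ∈ K, α k ∈ K)
    (hcomm : ∀ x y : T, ⁅x, y⁆ ∈ K) :
    K.index = 16 ∧ (∀ x : T, x * x ∈ K) ∧ ∀ k ∈ K, τ k = k⁻¹ := by
  have hKn : K.Normal := ⟨fun k hk g => by rw [← hKc k hk g, mul_assoc, mul_inv_cancel, mul_one]; exact hk⟩
  have hKtop : ∃ x : T, x ∉ K := by
    by_contra hcon
    push Not at hcon
    exact hna fun x y => hKc x (hcon x) y
  let τ' : T ⧸ K →* T ⧸ K := QuotientGroup.map K K τ (fun k hk => hKτ k hk)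
  let α' : T ⧸ K →* T ⧸ K := QuotientGroup.map K K α (fun k hk => hKα k hk)
  have hτ' : ∀ x : T, τ' (x : T ⧸ K) = ((τ x : T) : T ⧸ K) := fun x => rfl
  have hα' : ∀ x : T, α' (x : T ⧸ K) = ((α x : T) : T ⧸ K) := fun x => rfl
  have hf' : Fpf3 α' := by
    constructor
    · intro x
      induction x using QuotientGroup.induction_on with
      | H x => rw [hα', hα', hα', h.fpf.cube]
    · intro x hx
      induction x using QuotientGroup.induction_on with
      | H x =>
        rw [hα'] at hx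
        have h1 : (α x)⁻¹ * x ∈ K := QuotientGroup.eq.1 hx
        -- `α` is fixed-point-free on `K`
        let αK : ↥K →* ↥K := (α.comp K.subtype).codRestrict K (fun k => hKα k k.2)
        have hfK : Fpf3 αK := ⟨fun k => Subtype.ext (h.fpf.cube k), fun k hk =>
          Subtype.ext (h.fpf.fpf k (congrArg Subtype.val hk))⟩
        obtain ⟨y, hy⟩ := hfK.exists_eq ⟨(α x)⁻¹ * x, h1⟩
        have hy' : (α x)⁻¹ * x = (y : T)⁻¹ * α y := congrArg Subtype.val hy
        have h2 : α (x * (y : T)) = x * y := by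
          rw [map_mul]
          have h3 : x = α x * ((y : T)⁻¹ * α y) := by rw [← hy']; group
          have h4 : (y : T)⁻¹ * α y * y = α y := by
            rw [hKc _ (K.mul_mem (K.inv_mem y.2) (hKα _ y.2)) (y : T)]
            group
          conv_rhs => rw [h3]
          rw [mul_assoc, h4]
        have h5 := h.fpf.fpf _ h2
        have h6 : x = (y : T)⁻¹ := eq_inv_of_mul_eq_one_left h5
        rw [QuotientGroup.eq_one_iff, h6]
        exact K.inv_mem y.2
  have htt' : ∀ x, τ' (τ' x) = x := by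
    intro x
    induction x using QuotientGroup.induction_on with
    | H x => rw [hτ', hτ', h.tt]
  have hab' : ∀ x y : T ⧸ K, x * y = y * x := by
    intro x y
    induction x using QuotientGroup.induction_on with
    | H x =>
      induction y using QuotientGroup.induction_on with
      | H y =>
        have h1 : ((⁅x, y⁆ : T) : T ⧸ K) = 1 := (QuotientGroup.eq_one_iff _).2 (hcomm x y)
        rw [commutatorElement_def] at h1
        have h2 : (x : T ⧸ K) * y * (x : T ⧸ K)⁻¹ * (y : T ⧸ K)⁻¹ = 1 := h1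
        rw [mul_inv_eq_one, mul_inv_eq_iff_eq_mul] at h2
        exact h2
  have hQ2 : IsPGroup 2 (T ⧸ K) := hT.to_quotient K
  -- the fixed points of `τ'`
  let Y' : Subgroup (T ⧸ K) :=
    { carrier := {x | τ' x = x}
      one_mem' := map_one τ'
      mul_mem' := by
        intro a b ha hb
        change τ' (a * b) = a * b
        rw [map_mul, show τ' a = a from ha, show τ' b = b from hb]
      inv_mem' := by
        intro a ha
        change τ' a⁻¹ = a⁻¹
        rw [map_inv, show τ' a = a from ha] }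
  have hY' : ∀ x, x ∈ Y' ↔ τ' x = x := fun x => Iff.rfl
  have hcomm' : ∀ x, τ' (α' x) = α' (τ' x) := by
    intro x
    induction x using QuotientGroup.induction_on with
    | H x => rw [hα', hτ', hτ', hα', h.comm]
  have hY'α : ∀ x ∈ Y', α' x ∈ Y' := by
    intro x hx
    rw [hY', hcomm', (hY' x).1 hx]
  -- the preimage of `Y'` and `θ`
  let Y : Subgroup T := Y'.comap (QuotientGroup.mk' K)
  have hY : ∀ x, x ∈ Y ↔ x⁻¹ * τ x ∈ K := by
    intro x
    rw [Subgroup.mem_comap, hY']
    change ((τ x : T) : T ⧸ K) = (x : T ⧸ K) ↔ _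
    rw [eq_comm, QuotientGroup.eq]
  have hKY : K ≤ Y := by
    intro k hk
    rw [hY]
    exact K.mul_mem (K.inv_mem hk) (hKτ k hk)
  let θ : ↥Y →* ↥K :=
    { toFun := fun x => ⟨(x : T)⁻¹ * τ x, (hY x).1 x.2⟩
      map_one' := Subtype.ext (by simp)
      map_mul' := by
        intro x y
        apply Subtype.ext
        change ((x : T) * y)⁻¹ * τ ((x : T) * y) = (x : T)⁻¹ * τ x * ((y : T)⁻¹ * τ y)
        rw [map_mul, mul_inv_rev]
        calc (y : T)⁻¹ * (x : T)⁻¹ * (τ x * τ y) = (y : T)⁻¹ * ((x : T)⁻¹ * τ x) * τ y := by group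
          _ = ((x : T)⁻¹ * τ x) * (y : T)⁻¹ * τ y := by rw [← hKc _ ((hY x).1 x.2)]
          _ = _ := by group }
  have hθ : ∀ x : ↥Y, ((θ x : ↥K) : T) = (x : T)⁻¹ * τ x := fun x => rfl
  have hkerθ : Nat.card ↥θ.ker = 4 := by
    rw [← h.card]
    refine Nat.card_congr (Equiv.ofBijective (fun x : ↥θ.ker => (⟨((x : ↥Y) : T), ?_⟩ : ↥V)) ⟨?_, ?_⟩)
    · have := congrArg Subtype.val ((MonoidHom.mem_ker).1 x.2)
      rw [hθ] at this
      rw [← h.fix]
      exact (inv_mul_eq_one.1 this).symm
    · intro a b e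
      exact Subtype.ext (Subtype.ext (congrArg (fun z : ↥V => (z : T)) e))
    · rintro ⟨v, hv⟩
      refine ⟨⟨⟨v, hKY (hVK hv)⟩, ?_⟩, rfl⟩
      rw [MonoidHom.mem_ker]
      apply Subtype.ext
      rw [hθ]
      change v⁻¹ * τ v = 1
      rw [(h.fix v).2 hv, inv_mul_cancel]
  have hcardY : Nat.card ↥Y = 4 * Nat.card ↥θ.range := by
    rw [← Subgroup.card_mul_index θ.ker, Subgroup.index_ker, hkerθ]
  have hcardY' : Nat.card ↥Y = Nat.card ↥K * Nat.card ↥Y' := by
    have h1 : Y.index = Y'.index := Subgroup.index_comap_of_surjective Y' (QuotientGroup.mk'_surjective K)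
    have h2 : Nat.card ↥Y * Y.index = Nat.card T := Subgroup.card_mul_index Y
    have h3 : Nat.card ↥Y' * Y'.index = Nat.card (T ⧸ K) := Subgroup.card_mul_index Y'
    have h4 : Nat.card T = Nat.card (T ⧸ K) * Nat.card ↥K := Subgroup.card_eq_card_quotient_mul_card_subgroup K
    have h5 : 0 < Y'.index := Nat.pos_of_ne_zero Subgroup.index_ne_zero_of_finite
    refine Nat.eq_of_mul_eq_mul_right h5 ?_
    rw [← h1, h2, h4, ← h3, h1]
    ring
  have hK0 : 0 < Nat.card ↥K := Nat.card_pos
  have hle : Nat.card ↥θ.range ≤ Nat.card ↥K := Nat.card_le_card_of_injective _ (Subtype.val_injective)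
  have hne' : ∃ x : T ⧸ K, x ≠ 1 := by
    obtain ⟨x, hx⟩ := hKtop
    exact ⟨(x : T ⧸ K), fun e => hx ((QuotientGroup.eq_one_iff x).1 e)⟩
  obtain ⟨y₀, hy₀, hy₀'⟩ := exists_fixed hQ2 hne' τ' (map_one τ') htt'
  have hY1 : Nat.card ↥Y' ≠ 1 := by
    intro e
    rw [Subgroup.card_eq_one] at e
    have : y₀ ∈ Y' := hy₀'
    rw [e, mem_bot] at this
    exact hy₀ this
  have hmod := card_mod_three hf' hY'α
  have hY'4 : Nat.card ↥Y' ≤ 4 := by
    have h1 : Nat.card ↥K * Nat.card ↥Y' ≤ Nat.card ↥K * 4 := by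
      rw [← hcardY', hcardY, mul_comm (Nat.card ↥K)]
      exact Nat.mul_le_mul_left 4 hle
    exact Nat.le_of_mul_le_mul_left h1 hK0
  have hY'card : Nat.card ↥Y' = 4 := by
    have h0 : 0 < Nat.card ↥Y' := Nat.card_pos
    generalize Nat.card ↥Y' = m at hY1 hmod hY'4 h0
    interval_cases m
    · exact (hY1 rfl).elim
    · exact absurd hmod (by decide)
    · exact absurd hmod (by decide)
    · rfl
  have hθs : θ.range = ⊤ := by
    apply Subgroup.eq_top_of_card_eq
    rw [hcardY, hY'card, mul_comm] at hcardY'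
    exact Nat.eq_of_mul_eq_mul_right (by norm_num) hcardY'
  have hinv : ∀ k ∈ K, τ k = k⁻¹ := by
    intro k hk
    have h1 : (⟨k, hk⟩ : ↥K) ∈ θ.range := by rw [hθs]; trivial
    obtain ⟨y, hy⟩ := h1
    have h2 : (y : T)⁻¹ * τ y = k := by
      rw [← hθ, hy]
    rw [← h2, map_mul, map_inv, h.tt]
    group
  -- the exponent of `Y'`
  have hY'2 : ∀ y ∈ Y', y * y = 1 := by
    obtain ⟨y₁, hy₁⟩ : ∃ y₁ : ↥Y', orderOf y₁ = 2 := by
      have : Fact (Nat.Prime 2) := ⟨Nat.prime_two⟩
      exact exists_prime_orderOf_dvd_card' 2 (by rw [hY'card]; norm_num)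
    have hy2 : (y₁ : T ⧸ K) * y₁ = 1 := by
      have := pow_orderOf_eq_one y₁
      rw [hy₁, pow_two] at this
      exact congrArg Subtype.val this
    have hy1 : (y₁ : T ⧸ K) ≠ 1 := by
      intro e
      have : y₁ = 1 := Subtype.ext e
      rw [this, orderOf_one] at hy₁
      omega
    intro y hy
    rcases four_cases hf' hY'α hY'card y₁.2 hy1 hy with rfl | rfl | rfl | rfl
    · exact mul_one 1
    · exact hy2
    · rw [← map_mul, hy2, map_one]
    · rw [← map_mul, ← map_mul, hy2, map_one, map_one]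
  have hyp' : Hyp τ' α' Y' :=
    { tt := htt'
      fpf := hf'
      comm := hcomm'
      card := hY'card
      sq := hY'2
      cen := fun v _ x => hab' v x
      fix := fun x => Iff.rfl }
  rcases hyp'.abelian hQ2 hab' with ⟨h1, h2⟩ | h1
  · refine ⟨h1, fun x => ?_, hinv⟩
    rw [← QuotientGroup.eq_one_iff]
    exact h2 (x : T ⧸ K)
  · exfalso
    obtain ⟨a, ha⟩ := exists_repr' hab' hQ2 hf' (hyp'.card_sq_le h1)
    obtain ⟨a, rfl⟩ := QuotientGroup.mk_surjective a
    apply hna
    have hrep : ∀ b : T, ∃ (i j : ℤ) (k : T), k ∈ K ∧ b = a ^ i * (α a) ^ j * k := by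
      intro b
      obtain ⟨i, j, hb⟩ := ha (b : T ⧸ K)
      refine ⟨i, j, (a ^ i * (α a) ^ j)⁻¹ * b, ?_, by group⟩
      rw [← QuotientGroup.eq]
      exact hb.symm
    have hc : Commute a (α a) := h.fpf.comm a
    intro x y
    obtain ⟨i, j, k, hk, rfl⟩ := hrep x
    obtain ⟨i', j', k', hk', rfl⟩ := hrep y
    have c1 : Commute (a ^ i * (α a) ^ j) (a ^ i' * (α a) ^ j') := by
      refine Commute.mul_left (Commute.mul_right ?_ ?_) (Commute.mul_right ?_ ?_)
      · exact (Commute.refl a).zpow_zpow i i'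
      · exact hc.zpow_zpow i j'
      · exact hc.symm.zpow_zpow j i'
      · exact (Commute.refl (α a)).zpow_zpow j j'
    have c2 : Commute k' (a ^ i * (α a) ^ j * k) := hKc k' hk' _
    have c3 : Commute k (a ^ i' * (α a) ^ j') := hKc k hk _
    exact Commute.mul_right (Commute.mul_left c1 c3) c2.symm

/-- **the nonabelian case** -/
theorem nonabelian [Finite T] (hT : IsPGroup 2 T) (h : Hyp τ α V) (hna : ¬ ∀ x y : T, x * y = y * x) :
    Nat.card T = 64 ∧ (∀ x : T, x * x ∈ V) ∧ center T = V := by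
  have hcz : ∀ x y : T, ⁅x, y⁆ ∈ center T := Cfsg.Agent.OddCyclic.FpfThree.comm_mem_center h.fpf hT
  have hVZ : V ≤ center T := by
    intro v hv
    rw [mem_center_iff]
    exact fun g => (h.cen v hv g).symm
  have hsurjτ : Function.Surjective τ := fun x => ⟨τ x, h.tt x⟩
  have hsurjα : Function.Surjective α := fun x => ⟨α (α x), h.fpf.cube x⟩
  have hZinv : ∀ β : T →* T, Function.Surjective β → ∀ k ∈ center T, β k ∈ center T := by
    intro β hβ k hk
    rw [mem_center_iff] at hk ⊢
    intro g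
    obtain ⟨g, rfl⟩ := hβ g
    rw [← map_mul, ← map_mul, hk g]
  obtain ⟨hZ16, hZsq, hZτ⟩ := quot hT h hna (center T) (fun k hk x => ((mem_center_iff.1 hk) x).symm) hVZ
    (hZinv τ hsurjτ) (hZinv α hsurjα) hcz
  have hcV : ∀ x y : T, ⁅x, y⁆ ∈ V := by
    intro x y
    have h1 : ⁅x, y⁆ ^ 2 = 1 := by
      rw [← h.fpf.sq_comm, commutatorElement_eq_one_iff_mul_comm, pow_two]
      exact ((mem_center_iff.1 (hZsq x)) y).symm
    rw [← h.fix, hZτ _ (hcz x y)]
    rw [pow_two] at h1
    exact inv_eq_of_mul_eq_one_left h1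
  obtain ⟨hV16, hVsq, -⟩ := quot hT h hna V h.cen le_rfl (fun v hv => by rw [(h.fix v).2 hv]; exact hv)
    (fun v hv => h.alpha_mem hv) hcV
  refine ⟨?_, hVsq, ?_⟩
  · rw [← Subgroup.card_mul_index V, h.card, hV16]
  · symm
    apply Subgroup.eq_of_le_of_card_ge hVZ
    have h1 := Subgroup.card_mul_index V
    have h2 := Subgroup.card_mul_index (center T)
    rw [hV16] at h1
    rw [hZ16] at h2
    omega

end Hyp

end Cfsg.Agent.H248.FourAct
end

-- part: TwoFusion/U34Model
section
/-!
# An explicit model of the Sylow 2-subgroup of `U_3(4)`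

`K64` is a group structure on `(ZMod 2)^6`; `exists_mulEquiv_of_rel`: any group of order 64 containing elements
`x, x', y, y', z, z'` satisfying suitable relations is isomorphic to it.
-/

set_option autoImplicit false

namespace Cfsg.Agent.TwoFusion.U34Model

/-- The model: 6-tuples of elements of `ZMod 2`. -/
@[ext]
structure K64 : Type where
  i : ZMod 2
  j : ZMod 2
  k : ZMod 2
  l : ZMod 2
  m : ZMod 2
  n : ZMod 2

/-- the equivalence of the model with a product type -/
def K64.equivProd : K64 ≃ (ZMod 2 × ZMod 2 × ZMod 2 × ZMod 2 × ZMod 2 × ZMod 2) where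
  toFun p := (p.i, p.j, p.k, p.l, p.m, p.n)
  invFun q := ⟨q.1, q.2.1, q.2.2.1, q.2.2.2.1, q.2.2.2.2.1, q.2.2.2.2.2⟩
  left_inv _ := rfl
  right_inv _ := rfl

instance K64.instMul : Mul K64 where
  mul p q := ⟨p.i + q.i, p.j + q.j, p.k + q.k, p.l + q.l,
    p.m + q.m + p.i * q.i + p.l * q.l + p.k * q.i + p.k * q.j + p.l * q.i,
    p.n + q.n + p.j * q.j + p.k * q.k + p.l * q.l + p.k * q.j + p.l * q.i + p.l * q.j⟩

instance K64.instOne : One K64 where
  one := ⟨0, 0, 0, 0, 0, 0⟩

instance K64.instInv : Inv K64 where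
  inv p := ⟨p.i, p.j, p.k, p.l,
    p.m + p.i * p.i + p.l * p.l + p.k * p.i + p.k * p.j + p.l * p.i,
    p.n + p.j * p.j + p.k * p.k + p.l * p.l + p.k * p.j + p.l * p.i + p.l * p.j⟩

theorem K64.mul_def (p q : K64) : p * q = ⟨p.i + q.i, p.j + q.j, p.k + q.k, p.l + q.l,
    p.m + q.m + p.i * q.i + p.l * q.l + p.k * q.i + p.k * q.j + p.l * q.i,
    p.n + q.n + p.j * q.j + p.k * q.k + p.l * q.l + p.k * q.j + p.l * q.i + p.l * q.j⟩ := rfl

theorem K64.one_def : (1 : K64) = ⟨0, 0, 0, 0, 0, 0⟩ := rfl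

theorem K64.inv_def (p : K64) : p⁻¹ = ⟨p.i, p.j, p.k, p.l,
    p.m + p.i * p.i + p.l * p.l + p.k * p.i + p.k * p.j + p.l * p.i,
    p.n + p.j * p.j + p.k * p.k + p.l * p.l + p.k * p.j + p.l * p.i + p.l * p.j⟩ := rfl

theorem two_mul_zmod (a : ZMod 2) : a + a = 0 := by
  revert a; decide

instance K64.instGroup : Group K64 :=
  Group.ofLeftAxioms
    (by
      intro a b c
      ext <;> simp only [K64.mul_def] <;> ring)
    (by
      intro a
      ext <;> simp only [K64.mul_def, K64.one_def] <;> ring)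
    (by
      intro a
      ext
      · simp only [K64.mul_def, K64.one_def, K64.inv_def]; exact two_mul_zmod _
      · simp only [K64.mul_def, K64.one_def, K64.inv_def]; exact two_mul_zmod _
      · simp only [K64.mul_def, K64.one_def, K64.inv_def]; exact two_mul_zmod _
      · simp only [K64.mul_def, K64.one_def, K64.inv_def]; exact two_mul_zmod _
      · simp only [K64.mul_def, K64.one_def, K64.inv_def]
        have := two_mul_zmod (a.m + a.i * a.i + a.l * a.l + a.k * a.i + a.k * a.j + a.l * a.i)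
        linear_combination this
      · simp only [K64.mul_def, K64.one_def, K64.inv_def]
        have := two_mul_zmod (a.n + a.j * a.j + a.k * a.k + a.l * a.l + a.k * a.j + a.l * a.i + a.l * a.j)
        linear_combination this)

theorem K64.card : Nat.card K64 = 64 := by
  rw [Nat.card_congr K64.equivProd, Nat.card_eq_fintype_card]
  rfl

instance K64.instFinite : Finite K64 := Finite.of_equiv _ K64.equivProd.symm

section pw

variable {T : Type*} [Group T]

/-- `pw x i` is `x ^ i` for `i : ZMod 2` read as `0` or `1`. -/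
def pw (x : T) (i : ZMod 2) : T := if i = 0 then 1 else x

theorem pw_zero (x : T) : pw x 0 = 1 := rfl

theorem pw_one (x : T) : pw x 1 = x := rfl

theorem zmod_cases (i : ZMod 2) : i = 0 ∨ i = 1 := by
  revert i; decide

theorem pw_mul_self {x z : T} (h : x * x = z) (i a : ZMod 2) :
    pw x i * pw x a = pw x (i + a) * pw z (i * a) := by
  rcases zmod_cases i with rfl | rfl <;> rcases zmod_cases a with rfl | rfl
  · simp [pw_zero]
  · simp [pw_zero]
  · simp [pw_zero]
  · rw [show (1 : ZMod 2) + 1 = 0 from rfl, show (1 : ZMod 2) * 1 = 1 from rfl, pw_zero, pw_one, pw_one, one_mul, h]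

theorem pw_add {z : T} (h : z * z = 1) (i a : ZMod 2) : pw z i * pw z a = pw z (i + a) := by
  rw [pw_mul_self h]
  rcases zmod_cases (i * a) with h | h <;> rw [h]
  · rw [pw_zero, mul_one]
  · rw [pw_one, mul_one]

theorem pw_swap {x y c : T} (h : y * x = x * y * c) (k a : ZMod 2) :
    pw y k * pw x a = pw x a * pw y k * pw c (k * a) := by
  rcases zmod_cases k with rfl | rfl <;> rcases zmod_cases a with rfl | rfl
  · simp [pw_zero]
  · simp [pw_zero]
  · simp [pw_zero]
  · rw [show (1 : ZMod 2) * 1 = 1 from rfl, pw_one, pw_one, pw_one, h]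

theorem pw_mul (z z' : T) (i : ZMod 2) : pw (z * z') i = pw z i * pw z' i := by
  rcases zmod_cases i with rfl | rfl
  · simp [pw_zero]
  · simp [pw_one]

theorem pw_central {z : T} (hz : ∀ t, z * t = t * z) (i : ZMod 2) (t : T) : pw z i * t = t * pw z i := by
  rcases zmod_cases i with rfl | rfl
  · simp [pw_zero]
  · simp [pw_one, hz]

/-- The relations between the six generators. -/
structure Rel (x x' y y' z z' : T) : Prop where
  hz : ∀ t, z * t = t * z
  hz' : ∀ t, z' * t = t * z'
  zz : z * z = 1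
  z'z' : z' * z' = 1
  xx : x * x = z
  x'x' : x' * x' = z'
  yy : y * y = z'
  y'y' : y' * y' = z * z'
  x'x : x' * x = x * x'
  y'y : y' * y = y * y'
  yx : y * x = x * y * z
  yx' : y * x' = x' * y * (z * z')
  y'x : y' * x = x * y' * (z * z')
  y'x' : y' * x' = x' * y' * z'

/-- the map from the model -/
def toT (x x' y y' z z' : T) (p : K64) : T :=
  pw x p.i * pw x' p.j * (pw y p.k * pw y' p.l) * (pw z p.m * pw z' p.n)

theorem toT_def (x x' y y' z z' : T) (p : K64) : toT x x' y y' z z' p =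
  pw x p.i * pw x' p.j * (pw y p.k * pw y' p.l) * (pw z p.m * pw z' p.n) := rfl

variable {x x' y y' z z' : T}

theorem xpart (h : Rel x x' y y' z z') (i j a b : ZMod 2) :
    (pw x i * pw x' j) * (pw x a * pw x' b) =
      (pw x (i + a) * pw x' (j + b)) * (pw z (i * a) * pw z' (j * b)) := by
  have h1 : pw x' j * pw x a = pw x a * pw x' j := by
    have := pw_swap (x := x) (y := x') (c := (1 : T)) (by rw [mul_one]; exact h.x'x) j a
    rw [this]
    rcases zmod_cases (j * a) with h | h <;> rw [h]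
    · rw [pw_zero, mul_one]
    · rw [pw_one, mul_one]
  calc (pw x i * pw x' j) * (pw x a * pw x' b) = pw x i * (pw x' j * pw x a) * pw x' b := by group
    _ = (pw x i * pw x a) * (pw x' j * pw x' b) := by rw [h1]; group
    _ = (pw x (i + a) * pw z (i * a)) * (pw x' (j + b) * pw z' (j * b)) := by
        rw [pw_mul_self h.xx, pw_mul_self h.x'x']
    _ = pw x (i + a) * (pw z (i * a) * pw x' (j + b)) * pw z' (j * b) := by group
    _ = (pw x (i + a) * pw x' (j + b)) * (pw z (i * a) * pw z' (j * b)) := by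
        rw [pw_central h.hz]; group

theorem ypart (h : Rel x x' y y' z z') (k l c d : ZMod 2) :
    (pw y k * pw y' l) * (pw y c * pw y' d) =
      (pw y (k + c) * pw y' (l + d)) * (pw z (l * d) * pw z' (k * c + l * d)) := by
  have h1 : pw y' l * pw y c = pw y c * pw y' l := by
    have := pw_swap (x := y) (y := y') (c := (1 : T)) (by rw [mul_one]; exact h.y'y) l c
    rw [this]
    rcases zmod_cases (l * c) with h | h <;> rw [h]
    · rw [pw_zero, mul_one]
    · rw [pw_one, mul_one]
  calc (pw y k * pw y' l) * (pw y c * pw y' d) = pw y k * (pw y' l * pw y c) * pw y' d := by group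
    _ = (pw y k * pw y c) * (pw y' l * pw y' d) := by rw [h1]; group
    _ = (pw y (k + c) * pw z' (k * c)) * (pw y' (l + d) * pw (z * z') (l * d)) := by
        rw [pw_mul_self h.yy, pw_mul_self h.y'y']
    _ = pw y (k + c) * (pw z' (k * c) * (pw y' (l + d) * pw (z * z') (l * d))) := by group
    _ = pw y (k + c) * ((pw y' (l + d) * pw (z * z') (l * d)) * pw z' (k * c)) := by
        rw [pw_central h.hz']
    _ = (pw y (k + c) * pw y' (l + d)) * (pw z (l * d) * (pw z' (l * d) * pw z' (k * c))) := by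
        rw [pw_mul]; group
    _ = (pw y (k + c) * pw y' (l + d)) * (pw z (l * d) * pw z' (k * c + l * d)) := by
        rw [pw_add h.z'z', add_comm (l * d)]

theorem yxpart (h : Rel x x' y y' z z') (k l a b : ZMod 2) :
    (pw y k * pw y' l) * (pw x a * pw x' b) =
      (pw x a * pw x' b) * (pw y k * pw y' l) *
        (pw z (k * a + k * b + l * a) * pw z' (k * b + l * a + l * b)) := by
  have hzz : ∀ t, (z * z') * t = t * (z * z') := by
    intro t
    rw [mul_assoc, h.hz', ← mul_assoc, h.hz, mul_assoc]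
  calc (pw y k * pw y' l) * (pw x a * pw x' b)
      = pw y k * (pw y' l * pw x a) * pw x' b := by group
    _ = pw y k * (pw x a * pw y' l * pw (z * z') (l * a)) * pw x' b := by rw [pw_swap h.y'x]
    _ = pw y k * pw x a * pw y' l * (pw (z * z') (l * a) * pw x' b) := by group
    _ = pw y k * pw x a * (pw y' l * pw x' b) * pw (z * z') (l * a) := by
        rw [pw_central hzz]; group
    _ = (pw y k * pw x a) * (pw x' b * pw y' l * pw z' (l * b)) * pw (z * z') (l * a) := by
        rw [pw_swap h.y'x']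
    _ = (pw x a * pw y k * pw z (k * a)) * (pw x' b * pw y' l * pw z' (l * b)) * pw (z * z') (l * a) := by
        rw [pw_swap h.yx]
    _ = pw x a * pw y k * (pw z (k * a) * (pw x' b * pw y' l * pw z' (l * b))) * pw (z * z') (l * a) := by
        group
    _ = pw x a * (pw y k * pw x' b) * pw y' l * pw z' (l * b) * pw z (k * a) * pw (z * z') (l * a) := by
        rw [pw_central h.hz]; group
    _ = pw x a * pw x' b * pw y k * (pw (z * z') (k * b) * pw y' l) * pw z' (l * b) * pw z (k * a)
          * pw (z * z') (l * a) := by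
        rw [pw_swap h.yx']; group
    _ = (pw x a * pw x' b) * (pw y k * pw y' l) * (pw (z * z') (k * b) * (pw z' (l * b) * pw z (k * a))
          * pw (z * z') (l * a)) := by
        rw [pw_central hzz]; group
    _ = (pw x a * pw x' b) * (pw y k * pw y' l) *
        (pw z (k * a + k * b + l * a) * pw z' (k * b + l * a + l * b)) := by
        congr 1
        rw [pw_mul, pw_mul, ← pw_add h.zz (k * a + k * b) (l * a), ← pw_add h.zz (k * a) (k * b),
          ← pw_add h.z'z' (k * b + l * a) (l * b), ← pw_add h.z'z' (k * b) (l * a)]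
        have e1 := pw_central h.hz (k * a)
        have e2 := pw_central h.hz (k * b)
        have e3 := pw_central h.hz (l * a)
        have e4 := pw_central h.hz' (k * b)
        have e5 := pw_central h.hz' (l * b)
        have e6 := pw_central h.hz' (l * a)
        calc pw z (k * b) * pw z' (k * b) * (pw z' (l * b) * pw z (k * a)) * (pw z (l * a) * pw z' (l * a))
            = (pw z (k * b) * (pw z' (k * b) * pw z' (l * b))) * pw z (k * a) * (pw z (l * a) * pw z' (l * a)) := by
              group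
          _ = pw z (k * a) * (pw z (k * b) * (pw z' (k * b) * pw z' (l * b))) * (pw z (l * a) * pw z' (l * a)) := by
              rw [← e1]
          _ = pw z (k * a) * pw z (k * b) * ((pw z' (k * b) * pw z' (l * b)) * pw z (l * a)) * pw z' (l * a) := by
              group
          _ = pw z (k * a) * pw z (k * b) * (pw z (l * a) * (pw z' (k * b) * pw z' (l * b))) * pw z' (l * a) := by
              rw [← e3]
          _ = pw z (k * a) * pw z (k * b) * pw z (l * a) * (pw z' (k * b) * (pw z' (l * b) * pw z' (l * a))) := by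
              group
          _ = pw z (k * a) * pw z (k * b) * pw z (l * a) * (pw z' (k * b) * pw z' (l * a) * pw z' (l * b)) := by
              rw [e5]; group

theorem zpart (h : Rel x x' y y' z z') (m n e f : ZMod 2) :
    (pw z m * pw z' n) * (pw z e * pw z' f) = pw z (m + e) * pw z' (n + f) := by
  calc (pw z m * pw z' n) * (pw z e * pw z' f) = pw z m * (pw z' n * pw z e) * pw z' f := by group
    _ = pw z m * (pw z e * pw z' n) * pw z' f := by rw [pw_central h.hz']
    _ = (pw z m * pw z e) * (pw z' n * pw z' f) := by group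
    _ = _ := by rw [pw_add h.zz, pw_add h.z'z']

theorem zcentral (h : Rel x x' y y' z z') (m n : ZMod 2) (t : T) :
    (pw z m * pw z' n) * t = t * (pw z m * pw z' n) := by
  rw [mul_assoc, pw_central h.hz', ← mul_assoc, pw_central h.hz, mul_assoc]

theorem toT_mul (h : Rel x x' y y' z z') (p q : K64) :
    toT x x' y y' z z' (p * q) = toT x x' y y' z z' p * toT x x' y y' z z' q := by
  obtain ⟨i, j, k, l, m, n⟩ := p
  obtain ⟨a, b, c, d, e, f⟩ := q
  simp only [toT_def, K64.mul_def]
  symm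
  set X := pw x i * pw x' j with hX
  set Y := pw y k * pw y' l with hY
  set Z := pw z m * pw z' n with hZ
  calc X * Y * Z * (pw x a * pw x' b * (pw y c * pw y' d) * (pw z e * pw z' f))
      = X * Y * (Z * (pw x a * pw x' b * (pw y c * pw y' d))) * (pw z e * pw z' f) := by group
    _ = X * Y * ((pw x a * pw x' b * (pw y c * pw y' d)) * Z) * (pw z e * pw z' f) := by
        rw [hZ, zcentral h]
    _ = X * (Y * (pw x a * pw x' b)) * (pw y c * pw y' d) * (Z * (pw z e * pw z' f)) := by group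
    _ = X * ((pw x a * pw x' b) * Y *
        (pw z (k * a + k * b + l * a) * pw z' (k * b + l * a + l * b))) * (pw y c * pw y' d) *
          (pw z (m + e) * pw z' (n + f)) := by
        rw [hY, yxpart h, hZ, zpart h]
    _ = (X * (pw x a * pw x' b)) * Y *
        ((pw z (k * a + k * b + l * a) * pw z' (k * b + l * a + l * b)) * (pw y c * pw y' d)) *
          (pw z (m + e) * pw z' (n + f)) := by group
    _ = (X * (pw x a * pw x' b)) * (Y * (pw y c * pw y' d)) *
        ((pw z (k * a + k * b + l * a) * pw z' (k * b + l * a + l * b)) *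
          (pw z (m + e) * pw z' (n + f))) := by rw [zcentral h]; group
    _ = ((pw x (i + a) * pw x' (j + b)) * (pw z (i * a) * pw z' (j * b))) *
        ((pw y (k + c) * pw y' (l + d)) * (pw z (l * d) * pw z' (k * c + l * d))) *
        (pw z ((k * a + k * b + l * a) + (m + e)) * pw z' ((k * b + l * a + l * b) + (n + f))) := by
        rw [hX, hY, xpart h, ypart h, zpart h]
    _ = (pw x (i + a) * pw x' (j + b)) * ((pw z (i * a) * pw z' (j * b)) *
        (pw y (k + c) * pw y' (l + d))) * (pw z (l * d) * pw z' (k * c + l * d)) *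
        (pw z ((k * a + k * b + l * a) + (m + e)) * pw z' ((k * b + l * a + l * b) + (n + f))) := by
        group
    _ = (pw x (i + a) * pw x' (j + b)) * (pw y (k + c) * pw y' (l + d)) *
        (((pw z (i * a) * pw z' (j * b)) * (pw z (l * d) * pw z' (k * c + l * d))) *
        (pw z ((k * a + k * b + l * a) + (m + e)) * pw z' ((k * b + l * a + l * b) + (n + f)))) := by
        rw [zcentral h]; group
    _ = _ := by
        rw [zpart h, zpart h]
        congr 1
        congr 1
        · congr 1; ring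
        · congr 1; ring

/-- the homomorphism from the model -/
def hom (h : Rel x x' y y' z z') : K64 →* T where
  toFun := toT x x' y y' z z'
  map_one' := by
    simp only [toT_def, K64.one_def, pw_zero, mul_one]
  map_mul' p q := toT_mul h p q

theorem hom_apply (h : Rel x x' y y' z z') (p : K64) : hom h p = toT x x' y y' z z' p := rfl

theorem hom_central (h : Rel x x' y y' z z') (m n : ZMod 2) : hom h ⟨0, 0, 0, 0, m, n⟩ = pw z m * pw z' n := by
  simp [hom_apply, toT_def, pw_zero]

theorem central_eq_zero (h : Rel x x' y y' z z') (hz : z ≠ 1) (hz' : z' ≠ 1) (hzz' : z * z' ≠ 1) (m n : ZMod 2)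
    (h1 : hom h ⟨0, 0, 0, 0, m, n⟩ = 1) : m = 0 ∧ n = 0 := by
  rw [hom_central] at h1
  rcases zmod_cases m with rfl | rfl <;> rcases zmod_cases n with rfl | rfl
  · exact ⟨rfl, rfl⟩
  · exfalso; rw [pw_zero, pw_one, one_mul] at h1; exact hz' h1
  · exfalso; rw [pw_zero, pw_one, mul_one] at h1; exact hz h1
  · exfalso; rw [pw_one, pw_one] at h1; exact hzz' h1

theorem comm_x (p : K64) : (⟨1, 0, 0, 0, 0, 0⟩ : K64) * p * (⟨1, 0, 0, 0, 0, 0⟩ : K64)⁻¹ * p⁻¹ =
    ⟨0, 0, 0, 0, p.k + p.l, p.l⟩ := by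
  obtain ⟨i, j, k, l, m, n⟩ := p
  have key : ∀ i j k l m n : ZMod 2,
      K64.equivProd ((⟨1, 0, 0, 0, 0, 0⟩ : K64) * ⟨i, j, k, l, m, n⟩ * (⟨1, 0, 0, 0, 0, 0⟩ : K64)⁻¹ *
        (⟨i, j, k, l, m, n⟩ : K64)⁻¹) = (0, 0, 0, 0, k + l, l) := by decide +kernel
  exact K64.equivProd.injective (key i j k l m n)

theorem comm_y (p : K64) : (⟨0, 0, 1, 0, 0, 0⟩ : K64) * p * (⟨0, 0, 1, 0, 0, 0⟩ : K64)⁻¹ * p⁻¹ =
    ⟨0, 0, 0, 0, p.i + p.j, p.j⟩ := by
  obtain ⟨i, j, k, l, m, n⟩ := p
  have key : ∀ i j k l m n : ZMod 2,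
      K64.equivProd ((⟨0, 0, 1, 0, 0, 0⟩ : K64) * ⟨i, j, k, l, m, n⟩ * (⟨0, 0, 1, 0, 0, 0⟩ : K64)⁻¹ *
        (⟨i, j, k, l, m, n⟩ : K64)⁻¹) = (0, 0, 0, 0, i + j, j) := by decide +kernel
  exact K64.equivProd.injective (key i j k l m n)

theorem hom_injective (h : Rel x x' y y' z z') (hz : z ≠ 1) (hz' : z' ≠ 1) (hzz' : z * z' ≠ 1) :
    Function.Injective (hom h) := by
  rw [injective_iff_map_eq_one]
  intro p hp
  have h1 : hom h ⟨0, 0, 0, 0, p.k + p.l, p.l⟩ = 1 := by
    rw [← comm_x, map_mul, map_mul, map_mul, map_inv, map_inv, hp]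
    group
  have h2 : hom h ⟨0, 0, 0, 0, p.i + p.j, p.j⟩ = 1 := by
    rw [← comm_y, map_mul, map_mul, map_mul, map_inv, map_inv, hp]
    group
  obtain ⟨h3, h4⟩ := central_eq_zero h hz hz' hzz' _ _ h1
  obtain ⟨h5, h6⟩ := central_eq_zero h hz hz' hzz' _ _ h2
  obtain ⟨i, j, k, l, m, n⟩ := p
  simp only at h3 h4 h5 h6
  subst h4 h6
  rw [add_zero] at h3 h5
  subst h3 h5
  obtain ⟨h7, h8⟩ := central_eq_zero h hz hz' hzz' _ _ hp
  subst h7 h8
  rfl

/-- A group of order 64 with elements satisfying the relations is isomorphic to the model. -/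
theorem nonempty_mulEquiv_of_rel (hcard : Nat.card T = 64) (h : Rel x x' y y' z z') (hz : z ≠ 1) (hz' : z' ≠ 1)
    (hzz' : z * z' ≠ 1) : Nonempty (K64 ≃* T) := by
  haveI : Finite T := Nat.finite_of_card_ne_zero (by rw [hcard]; norm_num)
  have hb : Function.Bijective (hom h) := by
    rw [Nat.bijective_iff_injective_and_card]
    exact ⟨hom_injective h hz hz' hzz', by rw [K64.card, hcard]⟩
  exact ⟨MulEquiv.ofBijective (hom h) hb⟩

end pw

/-! ### Groups with a fixed-point-free automorphism of order 3 -/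

section fpf

variable {T : Type*} [Group T]

/-- the commutator as a bilinear map -/
def B (s t : T) : T := s⁻¹ * t⁻¹ * s * t

theorem B_def (s t : T) : B s t = s⁻¹ * t⁻¹ * s * t := rfl

theorem swap_eq (s t : T) : s * t = t * s * B s t := by rw [B_def]; group

theorem map_B (α : T →* T) (s t : T) : α (B s t) = B (α s) (α t) := by
  simp only [B_def, map_mul, map_inv]

variable (hsq : ∀ t : T, t * t ∈ Subgroup.center T)

include hsq in
theorem B_central (s t : T) : B s t ∈ Subgroup.center T := by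
  have h1 : B s t = (s⁻¹ * t⁻¹) * (s⁻¹ * t⁻¹) * (t * (s * s) * t⁻¹) * (t * t) := by rw [B_def]; group
  rw [h1]
  refine Subgroup.mul_mem _ (Subgroup.mul_mem _ (hsq _) ?_) (hsq _)
  exact (inferInstance : (Subgroup.center T).Normal).conj_mem _ (hsq s) t

include hsq in
theorem B_comm (s t r : T) : B s t * r = r * B s t :=
  (Subgroup.mem_center_iff.mp (B_central hsq s t) r).symm

include hsq in
theorem B_mul_right (s t r : T) : B s (t * r) = B s t * B s r := by
  have h1 : B s (t * r) = (s⁻¹ * r⁻¹ * s) * (s⁻¹ * t⁻¹ * s * t) * r := by rw [B_def]; group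
  rw [h1, ← B_def s t, mul_assoc, B_comm hsq, ← mul_assoc, ← B_def, B_comm hsq]

include hsq in
theorem B_mul_left (s t r : T) : B (s * t) r = B s r * B t r := by
  have h1 : B (s * t) r = t⁻¹ * (s⁻¹ * r⁻¹ * s * r) * (r⁻¹ * t * r) := by rw [B_def]; group
  rw [h1, ← B_def s r, ← B_comm hsq, mul_assoc]
  congr 1
  rw [B_def]; group

theorem B_inv (s t : T) : (B s t)⁻¹ = B t s := by rw [B_def, B_def]; group

theorem B_self (s : T) : B s s = 1 := by rw [B_def]; group

variable (hinv : ∀ t : T, t ∈ Subgroup.center T → t * t = 1)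

include hsq hinv in
theorem B_symm (s t : T) : B s t = B t s := by
  rw [← B_inv t s]
  exact inv_eq_of_mul_eq_one_left (hinv _ (B_central hsq t s))

theorem B_eq_one_of_commute {s t : T} (h : Commute s t) : B s t = 1 := by
  rw [B_def]
  calc s⁻¹ * t⁻¹ * s * t = s⁻¹ * t⁻¹ * (s * t) := by group
    _ = s⁻¹ * t⁻¹ * (t * s) := by rw [h.eq]
    _ = 1 := by group

section auto

variable [Finite T] (α : T →* T) (h3 : ∀ t, α (α (α t)) = t) (hf : ∀ t, α t = t → t = 1)

include hf in
theorem surj_comm (t : T) : ∃ s, s⁻¹ * α s = t := by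
  have hinj : Function.Injective (fun s : T => s⁻¹ * α s) := by
    intro a b hab
    have h1 : a⁻¹ * α a = b⁻¹ * α b := hab
    have h2 : α (a * b⁻¹) = a * b⁻¹ := by
      rw [map_mul, map_inv]
      calc α a * (α b)⁻¹ = a * (a⁻¹ * α a) * (α b)⁻¹ := by group
        _ = a * (b⁻¹ * α b) * (α b)⁻¹ := by rw [h1]
        _ = a * b⁻¹ := by group
    have h3 := hf _ h2
    exact mul_inv_eq_one.mp h3
  exact Finite.surjective_of_injective hinj t

include h3 hf in
theorem mul_map_map (t : T) : t * α t * α (α t) = 1 := by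
  obtain ⟨s, rfl⟩ := surj_comm α hf t
  simp only [map_mul, map_inv, h3]
  group

include h3 hf in
theorem commute_map (t : T) : Commute t (α t) := by
  have h1 := mul_map_map α h3 hf t
  have h2 := mul_map_map α h3 hf t⁻¹
  simp only [map_inv] at h2
  -- α(α t) * α t * t = 1
  have h4 : α (α t) * α t * t = 1 := by
    have := congrArg (·⁻¹) h2
    simpa [mul_assoc] using this
  have h5 : t * α t = (α (α t))⁻¹ := mul_eq_one_iff_eq_inv.mp h1
  have h6 : α t * t = (α (α t))⁻¹ := by
    rw [mul_assoc] at h4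
    exact (inv_eq_of_mul_eq_one_right h4).symm
  exact h5.trans h6.symm

include h3 hf in
theorem map_map_eq (t : T) : α (α t) = (t * α t)⁻¹ :=
  (inv_eq_of_mul_eq_one_right (mul_map_map α h3 hf t)).symm

include h3 hf hsq in
/-- `b(s, αr) = b(αs, r)` -/
theorem B_map_swap (hinv : ∀ t : T, t ∈ Subgroup.center T → t * t = 1) (s r : T) : B s (α r) = B (α s) r := by
  have h1 : B (s * r) (α (s * r)) = 1 := B_eq_one_of_commute (commute_map α h3 hf _)
  rw [map_mul, B_mul_left hsq, B_mul_right hsq, B_mul_right hsq,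
    B_eq_one_of_commute (commute_map α h3 hf s), B_eq_one_of_commute (commute_map α h3 hf r), one_mul,
    mul_one] at h1
  have h2 : B s (α r) = (B r (α s))⁻¹ := mul_eq_one_iff_eq_inv.mp h1
  rw [h2, B_inv]

include h3 hf hsq in
/-- `b(αs, r) = α² b(s, r)` -/
theorem B_map_left (hinv : ∀ t : T, t ∈ Subgroup.center T → t * t = 1) (s r : T) :
    B (α s) r = α (α (B s r)) := by
  have h1 : ∀ s r : T, B (α (α s)) r = α (B s r) := by
    intro s r
    rw [← B_map_swap hsq α h3 hf hinv, map_B]
  have h2 := h1 (α (α s)) r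
  rw [h3, h1 s r] at h2
  exact h2

end auto

end fpf

/-- Relations from the automorphism: `b(x, y) = x²`, `y² = α(x²)`. -/
theorem rel_of_fpf {T : Type*} [Group T] [Finite T] (hsq : ∀ t : T, t * t ∈ Subgroup.center T)
    (hinv : ∀ t : T, t ∈ Subgroup.center T → t * t = 1)
    (α : T →* T) (h3 : ∀ t, α (α (α t)) = t) (hf : ∀ t, α t = t → t = 1) (x y : T)
    (hxy : B x y = x * x) (hyy : y * y = α (x * x)) :
    Rel x (α x) y (α y) (x * x) (α (x * x)) := by
  have hc : ∀ t, α t ∈ Subgroup.center T → ∀ r, α t * r = r * α t := fun t ht r =>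
    (Subgroup.mem_center_iff.mp ht r).symm
  have hzc : x * x ∈ Subgroup.center T := hsq x
  have hz'c : α (x * x) ∈ Subgroup.center T := by rw [map_mul]; exact hsq _
  have hz1 : ∀ t, (x * x) * t = t * (x * x) := fun t => (Subgroup.mem_center_iff.mp hzc t).symm
  have hz2 : ∀ t, α (x * x) * t = t * α (x * x) := fun t => (Subgroup.mem_center_iff.mp hz'c t).symm
  have hzz : (x * x) * (x * x) = 1 := hinv _ hzc
  have hz'z' : α (x * x) * α (x * x) = 1 := hinv _ hz'c
  have hzz' : α (α (x * x)) = (x * x) * α (x * x) := by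
    rw [map_map_eq α h3 hf]
    apply inv_eq_of_mul_eq_one_left
    apply hinv
    exact Subgroup.mul_mem _ hzc hz'c
  have hBsymm := fun s t => B_symm hsq hinv s t
  have hBl := fun s t => B_map_left hsq α h3 hf hinv s t
  have hBr : ∀ s t, B s (α t) = α (α (B s t)) := by
    intro s t
    rw [hBsymm, hBl, hBsymm]
  refine ⟨hz1, hz2, hzz, hz'z', rfl, (map_mul α x x).symm, hyy, ?_, ?_, ?_, ?_, ?_, ?_, ?_⟩
  · rw [← map_mul, hyy, hzz']
  · exact (commute_map α h3 hf x).symm.eq
  · exact (commute_map α h3 hf y).symm.eq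
  · rw [swap_eq y x, hBsymm, hxy]
  · rw [swap_eq y (α x), hBr, hBsymm y x, hxy, hzz']
  · rw [swap_eq (α y) x, hBl, hBsymm y x, hxy, hzz']
  · rw [swap_eq (α y) (α x), ← map_B, hBsymm y x, hxy]

/-- Uniqueness of the group. -/
theorem nonempty_mulEquiv_K64 {T : Type*} [Group T] (hcard : Nat.card T = 64)
    (α : T →* T) (h3 : ∀ t, α (α (α t)) = t) (hf : ∀ t, α t = t → t = 1)
    (hZ : Nat.card (Subgroup.center T) = 4) (hsq : ∀ t : T, t * t ∈ Subgroup.center T)
    (hinv : ∀ t : T, t * t = 1 ↔ t ∈ Subgroup.center T) : Nonempty (K64 ≃* T) := by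
  classical
  haveI : Finite T := Nat.finite_of_card_ne_zero (by rw [hcard]; norm_num)
  have hinv' : ∀ t : T, t ∈ Subgroup.center T → t * t = 1 := fun t ht => (hinv t).mpr ht
  have hαc : ∀ t ∈ Subgroup.center T, α t ∈ Subgroup.center T := by
    intro t ht
    rw [← hinv, ← map_mul, hinv' t ht, map_one]
  have hαinj : Function.Injective α := by
    intro a b hab
    rw [← h3 a, hab, h3]
  have hα1 : ∀ t, α t = 1 → t = 1 := fun t ht => hαinj (by rw [ht, map_one])
  -- an element outside the centre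
  obtain ⟨x, hx⟩ : ∃ x : T, x ∉ Subgroup.center T := by
    by_contra h
    push Not at h
    have h1 : Subgroup.center T = ⊤ := by
      rw [Subgroup.eq_top_iff']; exact h
    rw [h1, Subgroup.card_top, hcard] at hZ
    norm_num at hZ
  have hz1 : x * x ≠ 1 := fun h => hx ((hinv x).mp h)
  set z := x * x with hz
  have hzc : z ∈ Subgroup.center T := hsq x
  -- the elements of the centre
  have hcen : ∀ t ∈ Subgroup.center T, t ≠ 1 → t = z ∨ t = α z ∨ t = α (α z) := by
    intro t ht ht1
    by_contra hcon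
    push Not at hcon
    obtain ⟨hc1, hc2, hc3⟩ := hcon
    have hd1 : z ≠ α z := fun h => hz1 (hf z h.symm)
    have hd2 : α z ≠ α (α z) := fun h => hd1 (hαinj h)
    have hd3 : z ≠ α (α z) := by
      intro h
      have h4 := congrArg α h
      rw [h3] at h4
      exact hd1 h4.symm
    have hsub : ({1, z, α z, α (α z), t} : Finset T) ⊆ (Subgroup.center T : Set T).toFinite.toFinset := by
      intro s hs
      simp only [Finset.mem_insert, Finset.mem_singleton] at hs
      simp only [Set.Finite.mem_toFinset, SetLike.mem_coe]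
      rcases hs with rfl | rfl | rfl | rfl | rfl
      · exact Subgroup.one_mem _
      · exact hzc
      · exact hαc _ hzc
      · exact hαc _ (hαc _ hzc)
      · exact ht
    have hle := Finset.card_le_card hsub
    have h5 : ({1, z, α z, α (α z), t} : Finset T).card = 5 := by
      rw [Finset.card_insert_of_notMem, Finset.card_insert_of_notMem, Finset.card_insert_of_notMem,
        Finset.card_insert_of_notMem, Finset.card_singleton]
      · simp only [Finset.mem_singleton]; exact fun h => hc3 h.symm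
      · simp only [Finset.mem_insert, Finset.mem_singleton, not_or]
        exact ⟨hd2, fun h => hc2 h.symm⟩
      · simp only [Finset.mem_insert, Finset.mem_singleton, not_or]
        exact ⟨hd1, hd3, fun h => hc1 h.symm⟩
      · simp only [Finset.mem_insert, Finset.mem_singleton, not_or]
        exact ⟨fun h => hz1 h.symm, fun h => hz1 (hα1 _ h.symm), fun h => hz1 (hα1 _ (hα1 _ h.symm)),
          fun h => ht1 h.symm⟩
    rw [h5, ← Set.ncard_eq_toFinset_card (Subgroup.center T : Set T)] at hle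
    have : Set.ncard (Subgroup.center T : Set T) = 4 := hZ
    omega
  have hBr : ∀ s t, B s (α t) = α (α (B s t)) := by
    intro s t
    rw [B_symm hsq hinv' s, B_map_left hsq α h3 hf hinv', B_symm hsq hinv' t s]
  -- choose `y` with `b(x,y) = z`
  obtain ⟨y, hy⟩ : ∃ y : T, B x y = z := by
    obtain ⟨y, hy⟩ : ∃ y : T, y * x ≠ x * y := by
      by_contra h
      push Not at h
      exact hx (Subgroup.mem_center_iff.mpr h)
    have hB1 : B x y ≠ 1 := by
      intro h
      have := swap_eq x y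
      rw [h, mul_one] at this
      exact hy this.symm
    rcases hcen _ (B_central hsq x y) hB1 with h | h | h
    · exact ⟨y, h⟩
    · refine ⟨α y, ?_⟩
      rw [hBr, h, h3]
    · refine ⟨α (α y), ?_⟩
      rw [hBr, hBr, h, h3, h3]
  have hyc : y ∉ Subgroup.center T := by
    intro h
    apply hz1
    rw [← hy]
    exact B_eq_one_of_commute (Subgroup.mem_center_iff.mp h x)
  have hyy : y * y ≠ 1 := fun h => hyc ((hinv y).mp h)
  have hzz' : ∀ β : T →* T, (∀ t, β (β (β t)) = t) → (∀ t, β t = t → t = 1) → β (β z) = z * β z := by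
    intro β hβ3 hβf
    rw [map_map_eq β hβ3 hβf]
    apply inv_eq_of_mul_eq_one_left
    apply hinv'
    refine Subgroup.mul_mem _ hzc ?_
    rw [← hinv, ← map_mul, hinv' z hzc, map_one]
  -- the final step for either choice of the automorphism
  have final : ∀ β : T →* T, (∀ t, β (β (β t)) = t) → (∀ t, β t = t → t = 1) → y * y = β z →
      Nonempty (K64 ≃* T) := by
    intro β hβ3 hβf hβy
    have hrel := rel_of_fpf hsq hinv' β hβ3 hβf x y hy hβy
    have hβ1 : ∀ t, β t = 1 → t = 1 := fun t ht => by rw [← hβ3 t, ht, map_one, map_one]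
    refine nonempty_mulEquiv_of_rel hcard hrel hz1 (fun h => hz1 (hβ1 _ h)) ?_
    intro h
    have h1 := hzz' β hβ3 hβf
    rw [h] at h1
    exact hz1 (hβ1 _ (hβ1 _ h1))
  rcases hcen _ (hsq y) hyy with h | h | h
  · -- impossible: `x * α y` would have square 1
    exfalso
    have h1 : B (α y) x = α (α z) := by
      rw [B_map_left hsq α h3 hf hinv', B_symm hsq hinv' y x, hy]
    have h2 : (x * α y) * (x * α y) = 1 := by
      calc (x * α y) * (x * α y) = x * (α y * x) * α y := by group
        _ = x * (x * α y * B (α y) x) * α y := by rw [swap_eq (α y) x]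
        _ = (x * x) * (α y * (B (α y) x * α y)) := by group
        _ = (x * x) * (α y * (α y * B (α y) x)) := by rw [B_comm hsq]
        _ = z * ((α y * α y) * α (α z)) := by rw [h1, ← hz]; group
        _ = z * (α (y * y) * α (α z)) := by rw [← map_mul]
        _ = z * α z * α (α z) := by rw [h]; group
        _ = 1 := mul_map_map α h3 hf z
    have h4 := (hinv _).mp h2
    have h5 : B (x * α y) x = 1 := B_eq_one_of_commute (Subgroup.mem_center_iff.mp h4 x).symm
    rw [B_mul_left hsq, B_self, one_mul, h1] at h5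
    exact hz1 (hα1 _ (hα1 _ h5))
  · exact final α h3 hf h
  · refine final (α.comp α) ?_ ?_ h
    · intro t
      show α (α (α (α (α (α t))))) = t
      rw [h3, h3]
    · intro t ht
      have h1 : α (α t) = t := ht
      apply hf
      have h2 := congrArg α h1
      rw [h3] at h2
      exact h2.symm

end Cfsg.Agent.TwoFusion.U34Model
end

-- part: TwoFusion/U34Unique
section
/-!
# Uniqueness of the Sylow 2-subgroup of `U_3(4)`

A group of order 64 with a fixed-point-free automorphism of order 3, with centre of order 4 which is the set of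
elements of square 1 and contains all squares, is isomorphic to a Sylow 2-subgroup of `PSU 3 F 4`, `|F| = 16`.
-/

set_option autoImplicit false

namespace Cfsg.Agent.TwoFusion.U34Unique

open Cfsg.Agent.TwoFusion.U34Coord Cfsg.Agent.TwoFusion.U34Model

variable {F : Type*} [Field F] [Fintype F]

theorem exists_cube_root (hF : Fintype.card F = 16) : ∃ w : F, w ^ 3 = 1 ∧ w ≠ 1 := by
  classical
  by_contra h
  push Not at h
  have h1 := card_ker_T hF
  have hsub : ((T hF).ker : Set F) ⊆ ({0, 1} : Finset F) := by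
    intro x hx
    have hx' : x + x ^ 4 = 0 := (mem_ker_T hF x).mp hx
    simp only [Finset.coe_insert, Finset.coe_singleton, Set.mem_insert_iff, Set.mem_singleton_iff]
    by_cases hx0 : x = 0
    · exact Or.inl hx0
    · right
      apply h
      have h2 := eq_of_add_eq_zero hF hx'
      have h3 : x * (x ^ 3 - 1) = 0 := by linear_combination -h2
      rcases mul_eq_zero.mp h3 with h4 | h4
      · exact absurd h4 hx0
      · exact sub_eq_zero.mp h4
  have h2 : Nat.card (T hF).ker ≤ 2 := by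
    have h3 : Set.ncard ((T hF).ker : Set F) ≤ Set.ncard (({0, 1} : Finset F) : Set F) :=
      Set.ncard_le_ncard hsub (Finset.finite_toSet _)
    rw [Set.ncard_coe_finset] at h3
    exact h3.trans (Finset.card_le_two)
  omega

/-- A group with the coordinates of the Sylow 2-subgroup of `U_3(4)` is isomorphic to the model. -/
theorem nonempty_mulEquiv_of_coords (hF : Fintype.card F = 16) {S : Type*} [Group S] (f : S → F × F)
    (hinj : Function.Injective f)
    (hmem : ∀ s, (f s).2 + (f s).2 ^ 4 = (f s).1 ^ 5)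
    (hsurj : ∀ a b : F, b + b ^ 4 = a ^ 5 → ∃ s, f s = (a, b))
    (hmul : ∀ s t, f (s * t) = ((f s).1 + (f t).1, (f s).2 + (f t).2 + (f s).1 * (f t).1 ^ 4)) :
    Nonempty (K64 ≃* S) := by
  obtain ⟨hcard, hK, hcl, -, -, hsq⟩ := structure_of_coords hF f hinj hmem hsurj hmul
  obtain ⟨w, hw3, hw1⟩ := exists_cube_root hF
  have h2 := two_eq_zero hF
  have hw : w ^ 2 + w + 1 = 0 := by
    have h3 : (w - 1) * (w ^ 2 + w + 1) = 0 := by linear_combination hw3
    rcases mul_eq_zero.mp h3 with h4 | h4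
    · exact absurd (sub_eq_zero.mp h4) hw1
    · exact h4
  -- the automorphism
  have hex : ∀ s : S, ∃ s' : S, f s' = (w * (f s).1, w ^ 2 * (f s).2) := by
    intro s
    apply hsurj
    have h3 := hmem s
    have h4 : (w : F) ^ 5 = w ^ 2 := by
      calc (w : F) ^ 5 = w ^ 3 * w ^ 2 := by ring
        _ = w ^ 2 := by rw [hw3, one_mul]
    have h5 : (w : F) ^ 8 = w ^ 2 := by
      calc (w : F) ^ 8 = w ^ 3 * w ^ 3 * w ^ 2 := by ring
        _ = w ^ 2 := by rw [hw3, one_mul, one_mul]
    calc w ^ 2 * (f s).2 + (w ^ 2 * (f s).2) ^ 4 = w ^ 2 * (f s).2 + w ^ 8 * (f s).2 ^ 4 := by ring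
      _ = w ^ 2 * ((f s).2 + (f s).2 ^ 4) := by rw [h5]; ring
      _ = w ^ 5 * (f s).1 ^ 5 := by rw [h3, h4]
      _ = (w * (f s).1) ^ 5 := by ring
  choose g hg using hex
  have hw4 : w ^ 4 = w := by
    calc w ^ 4 = w ^ 3 * w := by ring
      _ = w := by rw [hw3, one_mul]
  have hgmul : ∀ s t, g (s * t) = g s * g t := by
    intro s t
    apply hinj
    rw [hg, hmul, hmul, hg, hg]
    ext
    · simp only; ring
    · simp only
      calc w ^ 2 * ((f s).2 + (f t).2 + (f s).1 * (f t).1 ^ 4)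
          = w ^ 2 * (f s).2 + w ^ 2 * (f t).2 + w * (w * ((f s).1 * (f t).1 ^ 4)) := by ring
        _ = w ^ 2 * (f s).2 + w ^ 2 * (f t).2 + w * (w ^ 4 * ((f s).1 * (f t).1 ^ 4)) := by rw [hw4]
        _ = w ^ 2 * (f s).2 + w ^ 2 * (f t).2 + w * (f s).1 * (w * (f t).1) ^ 4 := by ring
  let α : S →* S := MonoidHom.mk' g hgmul
  have hα : ∀ s, f (α s) = (w * (f s).1, w ^ 2 * (f s).2) := hg
  have hf1 : f 1 = (0, 0) := by
    have h3 := hmul 1 1
    rw [mul_one] at h3
    have h4 := congrArg Prod.fst h3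
    have h5 := congrArg Prod.snd h3
    simp only at h4 h5
    have h6 : (f 1).1 = 0 := by linear_combination -h4
    rw [h6] at h5
    have h7 : (f 1).2 = 0 := by linear_combination -h5
    exact Prod.ext h6 h7
  refine nonempty_mulEquiv_K64 hcard α ?_ ?_ hK.card_four ?_ ?_
  · intro t
    apply hinj
    rw [hα, hα, hα]
    ext
    · simp only; linear_combination (f t).1 * hw3
    · simp only; linear_combination (f t).2 * (w ^ 3 + 1) * hw3
  · intro t ht
    have h3 := hα t
    rw [ht] at h3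
    apply hinj
    rw [hf1]
    have h4 := congrArg Prod.fst h3
    have h5 := congrArg Prod.snd h3
    simp only at h4 h5
    have hne : w - 1 ≠ 0 := sub_ne_zero.mpr hw1
    have hne2 : w ^ 2 - 1 ≠ 0 := by
      intro h
      apply hw1
      linear_combination hw3 - w * h
    ext
    · have : (w - 1) * (f t).1 = 0 := by linear_combination -h4
      exact (mul_eq_zero.mp this).resolve_left hne
    · have : (w ^ 2 - 1) * (f t).2 = 0 := by linear_combination -h5
      exact (mul_eq_zero.mp this).resolve_left hne2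
  · intro t
    have h3 := hsq (QuotientGroup.mk t)
    rw [← QuotientGroup.mk_pow, QuotientGroup.eq_one_iff, pow_two] at h3
    exact h3
  · intro t
    constructor
    · intro ht
      rw [hcl]
      by_cases h1 : t = 1
      · rw [h1]; exact Subgroup.one_mem _
      · exact Subgroup.subset_closure (orderOf_eq_prime (by rw [pow_two]; exact ht) h1)
    · intro ht
      haveI := hK
      have h3 := IsKleinFour.mul_self (⟨t, ht⟩ : Subgroup.center S)
      exact congrArg Subtype.val h3

/-- A Sylow 2-subgroup of `U_3(4)` is isomorphic to the model. -/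
theorem nonempty_mulEquiv_sylow (hF : Fintype.card F = 16) (S : Sylow 2 (Cfsg.PSU 3 F 4)) :
    Nonempty (K64 ≃* (S : Subgroup (Cfsg.PSU 3 F 4))) := by
  have : Fact (Nat.Prime 2) := ⟨Nat.prime_two⟩
  have hfin : Finite (Cfsg.SU 3 F 4) := by
    have : Finite (Matrix.SpecialLinearGroup (Fin 3) F) := Subtype.finite
    exact Subtype.finite
  have hfin' : Finite (Cfsg.PSU 3 F 4) := Quotient.finite _
  -- `PSU ≃* SU`
  let E : Cfsg.PSU 3 F 4 ≃* Cfsg.SU 3 F 4 :=
    (QuotientGroup.quotientMulEquivOfEq (Cfsg.Agent.TwoFusion.U34Sylow.center_eq_bot hF)).trans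
      QuotientGroup.quotientBot
  let S1 : Sylow 2 (Cfsg.SU 3 F 4) := S.mapSurjective (f := E.toMonoidHom) E.surjective
  have e1 : (S : Subgroup (Cfsg.PSU 3 F 4)) ≃* S1 :=
    (S : Subgroup (Cfsg.PSU 3 F 4)).equivMapOfInjective E.toMonoidHom E.injective
  obtain ⟨S0, hS0⟩ := (Cfsg.Agent.TwoFusion.U34Sylow.isPGroup_Q hF).exists_le_sylow
  have hS0' := Cfsg.Agent.TwoFusion.U34Sylow.sylow_eq hF S0 hS0
  have e2 : S1 ≃* S0 := Sylow.equiv S1 S0
  have e3 : S0 ≃* Cfsg.Agent.TwoFusion.U34Stab.Q F := MulEquiv.subgroupCongr hS0'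
  let e : (S : Subgroup (Cfsg.PSU 3 F 4)) ≃* Cfsg.Agent.TwoFusion.U34Stab.Q F := (e1.trans e2).trans e3
  obtain ⟨f, h1, h2, h3, h4⟩ := Cfsg.Agent.TwoFusion.U34Stab.exists_coords hF
  obtain ⟨e4⟩ := nonempty_mulEquiv_of_coords hF f h1 h2 h3 h4
  exact ⟨e4.trans e.symm⟩

/-- Uniqueness: a group of order 64 with a fixed-point-free automorphism of order 3, in which the centre has
order 4, contains all squares and consists of the elements of square 1, is isomorphic to a Sylow 2-subgroup of
`U_3(4)`. -/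
theorem nonempty_mulEquiv {T : Type*} [Group T] (hcard : Nat.card T = 64)
    (α : T →* T) (h3 : ∀ t, α (α (α t)) = t) (hf : ∀ t, α t = t → t = 1)
    (hZ : Nat.card (Subgroup.center T) = 4) (hsq : ∀ t : T, t * t ∈ Subgroup.center T)
    (hinv : ∀ t : T, t * t = 1 ↔ t ∈ Subgroup.center T) (hF : Fintype.card F = 16)
    (P : Sylow 2 (Cfsg.PSU 3 F 4)) : Nonempty (T ≃* (P : Subgroup (Cfsg.PSU 3 F 4))) := by
  obtain ⟨e⟩ := nonempty_mulEquiv_K64 hcard α h3 hf hZ hsq hinv
  obtain ⟨e'⟩ := nonempty_mulEquiv_sylow hF P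
  exact ⟨e.symm.trans e'⟩

end Cfsg.Agent.TwoFusion.U34Unique
end

-- part: H248/FourActEnd
section
/-!
# The group of order 64: `Syl₂(L₃(4))` or `Syl₂(U₃(4))` (helper248)
-/

set_option autoImplicit false
set_option linter.unusedSimpArgs false
set_option linter.unusedTactic false

namespace Cfsg.Agent.H248.FourAct

open Subgroup Cfsg.Agent.TwoFusion.FpfThree Cfsg.Agent.Lib.FieldFour

open scoped commutatorElement

section Coord

variable {T : Type*} [Group T]

/-- the coordinate function on `⟨x, x'⟩` -/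
def co (x x' : T) : F4 → T
  | .o => 1
  | .i => x
  | .w => x'
  | .v => x * x'

theorem co_add {x x' : T} (h1 : x * x = 1) (h2 : x' * x' = 1) (h3 : x * x' = x' * x) (a b : F4) :
    co x x' (a + b) = co x x' a * co x x' b := by
  have h4 : ∀ y, x * (x * y) = y := fun y => by rw [← mul_assoc, h1, one_mul]
  have h5 : ∀ y, x' * (x' * y) = y := fun y => by rw [← mul_assoc, h2, one_mul]
  have h6 : ∀ y, x' * (x * y) = x * (x' * y) := fun y => by rw [← mul_assoc, ← h3, mul_assoc]
  cases a <;> cases b <;>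
    first
      | (change (1 : T) = _; simp [co, h1, h2, mul_assoc, h4, h5, h6, ← h3]; done)
      | (change x = _; simp [co, h1, h2, mul_assoc, h4, h5, h6, ← h3]; done)
      | (change x' = _; simp [co, h1, h2, mul_assoc, h4, h5, h6, ← h3]; done)
      | (change x * x' = _; simp [co, h1, h2, mul_assoc, h4, h5, h6, ← h3]; done)

end Coord

section Comm

variable {T : Type*} [Group T] [Finite T] {α : T →* T}

theorem comm_alpha (hf : Fpf3 α) (hT : IsPGroup 2 T) (x y : T) : ⁅α x, y⁆ = ⁅x, α y⁆ := by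
  have hl := Cfsg.Agent.OddCyclic.FpfThree.comm_mul_left hf hT
  have hr := Cfsg.Agent.OddCyclic.FpfThree.comm_mul_right hf hT
  have h0 : ∀ u, ⁅u, α u⁆ = 1 := fun u => commutatorElement_eq_one_iff_mul_comm.2 (hf.comm u)
  have h1 := h0 (x * y)
  rw [map_mul, hl, hr, hr, h0, h0, one_mul, mul_one] at h1
  rw [← commutatorElement_inv y (α x)]
  exact (eq_inv_of_mul_eq_one_left h1).symm

theorem comm_alpha_left (hf : Fpf3 α) (hT : IsPGroup 2 T) (x y : T) : ⁅α x, y⁆ = α (α ⁅x, y⁆) := by
  have h1 : ∀ x y : T, ⁅α (α x), y⁆ = α ⁅x, y⁆ := by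
    intro x y
    rw [comm_alpha hf hT (α x) y, map_commutatorElement]
  have h2 := h1 (α (α x)) y
  rw [hf.cube, h1] at h2
  exact h2

theorem comm_alpha_right (hf : Fpf3 α) (hT : IsPGroup 2 T) (x y : T) : ⁅x, α y⁆ = α (α ⁅x, y⁆) := by
  rw [← comm_alpha hf hT, comm_alpha_left hf hT]

end Comm

section Hyper

variable {T : Type*} [Group T] [Finite T] {τ α : T →* T} {V : Subgroup T}

theorem mul_alpha2 (h : Hyp τ α V) {z : T} (hz : z ∈ V) : z * α (α z) = α z := by
  have h1 := h.fpf.prod_eq_one' z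
  have h2 : α z * α z = 1 := h.sq _ (h.alpha_mem hz)
  have h3 : z * α (α z) = (α z)⁻¹ := eq_inv_of_mul_eq_one_left h1
  rw [h3]
  exact inv_eq_of_mul_eq_one_left h2

/-- the second generator -/
theorem exists_y (h : Hyp τ α V) (hT : IsPGroup 2 T) (hsq : ∀ x : T, x * x ∈ V) (hZ : center T = V) {x : T}
    (hx : x * x = 1) (hxV : x ∉ V) : ∃ y : T, y * y = 1 ∧ ⁅x, y⁆ ≠ 1 := by
  have hcV : ∀ a b : T, ⁅a, b⁆ ∈ V := by
    intro a b
    rw [← hZ]
    exact Cfsg.Agent.OddCyclic.FpfThree.comm_mem_center h.fpf hT a b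
  obtain ⟨y₀, hy₀⟩ : ∃ y₀ : T, ⁅x, y₀⁆ ≠ 1 := by
    by_contra hcon
    push Not at hcon
    apply hxV
    rw [← hZ, mem_center_iff]
    intro g
    exact (commutatorElement_eq_one_iff_mul_comm.1 (hcon g)).symm
  have hr := Cfsg.Agent.OddCyclic.FpfThree.comm_mul_right h.fpf hT
  have hl := Cfsg.Agent.OddCyclic.FpfThree.comm_mul_left h.fpf hT
  -- the square of `y₀ s`
  have key : ∀ s : T, s * s = 1 → ⁅s, y₀⁆ = y₀ * y₀ → ⁅x, s⁆ = 1 → ∃ y : T, y * y = 1 ∧ ⁅x, y⁆ ≠ 1 := by
    intro s hs hs2 hs3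
    refine ⟨y₀ * s, ?_, ?_⟩
    · have h1 : s * y₀ = ⁅s, y₀⁆ * (y₀ * s) := by rw [commutatorElement_def]; group
      calc y₀ * s * (y₀ * s) = y₀ * (s * y₀) * s := by group
        _ = y₀ * (⁅s, y₀⁆ * (y₀ * s)) * s := by rw [h1]
        _ = y₀ * ⁅s, y₀⁆ * y₀ * (s * s) := by group
        _ = ⁅s, y₀⁆ * y₀ * y₀ := by rw [hs, mul_one, h.cen _ (hcV s y₀) y₀]
        _ = (y₀ * y₀) * (y₀ * y₀) := by rw [hs2, mul_assoc]
        _ = 1 := h.sq _ (hsq y₀)
    · rw [hr, hs3, mul_one]
      exact hy₀
  have hxα : x * α x = α x * x := h.fpf.comm x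
  have hαx : α x * α x = 1 := by rw [← map_mul, hx, map_one]
  have hxx : ⁅x, x⁆ = 1 := commutatorElement_self x
  have hxax : ⁅x, α x⁆ = 1 := commutatorElement_eq_one_iff_mul_comm.2 hxα
  rcases four_cases h.fpf (fun v hv => h.alpha_mem hv) h.card (hcV x y₀) hy₀ (hsq y₀) with e | e | e | e
  · exact key 1 (mul_one 1) (by rw [commutatorElement_one_left, e]) (commutatorElement_one_right x)
  · exact key x hx e.symm hxx
  · refine key (x * α x) ?_ ?_ ?_
    · calc x * α x * (x * α x) = x * (α x * x) * α x := by group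
        _ = x * (x * α x) * α x := by rw [hxα]
        _ = (x * x) * (α x * α x) := by group
        _ = 1 := by rw [hx, hαx, one_mul]
    · rw [hl, comm_alpha_left h.fpf hT, mul_alpha2 h (hcV x y₀), e]
    · rw [hr, hxx, hxax, one_mul]
  · exact key (α x) hαx (by rw [comm_alpha_left h.fpf hT, e]) hxax

/-- **coordinates** -/
theorem exists_coord (h : Hyp τ α V) (hT : IsPGroup 2 T) (hsq : ∀ x : T, x * x ∈ V) (hZ : center T = V)
    (hcard : Nat.card T = 64) {x : T} (hx : x * x = 1) (hxV : x ∉ V) :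
    ∃ f : F4 → F4 → F4 → T, (∀ a b c a' b' c', f a b c * f a' b' c' = f (a + a') (b + b') (c + c' + a * b')) ∧
      Function.Bijective (fun p : F4 × F4 × F4 => f p.1 p.2.1 p.2.2) := by
  have hcV : ∀ a b : T, ⁅a, b⁆ ∈ V := by
    intro a b
    rw [← hZ]
    exact Cfsg.Agent.OddCyclic.FpfThree.comm_mem_center h.fpf hT a b
  have hr := Cfsg.Agent.OddCyclic.FpfThree.comm_mul_right h.fpf hT
  have hl := Cfsg.Agent.OddCyclic.FpfThree.comm_mul_left h.fpf hT
  obtain ⟨y, hy, hxy⟩ := exists_y h hT hsq hZ hx hxV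
  set z := ⁅x, y⁆ with hz
  have hzV : z ∈ V := hcV x y
  have hz2V : α (α z) ∈ V := h.alpha_mem (h.alpha_mem hzV)
  have hαx : α x * α x = 1 := by rw [← map_mul, hx, map_one]
  have hαy : α y * α y = 1 := by rw [← map_mul, hy, map_one]
  have hX := co_add hx hαx (h.fpf.comm x)
  have hY := co_add hy hαy (h.fpf.comm y)
  have hZ' := co_add (h.sq z hzV) (h.sq _ hz2V) (h.cen z hzV (α (α z)))
  have hcoV : ∀ c, co z (α (α z)) c ∈ V := by
    intro c
    cases c
    · exact V.one_mem
    · exact hzV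
    · exact hz2V
    · exact V.mul_mem hzV hz2V
  -- the commutators
  have c11 : ⁅x, y⁆ = z := rfl
  have c21 : ⁅α x, y⁆ = α (α z) := comm_alpha_left h.fpf hT x y
  have c12 : ⁅x, α y⁆ = α (α z) := comm_alpha_right h.fpf hT x y
  have c22 : ⁅α x, α y⁆ = α z := (map_commutatorElement α x y).symm
  have e1 : z * α (α z) = α z := mul_alpha2 h hzV
  have e2 : α (α z) * α z = z := by
    have h5 := mul_alpha2 h (h.alpha_mem (h.alpha_mem hzV))
    simp only [h.fpf.cube] at h5
    exact h5
  have e4 : z * α z = α (α z) := by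
    have h5 := mul_alpha2 h (h.alpha_mem hzV)
    rw [h.fpf.cube] at h5
    rw [h.cen _ hzV]
    exact h5
  have hCo : ∀ a b, ⁅co x (α x) a, co y (α y) b⁆ = co z (α (α z)) (a * b) := by
    have z3 : α (α z) * α (α z) = 1 := h.sq _ hz2V
    have k1 : z * α (α z) * (α (α z) * α z) = α (α z) := by
      calc z * α (α z) * (α (α z) * α z) = z * (α (α z) * α (α z)) * α z := by group
        _ = z * α z := by rw [z3, mul_one]
        _ = _ := e4
    intro a b
    cases a <;> cases b
    · change _ = (1 : T); simp [co]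
    · change _ = (1 : T); simp [co]
    · change _ = (1 : T); simp [co]
    · change _ = (1 : T); simp [co]
    · change _ = (1 : T); simp [co]
    · rfl
    · change ⁅x, α y⁆ = α (α z); exact c12
    · change ⁅x, y * α y⁆ = z * α (α z); rw [hr, c12]
    · change _ = (1 : T); simp [co]
    · change ⁅α x, y⁆ = α (α z); exact c21
    · change ⁅α x, α y⁆ = z * α (α z); rw [c22, e1]
    · change ⁅α x, y * α y⁆ = z; rw [hr, c21, c22, e2]
    · change _ = (1 : T); simp [co]
    · change ⁅x * α x, y⁆ = z * α (α z); rw [hl, c21]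
    · change ⁅x * α x, α y⁆ = z; rw [hl, c12, c22, e2]
    · change ⁅x * α x, y * α y⁆ = α (α z); rw [hl, hr, hr, c12, c21, c22, k1]
  have hswap : ∀ a b, co x (α x) a * co y (α y) b = co y (α y) b * co x (α x) a * co z (α (α z)) (a * b) := by
    intro a b
    have h1 : co x (α x) a * co y (α y) b = ⁅co x (α x) a, co y (α y) b⁆ * (co y (α y) b * co x (α x) a) := by
      rw [commutatorElement_def]; group
    rw [h1, hCo, h.cen _ (hcoV (a * b))]
  have hVm : ∀ c t, co z (α (α z)) c * t = t * co z (α (α z)) c := fun c t => h.cen _ (hcoV c) t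
  refine ⟨fun a b c => co y (α y) b * co x (α x) a * co z (α (α z)) c, ?_, ?_⟩
  · intro a b c a' b' c'
    change co y (α y) b * co x (α x) a * co z (α (α z)) c * (co y (α y) b' * co x (α x) a' * co z (α (α z)) c') =
      co y (α y) (b + b') * co x (α x) (a + a') * co z (α (α z)) (c + c' + a * b')
    rw [hX, hY, hZ', hZ']
    calc co y (α y) b * co x (α x) a * co z (α (α z)) c * (co y (α y) b' * co x (α x) a' * co z (α (α z)) c')
        = co y (α y) b * co x (α x) a * (co z (α (α z)) c * (co y (α y) b' * co x (α x) a')) *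
          co z (α (α z)) c' := by group
      _ = co y (α y) b * (co x (α x) a * co y (α y) b') * co x (α x) a' * co z (α (α z)) c *
          co z (α (α z)) c' := by rw [hVm]; group
      _ = co y (α y) b * co y (α y) b' * co x (α x) a * (co z (α (α z)) (a * b') * co x (α x) a') *
          co z (α (α z)) c * co z (α (α z)) c' := by rw [hswap]; group
      _ = co y (α y) b * co y (α y) b' * (co x (α x) a * co x (α x) a') *
          (co z (α (α z)) (a * b') * (co z (α (α z)) c * co z (α (α z)) c')) := by rw [hVm]; group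
      _ = _ := by rw [hVm (a * b')]
  · have hzinj : ∀ c, co z (α (α z)) c = 1 → c = 0 := by
      intro c hc
      have n1 : α z ≠ 1 := fun e => hxy (h.fpf.map_eq_one e)
      have n2 : α (α z) ≠ 1 := fun e => n1 (h.fpf.map_eq_one e)
      cases c
      · rfl
      · exact (hxy hc).elim
      · exact (n2 hc).elim
      · change z * α (α z) = 1 at hc
        rw [e1] at hc
        exact (n1 hc).elim
    have hcc : ∀ a b, co z (α (α z)) a * co z (α (α z)) b = 1 → a = b := by
      intro a b e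
      rw [← hZ'] at e
      have := hzinj _ e
      have h2 : b = -b := by cases b <;> rfl
      rw [h2]
      exact eq_neg_of_add_eq_zero_left this
    -- the commutators with `x` and `y` determine `b` and `a`
    have hx1 : ∀ a b c, ⁅x, co y (α y) b * co x (α x) a * co z (α (α z)) c⁆ = co z (α (α z)) b := by
      intro a b c
      have t1 : ⁅x, co x (α x) a⁆ = 1 := by
        rw [commutatorElement_eq_one_iff_mul_comm]
        cases a
        · change x * 1 = 1 * x; simp
        · rfl
        · exact h.fpf.comm x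
        · change x * (x * α x) = x * α x * x
          rw [mul_assoc, ← h.fpf.comm x]
      have t2 : ⁅x, co z (α (α z)) c⁆ = 1 := commutatorElement_eq_one_iff_mul_comm.2 (hVm c x).symm
      have t3 : ⁅x, co y (α y) b⁆ = co z (α (α z)) b := by
        have := hCo .i b
        have e5 : (F4.i : F4) * b = b := by cases b <;> rfl
        rw [e5] at this
        exact this
      rw [hr, hr, t1, t2, t3, mul_one, mul_one]
    have hy1 : ∀ a b c, ⁅co y (α y) b * co x (α x) a * co z (α (α z)) c, y⁆ = co z (α (α z)) a := by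
      intro a b c
      have t1 : ⁅co y (α y) b, y⁆ = 1 := by
        rw [commutatorElement_eq_one_iff_mul_comm]
        cases b
        · change 1 * y = y * 1; simp
        · rfl
        · exact (h.fpf.comm y).symm
        · change y * α y * y = y * (y * α y)
          rw [mul_assoc, ← h.fpf.comm y]
      have t2 : ⁅co z (α (α z)) c, y⁆ = 1 := commutatorElement_eq_one_iff_mul_comm.2 (hVm c y)
      have t3 : ⁅co x (α x) a, y⁆ = co z (α (α z)) a := by
        have := hCo a .i
        have e5 : a * (F4.i : F4) = a := by cases a <;> rfl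
        rw [e5] at this
        exact this
      rw [hl, hl, t1, t2, t3, mul_one, one_mul]
    have hzz : ∀ a, co z (α (α z)) a * co z (α (α z)) a = 1 := fun a => h.sq _ (hcoV a)
    have hinj : Function.Injective (fun p : F4 × F4 × F4 =>
        co y (α y) p.2.1 * co x (α x) p.1 * co z (α (α z)) p.2.2) := by
      rintro ⟨a, b, c⟩ ⟨a', b', c'⟩ e
      have e' : co y (α y) b * co x (α x) a * co z (α (α z)) c =
        co y (α y) b' * co x (α x) a' * co z (α (α z)) c' := e
      have hb : b = b' := by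
        apply hcc b b'
        rw [← hx1 a b c, e', hx1]
        exact hzz b'
      have ha : a = a' := by
        apply hcc a a'
        rw [← hy1 a b c, e', hy1]
        exact hzz a'
      subst hb ha
      have hc : c = c' := by
        apply hcc c c'
        rw [mul_left_cancel e']
        exact hzz c'
      rw [hc]
    refine hinj.bijective_of_nat_card_le ?_
    rw [Nat.card_prod, Nat.card_prod, F4.natCard, hcard]

/-- **the isomorphism with `UT₃(4)`** -/
theorem nonempty_UT (h : Hyp τ α V) (hT : IsPGroup 2 T) (hsq : ∀ x : T, x * x ∈ V) (hZ : center T = V)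
    (hcard : Nat.card T = 64) {x : T} (hx : x * x = 1) (hxV : x ∉ V) :
    Nonempty (T ≃* Cfsg.Agent.SylowL.UT.UT 3 F4) := by
  obtain ⟨f, hmul, hbij⟩ := exists_coord h hT hsq hZ hcard hx hxV
  choose A B C hABC using (Cfsg.Agent.TypeL3.exists_el (F := F4))
  have hA : ∀ a b c : F4, A (Cfsg.Agent.TypeL3.el a b c) = a ∧ B (Cfsg.Agent.TypeL3.el a b c) = b ∧
      C (Cfsg.Agent.TypeL3.el a b c) = c := by
    intro a b c
    have := Cfsg.Agent.TypeL3.el_inj.1 (hABC (Cfsg.Agent.TypeL3.el a b c))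
    exact ⟨this.1.symm, this.2.1.symm, this.2.2.symm⟩
  let ψ : Cfsg.Agent.SylowL.UT.UT 3 F4 →* T := MonoidHom.mk' (fun g => f (A g) (B g) (C g)) (by
    intro g g'
    have e : g * g' = Cfsg.Agent.TypeL3.el (A g + A g') (B g + B g') (C g + C g' + A g * B g') := by
      conv_lhs => rw [hABC g, hABC g']
      rw [Cfsg.Agent.TypeL3.el_mul]
    obtain ⟨h1, h2, h3⟩ := hA (A g + A g') (B g + B g') (C g + C g' + A g * B g')
    rw [hmul, e, h1, h2, h3])
  have hψ : Function.Bijective ψ := by
    constructor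
    · intro g g' e
      have e' : f (A g) (B g) (C g) = f (A g') (B g') (C g') := e
      have h1 := hbij.1 (a₁ := (A g, B g, C g)) (a₂ := (A g', B g', C g')) e'
      rw [hABC g, hABC g']
      simp only [Prod.mk.injEq] at h1
      rw [h1.1, h1.2.1, h1.2.2]
    · intro t
      obtain ⟨⟨a, b, c⟩, e⟩ := hbij.2 t
      refine ⟨Cfsg.Agent.TypeL3.el a b c, ?_⟩
      obtain ⟨h1, h2, h3⟩ := hA a b c
      change f _ _ _ = t
      rw [h1, h2, h3]
      exact e
  exact ⟨(MulEquiv.ofBijective ψ hψ).symm⟩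

end Hyper

/-- **the classification** -/
theorem main {T : Type*} [Group T] [Finite T] {τ α : T →* T} {V : Subgroup T} (h : Hyp τ α V) (hT : IsPGroup 2 T) :
    (Nat.card T = 16 ∧ ∀ x : T, x * x = 1) ∨
    (∃ n : ℕ, 1 ≤ n ∧ Nonempty (T ≃* Multiplicative (ZMod (2 ^ n)) × Multiplicative (ZMod (2 ^ n)))) ∨
    (∀ P : Sylow 2 (Matrix.ProjectiveSpecialLinearGroup (Fin 3) F4),
      Nonempty (T ≃* ↥(P : Subgroup (Matrix.ProjectiveSpecialLinearGroup (Fin 3) F4)))) ∨
    (∀ (F : Type) [Field F] [Fintype F], Fintype.card F = 16 → ∀ P : Sylow 2 (Cfsg.PSU 3 F 4),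
      Nonempty (T ≃* ↥(P : Subgroup (Cfsg.PSU 3 F 4)))) := by
  by_cases hab : ∀ x y : T, x * y = y * x
  · rcases h.abelian hT hab with h1 | h1
    · exact Or.inl h1
    · right; left
      obtain ⟨n, ⟨e⟩⟩ := exists_mulEquiv' hab hT h.fpf (h.card_sq_le h1)
      refine ⟨n, ?_, ⟨e.trans (MulEquiv.prodMultiplicative _ _)⟩⟩
      by_contra hn
      have hn0 : n = 0 := by omega
      subst hn0
      have h2 : Nat.card T = 1 := by
        rw [Nat.card_congr e.toEquiv]
        simp
      have h3 : Nat.card ↥V ∣ Nat.card T := Subgroup.card_subgroup_dvd_card V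
      rw [h2, h.card] at h3
      omega
  · right; right
    obtain ⟨hcard, hsq, hZ⟩ := h.nonabelian hT hab
    by_cases hE : ∀ t : T, t * t = 1 → t ∈ center T
    · right
      intro F i1 i2 hF P
      refine Cfsg.Agent.TwoFusion.U34Unique.nonempty_mulEquiv hcard α h.fpf.cube h.fpf.fpf ?_ ?_ ?_ hF P
      · rw [hZ, h.card]
      · intro t
        rw [hZ]
        exact hsq t
      · intro t
        refine ⟨hE t, fun ht => ?_⟩
        rw [hZ] at ht
        exact h.sq t ht
    · left
      push Not at hE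
      obtain ⟨x, hx, hxZ⟩ := hE
      rw [hZ] at hxZ
      obtain ⟨e⟩ := nonempty_UT h hT hsq hZ hcard hx hxZ
      intro P
      have : Fact (Nat.Prime 2) := ⟨Nat.prime_two⟩
      have : CharP F4 2 := by
        have h2 : CharP F4 (ringChar F4) := inferInstance
        have h3 : (2 : F4) = 0 := by decide
        have h4 : ringChar F4 ∣ 2 := (ringChar.spec F4 2).1 (by exact_mod_cast h3)
        have h5 : ringChar F4 = 2 := by
          rcases (Nat.dvd_prime Nat.prime_two).1 h4 with h5 | h5
          · exfalso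
            have h6 : ((1 : ℕ) : F4) = 0 := (ringChar.spec F4 1).2 (by rw [h5])
            rw [Nat.cast_one] at h6
            exact one_ne_zero h6
          · exact h5
        rwa [h5] at h2
      obtain ⟨e'⟩ := Cfsg.Agent.SylowL.SylowPSL.sylow_equiv 2 P
      exact ⟨e.trans e'.symm⟩

end Cfsg.Agent.H248.FourAct
end

-- part: S2933
section
set_option autoImplicit false
open Cfsg

namespace Cfsg.Agent.S2933

open Subgroup Cfsg.Agent.H248.FourAct Cfsg.Agent.TwoFusion.FpfThree Cfsg.Agent.OddCyclic.FpfThree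

theorem fpf_V {G : Type*} [Group G] [Finite G] {V : Subgroup G} (hV : Nat.card ↥V = 4) {ρ : G} (hρ : orderOf ρ = 3)
    (hρn : ρ ∈ normalizer (V : Set G)) (hVρ : ⁅V, zpowers ρ⁆ = V) {v : G} (hv : v ∈ V) (hf : ρ * v * ρ⁻¹ = v) :
    v = 1 := by
  by_contra hv1
  have : Fact (Nat.Prime 3) := ⟨Nat.prime_three⟩
  let c : ↥V →* ↥V := cj hρn
  have hc3 : ∀ x, c (c (c x)) = x := by
    intro x
    apply Subtype.ext
    change ρ * (ρ * (ρ * (x : G) * ρ⁻¹) * ρ⁻¹) * ρ⁻¹ = x
    have h3 : ρ * ρ * ρ = 1 := by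
      rw [← pow_two, ← pow_succ, show 2 + 1 = orderOf ρ from hρ.symm]
      exact pow_orderOf_eq_one ρ
    calc ρ * (ρ * (ρ * (x : G) * ρ⁻¹) * ρ⁻¹) * ρ⁻¹ = (ρ * ρ * ρ) * x * (ρ * ρ * ρ)⁻¹ := by group
      _ = x := by rw [h3]; group
  have h1 := card_fixed (p := 3) (c : ↥V → ↥V) (by funext x; exact hc3 x)
  rw [hV] at h1
  have h2 : Nat.card {x : ↥V // c x = x} ≤ 4 := by
    rw [← hV]
    exact Nat.card_le_card_of_injective _ Subtype.val_injective
  have h3 : 1 < Nat.card {x : ↥V // c x = x} := by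
    rw [Finite.one_lt_card_iff_nontrivial]
    exact ⟨⟨1, map_one c⟩, ⟨⟨v, hv⟩, Subtype.ext hf⟩, fun e => hv1
      (congrArg (fun z : {x : ↥V // c x = x} => ((z : ↥V) : G)) e).symm⟩
  have h4 : Nat.card {x : ↥V // c x = x} = 4 := by
    generalize Nat.card {x : ↥V // c x = x} = m at h1 h2 h3
    interval_cases m
    · exact absurd h1 (by decide)
    · exact absurd h1 (by decide)
    · rfl
  have h5 : ∀ x : ↥V, c x = x := by
    have h6 : Function.Bijective (Subtype.val : {x : ↥V // c x = x} → ↥V) :=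
      Subtype.val_injective.bijective_of_nat_card_le (by rw [h4, hV])
    intro x
    obtain ⟨y, rfl⟩ := h6.2 x
    exact y.2
  have h7 : ⁅V, zpowers ρ⁆ = ⊥ := by
    rw [commutator_eq_bot_iff_le_centralizer]
    intro x hx
    rw [mem_centralizer_iff]
    rintro _ ⟨k, rfl⟩
    have h8 : ρ * x * ρ⁻¹ = x := congrArg Subtype.val (h5 ⟨x, hx⟩)
    rw [mul_inv_eq_iff_eq_mul] at h8
    exact Commute.zpow_left h8 k
  rw [h7] at hVρ
  rw [← hVρ, Subgroup.card_bot] at hV
  omega

/-- Let T be a 2-subgroup of a finite group G, V ≤ Z(T) a four-group, and t, ρ ∈ N_G(V) ∩ N_G(T) elements of order 2 and 3 with t commuting with ρ and with V. If [V, ρ] = V and C_T(t) = V, then T is elementary abelian of order 16, or homocyclic of rank 2 (ℤ/2ⁿ × ℤ/2ⁿ for some n ≥ 1), or isomorphic to a Sylow 2-subgroup of PSL₃(4) or of PSU₃(4). -/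
theorem result {G : Type*} [Group G] [Finite G] (T V : Subgroup G) (hT : IsPGroup 2 ↥T) (hVT : V ≤ T ⊓ Subgroup.centralizer (T : Set G)) (hV : Nat.card ↥V = 4 ∧ ∀ v ∈ V, v ^ 2 = 1) (t ρ : G) (ht : orderOf t = 2) (hρ : orderOf ρ = 3) (htn : t ∈ Subgroup.normalizer (V : Set G) ⊓ Subgroup.normalizer (T : Set G)) (hρn : ρ ∈ Subgroup.normalizer (V : Set G) ⊓ Subgroup.normalizer (T : Set G)) (htρ : t * ρ = ρ * t) (htV : t ∈ Subgroup.centralizer (V : Set G)) (hVρ : ⁅V, Subgroup.zpowers ρ⁆ = V) (hCt : T ⊓ Subgroup.centralizer ({t} : Set G) = V) : (Nat.card ↥T = 16 ∧ ∀ x ∈ T, x ^ 2 = 1) ∨ (∃ n : ℕ, 1 ≤ n ∧ Nonempty (↥T ≃* Multiplicative (ZMod (2 ^ n)) × Multiplicative (ZMod (2 ^ n)))) ∨ (∃ (F : Type) (_ : Field F) (_ : Fintype F), Fintype.card F = 4 ∧ ∀ P : Sylow 2 (Matrix.ProjectiveSpecialLinearGroup (Fin 3) F), Nonempty (↥T ≃* ↥(P : Subgroup (Matrix.ProjectiveSpecialLinearGroup (Fin 3) F)))) ∨ (∃ (F : Type) (_ : Field F) (_ : Fintype F), Fintype.card F = 16 ∧ ∀ P : Sylow 2 (Cfsg.PSU 3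 F 4), Nonempty (↥T ≃* ↥(P : Subgroup (Cfsg.PSU 3 F 4)))) := by
  have h3 : ρ * ρ * ρ = 1 := by
    rw [← pow_two, ← pow_succ, show 2 + 1 = orderOf ρ from hρ.symm]
    exact pow_orderOf_eq_one ρ
  have h2 : t * t = 1 := by
    rw [← pow_two, ← ht]
    exact pow_orderOf_eq_one t
  let τ : ↥T →* ↥T := cj htn.2
  let α : ↥T →* ↥T := cj hρn.2
  have hτ : ∀ x : ↥T, ((τ x : ↥T) : G) = t * x * t⁻¹ := fun x => rfl
  have hα : ∀ x : ↥T, ((α x : ↥T) : G) = ρ * x * ρ⁻¹ := fun x => rfl
  have htt : ∀ x, τ (τ x) = x := by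
    intro x
    apply Subtype.ext
    rw [hτ, hτ]
    calc t * (t * (x : G) * t⁻¹) * t⁻¹ = (t * t) * x * (t * t)⁻¹ := by group
      _ = x := by rw [h2]; group
  have hcube : ∀ x, α (α (α x)) = x := by
    intro x
    apply Subtype.ext
    rw [hα, hα, hα]
    calc ρ * (ρ * (ρ * (x : G) * ρ⁻¹) * ρ⁻¹) * ρ⁻¹ = (ρ * ρ * ρ) * x * (ρ * ρ * ρ)⁻¹ := by group
      _ = x := by rw [h3]; group
  have hcomm : ∀ x, τ (α x) = α (τ x) := by
    intro x
    apply Subtype.ext
    rw [hτ, hα, hα, hτ]
    calc t * (ρ * (x : G) * ρ⁻¹) * t⁻¹ = (t * ρ) * x * (t * ρ)⁻¹ := by group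
      _ = (ρ * t) * x * (ρ * t)⁻¹ := by rw [htρ]
      _ = _ := by group
  have hfix : ∀ x : ↥T, τ x = x ↔ x ∈ V.subgroupOf T := by
    intro x
    rw [mem_subgroupOf, ← hCt]
    constructor
    · intro h
      have h' : t * (x : G) * t⁻¹ = x := congrArg Subtype.val h
      rw [mul_inv_eq_iff_eq_mul] at h'
      exact ⟨x.2, mem_centralizer_singleton_iff.2 h'.symm⟩
    · intro h
      have h' := mem_centralizer_singleton_iff.1 h.2
      apply Subtype.ext
      rw [hτ, mul_inv_eq_iff_eq_mul]
      exact h'.symm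
  have hfpf : ∀ x, α x = x → x = 1 := by
    -- the fixed points of `α`
    let C : Subgroup ↥T :=
      { carrier := {x | α x = x}
        one_mem' := map_one α
        mul_mem' := by
          intro a b ha hb
          change α (a * b) = a * b
          rw [map_mul, show α a = a from ha, show α b = b from hb]
        inv_mem' := by
          intro a ha
          change α a⁻¹ = a⁻¹
          rw [map_inv, show α a = a from ha] }
    intro x hx
    by_contra hx1
    have hCτ : ∀ y ∈ C, τ y ∈ C := by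
      intro y hy
      change α (τ y) = τ y
      rw [← hcomm, show α y = y from hy]
    obtain ⟨y, hy1, hy⟩ := exists_fixed (Q := ↥C) (hT.to_subgroup C) ⟨⟨x, hx⟩, fun e => hx1 (congrArg Subtype.val e)⟩
      (fun y => ⟨τ y, hCτ y y.2⟩) (Subtype.ext (map_one τ)) (fun y => Subtype.ext (htt y))
    have hyV : (y : ↥T) ∈ V.subgroupOf T := (hfix _).1 (congrArg Subtype.val hy)
    have h5 : ρ * ((y : ↥T) : G) * ρ⁻¹ = (y : ↥T) := congrArg Subtype.val y.2
    have h6 := fpf_V hV.1 hρ hρn.1 hVρ hyV h5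
    exact hy1 (Subtype.ext (Subtype.ext h6))
  have hyp : Hyp τ α (V.subgroupOf T) :=
    { tt := htt
      fpf := ⟨hcube, hfpf⟩
      comm := hcomm
      card := by
        rw [← hV.1]
        exact Nat.card_congr (Subgroup.subgroupOfEquivOfLe (hVT.trans inf_le_left)).toEquiv
      sq := by
        intro v hv
        apply Subtype.ext
        have := hV.2 v hv
        rw [pow_two] at this
        exact this
      cen := by
        intro v hv x
        apply Subtype.ext
        exact ((mem_centralizer_iff.1 (hVT hv).2) x x.2).symm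
      fix := hfix }
  rcases main hyp hT with h | h | h | h
  · left
    refine ⟨h.1, fun x hx => ?_⟩
    rw [pow_two]
    exact congrArg Subtype.val (h.2 ⟨x, hx⟩)
  · exact Or.inr (Or.inl h)
  · exact Or.inr (Or.inr (Or.inl ⟨Cfsg.Agent.Lib.FieldFour.F4, inferInstance, inferInstance,
      Cfsg.Agent.Lib.FieldFour.F4.card, h⟩))
  · right; right; right
    have : Fact (Nat.Prime 2) := ⟨Nat.prime_two⟩
    let i2 : Fintype (GaloisField 2 4) := Fintype.ofFinite _
    have hc : Fintype.card (GaloisField 2 4) = 16 := by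
      rw [← Nat.card_eq_fintype_card, GaloisField.card 2 4 (by norm_num)]
      norm_num
    exact ⟨GaloisField 2 4, inferInstance, i2, hc, h (GaloisField 2 4) hc⟩

end Cfsg.Agent.S2933
end
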