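import Mathlib
import Cfsg.Agent.ThreePrime.SzAut
import Cfsg.Agent.ThreePrime.SzDataExists
import Cfsg.Agent.Lib.SolvableNormalP
import Cfsg.Prelude.Def_Local
import Cfsg.Agent.SignalizersComponents.Components
import Cfsg.Agent.ThreePrime.AutQuot
import Cfsg.Statements.S2976
import Cfsg.Agent.H331.SCExc
import Cfsg.Agent.OddRank.SzTits
import Cfsg.Agent.S0102
import Cfsg.Agent.FastGrp
import Cfsg.Agent.Prune
set_option linter.all false
prune_inst 0x3fffffffffffffffffffffffffffbeffbdffffffff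
open scoped Cfsg.Agent.FastGrp

-- part: H257/SzThreeA
section
/-!
# Automorphisms of order 3 of `Sz(F)`: coordinates

`coords`: an automorphism `ψ` which fixes `T` and `T ^ w` acts on the torus and on `Z(T)` through a field automorphism
`σ`. `fixes_T`: if `ψ³ = 1` and `σ = 1` then `ψ` centralises `T`. `card_eq_eight`: an automorphism of order 3 of a
field whose only fixed points are `0` and `1`.
-/

set_option autoImplicit false

namespace Cfsg.Agent.H257.SzThree

open Cfsg.Agent.ThreePrime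

variable {J : Type*} [Group J] {F : Type*} [Field F]

/-- `2 ^ (2m+1) ≡ 2` modulo 3 -/
theorem two_pow_mod (m : ℕ) : 2 ^ (2 * m + 1) % 3 = 2 := by
  induction m with
  | zero => rfl
  | succ m ih =>
    rw [show 2 * (m + 1) + 1 = (2 * m + 1) + 2 by ring, pow_add, Nat.mul_mod, ih]
    norm_num

/-- A cube root of unity in the field with `2 ^ (2m+1)` elements is trivial. -/
theorem pow_three_eq_one [Fintype F] {m : ℕ} (hF : Fintype.card F = 2 ^ (2 * m + 1)) {x : F}
    (h : x ^ 3 = 1) : x = 1 := by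
  have hx : x ≠ 0 := by
    rintro rfl
    simp at h
  have h1 : orderOf x ∣ 3 := orderOf_dvd_of_pow_eq_one h
  have h2 : orderOf x ∣ Fintype.card F - 1 :=
    orderOf_dvd_of_pow_eq_one (FiniteField.pow_card_sub_one_eq_one x hx)
  have h3 : Nat.Coprime 3 (Fintype.card F - 1) := by
    rw [Nat.Prime.coprime_iff_not_dvd Nat.prime_three, hF]
    have := two_pow_mod m
    omega
  exact orderOf_eq_one_iff.mp (Nat.eq_one_of_dvd_coprimes h3 h1 h2)

/-- An automorphism of order 3 of a finite field whose only fixed points are `0` and `1`: the field has 8 elements. -/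
theorem card_eq_eight [Fintype F] {m : ℕ} (hF : Fintype.card F = 2 ^ (2 * m + 1)) (σ : F ≃+* F)
    (h3 : ∀ x, σ^[3] x = x) (hne : ∃ x, σ x ≠ x) (hfix : ∀ x, σ x = x → x = 0 ∨ x = 1) :
    Fintype.card F = 8 := by
  classical
  have hch : CharP F 2 := Cfsg.Agent.LieRecognition.SzMatrix.charP_two hF
  let : Algebra (ZMod 2) F := ZMod.algebra F 2
  let τ : F ≃ₐ[ZMod 2] F := AlgEquiv.ofRingEquiv (f := σ) (fun r => by
    have : (σ : F →+* F).comp (algebraMap (ZMod 2) F) = algebraMap (ZMod 2) F := RingHom.ext_zmod _ _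
    exact RingHom.congr_fun this r)
  have hτ : ∀ k : ℕ, ∀ x, (τ ^ k) x = σ^[k] x := by
    intro k
    induction k with
    | zero => intro x; rfl
    | succ k ih =>
      intro x
      rw [pow_succ', Function.iterate_succ_apply', ← ih]
      rfl
  have h1 : τ ^ 3 = 1 := by
    ext x
    rw [hτ, h3]
    rfl
  have h2 : orderOf τ = 3 := by
    rcases (Nat.dvd_prime Nat.prime_three).mp (orderOf_dvd_of_pow_eq_one h1) with h | h
    · exfalso
      obtain ⟨x, hx⟩ := hne
      have : τ = 1 := orderOf_eq_one_iff.mp h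
      apply hx
      have h4 : τ x = x := by rw [this]; rfl
      exact h4
    · exact h
  let H : Subgroup (F ≃ₐ[ZMod 2] F) := Subgroup.zpowers τ
  let K : IntermediateField (ZMod 2) F := IntermediateField.fixedField H
  have h4 : Module.finrank K F = 3 := by
    rw [IntermediateField.finrank_fixedField_eq_card, Nat.card_zpowers, h2]
  have h5 : ∀ x : F, x ∈ K ↔ x = 0 ∨ x = 1 := by
    intro x
    constructor
    · intro hx
      apply hfix
      have := (IntermediateField.mem_fixedField_iff H x).mp hx τ (Subgroup.mem_zpowers τ)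
      exact this
    · rintro (rfl | rfl)
      · exact zero_mem _
      · exact one_mem _
  have h6 : Nat.card K = 2 := by
    have h7 : ((K : Set F)) = {0, 1} := by
      ext x
      exact h5 x
    have h8 : Nat.card K = Set.ncard (K : Set F) := rfl
    rw [h8, h7, Set.ncard_pair zero_ne_one]
  have h7 : Fintype.card F = Nat.card K ^ Module.finrank K F := by
    rw [← Nat.card_eq_fintype_card]
    exact Module.natCard_eq_pow_finrank
  rw [h7, h6, h4]
  norm_num

variable (R : SzRel.Rel J F)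

/-- Coordinates of an automorphism which fixes `T` and `T ^ w`. -/
theorem coords [Finite F] {ψ : MulAut J} (h1 : ∀ x ∈ R.T, ψ x ∈ R.T)
    (h2 : R.w * ψ R.w ∈ Subgroup.normalizer (R.T : Set J)) :
    ∃ (κ : Fˣ → Fˣ) (β : F → F) (σ : F ≃+* F), (∀ k, ψ (R.d k) = R.d (κ k)) ∧
      (∀ b, ψ (R.u 0 b) = R.u 0 (β b)) ∧ β 1 ≠ 0 ∧ (∀ b, σ b = β b / β 1) ∧
      (∀ k : Fˣ, σ (R.θ k) = R.θ (κ k)) := by
  -- coordinates
  have hκ : ∀ k : Fˣ, ∃ l : Fˣ, ψ (R.d k) = R.d l := fun k => R.map_D h1 h2 k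
  choose κ hκ using hκ
  have hβ : ∀ b : F, ∃ c : F, ψ (R.u 0 b) = R.u 0 c := by
    intro b
    obtain ⟨a, c, h⟩ := h1 _ (R.u_mem 0 b)
    have h3 : ψ (R.u 0 b) * ψ (R.u 0 b) = 1 := by
      rw [← map_mul, (R.u_sq_iff 0 b).2 rfl, map_one]
    rw [h, R.u_sq_iff] at h3
    subst h3
    exact ⟨c, h⟩
  choose β hβ using hβ
  have hβadd : ∀ b c, β (b + c) = β b + β c := by
    intro b c
    have h3 : ψ (R.u 0 b * R.u 0 c) = ψ (R.u 0 (b + c)) := by
      congr 1
      rw [R.u_mul]
      congr 1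
      · ring
      · ring
    rw [map_mul, hβ, hβ, hβ, R.u_mul] at h3
    have := (R.u_inj h3).2
    linear_combination -this
  have hβd : ∀ (b : F) (k : Fˣ), β (b * R.θ k) = β b * R.θ (κ k) := by
    intro b k
    have h3 := congrArg ψ (R.conj_d k 0 b)
    rw [map_mul, map_mul, map_inv, hκ, hβ, R.conj_d, zero_mul, zero_mul, zero_mul, zero_mul, hβ] at h3
    exact (R.u_inj h3).2.symm
  have hβ0 : β 0 = 0 := by
    have := hβadd 0 0
    rw [add_zero] at this
    linear_combination -this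
  have hβ1 : β 1 ≠ 0 := by
    intro h
    have h3 := hβ 1
    rw [h, R.u_zero, ← map_one ψ] at h3
    exact R.u_ne_one one_ne_zero (ψ.injective h3)
  -- the field automorphism
  have hσθ : ∀ k : Fˣ, β (R.θ k) / β 1 = R.θ (κ k) := by
    intro k
    have := hβd 1 k
    rw [one_mul] at this
    rw [this, mul_div_cancel_left₀ _ hβ1]
  have hσmul : ∀ b c, β (b * c) / β 1 = (β b / β 1) * (β c / β 1) := by
    intro b c
    by_cases hc : c = 0
    · rw [hc, mul_zero, hβ0]; ring
    · obtain ⟨k, hk⟩ := R.theta_surj c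
      have hk0 : k ≠ 0 := by
        rintro rfl
        rw [map_zero] at hk
        exact hc hk.symm
      have h3 := hβd b (Units.mk0 k hk0)
      have h4 := hσθ (Units.mk0 k hk0)
      rw [Units.val_mk0, hk] at h3 h4
      rw [h3, h4]
      ring
  let σ₀ : F →+* F :=
    { toFun := fun b => β b / β 1
      map_one' := div_self hβ1
      map_mul' := hσmul
      map_zero' := by
        show β 0 / β 1 = 0
        rw [hβ0, zero_div]
      map_add' := fun b c => by
        show β (b + c) / β 1 = β b / β 1 + β c / β 1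
        rw [hβadd, add_div] }
  have hσ₀ : Function.Bijective σ₀ :=
    ⟨σ₀.injective, Finite.surjective_of_injective σ₀.injective⟩
  let σ : F ≃+* F := RingEquiv.ofBijective σ₀ hσ₀
  exact ⟨κ, β, σ, hκ, hβ, hβ1, fun b => rfl, hσθ⟩

/-- If the field automorphism of `ψ`, `ψ³ = 1`, is trivial then `ψ` centralises `T`. -/
theorem fixes_T [Fintype F] {m : ℕ} (hm : 1 ≤ m) (hF : Fintype.card F = 2 ^ (2 * m + 1))
    {ψ : MulAut J} (h1 : ∀ x ∈ R.T, ψ x ∈ R.T) (hit1 : ∀ x, ψ^[3] x = x)
    {κ : Fˣ → Fˣ} {β : F → F} {σ : F ≃+* F} (hκ : ∀ k, ψ (R.d k) = R.d (κ k))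
    (hβ : ∀ b, ψ (R.u 0 b) = R.u 0 (β b)) (hβ1 : β 1 ≠ 0) (hσ : ∀ b, σ b = β b / β 1)
    (hσθ : ∀ k : Fˣ, σ (R.θ k) = R.θ (κ k)) (hσ1 : ∀ x, σ x = x) :
    ∀ x ∈ R.T, ψ x = x := by
  have h8 : 8 ≤ Nat.card F := by
    rw [Nat.card_eq_fintype_card, hF]
    exact SzRel.Rel.eight_le hm
  have hα : ∀ a : F, ∃ p : F × F, ψ (R.u a 0) = R.u p.1 p.2 := by
    intro a
    obtain ⟨x, y, h⟩ := h1 _ (R.u_mem a 0)
    exact ⟨(x, y), h⟩
  choose αγ hα using hα
  let α : F → F := fun a => (αγ a).1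
  let γ : F → F := fun a => (αγ a).2
  have hα : ∀ a, ψ (R.u a 0) = R.u (α a) (γ a) := hα
  have hu : ∀ a b : F, R.u a b = R.u a 0 * R.u 0 b := by
    intro a b
    rw [R.u_mul]
    congr 1
    · ring
    · rw [map_zero]; ring
  have hαβ : ∀ a b, ψ (R.u a b) = R.u (α a) (γ a + β b) := by
    intro a b
    rw [hu, map_mul, hα, hβ, R.u_mul]
    congr 1
    · ring
    · rw [map_zero]; ring
  have hκ1 : ∀ k, κ k = k := by
    intro k
    apply Units.ext
    apply R.θ.injective
    rw [← hσθ, hσ1]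
  have hβ2 : ∀ b, β b = β 1 * b := by
    intro b
    have := hσ1 b
    rw [hσ, div_eq_iff hβ1] at this
    rw [this, mul_comm]
  have hβit : ∀ (j : ℕ) (b : F), ψ^[j] (R.u 0 b) = R.u 0 (β 1 ^ j * b) := by
    intro j
    induction j with
    | zero => intro b; simp
    | succ j ih =>
      intro b
      rw [Function.iterate_succ_apply, hβ, hβ2, ih]
      congr 1
      ring
  have hβ3 : β 1 = 1 := by
    have h3 := hβit 3 1
    rw [hit1, mul_one] at h3
    exact pow_three_eq_one hF (R.u_inj h3).2.symm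
  have hβ4 : ∀ b, β b = b := by
    intro b
    rw [hβ2, hβ3, one_mul]
  -- the action on `T / Z(T)`
  have hαd : ∀ (a : F) (k : Fˣ), α (a * k ^ 2 * (R.θ k)⁻¹) = α a * k ^ 2 * (R.θ k)⁻¹ ∧
      γ (a * k ^ 2 * (R.θ k)⁻¹) = γ a * R.θ k := by
    intro a k
    have h3 := congrArg ψ (R.conj_d k a 0)
    rw [map_mul, map_mul, map_inv, hκ, hκ1, hα, R.conj_d, zero_mul, hα] at h3
    exact ⟨(R.u_inj h3).1.symm, (R.u_inj h3).2.symm⟩
  have hα2 : ∀ a, α a = α 1 * a := by
    intro a
    by_cases ha : a = 0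
    · subst ha
      have h3 := hα 0
      rw [R.u_zero, map_one, ← R.u_zero] at h3
      rw [mul_zero, ← (R.u_inj h3).1]
    · obtain ⟨k, hk⟩ := R.exists_sq_div (Units.mk0 a ha)
      rw [Units.val_mk0] at hk
      have h3 := (hαd 1 k).1
      rw [one_mul, mul_assoc, hk] at h3
      exact h3
  have hαit : ∀ (j : ℕ) (a b : F), ∃ c, ψ^[j] (R.u a b) = R.u (α 1 ^ j * a) c := by
    intro j
    induction j with
    | zero => intro a b; exact ⟨b, by simp⟩
    | succ j ih =>
      intro a b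
      rw [Function.iterate_succ_apply, hαβ, hα2 a]
      obtain ⟨c, hc⟩ := ih (α 1 * a) (γ a + β b)
      refine ⟨c, ?_⟩
      rw [hc]
      congr 1
      ring
  have hα3 : α 1 = 1 := by
    obtain ⟨c, h3⟩ := hαit 3 1 0
    rw [hit1, mul_one] at h3
    exact pow_three_eq_one hF (R.u_inj h3).1.symm
  have hα4 : ∀ a, α a = a := by
    intro a
    rw [hα2, hα3, one_mul]
  -- the cocycle
  have hγadd : ∀ a c, γ (a + c) = γ a + γ c := by
    intro a c
    have h3 := congrArg ψ (R.u_mul a 0 c 0)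
    rw [map_mul, hα, hα, hαβ, R.u_mul, hα4, hα4, hβ4] at h3
    have := (R.u_inj h3).2
    linear_combination -this
  have hγ1 : ∀ x : F, γ x = γ 1 * (x * R.θ x) := by
    intro x
    by_cases hx : x = 0
    · subst hx
      have := hγadd 0 0
      rw [add_zero] at this
      rw [map_zero, mul_zero, mul_zero]
      linear_combination -this
    · obtain ⟨k, hk⟩ := R.exists_sq_div (Units.mk0 x hx)
      rw [Units.val_mk0] at hk
      have h3 := (hαd 1 k).2
      rw [one_mul, hk] at h3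
      rw [h3]
      congr 1
      rw [← hk, map_mul, map_inv₀, map_pow, R.sq]
      have h5 := R.theta_ne_zero k
      have h6 := k.ne_zero
      field_simp
  have hγ2 : γ 1 = 0 := by
    obtain ⟨x, hx⟩ := R.exists_theta_ne h8
    have h3 := hγadd 1 x
    rw [hγ1 (1 + x), hγ1 x, map_add, map_one] at h3
    have h4 : γ 1 * (x + R.θ x) = 0 := by linear_combination h3
    rcases mul_eq_zero.mp h4 with h5 | h5
    · exact h5
    · exfalso
      apply hx
      linear_combination h5 - x * R.two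
  rintro _ ⟨a, b, rfl⟩
  rw [hαβ, hα4, hβ4, hγ1, hγ2]
  congr 1
  ring

/-- **The field has 8 elements**, or `ψ` (`ψ³ = 1 ≠ ψ`, fixing `T` and `T ^ w`) centralises an element `≠ 1` of the
torus. -/
theorem dichotomy [Fintype F] {m : ℕ} (hm : 1 ≤ m) (hF : Fintype.card F = 2 ^ (2 * m + 1))
    {ψ : MulAut J} (hψ : ψ ^ 3 = 1) (hψ1 : ψ ≠ 1) (h1 : ∀ x ∈ R.T, ψ x ∈ R.T)
    (h2 : R.w * ψ R.w ∈ Subgroup.normalizer (R.T : Set J)) :
    Fintype.card F = 8 ∨ ∃ k : Fˣ, k ≠ 1 ∧ ψ (R.d k) = R.d k := by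
  obtain ⟨κ, β, σ, hκ, hβ, hβ1, hσ, hσθ⟩ := coords R h1 h2
  have hit : ∀ k : ℕ, ∀ x, (ψ ^ k) x = ψ^[k] x := by
    intro k
    induction k with
    | zero => intro x; rfl
    | succ k ih =>
      intro x
      rw [pow_succ', Function.iterate_succ_apply', ← ih]
      rfl
  have hit1 : ∀ x, ψ^[3] x = x := by
    intro x
    rw [← hit, hψ]
    rfl
  by_cases hne : ∃ x, σ x ≠ x
  · by_cases hfix : ∀ x, σ x = x → x = 0 ∨ x = 1
    · left
      refine card_eq_eight hF σ ?_ hne hfix
      have hκit : ∀ (j : ℕ) (k : Fˣ), ψ^[j] (R.d k) = R.d (κ^[j] k) := by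
        intro j
        induction j with
        | zero => intro k; rfl
        | succ j ih =>
          intro k
          rw [Function.iterate_succ_apply, hκ, ih, Function.iterate_succ_apply]
      have hσit : ∀ (j : ℕ) (k : Fˣ), σ^[j] (R.θ k) = R.θ (κ^[j] k) := by
        intro j
        induction j with
        | zero => intro k; rfl
        | succ j ih =>
          intro k
          rw [Function.iterate_succ_apply, hσθ, ih, Function.iterate_succ_apply]
      intro x
      by_cases hx : x = 0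
      · rw [hx]
        exact Function.iterate_fixed (map_zero σ) _
      · obtain ⟨k, hk⟩ := R.theta_surj x
        have hk0 : k ≠ 0 := by
          rintro rfl
          rw [map_zero] at hk
          exact hx hk.symm
        have h3 := hκit 3 (Units.mk0 k hk0)
        rw [hit1] at h3
        have h4 := hσit 3 (Units.mk0 k hk0)
        rw [← R.d_inj h3, Units.val_mk0, hk] at h4
        exact h4
    · right
      push Not at hfix
      obtain ⟨x, hx, hx0, hx1⟩ := hfix
      obtain ⟨k, hk⟩ := R.theta_surj x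
      have hk0 : k ≠ 0 := by
        rintro rfl
        rw [map_zero] at hk
        exact hx0 hk.symm
      refine ⟨Units.mk0 k hk0, ?_, ?_⟩
      · intro h
        apply hx1
        have : k = 1 := by
          rw [← Units.val_mk0 hk0, h]
          rfl
        rw [← hk, this, map_one]
      · rw [hκ]
        congr 1
        apply Units.ext
        apply R.θ.injective
        rw [← hσθ, Units.val_mk0, hk, hx]
  · exfalso
    push Not at hne
    exact hψ1 (R.eq_one_of_fix (fixes_T R hm hF h1 hit1 hκ hβ hβ1 hσ hσθ hne) h2)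

end Cfsg.Agent.H257.SzThree
end

-- part: H257/SzThreeB
section
/-!
# Automorphisms of order 3 of `Sz(F)`: fixed points

`not_solvable`: a subgroup of `Sz(F)` with a nontrivial element of the torus, an involution of `Z(T)` and an involution
`w d(l)` is not solvable. `exists_good`: an automorphism `ψ`, `ψ³ = 1`, of a Suzuki group of order prime to 3 fixes `T`
and `T ^ w` for a suitable parametrisation. `main`: if moreover `ψ ≠ 1` and the fixed points of `ψ` form a solvable
group, then the field has 8 elements.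
-/

set_option autoImplicit false

namespace Cfsg.Agent.H257.SzThree

open Cfsg.Agent.ThreePrime

open scoped Pointwise

/-- fixed points of maps of prime order -/
theorem card_fixed_modEq (p : ℕ) [Fact p.Prime] {α : Type*} [Finite α] (f : α → α)
    (h : ∀ x, f^[p] x = x) : Nat.card α ≡ Nat.card {x : α // f x = x} [MOD p] := by
  classical
  have := Fintype.ofFinite α
  let g : Function.End α := f
  have h1 : g ^ p ^ 1 = 1 := by
    rw [pow_one]
    funext x
    have h2 : ∀ (n : ℕ) (y : α), (g ^ n) y = f^[n] y := by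
      intro n
      induction n with
      | zero => intro y; rfl
      | succ n ih =>
        intro y
        rw [pow_succ, Function.iterate_succ_apply, ← ih]
        rfl
    rw [h2, h]
    rfl
  have h2 := Equiv.Perm.card_fixedPoints_modEq (p := p) (n := 1) h1
  rw [← Nat.card_eq_fintype_card, ← Nat.card_eq_fintype_card] at h2
  exact h2

theorem exists_fixed (p : ℕ) [Fact p.Prime] {α : Type*} [Finite α] (f : α → α)
    (h : ∀ x, f^[p] x = x) (hc : ¬ p ∣ Nat.card α) : ∃ x, f x = x := by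
  by_contra hne
  push Not at hne
  have h1 := card_fixed_modEq p f h
  have h2 : IsEmpty {x : α // f x = x} := ⟨fun x => hne x.1 x.2⟩
  rw [@Nat.card_of_isEmpty _ h2] at h1
  exact hc ((Nat.modEq_zero_iff_dvd).1 h1)

theorem exists_fixed_ne (p : ℕ) [Fact p.Prime] {α : Type*} [Finite α] (f : α → α)
    (h : ∀ x, f^[p] x = x) (a : α) (ha : f a = a) (hc : ¬ Nat.card α ≡ 1 [MOD p]) :
    ∃ x, x ≠ a ∧ f x = x := by
  by_contra hne
  push Not at hne
  have h1 := card_fixed_modEq p f h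
  have h2 : Nat.card {x : α // f x = x} = 1 := by
    rw [Nat.card_eq_one_iff_unique]
    refine ⟨⟨fun x y => ?_⟩, ⟨⟨a, ha⟩⟩⟩
    apply Subtype.ext
    have hx : x.1 = a := by
      by_contra hxa
      exact hne x.1 hxa x.2
    have hy : y.1 = a := by
      by_contra hya
      exact hne y.1 hya y.2
    rw [hx, hy]
  rw [h2] at h1
  exact hc h1

variable {J : Type*} [Group J] {F : Type*} [Field F] (R : SzRel.Rel J F)

/-- The centraliser of an element `≠ 1` of `T` lies in `T`. -/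
theorem centralizer_le {x g : J} (hx : x ∈ R.T) (hx1 : x ≠ 1) (h : g * x = x * g) : g ∈ R.T := by
  have hg : g * x * g⁻¹ = x := by rw [h, mul_inv_cancel_right]
  obtain ⟨a, b, k, rfl⟩ := R.exists_ud hx hx1 (by rw [hg]; exact hx)
  obtain ⟨c, e, rfl⟩ := hx
  have h1 : (R.u a b * R.d k) * R.u c e * (R.u a b * R.d k)⁻¹ =
      R.u a b * (R.d k * R.u c e * (R.d k)⁻¹) * (R.u a b)⁻¹ := by group
  rw [h1, R.conj_d, R.conj_u] at hg
  obtain ⟨h2, h3⟩ := R.u_inj hg
  have hk : k = 1 := by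
    by_cases hc : c = 0
    · subst hc
      have h4 : e * R.θ k = e := by
        have := h3
        simp only [zero_mul, map_zero, mul_zero, add_zero] at this
        exact this
      have he : e ≠ 0 := by
        rintro rfl
        exact hx1 R.u_zero
      have h5 : R.θ (k : F) = 1 := by
        apply mul_left_cancel₀ he
        rw [h4, mul_one]
      apply Units.ext
      apply R.θ.injective
      rw [h5, Units.val_one, map_one]
    · have h4 : (k : F) ^ 2 * (R.θ k)⁻¹ = 1 := by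
        apply mul_left_cancel₀ hc
        rw [← mul_assoc, h2, mul_one]
      have h5 : (k : F) ^ 2 = R.θ k := by
        rw [mul_inv_eq_one₀ (R.theta_ne_zero k)] at h4
        exact h4
      rw [← R.sq] at h5
      rcases R.fix_theta h5 with h6 | h6
      · exact absurd h6 (R.theta_ne_zero k)
      · apply Units.ext
        apply R.θ.injective
        rw [h6, Units.val_one, map_one]
  rw [hk, R.d_one, mul_one]
  exact R.u_mem a b

/-- `T ∩ T ^ (w d)` is trivial -/
theorem eq_one_of_mem {x : J} (hx : x ∈ R.T) {l : Fˣ}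
    (h : (R.w * R.d l) * x * (R.w * R.d l)⁻¹ ∈ R.T) : x = 1 := by
  obtain ⟨a, b, rfl⟩ := hx
  obtain ⟨c, e, hce⟩ := h
  have h1 : (R.w * R.d l) * R.u a b * (R.w * R.d l)⁻¹ =
      R.w * (R.d l * R.u a b * (R.d l)⁻¹) * R.w := by
    rw [_root_.mul_inv_rev, R.w_inv]
    group
  rw [h1, R.conj_d] at hce
  have h2 := R.inter _ _ c e 1 (by rw [hce, R.d_one, mul_one])
  obtain ⟨h3, h4⟩ := h2
  have ha : a = 0 := by
    have h5 : (l : F) ^ 2 * (R.θ l)⁻¹ ≠ 0 :=
      mul_ne_zero (pow_ne_zero _ l.ne_zero) (inv_ne_zero (R.theta_ne_zero l))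
    rw [mul_assoc] at h3
    exact (mul_eq_zero.mp h3).resolve_right h5
  have hb : b = 0 := (mul_eq_zero.mp h4).resolve_right (R.theta_ne_zero l)
  rw [ha, hb, R.u_zero]

/-- Elements normalising a cyclic subgroup: their commutators centralise it. -/
theorem comm_of_cyclic {G : Type*} [Group G] {x y n : G} {i j : ℤ} (hx : x * n * x⁻¹ = n ^ i)
    (hy : y * n * y⁻¹ = n ^ j) : (x⁻¹ * y⁻¹ * x * y) * n = n * (x⁻¹ * y⁻¹ * x * y) := by
  have h1 : ∀ k : ℤ, x * n ^ k * x⁻¹ = n ^ (i * k) := by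
    intro k
    rw [← conj_zpow, hx, zpow_mul]
  have h2 : ∀ k : ℤ, y * n ^ k * y⁻¹ = n ^ (j * k) := by
    intro k
    rw [← conj_zpow, hy, zpow_mul]
  have h3 : x * y * n * (x * y)⁻¹ = y * x * n * (y * x)⁻¹ := by
    calc x * y * n * (x * y)⁻¹ = x * (y * n * y⁻¹) * x⁻¹ := by group
      _ = n ^ (i * j) := by rw [hy, h1]
      _ = n ^ (j * i) := by rw [mul_comm]
      _ = y * (x * n * x⁻¹) * y⁻¹ := by rw [hx, h2]
      _ = y * x * n * (y * x)⁻¹ := by group
  calc (x⁻¹ * y⁻¹ * x * y) * n = (y * x)⁻¹ * (x * y * n * (x * y)⁻¹) * (x * y) := by group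
    _ = n * (x⁻¹ * y⁻¹ * x * y) := by
        rw [h3]
        group

/-- **A nonsolvability criterion**: a subgroup of a Suzuki group which contains a nontrivial element of the torus `D`, a
nontrivial element of `Z(T)` and an element of `w D`. -/
theorem not_solvable [Finite J] (hodd : ∀ (p : ℕ) [Fact p.Prime], p ≠ 2 → ∀ Q : Sylow p J, IsCyclic Q)
    (C : Subgroup J) {k : Fˣ} (hk : k ≠ 1) (hkC : R.d k ∈ C) {c : F} (hc : c ≠ 0)
    (hcC : R.u 0 c ∈ C) {l : Fˣ} (hl : R.w * R.d l ∈ C) : ¬ Group.IsSolvable C := by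
  intro hs
  have hz1 : R.u 0 c ≠ 1 := R.u_ne_one hc
  have hnt : Nontrivial C := ⟨⟨⟨R.u 0 c, hcC⟩, 1, fun h => hz1 (congrArg Subtype.val h)⟩⟩
  obtain ⟨p, N, hp, hN, hNp, hNc, hNb⟩ := Cfsg.Agent.Lib.SolvableNormalP.exists_normal_pSubgroup C
  have : Fact p.Prime := ⟨hp⟩
  let M : Subgroup J := N.map C.subtype
  have hMp : IsPGroup p M := hNp.map _
  have hMn : ∀ g ∈ C, ∀ n ∈ M, g * n * g⁻¹ ∈ M := by
    rintro g hg _ ⟨n, hn, rfl⟩
    exact ⟨⟨g, hg⟩ * n * ⟨g, hg⟩⁻¹, hN.conj_mem n hn ⟨g, hg⟩, rfl⟩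
  have hMc : ∀ a ∈ M, ∀ b ∈ M, a * b = b * a := by
    rintro _ ⟨a, ha, rfl⟩ _ ⟨b, hb, rfl⟩
    have := hNc.is_comm.comm ⟨a, ha⟩ ⟨b, hb⟩
    have h2 : a * b = b * a := congrArg Subtype.val this
    rw [← map_mul, h2, map_mul]
  obtain ⟨⟨n₀, hn₀⟩, hn₀1⟩ := Subgroup.ne_bot_iff_exists_ne_one.mp hNb
  have hn₀1 : n₀ ≠ 1 := fun h => hn₀1 (Subtype.ext h)
  have hM0 : (n₀ : J) ∈ M := ⟨n₀, hn₀, rfl⟩
  have hM1 : (n₀ : J) ≠ 1 := fun h => hn₀1 (Subtype.ext h)
  by_cases hp2 : p = 2
  · subst hp2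
    -- a fixed point of the involution `u 0 c` on `M`
    have hzz : R.u 0 c * R.u 0 c = 1 := (R.u_sq_iff 0 c).2 rfl
    have hzi : (R.u 0 c)⁻¹ = R.u 0 c := inv_eq_of_mul_eq_one_right hzz
    let f : M → M := fun x => ⟨R.u 0 c * x * (R.u 0 c)⁻¹, hMn _ hcC _ x.2⟩
    have hf : ∀ x, f^[2] x = x := by
      intro x
      apply Subtype.ext
      show R.u 0 c * (R.u 0 c * x * (R.u 0 c)⁻¹) * (R.u 0 c)⁻¹ = x
      calc R.u 0 c * (R.u 0 c * x * (R.u 0 c)⁻¹) * (R.u 0 c)⁻¹ =
          (R.u 0 c * R.u 0 c) * x * (R.u 0 c * R.u 0 c)⁻¹ := by group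
        _ = x := by rw [hzz]; group
    have hf1 : f 1 = 1 := by
      apply Subtype.ext
      show R.u 0 c * 1 * (R.u 0 c)⁻¹ = 1
      group
    have hcard : ¬ Nat.card M ≡ 1 [MOD 2] := by
      intro h
      obtain ⟨e, he⟩ := IsPGroup.iff_card.mp hMp
      have hMnt : Nontrivial M := ⟨⟨⟨n₀, hM0⟩, 1, fun h => hM1 (congrArg Subtype.val h)⟩⟩
      have h1 := Finite.one_lt_card (α := M)
      have he0 : e ≠ 0 := by
        rintro rfl
        rw [he, pow_zero] at h1
        exact lt_irrefl _ h1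
      have h2 : 2 ∣ Nat.card M := by rw [he]; exact dvd_pow_self 2 he0
      have h3 : Nat.card M % 2 = 1 := h
      omega
    obtain ⟨⟨n, hnM⟩, hn1, hnf⟩ := exists_fixed_ne 2 f hf 1 hf1 hcard
    have hn1 : n ≠ 1 := fun h => hn1 (Subtype.ext h)
    have hnf : R.u 0 c * n * (R.u 0 c)⁻¹ = n := congrArg Subtype.val hnf
    have hnz : n * R.u 0 c = R.u 0 c * n := (mul_inv_eq_iff_eq_mul.mp hnf).symm
    have hnT : n ∈ R.T := centralizer_le R (R.u_mem 0 c) hz1 hnz
    have hn'M := hMn _ hl n hnM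
    have hn'T : (R.w * R.d l) * n * (R.w * R.d l)⁻¹ ∈ R.T :=
      centralizer_le R hnT hn1 (hMc _ hn'M _ hnM)
    exact hn1 (eq_one_of_mem R hnT hn'T)
  · obtain ⟨Q, hQ⟩ := hMp.exists_le_sylow
    have := hodd p hp2 Q
    have hMcy : IsCyclic M := isCyclic_of_injective (Subgroup.inclusion hQ) (Subgroup.inclusion_injective hQ)
    obtain ⟨g, hg⟩ := hMcy.exists_generator
    have hgM : ∀ x ∈ M, ∃ i : ℤ, x = (g : J) ^ i := by
      intro x hx
      obtain ⟨i, hi⟩ := Subgroup.mem_zpowers_iff.mp (hg ⟨x, hx⟩)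
      exact ⟨i, (congrArg Subtype.val hi).symm⟩
    obtain ⟨i, hi⟩ := hgM _ (hMn _ hkC _ g.2)
    obtain ⟨j, hj⟩ := hgM _ (hMn _ hcC _ g.2)
    have h1 := comm_of_cyclic hi hj
    have h2 : (R.d k)⁻¹ * (R.u 0 c)⁻¹ * R.d k * R.u 0 c = R.u 0 (c * R.θ (k⁻¹ : Fˣ) + c) := by
      have h3 : (R.u 0 c)⁻¹ = R.u 0 c := inv_eq_of_mul_eq_one_right ((R.u_sq_iff 0 c).2 rfl)
      have h4 : R.d k = (R.d k⁻¹)⁻¹ := by rw [R.d_inv, inv_inv]
      have h5 : (R.d k)⁻¹ * R.u 0 c * R.d k = R.d k⁻¹ * R.u 0 c * (R.d k⁻¹)⁻¹ := by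
        rw [← h4, R.d_inv]
      rw [h3, h5]
      rw [R.conj_d, R.u_mul]
      congr 1
      · ring
      · ring
    rw [h2] at h1
    have h3 : c * R.θ (k⁻¹ : Fˣ) + c ≠ 0 := by
      intro h
      apply hk
      have h4 : c * (R.θ (k⁻¹ : Fˣ) - 1) = 0 := by
        linear_combination h - c * R.two
      have h5 := (mul_eq_zero.mp h4).resolve_left hc
      have h6 : ((k⁻¹ : Fˣ) : F) = 1 := by
        apply R.θ.injective
        rw [map_one]
        exact sub_eq_zero.mp h5
      have h7 : k⁻¹ = 1 := Units.ext h6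
      exact inv_eq_one.mp h7
    have h4 : (g : J) ∈ R.T := centralizer_le R (R.u_mem 0 _) (R.u_ne_one h3) h1.symm
    have h5 : (g : J) ^ 4 = 1 := R.pow_four h4
    obtain ⟨e, he⟩ := hMp g
    have h6 : (g : J) ^ p ^ e = 1 := congrArg Subtype.val he
    have h7 : orderOf (g : J) ∣ 4 := orderOf_dvd_of_pow_eq_one h5
    have h8 : orderOf (g : J) ∣ p ^ e := orderOf_dvd_of_pow_eq_one h6
    have h9 : Nat.Coprime 4 (p ^ e) := by
      apply Nat.Coprime.pow_right
      have h10 : Nat.Coprime (2 ^ 2) p := Nat.Coprime.pow_left _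
        ((Nat.coprime_primes Nat.prime_two hp).mpr (fun h => hp2 h.symm))
      exact h10
    have h10 : (g : J) = 1 := orderOf_eq_one_iff.mp (Nat.eq_one_of_dvd_coprimes h9 h7 h8)
    obtain ⟨i, hi⟩ := hgM _ hM0
    apply hM1
    rw [hi, h10, one_zpow]

include R in
/-- A parametrisation adapted to an automorphism of order 3. -/
theorem exists_good [Finite J] [Fintype F] {m : ℕ} (hm : 1 ≤ m) (hF : Fintype.card F = 2 ^ (2 * m + 1))
    (h3 : ¬ 3 ∣ Nat.card J) (ψ : MulAut J) (hψ : ψ ^ 3 = 1) :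
    ∃ R' : SzRel.Rel J F, (∀ x ∈ R'.T, ψ x ∈ R'.T) ∧
      R'.w * ψ R'.w ∈ Subgroup.normalizer (R'.T : Set J) := by
  have : Fact (Nat.Prime 2) := ⟨Nat.prime_two⟩
  have : Fact (Nat.Prime 3) := ⟨Nat.prime_three⟩
  obtain ⟨P, hP⟩ := R.exists_sylow_eq hm hF
  -- the action on Sylow subgroups
  let f : Sylow 2 J → Sylow 2 J := fun Q => ψ • Q
  have hf : ∀ Q, f^[3] Q = Q := by
    intro Q
    show ψ • ψ • ψ • Q = Q
    rw [smul_smul, smul_smul]
    have : ψ * (ψ * ψ) = 1 := by rw [← hψ]; rfl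
    rw [← mul_assoc] at this
    rw [this, one_smul]
  have hcard : Nat.card (Sylow 2 J) ∣ Nat.card J := by
    rw [Sylow.card_eq_card_quotient_normalizer P]
    exact Subgroup.card_quotient_dvd_card _
  obtain ⟨Q, hQ⟩ := exists_fixed 3 f hf (fun h => h3 (h.trans hcard))
  obtain ⟨g, hg⟩ := MulAction.exists_smul_eq J P Q
  -- first change of parametrisation
  obtain ⟨R1, hR1⟩ : ∃ R1 : SzRel.Rel J F, R1.T = (Q : Subgroup J) := by
    refine ⟨R.map (MulAut.conj g), ?_⟩
    ext x
    rw [← hg, Sylow.coe_subgroup_smul, hP]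
    constructor
    · rintro ⟨a, b, rfl⟩
      exact ⟨R.u a b, R.u_mem a b, rfl⟩
    · rintro ⟨_, ⟨a, b, rfl⟩, rfl⟩
      exact ⟨a, b, rfl⟩
  have hT : ∀ x ∈ R1.T, ψ x ∈ R1.T := R1.map_conj_T ψ Q hR1.symm hQ
  have hsm : ∀ x : J, x • Q = Q ↔ x ∈ Subgroup.normalizer (R1.T : Set J) := by
    intro x
    rw [Sylow.smul_eq_iff_mem_normalizer, hR1]
    exact Iff.rfl
  have hQT : ∀ x ∈ R1.T, x • Q = Q := fun x hx => (hsm x).mpr (Subgroup.le_normalizer hx)
  -- the number of Sylow subgroups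
  let e : Option R1.T → Sylow 2 J := fun x => x.elim Q (fun y => ((y : J) * R1.w) • Q)
  have he : Function.Bijective e := by
    constructor
    · rintro (_ | ⟨x, hx⟩) (_ | ⟨y, hy⟩) hxy
      · rfl
      · exfalso
        have h1 : (y * R1.w) • Q = Q := hxy.symm
        rw [hsm] at h1
        apply R1.w_not_mem_normalizer
        have h2 := mul_mem (inv_mem (Subgroup.le_normalizer hy)) h1
        rwa [inv_mul_cancel_left] at h2
      · exfalso
        have h1 : (x * R1.w) • Q = Q := hxy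
        rw [hsm] at h1
        apply R1.w_not_mem_normalizer
        have h2 := mul_mem (inv_mem (Subgroup.le_normalizer hx)) h1
        rwa [inv_mul_cancel_left] at h2
      · have h1 : (x * R1.w) • Q = (y * R1.w) • Q := hxy
        have h2 : ((y * R1.w)⁻¹ * (x * R1.w)) • Q = Q := by
          rw [mul_smul, h1, inv_smul_smul]
        rw [hsm] at h2
        have h3 : (y * R1.w)⁻¹ * (x * R1.w) = R1.w * (y⁻¹ * x) * R1.w := by
          rw [_root_.mul_inv_rev, R1.w_inv]
          group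
        rw [h3] at h2
        obtain ⟨a, b, hab⟩ := mul_mem (inv_mem hy) hx
        obtain ⟨c, e', k, hk⟩ := R1.norm h2
        rw [hab] at hk
        obtain ⟨rfl, rfl⟩ := R1.inter _ _ _ _ _ hk
        rw [R1.u_zero] at hab
        congr 1
        apply Subtype.ext
        exact (inv_mul_eq_one.mp hab).symm
    · intro Q'
      obtain ⟨h, rfl⟩ := MulAction.exists_smul_eq J Q Q'
      rcases R1.bruhat h with ⟨a, b, k, hh⟩ | ⟨a, b, c, e', k, hh⟩
      · refine ⟨none, ?_⟩
        show Q = h • Q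
        rw [hh]
        exact ((hsm _).mpr (R1.ud_mem_normalizer a b k)).symm
      · refine ⟨some ⟨R1.u a b, R1.u_mem a b⟩, ?_⟩
        show (R1.u a b * R1.w) • Q = h • Q
        rw [hh, mul_smul (R1.u a b * R1.w), (hsm _).mpr (R1.ud_mem_normalizer c e' k)]
  have hcount : Nat.card (Sylow 2 J) = Nat.card R1.T + 1 := by
    rw [← Nat.card_congr (Equiv.ofBijective e he), Finite.card_option]
  have hne : ¬ Nat.card (Sylow 2 J) ≡ 1 [MOD 3] := by
    rw [hcount]
    intro h
    have h1 : Nat.card R1.T ≡ 0 [MOD 3] := Nat.ModEq.add_right_cancel' 1 h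
    exact h3 (((Nat.modEq_zero_iff_dvd).1 h1).trans (Subgroup.card_subgroup_dvd_card _))
  obtain ⟨Q', hQ'ne, hQ'⟩ := exists_fixed_ne 3 f hf Q hQ hne
  obtain ⟨o, ho⟩ := he.2 Q'
  rcases o with _ | ⟨x, hx⟩
  · exact absurd ho.symm hQ'ne
  have ho : (x * R1.w) • Q = Q' := ho
  -- second change of parametrisation
  have hN : (x * R1.w)⁻¹ * ψ (x * R1.w) ∈ Subgroup.normalizer (R1.T : Set J) := by
    rw [← hsm, mul_smul, inv_smul_eq_iff, ho]
    have h4 : ψ (x * R1.w) • Q = ψ • ((x * R1.w) • Q) := by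
      have h5 : ψ (x * R1.w) • Q = ψ (x * R1.w) • (ψ • Q) := by rw [show ψ • Q = Q from hQ]
      rw [h5]
      apply Sylow.ext
      rw [Sylow.coe_subgroup_smul, Sylow.pointwise_smul_def, Sylow.pointwise_smul_def,
        Sylow.coe_subgroup_smul]
      ext y
      constructor
      · rintro ⟨_, ⟨z, hz, rfl⟩, rfl⟩
        refine ⟨(x * R1.w) * z * (x * R1.w)⁻¹, ⟨z, hz, rfl⟩, ?_⟩
        show ψ ((x * R1.w) * z * (x * R1.w)⁻¹) = ψ (x * R1.w) * ψ z * (ψ (x * R1.w))⁻¹
        rw [map_mul, map_mul ψ (x * R1.w) z, map_inv]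
      · rintro ⟨_, ⟨z, hz, rfl⟩, rfl⟩
        refine ⟨ψ z, ⟨z, hz, rfl⟩, ?_⟩
        show ψ (x * R1.w) * ψ z * (ψ (x * R1.w))⁻¹ = ψ ((x * R1.w) * z * (x * R1.w)⁻¹)
        rw [map_mul ψ (x * R1.w * z), map_mul ψ (x * R1.w) z, map_inv]
    rw [h4, ho]
    exact hQ'
  have hT2 : (R1.map (MulAut.conj x)).T = R1.T := by
    ext y
    constructor
    · rintro ⟨a, b, rfl⟩
      exact mul_mem (mul_mem hx (R1.u_mem a b)) (inv_mem hx)
    · intro hy
      obtain ⟨a, b, hab⟩ := mul_mem (mul_mem (inv_mem hx) hy) hx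
      refine ⟨a, b, ?_⟩
      show y = x * R1.u a b * x⁻¹
      rw [← hab]
      group
  refine ⟨R1.map (MulAut.conj x), ?_, ?_⟩
  · rw [hT2]
    exact hT
  · rw [hT2]
    show (x * R1.w * x⁻¹) * ψ (x * R1.w * x⁻¹) ∈ _
    have h6 : (x * R1.w * x⁻¹) * ψ (x * R1.w * x⁻¹) =
        x * ((x * R1.w)⁻¹ * ψ (x * R1.w)) * (ψ x)⁻¹ := by
      rw [map_mul ψ (x * R1.w), map_inv, _root_.mul_inv_rev, R1.w_inv]
      group
    rw [h6]
    exact mul_mem (mul_mem (Subgroup.le_normalizer hx) hN)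
      (inv_mem (Subgroup.le_normalizer (hT x hx)))

/-- **Main result**: if an automorphism `ψ`, `ψ³ = 1 ≠ ψ`, of a Suzuki group over `F` (of order prime to 3) has a
solvable group of fixed points, then `|F| = 8`. -/
theorem main [Finite J] [Fintype F] {m : ℕ} (hm : 1 ≤ m) (hF : Fintype.card F = 2 ^ (2 * m + 1))
    (R₀ : SzRel.Rel J F) (h3 : ¬ 3 ∣ Nat.card J)
    (hodd : ∀ (p : ℕ) [Fact p.Prime], p ≠ 2 → ∀ Q : Sylow p J, IsCyclic Q)
    (ψ : MulAut J) (hψ : ψ ^ 3 = 1) (hψ1 : ψ ≠ 1)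
    (C : Subgroup J) (hC : ∀ x, ψ x = x → x ∈ C) (hs : Group.IsSolvable C) : Fintype.card F = 8 := by
  have : Fact (Nat.Prime 3) := ⟨Nat.prime_three⟩
  obtain ⟨R, h1, h2⟩ := exists_good R₀ hm hF h3 ψ hψ
  rcases dichotomy R hm hF hψ hψ1 h1 h2 with h | ⟨k, hk, hkψ⟩
  · exact h
  · exfalso
    have hit : ∀ k : ℕ, ∀ x, (ψ ^ k) x = ψ^[k] x := by
      intro k
      induction k with
      | zero => intro x; rfl
      | succ k ih =>
        intro x
        rw [pow_succ', Function.iterate_succ_apply', ← ih]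
        rfl
    have hit1 : ∀ x, ψ^[3] x = x := by
      intro x
      rw [← hit, hψ]
      rfl
    obtain ⟨κ, β, σ, hκ, hβ, hβ1, hσ, hσθ⟩ := coords R h1 h2
    -- a fixed element of `Z(T)`
    obtain ⟨c, hc, hcβ⟩ := exists_fixed_ne 3 β (by
      intro b
      have h4 : ψ^[3] (R.u 0 b) = R.u 0 (β^[3] b) := by
        show ψ (ψ (ψ (R.u 0 b))) = _
        rw [hβ, hβ, hβ]
        rfl
      rw [hit1] at h4
      exact (R.u_inj h4).2.symm) 0 (by
      have h4 := hβ 0
      rw [R.u_zero, map_one, ← R.u_zero] at h4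
      exact (R.u_inj h4).2.symm) (by
      rw [Nat.card_eq_fintype_card, hF]
      intro h4
      have h5 : 2 ^ (2 * m + 1) % 3 = 1 := h4
      rw [two_pow_mod] at h5
      omega)
    -- a fixed element of `w D`
    have hw : ∃ l₀ : Fˣ, ψ R.w = R.w * R.d l₀ := by
      obtain ⟨l₀, hl₀⟩ := R.mem_D_of h2 (by
        have h4 : R.w * (R.w * ψ R.w) * R.w = (R.w * ψ R.w)⁻¹ := by
          rw [_root_.mul_inv_rev, R.w_inv, ← map_inv, R.w_inv, ← mul_assoc, R.w_mul_w, one_mul]
        rw [h4]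
        exact inv_mem h2)
      refine ⟨l₀, ?_⟩
      rw [← hl₀, ← mul_assoc, R.w_mul_w, one_mul]
    obtain ⟨l₀, hl₀⟩ := hw
    let f : Fˣ → Fˣ := fun l => l₀ * κ l
    have hf : ∀ l, ψ (R.w * R.d l) = R.w * R.d (f l) := by
      intro l
      rw [map_mul, hl₀, hκ, mul_assoc, R.d_mul]
    obtain ⟨l, hl⟩ := exists_fixed 3 f (by
      intro l
      have h4 : ψ^[3] (R.w * R.d l) = R.w * R.d (f^[3] l) := by
        show ψ (ψ (ψ (R.w * R.d l))) = _
        rw [hf, hf, hf]
        rfl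
      rw [hit1] at h4
      exact (R.d_inj (mul_left_cancel h4)).symm) (by
      rw [Nat.card_units, Nat.card_eq_fintype_card, hF]
      have := two_pow_mod m
      omega)
    refine not_solvable R hodd C hk (hC _ hkψ) hc (hC _ ?_) (l := l) (hC _ ?_) hs
    · rw [hβ, hcβ]
    · rw [hf, hl]

end Cfsg.Agent.H257.SzThree
end

-- part: H257/CompThree
section
/-!
# Components and elements of order 3 with solvable centralizer

`mem_normalizer`: an element of order 3 with solvable centralizer normalises every component. `exists_aut`: if the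
component has order prime to 3, it acts nontrivially on the central quotient and its fixed points there form a solvable
group.
-/

set_option autoImplicit false

namespace Cfsg.Agent.H257.CompThree

open Cfsg
open Cfsg.Agent.SignalizersComponents.Components

/-- the map `k ↦ k · k^y · k^(y²)` on three commuting conjugates -/
theorem isSolvable_of_comm {G : Type*} [Group G] (K : Subgroup G) (y : G)
    (hy : y ^ 3 = 1) (hsol : Group.IsSolvable ↥(Subgroup.centralizer ({y} : Set G)))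
    (h1 : ∀ a ∈ K, ∀ b ∈ K, a * (y * b * y⁻¹) = (y * b * y⁻¹) * a)
    (h2 : ∀ a ∈ K, ∀ b ∈ K, a * (y * y * b * y⁻¹ * y⁻¹) = (y * y * b * y⁻¹ * y⁻¹) * a) :
    Group.IsSolvable K := by
  have h3 : ∀ a ∈ K, ∀ b ∈ K, (y * a * y⁻¹) * (y * y * b * y⁻¹ * y⁻¹) =
      (y * y * b * y⁻¹ * y⁻¹) * (y * a * y⁻¹) := by
    intro a ha b hb
    have := congrArg (fun x => y * x * y⁻¹) (h1 a ha b hb)
    calc (y * a * y⁻¹) * (y * y * b * y⁻¹ * y⁻¹) = y * (a * (y * b * y⁻¹)) * y⁻¹ := by group
      _ = y * ((y * b * y⁻¹) * a) * y⁻¹ := this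
      _ = (y * y * b * y⁻¹ * y⁻¹) * (y * a * y⁻¹) := by group
  let φ : K → G := fun k => (k : G) * (y * k * y⁻¹) * (y * y * k * y⁻¹ * y⁻¹)
  have hφm : ∀ a b : K, φ (a * b) = φ a * φ b := by
    intro a b
    have e1 := h1 b b.2 a a.2
    have e2 := h2 b b.2 a a.2
    have e3 := h3 b b.2 a a.2
    show ((a * b : K) : G) * (y * ((a * b : K) : G) * y⁻¹) * (y * y * ((a * b : K) : G) * y⁻¹ * y⁻¹) =
      ((a : G) * (y * a * y⁻¹) * (y * y * a * y⁻¹ * y⁻¹)) * ((b : G) * (y * b * y⁻¹) * (y * y * b * y⁻¹ * y⁻¹))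
    rw [Subgroup.coe_mul]
    calc (a : G) * b * (y * (a * b) * y⁻¹) * (y * y * (a * b) * y⁻¹ * y⁻¹)
        = a * (b * (y * a * y⁻¹)) * ((y * b * y⁻¹) * (y * y * a * y⁻¹ * y⁻¹)) * (y * y * b * y⁻¹ * y⁻¹) := by
          group
      _ = a * (y * a * y⁻¹) * (b * (y * y * a * y⁻¹ * y⁻¹)) * (y * b * y⁻¹) * (y * y * b * y⁻¹ * y⁻¹) := by
          rw [e1, e3]
          simp only [mul_assoc]
      _ = _ := by
          rw [e2]
          simp only [mul_assoc]
  -- the values of `φ` commute with `y`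
  have hφy : ∀ k : K, φ k ∈ Subgroup.centralizer ({y} : Set G) := by
    intro k
    rw [Subgroup.mem_centralizer_singleton_iff]
    have hy3 : y * y * y = 1 := by rw [← hy, pow_succ, pow_two]
    have e1 := h1 k k.2 k k.2
    have e2 := h2 k k.2 k k.2
    have e5 : y * (y * y * (k : G) * y⁻¹ * y⁻¹) * y⁻¹ = k := by
      have : y * (y * y * (k : G) * y⁻¹ * y⁻¹) * y⁻¹ = (y * y * y) * k * (y * y * y)⁻¹ := by group
      rw [this, hy3]
      group
    have e4 : y * ((k : G) * (y * k * y⁻¹) * (y * y * k * y⁻¹ * y⁻¹)) * y⁻¹ =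
        (y * k * y⁻¹) * (y * y * k * y⁻¹ * y⁻¹) * k := by
      calc y * ((k : G) * (y * k * y⁻¹) * (y * y * k * y⁻¹ * y⁻¹)) * y⁻¹
          = (y * k * y⁻¹) * (y * y * k * y⁻¹ * y⁻¹) * (y * (y * y * (k : G) * y⁻¹ * y⁻¹) * y⁻¹) := by group
        _ = _ := by rw [e5]
    have e6 : (k : G) * (y * k * y⁻¹) * (y * y * k * y⁻¹ * y⁻¹) =
        (y * k * y⁻¹) * (y * y * k * y⁻¹ * y⁻¹) * k := by
      have e7 : Commute (k : G) ((y * k * y⁻¹) * (y * y * k * y⁻¹ * y⁻¹)) := Commute.mul_right e1 e2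
      rw [mul_assoc]
      exact e7
    show (k : G) * (y * k * y⁻¹) * (y * y * k * y⁻¹ * y⁻¹) * y = y * ((k : G) * (y * k * y⁻¹) * (y * y * k * y⁻¹ * y⁻¹))
    rw [e6] at e4 ⊢
    exact (mul_inv_eq_iff_eq_mul.mp e4).symm
  let f : K →* ↥(Subgroup.centralizer ({y} : Set G)) :=
    { toFun := fun k => ⟨φ k, hφy k⟩
      map_one' := by
        apply Subtype.ext
        show (1 : G) * (y * 1 * y⁻¹) * (y * y * 1 * y⁻¹ * y⁻¹) = 1
        group
      map_mul' := fun a b => Subtype.ext (hφm a b) }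
  -- the kernel is central
  have hkc : ∀ k ∈ f.ker, ∀ a : K, k * a = a * k := by
    intro k hk a
    have hk1 : (k : G) * (y * k * y⁻¹) * (y * y * k * y⁻¹ * y⁻¹) = 1 := congrArg Subtype.val hk
    apply Subtype.ext
    show (k : G) * a = a * k
    have e4 : Commute (a : G) ((y * k * y⁻¹) * (y * y * k * y⁻¹ * y⁻¹)) :=
      Commute.mul_right (h1 a a.2 k k.2) (h2 a a.2 k k.2)
    have e3 : (k : G) = ((y * k * y⁻¹) * (y * y * k * y⁻¹ * y⁻¹))⁻¹ := by
      rw [eq_inv_iff_mul_eq_one, ← mul_assoc]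
      exact hk1
    have e5 := e4.inv_right
    rw [← e3] at e5
    exact e5.symm
  have hksol : Group.IsSolvable f.ker :=
    Group.isSolvable_of_comm (fun a b => Subtype.ext (hkc a a.2 b))
  exact Group.isSolvable_of_ker_le_range f.ker.subtype f (by rw [Subgroup.range_subtype])

/-- An element of order 3 with solvable centralizer normalises every component. -/
theorem mem_normalizer {G : Type*} [Group G] [Finite G] {K : Subgroup G} (hK : IsComponent K) {y : G}
    (hy : y ^ 3 = 1) (hsol : Group.IsSolvable ↥(Subgroup.centralizer ({y} : Set G))) :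
    y ∈ Subgroup.normalizer (K : Set G) := by
  by_contra hn
  apply quasisimple_not_isSolvable hK.2
  have hfin : ∀ g : G, g ∉ Subgroup.normalizer (K : Set G) → ∀ a ∈ K, ∀ b ∈ K,
      a * (g * b * g⁻¹) = (g * b * g⁻¹) * a := by
    intro g hg a ha b hb
    have hne : K ≠ K.map (MulAut.conj g).toMonoidHom := by
      intro h
      apply hg
      rw [Subgroup.mem_normalizer_iff]
      intro x
      constructor
      · intro hx
        rw [h]
        exact ⟨x, hx, rfl⟩
      · intro hx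
        rw [h] at hx
        obtain ⟨z, hz, hzx⟩ := hx
        have : g * z * g⁻¹ = g * x * g⁻¹ := hzx
        have h5 : z = x := by simpa using this
        exact h5 ▸ hz
    have h2 := component_le_centralizer_of_ne hK (isComponent_conj g hK) hne ha
    rw [Subgroup.mem_centralizer_iff] at h2
    exact (h2 (g * b * g⁻¹) ⟨b, hb, rfl⟩).symm
  have hyy : y * y ∉ Subgroup.normalizer (K : Set G) := by
    intro h
    apply hn
    have hyi : y = (y * y)⁻¹ := by
      rw [eq_inv_iff_mul_eq_one, ← hy]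
      rw [pow_succ, pow_two, mul_assoc]
    rw [hyi]
    exact inv_mem h
  refine isSolvable_of_comm K y hy hsol (hfin y hn) ?_
  intro a ha b hb
  have := hfin _ hyy a ha b hb
  rw [_root_.mul_inv_rev, ← mul_assoc (y * y * b)] at this
  exact this

/-- The action on the central quotient. -/
theorem exists_aut {G : Type*} [Group G] [Finite G] {K : Subgroup G} (hK : IsComponent K)
    (h3 : ¬ 3 ∣ Nat.card K) {y : G} (hy : y ^ 3 = 1)
    (hsol : Group.IsSolvable ↥(Subgroup.centralizer ({y} : Set G))) :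
    ∃ ψ : MulAut (↥K ⧸ Subgroup.center ↥K), ψ ^ 3 = 1 ∧ ψ ≠ 1 ∧
      ∃ C : Subgroup (↥K ⧸ Subgroup.center ↥K), Group.IsSolvable C ∧ ∀ x, ψ x = x → x ∈ C := by
  have : Fact (Nat.Prime 3) := ⟨Nat.prime_three⟩
  have hn := mem_normalizer hK hy hsol
  let α : MulAut K := Subgroup.normalizerMonoidHom K ⟨y, hn⟩
  have hα : ∀ x : K, ((α x : K) : G) = y * x * y⁻¹ := fun x => rfl
  have hα3 : α ^ 3 = 1 := by
    have h1 : α ^ 3 = Subgroup.normalizerMonoidHom K (⟨y, hn⟩ ^ 3) := (map_pow _ _ _).symm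
    rw [h1]
    have h2 : (⟨y, hn⟩ : Subgroup.normalizer (K : Set G)) ^ 3 = 1 := Subtype.ext hy
    rw [h2, map_one]
  have hα3' : ∀ x, α (α (α x)) = x := by
    intro x
    have : (α ^ 3) x = x := by rw [hα3]; rfl
    exact this
  let C0 : Subgroup K := (Subgroup.centralizer ({y} : Set G)).subgroupOf K
  have hC0 : ∀ x : K, x ∈ C0 ↔ α x = x := by
    intro x
    rw [Subgroup.mem_subgroupOf, Subgroup.mem_centralizer_singleton_iff, Subtype.ext_iff, hα,
      mul_inv_eq_iff_eq_mul]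
    exact eq_comm
  have hC0s : Group.IsSolvable C0 := by
    let i : C0 →* ↥(Subgroup.centralizer ({y} : Set G)) :=
      { toFun := fun x => ⟨((x : K) : G), x.2⟩
        map_one' := rfl
        map_mul' := fun _ _ => rfl }
    have hi : Function.Injective i := by
      intro a b hab
      have : ((a : K) : G) = ((b : K) : G) :=
        congrArg (fun z : ↥(Subgroup.centralizer ({y} : Set G)) => (z : G)) hab
      exact Subtype.ext (Subtype.ext this)
    exact Group.isSolvable_of_isSolvable_injective hi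
  refine ⟨Cfsg.Agent.ThreePrime.AutQuot.autQuot K α, ?_, ?_,
    C0.map (QuotientGroup.mk' (Subgroup.center K)), ?_, ?_⟩
  · rw [← map_pow, hα3, map_one]
  · intro h
    have h1 : α = 1 := Cfsg.Agent.ThreePrime.AutQuot.eq_one_of_autQuot_eq_one hK.2.1 h
    apply quasisimple_not_isSolvable hK.2
    have h2 : C0 = ⊤ := by
      rw [eq_top_iff]
      intro x _
      rw [hC0, h1]
      rfl
    rw [h2] at hC0s
    exact Group.isSolvable_of_isSolvable_injective (f := (Subgroup.topEquiv (G := K)).symm.toMonoidHom)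
      (Subgroup.topEquiv (G := K)).symm.injective
  · exact Group.isSolvable_of_surjective (f := (QuotientGroup.mk' (Subgroup.center K)).subgroupMap C0)
      (MonoidHom.subgroupMap_surjective _ _)
  · intro x hx
    obtain ⟨k, rfl⟩ := QuotientGroup.mk_surjective x
    have h1 : (QuotientGroup.mk (α k) : K ⧸ Subgroup.center K) = QuotientGroup.mk k := hx
    have h2 : k⁻¹ * α k ∈ Subgroup.center K := QuotientGroup.eq.mp h1.symm
    have hαz : ∀ z ∈ Subgroup.center K, α z ∈ Subgroup.center K := by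
      intro z hz
      have := Cfsg.Agent.ThreePrime.AutQuot.map_center α
      rw [← this]
      exact ⟨z, hz, rfl⟩
    let f : Subgroup.center K → Subgroup.center K := fun z =>
      ⟨k⁻¹ * α k * α z, mul_mem h2 (hαz z z.2)⟩
    have hf : ∀ z : Subgroup.center K, k * (f z : K) = α (k * z) := by
      intro z
      show k * (k⁻¹ * α k * α z) = α (k * z)
      rw [map_mul]
      group
    have hcard : ¬ 3 ∣ Nat.card (Subgroup.center K) := fun h =>
      h3 (h.trans (Subgroup.card_subgroup_dvd_card _))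
    obtain ⟨z, hz⟩ := Cfsg.Agent.H257.SzThree.exists_fixed 3 f (by
      intro z
      apply Subtype.ext
      apply mul_left_cancel (a := k)
      show k * (f (f (f z)) : K) = k * z
      rw [hf, hf, hf, hα3']) hcard
    have h4 : α (k * z) = k * z := by rw [← hf, hz]
    refine ⟨k * z, (hC0 _).mpr h4, ?_⟩
    rw [QuotientGroup.mk'_apply, QuotientGroup.mk_mul, (QuotientGroup.eq_one_iff (z : K)).mpr z.2,
      mul_one]

end Cfsg.Agent.H257.CompThree
end

-- part: S2976
section
set_option autoImplicit false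
open Cfsg

namespace Cfsg.Agent.S2976

open Cfsg.Agent.SignalizersComponents.Components Cfsg.Agent.SignalizersComponents.CompBasic

/-- Let G be a finite group, K a component of G whose order is not divisible by 3, and y ∈ G an element of order 3 whose centralizer C_G(y) is solvable. Then K ⧸ Z(K) is isomorphic to the Suzuki group over the field with 8 elements and y normalizes K. If moreover O₂(G) = 1, then K is simple. -/
theorem result {G : Type*} [Group G] [Finite G] (K : Subgroup G) (hK : Cfsg.IsComponent K) (h3 : ¬ 3 ∣ Nat.card ↥K) (y : G) (hy : orderOf y = 3) (hsol : Group.IsSolvable ↥(Subgroup.centralizer ({y} : Set G))) : (∃ (F : Type) (_ : Field F) (_ : Fintype F), Fintype.card F = 8 ∧ Nonempty (↥K ⧸ Subgroup.center ↥K ≃* ↥(Cfsg.Lie.Sz F 4))) ∧ y ∈ Subgroup.normalizer (K : Set G) ∧ (Cfsg.pCore 2 G = ⊥ → IsSimpleGroup ↥K) := by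
  have hyc : y ^ 3 = 1 := by rw [← hy, pow_orderOf_eq_one]
  have hsimple : IsSimpleGroup (↥K ⧸ Subgroup.center ↥K) := hK.2.2
  have hna : ¬ IsMulCommutative (↥K ⧸ Subgroup.center ↥K) := by
    have := hK.2.1
    have hperf : Group.IsPerfect (↥K ⧸ Subgroup.center ↥K) := inferInstance
    intro hab
    exact Group.IsPerfect.not_isMulCommutative _ hab
  have hq3 : ¬ 3 ∣ Nat.card (↥K ⧸ Subgroup.center ↥K) := fun h =>
    h3 (h.trans (Subgroup.card_quotient_dvd_card _))
  have hSz : Cfsg.Lie.IsoSuzuki (↥K ⧸ Subgroup.center ↥K) :=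
    Cfsg.Agent.ThreePrime.Main.isoSuzuki' hna hq3
  have hodd : ∀ (p : ℕ) [Fact p.Prime], p ≠ 2 → ∀ Q : Sylow p (↥K ⧸ Subgroup.center ↥K), IsCyclic Q :=
    fun p _ hp Q => Cfsg.Agent.OddRank.SzTits.isCyclic_of_isPGroup hSz hp Q Q.isPGroup'
  refine ⟨?_, Cfsg.Agent.H257.CompThree.mem_normalizer hK hyc hsol, ?_⟩
  · obtain ⟨ψ, hψ3, hψ1, C, hCs, hC⟩ := Cfsg.Agent.H257.CompThree.exists_aut hK h3 hyc hsol
    obtain ⟨F, iF, iF', m, hm, hF, ⟨e⟩⟩ := hSz
    let R : Cfsg.Agent.ThreePrime.SzRel.Rel (↥K ⧸ Subgroup.center ↥K) F :=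
      (Cfsg.Agent.ThreePrime.SzRel.ofGood (Cfsg.Agent.LieRecognition.SzMatrix.good hF)).map e.symm
    have h8 := Cfsg.Agent.H257.SzThree.main hm hF R hq3 hodd ψ hψ3 hψ1 C hC hCs
    have hm1 : m = 1 := by
      rw [h8] at hF
      have h1 : (2 : ℕ) ^ 3 = 2 ^ (2 * m + 1) := hF
      have := Nat.pow_right_injective le_rfl h1
      omega
    subst hm1
    exact ⟨F, iF, iF', h8, ⟨e⟩⟩
  · intro hO
    -- the centre is a 2-group
    have hZ : IsPGroup 2 (Subgroup.center ↥K) := by
      have h1 : ∀ {d : ℕ}, d.Prime → d ∣ Nat.card (Subgroup.center ↥K) → d = 2 := by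
        intro p hp hpd
        by_contra hp2
        have : Fact p.Prime := ⟨hp⟩
        have hperf := hK.2.1
        have hperf' : Group.IsPerfect (↥K ⧸ Subgroup.center ↥K) := inferInstance
        refine Cfsg.Agent.S0102.result hperf'.commutator_eq_top (hodd p hp2)
          (QuotientGroup.mk' (Subgroup.center ↥K)) (QuotientGroup.mk'_surjective _)
          (by rw [QuotientGroup.ker_mk']) hperf.commutator_eq_top ?_
        rw [QuotientGroup.ker_mk']
        exact hpd
      exact IsPGroup.of_card (Nat.eq_prime_pow_of_unique_prime_dvd Nat.card_pos.ne' h1)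
    have hZb : Subgroup.center ↥K = ⊥ := by
      have hsub : ((Subgroup.center ↥K).map K.subtype).IsSubnormal :=
        ((inferInstance : (Subgroup.center ↥K).Normal).isSubnormal).trans' hK.1
      have hle : (Subgroup.center ↥K).map K.subtype ≤ pCore 2 G :=
        subnormal_pGroup_le_pCore hsub (hZ.map _)
      rw [hO, le_bot_iff, Subgroup.map_eq_bot_iff_of_injective _ K.subtype_injective] at hle
      exact hle
    have hnt : Nontrivial K := quasisimple_nontrivial hK.2
    let e : (↥K ⧸ Subgroup.center ↥K) ≃* ↥K :=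
      (QuotientGroup.quotientMulEquivOfEq hZb).trans QuotientGroup.quotientBot
    exact IsSimpleGroup.isSimpleGroup_of_surjective e.toMonoidHom e.surjective

end Cfsg.Agent.S2976
end
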