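import Cfsg.Agent.H229.Large
import Cfsg.Agent.S0058
import Mathlib
import Cfsg.Statements.S2978
import Cfsg.Agent.S1764
import Cfsg.Agent.S0249
import Cfsg.Agent.S0256
import Cfsg.Agent.S0365
import Cfsg.Agent.S0542
import Cfsg.Agent.S2037
import Cfsg.Agent.SporadicA.MathieuRecog
import Cfsg.Agent.TypeU3Sz.Main
import Cfsg.Agent.Classification.PSLTwoEvenSylow
import Cfsg.Agent.FixBN.ReduceMain_m3
import Cfsg.Agent.FastGrp
import Cfsg.Agent.Prune
set_option linter.all false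
open scoped Cfsg.Agent.FastGrp

-- part: H257/LargeAb
section
/-!
# Abelian large `2`-subgroups

`Q` an abelian large `2`-subgroup with `Q = O₂(N_G(Q))`, `B = Ω₁(Q)`: `C_G(B) = Q`, `N_G(B) = N_G(Q)`, `B` is a TI
subgroup, weakly closed in its normalizer. If `Q` is not the unique maximal one then `O₂(G) = O(G) = 1`.
-/

set_option autoImplicit false
open Cfsg Subgroup
open Cfsg.Agent.H229

namespace Cfsg.Agent.H257.LargeAb

variable {G : Type*} [Group G]

/-- an abelian large `2`-subgroup with `Q = O₂(N_G(Q))`. -/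
structure AbLarge (Q : Subgroup G) : Prop where
  large : LargeP 2 Q
  comm : ∀ a ∈ Q, ∀ b ∈ Q, a * b = b * a
  core : Q = pCoreOf 2 (normalizer (Q : Set G))

variable {Q : Subgroup G}

namespace AbLarge

theorem le_cent (h : AbLarge Q) : Q ≤ centralizer (Q : Set G) := by
  intro a ha
  rw [mem_centralizer_iff]
  exact fun b hb => h.comm b hb a ha

theorem cent_eq (h : AbLarge Q) : centralizer (Q : Set G) = Q :=
  le_antisymm h.large.cent h.le_cent

theorem norm_le (h : AbLarge Q) {U : Subgroup G} (hU : U ≤ Q) (hU1 : U ≠ ⊥) :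
    normalizer (U : Set G) ≤ normalizer (Q : Set G) := h.large.norm (hU.trans h.le_cent) hU1

theorem ti [Finite G] (h : AbLarge Q) {g x : G} (hx : x ∈ Q) (hxg : x ∈ cj g Q) (hx1 : x ≠ 1) :
    g ∈ normalizer (Q : Set G) := by
  by_contra hg
  have h1 := h.large.inf_centralizer_eq_bot hg
  rw [← cj_centralizer, h.cent_eq] at h1
  have h2 : x ∈ (⊥ : Subgroup G) := h1 ▸ mem_inf.2 ⟨hx, hxg⟩
  exact hx1 (mem_bot.1 h2)

theorem cent_elt (h : AbLarge Q) {x : G} (hx : x ∈ Q) (hx1 : x ≠ 1) {y : G} (hy : y * x = x * y) :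
    y ∈ normalizer (Q : Set G) := by
  have h1 : zpowers x ≤ Q := by rw [zpowers_le]; exact hx
  have h2 : zpowers x ≠ ⊥ := by rw [Ne, zpowers_eq_bot]; exact hx1
  refine h.norm_le h1 h2 (centralizer_le_norm _ ?_)
  rw [mem_centralizer_iff]
  rintro _ ⟨n, rfl⟩
  have h3 : Commute y x := hy
  exact (h3.zpow_right n).eq.symm

/-- `Ω₁(Q)` -/
abbrev om (Q : Subgroup G) : Subgroup G := zOmega 2 Q

theorem mem_om (h : AbLarge Q) {x : G} : x ∈ om Q ↔ x ∈ Q ∧ x ^ 2 = 1 := by
  rw [mem_zOmega]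
  exact ⟨fun hx => ⟨hx.1, hx.2.2⟩, fun hx => ⟨hx.1, h.le_cent hx.1, hx.2⟩⟩

theorem om_le (h : AbLarge Q) : om Q ≤ Q := fun _ hx => (h.mem_om.1 hx).1

theorem om_ea (_h : AbLarge Q) : IsElementaryAbelian 2 (om Q) := ea_zOmega 2 Q

theorem om_ne_bot [Finite G] (h : AbLarge Q) : om Q ≠ ⊥ := by
  intro h0
  apply h.large.ne_bot
  rw [eq_bot_iff]
  intro x hx
  rw [mem_bot]
  obtain ⟨k, hk⟩ := h.large.pgroup ⟨x, hx⟩
  have hk' : x ^ 2 ^ k = 1 := by
    have := congrArg (Subtype.val) hk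
    simpa using this
  clear hk
  induction k generalizing x with
  | zero => simpa using hk'
  | succ k ih =>
    have h2 : x ^ 2 = 1 := by
      apply ih (Q.pow_mem hx 2)
      rw [← pow_mul, mul_comm, ← pow_succ]
      exact hk'
    have h3 : x ∈ om Q := h.mem_om.2 ⟨hx, h2⟩
    rw [h0] at h3
    exact mem_bot.1 h3

theorem norm_om [Finite G] (h : AbLarge Q) : normalizer (om Q : Set G) = normalizer (Q : Set G) :=
  le_antisymm (h.norm_le h.om_le h.om_ne_bot) (norm_le_norm_zOmega 2 Q)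

/-- elements of odd order centralizing `Ω₁(Q)` centralize `Q` -/
theorem odd_cent (h : AbLarge Q) {x : G} (hxN : x ∈ normalizer (Q : Set G))
    (hx : x ∈ centralizer (om Q : Set G)) (hxo : (orderOf x).Coprime 2) : x ∈ centralizer (Q : Set G) := by
  have key : ∀ k : ℕ, ∀ q ∈ Q, q ^ 2 ^ k = 1 → x * q * x⁻¹ = q := by
    intro k
    induction k with
    | zero =>
      intro q _ hq
      have : q = 1 := by simpa using hq
      subst this
      simp
    | succ k ih =>
      intro q hq hqk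
      have h1 : x * q ^ 2 * x⁻¹ = q ^ 2 := by
        apply ih _ (Q.pow_mem hq 2)
        rw [← pow_mul, mul_comm, ← pow_succ]
        exact hqk
      have h2 : x * q * x⁻¹ ∈ Q := le_norm_iff.1 le_rfl x hxN q hq
      have hc : Commute q⁻¹ (x * q * x⁻¹) := h.comm _ (Q.inv_mem hq) _ h2
      have h3 : (q⁻¹ * (x * q * x⁻¹)) ^ 2 = 1 := by
        rw [hc.mul_pow]
        have e : (x * q * x⁻¹) ^ 2 = x * q ^ 2 * x⁻¹ := by rw [pow_two, pow_two]; group
        rw [e, h1]; group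
      have h4 : q⁻¹ * (x * q * x⁻¹) ∈ om Q := h.mem_om.2 ⟨Q.mul_mem (Q.inv_mem hq) h2, h3⟩
      have h5 : Commute x (q⁻¹ * (x * q * x⁻¹)) := ((mem_centralizer_iff.1 hx) _ h4).symm
      have h6 := comm_pow_eq_one (pow_orderOf_eq_one x) h5
      have h7 : orderOf (q⁻¹ * (x * q * x⁻¹)) = 1 :=
        Nat.eq_one_of_dvd_coprimes hxo (orderOf_dvd_of_pow_eq_one h6) (orderOf_dvd_of_pow_eq_one h3)
      rw [orderOf_eq_one_iff] at h7
      exact (inv_mul_eq_one.1 h7).symm
  rw [mem_centralizer_iff]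
  intro q hq
  obtain ⟨k, hk⟩ := h.large.pgroup ⟨q, hq⟩
  have hk' : q ^ 2 ^ k = 1 := by
    have := congrArg (Subtype.val) hk
    simpa using this
  have h1 := key k q hq hk'
  have h2 : x * q * x⁻¹ * x = q * x := by rw [h1]
  rw [inv_mul_cancel_right] at h2
  exact h2.symm

theorem odd_eq_one (h : AbLarge Q) {x : G} (hx : x ∈ Q) (hxo : (orderOf x).Coprime 2) : x = 1 := by
  obtain ⟨k, hk⟩ := h.large.pgroup ⟨x, hx⟩
  have hk' : x ^ 2 ^ k = 1 := by
    have := congrArg (Subtype.val) hk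
    simpa using this
  have h5 : orderOf x ∣ 2 ^ k := orderOf_dvd_of_pow_eq_one hk'
  have h6 : orderOf x = 1 := Nat.eq_one_of_dvd_coprimes (Nat.Coprime.pow_right k hxo) dvd_rfl h5
  exact orderOf_eq_one_iff.1 h6

/-- `C_G(Ω₁(Q)) = Q` -/
theorem cent_om [Finite G] (h : AbLarge Q) : centralizer (om Q : Set G) = Q := by
  apply le_antisymm
  · have hN : centralizer (om Q : Set G) ≤ normalizer (Q : Set G) :=
      (centralizer_le_norm _).trans h.norm_om.le
    have hp : IsPGroup 2 ↥(centralizer (om Q : Set G)) := by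
      apply subgroup_isPGroup_of_coprime_trivial
      intro x hx hxo
      exact h.odd_eq_one (h.cent_eq ▸ h.odd_cent (hN hx) hx hxo) hxo
    have h1 : centralizer (om Q : Set G) ≤ pCoreOf 2 (normalizer (Q : Set G)) := by
      refine le_pCoreOf hN ?_ hp
      rw [← h.norm_om]
      exact norm_le_norm_centralizer _
    rwa [← h.core] at h1
  · exact h.le_cent.trans (Subgroup.centralizer_le h.om_le)

theorem om_ti [Finite G] (h : AbLarge Q) (g : G) : cj g (om Q) = om Q ∨ cj g (om Q) ⊓ om Q = ⊥ := by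
  by_cases h0 : cj g (om Q) ⊓ om Q = ⊥
  · exact Or.inr h0
  · left
    obtain ⟨x, hx⟩ := Subgroup.ne_bot_iff_exists_ne_one.1 h0
    have h1 : (x : G) ≠ 1 := fun h => hx (Subtype.ext h)
    have h2 := h.ti (h.om_le x.2.2) (cj_mono h.om_le x.2.1) h1
    rw [← h.norm_om] at h2
    exact mem_norm.1 h2

theorem om_wc [Finite G] (h : AbLarge Q) (g : G) (hg : cj g (om Q) ≤ normalizer (om Q : Set G)) :
    cj g (om Q) = om Q := by
  have h1 : om Q ⊓ centralizer (cj g (om Q) : Set G) ≠ ⊥ :=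
    PLocal.OffenderStep.inf_centralizer_ne_bot (om Q) (cj g (om Q)) (ea_isPGroup h.om_ea)
      (isPGroup_cj (ea_isPGroup h.om_ea)) hg h.om_ne_bot
  rw [← cj_centralizer, h.cent_om] at h1
  obtain ⟨x, hx⟩ := Subgroup.ne_bot_iff_exists_ne_one.1 h1
  have h1 : (x : G) ≠ 1 := fun h => hx (Subtype.ext h)
  have h2 := h.ti (h.om_le x.2.1) x.2.2 h1
  rw [← h.norm_om] at h2
  exact mem_norm.1 h2

end AbLarge

/-- the configuration of the theorem -/
structure Cfg (S : Sylow 2 G) (Q R : Subgroup G) : Prop where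
  ab : AbLarge Q
  QS : Q ≤ (S : Subgroup G)
  Rp : IsPGroup 2 ↥R
  R1 : R ≠ ⊥
  SR : (S : Subgroup G) ≤ normalizer (R : Set G)
  nR : ¬ normalizer (R : Set G) ≤ normalizer (Q : Set G)

namespace Cfg

variable {S : Sylow 2 G} {R : Subgroup G}

theorem S_le [Finite G] (c : Cfg S Q R) : (S : Subgroup G) ≤ normalizer (Q : Set G) :=
  c.ab.large.le_norm_of_le S.2 c.QS

theorem R_le (c : Cfg S Q R) : R ≤ (S : Subgroup G) := by
  have h1 : IsPGroup 2 ↥(R ⊔ S : Subgroup G) := isPGroup_sup_of_norm c.Rp S.2 c.SR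
  have h2 : R ⊔ S = S := S.3 h1 le_sup_right
  exact sup_eq_right.1 h2

theorem not_R_le (c : Cfg S Q R) : ¬ R ≤ Q := fun h => c.nR (c.ab.norm_le h c.R1)

theorem not_top_le (c : Cfg S Q R) : ¬ (⊤ : Subgroup G) ≤ normalizer (Q : Set G) :=
  fun h => c.nR (le_top.trans h)

variable [Finite G]

/-- every normal `2`-subgroup is trivial -/
theorem two_bot (c : Cfg S Q R) {N : Subgroup G} (hN : N.Normal) (hp : IsPGroup 2 ↥N) : N = ⊥ := by
  by_contra h1
  have hNt : (⊤ : Subgroup G) ≤ normalizer (N : Set G) := by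
    rw [normalizer_eq_top_iff.2 hN]
  have hNS : N ≤ (S : Subgroup G) := by
    have h2 : IsPGroup 2 ↥(N ⊔ S : Subgroup G) := isPGroup_sup_of_norm hp S.2 (le_top.trans hNt)
    have h3 : N ⊔ S = S := S.3 h2 le_sup_right
    exact sup_eq_right.1 h3
  have h2 : N ≤ pCoreOf 2 (normalizer (Q : Set G)) :=
    le_pCoreOf (hNS.trans c.S_le) (le_top.trans hNt) hp
  rw [← c.ab.core] at h2
  exact c.not_top_le (hNt.trans (c.ab.norm_le h2 h1))

/-- `Q` is not cyclic -/
theorem not_cyclic (c : Cfg S Q R) : ¬ IsCyclic ↥Q := by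
  intro hcy
  have h1 : normalizer (Q : Set G) ≤ centralizer (AbLarge.om Q : Set G) := by
    intro x hx
    rw [← c.ab.norm_om] at hx
    have hB : IsCyclic ↥(AbLarge.om Q) := by
      have := Subgroup.isCyclic ((AbLarge.om Q).subgroupOf Q)
      exact isCyclic_of_surjective (Subgroup.subgroupOfEquivOfLe c.ab.om_le) (MulEquiv.surjective _)
    obtain ⟨g, hg⟩ := hB.exists_generator
    have key : ∀ b ∈ AbLarge.om Q, b ≠ 1 → b = g := by
      intro b hb hb1
      obtain ⟨n, hn⟩ := mem_zpowers_iff.1 (hg ⟨b, hb⟩)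
      have hn' : (g : G) ^ n = b := congrArg Subtype.val hn
      have hg2 : (g : G) ^ 2 = 1 := (c.ab.mem_om.1 g.2).2
      rcases Int.even_or_odd' n with ⟨m, rfl | rfl⟩
      · exfalso
        apply hb1
        rw [← hn', zpow_mul]
        have : (g : G) ^ (2 : ℤ) = 1 := by exact_mod_cast hg2
        rw [this, one_zpow]
      · rw [← hn', zpow_add, zpow_mul]
        have : (g : G) ^ (2 : ℤ) = 1 := by exact_mod_cast hg2
        rw [this, one_zpow, one_mul, zpow_one]
    rw [mem_centralizer_iff]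
    intro b hb
    by_cases hb1 : b = 1
    · subst hb1; simp
    · have h2 : x * b * x⁻¹ ∈ AbLarge.om Q := le_norm_iff.1 le_rfl x hx b hb
      have h3 : x * b * x⁻¹ ≠ 1 := by
        intro h
        apply hb1
        have : x * b * x⁻¹ * x = 1 * x := by rw [h]
        rw [inv_mul_cancel_right, one_mul] at this
        exact mul_eq_left.1 this
      have h4 := key _ h2 h3
      rw [← key b hb hb1] at h4
      have : x * b * x⁻¹ * x = b * x := by rw [h4]
      rw [inv_mul_cancel_right] at this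
      exact this.symm
  rw [c.ab.cent_om] at h1
  exact c.not_R_le (c.R_le.trans (c.S_le.trans h1))

/-- every normal subgroup of odd order is trivial -/
theorem odd_bot (c : Cfg S Q R) {K : Subgroup G} (hK : K.Normal) (ho : (Nat.card ↥K).Coprime 2) : K = ⊥ := by
  have hcop : (Nat.card ↥Q).Coprime (Nat.card ↥K) := by
    obtain ⟨n, hn⟩ := IsPGroup.iff_card.1 c.ab.large.pgroup
    rw [hn]
    exact (ho.symm).pow_left n
  have hcomm : IsMulCommutative ↥Q := ⟨⟨fun a b => Subtype.ext (c.ab.comm a a.2 b b.2)⟩⟩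
  have hKN : K ≤ normalizer (Q : Set G) := by
    rw [← S0058.result Q K c.not_cyclic (le_top.trans (normalizer_eq_top_iff.2 hK).ge) hcop]
    apply iSup₂_le
    rintro a ⟨ha, ha1⟩
    intro y hy
    refine c.ab.cent_elt ha ha1 ?_
    exact (mem_centralizer_iff.1 hy.2 a rfl).symm
  have hbot : K ⊓ Q = ⊥ := (inf_comm _ _).trans (disjoint_iff.1 (Subgroup.disjoint_of_coprime_natCard hcop))
  have h1 : K ≤ centralizer (Q : Set G) := by
    intro k hk
    rw [mem_centralizer_iff]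
    intro q hq
    have h2 : k * q * k⁻¹ * q⁻¹ ∈ K ⊓ Q := by
      refine ⟨?_, ?_⟩
      · have e : k * q * k⁻¹ * q⁻¹ = k * (q * k⁻¹ * q⁻¹) := by group
        rw [e]
        exact K.mul_mem hk (hK.conj_mem _ (K.inv_mem hk) q)
      · exact Q.mul_mem (le_norm_iff.1 hKN k hk q hq) (Q.inv_mem hq)
    rw [hbot, mem_bot] at h2
    have h3 : k * q * k⁻¹ = q := mul_inv_eq_one.1 h2
    have : k * q * k⁻¹ * k = q * k := by rw [h3]
    rw [inv_mul_cancel_right] at this
    exact this.symm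
  rw [c.ab.cent_eq] at h1
  rw [← inf_eq_left.2 h1]
  exact hbot

/-- the centralizer of a normal subgroup containing `Ω₁(Q)` is trivial -/
theorem cent_bot (c : Cfg S Q R) {M : Subgroup G} (hM : M.Normal) (hB : AbLarge.om Q ≤ M) :
    centralizer (M : Set G) = ⊥ := by
  have h1 : centralizer (M : Set G) ≤ Q := by
    rw [← c.ab.cent_om]
    exact Subgroup.centralizer_le hB
  exact c.two_bot inferInstance (isPGroup_mono h1 c.ab.large.pgroup)

/-- the involutions of `S ∩ M` are not all central in `S ∩ M`. -/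
theorem false_of_central (c : Cfg S Q R) {M : Subgroup G} (hM : M.Normal) (hB : AbLarge.om Q ≤ M)
    (h : ∀ x ∈ (S : Subgroup G) ⊓ M, ∀ y ∈ (S : Subgroup G) ⊓ M, x * x = 1 → x * y = y * x) : False := by
  have hBS : AbLarge.om Q ≤ (S : Subgroup G) ⊓ M := le_inf (c.ab.om_le.trans c.QS) hB
  have h1 : (S : Subgroup G) ⊓ M ≤ Q := by
    rw [← c.ab.cent_om]
    intro y hy
    rw [mem_centralizer_iff]
    intro b hb
    refine h b (hBS hb) y hy ?_
    have := (c.ab.mem_om.1 hb).2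
    rwa [pow_two] at this
  have hMt : ∀ K : Subgroup G, K ≤ normalizer (M : Set G) := fun K => by
    rw [normalizer_eq_top_iff.2 hM]; exact le_top
  by_cases h2 : R ⊓ M = ⊥
  · apply c.not_R_le
    rw [← c.ab.cent_om]
    intro r hr
    rw [mem_centralizer_iff]
    intro b hb
    have h3 : r * b * r⁻¹ * b⁻¹ ∈ R ⊓ M := by
      refine ⟨?_, ?_⟩
      · have e : r * b * r⁻¹ * b⁻¹ = r * (b * r⁻¹ * b⁻¹) := by group
        rw [e]
        refine R.mul_mem hr ?_
        exact le_norm_iff.1 c.SR b (hBS hb).1 _ (R.inv_mem hr)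
      · exact M.mul_mem (hM.conj_mem _ (hB hb) r) (M.inv_mem (hB hb))
    rw [h2, mem_bot] at h3
    have h3 : r * b * r⁻¹ = b := mul_inv_eq_one.1 h3
    have : r * b * r⁻¹ * r = b * r := by rw [h3]
    rw [inv_mul_cancel_right] at this
    exact this.symm
  · apply c.nR
    have h3 : R ⊓ M ≤ Q := (inf_le_inf_right _ c.R_le).trans h1
    refine le_trans ?_ (c.ab.norm_le h3 h2)
    exact le_trans (le_inf le_rfl (hMt _)) (norm_inf_le _ _)

end Cfg

end Cfsg.Agent.H257.LargeAb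
end

-- part: H257/LargeAltSeven
section
/-!
# Involutions of the alternating group of degree seven

For an involution `t` of `A₇` there is an element `c` of order 3 centralizing `t` with `(b c b⁻¹ c⁻¹)³ = 1` for all `b`
commuting with `t`.
-/

set_option autoImplicit false
open Equiv Equiv.Perm

namespace Cfsg.Agent.H257.LargeAltSeven

/-- the involution `(0 1)(2 3)` -/
def t0 : Perm (Fin 7) := swap 0 1 * swap 2 3

/-- the 3-cycle `(4 5 6)` -/
def c0 : Perm (Fin 7) := swap 4 5 * swap 5 6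

theorem t0_fix : ∀ x : Fin 7, t0 x = x ↔ x = 4 ∨ x = 5 ∨ x = 6 := by decide

theorem c0_pow : c0 ^ 3 = 1 := by decide

theorem c0_ne : c0 ≠ 1 := by decide

theorem c0_t0 : c0 * t0 = t0 * c0 := by decide

theorem c0_fix : ∀ x : Fin 7, ¬ (x = 4 ∨ x = 5 ∨ x = 6) → c0 x = x ∧ c0⁻¹ x = x := by decide

theorem c0_val : c0 4 = 5 ∧ c0 5 = 6 ∧ c0 6 = 4 ∧ c0⁻¹ 4 = 6 ∧ c0⁻¹ 5 = 4 ∧ c0⁻¹ 6 = 5 := by decide

theorem key (b : Perm (Fin 7)) (h : b * t0 = t0 * b) : b * c0 = c0 * b ∨ b * c0 = c0⁻¹ * b := by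
  have hfix : ∀ x, (x = 4 ∨ x = 5 ∨ x = 6) ↔ (b x = 4 ∨ b x = 5 ∨ b x = 6) := by
    intro x
    rw [← t0_fix, ← t0_fix]
    have h1 : b (t0 x) = t0 (b x) := by
      have := congrArg (fun f : Perm (Fin 7) => f x) h
      simpa using this
    rw [← h1]
    exact b.injective.eq_iff.symm
  have h4 := (hfix 4).1 (by simp)
  have h5 := (hfix 5).1 (by simp)
  have h6 := (hfix 6).1 (by simp)
  have n45 : b 4 ≠ b 5 := fun h => by have := b.injective h; simp at this
  have n46 : b 4 ≠ b 6 := fun h => by have := b.injective h; simp at this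
  have n56 : b 5 ≠ b 6 := fun h => by have := b.injective h; simp at this
  obtain ⟨v4, v5, v6, w4, w5, w6⟩ := c0_val
  have hrest : ∀ x, ¬ (x = 4 ∨ x = 5 ∨ x = 6) → b (c0 x) = c0 (b x) ∧ b (c0 x) = c0⁻¹ (b x) := by
    intro x hx
    rw [(c0_fix x hx).1]
    have h1 := c0_fix (b x) (fun h => hx ((hfix x).2 h))
    exact ⟨h1.1.symm, h1.2.symm⟩
  have main : (b (c0 4) = c0 (b 4) ∧ b (c0 5) = c0 (b 5) ∧ b (c0 6) = c0 (b 6)) ∨
      (b (c0 4) = c0⁻¹ (b 4) ∧ b (c0 5) = c0⁻¹ (b 5) ∧ b (c0 6) = c0⁻¹ (b 6)) := by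
    rw [v4, v5, v6]
    rcases h4 with h4 | h4 | h4 <;> rcases h5 with h5 | h5 | h5 <;> rcases h6 with h6 | h6 | h6 <;>
      first
      | exact absurd (h4.trans h5.symm) n45
      | exact absurd (h4.trans h6.symm) n46
      | exact absurd (h5.trans h6.symm) n56
      | exact Or.inl ⟨by rw [h4, h5]; decide, by rw [h5, h6]; decide, by rw [h6, h4]; decide⟩
      | exact Or.inr ⟨by rw [h4, h5]; decide, by rw [h5, h6]; decide, by rw [h6, h4]; decide⟩
  rcases main with ⟨m4, m5, m6⟩ | ⟨m4, m5, m6⟩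
  · left
    ext1 x
    by_cases hx : x = 4 ∨ x = 5 ∨ x = 6
    · rcases hx with rfl | rfl | rfl
      · exact m4
      · exact m5
      · exact m6
    · exact (hrest x hx).1
  · right
    ext1 x
    by_cases hx : x = 4 ∨ x = 5 ∨ x = 6
    · rcases hx with rfl | rfl | rfl
      · exact m4
      · exact m5
      · exact m6
    · exact (hrest x hx).2

theorem key3 (b : Perm (Fin 7)) (h : b * t0 = t0 * b) : (b * c0 * b⁻¹ * c0⁻¹) ^ 3 = 1 := by
  rcases key b h with h | h
  · have : b * c0 * b⁻¹ * c0⁻¹ = 1 := by rw [h]; group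
    rw [this, one_pow]
  · have : b * c0 * b⁻¹ * c0⁻¹ = c0⁻¹ ^ 2 := by rw [h]; group
    rw [this, ← pow_mul, mul_comm, pow_mul, inv_pow, c0_pow, inv_one, one_pow]

theorem isConj_t0 {t : Perm (Fin 7)} (ht : t ^ 2 = 1) (ht1 : t ≠ 1) (hs : sign t = 1) : IsConj t0 t := by
  have ho : orderOf t = 2 := orderOf_eq_prime ht ht1
  obtain ⟨n, hn⟩ := cycleType_prime_order (σ := t) (by rw [ho]; exact Nat.prime_two)
  rw [ho] at hn
  have h1 : t.cycleType.sum ≤ 7 := by
    rw [sum_cycleType]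
    exact (Finset.card_le_univ _).trans (by simp)
  rw [hn, Multiset.sum_replicate, smul_eq_mul] at h1
  have h2 := sign_of_cycleType' t
  rw [hs, hn, Multiset.map_replicate, Multiset.prod_replicate] at h2
  have hn2 : n = 1 := by
    have : n = 0 ∨ n = 1 ∨ n = 2 := by omega
    rcases this with rfl | rfl | rfl
    · exact absurd h2 (by decide)
    · rfl
    · exact absurd h2 (by decide)
  subst hn2
  rw [isConj_iff_cycleType_eq, hn]
  have ho' : orderOf t0 = 2 := orderOf_eq_prime (by decide) (by decide)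
  obtain ⟨m, hm⟩ := cycleType_prime_order (σ := t0) (by rw [ho']; exact Nat.prime_two)
  rw [ho'] at hm
  have h3 : t0.cycleType.sum = 4 := by
    rw [sum_cycleType]
    decide
  rw [hm, Multiset.sum_replicate, smul_eq_mul] at h3
  have : m = 1 := by omega
  rw [hm, this]

/-- the element of order 3 attached to an involution of `A₇` -/
theorem exists_three {t : alternatingGroup (Fin 7)} (ht : t ^ 2 = 1) (ht1 : t ≠ 1) :
    ∃ c : alternatingGroup (Fin 7), c ≠ 1 ∧ c ^ 3 = 1 ∧ c * t = t * c ∧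
      ∀ b : alternatingGroup (Fin 7), b * t = t * b → (b * c * b⁻¹ * c⁻¹) ^ 3 = 1 := by
  obtain ⟨g, hg⟩ := isConj_iff.1 (isConj_t0 (t := (t : Perm (Fin 7))) (by exact_mod_cast ht)
    (fun h => ht1 (Subtype.ext h)) (mem_alternatingGroup.1 t.2))
  have hs : sign (g * c0 * g⁻¹) = 1 := by
    rw [Perm.sign_mul, Perm.sign_mul, Perm.sign_inv, mul_right_comm, Int.units_mul_self, one_mul]
    decide
  refine ⟨⟨g * c0 * g⁻¹, mem_alternatingGroup.2 hs⟩, ?_, ?_, ?_, ?_⟩
  · intro h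
    have h1 : g * c0 * g⁻¹ = 1 := congrArg Subtype.val h
    exact c0_ne (conj_eq_one_iff.1 h1)
  · apply Subtype.ext
    show (g * c0 * g⁻¹) ^ 3 = 1
    rw [conj_pow, c0_pow, mul_one, mul_inv_cancel]
  · apply Subtype.ext
    show g * c0 * g⁻¹ * (t : Perm (Fin 7)) = (t : Perm (Fin 7)) * (g * c0 * g⁻¹)
    rw [← hg]
    have e1 : g * c0 * g⁻¹ * (g * t0 * g⁻¹) = g * (c0 * t0) * g⁻¹ := by group
    have e2 : g * t0 * g⁻¹ * (g * c0 * g⁻¹) = g * (t0 * c0) * g⁻¹ := by group
    rw [e1, e2, c0_t0]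
  · intro b hb
    have hb' : (b : Perm (Fin 7)) * t = t * b := congrArg Subtype.val hb
    rw [← hg] at hb'
    have h1 : g⁻¹ * b * g * t0 = t0 * (g⁻¹ * b * g) := by
      have e1 : g⁻¹ * (b : Perm (Fin 7)) * g * t0 = g⁻¹ * (b * (g * t0 * g⁻¹)) * g := by group
      have e2 : t0 * (g⁻¹ * (b : Perm (Fin 7)) * g) = g⁻¹ * (g * t0 * g⁻¹ * b) * g := by group
      rw [e1, e2, hb']
    have h2 := key3 _ h1
    apply Subtype.ext
    show ((b : Perm (Fin 7)) * (g * c0 * g⁻¹) * (b : Perm (Fin 7))⁻¹ * (g * c0 * g⁻¹)⁻¹) ^ 3 = 1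
    have e3 : (b : Perm (Fin 7)) * (g * c0 * g⁻¹) * (b : Perm (Fin 7))⁻¹ * (g * c0 * g⁻¹)⁻¹ =
        g * (g⁻¹ * b * g * c0 * (g⁻¹ * b * g)⁻¹ * c0⁻¹) * g⁻¹ := by group
    rw [e3, conj_pow, h2, mul_one, mul_inv_cancel]

end Cfsg.Agent.H257.LargeAltSeven
end

-- part: S2978
section
set_option autoImplicit false
open Cfsg

namespace Cfsg.Agent.S2978

open Subgroup Cfsg.Agent.H229 Cfsg.Agent.H257.LargeAb Cfsg.Agent.H257.LargeAltSeven

/-- all involutions of a Sylow `2`-subgroup are central in it -/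
def CS (L : Type*) [Group L] : Prop :=
  ∀ P : Sylow 2 L, ∀ x ∈ (P : Subgroup L), ∀ y ∈ (P : Subgroup L), x * x = 1 → x * y = y * x

variable {G : Type*} [Group G] [Finite G] {S : Sylow 2 G} {Q R M : Subgroup G}

theorem false_of_cs (c : Cfg S Q R) (hM : M.Normal) (hB : AbLarge.om Q ≤ M) {L : Type*} [Group L]
    (e : ↥M ≃* L) (h : CS L) : False := by
  have := Fact.mk Nat.prime_two
  have : Finite L := Finite.of_equiv _ e.toEquiv
  refine c.false_of_central hM hB ?_
  obtain ⟨P, hP⟩ := S0542.result 2 M hM.isSubnormal S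
  have hs : Function.Surjective e.toMonoidHom := e.surjective
  have hcoe : ((P.mapSurjective hs : Sylow 2 L) : Subgroup L) = (P : Subgroup ↥M).map e.toMonoidHom :=
    Sylow.coe_mapSurjective hs P
  have hmem : ∀ z (hz : z ∈ (S : Subgroup G) ⊓ M), e ⟨z, hz.2⟩ ∈ ((P.mapSurjective hs : Sylow 2 L) : Subgroup L) := by
    intro z hz
    rw [hcoe]
    exact ⟨⟨z, hz.2⟩, by rw [hP]; exact mem_subgroupOf.2 hz.1, rfl⟩
  intro x hx y hy hxx
  have h1 := h _ _ (hmem x hx) _ (hmem y hy) (by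
    rw [← map_mul]
    have : (⟨x, hx.2⟩ * ⟨x, hx.2⟩ : ↥M) = 1 := Subtype.ext hxx
    rw [this, map_one])
  rw [← map_mul, ← map_mul] at h1
  exact congrArg Subtype.val (e.injective h1)

theorem cs_psl {F : Type} [Field F] [Fintype F] [CharP F 2] :
    CS (Matrix.ProjectiveSpecialLinearGroup (Fin 2) F) := by
  intro P x hx y hy _
  have := Cfsg.Agent.Classification.PSLTwoEvenSylow.sylow_comm (MulEquiv.refl _) P
  exact congrArg Subtype.val (this.is_comm.comm (⟨x, hx⟩ : ↥(P : Subgroup _)) ⟨y, hy⟩)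

theorem cs_of_ty {L : Type*} [Group L] {q n : ℕ} (h : ∀ P : Sylow 2 L, TypeU3Sz.Main.Ty ↥(P : Subgroup L) q n) :
    CS L := by
  intro P x hx y hy hxx
  exact congrArg Subtype.val ((h P).comm ⟨x, hx⟩ ⟨y, hy⟩ (Subtype.ext hxx))

theorem false_seven (c : Cfg S Q R) (hB : AbLarge.om Q ≤ M) (e : ↥M ≃* alternatingGroup (Fin 7)) : False := by
  obtain ⟨t, ht⟩ := Subgroup.ne_bot_iff_exists_ne_one.1 c.ab.om_ne_bot
  have htG : (t : G) ≠ 1 := fun h => ht (Subtype.ext h)
  have htQ := c.ab.mem_om.1 t.2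
  have htM : (t : G) ∈ M := hB t.2
  obtain ⟨c', hc1, hc3, hct, hb⟩ := exists_three (t := e ⟨t, htM⟩)
    (by rw [← map_pow]; have : (⟨(t : G), htM⟩ : ↥M) ^ 2 = 1 := Subtype.ext htQ.2; rw [this, map_one])
    (fun h => htG (congrArg Subtype.val (e.injective (h.trans (map_one e).symm))))
  obtain ⟨x, rfl⟩ := e.surjective c'
  have hx1 : (x : G) ≠ 1 := fun h => hc1 (by rw [show x = 1 from Subtype.ext h, map_one])
  have hx3 : (x : G) ^ 3 = 1 := by
    rw [← map_pow, ← map_one e] at hc3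
    exact congrArg Subtype.val (e.injective hc3)
  have hxt : (x : G) * t = t * x := by
    rw [← map_mul, ← map_mul] at hct
    exact congrArg Subtype.val (e.injective hct)
  have hxN : (x : G) ∈ normalizer (AbLarge.om Q : Set G) := by
    rw [c.ab.norm_om]
    exact c.ab.cent_elt htQ.1 htG hxt
  have hxc : (x : G) ∈ centralizer (AbLarge.om Q : Set G) := by
    rw [mem_centralizer_iff]
    intro b hbB
    have hbM : b ∈ M := hB hbB
    have hbt : b * t = t * b := ea_comm c.ab.om_ea hbB t.2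
    have h1 := hb (e ⟨b, hbM⟩) (by
      rw [← map_mul, ← map_mul]
      exact congrArg e (Subtype.ext hbt))
    rw [← map_inv, ← map_inv, ← map_mul, ← map_mul, ← map_mul, ← map_pow, ← map_one e] at h1
    have h2 : (b * x * b⁻¹ * (x : G)⁻¹) ^ 3 = 1 := congrArg Subtype.val (e.injective h1)
    have h3 : b * x * b⁻¹ * (x : G)⁻¹ ∈ AbLarge.om Q := by
      have e1 : b * x * b⁻¹ * (x : G)⁻¹ = b * ((x : G) * b⁻¹ * (x : G)⁻¹) := by group
      rw [e1]
      exact mul_mem hbB (le_norm_iff.1 le_rfl _ hxN _ (inv_mem hbB))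
    have h4 := (c.ab.mem_om.1 h3).2
    have h5 : b * x * b⁻¹ * (x : G)⁻¹ = 1 := by
      rw [pow_succ, h4, one_mul] at h2
      exact h2
    have h6 : b * x * b⁻¹ = x := mul_inv_eq_one.1 h5
    exact mul_inv_eq_iff_eq_mul.1 h6
  rw [c.ab.cent_om] at hxc
  apply hx1
  apply c.ab.odd_eq_one hxc
  have : orderOf (x : G) ∣ 3 := orderOf_dvd_of_pow_eq_one hx3
  exact Nat.Coprime.coprime_dvd_left this (by norm_num)

/-- The possible isomorphism types of the normal closure. -/
theorem iso_type (c : Cfg S Q R) :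
    (∃ (F : Type) (_ : Field F) (_ : Fintype F) (_ : CharP F 2) (n : ℕ), 3 ≤ n ∧
        Nonempty (↥(Subgroup.normalClosure (AbLarge.om Q : Set G)) ≃* Matrix.ProjectiveSpecialLinearGroup (Fin n) F)) ∨
      Cfsg.Spor.IsoM22 ↥(Subgroup.normalClosure (AbLarge.om Q : Set G)) ∨
      Cfsg.Spor.IsoM23 ↥(Subgroup.normalClosure (AbLarge.om Q : Set G)) ∨
      Cfsg.Spor.IsoM24 ↥(Subgroup.normalClosure (AbLarge.om Q : Set G)) ∨
      Nonempty (↥(Subgroup.normalClosure (AbLarge.om Q : Set G)) ≃* alternatingGroup (Fin 6)) ∨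
      Nonempty (↥(Subgroup.normalClosure (AbLarge.om Q : Set G)) ≃* alternatingGroup (Fin 9)) := by
  obtain ⟨N, hN, hNea, h⟩ := S1764.result (AbLarge.om Q) c.ab.om_ea c.ab.om_ti c.ab.om_wc
  have hMn : (Subgroup.normalClosure (AbLarge.om Q : Set G)).Normal := inferInstance
  have hB : AbLarge.om Q ≤ Subgroup.normalClosure (AbLarge.om Q : Set G) := Subgroup.le_normalClosure
  have hcent := c.cent_bot hMn hB
  generalize hM : Subgroup.normalClosure (AbLarge.om Q : Set G) = M at *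
  clear hM
  have hnc : ∀ x : G, (∀ y ∈ M, x * y = y * x) → x = 1 := by
    intro x hx
    have : x ∈ centralizer (M : Set G) := by
      rw [mem_centralizer_iff]
      exact fun y hy => (hx y hy).symm
    rw [hcent] at this
    exact mem_bot.1 this
  -- `N = 1`
  have hNbot : N = ⊥ := by
    have h1 : N ≤ pCore 2 ↥M := Lib.Cores.le_pCore hN (ea_isPGroup hNea)
    have h2 := Lib.Cores.map_subtype_pCore 2 hMn
    rw [c.two_bot (Lib.Cores.pCore_normal 2) (Lib.Cores.pCore_isPGroup 2), inf_bot_eq,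
      Subgroup.map_eq_bot_iff_of_injective _ M.subtype_injective] at h2
    rw [h2] at h1
    exact le_bot_iff.1 h1
  have h := h hN
  subst hNbot
  let e0 : (↥M ⧸ (⊥ : Subgroup ↥M)) ≃* ↥M := QuotientGroup.quotientBot
  rcases h with h | ⟨Z, hZ, h⟩
  · exfalso
    have ho : oddCore (↥M ⧸ (⊥ : Subgroup ↥M)) = ⊥ := by
      have h1 := Lib.Cores.map_equiv_pPrimeCore e0 2
      have h2 := Lib.Cores.map_subtype_pPrimeCore 2 hMn
      rw [c.odd_bot (Lib.Cores.pPrimeCore_normal 2) (Lib.Cores.pPrimeCore_coprime 2), inf_bot_eq,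
        Subgroup.map_eq_bot_iff_of_injective _ M.subtype_injective] at h2
      rw [h2] at h1
      exact (Subgroup.map_eq_bot_iff_of_injective _ e0.injective).1 h1
    obtain ⟨t, ht⟩ := Subgroup.ne_bot_iff_exists_ne_one.1 c.ab.om_ne_bot
    have htG : (t : G) ≠ 1 := fun h => ht (Subtype.ext h)
    apply htG
    apply hnc
    intro y hy
    have h1 := h.is_comm.comm (QuotientGroup.mk (e0.symm ⟨t, hB t.2⟩)) (QuotientGroup.mk (e0.symm ⟨y, hy⟩))
    rw [← QuotientGroup.mk_mul, ← QuotientGroup.mk_mul, QuotientGroup.eq, ho, mem_bot, inv_mul_eq_one,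
      ← map_mul, ← map_mul] at h1
    exact congrArg Subtype.val (e0.symm.injective h1)
  · have hZbot : Z = ⊥ := by
      rw [eq_bot_iff]
      intro z hz
      have h1 := hZ hz
      rw [mem_center_iff] at h1
      have h2 : ((e0 z : ↥M) : G) = 1 := by
        apply hnc
        intro y hy
        have h3 := h1 (e0.symm ⟨y, hy⟩)
        have h4 := congrArg e0 h3
        rw [map_mul, map_mul, MulEquiv.apply_symm_apply] at h4
        exact (congrArg Subtype.val h4).symm
      rw [mem_bot]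
      have h3 : e0 z = e0 1 := by rw [map_one]; exact Subtype.ext h2
      exact e0.injective h3
    subst hZbot
    have h := h inferInstance
    let e1 : ↥M ≃* ((↥M ⧸ (⊥ : Subgroup ↥M)) ⧸ (⊥ : Subgroup (↥M ⧸ (⊥ : Subgroup ↥M)))) :=
      e0.symm.trans (QuotientGroup.quotientBot).symm
    rcases h with ⟨F, hF1, hF2, n, hch, hn, ⟨e⟩⟩ | ⟨F, hF1, hF2, m, hm, hF, ⟨e⟩⟩ | ⟨F, hF1, hF2, m, hF, ⟨e⟩⟩ |
      ⟨k, hk6, hk9, ⟨e⟩⟩ | ⟨⟨e⟩⟩ | ⟨⟨e⟩⟩ | ⟨⟨e⟩⟩
    · have hcp : CharP F 2 := hch ▸ ringChar.charP F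
      rcases Nat.lt_or_ge 2 n with h2 | h2
      · exact Or.inl ⟨F, hF1, hF2, hcp, n, h2, ⟨e1.trans e⟩⟩
      · have : n = 2 := le_antisymm h2 hn
        subst this
        exact (false_of_cs c hMn hB (e1.trans e) cs_psl).elim
    · exact (false_of_cs c hMn hB (e1.trans e) (cs_of_ty (TypeU3Sz.Main.ty_sz hm hF))).elim
    · exfalso
      rcases Nat.eq_zero_or_pos m with rfl | hm
      · rw [pow_zero] at hF
        have := Fintype.one_lt_card (α := F)
        omega
      · refine false_of_cs c hMn hB (e1.trans e) (cs_of_ty (TypeU3Sz.Main.ty_psu hm ?_))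
        rw [Nat.card_eq_fintype_card, hF, ← pow_mul, mul_comm m 2, pow_mul]
        norm_num
    · have : k = 6 ∨ k = 7 ∨ k = 8 ∨ k = 9 := by omega
      rcases this with rfl | rfl | rfl | rfl
      · exact Or.inr (Or.inr (Or.inr (Or.inr (Or.inl ⟨e1.trans e⟩))))
      · exact (false_seven c hB (e1.trans e)).elim
      · obtain ⟨e8⟩ := S0256.result (F := ZMod 2) (ZMod.card 2)
        exact Or.inl ⟨ZMod 2, inferInstance, inferInstance, inferInstance, 4, by norm_num,
          ⟨(e1.trans e).trans e8.symm⟩⟩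
      · exact Or.inr (Or.inr (Or.inr (Or.inr (Or.inr ⟨e1.trans e⟩))))
    · exact Or.inr (Or.inl ⟨e1.trans e⟩)
    · exact Or.inr (Or.inr (Or.inl ⟨e1.trans e⟩))
    · exact Or.inr (Or.inr (Or.inr (Or.inl ⟨e1.trans e⟩)))

/-- the generalized Fitting subgroup is the normal closure if that is simple -/
theorem fstar_eq (c : Cfg S Q R) (hM : M.Normal) (hB : AbLarge.om Q ≤ M) (hs : IsSimpleGroup ↥M) :
    generalizedFittingSubgroup G = M := by
  have hcent := c.cent_bot hM hB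
  refine Cfsg.Agent.FixBN.BTheorem.genFitting_eq hM hs ?_ hcent
  intro hc
  obtain ⟨t, ht⟩ := Subgroup.ne_bot_iff_exists_ne_one.1 c.ab.om_ne_bot
  apply ht
  apply Subtype.ext
  have : (t : G) ∈ centralizer (M : Set G) := by
    rw [mem_centralizer_iff]
    intro y hy
    exact congrArg Subtype.val (hc.is_comm.comm ⟨y, hy⟩ ⟨t, hB t.2⟩)
  rw [hcent] at this
  exact mem_bot.1 this

theorem simple_of (c : Cfg S Q R) : IsSimpleGroup ↥(Subgroup.normalClosure (AbLarge.om Q : Set G)) := by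
  rcases iso_type c with ⟨F, _, _, _, n, hn, ⟨e⟩⟩ | ⟨⟨e⟩⟩ | ⟨⟨e⟩⟩ | ⟨⟨e⟩⟩ | ⟨⟨e⟩⟩ | ⟨⟨e⟩⟩
  · exact (MulEquiv.isSimpleGroup_congr e).2 (S0249.result n hn)
  · exact (MulEquiv.isSimpleGroup_congr e).2 Cfsg.Agent.SporadicA.MathieuRecog.simple_M22
  · exact (MulEquiv.isSimpleGroup_congr e).2 S2037.simple
  · exact (MulEquiv.isSimpleGroup_congr e).2 S0365.result
  · exact (MulEquiv.isSimpleGroup_congr e).2 (alternatingGroup.isSimpleGroup (by simp))
  · exact (MulEquiv.isSimpleGroup_congr e).2 (alternatingGroup.isSimpleGroup (by simp))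

/-- Let G be a finite group all of whose 2-local subgroups have only known non-abelian simple sections, S a Sylow 2-subgroup of G, and Q ≤ S an abelian large subgroup of G, that is C_G(Q) ≤ Q and N_G(U) ≤ N_G(Q) for every nontrivial subgroup U of C_G(Q), with Q = O₂(N_G(Q)). Suppose that some 2-local subgroup of G containing S is not contained in N_G(Q). Then the generalized Fitting subgroup F*(G) is isomorphic to PSLₙ over a finite field of characteristic 2 with n ≥ 3, to one of the Mathieu groups of degree 22, 23 or 24, or to the alternating group of degree 6 or 9. -/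
theorem result {G : Type*} [Group G] [Finite G] (hK : Cfsg.IsKpGroup 2 G) (S : Sylow 2 G) (Q : Subgroup G) (hQS : Q ≤ (S : Subgroup G)) (hQab : IsMulCommutative ↥Q) (hlarge : Cfsg.IsLarge Q) (hQb : Q = Cfsg.largeBullet 2 Q) (hnotuniq : ∃ R : Subgroup G, IsPGroup 2 ↥R ∧ R ≠ ⊥ ∧ (S : Subgroup G) ≤ Subgroup.normalizer (R : Set G) ∧ ¬ Subgroup.normalizer (R : Set G) ≤ Subgroup.normalizer (Q : Set G)) : (∃ (F : Type) (_ : Field F) (_ : Fintype F) (_ : CharP F 2) (n : ℕ), 3 ≤ n ∧ Nonempty (↥(Cfsg.generalizedFittingSubgroup G) ≃* Matrix.ProjectiveSpecialLinearGroup (Fin n) F)) ∨ Cfsg.Spor.IsoM22 ↥(Cfsg.generalizedFittingSubgroup G) ∨ Cfsg.Spor.IsoM23 ↥(Cfsg.generalizedFittingSubgroup G) ∨ Cfsg.Spor.IsoM24 ↥(Cfsg.generalizedFittingSubgroup G) ∨ Nonempty (↥(Cfsg.generalizedFittingSubgroup G) ≃* alternatingGroup (Fin 6)) ∨ Nonempty (↥(Cfsg.generalizedFittingSubgroup G) ≃* alternatingGroup (Fin 9)) := by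
  obtain ⟨R, hRp, hR1, hSR, hnR⟩ := hnotuniq
  have hQ1 : Q ≠ ⊥ := by
    rintro rfl
    apply hR1
    rw [eq_bot_iff]
    refine le_trans ?_ hlarge.1
    intro x _
    rw [mem_centralizer_iff]
    intro y hy
    have : y = 1 := hy
    subst this
    simp
  have c : Cfg S Q R :=
    { ab :=
      { large := ⟨S.2.to_le hQS, hQ1, hlarge⟩
        comm := fun a ha b hb => congrArg Subtype.val (hQab.is_comm.comm (⟨a, ha⟩ : ↥Q) ⟨b, hb⟩)
        core := hQb }
      QS := hQS, Rp := hRp, R1 := hR1, SR := hSR, nR := hnR }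
  rw [fstar_eq c inferInstance Subgroup.le_normalClosure (simple_of c)]
  exact iso_type c

end Cfsg.Agent.S2978
end
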