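import Mathlib
import Cfsg.Agent.PLocal.Huppert
import Cfsg.Prelude.Def_CaseTheorems
import Cfsg.Agent.S0112
import Cfsg.Agent.S0126
import Cfsg.Agent.Transfer.TausskyTwoGroup
import Cfsg.Agent.OddOrderLocal.Metacyclic
import Cfsg.Statements.S3888
set_option linter.all false

-- part: H472/PCentral
section
/-!
# `p`-central groups, `p` odd

`PC p C` : every element of order dividing `p` of `C` is central.
* `comm_pow` : if `d ^ (p ^ 2) = 1` then all commutators `[d, g]` have order dividing `p` (Buckley);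
* `mul_pow_left`, `mul_pow_right` : `(a * b) ^ p = a ^ p * b ^ p` if `a ^ (p ^ 2) = 1` or `b ^ (p ^ 2) = 1`;
* `index_le` : `|C : T| ≤ |Ω₁(C)|` for every normal subgroup `T` with `C / T` of exponent `p` (Laffey);
* `isMetacyclic` : a `p`-central `p`-group with `|Ω₁(C)| ≤ p ^ 2` is metacyclic.
-/

set_option autoImplicit false

namespace Cfsg.Agent.H472.PCentral

universe u

variable {p : ℕ} [hpf : Fact p.Prime]

/-- Every element of order dividing `p` is central. -/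
def PC (p : ℕ) (C : Type*) [Group C] : Prop := ∀ c : C, c ^ p = 1 → ∀ g : C, c * g = g * c

theorem pow_mul_of_central (hp : p ≠ 2) {C : Type*} [Group C] {x y c : C}
    (hc : ∀ g, c * g = g * c) (h : y * x = x * y * c) (hcp : c ^ p = 1) :
    (x * y) ^ p = x ^ p * y ^ p := by
  rw [Cfsg.Agent.PLocal.Huppert.mul_pow_central hc h p]
  have hpp : p.Prime := hpf.out
  have hp2 : 2 < p := lt_of_le_of_ne hpp.two_le (Ne.symm hp)
  obtain ⟨m, hm⟩ := hpp.dvd_choose_self (k := 2) (by norm_num) hp2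
  rw [hm, pow_mul, hcp, one_pow, mul_one]

section

variable {C : Type u} [Group C] [Finite C]

theorem comm_pow_aux (hp : p ≠ 2) (hC : IsPGroup p C) (h : PC p C) (n : ℕ) :
    ∀ H : Subgroup C, Nat.card H = n → ∀ d ∈ H, d ^ (p ^ 2) = 1 → ∀ g ∈ H,
      (d⁻¹ * g⁻¹ * d * g) ^ p = 1 := by
  induction n using Nat.strong_induction_on with
  | _ n ih =>
    intro H hH d hd hd2 g hg
    have hdp : (d ^ p) ^ p = 1 := by rw [← pow_mul, ← sq]; exact hd2
    by_cases htop : (Subgroup.zpowers (⟨d, hd⟩ : ↥H)) = ⊤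
    · -- `H` is cyclic
      have : (⟨g, hg⟩ : ↥H) ∈ Subgroup.zpowers (⟨d, hd⟩ : ↥H) := htop ▸ Subgroup.mem_top _
      obtain ⟨i, hi⟩ := this
      have hi' : d ^ i = g := congrArg Subtype.val hi
      have : d⁻¹ * g⁻¹ * d * g = 1 := by rw [← hi']; group
      rw [this, one_pow]
    · have hHp : IsPGroup p ↥H := hC.to_subgroup H
      have hHn : Group.IsNilpotent ↥H := hHp.isNilpotent
      obtain ⟨M, hM, hdM⟩ := (eq_top_or_exists_le_coatom (Subgroup.zpowers (⟨d, hd⟩ : ↥H))).resolve_left htop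
      have hMn : M.Normal := Subgroup.NormalizerCondition.normal_of_coatom M
        (Group.normalizerCondition_of_isNilpotent) hM
      have hdM' : (⟨d, hd⟩ : ↥H) ∈ M := hdM (Subgroup.mem_zpowers _)
      have hcard : Nat.card (M.map H.subtype) < n := by
        rw [← hH, Subgroup.card_map_of_injective H.subtype_injective]
        have h1 := M.card_mul_index
        have h2 : M.index ≠ 1 := by
          rw [Ne, Subgroup.index_eq_one]; exact hM.1
        have h3 : M.index ≠ 0 := Subgroup.index_ne_zero_of_finite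
        have h4 : 0 < Nat.card M := Nat.card_pos
        rw [← h1]
        have h5 : 1 < M.index := by omega
        nlinarith
      have hb : g⁻¹ * d * g ∈ M.map H.subtype := by
        refine ⟨⟨g, hg⟩⁻¹ * ⟨d, hd⟩ * ⟨g, hg⟩, ?_, by simp⟩
        simpa using hMn.conj_mem _ hdM' (⟨g, hg⟩⁻¹)
      have ha : d⁻¹ ∈ M.map H.subtype := Subgroup.inv_mem _ ⟨_, hdM', rfl⟩
      have hb2 : (g⁻¹ * d * g) ^ (p ^ 2) = 1 := by
        have := conj_pow (a := g⁻¹) (b := d) (i := p ^ 2)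
        rw [inv_inv] at this
        rw [this, hd2]; group
      have hz := ih _ hcard (M.map H.subtype) rfl _ hb hb2 _ ha
      have hbp : (g⁻¹ * d * g) ^ p = d ^ p := by
        have := conj_pow (a := g⁻¹) (b := d) (i := p)
        rw [inv_inv] at this
        rw [this, mul_assoc, h _ hdp g]; group
      have key := pow_mul_of_central hp (x := d⁻¹) (y := g⁻¹ * d * g)
        (c := (g⁻¹ * d * g)⁻¹ * (d⁻¹)⁻¹ * (g⁻¹ * d * g) * d⁻¹) (h _ hz) (by group) hz
      have h6 : d⁻¹ * g⁻¹ * d * g = d⁻¹ * (g⁻¹ * d * g) := by group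
      rw [h6, key, hbp, inv_pow]
      group

/-- (Buckley) -/
theorem comm_pow (hp : p ≠ 2) (hC : IsPGroup p C) (h : PC p C) {d : C} (hd : d ^ (p ^ 2) = 1)
    (g : C) : (d⁻¹ * g⁻¹ * d * g) ^ p = 1 :=
  comm_pow_aux hp hC h _ ⊤ rfl d (Subgroup.mem_top _) hd g (Subgroup.mem_top _)

theorem mul_pow_right (hp : p ≠ 2) (hC : IsPGroup p C) (h : PC p C) {a b : C}
    (hb : b ^ (p ^ 2) = 1) : (a * b) ^ p = a ^ p * b ^ p := by
  have hz := comm_pow hp hC h hb a
  exact pow_mul_of_central hp (c := b⁻¹ * a⁻¹ * b * a) (h _ hz) (by group) hz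

theorem mul_pow_left (hp : p ≠ 2) (hC : IsPGroup p C) (h : PC p C) {a b : C}
    (ha : a ^ (p ^ 2) = 1) : (a * b) ^ p = a ^ p * b ^ p := by
  have hz : (b⁻¹ * a⁻¹ * b * a) ^ p = 1 := by
    have h1 := comm_pow hp hC h ha b
    have h2 : b⁻¹ * a⁻¹ * b * a = (a⁻¹ * b⁻¹ * a * b)⁻¹ := by group
    rw [h2, inv_pow, h1, inv_one]
  exact pow_mul_of_central hp (c := b⁻¹ * a⁻¹ * b * a) (h _ hz) (by group) hz

/-- The subgroup of the elements of order dividing `p`. -/
def om {C : Type*} [Group C] (h : PC p C) : Subgroup C where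
  carrier := {c | c ^ p = 1}
  one_mem' := one_pow p
  mul_mem' := by
    intro a b ha hb
    have : Commute a b := h a ha b
    simp only [Set.mem_ofPred_eq] at ha hb ⊢
    rw [this.mul_pow, ha, hb, mul_one]
  inv_mem' := by
    intro a ha
    simp only [Set.mem_ofPred_eq] at ha ⊢
    rw [inv_pow, ha, inv_one]

omit hpf in
theorem mem_om {C : Type*} [Group C] {h : PC p C} {c : C} : c ∈ om h ↔ c ^ p = 1 := Iff.rfl

omit hpf in
theorem om_le_center {C : Type*} [Group C] (h : PC p C) : om h ≤ Subgroup.center C := by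
  intro c hc
  rw [Subgroup.mem_center_iff]
  exact fun g => (h c hc g).symm

omit hpf in
theorem om_normal {C : Type*} [Group C] (h : PC p C) : (om h).Normal :=
  ⟨fun n hn g => by
    have h1 : g * n * g⁻¹ = n := by rw [← h n hn g]; group
    rw [h1]; exact hn⟩

theorem quotient_pc (hp : p ≠ 2) (hC : IsPGroup p C) (h : PC p C) (E : Subgroup C) [E.Normal]
    (hE : E = om h) : PC p (C ⧸ E) := by
  intro x hx g
  obtain ⟨x, rfl⟩ := QuotientGroup.mk_surjective x
  obtain ⟨g, rfl⟩ := QuotientGroup.mk_surjective g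
  have h1 : x ^ p ∈ E := by rwa [← QuotientGroup.mk_pow, QuotientGroup.eq_one_iff] at hx
  rw [hE, mem_om, ← pow_mul, ← sq] at h1
  have h2 := comm_pow hp hC h h1 g
  rw [← QuotientGroup.mk_mul, ← QuotientGroup.mk_mul, eq_comm, QuotientGroup.eq, hE, mem_om]
  have h3 : (g * x)⁻¹ * (x * g) = x⁻¹ * g⁻¹ * x * g := by group
  rw [h3, h2]

theorem index_le_aux (hp : p ≠ 2) (n : ℕ) :
    ∀ (C : Type u) [Group C] [Finite C], Nat.card C = n → IsPGroup p C → ∀ (h : PC p C)
      (T : Subgroup C), T.Normal → (∀ c : C, c ^ p ∈ T) → T.index ≤ Nat.card (om h) := by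
  induction n using Nat.strong_induction_on with
  | _ n ih =>
    intro C _ _ hn hC h T hT hTp
    have hpp : p.Prime := hpf.out
    by_cases htriv : om h = ⊥
    · -- then `C` is trivial
      have : Subsingleton C := by
        by_contra hns
        rw [not_subsingleton_iff_nontrivial] at hns
        obtain ⟨k, hk, hcard⟩ := hC.nontrivial_iff_card.1 hns
        obtain ⟨x, hx⟩ := exists_prime_orderOf_dvd_card' (G := C) p
          (by rw [hcard]; exact dvd_pow_self p hk.ne')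
        have hx1 : x ∈ om h := by rw [mem_om, ← hx, pow_orderOf_eq_one]
        rw [htriv, Subgroup.mem_bot] at hx1
        rw [hx1, orderOf_one] at hx
        exact hpp.one_lt.ne hx
      have h1 : T = ⊤ := Subsingleton.elim _ _
      rw [h1, Subgroup.index_top]
      exact Nat.card_pos
    have hEn : (om h).Normal := om_normal h
    set E : Subgroup C := om h with hE
    have hq : PC p (C ⧸ E) := quotient_pc hp hC h E rfl
    have hlt : Nat.card (C ⧸ E) < n := by
      have h1 := E.card_eq_card_quotient_mul_card_subgroup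
      have h2 : Nat.card E ≠ 1 := fun h2 => htriv (Subgroup.eq_bot_of_card_eq _ h2)
      have h3 : 0 < Nat.card E := Nat.card_pos
      have h4 : 0 < Nat.card (C ⧸ E) := Nat.card_pos
      rw [hn] at h1
      rw [h1]
      have h5 : 1 < Nat.card E := by omega
      nlinarith
    have key := ih _ hlt (C ⧸ E) rfl (hC.to_quotient E) hq (T.map (QuotientGroup.mk' E))
      (hT.map _ (QuotientGroup.mk'_surjective E)) (by
        intro c
        obtain ⟨c, rfl⟩ := QuotientGroup.mk_surjective c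
        exact ⟨c ^ p, hTp c, rfl⟩)
    -- the elements of order `p` of the quotient
    have hom : Nat.card (om hq) ≤ Nat.card ↥(T ⊓ E) := by
      have hlift : ∀ x : om hq, ∃ c : C, (QuotientGroup.mk c : C ⧸ E) = x ∧ c ^ (p ^ 2) = 1 := by
        rintro ⟨x, hx⟩
        obtain ⟨c, rfl⟩ := QuotientGroup.mk_surjective x
        refine ⟨c, rfl, ?_⟩
        rw [mem_om, ← QuotientGroup.mk_pow, QuotientGroup.eq_one_iff, hE, mem_om, ← pow_mul,
          ← sq] at hx
        exact hx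
      choose f hf1 hf2 using hlift
      have hfE : ∀ x, f x ^ p ∈ E := fun x => by
        rw [hE, mem_om, ← pow_mul, ← sq]; exact hf2 x
      let F : om hq → ↥(T ⊓ E) := fun x => ⟨f x ^ p, hTp _, hfE x⟩
      apply Nat.card_le_card_of_injective F
      intro x y hxy
      have h1 : f x ^ p = f y ^ p := congrArg Subtype.val hxy
      apply Subtype.ext
      rw [← hf1 x, ← hf1 y, QuotientGroup.eq, hE, mem_om, mul_pow_right hp hC h (hf2 y), inv_pow, h1]
      group
    -- counting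
    have h1 : (T.map (QuotientGroup.mk' E)).index = (T ⊔ E).index := by
      rw [Subgroup.index_map, QuotientGroup.ker_mk', QuotientGroup.range_mk', Subgroup.index_top,
        mul_one]
    have h2 : T.relIndex (T ⊔ E) * (T ⊔ E).index = T.index :=
      Subgroup.relIndex_mul_index le_sup_left
    have h3 : T.relIndex (T ⊔ E) = T.relIndex E := Subgroup.relIndex_sup_left E T
    have h4 : Nat.card ↥(T ⊓ E) * T.relIndex E = Nat.card E := by
      have h5 := ((T ⊓ E).subgroupOf E).card_mul_index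
      rw [← Subgroup.inf_relIndex_right]
      rw [Nat.card_congr (Subgroup.subgroupOfEquivOfLe (inf_le_right : T ⊓ E ≤ E)).toEquiv] at h5
      exact h5
    rw [← h2, h3, ← h4, mul_comm]
    apply Nat.mul_le_mul _ le_rfl
    rw [← h1]
    exact key.trans hom

/-- (Laffey) -/
theorem index_le (hp : p ≠ 2) (hC : IsPGroup p C) (h : PC p C) (T : Subgroup C) (hT : T.Normal)
    (hTp : ∀ c : C, c ^ p ∈ T) : T.index ≤ Nat.card (om h) :=
  index_le_aux hp _ C rfl hC h T hT hTp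

theorem isMetacyclic (hp : p ≠ 2) (hC : IsPGroup p C) (h : PC p C)
    (hle : Nat.card (om h) ≤ p ^ 2) : Cfsg.IsMetacyclic C :=
  Cfsg.Agent.PLocal.Huppert.isMetacyclic_of_quotients hp hC fun T hT hTp =>
    (index_le hp hC h T hT hTp).trans hle

end

end Cfsg.Agent.H472.PCentral
end

-- part: H472/RankTwo
section
/-!
# `p`-groups of rank at most two, `p` odd (Blackburn), for S3888

`Setup p G` : the situation in a non-metacyclic `p`-group of rank 2: `E` normal elementary abelian of order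
`p ^ 2`, `C = C_G(E)` of index `p`, `Ω₁(C) = E`, `Z = E ∩ Z(G)`, all `p`-th powers lie in `⟨c ^ p : c ∈ C⟩`.
-/

set_option autoImplicit false

namespace Cfsg.Agent.H472.RankTwo

open Cfsg.Agent.H472.PCentral

universe u

section Formulas

variable {G : Type u} [Group G]

/-- iterated conjugation -/
theorem conj_pow_chain {x a a1 a2 a3 : G} (h0 : x⁻¹ * a * x = a * a1)
    (h1 : x⁻¹ * a1 * x = a1 * a2) (h2 : x⁻¹ * a2 * x = a2 * a3) (h3 : x⁻¹ * a3 * x = a3)
    (c12 : Commute a1 a2) (c23 : Commute a2 a3) (k : ℕ) :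
    (x ^ k)⁻¹ * a * x ^ k = a * a1 ^ k * a2 ^ (k.choose 2) * a3 ^ (k.choose 3) := by
  induction k with
  | zero => simp
  | succ k ih =>
    have e : (x ^ (k + 1))⁻¹ * a * x ^ (k + 1) = x⁻¹ * ((x ^ k)⁻¹ * a * x ^ k) * x := by
      rw [pow_succ]; group
    have hp1 : x⁻¹ * a1 ^ k * x = a1 ^ k * a2 ^ k := by
      have : x⁻¹ * a1 ^ k * x = (x⁻¹ * a1 * x) ^ k := by
        have := conj_pow (a := x⁻¹) (b := a1) (i := k)
        rw [inv_inv] at this; exact this.symm
      rw [this, h1, c12.mul_pow]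
    have hp2 : x⁻¹ * a2 ^ (k.choose 2) * x = a2 ^ (k.choose 2) * a3 ^ (k.choose 2) := by
      have : x⁻¹ * a2 ^ (k.choose 2) * x = (x⁻¹ * a2 * x) ^ (k.choose 2) := by
        have := conj_pow (a := x⁻¹) (b := a2) (i := k.choose 2)
        rw [inv_inv] at this; exact this.symm
      rw [this, h2, c23.mul_pow]
    have hp3 : x⁻¹ * a3 ^ (k.choose 3) * x = a3 ^ (k.choose 3) := by
      have : x⁻¹ * a3 ^ (k.choose 3) * x = (x⁻¹ * a3 * x) ^ (k.choose 3) := by
        have := conj_pow (a := x⁻¹) (b := a3) (i := k.choose 3)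
        rw [inv_inv] at this; exact this.symm
      rw [this, h3]
    have hc2 : (k + 1).choose 2 = k + k.choose 2 := by
      rw [Nat.choose_succ_succ' k 1, Nat.choose_one_right]
    have hc3 : (k + 1).choose 3 = k.choose 2 + k.choose 3 := Nat.choose_succ_succ' k 2
    rw [e, ih]
    calc x⁻¹ * (a * a1 ^ k * a2 ^ (k.choose 2) * a3 ^ (k.choose 3)) * x
        = (x⁻¹ * a * x) * (x⁻¹ * a1 ^ k * x) * (x⁻¹ * a2 ^ (k.choose 2) * x) *
            (x⁻¹ * a3 ^ (k.choose 3) * x) := by group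
      _ = (a * a1) * (a1 ^ k * a2 ^ k) * (a2 ^ (k.choose 2) * a3 ^ (k.choose 2)) *
            a3 ^ (k.choose 3) := by rw [h0, hp1, hp2, hp3]
      _ = a * (a1 * a1 ^ k) * (a2 ^ k * a2 ^ (k.choose 2)) * (a3 ^ (k.choose 2) * a3 ^ (k.choose 3)) := by
            simp only [mul_assoc]
      _ = _ := by rw [← pow_succ', ← pow_add, ← pow_add, hc2, hc3]

/-- powers of a product, commutative case -/
theorem mul_pow_chain {x a a1 a2 : G} (h0 : x⁻¹ * a * x = a * a1)
    (h1 : x⁻¹ * a1 * x = a1 * a2) (h2 : x⁻¹ * a2 * x = a2)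
    (c01 : Commute a a1) (c02 : Commute a a2) (c12 : Commute a1 a2) (k : ℕ) :
    (x * a) ^ k = x ^ k * (a ^ k * a1 ^ (k.choose 2) * a2 ^ (k.choose 3)) := by
  induction k with
  | zero => simp
  | succ k ih =>
    have hp0 : a ^ k * x = x * (a ^ k * a1 ^ k) := by
      have h : (x⁻¹ * a * x) ^ k = x⁻¹ * a ^ k * x := by
        have := conj_pow (a := x⁻¹) (b := a) (i := k)
        rwa [inv_inv] at this
      rw [← c01.mul_pow, ← h0, h]; group
    have hp1 : a1 ^ (k.choose 2) * x = x * (a1 ^ (k.choose 2) * a2 ^ (k.choose 2)) := by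
      have h : (x⁻¹ * a1 * x) ^ (k.choose 2) = x⁻¹ * a1 ^ (k.choose 2) * x := by
        have := conj_pow (a := x⁻¹) (b := a1) (i := k.choose 2)
        rwa [inv_inv] at this
      rw [← c12.mul_pow, ← h1, h]; group
    have hp2 : a2 ^ (k.choose 3) * x = x * a2 ^ (k.choose 3) := by
      have h : (x⁻¹ * a2 * x) ^ (k.choose 3) = x⁻¹ * a2 ^ (k.choose 3) * x := by
        have := conj_pow (a := x⁻¹) (b := a2) (i := k.choose 3)
        rwa [inv_inv] at this
      rw [h2] at h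
      have h' : a2 ^ (k.choose 3) * x = x * (x⁻¹ * a2 ^ (k.choose 3) * x) := by group
      rw [h', ← h]
    have hc2 : (k + 1).choose 2 = k + k.choose 2 := by
      rw [Nat.choose_succ_succ' k 1, Nat.choose_one_right]
    have hc3 : (k + 1).choose 3 = k.choose 2 + k.choose 3 := Nat.choose_succ_succ' k 2
    rw [pow_succ, ih]
    calc x ^ k * (a ^ k * a1 ^ (k.choose 2) * a2 ^ (k.choose 3)) * (x * a)
        = x ^ k * (a ^ k * a1 ^ (k.choose 2) * (a2 ^ (k.choose 3) * x)) * a := by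
            simp only [mul_assoc]
      _ = x ^ k * (a ^ k * (a1 ^ (k.choose 2) * x) * a2 ^ (k.choose 3)) * a := by
            rw [hp2]; simp only [mul_assoc]
      _ = x ^ k * ((a ^ k * x) * (a1 ^ (k.choose 2) * a2 ^ (k.choose 2)) * a2 ^ (k.choose 3)) * a := by
            rw [hp1]; simp only [mul_assoc]
      _ = x ^ k * x * (a ^ k * a1 ^ k * (a1 ^ (k.choose 2) * a2 ^ (k.choose 2)) *
            a2 ^ (k.choose 3) * a) := by
            rw [hp0]; simp only [mul_assoc]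
      _ = x ^ (k + 1) * (a ^ k * a1 ^ k * (a1 ^ (k.choose 2) * a2 ^ (k.choose 2)) *
            a2 ^ (k.choose 3) * a) := by rw [pow_succ]
      _ = x ^ (k + 1) * (a ^ (k + 1) * a1 ^ ((k + 1).choose 2) * a2 ^ ((k + 1).choose 3)) := by
            congr 1
            rw [hc2, hc3, pow_add a1, pow_add a2, pow_succ a]
            have e1 : Commute a (a1 ^ k * (a1 ^ (k.choose 2) * a2 ^ (k.choose 2)) *
                a2 ^ (k.choose 3)) := by
              apply Commute.mul_right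
              · apply Commute.mul_right (c01.pow_right _)
                exact (c01.pow_right _).mul_right (c02.pow_right _)
              · exact c02.pow_right _
            calc a ^ k * a1 ^ k * (a1 ^ (k.choose 2) * a2 ^ (k.choose 2)) * a2 ^ (k.choose 3) * a
                = a ^ k * ((a1 ^ k * (a1 ^ (k.choose 2) * a2 ^ (k.choose 2)) *
                    a2 ^ (k.choose 3)) * a) := by simp only [mul_assoc]
              _ = a ^ k * (a * (a1 ^ k * (a1 ^ (k.choose 2) * a2 ^ (k.choose 2)) *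
                    a2 ^ (k.choose 3))) := by rw [e1.eq]
              _ = _ := by simp only [mul_assoc]

end Formulas

/-- The situation in a non-metacyclic `p`-group of rank 2, `p` odd. -/
structure Setup (p : ℕ) (G : Type u) [Group G] where
  Z : Subgroup G
  E : Subgroup G
  C : Subgroup G
  hp2 : p ≠ 2
  hG : IsPGroup p G
  hZcard : Nat.card Z = p
  hZc : ∀ z ∈ Z, ∀ g : G, z * g = g * z
  hZE : Z ≤ E
  hEn : E.Normal
  hEcard : Nat.card E = p ^ 2
  hEp : ∀ e ∈ E, e ^ p = 1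
  hEC : E ≤ C
  hCE : ∀ c ∈ C, ∀ e ∈ E, c * e = e * c
  hCn : C.Normal
  hCi : C.index = p
  hOm : ∀ c ∈ C, c ^ p = 1 → c ∈ E
  hZx : ∀ e ∈ E, ∀ g, g ∉ C → e * g = g * e → e ∈ Z
  hEx : ∀ e ∈ E, ∀ g, e⁻¹ * g⁻¹ * e * g ∈ Z
  hpow : ∀ g : G, g ^ p ∈ Subgroup.closure {y | ∃ c ∈ C, y = c ^ p}

namespace Setup

variable {p : ℕ} [hpf : Fact p.Prime] {G : Type u} [Group G] [Finite G] (s : Setup p G)

include s

omit [Finite G] hpf in
theorem pc : PC p ↥s.C := by
  intro c hc g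
  have h1 : (c : G) ^ p = 1 := congrArg Subtype.val hc
  exact Subtype.ext (s.hCE g g.2 c (s.hOm c c.2 h1)).symm

theorem comm_mem {d c : G} (hd : d ∈ s.C) (hc : c ∈ s.C) (h : d ^ (p ^ 2) = 1) :
    d⁻¹ * c⁻¹ * d * c ∈ s.E := by
  have := comm_pow s.hp2 (s.hG.to_subgroup s.C) s.pc (d := ⟨d, hd⟩) (Subtype.ext h) ⟨c, hc⟩
  refine s.hOm _ (s.C.mul_mem (s.C.mul_mem (s.C.mul_mem (s.C.inv_mem hd) (s.C.inv_mem hc)) hd) hc) ?_
  exact congrArg Subtype.val this

theorem mul_pow {a b : G} (ha : a ∈ s.C) (hb : b ∈ s.C) (h : a ^ (p ^ 2) = 1) :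
    (a * b) ^ p = a ^ p * b ^ p :=
  congrArg Subtype.val (mul_pow_left s.hp2 (s.hG.to_subgroup s.C) s.pc (a := ⟨a, ha⟩)
    (b := ⟨b, hb⟩) (Subtype.ext h))

omit hpf [Finite G] in
theorem conj_mem {g c : G} (hc : c ∈ s.C) : g⁻¹ * c * g ∈ s.C := by
  have := s.hCn.conj_mem c hc g⁻¹
  simpa using this

omit hpf [Finite G] in
theorem Z_pow {z : G} (hz : z ∈ s.Z) : z ^ p = 1 := s.hEp z (s.hZE hz)

omit hpf [Finite G] in
theorem E_pow_sq {e : G} (he : e ∈ s.E) : e ^ (p ^ 2) = 1 := by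
  rw [sq, pow_mul, s.hEp e he, one_pow]

/-- `p`-th powers centralize the elements of order dividing `p ^ 2` of `C`. -/
theorem pow_comm {a : G} (ha : a ∈ s.C) (h : a ^ (p ^ 2) = 1) (g : G) :
    a * g ^ p = g ^ p * a := by
  have h1 : Subgroup.closure {y | ∃ c ∈ s.C, y = c ^ p} ≤ Subgroup.centralizer ({a} : Set G) := by
    rw [Subgroup.closure_le]
    rintro _ ⟨c, hc, rfl⟩
    rw [SetLike.mem_coe, Subgroup.mem_centralizer_singleton_iff]
    -- `c⁻¹ * a * c = a * e`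
    have he := s.comm_mem ha hc h
    set e := a⁻¹ * c⁻¹ * a * c with hedef
    have h2 : c⁻¹ * a * c = a * e := by rw [hedef]; group
    have h3 : c⁻¹ * e * c = e * 1 := by
      rw [mul_one, mul_assoc, ← s.hCE c hc e he]; group
    have h4 := conj_pow_chain (a3 := 1) h2 h3 (by simp) (by simp) (Commute.one_right _)
      (Commute.one_right _) p
    rw [s.hEp e he, one_pow, one_pow, mul_one, mul_one, mul_one] at h4
    have h5 : a * c ^ p = c ^ p * ((c ^ p)⁻¹ * a * c ^ p) := by group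
    rw [h5, h4]
  exact ((Subgroup.mem_centralizer_singleton_iff.1 (h1 (s.hpow g)))).symm

/-- If only the elements of `Z` in `C` commute with `x`, then the class is maximal. -/
theorem class_eq {n : ℕ} (hn : Nat.card G = p ^ n) {x : G} (hx : x ∉ s.C)
    (h : ∀ b ∈ s.C, b * x = x * b → b ∈ s.Z) : Group.nilpotencyClass G = n - 1 := by
  have hpp : p.Prime := hpf.out
  set A := Subgroup.centralizer ({x} : Set G) with hA
  have hxA : x ∈ A := by rw [hA, Subgroup.mem_centralizer_singleton_iff]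
  have hinf : A ⊓ s.C = s.Z := by
    apply le_antisymm
    · rintro b ⟨hb, hbC⟩
      exact h b hbC (Subgroup.mem_centralizer_singleton_iff.1 hb)
    · intro z hz
      exact ⟨Subgroup.mem_centralizer_singleton_iff.2 (s.hZc z hz x), s.hEC (s.hZE hz)⟩
  have hle : Nat.card A ≤ p ^ 2 := by
    have h1 : s.C.relIndex A ≤ p := by
      have := s.hCn
      have h0 := Subgroup.relIndex_dvd_index_of_normal s.C A
      rw [s.hCi] at h0
      exact Nat.le_of_dvd hpp.pos h0
    have h2 := (s.C.subgroupOf A).card_mul_index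
    have h3 : Nat.card (s.C.subgroupOf A) = Nat.card s.Z := by
      rw [← Subgroup.inf_subgroupOf_right,
        Nat.card_congr (Subgroup.subgroupOfEquivOfLe (inf_le_right : s.C ⊓ A ≤ A)).toEquiv,
        inf_comm, hinf]
    rw [h3, s.hZcard] at h2
    rw [← h2, sq]
    exact Nat.mul_le_mul le_rfl h1
  have hlt : p < Nat.card A := by
    have h1 : s.Z < A := by
      refine lt_of_le_of_ne (hinf ▸ inf_le_left) ?_
      intro h2
      exact hx (s.hEC (s.hZE (h2 ▸ hxA)))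
    have h3 : Nat.card s.Z < Nat.card A := Set.ncard_lt_ncard (by exact_mod_cast h1)
    rwa [s.hZcard] at h3
  have hcard : Nat.card A = p ^ 2 :=
    le_antisymm hle (Cfsg.Agent.S0126.two_le_of_lt s.hG A hlt)
  refine Cfsg.Agent.S0112.result n hn A hcard ?_
  apply le_antisymm
  · intro g hg
    rw [hA, Subgroup.mem_centralizer_singleton_iff]
    exact (Subgroup.mem_centralizer_iff.1 hg x hxA).symm
  · intro g hg
    rw [Subgroup.mem_centralizer_iff]
    intro b hb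
    haveI := IsPGroup.isMulCommutative_of_card_eq_prime_sq (G := ↥A) (p := p) hcard
    exact setLike_mul_comm hb hg

end Setup

end Cfsg.Agent.H472.RankTwo
end

-- part: H472/RankTwoB
section
/-!
# `p`-groups of rank two, `p` odd: the case where `Ω₂(C)` is large
-/

set_option autoImplicit false

namespace Cfsg.Agent.H472.RankTwo

open Cfsg.Agent.H472.PCentral

universe u

namespace Setup

variable {p : ℕ} [hpf : Fact p.Prime] {G : Type u} [Group G] [Finite G] (s : Setup p G)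

include s

omit [Finite G] in
theorem exists_pow_eq {z w : G} (hz : z ∈ s.Z) (hz1 : z ≠ 1) (hw : w ∈ s.Z) :
    ∃ k : ℕ, w = z ^ k := by
  obtain ⟨k, hk⟩ := mem_powers_of_prime_card (G := ↥s.Z) (p := p) s.hZcard
    (g := ⟨z, hz⟩) (g' := ⟨w, hw⟩) (by intro h; exact hz1 (congrArg Subtype.val h))
  exact ⟨k, (congrArg Subtype.val hk).symm⟩

omit hpf [Finite G] in
/-- descent to elements with `p`-th power in `Z` -/
theorem mem_Z_of_step {x : G}
    (h : ∀ b ∈ s.C, b * x = x * b → b ^ p ∈ s.Z → b ∈ s.Z) :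
    ∀ b ∈ s.C, b * x = x * b → b ∈ s.Z := by
  intro b hb hbx
  obtain ⟨k, hk⟩ := s.hG b
  have key : ∀ j : ℕ, b ^ p ^ j ∈ s.Z → b ∈ s.Z := by
    intro j
    induction j with
    | zero => intro hj; simpa using hj
    | succ j ih =>
      intro hj
      apply ih
      apply h _ (s.C.pow_mem hb _)
      · exact ((show Commute b x from hbx).pow_left _).eq
      · rw [← pow_mul, ← pow_succ]; exact hj
  exact key k (by rw [hk]; exact s.Z.one_mem)

omit hpf [Finite G] in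
theorem mem_Z_of_pow_eq_one {b x : G} (hb : b ∈ s.C) (hx : x ∉ s.C) (hbx : b * x = x * b)
    (h : b ^ p = 1) : b ∈ s.Z :=
  s.hZx b (s.hOm b hb h) x hx hbx

omit s hpf [Finite G] in
theorem conj_pow_eq (x a : G) (k : ℕ) : x⁻¹ * a ^ k * x = (x⁻¹ * a * x) ^ k := by
  have := conj_pow (a := x⁻¹) (b := a) (i := k)
  rw [inv_inv] at this; exact this.symm

/-- The case where `Ω₂(C)` has order `p ^ 4`. -/
theorem large_case {a : G} (ha : a ∈ s.C) (hap : a ^ p ∈ s.E) (haZ : a ^ p ∉ s.Z) {x : G}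
    (hx : x ∉ s.C) : p = 3 ∧ ∀ b ∈ s.C, b * x = x * b → b ∈ s.Z := by
  have hpp : p.Prime := hpf.out
  have ha2 : a ^ (p ^ 2) = 1 := by rw [sq, pow_mul]; exact s.hEp _ hap
  have hax : x⁻¹ * a * x ∈ s.C := s.conj_mem ha
  set a1 := a⁻¹ * (x⁻¹ * a * x) with ha1def
  have ha1C : a1 ∈ s.C := s.C.mul_mem (s.C.inv_mem ha) hax
  have h0 : x⁻¹ * a * x = a * a1 := by rw [ha1def]; group
  have hainv2 : a⁻¹ ^ (p ^ 2) = 1 := by rw [inv_pow, ha2, inv_one]
  have ha1p : a1 ^ p = (a ^ p)⁻¹ * x⁻¹ * a ^ p * x := by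
    rw [ha1def, s.mul_pow (s.C.inv_mem ha) hax hainv2, ← conj_pow_eq, inv_pow]; group
  have ha1pZ : a1 ^ p ∈ s.Z := by rw [ha1p]; exact s.hEx _ hap x
  have ha1p1 : a1 ^ p ≠ 1 := by
    intro h
    rw [ha1p] at h
    apply haZ
    refine s.hZx _ hap x hx ?_
    have h1 : a ^ p * x = x * a ^ p * ((a ^ p)⁻¹ * x⁻¹ * a ^ p * x) := by group
    rw [h1, h, mul_one]
  have ha12 : a1 ^ (p ^ 2) = 1 := by rw [sq, pow_mul]; exact s.Z_pow ha1pZ
  have ha1x : x⁻¹ * a1 * x ∈ s.C := s.conj_mem ha1C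
  set a2 := a1⁻¹ * (x⁻¹ * a1 * x) with ha2def
  have ha2C : a2 ∈ s.C := s.C.mul_mem (s.C.inv_mem ha1C) ha1x
  have h1 : x⁻¹ * a1 * x = a1 * a2 := by rw [ha2def]; group
  have ha2p : a2 ^ p = 1 := by
    rw [ha2def, s.mul_pow (s.C.inv_mem ha1C) ha1x (by rw [inv_pow, ha12, inv_one]),
      ← conj_pow_eq, inv_pow]
    have : x⁻¹ * a1 ^ p * x = a1 ^ p := by
      rw [mul_assoc, s.hZc _ ha1pZ x]; group
    rw [this]; group
  have ha2E : a2 ∈ s.E := s.hOm _ ha2C ha2p
  set a3 := a2⁻¹ * x⁻¹ * a2 * x with ha3def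
  have ha3Z : a3 ∈ s.Z := s.hEx _ ha2E x
  have h2 : x⁻¹ * a2 * x = a2 * a3 := by rw [ha3def]; group
  have h3 : x⁻¹ * a3 * x = a3 := by rw [mul_assoc, s.hZc _ ha3Z x]; group
  have c12 : Commute a1 a2 := s.hCE _ ha1C _ ha2E
  have c23 : Commute a2 a3 := s.hCE _ ha2C _ (s.hZE ha3Z)
  have hp2 : 2 < p := lt_of_le_of_ne hpp.two_le (Ne.symm s.hp2)
  have key := conj_pow_chain h0 h1 h2 h3 c12 c23 p
  have hcomm : (x ^ p)⁻¹ * a * x ^ p = a := by
    rw [mul_assoc, s.pow_comm ha ha2 x]; group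
  rw [hcomm] at key
  have hch2 : a2 ^ (p.choose 2) = 1 := by
    obtain ⟨m, hm⟩ := hpp.dvd_choose_self (k := 2) (by norm_num) hp2
    rw [hm, pow_mul, ha2p, one_pow]
  rw [hch2, mul_one] at key
  -- key : a = a * a1 ^ p * a3 ^ (p.choose 3)
  have hp3 : p = 3 := by
    by_contra hne
    have h3p : 3 < p := by omega
    obtain ⟨m, hm⟩ := hpp.dvd_choose_self (k := 3) (by norm_num) h3p
    rw [hm, pow_mul, s.Z_pow ha3Z, one_pow, mul_one] at key
    exact ha1p1 (by simpa using key)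
  refine ⟨hp3, ?_⟩
  have ha31 : a3 ≠ 1 := by
    intro h
    rw [h, one_pow, mul_one] at key
    exact ha1p1 (by simpa using key)
  apply s.mem_Z_of_step
  intro b hb hbx hbp
  by_cases hb1 : b ^ p = 1
  · exact s.mem_Z_of_pow_eq_one hb hx hbx hb1
  exfalso
  obtain ⟨k, hk⟩ := s.exists_pow_eq hbp hb1 ha1pZ
  -- `a1 = e * b ^ k`
  have hb2 : b ^ (p ^ 2) = 1 := by rw [sq, pow_mul]; exact s.Z_pow hbp
  have heE : a1 * (b ^ k)⁻¹ ∈ s.E := by
    refine s.hOm _ (s.C.mul_mem ha1C (s.C.inv_mem (s.C.pow_mem hb k))) ?_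
    rw [s.mul_pow ha1C (s.C.inv_mem (s.C.pow_mem hb k)) ha12, hk, inv_pow, ← pow_mul, ← pow_mul,
      mul_comm p k]
    group
  have hbkx : b ^ k * x = x * b ^ k := ((show Commute b x from hbx).pow_left k).eq
  have ha2Z : a2 ∈ s.Z := by
    set e := a1 * (b ^ k)⁻¹ with he
    have e1 : a1 = e * b ^ k := by rw [he]; group
    have e2 : a2 = (b ^ k)⁻¹ * (e⁻¹ * x⁻¹ * e * x) * b ^ k := by
      have e3 : x⁻¹ * a1 * x = (x⁻¹ * e * x) * b ^ k := by
        rw [e1]
        calc x⁻¹ * (e * b ^ k) * x = x⁻¹ * e * (b ^ k * x) := by simp only [mul_assoc]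
          _ = x⁻¹ * e * (x * b ^ k) := by rw [hbkx]
          _ = _ := by simp only [mul_assoc]
      rw [ha2def, e3, e1]; group
    have hz := s.hEx e heE x
    have e4 : (b ^ k)⁻¹ * (e⁻¹ * x⁻¹ * e * x) * b ^ k = e⁻¹ * x⁻¹ * e * x := by
      rw [mul_assoc, s.hZc _ hz (b ^ k)]; group
    rw [e2, e4]
    exact hz
  apply ha31
  rw [ha3def, mul_assoc, mul_assoc, s.hZc _ ha2Z x]
  group

end Setup

end Cfsg.Agent.H472.RankTwo
end

-- part: H472/RankTwoC
section
/-!
# `p`-groups of rank two, `p` odd: the case where `Ω₂(C)` is small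
-/

set_option autoImplicit false

namespace Cfsg.Agent.H472.RankTwo

open Cfsg.Agent.H472.PCentral

universe u

namespace Setup

variable {p : ℕ} [hpf : Fact p.Prime] {G : Type u} [Group G] [Finite G] (s : Setup p G)

include s

/-- `C / E` is cyclic. -/
theorem exists_generator (hsm : ∀ a ∈ s.C, a ^ p ∈ s.E → a ^ p ∈ s.Z) :
    ∃ c0 ∈ s.C, ∀ d ∈ s.C, ∃ i : ℤ, ∃ e ∈ s.E, d = c0 ^ i * e := by
  have hpp : p.Prime := hpf.out
  have hEn := s.hEn
  have hE'n : (s.E.subgroupOf s.C).Normal := inferInstance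
  have hCp : IsPGroup p ↥s.C := s.hG.to_subgroup s.C
  have hcyc : IsCyclic (↥s.C ⧸ s.E.subgroupOf s.C) := by
    by_contra hnc
    obtain ⟨A, -, ⟨hAc, hAp⟩, hAcard⟩ := Cfsg.Agent.S0126.result (R := ↥s.C ⧸ s.E.subgroupOf s.C)
      s.hp2 (hCp.to_quotient _) hnc
    have hlift : ∀ q : A, ∃ c : ↥s.C, (QuotientGroup.mk c : ↥s.C ⧸ s.E.subgroupOf s.C) = q ∧
        (c : G) ^ p ∈ s.Z := by
      rintro ⟨q, hq⟩
      obtain ⟨c, rfl⟩ := QuotientGroup.mk_surjective q
      refine ⟨c, rfl, hsm c c.2 ?_⟩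
      have h1 := hAp _ hq
      rw [← QuotientGroup.mk_pow, QuotientGroup.eq_one_iff, Subgroup.mem_subgroupOf] at h1
      exact h1
    choose f hf1 hf2 using hlift
    let F : A → ↥s.Z := fun q => ⟨(f q : G) ^ p, hf2 q⟩
    have hF : Function.Injective F := by
      intro q r hqr
      have h1 : (f q : G) ^ p = (f r : G) ^ p := congrArg Subtype.val hqr
      apply Subtype.ext
      rw [← hf1 q, ← hf1 r, QuotientGroup.eq, Subgroup.mem_subgroupOf]
      have h2 : ((f q : G)⁻¹) ^ (p ^ 2) = 1 := by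
        rw [inv_pow, sq, pow_mul, s.Z_pow (hf2 q), inv_one]
      refine s.hOm _ (s.C.mul_mem (s.C.inv_mem (f q).2) (f r).2) ?_
      change ((f q : G)⁻¹ * (f r : G)) ^ p = 1
      rw [s.mul_pow (s.C.inv_mem (f q).2) (f r).2 h2, inv_pow, h1]
      group
    have h3 := Nat.card_le_card_of_injective F hF
    rw [hAcard, s.hZcard] at h3
    have h4 := hpp.two_le
    nlinarith
  obtain ⟨g, hg⟩ := hcyc.exists_generator
  obtain ⟨c0, rfl⟩ := QuotientGroup.mk_surjective g
  refine ⟨c0, c0.2, fun d hd => ?_⟩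
  obtain ⟨i, hi⟩ := hg (QuotientGroup.mk (⟨d, hd⟩ : ↥s.C))
  simp only at hi
  rw [← QuotientGroup.mk_zpow, QuotientGroup.eq, Subgroup.mem_subgroupOf] at hi
  refine ⟨i, _, hi, ?_⟩
  simp

omit hpf [Finite G] in
theorem comm_of_generator {c0 : G} (hc0 : c0 ∈ s.C)
    (hgen : ∀ d ∈ s.C, ∃ i : ℤ, ∃ e ∈ s.E, d = c0 ^ i * e) :
    ∀ a ∈ s.C, ∀ b ∈ s.C, a * b = b * a := by
  intro a ha b hb
  obtain ⟨i, e, he, rfl⟩ := hgen a ha
  obtain ⟨j, f, hf, rfl⟩ := hgen b hb
  have h1 : ∀ k : ℤ, Commute (c0 ^ k) e := fun k => s.hCE _ (s.C.zpow_mem hc0 k) _ he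
  have h2 : ∀ k : ℤ, Commute (c0 ^ k) f := fun k => s.hCE _ (s.C.zpow_mem hc0 k) _ hf
  have h3 : Commute e f := s.hCE _ (s.hEC he) _ hf
  have h4 : Commute (c0 ^ i) (c0 ^ j) := (Commute.refl c0).zpow_zpow i j
  exact ((h4.mul_right (h2 i)).mul_left (((h1 j).symm).mul_right h3)).eq

omit hpf [Finite G] in
/-- the commutator map `c ↦ [c, y]` on the abelian group `C` -/
def phi (hab : ∀ a ∈ s.C, ∀ b ∈ s.C, a * b = b * a) (y : G) : ↥s.C →* G where
  toFun c := (c : G)⁻¹ * (y⁻¹ * c * y)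
  map_one' := by simp
  map_mul' := by
    rintro ⟨a, ha⟩ ⟨b, hb⟩
    have h1 : (y⁻¹ * a * y) * b⁻¹ = b⁻¹ * (y⁻¹ * a * y) := hab _ (s.conj_mem ha) _ (s.C.inv_mem hb)
    have h2 : b⁻¹ * a⁻¹ = a⁻¹ * b⁻¹ := hab _ (s.C.inv_mem hb) _ (s.C.inv_mem ha)
    simp only [Subgroup.coe_mul]
    calc (a * b)⁻¹ * (y⁻¹ * (a * b) * y) = (b⁻¹ * a⁻¹) * ((y⁻¹ * a * y) * (y⁻¹ * b * y)) := by group
      _ = a⁻¹ * (b⁻¹ * (y⁻¹ * a * y)) * (y⁻¹ * b * y) := by rw [h2]; simp only [mul_assoc]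
      _ = a⁻¹ * (y⁻¹ * a * y) * (b⁻¹ * (y⁻¹ * b * y)) := by rw [← h1]; simp only [mul_assoc]

omit hpf [Finite G] in
theorem phi_apply (hab : ∀ a ∈ s.C, ∀ b ∈ s.C, a * b = b * a) (y : G) (c : ↥s.C) :
    s.phi hab y c = (c : G)⁻¹ * (y⁻¹ * c * y) := rfl

omit hpf [Finite G] in
theorem phi_mem (hab : ∀ a ∈ s.C, ∀ b ∈ s.C, a * b = b * a) (y : G) (c : ↥s.C) :
    s.phi hab y c ∈ s.C := s.C.mul_mem (s.C.inv_mem c.2) (s.conj_mem c.2)

omit hpf [Finite G] in
theorem conj_eq_phi (hab : ∀ a ∈ s.C, ∀ b ∈ s.C, a * b = b * a) (y : G) (c : ↥s.C) :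
    y⁻¹ * c * y = c * s.phi hab y c := by rw [phi_apply]; group

omit hpf [Finite G] in
theorem phi_E (hab : ∀ a ∈ s.C, ∀ b ∈ s.C, a * b = b * a) (y : G) (c : ↥s.C) (hc : (c : G) ∈ s.E) :
    s.phi hab y c ∈ s.Z := by
  have := s.hEx _ hc y
  rw [phi_apply]
  simpa only [mul_assoc] using this

omit hpf [Finite G] in
theorem phi_eq_one (hab : ∀ a ∈ s.C, ∀ b ∈ s.C, a * b = b * a) (y : G) (c : ↥s.C) :
    s.phi hab y c = 1 ↔ (c : G) * y = y * c := by
  rw [phi_apply]
  constructor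
  · intro h
    have : (c : G) * y = y * c * ((c : G)⁻¹ * (y⁻¹ * c * y)) := by group
    rw [this, h, mul_one]
  · intro h
    rw [mul_assoc y⁻¹, h]; group

omit hpf [Finite G] in
/-- `p`-th powers are `p`-th powers of elements of `C`. -/
theorem exists_pow_eq_pow (hab : ∀ a ∈ s.C, ∀ b ∈ s.C, a * b = b * a) (g : G) :
    ∃ a ∈ s.C, g ^ p = a ^ p := by
  let T : Subgroup G :=
    { carrier := {y | ∃ c ∈ s.C, y = c ^ p}
      one_mem' := ⟨1, s.C.one_mem, (one_pow p).symm⟩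
      mul_mem' := by
        rintro _ _ ⟨a, ha, rfl⟩ ⟨b, hb, rfl⟩
        exact ⟨a * b, s.C.mul_mem ha hb, ((show Commute a b from hab a ha b hb).mul_pow p).symm⟩
      inv_mem' := by
        rintro _ ⟨a, ha, rfl⟩
        exact ⟨a⁻¹, s.C.inv_mem ha, (inv_pow a p).symm⟩ }
  have h1 : Subgroup.closure {y | ∃ c ∈ s.C, y = c ^ p} ≤ T := by
    rw [Subgroup.closure_le]
    exact fun y hy => hy
  exact h1 (s.hpow g)

/-- There is an element of order `p` outside `C`, or `p = 3` and the class is maximal. -/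
theorem exists_order_p (hab : ∀ a ∈ s.C, ∀ b ∈ s.C, a * b = b * a) {n : ℕ}
    (hn : Nat.card G = p ^ n) {x : G} (hx : x ∉ s.C) :
    (∃ y : G, y ∉ s.C ∧ y ^ p = 1) ∨ (p = 3 ∧ Group.nilpotencyClass G = n - 1) := by
  have hpp : p.Prime := hpf.out
  have hp2 : 2 < p := lt_of_le_of_ne hpp.two_le (Ne.symm s.hp2)
  obtain ⟨a, ha, hxa⟩ := s.exists_pow_eq_pow hab x
  set a1 := s.phi hab x ⟨a, ha⟩ with ha1
  have ha1C : a1 ∈ s.C := s.phi_mem hab x _
  have ha1p : a1 ^ p = 1 := by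
    rw [ha1, ← map_pow, phi_eq_one]
    change a ^ p * x = x * a ^ p
    rw [← hxa]
    exact (Commute.refl x).pow_left p
  have ha1E : a1 ∈ s.E := s.hOm _ ha1C ha1p
  set a2 := s.phi hab x ⟨a1, ha1C⟩ with ha2
  have ha2Z : a2 ∈ s.Z := s.phi_E hab x _ ha1E
  have h0 : x⁻¹ * a⁻¹ * x = a⁻¹ * a1⁻¹ := by
    have h := s.conj_eq_phi hab x ⟨a, ha⟩
    have h' : x⁻¹ * a⁻¹ * x = (x⁻¹ * a * x)⁻¹ := by group
    rw [h', h, mul_inv_rev]
    exact hab _ (s.C.inv_mem ha1C) _ (s.C.inv_mem ha)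
  have h1 : x⁻¹ * a1⁻¹ * x = a1⁻¹ * a2⁻¹ := by
    have h := s.conj_eq_phi hab x ⟨a1, ha1C⟩
    have h' : x⁻¹ * a1⁻¹ * x = (x⁻¹ * a1 * x)⁻¹ := by group
    rw [h', h, mul_inv_rev]
    exact hab _ (s.C.inv_mem (s.hEC (s.hZE ha2Z))) _ (s.C.inv_mem ha1C)
  have ha2iZ : a2⁻¹ ∈ s.Z := s.Z.inv_mem ha2Z
  have h2 : x⁻¹ * a2⁻¹ * x = a2⁻¹ := by rw [mul_assoc, s.hZc _ ha2iZ x]; group
  have c01 : Commute a⁻¹ a1⁻¹ := hab _ (s.C.inv_mem ha) _ (s.C.inv_mem ha1C)
  have c02 : Commute a⁻¹ a2⁻¹ := (s.hZc _ ha2iZ _).symm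
  have c12 : Commute a1⁻¹ a2⁻¹ := (s.hZc _ ha2iZ _).symm
  have key := mul_pow_chain h0 h1 h2 c01 c02 c12 p
  have hch2 : a1⁻¹ ^ (p.choose 2) = 1 := by
    obtain ⟨m, hm⟩ := hpp.dvd_choose_self (k := 2) (by norm_num) hp2
    rw [hm, pow_mul, inv_pow, ha1p, inv_one, one_pow]
  rw [hch2, mul_one, hxa, inv_pow, mul_inv_cancel_left] at key
  -- key : (x * a⁻¹) ^ p = a2⁻¹ ^ (p.choose 3)
  have hy : x * a⁻¹ ∉ s.C := fun h => hx ((s.C.mul_mem_cancel_right (s.C.inv_mem ha)).1 h)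
  set y := x * a⁻¹ with hydef
  have hyZ : y ^ p ∈ s.Z := by rw [key]; exact s.Z.pow_mem ha2iZ _
  by_cases hy1 : y ^ p = 1
  · exact Or.inl ⟨y, hy, hy1⟩
  have hp3 : p = 3 := by
    by_contra hne
    have h3p : 3 < p := by omega
    obtain ⟨m, hm⟩ := hpp.dvd_choose_self (k := 3) (by norm_num) h3p
    rw [hm, pow_mul, s.Z_pow ha2iZ, one_pow] at key
    exact hy1 key
  by_cases hcl : ∀ b ∈ s.C, b * y = y * b → b ∈ s.Z
  · exact Or.inr ⟨hp3, s.class_eq hn hy hcl⟩
  left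
  have hex : ∃ b ∈ s.C, b * y = y * b ∧ b ^ p ∈ s.Z ∧ b ∉ s.Z := by
    by_contra hcon
    push Not at hcon
    exact hcl (s.mem_Z_of_step fun b hb hby hbp => hcon b hb hby hbp)
  obtain ⟨b, hb, hby, hbp, hbZ⟩ := hex
  have hb1 : b ^ p ≠ 1 := fun h => hbZ (s.mem_Z_of_pow_eq_one hb hy hby h)
  obtain ⟨k, hk⟩ := s.exists_pow_eq hbp hb1 hyZ
  refine ⟨y * (b ^ k)⁻¹, fun h => hy ((s.C.mul_mem_cancel_right
    (s.C.inv_mem (s.C.pow_mem hb k))).1 h), ?_⟩
  have hc : Commute y ((b ^ k)⁻¹) := ((show Commute b y from hby).pow_left k).symm.inv_right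
  rw [hc.mul_pow, hk, inv_pow, ← pow_mul, ← pow_mul, mul_comm p k]
  group

omit s [Finite G] [Group G] in
theorem dvd_sub_one_of_dvd (hp2 : p ≠ 2) {u : ℤ} {r : ℕ} (h : (p : ℤ) ^ (r + 1) ∣ u ^ p - 1) :
    (p : ℤ) ∣ u - 1 ∧ (p : ℤ) ^ r ∣ u - 1 := by
  have hpp : p.Prime := hpf.out
  have h1 : (p : ℤ) ∣ u ^ p - 1 := (Dvd.intro_left _ (pow_succ (p : ℤ) r).symm).trans h
  have h2 : (p : ℤ) ∣ u - 1 := by
    rw [← ZMod.intCast_zmod_eq_zero_iff_dvd] at h1 ⊢
    push_cast at h1 ⊢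
    rwa [ZMod.pow_card] at h1
  refine ⟨h2, ?_⟩
  have h3 : ¬ (p : ℤ) ∣ u := by
    intro h4
    have h5 : (p : ℤ) ∣ 1 := by
      have := dvd_sub h4 h2
      simpa using this
    exact hpp.one_lt.ne' (by exact_mod_cast Int.eq_one_of_dvd_one (by positivity) h5)
  have h4 := Int.emultiplicity_pow_sub_pow hpp (hpp.odd_of_ne_two hp2) (x := u) (y := 1) h2 h3 p
  rw [one_pow] at h4
  have h5 : ((r + 1 : ℕ) : ℕ∞) ≤ emultiplicity (p : ℤ) (u ^ p - 1) := le_emultiplicity_of_pow_dvd h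
  have h6 : emultiplicity p p = 1 := by
    have := (Nat.finiteMultiplicity_iff.2 ⟨hpp.ne_one, hpp.pos⟩).emultiplicity_self
    exact this
  rw [h4, h6] at h5
  apply pow_dvd_of_le_emultiplicity
  push_cast at h5
  exact (ENat.add_le_add_iff_right (by simp)).1 h5

/-- An element `y` of order `p` outside `C` satisfies `[C, y] ≤ E`. -/
theorem phi_mem_E (hsm : ∀ a ∈ s.C, a ^ p ∈ s.E → a ^ p ∈ s.Z)
    (hab : ∀ a ∈ s.C, ∀ b ∈ s.C, a * b = b * a) {c0 : G} (hc0 : c0 ∈ s.C)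
    (hgen : ∀ d ∈ s.C, ∃ i : ℤ, ∃ e ∈ s.E, d = c0 ^ i * e) {y : G} (hyp : y ^ p = 1)
    (c : ↥s.C) : s.phi hab y c ∈ s.E := by
  have hpp : p.Prime := hpf.out
  have hp2 : 2 < p := lt_of_le_of_ne hpp.two_le (Ne.symm s.hp2)
  have hEn := s.hEn
  -- it is enough to consider `c0`
  suffices h0 : s.phi hab y ⟨c0, hc0⟩ ∈ s.E by
    obtain ⟨i, e, he, hc⟩ := hgen c c.2
    have hc' : c = (⟨c0, hc0⟩ : ↥s.C) ^ i * ⟨e, s.hEC he⟩ := Subtype.ext hc
    rw [hc', map_mul, map_zpow]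
    exact s.E.mul_mem (s.E.zpow_mem h0 i) (s.hZE (s.phi_E hab y ⟨e, s.hEC he⟩ he))
  obtain ⟨u, e, he, hu⟩ := hgen _ (s.conj_mem (g := y) hc0)
  -- the order of `c0` modulo `E`
  obtain ⟨r, hr⟩ : ∃ r, orderOf (QuotientGroup.mk c0 : G ⧸ s.E) = p ^ r := by
    obtain ⟨r, hr⟩ := (IsPGroup.iff_orderOf.1 (s.hG.to_quotient s.E)) (QuotientGroup.mk c0)
    exact ⟨r, hr⟩
  have hmem : ∀ m : ℤ, c0 ^ m ∈ s.E ↔ (p : ℤ) ^ r ∣ m := by
    intro m
    rw [← QuotientGroup.eq_one_iff, QuotientGroup.mk_zpow, ← orderOf_dvd_iff_zpow_eq_one, hr]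
    push_cast
    rfl
  have h1 : s.phi hab y ⟨c0, hc0⟩ = c0 ^ (u - 1) * e := by
    rw [phi_apply]
    change c0⁻¹ * (y⁻¹ * c0 * y) = _
    rw [hu, sub_eq_neg_add, zpow_add, zpow_neg, zpow_one, mul_assoc]
  rw [h1]
  rcases Nat.eq_zero_or_pos r with hr0 | hrpos
  · refine s.E.mul_mem ((hmem _).2 ?_) he
    rw [hr0, pow_zero]; exact one_dvd _
  obtain ⟨r, rfl⟩ : ∃ r', r = r' + 1 := ⟨r - 1, by omega⟩
  -- `u ^ p ≡ 1`
  have hup : (p : ℤ) ^ (r + 1) ∣ u ^ p - 1 := by
    have h2 : ∀ k : ℕ, (QuotientGroup.mk ((y ^ k)⁻¹ * c0 * y ^ k) : G ⧸ s.E) =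
        (QuotientGroup.mk c0 : G ⧸ s.E) ^ (u ^ k) := by
      intro k
      induction k with
      | zero => simp
      | succ k ih =>
        have h3 : (y ^ (k + 1))⁻¹ * c0 * y ^ (k + 1) = y⁻¹ * ((y ^ k)⁻¹ * c0 * y ^ k) * y := by
          rw [pow_succ]; group
        have h4 : (QuotientGroup.mk (y⁻¹ * c0 * y) : G ⧸ s.E) =
            (QuotientGroup.mk c0 : G ⧸ s.E) ^ u := by
          rw [hu, QuotientGroup.mk_mul, (QuotientGroup.eq_one_iff e).2 he, mul_one,
            QuotientGroup.mk_zpow]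
        rw [h3, QuotientGroup.mk_mul, QuotientGroup.mk_mul, ih]
        have h5 : (QuotientGroup.mk y⁻¹ : G ⧸ s.E) * (QuotientGroup.mk c0) ^ (u ^ k) *
            (QuotientGroup.mk y) = ((QuotientGroup.mk y⁻¹ : G ⧸ s.E) * (QuotientGroup.mk c0) *
            (QuotientGroup.mk y)) ^ (u ^ k) := by
          have := conj_zpow (a := (QuotientGroup.mk y⁻¹ : G ⧸ s.E))
            (b := (QuotientGroup.mk c0 : G ⧸ s.E)) (i := u ^ k)
          rw [← QuotientGroup.mk_inv, inv_inv] at this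
          exact this.symm
        rw [h5, ← QuotientGroup.mk_mul, ← QuotientGroup.mk_mul, h4, ← zpow_mul, pow_succ, mul_comm]
    have h6 := h2 p
    rw [hyp, inv_one, one_mul, mul_one] at h6
    have h7 : (QuotientGroup.mk c0 : G ⧸ s.E) ^ (u ^ p - 1) = 1 := by
      rw [zpow_sub, ← h6, zpow_one, mul_inv_cancel]
    have h8 := orderOf_dvd_iff_zpow_eq_one.2 h7
    rw [hr] at h8
    exact_mod_cast h8
  obtain ⟨hpu, ⟨k, hk⟩⟩ := dvd_sub_one_of_dvd s.hp2 hup
  rcases Nat.eq_zero_or_pos r with hr0 | hrpos'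
  · refine s.E.mul_mem ((hmem _).2 ?_) he
    rw [hr0, zero_add, pow_one]; exact hpu
  obtain ⟨t, rfl⟩ : ∃ t, r = t + 1 := ⟨r - 1, by omega⟩
  -- `b = c0 ^ (p ^ r)`
  set b : ↥s.C := (⟨c0, hc0⟩ : ↥s.C) ^ (p ^ (t + 1)) with hb
  have hbG : (b : G) = c0 ^ (p ^ (t + 1)) := rfl
  have hbp : (b : G) ^ p ∈ s.Z := by
    apply hsm _ b.2
    rw [hbG, ← pow_mul, ← pow_succ, ← zpow_natCast, hmem]
    push_cast
    exact dvd_refl _
  set c1 := s.phi hab y ⟨c0, hc0⟩ with hc1
  have hc1C : c1 ∈ s.C := s.phi_mem hab y _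
  have h2 : c1 = (b : G) ^ k * e := by
    rw [h1, hk, hbG, zpow_mul]
    congr 2
    rw [← zpow_natCast]
    push_cast
    rfl
  have hc1p : c1 ^ p ∈ s.Z := by
    have hcomm : Commute ((b : G) ^ k) e := s.hCE _ (s.C.zpow_mem b.2 k) _ he
    rw [h2, hcomm.mul_pow, s.hEp e he, mul_one, ← zpow_natCast, ← zpow_mul, mul_comm, zpow_mul,
      zpow_natCast]
    exact s.Z.zpow_mem hbp k
  set c2 := s.phi hab y ⟨c1, hc1C⟩ with hc2
  have hc2Z : c2 ∈ s.Z := by
    have h3 : (⟨c1, hc1C⟩ : ↥s.C) = b ^ k * ⟨e, s.hEC he⟩ := Subtype.ext h2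
    rw [hc2, h3, map_mul, map_zpow, hb, map_pow, ← hc1]
    refine s.Z.mul_mem (s.Z.zpow_mem ?_ k) (s.phi_E hab y _ he)
    rw [pow_succ', pow_mul]
    exact s.Z.pow_mem hc1p _
  have e0 : y⁻¹ * c0 * y = c0 * c1 := s.conj_eq_phi hab y ⟨c0, hc0⟩
  have e1 : y⁻¹ * c1 * y = c1 * c2 := s.conj_eq_phi hab y ⟨c1, hc1C⟩
  have e2 : y⁻¹ * c2 * y = c2 * 1 := by rw [mul_assoc, s.hZc _ hc2Z y]; group
  have key := conj_pow_chain (a3 := 1) e0 e1 e2 (by simp) (s.hZc _ hc2Z _).symm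
    (Commute.one_right _) p
  obtain ⟨m, hm⟩ := hpp.dvd_choose_self (k := 2) (by norm_num) hp2
  rw [hyp, hm, pow_mul, s.Z_pow hc2Z, one_pow, one_pow, mul_one, mul_one, inv_one, one_mul,
    mul_one] at key
  rw [← h1]
  exact s.hOm _ hc1C (by simpa using key)

end Setup

end Cfsg.Agent.H472.RankTwo
end

-- part: H472/RankTwoD
section
/-!
# `p`-groups of rank two, `p` odd: the families (b) and (c)
-/

set_option autoImplicit false

namespace Cfsg.Agent.H472.RankTwo

open Cfsg.Agent.H472.PCentral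

universe u

theorem mem_of_pow_pow {G : Type u} [Group G] {H : Subgroup G} {a : G} {s t : ℕ}
    (hst : s.Coprime t) (h1 : a ^ s ∈ H) (h2 : a ^ t ∈ H) : a ∈ H := by
  have h3 : a = (a ^ s) ^ (Nat.gcdA s t) * (a ^ t) ^ (Nat.gcdB s t) := by
    rw [← zpow_natCast a s, ← zpow_natCast a t, ← zpow_mul, ← zpow_mul, ← zpow_add,
      ← Nat.gcd_eq_gcd_ab, Nat.coprime_iff_gcd_eq_one.1 hst]
    simp
  rw [h3]
  exact H.mul_mem (H.zpow_mem h1 _) (H.zpow_mem h2 _)

namespace Setup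

variable {p : ℕ} [hpf : Fact p.Prime] {G : Type u} [Group G] [Finite G] (s : Setup p G)

include s

omit [Finite G] in
theorem eq_top_of_le {H : Subgroup G} (hC : s.C ≤ H) {y : G} (hy : y ∈ H) (hyC : y ∉ s.C) :
    H = ⊤ := by
  have hpp : p.Prime := hpf.out
  have h1 : H.index ∣ p := s.hCi ▸ Subgroup.index_dvd_of_le hC
  rcases (Nat.dvd_prime hpp).1 h1 with h2 | h2
  · exact Subgroup.index_eq_one.1 h2
  · exfalso
    have h3 := Subgroup.relIndex_mul_index hC
    rw [h2, s.hCi] at h3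
    have h4 : s.C.relIndex H = 1 := Nat.eq_of_mul_eq_mul_right hpp.pos (by rw [h3, one_mul])
    exact hyC (Subgroup.relIndex_eq_one.1 h4 hy)

theorem exists_mem_E_notMem_Z : ∃ e ∈ s.E, e ∉ s.Z := by
  have hpp : p.Prime := hpf.out
  by_contra h
  push Not at h
  have h1 := Subgroup.card_le_of_le (show s.E ≤ s.Z from h)
  rw [s.hEcard, s.hZcard] at h1
  have h4 := hpp.two_le
  nlinarith

omit [Finite G] in
theorem exists_eq_pow_mul {e0 : G} (he0 : e0 ∈ s.E) (he0Z : e0 ∉ s.Z) {e : G} (he : e ∈ s.E) :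
    ∃ i : ℕ, ∃ z ∈ s.Z, e = e0 ^ i * z := by
  have hpp : p.Prime := hpf.out
  have hZn : (s.Z.subgroupOf s.E).Normal := by
    refine ⟨fun n hn g => ?_⟩
    rw [Subgroup.mem_subgroupOf] at hn ⊢
    have : ((g * n * g⁻¹ : ↥s.E) : G) = n := by
      push_cast
      rw [← s.hZc _ hn (g : G)]; group
    rw [this]; exact hn
  have hcard : Nat.card (↥s.E ⧸ s.Z.subgroupOf s.E) = p := by
    have h1 := (s.Z.subgroupOf s.E).card_eq_card_quotient_mul_card_subgroup
    rw [s.hEcard, Nat.card_congr (Subgroup.subgroupOfEquivOfLe s.hZE).toEquiv, s.hZcard, sq] at h1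
    exact (Nat.eq_of_mul_eq_mul_right hpp.pos h1).symm
  obtain ⟨i, hi⟩ := mem_powers_of_prime_card (p := p) hcard
    (g := (QuotientGroup.mk (⟨e0, he0⟩ : ↥s.E))) (g' := QuotientGroup.mk (⟨e, he⟩ : ↥s.E)) (by
      intro h
      rw [QuotientGroup.eq_one_iff, Subgroup.mem_subgroupOf] at h
      exact he0Z h)
  simp only at hi
  rw [← QuotientGroup.mk_pow, QuotientGroup.eq, Subgroup.mem_subgroupOf] at hi
  exact ⟨i, _, hi, by simp⟩

/-- The conclusion for the family (b). -/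
def IsB (n : ℕ) (p : ℕ) (G : Type u) [Group G] : Prop :=
  3 ≤ n ∧ ∃ x y z : G, Subgroup.closure ({x, y, z} : Set G) = ⊤ ∧ x ^ p = 1 ∧ y ^ p = 1 ∧
    z ^ p ^ (n - 2) = 1 ∧ x * z = z * x ∧ y * z = z * y ∧ x⁻¹ * y * x = y * z ^ p ^ (n - 3)

/-- The conclusion for the family (c). -/
def IsC (n : ℕ) (p : ℕ) (G : Type u) [Group G] : Prop :=
  4 ≤ n ∧ ∃ (s : ℕ) (x y z : G), (s = 1 ∨ ¬ IsSquare (s : ZMod p)) ∧
    Subgroup.closure ({x, y, z} : Set G) = ⊤ ∧
    x ^ p = 1 ∧ y ^ p = 1 ∧ z ^ p ^ (n - 2) = 1 ∧ y * z = z * y ∧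
    x⁻¹ * y * x = y * z ^ (s * p ^ (n - 3)) ∧ x⁻¹ * z * x = y * z

/-- The kernel of `φ` is cyclic. -/
theorem ker_isCyclic (hab : ∀ a ∈ s.C, ∀ b ∈ s.C, a * b = b * a) {y : G} (hy : y ∉ s.C) :
    IsCyclic ↥(s.phi hab y).ker := by
  have hpp : p.Prime := hpf.out
  by_contra hnc
  obtain ⟨A, -, ⟨-, hAp⟩, hAcard⟩ := Cfsg.Agent.S0126.result (R := ↥(s.phi hab y).ker)
    s.hp2 ((s.hG.to_subgroup s.C).to_subgroup _) hnc
  have hZ : ∀ a ∈ A, ((a : ↥s.C) : G) ∈ s.Z := by
    intro a ha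
    refine s.mem_Z_of_pow_eq_one (a : ↥s.C).2 hy ((s.phi_eq_one hab y a).1 a.2) ?_
    have := hAp a ha
    exact congrArg (fun t : ↥(s.phi hab y).ker => ((t : ↥s.C) : G)) this
  let F : A → ↥s.Z := fun a => ⟨((a : ↥(s.phi hab y).ker) : ↥s.C), hZ a a.2⟩
  have hF : Function.Injective F := by
    intro a b h
    have h' : (a.1.1.1 : G) = b.1.1.1 := congrArg (fun t : ↥s.Z => (t : G)) h
    exact Subtype.ext (Subtype.ext (Subtype.ext h'))
  have h3 := Nat.card_le_card_of_injective F hF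
  rw [hAcard, s.hZcard] at h3
  have h4 := hpp.two_le
  nlinarith

/-- an element `y` of order `p` outside `C` with `[C, y] ≤ E` gives the families (b), (c) -/
theorem isB_or_isC (hab : ∀ a ∈ s.C, ∀ b ∈ s.C, a * b = b * a) {n : ℕ}
    (hn : Nat.card G = p ^ n) {y : G} (hy : y ∉ s.C) (hyp : y ^ p = 1)
    (hphi : ∀ c, s.phi hab y c ∈ s.E) : IsB n p G ∨ IsC n p G := by
  have hpp : p.Prime := hpf.out
  have hp2 : 2 < p := lt_of_le_of_ne hpp.two_le (Ne.symm s.hp2)
  set φ := s.phi hab y with hφ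
  have hK : IsCyclic ↥φ.ker := s.ker_isCyclic hab hy
  obtain ⟨⟨w, hw⟩, hwgen⟩ := hK.exists_generator
  have hker : ∀ c : ↥s.C, φ c = 1 → ∃ i : ℤ, (c : G) = (w : G) ^ i := by
    intro c hc
    obtain ⟨i, hi⟩ := hwgen ⟨c, hc⟩
    refine ⟨i, ?_⟩
    have := congrArg (fun t : ↥φ.ker => ((t : ↥s.C) : G)) hi
    simpa using this.symm
  have hwy : (w : G) * y = y * w := (s.phi_eq_one hab y w).1 hw
  obtain ⟨e0, he0, he0Z⟩ := s.exists_mem_E_notMem_Z
  set f : G := φ ⟨e0, s.hEC he0⟩ with hf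
  have hfZ : f ∈ s.Z := s.phi_E hab y _ he0
  have hf1 : f ≠ 1 := by
    intro h
    exact he0Z (s.hZx e0 he0 y hy ((s.phi_eq_one hab y _).1 h))
  have he0y : y⁻¹ * e0 * y = e0 * f := s.conj_eq_phi hab y ⟨e0, s.hEC he0⟩
  -- orders
  have hC1 : Nat.card s.C * p = p ^ n := by
    have := s.C.card_mul_index
    rwa [s.hCi, hn] at this
  have hn3 : 3 ≤ n := by
    have h1 : p ^ 2 ∣ Nat.card s.C := s.hEcard ▸ Subgroup.card_dvd_of_le s.hEC
    have h2 : p ^ 3 ∣ p ^ n := by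
      rw [← hC1, pow_succ]; exact Nat.mul_dvd_mul_right h1 p
    exact (Nat.pow_dvd_pow_iff_le_right hpp.one_lt).1 h2
  obtain ⟨n, rfl⟩ : ∃ m, n = m + 3 := ⟨n - 3, by omega⟩
  have hCcard : Nat.card s.C = p ^ (n + 2) := by
    apply Nat.eq_of_mul_eq_mul_right hpp.pos
    rw [hC1]; ring
  have hKR : Nat.card φ.ker * Nat.card φ.range = p ^ (n + 2) := by
    rw [← hCcard, ← Subgroup.card_mul_index φ.ker, Subgroup.index_ker]
  have hrange : Nat.card φ.range ∣ p ^ 2 := by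
    rw [← s.hEcard]
    apply Subgroup.card_dvd_of_le
    rintro _ ⟨c, rfl⟩
    exact hphi c
  have hwo : orderOf (w : G) = Nat.card φ.ker := by
    have h1 : orderOf (⟨w, hw⟩ : ↥φ.ker) = Nat.card φ.ker := orderOf_eq_card_of_forall_mem_zpowers hwgen
    rw [← h1, Subgroup.orderOf_mk, Subgroup.orderOf_coe]
  have hZrange : s.Z ≤ φ.range := by
    intro z hz
    obtain ⟨k, rfl⟩ := s.exists_pow_eq hfZ hf1 hz
    exact φ.range.pow_mem ⟨_, rfl⟩ k
  obtain ⟨j, hj2, hj⟩ := (Nat.dvd_prime_pow hpp).1 hrange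
  have hj1 : 1 ≤ j := by
    have h1 := Subgroup.card_le_of_le hZrange
    rw [s.hZcard, hj] at h1
    rcases Nat.eq_zero_or_pos j with h0 | h0
    · rw [h0, pow_zero] at h1
      have := hpp.one_lt
      omega
    · exact h0
  rcases (show j = 1 ∨ j = 2 by omega) with rfl | rfl
  · -- family (b)
    left
    rw [pow_one] at hj
    have hRZ : φ.range = s.Z := by
      symm
      exact Subgroup.eq_of_le_of_card_ge hZrange (by rw [hj, s.hZcard])
    have hKcard : Nat.card φ.ker = p ^ (n + 1) := by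
      rw [hj] at hKR
      apply Nat.eq_of_mul_eq_mul_right hpp.pos
      rw [hKR]; ring
    rw [hKcard] at hwo
    set t : G := (w : G) ^ (p ^ n) with ht
    have htp : t ^ p = 1 := by
      rw [ht, ← pow_mul, ← pow_succ, ← hwo, pow_orderOf_eq_one]
    have ht1 : t ≠ 1 := by
      intro h
      have h1 : orderOf (w : G) ∣ p ^ n := orderOf_dvd_of_pow_eq_one h
      rw [hwo] at h1
      have := (Nat.pow_dvd_pow_iff_le_right hpp.one_lt).1 h1
      omega
    have htZ : t ∈ s.Z := s.mem_Z_of_pow_eq_one (s.C.pow_mem w.2 _) hy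
      ((show Commute (w : G) y from hwy).pow_left _).eq htp
    obtain ⟨k, hk⟩ := s.exists_pow_eq htZ ht1 hfZ
    have hpk : ¬ p ∣ k := by
      rintro ⟨m, rfl⟩
      rw [pow_mul, htp, one_pow] at hk
      exact hf1 hk
    have hzC : (w : G) ^ k ∈ s.C := s.C.pow_mem w.2 k
    refine ⟨by omega, y, e0, (w : G) ^ k, ?_, hyp, s.hEp e0 he0, ?_, ?_, ?_, ?_⟩
    · have hyH : y ∈ Subgroup.closure ({y, e0, (w : G) ^ k} : Set G) :=
        Subgroup.subset_closure (by simp)
      have heH : e0 ∈ Subgroup.closure ({y, e0, (w : G) ^ k} : Set G) :=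
        Subgroup.subset_closure (by simp)
      have hwkH : (w : G) ^ k ∈ Subgroup.closure ({y, e0, (w : G) ^ k} : Set G) :=
        Subgroup.subset_closure (by simp)
      have hwH : (w : G) ∈ Subgroup.closure ({y, e0, (w : G) ^ k} : Set G) := by
        refine mem_of_pow_pow (s := p ^ (n + 1)) (t := k) ?_ ?_ hwkH
        · exact ((Nat.Prime.coprime_iff_not_dvd hpp).2 hpk).pow_left _
        · rw [← hwo, pow_orderOf_eq_one]; exact Subgroup.one_mem _
      refine s.eq_top_of_le ?_ hyH hy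
      intro c hc
      have h1 : φ ⟨c, hc⟩ ∈ s.Z := hRZ ▸ (⟨_, rfl⟩ : φ ⟨c, hc⟩ ∈ φ.range)
      obtain ⟨i, hi⟩ := s.exists_pow_eq hfZ hf1 h1
      have h2 : φ (⟨c, hc⟩ * (⟨e0, s.hEC he0⟩ ^ i)⁻¹) = 1 := by
        rw [map_mul, map_inv, map_pow, ← hf, hi, mul_inv_cancel]
      obtain ⟨l, hl⟩ := hker _ h2
      have h3 : c = (w : G) ^ l * e0 ^ i := by
        rw [← hl]; simp
      rw [h3]
      exact Subgroup.mul_mem _ (Subgroup.zpow_mem _ hwH l) (Subgroup.pow_mem _ heH i)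
    · rw [show n + 3 - 2 = n + 1 by omega, ← pow_mul, mul_comm, pow_mul, ← hwo,
        pow_orderOf_eq_one, one_pow]
    · exact (((show Commute (w : G) y from hwy).pow_left k).symm).eq
    · exact hab _ (s.hEC he0) _ hzC
    · rw [he0y, hk, ht, show n + 3 - 3 = n by omega, ← pow_mul, ← pow_mul, mul_comm k]
  · -- family (c)
    right
    have hRE : φ.range = s.E := by
      apply Subgroup.eq_of_le_of_card_ge
      · rintro _ ⟨c, rfl⟩
        exact hphi c
      · rw [hj, s.hEcard]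
    have hKcard : Nat.card φ.ker = p ^ n := by
      rw [hj] at hKR
      apply Nat.eq_of_mul_eq_mul_right (pow_pos hpp.pos 2)
      rw [hKR]; ring
    rw [hKcard] at hwo
    -- `Z` is contained in the kernel
    have hfw : ∃ i : ℤ, f = (w : G) ^ i := by
      have := hker ⟨f, s.hEC (s.hZE hfZ)⟩ ((s.phi_eq_one hab y _).2 (s.hZc f hfZ y))
      exact this
    have hn1 : 1 ≤ n := by
      rcases Nat.eq_zero_or_pos n with h0 | h0
      · exfalso
        rw [h0, pow_zero, orderOf_eq_one_iff] at hwo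
        obtain ⟨i, hi⟩ := hfw
        rw [hwo, one_zpow] at hi
        exact hf1 hi
      · exact h0
    obtain ⟨n, rfl⟩ : ∃ m, n = m + 1 := ⟨n - 1, by omega⟩
    -- the element `c` with `φ c = e0`
    obtain ⟨⟨c, hc⟩, hce0⟩ : e0 ∈ φ.range := hRE ▸ he0
    have hcy : y⁻¹ * c * y = c * e0 := by rw [← hce0]; exact s.conj_eq_phi hab y ⟨c, hc⟩
    have hcpker : φ (⟨c, hc⟩ ^ p) = 1 := by rw [map_pow, hce0, s.hEp e0 he0]
    obtain ⟨i, hi⟩ : ∃ i : ℕ, c ^ p = (w : G) ^ i := by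
      obtain ⟨i, hi⟩ := hker _ hcpker
      have hi' : c ^ p = (w : G) ^ i := hi
      have hwfin : IsOfFinOrder (w : G) := isOfFinOrder_of_finite _
      obtain ⟨m, hm⟩ := (hwfin.mem_powers_iff_mem_zpowers (y := c ^ p)).2 ⟨i, hi'.symm⟩
      exact ⟨m, hm.symm⟩
    have hpi : ¬ p ∣ i := by
      rintro ⟨j, rfl⟩
      have hcj : Commute c ((w : G) ^ j) := hab c hc _ (s.C.pow_mem w.2 j)
      have h1 : (c * ((w : G) ^ j)⁻¹) ^ p = 1 := by
        rw [hcj.inv_right.mul_pow, hi, inv_pow, ← pow_mul, mul_comm j p, mul_inv_cancel]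
      have h2 : c * ((w : G) ^ j)⁻¹ ∈ s.E :=
        s.hOm _ (s.C.mul_mem hc (s.C.inv_mem (s.C.pow_mem w.2 j))) h1
      have h3 : φ (⟨c, hc⟩ * (w ^ j)⁻¹) ∈ s.Z := s.phi_E hab y _ h2
      rw [map_mul, map_inv, map_pow, hw, one_pow, inv_one, mul_one, hce0] at h3
      exact he0Z h3
    -- `t = c ^ (p ^ (n + 1))`
    set t : G := c ^ (p ^ (n + 1)) with ht
    have htw : t = (w : G) ^ (i * p ^ n) := by
      rw [ht, pow_succ', pow_mul, hi, ← pow_mul]
    have htp : t ^ p = 1 := by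
      rw [htw, ← pow_mul, mul_assoc, ← pow_succ, mul_comm, pow_mul, ← hwo, pow_orderOf_eq_one,
        one_pow]
    have ht1 : t ≠ 1 := by
      intro h
      rw [htw] at h
      have h1 : orderOf (w : G) ∣ i * p ^ n := orderOf_dvd_of_pow_eq_one h
      rw [hwo, pow_succ', Nat.mul_dvd_mul_iff_right (pow_pos hpp.pos n)] at h1
      exact hpi h1
    have htZ : t ∈ s.Z := by
      refine s.mem_Z_of_pow_eq_one (s.C.pow_mem hc _) hy ?_ htp
      rw [htw]
      exact ((show Commute (w : G) y from hwy).pow_left _).eq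
    obtain ⟨σ, hσ⟩ := s.exists_pow_eq htZ ht1 hfZ
    have hpσ : ¬ p ∣ σ := by
      rintro ⟨m, rfl⟩
      rw [pow_mul, htp, one_pow] at hσ
      exact hf1 hσ
    have hce : Commute c e0 := hab c hc _ (s.hEC he0)
    -- generation
    have hgen : ∀ H : Subgroup G, y ∈ H → e0 ∈ H → c ∈ H → H = ⊤ := by
      intro H hyH heH hcH
      have hwH : (w : G) ∈ H := by
        refine mem_of_pow_pow (s := p ^ (n + 1)) (t := i) ?_ ?_ (hi ▸ H.pow_mem hcH p)
        · exact ((Nat.Prime.coprime_iff_not_dvd hpp).2 hpi).pow_left _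
        · rw [← hwo, pow_orderOf_eq_one]; exact Subgroup.one_mem _
      refine s.eq_top_of_le ?_ hyH hy
      intro d hd
      have h1 : φ ⟨d, hd⟩ ∈ s.E := hphi _
      obtain ⟨j, z, hz, hjz⟩ := s.exists_eq_pow_mul he0 he0Z h1
      obtain ⟨l, hl⟩ := s.exists_pow_eq hfZ hf1 hz
      have h2 : φ (⟨d, hd⟩ * (⟨c, hc⟩ ^ j * ⟨e0, s.hEC he0⟩ ^ l)⁻¹) = 1 := by
        rw [map_mul, map_inv, map_mul, map_pow, map_pow, ← hf, hce0, hjz, hl, mul_inv_cancel]
      obtain ⟨m, hm⟩ := hker _ h2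
      have h3 : d = (w : G) ^ m * (c ^ j * e0 ^ l) := by
        rw [← hm]
        simp only [Subgroup.coe_mul, Subgroup.coe_inv, Subgroup.coe_pow]
        group
      rw [h3]
      exact H.mul_mem (H.zpow_mem hwH m) (H.mul_mem (H.pow_mem hcH j) (H.pow_mem heH l))
    have hcn : c ^ p ^ (n + 1 + 3 - 2) = 1 := by
      rw [show n + 1 + 3 - 2 = n + 1 + 1 by omega, pow_succ p, pow_mul, ← ht, htp]
    have he3 : n + 1 + 3 - 3 = n + 1 := by omega
    refine ⟨by omega, ?_⟩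
    by_cases hsq : IsSquare (σ : ZMod p)
    · -- normalize to `s = 1`
      obtain ⟨r, hr⟩ := hsq
      have hr0 : r ≠ 0 := by
        rintro rfl
        rw [mul_zero, ZMod.natCast_eq_zero_iff] at hr
        exact hpσ hr
      set a : ℕ := (r⁻¹).val with ha
      have har : (a : ZMod p) = r⁻¹ := ZMod.natCast_zmod_val _
      have hpa : ¬ p ∣ a := by
        intro h
        rw [← ZMod.natCast_eq_zero_iff, har] at h
        exact hr0 (inv_eq_zero.1 h)
      have hmod : (((a ^ 2 * σ : ℕ)) : ZMod p) = (1 : ℕ) := by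
        push_cast
        rw [har, hr]
        field_simp
      have hfa : f ^ (a ^ 2) = t := by
        have h1 : a ^ 2 * σ ≡ 1 [MOD p] := (ZMod.natCast_eq_natCast_iff _ _ _).1 hmod
        have h2 : t ^ (a ^ 2 * σ) = t ^ 1 :=
          pow_eq_pow_iff_modEq.2 (h1.of_dvd (orderOf_dvd_of_pow_eq_one htp))
        rw [hσ, ← pow_mul, mul_comm, h2, pow_one]
      set y' : G := e0 ^ a * f ^ (a.choose 2) with hy'
      have hy'E : y' ∈ s.E := s.E.mul_mem (s.E.pow_mem he0 a) (s.E.pow_mem (s.hZE hfZ) _)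
      have hfy : y⁻¹ * f * y = f * 1 := by rw [mul_assoc, s.hZc _ hfZ y]; group
      have hconj1 := conj_pow_chain (a3 := 1) hcy he0y hfy (by simp)
        (s.hZc _ hfZ _).symm (Commute.one_right _) a
      have hconj2 := conj_pow_chain (a2 := 1) (a3 := 1) he0y hfy (by simp) (by simp)
        (Commute.one_right _) (Commute.one_right _) a
      rw [one_pow, mul_one] at hconj1
      rw [one_pow, one_pow, mul_one, mul_one] at hconj2
      refine ⟨1, y ^ a, y', c, Or.inl rfl, ?_, ?_, s.hEp _ hy'E, hcn, ?_, ?_, ?_⟩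
      · have hyH : y ^ a ∈ Subgroup.closure ({y ^ a, y', c} : Set G) :=
          Subgroup.subset_closure (by simp)
        have heH : y' ∈ Subgroup.closure ({y ^ a, y', c} : Set G) :=
          Subgroup.subset_closure (by simp)
        have hcH : c ∈ Subgroup.closure ({y ^ a, y', c} : Set G) :=
          Subgroup.subset_closure (by simp)
        have hcop : p.Coprime a := (Nat.Prime.coprime_iff_not_dvd hpp).2 hpa
        have hfH : f ∈ Subgroup.closure ({y ^ a, y', c} : Set G) := by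
          rw [hσ, ht]; exact Subgroup.pow_mem _ (Subgroup.pow_mem _ hcH _) _
        refine hgen _ ?_ ?_ hcH
        · exact mem_of_pow_pow hcop (by rw [hyp]; exact Subgroup.one_mem _) hyH
        · refine mem_of_pow_pow hcop (by rw [s.hEp e0 he0]; exact Subgroup.one_mem _) ?_
          rw [hy'] at heH
          exact (Subgroup.mul_mem_cancel_right _ (Subgroup.pow_mem _ hfH _)).1 heH
      · rw [← pow_mul, mul_comm, pow_mul, hyp, one_pow]
      · exact (hab _ (s.hEC hy'E) _ hc)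
      · rw [one_mul, he3, ← ht, ← hfa, hy']
        have h1 : (y ^ a)⁻¹ * (e0 ^ a * f ^ (a.choose 2)) * y ^ a =
            ((y ^ a)⁻¹ * e0 * y ^ a) ^ a * f ^ (a.choose 2) := by
          rw [← conj_pow_eq]
          have h2 : f ^ (a.choose 2) * y ^ a = y ^ a * f ^ (a.choose 2) :=
            s.hZc _ (s.Z.pow_mem hfZ _) _
          calc (y ^ a)⁻¹ * (e0 ^ a * f ^ (a.choose 2)) * y ^ a
              = (y ^ a)⁻¹ * e0 ^ a * (f ^ (a.choose 2) * y ^ a) := by simp only [mul_assoc]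
            _ = _ := by rw [h2]; simp only [mul_assoc]
        have h3 : Commute e0 (f ^ a) := (s.hZc _ (s.Z.pow_mem hfZ a) _).symm
        rw [h1, hconj2, h3.mul_pow, ← pow_mul, ← sq, mul_assoc, mul_assoc,
          ← pow_add, ← pow_add, add_comm]
      · rw [hconj1, hy']
        have h1 : Commute c (e0 ^ a * f ^ (a.choose 2)) :=
          (hce.pow_right a).mul_right (s.hZc _ (s.Z.pow_mem hfZ _) _).symm
        rw [mul_assoc, h1.eq]
    · refine ⟨σ, y, e0, c, Or.inr hsq, ?_, hyp, s.hEp e0 he0, hcn, hce.symm.eq, ?_, ?_⟩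
      · exact hgen _ (Subgroup.subset_closure (by simp)) (Subgroup.subset_closure (by simp))
          (Subgroup.subset_closure (by simp))
      · rw [he0y, hσ, ht, he3, ← pow_mul, mul_comm σ]
      · rw [hcy, hce.eq]

end Setup

end Cfsg.Agent.H472.RankTwo
end

-- part: H472/RankTwoE
section
/-!
# `p`-groups of rank at most two, `p` odd (Blackburn)

`exists_setup` : a non-metacyclic `p`-group of rank at most 2, `p` odd, has a `Setup`.
`main` : the classification.
-/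

set_option autoImplicit false

namespace Cfsg.Agent.H472.RankTwo

open Cfsg.Agent.H472.PCentral

universe u

section

variable {p : ℕ} [hpf : Fact p.Prime] {G : Type u} [Group G] [Finite G]

omit [Finite G] in
theorem eq_pow_mul_of_card {Z E : Subgroup G} (hZcard : Nat.card Z = p)
    (hEcard : Nat.card E = p ^ 2) (hZE : Z ≤ E) (hZc : ∀ z ∈ Z, ∀ g : G, z * g = g * z)
    {e0 : G} (he0 : e0 ∈ E) (he0Z : e0 ∉ Z) {e : G} (he : e ∈ E) :
    ∃ i : ℕ, ∃ z ∈ Z, e = e0 ^ i * z := by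
  have hpp : p.Prime := hpf.out
  have hZn : (Z.subgroupOf E).Normal := by
    refine ⟨fun n hn g => ?_⟩
    rw [Subgroup.mem_subgroupOf] at hn ⊢
    have : ((g * n * g⁻¹ : ↥E) : G) = n := by
      push_cast
      rw [← hZc _ hn (g : G)]; group
    rw [this]; exact hn
  have hcard : Nat.card (↥E ⧸ Z.subgroupOf E) = p := by
    have h1 := (Z.subgroupOf E).card_eq_card_quotient_mul_card_subgroup
    rw [hEcard, Nat.card_congr (Subgroup.subgroupOfEquivOfLe hZE).toEquiv, hZcard, sq] at h1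
    exact (Nat.eq_of_mul_eq_mul_right hpp.pos h1).symm
  obtain ⟨i, hi⟩ := mem_powers_of_prime_card (p := p) hcard
    (g := (QuotientGroup.mk (⟨e0, he0⟩ : ↥E))) (g' := QuotientGroup.mk (⟨e, he⟩ : ↥E)) (by
      intro h
      rw [QuotientGroup.eq_one_iff, Subgroup.mem_subgroupOf] at h
      exact he0Z h)
  simp only at hi
  rw [← QuotientGroup.mk_pow, QuotientGroup.eq, Subgroup.mem_subgroupOf] at hi
  exact ⟨i, _, hi, by simp⟩

/-- `[E, G] ≤ Z` -/
theorem comm_mem_of_card {Z E : Subgroup G} (hG : IsPGroup p G) (hEn : E.Normal)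
    (hZcard : Nat.card Z = p)
    (hEcard : Nat.card E = p ^ 2) (hZE : Z ≤ E) (hZc : ∀ z ∈ Z, ∀ g : G, z * g = g * z)
    {e : G} (he : e ∈ E) (g : G) : e⁻¹ * g⁻¹ * e * g ∈ Z := by
  have hpp : p.Prime := hpf.out
  have hZn : Z.Normal := by
    refine ⟨fun n hn g => ?_⟩
    have : g * n * g⁻¹ = n := by rw [← hZc _ hn g]; group
    rw [this]; exact hn
  have hEbn : (E.map (QuotientGroup.mk' Z)).Normal := hEn.map _ (QuotientGroup.mk'_surjective Z)
  have hcard : Nat.card (E.map (QuotientGroup.mk' Z)) = p := by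
    have h1 := (E.map (QuotientGroup.mk' Z)).card_mul_index
    rw [Subgroup.index_map_eq E (QuotientGroup.mk'_surjective Z)
      (by rw [QuotientGroup.ker_mk']; exact hZE)] at h1
    have h2 := E.card_mul_index
    have h3 := Z.card_eq_card_quotient_mul_card_subgroup
    rw [hEcard] at h2
    rw [hZcard, ← h2, ← h1] at h3
    have h4 : 0 < E.index := Nat.pos_of_ne_zero Subgroup.index_ne_zero_of_finite
    have h5 : Nat.card (E.map (QuotientGroup.mk' Z)) * (E.index * p) = p * (E.index * p) := by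
      rw [← mul_assoc, ← h3]; ring
    exact Nat.eq_of_mul_eq_mul_right (Nat.mul_pos h4 hpp.pos) h5
  have hne : E.map (QuotientGroup.mk' Z) ≠ ⊥ := by
    intro h
    rw [h, Subgroup.card_bot] at hcard
    exact hpp.one_lt.ne hcard
  obtain ⟨Y, hYE, hYc, hYcard⟩ := Cfsg.Agent.Transfer.TausskyTwoGroup.exists_central_card_prime_le
    (hG.to_quotient Z) _ hne
  have hYeq : Y = E.map (QuotientGroup.mk' Z) :=
    Subgroup.eq_of_le_of_card_ge hYE (by rw [hcard, hYcard])
  have h1 : (QuotientGroup.mk e : G ⧸ Z) ∈ Subgroup.center (G ⧸ Z) :=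
    hYc (hYeq ▸ ⟨e, he, rfl⟩)
  have h2 := Subgroup.mem_center_iff.1 h1 (QuotientGroup.mk g)
  rw [← QuotientGroup.mk_mul, ← QuotientGroup.mk_mul, QuotientGroup.eq] at h2
  have h3 : e⁻¹ * g⁻¹ * e * g = (g * e)⁻¹ * (e * g) := by group
  rw [h3]; exact h2

theorem isMetacyclic_of_isCyclic {G : Type u} [Group G] (h : IsCyclic G) : Cfsg.IsMetacyclic G :=
  ⟨⊤, inferInstance, inferInstance, by
    have : Subsingleton (G ⧸ (⊤ : Subgroup G)) := QuotientGroup.subsingleton_quotient_top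
    infer_instance⟩

omit hpf [Finite G] in
theorem closure_pow_normal {C : Subgroup G} (hC : C.Normal) :
    (Subgroup.closure {y | ∃ c ∈ C, y = c ^ p}).Normal := by
  refine ⟨fun n hn g => ?_⟩
  have h1 : Subgroup.closure {y | ∃ c ∈ C, y = c ^ p} ≤
      (Subgroup.closure {y | ∃ c ∈ C, y = c ^ p}).comap (MulAut.conj g).toMonoidHom := by
    rw [Subgroup.closure_le]
    rintro _ ⟨c, hc, rfl⟩
    rw [SetLike.mem_coe, Subgroup.mem_comap]
    apply Subgroup.subset_closure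
    refine ⟨g * c * g⁻¹, hC.conj_mem c hc g, ?_⟩
    simp [conj_pow]
  simpa using h1 hn

theorem exists_setup (hp2 : p ≠ 2) (hG : IsPGroup p G) (hrk : Cfsg.PRankLE p 2 G)
    (hnm : ¬ Cfsg.IsMetacyclic G) : Nonempty (Setup p G) := by
  have hpp : p.Prime := hpf.out
  have hnc : ¬ IsCyclic G := fun h => hnm (isMetacyclic_of_isCyclic h)
  obtain ⟨E, hEn, ⟨hEab, hEp⟩, hEcard⟩ := Cfsg.Agent.S0126.result hp2 hG hnc
  have hEne : E ≠ ⊥ := by
    intro h
    rw [h, Subgroup.card_bot] at hEcard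
    have := Nat.one_lt_pow (n := 2) (by norm_num) hpp.one_lt
    omega
  obtain ⟨Z, hZE, hZcen, hZcard⟩ :=
    Cfsg.Agent.Transfer.TausskyTwoGroup.exists_central_card_prime_le hG E hEne
  have hZc : ∀ z ∈ Z, ∀ g : G, z * g = g * z := fun z hz g =>
    (Subgroup.mem_center_iff.1 (hZcen hz) g).symm
  have hEx : ∀ e ∈ E, ∀ g, e⁻¹ * g⁻¹ * e * g ∈ Z := fun e he g =>
    comm_mem_of_card hG hEn hZcard hEcard hZE hZc he g
  have hEC : E ≤ Subgroup.centralizer (E : Set G) := by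
    intro e he
    rw [Subgroup.mem_centralizer_iff]
    intro f hf
    exact setLike_mul_comm hf he
  set C : Subgroup G := Subgroup.centralizer (E : Set G) with hC
  have hCE : ∀ c ∈ C, ∀ e ∈ E, c * e = e * c := fun c hc e he =>
    ((Subgroup.mem_centralizer_iff.1 hc) e he).symm
  have hCn : C.Normal := by rw [hC]; infer_instance
  -- elements commuting with an element of `E` outside `Z`
  have hmemC : ∀ e ∈ E, e ∉ Z → ∀ g, e * g = g * e → g ∈ C := by
    intro e he heZ g heg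
    rw [hC, Subgroup.mem_centralizer_iff]
    intro f hf
    obtain ⟨i, z, hz, rfl⟩ := eq_pow_mul_of_card hZcard hEcard hZE hZc he heZ hf
    exact (((show Commute e g from heg).pow_left i).mul_left (hZc z hz g)).eq
  -- elements of order `p`
  have hOm : ∀ c ∈ C, c ^ p = 1 → c ∈ E := by
    intro c hc hcp
    by_contra hcE
    have hcomm : ∀ e ∈ E, ∀ i : ℤ, c ^ i * e = e * c ^ i := fun e he i =>
      ((show Commute c e from hCE c hc e he).zpow_left i).eq
    let A : Subgroup G :=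
      { carrier := {x | ∃ e ∈ E, ∃ i : ℤ, x = e * c ^ i}
        one_mem' := ⟨1, E.one_mem, 0, by simp⟩
        mul_mem' := by
          rintro _ _ ⟨e, he, i, rfl⟩ ⟨f, hf, j, rfl⟩
          refine ⟨e * f, E.mul_mem he hf, i + j, ?_⟩
          rw [zpow_add]
          calc e * c ^ i * (f * c ^ j) = e * (c ^ i * f) * c ^ j := by simp only [mul_assoc]
            _ = e * (f * c ^ i) * c ^ j := by rw [hcomm f hf i]
            _ = _ := by simp only [mul_assoc]
        inv_mem' := by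
          rintro _ ⟨e, he, i, rfl⟩
          refine ⟨e⁻¹, E.inv_mem he, -i, ?_⟩
          rw [mul_inv_rev, ← zpow_neg, hcomm _ (E.inv_mem he)] }
    have hAcomm : ∀ x ∈ A, ∀ y ∈ A, x * y = y * x := by
      rintro _ ⟨e, he, i, rfl⟩ _ ⟨f, hf, j, rfl⟩
      have h1 : Commute e f := setLike_mul_comm he hf
      have h2 : Commute (c ^ i) f := hcomm f hf i
      have h3 : Commute (c ^ j) e := hcomm e he j
      have h4 : Commute (c ^ i) (c ^ j) := (Commute.refl c).zpow_zpow i j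
      exact ((h1.mul_right h3.symm).mul_left (h2.mul_right h4)).eq
    have hAp : ∀ a ∈ A, a ^ p = 1 := by
      rintro _ ⟨e, he, i, rfl⟩
      have h1 : Commute e (c ^ i) := (hcomm e he i).symm
      rw [h1.mul_pow, hEp e he, one_mul, ← zpow_natCast, ← zpow_mul, mul_comm, zpow_mul,
        zpow_natCast, hcp, one_zpow]
    have hcard := hrk A ⟨⟨fun a b => Subtype.ext (hAcomm a a.2 b b.2)⟩⟩ hAp
    have hlt : E < A := by
      refine lt_of_le_of_ne (fun e he => ⟨e, he, 0, by simp⟩) ?_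
      intro h
      apply hcE
      rw [h]
      exact ⟨1, E.one_mem, 1, by simp⟩
    have h3 : Nat.card E < Nat.card A := Set.ncard_lt_ncard (by exact_mod_cast hlt)
    rw [hEcard] at h3
    omega
  have hPC : PC p ↥C := by
    intro c hc g
    have h1 : (c : G) ^ p = 1 := congrArg Subtype.val hc
    exact Subtype.ext (hCE g g.2 c (hOm c c.2 h1)).symm
  have homcard : Nat.card (om hPC) ≤ p ^ 2 := by
    rw [← hEcard]
    let F : om hPC → E := fun x => ⟨((x : ↥C) : G), hOm _ x.1.2 (by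
      have h1 : (x : ↥C) ^ p = 1 := x.2
      exact congrArg Subtype.val h1)⟩
    apply Nat.card_le_card_of_injective F
    intro x y h
    have h' : (x.1.1 : G) = y.1.1 := congrArg (fun t : ↥E => (t : G)) h
    exact Subtype.ext (Subtype.ext h')
  -- the index of `C`
  obtain ⟨e0, he0, he0Z⟩ : ∃ e ∈ E, e ∉ Z := by
    by_contra h
    push Not at h
    have h1 := Subgroup.card_le_of_le (show E ≤ Z from h)
    rw [hEcard, hZcard] at h1
    have h4 := hpp.two_le
    nlinarith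
  have hidx : C.index ≤ p := by
    rw [Subgroup.index, ← hZcard]
    let F : G ⧸ C → Z := fun q => ⟨e0⁻¹ * q.out⁻¹ * e0 * q.out, hEx e0 he0 _⟩
    apply Nat.card_le_card_of_injective F
    intro q r h
    have h1 : e0⁻¹ * q.out⁻¹ * e0 * q.out = e0⁻¹ * r.out⁻¹ * e0 * r.out := congrArg Subtype.val h
    have h2 : q.out⁻¹ * e0 * q.out = r.out⁻¹ * e0 * r.out := by
      have := congrArg (fun t => e0 * t) h1
      simpa only [← mul_assoc, mul_inv_cancel, one_mul] using this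
    have h3 : e0 * (q.out * r.out⁻¹) = (q.out * r.out⁻¹) * e0 := by
      calc e0 * (q.out * r.out⁻¹) = q.out * (q.out⁻¹ * e0 * q.out) * r.out⁻¹ := by group
        _ = q.out * (r.out⁻¹ * e0 * r.out) * r.out⁻¹ := by rw [h2]
        _ = _ := by group
    have h4 : q.out * r.out⁻¹ ∈ C := hmemC e0 he0 he0Z _ h3
    have h5 : q.out⁻¹ * r.out ∈ C := by
      have := hCn.conj_mem _ (C.inv_mem h4) q.out⁻¹
      have h6 : q.out⁻¹ * (q.out * r.out⁻¹)⁻¹ * q.out⁻¹⁻¹ = q.out⁻¹ * r.out := by group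
      rwa [h6] at this
    rw [← QuotientGroup.out_eq' q, ← QuotientGroup.out_eq' r, QuotientGroup.eq]
    exact h5
  have hCtop : C ≠ ⊤ := by
    intro h
    have hPG : PC p G := fun c hc g => (hCE g (h ▸ Subgroup.mem_top g) c
      (hOm c (h ▸ Subgroup.mem_top c) hc)).symm
    refine hnm (isMetacyclic hp2 hG hPG ?_)
    rw [← hEcard]
    apply Subgroup.card_le_of_le
    intro c hc
    exact hOm c (h ▸ Subgroup.mem_top c) hc
  have hCi : C.index = p := by
    obtain ⟨k, hk⟩ := hG.index C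
    rcases Nat.lt_or_ge k 1 with h0 | h0
    · exfalso
      have : k = 0 := by omega
      rw [this, pow_zero] at hk
      exact hCtop (Subgroup.index_eq_one.1 hk)
    · have h1 : p ^ k ≤ p ^ 1 := by rw [pow_one, ← hk]; exact hidx
      have h2 := (Nat.pow_le_pow_iff_right hpp.one_lt).1 h1
      rw [hk, show k = 1 by omega, pow_one]
  -- the `p`-th powers
  have hrel : ∀ T : Subgroup G, T.Normal → (∀ c ∈ C, c ^ p ∈ T) → (T ⊓ C).index ≤ p ^ 3 := by
    intro T hT hTp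
    have h1 := index_le hp2 (hG.to_subgroup C) hPC (T.subgroupOf C) inferInstance
      (fun c => by rw [Subgroup.mem_subgroupOf]; exact hTp c c.2)
    have h2 : (T ⊓ C).relIndex C * C.index = (T ⊓ C).index := Subgroup.relIndex_mul_index inf_le_right
    rw [Subgroup.inf_relIndex_right, hCi] at h2
    rw [← h2, pow_succ p 2]
    exact Nat.mul_le_mul (h1.trans homcard) le_rfl
  obtain ⟨T, hTn, hTp, hTi⟩ : ∃ T : Subgroup G, T.Normal ∧ (∀ x : G, x ^ p ∈ T) ∧ p ^ 2 < T.index := by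
    by_contra h
    push Not at h
    exact hnm (Cfsg.Agent.PLocal.Huppert.isMetacyclic_of_quotients hp2 hG h)
  have hTi3 : p ^ 3 ≤ T.index := by
    obtain ⟨k, hk⟩ := hG.index T
    rw [hk] at hTi ⊢
    exact Nat.pow_le_pow_right hpp.pos ((Nat.pow_lt_pow_iff_right hpp.one_lt).1 hTi)
  have hTle : T ≤ C := by
    have h1 := hrel T hTn (fun c _ => hTp c)
    have h2 : (T ⊓ C).index = T.index := by
      apply le_antisymm (h1.trans hTi3)
      exact Nat.le_of_dvd (Nat.pos_of_ne_zero Subgroup.index_ne_zero_of_finite)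
        (Subgroup.index_dvd_of_le inf_le_left)
    have h3 := Subgroup.relIndex_mul_index (inf_le_left : T ⊓ C ≤ T)
    rw [h2] at h3
    have h4 : (T ⊓ C).relIndex T = 1 := by
      apply Nat.eq_of_mul_eq_mul_right (Nat.pos_of_ne_zero (Subgroup.index_ne_zero_of_finite (H := T)))
      rw [h3, one_mul]
    exact (Subgroup.relIndex_eq_one.1 h4).trans inf_le_right
  set T0 : Subgroup G := Subgroup.closure {y | ∃ c ∈ C, y = c ^ p} with hT0
  have hT0n : T0.Normal := closure_pow_normal hCn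
  have hT0T : T0 ≤ T := by
    rw [hT0, Subgroup.closure_le]
    rintro _ ⟨c, -, rfl⟩
    exact hTp c
  have hT0eq : T0 = T := by
    have h1 := hrel T0 hT0n (fun c hc => Subgroup.subset_closure ⟨c, hc, rfl⟩)
    rw [inf_eq_left.2 (hT0T.trans hTle)] at h1
    have h2 : T0.index = T.index := by
      apply le_antisymm (h1.trans hTi3)
      exact Nat.le_of_dvd (Nat.pos_of_ne_zero Subgroup.index_ne_zero_of_finite)
        (Subgroup.index_dvd_of_le hT0T)
    have h3 := Subgroup.relIndex_mul_index hT0T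
    rw [h2] at h3
    have h4 : T0.relIndex T = 1 := by
      apply Nat.eq_of_mul_eq_mul_right (Nat.pos_of_ne_zero (Subgroup.index_ne_zero_of_finite (H := T)))
      rw [h3, one_mul]
    exact le_antisymm hT0T (Subgroup.relIndex_eq_one.1 h4)
  exact ⟨{ Z := Z, E := E, C := C, hp2 := hp2, hG := hG, hZcard := hZcard, hZc := hZc, hZE := hZE,
           hEn := hEn, hEcard := hEcard, hEp := hEp, hEC := hEC, hCE := hCE, hCn := hCn, hCi := hCi,
           hOm := hOm,
           hZx := fun e he g hg heg => by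
             by_contra heZ
             exact hg (hmemC e he heZ g heg)
           hEx := hEx
           hpow := fun g => by rw [← hT0, hT0eq]; exact hTp g }⟩

/-- **Blackburn**: `p`-groups of rank at most two, `p` odd. -/
theorem main (hp2 : p ≠ 2) (n : ℕ) (hG : Nat.card G = p ^ n) (hrk : Cfsg.PRankLE p 2 G) :
    Cfsg.IsMetacyclic G ∨ Setup.IsB n p G ∨ Setup.IsC n p G ∨
      (p = 3 ∧ 2 ≤ n ∧ (⊤ : Subgroup G).lowerCentralSeries (n - 2) ≠ ⊥) := by
  have hpp : p.Prime := hpf.out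
  by_cases hm : Cfsg.IsMetacyclic G
  · exact Or.inl hm
  right
  have hGp : IsPGroup p G := IsPGroup.of_card hG
  obtain ⟨s⟩ := exists_setup hp2 hGp hrk hm
  have hn3 : 3 ≤ n := by
    have hC1 : Nat.card s.C * p = p ^ n := by
      have := s.C.card_mul_index
      rwa [s.hCi, hG] at this
    have h1 : p ^ 2 ∣ Nat.card s.C := by
      have := Subgroup.card_dvd_of_le s.hEC
      rwa [s.hEcard] at this
    have h2 : p ^ 3 ∣ p ^ n := by
      rw [← hC1, pow_succ]; exact Nat.mul_dvd_mul_right h1 p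
    exact (Nat.pow_dvd_pow_iff_le_right hpp.one_lt).1 h2
  obtain ⟨x, hx⟩ : ∃ x, x ∉ s.C := by
    by_contra h
    push Not at h
    have h1 : s.C = ⊤ := (Subgroup.eq_top_iff' _).2 h
    have h2 := s.hCi
    rw [h1, Subgroup.index_top] at h2
    exact hpp.one_lt.ne h2
  have hcl : p = 3 ∧ Group.nilpotencyClass G = n - 1 →
      (p = 3 ∧ 2 ≤ n ∧ (⊤ : Subgroup G).lowerCentralSeries (n - 2) ≠ ⊥) := by
    rintro ⟨h3, hc⟩
    refine ⟨h3, by omega, fun h => ?_⟩
    have hnil : Group.IsNilpotent G := hGp.isNilpotent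
    have := Subgroup.lowerCentralSeries_eq_bot_iff_nilpotencyClass_le.1 h
    omega
  by_cases hsm : ∀ a ∈ s.C, a ^ p ∈ s.E → a ^ p ∈ s.Z
  · obtain ⟨c0, hc0, hgen⟩ := s.exists_generator hsm
    have hab := s.comm_of_generator hc0 hgen
    rcases s.exists_order_p hab hG hx with ⟨y, hy, hyp⟩ | h
    · rcases s.isB_or_isC hab hG hy hyp (s.phi_mem_E hsm hab hc0 hgen hyp) with h | h
      · exact Or.inl h
      · exact Or.inr (Or.inl h)
    · exact Or.inr (Or.inr (hcl h))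
  · push Not at hsm
    obtain ⟨a, ha, hap, haZ⟩ := hsm
    obtain ⟨h3, hb⟩ := s.large_case ha hap haZ hx
    exact Or.inr (Or.inr (hcl ⟨h3, s.class_eq hG hx hb⟩))

end

end Cfsg.Agent.H472.RankTwo
end

-- part: S3888
section
set_option autoImplicit false
open Cfsg

namespace Cfsg.Agent.S3888

/-- The classification of the p-groups of rank at most two for odd p. Let p be an odd prime and G a group of order p^n with no elementary abelian subgroup of order p³. Then one of the following holds: G is metacyclic; n ≥ 3 and G is generated by elements x, y, z with x^p = y^p = z^(p^(n−2)) = 1, z commuting with x and y, and x⁻¹yx = y z^(p^(n−3)); n ≥ 4 and G is generated by elements x, y, z with x^p = y^p = z^(p^(n−2)) = 1, yz = zy, x⁻¹yx = y z^(s p^(n−3)) and x⁻¹zx = yz, where s = 1 or s is a quadratic non-residue modulo p; or p = 3 and G has maximal class (nilpotency class n − 1). -/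
theorem result {G : Type*} [Group G] [Finite G] {p : ℕ} [Fact p.Prime] (hp : p ≠ 2) (n : ℕ) (hG : Nat.card G = p ^ n)
    (hrk : Cfsg.PRankLE p 2 G) :
    Cfsg.IsMetacyclic G ∨
    (3 ≤ n ∧ ∃ x y z : G, Subgroup.closure ({x, y, z} : Set G) = ⊤ ∧ x ^ p = 1 ∧ y ^ p = 1 ∧ z ^ p ^ (n - 2) = 1 ∧
        x * z = z * x ∧ y * z = z * y ∧ x⁻¹ * y * x = y * z ^ p ^ (n - 3)) ∨
    (4 ≤ n ∧ ∃ (s : ℕ) (x y z : G), (s = 1 ∨ ¬ IsSquare (s : ZMod p)) ∧ Subgroup.closure ({x, y, z} : Set G) = ⊤ ∧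
        x ^ p = 1 ∧ y ^ p = 1 ∧ z ^ p ^ (n - 2) = 1 ∧ y * z = z * y ∧ x⁻¹ * y * x = y * z ^ (s * p ^ (n - 3)) ∧
        x⁻¹ * z * x = y * z) ∨
    (p = 3 ∧ 2 ≤ n ∧ (⊤ : Subgroup G).lowerCentralSeries (n - 2) ≠ ⊥) := by
  exact Cfsg.Agent.H472.RankTwo.main hp n hG hrk

end Cfsg.Agent.S3888
end
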