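import Mathlib
import Cfsg.Prelude.Def_CaseTheorems
import Cfsg.Prelude.Def_OddOrderLocal
import Cfsg.Agent.Lib.FrattiniPGroup
import Cfsg.Agent.S0014
import Cfsg.Agent.Transfer.PGroupChain
import Cfsg.Agent.S3888
import Cfsg.Agent.S2792
import Cfsg.Agent.Lib.CoprimeStab
import Cfsg.Agent.Lib.CoprimeAbelian
import Cfsg.Agent.S1447
import Cfsg.Agent.S1386
import Cfsg.Agent.S1459
import Cfsg.Agent.J2Type.ExtCube
import Cfsg.Statements.S3038
import Cfsg.Agent.S3049
import Cfsg.Agent.OddOrderLocal.RankOneCyclic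
set_option linter.all false

-- part: H271/RankTwoTr
section
/-!
# `p`-groups of rank at most two, `p` odd: the transfer criterion of Wielandt and Yoshida

`tr` : `W` a maximal subgroup of `G`, `[u, z, z] ∈ Φ(W)` for all `u`, `z` in `G`.
`control` : a Sylow `p`-subgroup of rank at most two: `S ∩ G' = S ∩ N(S)'`.
-/

set_option autoImplicit false

namespace Cfsg.Agent.H271.RankTwoTr

open Cfsg Subgroup

section basic

variable {G : Type*} [Group G] [Finite G] {p : ℕ} [hpp : Fact p.Prime]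

/-- A nontrivial normal subgroup of a `p`-group properly contains its commutator with the group. -/
theorem commutator_lt (hG : IsPGroup p G) (N : Subgroup G) [N.Normal] (hN : N ≠ ⊥) : ⁅N, (⊤ : Subgroup G)⁆ < N := by
  have hnil : Group.IsNilpotent G := hG.isNilpotent
  exact Cfsg.Agent.Transfer.PGroupChain.commutator_top_lt N hN

/-- A normal subgroup of order at most `p²` of a `p`-group. -/
theorem comm_comm_eq_bot (hG : IsPGroup p G) (N : Subgroup G) [N.Normal] (hN : Nat.card N ≤ p ^ 2) :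
    ⁅⁅N, (⊤ : Subgroup G)⁆, (⊤ : Subgroup G)⁆ = ⊥ := by
  have key : ∀ (k : ℕ) (M : Subgroup G) [M.Normal], Nat.card M ≤ p ^ (k + 1) → Nat.card (⁅M, (⊤ : Subgroup G)⁆ : Subgroup G) ≤ p ^ k := by
    intro k M hM h
    by_cases hb : M = ⊥
    · subst hb
      rw [Subgroup.commutator_bot_left, Subgroup.card_bot]
      exact Nat.one_le_pow _ _ hpp.out.pos
    have h1 := commutator_lt hG M hb
    obtain ⟨a, ha⟩ := IsPGroup.iff_card.1 (hG.to_subgroup M)
    obtain ⟨b, hb⟩ := IsPGroup.iff_card.1 (hG.to_subgroup (⁅M, (⊤ : Subgroup G)⁆ : Subgroup G))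
    have h2 : Nat.card (⁅M, (⊤ : Subgroup G)⁆ : Subgroup G) < Nat.card M := by
      apply lt_of_le_of_ne (Subgroup.card_le_of_le h1.le)
      intro h
      exact h1.ne (Subgroup.eq_of_le_of_card_ge h1.le h.ge)
    rw [ha, hb] at h2
    rw [ha] at h
    rw [hb]
    have h3 := (Nat.pow_lt_pow_iff_right hpp.out.one_lt).mp h2
    have h4 := (Nat.pow_le_pow_iff_right hpp.out.one_lt).mp h
    exact Nat.pow_le_pow_right hpp.out.pos (by omega)
  have h1 := key 1 N hN
  have h2 := key 0 (⁅N, (⊤ : Subgroup G)⁆) h1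
  rw [pow_zero] at h2
  exact Subgroup.eq_bot_of_card_le _ h2

/-- the commutator `y⁻¹ z⁻¹ y z` -/
def cm (z y : G) : G := y⁻¹ * z⁻¹ * y * z

theorem cm_mem {N : Subgroup G} (hN : N.Normal) (z : G) {y : G} (hy : y ∈ N) : cm z y ∈ N := by
  have : cm z y = y⁻¹ * (z⁻¹ * y * z⁻¹⁻¹) := by rw [cm, inv_inv]; group
  rw [this]
  exact N.mul_mem (N.inv_mem hy) (hN.conj_mem y hy z⁻¹)

theorem cm_mem_commutator {M : Subgroup G} (z : G) {y : G} (hy : y ∈ M) : cm z y ∈ ⁅M, (⊤ : Subgroup G)⁆ := by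
  have := Subgroup.commutator_mem_commutator (M.inv_mem hy) (Subgroup.mem_top (z⁻¹ : G))
  rw [commutatorElement_def, inv_inv, inv_inv] at this
  exact this

/-- The main computation. -/
theorem core (hG : IsPGroup p G) (Φ W N C : Subgroup G) [hΦ : Φ.Normal] [hN : N.Normal] (hWW : ⁅W, W⁆ ≤ Φ)
    (hW : IsCoatom W) (hcard : Nat.card (N.map (QuotientGroup.mk' Φ)) ≤ p ^ 2)
    (hC : ⁅C, (⊤ : Subgroup G)⁆ ≤ Φ) (hWNC : W ≤ N ⊔ C) (u z : G) : cm z (cm z u) ∈ Φ := by
  have hWn : W.Normal := Lib.FrattiniPGroup.normal_of_coatom hG hW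
  by_cases hz : z ∈ W
  · have h1 : cm z u ∈ W := by
      have : cm z u = (u⁻¹ * z⁻¹ * u⁻¹⁻¹) * z := by rw [cm, inv_inv]
      rw [this]
      exact W.mul_mem (hWn.conj_mem _ (W.inv_mem hz) _) hz
    have h2 := Subgroup.commutator_mem_commutator (W.inv_mem h1) (W.inv_mem hz)
    rw [commutatorElement_def, inv_inv, inv_inv] at h2
    exact hWW h2
  · have htop : W ⊔ Subgroup.zpowers z = ⊤ := by
      apply hW.2
      refine lt_of_le_of_ne le_sup_left ?_
      intro h
      apply hz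
      rw [h]
      exact (le_sup_right : Subgroup.zpowers z ≤ W ⊔ Subgroup.zpowers z) (Subgroup.mem_zpowers z)
    have hu : u ∈ W ⊔ Subgroup.zpowers z := by rw [htop]; trivial
    obtain ⟨w, hw, y, hy, rfl⟩ := Subgroup.mem_sup_of_normal_left.mp hu
    obtain ⟨n, hn, c, hc, rfl⟩ := Subgroup.mem_sup_of_normal_left.mp (hWNC hw)
    obtain ⟨i, rfl⟩ := hy
    -- pass to the quotient
    let π := QuotientGroup.mk' Φ
    have hπ : ∀ g, π g = 1 ↔ g ∈ Φ := fun g => QuotientGroup.eq_one_iff g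
    have hcc : ∀ g : G, π c * π g = π g * π c := by
      intro g
      have h1 : π (c * g * c⁻¹ * g⁻¹) = 1 := by
        rw [hπ]
        apply hC
        have := Subgroup.commutator_mem_commutator hc (Subgroup.mem_top g)
        rwa [commutatorElement_def] at this
      rw [map_mul, map_mul, map_mul, map_inv, map_inv, mul_inv_eq_one, mul_inv_eq_iff_eq_mul] at h1
      exact h1
    have hNn : (N.map π).Normal := Subgroup.Normal.map hN _ (QuotientGroup.mk'_surjective Φ)
    have hQp : IsPGroup p (G ⧸ Φ) := hG.to_quotient Φ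
    have hbot := comm_comm_eq_bot hQp (N.map π) hcard
    show cm z (cm z ((n * c) * z ^ i)) ∈ Φ
    rw [← hπ]
    have e1 : π (cm z (n * c * z ^ i)) = (π z ^ i)⁻¹ * cm (π z) (π n) * π z ^ i := by
      have h1 : cm z (n * c * z ^ i) = (z ^ i)⁻¹ * (c⁻¹ * ((n⁻¹ * z⁻¹ * n) * c)) * z * z ^ i := by
        rw [cm]; group
      have h2 : π (c⁻¹ * ((n⁻¹ * z⁻¹ * n) * c)) = π (n⁻¹ * z⁻¹ * n) := by
        rw [map_mul, map_mul π _ c, ← hcc, map_inv, inv_mul_cancel_left]
      rw [h1, map_mul, map_mul, map_mul, h2]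
      simp only [map_mul, map_inv, map_zpow, cm]
      group
    have e2 : π (cm z (cm z (n * c * z ^ i))) = cm (π z) (π (cm z (n * c * z ^ i))) := by
      simp only [cm, map_mul, map_inv]
    rw [e2]
    have h3 : π (cm z (n * c * z ^ i)) ∈ (⁅N.map π, (⊤ : Subgroup (G ⧸ Φ))⁆ : Subgroup (G ⧸ Φ)) := by
      rw [e1]
      have h4 : (⁅N.map π, (⊤ : Subgroup (G ⧸ Φ))⁆ : Subgroup (G ⧸ Φ)).Normal := inferInstance
      have h5 := h4.conj_mem (cm (π z) (π n)) (cm_mem_commutator (π z) ⟨n, hn, rfl⟩) (π z ^ i)⁻¹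
      rwa [inv_inv] at h5
    have h6 := cm_mem_commutator (π z) h3
    rw [hbot, Subgroup.mem_bot] at h6
    exact h6

end basic

section tr

variable {G : Type*} [Group G] [Finite G] {p : ℕ} [hpp : Fact p.Prime]

/-- index of the Frattini subgroup of a group generated by two elements -/
theorem index_le_of_two {W : Type*} [Group W] [Finite W] (hW : IsPGroup p W) (a b : W)
    (h : Subgroup.closure ({a, b} : Set W) = ⊤) : (frattini W).index ≤ p ^ 2 := by
  classical
  obtain ⟨n, hn⟩ := hW.index (frattini W)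
  have h1 := (Cfsg.Agent.S0014.result p n hW hn).2 {a, b} (by simpa using h)
  rw [hn]
  apply Nat.pow_le_pow_right hpp.out.pos
  exact h1.trans Finset.card_le_two

theorem index_le_of_metacyclic {W : Type*} [Group W] [Finite W] (hW : IsPGroup p W) (h : IsMetacyclic W) :
    (frattini W).index ≤ p ^ 2 := by
  obtain ⟨N, hN, hc, hcq⟩ := h
  obtain ⟨g, hg⟩ := hc.exists_generator
  obtain ⟨q, hq⟩ := hcq.exists_generator
  obtain ⟨b, rfl⟩ := QuotientGroup.mk_surjective q
  apply index_le_of_two hW (g : W) b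
  rw [eq_top_iff]
  intro w _
  obtain ⟨i, hi⟩ := hq (w : W ⧸ N)
  have h1 : (b ^ i)⁻¹ * w ∈ N := by
    rw [← QuotientGroup.eq]
    exact hi
  obtain ⟨j, hj⟩ := hg ⟨_, h1⟩
  have h2 : (g : W) ^ j = (b ^ i)⁻¹ * w := congrArg Subtype.val hj
  have h3 : w = b ^ i * (g : W) ^ j := by rw [h2]; group
  rw [h3]
  exact Subgroup.mul_mem _ (Subgroup.zpow_mem _ (Subgroup.subset_closure (by simp)) _)
    (Subgroup.zpow_mem _ (Subgroup.subset_closure (by simp)) _)

/-- index of the derived group of a group of maximal class -/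
theorem index_le_of_maximal {W : Type*} [Group W] [Finite W] (n : ℕ) (hn : 2 ≤ n) (hW : Nat.card W = p ^ n)
    (h : (⊤ : Subgroup W).lowerCentralSeries (n - 2) ≠ ⊥) : (frattini W).index ≤ p ^ 2 := by
  have hWp : IsPGroup p W := IsPGroup.of_card hW
  have hnil : Group.IsNilpotent W := hWp.isNilpotent
  have key : ∀ k : ℕ, k ≤ n - 2 → p ^ (k + 1) ≤ Nat.card ((⊤ : Subgroup W).lowerCentralSeries (n - 2 - k)) := by
    intro k
    induction k with
    | zero =>
      intro _
      obtain ⟨a, ha⟩ := IsPGroup.iff_card.1 (hWp.to_subgroup ((⊤ : Subgroup W).lowerCentralSeries (n - 2)))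
      rw [Nat.sub_zero, ha]
      apply Nat.pow_le_pow_right hpp.out.pos
      rcases Nat.eq_zero_or_pos a with h0 | h0
      · exfalso; apply h
        rw [h0, pow_zero] at ha
        exact Subgroup.eq_bot_of_card_eq _ ha
      · omega
    | succ k ih =>
      intro hk
      have h1 := ih (by omega)
      have e : n - 2 - k = (n - 2 - (k + 1)) + 1 := by omega
      rw [e] at h1
      have h2 : (⊤ : Subgroup W).lowerCentralSeries ((n - 2 - (k + 1)) + 1) <
          (⊤ : Subgroup W).lowerCentralSeries (n - 2 - (k + 1)) := by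
        rw [Subgroup.lowerCentralSeries_succ]
        apply commutator_lt hWp
        intro hb
        apply h
        rw [eq_bot_iff, ← hb]
        exact Subgroup.lowerCentralSeries_antitone _ (by omega)
      obtain ⟨a, ha⟩ := IsPGroup.iff_card.1 (hWp.to_subgroup ((⊤ : Subgroup W).lowerCentralSeries ((n - 2 - (k + 1)) + 1)))
      obtain ⟨b, hb⟩ := IsPGroup.iff_card.1 (hWp.to_subgroup ((⊤ : Subgroup W).lowerCentralSeries (n - 2 - (k + 1))))
      have h3 : Nat.card ((⊤ : Subgroup W).lowerCentralSeries ((n - 2 - (k + 1)) + 1)) <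
          Nat.card ((⊤ : Subgroup W).lowerCentralSeries (n - 2 - (k + 1))) := by
        apply lt_of_le_of_ne (Subgroup.card_le_of_le h2.le)
        intro h
        exact h2.ne (Subgroup.eq_of_le_of_card_ge h2.le h.ge)
      rw [ha] at h1 h3
      rw [hb] at h3 ⊢
      have h4 := (Nat.pow_lt_pow_iff_right hpp.out.one_lt).mp h3
      have h5 := (Nat.pow_le_pow_iff_right hpp.out.one_lt).mp h1
      exact Nat.pow_le_pow_right hpp.out.pos (by omega)
  have hfr : (⊤ : Subgroup W).lowerCentralSeries 1 ≤ frattini W := by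
    rw [Subgroup.top_lowerCentralSeries_one]
    exact Lib.FrattiniPGroup.commutator_le_frattini hWp
  obtain ⟨b, hb⟩ := hWp.index (frattini W)
  rw [hb]
  apply Nat.pow_le_pow_right hpp.out.pos
  by_contra hcon
  push Not at hcon
  obtain ⟨a, ha⟩ := IsPGroup.iff_card.1 (hWp.to_subgroup (frattini W))
  have h1 := (frattini W).card_mul_index
  rw [ha, hb, hW, ← pow_add] at h1
  have h2 := Nat.pow_right_injective hpp.out.two_le h1
  have h3 : p ^ (n - 2) ≤ p ^ a := by
    by_cases h' : 3 ≤ n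
    · have h4 := key (n - 3) (by omega)
      have e1 : n - 2 - (n - 3) = 1 := by omega
      have e2 : n - 3 + 1 = n - 2 := by omega
      rw [e1, e2] at h4
      rw [← ha]
      exact h4.trans (Subgroup.card_le_of_le hfr)
    · have : n - 2 = 0 := by omega
      rw [this, pow_zero]
      exact Nat.one_le_pow _ _ hpp.out.pos
  have h5 := (Nat.pow_le_pow_iff_right hpp.out.one_lt).mp h3
  omega

end tr

end Cfsg.Agent.H271.RankTwoTr
end

-- part: H271/RankTwoC
section
/-!
# The groups `C(p, m)`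

`W` of order `p ^ m` generated by `x`, `y`, `z`, `x^p = y^p = 1`, `z` central of order dividing `p ^ (m - 2)`,
`x⁻¹ y x = y z^(p^(m-3))`.
-/

set_option autoImplicit false

namespace Cfsg.Agent.H271.RankTwoC

open Cfsg Subgroup
open Cfsg.Agent.H271.RankTwoTr

/-- A group generated by a set of commuting elements. -/
theorem comm_of_closure {W : Type*} [Group W] (S : Set W) (h : Subgroup.closure S = ⊤)
    (hc : ∀ a ∈ S, ∀ b ∈ S, a * b = b * a) (a b : W) : a * b = b * a := by
  have h1 := Subgroup.isMulCommutative_closure hc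
  rw [h] at h1
  have := h1.is_comm.comm ⟨a, Subgroup.mem_top a⟩ ⟨b, Subgroup.mem_top b⟩
  exact congrArg Subtype.val this

variable {W : Type*} [Group W] [Finite W] {p : ℕ} [hpp : Fact p.Prime]

/-- elementary abelian groups generated by two elements -/
theorem card_le_of_elementary (hcomm : ∀ a b : W, a * b = b * a) (hpow : ∀ a : W, a ^ p = 1) (x y : W)
    (hgen : Subgroup.closure ({x, y} : Set W) = ⊤) : Nat.card W ≤ p ^ 2 := by
  have hW : IsPGroup p W := fun g => ⟨1, by rw [pow_one]; exact hpow g⟩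
  have hfr : frattini W = ⊥ := by
    rw [eq_bot_iff]
    apply Lib.FrattiniPGroup.frattini_le (p := p) ⊥
    · intro a b
      rw [Subgroup.mem_bot, commutatorElement_eq_one_iff_mul_comm]
      exact hcomm a b
    · intro a
      rw [Subgroup.mem_bot]; exact hpow a
  have := index_le_of_two hW x y hgen
  rwa [hfr, Subgroup.index_bot] at this

structure DataC (p m : ℕ) (W : Type*) [Group W] (x y z : W) : Prop where
  hm : 3 ≤ m
  hW : Nat.card W = p ^ m
  hgen : Subgroup.closure ({x, y, z} : Set W) = ⊤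
  hx : x ^ p = 1
  hy : y ^ p = 1
  hz : z ^ p ^ (m - 2) = 1
  hxz : x * z = z * x
  hyz : y * z = z * y
  hxy : x⁻¹ * y * x = y * z ^ p ^ (m - 3)

variable {m : ℕ} {x y z : W}

theorem DataC.z_center (h : DataC p m W x y z) : z ∈ center W := by
  rw [Subgroup.mem_center_iff]
  have : (⊤ : Subgroup W) ≤ Subgroup.centralizer {z} := by
    rw [← h.hgen, Subgroup.closure_le]
    rintro a (rfl | rfl | rfl)
    · rw [SetLike.mem_coe, Subgroup.mem_centralizer_singleton_iff]; exact h.hxz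
    · rw [SetLike.mem_coe, Subgroup.mem_centralizer_singleton_iff]; exact h.hyz
    · rw [SetLike.mem_coe, Subgroup.mem_centralizer_singleton_iff]
  intro g
  exact Subgroup.mem_centralizer_singleton_iff.mp (this (Subgroup.mem_top g))

/-- commutators modulo a normal subgroup containing `z^(p^(m-3))`. -/
theorem DataC.comm_mod (h : DataC p m W x y z) (N : Subgroup W) [N.Normal] (hN : z ^ p ^ (m - 3) ∈ N) (a b : W ⧸ N) :
    a * b = b * a := by
  have hc := h.z_center
  rw [Subgroup.mem_center_iff] at hc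
  apply comm_of_closure ((QuotientGroup.mk' N) '' {x, y, z})
  · rw [← MonoidHom.map_closure, h.hgen, Subgroup.map_top_of_surjective _ (QuotientGroup.mk'_surjective N)]
  · have h0 : (QuotientGroup.mk' N) (z ^ p ^ (m - 3)) = 1 := (QuotientGroup.eq_one_iff _).mpr hN
    have hxy : (QuotientGroup.mk' N) y * (QuotientGroup.mk' N) x = (QuotientGroup.mk' N) x * (QuotientGroup.mk' N) y := by
      have h1 := congrArg (QuotientGroup.mk' N) h.hxy
      rw [map_mul _ y, h0, mul_one, map_mul, map_mul, map_inv] at h1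
      calc (QuotientGroup.mk' N) y * (QuotientGroup.mk' N) x
          = (QuotientGroup.mk' N) x * (((QuotientGroup.mk' N) x)⁻¹ * (QuotientGroup.mk' N) y * (QuotientGroup.mk' N) x) := by group
        _ = _ := by rw [h1]
    have hzz : ∀ g : W, (QuotientGroup.mk' N) g * (QuotientGroup.mk' N) z = (QuotientGroup.mk' N) z * (QuotientGroup.mk' N) g := by
      intro g
      rw [← map_mul, ← map_mul, hc g]
    rintro _ ⟨a, (rfl | rfl | rfl), rfl⟩ _ ⟨b, (rfl | rfl | rfl), rfl⟩
    · rfl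
    · exact hxy.symm
    · exact hzz _
    · exact hxy
    · rfl
    · exact hzz _
    · exact (hzz _).symm
    · exact (hzz _).symm
    · rfl

theorem DataC.zpow_normal (h : DataC p m W x y z) : (zpowers z).Normal := by
  constructor
  rintro _ ⟨i, rfl⟩ g
  have hc := h.z_center
  rw [Subgroup.mem_center_iff] at hc
  refine ⟨i, ?_⟩
  have : Commute g (z ^ i) := ((show Commute g z from hc g)).zpow_right i
  show z ^ i = g * z ^ i * g⁻¹
  rw [this.eq, mul_inv_cancel_right]

theorem DataC.card_quot (h : DataC p m W x y z) : (zpowers z).index ≤ p ^ 2 := by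
  have hn := h.zpow_normal
  have hmem : z ^ p ^ (m - 3) ∈ zpowers z := Subgroup.pow_mem _ (Subgroup.mem_zpowers z) _
  have hcomm := h.comm_mod (zpowers z) hmem
  have hgen : Subgroup.closure ({(QuotientGroup.mk' (zpowers z)) x, (QuotientGroup.mk' (zpowers z)) y} : Set (W ⧸ zpowers z)) = ⊤ := by
    have h1 : Subgroup.closure ((QuotientGroup.mk' (zpowers z)) '' {x, y, z}) = ⊤ := by
      rw [← MonoidHom.map_closure, h.hgen, Subgroup.map_top_of_surjective _ (QuotientGroup.mk'_surjective _)]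
    rw [eq_top_iff, ← h1, Subgroup.closure_le]
    rintro _ ⟨a, (rfl | rfl | rfl), rfl⟩
    · exact Subgroup.subset_closure (by simp)
    · exact Subgroup.subset_closure (by simp)
    · have : (QuotientGroup.mk' (zpowers a)) a = 1 := (QuotientGroup.eq_one_iff _).mpr (Subgroup.mem_zpowers a)
      rw [this]; exact Subgroup.one_mem _
  apply card_le_of_elementary hcomm ?_ _ _ hgen
  intro a
  -- exponent p
  have h2 : (⊤ : Subgroup (W ⧸ zpowers z)) ≤ 
      { carrier := {a | a ^ p = 1}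
        mul_mem' := fun {a b} ha hb => by
          show (a * b) ^ p = 1
          rw [(show Commute a b from hcomm a b).mul_pow]
          rw [show a ^ p = 1 from ha, show b ^ p = 1 from hb, one_mul]
        one_mem' := one_pow p
        inv_mem' := fun {a} ha => by
          show a⁻¹ ^ p = 1
          rw [inv_pow, show a ^ p = 1 from ha, inv_one] } := by
    rw [← hgen, Subgroup.closure_le]
    rintro _ (rfl | rfl)
    · show _ ^ p = 1
      rw [← map_pow, h.hx, map_one]
    · show _ ^ p = 1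
      rw [← map_pow, h.hy, map_one]
  exact h2 (Subgroup.mem_top a)

theorem DataC.order_z (h : DataC p m W x y z) : orderOf z = p ^ (m - 2) := by
  have h1 := (zpowers z).card_mul_index
  rw [h.hW, Nat.card_zpowers] at h1
  have h2 := h.card_quot
  obtain ⟨k, hk, hk2⟩ := (Nat.dvd_prime_pow hpp.out).mp (orderOf_dvd_of_pow_eq_one h.hz)
  rw [hk2]
  congr 1
  by_contra hne
  have h3 : p ^ m ≤ p ^ k * p ^ 2 := by
    rw [← h1, hk2]
    exact Nat.mul_le_mul_left _ h2
  rw [← pow_add] at h3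
  have h4 := (Nat.pow_le_pow_iff_right hpp.out.one_lt).mp h3
  have := h.hm
  omega

theorem DataC.w_ne_one (h : DataC p m W x y z) : z ^ p ^ (m - 3) ≠ 1 := by
  intro h1
  have h2 := orderOf_dvd_of_pow_eq_one h1
  rw [h.order_z] at h2
  have h3 := (Nat.pow_dvd_pow_iff_le_right hpp.out.one_lt).mp h2
  have := h.hm
  omega

theorem DataC.w_pow (h : DataC p m W x y z) : (z ^ p ^ (m - 3)) ^ p = 1 := by
  rw [← pow_mul, ← pow_succ]
  have : m - 3 + 1 = m - 2 := by have := h.hm; omega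
  rw [this, h.hz]

/-- the centre is generated by `z` -/
theorem DataC.center_eq (h : DataC p m W x y z) : center W = zpowers z := by
  have hWp : IsPGroup p W := IsPGroup.of_card h.hW
  apply le_antisymm _ (by rw [Subgroup.zpowers_le]; exact h.z_center)
  by_contra hcon
  -- `W / Z(W)` has order at most `p`
  have hlt : zpowers z < center W := lt_of_le_not_ge (by rw [Subgroup.zpowers_le]; exact h.z_center) hcon
  obtain ⟨a, ha⟩ := hWp.index (center W)
  obtain ⟨b, hb⟩ := hWp.index (zpowers z)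
  have h1 : (center W).index < (zpowers z).index := Subgroup.index_strictAnti hlt
  have h2 := h.card_quot
  rw [ha, hb] at h1
  rw [hb] at h2
  have h3 := (Nat.pow_lt_pow_iff_right hpp.out.one_lt).mp h1
  have h4 := (Nat.pow_le_pow_iff_right hpp.out.one_lt).mp h2
  have hcyc : IsCyclic (W ⧸ center W) := by
    have h5 : Nat.card (W ⧸ center W) = p ^ a := ha
    have h6 : a = 0 ∨ a = 1 := by omega
    rcases h6 with h6 | h6
    · rw [h6, pow_zero] at h5
      have := (Nat.card_eq_one_iff_unique.mp h5).1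
      exact isCyclic_of_subsingleton
    · rw [h6, pow_one] at h5
      exact isCyclic_of_prime_card h5
  have hcomm : ∀ a b : W, a * b = b * a := by
    intro a b
    exact commutative_of_cyclic_center_quotient (QuotientGroup.mk' (center W)) (by
      rw [QuotientGroup.ker_mk']) a b
  apply h.w_ne_one
  have h7 := h.hxy
  rw [mul_assoc, hcomm y x, inv_mul_cancel_left] at h7
  exact (left_eq_mul.mp h7)

theorem DataC.commutator_mem (h : DataC p m W x y z) (a b : W) : a * b * a⁻¹ * b⁻¹ ∈ zpowers (z ^ p ^ (m - 3)) := by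
  have hn : (zpowers (z ^ p ^ (m - 3))).Normal := by
    constructor
    rintro _ ⟨i, rfl⟩ g
    have hc := h.z_center
    rw [Subgroup.mem_center_iff] at hc
    refine ⟨i, ?_⟩
    have : Commute g ((z ^ p ^ (m - 3)) ^ i) := ((show Commute g z from hc g).pow_right _).zpow_right i
    show (z ^ p ^ (m - 3)) ^ i = g * (z ^ p ^ (m - 3)) ^ i * g⁻¹
    rw [this.eq, mul_inv_cancel_right]
  have := h.comm_mod (zpowers (z ^ p ^ (m - 3))) (Subgroup.mem_zpowers _) (a : W ⧸ _) (b : W ⧸ _)
  rw [← QuotientGroup.eq_one_iff]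
  rw [QuotientGroup.mk_mul, QuotientGroup.mk_mul, QuotientGroup.mk_mul, this]
  rw [QuotientGroup.mk_inv, QuotientGroup.mk_inv]; group

theorem DataC.commutator_center (h : DataC p m W x y z) (a b g : W) : Commute (a * b * a⁻¹ * b⁻¹) g := by
  have hc := h.z_center
  rw [Subgroup.mem_center_iff] at hc
  obtain ⟨i, hi⟩ := h.commutator_mem a b
  rw [← hi]
  exact ((((show Commute g z from hc g).pow_right _).zpow_right i)).symm

/-- the elements of order dividing `p` form a subgroup -/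
theorem DataC.mul_pow (h : DataC p m W x y z) (hp2 : p ≠ 2) (a b : W) (ha : a ^ p = 1) (hb : b ^ p = 1) : (a * b) ^ p = 1 := by
  rw [Lib.CoprimeStab.mul_pow_prime_of_class_two hpp.out hp2, ha, hb, one_mul]
  · rw [commutatorElement_def]; exact h.commutator_center _ _ _
  · rw [commutatorElement_def]; exact h.commutator_center _ _ _
  · rw [ha]; exact Commute.one_left b

/-- the subgroup of the elements of order dividing `p` -/
def DataC.omega (h : DataC p m W x y z) (hp2 : p ≠ 2) : Subgroup W where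
  carrier := {a | a ^ p = 1}
  mul_mem' := fun {a b} ha hb => h.mul_pow hp2 a b ha hb
  one_mem' := one_pow p
  inv_mem' := fun {a} ha => by
    show a⁻¹ ^ p = 1
    rw [inv_pow, show a ^ p = 1 from ha, inv_one]

theorem DataC.mem_omega (h : DataC p m W x y z) (hp2 : p ≠ 2) (a : W) : a ∈ h.omega hp2 ↔ a ^ p = 1 := Iff.rfl

theorem DataC.omega_char (h : DataC p m W x y z) (hp2 : p ≠ 2) : (h.omega hp2).Characteristic := by
  rw [Subgroup.characteristic_iff_le_comap]
  intro φ a ha
  show (φ a) ^ p = 1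
  rw [← map_pow, (h.mem_omega hp2 a).mp ha, map_one]

theorem DataC.omega_sup (h : DataC p m W x y z) (hp2 : p ≠ 2) : h.omega hp2 ⊔ zpowers z = ⊤ := by
  rw [eq_top_iff, ← h.hgen, Subgroup.closure_le]
  rintro a (rfl | rfl | rfl)
  · exact (le_sup_left : h.omega hp2 ≤ _) h.hx
  · exact (le_sup_left : h.omega hp2 ≤ _) h.hy
  · exact (le_sup_right : zpowers a ≤ _) (Subgroup.mem_zpowers a)

end Cfsg.Agent.H271.RankTwoC
end

-- part: H271/RankTwoMain
section
/-!
# `p`-groups of rank at most two, `p` odd: control of transfer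

* `tr` : `W` a maximal subgroup of `G`, `[u, z, z] ∈ Φ(W)` for all `u`, `z` in `G`.
* `control` : a Sylow `p`-subgroup of rank at most two: `S ∩ G' = S ∩ N(S)'`.
-/

set_option autoImplicit false

namespace Cfsg.Agent.H271.RankTwoMain

open Cfsg Subgroup
open Cfsg.Agent.H271.RankTwoTr Cfsg.Agent.H271.RankTwoC

section

variable {G : Type*} [Group G] [Finite G] {p : ℕ} [hpp : Fact p.Prime]

theorem rank_subgroup (k : ℕ) (h : PRankLE p k G) (W : Subgroup G) : PRankLE p k W := by
  intro A hA hp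
  have h1 : IsMulCommutative (A.map W.subtype) := by
    constructor
    constructor
    rintro ⟨_, a, ha, rfl⟩ ⟨_, b, hb, rfl⟩
    apply Subtype.ext
    show (a : G) * b = b * a
    have := hA.is_comm.comm ⟨a, ha⟩ ⟨b, hb⟩
    exact congrArg (fun w : A => ((w : W) : G)) this
  have h2 := h (A.map W.subtype) h1 (by
    rintro _ ⟨a, ha, rfl⟩
    rw [← map_pow, hp a ha, map_one])
  rwa [Subgroup.card_map_of_injective W.subtype_injective] at h2

/-- the image in `G / Φ(W)` of a subgroup `H` of `W` -/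
theorem card_image_le (W : Subgroup G) (Φ : Subgroup G) [Φ.Normal] (hΦ : Φ = (frattini W).map W.subtype) (H : Subgroup W)
    (k : ℕ) (h : Nat.card (H.map (QuotientGroup.mk' (frattini W))) ≤ k) :
    Nat.card ((H.map W.subtype).map (QuotientGroup.mk' Φ)) ≤ k := by
  have hle : frattini W ≤ ((QuotientGroup.mk' Φ).comp W.subtype).ker := by
    intro w hw
    rw [MonoidHom.mem_ker, MonoidHom.comp_apply]
    apply (QuotientGroup.eq_one_iff _).mpr
    rw [hΦ]
    exact ⟨w, hw, rfl⟩
  have e : (H.map W.subtype).map (QuotientGroup.mk' Φ) =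
      (H.map (QuotientGroup.mk' (frattini W))).map (QuotientGroup.lift (frattini W) ((QuotientGroup.mk' Φ).comp W.subtype) hle) := by
    rw [Subgroup.map_map, Subgroup.map_map]
    congr 1
  rw [e]
  exact (Nat.le_of_dvd Nat.card_pos (Subgroup.card_map_dvd _ _)).trans h

theorem index_le_of_three {W : Type*} [Group W] [Finite W] (hW : IsPGroup p W) (a b c : W)
    (h : Subgroup.closure ({a, b, c} : Set W) = ⊤) : (frattini W).index ≤ p ^ 3 := by
  classical
  obtain ⟨n, hn⟩ := hW.index (frattini W)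
  have h1 := (Cfsg.Agent.S0014.result p n hW hn).2 {a, b, c} (by simpa using h)
  rw [hn]
  apply Nat.pow_le_pow_right hpp.out.pos
  exact h1.trans Finset.card_le_three

/-- **`[u, z, z] ∈ Φ(W)`.** -/
theorem tr (hp2 : p ≠ 2) (hG : IsPGroup p G) (hrk : PRankLE p 2 G) (W : Subgroup G) (hW : IsCoatom W) (u z : G) :
    cm z (cm z u) ∈ (frattini W).map W.subtype := by
  have hWn : W.Normal := Lib.FrattiniPGroup.normal_of_coatom hG hW
  have hWp : IsPGroup p W := hG.to_subgroup W
  obtain ⟨Φ, hΦ⟩ : ∃ Φ, Φ = (frattini W).map W.subtype := ⟨_, rfl⟩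
  have hΦn : Φ.Normal := by rw [hΦ]; infer_instance
  have hWW : ⁅W, W⁆ ≤ Φ := by
    have h1 : (commutator W).map W.subtype = ⁅W, W⁆ := by
      rw [commutator_def, Subgroup.map_commutator, ← MonoidHom.range_eq_map, Subgroup.range_subtype]
    rw [← h1, hΦ]
    exact Subgroup.map_mono (Lib.FrattiniPGroup.commutator_le_frattini hWp)
  rw [← hΦ]
  have easy : (frattini W).index ≤ p ^ 2 → cm z (cm z u) ∈ Φ := by
    intro h
    apply core hG Φ W W ⊥ hWW hW ?_ (by rw [Subgroup.commutator_bot_left]; exact bot_le) le_sup_left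
    have h1 := card_image_le W Φ hΦ ⊤ (p ^ 2) (by
      rw [Subgroup.map_top_of_surjective _ (QuotientGroup.mk'_surjective _), Subgroup.card_top]
      exact h)
    rwa [← MonoidHom.range_eq_map, Subgroup.range_subtype] at h1
  obtain ⟨m, hm⟩ := IsPGroup.iff_card.1 hWp
  rcases Cfsg.Agent.S3888.result hp2 m hm (rank_subgroup 2 hrk W) with h | ⟨hm3, x, y, w, h1, h2, h3, h4, h5, h6, h7⟩ |
    ⟨hm4, s, x, y, w, hs, h1, h2, h3, h4, h5, h6, h7⟩ | ⟨hp3, hm2, h⟩
  · exact easy (index_le_of_metacyclic hWp h)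
  · have hD : DataC p m W x y w := ⟨hm3, hm, h1, h2, h3, h4, h5, h6, h7⟩
    rcases Nat.lt_or_ge m 4 with hm4 | hm4
    · -- order `p³`
      have hm3' : m = 3 := by omega
      subst hm3'
      apply easy
      apply index_le_of_two hWp x y
      rw [eq_top_iff, ← h1, Subgroup.closure_le]
      have hx : x ∈ Subgroup.closure ({x, y} : Set W) := Subgroup.subset_closure (by simp)
      have hy : y ∈ Subgroup.closure ({x, y} : Set W) := Subgroup.subset_closure (by simp)
      rintro a (rfl | rfl | rfl)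
      · exact hx
      · exact hy
      · have e : a = y⁻¹ * (x⁻¹ * y * x) := by rw [h7]; simp
        rw [e]
        exact Subgroup.mul_mem _ (Subgroup.inv_mem _ hy) (Subgroup.mul_mem _ (Subgroup.mul_mem _ (Subgroup.inv_mem _ hx) hy) hx)
    · have hNn : ((hD.omega hp2).map W.subtype).Normal := by
        have := hD.omega_char hp2
        infer_instance
      have hzn := hD.zpow_normal
      apply core hG Φ W ((hD.omega hp2).map W.subtype) ((zpowers w).map W.subtype) hWW hW
      · apply card_image_le W Φ hΦ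
        have hne : (hD.omega hp2) ⊔ frattini W ≠ ⊤ := by
          intro h
          have h8 : hD.omega hp2 = ⊤ := frattini_nongenerating h
          have h9 : w ∈ hD.omega hp2 := by rw [h8]; trivial
          rw [hD.mem_omega] at h9
          have h10 := orderOf_dvd_of_pow_eq_one h9
          rw [hD.order_z] at h10
          have h11 : p ^ (m - 2) ∣ p ^ 1 := by rwa [pow_one]
          have := (Nat.pow_dvd_pow_iff_le_right hpp.out.one_lt).mp h11
          omega
        have hi := index_le_of_three hWp x y w h1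
        -- a proper subgroup of a group of order at most `p³`
        have hQp : IsPGroup p (W ⧸ frattini W) := hWp.to_quotient _
        have hlt : (hD.omega hp2).map (QuotientGroup.mk' (frattini W)) < ⊤ := by
          rw [lt_top_iff_ne_top]
          intro h
          apply hne
          have h8 : ((hD.omega hp2).map (QuotientGroup.mk' (frattini W))).comap (QuotientGroup.mk' (frattini W)) = ⊤ := by
            rw [h, Subgroup.comap_top]
          rwa [Subgroup.comap_map_eq, QuotientGroup.ker_mk'] at h8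
        obtain ⟨a, ha⟩ := IsPGroup.iff_card.1 (hQp.to_subgroup ((hD.omega hp2).map (QuotientGroup.mk' (frattini W))))
        obtain ⟨b, hb⟩ := IsPGroup.iff_card.1 hQp
        have h8 : Nat.card ((hD.omega hp2).map (QuotientGroup.mk' (frattini W))) < Nat.card (W ⧸ frattini W) := by
          rw [← Subgroup.card_top (G := W ⧸ frattini W)]
          apply lt_of_le_of_ne (Subgroup.card_le_of_le hlt.le)
          intro h
          exact hlt.ne (Subgroup.eq_of_le_of_card_ge hlt.le h.ge)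
        rw [ha, hb] at h8
        have h9 : Nat.card (W ⧸ frattini W) ≤ p ^ 3 := hi
        rw [hb] at h9
        rw [ha]
        have h10 := (Nat.pow_lt_pow_iff_right hpp.out.one_lt).mp h8
        have h11 := (Nat.pow_le_pow_iff_right hpp.out.one_lt).mp h9
        exact Nat.pow_le_pow_right hpp.out.pos (by omega)
      · -- `[⟨w⟩, G] ≤ Φ`
        have hZc : (zpowers w).Characteristic := by
          rw [← hD.center_eq]; infer_instance
        have hZn : ((zpowers w).map W.subtype).Normal := inferInstance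
        have hZne : (zpowers w).map W.subtype ≠ ⊥ := by
          intro h
          have : (w : G) ∈ (zpowers w).map W.subtype := ⟨w, Subgroup.mem_zpowers w, rfl⟩
          rw [h, Subgroup.mem_bot] at this
          have hw1 : w = 1 := Subtype.ext this
          apply hD.w_ne_one
          rw [hw1, one_pow]
        have hlt := commutator_lt hG ((zpowers w).map W.subtype) hZne
        intro g hg
        obtain ⟨_, ⟨j, rfl⟩, hj⟩ := hlt.le hg
        -- `p ∣ j`
        have hpj : (p : ℤ) ∣ j := by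
          by_contra hnd
          apply hlt.ne
          apply le_antisymm hlt.le
          have hw : w ∈ zpowers (w ^ j) := by
            have hcop : IsCoprime j (orderOf w : ℤ) := by
              rw [hD.order_z]
              have h8 : IsCoprime j (p : ℤ) := by
                rw [isCoprime_comm]
                exact (Prime.coprime_iff_not_dvd (Nat.prime_iff_prime_int.mp hpp.out)).mpr hnd
              push_cast
              exact h8.pow_right
            obtain ⟨a, b, hab⟩ := hcop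
            refine ⟨a, ?_⟩
            show (w ^ j) ^ a = w
            rw [← zpow_mul]
            have h8 : j * a = 1 - b * (orderOf w : ℤ) := by linarith [mul_comm a j]
            rw [h8, zpow_sub, zpow_one, mul_comm b, zpow_mul, zpow_natCast, pow_orderOf_eq_one, one_zpow, inv_one, mul_one]
          rintro _ ⟨_, ⟨i, rfl⟩, rfl⟩
          obtain ⟨a, ha⟩ := hw
          have h8 : W.subtype (w ^ i) = g ^ (a * i) := by
            rw [← hj, ← map_zpow]
            congr 1
            have ha' : (w ^ j) ^ a = w := ha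
            rw [zpow_mul]
            conv_lhs => rw [← ha']
          show W.subtype (w ^ i) ∈ _
          rw [h8]
          exact Subgroup.zpow_mem _ hg _
        obtain ⟨i, rfl⟩ := hpj
        rw [← hj, hΦ]
        refine ⟨_, ?_, rfl⟩
        show w ^ ((p : ℤ) * i) ∈ frattini W
        rw [mul_comm, zpow_mul, zpow_natCast]
        exact Lib.FrattiniPGroup.pow_mem_frattini hWp _
      · rw [← Subgroup.map_sup, hD.omega_sup, ← MonoidHom.range_eq_map, Subgroup.range_subtype]
  · apply easy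
    apply index_le_of_two hWp x w
    rw [eq_top_iff, ← h1, Subgroup.closure_le]
    have hx : x ∈ Subgroup.closure ({x, w} : Set W) := Subgroup.subset_closure (by simp)
    have hw : w ∈ Subgroup.closure ({x, w} : Set W) := Subgroup.subset_closure (by simp)
    rintro a (rfl | rfl | rfl)
    · exact hx
    · have e : a = x⁻¹ * w * x * w⁻¹ := by rw [h7]; simp
      rw [e]
      exact Subgroup.mul_mem _ (Subgroup.mul_mem _ (Subgroup.mul_mem _ (Subgroup.inv_mem _ hx) hw) hx) (Subgroup.inv_mem _ hw)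
    · exact hw
  · subst hp3
    exact easy (index_le_of_maximal m hm2 hm h)

/-- further commutators stay in `Φ(W)` -/
theorem tr_iterate (hp2 : p ≠ 2) (hG : IsPGroup p G) (hrk : PRankLE p 2 G) (W : Subgroup G) (hW : IsCoatom W) (u z : G) :
    (cm z)^[p - 1] u ∈ (frattini W).map W.subtype := by
  have hWn : W.Normal := Lib.FrattiniPGroup.normal_of_coatom hG hW
  have hΦn : ((frattini W).map W.subtype).Normal := inferInstance
  have key : ∀ k : ℕ, (cm z)^[k + 2] u ∈ (frattini W).map W.subtype := by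
    intro k
    induction k with
    | zero => exact tr hp2 hG hrk W hW u z
    | succ k ih =>
      have e : k + 1 + 2 = (k + 2) + 1 := by omega
      rw [e, Function.iterate_succ_apply']
      exact cm_mem hΦn z ih
  have h3 : 2 < p := lt_of_le_of_ne hpp.out.two_le (Ne.symm hp2)
  have e : p - 1 = (p - 3) + 2 := by omega
  rw [e]
  exact key _

end

/-- **Rank at most two, `p` odd: the normaliser of a Sylow `p`-subgroup controls transfer.** -/
theorem control {G : Type*} [Group G] [Finite G] {p : ℕ} [hpp : Fact p.Prime] (hp2 : p ≠ 2) (S : Sylow p G)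
    (hrk : PRankLE p 2 (S : Subgroup G)) :
    (S : Subgroup G) ⊓ commutator G = (S : Subgroup G) ⊓
      ⁅Subgroup.normalizer ((S : Subgroup G) : Set G), Subgroup.normalizer ((S : Subgroup G) : Set G)⁆ := by
  by_contra hne
  have hwc : Cfsg.IsWeaklyClosed (S : Subgroup G) (S : Subgroup G) := by
    refine ⟨le_rfl, fun g hg => ?_⟩
    apply Subgroup.eq_of_le_of_card_ge hg
    rw [Subgroup.card_map_of_injective (MulAut.conj g).injective]
  obtain ⟨x, hx, z, hz, W₀, hW₀, h1, h2⟩ := Cfsg.Agent.S2792.result S (S : Subgroup G) hwc hne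
  apply h2
  have h3 := tr_iterate hp2 S.isPGroup' hrk W₀ hW₀ ⟨x, hx⟩ ⟨z, hz⟩
  have h4 : ∀ k : ℕ, (((cm (⟨z, hz⟩ : (S : Subgroup G)))^[k] ⟨x, hx⟩ : (S : Subgroup G)) : G) =
      (fun y : G => y⁻¹ * z⁻¹ * y * z)^[k] x := by
    intro k
    induction k with
    | zero => rfl
    | succ k ih =>
      rw [Function.iterate_succ_apply', Function.iterate_succ_apply', ← ih]
      rfl
  rw [← h4]
  exact ⟨_, h3, rfl⟩

end Cfsg.Agent.H271.RankTwoMain
end

-- part: H271/RankTwoSit
section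
/-!
# A `p`-group `P = [P, K]` of rank two with a central element of order `p` centralised by the `p'`-group `K`
-/

set_option autoImplicit false

namespace Cfsg.Agent.H271.RankTwoSit

open Cfsg Subgroup
open Cfsg.Agent.H271.RankTwoTr Cfsg.Agent.H271.RankTwoC Cfsg.Agent.H271.RankTwoMain

/-- The situation. -/
structure Sit {N : Type*} [Group N] (p : ℕ) (P K : Subgroup N) (ξ : N) : Prop where
  hPn : P.Normal
  hPp : IsPGroup p P
  hcop : (Nat.card K).Coprime p
  hPK : ⁅P, K⁆ = P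
  hξP : ξ ∈ P
  hξ : orderOf ξ = p
  hξc : ∀ g : N, g * ξ = ξ * g
  hrk : PRankLE p 2 P

variable {N : Type*} [Group N] [Finite N] {p : ℕ} [hpp : Fact p.Prime] {P K : Subgroup N} {ξ : N}

theorem Sit.coprime (h : Sit p P K ξ) : (Nat.card K).Coprime (Nat.card P) := by
  obtain ⟨n, hn⟩ := IsPGroup.iff_card.1 h.hPp
  rw [hn]
  exact Nat.Coprime.pow_right n h.hcop

theorem Sit.ne_one (h : Sit p P K ξ) : ξ ≠ 1 := by
  rintro rfl
  have := h.hξ
  rw [orderOf_one] at this
  exact hpp.out.one_lt.ne this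

theorem Sit.centralizer_le (h : Sit p P K ξ) : P ⊓ centralizer (K : Set N) ≤ ⁅P, P⁆ :=
  Cfsg.Agent.S1459.centralizer_le P K h.hPn h.coprime.symm h.hPK.symm

theorem Sit.mem_commutator (h : Sit p P K ξ) : ξ ∈ ⁅P, P⁆ := by
  apply h.centralizer_le
  refine Subgroup.mem_inf.mpr ⟨h.hξP, ?_⟩
  rw [Subgroup.mem_centralizer_iff]
  intro k _
  exact h.hξc k

/-- fixed points on `P / P'` -/
theorem Sit.mem_of_fixed (h : Sit p P K ξ) {v : N} (hv : v ∈ P) (hf : ∀ k ∈ K, k * v * k⁻¹ * v⁻¹ ∈ ⁅P, P⁆) : v ∈ ⁅P, P⁆ := by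
  have hPn := h.hPn
  have hDn : (⁅P, P⁆ : Subgroup N).Normal := inferInstance
  let π := QuotientGroup.mk' (⁅P, P⁆ : Subgroup N)
  have hker : ∀ g, π g = 1 ↔ g ∈ ⁅P, P⁆ := fun g => QuotientGroup.eq_one_iff g
  have hab : ∀ x ∈ P.map π, ∀ y ∈ P.map π, x * y = y * x := by
    rintro _ ⟨a, ha, rfl⟩ _ ⟨b, hb, rfl⟩
    have h1 : π (a * b * a⁻¹ * b⁻¹) = 1 := by
      rw [hker]
      have := Subgroup.commutator_mem_commutator ha hb
      rwa [commutatorElement_def] at this
    rw [map_mul, map_mul, map_mul, map_inv, map_inv, mul_inv_eq_one, mul_inv_eq_iff_eq_mul] at h1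
    exact h1
  have hnorm : K.map π ≤ normalizer ((P.map π : Subgroup (N ⧸ ⁅P, P⁆)) : Set (N ⧸ ⁅P, P⁆)) := by
    have : (P.map π).Normal := Subgroup.Normal.map hPn _ (QuotientGroup.mk'_surjective _)
    rw [Subgroup.normalizer_eq_top]
    exact le_top
  have hcop : (Nat.card (K.map π)).Coprime (Nat.card (P.map π)) :=
    Nat.Coprime.coprime_dvd_left (Subgroup.card_map_dvd K π)
      (Nat.Coprime.coprime_dvd_right (Subgroup.card_map_dvd P π) h.coprime)
  have h1 := Lib.CoprimeAbelian.inf_commutator_eq_bot (K.map π) (P.map π) hab hnorm hcop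
  rw [← Subgroup.map_commutator, h.hPK] at h1
  have h2 : π v ∈ (P.map π ⊓ centralizer ((K.map π : Subgroup (N ⧸ ⁅P, P⁆)) : Set (N ⧸ ⁅P, P⁆))) ⊓ P.map π := by
    refine Subgroup.mem_inf.mpr ⟨Subgroup.mem_inf.mpr ⟨⟨v, hv, rfl⟩, ?_⟩, ⟨v, hv, rfl⟩⟩
    rw [Subgroup.mem_centralizer_iff]
    rintro _ ⟨k, hk, rfl⟩
    have h3 := (hker _).mpr (hf k hk)
    rw [map_mul, map_mul, map_mul, map_inv, map_inv, mul_inv_eq_one, mul_inv_eq_iff_eq_mul] at h3
    exact h3
  rw [h1, Subgroup.mem_bot, hker] at h2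
  exact h2

/-- a cyclic centre is centralised by `K` -/
theorem Sit.center_fixed (h : Sit p P K ξ) (hp2 : p ≠ 2) (hc : IsCyclic (center P)) {z : P} (hz : z ∈ center P) {k : N}
    (hk : k ∈ K) : Commute (z : N) k := by
  have hPn := h.hPn
  have hZn : ((center P).map P.subtype).Normal := inferInstance
  have hZp : IsPGroup p ((center P).map P.subtype) := h.hPp.to_le (Subgroup.map_subtype_le _)
  have h1 := Lib.CoprimeStab.le_centralizer_of_omega p hp2 K h.hcop ((center P).map P.subtype) hZp (by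
    rw [Subgroup.normalizer_eq_top]; exact le_top) (by
    rintro _ ⟨x, hx, rfl⟩ hxp k hk
    by_cases hx1 : x = 1
    · rw [hx1]; exact Commute.one_left _
    have hxo : orderOf (⟨x, hx⟩ : center P) = p := by
      rw [Subgroup.orderOf_mk]
      apply orderOf_eq_prime _ hx1
      exact Subtype.ext hxp
    have hξ' : (⟨ξ, h.hξP⟩ : P) ∈ center P := by
      rw [Subgroup.mem_center_iff]
      intro g
      exact Subtype.ext (h.hξc g)
    have hξo : orderOf (⟨⟨ξ, h.hξP⟩, hξ'⟩ : center P) = p := by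
      rw [Subgroup.orderOf_mk, Subgroup.orderOf_mk]; exact h.hξ
    obtain ⟨i, hi⟩ := Cfsg.Agent.S1386.mem_zpowers_of_isCyclic hpp.out.pos _ _ hξo hxo
    have e : (x : N) = ξ ^ i := by
      have := congrArg (fun w : center P => ((w : P) : N)) hi
      simpa using this.symm
    show Commute (x : N) k
    rw [e]
    exact ((show Commute k ξ from h.hξc k).zpow_right i).symm)
  have h2 := Subgroup.mem_centralizer_iff.mp (h1 hk) (z : N) ⟨z, hz, rfl⟩
  exact h2

/-- `P` is not commutative -/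
theorem Sit.not_comm (h : Sit p P K ξ) : ⁅P, P⁆ ≠ ⊥ := by
  intro h1
  have := h.mem_commutator
  rw [h1, Subgroup.mem_bot] at this
  exact h.ne_one this

/-- the metacyclic case -/
theorem Sit.not_metacyclic (h : Sit p P K ξ) (hp2 : p ≠ 2) (hm : IsMetacyclic P) : False := by
  have hPn := h.hPn
  obtain ⟨_, _, h1, _⟩ := Cfsg.Agent.S1447.result p hp2 P K h.hPp hm (by
    rw [Subgroup.normalizer_eq_top]; exact le_top) h.hcop
  apply h.ne_one
  rw [← Subgroup.mem_bot, ← h1, h.hPK]
  refine Subgroup.mem_inf.mpr ⟨h.hξP, Subgroup.mem_inf.mpr ⟨h.hξP, ?_⟩⟩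
  rw [Subgroup.mem_centralizer_iff]
  intro k _
  exact h.hξc k

/-- the groups `C(p, n)`, `n ≥ 4` -/
theorem Sit.caseC (h : Sit p P K ξ) (hp2 : p ≠ 2) (n : ℕ) (x y z : P) (hD : DataC p n P x y z) : n = 3 := by
  by_contra hne
  have hm := hD.hm
  have hcyc : IsCyclic (center P) := by
    rw [hD.center_eq]; infer_instance
  have hz := h.mem_of_fixed (v := (z : N)) z.2 (by
    intro k hk
    have := h.center_fixed hp2 hcyc hD.z_center hk
    rw [← this.eq, mul_inv_cancel_right, mul_inv_cancel]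
    exact Subgroup.one_mem _)
  -- `P' ≤ ⟨w⟩`
  have hle : (⁅P, P⁆ : Subgroup N) ≤ (zpowers (z ^ p ^ (n - 3))).map P.subtype := by
    rw [Subgroup.commutator_le]
    intro a ha b hb
    obtain ⟨i, hi⟩ := hD.commutator_mem ⟨a, ha⟩ ⟨b, hb⟩
    refine ⟨_, ⟨i, rfl⟩, ?_⟩
    have := congrArg Subtype.val hi
    rw [commutatorElement_def]
    exact this
  obtain ⟨w, hw, hwz⟩ := hle hz
  have hwz' : w = z := Subtype.ext hwz
  rw [hwz'] at hw
  obtain ⟨i, hi⟩ := hw
  have h1 : z ^ p = 1 := by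
    have hi' : (z ^ p ^ (n - 3)) ^ i = z := hi
    calc z ^ p = ((z ^ p ^ (n - 3)) ^ i) ^ p := by rw [hi']
      _ = ((z ^ p ^ (n - 3)) ^ p) ^ i := by
        rw [← zpow_natCast, ← zpow_mul, mul_comm, zpow_mul, zpow_natCast]
      _ = 1 := by rw [hD.w_pow, one_zpow]
  have h2 := orderOf_dvd_of_pow_eq_one h1
  rw [hD.order_z] at h2
  have h3 : p ^ (n - 2) ∣ p ^ 1 := by rwa [pow_one]
  have := (Nat.pow_dvd_pow_iff_le_right hpp.out.one_lt).mp h3
  omega

end Cfsg.Agent.H271.RankTwoSit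
end

-- part: H271/RankTwoG
section
/-!
# The groups `G(p, n; s)`, `n ≥ 4`

`W` of order `p ^ n` generated by `x`, `y`, `z`, `x^p = y^p = 1`, `z^(p^(n-2)) = 1`, `yz = zy`,
`x⁻¹ y x = y z^(s p^(n-3))`, `x⁻¹ z x = yz`.
-/

set_option autoImplicit false

namespace Cfsg.Agent.H271.RankTwoG

open Cfsg Subgroup
open Cfsg.Agent.H271.RankTwoTr Cfsg.Agent.H271.RankTwoSit

structure DataG (p n s : ℕ) (W : Type*) [Group W] (x y z : W) : Prop where
  hn : 4 ≤ n
  hW : Nat.card W = p ^ n
  hs : s = 1 ∨ ¬ IsSquare (s : ZMod p)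
  hgen : Subgroup.closure ({x, y, z} : Set W) = ⊤
  hx : x ^ p = 1
  hy : y ^ p = 1
  hz : z ^ p ^ (n - 2) = 1
  hyz : y * z = z * y
  hxy : x⁻¹ * y * x = y * z ^ (s * p ^ (n - 3))
  hxz : x⁻¹ * z * x = y * z

variable {W : Type*} [Group W] [Finite W] {p : ℕ} [hpp : Fact p.Prime]
variable {n s : ℕ} {x y z : W}

theorem DataG.hs' (h : DataG p n s W x y z) : ¬ p ∣ s := by
  intro hd
  rcases h.hs with h1 | h1
  · rw [h1] at hd
    exact hpp.out.one_lt.ne' (Nat.dvd_one.mp hd)
  · apply h1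
    rw [(ZMod.natCast_eq_zero_iff s p).mpr hd]
    exact IsSquare.zero

theorem DataG.zp_center (h : DataG p n s W x y z) : z ^ p ∈ center W := by
  rw [Subgroup.mem_center_iff]
  have : (⊤ : Subgroup W) ≤ Subgroup.centralizer {z ^ p} := by
    rw [← h.hgen, Subgroup.closure_le]
    rintro a (rfl | rfl | rfl)
    · rw [SetLike.mem_coe, Subgroup.mem_centralizer_singleton_iff]
      have h1 : a⁻¹ * z ^ p * a = z ^ p := by
        have h2 : a⁻¹ * z ^ p * a = (a⁻¹ * z * a) ^ p := by
          have := conj_pow (i := p) (a := a⁻¹) (b := z)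
          rw [inv_inv] at this
          exact this.symm
        rw [h2, h.hxz, (show Commute y z from h.hyz).mul_pow, h.hy, one_mul]
      calc a * z ^ p = a * (a⁻¹ * z ^ p * a) := by rw [h1]
        _ = z ^ p * a := by group
    · rw [SetLike.mem_coe, Subgroup.mem_centralizer_singleton_iff]
      exact ((show Commute a z from h.hyz).pow_right p).eq
    · rw [SetLike.mem_coe, Subgroup.mem_centralizer_singleton_iff]
      exact ((Commute.refl a).pow_right p).eq
  intro g
  exact Subgroup.mem_centralizer_singleton_iff.mp (this (Subgroup.mem_top g))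

theorem DataG.w_center (h : DataG p n s W x y z) : z ^ p ^ (n - 3) ∈ center W := by
  have : n - 3 = (n - 4) + 1 := by have := h.hn; omega
  rw [this, pow_succ, mul_comm, pow_mul]
  exact Subgroup.pow_mem _ h.zp_center _

/-- The abelian subgroup `⟨y, z⟩` -/
def DataG.A (h : DataG p n s W x y z) : Subgroup W where
  carrier := {g | ∃ i j : ℤ, g = y ^ i * z ^ j}
  one_mem' := ⟨0, 0, by simp⟩
  mul_mem' := by
    rintro _ _ ⟨i, j, rfl⟩ ⟨k, l, rfl⟩
    refine ⟨i + k, j + l, ?_⟩
    have := ((show Commute y z from h.hyz).zpow_zpow k j)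
    rw [zpow_add, zpow_add, mul_assoc, ← mul_assoc (z ^ j), ← this.eq]
    group
  inv_mem' := by
    rintro _ ⟨i, j, rfl⟩
    refine ⟨-i, -j, ?_⟩
    have := ((show Commute y z from h.hyz).zpow_zpow (-i) (-j))
    rw [mul_inv_rev, ← zpow_neg, ← zpow_neg, this.eq]

theorem DataG.mem_A (h : DataG p n s W x y z) (g : W) : g ∈ h.A ↔ ∃ i j : ℤ, g = y ^ i * z ^ j := Iff.rfl

theorem DataG.y_mem (h : DataG p n s W x y z) : y ∈ h.A := ⟨1, 0, by simp⟩
theorem DataG.z_mem (h : DataG p n s W x y z) : z ∈ h.A := ⟨0, 1, by simp⟩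

theorem DataG.comm_A (h : DataG p n s W x y z) {a b : W} (ha : a ∈ h.A) (hb : b ∈ h.A) : Commute a b := by
  obtain ⟨i, j, rfl⟩ := ha
  obtain ⟨k, l, rfl⟩ := hb
  have hyz : Commute y z := h.hyz
  have h1 : Commute (y ^ i) (y ^ k) := ((Commute.refl y).zpow_zpow i k)
  have h2 : Commute (z ^ j) (z ^ l) := ((Commute.refl z).zpow_zpow j l)
  have h3 : Commute (y ^ i) (z ^ l) := (hyz.zpow_zpow i l)
  have h4 : Commute (z ^ j) (y ^ k) := (hyz.symm.zpow_zpow j k)
  exact (h1.mul_right h3).mul_left (h4.mul_right h2)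

theorem DataG.A_normal (h : DataG p n s W x y z) : h.A.Normal := by
  have key : ∀ a ∈ h.A, x⁻¹ * a * x ∈ h.A := by
    rintro _ ⟨i, j, rfl⟩
    have h1 : x⁻¹ * (y ^ i * z ^ j) * x = (x⁻¹ * y * x) ^ i * (x⁻¹ * z * x) ^ j := by
      have e1 := conj_zpow (i := i) (a := x⁻¹) (b := y)
      have e2 := conj_zpow (i := j) (a := x⁻¹) (b := z)
      rw [inv_inv] at e1 e2
      rw [e1, e2]; group
    rw [h1, h.hxy, h.hxz]
    exact h.A.mul_mem (h.A.zpow_mem (h.A.mul_mem h.y_mem (h.A.pow_mem h.z_mem _)) _)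
      (h.A.zpow_mem (h.A.mul_mem h.y_mem h.z_mem) _)
  rw [← Subgroup.normalizer_eq_top_iff, eq_top_iff, ← h.hgen, Subgroup.closure_le]
  rintro a (rfl | rfl | rfl)
  · have : a⁻¹ ∈ normalizer (h.A : Set W) := by
      apply Subgroup.mem_normalizer_fintype
      intro b hb
      rw [inv_inv]
      exact key b hb
    have h2 := Subgroup.inv_mem _ this
    rwa [inv_inv] at h2
  · exact Subgroup.le_normalizer h.y_mem
  · exact Subgroup.le_normalizer h.z_mem

theorem DataG.exists_rep (h : DataG p n s W x y z) (g : W) : ∃ a ∈ h.A, ∃ k : ℕ, k < p ∧ g = x ^ k * a := by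
  have hA := h.A_normal
  have h1 : zpowers x ⊔ h.A = ⊤ := by
    rw [eq_top_iff, ← h.hgen, Subgroup.closure_le]
    rintro a (rfl | rfl | rfl)
    · exact (le_sup_left : zpowers a ≤ _) (Subgroup.mem_zpowers a)
    · exact (le_sup_right : h.A ≤ _) h.y_mem
    · exact (le_sup_right : h.A ≤ _) h.z_mem
  have h2 : g ∈ zpowers x ⊔ h.A := by rw [h1]; trivial
  obtain ⟨u, hu, a, ha, rfl⟩ := Subgroup.mem_sup_of_normal_right.mp h2
  obtain ⟨k, rfl⟩ := hu
  refine ⟨a, ha, (k % (p : ℤ)).toNat, ?_, ?_⟩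
  · have := Int.emod_lt_of_pos k (by exact_mod_cast hpp.out.pos : (0 : ℤ) < p)
    have h3 := Int.emod_nonneg k (by exact_mod_cast hpp.out.ne_zero : (p : ℤ) ≠ 0)
    omega
  · have h3 := Int.emod_nonneg k (by exact_mod_cast hpp.out.ne_zero : (p : ℤ) ≠ 0)
    have h4 : x ^ k = x ^ (k % (p : ℤ)).toNat := by
      rw [← zpow_natCast, Int.toNat_of_nonneg h3]
      conv_lhs => rw [← Int.emod_add_mul_ediv k p]
      rw [zpow_add, zpow_mul, zpow_natCast x p, h.hx, one_zpow, mul_one]
    show x ^ k * a = _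
    rw [h4]

theorem DataG.card_le (h : DataG p n s W x y z) : p ^ n ≤ p * Nat.card h.A := by
  have : Function.Surjective (fun q : Fin p × h.A => x ^ (q.1 : ℕ) * (q.2 : W)) := by
    intro g
    obtain ⟨a, ha, k, hk, rfl⟩ := h.exists_rep g
    exact ⟨(⟨k, hk⟩, ⟨a, ha⟩), rfl⟩
  have h1 := Nat.card_le_card_of_surjective _ this
  rw [Nat.card_prod, Nat.card_fin, h.hW] at h1
  exact h1

theorem DataG.card_A_le (h : DataG p n s W x y z) : Nat.card h.A ≤ orderOf y * orderOf z := by
  have : Function.Surjective (fun q : zpowers y × zpowers z => (⟨(q.1 : W) * (q.2 : W), by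
      obtain ⟨⟨_, i, rfl⟩, ⟨_, j, rfl⟩⟩ := q
      exact ⟨i, j, rfl⟩⟩ : h.A)) := by
    rintro ⟨_, i, j, rfl⟩
    exact ⟨(⟨y ^ i, i, rfl⟩, ⟨z ^ j, j, rfl⟩), rfl⟩
  have h1 := Nat.card_le_card_of_surjective _ this
  rw [Nat.card_prod, Nat.card_zpowers, Nat.card_zpowers] at h1
  exact h1

theorem DataG.order_z (h : DataG p n s W x y z) : orderOf z = p ^ (n - 2) := by
  obtain ⟨k, hk, hk2⟩ := (Nat.dvd_prime_pow hpp.out).mp (orderOf_dvd_of_pow_eq_one h.hz)
  have h1 := h.card_le.trans (Nat.mul_le_mul_left p h.card_A_le)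
  have h2 : orderOf y ≤ p := orderOf_le_of_pow_eq_one hpp.out.pos h.hy
  have h3 : p ^ n ≤ p * (p * orderOf z) := h1.trans (Nat.mul_le_mul_left p (Nat.mul_le_mul_right _ h2))
  rw [hk2] at h3 ⊢
  have h4 : p ^ n ≤ p ^ (k + 2) := by
    calc p ^ n ≤ p * (p * p ^ k) := h3
      _ = p ^ (k + 2) := by ring
  have h5 := (Nat.pow_le_pow_iff_right hpp.out.one_lt).mp h4
  congr 1; omega

theorem DataG.y_notMem (h : DataG p n s W x y z) : y ∉ zpowers z := by
  intro hy
  have hle : h.A ≤ zpowers z := by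
    rintro _ ⟨i, j, rfl⟩
    exact Subgroup.mul_mem _ (Subgroup.zpow_mem _ hy _) (Subgroup.zpow_mem _ (Subgroup.mem_zpowers z) _)
  have h1 := Subgroup.card_le_of_le hle
  rw [Nat.card_zpowers, h.order_z] at h1
  have h2 : p ^ n ≤ p ^ (n - 2 + 1) := by
    calc p ^ n ≤ p * Nat.card h.A := h.card_le
      _ ≤ p * p ^ (n - 2) := Nat.mul_le_mul_left p h1
      _ = p ^ (n - 2 + 1) := by rw [pow_succ, mul_comm]
  have h3 := (Nat.pow_le_pow_iff_right hpp.out.one_lt).mp h2
  have := h.hn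
  omega

theorem DataG.dvd_of_mem (h : DataG p n s W x y z) {i : ℤ} (hi : y ^ i ∈ zpowers z) : (p : ℤ) ∣ i := by
  by_contra hnd
  apply h.y_notMem
  have hcop : IsCoprime i (p : ℤ) := by
    have := (Nat.prime_iff_prime_int.mp hpp.out).coprime_iff_not_dvd.mpr hnd
    exact this.symm
  obtain ⟨a, b, hab⟩ := hcop
  have : y = (y ^ i) ^ a := by
    calc y = y ^ (1 : ℤ) := (zpow_one y).symm
      _ = y ^ (a * i + b * p) := by rw [hab]
      _ = (y ^ i) ^ a := by
        rw [zpow_add, mul_comm a i, zpow_mul, mul_comm b (p : ℤ), zpow_mul, zpow_natCast, h.hy, one_zpow, mul_one]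
  rw [this]
  exact Subgroup.zpow_mem _ hi _

theorem DataG.indep (h : DataG p n s W x y z) {i j : ℤ} (hij : y ^ i * z ^ j = 1) :
    (p : ℤ) ∣ i ∧ ((p ^ (n - 2) : ℕ) : ℤ) ∣ j := by
  have h1 : (p : ℤ) ∣ i := by
    apply h.dvd_of_mem
    rw [mul_eq_one_iff_eq_inv] at hij
    rw [hij]
    exact Subgroup.inv_mem _ (Subgroup.zpow_mem _ (Subgroup.mem_zpowers z) _)
  refine ⟨h1, ?_⟩
  obtain ⟨c, rfl⟩ := h1
  rw [zpow_mul, zpow_natCast, h.hy, one_zpow, one_mul] at hij
  rw [← h.order_z]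
  exact orderOf_dvd_iff_zpow_eq_one.mpr hij

theorem DataG.w_order (h : DataG p n s W x y z) : orderOf (z ^ p ^ (n - 3)) = p := by
  rw [orderOf_pow, h.order_z]
  have h1 : n - 2 = (n - 3) + 1 := by have := h.hn; omega
  rw [h1, pow_succ, Nat.gcd_eq_right (Dvd.intro _ rfl), Nat.mul_div_cancel_left _ (pow_pos hpp.out.pos _)]

/-- an element commuting with `y` lies in `A` -/
theorem DataG.mem_of_comm (h : DataG p n s W x y z) {g : W} (hg : Commute g y) : g ∈ h.A := by
  obtain ⟨a, ha, k, hk, rfl⟩ := h.exists_rep g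
  have h1 : Commute (x ^ k) y := by
    have : x ^ k = (x ^ k * a) * a⁻¹ := by group
    rw [this]
    exact Commute.mul_left hg ((h.comm_A ha h.y_mem).inv_left)
  by_cases hk0 : k = 0
  · rw [hk0, pow_zero, one_mul]; exact ha
  exfalso
  -- then `x` commutes with `y`
  have hcop : Nat.Coprime k p := ((Nat.Prime.coprime_iff_not_dvd hpp.out).mpr (Nat.not_dvd_of_pos_of_lt (Nat.pos_of_ne_zero hk0) hk)).symm
  obtain ⟨a', b', hab⟩ := Nat.isCoprime_iff_coprime.mpr hcop
  have h2 : Commute x y := by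
    have : x = (x ^ k) ^ a' := by
      calc x = x ^ (1 : ℤ) := (zpow_one x).symm
        _ = x ^ (a' * k + b' * p) := by rw [hab]
        _ = (x ^ k) ^ a' := by
          rw [zpow_add, mul_comm a' (k : ℤ), zpow_mul, mul_comm b' (p : ℤ), zpow_mul, zpow_natCast x p, h.hx, one_zpow, mul_one,
            zpow_natCast]
    rw [this]
    exact h1.zpow_left _
  have h3 := h.hxy
  rw [mul_assoc, ← h2.eq, inv_mul_cancel_left] at h3
  have h4 : z ^ (s * p ^ (n - 3)) = 1 := (left_eq_mul.mp h3)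
  rw [mul_comm, pow_mul] at h4
  have h5 := orderOf_dvd_of_pow_eq_one h4
  rw [h.w_order] at h5
  exact h.hs' h5

theorem DataG.center_eq (h : DataG p n s W x y z) : center W = zpowers (z ^ p) := by
  apply le_antisymm
  · intro g hg
    have hc := Subgroup.mem_center_iff.mp hg
    have hgA : g ∈ h.A := h.mem_of_comm (hc y).symm
    obtain ⟨i, j, rfl⟩ := hgA
    have e0 : x⁻¹ * (y ^ i * z ^ j) * x = y ^ i * z ^ j := by
      rw [mul_assoc, ← hc x, inv_mul_cancel_left]
    have h1 : x⁻¹ * (y ^ i * z ^ j) * x = (x⁻¹ * y * x) ^ i * (x⁻¹ * z * x) ^ j := by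
      have e1 := conj_zpow (i := i) (a := x⁻¹) (b := y)
      have e2 := conj_zpow (i := j) (a := x⁻¹) (b := z)
      rw [inv_inv] at e1 e2
      rw [e1, e2]; group
    rw [h1, h.hxy, h.hxz] at e0
    have hyz : Commute y z := h.hyz
    rw [(hyz.pow_right _).mul_zpow, hyz.mul_zpow] at e0
    set u := (z ^ (s * p ^ (n - 3))) ^ i with hu
    have huy : Commute u (y ^ j) := ((hyz.symm.pow_left _).zpow_zpow i j)
    have e2 : y ^ j * u = 1 := by
      have : y ^ i * (y ^ j * u) * z ^ j = y ^ i * z ^ j := by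
        rw [← huy.eq]; rw [← e0]; group
      have h5 := mul_right_cancel this
      exact (mul_eq_left.mp h5)
    have hu2 : u = z ^ (((s * p ^ (n - 3) : ℕ) : ℤ) * i) := by
      rw [hu, zpow_mul, zpow_natCast]
    rw [hu2] at e2
    obtain ⟨hj, hi⟩ := h.indep e2
    have hi' : (p : ℤ) ∣ i := by
      have hn := h.hn
      have e3 : n - 2 = (n - 3) + 1 := by omega
      rw [e3, pow_succ, Nat.cast_mul, Nat.cast_mul, mul_comm (s : ℤ), mul_assoc] at hi
      have h6 : ((p ^ (n - 3) : ℕ) : ℤ) ≠ 0 := by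
        exact_mod_cast (pow_pos hpp.out.pos _).ne'
      have h7 := (mul_dvd_mul_iff_left h6).mp hi
      rcases (Nat.prime_iff_prime_int.mp hpp.out).dvd_or_dvd h7 with h8 | h8
      · exact absurd (Int.natCast_dvd_natCast.mp h8) h.hs'
      · exact h8
    obtain ⟨c, rfl⟩ := hi'
    obtain ⟨d, rfl⟩ := hj
    rw [zpow_mul, zpow_natCast, h.hy, one_zpow, one_mul]
    refine ⟨d, ?_⟩
    show (z ^ p) ^ d = z ^ ((p : ℤ) * d)
    rw [zpow_mul, zpow_natCast]
  · rw [Subgroup.zpowers_le]; exact h.zp_center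

/-- the subgroup `⟨y, w⟩` -/
def DataG.D (h : DataG p n s W x y z) : Subgroup W where
  carrier := {g | ∃ i j : ℤ, g = y ^ i * (z ^ p ^ (n - 3)) ^ j}
  one_mem' := ⟨0, 0, by simp⟩
  mul_mem' := by
    rintro _ _ ⟨i, j, rfl⟩ ⟨k, l, rfl⟩
    refine ⟨i + k, j + l, ?_⟩
    have := (((show Commute y z from h.hyz).pow_right (p ^ (n - 3))).zpow_zpow k j)
    rw [zpow_add, zpow_add, mul_assoc, ← mul_assoc ((z ^ p ^ (n - 3)) ^ j), ← this.eq]
    group
  inv_mem' := by
    rintro _ ⟨i, j, rfl⟩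
    refine ⟨-i, -j, ?_⟩
    have := (((show Commute y z from h.hyz).pow_right (p ^ (n - 3))).zpow_zpow (-i) (-j))
    rw [mul_inv_rev, ← zpow_neg, ← zpow_neg, this.eq]

theorem DataG.y_mem_D (h : DataG p n s W x y z) : y ∈ h.D := ⟨1, 0, by simp⟩
theorem DataG.w_mem_D (h : DataG p n s W x y z) : z ^ p ^ (n - 3) ∈ h.D := ⟨0, 1, by simp⟩

theorem DataG.D_normal (h : DataG p n s W x y z) : h.D.Normal := by
  have hwc := Subgroup.mem_center_iff.mp h.w_center
  have key : ∀ a ∈ h.D, x⁻¹ * a * x ∈ h.D := by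
    rintro _ ⟨i, j, rfl⟩
    have h1 : x⁻¹ * (y ^ i * (z ^ p ^ (n - 3)) ^ j) * x = (x⁻¹ * y * x) ^ i * (x⁻¹ * (z ^ p ^ (n - 3)) * x) ^ j := by
      have e1 := conj_zpow (i := i) (a := x⁻¹) (b := y)
      have e2 := conj_zpow (i := j) (a := x⁻¹) (b := (z ^ p ^ (n - 3)))
      rw [inv_inv] at e1 e2
      rw [e1, e2]; group
    have h2 : x⁻¹ * (z ^ p ^ (n - 3)) * x = z ^ p ^ (n - 3) := by
      rw [mul_assoc, ← hwc x, inv_mul_cancel_left]
    rw [h1, h.hxy, h2, mul_comm s, pow_mul]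
    exact h.D.mul_mem (h.D.zpow_mem (h.D.mul_mem h.y_mem_D (h.D.pow_mem h.w_mem_D _)) _) (h.D.zpow_mem h.w_mem_D _)
  rw [← Subgroup.normalizer_eq_top_iff, eq_top_iff, ← h.hgen, Subgroup.closure_le]
  rintro a (rfl | rfl | rfl)
  · have : a⁻¹ ∈ normalizer (h.D : Set W) := by
      apply Subgroup.mem_normalizer_fintype
      intro b hb
      rw [inv_inv]
      exact key b hb
    have h2 := Subgroup.inv_mem _ this
    rwa [inv_inv] at h2
  · exact Subgroup.le_normalizer h.y_mem_D
  · have : ∀ b ∈ h.D, a * b * a⁻¹ = b := by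
      rintro _ ⟨i, j, rfl⟩
      have h1 : Commute a (y ^ i * (a ^ p ^ (n - 3)) ^ j) :=
        ((show Commute y a from h.hyz).symm.zpow_right i).mul_right (((Commute.refl a).pow_right _).zpow_right j)
      rw [h1.eq, mul_inv_cancel_right]
    apply Subgroup.mem_normalizer_fintype
    intro b hb
    rw [this b hb]; exact hb

theorem DataG.commutator_le (h : DataG p n s W x y z) (a b : W) : a * b * a⁻¹ * b⁻¹ ∈ h.D := by
  have hDn := h.D_normal
  have h0 : ∀ u v : W, (u * v * u⁻¹ * v⁻¹ ∈ h.D) ↔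
      (QuotientGroup.mk' h.D) u * (QuotientGroup.mk' h.D) v = (QuotientGroup.mk' h.D) v * (QuotientGroup.mk' h.D) u := by
    intro u v
    rw [show u * v * u⁻¹ * v⁻¹ ∈ h.D ↔ (QuotientGroup.mk' h.D) (u * v * u⁻¹ * v⁻¹) = 1 from (QuotientGroup.eq_one_iff _).symm,
      map_mul, map_mul, map_mul, map_inv, map_inv, mul_inv_eq_one, mul_inv_eq_iff_eq_mul]
  rw [h0]
  apply RankTwoC.comm_of_closure ((QuotientGroup.mk' h.D) '' {x, y, z})
  · rw [← MonoidHom.map_closure, h.hgen, Subgroup.map_top_of_surjective _ (QuotientGroup.mk'_surjective h.D)]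
  · have hy1 : (QuotientGroup.mk' h.D) y = 1 := (QuotientGroup.eq_one_iff _).mpr h.y_mem_D
    have hxz : (QuotientGroup.mk' h.D) x * (QuotientGroup.mk' h.D) z = (QuotientGroup.mk' h.D) z * (QuotientGroup.mk' h.D) x := by
      have h1 := congrArg (QuotientGroup.mk' h.D) h.hxz
      rw [map_mul _ y, hy1, one_mul, map_mul, map_mul, map_inv] at h1
      calc (QuotientGroup.mk' h.D) x * (QuotientGroup.mk' h.D) z
          = (QuotientGroup.mk' h.D) x * (((QuotientGroup.mk' h.D) x)⁻¹ * (QuotientGroup.mk' h.D) z * (QuotientGroup.mk' h.D) x) := by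
            rw [h1]
        _ = _ := by group
    rintro _ ⟨a, (rfl | rfl | rfl), rfl⟩ _ ⟨b, (rfl | rfl | rfl), rfl⟩
    · rfl
    · rw [hy1, one_mul, mul_one]
    · exact hxz
    · rw [hy1, one_mul, mul_one]
    · rfl
    · rw [hy1, one_mul, mul_one]
    · exact hxz.symm
    · rw [hy1, one_mul, mul_one]
    · rfl

/-- `y` is a commutator -/
theorem DataG.y_mem_commutator (h : DataG p n s W x y z) : y ∈ ⁅(⊤ : Subgroup W), (⊤ : Subgroup W)⁆ := by
  have h1 := Subgroup.commutator_mem_commutator (Subgroup.mem_top x⁻¹) (Subgroup.mem_top z)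
  rw [commutatorElement_def, inv_inv, h.hxz, mul_inv_cancel_right] at h1
  exact h1

theorem DataG.D_comm (h : DataG p n s W x y z) {a : W} (ha : a ∈ h.D) : Commute z a := by
  obtain ⟨i, j, rfl⟩ := ha
  exact ((show Commute y z from h.hyz).symm.zpow_right i).mul_right (((Commute.refl z).pow_right _).zpow_right j)

theorem DataG.D_pow (h : DataG p n s W x y z) {a : W} (ha : a ∈ h.D) : a ^ p = 1 := by
  obtain ⟨i, j, rfl⟩ := ha
  have h1 : Commute (y ^ i) ((z ^ p ^ (n - 3)) ^ j) := ((show Commute y z from h.hyz).pow_right _).zpow_zpow i j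
  rw [h1.mul_pow]
  have h2 : (y ^ i) ^ p = 1 := by
    rw [← zpow_natCast, ← zpow_mul, mul_comm, zpow_mul, zpow_natCast, h.hy, one_zpow]
  have h3 : ((z ^ p ^ (n - 3)) ^ j) ^ p = 1 := by
    rw [← zpow_natCast, ← zpow_mul, mul_comm, zpow_mul, zpow_natCast, ← pow_mul, ← pow_succ]
    have : n - 3 + 1 = n - 2 := by have := h.hn; omega
    rw [this, h.hz, one_zpow]
  rw [h2, h3, one_mul]

/-- elements of order `p` of `A` lie in `D` -/
theorem DataG.mem_D_of_pow (h : DataG p n s W x y z) {a : W} (ha : a ∈ h.A) (hp : a ^ p = 1) : a ∈ h.D := by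
  obtain ⟨i, j, rfl⟩ := ha
  have h1 : Commute (y ^ i) (z ^ j) := (show Commute y z from h.hyz).zpow_zpow i j
  rw [h1.mul_pow] at hp
  have h2 : (y ^ i) ^ p = 1 := by
    rw [← zpow_natCast, ← zpow_mul, mul_comm, zpow_mul, zpow_natCast, h.hy, one_zpow]
  rw [h2, one_mul, ← zpow_natCast, ← zpow_mul] at hp
  have h3 := orderOf_dvd_iff_zpow_eq_one.mpr hp
  rw [h.order_z] at h3
  have hn := h.hn
  have e3 : n - 2 = (n - 3) + 1 := by omega
  rw [e3, pow_succ, Nat.cast_mul] at h3
  have h7 : ((p ^ (n - 3) : ℕ) : ℤ) ∣ j := by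
    have h6 : (p : ℤ) ≠ 0 := by exact_mod_cast hpp.out.ne_zero
    exact (mul_dvd_mul_iff_right h6).mp h3
  obtain ⟨c, rfl⟩ := h7
  refine ⟨i, c, ?_⟩
  rw [zpow_mul z, zpow_natCast]

end Cfsg.Agent.H271.RankTwoG

namespace Cfsg.Agent.H271.RankTwoSit

open Cfsg Subgroup
open Cfsg.Agent.H271.RankTwoG

variable {N : Type*} [Group N] [Finite N] {p : ℕ} [hpp : Fact p.Prime] {P K : Subgroup N} {ξ : N}

/-- the groups `G(p, n; s)` -/
theorem Sit.caseG (h : Sit p P K ξ) (hp2 : p ≠ 2) (n s : ℕ) (x y z : P) (hD : DataG p n s P x y z) : False := by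
  have hPn := h.hPn
  have hcyc : IsCyclic (center P) := by
    rw [hD.center_eq]; infer_instance
  -- `P' = D`
  have hPD : ∀ a ∈ (⁅P, P⁆ : Subgroup N), ∃ b ∈ hD.D, (b : N) = a := by
    have hle : (⁅P, P⁆ : Subgroup N) ≤ hD.D.map P.subtype := by
      rw [Subgroup.commutator_le]
      intro a ha b hb
      refine ⟨_, hD.commutator_le ⟨a, ha⟩ ⟨b, hb⟩, ?_⟩
      rw [commutatorElement_def]
      rfl
    intro a ha
    obtain ⟨b, hb, e⟩ := hle ha
    exact ⟨b, hb, e⟩
  have hyP : (y : N) ∈ (⁅P, P⁆ : Subgroup N) := by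
    have h1 : (y : N) ∈ (⁅(⊤ : Subgroup P), (⊤ : Subgroup P)⁆ : Subgroup P).map P.subtype := ⟨y, hD.y_mem_commutator, rfl⟩
    rw [Subgroup.map_commutator, ← MonoidHom.range_eq_map, Subgroup.range_subtype] at h1
    exact h1
  have hz := h.mem_of_fixed (v := (z : N)) z.2 (by
    intro k hk
    have hzk : k * (z : N) * k⁻¹ ∈ P := hPn.conj_mem _ z.2 k
    set z' : P := ⟨k * z * k⁻¹, hzk⟩ with hz'
    -- `z'` centralises `P'`
    have h1 : z' ∈ hD.A := by
      apply hD.mem_of_comm
      have hPPn : (⁅P, P⁆ : Subgroup N).Normal := inferInstance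
      have h2 : k⁻¹ * (y : N) * k ∈ (⁅P, P⁆ : Subgroup N) := by
        have := hPPn.conj_mem _ hyP k⁻¹
        rwa [inv_inv] at this
      obtain ⟨b, hb, e⟩ := hPD _ h2
      have h3 := hD.D_comm hb
      have h4 : (z : N) * (k⁻¹ * (y : N) * k) = (k⁻¹ * (y : N) * k) * z := by
        rw [← e]; exact congrArg Subtype.val h3.eq
      apply Subtype.ext
      show k * (z : N) * k⁻¹ * y = y * (k * z * k⁻¹)
      calc k * (z : N) * k⁻¹ * y = k * ((z : N) * (k⁻¹ * (y : N) * k)) * k⁻¹ := by group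
        _ = k * ((k⁻¹ * (y : N) * k) * z) * k⁻¹ := by rw [h4]
        _ = y * (k * z * k⁻¹) := by group
    have h5 : z' * z⁻¹ ∈ hD.A := hD.A.mul_mem h1 (hD.A.inv_mem hD.z_mem)
    have h6 : (z' * z⁻¹) ^ p = 1 := by
      rw [((hD.comm_A h1 hD.z_mem).inv_right).mul_pow]
      have h7 : z' ^ p = z ^ p := by
        apply Subtype.ext
        have h8 := h.center_fixed hp2 hcyc hD.zp_center hk
        show (k * (z : N) * k⁻¹) ^ p = (z : N) ^ p
        have h9 : ((z ^ p : P) : N) = (z : N) ^ p := rfl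
        rw [h9] at h8
        rw [conj_pow, ← h8.eq, mul_inv_cancel_right]
      rw [h7, inv_pow, mul_inv_cancel]
    have h7 := hD.mem_D_of_pow h5 h6
    -- `D ≤ P'`
    obtain ⟨i, j, hij⟩ := h7
    have hwP : ((z ^ p ^ (n - 3) : P) : N) ∈ (⁅P, P⁆ : Subgroup N) := by
      have h8 : ((y⁻¹ * (x⁻¹ * y * x) : P) : N) ∈ (⁅P, P⁆ : Subgroup N) := by
        have := Subgroup.commutator_mem_commutator (H₁ := P) (H₂ := P) (P.inv_mem y.2) (P.inv_mem x.2)
        rw [commutatorElement_def, inv_inv, inv_inv] at this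
        have e : ((y⁻¹ * (x⁻¹ * y * x) : P) : N) = (y : N)⁻¹ * (x : N)⁻¹ * y * x := by
          simp only [Subgroup.coe_mul, Subgroup.coe_inv]; group
        rw [e]; exact this
      rw [hD.hxy, inv_mul_cancel_left] at h8
      -- `w ^ s ∈ P'`, `s` prime to `p`
      have hs := hD.hs'
      have hcop : Nat.Coprime s p := ((Nat.Prime.coprime_iff_not_dvd hpp.out).mpr hs).symm
      obtain ⟨a', b', hab⟩ := Nat.isCoprime_iff_coprime.mpr hcop
      have e : z ^ p ^ (n - 3) = (z ^ (s * p ^ (n - 3))) ^ a' := by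
        have hw : (z ^ p ^ (n - 3)) ^ p = 1 := hD.D_pow hD.w_mem_D
        calc z ^ p ^ (n - 3) = (z ^ p ^ (n - 3)) ^ (1 : ℤ) := (zpow_one _).symm
          _ = (z ^ p ^ (n - 3)) ^ (a' * s + b' * p) := by rw [hab]
          _ = (z ^ (s * p ^ (n - 3))) ^ a' := by
            rw [zpow_add, mul_comm a' (s : ℤ), zpow_mul, mul_comm b' (p : ℤ), zpow_mul, zpow_natCast _ p, hw, one_zpow, mul_one,
              zpow_natCast, ← pow_mul, mul_comm (p ^ (n - 3)) s]
      rw [e]
      have : (((z ^ (s * p ^ (n - 3))) ^ a' : P) : N) = ((z ^ (s * p ^ (n - 3)) : P) : N) ^ a' := rfl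
      rw [this]
      exact Subgroup.zpow_mem _ h8 _
    have e : k * (z : N) * k⁻¹ * (z : N)⁻¹ = ((z' * z⁻¹ : P) : N) := rfl
    rw [e, hij]
    exact Subgroup.mul_mem _ (Subgroup.zpow_mem _ hyP i) (Subgroup.zpow_mem _ hwP j))
  obtain ⟨b, hb, e⟩ := hPD _ hz
  have hbz : b = z := Subtype.ext e
  have h1 : z ^ p = 1 := by rw [← hbz]; exact hD.D_pow hb
  have h2 := orderOf_dvd_of_pow_eq_one h1
  rw [hD.order_z] at h2
  have h3 : p ^ (n - 2) ∣ p ^ 1 := by rwa [pow_one]
  have := (Nat.pow_dvd_pow_iff_le_right hpp.out.one_lt).mp h3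
  have := hD.hn
  omega

end Cfsg.Agent.H271.RankTwoSit
end

-- part: H271/RankTwoMax
section
/-!
# `p`-groups of maximal class with an automorphism inverting `P / P'`
-/

set_option autoImplicit false

open scoped commutatorElement

namespace Cfsg.Agent.H271.RankTwoMax

open Cfsg Subgroup
open Cfsg.Agent.H271.RankTwoTr

/-- the lower central series (starting with `0`) -/
abbrev Lc (G : Type*) [Group G] (i : ℕ) : Subgroup G := (⊤ : Subgroup G).lowerCentralSeries i

section comm

variable {Q : Type*} [Group Q]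

theorem comm_mul_right {a : Q} (h : ∀ v, ⁅a, v⁆ ∈ center Q) (u v : Q) : ⁅a, u * v⁆ = ⁅a, u⁆ * ⁅a, v⁆ := by
  have h1 := Subgroup.mem_center_iff.mp (h v) u
  have e : ⁅a, u * v⁆ = ⁅a, u⁆ * (u * ⁅a, v⁆ * u⁻¹) := by
    simp only [commutatorElement_def]; group
  rw [e, h1, mul_inv_cancel_right]

theorem comm_inv_right {a : Q} (h : ∀ v, ⁅a, v⁆ ∈ center Q) (u : Q) : ⁅a, u⁻¹⁆ = ⁅a, u⁆⁻¹ := by
  have h1 := comm_mul_right h u u⁻¹
  rw [mul_inv_cancel, commutatorElement_one_right] at h1
  exact (eq_inv_of_mul_eq_one_right h1.symm)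

theorem comm_inv_left {a : Q} (h : ∀ v, ⁅a, v⁆ ∈ center Q) (u : Q) : ⁅a⁻¹, u⁆ = ⁅a, u⁆⁻¹ := by
  have h1 := Subgroup.mem_center_iff.mp (Subgroup.inv_mem _ (h u)) a⁻¹
  have e : ⁅a⁻¹, u⁆ = a⁻¹ * ⁅a, u⁆⁻¹ * a := by
    simp only [commutatorElement_def]; group
  rw [e, h1, inv_mul_cancel_right]

theorem comm_derived {a : Q} (h : ∀ v, ⁅a, v⁆ ∈ center Q) {d : Q} (hd : d ∈ commutator Q) : ⁅a, d⁆ = 1 := by
  let f : Q →* center Q :=
    { toFun := fun v => ⟨⁅a, v⁆, h v⟩
      map_one' := Subtype.ext (commutatorElement_one_right a)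
      map_mul' := fun u v => Subtype.ext (comm_mul_right h u v) }
  have h1 : commutator Q ≤ f.ker := by
    rw [commutator_def, Subgroup.commutator_le]
    intro x _ y _
    rw [MonoidHom.mem_ker, map_commutatorElement, commutatorElement_eq_one_iff_mul_comm]
    exact Subtype.ext (Subgroup.mem_center_iff.mp (f y).2 (f x : Q))
  have h2 := h1 hd
  rw [MonoidHom.mem_ker] at h2
  exact congrArg Subtype.val h2

end comm

section inversion

variable {G : Type*} [Group G]

theorem center_mod (i : ℕ) (a : G) (ha : a ∈ Lc G i) :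
    (QuotientGroup.mk' (Lc G (i + 1))) a ∈ center (G ⧸ Lc G (i + 1)) := by
  rw [Subgroup.mem_center_iff]
  intro q
  obtain ⟨g, rfl⟩ := QuotientGroup.mk'_surjective (Lc G (i + 1)) q
  have h1 : ⁅a, g⁆ ∈ Lc G (i + 1) := Subgroup.commutator_mem_commutator ha (Subgroup.mem_top g)
  have h2 : (QuotientGroup.mk' (Lc G (i + 1))) ⁅a, g⁆ = 1 := (QuotientGroup.eq_one_iff _).mpr h1
  rw [map_commutatorElement, commutatorElement_eq_one_iff_mul_comm] at h2
  exact h2.symm

/-- an automorphism inverting `G / G'` acts on `L i / L (i+1)` as `(-1)^(i+1)`. -/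
theorem inversion (φ : G →* G) (h : ∀ g, φ g * g ∈ Lc G 1) (i : ℕ) :
    ∀ a ∈ Lc G i, φ a * a ^ ((-1 : ℤ) ^ i) ∈ Lc G (i + 1) := by
  induction i with
  | zero =>
    intro a _
    rw [pow_zero, zpow_one]; exact h a
  | succ i ih =>
    intro b hb
    set π := QuotientGroup.mk' (Lc G (i + 1 + 1)) with hπ
    have hker : ∀ g, π g = 1 ↔ g ∈ Lc G (i + 1 + 1) := fun g => QuotientGroup.eq_one_iff g
    have hcen : ∀ c ∈ Lc G (i + 1), π c ∈ center (G ⧸ Lc G (i + 1 + 1)) := fun c hc => center_mod (i + 1) c hc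
    have hbr : ∀ a ∈ Lc G i, ∀ v, ⁅π a, v⁆ ∈ center (G ⧸ Lc G (i + 1 + 1)) := by
      intro a ha v
      obtain ⟨g, rfl⟩ := QuotientGroup.mk'_surjective (Lc G (i + 1 + 1)) v
      rw [← map_commutatorElement]
      exact hcen _ (Subgroup.commutator_mem_commutator ha (Subgroup.mem_top g))
    have hder : ∀ d ∈ Lc G 1, π d ∈ commutator (G ⧸ Lc G (i + 1 + 1)) := by
      intro d hd
      have h1 : π d ∈ (Lc G 1).map π := ⟨d, hd, rfl⟩
      rw [Subgroup.map_lowerCentralSeries] at h1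
      rw [← Subgroup.top_lowerCentralSeries_one]
      exact Subgroup.lowerCentralSeries_mono 1 le_top h1
    -- the claim: `π (φ b) = π b ^ ((-1)^i)`
    have key : π (φ b) = π b ^ ((-1 : ℤ) ^ i) := by
      have hb' : b ∈ closure {x | ∃ p ∈ Lc G i, ∃ q ∈ (⊤ : Subgroup G), ⁅p, q⁆ = x} := hb
      induction hb' using Subgroup.closure_induction with
      | mem x hx =>
        obtain ⟨a, ha, u, -, rfl⟩ := hx
        have hc := ih a ha
        have hd := h u
        obtain ⟨c, hcdef⟩ : ∃ c, c = φ a * a ^ ((-1 : ℤ) ^ i) := ⟨_, rfl⟩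
        obtain ⟨d, hddef⟩ : ∃ d, d = φ u * u := ⟨_, rfl⟩
        rw [← hcdef] at hc
        rw [← hddef] at hd
        have ea : φ a = c * a ^ (-(-1 : ℤ) ^ i) := by rw [hcdef, zpow_neg]; group
        have eu : φ u = d * u⁻¹ := by rw [hddef]; group
        have hcz := hcen c hc
        have e1 : ∀ w v : G ⧸ Lc G (i + 1 + 1), ⁅π c * w, v⁆ = ⁅w, v⁆ := by
          intro w v
          have h1 := Subgroup.mem_center_iff.mp hcz
          have h2 := h1 (w * v * w⁻¹)
          have h3 := h1 v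
          rw [commutatorElement_def, commutatorElement_def, mul_inv_rev]
          calc π c * w * v * (w⁻¹ * (π c)⁻¹) * v⁻¹ = π c * (w * v * w⁻¹) * (π c)⁻¹ * v⁻¹ := by group
            _ = (w * v * w⁻¹) * π c * (π c)⁻¹ * v⁻¹ := by rw [h2]
            _ = w * v * w⁻¹ * v⁻¹ := by group
        rw [map_commutatorElement, map_commutatorElement, ea, eu, map_mul, map_mul, e1]
        have haε : ∀ v : G ⧸ Lc G (i + 1 + 1), ⁅(π a) ^ (-(-1 : ℤ) ^ i), v⁆ = ⁅π a, v⁆ ^ (-(-1 : ℤ) ^ i) := by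
          intro v
          rcases neg_one_pow_eq_or ℤ i with h1 | h1
          · rw [h1, zpow_neg_one, zpow_neg_one]
            exact comm_inv_left (hbr a ha) v
          · rw [h1, neg_neg, zpow_one, zpow_one]
        rw [map_zpow, haε, comm_mul_right (hbr a ha), comm_derived (hbr a ha) (hder d hd), one_mul, map_inv,
          comm_inv_right (hbr a ha), map_commutatorElement, inv_zpow', neg_neg]
      | one => rw [map_one, map_one, one_zpow]
      | mul x y hx hy h1 h2 =>
        have hx' : x ∈ Lc G (i + 1) := hx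
        have hy' : y ∈ Lc G (i + 1) := hy
        have h3 : Commute (π x) (π y) := (Subgroup.mem_center_iff.mp (hcen x hx') (π y)).symm
        rw [map_mul, map_mul, h1 hx', h2 hy', map_mul, h3.mul_zpow]
      | inv x hx h1 =>
        have hx' : x ∈ Lc G (i + 1) := hx
        rw [map_inv, map_inv, h1 hx', map_inv, inv_zpow]
    rw [← hker, map_mul, map_zpow, key, ← zpow_add, pow_succ]
    have : (-1 : ℤ) ^ i + (-1) ^ i * (-1) = 0 := by ring
    rw [this, zpow_zero]

end inversion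

section maximal

variable {G : Type*} [Group G] [Finite G] {p : ℕ} [hpp : Fact p.Prime] {n : ℕ}

theorem lt_of_ne_bot (hG : IsPGroup p G) {i : ℕ} (h : Lc G i ≠ ⊥) : Lc G (i + 1) < Lc G i := by
  rw [show Lc G (i + 1) = ⁅Lc G i, (⊤ : Subgroup G)⁆ from rfl]
  exact commutator_lt hG _ h

theorem ne_bot_of_le {j : ℕ} (h : Lc G j ≠ ⊥) {i : ℕ} (hi : i ≤ j) : Lc G i ≠ ⊥ := by
  intro hb
  apply h
  rw [eq_bot_iff, ← hb]
  exact Subgroup.lowerCentralSeries_antitone _ hi

theorem card_step (hG : IsPGroup p G) {i : ℕ} (h : Lc G i ≠ ⊥) : p * Nat.card (Lc G (i + 1)) ≤ Nat.card (Lc G i) := by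
  have h2 := lt_of_ne_bot hG h
  obtain ⟨a, ha⟩ := IsPGroup.iff_card.1 (hG.to_subgroup (Lc G (i + 1)))
  obtain ⟨b, hb⟩ := IsPGroup.iff_card.1 (hG.to_subgroup (Lc G i))
  have h3 : Nat.card (Lc G (i + 1)) < Nat.card (Lc G i) := by
    apply lt_of_le_of_ne (Subgroup.card_le_of_le h2.le)
    intro h
    exact h2.ne (Subgroup.eq_of_le_of_card_ge h2.le h.ge)
  rw [ha, hb] at h3 ⊢
  have h4 := (Nat.pow_lt_pow_iff_right hpp.out.one_lt).mp h3
  rw [mul_comm, ← pow_succ]
  exact Nat.pow_le_pow_right hpp.out.pos h4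

theorem card_ge (hG : IsPGroup p G) (h : Lc G (n - 2) ≠ ⊥) (k : ℕ) (hk : k ≤ n - 2) : p ^ (k + 1) ≤ Nat.card (Lc G (n - 2 - k)) := by
  induction k with
  | zero =>
    obtain ⟨a, ha⟩ := IsPGroup.iff_card.1 (hG.to_subgroup (Lc G (n - 2)))
    rw [Nat.sub_zero, ha]
    apply Nat.pow_le_pow_right hpp.out.pos
    rcases Nat.eq_zero_or_pos a with h0 | h0
    · exfalso; apply h
      rw [h0, pow_zero] at ha
      exact Subgroup.eq_bot_of_card_eq _ ha
    · omega
  | succ k ih =>
    have h1 := ih (by omega)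
    have e : n - 2 - k = (n - 2 - (k + 1)) + 1 := by omega
    rw [e] at h1
    have h2 := card_step hG (ne_bot_of_le h (show n - 2 - (k + 1) ≤ n - 2 by omega))
    calc p ^ (k + 1 + 1) = p * p ^ (k + 1) := by rw [pow_succ, mul_comm]
      _ ≤ p * Nat.card (Lc G (n - 2 - (k + 1) + 1)) := Nat.mul_le_mul_left p h1
      _ ≤ _ := h2

/-- the derived group has index at least `p²` -/
theorem card_one_le (hG : IsPGroup p G) (h1 : Lc G 1 ≠ ⊥) : p ^ 2 * Nat.card (Lc G 1) ≤ Nat.card G := by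
  have hnil : Group.IsNilpotent G := hG.isNilpotent
  have hc : ¬ IsCyclic (G ⧸ commutator G) := by
    intro hc
    apply h1
    rw [show Lc G 1 = commutator G from Subgroup.top_lowerCentralSeries_one]
    exact Cfsg.Agent.S1459.commutator_eq_bot_of_cyclic hc
  obtain ⟨b, hb⟩ := hG.index (commutator G)
  have hb2 : 2 ≤ b := by
    by_contra hcon
    push Not at hcon
    apply hc
    have h5 : Nat.card (G ⧸ commutator G) = p ^ b := hb
    have h6 : b = 0 ∨ b = 1 := by omega
    rcases h6 with h6 | h6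
    · rw [h6, pow_zero] at h5
      have := (Nat.card_eq_one_iff_unique.mp h5).1
      exact isCyclic_of_subsingleton
    · rw [h6, pow_one] at h5
      exact isCyclic_of_prime_card h5
  have h2 := (commutator G).card_mul_index
  rw [hb] at h2
  rw [show Lc G 1 = commutator G from Subgroup.top_lowerCentralSeries_one, ← h2, mul_comm]
  exact Nat.mul_le_mul_left _ (Nat.pow_le_pow_right hpp.out.pos hb2)

theorem card_le (hG : Nat.card G = p ^ n) (hn : 3 ≤ n) (h : Lc G (n - 2) ≠ ⊥) (i : ℕ) (hi1 : 1 ≤ i) (hi : i ≤ n - 1) :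
    Nat.card (Lc G i) ≤ p ^ (n - 1 - i) := by
  have hGp : IsPGroup p G := IsPGroup.of_card hG
  induction i, hi1 using Nat.le_induction with
  | base =>
    have h1 := card_one_le hGp (ne_bot_of_le h (show 1 ≤ n - 2 by omega))
    rw [hG] at h1
    have e : p ^ n = p ^ 2 * p ^ (n - 1 - 1) := by rw [← pow_add]; congr 1; omega
    rw [e] at h1
    exact Nat.le_of_mul_le_mul_left h1 (pow_pos hpp.out.pos 2)
  | succ i hi' ih =>
    have h1 := ih (by omega)
    have h2 := card_step hGp (ne_bot_of_le h (show i ≤ n - 2 by omega))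
    have e : p ^ (n - 1 - i) = p * p ^ (n - 1 - (i + 1)) := by
      rw [mul_comm, ← pow_succ]; congr 1; omega
    rw [e] at h1
    exact Nat.le_of_mul_le_mul_left (h2.trans h1) hpp.out.pos

theorem card_eq (hG : Nat.card G = p ^ n) (hn : 3 ≤ n) (h : Lc G (n - 2) ≠ ⊥) (i : ℕ) (hi1 : 1 ≤ i) (hi : i ≤ n - 1) :
    Nat.card (Lc G i) = p ^ (n - 1 - i) := by
  have hGp : IsPGroup p G := IsPGroup.of_card hG
  apply le_antisymm (card_le hG hn h i hi1 hi)
  by_cases h0 : i = n - 1
  · rw [h0, Nat.sub_self, pow_zero]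
    exact Nat.card_pos
  have h1 := card_ge hGp h (n - 2 - i) (by omega)
  have e1 : n - 2 - i + 1 = n - 1 - i := by omega
  have e2 : n - 2 - (n - 2 - i) = i := by omega
  rw [e1, e2] at h1
  exact h1

theorem last_eq_bot (hG : Nat.card G = p ^ n) (hn : 3 ≤ n) (h : Lc G (n - 2) ≠ ⊥) : Lc G (n - 1) = ⊥ := by
  have := card_eq hG hn h (n - 1) (by omega) le_rfl
  rw [Nat.sub_self, pow_zero] at this
  exact Subgroup.eq_bot_of_card_eq _ this

theorem nilpotencyClass_eq (hG : Nat.card G = p ^ n) (hn : 3 ≤ n) (h : Lc G (n - 2) ≠ ⊥) :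
    ∃ _ : Group.IsNilpotent G, Group.nilpotencyClass G = n - 1 := by
  have hGp : IsPGroup p G := IsPGroup.of_card hG
  have hnil : Group.IsNilpotent G := hGp.isNilpotent
  refine ⟨hnil, ?_⟩
  apply le_antisymm
  · exact Subgroup.lowerCentralSeries_eq_bot_iff_nilpotencyClass_le.mp (last_eq_bot hG hn h)
  · by_contra hcon
    push Not at hcon
    apply h
    exact Subgroup.lowerCentralSeries_eq_bot_iff_nilpotencyClass_le.mpr (by omega)

/-- a central element of `L i` not in `L (i+1)` forces `i = n - 2` -/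
theorem central_mem (hG : Nat.card G = p ^ n) (hn : 3 ≤ n) (h : Lc G (n - 2) ≠ ⊥) {ξ : G} (hξ : ξ ∈ center G)
    (hξ1 : ξ ∈ Lc G 1) : ξ ∈ Lc G (n - 2) := by
  have hGp : IsPGroup p G := IsPGroup.of_card hG
  have key : ∀ i, 1 ≤ i → i ≤ n - 2 → ξ ∈ Lc G i := by
    intro i hi1
    induction i, hi1 using Nat.le_induction with
    | base => intro _; exact hξ1
    | succ i hi' ih =>
      intro hi
      by_contra hcon
      have h1 := ih (by omega)
      -- `L i ≤ ⟨ξ⟩ L (i + 1)`
      have h2 : Lc G i ≤ zpowers ξ ⊔ Lc G (i + 1) := by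
        have hlt : Lc G (i + 1) < zpowers ξ ⊔ Lc G (i + 1) := by
          apply lt_of_le_of_ne le_sup_right
          intro he
          apply hcon
          rw [he]
          exact (le_sup_left : zpowers ξ ≤ _) (Subgroup.mem_zpowers ξ)
        have hle : zpowers ξ ⊔ Lc G (i + 1) ≤ Lc G i := by
          apply sup_le
          · rw [Subgroup.zpowers_le]; exact h1
          · exact Subgroup.lowerCentralSeries_antitone _ (Nat.le_succ i)
        obtain ⟨b, hb⟩ := IsPGroup.iff_card.1 (hGp.to_subgroup (zpowers ξ ⊔ Lc G (i + 1) : Subgroup G))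
        have h3 : Nat.card (Lc G (i + 1)) < Nat.card (zpowers ξ ⊔ Lc G (i + 1) : Subgroup G) := by
          apply lt_of_le_of_ne (Subgroup.card_le_of_le hlt.le)
          intro h
          exact hlt.ne (Subgroup.eq_of_le_of_card_ge hlt.le h.ge)
        have h4 := card_eq hG hn h (i + 1) (by omega) (by omega)
        have h5 := card_eq hG hn h i (by omega) (by omega)
        rw [hb, h4] at h3
        have h6 := (Nat.pow_lt_pow_iff_right hpp.out.one_lt).mp h3
        have h7 : Lc G i = zpowers ξ ⊔ Lc G (i + 1) := by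
          symm
          apply Subgroup.eq_of_le_of_card_ge hle
          rw [hb, h5]
          exact Nat.pow_le_pow_right hpp.out.pos (by omega)
        exact h7.le
      have h3 : Lc G (i + 1) ≤ Lc G (i + 1 + 1) := by
        rw [show Lc G (i + 1) = ⁅Lc G i, (⊤ : Subgroup G)⁆ from rfl, Subgroup.commutator_le]
        intro a ha g _
        have ha' := h2 ha
        obtain ⟨_, ⟨j, rfl⟩, b, hb, rfl⟩ := Subgroup.mem_sup_of_normal_right.mp ha'
        have hz : ξ ^ j ∈ center G := Subgroup.zpow_mem _ hξ j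
        have hz' := Subgroup.mem_center_iff.mp hz
        have e : ⁅ξ ^ j * b, g⁆ = ⁅b, g⁆ := by
          have h2 := hz' (b * g * b⁻¹)
          rw [commutatorElement_def, commutatorElement_def, mul_inv_rev]
          calc ξ ^ j * b * g * (b⁻¹ * (ξ ^ j)⁻¹) * g⁻¹ = ξ ^ j * (b * g * b⁻¹) * (ξ ^ j)⁻¹ * g⁻¹ := by group
            _ = (b * g * b⁻¹) * ξ ^ j * (ξ ^ j)⁻¹ * g⁻¹ := by rw [h2]
            _ = b * g * b⁻¹ * g⁻¹ := by group
        show ⁅ξ ^ j * b, g⁆ ∈ _
        rw [e]
        exact Subgroup.commutator_mem_commutator hb (Subgroup.mem_top g)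
      exact (lt_of_ne_bot hGp (ne_bot_of_le h (show i + 1 ≤ n - 2 from hi))).not_ge h3
  exact key (n - 2) (by omega) le_rfl

/-- parity -/
theorem odd_of_inversion (hp2 : p ≠ 2) (hG : Nat.card G = p ^ n) (hn : 3 ≤ n) (h : Lc G (n - 2) ≠ ⊥) {ξ : G} (hξ : ξ ∈ center G)
    (hξ1 : ξ ∈ Lc G 1) (hξ2 : ξ ≠ 1) (φ : G →* G) (hφ : ∀ g, φ g * g ∈ Lc G 1) (hφξ : φ ξ = ξ) : Odd n := by
  have hGp : IsPGroup p G := IsPGroup.of_card hG
  have h1 := central_mem hG hn h hξ hξ1
  have h2 := inversion φ hφ (n - 2) ξ h1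
  have e : n - 2 + 1 = n - 1 := by omega
  rw [e, last_eq_bot hG hn h, Subgroup.mem_bot, hφξ] at h2
  rcases Nat.even_or_odd (n - 2) with h3 | h3
  · exfalso
    rw [h3.neg_one_pow, zpow_one] at h2
    obtain ⟨k, hk⟩ := hGp ξ
    apply hξ2
    have h4 : orderOf ξ ∣ 2 := orderOf_dvd_of_pow_eq_one (by rw [pow_two]; exact h2)
    have h5 : orderOf ξ ∣ p ^ k := orderOf_dvd_of_pow_eq_one hk
    have h6 : Nat.Coprime 2 (p ^ k) := Nat.Coprime.pow_right k (by
      rw [Nat.coprime_primes Nat.prime_two hpp.out]; exact fun h => hp2 h.symm)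
    have h7 := Nat.dvd_gcd h4 h5
    rw [h6.gcd_eq_one] at h7
    exact orderOf_eq_one_iff.mp (Nat.dvd_one.mp h7)
  · obtain ⟨k, hk⟩ := h3
    exact ⟨k + 1, by omega⟩

end maximal

end Cfsg.Agent.H271.RankTwoMax
end

-- part: H271/RankTwoInv
section
/-!
# The case of maximal class
-/

set_option autoImplicit false

open scoped commutatorElement

namespace Cfsg.Agent.H271.RankTwoInv

open Cfsg Subgroup
open Cfsg.Agent.H271.RankTwoTr Cfsg.Agent.H271.RankTwoMax Cfsg.Agent.H271.RankTwoSit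

section dich

variable {N : Type*} [Group N]

/-- `k` acts trivially on `A / B` -/
def Fx (A B : Subgroup N) (k : N) : Prop := ∀ u ∈ A, k * u * k⁻¹ * u⁻¹ ∈ B

/-- `k` inverts `A / B` -/
def Iv (A B : Subgroup N) (k : N) : Prop := ∀ u ∈ A, k * u * k⁻¹ * u ∈ B

theorem Iv.mul_fx {A B : Subgroup N} [B.Normal] {k₁ k₂ : N} (h1 : Iv A B k₁) (h2 : Fx A B k₂) : Iv A B (k₁ * k₂) := by
  intro u hu
  have e : k₁ * k₂ * u * (k₁ * k₂)⁻¹ * u = (k₁ * (k₂ * u * k₂⁻¹ * u⁻¹) * k₁⁻¹) * (k₁ * u * k₁⁻¹ * u) := by group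
  rw [e]
  exact Subgroup.mul_mem _ ((inferInstance : B.Normal).conj_mem _ (h2 u hu) k₁) (h1 u hu)

theorem Fx.mul_iv {A B : Subgroup N} [A.Normal] {k₁ k₂ : N} (h1 : Fx A B k₁) (h2 : Iv A B k₂) : Iv A B (k₁ * k₂) := by
  intro u hu
  have hv : k₂ * u * k₂⁻¹ ∈ A := (inferInstance : A.Normal).conj_mem _ hu k₂
  have e : k₁ * k₂ * u * (k₁ * k₂)⁻¹ * u = (k₁ * (k₂ * u * k₂⁻¹) * k₁⁻¹ * (k₂ * u * k₂⁻¹)⁻¹) * (k₂ * u * k₂⁻¹ * u) := by group
  rw [e]
  exact Subgroup.mul_mem _ (h1 _ hv) (h2 u hu)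

theorem three_cases {H : Type*} [Group H] (hH : Nat.card H = 3) (a : H) (ha : a ≠ 1) (q : H) : q = 1 ∨ q = a ∨ q = a⁻¹ := by
  have : Fact (Nat.Prime 3) := ⟨Nat.prime_three⟩
  have hfin : Finite H := Nat.finite_of_card_ne_zero (by rw [hH]; norm_num)
  have ho : orderOf a = 3 := by
    have h1 : orderOf a ∣ 3 := by rw [← hH]; exact orderOf_dvd_natCard a
    rcases (Nat.dvd_prime Nat.prime_three).mp h1 with h2 | h2
    · exact absurd (orderOf_eq_one_iff.mp h2) ha
    · exact h2
  have hz : zpowers a = ⊤ := by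
    apply Subgroup.eq_top_of_card_eq
    rw [Nat.card_zpowers, ho, hH]
  have hq : q ∈ zpowers a := by rw [hz]; trivial
  obtain ⟨i, rfl⟩ := hq
  have h3 : a ^ (3 : ℤ) = 1 := by
    have := pow_orderOf_eq_one a
    rw [ho] at this
    exact_mod_cast this
  have h4 : a ^ i = a ^ (i % 3) := by
    conv_lhs => rw [← Int.emod_add_mul_ediv i 3]
    rw [zpow_add, zpow_mul, h3, one_zpow, mul_one]
  show a ^ i = 1 ∨ a ^ i = a ∨ a ^ i = a⁻¹
  rw [h4]
  have h5 := Int.emod_nonneg i (by norm_num : (3 : ℤ) ≠ 0)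
  have h6 := Int.emod_lt_of_pos i (by norm_num : (0 : ℤ) < 3)
  have h7 : i % 3 = 0 ∨ i % 3 = 1 ∨ i % 3 = 2 := by omega
  rcases h7 with h7 | h7 | h7
  · left; rw [h7, zpow_zero]
  · right; left; rw [h7, zpow_one]
  · right; right; rw [h7, eq_inv_iff_mul_eq_one]
    calc a ^ (2 : ℤ) * a = a ^ (3 : ℤ) := by group
      _ = 1 := h3

theorem dich [Finite N] (A B : Subgroup N) [hA : A.Normal] [hB : B.Normal] (hBA : B ≤ A) (hc : Nat.card A = 3 * Nat.card B) (k : N) :
    Fx A B k ∨ Iv A B k := by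
  let π := QuotientGroup.mk' B
  have hker : ∀ g, π g = 1 ↔ g ∈ B := fun g => QuotientGroup.eq_one_iff g
  have hcard : Nat.card (A.map π) = 3 := by
    have h1 : (π.ker).relIndex A = Nat.card (A.map π) := Subgroup.relIndex_ker A π
    rw [← h1, QuotientGroup.ker_mk']
    have h2 := (B.subgroupOf A).card_mul_index
    rw [Nat.card_congr (Subgroup.subgroupOfEquivOfLe hBA).toEquiv, hc, mul_comm] at h2
    exact Nat.eq_of_mul_eq_mul_right Nat.card_pos h2
  -- a generator
  obtain ⟨a, ha⟩ : ∃ a : A.map π, a ≠ 1 := by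
    have : Nontrivial (A.map π) := by
      rw [← Finite.one_lt_card_iff_nontrivial, hcard]; norm_num
    exact exists_ne 1
  have hAn : (A.map π).Normal := Subgroup.Normal.map hA _ (QuotientGroup.mk'_surjective _)
  have hcases := three_cases hcard a ha
  have hconj : π k * (a : N ⧸ B) * (π k)⁻¹ ∈ A.map π := hAn.conj_mem _ a.2 _
  have hk := hcases ⟨_, hconj⟩
  have hall : ∀ u ∈ A, π u = 1 ∨ π u = a ∨ π u = (a : N ⧸ B)⁻¹ := by
    intro u hu
    have hu' : π u ∈ A.map π := ⟨u, hu, rfl⟩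
    rcases hcases ⟨π u, hu'⟩ with h | h | h
    · left; exact congrArg Subtype.val h
    · right; left; exact congrArg Subtype.val h
    · right; right; exact congrArg Subtype.val h
  rcases hk with h | h | h
  · exfalso
    apply ha
    have h1 : π k * (a : N ⧸ B) * (π k)⁻¹ = 1 := congrArg Subtype.val h
    have h2 : (a : N ⧸ B) = 1 := by
      calc (a : N ⧸ B) = (π k)⁻¹ * (π k * (a : N ⧸ B) * (π k)⁻¹) * π k := by group
        _ = 1 := by rw [h1]; group
    exact Subtype.ext h2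
  · left
    intro u hu
    have h1 : π k * (a : N ⧸ B) * (π k)⁻¹ = a := congrArg Subtype.val h
    rw [← hker, map_mul, map_mul, map_mul, map_inv, map_inv]
    rcases hall u hu with h2 | h2 | h2
    · rw [h2]; group
    · rw [h2, h1]; group
    · rw [h2]
      have h3 : π k * (a : N ⧸ B)⁻¹ * (π k)⁻¹ = (a : N ⧸ B)⁻¹ := by
        rw [← conj_inv, h1]
      rw [h3]; group
  · right
    intro u hu
    have h1 : π k * (a : N ⧸ B) * (π k)⁻¹ = (a : N ⧸ B)⁻¹ := congrArg Subtype.val h
    rw [← hker, map_mul, map_mul, map_mul, map_inv]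
    rcases hall u hu with h2 | h2 | h2
    · rw [h2]; group
    · rw [h2, h1]; group
    · rw [h2]
      have h3 : π k * (a : N ⧸ B)⁻¹ * (π k)⁻¹ = (a : N ⧸ B) := by
        rw [← conj_inv, h1, inv_inv]
      rw [h3]; group

/-- inverting both factors of a series -/
theorem Iv.trans [Finite N] {K P M D : Subgroup N} [hPn : P.Normal] [D.Normal] {p : ℕ} [hpp : Fact p.Prime]
    (hp2 : p ≠ 2) (hPp : IsPGroup p P) (hMP : M ≤ P) (hD : ⁅P, P⁆ ≤ D)
    (hcop : (Nat.card K).Coprime p) {k : N} (hk : k ∈ K) (h1 : Iv P M k) (h2 : Iv M D k) : Iv P D k := by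
  intro u hu
  let π := QuotientGroup.mk' D
  have hker : ∀ g, π g = 1 ↔ g ∈ D := fun g => QuotientGroup.eq_one_iff g
  set m := k * u * k⁻¹ * u with hm
  have hmM : m ∈ M := h1 u hu
  have hmP : m ∈ P := hMP hmM
  have hcomm : Commute (π u) (π m) := by
    have h3 : ⁅u, m⁆ ∈ D := hD (Subgroup.commutator_mem_commutator hu hmP)
    rw [← hker, map_commutatorElement, commutatorElement_eq_one_iff_mul_comm] at h3
    exact h3
  have hku : π k * π u * (π k)⁻¹ = π m * (π u)⁻¹ := by
    rw [hm, map_mul, map_mul, map_mul, map_inv]; group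
  have hkm : π k * π m * (π k)⁻¹ = (π m)⁻¹ := by
    have h3 := (hker _).mpr (h2 m hmM)
    rw [map_mul, map_mul, map_mul, map_inv] at h3
    exact eq_inv_of_mul_eq_one_left h3
  have h3 : (π k) ^ 2 * π m * ((π k) ^ 2)⁻¹ = π m := by
    calc (π k) ^ 2 * π m * ((π k) ^ 2)⁻¹ = π k * (π k * π m * (π k)⁻¹) * (π k)⁻¹ := by rw [pow_two]; group
      _ = π k * (π m)⁻¹ * (π k)⁻¹ := by rw [hkm]
      _ = (π k * π m * (π k)⁻¹)⁻¹ := by group
      _ = π m := by rw [hkm, inv_inv]
  have h4 : (π k) ^ 2 * π u * ((π k) ^ 2)⁻¹ = π u * ((π m)⁻¹) ^ 2 := by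
    calc (π k) ^ 2 * π u * ((π k) ^ 2)⁻¹ = π k * (π k * π u * (π k)⁻¹) * (π k)⁻¹ := by rw [pow_two]; group
      _ = π k * (π m * (π u)⁻¹) * (π k)⁻¹ := by rw [hku]
      _ = (π k * π m * (π k)⁻¹) * (π k * π u * (π k)⁻¹)⁻¹ := by group
      _ = (π m)⁻¹ * (π u * (π m)⁻¹) := by rw [hkm, hku]; group
      _ = π u * (π m)⁻¹ * (π m)⁻¹ := by rw [← mul_assoc, ← hcomm.inv_right.eq]
      _ = π u * ((π m)⁻¹) ^ 2 := by rw [pow_two, mul_assoc]
  have h5 : ∀ j : ℕ, ((π k) ^ 2) ^ j * π u * (((π k) ^ 2) ^ j)⁻¹ = π u * (((π m)⁻¹) ^ 2) ^ j := by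
    intro j
    induction j with
    | zero => simp
    | succ j ih =>
      have hc : Commute ((π k) ^ 2) (((π m)⁻¹) ^ 2) := by
        have : Commute ((π k) ^ 2) (π m) := by
          show (π k) ^ 2 * π m = π m * (π k) ^ 2
          rw [← mul_inv_eq_iff_eq_mul]; exact h3
        exact this.inv_right.pow_right 2
      have hc2 := (hc.pow_right j)
      calc ((π k) ^ 2) ^ (j + 1) * π u * (((π k) ^ 2) ^ (j + 1))⁻¹
          = (π k) ^ 2 * (((π k) ^ 2) ^ j * π u * (((π k) ^ 2) ^ j)⁻¹) * ((π k) ^ 2)⁻¹ := by rw [pow_succ']; group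
        _ = (π k) ^ 2 * (π u * (((π m)⁻¹) ^ 2) ^ j) * ((π k) ^ 2)⁻¹ := by rw [ih]
        _ = ((π k) ^ 2 * π u * ((π k) ^ 2)⁻¹) * ((π k) ^ 2 * (((π m)⁻¹) ^ 2) ^ j * ((π k) ^ 2)⁻¹) := by group
        _ = π u * ((π m)⁻¹) ^ 2 * (((π m)⁻¹) ^ 2) ^ j := by rw [h4, hc2.eq, mul_inv_cancel_right]
        _ = π u * (((π m)⁻¹) ^ 2) ^ (j + 1) := by rw [mul_assoc, ← pow_succ']
  have h6 := h5 (Nat.card K)
  have hk1 : (π k) ^ Nat.card K = 1 := by
    rw [← map_pow]
    have : k ^ Nat.card K = 1 := by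
      have := pow_card_eq_one' (x := (⟨k, hk⟩ : K))
      exact congrArg Subtype.val this
    rw [this, map_one]
  rw [← pow_mul, mul_comm 2, pow_mul, hk1, one_pow, one_mul, inv_one, mul_one, left_eq_mul] at h6
  -- `m` has order prime to itself
  rw [← hker]
  have h7 : (π m) ^ (2 * Nat.card K) = 1 := by
    rw [← pow_mul, inv_pow, inv_eq_one] at h6
    exact h6
  obtain ⟨j, hj⟩ := hPp ⟨m, hmP⟩
  have h8 : (π m) ^ (p ^ j) = 1 := by
    have : m ^ (p ^ j) = 1 := congrArg Subtype.val hj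
    rw [← map_pow, this, map_one]
  have h9 : Nat.Coprime (2 * Nat.card K) (p ^ j) := by
    apply Nat.Coprime.pow_right
    apply Nat.Coprime.mul_left
    · rw [Nat.coprime_primes Nat.prime_two hpp.out]; exact fun h => hp2 h.symm
    · exact hcop
  have h10 := Nat.dvd_gcd (orderOf_dvd_of_pow_eq_one h7) (orderOf_dvd_of_pow_eq_one h8)
  rw [h9.gcd_eq_one] at h10
  exact orderOf_eq_one_iff.mp (Nat.dvd_one.mp h10)

end dich

section twostep

variable {G : Type*} [Group G]

/-- the centraliser of `L 1 / L 3` -/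
def tsc (G : Type*) [Group G] : Subgroup G where
  carrier := {g | ∀ c ∈ Lc G 1, ⁅c, g⁆ ∈ Lc G 3}
  one_mem' := by
    intro c _
    rw [commutatorElement_one_right]; exact Subgroup.one_mem _
  mul_mem' := by
    intro a b ha hb c hc
    have e : ⁅c, a * b⁆ = ⁅c, a⁆ * (a * ⁅c, b⁆ * a⁻¹) := by
      simp only [commutatorElement_def]; group
    rw [e]
    exact Subgroup.mul_mem _ (ha c hc) ((inferInstance : (Lc G 3).Normal).conj_mem _ (hb c hc) a)
  inv_mem' := by
    intro a ha c hc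
    have e : ⁅c, a⁻¹⁆ = a⁻¹ * ⁅c, a⁆⁻¹ * (a⁻¹)⁻¹ := by
      simp only [commutatorElement_def]; group
    rw [e]
    exact (inferInstance : (Lc G 3).Normal).conj_mem _ (Subgroup.inv_mem _ (ha c hc)) a⁻¹

theorem mem_tsc (g : G) : g ∈ tsc G ↔ ∀ c ∈ Lc G 1, ⁅c, g⁆ ∈ Lc G 3 := Iff.rfl

instance tsc_char : (tsc G).Characteristic := by
  rw [Subgroup.characteristic_iff_le_comap]
  intro φ g hg
  rw [Subgroup.mem_comap, mem_tsc]
  intro c hc
  have h1 : ∀ i, ∀ x, φ.toMonoidHom x ∈ Lc G i ↔ x ∈ Lc G i := by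
    intro i x
    have h2 : (Lc G i).comap φ.toMonoidHom = Lc G i := (inferInstance : (Lc G i).Characteristic).fixed φ
    have h3 : x ∈ (Lc G i).comap φ.toMonoidHom ↔ x ∈ Lc G i := by rw [h2]
    exact h3
  obtain ⟨d, rfl⟩ := φ.surjective c
  have hd : d ∈ Lc G 1 := (h1 1 d).mp hc
  have h4 := hg d hd
  have h5 := (h1 3 ⁅d, g⁆).mpr h4
  rw [map_commutatorElement] at h5
  exact h5

theorem brac (c : G) (hc : c ∈ Lc G 1) (v : G ⧸ Lc G 3) :
    ⁅(QuotientGroup.mk' (Lc G 3)) c, v⁆ ∈ center (G ⧸ Lc G 3) := by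
  obtain ⟨g, rfl⟩ := QuotientGroup.mk'_surjective (Lc G 3) v
  rw [← map_commutatorElement]
  exact center_mod 2 _ (Subgroup.commutator_mem_commutator hc (Subgroup.mem_top g))

theorem lc_one_le_tsc : Lc G 1 ≤ tsc G := by
  intro d hd c hc
  rw [← QuotientGroup.eq_one_iff]
  show (QuotientGroup.mk' (Lc G 3)) ⁅c, d⁆ = 1
  rw [map_commutatorElement]
  apply comm_derived (brac c hc)
  have h1 : (QuotientGroup.mk' (Lc G 3)) d ∈ (Lc G 1).map (QuotientGroup.mk' (Lc G 3)) := ⟨d, hd, rfl⟩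
  rw [Subgroup.map_lowerCentralSeries] at h1
  rw [← Subgroup.top_lowerCentralSeries_one]
  exact Subgroup.lowerCentralSeries_mono 1 le_top h1

variable [Finite G] {p : ℕ} [hpp : Fact p.Prime] {n : ℕ}

theorem tsc_ne_top (hG : Nat.card G = p ^ n) (hn : 4 ≤ n) (h : Lc G (n - 2) ≠ ⊥) : tsc G ≠ ⊤ := by
  intro ht
  have hGp : IsPGroup p G := IsPGroup.of_card hG
  have h1 : Lc G 2 ≤ Lc G 3 := by
    rw [show Lc G 2 = ⁅Lc G 1, (⊤ : Subgroup G)⁆ from rfl, Subgroup.commutator_le]
    intro c hc g _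
    have : g ∈ tsc G := by rw [ht]; trivial
    exact this c hc
  exact (lt_of_ne_bot hGp (ne_bot_of_le h (show 2 ≤ n - 2 by omega))).not_ge h1

theorem tsc_index_le (hG : Nat.card G = p ^ n) (hn : 4 ≤ n) (h : Lc G (n - 2) ≠ ⊥) : (tsc G).index ≤ p := by
  have hGp : IsPGroup p G := IsPGroup.of_card hG
  have hlt : Lc G 2 < Lc G 1 := lt_of_ne_bot hGp (ne_bot_of_le h (show 1 ≤ n - 2 by omega))
  obtain ⟨c₀, hc₀, hc₀'⟩ := SetLike.exists_of_lt hlt
  -- `L 1 ≤ ⟨c₀⟩ L 2`
  have h2 : Lc G 1 ≤ zpowers c₀ ⊔ Lc G 2 := by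
    have hlt' : Lc G 2 < zpowers c₀ ⊔ Lc G 2 := by
      apply lt_of_le_of_ne le_sup_right
      intro he
      apply hc₀'
      rw [he]
      exact (le_sup_left : zpowers c₀ ≤ _) (Subgroup.mem_zpowers c₀)
    have hle : zpowers c₀ ⊔ Lc G 2 ≤ Lc G 1 := by
      apply sup_le
      · rw [Subgroup.zpowers_le]; exact hc₀
      · exact Subgroup.lowerCentralSeries_antitone _ (by norm_num)
    obtain ⟨b, hb⟩ := IsPGroup.iff_card.1 (hGp.to_subgroup (zpowers c₀ ⊔ Lc G 2 : Subgroup G))
    have h3 : Nat.card (Lc G 2) < Nat.card (zpowers c₀ ⊔ Lc G 2 : Subgroup G) := by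
      apply lt_of_le_of_ne (Subgroup.card_le_of_le hlt'.le)
      intro h
      exact hlt'.ne (Subgroup.eq_of_le_of_card_ge hlt'.le h.ge)
    have h4 := card_eq hG (by omega) h 2 (by omega) (by omega)
    have h5 := card_eq hG (by omega) h 1 (by omega) (by omega)
    rw [hb, h4] at h3
    have h6 := (Nat.pow_lt_pow_iff_right hpp.out.one_lt).mp h3
    have h7 : zpowers c₀ ⊔ Lc G 2 = Lc G 1 := by
      apply Subgroup.eq_of_le_of_card_ge hle
      rw [hb, h5]
      exact Nat.pow_le_pow_right hpp.out.pos (by omega)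
    exact h7.ge
  set π := QuotientGroup.mk' (Lc G 3) with hπ
  have hker : ∀ g, π g = 1 ↔ g ∈ Lc G 3 := fun g => QuotientGroup.eq_one_iff g
  let f : G →* G ⧸ Lc G 3 :=
    { toFun := fun v => ⁅π c₀, π v⁆
      map_one' := by rw [map_one]; exact commutatorElement_one_right _
      map_mul' := fun u v => by
        show ⁅π c₀, π (u * v)⁆ = ⁅π c₀, π u⁆ * ⁅π c₀, π v⁆
        rw [map_mul, comm_mul_right (brac c₀ hc₀)] }
  have hf : ∀ g, f g = π ⁅c₀, g⁆ := fun g => (map_commutatorElement π c₀ g).symm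
  have h3 : f.ker ≤ tsc G := by
    intro g hg c hc
    rw [MonoidHom.mem_ker, hf] at hg
    obtain ⟨_, ⟨j, rfl⟩, b, hb, rfl⟩ := Subgroup.mem_sup_of_normal_right.mp (h2 hc)
    rw [← hker, map_commutatorElement, map_mul]
    rw [map_commutatorElement, commutatorElement_eq_one_iff_mul_comm] at hg
    rw [commutatorElement_eq_one_iff_mul_comm]
    have h4 : Commute (π b) (π g) := (Subgroup.mem_center_iff.mp (center_mod 2 b hb) (π g)).symm
    have h5 : Commute (π (c₀ ^ j)) (π g) := by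
      rw [map_zpow]
      exact (show Commute (π c₀) (π g) from hg).zpow_left j
    exact h5.mul_left h4
  have h4 : f.ker.index ≤ p := by
    rw [Subgroup.index_ker]
    have h5 : f.range ≤ (Lc G 2).map π := by
      rintro _ ⟨g, rfl⟩
      rw [hf]
      exact ⟨_, Subgroup.commutator_mem_commutator hc₀ (Subgroup.mem_top g), rfl⟩
    have h6 : Nat.card ((Lc G 2).map π) = p := by
      have h7 : (π.ker).relIndex (Lc G 2) = Nat.card ((Lc G 2).map π) := Subgroup.relIndex_ker _ π
      rw [← h7, QuotientGroup.ker_mk']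
      have h32 : Lc G 3 ≤ Lc G 2 := Subgroup.lowerCentralSeries_antitone _ (by norm_num)
      have h8 := ((Lc G 3).subgroupOf (Lc G 2)).card_mul_index
      rw [Nat.card_congr (Subgroup.subgroupOfEquivOfLe h32).toEquiv,
        card_eq hG (by omega) h 2 (by omega) (by omega), card_eq hG (by omega) h 3 (by omega) (by omega)] at h8
      have e : n - 1 - 2 = (n - 1 - 3) + 1 := by omega
      rw [e, pow_succ] at h8
      exact Nat.eq_of_mul_eq_mul_left (pow_pos hpp.out.pos _) h8
    rw [← h6]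
    exact Subgroup.card_le_of_le h5
  exact (Nat.le_of_dvd (Nat.pos_of_ne_zero Subgroup.index_ne_zero_of_finite) (Subgroup.index_dvd_of_le h3)).trans h4

theorem tsc_index (hG : Nat.card G = p ^ n) (hn : 4 ≤ n) (h : Lc G (n - 2) ≠ ⊥) : (tsc G).index = p := by
  have hGp : IsPGroup p G := IsPGroup.of_card hG
  obtain ⟨a, ha⟩ := hGp.index (tsc G)
  have h1 := tsc_index_le hG hn h
  have h2 : (tsc G).index ≠ 1 := fun h' => tsc_ne_top hG hn h (Subgroup.index_eq_one.mp h')
  rw [ha] at h1 h2 ⊢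
  have h3 : a ≤ 1 := by
    rw [← Nat.pow_le_pow_iff_right hpp.out.one_lt, pow_one]; exact h1
  have h4 : a ≠ 0 := by rintro rfl; exact h2 (pow_zero p)
  have : a = 1 := by omega
  rw [this, pow_one]

end twostep

end Cfsg.Agent.H271.RankTwoInv

namespace Cfsg.Agent.H271.RankTwoSit

open Cfsg Subgroup
open Cfsg.Agent.H271.RankTwoTr Cfsg.Agent.H271.RankTwoMax Cfsg.Agent.H271.RankTwoInv

variable {N : Type*} [Group N] [Finite N] {p : ℕ} [hpp : Fact p.Prime] {P K : Subgroup N} {ξ : N}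

theorem lc_one_map (P : Subgroup N) : (Lc P 1).map P.subtype = ⁅P, P⁆ := by
  rw [Subgroup.top_subtype_lowerCentralSeries]
  rfl

/-- groups of order `p³` -/
theorem Sit.cube (h : Sit p P K ξ) (hp2 : p ≠ 2) (hc : Nat.card P = p ^ 3) :
    IsExtraspecial p P ∧ Nat.card P = p ^ 3 ∧ ∀ y ∈ P, y ^ p = 1 := by
  have hne : ∃ x y : P, x * y ≠ y * x := by
    by_contra hcon
    push Not at hcon
    apply h.not_comm
    rw [Subgroup.commutator_eq_bot_iff_le_centralizer]
    intro a ha
    rw [Subgroup.mem_centralizer_iff]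
    intro b hb
    exact congrArg Subtype.val (hcon ⟨b, hb⟩ ⟨a, ha⟩)
  refine ⟨Cfsg.Agent.J2Type.ExtCube.isExtraspecial_of_card_cube hc hne, hc, ?_⟩
  intro y hy
  by_contra hyp
  apply h.not_metacyclic hp2
  set y' : P := ⟨y, hy⟩ with hy'
  have hyp' : y' ^ p ≠ 1 := fun h => hyp (congrArg Subtype.val h)
  have hPp : IsPGroup p P := h.hPp
  obtain ⟨a, ha⟩ := IsPGroup.iff_card.1 (hPp.to_subgroup (zpowers y'))
  have ha2 : 2 ≤ a := by
    by_contra hcon
    push Not at hcon
    apply hyp'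
    rw [← orderOf_dvd_iff_pow_eq_one, ← Nat.card_zpowers, ha]
    exact (pow_dvd_pow p (show a ≤ 1 by omega)).trans (by rw [pow_one])
  have hidx := (zpowers y').card_mul_index
  obtain ⟨b, hb⟩ := hPp.index (zpowers y')
  rw [ha, hb, hc, ← pow_add] at hidx
  have hab := Nat.pow_right_injective hpp.out.two_le hidx
  have hb1 : (zpowers y').index = 1 ∨ (zpowers y').index = p := by
    rw [hb]
    have : b = 0 ∨ b = 1 := by omega
    rcases this with h0 | h0
    · left; rw [h0, pow_zero]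
    · right; rw [h0, pow_one]
  rcases hb1 with h0 | h0
  · have ht := Subgroup.index_eq_one.mp h0
    refine ⟨⊤, inferInstance, ?_, ?_⟩
    · rw [← ht]; infer_instance
    · have : Subsingleton (P ⧸ (⊤ : Subgroup P)) := QuotientGroup.subsingleton_quotient_top
      exact isCyclic_of_subsingleton
  · have hn : (zpowers y').Normal := by
      apply Subgroup.normal_of_index_eq_minFac_card
      rw [h0, hc, Nat.Prime.pow_minFac hpp.out (by norm_num)]
    exact ⟨zpowers y', hn, inferInstance, isCyclic_of_prime_card (p := p) h0⟩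

/-- groups of maximal class, `p = 3` -/
theorem Sit.maximal [Fact (Nat.Prime 3)] (h : Sit 3 P K ξ) (n : ℕ) (hn2 : 2 ≤ n) (hc : Nat.card P = 3 ^ n) (hL : Lc P (n - 2) ≠ ⊥) :
    n = 3 ∨ ∃ k : ℕ, 2 ≤ k ∧ Nat.card P = 3 ^ (2 * k + 1) ∧
      ∃ _ : Group.IsNilpotent P, Group.nilpotencyClass P = 2 * k := by
  have hPn := h.hPn
  by_cases hn : n ≤ 3
  · left
    by_contra h3
    have hn' : n = 2 := by omega
    rw [hn'] at hc
    have := IsPGroup.isMulCommutative_of_card_eq_prime_sq hc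
    apply h.not_comm
    rw [Subgroup.commutator_eq_bot_iff_le_centralizer]
    intro a ha
    rw [Subgroup.mem_centralizer_iff]
    intro b hb
    exact congrArg Subtype.val (this.is_comm.comm ⟨b, hb⟩ ⟨a, ha⟩)
  push Not at hn
  right
  -- the two-step centraliser
  set M : Subgroup N := (tsc P).map P.subtype with hM
  have hMn : M.Normal := inferInstance
  have hDn : (⁅P, P⁆ : Subgroup N).Normal := inferInstance
  have hMP : M ≤ P := Subgroup.map_subtype_le _
  have hDM : ⁅P, P⁆ ≤ M := by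
    rw [← lc_one_map]
    exact Subgroup.map_mono lc_one_le_tsc
  have hcM : Nat.card M = Nat.card (tsc P) := Subgroup.card_map_of_injective P.subtype_injective
  have hcD : Nat.card (⁅P, P⁆ : Subgroup N) = Nat.card (Lc P 1) := by
    rw [← lc_one_map]
    exact Subgroup.card_map_of_injective P.subtype_injective
  have hPM : Nat.card P = 3 * Nat.card M := by
    have h1 := (tsc P).card_mul_index
    rw [tsc_index hc (by omega) hL] at h1
    rw [hcM, ← h1, mul_comm]
  have hMD : Nat.card M = 3 * Nat.card (⁅P, P⁆ : Subgroup N) := by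
    have h1 := card_eq hc (by omega) hL 1 (by omega) (by omega)
    rw [hcD, h1]
    have h2 : 3 * Nat.card M = 3 * (3 * 3 ^ (n - 1 - 1)) := by
      rw [← hPM, hc, ← mul_assoc]
      have : n = (n - 1 - 1) + 2 := by omega
      conv_lhs => rw [this, pow_add]
      ring
    exact Nat.eq_of_mul_eq_mul_left (by norm_num) h2
  -- `k₁`
  obtain ⟨k₁, hk₁, hk₁'⟩ : ∃ k ∈ K, ¬ Fx P M k := by
    by_contra hcon
    push Not at hcon
    have h1 : ⁅P, K⁆ ≤ M := by
      rw [Subgroup.commutator_comm, Subgroup.commutator_le]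
      intro k hk u hu
      rw [commutatorElement_def]
      exact hcon k hk u hu
    rw [h.hPK] at h1
    have h2 := Subgroup.card_le_of_le h1
    have h3 : 0 < Nat.card M := Nat.card_pos
    omega
  obtain ⟨k₂, hk₂, hk₂'⟩ : ∃ k ∈ K, ¬ Fx M ⁅P, P⁆ k := by
    by_contra hcon
    push Not at hcon
    have h1 : M ≤ ⁅P, P⁆ := by
      intro m hm
      apply h.mem_of_fixed (hMP hm)
      intro k hk
      exact hcon k hk m hm
    have h2 := Subgroup.card_le_of_le h1
    have h3 : 0 < Nat.card (⁅P, P⁆ : Subgroup N) := Nat.card_pos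
    omega
  have h1 := (dich P M hMP hPM k₁).resolve_left hk₁'
  have h2 := (dich M ⁅P, P⁆ hDM hMD k₂).resolve_left hk₂'
  obtain ⟨k, hk, hk1, hk2⟩ : ∃ k ∈ K, Iv P M k ∧ Iv M ⁅P, P⁆ k := by
    rcases dich M ⁅P, P⁆ hDM hMD k₁ with h3 | h3
    · rcases dich P M hMP hPM k₂ with h4 | h4
      · exact ⟨k₁ * k₂, K.mul_mem hk₁ hk₂, h1.mul_fx h4, h3.mul_iv h2⟩
      · exact ⟨k₂, hk₂, h4, h2⟩
    · exact ⟨k₁, hk₁, h1, h3⟩
  have hinv : Iv P ⁅P, P⁆ k := Iv.trans (p := 3) (by norm_num) h.hPp hMP le_rfl h.hcop hk hk1 hk2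
  have hodd : Odd n := by
    have hξ' : (⟨ξ, h.hξP⟩ : P) ∈ center P := by
      rw [Subgroup.mem_center_iff]
      intro g
      exact Subtype.ext (h.hξc g)
    have hmem : ∀ u : P, u ∈ Lc P 1 ↔ (u : N) ∈ (⁅P, P⁆ : Subgroup N) := by
      intro u
      rw [← lc_one_map]
      constructor
      · intro hu; exact ⟨u, hu, rfl⟩
      · rintro ⟨v, hv, e⟩
        have : v = u := Subtype.ext e
        rwa [this] at hv
    apply odd_of_inversion (p := 3) (by norm_num) hc (by omega) hL hξ' ((hmem _).mpr h.mem_commutator)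
      (fun e => h.ne_one (congrArg Subtype.val e)) (MulAut.conjNormal (H := P) k).toMonoidHom
    · intro g
      rw [hmem]
      exact hinv g g.2
    · apply Subtype.ext
      show k * ξ * k⁻¹ = ξ
      rw [h.hξc k, mul_inv_cancel_right]
  obtain ⟨k', hk'⟩ := hodd
  refine ⟨k', by omega, by rw [hc, hk'], ?_⟩
  obtain ⟨hnil, he⟩ := nilpotencyClass_eq hc (by omega) hL
  exact ⟨hnil, by omega⟩

end Cfsg.Agent.H271.RankTwoSit
end

-- part: H271/RankTwoFin
section
/-!
# The Sylow `p`-subgroups of rank two of a perfect group, normalizer centralising an element of order `p`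
-/

set_option autoImplicit false

open scoped commutatorElement Pointwise

namespace Cfsg.Agent.H271.RankTwoFin

open Cfsg Subgroup
open Cfsg.Agent.H271.RankTwoTr Cfsg.Agent.H271.RankTwoMax Cfsg.Agent.H271.RankTwoSit Cfsg.Agent.H271.RankTwoC Cfsg.Agent.H271.RankTwoG

/-- the two possibilities -/
theorem concl {N : Type*} [Group N] [Finite N] {p : ℕ} [hpp : Fact p.Prime] {P K : Subgroup N} {ξ : N} (h : Sit p P K ξ) (hp2 : p ≠ 2) :
    (Nat.card P = p ^ 3) ∨
    (p = 3 ∧ ∃ k : ℕ, 2 ≤ k ∧ Nat.card P = 3 ^ (2 * k + 1) ∧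
      Lc P (2 * k - 1) ≠ ⊥) := by
  obtain ⟨n, hn⟩ := IsPGroup.iff_card.1 h.hPp
  rcases Cfsg.Agent.S3888.result hp2 n hn h.hrk with hc | ⟨hm, x, y, z, h1, h2, h3, h4, h5, h6, h7⟩ |
      ⟨hm, s, x, y, z, hs, h1, h2, h3, h4, h5, h6, h7⟩ | ⟨h1, h2, h3⟩
  · exact absurd hc (fun hc => h.not_metacyclic hp2 hc)
  · left
    have hD : DataC p n P x y z := ⟨hm, hn, h1, h2, h3, h4, h5, h6, h7⟩
    rw [hn, h.caseC hp2 n x y z hD]
  · exfalso
    have hD : DataG p n s P x y z := ⟨hm, hn, hs, h1, h2, h3, h4, h5, h6, h7⟩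
    exact h.caseG hp2 n s x y z hD
  · subst h1
    have : Fact (Nat.Prime 3) := ⟨Nat.prime_three⟩
    rcases h.maximal n h2 hn h3 with h4 | ⟨k, hk, hk2, _, hk4⟩
    · left; rw [hn, h4]
    · right
      refine ⟨rfl, k, hk, hk2, ?_⟩
      intro hb
      have := Subgroup.lowerCentralSeries_eq_bot_iff_nilpotencyClass_le.mp hb
      omega

theorem eq_commutator' {G : Type*} [Group G] [Finite G] (H K : Subgroup G) (hHs : Group.IsSolvable H)
    (hH : H.Normal) (hc : Subgroup.IsComplement' H K) (hle : H ≤ commutator G) :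
    H = ⁅H, K⁆ := by
  have hM : (⁅H, K⁆ ⊔ K).Normal := Cfsg.Agent.S1459.commutator_sup_normal H K hc.sup_eq_top
  have htop : ⁅H, K⁆ ⊔ K = ⊤ := by
    by_contra hne
    have hQn : Nontrivial (G ⧸ (⁅H, K⁆ ⊔ K)) := by
      rw [← not_subsingleton_iff_nontrivial]
      intro hs
      exact hne (QuotientGroup.subgroup_eq_top_of_subsingleton _ hs)
    have hrep : ∀ q : G ⧸ (⁅H, K⁆ ⊔ K), ∃ h ∈ H, QuotientGroup.mk' (⁅H, K⁆ ⊔ K) h = q := by
      intro q
      obtain ⟨g, rfl⟩ := QuotientGroup.mk'_surjective _ q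
      have hg : g ∈ (H : Set G) * (K : Set G) := by
        rw [Subgroup.IsComplement.mul_eq hc]; trivial
      obtain ⟨h, hh, k, hk, rfl⟩ := hg
      refine ⟨h, hh, ?_⟩
      rw [map_mul]
      have : QuotientGroup.mk' (⁅H, K⁆ ⊔ K) k = 1 := by
        rw [QuotientGroup.mk'_apply, QuotientGroup.eq_one_iff]
        exact Subgroup.mem_sup_right hk
      rw [this, mul_one]
    have hsol : Group.IsSolvable (G ⧸ (⁅H, K⁆ ⊔ K)) := by
      apply Group.isSolvable_of_surjective (f := (QuotientGroup.mk' (⁅H, K⁆ ⊔ K)).comp H.subtype)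
      intro q
      obtain ⟨h, hh, e⟩ := hrep q
      exact ⟨⟨h, hh⟩, e⟩
    have hlt := Group.IsSolvable.commutator_lt_top_of_nontrivial (G ⧸ (⁅H, K⁆ ⊔ K))
    apply hlt.ne
    rw [eq_top_iff]
    intro q _
    obtain ⟨h, hh, rfl⟩ := hrep q
    have hh' : h ∈ commutator G := hle hh
    have := Subgroup.mem_map_of_mem (QuotientGroup.mk' (⁅H, K⁆ ⊔ K)) hh'
    rw [map_commutator_eq] at this
    rw [_root_.commutator_def]
    exact Subgroup.commutator_mono le_top le_top this
  have hN : (⁅H, K⁆).Normal := by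
    rw [← Subgroup.normalizer_eq_top_iff, eq_top_iff, ← hc.sup_eq_top]
    exact sup_le (Subgroup.normalizer_commutator_ge_left H K)
      (Subgroup.normalizer_commutator_ge_right H K)
  apply le_antisymm _ (Subgroup.commutator_le_left H K)
  intro h hh
  have h1 : h ∈ ⁅H, K⁆ ⊔ K := by rw [htop]; trivial
  rw [Subgroup.mem_sup_of_normal_left] at h1
  obtain ⟨n, hn, k, hk, rfl⟩ := h1
  have hk' : k ∈ H := by
    have := mul_mem (inv_mem (Subgroup.commutator_le_left H K hn)) hh
    simpa using this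
  have : k = 1 := by
    have := hc.disjoint.le_bot ⟨hk', hk⟩
    simpa using this
  rw [this, mul_one]
  exact hn

theorem pRankLE_of_mulEquiv {A B : Type*} [Group A] [Group B] (e : A ≃* B) {p k : ℕ} (h : PRankLE p k A) : PRankLE p k B := by
  intro E hE hEp
  have h1 := h (E.map e.symm.toMonoidHom) ⟨⟨by
      rintro ⟨_, a, ha, rfl⟩ ⟨_, b, hb, rfl⟩
      apply Subtype.ext
      show e.symm a * e.symm b = e.symm b * e.symm a
      rw [← map_mul, ← map_mul]
      have := hE.is_comm.comm ⟨a, ha⟩ ⟨b, hb⟩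
      rw [show a * b = b * a from congrArg Subtype.val this]⟩⟩ (by
      rintro _ ⟨a, ha, rfl⟩
      show (e.symm a) ^ p = 1
      rw [← map_pow, hEp a ha, map_one])
  rwa [Subgroup.card_map_of_injective e.symm.injective] at h1

theorem lc_ne_bot_of_mulEquiv {A B : Type*} [Group A] [Group B] (e : A ≃* B) {i : ℕ} (h : Lc A i ≠ ⊥) : Lc B i ≠ ⊥ := by
  intro hb
  apply h
  have h1 : (Lc A i).map e.toMonoidHom = Lc B i := by
    rw [Subgroup.map_lowerCentralSeries, Subgroup.map_top_of_surjective _ e.surjective]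
  rw [hb] at h1
  exact (Subgroup.map_eq_bot_iff_of_injective _ e.injective).mp h1

/-- **Main theorem** -/
theorem main {L : Type*} [Group L] [Finite L] {p : ℕ} [hpp : Fact p.Prime] (hp2 : p ≠ 2) (hperf : commutator L = ⊤)
    (P : Sylow p L) (hrk : PRankLE p 2 (P : Subgroup L)) (ξ : L) (hξP : ξ ∈ P) (hξ : orderOf ξ = p)
    (hξc : ∀ n ∈ normalizer ((P : Subgroup L) : Set L), n * ξ = ξ * n) :
    (IsExtraspecial p (P : Subgroup L) ∧ Nat.card (P : Subgroup L) = p ^ 3 ∧ ∀ y ∈ (P : Subgroup L), y ^ p = 1) ∨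
    (p = 3 ∧ ∃ k : ℕ, 2 ≤ k ∧ Nat.card (P : Subgroup L) = 3 ^ (2 * k + 1) ∧
            ∃ _ : Group.IsNilpotent ↥(P : Subgroup L), Group.nilpotencyClass ↥(P : Subgroup L) = 2 * k) := by
  set N : Subgroup L := normalizer ((P : Subgroup L) : Set L) with hN
  have hPN : (P : Subgroup L) ≤ N := Subgroup.le_normalizer
  set P' : Subgroup N := (P : Subgroup L).subgroupOf N with hP'
  have hP'n : P'.Normal := Subgroup.normal_in_normalizer
  let e : P' ≃* (P : Subgroup L) := Subgroup.subgroupOfEquivOfLe hPN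
  have hP'p : IsPGroup p P' := P.isPGroup'.of_equiv e.symm
  have hcardP : Nat.card P' = Nat.card (P : Subgroup L) := Nat.card_congr e.toEquiv
  have hidx : ¬ p ∣ P'.index := by
    have h1 : P'.index ∣ (P : Subgroup L).index := Subgroup.relIndex_dvd_index_of_le hPN
    intro h2
    exact P.not_dvd_index (h2.trans h1)
  have hcopI : (P'.index).Coprime p := ((Nat.Prime.coprime_iff_not_dvd hpp.out).mpr hidx).symm
  obtain ⟨n, hn⟩ := IsPGroup.iff_card.1 hP'p
  obtain ⟨K, hK⟩ := Subgroup.exists_right_complement'_of_coprime (N := P') (by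
    rw [hn]; exact (Nat.Coprime.pow_right n hcopI).symm)
  have hKcard : Nat.card K = P'.index := hK.card_right
  -- `P ≤ N'`
  have hle : P' ≤ commutator N := by
    have h1 := RankTwoMain.control hp2 P hrk
    rw [hperf, inf_top_eq] at h1
    intro x hx
    have h2 : (x : L) ∈ (P : Subgroup L) := hx
    rw [h1] at h2
    have h3 := h2.2
    rw [← Subgroup.map_subtype_commutator] at h3
    obtain ⟨y, hy, e⟩ := h3
    have : y = x := Subtype.ext e
    rwa [this] at hy
  have hsol : Group.IsSolvable P' := by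
    have := hP'p.isNilpotent
    infer_instance
  have hSit : Sit p P' K ⟨ξ, hPN hξP⟩ :=
    { hPn := hP'n
      hPp := hP'p
      hcop := by rw [hKcard]; exact hcopI
      hPK := (eq_commutator' P' K hsol hP'n hK hle).symm
      hξP := hξP
      hξ := by rw [Subgroup.orderOf_mk]; exact hξ
      hξc := fun g => Subtype.ext (hξc g g.2)
      hrk := pRankLE_of_mulEquiv e.symm hrk }
  rcases concl hSit hp2 with h1 | ⟨h1, k, hk, hk2, hk3⟩
  · left
    obtain ⟨-, h3, h4⟩ := hSit.cube hp2 h1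
    rw [hcardP] at h3
    have hexp : ∀ y ∈ (P : Subgroup L), y ^ p = 1 := by
      intro y hy
      have := h4 ⟨y, hPN hy⟩ hy
      exact congrArg Subtype.val this
    refine ⟨?_, h3, hexp⟩
    apply Cfsg.Agent.J2Type.ExtCube.isExtraspecial_of_card_cube h3
    by_contra hcon
    push Not at hcon
    apply hSit.not_comm
    rw [Subgroup.commutator_eq_bot_iff_le_centralizer]
    intro a ha
    rw [Subgroup.mem_centralizer_iff]
    intro b hb
    apply Subtype.ext
    have h7 := congrArg (fun w : (P : Subgroup L) => (w : L)) (hcon ⟨((b : N) : L), hb⟩ ⟨((a : N) : L), ha⟩)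
    exact h7
  · right
    subst h1
    refine ⟨rfl, k, hk, by rw [← hcardP]; exact hk2, ?_⟩
    have h5 := lc_ne_bot_of_mulEquiv e hk3
    have e1 : 2 * k - 1 = (2 * k + 1) - 2 := by omega
    rw [e1] at h5
    obtain ⟨hnil, h6⟩ := nilpotencyClass_eq (p := 3) (n := 2 * k + 1) (by rw [← hcardP]; exact hk2) (by omega) h5
    exact ⟨hnil, by omega⟩

end Cfsg.Agent.H271.RankTwoFin
end

-- part: S3038
section
set_option autoImplicit false
open Cfsg

namespace Cfsg.Agent.S3038

open Cfsg.Agent.H271.Isolated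
open scoped commutatorElement

theorem isIsolated_conj {G : Type*} [Group G] {x : G} (h : IsIsolated x) (g : G) : IsIsolated (g * x * g⁻¹) := by
  intro a ha
  have h1 : Commute x ((g⁻¹ * a * g) * x * (g⁻¹ * a * g)⁻¹) := by
    have h2 := ha
    unfold Commute SemiconjBy at h2 ⊢
    have h3 := congrArg (fun w => g⁻¹ * w * g) h2
    calc x * ((g⁻¹ * a * g) * x * (g⁻¹ * a * g)⁻¹) = g⁻¹ * (g * x * g⁻¹ * (a * (g * x * g⁻¹) * a⁻¹)) * g := by group
      _ = g⁻¹ * (a * (g * x * g⁻¹) * a⁻¹ * (g * x * g⁻¹)) * g := by rw [h2]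
      _ = _ := by group
  have h2 := h _ h1
  calc a * (g * x * g⁻¹) * a⁻¹ = g * ((g⁻¹ * a * g) * x * (g⁻¹ * a * g)⁻¹) * g⁻¹ := by group
    _ = g * x * g⁻¹ := by rw [h2]

/-- a Sylow subgroup of a subgroup -/
theorem mem_of_mem {G : Type*} [Group G] [Finite G] {p : ℕ} [Fact p.Prime] {F : Subgroup G} (P : Sylow p F) (T : Sylow p G)
    (hPT : (P : Subgroup F).map F.subtype ≤ T) {u : F} (hu : (u : G) ∈ T) : u ∈ P := by
  have h1 : IsPGroup p ((T : Subgroup G).subgroupOf F) :=
    T.isPGroup'.comap_of_injective F.subtype F.subtype_injective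
  have h2 : (P : Subgroup F) ≤ (T : Subgroup G).subgroupOf F := by
    intro v hv
    exact hPT ⟨v, hv, rfl⟩
  have h3 := P.is_maximal' h1 h2
  show u ∈ (P : Subgroup F)
  rw [← h3]
  exact hu

theorem rank_one {G : Type*} [Group G] [Finite G] {p : ℕ} [hpp : Fact p.Prime] (hrank : Cfsg.PRankLE p 2 G) {F : Subgroup G}
    (P : Subgroup F) (x : G) (hx : orderOf x = p) (hxP : x ∉ P.map F.subtype)
    (hc : ∀ u ∈ P.map F.subtype, x * u = u * x) : PRankLE p 1 P := by
  intro E hE hEp
  set E' : Subgroup G := (E.map P.subtype).map F.subtype with hE'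
  have hcard : Nat.card E' = Nat.card E := by
    rw [hE', Subgroup.card_map_of_injective F.subtype_injective, Subgroup.card_map_of_injective P.subtype_injective]
  have hE'P : E' ≤ P.map F.subtype := Subgroup.map_mono (Subgroup.map_subtype_le _)
  have hxE : x ∉ E' := fun h => hxP (hE'P h)
  have hxp : x ^ p = 1 := by rw [← hx]; exact pow_orderOf_eq_one x
  have hS := closure_elem (G := G) (p := p) ((E' : Set G) ∪ {x}) (by
      intro a ha b hb
      rcases ha with ha | ha <;> rcases hb with hb | hb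
      · obtain ⟨_, ⟨a, ha, rfl⟩, rfl⟩ := ha
        obtain ⟨_, ⟨b, hb, rfl⟩, rfl⟩ := hb
        have := hE.is_comm.comm ⟨a, ha⟩ ⟨b, hb⟩
        have h2 : a * b = b * a := congrArg Subtype.val this
        exact congrArg (fun w : P => ((w : F) : G)) h2
      · rw [Set.mem_singleton_iff.mp hb]
        exact (hc a (hE'P ha)).symm
      · rw [Set.mem_singleton_iff.mp ha]
        exact hc b (hE'P hb)
      · rw [Set.mem_singleton_iff.mp ha, Set.mem_singleton_iff.mp hb]) (by
      intro a ha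
      rcases ha with ha | ha
      · obtain ⟨_, ⟨a, ha, rfl⟩, rfl⟩ := ha
        exact congrArg (fun w : P => ((w : F) : G)) (hEp a ha)
      · rw [Set.mem_singleton_iff.mp ha]; exact hxp)
  have h3 := hrank _ hS.1 hS.2
  have h1 := card_mul_le (H := E') (K := Subgroup.zpowers x)
  rw [zpowers_inf_eq_bot hxp hxE, Subgroup.card_bot, mul_one, Nat.card_zpowers, hx, hcard] at h1
  have h4 : E' ⊔ Subgroup.zpowers x ≤ Subgroup.closure ((E' : Set G) ∪ {x}) := by
    refine sup_le ?_ ?_
    · intro a ha; exact Subgroup.subset_closure (Or.inl ha)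
    · rw [Subgroup.zpowers_le]; exact Subgroup.subset_closure (Or.inr rfl)
  have h5 := Subgroup.card_le_of_le h4
  have h6 : Nat.card E * p ≤ p ^ 1 * p := by
    calc Nat.card E * p ≤ _ := h1
      _ ≤ _ := h5
      _ ≤ _ := h3
      _ = p ^ 1 * p := by ring
  exact Nat.le_of_mul_le_mul_right h6 hpp.out.pos

/-- Let G be a finite group and p an odd prime with O_{p'}(G) = 1. Suppose that G has p-rank at most 2 and that some element x of order p is isolated in G and not central. Then F*(G) is a non-abelian simple group, and for every Sylow p-subgroup P of F*(G), either no conjugate of x lies in P and P is cyclic, or some conjugate of x lies in P and either P is extraspecial of order p³ and exponent p, or p = 3 and P has order 3^{2k+1} for some k ≥ 2 and is of maximal class (nilpotency class 2k). Since O_{p'}(G) = 1, such an x is not central modulo O_{p'}(G): the hypotheses describe a counterexample to the Z*_p statement in p-rank at most 2, and the conclusion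 records the structure it would have. -/
theorem result {G : Type*} [Group G] [Finite G] {p : ℕ} [Fact p.Prime] (hp : p ≠ 2) (hcore : Cfsg.pPrimeCore p G = ⊥)
    (hrank : Cfsg.PRankLE p 2 G) (x : G) (hx : orderOf x = p) (hiso : Cfsg.IsIsolated x) (hnc : x ∉ Subgroup.center G) :
    IsSimpleGroup ↥(Cfsg.generalizedFittingSubgroup G) ∧ ¬ IsMulCommutative ↥(Cfsg.generalizedFittingSubgroup G) ∧
    ∀ P : Sylow p ↥(Cfsg.generalizedFittingSubgroup G),
      ((∀ g : G, g * x * g⁻¹ ∉ ((P : Subgroup ↥(Cfsg.generalizedFittingSubgroup G)).map (Cfsg.generalizedFittingSubgroup G).subtype)) ∧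
          IsCyclic ↥(P : Subgroup ↥(Cfsg.generalizedFittingSubgroup G))) ∨
      ((∃ g : G, g * x * g⁻¹ ∈ ((P : Subgroup ↥(Cfsg.generalizedFittingSubgroup G)).map (Cfsg.generalizedFittingSubgroup G).subtype)) ∧
        ((Cfsg.IsExtraspecial p ↥(P : Subgroup ↥(Cfsg.generalizedFittingSubgroup G)) ∧
            Nat.card (P : Subgroup ↥(Cfsg.generalizedFittingSubgroup G)) = p ^ 3 ∧
            ∀ y ∈ (P : Subgroup ↥(Cfsg.generalizedFittingSubgroup G)), y ^ p = 1) ∨
         (p = 3 ∧ ∃ k : ℕ, 2 ≤ k ∧ Nat.card (P : Subgroup ↥(Cfsg.generalizedFittingSubgroup G)) = 3 ^ (2 * k + 1) ∧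
            ∃ _ : Group.IsNilpotent ↥(P : Subgroup ↥(Cfsg.generalizedFittingSubgroup G)),
              Group.nilpotencyClass ↥(P : Subgroup ↥(Cfsg.generalizedFittingSubgroup G)) = 2 * k))) := by
  obtain ⟨hsimp, hnab⟩ := Cfsg.Agent.S3049.result hp hcore hrank x hx hiso hnc
  refine ⟨hsimp, hnab, ?_⟩
  set F := generalizedFittingSubgroup G with hF
  intro P
  have hPp : IsPGroup p ((P : Subgroup F).map F.subtype) := P.isPGroup'.map F.subtype
  by_cases hcase : ∃ g : G, g * x * g⁻¹ ∈ (P : Subgroup F).map F.subtype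
  · right
    refine ⟨hcase, ?_⟩
    obtain ⟨g, ξ, hξP, hξ⟩ := hcase
    have hiso' := isIsolated_conj hiso g
    have hξ' : (ξ : G) = g * x * g⁻¹ := hξ
    have hperf : commutator F = ⊤ := by
      have hn : (commutator F).Normal := inferInstance
      rcases hn.eq_bot_or_eq_top with h | h
      · exfalso
        apply hnab
        refine ⟨⟨fun a b => ?_⟩⟩
        have h1 : ⁅a, b⁆ ∈ commutator F := Subgroup.commutator_mem_commutator (Subgroup.mem_top a) (Subgroup.mem_top b)
        rw [h, Subgroup.mem_bot, commutatorElement_eq_one_iff_mul_comm] at h1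
        exact h1
      · exact h
    apply Cfsg.Agent.H271.RankTwoFin.main hp hperf P
      (Cfsg.Agent.H271.RankTwoMain.rank_subgroup 2 (Cfsg.Agent.H271.RankTwoMain.rank_subgroup 2 hrank F) P) ξ hξP
    · rw [← Subgroup.orderOf_coe, hξ']
      have h1 : orderOf ((MulAut.conj g) x) = orderOf x := MulEquiv.orderOf_eq _ _
      rw [MulAut.conj_apply] at h1
      rw [h1, hx]
    · intro n hn
      have h1 : n * ξ * n⁻¹ ∈ (P : Subgroup F) := (Subgroup.mem_normalizer_iff.mp hn ξ).mp hξP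
      have h2 := comm_of_mem hiso' hPp (x := g * x * g⁻¹) ⟨ξ, hξP, hξ⟩ (y := ((n * ξ * n⁻¹ : F) : G)) ⟨_, h1, rfl⟩
      have h3 := hiso' (n : G) (by
        have e : (n : G) * (g * x * g⁻¹) * (n : G)⁻¹ = ((n * ξ * n⁻¹ : F) : G) := by
          rw [← hξ']; rfl
        rw [e]; exact h2)
      apply Subtype.ext
      show (n : G) * ξ = ξ * n
      rw [hξ']
      calc (n : G) * (g * x * g⁻¹) = ((n : G) * (g * x * g⁻¹) * (n : G)⁻¹) * n := by group
        _ = g * x * g⁻¹ * n := by rw [h3]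
  · left
    push Not at hcase
    refine ⟨hcase, ?_⟩
    -- a Sylow subgroup containing `P`
    obtain ⟨T, hT⟩ := hPp.exists_le_sylow
    have hxp : IsPGroup p (Subgroup.zpowers x) := by
      apply IsPGroup.of_card (n := 1)
      rw [Nat.card_zpowers, hx, pow_one]
    obtain ⟨T₀, hT₀⟩ := hxp.exists_le_sylow
    obtain ⟨g, hg⟩ := MulAction.exists_smul_eq G T₀ T
    have hxT : g * x * g⁻¹ ∈ (T : Subgroup G) := by
      rw [← hg]
      show g * x * g⁻¹ ∈ (g • T₀ : Sylow p G)
      have h1 : x ∈ T₀ := hT₀ (Subgroup.mem_zpowers x)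
      have := Sylow.coe_subgroup_smul (g := g) (P := T₀)
      rw [← SetLike.mem_coe]
      show g * x * g⁻¹ ∈ ((g • T₀ : Sylow p G) : Subgroup G)
      rw [Sylow.coe_subgroup_smul]
      exact ⟨x, h1, rfl⟩
    apply Cfsg.Agent.OddOrderLocal.RankOneCyclic.isCyclic_of_pRankLE_one hp P.isPGroup'
    apply rank_one hrank (P : Subgroup F) (g * x * g⁻¹) _ (hcase g)
    · intro u hu
      exact comm_of_mem (isIsolated_conj hiso g) T.isPGroup' hxT (hT hu)
    · have h1 : orderOf ((MulAut.conj g) x) = orderOf x := MulEquiv.orderOf_eq _ _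
      rw [MulAut.conj_apply] at h1
      rw [h1, hx]

end Cfsg.Agent.S3038
end
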