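import Mathlib
import Cfsg.Statements.S3050
import Cfsg.Agent.OddCyclic.FFBasic
import Cfsg.Agent.OddCyclic.FpfThree
set_option linter.all false

-- part: H274/SL2Fpf
section
/-!
# Abelian groups on which `SL₂(K)`, `K` finite of characteristic two with at least four elements, acts with a
fixed-point-free element of order three (helper274)

Such a group is elementary abelian and a direct sum of natural modules.  The proof uses only the relations
`h(a) + w u(1/a) + u(a) w = 0` in the endomorphism ring.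
-/

set_option autoImplicit false

namespace Cfsg.Agent.H274.SL2Fpf

open Matrix

variable {K : Type*} [Field K] [CharP K 2]

/-- upper unipotent matrices -/
def u (a : K) : SpecialLinearGroup (Fin 2) K := ⟨!![1, a; 0, 1], by simp⟩

/-- diagonal matrices -/
def h (a : Kˣ) : SpecialLinearGroup (Fin 2) K := ⟨!![(a : K), 0; 0, ((a⁻¹ : Kˣ) : K)], by simp⟩

/-- the reflection -/
def w : SpecialLinearGroup (Fin 2) K := ⟨!![0, 1; 1, 0], by
  rw [det_fin_two_of]
  have : (1 : K) + 1 = 0 := CharTwo.add_self_eq_zero 1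
  linear_combination -this⟩

omit [CharP K 2] in
theorem u_add (a b : K) : u (a + b) = u a * u b := by
  apply Subtype.ext
  show !![1, a + b; 0, 1] = !![1, a; 0, 1] * !![1, b; 0, 1]
  ext i j
  fin_cases i <;> fin_cases j <;> simp [add_comm]

omit [CharP K 2] in
theorem u_zero : u (0 : K) = 1 := by
  apply Subtype.ext
  show !![1, (0 : K); 0, 1] = 1
  ext i j
  fin_cases i <;> fin_cases j <;> simp

omit [CharP K 2] in
theorem h_mul (a b : Kˣ) : h (a * b) = h a * h b := by
  apply Subtype.ext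
  show !![((a * b : Kˣ) : K), 0; 0, (((a * b)⁻¹ : Kˣ) : K)] =
    !![(a : K), 0; 0, ((a⁻¹ : Kˣ) : K)] * !![(b : K), 0; 0, ((b⁻¹ : Kˣ) : K)]
  ext i j
  fin_cases i <;> fin_cases j <;> simp [mul_comm]

omit [CharP K 2] in
theorem h_one : h (1 : Kˣ) = 1 := by
  apply Subtype.ext
  show !![((1 : Kˣ) : K), 0; 0, (((1 : Kˣ)⁻¹ : Kˣ) : K)] = 1
  ext i j
  fin_cases i <;> fin_cases j <;> simp

theorem w_w : (w : SpecialLinearGroup (Fin 2) K) * w = 1 := by
  apply Subtype.ext
  show !![(0 : K), 1; 1, 0] * !![(0 : K), 1; 1, 0] = 1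
  ext i j
  fin_cases i <;> fin_cases j <;> simp

omit [CharP K 2] in
theorem h_u (a : Kˣ) (b : K) : h a * u b = u ((a : K) ^ 2 * b) * h a := by
  apply Subtype.ext
  show !![(a : K), 0; 0, ((a⁻¹ : Kˣ) : K)] * !![1, b; 0, 1] =
    !![1, (a : K) ^ 2 * b; 0, 1] * !![(a : K), 0; 0, ((a⁻¹ : Kˣ) : K)]
  have ha : (a : K) ≠ 0 := a.ne_zero
  ext i j
  fin_cases i <;> fin_cases j <;> simp
  field_simp

theorem w_h (a : Kˣ) : w * h a = h a⁻¹ * w := by
  apply Subtype.ext
  show !![(0 : K), 1; 1, 0] * !![(a : K), 0; 0, ((a⁻¹ : Kˣ) : K)] =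
    !![((a⁻¹ : Kˣ) : K), 0; 0, (((a⁻¹)⁻¹ : Kˣ) : K)] * !![(0 : K), 1; 1, 0]
  ext i j
  fin_cases i <;> fin_cases j <;> simp

/-- every element is a product of a few standard ones -/
theorem bruhat (P : SpecialLinearGroup (Fin 2) K → Prop) (hmul : ∀ x y, P x → P y → P (x * y))
    (hu : ∀ a, P (u a)) (hh : ∀ a, P (h a)) (hw : P w) (g : SpecialLinearGroup (Fin 2) K) : P g := by
  have hdet := g.det_coe
  rw [det_fin_two] at hdet
  set a := g.1 0 0 with ha
  set b := g.1 0 1 with hb
  set c := g.1 1 0 with hc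
  set d := g.1 1 1 with hd
  have h2 : ∀ x : K, x + x = 0 := fun x => CharTwo.add_self_eq_zero x
  by_cases hc0 : c = 0
  · have ha0 : a ≠ 0 := by
      intro h0
      rw [h0, hc0] at hdet
      simp at hdet
    have hd' : d = a⁻¹ := by
      rw [hc0] at hdet
      have : a * d = 1 := by linear_combination hdet
      field_simp
      linear_combination this
    have : g = u (a * b) * h (Units.mk0 a ha0) := by
      apply Subtype.ext
      show g.1 = !![1, a * b; 0, 1] * !![((Units.mk0 a ha0 : Kˣ) : K), 0; 0, (((Units.mk0 a ha0)⁻¹ : Kˣ) : K)]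
      ext i j
      fin_cases i <;> fin_cases j <;>
        simp [← ha, ← hb, ← hc, ← hd, hc0, hd']
      field_simp
    rw [this]
    exact hmul _ _ (hu _) (hh _)
  · have : g = u (a * c⁻¹) * (h (Units.mk0 c hc0)⁻¹ * w) * u (c⁻¹ * d) := by
      apply Subtype.ext
      show g.1 = !![1, a * c⁻¹; 0, 1] * (!![(((Units.mk0 c hc0)⁻¹ : Kˣ) : K), 0; 0,
        ((((Units.mk0 c hc0)⁻¹)⁻¹ : Kˣ) : K)] * !![(0 : K), 1; 1, 0]) * !![1, c⁻¹ * d; 0, 1]
      ext i j
      fin_cases i <;> fin_cases j <;>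
        simp [← ha, ← hb, ← hc, ← hd, hc0]
      field_simp
      linear_combination -hdet - h2 1
    rw [this]
    exact hmul _ _ (hmul _ _ (hu _) (hmul _ _ (hh _) hw)) (hu _)

/-- an element of order three is conjugate to `w * u 1` -/
theorem exists_conj [Finite K] {x : SpecialLinearGroup (Fin 2) K} (hx : orderOf x = 3) :
    ∃ g, x * g = g * (w * u 1) := by
  have h2 : ∀ x : K, x + x = 0 := fun x => CharTwo.add_self_eq_zero x
  have hdet := x.det_coe
  rw [det_fin_two] at hdet
  set a := x.1 0 0 with ha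
  set b := x.1 0 1 with hb
  set c := x.1 1 0 with hc
  set d := x.1 1 1 with hd
  have hx3 : x ^ 3 = 1 := by rw [← hx]; exact pow_orderOf_eq_one x
  have hx1 : x ≠ 1 := by
    intro h1
    rw [h1, orderOf_one] at hx
    omega
  -- the trace is one
  have hsq : ∀ t : K, ∃ s, s * s = t := by
    intro t
    obtain ⟨s, hs⟩ := FiniteField.isSquare_of_char_two (ringChar.eq K 2) t
    exact ⟨s, hs.symm⟩
  have hM : x.1 = !![a, b; c, d] := by
    rw [ha, hb, hc, hd]
    exact Matrix.eta_fin_two x.1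
  have e3 : x.1 * x.1 * x.1 = 1 := by
    have := congrArg Subtype.val hx3
    rw [pow_succ, pow_two] at this
    exact this
  have htr : a + d = 1 := by
    rw [hM] at e3
    have e00 := congrFun (congrFun e3 0) 0
    have e01 := congrFun (congrFun e3 0) 1
    have e10 := congrFun (congrFun e3 1) 0
    have e11 := congrFun (congrFun e3 1) 1
    simp [Matrix.mul_apply, Fin.sum_univ_two] at e00 e01 e10 e11
    -- `x³ = (t² + 1) x + t`
    have f01 : b * ((a + d) ^ 2 - 1) = 0 := by linear_combination e01 + b * hdet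
    have f10 : c * ((a + d) ^ 2 - 1) = 0 := by linear_combination e10 + c * hdet
    have f00 : a * ((a + d) ^ 2 - 1) - (a + d) = 1 := by
      linear_combination e00 + (a + (a + d)) * hdet
    have f11 : d * ((a + d) ^ 2 - 1) - (a + d) = 1 := by
      linear_combination e11 + (d + (a + d)) * hdet
    by_contra ht
    have ht2 : (a + d) ^ 2 - 1 ≠ 0 := by
      intro h0
      have h1 : (a + d - 1) * (a + d - 1) = 0 := by
        linear_combination h0 - h2 (a + d) + h2 1
      rcases mul_eq_zero.mp h1 with h3 | h3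
      · exact ht (by linear_combination h3)
      · exact ht (by linear_combination h3)
    have hb0 : b = 0 := (mul_eq_zero.mp f01).resolve_right ht2
    have hc0 : c = 0 := (mul_eq_zero.mp f10).resolve_right ht2
    have had : a = d := by
      have : (a - d) * ((a + d) ^ 2 - 1) = 0 := by linear_combination f00 - f11
      have := (mul_eq_zero.mp this).resolve_right ht2
      linear_combination this
    have ha1 : a = 1 := by
      rw [← had] at f00
      linear_combination -f00 + 2 * a ^ 3 * (h2 1) - a * h2 1 - h2 1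
    apply hx1
    apply Subtype.ext
    rw [hM, hb0, hc0, ← had, ha1]
    ext i j
    fin_cases i <;> fin_cases j <;> simp
  have hd1 : d = a + 1 := by linear_combination htr - h2 a
  have hbc : b * c = a * (a + 1) - 1 := by rw [hd1] at hdet; linear_combination -hdet
  -- scale a column
  have key : ∀ v0 v1 : K, v0 * (c * v0 + d * v1) - v1 * (a * v0 + b * v1) ≠ 0 →
      ∃ g, x * g = g * (w * u 1) := by
    intro v0 v1 hD
    set D := v0 * (c * v0 + d * v1) - v1 * (a * v0 + b * v1) with hDdef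
    obtain ⟨s, hs⟩ := hsq D⁻¹
    refine ⟨⟨!![s * v0, s * (a * v0 + b * v1); s * v1, s * (c * v0 + d * v1)], ?_⟩, ?_⟩
    · rw [det_fin_two_of]
      have : s * v0 * (s * (c * v0 + d * v1)) - s * (a * v0 + b * v1) * (s * v1) = s * s * D := by
        rw [hDdef]; ring
      rw [this, hs, inv_mul_cancel₀ hD]
    · apply Subtype.ext
      show x.1 * !![s * v0, s * (a * v0 + b * v1); s * v1, s * (c * v0 + d * v1)] =
        !![s * v0, s * (a * v0 + b * v1); s * v1, s * (c * v0 + d * v1)] *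
          (!![(0 : K), 1; 1, 0] * !![1, 1; 0, 1])
      rw [hM, hd1]
      ext i j
      fin_cases i <;> fin_cases j <;> simp
      · ring
      · linear_combination s * v0 * hbc + s * v0 * a * h2 a + s * v0 * h2 a + s * b * v1 * h2 a + s * b * v1 * h2 1 - (a * s * v0 + s * v0 + s * b * v1) * h2 1
      · ring
      · linear_combination s * v1 * hbc + s * v1 * h2 1 + s * v1 * a * h2 1 + s * c * v0 * a * h2 1 + (s * a ^ 2 * v1 - 2 * s * v1) * h2 1
  by_cases hc0 : c = 0
  · by_cases hb0 : b = 0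
    · refine key 1 1 ?_
      have : (1 : K) * (c * 1 + d * 1) - 1 * (a * 1 + b * 1) = 1 := by
        rw [hc0, hb0, hd1]; ring
      rw [this]
      exact one_ne_zero
    · refine key 0 1 ?_
      have : (0 : K) * (c * 0 + d * 1) - 1 * (a * 0 + b * 1) = - b := by ring
      rw [this]
      exact neg_ne_zero.mpr hb0
  · refine key 1 0 ?_
    have : (1 : K) * (c * 1 + d * 0) - 0 * (a * 1 + b * 0) = c := by ring
    rw [this]
    exact hc0

section Act

variable {V : Type*} [AddCommGroup V] [DistribMulAction (SpecialLinearGroup (Fin 2) K) V]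

/-- the basic relation for one element of order three -/
theorem norm_one [Finite K] {x : SpecialLinearGroup (Fin 2) K} (hx : orderOf x = 3)
    (hfix : ∀ v : V, x • v = v → v = 0) :
    (∀ v : V, v + (w * u (1 : K)) • v + (u (1 : K) * w) • v = 0) ∧ ∀ v : V, (w * u (1 : K)) • v = v → v = 0 := by
  obtain ⟨g, hg⟩ := exists_conj hx
  have hX3 : (w * u (1 : K)) * (w * u 1) * (w * u 1) = 1 := by
    have hx3 : x * x * x = 1 := by
      have := pow_orderOf_eq_one x
      rwa [hx, pow_succ, pow_two] at this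
    have h1 : w * u 1 = g⁻¹ * x * g := by rw [mul_assoc, hg]; group
    rw [h1]
    calc g⁻¹ * x * g * (g⁻¹ * x * g) * (g⁻¹ * x * g) = g⁻¹ * (x * x * x) * g := by group
      _ = 1 := by rw [hx3]; group
  have hXX : u (1 : K) * w = (w * u 1) * (w * u 1) := by
    have h1 : (w * u (1 : K))⁻¹ = u 1 * w := by
      rw [inv_eq_iff_mul_eq_one]
      calc w * u (1 : K) * (u 1 * w) = w * (u 1 * u 1) * w := by group
        _ = 1 := by
          rw [← u_add, CharTwo.add_self_eq_zero, u_zero, mul_one, w_w]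
    rw [← h1, inv_eq_iff_mul_eq_one, ← mul_assoc]
    exact hX3
  rw [hXX]
  set X : SpecialLinearGroup (Fin 2) K := w * u 1 with hX
  have hfix' : ∀ v : V, X • v = v → v = 0 := by
    intro v hv
    have h1 : x • g • v = g • v := by
      rw [← mul_smul, hg, mul_smul, hv]
    have h2 := hfix _ h1
    have h3 : g⁻¹ • g • v = v := inv_smul_smul g v
    rw [← h3, h2, smul_zero]
  refine ⟨fun v => ?_, hfix'⟩
  apply hfix'
  rw [smul_add, smul_add, ← mul_smul X X v, ← mul_smul X (X * X) v, ← mul_assoc X X X, hX3, one_smul]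
  abel

/-- the hypothesis: the norm relation of one element of order three, without fixed points -/
structure Nrm (K : Type*) [Field K] [CharP K 2] (V : Type*) [AddCommGroup V]
    [DistribMulAction (SpecialLinearGroup (Fin 2) K) V] : Prop where
  nrm : ∀ v : V, v + (w : SpecialLinearGroup (Fin 2) K) • u (1 : K) • v +
    u (1 : K) • (w : SpecialLinearGroup (Fin 2) K) • v = 0
  fpf : ∀ v : V, (w : SpecialLinearGroup (Fin 2) K) • u (1 : K) • v = v → v = 0

theorem nrm_of [Finite K] {x : SpecialLinearGroup (Fin 2) K} (hx : orderOf x = 3)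
    (hfix : ∀ v : V, x • v = v → v = 0) : Nrm K V where
  nrm v := by
    have := (norm_one hx hfix).1 v
    rwa [mul_smul, mul_smul] at this
  fpf v hv := (norm_one hx hfix).2 v (by rwa [mul_smul])

omit [CharP K 2] in
theorem u_smul_u (a b : K) (v : V) : u a • u b • v = u (a + b) • v := by
  rw [← mul_smul, ← u_add]

omit [CharP K 2] in
theorem u_comm (a b : K) (v : V) : u a • u b • v = u b • u a • v := by
  rw [u_smul_u, u_smul_u, add_comm]

omit [CharP K 2] in
theorem h_smul_u (a : Kˣ) (b : K) (v : V) : h a • u b • v = u ((a : K) ^ 2 * b) • h a • v := by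
  rw [← mul_smul, ← mul_smul, h_u]

theorem w_smul_h (a : Kˣ) (v : V) :
    (w : SpecialLinearGroup (Fin 2) K) • h a • v = h a⁻¹ • (w : SpecialLinearGroup (Fin 2) K) • v := by
  rw [← mul_smul, ← mul_smul, w_h]

theorem w_smul_w (v : V) : (w : SpecialLinearGroup (Fin 2) K) • (w : SpecialLinearGroup (Fin 2) K) • v = v := by
  rw [← mul_smul, w_w, one_smul]

omit [CharP K 2] in
theorem h_inv_smul (a : Kˣ) (v : V) : h a • h a⁻¹ • v = v := by
  rw [← mul_smul, ← h_mul, mul_inv_cancel, h_one, one_smul]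

omit [CharP K 2] in
theorem h_smul_h (a b : Kˣ) (v : V) : h a • h b • v = h (a * b) • v := by
  rw [← mul_smul, ← h_mul]

theorem exists_sq [Finite K] (a : Kˣ) : ∃ m : Kˣ, m * m = a := by
  obtain ⟨s, hs⟩ := FiniteField.isSquare_of_char_two (ringChar.eq K 2) (a : K)
  have hs0 : s ≠ 0 := by
    intro h0
    rw [h0, mul_zero] at hs
    exact a.ne_zero hs
  exact ⟨Units.mk0 s hs0, Units.ext hs.symm⟩

/-- the relation `h(a) + w u(1/a) + u(a) w = 0` -/
theorem rel [Finite K] (hN : Nrm K V) (a : Kˣ) (v : V) :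
    h a • v + (w : SpecialLinearGroup (Fin 2) K) • u ((a⁻¹ : Kˣ) : K) • v +
      u (a : K) • (w : SpecialLinearGroup (Fin 2) K) • v = 0 := by
  obtain ⟨m, rfl⟩ := exists_sq a
  have h1 := hN.nrm (h m • v)
  have h2 : u (1 : K) • h m • v = h m • u (((m * m)⁻¹ : Kˣ) : K) • v := by
    rw [h_smul_u]
    congr 2
    rw [Units.val_inv_eq_inv_val, Units.val_mul, pow_two]
    exact (mul_inv_cancel₀ (mul_ne_zero m.ne_zero m.ne_zero)).symm
  rw [h2, w_smul_h, w_smul_h] at h1
  have h3 := congrArg (fun z => h m • z) h1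
  simp only [smul_add, smul_zero] at h3
  rw [h_inv_smul, h_smul_u, h_inv_smul, h_smul_h, mul_one, pow_two, ← Units.val_mul] at h3
  exact h3

/-- the key relation `u(a) + u(1/a) = (u(1) + u(a²)) h(a)` -/
theorem rel_two [Finite K] (hN : Nrm K V) (a : Kˣ) (v : V) :
    u (a : K) • v + u ((a⁻¹ : Kˣ) : K) • v = u (1 : K) • h a • v + u ((a : K) ^ 2) • h a • v := by
  have r1 : ∀ v : V, v + (w : SpecialLinearGroup (Fin 2) K) • u (1 : K) • v +
      u (1 : K) • (w : SpecialLinearGroup (Fin 2) K) • v = 0 := hN.nrm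
  have ra := rel hN a
  have e1 := congrArg (fun z => u (a : K) • z) (r1 v)
  have e2 := ra (u (1 : K) • v)
  have e3 := congrArg (fun z => u (1 : K) • z) (ra v)
  have e4 := r1 (u ((a⁻¹ : Kˣ) : K) • v)
  simp only [smul_add, smul_zero] at e1 e3
  rw [h_smul_u, mul_one] at e2
  rw [u_comm (a : K) 1] at e1
  rw [u_comm ((a⁻¹ : Kˣ) : K) 1] at e2
  have e5 := congrArg₂ (· + ·) (congrArg₂ (· - ·) (congrArg₂ (· - ·) e1 e2) e3) e4
  simp only [sub_self, add_zero] at e5
  rw [← sub_eq_zero, ← e5]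
  abel

/-- the elements fixed by `u(c)`, `c ≠ 0`, are images of `1 + u(c)` -/
theorem exists_image [Finite K] (hN : Nrm K V) (c : Kˣ) {v : V} (hv : u (c : K) • v = v) :
    ∃ z : V, v = z + u (c : K) • z := by
  have h1 := rel hN c (h c⁻¹ • v)
  have h2 : u ((c⁻¹ : Kˣ) : K) • h c⁻¹ • v = h c⁻¹ • u (c : K) • v := by
    rw [h_smul_u]
    congr 2
    have hc := c.ne_zero
    rw [Units.val_inv_eq_inv_val]
    field_simp
  rw [h2, hv, h_inv_smul] at h1
  refine ⟨-((w : SpecialLinearGroup (Fin 2) K) • h c⁻¹ • v), ?_⟩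
  rw [smul_neg, ← neg_add, ← sub_eq_zero, sub_neg_eq_add, ← h1]
  abel

omit [CharP K 2] in
theorem smul_one_add (c : Kˣ) (v : V) (hc : ((c : K)) + c = 0) : u (c : K) • (v + u (c : K) • v) = v + u (c : K) • v := by
  rw [smul_add, u_smul_u, hc, u_zero, one_smul, add_comm]

/-- all nontrivial elements of the unipotent subgroup have the same fixed points -/
theorem fixed_of_one [Finite K] (hN : Nrm K V) {v : V} (hv : u (1 : K) • v = v) (c : K) : u c • v = v := by
  by_cases hc0 : c = 0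
  · rw [hc0, u_zero, one_smul]
  by_cases hc1 : c = 1
  · rw [hc1, hv]
  -- `a = 1 / c`
  set a : Kˣ := (Units.mk0 c hc0)⁻¹ with ha
  have hac : ((a⁻¹ : Kˣ) : K) = c := by rw [ha, inv_inv]; rfl
  have ha0 : (a : K) ≠ 0 := a.ne_zero
  have hav : (a : K) = c⁻¹ := by rw [← hac, Units.val_inv_eq_inv_val, inv_inv]
  have h2 : ∀ x : K, x + x = 0 := fun x => CharTwo.add_self_eq_zero x
  have h1a : (1 : K) + a ≠ 0 := by
    intro h0
    apply hc1
    have h3 : (a : K) = 1 := by linear_combination h0 - h2 1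
    rw [hav] at h3
    rw [← inv_inv c, h3, inv_one]
  set m : Kˣ := Units.mk0 _ h1a with hm
  have hmv : (m : K) = 1 + a := rfl
  have hsq : (1 : K) + (a : K) ^ 2 = (m : K) ^ 2 := by
    rw [hmv]; linear_combination - (a : K) * h2 1
  -- transport `v` to a fixed point of `u(1 + a²)`
  have hy : u ((m * m : Kˣ) : K) • h m • v = h m • v := by
    have := h_smul_u m 1 v
    rw [hv, mul_one, pow_two] at this
    exact this.symm
  obtain ⟨z, hz⟩ := exists_image hN (m * m) (v := u (1 : K) • h m • v) (by rw [u_comm, hy])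
  have hr := rel_two hN a (h a⁻¹ • z)
  rw [h_inv_smul] at hr
  have e1 : u (1 : K) • z + u ((a : K) ^ 2) • z = h m • v := by
    have h3 : u ((a : K) ^ 2) • z = u (1 : K) • u ((m * m : Kˣ) : K) • z := by
      rw [u_smul_u]
      congr 2
      rw [Units.val_mul, ← pow_two, ← hsq, ← add_assoc, h2, zero_add]
    rw [h3, ← smul_add, ← hz, u_smul_u, h2, u_zero, one_smul]
  rw [e1] at hr
  set y := h a⁻¹ • z with hydef
  -- `h m • v = u(a) y + u(1/a) y` is fixed by `u(a + 1/a)`
  have e2 : u ((a : K) + ((a⁻¹ : Kˣ) : K)) • h m • v = h m • v := by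
    rw [← hr, smul_add, u_smul_u, u_smul_u]
    have h3 : (a : K) + ((a⁻¹ : Kˣ) : K) + a = ((a⁻¹ : Kˣ) : K) := by
      linear_combination h2 (a : K)
    have h4 : (a : K) + ((a⁻¹ : Kˣ) : K) + ((a⁻¹ : Kˣ) : K) = a := by
      linear_combination h2 (((a⁻¹ : Kˣ) : K))
    rw [h3, h4, add_comm]
  have e3 : (a : K) + ((a⁻¹ : Kˣ) : K) = (m : K) ^ 2 * c := by
    rw [← hsq, hav, Units.val_inv_eq_inv_val, hav]
    field_simp
    ring
  rw [e3, ← h_smul_u] at e2
  have e4 := congrArg (fun z => h m⁻¹ • z) e2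
  simp only [h_smul_h, inv_mul_cancel, h_one, one_smul] at e4
  exact e4

variable (K V) in
/-- the common fixed points of the unipotent subgroup -/
def W : AddSubgroup V where
  carrier := {v | ∀ c : K, u c • v = v}
  add_mem' := by
    intro a b ha hb c
    rw [smul_add, ha c, hb c]
  zero_mem' := fun c => smul_zero _
  neg_mem' := by
    intro a ha c
    rw [smul_neg, ha c]

omit [CharP K 2] in
theorem mem_W {v : V} : v ∈ W K V ↔ ∀ c : K, u c • v = v := Iff.rfl

omit [CharP K 2] in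
theorem h_smul_mem_W (a : Kˣ) {v : V} (hv : v ∈ W K V) : h a • v ∈ W K V := by
  intro c
  have h1 := h_smul_u a (((a : K) ^ 2)⁻¹ * c) v
  rw [hv] at h1
  have h2 : (a : K) ^ 2 * (((a : K) ^ 2)⁻¹ * c) = c := by
    have := a.ne_zero
    field_simp
  rw [h2] at h1
  exact h1.symm

theorem fixed_iff [Finite K] (hN : Nrm K V) {c : K} (hc : c ≠ 0) {v : V} : u c • v = v ↔ v ∈ W K V := by
  refine ⟨fun hv => ?_, fun hv => hv c⟩
  obtain ⟨m, hm⟩ := exists_sq (Units.mk0 c hc)
  have hmc : (m : K) ^ 2 = c := by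
    have := congrArg Units.val hm
    rw [pow_two]
    exact this
  have h1 : u (1 : K) • h m⁻¹ • v = h m⁻¹ • v := by
    have h2 := h_smul_u m⁻¹ c v
    rw [hv] at h2
    have h3 : ((m⁻¹ : Kˣ) : K) ^ 2 * c = 1 := by
      rw [← hmc, Units.val_inv_eq_inv_val]
      have := m.ne_zero
      field_simp
    rw [h3] at h2
    exact h2.symm
  have h2 : h m⁻¹ • v ∈ W K V := fixed_of_one hN h1
  have h3 := h_smul_mem_W m h2
  rwa [h_inv_smul] at h3

/-- an element of `W ∩ w W` is zero -/
theorem eq_zero_of_mem [Finite K] (hN : Nrm K V) {v : V} (hv : v ∈ W K V)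
    (hv' : (w : SpecialLinearGroup (Fin 2) K) • v ∈ W K V) : v = 0 := by
  have hw : (w : SpecialLinearGroup (Fin 2) K) • v = v := by
    have h1 : (w : SpecialLinearGroup (Fin 2) K) = u 1 * w * u 1 * w * u 1 := by
      apply Subtype.ext
      show !![(0 : K), 1; 1, 0] = !![1, 1; 0, 1] * !![(0 : K), 1; 1, 0] * !![1, 1; 0, 1] *
        !![(0 : K), 1; 1, 0] * !![1, 1; 0, 1]
      have h2 : ∀ x : K, x + x = 0 := fun x => CharTwo.add_self_eq_zero x
      ext i j
      fin_cases i <;> fin_cases j <;> simp [h2]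
    rw [h1, mul_smul, mul_smul, mul_smul, mul_smul, hv, hv', w_smul_w, hv]
  apply hN.fpf
  rw [hv, hw]

omit [CharP K 2] in
theorem neg_mem_W {v : V} (hv : v ∈ W K V) : -v ∈ W K V := (W K V).neg_mem hv

/-- `u(c) v = - v` modulo `W` -/
theorem add_mem_W [Finite K] (hN : Nrm K V) {c : K} (hc : c ≠ 0) (v : V) : v + u c • v ∈ W K V := by
  rw [← fixed_iff hN hc, smul_add, u_smul_u, CharTwo.add_self_eq_zero, u_zero, one_smul, add_comm]

/-- `V` has exponent two -/
theorem two_eq_zero [Finite K] (hN : Nrm K V) (hK : ∃ a : K, a ≠ 0 ∧ a ≠ 1) (v : V) : v + v = 0 := by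
  have key : ∀ v : V, v + v ∈ W K V := by
    intro v
    obtain ⟨a, ha0, ha1⟩ := hK
    have h1 := add_mem_W hN ha0 v
    have h2 := add_mem_W hN (one_ne_zero) (u a • v)
    have h3 : (1 : K) + a ≠ 0 := by
      intro h0
      apply ha1
      have := CharTwo.add_self_eq_zero (1 : K)
      linear_combination h0 - this
    have h4 := add_mem_W hN h3 v
    rw [u_smul_u] at h2
    -- `v + v = (v + u a v) - (u a v + u (1 + a) v) + (v + u (1 + a) v)`
    have h5 : v + v = (v + u a • v) - (u a • v + u (1 + a) • v) + (v + u (1 + a) • v) := by abel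
    rw [h5]
    exact (W K V).add_mem ((W K V).sub_mem h1 h2) h4
  apply eq_zero_of_mem hN (key v)
  rw [smul_add]
  exact key _

/-- the action of `u(a)` on `w W` -/
theorem u_smul_w [Finite K] (hN : Nrm K V) (h2 : ∀ v : V, v + v = 0) (a : Kˣ) {v : V} (hv : v ∈ W K V) :
    u (a : K) • (w : SpecialLinearGroup (Fin 2) K) • v = (w : SpecialLinearGroup (Fin 2) K) • v + h a • v := by
  have h1 := rel hN a v
  rw [hv] at h1
  have h3 := h2 (u (a : K) • (w : SpecialLinearGroup (Fin 2) K) • v)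
  rw [← sub_eq_zero, sub_eq_add_neg, ← h1]
  have h4 : ∀ x y z : V, z + z = 0 → z + -(x + y) = y + x + z - (x + y) - (x + y) := by
    intro x y z _; abel
  have e1 : ∀ x : V, -x = x := fun x => neg_eq_of_add_eq_zero_left (h2 x)
  rw [e1]
  abel

/-- the components of an element -/
theorem decomp [Finite K] (hN : Nrm K V) (h2 : ∀ v : V, v + v = 0) (v : V) :
    v = ((w : SpecialLinearGroup (Fin 2) K) • v + u (1 : K) • (w : SpecialLinearGroup (Fin 2) K) • v) +
      (w : SpecialLinearGroup (Fin 2) K) • (v + u (1 : K) • v) := by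
  have h1 := hN.nrm v
  rw [smul_add]
  have e1 : ∀ x : V, -x = x := fun x => neg_eq_of_add_eq_zero_left (h2 x)
  have h3 := h2 ((w : SpecialLinearGroup (Fin 2) K) • v)
  have h4 : (w : SpecialLinearGroup (Fin 2) K) • v + u (1 : K) • (w : SpecialLinearGroup (Fin 2) K) • v +
      ((w : SpecialLinearGroup (Fin 2) K) • v + (w : SpecialLinearGroup (Fin 2) K) • u (1 : K) • v) =
      ((w : SpecialLinearGroup (Fin 2) K) • v + (w : SpecialLinearGroup (Fin 2) K) • v) +
      (v + (w : SpecialLinearGroup (Fin 2) K) • u (1 : K) • v +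
    u (1 : K) • (w : SpecialLinearGroup (Fin 2) K) • v) - v := by
    abel
  rw [h4, h3, h1, zero_add, zero_sub, e1]

theorem h_add [Finite K] (hN : Nrm K V) (h2 : ∀ v : V, v + v = 0) (a b c : Kˣ) (hc : (c : K) = a + b) {v : V}
    (hv : v ∈ W K V) : h c • v = h a • v + h b • v := by
  have h1 := u_smul_w hN h2 c hv
  rw [hc, u_add, mul_smul, u_smul_w hN h2 b hv, smul_add, u_smul_w hN h2 a hv, h_smul_mem_W b hv] at h1
  rw [add_assoc] at h1
  exact (add_left_cancel h1).symm

/-! ### The vector space structure -/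

open Classical in
/-- the scalar action on `W` -/
noncomputable def sc (a : K) (v : V) : V := if ha : a = 0 then 0 else h (Units.mk0 a ha) • v

omit [CharP K 2] in
theorem sc_zero_left (v : V) : sc (0 : K) v = 0 := by simp [sc]

omit [CharP K 2] in
theorem sc_units (a : Kˣ) (v : V) : sc (a : K) v = h a • v := by
  unfold sc
  rw [dif_neg a.ne_zero]
  congr 2
  ext
  rfl

omit [CharP K 2] in
theorem sc_mem (a : K) {v : V} (hv : v ∈ W K V) : sc a v ∈ W K V := by
  by_cases ha : a = 0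
  · rw [ha, sc_zero_left]; exact (W K V).zero_mem
  · rw [show a = ((Units.mk0 a ha : Kˣ) : K) from rfl, sc_units]
    exact h_smul_mem_W _ hv

theorem sc_add_left [Finite K] (hN : Nrm K V) (h2 : ∀ v : V, v + v = 0) (a b : K) {v : V} (hv : v ∈ W K V) :
    sc (a + b) v = sc a v + sc b v := by
  by_cases ha : a = 0
  · rw [ha, zero_add, sc_zero_left, zero_add]
  by_cases hb : b = 0
  · rw [hb, add_zero, sc_zero_left, add_zero]
  by_cases hab : a + b = 0
  · have : a = b := by
      have := CharTwo.add_self_eq_zero b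
      linear_combination hab - this
    rw [hab, sc_zero_left, this, h2]
  · have h1 := h_add hN h2 (Units.mk0 a ha) (Units.mk0 b hb) (Units.mk0 _ hab) rfl hv
    rw [← sc_units, ← sc_units, ← sc_units] at h1
    exact h1

omit [CharP K 2] in
theorem sc_mul (a b : K) (v : V) : sc (a * b) v = sc a (sc b v) := by
  by_cases ha : a = 0
  · rw [ha, zero_mul, sc_zero_left, sc_zero_left]
  by_cases hb : b = 0
  · rw [hb, mul_zero, sc_zero_left]
    rw [show a = ((Units.mk0 a ha : Kˣ) : K) from rfl, sc_units, smul_zero]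
  · rw [show a * b = ((Units.mk0 a ha * Units.mk0 b hb : Kˣ) : K) from rfl, sc_units, h_mul, mul_smul,
      ← sc_units, ← sc_units]
    rfl

omit [CharP K 2] in
theorem sc_add_right (a : K) (v v' : V) : sc a (v + v') = sc a v + sc a v' := by
  by_cases ha : a = 0
  · rw [ha, sc_zero_left, sc_zero_left, sc_zero_left, add_zero]
  · rw [show a = ((Units.mk0 a ha : Kˣ) : K) from rfl, sc_units, sc_units, sc_units, smul_add]

omit [CharP K 2] in
theorem sc_zero_right (a : K) : sc a (0 : V) = 0 := by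
  by_cases ha : a = 0
  · rw [ha, sc_zero_left]
  · rw [show a = ((Units.mk0 a ha : Kˣ) : K) from rfl, sc_units, smul_zero]

omit [CharP K 2] in
theorem sc_one (v : V) : sc (1 : K) v = v := by
  rw [show (1 : K) = ((1 : Kˣ) : K) from rfl, sc_units, h_one, one_smul]

/-- `W` is a vector space -/
noncomputable abbrev modW [Finite K] (hN : Nrm K V) (h2 : ∀ v : V, v + v = 0) : Module K (W K V) where
  smul a v := ⟨sc a v, sc_mem a v.2⟩
  one_smul v := Subtype.ext (sc_one _)
  mul_smul a b v := Subtype.ext (sc_mul a b _)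
  smul_zero a := Subtype.ext (sc_zero_right a)
  smul_add a v v' := Subtype.ext (sc_add_right a _ _)
  add_smul a b v := Subtype.ext (sc_add_left hN h2 a b v.2)
  zero_smul v := Subtype.ext (sc_zero_left _)

/-- the map `K² → V` attached to an element of `W` -/
noncomputable def phi [Finite K] (hN : Nrm K V) (h2 : ∀ v : V, v + v = 0) (b : W K V) : (Fin 2 → K) →+ V where
  toFun x := sc (x 0) (b : V) + (w : SpecialLinearGroup (Fin 2) K) • sc (x 1) (b : V)
  map_zero' := by simp [sc_zero_left]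
  map_add' x y := by
    simp only [Pi.add_apply]
    rw [sc_add_left hN h2 _ _ b.2, sc_add_left hN h2 _ _ b.2, smul_add]
    abel

theorem phi_apply [Finite K] (hN : Nrm K V) (h2 : ∀ v : V, v + v = 0) (b : W K V) (x : Fin 2 → K) :
    phi hN h2 b x = sc (x 0) (b : V) + (w : SpecialLinearGroup (Fin 2) K) • sc (x 1) (b : V) := rfl

/-- the map is equivariant -/
theorem smul_phi [Finite K] (hN : Nrm K V) (h2 : ∀ v : V, v + v = 0) (b : W K V)
    (g : SpecialLinearGroup (Fin 2) K) : ∀ x : Fin 2 → K, g • phi hN h2 b x = phi hN h2 b (g.1.mulVec x) := by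
  refine bruhat (fun g => ∀ x : Fin 2 → K, g • phi hN h2 b x = phi hN h2 b (g.1.mulVec x)) ?_ ?_ ?_ ?_ g
  · intro g g' hg hg' x
    rw [mul_smul, hg' x, hg, Matrix.mulVec_mulVec]
    rfl
  · intro a x
    have e : (u a).1.mulVec x = ![x 0 + a * x 1, x 1] := by
      show (!![1, a; 0, 1]).mulVec x = _
      ext i
      fin_cases i <;> simp [Matrix.mulVec, dotProduct, Fin.sum_univ_two]
    rw [phi_apply, phi_apply, e]
    simp only [Matrix.cons_val_zero, Matrix.cons_val_one]
    rw [smul_add, sc_mem (x 0) b.2, sc_add_left hN h2 _ _ b.2, sc_mul]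
    by_cases ha : a = 0
    · rw [ha, u_zero, one_smul, sc_zero_left, add_zero]
    · have h3 := u_smul_w hN h2 (Units.mk0 a ha) (sc_mem (x 1) b.2)
      rw [← sc_units] at h3
      rw [show u a = u ((Units.mk0 a ha : Kˣ) : K) from rfl, h3]
      simp only [Units.val_mk0]
      abel
  · intro a x
    have e : (h a).1.mulVec x = ![a * x 0, ((a⁻¹ : Kˣ) : K) * x 1] := by
      show (!![(a : K), 0; 0, ((a⁻¹ : Kˣ) : K)]).mulVec x = _
      ext i
      fin_cases i <;> simp [Matrix.mulVec, dotProduct, Fin.sum_univ_two]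
    rw [phi_apply, phi_apply, e]
    simp only [Matrix.cons_val_zero, Matrix.cons_val_one]
    rw [smul_add, sc_mul, sc_mul, sc_units, sc_units, w_smul_h, inv_inv]
  · intro x
    have e : (w : SpecialLinearGroup (Fin 2) K).1.mulVec x = ![x 1, x 0] := by
      show (!![(0 : K), 1; 1, 0]).mulVec x = _
      ext i
      fin_cases i <;> simp [Matrix.mulVec, dotProduct, Fin.sum_univ_two]
    rw [phi_apply, phi_apply, e]
    simp only [Matrix.cons_val_zero, Matrix.cons_val_one]
    rw [smul_add, w_smul_w, add_comm]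

/-- the second component -/
def pr [Finite K] (hN : Nrm K V) : V →+ W K V where
  toFun v := ⟨v + u (1 : K) • v, add_mem_W hN one_ne_zero v⟩
  map_zero' := by ext; simp
  map_add' v v' := by
    ext
    simp only [smul_add, AddSubgroup.coe_add]
    abel

/-- **A finite abelian group on which `SL₂(K)` acts with a fixed-point-free element of order three is a direct
sum of natural modules.** -/
theorem main [Finite K] [Finite V] (hK : ∃ a : K, a ≠ 0 ∧ a ≠ 1) {x : SpecialLinearGroup (Fin 2) K}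
    (hx : orderOf x = 3) (hfix : ∀ v : V, x • v = v → v = 0) :
    (∀ v : V, v + v = 0) ∧
    ∃ (k : ℕ) (φ : Fin k → ((Fin 2 → K) →+ V)) (π : Fin k → (V →+ (Fin 2 → K))),
      (∀ i (g : SpecialLinearGroup (Fin 2) K) x, g • φ i x = φ i (g.1.mulVec x)) ∧ (∀ i x, π i (φ i x) = x) ∧
      (∀ i j x, i ≠ j → π i (φ j x) = 0) ∧ (∀ v, v = ∑ i, φ i (π i v)) := by
  have hN : Nrm K V := nrm_of hx hfix
  have h2 := two_eq_zero hN hK
  refine ⟨h2, ?_⟩
  let _ : Module K (W K V) := modW hN h2
  have : Module.Finite K (W K V) := Module.Finite.of_finite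
  let b := Module.finBasis K (W K V)
  have hsm : ∀ (a : K) (v : W K V), ((a • v : W K V) : V) = sc a (v : V) := fun _ _ => rfl
  have h1 : ∀ (c : W K V) (x : Fin 2 → K), pr hN (phi hN h2 c x) = x 1 • c := by
    intro c x
    ext
    show phi hN h2 c x + u (1 : K) • phi hN h2 c x = sc (x 1) (c : V)
    rw [smul_phi, phi_apply, phi_apply]
    have e : (u (1 : K)).1.mulVec x = ![x 0 + x 1, x 1] := by
      show (!![1, (1 : K); 0, 1]).mulVec x = _
      ext i
      fin_cases i <;> simp [Matrix.mulVec, dotProduct, Fin.sum_univ_two]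
    rw [e]
    simp only [Matrix.cons_val_zero, Matrix.cons_val_one]
    rw [sc_add_left hN h2 _ _ c.2]
    have e1 := h2 (sc (x 0) (c : V))
    have e2 := h2 ((w : SpecialLinearGroup (Fin 2) K) • sc (x 1) (c : V))
    calc _ = (sc (x 0) (c : V) + sc (x 0) (c : V)) + ((w : SpecialLinearGroup (Fin 2) K) • sc (x 1) (c : V) +
        (w : SpecialLinearGroup (Fin 2) K) • sc (x 1) (c : V)) + sc (x 1) (c : V) := by abel
      _ = _ := by rw [e1, e2, zero_add, zero_add]
  have h0 : ∀ (c : W K V) (x : Fin 2 → K), pr hN ((w : SpecialLinearGroup (Fin 2) K) • phi hN h2 c x) = x 0 • c := by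
    intro c x
    rw [smul_phi, h1]
    have e : (w : SpecialLinearGroup (Fin 2) K).1.mulVec x = ![x 1, x 0] := by
      show (!![(0 : K), 1; 1, 0]).mulVec x = _
      ext i
      fin_cases i <;> simp [Matrix.mulVec, dotProduct, Fin.sum_univ_two]
    rw [e]
    rfl
  let π : Fin (Module.finrank K (W K V)) → (V →+ (Fin 2 → K)) := fun i =>
    { toFun := fun v => ![b.repr (pr hN ((w : SpecialLinearGroup (Fin 2) K) • v)) i, b.repr (pr hN v) i]
      map_zero' := by
        rw [smul_zero, map_zero, map_zero]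
        ext j
        fin_cases j <;> rfl
      map_add' := by
        intro v v'
        rw [smul_add, map_add, map_add, map_add, map_add]
        ext j
        fin_cases j <;> rfl }
  have hπ : ∀ i v, π i v = ![b.repr (pr hN ((w : SpecialLinearGroup (Fin 2) K) • v)) i, b.repr (pr hN v) i] :=
    fun _ _ => rfl
  refine ⟨_, fun i => phi hN h2 (b i), π, ?_, ?_, ?_, ?_⟩
  · intro i g x
    exact smul_phi hN h2 _ g x
  · intro i x
    rw [hπ, h0, h1, map_smul, map_smul, Finsupp.smul_apply, Finsupp.smul_apply, b.repr_self,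
      Finsupp.single_eq_same]
    ext j
    fin_cases j <;> simp
  · intro i j x hij
    rw [hπ, h0, h1, map_smul, map_smul, Finsupp.smul_apply, Finsupp.smul_apply, b.repr_self,
      Finsupp.single_eq_of_ne (by first | exact hij | exact hij.symm)]
    ext j
    fin_cases j <;> simp
  · intro v
    have e1 : ∀ z : W K V, (z : V) = ∑ i, sc (b.repr z i) (b i : V) := by
      intro z
      have h3 := congrArg (W K V).subtype (b.sum_repr z)
      rw [map_sum] at h3
      exact h3.symm
    have e2 := decomp hN h2 v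
    have e3 : (w : SpecialLinearGroup (Fin 2) K) • v + u (1 : K) • (w : SpecialLinearGroup (Fin 2) K) • v =
        ((pr hN ((w : SpecialLinearGroup (Fin 2) K) • v) : W K V) : V) := rfl
    have e4 : v + u (1 : K) • v = ((pr hN v : W K V) : V) := rfl
    rw [e3, e4, e1, e1 (pr hN v), Finset.smul_sum, ← Finset.sum_add_distrib] at e2
    exact e2

end Act

end Cfsg.Agent.H274.SL2Fpf
end

-- part: S3050
section
set_option autoImplicit false
open Cfsg

namespace Cfsg.Agent.S3050

open Subgroup TwoFusion.FpfThree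
open scoped commutatorElement Pointwise

/-- `[α q, r] = α² [q, r]` -/
theorem comm_map {Q : Type*} [Group Q] [Finite Q] {α : Q →* Q} (h : Fpf3 α) (hQ : IsPGroup 2 Q) (q r : Q) :
    ⁅α q, r⁆ = α (α ⁅q, r⁆) := by
  have hc := OddCyclic.FpfThree.comm_mem_center h hQ
  have hr := OddCyclic.FpfThree.comm_mul_right h hQ
  have hl := OddCyclic.FpfThree.comm_mul_left h hQ
  have e : ∀ a : Q, ⁅a, α a⁆ = 1 := fun a => commutatorElement_eq_one_iff_mul_comm.2 (h.comm a)
  have swap : ∀ a b : Q, ⁅a, α b⁆ = ⁅α a, b⁆ := by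
    intro a b
    have h1 := e (a * b)
    rw [map_mul, hl, hr, hr, e a, e b, one_mul, mul_one] at h1
    rw [← commutatorElement_inv b (α a)]
    exact eq_inv_of_mul_eq_one_left h1
  rw [map_commutatorElement, map_commutatorElement, swap (α (α q)), h.cube, swap]

theorem sq_eq_inv {G : Type*} [Group G] {x : G} (hx : x ^ 3 = 1) : x * x = x⁻¹ := by
  rw [eq_inv_iff_mul_eq_one, ← pow_two, ← pow_succ]
  exact hx

theorem inv_sq {G : Type*} [Group G] {x : G} (hx : x ^ 3 = 1) : x⁻¹ * x⁻¹ = x := by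
  rw [← mul_inv_rev, sq_eq_inv hx, inv_inv]

section

variable {G : Type*} [Group G] [Finite G] (Q : Subgroup G) [Q.Normal] (hQ : IsPGroup 2 ↥Q)

include hQ in
theorem comm_conj {x : G} (hx : x ^ 3 = 1) (hfpf : ∀ q ∈ Q, x * q = q * x → q = 1) {q r : G} (hq : q ∈ Q)
    (hr : r ∈ Q) : ⁅x * q * x⁻¹, r⁆ = x⁻¹ * ⁅q, r⁆ * x := by
  have hxn : x ∈ normalizer (Q : Set G) := by rw [normalizer_eq_top]; trivial
  have h1 := comm_map (OddCyclic.FpfThree.fpf3 hxn hx hfpf) hQ ⟨q, hq⟩ ⟨r, hr⟩
  have h2 : ⁅x * q * x⁻¹, r⁆ = x * (x * ⁅q, r⁆ * x⁻¹) * x⁻¹ := congrArg Subtype.val h1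
  rw [h2]
  have h3 : x * x = x⁻¹ := sq_eq_inv hx
  have h4 : x⁻¹ * x⁻¹ = x := inv_sq hx
  calc x * (x * ⁅q, r⁆ * x⁻¹) * x⁻¹ = (x * x) * ⁅q, r⁆ * (x⁻¹ * x⁻¹) := by group
    _ = _ := by rw [h3, h4]

theorem conj_fpf {x : G} (hfpf : ∀ q ∈ Q, x * q = q * x → q = 1) (g : G) :
    ∀ q ∈ Q, (g * x * g⁻¹) * q = q * (g * x * g⁻¹) → q = 1 := by
  intro q hq h
  have hn : Q.Normal := inferInstance
  have h1 := hfpf (g⁻¹ * q * g) (by simpa using hn.conj_mem q hq g⁻¹) (by
    calc x * (g⁻¹ * q * g) = g⁻¹ * ((g * x * g⁻¹) * q) * g := by group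
      _ = g⁻¹ * (q * (g * x * g⁻¹)) * g := by rw [h]
      _ = g⁻¹ * q * g * x := by group)
  calc q = g * (g⁻¹ * q * g) * g⁻¹ := by group
    _ = 1 := by rw [h1]; group

include hQ in
/-- conjugates of `x` commute modulo the centralizer of `[Q, Q]` -/
theorem commutator_mem {x : G} (hx : x ^ 3 = 1) (hfpf : ∀ q ∈ Q, x * q = q * x → q = 1) (g : G) :
    x * (g * x * g⁻¹)⁻¹ * x⁻¹ * (g * x * g⁻¹) ∈ centralizer ((⁅Q, Q⁆ : Subgroup G) : Set G) := by
  have hn : Q.Normal := inferInstance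
  set y := g * x * g⁻¹ with hy
  have hy3 : y ^ 3 = 1 := by rw [hy, conj_pow, hx]; group
  have hyf : ∀ q ∈ Q, y * q = q * y → q = 1 := conj_fpf Q hfpf g
  have hyi : (y⁻¹) ^ 3 = 1 := by rw [inv_pow, hy3, inv_one]
  have hyif : ∀ q ∈ Q, y⁻¹ * q = q * y⁻¹ → q = 1 := by
    intro q hq h
    apply hyf q hq
    calc y * q = y * (q * y⁻¹) * y := by group
      _ = y * (y⁻¹ * q) * y := by rw [h]
      _ = q * y := by group
  have hz3 : (y * x * y⁻¹) ^ 3 = 1 := by rw [conj_pow, hx]; group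
  have hzf := conj_fpf Q hfpf y
  have hyy : y * y = y⁻¹ := sq_eq_inv hy3
  -- the element `y⁻¹ x y⁻¹ x⁻¹ y⁻¹` fixes all commutators
  have key : ∀ q ∈ Q, ∀ r ∈ Q, (y⁻¹ * x * y⁻¹ * x⁻¹ * y⁻¹) * ⁅q, r⁆ = ⁅q, r⁆ * (y⁻¹ * x * y⁻¹ * x⁻¹ * y⁻¹) := by
    intro q hq r hr
    have h1 := comm_conj Q hQ hz3 hzf hq hr
    have hq1 : y⁻¹ * q * y ∈ Q := by simpa using hn.conj_mem q hq y⁻¹
    have hq2 : x * (y⁻¹ * q * y) * x⁻¹ ∈ Q := hn.conj_mem _ hq1 x
    have h2 := comm_conj Q hQ hyi hyif hq hr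
    rw [inv_inv] at h2
    have h3 := comm_conj Q hQ hx hfpf hq1 hr
    have h4 := comm_conj Q hQ hy3 hyf hq2 hr
    have h5 : y * x * y⁻¹ * q * (y * x * y⁻¹)⁻¹ = y * (x * (y⁻¹ * q * y) * x⁻¹) * y⁻¹ := by group
    rw [h5, h4, h3, h2] at h1
    -- `y⁻¹ x⁻¹ y c y⁻¹ x y = z⁻¹ c z`
    have h6 : ⁅q, r⁆ = (y⁻¹ * x * y) * (y * x⁻¹ * y⁻¹ * ⁅q, r⁆ * (y * x * y⁻¹)) * (y⁻¹ * x⁻¹ * y) := by
      have h7 : (y * x * y⁻¹)⁻¹ * ⁅q, r⁆ * (y * x * y⁻¹) = y * x⁻¹ * y⁻¹ * ⁅q, r⁆ * (y * x * y⁻¹) := by group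
      rw [← h7, ← h1]
      group
    have h8 : (y⁻¹ * x * y⁻¹ * x⁻¹ * y⁻¹) = (y⁻¹ * x * y) * (y * x⁻¹ * y⁻¹) := by
      calc (y⁻¹ * x * y⁻¹ * x⁻¹ * y⁻¹) = y⁻¹ * x * (y * y) * x⁻¹ * y⁻¹ := by rw [hyy]
        _ = _ := by group
    rw [h8]
    calc (y⁻¹ * x * y) * (y * x⁻¹ * y⁻¹) * ⁅q, r⁆ =
        ((y⁻¹ * x * y) * (y * x⁻¹ * y⁻¹ * ⁅q, r⁆ * (y * x * y⁻¹)) * (y⁻¹ * x⁻¹ * y)) *
          ((y⁻¹ * x * y) * (y * x⁻¹ * y⁻¹)) := by group
      _ = _ := by rw [← h6]
  have hmem : y⁻¹ * x * y⁻¹ * x⁻¹ * y⁻¹ ∈ centralizer ((⁅Q, Q⁆ : Subgroup G) : Set G) := by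
    rw [← zpowers_le, le_centralizer_iff, commutator_le]
    intro q hq r hr
    rw [mem_centralizer_iff]
    intro z hz
    obtain ⟨n, rfl⟩ := hz
    have := key q hq r hr
    exact (Commute.zpow_left this n)
  have hN : (centralizer ((⁅Q, Q⁆ : Subgroup G) : Set G)).Normal := inferInstance
  have h9 := hN.conj_mem _ hmem y
  have h10 : y * (y⁻¹ * x * y⁻¹ * x⁻¹ * y⁻¹) * y⁻¹ = x * y⁻¹ * x⁻¹ * y := by
    have hy2 : y⁻¹ * y⁻¹ = y := inv_sq hy3
    calc y * (y⁻¹ * x * y⁻¹ * x⁻¹ * y⁻¹) * y⁻¹ = x * y⁻¹ * x⁻¹ * (y⁻¹ * y⁻¹) := by group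
      _ = _ := by rw [hy2]
  rw [h10] at h9
  exact h9

include hQ in
/-- `Q` is abelian -/
theorem commutator_eq_bot {K : Type*} [Field K] [Fintype K] [CharP K 2] (hK : 4 ≤ Fintype.card K)
    (e : G ⧸ Q ≃* Matrix.SpecialLinearGroup (Fin 2) K)
    (x : G) (hx : orderOf x = 3) (hfpf : ∀ q ∈ Q, x * q = q * x → q = 1) : ⁅Q, Q⁆ = ⊥ := by
  have hx3 : x ^ 3 = 1 := by rw [← hx]; exact pow_orderOf_eq_one x
  have hs := OddCyclic.FFBasic.isSimpleGroup_sl2 hK
  have hQn : Q.Normal := inferInstance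
  let φ : G →* Matrix.SpecialLinearGroup (Fin 2) K := e.toMonoidHom.comp (QuotientGroup.mk' Q)
  have hφs : Function.Surjective φ := e.surjective.comp (QuotientGroup.mk'_surjective Q)
  have hφk : ∀ g, φ g = 1 ↔ g ∈ Q := by
    intro g
    show e (QuotientGroup.mk' Q g) = 1 ↔ _
    rw [map_eq_one_iff e e.injective, QuotientGroup.mk'_apply, QuotientGroup.eq_one_iff]
  have hDn : (centralizer ((⁅Q, Q⁆ : Subgroup G) : Set G)).Normal := inferInstance
  have hQD : Q ≤ centralizer ((⁅Q, Q⁆ : Subgroup G) : Set G) := by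
    rw [le_centralizer_iff]
    exact OddCyclic.FpfThree.commutator_le_centralizer hQ (by rw [normalizer_eq_top]; trivial) hx3 hfpf
  have hcase := hs.eq_bot_or_eq_top_of_normal _ (hDn.map φ hφs)
  rcases hcase with h | h
  · exfalso
    -- conjugates of `φ x` commute with `φ x`
    have h1 : ∀ l : Matrix.SpecialLinearGroup (Fin 2) K, l * φ x * l⁻¹ ∈ centralizer {φ x} := by
      intro l
      obtain ⟨g, rfl⟩ := hφs l
      have h2 := commutator_mem Q hQ hx3 hfpf g
      have h3 : φ (x * (g * x * g⁻¹)⁻¹ * x⁻¹ * (g * x * g⁻¹)) = 1 := by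
        rw [← mem_bot, ← h]
        exact ⟨_, h2, rfl⟩
      rw [mem_centralizer_singleton_iff]
      simp only [map_mul, map_inv] at h3
      have h4 := mul_eq_one_iff_eq_inv.mp h3
      have h5 : φ x * (φ g * φ x * (φ g)⁻¹)⁻¹ * (φ x)⁻¹ = (φ g * φ x * (φ g)⁻¹)⁻¹ := h4
      have h6 : φ x * (φ g * φ x * (φ g)⁻¹) * (φ x)⁻¹ = (φ g * φ x * (φ g)⁻¹) := by
        have := congrArg (·⁻¹) h5
        simp only [mul_inv_rev, inv_inv] at this ⊢
        rw [← mul_assoc] at this
        exact this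
      exact (mul_inv_eq_iff_eq_mul.mp h6).symm
    have h2 : normalClosure {φ x} ≤ centralizer {φ x} := by
      rw [normalClosure, closure_le]
      intro l hl
      rw [Group.mem_conjugatesOfSet_iff] at hl
      obtain ⟨y, hy, hyl⟩ := hl
      rw [Set.mem_singleton_iff] at hy
      rw [hy, isConj_iff] at hyl
      obtain ⟨c, rfl⟩ := hyl
      exact h1 c
    have hne : φ x ≠ 1 := by
      intro h3
      rw [hφk] at h3
      have h4 := hfpf x h3 rfl
      rw [h4, orderOf_one] at hx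
      omega
    have h3 : normalClosure {φ x} = ⊤ := by
      rcases hs.eq_bot_or_eq_top_of_normal (normalClosure {φ x}) inferInstance with h4 | h4
      · exact absurd (by
          have : φ x ∈ normalClosure {φ x} := subset_normalClosure rfl
          rw [h4, mem_bot] at this
          exact this) hne
      · exact h4
    rw [h3, top_le_iff] at h2
    apply hne
    rw [← mem_bot, ← OddCyclic.FFBasic.center_sl2 (F := K), mem_center_iff]
    intro g
    have : g ∈ centralizer {φ x} := by rw [h2]; trivial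
    exact mem_centralizer_singleton_iff.mp this
  · have h1 : x ∈ centralizer ((⁅Q, Q⁆ : Subgroup G) : Set G) := by
      have h2 : φ x ∈ (centralizer ((⁅Q, Q⁆ : Subgroup G) : Set G)).map φ := by rw [h]; trivial
      obtain ⟨y, hy, hyx⟩ := h2
      have h3 : y⁻¹ * x ∈ Q := by
        rw [← hφk, map_mul, map_inv, hyx, inv_mul_cancel]
      have h4 : x = y * (y⁻¹ * x) := by group
      rw [h4]
      exact mul_mem hy (hQD h3)
    rw [eq_bot_iff]
    intro c hc
    rw [mem_centralizer_iff] at h1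
    exact hfpf c (commutator_le_left Q Q hc) (h1 c hc).symm

end

/-- Let G be a finite group with a normal 2-subgroup Q such that G/Q is isomorphic to SL(2, 2ⁿ) with n ≥ 2, and suppose some element of G of order 3 fixes no nonidentity element of Q under conjugation. Then Q is elementary abelian and is the direct product of normal subgroups of G on each of which G acts as SL(2, 2ⁿ) acts on its natural two-dimensional module (a Galois twist of the natural action allowed). -/
theorem result {G : Type*} [Group G] [Finite G]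
    (Q : Subgroup G) [Q.Normal] (hQ : IsPGroup 2 ↥Q) (n : ℕ) (hn : 2 ≤ n)
    (K : Type*) [Field K] [Fintype K] (hK : Fintype.card K = 2 ^ n)
    (e : G ⧸ Q ≃* Matrix.SpecialLinearGroup (Fin 2) K)
    (x : G) (hx : orderOf x = 3) (hfpf : ∀ q ∈ Q, x * q * x⁻¹ = q → q = 1) :
    Cfsg.IsElementaryAbelian 2 Q ∧
      ∃ (k : ℕ) (V : Fin k → Subgroup G), (∀ i, V i ≤ Q ∧ (V i).Normal ∧
        Cfsg.ActsAsSL2OnSection K ⊤ ⊤ (V i) ⊥) ∧ iSupIndep V ∧ ⨆ i, V i = Q := by
  have hQn : Q.Normal := inferInstance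
  have hchar : CharP K 2 := by
    obtain ⟨p, hp⟩ := CharP.exists K
    have hpp : p.Prime := (CharP.char_is_prime_or_zero K p).resolve_right (CharP.char_ne_zero_of_finite K p)
    have := Fact.mk hpp
    obtain ⟨m, hpm, hm⟩ := FiniteField.card K p
    have h1 : p ∣ 2 ^ n := by
      rw [← hK, hm]
      exact dvd_pow_self p m.ne_zero
    have h2 := (Nat.prime_dvd_prime_iff_eq hpp Nat.prime_two).mp (hpp.dvd_of_dvd_pow h1)
    rw [← h2]
    exact hp
  have hK4 : 4 ≤ Fintype.card K := by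
    rw [hK]
    calc 4 = 2 ^ 2 := by norm_num
      _ ≤ 2 ^ n := Nat.pow_le_pow_right (by norm_num) hn
  have hfpf' : ∀ q ∈ Q, x * q = q * x → q = 1 := fun q hq h => hfpf q hq (by rw [h]; group)
  have hbot := commutator_eq_bot Q hQ hK4 e x hx hfpf'
  have hcomm : ∀ a ∈ Q, ∀ b ∈ Q, a * b = b * a := by
    intro a ha b hb
    have : ⁅a, b⁆ ∈ ⁅Q, Q⁆ := commutator_mem_commutator ha hb
    rw [hbot, mem_bot, commutatorElement_eq_one_iff_mul_comm] at this
    exact this
  let φ : G →* Matrix.SpecialLinearGroup (Fin 2) K := e.toMonoidHom.comp (QuotientGroup.mk' Q)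
  have hφs : Function.Surjective φ := e.surjective.comp (QuotientGroup.mk'_surjective Q)
  have hφk : ∀ g, φ g = 1 ↔ g ∈ Q := by
    intro g
    show e (QuotientGroup.mk' Q g) = 1 ↔ _
    rw [map_eq_one_iff e e.injective, QuotientGroup.mk'_apply, QuotientGroup.eq_one_iff]
  -- the action of `SL₂(K)` on `Q`
  let _ : CommGroup ↥Q := { (inferInstance : Group ↥Q) with
    mul_comm := fun a b => Subtype.ext (hcomm a a.2 b b.2) }
  have hker : ∀ g ∈ Q, (MulAut.conjNormal g : MulAut ↥Q) = 1 := by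
    intro g hg
    ext q
    rw [MulAut.conjNormal_apply, MulAut.one_apply, hcomm g hg q q.2]
    group
  let ρ₀ : G ⧸ Q →* MulAut ↥Q := QuotientGroup.lift Q MulAut.conjNormal hker
  let ρ : Matrix.SpecialLinearGroup (Fin 2) K →* MulAut ↥Q := ρ₀.comp e.symm.toMonoidHom
  have hρ : ∀ (g : G) (q : ↥Q), ((ρ (φ g) q : ↥Q) : G) = g * q * g⁻¹ := by
    intro g q
    show ((ρ₀ (e.symm (e (QuotientGroup.mk' Q g))) q : ↥Q) : G) = _
    rw [e.symm_apply_apply]
    show (((MulAut.conjNormal g : MulAut ↥Q) q : ↥Q) : G) = _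
    rw [MulAut.conjNormal_apply]
  let _ : DistribMulAction (Matrix.SpecialLinearGroup (Fin 2) K) (Additive ↥Q) :=
    { smul := fun l v => Additive.ofMul (ρ l v.toMul)
      one_smul := by
        intro v
        show Additive.ofMul (ρ 1 v.toMul) = v
        rw [map_one]; rfl
      mul_smul := by
        intro l l' v
        show Additive.ofMul (ρ (l * l') v.toMul) = Additive.ofMul (ρ l (ρ l' v.toMul))
        rw [map_mul]; rfl
      smul_zero := by
        intro l
        show Additive.ofMul (ρ l 1) = 0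
        rw [map_one]; rfl
      smul_add := by
        intro l v v'
        show Additive.ofMul (ρ l (v.toMul * v'.toMul)) = _
        rw [map_mul]; rfl }
  have hsm : ∀ (g : G) (v : Additive ↥Q), (((φ g • v : Additive ↥Q).toMul : ↥Q) : G) = g * (v.toMul : ↥Q) * g⁻¹ :=
    fun g v => hρ g v.toMul
  have hex : ∃ a : K, a ≠ 0 ∧ a ≠ 1 := by
    classical
    by_contra hcon
    push Not at hcon
    have h1 : (Finset.univ : Finset K) ⊆ {0, 1} := by
      intro a _
      by_cases h0 : a = 0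
      · simp [h0]
      · simp [hcon a h0]
    have h2 := Finset.card_le_card h1
    rw [Finset.card_univ] at h2
    have h3 : ({0, 1} : Finset K).card ≤ 2 := Finset.card_le_two
    omega
  have hx3 : x ^ 3 = 1 := by rw [← hx]; exact pow_orderOf_eq_one x
  have hord : orderOf (φ x) = 3 := by
    have : Fact (Nat.Prime 3) := ⟨Nat.prime_three⟩
    apply orderOf_eq_prime
    · rw [← map_pow, hx3, map_one]
    · intro h3
      rw [hφk] at h3
      have h4 := hfpf' x h3 rfl
      rw [h4, orderOf_one] at hx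
      omega
  obtain ⟨h2, k, f, π, hf, hπ, hπ0, hsum⟩ := H274.SL2Fpf.main (K := K) (V := Additive ↥Q) hex hord (by
    intro v hv
    have h1 := hsm x v
    rw [hv] at h1
    have h2 := hfpf _ v.toMul.2 h1.symm
    exact Subtype.ext h2)
  let F : Fin k → (Multiplicative (Fin 2 → K) →* ↥Q) := fun i => (f i).toMultiplicativeLeft
  let P : Fin k → (↥Q →* Multiplicative (Fin 2 → K)) := fun i => (π i).toMultiplicativeRight
  have hPF : ∀ i v, P i (F i v) = v := fun i v => hπ i v
  have hPF0 : ∀ i j v, i ≠ j → P i (F j v) = 1 := fun i j v h => hπ0 i j v h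
  have hFe : ∀ i (g : G) (v : Multiplicative (Fin 2 → K)),
      g * (F i v : G) * g⁻¹ = (F i (Multiplicative.ofAdd ((φ g).1.mulVec (Multiplicative.toAdd v))) : G) := by
    intro i g v
    have h1 := hsm g (f i (Multiplicative.toAdd v))
    rw [hf] at h1
    exact h1.symm
  let V : Fin k → Subgroup G := fun i => (Q.subtype.comp (F i)).range
  have hV : ∀ i g, g ∈ V i ↔ ∃ v, (F i v : G) = g := fun i g => Iff.rfl
  have hVQ : ∀ i, V i ≤ Q := by
    rintro i _ ⟨v, rfl⟩
    exact (F i v).2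
  have hVn : ∀ i, (V i).Normal := by
    intro i
    refine ⟨?_⟩
    rintro _ ⟨v, rfl⟩ g
    exact ⟨_, (hFe i g v).symm⟩
  refine ⟨⟨⟨⟨mul_comm⟩⟩, ?_⟩, k, V, ?_, ?_, ?_⟩
  · intro a ha
    have h3 := h2 (Additive.ofMul ⟨a, ha⟩)
    have h4 : (⟨a, ha⟩ : ↥Q) * ⟨a, ha⟩ = 1 := h3
    rw [pow_two]
    exact congrArg Subtype.val h4
  · intro i
    refine ⟨hVQ i, hVn i, ?_, bot_le, ?_⟩
    · have := hVn i
      rw [normalizer_eq_top]
    · refine ⟨φ.comp (Subgroup.subtype ⊤), (P i).comp (Subgroup.inclusion (hVQ i)), ?_, ?_, ?_, ?_⟩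
      · rw [eq_top_iff]
        intro l _
        obtain ⟨g, hg⟩ := hφs l
        exact ⟨⟨g, mem_top g⟩, hg⟩
      · intro v
        exact ⟨⟨(F i v : G), v, rfl⟩, hPF i v⟩
      · rintro ⟨u, v, rfl⟩
        have h3 : ((P i).comp (Subgroup.inclusion (hVQ i))) ⟨(Q.subtype.comp (F i)) v, v, rfl⟩ = v := hPF i v
        rw [h3, mem_bot]
        constructor
        · rintro rfl
          exact map_one (Q.subtype.comp (F i))
        · intro h4
          have h5 : F i v = 1 := Subtype.ext h4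
          rw [← hPF i v, h5, map_one]
      · rintro g ⟨u, v, rfl⟩
        refine ⟨⟨(g : G) * (F i v : G) * (g : G)⁻¹, (hVn i).conj_mem _ ⟨v, rfl⟩ g⟩, rfl, ?_⟩
        have h3 : ((P i).comp (Subgroup.inclusion (hVQ i))) ⟨(Q.subtype.comp (F i)) v, v, rfl⟩ = v := hPF i v
        rw [h3]
        have h4 : (Subgroup.inclusion (hVQ i)) ⟨(g : G) * (F i v : G) * (g : G)⁻¹, (hVn i).conj_mem _ ⟨v, rfl⟩ g⟩ =
            F i (Multiplicative.ofAdd ((φ g).1.mulVec (Multiplicative.toAdd v))) := Subtype.ext (hFe i g v)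
        rw [MonoidHom.comp_apply, h4, hPF]
        rfl
  · intro i
    rw [Subgroup.disjoint_def]
    rintro _ ⟨v, rfl⟩ h3
    have h4 : ⨆ j, ⨆ (_ : j ≠ i), V j ≤ ((P i).ker).map Q.subtype := by
      refine iSup_le fun j => iSup_le fun hj => ?_
      rintro _ ⟨v, rfl⟩
      exact ⟨F j v, hPF0 i j v hj.symm, rfl⟩
    obtain ⟨q, hq, hqv⟩ := h4 h3
    have h5 : q = F i v := Subtype.ext hqv
    rw [h5] at hq
    have h6 : P i (F i v) = 1 := hq
    rw [hPF] at h6
    rw [h6, map_one]
  · apply le_antisymm (iSup_le hVQ)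
    intro q hq
    have h3 := hsum (Additive.ofMul ⟨q, hq⟩)
    have h4 : Additive.ofMul (⟨q, hq⟩ : ↥Q) ∈ Subgroup.toAddSubgroup ((⨆ i, V i).subgroupOf Q) := by
      rw [h3]
      refine AddSubgroup.sum_mem _ fun i _ => ?_
      show ((F i (P i ⟨q, hq⟩) : ↥Q) : G) ∈ ⨆ i, V i
      exact (le_iSup V i) ⟨_, rfl⟩
    exact h4

end Cfsg.Agent.S3050
end
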