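import Mathlib
import Cfsg.Agent.Transfer.FusionCases
import Cfsg.Prelude.Def_Local
import Cfsg.Prelude.Def_Transfer
import Cfsg.Prelude.Def_SylowChains
import Cfsg.Agent.Lib.Cores
import Cfsg.Agent.H278.Automizer
import Cfsg.Agent.H278.LocalCtrl
import Cfsg.Agent.H275.StrongEmb
import Cfsg.Agent.SignalizersComponents.PLayerAut
import Cfsg.Agent.Transfer.Residual
import Mathlib.GroupTheory.Sylow
set_option linter.all false

-- part: H278/GoodFusion
section
/-!
# Reduction of statements on conjugation maps to fully normalized subgroups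

`good_of_fullyNormalized`: a property of the maps `h ↦ g h g⁻¹`, `H → P`, which is compatible with restriction,
composition and inverses holds for all of them once it holds for the elements of `N_G(H)`, `H` fully normalized.
-/

set_option autoImplicit false

namespace Cfsg.Agent.H278.GoodFusion

open Subgroup
open Cfsg.Agent.Transfer.FusionBasic

variable {G : Type*} [Group G]

theorem good_of_fullyNormalized [Finite G] {p : ℕ} [Fact p.Prime] (P : Sylow p G)
    (Good : Subgroup G → G → Prop)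
    (hmono : ∀ (H H' : Subgroup G) (g : G), Good H g → H' ≤ H → Good H' g)
    (hcomp : ∀ (H K : Subgroup G) (g g' : G), Good H g → (∀ x ∈ H, g * x * g⁻¹ ∈ K) → Good K g' →
      Good H (g' * g))
    (hinv : ∀ (H K : Subgroup G) (g : G), Good H g → (∀ x ∈ K, g⁻¹ * x * g ∈ H) → Good K g⁻¹)
    (htop : ∀ g ∈ normalizer ((P : Subgroup G) : Set G), Good (P : Subgroup G) g)
    (h : ∀ H : Subgroup G, H < (P : Subgroup G) →
      SylIn p ((P : Subgroup G) ⊓ normalizer (H : Set G)) (normalizer (H : Set G)) →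
      (∀ H' : Subgroup G, H' ≤ (P : Subgroup G) → Nat.card H < Nat.card H' → ∀ g : G,
        (∀ x ∈ H', g * x * g⁻¹ ∈ (P : Subgroup G)) → Good H' g) →
      ∀ n ∈ normalizer (H : Set G), Good H n) :
    ∀ (H : Subgroup G) (g : G), H ≤ (P : Subgroup G) →
      (∀ h ∈ H, g * h * g⁻¹ ∈ (P : Subgroup G)) → Good H g := by
  have main : ∀ k : ℕ, ∀ H : Subgroup G, H ≤ (P : Subgroup G) →
      Nat.card (P : Subgroup G) - Nat.card H = k → ∀ g : G,
      (∀ x ∈ H, g * x * g⁻¹ ∈ (P : Subgroup G)) → Good H g := by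
    intro k
    induction k using Nat.strong_induction_on with
    | _ k ih =>
    intro H hHP hk g hg
    rcases eq_or_lt_of_le hHP with heq | hlt
    · -- `H = P`
      subst heq
      exact htop g (mem_normalizer_of_conj_mem hg)
    · -- inner induction hypothesis
      have hcHP : Nat.card H < Nat.card (P : Subgroup G) :=
        Cfsg.Agent.PLocal.ConjFunctor.card_lt_card_of_lt hlt
      have IH : ∀ H' : Subgroup G, H' ≤ (P : Subgroup G) → Nat.card H < Nat.card H' → ∀ g : G,
          (∀ x ∈ H', g * x * g⁻¹ ∈ (P : Subgroup G)) → Good H' g := by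
        intro H' hH' hc g hg
        have h1 := Subgroup.card_le_of_le hH'
        exact ih (Nat.card (P : Subgroup G) - Nat.card H') (by omega) H' hH' rfl g hg
      have hHp : IsPGroup p H := P.isPGroup'.to_le hHP
      -- a fully normalized conjugate
      obtain ⟨R, hHR, hR⟩ := exists_sylIn_ge hHp (le_normalizer (H := H))
      obtain ⟨y, -, hy⟩ := (sylIn_top P).conj_le (R := R) le_top hR.isPGroup
      obtain ⟨Hs, hHs⟩ : ∃ Hs : Subgroup G, Hs = H.map (MulAut.conj y).toMonoidHom := ⟨_, rfl⟩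
      have hHsP : Hs ≤ (P : Subgroup G) := by
        rw [hHs, map_conj_le_iff]; exact fun a ha => hy a (hHR ha)
      have hcHs : Nat.card Hs = Nat.card H := by rw [hHs, card_map_conj]
      have hRs : SylIn p (R.map (MulAut.conj y).toMonoidHom) (normalizer (Hs : Set G)) := by
        rw [hHs, normalizer_map_conj]; exact hR.map_conj y
      have hT : SylIn p ((P : Subgroup G) ⊓ normalizer (Hs : Set G)) (normalizer (Hs : Set G)) := by
        have h1 := hRs.2.2 ((P : Subgroup G) ⊓ normalizer (Hs : Set G))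
          (le_inf (map_conj_le_iff.mpr hy) hRs.le) inf_le_right (P.isPGroup'.to_le inf_le_left)
        rw [h1]; exact hRs
      have hHslt : Hs < (P : Subgroup G) := by
        refine lt_of_le_of_ne hHsP ?_
        rintro rfl
        omega
      have key : ∀ n ∈ normalizer (Hs : Set G), Good Hs n :=
        h Hs hHslt hT (by rw [hcHs]; exact IH)
      -- every map from `Hs` into `P` is good
      have claim : ∀ x : G, (∀ a ∈ Hs, x * a * x⁻¹ ∈ (P : Subgroup G)) → Good Hs x := by
        intro x hx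
        obtain ⟨H1, hH1⟩ : ∃ H1 : Subgroup G, H1 = Hs.map (MulAut.conj x).toMonoidHom := ⟨_, rfl⟩
        have hH1P : H1 ≤ (P : Subgroup G) := by rw [hH1, map_conj_le_iff]; exact hx
        have hcH1 : Nat.card H1 = Nat.card H := by rw [hH1, card_map_conj, hcHs]
        have hH1lt : H1 < (P : Subgroup G) := by
          refine lt_of_le_of_ne hH1P ?_
          rintro rfl
          omega
        have hlt2 := Cfsg.Agent.PLocal.ConjFunctor.lt_inf_normalizer P.isPGroup' hH1lt
        have hclt2 := Cfsg.Agent.PLocal.ConjFunctor.card_lt_card_of_lt hlt2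
        -- move `N_P(H1)` into `N_P(Hs)`
        have h2 : ((P : Subgroup G) ⊓ normalizer (H1 : Set G)).map (MulAut.conj x⁻¹).toMonoidHom ≤
            normalizer (Hs : Set G) := by
          have h3 : H1.map (MulAut.conj x⁻¹).toMonoidHom = Hs := by
            rw [hH1, map_conj_inv_map_conj]
          rw [← h3, normalizer_map_conj]
          exact map_mono inf_le_right
        obtain ⟨t, ht, htx⟩ := hT.conj_le h2 ((P.isPGroup'.to_le inf_le_left).map _)
        have h4 : ∀ a ∈ (P : Subgroup G) ⊓ normalizer (H1 : Set G),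
            (t * x⁻¹) * a * (t * x⁻¹)⁻¹ ∈ (P : Subgroup G) ⊓ normalizer (Hs : Set G) := by
          intro a ha
          have h5 := htx (x⁻¹ * a * (x⁻¹)⁻¹) ⟨a, ha, rfl⟩
          have e : t * (x⁻¹ * a * (x⁻¹)⁻¹) * t⁻¹ = (t * x⁻¹) * a * (t * x⁻¹)⁻¹ := by group
          rwa [e] at h5
        have h5 : Good ((P : Subgroup G) ⊓ normalizer (H1 : Set G)) (t * x⁻¹) :=
          IH _ inf_le_left (by omega) _ (fun a ha => (h4 a ha).1)
        have h6 : Good H1 (t * x⁻¹) := hmono _ _ _ h5 (le_inf hH1P le_normalizer)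
        have h7 : Good Hs (t * x⁻¹)⁻¹ := by
          apply hinv _ _ _ h6
          intro a ha
          rw [hH1, mem_map_conj_iff]
          have e : x⁻¹ * ((t * x⁻¹)⁻¹ * a * (t * x⁻¹)) * x = t⁻¹ * a * t := by group
          rw [e]
          have := ((Subgroup.mem_normalizer_iff.mp (inv_mem ht)) a).mp ha
          rwa [inv_inv] at this
        have h8 : Good Hs ((t * x⁻¹)⁻¹ * t) := hcomp _ _ _ _ (key t ht)
          (fun a ha => ((Subgroup.mem_normalizer_iff.mp ht) a).mp ha) h7
        have e : (t * x⁻¹)⁻¹ * t = x := by group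
        rwa [e] at h8
      -- conclusion
      have c1 : Good Hs y⁻¹ := claim y⁻¹ (fun a ha => by
        rw [hHs, mem_map_conj_iff] at ha
        rw [inv_inv]
        exact hHP ha)
      have c2 : Good Hs (g * y⁻¹) := claim (g * y⁻¹) (fun a ha => by
        rw [hHs, mem_map_conj_iff] at ha
        have := hg _ ha
        have e : g * y⁻¹ * a * (g * y⁻¹)⁻¹ = g * (y⁻¹ * a * y) * g⁻¹ := by group
        rwa [e])
      have c3 : Good H (y⁻¹)⁻¹ := hinv _ _ _ c1 (fun a ha => by
        rw [hHs]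
        exact ⟨a, ha, by simp⟩)
      have c4 : Good H ((g * y⁻¹) * (y⁻¹)⁻¹) := hcomp _ Hs _ _ c3 (fun a ha => by
        rw [hHs]
        exact ⟨a, ha, by simp⟩) c2
      have e : (g * y⁻¹) * (y⁻¹)⁻¹ = g := by group
      rwa [e] at c4
  exact fun H g hH hg => main _ H hH rfl g hg

end Cfsg.Agent.H278.GoodFusion
end

-- part: H278/EssLocal
section
/-!
# The local step of the strong form of the Alperin–Goldschmidt fusion theorem
-/

set_option autoImplicit false

namespace Cfsg.Agent.H278.EssLocal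

open Subgroup Cfsg
open Cfsg.Agent.Transfer.FusionBasic
open Cfsg.Agent.Transfer
open Cfsg.Agent.H278.Automizer

variable {G : Type*} [Group G]

/-- The image in `G` of `O_{p'}(N)`. -/
def coreOf (p : ℕ) (N : Subgroup G) : Subgroup G := (pPrimeCore p N).map N.subtype

/-- The image in `G` of `O_{p',p}(N)`. -/
def ppOf (p : ℕ) (N : Subgroup G) : Subgroup G := (pPrimePCore p N).map N.subtype

theorem coreOf_def (p : ℕ) (N : Subgroup G) : coreOf p N = (pPrimeCore p N).map N.subtype := rfl

theorem ppOf_def (p : ℕ) (N : Subgroup G) : ppOf p N = (pPrimePCore p N).map N.subtype := rfl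

theorem coreOf_le (p : ℕ) (N : Subgroup G) : coreOf p N ≤ N := map_subtype_le _

theorem ppOf_le (p : ℕ) (N : Subgroup G) : ppOf p N ≤ N := map_subtype_le _

theorem le_normalizer_map_subtype (N : Subgroup G) (L : Subgroup N) [hL : L.Normal] :
    N ≤ normalizer ((L.map N.subtype : Subgroup G) : Set G) := by
  have h1 : (L.map N.subtype).subgroupOf N = L :=
    Subgroup.comap_map_eq_self_of_injective N.subtype_injective _
  have h2 : ((L.map N.subtype).subgroupOf N).Normal := by rw [h1]; exact hL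
  exact (normal_subgroupOf_iff_le_normalizer (map_subtype_le _)).mp h2

theorem le_normalizer_coreOf (p : ℕ) (N : Subgroup G) : N ≤ normalizer (coreOf p N : Set G) := by
  have := Cfsg.Agent.Lib.Cores.pPrimeCore_normal (G := N) p
  exact le_normalizer_map_subtype N _

theorem pPrimePCore_normal (p : ℕ) (H : Type*) [Group H] : (pPrimePCore p H).Normal := by
  have : (pCore p (H ⧸ pPrimeCore p H)).Normal := Cfsg.Agent.Lib.Cores.pCore_normal p
  exact this.comap _

theorem le_normalizer_ppOf (p : ℕ) (N : Subgroup G) : N ≤ normalizer (ppOf p N : Set G) := by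
  have := pPrimePCore_normal p N
  exact le_normalizer_map_subtype N _

theorem coreOf_coprime [Finite G] (p : ℕ) (N : Subgroup G) : (Nat.card (coreOf p N)).Coprime p := by
  rw [coreOf_def, Subgroup.card_map_of_injective N.subtype_injective]
  exact Cfsg.Agent.Lib.Cores.pPrimeCore_coprime p

theorem coreOf_le_ppOf (p : ℕ) (N : Subgroup G) : coreOf p N ≤ ppOf p N := by
  apply map_mono
  intro x hx
  have h1 : (QuotientGroup.mk' (pPrimeCore p N)) x = 1 := (QuotientGroup.eq_one_iff x).mpr hx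
  change (QuotientGroup.mk' (pPrimeCore p N)) x ∈ pCore p (N ⧸ pPrimeCore p N)
  rw [h1]
  exact one_mem _

theorem le_coreOf [Finite G] {p : ℕ} {N Y : Subgroup G} (hYN : Y ≤ N)
    (hN : N ≤ normalizer (Y : Set G)) (hY : (Nat.card Y).Coprime p) : Y ≤ coreOf p N := by
  have h1 : (Y.subgroupOf N).Normal := (normal_subgroupOf_iff_le_normalizer hYN).mpr hN
  have h2 : Y.subgroupOf N ≤ pPrimeCore p N := by
    refine Cfsg.Agent.Lib.Cores.le_pPrimeCore h1 ?_
    rwa [Nat.card_congr (Subgroup.subgroupOfEquivOfLe hYN).toEquiv]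
  have h3 := map_mono (f := N.subtype) h2
  rwa [subgroupOf_map_subtype, inf_eq_left.mpr hYN] at h3

theorem le_ppOf [Finite G] {p : ℕ} {N Y : Subgroup G} (hYN : Y ≤ N)
    (hN : N ≤ normalizer (Y : Set G)) (hY : IsPGroup p Y) : Y ≤ ppOf p N := by
  have h1 : (Y.subgroupOf N).Normal := (normal_subgroupOf_iff_le_normalizer hYN).mpr hN
  have hp : IsPGroup p (Y.subgroupOf N) := hY.comap_of_injective _ N.subtype_injective
  have h2 : (Y.subgroupOf N).map (QuotientGroup.mk' (pPrimeCore p N)) ≤
      pCore p (N ⧸ pPrimeCore p N) :=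
    Cfsg.Agent.Lib.Cores.le_pCore (h1.map _ (QuotientGroup.mk'_surjective _)) (hp.map _)
  have h3 : Y.subgroupOf N ≤ pPrimePCore p N := by
    rw [Subgroup.map_le_iff_le_comap] at h2
    exact h2
  have h4 := map_mono (f := N.subtype) h3
  rwa [subgroupOf_map_subtype, inf_eq_left.mpr hYN] at h4

theorem exists_pow_mem_coreOf [Finite G] {p : ℕ} (N : Subgroup G) {x : G}
    (hx : x ∈ ppOf p N) : ∃ k : ℕ, x ^ p ^ k ∈ coreOf p N := by
  obtain ⟨y, hy, rfl⟩ := hx
  have h1 : (QuotientGroup.mk' (pPrimeCore p N)) y ∈ pCore p (N ⧸ pPrimeCore p N) := hy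
  obtain ⟨k, hk⟩ := Cfsg.Agent.Lib.Cores.pCore_isPGroup (G := N ⧸ pPrimeCore p N) p ⟨_, h1⟩
  refine ⟨k, y ^ p ^ k, ?_, by simp⟩
  have h2 := congrArg Subtype.val hk
  have h3 : (QuotientGroup.mk' (pPrimeCore p N)) (y ^ p ^ k) = 1 := by
    rw [map_pow]; simpa using h2
  exact (QuotientGroup.eq_one_iff _).mp h3

/-- The conditions on the subgroups `F` and `X` in the theorem. -/
structure EssData (p : ℕ) (P F X : Subgroup G) : Prop where
  le : F ≤ P
  syl : ¬ p ∣ (P ⊓ normalizer (F : Set G)).relIndex (normalizer (F : Set G))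
  cent : P ⊓ centralizer (F : Set G) ≤ F
  rad : (pPrimePCore p ↥(normalizer (F : Set G))).map (normalizer (F : Set G)).subtype =
    F ⊔ centralizer (F : Set G)
  disc : ¬ IsSylowChainConnected p
    (↥(normalizer (F : Set G)) ⧸ F.subgroupOf (normalizer (F : Set G)))
  leX : F ≤ X
  Xle : X ≤ normalizer (F : Set G)
  normX : (X.subgroupOf (normalizer (F : Set G))).Normal
  dvdX : p ∣ F.relIndex X
  minX : ∀ Y : Subgroup G, F ≤ Y → Y ≤ normalizer (F : Set G) →
    (Y.subgroupOf (normalizer (F : Set G))).Normal → p ∣ F.relIndex Y → X ≤ Y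

theorem card_map_mk_subgroupOf [Finite G] {F N Y : Subgroup G} [(F.subgroupOf N).Normal]
    (hYN : Y ≤ N) : Nat.card ((Y.subgroupOf N).map (QuotientGroup.mk' (F.subgroupOf N))) =
      F.relIndex Y := by
  rw [← Subgroup.relIndex_ker, QuotientGroup.ker_mk', Subgroup.relIndex_subgroupOf hYN]

/-- The smallest normal subgroup `X / F` of order divisible by `p`. -/
theorem exists_minX [Finite G] {p : ℕ} [Fact p.Prime] {F : Subgroup G}
    (hdisc : ¬ IsSylowChainConnected p
      (↥(normalizer (F : Set G)) ⧸ F.subgroupOf (normalizer (F : Set G))))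
    (hdvd : p ∣ F.relIndex (normalizer (F : Set G))) :
    ∃ X : Subgroup G, F ≤ X ∧ X ≤ normalizer (F : Set G) ∧
      (X.subgroupOf (normalizer (F : Set G))).Normal ∧ p ∣ F.relIndex X ∧
      ∀ Y : Subgroup G, F ≤ Y → Y ≤ normalizer (F : Set G) →
        (Y.subgroupOf (normalizer (F : Set G))).Normal → p ∣ F.relIndex Y → X ≤ Y := by
  obtain ⟨N, hN⟩ : ∃ N : Subgroup G, N = normalizer (F : Set G) := ⟨_, rfl⟩
  have hFN : F ≤ N := by rw [hN]; exact le_normalizer
  let 𝒴 : Set (Subgroup G) := {Y | F ≤ Y ∧ Y ≤ normalizer (F : Set G) ∧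
    (Y.subgroupOf (normalizer (F : Set G))).Normal ∧ p ∣ F.relIndex Y}
  have hne : (normalizer (F : Set G)) ∈ 𝒴 := by
    refine ⟨le_normalizer, le_rfl, ?_, hdvd⟩
    rw [subgroupOf_self]; infer_instance
  obtain ⟨X, hX⟩ := Set.Finite.exists_minimal (Set.toFinite 𝒴) ⟨_, hne⟩
  obtain ⟨⟨h1, h2, h3, h4⟩, hmin⟩ := hX
  refine ⟨X, h1, h2, h3, h4, fun Y h5 h6 h7 h8 => ?_⟩
  have h9 : X ⊓ Y ∈ 𝒴 := by
    refine ⟨le_inf h1 h5, inf_le_left.trans h2, ?_, ?_⟩
    · have : (X ⊓ Y).subgroupOf (normalizer (F : Set G)) =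
        X.subgroupOf (normalizer (F : Set G)) ⊓ Y.subgroupOf (normalizer (F : Set G)) := rfl
      rw [this]; infer_instance
    · obtain ⟨H, h⟩ := Cfsg.Agent.H275.SylowChain.not_chainConnected_iff.1 hdisc
      have h3' := h3.map (QuotientGroup.mk' (F.subgroupOf (normalizer (F : Set G))))
        (QuotientGroup.mk'_surjective _)
      have h7' := h7.map (QuotientGroup.mk' (F.subgroupOf (normalizer (F : Set G))))
        (QuotientGroup.mk'_surjective _)
      have h10 := Cfsg.Agent.H275.StrongEmb.dvd_card_inf h _ _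
        (by rw [card_map_mk_subgroupOf h2]; exact h4) (by rw [card_map_mk_subgroupOf h6]; exact h8)
      have h11 : ((X ⊓ Y).subgroupOf (normalizer (F : Set G))).map
          (QuotientGroup.mk' (F.subgroupOf (normalizer (F : Set G)))) =
          (X.subgroupOf (normalizer (F : Set G))).map
            (QuotientGroup.mk' (F.subgroupOf (normalizer (F : Set G)))) ⊓
          (Y.subgroupOf (normalizer (F : Set G))).map
            (QuotientGroup.mk' (F.subgroupOf (normalizer (F : Set G)))) := by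
        apply le_antisymm
        · exact le_inf (map_mono fun x hx => hx.1) (map_mono fun x hx => hx.2)
        · rintro _ ⟨⟨x, hx, rfl⟩, ⟨y, hy, hxy⟩⟩
          refine ⟨x, ⟨hx, ?_⟩, rfl⟩
          have h12 : y⁻¹ * x ∈ F.subgroupOf (normalizer (F : Set G)) := QuotientGroup.eq.mp hxy
          have h13 : y⁻¹ * x ∈ Y.subgroupOf (normalizer (F : Set G)) := h5 h12
          have := mul_mem (show y ∈ Y.subgroupOf (normalizer (F : Set G)) from hy) h13
          rwa [mul_inv_cancel_left] at this
      rw [← h11, card_map_mk_subgroupOf (inf_le_left.trans h2)] at h10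
      exact h10
  exact (hmin h9 inf_le_left).trans inf_le_right

theorem le_relIndex_of_dvd [Finite G] {p : ℕ} [Fact p.Prime] {P F N : Subgroup G} (hP : IsPGroup p P)
    (hlt : F < P) (hPN : P ≤ N) : p ∣ F.relIndex N := by
  have h1 : F.relIndex P ∣ F.relIndex N := by
    rw [← Subgroup.relIndex_mul_relIndex F P N hlt.le hPN]
    exact dvd_mul_right _ _
  refine dvd_trans ?_ h1
  obtain ⟨k, hk⟩ := IsPGroup.iff_card.mp hP
  have h2 : F.relIndex P ∣ Nat.card P := Subgroup.relIndex_dvd_card F P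
  rw [hk, Nat.dvd_prime_pow Fact.out] at h2
  obtain ⟨m, _, hm⟩ := h2
  rw [hm]
  rcases Nat.eq_zero_or_pos m with h0 | h0
  · exfalso
    rw [h0, pow_zero, Subgroup.relIndex_eq_one] at hm
    exact absurd hm (not_le_of_gt hlt)
  · exact dvd_pow_self p h0.ne'

theorem local_step [Finite G] {p : ℕ} [Fact p.Prime] (P : Sylow p G) {F : Subgroup G}
    (hlt : F < (P : Subgroup G))
    (hT : SylIn p ((P : Subgroup G) ⊓ normalizer (F : Set G)) (normalizer (F : Set G)))
    (M : Subgroup G) (hMN : M ≤ normalizer (F : Set G)) (hCM : centralizer (F : Set G) ≤ M)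
    (hbig : ∀ R : Subgroup G, F < R → R ≤ (P : Subgroup G) → ∀ m ∈ normalizer (F : Set G),
      (∀ r ∈ R, m * r * m⁻¹ ∈ (P : Subgroup G)) → m ∈ M)
    (hess : ∀ X : Subgroup G, EssData p (P : Subgroup G) F X →
      ∀ x ∈ (pResidual p X).map X.subtype, x ∈ M) :
    normalizer (F : Set G) ≤ M := by
  obtain ⟨N, hN⟩ : ∃ N : Subgroup G, N = normalizer (F : Set G) := ⟨_, rfl⟩
  obtain ⟨T, hTdef⟩ : ∃ T : Subgroup G, T = (P : Subgroup G) ⊓ normalizer (F : Set G) := ⟨_, rfl⟩
  have hFN : F ≤ normalizer (F : Set G) := le_normalizer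
  have hFT : F < T := by
    rw [hTdef]
    exact Cfsg.Agent.PLocal.ConjFunctor.lt_inf_normalizer P.isPGroup' hlt
  have hTP : T ≤ (P : Subgroup G) := by rw [hTdef]; exact inf_le_left
  have hTN : T ≤ normalizer (F : Set G) := by rw [hTdef]; exact inf_le_right
  have hTp : IsPGroup p T := P.isPGroup'.to_le hTP
  have hFp : IsPGroup p F := P.isPGroup'.to_le hlt.le
  rw [← hTdef] at hT
  have hTM : T ≤ M := fun t ht => hbig T hFT hTP t (hTN ht)
    (fun r hr => hTP (mul_mem (mul_mem ht hr) (inv_mem ht)))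
  have hFM : F ≤ M := hFT.le.trans hTM
  -- elements normalizing a larger subgroup of `P`
  have hbig' : ∀ R : Subgroup G, F < R → R ≤ (P : Subgroup G) → ∀ m ∈ normalizer (F : Set G),
      m ∈ normalizer (R : Set G) → m ∈ M := fun R h1 h2 m h3 h4 =>
    hbig R h1 h2 m h3 (fun r hr => h2 (((Subgroup.mem_normalizer_iff.mp h4) r).mp hr))
  by_cases hC : (P : Subgroup G) ⊓ centralizer (F : Set G) ≤ F
  swap
  · intro n hn
    obtain ⟨c, hc, hcn, hcn'⟩ := LocalCtrl.frattini_centralizer P (H := F) (hTdef ▸ hT) hn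
    have h1 : F < F ⊔ ((P : Subgroup G) ⊓ centralizer (F : Set G)) := by
      refine lt_of_le_of_ne le_sup_left fun h => hC ?_
      exact le_sup_right.trans (le_of_eq h.symm)
    have h2 : F ⊔ ((P : Subgroup G) ⊓ centralizer (F : Set G)) ≤ (P : Subgroup G) :=
      sup_le hlt.le inf_le_left
    have h3 := mul_mem (inv_mem (hCM hc)) (hbig' _ h1 h2 _ hcn' hcn)
    rwa [inv_mul_cancel_left] at h3
  -- the centric case
  have hCN : centralizer (F : Set G) ≤ normalizer (F : Set G) :=
    Subgroup.centralizer_le_normalizer (F : Set G)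
  have hNC := LocalCtrl.normalizer_le_normalizer_centralizer F
  obtain ⟨K, hK⟩ : ∃ K, K = coreOf p (normalizer (F : Set G)) := ⟨_, rfl⟩
  obtain ⟨L, hL⟩ : ∃ L, L = ppOf p (normalizer (F : Set G)) := ⟨_, rfl⟩
  have hKL : K ≤ L := by rw [hK, hL]; exact coreOf_le_ppOf p _
  have hLN : L ≤ normalizer (F : Set G) := by rw [hL]; exact ppOf_le p _
  have hNL : normalizer (F : Set G) ≤ normalizer (L : Set G) := by
    rw [hL]; exact le_normalizer_ppOf p _
  have hNK : normalizer (F : Set G) ≤ normalizer (K : Set G) := by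
    rw [hK]; exact le_normalizer_coreOf p _
  have hKcop : (Nat.card K).Coprime p := by rw [hK]; exact coreOf_coprime p _
  have hFL : F ≤ L := by rw [hL]; exact le_ppOf hFN le_rfl hFp
  -- `K` centralizes `F`
  have hKC : K ≤ centralizer (F : Set G) := by
    intro k hk
    rw [Subgroup.mem_centralizer_iff]
    intro f hf
    have hkN : k ∈ normalizer (F : Set G) := hLN (hKL hk)
    have h1 : f * k * f⁻¹ * k⁻¹ ∈ K :=
      mul_mem (((Subgroup.mem_normalizer_iff.mp (hNK (hFN hf))) k).mp hk) (inv_mem hk)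
    have h2 : f * k * f⁻¹ * k⁻¹ ∈ F := by
      have := mul_mem hf (((Subgroup.mem_normalizer_iff.mp hkN) f⁻¹).mp (inv_mem hf))
      have e : f * (k * f⁻¹ * k⁻¹) = f * k * f⁻¹ * k⁻¹ := by group
      rwa [e] at this
    have h3 := eq_one_of_mem_of_coprime hFp hKcop h2 h1
    rw [mul_inv_eq_one] at h3
    rw [mul_inv_eq_iff_eq_mul] at h3
    exact h3
  -- `C_G(F) ≤ F K`
  have hCFK : centralizer (F : Set G) ≤ F ⊔ K := by
    have hSC : SylIn p (T ⊓ centralizer (F : Set G)) (centralizer (F : Set G)) := hT.inf hCN hNC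
    have hTC : T ⊓ centralizer (F : Set G) ≤ F := by
      refine le_trans ?_ hC
      exact inf_le_inf_right _ hTP
    obtain ⟨T₀, hT₀⟩ := hSC.exists_sylow
    have hT₀c : (T₀ : Subgroup (centralizer (F : Set G))) ≤ center _ := by
      intro t ht
      have h1 : (t : G) ∈ T ⊓ centralizer (F : Set G) := by rw [← hT₀]; exact ⟨t, ht, rfl⟩
      rw [Subgroup.mem_center_iff]
      intro c
      exact Subtype.ext ((Subgroup.mem_centralizer_iff.mp c.2) _ (hTC h1)).symm
    have h1 := hnc_of_central_sylow T₀ hT₀c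
    obtain ⟨O, hOn, hO1, hO2⟩ := NormalPComplement.hasNormalPComplement_iff.mp h1
    obtain ⟨OG, hOG⟩ : ∃ OG : Subgroup G, OG = O.map (centralizer (F : Set G)).subtype := ⟨_, rfl⟩
    have hOGC : OG ≤ centralizer (F : Set G) := by rw [hOG]; exact map_subtype_le _
    have hOGmem : ∀ x : G, x ∈ OG ↔ x ∈ centralizer (F : Set G) ∧ (orderOf x).Coprime p := by
      intro x
      rw [hOG]
      constructor
      · rintro ⟨y, hy, rfl⟩
        refine ⟨y.2, ?_⟩
        rw [Subgroup.coe_subtype, Subgroup.orderOf_coe]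
        exact (NormalPComplement.mem_iff_coprime_orderOf' O hO1 hO2 y).mp hy
      · rintro ⟨hx, hx1⟩
        refine ⟨⟨x, hx⟩, ?_, rfl⟩
        refine (NormalPComplement.mem_iff_coprime_orderOf' O hO1 hO2 _).mpr ?_
        rw [← Subgroup.orderOf_coe]; exact hx1
    have hNOG : normalizer (F : Set G) ≤ normalizer (OG : Set G) := by
      intro g hg
      apply mem_normalizer_of_conj_mem
      intro a ha
      rw [hOGmem] at ha ⊢
      refine ⟨((Subgroup.mem_normalizer_iff.mp (hNC hg)) a).mp ha.1, ?_⟩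
      have : orderOf (g * a * g⁻¹) = orderOf a := by
        have := orderOf_injective (MulAut.conj g).toMonoidHom (MulAut.conj g).injective a
        simpa using this
      rw [this]; exact ha.2
    have hOGK : OG ≤ K := by
      rw [hK]
      refine le_coreOf (hOGC.trans hCN) hNOG ?_
      rw [hOG, Subgroup.card_map_of_injective (Subgroup.subtype_injective _)]
      exact hO1
    intro x hx
    have hpow : ∀ x ∈ centralizer (F : Set G), ∃ k : ℕ, x ^ p ^ k ∈ OG := by
      intro x hx
      obtain ⟨k, hk⟩ := (NormalPComplement.isPGroup_quotient_iff O).mp hO2 ⟨x, hx⟩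
      refine ⟨k, ?_⟩
      rw [hOG]
      exact ⟨_, hk, rfl⟩
    obtain ⟨o, ho, s, hs, rfl⟩ := hSC.exists_mul hOGC (hCN.trans hNOG) hpow hx
    exact mul_mem (Subgroup.mem_sup_right (hOGK ho)) (Subgroup.mem_sup_left (hTC hs))
  have hFC : F ⊔ centralizer (F : Set G) = F ⊔ K :=
    le_antisymm (sup_le le_sup_left hCFK) (sup_le_sup_left hKC F)
  by_cases hrad : L = F ⊔ centralizer (F : Set G)
  swap
  · -- not radical
    obtain ⟨U, hU⟩ : ∃ U : Subgroup G, U = T ⊓ L := ⟨_, rfl⟩
    have hSU : SylIn p U L := by rw [hU]; exact hT.inf hLN hNL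
    have hUT : U ≤ T := by rw [hU]; exact inf_le_left
    have hFU : F ≤ U := by rw [hU]; exact le_inf hFT.le hFL
    have hmulL : ∀ x ∈ L, ∃ k ∈ K, ∃ u ∈ U, x = k * u := by
      intro x hx
      refine hSU.exists_mul hKL (hLN.trans hNK) ?_ hx
      intro y hy
      rw [hL] at hy
      rw [hK]
      exact exists_pow_mem_coreOf _ hy
    have hne : F < U := by
      refine lt_of_le_of_ne hFU ?_
      intro h
      apply hrad
      rw [hFC]
      refine le_antisymm ?_ (sup_le hFL hKL)
      intro x hx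
      obtain ⟨k, hk, u, hu, rfl⟩ := hmulL x hx
      rw [← h] at hu
      exact mul_mem (Subgroup.mem_sup_right hk) (Subgroup.mem_sup_left hu)
    intro n hn
    obtain ⟨l, hl, hln⟩ := hSU.frattini (L := normalizer (F : Set G)) hNL hn
    have h1 : l * n ∈ M := hbig' U hne (hUT.trans hTP) _ (mul_mem (hLN hl) hn) hln
    obtain ⟨k, hk, u, hu, hku⟩ := hmulL l⁻¹ (inv_mem hl)
    have h2 : l⁻¹ ∈ M := by
      rw [hku]
      exact mul_mem (hCM (hKC hk)) (hTM (hUT hu))
    have h3 := mul_mem h2 h1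
    rwa [inv_mul_cancel_left] at h3
  -- the radical case
  by_contra hnot
  -- `M / F` is strongly embedded
  obtain ⟨π, hπ⟩ : ∃ π : ↥(normalizer (F : Set G)) →*
    (↥(normalizer (F : Set G)) ⧸ F.subgroupOf (normalizer (F : Set G))),
      π = QuotientGroup.mk' (F.subgroupOf (normalizer (F : Set G))) := ⟨_, rfl⟩
  have hπs : Function.Surjective π := by rw [hπ]; exact QuotientGroup.mk'_surjective _
  have hπker : ∀ x, π x = 1 ↔ (x : G) ∈ F := by
    intro x
    rw [hπ, QuotientGroup.mk'_apply, QuotientGroup.eq_one_iff, mem_subgroupOf]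
  have hmemM : ∀ x : ↥(normalizer (F : Set G)),
      π x ∈ (M.subgroupOf (normalizer (F : Set G))).map π ↔ (x : G) ∈ M := by
    intro x
    constructor
    · rintro ⟨y, hy, hxy⟩
      have h1 : π (y⁻¹ * x) = 1 := by rw [map_mul, map_inv, hxy, inv_mul_cancel]
      rw [hπker] at h1
      have h2 : (y : G) ∈ M := hy
      have h3 := mul_mem h2 (hFM h1)
      have e : (y : G) * ((y⁻¹ * x : ↥(normalizer (F : Set G))) : G) = x := by
        rw [Subgroup.coe_mul, Subgroup.coe_inv]; group
      rwa [e] at h3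
    · intro h
      exact ⟨x, h, rfl⟩
  obtain ⟨Mb, hMb⟩ : ∃ Mb, Mb = (M.subgroupOf (normalizer (F : Set G))).map π := ⟨_, rfl⟩
  have hcardT : p ∣ F.relIndex T := le_relIndex_of_dvd hTp hFT le_rfl
  have hSE : Cfsg.Agent.H275.SylowChain.SE p Mb := by
    refine ⟨?_, ?_, ?_⟩
    · intro h
      apply hnot
      intro x hx
      rw [← hmemM ⟨x, hx⟩, ← hMb, h]
      trivial
    · have h1 : F.relIndex T ∣ F.relIndex M := by
        rw [← Subgroup.relIndex_mul_relIndex F T M hFT.le hTM]
        exact dvd_mul_right _ _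
      have h2 := card_map_mk_subgroupOf (F := F) (N := normalizer (F : Set G)) hMN
      rw [← hπ, ← hMb] at h2
      rw [h2]
      exact hcardT.trans h1
    · intro gb hgb hdvd
      obtain ⟨g, rfl⟩ := hπs gb
      apply hgb
      obtain ⟨⟨xb, hxb1, hxb2⟩, hxb⟩ := exists_prime_orderOf_dvd_card' p hdvd
      obtain ⟨x, rfl⟩ := hπs xb
      -- the subgroup `R = F⟨x⟩`
      have hxb1' : π x ∈ Mb := hxb1
      have hxM : (x : G) ∈ M := by rwa [hMb, hmemM] at hxb1'
      have hxo : orderOf (π x) = p := by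
        have := hxb
        rw [← Subgroup.orderOf_coe] at this
        exact this
      have hxF : (x : G) ∉ F := by
        intro h
        rw [← hπker] at h
        rw [h, orderOf_one] at hxo
        exact (Fact.out : p.Prime).one_lt.ne hxo
      have hgx : ((g⁻¹ * x * g : ↥(normalizer (F : Set G))) : G) ∈ M := by
        rw [← hmemM, ← hMb]
        have h1 := FusionBasic.mem_map_conj_iff.mp hxb2
        rw [map_mul, map_mul, map_inv]
        exact h1
      let Rb : Subgroup (↥(normalizer (F : Set G)) ⧸ F.subgroupOf (normalizer (F : Set G))) :=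
        Subgroup.zpowers (π x)
      let R : Subgroup G := (Rb.comap π).map (normalizer (F : Set G)).subtype
      have hRmem : ∀ y : ↥(normalizer (F : Set G)), (y : G) ∈ R ↔ π y ∈ Subgroup.zpowers (π x) := by
        intro y
        constructor
        · rintro ⟨z, hz, hzy⟩
          have : z = y := Subtype.ext hzy
          rw [← this]; exact hz
        · intro h; exact ⟨y, h, rfl⟩
      have hRN : R ≤ normalizer (F : Set G) := map_subtype_le _
      have hFR : F ≤ R := by
        intro f hf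
        rw [hRmem ⟨f, hFN hf⟩, (hπker ⟨f, hFN hf⟩).mpr hf]
        exact one_mem _
      have hxR : (x : G) ∈ R := by rw [hRmem]; exact Subgroup.mem_zpowers _
      have hFltR : F < R := lt_of_le_of_ne hFR (fun h => hxF ((le_of_eq h.symm) hxR))
      have hRM : R ≤ M := by
        intro r hr
        have h1 := (hRmem ⟨r, hRN hr⟩).mp hr
        rw [← hmemM ⟨r, hRN hr⟩]
        obtain ⟨k, hk⟩ := h1
        change (π x) ^ k = _ at hk
        rw [← hk]
        apply Subgroup.zpow_mem
        rw [hmemM]; exact hxM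
      have hRgM : ∀ r ∈ R, (g : G)⁻¹ * r * g ∈ M := by
        intro r hr
        have h1 := (hRmem ⟨r, hRN hr⟩).mp hr
        obtain ⟨k, hk⟩ := h1
        change (π x) ^ k = _ at hk
        have h2 : π (g⁻¹ * ⟨r, hRN hr⟩ * g) = π (g⁻¹ * x * g) ^ k := by
          rw [map_mul, map_mul, ← hk, map_mul, map_mul, map_inv]
          have := (conj_zpow (a := (π g)⁻¹) (b := π x) (i := k)).symm
          rwa [inv_inv] at this
        have h3 : π (g⁻¹ * ⟨r, hRN hr⟩ * g) ∈ (M.subgroupOf (normalizer (F : Set G))).map π := by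
          rw [h2]
          apply Subgroup.zpow_mem
          rw [hmemM]; exact hgx
        rw [hmemM] at h3
        exact h3
      have hRp : IsPGroup p R := by
        rintro ⟨r, hr⟩
        obtain ⟨k, hk⟩ := (hRmem ⟨r, hRN hr⟩).mp hr
        change (π x) ^ k = _ at hk
        have h1 : π (⟨r, hRN hr⟩ ^ p) = 1 := by
          rw [map_pow, ← hk, ← zpow_natCast, ← zpow_mul, mul_comm, zpow_mul, zpow_natCast, ← hxo,
            pow_orderOf_eq_one, one_zpow]
        rw [hπker] at h1
        obtain ⟨m, hm⟩ := hFp ⟨_, h1⟩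
        refine ⟨m + 1, Subtype.ext ?_⟩
        have h2 := congrArg Subtype.val hm
        change r ^ p ^ (m + 1) = 1
        rw [pow_succ', pow_mul]
        exact h2
      -- move `R` and `R^g` into `T`
      have hTM' : SylIn p T M := ⟨hTM, hTp, fun R h1 h2 h3 => hT.2.2 R h1 (h2.trans hMN) h3⟩
      obtain ⟨m, hm, hmR⟩ := hTM'.conj_le hRM hRp
      obtain ⟨m', hm', hmR'⟩ := hTM'.conj_le (R := R.map (MulAut.conj (g : G)⁻¹).toMonoidHom)
        (by
          rw [map_conj_le_iff]
          intro r hr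
          have := hRgM r hr
          rwa [inv_inv]) (hRp.map _)
      obtain ⟨R₁, hR₁⟩ : ∃ R₁ : Subgroup G, R₁ = R.map (MulAut.conj m).toMonoidHom := ⟨_, rfl⟩
      have hR₁T : R₁ ≤ T := by rw [hR₁, map_conj_le_iff]; exact hmR
      have hFR₁ : F < R₁ := by
        have h1 : F.map (MulAut.conj m).toMonoidHom = F := map_conj_eq_of_mem_normalizer (hMN hm)
        have h2 : F ≤ R₁ := by
          rw [hR₁, ← h1]; exact map_mono hFR
        refine lt_of_le_of_ne h2 ?_
        intro h
        have h3 := congrArg (fun A : Subgroup G => Nat.card A) h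
        rw [hR₁] at h3
        simp only [card_map_conj] at h3
        exact absurd h3 (Cfsg.Agent.PLocal.ConjFunctor.card_lt_card_of_lt hFltR).ne
      have h5 : m' * (g : G)⁻¹ * m⁻¹ ∈ M := by
        refine hbig R₁ hFR₁ (hR₁T.trans hTP) _
          (mul_mem (mul_mem (hMN hm') (inv_mem g.2)) (inv_mem (hMN hm))) ?_
        intro r hr
        rw [hR₁, mem_map_conj_iff] at hr
        have h6 := hmR' _ ⟨_, hr, rfl⟩
        apply hTP
        have e : m' * ((MulAut.conj (g : G)⁻¹).toMonoidHom (m⁻¹ * r * m)) * m'⁻¹ =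
            m' * (g : G)⁻¹ * m⁻¹ * r * (m' * (g : G)⁻¹ * m⁻¹)⁻¹ := by
          simp [MulAut.conj_apply]; group
        rwa [e] at h6
      have h6 : (g : G) ∈ M := by
        have := mul_mem (inv_mem hm') (mul_mem h5 hm)
        have e : m'⁻¹ * (m' * (g : G)⁻¹ * m⁻¹ * m) = (g : G)⁻¹ := by group
        rw [e] at this
        have := inv_mem this
        rwa [inv_inv] at this
      rw [hMb, hmemM]
      exact h6
  have hdisc := Cfsg.Agent.H275.SylowChain.not_chainConnected_of_se hSE
  obtain ⟨X, h1, h2, h3, h4, h5⟩ := exists_minX hdisc (by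
    have h1 : F.relIndex T ∣ F.relIndex (normalizer (F : Set G)) := by
      rw [← Subgroup.relIndex_mul_relIndex F T _ hFT.le hTN]
      exact dvd_mul_right _ _
    exact hcardT.trans h1)
  have hX : EssData p (P : Subgroup G) F X := by
    refine ⟨hlt.le, ?_, hC, ?_, hdisc, h1, h2, h3, h4, h5⟩
    · rw [← hTdef]
      obtain ⟨T₀, hT₀⟩ := hT.exists_sylow
      have h6 : T.relIndex (normalizer (F : Set G)) =
          (T₀ : Subgroup (normalizer (F : Set G))).index := by
        rw [← hT₀, Subgroup.relIndex, Subgroup.subgroupOf,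
          Subgroup.comap_map_eq_self_of_injective (Subgroup.subtype_injective _)]
      rw [h6]
      exact T₀.not_dvd_index
    · rw [← hrad, hL]; rfl
  have hres := hess X hX
  have h6 := h3.map π hπs
  have h7 := Cfsg.Agent.H275.StrongEmb.sup_eq_top hSE
    ((X.subgroupOf (normalizer (F : Set G))).map π) (by
      have := card_map_mk_subgroupOf (F := F) (N := normalizer (F : Set G)) h2
      rw [← hπ] at this
      rw [this]; exact h4)
  apply hSE.ne_top
  rw [eq_top_iff, ← h7, sup_le_iff]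
  refine ⟨le_rfl, ?_⟩
  rw [closure_le]
  rintro gb ⟨⟨x, hx, rfl⟩, hgb⟩
  -- the `p'`-part of `x`
  have hxX : (x : G) ∈ X := hx
  have h8 : (orderOf ((x : G) ^ (p ^ (orderOf (x : G)).factorization p))).Coprime p :=
    NormalPComplement.coprime_orderOf_pow_ordProj (isOfFinOrder_of_finite _)
  have h9 : (x : G) ^ (p ^ (orderOf (x : G)).factorization p) ∈ M := by
    apply hres
    refine ⟨⟨_, pow_mem hxX _⟩, ?_, rfl⟩
    apply NormalPComplement.mem_pResidual_of_coprime
    rw [← Subgroup.orderOf_coe]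
    exact h8
  have h10 : π x ^ (p ^ (orderOf (x : G)).factorization p) ∈ Mb := by
    rw [← map_pow, hMb, hmemM]
    exact h9
  -- `π x` has order prime to `p`
  have h11 : (orderOf (π x)).Coprime (p ^ (orderOf (x : G)).factorization p) :=
    Nat.Coprime.pow_right _ hgb
  obtain ⟨j, hj⟩ := exists_pow_eq_self_of_coprime h11.symm
  have h12 := pow_mem h10 j
  rw [hj] at h12
  exact h12

end Cfsg.Agent.H278.EssLocal
end

-- part: H278/EssChain
section
/-!
# Products of elements of `O^p(X)` along chains, and the fusion theorem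
-/

set_option autoImplicit false

namespace Cfsg.Agent.H278.EssChain

open Subgroup Cfsg
open Cfsg.Agent.Transfer.FusionBasic
open Cfsg.Agent.Transfer
open Cfsg.Agent.H278.EssLocal
open Cfsg.Agent.H275.SylowChain

variable {G : Type*} [Group G]

theorem se_map_equiv {H : Type*} [Group H] (e : G ≃* H) {p : ℕ} {M : Subgroup G} (h : SE p M) :
    SE p (M.map e.toMonoidHom) where
  ne_top := by
    intro h1
    apply h.ne_top
    rw [eq_top_iff]
    intro x _
    have : e x ∈ M.map e.toMonoidHom := by rw [h1]; trivial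
    obtain ⟨y, hy, hxy⟩ := this
    rwa [← e.injective hxy]
  dvd := by
    rw [Subgroup.card_map_of_injective (f := e.toMonoidHom) e.injective]
    exact h.dvd
  disj := fun g hg => by
    have h1 := h.disj (e.symm g) (fun h2 => hg ⟨_, h2, by simp⟩)
    have h2 : (M.map e.toMonoidHom ⊓ (M.map e.toMonoidHom).map (MulAut.conj g).toMonoidHom) =
        (M ⊓ M.map (MulAut.conj (e.symm g)).toMonoidHom).map e.toMonoidHom := by
      ext x
      have hm : ∀ (K : Subgroup G) (x : H), x ∈ K.map e.toMonoidHom ↔ e.symm x ∈ K :=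
        fun K x => Subgroup.mem_map_equiv
      rw [Subgroup.mem_inf, mem_map_conj_iff, hm, hm, hm, Subgroup.mem_inf, mem_map_conj_iff]
      simp
    rw [h2, Subgroup.card_map_of_injective (f := e.toMonoidHom) e.injective]
    exact h1

theorem not_chainConnected_of_equiv [Finite G] {H : Type*} [Group H] (e : G ≃* H) {p : ℕ}
    [Fact p.Prime] (h : ¬ IsSylowChainConnected p G) : ¬ IsSylowChainConnected p H := by
  have : Finite H := Finite.of_equiv G e.toEquiv
  obtain ⟨M, hM⟩ := not_chainConnected_iff.1 h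
  exact not_chainConnected_iff.2 ⟨_, se_map_equiv e hM⟩

theorem disc_transport [Finite G] {p : ℕ} [Fact p.Prime] {N N' F F' : Subgroup G}
    [hn : (F.subgroupOf N).Normal] [hn' : (F'.subgroupOf N').Normal] (e : N ≃* N')
    (he : (F.subgroupOf N).map e.toMonoidHom = F'.subgroupOf N')
    (h : ¬ IsSylowChainConnected p (N ⧸ F.subgroupOf N)) :
    ¬ IsSylowChainConnected p (N' ⧸ F'.subgroupOf N') :=
  not_chainConnected_of_equiv (QuotientGroup.congr _ _ e he) h

theorem ppOf_map (p : ℕ) (N : Subgroup G) (y : G) :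
    ppOf p (N.map (MulAut.conj y).toMonoidHom) = (ppOf p N).map (MulAut.conj y).toMonoidHom := by
  let e : N ≃* (N.map (MulAut.conj y).toMonoidHom : Subgroup G) := (MulAut.conj y).subgroupMap N
  have h1 := Cfsg.Agent.SignalizersComponents.PLayerAut.map_equiv_pPrimePCore p e
  rw [ppOf_def, ppOf_def, ← h1, Subgroup.map_map, Subgroup.map_map]
  rfl

theorem normal_subgroupOf_iff' {H K : Subgroup G} (h : H ≤ K) :
    (H.subgroupOf K).Normal ↔ K ≤ normalizer (H : Set G) :=
  normal_subgroupOf_iff_le_normalizer h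

theorem centralizer_map_conj (A : Subgroup G) (y : G) :
    centralizer ((A.map (MulAut.conj y).toMonoidHom : Subgroup G) : Set G) =
      (centralizer (A : Set G)).map (MulAut.conj y).toMonoidHom := by
  ext x
  rw [mem_map_conj_iff, Subgroup.mem_centralizer_iff, Subgroup.mem_centralizer_iff]
  constructor
  · intro h a ha
    have h1 := h (y * a * y⁻¹) ⟨a, ha, by simp⟩
    have e1 : y⁻¹ * (y * a * y⁻¹ * x) * y = a * (y⁻¹ * x * y) := by group
    have e2 : y⁻¹ * (x * (y * a * y⁻¹)) * y = (y⁻¹ * x * y) * a := by group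
    rw [← e1, ← e2, h1]
  · rintro h _ ⟨a, ha, rfl⟩
    have h1 := h a ha
    simp only [MulEquiv.toMonoidHom_eq_coe, MonoidHom.coe_coe, MulAut.conj_apply]
    have e1 : y * (a * (y⁻¹ * x * y)) * y⁻¹ = y * a * y⁻¹ * x := by group
    have e2 : y * ((y⁻¹ * x * y) * a) * y⁻¹ = x * (y * a * y⁻¹) := by group
    rw [← e1, ← e2, h1]

theorem relIndex_map_conj (A B : Subgroup G) (y : G) :
    (A.map (MulAut.conj y).toMonoidHom).relIndex (B.map (MulAut.conj y).toMonoidHom) =
      A.relIndex B :=
  Subgroup.relIndex_map_map_of_injective A B (f := (MulAut.conj y).toMonoidHom)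
    (MulAut.conj y).injective

theorem map_conj_mono_iff {A B : Subgroup G} (y : G) :
    A.map (MulAut.conj y).toMonoidHom ≤ B.map (MulAut.conj y).toMonoidHom ↔ A ≤ B :=
  Subgroup.map_le_map_iff_of_injective (f := (MulAut.conj y).toMonoidHom) (MulAut.conj y).injective

theorem essData_conj [Finite G] {p : ℕ} [Fact p.Prime] {P F X : Subgroup G} {y : G}
    (hy : y ∈ normalizer (P : Set G)) (h : EssData p P F X) :
    EssData p P (F.map (MulAut.conj y).toMonoidHom) (X.map (MulAut.conj y).toMonoidHom) := by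
  have hP : P.map (MulAut.conj y).toMonoidHom = P := map_conj_eq_of_mem_normalizer hy
  have hN : normalizer ((F.map (MulAut.conj y).toMonoidHom : Subgroup G) : Set G) =
      (normalizer (F : Set G)).map (MulAut.conj y).toMonoidHom := normalizer_map_conj F y
  have hC := centralizer_map_conj F y
  have hinf : ∀ A B : Subgroup G, (A ⊓ B).map (MulAut.conj y).toMonoidHom =
      A.map (MulAut.conj y).toMonoidHom ⊓ B.map (MulAut.conj y).toMonoidHom :=
    fun A B => Subgroup.map_inf A B _ (MulAut.conj y).injective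
  refine ⟨?_, ?_, ?_, ?_, ?_, ?_, ?_, ?_, ?_, ?_⟩
  · rw [← hP]; exact map_mono h.le
  · rw [hN]
    have e : P ⊓ (normalizer (F : Set G)).map (MulAut.conj y).toMonoidHom =
        (P ⊓ normalizer (F : Set G)).map (MulAut.conj y).toMonoidHom := by
      rw [hinf, hP]
    rw [e, relIndex_map_conj]
    exact h.syl
  · rw [hC]
    have e : P ⊓ (centralizer (F : Set G)).map (MulAut.conj y).toMonoidHom =
        (P ⊓ centralizer (F : Set G)).map (MulAut.conj y).toMonoidHom := by
      rw [hinf, hP]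
    rw [e]
    exact map_mono h.cent
  · change ppOf p (normalizer ((F.map (MulAut.conj y).toMonoidHom : Subgroup G) : Set G)) = _
    rw [hN, ppOf_map, hC, ← Subgroup.map_sup]
    exact congrArg _ h.rad
  · let e : ↥(normalizer (F : Set G)) ≃*
        ↥(normalizer ((F.map (MulAut.conj y).toMonoidHom : Subgroup G) : Set G)) :=
      ((MulAut.conj y).subgroupMap (normalizer (F : Set G))).trans (MulEquiv.subgroupCongr hN.symm)
    have hev : ∀ z, ((e z : ↥(normalizer ((F.map (MulAut.conj y).toMonoidHom : Subgroup G) : Set G))) : G) =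
        y * z * y⁻¹ := fun z => rfl
    refine disc_transport e ?_ h.disc
    ext z
    rw [Subgroup.mem_map_equiv, Subgroup.mem_subgroupOf, Subgroup.mem_subgroupOf, mem_map_conj_iff]
    have h1 := hev (e.symm z)
    rw [MulEquiv.apply_symm_apply] at h1
    rw [h1]
    have e3 : y⁻¹ * (y * (e.symm z : G) * y⁻¹) * y = (e.symm z : G) := by group
    rw [e3]
  · exact map_mono h.leX
  · rw [hN]; exact map_mono h.Xle
  · rw [normal_subgroupOf_iff' (by rw [hN]; exact map_mono h.Xle), hN, normalizer_map_conj]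
    exact map_mono ((normal_subgroupOf_iff' h.Xle).mp h.normX)
  · rw [relIndex_map_conj]; exact h.dvdX
  · intro Y h1 h2 h3 h4
    obtain ⟨Z, hZ⟩ : ∃ Z : Subgroup G, Y = Z.map (MulAut.conj y).toMonoidHom :=
      ⟨Y.map (MulAut.conj y⁻¹).toMonoidHom, (map_conj_map_conj_inv Y y).symm⟩
    rw [normal_subgroupOf_iff' h2] at h3
    subst hZ
    rw [hN, normalizer_map_conj, map_conj_mono_iff] at h3
    rw [hN, map_conj_mono_iff] at h2
    rw [map_conj_mono_iff] at h1
    rw [relIndex_map_conj] at h4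
    exact map_mono (h.minX Z h1 h2 ((normal_subgroupOf_iff' h2).mpr h3) h4)

theorem mem_resid_conj (p : ℕ) {X : Subgroup G} {x : G} (y : G)
    (hx : x ∈ (pResidual p X).map X.subtype) :
    y * x * y⁻¹ ∈ (pResidual p (X.map (MulAut.conj y).toMonoidHom : Subgroup G)).map
      (X.map (MulAut.conj y).toMonoidHom : Subgroup G).subtype := by
  obtain ⟨z, hz, rfl⟩ := hx
  let e : X ≃* (X.map (MulAut.conj y).toMonoidHom : Subgroup G) := (MulAut.conj y).subgroupMap X
  have h1 := Cfsg.Agent.Transfer.Residual.map_pResidual_equiv p e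
  rw [← h1]
  exact ⟨e z, ⟨z, hz, rfl⟩, rfl⟩

/-- A chain of elements `x` of `O^p(X)` starting at `A`. -/
def Chain (p : ℕ) (P : Subgroup G) : Subgroup G → List (Subgroup G × Subgroup G × G) → Prop
  | _, [] => True
  | A, (t :: l) => A ≤ t.1 ∧ EssData p P t.1 t.2.1 ∧ t.2.2 ∈ (pResidual p t.2.1).map (t.2.1).subtype ∧
      Chain p P (A.map (MulAut.conj t.2.2⁻¹).toMonoidHom) l

/-- The product of the elements of a chain. -/
def prd (l : List (Subgroup G × Subgroup G × G)) : G := (l.map fun t => t.2.2).prod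

@[simp] theorem prd_nil : prd ([] : List (Subgroup G × Subgroup G × G)) = 1 := rfl

@[simp] theorem prd_cons (t : Subgroup G × Subgroup G × G) (l : List (Subgroup G × Subgroup G × G)) :
    prd (t :: l) = t.2.2 * prd l := by simp [prd]

@[simp] theorem prd_append (l l' : List (Subgroup G × Subgroup G × G)) :
    prd (l ++ l') = prd l * prd l' := by simp [prd]

theorem Chain.mono {p : ℕ} {P : Subgroup G} : ∀ {l : List (Subgroup G × Subgroup G × G)}
    {A A' : Subgroup G}, Chain p P A l → A' ≤ A → Chain p P A' l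
  | [], _, _, _, _ => trivial
  | (_ :: _), _, _, h, hA => ⟨hA.trans h.1, h.2.1, h.2.2.1, h.2.2.2.mono (map_mono hA)⟩

theorem Chain.append {p : ℕ} {P : Subgroup G} : ∀ {l l' : List (Subgroup G × Subgroup G × G)}
    {A : Subgroup G}, Chain p P A l → Chain p P (A.map (MulAut.conj (prd l)⁻¹).toMonoidHom) l' →
    Chain p P A (l ++ l')
  | [], l', A, _, h' => by
    have e : A.map (MulAut.conj (prd ([] : List (Subgroup G × Subgroup G × G)))⁻¹).toMonoidHom = A := by
      ext x; rw [mem_map_conj_iff]; simp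
    rw [e] at h'
    exact h'
  | (t :: l), l', A, h, h' => by
    refine ⟨h.1, h.2.1, h.2.2.1, h.2.2.2.append ?_⟩
    rw [map_conj_map_conj]
    have e : (prd l)⁻¹ * (t.2.2)⁻¹ = (prd (t :: l))⁻¹ := by rw [prd_cons, mul_inv_rev]
    rw [e]
    exact h'

/-- Conjugate of a chain. -/
def cj (y : G) (l : List (Subgroup G × Subgroup G × G)) : List (Subgroup G × Subgroup G × G) :=
  l.map fun t => (t.1.map (MulAut.conj y).toMonoidHom, t.2.1.map (MulAut.conj y).toMonoidHom,
    y * t.2.2 * y⁻¹)

theorem prd_cj (y : G) : ∀ l : List (Subgroup G × Subgroup G × G), prd (cj y l) = y * prd l * y⁻¹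
  | [] => by simp [cj]
  | (t :: l) => by
    have ih := prd_cj y l
    have e : cj y (t :: l) = (t.1.map (MulAut.conj y).toMonoidHom,
      t.2.1.map (MulAut.conj y).toMonoidHom, y * t.2.2 * y⁻¹) :: cj y l := rfl
    rw [e, prd_cons, ih, prd_cons]
    group

theorem Chain.conj [Finite G] {p : ℕ} [Fact p.Prime] {P : Subgroup G} {y : G}
    (hy : y ∈ normalizer (P : Set G)) : ∀ {l : List (Subgroup G × Subgroup G × G)}
    {A : Subgroup G}, Chain p P A l → Chain p P (A.map (MulAut.conj y).toMonoidHom) (cj y l)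
  | [], _, _ => trivial
  | (t :: l), A, h => by
    refine ⟨map_mono h.1, essData_conj hy h.2.1, mem_resid_conj p y h.2.2.1, ?_⟩
    have h1 := h.2.2.2.conj hy
    rw [map_conj_map_conj] at h1 ⊢
    have e : (y * t.2.2 * y⁻¹)⁻¹ * y = y * (t.2.2)⁻¹ := by group
    rw [e]
    exact h1

theorem Chain.inv [Finite G] {p : ℕ} [Fact p.Prime] {P : Subgroup G} :
    ∀ {l : List (Subgroup G × Subgroup G × G)} {A : Subgroup G}, Chain p P A l →
      ∃ l', Chain p P (A.map (MulAut.conj (prd l)⁻¹).toMonoidHom) l' ∧ prd l' = (prd l)⁻¹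
  | [], A, _ => ⟨[], trivial, by simp⟩
  | (t :: l), A, h => by
    obtain ⟨l', h1, h2⟩ := h.2.2.2.inv
    refine ⟨l' ++ [(t.1, t.2.1, (t.2.2)⁻¹)], ?_, by simp [h2]⟩
    refine Chain.append (l := l') ?_ ⟨?_, h.2.1, inv_mem h.2.2.1, trivial⟩
    · rw [map_conj_map_conj] at h1
      have e : (prd l)⁻¹ * (t.2.2)⁻¹ = (prd (t :: l))⁻¹ := by rw [prd_cons, mul_inv_rev]
      rw [e] at h1
      exact h1
    · rw [map_conj_map_conj, h2, prd_cons]
      have e : (prd l)⁻¹⁻¹ * (t.2.2 * prd l)⁻¹ = (t.2.2)⁻¹ := by group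
      rw [e]
      have hxN : t.2.2 ∈ normalizer (t.1 : Set G) := by
        apply h.2.1.Xle
        exact map_subtype_le _ h.2.2.1
      rintro _ ⟨a, ha, rfl⟩
      have := ((Subgroup.mem_normalizer_iff.mp (inv_mem hxN)) a).mp (h.1 ha)
      simpa using this

/-- The elements `k = c x₁ ⋯ xₙ y`. -/
def NF (p : ℕ) (P A : Subgroup G) (k : G) : Prop :=
  ∃ c ∈ centralizer (A : Set G), ∃ l, Chain p P A l ∧ ∃ y ∈ normalizer (P : Set G),
    k = c * prd l * y

theorem NF.mono {p : ℕ} {P A A' : Subgroup G} {k : G} (h : NF p P A k) (hA : A' ≤ A) :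
    NF p P A' k := by
  obtain ⟨c, hc, l, hl, y, hy, rfl⟩ := h
  exact ⟨c, Subgroup.centralizer_le hA hc, l, hl.mono hA, y, hy, rfl⟩

theorem map_conj_centralizing {A : Subgroup G} {c : G} (hc : c ∈ centralizer (A : Set G)) :
    A.map (MulAut.conj c).toMonoidHom = A := by
  apply map_conj_eq_of_mem_normalizer
  exact centralizer_le_normalizer _ hc

theorem NF.comp [Finite G] {p : ℕ} [Fact p.Prime] {P A B : Subgroup G} {k k' : G}
    (h : NF p P A k) (h' : NF p P B k') (hAB : ∀ a ∈ A, k⁻¹ * a * k ∈ B) :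
    NF p P A (k * k') := by
  obtain ⟨c, hc, l, hl, y, hy, rfl⟩ := h
  obtain ⟨c', hc', l', hl', y', hy', rfl⟩ := h'
  have hAc : ∀ a ∈ A, (prd l * y)⁻¹ * a * (prd l * y) ∈ B := by
    intro a ha
    have h1 := hAB a ha
    have h2 : c * a * c⁻¹ ∈ A := ((Subgroup.mem_normalizer_iff.mp
      (centralizer_le_normalizer _ hc)) a).mp ha
    have h3 := hAB _ h2
    have e : (c * prd l * y)⁻¹ * (c * a * c⁻¹) * (c * prd l * y) =
      (prd l * y)⁻¹ * a * (prd l * y) := by group
    rwa [e] at h3
  refine ⟨c * ((prd l * y) * c' * (prd l * y)⁻¹), ?_, l ++ cj y l', ?_, y * y', mul_mem hy hy', ?_⟩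
  · refine mul_mem hc ?_
    rw [Subgroup.mem_centralizer_iff]
    intro a ha
    have h1 := (Subgroup.mem_centralizer_iff.mp hc') _ (hAc a ha)
    have e1 : (prd l * y) * ((prd l * y)⁻¹ * a * (prd l * y) * c') * (prd l * y)⁻¹ =
      a * ((prd l * y) * c' * (prd l * y)⁻¹) := by group
    have e2 : (prd l * y) * (c' * ((prd l * y)⁻¹ * a * (prd l * y))) * (prd l * y)⁻¹ =
      ((prd l * y) * c' * (prd l * y)⁻¹) * a := by group
    rw [← e1, ← e2, h1]
  · refine hl.append ?_
    refine (hl'.conj hy).mono ?_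
    rintro _ ⟨a, ha, rfl⟩
    rw [mem_map_conj_iff]
    have h1 := hAc a ha
    have e : y⁻¹ * ((MulAut.conj (prd l)⁻¹).toMonoidHom a) * y =
        (prd l * y)⁻¹ * a * (prd l * y) := by
      simp only [MulEquiv.toMonoidHom_eq_coe, MonoidHom.coe_coe, MulAut.conj_apply]
      group
    rw [e]; exact h1
  · rw [prd_append, prd_cj]
    group

theorem nf_of_centralizer {p : ℕ} {P A : Subgroup G} {c : G} (hc : c ∈ centralizer (A : Set G)) :
    NF p P A c := ⟨c, hc, [], trivial, 1, one_mem _, by simp⟩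

theorem nf_of_normalizer {p : ℕ} {P A : Subgroup G} {y : G} (hy : y ∈ normalizer (P : Set G)) :
    NF p P A y := ⟨1, one_mem _, [], trivial, y, hy, by simp⟩

theorem nf_of_chain {p : ℕ} {P A : Subgroup G} {l : List (Subgroup G × Subgroup G × G)}
    (h : Chain p P A l) : NF p P A (prd l) := ⟨1, one_mem _, l, h, 1, one_mem _, by simp⟩

theorem NF.inv [Finite G] {p : ℕ} [Fact p.Prime] {P A B : Subgroup G} {k : G}
    (h : NF p P A k) (hBA : ∀ b ∈ B, k * b * k⁻¹ ∈ A) : NF p P B k⁻¹ := by
  obtain ⟨c, hc, l, hl, y, hy, rfl⟩ := h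
  obtain ⟨l', hl', hl2⟩ := hl.inv
  have h1 : NF p P B y⁻¹ := nf_of_normalizer (inv_mem hy)
  have h2 : NF p P (A.map (MulAut.conj (prd l)⁻¹).toMonoidHom) (prd l)⁻¹ := by
    have := nf_of_chain hl'
    rwa [hl2] at this
  have h3 : NF p P A c⁻¹ := nf_of_centralizer (inv_mem hc)
  have h4 := h2.comp h3 (fun a ha => by
    rw [mem_map_conj_iff] at ha
    exact ha)
  have h5 := h1.comp h4 (fun b hb => by
    rw [mem_map_conj_iff]
    have h6 := hBA b hb
    have h7 : c⁻¹ * (c * prd l * y * b * (c * prd l * y)⁻¹) * c ∈ A := by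
      have := ((Subgroup.mem_normalizer_iff.mp
        (centralizer_le_normalizer _ (inv_mem hc))) _).mp h6
      rwa [inv_inv] at this
    have e : c⁻¹ * (c * prd l * y * b * (c * prd l * y)⁻¹) * c =
      (prd l)⁻¹⁻¹ * (y⁻¹⁻¹ * b * y⁻¹) * (prd l)⁻¹ := by group
    rwa [e] at h7)
  have e : y⁻¹ * ((prd l)⁻¹ * c⁻¹) = (c * prd l * y)⁻¹ := by group
  rwa [e] at h5

theorem nf_all [Finite G] {p : ℕ} [Fact p.Prime] (P : Sylow p G) (A : Subgroup G) (k : G)
    (hA : A ≤ (P : Subgroup G)) (hk : ∀ a ∈ A, k⁻¹ * a * k ∈ (P : Subgroup G)) :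
    NF p (P : Subgroup G) A k := by
  have main := GoodFusion.good_of_fullyNormalized P
    (fun H g => NF p (P : Subgroup G) H g⁻¹)
    (fun H H' g h h' => h.mono h')
    (fun H K g g' h hHK h' => by
      have h1 : NF p (P : Subgroup G) H (g⁻¹ * g'⁻¹) := h.comp h' (fun a ha => by
        rw [inv_inv]; exact hHK a ha)
      rwa [← mul_inv_rev] at h1)
    (fun H K g h hK => h.inv (fun b hb => by
      rw [inv_inv]; exact hK b hb))
    (fun g hg => nf_of_normalizer (inv_mem hg))
    (fun F hFP hT hIH => by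
      have hid : ∀ {g : G}, g ∈ normalizer (F : Set G) → ∀ a ∈ F, g⁻¹ * a * g ∈ F := by
        intro g hg a ha
        have := ((Subgroup.mem_normalizer_iff.mp (inv_mem hg)) a).mp ha
        rwa [inv_inv] at this
      have hid' : ∀ {g : G}, g ∈ normalizer (F : Set G) → ∀ a ∈ F, g * a * g⁻¹ ∈ F := by
        intro g hg a ha
        exact ((Subgroup.mem_normalizer_iff.mp hg) a).mp ha
      let M : Subgroup G :=
        { carrier := {m | m ∈ normalizer (F : Set G) ∧ NF p (P : Subgroup G) F m}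
          mul_mem' := fun {a b} ha hb => ⟨mul_mem ha.1 hb.1, ha.2.comp hb.2 (hid ha.1)⟩
          one_mem' := ⟨one_mem _, nf_of_centralizer (one_mem _)⟩
          inv_mem' := fun {a} ha => ⟨inv_mem ha.1, ha.2.inv (hid' ha.1)⟩ }
      have hM : normalizer (F : Set G) ≤ M := by
        refine local_step P hFP hT M (fun m hm => hm.1)
          (fun c hc => ⟨centralizer_le_normalizer _ hc, nf_of_centralizer hc⟩) ?_ ?_
        · intro R hR hRP m hm hmR
          have h1 := hIH R hRP (Cfsg.Agent.PLocal.ConjFunctor.card_lt_card_of_lt hR) m hmR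
          have h2 : NF p (P : Subgroup G) F m⁻¹ := h1.mono hR.le
          have h3 : m⁻¹ ∈ M := ⟨inv_mem hm, h2⟩
          have := M.inv_mem h3
          rwa [inv_inv] at this
        · intro X hX x hx
          have h1 : x ∈ normalizer (F : Set G) := hX.Xle (map_subtype_le _ hx)
          refine ⟨h1, ?_⟩
          have h2 : Chain p (P : Subgroup G) F [(F, X, x)] := ⟨le_rfl, hX, hx, trivial⟩
          have h3 := nf_of_chain h2
          simpa using h3
      intro n hn
      exact (hM (inv_mem hn)).2)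
  have h1 := main A k⁻¹ hA (fun a ha => by rw [inv_inv]; exact hk a ha)
  simp only [inv_inv] at h1
  exact h1

theorem take_prod_ofFn_cond {p : ℕ} {P : Subgroup G} : ∀ {l : List (Subgroup G × Subgroup G × G)}
    {A : Subgroup G}, Chain p P A l → ∀ i : Fin l.length,
      EssData p P (l.get i).1 (l.get i).2.1 ∧
      (l.get i).2.2 ∈ (pResidual p (l.get i).2.1).map ((l.get i).2.1).subtype ∧
      ∀ a ∈ A, (((l.map fun t => t.2.2).take i.val).prod)⁻¹ * a *
        ((l.map fun t => t.2.2).take i.val).prod ∈ (l.get i).1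
  | [], _, _, i => i.elim0
  | (t :: l), A, h, ⟨0, _⟩ => ⟨h.2.1, h.2.2.1, fun a ha => by simpa using h.1 ha⟩
  | (t :: l), A, h, ⟨i + 1, hi⟩ => by
    have ih := take_prod_ofFn_cond h.2.2.2 ⟨i, by simpa using hi⟩
    refine ⟨ih.1, ih.2.1, fun a ha => ?_⟩
    have h1 := ih.2.2 (t.2.2⁻¹ * a * t.2.2) ⟨a, ha, by simp⟩
    simp only [List.map_cons, List.take_succ_cons, List.prod_cons, List.get_eq_getElem,
      List.getElem_cons_succ] at h1 ⊢
    have e : (t.2.2 * (List.take i (List.map (fun t => t.2.2) l)).prod)⁻¹ * a *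
      (t.2.2 * (List.take i (List.map (fun t => t.2.2) l)).prod) =
      (List.take i (List.map (fun t => t.2.2) l)).prod⁻¹ * (t.2.2⁻¹ * a * t.2.2) *
        (List.take i (List.map (fun t => t.2.2) l)).prod := by group
    rw [e]
    exact h1

end Cfsg.Agent.H278.EssChain
end

-- part: S3072
section
set_option autoImplicit false

namespace Cfsg.Agent.S3072

open Cfsg.Agent.H278.EssChain

/-- A strong form of the Alperin–Goldschmidt fusion Theorem. Let P be a Sylow p-subgroup of the finite group G, A a subset of P containing a nonidentity element, and g an element with g⁻¹Ag ⊆ P. Then g = c·x₁⋯xₙ·y with c ∈ C_G(A), y ∈ N_G(P) and, for each i, an element xᵢ and a subgroup Hᵢ ≤ P such that: N_P(Hᵢ) is a Sylow p-subgroup of N_G(Hᵢ); C_P(Hᵢ) ≤ Hᵢ; O_{p',p}(N_G(Hᵢ)) = Hᵢ·C_G(Hᵢ); the Sylow p-subgroups of N_G(Hᵢ)/Hᵢ are not chain-connected through nontrivial intersections (the quotient has a strongly p-embedded subgroup); xᵢ lies in O^p(Xᵢ), where Xᵢ/Hᵢ is the smallest normal subgroup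 of N_G(Hᵢ)/Hᵢ of order divisible by p; and (x₁⋯xᵢ₋₁)⁻¹A(x₁⋯xᵢ₋₁) ⊆ Hᵢ. -/
theorem result {G : Type*} [Group G] [Finite G] {p : ℕ} [Fact p.Prime]
    (P : Sylow p G) (A : Set G) (hA : A ⊆ (P : Set G)) (hA1 : ∃ a ∈ A, a ≠ 1)
    (g : G) (hAg : (fun a => g⁻¹ * a * g) '' A ⊆ (P : Set G)) :
    ∃ (n : ℕ) (H X : Fin n → Subgroup G) (x : Fin n → G) (c y : G),
      c ∈ Subgroup.centralizer A ∧ y ∈ Subgroup.normalizer ((P : Subgroup G) : Set G) ∧
      g = c * (List.ofFn x).prod * y ∧
      ∀ i : Fin n,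
        H i ≤ (P : Subgroup G) ∧
        ¬ p ∣ ((P : Subgroup G) ⊓ Subgroup.normalizer (H i : Set G)).relIndex (Subgroup.normalizer (H i : Set G)) ∧
        (P : Subgroup G) ⊓ Subgroup.centralizer (H i : Set G) ≤ H i ∧
        (Cfsg.pPrimePCore p ↥(Subgroup.normalizer (H i : Set G))).map (Subgroup.normalizer (H i : Set G)).subtype =
          H i ⊔ Subgroup.centralizer (H i : Set G) ∧
        ¬ Cfsg.IsSylowChainConnected p
            (↥(Subgroup.normalizer (H i : Set G)) ⧸ (H i).subgroupOf (Subgroup.normalizer (H i : Set G))) ∧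
        (H i ≤ X i ∧ X i ≤ Subgroup.normalizer (H i : Set G) ∧
          ((X i).subgroupOf (Subgroup.normalizer (H i : Set G))).Normal ∧ p ∣ (H i).relIndex (X i) ∧
          ∀ Y : Subgroup G, H i ≤ Y → Y ≤ Subgroup.normalizer (H i : Set G) →
            (Y.subgroupOf (Subgroup.normalizer (H i : Set G))).Normal → p ∣ (H i).relIndex Y → X i ≤ Y) ∧
        x i ∈ (Cfsg.pResidual p ↥(X i)).map (X i).subtype ∧
        (fun a => (((List.ofFn x).take i.val).prod)⁻¹ * a * ((List.ofFn x).take i.val).prod) '' A ⊆ (H i : Set G) := by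
  have h1 : Subgroup.closure A ≤ (P : Subgroup G) := (Subgroup.closure_le _).mpr hA
  have h2 : ∀ a ∈ Subgroup.closure A, g⁻¹ * a * g ∈ (P : Subgroup G) := by
    intro a ha
    have h3 : Subgroup.closure A ≤ (P : Subgroup G).map (MulAut.conj g).toMonoidHom := by
      rw [Subgroup.closure_le]
      intro b hb
      exact Cfsg.Agent.Transfer.FusionBasic.mem_map_conj_iff.mpr (hAg ⟨b, hb, rfl⟩)
    exact Cfsg.Agent.Transfer.FusionBasic.mem_map_conj_iff.mp (h3 ha)
  obtain ⟨c, hc, l, hl, y, hy, hg⟩ := nf_all P (Subgroup.closure A) g h1 h2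
  have hof : List.ofFn (fun i : Fin l.length => (l.get i).2.2) = l.map fun t => t.2.2 := by
    have e : (fun i : Fin l.length => (l.get i).2.2) =
      (fun t : Subgroup G × Subgroup G × G => t.2.2) ∘ l.get := rfl
    rw [e, ← List.map_ofFn, List.ofFn_get]
  refine ⟨l.length, fun i => (l.get i).1, fun i => (l.get i).2.1, fun i => (l.get i).2.2, c, y,
    ?_, hy, ?_, ?_⟩
  · exact Subgroup.centralizer_le Subgroup.subset_closure hc
  · rw [hof]; exact hg
  · intro i
    obtain ⟨h3, h4, h5⟩ := take_prod_ofFn_cond hl i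
    refine ⟨h3.le, h3.syl, h3.cent, h3.rad, h3.disc, ⟨h3.leX, h3.Xle, h3.normX, h3.dvdX, h3.minX⟩,
      h4, ?_⟩
    rintro _ ⟨a, ha, rfl⟩
    rw [hof]
    exact h5 a (Subgroup.subset_closure ha)

end Cfsg.Agent.S3072
end
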