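import Cfsg.Agent.H282.PU.One
import Cfsg.Agent.Mrg.Omega.SQ1.NodeI
import Cfsg.Agent.Solvable.SchurZassenhausConj
import Cfsg.Agent.UGT.A7.Five
import Cfsg.Statements.S3090
set_option linter.all false

-- part: H282/PU/Alg
section
/-!
# S3090: the structure of `K / O₂(K)` from the FF theorem
-/

set_option autoImplicit false
set_option linter.unusedSectionVars false
set_option linter.unusedVariables false

namespace Cfsg.Agent.H282.PU

open Subgroup Cfsg Cfsg.Agent.PLocal.ThompsonJ Cfsg.Agent.ZN.ChoiceBase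
open Cfsg.Agent.ZN (o2 zl zj jj bau zc)
open Cfsg.Agent.ZN.ChoiceSit
open Cfsg.Agent.Omega.NatPair Cfsg.Agent.Lib.SL2Mat
open Cfsg.Agent.Omega.SQ1.FFOne Cfsg.Agent.Omega.SQ1.VOf
open Cfsg.Agent.Omega.FFThm
open Cfsg.Agent.Omega.FrameFF (cv)
open Cfsg.Agent.Omega.SQ1.FFOf (off_of_AA cv_le cv_norm)
open Cfsg.Agent.MinSimple.VModule (oddGen mem_oddGen oddGen_le le_normalizer_oddGen)
open scoped Pointwise

universe u v

variable {G : Type u} [Group G] [Finite G]

namespace Ctx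

variable {K M Q T : Subgroup G} (c : Ctx K M Q T)

include c

/-- a power of `g ∈ K T` in `K`, with exponent `≡ 1 (mod n)`, `n` odd -/
theorem exists_pow {g : G} (hg : g ∈ K ⊔ T) {n : ℕ} (hn : Odd n) : ∃ j : ℕ, g ^ j ∈ K ∧ j ≡ 1 [MOD n] := by
  obtain ⟨k, hk, t, ht, rfl⟩ := c.exists_mul hg
  obtain ⟨a, ha⟩ := c.two ⟨t, ht⟩
  have ha' : t ^ 2 ^ a = 1 := by simpa using congrArg Subtype.val ha
  obtain ⟨k', hk', h⟩ := c.pow_mem hk ht (2 ^ a)
  rw [ha', mul_one] at h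
  have hnpos : 0 < n := hn.pos
  have hφ : 0 < Nat.totient n := Nat.totient_pos.2 hnpos
  refine ⟨(2 ^ a) ^ Nat.totient n, ?_, ?_⟩
  · obtain ⟨m, hm⟩ := Nat.exists_eq_succ_of_ne_zero hφ.ne'
    rw [hm, Nat.succ_eq_add_one, pow_succ', pow_mul]
    apply K.pow_mem
    rw [h]; exact hk'
  · apply Nat.ModEq.pow_totient
    exact Nat.Coprime.pow_left _ (Nat.coprime_two_left.2 hn)

/-- **An element of `K` acting trivially on `V / D` is in `O₂(K)`**, `D = C_V(K)`. -/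
theorem triv (hne : ((K ⊔ T) ⊓ centralizer (zl T (K ⊔ T) : Set G)) ⊔ T ≠ K ⊔ T) (hm : MinH (K ⊔ T) T)
    {x : G} (hx : x ∈ K)
    (h : ∀ v ∈ zl T (K ⊔ T), v⁻¹ * (x * v * x⁻¹) ∈ cv T (K ⊔ T)) : x ∈ o2 K := by
  set H := K ⊔ T with hH
  set V := zl T H with hV
  set D := cv T H with hD
  have hKH : K ≤ H := le_sup_left
  have hVn : ∀ g ∈ H, ∀ v ∈ V, g * v * g⁻¹ ∈ V := zl_norm
  have hDn : ∀ g ∈ H, ∀ v ∈ D, g * v * g⁻¹ ∈ D := cv_norm
  have hKD : ∀ g ∈ K, ∀ d ∈ D, g * d * g⁻¹ = d := by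
    intro g hg d hd
    have h1 := mem_centralizer_iff.1 hd.2 g (by rw [c.oddGen_eq]; exact hg)
    rw [h1]; group
  have hVsq : ∀ v ∈ V, v * v = 1 := fun v hv => by
    rw [← pow_two]; exact Cfsg.Agent.Omega.SQ1.VOf.MinH.sq hm v hv
  have hVQ : V ≤ o2 H := Cfsg.Agent.Omega.SQ1.VOf.MinH.zl_le_o2 hm
  have hQV : ∀ q ∈ o2 H, ∀ v ∈ V, q * v = v * q := Cfsg.Agent.Omega.SQ1.VOf.MinH.o2_cent hm
  have hVc : ∀ v ∈ V, ∀ w ∈ V, v * w = w * v := fun v hv w hw => hQV v (hVQ hv) w hw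
  -- `C_K(V) ≤ O₂(K)`
  have hKV : K ⊓ centralizer (V : Set G) ≤ o2 K := by
    rcases c.simple_K (N := K ⊓ centralizer (V : Set G)) inf_le_left (by
      rintro k hk y ⟨hyK, hyV⟩
      refine ⟨K.mul_mem (K.mul_mem hk hyK) (K.inv_mem hk), mem_centralizer_iff.2 fun v hv => ?_⟩
      have h1 : k⁻¹ * v * k ∈ V := by
        have := hVn k⁻¹ (H.inv_mem (hKH hk)) v hv
        rwa [inv_inv] at this
      have h2 := mem_centralizer_iff.1 hyV _ h1
      calc v * (k * y * k⁻¹) = k * (k⁻¹ * v * k * y) * k⁻¹ := by group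
        _ = k * (y * (k⁻¹ * v * k)) * k⁻¹ := by rw [h2]
        _ = _ := by group) with h1 | h1
    · exact h1
    · exfalso
      apply hne
      apply le_antisymm
      · exact sup_le inf_le_left le_sup_right
      · refine sup_le (fun k hk => ?_) le_sup_right
        obtain ⟨y, hy, hyk⟩ := h1 k hk
        have h2 : y⁻¹ * k ∈ T := c.QT (c.OQ hyk)
        have h3 : k = y * (y⁻¹ * k) := by group
        rw [h3]
        exact mul_mem (mem_sup_left ⟨hKH hy.1, hy.2⟩) (mem_sup_right h2)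
  -- the subgroup
  let N₀ : Subgroup G := {
    carrier := {x | x ∈ K ∧ ∀ v ∈ V, v⁻¹ * (x * v * x⁻¹) ∈ D}
    one_mem' := ⟨K.one_mem, fun v _ => by
      have : v⁻¹ * (1 * v * 1⁻¹) = 1 := by group
      rw [this]; exact one_mem _⟩
    mul_mem' := by
      rintro x y ⟨hx, hx'⟩ ⟨hy, hy'⟩
      refine ⟨K.mul_mem hx hy, fun v hv => ?_⟩
      have h1 := hx' _ (hVn y (hKH hy) v hv)
      have h2 := D.mul_mem (hy' v hv) h1
      have e : v⁻¹ * (y * v * y⁻¹) * ((y * v * y⁻¹)⁻¹ * (x * (y * v * y⁻¹) * x⁻¹)) =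
        v⁻¹ * (x * y * v * (x * y)⁻¹) := by group
      rwa [e] at h2
    inv_mem' := by
      rintro x ⟨hx, hx'⟩
      refine ⟨K.inv_mem hx, fun v hv => ?_⟩
      have h1 := hVn x⁻¹ (H.inv_mem (hKH hx)) v hv
      have h2 := D.inv_mem (hx' _ h1)
      have e : ((x⁻¹ * v * x⁻¹⁻¹)⁻¹ * (x * (x⁻¹ * v * x⁻¹⁻¹) * x⁻¹))⁻¹ = v⁻¹ * (x⁻¹ * v * x⁻¹⁻¹) := by group
      rwa [e] at h2 }
  have hN₀sq : ∀ y ∈ N₀, y * y ∈ o2 K := by
    rintro y ⟨hyK, hy⟩
    apply hKV
    refine ⟨K.mul_mem hyK hyK, mem_centralizer_iff.2 fun v hv => ?_⟩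
    have h1 := hy v hv
    set d := v⁻¹ * (y * v * y⁻¹) with hd
    have h2 : y * v * y⁻¹ = v * d := by rw [hd]; group
    have h3 : y * d * y⁻¹ = d := hKD y hyK d h1
    have h4 : y * y * v * (y * y)⁻¹ = v := by
      calc y * y * v * (y * y)⁻¹ = y * (y * v * y⁻¹) * y⁻¹ := by group
        _ = y * (v * d) * y⁻¹ := by rw [h2]
        _ = (y * v * y⁻¹) * (y * d * y⁻¹) := by group
        _ = v * (d * d) := by rw [h2, h3, mul_assoc]
        _ = v := by rw [hVsq d (cv_le h1), mul_one]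
    exact (mul_inv_eq_iff_eq_mul.1 h4).symm
  rcases c.simple_K (N := N₀) (fun y hy => hy.1) (by
    rintro k hk y ⟨hyK, hyV⟩
    refine ⟨K.mul_mem (K.mul_mem hk hyK) (K.inv_mem hk), fun v hv => ?_⟩
    have h1 := hVn k⁻¹ (H.inv_mem (hKH hk)) v hv
    have h2 := hDn k (hKH hk) _ (hyV _ h1)
    have e : k * ((k⁻¹ * v * k⁻¹⁻¹)⁻¹ * (y * (k⁻¹ * v * k⁻¹⁻¹) * y⁻¹)) * k⁻¹ =
      v⁻¹ * (k * y * k⁻¹ * v * (k * y * k⁻¹)⁻¹) := by group
    rwa [e] at h2) with h1 | h1
  · exact h1 ⟨hx, h⟩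
  · exfalso
    have hoN : o2 K ≤ N₀ := by
      intro y hy
      refine ⟨o2_le K hy, fun v hv => ?_⟩
      have h2 : y ∈ o2 H := by rw [c.o2_eq]; exact c.OQ hy
      rw [hQV y h2 v hv]
      have e : v⁻¹ * (v * y * y⁻¹) = 1 := by group
      rw [e]; exact one_mem _
    have hKN : ∀ k ∈ K, k * k ∈ o2 K := by
      intro k hk
      apply hN₀sq
      obtain ⟨y, hy, hyk⟩ := h1 k hk
      have h3 : k = y * (y⁻¹ * k) := by group
      rw [h3]
      exact mul_mem hy (hoN hyk)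
    apply c.K_not_two
    intro k
    obtain ⟨n, hn⟩ := (isPGroup_o2 K) ⟨_, hKN k k.2⟩
    refine ⟨n + 1, ?_⟩
    have hn' : ((k : G) * k) ^ 2 ^ n = 1 := by simpa using congrArg Subtype.val hn
    apply Subtype.ext
    show (k : G) ^ 2 ^ (n + 1) = 1
    rw [pow_succ', pow_mul, pow_two, hn']

end Ctx

/-! ### Abstract actions -/

/-- "`x` acts as `A`" -/
structure Rep (K M Q T : Subgroup G) (k : ℕ) (Γ : Type) [Group Γ] (R : G → (Fin k → Γ) → Prop) : Prop where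
  c : Ctx K M Q T
  pos : 0 < k
  one : R 1 1
  mul : ∀ x y A B, R x A → y ∈ K ⊔ T → R y B → R (x * y) (A * B)
  inj : ∀ x A B, R x A → R x B → A = B
  triv : ∀ x ∈ K, R x 1 → x ∈ o2 K
  o2 : ∀ x ∈ o2 K, R x 1
  lift : ∀ A, ∃ g ∈ K ⊔ T, R g A
  conj : ∀ g ∈ K, ∀ x ∈ K, ∀ A, R x A → ∃ B, R (g * x * g⁻¹) B
  γ : ∃ γ : Γ, γ ≠ 1 ∧ Odd (orderOf γ)

namespace Rep

variable {K M Q T : Subgroup G} {k : ℕ} {Γ : Type} [Group Γ] {R : G → (Fin k → Γ) → Prop}
variable (r : Rep K M Q T k Γ R)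

include r

theorem pow {g : G} {A : Fin k → Γ} (hg : g ∈ K ⊔ T) (h : R g A) (n : ℕ) : R (g ^ n) (A ^ n) := by
  induction n with
  | zero => rw [pow_zero, pow_zero]; exact r.one
  | succ n ih => rw [pow_succ, pow_succ]; exact r.mul _ _ _ _ ih hg h

/-- elements of odd order lift to `K` -/
theorem exists_lift {A : Fin k → Γ} {n : ℕ} (hn : Odd n) (hA : A ^ n = 1) : ∃ x ∈ K, R x A := by
  obtain ⟨g, hg, hgA⟩ := r.lift A
  obtain ⟨j, hj, hj1⟩ := r.c.exists_pow hg hn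
  refine ⟨g ^ j, hj, ?_⟩
  have h1 := r.pow hg hgA j
  have h2 : A ^ j = A := by
    have h3 : A ^ j = A ^ 1 := by
      rw [pow_eq_pow_iff_modEq]
      exact hj1.of_dvd (orderOf_dvd_of_pow_eq_one hA)
    rwa [pow_one] at h3
  rwa [h2] at h1

theorem inv {g : G} {A : Fin k → Γ} (hg : g ∈ K) (h : R g A) : R g⁻¹ A⁻¹ := by
  have hg' : g ∈ K ⊔ T := mem_sup_left hg
  have hpos : 0 < orderOf g := orderOf_pos g
  have h1 := r.pow hg' h (orderOf g - 1)
  have h2 : g ^ (orderOf g - 1) = g⁻¹ := by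
    rw [eq_inv_iff_mul_eq_one, ← pow_succ, Nat.sub_add_cancel hpos, pow_orderOf_eq_one]
  have h3 : A ^ (orderOf g - 1) = A⁻¹ := by
    rw [eq_inv_iff_mul_eq_one, ← pow_succ, Nat.sub_add_cancel hpos]
    have h4 := r.pow hg' h (orderOf g)
    rw [pow_orderOf_eq_one] at h4
    exact r.inj _ _ _ h4 r.one
  rwa [h2, h3] at h1

/-- a subgroup of `K` defined by a normal condition -/
theorem cover (p : (Fin k → Γ) → Prop) (h1 : p 1) (hm : ∀ A B, p A → p B → p (A * B)) (hi : ∀ A, p A → p A⁻¹)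
    (hc : ∀ x ∈ K, ∀ g ∈ K, ∀ A, p A → R x A → ∃ B, p B ∧ R (g * x * g⁻¹) B)
    {x₀ : G} (hx₀ : x₀ ∈ K) {A₀ : Fin k → Γ} (hA₀ : R x₀ A₀) (hp : p A₀) (hA1 : A₀ ≠ 1) :
    ∀ x ∈ K, ∃ A, p A ∧ R x A := by
  let N : Subgroup G := {
    carrier := {x | x ∈ K ∧ ∃ A, p A ∧ R x A}
    one_mem' := ⟨K.one_mem, 1, h1, r.one⟩
    mul_mem' := by
      rintro x y ⟨hx, A, hA, hxA⟩ ⟨hy, B, hB, hyB⟩
      exact ⟨K.mul_mem hx hy, A * B, hm _ _ hA hB, r.mul _ _ _ _ hxA (mem_sup_left hy) hyB⟩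
    inv_mem' := by
      rintro x ⟨hx, A, hA, hxA⟩
      exact ⟨K.inv_mem hx, A⁻¹, hi _ hA, r.inv hx hxA⟩ }
  have hNK : N ≤ K := fun x hx => hx.1
  have hoN : Cfsg.Agent.ZN.o2 K ≤ N := fun x hx => ⟨o2_le K hx, 1, h1, r.o2 x hx⟩
  rcases r.c.simple_K hNK (by
    rintro g hg x ⟨hx, A, hA, hxA⟩
    exact ⟨K.mul_mem (K.mul_mem hg hx) (K.inv_mem hg), hc x hx g hg A hA hxA⟩) with h | h
  · exfalso
    apply hA1
    have h2 : x₀ ∈ Cfsg.Agent.ZN.o2 K := h ⟨hx₀, A₀, hp, hA₀⟩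
    exact r.inj _ _ _ hA₀ (r.o2 _ h2)
  · intro x hx
    obtain ⟨y, hy, hyx⟩ := h x hx
    have h2 : x ∈ N := by
      have e : x = y * (y⁻¹ * x) := by group
      rw [e]
      exact mul_mem hy (hoN hyx)
    exact h2.2

/-- an element acting as `γ` on the summand `i` -/
theorem exists_single (i : Fin k) {γ : Γ} (ho : Odd (orderOf γ)) : ∃ x ∈ K, R x (Pi.mulSingle i γ) := by
  apply r.exists_lift ho
  rw [← Pi.mulSingle_pow, pow_orderOf_eq_one, Pi.mulSingle_one]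

/-- every element of `K` acts -/
theorem all : ∀ x ∈ K, ∃ A, R x A := by
  obtain ⟨γ, hγ1, hγ⟩ := r.γ
  obtain ⟨x, hx, hxA⟩ := r.exists_single ⟨0, r.pos⟩ hγ
  have h := r.cover (fun _ => True) trivial (fun _ _ _ _ => trivial) (fun _ _ => trivial)
    (fun x hx g hg A _ hA => by
      obtain ⟨B, hB⟩ := r.conj g hg x hx A hA
      exact ⟨B, trivial, hB⟩) hx hxA trivial (by
      intro h1
      apply hγ1
      have h2 := congrFun h1 ⟨0, r.pos⟩
      rwa [Pi.mulSingle_eq_same] at h2)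
  intro y hy
  obtain ⟨A, -, hA⟩ := h y hy
  exact ⟨A, hA⟩

/-- `K` acts on the conjugates by conjugation -/
theorem conj' {g x : G} (hg : g ∈ K) (hx : x ∈ K) {A B : Fin k → Γ} (hA : R x A) (hB : R g B) :
    R (g * x * g⁻¹) (B * A * B⁻¹) :=
  r.mul _ _ _ _ (r.mul _ _ _ _ hB (mem_sup_left hx) hA) (mem_sup_left (K.inv_mem hg)) (r.inv hg hB)

/-- **There is only one summand.** -/
theorem eq_one : k = 1 := by
  by_contra hne
  have hk := r.pos
  obtain ⟨γ, hγ1, hγ⟩ := r.γ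
  have hi : (⟨1, by omega⟩ : Fin k) ≠ ⟨0, hk⟩ := fun h => by
    have := congrArg Fin.val h
    simp at this
  obtain ⟨x, hx, hxA⟩ := r.exists_single ⟨0, hk⟩ hγ
  obtain ⟨y, hy, hyA⟩ := r.exists_single ⟨1, by omega⟩ hγ
  have h := r.cover (fun A => A ⟨1, by omega⟩ = 1) rfl
    (fun A B hA hB => by rw [Pi.mul_apply, hA, hB, one_mul])
    (fun A hA => by rw [Pi.inv_apply, hA, inv_one])
    (fun x hx g hg A hA hxA => by
      obtain ⟨B, hB⟩ := r.all g hg
      refine ⟨_, ?_, r.conj' hg hx hxA hB⟩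
      rw [Pi.mul_apply, Pi.mul_apply, hA, mul_one, Pi.inv_apply, mul_inv_cancel])
    hx hxA (by rw [Pi.mulSingle_eq_of_ne hi]) (by
      intro h1
      apply hγ1
      have h2 := congrFun h1 ⟨0, hk⟩
      rwa [Pi.mulSingle_eq_same] at h2)
  obtain ⟨B, hB1, hB⟩ := h y hy
  have h2 := r.inj _ _ _ hyA hB
  rw [← h2, Pi.mulSingle_eq_same] at hB1
  exact hγ1 hB1

end Rep

/-- **The homomorphism** -/
theorem Rep.exists_hom {K M Q T : Subgroup G} {Γ : Type} [Group Γ] {R : G → (Fin 1 → Γ) → Prop}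
    (r : Rep K M Q T 1 Γ R) : ∃ f : K →* Γ, f.ker = pCore 2 ↥K ∧ (∀ x : K, R x fun _ => f x) ∧
      ∀ γ : Γ, Odd (orderOf γ) → ∃ x, f x = γ := by
  choose A hA using fun x : K => r.all x x.2
  have hA' : ∀ x : K, A x = fun _ => A x 0 := by
    intro x
    funext i
    rw [Subsingleton.elim i 0]
  refine ⟨MonoidHom.mk' (fun x => A x 0) fun x y => ?_, ?_, ?_, ?_⟩
  · have h1 := r.mul _ _ _ _ (hA x) (mem_sup_left y.2) (hA y)
    have h2 := r.inj _ _ _ (hA (x * y)) h1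
    exact congrFun h2 0
  · ext x
    rw [MonoidHom.mem_ker]
    show A x 0 = 1 ↔ x ∈ pCore 2 ↥K
    rw [r.c.mem_pCore x.2]
    constructor
    · intro h
      apply r.triv _ x.2
      have h1 := hA x
      have h2 : A x = 1 := by
        rw [hA' x, h]; rfl
      rwa [h2] at h1
    · intro h
      have h1 := r.inj _ _ _ (hA x) (r.o2 _ h)
      rw [h1]; rfl
  · intro x
    have h1 := hA x
    rw [hA' x] at h1
    exact h1
  · intro γ hγ
    obtain ⟨x, hx, hxA⟩ := r.exists_single 0 hγ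
    refine ⟨⟨x, hx⟩, ?_⟩
    show A ⟨x, hx⟩ 0 = γ
    rw [r.inj _ _ _ (hA ⟨x, hx⟩) hxA, Pi.mulSingle_eq_same]

end Cfsg.Agent.H282.PU
end

-- part: H282/PU/Two
section
/-!
# S3090: the symmetric case, if `T` is a Sylow 2-subgroup of `M`
-/

set_option autoImplicit false
set_option linter.unusedSectionVars false
set_option linter.unusedVariables false

namespace Cfsg.Agent.H282.PU

open Subgroup Cfsg Cfsg.Agent.PLocal.ThompsonJ Cfsg.Agent.ZN.ChoiceBase
open Cfsg.Agent.ZN (o2 zl zj jj bau zc)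
open Cfsg.Agent.ZN.ChoiceSit
open Cfsg.Agent.Omega.SQ1.FFOne Cfsg.Agent.Omega.SQ1.VOf
open Cfsg.Agent.Omega.SQ1
open Cfsg.Agent.Omega.SQ1.Match
open Cfsg.Agent.Omega.FFThm
open Cfsg.Agent.Omega.SQ1.FFOf (off_of_AA cv_le cv_norm)
open scoped Pointwise

universe u v

variable {G : Type u} [Group G] [Finite G]

/-! ### Rank four from one block -/

section rank

open Cfsg.Agent.Omega.SQ1.Two

variable {T Q : Subgroup G} {s a b z z₁ x : G} {R : Subgroup G}

/-- `S ∩ N(Q) = T` -/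
theorem norm_inf {S : Sylow 2 G} (hs : Syl T (normalizer (Q : Set G))) (hTS : T ≤ (S : Subgroup G)) {y : G}
    (hy : y ∈ (S : Subgroup G)) (hyQ : y ∈ normalizer (Q : Set G)) : y ∈ T := by
  have h1 := hs.2.2 ((S : Subgroup G) ⊓ normalizer (Q : Set G)) inf_le_right (S.isPGroup'.to_le inf_le_left)
    (le_inf hTS hs.1)
  rw [← h1]
  exact ⟨hy, hyQ⟩

theorem rank_of_ne (h : Blk T Q s a b z z₁ x R) (hc : IsCharacteristicTwoType G) (S : Sylow 2 G)
    (hTS : T ≤ (S : Subgroup G)) (hsS : s ∈ (S : Subgroup G)) {c : G} (hcR : c ∈ R) (hc1 : c ≠ 1) :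
    SectionalPRankLE 2 4 G := by
  have hp : Fact (Nat.Prime 2) := ⟨Nat.prime_two⟩
  have hle : zpowers s ≤ normalizer (T : Set G) := zpowers_le.2 h.sT
  have hTB := h.T_eq hc
  -- elements of `T⟨s⟩`
  have hA : ∀ y ∈ T ⊔ zpowers s, y ∈ T ∨ s⁻¹ * y ∈ T := fun y hy => SitOf.mem_A h.sT h.ss hy
  -- elements of `s T` act on `D` as `s`
  have hbB := h.bB
  have hR : ∀ r ∈ R, r = 1 ∨ r = c := by
    intro r hr
    by_cases hr1 : r = 1
    · exact Or.inl hr1
    · exact Or.inr (h.R_unique hc hr hcR hr1 hc1)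
  have hsz : s⁻¹ * z * s = z := by
    calc s⁻¹ * z * s = s⁻¹ * (s * z * s⁻¹) * s := by rw [h.sz]
      _ = z := by group
  have hsc : s * c * s⁻¹ ≠ c := by
    intro e
    apply hc1
    refine h.sR hc hcR ?_
    have e' : s⁻¹ * c * s = c := by
      calc s⁻¹ * c * s = s⁻¹ * (s * c * s⁻¹) * s := by rw [e]
        _ = c := by group
    rw [e']; exact hcR
  have hzc : z * c = c * z := h.comm h.zQ (h.RQ hcR)
  -- elements of `D` fixed by `s`
  have hDs : ∀ d ∈ Q ⊓ cj s Q, s * d * s⁻¹ = d → d = 1 ∨ d = z := by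
    intro d hd hsd
    have hdc : ∀ d' : G, s * (d' * z) * s⁻¹ = s * d' * s⁻¹ * z := by
      intro d'
      calc s * (d' * z) * s⁻¹ = s * d' * s⁻¹ * (s * z * s⁻¹) := by group
        _ = _ := by rw [h.sz]
    -- `d ∈ R ∪ R z`
    have hq := h.dec d hd.1
    have hz1 : ∀ w, w ∈ Q ⊓ cj s Q → w ∉ R → ¬ (d * w ∈ R ∧ w ∉ Q ⊓ cj s Q) := fun w hw _ h1 => h1.2 hw
    rcases hq with h1 | h1 | h1 | h1
    · rcases hR _ h1 with h2 | h2
      · exact Or.inl h2
      · exact absurd (h2 ▸ hsd) hsc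
    · rcases hR _ h1 with h2 | h2
      · right
        calc d = d * z * z := by rw [mul_assoc, h.zz, mul_one]
          _ = z := by rw [h2, one_mul]
      · exfalso
        apply hsc
        rw [← h2, hdc, hsd]
    · exfalso
      apply h.z1D
      have h2 := mul_mem (inv_mem hd) (h.RD h1)
      rwa [inv_mul_cancel_left] at h2
    · exfalso
      apply h.z1D
      have h2 := mul_mem (inv_mem hd) (h.RD h1)
      rw [inv_mul_cancel_left] at h2
      have h3 := mul_mem h2 (inv_mem h.zD)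
      rwa [mul_inv_cancel_right] at h3
  -- `|Q| ≥ 5`
  have hcardQ : 4 < Nat.card Q := by
    by_contra hcon
    push Not at hcon
    have hz1ne : z₁ ≠ 1 := fun h1 => h.z1D (h1 ▸ one_mem _)
    have h8 := Nat.card_pos (α := R)
    -- `R` has index 4
    classical
    have hfin : (Q : Set G) ⊇ (({1, z, z₁, z₁ * z, c} : Finset G) : Set G) := by
      intro q hq
      simp only [Finset.coe_insert, Finset.coe_singleton, Set.mem_insert_iff, Set.mem_singleton_iff] at hq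
      rcases hq with rfl | rfl | rfl | rfl | rfl
      · exact one_mem _
      · exact h.zQ
      · exact h.z1Q
      · exact mul_mem h.z1Q h.zQ
      · exact h.RQ hcR
    have h5 : ({1, z, z₁, z₁ * z, c} : Finset G).card = 5 := by
      have n0 : (1 : G) ≠ z := h.z1.symm
      have n1 : z ≠ z₁ * z := fun e => hz1ne (mul_eq_right.1 e.symm)
      have n2 : z₁ ≠ z₁ * z := fun e => h.z1 (mul_eq_left.1 e.symm)
      have n3 : (1 : G) ≠ z₁ * z := by
        intro h1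
        apply h.z1_ne
        calc z₁ = z₁ * z * z := by rw [mul_assoc, h.zz, mul_one]
          _ = z := by rw [← h1, one_mul]
      have n4 : z ≠ c := fun e => h.zR (e ▸ hcR)
      have n5 : z₁ ≠ c := fun e => h.z1D (e ▸ h.RD hcR)
      have n6 : z₁ * z ≠ c := by
        intro e
        apply h.z1D
        have h2 := mul_mem (h.RD hcR) (inv_mem h.zD)
        rw [← e, mul_inv_cancel_right] at h2
        exact h2
      rw [Finset.card_insert_of_notMem, Finset.card_insert_of_notMem, Finset.card_insert_of_notMem,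
        Finset.card_insert_of_notMem, Finset.card_singleton]
      · simp only [Finset.mem_singleton]; exact n6
      · simp only [Finset.mem_insert, Finset.mem_singleton, not_or]; exact ⟨n2, n5⟩
      · simp only [Finset.mem_insert, Finset.mem_singleton, not_or]; exact ⟨h.z1_ne.symm, n1, n4⟩
      · simp only [Finset.mem_insert, Finset.mem_singleton, not_or]; exact ⟨n0, hz1ne.symm, n3, hc1.symm⟩
    have h6 : ({1, z, z₁, z₁ * z, c} : Finset G).card ≤ Nat.card Q := by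
      have h7 := Set.ncard_le_ncard hfin (Set.toFinite _)
      rw [Set.ncard_coe_finset] at h7
      exact h7
    omega
  -- `S = T⟨s⟩`
  have hAS : T ⊔ zpowers s ≤ (S : Subgroup G) := sup_le hTS (zpowers_le.2 hsS)
  have hSA : (S : Subgroup G) = T ⊔ zpowers s := by
    by_contra hne
    have hlt : T ⊔ zpowers s < (S : Subgroup G) := lt_of_le_of_ne hAS (Ne.symm hne)
    obtain ⟨y, hyS, hyN, hyA, -⟩ := Cfsg.Agent.MinSimple.Choice97.exists_normalizing S.isPGroup' hlt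
    apply hyA
    have hyn : ∀ w ∈ T ⊔ zpowers s, y * w * y⁻¹ ∈ T ⊔ zpowers s := fun w hw => conj_mem_of_norm hyN hw
    have hsub : cj y Q ≤ T := by
      by_contra hns
      obtain ⟨e, he, heT⟩ := Set.not_subset.1 hns
      obtain ⟨q, hq, rfl⟩ := he
      have heT' : y * q * y⁻¹ ∉ T := heT
      have heA : y * q * y⁻¹ ∈ T ⊔ zpowers s := hyn q ((le_sup_left : T ≤ _) (h.QT hq))
      have hse : s⁻¹ * (y * q * y⁻¹) ∈ T := (hA _ heA).resolve_left heT'
      -- `y q y⁻¹` acts on `D` as `s`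
      have hact : ∀ f ∈ cj y Q ⊓ T, f = 1 ∨ f = z := by
        rintro f ⟨⟨q', hq', rfl⟩, hfT⟩
        have hfT' : y * q' * y⁻¹ ∈ T := hfT
        have hcomm : (y * q * y⁻¹) * (y * q' * y⁻¹) = (y * q' * y⁻¹) * (y * q * y⁻¹) := by
          have := h.comm hq hq'
          calc (y * q * y⁻¹) * (y * q' * y⁻¹) = y * (q * q') * y⁻¹ := by group
            _ = y * (q' * q) * y⁻¹ := by rw [this]
            _ = _ := by group
        have hff : (y * q' * y⁻¹) * (y * q' * y⁻¹) = 1 := by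
          calc (y * q' * y⁻¹) * (y * q' * y⁻¹) = y * (q' * q') * y⁻¹ := by group
            _ = 1 := by rw [h.sq q' hq']; group
        show y * q' * y⁻¹ = 1 ∨ y * q' * y⁻¹ = z
        generalize y * q' * y⁻¹ = f at hcomm hff hfT'
        generalize y * q * y⁻¹ = e at hcomm hse
        have hzp : zpowers f ≤ Q ∨ zpowers f ≤ cj s Q := by
          apply h.le_or_le
          · rw [← hTB]; exact zpowers_le.2 hfT'
          · intro w hw
            obtain ⟨n, rfl⟩ := mem_zpowers_iff.1 hw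
            rw [← zpow_add, ← two_mul, zpow_mul]
            have : f ^ (2 : ℤ) = 1 := by
              rw [show (2 : ℤ) = ((2 : ℕ) : ℤ) from rfl, zpow_natCast, pow_two]; exact hff
            rw [this, one_zpow]
        have hef : e * f * e⁻¹ = f := by rw [hcomm]; group
        have hTQ : ∀ t ∈ T, ∀ w ∈ Q, t * w * t⁻¹ ∈ Q := fun t ht w hw => h.conj (h.TN ht) hw
        -- `e` swaps `Q` and `Q^s`
        have heQ : ∀ w ∈ Q, e * w * e⁻¹ ∈ cj s Q := by
          intro w hw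
          have h1 := hTQ _ hse w hw
          have h2 : e * w * e⁻¹ = s * (s⁻¹ * e * w * (s⁻¹ * e)⁻¹) * s⁻¹ := by group
          rw [h2]
          exact ⟨_, h1, rfl⟩
        have hfD : f ∈ Q ⊓ cj s Q := by
          rcases hzp with h1 | h1
          · have h2 := h1 (mem_zpowers f)
            refine ⟨h2, ?_⟩
            have h3 := heQ f h2
            rwa [hef] at h3
          · have h2 := h1 (mem_zpowers f)
            refine ⟨?_, h2⟩
            obtain ⟨w, hw, hwf⟩ := h2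
            have hwf' : s * w * s⁻¹ = f := hwf
            have h3 : e⁻¹ * f * e = f := by rw [mul_assoc, ← hcomm]; group
            have h4 : s⁻¹ * e ∈ T := hse
            -- `f = e f e⁻¹`, with `e = s t`
            have h5 : e = s * (s⁻¹ * e) := by group
            have h6 : f = s * s * ((s⁻¹ * (s⁻¹ * e) * s) * w * (s⁻¹ * (s⁻¹ * e) * s)⁻¹) * (s * s)⁻¹ := by
              calc f = e * f * e⁻¹ := hef.symm
                _ = e * (s * w * s⁻¹) * e⁻¹ := by rw [hwf']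
                _ = _ := by group
            rw [h6]
            apply hTQ _ h.ss
            apply hTQ _ _ _ hw
            have := conj_mem_of_norm (inv_mem h.sT) h4
            rwa [inv_inv] at this
        have hsf : s * f * s⁻¹ = f := by
          have h1 : s⁻¹ * e * f * (s⁻¹ * e)⁻¹ = f := by
            have h2 : s⁻¹ * e ∈ Q ⊔ cj s Q := by rw [← hTB]; exact hse
            rw [h.D_comm h2 hfD]; group
          calc s * f * s⁻¹ = s * (s⁻¹ * e * f * (s⁻¹ * e)⁻¹) * s⁻¹ := by rw [h1]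
            _ = e * f * e⁻¹ := by group
            _ = f := hef
        exact hDs f hfD hsf
      have h1 : Nat.card (cj y Q ⊓ T : Subgroup G) ≤ 2 := by
        have h2 : (cj y Q ⊓ T : Subgroup G) ≤ zpowers z := by
          intro f hf
          rcases hact f hf with rfl | rfl
          · exact one_mem _
          · exact mem_zpowers _
        refine (Subgroup.card_le_of_le h2).trans ?_
        rw [Nat.card_zpowers]
        exact Nat.le_of_dvd two_pos (orderOf_dvd_of_pow_eq_one (by rw [pow_two]; exact h.zz))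
      have h2 : Nat.card (cj y Q) ≤ 2 * Nat.card (cj y Q ⊓ T : Subgroup G) := by
        have hqe : y * q * y⁻¹ ∈ cj y Q := ⟨q, hq, rfl⟩
        apply End.card_le_two_mul hqe
        rintro _ ⟨q', hq', rfl⟩
        have h3 : y * q' * y⁻¹ ∈ T ⊔ zpowers s := hyn q' ((le_sup_left : T ≤ _) (h.QT hq'))
        rcases hA _ h3 with h4 | h4
        · exact Or.inl ⟨⟨q', hq', rfl⟩, h4⟩
        · right
          have hqe' : y * q' * y⁻¹ ∈ cj y Q := ⟨q', hq', rfl⟩
          refine ⟨(cj y Q).mul_mem ((cj y Q).inv_mem hqe) hqe', ?_⟩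
          have h5 := mul_mem (inv_mem hse) h4
          have h6 : (s⁻¹ * (y * q * y⁻¹))⁻¹ * (s⁻¹ * (y * q' * y⁻¹)) = (y * q * y⁻¹)⁻¹ * (y * q' * y⁻¹) := by
            group
          rw [h6] at h5
          exact h5
      rw [card_cj] at h2
      omega
    rcases h.cj_Q hsub with h1 | h1
    · exact mem_sup_left (norm_inf h.syl hTS hyS (mem_normalizer_iff_cj.2 h1))
    · have h2 : s⁻¹ * y ∈ normalizer (Q : Set G) := by
        rw [mem_normalizer_iff_cj, ← cj_cj, h1, cj_inv_cj]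
      have h3 := norm_inf h.syl hTS (mul_mem (inv_mem hsS) hyS) h2
      have h4 := mul_mem (mem_sup_right (mem_zpowers s) : s ∈ T ⊔ zpowers s) (mem_sup_left h3)
      rwa [mul_inv_cancel_left] at h4
  -- `|S| ≤ 32`
  have hcardS : Nat.card (S : Subgroup G) ≤ 32 := by
    have h1 := h.card_T hc hcR hc1
    have h2 : Nat.card (S : Subgroup G) ≤ 2 * Nat.card T := by
      apply End.card_le_two_mul hsS
      intro e he
      rw [hSA] at he
      exact hA e he
    omega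
  -- an element of order 4
  apply TwoFusion.SectionalRank.sectionalPRankLE_of_sylow S
  have hb' : s⁻¹ * z₁ * s ∈ cj s Q := h.swap'' h.z1Q
  have hb'D : s⁻¹ * z₁ * s ∉ Q ⊓ cj s Q := h.s_notMem' h.z1D
  set y := z₁ * (s⁻¹ * z₁ * s) with hy
  have hyT : y ∈ T := by
    rw [hTB]
    exact mul_mem (mem_sup_left h.z1Q) (mem_sup_right hb')
  have hyy : y * y = z := by
    have h1 := h.zeq h.z1Q h.z1D hb' hb'D
    rw [hy, ← h1]; simp only [mul_assoc]
  have hy4 : orderOf y = 4 := by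
    have h1 : y ^ 2 ^ 1 ≠ 1 := by
      rw [pow_one, pow_two, hyy]; exact h.z1
    have h2 : y ^ 2 ^ (1 + 1) = 1 := by
      have e : y ^ 2 ^ (1 + 1) = (y * y) * (y * y) := by
        rw [show (2 : ℕ) ^ (1 + 1) = 4 from rfl]
        simp only [pow_succ, pow_zero, one_mul, mul_assoc]
      rw [e, hyy, h.zz]
    exact orderOf_eq_prime_pow h1 h2
  set C : Subgroup (S : Subgroup G) := zpowers ⟨y, hTS hyT⟩ with hC
  have hC4 : Nat.card C = 4 := by
    rw [hC, Nat.card_zpowers, Subgroup.orderOf_mk, hy4]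
  refine TwoFusion.SectionalRank.sectionalPRankLE_of_cyclic (p := 2) (k := 3) (by norm_num) C ?_
  have h1 := C.card_mul_index
  rw [hC4] at h1
  have h2 : Nat.card ((S : Subgroup G) : Type u) ≤ 32 := hcardS
  norm_num
  omega

end rank

/-! ### The configuration -/

namespace Conf

variable {K M Q T : Subgroup G} {s : G} {S : Sylow 2 G} (c : Conf K M Q T s S)

include c

/-- `T` is a Sylow 2-subgroup of `N_G(P)` for the nontrivial 2-subgroups `P` normalised by `K T`. -/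
theorem syl_P (hM : Syl T M) {P : Subgroup G} (hP : IsPGroup 2 P) (hP0 : P ≠ ⊥)
    (hHP : K ⊔ T ≤ normalizer (P : Set G)) : Syl T (normalizer (P : Set G)) :=
  ⟨le_sup_right.trans hHP, c.two, fun R hR hR2 hTR => hM.2.2 R (hR.trans (c.norm_le hP hP0 hHP)) hR2 hTR⟩

variable {ι : Type v} {A P : Subgroup G} {L Q' V D : ι → Subgroup G}

theorem hself (hM : Syl T M) (h : MIn A T (bau T) (zj T) P s L Q' V D) (i : ι) (hP0 : P ≠ ⊥)
    (hHP : K ⊔ T ≤ normalizer (P : Set G)) : centralizer (P : Set G) ≤ P := by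
  have hP2 : IsPGroup 2 P := c.two.to_le h.P_le_T
  refine JC.self_cent_of c.c2 hP2 hP0 (c.syl_P hM hP2 hP0 hHP) ?_
  intro x hx hxP
  have hZP : ∀ z ∈ zj T, z ∈ P := fun z hz => h.VP ((h.dat i).ZV hz)
  have hxB : x ∈ bau T := Cfsg.Agent.ZN.ChoiceBase.mem_bau.2 ⟨hx, fun z hz => (hxP z (hZP z hz)).symm⟩
  refine (h.Pmem x).2 ⟨hxB, fun j => ?_⟩
  exact (h.dat j).QcV x hxB fun v hv => hxP v (h.VP hv)

/-- **There is only one block.** -/
theorem one_block [Finite ι] (hM : Syl T M) (h : MIn A T (bau T) (zj T) P s L Q' V D)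
    (hHP : K ⊔ T ≤ normalizer (P : Set G)) {E : Subgroup G} (hE : E ∈ AA T) (hEP : E ≤ P) :
    Subsingleton ι := by
  constructor
  intro i i'
  by_contra hii
  have hP2 : IsPGroup 2 P := c.two.to_le h.P_le_T
  have hP0 := GlueTwo.P_ne_bot h i
  have hPA : P ∈ AA T := h.P_AA i hE hEP
  have hS := c.syl_P hM hP2 hP0 hHP
  exact KillTwo.one_block_all (JC.charTwo c.c2) h hZ_bau (c.two.to_le (bau_le T))
    (c.hself hM h i hP0 hHP) (Block.jcond_of hS (h.J_eq i hPA))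
    (fun R hR hRN => GlueTwo.syl_conj_of hS hR hRN)
    (fun F hF hsq hc => GlueTwo.AA_of h i hPA hF hsq hc) hii

/-- `N_G(P)` does not normalise `B`. -/
theorem not_norm (h : MIn A T (bau T) (zj T) P s L Q' V D) (i : ι)
    (hHP : K ⊔ T ≤ normalizer (P : Set G)) :
    ¬ normalizer (P : Set G) ≤ normalizer (bau T : Set G) := by
  intro h1
  have hP0 := GlueTwo.P_ne_bot h i
  have hB0 : bau T ≠ ⊥ := by
    intro h0
    apply hP0
    rw [eq_bot_iff]
    intro x hx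
    have := ((h.Pmem x).1 hx).1
    rwa [h0] at this
  apply c.sM
  exact c.norm_le (c.two.to_le (bau_le T)) hB0 (hHP.trans h1) (normalizer_le_bau T c.sN)

/-- **One block**: the pushing up situation. -/
theorem push_of (hM : Syl T M) (h : MIn A T (bau T) (zj T) P s L Q' V D)
    (i : ι) (hi : ∀ j, j = i) (hHP : K ⊔ T ≤ normalizer (P : Set G))
    (h2 : (zj T).relIndex (V i) = 2) : Two.Push T (bau T) P (V i) s := by
  have hP2 : IsPGroup 2 P := c.two.to_le h.P_le_T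
  have hP0 := GlueTwo.P_ne_bot h i
  have hPQ : P = Q' i := by
    apply le_antisymm
    · exact fun x hx => ((h.Pmem x).1 hx).2 i
    · exact fun x hx => (h.Pmem x).2 ⟨(h.dat i).QB hx, fun j => by rw [hi j]; exact hx⟩
  refine ⟨c.syl_P hM hP2 hP0 hHP, fun x hx => ((h.Pmem x).1 hx).1, bau_le T, fun v hv => h.VP hv,
    (h.dat i).Vsq, fun y hy q hq => (h.PV hq hy).symm, ?_, c.sN, normalizer_le_bau T c.sN, c.sq,
    jj_le_bau T, ?_, ?_, ?_⟩
  · intro t ht hc
    have htB : t ∈ bau T := mem_bau.2 ⟨ht, fun z hz => (hc z ((h.dat i).ZV hz)).symm⟩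
    rw [hPQ]
    exact (h.dat i).QcV t htB hc
  · rw [hPQ, ← Block.idx_eq (h.dat i)]
    exact h2
  · obtain ⟨j, v, hv, u, hu, hne⟩ := h.par_exists i
    rw [hi j] at hu
    exact ⟨v, hv, u, hu, hne⟩
  · intro R hR hn hs
    exact c.core R (hR.trans h.P_le_T) (fun x hx r hr => conj_mem_of_norm (hn (hHP hx)) hr)
      (fun r hr => conj_mem_of_norm hs hr)

/-- **One block, `q = 2`**: sectional 2-rank at most 4. -/
theorem rank_of (hM : Syl T M) (h : MIn A T (bau T) (zj T) P s L Q' V D) (i : ι) (hi : ∀ j, j = i)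
    (hHP : K ⊔ T ≤ normalizer (P : Set G)) (h2 : (zj T).relIndex (V i) = 2) :
    SectionalPRankLE 2 4 G := by
  have hpush := c.push_of hM h i hi hHP h2
  obtain ⟨a, b, z, hf⟩ := hpush.hyp.exists_frame
  have hmove : ¬ normalizer (P : Set G) ≤ normalizer ((P ⊔ cj s P : Subgroup G) : Set G) := by
    rw [← hpush.B_eq]; exact c.not_norm h i hHP
  obtain ⟨g, hg, hgB⟩ := SetLike.not_le_iff_exists.1 hmove
  rw [mem_normalizer_iff_cj] at hgB
  obtain ⟨z₁, x, R, hB⟩ := hf.exists_blk c.c2 hg hgB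
  by_cases hR : R = ⊥
  · exact hB.rank_of_bot S c.TS hR
  · obtain ⟨⟨r, hcR⟩, hc1⟩ := (Subgroup.ne_bot_iff_exists_ne_one).1 hR
    exact rank_of_ne hB c.c2 S c.TS c.sS hcR fun h1 => hc1 (Subtype.ext h1)

/-- **The symmetric case**, `T` a Sylow 2-subgroup of `M`. -/
theorem two_end (hM : Syl T M) {k m : ℕ} (hk : 0 < k) (hm : 1 ≤ m)
    (N : SymK T (K ⊔ T) (zl T (K ⊔ T)) (Cfsg.Agent.Omega.FrameFF.cv T (K ⊔ T)) k m) :
    SectionalPRankLE 2 4 G := by
  obtain ⟨ι, N', d, t, r, ⟨i⟩, h, hp⟩ := Cfsg.Agent.Omega.NO3b.FPB.SymIn.main c.cf.minH c.cf.nle c.ff.1 hk hm N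
  have : Finite ι := h.finite_index
  have hTA : T ≤ T ⊔ zpowers s := le_sup_left
  have hAT : T ⊔ zpowers s ≤ normalizer (T : Set G) := sup_le le_normalizer (zpowers_le.2 c.sN)
  have idx : ∀ a ∈ T ⊔ zpowers s, ∀ b ∈ T ⊔ zpowers s, a ∉ T → b ∉ T → a⁻¹ * b ∈ T := by
    intro a ha b hb haT hbT
    have h1 := (SitOf.mem_A c.sN c.sq ha).resolve_left haT
    have h2 := (SitOf.mem_A c.sN c.sq hb).resolve_left hbT
    have h3 := mul_mem (inv_mem h1) h2
    have e : (s⁻¹ * a)⁻¹ * (s⁻¹ * b) = a⁻¹ * b := by group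
    rwa [e] at h3
  obtain ⟨L, -, -, hL⟩ := h.min_in hp hTA hAT idx
    (fun R hR hH hA => c.core R hR hH (hA s (mem_sup_right (mem_zpowers s))))
    (mem_sup_right (mem_zpowers s)) c.sT
  obtain ⟨E, hE, hEP⟩ := EndTwo.exists_AA h
  have h1 := c.one_block hM hL (EndTwo.norm_star h i) hE hEP
  exact c.rank_of hM hL i (fun j => Subsingleton.elim j i) (EndTwo.norm_star h i) (BauS.Blk.relIndex_Z h)

end Conf

end Cfsg.Agent.H282.PU
end

-- part: H282/PU/TB
section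
/-!
# The end `T = B` without simplicity

In the situation `Base` (`k = 1`, `q ≥ 4`) with `T = B`, `G` has a nontrivial normal 2-subgroup.
-/

set_option autoImplicit false
set_option linter.unusedSectionVars false
set_option linter.unusedVariables false

namespace Cfsg.Agent.H282.PU

open Subgroup Cfsg Cfsg.Agent.ZN Cfsg.Agent.ZN.ChoiceSit Cfsg.Agent.ZN.ChoiceBase
open Cfsg.Agent.Omega.SQ1.End
open Cfsg.Agent.Lib.GoldschmidtFusion (mem_map_conj card_map_conj exists_conj_le_in exists_sylow_in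
  lt_inf_normalizer)

open scoped Pointwise

universe u

variable {G : Type u} [Group G] [Finite G]

/-- **Schur–Zassenhaus**: complements of a normal 2-subgroup are conjugate. -/
theorem sz {B W A A' : Subgroup G} (hB : IsPGroup 2 B) (hBW : B ≤ W) (hn : W ≤ normalizer (B : Set G))
    (hodd : ¬ 2 ∣ Nat.card A) (hA : A ≤ W) (hA' : A' ≤ W) (h1 : Nat.card A = B.relIndex W)
    (h2 : Nat.card A' = B.relIndex W) : ∃ b ∈ B, cj b A = A' := by
  have hp : Fact (Nat.Prime 2) := ⟨Nat.prime_two⟩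
  have hN : (B.subgroupOf W).Normal := by
    rw [normal_subgroupOf_iff_le_normalizer hBW]; exact hn
  have hcB : Nat.card (B.subgroupOf W) = Nat.card B := Nat.card_congr (Subgroup.subgroupOfEquivOfLe hBW).toEquiv
  have hcA : Nat.card (A.subgroupOf W) = Nat.card A := Nat.card_congr (Subgroup.subgroupOfEquivOfLe hA).toEquiv
  have hcA' : Nat.card (A'.subgroupOf W) = Nat.card A' :=
    Nat.card_congr (Subgroup.subgroupOfEquivOfLe hA').toEquiv
  have hcop : (Nat.card (B.subgroupOf W)).Coprime (B.subgroupOf W).index := by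
    obtain ⟨n, hn⟩ := IsPGroup.iff_card.1 hB
    rw [hcB, hn]
    apply Nat.Coprime.pow_left
    rw [Nat.prime_two.coprime_iff_not_dvd]
    have h3 : (B.subgroupOf W).index = Nat.card A := h1.symm
    rwa [h3]
  have hc1 := Solvable.SchurZassenhausConj.isComplement'_of_card_eq_index (B.subgroupOf W) (A.subgroupOf W) hcop
    (by rw [hcA]; exact h1)
  have hc2 := Solvable.SchurZassenhausConj.isComplement'_of_card_eq_index (B.subgroupOf W) (A'.subgroupOf W) hcop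
    (by rw [hcA']; exact h2)
  have hsolv : Group.IsSolvable (B.subgroupOf W) := by
    have hB' : IsPGroup 2 (B.subgroupOf W) := hB.comap_subtype
    have := hB'.isNilpotent
    infer_instance
  obtain ⟨w, hw⟩ := Solvable.SchurZassenhausConj.conj_of_solvable (B.subgroupOf W) hcop (Or.inl hsolv) _ _ hc1 hc2
  have h3 : cj (w : G) A = A' := Solvable.SchurZassenhausConj.conj_of_conj_subgroupOf W A A' hA hA' w hw
  have h4 : w ∈ ((B.subgroupOf W : Set W) * (A.subgroupOf W : Set W)) := by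
    rw [hc1.mul_eq]; trivial
  obtain ⟨b, hb, a, ha, hab⟩ := h4
  refine ⟨b, hb, ?_⟩
  have h5 : (w : G) = b * a := (congrArg Subtype.val hab).symm
  have h6 : cj (a : G) A = A := cj_eq_of_mem_normalizer (le_normalizer ha)
  rw [← h3, h5, ← cj_cj, h6]

omit [Finite G] in
theorem relIndex_sup_of {D A : Subgroup G} (hn : A ≤ normalizer (D : Set G)) :
    D.relIndex (D ⊔ A) = D.relIndex A := by
  rw [sup_comm]
  have := Subgroup.normal_subgroupOf_of_le_normalizer hn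
  have := Subgroup.normal_subgroupOf_sup_of_le_normalizer hn
  exact (Nat.card_congr (QuotientGroup.quotientInfEquivProdNormalizerQuotient A D hn).toEquiv).symm

/-- an involution in a 2-group, with a property stable under squares -/
theorem exists_inv' {R : Subgroup G} (h2 : IsPGroup 2 R) (p : G → Prop)
    (hp : ∀ x, p x → p (x ^ 2)) {x : G} (hxR : x ∈ R) (hx : x ≠ 1) (hpx : p x) :
    ∃ y ∈ R, y ≠ 1 ∧ y ^ 2 = 1 ∧ p y := by
  obtain ⟨n, hn⟩ := h2 ⟨x, hxR⟩
  have hn' : x ^ 2 ^ n = 1 := by simpa using congrArg Subtype.val hn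
  clear hn
  induction n generalizing x with
  | zero => exact absurd (by simpa using hn') hx
  | succ n ih =>
    by_cases hxx : x ^ 2 = 1
    · exact ⟨x, hxR, hx, hxx, hpx⟩
    · exact ih (R.pow_mem hxR 2) hxx (hp x hpx) (by rw [← pow_mul, ← pow_succ']; exact hn')

/-- the situation `T = B` -/
structure TEnd (S : Sylow 2 G) (T B Q₁ Q₂ D C₁ C₂ : Subgroup G) (s : G) (q : ℕ) : Prop
    extends Base (S : Subgroup G) T B Q₁ Q₂ D C₁ C₂ s q where
  leB : T ≤ B
  c2t : IsCharacteristicTwoType G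
  go1 : ∀ d e, Gd D C₁ C₂ d → Gd D C₁ C₂ e → ∃ n ∈ normalizer (B : Set G), n * d * n⁻¹ = e
  cent : ∀ z, Gd D C₁ C₂ z → centralizer ({z} : Set G) ≤ normalizer (B : Set G)
  fus1 : ∀ x ∈ Q₁, ∃ l : G, l * x * l⁻¹ ∈ D
  fus2 : ∀ x ∈ Q₂, ∃ l : G, l * x * l⁻¹ ∈ D

namespace TEnd

variable {S : Sylow 2 G} {T B Q₁ Q₂ D C₁ C₂ : Subgroup G} {s : G} {q : ℕ}
variable (h : TEnd S T B Q₁ Q₂ D C₁ C₂ s q)

include h

theorem BS : B ≤ (S : Subgroup G) := h.BT.trans h.TS

theorem mem_T_of {x : G} (hx : x ∈ (S : Subgroup G)) (hxB : x ∉ B) : s⁻¹ * x ∈ T :=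
  (h.mem_S hx).resolve_left fun h1 => hxB (h.leB h1)

theorem coset {x y : G} (hx : x ∈ (S : Subgroup G)) (hxB : x ∉ B) (hy : y ∈ (S : Subgroup G)) (hyB : y ∉ B) :
    x⁻¹ * y ∈ B := by
  have h1 := h.mem_T_of hx hxB
  have h2 := h.mem_T_of hy hyB
  have h3 := h.leB (T.mul_mem (T.inv_mem h1) h2)
  have e : (s⁻¹ * x)⁻¹ * (s⁻¹ * y) = x⁻¹ * y := by group
  rwa [e] at h3

theorem mem_NB {z g : G} (hz : Gd D C₁ C₂ z) (hg : Gd D C₁ C₂ (g * z * g⁻¹)) : g ∈ normalizer (B : Set G) :=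
  Base.mem_NB h.go1 h.cent hz hg

omit [Finite G] h in
theorem hcx {x y : G} : y ∈ centralizer ({x} : Set G) ↔ x * y * x⁻¹ = y := by
  rw [mem_centralizer_singleton_iff, mul_inv_eq_iff_eq_mul]
  exact eq_comm

theorem cosetW {x : G} (hxS : x ∈ (S : Subgroup G)) (hxB : x ∉ B) :
    ∀ y ∈ ((S : Subgroup G) ⊓ centralizer ({x} : Set G) : Subgroup G),
      y ∈ (B ⊓ centralizer ({x} : Set G) : Subgroup G) ∨
        x⁻¹ * y ∈ (B ⊓ centralizer ({x} : Set G) : Subgroup G) := by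
  rintro y ⟨hyS, hyx⟩
  by_cases hyB : y ∈ B
  · exact Or.inl ⟨hyB, hyx⟩
  · right
    refine ⟨h.coset hxS hxB hyS hyB, (centralizer ({x} : Set G)).mul_mem
      ((centralizer ({x} : Set G)).inv_mem (hcx.2 (by group))) hyx⟩

/-- `N_G(C_S(x)) ≤ N_G(B)` for an involution `x ∈ S ∖ B`. -/
theorem NW {x : G} (hxS : x ∈ (S : Subgroup G)) (hxB : x ∉ B) (hxx : x * x = 1) {n : G}
    (hn : ∀ w ∈ ((S : Subgroup G) ⊓ centralizer ({x} : Set G) : Subgroup G),
      n * w * n⁻¹ ∈ ((S : Subgroup G) ⊓ centralizer ({x} : Set G) : Subgroup G)) :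
    n ∈ normalizer (B : Set G) := by
  have hsx : s⁻¹ * x ∈ T := h.mem_T_of hxS hxB
  have hBS := h.BS
  set U : Subgroup G := B ⊓ centralizer ({x} : Set G) with hU
  set W : Subgroup G := (S : Subgroup G) ⊓ centralizer ({x} : Set G) with hW
  have hUW : U ≤ W := inf_le_inf_right _ hBS
  have hxW : x ∈ W := ⟨hxS, hcx.2 (by group)⟩
  have hcoset : ∀ y ∈ W, y ∈ U ∨ x⁻¹ * y ∈ U := h.cosetW hxS hxB
  have hxinv : x⁻¹ = x := inv_eq_of_mul_eq_one_right hxx
  by_cases hsq : ∃ u ∈ U, u * u ≠ 1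
  · obtain ⟨u, hu, hu2⟩ := hsq
    have h1 := h.sq_good hu.1 hu2
    have hv := hn u (hUW hu)
    have hvv : n * u * n⁻¹ * (n * u * n⁻¹) = n * (u * u) * n⁻¹ := by group
    have hne : n * (u * u) * n⁻¹ ≠ 1 := by
      intro h2
      apply hu2
      have h3 : u * u = n⁻¹ * (n * (u * u) * n⁻¹) * n := by group
      rw [h3, h2]; group
    apply h.mem_NB h1
    rw [← hvv] at hne ⊢
    rcases hcoset _ hv with h2 | h2
    · exact h.sq_good h2.1 hne
    · have h3 := hcx.1 h2.2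
      have h4 : x⁻¹ * (n * u * n⁻¹) * (x⁻¹ * (n * u * n⁻¹)) = n * u * n⁻¹ * (n * u * n⁻¹) := by
        have h5 : x * (x⁻¹ * (n * u * n⁻¹)) = x⁻¹ * (n * u * n⁻¹) * x :=
          mul_inv_eq_iff_eq_mul.1 h3
        calc x⁻¹ * (n * u * n⁻¹) * (x⁻¹ * (n * u * n⁻¹))
            = x⁻¹ * (n * u * n⁻¹) * x * (n * u * n⁻¹) := by rw [hxinv]; group
          _ = x * (x⁻¹ * (n * u * n⁻¹)) * (n * u * n⁻¹) := by rw [h5]
          _ = _ := by group
      rw [← h4] at hne ⊢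
      exact h.sq_good h2.1 hne
  · push Not at hsq
    have hUD : U ≤ D := by
      intro u hu
      have hxu := hcx.1 hu.2
      rcases h.inv_mem_or hu.1 (hsq u hu) with h1 | h1
      · have h2 := h.swap1 hsx h1
        rw [hxu] at h2
        exact (h.memD u).2 ⟨h1, h2⟩
      · have h2 := h.swap2 hsx h1
        rw [hxu] at h2
        exact (h.memD u).2 ⟨h2, h1⟩
    have hUeq : U = D ⊓ centralizer ({x} : Set G) :=
      le_antisymm (le_inf hUD inf_le_right) (inf_le_inf_right _ h.DB)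
    rcases h.toBase.dich hxS hxx with h4 | hfr
    · -- `|U| ≥ 4`
      rw [← hUeq] at h4
      let Un : Subgroup G := U.map (MulAut.conj n).toMonoidHom
      have hUn : Nat.card Un = Nat.card U := card_map_conj U n
      have hUnW : Un ≤ W := by
        rintro _ ⟨u, hu, rfl⟩
        exact hn u (hUW hu)
      have hle : Nat.card Un ≤ 2 * Nat.card (Un ⊓ U : Subgroup G) := by
        by_cases hsub : Un ≤ U
        · exact card_le_two_mul Un.one_mem (fun e he => Or.inl ⟨he, hsub he⟩)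
        · obtain ⟨f, hf, hfU⟩ := Set.not_subset.1 hsub
          apply card_le_two_mul hf
          intro e he
          rcases hcoset e (hUnW he) with h5 | h5
          · exact Or.inl ⟨he, h5⟩
          · right
            have h6 := (hcoset f (hUnW hf)).resolve_left hfU
            refine ⟨Un.mul_mem (Un.inv_mem hf) he, ?_⟩
            have h7 := U.mul_mem (U.inv_mem h6) h5
            have h8 : (x⁻¹ * f)⁻¹ * (x⁻¹ * e) = f⁻¹ * e := by group
            rwa [h8] at h7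
      have h5 : 1 < Nat.card (Un ⊓ U : Subgroup G) := by omega
      rw [Subgroup.one_lt_card_iff_ne_bot] at h5
      obtain ⟨⟨d, hd⟩, hd1⟩ := Subgroup.ne_bot_iff_exists_ne_one.1 h5
      have hd1' : d ≠ 1 := fun h6 => hd1 (Subtype.ext h6)
      have hdn : n⁻¹ * d * n ∈ U := mem_map_conj.1 hd.1
      have h6 : Gd D C₁ C₂ d := h.gd_of_swap hsx (hUD hd.2) hd1' (hcx.1 hd.2.2)
      have h7 : Gd D C₁ C₂ (n⁻¹ * d * n) := by
        apply h.gd_of_swap hsx (hUD hdn) _ (hcx.1 hdn.2)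
        intro h8
        apply hd1'
        have h9 : d = n * (n⁻¹ * d * n) * n⁻¹ := by group
        rw [h9, h8]; group
      have h8 : n⁻¹ ∈ normalizer (B : Set G) := by
        apply h.mem_NB h6
        rw [inv_inv]; exact h7
      have h9 := (normalizer (B : Set G)).inv_mem h8
      rwa [inv_inv] at h9
    · -- `x` acts freely on `D`
      exfalso
      obtain ⟨a, ha, haD⟩ := h.exists_a
      have ha' := h.swap1 hsx ha
      set a' := x * a * x⁻¹ with ha'def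
      have hxa' : x * a' * x⁻¹ = a := by
        calc x * a' * x⁻¹ = x * x * a * (x * x)⁻¹ := by rw [ha'def]; group
          _ = a := by rw [hxx]; group
      have hbB : a * a' ∈ B := B.mul_mem (h.Q1B ha) (h.Q2B ha')
      have hxb : x * (a * a') * x⁻¹ = a' * a := by
        calc x * (a * a') * x⁻¹ = (x * a * x⁻¹) * (x * a' * x⁻¹) := by group
          _ = a' * a := by rw [hxa']
      set d := (a * a')⁻¹ * (a' * a) with hddef
      have hdD : d ∈ D := by
        have h1 := h.commB (B.inv_mem (h.Q2B ha')) (B.inv_mem (h.Q1B ha))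
        have h2 : a'⁻¹ * a⁻¹ * a'⁻¹⁻¹ * a⁻¹⁻¹ = d := by rw [hddef]; group
        rwa [h2] at h1
      have hxb' : x * (a * a') * x⁻¹ = a * a' * d := by rw [hxb, hddef]; group
      have hxd : x * d * x⁻¹ = d := by
        have h1 : x * (x * (a * a') * x⁻¹) * x⁻¹ = a * a' := by
          calc x * (x * (a * a') * x⁻¹) * x⁻¹ = x * x * (a * a') * (x * x)⁻¹ := by group
            _ = a * a' := by rw [hxx]; group
        rw [hxb'] at h1
        have h2 : a * a' * d * (x * d * x⁻¹) = a * a' := by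
          calc a * a' * d * (x * d * x⁻¹) = x * (a * a') * x⁻¹ * (x * d * x⁻¹) := by rw [hxb']
            _ = x * (a * a' * d) * x⁻¹ := by group
            _ = a * a' := h1
        have h3 : d * (x * d * x⁻¹) = 1 := by
          have h4 : a * a' * (d * (x * d * x⁻¹)) = a * a' := by rw [← mul_assoc]; exact h2
          exact mul_eq_left.1 h4
        have h5 : x * d * x⁻¹ = d⁻¹ := by
          rw [mul_eq_one_iff_inv_eq] at h3; exact h3.symm
        rw [h5, h.inv1 (h.D1 hdD)]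
      obtain ⟨u, hu, hu2⟩ := hfr d hdD (by rw [hxd, inv_mul_cancel]; exact one_mem _)
      rw [mem_bot, inv_mul_eq_one] at hu2
      have hxu : x * u * x⁻¹ ∈ D := h.P_D hxS hu
      have hbu : a * a' * u ∈ U := by
        refine ⟨B.mul_mem hbB (h.DB hu), hcx.2 ?_⟩
        calc x * (a * a' * u) * x⁻¹ = x * (a * a') * x⁻¹ * (x * u * x⁻¹) := by group
          _ = a * a' * d * (x * u * x⁻¹) := by rw [hxb']
          _ = a * a' * u * ((x * u * x⁻¹) * (x * u * x⁻¹)) := by rw [hu2]; group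
          _ = a * a' * u := by rw [h.sqD hxu, mul_one]
      have h1 := D.mul_mem (hUD hbu) (D.inv_mem hu)
      rw [mul_inv_cancel_right] at h1
      have h2 := Q₂.mul_mem (h.D2 h1) (Q₂.inv_mem ha')
      rw [mul_inv_cancel_right] at h2
      exact haD ((h.memD a).2 ⟨ha, h2⟩)

/-- `C_S(x)` is a maximal 2-subgroup of `C_G(x)` for an involution `x ∈ S ∖ B`. -/
theorem Wmax {x : G} (hxS : x ∈ (S : Subgroup G)) (hxB : x ∉ B) (hxx : x * x = 1) {P : Subgroup G}
    (hP : IsPGroup 2 P) (hWP : ((S : Subgroup G) ⊓ centralizer ({x} : Set G) : Subgroup G) ≤ P)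
    (hPC : P ≤ centralizer ({x} : Set G)) :
    P = ((S : Subgroup G) ⊓ centralizer ({x} : Set G) : Subgroup G) := by
  have hsx : s⁻¹ * x ∈ T := h.mem_T_of hxS hxB
  have hBS := h.BS
  set W : Subgroup G := (S : Subgroup G) ⊓ centralizer ({x} : Set G) with hW
  have hxW : x ∈ W := ⟨hxS, hcx.2 (by group)⟩
  by_contra hne
  have hlt : W < P := lt_of_le_of_ne hWP (Ne.symm hne)
  obtain ⟨y, ⟨hyP, hyN⟩, hyW⟩ := Set.exists_of_ssubset (lt_inf_normalizer hP hlt)
  have hle : P ⊓ normalizer (W : Set G) ≤ normalizer (B : Set G) := by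
    rintro n ⟨-, hn⟩
    exact h.NW hxS hxB hxx (fun w hw => (mem_normalizer_iff.1 hn w).1 hw)
  have h1 : IsPGroup 2 (B ⊔ (P ⊓ normalizer (W : Set G)) : Subgroup G) :=
    IsPGroup.to_sup_of_normal_left' (h.two.to_le hBS) (hP.to_le inf_le_left) hle
  have h2 : (S : Subgroup G) ≤ B ⊔ (P ⊓ normalizer (W : Set G)) := by
    intro w hw
    have hxP : x ∈ B ⊔ (P ⊓ normalizer (W : Set G)) :=
      (le_sup_right : P ⊓ normalizer (W : Set G) ≤ _) ⟨hWP hxW, le_normalizer hxW⟩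
    by_cases hwB : w ∈ B
    · exact (le_sup_left : B ≤ _) hwB
    · have h4 : x⁻¹ * w ∈ B := h.coset hxS hxB hw hwB
      have h5 := (B ⊔ (P ⊓ normalizer (W : Set G))).mul_mem hxP ((le_sup_left : B ≤ _) h4)
      rwa [mul_inv_cancel_left] at h5
  have h3 := S.is_maximal' h1 h2
  have hyS : y ∈ (S : Subgroup G) := by
    rw [← h3]
    exact (le_sup_right : P ⊓ normalizer (W : Set G) ≤ _) ⟨hyP, hyN⟩
  exact hyW ⟨hyS, hPC hyP⟩

/-- an involution of `S ∖ B` is not conjugate into `B` -/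
theorem no_conj {x : G} (hxS : x ∈ (S : Subgroup G)) (hxB : x ∉ B) (hxx : x * x = 1) (g : G) :
    g * x * g⁻¹ ∉ B := by
  intro hg
  have hsx : s⁻¹ * x ∈ T := h.mem_T_of hxS hxB
  have hBS := h.BS
  set U : Subgroup G := B ⊓ centralizer ({x} : Set G) with hU
  set W : Subgroup G := (S : Subgroup G) ⊓ centralizer ({x} : Set G) with hW
  have hxW : x ∈ W := ⟨hxS, hcx.2 (by group)⟩
  have hcoset : ∀ y ∈ W, y ∈ U ∨ x⁻¹ * y ∈ U := h.cosetW hxS hxB
  have hW2 : IsPGroup 2 W := h.two.to_le inf_le_left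
  have hb2 : g * x * g⁻¹ * (g * x * g⁻¹) = 1 := by
    calc g * x * g⁻¹ * (g * x * g⁻¹) = g * (x * x) * g⁻¹ := by group
      _ = 1 := by rw [hxx]; group
  obtain ⟨k, hk⟩ : ∃ k : G, k * x * k⁻¹ ∈ D := by
    rcases h.inv_mem_or hg hb2 with h1 | h1
    · obtain ⟨l, hl⟩ := h.fus1 _ h1
      refine ⟨l * g, ?_⟩
      have h2 : l * (g * x * g⁻¹) * l⁻¹ = l * g * x * (l * g)⁻¹ := by group
      rwa [h2] at hl
    · obtain ⟨l, hl⟩ := h.fus2 _ h1
      refine ⟨l * g, ?_⟩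
      have h2 : l * (g * x * g⁻¹) * l⁻¹ = l * g * x * (l * g)⁻¹ := by group
      rwa [h2] at hl
  have hkB : B.map (MulAut.conj k⁻¹).toMonoidHom ≤ centralizer ({x} : Set G) := by
    rintro _ ⟨b, hb, rfl⟩
    rw [hcx]
    have h1 := h.centD hk hb
    show x * (k⁻¹ * b * k⁻¹⁻¹) * x⁻¹ = k⁻¹ * b * k⁻¹⁻¹
    calc x * (k⁻¹ * b * k⁻¹⁻¹) * x⁻¹ = k⁻¹ * ((k * x * k⁻¹) * b) * (k * x * k⁻¹)⁻¹ * k := by group
      _ = k⁻¹ * b * k⁻¹⁻¹ := by rw [h1]; group
  obtain ⟨R, hWR, hRC, hR2, hRi⟩ := exists_sylow_in (p := 2) (N := centralizer ({x} : Set G)) (D := W)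
    inf_le_right hW2
  have hRW : R = W := h.Wmax hxS hxB hxx hR2 hWR hRC
  rw [hRW] at hRi
  obtain ⟨n, -, hn⟩ := exists_conj_le_in hW2 hRi hkB ((h.two.to_le hBS).map _)
  have h1 : Nat.card B ≤ Nat.card W := by
    have h2 := Subgroup.card_le_of_le hn
    rwa [card_map_conj, card_map_conj] at h2
  have h2 : Nat.card W ≤ 2 * Nat.card U := card_le_two_mul hxW hcoset
  have h3 := h.card_delta hsx (E := U) inf_le_left (fun e he => by
    rw [hcx.1 he.2, mul_inv_cancel]; exact one_mem _)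
  rw [h.card1] at h3
  have h4 : 0 < Nat.card D := Nat.card_pos
  have h5 : 0 < Nat.card U := Nat.card_pos
  have h6 : Nat.card U * q ≤ Nat.card B := by
    apply Nat.le_of_mul_le_mul_right _ h4
    rw [mul_assoc]; exact h3
  have h7 := h.hq
  have h8 : Nat.card U * 4 ≤ Nat.card U * q := Nat.mul_le_mul_left _ h7
  omega

/-! ### The centralizers of the involutions of `S ∖ B` -/

theorem sylW {x : G} (hxS : x ∈ (S : Subgroup G)) (hxB : x ∉ B) (hxx : x * x = 1) :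
    Syl ((S : Subgroup G) ⊓ centralizer ({x} : Set G)) (centralizer ({x} : Set G)) :=
  ⟨inf_le_right, h.two.to_le inf_le_left, fun _ hPC hP hWP => h.Wmax hxS hxB hxx hP hWP hPC⟩

omit h in
theorem exists_invol {X : Subgroup G} (hX : IsPGroup 2 X) (hne : X ≠ ⊥) : ∃ x ∈ X, x ≠ 1 ∧ x * x = 1 := by
  have hp : Fact (Nat.Prime 2) := ⟨Nat.prime_two⟩
  obtain ⟨⟨y, hy⟩, hy1⟩ := Subgroup.ne_bot_iff_exists_ne_one.1 hne
  have hy1' : y ≠ 1 := fun h6 => hy1 (Subtype.ext h6)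
  obtain ⟨x, hx, hx1, hx2, -⟩ := Cfsg.Agent.H282.PU.exists_inv' hX (fun _ => True) (fun _ _ => trivial) hy hy1' trivial
  exact ⟨x, hx, hx1, by rw [← pow_two]; exact hx2⟩

/-- **(C)** `C_G(x) ≤ N_G(B)` for an involution `x ∈ S ∖ B`. -/
theorem cent_swap {x : G} (hxS : x ∈ (S : Subgroup G)) (hxB : x ∉ B) (hxx : x * x = 1) :
    centralizer ({x} : Set G) ≤ normalizer (B : Set G) := by
  have hsx : s⁻¹ * x ∈ T := h.mem_T_of hxS hxB
  have hx1 : x ≠ 1 := fun h1 => hxB (h1 ▸ one_mem _)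
  set C : Subgroup G := centralizer ({x} : Set G) with hC
  set R : Subgroup G := o2 C with hR
  have hR2 : IsPGroup 2 R := ChoiceSit.isPGroup_o2 _
  have hRn : C ≤ normalizer (R : Set G) := ChoiceSit.le_normalizer_o2 _
  have hRW : R ≤ (S : Subgroup G) ⊓ C := ChoiceSit.o2_le_syl (h.sylW hxS hxB hxx)
  have hxC : x ∈ C := hcx.2 (by group)
  have hxR : x ∈ R := by
    have h1 : zpowers x ≤ o2 C := by
      refine ChoiceSit.le_o2 (Cfsg.Agent.MinSimple.Basic.isPGroup_zpowers (by rw [pow_two]; exact hxx))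
        (zpowers_le.2 hxC) ?_
      intro c hc
      refine mem_normalizer_of fun y hy => ?_
      obtain ⟨k, rfl⟩ := mem_zpowers_iff.1 hy
      have h2 : c * x * c⁻¹ = x := by
        have h3 := hcx.1 hc
        have h4 : x * c = c * x := by rw [← mul_inv_eq_iff_eq_mul]; exact h3
        rw [← h4]; group
      have h3 : c * x ^ k * c⁻¹ = (c * x * c⁻¹) ^ k := by rw [conj_zpow]
      rw [h3, h2]
      exact zpow_mem (mem_zpowers x) k
    exact h1 (mem_zpowers x)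
  -- an element of `D` centralised by `x`
  obtain ⟨u, huD, hu1, hxu⟩ : ∃ u ∈ D, u ≠ 1 ∧ x * u * x⁻¹ = u := by
    have h1 := h.one_lt_D
    rw [Subgroup.one_lt_card_iff_ne_bot] at h1
    obtain ⟨⟨d, hd⟩, hd1⟩ := Subgroup.ne_bot_iff_exists_ne_one.1 h1
    have hd1' : d ≠ 1 := fun h6 => hd1 (Subtype.ext h6)
    by_cases hxd : x * d * x⁻¹ = d
    · exact ⟨d, hd, hd1', hxd⟩
    · have h2 : x * d * x⁻¹ ∈ D := h.P_D hxS hd
      refine ⟨d * (x * d * x⁻¹), D.mul_mem hd h2, ?_, ?_⟩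
      · intro h3
        apply hxd
        rw [eq_comm, ← inv_inj, h.inv1 (h.D1 hd)]
        exact (eq_inv_of_mul_eq_one_left h3)
      · have h3 : x * (x * d * x⁻¹) * x⁻¹ = d := by
          calc x * (x * d * x⁻¹) * x⁻¹ = x * x * d * (x * x)⁻¹ := by group
            _ = d := by rw [hxx]; group
        calc x * (d * (x * d * x⁻¹)) * x⁻¹ = (x * d * x⁻¹) * (x * (x * d * x⁻¹) * x⁻¹) := by group
          _ = (x * d * x⁻¹) * d := by rw [h3]
          _ = d * (x * d * x⁻¹) := h.c1 _ (h.D1 h2) _ (h.D1 hd)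
  have hchar : C ⊓ centralizer (R : Set G) ≤ R :=
    MinSimple.Basic.char2_centralizer h.c2t (by rw [pow_two]; exact hxx) hx1
  have hRB : R ⊓ B ≠ ⊥ := by
    intro hbot
    have h1 : ∀ r ∈ R, r = 1 ∨ r = x := by
      intro r hr
      rcases h.cosetW hxS hxB r (hRW hr) with h2 | h2
      · left
        have h3 : r ∈ R ⊓ B := ⟨hr, h2.1⟩
        rwa [hbot, mem_bot] at h3
      · right
        have h3 : x⁻¹ * r ∈ R ⊓ B := ⟨R.mul_mem (R.inv_mem hxR) hr, h2.1⟩
        rw [hbot, mem_bot, inv_mul_eq_one] at h3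
        exact h3.symm
    have h2 : u ∈ R := by
      apply hchar
      refine ⟨hcx.2 hxu, mem_centralizer_iff.2 fun r hr => ?_⟩
      rcases h1 r hr with rfl | rfl
      · rw [one_mul, mul_one]
      · exact mul_inv_eq_iff_eq_mul.1 hxu
    have h3 : u ∈ R ⊓ B := ⟨h2, h.DB huD⟩
    rw [hbot, mem_bot] at h3
    exact hu1 h3
  obtain ⟨r, ⟨hrR, hrB⟩, hr1, hr2⟩ := exists_invol (hR2.to_le inf_le_left) hRB
  have hxr : x * r * x⁻¹ = r := hcx.1 (hRW hrR).2
  have hgr : Gd D C₁ C₂ r := h.inv_good hsx hrB hr2 hr1 hxr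
  intro c hc
  have hcr : c * r * c⁻¹ ∈ R := (mem_normalizer_iff.1 (hRn hc) r).1 hrR
  have hcr2 : c * r * c⁻¹ * (c * r * c⁻¹) = 1 := by
    calc c * r * c⁻¹ * (c * r * c⁻¹) = c * (r * r) * c⁻¹ := by group
      _ = 1 := by rw [hr2]; group
  have hcr1 : c * r * c⁻¹ ≠ 1 := by
    intro h1
    apply hr1
    have h2 : r = c⁻¹ * (c * r * c⁻¹) * c := by group
    rw [h2, h1]; group
  have hcrB : c * r * c⁻¹ ∈ B := by
    by_contra hnB
    apply h.no_conj (hRW hcr).1 hnB hcr2 c⁻¹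
    have h2 : c⁻¹ * (c * r * c⁻¹) * c⁻¹⁻¹ = r := by group
    rw [h2]; exact hrB
  exact h.mem_NB hgr (h.inv_good hsx hcrB hcr2 hcr1 (hcx.1 (hRW hcr).2))

omit h in
/-- two involutions are conjugate or commute with a third -/
theorem _root_.Cfsg.Agent.H282.PU.dihedral {x t : G} (hx : x * x = 1) (ht : t * t = 1) :
    (∃ g : G, g * x * g⁻¹ = t) ∨ ∃ z : G, z ≠ 1 ∧ z * z = 1 ∧ x * z = z * x ∧ t * z = z * t := by
  have hxi : x⁻¹ = x := inv_eq_of_mul_eq_one_right hx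
  have hti : t⁻¹ = t := inv_eq_of_mul_eq_one_right ht
  set y := x * t with hy
  have hyi : x * y * x⁻¹ = y⁻¹ := by rw [hy, mul_inv_rev, hxi, hti]; simp [← mul_assoc, hx]
  have hpow : ∀ n : ℕ, x * y ^ n * x⁻¹ = (y ^ n)⁻¹ := by
    intro n
    rw [← conj_pow, hyi, inv_pow]
  rcases Nat.even_or_odd' (orderOf y) with ⟨m, hm | hm⟩
  · right
    have hm0 : 0 < m := by
      have := orderOf_pos y
      omega
    refine ⟨y ^ m, ?_, ?_, ?_, ?_⟩
    · intro h1
      have h2 := orderOf_dvd_of_pow_eq_one h1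
      have h3 := Nat.le_of_dvd hm0 h2
      omega
    · rw [← pow_add, ← two_mul, ← hm, pow_orderOf_eq_one]
    · have h2 : (y ^ m)⁻¹ = y ^ m := by
        rw [inv_eq_iff_mul_eq_one, ← pow_add, ← two_mul, ← hm, pow_orderOf_eq_one]
      have h3 := hpow m
      rw [h2, mul_inv_eq_iff_eq_mul] at h3
      exact h3
    · have h2 : (y ^ m)⁻¹ = y ^ m := by
        rw [inv_eq_iff_mul_eq_one, ← pow_add, ← two_mul, ← hm, pow_orderOf_eq_one]
      have h3 := hpow m
      rw [h2, mul_inv_eq_iff_eq_mul] at h3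
      have h4 : t = x⁻¹ * y := by rw [hy]; group
      have h5 : y * y ^ m = y ^ m * y := (Commute.self_pow y m).eq
      calc t * y ^ m = x⁻¹ * (y * y ^ m) := by rw [h4, mul_assoc]
        _ = x⁻¹ * (y ^ m * x) * t := by rw [h5, hy]; group
        _ = x⁻¹ * (x * y ^ m) * t := by rw [h3]
        _ = y ^ m * t := by group
  · left
    refine ⟨y ^ m, ?_⟩
    have h1 : y ^ (2 * m + 1) = 1 := by rw [← hm, pow_orderOf_eq_one]
    have h3 : x * y ^ m = (y ^ m)⁻¹ * x := mul_inv_eq_iff_eq_mul.1 (hpow m)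
    have h4 : x * (y ^ m)⁻¹ = y ^ m * x := by
      calc x * (y ^ m)⁻¹ = y ^ m * ((y ^ m)⁻¹ * x) * (y ^ m)⁻¹ := by group
        _ = y ^ m * (x * y ^ m) * (y ^ m)⁻¹ := by rw [h3]
        _ = y ^ m * x := by group
    calc y ^ m * x * (y ^ m)⁻¹ = y ^ m * (x * (y ^ m)⁻¹) := by group
      _ = y ^ m * y ^ m * x := by rw [h4]; group
      _ = y⁻¹ * y ^ (2 * m + 1) * x := by
          rw [pow_succ, two_mul, pow_add]; group
      _ = y⁻¹ * x := by rw [h1, mul_one]
      _ = t := by rw [hy, mul_inv_rev, hti]; group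

/-- **(D)** conjugates of a good element lie in `N_G(B)`. -/
theorem conj_mem {x : G} (hxS : x ∈ (S : Subgroup G)) (hxB : x ∉ B) (hxx : x * x = 1) {t : G}
    (ht : Gd D C₁ C₂ t) (g : G) : g * t * g⁻¹ ∈ normalizer (B : Set G) := by
  have hsx : s⁻¹ * x ∈ T := h.mem_T_of hxS hxB
  have htt : t * t = 1 := h.sqD ht.1
  have ht2 : g * t * g⁻¹ * (g * t * g⁻¹) = 1 := by
    calc g * t * g⁻¹ * (g * t * g⁻¹) = g * (t * t) * g⁻¹ := by group
      _ = 1 := by rw [htt]; group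
  rcases dihedral hxx ht2 with ⟨k, hk⟩ | ⟨z, hz1, hz2, hxz, htz⟩
  · exfalso
    apply h.no_conj hxS hxB hxx (g⁻¹ * k)
    have h1 : g⁻¹ * k * x * (g⁻¹ * k)⁻¹ = g⁻¹ * (k * x * k⁻¹) * g := by group
    rw [h1, hk]
    have h2 : g⁻¹ * (g * t * g⁻¹) * g = t := by group
    rw [h2]; exact h.DB ht.1
  · have hzC : zpowers z ≤ centralizer ({x} : Set G) := by
      rw [zpowers_le, mem_centralizer_singleton_iff]; exact hxz.symm
    obtain ⟨P, hP, hzP⟩ := exists_syl (Cfsg.Agent.MinSimple.Basic.isPGroup_zpowers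
      (by rw [pow_two]; exact hz2)) hzC
    obtain ⟨c, hc, hcP⟩ := syl_conj hP (h.sylW hxS hxB hxx)
    have hcz : c * z * c⁻¹ ∈ ((S : Subgroup G) ⊓ centralizer ({x} : Set G) : Subgroup G) := by
      rw [← hcP]
      exact ⟨z, hzP (mem_zpowers z), rfl⟩
    have hcN := h.cent_swap hxS hxB hxx hc
    have hcz2 : c * z * c⁻¹ * (c * z * c⁻¹) = 1 := by
      calc c * z * c⁻¹ * (c * z * c⁻¹) = c * (z * z) * c⁻¹ := by group
        _ = 1 := by rw [hz2]; group
    have hcz1 : c * z * c⁻¹ ≠ 1 := by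
      intro h1
      apply hz1
      have h2 : z = c⁻¹ * (c * z * c⁻¹) * c := by group
      rw [h2, h1]; group
    have hcent : centralizer ({c * z * c⁻¹} : Set G) ≤ normalizer (B : Set G) := by
      by_cases hzB : c * z * c⁻¹ ∈ B
      · exact h.cent _ (h.inv_good hsx hzB hcz2 hcz1 (hcx.1 hcz.2))
      · exact h.cent_swap hcz.1 hzB hcz2
    have h1 : c * (g * t * g⁻¹) * c⁻¹ ∈ centralizer ({c * z * c⁻¹} : Set G) := by
      rw [mem_centralizer_singleton_iff]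
      calc c * (g * t * g⁻¹) * c⁻¹ * (c * z * c⁻¹) = c * ((g * t * g⁻¹) * z) * c⁻¹ := by group
        _ = c * (z * (g * t * g⁻¹)) * c⁻¹ := by rw [htz]
        _ = c * z * c⁻¹ * (c * (g * t * g⁻¹) * c⁻¹) := by group
    have h2 := mul_mem (mul_mem (inv_mem hcN) (hcent h1)) hcN
    have h3 : c⁻¹ * (c * (g * t * g⁻¹) * c⁻¹) * c = g * t * g⁻¹ := by group
    rwa [h3] at h2

/-! ### An involution in `S ∖ B` -/

theorem sB {b : G} (hb : b ∈ B) : s * b * s⁻¹ ∈ B := h.S_B h.sS hb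

theorem SN : (S : Subgroup G) ≤ normalizer (B : Set G) := fun x hx =>
  mem_normalizer_of fun b hb => h.S_B hx hb

theorem swapC1 {x e : G} (hx : s⁻¹ * x ∈ T) (he : e ∈ C₁) : x * e * x⁻¹ ∈ C₂ := by
  have h1 := h.sC1 _ (h.TC1 _ hx e he)
  have h2 : s * (s⁻¹ * x * e * (s⁻¹ * x)⁻¹) * s⁻¹ = x * e * x⁻¹ := by group
  rwa [h2] at h1

theorem swapC2 {x e : G} (hx : s⁻¹ * x ∈ T) (he : e ∈ C₂) : x * e * x⁻¹ ∈ C₁ := by
  have h1 := h.sC2 _ (h.TC2 _ hx e he)
  have h2 : s * (s⁻¹ * x * e * (s⁻¹ * x)⁻¹) * s⁻¹ = x * e * x⁻¹ := by group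
  rwa [h2] at h1

theorem exists_three : ∃ x y : G, Gd D C₁ C₂ x ∧ Gd D C₁ C₂ y ∧ Gd D C₁ C₂ (x⁻¹ * y) := by
  obtain ⟨a, ha, haD⟩ := h.exists_a
  obtain ⟨b, hb, hbD⟩ := h.exists_b
  obtain ⟨c, hc, hcD, hbc⟩ : ∃ c ∈ Q₂, c ∉ D ∧ b⁻¹ * c ∉ D := by
    by_contra hcon
    push Not at hcon
    have h1 : Nat.card Q₂ ≤ 2 * Nat.card D := by
      apply card_le_two_mul hb
      intro e he
      by_cases heD : e ∈ D
      · exact Or.inl heD
      · exact Or.inr (hcon e he heD)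
    have h2 := h.card2
    have h3 := h.hq
    have h4 : 0 < Nat.card D := Nat.card_pos
    rw [h2] at h1
    nlinarith
  have hb1 := h.good a ha haD b hb hbD
  have hc1 := h.good a ha haD c hc hcD
  have hbc1 := h.good a ha haD _ (Q₂.mul_mem (Q₂.inv_mem hb) hc) hbc
  refine ⟨_, _, hb1, hc1, ?_⟩
  have h2 : a * (b⁻¹ * c) * a⁻¹ * (b⁻¹ * c)⁻¹ =
      b⁻¹ * ((a * b * a⁻¹ * b⁻¹)⁻¹ * (a * c * a⁻¹ * c⁻¹)) * b := by group
  have h3 : (a * b * a⁻¹ * b⁻¹)⁻¹ * (a * c * a⁻¹ * c⁻¹) ∈ D := D.mul_mem (D.inv_mem hb1.1) hc1.1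
  have h4 := h.centD h3 (h.Q2B hb)
  rw [h2, mul_assoc, h4, inv_mul_cancel_left] at hbc1
  exact hbc1

/-- elements of `N_G(B)` fix or swap `Q₁`, `Q₂` -/
theorem NB_or {y : G} (hy : y ∈ normalizer (B : Set G)) :
    y ∈ normalizer (Q₁ : Set G) ∨ s⁻¹ * y ∈ normalizer (Q₁ : Set G) := by
  have h1 : cj y Q₁ = Q₁ ∨ cj y Q₁ = Q₂ := by
    apply h.eq_of_elem
    · rintro _ ⟨b, hb, rfl⟩
      exact h.BS ((mem_normalizer_iff.1 hy b).1 (h.Q1B hb))
    · rintro _ ⟨b, hb, rfl⟩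
      rw [← map_mul, h.sq1 b hb, map_one]
    · rw [card_cj]
  rcases h1 with h1 | h1
  · left
    exact mem_normalizer_iff_cj.2 h1
  · right
    refine mem_normalizer_of fun a ha => ?_
    have h2 : y * a * y⁻¹ ∈ Q₂ := by rw [← h1]; exact ⟨a, ha, rfl⟩
    have h3 := h.s1' h2
    have h4 : s⁻¹ * (y * a * y⁻¹) * s = s⁻¹ * y * a * (s⁻¹ * y)⁻¹ := by group
    rwa [h4] at h3

/-- the subgroup of index 2 of `N_G(B)` -/
def WW (h : TEnd S T B Q₁ Q₂ D C₁ C₂ s q) : Subgroup G := normalizer (B : Set G) ⊓ normalizer (Q₁ : Set G)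

theorem WW_Q2 {w : G} (hw : w ∈ h.WW) : w ∈ normalizer (Q₂ : Set G) :=
  mem_normalizer_of (Cfsg.Agent.Omega.SQ1.CoOf.norm_Q2 h.toBase
    (fun b hb => (mem_normalizer_iff.1 hw.1 b).1 hb) (fun b hb => (mem_normalizer_iff.1 hw.2 b).1 hb))

theorem mem_WW {w : G} (h1 : w ∈ normalizer (B : Set G)) (h2 : w ∈ normalizer (Q₂ : Set G)) : w ∈ h.WW :=
  ⟨h1, mem_normalizer_of (Cfsg.Agent.Omega.SQ1.CoOf.norm_Q2 h.symm
    (fun b hb => (mem_normalizer_iff.1 h1 b).1 hb) (fun b hb => (mem_normalizer_iff.1 h2 b).1 hb))⟩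

theorem sNB : s ∈ normalizer (B : Set G) := h.SN h.sS

theorem WW_s {w : G} (hw : w ∈ h.WW) : s * w * s⁻¹ ∈ h.WW := by
  apply h.mem_WW (mul_mem (mul_mem h.sNB hw.1) (inv_mem h.sNB))
  refine mem_normalizer_of fun b hb => ?_
  have h1 := h.s1 _ ((mem_normalizer_iff.1 hw.2 _).1 (h.s1' hb))
  have h2 : s * (w * (s⁻¹ * b * s) * w⁻¹) * s⁻¹ = s * w * s⁻¹ * b * (s * w * s⁻¹)⁻¹ := by group
  rwa [h2] at h1

theorem WW_conj {y w : G} (hy : y ∈ normalizer (B : Set G)) (hw : w ∈ h.WW) : y * w * y⁻¹ ∈ h.WW := by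
  rcases h.NB_or hy with h1 | h1
  · have h2 : y ∈ h.WW := ⟨hy, h1⟩
    exact mul_mem (mul_mem h2 hw) (inv_mem h2)
  · have h2 : s⁻¹ * y ∈ h.WW :=
      ⟨(normalizer (B : Set G)).mul_mem ((normalizer (B : Set G)).inv_mem h.sNB) hy, h1⟩
    have h3 := h.WW_s (h.WW.mul_mem (h.WW.mul_mem h2 hw) (h.WW.inv_mem h2))
    have h4 : s * (s⁻¹ * y * w * (s⁻¹ * y)⁻¹) * s⁻¹ = y * w * y⁻¹ := by group
    rwa [h4] at h3

theorem B_WW : B ≤ h.WW := fun b hb =>
  ⟨le_normalizer hb, mem_normalizer_of fun a ha => h.conjQ1 hb ha⟩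

theorem sylB : Syl B h.WW := by
  refine ⟨h.B_WW, h.two.to_le h.BS, fun P hPW hP hBP => ?_⟩
  obtain ⟨R, hR, hPR⟩ := exists_syl hP (hPW.trans inf_le_left)
  obtain ⟨y, hy, hyR⟩ := syl_conj hR (⟨h.SN, S.isPGroup', fun Q _ hQ2 hQ => S.is_maximal' hQ2 hQ⟩ :
    Syl (S : Subgroup G) (normalizer (B : Set G)))
  have h1 : cj y P ≤ B := by
    rintro _ ⟨p, hp, rfl⟩
    have h2 : y * p * y⁻¹ ∈ (S : Subgroup G) := by
      rw [← hyR]; exact ⟨p, hPR hp, rfl⟩
    have h3 := h.WW_conj hy (hPW hp)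
    exact h.leB (h.memT _ h2 fun a ha => (mem_normalizer_iff.1 h3.2 a).1 ha)
  have h2 := Subgroup.card_le_of_le h1
  rw [card_cj] at h2
  exact (Subgroup.eq_of_le_of_card_ge hBP h2).symm

theorem WWn : h.WW ≤ normalizer (B : Set G) := inf_le_left

/-- complements of `B` in `N_G(B) ∩ N_G(Q₁)` -/
structure Cm (h : TEnd S T B Q₁ Q₂ D C₁ C₂ s q) (A : Subgroup G) : Prop where
  le : A ≤ h.WW
  card : Nat.card A = B.relIndex h.WW
  gen : ∀ w ∈ h.WW, ∃ b ∈ B, ∃ a ∈ A, w = b * a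

theorem exists_Cm : ∃ A : Subgroup G, h.Cm A := by
  have hp : Fact (Nat.Prime 2) := ⟨Nat.prime_two⟩
  have hBW := h.B_WW
  have hN : (B.subgroupOf h.WW).Normal := by
    rw [normal_subgroupOf_iff_le_normalizer hBW]; exact h.WWn
  have hcB : Nat.card (B.subgroupOf h.WW) = Nat.card B :=
    Nat.card_congr (Subgroup.subgroupOfEquivOfLe hBW).toEquiv
  have hcop : (Nat.card (B.subgroupOf h.WW)).Coprime (B.subgroupOf h.WW).index := by
    obtain ⟨n, hn⟩ := IsPGroup.iff_card.1 (h.two.to_le h.BS)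
    rw [hcB, hn]
    apply Nat.Coprime.pow_left
    rw [Nat.prime_two.coprime_iff_not_dvd]
    exact syl_not_dvd h.sylB
  obtain ⟨L, hL⟩ := Subgroup.exists_right_complement'_of_coprime hcop
  refine ⟨L.map h.WW.subtype, ⟨Subgroup.map_subtype_le _, ?_, ?_⟩⟩
  · have h1 := hL.card_mul_card
    have h2 : Nat.card (L.map h.WW.subtype) = Nat.card L :=
      Subgroup.card_map_of_injective h.WW.subtype_injective
    rw [h2]
    have h3 := (B.subgroupOf h.WW).card_mul_index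
    rw [← h1] at h3
    exact (Nat.eq_of_mul_eq_mul_left Nat.card_pos h3).symm
  · intro w hw
    have h1 : (⟨w, hw⟩ : h.WW) ∈ ((B.subgroupOf h.WW : Set h.WW) * (L : Set h.WW)) := by
      rw [hL.mul_eq]; trivial
    obtain ⟨b, hb, a, ha, hab⟩ := h1
    exact ⟨b, hb, a, ⟨a, ha, rfl⟩, (congrArg Subtype.val hab).symm⟩

namespace Cm

variable {h}
variable {A : Subgroup G} (k : h.Cm A)

include k

theorem odd : ¬ 2 ∣ Nat.card A := by
  rw [k.card]; exact syl_not_dvd h.sylB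

theorem inf : A ⊓ B = ⊥ := by
  have hp : Fact (Nat.Prime 2) := ⟨Nat.prime_two⟩
  rw [eq_bot_iff]
  intro x hx
  rw [mem_bot]
  obtain ⟨n, hn⟩ := IsPGroup.iff_card.1 ((h.two.to_le h.BS).to_le (inf_le_right : A ⊓ B ≤ B))
  have h1 : Nat.card (A ⊓ B : Subgroup G) ∣ Nat.card A := Subgroup.card_dvd_of_le inf_le_left
  rcases Nat.eq_zero_or_pos n with rfl | hn0
  · rw [pow_zero] at hn
    have h2 : (A ⊓ B : Subgroup G) = ⊥ := Subgroup.eq_bot_of_card_eq _ hn
    rw [h2] at hx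
    exact mem_bot.1 hx
  · exfalso
    apply k.odd
    refine dvd_trans ?_ h1
    rw [hn]
    exact dvd_pow_self 2 hn0.ne'

/-- an element of `B` normalising `A` centralises `A` -/
theorem comm {b a : G} (hb : b ∈ B) (hbA : b * a * b⁻¹ ∈ A) (ha : a ∈ A) : b * a = a * b := by
  have h1 : b * a * b⁻¹ * a⁻¹ ∈ A ⊓ B := by
    refine ⟨A.mul_mem hbA (A.inv_mem ha), ?_⟩
    have h2 := (mem_normalizer_iff.1 (k.le ha).1 b⁻¹).1 (B.inv_mem hb)
    have h3 := B.mul_mem hb h2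
    have h4 : b * (a * b⁻¹ * a⁻¹) = b * a * b⁻¹ * a⁻¹ := by group
    rwa [h4] at h3
  rw [k.inf, mem_bot] at h1
  calc b * a = (b * a * b⁻¹ * a⁻¹) * (a * b) := by group
    _ = a * b := by rw [h1, one_mul]

/-- Frattini -/
theorem exists_n : ∃ n ∈ (S : Subgroup G), n ∉ B ∧ ∀ a ∈ A, n * a * n⁻¹ ∈ A := by
  have h1 : cj s A ≤ h.WW := by
    rintro _ ⟨a, ha, rfl⟩
    exact h.WW_s (k.le ha)
  obtain ⟨b, hb, hbA⟩ := sz (h.two.to_le h.BS) h.B_WW h.WWn k.odd k.le h1 k.card (by rw [card_cj, k.card])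
  refine ⟨b⁻¹ * s, (S : Subgroup G).mul_mem (inv_mem (h.BS hb)) h.sS, fun h2 => ?_, fun a ha => ?_⟩
  · have h3 := B.mul_mem hb h2
    rw [mul_inv_cancel_left] at h3
    exact h.s_notMem (h.BT h3)
  · have h2 : s * a * s⁻¹ ∈ cj b A := by rw [hbA]; exact ⟨a, ha, rfl⟩
    obtain ⟨a', ha', e⟩ := h2
    have e' : b * a' * b⁻¹ = s * a * s⁻¹ := e
    have h3 : b⁻¹ * s * a * (b⁻¹ * s)⁻¹ = b⁻¹ * (s * a * s⁻¹) * b := by group
    rw [h3, ← e']
    have h4 : b⁻¹ * (b * a' * b⁻¹) * b = a' := by group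
    rw [h4]; exact ha'

/-- no good element is centralised by `A` -/
theorem not_good {d : G} (hd : Gd D C₁ C₂ d) (hA : ∀ a ∈ A, a * d = d * a) : False := by
  have hW : ∀ w ∈ h.WW, w * d * w⁻¹ = d := by
    intro w hw
    obtain ⟨b, hb, a, ha, rfl⟩ := k.gen w hw
    have h1 := h.centD hd.1 hb
    calc b * a * d * (b * a)⁻¹ = b * (a * d) * a⁻¹ * b⁻¹ := by group
      _ = b * (d * a) * a⁻¹ * b⁻¹ := by rw [hA a ha]
      _ = b * d * b⁻¹ := by group
      _ = d * b * b⁻¹ := by rw [h1]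
      _ = d := by group
  have hall : ∀ e, Gd D C₁ C₂ e → e = d ∨ e = s * d * s⁻¹ := by
    intro e he
    obtain ⟨n, hn, rfl⟩ := h.go1 d e hd he
    rcases h.NB_or hn with h1 | h1
    · exact Or.inl (hW n ⟨hn, h1⟩)
    · right
      have h2 := hW (s⁻¹ * n) ⟨(normalizer (B : Set G)).mul_mem ((normalizer (B : Set G)).inv_mem h.sNB) hn, h1⟩
      calc n * d * n⁻¹ = s * (s⁻¹ * n * d * (s⁻¹ * n)⁻¹) * s⁻¹ := by group
        _ = s * d * s⁻¹ := by rw [h2]
  obtain ⟨x, y, hx, hy, hxy⟩ := h.exists_three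
  have hxx := h.sqD hx.1
  have h1 : x ≠ y := by
    rintro rfl
    apply h.good_ne hxy
    group
  have h2 : x ≠ x⁻¹ * y := by
    intro e
    apply h.good_ne hy
    calc y = x * (x⁻¹ * y) := by group
      _ = x * x := by rw [← e]
      _ = 1 := hxx
  have h3 : y ≠ x⁻¹ * y := by
    intro e
    apply h.good_ne hx
    have h4 : x⁻¹ = 1 := mul_eq_right.1 e.symm
    exact inv_eq_one.1 h4
  rcases hall x hx with e1 | e1 <;> rcases hall y hy with e2 | e2 <;> rcases hall _ hxy with e3 | e3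
  · exact h1 (e1.trans e2.symm)
  · exact h1 (e1.trans e2.symm)
  · exact h2 (e1.trans e3.symm)
  · exact h3 (e2.trans e3.symm)
  · exact h3 (e2.trans e3.symm)
  · exact h2 (e1.trans e3.symm)
  · exact h1 (e1.trans e2.symm)
  · exact h1 (e1.trans e2.symm)

theorem conj_n {n e : G} (hn : ∀ a ∈ A, n * a * n⁻¹ ∈ A) (he : ∀ a ∈ A, a * e = e * a) :
    ∀ a ∈ A, a * (n * e * n⁻¹) = (n * e * n⁻¹) * a := by
  intro a ha
  have h1 : n⁻¹ * a * n ∈ A := inv_conj_mem hn a ha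
  have h2 := he _ h1
  calc a * (n * e * n⁻¹) = n * (n⁻¹ * a * n * e) * n⁻¹ := by group
    _ = n * (e * (n⁻¹ * a * n)) * n⁻¹ := by rw [h2]
    _ = n * e * n⁻¹ * a := by group

theorem comm_mul {e f : G} (he : ∀ a ∈ A, a * e = e * a) (hf : ∀ a ∈ A, a * f = f * a) :
    ∀ a ∈ A, a * (e * f) = (e * f) * a := fun a ha =>
  ((show Commute a e from he a ha).mul_right (hf a ha)).eq

/-- `C_D(A) = 1` -/
theorem cD {d : G} (hd : d ∈ D) (hA : ∀ a ∈ A, a * d = d * a) : d = 1 := by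
  by_contra hd1
  obtain ⟨n, hnS, hnB, hn⟩ := k.exists_n
  have hsn := h.mem_T_of hnS hnB
  have h1 := k.conj_n hn hA
  have hnd : n * d * n⁻¹ ≠ 1 := by
    intro e
    apply hd1
    have h2 : d = n⁻¹ * (n * d * n⁻¹) * n := by group
    rw [h2, e]; group
  have hndD : n * d * n⁻¹ ∈ D := h.P_D hnS hd
  by_cases hc1 : d ∈ C₁
  · have h2 : n * d * n⁻¹ ∈ C₂ := h.swapC1 hsn hc1
    refine k.not_good (d := d * (n * d * n⁻¹)) ⟨D.mul_mem hd hndD, fun h3 => ?_, fun h3 => ?_⟩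
      (k.comm_mul hA h1)
    · apply hnd
      have h4 : n * d * n⁻¹ ∈ C₁ ⊓ C₂ := by
        refine ⟨?_, h2⟩
        have h5 := C₁.mul_mem (C₁.inv_mem hc1) h3
        rwa [inv_mul_cancel_left] at h5
      rwa [h.C12, mem_bot] at h4
    · apply hd1
      have h4 : d ∈ C₁ ⊓ C₂ := by
        refine ⟨hc1, ?_⟩
        have h5 := C₂.mul_mem h3 (C₂.inv_mem h2)
        rwa [mul_inv_cancel_right] at h5
      rwa [h.C12, mem_bot] at h4
  · by_cases hc2 : d ∈ C₂
    · have h2 : n * d * n⁻¹ ∈ C₁ := h.swapC2 hsn hc2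
      refine k.not_good (d := d * (n * d * n⁻¹)) ⟨D.mul_mem hd hndD, fun h3 => ?_, fun h3 => ?_⟩
        (k.comm_mul hA h1)
      · apply hd1
        have h4 : d ∈ C₁ ⊓ C₂ := by
          refine ⟨?_, hc2⟩
          have h5 := C₁.mul_mem h3 (C₁.inv_mem h2)
          rwa [mul_inv_cancel_right] at h5
        rwa [h.C12, mem_bot] at h4
      · apply hnd
        have h4 : n * d * n⁻¹ ∈ C₁ ⊓ C₂ := by
          refine ⟨h2, ?_⟩
          have h5 := C₂.mul_mem (C₂.inv_mem hc2) h3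
          rwa [inv_mul_cancel_left] at h5
        rwa [h.C12, mem_bot] at h4
    · exact k.not_good ⟨hd, hc1, hc2⟩ hA

theorem comm_comm {e f : G} (he : ∀ a ∈ A, a * e = e * a) (hf : ∀ a ∈ A, a * f = f * a) :
    ∀ a ∈ A, a * (e * f * e⁻¹ * f⁻¹) = (e * f * e⁻¹ * f⁻¹) * a := fun a ha => by
  have h1 : Commute a e := he a ha
  have h2 : Commute a f := hf a ha
  exact (((h1.mul_right h2).mul_right h1.inv_right).mul_right h2.inv_right).eq

/-- `C_{Q₁}(A) = 1` -/
theorem cQ1 {x : G} (hx : x ∈ Q₁) (hA : ∀ a ∈ A, a * x = x * a) : x = 1 := by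
  obtain ⟨n, hnS, hnB, hn⟩ := k.exists_n
  have hsn := h.mem_T_of hnS hnB
  have h1 := k.conj_n hn hA
  by_cases hxD : x ∈ D
  · exact k.cD hxD hA
  · exfalso
    have h2 : n * x * n⁻¹ ∈ Q₂ := h.swap1 hsn hx
    have h3 : n * x * n⁻¹ ∉ D := by
      intro h3
      apply hxD
      have h4 := inv_conj_mem (g := n) (X := D) (fun y hy => h.P_D hnS hy) _ h3
      have h5 : n⁻¹ * (n * x * n⁻¹) * n = x := by group
      rwa [h5] at h4
    exact k.not_good (h.good x hx hxD _ h2 h3) (k.comm_comm hA h1)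

theorem cQ2 {x : G} (hx : x ∈ Q₂) (hA : ∀ a ∈ A, a * x = x * a) : x = 1 := by
  obtain ⟨n, hnS, hnB, hn⟩ := k.exists_n
  have hsn := h.mem_T_of hnS hnB
  have h1 := k.cQ1 (h.swap2 hsn hx) (k.conj_n hn hA)
  have h2 : x = n⁻¹ * (n * x * n⁻¹) * n := by group
  rw [h2, h1]; group

/-- `C_B(A) = 1` -/
theorem cB {x : G} (hx : x ∈ B) (hA : ∀ a ∈ A, a * x = x * a) : x = 1 := by
  obtain ⟨u, hu, v, hv, rfl⟩ := h.prod x hx
  have hAQ1 : ∀ a ∈ A, ∀ y ∈ Q₁, a * y * a⁻¹ ∈ Q₁ := fun a ha y hy =>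
    (mem_normalizer_iff.1 (k.le ha).2 y).1 hy
  have hAQ2 : ∀ a ∈ A, ∀ y ∈ Q₂, a * y * a⁻¹ ∈ Q₂ := fun a ha y hy =>
    (mem_normalizer_iff.1 (h.WW_Q2 (k.le ha)) y).1 hy
  have hAD : A ≤ normalizer (D : Set G) := fun a ha => mem_normalizer_of fun d hd =>
    (h.memD _).2 ⟨hAQ1 a ha d (h.D1 hd), hAQ2 a ha d (h.D2 hd)⟩
  -- `u` is fixed modulo `D`
  have hu1 : ∀ a ∈ A, u⁻¹ * (a * u * a⁻¹) ∈ D := by
    intro a ha
    refine (h.memD _).2 ⟨Q₁.mul_mem (Q₁.inv_mem hu) (hAQ1 a ha u hu), ?_⟩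
    have h1 : u * v = (a * u * a⁻¹) * (a * v * a⁻¹) := by
      calc u * v = (u * v) * a * a⁻¹ := by group
        _ = a * (u * v) * a⁻¹ := by rw [hA a ha]
        _ = _ := by group
    have h2 : u⁻¹ * (a * u * a⁻¹) = v * (a * v * a⁻¹)⁻¹ := by
      rw [inv_mul_eq_iff_eq_mul, ← mul_assoc, h1]; group
    rw [h2]
    exact Q₂.mul_mem hv (Q₂.inv_mem (hAQ2 a ha v hv))
  have hD2 : IsPGroup 2 D := (h.two.to_le h.BS).to_le h.DB
  have hAD1 : A ⊓ D = ⊥ := by
    rw [eq_bot_iff, ← k.inf]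
    exact inf_le_inf_left _ h.DB
  have hidx : D.relIndex (D ⊔ A) = Nat.card A := by
    rw [relIndex_sup_of hAD, ← Subgroup.inf_relIndex_right, inf_comm, hAD1, Subgroup.relIndex_bot_left]
  have hle : cj u A ≤ D ⊔ A := by
    rintro _ ⟨a, ha, rfl⟩
    have h1 := hu1 a ha
    have h2 : u * a * u⁻¹ = (u * (u⁻¹ * (a * u * a⁻¹))⁻¹ * u⁻¹) * a := by group
    show u * a * u⁻¹ ∈ D ⊔ A
    rw [h2]
    refine mul_mem (mem_sup_left ?_) (mem_sup_right ha)
    have h3 := D.inv_mem h1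
    have h4 : u * (u⁻¹ * (a * u * a⁻¹))⁻¹ * u⁻¹ = (u⁻¹ * (a * u * a⁻¹))⁻¹ := by
      rw [h.c1 u hu _ (h.D1 h3)]; group
    rw [h4]; exact h3
  obtain ⟨d, hd, hdA⟩ := sz hD2 (le_sup_left : D ≤ D ⊔ A) (sup_le le_normalizer hAD) k.odd le_sup_right hle
    hidx.symm (by rw [card_cj, hidx])
  -- `d⁻¹ u` normalises `A`
  have h1 : ∀ a ∈ A, d⁻¹ * u * a * (d⁻¹ * u)⁻¹ ∈ A := by
    intro a ha
    have h2 : u * a * u⁻¹ ∈ cj d A := by rw [hdA]; exact ⟨a, ha, rfl⟩
    obtain ⟨a', ha', e⟩ := h2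
    have e' : d * a' * d⁻¹ = u * a * u⁻¹ := e
    have h3 : d⁻¹ * u * a * (d⁻¹ * u)⁻¹ = d⁻¹ * (u * a * u⁻¹) * d := by group
    rw [h3, ← e']
    have h4 : d⁻¹ * (d * a' * d⁻¹) * d = a' := by group
    rw [h4]; exact ha'
  have hduQ : d⁻¹ * u ∈ Q₁ := Q₁.mul_mem (Q₁.inv_mem (h.D1 hd)) hu
  have h2 : d⁻¹ * u = 1 := k.cQ1 hduQ fun a ha => (k.comm (h.Q1B hduQ) (h1 a ha) ha).symm
  have h3 : u = d := by rw [inv_mul_eq_one] at h2; exact h2.symm
  exact k.cQ2 (Q₂.mul_mem (h.D2 (h3 ▸ hd)) hv) hA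

end Cm

/-- **(A)** there is an involution in `S ∖ B`. -/
theorem exists_inv : ∃ x ∈ (S : Subgroup G), x ∉ B ∧ x * x = 1 := by
  obtain ⟨A, k⟩ := h.exists_Cm
  obtain ⟨n, hnS, hnB, hn⟩ := k.exists_n
  have hnn : n * n ∈ B := by
    have h1 := h.coset (x := n⁻¹) (inv_mem hnS) (fun h2 => hnB (by have := B.inv_mem h2; rwa [inv_inv] at this)) hnS hnB
    rwa [inv_inv] at h1
  refine ⟨n, hnS, hnB, k.cB hnn fun a ha => (k.comm hnn ?_ ha).symm⟩
  have h1 := hn _ (hn a ha)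
  have h2 : n * (n * a * n⁻¹) * n⁻¹ = n * n * a * (n * n)⁻¹ := by group
  rwa [h2] at h1

/-- **`G` has a nontrivial normal 2-subgroup.** -/
theorem exists_normal : ∃ R : Subgroup G, IsPGroup 2 R ∧ R ≠ ⊥ ∧ normalizer (R : Set G) = ⊤ := by
  obtain ⟨x, hxS, hxB, hxx⟩ := h.exists_inv
  obtain ⟨t, y, ht, -, -⟩ := h.exists_three
  set Z : Subgroup G := normalClosure {t} with hZ
  have hZn : Z ≤ normalizer (B : Set G) := by
    rw [hZ, normalClosure, closure_le]
    intro y hy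
    obtain ⟨a, ha, hay⟩ := Group.mem_conjugatesOfSet_iff.1 hy
    rw [Set.mem_singleton_iff] at ha
    subst ha
    obtain ⟨g, rfl⟩ := isConj_iff.1 hay
    exact h.conj_mem hxS hxB hxx ht g
  have htZ : t ∈ Z := subset_normalClosure rfl
  have hle : Z ⊓ B ≤ o2 Z := by
    refine ChoiceSit.le_o2 ((h.two.to_le h.BS).to_le inf_le_right) inf_le_left ?_
    intro z hz
    refine mem_normalizer_of fun y hy => ⟨Z.mul_mem (Z.mul_mem hz hy.1) (Z.inv_mem hz), ?_⟩
    exact (mem_normalizer_iff.1 (hZn hz) y).1 hy.2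
  refine ⟨o2 Z, ChoiceSit.isPGroup_o2 _, fun hb => ?_, ?_⟩
  · have h1 : t ∈ o2 Z := hle ⟨htZ, h.DB ht.1⟩
    rw [hb, mem_bot] at h1
    exact h.good_ne ht h1
  · have h1 : normalizer (Z : Set G) = ⊤ := normalizer_eq_top_iff.2 inferInstance
    rw [eq_top_iff, ← h1]
    exact normalizer_le_of_cj (F := fun K => o2 K) pCore_cj Z

end TEnd

end Cfsg.Agent.H282.PU
end

-- part: H282/PU/Big
section
/-!
# S3090: one natural summand over a field of order at least 4
-/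

set_option autoImplicit false
set_option linter.unusedSectionVars false
set_option linter.unusedVariables false

namespace Cfsg.Agent.H282.PU

open Subgroup Cfsg Cfsg.Agent.PLocal.ThompsonJ Cfsg.Agent.ZN.ChoiceBase
open Cfsg.Agent.ZN (o2 zl zj jj bau zc)
open Cfsg.Agent.ZN.ChoiceSit
open Cfsg.Agent.Omega.NatPair Cfsg.Agent.Lib.SL2Mat
open Cfsg.Agent.Omega.SQ1.FFOne Cfsg.Agent.Omega.SQ1.VOf
open Cfsg.Agent.Omega.SQ1.MatchOne (Sit)
open Cfsg.Agent.Omega.SQ1.MatchL (LSit)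
open Cfsg.Agent.Omega.SQ1.MidOne (Mid)
open Cfsg.Agent.Omega.SQ1.End (Base Glob Blk)
open Cfsg.Agent.Omega.SQ1
open Cfsg.Agent.Omega.MinPar (IsLoc)
open Cfsg.Agent.Omega.FFThm
open Cfsg.Agent.Omega.SQ1.FFOf (off_of_AA cv_le cv_norm)
open scoped Pointwise

universe u

variable {G : Type u} [Group G] [Finite G]

/-- every member of `L(S)` normalises `B` -/
theorem nodeA (hc : IsCharacteristicTwoType G) (hr : ¬ SectionalPRankLE 2 4 G) {F : Type} [Field F] [Finite F]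
    [CharP F 2] {S : Sylow 2 G} {H T B Y Z C L : Subgroup G} {s : G} (M : Mid F H T B Y Z C L s)
    (hTS : T ≤ (S : Subgroup G)) (hs : s ∈ (S : Subgroup G))
    (hNS : ∀ x ∈ (S : Subgroup G), (∀ a ∈ Y, x * a * x⁻¹ ∈ Y) → x ∈ T) (hF : 4 ≤ Nat.card F) :
    ∀ X : Subgroup G, IsLoc (S : Subgroup G) X → X ≤ normalizer (B : Set G) := by
  intro X hX
  have h := M.base S.isPGroup' hTS hs hNS hF
  have hD : normalizer (Z : Set G) ≤ normalizer (B : Set G) := NodeA.normD_le hc h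
  obtain ⟨x, y, z, t, ω, htB, co₁⟩ := CoOf.exists_co M h hF
  have hmem : ∀ (A : Subgroup G) (u : G), u ∈ cj s A ↔ s⁻¹ * u * s ∈ A := fun A u => mem_cj
  have hY2 : ∀ u, u ∈ Y ↔ s⁻¹ * u * s ∈ cj s Y := by
    intro u
    constructor
    · exact fun hu => M.sY1' hu
    · intro hu
      have h1 := M.sY2 hu
      have e : s * (s⁻¹ * u * s) * s⁻¹ = u := by group
      rwa [e] at h1
  have hZ2 : ∀ u, u ∈ Z ↔ s⁻¹ * u * s ∈ Z := by
    intro u
    rw [← hmem, M.cjZ]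
  have co₂ := CoOf.co_conj s co₁ (hmem Y) hY2 hZ2 (hmem C)
  rcases Cfsg.Agent.Omega.FFOne.five (TyL.toBase h) co₁ co₂ h.C12 (CoOf.trivial_D M h) with ⟨hC1, hC2, ω', co⟩ | ⟨z', ω', co⟩
  · rcases Nat.lt_or_ge 4 (Nat.card F) with h4 | h4
    · exact NodeA.l_le h co hC1 h4 hc hD hX
    · exfalso
      apply hr
      have h5 : Nat.card F = 4 := le_antisymm h4 hF
      rw [h5] at h
      refine RankFourOf.rank_four_of_sylow h ?_
      have h6 := h.cardC1
      rwa [hC1, Subgroup.card_bot, mul_one] at h6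
  · exact NodeA.sp_le h co hc hD hX

/-- **The end of one natural summand, `q ≥ 4`, without simplicity.** -/
theorem exists_normal_of_mid (hc : IsCharacteristicTwoType G) (hr : ¬ SectionalPRankLE 2 4 G) {F : Type}
    [Field F] [Finite F] [CharP F 2] {S : Sylow 2 G} {H T B Y Z C L : Subgroup G} {s : G}
    (M : Mid F H T B Y Z C L s) (hTS : T ≤ (S : Subgroup G)) (hs : s ∈ (S : Subgroup G))
    (hNS : ∀ x ∈ (S : Subgroup G), (∀ a ∈ Y, x * a * x⁻¹ ∈ Y) → x ∈ T) (hF : 4 ≤ Nat.card F) :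
    ∃ R : Subgroup G, IsPGroup 2 R ∧ R ≠ ⊥ ∧ normalizer (R : Set G) = ⊤ := by
  have h := M.base S.isPGroup' hTS hs hNS hF
  have g := EndOneOf.glob M hc hTS hs hNS hF (nodeA hc hr M hTS hs hNS hF)
  obtain ⟨K, k⟩ := M.lk
  have b := M.blk
  have go1 := h.go1_of g k M.faith
  have hcent := h.cent g (h.tor_of k M.faith) go1
  have hTB : T ≤ B := End3.T_le_B_of g.c2t h (h.freeD g k M.faith) b (b.conj h) hcent
  have fus1 : ∀ x ∈ Y, ∃ l : G, l * x * l⁻¹ ∈ Z := fun x hx => by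
    obtain ⟨l, -, hl⟩ := k.fus x hx
    exact ⟨l, hl⟩
  have fus2 : ∀ x ∈ cj s Y, ∃ l : G, l * x * l⁻¹ ∈ Z := fun x hx => by
    obtain ⟨l, hl⟩ := fus1 _ (h.s2 x hx)
    refine ⟨l * s, ?_⟩
    have h1 : l * (s * x * s⁻¹) * l⁻¹ = l * s * x * (l * s)⁻¹ := by group
    rwa [h1] at hl
  have ht : TEnd S T B Y (cj s Y) Z C (cj s C) s (Nat.card F) :=
    { h with
      leB := hTB
      c2t := hc
      go1 := go1
      cent := hcent
      fus1 := fus1
      fus2 := fus2 }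
  exact ht.exists_normal

namespace Conf

variable {K M Q T : Subgroup G} {s : G} {S : Sylow 2 G} (c : Conf K M Q T s S)

include c

/-- **One natural summand, `q ≥ 4`.** -/
theorem big {F : Type} [Field F] [Finite F] [CharP F 2] (hF : 4 ≤ Nat.card F)
    (N : NatK F T (K ⊔ T) (zl T (K ⊔ T)) (Cfsg.Agent.Omega.FrameFF.cv T (K ⊔ T)) 1) :
    SectionalPRankLE 2 4 G := by
  by_contra hr
  have h := c.lsit (ffOf c.cf.minH c.cf.nle N cv_le cv_norm)
  have hNS := c.memT h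
  have mid := h.mid hF
  obtain ⟨R, hR2, hR1, hRn⟩ := exists_normal_of_mid c.c2 hr mid c.TS c.sS hNS hF
  apply c.sM
  refine c.norm_le hR2 hR1 ?_ ?_
  · rw [hRn]; exact le_top
  · rw [hRn]; trivial

end Conf

end Cfsg.Agent.H282.PU
end

-- part: H282/PU/Reps
section
/-!
# S3090: the structure of `K / O₂(K)` from the FF theorem, `T` is a Sylow 2-subgroup of `M`
-/

set_option autoImplicit false
set_option linter.unusedSectionVars false
set_option linter.unusedVariables false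

namespace Cfsg.Agent.H282.PU

open Subgroup Cfsg Cfsg.Agent.PLocal.ThompsonJ Cfsg.Agent.ZN.ChoiceBase
open Cfsg.Agent.ZN (o2 zl zj jj bau zc)
open Cfsg.Agent.ZN.ChoiceSit
open Cfsg.Agent.Omega.NatPair Cfsg.Agent.Lib.SL2Mat
open Cfsg.Agent.Omega.SQ1.FFOne Cfsg.Agent.Omega.SQ1.VOf
open Cfsg.Agent.Omega.FFThm
open Cfsg.Agent.Omega.FrameFF (cv)
open Cfsg.Agent.Omega.SQ1.FFOf (off_of_AA cv_le cv_norm)
open Cfsg.Agent.MinSimple.VModule (oddGen mem_oddGen oddGen_le le_normalizer_oddGen)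
open scoped Pointwise

universe u v

variable {G : Type u} [Group G] [Finite G]

namespace Ctx

variable {K M Q T : Subgroup G} (c : Ctx K M Q T)

/-- conjugation by an element of `M` on `K` -/
def conjK (x : M) : ↥K ≃* ↥K where
  toFun k := ⟨x * k * (x : G)⁻¹, c.MK x.2 k.2⟩
  invFun k := ⟨(x : G)⁻¹ * k * x, by have := c.MK (M.inv_mem x.2) k.2; rwa [inv_inv] at this⟩
  left_inv k := Subtype.ext (by show (x : G)⁻¹ * (x * k * (x : G)⁻¹) * x = k; group)
  right_inv k := Subtype.ext (by show (x : G) * ((x : G)⁻¹ * k * x) * (x : G)⁻¹ = k; group)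
  map_mul' k l := Subtype.ext (by
    show (x : G) * (k * l) * (x : G)⁻¹ = x * k * (x : G)⁻¹ * (x * l * (x : G)⁻¹); group)

theorem conjK_map (x : M) : (pCore 2 ↥K).map ((c.conjK x : ↥K ≃* ↥K) : ↥K →* ↥K) = pCore 2 ↥K := by
  ext k
  constructor
  · rintro ⟨l, hl, rfl⟩
    have h1 := (c.mem_pCore l.2).1 hl
    exact (c.mem_pCore ((c.conjK x) l).2).2 (c.MO x.2 h1)
  · intro hk
    have h1 := (c.mem_pCore k.2).1 hk
    have h2 := c.MO (M.inv_mem x.2) h1
    rw [inv_inv] at h2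
    refine ⟨(c.conjK x).symm k, (c.mem_pCore ((c.conjK x).symm k).2).2 h2, ?_⟩
    exact (c.conjK x).apply_symm_apply k

/-- the action of `M` on `K / O₂(K)` -/
noncomputable def act : M →* MulAut (↥K ⧸ pCore 2 ↥K) :=
  MonoidHom.mk' (fun x => QuotientGroup.congr _ _ (c.conjK x) (c.conjK_map x)) (by
    intro x y
    ext k
    obtain ⟨k, rfl⟩ := QuotientGroup.mk_surjective k
    rw [MulAut.mul_apply]
    rw [QuotientGroup.congr_mk, QuotientGroup.congr_mk, QuotientGroup.congr_mk]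
    apply congrArg
    apply Subtype.ext
    show ((x * y : M) : G) * k * ((x * y : M) : G)⁻¹ = x * (y * k * (y : G)⁻¹) * (x : G)⁻¹
    rw [Subgroup.coe_mul]
    group)

theorem mem_Cc_of_act {x : M} (h : c.act x = 1) : (x : G) ∈ c.Cc := by
  refine ⟨x.2, fun k hk => ?_⟩
  have h1 : c.act x (QuotientGroup.mk ⟨k, hk⟩) = QuotientGroup.mk ⟨k, hk⟩ := by rw [h]; rfl
  have h2 : (QuotientGroup.mk (c.conjK x ⟨k, hk⟩) : ↥K ⧸ pCore 2 ↥K) = QuotientGroup.mk ⟨k, hk⟩ := h1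
  have h3 := QuotientGroup.eq.1 h2.symm
  have h4 := (c.mem_pCore ((⟨k, hk⟩ : K)⁻¹ * c.conjK x ⟨k, hk⟩).2).1 h3
  have h5 : k * (k⁻¹ * (x * k * (x : G)⁻¹)) * k⁻¹ ∈ o2 K := conj_mem_of_norm (le_normalizer_o2 K hk) h4
  have e : k * (k⁻¹ * (x * k * (x : G)⁻¹)) * k⁻¹ = x * k * (x : G)⁻¹ * k⁻¹ := by group
  rwa [e] at h5

include c in
theorem relIndex_dvd {P : Subgroup G} (hP : IsPGroup 2 P) (hQP : Q ≤ P) (hPM : P ≤ M) :
    Q.relIndex P ∣ Nat.card (MulAut (↥K ⧸ pCore 2 ↥K)) := by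
  have h1 : (c.act.comp (inclusion hPM)).ker = Q.subgroupOf P := by
    ext x
    rw [MonoidHom.mem_ker, mem_subgroupOf]
    constructor
    · intro h
      have h2 := c.mem_Cc_of_act (x := inclusion hPM x) h
      rw [← c.inf_Cc hP hQP]
      exact ⟨x.2, h2⟩
    · intro h
      have h2 := c.Q_le_Cc h
      ext k
      obtain ⟨k, rfl⟩ := QuotientGroup.mk_surjective k
      show (QuotientGroup.mk (c.conjK (inclusion hPM x) k) : ↥K ⧸ pCore 2 ↥K) = QuotientGroup.mk k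
      rw [eq_comm, QuotientGroup.eq]
      refine (c.mem_pCore (k⁻¹ * c.conjK (inclusion hPM x) k).2).2 ?_
      have h3 := h2.2 k k.2
      have h4 : (k : G)⁻¹ * (x * k * (x : G)⁻¹ * (k : G)⁻¹) * (k : G)⁻¹⁻¹ ∈ o2 K :=
        conj_mem_of_norm (le_normalizer_o2 K (K.inv_mem k.2)) h3
      have e : (k : G)⁻¹ * (x * k * (x : G)⁻¹ * (k : G)⁻¹) * (k : G)⁻¹⁻¹ = (k : G)⁻¹ * (x * k * (x : G)⁻¹) := by
        group
      rwa [e] at h4
  have h2 : Q.relIndex P = Nat.card (c.act.comp (inclusion hPM)).range := by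
    rw [relIndex, ← h1, Subgroup.index_ker]
  rw [h2]
  exact Subgroup.card_subgroup_dvd_card _

include c in
/-- `T` is a Sylow 2-subgroup of `M`, by counting -/
theorem syl_M {n : ℕ} (h1 : ∀ P : Subgroup G, IsPGroup 2 P → Q ≤ P → P ≤ M → Q.relIndex P ≤ n)
    (h2 : n ≤ Q.relIndex T) : Syl T M := by
  refine ⟨c.TM, c.two, fun P hPM hP hTP => ?_⟩
  have h3 := h1 P hP (c.QT.trans hTP) hPM
  have h4 := Subgroup.relIndex_mul_relIndex Q T P c.QT hTP
  have h5 : 0 < Q.relIndex T := Nat.pos_of_ne_zero Subgroup.FiniteIndex.index_ne_zero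
  have h6 : 0 < T.relIndex P := Nat.pos_of_ne_zero Subgroup.FiniteIndex.index_ne_zero
  have h7 : T.relIndex P = 1 := by
    by_contra hne
    have h8 : 2 ≤ T.relIndex P := by omega
    have h9 : Q.relIndex T * 2 ≤ Q.relIndex T * T.relIndex P := Nat.mul_le_mul_left _ h8
    omega
  exact le_antisymm (relIndex_eq_one.1 h7) hTP

end Ctx

namespace Conf

variable {K M Q T : Subgroup G} {s : G} {S : Sylow 2 G} (c : Conf K M Q T s S)

include c

theorem ne_Q : T ≠ Q := fun h => c.hn (c.norm_T_of_eq h)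

/-- an element of `K` acting trivially on the coordinates is in `O₂(K)` -/
theorem triv {E : Type*} [AddCommGroup E] (e : G → E)
    (mul : ∀ v ∈ zl T (K ⊔ T), ∀ w ∈ zl T (K ⊔ T), e (v * w) = e v + e w)
    (ker : ∀ v ∈ zl T (K ⊔ T), e v = 0 ↔ v ∈ cv T (K ⊔ T)) {x : G} (hx : x ∈ K)
    (h : ∀ v ∈ zl T (K ⊔ T), e (x * v * x⁻¹) = e v) : x ∈ o2 K := by
  apply c.toCtx.triv c.cf.cent_sup_ne c.cf.minH hx
  intro v hv
  have hv' : x * v * x⁻¹ ∈ zl T (K ⊔ T) := zl_norm x (mem_sup_left hx) v hv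
  have h1 : e 1 = 0 := by
    have := mul 1 (one_mem _) 1 (one_mem _)
    rw [mul_one] at this
    exact left_eq_add.1 this
  have h2 : e v⁻¹ = - e v := by
    have := mul v⁻¹ (inv_mem hv) v hv
    rw [inv_mul_cancel, h1] at this
    exact eq_neg_of_add_eq_zero_left this.symm
  rw [← ker _ (mul_mem (inv_mem hv) hv'), mul _ (inv_mem hv) _ hv', h2, h v hv]
  abel

theorem o2_cent {x : G} (hx : x ∈ o2 K) {v : G} (hv : v ∈ zl T (K ⊔ T)) : x * v * x⁻¹ = v := by
  have h1 : x ∈ o2 (K ⊔ T) := by rw [c.o2_eq]; exact c.OQ hx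
  rw [Cfsg.Agent.Omega.SQ1.VOf.MinH.o2_cent c.cf.minH x h1 v hv]
  group

theorem repN {F : Type} [Field F] [Finite F] [CharP F 2] {k : ℕ} (hk : 0 < k)
    (N : NatK F T (K ⊔ T) (zl T (K ⊔ T)) (cv T (K ⊔ T)) k) :
    Rep K M Q T k (Matrix.SpecialLinearGroup (Fin 2) F)
      (fun x A => ∀ v ∈ zl T (K ⊔ T), ∀ i, N.e (x * v * x⁻¹) i = ap (A i) (N.e v i)) where
  c := c.toCtx
  pos := hk
  one := by
    intro v hv i
    have e : 1 * v * 1⁻¹ = v := by group
    rw [e]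
    exact (ap_one _).symm
  mul := by
    intro x y A B hA hy hB v hv i
    have h1 : y * v * y⁻¹ ∈ zl T (K ⊔ T) := zl_norm y hy v hv
    have e : x * y * v * (x * y)⁻¹ = x * (y * v * y⁻¹) * x⁻¹ := by group
    rw [e, hA _ h1, hB v hv, Pi.mul_apply, ap_mul]
  inj := by
    intro x A B hA hB
    funext i
    apply ap_inj
    intro w
    obtain ⟨v, hv, e⟩ := N.surj fun _ => w
    have h1 := hA v hv i
    have h2 := hB v hv i
    rw [h1, e] at h2
    exact h2
  triv := by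
    intro x hx h
    apply c.triv N.e N.mul N.ker hx
    intro v hv
    funext i
    rw [h v hv i]
    exact ap_one _
  o2 := by
    intro x hx v hv i
    rw [c.o2_cent hx hv]
    exact (ap_one _).symm
  lift := by
    intro A
    obtain ⟨g, hg, h1, -⟩ := N.lift A
    exact ⟨g, hg, h1⟩
  conj := by
    intro g hg x hx A hA
    obtain ⟨B, hB⟩ := N.norm g (mem_sup_left hg) x (mem_sup_left hx) A hA
    exact ⟨B, hB⟩
  γ := by
    refine ⟨Cfsg.Agent.Lib.SL2Mat.mk 0 1 (-1) (-1) (by ring), ?_, ?_⟩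
    · intro h
      have h1 := congrArg (fun A => ent A 0 0) h
      simp only [mk_00, ent_one_00] at h1
      exact zero_ne_one h1
    · have h3 : (Cfsg.Agent.Lib.SL2Mat.mk 0 1 (-1) (-1) (by ring) : Matrix.SpecialLinearGroup (Fin 2) F) ^ 3 = 1 := by
        rw [pow_succ, pow_two]
        refine ext_ent ?_ ?_ ?_ ?_ <;> simp [ent_mul]
      have h4 := orderOf_dvd_of_pow_eq_one h3
      exact Odd.of_dvd_nat (by decide) h4

theorem repS {k m : ℕ} (hk : 0 < k) (hm : 1 ≤ m)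
    (N : SymK T (K ⊔ T) (zl T (K ⊔ T)) (cv T (K ⊔ T)) k m) :
    Rep K M Q T k (Equiv.Perm (Fin (2 ^ m + 1))) (fun x τ => ActsSym N.e (zl T (K ⊔ T)) x 1 τ) where
  c := c.toCtx
  pos := hk
  one := by
    intro v hv i y
    have e : 1 * v * 1⁻¹ = v := by group
    rw [e]; rfl
  mul := by
    intro x y A B hA hy hB v hv i z
    have h1 : y * v * y⁻¹ ∈ zl T (K ⊔ T) := zl_norm y hy v hv
    have e : x * y * v * (x * y)⁻¹ = x * (y * v * y⁻¹) * x⁻¹ := by group
    rw [e]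
    have h2 := hA _ h1 i (B i z)
    have h3 := hB v hv i z
    rw [← h3]
    exact h2
  inj := by
    intro x A B hA hB
    exact Cfsg.Agent.Omega.SQ1.FFTwo.ActsSym.inj (S := N) hm hA hB
  triv := by
    intro x hx h
    apply c.triv N.e N.mul N.ker hx
    intro v hv
    funext i y
    exact h v hv i y
  o2 := by
    intro x hx v hv i y
    rw [c.o2_cent hx hv]; rfl
  lift := by
    intro A
    obtain ⟨g, hg, h1, -⟩ := N.lift A
    exact ⟨g, hg, h1⟩
  conj := by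
    intro g hg x hx A hA
    obtain ⟨σ, ρ, hρ⟩ := N.perm g (mem_sup_left hg)
    refine ⟨fun j => ρ (σ.symm j) * A (σ.symm j) * (ρ (σ.symm j))⁻¹, fun v hv j z => ?_⟩
    obtain ⟨i, rfl⟩ : ∃ i, j = σ i := ⟨σ.symm j, (σ.apply_symm_apply j).symm⟩
    have hv' : g⁻¹ * v * g ∈ zl T (K ⊔ T) := by
      have := zl_norm (T := T) g⁻¹ (inv_mem (mem_sup_left hg : g ∈ K ⊔ T)) v hv
      rwa [inv_inv] at this
    have hxv : x * (g⁻¹ * v * g) * x⁻¹ ∈ zl T (K ⊔ T) := zl_norm x (mem_sup_left hx) _ hv'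
    have e : g * x * g⁻¹ * v * (g * x * g⁻¹)⁻¹ = g * (x * (g⁻¹ * v * g) * x⁻¹) * g⁻¹ := by group
    rw [e]
    simp only [Equiv.symm_apply_apply]
    obtain ⟨w, rfl⟩ : ∃ w, z = ρ i w := ⟨(ρ i).symm z, ((ρ i).apply_symm_apply z).symm⟩
    have h1 := hρ _ hxv i (A i w)
    have h2 := hA _ hv' i w
    have h3 := hρ _ hv' i w
    have e2 : g * (g⁻¹ * v * g) * g⁻¹ = v := by group
    rw [e2] at h3
    have h4 : (ρ i)⁻¹ (ρ i w) = w := (ρ i).symm_apply_apply w
    rw [Equiv.Perm.mul_apply, Equiv.Perm.mul_apply, h4]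
    rw [h3, ← h2]
    exact h1
  γ := by
    have h3 : 3 ≤ Fintype.card (Fin (2 ^ m + 1)) := by
      rw [Fintype.card_fin]
      have : 2 ^ 1 ≤ 2 ^ m := Nat.pow_le_pow_right (by norm_num) hm
      omega
    obtain ⟨a, b, d, hab, had, hbd⟩ : ∃ a b d : Fin (2 ^ m + 1), a ≠ b ∧ a ≠ d ∧ b ≠ d := by
      rw [← Fintype.two_lt_card_iff]; omega
    have h4 := Equiv.Perm.isThreeCycle_swap_mul_swap_same hab had hbd
    refine ⟨Equiv.swap a b * Equiv.swap a d, ?_, ?_⟩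
    · intro h
      have h5 := h4.orderOf
      rw [h, orderOf_one] at h5
      omega
    · rw [h4.orderOf]; decide

end Conf

end Cfsg.Agent.H282.PU
end

-- part: H282/PU/Last
section
/-!
# S3090: the end
-/

set_option autoImplicit false
set_option linter.unusedSectionVars false
set_option linter.unusedVariables false

namespace Cfsg.Agent.H282.PU

open Subgroup Cfsg Cfsg.Agent.PLocal.ThompsonJ Cfsg.Agent.ZN.ChoiceBase
open Cfsg.Agent.ZN (o2 zl zj jj bau zc)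
open Cfsg.Agent.ZN.ChoiceSit
open Cfsg.Agent.Omega.NatPair Cfsg.Agent.Lib.SL2Mat
open Cfsg.Agent.Omega.SQ1.FFOne Cfsg.Agent.Omega.SQ1.VOf
open Cfsg.Agent.Omega.FFThm
open Cfsg.Agent.Omega.FrameFF (cv)
open Cfsg.Agent.Omega.SQ1.FFOf (off_of_AA cv_le cv_norm)
open scoped Pointwise

universe u v

variable {G : Type u} [Group G] [Finite G]

/-- a good group of order dividing 6 has order 3 -/
theorem Good.card_three {X : Type u} [Group X] (g : Good X) (h6 : Nat.card X ∣ 6) : Nat.card X = 3 := by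
  rcases g.dich with h3 | ⟨h2, a, b, hab⟩
  · exact h3
  exfalso
  have hs := g.simple
  have hpos : 0 < Nat.card X := Nat.pos_of_dvd_of_pos h6 (by norm_num)
  have hf : Finite X := Nat.finite_of_card_ne_zero hpos.ne'
  have hle : Nat.card X ≤ 6 := Nat.le_of_dvd (by norm_num) h6
  have h26 : Nat.card X = 2 ∨ Nat.card X = 6 := by
    interval_cases h : Nat.card X <;> omega
  rcases h26 with h | h
  · have hp : Fact (Nat.Prime 2) := ⟨Nat.prime_two⟩
    have hc : IsCyclic X := isCyclic_of_prime_card h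
    exact hab (IsCyclic.commGroup.mul_comm a b)
  · have hp : Fact (Nat.Prime 3) := ⟨Nat.prime_three⟩
    obtain ⟨y, hy⟩ := exists_prime_orderOf_dvd_card' (G := X) 3 (by rw [h]; norm_num)
    have h3 : Nat.card (zpowers y) = 3 := by rw [Nat.card_zpowers, hy]
    have h2 : (zpowers y).index = 2 := by
      have := (zpowers y).card_mul_index
      rw [h3, h] at this
      omega
    have hn : (zpowers y).Normal := Subgroup.normal_of_index_eq_two h2
    rcases hn.eq_bot_or_eq_top with h1 | h1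
    · rw [h1, Subgroup.card_bot] at h3
      omega
    · rw [h1, index_top] at h2
      omega

namespace Conf

variable {K M Q T : Subgroup G} {s : G} {S : Sylow 2 G} (c : Conf K M Q T s S)

include c

theorem two_le : 2 ≤ Q.relIndex T := by
  have h1 : Q.relIndex T ≠ 0 := Subgroup.FiniteIndex.index_ne_zero
  have h2 : Q.relIndex T ≠ 1 := fun h => c.ne_Q (le_antisymm (relIndex_eq_one.1 h) c.QT)
  omega

/-- **Sums of natural modules.** -/
theorem nat_end {F : Type} [Field F] [Finite F] [CharP F 2] {k : ℕ} (hk : 0 < k)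
    (N : NatK F T (K ⊔ T) (zl T (K ⊔ T)) (cv T (K ⊔ T)) k) : SectionalPRankLE 2 4 G := by
  have r := c.repN hk N
  have hk1 := r.eq_one
  subst hk1
  rcases Nat.lt_or_ge (Nat.card F) 4 with h4 | h4
  swap
  · exact c.big h4 N
  classical
  let _ : Fintype F := Fintype.ofFinite F
  have h2 : Nat.card F = 2 := by
    obtain ⟨n, -, hn⟩ := FiniteField.card F 2
    rw [Nat.card_eq_fintype_card] at h4 ⊢
    rw [hn] at h4 ⊢
    have h5 : (n : ℕ) < 2 := by
      by_contra h5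
      push Not at h5
      have : 2 ^ 2 ≤ 2 ^ (n : ℕ) := Nat.pow_le_pow_right (by norm_num) h5
      omega
    have h6 : (n : ℕ) = 1 := by
      have := n.pos
      omega
    rw [h6, pow_one]
  obtain ⟨f, hker, -, -⟩ := r.exists_hom
  have h6 : Nat.card (↥K ⧸ pCore 2 ↥K) ∣ 6 := by
    have h7 : Nat.card (↥K ⧸ pCore 2 ↥K) = Nat.card f.range := by
      rw [← hker]
      exact Nat.card_congr (QuotientGroup.quotientKerEquivRange f).toEquiv
    have h8 : Nat.card (Matrix.SpecialLinearGroup (Fin 2) F) = 6 := by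
      rw [Cfsg.Agent.ClassicalGeometry.PSL2Basic.card_SL2, ← Nat.card_eq_fintype_card, h2]
      norm_num
    rw [h7, ← h8]
    exact Subgroup.card_subgroup_dvd_card _
  have h3 := c.good.card_three h6
  have hAut : Nat.card (MulAut (↥K ⧸ pCore 2 ↥K)) = 2 := by
    have hp : Fact (Nat.Prime 3) := ⟨Nat.prime_three⟩
    have hc : IsCyclic (↥K ⧸ pCore 2 ↥K) := isCyclic_of_prime_card h3
    rw [IsCyclic.card_mulAut, h3]
    decide
  have hS : Syl T M := c.toCtx.syl_M (n := 2) (fun P hP hQP hPM => by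
    have := c.toCtx.relIndex_dvd hP hQP hPM
    rw [hAut] at this
    exact Nat.le_of_dvd two_pos this) c.two_le
  exact c.two_end hS one_pos le_rfl
    (Cfsg.Agent.Omega.SQ1.SymOfNat.symOf N h2 (fun h hh v hv => zl_norm h hh v hv) le_sup_right)

/-- the point set has at most 5 elements -/
theorem m_le {m : ℕ} (hm : 2 ≤ m) {f : K →* Equiv.Perm (Fin (2 ^ m + 1))} (hker : f.ker = pCore 2 ↥K)
    (hodd : ∀ γ, Odd (orderOf γ) → ∃ x, f x = γ) : m = 2 := by
  by_contra hne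
  have hm3 : 3 ≤ m := by omega
  have h7 : 7 ≤ 2 ^ m + 1 := by
    have : 2 ^ 3 ≤ 2 ^ m := Nat.pow_le_pow_right (by norm_num) hm3
    omega
  let φ : Equiv.Perm (Fin 7) →* Equiv.Perm (Fin (2 ^ m + 1)) := Equiv.Perm.viaEmbeddingHom (Fin.castLEEmb h7)
  have hφ : Function.Injective φ := Equiv.Perm.viaEmbeddingHom_injective _
  have h3 : ∀ σ : Equiv.Perm (Fin 7), σ ^ 3 = 1 → ∃ x, f x = φ σ := by
    intro σ hσ
    apply hodd
    have h4 : φ σ ^ 3 = 1 := by rw [← map_pow, hσ, map_one]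
    exact Odd.of_dvd_nat (by decide) (orderOf_dvd_of_pow_eq_one h4)
  obtain ⟨x₁, hx₁⟩ := h3 (Equiv.swap 0 1 * Equiv.swap 1 2) (by decide)
  obtain ⟨x₂, hx₂⟩ := h3 ((Equiv.swap 0 1 * Equiv.swap 1 2)⁻¹ * (Equiv.swap 0 1 * Equiv.swap 2 3)) (by decide)
  obtain ⟨x₃, hx₃⟩ := h3 (Equiv.swap 4 5 * Equiv.swap 5 6) (by decide)
  have h12 : f (x₁ * x₂) = φ (Equiv.swap 0 1 * Equiv.swap 2 3) := by
    rw [map_mul, hx₁, hx₂, ← map_mul, mul_inv_cancel_left]
  have hmk : ∀ x : K, (QuotientGroup.mk x : ↥K ⧸ pCore 2 ↥K) = 1 ↔ f x = 1 := by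
    intro x
    rw [QuotientGroup.eq_one_iff, ← hker, MonoidHom.mem_ker]
  have h1 := c.good.inv (QuotientGroup.mk (x₁ * x₂)) (QuotientGroup.mk x₃) ?_ ?_ ?_
  · rw [← QuotientGroup.mk_mul, hmk, map_mul, hx₃, ← map_mul, ← map_one φ] at h1
    have h2 := hφ h1
    revert h2
    decide
  · rw [← QuotientGroup.mk_mul, hmk, map_mul, h12, ← map_mul, ← map_one φ]
    apply congrArg
    decide
  · intro h
    rw [hmk, h12, ← map_one φ] at h
    have h2 := hφ h
    revert h2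
    decide
  · have h2 : f (x₁ * x₂ * x₃) = f (x₃ * (x₁ * x₂)) := by
      rw [map_mul f (x₁ * x₂) x₃, map_mul f x₃ (x₁ * x₂), h12, hx₃, ← map_mul, ← map_mul]
      apply congrArg
      decide
    rw [← QuotientGroup.mk_mul, ← QuotientGroup.mk_mul, QuotientGroup.eq, ← hker, MonoidHom.mem_ker, map_mul,
      map_inv, h2, inv_mul_cancel]

/-- **The symmetric case.** -/
theorem sym_end {k m : ℕ} (hk : 0 < k) (hm : 2 ≤ m)
    (N : SymK T (K ⊔ T) (zl T (K ⊔ T)) (cv T (K ⊔ T)) k m) : SectionalPRankLE 2 4 G := by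
  have r := c.repS hk (by omega) N
  have hk1 := r.eq_one
  subst hk1
  obtain ⟨f, hker, hf, hodd⟩ := r.exists_hom
  obtain rfl := c.m_le hm hker hodd
  -- the range contains the alternating group
  have hle : alternatingGroup (Fin (2 ^ 2 + 1)) ≤ f.range := by
    rw [← Equiv.Perm.closure_three_cycles_eq_alternating, closure_le]
    intro σ hσ
    have h1 : σ.IsThreeCycle := hσ
    exact hodd σ (by rw [h1.orderOf]; decide)
  obtain ⟨γ, hγ1, hγ⟩ : ∃ γ : Equiv.Perm (Fin (2 ^ 2 + 1)), γ.IsThreeCycle ∧ γ ≠ 1 :=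
    ⟨Equiv.swap 0 1 * Equiv.swap 0 2, Equiv.Perm.isThreeCycle_swap_mul_swap_same (by decide) (by decide)
      (by decide), by decide⟩
  obtain ⟨x₀, hx₀⟩ := hodd γ (by rw [hγ1.orderOf]; decide)
  have hge : f.range ≤ alternatingGroup (Fin (2 ^ 2 + 1)) := by
    have h1 := r.cover (fun A => Equiv.Perm.sign (A 0) = 1) (by simp)
      (fun A B hA hB => by rw [Pi.mul_apply, map_mul, hA, hB, one_mul])
      (fun A hA => by rw [Pi.inv_apply, map_inv, hA, inv_one])
      (fun x hx g hg A hA hxA => by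
        obtain ⟨B, hB⟩ := r.all g hg
        refine ⟨_, ?_, r.conj' hg hx hxA hB⟩
        rw [Pi.mul_apply, Pi.mul_apply, Pi.inv_apply, map_mul, map_mul, hA, mul_one, ← map_mul,
          mul_inv_cancel, map_one])
      x₀.2 (hf x₀) (by
        show Equiv.Perm.sign (f x₀) = 1
        rw [hx₀]
        exact hγ1.sign) (by
        intro h
        apply hγ
        have h2 := congrFun h 0
        rw [← hx₀]
        exact h2)
    rintro _ ⟨x, rfl⟩
    obtain ⟨A, hA, hxA⟩ := h1 x x.2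
    have h2 := r.inj _ _ _ hxA (hf x)
    rw [h2] at hA
    exact Equiv.Perm.mem_alternatingGroup.2 hA
  have hrange : f.range = alternatingGroup (Fin (2 ^ 2 + 1)) := le_antisymm hge hle
  let e : ↥K ⧸ pCore 2 ↥K ≃* alternatingGroup (Fin 5) :=
    (QuotientGroup.quotientMulEquivOfEq hker.symm).trans
      ((QuotientGroup.quotientKerEquivRange f).trans (MulEquiv.subgroupCongr hrange))
  have hAut : Nat.card (MulAut (↥K ⧸ pCore 2 ↥K)) ∣ 120 := by
    obtain ⟨ψ, hψ⟩ := Cfsg.Agent.UGT.A7.Dg.exists_autHom5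
    have hinj : Function.Injective ψ := by
      rw [injective_iff_map_eq_one]
      intro g hg
      ext x : 1
      apply Subtype.ext
      rw [hψ, hg]
      simp
    have h1 : Nat.card (MulAut (↥K ⧸ pCore 2 ↥K)) = Nat.card (MulAut (alternatingGroup (Fin 5))) :=
      Nat.card_congr (MulAut.congr e).toEquiv
    have h2 : Nat.card (Equiv.Perm (Fin 5)) = 120 := by
      rw [Nat.card_perm, Nat.card_eq_fintype_card, Fintype.card_fin]; rfl
    rw [h1, ← h2]
    exact Subgroup.card_dvd_of_injective ψ hinj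
  -- `|T : Q| ≥ 8`
  have hT : 8 ≤ Q.relIndex T := by
    have hp : Fact (Nat.Prime 2) := ⟨Nat.prime_two⟩
    have hall : ∀ x : (K ⊔ T : Subgroup G), ∃ τ : Equiv.Perm (Fin (2 ^ 2 + 1)),
        ActsSym N.e (zl T (K ⊔ T)) (x : G) 1 (fun _ => τ) := by
      intro x
      obtain ⟨σ, τ, h⟩ := N.perm x x.2
      refine ⟨τ 0, ?_⟩
      have h1 : σ = 1 := Subsingleton.elim _ _
      have h2 : τ = fun _ => τ 0 := by funext i; rw [Subsingleton.elim i 0]
      rw [h1, h2] at h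
      exact h
    choose τ hτ using hall
    have huniq : ∀ (x : (K ⊔ T : Subgroup G)) (ρ : Fin 1 → Equiv.Perm (Fin (2 ^ 2 + 1))),
        ActsSym N.e (zl T (K ⊔ T)) (x : G) 1 ρ → τ x = ρ 0 := by
      intro x ρ h
      exact congrFun (r.inj _ _ _ (hτ x) h) 0
    let F' : (K ⊔ T : Subgroup G) →* Equiv.Perm (Fin (2 ^ 2 + 1)) := MonoidHom.mk' τ (by
      intro x y
      exact huniq (x * y) _ (r.mul _ _ _ _ (hτ x) y.2 (hτ y)))
    have hsurj : Function.Surjective F' := by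
      intro ρ
      obtain ⟨g, hg, h1⟩ := r.lift fun _ => ρ
      exact ⟨⟨g, hg⟩, huniq ⟨g, hg⟩ _ h1⟩
    obtain ⟨P, hP⟩ := syl_iff.1 c.cf.syl
    have h1 : Nat.card ((P : Subgroup ↥(K ⊔ T : Subgroup G)).map F') = 8 := by
      have h2 := (P.mapSurjective hsurj).card_eq_multiplicity
      have h3 : Nat.card (Equiv.Perm (Fin (2 ^ 2 + 1))) = 2 ^ 3 * 15 := by
        rw [Nat.card_perm, Nat.card_eq_fintype_card, Fintype.card_fin]; rfl
      have h4 : (Nat.card (Equiv.Perm (Fin (2 ^ 2 + 1)))).factorization 2 = 3 := by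
        rw [h3, Nat.factorization_mul (by norm_num) (by norm_num)]
        have h5 : Nat.factorization 15 2 = 0 := Nat.factorization_eq_zero_of_not_dvd (by norm_num)
        rw [Finsupp.add_apply, h5, Nat.factorization_pow, Finsupp.smul_apply,
          Nat.prime_two.factorization_self]
        rfl
      rw [h4] at h2
      exact h2
    rw [← Subgroup.relIndex_ker] at h1
    have h2 : Q.subgroupOf (K ⊔ T) ≤ F'.ker := by
      intro x hx
      rw [MonoidHom.mem_ker]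
      refine huniq x (fun _ => 1) ?_
      have h3 : (x : G) ∈ o2 (K ⊔ T) := by rw [c.o2_eq]; exact hx
      intro v hv i y
      rw [Cfsg.Agent.Omega.SQ1.VOf.MinH.o2_cent c.cf.minH x h3 v hv]
      have e2 : v * (x : G) * (x : G)⁻¹ = v := by group
      rw [e2]; rfl
    have h3 := Subgroup.relIndex_le_of_le_left (L := (P : Subgroup ↥(K ⊔ T : Subgroup G))) h2
      Subgroup.FiniteIndex.index_ne_zero
    rw [h1] at h3
    have h4 : (Q.subgroupOf (K ⊔ T)).relIndex (P : Subgroup ↥(K ⊔ T : Subgroup G)) = Q.relIndex T := by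
      rw [subgroupOf, Subgroup.relIndex_comap, hP]
    rwa [h4] at h3
  have hS : Syl T M := c.toCtx.syl_M (n := 8) (fun P hP hQP hPM => by
    have hp : Fact (Nat.Prime 2) := ⟨Nat.prime_two⟩
    have h1 := (c.toCtx.relIndex_dvd hP hQP hPM).trans hAut
    obtain ⟨n, hn⟩ := hP.index (Q.subgroupOf P)
    have h2 : Q.relIndex P = 2 ^ n := hn
    rw [h2] at h1 ⊢
    have h3 : n < 4 := by
      by_contra h3
      push Not at h3
      have h4 : (2 : ℕ) ^ 4 ∣ 2 ^ n := pow_dvd_pow 2 h3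
      have h5 := h4.trans h1
      revert h5
      norm_num
    calc 2 ^ n ≤ 2 ^ 3 := Nat.pow_le_pow_right (by norm_num) (by omega)
      _ = 8 := by norm_num) hT
  exact c.two_end hS one_pos (by omega) N

/-- **The configuration gives sectional 2-rank at most 4.** -/
theorem final : SectionalPRankLE 2 4 G := by
  rcases c.ff.2 with ⟨F, _, _, _, k, hk, ⟨N⟩⟩ | ⟨k, m, hk, hm2, ⟨N⟩⟩
  · exact c.nat_end hk N
  · exact c.sym_end hk hm2 N

end Conf

end Cfsg.Agent.H282.PU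
end

-- part: S3090
section
set_option autoImplicit false
open Cfsg

namespace Cfsg.Agent.S3090

/-- Let G be a finite group of characteristic 2 type, H a subgroup, K = O²(H) (the subgroup generated by the elements of H of odd order), M = N_G(K), and T a Sylow 2-subgroup of H. Assume: K/O₂(K) (that is, O²(H/O₂(H))) is cyclic of order 3 or isomorphic to L₂(2ⁿ) = SL(2, 2ⁿ) for some n ≥ 1; O₂(H) is a Sylow 2-subgroup of the centralizer in M of K/O₂(K) (every 2-subgroup of M containing O₂(H) and acting trivially on K/O₂(K) equals O₂(H)); and M is the unique maximal 2-local subgroup of G containing H. Then N_G(T) ≤ M, or G has sectional 2-rank at most 4. -/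
theorem result
    {G : Type*} [Group G] [Finite G] (hG : Cfsg.IsCharacteristicTwoType G)
    (H : Subgroup G) (T : Sylow 2 ↥H)
    (hstar : Nonempty (↥(Cfsg.oddGenerated H) ⧸ Cfsg.pCore 2 ↥(Cfsg.oddGenerated H) ≃* Multiplicative (ZMod 3)) ∨
      ∃ n : ℕ, 1 ≤ n ∧ Nonempty (↥(Cfsg.oddGenerated H) ⧸ Cfsg.pCore 2 ↥(Cfsg.oddGenerated H) ≃* Matrix.SpecialLinearGroup (Fin 2) (GaloisField 2 n)))
    (hsyl : ∀ S : Subgroup G, IsPGroup 2 ↥S → (Cfsg.pCore 2 ↥H).map H.subtype ≤ S →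
      S ≤ Subgroup.normalizer (Cfsg.oddGenerated H : Set G) →
      (∀ s ∈ S, ∀ k ∈ Cfsg.oddGenerated H, s * k * s⁻¹ * k⁻¹ ∈ (Cfsg.pCore 2 ↥(Cfsg.oddGenerated H)).map (Cfsg.oddGenerated H).subtype) →
      S = (Cfsg.pCore 2 ↥H).map H.subtype)
    (huniq : Cfsg.maxTwoLocalsContaining H = {Subgroup.normalizer (Cfsg.oddGenerated H : Set G)}) :
    Subgroup.normalizer (((T : Subgroup ↥H).map H.subtype : Subgroup G) : Set G) ≤ Subgroup.normalizer (Cfsg.oddGenerated H : Set G) ∨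
      Cfsg.SectionalPRankLE 2 4 G := by
  by_cases hn : Subgroup.normalizer (((T : Subgroup ↥H).map H.subtype : Subgroup G) : Set G) ≤
      Subgroup.normalizer (Cfsg.oddGenerated H : Set G)
  · exact Or.inl hn
  · right
    have hT : Cfsg.Agent.ZN.ChoiceSit.Syl ((T : Subgroup ↥H).map H.subtype) H :=
      Cfsg.Agent.ZN.ChoiceSit.syl_iff.2 ⟨T, rfl⟩
    have c := Cfsg.Agent.H282.PU.Ctx.of_hyp hG H _ hT hstar hsyl huniq
    obtain ⟨T', s, S, h⟩ := c.exists_conf hn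
    exact h.final

end Cfsg.Agent.S3090
end
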